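import Cfsg.Agent.Lib.Helper28.S1692.Defs

set_option autoImplicit false
set_option maxRecDepth 100000
set_option linter.all false

namespace Cfsg.Agent.Helper28.S1692

open Cfsg.Agent.Helper28
open Cfsg.Spor.ON (Gen)

noncomputable section

abbrev kf := Pt.mk
abbrev xf0 := D1.c0
abbrev xf1 := D1.c1
abbrev xf2 := D1.c2
abbrev xf3 := D1.c3
abbrev xf4 := D1.c4
abbrev xf5 := D1.c5
abbrev xf6 := D1.c6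
abbrev xf7 := D1.c7
abbrev xf8 := D1.c8
abbrev xf9 := D1.c9
abbrev xf10 := D1.c10
abbrev xf11 := D1.c11
abbrev xf12 := D1.c12
abbrev xf13 := D1.c13
abbrev xf14 := D1.c14
abbrev xf15 := D1.c15
abbrev xf16 := D1.c16
abbrev xf17 := D1.c17
abbrev xf18 := D1.c18
abbrev xf19 := D1.c19
abbrev xf20 := D1.c20
abbrev xf21 := D1.c21
abbrev xf22 := D1.c22
abbrev xf23 := D1.c23
abbrev xf24 := D1.c24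
abbrev xf25 := D1.c25
abbrev xf26 := D1.c26
abbrev xf27 := D1.c27
abbrev xf28 := D1.c28
abbrev xf29 := D1.c29
abbrev xf30 := D1.c30
abbrev xf31 := D1.c31
abbrev xf32 := D1.c32
abbrev yf0 := D2.c0
abbrev yf1 := D2.c1
abbrev yf2 := D2.c2
abbrev yf3 := D2.c3
abbrev yf4 := D2.c4
abbrev yf5 := D2.c5
abbrev yf6 := D2.c6
abbrev yf7 := D2.c7
abbrev yf8 := D2.c8
abbrev yf9 := D2.c9
abbrev yf10 := D2.c10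
abbrev yf11 := D2.c11
abbrev yf12 := D2.c12
abbrev yf13 := D2.c13
abbrev yf14 := D2.c14
abbrev yf15 := D2.c15
abbrev yf16 := D2.c16
abbrev yf17 := D2.c17
abbrev yf18 := D2.c18
abbrev yf19 := D2.c19
abbrev yf20 := D2.c20
abbrev yf21 := D2.c21
abbrev yf22 := D2.c22
abbrev yf23 := D2.c23
abbrev yf24 := D2.c24
abbrev yf25 := D2.c25
abbrev yf26 := D2.c26
abbrev yf27 := D2.c27
abbrev yf28 := D2.c28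
abbrev yf29 := D2.c29
abbrev yf30 := D2.c30
abbrev yf31 := D2.c31
abbrev yf32 := D2.c32
abbrev yf33 := D2.c33
abbrev yf34 := D2.c34
abbrev yf35 := D2.c35
abbrev yf36 := D2.c36
abbrev yf37 := D2.c37
abbrev yf38 := D2.c38
abbrev yf39 := D2.c39
abbrev yf40 := D2.c40
abbrev yf41 := D2.c41
abbrev yf42 := D2.c42
abbrev yf43 := D2.c43
abbrev yf44 := D2.c44
abbrev yf45 := D2.c45
abbrev yf46 := D2.c46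
abbrev yf47 := D2.c47
abbrev yf48 := D2.c48
abbrev yf49 := D2.c49
abbrev yf50 := D2.c50
abbrev yf51 := D2.c51
abbrev yf52 := D2.c52
abbrev yf53 := D2.c53
abbrev yf54 := D2.c54
abbrev yf55 := D2.c55
abbrev yf56 := D2.c56
abbrev yf57 := D2.c57
abbrev yf58 := D2.c58
abbrev yf59 := D2.c59
abbrev zf0 := D3.c0
abbrev zf1 := D3.c1
abbrev zf2 := D3.c2
abbrev zf3 := D3.c3
abbrev zf4 := D3.c4
abbrev zf5 := D3.c5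
abbrev zf6 := D3.c6
abbrev zf7 := D3.c7
abbrev zf8 := D3.c8
abbrev zf9 := D3.c9
abbrev zf10 := D3.c10
abbrev zf11 := D3.c11
abbrev zf12 := D3.c12
abbrev zf13 := D3.c13
abbrev zf14 := D3.c14
abbrev zf15 := D3.c15
abbrev zf16 := D3.c16
abbrev zf17 := D3.c17
abbrev zf18 := D3.c18
abbrev zf19 := D3.c19
abbrev zf20 := D3.c20
abbrev zf21 := D3.c21
abbrev zf22 := D3.c22
abbrev zf23 := D3.c23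
abbrev zf24 := D3.c24
abbrev zf25 := D3.c25
abbrev zf26 := D3.c26
abbrev zf27 := D3.c27
abbrev zf28 := D3.c28
abbrev zf29 := D3.c29
abbrev zf30 := D3.c30
abbrev zf31 := D3.c31
abbrev zf32 := D3.c32
abbrev zf33 := D3.c33
abbrev zf34 := D3.c34
abbrev zf35 := D3.c35
abbrev zf36 := D3.c36
abbrev zf37 := D3.c37
abbrev zf38 := D3.c38
abbrev zf39 := D3.c39
abbrev zf40 := D3.c40
abbrev zf41 := D3.c41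
abbrev zf42 := D3.c42
abbrev zf43 := D3.c43
abbrev zf44 := D3.c44
abbrev zf45 := D3.c45
abbrev zf46 := D3.c46
abbrev zf47 := D3.c47
abbrev zf48 := D3.c48
abbrev zf49 := D3.c49
abbrev zf50 := D3.c50
abbrev zf51 := D3.c51
abbrev zf52 := D3.c52
abbrev zf53 := D3.c53
abbrev zf54 := D3.c54
abbrev zf55 := D3.c55
abbrev zf56 := D3.c56
abbrev zf57 := D3.c57
abbrev zf58 := D3.c58
abbrev zf59 := D3.c59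
abbrev zf60 := D3.c60
abbrev zf61 := D3.c61
def f_f_0 : D2 → D3 → Pt := @D2.rec (fun _ => D3 → Pt) (@D3.rec (fun _ => Pt) (kf xf0 yf0 zf0) (kf xf0 yf0 zf1) (kf xf0 yf0 zf2) (kf xf0 yf0 zf3) (kf xf0 yf0 zf4) (kf xf0 yf0 zf21) (kf xf0 yf0 zf6) (kf xf0 yf0 zf7) (kf xf0 yf0 zf8) (kf xf0 yf0 zf9) (kf xf0 yf0 zf10) (kf xf0 yf0 zf39) (kf xf0 yf0 zf12) (kf xf0 yf0 zf13) (kf xf0 yf0 zf14) (kf xf0 yf0 zf50) (kf xf0 yf0 zf16) (kf xf0 yf0 zf54) (kf xf0 yf0 zf19) (kf xf0 yf0 zf18) (kf xf0 yf0 zf60) (kf xf0 yf0 zf5) (kf xf0 yf0 zf22) (kf xf0 yf0 zf23) (kf xf0 yf0 zf24) (kf xf0 yf0 zf25) (kf xf0 yf1 zf12) (kf xf0 yf0 zf27) (kf xf0 yf0 zf28) (kf xf0 yf0 zf29) (kf xf0 yf0 zf30) (kf xf0 yf1 zf25) (kf xf0 yf0 zf32) (kf xf0 yf0 zf33) (kf xf0 yf0 zf34) (kf xf0 yf1 zf37) (kf xf0 yf1 zf10)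 (kf xf0 yf1 zf9) (kf xf0 yf1 zf45) (kf xf0 yf0 zf11) (kf xf0 yf0 zf40) (kf xf0 yf0 zf41) (kf xf0 yf0 zf42) (kf xf0 yf0 zf43) (kf xf0 yf1 zf54) (kf xf0 yf0 zf45) (kf xf0 yf1 zf58) (kf xf0 yf0 zf48) (kf xf0 yf0 zf47) (kf xf0 yf2 zf3) (kf xf0 yf0 zf15) (kf xf0 yf0 zf52) (kf xf0 yf0 zf51) (kf xf0 yf2 zf5) (kf xf0 yf0 zf17) (kf xf0 yf0 zf56) (kf xf0 yf0 zf55) (kf xf0 yf0 zf58) (kf xf0 yf0 zf57) (kf xf0 yf2 zf17) (kf xf0 yf0 zf20) (kf xf0 yf0 zf61)) (@D3.rec (fun _ => Pt) (kf xf0 yf1 zf0) (kf xf0 yf1 zf1) (kf xf0 yf1 zf2) (kf xf0 yf1 zf3) (kf xf0 yf1 zf4) (kf xf0 yf1 zf5) (kf xf0 yf2 zf41) (kf xf0 yf1 zf7) (kf xf0 yf2 zf47) (kf xf0 yf0 zf37) (kf xf0 yf0 zf36) (kf xf0 yf2 zf55) (kf xf0 yf0 zf26) (kf xf0 yf1 zf13) (kf xf0 yf1 zf14) (kf xf0 yf1 zf15) (kf xf0 yf1 zf16) (kf xf0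 yf3 zf5) (kf xf0 yf1 zf18) (kf xf0 yf1 zf19) (kf xf0 yf1 zf20) (kf xf0 yf3 zf19) (kf xf0 yf2 zf39) (kf xf0 yf2 zf38) (kf xf0 yf3 zf27) (kf xf0 yf0 zf31) (kf xf0 yf1 zf26) (kf xf0 yf1 zf35) (kf xf0 yf1 zf28) (kf xf0 yf2 zf45) (kf xf0 yf1 zf30) (kf xf0 yf1 zf31) (kf xf0 yf1 zf32) (kf xf0 yf1 zf33) (kf xf0 yf3 zf41) (kf xf0 yf1 zf27) (kf xf0 yf3 zf44) (kf xf0 yf0 zf35) (kf xf0 yf2 zf50) (kf xf0 yf2 zf51) (kf xf0 yf2 zf48) (kf xf0 yf2 zf49) (kf xf0 yf2 zf53) (kf xf0 yf2 zf52) (kf xf0 yf4 zf0) (kf xf0 yf0 zf38) (kf xf0 yf1 zf46) (kf xf0 yf4 zf4) (kf xf0 yf1 zf48) (kf xf0 yf1 zf49) (kf xf0 yf4 zf9) (kf xf0 yf3 zf22) (kf xf0 yf1 zf59) (kf xf0 yf4 zf15) (kf xf0 yf0 zf44) (kf xf0 yf1 zf56) (kf xf0 yf1 zf55) (kf xf0 yf4 zf18) (kf xf0 yf0 zf46) (kf xf0 yf1 zf52) (kf xf0 yf1 zf61)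 (kf xf0 yf1 zf60)) (@D3.rec (fun _ => Pt) (kf xf0 yf2 zf1) (kf xf0 yf2 zf0) (kf xf0 yf4 zf28) (kf xf0 yf0 zf49) (kf xf0 yf4 zf32) (kf xf0 yf0 zf53) (kf xf0 yf2 zf8) (kf xf0 yf4 zf40) (kf xf0 yf2 zf6) (kf xf0 yf4 zf44) (kf xf0 yf2 zf11) (kf xf0 yf2 zf10) (kf xf0 yf2 zf12) (kf xf0 yf2 zf14) (kf xf0 yf2 zf13) (kf xf0 yf4 zf60) (kf xf0 yf5 zf3) (kf xf0 yf0 zf59) (kf xf0 yf4 zf33) (kf xf0 yf2 zf19) (kf xf0 yf2 zf20) (kf xf0 yf3 zf45) (kf xf0 yf2 zf22) (kf xf0 yf2 zf23) (kf xf0 yf2 zf24) (kf xf0 yf2 zf25) (kf xf0 yf2 zf26) (kf xf0 yf2 zf27) (kf xf0 yf2 zf28) (kf xf0 yf5 zf28) (kf xf0 yf2 zf30) (kf xf0 yf2 zf31) (kf xf0 yf2 zf32) (kf xf0 yf5 zf37) (kf xf0 yf2 zf34) (kf xf0 yf5 zf45) (kf xf0 yf2 zf36) (kf xf0 yf5 zf51) (kf xf0 yf1 zf23) (kf xf0 yf1 zf22) (kf xf0 yf5 zf58) (kf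 xf0 yf1 zf6) (kf xf0 yf2 zf42) (kf xf0 yf2 zf43) (kf xf0 yf6 zf3) (kf xf0 yf1 zf29) (kf xf0 yf3 zf48) (kf xf0 yf1 zf8) (kf xf0 yf1 zf40) (kf xf0 yf1 zf41) (kf xf0 yf1 zf38) (kf xf0 yf1 zf39) (kf xf0 yf1 zf43) (kf xf0 yf1 zf42) (kf xf0 yf6 zf20) (kf xf0 yf1 zf11) (kf xf0 yf2 zf56) (kf xf0 yf6 zf26) (kf xf0 yf2 zf58) (kf xf0 yf2 zf59) (kf xf0 yf2 zf60) (kf xf0 yf6 zf35)) (@D3.rec (fun _ => Pt) (kf xf0 yf3 zf0) (kf xf0 yf3 zf1) (kf xf0 yf3 zf2) (kf xf0 yf6 zf44) (kf xf0 yf6 zf48) (kf xf0 yf1 zf17) (kf xf0 yf3 zf6) (kf xf0 yf6 zf54) (kf xf0 yf3 zf8) (kf xf0 yf3 zf9) (kf xf0 yf6 zf61) (kf xf0 yf3 zf11) (kf xf0 yf3 zf12) (kf xf0 yf3 zf13) (kf xf0 yf3 zf14) (kf xf0 yf7 zf13) (kf xf0 yf5 zf49) (kf xf0 yf5 zf48) (kf xf0 yf7 zf24) (kf xf0 yf1 zf21) (kf xf0 yf5 zf54) (kf xf0 yf5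 zf52) (kf xf0 yf1 zf51) (kf xf0 yf5 zf53) (kf xf0 yf5 zf56) (kf xf0 yf5 zf55) (kf xf0 yf7 zf41) (kf xf0 yf1 zf24) (kf xf0 yf3 zf28) (kf xf0 yf3 zf29) (kf xf0 yf3 zf42) (kf xf0 yf3 zf31) (kf xf0 yf6 zf4) (kf xf0 yf3 zf39) (kf xf0 yf3 zf34) (kf xf0 yf6 zf1) (kf xf0 yf7 zf48) (kf xf0 yf3 zf37) (kf xf0 yf7 zf60) (kf xf0 yf3 zf33) (kf xf0 yf8 zf0) (kf xf0 yf1 zf34) (kf xf0 yf3 zf30) (kf xf0 yf8 zf7) (kf xf0 yf1 zf36) (kf xf0 yf2 zf21) (kf xf0 yf6 zf9) (kf xf0 yf6 zf10) (kf xf0 yf2 zf46) (kf xf0 yf6 zf11) (kf xf0 yf8 zf26) (kf xf0 yf5 zf42) (kf xf0 yf6 zf6) (kf xf0 yf6 zf7) (kf xf0 yf8 zf33) (kf xf0 yf6 zf14) (kf xf0 yf6 zf13) (kf xf0 yf3 zf57) (kf xf0 yf6 zf17) (kf xf0 yf6 zf16) (kf xf0 yf8 zf52) (kf xf0 yf8 zf57)) (@D3.rec (fun _ => Pt) (kf xf0 yf1 zf44) (kf xf0 yf8 zf8)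 (kf xf0 yf8 zf60) (kf xf0 yf9 zf0) (kf xf0 yf1 zf47) (kf xf0 yf4 zf7) (kf xf0 yf4 zf16) (kf xf0 yf4 zf5) (kf xf0 yf9 zf1) (kf xf0 yf1 zf50) (kf xf0 yf7 zf30) (kf xf0 yf4 zf19) (kf xf0 yf8 zf45) (kf xf0 yf4 zf24) (kf xf0 yf9 zf10) (kf xf0 yf1 zf53) (kf xf0 yf4 zf6) (kf xf0 yf4 zf34) (kf xf0 yf1 zf57) (kf xf0 yf4 zf11) (kf xf0 yf4 zf22) (kf xf0 yf9 zf20) (kf xf0 yf4 zf20) (kf xf0 yf9 zf23) (kf xf0 yf4 zf13) (kf xf0 yf4 zf25) (kf xf0 yf9 zf29) (kf xf0 yf5 zf1) (kf xf0 yf2 zf2) (kf xf0 yf9 zf14) (kf xf0 yf9 zf36) (kf xf0 yf9 zf39) (kf xf0 yf2 zf4) (kf xf0 yf2 zf18) (kf xf0 yf4 zf17) (kf xf0 yf4 zf41) (kf xf0 yf4 zf42) (kf xf0 yf9 zf52) (kf xf0 yf4 zf39) (kf xf0 yf4 zf38) (kf xf0 yf2 zf7) (kf xf0 yf4 zf35) (kf xf0 yf4 zf36) (kf xf0 yf10 zf1) (kf xf0 yf2 zf9) (kf xf0 yf4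 zf47) (kf xf0 yf4 zf48) (kf xf0 yf4 zf45) (kf xf0 yf4 zf46) (kf xf0 yf4 zf49) (kf xf0 yf4 zf50) (kf xf0 yf4 zf53) (kf xf0 yf4 zf54) (kf xf0 yf4 zf51) (kf xf0 yf4 zf52) (kf xf0 yf4 zf55) (kf xf0 yf10 zf32) (kf xf0 yf10 zf28) (kf xf0 yf10 zf27) (kf xf0 yf10 zf42) (kf xf0 yf2 zf15) (kf xf0 yf5 zf0)) (@D3.rec (fun _ => Pt) (kf xf0 yf4 zf61) (kf xf0 yf4 zf27) (kf xf0 yf10 zf52) (kf xf0 yf2 zf16) (kf xf0 yf9 zf40) (kf xf0 yf5 zf5) (kf xf0 yf8 zf9) (kf xf0 yf5 zf7) (kf xf0 yf11 zf3) (kf xf0 yf8 zf10) (kf xf0 yf5 zf10) (kf xf0 yf8 zf11) (kf xf0 yf5 zf12) (kf xf0 yf11 zf12) (kf xf0 yf5 zf14) (kf xf0 yf5 zf15) (kf xf0 yf5 zf16) (kf xf0 yf5 zf17) (kf xf0 yf11 zf25) (kf xf0 yf5 zf19) (kf xf0 yf5 zf20) (kf xf0 yf11 zf32) (kf xf0 yf5 zf22) (kf xf0 yf11 zf38) (kf xf0 yf5 zf24) (kf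 xf0 yf11 zf46) (kf xf0 yf5 zf36) (kf xf0 yf5 zf35) (kf xf0 yf2 zf29) (kf xf0 yf5 zf29) (kf xf0 yf5 zf30) (kf xf0 yf5 zf31) (kf xf0 yf11 zf61) (kf xf0 yf5 zf33) (kf xf0 yf12 zf7) (kf xf0 yf5 zf27) (kf xf0 yf5 zf26) (kf xf0 yf2 zf33) (kf xf0 yf5 zf38) (kf xf0 yf5 zf39) (kf xf0 yf5 zf40) (kf xf0 yf12 zf27) (kf xf0 yf3 zf51) (kf xf0 yf10 zf58) (kf xf0 yf12 zf33) (kf xf0 yf2 zf35) (kf xf0 yf5 zf46) (kf xf0 yf12 zf41) (kf xf0 yf3 zf17) (kf xf0 yf3 zf16) (kf xf0 yf12 zf52) (kf xf0 yf2 zf37) (kf xf0 yf3 zf21) (kf xf0 yf3 zf23) (kf xf0 yf3 zf20) (kf xf0 yf3 zf25) (kf xf0 yf3 zf24) (kf xf0 yf13 zf4) (kf xf0 yf2 zf40) (kf xf0 yf5 zf59) (kf xf0 yf5 zf60) (kf xf0 yf13 zf10)) (@D3.rec (fun _ => Pt) (kf xf0 yf13 zf14) (kf xf0 yf3 zf35) (kf xf0 yf7 zf25) (kf xf0 yf2 zf44) (kf xf0 yf3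 zf32) (kf xf0 yf8 zf17) (kf xf0 yf3 zf52) (kf xf0 yf3 zf53) (kf xf0 yf13 zf29) (kf xf0 yf3 zf46) (kf xf0 yf3 zf47) (kf xf0 yf3 zf49) (kf xf0 yf13 zf36) (kf xf0 yf3 zf56) (kf xf0 yf3 zf55) (kf xf0 yf6 zf15) (kf xf0 yf3 zf59) (kf xf0 yf3 zf58) (kf xf0 yf13 zf50) (kf xf0 yf13 zf55) (kf xf0 yf2 zf54) (kf xf0 yf8 zf18) (kf xf0 yf6 zf22) (kf xf0 yf13 zf61) (kf xf0 yf6 zf34) (kf xf0 yf6 zf33) (kf xf0 yf2 zf57) (kf xf0 yf6 zf27) (kf xf0 yf7 zf28) (kf xf0 yf6 zf29) (kf xf0 yf14 zf10) (kf xf0 yf6 zf31) (kf xf0 yf14 zf13) (kf xf0 yf6 zf25) (kf xf0 yf6 zf24) (kf xf0 yf2 zf61) (kf xf0 yf6 zf36) (kf xf0 yf14 zf22) (kf xf0 yf14 zf26) (kf xf0 yf6 zf39) (kf xf0 yf14 zf32) (kf xf0 yf11 zf1) (kf xf0 yf11 zf0) (kf xf0 yf14 zf42) (kf xf0 yf3 zf3) (kf xf0 yf8 zf2) (kf xf0 yf7 zf51) (kf xf0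 yf14 zf48) (kf xf0 yf3 zf4) (kf xf0 yf6 zf49) (kf xf0 yf14 zf57) (kf xf0 yf6 zf59) (kf xf0 yf6 zf58) (kf xf0 yf15 zf5) (kf xf0 yf3 zf7) (kf xf0 yf15 zf9) (kf xf0 yf6 zf56) (kf xf0 yf15 zf14) (kf xf0 yf6 zf52) (kf xf0 yf6 zf51) (kf xf0 yf15 zf24) (kf xf0 yf3 zf10)) (@D3.rec (fun _ => Pt) (kf xf0 yf7 zf0) (kf xf0 yf15 zf30) (kf xf0 yf7 zf2) (kf xf0 yf15 zf36) (kf xf0 yf7 zf4) (kf xf0 yf7 zf5) (kf xf0 yf7 zf6) (kf xf0 yf7 zf7) (kf xf0 yf15 zf51) (kf xf0 yf15 zf55) (kf xf0 yf12 zf39) (kf xf0 yf12 zf38) (kf xf0 yf16 zf3) (kf xf0 yf3 zf15) (kf xf0 yf12 zf46) (kf xf0 yf12 zf47) (kf xf0 yf16 zf13) (kf xf0 yf12 zf42) (kf xf0 yf12 zf43) (kf xf0 yf12 zf44) (kf xf0 yf16 zf22) (kf xf0 yf12 zf50) (kf xf0 yf12 zf49) (kf xf0 yf16 zf34) (kf xf0 yf3 zf18) (kf xf0 yf6 zf2) (kf xf0 yf12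 zf56) (kf xf0 yf16 zf46) (kf xf0 yf6 zf28) (kf xf0 yf12 zf53) (kf xf0 yf4 zf10) (kf xf0 yf12 zf54) (kf xf0 yf16 zf56) (kf xf0 yf12 zf60) (kf xf0 yf12 zf58) (kf xf0 yf12 zf59) (kf xf0 yf17 zf4) (kf xf0 yf13 zf1) (kf xf0 yf13 zf0) (kf xf0 yf17 zf15) (kf xf0 yf13 zf53) (kf xf0 yf3 zf26) (kf xf0 yf16 zf35) (kf xf0 yf7 zf50) (kf xf0 yf7 zf44) (kf xf0 yf7 zf45) (kf xf0 yf7 zf46) (kf xf0 yf8 zf1) (kf xf0 yf3 zf36) (kf xf0 yf13 zf8) (kf xf0 yf7 zf43) (kf xf0 yf6 zf46) (kf xf0 yf7 zf52) (kf xf0 yf13 zf15) (kf xf0 yf13 zf19) (kf xf0 yf7 zf55) (kf xf0 yf17 zf37) (kf xf0 yf13 zf12) (kf xf0 yf13 zf11) (kf xf0 yf17 zf48) (kf xf0 yf3 zf38) (kf xf0 yf17 zf51)) (@D3.rec (fun _ => Pt) (kf xf0 yf3 zf40) (kf xf0 yf7 zf47) (kf xf0 yf6 zf45) (kf xf0 yf9 zf5) (kf xf0 yf9 zf3) (kf xf0 yf18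 zf3) (kf xf0 yf18 zf6) (kf xf0 yf3 zf43) (kf xf0 yf4 zf1) (kf xf0 yf5 zf6) (kf xf0 yf5 zf9) (kf xf0 yf5 zf11) (kf xf0 yf11 zf10) (kf xf0 yf13 zf30) (kf xf0 yf13 zf20) (kf xf0 yf13 zf31) (kf xf0 yf18 zf24) (kf xf0 yf6 zf5) (kf xf0 yf6 zf21) (kf xf0 yf13 zf24) (kf xf0 yf13 zf23) (kf xf0 yf13 zf33) (kf xf0 yf13 zf34) (kf xf0 yf18 zf43) (kf xf0 yf13 zf28) (kf xf0 yf9 zf53) (kf xf0 yf3 zf50) (kf xf0 yf12 zf28) (kf xf0 yf13 zf21) (kf xf0 yf18 zf53) (kf xf0 yf13 zf25) (kf xf0 yf13 zf26) (kf xf0 yf19 zf1) (kf xf0 yf3 zf54) (kf xf0 yf8 zf61) (kf xf0 yf13 zf39) (kf xf0 yf13 zf40) (kf xf0 yf13 zf37) (kf xf0 yf13 zf38) (kf xf0 yf8 zf39) (kf xf0 yf8 zf40) (kf xf0 yf8 zf41) (kf xf0 yf10 zf23) (kf xf0 yf13 zf44) (kf xf0 yf13 zf42) (kf xf0 yf4 zf12) (kf xf0 yf13 zf43) (kf xf0 yf8 zf47)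 (kf xf0 yf19 zf37) (kf xf0 yf19 zf33) (kf xf0 yf19 zf32) (kf xf0 yf19 zf47) (kf xf0 yf3 zf60) (kf xf0 yf13 zf52) (kf xf0 yf13 zf51) (kf xf0 yf13 zf3) (kf xf0 yf19 zf57) (kf xf0 yf3 zf61) (kf xf0 yf18 zf7) (kf xf0 yf9 zf2) (kf xf0 yf4 zf2) (kf xf0 yf8 zf34)) (@D3.rec (fun _ => Pt) (kf xf0 yf4 zf3) (kf xf0 yf4 zf8) (kf xf0 yf8 zf59) (kf xf0 yf8 zf4) (kf xf0 yf20 zf9) (kf xf0 yf8 zf3) (kf xf0 yf20 zf11) (kf xf0 yf9 zf7) (kf xf0 yf20 zf18) (kf xf0 yf20 zf21) (kf xf0 yf4 zf14) (kf xf0 yf20 zf3) (kf xf0 yf9 zf41) (kf xf0 yf9 zf37) (kf xf0 yf4 zf29) (kf xf0 yf20 zf30) (kf xf0 yf9 zf21) (kf xf0 yf20 zf36) (kf xf0 yf9 zf19) (kf xf0 yf9 zf18) (kf xf0 yf4 zf21) (kf xf0 yf9 zf16) (kf xf0 yf10 zf54) (kf xf0 yf4 zf23) (kf xf0 yf9 zf24) (kf xf0 yf20 zf47) (kf xf0 yf20 zf43) (kf xf0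 yf20 zf42) (kf xf0 yf10 zf48) (kf xf0 yf4 zf26) (kf xf0 yf20 zf60) (kf xf0 yf9 zf42) (kf xf0 yf21 zf5) (kf xf0 yf21 zf1) (kf xf0 yf21 zf0) (kf xf0 yf21 zf14) (kf xf0 yf4 zf30) (kf xf0 yf9 zf13) (kf xf0 yf21 zf20) (kf xf0 yf4 zf31) (kf xf0 yf5 zf4) (kf xf0 yf9 zf12) (kf xf0 yf9 zf31) (kf xf0 yf9 zf56) (kf xf0 yf9 zf57) (kf xf0 yf9 zf58) (kf xf0 yf9 zf59) (kf xf0 yf21 zf45) (kf xf0 yf21 zf49) (kf xf0 yf9 zf50) (kf xf0 yf9 zf49) (kf xf0 yf21 zf54) (kf xf0 yf4 zf37) (kf xf0 yf8 zf25) (kf xf0 yf9 zf55) (kf xf0 yf9 zf54) (kf xf0 yf9 zf43) (kf xf0 yf9 zf44) (kf xf0 yf9 zf45) (kf xf0 yf9 zf46) (kf xf0 yf22 zf12) (kf xf0 yf22 zf16)) (@D3.rec (fun _ => Pt) (kf xf0 yf22 zf18) (kf xf0 yf4 zf43) (kf xf0 yf10 zf7) (kf xf0 yf10 zf8) (kf xf0 yf10 zf9) (kf xf0 yf10 zf10) (kf xf0 yf22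 zf28) (kf xf0 yf10 zf2) (kf xf0 yf10 zf3) (kf xf0 yf10 zf4) (kf xf0 yf10 zf5) (kf xf0 yf10 zf11) (kf xf0 yf21 zf58) (kf xf0 yf10 zf13) (kf xf0 yf10 zf14) (kf xf0 yf10 zf20) (kf xf0 yf10 zf21) (kf xf0 yf10 zf22) (kf xf0 yf10 zf24) (kf xf0 yf22 zf55) (kf xf0 yf10 zf15) (kf xf0 yf10 zf16) (kf xf0 yf10 zf17) (kf xf0 yf8 zf42) (kf xf0 yf10 zf18) (kf xf0 yf10 zf25) (kf xf0 yf21 zf52) (kf xf0 yf4 zf58) (kf xf0 yf4 zf57) (kf xf0 yf23 zf21) (kf xf0 yf23 zf26) (kf xf0 yf21 zf10) (kf xf0 yf4 zf56) (kf xf0 yf23 zf15) (kf xf0 yf23 zf16) (kf xf0 yf21 zf11) (kf xf0 yf10 zf36) (kf xf0 yf23 zf13) (kf xf0 yf23 zf40) (kf xf0 yf23 zf39) (kf xf0 yf23 zf54) (kf xf0 yf23 zf57) (kf xf0 yf4 zf59) (kf xf0 yf21 zf15) (kf xf0 yf10 zf46) (kf xf0 yf24 zf5) (kf xf0 yf10 zf44) (kf xf0 yf24 zf11) (kf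 xf0 yf9 zf28) (kf xf0 yf24 zf19) (kf xf0 yf10 zf51) (kf xf0 yf10 zf50) (kf xf0 yf5 zf2) (kf xf0 yf24 zf27) (kf xf0 yf9 zf22) (kf xf0 yf21 zf22) (kf xf0 yf10 zf56) (kf xf0 yf24 zf36) (kf xf0 yf5 zf43) (kf xf0 yf18 zf8) (kf xf0 yf10 zf60) (kf xf0 yf24 zf45)) (@D3.rec (fun _ => Pt) (kf xf0 yf6 zf42) (kf xf0 yf6 zf41) (kf xf0 yf24 zf54) (kf xf0 yf5 zf8) (kf xf0 yf18 zf9) (kf xf0 yf11 zf5) (kf xf0 yf24 zf60) (kf xf0 yf18 zf11) (kf xf0 yf11 zf8) (kf xf0 yf25 zf4) (kf xf0 yf8 zf12) (kf xf0 yf25 zf8) (kf xf0 yf5 zf13) (kf xf0 yf11 zf13) (kf xf0 yf25 zf14) (kf xf0 yf25 zf18) (kf xf0 yf11 zf16) (kf xf0 yf25 zf23) (kf xf0 yf11 zf18) (kf xf0 yf11 zf19) (kf xf0 yf11 zf20) (kf xf0 yf11 zf21) (kf xf0 yf25 zf32) (kf xf0 yf25 zf13) (kf xf0 yf25 zf12) (kf xf0 yf5 zf18) (kf xf0 yf25 zf42)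 (kf xf0 yf11 zf27) (kf xf0 yf25 zf48) (kf xf0 yf11 zf36) (kf xf0 yf11 zf35) (kf xf0 yf25 zf57) (kf xf0 yf5 zf21) (kf xf0 yf11 zf33) (kf xf0 yf26 zf3) (kf xf0 yf11 zf30) (kf xf0 yf11 zf29) (kf xf0 yf26 zf11) (kf xf0 yf5 zf23) (kf xf0 yf11 zf39) (kf xf0 yf11 zf40) (kf xf0 yf11 zf41) (kf xf0 yf26 zf21) (kf xf0 yf12 zf5) (kf xf0 yf12 zf4) (kf xf0 yf26 zf31) (kf xf0 yf5 zf25) (kf xf0 yf12 zf11) (kf xf0 yf12 zf12) (kf xf0 yf12 zf13) (kf xf0 yf26 zf43) (kf xf0 yf12 zf8) (kf xf0 yf12 zf9) (kf xf0 yf26 zf50) (kf xf0 yf11 zf54) (kf xf0 yf26 zf32) (kf xf0 yf26 zf55) (kf xf0 yf11 zf57) (kf xf0 yf11 zf58) (kf xf0 yf27 zf2) (kf xf0 yf14 zf0) (kf xf0 yf5 zf32)) (@D3.rec (fun _ => Pt) (kf xf0 yf12 zf0) (kf xf0 yf12 zf1) (kf xf0 yf12 zf2) (kf xf0 yf27 zf12) (kf xf0 yf11 zf44) (kf xf0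 yf11 zf43) (kf xf0 yf27 zf22) (kf xf0 yf5 zf34) (kf xf0 yf11 zf51) (kf xf0 yf11 zf52) (kf xf0 yf27 zf31) (kf xf0 yf11 zf47) (kf xf0 yf11 zf48) (kf xf0 yf11 zf49) (kf xf0 yf27 zf41) (kf xf0 yf12 zf15) (kf xf0 yf27 zf45) (kf xf0 yf12 zf17) (kf xf0 yf27 zf50) (kf xf0 yf12 zf19) (kf xf0 yf12 zf20) (kf xf0 yf12 zf21) (kf xf0 yf12 zf22) (kf xf0 yf28 zf2) (kf xf0 yf14 zf36) (kf xf0 yf24 zf34) (kf xf0 yf28 zf12) (kf xf0 yf5 zf41) (kf xf0 yf8 zf27) (kf xf0 yf24 zf37) (kf xf0 yf14 zf44) (kf xf0 yf24 zf38) (kf xf0 yf28 zf25) (kf xf0 yf5 zf44) (kf xf0 yf12 zf34) (kf xf0 yf12 zf35) (kf xf0 yf12 zf36) (kf xf0 yf28 zf34) (kf xf0 yf7 zf11) (kf xf0 yf7 zf10) (kf xf0 yf28 zf44) (kf xf0 yf5 zf47) (kf xf0 yf7 zf17) (kf xf0 yf7 zf18) (kf xf0 yf7 zf19) (kf xf0 yf28 zf54) (kf xf0 yf7 zf14)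 (kf xf0 yf7 zf15) (kf xf0 yf28 zf59) (kf xf0 yf7 zf22) (kf xf0 yf7 zf21) (kf xf0 yf29 zf8) (kf xf0 yf5 zf50) (kf xf0 yf7 zf29) (kf xf0 yf7 zf31) (kf xf0 yf29 zf17) (kf xf0 yf7 zf26) (kf xf0 yf29 zf23) (kf xf0 yf7 zf34) (kf xf0 yf7 zf35) (kf xf0 yf7 zf33) (kf xf0 yf29 zf32)) (@D3.rec (fun _ => Pt) (kf xf0 yf7 zf38) (kf xf0 yf7 zf37) (kf xf0 yf29 zf43) (kf xf0 yf8 zf55) (kf xf0 yf5 zf57) (kf xf0 yf29 zf9) (kf xf0 yf28 zf19) (kf xf0 yf17 zf26) (kf xf0 yf7 zf49) (kf xf0 yf16 zf36) (kf xf0 yf5 zf61) (kf xf0 yf7 zf58) (kf xf0 yf7 zf57) (kf xf0 yf29 zf56) (kf xf0 yf6 zf0) (kf xf0 yf7 zf53) (kf xf0 yf16 zf37) (kf xf0 yf18 zf25) (kf xf0 yf18 zf26) (kf xf0 yf7 zf54) (kf xf0 yf8 zf14) (kf xf0 yf8 zf28) (kf xf0 yf30 zf8) (kf xf0 yf8 zf20) (kf xf0 yf8 zf19) (kf xf0 yf8 zf30) (kf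 xf0 yf8 zf31) (kf xf0 yf30 zf19) (kf xf0 yf8 zf24) (kf xf0 yf6 zf8) (kf xf0 yf8 zf13) (kf xf0 yf8 zf15) (kf xf0 yf30 zf29) (kf xf0 yf8 zf21) (kf xf0 yf8 zf22) (kf xf0 yf30 zf37) (kf xf0 yf6 zf12) (kf xf0 yf8 zf37) (kf xf0 yf8 zf38) (kf xf0 yf8 zf35) (kf xf0 yf8 zf36) (kf xf0 yf13 zf41) (kf xf0 yf8 zf44) (kf xf0 yf8 zf46) (kf xf0 yf8 zf43) (kf xf0 yf13 zf45) (kf xf0 yf31 zf0) (kf xf0 yf30 zf58) (kf xf0 yf30 zf57) (kf xf0 yf31 zf10) (kf xf0 yf6 zf18) (kf xf0 yf8 zf54) (kf xf0 yf8 zf53) (kf xf0 yf7 zf40) (kf xf0 yf31 zf20) (kf xf0 yf6 zf19) (kf xf0 yf18 zf27) (kf xf0 yf13 zf57) (kf xf0 yf13 zf58) (kf xf0 yf31 zf30) (kf xf0 yf31 zf34) (kf xf0 yf6 zf23)) (@D3.rec (fun _ => Pt) (kf xf0 yf11 zf60) (kf xf0 yf14 zf16) (kf xf0 yf31 zf40) (kf xf0 yf14 zf14) (kf xf0 yf31 zf42)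 (kf xf0 yf16 zf14) (kf xf0 yf16 zf47) (kf xf0 yf31 zf46) (kf xf0 yf14 zf9) (kf xf0 yf14 zf8) (kf xf0 yf6 zf30) (kf xf0 yf31 zf52) (kf xf0 yf31 zf56) (kf xf0 yf6 zf32) (kf xf0 yf14 zf3) (kf xf0 yf31 zf59) (kf xf0 yf14 zf1) (kf xf0 yf31 zf61) (kf xf0 yf32 zf3) (kf xf0 yf14 zf24) (kf xf0 yf14 zf23) (kf xf0 yf32 zf8) (kf xf0 yf6 zf37) (kf xf0 yf14 zf20) (kf xf0 yf14 zf19) (kf xf0 yf32 zf13) (kf xf0 yf6 zf38) (kf xf0 yf14 zf27) (kf xf0 yf14 zf28) (kf xf0 yf14 zf29) (kf xf0 yf32 zf23) (kf xf0 yf32 zf27) (kf xf0 yf6 zf40) (kf xf0 yf24 zf48) (kf xf0 yf24 zf49) (kf xf0 yf32 zf33) (kf xf0 yf12 zf24) (kf xf0 yf24 zf46) (kf xf0 yf26 zf38) (kf xf0 yf24 zf52) (kf xf0 yf24 zf51) (kf xf0 yf32 zf44) (kf xf0 yf6 zf43) (kf xf0 yf17 zf55) (kf xf0 yf12 zf30) (kf xf0 yf32 zf50) (kf xf0 yf32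 zf55) (kf xf0 yf32 zf57) (kf xf0 yf6 zf47) (kf xf0 yf32 zf45) (kf xf0 yf14 zf50) (kf xf0 yf14 zf51) (kf xf0 yf14 zf52) (kf xf0 yf33 zf7) (kf xf0 yf15 zf12) (kf xf0 yf15 zf11) (kf xf0 yf33 zf16) (kf xf0 yf6 zf50) (kf xf0 yf15 zf17) (kf xf0 yf15 zf18) (kf xf0 yf15 zf19) (kf xf0 yf15 zf15)) (@D3.rec (fun _ => Pt) (kf xf0 yf15 zf16) (kf xf0 yf16 zf11) (kf xf0 yf15 zf22) (kf xf0 yf15 zf21) (kf xf0 yf33 zf38) (kf xf0 yf6 zf53) (kf xf0 yf15 zf7) (kf xf0 yf15 zf6) (kf xf0 yf33 zf46) (kf xf0 yf6 zf55) (kf xf0 yf33 zf50) (kf xf0 yf14 zf55) (kf xf0 yf14 zf54) (kf xf0 yf33 zf59) (kf xf0 yf6 zf57) (kf xf0 yf14 zf61) (kf xf0 yf15 zf0) (kf xf0 yf14 zf58) (kf xf0 yf14 zf59) (kf xf0 yf14 zf60) (kf xf0 yf28 zf53) (kf xf0 yf15 zf3) (kf xf0 yf15 zf2) (kf xf0 yf34 zf20) (kf xf0 yf6 zf60)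 (kf xf0 yf15 zf25) (kf xf0 yf15 zf26) (kf xf0 yf15 zf27) (kf xf0 yf34 zf30) (kf xf0 yf34 zf34) (kf xf0 yf7 zf1) (kf xf0 yf15 zf31) (kf xf0 yf15 zf32) (kf xf0 yf15 zf33) (kf xf0 yf34 zf45) (kf xf0 yf34 zf49) (kf xf0 yf7 zf3) (kf xf0 yf15 zf37) (kf xf0 yf15 zf38) (kf xf0 yf34 zf54) (kf xf0 yf15 zf40) (kf xf0 yf34 zf58) (kf xf0 yf15 zf42) (kf xf0 yf35 zf1) (kf xf0 yf15 zf44) (kf xf0 yf15 zf45) (kf xf0 yf15 zf46) (kf xf0 yf35 zf9) (kf xf0 yf34 zf61) (kf xf0 yf34 zf60) (kf xf0 yf35 zf21) (kf xf0 yf7 zf8) (kf xf0 yf17 zf35) (kf xf0 yf17 zf34) (kf xf0 yf35 zf31) (kf xf0 yf7 zf9) (kf xf0 yf28 zf38) (kf xf0 yf28 zf39) (kf xf0 yf35 zf41) (kf xf0 yf28 zf35) (kf xf0 yf28 zf36) (kf xf0 yf35 zf50)) (@D3.rec (fun _ => Pt) (kf xf0 yf28 zf42) (kf xf0 yf28 zf41) (kf xf0 yf36 zf0) (kf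 xf0 yf7 zf12) (kf xf0 yf28 zf55) (kf xf0 yf28 zf56) (kf xf0 yf36 zf12) (kf xf0 yf28 zf50) (kf xf0 yf28 zf49) (kf xf0 yf28 zf58) (kf xf0 yf36 zf23) (kf xf0 yf15 zf1) (kf xf0 yf17 zf45) (kf xf0 yf7 zf16) (kf xf0 yf14 zf5) (kf xf0 yf28 zf45) (kf xf0 yf36 zf30) (kf xf0 yf25 zf33) (kf xf0 yf28 zf47) (kf xf0 yf36 zf37) (kf xf0 yf28 zf51) (kf xf0 yf17 zf46) (kf xf0 yf7 zf20) (kf xf0 yf29 zf2) (kf xf0 yf17 zf40) (kf xf0 yf36 zf48) (kf xf0 yf28 zf60) (kf xf0 yf28 zf61) (kf xf0 yf29 zf0) (kf xf0 yf36 zf58) (kf xf0 yf29 zf5) (kf xf0 yf29 zf4) (kf xf0 yf37 zf7) (kf xf0 yf37 zf12) (kf xf0 yf7 zf23) (kf xf0 yf7 zf42) (kf xf0 yf13 zf9) (kf xf0 yf13 zf16) (kf xf0 yf37 zf19) (kf xf0 yf17 zf29) (kf xf0 yf18 zf18) (kf xf0 yf29 zf18) (kf xf0 yf29 zf19) (kf xf0 yf37 zf34) (kf xf0 yf29 zf16)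 (kf xf0 yf29 zf15) (kf xf0 yf7 zf27) (kf xf0 yf14 zf6) (kf xf0 yf16 zf49) (kf xf0 yf16 zf48) (kf xf0 yf29 zf10) (kf xf0 yf37 zf46) (kf xf0 yf29 zf12) (kf xf0 yf29 zf13) (kf xf0 yf29 zf22) (kf xf0 yf29 zf21) (kf xf0 yf7 zf32) (kf xf0 yf29 zf27) (kf xf0 yf29 zf28) (kf xf0 yf29 zf24) (kf xf0 yf38 zf4) (kf xf0 yf29 zf25)) (@D3.rec (fun _ => Pt) (kf xf0 yf29 zf26) (kf xf0 yf38 zf14) (kf xf0 yf29 zf31) (kf xf0 yf29 zf30) (kf xf0 yf7 zf36) (kf xf0 yf29 zf36) (kf xf0 yf29 zf37) (kf xf0 yf38 zf26) (kf xf0 yf29 zf33) (kf xf0 yf29 zf34) (kf xf0 yf38 zf35) (kf xf0 yf38 zf42) (kf xf0 yf38 zf37) (kf xf0 yf38 zf36) (kf xf0 yf31 zf16) (kf xf0 yf7 zf39) (kf xf0 yf29 zf45) (kf xf0 yf29 zf44) (kf xf0 yf38 zf59) (kf xf0 yf37 zf13) (kf xf0 yf29 zf49) (kf xf0 yf29 zf48) (kf xf0 yf17 zf53)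 (kf xf0 yf17 zf25) (kf xf0 yf17 zf54) (kf xf0 yf17 zf23) (kf xf0 yf13 zf7) (kf xf0 yf17 zf28) (kf xf0 yf17 zf27) (kf xf0 yf16 zf39) (kf xf0 yf17 zf30) (kf xf0 yf17 zf31) (kf xf0 yf17 zf32) (kf xf0 yf39 zf12) (kf xf0 yf15 zf53) (kf xf0 yf15 zf52) (kf xf0 yf39 zf22) (kf xf0 yf7 zf56) (kf xf0 yf26 zf1) (kf xf0 yf29 zf53) (kf xf0 yf16 zf24) (kf xf0 yf29 zf51) (kf xf0 yf26 zf0) (kf xf0 yf29 zf52) (kf xf0 yf31 zf58) (kf xf0 yf16 zf12) (kf xf0 yf16 zf21) (kf xf0 yf39 zf42) (kf xf0 yf7 zf59) (kf xf0 yf39 zf48) (kf xf0 yf30 zf1) (kf xf0 yf7 zf61) (kf xf0 yf39 zf43) (kf xf0 yf17 zf22) (kf xf0 yf17 zf24) (kf xf0 yf14 zf43) (kf xf0 yf39 zf57) (kf xf0 yf20 zf10) (kf xf0 yf40 zf1) (kf xf0 yf20 zf5) (kf xf0 yf19 zf60) (kf xf0 yf40 zf12)) (@D3.rec (fun _ => Pt) (kf xf0 yf40 zf8) (kf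 xf0 yf40 zf7) (kf xf0 yf40 zf21) (kf xf0 yf8 zf5) (kf xf0 yf29 zf58) (kf xf0 yf40 zf27) (kf xf0 yf8 zf6) (kf xf0 yf8 zf58) (kf xf0 yf10 zf59) (kf xf0 yf11 zf4) (kf xf0 yf40 zf36) (kf xf0 yf11 zf7) (kf xf0 yf25 zf5) (kf xf0 yf30 zf21) (kf xf0 yf30 zf22) (kf xf0 yf30 zf23) (kf xf0 yf40 zf50) (kf xf0 yf18 zf46) (kf xf0 yf16 zf40) (kf xf0 yf40 zf56) (kf xf0 yf30 zf25) (kf xf0 yf41 zf0) (kf xf0 yf30 zf7) (kf xf0 yf30 zf6) (kf xf0 yf8 zf16) (kf xf0 yf13 zf17) (kf xf0 yf13 zf18) (kf xf0 yf13 zf56) (kf xf0 yf30 zf9) (kf xf0 yf19 zf7) (kf xf0 yf18 zf61) (kf xf0 yf21 zf26) (kf xf0 yf19 zf8) (kf xf0 yf30 zf30) (kf xf0 yf30 zf31) (kf xf0 yf30 zf32) (kf xf0 yf30 zf33) (kf xf0 yf41 zf43) (kf xf0 yf20 zf1) (kf xf0 yf41 zf49) (kf xf0 yf30 zf17) (kf xf0 yf30 zf16) (kf xf0 yf41 zf56)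 (kf xf0 yf8 zf23) (kf xf0 yf30 zf20) (kf xf0 yf21 zf55) (kf xf0 yf18 zf17) (kf xf0 yf28 zf13) (kf xf0 yf42 zf5) (kf xf0 yf30 zf4) (kf xf0 yf42 zf11) (kf xf0 yf30 zf28) (kf xf0 yf30 zf27) (kf xf0 yf8 zf29) (kf xf0 yf30 zf10) (kf xf0 yf30 zf11) (kf xf0 yf30 zf12) (kf xf0 yf30 zf13) (kf xf0 yf42 zf34) (kf xf0 yf42 zf38) (kf xf0 yf20 zf22) (kf xf0 yf18 zf30)) (@D3.rec (fun _ => Pt) (kf xf0 yf42 zf44) (kf xf0 yf8 zf32) (kf xf0 yf20 zf0) (kf xf0 yf30 zf43) (kf xf0 yf30 zf44) (kf xf0 yf30 zf45) (kf xf0 yf30 zf46) (kf xf0 yf18 zf29) (kf xf0 yf18 zf32) (kf xf0 yf43 zf2) (kf xf0 yf30 zf38) (kf xf0 yf30 zf39) (kf xf0 yf30 zf40) (kf xf0 yf30 zf41) (kf xf0 yf19 zf14) (kf xf0 yf19 zf15) (kf xf0 yf19 zf16) (kf xf0 yf19 zf17) (kf xf0 yf19 zf18) (kf xf0 yf23 zf3) (kf xf0 yf23 zf4) (kf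 xf0 yf23 zf0) (kf xf0 yf23 zf5) (kf xf0 yf43 zf28) (kf xf0 yf30 zf50) (kf xf0 yf30 zf51) (kf xf0 yf30 zf52) (kf xf0 yf30 zf53) (kf xf0 yf19 zf28) (kf xf0 yf19 zf29) (kf xf0 yf43 zf43) (kf xf0 yf19 zf31) (kf xf0 yf8 zf50) (kf xf0 yf8 zf49) (kf xf0 yf43 zf51) (kf xf0 yf43 zf55) (kf xf0 yf40 zf17) (kf xf0 yf8 zf48) (kf xf0 yf43 zf47) (kf xf0 yf20 zf44) (kf xf0 yf40 zf18) (kf xf0 yf19 zf41) (kf xf0 yf43 zf45) (kf xf0 yf44 zf8) (kf xf0 yf44 zf7) (kf xf0 yf44 zf22) (kf xf0 yf44 zf25) (kf xf0 yf8 zf51) (kf xf0 yf40 zf22) (kf xf0 yf31 zf14) (kf xf0 yf44 zf36) (kf xf0 yf31 zf12) (kf xf0 yf44 zf43) (kf xf0 yf29 zf42) (kf xf0 yf44 zf51) (kf xf0 yf31 zf19) (kf xf0 yf31 zf18) (kf xf0 yf8 zf56) (kf xf0 yf44 zf60) (kf xf0 yf31 zf22) (kf xf0 yf17 zf60) (kf xf0 yf40 zf29)) (@D3.rec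 (fun _ => Pt) (kf xf0 yf19 zf2) (kf xf0 yf18 zf38) (kf xf0 yf20 zf4) (kf xf0 yf9 zf11) (kf xf0 yf20 zf2) (kf xf0 yf17 zf59) (kf xf0 yf41 zf57) (kf xf0 yf20 zf29) (kf xf0 yf20 zf28) (kf xf0 yf9 zf4) (kf xf0 yf17 zf57) (kf xf0 yf9 zf6) (kf xf0 yf20 zf12) (kf xf0 yf20 zf13) (kf xf0 yf23 zf33) (kf xf0 yf23 zf19) (kf xf0 yf45 zf21) (kf xf0 yf45 zf31) (kf xf0 yf9 zf8) (kf xf0 yf24 zf56) (kf xf0 yf45 zf37) (kf xf0 yf9 zf9) (kf xf0 yf18 zf60) (kf xf0 yf21 zf23) (kf xf0 yf21 zf24) (kf xf0 yf21 zf25) (kf xf0 yf21 zf16) (kf xf0 yf45 zf52) (kf xf0 yf20 zf8) (kf xf0 yf20 zf7) (kf xf0 yf9 zf15) (kf xf0 yf20 zf37) (kf xf0 yf20 zf38) (kf xf0 yf20 zf39) (kf xf0 yf45 zf60) (kf xf0 yf24 zf30) (kf xf0 yf9 zf17) (kf xf0 yf20 zf31) (kf xf0 yf20 zf32) (kf xf0 yf20 zf33) (kf xf0 yf24 zf29)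 (kf xf0 yf22 zf40) (kf xf0 yf9 zf27) (kf xf0 yf9 zf26) (kf xf0 yf19 zf39) (kf xf0 yf46 zf13) (kf xf0 yf45 zf46) (kf xf0 yf9 zf25) (kf xf0 yf46 zf7) (kf xf0 yf30 zf59) (kf xf0 yf45 zf47) (kf xf0 yf20 zf51) (kf xf0 yf24 zf14) (kf xf0 yf24 zf12) (kf xf0 yf24 zf13) (kf xf0 yf23 zf51) (kf xf0 yf46 zf41) (kf xf0 yf21 zf27) (kf xf0 yf20 zf59) (kf xf0 yf20 zf58) (kf xf0 yf9 zf30) (kf xf0 yf21 zf28)) (@D3.rec (fun _ => Pt) (kf xf0 yf9 zf34) (kf xf0 yf9 zf33) (kf xf0 yf46 zf60) (kf xf0 yf47 zf4) (kf xf0 yf47 zf7) (kf xf0 yf9 zf32) (kf xf0 yf46 zf53) (kf xf0 yf46 zf54) (kf xf0 yf23 zf60) (kf xf0 yf46 zf51) (kf xf0 yf10 zf31) (kf xf0 yf10 zf35) (kf xf0 yf47 zf27) (kf xf0 yf47 zf30) (kf xf0 yf9 zf35) (kf xf0 yf10 zf43) (kf xf0 yf20 zf26) (kf xf0 yf47 zf38) (kf xf0 yf21 zf19) (kf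 xf0 yf21 zf18) (kf xf0 yf9 zf38) (kf xf0 yf47 zf47) (kf xf0 yf10 zf55) (kf xf0 yf20 zf23) (kf xf0 yf20 zf24) (kf xf0 yf20 zf25) (kf xf0 yf18 zf31) (kf xf0 yf20 zf57) (kf xf0 yf20 zf61) (kf xf0 yf21 zf59) (kf xf0 yf21 zf60) (kf xf0 yf21 zf61) (kf xf0 yf22 zf21) (kf xf0 yf22 zf0) (kf xf0 yf22 zf1) (kf xf0 yf22 zf2) (kf xf0 yf22 zf4) (kf xf0 yf48 zf16) (kf xf0 yf22 zf6) (kf xf0 yf22 zf7) (kf xf0 yf22 zf8) (kf xf0 yf48 zf30) (kf xf0 yf48 zf14) (kf xf0 yf48 zf13) (kf xf0 yf48 zf38) (kf xf0 yf9 zf47) (kf xf0 yf21 zf47) (kf xf0 yf21 zf46) (kf xf0 yf24 zf9) (kf xf0 yf9 zf48) (kf xf0 yf21 zf51) (kf xf0 yf21 zf50) (kf xf0 yf10 zf26) (kf xf0 yf48 zf51) (kf xf0 yf9 zf51) (kf xf0 yf18 zf45) (kf xf0 yf21 zf57) (kf xf0 yf21 zf56) (kf xf0 yf10 zf12) (kf xf0 yf21 zf29) (kf xf0 yf21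 zf30) (kf xf0 yf21 zf31)) (@D3.rec (fun _ => Pt) (kf xf0 yf21 zf33) (kf xf0 yf21 zf34) (kf xf0 yf21 zf35) (kf xf0 yf22 zf10) (kf xf0 yf21 zf36) (kf xf0 yf48 zf3) (kf xf0 yf21 zf38) (kf xf0 yf21 zf39) (kf xf0 yf21 zf40) (kf xf0 yf49 zf28) (kf xf0 yf22 zf3) (kf xf0 yf49 zf33) (kf xf0 yf9 zf60) (kf xf0 yf22 zf14) (kf xf0 yf22 zf13) (kf xf0 yf49 zf39) (kf xf0 yf9 zf61) (kf xf0 yf22 zf27) (kf xf0 yf10 zf0) (kf xf0 yf22 zf29) (kf xf0 yf22 zf30) (kf xf0 yf21 zf32) (kf xf0 yf22 zf31) (kf xf0 yf22 zf32) (kf xf0 yf22 zf33) (kf xf0 yf22 zf35) (kf xf0 yf49 zf57) (kf xf0 yf22 zf17) (kf xf0 yf10 zf6) (kf xf0 yf22 zf19) (kf xf0 yf22 zf20) (kf xf0 yf22 zf22) (kf xf0 yf22 zf23) (kf xf0 yf22 zf24) (kf xf0 yf22 zf34) (kf xf0 yf22 zf25) (kf xf0 yf48 zf57) (kf xf0 yf22 zf37) (kf xf0 yf22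 zf38) (kf xf0 yf22 zf39) (kf xf0 yf20 zf41) (kf xf0 yf22 zf41) (kf xf0 yf22 zf56) (kf xf0 yf22 zf57) (kf xf0 yf45 zf54) (kf xf0 yf22 zf58) (kf xf0 yf22 zf59) (kf xf0 yf22 zf60) (kf xf0 yf23 zf1) (kf xf0 yf23 zf7) (kf xf0 yf23 zf8) (kf xf0 yf23 zf9) (kf xf0 yf50 zf39) (kf xf0 yf22 zf54) (kf xf0 yf22 zf53) (kf xf0 yf10 zf19) (kf xf0 yf22 zf42) (kf xf0 yf22 zf43) (kf xf0 yf22 zf45) (kf xf0 yf22 zf46) (kf xf0 yf22 zf47) (kf xf0 yf46 zf3)) (@D3.rec (fun _ => Pt) (kf xf0 yf19 zf21) (kf xf0 yf22 zf48) (kf xf0 yf23 zf2) (kf xf0 yf19 zf19) (kf xf0 yf19 zf20) (kf xf0 yf19 zf22) (kf xf0 yf23 zf6) (kf xf0 yf22 zf49) (kf xf0 yf22 zf50) (kf xf0 yf22 zf51) (kf xf0 yf48 zf49) (kf xf0 yf23 zf11) (kf xf0 yf23 zf12) (kf xf0 yf10 zf37) (kf xf0 yf46 zf52) (kf xf0 yf10 zf33) (kf xf0 yf10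 zf34) (kf xf0 yf49 zf43) (kf xf0 yf50 zf50) (kf xf0 yf20 zf15) (kf xf0 yf47 zf16) (kf xf0 yf10 zf29) (kf xf0 yf49 zf47) (kf xf0 yf43 zf4) (kf xf0 yf51 zf44) (kf xf0 yf51 zf49) (kf xf0 yf10 zf30) (kf xf0 yf47 zf17) (kf xf0 yf51 zf57) (kf xf0 yf23 zf29) (kf xf0 yf49 zf60) (kf xf0 yf47 zf19) (kf xf0 yf23 zf32) (kf xf0 yf20 zf14) (kf xf0 yf51 zf31) (kf xf0 yf23 zf35) (kf xf0 yf47 zf20) (kf xf0 yf48 zf35) (kf xf0 yf23 zf38) (kf xf0 yf10 zf39) (kf xf0 yf10 zf38) (kf xf0 yf51 zf28) (kf xf0 yf52 zf24) (kf xf0 yf52 zf14) (kf xf0 yf52 zf15) (kf xf0 yf52 zf35) (kf xf0 yf52 zf11) (kf xf0 yf52 zf12) (kf xf0 yf52 zf44) (kf xf0 yf52 zf18) (kf xf0 yf52 zf17) (kf xf0 yf20 zf55) (kf xf0 yf52 zf61) (kf xf0 yf53 zf3) (kf xf0 yf10 zf40) (kf xf0 yf52 zf23) (kf xf0 yf52 zf22) (kf xf0 yf10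 zf41) (kf xf0 yf53 zf13) (kf xf0 yf47 zf32) (kf xf0 yf21 zf8) (kf xf0 yf47 zf33)) (@D3.rec (fun _ => Pt) (kf xf0 yf24 zf6) (kf xf0 yf24 zf7) (kf xf0 yf53 zf31) (kf xf0 yf24 zf4) (kf xf0 yf24 zf3) (kf xf0 yf10 zf45) (kf xf0 yf24 zf0) (kf xf0 yf24 zf1) (kf xf0 yf53 zf45) (kf xf0 yf21 zf48) (kf xf0 yf53 zf50) (kf xf0 yf10 zf47) (kf xf0 yf20 zf53) (kf xf0 yf20 zf54) (kf xf0 yf20 zf52) (kf xf0 yf53 zf60) (kf xf0 yf24 zf17) (kf xf0 yf24 zf16) (kf xf0 yf54 zf3) (kf xf0 yf10 zf49) (kf xf0 yf24 zf24) (kf xf0 yf24 zf25) (kf xf0 yf24 zf23) (kf xf0 yf24 zf22) (kf xf0 yf24 zf20) (kf xf0 yf24 zf21) (kf xf0 yf46 zf50) (kf xf0 yf10 zf53) (kf xf0 yf54 zf0) (kf xf0 yf20 zf40) (kf xf0 yf20 zf35) (kf xf0 yf46 zf49) (kf xf0 yf24 zf32) (kf xf0 yf54 zf24) (kf xf0 yf12 zf25) (kf xf0 yf54 zf30)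 (kf xf0 yf10 zf57) (kf xf0 yf12 zf29) (kf xf0 yf12 zf31) (kf xf0 yf40 zf30) (kf xf0 yf24 zf40) (kf xf0 yf24 zf41) (kf xf0 yf24 zf42) (kf xf0 yf54 zf44) (kf xf0 yf54 zf48) (kf xf0 yf10 zf61) (kf xf0 yf14 zf37) (kf xf0 yf54 zf51) (kf xf0 yf14 zf33) (kf xf0 yf14 zf34) (kf xf0 yf27 zf26) (kf xf0 yf14 zf40) (kf xf0 yf14 zf39) (kf xf0 yf54 zf60) (kf xf0 yf11 zf2) (kf xf0 yf40 zf32) (kf xf0 yf20 zf19) (kf xf0 yf55 zf6) (kf xf0 yf25 zf2) (kf xf0 yf55 zf11) (kf xf0 yf11 zf6) (kf xf0 yf25 zf6)) (@D3.rec (fun _ => Pt) (kf xf0 yf40 zf37) (kf xf0 yf55 zf15) (kf xf0 yf24 zf58) (kf xf0 yf55 zf20) (kf xf0 yf11 zf9) (kf xf0 yf18 zf12) (kf xf0 yf24 zf61) (kf xf0 yf55 zf26) (kf xf0 yf11 zf11) (kf xf0 yf25 zf9) (kf xf0 yf25 zf10) (kf xf0 yf55 zf31) (kf xf0 yf11 zf24) (kf xf0 yf11 zf23)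 (kf xf0 yf11 zf14) (kf xf0 yf25 zf21) (kf xf0 yf25 zf20) (kf xf0 yf55 zf45) (kf xf0 yf11 zf15) (kf xf0 yf55 zf49) (kf xf0 yf25 zf16) (kf xf0 yf25 zf15) (kf xf0 yf55 zf59) (kf xf0 yf11 zf17) (kf xf0 yf55 zf61) (kf xf0 yf25 zf25) (kf xf0 yf56 zf2) (kf xf0 yf56 zf5) (kf xf0 yf56 zf9) (kf xf0 yf27 zf32) (kf xf0 yf31 zf35) (kf xf0 yf56 zf19) (kf xf0 yf11 zf22) (kf xf0 yf16 zf17) (kf xf0 yf55 zf34) (kf xf0 yf56 zf27) (kf xf0 yf27 zf0) (kf xf0 yf55 zf32) (kf xf0 yf56 zf34) (kf xf0 yf26 zf53) (kf xf0 yf25 zf49) (kf xf0 yf56 zf42) (kf xf0 yf11 zf26) (kf xf0 yf25 zf43) (kf xf0 yf25 zf44) (kf xf0 yf25 zf45) (kf xf0 yf56 zf51) (kf xf0 yf56 zf55) (kf xf0 yf11 zf28) (kf xf0 yf25 zf40) (kf xf0 yf26 zf6) (kf xf0 yf27 zf39) (kf xf0 yf26 zf4) (kf xf0 yf26 zf41) (kf xf0 yf26 zf9) (kf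 xf0 yf26 zf8) (kf xf0 yf57 zf8) (kf xf0 yf11 zf31) (kf xf0 yf25 zf58) (kf xf0 yf25 zf59) (kf xf0 yf25 zf60) (kf xf0 yf57 zf17)) (@D3.rec (fun _ => Pt) (kf xf0 yf17 zf42) (kf xf0 yf17 zf38) (kf xf0 yf57 zf25) (kf xf0 yf11 zf34) (kf xf0 yf25 zf52) (kf xf0 yf26 zf48) (kf xf0 yf25 zf50) (kf xf0 yf27 zf29) (kf xf0 yf25 zf55) (kf xf0 yf25 zf54) (kf xf0 yf57 zf35) (kf xf0 yf11 zf37) (kf xf0 yf26 zf12) (kf xf0 yf57 zf41) (kf xf0 yf26 zf14) (kf xf0 yf26 zf15) (kf xf0 yf57 zf46) (kf xf0 yf57 zf50) (kf xf0 yf57 zf48) (kf xf0 yf57 zf47) (kf xf0 yf58 zf0) (kf xf0 yf11 zf42) (kf xf0 yf27 zf16) (kf xf0 yf27 zf17) (kf xf0 yf58 zf10) (kf xf0 yf27 zf13) (kf xf0 yf27 zf14) (kf xf0 yf58 zf18) (kf xf0 yf27 zf20) (kf xf0 yf27 zf19) (kf xf0 yf58 zf29) (kf xf0 yf11 zf45) (kf xf0 yf11 zf55)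 (kf xf0 yf27 zf33) (kf xf0 yf58 zf37) (kf xf0 yf27 zf35) (kf xf0 yf27 zf36) (kf xf0 yf58 zf47) (kf xf0 yf14 zf38) (kf xf0 yf27 zf38) (kf xf0 yf32 zf11) (kf xf0 yf25 zf53) (kf xf0 yf32 zf7) (kf xf0 yf11 zf50) (kf xf0 yf27 zf23) (kf xf0 yf27 zf24) (kf xf0 yf58 zf59) (kf xf0 yf27 zf27) (kf xf0 yf26 zf5) (kf xf0 yf32 zf30) (kf xf0 yf11 zf53) (kf xf0 yf26 zf51) (kf xf0 yf36 zf31) (kf xf0 yf25 zf39) (kf xf0 yf59 zf5) (kf xf0 yf11 zf56) (kf xf0 yf26 zf56) (kf xf0 yf26 zf57) (kf xf0 yf26 zf58) (kf xf0 yf26 zf59) (kf xf0 yf59 zf15) (kf xf0 yf59 zf18)) (@D3.rec (fun _ => Pt) (kf xf0 yf25 zf36) (kf xf0 yf59 zf24) (kf xf0 yf11 zf59) (kf xf0 yf31 zf36) (kf xf0 yf59 zf27) (kf xf0 yf59 zf30) (kf xf0 yf27 zf6) (kf xf0 yf59 zf35) (kf xf0 yf59 zf39) (kf xf0 yf59 zf37) (kf xf0 yf59 zf36)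 (kf xf0 yf59 zf49) (kf xf0 yf12 zf3) (kf xf0 yf26 zf25) (kf xf0 yf26 zf26) (kf xf0 yf59 zf59) (kf xf0 yf26 zf22) (kf xf0 yf26 zf23) (kf xf1 yf0 zf5) (kf xf0 yf26 zf29) (kf xf0 yf26 zf28) (kf xf0 yf58 zf28) (kf xf0 yf12 zf6) (kf xf0 yf26 zf44) (kf xf0 yf26 zf45) (kf xf1 yf0 zf24) (kf xf0 yf24 zf50) (kf xf0 yf26 zf47) (kf xf0 yf32 zf6) (kf xf0 yf26 zf7) (kf xf0 yf32 zf12) (kf xf0 yf12 zf10) (kf xf0 yf25 zf29) (kf xf0 yf26 zf33) (kf xf1 yf0 zf35) (kf xf0 yf26 zf35) (kf xf0 yf26 zf36) (kf xf1 yf0 zf43) (kf xf0 yf26 zf39) (kf xf0 yf25 zf51) (kf xf0 yf42 zf17) (kf xf0 yf12 zf14) (kf xf1 yf0 zf48) (kf xf0 yf27 zf48) (kf xf1 yf0 zf53) (kf xf0 yf12 zf16) (kf xf0 yf27 zf46) (kf xf1 yf0 zf57) (kf xf0 yf27 zf43) (kf xf1 yf1 zf0) (kf xf0 yf12 zf18) (kf xf0 yf27 zf51) (kf xf1 yf1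 zf3) (kf xf0 yf27 zf53) (kf xf0 yf27 zf54) (kf xf1 yf1 zf7) (kf xf0 yf27 zf56) (kf xf0 yf27 zf57) (kf xf0 yf27 zf58) (kf xf1 yf1 zf13) (kf xf1 yf1 zf16) (kf xf0 yf54 zf22)) (@D3.rec (fun _ => Pt) (kf xf0 yf54 zf21) (kf xf1 yf1 zf25) (kf xf0 yf12 zf23) (kf xf0 yf32 zf34) (kf xf0 yf32 zf35) (kf xf1 yf1 zf33) (kf xf0 yf54 zf25) (kf xf0 yf54 zf26) (kf xf0 yf58 zf31) (kf xf0 yf32 zf40) (kf xf0 yf54 zf28) (kf xf1 yf1 zf46) (kf xf0 yf12 zf26) (kf xf0 yf18 zf47) (kf xf1 yf1 zf54) (kf xf0 yf54 zf31) (kf xf1 yf1 zf59) (kf xf0 yf32 zf46) (kf xf0 yf54 zf33) (kf xf0 yf13 zf6) (kf xf1 yf2 zf5) (kf xf0 yf39 zf53) (kf xf0 yf54 zf34) (kf xf1 yf2 zf15) (kf xf1 yf2 zf19) (kf xf0 yf12 zf32) (kf xf1 yf1 zf47) (kf xf0 yf28 zf27) (kf xf1 yf2 zf26) (kf xf1 yf2 zf29) (kf xf1 yf2 zf32) (kf xf1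 yf2 zf30) (kf xf0 yf56 zf10) (kf xf1 yf2 zf41) (kf xf0 yf12 zf37) (kf xf0 yf15 zf59) (kf xf0 yf15 zf60) (kf xf1 yf2 zf48) (kf xf0 yf15 zf56) (kf xf0 yf15 zf57) (kf xf1 yf0 zf26) (kf xf0 yf16 zf1) (kf xf0 yf16 zf0) (kf xf1 yf3 zf2) (kf xf0 yf12 zf40) (kf xf0 yf16 zf15) (kf xf1 yf3 zf7) (kf xf0 yf16 zf18) (kf xf1 yf3 zf11) (kf xf0 yf16 zf8) (kf xf0 yf16 zf7) (kf xf0 yf16 zf20) (kf xf0 yf39 zf37) (kf xf0 yf15 zf20) (kf xf0 yf12 zf45) (kf xf0 yf16 zf4) (kf xf0 yf16 zf5) (kf xf0 yf58 zf49) (kf xf0 yf16 zf9) (kf xf0 yf12 zf48) (kf xf0 yf16 zf26) (kf xf0 yf16 zf27)) (@D3.rec (fun _ => Pt) (kf xf0 yf16 zf28) (kf xf1 yf3 zf33) (kf xf0 yf16 zf23) (kf xf1 yf3 zf38) (kf xf0 yf16 zf31) (kf xf0 yf16 zf30) (kf xf1 yf3 zf49) (kf xf1 yf3 zf54) (kf xf0 yf12 zf51) (kf xf0 yf13 zf5) (kf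 xf0 yf16 zf50) (kf xf1 yf3 zf56) (kf xf0 yf16 zf52) (kf xf0 yf16 zf53) (kf xf1 yf3 zf61) (kf xf0 yf16 zf45) (kf xf0 yf16 zf44) (kf xf0 yf12 zf55) (kf xf0 yf16 zf41) (kf xf0 yf16 zf42) (kf xf1 yf3 zf59) (kf xf0 yf16 zf55) (kf xf0 yf16 zf54) (kf xf0 yf12 zf57) (kf xf0 yf16 zf59) (kf xf0 yf16 zf61) (kf xf0 yf17 zf0) (kf xf0 yf16 zf57) (kf xf0 yf16 zf58) (kf xf1 yf4 zf29) (kf xf0 yf17 zf3) (kf xf0 yf17 zf2) (kf xf0 yf12 zf61) (kf xf0 yf17 zf8) (kf xf0 yf17 zf9) (kf xf1 yf4 zf39) (kf xf0 yf17 zf5) (kf xf0 yf17 zf6) (kf xf1 yf4 zf48) (kf xf1 yf4 zf55) (kf xf1 yf4 zf50) (kf xf1 yf4 zf49) (kf xf0 yf19 zf53) (kf xf0 yf13 zf2) (kf xf0 yf17 zf17) (kf xf0 yf17 zf16) (kf xf1 yf5 zf10) (kf xf1 yf3 zf55) (kf xf0 yf17 zf21) (kf xf0 yf17 zf20) (kf xf0 yf37 zf14) (kf xf0 yf17 zf41) (kf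 xf0 yf17 zf43) (kf xf0 yf17 zf39) (kf xf0 yf31 zf39) (kf xf1 yf5 zf25) (kf xf0 yf13 zf13) (kf xf0 yf37 zf16) (kf xf0 yf18 zf4) (kf xf0 yf41 zf8) (kf xf0 yf41 zf9) (kf xf0 yf41 zf10)) (@D3.rec (fun _ => Pt) (kf xf0 yf41 zf11) (kf xf0 yf17 zf50) (kf xf1 yf5 zf44) (kf xf0 yf57 zf36) (kf xf0 yf18 zf49) (kf xf1 yf5 zf52) (kf xf0 yf18 zf23) (kf xf0 yf18 zf22) (kf xf0 yf13 zf22) (kf xf0 yf18 zf28) (kf xf0 yf18 zf54) (kf xf0 yf18 zf55) (kf xf0 yf18 zf56) (kf xf0 yf18 zf57) (kf xf1 yf6 zf10) (kf xf1 yf6 zf14) (kf xf0 yf18 zf41) (kf xf0 yf18 zf40) (kf xf1 yf6 zf19) (kf xf0 yf13 zf27) (kf xf0 yf18 zf44) (kf xf0 yf18 zf13) (kf xf0 yf18 zf14) (kf xf0 yf18 zf15) (kf xf1 yf6 zf28) (kf xf0 yf18 zf20) (kf xf1 yf6 zf34) (kf xf0 yf18 zf52) (kf xf0 yf18 zf51) (kf xf0 yf13 zf32) (kf xf0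 yf18 zf33) (kf xf0 yf18 zf34) (kf xf0 yf18 zf35) (kf xf0 yf18 zf36) (kf xf1 yf6 zf50) (kf xf1 yf6 zf54) (kf xf1 yf6 zf56) (kf xf0 yf13 zf35) (kf xf0 yf19 zf10) (kf xf0 yf19 zf11) (kf xf0 yf19 zf12) (kf xf0 yf19 zf13) (kf xf1 yf6 zf61) (kf xf0 yf19 zf3) (kf xf0 yf19 zf4) (kf xf0 yf19 zf5) (kf xf0 yf19 zf6) (kf xf0 yf30 zf47) (kf xf1 yf6 zf59) (kf xf0 yf30 zf49) (kf xf0 yf19 zf24) (kf xf0 yf19 zf25) (kf xf0 yf19 zf26) (kf xf0 yf19 zf27) (kf xf1 yf7 zf23) (kf xf1 yf7 zf26) (kf xf0 yf30 zf56) (kf xf0 yf13 zf48) (kf xf0 yf13 zf47) (kf xf0 yf20 zf49) (kf xf1 yf7 zf34) (kf xf1 yf5 zf36)) (@D3.rec (fun _ => Pt) (kf xf0 yf13 zf46) (kf xf1 yf7 zf29) (kf xf1 yf7 zf30) (kf xf1 yf5 zf37) (kf xf0 yf31 zf4) (kf xf1 yf7 zf27) (kf xf1 yf7 zf43) (kf xf1 yf7 zf42) (kf xf1 yf7 zf57) (kf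 xf1 yf7 zf60) (kf xf0 yf13 zf49) (kf xf0 yf41 zf12) (kf xf0 yf19 zf51) (kf xf1 yf8 zf9) (kf xf0 yf19 zf49) (kf xf1 yf8 zf16) (kf xf0 yf17 zf14) (kf xf1 yf8 zf24) (kf xf0 yf19 zf56) (kf xf0 yf19 zf55) (kf xf0 yf13 zf54) (kf xf1 yf8 zf31) (kf xf0 yf19 zf59) (kf xf0 yf41 zf14) (kf xf0 yf31 zf24) (kf xf1 yf8 zf42) (kf xf1 yf8 zf46) (kf xf1 yf8 zf44) (kf xf1 yf8 zf43) (kf xf1 yf8 zf58) (kf xf0 yf13 zf59) (kf xf0 yf31 zf54) (kf xf0 yf31 zf53) (kf xf1 yf9 zf3) (kf xf0 yf13 zf60) (kf xf0 yf25 zf30) (kf xf0 yf27 zf3) (kf xf1 yf9 zf9) (kf xf0 yf31 zf60) (kf xf0 yf29 zf54) (kf xf0 yf14 zf2) (kf xf0 yf31 zf57) (kf xf0 yf14 zf4) (kf xf0 yf36 zf25) (kf xf0 yf37 zf41) (kf xf1 yf9 zf14) (kf xf0 yf14 zf7) (kf xf0 yf31 zf49) (kf xf1 yf9 zf16) (kf xf0 yf31 zf47) (kf xf1 yf9 zf17) (kf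 xf1 yf9 zf21) (kf xf0 yf14 zf11) (kf xf0 yf31 zf32) (kf xf0 yf31 zf31) (kf xf1 yf9 zf2) (kf xf0 yf14 zf12) (kf xf0 yf31 zf41) (kf xf0 yf17 zf44) (kf xf0 yf14 zf15) (kf xf0 yf31 zf38) (kf xf0 yf14 zf17)) (@D3.rec (fun _ => Pt) (kf xf0 yf33 zf40) (kf xf0 yf55 zf4) (kf xf1 yf9 zf35) (kf xf0 yf14 zf18) (kf xf0 yf32 zf10) (kf xf0 yf32 zf9) (kf xf0 yf27 zf28) (kf xf0 yf26 zf42) (kf xf0 yf14 zf21) (kf xf0 yf32 zf5) (kf xf0 yf32 zf4) (kf xf0 yf26 zf40) (kf xf0 yf27 zf30) (kf xf0 yf14 zf25) (kf xf0 yf32 zf14) (kf xf0 yf32 zf15) (kf xf1 yf9 zf44) (kf xf0 yf32 zf17) (kf xf1 yf9 zf48) (kf xf1 yf9 zf52) (kf xf1 yf9 zf50) (kf xf1 yf9 zf49) (kf xf1 yf10 zf2) (kf xf0 yf14 zf30) (kf xf0 yf54 zf46) (kf xf0 yf54 zf45) (kf xf1 yf10 zf9) (kf xf0 yf14 zf31) (kf xf0 yf54 zf52) (kf xf1 yf10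 zf17) (kf xf0 yf26 zf49) (kf xf0 yf54 zf54) (kf xf0 yf57 zf5) (kf xf0 yf14 zf35) (kf xf0 yf28 zf3) (kf xf0 yf28 zf4) (kf xf0 yf58 zf48) (kf xf0 yf54 zf49) (kf xf0 yf54 zf56) (kf xf1 yf10 zf29) (kf xf0 yf28 zf9) (kf xf1 yf10 zf32) (kf xf1 yf10 zf37) (kf xf1 yf10 zf40) (kf xf0 yf14 zf41) (kf xf0 yf14 zf49) (kf xf0 yf28 zf17) (kf xf1 yf10 zf45) (kf xf0 yf39 zf56) (kf xf0 yf39 zf55) (kf xf0 yf14 zf45) (kf xf1 yf10 zf52) (kf xf1 yf10 zf47) (kf xf1 yf10 zf46) (kf xf1 yf11 zf0) (kf xf0 yf14 zf46) (kf xf1 yf11 zf4) (kf xf0 yf14 zf47) (kf xf1 yf10 zf41) (kf xf0 yf40 zf35) (kf xf0 yf40 zf34) (kf xf0 yf32 zf61)) (@D3.rec (fun _ => Pt) (kf xf0 yf36 zf2) (kf xf0 yf33 zf1) (kf xf1 yf3 zf20) (kf xf1 yf11 zf19) (kf xf1 yf11 zf17) (kf xf1 yf11 zf16) (kf xf1 yf11 zf31) (kf xf0 yf14 zf53)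 (kf xf0 yf33 zf53) (kf xf0 yf33 zf54) (kf xf0 yf33 zf51) (kf xf0 yf33 zf52) (kf xf0 yf36 zf10) (kf xf0 yf33 zf57) (kf xf0 yf33 zf56) (kf xf1 yf11 zf54) (kf xf0 yf14 zf56) (kf xf0 yf34 zf3) (kf xf0 yf34 zf4) (kf xf0 yf34 zf6) (kf xf0 yf34 zf7) (kf xf0 yf34 zf1) (kf xf0 yf34 zf0) (kf xf0 yf34 zf9) (kf xf0 yf33 zf60) (kf xf0 yf33 zf61) (kf xf0 yf35 zf40) (kf xf0 yf34 zf2) (kf xf0 yf33 zf33) (kf xf0 yf34 zf13) (kf xf0 yf34 zf14) (kf xf1 yf3 zf37) (kf xf0 yf34 zf11) (kf xf0 yf33 zf28) (kf xf0 yf34 zf17) (kf xf0 yf34 zf16) (kf xf1 yf12 zf37) (kf xf1 yf12 zf42) (kf xf0 yf15 zf4) (kf xf0 yf33 zf41) (kf xf0 yf32 zf0) (kf xf0 yf33 zf39) (kf xf1 yf3 zf6) (kf xf0 yf33 zf44) (kf xf0 yf33 zf43) (kf xf0 yf39 zf28) (kf xf0 yf15 zf8) (kf xf0 yf55 zf47) (kf xf0 yf55 zf46) (kf xf1 yf12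 zf57) (kf xf0 yf15 zf10) (kf xf0 yf33 zf10) (kf xf0 yf33 zf11) (kf xf0 yf33 zf8) (kf xf0 yf33 zf9) (kf xf1 yf0 zf28) (kf xf0 yf33 zf14) (kf xf0 yf33 zf13) (kf xf1 yf13 zf19) (kf xf0 yf15 zf13) (kf xf0 yf33 zf24) (kf xf0 yf33 zf25)) (@D3.rec (fun _ => Pt) (kf xf0 yf33 zf22) (kf xf0 yf33 zf21) (kf xf0 yf33 zf27) (kf xf0 yf33 zf17) (kf xf0 yf33 zf18) (kf xf1 yf1 zf32) (kf xf0 yf33 zf19) (kf xf0 yf33 zf20) (kf xf1 yf2 zf47) (kf xf0 yf33 zf23) (kf xf0 yf34 zf15) (kf xf0 yf33 zf32) (kf xf0 yf36 zf56) (kf xf0 yf33 zf29) (kf xf0 yf33 zf30) (kf xf0 yf34 zf10) (kf xf0 yf33 zf35) (kf xf0 yf33 zf34) (kf xf0 yf39 zf33) (kf xf1 yf14 zf5) (kf xf0 yf15 zf23) (kf xf0 yf34 zf21) (kf xf0 yf35 zf32) (kf xf0 yf34 zf23) (kf xf0 yf34 zf24) (kf xf1 yf2 zf49) (kf xf1 yf14 zf14) (kf xf1 yf14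 zf12) (kf xf1 yf14 zf11) (kf xf1 yf14 zf26) (kf xf0 yf15 zf28) (kf xf0 yf34 zf47) (kf xf0 yf34 zf46) (kf xf1 yf14 zf33) (kf xf0 yf15 zf29) (kf xf0 yf34 zf35) (kf xf0 yf35 zf42) (kf xf0 yf34 zf37) (kf xf1 yf14 zf41) (kf xf0 yf34 zf39) (kf xf0 yf34 zf40) (kf xf1 yf14 zf47) (kf xf1 yf14 zf39) (kf xf1 yf14 zf38) (kf xf1 yf14 zf56) (kf xf0 yf15 zf34) (kf xf0 yf34 zf32) (kf xf0 yf34 zf31) (kf xf1 yf15 zf1) (kf xf0 yf15 zf35) (kf xf1 yf15 zf6) (kf xf1 yf15 zf9) (kf xf0 yf34 zf56) (kf xf1 yf15 zf14) (kf xf0 yf15 zf39) (kf xf1 yf15 zf16) (kf xf0 yf34 zf52) (kf xf1 yf15 zf21) (kf xf0 yf15 zf41) (kf xf1 yf15 zf24) (kf xf0 yf15 zf49) (kf xf0 yf15 zf48)) (@D3.rec (fun _ => Pt) (kf xf1 yf15 zf34) (kf xf0 yf15 zf43) (kf xf0 yf58 zf1) (kf xf0 yf59 zf60) (kf xf0 yf35 zf4) (kf xf1 yf15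 zf40) (kf xf1 yf15 zf22) (kf xf1 yf12 zf60) (kf xf1 yf15 zf49) (kf xf0 yf15 zf47) (kf xf0 yf35 zf15) (kf xf1 yf15 zf28) (kf xf1 yf15 zf29) (kf xf1 yf16 zf1) (kf xf1 yf15 zf25) (kf xf0 yf35 zf10) (kf xf1 yf15 zf26) (kf xf1 yf16 zf11) (kf xf1 yf15 zf32) (kf xf1 yf15 zf31) (kf xf1 yf16 zf24) (kf xf0 yf15 zf50) (kf xf0 yf39 zf16) (kf xf0 yf39 zf17) (kf xf1 yf0 zf4) (kf xf0 yf39 zf13) (kf xf0 yf39 zf14) (kf xf0 yf58 zf9) (kf xf0 yf39 zf20) (kf xf0 yf39 zf19) (kf xf1 yf16 zf45) (kf xf0 yf15 zf54) (kf xf0 yf34 zf22) (kf xf0 yf59 zf43) (kf xf1 yf2 zf50) (kf xf1 yf16 zf57) (kf xf1 yf2 zf44) (kf xf0 yf58 zf17) (kf xf1 yf2 zf52) (kf xf1 yf17 zf8) (kf xf0 yf33 zf26) (kf xf0 yf15 zf58) (kf xf0 yf34 zf36) (kf xf0 yf56 zf3) (kf xf1 yf1 zf26) (kf xf1 yf2 zf42) (kf xf1 yf17 zf24) (kf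 xf1 yf2 zf45) (kf xf1 yf17 zf31) (kf xf0 yf59 zf55) (kf xf0 yf15 zf61) (kf xf1 yf2 zf57) (kf xf1 yf2 zf58) (kf xf0 yf39 zf15) (kf xf1 yf17 zf44) (kf xf1 yf2 zf54) (kf xf1 yf2 zf55) (kf xf1 yf17 zf53) (kf xf1 yf2 zf61) (kf xf1 yf2 zf60) (kf xf1 yf18 zf2) (kf xf1 yf3 zf52)) (@D3.rec (fun _ => Pt) (kf xf0 yf16 zf2) (kf xf1 yf16 zf46) (kf xf0 yf33 zf0) (kf xf0 yf56 zf28) (kf xf1 yf3 zf21) (kf xf1 yf18 zf21) (kf xf1 yf3 zf8) (kf xf1 yf0 zf42) (kf xf1 yf3 zf23) (kf xf1 yf18 zf33) (kf xf0 yf33 zf12) (kf xf0 yf56 zf52) (kf xf0 yf16 zf6) (kf xf1 yf1 zf29) (kf xf1 yf3 zf13) (kf xf1 yf3 zf12) (kf xf1 yf3 zf14) (kf xf1 yf0 zf45) (kf xf1 yf3 zf25) (kf xf1 yf3 zf26) (kf xf1 yf18 zf54) (kf xf1 yf3 zf19) (kf xf1 yf3 zf18) (kf xf0 yf16 zf10) (kf xf0 yf39 zf34) (kf xf0 yf31 zf43) (kf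 xf0 yf36 zf27) (kf xf0 yf36 zf26) (kf xf1 yf3 zf4) (kf xf0 yf39 zf35) (kf xf0 yf16 zf16) (kf xf0 yf26 zf52) (kf xf0 yf56 zf20) (kf xf1 yf19 zf12) (kf xf1 yf3 zf9) (kf xf1 yf19 zf18) (kf xf0 yf58 zf43) (kf xf0 yf16 zf19) (kf xf1 yf3 zf15) (kf xf1 yf3 zf16) (kf xf0 yf39 zf36) (kf xf1 yf3 zf34) (kf xf1 yf3 zf35) (kf xf1 yf19 zf35) (kf xf0 yf39 zf25) (kf xf1 yf3 zf32) (kf xf1 yf3 zf31) (kf xf0 yf39 zf51) (kf xf0 yf16 zf25) (kf xf1 yf3 zf27) (kf xf1 yf3 zf28) (kf xf0 yf38 zf0) (kf xf1 yf3 zf29) (kf xf1 yf3 zf30) (kf xf1 yf19 zf42) (kf xf0 yf58 zf58) (kf xf0 yf34 zf12) (kf xf0 yf37 zf61) (kf xf0 yf16 zf29) (kf xf1 yf3 zf42) (kf xf1 yf3 zf43) (kf xf1 yf19 zf58)) (@D3.rec (fun _ => Pt) (kf xf1 yf3 zf39) (kf xf1 yf3 zf40) (kf xf1 yf20 zf5) (kf xf1 yf20 zf11) (kf xf1 yf20 zf7)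 (kf xf1 yf20 zf6) (kf xf1 yf20 zf21) (kf xf0 yf16 zf32) (kf xf1 yf3 zf51) (kf xf1 yf3 zf50) (kf xf1 yf3 zf1) (kf xf1 yf20 zf31) (kf xf0 yf16 zf33) (kf xf0 yf17 zf19) (kf xf0 yf29 zf50) (kf xf1 yf20 zf39) (kf xf0 yf29 zf57) (kf xf1 yf20 zf47) (kf xf0 yf39 zf52) (kf xf0 yf16 zf38) (kf xf0 yf39 zf4) (kf xf0 yf37 zf58) (kf xf1 yf19 zf20) (kf xf0 yf40 zf52) (kf xf0 yf37 zf59) (kf xf1 yf4 zf7) (kf xf1 yf4 zf8) (kf xf1 yf4 zf9) (kf xf1 yf4 zf10) (kf xf1 yf21 zf7) (kf xf1 yf21 zf17) (kf xf0 yf41 zf5) (kf xf0 yf41 zf2) (kf xf1 yf21 zf26) (kf xf0 yf16 zf43) (kf xf1 yf1 zf53) (kf xf1 yf4 zf4) (kf xf1 yf4 zf5) (kf xf1 yf4 zf2) (kf xf1 yf4 zf3) (kf xf1 yf18 zf58) (kf xf0 yf31 zf44) (kf xf1 yf19 zf0) (kf xf0 yf37 zf44) (kf xf0 yf37 zf43) (kf xf1 yf19 zf2) (kf xf0 yf16 zf51) (kf xf0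 yf42 zf15) (kf xf0 yf42 zf12) (kf xf1 yf3 zf60) (kf xf1 yf21 zf48) (kf xf1 yf4 zf14) (kf xf1 yf1 zf58) (kf xf1 yf4 zf13) (kf xf1 yf4 zf20) (kf xf1 yf4 zf21) (kf xf1 yf4 zf22) (kf xf1 yf4 zf23) (kf xf0 yf37 zf21) (kf xf0 yf37 zf24) (kf xf1 yf22 zf7) (kf xf0 yf36 zf57)) (@D3.rec (fun _ => Pt) (kf xf0 yf36 zf51) (kf xf1 yf5 zf14) (kf xf0 yf38 zf3) (kf xf0 yf38 zf2) (kf xf0 yf16 zf60) (kf xf1 yf4 zf15) (kf xf1 yf4 zf16) (kf xf1 yf4 zf17) (kf xf1 yf4 zf18) (kf xf1 yf5 zf15) (kf xf1 yf22 zf24) (kf xf1 yf4 zf27) (kf xf1 yf4 zf26) (kf xf1 yf22 zf31) (kf xf0 yf17 zf1) (kf xf1 yf4 zf31) (kf xf1 yf2 zf3) (kf xf1 yf4 zf30) (kf xf1 yf4 zf40) (kf xf1 yf4 zf41) (kf xf1 yf4 zf42) (kf xf1 yf4 zf43) (kf xf1 yf4 zf44) (kf xf1 yf22 zf57) (kf xf1 yf6 zf60) (kf xf1 yf23 zf0) (kf xf0 yf17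 zf7) (kf xf1 yf4 zf32) (kf xf1 yf4 zf33) (kf xf1 yf4 zf34) (kf xf1 yf1 zf60) (kf xf1 yf4 zf35) (kf xf1 yf23 zf20) (kf xf1 yf23 zf24) (kf xf1 yf23 zf26) (kf xf0 yf17 zf10) (kf xf0 yf17 zf13) (kf xf0 yf17 zf12) (kf xf0 yf38 zf44) (kf xf1 yf23 zf39) (kf xf1 yf23 zf43) (kf xf1 yf23 zf46) (kf xf0 yf17 zf11) (kf xf1 yf23 zf28) (kf xf0 yf38 zf38) (kf xf1 yf23 zf29) (kf xf1 yf23 zf58) (kf xf1 yf8 zf19) (kf xf1 yf8 zf17) (kf xf1 yf8 zf18) (kf xf1 yf7 zf54) (kf xf1 yf24 zf11) (kf xf1 yf20 zf22) (kf xf1 yf5 zf6) (kf xf1 yf24 zf21) (kf xf1 yf5 zf4) (kf xf1 yf24 zf28) (kf xf1 yf5 zf9) (kf xf1 yf5 zf8) (kf xf0 yf17 zf18) (kf xf1 yf5 zf12) (kf xf1 yf5 zf11)) (@D3.rec (fun _ => Pt) (kf xf1 yf20 zf33) (kf xf1 yf5 zf17) (kf xf1 yf5 zf18) (kf xf1 yf5 zf16) (kf xf0 yf37 zf20) (kf xf0 yf39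 zf5) (kf xf0 yf59 zf50) (kf xf0 yf58 zf11) (kf xf1 yf24 zf57) (kf xf1 yf24 zf55) (kf xf1 yf24 zf54) (kf xf1 yf25 zf7) (kf xf0 yf17 zf33) (kf xf0 yf35 zf25) (kf xf0 yf35 zf26) (kf xf0 yf35 zf53) (kf xf0 yf35 zf22) (kf xf0 yf35 zf23) (kf xf0 yf59 zf58) (kf xf0 yf35 zf29) (kf xf0 yf35 zf28) (kf xf1 yf25 zf27) (kf xf0 yf17 zf36) (kf xf0 yf57 zf20) (kf xf0 yf57 zf21) (kf xf0 yf36 zf44) (kf xf1 yf5 zf22) (kf xf1 yf5 zf19) (kf xf0 yf33 zf45) (kf xf1 yf9 zf15) (kf xf0 yf57 zf18) (kf xf0 yf57 zf19) (kf xf0 yf58 zf46) (kf xf0 yf34 zf18) (kf xf0 yf36 zf24) (kf xf0 yf36 zf29) (kf xf0 yf36 zf40) (kf xf0 yf28 zf52) (kf xf0 yf57 zf4) (kf xf0 yf57 zf3) (kf xf1 yf25 zf54) (kf xf1 yf25 zf59) (kf xf0 yf17 zf47) (kf xf0 yf17 zf52) (kf xf1 yf26 zf4) (kf xf1 yf26 zf0) (kf xf1 yf25 zf61)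 (kf xf1 yf5 zf40) (kf xf0 yf17 zf49) (kf xf1 yf26 zf13) (kf xf1 yf25 zf60) (kf xf0 yf36 zf47) (kf xf0 yf37 zf18) (kf xf0 yf28 zf21) (kf xf1 yf26 zf21) (kf xf0 yf32 zf49) (kf xf0 yf32 zf48) (kf xf0 yf17 zf56) (kf xf0 yf45 zf18) (kf xf0 yf45 zf19) (kf xf0 yf45 zf20) (kf xf1 yf26 zf30)) (@D3.rec (fun _ => Pt) (kf xf1 yf8 zf36) (kf xf0 yf17 zf58) (kf xf0 yf45 zf13) (kf xf0 yf45 zf14) (kf xf0 yf45 zf15) (kf xf0 yf45 zf4) (kf xf0 yf45 zf5) (kf xf0 yf18 zf1) (kf xf0 yf18 zf0) (kf xf1 yf26 zf46) (kf xf0 yf49 zf3) (kf xf1 yf26 zf50) (kf xf0 yf17 zf61) (kf xf1 yf26 zf41) (kf xf0 yf45 zf39) (kf xf0 yf44 zf28) (kf xf1 yf26 zf39) (kf xf0 yf19 zf36) (kf xf0 yf19 zf40) (kf xf1 yf27 zf6) (kf xf1 yf27 zf9) (kf xf0 yf18 zf2) (kf xf0 yf19 zf48) (kf xf1 yf5 zf28) (kf xf1 yf27 zf18) (kf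 xf1 yf5 zf43) (kf xf1 yf5 zf42) (kf xf0 yf18 zf5) (kf xf1 yf27 zf27) (kf xf0 yf19 zf61) (kf xf0 yf24 zf39) (kf xf1 yf27 zf35) (kf xf0 yf24 zf55) (kf xf1 yf27 zf41) (kf xf0 yf32 zf60) (kf xf0 yf32 zf59) (kf xf0 yf18 zf10) (kf xf0 yf25 zf0) (kf xf1 yf27 zf50) (kf xf0 yf55 zf21) (kf xf1 yf27 zf56) (kf xf1 yf1 zf49) (kf xf1 yf28 zf0) (kf xf1 yf1 zf48) (kf xf0 yf42 zf0) (kf xf1 yf6 zf23) (kf xf1 yf6 zf24) (kf xf1 yf28 zf15) (kf xf1 yf27 zf55) (kf xf1 yf27 zf54) (kf xf0 yf18 zf16) (kf xf1 yf28 zf23) (kf xf0 yf37 zf23) (kf xf1 yf28 zf29) (kf xf1 yf5 zf46) (kf xf1 yf5 zf45) (kf xf0 yf18 zf19) (kf xf1 yf6 zf29) (kf xf1 yf6 zf30) (kf xf1 yf6 zf31) (kf xf1 yf28 zf43) (kf xf1 yf28 zf47)) (@D3.rec (fun _ => Pt) (kf xf0 yf18 zf21) (kf xf1 yf5 zf55) (kf xf0 yf37 zf32) (kf xf1 yf5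 zf56) (kf xf1 yf26 zf22) (kf xf0 yf37 zf31) (kf xf1 yf5 zf53) (kf xf1 yf28 zf58) (kf xf0 yf29 zf59) (kf xf0 yf29 zf60) (kf xf0 yf29 zf61) (kf xf0 yf30 zf0) (kf xf0 yf31 zf11) (kf xf1 yf29 zf10) (kf xf0 yf31 zf23) (kf xf1 yf5 zf58) (kf xf1 yf5 zf59) (kf xf1 yf5 zf60) (kf xf0 yf42 zf58) (kf xf0 yf42 zf41) (kf xf1 yf29 zf29) (kf xf0 yf42 zf42) (kf xf0 yf47 zf10) (kf xf0 yf46 zf58) (kf xf0 yf47 zf52) (kf xf0 yf42 zf60) (kf xf1 yf29 zf39) (kf xf1 yf6 zf37) (kf xf1 yf6 zf38) (kf xf0 yf42 zf54) (kf xf0 yf42 zf50) (kf xf1 yf6 zf39) (kf xf1 yf6 zf40) (kf xf0 yf42 zf55) (kf xf1 yf6 zf42) (kf xf1 yf29 zf58) (kf xf1 yf6 zf44) (kf xf1 yf6 zf45) (kf xf1 yf6 zf46) (kf xf1 yf30 zf10) (kf xf1 yf29 zf56) (kf xf1 yf29 zf55) (kf xf1 yf30 zf19) (kf xf0 yf18 zf37) (kf xf0 yf45 zf11) (kf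 xf1 yf30 zf24) (kf xf1 yf6 zf12) (kf xf1 yf6 zf11) (kf xf1 yf30 zf36) (kf xf0 yf18 zf39) (kf xf1 yf6 zf16) (kf xf1 yf6 zf17) (kf xf0 yf48 zf46) (kf xf1 yf6 zf15) (kf xf0 yf42 zf40) (kf xf1 yf30 zf52) (kf xf0 yf18 zf42) (kf xf0 yf20 zf6) (kf xf1 yf6 zf20) (kf xf1 yf6 zf21) (kf xf0 yf48 zf53) (kf xf0 yf48 zf54)) (@D3.rec (fun _ => Pt) (kf xf0 yf40 zf44) (kf xf1 yf1 zf50) (kf xf1 yf1 zf51) (kf xf1 yf31 zf12) (kf xf0 yf42 zf14) (kf xf0 yf18 zf48) (kf xf1 yf5 zf47) (kf xf1 yf5 zf48) (kf xf1 yf5 zf49) (kf xf1 yf20 zf41) (kf xf1 yf31 zf24) (kf xf0 yf18 zf50) (kf xf0 yf37 zf48) (kf xf1 yf6 zf36) (kf xf0 yf42 zf4) (kf xf0 yf37 zf47) (kf xf1 yf6 zf35) (kf xf0 yf27 zf40) (kf xf0 yf46 zf2) (kf xf1 yf5 zf61) (kf xf0 yf43 zf6) (kf xf0 yf47 zf0) (kf xf1 yf6 zf0) (kf xf0 yf43 zf7)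 (kf xf0 yf42 zf32) (kf xf1 yf6 zf1) (kf xf1 yf31 zf43) (kf xf1 yf6 zf3) (kf xf1 yf6 zf4) (kf xf1 yf6 zf5) (kf xf1 yf24 zf30) (kf xf1 yf6 zf58) (kf xf0 yf42 zf24) (kf xf1 yf31 zf60) (kf xf0 yf18 zf58) (kf xf1 yf6 zf52) (kf xf1 yf6 zf51) (kf xf1 yf32 zf9) (kf xf0 yf18 zf59) (kf xf0 yf45 zf32) (kf xf0 yf41 zf54) (kf xf0 yf41 zf19) (kf xf0 yf41 zf21) (kf xf1 yf30 zf51) (kf xf0 yf19 zf0) (kf xf0 yf45 zf8) (kf xf0 yf45 zf9) (kf xf0 yf45 zf10) (kf xf1 yf7 zf2) (kf xf1 yf7 zf3) (kf xf0 yf41 zf30) (kf xf1 yf7 zf4) (kf xf1 yf7 zf5) (kf xf1 yf7 zf6) (kf xf0 yf41 zf29) (kf xf0 yf41 zf33) (kf xf1 yf7 zf8) (kf xf1 yf32 zf33) (kf xf0 yf41 zf18) (kf xf1 yf32 zf50) (kf xf0 yf41 zf25) (kf xf1 yf32 zf56)) (@D3.rec (fun _ => Pt) (kf xf1 yf7 zf1) (kf xf1 yf7 zf0) (kf xf0 yf19 zf9) (kf xf1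 yf6 zf57) (kf xf0 yf23 zf23) (kf xf0 yf51 zf1) (kf xf0 yf42 zf20) (kf xf0 yf42 zf23) (kf xf0 yf43 zf8) (kf xf0 yf43 zf9) (kf xf0 yf43 zf10) (kf xf0 yf43 zf11) (kf xf0 yf43 zf12) (kf xf0 yf43 zf13) (kf xf0 yf43 zf14) (kf xf0 yf43 zf15) (kf xf0 yf46 zf17) (kf xf0 yf51 zf2) (kf xf1 yf26 zf24) (kf xf0 yf51 zf3) (kf xf0 yf51 zf4) (kf xf0 yf50 zf59) (kf xf0 yf51 zf6) (kf xf0 yf51 zf7) (kf xf0 yf51 zf8) (kf xf1 yf33 zf42) (kf xf1 yf7 zf22) (kf xf1 yf7 zf21) (kf xf0 yf19 zf23) (kf xf1 yf7 zf11) (kf xf1 yf7 zf12) (kf xf1 yf7 zf14) (kf xf1 yf7 zf15) (kf xf1 yf26 zf34) (kf xf1 yf7 zf16) (kf xf0 yf43 zf35) (kf xf1 yf7 zf17) (kf xf1 yf7 zf18) (kf xf1 yf7 zf19) (kf xf0 yf43 zf39) (kf xf0 yf43 zf40) (kf xf1 yf7 zf25) (kf xf1 yf7 zf24) (kf xf0 yf19 zf30) (kf xf0 yf43 zf44) (kf xf0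 yf19 zf42) (kf xf1 yf26 zf40) (kf xf0 yf19 zf38) (kf xf1 yf32 zf26) (kf xf1 yf32 zf21) (kf xf1 yf26 zf58) (kf xf0 yf19 zf34) (kf xf0 yf46 zf8) (kf xf0 yf46 zf18) (kf xf1 yf34 zf27) (kf xf0 yf19 zf35) (kf xf1 yf26 zf59) (kf xf1 yf34 zf19) (kf xf0 yf43 zf58) (kf xf1 yf33 zf3) (kf xf0 yf46 zf11) (kf xf1 yf26 zf60)) (@D3.rec (fun _ => Pt) (kf xf0 yf44 zf0) (kf xf0 yf46 zf9) (kf xf0 yf44 zf2) (kf xf1 yf26 zf61) (kf xf1 yf34 zf17) (kf xf0 yf44 zf5) (kf xf0 yf44 zf6) (kf xf0 yf19 zf44) (kf xf0 yf19 zf43) (kf xf1 yf34 zf13) (kf xf1 yf34 zf57) (kf xf1 yf34 zf47) (kf xf1 yf34 zf48) (kf xf1 yf35 zf7) (kf xf1 yf34 zf44) (kf xf1 yf34 zf45) (kf xf1 yf35 zf17) (kf xf1 yf34 zf51) (kf xf1 yf34 zf50) (kf xf1 yf5 zf1) (kf xf1 yf35 zf33) (kf xf1 yf35 zf37) (kf xf0 yf19 zf45) (kf xf1 yf34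 zf56) (kf xf1 yf34 zf55) (kf xf0 yf19 zf46) (kf xf1 yf35 zf46) (kf xf1 yf27 zf11) (kf xf0 yf40 zf15) (kf xf1 yf27 zf12) (kf xf1 yf8 zf10) (kf xf1 yf8 zf11) (kf xf1 yf36 zf5) (kf xf1 yf8 zf7) (kf xf1 yf8 zf6) (kf xf1 yf36 zf14) (kf xf0 yf19 zf50) (kf xf1 yf8 zf3) (kf xf1 yf8 zf4) (kf xf1 yf36 zf23) (kf xf1 yf8 zf14) (kf xf1 yf8 zf13) (kf xf1 yf36 zf31) (kf xf0 yf19 zf52) (kf xf1 yf4 zf61) (kf xf1 yf5 zf0) (kf xf1 yf4 zf60) (kf xf1 yf36 zf41) (kf xf1 yf8 zf22) (kf xf1 yf8 zf21) (kf xf1 yf36 zf51) (kf xf0 yf19 zf54) (kf xf1 yf8 zf28) (kf xf1 yf8 zf29) (kf xf0 yf44 zf55) (kf xf0 yf44 zf54) (kf xf1 yf8 zf25) (kf xf1 yf8 zf26) (kf xf1 yf8 zf27) (kf xf1 yf37 zf14) (kf xf0 yf19 zf58) (kf xf1 yf8 zf33)) (@D3.rec (fun _ => Pt) (kf xf1 yf8 zf32) (kf xf1 yf37 zf15) (kf xf0 yf54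 zf16) (kf xf1 yf8 zf35) (kf xf0 yf40 zf5) (kf xf0 yf40 zf6) (kf xf0 yf45 zf17) (kf xf1 yf27 zf31) (kf xf0 yf42 zf45) (kf xf0 yf42 zf46) (kf xf0 yf42 zf47) (kf xf0 yf41 zf44) (kf xf1 yf37 zf40) (kf xf0 yf40 zf2) (kf xf0 yf40 zf3) (kf xf0 yf40 zf4) (kf xf1 yf30 zf54) (kf xf0 yf45 zf6) (kf xf0 yf39 zf58) (kf xf0 yf39 zf59) (kf xf0 yf39 zf60) (kf xf0 yf20 zf16) (kf xf0 yf52 zf0) (kf xf0 yf51 zf34) (kf xf0 yf51 zf35) (kf xf0 yf45 zf25) (kf xf1 yf37 zf48) (kf xf1 yf37 zf58) (kf xf1 yf37 zf57) (kf xf1 yf38 zf10) (kf xf1 yf38 zf13) (kf xf0 yf20 zf17) (kf xf0 yf42 zf39) (kf xf0 yf55 zf2) (kf xf1 yf36 zf57) (kf xf1 yf37 zf39) (kf xf1 yf37 zf38) (kf xf0 yf20 zf20) (kf xf1 yf38 zf28) (kf xf0 yf40 zf14) (kf xf0 yf47 zf48) (kf xf0 yf48 zf44) (kf xf0 yf47 zf49) (kf xf0 yf47 zf50)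 (kf xf0 yf46 zf43) (kf xf0 yf47 zf34) (kf xf0 yf20 zf46) (kf xf0 yf20 zf50) (kf xf0 yf47 zf24) (kf xf1 yf38 zf52) (kf xf0 yf45 zf51) (kf xf0 yf45 zf50) (kf xf0 yf20 zf27) (kf xf0 yf46 zf0) (kf xf0 yf22 zf44) (kf xf0 yf46 zf1) (kf xf1 yf39 zf1) (kf xf1 yf38 zf61) (kf xf0 yf51 zf27) (kf xf0 yf54 zf17) (kf xf0 yf20 zf34) (kf xf0 yf50 zf41)) (@D3.rec (fun _ => Pt) (kf xf0 yf45 zf53) (kf xf0 yf45 zf55) (kf xf0 yf42 zf18) (kf xf0 yf22 zf61) (kf xf0 yf50 zf57) (kf xf0 yf50 zf13) (kf xf0 yf47 zf53) (kf xf0 yf20 zf48) (kf xf0 yf43 zf52) (kf xf0 yf44 zf1) (kf xf0 yf50 zf21) (kf xf0 yf43 zf60) (kf xf0 yf51 zf9) (kf xf0 yf20 zf45) (kf xf1 yf38 zf42) (kf xf1 yf39 zf32) (kf xf0 yf46 zf16) (kf xf0 yf43 zf16) (kf xf0 yf43 zf53) (kf xf0 yf50 zf45) (kf xf1 yf38 zf44) (kf xf0 yf46 zf21)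 (kf xf1 yf7 zf31) (kf xf0 yf46 zf23) (kf xf1 yf38 zf45) (kf xf1 yf39 zf6) (kf xf0 yf46 zf26) (kf xf0 yf52 zf54) (kf xf1 yf39 zf52) (kf xf0 yf52 zf50) (kf xf0 yf53 zf51) (kf xf1 yf39 zf60) (kf xf0 yf53 zf53) (kf xf0 yf53 zf54) (kf xf1 yf40 zf7) (kf xf0 yf52 zf53) (kf xf0 yf52 zf26) (kf xf0 yf52 zf55) (kf xf1 yf40 zf21) (kf xf1 yf39 zf51) (kf xf1 yf39 zf50) (kf xf0 yf20 zf56) (kf xf0 yf47 zf54) (kf xf0 yf45 zf44) (kf xf0 yf47 zf55) (kf xf0 yf46 zf48) (kf xf0 yf46 zf47) (kf xf0 yf46 zf46) (kf xf0 yf46 zf45) (kf xf0 yf24 zf31) (kf xf0 yf24 zf26) (kf xf0 yf21 zf9) (kf xf0 yf23 zf14) (kf xf0 yf21 zf6) (kf xf0 yf21 zf7) (kf xf0 yf48 zf55) (kf xf0 yf47 zf60) (kf xf1 yf39 zf12) (kf xf0 yf41 zf23) (kf xf1 yf40 zf58) (kf xf0 yf21 zf2) (kf xf0 yf48 zf6)) (@D3.rec (fun _ => Pt)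 (kf xf0 yf42 zf21) (kf xf1 yf41 zf1) (kf xf1 yf41 zf3) (kf xf1 yf41 zf7) (kf xf0 yf21 zf3) (kf xf0 yf48 zf56) (kf xf1 yf41 zf9) (kf xf0 yf21 zf4) (kf xf0 yf48 zf61) (kf xf0 yf53 zf19) (kf xf0 yf41 zf22) (kf xf1 yf37 zf61) (kf xf0 yf53 zf20) (kf xf0 yf50 zf8) (kf xf1 yf40 zf45) (kf xf1 yf41 zf20) (kf xf0 yf23 zf20) (kf xf0 yf23 zf27) (kf xf0 yf49 zf31) (kf xf0 yf23 zf31) (kf xf0 yf23 zf36) (kf xf1 yf41 zf36) (kf xf1 yf34 zf25) (kf xf1 yf34 zf38) (kf xf0 yf45 zf48) (kf xf1 yf41 zf49) (kf xf1 yf41 zf53) (kf xf0 yf21 zf12) (kf xf1 yf41 zf19) (kf xf1 yf41 zf18) (kf xf0 yf21 zf13) (kf xf1 yf42 zf1) (kf xf0 yf23 zf59) (kf xf0 yf23 zf61) (kf xf0 yf45 zf45) (kf xf1 yf42 zf11) (kf xf0 yf47 zf37) (kf xf0 yf47 zf36) (kf xf0 yf21 zf17) (kf xf0 yf47 zf43) (kf xf0 yf47 zf44) (kf xf0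 yf47 zf45) (kf xf1 yf42 zf23) (kf xf0 yf47 zf39) (kf xf0 yf47 zf40) (kf xf0 yf47 zf41) (kf xf0 yf49 zf37) (kf xf0 yf21 zf21) (kf xf0 yf45 zf40) (kf xf0 yf45 zf42) (kf xf0 yf45 zf43) (kf xf0 yf48 zf47) (kf xf0 yf41 zf24) (kf xf0 yf46 zf6) (kf xf0 yf46 zf42) (kf xf0 yf46 zf44) (kf xf0 yf48 zf58) (kf xf0 yf48 zf59) (kf xf0 yf48 zf60) (kf xf0 yf49 zf42) (kf xf0 yf46 zf56) (kf xf0 yf49 zf0)) (@D3.rec (fun _ => Pt) (kf xf0 yf49 zf45) (kf xf0 yf49 zf1) (kf xf1 yf42 zf56) (kf xf0 yf22 zf5) (kf xf0 yf49 zf46) (kf xf0 yf49 zf4) (kf xf0 yf46 zf61) (kf xf0 yf49 zf5) (kf xf0 yf49 zf7) (kf xf0 yf49 zf9) (kf xf1 yf43 zf3) (kf xf0 yf49 zf12) (kf xf1 yf43 zf10) (kf xf0 yf21 zf43) (kf xf0 yf21 zf42) (kf xf1 yf42 zf57) (kf xf0 yf21 zf37) (kf xf0 yf49 zf15) (kf xf0 yf49 zf16) (kf xf1 yf43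 zf22) (kf xf0 yf49 zf18) (kf xf0 yf49 zf19) (kf xf1 yf40 zf40) (kf xf0 yf49 zf21) (kf xf0 yf49 zf22) (kf xf0 yf49 zf23) (kf xf1 yf43 zf41) (kf xf1 yf43 zf8) (kf xf1 yf43 zf7) (kf xf0 yf53 zf46) (kf xf0 yf21 zf41) (kf xf1 yf43 zf12) (kf xf1 yf43 zf13) (kf xf1 yf43 zf11) (kf xf1 yf39 zf2) (kf xf0 yf23 zf37) (kf xf0 yf49 zf11) (kf xf1 yf44 zf9) (kf xf0 yf21 zf44) (kf xf0 yf48 zf41) (kf xf0 yf48 zf42) (kf xf0 yf48 zf39) (kf xf0 yf48 zf40) (kf xf0 yf54 zf15) (kf xf0 yf45 zf41) (kf xf0 yf48 zf48) (kf xf0 yf41 zf52) (kf xf0 yf47 zf51) (kf xf0 yf48 zf45) (kf xf0 yf23 zf10) (kf xf1 yf44 zf29) (kf xf0 yf21 zf53) (kf xf0 yf53 zf47) (kf xf0 yf41 zf60) (kf xf0 yf41 zf61) (kf xf0 yf46 zf55) (kf xf0 yf47 zf5) (kf xf0 yf22 zf36) (kf xf0 yf47 zf56) (kf xf0 yf47 zf57) (kf xf0 yf47 zf58)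 (kf xf0 yf47 zf8)) (@D3.rec (fun _ => Pt) (kf xf0 yf47 zf61) (kf xf0 yf48 zf1) (kf xf1 yf44 zf47) (kf xf0 yf40 zf10) (kf xf0 yf48 zf5) (kf xf0 yf48 zf7) (kf xf0 yf49 zf29) (kf xf0 yf48 zf8) (kf xf0 yf49 zf30) (kf xf0 yf48 zf9) (kf xf1 yf44 zf59) (kf xf0 yf48 zf36) (kf xf0 yf48 zf11) (kf xf1 yf45 zf4) (kf xf0 yf52 zf10) (kf xf0 yf48 zf17) (kf xf0 yf48 zf18) (kf xf1 yf40 zf35) (kf xf0 yf48 zf20) (kf xf0 yf48 zf21) (kf xf1 yf45 zf17) (kf xf0 yf48 zf23) (kf xf0 yf48 zf24) (kf xf0 yf48 zf25) (kf xf1 yf45 zf30) (kf xf1 yf45 zf2) (kf xf1 yf45 zf1) (kf xf1 yf45 zf40) (kf xf0 yf22 zf9) (kf xf0 yf49 zf6) (kf xf0 yf49 zf8) (kf xf0 yf47 zf18) (kf xf1 yf45 zf48) (kf xf0 yf22 zf11) (kf xf0 yf49 zf35) (kf xf0 yf49 zf34) (kf xf0 yf54 zf18) (kf xf0 yf47 zf46) (kf xf1 yf42 zf30) (kf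 xf0 yf22 zf15) (kf xf0 yf49 zf58) (kf xf1 yf42 zf22) (kf xf0 yf47 zf59) (kf xf0 yf23 zf17) (kf xf0 yf49 zf61) (kf xf0 yf48 zf0) (kf xf0 yf48 zf4) (kf xf0 yf23 zf22) (kf xf0 yf50 zf0) (kf xf0 yf50 zf1) (kf xf1 yf46 zf10) (kf xf0 yf50 zf3) (kf xf0 yf50 zf4) (kf xf0 yf50 zf5) (kf xf1 yf46 zf20) (kf xf1 yf46 zf9) (kf xf1 yf46 zf8) (kf xf0 yf22 zf26) (kf xf0 yf49 zf40) (kf xf1 yf42 zf21) (kf xf0 yf23 zf30) (kf xf0 yf49 zf44)) (@D3.rec (fun _ => Pt) (kf xf0 yf49 zf48) (kf xf0 yf49 zf49) (kf xf1 yf44 zf35) (kf xf0 yf49 zf51) (kf xf0 yf49 zf52) (kf xf0 yf49 zf53) (kf xf1 yf44 zf36) (kf xf1 yf42 zf6) (kf xf0 yf47 zf13) (kf xf0 yf50 zf9) (kf xf0 yf50 zf10) (kf xf0 yf50 zf11) (kf xf0 yf50 zf12) (kf xf0 yf46 zf5) (kf xf1 yf45 zf55) (kf xf0 yf50 zf46) (kf xf0 yf50 zf47) (kf xf1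 yf38 zf59) (kf xf0 yf50 zf48) (kf xf1 yf47 zf6) (kf xf1 yf38 zf60) (kf xf0 yf46 zf10) (kf xf0 yf50 zf51) (kf xf0 yf50 zf53) (kf xf0 yf50 zf55) (kf xf0 yf54 zf10) (kf xf0 yf50 zf61) (kf xf1 yf47 zf20) (kf xf0 yf51 zf13) (kf xf1 yf42 zf15) (kf xf0 yf51 zf15) (kf xf0 yf51 zf16) (kf xf1 yf47 zf31) (kf xf0 yf51 zf18) (kf xf0 yf51 zf19) (kf xf0 yf51 zf20) (kf xf1 yf47 zf45) (kf xf1 yf47 zf19) (kf xf1 yf47 zf18) (kf xf0 yf22 zf52) (kf xf0 yf50 zf43) (kf xf0 yf45 zf61) (kf xf1 yf44 zf13) (kf xf0 yf50 zf40) (kf xf1 yf42 zf13) (kf xf0 yf46 zf19) (kf xf0 yf50 zf15) (kf xf0 yf50 zf16) (kf xf0 yf50 zf18) (kf xf0 yf54 zf4) (kf xf0 yf23 zf18) (kf xf0 yf50 zf22) (kf xf1 yf39 zf13) (kf xf0 yf50 zf23) (kf xf1 yf31 zf52) (kf xf0 yf50 zf24) (kf xf1 yf48 zf23) (kf xf0 yf46 zf4) (kf xf1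 yf39 zf14) (kf xf0 yf43 zf21) (kf xf0 yf50 zf60) (kf xf0 yf50 zf26)) (@D3.rec (fun _ => Pt) (kf xf1 yf44 zf24) (kf xf0 yf43 zf5) (kf xf0 yf43 zf17) (kf xf0 yf43 zf19) (kf xf0 yf43 zf20) (kf xf1 yf37 zf47) (kf xf0 yf43 zf22) (kf xf0 yf43 zf23) (kf xf0 yf43 zf24) (kf xf0 yf46 zf12) (kf xf0 yf51 zf10) (kf xf0 yf51 zf11) (kf xf0 yf51 zf12) (kf xf0 yf50 zf28) (kf xf1 yf48 zf57) (kf xf0 yf50 zf30) (kf xf0 yf50 zf31) (kf xf1 yf42 zf24) (kf xf0 yf50 zf33) (kf xf0 yf50 zf34) (kf xf0 yf50 zf35) (kf xf1 yf44 zf25) (kf xf1 yf42 zf37) (kf xf1 yf38 zf39) (kf xf0 yf51 zf24) (kf xf0 yf51 zf25) (kf xf0 yf51 zf26) (kf xf0 yf45 zf58) (kf xf0 yf23 zf41) (kf xf1 yf49 zf24) (kf xf1 yf40 zf47) (kf xf0 yf23 zf34) (kf xf1 yf45 zf60) (kf xf1 yf41 zf21) (kf xf0 yf45 zf23) (kf xf0 yf45 zf24) (kf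 xf1 yf40 zf51) (kf xf1 yf41 zf22) (kf xf1 yf49 zf38) (kf xf0 yf51 zf39) (kf xf1 yf46 zf3) (kf xf1 yf40 zf60) (kf xf1 yf31 zf46) (kf xf1 yf49 zf47) (kf xf0 yf23 zf24) (kf xf1 yf40 zf59) (kf xf1 yf33 zf9) (kf xf1 yf27 zf1) (kf xf1 yf49 zf56) (kf xf0 yf23 zf25) (kf xf0 yf51 zf50) (kf xf1 yf41 zf24) (kf xf1 yf41 zf25) (kf xf1 yf41 zf26) (kf xf1 yf41 zf27) (kf xf1 yf50 zf10) (kf xf1 yf41 zf35) (kf xf0 yf23 zf28) (kf xf1 yf41 zf29) (kf xf0 yf51 zf59) (kf xf1 yf41 zf30) (kf xf1 yf43 zf61)) (@D3.rec (fun _ => Pt) (kf xf0 yf45 zf22) (kf xf0 yf52 zf1) (kf xf1 yf27 zf2) (kf xf1 yf32 zf24) (kf xf0 yf52 zf4) (kf xf0 yf52 zf5) (kf xf0 yf52 zf6) (kf xf1 yf41 zf32) (kf xf1 yf41 zf33) (kf xf1 yf44 zf1) (kf xf0 yf49 zf14) (kf xf0 yf23 zf46) (kf xf0 yf23 zf47) (kf xf1 yf45 zf35) (kf xf0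 yf23 zf43) (kf xf0 yf23 zf44) (kf xf1 yf43 zf50) (kf xf0 yf23 zf50) (kf xf0 yf23 zf49) (kf xf1 yf49 zf20) (kf xf1 yf35 zf31) (kf xf1 yf50 zf60) (kf xf0 yf23 zf56) (kf xf0 yf23 zf55) (kf xf0 yf23 zf42) (kf xf1 yf48 zf10) (kf xf0 yf46 zf36) (kf xf1 yf51 zf11) (kf xf1 yf43 zf23) (kf xf1 yf50 zf36) (kf xf1 yf50 zf42) (kf xf1 yf50 zf43) (kf xf1 yf51 zf26) (kf xf1 yf50 zf40) (kf xf0 yf53 zf32) (kf xf0 yf23 zf45) (kf xf1 yf44 zf39) (kf xf1 yf45 zf7) (kf xf1 yf51 zf40) (kf xf1 yf50 zf37) (kf xf1 yf50 zf38) (kf xf1 yf51 zf50) (kf xf1 yf43 zf9) (kf xf1 yf51 zf56) (kf xf0 yf23 zf48) (kf xf1 yf50 zf48) (kf xf1 yf44 zf48) (kf xf1 yf50 zf49) (kf xf1 yf52 zf5) (kf xf1 yf50 zf45) (kf xf0 yf46 zf29) (kf xf1 yf50 zf46) (kf xf1 yf52 zf15) (kf xf0 yf46 zf35) (kf xf0 yf46 zf27) (kf xf0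 yf46 zf37) (kf xf1 yf52 zf27) (kf xf1 yf41 zf38) (kf xf1 yf41 zf41) (kf xf1 yf34 zf53) (kf xf1 yf52 zf37) (kf xf0 yf23 zf52)) (@D3.rec (fun _ => Pt) (kf xf1 yf50 zf58) (kf xf1 yf50 zf57) (kf xf1 yf52 zf50) (kf xf0 yf23 zf53) (kf xf1 yf52 zf51) (kf xf1 yf51 zf2) (kf xf1 yf51 zf3) (kf xf0 yf53 zf8) (kf xf0 yf53 zf7) (kf xf1 yf50 zf61) (kf xf1 yf51 zf0) (kf xf1 yf51 zf1) (kf xf1 yf53 zf15) (kf xf0 yf23 zf58) (kf xf1 yf42 zf55) (kf xf1 yf49 zf22) (kf xf1 yf53 zf16) (kf xf1 yf42 zf4) (kf xf1 yf42 zf5) (kf xf0 yf47 zf9) (kf xf0 yf47 zf12) (kf xf1 yf40 zf50) (kf xf1 yf42 zf7) (kf xf0 yf53 zf36) (kf xf1 yf53 zf39) (kf xf0 yf53 zf38) (kf xf0 yf53 zf39) (kf xf0 yf53 zf40) (kf xf1 yf53 zf49) (kf xf1 yf53 zf38) (kf xf1 yf53 zf37) (kf xf0 yf24 zf2) (kf xf0 yf52 zf34) (kf xf0 yf53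 zf34) (kf xf0 yf53 zf33) (kf xf0 yf54 zf2) (kf xf0 yf53 zf23) (kf xf1 yf54 zf4) (kf xf0 yf53 zf25) (kf xf0 yf53 zf26) (kf xf0 yf53 zf27) (kf xf1 yf54 zf14) (kf xf1 yf54 zf2) (kf xf1 yf54 zf1) (kf xf1 yf54 zf23) (kf xf0 yf24 zf8) (kf xf0 yf48 zf29) (kf xf0 yf48 zf52) (kf xf0 yf53 zf49) (kf xf0 yf53 zf48) (kf xf0 yf24 zf10) (kf xf0 yf46 zf30) (kf xf1 yf45 zf50) (kf xf0 yf46 zf32) (kf xf0 yf46 zf33) (kf xf1 yf44 zf14) (kf xf1 yf54 zf35) (kf xf1 yf48 zf56) (kf xf1 yf54 zf33) (kf xf1 yf54 zf43) (kf xf0 yf24 zf15) (kf xf0 yf54 zf1)) (@D3.rec (fun _ => Pt) (kf xf0 yf24 zf28) (kf xf0 yf53 zf61) (kf xf0 yf53 zf35) (kf xf0 yf24 zf18) (kf xf0 yf50 zf49) (kf xf0 yf54 zf11) (kf xf0 yf54 zf12) (kf xf0 yf54 zf8) (kf xf0 yf54 zf7) (kf xf0 yf54 zf14) (kf xf0 yf50 zf25) (kf xf0 yf54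 zf5) (kf xf0 yf54 zf6) (kf xf1 yf40 zf44) (kf xf0 yf54 zf9) (kf xf0 yf48 zf43) (kf xf0 yf45 zf2) (kf xf0 yf45 zf59) (kf xf0 yf49 zf36) (kf xf1 yf40 zf43) (kf xf1 yf55 zf11) (kf xf0 yf28 zf0) (kf xf0 yf27 zf61) (kf xf1 yf55 zf20) (kf xf0 yf24 zf33) (kf xf0 yf28 zf6) (kf xf0 yf28 zf7) (kf xf1 yf55 zf26) (kf xf0 yf28 zf10) (kf xf1 yf55 zf33) (kf xf0 yf24 zf35) (kf xf0 yf28 zf15) (kf xf1 yf28 zf48) (kf xf0 yf28 zf18) (kf xf0 yf28 zf22) (kf xf1 yf27 zf32) (kf xf1 yf2 zf17) (kf xf0 yf54 zf37) (kf xf1 yf12 zf58) (kf xf1 yf11 zf37) (kf xf1 yf55 zf53) (kf xf1 yf55 zf51) (kf xf1 yf55 zf50) (kf xf1 yf56 zf2) (kf xf0 yf24 zf43) (kf xf0 yf32 zf25) (kf xf0 yf32 zf24) (kf xf1 yf17 zf37) (kf xf0 yf24 zf44) (kf xf0 yf32 zf37) (kf xf0 yf57 zf32) (kf xf0 yf24 zf47) (kf xf0 yf32 zf28)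 (kf xf1 yf0 zf25) (kf xf0 yf32 zf31) (kf xf1 yf28 zf30) (kf xf0 yf32 zf38) (kf xf1 yf31 zf26) (kf xf1 yf56 zf18) (kf xf1 yf56 zf21) (kf xf0 yf24 zf53) (kf xf1 yf27 zf36)) (@D3.rec (fun _ => Pt) (kf xf1 yf27 zf37) (kf xf1 yf27 zf38) (kf xf0 yf45 zf33) (kf xf1 yf56 zf37) (kf xf0 yf32 zf1) (kf xf1 yf56 zf40) (kf xf0 yf24 zf57) (kf xf0 yf55 zf16) (kf xf1 yf56 zf43) (kf xf0 yf55 zf18) (kf xf1 yf56 zf48) (kf xf0 yf24 zf59) (kf xf1 yf27 zf46) (kf xf1 yf27 zf47) (kf xf1 yf56 zf57) (kf xf0 yf25 zf1) (kf xf0 yf55 zf7) (kf xf0 yf56 zf22) (kf xf0 yf55 zf9) (kf xf1 yf57 zf0) (kf xf0 yf25 zf3) (kf xf0 yf40 zf39) (kf xf1 yf57 zf5) (kf xf1 yf57 zf7) (kf xf1 yf57 zf12) (kf xf1 yf57 zf13) (kf xf0 yf25 zf7) (kf xf1 yf57 zf1) (kf xf1 yf15 zf53) (kf xf1 yf57 zf20) (kf xf1 yf57 zf24) (kf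 xf0 yf25 zf11) (kf xf0 yf25 zf37) (kf xf1 yf57 zf27) (kf xf0 yf25 zf34) (kf xf1 yf57 zf28) (kf xf0 yf55 zf53) (kf xf0 yf55 zf54) (kf xf1 yf56 zf44) (kf xf0 yf55 zf50) (kf xf0 yf55 zf51) (kf xf0 yf56 zf25) (kf xf0 yf55 zf57) (kf xf0 yf55 zf56) (kf xf1 yf57 zf46) (kf xf0 yf25 zf17) (kf xf0 yf33 zf48) (kf xf0 yf33 zf47) (kf xf1 yf57 zf54) (kf xf0 yf25 zf19) (kf xf0 yf55 zf39) (kf xf0 yf55 zf40) (kf xf0 yf56 zf32) (kf xf0 yf55 zf36) (kf xf0 yf55 zf37) (kf xf1 yf57 zf26) (kf xf0 yf55 zf43) (kf xf0 yf55 zf42) (kf xf1 yf58 zf10) (kf xf0 yf25 zf22) (kf xf1 yf58 zf15) (kf xf0 yf25 zf24)) (@D3.rec (fun _ => Pt) (kf xf1 yf58 zf18) (kf xf1 yf58 zf22) (kf xf0 yf25 zf26) (kf xf0 yf35 zf43) (kf xf1 yf58 zf28) (kf xf0 yf25 zf27) (kf xf1 yf25 zf0) (kf xf1 yf57 zf18) (kf xf1 yf58 zf37)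 (kf xf0 yf25 zf28) (kf xf0 yf28 zf32) (kf xf1 yf0 zf30) (kf xf1 yf58 zf46) (kf xf0 yf58 zf3) (kf xf1 yf9 zf5) (kf xf1 yf58 zf55) (kf xf1 yf57 zf22) (kf xf1 yf57 zf21) (kf xf1 yf59 zf4) (kf xf0 yf25 zf31) (kf xf0 yf36 zf32) (kf xf1 yf59 zf12) (kf xf0 yf55 zf17) (kf xf1 yf19 zf46) (kf xf1 yf10 zf15) (kf xf0 yf55 zf41) (kf xf1 yf9 zf33) (kf xf0 yf25 zf35) (kf xf0 yf36 zf3) (kf xf0 yf59 zf19) (kf xf1 yf59 zf24) (kf xf1 yf57 zf25) (kf xf0 yf55 zf52) (kf xf1 yf10 zf12) (kf xf0 yf25 zf38) (kf xf0 yf59 zf2) (kf xf1 yf0 zf33) (kf xf0 yf56 zf56) (kf xf0 yf58 zf35) (kf xf0 yf59 zf3) (kf xf0 yf57 zf2) (kf xf1 yf59 zf35) (kf xf0 yf25 zf41) (kf xf0 yf56 zf43) (kf xf0 yf56 zf44) (kf xf0 yf58 zf38) (kf xf1 yf0 zf36) (kf xf1 yf59 zf43) (kf xf1 yf59 zf41) (kf xf1 yf59 zf40) (kf xf1 yf59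 zf54) (kf xf0 yf25 zf46) (kf xf0 yf36 zf11) (kf xf0 yf57 zf23) (kf xf1 yf59 zf60) (kf xf0 yf25 zf47) (kf xf0 yf56 zf37) (kf xf0 yf59 zf26) (kf xf0 yf57 zf27) (kf xf0 yf57 zf26) (kf xf0 yf57 zf30) (kf xf1 yf11 zf11)) (@D3.rec (fun _ => Pt) (kf xf0 yf57 zf28) (kf xf0 yf58 zf51) (kf xf0 yf56 zf40) (kf xf0 yf39 zf39) (kf xf0 yf39 zf38) (kf xf0 yf32 zf32) (kf xf2 yf0 zf17) (kf xf2 yf0 zf20) (kf xf0 yf25 zf56) (kf xf0 yf57 zf9) (kf xf0 yf57 zf10) (kf xf1 yf0 zf16) (kf xf0 yf58 zf52) (kf xf2 yf0 zf28) (kf xf2 yf0 zf26) (kf xf2 yf0 zf25) (kf xf2 yf0 zf40) (kf xf0 yf25 zf61) (kf xf0 yf39 zf30) (kf xf0 yf39 zf31) (kf xf0 yf39 zf23) (kf xf0 yf39 zf24) (kf xf1 yf0 zf23) (kf xf0 yf56 zf53) (kf xf2 yf0 zf53) (kf xf0 yf26 zf2) (kf xf0 yf56 zf59) (kf xf0 yf56 zf58) (kf xf0 yf57 zf0)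 (kf xf1 yf27 zf45) (kf xf0 yf56 zf60) (kf xf1 yf0 zf29) (kf xf0 yf54 zf50) (kf xf2 yf1 zf0) (kf xf2 yf1 zf4) (kf xf0 yf26 zf10) (kf xf0 yf30 zf3) (kf xf0 yf57 zf37) (kf xf2 yf1 zf9) (kf xf0 yf57 zf44) (kf xf2 yf1 zf14) (kf xf0 yf26 zf13) (kf xf2 yf1 zf17) (kf xf2 yf1 zf20) (kf xf0 yf57 zf39) (kf xf2 yf1 zf25) (kf xf0 yf26 zf16) (kf xf0 yf26 zf19) (kf xf0 yf26 zf18) (kf xf2 yf1 zf35) (kf xf0 yf26 zf17) (kf xf1 yf8 zf52) (kf xf1 yf55 zf58) (kf xf2 yf1 zf30) (kf xf2 yf1 zf47) (kf xf2 yf1 zf26) (kf xf2 yf1 zf27) (kf xf2 yf1 zf28) (kf xf2 yf1 zf59) (kf xf2 yf1 zf33) (kf xf2 yf1 zf32) (kf xf2 yf2 zf10)) (@D3.rec (fun _ => Pt) (kf xf0 yf26 zf20) (kf xf0 yf35 zf2) (kf xf0 yf59 zf61) (kf xf0 yf56 zf13) (kf xf1 yf0 zf0) (kf xf2 yf2 zf24) (kf xf0 yf59 zf54) (kf xf1 yf0 zf2) (kf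 xf2 yf2 zf32) (kf xf0 yf35 zf27) (kf xf0 yf26 zf24) (kf xf0 yf39 zf7) (kf xf0 yf59 zf51) (kf xf0 yf59 zf52) (kf xf2 yf2 zf41) (kf xf0 yf59 zf56) (kf xf2 yf2 zf46) (kf xf0 yf35 zf37) (kf xf0 yf26 zf27) (kf xf1 yf0 zf9) (kf xf1 yf0 zf10) (kf xf2 yf2 zf56) (kf xf1 yf0 zf6) (kf xf1 yf0 zf7) (kf xf2 yf3 zf2) (kf xf1 yf0 zf13) (kf xf1 yf0 zf12) (kf xf2 yf3 zf9) (kf xf0 yf27 zf21) (kf xf0 yf26 zf30) (kf xf1 yf0 zf15) (kf xf0 yf28 zf8) (kf xf1 yf0 zf32) (kf xf1 yf0 zf60) (kf xf1 yf9 zf8) (kf xf0 yf56 zf38) (kf xf1 yf0 zf51) (kf xf0 yf26 zf34) (kf xf0 yf56 zf45) (kf xf1 yf0 zf37) (kf xf1 yf0 zf38) (kf xf2 yf3 zf29) (kf xf1 yf0 zf20) (kf xf0 yf36 zf36) (kf xf1 yf0 zf40) (kf xf2 yf3 zf40) (kf xf0 yf39 zf32) (kf xf0 yf26 zf37) (kf xf0 yf32 zf36) (kf xf0 yf28 zf57) (kf xf1 yf0 zf44)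 (kf xf0 yf57 zf1) (kf xf0 yf57 zf12) (kf xf1 yf0 zf17) (kf xf1 yf0 zf18) (kf xf2 yf3 zf54) (kf xf1 yf0 zf21) (kf xf2 yf3 zf58) (kf xf0 yf36 zf55) (kf xf0 yf26 zf46) (kf xf1 yf0 zf27) (kf xf0 yf58 zf61)) (@D3.rec (fun _ => Pt) (kf xf1 yf19 zf3) (kf xf1 yf19 zf4) (kf xf0 yf56 zf35) (kf xf0 yf56 zf39) (kf xf2 yf4 zf7) (kf xf0 yf26 zf54) (kf xf0 yf59 zf6) (kf xf2 yf4 zf11) (kf xf0 yf59 zf8) (kf xf2 yf4 zf15) (kf xf2 yf4 zf18) (kf xf2 yf4 zf20) (kf xf1 yf9 zf57) (kf xf2 yf4 zf16) (kf xf2 yf4 zf31) (kf xf0 yf26 zf60) (kf xf1 yf8 zf40) (kf xf2 yf4 zf35) (kf xf0 yf26 zf61) (kf xf0 yf56 zf29) (kf xf2 yf4 zf39) (kf xf1 yf59 zf26) (kf xf1 yf10 zf3) (kf xf2 yf4 zf47) (kf xf0 yf27 zf1) (kf xf1 yf9 zf7) (kf xf0 yf56 zf57) (kf xf0 yf27 zf4) (kf xf0 yf59 zf33) (kf xf2 yf4 zf54) (kf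 xf0 yf27 zf5) (kf xf0 yf59 zf31) (kf xf2 yf4 zf57) (kf xf0 yf59 zf28) (kf xf2 yf5 zf0) (kf xf0 yf27 zf7) (kf xf0 yf27 zf10) (kf xf0 yf27 zf9) (kf xf2 yf5 zf9) (kf xf0 yf27 zf8) (kf xf2 yf5 zf4) (kf xf2 yf5 zf16) (kf xf2 yf5 zf1) (kf xf0 yf35 zf33) (kf xf2 yf5 zf2) (kf xf2 yf5 zf25) (kf xf2 yf5 zf7) (kf xf2 yf5 zf6) (kf xf2 yf5 zf35) (kf xf0 yf27 zf11) (kf xf0 yf39 zf6) (kf xf0 yf58 zf12) (kf xf0 yf58 zf13) (kf xf2 yf5 zf47) (kf xf0 yf58 zf6) (kf xf0 yf35 zf49) (kf xf0 yf58 zf15) (kf xf2 yf5 zf57) (kf xf0 yf39 zf18) (kf xf0 yf27 zf15) (kf xf0 yf35 zf3) (kf xf0 yf58 zf2))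
def f_f_1 : D2 → D3 → Pt := @D2.rec (fun _ => D3 → Pt) (@D3.rec (fun _ => Pt) (kf xf0 yf58 zf4) (kf xf2 yf6 zf5) (kf xf0 yf58 zf7) (kf xf2 yf6 zf9) (kf xf0 yf35 zf24) (kf xf0 yf27 zf18) (kf xf0 yf58 zf22) (kf xf0 yf58 zf23) (kf xf2 yf6 zf17) (kf xf0 yf58 zf19) (kf xf0 yf58 zf20) (kf xf2 yf6 zf25) (kf xf0 yf58 zf26) (kf xf0 yf58 zf25) (kf xf2 yf3 zf8) (kf xf0 yf58 zf30) (kf xf0 yf57 zf11) (kf xf0 yf58 zf53) (kf xf0 yf58 zf54) (kf xf2 yf6 zf45) (kf xf0 yf58 zf42) (kf xf0 yf58 zf56) (kf xf2 yf6 zf52) (kf xf0 yf57 zf22) (kf xf0 yf27 zf25) (kf xf0 yf54 zf53) (kf xf0 yf28 zf40) (kf xf0 yf58 zf60) (kf xf0 yf33 zf55) (kf xf0 yf57 zf31) (kf xf0 yf56 zf11) (kf xf2 yf7 zf3) (kf xf0 yf58 zf32) (kf xf0 yf56 zf36) (kf xf1 yf10 zf23) (kf xf0 yf27 zf34) (kf xf0 yf56 zf46) (kf xf0 yf58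 zf39) (kf xf0 yf58 zf40) (kf xf2 yf7 zf16) (kf xf0 yf58 zf44) (kf xf2 yf7 zf21) (kf xf0 yf36 zf7) (kf xf0 yf27 zf37) (kf xf0 yf58 zf50) (kf xf0 yf36 zf17) (kf xf1 yf0 zf55) (kf xf2 yf7 zf29) (kf xf0 yf27 zf42) (kf xf1 yf0 zf58) (kf xf1 yf0 zf59) (kf xf0 yf58 zf36) (kf xf2 yf7 zf36) (kf xf0 yf27 zf44) (kf xf2 yf7 zf38) (kf xf1 yf0 zf46) (kf xf2 yf7 zf42) (kf xf0 yf27 zf47) (kf xf1 yf0 zf49) (kf xf1 yf0 zf50) (kf xf0 yf58 zf33) (kf xf2 yf7 zf50)) (@D3.rec (fun _ => Pt) (kf xf0 yf27 zf49) (kf xf1 yf16 zf2) (kf xf2 yf7 zf55) (kf xf0 yf27 zf52) (kf xf2 yf7 zf57) (kf xf1 yf18 zf10) (kf xf2 yf7 zf61) (kf xf0 yf27 zf55) (kf xf2 yf8 zf1) (kf xf2 yf1 zf48) (kf xf2 yf5 zf37) (kf xf2 yf1 zf49) (kf xf2 yf8 zf9) (kf xf0 yf27 zf59) (kf xf1 yf8 zf48) (kf xf2 yf8 zf14) (kf xf0 yf27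 zf60) (kf xf1 yf55 zf15) (kf xf2 yf8 zf19) (kf xf1 yf55 zf12) (kf xf1 yf55 zf13) (kf xf1 yf59 zf13) (kf xf1 yf55 zf18) (kf xf1 yf55 zf17) (kf xf2 yf8 zf33) (kf xf0 yf28 zf1) (kf xf0 yf35 zf44) (kf xf1 yf10 zf21) (kf xf2 yf8 zf39) (kf xf0 yf36 zf13) (kf xf1 yf10 zf24) (kf xf1 yf59 zf32) (kf xf0 yf34 zf5) (kf xf0 yf28 zf5) (kf xf1 yf55 zf21) (kf xf1 yf55 zf22) (kf xf2 yf3 zf13) (kf xf1 yf55 zf24) (kf xf1 yf10 zf30) (kf xf2 yf8 zf57) (kf xf1 yf55 zf27) (kf xf2 yf9 zf0) (kf xf1 yf55 zf30) (kf xf1 yf55 zf29) (kf xf2 yf9 zf10) (kf xf2 yf9 zf15) (kf xf0 yf28 zf11) (kf xf0 yf28 zf26) (kf xf0 yf40 zf43) (kf xf0 yf40 zf41) (kf xf0 yf42 zf1) (kf xf0 yf42 zf2) (kf xf2 yf9 zf31) (kf xf0 yf37 zf35) (kf xf0 yf28 zf14) (kf xf1 yf55 zf34) (kf xf1 yf55 zf35) (kf xf2 yf9 zf42) (kf xf0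 yf37 zf52) (kf xf0 yf28 zf16) (kf xf0 yf38 zf30) (kf xf1 yf10 zf42)) (@D3.rec (fun _ => Pt) (kf xf1 yf55 zf37) (kf xf1 yf55 zf38) (kf xf2 yf9 zf58) (kf xf0 yf38 zf16) (kf xf1 yf10 zf44) (kf xf0 yf28 zf20) (kf xf1 yf26 zf18) (kf xf2 yf10 zf1) (kf xf1 yf55 zf39) (kf xf1 yf55 zf40) (kf xf2 yf10 zf9) (kf xf2 yf10 zf16) (kf xf2 yf10 zf11) (kf xf2 yf10 zf10) (kf xf2 yf10 zf26) (kf xf0 yf28 zf23) (kf xf1 yf27 zf52) (kf xf0 yf54 zf36) (kf xf2 yf10 zf34) (kf xf0 yf28 zf24) (kf xf2 yf9 zf16) (kf xf1 yf11 zf9) (kf xf1 yf27 zf34) (kf xf2 yf10 zf47) (kf xf1 yf2 zf27) (kf xf2 yf10 zf52) (kf xf0 yf28 zf28) (kf xf1 yf2 zf24) (kf xf2 yf10 zf57) (kf xf0 yf28 zf29) (kf xf0 yf28 zf31) (kf xf2 yf11 zf0) (kf xf0 yf28 zf30) (kf xf1 yf58 zf48) (kf xf2 yf10 zf58) (kf xf2 yf11 zf9) (kf xf1 yf58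 zf38) (kf xf2 yf11 zf12) (kf xf2 yf10 zf60) (kf xf1 yf58 zf56) (kf xf2 yf11 zf22) (kf xf0 yf28 zf33) (kf xf0 yf35 zf45) (kf xf2 yf11 zf30) (kf xf0 yf35 zf36) (kf xf0 yf35 zf47) (kf xf2 yf11 zf37) (kf xf0 yf34 zf8) (kf xf0 yf28 zf37) (kf xf0 yf34 zf25) (kf xf0 yf35 zf34) (kf xf2 yf6 zf55) (kf xf0 yf35 zf38) (kf xf2 yf11 zf47) (kf xf0 yf35 zf55) (kf xf0 yf35 zf56) (kf xf2 yf11 zf56) (kf xf0 yf35 zf51) (kf xf0 yf35 zf52) (kf xf2 yf12 zf3) (kf xf0 yf35 zf59) (kf xf0 yf35 zf58)) (@D3.rec (fun _ => Pt) (kf xf2 yf12 zf14) (kf xf0 yf37 zf10) (kf xf0 yf28 zf43) (kf xf1 yf25 zf28) (kf xf0 yf36 zf28) (kf xf1 yf25 zf42) (kf xf0 yf33 zf42) (kf xf0 yf28 zf46) (kf xf0 yf36 zf6) (kf xf0 yf36 zf34) (kf xf2 yf12 zf27) (kf xf0 yf28 zf48) (kf xf0 yf36 zf15) (kf xf0 yf36 zf14) (kf xf0 yf36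 zf16) (kf xf0 yf36 zf38) (kf xf0 yf36 zf39) (kf xf1 yf25 zf44) (kf xf0 yf36 zf22) (kf xf0 yf36 zf21) (kf xf0 yf33 zf2) (kf xf0 yf36 zf4) (kf xf2 yf3 zf41) (kf xf0 yf36 zf8) (kf xf2 yf12 zf48) (kf xf0 yf36 zf18) (kf xf0 yf36 zf19) (kf xf0 yf36 zf49) (kf xf0 yf36 zf50) (kf xf0 yf36 zf52) (kf xf0 yf36 zf53) (kf xf0 yf36 zf46) (kf xf0 yf36 zf45) (kf xf0 yf29 zf1) (kf xf0 yf36 zf41) (kf xf0 yf36 zf42) (kf xf2 yf13 zf5) (kf xf0 yf33 zf31) (kf xf0 yf29 zf3) (kf xf0 yf37 zf0) (kf xf0 yf37 zf1) (kf xf2 yf13 zf14) (kf xf0 yf36 zf59) (kf xf0 yf36 zf60) (kf xf2 yf13 zf23) (kf xf2 yf13 zf28) (kf xf2 yf13 zf11) (kf xf2 yf13 zf24) (kf xf2 yf13 zf37) (kf xf0 yf29 zf6) (kf xf0 yf37 zf9) (kf xf0 yf37 zf8) (kf xf0 yf35 zf61) (kf xf2 yf13 zf47) (kf xf0 yf29 zf7) (kf xf0 yf29 zf47) (kf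 xf0 yf29 zf11) (kf xf1 yf3 zf58) (kf xf1 yf3 zf57) (kf xf0 yf29 zf20) (kf xf0 yf37 zf49) (kf xf0 yf29 zf14)) (@D3.rec (fun _ => Pt) (kf xf2 yf13 zf58) (kf xf2 yf13 zf56) (kf xf0 yf37 zf38) (kf xf0 yf37 zf39) (kf xf0 yf37 zf36) (kf xf0 yf37 zf37) (kf xf1 yf24 zf45) (kf xf0 yf37 zf25) (kf xf0 yf37 zf26) (kf xf0 yf37 zf27) (kf xf0 yf37 zf28) (kf xf2 yf14 zf17) (kf xf2 yf13 zf51) (kf xf0 yf37 zf53) (kf xf0 yf37 zf51) (kf xf0 yf38 zf5) (kf xf0 yf38 zf6) (kf xf0 yf38 zf7) (kf xf0 yf38 zf8) (kf xf2 yf14 zf26) (kf xf0 yf37 zf54) (kf xf0 yf37 zf55) (kf xf0 yf37 zf56) (kf xf0 yf37 zf57) (kf xf2 yf14 zf36) (kf xf2 yf14 zf38) (kf xf0 yf38 zf12) (kf xf0 yf38 zf11) (kf xf2 yf14 zf44) (kf xf0 yf29 zf29) (kf xf0 yf38 zf17) (kf xf0 yf38 zf15) (kf xf0 yf38 zf27) (kf xf0 yf38 zf28) (kf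 xf0 yf38 zf29) (kf xf0 yf38 zf31) (kf xf2 yf14 zf60) (kf xf2 yf15 zf2) (kf xf2 yf15 zf4) (kf xf0 yf29 zf35) (kf xf0 yf38 zf18) (kf xf0 yf38 zf19) (kf xf0 yf38 zf20) (kf xf0 yf38 zf21) (kf xf0 yf38 zf22) (kf xf2 yf15 zf23) (kf xf2 yf15 zf27) (kf xf2 yf15 zf29) (kf xf0 yf29 zf38) (kf xf0 yf29 zf41) (kf xf0 yf29 zf40) (kf xf2 yf15 zf38) (kf xf2 yf15 zf44) (kf xf2 yf15 zf48) (kf xf2 yf15 zf51) (kf xf0 yf29 zf39) (kf xf2 yf0 zf5) (kf xf2 yf15 zf31) (kf xf2 yf15 zf32) (kf xf2 yf16 zf0) (kf xf0 yf44 zf46) (kf xf0 yf44 zf44)) (@D3.rec (fun _ => Pt) (kf xf0 yf44 zf45) (kf xf0 yf44 zf19) (kf xf2 yf16 zf14) (kf xf2 yf13 zf38) (kf xf0 yf38 zf55) (kf xf2 yf16 zf23) (kf xf0 yf38 zf53) (kf xf2 yf16 zf30) (kf xf0 yf38 zf58) (kf xf0 yf38 zf57) (kf xf0 yf29 zf46) (kf xf0 yf38 zf61) (kf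 xf0 yf38 zf60) (kf xf2 yf13 zf49) (kf xf0 yf38 zf1) (kf xf0 yf38 zf9) (kf xf0 yf39 zf3) (kf xf0 yf39 zf1) (kf xf0 yf39 zf2) (kf xf0 yf39 zf27) (kf xf1 yf20 zf34) (kf xf1 yf20 zf35) (kf xf0 yf39 zf26) (kf xf2 yf16 zf57) (kf xf2 yf16 zf60) (kf xf0 yf29 zf55) (kf xf1 yf20 zf40) (kf xf1 yf20 zf42) (kf xf0 yf40 zf23) (kf xf2 yf17 zf6) (kf xf1 yf28 zf59) (kf xf1 yf30 zf55) (kf xf1 yf28 zf60) (kf xf1 yf28 zf61) (kf xf1 yf8 zf1) (kf xf1 yf29 zf1) (kf xf0 yf30 zf61) (kf xf0 yf31 zf3) (kf xf1 yf29 zf3) (kf xf2 yf17 zf27) (kf xf0 yf39 zf47) (kf xf2 yf17 zf33) (kf xf0 yf40 zf26) (kf xf0 yf40 zf25) (kf xf0 yf30 zf2) (kf xf0 yf40 zf55) (kf xf0 yf40 zf54) (kf xf0 yf42 zf6) (kf xf0 yf42 zf7) (kf xf0 yf42 zf8) (kf xf2 yf17 zf50) (kf xf2 yf17 zf54) (kf xf0 yf30 zf5) (kf xf0 yf41 zf6)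 (kf xf1 yf10 zf20) (kf xf0 yf41 zf1) (kf xf0 yf41 zf3) (kf xf2 yf17 zf58) (kf xf0 yf41 zf15) (kf xf0 yf41 zf16) (kf xf0 yf41 zf17) (kf xf0 yf42 zf19)) (@D3.rec (fun _ => Pt) (kf xf0 yf42 zf22) (kf xf0 yf42 zf25) (kf xf2 yf18 zf2) (kf xf0 yf42 zf27) (kf xf0 yf42 zf28) (kf xf0 yf42 zf29) (kf xf2 yf18 zf13) (kf xf2 yf18 zf0) (kf xf1 yf33 zf14) (kf xf2 yf18 zf19) (kf xf0 yf30 zf14) (kf xf0 yf41 zf47) (kf xf0 yf41 zf46) (kf xf2 yf18 zf27) (kf xf0 yf30 zf15) (kf xf0 yf41 zf53) (kf xf0 yf41 zf50) (kf xf0 yf41 zf51) (kf xf1 yf37 zf31) (kf xf0 yf30 zf18) (kf xf0 yf41 zf58) (kf xf0 yf41 zf59) (kf xf1 yf58 zf11) (kf xf0 yf40 zf45) (kf xf0 yf40 zf46) (kf xf2 yf18 zf50) (kf xf1 yf21 zf37) (kf xf1 yf57 zf4) (kf xf0 yf30 zf24) (kf xf0 yf40 zf57) (kf xf0 yf40 zf58) (kf xf0 yf40 zf59)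 (kf xf2 yf18 zf61) (kf xf2 yf19 zf3) (kf xf0 yf30 zf26) (kf xf0 yf42 zf16) (kf xf0 yf42 zf13) (kf xf0 yf41 zf27) (kf xf0 yf41 zf28) (kf xf0 yf41 zf31) (kf xf0 yf41 zf32) (kf xf1 yf6 zf48) (kf xf0 yf41 zf34) (kf xf1 yf29 zf47) (kf xf0 yf41 zf36) (kf xf0 yf41 zf37) (kf xf0 yf41 zf38) (kf xf2 yf19 zf22) (kf xf1 yf6 zf41) (kf xf2 yf3 zf37) (kf xf0 yf30 zf34) (kf xf0 yf42 zf36) (kf xf0 yf42 zf35) (kf xf2 yf19 zf35) (kf xf0 yf30 zf35) (kf xf2 yf18 zf35) (kf xf0 yf30 zf36) (kf xf0 yf43 zf3) (kf xf0 yf42 zf31) (kf xf0 yf30 zf48) (kf xf0 yf38 zf24) (kf xf0 yf30 zf42)) (@D3.rec (fun _ => Pt) (kf xf0 yf43 zf1) (kf xf0 yf43 zf0) (kf xf0 yf42 zf48) (kf xf0 yf42 zf49) (kf xf0 yf42 zf51) (kf xf0 yf42 zf52) (kf xf0 yf42 zf53) (kf xf1 yf7 zf7) (kf xf0 yf42 zf56) (kf xf1 yf7 zf9) (kf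 xf1 yf7 zf10) (kf xf0 yf43 zf29) (kf xf0 yf43 zf30) (kf xf1 yf26 zf36) (kf xf0 yf43 zf31) (kf xf0 yf43 zf32) (kf xf0 yf43 zf34) (kf xf0 yf43 zf36) (kf xf0 yf43 zf37) (kf xf0 yf43 zf38) (kf xf2 yf17 zf19) (kf xf0 yf43 zf27) (kf xf0 yf43 zf26) (kf xf0 yf30 zf54) (kf xf0 yf43 zf42) (kf xf0 yf43 zf41) (kf xf0 yf30 zf55) (kf xf0 yf31 zf5) (kf xf1 yf29 zf2) (kf xf0 yf31 zf1) (kf xf0 yf31 zf2) (kf xf0 yf46 zf22) (kf xf1 yf32 zf30) (kf xf2 yf20 zf28) (kf xf0 yf30 zf60) (kf xf2 yf17 zf17) (kf xf2 yf20 zf0) (kf xf1 yf7 zf37) (kf xf2 yf20 zf20) (kf xf1 yf7 zf39) (kf xf2 yf17 zf18) (kf xf1 yf7 zf41) (kf xf0 yf31 zf7) (kf xf0 yf31 zf6) (kf xf2 yf20 zf17) (kf xf2 yf20 zf50) (kf xf1 yf38 zf37) (kf xf2 yf20 zf42) (kf xf2 yf20 zf61) (kf xf2 yf20 zf39) (kf xf2 yf20 zf40) (kf xf2 yf21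 zf7) (kf xf2 yf20 zf45) (kf xf2 yf20 zf44) (kf xf0 yf38 zf50) (kf xf2 yf21 zf23) (kf xf2 yf21 zf27) (kf xf0 yf31 zf8) (kf xf2 yf20 zf49) (kf xf1 yf37 zf7) (kf xf0 yf31 zf9) (kf xf2 yf21 zf34)) (@D3.rec (fun _ => Pt) (kf xf1 yf29 zf5) (kf xf1 yf5 zf34) (kf xf1 yf29 zf6) (kf xf0 yf44 zf37) (kf xf0 yf44 zf38) (kf xf2 yf21 zf53) (kf xf0 yf44 zf34) (kf xf0 yf44 zf33) (kf xf2 yf21 zf61) (kf xf0 yf31 zf13) (kf xf0 yf44 zf30) (kf xf0 yf44 zf31) (kf xf2 yf22 zf7) (kf xf0 yf44 zf41) (kf xf0 yf44 zf40) (kf xf2 yf22 zf14) (kf xf0 yf31 zf15) (kf xf0 yf38 zf48) (kf xf0 yf38 zf49) (kf xf0 yf38 zf47) (kf xf2 yf22 zf25) (kf xf0 yf44 zf49) (kf xf0 yf44 zf48) (kf xf2 yf22 zf35) (kf xf0 yf31 zf17) (kf xf0 yf44 zf56) (kf xf0 yf44 zf57) (kf xf0 yf44 zf58) (kf xf0 yf44 zf52) (kf xf0 yf44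 zf53) (kf xf1 yf37 zf2) (kf xf0 yf31 zf21) (kf xf0 yf45 zf0) (kf xf0 yf44 zf61) (kf xf2 yf22 zf49) (kf xf0 yf45 zf3) (kf xf0 yf40 zf0) (kf xf1 yf29 zf11) (kf xf1 yf8 zf38) (kf xf2 yf23 zf5) (kf xf0 yf59 zf16) (kf xf2 yf23 zf10) (kf xf0 yf31 zf25) (kf xf0 yf31 zf28) (kf xf0 yf31 zf27) (kf xf2 yf23 zf19) (kf xf0 yf31 zf26) (kf xf2 yf4 zf25) (kf xf1 yf1 zf14) (kf xf2 yf23 zf14) (kf xf2 yf23 zf28) (kf xf2 yf23 zf11) (kf xf0 yf57 zf51) (kf xf2 yf23 zf12) (kf xf2 yf23 zf36) (kf xf2 yf23 zf17) (kf xf2 yf23 zf16) (kf xf2 yf23 zf47) (kf xf0 yf31 zf29) (kf xf1 yf9 zf24) (kf xf2 yf23 zf54) (kf xf1 yf9 zf22)) (@D3.rec (fun _ => Pt) (kf xf2 yf23 zf60) (kf xf2 yf24 zf3) (kf xf0 yf31 zf55) (kf xf0 yf31 zf33) (kf xf1 yf9 zf27) (kf xf0 yf56 zf14) (kf xf2 yf24 zf10) (kf xf0 yf59 zf25)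 (kf xf0 yf58 zf34) (kf xf0 yf31 zf37) (kf xf1 yf9 zf29) (kf xf1 yf9 zf28) (kf xf1 yf18 zf61) (kf xf1 yf21 zf36) (kf xf0 yf31 zf45) (kf xf0 yf39 zf29) (kf xf0 yf31 zf48) (kf xf0 yf31 zf50) (kf xf1 yf56 zf55) (kf xf1 yf56 zf54) (kf xf2 yf24 zf25) (kf xf0 yf31 zf51) (kf xf1 yf8 zf61) (kf xf2 yf24 zf32) (kf xf1 yf8 zf59) (kf xf1 yf30 zf18) (kf xf2 yf24 zf2) (kf xf1 yf9 zf4) (kf xf1 yf9 zf11) (kf xf1 yf9 zf10) (kf xf1 yf12 zf44) (kf xf1 yf56 zf38) (kf xf1 yf10 zf16) (kf xf0 yf56 zf26) (kf xf1 yf56 zf39) (kf xf0 yf32 zf2) (kf xf1 yf9 zf39) (kf xf1 yf9 zf38) (kf xf1 yf9 zf37) (kf xf1 yf9 zf36) (kf xf2 yf24 zf54) (kf xf2 yf24 zf57) (kf xf1 yf9 zf46) (kf xf2 yf24 zf61) (kf xf0 yf32 zf16) (kf xf2 yf25 zf2) (kf xf1 yf9 zf42) (kf xf2 yf25 zf7) (kf xf0 yf32 zf18) (kf xf0 yf32 zf21)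 (kf xf0 yf32 zf20) (kf xf2 yf25 zf14) (kf xf0 yf32 zf19) (kf xf2 yf1 zf50) (kf xf2 yf1 zf53) (kf xf2 yf25 zf10) (kf xf2 yf25 zf24) (kf xf0 yf59 zf12) (kf xf1 yf55 zf54) (kf xf2 yf25 zf8) (kf xf2 yf3 zf60) (kf xf2 yf25 zf12)) (@D3.rec (fun _ => Pt) (kf xf2 yf25 zf11) (kf xf2 yf25 zf42) (kf xf0 yf32 zf22) (kf xf0 yf59 zf22) (kf xf2 yf25 zf48) (kf xf1 yf56 zf3) (kf xf2 yf25 zf54) (kf xf2 yf25 zf59) (kf xf1 yf56 zf19) (kf xf0 yf32 zf26) (kf xf1 yf59 zf61) (kf xf1 yf19 zf1) (kf xf0 yf56 zf33) (kf xf1 yf56 zf11) (kf xf1 yf57 zf41) (kf xf0 yf56 zf24) (kf xf1 yf9 zf32) (kf xf0 yf32 zf29) (kf xf1 yf56 zf12) (kf xf2 yf0 zf12) (kf xf1 yf5 zf54) (kf xf1 yf1 zf27) (kf xf1 yf59 zf14) (kf xf1 yf0 zf34) (kf xf1 yf1 zf30) (kf xf1 yf56 zf9) (kf xf2 yf26 zf23) (kf xf1 yf28 zf54) (kf xf1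 yf26 zf23) (kf xf0 yf32 zf39) (kf xf1 yf1 zf38) (kf xf2 yf26 zf26) (kf xf0 yf32 zf41) (kf xf2 yf26 zf32) (kf xf2 yf26 zf28) (kf xf2 yf26 zf27) (kf xf2 yf26 zf42) (kf xf0 yf32 zf42) (kf xf1 yf56 zf7) (kf xf2 yf26 zf48) (kf xf0 yf32 zf43) (kf xf0 yf32 zf58) (kf xf1 yf1 zf61) (kf xf2 yf26 zf55) (kf xf1 yf2 zf4) (kf xf0 yf32 zf47) (kf xf0 yf32 zf53) (kf xf0 yf32 zf52) (kf xf2 yf10 zf18) (kf xf2 yf27 zf8) (kf xf2 yf27 zf12) (kf xf2 yf27 zf15) (kf xf0 yf32 zf51) (kf xf2 yf26 zf60) (kf xf1 yf56 zf22) (kf xf2 yf26 zf61) (kf xf2 yf27 zf28) (kf xf2 yf26 zf58) (kf xf2 yf27 zf30) (kf xf2 yf27 zf29) (kf xf2 yf27 zf43) (kf xf2 yf27 zf46)) (@D3.rec (fun _ => Pt) (kf xf0 yf32 zf54) (kf xf2 yf26 zf43) (kf xf1 yf56 zf36) (kf xf1 yf56 zf35) (kf xf0 yf32 zf56) (kf xf2 yf22 zf38) (kf xf2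 yf26 zf50) (kf xf1 yf27 zf43) (kf xf1 yf27 zf44) (kf xf1 yf2 zf21) (kf xf1 yf27 zf42) (kf xf0 yf56 zf61) (kf xf1 yf18 zf9) (kf xf1 yf18 zf11) (kf xf2 yf7 zf5) (kf xf2 yf12 zf37) (kf xf0 yf33 zf5) (kf xf0 yf33 zf4) (kf xf2 yf28 zf11) (kf xf0 yf33 zf3) (kf xf2 yf1 zf7) (kf xf1 yf58 zf16) (kf xf2 yf28 zf8) (kf xf2 yf12 zf42) (kf xf2 yf24 zf51) (kf xf1 yf14 zf15) (kf xf2 yf28 zf7) (kf xf1 yf18 zf19) (kf xf2 yf23 zf27) (kf xf2 yf28 zf9) (kf xf2 yf28 zf38) (kf xf0 yf33 zf6) (kf xf1 yf13 zf4) (kf xf1 yf13 zf1) (kf xf1 yf13 zf0) (kf xf1 yf13 zf6) (kf xf2 yf28 zf56) (kf xf0 yf54 zf39) (kf xf1 yf12 zf59) (kf xf1 yf12 zf61) (kf xf1 yf18 zf34) (kf xf1 yf13 zf2) (kf xf2 yf29 zf10) (kf xf1 yf18 zf35) (kf xf1 yf13 zf12) (kf xf1 yf13 zf13) (kf xf2 yf29 zf19) (kf xf1 yf13 zf9) (kf xf1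 yf13 zf10) (kf xf2 yf29 zf28) (kf xf1 yf13 zf16) (kf xf1 yf13 zf15) (kf xf2 yf29 zf39) (kf xf1 yf14 zf3) (kf xf0 yf33 zf15) (kf xf1 yf13 zf20) (kf xf1 yf13 zf32) (kf xf1 yf13 zf33) (kf xf1 yf13 zf35) (kf xf1 yf13 zf36) (kf xf1 yf13 zf37) (kf xf1 yf13 zf39)) (@D3.rec (fun _ => Pt) (kf xf1 yf13 zf23) (kf xf1 yf13 zf22) (kf xf1 yf13 zf41) (kf xf2 yf30 zf8) (kf xf1 yf12 zf43) (kf xf1 yf13 zf27) (kf xf1 yf13 zf26) (kf xf1 yf13 zf29) (kf xf1 yf13 zf28) (kf xf1 yf13 zf44) (kf xf1 yf13 zf45) (kf xf1 yf13 zf21) (kf xf1 yf15 zf61) (kf xf1 yf13 zf24) (kf xf2 yf30 zf29) (kf xf1 yf17 zf9) (kf xf1 yf13 zf30) (kf xf1 yf13 zf31) (kf xf1 yf12 zf26) (kf xf1 yf13 zf50) (kf xf2 yf8 zf61) (kf xf1 yf13 zf52) (kf xf1 yf13 zf53) (kf xf2 yf13 zf6) (kf xf1 yf13 zf47) (kf xf1 yf13 zf48) (kf xf1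 yf12 zf18) (kf xf1 yf13 zf58) (kf xf1 yf13 zf59) (kf xf1 yf31 zf27) (kf xf1 yf13 zf55) (kf xf1 yf13 zf56) (kf xf1 yf13 zf61) (kf xf2 yf31 zf7) (kf xf2 yf31 zf2) (kf xf2 yf16 zf52) (kf xf2 yf31 zf16) (kf xf0 yf33 zf36) (kf xf1 yf14 zf2) (kf xf1 yf14 zf1) (kf xf1 yf13 zf18) (kf xf2 yf31 zf25) (kf xf0 yf33 zf37) (kf xf1 yf12 zf4) (kf xf1 yf9 zf30) (kf xf1 yf12 zf47) (kf xf1 yf19 zf40) (kf xf1 yf12 zf45) (kf xf1 yf25 zf12) (kf xf1 yf57 zf49) (kf xf1 yf19 zf9) (kf xf1 yf57 zf47) (kf xf1 yf57 zf48) (kf xf1 yf59 zf10) (kf xf1 yf57 zf52) (kf xf1 yf57 zf51) (kf xf2 yf31 zf48) (kf xf0 yf33 zf49) (kf xf0 yf54 zf38) (kf xf1 yf11 zf38) (kf xf0 yf35 zf7) (kf xf1 yf11 zf39)) (@D3.rec (fun _ => Pt) (kf xf1 yf11 zf34) (kf xf1 yf11 zf33) (kf xf1 yf11 zf41) (kf xf2 yf32 zf5) (kf xf1 yf11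 zf32) (kf xf2 yf6 zf58) (kf xf1 yf11 zf35) (kf xf2 yf32 zf16) (kf xf2 yf0 zf42) (kf xf1 yf11 zf47) (kf xf1 yf11 zf48) (kf xf2 yf32 zf26) (kf xf1 yf11 zf44) (kf xf1 yf11 zf45) (kf xf2 yf32 zf34) (kf xf1 yf11 zf51) (kf xf1 yf11 zf50) (kf xf2 yf32 zf45) (kf xf1 yf12 zf40) (kf xf0 yf33 zf58) (kf xf1 yf11 zf55) (kf xf1 yf12 zf11) (kf xf1 yf12 zf1) (kf xf1 yf12 zf0) (kf xf1 yf12 zf13) (kf xf2 yf33 zf0) (kf xf1 yf12 zf6) (kf xf1 yf12 zf5) (kf xf1 yf12 zf8) (kf xf1 yf12 zf7) (kf xf1 yf12 zf16) (kf xf1 yf12 zf17) (kf xf1 yf11 zf56) (kf xf1 yf11 zf57) (kf xf2 yf8 zf18) (kf xf1 yf11 zf58) (kf xf1 yf11 zf59) (kf xf1 yf11 zf60) (kf xf1 yf13 zf51) (kf xf1 yf11 zf61) (kf xf2 yf11 zf7) (kf xf1 yf12 zf2) (kf xf2 yf33 zf33) (kf xf1 yf16 zf28) (kf xf1 yf12 zf9) (kf xf1 yf12 zf10) (kf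 xf1 yf13 zf54) (kf xf1 yf12 zf24) (kf xf1 yf12 zf25) (kf xf1 yf19 zf47) (kf xf1 yf12 zf19) (kf xf1 yf13 zf38) (kf xf1 yf12 zf21) (kf xf1 yf12 zf22) (kf xf1 yf13 zf46) (kf xf1 yf12 zf30) (kf xf1 yf12 zf31) (kf xf1 yf19 zf44) (kf xf1 yf12 zf27) (kf xf1 yf12 zf28) (kf xf1 yf25 zf33) (kf xf1 yf12 zf32)) (@D3.rec (fun _ => Pt) (kf xf1 yf25 zf39) (kf xf1 yf12 zf39) (kf xf1 yf12 zf38) (kf xf1 yf11 zf53) (kf xf2 yf34 zf14) (kf xf0 yf34 zf19) (kf xf1 yf16 zf47) (kf xf1 yf16 zf48) (kf xf1 yf58 zf47) (kf xf2 yf11 zf38) (kf xf2 yf11 zf39) (kf xf0 yf34 zf28) (kf xf0 yf34 zf27) (kf xf2 yf34 zf26) (kf xf0 yf34 zf26) (kf xf1 yf11 zf25) (kf xf1 yf59 zf48) (kf xf2 yf34 zf23) (kf xf2 yf2 zf0) (kf xf2 yf10 zf44) (kf xf2 yf34 zf21) (kf xf2 yf34 zf22) (kf xf1 yf16 zf56) (kf xf2 yf1 zf46)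 (kf xf2 yf34 zf24) (kf xf2 yf34 zf53) (kf xf0 yf34 zf29) (kf xf1 yf14 zf59) (kf xf2 yf34 zf59) (kf xf1 yf14 zf57) (kf xf2 yf35 zf2) (kf xf2 yf35 zf7) (kf xf2 yf15 zf3) (kf xf0 yf34 zf33) (kf xf1 yf15 zf2) (kf xf1 yf15 zf50) (kf xf1 yf17 zf10) (kf xf2 yf35 zf14) (kf xf0 yf34 zf43) (kf xf0 yf34 zf42) (kf xf2 yf35 zf19) (kf xf0 yf34 zf38) (kf xf2 yf3 zf44) (kf xf1 yf17 zf14) (kf xf2 yf0 zf33) (kf xf2 yf28 zf12) (kf xf2 yf35 zf30) (kf xf0 yf34 zf41) (kf xf2 yf35 zf16) (kf xf1 yf17 zf21) (kf xf1 yf15 zf3) (kf xf2 yf35 zf15) (kf xf2 yf11 zf29) (kf xf2 yf5 zf15) (kf xf2 yf35 zf17) (kf xf2 yf35 zf48) (kf xf0 yf34 zf44) (kf xf1 yf14 zf29) (kf xf2 yf35 zf54) (kf xf1 yf14 zf27) (kf xf2 yf35 zf59) (kf xf2 yf36 zf2)) (@D3.rec (fun _ => Pt) (kf xf1 yf22 zf61) (kf xf0 yf34 zf48) (kf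 xf1 yf14 zf34) (kf xf1 yf14 zf50) (kf xf1 yf15 zf7) (kf xf2 yf36 zf13) (kf xf0 yf34 zf50) (kf xf1 yf15 zf4) (kf xf2 yf36 zf18) (kf xf0 yf34 zf51) (kf xf1 yf15 zf17) (kf xf2 yf24 zf43) (kf xf1 yf15 zf19) (kf xf2 yf36 zf28) (kf xf0 yf34 zf53) (kf xf2 yf36 zf33) (kf xf0 yf34 zf55) (kf xf1 yf15 zf10) (kf xf2 yf36 zf38) (kf xf1 yf15 zf12) (kf xf2 yf36 zf45) (kf xf0 yf34 zf57) (kf xf0 yf35 zf6) (kf xf2 yf36 zf50) (kf xf0 yf34 zf59) (kf xf0 yf35 zf14) (kf xf0 yf35 zf16) (kf xf2 yf36 zf36) (kf xf0 yf35 zf11) (kf xf0 yf35 zf12) (kf xf2 yf24 zf42) (kf xf0 yf35 zf19) (kf xf0 yf35 zf18) (kf xf2 yf37 zf9) (kf xf0 yf35 zf0) (kf xf2 yf2 zf12) (kf xf2 yf5 zf58) (kf xf2 yf2 zf15) (kf xf2 yf10 zf45) (kf xf2 yf37 zf18) (kf xf0 yf35 zf5) (kf xf2 yf1 zf15) (kf xf2 yf36 zf47) (kf xf2 yf6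 zf3) (kf xf2 yf31 zf53) (kf xf2 yf2 zf23) (kf xf2 yf11 zf8) (kf xf2 yf36 zf48) (kf xf2 yf37 zf36) (kf xf0 yf35 zf8) (kf xf1 yf14 zf35) (kf xf1 yf16 zf6) (kf xf2 yf37 zf45) (kf xf0 yf55 zf28) (kf xf1 yf16 zf3) (kf xf2 yf36 zf56) (kf xf2 yf37 zf55) (kf xf2 yf36 zf53) (kf xf2 yf2 zf40) (kf xf2 yf36 zf58) (kf xf2 yf38 zf6) (kf xf1 yf12 zf12)) (@D3.rec (fun _ => Pt) (kf xf1 yf25 zf4) (kf xf0 yf35 zf13) (kf xf1 yf1 zf1) (kf xf1 yf15 zf54) (kf xf2 yf36 zf51) (kf xf2 yf38 zf18) (kf xf1 yf15 zf51) (kf xf2 yf38 zf23) (kf xf2 yf36 zf54) (kf xf2 yf38 zf30) (kf xf2 yf5 zf42) (kf xf0 yf35 zf17) (kf xf2 yf37 zf2) (kf xf2 yf37 zf3) (kf xf1 yf24 zf61) (kf xf2 yf38 zf47) (kf xf2 yf36 zf60) (kf xf2 yf36 zf61) (kf xf2 yf37 zf0) (kf xf2 yf38 zf58) (kf xf2 yf37 zf6) (kf xf2 yf37 zf5) (kf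 xf2 yf39 zf9) (kf xf2 yf39 zf14) (kf xf0 yf35 zf20) (kf xf2 yf37 zf37) (kf xf1 yf25 zf13) (kf xf2 yf5 zf24) (kf xf1 yf13 zf43) (kf xf1 yf25 zf15) (kf xf2 yf39 zf29) (kf xf1 yf25 zf8) (kf xf2 yf1 zf45) (kf xf1 yf25 zf10) (kf xf2 yf39 zf37) (kf xf1 yf25 zf20) (kf xf1 yf25 zf21) (kf xf2 yf39 zf45) (kf xf1 yf25 zf17) (kf xf1 yf25 zf18) (kf xf2 yf39 zf52) (kf xf1 yf25 zf24) (kf xf1 yf25 zf23) (kf xf2 yf40 zf0) (kf xf1 yf25 zf57) (kf xf0 yf35 zf30) (kf xf0 yf36 zf1) (kf xf1 yf14 zf6) (kf xf1 yf14 zf7) (kf xf2 yf5 zf20) (kf xf2 yf40 zf10) (kf xf2 yf11 zf40) (kf xf2 yf1 zf58) (kf xf2 yf11 zf41) (kf xf2 yf40 zf23) (kf xf2 yf40 zf9) (kf xf1 yf14 zf22) (kf xf0 yf35 zf35) (kf xf2 yf11 zf4) (kf xf2 yf11 zf31) (kf xf2 yf40 zf37) (kf xf2 yf2 zf47)) (@D3.rec (fun _ => Pt) (kf xf2 yf39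 zf36) (kf xf1 yf18 zf26) (kf xf1 yf18 zf23) (kf xf2 yf11 zf43) (kf xf2 yf11 zf44) (kf xf1 yf22 zf29) (kf xf2 yf11 zf36) (kf xf2 yf11 zf35) (kf xf0 yf35 zf39) (kf xf1 yf12 zf15) (kf xf1 yf14 zf36) (kf xf1 yf58 zf23) (kf xf1 yf58 zf24) (kf xf2 yf41 zf0) (kf xf1 yf14 zf43) (kf xf2 yf8 zf35) (kf xf2 yf41 zf10) (kf xf2 yf11 zf24) (kf xf2 yf11 zf25) (kf xf2 yf11 zf26) (kf xf2 yf41 zf24) (kf xf1 yf14 zf49) (kf xf2 yf40 zf61) (kf xf2 yf5 zf11) (kf xf0 yf35 zf46) (kf xf2 yf11 zf33) (kf xf2 yf11 zf34) (kf xf2 yf41 zf36) (kf xf2 yf2 zf55) (kf xf2 yf11 zf46) (kf xf2 yf41 zf44) (kf xf0 yf35 zf48) (kf xf2 yf5 zf51) (kf xf2 yf11 zf57) (kf xf2 yf11 zf58) (kf xf1 yf25 zf9) (kf xf2 yf41 zf57) (kf xf0 yf54 zf47) (kf xf2 yf11 zf60) (kf xf2 yf11 zf61) (kf xf2 yf42 zf9) (kf xf2 yf11 zf54)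 (kf xf2 yf11 zf53) (kf xf2 yf33 zf31) (kf xf0 yf35 zf54) (kf xf1 yf58 zf26) (kf xf2 yf11 zf48) (kf xf2 yf42 zf26) (kf xf2 yf11 zf50) (kf xf2 yf11 zf51) (kf xf2 yf42 zf35) (kf xf2 yf12 zf2) (kf xf2 yf12 zf1) (kf xf0 yf35 zf57) (kf xf2 yf12 zf7) (kf xf2 yf12 zf8) (kf xf2 yf42 zf50) (kf xf2 yf12 zf4) (kf xf2 yf12 zf5) (kf xf2 yf42 zf58) (kf xf2 yf43 zf3) (kf xf2 yf42 zf60)) (@D3.rec (fun _ => Pt) (kf xf2 yf42 zf59) (kf xf2 yf13 zf43) (kf xf0 yf35 zf60) (kf xf2 yf12 zf16) (kf xf2 yf12 zf15) (kf xf2 yf43 zf19) (kf xf2 yf40 zf3) (kf xf2 yf12 zf20) (kf xf2 yf12 zf19) (kf xf1 yf11 zf12) (kf xf1 yf1 zf5) (kf xf1 yf11 zf13) (kf xf1 yf59 zf18) (kf xf2 yf43 zf38) (kf xf2 yf12 zf38) (kf xf2 yf12 zf39) (kf xf2 yf12 zf40) (kf xf2 yf43 zf53) (kf xf2 yf43 zf37) (kf xf1 yf11 zf27) (kf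 xf1 yf59 zf55) (kf xf0 yf36 zf5) (kf xf2 yf12 zf21) (kf xf1 yf17 zf2) (kf xf2 yf44 zf6) (kf xf2 yf7 zf15) (kf xf1 yf17 zf1) (kf xf2 yf44 zf13) (kf xf2 yf12 zf44) (kf xf2 yf15 zf28) (kf xf2 yf12 zf26) (kf xf2 yf12 zf25) (kf xf2 yf44 zf24) (kf xf0 yf36 zf9) (kf xf1 yf11 zf40) (kf xf1 yf11 zf43) (kf xf2 yf8 zf40) (kf xf2 yf12 zf29) (kf xf1 yf19 zf54) (kf xf2 yf12 zf28) (kf xf1 yf19 zf55) (kf xf2 yf12 zf30) (kf xf1 yf19 zf29) (kf xf2 yf7 zf25) (kf xf1 yf19 zf30) (kf xf2 yf12 zf49) (kf xf2 yf12 zf50) (kf xf2 yf12 zf51) (kf xf2 yf12 zf52) (kf xf2 yf45 zf5) (kf xf2 yf45 zf8) (kf xf2 yf12 zf33) (kf xf1 yf28 zf53) (kf xf2 yf45 zf13) (kf xf0 yf36 zf20) (kf xf2 yf8 zf45) (kf xf2 yf12 zf36) (kf xf2 yf12 zf35) (kf xf0 yf37 zf40) (kf xf1 yf25 zf40) (kf xf1 yf25 zf41) (kf xf1 yf9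 zf12)) (@D3.rec (fun _ => Pt) (kf xf0 yf37 zf42) (kf xf1 yf10 zf11) (kf xf0 yf37 zf45) (kf xf0 yf59 zf0) (kf xf0 yf59 zf1) (kf xf1 yf59 zf6) (kf xf1 yf59 zf7) (kf xf1 yf59 zf8) (kf xf2 yf45 zf36) (kf xf1 yf12 zf50) (kf xf1 yf59 zf22) (kf xf2 yf3 zf33) (kf xf0 yf36 zf33) (kf xf2 yf12 zf23) (kf xf2 yf45 zf45) (kf xf2 yf12 zf47) (kf xf2 yf12 zf46) (kf xf2 yf45 zf54) (kf xf0 yf36 zf35) (kf xf2 yf3 zf34) (kf xf0 yf37 zf22) (kf xf1 yf26 zf17) (kf xf2 yf12 zf31) (kf xf2 yf46 zf4) (kf xf1 yf25 zf43) (kf xf2 yf12 zf60) (kf xf2 yf12 zf61) (kf xf2 yf13 zf0) (kf xf2 yf13 zf1) (kf xf1 yf18 zf42) (kf xf1 yf18 zf44) (kf xf2 yf46 zf21) (kf xf2 yf12 zf55) (kf xf2 yf12 zf54) (kf xf2 yf46 zf26) (kf xf0 yf36 zf43) (kf xf1 yf25 zf30) (kf xf2 yf8 zf56) (kf xf2 yf12 zf59) (kf xf2 yf12 zf58)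 (kf xf1 yf12 zf46) (kf xf2 yf12 zf56) (kf xf0 yf36 zf54) (kf xf2 yf46 zf39) (kf xf1 yf13 zf57) (kf xf2 yf46 zf35) (kf xf0 yf56 zf23) (kf xf1 yf13 zf49) (kf xf2 yf13 zf15) (kf xf2 yf13 zf16) (kf xf2 yf13 zf17) (kf xf2 yf13 zf18) (kf xf2 yf13 zf19) (kf xf2 yf46 zf61) (kf xf1 yf18 zf38) (kf xf1 yf18 zf40) (kf xf2 yf47 zf7) (kf xf2 yf47 zf10) (kf xf0 yf36 zf61) (kf xf2 yf13 zf7) (kf xf2 yf13 zf8) (kf xf2 yf13 zf9)) (@D3.rec (fun _ => Pt) (kf xf2 yf8 zf52) (kf xf2 yf13 zf10) (kf xf2 yf13 zf31) (kf xf2 yf47 zf32) (kf xf2 yf47 zf34) (kf xf0 yf37 zf2) (kf xf0 yf37 zf5) (kf xf0 yf37 zf4) (kf xf1 yf20 zf13) (kf xf2 yf47 zf44) (kf xf2 yf47 zf48) (kf xf0 yf37 zf3) (kf xf2 yf47 zf37) (kf xf1 yf20 zf8) (kf xf2 yf47 zf38) (kf xf2 yf47 zf60) (kf xf2 yf47 zf35) (kf xf2 yf48 zf0) (kf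 xf2 yf47 zf61) (kf xf2 yf48 zf14) (kf xf2 yf48 zf17) (kf xf0 yf37 zf6) (kf xf0 yf38 zf52) (kf xf2 yf13 zf41) (kf xf2 yf48 zf27) (kf xf2 yf13 zf39) (kf xf2 yf48 zf33) (kf xf2 yf12 zf13) (kf xf2 yf48 zf41) (kf xf2 yf13 zf46) (kf xf2 yf13 zf45) (kf xf0 yf37 zf11) (kf xf2 yf48 zf50) (kf xf0 yf39 zf0) (kf xf1 yf5 zf20) (kf xf1 yf5 zf21) (kf xf2 yf49 zf2) (kf xf1 yf28 zf22) (kf xf1 yf28 zf21) (kf xf0 yf37 zf15) (kf xf1 yf5 zf26) (kf xf0 yf42 zf9) (kf xf1 yf5 zf27) (kf xf2 yf49 zf10) (kf xf1 yf26 zf15) (kf xf1 yf26 zf14) (kf xf2 yf49 zf16) (kf xf0 yf37 zf17) (kf xf1 yf24 zf48) (kf xf1 yf24 zf49) (kf xf1 yf24 zf50) (kf xf1 yf22 zf1) (kf xf2 yf45 zf56) (kf xf2 yf49 zf30) (kf xf2 yf45 zf57) (kf xf1 yf28 zf24) (kf xf1 yf28 zf25) (kf xf1 yf28 zf26) (kf xf1 yf28 zf3) (kf xf1 yf22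 zf3) (kf xf2 yf49 zf48) (kf xf2 yf14 zf7)) (@D3.rec (fun _ => Pt) (kf xf2 yf14 zf8) (kf xf1 yf21 zf59) (kf xf2 yf14 zf10) (kf xf1 yf28 zf31) (kf xf1 yf21 zf60) (kf xf2 yf44 zf54) (kf xf2 yf14 zf11) (kf xf0 yf37 zf29) (kf xf2 yf14 zf12) (kf xf2 yf14 zf13) (kf xf2 yf14 zf14) (kf xf2 yf50 zf21) (kf xf2 yf50 zf7) (kf xf2 yf50 zf8) (kf xf1 yf32 zf3) (kf xf1 yf32 zf0) (kf xf2 yf50 zf34) (kf xf0 yf37 zf30) (kf xf1 yf28 zf55) (kf xf1 yf28 zf56) (kf xf1 yf28 zf51) (kf xf1 yf28 zf52) (kf xf2 yf45 zf11) (kf xf2 yf13 zf60) (kf xf2 yf13 zf59) (kf xf2 yf50 zf54) (kf xf0 yf37 zf33) (kf xf1 yf28 zf13) (kf xf2 yf9 zf32) (kf xf2 yf14 zf3) (kf xf2 yf14 zf4) (kf xf2 yf14 zf6) (kf xf2 yf14 zf0) (kf xf2 yf14 zf1) (kf xf2 yf45 zf17) (kf xf2 yf14 zf2) (kf xf1 yf9 zf13) (kf xf1 yf6 zf26) (kf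 xf1 yf31 zf30) (kf xf1 yf22 zf16) (kf xf1 yf31 zf25) (kf xf1 yf22 zf17) (kf xf2 yf13 zf52) (kf xf2 yf13 zf53) (kf xf2 yf13 zf54) (kf xf2 yf51 zf24) (kf xf1 yf30 zf30) (kf xf1 yf30 zf26) (kf xf0 yf37 zf50) (kf xf2 yf14 zf20) (kf xf2 yf14 zf21) (kf xf2 yf9 zf43) (kf xf2 yf14 zf19) (kf xf2 yf14 zf27) (kf xf1 yf23 zf48) (kf xf2 yf14 zf34) (kf xf2 yf14 zf28) (kf xf1 yf22 zf37) (kf xf2 yf14 zf30) (kf xf1 yf21 zf1) (kf xf1 yf21 zf4) (kf xf2 yf14 zf32)) (@D3.rec (fun _ => Pt) (kf xf2 yf51 zf61) (kf xf1 yf20 zf51) (kf xf2 yf52 zf4) (kf xf1 yf20 zf59) (kf xf2 yf52 zf9) (kf xf1 yf33 zf10) (kf xf1 yf33 zf7) (kf xf0 yf37 zf60) (kf xf2 yf16 zf42) (kf xf1 yf22 zf11) (kf xf1 yf22 zf12) (kf xf1 yf22 zf9) (kf xf1 yf22 zf10) (kf xf2 yf14 zf22) (kf xf2 yf14 zf23) (kf xf2 yf14 zf24) (kf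 xf1 yf21 zf39) (kf xf1 yf21 zf41) (kf xf1 yf48 zf46) (kf xf2 yf52 zf33) (kf xf2 yf16 zf43) (kf xf1 yf33 zf0) (kf xf1 yf32 zf58) (kf xf2 yf52 zf43) (kf xf0 yf38 zf10) (kf xf2 yf14 zf41) (kf xf2 yf14 zf42) (kf xf2 yf14 zf39) (kf xf2 yf14 zf40) (kf xf1 yf17 zf5) (kf xf2 yf14 zf43) (kf xf0 yf38 zf13) (kf xf2 yf14 zf47) (kf xf2 yf14 zf48) (kf xf2 yf9 zf59) (kf xf2 yf14 zf45) (kf xf2 yf14 zf46) (kf xf1 yf21 zf57) (kf xf2 yf15 zf5) (kf xf2 yf15 zf6) (kf xf2 yf46 zf45) (kf xf2 yf15 zf7) (kf xf2 yf15 zf8) (kf xf2 yf15 zf9) (kf xf2 yf15 zf11) (kf xf2 yf15 zf12) (kf xf2 yf53 zf23) (kf xf2 yf15 zf14) (kf xf2 yf15 zf15) (kf xf2 yf15 zf16) (kf xf2 yf53 zf36) (kf xf1 yf28 zf33) (kf xf1 yf28 zf37) (kf xf2 yf15 zf18) (kf xf2 yf53 zf21) (kf xf2 yf53 zf20) (kf xf2 yf53 zf55) (kf xf0 yf38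 zf23) (kf xf2 yf15 zf0) (kf xf2 yf14 zf61) (kf xf2 yf19 zf40) (kf xf1 yf15 zf0)) (@D3.rec (fun _ => Pt) (kf xf0 yf38 zf25) (kf xf2 yf14 zf49) (kf xf2 yf14 zf50) (kf xf1 yf23 zf35) (kf xf2 yf14 zf51) (kf xf2 yf14 zf52) (kf xf2 yf15 zf60) (kf xf2 yf9 zf46) (kf xf2 yf14 zf53) (kf xf2 yf16 zf15) (kf xf2 yf9 zf44) (kf xf2 yf9 zf45) (kf xf2 yf9 zf47) (kf xf2 yf54 zf33) (kf xf1 yf31 zf16) (kf xf1 yf31 zf19) (kf xf2 yf14 zf55) (kf xf2 yf54 zf46) (kf xf2 yf15 zf30) (kf xf2 yf54 zf52) (kf xf0 yf38 zf32) (kf xf2 yf15 zf25) (kf xf2 yf15 zf24) (kf xf2 yf54 zf60) (kf xf0 yf38 zf33) (kf xf2 yf12 zf24) (kf xf0 yf38 zf34) (kf xf2 yf47 zf36) (kf xf0 yf38 zf43) (kf xf0 yf38 zf45) (kf xf2 yf30 zf46) (kf xf1 yf23 zf34) (kf xf1 yf23 zf52) (kf xf2 yf55 zf13) (kf xf1 yf23 zf31) (kf xf1 yf23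 zf3) (kf xf1 yf23 zf49) (kf xf2 yf55 zf22) (kf xf2 yf55 zf25) (kf xf0 yf38 zf39) (kf xf2 yf17 zf28) (kf xf2 yf55 zf33) (kf xf2 yf55 zf36) (kf xf0 yf38 zf40) (kf xf2 yf30 zf47) (kf xf2 yf55 zf41) (kf xf0 yf38 zf41) (kf xf2 yf52 zf54) (kf xf1 yf21 zf54) (kf xf1 yf23 zf36) (kf xf2 yf55 zf2) (kf xf2 yf55 zf50) (kf xf1 yf23 zf32) (kf xf1 yf24 zf12) (kf xf2 yf55 zf4) (kf xf2 yf55 zf59) (kf xf2 yf52 zf55) (kf xf2 yf56 zf1) (kf xf0 yf38 zf46) (kf xf2 yf21 zf16) (kf xf2 yf56 zf7) (kf xf2 yf22 zf15)) (@D3.rec (fun _ => Pt) (kf xf2 yf22 zf16) (kf xf2 yf56 zf19) (kf xf2 yf22 zf18) (kf xf2 yf22 zf19) (kf xf2 yf56 zf29) (kf xf2 yf21 zf14) (kf xf2 yf21 zf15) (kf xf2 yf21 zf17) (kf xf2 yf56 zf45) (kf xf2 yf56 zf6) (kf xf2 yf56 zf5) (kf xf0 yf38 zf51) (kf xf1 yf23 zf53) (kf xf2 yf48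 zf19) (kf xf2 yf48 zf20) (kf xf2 yf16 zf24) (kf xf2 yf16 zf25) (kf xf2 yf57 zf5) (kf xf2 yf16 zf21) (kf xf2 yf16 zf20) (kf xf2 yf57 zf11) (kf xf0 yf38 zf54) (kf xf2 yf16 zf17) (kf xf2 yf16 zf18) (kf xf2 yf57 zf20) (kf xf2 yf16 zf28) (kf xf2 yf16 zf27) (kf xf2 yf57 zf29) (kf xf0 yf38 zf56) (kf xf2 yf16 zf34) (kf xf0 yf42 zf30) (kf xf2 yf16 zf35) (kf xf2 yf18 zf9) (kf xf2 yf16 zf31) (kf xf1 yf38 zf29) (kf xf2 yf16 zf32) (kf xf2 yf17 zf60) (kf xf2 yf16 zf37) (kf xf2 yf16 zf38) (kf xf2 yf16 zf36) (kf xf2 yf16 zf40) (kf xf2 yf16 zf39) (kf xf2 yf48 zf54) (kf xf2 yf14 zf31) (kf xf2 yf16 zf45) (kf xf1 yf4 zf6) (kf xf2 yf16 zf46) (kf xf2 yf16 zf44) (kf xf1 yf20 zf48) (kf xf1 yf20 zf49) (kf xf1 yf20 zf50) (kf xf2 yf2 zf33) (kf xf2 yf5 zf38) (kf xf2 yf2 zf34) (kf xf0 yf39 zf10)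 (kf xf0 yf39 zf9) (kf xf2 yf58 zf27) (kf xf0 yf39 zf8) (kf xf1 yf25 zf1) (kf xf1 yf58 zf31) (kf xf2 yf58 zf24) (kf xf1 yf16 zf14)) (@D3.rec (fun _ => Pt) (kf xf0 yf56 zf6) (kf xf1 yf24 zf58) (kf xf2 yf58 zf23) (kf xf2 yf5 zf46) (kf xf1 yf16 zf0) (kf xf2 yf58 zf25) (kf xf2 yf58 zf49) (kf xf0 yf39 zf11) (kf xf1 yf16 zf31) (kf xf1 yf17 zf35) (kf xf1 yf16 zf33) (kf xf2 yf58 zf58) (kf xf1 yf12 zf48) (kf xf1 yf16 zf26) (kf xf2 yf5 zf14) (kf xf1 yf16 zf29) (kf xf2 yf59 zf6) (kf xf1 yf16 zf38) (kf xf1 yf16 zf39) (kf xf2 yf59 zf14) (kf xf1 yf16 zf35) (kf xf1 yf16 zf36) (kf xf2 yf59 zf21) (kf xf1 yf16 zf42) (kf xf1 yf16 zf41) (kf xf2 yf59 zf31) (kf xf2 yf16 zf58) (kf xf0 yf39 zf21) (kf xf1 yf3 zf3) (kf xf2 yf0 zf45) (kf xf1 yf19 zf36) (kf xf2 yf0 zf47) (kf xf2 yf59 zf42) (kf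 xf1 yf13 zf60) (kf xf2 yf1 zf1) (kf xf2 yf0 zf41) (kf xf1 yf59 zf15) (kf xf2 yf0 zf43) (kf xf2 yf59 zf51) (kf xf1 yf14 zf0) (kf xf1 yf18 zf59) (kf xf1 yf18 zf60) (kf xf1 yf3 zf5) (kf xf1 yf19 zf24) (kf xf1 yf3 zf17) (kf xf2 yf0 zf10) (kf xf2 yf0 zf11) (kf xf2 yf0 zf8) (kf xf2 yf0 zf9) (kf xf1 yf56 zf10) (kf xf3 yf0 zf9) (kf xf3 yf0 zf6) (kf xf3 yf0 zf5) (kf xf3 yf0 zf17) (kf xf0 yf39 zf40) (kf xf2 yf0 zf7) (kf xf2 yf0 zf4) (kf xf1 yf16 zf44) (kf xf3 yf0 zf27) (kf xf0 yf39 zf41) (kf xf0 yf39 zf50) (kf xf0 yf39 zf46)) (@D3.rec (fun _ => Pt) (kf xf0 yf39 zf45) (kf xf1 yf26 zf6) (kf xf1 yf26 zf7) (kf xf3 yf0 zf31) (kf xf0 yf39 zf44) (kf xf2 yf49 zf53) (kf xf1 yf26 zf1) (kf xf1 yf26 zf2) (kf xf2 yf17 zf22) (kf xf3 yf0 zf42) (kf xf3 yf0 zf18) (kf xf2 yf17 zf5) (kf xf2 yf17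 zf4) (kf xf0 yf39 zf49) (kf xf1 yf20 zf45) (kf xf1 yf20 zf44) (kf xf2 yf47 zf8) (kf xf1 yf19 zf21) (kf xf1 yf2 zf6) (kf xf3 yf0 zf61) (kf xf1 yf57 zf6) (kf xf0 yf39 zf54) (kf xf0 yf41 zf4) (kf xf1 yf10 zf28) (kf xf0 yf43 zf18) (kf xf1 yf37 zf46) (kf xf3 yf1 zf5) (kf xf3 yf1 zf3) (kf xf1 yf43 zf54) (kf xf2 yf22 zf59) (kf xf0 yf39 zf61) (kf xf2 yf22 zf60) (kf xf1 yf29 zf40) (kf xf1 yf37 zf41) (kf xf0 yf43 zf33) (kf xf1 yf33 zf56) (kf xf1 yf7 zf13) (kf xf1 yf37 zf25) (kf xf1 yf37 zf26) (kf xf0 yf40 zf16) (kf xf0 yf43 zf46) (kf xf0 yf40 zf13) (kf xf1 yf30 zf60) (kf xf1 yf29 zf43) (kf xf1 yf29 zf12) (kf xf3 yf1 zf31) (kf xf0 yf40 zf9) (kf xf3 yf1 zf34) (kf xf1 yf30 zf61) (kf xf3 yf1 zf37) (kf xf0 yf40 zf11) (kf xf1 yf31 zf33) (kf xf1 yf38 zf32) (kf xf1 yf35 zf53) (kf xf1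 yf35 zf54) (kf xf1 yf35 zf55) (kf xf3 yf1 zf22) (kf xf3 yf1 zf47) (kf xf0 yf43 zf50) (kf xf0 yf43 zf56) (kf xf0 yf43 zf61) (kf xf0 yf44 zf3)) (@D3.rec (fun _ => Pt) (kf xf3 yf1 zf58) (kf xf0 yf51 zf47) (kf xf0 yf52 zf2) (kf xf2 yf17 zf2) (kf xf3 yf2 zf9) (kf xf3 yf2 zf13) (kf xf0 yf40 zf19) (kf xf3 yf1 zf46) (kf xf3 yf1 zf45) (kf xf0 yf40 zf20) (kf xf3 yf2 zf22) (kf xf0 yf44 zf27) (kf xf0 yf44 zf29) (kf xf2 yf15 zf45) (kf xf3 yf2 zf33) (kf xf2 yf17 zf31) (kf xf2 yf17 zf30) (kf xf3 yf2 zf42) (kf xf0 yf40 zf24) (kf xf2 yf17 zf38) (kf xf2 yf17 zf39) (kf xf2 yf17 zf40) (kf xf3 yf2 zf55) (kf xf2 yf17 zf34) (kf xf2 yf17 zf35) (kf xf2 yf17 zf36) (kf xf3 yf3 zf4) (kf xf0 yf40 zf28) (kf xf1 yf29 zf8) (kf xf1 yf29 zf7) (kf xf3 yf3 zf5) (kf xf0 yf45 zf7) (kf xf0 yf54 zf35) (kf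 xf3 yf3 zf21) (kf xf1 yf2 zf22) (kf xf0 yf40 zf31) (kf xf0 yf54 zf61) (kf xf0 yf55 zf0) (kf xf0 yf55 zf1) (kf xf3 yf3 zf31) (kf xf3 yf3 zf33) (kf xf0 yf40 zf33) (kf xf1 yf11 zf10) (kf xf1 yf11 zf7) (kf xf1 yf11 zf8) (kf xf0 yf57 zf29) (kf xf0 yf55 zf12) (kf xf0 yf55 zf13) (kf xf3 yf3 zf40) (kf xf1 yf57 zf16) (kf xf0 yf40 zf38) (kf xf1 yf57 zf2) (kf xf1 yf2 zf16) (kf xf3 yf3 zf47) (kf xf0 yf40 zf49) (kf xf0 yf40 zf48) (kf xf0 yf40 zf40) (kf xf2 yf9 zf20) (kf xf2 yf9 zf21) (kf xf3 yf3 zf52) (kf xf2 yf18 zf42) (kf xf2 yf17 zf42)) (@D3.rec (fun _ => Pt) (kf xf0 yf40 zf42) (kf xf2 yf9 zf17) (kf xf2 yf9 zf18) (kf xf1 yf20 zf58) (kf xf1 yf31 zf3) (kf xf3 yf4 zf6) (kf xf2 yf18 zf43) (kf xf2 yf18 zf44) (kf xf2 yf18 zf45) (kf xf2 yf18 zf46) (kf xf3 yf4 zf19) (kf xf3 yf4 zf23)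 (kf xf2 yf17 zf55) (kf xf1 yf21 zf27) (kf xf3 yf4 zf32) (kf xf0 yf40 zf47) (kf xf2 yf9 zf29) (kf xf2 yf52 zf17) (kf xf2 yf9 zf28) (kf xf2 yf24 zf16) (kf xf3 yf4 zf38) (kf xf1 yf20 zf38) (kf xf1 yf20 zf37) (kf xf0 yf40 zf51) (kf xf1 yf20 zf55) (kf xf1 yf20 zf56) (kf xf1 yf20 zf57) (kf xf3 yf4 zf50) (kf xf2 yf46 zf24) (kf xf0 yf40 zf53) (kf xf0 yf54 zf55) (kf xf1 yf21 zf3) (kf xf2 yf18 zf53) (kf xf1 yf22 zf51) (kf xf3 yf5 zf1) (kf xf2 yf18 zf55) (kf xf2 yf18 zf56) (kf xf1 yf22 zf52) (kf xf3 yf5 zf11) (kf xf3 yf5 zf15) (kf xf3 yf5 zf13) (kf xf3 yf5 zf12) (kf xf3 yf5 zf26) (kf xf0 yf40 zf60) (kf xf2 yf17 zf52) (kf xf2 yf17 zf51) (kf xf3 yf5 zf34) (kf xf0 yf40 zf61) (kf xf0 yf54 zf32) (kf xf2 yf17 zf56) (kf xf2 yf26 zf57) (kf xf1 yf21 zf20) (kf xf1 yf21 zf21) (kf xf1 yf18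 zf52) (kf xf1 yf10 zf27) (kf xf1 yf21 zf18) (kf xf1 yf21 zf19) (kf xf2 yf58 zf11) (kf xf0 yf41 zf7) (kf xf1 yf5 zf30) (kf xf1 yf5 zf32) (kf xf1 yf5 zf33)) (@D3.rec (fun _ => Pt) (kf xf2 yf18 zf37) (kf xf1 yf5 zf35) (kf xf1 yf7 zf28) (kf xf1 yf5 zf38) (kf xf3 yf5 zf61) (kf xf1 yf8 zf0) (kf xf1 yf8 zf2) (kf xf1 yf27 zf29) (kf xf1 yf27 zf28) (kf xf3 yf6 zf12) (kf xf0 yf41 zf13) (kf xf1 yf8 zf37) (kf xf1 yf26 zf44) (kf xf1 yf37 zf34) (kf xf1 yf29 zf23) (kf xf1 yf39 zf10) (kf xf1 yf37 zf35) (kf xf2 yf18 zf29) (kf xf1 yf32 zf45) (kf xf1 yf32 zf16) (kf xf1 yf32 zf22) (kf xf1 yf32 zf46) (kf xf3 yf6 zf33) (kf xf1 yf29 zf14) (kf xf1 yf32 zf15) (kf xf1 yf32 zf17) (kf xf1 yf32 zf55) (kf xf1 yf32 zf54) (kf xf3 yf6 zf47) (kf xf0 yf41 zf20) (kf xf1 yf32 zf18) (kf xf1 yf44 zf21) (kf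 xf1 yf40 zf53) (kf xf1 yf38 zf16) (kf xf1 yf32 zf51) (kf xf1 yf32 zf52) (kf xf3 yf6 zf58) (kf xf1 yf32 zf49) (kf xf1 yf32 zf48) (kf xf0 yf41 zf26) (kf xf1 yf26 zf32) (kf xf1 yf32 zf34) (kf xf1 yf32 zf25) (kf xf1 yf26 zf43) (kf xf1 yf32 zf28) (kf xf1 yf32 zf35) (kf xf3 yf7 zf10) (kf xf1 yf6 zf43) (kf xf1 yf32 zf29) (kf xf2 yf17 zf7) (kf xf1 yf32 zf37) (kf xf1 yf32 zf38) (kf xf3 yf7 zf16) (kf xf2 yf19 zf7) (kf xf3 yf7 zf23) (kf xf0 yf41 zf41) (kf xf0 yf41 zf40) (kf xf2 yf6 zf29) (kf xf0 yf41 zf35) (kf xf2 yf19 zf10) (kf xf2 yf19 zf11) (kf xf2 yf19 zf20)) (@D3.rec (fun _ => Pt) (kf xf2 yf19 zf13) (kf xf2 yf19 zf14) (kf xf3 yf7 zf38) (kf xf2 yf19 zf16) (kf xf2 yf19 zf17) (kf xf2 yf19 zf18) (kf xf3 yf7 zf51) (kf xf3 yf7 zf21) (kf xf3 yf7 zf20) (kf xf2 yf6 zf27) (kf xf0 yf41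 zf39) (kf xf3 yf7 zf25) (kf xf3 yf7 zf26) (kf xf2 yf19 zf25) (kf xf3 yf7 zf24) (kf xf1 yf33 zf18) (kf xf2 yf19 zf26) (kf xf2 yf19 zf6) (kf xf1 yf9 zf25) (kf xf0 yf41 zf42) (kf xf1 yf37 zf33) (kf xf1 yf37 zf36) (kf xf3 yf8 zf19) (kf xf3 yf8 zf23) (kf xf0 yf41 zf45) (kf xf2 yf18 zf22) (kf xf1 yf21 zf47) (kf xf2 yf18 zf23) (kf xf1 yf32 zf59) (kf xf2 yf18 zf20) (kf xf1 yf21 zf46) (kf xf2 yf18 zf21) (kf xf2 yf18 zf10) (kf xf2 yf18 zf25) (kf xf2 yf18 zf24) (kf xf3 yf8 zf57) (kf xf0 yf41 zf48) (kf xf2 yf17 zf59) (kf xf2 yf18 zf30) (kf xf2 yf18 zf31) (kf xf2 yf18 zf32) (kf xf2 yf18 zf17) (kf xf1 yf40 zf54) (kf xf1 yf44 zf20) (kf xf1 yf44 zf22) (kf xf2 yf18 zf28) (kf xf3 yf9 zf13) (kf xf1 yf32 zf12) (kf xf1 yf32 zf13) (kf xf3 yf9 zf21) (kf xf3 yf9 zf26) (kf xf0 yf42 zf43) (kf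 xf0 yf41 zf55) (kf xf2 yf6 zf26) (kf xf0 yf45 zf16) (kf xf1 yf5 zf31) (kf xf2 yf18 zf38) (kf xf2 yf18 zf39) (kf xf2 yf18 zf40) (kf xf3 yf8 zf7) (kf xf1 yf26 zf42) (kf xf1 yf26 zf48)) (@D3.rec (fun _ => Pt) (kf xf1 yf44 zf30) (kf xf1 yf44 zf31) (kf xf3 yf9 zf48) (kf xf1 yf28 zf4) (kf xf2 yf9 zf22) (kf xf2 yf9 zf23) (kf xf2 yf9 zf24) (kf xf2 yf9 zf25) (kf xf2 yf49 zf6) (kf xf3 yf10 zf3) (kf xf2 yf9 zf40) (kf xf3 yf10 zf7) (kf xf0 yf42 zf3) (kf xf1 yf31 zf28) (kf xf1 yf31 zf29) (kf xf2 yf17 zf43) (kf xf1 yf23 zf14) (kf xf2 yf17 zf44) (kf xf2 yf17 zf45) (kf xf1 yf23 zf15) (kf xf2 yf44 zf32) (kf xf2 yf19 zf1) (kf xf2 yf19 zf0) (kf xf3 yf5 zf33) (kf xf0 yf42 zf10) (kf xf1 yf21 zf40) (kf xf0 yf54 zf57) (kf xf1 yf12 zf29) (kf xf1 yf31 zf13) (kf xf1 yf31 zf14) (kf xf1 yf21 zf38)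 (kf xf1 yf39 zf9) (kf xf1 yf33 zf6) (kf xf1 yf26 zf51) (kf xf1 yf38 zf31) (kf xf1 yf34 zf36) (kf xf3 yf10 zf34) (kf xf1 yf31 zf55) (kf xf1 yf33 zf30) (kf xf1 yf31 zf56) (kf xf3 yf8 zf50) (kf xf1 yf31 zf57) (kf xf3 yf9 zf3) (kf xf0 yf42 zf26) (kf xf2 yf18 zf3) (kf xf2 yf19 zf31) (kf xf0 yf51 zf42) (kf xf2 yf18 zf4) (kf xf2 yf18 zf6) (kf xf2 yf18 zf7) (kf xf2 yf18 zf8) (kf xf2 yf57 zf34) (kf xf0 yf50 zf54) (kf xf2 yf19 zf38) (kf xf2 yf19 zf39) (kf xf1 yf31 zf37) (kf xf1 yf31 zf39) (kf xf1 yf31 zf41) (kf xf2 yf18 zf15) (kf xf3 yf11 zf5) (kf xf0 yf42 zf33) (kf xf2 yf19 zf29)) (@D3.rec (fun _ => Pt) (kf xf1 yf21 zf15) (kf xf2 yf19 zf30) (kf xf2 yf19 zf27) (kf xf1 yf21 zf14) (kf xf2 yf19 zf28) (kf xf2 yf18 zf5) (kf xf2 yf19 zf33) (kf xf2 yf19 zf32) (kf xf3 yf11 zf36) (kf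 xf0 yf42 zf37) (kf xf1 yf38 zf15) (kf xf1 yf37 zf49) (kf xf1 yf30 zf47) (kf xf1 yf30 zf48) (kf xf3 yf11 zf48) (kf xf1 yf29 zf24) (kf xf1 yf29 zf19) (kf xf1 yf29 zf25) (kf xf1 yf29 zf30) (kf xf3 yf9 zf25) (kf xf3 yf11 zf37) (kf xf0 yf43 zf49) (kf xf1 yf29 zf20) (kf xf1 yf32 zf23) (kf xf0 yf52 zf3) (kf xf1 yf29 zf42) (kf xf0 yf43 zf48) (kf xf2 yf19 zf46) (kf xf1 yf29 zf44) (kf xf1 yf29 zf48) (kf xf1 yf7 zf32) (kf xf2 yf19 zf47) (kf xf2 yf19 zf48) (kf xf0 yf42 zf57) (kf xf1 yf29 zf41) (kf xf1 yf29 zf45) (kf xf3 yf12 zf13) (kf xf1 yf29 zf50) (kf xf1 yf29 zf51) (kf xf3 yf12 zf23) (kf xf2 yf19 zf49) (kf xf2 yf19 zf50) (kf xf2 yf19 zf51) (kf xf3 yf12 zf4) (kf xf3 yf12 zf5) (kf xf1 yf29 zf18) (kf xf1 yf29 zf21) (kf xf3 yf12 zf41) (kf xf1 yf29 zf38) (kf xf1 yf29 zf37) (kf xf0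 yf42 zf59) (kf xf1 yf29 zf34) (kf xf1 yf29 zf35) (kf xf3 yf12 zf52) (kf xf1 yf29 zf27) (kf xf1 yf29 zf26) (kf xf0 yf42 zf61) (kf xf2 yf19 zf44) (kf xf1 yf22 zf22) (kf xf1 yf30 zf28) (kf xf3 yf13 zf6) (kf xf2 yf19 zf41)) (@D3.rec (fun _ => Pt) (kf xf1 yf22 zf21) (kf xf2 yf19 zf42) (kf xf3 yf13 zf17) (kf xf0 yf43 zf59) (kf xf2 yf19 zf37) (kf xf1 yf48 zf31) (kf xf1 yf31 zf32) (kf xf1 yf22 zf6) (kf xf3 yf13 zf24) (kf xf0 yf51 zf46) (kf xf1 yf22 zf5) (kf xf3 yf11 zf24) (kf xf1 yf33 zf12) (kf xf1 yf33 zf13) (kf xf1 yf6 zf8) (kf xf1 yf33 zf15) (kf xf1 yf33 zf16) (kf xf1 yf33 zf17) (kf xf1 yf30 zf15) (kf xf1 yf39 zf33) (kf xf1 yf42 zf42) (kf xf1 yf48 zf32) (kf xf3 yf13 zf40) (kf xf1 yf48 zf24) (kf xf3 yf1 zf2) (kf xf1 yf48 zf34) (kf xf1 yf48 zf36) (kf xf2 yf22 zf42) (kf xf1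 yf48 zf27) (kf xf2 yf20 zf22) (kf xf1 yf31 zf38) (kf xf1 yf48 zf39) (kf xf3 yf2 zf43) (kf xf1 yf48 zf41) (kf xf1 yf48 zf42) (kf xf3 yf14 zf3) (kf xf1 yf48 zf44) (kf xf1 yf48 zf45) (kf xf1 yf48 zf47) (kf xf3 yf14 zf16) (kf xf3 yf13 zf51) (kf xf3 yf13 zf50) (kf xf0 yf43 zf25) (kf xf2 yf20 zf9) (kf xf1 yf36 zf8) (kf xf3 yf14 zf29) (kf xf2 yf20 zf11) (kf xf1 yf37 zf13) (kf xf3 yf2 zf54) (kf xf2 yf19 zf53) (kf xf2 yf19 zf55) (kf xf2 yf22 zf36) (kf xf2 yf19 zf58) (kf xf3 yf1 zf13) (kf xf2 yf19 zf59) (kf xf2 yf21 zf5) (kf xf1 yf26 zf35) (kf xf3 yf1 zf14) (kf xf2 yf19 zf61) (kf xf2 yf20 zf1) (kf xf3 yf14 zf56) (kf xf2 yf20 zf3)) (@D3.rec (fun _ => Pt) (kf xf2 yf20 zf4) (kf xf3 yf2 zf56) (kf xf2 yf20 zf6) (kf xf1 yf51 zf18) (kf xf2 yf20 zf7) (kf xf1 yf34 zf5) (kf xf3 yf8 zf6)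 (kf xf1 yf34 zf7) (kf xf1 yf34 zf8) (kf xf1 yf37 zf43) (kf xf2 yf20 zf15) (kf xf3 yf3 zf2) (kf xf3 yf2 zf51) (kf xf0 yf44 zf9) (kf xf3 yf15 zf12) (kf xf3 yf1 zf24) (kf xf3 yf12 zf0) (kf xf0 yf44 zf4) (kf xf3 yf1 zf48) (kf xf0 yf43 zf57) (kf xf1 yf34 zf20) (kf xf1 yf39 zf19) (kf xf1 yf44 zf49) (kf xf1 yf39 zf34) (kf xf1 yf39 zf20) (kf xf0 yf47 zf22) (kf xf3 yf15 zf26) (kf xf0 yf43 zf54) (kf xf1 yf34 zf28) (kf xf1 yf49 zf51) (kf xf1 yf49 zf49) (kf xf3 yf1 zf49) (kf xf3 yf1 zf50) (kf xf3 yf15 zf18) (kf xf3 yf1 zf57) (kf xf3 yf1 zf51) (kf xf1 yf31 zf35) (kf xf3 yf1 zf52) (kf xf0 yf47 zf23) (kf xf1 yf44 zf0) (kf xf1 yf34 zf40) (kf xf3 yf1 zf54) (kf xf3 yf1 zf55) (kf xf3 yf6 zf27) (kf xf0 yf44 zf14) (kf xf0 yf44 zf15) (kf xf3 yf16 zf2) (kf xf0 yf44 zf11) (kf xf0 yf44 zf12)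 (kf xf3 yf16 zf8) (kf xf0 yf44 zf18) (kf xf0 yf44 zf17) (kf xf3 yf15 zf7) (kf xf0 yf52 zf59) (kf xf3 yf16 zf22) (kf xf0 yf44 zf24) (kf xf0 yf44 zf23) (kf xf0 yf44 zf10) (kf xf3 yf6 zf14) (kf xf3 yf16 zf3) (kf xf3 yf16 zf37) (kf xf1 yf49 zf42)) (@D3.rec (fun _ => Pt) (kf xf1 yf49 zf39) (kf xf3 yf16 zf4) (kf xf3 yf16 zf5) (kf xf3 yf16 zf52) (kf xf3 yf16 zf0) (kf xf2 yf21 zf54) (kf xf3 yf16 zf61) (kf xf0 yf44 zf13) (kf xf3 yf10 zf31) (kf xf3 yf15 zf57) (kf xf3 yf17 zf7) (kf xf3 yf15 zf59) (kf xf3 yf15 zf60) (kf xf3 yf17 zf17) (kf xf2 yf22 zf9) (kf xf3 yf14 zf40) (kf xf3 yf17 zf26) (kf xf0 yf44 zf16) (kf xf3 yf16 zf10) (kf xf3 yf16 zf11) (kf xf3 yf17 zf35) (kf xf3 yf12 zf9) (kf xf3 yf12 zf8) (kf xf3 yf17 zf40) (kf xf2 yf16 zf8) (kf xf2 yf16 zf9) (kf xf2 yf16 zf1) (kf xf2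 yf16 zf10) (kf xf3 yf17 zf57) (kf xf3 yf1 zf60) (kf xf3 yf2 zf1) (kf xf0 yf52 zf20) (kf xf3 yf18 zf4) (kf xf0 yf44 zf20) (kf xf3 yf16 zf20) (kf xf3 yf16 zf19) (kf xf3 yf18 zf17) (kf xf0 yf44 zf21) (kf xf3 yf18 zf18) (kf xf1 yf35 zf41) (kf xf3 yf16 zf26) (kf xf1 yf35 zf39) (kf xf3 yf16 zf23) (kf xf3 yf16 zf24) (kf xf3 yf16 zf25) (kf xf3 yf18 zf40) (kf xf0 yf44 zf26) (kf xf3 yf15 zf10) (kf xf3 yf15 zf9) (kf xf3 yf18 zf41) (kf xf3 yf2 zf26) (kf xf1 yf44 zf51) (kf xf3 yf2 zf27) (kf xf1 yf26 zf53) (kf xf1 yf26 zf54) (kf xf1 yf26 zf55) (kf xf3 yf1 zf26) (kf xf3 yf2 zf28) (kf xf2 yf22 zf0) (kf xf3 yf19 zf0) (kf xf1 yf48 zf2) (kf xf1 yf48 zf14)) (@D3.rec (fun _ => Pt) (kf xf2 yf22 zf2) (kf xf3 yf19 zf11) (kf xf3 yf18 zf60) (kf xf3 yf18 zf59) (kf xf3 yf19 zf22) (kf xf0 yf44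 zf32) (kf xf2 yf20 zf59) (kf xf2 yf21 zf56) (kf xf1 yf33 zf44) (kf xf2 yf21 zf55) (kf xf3 yf19 zf33) (kf xf2 yf21 zf59) (kf xf2 yf21 zf58) (kf xf3 yf19 zf40) (kf xf0 yf44 zf35) (kf xf2 yf21 zf44) (kf xf2 yf21 zf35) (kf xf2 yf21 zf46) (kf xf2 yf21 zf47) (kf xf2 yf21 zf48) (kf xf3 yf19 zf54) (kf xf2 yf20 zf18) (kf xf3 yf19 zf60) (kf xf0 yf44 zf39) (kf xf2 yf22 zf10) (kf xf2 yf19 zf56) (kf xf2 yf22 zf8) (kf xf1 yf36 zf61) (kf xf2 yf22 zf12) (kf xf2 yf22 zf11) (kf xf3 yf20 zf13) (kf xf0 yf44 zf42) (kf xf2 yf16 zf3) (kf xf2 yf16 zf4) (kf xf3 yf20 zf23) (kf xf2 yf16 zf6) (kf xf3 yf20 zf29) (kf xf3 yf20 zf32) (kf xf3 yf20 zf31) (kf xf3 yf20 zf30) (kf xf2 yf59 zf27) (kf xf0 yf44 zf47) (kf xf2 yf22 zf29) (kf xf2 yf22 zf30) (kf xf3 yf20 zf52) (kf xf2 yf22 zf26) (kf xf2 yf22 zf27)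 (kf xf3 yf20 zf61) (kf xf2 yf22 zf33) (kf xf2 yf22 zf32) (kf xf3 yf21 zf11) (kf xf0 yf44 zf50) (kf xf1 yf48 zf33) (kf xf2 yf22 zf43) (kf xf2 yf22 zf44) (kf xf1 yf36 zf56) (kf xf1 yf36 zf55) (kf xf0 yf45 zf34) (kf xf2 yf22 zf46) (kf xf2 yf22 zf47) (kf xf1 yf37 zf1) (kf xf1 yf36 zf27)) (@D3.rec (fun _ => Pt) (kf xf1 yf37 zf3) (kf xf1 yf36 zf60) (kf xf1 yf8 zf30) (kf xf1 yf37 zf0) (kf xf2 yf19 zf60) (kf xf2 yf21 zf31) (kf xf2 yf22 zf37) (kf xf1 yf7 zf59) (kf xf2 yf21 zf33) (kf xf2 yf22 zf39) (kf xf2 yf22 zf40) (kf xf3 yf21 zf55) (kf xf2 yf22 zf41) (kf xf1 yf33 zf47) (kf xf0 yf44 zf59) (kf xf0 yf45 zf1) (kf xf2 yf22 zf52) (kf xf2 yf22 zf53) (kf xf3 yf19 zf31) (kf xf2 yf22 zf50) (kf xf2 yf22 zf55) (kf xf2 yf22 zf54) (kf xf3 yf21 zf58) (kf xf1 yf55 zf5) (kf xf2 yf22 zf57)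 (kf xf1 yf26 zf37) (kf xf1 yf26 zf38) (kf xf3 yf20 zf14) (kf xf1 yf37 zf44) (kf xf1 yf37 zf45) (kf xf3 yf22 zf29) (kf xf1 yf6 zf18) (kf xf3 yf3 zf14) (kf xf1 yf30 zf20) (kf xf1 yf29 zf13) (kf xf1 yf29 zf16) (kf xf1 yf30 zf21) (kf xf3 yf22 zf44) (kf xf0 yf45 zf36) (kf xf0 yf45 zf35) (kf xf0 yf45 zf12) (kf xf1 yf26 zf33) (kf xf3 yf9 zf31) (kf xf1 yf34 zf9) (kf xf1 yf37 zf28) (kf xf1 yf37 zf29) (kf xf1 yf26 zf25) (kf xf0 yf51 zf5) (kf xf0 yf45 zf26) (kf xf1 yf32 zf11) (kf xf1 yf50 zf20) (kf xf3 yf22 zf57) (kf xf1 yf49 zf29) (kf xf1 yf37 zf53) (kf xf1 yf49 zf30) (kf xf1 yf47 zf59) (kf xf1 yf37 zf56) (kf xf0 yf45 zf28) (kf xf0 yf45 zf27) (kf xf3 yf22 zf52) (kf xf3 yf23 zf10) (kf xf0 yf47 zf11)) (@D3.rec (fun _ => Pt) (kf xf3 yf23 zf3) (kf xf3 yf23 zf18) (kf xf3 yf23 zf0)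 (kf xf3 yf23 zf1) (kf xf3 yf23 zf27) (kf xf3 yf23 zf5) (kf xf2 yf20 zf51) (kf xf1 yf56 zf33) (kf xf3 yf23 zf42) (kf xf3 yf23 zf45) (kf xf0 yf45 zf29) (kf xf3 yf23 zf9) (kf xf3 yf23 zf8) (kf xf0 yf45 zf30) (kf xf3 yf23 zf55) (kf xf1 yf32 zf10) (kf xf1 yf29 zf33) (kf xf1 yf56 zf31) (kf xf1 yf56 zf32) (kf xf1 yf56 zf30) (kf xf3 yf21 zf23) (kf xf3 yf21 zf24) (kf xf3 yf22 zf45) (kf xf1 yf38 zf24) (kf xf1 yf38 zf23) (kf xf1 yf38 zf26) (kf xf1 yf38 zf25) (kf xf3 yf13 zf1) (kf xf0 yf45 zf38) (kf xf1 yf24 zf34) (kf xf1 yf43 zf58) (kf xf1 yf31 zf34) (kf xf1 yf26 zf52) (kf xf1 yf42 zf31) (kf xf1 yf44 zf19) (kf xf1 yf42 zf38) (kf xf1 yf40 zf31) (kf xf1 yf7 zf46) (kf xf1 yf40 zf32) (kf xf0 yf51 zf23) (kf xf1 yf41 zf44) (kf xf3 yf24 zf32) (kf xf0 yf46 zf14) (kf xf1 yf39 zf16) (kf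 xf0 yf46 zf20) (kf xf0 yf46 zf24) (kf xf1 yf46 zf29) (kf xf1 yf41 zf43) (kf xf1 yf41 zf45) (kf xf3 yf24 zf48) (kf xf3 yf24 zf31) (kf xf3 yf24 zf30) (kf xf0 yf45 zf49) (kf xf1 yf38 zf56) (kf xf1 yf38 zf57) (kf xf1 yf46 zf33) (kf xf1 yf38 zf53) (kf xf1 yf38 zf54) (kf xf1 yf39 zf11) (kf xf0 yf50 zf17) (kf xf0 yf50 zf20) (kf xf0 yf45 zf57)) (@D3.rec (fun _ => Pt) (kf xf1 yf48 zf25) (kf xf0 yf45 zf56) (kf xf0 yf48 zf34) (kf xf3 yf25 zf3) (kf xf1 yf40 zf55) (kf xf1 yf49 zf19) (kf xf0 yf46 zf25) (kf xf1 yf55 zf6) (kf xf1 yf47 zf55) (kf xf1 yf31 zf31) (kf xf1 yf29 zf15) (kf xf1 yf38 zf58) (kf xf0 yf46 zf57) (kf xf0 yf50 zf52) (kf xf0 yf50 zf58) (kf xf1 yf39 zf46) (kf xf1 yf38 zf43) (kf xf1 yf46 zf53) (kf xf1 yf42 zf35) (kf xf1 yf34 zf21) (kf xf1 yf34 zf24) (kf xf3 yf25 zf28)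 (kf xf1 yf47 zf8) (kf xf3 yf10 zf56) (kf xf1 yf48 zf49) (kf xf1 yf48 zf48) (kf xf1 yf47 zf25) (kf xf3 yf24 zf33) (kf xf3 yf24 zf34) (kf xf3 yf24 zf35) (kf xf3 yf25 zf50) (kf xf1 yf46 zf30) (kf xf0 yf46 zf15) (kf xf1 yf33 zf19) (kf xf1 yf34 zf23) (kf xf1 yf39 zf35) (kf xf1 yf44 zf37) (kf xf1 yf48 zf50) (kf xf3 yf25 zf8) (kf xf1 yf39 zf39) (kf xf2 yf20 zf21) (kf xf1 yf39 zf41) (kf xf1 yf39 zf42) (kf xf3 yf24 zf38) (kf xf3 yf24 zf39) (kf xf3 yf25 zf9) (kf xf1 yf39 zf15) (kf xf1 yf50 zf53) (kf xf1 yf52 zf19) (kf xf3 yf26 zf16) (kf xf0 yf46 zf40) (kf xf0 yf46 zf39) (kf xf0 yf46 zf28) (kf xf3 yf26 zf23) (kf xf1 yf47 zf9) (kf xf1 yf54 zf26) (kf xf1 yf52 zf9) (kf xf1 yf54 zf27) (kf xf3 yf26 zf36) (kf xf1 yf44 zf15) (kf xf0 yf46 zf31) (kf xf1 yf42 zf40)) (@D3.rec (fun _ => Pt)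 (kf xf1 yf48 zf4) (kf xf3 yf26 zf46) (kf xf1 yf54 zf30) (kf xf1 yf54 zf31) (kf xf3 yf26 zf55) (kf xf1 yf45 zf51) (kf xf3 yf26 zf60) (kf xf0 yf46 zf34) (kf xf1 yf52 zf16) (kf xf1 yf52 zf17) (kf xf3 yf27 zf8) (kf xf1 yf51 zf6) (kf xf1 yf51 zf7) (kf xf3 yf27 zf15) (kf xf1 yf52 zf21) (kf xf1 yf49 zf34) (kf xf1 yf52 zf22) (kf xf2 yf56 zf42) (kf xf3 yf26 zf14) (kf xf1 yf52 zf57) (kf xf3 yf27 zf31) (kf xf0 yf46 zf38) (kf xf1 yf52 zf44) (kf xf3 yf26 zf20) (kf xf1 yf40 zf25) (kf xf1 yf40 zf24) (kf xf3 yf26 zf17) (kf xf3 yf26 zf18) (kf xf3 yf26 zf19) (kf xf1 yf44 zf27) (kf xf1 yf42 zf36) (kf xf1 yf38 zf36) (kf xf1 yf38 zf38) (kf xf1 yf42 zf34) (kf xf1 yf42 zf39) (kf xf0 yf49 zf17) (kf xf1 yf40 zf41) (kf xf1 yf40 zf42) (kf xf1 yf40 zf39) (kf xf1 yf40 zf38) (kf xf0 yf48 zf22) (kf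 xf1 yf40 zf36) (kf xf1 yf40 zf37) (kf xf0 yf54 zf19) (kf xf0 yf54 zf13) (kf xf0 yf47 zf14) (kf xf3 yf28 zf19) (kf xf0 yf51 zf30) (kf xf1 yf44 zf33) (kf xf1 yf44 zf34) (kf xf0 yf53 zf21) (kf xf0 yf51 zf36) (kf xf3 yf28 zf26) (kf xf1 yf29 zf32) (kf xf1 yf30 zf42) (kf xf1 yf39 zf4) (kf xf1 yf43 zf56) (kf xf3 yf28 zf31) (kf xf0 yf46 zf59) (kf xf0 yf51 zf45) (kf xf0 yf51 zf41) (kf xf3 yf23 zf19)) (@D3.rec (fun _ => Pt) (kf xf3 yf28 zf38) (kf xf0 yf47 zf1) (kf xf3 yf28 zf42) (kf xf0 yf47 zf2) (kf xf1 yf43 zf60) (kf xf1 yf50 zf23) (kf xf3 yf28 zf46) (kf xf0 yf47 zf3) (kf xf3 yf28 zf51) (kf xf0 yf47 zf6) (kf xf1 yf42 zf48) (kf xf1 yf46 zf49) (kf xf3 yf28 zf57) (kf xf1 yf53 zf26) (kf xf1 yf46 zf50) (kf xf3 yf28 zf15) (kf xf1 yf52 zf2) (kf xf3 yf29 zf9) (kf xf0 yf47 zf29) (kf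 xf0 yf47 zf28) (kf xf0 yf47 zf15) (kf xf0 yf51 zf33) (kf xf0 yf51 zf37) (kf xf1 yf45 zf42) (kf xf0 yf51 zf51) (kf xf0 yf51 zf52) (kf xf0 yf51 zf53) (kf xf0 yf51 zf54) (kf xf1 yf45 zf43) (kf xf0 yf51 zf58) (kf xf0 yf51 zf60) (kf xf3 yf29 zf36) (kf xf0 yf52 zf7) (kf xf0 yf52 zf8) (kf xf3 yf29 zf46) (kf xf0 yf51 zf56) (kf xf0 yf47 zf21) (kf xf3 yf15 zf23) (kf xf0 yf52 zf57) (kf xf1 yf45 zf44) (kf xf3 yf15 zf48) (kf xf0 yf52 zf58) (kf xf3 yf30 zf2) (kf xf1 yf38 zf47) (kf xf1 yf38 zf40) (kf xf1 yf38 zf48) (kf xf3 yf30 zf11) (kf xf3 yf1 zf43) (kf xf3 yf30 zf17) (kf xf0 yf47 zf25) (kf xf3 yf29 zf7) (kf xf3 yf29 zf6) (kf xf3 yf30 zf30) (kf xf0 yf47 zf26) (kf xf3 yf30 zf31) (kf xf3 yf29 zf14) (kf xf3 yf29 zf15) (kf xf3 yf29 zf16) (kf xf3 yf30 zf49) (kf xf3 yf29 zf10) (kf xf3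 yf29 zf11) (kf xf3 yf29 zf12)) (@D3.rec (fun _ => Pt) (kf xf1 yf45 zf38) (kf xf0 yf47 zf31) (kf xf3 yf28 zf18) (kf xf3 yf28 zf17) (kf xf0 yf53 zf17) (kf xf0 yf53 zf18) (kf xf0 yf50 zf7) (kf xf0 yf53 zf22) (kf xf3 yf31 zf12) (kf xf3 yf31 zf11) (kf xf3 yf31 zf10) (kf xf0 yf47 zf35) (kf xf1 yf42 zf14) (kf xf0 yf50 zf44) (kf xf1 yf42 zf12) (kf xf0 yf50 zf29) (kf xf1 yf42 zf25) (kf xf1 yf42 zf26) (kf xf1 yf42 zf27) (kf xf3 yf31 zf34) (kf xf1 yf42 zf29) (kf xf0 yf49 zf59) (kf xf0 yf49 zf41) (kf xf0 yf47 zf42) (kf xf0 yf51 zf17) (kf xf1 yf42 zf16) (kf xf1 yf42 zf17) (kf xf1 yf42 zf18) (kf xf1 yf45 zf56) (kf xf1 yf42 zf20) (kf xf0 yf49 zf38) (kf xf1 yf38 zf33) (kf xf1 yf43 zf52) (kf xf1 yf44 zf23) (kf xf1 yf40 zf33) (kf xf1 yf39 zf18) (kf xf1 yf40 zf30) (kf xf0 yf51 zf22) (kf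 xf1 yf38 zf35) (kf xf1 yf40 zf34) (kf xf1 yf39 zf61) (kf xf3 yf32 zf1) (kf xf1 yf33 zf20) (kf xf3 yf32 zf6) (kf xf1 yf45 zf58) (kf xf1 yf45 zf59) (kf xf1 yf45 zf61) (kf xf3 yf32 zf12) (kf xf1 yf41 zf10) (kf xf1 yf46 zf1) (kf xf1 yf44 zf42) (kf xf1 yf44 zf43) (kf xf1 yf44 zf44) (kf xf3 yf32 zf24) (kf xf1 yf44 zf58) (kf xf0 yf53 zf14) (kf xf0 yf48 zf2) (kf xf0 yf48 zf15) (kf xf1 yf46 zf2) (kf xf3 yf32 zf34) (kf xf3 yf30 zf50) (kf xf1 yf44 zf55)) (@D3.rec (fun _ => Pt) (kf xf1 yf44 zf56) (kf xf3 yf32 zf42) (kf xf1 yf44 zf46) (kf xf0 yf48 zf10) (kf xf1 yf44 zf61) (kf xf1 yf43 zf36) (kf xf3 yf32 zf52) (kf xf0 yf48 zf28) (kf xf0 yf48 zf27) (kf xf0 yf52 zf42) (kf xf0 yf48 zf12) (kf xf0 yf48 zf33) (kf xf0 yf48 zf31) (kf xf0 yf48 zf32) (kf xf3 yf32 zf29) (kf xf3 yf33 zf2) (kf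 xf1 yf45 zf8) (kf xf1 yf45 zf9) (kf xf1 yf45 zf10) (kf xf3 yf33 zf12) (kf xf1 yf45 zf16) (kf xf1 yf53 zf19) (kf xf0 yf48 zf19) (kf xf0 yf52 zf28) (kf xf3 yf27 zf32) (kf xf1 yf45 zf13) (kf xf1 yf45 zf14) (kf xf3 yf28 zf7) (kf xf1 yf45 zf18) (kf xf1 yf45 zf19) (kf xf3 yf33 zf34) (kf xf1 yf45 zf21) (kf xf1 yf45 zf22) (kf xf3 yf28 zf10) (kf xf1 yf45 zf24) (kf xf1 yf45 zf25) (kf xf1 yf43 zf5) (kf xf3 yf33 zf48) (kf xf3 yf32 zf50) (kf xf3 yf32 zf49) (kf xf3 yf33 zf60) (kf xf0 yf48 zf26) (kf xf3 yf32 zf54) (kf xf3 yf32 zf55) (kf xf3 yf30 zf46) (kf xf1 yf46 zf23) (kf xf3 yf26 zf21) (kf xf3 yf32 zf53) (kf xf3 yf31 zf3) (kf xf3 yf34 zf17) (kf xf0 yf52 zf16) (kf xf1 yf54 zf24) (kf xf1 yf42 zf32) (kf xf3 yf31 zf61) (kf xf1 yf26 zf28) (kf xf1 yf44 zf40) (kf xf1 yf40 zf56) (kf xf3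 yf28 zf53) (kf xf1 yf38 zf30) (kf xf3 yf1 zf32) (kf xf1 yf41 zf4) (kf xf0 yf51 zf61)) (@D3.rec (fun _ => Pt) (kf xf1 yf34 zf39) (kf xf0 yf52 zf9) (kf xf1 yf44 zf52) (kf xf1 yf44 zf60) (kf xf3 yf34 zf36) (kf xf3 yf32 zf58) (kf xf3 yf32 zf57) (kf xf3 yf34 zf47) (kf xf3 yf34 zf51) (kf xf0 yf48 zf37) (kf xf1 yf53 zf3) (kf xf1 yf44 zf16) (kf xf1 yf44 zf17) (kf xf0 yf50 zf42) (kf xf0 yf53 zf55) (kf xf1 yf39 zf59) (kf xf1 yf44 zf11) (kf xf1 yf44 zf12) (kf xf1 yf55 zf4) (kf xf1 yf38 zf34) (kf xf1 yf30 zf43) (kf xf1 yf29 zf31) (kf xf1 yf30 zf44) (kf xf1 yf42 zf33) (kf xf0 yf51 zf0) (kf xf0 yf51 zf21) (kf xf3 yf27 zf41) (kf xf1 yf40 zf29) (kf xf3 yf25 zf52) (kf xf0 yf48 zf50) (kf xf1 yf31 zf0) (kf xf1 yf31 zf1) (kf xf3 yf35 zf25) (kf xf1 yf40 zf48) (kf xf1 yf40 zf49) (kf xf0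 yf50 zf2) (kf xf0 yf50 zf6) (kf xf1 yf39 zf36) (kf xf3 yf35 zf34) (kf xf0 yf52 zf36) (kf xf1 yf43 zf55) (kf xf3 yf35 zf38) (kf xf1 yf42 zf50) (kf xf1 yf42 zf51) (kf xf1 yf42 zf52) (kf xf3 yf35 zf51) (kf xf1 yf43 zf2) (kf xf0 yf49 zf2) (kf xf0 yf52 zf46) (kf xf1 yf34 zf22) (kf xf3 yf35 zf59) (kf xf1 yf35 zf51) (kf xf1 yf44 zf2) (kf xf3 yf36 zf2) (kf xf1 yf45 zf41) (kf xf1 yf42 zf61) (kf xf1 yf43 zf0) (kf xf3 yf36 zf11) (kf xf1 yf42 zf54) (kf xf0 yf49 zf10) (kf xf1 yf44 zf3) (kf xf1 yf43 zf4)) (@D3.rec (fun _ => Pt) (kf xf3 yf36 zf22) (kf xf0 yf49 zf26) (kf xf0 yf49 zf25) (kf xf3 yf36 zf28) (kf xf0 yf49 zf13) (kf xf1 yf50 zf33) (kf xf3 yf27 zf42) (kf xf0 yf52 zf37) (kf xf1 yf43 zf16) (kf xf1 yf43 zf17) (kf xf1 yf43 zf18) (kf xf3 yf27 zf59) (kf xf3 yf36 zf43) (kf xf1 yf43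 zf25) (kf xf1 yf43 zf26) (kf xf3 yf36 zf52) (kf xf1 yf43 zf20) (kf xf0 yf49 zf20) (kf xf1 yf43 zf28) (kf xf1 yf43 zf29) (kf xf3 yf28 zf1) (kf xf1 yf43 zf31) (kf xf1 yf43 zf32) (kf xf3 yf37 zf2) (kf xf1 yf43 zf34) (kf xf1 yf43 zf35) (kf xf3 yf37 zf7) (kf xf3 yf36 zf20) (kf xf3 yf36 zf19) (kf xf3 yf37 zf16) (kf xf0 yf49 zf24) (kf xf3 yf26 zf44) (kf xf3 yf36 zf25) (kf xf3 yf36 zf23) (kf xf3 yf36 zf24) (kf xf0 yf52 zf13) (kf xf1 yf53 zf29) (kf xf3 yf36 zf26) (kf xf1 yf42 zf0) (kf xf3 yf37 zf41) (kf xf0 yf49 zf27) (kf xf1 yf44 zf54) (kf xf1 yf41 zf23) (kf xf1 yf41 zf28) (kf xf1 yf41 zf39) (kf xf3 yf34 zf27) (kf xf1 yf46 zf31) (kf xf3 yf37 zf56) (kf xf0 yf49 zf32) (kf xf3 yf31 zf36) (kf xf0 yf53 zf52) (kf xf1 yf40 zf5) (kf xf1 yf45 zf53) (kf xf1 yf45 zf52) (kf xf1 yf55 zf7)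 (kf xf0 yf50 zf14) (kf xf1 yf42 zf28) (kf xf3 yf31 zf49) (kf xf1 yf42 zf44) (kf xf1 yf42 zf45) (kf xf0 yf51 zf32) (kf xf1 yf42 zf46)) (@D3.rec (fun _ => Pt) (kf xf3 yf38 zf8) (kf xf1 yf42 zf49) (kf xf1 yf42 zf58) (kf xf0 yf51 zf40) (kf xf1 yf53 zf6) (kf xf1 yf46 zf36) (kf xf1 yf46 zf15) (kf xf3 yf38 zf19) (kf xf0 yf49 zf56) (kf xf0 yf49 zf55) (kf xf0 yf49 zf50) (kf xf1 yf46 zf38) (kf xf3 yf38 zf28) (kf xf1 yf46 zf40) (kf xf3 yf38 zf31) (kf xf1 yf46 zf6) (kf xf3 yf38 zf37) (kf xf3 yf38 zf17) (kf xf3 yf38 zf16) (kf xf3 yf38 zf47) (kf xf0 yf49 zf54) (kf xf3 yf38 zf21) (kf xf3 yf38 zf22) (kf xf1 yf43 zf45) (kf xf3 yf37 zf32) (kf xf3 yf25 zf26) (kf xf3 yf38 zf20) (kf xf1 yf55 zf8) (kf xf3 yf39 zf3) (kf xf1 yf38 zf46) (kf xf1 yf39 zf31) (kf xf1 yf45 zf46) (kf xf3 yf31 zf35)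 (kf xf1 yf38 zf55) (kf xf3 yf39 zf13) (kf xf3 yf39 zf16) (kf xf1 yf46 zf5) (kf xf3 yf35 zf27) (kf xf1 yf46 zf11) (kf xf3 yf39 zf25) (kf xf1 yf46 zf13) (kf xf3 yf39 zf30) (kf xf3 yf39 zf34) (kf xf3 yf35 zf28) (kf xf3 yf35 zf29) (kf xf3 yf35 zf30) (kf xf3 yf25 zf61) (kf xf3 yf31 zf5) (kf xf3 yf34 zf20) (kf xf1 yf41 zf11) (kf xf1 yf41 zf14) (kf xf3 yf37 zf29) (kf xf1 yf46 zf52) (kf xf1 yf39 zf17) (kf xf3 yf38 zf2) (kf xf1 yf47 zf60) (kf xf1 yf48 zf0) (kf xf1 yf48 zf1) (kf xf3 yf23 zf25) (kf xf1 yf48 zf16) (kf xf1 yf48 zf15) (kf xf3 yf25 zf1)) (@D3.rec (fun _ => Pt) (kf xf1 yf48 zf5) (kf xf1 yf48 zf6) (kf xf1 yf48 zf7) (kf xf3 yf40 zf15) (kf xf1 yf48 zf21) (kf xf1 yf54 zf38) (kf xf0 yf50 zf19) (kf xf3 yf25 zf2) (kf xf1 yf39 zf22) (kf xf1 yf39 zf54) (kf xf1 yf52 zf55) (kf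 xf3 yf40 zf28) (kf xf1 yf48 zf18) (kf xf1 yf48 zf19) (kf xf1 yf54 zf59) (kf xf1 yf48 zf28) (kf xf1 yf48 zf29) (kf xf3 yf40 zf42) (kf xf0 yf50 zf38) (kf xf0 yf50 zf37) (kf xf0 yf50 zf27) (kf xf1 yf48 zf51) (kf xf1 yf48 zf52) (kf xf1 yf48 zf53) (kf xf3 yf31 zf22) (kf xf1 yf39 zf26) (kf xf3 yf40 zf61) (kf xf1 yf48 zf59) (kf xf1 yf48 zf60) (kf xf3 yf41 zf8) (kf xf1 yf48 zf55) (kf xf0 yf50 zf32) (kf xf1 yf49 zf0) (kf xf1 yf49 zf1) (kf xf3 yf31 zf26) (kf xf1 yf49 zf3) (kf xf1 yf49 zf4) (kf xf3 yf41 zf24) (kf xf1 yf49 zf6) (kf xf1 yf49 zf7) (kf xf1 yf49 zf8) (kf xf3 yf41 zf34) (kf xf3 yf40 zf40) (kf xf3 yf38 zf50) (kf xf3 yf41 zf44) (kf xf0 yf50 zf36) (kf xf3 yf29 zf35) (kf xf3 yf40 zf44) (kf xf1 yf53 zf53) (kf xf3 yf34 zf54) (kf xf1 yf49 zf36) (kf xf3 yf40 zf43) (kf xf3 yf28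 zf13) (kf xf3 yf31 zf33) (kf xf1 yf47 zf57) (kf xf1 yf39 zf8) (kf xf3 yf34 zf57) (kf xf1 yf47 zf54) (kf xf3 yf30 zf47) (kf xf1 yf37 zf55) (kf xf1 yf46 zf55) (kf xf1 yf47 zf61)) (@D3.rec (fun _ => Pt) (kf xf1 yf46 zf56) (kf xf1 yf46 zf57) (kf xf1 yf35 zf60) (kf xf3 yf42 zf8) (kf xf1 yf40 zf0) (kf xf1 yf47 zf0) (kf xf1 yf47 zf1) (kf xf1 yf47 zf2) (kf xf1 yf54 zf47) (kf xf1 yf48 zf9) (kf xf0 yf52 zf25) (kf xf3 yf42 zf28) (kf xf3 yf11 zf38) (kf xf3 yf25 zf16) (kf xf1 yf35 zf61) (kf xf1 yf46 zf60) (kf xf1 yf46 zf59) (kf xf3 yf10 zf54) (kf xf1 yf47 zf12) (kf xf1 yf47 zf13) (kf xf3 yf42 zf44) (kf xf1 yf47 zf4) (kf xf3 yf35 zf5) (kf xf0 yf50 zf56) (kf xf1 yf33 zf23) (kf xf1 yf39 zf0) (kf xf3 yf25 zf17) (kf xf1 yf33 zf28) (kf xf1 yf47 zf15) (kf xf1 yf47 zf16) (kf xf3 yf35 zf11)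 (kf xf1 yf33 zf5) (kf xf1 yf33 zf21) (kf xf1 yf36 zf52) (kf xf1 yf33 zf25) (kf xf3 yf22 zf50) (kf xf1 yf33 zf26) (kf xf3 yf43 zf7) (kf xf3 yf22 zf51) (kf xf1 yf33 zf31) (kf xf3 yf43 zf15) (kf xf1 yf33 zf33) (kf xf1 yf33 zf34) (kf xf3 yf43 zf20) (kf xf1 yf33 zf36) (kf xf1 yf33 zf37) (kf xf1 yf22 zf18) (kf xf1 yf33 zf38) (kf xf1 yf39 zf25) (kf xf1 yf39 zf24) (kf xf1 yf39 zf37) (kf xf1 yf47 zf21) (kf xf1 yf47 zf22) (kf xf1 yf47 zf23) (kf xf3 yf43 zf42) (kf xf1 yf47 zf30) (kf xf0 yf53 zf57) (kf xf0 yf51 zf14) (kf xf3 yf30 zf35) (kf xf1 yf47 zf27) (kf xf1 yf47 zf28) (kf xf3 yf31 zf37)) (@D3.rec (fun _ => Pt) (kf xf1 yf47 zf32) (kf xf1 yf47 zf33) (kf xf3 yf43 zf61) (kf xf1 yf47 zf35) (kf xf1 yf47 zf36) (kf xf3 yf31 zf41) (kf xf1 yf47 zf38) (kf xf1 yf47 zf39) (kf xf1 yf47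 zf40) (kf xf3 yf44 zf15) (kf xf3 yf35 zf12) (kf xf3 yf35 zf13) (kf xf3 yf35 zf14) (kf xf1 yf50 zf19) (kf xf3 yf31 zf55) (kf xf3 yf31 zf48) (kf xf3 yf24 zf23) (kf xf3 yf24 zf26) (kf xf3 yf31 zf46) (kf xf1 yf39 zf5) (kf xf0 yf52 zf19) (kf xf3 yf44 zf39) (kf xf0 yf53 zf15) (kf xf3 yf33 zf14) (kf xf0 yf51 zf29) (kf xf3 yf28 zf20) (kf xf3 yf11 zf59) (kf xf3 yf44 zf45) (kf xf3 yf44 zf47) (kf xf1 yf37 zf52) (kf xf1 yf37 zf54) (kf xf3 yf13 zf7) (kf xf3 yf44 zf53) (kf xf3 yf29 zf18) (kf xf1 yf40 zf15) (kf xf3 yf39 zf7) (kf xf1 yf47 zf50) (kf xf3 yf44 zf46) (kf xf0 yf51 zf38) (kf xf1 yf35 zf0) (kf xf3 yf11 zf16) (kf xf3 yf28 zf33) (kf xf1 yf34 zf61) (kf xf3 yf11 zf19) (kf xf3 yf1 zf12) (kf xf3 yf14 zf52) (kf xf3 yf45 zf17) (kf xf0 yf51 zf43) (kf xf1 yf49 zf48) (kf xf1 yf34 zf30)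 (kf xf3 yf45 zf22) (kf xf1 yf34 zf29) (kf xf3 yf45 zf28) (kf xf3 yf1 zf59) (kf xf3 yf45 zf34) (kf xf3 yf12 zf57) (kf xf0 yf51 zf48) (kf xf3 yf29 zf20) (kf xf1 yf51 zf20) (kf xf3 yf30 zf40) (kf xf3 yf29 zf22) (kf xf1 yf51 zf21)) (@D3.rec (fun _ => Pt) (kf xf3 yf45 zf51) (kf xf3 yf14 zf50) (kf xf3 yf15 zf3) (kf xf3 yf45 zf58) (kf xf3 yf29 zf25) (kf xf3 yf29 zf26) (kf xf3 yf46 zf4) (kf xf3 yf29 zf44) (kf xf3 yf29 zf43) (kf xf3 yf46 zf14) (kf xf0 yf51 zf55) (kf xf3 yf29 zf47) (kf xf1 yf51 zf29) (kf xf3 yf34 zf8) (kf xf3 yf34 zf23) (kf xf3 yf29 zf31) (kf xf3 yf29 zf32) (kf xf3 yf34 zf26) (kf xf3 yf34 zf25) (kf xf1 yf49 zf13) (kf xf1 yf37 zf50) (kf xf3 yf2 zf0) (kf xf3 yf11 zf58) (kf xf1 yf41 zf5) (kf xf3 yf29 zf37) (kf xf3 yf29 zf38) (kf xf3 yf29 zf39) (kf xf3 yf29 zf40)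 (kf xf3 yf34 zf28) (kf xf3 yf46 zf48) (kf xf3 yf29 zf28) (kf xf3 yf28 zf54) (kf xf3 yf34 zf29) (kf xf1 yf45 zf5) (kf xf3 yf30 zf44) (kf xf3 yf37 zf23) (kf xf0 yf52 zf29) (kf xf0 yf52 zf39) (kf xf0 yf52 zf40) (kf xf3 yf37 zf28) (kf xf0 yf52 zf33) (kf xf3 yf34 zf18) (kf xf0 yf52 zf30) (kf xf0 yf52 zf31) (kf xf3 yf34 zf19) (kf xf0 yf52 zf49) (kf xf0 yf52 zf51) (kf xf3 yf47 zf21) (kf xf0 yf52 zf45) (kf xf0 yf52 zf47) (kf xf3 yf34 zf21) (kf xf3 yf44 zf34) (kf xf3 yf44 zf35) (kf xf1 yf39 zf47) (kf xf3 yf17 zf61) (kf xf3 yf47 zf46) (kf xf3 yf47 zf50) (kf xf0 yf53 zf1) (kf xf0 yf53 zf0) (kf xf3 yf47 zf61) (kf xf0 yf52 zf21) (kf xf0 yf53 zf9)) (@D3.rec (fun _ => Pt) (kf xf0 yf53 zf10) (kf xf0 yf53 zf11) (kf xf0 yf53 zf5) (kf xf0 yf53 zf6) (kf xf1 yf53 zf5) (kf xf3 yf48 zf10)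 (kf xf1 yf40 zf11) (kf xf1 yf40 zf12) (kf xf3 yf35 zf0) (kf xf1 yf53 zf54) (kf xf3 yf48 zf9) (kf xf0 yf52 zf27) (kf xf3 yf33 zf17) (kf xf3 yf48 zf25) (kf xf3 yf46 zf59) (kf xf3 yf48 zf1) (kf xf3 yf19 zf43) (kf xf3 yf19 zf49) (kf xf1 yf34 zf3) (kf xf3 yf48 zf37) (kf xf1 yf49 zf58) (kf xf1 yf49 zf61) (kf xf3 yf48 zf45) (kf xf3 yf34 zf10) (kf xf3 yf47 zf4) (kf xf3 yf48 zf55) (kf xf0 yf52 zf32) (kf xf3 yf47 zf6) (kf xf3 yf47 zf7) (kf xf1 yf50 zf12) (kf xf1 yf53 zf58) (kf xf1 yf53 zf59) (kf xf1 yf54 zf46) (kf xf3 yf49 zf3) (kf xf3 yf36 zf31) (kf xf3 yf35 zf45) (kf xf3 yf37 zf18) (kf xf3 yf49 zf1) (kf xf1 yf54 zf15) (kf xf3 yf49 zf16) (kf xf0 yf52 zf38) (kf xf3 yf46 zf61) (kf xf3 yf33 zf29) (kf xf3 yf47 zf0) (kf xf3 yf47 zf1) (kf xf3 yf49 zf29) (kf xf3 yf49 zf33) (kf xf3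 yf47 zf13) (kf xf3 yf47 zf12) (kf xf3 yf49 zf43) (kf xf0 yf52 zf41) (kf xf3 yf32 zf56) (kf xf1 yf53 zf2) (kf xf1 yf54 zf25) (kf xf3 yf32 zf44) (kf xf3 yf49 zf54) (kf xf0 yf52 zf43) (kf xf3 yf47 zf22) (kf xf3 yf47 zf23) (kf xf3 yf47 zf24) (kf xf3 yf42 zf11) (kf xf3 yf47 zf25)) (@D3.rec (fun _ => Pt) (kf xf3 yf50 zf10) (kf xf3 yf50 zf12) (kf xf1 yf41 zf16) (kf xf3 yf50 zf18) (kf xf3 yf50 zf21) (kf xf0 yf52 zf48) (kf xf3 yf47 zf15) (kf xf3 yf47 zf16) (kf xf3 yf47 zf17) (kf xf1 yf39 zf56) (kf xf2 yf51 zf51) (kf xf3 yf50 zf38) (kf xf3 yf37 zf21) (kf xf3 yf50 zf42) (kf xf3 yf50 zf46) (kf xf0 yf52 zf52) (kf xf1 yf40 zf8) (kf xf1 yf40 zf9) (kf xf3 yf37 zf60) (kf xf1 yf39 zf48) (kf xf3 yf50 zf57) (kf xf1 yf40 zf14) (kf xf1 yf40 zf16) (kf xf3 yf51 zf4) (kf xf3 yf50 zf55) (kf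 xf3 yf50 zf54) (kf xf3 yf51 zf13) (kf xf0 yf52 zf56) (kf xf3 yf29 zf53) (kf xf3 yf51 zf20) (kf xf3 yf29 zf60) (kf xf3 yf51 zf26) (kf xf3 yf16 zf16) (kf xf3 yf51 zf34) (kf xf3 yf47 zf48) (kf xf3 yf47 zf47) (kf xf3 yf51 zf46) (kf xf0 yf52 zf60) (kf xf3 yf51 zf47) (kf xf3 yf47 zf54) (kf xf3 yf47 zf55) (kf xf3 yf47 zf56) (kf xf3 yf52 zf3) (kf xf3 yf47 zf51) (kf xf1 yf40 zf22) (kf xf3 yf47 zf52) (kf xf3 yf52 zf10) (kf xf3 yf47 zf59) (kf xf3 yf47 zf58) (kf xf3 yf52 zf23) (kf xf0 yf53 zf2) (kf xf0 yf53 zf4) (kf xf3 yf34 zf39) (kf xf3 yf44 zf37) (kf xf3 yf52 zf25) (kf xf1 yf47 zf10) (kf xf3 yf44 zf44) (kf xf1 yf40 zf19) (kf xf1 yf52 zf59) (kf xf1 yf52 zf58) (kf xf3 yf33 zf18) (kf xf3 yf48 zf6)) (@D3.rec (fun _ => Pt) (kf xf3 yf48 zf7) (kf xf1 yf53 zf4) (kf xf1 yf51 zf52) (kf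 xf1 yf44 zf10) (kf xf1 yf53 zf1) (kf xf1 yf51 zf4) (kf xf1 yf46 zf4) (kf xf3 yf39 zf12) (kf xf3 yf36 zf39) (kf xf3 yf48 zf0) (kf xf3 yf53 zf12) (kf xf3 yf48 zf2) (kf xf3 yf48 zf3) (kf xf3 yf53 zf21) (kf xf3 yf48 zf4) (kf xf0 yf53 zf12) (kf xf0 yf53 zf16) (kf xf3 yf32 zf5) (kf xf3 yf32 zf28) (kf xf1 yf43 zf21) (kf xf3 yf39 zf14) (kf xf3 yf44 zf40) (kf xf3 yf30 zf48) (kf xf3 yf53 zf24) (kf xf3 yf11 zf60) (kf xf3 yf31 zf4) (kf xf1 yf41 zf13) (kf xf3 yf28 zf21) (kf xf3 yf28 zf23) (kf xf1 yf45 zf36) (kf xf3 yf31 zf7) (kf xf3 yf31 zf8) (kf xf3 yf28 zf12) (kf xf3 yf31 zf9) (kf xf1 yf53 zf60) (kf xf1 yf53 zf61) (kf xf3 yf53 zf59) (kf xf0 yf53 zf30) (kf xf0 yf53 zf29) (kf xf0 yf53 zf24) (kf xf1 yf54 zf5) (kf xf3 yf54 zf7) (kf xf1 yf54 zf7) (kf xf1 yf55 zf0) (kf xf1 yf54 zf9)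 (kf xf3 yf54 zf18) (kf xf3 yf53 zf57) (kf xf3 yf34 zf1) (kf xf3 yf54 zf28) (kf xf0 yf53 zf28) (kf xf3 yf33 zf54) (kf xf3 yf53 zf61) (kf xf3 yf54 zf0) (kf xf1 yf47 zf48) (kf xf1 yf51 zf9) (kf xf3 yf53 zf60) (kf xf3 yf31 zf19) (kf xf3 yf54 zf44) (kf xf1 yf51 zf30) (kf xf1 yf51 zf31) (kf xf1 yf53 zf34) (kf xf1 yf53 zf35)) (@D3.rec (fun _ => Pt) (kf xf3 yf54 zf53) (kf xf0 yf53 zf43) (kf xf0 yf53 zf42) (kf xf3 yf54 zf57) (kf xf0 yf53 zf37) (kf xf1 yf53 zf40) (kf xf1 yf54 zf51) (kf xf1 yf53 zf42) (kf xf3 yf55 zf6) (kf xf1 yf53 zf44) (kf xf3 yf55 zf12) (kf xf3 yf54 zf51) (kf xf3 yf37 zf17) (kf xf3 yf55 zf21) (kf xf0 yf53 zf41) (kf xf1 yf51 zf38) (kf xf3 yf54 zf55) (kf xf3 yf47 zf8) (kf xf3 yf54 zf54) (kf xf1 yf54 zf58) (kf xf3 yf41 zf52) (kf xf3 yf24 zf56) (kf xf3 yf55 zf36)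 (kf xf0 yf53 zf44) (kf xf1 yf43 zf51) (kf xf1 yf51 zf53) (kf xf1 yf39 zf55) (kf xf1 yf39 zf57) (kf xf3 yf37 zf58) (kf xf3 yf33 zf61) (kf xf1 yf40 zf2) (kf xf1 yf40 zf3) (kf xf3 yf34 zf58) (kf xf0 yf53 zf58) (kf xf3 yf40 zf17) (kf xf0 yf53 zf56) (kf xf3 yf36 zf1) (kf xf3 yf43 zf45) (kf xf1 yf47 zf5) (kf xf3 yf32 zf61) (kf xf3 yf55 zf52) (kf xf3 yf54 zf1) (kf xf3 yf56 zf3) (kf xf0 yf53 zf59) (kf xf1 yf54 zf45) (kf xf1 yf54 zf44) (kf xf1 yf51 zf32) (kf xf1 yf48 zf8) (kf xf1 yf54 zf60) (kf xf1 yf54 zf50) (kf xf1 yf54 zf49) (kf xf1 yf54 zf6) (kf xf1 yf55 zf1) (kf xf1 yf55 zf2) (kf xf1 yf54 zf56) (kf xf1 yf54 zf57) (kf xf1 yf54 zf54) (kf xf1 yf54 zf55) (kf xf1 yf54 zf19) (kf xf1 yf47 zf14) (kf xf1 yf54 zf48) (kf xf3 yf28 zf14)) (@D3.rec (fun _ => Pt) (kf xf1 yf53 zf43) (kf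 xf1 yf54 zf52) (kf xf1 yf54 zf53) (kf xf3 yf27 zf57) (kf xf1 yf44 zf18) (kf xf1 yf37 zf23) (kf xf1 yf39 zf7) (kf xf1 yf45 zf54) (kf xf1 yf46 zf27) (kf xf3 yf28 zf9) (kf xf3 yf56 zf55) (kf xf0 yf54 zf20) (kf xf1 yf1 zf19) (kf xf1 yf1 zf20) (kf xf3 yf56 zf61) (kf xf1 yf1 zf17) (kf xf2 yf6 zf54) (kf xf1 yf1 zf23) (kf xf1 yf1 zf22) (kf xf3 yf57 zf9) (kf xf0 yf54 zf23) (kf xf1 yf1 zf34) (kf xf1 yf1 zf35) (kf xf3 yf57 zf16) (kf xf1 yf1 zf37) (kf xf2 yf4 zf4) (kf xf0 yf54 zf27) (kf xf1 yf1 zf40) (kf xf3 yf4 zf40) (kf xf1 yf1 zf43) (kf xf1 yf1 zf42) (kf xf3 yf57 zf31) (kf xf3 yf57 zf36) (kf xf0 yf54 zf29) (kf xf1 yf1 zf55) (kf xf1 yf1 zf56) (kf xf3 yf5 zf36) (kf xf1 yf2 zf0) (kf xf1 yf2 zf1) (kf xf1 yf2 zf8) (kf xf1 yf2 zf9) (kf xf2 yf33 zf42) (kf xf3 yf3 zf15) (kf xf2 yf15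 zf35) (kf xf3 yf3 zf16) (kf xf2 yf10 zf30) (kf xf3 yf58 zf2) (kf xf2 yf31 zf50) (kf xf2 yf31 zf51) (kf xf2 yf28 zf57) (kf xf0 yf54 zf42) (kf xf0 yf54 zf41) (kf xf3 yf58 zf11) (kf xf0 yf54 zf40) (kf xf1 yf9 zf58) (kf xf2 yf23 zf29) (kf xf3 yf58 zf7) (kf xf2 yf29 zf2) (kf xf0 yf57 zf52) (kf xf3 yf58 zf6) (kf xf2 yf7 zf23) (kf xf3 yf58 zf9)) (@D3.rec (fun _ => Pt) (kf xf3 yf58 zf8) (kf xf3 yf58 zf34) (kf xf0 yf54 zf43) (kf xf1 yf10 zf5) (kf xf3 yf58 zf40) (kf xf3 yf58 zf43) (kf xf2 yf41 zf58) (kf xf1 yf10 zf38) (kf xf2 yf0 zf54) (kf xf1 yf10 zf25) (kf xf1 yf25 zf49) (kf xf1 yf10 zf13) (kf xf1 yf10 zf18) (kf xf3 yf10 zf25) (kf xf3 yf59 zf0) (kf xf3 yf58 zf57) (kf xf3 yf58 zf56) (kf xf3 yf59 zf10) (kf xf0 yf54 zf58) (kf xf1 yf10 zf8) (kf xf3 yf59 zf15) (kf xf0 yf54 zf59)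 (kf xf1 yf10 zf54) (kf xf3 yf3 zf23) (kf xf2 yf49 zf42) (kf xf2 yf33 zf51) (kf xf3 yf3 zf25) (kf xf3 yf3 zf26) (kf xf2 yf49 zf43) (kf xf3 yf59 zf38) (kf xf1 yf38 zf19) (kf xf1 yf38 zf17) (kf xf1 yf38 zf18) (kf xf1 yf38 zf7) (kf xf3 yf59 zf52) (kf xf1 yf11 zf3) (kf xf1 yf11 zf2) (kf xf0 yf55 zf3) (kf xf1 yf9 zf31) (kf xf1 yf9 zf34) (kf xf0 yf55 zf5) (kf xf1 yf56 zf58) (kf xf1 yf58 zf5) (kf xf0 yf55 zf8) (kf xf0 yf55 zf38) (kf xf3 yf3 zf54) (kf xf4 yf0 zf2) (kf xf4 yf0 zf5) (kf xf0 yf55 zf10) (kf xf2 yf15 zf55) (kf xf3 yf3 zf35) (kf xf3 yf3 zf36) (kf xf3 yf3 zf37) (kf xf4 yf0 zf13) (kf xf1 yf9 zf19) (kf xf1 yf9 zf18) (kf xf4 yf0 zf20) (kf xf0 yf55 zf14) (kf xf1 yf56 zf41) (kf xf4 yf0 zf24) (kf xf4 yf0 zf29) (kf xf4 yf0 zf32)) (@D3.rec (fun _ => Pt) (kf xf0 yf55 zf19)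 (kf xf0 yf55 zf27) (kf xf1 yf27 zf51) (kf xf2 yf51 zf36) (kf xf1 yf6 zf27) (kf xf0 yf55 zf22) (kf xf1 yf26 zf20) (kf xf0 yf55 zf23) (kf xf3 yf59 zf31) (kf xf4 yf0 zf40) (kf xf4 yf0 zf39) (kf xf4 yf0 zf52) (kf xf0 yf55 zf24) (kf xf0 yf55 zf25) (kf xf4 yf0 zf57) (kf xf4 yf0 zf33) (kf xf1 yf27 zf49) (kf xf2 yf37 zf46) (kf xf0 yf56 zf7) (kf xf4 yf1 zf3) (kf xf0 yf55 zf29) (kf xf0 yf56 zf17) (kf xf0 yf56 zf16) (kf xf1 yf59 zf3) (kf xf0 yf55 zf30) (kf xf0 yf56 zf31) (kf xf0 yf55 zf55) (kf xf0 yf55 zf33) (kf xf0 yf55 zf35) (kf xf1 yf57 zf61) (kf xf2 yf7 zf1) (kf xf1 yf57 zf58) (kf xf1 yf57 zf57) (kf xf1 yf58 zf1) (kf xf2 yf51 zf6) (kf xf1 yf57 zf55) (kf xf1 yf58 zf44) (kf xf1 yf57 zf59) (kf xf1 yf59 zf16) (kf xf1 yf58 zf4) (kf xf1 yf58 zf3) (kf xf1 yf10 zf14) (kf xf1 yf58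 zf7) (kf xf1 yf58 zf6) (kf xf2 yf24 zf44) (kf xf4 yf1 zf38) (kf xf0 yf55 zf44) (kf xf1 yf12 zf51) (kf xf1 yf12 zf52) (kf xf1 yf12 zf49) (kf xf2 yf3 zf16) (kf xf1 yf12 zf55) (kf xf1 yf12 zf54) (kf xf4 yf1 zf56) (kf xf0 yf55 zf48) (kf xf1 yf57 zf35) (kf xf1 yf58 zf53) (kf xf1 yf57 zf32) (kf xf1 yf57 zf31) (kf xf1 yf57 zf37) (kf xf2 yf24 zf15) (kf xf1 yf57 zf29)) (@D3.rec (fun _ => Pt) (kf xf2 yf24 zf9) (kf xf1 yf57 zf33) (kf xf2 yf29 zf51) (kf xf1 yf57 zf40) (kf xf1 yf57 zf39) (kf xf1 yf56 zf42) (kf xf1 yf57 zf43) (kf xf1 yf57 zf42) (kf xf4 yf2 zf20) (kf xf4 yf2 zf25) (kf xf0 yf55 zf58) (kf xf1 yf6 zf22) (kf xf1 yf58 zf20) (kf xf1 yf58 zf19) (kf xf4 yf2 zf31) (kf xf0 yf55 zf60) (kf xf1 yf11 zf21) (kf xf4 yf2 zf36) (kf xf0 yf56 zf0) (kf xf1 yf58 zf13) (kf xf1 yf58 zf12)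 (kf xf4 yf2 zf41) (kf xf0 yf56 zf1) (kf xf1 yf17 zf11) (kf xf1 yf17 zf12) (kf xf4 yf2 zf47) (kf xf1 yf17 zf45) (kf xf4 yf2 zf55) (kf xf0 yf56 zf4) (kf xf2 yf58 zf33) (kf xf4 yf3 zf0) (kf xf1 yf24 zf59) (kf xf4 yf0 zf61) (kf xf4 yf3 zf7) (kf xf2 yf58 zf42) (kf xf4 yf1 zf1) (kf xf4 yf3 zf17) (kf xf0 yf56 zf8) (kf xf1 yf2 zf36) (kf xf4 yf3 zf23) (kf xf2 yf6 zf59) (kf xf2 yf6 zf60) (kf xf2 yf6 zf61) (kf xf4 yf3 zf33) (kf xf1 yf57 zf36) (kf xf2 yf7 zf52) (kf xf0 yf56 zf12) (kf xf1 yf14 zf8) (kf xf1 yf2 zf33) (kf xf2 yf2 zf16) (kf xf4 yf3 zf45) (kf xf2 yf24 zf7) (kf xf4 yf3 zf51) (kf xf1 yf57 zf56) (kf xf2 yf8 zf15) (kf xf0 yf56 zf15) (kf xf1 yf2 zf39) (kf xf4 yf1 zf7) (kf xf4 yf3 zf60) (kf xf4 yf1 zf4) (kf xf4 yf1 zf5) (kf xf4 yf4 zf6)) (@D3.rec (fun _ => Pt) (kf xf2 yf4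 zf43) (kf xf2 yf4 zf41) (kf xf4 yf4 zf15) (kf xf1 yf57 zf23) (kf xf0 yf56 zf18) (kf xf4 yf3 zf18) (kf xf1 yf19 zf5) (kf xf1 yf19 zf6) (kf xf1 yf19 zf7) (kf xf4 yf4 zf30) (kf xf1 yf12 zf53) (kf xf2 yf0 zf49) (kf xf0 yf56 zf21) (kf xf1 yf1 zf21) (kf xf1 yf10 zf22) (kf xf1 yf25 zf36) (kf xf1 yf57 zf38) (kf xf2 yf7 zf46) (kf xf1 yf18 zf12) (kf xf4 yf4 zf38) (kf xf2 yf4 zf36) (kf xf4 yf4 zf44) (kf xf1 yf19 zf10) (kf xf2 yf26 zf13) (kf xf0 yf56 zf30) (kf xf2 yf46 zf28) (kf xf0 yf59 zf21) (kf xf2 yf26 zf3) (kf xf2 yf0 zf0) (kf xf2 yf4 zf3) (kf xf2 yf10 zf43) (kf xf2 yf0 zf1) (kf xf1 yf1 zf31) (kf xf4 yf4 zf56) (kf xf4 yf4 zf59) (kf xf0 yf56 zf41) (kf xf2 yf3 zf18) (kf xf2 yf3 zf19) (kf xf2 yf3 zf20) (kf xf2 yf7 zf6) (kf xf0 yf56 zf49) (kf xf0 yf56 zf48) (kf xf4 yf5 zf6) (kf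 xf0 yf56 zf47) (kf xf2 yf0 zf34) (kf xf2 yf24 zf52) (kf xf4 yf5 zf3) (kf xf2 yf7 zf13) (kf xf1 yf14 zf16) (kf xf4 yf5 zf2) (kf xf2 yf3 zf28) (kf xf3 yf58 zf19) (kf xf4 yf5 zf4) (kf xf4 yf5 zf26) (kf xf0 yf56 zf50) (kf xf1 yf18 zf20) (kf xf4 yf5 zf31) (kf xf2 yf53 zf0) (kf xf3 yf24 zf8) (kf xf2 yf1 zf2) (kf xf0 yf56 zf54) (kf xf1 yf10 zf10))
def f_f_2 : D2 → D3 → Pt := @D2.rec (fun _ => D3 → Pt) (@D3.rec (fun _ => Pt) (kf xf1 yf59 zf28) (kf xf1 yf59 zf31) (kf xf2 yf28 zf1) (kf xf2 yf0 zf57) (kf xf1 yf25 zf56) (kf xf1 yf4 zf56) (kf xf2 yf0 zf55) (kf xf1 yf25 zf55) (kf xf1 yf25 zf47) (kf xf1 yf25 zf48) (kf xf1 yf25 zf45) (kf xf1 yf25 zf46) (kf xf1 yf10 zf19) (kf xf4 yf5 zf53) (kf xf4 yf5 zf48) (kf xf4 yf5 zf47) (kf xf4 yf6 zf1) (kf xf0 yf57 zf6) (kf xf2 yf0 zf52) (kf xf4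 yf6 zf6) (kf xf0 yf57 zf7) (kf xf2 yf6 zf34) (kf xf2 yf6 zf35) (kf xf2 yf6 zf36) (kf xf2 yf3 zf45) (kf xf0 yf57 zf15) (kf xf0 yf57 zf14) (kf xf4 yf6 zf16) (kf xf0 yf57 zf13) (kf xf2 yf23 zf3) (kf xf2 yf34 zf37) (kf xf4 yf6 zf13) (kf xf2 yf3 zf52) (kf xf1 yf14 zf44) (kf xf1 yf59 zf44) (kf xf4 yf6 zf12) (kf xf2 yf6 zf44) (kf xf2 yf25 zf23) (kf xf4 yf6 zf14) (kf xf4 yf6 zf42) (kf xf0 yf57 zf16) (kf xf1 yf25 zf35) (kf xf1 yf13 zf8) (kf xf1 yf25 zf37) (kf xf4 yf6 zf48) (kf xf1 yf25 zf29) (kf xf2 yf6 zf53) (kf xf1 yf25 zf31) (kf xf2 yf44 zf12) (kf xf1 yf59 zf11) (kf xf4 yf6 zf58) (kf xf4 yf7 zf1) (kf xf2 yf0 zf18) (kf xf0 yf57 zf24) (kf xf1 yf56 zf8) (kf xf2 yf0 zf6) (kf xf2 yf15 zf53) (kf xf2 yf0 zf3) (kf xf4 yf7 zf10) (kf xf4 yf7 zf7) (kf xf4 yf7 zf6) (kf xf4 yf7 zf20))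 (@D3.rec (fun _ => Pt) (kf xf0 yf57 zf33) (kf xf1 yf25 zf34) (kf xf1 yf59 zf59) (kf xf4 yf7 zf27) (kf xf0 yf57 zf34) (kf xf2 yf1 zf38) (kf xf2 yf1 zf18) (kf xf1 yf11 zf20) (kf xf4 yf7 zf36) (kf xf0 yf57 zf38) (kf xf2 yf1 zf21) (kf xf2 yf41 zf47) (kf xf2 yf1 zf23) (kf xf4 yf7 zf45) (kf xf0 yf57 zf40) (kf xf1 yf15 zf41) (kf xf4 yf7 zf52) (kf xf0 yf57 zf42) (kf xf2 yf1 zf6) (kf xf4 yf7 zf57) (kf xf0 yf57 zf43) (kf xf2 yf1 zf10) (kf xf4 yf7 zf61) (kf xf2 yf1 zf12) (kf xf4 yf8 zf6) (kf xf0 yf57 zf45) (kf xf0 yf57 zf55) (kf xf0 yf57 zf56) (kf xf0 yf57 zf57) (kf xf4 yf7 zf60) (kf xf0 yf57 zf53) (kf xf2 yf41 zf53) (kf xf0 yf57 zf60) (kf xf0 yf57 zf59) (kf xf4 yf8 zf26) (kf xf0 yf57 zf49) (kf xf2 yf23 zf32) (kf xf4 yf3 zf5) (kf xf2 yf1 zf5) (kf xf3 yf58 zf20) (kf xf4 yf8 zf37)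 (kf xf4 yf8 zf12) (kf xf2 yf5 zf48) (kf xf4 yf8 zf15) (kf xf4 yf8 zf50) (kf xf1 yf16 zf32) (kf xf1 yf14 zf23) (kf xf0 yf57 zf54) (kf xf1 yf1 zf9) (kf xf1 yf1 zf11) (kf xf1 yf9 zf53) (kf xf4 yf8 zf8) (kf xf4 yf8 zf61) (kf xf1 yf9 zf54) (kf xf4 yf8 zf10) (kf xf4 yf9 zf6) (kf xf4 yf8 zf13) (kf xf4 yf9 zf13) (kf xf1 yf16 zf52) (kf xf0 yf57 zf58) (kf xf3 yf56 zf53) (kf xf4 yf8 zf20)) (@D3.rec (fun _ => Pt) (kf xf1 yf14 zf18) (kf xf4 yf9 zf28) (kf xf4 yf8 zf17) (kf xf4 yf8 zf18) (kf xf2 yf40 zf29) (kf xf4 yf9 zf39) (kf xf4 yf8 zf23) (kf xf4 yf8 zf22) (kf xf4 yf9 zf51) (kf xf4 yf9 zf56) (kf xf0 yf57 zf61) (kf xf2 yf5 zf36) (kf xf1 yf15 zf35) (kf xf2 yf5 zf59) (kf xf4 yf10 zf3) (kf xf1 yf15 zf37) (kf xf1 yf58 zf49) (kf xf4 yf10 zf10) (kf xf2 yf5 zf61) (kf xf2 yf6 zf0) (kf xf2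 yf6 zf1) (kf xf4 yf10 zf22) (kf xf4 yf10 zf2) (kf xf1 yf15 zf45) (kf xf0 yf58 zf5) (kf xf2 yf5 zf49) (kf xf2 yf6 zf8) (kf xf2 yf3 zf31) (kf xf2 yf6 zf6) (kf xf4 yf10 zf33) (kf xf2 yf5 zf56) (kf xf2 yf5 zf55) (kf xf0 yf58 zf8) (kf xf1 yf24 zf51) (kf xf1 yf24 zf53) (kf xf2 yf5 zf39) (kf xf2 yf38 zf41) (kf xf2 yf5 zf41) (kf xf2 yf5 zf43) (kf xf4 yf10 zf51) (kf xf1 yf15 zf58) (kf xf0 yf58 zf14) (kf xf2 yf5 zf53) (kf xf3 yf17 zf6) (kf xf2 yf5 zf52) (kf xf4 yf10 zf61) (kf xf0 yf58 zf16) (kf xf1 yf16 zf61) (kf xf2 yf6 zf18) (kf xf2 yf6 zf19) (kf xf4 yf11 zf11) (kf xf2 yf6 zf21) (kf xf4 yf11 zf19) (kf xf2 yf6 zf16) (kf xf2 yf6 zf15) (kf xf1 yf17 zf28) (kf xf0 yf58 zf21) (kf xf2 yf6 zf10) (kf xf2 yf6 zf11) (kf xf4 yf11 zf33) (kf xf2 yf6 zf13) (kf xf4 yf11 zf39)) (@D3.rec (fun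 _ => Pt) (kf xf2 yf6 zf24) (kf xf2 yf6 zf23) (kf xf0 yf58 zf24) (kf xf2 yf6 zf28) (kf xf3 yf7 zf22) (kf xf4 yf11 zf52) (kf xf4 yf11 zf47) (kf xf4 yf11 zf46) (kf xf1 yf0 zf14) (kf xf0 yf58 zf27) (kf xf2 yf3 zf11) (kf xf2 yf3 zf10) (kf xf2 yf6 zf33) (kf xf1 yf1 zf36) (kf xf2 yf6 zf4) (kf xf2 yf7 zf44) (kf xf1 yf57 zf50) (kf xf2 yf7 zf32) (kf xf1 yf59 zf36) (kf xf1 yf59 zf37) (kf xf1 yf59 zf38) (kf xf2 yf7 zf7) (kf xf4 yf12 zf17) (kf xf2 yf7 zf9) (kf xf2 yf7 zf10) (kf xf2 yf7 zf11) (kf xf4 yf12 zf31) (kf xf4 yf12 zf16) (kf xf1 yf59 zf50) (kf xf0 yf58 zf41) (kf xf2 yf6 zf46) (kf xf2 yf2 zf27) (kf xf4 yf12 zf41) (kf xf1 yf19 zf11) (kf xf1 yf19 zf19) (kf xf2 yf7 zf19) (kf xf2 yf7 zf17) (kf xf1 yf6 zf49) (kf xf2 yf6 zf51) (kf xf2 yf6 zf50) (kf xf0 yf58 zf45) (kf xf1 yf3 zf22)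 (kf xf2 yf7 zf22) (kf xf2 yf7 zf24) (kf xf1 yf14 zf42) (kf xf2 yf0 zf24) (kf xf2 yf6 zf37) (kf xf4 yf12 zf61) (kf xf2 yf6 zf39) (kf xf2 yf6 zf40) (kf xf2 yf6 zf41) (kf xf4 yf13 zf12) (kf xf2 yf0 zf32) (kf xf4 yf12 zf60) (kf xf0 yf58 zf55) (kf xf2 yf6 zf48) (kf xf4 yf13 zf19) (kf xf2 yf6 zf47) (kf xf0 yf58 zf57) (kf xf2 yf6 zf56) (kf xf1 yf9 zf60) (kf xf2 yf6 zf57)) (@D3.rec (fun _ => Pt) (kf xf2 yf25 zf17) (kf xf2 yf45 zf21) (kf xf2 yf4 zf46) (kf xf1 yf59 zf29) (kf xf1 yf55 zf25) (kf xf4 yf13 zf32) (kf xf4 yf13 zf35) (kf xf0 yf59 zf4) (kf xf2 yf34 zf29) (kf xf2 yf4 zf13) (kf xf4 yf13 zf41) (kf xf0 yf59 zf7) (kf xf4 yf13 zf43) (kf xf2 yf4 zf9) (kf xf4 yf13 zf48) (kf xf0 yf59 zf9) (kf xf0 yf59 zf13) (kf xf4 yf13 zf53) (kf xf0 yf59 zf10) (kf xf4 yf13 zf57) (kf xf0 yf59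 zf11) (kf xf2 yf25 zf25) (kf xf2 yf25 zf26) (kf xf4 yf14 zf1) (kf xf2 yf8 zf4) (kf xf1 yf8 zf47) (kf xf4 yf13 zf49) (kf xf4 yf14 zf8) (kf xf2 yf25 zf35) (kf xf4 yf13 zf51) (kf xf4 yf14 zf17) (kf xf0 yf59 zf14) (kf xf2 yf23 zf6) (kf xf2 yf23 zf8) (kf xf4 yf14 zf25) (kf xf0 yf59 zf17) (kf xf1 yf59 zf20) (kf xf4 yf14 zf32) (kf xf2 yf7 zf27) (kf xf0 yf59 zf20) (kf xf2 yf25 zf49) (kf xf1 yf59 zf1) (kf xf4 yf14 zf41) (kf xf1 yf59 zf0) (kf xf4 yf14 zf45) (kf xf4 yf14 zf50) (kf xf2 yf4 zf2) (kf xf0 yf59 zf23) (kf xf4 yf14 zf26) (kf xf2 yf24 zf11) (kf xf2 yf4 zf58) (kf xf4 yf2 zf49) (kf xf2 yf4 zf60) (kf xf4 yf15 zf1) (kf xf0 yf59 zf29) (kf xf4 yf6 zf19) (kf xf4 yf15 zf6) (kf xf0 yf59 zf32) (kf xf2 yf4 zf50) (kf xf4 yf15 zf10) (kf xf2 yf4 zf52) (kf xf4 yf15 zf17)) (@D3.rec (fun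 _ => Pt) (kf xf0 yf59 zf34) (kf xf0 yf59 zf42) (kf xf0 yf59 zf44) (kf xf4 yf15 zf9) (kf xf0 yf59 zf40) (kf xf2 yf41 zf12) (kf xf0 yf59 zf47) (kf xf0 yf59 zf46) (kf xf4 yf15 zf35) (kf xf0 yf59 zf38) (kf xf4 yf15 zf21) (kf xf1 yf17 zf23) (kf xf4 yf15 zf24) (kf xf4 yf15 zf49) (kf xf1 yf25 zf14) (kf xf1 yf14 zf53) (kf xf0 yf59 zf41) (kf xf3 yf57 zf11) (kf xf4 yf15 zf19) (kf xf4 yf15 zf56) (kf xf1 yf16 zf49) (kf xf4 yf9 zf23) (kf xf4 yf15 zf22) (kf xf4 yf16 zf2) (kf xf1 yf16 zf27) (kf xf0 yf59 zf45) (kf xf4 yf15 zf29) (kf xf4 yf16 zf11) (kf xf4 yf15 zf26) (kf xf4 yf15 zf27) (kf xf4 yf16 zf20) (kf xf4 yf15 zf32) (kf xf4 yf15 zf31) (kf xf4 yf11 zf60) (kf xf4 yf16 zf37) (kf xf0 yf59 zf48) (kf xf2 yf2 zf11) (kf xf1 yf1 zf10) (kf xf1 yf24 zf52) (kf xf2 yf2 zf35) (kf xf2 yf36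 zf22) (kf xf2 yf2 zf37) (kf xf1 yf16 zf10) (kf xf2 yf2 zf38) (kf xf4 yf16 zf58) (kf xf2 yf38 zf43) (kf xf1 yf25 zf3) (kf xf0 yf59 zf53) (kf xf2 yf1 zf42) (kf xf2 yf2 zf25) (kf xf4 yf17 zf4) (kf xf1 yf17 zf32) (kf xf2 yf2 zf44) (kf xf2 yf2 zf42) (kf xf3 yf1 zf40) (kf xf2 yf2 zf31) (kf xf2 yf2 zf30) (kf xf0 yf59 zf57) (kf xf1 yf15 zf36) (kf xf2 yf2 zf13) (kf xf4 yf17 zf16) (kf xf2 yf2 zf18)) (@D3.rec (fun _ => Pt) (kf xf2 yf2 zf19) (kf xf2 yf2 zf20) (kf xf4 yf17 zf28) (kf xf1 yf15 zf43) (kf xf2 yf3 zf14) (kf xf1 yf0 zf1) (kf xf2 yf2 zf28) (kf xf4 yf17 zf35) (kf xf2 yf2 zf26) (kf xf1 yf0 zf3) (kf xf2 yf2 zf57) (kf xf2 yf2 zf58) (kf xf4 yf17 zf46) (kf xf2 yf2 zf60) (kf xf4 yf17 zf54) (kf xf2 yf2 zf54) (kf xf2 yf2 zf53) (kf xf1 yf0 zf8) (kf xf2 yf2 zf48) (kf xf2 yf2 zf49)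 (kf xf4 yf18 zf7) (kf xf2 yf2 zf51) (kf xf4 yf18 zf12) (kf xf2 yf3 zf1) (kf xf2 yf3 zf0) (kf xf1 yf0 zf11) (kf xf1 yf30 zf53) (kf xf1 yf30 zf9) (kf xf2 yf3 zf3) (kf xf1 yf29 zf57) (kf xf4 yf11 zf58) (kf xf4 yf11 zf59) (kf xf4 yf11 zf57) (kf xf2 yf3 zf12) (kf xf2 yf0 zf21) (kf xf2 yf0 zf22) (kf xf2 yf0 zf23) (kf xf2 yf3 zf46) (kf xf4 yf18 zf41) (kf xf2 yf3 zf48) (kf xf2 yf3 zf49) (kf xf2 yf3 zf50) (kf xf4 yf18 zf54) (kf xf4 yf13 zf15) (kf xf2 yf0 zf36) (kf xf1 yf0 zf19) (kf xf2 yf3 zf30) (kf xf2 yf3 zf57) (kf xf2 yf3 zf55) (kf xf2 yf19 zf9) (kf xf2 yf3 zf39) (kf xf2 yf3 zf38) (kf xf1 yf0 zf22) (kf xf2 yf0 zf46) (kf xf1 yf55 zf16) (kf xf1 yf2 zf51) (kf xf2 yf3 zf59) (kf xf2 yf3 zf61) (kf xf1 yf13 zf5) (kf xf1 yf58 zf40) (kf xf1 yf58 zf41) (kf xf1 yf58 zf42)) (@D3.rec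 (fun _ => Pt) (kf xf4 yf19 zf16) (kf xf1 yf57 zf30) (kf xf3 yf56 zf58) (kf xf1 yf0 zf31) (kf xf2 yf26 zf16) (kf xf1 yf11 zf14) (kf xf1 yf59 zf39) (kf xf2 yf3 zf21) (kf xf4 yf19 zf26) (kf xf2 yf3 zf23) (kf xf2 yf3 zf24) (kf xf2 yf3 zf25) (kf xf4 yf19 zf40) (kf xf1 yf59 zf47) (kf xf4 yf12 zf34) (kf xf1 yf18 zf25) (kf xf1 yf0 zf39) (kf xf2 yf3 zf36) (kf xf2 yf19 zf21) (kf xf2 yf3 zf35) (kf xf4 yf19 zf48) (kf xf1 yf0 zf41) (kf xf2 yf3 zf42) (kf xf1 yf55 zf60) (kf xf2 yf3 zf43) (kf xf1 yf18 zf43) (kf xf2 yf7 zf39) (kf xf2 yf4 zf38) (kf xf4 yf20 zf0) (kf xf1 yf0 zf47) (kf xf2 yf7 zf43) (kf xf2 yf7 zf45) (kf xf2 yf3 zf17) (kf xf2 yf7 zf47) (kf xf4 yf20 zf14) (kf xf4 yf20 zf18) (kf xf1 yf0 zf52) (kf xf4 yf20 zf22) (kf xf1 yf0 zf54) (kf xf2 yf7 zf26) (kf xf2 yf26 zf7) (kf xf4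 yf20 zf28) (kf xf1 yf0 zf56) (kf xf2 yf7 zf30) (kf xf2 yf3 zf15) (kf xf2 yf7 zf31) (kf xf1 yf59 zf17) (kf xf2 yf7 zf33) (kf xf4 yf20 zf40) (kf xf4 yf20 zf45) (kf xf1 yf0 zf61) (kf xf2 yf38 zf9) (kf xf1 yf58 zf45) (kf xf2 yf7 zf59) (kf xf4 yf20 zf51) (kf xf1 yf1 zf2) (kf xf4 yf20 zf54) (kf xf1 yf1 zf4) (kf xf2 yf43 zf32) (kf xf2 yf7 zf53) (kf xf4 yf20 zf60) (kf xf1 yf1 zf6)) (@D3.rec (fun _ => Pt) (kf xf4 yf21 zf1) (kf xf1 yf1 zf8) (kf xf4 yf8 zf52) (kf xf4 yf16 zf41) (kf xf2 yf4 zf24) (kf xf4 yf8 zf53) (kf xf4 yf21 zf10) (kf xf4 yf9 zf29) (kf xf4 yf21 zf16) (kf xf1 yf1 zf12) (kf xf2 yf23 zf22) (kf xf4 yf21 zf22) (kf xf3 yf56 zf52) (kf xf4 yf21 zf27) (kf xf1 yf1 zf15) (kf xf1 yf58 zf54) (kf xf3 yf57 zf0) (kf xf4 yf21 zf37) (kf xf1 yf13 zf34) (kf xf1 yf1 zf18) (kf xf3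 yf56 zf56) (kf xf4 yf4 zf34) (kf xf3 yf56 zf59) (kf xf4 yf21 zf46) (kf xf2 yf24 zf22) (kf xf4 yf21 zf53) (kf xf3 yf57 zf2) (kf xf2 yf24 zf21) (kf xf4 yf21 zf61) (kf xf3 yf57 zf6) (kf xf3 yf57 zf5) (kf xf4 yf22 zf10) (kf xf3 yf57 zf34) (kf xf1 yf1 zf24) (kf xf4 yf21 zf28) (kf xf1 yf17 zf15) (kf xf4 yf22 zf21) (kf xf2 yf26 zf14) (kf xf4 yf22 zf25) (kf xf1 yf1 zf28) (kf xf1 yf18 zf36) (kf xf2 yf26 zf2) (kf xf2 yf26 zf17) (kf xf2 yf26 zf18) (kf xf4 yf2 zf15) (kf xf1 yf18 zf55) (kf xf3 yf57 zf12) (kf xf4 yf12 zf7) (kf xf3 yf57 zf14) (kf xf4 yf22 zf45) (kf xf3 yf57 zf17) (kf xf3 yf57 zf18) (kf xf1 yf20 zf0) (kf xf2 yf26 zf24) (kf xf4 yf22 zf61) (kf xf3 yf5 zf37) (kf xf1 yf19 zf37) (kf xf1 yf1 zf39) (kf xf3 yf57 zf20) (kf xf3 yf57 zf21) (kf xf3 yf33 zf5) (kf xf1 yf12 zf20))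 (@D3.rec (fun _ => Pt) (kf xf1 yf1 zf41) (kf xf3 yf57 zf26) (kf xf4 yf23 zf11) (kf xf3 yf57 zf23) (kf xf3 yf57 zf24) (kf xf3 yf33 zf37) (kf xf4 yf23 zf22) (kf xf4 yf23 zf17) (kf xf4 yf23 zf16) (kf xf4 yf23 zf32) (kf xf1 yf1 zf44) (kf xf3 yf57 zf33) (kf xf3 yf57 zf32) (kf xf3 yf57 zf8) (kf xf4 yf23 zf42) (kf xf1 yf1 zf45) (kf xf1 yf2 zf20) (kf xf1 yf28 zf1) (kf xf1 yf28 zf2) (kf xf4 yf2 zf26) (kf xf1 yf27 zf57) (kf xf1 yf27 zf58) (kf xf1 yf31 zf4) (kf xf1 yf31 zf5) (kf xf1 yf31 zf6) (kf xf1 yf31 zf7) (kf xf4 yf24 zf3) (kf xf4 yf24 zf7) (kf xf1 yf28 zf18) (kf xf1 yf28 zf16) (kf xf3 yf35 zf43) (kf xf1 yf1 zf52) (kf xf1 yf21 zf28) (kf xf2 yf58 zf9) (kf xf3 yf57 zf37) (kf xf3 yf57 zf38) (kf xf3 yf36 zf7) (kf xf3 yf57 zf39) (kf xf3 yf35 zf47) (kf xf4 yf24 zf27) (kf xf1 yf31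 zf10) (kf xf4 yf24 zf31) (kf xf1 yf1 zf57) (kf xf1 yf21 zf51) (kf xf1 yf23 zf10) (kf xf1 yf23 zf11) (kf xf1 yf23 zf7) (kf xf1 yf23 zf12) (kf xf4 yf24 zf40) (kf xf3 yf57 zf41) (kf xf3 yf57 zf42) (kf xf3 yf57 zf43) (kf xf3 yf57 zf44) (kf xf4 yf24 zf53) (kf xf4 yf24 zf57) (kf xf2 yf26 zf53) (kf xf2 yf26 zf52) (kf xf4 yf25 zf2) (kf xf1 yf2 zf2) (kf xf1 yf22 zf34) (kf xf2 yf26 zf56) (kf xf4 yf25 zf10)) (@D3.rec (fun _ => Pt) (kf xf4 yf25 zf12) (kf xf1 yf2 zf7) (kf xf3 yf57 zf46) (kf xf3 yf57 zf47) (kf xf2 yf53 zf16) (kf xf3 yf57 zf48) (kf xf4 yf25 zf29) (kf xf4 yf25 zf33) (kf xf4 yf25 zf37) (kf xf1 yf2 zf10) (kf xf1 yf2 zf13) (kf xf1 yf2 zf12) (kf xf4 yf0 zf45) (kf xf4 yf25 zf50) (kf xf4 yf25 zf54) (kf xf4 yf25 zf57) (kf xf1 yf2 zf11) (kf xf4 yf25 zf40) (kf xf1 yf10 zf48)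 (kf xf4 yf25 zf41) (kf xf4 yf26 zf5) (kf xf4 yf25 zf38) (kf xf4 yf26 zf7) (kf xf4 yf26 zf6) (kf xf4 yf26 zf21) (kf xf4 yf26 zf24) (kf xf1 yf2 zf14) (kf xf4 yf23 zf33) (kf xf3 yf3 zf45) (kf xf4 yf26 zf34) (kf xf1 yf55 zf45) (kf xf4 yf26 zf42) (kf xf3 yf58 zf1) (kf xf3 yf58 zf0) (kf xf1 yf2 zf18) (kf xf4 yf26 zf51) (kf xf3 yf3 zf19) (kf xf3 yf3 zf18) (kf xf4 yf23 zf44) (kf xf2 yf27 zf61) (kf xf2 yf28 zf0) (kf xf3 yf3 zf22) (kf xf2 yf33 zf18) (kf xf1 yf59 zf30) (kf xf1 yf14 zf19) (kf xf1 yf15 zf38) (kf xf4 yf27 zf11) (kf xf1 yf2 zf23) (kf xf2 yf10 zf53) (kf xf2 yf24 zf13) (kf xf2 yf10 zf55) (kf xf4 yf27 zf20) (kf xf1 yf2 zf25) (kf xf2 yf10 zf48) (kf xf4 yf3 zf22) (kf xf2 yf10 zf50) (kf xf4 yf27 zf30) (kf xf1 yf2 zf28) (kf xf1 yf2 zf34) (kf xf2 yf24 zf12) (kf xf1 yf2 zf38)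 (kf xf4 yf27 zf40)) (@D3.rec (fun _ => Pt) (kf xf1 yf2 zf31) (kf xf4 yf3 zf36) (kf xf4 yf27 zf45) (kf xf4 yf3 zf19) (kf xf1 yf16 zf58) (kf xf4 yf27 zf32) (kf xf4 yf27 zf58) (kf xf1 yf13 zf40) (kf xf1 yf15 zf46) (kf xf1 yf2 zf35) (kf xf4 yf3 zf20) (kf xf4 yf28 zf3) (kf xf1 yf2 zf37) (kf xf4 yf3 zf61) (kf xf4 yf27 zf34) (kf xf4 yf28 zf14) (kf xf4 yf3 zf53) (kf xf4 yf28 zf21) (kf xf4 yf27 zf37) (kf xf4 yf27 zf36) (kf xf4 yf28 zf34) (kf xf4 yf28 zf39) (kf xf1 yf2 zf40) (kf xf2 yf58 zf50) (kf xf1 yf17 zf17) (kf xf1 yf17 zf18) (kf xf1 yf17 zf19) (kf xf4 yf28 zf54) (kf xf2 yf41 zf25) (kf xf1 yf14 zf52) (kf xf1 yf2 zf43) (kf xf1 yf16 zf59) (kf xf2 yf59 zf5) (kf xf1 yf17 zf25) (kf xf1 yf17 zf26) (kf xf1 yf17 zf7) (kf xf1 yf17 zf6) (kf xf1 yf2 zf46) (kf xf1 yf14 zf9) (kf xf1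 yf14 zf10) (kf xf1 yf16 zf51) (kf xf1 yf16 zf53) (kf xf4 yf29 zf14) (kf xf1 yf17 zf3) (kf xf1 yf17 zf4) (kf xf2 yf52 zf51) (kf xf1 yf17 zf29) (kf xf1 yf2 zf53) (kf xf1 yf17 zf46) (kf xf4 yf29 zf32) (kf xf1 yf17 zf48) (kf xf1 yf17 zf49) (kf xf4 yf29 zf42) (kf xf1 yf17 zf42) (kf xf1 yf17 zf41) (kf xf2 yf30 zf27) (kf xf1 yf2 zf56) (kf xf1 yf17 zf33) (kf xf1 yf17 zf34) (kf xf4 yf29 zf55) (kf xf1 yf17 zf38) (kf xf1 yf17 zf39)) (@D3.rec (fun _ => Pt) (kf xf3 yf13 zf13) (kf xf1 yf17 zf52) (kf xf1 yf17 zf51) (kf xf1 yf2 zf59) (kf xf1 yf17 zf57) (kf xf1 yf17 zf58) (kf xf4 yf30 zf11) (kf xf1 yf17 zf54) (kf xf1 yf17 zf55) (kf xf2 yf54 zf56) (kf xf4 yf30 zf25) (kf xf4 yf30 zf20) (kf xf4 yf30 zf19) (kf xf1 yf20 zf27) (kf xf1 yf3 zf0) (kf xf1 yf18 zf4) (kf xf1 yf18 zf3) (kf xf4 yf30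 zf41) (kf xf2 yf59 zf35) (kf xf1 yf18 zf8) (kf xf1 yf18 zf7) (kf xf1 yf18 zf22) (kf xf2 yf59 zf50) (kf xf1 yf19 zf13) (kf xf1 yf23 zf25) (kf xf1 yf18 zf31) (kf xf1 yf18 zf30) (kf xf1 yf3 zf10) (kf xf1 yf18 zf39) (kf xf1 yf18 zf37) (kf xf1 yf18 zf41) (kf xf1 yf19 zf22) (kf xf4 yf31 zf12) (kf xf1 yf18 zf51) (kf xf2 yf59 zf56) (kf xf1 yf18 zf57) (kf xf1 yf18 zf56) (kf xf1 yf11 zf15) (kf xf1 yf18 zf14) (kf xf1 yf18 zf15) (kf xf1 yf18 zf16) (kf xf4 yf31 zf30) (kf xf1 yf11 zf23) (kf xf2 yf43 zf60) (kf xf1 yf18 zf28) (kf xf4 yf31 zf36) (kf xf1 yf19 zf16) (kf xf1 yf19 zf15) (kf xf1 yf3 zf24) (kf xf1 yf18 zf45) (kf xf1 yf18 zf46) (kf xf1 yf18 zf47) (kf xf1 yf18 zf48) (kf xf2 yf51 zf3) (kf xf1 yf19 zf33) (kf xf1 yf19 zf32) (kf xf1 yf19 zf41) (kf xf4 yf31 zf53) (kf xf1 yf19 zf39)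 (kf xf1 yf19 zf38) (kf xf1 yf19 zf25) (kf xf1 yf19 zf26)) (@D3.rec (fun _ => Pt) (kf xf1 yf19 zf27) (kf xf1 yf19 zf28) (kf xf4 yf31 zf60) (kf xf4 yf32 zf6) (kf xf2 yf50 zf38) (kf xf1 yf3 zf36) (kf xf1 yf12 zf23) (kf xf1 yf19 zf59) (kf xf1 yf19 zf60) (kf xf1 yf19 zf61) (kf xf1 yf20 zf1) (kf xf1 yf3 zf46) (kf xf4 yf32 zf20) (kf xf2 yf49 zf14) (kf xf1 yf3 zf41) (kf xf1 yf19 zf48) (kf xf1 yf19 zf49) (kf xf1 yf19 zf50) (kf xf1 yf19 zf51) (kf xf1 yf19 zf52) (kf xf4 yf32 zf42) (kf xf4 yf32 zf46) (kf xf2 yf50 zf60) (kf xf1 yf3 zf44) (kf xf1 yf3 zf47) (kf xf4 yf32 zf52) (kf xf4 yf32 zf57) (kf xf4 yf32 zf60) (kf xf1 yf3 zf45) (kf xf4 yf22 zf55) (kf xf4 yf32 zf16) (kf xf1 yf20 zf2) (kf xf4 yf32 zf48) (kf xf4 yf33 zf7) (kf xf4 yf33 zf6) (kf xf4 yf33 zf20) (kf xf4 yf33 zf23) (kf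 xf1 yf3 zf48) (kf xf1 yf5 zf3) (kf xf1 yf20 zf25) (kf xf4 yf33 zf31) (kf xf1 yf20 zf23) (kf xf3 yf5 zf46) (kf xf1 yf18 zf1) (kf xf4 yf33 zf43) (kf xf1 yf20 zf30) (kf xf1 yf20 zf29) (kf xf1 yf3 zf53) (kf xf4 yf33 zf52) (kf xf1 yf5 zf13) (kf xf2 yf52 zf16) (kf xf1 yf4 zf12) (kf xf1 yf21 zf42) (kf xf1 yf21 zf43) (kf xf1 yf21 zf44) (kf xf4 yf34 zf4) (kf xf1 yf4 zf1) (kf xf4 yf34 zf7) (kf xf1 yf4 zf0) (kf xf1 yf21 zf24) (kf xf1 yf21 zf23) (kf xf4 yf34 zf5)) (@D3.rec (fun _ => Pt) (kf xf1 yf21 zf32) (kf xf1 yf21 zf33) (kf xf1 yf21 zf35) (kf xf1 yf21 zf29) (kf xf1 yf21 zf30) (kf xf2 yf58 zf10) (kf xf1 yf21 zf31) (kf xf1 yf20 zf61) (kf xf1 yf21 zf0) (kf xf2 yf59 zf53) (kf xf1 yf21 zf2) (kf xf1 yf21 zf6) (kf xf1 yf21 zf8) (kf xf1 yf21 zf9) (kf xf1 yf21 zf10) (kf xf4 yf34 zf35)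 (kf xf4 yf34 zf39) (kf xf1 yf4 zf11) (kf xf4 yf33 zf56) (kf xf1 yf21 zf52) (kf xf1 yf21 zf49) (kf xf1 yf21 zf50) (kf xf1 yf22 zf13) (kf xf1 yf22 zf14) (kf xf1 yf22 zf15) (kf xf4 yf34 zf46) (kf xf1 yf4 zf19) (kf xf1 yf21 zf53) (kf xf1 yf21 zf56) (kf xf4 yf31 zf58) (kf xf1 yf21 zf58) (kf xf1 yf24 zf43) (kf xf1 yf21 zf61) (kf xf4 yf34 zf57) (kf xf1 yf21 zf55) (kf xf4 yf35 zf1) (kf xf1 yf4 zf24) (kf xf4 yf35 zf3) (kf xf1 yf4 zf25) (kf xf1 yf22 zf27) (kf xf1 yf22 zf28) (kf xf1 yf22 zf25) (kf xf1 yf22 zf26) (kf xf1 yf22 zf30) (kf xf1 yf4 zf28) (kf xf1 yf22 zf35) (kf xf1 yf22 zf36) (kf xf1 yf22 zf32) (kf xf1 yf22 zf33) (kf xf1 yf23 zf1) (kf xf1 yf23 zf2) (kf xf1 yf23 zf4) (kf xf1 yf23 zf5) (kf xf1 yf23 zf8) (kf xf4 yf35 zf25) (kf xf1 yf23 zf16) (kf xf4 yf35 zf32) (kf xf2 yf33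 zf48) (kf xf4 yf35 zf23) (kf xf4 yf35 zf40) (kf xf1 yf4 zf36) (kf xf1 yf22 zf59)) (@D3.rec (fun _ => Pt) (kf xf1 yf22 zf58) (kf xf4 yf35 zf45) (kf xf1 yf4 zf37) (kf xf1 yf14 zf32) (kf xf1 yf4 zf38) (kf xf1 yf22 zf38) (kf xf1 yf22 zf39) (kf xf1 yf22 zf41) (kf xf1 yf22 zf42) (kf xf1 yf22 zf43) (kf xf4 yf32 zf27) (kf xf1 yf22 zf44) (kf xf1 yf22 zf45) (kf xf4 yf36 zf4) (kf xf1 yf22 zf47) (kf xf1 yf22 zf48) (kf xf1 yf22 zf49) (kf xf4 yf36 zf13) (kf xf1 yf22 zf53) (kf xf4 yf36 zf17) (kf xf4 yf36 zf2) (kf xf4 yf35 zf53) (kf xf4 yf36 zf28) (kf xf1 yf4 zf45) (kf xf1 yf23 zf22) (kf xf1 yf23 zf21) (kf xf4 yf36 zf34) (kf xf1 yf4 zf46) (kf xf1 yf18 zf29) (kf xf1 yf4 zf47) (kf xf1 yf23 zf18) (kf xf1 yf4 zf57) (kf xf1 yf4 zf58) (kf xf2 yf51 zf42) (kf xf4 yf35 zf51) (kf xf1 yf55 zf43)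 (kf xf4 yf36 zf49) (kf xf4 yf5 zf40) (kf xf1 yf4 zf51) (kf xf2 yf51 zf46) (kf xf4 yf24 zf42) (kf xf4 yf36 zf57) (kf xf4 yf37 zf0) (kf xf4 yf37 zf4) (kf xf1 yf4 zf52) (kf xf1 yf27 zf13) (kf xf4 yf37 zf13) (kf xf4 yf37 zf16) (kf xf1 yf4 zf53) (kf xf2 yf33 zf46) (kf xf4 yf37 zf21) (kf xf1 yf4 zf54) (kf xf4 yf35 zf11) (kf xf2 yf0 zf56) (kf xf2 yf51 zf33) (kf xf1 yf56 zf49) (kf xf4 yf36 zf38) (kf xf4 yf27 zf0) (kf xf4 yf36 zf39) (kf xf4 yf37 zf35) (kf xf1 yf23 zf6) (kf xf4 yf37 zf39)) (@D3.rec (fun _ => Pt) (kf xf1 yf4 zf59) (kf xf1 yf35 zf26) (kf xf4 yf37 zf45) (kf xf1 yf36 zf32) (kf xf1 yf36 zf33) (kf xf4 yf37 zf54) (kf xf1 yf36 zf35) (kf xf4 yf37 zf60) (kf xf1 yf35 zf24) (kf xf1 yf35 zf25) (kf xf1 yf35 zf27) (kf xf4 yf38 zf14) (kf xf4 yf37 zf44) (kf xf4 yf37 zf43) (kf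 xf1 yf5 zf2) (kf xf1 yf23 zf9) (kf xf4 yf33 zf25) (kf xf1 yf24 zf22) (kf xf1 yf24 zf23) (kf xf4 yf38 zf37) (kf xf1 yf24 zf19) (kf xf1 yf24 zf18) (kf xf4 yf38 zf42) (kf xf1 yf5 zf5) (kf xf1 yf24 zf15) (kf xf1 yf24 zf16) (kf xf4 yf38 zf52) (kf xf1 yf24 zf26) (kf xf1 yf24 zf25) (kf xf4 yf38 zf60) (kf xf1 yf5 zf7) (kf xf1 yf24 zf33) (kf xf1 yf24 zf35) (kf xf4 yf39 zf7) (kf xf1 yf24 zf29) (kf xf1 yf24 zf31) (kf xf1 yf24 zf39) (kf xf1 yf24 zf37) (kf xf1 yf24 zf38) (kf xf1 yf24 zf41) (kf xf1 yf24 zf40) (kf xf2 yf58 zf5) (kf xf1 yf22 zf8) (kf xf1 yf22 zf20) (kf xf1 yf24 zf47) (kf xf1 yf24 zf44) (kf xf1 yf24 zf46) (kf xf2 yf48 zf55) (kf xf2 yf48 zf56) (kf xf2 yf48 zf57) (kf xf2 yf48 zf58) (kf xf4 yf39 zf40) (kf xf1 yf12 zf35) (kf xf4 yf39 zf45) (kf xf2 yf33 zf3) (kf xf4 yf39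 zf41) (kf xf4 yf35 zf37) (kf xf1 yf5 zf23) (kf xf1 yf25 zf26) (kf xf4 yf39 zf54) (kf xf1 yf5 zf24) (kf xf2 yf18 zf58)) (@D3.rec (fun _ => Pt) (kf xf2 yf49 zf5) (kf xf2 yf17 zf47) (kf xf1 yf27 zf3) (kf xf4 yf40 zf2) (kf xf1 yf26 zf12) (kf xf1 yf26 zf11) (kf xf1 yf5 zf29) (kf xf1 yf29 zf49) (kf xf3 yf5 zf48) (kf xf3 yf9 zf32) (kf xf3 yf6 zf2) (kf xf2 yf21 zf39) (kf xf3 yf5 zf50) (kf xf2 yf21 zf40) (kf xf2 yf21 zf41) (kf xf3 yf5 zf53) (kf xf4 yf40 zf22) (kf xf1 yf7 zf35) (kf xf1 yf7 zf40) (kf xf1 yf7 zf20) (kf xf2 yf20 zf26) (kf xf2 yf20 zf35) (kf xf1 yf26 zf8) (kf xf3 yf5 zf56) (kf xf4 yf40 zf44) (kf xf4 yf40 zf21) (kf xf4 yf40 zf20) (kf xf1 yf5 zf39) (kf xf1 yf23 zf40) (kf xf4 yf40 zf54) (kf xf1 yf27 zf16) (kf xf1 yf27 zf15) (kf xf4 yf41 zf0) (kf xf1 yf5 zf41) (kf xf1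 yf27 zf23) (kf xf1 yf27 zf24) (kf xf1 yf27 zf25) (kf xf4 yf41 zf10) (kf xf1 yf27 zf19) (kf xf1 yf27 zf20) (kf xf1 yf27 zf21) (kf xf4 yf41 zf17) (kf xf1 yf27 zf61) (kf xf1 yf31 zf15) (kf xf1 yf31 zf17) (kf xf1 yf31 zf18) (kf xf2 yf30 zf17) (kf xf2 yf17 zf1) (kf xf4 yf34 zf15) (kf xf4 yf41 zf31) (kf xf1 yf5 zf50) (kf xf1 yf28 zf45) (kf xf1 yf28 zf44) (kf xf4 yf41 zf37) (kf xf1 yf5 zf51) (kf xf1 yf28 zf12) (kf xf1 yf28 zf49) (kf xf4 yf27 zf2) (kf xf1 yf5 zf57) (kf xf1 yf30 zf37) (kf xf1 yf24 zf36) (kf xf3 yf24 zf16)) (@D3.rec (fun _ => Pt) (kf xf1 yf6 zf7) (kf xf3 yf10 zf58) (kf xf1 yf6 zf2) (kf xf1 yf31 zf44) (kf xf1 yf31 zf47) (kf xf1 yf32 zf5) (kf xf1 yf31 zf48) (kf xf1 yf31 zf49) (kf xf1 yf31 zf50) (kf xf1 yf24 zf32) (kf xf1 yf30 zf32) (kf xf3 yf13 zf4) (kf xf3 yf11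 zf47) (kf xf1 yf6 zf6) (kf xf4 yf41 zf42) (kf xf1 yf31 zf58) (kf xf3 yf1 zf6) (kf xf1 yf30 zf41) (kf xf4 yf41 zf61) (kf xf1 yf6 zf9) (kf xf1 yf30 zf29) (kf xf1 yf30 zf31) (kf xf1 yf30 zf25) (kf xf1 yf30 zf27) (kf xf1 yf30 zf34) (kf xf1 yf30 zf33) (kf xf4 yf42 zf15) (kf xf1 yf6 zf13) (kf xf1 yf30 zf45) (kf xf1 yf29 zf17) (kf xf1 yf30 zf38) (kf xf1 yf30 zf39) (kf xf1 yf30 zf40) (kf xf4 yf41 zf57) (kf xf3 yf22 zf30) (kf xf1 yf6 zf55) (kf xf4 yf18 zf17) (kf xf1 yf29 zf0) (kf xf1 yf30 zf56) (kf xf1 yf30 zf57) (kf xf1 yf30 zf58) (kf xf4 yf42 zf34) (kf xf1 yf27 zf60) (kf xf1 yf28 zf6) (kf xf1 yf28 zf7) (kf xf1 yf28 zf8) (kf xf1 yf28 zf9) (kf xf2 yf49 zf39) (kf xf4 yf42 zf42) (kf xf4 yf42 zf45) (kf xf1 yf6 zf25) (kf xf2 yf24 zf46) (kf xf4 yf0 zf23) (kf xf1 yf28 zf32) (kf xf2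 yf59 zf57) (kf xf1 yf28 zf35) (kf xf1 yf28 zf36) (kf xf4 yf42 zf56) (kf xf2 yf16 zf61) (kf xf2 yf49 zf54) (kf xf4 yf37 zf46) (kf xf1 yf6 zf32)) (@D3.rec (fun _ => Pt) (kf xf1 yf31 zf22) (kf xf1 yf31 zf21) (kf xf4 yf41 zf36) (kf xf1 yf6 zf33) (kf xf2 yf19 zf23) (kf xf2 yf19 zf24) (kf xf1 yf30 zf17) (kf xf1 yf29 zf53) (kf xf3 yf24 zf14) (kf xf2 yf6 zf49) (kf xf1 yf29 zf59) (kf xf1 yf29 zf60) (kf xf3 yf24 zf10) (kf xf1 yf30 zf0) (kf xf1 yf30 zf1) (kf xf4 yf43 zf4) (kf xf1 yf30 zf3) (kf xf1 yf30 zf4) (kf xf1 yf30 zf5) (kf xf4 yf43 zf17) (kf xf1 yf29 zf61) (kf xf2 yf7 zf18) (kf xf1 yf6 zf47) (kf xf2 yf19 zf4) (kf xf2 yf19 zf5) (kf xf1 yf30 zf13) (kf xf1 yf30 zf16) (kf xf1 yf32 zf2) (kf xf1 yf32 zf4) (kf xf1 yf31 zf61) (kf xf1 yf32 zf1) (kf xf1 yf31 zf45) (kf xf1 yf32 zf7)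 (kf xf1 yf32 zf6) (kf xf4 yf43 zf39) (kf xf1 yf6 zf53) (kf xf4 yf12 zf28) (kf xf1 yf33 zf4) (kf xf1 yf31 zf53) (kf xf1 yf31 zf54) (kf xf1 yf22 zf60) (kf xf1 yf32 zf61) (kf xf1 yf33 zf1) (kf xf3 yf11 zf27) (kf xf1 yf32 zf57) (kf xf4 yf43 zf53) (kf xf1 yf32 zf27) (kf xf1 yf32 zf31) (kf xf1 yf32 zf32) (kf xf1 yf32 zf40) (kf xf1 yf32 zf41) (kf xf1 yf32 zf42) (kf xf2 yf19 zf52) (kf xf1 yf33 zf49) (kf xf3 yf1 zf16) (kf xf1 yf33 zf50) (kf xf1 yf36 zf25) (kf xf3 yf1 zf17) (kf xf1 yf33 zf52) (kf xf1 yf33 zf54) (kf xf1 yf37 zf4) (kf xf1 yf33 zf58)) (@D3.rec (fun _ => Pt) (kf xf1 yf7 zf36) (kf xf1 yf33 zf59) (kf xf4 yf41 zf1) (kf xf1 yf33 zf61) (kf xf1 yf34 zf0) (kf xf4 yf44 zf14) (kf xf1 yf34 zf2) (kf xf1 yf34 zf4) (kf xf4 yf40 zf28) (kf xf1 yf33 zf43) (kf xf4 yf40 zf29) (kf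 xf1 yf33 zf46) (kf xf3 yf20 zf5) (kf xf4 yf41 zf9) (kf xf3 yf19 zf35) (kf xf1 yf34 zf10) (kf xf3 yf21 zf35) (kf xf1 yf7 zf44) (kf xf1 yf36 zf21) (kf xf3 yf5 zf55) (kf xf1 yf7 zf38) (kf xf1 yf39 zf40) (kf xf1 yf33 zf29) (kf xf3 yf7 zf31) (kf xf4 yf40 zf9) (kf xf3 yf12 zf14) (kf xf2 yf17 zf20) (kf xf3 yf44 zf48) (kf xf1 yf7 zf33) (kf xf2 yf20 zf29) (kf xf3 yf12 zf15) (kf xf4 yf40 zf23) (kf xf4 yf40 zf24) (kf xf4 yf40 zf25) (kf xf4 yf44 zf6) (kf xf2 yf17 zf21) (kf xf2 yf20 zf36) (kf xf4 yf40 zf26) (kf xf4 yf40 zf27) (kf xf1 yf7 zf49) (kf xf1 yf7 zf50) (kf xf4 yf45 zf5) (kf xf1 yf7 zf47) (kf xf4 yf43 zf61) (kf xf1 yf7 zf53) (kf xf1 yf7 zf52) (kf xf4 yf44 zf28) (kf xf2 yf21 zf21) (kf xf4 yf45 zf25) (kf xf1 yf7 zf58) (kf xf1 yf7 zf45) (kf xf1 yf38 zf6) (kf xf4 yf45 zf33)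 (kf xf3 yf7 zf32) (kf xf4 yf44 zf34) (kf xf4 yf45 zf6) (kf xf4 yf45 zf7) (kf xf4 yf45 zf49) (kf xf4 yf45 zf3) (kf xf1 yf36 zf6) (kf xf4 yf45 zf58) (kf xf1 yf7 zf48)) (@D3.rec (fun _ => Pt) (kf xf3 yf24 zf18) (kf xf3 yf10 zf41) (kf xf4 yf45 zf0) (kf xf4 yf45 zf1) (kf xf4 yf46 zf8) (kf xf1 yf33 zf55) (kf xf4 yf46 zf14) (kf xf1 yf7 zf51) (kf xf4 yf45 zf13) (kf xf4 yf45 zf14) (kf xf4 yf46 zf23) (kf xf4 yf45 zf10) (kf xf4 yf45 zf11) (kf xf4 yf46 zf32) (kf xf1 yf24 zf5) (kf xf1 yf24 zf6) (kf xf1 yf23 zf59) (kf xf1 yf24 zf7) (kf xf4 yf46 zf49) (kf xf4 yf40 zf31) (kf xf4 yf40 zf33) (kf xf2 yf20 zf47) (kf xf4 yf46 zf59) (kf xf1 yf7 zf55) (kf xf4 yf45 zf23) (kf xf4 yf45 zf22) (kf xf4 yf47 zf10) (kf xf1 yf7 zf56) (kf xf4 yf47 zf11) (kf xf3 yf21 zf15) (kf xf4 yf45 zf26) (kf xf1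 yf37 zf5) (kf xf3 yf21 zf46) (kf xf1 yf37 zf8) (kf xf1 yf7 zf61) (kf xf1 yf36 zf16) (kf xf4 yf47 zf23) (kf xf3 yf6 zf0) (kf xf3 yf6 zf1) (kf xf2 yf17 zf11) (kf xf2 yf17 zf13) (kf xf2 yf17 zf14) (kf xf3 yf5 zf52) (kf xf3 yf6 zf3) (kf xf1 yf36 zf15) (kf xf4 yf47 zf27) (kf xf1 yf36 zf17) (kf xf1 yf36 zf18) (kf xf1 yf36 zf19) (kf xf4 yf47 zf53) (kf xf4 yf45 zf55) (kf xf4 yf47 zf45) (kf xf4 yf48 zf0) (kf xf1 yf8 zf5) (kf xf1 yf35 zf5) (kf xf1 yf36 zf9) (kf xf1 yf36 zf7) (kf xf3 yf14 zf28) (kf xf1 yf36 zf12) (kf xf1 yf36 zf11) (kf xf4 yf48 zf11) (kf xf1 yf8 zf8)) (@D3.rec (fun _ => Pt) (kf xf1 yf35 zf58) (kf xf4 yf47 zf24) (kf xf1 yf36 zf0) (kf xf4 yf48 zf20) (kf xf4 yf48 zf14) (kf xf3 yf43 zf1) (kf xf4 yf48 zf28) (kf xf1 yf8 zf12) (kf xf1 yf36 zf26) (kf xf1 yf35 zf14) (kf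 xf1 yf36 zf24) (kf xf1 yf36 zf29) (kf xf1 yf36 zf28) (kf xf4 yf48 zf40) (kf xf1 yf8 zf15) (kf xf1 yf23 zf61) (kf xf1 yf24 zf0) (kf xf4 yf48 zf49) (kf xf1 yf24 zf2) (kf xf1 yf24 zf3) (kf xf4 yf48 zf58) (kf xf4 yf49 zf0) (kf xf4 yf48 zf60) (kf xf4 yf48 zf59) (kf xf4 yf49 zf12) (kf xf1 yf8 zf20) (kf xf1 yf36 zf45) (kf xf1 yf36 zf46) (kf xf3 yf24 zf13) (kf xf1 yf36 zf42) (kf xf1 yf36 zf43) (kf xf4 yf49 zf28) (kf xf1 yf36 zf49) (kf xf1 yf36 zf48) (kf xf4 yf49 zf40) (kf xf1 yf8 zf23) (kf xf1 yf33 zf51) (kf xf1 yf37 zf6) (kf xf1 yf11 zf5) (kf xf1 yf37 zf9) (kf xf1 yf37 zf10) (kf xf1 yf37 zf12) (kf xf1 yf33 zf27) (kf xf1 yf36 zf53) (kf xf1 yf36 zf54) (kf xf3 yf21 zf21) (kf xf1 yf36 zf58) (kf xf1 yf36 zf59) (kf xf3 yf21 zf38) (kf xf1 yf8 zf34) (kf xf1 yf37 zf19) (kf xf4 yf44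 zf61) (kf xf1 yf37 zf16) (kf xf1 yf37 zf17) (kf xf1 yf37 zf21) (kf xf1 yf37 zf20) (kf xf4 yf50 zf3) (kf xf1 yf37 zf24) (kf xf4 yf48 zf41) (kf xf1 yf26 zf29) (kf xf1 yf26 zf31) (kf xf3 yf19 zf41)) (@D3.rec (fun _ => Pt) (kf xf3 yf6 zf13) (kf xf2 yf41 zf1) (kf xf2 yf35 zf24) (kf xf2 yf0 zf29) (kf xf4 yf50 zf37) (kf xf1 yf8 zf39) (kf xf2 yf4 zf32) (kf xf4 yf19 zf5) (kf xf2 yf4 zf33) (kf xf4 yf50 zf45) (kf xf1 yf8 zf41) (kf xf1 yf8 zf51) (kf xf1 yf8 zf53) (kf xf4 yf19 zf4) (kf xf1 yf8 zf49) (kf xf2 yf46 zf27) (kf xf1 yf8 zf56) (kf xf1 yf8 zf55) (kf xf4 yf50 zf60) (kf xf1 yf8 zf45) (kf xf4 yf14 zf4) (kf xf4 yf51 zf3) (kf xf2 yf8 zf10) (kf xf4 yf51 zf7) (kf xf4 yf18 zf59) (kf xf4 yf50 zf51) (kf xf4 yf51 zf17) (kf xf1 yf11 zf28) (kf xf1 yf8 zf50) (kf xf1 yf55 zf55) (kf xf4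 yf50 zf47) (kf xf4 yf19 zf51) (kf xf2 yf1 zf36) (kf xf4 yf2 zf61) (kf xf4 yf50 zf49) (kf xf4 yf51 zf30) (kf xf1 yf8 zf54) (kf xf4 yf16 zf26) (kf xf4 yf50 zf56) (kf xf4 yf51 zf38) (kf xf4 yf50 zf53) (kf xf4 yf50 zf54) (kf xf4 yf51 zf48) (kf xf4 yf21 zf23) (kf xf4 yf9 zf15) (kf xf4 yf51 zf59) (kf xf4 yf52 zf2) (kf xf1 yf8 zf57) (kf xf2 yf24 zf26) (kf xf2 yf24 zf33) (kf xf2 yf24 zf34) (kf xf4 yf52 zf14) (kf xf2 yf24 zf31) (kf xf2 yf24 zf30) (kf xf1 yf8 zf60) (kf xf2 yf24 zf27) (kf xf2 yf24 zf28) (kf xf4 yf52 zf26) (kf xf2 yf24 zf37) (kf xf2 yf24 zf36) (kf xf1 yf9 zf0) (kf xf4 yf52 zf35)) (@D3.rec (fun _ => Pt) (kf xf4 yf52 zf30) (kf xf4 yf52 zf29) (kf xf1 yf9 zf26) (kf xf1 yf9 zf1) (kf xf2 yf24 zf5) (kf xf2 yf24 zf4) (kf xf2 yf24 zf41) (kf xf1 yf58 zf51) (kf xf4 yf52 zf50)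 (kf xf1 yf58 zf0) (kf xf1 yf9 zf6) (kf xf2 yf4 zf49) (kf xf2 yf10 zf59) (kf xf2 yf10 zf49) (kf xf2 yf26 zf21) (kf xf1 yf57 zf60) (kf xf1 yf28 zf19) (kf xf4 yf0 zf16) (kf xf4 yf52 zf58) (kf xf4 yf0 zf14) (kf xf4 yf53 zf2) (kf xf2 yf8 zf27) (kf xf2 yf8 zf24) (kf xf4 yf52 zf40) (kf xf4 yf0 zf30) (kf xf1 yf9 zf20) (kf xf2 yf23 zf48) (kf xf2 yf23 zf55) (kf xf2 yf23 zf56) (kf xf4 yf53 zf24) (kf xf2 yf23 zf53) (kf xf2 yf23 zf52) (kf xf1 yf9 zf23) (kf xf2 yf23 zf49) (kf xf2 yf23 zf50) (kf xf3 yf8 zf11) (kf xf2 yf23 zf59) (kf xf2 yf23 zf58) (kf xf4 yf52 zf38) (kf xf4 yf52 zf39) (kf xf4 yf52 zf37) (kf xf2 yf24 zf6) (kf xf1 yf15 zf30) (kf xf1 yf15 zf11) (kf xf1 yf57 zf44) (kf xf3 yf59 zf58) (kf xf2 yf18 zf51) (kf xf2 yf24 zf50) (kf xf2 yf24 zf49) (kf xf2 yf24 zf48) (kf xf2 yf24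 zf47) (kf xf1 yf11 zf24) (kf xf1 yf59 zf45) (kf xf4 yf53 zf61) (kf xf1 yf9 zf40) (kf xf2 yf25 zf0) (kf xf4 yf54 zf4) (kf xf1 yf9 zf41) (kf xf2 yf25 zf3) (kf xf2 yf25 zf5) (kf xf4 yf54 zf13) (kf xf1 yf9 zf43)) (@D3.rec (fun _ => Pt) (kf xf2 yf24 zf55) (kf xf4 yf54 zf19) (kf xf1 yf9 zf45) (kf xf2 yf24 zf58) (kf xf4 yf19 zf8) (kf xf2 yf24 zf59) (kf xf4 yf54 zf28) (kf xf1 yf9 zf47) (kf xf1 yf9 zf59) (kf xf4 yf13 zf23) (kf xf1 yf9 zf55) (kf xf1 yf10 zf0) (kf xf1 yf9 zf61) (kf xf4 yf54 zf41) (kf xf1 yf9 zf51) (kf xf4 yf8 zf55) (kf xf4 yf54 zf47) (kf xf2 yf4 zf0) (kf xf4 yf9 zf0) (kf xf4 yf54 zf53) (kf xf4 yf30 zf52) (kf xf4 yf54 zf32) (kf xf4 yf55 zf1) (kf xf2 yf0 zf37) (kf xf1 yf9 zf56) (kf xf2 yf4 zf21) (kf xf2 yf4 zf22) (kf xf4 yf13 zf22) (kf xf3 yf58 zf12) (kf xf4 yf12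 zf53) (kf xf4 yf54 zf30) (kf xf4 yf55 zf15) (kf xf4 yf28 zf27) (kf xf4 yf54 zf36) (kf xf4 yf55 zf24) (kf xf2 yf4 zf28) (kf xf4 yf54 zf34) (kf xf4 yf55 zf33) (kf xf4 yf54 zf38) (kf xf2 yf38 zf33) (kf xf4 yf55 zf44) (kf xf4 yf55 zf49) (kf xf1 yf10 zf1) (kf xf4 yf5 zf27) (kf xf4 yf55 zf56) (kf xf3 yf58 zf39) (kf xf3 yf58 zf38) (kf xf2 yf29 zf8) (kf xf1 yf10 zf4) (kf xf2 yf4 zf40) (kf xf3 yf58 zf36) (kf xf4 yf56 zf7) (kf xf3 yf58 zf42) (kf xf3 yf58 zf41) (kf xf1 yf10 zf6) (kf xf4 yf56 zf16) (kf xf4 yf56 zf11) (kf xf4 yf56 zf10) (kf xf3 yf59 zf11) (kf xf1 yf10 zf7) (kf xf4 yf56 zf26) (kf xf4 yf5 zf34)) (@D3.rec (fun _ => Pt) (kf xf3 yf58 zf50) (kf xf3 yf58 zf49) (kf xf2 yf8 zf41) (kf xf1 yf59 zf27) (kf xf3 yf58 zf52) (kf xf4 yf1 zf27) (kf xf3 yf1 zf0) (kf xf2 yf7 zf40) (kf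 xf3 yf58 zf53) (kf xf3 yf58 zf54) (kf xf3 yf58 zf55) (kf xf4 yf5 zf45) (kf xf2 yf52 zf57) (kf xf1 yf59 zf23) (kf xf2 yf8 zf37) (kf xf4 yf56 zf50) (kf xf2 yf7 zf4) (kf xf2 yf8 zf42) (kf xf2 yf8 zf43) (kf xf2 yf49 zf7) (kf xf2 yf49 zf8) (kf xf2 yf24 zf14) (kf xf3 yf1 zf1) (kf xf1 yf10 zf26) (kf xf2 yf8 zf53) (kf xf4 yf57 zf0) (kf xf1 yf10 zf31) (kf xf1 yf10 zf35) (kf xf1 yf10 zf34) (kf xf4 yf23 zf24) (kf xf4 yf57 zf9) (kf xf4 yf57 zf13) (kf xf1 yf10 zf33) (kf xf3 yf58 zf61) (kf xf3 yf58 zf58) (kf xf4 yf57 zf3) (kf xf4 yf57 zf21) (kf xf4 yf57 zf1) (kf xf4 yf57 zf27) (kf xf4 yf57 zf26) (kf xf4 yf57 zf38) (kf xf4 yf57 zf41) (kf xf1 yf10 zf36) (kf xf1 yf11 zf1) (kf xf3 yf58 zf47) (kf xf4 yf57 zf51) (kf xf3 yf59 zf14) (kf xf3 yf59 zf13) (kf xf1 yf10 zf39) (kf xf4 yf57 zf57)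 (kf xf1 yf11 zf6) (kf xf4 yf58 zf3) (kf xf2 yf9 zf56) (kf xf2 yf9 zf55) (kf xf4 yf58 zf10) (kf xf1 yf10 zf43) (kf xf2 yf9 zf60) (kf xf1 yf28 zf50) (kf xf1 yf10 zf57) (kf xf4 yf57 zf2) (kf xf1 yf10 zf53) (kf xf1 yf10 zf55)) (@D3.rec (fun _ => Pt) (kf xf2 yf33 zf58) (kf xf4 yf25 zf46) (kf xf4 yf25 zf61) (kf xf4 yf58 zf27) (kf xf2 yf55 zf15) (kf xf3 yf59 zf27) (kf xf4 yf58 zf32) (kf xf4 yf58 zf34) (kf xf1 yf10 zf49) (kf xf2 yf49 zf22) (kf xf4 yf58 zf42) (kf xf4 yf58 zf45) (kf xf1 yf10 zf50) (kf xf2 yf33 zf59) (kf xf4 yf58 zf50) (kf xf1 yf10 zf51) (kf xf4 yf35 zf4) (kf xf2 yf53 zf24) (kf xf4 yf25 zf47) (kf xf3 yf59 zf21) (kf xf4 yf58 zf16) (kf xf3 yf3 zf28) (kf xf3 yf59 zf17) (kf xf4 yf57 zf44) (kf xf4 yf58 zf18) (kf xf4 yf59 zf5) (kf xf4 yf35 zf5) (kf xf4 yf59 zf9) (kf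 xf1 yf10 zf56) (kf xf1 yf10 zf59) (kf xf1 yf10 zf58) (kf xf4 yf58 zf13) (kf xf4 yf59 zf20) (kf xf4 yf38 zf4) (kf xf4 yf59 zf13) (kf xf4 yf59 zf29) (kf xf4 yf59 zf10) (kf xf4 yf59 zf11) (kf xf4 yf59 zf38) (kf xf4 yf59 zf15) (kf xf2 yf56 zf9) (kf xf4 yf59 zf48) (kf xf4 yf59 zf52) (kf xf1 yf10 zf60) (kf xf4 yf59 zf19) (kf xf4 yf59 zf18) (kf xf1 yf10 zf61) (kf xf4 yf49 zf46) (kf xf4 yf57 zf43) (kf xf4 yf57 zf45) (kf xf3 yf59 zf56) (kf xf3 yf59 zf57) (kf xf5 yf0 zf16) (kf xf3 yf59 zf53) (kf xf3 yf59 zf54) (kf xf4 yf49 zf47) (kf xf2 yf58 zf14) (kf xf2 yf58 zf13) (kf xf4 yf57 zf61) (kf xf3 yf3 zf34) (kf xf3 yf0 zf54) (kf xf2 yf10 zf39)) (@D3.rec (fun _ => Pt) (kf xf2 yf10 zf40) (kf xf2 yf0 zf2) (kf xf2 yf30 zf13) (kf xf2 yf43 zf31) (kf xf2 yf43 zf33) (kf xf4 yf19 zf21) (kf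 xf4 yf31 zf16) (kf xf1 yf11 zf26) (kf xf1 yf11 zf22) (kf xf1 yf11 zf29) (kf xf5 yf0 zf55) (kf xf1 yf11 zf18) (kf xf1 yf14 zf45) (kf xf4 yf7 zf32) (kf xf4 yf9 zf4) (kf xf4 yf2 zf33) (kf xf2 yf38 zf16) (kf xf5 yf0 zf45) (kf xf2 yf31 zf58) (kf xf5 yf0 zf47) (kf xf5 yf1 zf14) (kf xf4 yf53 zf56) (kf xf2 yf43 zf57) (kf xf2 yf34 zf27) (kf xf2 yf43 zf58) (kf xf5 yf0 zf46) (kf xf5 yf1 zf29) (kf xf2 yf43 zf59) (kf xf4 yf7 zf34) (kf xf4 yf51 zf18) (kf xf5 yf1 zf39) (kf xf4 yf53 zf58) (kf xf5 yf0 zf49) (kf xf5 yf1 zf46) (kf xf5 yf0 zf52) (kf xf5 yf0 zf51) (kf xf5 yf1 zf57) (kf xf5 yf2 zf0) (kf xf1 yf11 zf30) (kf xf2 yf31 zf49) (kf xf2 yf32 zf6) (kf xf2 yf32 zf7) (kf xf2 yf32 zf8) (kf xf5 yf2 zf16) (kf xf2 yf31 zf30) (kf xf2 yf31 zf61) (kf xf5 yf2 zf24) (kf xf2 yf31 zf59) (kf xf2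 yf32 zf14) (kf xf2 yf30 zf3) (kf xf2 yf30 zf0) (kf xf2 yf32 zf11) (kf xf2 yf32 zf12) (kf xf5 yf2 zf41) (kf xf2 yf32 zf4) (kf xf2 yf32 zf3) (kf xf1 yf11 zf36) (kf xf1 yf55 zf49) (kf xf2 yf31 zf52) (kf xf2 yf44 zf26) (kf xf2 yf31 zf54) (kf xf2 yf31 zf55)) (@D3.rec (fun _ => Pt) (kf xf2 yf31 zf56) (kf xf5 yf3 zf0) (kf xf1 yf55 zf57) (kf xf2 yf44 zf25) (kf xf2 yf44 zf27) (kf xf2 yf32 zf0) (kf xf2 yf32 zf1) (kf xf5 yf3 zf12) (kf xf2 yf25 zf47) (kf xf4 yf31 zf38) (kf xf1 yf11 zf42) (kf xf2 yf39 zf23) (kf xf2 yf32 zf27) (kf xf5 yf3 zf23) (kf xf2 yf32 zf29) (kf xf2 yf32 zf30) (kf xf5 yf3 zf35) (kf xf2 yf32 zf25) (kf xf2 yf32 zf24) (kf xf1 yf11 zf46) (kf xf2 yf32 zf18) (kf xf2 yf32 zf19) (kf xf5 yf3 zf50) (kf xf2 yf32 zf21) (kf xf2 yf32 zf22) (kf xf5 yf3 zf59) (kf xf2 yf32 zf33)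 (kf xf2 yf32 zf32) (kf xf1 yf11 zf49) (kf xf2 yf32 zf38) (kf xf2 yf32 zf39) (kf xf5 yf4 zf11) (kf xf2 yf32 zf35) (kf xf2 yf32 zf36) (kf xf5 yf4 zf20) (kf xf5 yf4 zf27) (kf xf5 yf4 zf22) (kf xf5 yf4 zf21) (kf xf2 yf34 zf10) (kf xf1 yf11 zf52) (kf xf2 yf32 zf47) (kf xf2 yf32 zf46) (kf xf5 yf4 zf43) (kf xf2 yf32 zf49) (kf xf2 yf32 zf50) (kf xf2 yf33 zf9) (kf xf2 yf33 zf11) (kf xf2 yf33 zf12) (kf xf2 yf33 zf13) (kf xf5 yf5 zf3) (kf xf2 yf33 zf16) (kf xf1 yf58 zf2) (kf xf2 yf33 zf17) (kf xf2 yf33 zf19) (kf xf2 yf33 zf20) (kf xf2 yf33 zf21) (kf xf2 yf33 zf22) (kf xf2 yf33 zf24) (kf xf2 yf33 zf25) (kf xf2 yf33 zf26) (kf xf5 yf5 zf29) (kf xf2 yf32 zf57)) (@D3.rec (fun _ => Pt) (kf xf2 yf28 zf50) (kf xf5 yf5 zf36) (kf xf2 yf32 zf55) (kf xf2 yf28 zf49) (kf xf2 yf33 zf29) (kf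 xf5 yf5 zf45) (kf xf2 yf32 zf61) (kf xf2 yf32 zf60) (kf xf1 yf12 zf3) (kf xf2 yf30 zf54) (kf xf2 yf33 zf1) (kf xf2 yf30 zf55) (kf xf2 yf30 zf43) (kf xf2 yf28 zf2) (kf xf2 yf33 zf2) (kf xf2 yf30 zf44) (kf xf2 yf33 zf35) (kf xf2 yf17 zf46) (kf xf2 yf33 zf36) (kf xf5 yf6 zf2) (kf xf2 yf32 zf51) (kf xf2 yf32 zf52) (kf xf2 yf32 zf53) (kf xf5 yf6 zf15) (kf xf2 yf38 zf7) (kf xf2 yf32 zf58) (kf xf5 yf6 zf21) (kf xf2 yf11 zf55) (kf xf4 yf29 zf23) (kf xf1 yf12 zf14) (kf xf2 yf40 zf54) (kf xf2 yf33 zf4) (kf xf2 yf33 zf5) (kf xf2 yf33 zf6) (kf xf2 yf33 zf7) (kf xf5 yf6 zf38) (kf xf2 yf30 zf49) (kf xf2 yf30 zf51) (kf xf2 yf33 zf43) (kf xf2 yf33 zf44) (kf xf4 yf23 zf7) (kf xf2 yf33 zf47) (kf xf4 yf32 zf7) (kf xf2 yf30 zf12) (kf xf2 yf30 zf15) (kf xf5 yf6 zf56) (kf xf1 yf23 zf30)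 (kf xf1 yf23 zf44) (kf xf2 yf33 zf39) (kf xf2 yf30 zf36) (kf xf5 yf7 zf1) (kf xf2 yf30 zf37) (kf xf2 yf33 zf60) (kf xf3 yf10 zf26) (kf xf2 yf30 zf9) (kf xf2 yf30 zf11) (kf xf5 yf7 zf11) (kf xf2 yf33 zf52) (kf xf2 yf33 zf53) (kf xf2 yf33 zf54) (kf xf2 yf33 zf55) (kf xf2 yf34 zf2)) (@D3.rec (fun _ => Pt) (kf xf5 yf7 zf29) (kf xf2 yf34 zf3) (kf xf1 yf12 zf34) (kf xf5 yf7 zf35) (kf xf5 yf7 zf39) (kf xf5 yf7 zf42) (kf xf4 yf32 zf1) (kf xf1 yf12 zf33) (kf xf4 yf58 zf24) (kf xf2 yf53 zf45) (kf xf5 yf7 zf30) (kf xf4 yf7 zf21) (kf xf2 yf50 zf4) (kf xf5 yf7 zf49) (kf xf5 yf8 zf1) (kf xf5 yf8 zf4) (kf xf1 yf12 zf36) (kf xf2 yf34 zf8) (kf xf5 yf8 zf10) (kf xf2 yf34 zf6) (kf xf5 yf8 zf16) (kf xf2 yf32 zf44) (kf xf3 yf15 zf47) (kf xf2 yf34 zf13) (kf xf2 yf34 zf12) (kf xf1 yf12 zf41)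 (kf xf5 yf8 zf25) (kf xf2 yf58 zf59) (kf xf2 yf45 zf37) (kf xf4 yf1 zf40) (kf xf2 yf28 zf44) (kf xf4 yf1 zf43) (kf xf5 yf8 zf42) (kf xf4 yf1 zf39) (kf xf4 yf4 zf31) (kf xf4 yf1 zf41) (kf xf5 yf8 zf54) (kf xf4 yf4 zf32) (kf xf4 yf1 zf49) (kf xf4 yf1 zf50) (kf xf5 yf9 zf1) (kf xf4 yf1 zf46) (kf xf4 yf1 zf47) (kf xf5 yf9 zf8) (kf xf4 yf1 zf53) (kf xf4 yf1 zf52) (kf xf5 yf9 zf19) (kf xf4 yf2 zf23) (kf xf1 yf12 zf56) (kf xf2 yf28 zf39) (kf xf1 yf55 zf47) (kf xf1 yf55 zf48) (kf xf2 yf28 zf58) (kf xf1 yf15 zf44) (kf xf2 yf28 zf60) (kf xf2 yf28 zf61) (kf xf2 yf29 zf0) (kf xf5 yf9 zf45) (kf xf2 yf28 zf18) (kf xf2 yf28 zf47) (kf xf5 yf9 zf52) (kf xf2 yf28 zf45)) (@D3.rec (fun _ => Pt) (kf xf2 yf29 zf5) (kf xf2 yf29 zf6) (kf xf5 yf9 zf60) (kf xf2 yf28 zf55) (kf xf2 yf28 zf54)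 (kf xf1 yf13 zf3) (kf xf2 yf28 zf40) (kf xf2 yf28 zf41) (kf xf2 yf28 zf42) (kf xf5 yf10 zf14) (kf xf4 yf6 zf23) (kf xf2 yf28 zf51) (kf xf2 yf28 zf52) (kf xf5 yf10 zf22) (kf xf2 yf28 zf48) (kf xf2 yf45 zf48) (kf xf1 yf13 zf7) (kf xf2 yf58 zf53) (kf xf2 yf29 zf20) (kf xf2 yf29 zf21) (kf xf5 yf10 zf36) (kf xf2 yf29 zf23) (kf xf2 yf29 zf24) (kf xf5 yf10 zf46) (kf xf2 yf29 zf18) (kf xf2 yf29 zf17) (kf xf1 yf13 zf11) (kf xf2 yf29 zf12) (kf xf5 yf10 zf58) (kf xf2 yf29 zf14) (kf xf2 yf29 zf15) (kf xf5 yf11 zf5) (kf xf2 yf29 zf27) (kf xf2 yf29 zf26) (kf xf1 yf13 zf14) (kf xf2 yf29 zf32) (kf xf2 yf29 zf33) (kf xf5 yf11 zf18) (kf xf2 yf29 zf29) (kf xf2 yf29 zf30) (kf xf5 yf11 zf27) (kf xf5 yf11 zf34) (kf xf5 yf11 zf29) (kf xf5 yf11 zf28) (kf xf2 yf31 zf21) (kf xf1 yf13 zf17) (kf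 xf2 yf29 zf41) (kf xf2 yf29 zf40) (kf xf5 yf11 zf51) (kf xf2 yf29 zf43) (kf xf2 yf29 zf44) (kf xf2 yf30 zf20) (kf xf2 yf30 zf21) (kf xf2 yf30 zf22) (kf xf5 yf12 zf8) (kf xf2 yf30 zf2) (kf xf5 yf12 zf13) (kf xf2 yf29 zf61) (kf xf2 yf30 zf25) (kf xf5 yf12 zf21) (kf xf2 yf30 zf7) (kf xf2 yf30 zf6)) (@D3.rec (fun _ => Pt) (kf xf1 yf13 zf25) (kf xf2 yf30 zf10) (kf xf2 yf30 zf14) (kf xf2 yf16 zf54) (kf xf2 yf30 zf31) (kf xf2 yf30 zf32) (kf xf2 yf30 zf33) (kf xf2 yf30 zf34) (kf xf5 yf12 zf33) (kf xf2 yf29 zf45) (kf xf4 yf21 zf8) (kf xf2 yf29 zf46) (kf xf2 yf29 zf47) (kf xf2 yf29 zf48) (kf xf5 yf12 zf50) (kf xf4 yf1 zf59) (kf xf2 yf29 zf50) (kf xf2 yf29 zf52) (kf xf2 yf10 zf42) (kf xf2 yf29 zf53) (kf xf2 yf29 zf54) (kf xf2 yf29 zf55) (kf xf2 yf29 zf56) (kf xf2 yf33 zf45) (kf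 xf2 yf29 zf57) (kf xf2 yf29 zf58) (kf xf2 yf29 zf59) (kf xf5 yf13 zf14) (kf xf2 yf37 zf22) (kf xf2 yf30 zf4) (kf xf5 yf13 zf21) (kf xf1 yf17 zf43) (kf xf2 yf41 zf38) (kf xf1 yf13 zf42) (kf xf2 yf39 zf22) (kf xf2 yf30 zf16) (kf xf2 yf30 zf18) (kf xf5 yf13 zf32) (kf xf2 yf33 zf50) (kf xf2 yf30 zf48) (kf xf2 yf46 zf41) (kf xf5 yf13 zf36) (kf xf1 yf55 zf41) (kf xf2 yf30 zf38) (kf xf2 yf30 zf39) (kf xf2 yf33 zf23) (kf xf2 yf15 zf49) (kf xf2 yf30 zf41) (kf xf2 yf14 zf57) (kf xf5 yf13 zf51) (kf xf2 yf33 zf38) (kf xf1 yf56 zf25) (kf xf2 yf30 zf57) (kf xf2 yf30 zf58) (kf xf2 yf30 zf59) (kf xf2 yf30 zf60) (kf xf2 yf46 zf40) (kf xf5 yf14 zf9) (kf xf2 yf27 zf0) (kf xf2 yf27 zf13) (kf xf2 yf30 zf52) (kf xf2 yf59 zf43)) (@D3.rec (fun _ => Pt) (kf xf5 yf14 zf21) (kf xf2 yf45 zf19)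 (kf xf2 yf30 zf61) (kf xf2 yf31 zf1) (kf xf2 yf59 zf32) (kf xf5 yf14 zf30) (kf xf2 yf31 zf19) (kf xf5 yf14 zf36) (kf xf2 yf31 zf17) (kf xf5 yf14 zf42) (kf xf2 yf29 zf38) (kf xf5 yf14 zf47) (kf xf2 yf31 zf24) (kf xf2 yf31 zf23) (kf xf1 yf14 zf4) (kf xf5 yf14 zf51) (kf xf2 yf40 zf4) (kf xf2 yf40 zf5) (kf xf4 yf3 zf35) (kf xf4 yf29 zf1) (kf xf4 yf29 zf2) (kf xf1 yf14 zf20) (kf xf1 yf14 zf21) (kf xf1 yf14 zf17) (kf xf1 yf14 zf24) (kf xf5 yf15 zf9) (kf xf1 yf14 zf13) (kf xf2 yf28 zf23) (kf xf4 yf9 zf16) (kf xf2 yf4 zf8) (kf xf4 yf5 zf14) (kf xf4 yf9 zf24) (kf xf5 yf5 zf37) (kf xf5 yf15 zf2) (kf xf5 yf15 zf29) (kf xf4 yf27 zf7) (kf xf2 yf40 zf26) (kf xf2 yf0 zf30) (kf xf5 yf15 zf0) (kf xf2 yf40 zf27) (kf xf5 yf15 zf1) (kf xf5 yf15 zf42) (kf xf2 yf40 zf28) (kf xf2 yf36 zf31)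 (kf xf4 yf8 zf51) (kf xf5 yf15 zf51) (kf xf4 yf27 zf9) (kf xf5 yf15 zf4) (kf xf5 yf15 zf59) (kf xf5 yf15 zf6) (kf xf5 yf8 zf56) (kf xf5 yf16 zf8) (kf xf5 yf16 zf13) (kf xf1 yf14 zf25) (kf xf2 yf35 zf49) (kf xf2 yf35 zf55) (kf xf5 yf16 zf22) (kf xf2 yf35 zf53) (kf xf2 yf35 zf52) (kf xf1 yf14 zf28) (kf xf2 yf35 zf50) (kf xf5 yf16 zf31)) (@D3.rec (fun _ => Pt) (kf xf2 yf35 zf58) (kf xf2 yf35 zf57) (kf xf1 yf14 zf30) (kf xf5 yf16 zf40) (kf xf5 yf16 zf35) (kf xf5 yf16 zf34) (kf xf4 yf35 zf46) (kf xf1 yf14 zf31) (kf xf4 yf43 zf57) (kf xf2 yf36 zf4) (kf xf2 yf36 zf5) (kf xf2 yf37 zf38) (kf xf2 yf40 zf55) (kf xf5 yf17 zf0) (kf xf1 yf14 zf37) (kf xf1 yf14 zf51) (kf xf1 yf14 zf48) (kf xf1 yf14 zf54) (kf xf5 yf17 zf9) (kf xf1 yf14 zf40) (kf xf4 yf12 zf55) (kf xf2 yf41 zf2) (kf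 xf4 yf6 zf26) (kf xf2 yf41 zf7) (kf xf2 yf23 zf2) (kf xf5 yf0 zf57) (kf xf4 yf22 zf20) (kf xf4 yf6 zf35) (kf xf5 yf16 zf60) (kf xf5 yf17 zf27) (kf xf1 yf14 zf46) (kf xf5 yf12 zf14) (kf xf5 yf17 zf2) (kf xf5 yf17 zf37) (kf xf2 yf36 zf6) (kf xf2 yf37 zf53) (kf xf5 yf17 zf1) (kf xf5 yf17 zf47) (kf xf2 yf39 zf19) (kf xf4 yf15 zf50) (kf xf5 yf17 zf55) (kf xf2 yf36 zf10) (kf xf5 yf17 zf4) (kf xf5 yf18 zf0) (kf xf5 yf17 zf6) (kf xf5 yf1 zf31) (kf xf5 yf18 zf11) (kf xf5 yf18 zf16) (kf xf1 yf14 zf55) (kf xf2 yf34 zf54) (kf xf2 yf34 zf60) (kf xf5 yf18 zf25) (kf xf2 yf34 zf58) (kf xf2 yf34 zf57) (kf xf1 yf14 zf58) (kf xf2 yf34 zf55) (kf xf5 yf18 zf35) (kf xf2 yf35 zf1) (kf xf2 yf35 zf0) (kf xf1 yf14 zf60) (kf xf5 yf18 zf44) (kf xf5 yf18 zf39)) (@D3.rec (fun _ => Pt) (kf xf5 yf18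 zf38) (kf xf2 yf54 zf3) (kf xf1 yf14 zf61) (kf xf5 yf18 zf57) (kf xf2 yf35 zf9) (kf xf2 yf35 zf10) (kf xf2 yf35 zf34) (kf xf2 yf38 zf21) (kf xf2 yf36 zf14) (kf xf2 yf37 zf43) (kf xf2 yf35 zf41) (kf xf2 yf36 zf16) (kf xf5 yf10 zf52) (kf xf1 yf15 zf5) (kf xf2 yf36 zf8) (kf xf4 yf19 zf17) (kf xf2 yf36 zf11) (kf xf5 yf3 zf17) (kf xf1 yf15 zf8) (kf xf2 yf36 zf34) (kf xf5 yf19 zf20) (kf xf2 yf36 zf39) (kf xf2 yf5 zf40) (kf xf5 yf19 zf27) (kf xf2 yf36 zf42) (kf xf2 yf36 zf41) (kf xf2 yf36 zf27) (kf xf2 yf36 zf26) (kf xf1 yf15 zf13) (kf xf4 yf27 zf21) (kf xf4 yf2 zf34) (kf xf2 yf34 zf43) (kf xf5 yf1 zf33) (kf xf1 yf15 zf15) (kf xf2 yf36 zf19) (kf xf5 yf19 zf53) (kf xf1 yf15 zf27) (kf xf5 yf19 zf55) (kf xf1 yf15 zf18) (kf xf2 yf36 zf21) (kf xf5 yf19 zf61) (kf xf2 yf36 zf25)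 (kf xf2 yf36 zf24) (kf xf5 yf20 zf10) (kf xf5 yf19 zf36) (kf xf1 yf15 zf20) (kf xf4 yf27 zf31) (kf xf1 yf15 zf42) (kf xf1 yf15 zf47) (kf xf5 yf20 zf23) (kf xf1 yf15 zf23) (kf xf1 yf16 zf4) (kf xf4 yf3 zf9) (kf xf1 yf15 zf57) (kf xf1 yf16 zf8) (kf xf5 yf20 zf34) (kf xf1 yf15 zf55) (kf xf4 yf53 zf47) (kf xf1 yf15 zf59) (kf xf5 yf20 zf41) (kf xf1 yf16 zf16) (kf xf1 yf16 zf17)) (@D3.rec (fun _ => Pt) (kf xf1 yf16 zf18) (kf xf5 yf20 zf48) (kf xf1 yf16 zf12) (kf xf1 yf16 zf13) (kf xf5 yf20 zf54) (kf xf1 yf16 zf21) (kf xf1 yf16 zf20) (kf xf5 yf21 zf4) (kf xf4 yf55 zf47) (kf xf1 yf15 zf33) (kf xf5 yf20 zf24) (kf xf4 yf9 zf60) (kf xf4 yf17 zf12) (kf xf4 yf10 zf4) (kf xf4 yf27 zf8) (kf xf4 yf3 zf42) (kf xf4 yf21 zf9) (kf xf5 yf10 zf30) (kf xf1 yf15 zf39) (kf xf4 yf7 zf47) (kf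 xf4 yf17 zf29) (kf xf5 yf9 zf31) (kf xf2 yf33 zf28) (kf xf5 yf20 zf15) (kf xf5 yf21 zf38) (kf xf5 yf9 zf32) (kf xf5 yf21 zf43) (kf xf4 yf7 zf50) (kf xf4 yf27 zf59) (kf xf5 yf21 zf53) (kf xf5 yf20 zf17) (kf xf5 yf21 zf59) (kf xf5 yf20 zf20) (kf xf5 yf20 zf19) (kf xf5 yf22 zf8) (kf xf5 yf22 zf13) (kf xf1 yf15 zf48) (kf xf1 yf16 zf25) (kf xf2 yf35 zf11) (kf xf2 yf37 zf50) (kf xf2 yf37 zf49) (kf xf2 yf38 zf19) (kf xf5 yf22 zf25) (kf xf2 yf36 zf9) (kf xf2 yf58 zf39) (kf xf1 yf15 zf52) (kf xf1 yf57 zf17) (kf xf2 yf38 zf10) (kf xf5 yf22 zf31) (kf xf2 yf37 zf40) (kf xf2 yf37 zf39) (kf xf5 yf20 zf35) (kf xf5 yf22 zf41) (kf xf2 yf35 zf35) (kf xf4 yf15 zf4) (kf xf1 yf15 zf56) (kf xf5 yf20 zf27) (kf xf5 yf22 zf50) (kf xf4 yf10 zf52) (kf xf5 yf21 zf42) (kf xf5 yf20 zf29) (kf xf5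 yf20 zf28)) (@D3.rec (fun _ => Pt) (kf xf5 yf20 zf37) (kf xf5 yf20 zf38) (kf xf5 yf23 zf10) (kf xf5 yf20 zf33) (kf xf4 yf28 zf61) (kf xf5 yf23 zf18) (kf xf1 yf15 zf60) (kf xf2 yf30 zf24) (kf xf2 yf58 zf40) (kf xf2 yf7 zf51) (kf xf2 yf37 zf47) (kf xf5 yf15 zf14) (kf xf4 yf21 zf21) (kf xf4 yf29 zf4) (kf xf5 yf20 zf25) (kf xf5 yf23 zf32) (kf xf2 yf28 zf16) (kf xf4 yf16 zf48) (kf xf1 yf16 zf5) (kf xf2 yf37 zf41) (kf xf5 yf23 zf38) (kf xf2 yf36 zf7) (kf xf4 yf10 zf41) (kf xf1 yf16 zf7) (kf xf5 yf20 zf30) (kf xf5 yf20 zf31) (kf xf5 yf23 zf49) (kf xf4 yf11 zf10) (kf xf5 yf20 zf40) (kf xf5 yf23 zf56) (kf xf1 yf16 zf9) (kf xf4 yf16 zf49) (kf xf4 yf0 zf59) (kf xf2 yf25 zf39) (kf xf2 yf38 zf54) (kf xf5 yf24 zf6) (kf xf4 yf13 zf25) (kf xf5 yf20 zf43) (kf xf5 yf20 zf50) (kf xf5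 yf20 zf51) (kf xf5 yf24 zf21) (kf xf2 yf2 zf36) (kf xf2 yf58 zf30) (kf xf2 yf5 zf45) (kf xf5 yf20 zf47) (kf xf4 yf29 zf43) (kf xf5 yf13 zf12) (kf xf1 yf16 zf15) (kf xf4 yf20 zf55) (kf xf5 yf0 zf37) (kf xf5 yf24 zf35) (kf xf5 yf20 zf44) (kf xf5 yf20 zf45) (kf xf5 yf24 zf43) (kf xf2 yf38 zf34) (kf xf4 yf30 zf2) (kf xf5 yf20 zf53) (kf xf5 yf24 zf50) (kf xf1 yf16 zf19) (kf xf5 yf20 zf58) (kf xf5 yf20 zf59) (kf xf5 yf20 zf60)) (@D3.rec (fun _ => Pt) (kf xf5 yf25 zf0) (kf xf5 yf20 zf55) (kf xf3 yf58 zf24) (kf xf5 yf20 zf56) (kf xf5 yf25 zf10) (kf xf5 yf25 zf17) (kf xf5 yf25 zf12) (kf xf5 yf25 zf11) (kf xf5 yf25 zf27) (kf xf1 yf16 zf22) (kf xf5 yf21 zf6) (kf xf5 yf21 zf5) (kf xf4 yf54 zf40) (kf xf5 yf25 zf37) (kf xf1 yf16 zf23) (kf xf5 yf22 zf14) (kf xf5 yf21 zf10) (kf xf5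 yf21 zf9) (kf xf2 yf58 zf61) (kf xf2 yf35 zf38) (kf xf2 yf59 zf0) (kf xf5 yf25 zf60) (kf xf2 yf33 zf34) (kf xf2 yf29 zf11) (kf xf2 yf59 zf2) (kf xf2 yf59 zf3) (kf xf2 yf52 zf41) (kf xf2 yf58 zf57) (kf xf2 yf58 zf56) (kf xf1 yf16 zf30) (kf xf2 yf40 zf25) (kf xf2 yf58 zf51) (kf xf5 yf26 zf13) (kf xf2 yf58 zf54) (kf xf2 yf58 zf55) (kf xf5 yf26 zf21) (kf xf1 yf17 zf0) (kf xf1 yf16 zf34) (kf xf2 yf59 zf15) (kf xf5 yf26 zf29) (kf xf2 yf59 zf17) (kf xf2 yf59 zf18) (kf xf4 yf35 zf8) (kf xf2 yf59 zf13) (kf xf2 yf59 zf12) (kf xf1 yf16 zf37) (kf xf2 yf59 zf7) (kf xf5 yf26 zf48) (kf xf2 yf59 zf9) (kf xf2 yf59 zf10) (kf xf2 yf59 zf20) (kf xf2 yf59 zf19) (kf xf1 yf16 zf40) (kf xf2 yf59 zf25) (kf xf2 yf59 zf26) (kf xf2 yf53 zf1) (kf xf2 yf59 zf22) (kf xf2 yf59 zf23) (kf xf5 yf27 zf9)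 (kf xf5 yf27 zf4) (kf xf5 yf27 zf3) (kf xf3 yf0 zf23)) (@D3.rec (fun _ => Pt) (kf xf1 yf16 zf43) (kf xf2 yf59 zf33) (kf xf5 yf27 zf23) (kf xf1 yf18 zf6) (kf xf2 yf34 zf16) (kf xf2 yf34 zf17) (kf xf4 yf15 zf2) (kf xf4 yf15 zf57) (kf xf5 yf27 zf35) (kf xf1 yf16 zf55) (kf xf1 yf16 zf50) (kf xf4 yf29 zf5) (kf xf5 yf27 zf42) (kf xf4 yf3 zf39) (kf xf4 yf9 zf14) (kf xf5 yf27 zf49) (kf xf4 yf29 zf7) (kf xf4 yf29 zf8) (kf xf4 yf29 zf9) (kf xf4 yf29 zf10) (kf xf5 yf28 zf3) (kf xf5 yf27 zf34) (kf xf5 yf27 zf33) (kf xf1 yf16 zf54) (kf xf4 yf12 zf33) (kf xf2 yf39 zf30) (kf xf2 yf34 zf36) (kf xf2 yf34 zf39) (kf xf2 yf34 zf42) (kf xf2 yf2 zf4) (kf xf4 yf27 zf48) (kf xf5 yf28 zf25) (kf xf4 yf28 zf55) (kf xf2 yf42 zf46) (kf xf5 yf28 zf35) (kf xf4 yf10 zf59) (kf xf4 yf10 zf58) (kf xf1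 yf16 zf60) (kf xf4 yf11 zf0) (kf xf2 yf42 zf47) (kf xf5 yf26 zf22) (kf xf2 yf44 zf10) (kf xf2 yf42 zf3) (kf xf5 yf28 zf55) (kf xf2 yf44 zf2) (kf xf2 yf42 zf4) (kf xf5 yf26 zf19) (kf xf4 yf29 zf15) (kf xf4 yf29 zf16) (kf xf4 yf29 zf17) (kf xf4 yf29 zf18) (kf xf2 yf52 zf50) (kf xf4 yf27 zf56) (kf xf5 yf26 zf5) (kf xf2 yf30 zf30) (kf xf2 yf35 zf12) (kf xf4 yf8 zf7) (kf xf4 yf2 zf43) (kf xf5 yf29 zf24) (kf xf4 yf2 zf45) (kf xf5 yf29 zf29) (kf xf1 yf17 zf22)) (@D3.rec (fun _ => Pt) (kf xf1 yf17 zf13) (kf xf2 yf23 zf1) (kf xf2 yf35 zf21) (kf xf4 yf13 zf3) (kf xf4 yf22 zf17) (kf xf4 yf22 zf18) (kf xf5 yf29 zf43) (kf xf2 yf35 zf23) (kf xf5 yf29 zf23) (kf xf2 yf45 zf23) (kf xf1 yf17 zf16) (kf xf4 yf28 zf43) (kf xf2 yf5 zf5) (kf xf5 yf26 zf12) (kf xf4 yf28 zf45) (kf xf5 yf29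 zf52) (kf xf4 yf28 zf47) (kf xf4 yf28 zf48) (kf xf4 yf28 zf49) (kf xf4 yf28 zf50) (kf xf5 yf30 zf9) (kf xf4 yf9 zf27) (kf xf5 yf29 zf28) (kf xf5 yf30 zf17) (kf xf1 yf17 zf20) (kf xf2 yf11 zf28) (kf xf4 yf15 zf39) (kf xf4 yf28 zf57) (kf xf4 yf28 zf58) (kf xf4 yf28 zf59) (kf xf4 yf28 zf60) (kf xf5 yf30 zf38) (kf xf3 yf5 zf47) (kf xf2 yf45 zf50) (kf xf2 yf45 zf47) (kf xf5 yf30 zf46) (kf xf1 yf17 zf27) (kf xf4 yf11 zf23) (kf xf2 yf33 zf32) (kf xf4 yf28 zf1) (kf xf4 yf29 zf22) (kf xf4 yf17 zf3) (kf xf4 yf17 zf2) (kf xf3 yf7 zf54) (kf xf1 yf17 zf30) (kf xf4 yf17 zf5) (kf xf4 yf14 zf14) (kf xf2 yf1 zf11) (kf xf5 yf31 zf3) (kf xf4 yf13 zf52) (kf xf4 yf29 zf50) (kf xf4 yf29 zf51) (kf xf5 yf31 zf17) (kf xf2 yf1 zf31) (kf xf5 yf31 zf2) (kf xf5 yf31 zf1) (kf xf5 yf13 zf22) (kf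 xf1 yf17 zf36) (kf xf1 yf56 zf6) (kf xf4 yf7 zf3) (kf xf4 yf29 zf56) (kf xf4 yf29 zf57)) (@D3.rec (fun _ => Pt) (kf xf4 yf29 zf58) (kf xf4 yf29 zf59) (kf xf5 yf31 zf47) (kf xf2 yf40 zf42) (kf xf2 yf40 zf45) (kf xf5 yf31 zf54) (kf xf4 yf29 zf40) (kf xf4 yf29 zf39) (kf xf5 yf31 zf60) (kf xf1 yf17 zf40) (kf xf4 yf28 zf12) (kf xf4 yf29 zf45) (kf xf4 yf29 zf46) (kf xf2 yf48 zf26) (kf xf4 yf29 zf44) (kf xf5 yf26 zf53) (kf xf5 yf3 zf10) (kf xf4 yf2 zf48) (kf xf5 yf32 zf13) (kf xf4 yf29 zf24) (kf xf4 yf29 zf25) (kf xf4 yf29 zf26) (kf xf4 yf29 zf27) (kf xf5 yf32 zf28) (kf xf5 yf32 zf12) (kf xf5 yf32 zf11) (kf xf1 yf17 zf47) (kf xf4 yf29 zf33) (kf xf4 yf29 zf34) (kf xf4 yf29 zf35) (kf xf4 yf29 zf36) (kf xf5 yf32 zf47) (kf xf2 yf50 zf32) (kf xf4 yf29 zf61) (kf xf3 yf21 zf54) (kf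 xf1 yf17 zf50) (kf xf4 yf30 zf3) (kf xf5 yf26 zf42) (kf xf4 yf28 zf18) (kf xf4 yf30 zf0) (kf xf4 yf30 zf12) (kf xf4 yf30 zf13) (kf xf4 yf30 zf14) (kf xf4 yf30 zf15) (kf xf4 yf30 zf16) (kf xf5 yf33 zf13) (kf xf2 yf40 zf33) (kf xf2 yf40 zf39) (kf xf5 yf33 zf20) (kf xf5 yf33 zf24) (kf xf1 yf17 zf56) (kf xf4 yf30 zf4) (kf xf4 yf30 zf5) (kf xf4 yf30 zf6) (kf xf4 yf4 zf7) (kf xf4 yf30 zf7) (kf xf5 yf33 zf44) (kf xf4 yf38 zf41) (kf xf1 yf17 zf59) (kf xf1 yf18 zf0) (kf xf1 yf17 zf61) (kf xf5 yf33 zf55)) (@D3.rec (fun _ => Pt) (kf xf5 yf33 zf61) (kf xf5 yf34 zf3) (kf xf5 yf34 zf6) (kf xf1 yf17 zf60) (kf xf5 yf33 zf46) (kf xf5 yf33 zf47) (kf xf5 yf33 zf48) (kf xf5 yf34 zf20) (kf xf4 yf33 zf38) (kf xf4 yf33 zf36) (kf xf4 yf33 zf37) (kf xf4 yf33 zf17) (kf xf5 yf34 zf33) (kf xf5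 yf27 zf19) (kf xf4 yf30 zf37) (kf xf4 yf30 zf36) (kf xf2 yf51 zf4) (kf xf4 yf30 zf40) (kf xf4 yf30 zf39) (kf xf1 yf18 zf5) (kf xf4 yf30 zf43) (kf xf4 yf30 zf42) (kf xf5 yf27 zf24) (kf xf4 yf30 zf49) (kf xf4 yf30 zf50) (kf xf4 yf30 zf51) (kf xf5 yf18 zf27) (kf xf4 yf30 zf45) (kf xf4 yf30 zf46) (kf xf4 yf30 zf47) (kf xf4 yf17 zf56) (kf xf2 yf28 zf3) (kf xf2 yf7 zf58) (kf xf2 yf28 zf4) (kf xf4 yf20 zf1) (kf xf4 yf4 zf36) (kf xf5 yf35 zf23) (kf xf1 yf18 zf18) (kf xf1 yf18 zf13) (kf xf4 yf8 zf33) (kf xf4 yf31 zf18) (kf xf5 yf35 zf30) (kf xf4 yf31 zf20) (kf xf4 yf31 zf21) (kf xf5 yf35 zf37) (kf xf4 yf31 zf23) (kf xf4 yf31 zf24) (kf xf4 yf31 zf25) (kf xf4 yf31 zf26) (kf xf5 yf35 zf56) (kf xf5 yf35 zf22) (kf xf5 yf35 zf21) (kf xf5 yf36 zf4) (kf xf1 yf18 zf17) (kf xf4 yf8 zf36)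 (kf xf5 yf22 zf30) (kf xf4 yf6 zf49) (kf xf2 yf28 zf22) (kf xf2 yf28 zf24) (kf xf2 yf28 zf27) (kf xf2 yf12 zf43) (kf xf4 yf3 zf13)) (@D3.rec (fun _ => Pt) (kf xf4 yf30 zf53) (kf xf5 yf36 zf17) (kf xf2 yf40 zf44) (kf xf5 yf36 zf25) (kf xf4 yf19 zf47) (kf xf4 yf19 zf46) (kf xf1 yf18 zf24) (kf xf3 yf58 zf16) (kf xf4 yf19 zf44) (kf xf5 yf36 zf36) (kf xf2 yf40 zf41) (kf xf5 yf36 zf43) (kf xf2 yf0 zf48) (kf xf1 yf18 zf27) (kf xf4 yf31 zf31) (kf xf4 yf31 zf32) (kf xf4 yf31 zf33) (kf xf4 yf36 zf35) (kf xf4 yf30 zf60) (kf xf2 yf59 zf41) (kf xf4 yf30 zf59) (kf xf5 yf36 zf60) (kf xf2 yf45 zf12) (kf xf4 yf5 zf32) (kf xf1 yf18 zf32) (kf xf2 yf29 zf3) (kf xf2 yf28 zf59) (kf xf2 yf29 zf4) (kf xf4 yf22 zf26) (kf xf4 yf22 zf27) (kf xf4 yf31 zf2) (kf xf3 yf0 zf55) (kf xf1 yf31 zf20)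 (kf xf2 yf47 zf0) (kf xf5 yf37 zf17) (kf xf3 yf0 zf8) (kf xf4 yf31 zf0) (kf xf4 yf31 zf1) (kf xf2 yf47 zf2) (kf xf5 yf37 zf25) (kf xf4 yf31 zf3) (kf xf4 yf31 zf4) (kf xf4 yf31 zf5) (kf xf2 yf46 zf14) (kf xf5 yf37 zf35) (kf xf4 yf5 zf52) (kf xf4 yf19 zf52) (kf xf4 yf19 zf53) (kf xf4 yf19 zf19) (kf xf2 yf46 zf16) (kf xf5 yf37 zf49) (kf xf4 yf31 zf40) (kf xf3 yf4 zf53) (kf xf2 yf46 zf10) (kf xf1 yf21 zf5) (kf xf4 yf31 zf41) (kf xf4 yf31 zf42) (kf xf2 yf46 zf11) (kf xf4 yf31 zf43) (kf xf2 yf58 zf12) (kf xf4 yf31 zf44) (kf xf4 yf31 zf45)) (@D3.rec (fun _ => Pt) (kf xf4 yf25 zf53) (kf xf5 yf38 zf20) (kf xf5 yf38 zf7) (kf xf5 yf38 zf6) (kf xf5 yf38 zf28) (kf xf1 yf18 zf49) (kf xf4 yf31 zf11) (kf xf4 yf31 zf10) (kf xf1 yf18 zf50) (kf xf4 yf31 zf13) (kf xf3 yf5 zf41) (kf xf1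 yf21 zf22) (kf xf2 yf44 zf22) (kf xf1 yf18 zf53) (kf xf4 yf22 zf38) (kf xf4 yf31 zf15) (kf xf4 yf31 zf14) (kf xf1 yf21 zf34) (kf xf2 yf59 zf54) (kf xf2 yf34 zf1) (kf xf5 yf38 zf50) (kf xf2 yf4 zf1) (kf xf4 yf50 zf46) (kf xf2 yf41 zf9) (kf xf4 yf4 zf20) (kf xf5 yf38 zf56) (kf xf4 yf4 zf22) (kf xf4 yf4 zf23) (kf xf5 yf38 zf61) (kf xf4 yf3 zf24) (kf xf4 yf3 zf26) (kf xf4 yf4 zf25) (kf xf5 yf39 zf11) (kf xf4 yf4 zf42) (kf xf4 yf4 zf41) (kf xf5 yf39 zf20) (kf xf1 yf19 zf8) (kf xf2 yf31 zf28) (kf xf4 yf4 zf45) (kf xf4 yf12 zf42) (kf xf4 yf30 zf55) (kf xf4 yf30 zf56) (kf xf4 yf30 zf57) (kf xf5 yf39 zf35) (kf xf5 yf39 zf38) (kf xf1 yf19 zf14) (kf xf4 yf31 zf39) (kf xf2 yf41 zf34) (kf xf2 yf32 zf15) (kf xf4 yf31 zf37) (kf xf2 yf41 zf33) (kf xf4 yf12 zf40) (kf xf4 yf12 zf39)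 (kf xf5 yf39 zf55) (kf xf1 yf19 zf17) (kf xf4 yf12 zf44) (kf xf1 yf20 zf52) (kf xf1 yf20 zf54) (kf xf3 yf0 zf58) (kf xf4 yf31 zf6) (kf xf4 yf31 zf7) (kf xf4 yf31 zf8)) (@D3.rec (fun _ => Pt) (kf xf5 yf40 zf13) (kf xf4 yf31 zf46) (kf xf2 yf52 zf28) (kf xf2 yf51 zf19) (kf xf1 yf19 zf23) (kf xf4 yf31 zf56) (kf xf2 yf47 zf50) (kf xf4 yf31 zf57) (kf xf2 yf46 zf42) (kf xf4 yf31 zf59) (kf xf2 yf44 zf53) (kf xf2 yf44 zf57) (kf xf4 yf31 zf61) (kf xf5 yf40 zf35) (kf xf2 yf44 zf43) (kf xf5 yf40 zf40) (kf xf2 yf44 zf49) (kf xf5 yf40 zf45) (kf xf4 yf31 zf52) (kf xf4 yf31 zf51) (kf xf5 yf40 zf53) (kf xf1 yf19 zf31) (kf xf4 yf31 zf48) (kf xf4 yf31 zf47) (kf xf1 yf28 zf28) (kf xf5 yf40 zf9) (kf xf1 yf19 zf34) (kf xf2 yf23 zf15) (kf xf1 yf59 zf25) (kf xf4 yf23 zf1) (kf xf4 yf31 zf55)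 (kf xf2 yf47 zf40) (kf xf4 yf31 zf54) (kf xf4 yf31 zf49) (kf xf5 yf41 zf6) (kf xf1 yf19 zf45) (kf xf4 yf32 zf4) (kf xf4 yf32 zf3) (kf xf5 yf41 zf14) (kf xf1 yf19 zf43) (kf xf2 yf33 zf56) (kf xf2 yf33 zf40) (kf xf2 yf46 zf8) (kf xf4 yf32 zf22) (kf xf4 yf32 zf23) (kf xf1 yf22 zf40) (kf xf4 yf32 zf24) (kf xf4 yf32 zf25) (kf xf4 yf32 zf26) (kf xf4 yf32 zf28) (kf xf4 yf32 zf29) (kf xf4 yf32 zf31) (kf xf4 yf32 zf32) (kf xf4 yf32 zf33) (kf xf5 yf41 zf46) (kf xf4 yf32 zf35) (kf xf4 yf32 zf36) (kf xf4 yf32 zf37) (kf xf5 yf41 zf59) (kf xf4 yf32 zf49) (kf xf5 yf42 zf1) (kf xf1 yf19 zf53)) (@D3.rec (fun _ => Pt) (kf xf2 yf44 zf33) (kf xf5 yf42 zf6) (kf xf2 yf44 zf38) (kf xf5 yf42 zf11) (kf xf4 yf32 zf18) (kf xf4 yf32 zf17) (kf xf5 yf42 zf20) (kf xf1 yf19 zf56) (kf xf1 yf26 zf16)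 (kf xf5 yf42 zf25) (kf xf1 yf19 zf57) (kf xf4 yf32 zf8) (kf xf4 yf32 zf9) (kf xf2 yf47 zf41) (kf xf4 yf32 zf10) (kf xf4 yf32 zf11) (kf xf4 yf22 zf53) (kf xf4 yf32 zf12) (kf xf4 yf32 zf61) (kf xf4 yf22 zf51) (kf xf4 yf22 zf52) (kf xf4 yf22 zf54) (kf xf4 yf33 zf1) (kf xf2 yf49 zf9) (kf xf4 yf32 zf13) (kf xf4 yf32 zf14) (kf xf5 yf42 zf60) (kf xf4 yf33 zf4) (kf xf4 yf33 zf5) (kf xf4 yf32 zf44) (kf xf4 yf32 zf43) (kf xf5 yf43 zf6) (kf xf1 yf20 zf3) (kf xf4 yf33 zf35) (kf xf1 yf20 zf4) (kf xf1 yf20 zf16) (kf xf1 yf23 zf27) (kf xf1 yf20 zf12) (kf xf1 yf20 zf14) (kf xf2 yf47 zf54) (kf xf2 yf46 zf31) (kf xf2 yf47 zf13) (kf xf2 yf47 zf51) (kf xf5 yf43 zf25) (kf xf1 yf20 zf9) (kf xf5 yf42 zf7) (kf xf5 yf43 zf33) (kf xf5 yf43 zf35) (kf xf1 yf20 zf10) (kf xf2 yf47 zf55) (kf xf2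 yf46 zf6) (kf xf2 yf47 zf42) (kf xf5 yf43 zf13) (kf xf5 yf43 zf40) (kf xf2 yf47 zf39) (kf xf2 yf47 zf49) (kf xf5 yf43 zf14) (kf xf5 yf43 zf53) (kf xf5 yf41 zf17) (kf xf5 yf43 zf57) (kf xf1 yf20 zf15) (kf xf1 yf20 zf18)) (@D3.rec (fun _ => Pt) (kf xf1 yf20 zf17) (kf xf5 yf43 zf10) (kf xf5 yf44 zf9) (kf xf5 yf43 zf61) (kf xf5 yf44 zf0) (kf xf5 yf44 zf21) (kf xf5 yf43 zf58) (kf xf5 yf43 zf59) (kf xf5 yf44 zf28) (kf xf5 yf44 zf3) (kf xf5 yf44 zf2) (kf xf4 yf30 zf33) (kf xf5 yf44 zf46) (kf xf5 yf44 zf50) (kf xf1 yf20 zf19) (kf xf5 yf44 zf8) (kf xf5 yf44 zf7) (kf xf1 yf20 zf20) (kf xf5 yf44 zf60) (kf xf1 yf24 zf13) (kf xf1 yf24 zf14) (kf xf4 yf33 zf32) (kf xf4 yf33 zf33) (kf xf5 yf45 zf16) (kf xf4 yf33 zf30) (kf xf4 yf33 zf29) (kf xf2 yf42 zf13) (kf xf1 yf20 zf24) (kf xf4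 yf33 zf26) (kf xf4 yf33 zf27) (kf xf5 yf45 zf31) (kf xf4 yf32 zf47) (kf xf3 yf10 zf21) (kf xf1 yf20 zf26) (kf xf4 yf30 zf31) (kf xf4 yf30 zf32) (kf xf4 yf30 zf30) (kf xf5 yf45 zf42) (kf xf4 yf33 zf41) (kf xf4 yf33 zf40) (kf xf5 yf6 zf55) (kf xf1 yf20 zf28) (kf xf4 yf33 zf48) (kf xf4 yf33 zf49) (kf xf4 yf33 zf50) (kf xf5 yf46 zf0) (kf xf4 yf33 zf44) (kf xf4 yf33 zf45) (kf xf4 yf33 zf46) (kf xf5 yf46 zf9) (kf xf1 yf20 zf32) (kf xf4 yf33 zf54) (kf xf4 yf33 zf53) (kf xf4 yf49 zf41) (kf xf1 yf24 zf42) (kf xf2 yf16 zf47) (kf xf2 yf16 zf48) (kf xf2 yf16 zf49) (kf xf2 yf16 zf50) (kf xf5 yf46 zf31) (kf xf5 yf46 zf35) (kf xf3 yf3 zf56)) (@D3.rec (fun _ => Pt) (kf xf3 yf3 zf53) (kf xf5 yf46 zf43) (kf xf1 yf20 zf36) (kf xf3 yf4 zf41) (kf xf3 yf4 zf39) (kf xf2 yf17 zf0) (kf xf1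 yf31 zf8) (kf xf2 yf26 zf19) (kf xf2 yf26 zf20) (kf xf2 yf47 zf23) (kf xf1 yf20 zf43) (kf xf3 yf0 zf56) (kf xf3 yf0 zf52) (kf xf3 yf0 zf53) (kf xf2 yf13 zf13) (kf xf5 yf46 zf59) (kf xf1 yf20 zf46) (kf xf2 yf58 zf15) (kf xf2 yf58 zf16) (kf xf2 yf58 zf18) (kf xf2 yf58 zf19) (kf xf3 yf5 zf42) (kf xf2 yf27 zf9) (kf xf5 yf39 zf57) (kf xf2 yf52 zf0) (kf xf5 yf47 zf8) (kf xf5 yf37 zf27) (kf xf5 yf37 zf28) (kf xf5 yf39 zf58) (kf xf5 yf47 zf13) (kf xf1 yf20 zf53) (kf xf5 yf39 zf59) (kf xf3 yf4 zf42) (kf xf3 yf5 zf38) (kf xf3 yf4 zf43) (kf xf3 yf4 zf44) (kf xf3 yf10 zf29) (kf xf3 yf4 zf1) (kf xf2 yf52 zf5) (kf xf2 yf18 zf47) (kf xf3 yf4 zf0) (kf xf3 yf4 zf2) (kf xf1 yf56 zf24) (kf xf1 yf56 zf28) (kf xf2 yf52 zf6) (kf xf5 yf47 zf36) (kf xf2 yf52 zf3) (kf xf2 yf52 zf2) (kf xf1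 yf20 zf60) (kf xf4 yf34 zf19) (kf xf3 yf9 zf51) (kf xf2 yf51 zf50) (kf xf3 yf0 zf32) (kf xf1 yf26 zf5) (kf xf2 yf18 zf59) (kf xf4 yf34 zf21) (kf xf5 yf47 zf50) (kf xf4 yf34 zf23) (kf xf4 yf34 zf24) (kf xf3 yf4 zf56) (kf xf2 yf51 zf53) (kf xf5 yf37 zf53)) (@D3.rec (fun _ => Pt) (kf xf3 yf4 zf52) (kf xf5 yf37 zf57) (kf xf2 yf51 zf54) (kf xf5 yf48 zf4) (kf xf2 yf31 zf12) (kf xf4 yf34 zf25) (kf xf5 yf48 zf11) (kf xf1 yf21 zf12) (kf xf1 yf21 zf13) (kf xf4 yf34 zf27) (kf xf4 yf49 zf48) (kf xf4 yf34 zf29) (kf xf3 yf51 zf21) (kf xf5 yf0 zf17) (kf xf4 yf34 zf31) (kf xf3 yf25 zf42) (kf xf3 yf26 zf27) (kf xf5 yf48 zf25) (kf xf5 yf48 zf9) (kf xf5 yf48 zf8) (kf xf5 yf48 zf37) (kf xf1 yf21 zf11) (kf xf5 yf48 zf12) (kf xf3 yf5 zf16) (kf xf5 yf48 zf13) (kf xf5 yf7 zf43) (kf xf3 yf54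 zf48) (kf xf3 yf11 zf20) (kf xf3 yf11 zf21) (kf xf3 yf11 zf10) (kf xf3 yf11 zf11) (kf xf3 yf10 zf44) (kf xf2 yf42 zf32) (kf xf4 yf34 zf6) (kf xf1 yf21 zf16) (kf xf2 yf58 zf17) (kf xf3 yf5 zf43) (kf xf3 yf5 zf44) (kf xf2 yf13 zf4) (kf xf3 yf4 zf45) (kf xf3 yf5 zf39) (kf xf3 yf4 zf17) (kf xf3 yf5 zf40) (kf xf5 yf38 zf38) (kf xf4 yf29 zf20) (kf xf2 yf52 zf34) (kf xf4 yf34 zf10) (kf xf2 yf57 zf38) (kf xf5 yf49 zf26) (kf xf4 yf34 zf8) (kf xf3 yf5 zf31) (kf xf2 yf57 zf47) (kf xf4 yf34 zf12) (kf xf4 yf34 zf11) (kf xf1 yf21 zf25) (kf xf5 yf49 zf1) (kf xf3 yf4 zf26) (kf xf3 yf4 zf27) (kf xf4 yf24 zf10) (kf xf4 yf34 zf16) (kf xf2 yf13 zf22) (kf xf3 yf0 zf30)) (@D3.rec (fun _ => Pt) (kf xf3 yf0 zf33) (kf xf4 yf34 zf14) (kf xf5 yf38 zf45) (kf xf2 yf12 zf53) (kf xf2 yf43 zf16) (kf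 xf2 yf57 zf53) (kf xf1 yf57 zf34) (kf xf3 yf4 zf7) (kf xf2 yf52 zf20) (kf xf2 yf52 zf21) (kf xf5 yf50 zf2) (kf xf3 yf10 zf24) (kf xf2 yf52 zf23) (kf xf2 yf52 zf24) (kf xf5 yf50 zf9) (kf xf4 yf33 zf58) (kf xf2 yf59 zf61) (kf xf5 yf0 zf8) (kf xf4 yf33 zf59) (kf xf2 yf46 zf3) (kf xf4 yf33 zf61) (kf xf5 yf50 zf19) (kf xf4 yf34 zf37) (kf xf4 yf34 zf36) (kf xf1 yf21 zf45) (kf xf3 yf8 zf42) (kf xf3 yf8 zf43) (kf xf4 yf43 zf49) (kf xf3 yf8 zf29) (kf xf3 yf8 zf30) (kf xf5 yf0 zf15) (kf xf2 yf55 zf8) (kf xf4 yf7 zf5) (kf xf2 yf15 zf54) (kf xf2 yf52 zf26) (kf xf5 yf50 zf47) (kf xf1 yf57 zf3) (kf xf4 yf24 zf32) (kf xf2 yf52 zf27) (kf xf5 yf50 zf56) (kf xf2 yf54 zf21) (kf xf4 yf34 zf58) (kf xf2 yf15 zf33) (kf xf2 yf55 zf43) (kf xf2 yf55 zf48) (kf xf4 yf34 zf59) (kf xf2 yf15 zf39)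 (kf xf2 yf53 zf2) (kf xf4 yf34 zf49) (kf xf5 yf51 zf6) (kf xf2 yf49 zf51) (kf xf1 yf52 zf10) (kf xf5 yf51 zf13) (kf xf2 yf49 zf60) (kf xf2 yf50 zf2) (kf xf5 yf51 zf19) (kf xf4 yf34 zf52) (kf xf3 yf50 zf30) (kf xf3 yf25 zf39) (kf xf5 yf51 zf5) (kf xf5 yf51 zf4) (kf xf1 yf22 zf0)) (@D3.rec (fun _ => Pt) (kf xf2 yf49 zf24) (kf xf5 yf51 zf38) (kf xf2 yf49 zf47) (kf xf2 yf49 zf46) (kf xf1 yf22 zf2) (kf xf2 yf49 zf38) (kf xf2 yf49 zf44) (kf xf5 yf51 zf48) (kf xf5 yf51 zf50) (kf xf1 yf22 zf4) (kf xf3 yf13 zf26) (kf xf3 yf13 zf27) (kf xf5 yf51 zf57) (kf xf3 yf13 zf21) (kf xf3 yf13 zf22) (kf xf5 yf52 zf0) (kf xf2 yf13 zf50) (kf xf1 yf28 zf17) (kf xf3 yf43 zf25) (kf xf5 yf52 zf5) (kf xf2 yf51 zf8) (kf xf2 yf51 zf9) (kf xf5 yf52 zf10) (kf xf2 yf51 zf12) (kf xf2 yf51 zf13) (kf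 xf5 yf52 zf14) (kf xf2 yf51 zf34) (kf xf2 yf51 zf38) (kf xf2 yf46 zf2) (kf xf5 yf52 zf22) (kf xf5 yf52 zf4) (kf xf5 yf52 zf3) (kf xf5 yf52 zf34) (kf xf1 yf22 zf19) (kf xf2 yf50 zf45) (kf xf4 yf39 zf29) (kf xf4 yf39 zf30) (kf xf3 yf13 zf12) (kf xf5 yf52 zf47) (kf xf3 yf12 zf61) (kf xf5 yf52 zf51) (kf xf2 yf39 zf26) (kf xf4 yf35 zf2) (kf xf1 yf22 zf23) (kf xf3 yf3 zf24) (kf xf3 yf59 zf36) (kf xf4 yf25 zf5) (kf xf4 yf35 zf7) (kf xf4 yf35 zf6) (kf xf2 yf59 zf11) (kf xf2 yf40 zf51) (kf xf2 yf11 zf45) (kf xf4 yf35 zf9) (kf xf5 yf52 zf54) (kf xf1 yf23 zf47) (kf xf1 yf23 zf56) (kf xf4 yf35 zf13) (kf xf2 yf26 zf12) (kf xf3 yf0 zf4) (kf xf4 yf25 zf3) (kf xf4 yf25 zf4) (kf xf4 yf35 zf12)) (@D3.rec (fun _ => Pt) (kf xf1 yf59 zf57) (kf xf2 yf39 zf55) (kf xf2 yf51 zf47) (kf xf5 yf41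 zf19) (kf xf4 yf0 zf44) (kf xf4 yf35 zf48) (kf xf5 yf41 zf22) (kf xf4 yf35 zf49) (kf xf4 yf49 zf13) (kf xf4 yf35 zf58) (kf xf5 yf41 zf25) (kf xf3 yf59 zf19) (kf xf4 yf35 zf52) (kf xf4 yf35 zf54) (kf xf4 yf35 zf56) (kf xf4 yf39 zf8) (kf xf2 yf10 zf4) (kf xf4 yf35 zf60) (kf xf5 yf53 zf55) (kf xf4 yf36 zf0) (kf xf1 yf22 zf55) (kf xf1 yf22 zf54) (kf xf5 yf54 zf2) (kf xf1 yf22 zf46) (kf xf2 yf27 zf17) (kf xf4 yf36 zf5) (kf xf5 yf41 zf37) (kf xf4 yf36 zf6) (kf xf4 yf36 zf7) (kf xf3 yf4 zf8) (kf xf3 yf4 zf10) (kf xf4 yf36 zf8) (kf xf5 yf54 zf19) (kf xf5 yf53 zf53) (kf xf5 yf14 zf24) (kf xf5 yf54 zf26) (kf xf1 yf22 zf50) (kf xf3 yf4 zf59) (kf xf5 yf54 zf31) (kf xf3 yf5 zf3) (kf xf3 yf5 zf7) (kf xf5 yf54 zf39) (kf xf4 yf36 zf14) (kf xf4 yf36 zf15) (kf xf4 yf36 zf16) (kf xf2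 yf31 zf9) (kf xf5 yf53 zf59) (kf xf5 yf53 zf60) (kf xf4 yf32 zf39) (kf xf4 yf5 zf39) (kf xf5 yf53 zf57) (kf xf5 yf53 zf58) (kf xf5 yf54 zf0) (kf xf5 yf53 zf61) (kf xf5 yf55 zf9) (kf xf1 yf22 zf56) (kf xf4 yf35 zf42) (kf xf3 yf10 zf49) (kf xf5 yf55 zf15) (kf xf3 yf23 zf14) (kf xf3 yf10 zf50) (kf xf5 yf55 zf19)) (@D3.rec (fun _ => Pt) (kf xf4 yf35 zf44) (kf xf3 yf46 zf28) (kf xf4 yf43 zf45) (kf xf2 yf36 zf1) (kf xf4 yf43 zf46) (kf xf3 yf59 zf28) (kf xf4 yf35 zf15) (kf xf4 yf35 zf16) (kf xf4 yf38 zf61) (kf xf2 yf55 zf16) (kf xf4 yf35 zf18) (kf xf4 yf26 zf3) (kf xf4 yf35 zf19) (kf xf4 yf49 zf21) (kf xf4 yf37 zf36) (kf xf4 yf24 zf35) (kf xf4 yf38 zf23) (kf xf4 yf35 zf21) (kf xf5 yf55 zf57) (kf xf4 yf38 zf24) (kf xf4 yf24 zf33) (kf xf2 yf51 zf40) (kf xf4 yf23 zf59) (kf xf3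 yf59 zf20) (kf xf4 yf23 zf60) (kf xf4 yf37 zf28) (kf xf3 yf9 zf52) (kf xf3 yf9 zf55) (kf xf4 yf24 zf36) (kf xf5 yf56 zf20) (kf xf5 yf55 zf49) (kf xf4 yf36 zf52) (kf xf5 yf56 zf28) (kf xf1 yf23 zf13) (kf xf3 yf10 zf13) (kf xf5 yf56 zf33) (kf xf2 yf55 zf19) (kf xf3 yf10 zf17) (kf xf5 yf56 zf40) (kf xf4 yf35 zf26) (kf xf3 yf16 zf44) (kf xf4 yf35 zf27) (kf xf5 yf56 zf48) (kf xf5 yf55 zf55) (kf xf5 yf55 zf54) (kf xf5 yf56 zf60) (kf xf1 yf23 zf17) (kf xf4 yf25 zf39) (kf xf4 yf36 zf37) (kf xf5 yf55 zf59) (kf xf5 yf55 zf58) (kf xf5 yf57 zf12) (kf xf1 yf23 zf19) (kf xf4 yf36 zf31) (kf xf5 yf57 zf19) (kf xf4 yf36 zf29) (kf xf2 yf12 zf9) (kf xf5 yf45 zf58) (kf xf2 yf59 zf39) (kf xf4 yf36 zf33) (kf xf1 yf23 zf23) (kf xf4 yf30 zf58)) (@D3.rec (fun _ => Pt) (kf xf5 yf57 zf25) (kf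 xf5 yf43 zf12) (kf xf1 yf23 zf50) (kf xf5 yf6 zf57) (kf xf1 yf23 zf54) (kf xf5 yf55 zf16) (kf xf5 yf6 zf33) (kf xf2 yf55 zf14) (kf xf2 yf51 zf31) (kf xf2 yf55 zf51) (kf xf5 yf57 zf44) (kf xf2 yf55 zf23) (kf xf5 yf57 zf48) (kf xf1 yf23 zf33) (kf xf2 yf55 zf7) (kf xf2 yf27 zf4) (kf xf2 yf54 zf9) (kf xf2 yf55 zf44) (kf xf5 yf7 zf36) (kf xf2 yf54 zf36) (kf xf5 yf51 zf33) (kf xf5 yf58 zf0) (kf xf1 yf23 zf37) (kf xf2 yf55 zf11) (kf xf3 yf0 zf14) (kf xf1 yf23 zf38) (kf xf4 yf40 zf36) (kf xf5 yf58 zf10) (kf xf5 yf50 zf4) (kf xf5 yf57 zf33) (kf xf5 yf58 zf21) (kf xf5 yf58 zf25) (kf xf3 yf25 zf35) (kf xf1 yf23 zf41) (kf xf3 yf23 zf23) (kf xf3 yf13 zf58) (kf xf1 yf23 zf42) (kf xf5 yf57 zf14) (kf xf5 yf6 zf58) (kf xf5 yf6 zf32) (kf xf5 yf58 zf33) (kf xf1 yf23 zf45) (kf xf5 yf53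 zf8) (kf xf2 yf51 zf43) (kf xf2 yf55 zf17) (kf xf5 yf45 zf2) (kf xf3 yf50 zf32) (kf xf5 yf58 zf45) (kf xf2 yf51 zf44) (kf xf5 yf58 zf50) (kf xf1 yf23 zf51) (kf xf2 yf55 zf9) (kf xf5 yf58 zf56) (kf xf2 yf56 zf54) (kf xf5 yf57 zf34) (kf xf5 yf57 zf35) (kf xf5 yf59 zf4) (kf xf5 yf57 zf15) (kf xf5 yf59 zf10) (kf xf1 yf23 zf55) (kf xf5 yf53 zf9) (kf xf5 yf57 zf26)) (@D3.rec (fun _ => Pt) (kf xf5 yf59 zf19) (kf xf1 yf23 zf57) (kf xf4 yf45 zf18) (kf xf4 yf46 zf40) (kf xf5 yf59 zf26) (kf xf1 yf24 zf10) (kf xf1 yf24 zf9) (kf xf1 yf23 zf60) (kf xf3 yf0 zf35) (kf xf2 yf27 zf40) (kf xf5 yf59 zf42) (kf xf4 yf48 zf43) (kf xf4 yf48 zf44) (kf xf4 yf48 zf45) (kf xf4 yf48 zf46) (kf xf5 yf59 zf56) (kf xf4 yf48 zf56) (kf xf4 yf38 zf38) (kf xf6 yf0 zf0) (kf xf1 yf24 zf1) (kf xf4 yf48 zf50)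 (kf xf4 yf48 zf51) (kf xf6 yf0 zf7) (kf xf4 yf48 zf53) (kf xf4 yf48 zf54) (kf xf6 yf0 zf16) (kf xf4 yf38 zf54) (kf xf4 yf48 zf48) (kf xf6 yf0 zf26) (kf xf1 yf24 zf4) (kf xf4 yf46 zf33) (kf xf4 yf46 zf34) (kf xf4 yf46 zf35) (kf xf6 yf0 zf36) (kf xf4 yf46 zf37) (kf xf3 yf59 zf41) (kf xf4 yf46 zf38) (kf xf6 yf0 zf45) (kf xf4 yf46 zf42) (kf xf4 yf46 zf43) (kf xf4 yf46 zf44) (kf xf6 yf0 zf52) (kf xf1 yf40 zf17) (kf xf5 yf59 zf24) (kf xf6 yf0 zf61) (kf xf1 yf24 zf8) (kf xf5 yf59 zf31) (kf xf5 yf59 zf32) (kf xf5 yf59 zf33) (kf xf6 yf1 zf15) (kf xf5 yf59 zf27) (kf xf5 yf59 zf28) (kf xf5 yf59 zf29) (kf xf6 yf1 zf25) (kf xf2 yf55 zf53) (kf xf5 yf45 zf3) (kf xf5 yf45 zf4) (kf xf5 yf45 zf5) (kf xf5 yf45 zf6) (kf xf4 yf38 zf43) (kf xf6 yf1 zf45) (kf xf4 yf38 zf45)) (@D3.rec (fun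 _ => Pt) (kf xf4 yf38 zf46) (kf xf4 yf38 zf47) (kf xf6 yf1 zf43) (kf xf6 yf1 zf42) (kf xf6 yf1 zf61) (kf xf1 yf24 zf17) (kf xf4 yf37 zf52) (kf xf4 yf38 zf40) (kf xf4 yf38 zf39) (kf xf3 yf21 zf33) (kf xf4 yf30 zf18) (kf xf1 yf24 zf20) (kf xf4 yf38 zf28) (kf xf6 yf2 zf16) (kf xf4 yf38 zf30) (kf xf4 yf38 zf31) (kf xf4 yf38 zf32) (kf xf6 yf2 zf26) (kf xf6 yf2 zf15) (kf xf6 yf2 zf14) (kf xf1 yf24 zf24) (kf xf4 yf38 zf55) (kf xf3 yf14 zf27) (kf xf4 yf37 zf58) (kf xf4 yf38 zf53) (kf xf4 yf39 zf6) (kf xf4 yf38 zf58) (kf xf4 yf38 zf57) (kf xf6 yf2 zf48) (kf xf1 yf24 zf27) (kf xf4 yf35 zf50) (kf xf4 yf39 zf9) (kf xf4 yf39 zf10) (kf xf4 yf38 zf48) (kf xf1 yf31 zf51) (kf xf4 yf39 zf5) (kf xf4 yf39 zf4) (kf xf4 yf39 zf11) (kf xf2 yf50 zf47) (kf xf4 yf38 zf56) (kf xf3 yf0 zf25) (kf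 xf4 yf35 zf20) (kf xf4 yf39 zf0) (kf xf4 yf39 zf1) (kf xf4 yf39 zf2) (kf xf4 yf41 zf40) (kf xf3 yf24 zf15) (kf xf2 yf50 zf51) (kf xf5 yf42 zf10) (kf xf4 yf41 zf41) (kf xf4 yf39 zf16) (kf xf4 yf39 zf17) (kf xf4 yf39 zf13) (kf xf2 yf51 zf5) (kf xf4 yf39 zf18) (kf xf6 yf3 zf35) (kf xf4 yf39 zf14) (kf xf6 yf3 zf40) (kf xf4 yf39 zf23) (kf xf4 yf39 zf24) (kf xf6 yf3 zf47) (kf xf4 yf39 zf20)) (@D3.rec (fun _ => Pt) (kf xf4 yf39 zf21) (kf xf6 yf3 zf54) (kf xf4 yf39 zf27) (kf xf4 yf39 zf26) (kf xf5 yf46 zf21) (kf xf2 yf16 zf41) (kf xf4 yf34 zf51) (kf xf4 yf39 zf32) (kf xf6 yf4 zf8) (kf xf2 yf9 zf33) (kf xf2 yf14 zf5) (kf xf1 yf28 zf57) (kf xf2 yf44 zf59) (kf xf2 yf27 zf57) (kf xf2 yf27 zf56) (kf xf2 yf49 zf17) (kf xf2 yf49 zf18) (kf xf2 yf50 zf35) (kf xf2 yf49 zf19) (kf xf2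 yf49 zf20) (kf xf4 yf10 zf36) (kf xf4 yf16 zf42) (kf xf4 yf10 zf37) (kf xf1 yf25 zf2) (kf xf1 yf24 zf60) (kf xf1 yf25 zf5) (kf xf6 yf4 zf32) (kf xf1 yf24 zf56) (kf xf2 yf58 zf35) (kf xf4 yf3 zf1) (kf xf2 yf38 zf42) (kf xf6 yf4 zf24) (kf xf6 yf4 zf44) (kf xf1 yf58 zf29) (kf xf4 yf16 zf59) (kf xf2 yf58 zf28) (kf xf4 yf16 zf60) (kf xf6 yf4 zf23) (kf xf6 yf4 zf55) (kf xf2 yf37 zf44) (kf xf2 yf38 zf8) (kf xf6 yf5 zf1) (kf xf1 yf58 zf34) (kf xf6 yf4 zf26) (kf xf6 yf5 zf8) (kf xf6 yf4 zf29) (kf xf6 yf4 zf28) (kf xf6 yf5 zf19) (kf xf6 yf5 zf24) (kf xf1 yf25 zf6) (kf xf2 yf11 zf23) (kf xf2 yf39 zf31) (kf xf6 yf5 zf35) (kf xf2 yf32 zf17) (kf xf2 yf39 zf33) (kf xf2 yf39 zf34) (kf xf2 yf39 zf28) (kf xf2 yf39 zf27) (kf xf1 yf25 zf11) (kf xf2 yf31 zf27) (kf xf4 yf12 zf8) (kf xf2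 yf39 zf18)) (@D3.rec (fun _ => Pt) (kf xf2 yf39 zf20) (kf xf6 yf5 zf52) (kf xf2 yf39 zf24) (kf xf2 yf39 zf25) (kf xf5 yf36 zf41) (kf xf2 yf11 zf32) (kf xf1 yf25 zf16) (kf xf2 yf39 zf46) (kf xf6 yf6 zf3) (kf xf2 yf39 zf48) (kf xf2 yf39 zf49) (kf xf2 yf52 zf49) (kf xf2 yf39 zf44) (kf xf2 yf39 zf43) (kf xf1 yf25 zf19) (kf xf2 yf39 zf38) (kf xf6 yf6 zf23) (kf xf2 yf39 zf40) (kf xf2 yf39 zf41) (kf xf2 yf39 zf51) (kf xf2 yf39 zf50) (kf xf1 yf25 zf22) (kf xf2 yf39 zf56) (kf xf2 yf39 zf57) (kf xf4 yf35 zf14) (kf xf2 yf39 zf53) (kf xf2 yf39 zf54) (kf xf1 yf36 zf40) (kf xf6 yf6 zf41) (kf xf6 yf6 zf40) (kf xf4 yf39 zf51) (kf xf1 yf25 zf25) (kf xf2 yf34 zf4) (kf xf2 yf40 zf1) (kf xf6 yf6 zf55) (kf xf2 yf12 zf18) (kf xf4 yf6 zf50) (kf xf6 yf7 zf2) (kf xf4 yf6 zf52) (kf xf2 yf54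 zf58) (kf xf4 yf6 zf47) (kf xf2 yf44 zf19) (kf xf1 yf25 zf32) (kf xf2 yf33 zf61) (kf xf6 yf7 zf11) (kf xf4 yf1 zf45) (kf xf4 yf6 zf44) (kf xf6 yf7 zf16) (kf xf4 yf6 zf46) (kf xf6 yf7 zf21) (kf xf2 yf12 zf22) (kf xf1 yf25 zf38) (kf xf6 yf7 zf25) (kf xf2 yf14 zf9) (kf xf2 yf45 zf18) (kf xf5 yf50 zf14) (kf xf2 yf12 zf34) (kf xf2 yf18 zf54) (kf xf3 yf5 zf9) (kf xf4 yf1 zf25) (kf xf4 yf5 zf44) (kf xf2 yf51 zf16))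
def f_f_3 : D2 → D3 → Pt := @D2.rec (fun _ => D3 → Pt) (@D3.rec (fun _ => Pt) (kf xf4 yf1 zf28) (kf xf4 yf5 zf43) (kf xf3 yf58 zf51) (kf xf6 yf7 zf49) (kf xf2 yf52 zf58) (kf xf1 yf25 zf52) (kf xf1 yf25 zf51) (kf xf6 yf7 zf52) (kf xf2 yf44 zf35) (kf xf1 yf25 zf50) (kf xf5 yf47 zf61) (kf xf6 yf7 zf50) (kf xf6 yf7 zf59) (kf xf5 yf57 zf46) (kf xf2 yf55 zf24) (kf xf6 yf8 zf6) (kf xf6 yf8 zf9) (kf xf1 yf25 zf53) (kf xf1 yf26 zf10) (kf xf4 yf5 zf41) (kf xf6 yf8 zf14) (kf xf4 yf5 zf36) (kf xf5 yf50 zf37) (kf xf2 yf39 zf61) (kf xf6 yf8 zf25) (kf xf2 yf57 zf40) (kf xf4 yf39 zf53) (kf xf1 yf25 zf58) (kf xf6 yf8 zf29) (kf xf4 yf56 zf57) (kf xf2 yf50 zf61) (kf xf1 yf26 zf3) (kf xf2 yf49 zf52) (kf xf2 yf51 zf0) (kf xf6 yf8 zf33) (kf xf2 yf56 zf8) (kf xf3 yf30 zf7) (kf xf4 yf40 zf35)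 (kf xf4 yf40 zf37) (kf xf6 yf8 zf42) (kf xf5 yf58 zf8) (kf xf5 yf58 zf7) (kf xf1 yf26 zf9) (kf xf5 yf6 zf29) (kf xf5 yf37 zf18) (kf xf5 yf42 zf21) (kf xf4 yf40 zf6) (kf xf4 yf40 zf7) (kf xf4 yf49 zf31) (kf xf4 yf40 zf3) (kf xf4 yf40 zf4) (kf xf5 yf57 zf18) (kf xf2 yf49 zf12) (kf xf2 yf49 zf13) (kf xf2 yf27 zf60) (kf xf2 yf44 zf31) (kf xf2 yf49 zf11) (kf xf5 yf40 zf57) (kf xf2 yf45 zf58) (kf xf6 yf9 zf14) (kf xf6 yf9 zf17) (kf xf1 yf26 zf19)) (@D3.rec (fun _ => Pt) (kf xf2 yf26 zf6) (kf xf2 yf26 zf22) (kf xf1 yf33 zf24) (kf xf1 yf26 zf27) (kf xf3 yf43 zf8) (kf xf1 yf26 zf26) (kf xf2 yf18 zf16) (kf xf3 yf22 zf13) (kf xf3 yf26 zf1) (kf xf3 yf22 zf14) (kf xf4 yf50 zf22) (kf xf4 yf50 zf23) (kf xf1 yf49 zf44) (kf xf1 yf33 zf53) (kf xf1 yf33 zf57) (kf xf3 yf14 zf46) (kf xf2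 yf19 zf54) (kf xf2 yf19 zf57) (kf xf3 yf9 zf35) (kf xf3 yf22 zf17) (kf xf3 yf22 zf18) (kf xf3 yf22 zf20) (kf xf1 yf26 zf56) (kf xf6 yf9 zf53) (kf xf1 yf34 zf15) (kf xf3 yf9 zf40) (kf xf1 yf35 zf56) (kf xf3 yf8 zf58) (kf xf3 yf22 zf47) (kf xf3 yf8 zf2) (kf xf6 yf9 zf60) (kf xf1 yf26 zf45) (kf xf1 yf43 zf59) (kf xf3 yf35 zf60) (kf xf1 yf26 zf47) (kf xf3 yf9 zf41) (kf xf6 yf10 zf3) (kf xf1 yf26 zf49) (kf xf3 yf10 zf55) (kf xf3 yf7 zf4) (kf xf2 yf5 zf54) (kf xf3 yf18 zf51) (kf xf6 yf9 zf48) (kf xf1 yf41 zf47) (kf xf6 yf10 zf15) (kf xf1 yf27 zf8) (kf xf1 yf27 zf7) (kf xf1 yf26 zf57) (kf xf1 yf34 zf18) (kf xf1 yf34 zf31) (kf xf1 yf34 zf32) (kf xf1 yf34 zf35) (kf xf1 yf34 zf37) (kf xf6 yf10 zf26) (kf xf1 yf34 zf41) (kf xf1 yf34 zf42) (kf xf6 yf10 zf36) (kf xf1 yf34 zf34) (kf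 xf1 yf27 zf0) (kf xf1 yf49 zf53) (kf xf1 yf35 zf29) (kf xf3 yf6 zf26)) (@D3.rec (fun _ => Pt) (kf xf1 yf50 zf21) (kf xf1 yf35 zf30) (kf xf6 yf10 zf50) (kf xf4 yf39 zf58) (kf xf4 yf39 zf59) (kf xf4 yf37 zf6) (kf xf4 yf39 zf60) (kf xf6 yf11 zf0) (kf xf6 yf11 zf4) (kf xf1 yf27 zf4) (kf xf6 yf10 zf14) (kf xf5 yf11 zf47) (kf xf5 yf11 zf19) (kf xf1 yf27 zf5) (kf xf6 yf11 zf12) (kf xf6 yf10 zf20) (kf xf6 yf10 zf21) (kf xf6 yf11 zf24) (kf xf6 yf10 zf16) (kf xf6 yf10 zf17) (kf xf6 yf10 zf18) (kf xf6 yf11 zf35) (kf xf1 yf27 zf10) (kf xf6 yf9 zf51) (kf xf6 yf9 zf50) (kf xf6 yf11 zf36) (kf xf1 yf35 zf50) (kf xf1 yf35 zf52) (kf xf1 yf35 zf57) (kf xf6 yf11 zf52) (kf xf6 yf11 zf51) (kf xf6 yf11 zf50) (kf xf6 yf12 zf0) (kf xf1 yf27 zf14) (kf xf4 yf40 zf57) (kf xf4 yf40 zf58) (kf xf4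 yf40 zf55) (kf xf4 yf40 zf56) (kf xf5 yf45 zf59) (kf xf3 yf20 zf51) (kf xf4 yf40 zf60) (kf xf4 yf49 zf39) (kf xf1 yf27 zf17) (kf xf1 yf33 zf32) (kf xf3 yf43 zf19) (kf xf4 yf41 zf11) (kf xf4 yf7 zf18) (kf xf6 yf12 zf27) (kf xf4 yf41 zf13) (kf xf4 yf41 zf14) (kf xf4 yf57 zf53) (kf xf1 yf34 zf12) (kf xf4 yf7 zf23) (kf xf3 yf6 zf8) (kf xf1 yf33 zf48) (kf xf1 yf27 zf22) (kf xf1 yf34 zf1) (kf xf4 yf40 zf47) (kf xf4 yf41 zf2) (kf xf3 yf5 zf59) (kf xf4 yf41 zf4) (kf xf4 yf41 zf5)) (@D3.rec (fun _ => Pt) (kf xf5 yf51 zf56) (kf xf4 yf41 zf7) (kf xf1 yf34 zf11) (kf xf4 yf48 zf3) (kf xf1 yf27 zf26) (kf xf1 yf27 zf30) (kf xf3 yf6 zf6) (kf xf3 yf6 zf7) (kf xf3 yf6 zf4) (kf xf3 yf6 zf5) (kf xf4 yf41 zf8) (kf xf3 yf6 zf10) (kf xf3 yf6 zf9) (kf xf6 yf12 zf46) (kf xf1 yf37 zf32) (kf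 xf1 yf55 zf42) (kf xf1 yf55 zf44) (kf xf4 yf36 zf11) (kf xf2 yf10 zf37) (kf xf2 yf10 zf36) (kf xf6 yf13 zf11) (kf xf1 yf27 zf33) (kf xf2 yf10 zf41) (kf xf1 yf56 zf23) (kf xf2 yf52 zf44) (kf xf1 yf56 zf26) (kf xf1 yf56 zf27) (kf xf6 yf13 zf19) (kf xf2 yf27 zf21) (kf xf6 yf13 zf17) (kf xf6 yf13 zf28) (kf xf1 yf27 zf39) (kf xf5 yf0 zf28) (kf xf1 yf27 zf40) (kf xf2 yf27 zf59) (kf xf1 yf56 zf50) (kf xf1 yf56 zf51) (kf xf1 yf56 zf52) (kf xf6 yf13 zf37) (kf xf6 yf13 zf41) (kf xf1 yf27 zf48) (kf xf3 yf3 zf55) (kf xf4 yf0 zf34) (kf xf4 yf0 zf35) (kf xf4 yf0 zf36) (kf xf2 yf10 zf28) (kf xf6 yf13 zf54) (kf xf1 yf27 zf53) (kf xf5 yf0 zf29) (kf xf4 yf23 zf52) (kf xf6 yf13 zf60) (kf xf6 yf14 zf2) (kf xf1 yf27 zf59) (kf xf2 yf49 zf0) (kf xf1 yf56 zf45) (kf xf3 yf3 zf41) (kf xf2 yf48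 zf61) (kf xf4 yf23 zf45) (kf xf4 yf23 zf46) (kf xf4 yf23 zf47) (kf xf4 yf23 zf48) (kf xf6 yf14 zf14)) (@D3.rec (fun _ => Pt) (kf xf2 yf49 zf40) (kf xf2 yf49 zf37) (kf xf2 yf49 zf41) (kf xf6 yf14 zf21) (kf xf6 yf14 zf25) (kf xf6 yf14 zf28) (kf xf1 yf28 zf5) (kf xf2 yf51 zf7) (kf xf2 yf53 zf29) (kf xf6 yf14 zf32) (kf xf2 yf53 zf30) (kf xf4 yf20 zf4) (kf xf4 yf42 zf36) (kf xf3 yf33 zf41) (kf xf4 yf42 zf37) (kf xf6 yf14 zf45) (kf xf6 yf14 zf39) (kf xf2 yf50 zf41) (kf xf3 yf39 zf22) (kf xf1 yf28 zf10) (kf xf6 yf13 zf53) (kf xf6 yf13 zf52) (kf xf6 yf14 zf58) (kf xf1 yf28 zf11) (kf xf3 yf33 zf35) (kf xf4 yf58 zf12) (kf xf2 yf50 zf56) (kf xf2 yf50 zf57) (kf xf6 yf4 zf9) (kf xf3 yf39 zf27) (kf xf3 yf39 zf26) (kf xf3 yf43 zf35) (kf xf1 yf28 zf14) (kf xf3 yf36 zf35) (kf xf4 yf22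 zf36) (kf xf4 yf24 zf8) (kf xf3 yf36 zf36) (kf xf6 yf15 zf13) (kf xf1 yf28 zf20) (kf xf2 yf49 zf4) (kf xf1 yf55 zf28) (kf xf2 yf49 zf3) (kf xf2 yf49 zf32) (kf xf2 yf49 zf34) (kf xf2 yf49 zf35) (kf xf2 yf50 zf39) (kf xf6 yf15 zf25) (kf xf6 yf15 zf23) (kf xf6 yf15 zf22) (kf xf5 yf40 zf54) (kf xf1 yf28 zf27) (kf xf5 yf40 zf55) (kf xf2 yf50 zf0) (kf xf2 yf44 zf52) (kf xf4 yf42 zf46) (kf xf4 yf42 zf47) (kf xf2 yf49 zf59) (kf xf4 yf42 zf48) (kf xf6 yf15 zf44) (kf xf2 yf53 zf37) (kf xf6 yf15 zf50) (kf xf4 yf42 zf54)) (@D3.rec (fun _ => Pt) (kf xf6 yf15 zf54) (kf xf1 yf28 zf34) (kf xf4 yf42 zf51) (kf xf2 yf53 zf39) (kf xf5 yf12 zf25) (kf xf4 yf42 zf52) (kf xf6 yf16 zf2) (kf xf2 yf53 zf40) (kf xf6 yf16 zf7) (kf xf2 yf59 zf58) (kf xf6 yf16 zf12) (kf xf1 yf28 zf38) (kf xf1 yf28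 zf41) (kf xf1 yf28 zf40) (kf xf6 yf16 zf20) (kf xf1 yf28 zf39) (kf xf2 yf50 zf23) (kf xf6 yf16 zf15) (kf xf6 yf16 zf16) (kf xf6 yf16 zf27) (kf xf3 yf49 zf7) (kf xf6 yf16 zf13) (kf xf6 yf16 zf32) (kf xf5 yf54 zf56) (kf xf6 yf16 zf18) (kf xf6 yf16 zf42) (kf xf1 yf28 zf42) (kf xf4 yf41 zf28) (kf xf6 yf16 zf47) (kf xf4 yf41 zf32) (kf xf5 yf0 zf20) (kf xf2 yf50 zf50) (kf xf6 yf16 zf55) (kf xf1 yf31 zf23) (kf xf1 yf28 zf46) (kf xf6 yf2 zf10) (kf xf1 yf55 zf36) (kf xf2 yf8 zf55) (kf xf2 yf49 zf33) (kf xf2 yf50 zf40) (kf xf2 yf50 zf42) (kf xf2 yf45 zf10) (kf xf2 yf49 zf21) (kf xf2 yf50 zf36) (kf xf2 yf50 zf37) (kf xf6 yf4 zf10) (kf xf2 yf13 zf42) (kf xf2 yf41 zf32) (kf xf2 yf17 zf8) (kf xf3 yf13 zf29) (kf xf2 yf17 zf12) (kf xf3 yf8 zf3) (kf xf2 yf21 zf42) (kf xf2 yf17 zf15)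 (kf xf6 yf17 zf23) (kf xf2 yf20 zf19) (kf xf2 yf17 zf23) (kf xf6 yf17 zf29) (kf xf6 yf17 zf22) (kf xf3 yf2 zf59) (kf xf4 yf47 zf59) (kf xf1 yf29 zf4)) (@D3.rec (fun _ => Pt) (kf xf2 yf21 zf37) (kf xf2 yf21 zf38) (kf xf2 yf17 zf10) (kf xf2 yf21 zf43) (kf xf3 yf3 zf8) (kf xf3 yf3 zf9) (kf xf3 yf3 zf6) (kf xf3 yf3 zf7) (kf xf3 yf2 zf53) (kf xf3 yf3 zf12) (kf xf3 yf3 zf11) (kf xf6 yf17 zf60) (kf xf1 yf29 zf9) (kf xf2 yf23 zf0) (kf xf1 yf34 zf58) (kf xf3 yf6 zf34) (kf xf3 yf22 zf36) (kf xf4 yf43 zf25) (kf xf3 yf6 zf35) (kf xf3 yf39 zf61) (kf xf3 yf22 zf38) (kf xf4 yf42 zf5) (kf xf3 yf11 zf51) (kf xf3 yf12 zf35) (kf xf6 yf18 zf19) (kf xf3 yf11 zf49) (kf xf3 yf1 zf61) (kf xf1 yf34 zf43) (kf xf3 yf12 zf37) (kf xf6 yf18 zf30) (kf xf6 yf18 zf17) (kf xf6 yf18 zf16) (kf xf6 yf18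 zf40) (kf xf1 yf29 zf22) (kf xf3 yf6 zf15) (kf xf3 yf6 zf18) (kf xf3 yf8 zf60) (kf xf3 yf11 zf50) (kf xf3 yf11 zf52) (kf xf3 yf12 zf54) (kf xf3 yf12 zf55) (kf xf3 yf12 zf42) (kf xf3 yf12 zf20) (kf xf3 yf12 zf53) (kf xf3 yf13 zf5) (kf xf3 yf11 zf46) (kf xf6 yf18 zf55) (kf xf1 yf29 zf28) (kf xf3 yf11 zf53) (kf xf3 yf11 zf40) (kf xf3 yf7 zf1) (kf xf3 yf23 zf59) (kf xf3 yf12 zf46) (kf xf6 yf19 zf1) (kf xf3 yf12 zf48) (kf xf4 yf7 zf17) (kf xf5 yf6 zf34) (kf xf5 yf58 zf30) (kf xf1 yf29 zf36) (kf xf3 yf12 zf12) (kf xf3 yf12 zf44) (kf xf3 yf13 zf15)) (@D3.rec (fun _ => Pt) (kf xf6 yf19 zf12) (kf xf3 yf6 zf50) (kf xf3 yf11 zf61) (kf xf3 yf12 zf1) (kf xf3 yf1 zf39) (kf xf3 yf12 zf2) (kf xf3 yf12 zf7) (kf xf6 yf19 zf22) (kf xf3 yf12 zf21) (kf xf4 yf17 zf57) (kf xf1 yf29 zf46)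 (kf xf6 yf19 zf26) (kf xf3 yf12 zf17) (kf xf3 yf12 zf18) (kf xf6 yf19 zf32) (kf xf3 yf12 zf11) (kf xf1 yf29 zf52) (kf xf4 yf43 zf2) (kf xf4 yf41 zf48) (kf xf6 yf19 zf42) (kf xf1 yf30 zf8) (kf xf1 yf30 zf7) (kf xf2 yf3 zf4) (kf xf1 yf29 zf54) (kf xf1 yf30 zf14) (kf xf1 yf30 zf11) (kf xf1 yf30 zf12) (kf xf4 yf43 zf18) (kf xf3 yf17 zf0) (kf xf4 yf43 zf19) (kf xf4 yf43 zf20) (kf xf2 yf20 zf23) (kf xf2 yf20 zf53) (kf xf6 yf19 zf60) (kf xf4 yf43 zf8) (kf xf3 yf46 zf29) (kf xf6 yf20 zf4) (kf xf3 yf24 zf11) (kf xf1 yf30 zf2) (kf xf4 yf43 zf10) (kf xf4 yf43 zf11) (kf xf4 yf43 zf15) (kf xf4 yf37 zf11) (kf xf4 yf37 zf10) (kf xf6 yf20 zf20) (kf xf3 yf12 zf25) (kf xf3 yf12 zf28) (kf xf6 yf20 zf27) (kf xf6 yf19 zf40) (kf xf6 yf19 zf39) (kf xf6 yf20 zf35) (kf xf1 yf30 zf6) (kf xf6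 yf19 zf46) (kf xf6 yf19 zf47) (kf xf2 yf41 zf43) (kf xf3 yf12 zf33) (kf xf6 yf19 zf43) (kf xf6 yf19 zf44) (kf xf6 yf19 zf45) (kf xf3 yf12 zf22) (kf xf3 yf28 zf27) (kf xf3 yf28 zf36)) (@D3.rec (fun _ => Pt) (kf xf4 yf43 zf22) (kf xf3 yf13 zf30) (kf xf3 yf1 zf29) (kf xf3 yf5 zf51) (kf xf4 yf40 zf11) (kf xf4 yf43 zf24) (kf xf1 yf34 zf6) (kf xf1 yf30 zf59) (kf xf4 yf43 zf23) (kf xf4 yf43 zf0) (kf xf6 yf20 zf51) (kf xf2 yf24 zf35) (kf xf3 yf16 zf30) (kf xf3 yf28 zf55) (kf xf3 yf16 zf28) (kf xf3 yf22 zf40) (kf xf3 yf17 zf15) (kf xf3 yf28 zf43) (kf xf6 yf21 zf17) (kf xf1 yf30 zf22) (kf xf3 yf9 zf20) (kf xf3 yf9 zf19) (kf xf6 yf21 zf21) (kf xf1 yf30 zf23) (kf xf3 yf22 zf37) (kf xf4 yf42 zf6) (kf xf4 yf42 zf7) (kf xf4 yf42 zf8) (kf xf3 yf12 zf59) (kf xf2 yf51 zf28) (kf xf2 yf51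 zf29) (kf xf3 yf13 zf3) (kf xf4 yf42 zf3) (kf xf4 yf42 zf2) (kf xf4 yf42 zf9) (kf xf6 yf2 zf60) (kf xf3 yf13 zf2) (kf xf3 yf23 zf2) (kf xf3 yf23 zf16) (kf xf4 yf42 zf0) (kf xf4 yf42 zf1) (kf xf4 yf41 zf50) (kf xf2 yf51 zf25) (kf xf2 yf51 zf26) (kf xf4 yf41 zf51) (kf xf4 yf42 zf4) (kf xf4 yf12 zf47) (kf xf4 yf41 zf52) (kf xf3 yf45 zf27) (kf xf3 yf19 zf37) (kf xf1 yf31 zf40) (kf xf4 yf42 zf10) (kf xf3 yf19 zf36) (kf xf4 yf42 zf12) (kf xf4 yf42 zf11) (kf xf4 yf52 zf11) (kf xf6 yf22 zf31) (kf xf1 yf30 zf35) (kf xf3 yf1 zf27) (kf xf4 yf42 zf17) (kf xf3 yf6 zf36) (kf xf4 yf42 zf18)) (@D3.rec (fun _ => Pt) (kf xf3 yf28 zf45) (kf xf4 yf42 zf20) (kf xf4 yf41 zf56) (kf xf1 yf31 zf42) (kf xf3 yf11 zf41) (kf xf3 yf35 zf7) (kf xf3 yf23 zf58) (kf xf3 yf35 zf8) (kf xf6 yf22 zf58)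 (kf xf4 yf42 zf16) (kf xf6 yf23 zf4) (kf xf4 yf42 zf23) (kf xf4 yf42 zf22) (kf xf1 yf30 zf46) (kf xf3 yf11 zf39) (kf xf3 yf11 zf42) (kf xf6 yf23 zf17) (kf xf3 yf11 zf44) (kf xf6 yf23 zf23) (kf xf3 yf8 zf21) (kf xf3 yf8 zf20) (kf xf1 yf30 zf49) (kf xf6 yf23 zf31) (kf xf6 yf23 zf26) (kf xf6 yf23 zf25) (kf xf1 yf32 zf19) (kf xf1 yf30 zf50) (kf xf6 yf23 zf43) (kf xf4 yf18 zf18) (kf xf4 yf18 zf15) (kf xf4 yf18 zf16) (kf xf1 yf37 zf42) (kf xf2 yf17 zf9) (kf xf4 yf42 zf27) (kf xf4 yf42 zf28) (kf xf3 yf1 zf18) (kf xf4 yf42 zf30) (kf xf6 yf20 zf57) (kf xf3 yf35 zf24) (kf xf3 yf35 zf23) (kf xf3 yf1 zf25) (kf xf3 yf1 zf35) (kf xf3 yf35 zf19) (kf xf6 yf24 zf11) (kf xf3 yf35 zf21) (kf xf6 yf24 zf16) (kf xf4 yf42 zf33) (kf xf4 yf42 zf32) (kf xf1 yf31 zf2) (kf xf6 yf24 zf23) (kf xf4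 yf23 zf54) (kf xf2 yf49 zf50) (kf xf2 yf54 zf26) (kf xf6 yf24 zf30) (kf xf4 yf23 zf56) (kf xf2 yf54 zf27) (kf xf6 yf24 zf36) (kf xf4 yf23 zf58) (kf xf4 yf23 zf61) (kf xf6 yf24 zf44) (kf xf4 yf24 zf14) (kf xf5 yf46 zf48)) (@D3.rec (fun _ => Pt) (kf xf4 yf24 zf25) (kf xf4 yf24 zf24) (kf xf6 yf24 zf55) (kf xf1 yf31 zf9) (kf xf4 yf24 zf28) (kf xf4 yf24 zf29) (kf xf3 yf41 zf20) (kf xf1 yf31 zf11) (kf xf3 yf10 zf27) (kf xf3 yf10 zf28) (kf xf4 yf41 zf18) (kf xf4 yf41 zf19) (kf xf4 yf41 zf20) (kf xf2 yf54 zf34) (kf xf6 yf25 zf11) (kf xf4 yf41 zf21) (kf xf5 yf37 zf7) (kf xf2 yf54 zf37) (kf xf6 yf25 zf20) (kf xf5 yf37 zf13) (kf xf6 yf6 zf36) (kf xf2 yf48 zf32) (kf xf6 yf16 zf54) (kf xf6 yf2 zf49) (kf xf2 yf51 zf11) (kf xf1 yf56 zf13) (kf xf2 yf30 zf53) (kf xf3 yf10 zf8) (kf xf3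 yf10 zf9) (kf xf2 yf49 zf36) (kf xf6 yf25 zf37) (kf xf1 yf35 zf8) (kf xf4 yf11 zf38) (kf xf6 yf25 zf40) (kf xf1 yf31 zf36) (kf xf3 yf10 zf60) (kf xf6 yf25 zf43) (kf xf3 yf10 zf61) (kf xf3 yf12 zf45) (kf xf3 yf11 zf0) (kf xf6 yf22 zf44) (kf xf2 yf21 zf1) (kf xf4 yf41 zf44) (kf xf4 yf41 zf45) (kf xf2 yf50 zf31) (kf xf4 yf41 zf46) (kf xf4 yf41 zf47) (kf xf3 yf21 zf34) (kf xf3 yf44 zf58) (kf xf2 yf53 zf57) (kf xf2 yf53 zf60) (kf xf6 yf26 zf4) (kf xf3 yf13 zf16) (kf xf6 yf2 zf61) (kf xf1 yf48 zf17) (kf xf3 yf1 zf38) (kf xf1 yf39 zf23) (kf xf4 yf18 zf11) (kf xf2 yf18 zf1) (kf xf4 yf43 zf44) (kf xf3 yf10 zf35) (kf xf3 yf10 zf37)) (@D3.rec (fun _ => Pt) (kf xf3 yf10 zf39) (kf xf3 yf35 zf9) (kf xf4 yf41 zf55) (kf xf3 yf35 zf22) (kf xf6 yf23 zf39) (kf xf1 yf31 zf59) (kf xf4 yf13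 zf18) (kf xf3 yf23 zf4) (kf xf4 yf43 zf30) (kf xf4 yf43 zf31) (kf xf2 yf50 zf29) (kf xf2 yf50 zf30) (kf xf4 yf43 zf28) (kf xf4 yf43 zf27) (kf xf4 yf43 zf32) (kf xf3 yf22 zf39) (kf xf1 yf49 zf40) (kf xf3 yf16 zf39) (kf xf4 yf43 zf26) (kf xf1 yf49 zf43) (kf xf2 yf50 zf27) (kf xf2 yf50 zf28) (kf xf3 yf21 zf31) (kf xf4 yf43 zf29) (kf xf1 yf33 zf11) (kf xf4 yf43 zf34) (kf xf3 yf20 zf10) (kf xf2 yf19 zf43) (kf xf4 yf13 zf17) (kf xf4 yf43 zf33) (kf xf3 yf20 zf9) (kf xf4 yf41 zf53) (kf xf4 yf43 zf36) (kf xf4 yf43 zf35) (kf xf6 yf27 zf24) (kf xf6 yf27 zf27) (kf xf1 yf32 zf8) (kf xf1 yf32 zf20) (kf xf1 yf48 zf12) (kf xf3 yf9 zf14) (kf xf3 yf6 zf49) (kf xf3 yf9 zf4) (kf xf3 yf9 zf15) (kf xf6 yf27 zf43) (kf xf3 yf9 zf17) (kf xf6 yf27 zf49) (kf xf3 yf6 zf45) (kf xf2 yf18 zf12) (kf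 xf1 yf32 zf14) (kf xf3 yf6 zf25) (kf xf3 yf6 zf37) (kf xf3 yf6 zf22) (kf xf3 yf6 zf38) (kf xf3 yf6 zf48) (kf xf6 yf23 zf37) (kf xf6 yf23 zf38) (kf xf6 yf23 zf36) (kf xf4 yf12 zf46) (kf xf1 yf50 zf22) (kf xf1 yf49 zf26) (kf xf1 yf53 zf24) (kf xf3 yf7 zf2)) (@D3.rec (fun _ => Pt) (kf xf1 yf34 zf16) (kf xf3 yf7 zf3) (kf xf3 yf7 zf5) (kf xf4 yf35 zf28) (kf xf1 yf32 zf43) (kf xf1 yf32 zf44) (kf xf6 yf28 zf19) (kf xf3 yf7 zf6) (kf xf1 yf35 zf22) (kf xf1 yf35 zf21) (kf xf6 yf28 zf27) (kf xf3 yf7 zf15) (kf xf3 yf6 zf59) (kf xf1 yf32 zf36) (kf xf2 yf20 zf25) (kf xf2 yf20 zf30) (kf xf6 yf28 zf37) (kf xf3 yf7 zf12) (kf xf3 yf7 zf13) (kf xf6 yf28 zf46) (kf xf3 yf6 zf42) (kf xf3 yf7 zf8) (kf xf3 yf7 zf59) (kf xf1 yf32 zf39) (kf xf4 yf43 zf54) (kf xf3 yf7 zf45) (kf xf6 yf28 zf58)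 (kf xf3 yf20 zf20) (kf xf3 yf7 zf46) (kf xf6 yf29 zf2) (kf xf6 yf28 zf13) (kf xf6 yf28 zf14) (kf xf6 yf28 zf15) (kf xf3 yf7 zf55) (kf xf6 yf29 zf15) (kf xf3 yf6 zf23) (kf xf6 yf29 zf20) (kf xf3 yf6 zf28) (kf xf6 yf29 zf27) (kf xf6 yf29 zf19) (kf xf6 yf29 zf18) (kf xf1 yf32 zf47) (kf xf3 yf6 zf41) (kf xf4 yf43 zf52) (kf xf3 yf6 zf60) (kf xf3 yf10 zf38) (kf xf3 yf6 zf52) (kf xf6 yf29 zf38) (kf xf3 yf6 zf54) (kf xf6 yf29 zf43) (kf xf6 yf29 zf37) (kf xf6 yf29 zf36) (kf xf1 yf32 zf53) (kf xf3 yf6 zf43) (kf xf3 yf6 zf39) (kf xf3 yf6 zf40) (kf xf4 yf43 zf50) (kf xf1 yf49 zf55) (kf xf3 yf15 zf39) (kf xf3 yf8 zf28) (kf xf6 yf30 zf1) (kf xf2 yf52 zf39)) (@D3.rec (fun _ => Pt) (kf xf5 yf48 zf61) (kf xf1 yf38 zf27) (kf xf3 yf8 zf36) (kf xf3 yf8 zf31) (kf xf2 yf18 zf11) (kf xf3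 yf6 zf44) (kf xf1 yf32 zf60) (kf xf1 yf49 zf31) (kf xf3 yf22 zf56) (kf xf3 yf14 zf14) (kf xf4 yf43 zf47) (kf xf6 yf30 zf19) (kf xf2 yf52 zf37) (kf xf2 yf12 zf0) (kf xf6 yf30 zf25) (kf xf3 yf6 zf61) (kf xf3 yf10 zf52) (kf xf1 yf33 zf2) (kf xf6 yf30 zf27) (kf xf6 yf30 zf28) (kf xf6 yf30 zf31) (kf xf2 yf52 zf13) (kf xf2 yf52 zf14) (kf xf5 yf50 zf22) (kf xf1 yf33 zf8) (kf xf6 yf26 zf54) (kf xf2 yf52 zf10) (kf xf2 yf52 zf11) (kf xf6 yf27 zf2) (kf xf3 yf5 zf49) (kf xf3 yf8 zf1) (kf xf6 yf30 zf44) (kf xf3 yf32 zf2) (kf xf3 yf39 zf56) (kf xf3 yf39 zf55) (kf xf3 yf42 zf60) (kf xf3 yf42 zf61) (kf xf6 yf30 zf56) (kf xf3 yf24 zf24) (kf xf6 yf30 zf61) (kf xf1 yf33 zf22) (kf xf3 yf42 zf47) (kf xf6 yf9 zf18) (kf xf3 yf23 zf12) (kf xf3 yf21 zf19) (kf xf3 yf43 zf3) (kf xf3 yf43 zf4)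 (kf xf4 yf49 zf57) (kf xf3 yf42 zf53) (kf xf4 yf44 zf33) (kf xf1 yf33 zf41) (kf xf1 yf33 zf40) (kf xf6 yf11 zf25) (kf xf3 yf39 zf54) (kf xf3 yf22 zf61) (kf xf3 yf43 zf10) (kf xf3 yf43 zf11) (kf xf6 yf12 zf18) (kf xf2 yf55 zf35) (kf xf6 yf31 zf33) (kf xf3 yf43 zf16) (kf xf3 yf43 zf17)) (@D3.rec (fun _ => Pt) (kf xf6 yf31 zf39) (kf xf3 yf43 zf13) (kf xf6 yf31 zf44) (kf xf1 yf33 zf35) (kf xf3 yf43 zf21) (kf xf3 yf19 zf5) (kf xf6 yf12 zf20) (kf xf3 yf43 zf23) (kf xf3 yf19 zf6) (kf xf6 yf31 zf59) (kf xf3 yf42 zf6) (kf xf3 yf42 zf20) (kf xf6 yf32 zf4) (kf xf6 yf31 zf13) (kf xf3 yf13 zf9) (kf xf6 yf32 zf13) (kf xf1 yf33 zf39) (kf xf6 yf10 zf28) (kf xf6 yf31 zf18) (kf xf3 yf19 zf15) (kf xf6 yf32 zf23) (kf xf6 yf31 zf15) (kf xf6 yf31 zf16) (kf xf6 yf12 zf26) (kf xf4 yf44 zf20)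 (kf xf3 yf19 zf25) (kf xf6 yf32 zf34) (kf xf2 yf57 zf22) (kf xf2 yf21 zf57) (kf xf1 yf33 zf45) (kf xf4 yf44 zf24) (kf xf3 yf18 zf39) (kf xf6 yf11 zf22) (kf xf3 yf20 zf60) (kf xf3 yf22 zf0) (kf xf6 yf32 zf43) (kf xf3 yf23 zf20) (kf xf3 yf28 zf34) (kf xf4 yf49 zf42) (kf xf4 yf44 zf2) (kf xf1 yf35 zf15) (kf xf6 yf9 zf32) (kf xf4 yf44 zf3) (kf xf3 yf44 zf56) (kf xf4 yf46 zf9) (kf xf4 yf46 zf10) (kf xf3 yf1 zf15) (kf xf3 yf22 zf46) (kf xf6 yf9 zf33) (kf xf4 yf44 zf5) (kf xf1 yf50 zf1) (kf xf3 yf22 zf58) (kf xf1 yf49 zf45) (kf xf6 yf33 zf15) (kf xf4 yf44 zf12) (kf xf3 yf19 zf34) (kf xf1 yf33 zf60) (kf xf4 yf44 zf8) (kf xf6 yf11 zf16) (kf xf4 yf44 zf10) (kf xf3 yf27 zf11) (kf xf6 yf12 zf33)) (@D3.rec (fun _ => Pt) (kf xf3 yf49 zf20) (kf xf6 yf33 zf31) (kf xf6 yf12 zf35) (kf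 xf1 yf50 zf2) (kf xf6 yf33 zf36) (kf xf4 yf44 zf26) (kf xf6 yf11 zf33) (kf xf1 yf34 zf52) (kf xf6 yf33 zf43) (kf xf1 yf35 zf48) (kf xf1 yf35 zf47) (kf xf6 yf33 zf50) (kf xf1 yf34 zf14) (kf xf6 yf9 zf54) (kf xf6 yf18 zf3) (kf xf3 yf18 zf27) (kf xf6 yf10 zf23) (kf xf6 yf10 zf24) (kf xf1 yf34 zf33) (kf xf6 yf34 zf0) (kf xf3 yf35 zf56) (kf xf6 yf34 zf2) (kf xf6 yf34 zf4) (kf xf1 yf41 zf37) (kf xf3 yf37 zf49) (kf xf3 yf25 zf27) (kf xf1 yf34 zf26) (kf xf3 yf45 zf23) (kf xf3 yf16 zf46) (kf xf6 yf11 zf19) (kf xf3 yf45 zf18) (kf xf3 yf16 zf47) (kf xf6 yf34 zf22) (kf xf5 yf55 zf52) (kf xf5 yf56 zf44) (kf xf6 yf33 zf58) (kf xf3 yf45 zf10) (kf xf3 yf45 zf5) (kf xf6 yf34 zf35) (kf xf3 yf12 zf58) (kf xf3 yf45 zf35) (kf xf6 yf33 zf60) (kf xf6 yf10 zf37) (kf xf3 yf16 zf55) (kf xf6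 yf34 zf48) (kf xf6 yf34 zf49) (kf xf6 yf10 zf27) (kf xf2 yf31 zf22) (kf xf1 yf41 zf40) (kf xf3 yf28 zf52) (kf xf6 yf10 zf29) (kf xf6 yf10 zf30) (kf xf6 yf10 zf31) (kf xf6 yf10 zf32) (kf xf6 yf18 zf23) (kf xf6 yf35 zf10) (kf xf6 yf18 zf24) (kf xf1 yf35 zf9) (kf xf4 yf11 zf18) (kf xf1 yf35 zf11) (kf xf1 yf35 zf12) (kf xf6 yf35 zf21)) (@D3.rec (fun _ => Pt) (kf xf1 yf35 zf4) (kf xf4 yf11 zf15) (kf xf1 yf34 zf46) (kf xf1 yf34 zf59) (kf xf1 yf35 zf1) (kf xf1 yf35 zf2) (kf xf6 yf35 zf31) (kf xf6 yf35 zf34) (kf xf1 yf34 zf49) (kf xf6 yf35 zf36) (kf xf1 yf35 zf18) (kf xf1 yf35 zf19) (kf xf6 yf21 zf12) (kf xf6 yf33 zf39) (kf xf6 yf33 zf40) (kf xf4 yf37 zf40) (kf xf1 yf52 zf32) (kf xf6 yf35 zf58) (kf xf6 yf36 zf0) (kf xf1 yf35 zf35) (kf xf1 yf35 zf34) (kf xf6 yf36 zf8) (kf xf1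 yf34 zf54) (kf xf1 yf35 zf42) (kf xf1 yf35 zf43) (kf xf1 yf35 zf44) (kf xf1 yf35 zf40) (kf xf3 yf18 zf29) (kf xf3 yf8 zf14) (kf xf6 yf33 zf45) (kf xf3 yf8 zf12) (kf xf6 yf35 zf26) (kf xf6 yf29 zf22) (kf xf6 yf36 zf29) (kf xf4 yf47 zf56) (kf xf6 yf36 zf18) (kf xf6 yf36 zf36) (kf xf1 yf34 zf60) (kf xf3 yf45 zf9) (kf xf3 yf11 zf17) (kf xf3 yf45 zf4) (kf xf6 yf36 zf9) (kf xf6 yf2 zf12) (kf xf6 yf2 zf20) (kf xf2 yf54 zf40) (kf xf6 yf36 zf51) (kf xf3 yf15 zf28) (kf xf3 yf15 zf31) (kf xf6 yf36 zf59) (kf xf6 yf35 zf19) (kf xf6 yf35 zf18) (kf xf6 yf37 zf6) (kf xf1 yf35 zf3) (kf xf6 yf35 zf22) (kf xf6 yf35 zf23) (kf xf3 yf15 zf43) (kf xf4 yf48 zf1) (kf xf4 yf48 zf2) (kf xf6 yf35 zf24) (kf xf4 yf48 zf8) (kf xf6 yf37 zf22) (kf xf1 yf35 zf6)) (@D3.rec (fun _ => Pt) (kf xf3 yf7 zf28)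 (kf xf4 yf17 zf34) (kf xf6 yf35 zf11) (kf xf6 yf28 zf22) (kf xf6 yf37 zf33) (kf xf4 yf43 zf43) (kf xf2 yf2 zf43) (kf xf1 yf35 zf10) (kf xf6 yf35 zf2) (kf xf6 yf35 zf13) (kf xf6 yf35 zf14) (kf xf6 yf35 zf15) (kf xf6 yf37 zf46) (kf xf6 yf37 zf50) (kf xf6 yf35 zf29) (kf xf3 yf8 zf16) (kf xf6 yf37 zf58) (kf xf1 yf35 zf13) (kf xf4 yf48 zf32) (kf xf4 yf48 zf33) (kf xf6 yf32 zf50) (kf xf6 yf32 zf51) (kf xf3 yf18 zf26) (kf xf4 yf48 zf36) (kf xf6 yf35 zf32) (kf xf6 yf38 zf12) (kf xf1 yf35 zf16) (kf xf6 yf35 zf37) (kf xf6 yf35 zf38) (kf xf6 yf28 zf40) (kf xf3 yf49 zf56) (kf xf6 yf28 zf39) (kf xf6 yf38 zf28) (kf xf6 yf38 zf32) (kf xf6 yf38 zf36) (kf xf1 yf35 zf20) (kf xf6 yf28 zf23) (kf xf6 yf38 zf42) (kf xf6 yf38 zf46) (kf xf6 yf38 zf50) (kf xf1 yf35 zf23) (kf xf4 yf37 zf61)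 (kf xf4 yf38 zf0) (kf xf4 yf38 zf1) (kf xf6 yf38 zf61) (kf xf4 yf38 zf3) (kf xf4 yf38 zf5) (kf xf6 yf39 zf5) (kf xf4 yf37 zf41) (kf xf6 yf39 zf10) (kf xf4 yf38 zf7) (kf xf4 yf38 zf8) (kf xf4 yf38 zf9) (kf xf6 yf39 zf21) (kf xf6 yf39 zf8) (kf xf6 yf39 zf7) (kf xf6 yf39 zf33) (kf xf1 yf35 zf28) (kf xf6 yf10 zf43) (kf xf6 yf39 zf39) (kf xf6 yf39 zf43) (kf xf1 yf50 zf54)) (@D3.rec (fun _ => Pt) (kf xf6 yf39 zf50) (kf xf6 yf35 zf60) (kf xf6 yf35 zf59) (kf xf6 yf39 zf59) (kf xf1 yf35 zf32) (kf xf6 yf39 zf60) (kf xf6 yf36 zf2) (kf xf6 yf26 zf53) (kf xf6 yf36 zf3) (kf xf6 yf40 zf12) (kf xf5 yf4 zf9) (kf xf3 yf23 zf47) (kf xf6 yf36 zf1) (kf xf6 yf40 zf22) (kf xf6 yf36 zf6) (kf xf6 yf36 zf5) (kf xf6 yf40 zf33) (kf xf1 yf35 zf36) (kf xf1 yf35 zf38) (kf xf6 yf18 zf5) (kf xf6 yf26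 zf43) (kf xf6 yf40 zf35) (kf xf3 yf18 zf28) (kf xf3 yf45 zf11) (kf xf6 yf36 zf13) (kf xf6 yf36 zf14) (kf xf3 yf17 zf22) (kf xf3 yf15 zf15) (kf xf3 yf18 zf22) (kf xf3 yf16 zf27) (kf xf3 yf42 zf59) (kf xf3 yf18 zf33) (kf xf6 yf23 zf3) (kf xf3 yf18 zf31) (kf xf6 yf40 zf59) (kf xf6 yf36 zf10) (kf xf6 yf36 zf11) (kf xf6 yf41 zf10) (kf xf6 yf36 zf12) (kf xf3 yf14 zf31) (kf xf1 yf35 zf45) (kf xf1 yf35 zf49) (kf xf6 yf33 zf46) (kf xf6 yf33 zf47) (kf xf6 yf33 zf44) (kf xf4 yf17 zf33) (kf xf6 yf11 zf23) (kf xf6 yf33 zf48) (kf xf6 yf41 zf13) (kf xf6 yf11 zf44) (kf xf6 yf11 zf45) (kf xf3 yf1 zf41) (kf xf6 yf9 zf55) (kf xf6 yf11 zf46) (kf xf6 yf11 zf47) (kf xf6 yf11 zf48) (kf xf6 yf11 zf49) (kf xf4 yf48 zf12) (kf xf6 yf41 zf57) (kf xf1 yf36 zf3) (kf xf1 yf36 zf2) (kf xf4 yf52 zf34))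 (@D3.rec (fun _ => Pt) (kf xf1 yf35 zf59) (kf xf3 yf42 zf5) (kf xf6 yf42 zf7) (kf xf3 yf42 zf30) (kf xf4 yf7 zf13) (kf xf3 yf14 zf5) (kf xf3 yf14 zf8) (kf xf6 yf42 zf17) (kf xf6 yf41 zf55) (kf xf6 yf41 zf54) (kf xf6 yf42 zf26) (kf xf1 yf36 zf1) (kf xf5 yf39 zf54) (kf xf6 yf41 zf60) (kf xf5 yf39 zf53) (kf xf3 yf14 zf19) (kf xf4 yf45 zf30) (kf xf6 yf41 zf58) (kf xf6 yf41 zf59) (kf xf6 yf42 zf0) (kf xf6 yf41 zf61) (kf xf6 yf42 zf47) (kf xf1 yf36 zf4) (kf xf4 yf45 zf53) (kf xf4 yf45 zf54) (kf xf3 yf14 zf25) (kf xf4 yf41 zf16) (kf xf4 yf48 zf5) (kf xf4 yf50 zf4) (kf xf4 yf48 zf4) (kf xf4 yf50 zf21) (kf xf1 yf37 zf18) (kf xf4 yf48 zf37) (kf xf1 yf36 zf10) (kf xf3 yf14 zf55) (kf xf2 yf20 zf14) (kf xf3 yf8 zf52) (kf xf3 yf8 zf49) (kf xf6 yf43 zf4) (kf xf6 yf43 zf8) (kf xf1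 yf36 zf13) (kf xf2 yf22 zf61) (kf xf4 yf47 zf43) (kf xf1 yf51 zf16) (kf xf4 yf47 zf25) (kf xf4 yf47 zf26) (kf xf4 yf47 zf47) (kf xf4 yf49 zf43) (kf xf4 yf46 zf6) (kf xf1 yf51 zf17) (kf xf6 yf43 zf28) (kf xf6 yf43 zf15) (kf xf4 yf45 zf35) (kf xf6 yf43 zf36) (kf xf1 yf36 zf20) (kf xf4 yf44 zf29) (kf xf4 yf44 zf30) (kf xf6 yf42 zf51) (kf xf6 yf43 zf17) (kf xf6 yf43 zf50) (kf xf1 yf36 zf22) (kf xf4 yf48 zf30)) (@D3.rec (fun _ => Pt) (kf xf4 yf48 zf29) (kf xf4 yf48 zf34) (kf xf4 yf43 zf60) (kf xf4 yf44 zf0) (kf xf4 yf48 zf31) (kf xf2 yf20 zf12) (kf xf6 yf42 zf55) (kf xf4 yf46 zf11) (kf xf4 yf48 zf7) (kf xf3 yf11 zf30) (kf xf3 yf11 zf26) (kf xf6 yf44 zf7) (kf xf6 yf44 zf11) (kf xf1 yf36 zf30) (kf xf1 yf37 zf27) (kf xf4 yf36 zf41) (kf xf3 yf23 zf35) (kf xf6 yf44 zf18) (kf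 xf4 yf37 zf48) (kf xf4 yf37 zf49) (kf xf3 yf12 zf27) (kf xf6 yf44 zf29) (kf xf4 yf37 zf59) (kf xf1 yf36 zf34) (kf xf4 yf37 zf55) (kf xf4 yf37 zf56) (kf xf6 yf44 zf39) (kf xf4 yf37 zf51) (kf xf6 yf44 zf44) (kf xf1 yf36 zf36) (kf xf1 yf36 zf39) (kf xf1 yf36 zf38) (kf xf1 yf36 zf37) (kf xf6 yf44 zf47) (kf xf6 yf44 zf48) (kf xf6 yf44 zf49) (kf xf6 yf44 zf61) (kf xf5 yf6 zf28) (kf xf6 yf44 zf45) (kf xf5 yf6 zf27) (kf xf6 yf45 zf7) (kf xf6 yf6 zf42) (kf xf4 yf35 zf17) (kf xf4 yf49 zf22) (kf xf4 yf49 zf23) (kf xf4 yf49 zf24) (kf xf6 yf45 zf24) (kf xf4 yf49 zf18) (kf xf4 yf49 zf17) (kf xf4 yf49 zf26) (kf xf6 yf45 zf37) (kf xf3 yf2 zf39) (kf xf1 yf36 zf44) (kf xf4 yf35 zf57) (kf xf4 yf49 zf14) (kf xf4 yf49 zf15) (kf xf4 yf49 zf16) (kf xf6 yf45 zf45) (kf xf4 yf49 zf19) (kf xf5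 yf39 zf36) (kf xf3 yf14 zf33) (kf xf1 yf36 zf47)) (@D3.rec (fun _ => Pt) (kf xf4 yf49 zf33) (kf xf4 yf49 zf34) (kf xf4 yf40 zf5) (kf xf6 yf45 zf61) (kf xf4 yf49 zf29) (kf xf4 yf49 zf30) (kf xf6 yf46 zf6) (kf xf4 yf49 zf37) (kf xf4 yf49 zf36) (kf xf6 yf46 zf12) (kf xf4 yf40 zf61) (kf xf1 yf36 zf50) (kf xf4 yf33 zf55) (kf xf3 yf43 zf0) (kf xf4 yf49 zf58) (kf xf2 yf21 zf29) (kf xf3 yf42 zf7) (kf xf3 yf21 zf20) (kf xf3 yf21 zf22) (kf xf3 yf13 zf44) (kf xf3 yf21 zf17) (kf xf2 yf22 zf45) (kf xf3 yf21 zf18) (kf xf1 yf38 zf20) (kf xf1 yf38 zf21) (kf xf4 yf49 zf61) (kf xf3 yf21 zf36) (kf xf4 yf49 zf52) (kf xf4 yf49 zf51) (kf xf4 yf50 zf1) (kf xf6 yf46 zf44) (kf xf3 yf11 zf22) (kf xf3 yf21 zf37) (kf xf2 yf57 zf9) (kf xf3 yf10 zf47) (kf xf2 yf20 zf16) (kf xf3 yf21 zf26) (kf xf3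 yf21 zf32) (kf xf2 yf22 zf48) (kf xf4 yf44 zf4) (kf xf4 yf47 zf19) (kf xf4 yf45 zf27) (kf xf4 yf47 zf48) (kf xf4 yf49 zf44) (kf xf4 yf49 zf45) (kf xf4 yf47 zf22) (kf xf2 yf21 zf32) (kf xf4 yf45 zf52) (kf xf4 yf34 zf30) (kf xf4 yf49 zf49) (kf xf4 yf49 zf50) (kf xf6 yf47 zf27) (kf xf4 yf49 zf53) (kf xf6 yf47 zf31) (kf xf2 yf42 zf34) (kf xf1 yf37 zf11) (kf xf4 yf49 zf55) (kf xf4 yf49 zf56) (kf xf1 yf37 zf22) (kf xf4 yf50 zf7) (kf xf4 yf50 zf8) (kf xf3 yf24 zf19)) (@D3.rec (fun _ => Pt) (kf xf3 yf14 zf34) (kf xf4 yf50 zf9) (kf xf6 yf24 zf2) (kf xf4 yf50 zf5) (kf xf4 yf50 zf13) (kf xf4 yf50 zf14) (kf xf6 yf24 zf18) (kf xf4 yf50 zf10) (kf xf4 yf50 zf11) (kf xf4 yf50 zf16) (kf xf4 yf50 zf15) (kf xf6 yf47 zf37) (kf xf5 yf45 zf48) (kf xf3 yf1 zf7) (kf xf3 yf1 zf9) (kf xf3 yf56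 zf45) (kf xf4 yf50 zf19) (kf xf3 yf1 zf19) (kf xf3 yf1 zf20) (kf xf6 yf43 zf51) (kf xf3 yf1 zf21) (kf xf6 yf44 zf12) (kf xf4 yf48 zf6) (kf xf3 yf22 zf48) (kf xf6 yf48 zf34) (kf xf3 yf22 zf49) (kf xf6 yf48 zf40) (kf xf4 yf50 zf26) (kf xf4 yf50 zf25) (kf xf1 yf37 zf30) (kf xf2 yf18 zf34) (kf xf6 yf48 zf51) (kf xf6 yf13 zf1) (kf xf6 yf13 zf2) (kf xf6 yf13 zf3) (kf xf6 yf48 zf60) (kf xf3 yf6 zf16) (kf xf3 yf8 zf24) (kf xf3 yf6 zf20) (kf xf3 yf11 zf15) (kf xf3 yf8 zf15) (kf xf6 yf37 zf54) (kf xf6 yf40 zf7) (kf xf6 yf40 zf17) (kf xf1 yf37 zf37) (kf xf1 yf38 zf22) (kf xf3 yf14 zf47) (kf xf3 yf1 zf28) (kf xf3 yf22 zf23) (kf xf3 yf22 zf25) (kf xf1 yf48 zf35) (kf xf1 yf48 zf38) (kf xf1 yf37 zf59) (kf xf6 yf49 zf18) (kf xf3 yf25 zf31) (kf xf6 yf49 zf22) (kf xf3 yf13 zf8) (kf xf1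 yf37 zf51) (kf xf3 yf14 zf51) (kf xf3 yf44 zf49) (kf xf3 yf44 zf50) (kf xf3 yf13 zf54)) (@D3.rec (fun _ => Pt) (kf xf1 yf38 zf2) (kf xf1 yf38 zf3) (kf xf3 yf8 zf37) (kf xf1 yf38 zf0) (kf xf3 yf11 zf7) (kf xf1 yf38 zf5) (kf xf6 yf49 zf16) (kf xf6 yf46 zf18) (kf xf1 yf38 zf12) (kf xf1 yf38 zf11) (kf xf1 yf37 zf60) (kf xf6 yf49 zf45) (kf xf3 yf13 zf43) (kf xf3 yf25 zf29) (kf xf2 yf53 zf59) (kf xf6 yf49 zf53) (kf xf3 yf8 zf38) (kf xf6 yf49 zf58) (kf xf1 yf38 zf1) (kf xf1 yf40 zf61) (kf xf3 yf14 zf36) (kf xf6 yf50 zf1) (kf xf6 yf49 zf32) (kf xf2 yf55 zf34) (kf xf6 yf50 zf9) (kf xf1 yf46 zf58) (kf xf6 yf50 zf13) (kf xf1 yf38 zf4) (kf xf6 yf49 zf36) (kf xf3 yf55 zf48) (kf xf6 yf47 zf39) (kf xf4 yf45 zf28) (kf xf3 yf55 zf41) (kf xf6 yf30 zf57) (kf xf3 yf59 zf47) (kf xf3 yf20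 zf16) (kf xf3 yf59 zf39) (kf xf3 yf59 zf48) (kf xf6 yf46 zf28) (kf xf3 yf43 zf28) (kf xf3 yf50 zf60) (kf xf6 yf50 zf40) (kf xf1 yf38 zf8) (kf xf4 yf47 zf15) (kf xf4 yf58 zf49) (kf xf1 yf38 zf9) (kf xf4 yf48 zf18) (kf xf3 yf18 zf11) (kf xf6 yf49 zf43) (kf xf3 yf23 zf50) (kf xf3 yf23 zf49) (kf xf6 yf49 zf41) (kf xf6 yf49 zf42) (kf xf3 yf40 zf27) (kf xf6 yf30 zf14) (kf xf1 yf38 zf14) (kf xf3 yf42 zf4) (kf xf6 yf49 zf17) (kf xf3 yf9 zf6) (kf xf3 yf6 zf51) (kf xf3 yf59 zf42) (kf xf5 yf50 zf27)) (@D3.rec (fun _ => Pt) (kf xf3 yf59 zf44) (kf xf3 yf59 zf45) (kf xf5 yf48 zf53) (kf xf6 yf46 zf27) (kf xf6 yf46 zf25) (kf xf6 yf46 zf26) (kf xf6 yf46 zf29) (kf xf5 yf0 zf22) (kf xf1 yf59 zf58) (kf xf6 yf46 zf30) (kf xf2 yf19 zf12) (kf xf3 yf7 zf37) (kf xf6 yf49 zf7) (kf xf2 yf22 zf28)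 (kf xf2 yf19 zf8) (kf xf2 yf57 zf46) (kf xf2 yf17 zf61) (kf xf3 yf31 zf56) (kf xf2 yf21 zf0) (kf xf3 yf21 zf61) (kf xf3 yf25 zf7) (kf xf3 yf35 zf6) (kf xf3 yf31 zf57) (kf xf1 yf49 zf16) (kf xf3 yf13 zf38) (kf xf3 yf27 zf52) (kf xf1 yf49 zf17) (kf xf3 yf29 zf2) (kf xf3 yf27 zf5) (kf xf6 yf51 zf37) (kf xf1 yf38 zf51) (kf xf1 yf38 zf50) (kf xf1 yf38 zf41) (kf xf1 yf39 zf27) (kf xf1 yf39 zf28) (kf xf1 yf39 zf29) (kf xf3 yf25 zf19) (kf xf3 yf38 zf48) (kf xf1 yf39 zf43) (kf xf1 yf39 zf44) (kf xf3 yf39 zf4) (kf xf3 yf30 zf3) (kf xf3 yf25 zf20) (kf xf3 yf30 zf6) (kf xf6 yf8 zf35) (kf xf6 yf51 zf35) (kf xf3 yf30 zf37) (kf xf6 yf52 zf5) (kf xf1 yf38 zf49) (kf xf3 yf30 zf24) (kf xf6 yf51 zf39) (kf xf3 yf31 zf16) (kf xf3 yf39 zf10) (kf xf3 yf35 zf32) (kf xf6 yf51 zf38) (kf xf3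 yf54 zf43) (kf xf1 yf54 zf21) (kf xf3 yf24 zf60) (kf xf3 yf24 zf61) (kf xf3 yf39 zf2) (kf xf3 yf24 zf57) (kf xf3 yf24 zf58)) (@D3.rec (fun _ => Pt) (kf xf6 yf52 zf26) (kf xf1 yf46 zf61) (kf xf1 yf47 zf7) (kf xf1 yf39 zf3) (kf xf3 yf42 zf48) (kf xf3 yf25 zf14) (kf xf6 yf26 zf18) (kf xf3 yf24 zf20) (kf xf1 yf39 zf38) (kf xf1 yf39 zf45) (kf xf3 yf56 zf47) (kf xf3 yf32 zf8) (kf xf3 yf42 zf0) (kf xf3 yf56 zf48) (kf xf3 yf25 zf5) (kf xf6 yf52 zf45) (kf xf1 yf48 zf13) (kf xf1 yf48 zf26) (kf xf3 yf26 zf10) (kf xf3 yf24 zf36) (kf xf3 yf24 zf42) (kf xf3 yf37 zf44) (kf xf3 yf39 zf52) (kf xf3 yf31 zf53) (kf xf3 yf51 zf56) (kf xf6 yf53 zf0) (kf xf1 yf46 zf25) (kf xf3 yf15 zf25) (kf xf1 yf39 zf21) (kf xf3 yf23 zf13) (kf xf6 yf26 zf11) (kf xf3 yf22 zf54) (kf xf6 yf12 zf23) (kf xf3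 yf43 zf26) (kf xf3 yf40 zf57) (kf xf2 yf55 zf32) (kf xf6 yf52 zf8) (kf xf3 yf26 zf31) (kf xf6 yf53 zf12) (kf xf2 yf51 zf58) (kf xf5 yf51 zf23) (kf xf6 yf51 zf41) (kf xf2 yf50 zf15) (kf xf6 yf53 zf21) (kf xf3 yf40 zf25) (kf xf3 yf55 zf39) (kf xf6 yf53 zf27) (kf xf3 yf41 zf53) (kf xf6 yf51 zf49) (kf xf6 yf53 zf36) (kf xf1 yf39 zf30) (kf xf3 yf39 zf5) (kf xf1 yf44 zf28) (kf xf3 yf54 zf34) (kf xf3 yf56 zf14) (kf xf3 yf28 zf28) (kf xf6 yf53 zf43) (kf xf3 yf43 zf30) (kf xf3 yf42 zf18) (kf xf3 yf44 zf26) (kf xf6 yf27 zf28) (kf xf1 yf46 zf46)) (@D3.rec (fun _ => Pt) (kf xf4 yf44 zf32) (kf xf3 yf1 zf8) (kf xf3 yf45 zf46) (kf xf3 yf45 zf45) (kf xf6 yf51 zf46) (kf xf6 yf52 zf33) (kf xf6 yf54 zf6) (kf xf6 yf51 zf44) (kf xf6 yf51 zf27) (kf xf6 yf52 zf34) (kf xf3 yf25 zf18) (kf xf6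 yf52 zf12) (kf xf3 yf47 zf37) (kf xf6 yf54 zf23) (kf xf1 yf40 zf18) (kf xf6 yf54 zf29) (kf xf1 yf39 zf49) (kf xf1 yf40 zf26) (kf xf1 yf40 zf27) (kf xf1 yf40 zf28) (kf xf1 yf40 zf23) (kf xf1 yf43 zf46) (kf xf3 yf50 zf11) (kf xf1 yf39 zf53) (kf xf3 yf40 zf24) (kf xf3 yf55 zf55) (kf xf6 yf54 zf31) (kf xf2 yf50 zf16) (kf xf3 yf50 zf29) (kf xf3 yf50 zf27) (kf xf6 yf54 zf52) (kf xf3 yf25 zf37) (kf xf6 yf54 zf56) (kf xf3 yf54 zf36) (kf xf3 yf55 zf50) (kf xf6 yf55 zf3) (kf xf1 yf39 zf58) (kf xf3 yf34 zf59) (kf xf3 yf34 zf60) (kf xf6 yf55 zf9) (kf xf3 yf42 zf9) (kf xf3 yf40 zf51) (kf xf3 yf55 zf22) (kf xf6 yf55 zf7) (kf xf1 yf45 zf31) (kf xf6 yf55 zf21) (kf xf1 yf40 zf1) (kf xf3 yf48 zf27) (kf xf3 yf48 zf26) (kf xf3 yf55 zf46) (kf xf6 yf55 zf28) (kf xf6 yf55 zf32) (kf xf3 yf55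 zf44) (kf xf3 yf55 zf43) (kf xf6 yf55 zf41) (kf xf1 yf40 zf4) (kf xf3 yf37 zf59) (kf xf3 yf27 zf39) (kf xf3 yf31 zf40) (kf xf6 yf55 zf51) (kf xf1 yf40 zf6) (kf xf3 yf50 zf24)) (@D3.rec (fun _ => Pt) (kf xf3 yf50 zf47) (kf xf3 yf50 zf48) (kf xf3 yf36 zf33) (kf xf3 yf50 zf49) (kf xf6 yf56 zf4) (kf xf3 yf24 zf28) (kf xf6 yf56 zf9) (kf xf6 yf56 zf12) (kf xf1 yf40 zf10) (kf xf3 yf48 zf11) (kf xf3 yf48 zf12) (kf xf3 yf14 zf60) (kf xf6 yf56 zf20) (kf xf6 yf56 zf24) (kf xf6 yf56 zf28) (kf xf1 yf40 zf13) (kf xf3 yf50 zf58) (kf xf6 yf56 zf34) (kf xf5 yf59 zf58) (kf xf3 yf50 zf61) (kf xf6 yf0 zf53) (kf xf6 yf0 zf54) (kf xf6 yf54 zf24) (kf xf6 yf54 zf25) (kf xf6 yf56 zf56) (kf xf3 yf52 zf36) (kf xf3 yf52 zf37) (kf xf3 yf34 zf44) (kf xf6 yf54 zf27) (kf xf6 yf54 zf26) (kf xf6 yf57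 zf14) (kf xf1 yf40 zf20) (kf xf1 yf43 zf24) (kf xf3 yf27 zf34) (kf xf3 yf27 zf33) (kf xf3 yf40 zf26) (kf xf3 yf52 zf6) (kf xf6 yf54 zf35) (kf xf3 yf27 zf40) (kf xf3 yf26 zf57) (kf xf3 yf27 zf38) (kf xf1 yf44 zf26) (kf xf1 yf45 zf6) (kf xf3 yf51 zf57) (kf xf3 yf42 zf22) (kf xf6 yf54 zf30) (kf xf3 yf35 zf17) (kf xf6 yf54 zf32) (kf xf6 yf54 zf33) (kf xf3 yf35 zf18) (kf xf6 yf54 zf34) (kf xf3 yf31 zf54) (kf xf3 yf24 zf25) (kf xf3 yf31 zf50) (kf xf3 yf31 zf52) (kf xf3 yf31 zf58) (kf xf3 yf28 zf30) (kf xf1 yf55 zf3) (kf xf3 yf31 zf59) (kf xf1 yf45 zf11) (kf xf3 yf28 zf8) (kf xf3 yf28 zf0)) (@D3.rec (fun _ => Pt) (kf xf3 yf27 zf61) (kf xf1 yf45 zf20) (kf xf3 yf28 zf11) (kf xf3 yf28 zf5) (kf xf3 yf28 zf6) (kf xf3 yf28 zf3) (kf xf3 yf28 zf4) (kf xf1 yf43 zf27) (kf xf3 yf27 zf60)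 (kf xf1 yf55 zf9) (kf xf1 yf43 zf33) (kf xf3 yf28 zf2) (kf xf1 yf53 zf32) (kf xf1 yf47 zf52) (kf xf1 yf54 zf61) (kf xf1 yf41 zf15) (kf xf6 yf58 zf47) (kf xf1 yf42 zf3) (kf xf1 yf42 zf2) (kf xf1 yf40 zf46) (kf xf1 yf49 zf25) (kf xf1 yf53 zf27) (kf xf3 yf35 zf26) (kf xf1 yf53 zf28) (kf xf6 yf58 zf55) (kf xf6 yf52 zf46) (kf xf1 yf40 zf52) (kf xf3 yf7 zf60) (kf xf3 yf25 zf55) (kf xf3 yf32 zf9) (kf xf3 yf27 zf56) (kf xf1 yf40 zf57) (kf xf6 yf58 zf60) (kf xf1 yf49 zf41) (kf xf3 yf14 zf37) (kf xf6 yf59 zf3) (kf xf3 yf7 zf61) (kf xf4 yf11 zf56) (kf xf1 yf41 zf0) (kf xf6 yf37 zf1) (kf xf6 yf29 zf60) (kf xf6 yf59 zf8) (kf xf1 yf41 zf2) (kf xf3 yf8 zf17) (kf xf3 yf34 zf24) (kf xf3 yf9 zf0) (kf xf1 yf41 zf6) (kf xf3 yf34 zf30) (kf xf6 yf58 zf51) (kf xf6 yf59 zf19) (kf xf6 yf59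 zf22) (kf xf1 yf41 zf8) (kf xf3 yf15 zf49) (kf xf1 yf43 zf57) (kf xf1 yf50 zf31) (kf xf3 yf8 zf13) (kf xf6 yf59 zf29) (kf xf1 yf41 zf12) (kf xf3 yf53 zf38) (kf xf3 yf32 zf16) (kf xf3 yf39 zf49) (kf xf3 yf39 zf50)) (@D3.rec (fun _ => Pt) (kf xf6 yf58 zf41) (kf xf6 yf58 zf42) (kf xf3 yf24 zf27) (kf xf3 yf50 zf13) (kf xf6 yf59 zf54) (kf xf6 yf59 zf58) (kf xf1 yf41 zf51) (kf xf1 yf41 zf50) (kf xf7 yf0 zf4) (kf xf1 yf41 zf17) (kf xf1 yf41 zf59) (kf xf1 yf41 zf60) (kf xf1 yf41 zf61) (kf xf3 yf37 zf36) (kf xf1 yf41 zf55) (kf xf1 yf41 zf56) (kf xf1 yf41 zf57) (kf xf3 yf37 zf43) (kf xf1 yf49 zf33) (kf xf3 yf32 zf7) (kf xf1 yf49 zf57) (kf xf7 yf0 zf21) (kf xf1 yf49 zf60) (kf xf7 yf0 zf7) (kf xf3 yf37 zf45) (kf xf1 yf50 zf4) (kf xf1 yf50 zf5) (kf xf6 yf46 zf61) (kf xf1 yf50 zf30)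 (kf xf3 yf37 zf46) (kf xf7 yf0 zf39) (kf xf1 yf50 zf15) (kf xf1 yf50 zf16) (kf xf3 yf38 zf53) (kf xf3 yf45 zf1) (kf xf1 yf47 zf46) (kf xf1 yf41 zf31) (kf xf1 yf50 zf24) (kf xf1 yf50 zf25) (kf xf1 yf50 zf26) (kf xf1 yf50 zf27) (kf xf7 yf0 zf57) (kf xf7 yf0 zf61) (kf xf1 yf50 zf8) (kf xf1 yf50 zf7) (kf xf7 yf1 zf9) (kf xf1 yf41 zf34) (kf xf1 yf50 zf11) (kf xf3 yf32 zf26) (kf xf6 yf34 zf5) (kf xf6 yf34 zf6) (kf xf6 yf34 zf7) (kf xf3 yf40 zf45) (kf xf1 yf52 zf28) (kf xf3 yf37 zf47) (kf xf7 yf1 zf30) (kf xf3 yf37 zf48) (kf xf5 yf58 zf40) (kf xf6 yf34 zf54) (kf xf6 yf34 zf55) (kf xf1 yf52 zf30) (kf xf7 yf1 zf40)) (@D3.rec (fun _ => Pt) (kf xf7 yf1 zf44) (kf xf7 yf1 zf48) (kf xf1 yf41 zf42) (kf xf3 yf24 zf41) (kf xf3 yf37 zf52) (kf xf7 yf1 zf56) (kf xf3 yf24 zf43) (kf xf3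 yf0 zf36) (kf xf7 yf1 zf54) (kf xf7 yf1 zf53) (kf xf7 yf2 zf5) (kf xf1 yf41 zf46) (kf xf6 yf10 zf11) (kf xf6 yf19 zf27) (kf xf6 yf59 zf56) (kf xf6 yf59 zf55) (kf xf7 yf2 zf20) (kf xf1 yf41 zf48) (kf xf7 yf2 zf21) (kf xf7 yf0 zf0) (kf xf6 yf34 zf3) (kf xf7 yf0 zf1) (kf xf7 yf2 zf39) (kf xf6 yf59 zf59) (kf xf3 yf24 zf49) (kf xf6 yf59 zf60) (kf xf3 yf37 zf38) (kf xf3 yf52 zf2) (kf xf7 yf0 zf2) (kf xf7 yf2 zf59) (kf xf1 yf41 zf52) (kf xf1 yf41 zf54) (kf xf6 yf58 zf45) (kf xf6 yf58 zf44) (kf xf7 yf2 zf61) (kf xf1 yf48 zf58) (kf xf6 yf58 zf54) (kf xf3 yf24 zf46) (kf xf7 yf0 zf12) (kf xf7 yf3 zf19) (kf xf1 yf49 zf59) (kf xf6 yf33 zf35) (kf xf7 yf0 zf13) (kf xf7 yf3 zf30) (kf xf1 yf50 zf34) (kf xf7 yf0 zf14) (kf xf1 yf43 zf44) (kf xf1 yf47 zf58) (kf xf1 yf53 zf22) (kf xf1 yf41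 zf58) (kf xf1 yf42 zf60) (kf xf3 yf35 zf37) (kf xf3 yf35 zf48) (kf xf7 yf0 zf5) (kf xf3 yf37 zf33) (kf xf7 yf0 zf8) (kf xf7 yf0 zf9) (kf xf3 yf37 zf34) (kf xf7 yf0 zf11) (kf xf3 yf37 zf35) (kf xf3 yf40 zf60) (kf xf6 yf58 zf49)) (@D3.rec (fun _ => Pt) (kf xf3 yf38 zf23) (kf xf3 yf35 zf61) (kf xf6 yf58 zf48) (kf xf1 yf43 zf48) (kf xf1 yf53 zf25) (kf xf1 yf46 zf47) (kf xf6 yf52 zf22) (kf xf1 yf53 zf30) (kf xf1 yf53 zf31) (kf xf1 yf53 zf33) (kf xf1 yf42 zf10) (kf xf1 yf42 zf9) (kf xf1 yf42 zf8) (kf xf3 yf35 zf58) (kf xf7 yf4 zf13) (kf xf3 yf31 zf32) (kf xf3 yf24 zf51) (kf xf3 yf32 zf3) (kf xf7 yf4 zf12) (kf xf1 yf53 zf56) (kf xf3 yf31 zf21) (kf xf3 yf31 zf20) (kf xf1 yf47 zf24) (kf xf3 yf31 zf38) (kf xf3 yf31 zf39) (kf xf6 yf55 zf46) (kf xf1 yf47 zf34) (kf xf3 yf31 zf42)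 (kf xf3 yf31 zf43) (kf xf7 yf4 zf42) (kf xf3 yf31 zf45) (kf xf3 yf31 zf47) (kf xf3 yf31 zf15) (kf xf1 yf47 zf53) (kf xf1 yf42 zf19) (kf xf1 yf46 zf32) (kf xf1 yf45 zf49) (kf xf1 yf48 zf61) (kf xf3 yf31 zf23) (kf xf3 yf31 zf24) (kf xf3 yf26 zf58) (kf xf1 yf49 zf5) (kf xf3 yf31 zf27) (kf xf3 yf31 zf28) (kf xf3 yf38 zf3) (kf xf3 yf31 zf30) (kf xf1 yf49 zf18) (kf xf3 yf31 zf31) (kf xf1 yf49 zf15) (kf xf1 yf45 zf57) (kf xf3 yf27 zf53) (kf xf3 yf35 zf10) (kf xf3 yf27 zf54) (kf xf3 yf25 zf23) (kf xf3 yf27 zf51) (kf xf1 yf49 zf14) (kf xf3 yf24 zf17) (kf xf3 yf24 zf22) (kf xf3 yf27 zf55) (kf xf3 yf27 zf58) (kf xf7 yf5 zf27) (kf xf1 yf43 zf53)) (@D3.rec (fun _ => Pt) (kf xf3 yf38 zf4) (kf xf1 yf42 zf41) (kf xf3 yf13 zf32) (kf xf3 yf31 zf17) (kf xf6 yf53 zf41) (kf xf1 yf53 zf17)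 (kf xf1 yf42 zf43) (kf xf3 yf29 zf19) (kf xf3 yf25 zf11) (kf xf3 yf28 zf29) (kf xf3 yf36 zf0) (kf xf3 yf36 zf42) (kf xf1 yf42 zf47) (kf xf3 yf35 zf36) (kf xf3 yf35 zf39) (kf xf3 yf33 zf7) (kf xf3 yf28 zf59) (kf xf3 yf35 zf41) (kf xf3 yf35 zf42) (kf xf7 yf5 zf41) (kf xf3 yf35 zf46) (kf xf3 yf36 zf9) (kf xf3 yf36 zf8) (kf xf7 yf5 zf51) (kf xf1 yf42 zf53) (kf xf3 yf36 zf12) (kf xf3 yf29 zf48) (kf xf3 yf35 zf53) (kf xf1 yf53 zf18) (kf xf1 yf43 zf14) (kf xf3 yf36 zf14) (kf xf3 yf36 zf13) (kf xf3 yf38 zf9) (kf xf3 yf38 zf10) (kf xf1 yf42 zf59) (kf xf3 yf36 zf3) (kf xf3 yf36 zf4) (kf xf3 yf36 zf5) (kf xf7 yf6 zf8) (kf xf4 yf24 zf18) (kf xf3 yf35 zf49) (kf xf7 yf6 zf16) (kf xf1 yf43 zf1) (kf xf3 yf35 zf52) (kf xf1 yf51 zf54) (kf xf3 yf36 zf17) (kf xf3 yf33 zf43) (kf xf7 yf6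 zf29) (kf xf7 yf6 zf33) (kf xf1 yf43 zf39) (kf xf1 yf43 zf38) (kf xf7 yf6 zf42) (kf xf1 yf43 zf6) (kf xf1 yf43 zf47) (kf xf1 yf43 zf42) (kf xf1 yf43 zf43) (kf xf1 yf51 zf51) (kf xf1 yf44 zf6) (kf xf1 yf44 zf5) (kf xf7 yf5 zf58) (kf xf3 yf34 zf49) (kf xf1 yf54 zf39)) (@D3.rec (fun _ => Pt) (kf xf6 yf30 zf42) (kf xf3 yf53 zf25) (kf xf1 yf43 zf15) (kf xf7 yf6 zf43) (kf xf3 yf36 zf37) (kf xf2 yf8 zf60) (kf xf7 yf7 zf5) (kf xf3 yf32 zf15) (kf xf7 yf7 zf11) (kf xf3 yf36 zf50) (kf xf3 yf36 zf49) (kf xf7 yf7 zf20) (kf xf1 yf43 zf19) (kf xf3 yf36 zf53) (kf xf1 yf49 zf23) (kf xf3 yf34 zf35) (kf xf3 yf53 zf28) (kf xf1 yf51 zf12) (kf xf1 yf52 zf60) (kf xf3 yf36 zf44) (kf xf3 yf36 zf45) (kf xf3 yf36 zf46) (kf xf6 yf58 zf26) (kf xf7 yf7 zf41) (kf xf3 yf36 zf40) (kf xf6 yf58 zf27)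 (kf xf3 yf36 zf54) (kf xf3 yf36 zf55) (kf xf3 yf36 zf56) (kf xf1 yf51 zf42) (kf xf3 yf36 zf57) (kf xf7 yf7 zf56) (kf xf5 yf41 zf31) (kf xf7 yf8 zf1) (kf xf1 yf43 zf30) (kf xf3 yf4 zf24) (kf xf3 yf36 zf61) (kf xf2 yf9 zf5) (kf xf6 yf58 zf31) (kf xf7 yf8 zf10) (kf xf6 yf58 zf32) (kf xf3 yf4 zf13) (kf xf5 yf47 zf22) (kf xf3 yf32 zf46) (kf xf7 yf8 zf20) (kf xf7 yf6 zf31) (kf xf7 yf6 zf30) (kf xf7 yf8 zf30) (kf xf1 yf43 zf37) (kf xf7 yf6 zf36) (kf xf3 yf48 zf17) (kf xf7 yf6 zf37) (kf xf6 yf58 zf37) (kf xf7 yf6 zf34) (kf xf1 yf53 zf50) (kf xf7 yf6 zf35) (kf xf7 yf8 zf54) (kf xf7 yf6 zf40) (kf xf7 yf6 zf39) (kf xf7 yf9 zf5) (kf xf1 yf43 zf40) (kf xf1 yf54 zf29)) (@D3.rec (fun _ => Pt) (kf xf6 yf54 zf37) (kf xf1 yf53 zf47) (kf xf7 yf3 zf16) (kf xf3 yf38 zf51) (kf xf3 yf36 zf32)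 (kf xf7 yf6 zf46) (kf xf7 yf6 zf47) (kf xf3 yf38 zf57) (kf xf1 yf50 zf13) (kf xf7 yf3 zf35) (kf xf1 yf51 zf23) (kf xf6 yf54 zf36) (kf xf7 yf9 zf35) (kf xf7 yf6 zf44) (kf xf7 yf6 zf45) (kf xf7 yf9 zf43) (kf xf7 yf4 zf2) (kf xf1 yf43 zf49) (kf xf1 yf50 zf41) (kf xf1 yf50 zf44) (kf xf1 yf46 zf48) (kf xf1 yf50 zf50) (kf xf3 yf55 zf37) (kf xf1 yf50 zf14) (kf xf3 yf28 zf44) (kf xf1 yf50 zf18) (kf xf1 yf50 zf17) (kf xf1 yf45 zf45) (kf xf1 yf50 zf28) (kf xf1 yf50 zf32) (kf xf3 yf28 zf47) (kf xf7 yf10 zf8) (kf xf3 yf36 zf15) (kf xf3 yf36 zf16) (kf xf7 yf10 zf17) (kf xf3 yf33 zf15) (kf xf1 yf44 zf4) (kf xf7 yf6 zf52) (kf xf7 yf6 zf53) (kf xf1 yf52 zf52) (kf xf7 yf6 zf50) (kf xf7 yf6 zf51) (kf xf7 yf10 zf34) (kf xf7 yf10 zf38) (kf xf3 yf27 zf27) (kf xf6 yf53 zf40) (kf xf7 yf10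 zf45) (kf xf1 yf44 zf7) (kf xf3 yf37 zf51) (kf xf3 yf32 zf60) (kf xf7 yf10 zf52) (kf xf1 yf44 zf8) (kf xf3 yf52 zf58) (kf xf3 yf35 zf1) (kf xf1 yf47 zf49) (kf xf3 yf35 zf3) (kf xf3 yf35 zf4) (kf xf1 yf47 zf56) (kf xf1 yf54 zf32) (kf xf3 yf26 zf37) (kf xf3 yf26 zf38) (kf xf3 yf40 zf18)) (@D3.rec (fun _ => Pt) (kf xf1 yf51 zf8) (kf xf3 yf34 zf53) (kf xf3 yf56 zf44) (kf xf3 yf34 zf55) (kf xf3 yf34 zf56) (kf xf1 yf48 zf22) (kf xf3 yf24 zf21) (kf xf3 yf9 zf5) (kf xf3 yf9 zf7) (kf xf3 yf11 zf1) (kf xf3 yf31 zf51) (kf xf1 yf48 zf30) (kf xf1 yf49 zf10) (kf xf1 yf49 zf11) (kf xf1 yf49 zf12) (kf xf6 yf57 zf18) (kf xf6 yf57 zf36) (kf xf3 yf27 zf46) (kf xf3 yf27 zf49) (kf xf3 yf9 zf42) (kf xf6 yf9 zf57) (kf xf3 yf9 zf44) (kf xf3 yf11 zf3) (kf xf3 yf9 zf39) (kf xf3 yf9 zf38) (kf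 xf1 yf44 zf32) (kf xf3 yf28 zf22) (kf xf1 yf46 zf37) (kf xf1 yf46 zf43) (kf xf1 yf46 zf44) (kf xf1 yf46 zf45) (kf xf7 yf4 zf32) (kf xf3 yf24 zf53) (kf xf7 yf2 zf30) (kf xf1 yf44 zf38) (kf xf7 yf8 zf36) (kf xf3 yf32 zf13) (kf xf3 yf30 zf51) (kf xf1 yf44 zf41) (kf xf3 yf32 zf14) (kf xf6 yf59 zf33) (kf xf3 yf32 zf17) (kf xf3 yf32 zf18) (kf xf2 yf9 zf30) (kf xf7 yf12 zf6) (kf xf1 yf51 zf35) (kf xf3 yf32 zf20) (kf xf2 yf9 zf38) (kf xf3 yf30 zf52) (kf xf3 yf32 zf40) (kf xf7 yf12 zf20) (kf xf1 yf44 zf45) (kf xf3 yf32 zf43) (kf xf3 yf32 zf27) (kf xf3 yf49 zf49) (kf xf7 yf9 zf52) (kf xf3 yf15 zf20) (kf xf6 yf52 zf61) (kf xf3 yf31 zf13) (kf xf1 yf44 zf50) (kf xf3 yf1 zf33) (kf xf3 yf31 zf1)) (@D3.rec (fun _ => Pt) (kf xf3 yf32 zf10) (kf xf1 yf54 zf36) (kf xf1 yf44 zf53) (kf xf3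 yf32 zf35) (kf xf3 yf32 zf36) (kf xf3 yf32 zf37) (kf xf7 yf12 zf34) (kf xf2 yf9 zf36) (kf xf3 yf32 zf22) (kf xf3 yf32 zf21) (kf xf7 yf12 zf45) (kf xf1 yf44 zf57) (kf xf3 yf32 zf25) (kf xf3 yf32 zf31) (kf xf3 yf32 zf30) (kf xf3 yf34 zf32) (kf xf3 yf34 zf33) (kf xf3 yf32 zf45) (kf xf7 yf12 zf61) (kf xf1 yf45 zf28) (kf xf1 yf45 zf27) (kf xf7 yf13 zf7) (kf xf1 yf45 zf0) (kf xf1 yf45 zf33) (kf xf1 yf45 zf34) (kf xf1 yf45 zf32) (kf xf1 yf45 zf37) (kf xf7 yf13 zf17) (kf xf1 yf45 zf3) (kf xf3 yf46 zf57) (kf xf3 yf37 zf54) (kf xf1 yf51 zf34) (kf xf3 yf34 zf4) (kf xf3 yf27 zf2) (kf xf7 yf13 zf8) (kf xf3 yf4 zf33) (kf xf3 yf4 zf36) (kf xf3 yf33 zf4) (kf xf6 yf58 zf8) (kf xf1 yf53 zf8) (kf xf3 yf33 zf24) (kf xf6 yf58 zf9) (kf xf3 yf32 zf11) (kf xf1 yf45 zf12) (kf xf3 yf33 zf19)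 (kf xf3 yf33 zf20) (kf xf3 yf33 zf21) (kf xf7 yf13 zf48) (kf xf4 yf32 zf55) (kf xf3 yf33 zf10) (kf xf3 yf33 zf9) (kf xf7 yf13 zf59) (kf xf1 yf45 zf15) (kf xf3 yf33 zf13) (kf xf3 yf33 zf26) (kf xf3 yf33 zf27) (kf xf3 yf33 zf28) (kf xf3 yf33 zf30) (kf xf6 yf58 zf14) (kf xf7 yf14 zf15) (kf xf6 yf58 zf15) (kf xf3 yf33 zf36)) (@D3.rec (fun _ => Pt) (kf xf7 yf14 zf22) (kf xf7 yf14 zf26) (kf xf1 yf45 zf23) (kf xf4 yf0 zf37) (kf xf7 yf8 zf18) (kf xf7 yf8 zf17) (kf xf7 yf14 zf38) (kf xf1 yf45 zf26) (kf xf7 yf13 zf2) (kf xf7 yf13 zf3) (kf xf7 yf13 zf0) (kf xf7 yf13 zf1) (kf xf3 yf53 zf48) (kf xf7 yf13 zf5) (kf xf7 yf13 zf4) (kf xf7 yf15 zf4) (kf xf1 yf45 zf29) (kf xf1 yf54 zf12) (kf xf1 yf51 zf36) (kf xf7 yf13 zf11) (kf xf7 yf13 zf12) (kf xf1 yf52 zf12) (kf xf3 yf49 zf35) (kf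 xf1 yf50 zf35) (kf xf3 yf53 zf40) (kf xf7 yf13 zf9) (kf xf7 yf13 zf10) (kf xf3 yf53 zf43) (kf xf1 yf50 zf39) (kf xf1 yf46 zf51) (kf xf6 yf55 zf19) (kf xf7 yf13 zf13) (kf xf1 yf46 zf24) (kf xf3 yf30 zf54) (kf xf3 yf30 zf57) (kf xf3 yf30 zf59) (kf xf3 yf29 zf13) (kf xf7 yf13 zf14) (kf xf3 yf30 zf26) (kf xf7 yf5 zf12) (kf xf7 yf15 zf51) (kf xf1 yf45 zf39) (kf xf3 yf55 zf54) (kf xf3 yf29 zf17) (kf xf3 yf25 zf21) (kf xf3 yf29 zf24) (kf xf3 yf29 zf29) (kf xf3 yf29 zf54) (kf xf3 yf29 zf56) (kf xf3 yf15 zf24) (kf xf7 yf9 zf61) (kf xf3 yf34 zf48) (kf xf3 yf30 zf4) (kf xf3 yf39 zf8) (kf xf3 yf36 zf30) (kf xf7 yf16 zf16) (kf xf1 yf45 zf47) (kf xf7 yf4 zf50) (kf xf1 yf54 zf28) (kf xf3 yf26 zf56) (kf xf1 yf52 zf18) (kf xf3 yf38 zf0)) (@D3.rec (fun _ => Pt) (kf xf3 yf37 zf61) (kf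 xf3 yf56 zf49) (kf xf1 yf46 zf54) (kf xf3 yf31 zf44) (kf xf3 yf32 zf0) (kf xf7 yf5 zf29) (kf xf3 yf39 zf15) (kf xf7 yf13 zf43) (kf xf1 yf46 zf0) (kf xf3 yf32 zf32) (kf xf3 yf32 zf33) (kf xf6 yf26 zf47) (kf xf3 yf39 zf17) (kf xf3 yf38 zf32) (kf xf7 yf16 zf51) (kf xf7 yf16 zf53) (kf xf1 yf46 zf18) (kf xf1 yf46 zf17) (kf xf7 yf16 zf61) (kf xf1 yf46 zf7) (kf xf1 yf46 zf26) (kf xf1 yf46 zf21) (kf xf1 yf46 zf22) (kf xf3 yf31 zf0) (kf xf3 yf39 zf20) (kf xf3 yf39 zf21) (kf xf7 yf17 zf13) (kf xf7 yf17 zf16) (kf xf1 yf46 zf12) (kf xf7 yf17 zf20) (kf xf7 yf17 zf23) (kf xf1 yf46 zf14) (kf xf3 yf38 zf13) (kf xf7 yf17 zf27) (kf xf5 yf53 zf50) (kf xf5 yf13 zf37) (kf xf7 yf17 zf35) (kf xf1 yf46 zf16) (kf xf7 yf16 zf56) (kf xf7 yf16 zf57) (kf xf7 yf14 zf56) (kf xf7 yf16 zf54) (kf xf7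 yf16 zf55) (kf xf7 yf17 zf52) (kf xf7 yf8 zf43) (kf xf7 yf16 zf59) (kf xf7 yf18 zf1) (kf xf1 yf46 zf19) (kf xf3 yf24 zf37) (kf xf6 yf34 zf1) (kf xf1 yf47 zf43) (kf xf3 yf34 zf3) (kf xf7 yf15 zf29) (kf xf3 yf29 zf33) (kf xf7 yf17 zf3) (kf xf7 yf17 zf4) (kf xf7 yf15 zf33) (kf xf3 yf34 zf7) (kf xf3 yf56 zf50) (kf xf7 yf12 zf28) (kf xf7 yf17 zf0) (kf xf7 yf17 zf1)) (@D3.rec (fun _ => Pt) (kf xf7 yf18 zf29) (kf xf3 yf56 zf51) (kf xf3 yf24 zf59) (kf xf1 yf46 zf28) (kf xf3 yf24 zf40) (kf xf3 yf25 zf51) (kf xf3 yf43 zf44) (kf xf1 yf49 zf35) (kf xf3 yf37 zf53) (kf xf7 yf4 zf49) (kf xf3 yf24 zf52) (kf xf3 yf55 zf32) (kf xf1 yf53 zf7) (kf xf1 yf46 zf34) (kf xf1 yf53 zf20) (kf xf3 yf38 zf6) (kf xf1 yf46 zf35) (kf xf3 yf38 zf12) (kf xf7 yf11 zf47) (kf xf7 yf11 zf48) (kf xf3 yf38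 zf24) (kf xf3 yf38 zf25) (kf xf3 yf4 zf18) (kf xf7 yf18 zf61) (kf xf7 yf19 zf3) (kf xf1 yf46 zf39) (kf xf3 yf4 zf30) (kf xf3 yf4 zf29) (kf xf7 yf19 zf9) (kf xf7 yf19 zf12) (kf xf1 yf46 zf41) (kf xf7 yf17 zf25) (kf xf4 yf2 zf6) (kf xf7 yf19 zf21) (kf xf1 yf46 zf42) (kf xf7 yf11 zf49) (kf xf7 yf4 zf9) (kf xf7 yf8 zf57) (kf xf7 yf11 zf51) (kf xf7 yf4 zf10) (kf xf7 yf19 zf32) (kf xf3 yf53 zf45) (kf xf3 yf53 zf47) (kf xf7 yf11 zf52) (kf xf7 yf9 zf47) (kf xf7 yf4 zf4) (kf xf7 yf4 zf5) (kf xf7 yf9 zf50) (kf xf7 yf15 zf17) (kf xf3 yf28 zf60) (kf xf3 yf28 zf61) (kf xf7 yf15 zf28) (kf xf3 yf25 zf22) (kf xf7 yf16 zf34) (kf xf3 yf13 zf53) (kf xf3 yf13 zf34) (kf xf3 yf13 zf33) (kf xf6 yf50 zf54) (kf xf6 yf50 zf10) (kf xf3 yf42 zf32) (kf xf3 yf42 zf31) (kf xf3 yf6 zf19)) (@D3.rec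 (fun _ => Pt) (kf xf3 yf42 zf34) (kf xf3 yf42 zf33) (kf xf6 yf9 zf25) (kf xf3 yf40 zf52) (kf xf7 yf20 zf17) (kf xf3 yf42 zf13) (kf xf3 yf42 zf14) (kf xf3 yf42 zf15) (kf xf3 yf42 zf16) (kf xf7 yf20 zf28) (kf xf3 yf42 zf19) (kf xf7 yf20 zf34) (kf xf3 yf42 zf42) (kf xf3 yf42 zf41) (kf xf7 yf20 zf43) (kf xf1 yf47 zf3) (kf xf3 yf42 zf45) (kf xf1 yf54 zf34) (kf xf3 yf34 zf61) (kf xf3 yf55 zf58) (kf xf3 yf42 zf50) (kf xf3 yf42 zf49) (kf xf6 yf52 zf27) (kf xf6 yf52 zf28) (kf xf3 yf26 zf24) (kf xf3 yf25 zf44) (kf xf3 yf27 zf35) (kf xf3 yf23 zf53) (kf xf1 yf47 zf11) (kf xf3 yf42 zf36) (kf xf3 yf42 zf37) (kf xf3 yf42 zf38) (kf xf3 yf56 zf29) (kf xf7 yf21 zf17) (kf xf3 yf42 zf23) (kf xf3 yf56 zf30) (kf xf3 yf42 zf54) (kf xf3 yf42 zf55) (kf xf7 yf21 zf31) (kf xf7 yf21 zf35) (kf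 xf1 yf47 zf42) (kf xf7 yf21 zf41) (kf xf1 yf47 zf17) (kf xf1 yf47 zf51) (kf xf1 yf47 zf47) (kf xf3 yf29 zf52) (kf xf7 yf21 zf42) (kf xf3 yf43 zf33) (kf xf3 yf43 zf34) (kf xf3 yf43 zf36) (kf xf7 yf4 zf25) (kf xf3 yf26 zf41) (kf xf3 yf40 zf3) (kf xf7 yf22 zf0) (kf xf3 yf43 zf52) (kf xf3 yf43 zf51) (kf xf7 yf4 zf26) (kf xf3 yf25 zf34) (kf xf7 yf4 zf15) (kf xf3 yf44 zf52) (kf xf3 yf30 zf60) (kf xf1 yf47 zf26)) (@D3.rec (fun _ => Pt) (kf xf3 yf43 zf46) (kf xf3 yf43 zf47) (kf xf3 yf43 zf48) (kf xf7 yf22 zf22) (kf xf7 yf22 zf26) (kf xf3 yf43 zf40) (kf xf3 yf43 zf39) (kf xf7 yf22 zf36) (kf xf1 yf47 zf29) (kf xf3 yf43 zf43) (kf xf3 yf43 zf54) (kf xf3 yf43 zf55) (kf xf3 yf43 zf56) (kf xf3 yf43 zf57) (kf xf7 yf4 zf31) (kf xf7 yf22 zf58) (kf xf7 yf4 zf33) (kf xf3 yf44 zf0) (kf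 xf3 yf44 zf1) (kf xf3 yf44 zf2) (kf xf3 yf10 zf6) (kf xf7 yf23 zf11) (kf xf7 yf23 zf15) (kf xf7 yf23 zf18) (kf xf1 yf47 zf37) (kf xf3 yf44 zf6) (kf xf5 yf44 zf11) (kf xf3 yf44 zf8) (kf xf7 yf23 zf29) (kf xf3 yf44 zf10) (kf xf7 yf23 zf36) (kf xf7 yf21 zf33) (kf xf7 yf21 zf32) (kf xf7 yf23 zf48) (kf xf1 yf47 zf41) (kf xf7 yf21 zf36) (kf xf7 yf21 zf37) (kf xf7 yf10 zf60) (kf xf7 yf18 zf4) (kf xf7 yf18 zf5) (kf xf7 yf4 zf40) (kf xf7 yf21 zf39) (kf xf7 yf21 zf38) (kf xf7 yf24 zf12) (kf xf1 yf47 zf44) (kf xf3 yf53 zf11) (kf xf7 yf9 zf33) (kf xf3 yf43 zf31) (kf xf7 yf17 zf45) (kf xf7 yf21 zf45) (kf xf7 yf10 zf58) (kf xf3 yf54 zf33) (kf xf1 yf54 zf20) (kf xf3 yf25 zf47) (kf xf3 yf44 zf61) (kf xf7 yf4 zf47) (kf xf7 yf21 zf43) (kf xf7 yf21 zf44) (kf xf7 yf4 zf48) (kf xf6 yf58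 zf40) (kf xf3 yf42 zf1) (kf xf7 yf11 zf1)) (@D3.rec (fun _ => Pt) (kf xf3 yf25 zf12) (kf xf3 yf41 zf60) (kf xf7 yf2 zf37) (kf xf6 yf21 zf61) (kf xf3 yf23 zf56) (kf xf3 yf19 zf1) (kf xf3 yf14 zf10) (kf xf3 yf21 zf16) (kf xf1 yf48 zf3) (kf xf3 yf26 zf40) (kf xf3 yf54 zf30) (kf xf1 yf51 zf60) (kf xf7 yf25 zf6) (kf xf3 yf40 zf5) (kf xf3 yf40 zf6) (kf xf3 yf40 zf7) (kf xf3 yf40 zf8) (kf xf3 yf56 zf7) (kf xf3 yf25 zf58) (kf xf3 yf40 zf10) (kf xf3 yf14 zf11) (kf xf7 yf25 zf26) (kf xf3 yf27 zf44) (kf xf3 yf40 zf34) (kf xf3 yf56 zf8) (kf xf7 yf9 zf46) (kf xf6 yf53 zf42) (kf xf7 yf6 zf60) (kf xf1 yf48 zf11) (kf xf6 yf51 zf23) (kf xf3 yf19 zf3) (kf xf3 yf39 zf60) (kf xf3 yf39 zf59) (kf xf3 yf40 zf1) (kf xf3 yf40 zf0) (kf xf6 yf26 zf10) (kf xf3 yf40 zf29) (kf xf3 yf40 zf30) (kf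 xf3 yf40 zf31) (kf xf7 yf25 zf57) (kf xf4 yf57 zf31) (kf xf3 yf40 zf13) (kf xf3 yf40 zf12) (kf xf7 yf26 zf6) (kf xf1 yf48 zf20) (kf xf3 yf40 zf16) (kf xf7 yf11 zf20) (kf xf3 yf13 zf41) (kf xf3 yf25 zf4) (kf xf3 yf40 zf21) (kf xf3 yf40 zf20) (kf xf6 yf52 zf47) (kf xf6 yf52 zf48) (kf xf3 yf13 zf48) (kf xf3 yf40 zf36) (kf xf3 yf40 zf37) (kf xf7 yf11 zf24) (kf xf7 yf26 zf41) (kf xf7 yf11 zf25) (kf xf3 yf18 zf30) (kf xf3 yf13 zf35) (kf xf3 yf13 zf36)) (@D3.rec (fun _ => Pt) (kf xf3 yf21 zf13) (kf xf2 yf22 zf5) (kf xf6 yf42 zf43) (kf xf3 yf13 zf45) (kf xf3 yf13 zf46) (kf xf6 yf50 zf7) (kf xf7 yf26 zf56) (kf xf1 yf48 zf37) (kf xf3 yf1 zf4) (kf xf6 yf49 zf15) (kf xf3 yf13 zf55) (kf xf3 yf13 zf56) (kf xf7 yf27 zf3) (kf xf3 yf14 zf1) (kf xf7 yf27 zf7) (kf xf1 yf48 zf40) (kf xf3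 yf13 zf60) (kf xf3 yf13 zf61) (kf xf7 yf27 zf16) (kf xf3 yf2 zf44) (kf xf1 yf48 zf43) (kf xf3 yf14 zf4) (kf xf7 yf27 zf22) (kf xf3 yf14 zf7) (kf xf7 yf27 zf28) (kf xf2 yf52 zf18) (kf xf3 yf25 zf33) (kf xf7 yf27 zf33) (kf xf3 yf23 zf39) (kf xf6 yf42 zf40) (kf xf3 yf25 zf57) (kf xf3 yf41 zf47) (kf xf6 yf51 zf29) (kf xf3 yf40 zf47) (kf xf3 yf40 zf48) (kf xf3 yf4 zf31) (kf xf3 yf40 zf49) (kf xf7 yf27 zf50) (kf xf7 yf27 zf54) (kf xf3 yf41 zf6) (kf xf3 yf41 zf5) (kf xf7 yf28 zf2) (kf xf1 yf48 zf54) (kf xf3 yf41 zf9) (kf xf3 yf39 zf6) (kf xf1 yf54 zf37) (kf xf3 yf41 zf0) (kf xf3 yf41 zf1) (kf xf3 yf41 zf2) (kf xf7 yf4 zf51) (kf xf7 yf28 zf18) (kf xf3 yf40 zf55) (kf xf3 yf40 zf54) (kf xf7 yf4 zf52) (kf xf3 yf41 zf10) (kf xf3 yf41 zf11) (kf xf3 yf41 zf12) (kf xf3 yf41 zf13)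 (kf xf7 yf28 zf42) (kf xf7 yf28 zf46) (kf xf7 yf28 zf50) (kf xf1 yf49 zf2)) (@D3.rec (fun _ => Pt) (kf xf3 yf41 zf17) (kf xf3 yf41 zf18) (kf xf3 yf41 zf19) (kf xf7 yf4 zf57) (kf xf7 yf28 zf61) (kf xf7 yf4 zf58) (kf xf3 yf41 zf25) (kf xf7 yf29 zf8) (kf xf3 yf41 zf27) (kf xf4 yf57 zf34) (kf xf3 yf41 zf29) (kf xf7 yf29 zf18) (kf xf7 yf26 zf39) (kf xf7 yf26 zf38) (kf xf7 yf29 zf30) (kf xf1 yf49 zf9) (kf xf7 yf11 zf26) (kf xf7 yf5 zf23) (kf xf7 yf5 zf2) (kf xf7 yf11 zf27) (kf xf7 yf5 zf24) (kf xf7 yf5 zf8) (kf xf6 yf58 zf0) (kf xf6 yf58 zf2) (kf xf7 yf11 zf28) (kf xf7 yf5 zf10) (kf xf3 yf25 zf59) (kf xf7 yf5 zf18) (kf xf7 yf5 zf19) (kf xf7 yf5 zf11) (kf xf7 yf3 zf14) (kf xf6 yf51 zf30) (kf xf6 yf51 zf31) (kf xf7 yf5 zf6) (kf xf1 yf50 zf51) (kf xf1 yf50 zf52) (kf xf7 yf30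 zf21) (kf xf1 yf52 zf53) (kf xf7 yf30 zf26) (kf xf1 yf49 zf21) (kf xf1 yf53 zf21) (kf xf7 yf7 zf23) (kf xf6 yf58 zf50) (kf xf6 yf41 zf49) (kf xf1 yf52 zf56) (kf xf1 yf49 zf27) (kf xf1 yf49 zf37) (kf xf1 yf49 zf28) (kf xf2 yf20 zf27) (kf xf3 yf22 zf59) (kf xf3 yf22 zf60) (kf xf6 yf30 zf7) (kf xf3 yf40 zf59) (kf xf1 yf49 zf32) (kf xf6 yf49 zf26) (kf xf3 yf45 zf14) (kf xf3 yf14 zf43) (kf xf7 yf18 zf37) (kf xf3 yf10 zf48) (kf xf7 yf30 zf53) (kf xf7 yf10 zf42) (kf xf3 yf41 zf54)) (@D3.rec (fun _ => Pt) (kf xf7 yf9 zf11) (kf xf3 yf29 zf34) (kf xf7 yf30 zf35) (kf xf7 yf3 zf17) (kf xf3 yf16 zf40) (kf xf3 yf15 zf37) (kf xf6 yf26 zf45) (kf xf6 yf26 zf46) (kf xf6 yf58 zf61) (kf xf3 yf16 zf38) (kf xf3 yf15 zf36) (kf xf3 yf18 zf23) (kf xf7 yf31 zf12) (kf xf6 yf10 zf42) (kf xf3 yf44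 zf55) (kf xf4 yf40 zf34) (kf xf6 yf29 zf6) (kf xf1 yf49 zf46) (kf xf3 yf15 zf30) (kf xf7 yf31 zf25) (kf xf6 yf11 zf9) (kf xf6 yf11 zf7) (kf xf1 yf49 zf50) (kf xf3 yf15 zf27) (kf xf7 yf31 zf32) (kf xf6 yf58 zf58) (kf xf6 yf29 zf33) (kf xf3 yf8 zf48) (kf xf1 yf49 zf52) (kf xf6 yf10 zf39) (kf xf6 yf10 zf40) (kf xf6 yf10 zf41) (kf xf7 yf31 zf45) (kf xf7 yf31 zf49) (kf xf1 yf49 zf54) (kf xf3 yf15 zf40) (kf xf6 yf29 zf52) (kf xf7 yf31 zf53) (kf xf7 yf0 zf16) (kf xf7 yf0 zf17) (kf xf7 yf0 zf18) (kf xf3 yf48 zf38) (kf xf7 yf3 zf20) (kf xf7 yf32 zf8) (kf xf7 yf3 zf21) (kf xf3 yf26 zf3) (kf xf3 yf26 zf2) (kf xf3 yf48 zf40) (kf xf7 yf32 zf18) (kf xf7 yf32 zf22) (kf xf7 yf32 zf25) (kf xf1 yf50 zf0) (kf xf6 yf33 zf9) (kf xf7 yf32 zf31) (kf xf7 yf32 zf35) (kf xf7 yf32 zf33) (kf xf7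 yf32 zf32) (kf xf5 yf18 zf6) (kf xf1 yf50 zf3) (kf xf7 yf0 zf27) (kf xf7 yf32 zf49) (kf xf7 yf0 zf29)) (@D3.rec (fun _ => Pt) (kf xf7 yf32 zf56) (kf xf7 yf0 zf59) (kf xf7 yf0 zf58) (kf xf7 yf33 zf6) (kf xf1 yf50 zf6) (kf xf7 yf1 zf3) (kf xf7 yf1 zf4) (kf xf7 yf9 zf27) (kf xf7 yf1 zf0) (kf xf7 yf1 zf1) (kf xf7 yf3 zf28) (kf xf7 yf1 zf7) (kf xf7 yf1 zf6) (kf xf7 yf33 zf33) (kf xf1 yf50 zf9) (kf xf7 yf1 zf10) (kf xf7 yf1 zf11) (kf xf7 yf9 zf26) (kf xf3 yf48 zf58) (kf xf7 yf0 zf40) (kf xf7 yf0 zf41) (kf xf7 yf0 zf42) (kf xf7 yf0 zf43) (kf xf7 yf9 zf59) (kf xf5 yf54 zf59) (kf xf7 yf9 zf60) (kf xf7 yf3 zf45) (kf xf7 yf3 zf43) (kf xf2 yf54 zf1) (kf xf3 yf7 zf35) (kf xf6 yf28 zf7) (kf xf6 yf28 zf8) (kf xf7 yf0 zf49) (kf xf3 yf49 zf22) (kf xf7 yf34 zf1) (kf xf3 yf49 zf23) (kf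 xf7 yf3 zf47) (kf xf7 yf10 zf2) (kf xf6 yf43 zf20) (kf xf6 yf43 zf19) (kf xf6 yf0 zf8) (kf xf7 yf34 zf12) (kf xf7 yf10 zf0) (kf xf7 yf10 zf1) (kf xf7 yf10 zf3) (kf xf7 yf0 zf32) (kf xf7 yf0 zf31) (kf xf7 yf34 zf31) (kf xf1 yf50 zf29) (kf xf7 yf0 zf34) (kf xf7 yf0 zf35) (kf xf7 yf3 zf53) (kf xf6 yf59 zf23) (kf xf6 yf59 zf24) (kf xf7 yf3 zf32) (kf xf7 yf0 zf38) (kf xf7 yf0 zf37) (kf xf3 yf36 zf29) (kf xf7 yf3 zf31) (kf xf1 yf51 zf14) (kf xf7 yf5 zf56) (kf xf1 yf51 zf41)) (@D3.rec (fun _ => Pt) (kf xf1 yf51 zf43) (kf xf1 yf51 zf44) (kf xf7 yf15 zf26) (kf xf7 yf34 zf60) (kf xf1 yf51 zf24) (kf xf7 yf15 zf27) (kf xf1 yf51 zf27) (kf xf1 yf51 zf28) (kf xf1 yf54 zf17) (kf xf3 yf49 zf11) (kf xf7 yf9 zf48) (kf xf7 yf35 zf13) (kf xf1 yf51 zf48) (kf xf1 yf51 zf47) (kf xf7 yf9 zf49)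 (kf xf1 yf52 zf6) (kf xf1 yf52 zf7) (kf xf1 yf52 zf8) (kf xf7 yf35 zf28) (kf xf7 yf35 zf32) (kf xf7 yf15 zf48) (kf xf1 yf50 zf47) (kf xf1 yf51 zf57) (kf xf1 yf51 zf58) (kf xf1 yf51 zf59) (kf xf1 yf51 zf61) (kf xf7 yf9 zf51) (kf xf7 yf35 zf48) (kf xf7 yf9 zf53) (kf xf7 yf30 zf11) (kf xf7 yf30 zf12) (kf xf7 yf30 zf13) (kf xf7 yf35 zf58) (kf xf7 yf14 zf3) (kf xf7 yf30 zf15) (kf xf7 yf30 zf16) (kf xf7 yf36 zf3) (kf xf3 yf26 zf12) (kf xf7 yf36 zf9) (kf xf6 yf39 zf44) (kf xf6 yf39 zf45) (kf xf6 yf39 zf16) (kf xf7 yf36 zf23) (kf xf7 yf36 zf7) (kf xf7 yf36 zf6) (kf xf7 yf36 zf34) (kf xf1 yf50 zf55) (kf xf1 yf52 zf35) (kf xf1 yf52 zf34) (kf xf7 yf36 zf46) (kf xf1 yf50 zf56) (kf xf1 yf52 zf43) (kf xf1 yf52 zf45) (kf xf6 yf57 zf17) (kf xf1 yf52 zf39) (kf xf1 yf52 zf40) (kf xf1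 yf52 zf41) (kf xf7 yf24 zf50) (kf xf1 yf52 zf48) (kf xf1 yf52 zf47) (kf xf7 yf2 zf58) (kf xf1 yf50 zf59)) (@D3.rec (fun _ => Pt) (kf xf1 yf53 zf9) (kf xf1 yf51 zf15) (kf xf1 yf53 zf11) (kf xf1 yf53 zf12) (kf xf1 yf53 zf14) (kf xf3 yf52 zf42) (kf xf1 yf52 zf61) (kf xf1 yf53 zf0) (kf xf3 yf53 zf1) (kf xf1 yf51 zf10) (kf xf1 yf51 zf5) (kf xf3 yf27 zf9) (kf xf3 yf27 zf10) (kf xf7 yf11 zf8) (kf xf7 yf37 zf32) (kf xf7 yf11 zf9) (kf xf3 yf54 zf37) (kf xf3 yf33 zf50) (kf xf7 yf5 zf28) (kf xf7 yf37 zf41) (kf xf7 yf7 zf28) (kf xf7 yf7 zf29) (kf xf7 yf7 zf30) (kf xf7 yf37 zf50) (kf xf7 yf37 zf53) (kf xf1 yf51 zf13) (kf xf3 yf26 zf48) (kf xf3 yf26 zf47) (kf xf7 yf37 zf7) (kf xf7 yf37 zf8) (kf xf6 yf43 zf12) (kf xf7 yf37 zf17) (kf xf5 yf28 zf2) (kf xf7 yf38 zf6) (kf xf7 yf38 zf3)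 (kf xf7 yf38 zf2) (kf xf5 yf27 zf32) (kf xf1 yf51 zf19) (kf xf3 yf45 zf41) (kf xf7 yf38 zf21) (kf xf3 yf45 zf47) (kf xf7 yf38 zf25) (kf xf7 yf34 zf58) (kf xf7 yf34 zf57) (kf xf7 yf38 zf37) (kf xf1 yf51 zf22) (kf xf7 yf9 zf30) (kf xf7 yf9 zf31) (kf xf7 yf33 zf23) (kf xf7 yf34 zf61) (kf xf7 yf35 zf0) (kf xf7 yf10 zf15) (kf xf7 yf35 zf2) (kf xf7 yf35 zf1) (kf xf7 yf38 zf60) (kf xf1 yf51 zf25) (kf xf7 yf35 zf4) (kf xf7 yf35 zf5) (kf xf3 yf46 zf18) (kf xf7 yf35 zf6) (kf xf3 yf54 zf45) (kf xf3 yf56 zf6)) (@D3.rec (fun _ => Pt) (kf xf3 yf54 zf46) (kf xf1 yf51 zf37) (kf xf7 yf39 zf10) (kf xf1 yf51 zf33) (kf xf7 yf13 zf22) (kf xf7 yf13 zf23) (kf xf7 yf13 zf24) (kf xf3 yf5 zf20) (kf xf7 yf15 zf8) (kf xf7 yf39 zf19) (kf xf7 yf15 zf9) (kf xf3 yf47 zf9) (kf xf3 yf53 zf8) (kf xf7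 yf39 zf9) (kf xf3 yf55 zf28) (kf xf7 yf15 zf30) (kf xf1 yf51 zf39) (kf xf7 yf21 zf1) (kf xf7 yf37 zf9) (kf xf7 yf39 zf28) (kf xf3 yf15 zf0) (kf xf7 yf39 zf33) (kf xf3 yf46 zf33) (kf xf3 yf46 zf35) (kf xf7 yf34 zf52) (kf xf7 yf39 zf44) (kf xf7 yf39 zf31) (kf xf7 yf8 zf33) (kf xf7 yf39 zf52) (kf xf1 yf51 zf45) (kf xf7 yf35 zf11) (kf xf7 yf35 zf10) (kf xf7 yf40 zf2) (kf xf1 yf51 zf46) (kf xf7 yf35 zf16) (kf xf3 yf37 zf22) (kf xf7 yf35 zf17) (kf xf7 yf35 zf14) (kf xf7 yf35 zf15) (kf xf3 yf52 zf59) (kf xf7 yf35 zf19) (kf xf7 yf35 zf18) (kf xf7 yf40 zf23) (kf xf1 yf51 zf49) (kf xf7 yf6 zf48) (kf xf7 yf6 zf49) (kf xf3 yf52 zf57) (kf xf3 yf55 zf38) (kf xf7 yf6 zf19) (kf xf3 yf35 zf54) (kf xf7 yf19 zf48) (kf xf7 yf3 zf41) (kf xf7 yf40 zf41) (kf xf7 yf40 zf43) (kf xf1 yf51 zf55)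 (kf xf7 yf35 zf34) (kf xf3 yf17 zf30) (kf xf7 yf40 zf51) (kf xf7 yf35 zf36) (kf xf7 yf35 zf37) (kf xf7 yf1 zf22) (kf xf7 yf36 zf53)) (@D3.rec (fun _ => Pt) (kf xf5 yf51 zf16) (kf xf7 yf41 zf1) (kf xf7 yf21 zf57) (kf xf7 yf41 zf7) (kf xf7 yf31 zf13) (kf xf7 yf35 zf40) (kf xf7 yf41 zf15) (kf xf7 yf40 zf61) (kf xf7 yf40 zf60) (kf xf7 yf41 zf27) (kf xf1 yf52 zf0) (kf xf3 yf26 zf22) (kf xf1 yf52 zf1) (kf xf3 yf29 zf3) (kf xf7 yf41 zf33) (kf xf7 yf35 zf30) (kf xf7 yf35 zf29) (kf xf7 yf41 zf43) (kf xf1 yf52 zf3) (kf xf7 yf13 zf16) (kf xf7 yf41 zf49) (kf xf1 yf52 zf4) (kf xf7 yf35 zf21) (kf xf7 yf36 zf47) (kf xf3 yf26 zf61) (kf xf6 yf0 zf1) (kf xf7 yf41 zf59) (kf xf3 yf26 zf29) (kf xf7 yf42 zf2) (kf xf3 yf26 zf28) (kf xf2 yf51 zf57) (kf xf7 yf16 zf19) (kf xf2 yf55 zf46) (kf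 xf5 yf51 zf9) (kf xf7 yf42 zf13) (kf xf7 yf42 zf0) (kf xf7 yf41 zf61) (kf xf7 yf42 zf22) (kf xf1 yf52 zf11) (kf xf7 yf35 zf46) (kf xf7 yf35 zf45) (kf xf7 yf42 zf31) (kf xf1 yf52 zf13) (kf xf7 yf24 zf49) (kf xf7 yf35 zf49) (kf xf7 yf42 zf38) (kf xf1 yf52 zf14) (kf xf3 yf27 zf0) (kf xf3 yf27 zf1) (kf xf3 yf27 zf3) (kf xf7 yf16 zf23) (kf xf7 yf42 zf50) (kf xf7 yf16 zf24) (kf xf7 yf42 zf56) (kf xf1 yf52 zf25) (kf xf1 yf52 zf24) (kf xf7 yf43 zf2) (kf xf1 yf52 zf20) (kf xf3 yf27 zf16) (kf xf7 yf43 zf7) (kf xf3 yf23 zf40) (kf xf3 yf27 zf19)) (@D3.rec (fun _ => Pt) (kf xf7 yf43 zf16) (kf xf7 yf42 zf54) (kf xf7 yf42 zf53) (kf xf7 yf43 zf27) (kf xf1 yf52 zf23) (kf xf7 yf42 zf59) (kf xf7 yf42 zf60) (kf xf7 yf11 zf14) (kf xf7 yf42 zf57) (kf xf7 yf42 zf58) (kf xf7 yf43 zf0) (kf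 xf7 yf42 zf61) (kf xf7 yf43 zf52) (kf xf1 yf52 zf26) (kf xf7 yf1 zf18) (kf xf6 yf37 zf35) (kf xf7 yf44 zf0) (kf xf7 yf1 zf42) (kf xf7 yf1 zf41) (kf xf7 yf44 zf8) (kf xf1 yf52 zf29) (kf xf2 yf50 zf12) (kf xf7 yf44 zf13) (kf xf7 yf1 zf28) (kf xf7 yf1 zf27) (kf xf7 yf44 zf20) (kf xf1 yf52 zf31) (kf xf6 yf35 zf52) (kf xf6 yf35 zf53) (kf xf6 yf35 zf50) (kf xf7 yf44 zf30) (kf xf6 yf40 zf0) (kf xf6 yf39 zf61) (kf xf7 yf44 zf38) (kf xf1 yf52 zf33) (kf xf7 yf36 zf39) (kf xf7 yf36 zf40) (kf xf7 yf36 zf41) (kf xf7 yf44 zf54) (kf xf7 yf36 zf35) (kf xf7 yf36 zf36) (kf xf7 yf36 zf37) (kf xf7 yf45 zf3) (kf xf7 yf36 zf44) (kf xf7 yf36 zf43) (kf xf7 yf45 zf16) (kf xf1 yf52 zf36) (kf xf1 yf52 zf38) (kf xf6 yf39 zf48) (kf xf6 yf39 zf47) (kf xf7 yf45 zf18) (kf xf7 yf35 zf35) (kf xf7 yf36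 zf54) (kf xf7 yf25 zf29) (kf xf7 yf36 zf55) (kf xf7 yf45 zf43) (kf xf3 yf25 zf24) (kf xf3 yf27 zf43) (kf xf3 yf51 zf59) (kf xf3 yf51 zf58) (kf xf7 yf36 zf50) (kf xf7 yf16 zf18)) (@D3.rec (fun _ => Pt) (kf xf7 yf36 zf57) (kf xf7 yf45 zf58) (kf xf3 yf30 zf27) (kf xf1 yf52 zf42) (kf xf7 yf35 zf23) (kf xf7 yf36 zf48) (kf xf3 yf27 zf36) (kf xf7 yf46 zf5) (kf xf7 yf36 zf51) (kf xf7 yf24 zf44) (kf xf1 yf52 zf46) (kf xf7 yf36 zf61) (kf xf7 yf37 zf0) (kf xf7 yf3 zf2) (kf xf7 yf46 zf17) (kf xf7 yf36 zf58) (kf xf7 yf36 zf59) (kf xf7 yf34 zf47) (kf xf7 yf46 zf27) (kf xf7 yf37 zf3) (kf xf7 yf37 zf2) (kf xf7 yf46 zf36) (kf xf7 yf0 zf3) (kf xf1 yf52 zf49) (kf xf7 yf45 zf17) (kf xf1 yf52 zf54) (kf xf7 yf10 zf24) (kf xf7 yf10 zf26) (kf xf7 yf6 zf54) (kf xf7 yf30 zf22) (kf xf7 yf30 zf23)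 (kf xf7 yf2 zf38) (kf xf7 yf30 zf24) (kf xf7 yf46 zf42) (kf xf3 yf52 zf35) (kf xf3 yf52 zf34) (kf xf3 yf27 zf25) (kf xf3 yf27 zf26) (kf xf3 yf52 zf41) (kf xf3 yf52 zf43) (kf xf3 yf52 zf44) (kf xf3 yf52 zf38) (kf xf3 yf48 zf5) (kf xf3 yf52 zf39) (kf xf3 yf52 zf40) (kf xf7 yf7 zf31) (kf xf7 yf7 zf32) (kf xf4 yf47 zf49) (kf xf7 yf37 zf18) (kf xf7 yf37 zf19) (kf xf3 yf52 zf61) (kf xf7 yf37 zf13) (kf xf7 yf37 zf12) (kf xf7 yf37 zf21) (kf xf7 yf47 zf39) (kf xf3 yf52 zf60) (kf xf3 yf53 zf0) (kf xf3 yf49 zf46) (kf xf3 yf34 zf52) (kf xf3 yf49 zf39) (kf xf3 yf52 zf55) (kf xf3 yf52 zf50)) (@D3.rec (fun _ => Pt) (kf xf3 yf52 zf56) (kf xf3 yf48 zf8) (kf xf7 yf18 zf46) (kf xf7 yf47 zf56) (kf xf7 yf13 zf35) (kf xf7 yf13 zf36) (kf xf7 yf18 zf18) (kf xf7 yf12 zf27) (kf xf3 yf49 zf12)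 (kf xf7 yf37 zf6) (kf xf7 yf8 zf38) (kf xf3 yf41 zf45) (kf xf1 yf53 zf10) (kf xf7 yf7 zf52) (kf xf7 yf37 zf10) (kf xf7 yf37 zf11) (kf xf7 yf48 zf14) (kf xf7 yf37 zf14) (kf xf7 yf48 zf20) (kf xf7 yf33 zf27) (kf xf7 yf48 zf22) (kf xf1 yf53 zf13) (kf xf7 yf37 zf16) (kf xf7 yf32 zf9) (kf xf1 yf53 zf23) (kf xf3 yf33 zf1) (kf xf6 yf43 zf26) (kf xf7 yf5 zf57) (kf xf3 yf33 zf16) (kf xf7 yf30 zf27) (kf xf7 yf30 zf28) (kf xf7 yf3 zf18) (kf xf7 yf3 zf36) (kf xf7 yf6 zf38) (kf xf7 yf19 zf1) (kf xf6 yf20 zf53) (kf xf6 yf24 zf5) (kf xf6 yf21 zf13) (kf xf3 yf28 zf58) (kf xf7 yf48 zf54) (kf xf3 yf37 zf24) (kf xf6 yf58 zf52) (kf xf6 yf58 zf53) (kf xf3 yf37 zf27) (kf xf7 yf4 zf7) (kf xf3 yf39 zf41) (kf xf7 yf4 zf8) (kf xf3 yf39 zf42) (kf xf3 yf37 zf12) (kf xf6 yf58 zf38) (kf xf6 yf58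 zf30) (kf xf6 yf58 zf39) (kf xf6 yf33 zf52) (kf xf7 yf49 zf20) (kf xf3 yf54 zf47) (kf xf7 yf49 zf26) (kf xf7 yf49 zf30) (kf xf1 yf53 zf46) (kf xf7 yf49 zf35) (kf xf1 yf53 zf36) (kf xf1 yf53 zf55) (kf xf1 yf53 zf51)) (@D3.rec (fun _ => Pt) (kf xf1 yf53 zf52) (kf xf1 yf54 zf41) (kf xf3 yf54 zf58) (kf xf3 yf54 zf59) (kf xf3 yf54 zf60) (kf xf7 yf49 zf48) (kf xf7 yf49 zf51) (kf xf1 yf53 zf41) (kf xf3 yf55 zf1) (kf xf3 yf55 zf2) (kf xf3 yf55 zf3) (kf xf3 yf56 zf34) (kf xf3 yf56 zf35) (kf xf3 yf55 zf7) (kf xf7 yf50 zf3) (kf xf7 yf49 zf28) (kf xf7 yf49 zf27) (kf xf7 yf50 zf13) (kf xf1 yf53 zf45) (kf xf7 yf38 zf47) (kf xf7 yf49 zf31) (kf xf3 yf56 zf41) (kf xf7 yf9 zf9) (kf xf7 yf9 zf10) (kf xf7 yf48 zf38) (kf xf7 yf29 zf37) (kf xf7 yf49 zf33) (kf xf7 yf50 zf38) (kf xf1 yf53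 zf48) (kf xf7 yf8 zf49) (kf xf3 yf42 zf10) (kf xf7 yf8 zf46) (kf xf7 yf49 zf38) (kf xf3 yf41 zf51) (kf xf3 yf25 zf53) (kf xf7 yf49 zf40) (kf xf3 yf26 zf33) (kf xf3 yf48 zf16) (kf xf7 yf6 zf61) (kf xf7 yf49 zf36) (kf xf7 yf49 zf37) (kf xf7 yf51 zf6) (kf xf7 yf4 zf22) (kf xf3 yf24 zf55) (kf xf1 yf53 zf57) (kf xf3 yf48 zf60) (kf xf3 yf49 zf0) (kf xf3 yf53 zf54) (kf xf2 yf50 zf26) (kf xf7 yf51 zf19) (kf xf7 yf51 zf23) (kf xf1 yf54 zf11) (kf xf7 yf51 zf28) (kf xf1 yf54 zf0) (kf xf1 yf54 zf18) (kf xf1 yf54 zf16) (kf xf7 yf51 zf33) (kf xf1 yf54 zf3) (kf xf3 yf54 zf2) (kf xf3 yf54 zf3) (kf xf3 yf54 zf4) (kf xf3 yf56 zf13)) (@D3.rec (fun _ => Pt) (kf xf3 yf56 zf15) (kf xf3 yf54 zf8) (kf xf3 yf54 zf9) (kf xf3 yf54 zf10) (kf xf7 yf51 zf50) (kf xf7 yf51 zf54) (kf xf1 yf54 zf8)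 (kf xf3 yf54 zf13) (kf xf7 yf52 zf0) (kf xf7 yf51 zf21) (kf xf7 yf51 zf20) (kf xf7 yf52 zf12) (kf xf1 yf54 zf10) (kf xf7 yf51 zf24) (kf xf7 yf51 zf25) (kf xf7 yf15 zf6) (kf xf7 yf15 zf7) (kf xf3 yf56 zf22) (kf xf7 yf23 zf56) (kf xf7 yf51 zf26) (kf xf7 yf52 zf32) (kf xf1 yf54 zf13) (kf xf3 yf26 zf42) (kf xf7 yf14 zf48) (kf xf7 yf51 zf30) (kf xf7 yf41 zf4) (kf xf7 yf51 zf29) (kf xf3 yf56 zf28) (kf xf3 yf49 zf14) (kf xf7 yf24 zf29) (kf xf6 yf52 zf15) (kf xf6 yf52 zf18) (kf xf3 yf39 zf11) (kf xf7 yf51 zf31) (kf xf6 yf52 zf1) (kf xf7 yf37 zf33) (kf xf1 yf54 zf22) (kf xf3 yf34 zf22) (kf xf3 yf49 zf47) (kf xf3 yf25 zf45) (kf xf7 yf28 zf6) (kf xf3 yf23 zf32) (kf xf7 yf53 zf10) (kf xf3 yf26 zf53) (kf xf3 yf26 zf52) (kf xf7 yf16 zf20) (kf xf3 yf26 zf49) (kf xf7 yf11 zf2) (kf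 xf3 yf23 zf29) (kf xf7 yf53 zf22) (kf xf3 yf26 zf34) (kf xf7 yf11 zf3) (kf xf1 yf54 zf40) (kf xf7 yf20 zf46) (kf xf3 yf37 zf42) (kf xf3 yf26 zf25) (kf xf7 yf28 zf7) (kf xf7 yf28 zf8) (kf xf3 yf40 zf19) (kf xf7 yf37 zf57) (kf xf7 yf53 zf27) (kf xf7 yf8 zf50)) (@D3.rec (fun _ => Pt) (kf xf7 yf49 zf39) (kf xf7 yf49 zf32) (kf xf7 yf28 zf48) (kf xf1 yf54 zf42) (kf xf3 yf56 zf5) (kf xf3 yf56 zf4) (kf xf3 yf48 zf61) (kf xf3 yf42 zf17) (kf xf3 yf42 zf24) (kf xf3 yf56 zf31) (kf xf3 yf56 zf32) (kf xf3 yf56 zf12) (kf xf3 yf56 zf11) (kf xf3 yf54 zf61) (kf xf3 yf25 zf54) (kf xf3 yf55 zf0) (kf xf3 yf56 zf36) (kf xf3 yf56 zf37) (kf xf3 yf56 zf38) (kf xf3 yf56 zf39) (kf xf7 yf54 zf27) (kf xf3 yf56 zf25) (kf xf3 yf55 zf17) (kf xf3 yf56 zf26) (kf xf3 yf56 zf27) (kf xf3 yf56 zf21) (kf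 xf3 yf56 zf23) (kf xf3 yf56 zf24) (kf xf3 yf55 zf27) (kf xf3 yf40 zf32) (kf xf3 yf40 zf35) (kf xf3 yf56 zf9) (kf xf3 yf56 zf10) (kf xf6 yf58 zf4) (kf xf3 yf54 zf11) (kf xf3 yf54 zf12) (kf xf3 yf56 zf16) (kf xf3 yf56 zf17) (kf xf3 yf56 zf18) (kf xf3 yf56 zf19) (kf xf7 yf55 zf9) (kf xf3 yf54 zf21) (kf xf6 yf58 zf3) (kf xf6 yf58 zf5) (kf xf3 yf35 zf2) (kf xf3 yf22 zf15) (kf xf7 yf55 zf18) (kf xf3 yf25 zf10) (kf xf3 yf25 zf13) (kf xf3 yf38 zf1) (kf xf3 yf38 zf58) (kf xf3 yf39 zf1) (kf xf2 yf8 zf12) (kf xf2 yf1 zf60) (kf xf4 yf51 zf32) (kf xf1 yf55 zf10) (kf xf2 yf8 zf20) (kf xf5 yf19 zf10) (kf xf2 yf7 zf2) (kf xf2 yf8 zf22) (kf xf7 yf55 zf37) (kf xf1 yf55 zf14)) (@D3.rec (fun _ => Pt) (kf xf2 yf8 zf16) (kf xf7 yf55 zf42) (kf xf2 yf8 zf26) (kf xf7 yf55 zf47) (kf xf7 yf55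 zf50) (kf xf2 yf8 zf30) (kf xf2 yf8 zf29) (kf xf7 yf55 zf60) (kf xf2 yf9 zf13) (kf xf1 yf55 zf19) (kf xf7 yf55 zf29) (kf xf2 yf5 zf17) (kf xf2 yf8 zf46) (kf xf7 yf56 zf7) (kf xf2 yf8 zf48) (kf xf7 yf56 zf11) (kf xf1 yf55 zf23) (kf xf2 yf8 zf50) (kf xf2 yf8 zf51) (kf xf4 yf1 zf32) (kf xf2 yf8 zf58) (kf xf2 yf8 zf59) (kf xf3 yf59 zf61) (kf xf2 yf9 zf3) (kf xf2 yf9 zf4) (kf xf6 yf14 zf6) (kf xf2 yf9 zf1) (kf xf6 yf25 zf29) (kf xf4 yf32 zf50) (kf xf5 yf41 zf44) (kf xf7 yf56 zf29) (kf xf1 yf55 zf31) (kf xf2 yf9 zf12) (kf xf2 yf9 zf11) (kf xf2 yf8 zf32) (kf xf7 yf56 zf38) (kf xf1 yf55 zf32) (kf xf2 yf9 zf34) (kf xf2 yf9 zf35) (kf xf2 yf9 zf37) (kf xf7 yf56 zf47) (kf xf2 yf9 zf49) (kf xf2 yf9 zf50) (kf xf2 yf9 zf51) (kf xf2 yf9 zf52) (kf xf7 yf56 zf55) (kf xf2 yf10 zf2) (kf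 xf2 yf10 zf3) (kf xf2 yf10 zf5) (kf xf7 yf57 zf3) (kf xf5 yf12 zf61) (kf xf4 yf52 zf53) (kf xf5 yf47 zf23) (kf xf4 yf1 zf21) (kf xf4 yf36 zf43) (kf xf4 yf36 zf44) (kf xf5 yf53 zf37) (kf xf4 yf26 zf37) (kf xf4 yf26 zf35) (kf xf4 yf26 zf36) (kf xf4 yf26 zf18) (kf xf7 yf57 zf24)) (@D3.rec (fun _ => Pt) (kf xf2 yf10 zf33) (kf xf2 yf10 zf32) (kf xf1 yf55 zf46) (kf xf5 yf9 zf26) (kf xf5 yf9 zf27) (kf xf5 yf2 zf46) (kf xf1 yf55 zf59) (kf xf1 yf55 zf56) (kf xf1 yf56 zf0) (kf xf1 yf55 zf61) (kf xf7 yf57 zf47) (kf xf1 yf55 zf52) (kf xf2 yf25 zf28) (kf xf5 yf3 zf1) (kf xf4 yf51 zf19) (kf xf5 yf3 zf2) (kf xf2 yf44 zf7) (kf xf7 yf57 zf39) (kf xf7 yf58 zf1) (kf xf1 yf59 zf51) (kf xf2 yf1 zf39) (kf xf4 yf19 zf50) (kf xf7 yf57 zf37) (kf xf7 yf58 zf9) (kf xf2 yf39 zf2) (kf xf7 yf57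 zf43) (kf xf7 yf58 zf17) (kf xf5 yf0 zf35) (kf xf7 yf57 zf41) (kf xf7 yf58 zf25) (kf xf4 yf4 zf0) (kf xf4 yf28 zf4) (kf xf5 yf31 zf30) (kf xf7 yf58 zf40) (kf xf1 yf56 zf1) (kf xf4 yf6 zf43) (kf xf2 yf25 zf50) (kf xf7 yf58 zf48) (kf xf2 yf25 zf46) (kf xf2 yf25 zf45) (kf xf1 yf56 zf4) (kf xf2 yf25 zf53) (kf xf2 yf25 zf52) (kf xf1 yf56 zf5) (kf xf5 yf31 zf27) (kf xf5 yf31 zf28) (kf xf5 yf31 zf29) (kf xf2 yf26 zf44) (kf xf7 yf59 zf4) (kf xf2 yf26 zf1) (kf xf2 yf26 zf0) (kf xf3 yf0 zf2) (kf xf2 yf26 zf4) (kf xf2 yf26 zf8) (kf xf2 yf26 zf9) (kf xf2 yf26 zf10) (kf xf1 yf56 zf16) (kf xf1 yf56 zf15) (kf xf2 yf26 zf34) (kf xf7 yf59 zf16) (kf xf5 yf37 zf44) (kf xf2 yf26 zf33)) (@D3.rec (fun _ => Pt) (kf xf1 yf56 zf14) (kf xf7 yf59 zf9) (kf xf7 yf59 zf10) (kf xf5 yf37 zf45) (kf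 xf5 yf14 zf6) (kf xf7 yf59 zf8) (kf xf7 yf59 zf30) (kf xf7 yf59 zf29) (kf xf7 yf59 zf41) (kf xf7 yf59 zf44) (kf xf1 yf56 zf17) (kf xf2 yf25 zf58) (kf xf5 yf45 zf54) (kf xf2 yf26 zf47) (kf xf2 yf26 zf46) (kf xf1 yf56 zf20) (kf xf7 yf59 zf50) (kf xf2 yf27 zf22) (kf xf5 yf13 zf52) (kf xf2 yf53 zf11) (kf xf2 yf54 zf23) (kf xf2 yf27 zf19) (kf xf6 yf13 zf14) (kf xf5 yf13 zf53) (kf xf5 yf47 zf26) (kf xf5 yf47 zf32) (kf xf5 yf13 zf54) (kf xf2 yf27 zf5) (kf xf2 yf54 zf5) (kf xf5 yf47 zf28) (kf xf8 yf0 zf9) (kf xf1 yf57 zf8) (kf xf6 yf13 zf16) (kf xf8 yf0 zf13) (kf xf5 yf47 zf29) (kf xf6 yf30 zf20) (kf xf2 yf52 zf45) (kf xf5 yf29 zf16) (kf xf1 yf56 zf29) (kf xf3 yf23 zf36) (kf xf8 yf0 zf24) (kf xf2 yf56 zf35) (kf xf3 yf23 zf60) (kf xf6 yf26 zf33) (kf xf3 yf24 zf0) (kf xf3 yf24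 zf1) (kf xf6 yf22 zf1) (kf xf3 yf23 zf34) (kf xf3 yf23 zf37) (kf xf8 yf0 zf43) (kf xf8 yf0 zf23) (kf xf8 yf0 zf22) (kf xf1 yf56 zf34) (kf xf2 yf27 zf53) (kf xf2 yf27 zf54) (kf xf6 yf22 zf5) (kf xf2 yf27 zf50) (kf xf2 yf27 zf51) (kf xf2 yf24 zf45) (kf xf4 yf0 zf22) (kf xf4 yf2 zf11) (kf xf3 yf57 zf22))
def f_f_4 : D2 → D3 → Pt := @D2.rec (fun _ => D3 → Pt) (@D3.rec (fun _ => Pt) (kf xf4 yf22 zf59) (kf xf8 yf1 zf7) (kf xf1 yf56 zf46) (kf xf4 yf0 zf19) (kf xf8 yf1 zf12) (kf xf1 yf56 zf47) (kf xf4 yf37 zf25) (kf xf4 yf36 zf54) (kf xf6 yf13 zf31) (kf xf6 yf13 zf32) (kf xf8 yf1 zf20) (kf xf4 yf0 zf56) (kf xf4 yf0 zf55) (kf xf1 yf56 zf53) (kf xf2 yf24 zf19) (kf xf8 yf1 zf30) (kf xf2 yf24 zf17) (kf xf8 yf1 zf33) (kf xf8 yf1 zf38) (kf xf4 yf0 zf3) (kf xf1 yf56 zf56) (kf xf4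 yf50 zf61) (kf xf3 yf59 zf59) (kf xf2 yf18 zf52) (kf xf1 yf56 zf59) (kf xf7 yf59 zf24) (kf xf8 yf1 zf45) (kf xf8 yf1 zf44) (kf xf8 yf1 zf57) (kf xf1 yf56 zf60) (kf xf2 yf24 zf24) (kf xf8 yf2 zf1) (kf xf1 yf56 zf61) (kf xf1 yf57 zf15) (kf xf3 yf3 zf42) (kf xf3 yf3 zf43) (kf xf3 yf3 zf44) (kf xf3 yf37 zf3) (kf xf5 yf50 zf48) (kf xf1 yf57 zf10) (kf xf1 yf57 zf9) (kf xf8 yf0 zf5) (kf xf5 yf49 zf6) (kf xf8 yf2 zf17) (kf xf2 yf53 zf4) (kf xf2 yf10 zf12) (kf xf6 yf14 zf10) (kf xf8 yf2 zf21) (kf xf8 yf2 zf9) (kf xf5 yf49 zf22) (kf xf8 yf2 zf22) (kf xf8 yf2 zf29) (kf xf1 yf57 zf11) (kf xf8 yf1 zf58) (kf xf8 yf2 zf33) (kf xf4 yf0 zf12) (kf xf4 yf0 zf11) (kf xf1 yf57 zf14) (kf xf8 yf2 zf3) (kf xf2 yf38 zf32) (kf xf5 yf22 zf26) (kf xf1 yf58 zf32)) (@D3.rec (fun _ => Pt) (kf xf4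 yf21 zf20) (kf xf1 yf58 zf35) (kf xf8 yf2 zf51) (kf xf1 yf57 zf19) (kf xf1 yf58 zf59) (kf xf1 yf58 zf60) (kf xf8 yf2 zf59) (kf xf1 yf58 zf57) (kf xf8 yf3 zf2) (kf xf4 yf4 zf14) (kf xf8 yf2 zf52) (kf xf4 yf1 zf58) (kf xf4 yf2 zf4) (kf xf8 yf3 zf13) (kf xf4 yf2 zf1) (kf xf4 yf2 zf0) (kf xf4 yf2 zf2) (kf xf4 yf2 zf7) (kf xf4 yf26 zf58) (kf xf4 yf1 zf60) (kf xf8 yf3 zf22) (kf xf3 yf57 zf53) (kf xf4 yf2 zf3) (kf xf4 yf2 zf9) (kf xf4 yf2 zf10) (kf xf2 yf59 zf59) (kf xf4 yf2 zf8) (kf xf2 yf26 zf5) (kf xf3 yf0 zf0) (kf xf4 yf2 zf14) (kf xf4 yf2 zf12) (kf xf4 yf2 zf13) (kf xf3 yf57 zf19) (kf xf4 yf20 zf41) (kf xf4 yf2 zf22) (kf xf4 yf2 zf21) (kf xf4 yf1 zf55) (kf xf8 yf3 zf54) (kf xf1 yf57 zf45) (kf xf2 yf31 zf33) (kf xf2 yf31 zf29) (kf xf2 yf31 zf35) (kf xf8 yf4 zf2) (kf xf2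 yf31 zf31) (kf xf8 yf4 zf8) (kf xf2 yf59 zf45) (kf xf2 yf31 zf41) (kf xf2 yf31 zf42) (kf xf8 yf4 zf14) (kf xf2 yf31 zf38) (kf xf2 yf31 zf39) (kf xf8 yf4 zf20) (kf xf2 yf31 zf45) (kf xf2 yf31 zf44) (kf xf8 yf4 zf31) (kf xf4 yf1 zf36) (kf xf1 yf57 zf53) (kf xf5 yf0 zf56) (kf xf4 yf1 zf11) (kf xf2 yf33 zf15) (kf xf4 yf1 zf19) (kf xf8 yf4 zf41)) (@D3.rec (fun _ => Pt) (kf xf4 yf1 zf15) (kf xf4 yf1 zf14) (kf xf4 yf1 zf16) (kf xf4 yf1 zf22) (kf xf4 yf1 zf12) (kf xf8 yf4 zf48) (kf xf3 yf39 zf32) (kf xf4 yf1 zf17) (kf xf4 yf1 zf26) (kf xf4 yf1 zf23) (kf xf4 yf1 zf24) (kf xf3 yf59 zf60) (kf xf4 yf1 zf30) (kf xf4 yf1 zf31) (kf xf4 yf1 zf29) (kf xf2 yf8 zf44) (kf xf8 yf5 zf3) (kf xf8 yf4 zf60) (kf xf8 yf0 zf60) (kf xf8 yf5 zf13) (kf xf1 yf58 zf8) (kf xf4 yf1 zf35) (kf xf4 yf1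 zf34) (kf xf2 yf31 zf47) (kf xf8 yf5 zf23) (kf xf1 yf58 zf9) (kf xf2 yf9 zf19) (kf xf8 yf5 zf28) (kf xf8 yf5 zf31) (kf xf8 yf5 zf36) (kf xf4 yf13 zf33) (kf xf1 yf58 zf14) (kf xf5 yf19 zf47) (kf xf2 yf28 zf15) (kf xf2 yf36 zf30) (kf xf8 yf5 zf46) (kf xf1 yf58 zf17) (kf xf8 yf5 zf50) (kf xf8 yf5 zf53) (kf xf8 yf5 zf58) (kf xf4 yf4 zf57) (kf xf1 yf58 zf21) (kf xf8 yf5 zf47) (kf xf2 yf40 zf57) (kf xf8 yf6 zf3) (kf xf2 yf40 zf59) (kf xf8 yf6 zf7) (kf xf1 yf58 zf25) (kf xf2 yf42 zf17) (kf xf2 yf4 zf51) (kf xf8 yf6 zf13) (kf xf5 yf16 zf57) (kf xf5 yf16 zf56) (kf xf8 yf6 zf24) (kf xf8 yf6 zf29) (kf xf1 yf58 zf27) (kf xf4 yf7 zf46) (kf xf6 yf4 zf45) (kf xf5 yf1 zf23) (kf xf6 yf4 zf46) (kf xf8 yf6 zf39) (kf xf2 yf23 zf33)) (@D3.rec (fun _ => Pt) (kf xf1 yf58 zf30) (kf xf2 yf58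 zf29) (kf xf5 yf24 zf22) (kf xf8 yf2 zf46) (kf xf8 yf6 zf47) (kf xf2 yf1 zf37) (kf xf5 yf15 zf11) (kf xf1 yf58 zf33) (kf xf4 yf50 zf42) (kf xf2 yf36 zf52) (kf xf8 yf6 zf54) (kf xf4 yf50 zf41) (kf xf8 yf6 zf60) (kf xf2 yf43 zf61) (kf xf4 yf14 zf21) (kf xf8 yf7 zf8) (kf xf8 yf7 zf12) (kf xf1 yf58 zf36) (kf xf1 yf59 zf5) (kf xf2 yf11 zf3) (kf xf2 yf11 zf10) (kf xf8 yf7 zf19) (kf xf2 yf10 zf54) (kf xf1 yf58 zf39) (kf xf2 yf45 zf29) (kf xf8 yf7 zf25) (kf xf2 yf45 zf30) (kf xf8 yf6 zf45) (kf xf4 yf19 zf11) (kf xf8 yf7 zf35) (kf xf4 yf52 zf49) (kf xf4 yf52 zf48) (kf xf8 yf7 zf43) (kf xf1 yf58 zf43) (kf xf4 yf19 zf58) (kf xf2 yf34 zf18) (kf xf2 yf11 zf1) (kf xf4 yf52 zf52) (kf xf4 yf10 zf5) (kf xf2 yf40 zf13) (kf xf4 yf10 zf6) (kf xf8 yf7 zf55) (kf xf2 yf37 zf15) (kf xf5 yf28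 zf15) (kf xf4 yf8 zf57) (kf xf1 yf58 zf50) (kf xf4 yf52 zf46) (kf xf8 yf7 zf61) (kf xf4 yf19 zf14) (kf xf4 yf19 zf13) (kf xf8 yf8 zf7) (kf xf1 yf58 zf52) (kf xf4 yf21 zf29) (kf xf2 yf11 zf16) (kf xf8 yf8 zf15) (kf xf8 yf2 zf60) (kf xf8 yf8 zf23) (kf xf8 yf2 zf57) (kf xf8 yf2 zf56) (kf xf8 yf8 zf32) (kf xf1 yf58 zf58) (kf xf2 yf11 zf13)) (@D3.rec (fun _ => Pt) (kf xf3 yf58 zf30) (kf xf8 yf8 zf39) (kf xf8 yf2 zf54) (kf xf8 yf8 zf47) (kf xf8 yf3 zf1) (kf xf8 yf3 zf0) (kf xf1 yf58 zf61) (kf xf2 yf42 zf54) (kf xf8 yf8 zf59) (kf xf4 yf14 zf36) (kf xf8 yf9 zf4) (kf xf8 yf9 zf11) (kf xf8 yf9 zf6) (kf xf8 yf9 zf5) (kf xf4 yf1 zf9) (kf xf1 yf59 zf2) (kf xf8 yf9 zf24) (kf xf8 yf7 zf13) (kf xf8 yf3 zf7) (kf xf8 yf3 zf6) (kf xf2 yf45 zf24) (kf xf8 yf9 zf39) (kf xf2 yf45 zf26) (kf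 xf2 yf45 zf27) (kf xf8 yf9 zf44) (kf xf2 yf45 zf31) (kf xf8 yf9 zf50) (kf xf4 yf14 zf30) (kf xf4 yf14 zf29) (kf xf5 yf53 zf22) (kf xf1 yf59 zf9) (kf xf2 yf31 zf34) (kf xf2 yf31 zf37) (kf xf4 yf6 zf54) (kf xf2 yf8 zf21) (kf xf4 yf20 zf33) (kf xf2 yf43 zf35) (kf xf8 yf10 zf4) (kf xf1 yf59 zf19) (kf xf4 yf14 zf27) (kf xf8 yf10 zf10) (kf xf2 yf45 zf34) (kf xf2 yf45 zf33) (kf xf8 yf10 zf20) (kf xf1 yf59 zf21) (kf xf2 yf45 zf38) (kf xf4 yf21 zf31) (kf xf8 yf10 zf25) (kf xf4 yf56 zf33) (kf xf4 yf22 zf56) (kf xf4 yf13 zf27) (kf xf4 yf5 zf35) (kf xf5 yf5 zf7) (kf xf8 yf10 zf32) (kf xf8 yf10 zf31) (kf xf8 yf10 zf39) (kf xf1 yf59 zf33) (kf xf4 yf2 zf40) (kf xf8 yf10 zf44) (kf xf1 yf59 zf34) (kf xf4 yf12 zf10) (kf xf4 yf12 zf11)) (@D3.rec (fun _ => Pt) (kf xf4 yf12 zf12) (kf xf4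 yf19 zf22) (kf xf1 yf59 zf49) (kf xf1 yf59 zf46) (kf xf1 yf59 zf52) (kf xf8 yf10 zf60) (kf xf1 yf59 zf42) (kf xf4 yf6 zf28) (kf xf4 yf19 zf41) (kf xf4 yf53 zf57) (kf xf4 yf19 zf42) (kf xf5 yf37 zf3) (kf xf8 yf10 zf53) (kf xf8 yf11 zf15) (kf xf2 yf34 zf30) (kf xf8 yf10 zf52) (kf xf8 yf11 zf23) (kf xf4 yf20 zf20) (kf xf7 yf58 zf2) (kf xf8 yf11 zf31) (kf xf4 yf13 zf54) (kf xf8 yf10 zf55) (kf xf8 yf11 zf38) (kf xf8 yf10 zf57) (kf xf5 yf21 zf44) (kf xf8 yf11 zf49) (kf xf1 yf59 zf53) (kf xf2 yf25 zf43) (kf xf8 yf11 zf55) (kf xf4 yf6 zf57) (kf xf4 yf6 zf56) (kf xf1 yf59 zf56) (kf xf2 yf44 zf23) (kf xf8 yf11 zf61) (kf xf2 yf25 zf61) (kf xf4 yf4 zf51) (kf xf3 yf0 zf21) (kf xf8 yf12 zf4) (kf xf4 yf7 zf4) (kf xf2 yf53 zf49) (kf xf2 yf15 zf37) (kf xf3 yf0 zf19) (kf xf6 yf22 zf4)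 (kf xf3 yf0 zf1) (kf xf2 yf59 zf60) (kf xf2 yf26 zf11) (kf xf5 yf50 zf12) (kf xf2 yf0 zf15) (kf xf2 yf0 zf14) (kf xf4 yf7 zf12) (kf xf8 yf12 zf23) (kf xf8 yf12 zf25) (kf xf2 yf44 zf45) (kf xf2 yf0 zf13) (kf xf8 yf12 zf16) (kf xf8 yf4 zf61) (kf xf8 yf12 zf17) (kf xf6 yf17 zf6) (kf xf8 yf12 zf15) (kf xf8 yf12 zf35) (kf xf8 yf12 zf34) (kf xf8 yf12 zf46)) (@D3.rec (fun _ => Pt) (kf xf8 yf12 zf49) (kf xf2 yf0 zf16) (kf xf4 yf7 zf0) (kf xf5 yf52 zf13) (kf xf4 yf7 zf26) (kf xf4 yf7 zf25) (kf xf2 yf0 zf19) (kf xf8 yf12 zf55) (kf xf4 yf18 zf35) (kf xf4 yf18 zf36) (kf xf4 yf18 zf37) (kf xf4 yf12 zf56) (kf xf2 yf0 zf35) (kf xf2 yf0 zf31) (kf xf2 yf0 zf38) (kf xf8 yf13 zf8) (kf xf2 yf0 zf27) (kf xf4 yf50 zf33) (kf xf4 yf13 zf13) (kf xf2 yf4 zf55) (kf xf5 yf15 zf33) (kf xf4 yf13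 zf14) (kf xf8 yf13 zf1) (kf xf2 yf32 zf10) (kf xf8 yf13 zf3) (kf xf8 yf13 zf27) (kf xf2 yf35 zf22) (kf xf4 yf18 zf57) (kf xf4 yf5 zf7) (kf xf4 yf18 zf58) (kf xf8 yf13 zf2) (kf xf5 yf36 zf35) (kf xf4 yf50 zf35) (kf xf4 yf55 zf2) (kf xf8 yf13 zf43) (kf xf2 yf35 zf27) (kf xf8 yf13 zf4) (kf xf8 yf13 zf49) (kf xf5 yf22 zf44) (kf xf6 yf4 zf56) (kf xf8 yf13 zf59) (kf xf8 yf14 zf2) (kf xf2 yf0 zf39) (kf xf3 yf58 zf35) (kf xf2 yf59 zf46) (kf xf8 yf14 zf10) (kf xf2 yf59 zf48) (kf xf2 yf59 zf40) (kf xf2 yf0 zf44) (kf xf2 yf43 zf56) (kf xf2 yf59 zf36) (kf xf5 yf36 zf44) (kf xf2 yf59 zf38) (kf xf5 yf28 zf45) (kf xf4 yf4 zf33) (kf xf8 yf14 zf24) (kf xf4 yf5 zf30) (kf xf4 yf5 zf29) (kf xf2 yf0 zf50) (kf xf8 yf14 zf32) (kf xf8 yf14 zf28) (kf xf8 yf14 zf27)) (@D3.rec (fun _ => Pt) (kf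 xf4 yf6 zf2) (kf xf2 yf0 zf51) (kf xf8 yf14 zf43) (kf xf2 yf41 zf59) (kf xf4 yf5 zf38) (kf xf2 yf51 zf32) (kf xf2 yf0 zf60) (kf xf2 yf0 zf59) (kf xf5 yf47 zf58) (kf xf4 yf53 zf51) (kf xf2 yf0 zf58) (kf xf4 yf53 zf53) (kf xf4 yf5 zf49) (kf xf3 yf19 zf4) (kf xf5 yf37 zf29) (kf xf8 yf14 zf46) (kf xf8 yf14 zf50) (kf xf3 yf6 zf55) (kf xf3 yf2 zf46) (kf xf6 yf17 zf49) (kf xf2 yf0 zf61) (kf xf2 yf31 zf11) (kf xf6 yf2 zf38) (kf xf3 yf2 zf52) (kf xf5 yf47 zf39) (kf xf4 yf6 zf5) (kf xf4 yf6 zf4) (kf xf2 yf1 zf3) (kf xf8 yf14 zf60) (kf xf4 yf8 zf31) (kf xf4 yf7 zf53) (kf xf5 yf29 zf44) (kf xf2 yf28 zf13) (kf xf4 yf7 zf55) (kf xf2 yf28 zf28) (kf xf5 yf17 zf49) (kf xf2 yf1 zf8) (kf xf4 yf7 zf58) (kf xf8 yf15 zf16) (kf xf4 yf8 zf0) (kf xf8 yf15 zf21) (kf xf4 yf8 zf3) (kf xf4 yf8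 zf2) (kf xf8 yf15 zf32) (kf xf8 yf15 zf37) (kf xf2 yf1 zf13) (kf xf4 yf2 zf56) (kf xf2 yf37 zf19) (kf xf8 yf7 zf20) (kf xf4 yf10 zf9) (kf xf2 yf37 zf27) (kf xf8 yf11 zf25) (kf xf2 yf1 zf16) (kf xf4 yf7 zf30) (kf xf8 yf15 zf50) (kf xf4 yf7 zf33) (kf xf8 yf15 zf54) (kf xf2 yf1 zf19) (kf xf4 yf7 zf37) (kf xf8 yf15 zf60) (kf xf2 yf1 zf29) (kf xf2 yf1 zf22)) (@D3.rec (fun _ => Pt) (kf xf4 yf7 zf39) (kf xf8 yf16 zf4) (kf xf4 yf7 zf42) (kf xf4 yf7 zf41) (kf xf8 yf16 zf15) (kf xf8 yf16 zf20) (kf xf2 yf1 zf24) (kf xf2 yf40 zf56) (kf xf2 yf1 zf51) (kf xf8 yf15 zf41) (kf xf2 yf1 zf54) (kf xf8 yf15 zf49) (kf xf2 yf1 zf41) (kf xf2 yf1 zf56) (kf xf8 yf16 zf31) (kf xf2 yf1 zf43) (kf xf8 yf16 zf36) (kf xf2 yf2 zf2) (kf xf2 yf2 zf3) (kf xf8 yf16 zf42) (kf xf2 yf1 zf61) (kf xf8 yf16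 zf47) (kf xf2 yf2 zf7) (kf xf2 yf2 zf6) (kf xf8 yf16 zf58) (kf xf8 yf6 zf27) (kf xf2 yf1 zf34) (kf xf4 yf15 zf36) (kf xf4 yf51 zf4) (kf xf4 yf51 zf24) (kf xf8 yf17 zf7) (kf xf4 yf7 zf29) (kf xf5 yf29 zf54) (kf xf2 yf43 zf39) (kf xf7 yf58 zf3) (kf xf8 yf17 zf16) (kf xf2 yf43 zf54) (kf xf2 yf1 zf40) (kf xf8 yf16 zf26) (kf xf8 yf17 zf22) (kf xf4 yf16 zf61) (kf xf4 yf16 zf0) (kf xf5 yf29 zf33) (kf xf5 yf29 zf36) (kf xf8 yf16 zf32) (kf xf8 yf16 zf33) (kf xf8 yf17 zf43) (kf xf8 yf16 zf30) (kf xf4 yf17 zf10) (kf xf8 yf17 zf50) (kf xf2 yf1 zf44) (kf xf2 yf34 zf44) (kf xf2 yf8 zf2) (kf xf2 yf8 zf5) (kf xf4 yf52 zf51) (kf xf2 yf25 zf15) (kf xf4 yf19 zf6) (kf xf4 yf3 zf44) (kf xf4 yf17 zf17) (kf xf8 yf16 zf22) (kf xf8 yf18 zf4) (kf xf2 yf1 zf52)) (@D3.rec (fun _ => Pt) (kf xf2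 yf25 zf18) (kf xf4 yf19 zf7) (kf xf8 yf16 zf24) (kf xf8 yf18 zf12) (kf xf2 yf28 zf14) (kf xf4 yf51 zf0) (kf xf2 yf1 zf55) (kf xf8 yf16 zf27) (kf xf8 yf16 zf28) (kf xf8 yf18 zf23) (kf xf4 yf15 zf40) (kf xf8 yf16 zf35) (kf xf8 yf18 zf29) (kf xf2 yf1 zf57) (kf xf2 yf40 zf14) (kf xf2 yf23 zf44) (kf xf2 yf34 zf28) (kf xf8 yf8 zf1) (kf xf5 yf17 zf11) (kf xf5 yf29 zf31) (kf xf8 yf16 zf43) (kf xf8 yf16 zf44) (kf xf8 yf18 zf51) (kf xf2 yf5 zf21) (kf xf2 yf34 zf31) (kf xf8 yf16 zf41) (kf xf4 yf17 zf55) (kf xf2 yf41 zf21) (kf xf2 yf2 zf1) (kf xf2 yf8 zf7) (kf xf8 yf10 zf46) (kf xf8 yf19 zf3) (kf xf8 yf16 zf38) (kf xf8 yf16 zf39) (kf xf8 yf19 zf13) (kf xf5 yf28 zf17) (kf xf4 yf18 zf14) (kf xf8 yf16 zf46) (kf xf8 yf19 zf19) (kf xf2 yf2 zf5) (kf xf8 yf16 zf51) (kf xf5 yf17 zf12)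 (kf xf8 yf16 zf52) (kf xf8 yf19 zf31) (kf xf8 yf16 zf48) (kf xf8 yf16 zf49) (kf xf8 yf19 zf39) (kf xf6 yf48 zf31) (kf xf8 yf19 zf41) (kf xf8 yf19 zf40) (kf xf8 yf19 zf52) (kf xf2 yf2 zf8) (kf xf8 yf16 zf60) (kf xf8 yf16 zf59) (kf xf5 yf16 zf59) (kf xf8 yf20 zf0) (kf xf2 yf2 zf9) (kf xf4 yf16 zf38) (kf xf4 yf16 zf39) (kf xf4 yf16 zf40) (kf xf2 yf37 zf11) (kf xf4 yf16 zf43)) (@D3.rec (fun _ => Pt) (kf xf4 yf17 zf14) (kf xf8 yf20 zf20) (kf xf2 yf2 zf22) (kf xf2 yf2 zf14) (kf xf2 yf37 zf13) (kf xf4 yf3 zf38) (kf xf4 yf3 zf40) (kf xf8 yf20 zf29) (kf xf4 yf27 zf44) (kf xf4 yf7 zf49) (kf xf2 yf2 zf17) (kf xf4 yf17 zf18) (kf xf8 yf20 zf34) (kf xf4 yf17 zf20) (kf xf8 yf20 zf39) (kf xf4 yf17 zf22) (kf xf4 yf17 zf23) (kf xf4 yf17 zf24) (kf xf4 yf17 zf25) (kf xf8 yf20 zf57) (kf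 xf8 yf20 zf19) (kf xf8 yf20 zf18) (kf xf2 yf2 zf21) (kf xf4 yf17 zf1) (kf xf4 yf17 zf36) (kf xf4 yf12 zf37) (kf xf4 yf13 zf21) (kf xf4 yf17 zf30) (kf xf4 yf17 zf31) (kf xf4 yf17 zf32) (kf xf6 yf18 zf2) (kf xf4 yf12 zf51) (kf xf4 yf12 zf49) (kf xf2 yf2 zf29) (kf xf4 yf15 zf47) (kf xf4 yf17 zf11) (kf xf2 yf58 zf20) (kf xf2 yf58 zf22) (kf xf4 yf17 zf13) (kf xf4 yf16 zf44) (kf xf8 yf20 zf38) (kf xf2 yf38 zf22) (kf xf4 yf16 zf46) (kf xf4 yf17 zf27) (kf xf4 yf16 zf51) (kf xf4 yf16 zf52) (kf xf4 yf16 zf53) (kf xf4 yf16 zf54) (kf xf6 yf38 zf10) (kf xf4 yf17 zf19) (kf xf8 yf21 zf39) (kf xf2 yf2 zf39) (kf xf2 yf37 zf58) (kf xf4 yf17 zf7) (kf xf4 yf17 zf8) (kf xf4 yf17 zf9) (kf xf4 yf12 zf45) (kf xf4 yf17 zf6) (kf xf2 yf40 zf36) (kf xf2 yf40 zf35) (kf xf8 yf21 zf51) (kf xf2 yf2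 zf45)) (@D3.rec (fun _ => Pt) (kf xf2 yf40 zf38) (kf xf4 yf17 zf60) (kf xf8 yf21 zf60) (kf xf4 yf18 zf0) (kf xf4 yf18 zf1) (kf xf4 yf18 zf2) (kf xf4 yf18 zf3) (kf xf8 yf22 zf13) (kf xf8 yf21 zf59) (kf xf8 yf21 zf58) (kf xf2 yf38 zf27) (kf xf2 yf2 zf50) (kf xf4 yf18 zf8) (kf xf4 yf18 zf9) (kf xf4 yf18 zf10) (kf xf3 yf16 zf1) (kf xf4 yf17 zf52) (kf xf4 yf17 zf51) (kf xf3 yf15 zf58) (kf xf2 yf2 zf52) (kf xf4 yf16 zf9) (kf xf4 yf17 zf58) (kf xf4 yf18 zf13) (kf xf2 yf41 zf37) (kf xf4 yf17 zf37) (kf xf8 yf22 zf35) (kf xf4 yf17 zf39) (kf xf4 yf17 zf40) (kf xf4 yf17 zf41) (kf xf4 yf17 zf42) (kf xf8 yf22 zf50) (kf xf8 yf22 zf17) (kf xf8 yf22 zf34) (kf xf2 yf2 zf59) (kf xf4 yf17 zf47) (kf xf4 yf17 zf48) (kf xf4 yf17 zf49) (kf xf6 yf9 zf56) (kf xf3 yf10 zf32) (kf xf2 yf2 zf61)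 (kf xf4 yf17 zf59) (kf xf4 yf16 zf17) (kf xf4 yf18 zf19) (kf xf4 yf18 zf20) (kf xf4 yf18 zf21) (kf xf4 yf18 zf22) (kf xf2 yf3 zf7) (kf xf2 yf3 zf6) (kf xf6 yf22 zf46) (kf xf8 yf23 zf20) (kf xf8 yf23 zf24) (kf xf8 yf23 zf26) (kf xf2 yf3 zf5) (kf xf8 yf23 zf7) (kf xf8 yf23 zf8) (kf xf8 yf23 zf9) (kf xf3 yf28 zf37) (kf xf2 yf6 zf32) (kf xf2 yf6 zf30) (kf xf2 yf6 zf31) (kf xf2 yf5 zf33) (kf xf4 yf12 zf0)) (@D3.rec (fun _ => Pt) (kf xf4 yf11 zf61) (kf xf4 yf12 zf2) (kf xf4 yf12 zf1) (kf xf4 yf18 zf31) (kf xf4 yf18 zf32) (kf xf4 yf18 zf33) (kf xf6 yf6 zf14) (kf xf2 yf8 zf47) (kf xf2 yf58 zf60) (kf xf4 yf20 zf6) (kf xf4 yf4 zf60) (kf xf4 yf4 zf61) (kf xf4 yf5 zf0) (kf xf4 yf18 zf38) (kf xf4 yf19 zf24) (kf xf8 yf24 zf8) (kf xf2 yf3 zf27) (kf xf2 yf3 zf22) (kf xf4 yf19 zf27)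 (kf xf4 yf19 zf28) (kf xf8 yf24 zf15) (kf xf4 yf19 zf30) (kf xf4 yf19 zf31) (kf xf8 yf24 zf22) (kf xf4 yf19 zf33) (kf xf4 yf19 zf34) (kf xf4 yf19 zf35) (kf xf4 yf19 zf36) (kf xf2 yf19 zf36) (kf xf8 yf24 zf7) (kf xf8 yf24 zf6) (kf xf2 yf3 zf26) (kf xf4 yf54 zf46) (kf xf2 yf40 zf24) (kf xf2 yf7 zf14) (kf xf4 yf18 zf60) (kf xf8 yf24 zf51) (kf xf4 yf10 zf25) (kf xf8 yf24 zf56) (kf xf2 yf45 zf52) (kf xf2 yf45 zf51) (kf xf2 yf3 zf32) (kf xf2 yf45 zf39) (kf xf4 yf19 zf45) (kf xf2 yf45 zf55) (kf xf4 yf10 zf56) (kf xf3 yf11 zf57) (kf xf3 yf8 zf46) (kf xf4 yf19 zf2) (kf xf4 yf10 zf32) (kf xf4 yf19 zf1) (kf xf4 yf10 zf31) (kf xf4 yf19 zf3) (kf xf2 yf25 zf29) (kf xf4 yf19 zf49) (kf xf2 yf35 zf20) (kf xf4 yf6 zf11) (kf xf4 yf19 zf23) (kf xf4 yf18 zf39) (kf xf8 yf24 zf21) (kf xf2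 yf3 zf53) (kf xf2 yf3 zf47)) (@D3.rec (fun _ => Pt) (kf xf4 yf18 zf42) (kf xf4 yf18 zf43) (kf xf4 yf19 zf38) (kf xf2 yf41 zf3) (kf xf4 yf18 zf45) (kf xf8 yf25 zf23) (kf xf4 yf18 zf47) (kf xf4 yf18 zf48) (kf xf4 yf18 zf49) (kf xf4 yf18 zf50) (kf xf8 yf25 zf39) (kf xf4 yf19 zf29) (kf xf2 yf3 zf51) (kf xf4 yf6 zf18) (kf xf4 yf6 zf21) (kf xf2 yf6 zf43) (kf xf4 yf19 zf0) (kf xf3 yf11 zf28) (kf xf3 yf11 zf6) (kf xf2 yf3 zf56) (kf xf4 yf18 zf61) (kf xf4 yf10 zf26) (kf xf2 yf25 zf27) (kf xf2 yf25 zf9) (kf xf4 yf54 zf48) (kf xf2 yf38 zf36) (kf xf4 yf14 zf49) (kf xf4 yf4 zf50) (kf xf8 yf25 zf55) (kf xf8 yf14 zf47) (kf xf8 yf25 zf52) (kf xf8 yf26 zf1) (kf xf2 yf4 zf5) (kf xf4 yf2 zf30) (kf xf8 yf26 zf6) (kf xf2 yf4 zf6) (kf xf5 yf15 zf15) (kf xf4 yf13 zf44) (kf xf4 yf55 zf8) (kf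 xf4 yf13 zf46) (kf xf5 yf15 zf45) (kf xf2 yf4 zf10) (kf xf8 yf26 zf15) (kf xf2 yf4 zf12) (kf xf4 yf13 zf37) (kf xf8 yf23 zf56) (kf xf4 yf13 zf39) (kf xf8 yf17 zf51) (kf xf2 yf4 zf14) (kf xf2 yf4 zf26) (kf xf8 yf23 zf55) (kf xf2 yf4 zf29) (kf xf2 yf41 zf49) (kf xf2 yf4 zf17) (kf xf4 yf5 zf20) (kf xf8 yf26 zf8) (kf xf6 yf6 zf17) (kf xf2 yf4 zf19) (kf xf4 yf55 zf3) (kf xf5 yf28 zf11) (kf xf4 yf55 zf5) (kf xf4 yf55 zf6)) (@D3.rec (fun _ => Pt) (kf xf8 yf26 zf40) (kf xf2 yf4 zf23) (kf xf4 yf21 zf4) (kf xf8 yf11 zf6) (kf xf2 yf23 zf20) (kf xf5 yf15 zf20) (kf xf5 yf27 zf36) (kf xf8 yf26 zf48) (kf xf2 yf4 zf27) (kf xf4 yf55 zf25) (kf xf8 yf26 zf55) (kf xf4 yf28 zf23) (kf xf5 yf14 zf59) (kf xf8 yf27 zf1) (kf xf2 yf41 zf46) (kf xf8 yf27 zf9) (kf xf8 yf27 zf13) (kf xf2 yf4 zf30)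 (kf xf8 yf26 zf31) (kf xf4 yf50 zf38) (kf xf8 yf27 zf22) (kf xf4 yf3 zf14) (kf xf8 yf27 zf28) (kf xf8 yf27 zf33) (kf xf8 yf7 zf10) (kf xf2 yf4 zf34) (kf xf2 yf4 zf48) (kf xf4 yf4 zf39) (kf xf8 yf27 zf42) (kf xf4 yf4 zf28) (kf xf4 yf4 zf27) (kf xf8 yf27 zf48) (kf xf2 yf4 zf37) (kf xf4 yf19 zf56) (kf xf4 yf56 zf0) (kf xf8 yf27 zf56) (kf xf4 yf4 zf9) (kf xf8 yf28 zf2) (kf xf4 yf55 zf54) (kf xf4 yf55 zf53) (kf xf8 yf28 zf9) (kf xf2 yf4 zf42) (kf xf8 yf28 zf13) (kf xf8 yf10 zf24) (kf xf8 yf10 zf23) (kf xf2 yf4 zf44) (kf xf8 yf28 zf22) (kf xf8 yf28 zf17) (kf xf8 yf28 zf16) (kf xf4 yf13 zf26) (kf xf2 yf4 zf45) (kf xf8 yf28 zf34) (kf xf8 yf27 zf35) (kf xf5 yf38 zf52) (kf xf4 yf56 zf28) (kf xf4 yf15 zf7) (kf xf8 yf28 zf45) (kf xf4 yf15 zf11) (kf xf8 yf28 zf51) (kf xf4 yf15 zf14)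 (kf xf4 yf15 zf13) (kf xf8 yf29 zf0)) (@D3.rec (fun _ => Pt) (kf xf8 yf29 zf4) (kf xf2 yf4 zf53) (kf xf2 yf40 zf6) (kf xf8 yf13 zf13) (kf xf2 yf37 zf54) (kf xf8 yf13 zf37) (kf xf2 yf4 zf56) (kf xf4 yf14 zf55) (kf xf5 yf27 zf48) (kf xf2 yf5 zf3) (kf xf2 yf4 zf59) (kf xf4 yf14 zf57) (kf xf8 yf29 zf18) (kf xf4 yf14 zf60) (kf xf4 yf14 zf59) (kf xf8 yf29 zf29) (kf xf5 yf16 zf11) (kf xf2 yf4 zf61) (kf xf4 yf29 zf3) (kf xf2 yf5 zf18) (kf xf5 yf19 zf3) (kf xf2 yf5 zf10) (kf xf2 yf5 zf22) (kf xf8 yf29 zf40) (kf xf2 yf5 zf12) (kf xf8 yf29 zf45) (kf xf2 yf5 zf28) (kf xf2 yf5 zf29) (kf xf8 yf29 zf52) (kf xf2 yf5 zf26) (kf xf8 yf29 zf57) (kf xf2 yf5 zf32) (kf xf2 yf5 zf31) (kf xf8 yf30 zf6) (kf xf8 yf27 zf11) (kf xf2 yf5 zf8) (kf xf4 yf8 zf27) (kf xf8 yf29 zf35) (kf xf8 yf30 zf16)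 (kf xf2 yf41 zf26) (kf xf4 yf9 zf10) (kf xf8 yf24 zf16) (kf xf8 yf18 zf13) (kf xf8 yf29 zf41) (kf xf8 yf29 zf42) (kf xf8 yf30 zf37) (kf xf8 yf29 zf39) (kf xf4 yf10 zf34) (kf xf8 yf30 zf43) (kf xf2 yf5 zf13) (kf xf2 yf35 zf39) (kf xf7 yf56 zf3) (kf xf8 yf11 zf3) (kf xf4 yf21 zf38) (kf xf8 yf25 zf14) (kf xf8 yf30 zf53) (kf xf2 yf5 zf19) (kf xf2 yf40 zf7) (kf xf8 yf30 zf57) (kf xf8 yf29 zf36) (kf xf8 yf29 zf37) (kf xf8 yf31 zf5)) (@D3.rec (fun _ => Pt) (kf xf4 yf8 zf41) (kf xf8 yf29 zf44) (kf xf2 yf5 zf23) (kf xf5 yf14 zf54) (kf xf8 yf29 zf47) (kf xf8 yf29 zf53) (kf xf8 yf29 zf54) (kf xf8 yf31 zf23) (kf xf8 yf29 zf51) (kf xf4 yf11 zf20) (kf xf4 yf29 zf12) (kf xf2 yf5 zf27) (kf xf8 yf12 zf58) (kf xf8 yf31 zf35) (kf xf8 yf29 zf48) (kf xf8 yf29 zf49) (kf xf8 yf31 zf45) (kf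 xf4 yf11 zf41) (kf xf8 yf29 zf56) (kf xf8 yf31 zf50) (kf xf2 yf5 zf30) (kf xf8 yf29 zf61) (kf xf5 yf14 zf58) (kf xf8 yf30 zf0) (kf xf8 yf32 zf0) (kf xf8 yf29 zf58) (kf xf2 yf23 zf37) (kf xf8 yf29 zf59) (kf xf8 yf32 zf10) (kf xf8 yf23 zf39) (kf xf8 yf23 zf40) (kf xf8 yf23 zf33) (kf xf8 yf23 zf41) (kf xf8 yf30 zf8) (kf xf8 yf30 zf7) (kf xf8 yf26 zf25) (kf xf8 yf32 zf28) (kf xf2 yf5 zf34) (kf xf4 yf9 zf57) (kf xf4 yf9 zf58) (kf xf4 yf9 zf59) (kf xf2 yf8 zf3) (kf xf2 yf58 zf21) (kf xf4 yf9 zf61) (kf xf4 yf10 zf39) (kf xf8 yf32 zf49) (kf xf4 yf10 zf42) (kf xf8 yf32 zf56) (kf xf2 yf38 zf17) (kf xf2 yf38 zf31) (kf xf8 yf33 zf0) (kf xf4 yf10 zf44) (kf xf4 yf10 zf45) (kf xf4 yf10 zf46) (kf xf4 yf10 zf47) (kf xf6 yf10 zf6) (kf xf8 yf32 zf48) (kf xf8 yf32 zf47) (kf xf2 yf5 zf44)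 (kf xf2 yf58 zf34) (kf xf2 yf58 zf36) (kf xf4 yf8 zf40)) (@D3.rec (fun _ => Pt) (kf xf8 yf31 zf7) (kf xf4 yf10 zf23) (kf xf2 yf41 zf42) (kf xf2 yf41 zf41) (kf xf2 yf5 zf50) (kf xf2 yf41 zf45) (kf xf4 yf10 zf57) (kf xf4 yf10 zf53) (kf xf4 yf10 zf54) (kf xf4 yf10 zf55) (kf xf4 yf8 zf48) (kf xf4 yf10 zf35) (kf xf2 yf37 zf12) (kf xf4 yf10 zf38) (kf xf4 yf10 zf0) (kf xf8 yf32 zf61) (kf xf2 yf5 zf60) (kf xf4 yf8 zf58) (kf xf4 yf10 zf11) (kf xf4 yf10 zf49) (kf xf4 yf10 zf13) (kf xf8 yf33 zf50) (kf xf4 yf10 zf15) (kf xf4 yf10 zf16) (kf xf4 yf10 zf17) (kf xf4 yf10 zf18) (kf xf8 yf34 zf4) (kf xf4 yf10 zf43) (kf xf2 yf6 zf2) (kf xf2 yf37 zf20) (kf xf4 yf10 zf27) (kf xf4 yf10 zf28) (kf xf4 yf10 zf29) (kf xf3 yf18 zf45) (kf xf3 yf17 zf1) (kf xf2 yf6 zf7) (kf xf4 yf10 zf24) (kf xf4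 yf11 zf24) (kf xf8 yf34 zf17) (kf xf4 yf11 zf26) (kf xf4 yf11 zf27) (kf xf4 yf11 zf28) (kf xf4 yf11 zf29) (kf xf8 yf34 zf31) (kf xf8 yf34 zf16) (kf xf8 yf34 zf15) (kf xf2 yf6 zf12) (kf xf4 yf11 zf34) (kf xf4 yf11 zf35) (kf xf4 yf11 zf36) (kf xf6 yf36 zf19) (kf xf4 yf11 zf17) (kf xf4 yf11 zf16) (kf xf6 yf25 zf38) (kf xf2 yf6 zf14) (kf xf4 yf9 zf26) (kf xf2 yf43 zf30) (kf xf3 yf7 zf9) (kf xf4 yf11 zf21) (kf xf4 yf11 zf40) (kf xf4 yf11 zf1) (kf xf8 yf34 zf55)) (@D3.rec (fun _ => Pt) (kf xf4 yf11 zf3) (kf xf4 yf11 zf4) (kf xf4 yf11 zf5) (kf xf4 yf11 zf6) (kf xf8 yf35 zf6) (kf xf8 yf34 zf35) (kf xf8 yf34 zf54) (kf xf2 yf6 zf20) (kf xf4 yf11 zf12) (kf xf4 yf11 zf13) (kf xf4 yf11 zf14) (kf xf3 yf10 zf57) (kf xf2 yf6 zf22) (kf xf4 yf11 zf22) (kf xf4 yf9 zf36) (kf xf3 yf9 zf29)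 (kf xf3 yf9 zf30) (kf xf2 yf18 zf36) (kf xf3 yf9 zf28) (kf xf4 yf11 zf42) (kf xf4 yf11 zf43) (kf xf4 yf11 zf44) (kf xf4 yf11 zf45) (kf xf7 yf25 zf45) (kf xf8 yf23 zf35) (kf xf8 yf21 zf0) (kf xf8 yf35 zf42) (kf xf8 yf23 zf36) (kf xf8 yf23 zf37) (kf xf8 yf21 zf1) (kf xf6 yf17 zf18) (kf xf4 yf12 zf3) (kf xf4 yf12 zf4) (kf xf4 yf12 zf5) (kf xf5 yf26 zf40) (kf xf4 yf6 zf8) (kf xf4 yf6 zf9) (kf xf4 yf6 zf10) (kf xf4 yf12 zf13) (kf xf4 yf12 zf58) (kf xf8 yf36 zf2) (kf xf2 yf6 zf38) (kf xf4 yf13 zf0) (kf xf4 yf13 zf1) (kf xf8 yf36 zf8) (kf xf4 yf13 zf4) (kf xf8 yf36 zf13) (kf xf4 yf13 zf6) (kf xf4 yf13 zf7) (kf xf4 yf13 zf8) (kf xf4 yf13 zf9) (kf xf6 yf25 zf47) (kf xf8 yf36 zf1) (kf xf8 yf36 zf0) (kf xf2 yf6 zf42) (kf xf5 yf28 zf14) (kf xf5 yf28 zf16) (kf xf4 yf6 zf27) (kf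 xf4 yf6 zf29) (kf xf2 yf23 zf24) (kf xf4 yf12 zf35) (kf xf4 yf13 zf20)) (@D3.rec (fun _ => Pt) (kf xf4 yf13 zf16) (kf xf4 yf12 zf50) (kf xf4 yf12 zf48) (kf xf4 yf12 zf52) (kf xf2 yf23 zf13) (kf xf2 yf23 zf7) (kf xf4 yf8 zf56) (kf xf4 yf9 zf1) (kf xf2 yf25 zf4) (kf xf8 yf36 zf43) (kf xf8 yf36 zf46) (kf xf4 yf3 zf28) (kf xf8 yf36 zf52) (kf xf4 yf3 zf49) (kf xf4 yf3 zf48) (kf xf8 yf36 zf59) (kf xf2 yf7 zf0) (kf xf2 yf36 zf15) (kf xf4 yf56 zf45) (kf xf2 yf44 zf48) (kf xf4 yf23 zf8) (kf xf2 yf28 zf5) (kf xf4 yf5 zf1) (kf xf4 yf12 zf57) (kf xf4 yf12 zf14) (kf xf8 yf36 zf12) (kf xf2 yf7 zf8) (kf xf4 yf12 zf18) (kf xf4 yf12 zf19) (kf xf4 yf13 zf11) (kf xf4 yf12 zf21) (kf xf4 yf12 zf22) (kf xf8 yf37 zf19) (kf xf4 yf12 zf24) (kf xf4 yf12 zf25) (kf xf4 yf12 zf26) (kf xf4 yf12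 zf27) (kf xf4 yf43 zf37) (kf xf4 yf13 zf2) (kf xf8 yf37 zf35) (kf xf2 yf7 zf12) (kf xf4 yf5 zf8) (kf xf4 yf5 zf10) (kf xf5 yf36 zf9) (kf xf2 yf44 zf8) (kf xf4 yf12 zf43) (kf xf2 yf44 zf5) (kf xf2 yf44 zf4) (kf xf2 yf7 zf20) (kf xf4 yf12 zf54) (kf xf3 yf58 zf21) (kf xf2 yf23 zf31) (kf xf2 yf44 zf46) (kf xf2 yf44 zf47) (kf xf4 yf20 zf23) (kf xf8 yf37 zf47) (kf xf4 yf14 zf33) (kf xf8 yf37 zf52) (kf xf4 yf3 zf34) (kf xf4 yf20 zf25) (kf xf8 yf37 zf60) (kf xf4 yf20 zf43)) (@D3.rec (fun _ => Pt) (kf xf2 yf7 zf28) (kf xf2 yf43 zf34) (kf xf4 yf20 zf30) (kf xf8 yf38 zf6) (kf xf3 yf4 zf11) (kf xf4 yf20 zf32) (kf xf4 yf12 zf9) (kf xf4 yf20 zf35) (kf xf4 yf20 zf36) (kf xf4 yf56 zf61) (kf xf8 yf38 zf15) (kf xf5 yf7 zf32) (kf xf8 yf38 zf13) (kf xf8 yf38 zf22) (kf xf2 yf7 zf34) (kf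 xf4 yf20 zf42) (kf xf4 yf20 zf27) (kf xf8 yf38 zf29) (kf xf2 yf7 zf35) (kf xf4 yf54 zf52) (kf xf4 yf5 zf17) (kf xf6 yf4 zf58) (kf xf2 yf7 zf37) (kf xf4 yf19 zf54) (kf xf5 yf35 zf36) (kf xf4 yf19 zf59) (kf xf8 yf38 zf45) (kf xf4 yf20 zf16) (kf xf2 yf7 zf41) (kf xf4 yf31 zf17) (kf xf4 yf20 zf2) (kf xf8 yf38 zf52) (kf xf4 yf20 zf5) (kf xf4 yf4 zf35) (kf xf4 yf23 zf6) (kf xf4 yf20 zf7) (kf xf4 yf20 zf8) (kf xf7 yf5 zf34) (kf xf7 yf17 zf28) (kf xf8 yf39 zf2) (kf xf2 yf7 zf48) (kf xf4 yf1 zf33) (kf xf4 yf20 zf15) (kf xf4 yf19 zf61) (kf xf8 yf39 zf9) (kf xf2 yf7 zf49) (kf xf4 yf56 zf2) (kf xf8 yf39 zf14) (kf xf8 yf39 zf17) (kf xf8 yf39 zf22) (kf xf7 yf57 zf4) (kf xf2 yf7 zf54) (kf xf5 yf23 zf23) (kf xf8 yf39 zf28) (kf xf2 yf7 zf56) (kf xf2 yf38 zf48) (kf xf5 yf35 zf12) (kf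 xf8 yf39 zf35) (kf xf8 yf39 zf40) (kf xf4 yf25 zf11) (kf xf2 yf7 zf60) (kf xf5 yf35 zf13)) (@D3.rec (fun _ => Pt) (kf xf8 yf39 zf47) (kf xf2 yf8 zf0) (kf xf4 yf52 zf21) (kf xf4 yf52 zf8) (kf xf4 yf14 zf2) (kf xf5 yf1 zf19) (kf xf8 yf17 zf55) (kf xf8 yf39 zf58) (kf xf2 yf33 zf10) (kf xf2 yf37 zf16) (kf xf2 yf8 zf6) (kf xf8 yf10 zf47) (kf xf8 yf40 zf1) (kf xf4 yf52 zf19) (kf xf8 yf40 zf9) (kf xf8 yf24 zf32) (kf xf2 yf8 zf8) (kf xf8 yf32 zf40) (kf xf4 yf51 zf5) (kf xf8 yf40 zf19) (kf xf4 yf1 zf0) (kf xf2 yf38 zf12) (kf xf2 yf8 zf11) (kf xf2 yf23 zf43) (kf xf8 yf40 zf24) (kf xf8 yf40 zf29) (kf xf8 yf40 zf30) (kf xf2 yf8 zf13) (kf xf2 yf8 zf34) (kf xf4 yf3 zf52) (kf xf8 yf40 zf17) (kf xf4 yf4 zf46) (kf xf7 yf55 zf38) (kf xf4 yf53 zf14) (kf xf8 yf40 zf46) (kf xf7 yf55 zf36)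 (kf xf7 yf55 zf35) (kf xf2 yf8 zf17) (kf xf4 yf15 zf53) (kf xf7 yf55 zf30) (kf xf8 yf40 zf56) (kf xf7 yf55 zf33) (kf xf4 yf53 zf13) (kf xf8 yf41 zf3) (kf xf7 yf55 zf41) (kf xf7 yf55 zf40) (kf xf2 yf8 zf23) (kf xf4 yf53 zf6) (kf xf4 yf53 zf7) (kf xf8 yf41 zf17) (kf xf7 yf55 zf46) (kf xf7 yf55 zf45) (kf xf8 yf41 zf25) (kf xf2 yf8 zf25) (kf xf7 yf55 zf43) (kf xf8 yf41 zf29) (kf xf4 yf53 zf3) (kf xf4 yf53 zf4) (kf xf8 yf41 zf39) (kf xf7 yf55 zf49) (kf xf7 yf55 zf48) (kf xf2 yf8 zf28)) (@D3.rec (fun _ => Pt) (kf xf7 yf55 zf53) (kf xf7 yf55 zf54) (kf xf8 yf41 zf52) (kf xf7 yf55 zf51) (kf xf4 yf56 zf59) (kf xf8 yf41 zf61) (kf xf8 yf42 zf6) (kf xf8 yf42 zf1) (kf xf8 yf42 zf0) (kf xf7 yf56 zf34) (kf xf2 yf8 zf31) (kf xf4 yf56 zf47) (kf xf4 yf56 zf55) (kf xf8 yf42 zf23) (kf xf8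 yf40 zf32) (kf xf7 yf56 zf2) (kf xf7 yf56 zf1) (kf xf2 yf41 zf4) (kf xf2 yf41 zf5) (kf xf8 yf42 zf38) (kf xf2 yf35 zf26) (kf xf2 yf8 zf36) (kf xf4 yf56 zf46) (kf xf8 yf42 zf44) (kf xf7 yf56 zf10) (kf xf2 yf8 zf38) (kf xf2 yf44 zf28) (kf xf2 yf44 zf29) (kf xf4 yf22 zf57) (kf xf4 yf56 zf51) (kf xf4 yf56 zf52) (kf xf4 yf56 zf53) (kf xf4 yf56 zf54) (kf xf6 yf7 zf42) (kf xf8 yf43 zf4) (kf xf4 yf56 zf38) (kf xf3 yf4 zf34) (kf xf8 yf4 zf59) (kf xf2 yf45 zf14) (kf xf7 yf56 zf5) (kf xf5 yf23 zf58) (kf xf8 yf43 zf14) (kf xf7 yf56 zf8) (kf xf8 yf43 zf20) (kf xf4 yf56 zf49) (kf xf2 yf8 zf49) (kf xf7 yf56 zf12) (kf xf7 yf56 zf13) (kf xf7 yf56 zf14) (kf xf7 yf56 zf15) (kf xf8 yf43 zf33) (kf xf2 yf47 zf19) (kf xf2 yf47 zf20) (kf xf2 yf47 zf16) (kf xf2 yf47 zf21) (kf xf2 yf13 zf29)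 (kf xf4 yf4 zf49) (kf xf4 yf22 zf28) (kf xf8 yf43 zf48) (kf xf4 yf0 zf0) (kf xf6 yf13 zf61) (kf xf2 yf8 zf54)) (@D3.rec (fun _ => Pt) (kf xf5 yf41 zf38) (kf xf2 yf46 zf29) (kf xf7 yf7 zf39) (kf xf7 yf7 zf38) (kf xf7 yf56 zf18) (kf xf8 yf43 zf59) (kf xf4 yf20 zf34) (kf xf2 yf30 zf40) (kf xf4 yf19 zf20) (kf xf8 yf44 zf3) (kf xf5 yf46 zf40) (kf xf2 yf9 zf2) (kf xf7 yf7 zf58) (kf xf7 yf7 zf57) (kf xf7 yf56 zf20) (kf xf8 yf44 zf14) (kf xf2 yf9 zf8) (kf xf2 yf9 zf7) (kf xf8 yf1 zf49) (kf xf8 yf44 zf21) (kf xf8 yf44 zf22) (kf xf7 yf59 zf21) (kf xf2 yf9 zf6) (kf xf8 yf44 zf16) (kf xf2 yf26 zf29) (kf xf5 yf24 zf28) (kf xf8 yf44 zf26) (kf xf8 yf44 zf15) (kf xf8 yf44 zf32) (kf xf8 yf44 zf31) (kf xf8 yf44 zf46) (kf xf8 yf44 zf48) (kf xf2 yf9 zf9) (kf xf2 yf10 zf27) (kf xf7 yf56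 zf32) (kf xf8 yf44 zf58) (kf xf7 yf56 zf30) (kf xf8 yf45 zf2) (kf xf7 yf55 zf59) (kf xf8 yf45 zf10) (kf xf7 yf56 zf37) (kf xf7 yf56 zf36) (kf xf2 yf9 zf14) (kf xf8 yf45 zf19) (kf xf2 yf10 zf38) (kf xf3 yf3 zf57) (kf xf3 yf3 zf58) (kf xf3 yf3 zf59) (kf xf3 yf3 zf60) (kf xf8 yf5 zf14) (kf xf8 yf45 zf32) (kf xf8 yf5 zf25) (kf xf3 yf3 zf49) (kf xf8 yf45 zf37) (kf xf3 yf9 zf50) (kf xf8 yf43 zf23) (kf xf3 yf9 zf54) (kf xf6 yf7 zf40) (kf xf3 yf9 zf57) (kf xf2 yf54 zf22) (kf xf2 yf54 zf24) (kf xf3 yf9 zf58)) (@D3.rec (fun _ => Pt) (kf xf8 yf45 zf52) (kf xf7 yf12 zf8) (kf xf5 yf48 zf39) (kf xf2 yf9 zf26) (kf xf7 yf56 zf46) (kf xf7 yf56 zf45) (kf xf8 yf46 zf0) (kf xf2 yf9 zf27) (kf xf3 yf4 zf35) (kf xf8 yf43 zf6) (kf xf2 yf50 zf58) (kf xf7 yf12 zf10) (kf xf4 yf24 zf46) (kf xf8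 yf4 zf54) (kf xf3 yf9 zf60) (kf xf4 yf24 zf47) (kf xf8 yf42 zf52) (kf xf7 yf12 zf35) (kf xf3 yf32 zf39) (kf xf7 yf56 zf42) (kf xf7 yf56 zf43) (kf xf7 yf56 zf44) (kf xf8 yf46 zf24) (kf xf7 yf12 zf11) (kf xf3 yf10 zf1) (kf xf3 yf10 zf0) (kf xf8 yf46 zf35) (kf xf2 yf9 zf39) (kf xf3 yf10 zf4) (kf xf3 yf10 zf5) (kf xf7 yf23 zf3) (kf xf2 yf9 zf41) (kf xf2 yf51 zf37) (kf xf2 yf54 zf20) (kf xf8 yf43 zf34) (kf xf2 yf54 zf15) (kf xf2 yf54 zf28) (kf xf8 yf46 zf48) (kf xf7 yf56 zf54) (kf xf7 yf56 zf53) (kf xf2 yf9 zf48) (kf xf7 yf56 zf48) (kf xf2 yf15 zf40) (kf xf8 yf43 zf53) (kf xf7 yf56 zf50) (kf xf8 yf46 zf61) (kf xf4 yf24 zf12) (kf xf4 yf24 zf15) (kf xf7 yf56 zf51) (kf xf8 yf47 zf9) (kf xf8 yf46 zf59) (kf xf8 yf46 zf39) (kf xf8 yf47 zf15) (kf xf2 yf9 zf53) (kf xf4 yf58 zf1)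 (kf xf4 yf58 zf0) (kf xf8 yf47 zf25) (kf xf2 yf9 zf54) (kf xf4 yf58 zf6) (kf xf4 yf58 zf4) (kf xf4 yf58 zf5) (kf xf4 yf58 zf8)) (@D3.rec (fun _ => Pt) (kf xf4 yf58 zf7) (kf xf8 yf47 zf41) (kf xf2 yf9 zf57) (kf xf2 yf52 zf59) (kf xf2 yf52 zf60) (kf xf2 yf52 zf46) (kf xf4 yf58 zf11) (kf xf7 yf57 zf1) (kf xf7 yf57 zf0) (kf xf8 yf47 zf59) (kf xf2 yf9 zf61) (kf xf4 yf20 zf59) (kf xf2 yf10 zf0) (kf xf4 yf25 zf17) (kf xf7 yf56 zf56) (kf xf6 yf13 zf49) (kf xf7 yf56 zf58) (kf xf4 yf25 zf13) (kf xf6 yf13 zf50) (kf xf8 yf44 zf8) (kf xf5 yf53 zf49) (kf xf7 yf17 zf30) (kf xf7 yf56 zf59) (kf xf7 yf56 zf60) (kf xf5 yf56 zf14) (kf xf8 yf48 zf25) (kf xf8 yf48 zf13) (kf xf8 yf48 zf12) (kf xf7 yf8 zf28) (kf xf2 yf10 zf6) (kf xf6 yf9 zf12) (kf xf6 yf9 zf11) (kf xf8 yf48 zf39) (kf xf2 yf10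 zf7) (kf xf5 yf38 zf42) (kf xf6 yf9 zf15) (kf xf8 yf48 zf48) (kf xf2 yf10 zf8) (kf xf2 yf10 zf21) (kf xf2 yf54 zf47) (kf xf2 yf10 zf17) (kf xf2 yf10 zf19) (kf xf5 yf13 zf38) (kf xf8 yf2 zf11) (kf xf5 yf49 zf50) (kf xf8 yf49 zf0) (kf xf2 yf27 zf1) (kf xf2 yf27 zf18) (kf xf5 yf47 zf55) (kf xf8 yf49 zf4) (kf xf2 yf10 zf13) (kf xf5 yf46 zf24) (kf xf5 yf49 zf54) (kf xf2 yf45 zf0) (kf xf2 yf10 zf14) (kf xf5 yf13 zf39) (kf xf8 yf49 zf15) (kf xf2 yf10 zf15) (kf xf8 yf47 zf43) (kf xf6 yf25 zf4) (kf xf8 yf44 zf50) (kf xf2 yf27 zf2)) (@D3.rec (fun _ => Pt) (kf xf8 yf49 zf23) (kf xf8 yf48 zf54) (kf xf8 yf49 zf29) (kf xf2 yf54 zf11) (kf xf8 yf49 zf33) (kf xf2 yf10 zf20) (kf xf2 yf10 zf23) (kf xf2 yf10 zf22) (kf xf8 yf48 zf50) (kf xf8 yf49 zf42) (kf xf6 yf16 zf48) (kf xf5 yf49 zf34)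 (kf xf8 yf49 zf50) (kf xf8 yf49 zf34) (kf xf8 yf49 zf35) (kf xf8 yf49 zf59) (kf xf8 yf49 zf38) (kf xf6 yf31 zf23) (kf xf3 yf57 zf60) (kf xf7 yf26 zf42) (kf xf8 yf50 zf8) (kf xf2 yf10 zf24) (kf xf5 yf40 zf32) (kf xf8 yf49 zf41) (kf xf2 yf10 zf25) (kf xf8 yf50 zf15) (kf xf8 yf0 zf6) (kf xf8 yf44 zf51) (kf xf6 yf13 zf48) (kf xf6 yf13 zf51) (kf xf8 yf50 zf34) (kf xf4 yf42 zf40) (kf xf4 yf42 zf39) (kf xf8 yf50 zf43) (kf xf2 yf10 zf29) (kf xf3 yf57 zf58) (kf xf3 yf57 zf59) (kf xf3 yf57 zf57) (kf xf8 yf50 zf50) (kf xf4 yf26 zf53) (kf xf4 yf26 zf52) (kf xf8 yf50 zf60) (kf xf2 yf10 zf31) (kf xf7 yf57 zf28) (kf xf6 yf13 zf35) (kf xf7 yf57 zf29) (kf xf8 yf51 zf12) (kf xf7 yf57 zf25) (kf xf6 yf13 zf34) (kf xf7 yf57 zf26) (kf xf8 yf51 zf25) (kf xf2 yf10 zf35) (kf xf4 yf26 zf40)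 (kf xf4 yf26 zf39) (kf xf8 yf51 zf26) (kf xf6 yf13 zf7) (kf xf6 yf13 zf5) (kf xf6 yf13 zf6) (kf xf4 yf1 zf18) (kf xf6 yf13 zf9) (kf xf6 yf13 zf8) (kf xf8 yf45 zf23)) (@D3.rec (fun _ => Pt) (kf xf2 yf15 zf57) (kf xf5 yf0 zf32) (kf xf2 yf17 zf57) (kf xf5 yf0 zf33) (kf xf6 yf13 zf12) (kf xf6 yf13 zf13) (kf xf5 yf12 zf55) (kf xf2 yf34 zf35) (kf xf2 yf37 zf14) (kf xf2 yf34 zf46) (kf xf5 yf3 zf44) (kf xf2 yf10 zf46) (kf xf4 yf27 zf22) (kf xf8 yf52 zf8) (kf xf4 yf27 zf24) (kf xf8 yf52 zf14) (kf xf4 yf27 zf27) (kf xf4 yf27 zf26) (kf xf8 yf52 zf25) (kf xf8 yf11 zf47) (kf xf2 yf10 zf51) (kf xf2 yf36 zf29) (kf xf4 yf27 zf12) (kf xf8 yf52 zf31) (kf xf4 yf27 zf14) (kf xf8 yf52 zf37) (kf xf4 yf27 zf17) (kf xf4 yf27 zf16) (kf xf8 yf52 zf48) (kf xf8 yf52 zf53) (kf xf2 yf10 zf56) (kf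 xf2 yf36 zf46) (kf xf2 yf11 zf5) (kf xf8 yf52 zf57) (kf xf2 yf11 zf14) (kf xf8 yf53 zf0) (kf xf2 yf11 zf19) (kf xf2 yf11 zf18) (kf xf8 yf53 zf11) (kf xf8 yf40 zf10) (kf xf2 yf10 zf61) (kf xf6 yf4 zf33) (kf xf5 yf36 zf30) (kf xf8 yf53 zf20) (kf xf4 yf10 zf8) (kf xf2 yf11 zf2) (kf xf8 yf7 zf14) (kf xf8 yf53 zf26) (kf xf2 yf40 zf30) (kf xf6 yf4 zf53) (kf xf5 yf35 zf31) (kf xf8 yf7 zf15) (kf xf8 yf52 zf54) (kf xf8 yf24 zf34) (kf xf8 yf53 zf47) (kf xf5 yf23 zf12) (kf xf2 yf40 zf52) (kf xf8 yf53 zf53) (kf xf2 yf11 zf6) (kf xf2 yf37 zf28) (kf xf8 yf7 zf16) (kf xf8 yf7 zf17)) (@D3.rec (fun _ => Pt) (kf xf8 yf54 zf4) (kf xf2 yf41 zf39) (kf xf8 yf52 zf56) (kf xf2 yf11 zf11) (kf xf3 yf58 zf31) (kf xf8 yf54 zf13) (kf xf5 yf0 zf41) (kf xf8 yf8 zf10) (kf xf8 yf52 zf58) (kf xf8 yf52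 zf59) (kf xf8 yf54 zf28) (kf xf8 yf8 zf14) (kf xf2 yf42 zf10) (kf xf5 yf6 zf13) (kf xf2 yf11 zf15) (kf xf8 yf8 zf11) (kf xf8 yf8 zf12) (kf xf8 yf54 zf44) (kf xf2 yf42 zf38) (kf xf8 yf52 zf61) (kf xf7 yf46 zf19) (kf xf2 yf11 zf17) (kf xf8 yf53 zf4) (kf xf4 yf14 zf11) (kf xf8 yf53 zf5) (kf xf8 yf54 zf56) (kf xf8 yf53 zf1) (kf xf2 yf25 zf32) (kf xf8 yf53 zf2) (kf xf8 yf55 zf4) (kf xf8 yf55 zf11) (kf xf8 yf55 zf6) (kf xf8 yf55 zf5) (kf xf8 yf55 zf21) (kf xf2 yf11 zf20) (kf xf8 yf53 zf13) (kf xf8 yf53 zf12) (kf xf8 yf24 zf33) (kf xf8 yf55 zf31) (kf xf2 yf11 zf21) (kf xf6 yf5 zf25) (kf xf6 yf5 zf26) (kf xf6 yf5 zf27) (kf xf2 yf41 zf11) (kf xf8 yf55 zf46) (kf xf2 yf41 zf14) (kf xf8 yf15 zf59) (kf xf2 yf41 zf16) (kf xf2 yf41 zf17) (kf xf2 yf41 zf18) (kf xf2 yf41 zf19) (kf xf8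 yf56 zf2) (kf xf5 yf28 zf6) (kf xf5 yf28 zf9) (kf xf2 yf11 zf27) (kf xf2 yf40 zf32) (kf xf6 yf5 zf58) (kf xf2 yf41 zf27) (kf xf2 yf41 zf28) (kf xf2 yf41 zf29) (kf xf2 yf41 zf30) (kf xf2 yf38 zf4)) (@D3.rec (fun _ => Pt) (kf xf5 yf35 zf3) (kf xf2 yf34 zf19) (kf xf2 yf34 zf20) (kf xf4 yf15 zf18) (kf xf2 yf38 zf13) (kf xf2 yf40 zf11) (kf xf6 yf5 zf51) (kf xf2 yf40 zf16) (kf xf2 yf40 zf17) (kf xf2 yf40 zf18) (kf xf2 yf40 zf19) (kf xf6 yf33 zf30) (kf xf4 yf16 zf10) (kf xf8 yf30 zf56) (kf xf2 yf11 zf42) (kf xf2 yf40 zf47) (kf xf2 yf40 zf48) (kf xf2 yf40 zf49) (kf xf2 yf40 zf50) (kf xf5 yf53 zf6) (kf xf2 yf50 zf44) (kf xf5 yf52 zf37) (kf xf2 yf41 zf40) (kf xf2 yf30 zf28) (kf xf2 yf42 zf19) (kf xf2 yf42 zf20) (kf xf2 yf42 zf21) (kf xf2 yf42 zf22) (kf xf8 yf57 zf11) (kf xf8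 yf6 zf12) (kf xf8 yf6 zf11) (kf xf5 yf6 zf22) (kf xf2 yf11 zf49) (kf xf2 yf42 zf27) (kf xf2 yf42 zf28) (kf xf2 yf42 zf29) (kf xf2 yf42 zf30) (kf xf8 yf57 zf31) (kf xf5 yf41 zf11) (kf xf2 yf42 zf7) (kf xf2 yf42 zf6) (kf xf8 yf57 zf37) (kf xf2 yf11 zf52) (kf xf2 yf38 zf45) (kf xf2 yf42 zf14) (kf xf2 yf42 zf11) (kf xf2 yf42 zf12) (kf xf6 yf6 zf28) (kf xf5 yf6 zf23) (kf xf8 yf57 zf47) (kf xf2 yf41 zf50) (kf xf2 yf41 zf51) (kf xf8 yf57 zf57) (kf xf8 yf57 zf46) (kf xf8 yf57 zf45) (kf xf2 yf11 zf59) (kf xf2 yf41 zf60) (kf xf2 yf41 zf61) (kf xf2 yf42 zf0) (kf xf2 yf42 zf1) (kf xf6 yf30 zf22) (kf xf2 yf42 zf33)) (@D3.rec (fun _ => Pt) (kf xf2 yf42 zf39) (kf xf6 yf6 zf15) (kf xf2 yf38 zf55) (kf xf2 yf42 zf36) (kf xf2 yf42 zf51) (kf xf2 yf42 zf52) (kf xf2 yf42 zf53) (kf xf2 yf42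 zf55) (kf xf8 yf58 zf27) (kf xf8 yf58 zf30) (kf xf8 yf58 zf34) (kf xf2 yf12 zf6) (kf xf2 yf42 zf40) (kf xf2 yf42 zf41) (kf xf2 yf42 zf42) (kf xf2 yf42 zf43) (kf xf2 yf42 zf44) (kf xf5 yf57 zf21) (kf xf2 yf57 zf10) (kf xf2 yf12 zf12) (kf xf2 yf12 zf11) (kf xf6 yf45 zf60) (kf xf8 yf59 zf0) (kf xf8 yf59 zf4) (kf xf8 yf59 zf7) (kf xf2 yf12 zf10) (kf xf8 yf58 zf53) (kf xf8 yf58 zf54) (kf xf8 yf58 zf55) (kf xf5 yf56 zf55) (kf xf2 yf48 zf36) (kf xf2 yf48 zf34) (kf xf2 yf48 zf35) (kf xf2 yf48 zf11) (kf xf8 yf59 zf29) (kf xf6 yf6 zf50) (kf xf2 yf43 zf15) (kf xf2 yf43 zf14) (kf xf4 yf34 zf18) (kf xf2 yf43 zf18) (kf xf2 yf43 zf17) (kf xf2 yf12 zf17) (kf xf2 yf43 zf21) (kf xf2 yf43 zf20) (kf xf6 yf6 zf56) (kf xf2 yf43 zf27) (kf xf2 yf43 zf28) (kf xf2 yf43 zf29) (kf xf5 yf16 zf24)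 (kf xf2 yf43 zf23) (kf xf2 yf43 zf24) (kf xf2 yf43 zf25) (kf xf2 yf25 zf20) (kf xf2 yf44 zf0) (kf xf6 yf7 zf22) (kf xf2 yf45 zf40) (kf xf2 yf45 zf41) (kf xf2 yf45 zf42) (kf xf2 yf54 zf61) (kf xf2 yf44 zf20) (kf xf2 yf44 zf18) (kf xf6 yf7 zf9)) (@D3.rec (fun _ => Pt) (kf xf2 yf44 zf36) (kf xf2 yf44 zf37) (kf xf2 yf44 zf30) (kf xf2 yf44 zf40) (kf xf2 yf44 zf41) (kf xf2 yf44 zf42) (kf xf2 yf45 zf59) (kf xf2 yf45 zf60) (kf xf2 yf45 zf61) (kf xf9 yf0 zf21) (kf xf2 yf45 zf7) (kf xf2 yf45 zf6) (kf xf2 yf12 zf32) (kf xf2 yf45 zf9) (kf xf2 yf45 zf16) (kf xf2 yf45 zf15) (kf xf2 yf28 zf6) (kf xf4 yf20 zf29) (kf xf2 yf43 zf40) (kf xf6 yf7 zf15) (kf xf2 yf43 zf42) (kf xf2 yf43 zf43) (kf xf9 yf0 zf40) (kf xf2 yf43 zf45) (kf xf2 yf43 zf46) (kf xf2 yf43 zf47) (kf xf2 yf43 zf48) (kf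 xf9 yf0 zf56) (kf xf4 yf52 zf57) (kf xf8 yf10 zf3) (kf xf2 yf12 zf41) (kf xf2 yf44 zf14) (kf xf2 yf44 zf15) (kf xf2 yf44 zf16) (kf xf9 yf1 zf9) (kf xf9 yf1 zf12) (kf xf2 yf12 zf45) (kf xf2 yf45 zf49) (kf xf2 yf29 zf9) (kf xf2 yf45 zf46) (kf xf2 yf44 zf51) (kf xf2 yf44 zf55) (kf xf2 yf44 zf56) (kf xf2 yf44 zf58) (kf xf2 yf44 zf60) (kf xf2 yf44 zf61) (kf xf2 yf46 zf1) (kf xf2 yf46 zf23) (kf xf2 yf46 zf22) (kf xf2 yf46 zf33) (kf xf9 yf1 zf32) (kf xf2 yf46 zf19) (kf xf2 yf46 zf18) (kf xf2 yf12 zf57) (kf xf2 yf46 zf32) (kf xf2 yf46 zf30) (kf xf2 yf46 zf5) (kf xf2 yf46 zf7) (kf xf2 yf14 zf29) (kf xf2 yf46 zf9) (kf xf2 yf13 zf2) (kf xf2 yf46 zf12)) (@D3.rec (fun _ => Pt) (kf xf9 yf1 zf50) (kf xf2 yf31 zf6) (kf xf5 yf48 zf42) (kf xf2 yf46 zf37) (kf xf2 yf46 zf36) (kf xf9 yf1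 zf56) (kf xf2 yf13 zf3) (kf xf2 yf30 zf42) (kf xf2 yf47 zf11) (kf xf2 yf47 zf12) (kf xf2 yf47 zf14) (kf xf2 yf47 zf15) (kf xf2 yf47 zf17) (kf xf2 yf47 zf24) (kf xf2 yf47 zf25) (kf xf9 yf2 zf12) (kf xf2 yf13 zf30) (kf xf2 yf47 zf5) (kf xf2 yf47 zf4) (kf xf9 yf2 zf21) (kf xf2 yf13 zf12) (kf xf5 yf46 zf56) (kf xf2 yf46 zf43) (kf xf2 yf46 zf44) (kf xf2 yf46 zf46) (kf xf2 yf46 zf47) (kf xf2 yf46 zf48) (kf xf2 yf15 zf10) (kf xf2 yf46 zf49) (kf xf2 yf46 zf50) (kf xf7 yf14 zf8) (kf xf2 yf46 zf51) (kf xf2 yf46 zf52) (kf xf2 yf46 zf53) (kf xf7 yf14 zf5) (kf xf2 yf46 zf55) (kf xf2 yf46 zf56) (kf xf2 yf46 zf57) (kf xf9 yf2 zf49) (kf xf2 yf53 zf48) (kf xf8 yf12 zf5) (kf xf5 yf49 zf44) (kf xf2 yf13 zf20) (kf xf2 yf47 zf30) (kf xf2 yf47 zf29) (kf xf9 yf2 zf56) (kf xf2 yf13 zf21) (kf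 xf2 yf48 zf31) (kf xf2 yf13 zf32) (kf xf2 yf46 zf59) (kf xf3 yf57 zf28) (kf xf6 yf15 zf52) (kf xf2 yf13 zf25) (kf xf5 yf40 zf19) (kf xf8 yf43 zf40) (kf xf3 yf36 zf48) (kf xf9 yf3 zf7) (kf xf2 yf13 zf26) (kf xf9 yf3 zf13) (kf xf9 yf3 zf15) (kf xf2 yf13 zf27) (kf xf2 yf47 zf18)) (@D3.rec (fun _ => Pt) (kf xf8 yf43 zf41) (kf xf2 yf47 zf22) (kf xf9 yf2 zf13) (kf xf9 yf3 zf23) (kf xf2 yf47 zf27) (kf xf2 yf47 zf28) (kf xf2 yf13 zf34) (kf xf2 yf13 zf33) (kf xf9 yf2 zf58) (kf xf9 yf3 zf37) (kf xf9 yf3 zf28) (kf xf9 yf3 zf29) (kf xf9 yf3 zf47) (kf xf9 yf3 zf26) (kf xf9 yf3 zf52) (kf xf9 yf3 zf32) (kf xf9 yf3 zf31) (kf xf2 yf43 zf11) (kf xf5 yf24 zf19) (kf xf9 yf4 zf9) (kf xf2 yf13 zf35) (kf xf9 yf3 zf36) (kf xf9 yf3 zf35) (kf xf2 yf13 zf36) (kf xf9 yf4 zf19) (kf xf2 yf16 zf16)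 (kf xf2 yf48 zf28) (kf xf2 yf48 zf29) (kf xf9 yf4 zf33) (kf xf2 yf48 zf25) (kf xf2 yf48 zf24) (kf xf2 yf13 zf40) (kf xf2 yf48 zf21) (kf xf2 yf48 zf22) (kf xf6 yf17 zf14) (kf xf2 yf47 zf33) (kf xf2 yf43 zf9) (kf xf2 yf43 zf10) (kf xf2 yf43 zf8) (kf xf9 yf4 zf55) (kf xf2 yf48 zf39) (kf xf2 yf48 zf38) (kf xf5 yf13 zf35) (kf xf2 yf13 zf44) (kf xf2 yf48 zf46) (kf xf2 yf48 zf47) (kf xf2 yf48 zf48) (kf xf9 yf5 zf6) (kf xf2 yf48 zf42) (kf xf2 yf48 zf43) (kf xf2 yf48 zf44) (kf xf6 yf26 zf59) (kf xf2 yf13 zf48) (kf xf2 yf48 zf52) (kf xf2 yf48 zf51) (kf xf3 yf21 zf12) (kf xf2 yf14 zf18) (kf xf9 yf5 zf27) (kf xf2 yf51 zf15) (kf xf2 yf51 zf18) (kf xf6 yf6 zf9) (kf xf2 yf51 zf20)) (@D3.rec (fun _ => Pt) (kf xf9 yf5 zf32) (kf xf9 yf5 zf26) (kf xf9 yf5 zf25) (kf xf9 yf5 zf39) (kf xf2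 yf13 zf55) (kf xf2 yf13 zf61) (kf xf2 yf50 zf33) (kf xf2 yf13 zf57) (kf xf2 yf50 zf49) (kf xf6 yf3 zf22) (kf xf2 yf50 zf46) (kf xf2 yf50 zf53) (kf xf2 yf50 zf52) (kf xf7 yf51 zf57) (kf xf2 yf51 zf1) (kf xf2 yf17 zf48) (kf xf2 yf50 zf59) (kf xf5 yf57 zf4) (kf xf4 yf30 zf38) (kf xf2 yf49 zf49) (kf xf6 yf7 zf26) (kf xf2 yf49 zf55) (kf xf6 yf7 zf27) (kf xf2 yf49 zf57) (kf xf2 yf49 zf58) (kf xf2 yf50 zf5) (kf xf9 yf5 zf52) (kf xf2 yf50 zf9) (kf xf8 yf0 zf51) (kf xf2 yf50 zf11) (kf xf3 yf21 zf48) (kf xf2 yf50 zf14) (kf xf9 yf5 zf59) (kf xf7 yf44 zf57) (kf xf9 yf5 zf51) (kf xf2 yf14 zf15) (kf xf2 yf51 zf23) (kf xf2 yf51 zf22) (kf xf9 yf6 zf9) (kf xf2 yf14 zf16) (kf xf9 yf5 zf23) (kf xf6 yf8 zf23) (kf xf9 yf6 zf11) (kf xf9 yf6 zf12) (kf xf5 yf54 zf34) (kf xf5 yf50 zf38) (kf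 xf2 yf14 zf25) (kf xf5 yf56 zf23) (kf xf9 yf1 zf40) (kf xf2 yf51 zf48) (kf xf9 yf6 zf20) (kf xf2 yf58 zf6) (kf xf2 yf51 zf56) (kf xf9 yf6 zf26) (kf xf9 yf6 zf18) (kf xf9 yf6 zf17) (kf xf9 yf6 zf38) (kf xf2 yf14 zf33) (kf xf2 yf51 zf41) (kf xf2 yf51 zf45) (kf xf5 yf38 zf23) (kf xf5 yf38 zf26)) (@D3.rec (fun _ => Pt) (kf xf9 yf6 zf50) (kf xf2 yf14 zf35) (kf xf2 yf52 zf42) (kf xf2 yf14 zf37) (kf xf2 yf27 zf16) (kf xf2 yf27 zf26) (kf xf2 yf52 zf48) (kf xf2 yf52 zf47) (kf xf2 yf39 zf42) (kf xf2 yf52 zf52) (kf xf9 yf6 zf53) (kf xf2 yf15 zf52) (kf xf2 yf52 zf61) (kf xf2 yf52 zf56) (kf xf2 yf59 zf24) (kf xf2 yf54 zf6) (kf xf2 yf54 zf7) (kf xf3 yf20 zf42) (kf xf2 yf54 zf10) (kf xf2 yf54 zf12) (kf xf2 yf57 zf41) (kf xf2 yf54 zf17) (kf xf9 yf7 zf19) (kf xf2 yf14 zf58) (kf xf9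 yf7 zf23) (kf xf2 yf14 zf54) (kf xf2 yf54 zf39) (kf xf2 yf54 zf41) (kf xf3 yf12 zf3) (kf xf9 yf7 zf17) (kf xf9 yf7 zf16) (kf xf9 yf7 zf36) (kf xf2 yf14 zf56) (kf xf5 yf13 zf41) (kf xf5 yf13 zf48) (kf xf5 yf54 zf20) (kf xf9 yf7 zf20) (kf xf2 yf16 zf56) (kf xf9 yf7 zf21) (kf xf9 yf7 zf50) (kf xf2 yf14 zf59) (kf xf6 yf2 zf41) (kf xf2 yf53 zf56) (kf xf6 yf45 zf29) (kf xf2 yf54 zf0) (kf xf2 yf15 zf1) (kf xf2 yf35 zf6) (kf xf9 yf7 zf55) (kf xf2 yf53 zf5) (kf xf2 yf53 zf7) (kf xf2 yf57 zf30) (kf xf2 yf15 zf34) (kf xf2 yf53 zf12) (kf xf2 yf15 zf21) (kf xf2 yf53 zf13) (kf xf8 yf0 zf11) (kf xf2 yf53 zf14) (kf xf3 yf20 zf53) (kf xf2 yf53 zf9) (kf xf9 yf2 zf30) (kf xf2 yf53 zf17) (kf xf9 yf8 zf13)) (@D3.rec (fun _ => Pt) (kf xf2 yf53 zf19) (kf xf9 yf8 zf15) (kf xf2 yf15 zf20) (kf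 xf9 yf8 zf22) (kf xf2 yf15 zf13) (kf xf2 yf53 zf25) (kf xf2 yf53 zf27) (kf xf2 yf53 zf28) (kf xf2 yf53 zf31) (kf xf9 yf8 zf31) (kf xf5 yf56 zf61) (kf xf3 yf3 zf17) (kf xf9 yf8 zf37) (kf xf2 yf15 zf17) (kf xf2 yf53 zf42) (kf xf2 yf53 zf43) (kf xf2 yf53 zf44) (kf xf2 yf15 zf19) (kf xf9 yf8 zf16) (kf xf5 yf34 zf19) (kf xf9 yf8 zf43) (kf xf9 yf8 zf18) (kf xf9 yf8 zf19) (kf xf7 yf59 zf54) (kf xf5 yf27 zf13) (kf xf6 yf16 zf26) (kf xf9 yf8 zf20) (kf xf9 yf9 zf3) (kf xf2 yf15 zf22) (kf xf2 yf54 zf55) (kf xf6 yf2 zf9) (kf xf2 yf54 zf53) (kf xf6 yf3 zf3) (kf xf2 yf54 zf59) (kf xf2 yf15 zf26) (kf xf2 yf44 zf17) (kf xf9 yf9 zf13) (kf xf2 yf54 zf48) (kf xf2 yf15 zf56) (kf xf2 yf15 zf58) (kf xf9 yf7 zf52) (kf xf3 yf20 zf15) (kf xf5 yf50 zf42) (kf xf3 yf57 zf54) (kf xf3 yf57 zf55)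 (kf xf5 yf7 zf18) (kf xf4 yf42 zf57) (kf xf5 yf8 zf23) (kf xf9 yf9 zf30) (kf xf2 yf15 zf36) (kf xf6 yf16 zf10) (kf xf5 yf51 zf1) (kf xf2 yf54 zf31) (kf xf8 yf46 zf16) (kf xf4 yf0 zf7) (kf xf9 yf9 zf41) (kf xf7 yf19 zf13) (kf xf2 yf15 zf41) (kf xf6 yf15 zf38) (kf xf6 yf24 zf45) (kf xf9 yf9 zf47) (kf xf9 yf9 zf49)) (@D3.rec (fun _ => Pt) (kf xf2 yf15 zf42) (kf xf5 yf7 zf44) (kf xf8 yf12 zf1) (kf xf9 yf9 zf55) (kf xf2 yf15 zf43) (kf xf8 yf46 zf40) (kf xf3 yf2 zf5) (kf xf9 yf9 zf61) (kf xf5 yf51 zf14) (kf xf9 yf9 zf20) (kf xf3 yf7 zf43) (kf xf3 yf7 zf42) (kf xf9 yf10 zf9) (kf xf2 yf15 zf46) (kf xf6 yf50 zf4) (kf xf7 yf30 zf37) (kf xf2 yf15 zf47) (kf xf9 yf9 zf5) (kf xf5 yf13 zf45) (kf xf4 yf41 zf23) (kf xf9 yf10 zf19) (kf xf2 yf15 zf50) (kf xf9 yf7 zf2) (kf xf5 yf45 zf33)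 (kf xf9 yf10 zf26) (kf xf4 yf0 zf6) (kf xf7 yf26 zf44) (kf xf9 yf10 zf32) (kf xf2 yf54 zf25) (kf xf8 yf51 zf52) (kf xf7 yf31 zf20) (kf xf9 yf9 zf21) (kf xf9 yf10 zf43) (kf xf9 yf9 zf6) (kf xf9 yf10 zf49) (kf xf2 yf15 zf59) (kf xf2 yf54 zf14) (kf xf9 yf9 zf14) (kf xf9 yf10 zf55) (kf xf2 yf15 zf61) (kf xf3 yf16 zf15) (kf xf3 yf17 zf48) (kf xf9 yf11 zf0) (kf xf2 yf16 zf13) (kf xf2 yf16 zf12) (kf xf2 yf16 zf2) (kf xf2 yf18 zf60) (kf xf9 yf11 zf13) (kf xf3 yf20 zf18) (kf xf3 yf20 zf19) (kf xf9 yf11 zf20) (kf xf3 yf20 zf27) (kf xf2 yf57 zf6) (kf xf9 yf11 zf27) (kf xf2 yf16 zf5) (kf xf3 yf20 zf24) (kf xf3 yf20 zf25) (kf xf9 yf11 zf33) (kf xf2 yf57 zf23) (kf xf3 yf20 zf22) (kf xf2 yf16 zf7) (kf xf3 yf17 zf41)) (@D3.rec (fun _ => Pt) (kf xf3 yf17 zf42) (kf xf3 yf17 zf43) (kf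 xf9 yf11 zf46) (kf xf3 yf17 zf45) (kf xf2 yf27 zf33) (kf xf3 yf17 zf46) (kf xf9 yf11 zf54) (kf xf3 yf17 zf50) (kf xf3 yf17 zf51) (kf xf3 yf17 zf52) (kf xf9 yf11 zf61) (kf xf9 yf10 zf60) (kf xf9 yf10 zf59) (kf xf9 yf12 zf11) (kf xf2 yf16 zf11) (kf xf9 yf11 zf5) (kf xf9 yf11 zf6) (kf xf9 yf11 zf7) (kf xf9 yf12 zf27) (kf xf9 yf11 zf1) (kf xf9 yf11 zf2) (kf xf9 yf11 zf3) (kf xf9 yf12 zf36) (kf xf2 yf54 zf16) (kf xf2 yf54 zf19) (kf xf9 yf4 zf23) (kf xf6 yf7 zf45) (kf xf9 yf4 zf24) (kf xf2 yf57 zf12) (kf xf9 yf12 zf52) (kf xf2 yf57 zf14) (kf xf2 yf57 zf15) (kf xf2 yf57 zf16) (kf xf9 yf12 zf61) (kf xf9 yf12 zf50) (kf xf9 yf12 zf49) (kf xf9 yf13 zf6) (kf xf2 yf16 zf19) (kf xf2 yf56 zf17) (kf xf2 yf57 zf8) (kf xf2 yf57 zf7) (kf xf2 yf42 zf57) (kf xf2 yf16 zf22) (kf xf2 yf56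 zf59) (kf xf9 yf13 zf19) (kf xf2 yf56 zf61) (kf xf2 yf57 zf0) (kf xf2 yf57 zf1) (kf xf2 yf57 zf33) (kf xf9 yf13 zf18) (kf xf9 yf13 zf17) (kf xf9 yf13 zf33) (kf xf2 yf16 zf26) (kf xf2 yf57 zf24) (kf xf2 yf56 zf26) (kf xf2 yf57 zf21) (kf xf2 yf57 zf39) (kf xf2 yf57 zf27) (kf xf2 yf57 zf26) (kf xf9 yf13 zf43) (kf xf2 yf16 zf29) (kf xf2 yf54 zf8)) (@D3.rec (fun _ => Pt) (kf xf2 yf57 zf42) (kf xf2 yf57 zf43) (kf xf2 yf57 zf44) (kf xf9 yf13 zf57) (kf xf2 yf57 zf36) (kf xf2 yf57 zf35) (kf xf2 yf57 zf25) (kf xf2 yf16 zf33) (kf xf2 yf53 zf15) (kf xf2 yf57 zf31) (kf xf2 yf57 zf32) (kf xf2 yf57 zf37) (kf xf5 yf37 zf16) (kf xf2 yf57 zf52) (kf xf2 yf57 zf56) (kf xf9 yf14 zf9) (kf xf2 yf57 zf50) (kf xf2 yf57 zf51) (kf xf2 yf57 zf54) (kf xf9 yf14 zf18) (kf xf2 yf57 zf61) (kf xf2 yf58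 zf0) (kf xf9 yf14 zf25) (kf xf2 yf57 zf58) (kf xf2 yf57 zf59) (kf xf9 yf14 zf32) (kf xf2 yf58 zf3) (kf xf2 yf58 zf2) (kf xf6 yf4 zf0) (kf xf2 yf52 zf35) (kf xf2 yf52 zf36) (kf xf9 yf14 zf41) (kf xf2 yf58 zf7) (kf xf9 yf14 zf46) (kf xf5 yf46 zf22) (kf xf5 yf49 zf38) (kf xf5 yf46 zf26) (kf xf9 yf14 zf51) (kf xf6 yf24 zf22) (kf xf6 yf24 zf21) (kf xf2 yf16 zf51) (kf xf2 yf16 zf55) (kf xf5 yf12 zf26) (kf xf9 yf14 zf61) (kf xf9 yf15 zf2) (kf xf2 yf16 zf53) (kf xf5 yf12 zf27) (kf xf5 yf6 zf51) (kf xf5 yf0 zf34) (kf xf9 yf7 zf42) (kf xf9 yf15 zf13) (kf xf2 yf59 zf30) (kf xf5 yf50 zf46) (kf xf3 yf0 zf26) (kf xf2 yf16 zf59) (kf xf9 yf15 zf19) (kf xf5 yf46 zf47) (kf xf4 yf41 zf24) (kf xf3 yf2 zf3) (kf xf3 yf2 zf4) (kf xf3 yf2 zf6) (kf xf9 yf15 zf30)) (@D3.rec (fun _ => Pt) (kf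 xf9 yf9 zf60) (kf xf9 yf9 zf59) (kf xf2 yf17 zf3) (kf xf3 yf0 zf49) (kf xf3 yf0 zf50) (kf xf3 yf21 zf2) (kf xf3 yf0 zf46) (kf xf3 yf0 zf47) (kf xf9 yf9 zf9) (kf xf2 yf20 zf24) (kf xf8 yf35 zf41) (kf xf3 yf8 zf4) (kf xf6 yf23 zf52) (kf xf6 yf17 zf40) (kf xf9 yf15 zf53) (kf xf4 yf47 zf33) (kf xf4 yf47 zf34) (kf xf6 yf17 zf20) (kf xf4 yf40 zf39) (kf xf9 yf16 zf6) (kf xf2 yf17 zf26) (kf xf2 yf17 zf25) (kf xf2 yf17 zf16) (kf xf2 yf20 zf31) (kf xf2 yf20 zf32) (kf xf2 yf20 zf33) (kf xf2 yf20 zf37) (kf xf2 yf20 zf38) (kf xf2 yf20 zf8) (kf xf2 yf20 zf10) (kf xf4 yf44 zf38) (kf xf2 yf21 zf19) (kf xf4 yf44 zf55) (kf xf2 yf21 zf20) (kf xf3 yf45 zf15) (kf xf3 yf0 zf37) (kf xf2 yf55 zf26) (kf xf3 yf0 zf38) (kf xf9 yf16 zf39) (kf xf4 yf40 zf18) (kf xf9 yf16 zf45) (kf xf9 yf16 zf4)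 (kf xf9 yf16 zf3) (kf xf9 yf16 zf55) (kf xf2 yf17 zf24) (kf xf5 yf58 zf32) (kf xf9 yf16 zf9) (kf xf3 yf2 zf57) (kf xf9 yf17 zf1) (kf xf9 yf16 zf7) (kf xf9 yf17 zf7) (kf xf9 yf17 zf5) (kf xf9 yf17 zf4) (kf xf9 yf17 zf17) (kf xf2 yf17 zf29) (kf xf3 yf2 zf36) (kf xf3 yf2 zf37) (kf xf3 yf2 zf34) (kf xf3 yf2 zf35) (kf xf6 yf25 zf44) (kf xf3 yf2 zf40) (kf xf3 yf21 zf10)) (@D3.rec (fun _ => Pt) (kf xf2 yf17 zf32) (kf xf2 yf20 zf2) (kf xf3 yf2 zf58) (kf xf6 yf17 zf35) (kf xf3 yf2 zf60) (kf xf3 yf2 zf61) (kf xf6 yf30 zf24) (kf xf3 yf3 zf1) (kf xf3 yf3 zf10) (kf xf2 yf20 zf13) (kf xf2 yf17 zf37) (kf xf3 yf2 zf45) (kf xf7 yf27 zf34) (kf xf3 yf2 zf48) (kf xf3 yf2 zf49) (kf xf6 yf30 zf36) (kf xf3 yf19 zf26) (kf xf2 yf17 zf41) (kf xf3 yf10 zf10) (kf xf3 yf10 zf11) (kf xf3 yf10 zf12)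 (kf xf3 yf10 zf15) (kf xf5 yf5 zf13) (kf xf4 yf37 zf19) (kf xf4 yf39 zf57) (kf xf6 yf14 zf46) (kf xf5 yf43 zf0) (kf xf9 yf0 zf28) (kf xf3 yf5 zf27) (kf xf9 yf3 zf24) (kf xf9 yf17 zf58) (kf xf2 yf17 zf49) (kf xf3 yf5 zf29) (kf xf9 yf17 zf61) (kf xf8 yf0 zf59) (kf xf9 yf18 zf2) (kf xf2 yf19 zf2) (kf xf2 yf17 zf53) (kf xf9 yf13 zf13) (kf xf8 yf51 zf55) (kf xf2 yf57 zf45) (kf xf2 yf57 zf49) (kf xf2 yf18 zf14) (kf xf6 yf26 zf12) (kf xf3 yf10 zf42) (kf xf3 yf10 zf43) (kf xf3 yf10 zf45) (kf xf3 yf10 zf46) (kf xf3 yf7 zf18) (kf xf5 yf6 zf60) (kf xf3 yf8 zf41) (kf xf3 yf8 zf44) (kf xf3 yf8 zf47) (kf xf3 yf11 zf31) (kf xf6 yf12 zf60) (kf xf3 yf11 zf2) (kf xf3 yf9 zf2) (kf xf2 yf18 zf33) (kf xf6 yf28 zf10) (kf xf9 yf18 zf8) (kf xf6 yf48 zf48) (kf xf2 yf18 zf18)) (@D3.rec (fun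 _ => Pt) (kf xf3 yf8 zf39) (kf xf3 yf8 zf40) (kf xf3 yf8 zf33) (kf xf3 yf8 zf32) (kf xf3 yf8 zf45) (kf xf3 yf6 zf21) (kf xf3 yf8 zf25) (kf xf3 yf8 zf26) (kf xf3 yf8 zf27) (kf xf3 yf8 zf34) (kf xf3 yf8 zf51) (kf xf3 yf8 zf54) (kf xf3 yf8 zf53) (kf xf9 yf18 zf49) (kf xf9 yf18 zf51) (kf xf2 yf18 zf26) (kf xf3 yf9 zf9) (kf xf3 yf8 zf59) (kf xf3 yf8 zf61) (kf xf6 yf59 zf9) (kf xf3 yf9 zf1) (kf xf9 yf18 zf22) (kf xf3 yf9 zf12) (kf xf3 yf9 zf11) (kf xf6 yf23 zf29) (kf xf6 yf23 zf34) (kf xf6 yf48 zf47) (kf xf3 yf9 zf33) (kf xf3 yf9 zf34) (kf xf6 yf9 zf38) (kf xf3 yf9 zf36) (kf xf9 yf19 zf22) (kf xf3 yf9 zf47) (kf xf3 yf9 zf46) (kf xf2 yf18 zf41) (kf xf6 yf7 zf34) (kf xf3 yf4 zf12) (kf xf3 yf4 zf14) (kf xf9 yf19 zf31) (kf xf4 yf26 zf32) (kf xf4 yf26 zf31) (kf xf9 yf19 zf40)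 (kf xf2 yf18 zf48) (kf xf8 yf2 zf8) (kf xf5 yf49 zf41) (kf xf2 yf18 zf49) (kf xf3 yf4 zf54) (kf xf3 yf4 zf55) (kf xf3 yf4 zf57) (kf xf6 yf7 zf30) (kf xf6 yf7 zf31) (kf xf3 yf5 zf2) (kf xf3 yf5 zf5) (kf xf9 yf19 zf49) (kf xf3 yf4 zf61) (kf xf5 yf41 zf49) (kf xf2 yf18 zf57) (kf xf4 yf36 zf46) (kf xf4 yf56 zf40) (kf xf5 yf26 zf58) (kf xf6 yf31 zf9) (kf xf9 yf13 zf44)) (@D3.rec (fun _ => Pt) (kf xf3 yf8 zf9) (kf xf4 yf43 zf21) (kf xf3 yf7 zf17) (kf xf6 yf51 zf21) (kf xf2 yf19 zf15) (kf xf6 yf47 zf0) (kf xf6 yf40 zf60) (kf xf6 yf43 zf31) (kf xf3 yf7 zf34) (kf xf6 yf37 zf31) (kf xf3 yf7 zf39) (kf xf3 yf7 zf40) (kf xf6 yf51 zf20) (kf xf9 yf19 zf55) (kf xf9 yf20 zf1) (kf xf3 yf7 zf41) (kf xf9 yf20 zf6) (kf xf2 yf19 zf19) (kf xf3 yf7 zf27) (kf xf3 yf7 zf29) (kf xf3 yf7 zf30)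 (kf xf4 yf43 zf1) (kf xf3 yf8 zf0) (kf xf3 yf8 zf8) (kf xf3 yf8 zf5) (kf xf3 yf6 zf17) (kf xf3 yf11 zf18) (kf xf3 yf11 zf13) (kf xf3 yf11 zf12) (kf xf3 yf11 zf23) (kf xf3 yf11 zf8) (kf xf3 yf11 zf9) (kf xf3 yf11 zf14) (kf xf3 yf11 zf29) (kf xf3 yf11 zf25) (kf xf3 yf11 zf33) (kf xf3 yf11 zf32) (kf xf4 yf19 zf37) (kf xf9 yf20 zf31) (kf xf2 yf19 zf34) (kf xf8 yf24 zf36) (kf xf8 yf24 zf37) (kf xf8 yf24 zf5) (kf xf3 yf17 zf5) (kf xf3 yf10 zf59) (kf xf2 yf54 zf2) (kf xf2 yf54 zf4) (kf xf3 yf13 zf10) (kf xf6 yf27 zf5) (kf xf2 yf51 zf27) (kf xf3 yf12 zf56) (kf xf9 yf20 zf43) (kf xf3 yf12 zf43) (kf xf2 yf19 zf45) (kf xf3 yf12 zf24) (kf xf9 yf20 zf46) (kf xf9 yf20 zf47) (kf xf2 yf35 zf8) (kf xf9 yf15 zf51) (kf xf6 yf9 zf35) (kf xf3 yf20 zf2) (kf xf2 yf20 zf43)) (@D3.rec (fun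 _ => Pt) (kf xf3 yf20 zf3) (kf xf6 yf9 zf36) (kf xf3 yf14 zf39) (kf xf3 yf14 zf42) (kf xf3 yf21 zf39) (kf xf3 yf14 zf49) (kf xf2 yf20 zf34) (kf xf9 yf17 zf31) (kf xf3 yf14 zf57) (kf xf6 yf37 zf16) (kf xf3 yf14 zf59) (kf xf9 yf21 zf15) (kf xf3 yf14 zf54) (kf xf4 yf45 zf56) (kf xf2 yf20 zf5) (kf xf9 yf17 zf32) (kf xf9 yf21 zf22) (kf xf7 yf31 zf17) (kf xf6 yf29 zf7) (kf xf9 yf16 zf19) (kf xf3 yf14 zf24) (kf xf6 yf43 zf42) (kf xf9 yf16 zf20) (kf xf9 yf17 zf36) (kf xf3 yf14 zf30) (kf xf6 yf38 zf6) (kf xf3 yf15 zf5) (kf xf6 yf40 zf55) (kf xf2 yf20 zf46) (kf xf3 yf19 zf55) (kf xf3 yf19 zf56) (kf xf6 yf17 zf24) (kf xf3 yf26 zf0) (kf xf3 yf13 zf49) (kf xf2 yf20 zf54) (kf xf9 yf21 zf57) (kf xf8 yf35 zf48) (kf xf9 yf21 zf59) (kf xf4 yf40 zf30) (kf xf6 yf32 zf29) (kf xf6 yf28 zf32)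 (kf xf4 yf45 zf43) (kf xf9 yf16 zf57) (kf xf7 yf39 zf29) (kf xf4 yf45 zf44) (kf xf9 yf22 zf10) (kf xf5 yf54 zf14) (kf xf5 yf54 zf48) (kf xf9 yf16 zf11) (kf xf5 yf53 zf44) (kf xf9 yf21 zf3) (kf xf6 yf19 zf58) (kf xf9 yf16 zf12) (kf xf9 yf22 zf26) (kf xf9 yf21 zf4) (kf xf4 yf40 zf32) (kf xf9 yf16 zf14) (kf xf9 yf16 zf15) (kf xf9 yf16 zf16) (kf xf9 yf16 zf17) (kf xf9 yf22 zf42) (kf xf2 yf22 zf51)) (@D3.rec (fun _ => Pt) (kf xf2 yf21 zf2) (kf xf2 yf21 zf3) (kf xf9 yf22 zf50) (kf xf2 yf20 zf58) (kf xf6 yf12 zf56) (kf xf2 yf20 zf41) (kf xf2 yf20 zf55) (kf xf2 yf20 zf56) (kf xf9 yf20 zf51) (kf xf9 yf20 zf52) (kf xf2 yf21 zf11) (kf xf2 yf21 zf12) (kf xf9 yf23 zf4) (kf xf2 yf21 zf8) (kf xf2 yf21 zf9) (kf xf9 yf20 zf49) (kf xf9 yf21 zf42) (kf xf9 yf21 zf43) (kf xf2 yf56 zf2)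 (kf xf4 yf46 zf54) (kf xf9 yf23 zf27) (kf xf9 yf23 zf30) (kf xf2 yf21 zf25) (kf xf2 yf21 zf24) (kf xf9 yf23 zf38) (kf xf2 yf20 zf48) (kf xf2 yf21 zf30) (kf xf3 yf21 zf41) (kf xf3 yf23 zf31) (kf xf6 yf21 zf54) (kf xf3 yf19 zf16) (kf xf6 yf32 zf21) (kf xf4 yf53 zf40) (kf xf2 yf20 zf52) (kf xf6 yf19 zf57) (kf xf3 yf19 zf52) (kf xf9 yf21 zf55) (kf xf6 yf47 zf13) (kf xf6 yf14 zf40) (kf xf6 yf1 zf50) (kf xf9 yf22 zf54) (kf xf6 yf15 zf59) (kf xf9 yf24 zf3) (kf xf4 yf44 zf41) (kf xf4 yf44 zf44) (kf xf9 yf24 zf7) (kf xf6 yf20 zf46) (kf xf9 yf22 zf49) (kf xf8 yf56 zf39) (kf xf2 yf20 zf57) (kf xf9 yf22 zf51) (kf xf9 yf22 zf52) (kf xf3 yf21 zf47) (kf xf3 yf19 zf23) (kf xf3 yf19 zf24) (kf xf2 yf21 zf50) (kf xf4 yf44 zf13) (kf xf9 yf24 zf27) (kf xf2 yf20 zf60) (kf xf6 yf25 zf48)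 (kf xf5 yf51 zf54) (kf xf9 yf22 zf43)) (@D3.rec (fun _ => Pt) (kf xf9 yf22 zf44) (kf xf9 yf22 zf45) (kf xf9 yf22 zf46) (kf xf8 yf0 zf53) (kf xf9 yf24 zf44) (kf xf9 yf22 zf57) (kf xf3 yf19 zf48) (kf xf9 yf24 zf50) (kf xf2 yf21 zf4) (kf xf3 yf14 zf44) (kf xf3 yf14 zf45) (kf xf3 yf20 zf7) (kf xf9 yf22 zf59) (kf xf9 yf25 zf0) (kf xf2 yf21 zf6) (kf xf9 yf23 zf5) (kf xf9 yf23 zf6) (kf xf9 yf23 zf7) (kf xf7 yf20 zf0) (kf xf9 yf23 zf8) (kf xf9 yf25 zf22) (kf xf9 yf25 zf23) (kf xf9 yf25 zf24) (kf xf2 yf21 zf10) (kf xf9 yf22 zf61) (kf xf9 yf23 zf0) (kf xf9 yf23 zf1) (kf xf6 yf48 zf61) (kf xf8 yf46 zf4) (kf xf7 yf43 zf59) (kf xf9 yf25 zf40) (kf xf9 yf25 zf44) (kf xf2 yf21 zf13) (kf xf2 yf56 zf30) (kf xf2 yf56 zf31) (kf xf2 yf56 zf32) (kf xf9 yf25 zf53) (kf xf2 yf56 zf34) (kf xf2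 yf56 zf36) (kf xf7 yf43 zf5) (kf xf2 yf56 zf3) (kf xf9 yf26 zf2) (kf xf2 yf56 zf38) (kf xf2 yf56 zf39) (kf xf2 yf56 zf40) (kf xf9 yf26 zf12) (kf xf9 yf26 zf0) (kf xf9 yf25 zf61) (kf xf9 yf26 zf22) (kf xf2 yf21 zf18) (kf xf9 yf16 zf24) (kf xf9 yf26 zf29) (kf xf8 yf46 zf14) (kf xf9 yf26 zf33) (kf xf4 yf45 zf19) (kf xf9 yf26 zf40) (kf xf8 yf29 zf32) (kf xf9 yf23 zf28) (kf xf9 yf26 zf51) (kf xf2 yf21 zf22) (kf xf9 yf26 zf52) (kf xf9 yf10 zf13)) (@D3.rec (fun _ => Pt) (kf xf7 yf21 zf5) (kf xf9 yf23 zf33) (kf xf6 yf50 zf48) (kf xf9 yf23 zf31) (kf xf6 yf49 zf6) (kf xf9 yf23 zf32) (kf xf9 yf27 zf11) (kf xf9 yf23 zf36) (kf xf9 yf23 zf35) (kf xf9 yf27 zf22) (kf xf2 yf21 zf26) (kf xf2 yf21 zf28) (kf xf6 yf49 zf61) (kf xf9 yf21 zf45) (kf xf9 yf27 zf24) (kf xf3 yf23 zf43) (kf xf6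 yf19 zf59) (kf xf9 yf23 zf39) (kf xf9 yf23 zf40) (kf xf3 yf21 zf40) (kf xf6 yf47 zf14) (kf xf6 yf47 zf15) (kf xf3 yf21 zf45) (kf xf2 yf21 zf36) (kf xf2 yf22 zf1) (kf xf3 yf19 zf44) (kf xf3 yf19 zf45) (kf xf2 yf21 zf45) (kf xf9 yf17 zf0) (kf xf9 yf21 zf47) (kf xf9 yf27 zf49) (kf xf6 yf17 zf37) (kf xf6 yf17 zf38) (kf xf4 yf40 zf15) (kf xf4 yf40 zf16) (kf xf9 yf25 zf1) (kf xf6 yf17 zf16) (kf xf6 yf17 zf19) (kf xf8 yf32 zf12) (kf xf6 yf17 zf42) (kf xf6 yf17 zf43) (kf xf6 yf17 zf44) (kf xf6 yf17 zf45) (kf xf3 yf19 zf42) (kf xf9 yf27 zf54) (kf xf2 yf21 zf51) (kf xf9 yf27 zf57) (kf xf3 yf19 zf46) (kf xf3 yf21 zf42) (kf xf3 yf52 zf47) (kf xf9 yf24 zf13) (kf xf6 yf20 zf38) (kf xf9 yf28 zf43) (kf xf2 yf21 zf49) (kf xf7 yf43 zf21) (kf xf9 yf24 zf21) (kf xf3 yf16 zf34) (kf xf9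 yf28 zf32) (kf xf9 yf24 zf57) (kf xf3 yf5 zf60) (kf xf6 yf43 zf40) (kf xf8 yf19 zf44)) (@D3.rec (fun _ => Pt) (kf xf2 yf21 zf52) (kf xf3 yf16 zf56) (kf xf3 yf16 zf57) (kf xf3 yf3 zf3) (kf xf3 yf19 zf29) (kf xf3 yf19 zf27) (kf xf3 yf22 zf22) (kf xf3 yf20 zf8) (kf xf3 yf16 zf59) (kf xf9 yf29 zf7) (kf xf9 yf29 zf9) (kf xf2 yf21 zf60) (kf xf3 yf18 zf57) (kf xf9 yf27 zf50) (kf xf2 yf22 zf4) (kf xf9 yf27 zf51) (kf xf9 yf1 zf35) (kf xf9 yf29 zf11) (kf xf3 yf23 zf46) (kf xf9 yf29 zf25) (kf xf2 yf22 zf3) (kf xf9 yf29 zf13) (kf xf6 yf42 zf41) (kf xf6 yf49 zf47) (kf xf7 yf26 zf46) (kf xf6 yf32 zf22) (kf xf9 yf29 zf14) (kf xf9 yf29 zf38) (kf xf2 yf22 zf6) (kf xf3 yf20 zf0) (kf xf3 yf19 zf61) (kf xf3 yf20 zf4) (kf xf3 yf17 zf18) (kf xf3 yf17 zf19) (kf xf3 yf20 zf1) (kf xf9 yf29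 zf0) (kf xf3 yf17 zf23) (kf xf3 yf19 zf32) (kf xf9 yf29 zf51) (kf xf9 yf29 zf52) (kf xf2 yf22 zf13) (kf xf2 yf22 zf58) (kf xf9 yf29 zf55) (kf xf2 yf56 zf11) (kf xf2 yf56 zf12) (kf xf2 yf56 zf13) (kf xf2 yf56 zf14) (kf xf9 yf30 zf6) (kf xf2 yf56 zf27) (kf xf2 yf22 zf17) (kf xf2 yf56 zf20) (kf xf2 yf56 zf21) (kf xf9 yf30 zf15) (kf xf2 yf56 zf23) (kf xf2 yf56 zf24) (kf xf6 yf54 zf4) (kf xf2 yf56 zf16) (kf xf9 yf30 zf24) (kf xf2 yf22 zf20) (kf xf2 yf22 zf23) (kf xf2 yf22 zf22) (kf xf9 yf30 zf36)) (@D3.rec (fun _ => Pt) (kf xf2 yf22 zf21) (kf xf9 yf30 zf29) (kf xf9 yf30 zf30) (kf xf9 yf30 zf31) (kf xf9 yf30 zf49) (kf xf9 yf30 zf25) (kf xf9 yf30 zf26) (kf xf9 yf30 zf27) (kf xf9 yf30 zf61) (kf xf9 yf30 zf34) (kf xf9 yf30 zf33) (kf xf9 yf31 zf9) (kf xf2 yf22 zf24) (kf xf2 yf53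 zf8) (kf xf3 yf20 zf54) (kf xf3 yf20 zf55) (kf xf3 yf20 zf56) (kf xf3 yf20 zf48) (kf xf3 yf20 zf47) (kf xf3 yf20 zf58) (kf xf9 yf31 zf28) (kf xf2 yf54 zf13) (kf xf3 yf20 zf43) (kf xf3 yf20 zf44) (kf xf3 yf20 zf45) (kf xf9 yf31 zf38) (kf xf3 yf20 zf49) (kf xf9 yf1 zf10) (kf xf2 yf22 zf31) (kf xf3 yf21 zf4) (kf xf3 yf21 zf5) (kf xf3 yf0 zf48) (kf xf9 yf31 zf46) (kf xf3 yf21 zf0) (kf xf3 yf21 zf1) (kf xf9 yf31 zf52) (kf xf3 yf21 zf8) (kf xf3 yf21 zf7) (kf xf9 yf31 zf58) (kf xf3 yf2 zf41) (kf xf2 yf22 zf34) (kf xf2 yf48 zf53) (kf xf3 yf14 zf38) (kf xf3 yf19 zf47) (kf xf3 yf21 zf43) (kf xf3 yf21 zf44) (kf xf2 yf27 zf47) (kf xf2 yf27 zf55) (kf xf2 yf50 zf10) (kf xf3 yf21 zf49) (kf xf3 yf21 zf50) (kf xf3 yf21 zf28) (kf xf3 yf21 zf27) (kf xf3 yf21 zf52) (kf xf9 yf32 zf25) (kf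 xf3 yf21 zf56) (kf xf3 yf21 zf57) (kf xf3 yf13 zf47) (kf xf3 yf21 zf14) (kf xf6 yf32 zf19) (kf xf6 yf46 zf23) (kf xf3 yf21 zf25)) (@D3.rec (fun _ => Pt) (kf xf6 yf46 zf54) (kf xf3 yf21 zf29) (kf xf5 yf30 zf40) (kf xf2 yf22 zf56) (kf xf3 yf19 zf28) (kf xf3 yf22 zf3) (kf xf7 yf11 zf45) (kf xf3 yf21 zf59) (kf xf3 yf21 zf60) (kf xf3 yf22 zf1) (kf xf3 yf22 zf7) (kf xf3 yf22 zf8) (kf xf9 yf19 zf23) (kf xf3 yf22 zf4) (kf xf3 yf22 zf5) (kf xf3 yf22 zf10) (kf xf3 yf22 zf9) (kf xf9 yf32 zf36) (kf xf9 yf4 zf59) (kf xf3 yf22 zf16) (kf xf9 yf29 zf53) (kf xf3 yf19 zf30) (kf xf3 yf1 zf10) (kf xf3 yf1 zf11) (kf xf6 yf43 zf9) (kf xf3 yf22 zf28) (kf xf3 yf22 zf27) (kf xf6 yf17 zf61) (kf xf6 yf18 zf0) (kf xf6 yf18 zf1) (kf xf5 yf29 zf30) (kf xf5 yf17 zf17) (kf xf4 yf51 zf23) (kf xf4 yf6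 zf17) (kf xf5 yf17 zf23) (kf xf4 yf6 zf32) (kf xf5 yf21 zf46) (kf xf2 yf23 zf4) (kf xf4 yf14 zf19) (kf xf8 yf9 zf43) (kf xf9 yf33 zf27) (kf xf4 yf3 zf11) (kf xf4 yf3 zf8) (kf xf9 yf33 zf38) (kf xf9 yf33 zf42) (kf xf2 yf23 zf9) (kf xf2 yf45 zf22) (kf xf2 yf23 zf30) (kf xf5 yf37 zf2) (kf xf2 yf23 zf34) (kf xf8 yf36 zf38) (kf xf2 yf23 zf25) (kf xf8 yf37 zf37) (kf xf2 yf23 zf40) (kf xf2 yf23 zf41) (kf xf8 yf10 zf13) (kf xf2 yf23 zf38) (kf xf9 yf33 zf59) (kf xf9 yf34 zf2) (kf xf4 yf52 zf0) (kf xf2 yf23 zf18) (kf xf4 yf0 zf21)) (@D3.rec (fun _ => Pt) (kf xf4 yf9 zf5) (kf xf8 yf26 zf42) (kf xf9 yf34 zf9) (kf xf2 yf23 zf21) (kf xf4 yf8 zf28) (kf xf4 yf21 zf18) (kf xf9 yf34 zf14) (kf xf2 yf23 zf23) (kf xf8 yf17 zf1) (kf xf9 yf34 zf20) (kf xf8 yf32 zf57) (kf xf9 yf33 zf44) (kf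 xf9 yf33 zf48) (kf xf9 yf33 zf49) (kf xf9 yf34 zf37) (kf xf8 yf36 zf39) (kf xf9 yf34 zf41) (kf xf2 yf23 zf26) (kf xf2 yf28 zf29) (kf xf3 yf58 zf14) (kf xf5 yf29 zf35) (kf xf8 yf33 zf41) (kf xf9 yf34 zf50) (kf xf4 yf50 zf32) (kf xf4 yf8 zf29) (kf xf9 yf34 zf54) (kf xf9 yf33 zf45) (kf xf9 yf33 zf46) (kf xf9 yf35 zf2) (kf xf8 yf37 zf38) (kf xf2 yf23 zf35) (kf xf9 yf35 zf5) (kf xf3 yf56 zf54) (kf xf8 yf32 zf4) (kf xf9 yf33 zf56) (kf xf9 yf35 zf19) (kf xf9 yf33 zf55) (kf xf4 yf53 zf25) (kf xf2 yf23 zf39) (kf xf8 yf31 zf57) (kf xf5 yf21 zf11) (kf xf9 yf35 zf31) (kf xf9 yf33 zf52) (kf xf9 yf33 zf53) (kf xf9 yf35 zf41) (kf xf4 yf53 zf36) (kf xf9 yf33 zf58) (kf xf9 yf35 zf45) (kf xf2 yf23 zf42) (kf xf8 yf40 zf20) (kf xf8 yf40 zf21) (kf xf9 yf35 zf54) (kf xf8 yf18 zf32) (kf xf8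 yf18 zf33) (kf xf9 yf36 zf0) (kf xf9 yf36 zf5) (kf xf8 yf35 zf34) (kf xf9 yf36 zf1) (kf xf9 yf36 zf13) (kf xf2 yf23 zf45) (kf xf8 yf40 zf15) (kf xf8 yf17 zf3)) (@D3.rec (fun _ => Pt) (kf xf4 yf50 zf59) (kf xf9 yf36 zf23) (kf xf2 yf23 zf46) (kf xf4 yf53 zf16) (kf xf4 yf53 zf17) (kf xf4 yf53 zf18) (kf xf4 yf53 zf29) (kf xf9 yf36 zf38) (kf xf4 yf21 zf3) (kf xf4 yf53 zf31) (kf xf4 yf53 zf32) (kf xf3 yf8 zf55) (kf xf9 yf36 zf37) (kf xf9 yf36 zf36) (kf xf2 yf23 zf51) (kf xf4 yf52 zf56) (kf xf4 yf53 zf27) (kf xf4 yf53 zf26) (kf xf4 yf53 zf35) (kf xf4 yf21 zf13) (kf xf9 yf36 zf60) (kf xf4 yf21 zf2) (kf xf4 yf53 zf20) (kf xf9 yf18 zf9) (kf xf9 yf36 zf49) (kf xf9 yf36 zf59) (kf xf2 yf23 zf57) (kf xf4 yf53 zf28) (kf xf4 yf53 zf0) (kf xf2 yf24 zf1) (kf xf2 yf24 zf0) (kf xf6 yf33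 zf2) (kf xf9 yf37 zf17) (kf xf7 yf26 zf14) (kf xf3 yf18 zf61) (kf xf2 yf23 zf61) (kf xf9 yf37 zf11) (kf xf2 yf24 zf40) (kf xf2 yf24 zf38) (kf xf2 yf24 zf39) (kf xf2 yf24 zf23) (kf xf4 yf52 zf42) (kf xf4 yf52 zf41) (kf xf4 yf53 zf44) (kf xf4 yf53 zf45) (kf xf8 yf11 zf57) (kf xf4 yf3 zf46) (kf xf9 yf37 zf37) (kf xf4 yf3 zf31) (kf xf4 yf3 zf30) (kf xf2 yf24 zf8) (kf xf4 yf8 zf54) (kf xf4 yf3 zf37) (kf xf3 yf57 zf51) (kf xf9 yf37 zf45) (kf xf8 yf1 zf29) (kf xf4 yf52 zf15) (kf xf4 yf31 zf28) (kf xf2 yf24 zf18) (kf xf8 yf1 zf27) (kf xf6 yf4 zf16) (kf xf9 yf37 zf57)) (@D3.rec (fun _ => Pt) (kf xf4 yf52 zf28) (kf xf8 yf1 zf32) (kf xf2 yf24 zf20) (kf xf4 yf21 zf56) (kf xf4 yf21 zf57) (kf xf9 yf38 zf7) (kf xf4 yf21 zf47) (kf xf4 yf21 zf48) (kf xf9 yf38 zf15) (kf xf9 yf37 zf24)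 (kf xf8 yf23 zf13) (kf xf9 yf37 zf21) (kf xf8 yf1 zf59) (kf xf4 yf21 zf42) (kf xf4 yf21 zf33) (kf xf9 yf38 zf32) (kf xf4 yf52 zf3) (kf xf4 yf52 zf4) (kf xf4 yf52 zf5) (kf xf9 yf38 zf44) (kf xf4 yf52 zf22) (kf xf9 yf38 zf48) (kf xf9 yf38 zf43) (kf xf9 yf38 zf42) (kf xf2 yf24 zf29) (kf xf4 yf51 zf37) (kf xf4 yf52 zf17) (kf xf4 yf52 zf16) (kf xf4 yf52 zf27) (kf xf4 yf52 zf6) (kf xf6 yf21 zf3) (kf xf4 yf52 zf9) (kf xf4 yf52 zf10) (kf xf6 yf21 zf1) (kf xf6 yf21 zf2) (kf xf4 yf52 zf18) (kf xf4 yf51 zf45) (kf xf6 yf17 zf41) (kf xf9 yf37 zf23) (kf xf6 yf57 zf58) (kf xf4 yf45 zf32) (kf xf6 yf17 zf56) (kf xf8 yf42 zf2) (kf xf6 yf47 zf42) (kf xf4 yf52 zf43) (kf xf4 yf52 zf44) (kf xf8 yf14 zf26) (kf xf2 yf36 zf57) (kf xf4 yf53 zf54) (kf xf4 yf53 zf55) (kf xf4 yf53 zf52) (kf xf4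 yf7 zf9) (kf xf4 yf53 zf50) (kf xf4 yf7 zf11) (kf xf4 yf53 zf48) (kf xf4 yf53 zf49) (kf xf2 yf28 zf21) (kf xf4 yf5 zf9) (kf xf2 yf28 zf31) (kf xf8 yf15 zf5) (kf xf5 yf18 zf30) (kf xf2 yf24 zf53)) (@D3.rec (fun _ => Pt) (kf xf4 yf54 zf15) (kf xf5 yf23 zf39) (kf xf4 yf54 zf17) (kf xf5 yf18 zf20) (kf xf2 yf24 zf56) (kf xf4 yf54 zf20) (kf xf9 yf39 zf38) (kf xf4 yf54 zf22) (kf xf9 yf39 zf44) (kf xf4 yf54 zf25) (kf xf4 yf54 zf24) (kf xf9 yf39 zf55) (kf xf9 yf39 zf60) (kf xf2 yf24 zf60) (kf xf5 yf9 zf28) (kf xf4 yf54 zf0) (kf xf5 yf22 zf42) (kf xf4 yf54 zf2) (kf xf5 yf16 zf26) (kf xf2 yf25 zf1) (kf xf4 yf54 zf5) (kf xf9 yf40 zf11) (kf xf4 yf54 zf7) (kf xf9 yf40 zf17) (kf xf4 yf54 zf10) (kf xf4 yf54 zf9) (kf xf9 yf40 zf28) (kf xf9 yf40 zf33) (kf xf2 yf25 zf6) (kf xf5 yf2 zf47)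 (kf xf2 yf25 zf30) (kf xf9 yf0 zf3) (kf xf2 yf25 zf21) (kf xf9 yf1 zf13) (kf xf2 yf25 zf36) (kf xf9 yf40 zf46) (kf xf2 yf25 zf33) (kf xf9 yf40 zf50) (kf xf2 yf25 zf38) (kf xf9 yf40 zf58) (kf xf2 yf39 zf12) (kf xf2 yf25 zf13) (kf xf8 yf10 zf61) (kf xf8 yf17 zf9) (kf xf8 yf17 zf57) (kf xf9 yf41 zf5) (kf xf4 yf12 zf32) (kf xf2 yf25 zf16) (kf xf4 yf13 zf24) (kf xf5 yf22 zf58) (kf xf8 yf18 zf5) (kf xf9 yf41 zf12) (kf xf4 yf20 zf19) (kf xf2 yf25 zf19) (kf xf5 yf22 zf18) (kf xf9 yf41 zf18) (kf xf5 yf22 zf34) (kf xf5 yf22 zf32) (kf xf9 yf40 zf39) (kf xf9 yf40 zf40) (kf xf9 yf41 zf35) (kf xf9 yf0 zf4)) (@D3.rec (fun _ => Pt) (kf xf9 yf41 zf39) (kf xf2 yf25 zf22) (kf xf4 yf6 zf33) (kf xf4 yf13 zf58) (kf xf8 yf18 zf52) (kf xf4 yf13 zf60) (kf xf4 yf13 zf61) (kf xf9 yf41 zf48) (kf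 xf4 yf13 zf38) (kf xf7 yf57 zf49) (kf xf9 yf41 zf52) (kf xf9 yf40 zf36) (kf xf9 yf40 zf37) (kf xf9 yf42 zf0) (kf xf9 yf1 zf14) (kf xf2 yf25 zf31) (kf xf9 yf42 zf5) (kf xf5 yf16 zf55) (kf xf8 yf54 zf60) (kf xf9 yf40 zf47) (kf xf9 yf42 zf17) (kf xf9 yf40 zf45) (kf xf7 yf58 zf49) (kf xf5 yf2 zf60) (kf xf2 yf25 zf34) (kf xf4 yf14 zf9) (kf xf9 yf42 zf29) (kf xf9 yf40 zf42) (kf xf9 yf40 zf43) (kf xf9 yf42 zf39) (kf xf7 yf58 zf53) (kf xf9 yf40 zf49) (kf xf9 yf42 zf45) (kf xf2 yf25 zf37) (kf xf9 yf40 zf51) (kf xf9 yf40 zf52) (kf xf9 yf42 zf55) (kf xf5 yf24 zf0) (kf xf5 yf24 zf1) (kf xf9 yf43 zf1) (kf xf5 yf3 zf11) (kf xf8 yf58 zf57) (kf xf9 yf43 zf2) (kf xf9 yf43 zf10) (kf xf2 yf25 zf40) (kf xf9 yf40 zf59) (kf xf5 yf22 zf20) (kf xf2 yf37 zf8) (kf xf9 yf43 zf18) (kf xf2 yf25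 zf41) (kf xf8 yf11 zf50) (kf xf8 yf11 zf51) (kf xf8 yf11 zf52) (kf xf4 yf14 zf39) (kf xf4 yf14 zf38) (kf xf5 yf1 zf27) (kf xf2 yf25 zf44) (kf xf7 yf58 zf16) (kf xf5 yf11 zf57) (kf xf7 yf58 zf50) (kf xf8 yf11 zf59) (kf xf5 yf3 zf13)) (@D3.rec (fun _ => Pt) (kf xf4 yf14 zf34) (kf xf9 yf43 zf45) (kf xf4 yf20 zf46) (kf xf7 yf58 zf44) (kf xf9 yf43 zf52) (kf xf9 yf43 zf44) (kf xf9 yf43 zf43) (kf xf2 yf25 zf51) (kf xf8 yf11 zf58) (kf xf7 yf58 zf22) (kf xf2 yf25 zf57) (kf xf2 yf25 zf56) (kf xf5 yf25 zf19) (kf xf5 yf13 zf20) (kf xf9 yf44 zf10) (kf xf9 yf44 zf12) (kf xf2 yf25 zf55) (kf xf9 yf43 zf60) (kf xf9 yf43 zf61) (kf xf9 yf44 zf0) (kf xf5 yf52 zf29) (kf xf5 yf30 zf39) (kf xf5 yf48 zf51) (kf xf6 yf51 zf16) (kf xf5 yf46 zf15) (kf xf5 yf46 zf11) (kf xf2 yf25 zf60) (kf xf8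 yf12 zf0) (kf xf4 yf14 zf54) (kf xf5 yf36 zf27) (kf xf5 yf3 zf38) (kf xf7 yf59 zf5) (kf xf5 yf36 zf59) (kf xf4 yf4 zf48) (kf xf6 yf14 zf16) (kf xf6 yf14 zf19) (kf xf8 yf3 zf31) (kf xf8 yf3 zf33) (kf xf4 yf22 zf35) (kf xf6 yf24 zf32) (kf xf4 yf42 zf58) (kf xf7 yf59 zf7) (kf xf6 yf16 zf9) (kf xf6 yf16 zf14) (kf xf5 yf53 zf13) (kf xf4 yf19 zf18) (kf xf4 yf22 zf22) (kf xf4 yf22 zf11) (kf xf9 yf44 zf57) (kf xf4 yf22 zf44) (kf xf2 yf26 zf15) (kf xf4 yf22 zf29) (kf xf4 yf22 zf30) (kf xf4 yf22 zf31) (kf xf4 yf22 zf32) (kf xf4 yf22 zf12) (kf xf9 yf45 zf3) (kf xf3 yf0 zf29) (kf xf5 yf46 zf25) (kf xf4 yf22 zf4) (kf xf9 yf45 zf9) (kf xf4 yf20 zf9)) (@D3.rec (fun _ => Pt) (kf xf2 yf26 zf25) (kf xf2 yf26 zf37) (kf xf2 yf26 zf59) (kf xf2 yf26 zf35) (kf xf8 yf44 zf19) (kf xf8 yf44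 zf27) (kf xf7 yf59 zf20) (kf xf5 yf43 zf19) (kf xf5 yf47 zf10) (kf xf2 yf26 zf30) (kf xf5 yf37 zf30) (kf xf9 yf45 zf29) (kf xf9 yf29 zf16) (kf xf2 yf26 zf31) (kf xf6 yf25 zf30) (kf xf5 yf41 zf35) (kf xf7 yf59 zf11) (kf xf7 yf59 zf14) (kf xf7 yf59 zf19) (kf xf5 yf14 zf5) (kf xf5 yf47 zf11) (kf xf2 yf26 zf36) (kf xf9 yf45 zf13) (kf xf9 yf45 zf45) (kf xf6 yf25 zf31) (kf xf5 yf49 zf5) (kf xf2 yf26 zf39) (kf xf2 yf26 zf38) (kf xf7 yf23 zf22) (kf xf9 yf45 zf51) (kf xf9 yf3 zf58) (kf xf3 yf42 zf40) (kf xf6 yf31 zf61) (kf xf6 yf15 zf27) (kf xf3 yf44 zf9) (kf xf7 yf59 zf2) (kf xf9 yf46 zf5) (kf xf9 yf46 zf8) (kf xf2 yf26 zf40) (kf xf9 yf45 zf50) (kf xf9 yf45 zf49) (kf xf2 yf26 zf41) (kf xf9 yf46 zf17) (kf xf2 yf27 zf48) (kf xf2 yf27 zf23) (kf xf2 yf27 zf49) (kf xf5 yf48 zf44)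 (kf xf7 yf59 zf1) (kf xf7 yf59 zf0) (kf xf9 yf46 zf34) (kf xf5 yf14 zf7) (kf xf2 yf26 zf45) (kf xf7 yf59 zf49) (kf xf3 yf2 zf50) (kf xf6 yf12 zf28) (kf xf7 yf59 zf47) (kf xf6 yf2 zf5) (kf xf2 yf26 zf49) (kf xf7 yf59 zf52) (kf xf7 yf59 zf51) (kf xf9 yf32 zf12) (kf xf2 yf27 zf58)) (@D3.rec (fun _ => Pt) (kf xf4 yf24 zf55) (kf xf4 yf24 zf54) (kf xf9 yf47 zf2) (kf xf2 yf26 zf51) (kf xf4 yf24 zf59) (kf xf4 yf24 zf60) (kf xf4 yf24 zf58) (kf xf4 yf25 zf0) (kf xf4 yf24 zf61) (kf xf8 yf47 zf40) (kf xf2 yf26 zf54) (kf xf4 yf25 zf6) (kf xf3 yf4 zf25) (kf xf2 yf27 zf31) (kf xf9 yf32 zf9) (kf xf9 yf45 zf12) (kf xf2 yf27 zf20) (kf xf5 yf14 zf10) (kf xf2 yf27 zf24) (kf xf6 yf30 zf37) (kf xf5 yf14 zf11) (kf xf6 yf44 zf21) (kf xf5 yf47 zf52) (kf xf9 yf47 zf29) (kf xf2 yf31 zf8) (kf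 xf8 yf49 zf2) (kf xf9 yf47 zf36) (kf xf2 yf27 zf3) (kf xf5 yf57 zf50) (kf xf5 yf47 zf45) (kf xf9 yf47 zf38) (kf xf5 yf50 zf3) (kf xf2 yf27 zf6) (kf xf5 yf14 zf13) (kf xf2 yf27 zf7) (kf xf5 yf47 zf0) (kf xf9 yf47 zf44) (kf xf5 yf57 zf55) (kf xf5 yf50 zf40) (kf xf9 yf47 zf51) (kf xf9 yf26 zf5) (kf xf9 yf47 zf56) (kf xf2 yf27 zf10) (kf xf6 yf30 zf38) (kf xf9 yf47 zf61) (kf xf2 yf27 zf11) (kf xf6 yf30 zf2) (kf xf5 yf14 zf12) (kf xf5 yf14 zf37) (kf xf3 yf23 zf44) (kf xf2 yf27 zf14) (kf xf9 yf6 zf54) (kf xf5 yf54 zf3) (kf xf5 yf49 zf60) (kf xf6 yf15 zf39) (kf xf6 yf13 zf20) (kf xf5 yf49 zf59) (kf xf6 yf15 zf45) (kf xf9 yf48 zf18) (kf xf6 yf13 zf21) (kf xf6 yf29 zf39) (kf xf9 yf46 zf22)) (@D3.rec (fun _ => Pt) (kf xf6 yf10 zf52) (kf xf9 yf26 zf3) (kf xf9 yf48 zf33) (kf xf6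 yf30 zf3) (kf xf9 yf48 zf39) (kf xf2 yf27 zf25) (kf xf9 yf6 zf55) (kf xf9 yf7 zf0) (kf xf9 yf48 zf47) (kf xf2 yf27 zf27) (kf xf2 yf27 zf36) (kf xf2 yf27 zf37) (kf xf6 yf26 zf55) (kf xf2 yf27 zf34) (kf xf6 yf21 zf36) (kf xf2 yf27 zf39) (kf xf9 yf47 zf18) (kf xf9 yf48 zf60) (kf xf2 yf27 zf45) (kf xf2 yf27 zf44) (kf xf2 yf27 zf32) (kf xf9 yf49 zf6) (kf xf5 yf57 zf51) (kf xf5 yf57 zf49) (kf xf9 yf11 zf49) (kf xf9 yf25 zf57) (kf xf9 yf49 zf19) (kf xf6 yf26 zf56) (kf xf9 yf49 zf24) (kf xf2 yf27 zf35) (kf xf6 yf25 zf36) (kf xf9 yf8 zf0) (kf xf9 yf49 zf28) (kf xf9 yf48 zf50) (kf xf9 yf25 zf49) (kf xf9 yf49 zf37) (kf xf6 yf21 zf37) (kf xf9 yf49 zf40) (kf xf2 yf27 zf38) (kf xf9 yf48 zf54) (kf xf9 yf30 zf18) (kf xf9 yf49 zf48) (kf xf5 yf59 zf36) (kf xf5 yf59 zf37) (kf xf9 yf49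 zf55) (kf xf9 yf26 zf6) (kf xf5 yf57 zf39) (kf xf9 yf50 zf1) (kf xf2 yf27 zf41) (kf xf9 yf48 zf58) (kf xf6 yf1 zf2) (kf xf9 yf50 zf11) (kf xf2 yf27 zf42) (kf xf9 yf32 zf10) (kf xf9 yf12 zf5) (kf xf9 yf49 zf1) (kf xf9 yf49 zf2) (kf xf9 yf50 zf25) (kf xf9 yf48 zf61) (kf xf9 yf49 zf0) (kf xf6 yf31 zf57) (kf xf6 yf25 zf55))
def f_f_5 : D2 → D3 → Pt := @D2.rec (fun _ => D3 → Pt) (@D3.rec (fun _ => Pt) (kf xf9 yf32 zf7) (kf xf9 yf32 zf8) (kf xf9 yf32 zf11) (kf xf8 yf0 zf4) (kf xf9 yf46 zf21) (kf xf9 yf46 zf23) (kf xf9 yf46 zf24) (kf xf9 yf46 zf25) (kf xf2 yf51 zf17) (kf xf8 yf0 zf57) (kf xf5 yf26 zf20) (kf xf8 yf0 zf58) (kf xf9 yf50 zf58) (kf xf8 yf0 zf56) (kf xf5 yf52 zf50) (kf xf2 yf51 zf30) (kf xf2 yf27 zf52) (kf xf2 yf50 zf13) (kf xf8 yf0 zf52) (kf xf8 yf0 zf54) (kf xf3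 yf5 zf30) (kf xf5 yf37 zf34) (kf xf3 yf24 zf7) (kf xf6 yf45 zf56) (kf xf9 yf51 zf10) (kf xf6 yf4 zf11) (kf xf9 yf51 zf14) (kf xf9 yf46 zf54) (kf xf3 yf3 zf32) (kf xf3 yf3 zf48) (kf xf5 yf46 zf37) (kf xf6 yf9 zf2) (kf xf4 yf27 zf1) (kf xf4 yf27 zf3) (kf xf4 yf39 zf48) (kf xf3 yf58 zf27) (kf xf5 yf24 zf57) (kf xf2 yf38 zf49) (kf xf5 yf0 zf42) (kf xf5 yf35 zf14) (kf xf5 yf35 zf15) (kf xf4 yf28 zf6) (kf xf5 yf0 zf38) (kf xf9 yf0 zf29) (kf xf9 yf0 zf30) (kf xf2 yf28 zf17) (kf xf2 yf28 zf25) (kf xf2 yf28 zf19) (kf xf8 yf28 zf7) (kf xf2 yf28 zf32) (kf xf9 yf52 zf1) (kf xf2 yf28 zf35) (kf xf2 yf28 zf34) (kf xf9 yf52 zf12) (kf xf5 yf1 zf60) (kf xf2 yf28 zf10) (kf xf4 yf1 zf57) (kf xf2 yf35 zf25) (kf xf5 yf9 zf35) (kf xf5 yf15 zf36) (kf xf8 yf15 zf3) (kf xf9 yf52 zf26)) (@D3.rec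 (fun _ => Pt) (kf xf5 yf6 zf5) (kf xf8 yf5 zf41) (kf xf9 yf52 zf29) (kf xf9 yf51 zf52) (kf xf9 yf52 zf35) (kf xf5 yf9 zf46) (kf xf5 yf8 zf51) (kf xf9 yf51 zf53) (kf xf8 yf6 zf48) (kf xf9 yf51 zf56) (kf xf9 yf51 zf57) (kf xf9 yf52 zf54) (kf xf8 yf42 zf46) (kf xf5 yf9 zf61) (kf xf2 yf28 zf20) (kf xf9 yf39 zf20) (kf xf5 yf10 zf3) (kf xf9 yf39 zf21) (kf xf9 yf53 zf0) (kf xf4 yf21 zf5) (kf xf5 yf36 zf8) (kf xf5 yf15 zf12) (kf xf8 yf8 zf30) (kf xf4 yf2 zf58) (kf xf9 yf51 zf54) (kf xf9 yf51 zf55) (kf xf9 yf53 zf10) (kf xf4 yf55 zf55) (kf xf8 yf10 zf14) (kf xf2 yf28 zf26) (kf xf5 yf36 zf10) (kf xf2 yf35 zf45) (kf xf9 yf53 zf22) (kf xf2 yf36 zf32) (kf xf9 yf34 zf42) (kf xf9 yf34 zf43) (kf xf9 yf53 zf36) (kf xf9 yf52 zf0) (kf xf5 yf10 zf47) (kf xf2 yf28 zf30) (kf xf9 yf53 zf44)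 (kf xf9 yf51 zf59) (kf xf9 yf51 zf60) (kf xf9 yf53 zf54) (kf xf5 yf11 zf8) (kf xf9 yf34 zf39) (kf xf2 yf28 zf33) (kf xf9 yf52 zf5) (kf xf9 yf52 zf6) (kf xf9 yf54 zf6) (kf xf9 yf52 zf2) (kf xf9 yf52 zf3) (kf xf9 yf54 zf14) (kf xf9 yf54 zf21) (kf xf9 yf54 zf16) (kf xf9 yf54 zf15) (kf xf9 yf54 zf31) (kf xf2 yf28 zf36) (kf xf9 yf52 zf14) (kf xf9 yf52 zf13) (kf xf5 yf0 zf54) (kf xf9 yf54 zf41)) (@D3.rec (fun _ => Pt) (kf xf2 yf28 zf37) (kf xf5 yf9 zf23) (kf xf5 yf9 zf24) (kf xf5 yf9 zf25) (kf xf5 yf10 zf4) (kf xf9 yf54 zf56) (kf xf5 yf8 zf28) (kf xf5 yf10 zf5) (kf xf9 yf55 zf0) (kf xf5 yf10 zf7) (kf xf5 yf10 zf8) (kf xf5 yf10 zf9) (kf xf5 yf10 zf10) (kf xf9 yf55 zf16) (kf xf8 yf24 zf40) (kf xf8 yf24 zf43) (kf xf2 yf28 zf43) (kf xf5 yf8 zf34) (kf xf9 yf53 zf12) (kf xf5 yf9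 zf53) (kf xf5 yf4 zf7) (kf xf9 yf55 zf36) (kf xf5 yf9 zf51) (kf xf5 yf9 zf50) (kf xf2 yf28 zf46) (kf xf5 yf9 zf48) (kf xf5 yf4 zf8) (kf xf5 yf10 zf23) (kf xf5 yf5 zf39) (kf xf5 yf3 zf29) (kf xf9 yf55 zf54) (kf xf5 yf5 zf32) (kf xf5 yf3 zf30) (kf xf5 yf10 zf16) (kf xf5 yf10 zf17) (kf xf5 yf10 zf18) (kf xf5 yf10 zf19) (kf xf9 yf37 zf4) (kf xf9 yf56 zf15) (kf xf5 yf5 zf49) (kf xf5 yf5 zf47) (kf xf2 yf28 zf53) (kf xf5 yf8 zf41) (kf xf5 yf10 zf1) (kf xf5 yf10 zf0) (kf xf5 yf10 zf2) (kf xf3 yf58 zf5) (kf xf4 yf54 zf29) (kf xf5 yf9 zf29) (kf xf9 yf54 zf61) (kf xf5 yf8 zf44) (kf xf5 yf9 zf33) (kf xf5 yf10 zf12) (kf xf5 yf9 zf36) (kf xf9 yf56 zf36) (kf xf5 yf9 zf38) (kf xf5 yf9 zf39) (kf xf5 yf9 zf40) (kf xf5 yf9 zf41) (kf xf9 yf56 zf51) (kf xf4 yf55 zf23) (kf xf9 yf1 zf16))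 (@D3.rec (fun _ => Pt) (kf xf2 yf29 zf1) (kf xf3 yf58 zf13) (kf xf3 yf58 zf15) (kf xf5 yf37 zf4) (kf xf5 yf9 zf54) (kf xf5 yf9 zf55) (kf xf5 yf9 zf56) (kf xf5 yf9 zf57) (kf xf9 yf57 zf12) (kf xf9 yf57 zf16) (kf xf2 yf42 zf16) (kf xf4 yf55 zf40) (kf xf2 yf29 zf7) (kf xf4 yf55 zf61) (kf xf5 yf10 zf25) (kf xf5 yf10 zf24) (kf xf5 yf30 zf42) (kf xf2 yf36 zf17) (kf xf5 yf10 zf53) (kf xf5 yf10 zf54) (kf xf9 yf57 zf34) (kf xf9 yf39 zf43) (kf xf9 yf39 zf42) (kf xf2 yf29 zf13) (kf xf5 yf10 zf59) (kf xf5 yf10 zf60) (kf xf5 yf10 zf61) (kf xf5 yf11 zf0) (kf xf9 yf57 zf55) (kf xf5 yf2 zf29) (kf xf5 yf2 zf32) (kf xf9 yf19 zf61) (kf xf5 yf10 zf44) (kf xf5 yf10 zf43) (kf xf9 yf58 zf4) (kf xf2 yf29 zf16) (kf xf5 yf9 zf0) (kf xf5 yf10 zf50) (kf xf4 yf56 zf30) (kf xf5 yf10 zf48) (kf xf5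 yf10 zf49) (kf xf5 yf11 zf7) (kf xf5 yf10 zf28) (kf xf9 yf58 zf17) (kf xf4 yf27 zf10) (kf xf5 yf10 zf31) (kf xf5 yf10 zf32) (kf xf9 yf58 zf31) (kf xf9 yf57 zf38) (kf xf9 yf58 zf16) (kf xf2 yf29 zf22) (kf xf5 yf10 zf37) (kf xf5 yf10 zf38) (kf xf5 yf10 zf39) (kf xf5 yf10 zf40) (kf xf8 yf36 zf25) (kf xf6 yf48 zf1) (kf xf5 yf11 zf4) (kf xf5 yf11 zf3) (kf xf2 yf29 zf25) (kf xf5 yf11 zf9) (kf xf5 yf10 zf51)) (@D3.rec (fun _ => Pt) (kf xf5 yf9 zf6) (kf xf5 yf11 zf6) (kf xf5 yf11 zf20) (kf xf5 yf11 zf21) (kf xf5 yf11 zf22) (kf xf5 yf11 zf23) (kf xf9 yf59 zf3) (kf xf5 yf2 zf20) (kf xf5 yf2 zf26) (kf xf3 yf18 zf10) (kf xf9 yf59 zf14) (kf xf2 yf29 zf31) (kf xf5 yf11 zf10) (kf xf5 yf11 zf11) (kf xf5 yf11 zf12) (kf xf5 yf11 zf13) (kf xf5 yf11 zf14) (kf xf9 yf59 zf33) (kf xf9 yf32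 zf39) (kf xf6 yf22 zf43) (kf xf2 yf29 zf34) (kf xf2 yf29 zf37) (kf xf2 yf29 zf36) (kf xf9 yf59 zf44) (kf xf9 yf59 zf50) (kf xf9 yf59 zf53) (kf xf9 yf59 zf56) (kf xf2 yf29 zf35) (kf xf9 yf59 zf35) (kf xf9 yf59 zf36) (kf xf9 yf59 zf37) (kf xf10 yf0 zf7) (kf xf5 yf14 zf45) (kf xf5 yf14 zf43) (kf xf5 yf14 zf44) (kf xf5 yf14 zf27) (kf xf10 yf0 zf19) (kf xf5 yf11 zf44) (kf xf10 yf0 zf25) (kf xf5 yf11 zf45) (kf xf10 yf0 zf30) (kf xf5 yf11 zf50) (kf xf5 yf11 zf49) (kf xf2 yf29 zf42) (kf xf5 yf11 zf52) (kf xf5 yf11 zf53) (kf xf5 yf11 zf54) (kf xf5 yf11 zf55) (kf xf5 yf11 zf56) (kf xf5 yf12 zf34) (kf xf5 yf12 zf35) (kf xf5 yf12 zf36) (kf xf10 yf0 zf48) (kf xf5 yf12 zf39) (kf xf10 yf0 zf54) (kf xf5 yf12 zf40) (kf xf5 yf12 zf41) (kf xf5 yf23 zf30) (kf xf5 yf12 zf43) (kf xf5 yf8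 zf55) (kf xf5 yf12 zf44) (kf xf5 yf12 zf45)) (@D3.rec (fun _ => Pt) (kf xf10 yf1 zf11) (kf xf8 yf38 zf5) (kf xf8 yf38 zf4) (kf xf2 yf29 zf49) (kf xf5 yf12 zf52) (kf xf5 yf12 zf53) (kf xf5 yf12 zf54) (kf xf4 yf4 zf52) (kf xf5 yf6 zf44) (kf xf5 yf12 zf56) (kf xf5 yf6 zf45) (kf xf5 yf12 zf58) (kf xf5 yf12 zf59) (kf xf4 yf41 zf22) (kf xf5 yf12 zf60) (kf xf5 yf13 zf0) (kf xf10 yf1 zf37) (kf xf5 yf13 zf3) (kf xf5 yf13 zf4) (kf xf10 yf1 zf44) (kf xf5 yf13 zf5) (kf xf5 yf19 zf51) (kf xf5 yf13 zf7) (kf xf5 yf13 zf8) (kf xf5 yf13 zf9) (kf xf5 yf13 zf10) (kf xf10 yf2 zf1) (kf xf8 yf33 zf17) (kf xf8 yf33 zf20) (kf xf2 yf29 zf60) (kf xf5 yf12 zf15) (kf xf10 yf2 zf11) (kf xf5 yf2 zf31) (kf xf10 yf2 zf18) (kf xf5 yf12 zf12) (kf xf5 yf12 zf11) (kf xf2 yf30 zf1) (kf xf2 yf34 zf32) (kf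 xf5 yf12 zf9) (kf xf5 yf2 zf28) (kf xf5 yf13 zf16) (kf xf5 yf13 zf17) (kf xf5 yf13 zf18) (kf xf10 yf2 zf34) (kf xf6 yf26 zf13) (kf xf2 yf30 zf5) (kf xf5 yf12 zf23) (kf xf5 yf2 zf40) (kf xf5 yf12 zf22) (kf xf5 yf2 zf39) (kf xf5 yf12 zf24) (kf xf10 yf2 zf42) (kf xf5 yf7 zf8) (kf xf10 yf2 zf45) (kf xf10 yf2 zf47) (kf xf5 yf6 zf53) (kf xf10 yf2 zf50) (kf xf5 yf13 zf27) (kf xf5 yf6 zf48) (kf xf5 yf46 zf49) (kf xf5 yf13 zf28) (kf xf10 yf2 zf60)) (@D3.rec (fun _ => Pt) (kf xf5 yf12 zf32) (kf xf5 yf12 zf31) (kf xf2 yf30 zf19) (kf xf5 yf11 zf58) (kf xf5 yf11 zf59) (kf xf5 yf1 zf0) (kf xf5 yf11 zf61) (kf xf10 yf3 zf12) (kf xf5 yf12 zf1) (kf xf5 yf12 zf2) (kf xf5 yf12 zf3) (kf xf5 yf12 zf4) (kf xf10 yf3 zf26) (kf xf4 yf28 zf13) (kf xf8 yf54 zf6) (kf xf2 yf30 zf23) (kf xf5 yf23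 zf19) (kf xf5 yf12 zf16) (kf xf5 yf12 zf17) (kf xf5 yf12 zf18) (kf xf10 yf3 zf45) (kf xf2 yf30 zf26) (kf xf4 yf29 zf31) (kf xf4 yf29 zf48) (kf xf5 yf13 zf24) (kf xf5 yf13 zf23) (kf xf8 yf56 zf60) (kf xf3 yf20 zf39) (kf xf3 yf20 zf37) (kf xf3 yf0 zf43) (kf xf5 yf12 zf29) (kf xf5 yf49 zf52) (kf xf2 yf55 zf39) (kf xf2 yf55 zf6) (kf xf3 yf6 zf56) (kf xf6 yf31 zf38) (kf xf5 yf13 zf31) (kf xf5 yf13 zf30) (kf xf2 yf30 zf35) (kf xf5 yf6 zf59) (kf xf5 yf7 zf2) (kf xf10 yf4 zf6) (kf xf5 yf13 zf40) (kf xf8 yf43 zf60) (kf xf5 yf5 zf8) (kf xf5 yf5 zf10) (kf xf5 yf13 zf42) (kf xf10 yf4 zf20) (kf xf5 yf5 zf58) (kf xf5 yf13 zf46) (kf xf10 yf4 zf26) (kf xf4 yf39 zf47) (kf xf10 yf4 zf29) (kf xf5 yf5 zf55) (kf xf10 yf4 zf34) (kf xf2 yf48 zf40) (kf xf2 yf30 zf45) (kf xf2 yf55 zf3) (kf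 xf2 yf55 zf38) (kf xf5 yf6 zf39) (kf xf4 yf41 zf49) (kf xf5 yf13 zf49)) (@D3.rec (fun _ => Pt) (kf xf10 yf4 zf43) (kf xf2 yf30 zf50) (kf xf5 yf6 zf40) (kf xf5 yf14 zf14) (kf xf5 yf14 zf15) (kf xf5 yf14 zf16) (kf xf10 yf4 zf52) (kf xf5 yf50 zf13) (kf xf5 yf5 zf52) (kf xf10 yf4 zf58) (kf xf5 yf14 zf8) (kf xf2 yf30 zf56) (kf xf5 yf13 zf55) (kf xf5 yf13 zf56) (kf xf5 yf13 zf57) (kf xf5 yf13 zf58) (kf xf5 yf13 zf59) (kf xf5 yf14 zf23) (kf xf4 yf36 zf45) (kf xf5 yf13 zf61) (kf xf5 yf14 zf1) (kf xf5 yf14 zf2) (kf xf5 yf14 zf3) (kf xf6 yf50 zf32) (kf xf5 yf14 zf22) (kf xf5 yf14 zf25) (kf xf5 yf14 zf19) (kf xf5 yf14 zf18) (kf xf10 yf5 zf20) (kf xf2 yf31 zf0) (kf xf2 yf31 zf10) (kf xf9 yf47 zf31) (kf xf4 yf20 zf11) (kf xf10 yf5 zf28) (kf xf9 yf1 zf51) (kf xf2 yf31 zf3) (kf xf2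 yf55 zf18) (kf xf10 yf5 zf33) (kf xf5 yf43 zf43) (kf xf2 yf31 zf4) (kf xf10 yf5 zf38) (kf xf10 yf5 zf41) (kf xf2 yf31 zf5) (kf xf2 yf50 zf25) (kf xf4 yf37 zf1) (kf xf9 yf47 zf30) (kf xf5 yf54 zf49) (kf xf10 yf5 zf21) (kf xf10 yf5 zf52) (kf xf2 yf31 zf13) (kf xf8 yf14 zf53) (kf xf10 yf6 zf0) (kf xf5 yf47 zf59) (kf xf5 yf48 zf5) (kf xf10 yf6 zf11) (kf xf9 yf47 zf33) (kf xf10 yf5 zf53) (kf xf10 yf6 zf17) (kf xf10 yf5 zf56) (kf xf10 yf5 zf55) (kf xf5 yf11 zf42) (kf xf10 yf6 zf33)) (@D3.rec (fun _ => Pt) (kf xf10 yf6 zf37) (kf xf2 yf31 zf14) (kf xf10 yf5 zf61) (kf xf10 yf5 zf60) (kf xf2 yf31 zf15) (kf xf10 yf6 zf42) (kf xf5 yf14 zf38) (kf xf10 yf6 zf48) (kf xf5 yf14 zf35) (kf xf5 yf14 zf34) (kf xf2 yf31 zf18) (kf xf5 yf14 zf31) (kf xf5 yf14 zf32) (kf xf10 yf6 zf60) (kf xf5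 yf14 zf41) (kf xf5 yf14 zf40) (kf xf2 yf31 zf20) (kf xf5 yf11 zf40) (kf xf5 yf11 zf41) (kf xf5 yf11 zf39) (kf xf6 yf34 zf53) (kf xf5 yf14 zf49) (kf xf10 yf7 zf12) (kf xf4 yf36 zf47) (kf xf9 yf5 zf3) (kf xf2 yf31 zf26) (kf xf5 yf14 zf53) (kf xf5 yf14 zf52) (kf xf5 yf2 zf6) (kf xf5 yf17 zf21) (kf xf6 yf5 zf42) (kf xf10 yf7 zf26) (kf xf8 yf3 zf59) (kf xf10 yf7 zf32) (kf xf5 yf2 zf17) (kf xf8 yf3 zf8) (kf xf5 yf12 zf51) (kf xf8 yf4 zf3) (kf xf8 yf4 zf4) (kf xf10 yf7 zf50) (kf xf8 yf4 zf1) (kf xf5 yf2 zf42) (kf xf2 yf31 zf32) (kf xf8 yf3 zf56) (kf xf5 yf2 zf50) (kf xf8 yf3 zf57) (kf xf10 yf7 zf58) (kf xf8 yf9 zf59) (kf xf8 yf3 zf60) (kf xf8 yf3 zf61) (kf xf10 yf8 zf5) (kf xf5 yf1 zf6) (kf xf8 yf4 zf6) (kf xf10 yf8 zf12) (kf xf2 yf31 zf36) (kf xf5 yf4 zf59) (kf xf2 yf34 zf50)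 (kf xf10 yf8 zf19) (kf xf8 yf4 zf16) (kf xf8 yf4 zf17) (kf xf10 yf8 zf31) (kf xf8 yf4 zf13)) (@D3.rec (fun _ => Pt) (kf xf5 yf3 zf36) (kf xf2 yf31 zf40) (kf xf10 yf8 zf38) (kf xf8 yf4 zf10) (kf xf8 yf4 zf11) (kf xf10 yf8 zf46) (kf xf5 yf4 zf0) (kf xf8 yf4 zf19) (kf xf2 yf31 zf43) (kf xf8 yf4 zf24) (kf xf8 yf4 zf25) (kf xf10 yf8 zf56) (kf xf8 yf4 zf21) (kf xf8 yf4 zf22) (kf xf10 yf9 zf1) (kf xf10 yf9 zf8) (kf xf10 yf9 zf3) (kf xf10 yf9 zf2) (kf xf8 yf5 zf19) (kf xf2 yf31 zf46) (kf xf8 yf4 zf33) (kf xf8 yf4 zf32) (kf xf10 yf9 zf25) (kf xf5 yf2 zf1) (kf xf5 yf2 zf2) (kf xf5 yf2 zf3) (kf xf3 yf58 zf3) (kf xf3 yf58 zf4) (kf xf4 yf54 zf14) (kf xf5 yf2 zf48) (kf xf10 yf9 zf43) (kf xf2 yf37 zf21) (kf xf2 yf37 zf25) (kf xf5 yf2 zf51) (kf xf10 yf9 zf53) (kf xf5 yf0 zf58) (kf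 xf5 yf2 zf53) (kf xf9 yf40 zf10) (kf xf5 yf2 zf55) (kf xf5 yf2 zf56) (kf xf5 yf2 zf57) (kf xf5 yf2 zf58) (kf xf10 yf10 zf12) (kf xf8 yf36 zf28) (kf xf8 yf36 zf31) (kf xf2 yf31 zf57) (kf xf5 yf1 zf5) (kf xf10 yf8 zf7) (kf xf5 yf2 zf25) (kf xf10 yf10 zf28) (kf xf5 yf2 zf23) (kf xf5 yf2 zf22) (kf xf2 yf31 zf60) (kf xf5 yf2 zf19) (kf xf5 yf3 zf4) (kf xf5 yf3 zf5) (kf xf5 yf3 zf6) (kf xf5 yf3 zf7) (kf xf10 yf10 zf46) (kf xf10 yf10 zf47) (kf xf2 yf32 zf2) (kf xf5 yf1 zf13)) (@D3.rec (fun _ => Pt) (kf xf5 yf2 zf44) (kf xf5 yf2 zf43) (kf xf5 yf2 zf45) (kf xf5 yf1 zf16) (kf xf5 yf2 zf4) (kf xf5 yf2 zf7) (kf xf10 yf10 zf58) (kf xf5 yf2 zf9) (kf xf5 yf2 zf10) (kf xf5 yf2 zf11) (kf xf5 yf2 zf12) (kf xf10 yf11 zf8) (kf xf5 yf2 zf52) (kf xf5 yf39 zf42) (kf xf2 yf32 zf9) (kf xf8 yf13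 zf19) (kf xf5 yf2 zf33) (kf xf5 yf2 zf34) (kf xf5 yf2 zf35) (kf xf5 yf2 zf36) (kf xf10 yf11 zf26) (kf xf10 yf11 zf27) (kf xf2 yf32 zf13) (kf xf5 yf2 zf27) (kf xf5 yf3 zf15) (kf xf5 yf3 zf14) (kf xf5 yf39 zf45) (kf xf6 yf5 zf36) (kf xf5 yf3 zf42) (kf xf10 yf11 zf37) (kf xf2 yf37 zf17) (kf xf5 yf3 zf45) (kf xf5 yf3 zf46) (kf xf10 yf11 zf49) (kf xf10 yf11 zf36) (kf xf10 yf11 zf35) (kf xf2 yf32 zf20) (kf xf5 yf3 zf51) (kf xf5 yf3 zf52) (kf xf5 yf3 zf53) (kf xf5 yf3 zf54) (kf xf10 yf12 zf4) (kf xf10 yf12 zf6) (kf xf5 yf3 zf33) (kf xf5 yf3 zf32) (kf xf10 yf12 zf11) (kf xf2 yf32 zf23) (kf xf5 yf1 zf38) (kf xf5 yf3 zf39) (kf xf5 yf3 zf40) (kf xf5 yf3 zf37) (kf xf5 yf3 zf61) (kf xf2 yf36 zf12) (kf xf5 yf3 zf18) (kf xf5 yf3 zf19) (kf xf10 yf12 zf30) (kf xf9 yf40 zf16) (kf xf9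 yf40 zf15) (kf xf2 yf32 zf28) (kf xf5 yf3 zf24) (kf xf5 yf3 zf25) (kf xf5 yf3 zf26)) (@D3.rec (fun _ => Pt) (kf xf5 yf3 zf27) (kf xf10 yf12 zf45) (kf xf9 yf32 zf58) (kf xf5 yf3 zf58) (kf xf5 yf3 zf57) (kf xf2 yf32 zf31) (kf xf5 yf4 zf1) (kf xf5 yf3 zf41) (kf xf5 yf1 zf44) (kf xf5 yf3 zf60) (kf xf5 yf4 zf12) (kf xf5 yf4 zf13) (kf xf5 yf4 zf14) (kf xf5 yf4 zf15) (kf xf5 yf4 zf16) (kf xf10 yf13 zf6) (kf xf6 yf40 zf14) (kf xf10 yf13 zf9) (kf xf2 yf32 zf37) (kf xf3 yf2 zf12) (kf xf5 yf4 zf2) (kf xf5 yf4 zf3) (kf xf5 yf4 zf4) (kf xf5 yf4 zf5) (kf xf10 yf13 zf24) (kf xf6 yf40 zf16) (kf xf6 yf24 zf1) (kf xf2 yf32 zf40) (kf xf2 yf32 zf43) (kf xf2 yf32 zf42) (kf xf10 yf13 zf36) (kf xf10 yf13 zf42) (kf xf10 yf13 zf46) (kf xf10 yf13 zf49) (kf xf2 yf32 zf41) (kf xf10 yf13 zf27)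 (kf xf10 yf13 zf28) (kf xf10 yf13 zf29) (kf xf10 yf14 zf1) (kf xf5 yf8 zf19) (kf xf5 yf8 zf17) (kf xf5 yf8 zf18) (kf xf5 yf7 zf60) (kf xf10 yf14 zf15) (kf xf5 yf4 zf37) (kf xf5 yf4 zf39) (kf xf10 yf14 zf24) (kf xf3 yf2 zf11) (kf xf10 yf14 zf29) (kf xf5 yf4 zf42) (kf xf5 yf4 zf41) (kf xf2 yf32 zf48) (kf xf5 yf4 zf44) (kf xf5 yf4 zf45) (kf xf5 yf4 zf46) (kf xf5 yf4 zf47) (kf xf5 yf4 zf48) (kf xf4 yf55 zf58) (kf xf5 yf6 zf3) (kf xf5 yf6 zf4) (kf xf10 yf14 zf47) (kf xf5 yf6 zf6)) (@D3.rec (fun _ => Pt) (kf xf8 yf52 zf30) (kf xf5 yf6 zf8) (kf xf5 yf6 zf9) (kf xf5 yf6 zf10) (kf xf5 yf6 zf11) (kf xf10 yf15 zf0) (kf xf5 yf19 zf19) (kf xf5 yf19 zf18) (kf xf2 yf32 zf54) (kf xf5 yf5 zf38) (kf xf10 yf15 zf7) (kf xf5 yf5 zf35) (kf xf5 yf5 zf34) (kf xf2 yf32 zf56) (kf xf2 yf35 zf31)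 (kf xf5 yf5 zf30) (kf xf5 yf6 zf17) (kf xf5 yf6 zf18) (kf xf5 yf6 zf19) (kf xf10 yf15 zf20) (kf xf6 yf25 zf45) (kf xf2 yf32 zf59) (kf xf5 yf5 zf48) (kf xf5 yf5 zf46) (kf xf5 yf5 zf50) (kf xf3 yf5 zf4) (kf xf4 yf39 zf42) (kf xf4 yf39 zf46) (kf xf6 yf8 zf51) (kf xf5 yf6 zf30) (kf xf10 yf15 zf27) (kf xf5 yf6 zf1) (kf xf5 yf6 zf0) (kf xf2 yf33 zf8) (kf xf5 yf4 zf49) (kf xf5 yf4 zf50) (kf xf5 yf4 zf51) (kf xf10 yf15 zf40) (kf xf5 yf15 zf30) (kf xf5 yf4 zf53) (kf xf5 yf4 zf55) (kf xf5 yf4 zf56) (kf xf10 yf15 zf48) (kf xf5 yf4 zf58) (kf xf5 yf4 zf60) (kf xf5 yf4 zf61) (kf xf10 yf15 zf58) (kf xf8 yf38 zf51) (kf xf8 yf38 zf50) (kf xf10 yf16 zf3) (kf xf2 yf33 zf14) (kf xf5 yf8 zf36) (kf xf5 yf5 zf4) (kf xf5 yf5 zf5) (kf xf5 yf5 zf6) (kf xf4 yf27 zf6) (kf xf5 yf5 zf9) (kf xf6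 yf14 zf5) (kf xf5 yf5 zf11) (kf xf5 yf5 zf12) (kf xf5 yf5 zf14) (kf xf3 yf57 zf50)) (@D3.rec (fun _ => Pt) (kf xf5 yf5 zf15) (kf xf10 yf16 zf23) (kf xf5 yf13 zf44) (kf xf5 yf5 zf17) (kf xf5 yf5 zf18) (kf xf5 yf5 zf20) (kf xf10 yf16 zf31) (kf xf5 yf5 zf22) (kf xf5 yf5 zf23) (kf xf5 yf5 zf24) (kf xf5 yf5 zf25) (kf xf9 yf3 zf5) (kf xf2 yf38 zf46) (kf xf5 yf23 zf51) (kf xf2 yf33 zf27) (kf xf5 yf21 zf30) (kf xf5 yf5 zf40) (kf xf5 yf5 zf41) (kf xf5 yf5 zf42) (kf xf10 yf16 zf61) (kf xf4 yf56 zf13) (kf xf2 yf33 zf30) (kf xf2 yf41 zf56) (kf xf5 yf6 zf25) (kf xf5 yf6 zf24) (kf xf5 yf30 zf49) (kf xf5 yf25 zf61) (kf xf5 yf5 zf57) (kf xf5 yf5 zf60) (kf xf10 yf17 zf15) (kf xf5 yf6 zf37) (kf xf5 yf6 zf36) (kf xf2 yf33 zf37) (kf xf10 yf17 zf23) (kf xf10 yf17 zf25) (kf xf4 yf33 zf42)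 (kf xf2 yf33 zf41) (kf xf3 yf38 zf35) (kf xf4 yf25 zf42) (kf xf4 yf25 zf55) (kf xf5 yf6 zf42) (kf xf4 yf35 zf33) (kf xf5 yf6 zf46) (kf xf10 yf17 zf38) (kf xf5 yf13 zf2) (kf xf4 yf37 zf18) (kf xf5 yf6 zf49) (kf xf10 yf17 zf47) (kf xf4 yf35 zf34) (kf xf5 yf6 zf61) (kf xf10 yf17 zf53) (kf xf2 yf33 zf49) (kf xf3 yf59 zf18) (kf xf3 yf59 zf23) (kf xf3 yf59 zf26) (kf xf5 yf7 zf12) (kf xf5 yf7 zf13) (kf xf5 yf7 zf14) (kf xf5 yf7 zf15) (kf xf5 yf7 zf16) (kf xf5 yf41 zf15) (kf xf5 yf7 zf19)) (@D3.rec (fun _ => Pt) (kf xf5 yf41 zf16) (kf xf5 yf7 zf20) (kf xf5 yf7 zf21) (kf xf5 yf7 zf22) (kf xf10 yf18 zf10) (kf xf4 yf57 zf19) (kf xf3 yf59 zf4) (kf xf4 yf57 zf50) (kf xf5 yf7 zf10) (kf xf2 yf33 zf57) (kf xf4 yf58 zf17) (kf xf4 yf58 zf20) (kf xf4 yf58 zf47) (kf xf4 yf58 zf33) (kf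 xf5 yf7 zf3) (kf xf5 yf7 zf4) (kf xf5 yf7 zf5) (kf xf6 yf46 zf22) (kf xf5 yf7 zf27) (kf xf5 yf7 zf26) (kf xf6 yf46 zf21) (kf xf2 yf34 zf0) (kf xf5 yf7 zf24) (kf xf5 yf7 zf17) (kf xf2 yf53 zf34) (kf xf5 yf7 zf25) (kf xf10 yf18 zf28) (kf xf5 yf4 zf35) (kf xf9 yf13 zf37) (kf xf6 yf7 zf10) (kf xf2 yf34 zf5) (kf xf5 yf8 zf11) (kf xf5 yf8 zf12) (kf xf10 yf18 zf40) (kf xf5 yf8 zf9) (kf xf5 yf8 zf8) (kf xf2 yf34 zf7) (kf xf4 yf58 zf48) (kf xf5 yf8 zf6) (kf xf10 yf18 zf50) (kf xf5 yf8 zf15) (kf xf5 yf8 zf14) (kf xf2 yf34 zf9) (kf xf5 yf4 zf33) (kf xf5 yf4 zf34) (kf xf5 yf4 zf32) (kf xf10 yf18 zf61) (kf xf2 yf34 zf11) (kf xf10 yf19 zf1) (kf xf5 yf8 zf21) (kf xf5 yf45 zf56) (kf xf2 yf34 zf15) (kf xf5 yf8 zf27) (kf xf5 yf8 zf26) (kf xf4 yf16 zf3) (kf xf5 yf27 zf26) (kf xf5 yf27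 zf27) (kf xf7 yf58 zf11) (kf xf4 yf16 zf22) (kf xf4 yf14 zf12) (kf xf8 yf56 zf23) (kf xf8 yf56 zf24)) (@D3.rec (fun _ => Pt) (kf xf2 yf34 zf38) (kf xf2 yf34 zf40) (kf xf2 yf34 zf33) (kf xf10 yf3 zf46) (kf xf2 yf34 zf47) (kf xf10 yf19 zf39) (kf xf2 yf34 zf49) (kf xf10 yf19 zf47) (kf xf8 yf29 zf3) (kf xf2 yf34 zf25) (kf xf5 yf17 zf10) (kf xf4 yf3 zf6) (kf xf5 yf1 zf21) (kf xf10 yf19 zf55) (kf xf2 yf38 zf11) (kf xf4 yf13 zf36) (kf xf8 yf11 zf16) (kf xf5 yf36 zf5) (kf xf8 yf11 zf17) (kf xf10 yf20 zf0) (kf xf4 yf14 zf5) (kf xf10 yf2 zf20) (kf xf10 yf20 zf4) (kf xf9 yf54 zf57) (kf xf9 yf25 zf39) (kf xf10 yf19 zf32) (kf xf10 yf19 zf33) (kf xf10 yf20 zf15) (kf xf8 yf19 zf17) (kf xf2 yf34 zf34) (kf xf5 yf12 zf38) (kf xf8 yf51 zf60) (kf xf10 yf20 zf22) (kf xf4 yf6 zf20) (kf xf10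 yf19 zf28) (kf xf10 yf20 zf28) (kf xf5 yf0 zf59) (kf xf10 yf19 zf30) (kf xf10 yf19 zf31) (kf xf10 yf20 zf39) (kf xf10 yf3 zf47) (kf xf10 yf20 zf43) (kf xf2 yf34 zf41) (kf xf5 yf28 zf18) (kf xf10 yf15 zf60) (kf xf4 yf13 zf40) (kf xf8 yf17 zf52) (kf xf8 yf17 zf53) (kf xf10 yf20 zf60) (kf xf10 yf19 zf38) (kf xf5 yf18 zf26) (kf xf2 yf34 zf45) (kf xf7 yf57 zf31) (kf xf10 yf21 zf8) (kf xf10 yf19 zf35) (kf xf10 yf19 zf36) (kf xf10 yf21 zf18) (kf xf5 yf18 zf37) (kf xf8 yf17 zf48) (kf xf2 yf34 zf48) (kf xf10 yf19 zf40) (kf xf10 yf19 zf41)) (@D3.rec (fun _ => Pt) (kf xf10 yf21 zf30) (kf xf10 yf8 zf14) (kf xf10 yf8 zf15) (kf xf10 yf21 zf38) (kf xf10 yf21 zf43) (kf xf9 yf59 zf41) (kf xf10 yf21 zf39) (kf xf10 yf21 zf51) (kf xf2 yf34 zf51) (kf xf10 yf19 zf48) (kf xf10 yf7 zf22) (kf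 xf4 yf15 zf16) (kf xf10 yf21 zf60) (kf xf2 yf34 zf52) (kf xf5 yf18 zf17) (kf xf5 yf18 zf18) (kf xf5 yf18 zf19) (kf xf5 yf18 zf29) (kf xf5 yf18 zf31) (kf xf10 yf22 zf14) (kf xf8 yf52 zf13) (kf xf8 yf52 zf12) (kf xf2 yf34 zf56) (kf xf5 yf17 zf54) (kf xf4 yf30 zf48) (kf xf5 yf18 zf36) (kf xf4 yf54 zf18) (kf xf5 yf18 zf21) (kf xf10 yf22 zf30) (kf xf5 yf19 zf60) (kf xf5 yf19 zf59) (kf xf2 yf34 zf61) (kf xf5 yf18 zf28) (kf xf5 yf17 zf60) (kf xf2 yf35 zf5) (kf xf2 yf35 zf4) (kf xf10 yf9 zf10) (kf xf10 yf22 zf46) (kf xf10 yf22 zf48) (kf xf10 yf22 zf51) (kf xf2 yf35 zf3) (kf xf6 yf40 zf44) (kf xf10 yf22 zf36) (kf xf6 yf40 zf43) (kf xf10 yf23 zf1) (kf xf9 yf7 zf58) (kf xf9 yf7 zf56) (kf xf9 yf7 zf57) (kf xf9 yf7 zf48) (kf xf9 yf7 zf26) (kf xf5 yf18 zf54) (kf xf5 yf18 zf56) (kf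 xf5 yf18 zf55) (kf xf5 yf18 zf58) (kf xf5 yf18 zf59) (kf xf4 yf55 zf17) (kf xf4 yf2 zf52) (kf xf4 yf2 zf51) (kf xf5 yf29 zf18) (kf xf4 yf9 zf54) (kf xf2 yf35 zf28) (kf xf6 yf5 zf59)) (@D3.rec (fun _ => Pt) (kf xf2 yf35 zf13) (kf xf2 yf35 zf36) (kf xf2 yf35 zf32) (kf xf10 yf17 zf1) (kf xf2 yf35 zf42) (kf xf10 yf23 zf48) (kf xf2 yf35 zf44) (kf xf10 yf23 zf56) (kf xf10 yf23 zf60) (kf xf2 yf35 zf18) (kf xf5 yf15 zf10) (kf xf4 yf9 zf18) (kf xf4 yf9 zf41) (kf xf8 yf13 zf28) (kf xf6 yf5 zf44) (kf xf8 yf13 zf29) (kf xf10 yf24 zf8) (kf xf4 yf50 zf31) (kf xf7 yf57 zf53) (kf xf9 yf52 zf17) (kf xf10 yf24 zf14) (kf xf5 yf8 zf29) (kf xf10 yf24 zf17) (kf xf4 yf50 zf34) (kf xf10 yf24 zf21) (kf xf10 yf24 zf26) (kf xf10 yf23 zf58) (kf xf2 yf35 zf29) (kf xf5 yf35 zf11) (kf xf9 yf52 zf20)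 (kf xf10 yf24 zf36) (kf xf10 yf9 zf54) (kf xf10 yf20 zf29) (kf xf10 yf23 zf42) (kf xf10 yf23 zf43) (kf xf10 yf24 zf52) (kf xf8 yf17 zf45) (kf xf2 yf35 zf33) (kf xf5 yf18 zf60) (kf xf5 yf18 zf61) (kf xf10 yf24 zf59) (kf xf5 yf22 zf43) (kf xf10 yf23 zf40) (kf xf10 yf23 zf41) (kf xf10 yf25 zf7) (kf xf10 yf17 zf2) (kf xf10 yf25 zf11) (kf xf2 yf35 zf37) (kf xf5 yf25 zf52) (kf xf4 yf7 zf35) (kf xf8 yf30 zf44) (kf xf8 yf30 zf45) (kf xf9 yf20 zf50) (kf xf10 yf23 zf47) (kf xf5 yf16 zf23) (kf xf2 yf35 zf40) (kf xf10 yf25 zf30) (kf xf10 yf23 zf45) (kf xf10 yf23 zf46) (kf xf10 yf25 zf40) (kf xf5 yf16 zf33) (kf xf8 yf30 zf41)) (@D3.rec (fun _ => Pt) (kf xf2 yf35 zf43) (kf xf10 yf23 zf49) (kf xf10 yf23 zf50) (kf xf9 yf24 zf46) (kf xf9 yf53 zf18) (kf xf9 yf53 zf19) (kf xf3 yf45 zf57)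 (kf xf10 yf25 zf57) (kf xf10 yf13 zf33) (kf xf10 yf25 zf53) (kf xf10 yf26 zf4) (kf xf2 yf35 zf46) (kf xf10 yf23 zf57) (kf xf9 yf52 zf22) (kf xf10 yf23 zf38) (kf xf10 yf26 zf14) (kf xf2 yf35 zf47) (kf xf5 yf16 zf14) (kf xf5 yf16 zf15) (kf xf5 yf16 zf16) (kf xf4 yf54 zf3) (kf xf5 yf16 zf27) (kf xf10 yf26 zf31) (kf xf5 yf19 zf25) (kf xf5 yf19 zf24) (kf xf2 yf35 zf51) (kf xf5 yf15 zf50) (kf xf2 yf43 zf26) (kf xf5 yf16 zf32) (kf xf5 yf16 zf17) (kf xf4 yf53 zf60) (kf xf5 yf16 zf18) (kf xf10 yf26 zf48) (kf xf8 yf52 zf36) (kf xf8 yf52 zf35) (kf xf2 yf35 zf56) (kf xf5 yf16 zf25) (kf xf5 yf15 zf57) (kf xf2 yf36 zf0) (kf xf2 yf35 zf61) (kf xf9 yf54 zf23) (kf xf10 yf27 zf2) (kf xf10 yf27 zf6) (kf xf10 yf27 zf9) (kf xf2 yf35 zf60) (kf xf10 yf26 zf53) (kf xf10 yf26 zf54) (kf xf10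 yf26 zf55) (kf xf10 yf27 zf23) (kf xf5 yf55 zf26) (kf xf5 yf55 zf24) (kf xf5 yf55 zf25) (kf xf5 yf55 zf7) (kf xf10 yf27 zf38) (kf xf5 yf16 zf50) (kf xf5 yf16 zf52) (kf xf5 yf16 zf51) (kf xf2 yf36 zf3) (kf xf5 yf16 zf53) (kf xf5 yf16 zf54) (kf xf5 yf17 zf38) (kf xf5 yf17 zf39)) (@D3.rec (fun _ => Pt) (kf xf10 yf27 zf55) (kf xf5 yf19 zf8) (kf xf10 yf27 zf58) (kf xf4 yf15 zf20) (kf xf10 yf27 zf61) (kf xf10 yf28 zf1) (kf xf5 yf19 zf39) (kf xf8 yf52 zf4) (kf xf5 yf19 zf1) (kf xf10 yf28 zf6) (kf xf3 yf56 zf57) (kf xf10 yf28 zf8) (kf xf9 yf57 zf22) (kf xf5 yf20 zf11) (kf xf5 yf21 zf25) (kf xf5 yf19 zf48) (kf xf5 yf19 zf49) (kf xf10 yf28 zf23) (kf xf5 yf12 zf7) (kf xf5 yf12 zf6) (kf xf2 yf36 zf20) (kf xf5 yf19 zf56) (kf xf5 yf19 zf57) (kf xf10 yf28 zf36) (kf xf5 yf18 zf24)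 (kf xf5 yf18 zf23) (kf xf10 yf28 zf43) (kf xf2 yf36 zf23) (kf xf5 yf20 zf3) (kf xf5 yf20 zf4) (kf xf10 yf28 zf51) (kf xf5 yf20 zf0) (kf xf5 yf20 zf1) (kf xf10 yf28 zf59) (kf xf5 yf19 zf37) (kf xf5 yf19 zf38) (kf xf2 yf36 zf44) (kf xf5 yf19 zf34) (kf xf5 yf19 zf35) (kf xf5 yf19 zf6) (kf xf10 yf29 zf9) (kf xf8 yf52 zf28) (kf xf5 yf20 zf14) (kf xf10 yf29 zf16) (kf xf10 yf29 zf19) (kf xf9 yf53 zf23) (kf xf9 yf52 zf50) (kf xf4 yf2 zf32) (kf xf5 yf19 zf15) (kf xf5 yf19 zf16) (kf xf10 yf29 zf33) (kf xf5 yf5 zf21) (kf xf10 yf29 zf38) (kf xf2 yf36 zf35) (kf xf10 yf29 zf41) (kf xf2 yf36 zf37) (kf xf5 yf19 zf21) (kf xf5 yf19 zf22) (kf xf10 yf29 zf51) (kf xf5 yf16 zf30) (kf xf5 yf16 zf29) (kf xf2 yf36 zf40)) (@D3.rec (fun _ => Pt) (kf xf5 yf19 zf31) (kf xf5 yf19 zf32) (kf xf10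 yf30 zf0) (kf xf5 yf19 zf28) (kf xf5 yf19 zf29) (kf xf10 yf30 zf7) (kf xf10 yf30 zf13) (kf xf10 yf30 zf8) (kf xf5 yf20 zf9) (kf xf5 yf20 zf8) (kf xf2 yf36 zf43) (kf xf5 yf19 zf13) (kf xf10 yf30 zf25) (kf xf8 yf44 zf47) (kf xf5 yf19 zf42) (kf xf2 yf37 zf23) (kf xf10 yf28 zf41) (kf xf2 yf37 zf30) (kf xf10 yf30 zf36) (kf xf2 yf37 zf33) (kf xf2 yf37 zf32) (kf xf10 yf30 zf47) (kf xf10 yf30 zf51) (kf xf2 yf36 zf49) (kf xf2 yf37 zf10) (kf xf2 yf38 zf14) (kf xf10 yf30 zf55) (kf xf2 yf37 zf56) (kf xf2 yf37 zf61) (kf xf2 yf37 zf60) (kf xf2 yf38 zf24) (kf xf2 yf38 zf25) (kf xf10 yf31 zf8) (kf xf2 yf38 zf3) (kf xf2 yf36 zf55) (kf xf2 yf37 zf51) (kf xf10 yf31 zf13) (kf xf2 yf38 zf0) (kf xf2 yf38 zf1) (kf xf10 yf31 zf23) (kf xf2 yf38 zf28) (kf xf2 yf36 zf59) (kf xf10 yf31 zf28) (kf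 xf2 yf38 zf37) (kf xf2 yf38 zf51) (kf xf2 yf38 zf52) (kf xf10 yf31 zf39) (kf xf2 yf38 zf44) (kf xf2 yf37 zf1) (kf xf10 yf31 zf43) (kf xf2 yf38 zf38) (kf xf2 yf38 zf39) (kf xf10 yf31 zf52) (kf xf2 yf38 zf56) (kf xf2 yf37 zf4) (kf xf2 yf39 zf1) (kf xf2 yf39 zf3) (kf xf9 yf3 zf11) (kf xf2 yf38 zf59) (kf xf2 yf38 zf60) (kf xf2 yf38 zf61) (kf xf7 yf53 zf32)) (@D3.rec (fun _ => Pt) (kf xf10 yf32 zf10) (kf xf10 yf32 zf5) (kf xf10 yf32 zf4) (kf xf9 yf43 zf15) (kf xf2 yf37 zf7) (kf xf2 yf39 zf11) (kf xf2 yf39 zf10) (kf xf10 yf32 zf22) (kf xf10 yf30 zf52) (kf xf2 yf39 zf17) (kf xf2 yf39 zf16) (kf xf4 yf51 zf40) (kf xf5 yf21 zf15) (kf xf8 yf20 zf12) (kf xf7 yf58 zf38) (kf xf5 yf21 zf12) (kf xf8 yf33 zf35) (kf xf8 yf33 zf36) (kf xf8 yf20 zf21) (kf xf8 yf51 zf61) (kf xf10 yf32 zf60)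 (kf xf7 yf57 zf32) (kf xf10 yf33 zf2) (kf xf10 yf11 zf38) (kf xf10 yf10 zf6) (kf xf5 yf19 zf14) (kf xf8 yf15 zf39) (kf xf10 yf33 zf12) (kf xf10 yf9 zf44) (kf xf10 yf31 zf25) (kf xf5 yf13 zf15) (kf xf10 yf9 zf46) (kf xf10 yf9 zf45) (kf xf10 yf30 zf30) (kf xf10 yf10 zf7) (kf xf7 yf46 zf18) (kf xf8 yf54 zf48) (kf xf6 yf5 zf41) (kf xf2 yf37 zf24) (kf xf7 yf36 zf60) (kf xf10 yf9 zf47) (kf xf7 yf46 zf21) (kf xf2 yf37 zf59) (kf xf2 yf37 zf26) (kf xf4 yf5 zf24) (kf xf10 yf33 zf44) (kf xf4 yf50 zf36) (kf xf8 yf53 zf54) (kf xf8 yf53 zf55) (kf xf8 yf53 zf56) (kf xf10 yf33 zf59) (kf xf10 yf30 zf35) (kf xf6 yf6 zf13) (kf xf2 yf37 zf29) (kf xf10 yf30 zf32) (kf xf10 yf30 zf33) (kf xf10 yf34 zf11) (kf xf6 yf6 zf29) (kf xf8 yf53 zf51) (kf xf2 yf37 zf31) (kf xf10 yf30 zf40) (kf xf10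 yf30 zf41)) (@D3.rec (fun _ => Pt) (kf xf10 yf34 zf23) (kf xf10 yf30 zf37) (kf xf10 yf30 zf38) (kf xf10 yf34 zf31) (kf xf10 yf34 zf38) (kf xf10 yf34 zf33) (kf xf10 yf34 zf32) (kf xf10 yf34 zf46) (kf xf2 yf37 zf34) (kf xf10 yf30 zf49) (kf xf10 yf30 zf48) (kf xf8 yf52 zf3) (kf xf10 yf34 zf56) (kf xf2 yf37 zf35) (kf xf2 yf39 zf15) (kf xf8 yf15 zf46) (kf xf10 yf35 zf0) (kf xf10 yf15 zf38) (kf xf4 yf54 zf54) (kf xf5 yf23 zf33) (kf xf4 yf55 zf46) (kf xf10 yf35 zf11) (kf xf5 yf22 zf39) (kf xf5 yf22 zf38) (kf xf10 yf35 zf15) (kf xf2 yf37 zf42) (kf xf4 yf0 zf60) (kf xf8 yf39 zf48) (kf xf5 yf23 zf24) (kf xf10 yf35 zf21) (kf xf2 yf43 zf55) (kf xf2 yf37 zf48) (kf xf4 yf54 zf57) (kf xf10 yf35 zf26) (kf xf4 yf54 zf56) (kf xf10 yf35 zf30) (kf xf10 yf31 zf11) (kf xf10 yf35 zf36) (kf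 xf5 yf22 zf23) (kf xf5 yf22 zf22) (kf xf10 yf35 zf43) (kf xf2 yf37 zf52) (kf xf4 yf54 zf16) (kf xf5 yf17 zf41) (kf xf4 yf6 zf38) (kf xf10 yf30 zf56) (kf xf5 yf24 zf59) (kf xf10 yf35 zf54) (kf xf8 yf21 zf37) (kf xf8 yf21 zf36) (kf xf2 yf37 zf57) (kf xf8 yf21 zf40) (kf xf5 yf24 zf60) (kf xf10 yf33 zf39) (kf xf10 yf30 zf59) (kf xf5 yf24 zf15) (kf xf10 yf36 zf12) (kf xf10 yf30 zf57) (kf xf4 yf54 zf49) (kf xf5 yf24 zf16) (kf xf10 yf33 zf37) (kf xf10 yf31 zf14)) (@D3.rec (fun _ => Pt) (kf xf10 yf31 zf15) (kf xf10 yf31 zf16) (kf xf10 yf31 zf17) (kf xf10 yf36 zf37) (kf xf8 yf25 zf47) (kf xf10 yf31 zf3) (kf xf10 yf36 zf45) (kf xf10 yf31 zf6) (kf xf10 yf31 zf5) (kf xf10 yf36 zf55) (kf xf2 yf38 zf2) (kf xf10 yf31 zf9) (kf xf4 yf27 zf55) (kf xf8 yf56 zf21) (kf xf10 yf33 zf34) (kf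 xf6 yf5 zf7) (kf xf6 yf5 zf6) (kf xf10 yf37 zf8) (kf xf2 yf38 zf5) (kf xf5 yf6 zf16) (kf xf6 yf4 zf59) (kf xf5 yf23 zf22) (kf xf5 yf23 zf21) (kf xf4 yf20 zf52) (kf xf5 yf22 zf28) (kf xf8 yf41 zf23) (kf xf10 yf15 zf61) (kf xf10 yf30 zf53) (kf xf9 yf51 zf39) (kf xf10 yf37 zf31) (kf xf5 yf4 zf57) (kf xf10 yf37 zf34) (kf xf2 yf38 zf15) (kf xf5 yf22 zf19) (kf xf10 yf37 zf40) (kf xf5 yf30 zf12) (kf xf8 yf36 zf53) (kf xf10 yf37 zf47) (kf xf2 yf38 zf20) (kf xf4 yf54 zf1) (kf xf10 yf30 zf61) (kf xf10 yf31 zf0) (kf xf10 yf31 zf1) (kf xf10 yf31 zf2) (kf xf10 yf38 zf2) (kf xf10 yf38 zf6) (kf xf10 yf31 zf21) (kf xf10 yf31 zf20) (kf xf10 yf38 zf16) (kf xf2 yf38 zf26) (kf xf8 yf22 zf20) (kf xf5 yf13 zf13) (kf xf10 yf31 zf24) (kf xf8 yf32 zf55) (kf xf8 yf32 zf54) (kf xf10 yf38 zf29)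 (kf xf2 yf38 zf29) (kf xf8 yf32 zf50) (kf xf4 yf22 zf40) (kf xf8 yf32 zf58) (kf xf8 yf32 zf59) (kf xf10 yf38 zf42)) (@D3.rec (fun _ => Pt) (kf xf4 yf55 zf37) (kf xf4 yf55 zf38) (kf xf10 yf38 zf52) (kf xf8 yf57 zf14) (kf xf8 yf8 zf24) (kf xf10 yf16 zf45) (kf xf2 yf38 zf35) (kf xf8 yf25 zf46) (kf xf10 yf33 zf46) (kf xf10 yf31 zf29) (kf xf10 yf31 zf44) (kf xf10 yf31 zf45) (kf xf10 yf31 zf46) (kf xf10 yf31 zf47) (kf xf10 yf39 zf18) (kf xf5 yf22 zf55) (kf xf5 yf22 zf59) (kf xf10 yf39 zf26) (kf xf10 yf31 zf37) (kf xf4 yf33 zf18) (kf xf10 yf39 zf32) (kf xf2 yf38 zf40) (kf xf4 yf3 zf2) (kf xf10 yf31 zf40) (kf xf10 yf29 zf14) (kf xf8 yf57 zf38) (kf xf8 yf57 zf39) (kf xf10 yf34 zf13) (kf xf4 yf23 zf25) (kf xf10 yf39 zf39) (kf xf9 yf51 zf29) (kf xf9 yf51 zf30) (kf xf10 yf39 zf48)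 (kf xf8 yf8 zf53) (kf xf8 yf8 zf49) (kf xf2 yf38 zf50) (kf xf10 yf31 zf31) (kf xf10 yf31 zf32) (kf xf10 yf31 zf33) (kf xf10 yf31 zf34) (kf xf10 yf39 zf61) (kf xf10 yf31 zf51) (kf xf10 yf31 zf50) (kf xf2 yf38 zf53) (kf xf8 yf58 zf12) (kf xf10 yf34 zf1) (kf xf10 yf31 zf53) (kf xf6 yf4 zf43) (kf xf6 yf4 zf42) (kf xf10 yf40 zf18) (kf xf2 yf38 zf57) (kf xf10 yf31 zf61) (kf xf10 yf32 zf0) (kf xf7 yf53 zf41) (kf xf8 yf6 zf17) (kf xf10 yf32 zf1) (kf xf7 yf53 zf37) (kf xf5 yf0 zf36) (kf xf10 yf40 zf40) (kf xf5 yf22 zf46) (kf xf5 yf22 zf52) (kf xf10 yf40 zf45)) (@D3.rec (fun _ => Pt) (kf xf2 yf39 zf0) (kf xf10 yf31 zf55) (kf xf10 yf31 zf56) (kf xf10 yf31 zf57) (kf xf7 yf58 zf12) (kf xf10 yf31 zf58) (kf xf10 yf41 zf1) (kf xf10 yf41 zf4) (kf xf10 yf41 zf8) (kf xf7 yf53 zf31) (kf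 xf2 yf39 zf4) (kf xf2 yf39 zf7) (kf xf2 yf39 zf6) (kf xf10 yf41 zf18) (kf xf10 yf41 zf23) (kf xf10 yf41 zf27) (kf xf10 yf41 zf30) (kf xf2 yf39 zf5) (kf xf10 yf41 zf11) (kf xf4 yf56 zf12) (kf xf10 yf41 zf12) (kf xf10 yf41 zf42) (kf xf10 yf41 zf9) (kf xf10 yf41 zf44) (kf xf10 yf41 zf43) (kf xf10 yf41 zf57) (kf xf10 yf41 zf60) (kf xf2 yf39 zf8) (kf xf10 yf34 zf47) (kf xf10 yf32 zf19) (kf xf10 yf42 zf8) (kf xf10 yf32 zf17) (kf xf10 yf42 zf14) (kf xf9 yf40 zf57) (kf xf10 yf22 zf61) (kf xf10 yf21 zf46) (kf xf10 yf32 zf21) (kf xf2 yf39 zf13) (kf xf10 yf42 zf26) (kf xf10 yf32 zf24) (kf xf10 yf32 zf23) (kf xf10 yf34 zf58) (kf xf10 yf32 zf28) (kf xf10 yf32 zf29) (kf xf10 yf32 zf30) (kf xf10 yf26 zf34) (kf xf8 yf39 zf44) (kf xf10 yf32 zf26) (kf xf10 yf32 zf27) (kf xf10 yf40 zf9)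 (kf xf6 yf5 zf45) (kf xf8 yf56 zf42) (kf xf5 yf17 zf48) (kf xf6 yf5 zf46) (kf xf6 yf5 zf47) (kf xf6 yf5 zf48) (kf xf6 yf5 zf49) (kf xf10 yf43 zf8) (kf xf8 yf28 zf44) (kf xf8 yf28 zf43) (kf xf2 yf39 zf21) (kf xf5 yf13 zf26)) (@D3.rec (fun _ => Pt) (kf xf6 yf5 zf53) (kf xf6 yf5 zf54) (kf xf6 yf5 zf55) (kf xf5 yf54 zf36) (kf xf5 yf52 zf52) (kf xf2 yf40 zf53) (kf xf5 yf28 zf12) (kf xf6 yf5 zf28) (kf xf6 yf5 zf29) (kf xf6 yf5 zf30) (kf xf6 yf5 zf31) (kf xf10 yf43 zf42) (kf xf2 yf41 zf13) (kf xf2 yf39 zf32) (kf xf6 yf5 zf37) (kf xf6 yf5 zf38) (kf xf6 yf5 zf39) (kf xf6 yf5 zf40) (kf xf6 yf47 zf38) (kf xf2 yf40 zf46) (kf xf5 yf0 zf10) (kf xf2 yf39 zf35) (kf xf2 yf40 zf40) (kf xf6 yf6 zf16) (kf xf6 yf6 zf18) (kf xf6 yf6 zf19) (kf xf10 yf44 zf6) (kf xf8 yf28 zf50) (kf xf8 yf28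 zf49) (kf xf2 yf39 zf39) (kf xf6 yf6 zf24) (kf xf6 yf6 zf25) (kf xf6 yf6 zf26) (kf xf6 yf6 zf27) (kf xf9 yf6 zf61) (kf xf6 yf6 zf11) (kf xf6 yf6 zf10) (kf xf9 yf0 zf12) (kf xf6 yf5 zf0) (kf xf5 yf53 zf23) (kf xf4 yf18 zf34) (kf xf5 yf53 zf24) (kf xf2 yf42 zf37) (kf xf6 yf5 zf60) (kf xf6 yf5 zf61) (kf xf10 yf44 zf42) (kf xf8 yf16 zf3) (kf xf8 yf16 zf2) (kf xf2 yf39 zf47) (kf xf6 yf6 zf4) (kf xf6 yf6 zf5) (kf xf6 yf6 zf6) (kf xf6 yf6 zf7) (kf xf2 yf42 zf15) (kf xf6 yf6 zf38) (kf xf5 yf55 zf45) (kf xf6 yf6 zf39) (kf xf5 yf53 zf21) (kf xf4 yf42 zf59) (kf xf5 yf40 zf61) (kf xf6 yf6 zf30) (kf xf6 yf6 zf31)) (@D3.rec (fun _ => Pt) (kf xf6 yf6 zf32) (kf xf6 yf6 zf33) (kf xf6 yf6 zf34) (kf xf2 yf39 zf60) (kf xf2 yf39 zf59) (kf xf10 yf45 zf18) (kf xf10 yf45 zf24) (kf xf6 yf44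 zf14) (kf xf10 yf45 zf29) (kf xf2 yf39 zf58) (kf xf6 yf45 zf40) (kf xf10 yf45 zf11) (kf xf6 yf44 zf51) (kf xf4 yf36 zf24) (kf xf6 yf8 zf21) (kf xf6 yf8 zf19) (kf xf6 yf8 zf20) (kf xf6 yf8 zf3) (kf xf10 yf45 zf45) (kf xf2 yf43 zf13) (kf xf6 yf6 zf51) (kf xf6 yf6 zf54) (kf xf6 yf6 zf53) (kf xf2 yf40 zf2) (kf xf2 yf43 zf22) (kf xf8 yf25 zf6) (kf xf5 yf14 zf55) (kf xf5 yf14 zf56) (kf xf8 yf29 zf5) (kf xf8 yf29 zf6) (kf xf8 yf30 zf54) (kf xf8 yf27 zf10) (kf xf3 yf48 zf36) (kf xf2 yf40 zf22) (kf xf2 yf40 zf21) (kf xf2 yf40 zf8) (kf xf4 yf14 zf6) (kf xf8 yf56 zf26) (kf xf8 yf56 zf27) (kf xf10 yf46 zf26) (kf xf8 yf18 zf27) (kf xf8 yf18 zf26) (kf xf2 yf40 zf12) (kf xf7 yf57 zf56) (kf xf10 yf46 zf35) (kf xf8 yf18 zf30) (kf xf8 yf18 zf31) (kf xf10 yf46 zf44) (kf xf4 yf15 zf8)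 (kf xf2 yf40 zf15) (kf xf8 yf56 zf29) (kf xf5 yf31 zf11) (kf xf10 yf46 zf53) (kf xf8 yf56 zf31) (kf xf5 yf31 zf12) (kf xf10 yf46 zf61) (kf xf8 yf56 zf33) (kf xf8 yf56 zf34) (kf xf8 yf56 zf35) (kf xf8 yf56 zf36) (kf xf5 yf53 zf5) (kf xf10 yf47 zf18)) (@D3.rec (fun _ => Pt) (kf xf10 yf46 zf11) (kf xf10 yf46 zf10) (kf xf3 yf48 zf32) (kf xf2 yf40 zf20) (kf xf9 yf37 zf38) (kf xf10 yf46 zf13) (kf xf4 yf28 zf52) (kf xf8 yf53 zf18) (kf xf10 yf46 zf12) (kf xf4 yf28 zf53) (kf xf10 yf43 zf12) (kf xf4 yf13 zf59) (kf xf5 yf26 zf6) (kf xf5 yf30 zf11) (kf xf4 yf18 zf55) (kf xf4 yf3 zf43) (kf xf4 yf18 zf56) (kf xf4 yf9 zf35) (kf xf5 yf15 zf43) (kf xf8 yf39 zf51) (kf xf8 yf53 zf27) (kf xf8 yf53 zf28) (kf xf10 yf47 zf53) (kf xf8 yf53 zf25) (kf xf8 yf53 zf24) (kf xf2 yf40 zf31) (kf xf8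 yf56 zf6) (kf xf8 yf56 zf7) (kf xf8 yf56 zf8) (kf xf5 yf33 zf14) (kf xf10 yf48 zf7) (kf xf10 yf48 zf11) (kf xf8 yf21 zf48) (kf xf8 yf21 zf47) (kf xf10 yf48 zf16) (kf xf2 yf40 zf34) (kf xf8 yf21 zf46) (kf xf5 yf36 zf23) (kf xf5 yf36 zf22) (kf xf8 yf21 zf52) (kf xf8 yf21 zf53) (kf xf8 yf21 zf54) (kf xf5 yf33 zf16) (kf xf10 yf43 zf55) (kf xf6 yf16 zf46) (kf xf4 yf6 zf53) (kf xf10 yf43 zf56) (kf xf5 yf36 zf37) (kf xf5 yf36 zf38) (kf xf5 yf36 zf39) (kf xf5 yf36 zf31) (kf xf5 yf31 zf48) (kf xf10 yf48 zf55) (kf xf10 yf48 zf58) (kf xf10 yf48 zf59) (kf xf2 yf40 zf43) (kf xf5 yf36 zf18) (kf xf5 yf36 zf19) (kf xf5 yf36 zf20) (kf xf5 yf36 zf12) (kf xf5 yf31 zf50) (kf xf10 yf43 zf53)) (@D3.rec (fun _ => Pt) (kf xf9 yf5 zf43) (kf xf10 yf43 zf54) (kf xf8 yf56 zf43) (kf xf8 yf56 zf44)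 (kf xf5 yf31 zf40) (kf xf10 yf49 zf25) (kf xf8 yf56 zf46) (kf xf8 yf56 zf47) (kf xf5 yf31 zf41) (kf xf10 yf49 zf38) (kf xf8 yf56 zf49) (kf xf5 yf53 zf4) (kf xf8 yf56 zf51) (kf xf8 yf56 zf52) (kf xf8 yf56 zf53) (kf xf5 yf52 zf56) (kf xf3 yf59 zf37) (kf xf8 yf53 zf49) (kf xf5 yf16 zf58) (kf xf8 yf16 zf21) (kf xf8 yf6 zf31) (kf xf8 yf6 zf1) (kf xf10 yf50 zf6) (kf xf2 yf41 zf8) (kf xf2 yf40 zf58) (kf xf8 yf6 zf4) (kf xf8 yf6 zf5) (kf xf10 yf50 zf15) (kf xf2 yf41 zf22) (kf xf2 yf40 zf60) (kf xf4 yf50 zf30) (kf xf4 yf9 zf19) (kf xf8 yf56 zf22) (kf xf4 yf8 zf42) (kf xf10 yf50 zf23) (kf xf4 yf51 zf20) (kf xf4 yf8 zf43) (kf xf10 yf50 zf29) (kf xf8 yf42 zf34) (kf xf10 yf50 zf35) (kf xf8 yf24 zf17) (kf xf10 yf50 zf5) (kf xf10 yf50 zf42) (kf xf2 yf41 zf6) (kf xf4 yf7 zf31) (kf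 xf8 yf55 zf42) (kf xf8 yf55 zf43) (kf xf10 yf43 zf43) (kf xf8 yf55 zf47) (kf xf8 yf55 zf48) (kf xf10 yf50 zf57) (kf xf8 yf55 zf45) (kf xf2 yf41 zf15) (kf xf8 yf55 zf50) (kf xf4 yf8 zf32) (kf xf5 yf32 zf22) (kf xf10 yf43 zf40) (kf xf8 yf55 zf52) (kf xf5 yf32 zf23) (kf xf10 yf51 zf10) (kf xf8 yf55 zf54) (kf xf8 yf55 zf55)) (@D3.rec (fun _ => Pt) (kf xf8 yf55 zf56) (kf xf8 yf55 zf57) (kf xf10 yf51 zf27) (kf xf8 yf55 zf58) (kf xf8 yf55 zf59) (kf xf10 yf51 zf35) (kf xf10 yf43 zf33) (kf xf10 yf50 zf13) (kf xf10 yf51 zf45) (kf xf2 yf41 zf20) (kf xf8 yf18 zf57) (kf xf5 yf28 zf13) (kf xf5 yf23 zf35) (kf xf10 yf50 zf16) (kf xf8 yf30 zf15) (kf xf8 yf30 zf14) (kf xf10 yf51 zf61) (kf xf2 yf41 zf23) (kf xf8 yf26 zf32) (kf xf8 yf30 zf17) (kf xf8 yf30 zf18) (kf xf8 yf56 zf11) (kf xf8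 yf56 zf12) (kf xf5 yf32 zf41) (kf xf10 yf43 zf52) (kf xf8 yf56 zf14) (kf xf8 yf56 zf15) (kf xf5 yf32 zf42) (kf xf10 yf52 zf31) (kf xf8 yf56 zf17) (kf xf10 yf52 zf36) (kf xf8 yf56 zf18) (kf xf8 yf56 zf19) (kf xf8 yf56 zf20) (kf xf6 yf17 zf11) (kf xf10 yf43 zf47) (kf xf10 yf52 zf34) (kf xf10 yf52 zf57) (kf xf2 yf41 zf31) (kf xf4 yf56 zf21) (kf xf4 yf50 zf2) (kf xf5 yf39 zf47) (kf xf5 yf3 zf16) (kf xf5 yf39 zf43) (kf xf5 yf39 zf44) (kf xf6 yf20 zf49) (kf xf2 yf41 zf35) (kf xf8 yf22 zf29) (kf xf8 yf22 zf30) (kf xf5 yf13 zf25) (kf xf8 yf54 zf5) (kf xf8 yf56 zf58) (kf xf8 yf56 zf59) (kf xf8 yf24 zf55) (kf xf8 yf33 zf27) (kf xf8 yf24 zf54) (kf xf5 yf39 zf52) (kf xf5 yf39 zf49) (kf xf6 yf20 zf39) (kf xf8 yf23 zf21) (kf xf8 yf27 zf2) (kf xf8 yf27 zf3)) (@D3.rec (fun _ => Pt)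 (kf xf10 yf53 zf34) (kf xf2 yf41 zf55) (kf xf2 yf41 zf54) (kf xf2 yf41 zf48) (kf xf8 yf26 zf24) (kf xf10 yf43 zf58) (kf xf8 yf57 zf48) (kf xf8 yf57 zf49) (kf xf8 yf57 zf50) (kf xf8 yf57 zf51) (kf xf10 yf53 zf57) (kf xf5 yf27 zf51) (kf xf5 yf27 zf54) (kf xf10 yf54 zf3) (kf xf10 yf53 zf32) (kf xf10 yf53 zf31) (kf xf10 yf54 zf11) (kf xf2 yf41 zf52) (kf xf10 yf31 zf27) (kf xf10 yf53 zf37) (kf xf10 yf22 zf5) (kf xf6 yf6 zf21) (kf xf8 yf54 zf10) (kf xf10 yf53 zf35) (kf xf10 yf53 zf36) (kf xf10 yf54 zf27) (kf xf10 yf17 zf3) (kf xf3 yf58 zf44) (kf xf3 yf58 zf45) (kf xf3 yf58 zf46) (kf xf3 yf58 zf32) (kf xf8 yf14 zf40) (kf xf8 yf14 zf44) (kf xf8 yf57 zf61) (kf xf8 yf58 zf0) (kf xf10 yf44 zf13) (kf xf8 yf58 zf1) (kf xf8 yf58 zf2) (kf xf8 yf58 zf4) (kf xf10 yf55 zf2) (kf xf5 yf29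 zf4) (kf xf5 yf29 zf8) (kf xf8 yf58 zf6) (kf xf10 yf55 zf15) (kf xf10 yf55 zf0) (kf xf10 yf54 zf61) (kf xf5 yf40 zf42) (kf xf2 yf42 zf2) (kf xf5 yf28 zf51) (kf xf5 yf49 zf25) (kf xf5 yf28 zf60) (kf xf10 yf55 zf27) (kf xf5 yf41 zf10) (kf xf5 yf41 zf8) (kf xf2 yf42 zf5) (kf xf8 yf57 zf32) (kf xf6 yf4 zf13) (kf xf6 yf7 zf29) (kf xf8 yf57 zf35) (kf xf8 yf57 zf34) (kf xf2 yf42 zf8) (kf xf8 yf54 zf31)) (@D3.rec (fun _ => Pt) (kf xf8 yf54 zf32) (kf xf8 yf57 zf41) (kf xf8 yf57 zf43) (kf xf5 yf45 zf15) (kf xf5 yf53 zf14) (kf xf8 yf57 zf40) (kf xf9 yf57 zf17) (kf xf9 yf57 zf18) (kf xf8 yf6 zf8) (kf xf8 yf6 zf9) (kf xf10 yf56 zf2) (kf xf2 yf42 zf25) (kf xf2 yf42 zf24) (kf xf2 yf42 zf18) (kf xf8 yf56 zf61) (kf xf8 yf57 zf1) (kf xf10 yf24 zf28) (kf xf8 yf57 zf2) (kf xf8 yf57 zf3)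 (kf xf8 yf57 zf4) (kf xf8 yf57 zf5) (kf xf10 yf56 zf25) (kf xf5 yf29 zf55) (kf xf5 yf29 zf58) (kf xf10 yf56 zf32) (kf xf10 yf56 zf0) (kf xf10 yf55 zf61) (kf xf10 yf56 zf44) (kf xf2 yf42 zf23) (kf xf10 yf56 zf4) (kf xf10 yf51 zf53) (kf xf10 yf31 zf42) (kf xf10 yf56 zf3) (kf xf6 yf6 zf2) (kf xf8 yf57 zf19) (kf xf8 yf57 zf20) (kf xf8 yf57 zf22) (kf xf8 yf57 zf23) (kf xf10 yf44 zf48) (kf xf8 yf57 zf24) (kf xf9 yf48 zf35) (kf xf5 yf30 zf23) (kf xf5 yf30 zf27) (kf xf8 yf57 zf26) (kf xf5 yf48 zf60) (kf xf10 yf57 zf5) (kf xf10 yf57 zf4) (kf xf2 yf42 zf31) (kf xf8 yf58 zf9) (kf xf10 yf44 zf24) (kf xf6 yf47 zf26) (kf xf8 yf58 zf13) (kf xf10 yf44 zf31) (kf xf8 yf54 zf45) (kf xf8 yf58 zf10) (kf xf8 yf58 zf35) (kf xf8 yf58 zf36) (kf xf8 yf58 zf37) (kf xf10 yf44 zf51) (kf xf8 yf58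 zf38) (kf xf8 yf58 zf39) (kf xf8 yf58 zf41)) (@D3.rec (fun _ => Pt) (kf xf8 yf58 zf42) (kf xf10 yf57 zf55) (kf xf8 yf58 zf44) (kf xf8 yf58 zf45) (kf xf8 yf58 zf46) (kf xf10 yf58 zf6) (kf xf5 yf36 zf47) (kf xf5 yf36 zf51) (kf xf8 yf58 zf48) (kf xf10 yf58 zf18) (kf xf10 yf57 zf53) (kf xf6 yf3 zf49) (kf xf10 yf58 zf27) (kf xf2 yf42 zf45) (kf xf5 yf28 zf29) (kf xf9 yf17 zf60) (kf xf5 yf28 zf42) (kf xf10 yf58 zf36) (kf xf8 yf58 zf29) (kf xf8 yf58 zf28) (kf xf2 yf42 zf48) (kf xf8 yf58 zf32) (kf xf8 yf58 zf31) (kf xf10 yf58 zf45) (kf xf2 yf42 zf49) (kf xf8 yf58 zf14) (kf xf8 yf58 zf15) (kf xf8 yf58 zf16) (kf xf8 yf58 zf18) (kf xf8 yf58 zf19) (kf xf8 yf58 zf20) (kf xf10 yf45 zf4) (kf xf8 yf8 zf56) (kf xf8 yf58 zf21) (kf xf5 yf59 zf6) (kf xf8 yf8 zf54) (kf xf8 yf8 zf55) (kf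 xf10 yf59 zf11) (kf xf5 yf39 zf25) (kf xf5 yf39 zf29) (kf xf8 yf58 zf23) (kf xf9 yf13 zf12) (kf xf10 yf59 zf4) (kf xf9 yf30 zf60) (kf xf2 yf42 zf56) (kf xf10 yf45 zf10) (kf xf2 yf43 zf4) (kf xf2 yf43 zf5) (kf xf2 yf43 zf6) (kf xf10 yf55 zf43) (kf xf10 yf58 zf54) (kf xf10 yf58 zf53) (kf xf7 yf58 zf33) (kf xf10 yf59 zf48) (kf xf10 yf59 zf52) (kf xf2 yf42 zf61) (kf xf10 yf59 zf32) (kf xf10 yf39 zf52) (kf xf11 yf0 zf0) (kf xf11 yf0 zf5) (kf xf11 yf0 zf9) (kf xf2 yf43 zf0)) (@D3.rec (fun _ => Pt) (kf xf10 yf58 zf30) (kf xf11 yf0 zf18) (kf xf11 yf0 zf20) (kf xf2 yf43 zf1) (kf xf10 yf55 zf44) (kf xf11 yf0 zf24) (kf xf2 yf43 zf2) (kf xf10 yf57 zf27) (kf xf10 yf53 zf45) (kf xf10 yf57 zf32) (kf xf10 yf59 zf29) (kf xf10 yf59 zf30) (kf xf11 yf0 zf37) (kf xf10 yf39 zf1) (kf xf10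 yf59 zf33) (kf xf11 yf0 zf44) (kf xf10 yf59 zf35) (kf xf11 yf0 zf50) (kf xf10 yf57 zf28) (kf xf4 yf36 zf19) (kf xf2 yf43 zf7) (kf xf9 yf4 zf1) (kf xf11 yf0 zf57) (kf xf9 yf4 zf47) (kf xf9 yf4 zf48) (kf xf6 yf16 zf30) (kf xf9 yf4 zf50) (kf xf9 yf3 zf61) (kf xf9 yf4 zf0) (kf xf9 yf4 zf2) (kf xf11 yf1 zf16) (kf xf11 yf0 zf56) (kf xf11 yf0 zf55) (kf xf2 yf43 zf12) (kf xf10 yf45 zf46) (kf xf10 yf45 zf47) (kf xf10 yf45 zf48) (kf xf8 yf59 zf24) (kf xf8 yf59 zf34) (kf xf8 yf59 zf33) (kf xf8 yf48 zf59) (kf xf5 yf49 zf51) (kf xf5 yf49 zf55) (kf xf5 yf49 zf56) (kf xf5 yf49 zf57) (kf xf8 yf59 zf38) (kf xf6 yf25 zf28) (kf xf11 yf1 zf55) (kf xf8 yf59 zf36) (kf xf6 yf25 zf27) (kf xf9 yf2 zf54) (kf xf8 yf59 zf42) (kf xf5 yf55 zf27) (kf xf10 yf12 zf16) (kf xf8 yf59 zf40) (kf xf5 yf55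 zf28) (kf xf9 yf38 zf58) (kf xf8 yf59 zf45) (kf xf8 yf59 zf44) (kf xf10 yf45 zf53) (kf xf8 yf59 zf53) (kf xf8 yf59 zf54)) (@D3.rec (fun _ => Pt) (kf xf10 yf26 zf38) (kf xf8 yf59 zf55) (kf xf10 yf26 zf39) (kf xf4 yf29 zf0) (kf xf8 yf59 zf56) (kf xf8 yf59 zf47) (kf xf8 yf59 zf48) (kf xf8 yf34 zf47) (kf xf8 yf59 zf50) (kf xf8 yf34 zf48) (kf xf8 yf59 zf52) (kf xf5 yf17 zf28) (kf xf4 yf20 zf56) (kf xf4 yf20 zf61) (kf xf5 yf0 zf39) (kf xf5 yf0 zf40) (kf xf8 yf38 zf0) (kf xf8 yf38 zf1) (kf xf8 yf10 zf1) (kf xf5 yf35 zf51) (kf xf11 yf2 zf52) (kf xf2 yf43 zf51) (kf xf2 yf43 zf50) (kf xf2 yf43 zf36) (kf xf11 yf2 zf58) (kf xf9 yf0 zf32) (kf xf9 yf0 zf33) (kf xf11 yf3 zf6) (kf xf9 yf0 zf39) (kf xf8 yf37 zf40) (kf xf2 yf43 zf41) (kf xf4 yf27 zf50) (kf xf11 yf3 zf14) (kf xf9 yf0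 zf36) (kf xf9 yf0 zf37) (kf xf11 yf3 zf23) (kf xf4 yf20 zf24) (kf xf2 yf43 zf44) (kf xf9 yf0 zf41) (kf xf9 yf0 zf42) (kf xf11 yf3 zf33) (kf xf9 yf0 zf44) (kf xf9 yf0 zf45) (kf xf10 yf15 zf59) (kf xf9 yf0 zf47) (kf xf9 yf0 zf48) (kf xf9 yf0 zf49) (kf xf9 yf0 zf50) (kf xf9 yf9 zf15) (kf xf8 yf39 zf32) (kf xf9 yf0 zf52) (kf xf5 yf35 zf19) (kf xf11 yf4 zf0) (kf xf11 yf2 zf50) (kf xf10 yf47 zf25) (kf xf11 yf4 zf9) (kf xf2 yf43 zf49) (kf xf8 yf17 zf15) (kf xf11 yf2 zf54) (kf xf8 yf37 zf46) (kf xf9 yf41 zf3) (kf xf11 yf2 zf53)) (@D3.rec (fun _ => Pt) (kf xf11 yf4 zf20) (kf xf9 yf33 zf26) (kf xf9 yf33 zf25) (kf xf11 yf4 zf29) (kf xf2 yf43 zf52) (kf xf5 yf15 zf17) (kf xf8 yf6 zf33) (kf xf5 yf39 zf14) (kf xf5 yf1 zf20) (kf xf4 yf19 zf43) (kf xf5 yf1 zf30) (kf xf8 yf6 zf61) (kf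 xf5 yf28 zf59) (kf xf8 yf57 zf44) (kf xf11 yf4 zf45) (kf xf9 yf41 zf17) (kf xf9 yf41 zf16) (kf xf2 yf44 zf1) (kf xf5 yf28 zf56) (kf xf5 yf28 zf57) (kf xf5 yf28 zf58) (kf xf9 yf46 zf46) (kf xf5 yf28 zf38) (kf xf5 yf28 zf37) (kf xf9 yf46 zf45) (kf xf2 yf44 zf3) (kf xf8 yf9 zf38) (kf xf4 yf56 zf29) (kf xf7 yf57 zf54) (kf xf11 yf5 zf4) (kf xf4 yf27 zf42) (kf xf5 yf28 zf50) (kf xf8 yf37 zf36) (kf xf11 yf5 zf16) (kf xf11 yf5 zf3) (kf xf4 yf6 zf31) (kf xf2 yf44 zf9) (kf xf5 yf28 zf47) (kf xf5 yf28 zf48) (kf xf5 yf28 zf49) (kf xf11 yf5 zf29) (kf xf2 yf59 zf4) (kf xf11 yf5 zf33) (kf xf2 yf44 zf11) (kf xf4 yf6 zf51) (kf xf9 yf0 zf61) (kf xf9 yf1 zf0) (kf xf5 yf33 zf6) (kf xf11 yf5 zf47) (kf xf9 yf1 zf2) (kf xf9 yf1 zf3) (kf xf5 yf33 zf7) (kf xf11 yf5 zf57) (kf xf9 yf0 zf5) (kf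 xf6 yf7 zf8) (kf xf7 yf57 zf38) (kf xf7 yf57 zf61) (kf xf9 yf0 zf2) (kf xf11 yf6 zf5) (kf xf4 yf56 zf32) (kf xf2 yf44 zf21) (kf xf5 yf38 zf39)) (@D3.rec (fun _ => Pt) (kf xf7 yf58 zf51) (kf xf8 yf11 zf36) (kf xf4 yf50 zf48) (kf xf4 yf5 zf11) (kf xf5 yf3 zf3) (kf xf8 yf42 zf47) (kf xf8 yf42 zf48) (kf xf3 yf10 zf16) (kf xf8 yf42 zf49) (kf xf8 yf36 zf61) (kf xf11 yf6 zf16) (kf xf8 yf45 zf38) (kf xf6 yf9 zf5) (kf xf3 yf10 zf19) (kf xf5 yf42 zf2) (kf xf11 yf6 zf24) (kf xf4 yf39 zf12) (kf xf2 yf44 zf34) (kf xf3 yf0 zf44) (kf xf6 yf7 zf53) (kf xf5 yf37 zf55) (kf xf5 yf42 zf8) (kf xf11 yf6 zf32) (kf xf5 yf42 zf5) (kf xf5 yf42 zf4) (kf xf2 yf44 zf39) (kf xf9 yf0 zf8) (kf xf2 yf49 zf26) (kf xf2 yf49 zf27) (kf xf4 yf7 zf14) (kf xf4 yf57 zf10) (kf xf5 yf40 zf36) (kf xf11 yf6 zf41)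 (kf xf5 yf40 zf44) (kf xf5 yf0 zf21) (kf xf2 yf44 zf44) (kf xf8 yf12 zf22) (kf xf6 yf17 zf5) (kf xf8 yf37 zf41) (kf xf8 yf37 zf42) (kf xf5 yf40 zf41) (kf xf5 yf46 zf52) (kf xf6 yf14 zf30) (kf xf8 yf37 zf0) (kf xf3 yf58 zf60) (kf xf3 yf59 zf3) (kf xf11 yf6 zf60) (kf xf5 yf40 zf39) (kf xf5 yf40 zf38) (kf xf2 yf44 zf50) (kf xf9 yf1 zf18) (kf xf9 yf1 zf19) (kf xf5 yf40 zf23) (kf xf2 yf49 zf61) (kf xf6 yf15 zf36) (kf xf5 yf37 zf20) (kf xf6 yf15 zf37) (kf xf2 yf50 zf1) (kf xf5 yf40 zf24) (kf xf11 yf7 zf15) (kf xf6 yf15 zf29) (kf xf9 yf1 zf20)) (@D3.rec (fun _ => Pt) (kf xf5 yf40 zf26) (kf xf9 yf1 zf21) (kf xf5 yf40 zf27) (kf xf11 yf7 zf23) (kf xf8 yf48 zf55) (kf xf8 yf49 zf26) (kf xf2 yf45 zf3) (kf xf2 yf45 zf2) (kf xf9 yf1 zf22) (kf xf9 yf1 zf23) (kf xf11 yf7 zf38) (kf xf9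 yf1 zf25) (kf xf9 yf1 zf26) (kf xf9 yf46 zf40) (kf xf8 yf49 zf9) (kf xf8 yf47 zf53) (kf xf8 yf49 zf10) (kf xf8 yf49 zf11) (kf xf11 yf7 zf27) (kf xf11 yf7 zf26) (kf xf2 yf45 zf1) (kf xf11 yf7 zf29) (kf xf11 yf7 zf30) (kf xf4 yf34 zf60) (kf xf11 yf7 zf28) (kf xf6 yf16 zf22) (kf xf4 yf34 zf61) (kf xf11 yf8 zf14) (kf xf2 yf45 zf4) (kf xf9 yf0 zf24) (kf xf9 yf0 zf25) (kf xf9 yf46 zf44) (kf xf9 yf0 zf22) (kf xf11 yf8 zf19) (kf xf9 yf0 zf9) (kf xf9 yf0 zf27) (kf xf6 yf17 zf1) (kf xf6 yf14 zf48) (kf xf2 yf50 zf43) (kf xf5 yf36 zf61) (kf xf8 yf57 zf33) (kf xf8 yf43 zf8) (kf xf4 yf25 zf34) (kf xf9 yf0 zf7) (kf xf5 yf59 zf14) (kf xf2 yf51 zf2) (kf xf6 yf7 zf28) (kf xf11 yf8 zf33) (kf xf11 yf8 zf35) (kf xf6 yf5 zf57) (kf xf2 yf45 zf20) (kf xf9 yf33 zf22) (kf xf4 yf14 zf53) (kf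 xf10 yf20 zf26) (kf xf8 yf9 zf35) (kf xf11 yf8 zf46) (kf xf2 yf45 zf25) (kf xf11 yf8 zf49) (kf xf8 yf9 zf41) (kf xf11 yf8 zf55) (kf xf8 yf9 zf37) (kf xf2 yf45 zf28)) (@D3.rec (fun _ => Pt) (kf xf8 yf7 zf21) (kf xf11 yf9 zf1) (kf xf8 yf7 zf26) (kf xf11 yf9 zf7) (kf xf8 yf9 zf45) (kf xf8 yf9 zf46) (kf xf8 yf9 zf47) (kf xf11 yf9 zf16) (kf xf8 yf8 zf3) (kf xf8 yf8 zf0) (kf xf11 yf9 zf25) (kf xf2 yf45 zf32) (kf xf8 yf10 zf15) (kf xf8 yf10 zf16) (kf xf5 yf36 zf7) (kf xf8 yf10 zf11) (kf xf8 yf10 zf12) (kf xf8 yf10 zf18) (kf xf8 yf10 zf17) (kf xf11 yf9 zf42) (kf xf2 yf45 zf35) (kf xf8 yf24 zf58) (kf xf8 yf10 zf28) (kf xf8 yf59 zf58) (kf xf8 yf59 zf59) (kf xf5 yf33 zf38) (kf xf11 yf9 zf59) (kf xf8 yf59 zf61) (kf xf9 yf0 zf0) (kf xf5 yf33 zf39) (kf xf11 yf10 zf9) (kf xf11 yf10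 zf13) (kf xf11 yf10 zf11) (kf xf11 yf10 zf10) (kf xf11 yf10 zf22) (kf xf2 yf45 zf43) (kf xf3 yf20 zf59) (kf xf11 yf10 zf26) (kf xf2 yf45 zf44) (kf xf7 yf57 zf40) (kf xf7 yf58 zf8) (kf xf9 yf1 zf17) (kf xf5 yf10 zf13) (kf xf5 yf30 zf43) (kf xf5 yf30 zf44) (kf xf5 yf10 zf26) (kf xf9 yf1 zf15) (kf xf5 yf30 zf41) (kf xf8 yf24 zf14) (kf xf5 yf30 zf57) (kf xf7 yf58 zf52) (kf xf8 yf24 zf57) (kf xf5 yf30 zf56) (kf xf3 yf19 zf14) (kf xf3 yf19 zf12) (kf xf2 yf45 zf53) (kf xf7 yf55 zf17) (kf xf2 yf49 zf23) (kf xf2 yf49 zf28) (kf xf2 yf49 zf31) (kf xf11 yf10 zf54) (kf xf6 yf9 zf9)) (@D3.rec (fun _ => Pt) (kf xf8 yf49 zf24) (kf xf9 yf0 zf10) (kf xf9 yf0 zf11) (kf xf9 yf46 zf36) (kf xf9 yf0 zf13) (kf xf9 yf0 zf14) (kf xf6 yf6 zf12) (kf xf9 yf0 zf16) (kf xf9 yf0 zf17) (kf xf2 yf46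 zf25) (kf xf11 yf11 zf9) (kf xf10 yf19 zf0) (kf xf11 yf10 zf56) (kf xf2 yf46 zf0) (kf xf7 yf23 zf32) (kf xf11 yf11 zf16) (kf xf9 yf46 zf39) (kf xf5 yf42 zf39) (kf xf5 yf43 zf38) (kf xf4 yf32 zf53) (kf xf5 yf41 zf18) (kf xf9 yf1 zf41) (kf xf11 yf11 zf24) (kf xf5 yf37 zf52) (kf xf5 yf37 zf58) (kf xf11 yf11 zf32) (kf xf5 yf38 zf0) (kf xf5 yf38 zf2) (kf xf11 yf11 zf39) (kf xf9 yf1 zf43) (kf xf9 yf1 zf44) (kf xf9 yf1 zf45) (kf xf4 yf26 zf22) (kf xf11 yf11 zf23) (kf xf11 yf11 zf22) (kf xf2 yf46 zf13) (kf xf5 yf37 zf31) (kf xf11 yf11 zf59) (kf xf5 yf37 zf48) (kf xf5 yf37 zf47) (kf xf2 yf46 zf15) (kf xf5 yf37 zf40) (kf xf5 yf31 zf46) (kf xf11 yf12 zf3) (kf xf5 yf37 zf33) (kf xf2 yf46 zf17) (kf xf9 yf1 zf36) (kf xf9 yf1 zf33) (kf xf9 yf1 zf34) (kf xf9 yf5 zf38) (kf xf9 yf1 zf31)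 (kf xf9 yf1 zf30) (kf xf9 yf20 zf24) (kf xf2 yf46 zf20) (kf xf3 yf4 zf49) (kf xf3 yf4 zf51) (kf xf11 yf12 zf25) (kf xf3 yf0 zf57) (kf xf11 yf1 zf37) (kf xf11 yf12 zf20) (kf xf8 yf43 zf52) (kf xf5 yf26 zf59)) (@D3.rec (fun _ => Pt) (kf xf5 yf43 zf18) (kf xf11 yf12 zf36) (kf xf11 yf12 zf39) (kf xf11 yf12 zf32) (kf xf11 yf12 zf31) (kf xf11 yf12 zf42) (kf xf2 yf46 zf34) (kf xf9 yf1 zf53) (kf xf5 yf31 zf53) (kf xf9 yf1 zf52) (kf xf5 yf31 zf52) (kf xf4 yf29 zf38) (kf xf9 yf1 zf55) (kf xf9 yf1 zf54) (kf xf2 yf46 zf38) (kf xf5 yf13 zf60) (kf xf5 yf14 zf0) (kf xf2 yf47 zf58) (kf xf5 yf40 zf20) (kf xf2 yf53 zf3) (kf xf8 yf1 zf48) (kf xf9 yf2 zf23) (kf xf2 yf53 zf6) (kf xf9 yf2 zf24) (kf xf11 yf13 zf2) (kf xf2 yf53 zf10) (kf xf7 yf59 zf12) (kf xf9 yf2 zf26) (kf xf9 yf2 zf27) (kf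 xf9 yf2 zf28) (kf xf9 yf5 zf7) (kf xf3 yf33 zf32) (kf xf9 yf2 zf31) (kf xf9 yf2 zf32) (kf xf11 yf13 zf20) (kf xf4 yf57 zf15) (kf xf9 yf2 zf34) (kf xf2 yf53 zf26) (kf xf4 yf23 zf0) (kf xf9 yf2 zf35) (kf xf9 yf2 zf36) (kf xf6 yf14 zf20) (kf xf9 yf2 zf37) (kf xf11 yf13 zf40) (kf xf3 yf57 zf29) (kf xf11 yf6 zf50) (kf xf2 yf46 zf54) (kf xf9 yf2 zf39) (kf xf11 yf13 zf48) (kf xf4 yf42 zf55) (kf xf9 yf2 zf41) (kf xf11 yf13 zf56) (kf xf9 yf2 zf43) (kf xf6 yf15 zf33) (kf xf9 yf2 zf44) (kf xf11 yf14 zf8) (kf xf11 yf13 zf19) (kf xf11 yf13 zf18) (kf xf11 yf14 zf16) (kf xf2 yf46 zf58) (kf xf7 yf59 zf13) (kf xf9 yf2 zf60)) (@D3.rec (fun _ => Pt) (kf xf10 yf55 zf20) (kf xf2 yf46 zf60) (kf xf5 yf37 zf14) (kf xf11 yf14 zf25) (kf xf5 yf37 zf24) (kf xf5 yf37 zf23) (kf xf2 yf47 zf1) (kf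 xf2 yf47 zf45) (kf xf5 yf37 zf21) (kf xf11 yf14 zf35) (kf xf2 yf57 zf48) (kf xf2 yf47 zf3) (kf xf9 yf2 zf16) (kf xf9 yf2 zf17) (kf xf9 yf2 zf14) (kf xf9 yf2 zf15) (kf xf9 yf18 zf4) (kf xf9 yf2 zf20) (kf xf9 yf2 zf19) (kf xf6 yf44 zf1) (kf xf2 yf47 zf6) (kf xf3 yf0 zf45) (kf xf9 yf17 zf30) (kf xf11 yf15 zf0) (kf xf6 yf9 zf6) (kf xf2 yf47 zf9) (kf xf11 yf14 zf54) (kf xf9 yf1 zf57) (kf xf9 yf1 zf58) (kf xf9 yf4 zf60) (kf xf5 yf43 zf20) (kf xf9 yf1 zf60) (kf xf9 yf1 zf61) (kf xf11 yf15 zf18) (kf xf8 yf43 zf35) (kf xf9 yf2 zf1) (kf xf11 yf15 zf26) (kf xf5 yf49 zf42) (kf xf7 yf7 zf9) (kf xf5 yf40 zf17) (kf xf8 yf42 zf56) (kf xf8 yf42 zf57) (kf xf8 yf43 zf36) (kf xf8 yf43 zf37) (kf xf8 yf43 zf38) (kf xf11 yf15 zf46) (kf xf7 yf7 zf6) (kf xf7 yf7 zf35) (kf xf5 yf46 zf50) (kf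 xf11 yf15 zf54) (kf xf5 yf43 zf22) (kf xf9 yf2 zf3) (kf xf11 yf15 zf58) (kf xf9 yf2 zf5) (kf xf9 yf2 zf6) (kf xf9 yf2 zf7) (kf xf11 yf16 zf9) (kf xf11 yf15 zf24) (kf xf11 yf15 zf23) (kf xf11 yf16 zf17) (kf xf2 yf47 zf26) (kf xf8 yf44 zf30)) (@D3.rec (fun _ => Pt) (kf xf4 yf41 zf26) (kf xf9 yf3 zf25) (kf xf9 yf2 zf53) (kf xf9 yf2 zf52) (kf xf8 yf59 zf39) (kf xf11 yf2 zf0) (kf xf2 yf47 zf31) (kf xf9 yf4 zf45) (kf xf5 yf50 zf0) (kf xf11 yf16 zf29) (kf xf2 yf48 zf1) (kf xf11 yf16 zf37) (kf xf2 yf55 zf1) (kf xf2 yf47 zf52) (kf xf2 yf47 zf56) (kf xf11 yf14 zf41) (kf xf5 yf43 zf45) (kf xf7 yf50 zf5) (kf xf5 yf41 zf0) (kf xf4 yf57 zf7) (kf xf5 yf42 zf30) (kf xf5 yf43 zf39) (kf xf5 yf42 zf50) (kf xf11 yf11 zf54) (kf xf11 yf16 zf53) (kf xf2 yf47 zf43) (kf xf11 yf14 zf29) (kf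 xf11 yf16 zf60) (kf xf11 yf10 zf49) (kf xf11 yf16 zf40) (kf xf8 yf36 zf21) (kf xf9 yf36 zf41) (kf xf11 yf17 zf12) (kf xf2 yf47 zf46) (kf xf11 yf14 zf42) (kf xf2 yf47 zf47) (kf xf11 yf16 zf22) (kf xf5 yf43 zf47) (kf xf5 yf40 zf18) (kf xf5 yf43 zf21) (kf xf2 yf47 zf53) (kf xf11 yf7 zf9) (kf xf11 yf17 zf26) (kf xf5 yf7 zf38) (kf xf11 yf17 zf19) (kf xf5 yf43 zf16) (kf xf11 yf17 zf33) (kf xf5 yf43 zf37) (kf xf11 yf16 zf41) (kf xf11 yf16 zf42) (kf xf11 yf17 zf43) (kf xf11 yf16 zf23) (kf xf11 yf17 zf49) (kf xf2 yf47 zf57) (kf xf6 yf8 zf34) (kf xf5 yf49 zf48) (kf xf8 yf45 zf26) (kf xf2 yf47 zf59) (kf xf2 yf48 zf6) (kf xf2 yf48 zf7) (kf xf11 yf17 zf61) (kf xf2 yf48 zf3)) (@D3.rec (fun _ => Pt) (kf xf2 yf48 zf4) (kf xf7 yf26 zf50) (kf xf2 yf48 zf10) (kf xf2 yf48 zf9) (kf xf11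 yf16 zf32) (kf xf9 yf46 zf3) (kf xf11 yf18 zf18) (kf xf2 yf48 zf16) (kf xf2 yf48 zf15) (kf xf2 yf48 zf2) (kf xf6 yf8 zf52) (kf xf3 yf41 zf26) (kf xf7 yf26 zf52) (kf xf11 yf17 zf55) (kf xf11 yf17 zf54) (kf xf8 yf25 zf28) (kf xf8 yf25 zf27) (kf xf11 yf18 zf40) (kf xf11 yf17 zf59) (kf xf9 yf4 zf34) (kf xf11 yf18 zf49) (kf xf2 yf48 zf5) (kf xf11 yf12 zf51) (kf xf11 yf17 zf56) (kf xf11 yf17 zf57) (kf xf11 yf18 zf57) (kf xf11 yf16 zf30) (kf xf7 yf26 zf49) (kf xf2 yf48 zf8) (kf xf11 yf18 zf4) (kf xf11 yf6 zf36) (kf xf11 yf18 zf5) (kf xf11 yf19 zf8) (kf xf11 yf18 zf1) (kf xf7 yf59 zf33) (kf xf11 yf18 zf2) (kf xf11 yf19 zf16) (kf xf8 yf59 zf25) (kf xf8 yf59 zf26) (kf xf8 yf59 zf19) (kf xf8 yf59 zf27) (kf xf11 yf19 zf30) (kf xf11 yf18 zf13) (kf xf11 yf18 zf12) (kf xf9 yf45 zf47)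 (kf xf11 yf19 zf38) (kf xf2 yf48 zf12) (kf xf11 yf18 zf16) (kf xf11 yf18 zf15) (kf xf11 yf19 zf50) (kf xf2 yf48 zf13) (kf xf11 yf19 zf51) (kf xf11 yf18 zf23) (kf xf11 yf18 zf24) (kf xf9 yf17 zf10) (kf xf11 yf20 zf7) (kf xf11 yf18 zf19) (kf xf11 yf18 zf20) (kf xf11 yf18 zf21) (kf xf11 yf20 zf19) (kf xf2 yf48 zf18) (kf xf11 yf16 zf35)) (@D3.rec (fun _ => Pt) (kf xf11 yf16 zf34) (kf xf9 yf31 zf10) (kf xf2 yf55 zf45) (kf xf2 yf56 zf55) (kf xf2 yf56 zf56) (kf xf2 yf56 zf57) (kf xf2 yf56 zf58) (kf xf9 yf4 zf39) (kf xf11 yf20 zf47) (kf xf9 yf4 zf41) (kf xf9 yf4 zf42) (kf xf9 yf4 zf43) (kf xf11 yf20 zf58) (kf xf11 yf20 zf46) (kf xf11 yf20 zf45) (kf xf5 yf32 zf3) (kf xf2 yf48 zf23) (kf xf9 yf3 zf46) (kf xf9 yf4 zf37) (kf xf9 yf5 zf13) (kf xf9 yf4 zf35) (kf xf11 yf21 zf10) (kf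 xf9 yf4 zf25) (kf xf11 yf21 zf16) (kf xf9 yf4 zf27) (kf xf9 yf4 zf28) (kf xf9 yf4 zf29) (kf xf11 yf21 zf25) (kf xf11 yf21 zf15) (kf xf11 yf21 zf14) (kf xf6 yf25 zf23) (kf xf2 yf48 zf30) (kf xf9 yf2 zf57) (kf xf4 yf37 zf23) (kf xf9 yf5 zf5) (kf xf8 yf59 zf21) (kf xf8 yf59 zf22) (kf xf8 yf59 zf23) (kf xf11 yf21 zf44) (kf xf11 yf1 zf50) (kf xf11 yf21 zf42) (kf xf10 yf4 zf35) (kf xf2 yf48 zf37) (kf xf6 yf49 zf21) (kf xf5 yf55 zf22) (kf xf6 yf2 zf6) (kf xf9 yf4 zf56) (kf xf9 yf4 zf57) (kf xf3 yf22 zf12) (kf xf9 yf2 zf25) (kf xf9 yf5 zf8) (kf xf9 yf5 zf9) (kf xf9 yf5 zf10) (kf xf11 yf22 zf11) (kf xf3 yf59 zf12) (kf xf9 yf5 zf12) (kf xf5 yf14 zf50) (kf xf6 yf26 zf60) (kf xf2 yf54 zf57) (kf xf3 yf2 zf38) (kf xf9 yf4 zf46) (kf xf9 yf6 zf10)) (@D3.rec (fun _ => Pt) (kf xf2 yf48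 zf45) (kf xf9 yf2 zf0) (kf xf9 yf4 zf61) (kf xf9 yf5 zf0) (kf xf9 yf5 zf1) (kf xf11 yf22 zf34) (kf xf9 yf5 zf2) (kf xf9 yf4 zf36) (kf xf11 yf22 zf37) (kf xf2 yf48 zf49) (kf xf9 yf5 zf18) (kf xf4 yf56 zf25) (kf xf9 yf5 zf19) (kf xf10 yf15 zf29) (kf xf9 yf5 zf15) (kf xf4 yf56 zf24) (kf xf9 yf5 zf16) (kf xf11 yf16 zf27) (kf xf9 yf5 zf22) (kf xf9 yf5 zf21) (kf xf9 yf31 zf60) (kf xf2 yf58 zf4) (kf xf4 yf39 zf34) (kf xf6 yf14 zf60) (kf xf4 yf25 zf51) (kf xf4 yf56 zf58) (kf xf4 yf39 zf36) (kf xf11 yf23 zf8) (kf xf10 yf16 zf12) (kf xf11 yf6 zf10) (kf xf11 yf23 zf13) (kf xf2 yf48 zf59) (kf xf6 yf14 zf23) (kf xf6 yf14 zf22) (kf xf11 yf23 zf23) (kf xf2 yf48 zf60) (kf xf6 yf14 zf7) (kf xf5 yf0 zf30) (kf xf6 yf14 zf3) (kf xf6 yf14 zf4) (kf xf4 yf23 zf10) (kf xf6 yf14 zf26) (kf xf11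 yf23 zf39) (kf xf2 yf49 zf1) (kf xf6 yf15 zf16) (kf xf6 yf15 zf14) (kf xf6 yf15 zf15) (kf xf4 yf39 zf56) (kf xf3 yf9 zf61) (kf xf5 yf5 zf59) (kf xf5 yf42 zf48) (kf xf11 yf23 zf53) (kf xf5 yf37 zf41) (kf xf6 yf9 zf1) (kf xf6 yf9 zf3) (kf xf11 yf23 zf60) (kf xf4 yf32 zf21) (kf xf11 yf24 zf3) (kf xf11 yf24 zf7) (kf xf2 yf49 zf15) (kf xf6 yf12 zf17) (kf xf6 yf17 zf7)) (@D3.rec (fun _ => Pt) (kf xf4 yf58 zf35) (kf xf11 yf24 zf17) (kf xf11 yf10 zf48) (kf xf5 yf51 zf34) (kf xf11 yf24 zf22) (kf xf11 yf24 zf15) (kf xf11 yf24 zf14) (kf xf11 yf24 zf33) (kf xf2 yf49 zf25) (kf xf6 yf17 zf12) (kf xf4 yf57 zf8) (kf xf4 yf57 zf20) (kf xf6 yf51 zf18) (kf xf2 yf49 zf29) (kf xf11 yf10 zf51) (kf xf6 yf15 zf17) (kf xf6 yf16 zf60) (kf xf6 yf16 zf61) (kf xf6 yf15 zf19) (kf xf6 yf14 zf15)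 (kf xf5 yf51 zf42) (kf xf11 yf24 zf48) (kf xf3 yf33 zf42) (kf xf3 yf57 zf52) (kf xf6 yf14 zf17) (kf xf11 yf24 zf52) (kf xf3 yf59 zf24) (kf xf5 yf52 zf42) (kf xf3 yf59 zf29) (kf xf3 yf59 zf34) (kf xf5 yf51 zf58) (kf xf5 yf51 zf44) (kf xf3 yf59 zf25) (kf xf10 yf17 zf55) (kf xf11 yf24 zf47) (kf xf11 yf24 zf46) (kf xf2 yf49 zf45) (kf xf5 yf51 zf12) (kf xf5 yf51 zf40) (kf xf4 yf7 zf24) (kf xf5 yf51 zf39) (kf xf5 yf52 zf46) (kf xf8 yf0 zf30) (kf xf6 yf4 zf14) (kf xf5 yf51 zf7) (kf xf4 yf58 zf29) (kf xf11 yf25 zf17) (kf xf5 yf49 zf46) (kf xf11 yf25 zf20) (kf xf5 yf51 zf18) (kf xf2 yf49 zf56) (kf xf6 yf15 zf18) (kf xf4 yf58 zf22) (kf xf11 yf7 zf4) (kf xf9 yf14 zf58) (kf xf4 yf25 zf48) (kf xf11 yf25 zf31) (kf xf9 yf39 zf18) (kf xf4 yf7 zf8) (kf xf5 yf7 zf52) (kf xf11 yf25 zf36)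 (kf xf3 yf0 zf10)) (@D3.rec (fun _ => Pt) (kf xf10 yf6 zf19) (kf xf11 yf25 zf40) (kf xf5 yf51 zf11) (kf xf11 yf25 zf45) (kf xf2 yf50 zf3) (kf xf5 yf7 zf53) (kf xf9 yf5 zf49) (kf xf11 yf25 zf52) (kf xf2 yf50 zf19) (kf xf2 yf50 zf18) (kf xf11 yf25 zf59) (kf xf2 yf50 zf6) (kf xf2 yf50 zf22) (kf xf2 yf50 zf24) (kf xf5 yf56 zf0) (kf xf9 yf32 zf13) (kf xf9 yf50 zf15) (kf xf9 yf50 zf60) (kf xf6 yf53 zf59) (kf xf9 yf32 zf2) (kf xf9 yf24 zf42) (kf xf6 yf57 zf22) (kf xf11 yf25 zf50) (kf xf9 yf24 zf36) (kf xf11 yf26 zf17) (kf xf2 yf50 zf17) (kf xf11 yf25 zf55) (kf xf7 yf45 zf23) (kf xf11 yf25 zf56) (kf xf9 yf24 zf28) (kf xf9 yf49 zf3) (kf xf11 yf25 zf53) (kf xf11 yf25 zf54) (kf xf6 yf47 zf33) (kf xf11 yf25 zf58) (kf xf11 yf25 zf57) (kf xf11 yf26 zf47) (kf xf2 yf50 zf20) (kf xf11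 yf25 zf11) (kf xf4 yf24 zf2) (kf xf11 yf25 zf60) (kf xf6 yf16 zf21) (kf xf4 yf32 zf2) (kf xf11 yf25 zf61) (kf xf4 yf57 zf46) (kf xf10 yf5 zf29) (kf xf10 yf5 zf43) (kf xf11 yf27 zf0) (kf xf7 yf21 zf24) (kf xf6 yf26 zf48) (kf xf6 yf26 zf57) (kf xf4 yf56 zf22) (kf xf6 yf26 zf36) (kf xf3 yf24 zf2) (kf xf6 yf26 zf34) (kf xf6 yf26 zf28) (kf xf6 yf26 zf35) (kf xf6 yf25 zf52) (kf xf9 yf5 zf4) (kf xf6 yf25 zf53) (kf xf5 yf32 zf44) (kf xf3 yf13 zf0)) (@D3.rec (fun _ => Pt) (kf xf9 yf5 zf40) (kf xf2 yf50 zf55) (kf xf6 yf4 zf15) (kf xf6 yf17 zf8) (kf xf6 yf17 zf10) (kf xf4 yf57 zf25) (kf xf4 yf0 zf42) (kf xf11 yf22 zf17) (kf xf6 yf15 zf20) (kf xf6 yf15 zf21) (kf xf6 yf17 zf0) (kf xf11 yf8 zf21) (kf xf9 yf44 zf36) (kf xf6 yf17 zf2) (kf xf6 yf17 zf3) (kf xf6 yf17 zf4) (kf xf8 yf56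 zf54) (kf xf6 yf15 zf28) (kf xf9 yf39 zf19) (kf xf5 yf52 zf35) (kf xf5 yf52 zf36) (kf xf9 yf5 zf44) (kf xf4 yf0 zf49) (kf xf11 yf27 zf46) (kf xf6 yf2 zf56) (kf xf5 yf31 zf49) (kf xf2 yf50 zf48) (kf xf9 yf5 zf41) (kf xf6 yf16 zf39) (kf xf6 yf3 zf21) (kf xf6 yf16 zf50) (kf xf6 yf3 zf5) (kf xf6 yf3 zf4) (kf xf9 yf5 zf45) (kf xf4 yf26 zf11) (kf xf9 yf1 zf37) (kf xf9 yf5 zf37) (kf xf9 yf5 zf36) (kf xf4 yf39 zf35) (kf xf6 yf14 zf61) (kf xf11 yf28 zf1) (kf xf4 yf42 zf44) (kf xf5 yf42 zf37) (kf xf9 yf5 zf46) (kf xf4 yf32 zf41) (kf xf11 yf28 zf11) (kf xf5 yf47 zf47) (kf xf6 yf8 zf32) (kf xf5 yf43 zf55) (kf xf10 yf15 zf24) (kf xf4 yf25 zf44) (kf xf5 yf34 zf41) (kf xf5 yf6 zf31) (kf xf6 yf1 zf26) (kf xf4 yf25 zf52) (kf xf5 yf34 zf42) (kf xf5 yf34 zf43) (kf xf5 yf34 zf44) (kf xf5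 yf52 zf40) (kf xf4 yf58 zf56) (kf xf4 yf58 zf53) (kf xf11 yf28 zf27)) (@D3.rec (fun _ => Pt) (kf xf5 yf43 zf8) (kf xf5 yf52 zf7) (kf xf2 yf51 zf10) (kf xf4 yf58 zf31) (kf xf2 yf55 zf28) (kf xf11 yf28 zf35) (kf xf5 yf52 zf12) (kf xf9 yf15 zf18) (kf xf5 yf52 zf9) (kf xf2 yf51 zf14) (kf xf6 yf1 zf56) (kf xf6 yf7 zf39) (kf xf4 yf5 zf46) (kf xf5 yf7 zf7) (kf xf2 yf59 zf55) (kf xf6 yf39 zf14) (kf xf9 yf6 zf7) (kf xf9 yf6 zf6) (kf xf6 yf4 zf6) (kf xf2 yf51 zf21) (kf xf9 yf6 zf5) (kf xf6 yf2 zf45) (kf xf3 yf13 zf23) (kf xf9 yf32 zf34) (kf xf9 yf6 zf3) (kf xf6 yf2 zf44) (kf xf6 yf8 zf61) (kf xf3 yf23 zf61) (kf xf6 yf22 zf2) (kf xf6 yf21 zf55) (kf xf6 yf16 zf4) (kf xf9 yf20 zf40) (kf xf6 yf21 zf41) (kf xf6 yf21 zf40) (kf xf6 yf21 zf27) (kf xf6 yf21 zf38) (kf xf9 yf50 zf24) (kf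 xf3 yf0 zf22) (kf xf4 yf34 zf45) (kf xf9 yf50 zf54) (kf xf4 yf58 zf38) (kf xf11 yf29 zf8) (kf xf4 yf36 zf42) (kf xf11 yf29 zf11) (kf xf10 yf18 zf32) (kf xf5 yf52 zf15) (kf xf4 yf39 zf52) (kf xf2 yf51 zf35) (kf xf4 yf0 zf38) (kf xf6 yf25 zf33) (kf xf6 yf25 zf32) (kf xf7 yf23 zf1) (kf xf11 yf29 zf18) (kf xf5 yf52 zf17) (kf xf8 yf12 zf54) (kf xf6 yf11 zf55) (kf xf2 yf51 zf39) (kf xf8 yf49 zf21) (kf xf6 yf13 zf22) (kf xf9 yf6 zf39) (kf xf10 yf45 zf16) (kf xf5 yf58 zf46)) (@D3.rec (fun _ => Pt) (kf xf9 yf6 zf40) (kf xf4 yf36 zf51) (kf xf6 yf1 zf16) (kf xf9 yf6 zf15) (kf xf2 yf51 zf60) (kf xf2 yf51 zf59) (kf xf2 yf51 zf49) (kf xf5 yf47 zf44) (kf xf11 yf29 zf45) (kf xf3 yf50 zf33) (kf xf11 yf29 zf50) (kf xf5 yf48 zf2) (kf xf5 yf47 zf37) (kf xf2 yf51 zf52) (kf xf4 yf37 zf8)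 (kf xf11 yf29 zf59) (kf xf3 yf50 zf0) (kf xf11 yf30 zf2) (kf xf5 yf47 zf49) (kf xf2 yf51 zf55) (kf xf7 yf37 zf54) (kf xf11 yf30 zf8) (kf xf11 yf30 zf10) (kf xf3 yf25 zf40) (kf xf11 yf30 zf14) (kf xf11 yf29 zf40) (kf xf7 yf2 zf13) (kf xf11 yf29 zf41) (kf xf11 yf30 zf24) (kf xf9 yf47 zf26) (kf xf11 yf29 zf37) (kf xf11 yf29 zf38) (kf xf8 yf14 zf36) (kf xf2 yf55 zf20) (kf xf5 yf47 zf3) (kf xf11 yf30 zf36) (kf xf9 yf47 zf43) (kf xf6 yf21 zf56) (kf xf2 yf52 zf1) (kf xf5 yf47 zf40) (kf xf5 yf47 zf38) (kf xf6 yf30 zf5) (kf xf5 yf47 zf20) (kf xf10 yf5 zf1) (kf xf5 yf47 zf31) (kf xf6 yf16 zf11) (kf xf11 yf30 zf42) (kf xf11 yf30 zf53) (kf xf2 yf52 zf7) (kf xf9 yf51 zf7) (kf xf2 yf52 zf8) (kf xf6 yf30 zf39) (kf xf11 yf30 zf60) (kf xf6 yf30 zf34) (kf xf4 yf45 zf60) (kf xf11 yf30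 zf61) (kf xf3 yf3 zf0) (kf xf2 yf52 zf12) (kf xf5 yf47 zf30) (kf xf6 yf30 zf32) (kf xf11 yf31 zf3) (kf xf10 yf4 zf57)) (@D3.rec (fun _ => Pt) (kf xf2 yf52 zf15) (kf xf7 yf26 zf29) (kf xf11 yf31 zf6) (kf xf2 yf52 zf31) (kf xf2 yf52 zf30) (kf xf2 yf52 zf19) (kf xf11 yf31 zf10) (kf xf5 yf50 zf1) (kf xf6 yf8 zf27) (kf xf5 yf50 zf8) (kf xf2 yf52 zf22) (kf xf11 yf31 zf17) (kf xf5 yf50 zf6) (kf xf4 yf6 zf3) (kf xf2 yf52 zf25) (kf xf5 yf50 zf45) (kf xf8 yf14 zf58) (kf xf5 yf50 zf53) (kf xf11 yf31 zf21) (kf xf10 yf49 zf8) (kf xf11 yf27 zf47) (kf xf11 yf22 zf42) (kf xf2 yf52 zf29) (kf xf9 yf48 zf16) (kf xf10 yf48 zf33) (kf xf10 yf57 zf24) (kf xf8 yf14 zf42) (kf xf9 yf48 zf21) (kf xf11 yf31 zf7) (kf xf4 yf56 zf20) (kf xf11 yf31 zf30) (kf xf9 yf14 zf45) (kf xf9 yf14 zf44) (kf xf11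 yf31 zf38) (kf xf2 yf52 zf32) (kf xf5 yf49 zf19) (kf xf5 yf49 zf20) (kf xf4 yf29 zf21) (kf xf9 yf14 zf40) (kf xf6 yf3 zf30) (kf xf5 yf49 zf58) (kf xf9 yf14 zf7) (kf xf5 yf47 zf27) (kf xf6 yf30 zf21) (kf xf6 yf30 zf10) (kf xf11 yf31 zf54) (kf xf5 yf47 zf41) (kf xf2 yf52 zf38) (kf xf6 yf29 zf54) (kf xf11 yf31 zf59) (kf xf5 yf0 zf14) (kf xf2 yf52 zf40) (kf xf5 yf26 zf4) (kf xf9 yf6 zf52) (kf xf2 yf52 zf53) (kf xf6 yf13 zf15) (kf xf5 yf29 zf15) (kf xf8 yf0 zf18) (kf xf8 yf47 zf47) (kf xf9 yf6 zf59) (kf xf8 yf12 zf33) (kf xf9 yf6 zf60)) (@D3.rec (fun _ => Pt) (kf xf9 yf6 zf56) (kf xf9 yf6 zf57) (kf xf9 yf6 zf58) (kf xf6 yf6 zf8) (kf xf5 yf29 zf11) (kf xf5 yf27 zf60) (kf xf4 yf29 zf19) (kf xf9 yf7 zf1) (kf xf2 yf55 zf42) (kf xf2 yf55 zf60) (kf xf9 yf7 zf5) (kf xf6 yf7 zf58)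 (kf xf9 yf7 zf6) (kf xf4 yf56 zf44) (kf xf5 yf32 zf4) (kf xf8 yf47 zf44) (kf xf8 yf1 zf2) (kf xf8 yf47 zf45) (kf xf11 yf32 zf43) (kf xf9 yf7 zf3) (kf xf9 yf7 zf4) (kf xf5 yf26 zf57) (kf xf4 yf4 zf29) (kf xf5 yf26 zf39) (kf xf5 yf26 zf41) (kf xf9 yf30 zf50) (kf xf11 yf12 zf53) (kf xf6 yf15 zf40) (kf xf10 yf5 zf14) (kf xf9 yf7 zf59) (kf xf8 yf2 zf25) (kf xf9 yf7 zf60) (kf xf11 yf33 zf6) (kf xf11 yf12 zf58) (kf xf9 yf8 zf1) (kf xf9 yf31 zf11) (kf xf9 yf31 zf12) (kf xf3 yf57 zf56) (kf xf9 yf8 zf7) (kf xf9 yf8 zf8) (kf xf11 yf13 zf3) (kf xf7 yf59 zf53) (kf xf8 yf0 zf26) (kf xf9 yf12 zf12) (kf xf4 yf44 zf49) (kf xf11 yf33 zf27) (kf xf9 yf8 zf5) (kf xf6 yf53 zf56) (kf xf9 yf14 zf0) (kf xf4 yf25 zf20) (kf xf3 yf38 zf34) (kf xf9 yf8 zf10) (kf xf11 yf33 zf39) (kf xf2 yf53 zf33)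 (kf xf8 yf10 zf36) (kf xf2 yf53 zf18) (kf xf9 yf8 zf14) (kf xf2 yf53 zf50) (kf xf2 yf53 zf51) (kf xf2 yf53 zf46) (kf xf2 yf53 zf47) (kf xf2 yf53 zf53)) (@D3.rec (fun _ => Pt) (kf xf2 yf53 zf52) (kf xf8 yf12 zf42) (kf xf2 yf53 zf22) (kf xf4 yf58 zf52) (kf xf9 yf8 zf23) (kf xf11 yf33 zf60) (kf xf11 yf13 zf25) (kf xf9 yf8 zf25) (kf xf11 yf34 zf3) (kf xf6 yf0 zf41) (kf xf11 yf34 zf10) (kf xf6 yf14 zf33) (kf xf11 yf34 zf14) (kf xf6 yf15 zf41) (kf xf4 yf44 zf46) (kf xf11 yf34 zf20) (kf xf11 yf33 zf37) (kf xf11 yf33 zf36) (kf xf11 yf34 zf32) (kf xf2 yf53 zf32) (kf xf4 yf35 zf35) (kf xf11 yf33 zf40) (kf xf7 yf14 zf7) (kf xf10 yf18 zf24) (kf xf8 yf10 zf35) (kf xf11 yf34 zf46) (kf xf2 yf53 zf35) (kf xf6 yf15 zf46) (kf xf11 yf28 zf53) (kf xf6 yf16 zf5) (kf xf11 yf34 zf52) (kf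 xf2 yf53 zf38) (kf xf6 yf15 zf57) (kf xf8 yf12 zf6) (kf xf4 yf34 zf44) (kf xf6 yf16 zf3) (kf xf5 yf26 zf3) (kf xf6 yf15 zf48) (kf xf11 yf34 zf60) (kf xf2 yf53 zf41) (kf xf9 yf8 zf38) (kf xf6 yf1 zf49) (kf xf11 yf35 zf3) (kf xf6 yf50 zf60) (kf xf6 yf0 zf40) (kf xf11 yf35 zf5) (kf xf9 yf8 zf41) (kf xf8 yf0 zf1) (kf xf4 yf44 zf47) (kf xf5 yf7 zf46) (kf xf7 yf59 zf56) (kf xf11 yf33 zf45) (kf xf9 yf2 zf50) (kf xf10 yf4 zf30) (kf xf11 yf33 zf46) (kf xf11 yf35 zf19) (kf xf3 yf5 zf23) (kf xf7 yf59 zf59) (kf xf6 yf7 zf37) (kf xf3 yf46 zf24) (kf xf11 yf33 zf42) (kf xf11 yf33 zf43)) (@D3.rec (fun _ => Pt) (kf xf11 yf35 zf28) (kf xf9 yf5 zf48) (kf xf11 yf33 zf49) (kf xf11 yf35 zf36) (kf xf11 yf33 zf48) (kf xf11 yf35 zf40) (kf xf8 yf12 zf36) (kf xf5 yf18 zf52) (kf xf11 yf35 zf51)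 (kf xf2 yf53 zf54) (kf xf9 yf8 zf42) (kf xf9 yf7 zf53) (kf xf6 yf25 zf61) (kf xf6 yf2 zf28) (kf xf11 yf35 zf60) (kf xf2 yf53 zf58) (kf xf2 yf55 zf5) (kf xf11 yf35 zf61) (kf xf10 yf4 zf33) (kf xf2 yf53 zf61) (kf xf7 yf30 zf38) (kf xf11 yf36 zf2) (kf xf5 yf45 zf44) (kf xf9 yf7 zf29) (kf xf5 yf18 zf50) (kf xf5 yf18 zf51) (kf xf5 yf18 zf49) (kf xf5 yf34 zf52) (kf xf5 yf34 zf55) (kf xf6 yf25 zf3) (kf xf8 yf50 zf21) (kf xf8 yf49 zf51) (kf xf8 yf45 zf46) (kf xf11 yf36 zf24) (kf xf8 yf0 zf31) (kf xf9 yf7 zf9) (kf xf6 yf10 zf53) (kf xf9 yf13 zf45) (kf xf9 yf30 zf37) (kf xf8 yf45 zf47) (kf xf11 yf36 zf35) (kf xf8 yf49 zf30) (kf xf9 yf7 zf12) (kf xf9 yf7 zf13) (kf xf9 yf31 zf29) (kf xf5 yf26 zf55) (kf xf9 yf10 zf50) (kf xf8 yf46 zf42) (kf xf11 yf36 zf49) (kf xf2 yf54 zf30) (kf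 xf9 yf12 zf37) (kf xf9 yf7 zf15) (kf xf3 yf15 zf33) (kf xf11 yf36 zf55) (kf xf2 yf54 zf44) (kf xf2 yf54 zf43) (kf xf11 yf37 zf3) (kf xf2 yf54 zf18) (kf xf2 yf54 zf50) (kf xf2 yf54 zf49) (kf xf9 yf12 zf38) (kf xf8 yf45 zf41)) (@D3.rec (fun _ => Pt) (kf xf5 yf48 zf14) (kf xf8 yf45 zf42) (kf xf11 yf37 zf17) (kf xf7 yf59 zf55) (kf xf8 yf45 zf44) (kf xf11 yf37 zf25) (kf xf9 yf10 zf33) (kf xf6 yf24 zf24) (kf xf6 yf24 zf27) (kf xf6 yf24 zf31) (kf xf6 yf24 zf33) (kf xf11 yf37 zf39) (kf xf6 yf25 zf5) (kf xf6 yf25 zf12) (kf xf4 yf25 zf24) (kf xf8 yf46 zf44) (kf xf11 yf37 zf49) (kf xf11 yf36 zf47) (kf xf11 yf36 zf46) (kf xf11 yf37 zf60) (kf xf2 yf54 zf29) (kf xf11 yf36 zf50) (kf xf11 yf36 zf51) (kf xf4 yf34 zf47) (kf xf9 yf9 zf34) (kf xf11 yf36 zf53) (kf xf11 yf36 zf52) (kf xf11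 yf38 zf17) (kf xf2 yf54 zf32) (kf xf6 yf25 zf7) (kf xf6 yf25 zf8) (kf xf11 yf38 zf22) (kf xf6 yf25 zf18) (kf xf2 yf54 zf35) (kf xf11 yf38 zf27) (kf xf6 yf25 zf15) (kf xf6 yf25 zf16) (kf xf11 yf38 zf34) (kf xf6 yf25 zf10) (kf xf11 yf38 zf40) (kf xf2 yf54 zf38) (kf xf6 yf37 zf38) (kf xf11 yf38 zf43) (kf xf11 yf38 zf45) (kf xf3 yf15 zf34) (kf xf9 yf7 zf25) (kf xf11 yf36 zf57) (kf xf11 yf36 zf56) (kf xf2 yf54 zf42) (kf xf9 yf10 zf25) (kf xf11 yf36 zf60) (kf xf11 yf36 zf61) (kf xf11 yf39 zf1) (kf xf5 yf58 zf53) (kf xf11 yf36 zf58) (kf xf4 yf30 zf29) (kf xf11 yf22 zf30) (kf xf11 yf37 zf1) (kf xf11 yf37 zf0) (kf xf11 yf39 zf16) (kf xf2 yf54 zf45) (kf xf4 yf36 zf10)) (@D3.rec (fun _ => Pt) (kf xf8 yf48 zf52) (kf xf9 yf9 zf18) (kf xf11 yf39 zf25) (kf xf11 yf37 zf5) (kf xf4 yf34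 zf17) (kf xf9 yf1 zf8) (kf xf5 yf58 zf57) (kf xf11 yf37 zf4) (kf xf7 yf59 zf6) (kf xf11 yf37 zf7) (kf xf11 yf37 zf6) (kf xf11 yf39 zf45) (kf xf2 yf54 zf51) (kf xf11 yf39 zf17) (kf xf2 yf55 zf37) (kf xf2 yf55 zf57) (kf xf9 yf9 zf10) (kf xf11 yf39 zf56) (kf xf3 yf0 zf51) (kf xf2 yf54 zf54) (kf xf9 yf9 zf7) (kf xf4 yf30 zf17) (kf xf11 yf22 zf19) (kf xf6 yf7 zf6) (kf xf9 yf9 zf12) (kf xf2 yf55 zf0) (kf xf2 yf55 zf61) (kf xf8 yf9 zf48) (kf xf9 yf9 zf17) (kf xf9 yf9 zf16) (kf xf11 yf16 zf38) (kf xf11 yf34 zf61) (kf xf10 yf3 zf55) (kf xf2 yf55 zf29) (kf xf2 yf55 zf54) (kf xf2 yf55 zf55) (kf xf11 yf40 zf11) (kf xf11 yf40 zf13) (kf xf5 yf58 zf51) (kf xf4 yf59 zf46) (kf xf6 yf34 zf12) (kf xf5 yf57 zf60) (kf xf5 yf57 zf59) (kf xf6 yf31 zf30) (kf xf2 yf55 zf10) (kf xf5 yf58 zf2)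 (kf xf3 yf0 zf13) (kf xf10 yf18 zf47) (kf xf2 yf55 zf12) (kf xf4 yf59 zf23) (kf xf4 yf58 zf28) (kf xf4 yf59 zf22) (kf xf6 yf1 zf0) (kf xf11 yf40 zf33) (kf xf6 yf7 zf61) (kf xf4 yf58 zf37) (kf xf11 yf40 zf37) (kf xf11 yf30 zf30) (kf xf7 yf31 zf26) (kf xf5 yf57 zf42) (kf xf5 yf57 zf41) (kf xf11 yf40 zf45)) (@D3.rec (fun _ => Pt) (kf xf2 yf55 zf21) (kf xf11 yf40 zf46) (kf xf5 yf57 zf45) (kf xf6 yf8 zf0) (kf xf9 yf15 zf61) (kf xf6 yf0 zf33) (kf xf11 yf40 zf55) (kf xf3 yf0 zf41) (kf xf3 yf0 zf40) (kf xf11 yf40 zf61) (kf xf2 yf55 zf27) (kf xf11 yf28 zf31) (kf xf5 yf59 zf51) (kf xf11 yf41 zf5) (kf xf5 yf59 zf52) (kf xf11 yf41 zf8) (kf xf9 yf22 zf11) (kf xf11 yf41 zf10) (kf xf11 yf41 zf9) (kf xf11 yf41 zf19) (kf xf6 yf53 zf7) (kf xf2 yf55 zf30) (kf xf9 yf29 zf57) (kf xf9 yf29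 zf59) (kf xf11 yf41 zf24) (kf xf2 yf55 zf31) (kf xf6 yf53 zf9) (kf xf11 yf41 zf29) (kf xf11 yf39 zf49) (kf xf6 yf50 zf51) (kf xf3 yf6 zf57) (kf xf11 yf41 zf32) (kf xf4 yf40 zf45) (kf xf2 yf55 zf40) (kf xf6 yf31 zf31) (kf xf11 yf32 zf23) (kf xf11 yf41 zf38) (kf xf11 yf41 zf41) (kf xf11 yf20 zf31) (kf xf7 yf42 zf7) (kf xf3 yf29 zf57) (kf xf11 yf41 zf51) (kf xf11 yf41 zf39) (kf xf9 yf8 zf44) (kf xf11 yf41 zf60) (kf xf2 yf55 zf47) (kf xf5 yf50 zf61) (kf xf11 yf8 zf3) (kf xf9 yf8 zf58) (kf xf11 yf42 zf3) (kf xf2 yf55 zf49) (kf xf5 yf57 zf38) (kf xf11 yf31 zf55) (kf xf5 yf56 zf53) (kf xf11 yf40 zf47) (kf xf11 yf42 zf18) (kf xf2 yf55 zf52) (kf xf5 yf57 zf6) (kf xf6 yf1 zf27) (kf xf7 yf39 zf36) (kf xf11 yf27 zf31) (kf xf7 yf39 zf38)) (@D3.rec (fun _ => Pt) (kf xf11 yf42 zf30)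 (kf xf11 yf41 zf27) (kf xf11 yf41 zf26) (kf xf11 yf42 zf40) (kf xf2 yf55 zf56) (kf xf11 yf39 zf50) (kf xf5 yf33 zf34) (kf xf11 yf20 zf2) (kf xf11 yf40 zf0) (kf xf11 yf42 zf50) (kf xf2 yf55 zf58) (kf xf11 yf32 zf25) (kf xf11 yf42 zf57) (kf xf11 yf40 zf3) (kf xf5 yf38 zf44) (kf xf11 yf41 zf34) (kf xf11 yf41 zf33) (kf xf11 yf43 zf7) (kf xf11 yf43 zf12) (kf xf2 yf56 zf0) (kf xf11 yf42 zf51) (kf xf9 yf23 zf19) (kf xf11 yf43 zf20) (kf xf11 yf43 zf24) (kf xf2 yf56 zf43) (kf xf11 yf43 zf30) (kf xf2 yf56 zf4) (kf xf2 yf56 zf50) (kf xf2 yf56 zf51) (kf xf2 yf56 zf52) (kf xf11 yf43 zf38) (kf xf2 yf56 zf46) (kf xf2 yf56 zf47) (kf xf2 yf56 zf48) (kf xf6 yf31 zf6) (kf xf11 yf43 zf45) (kf xf4 yf59 zf42) (kf xf4 yf59 zf43) (kf xf11 yf43 zf52) (kf xf9 yf13 zf0) (kf xf11 yf43 zf44) (kf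 xf11 yf43 zf58) (kf xf2 yf56 zf10) (kf xf9 yf29 zf56) (kf xf9 yf30 zf41) (kf xf11 yf26 zf12) (kf xf9 yf23 zf56) (kf xf9 yf29 zf61) (kf xf9 yf30 zf0) (kf xf8 yf47 zf4) (kf xf11 yf44 zf10) (kf xf5 yf58 zf12) (kf xf5 yf58 zf14) (kf xf11 yf44 zf16) (kf xf6 yf51 zf43) (kf xf11 yf44 zf22) (kf xf2 yf56 zf15) (kf xf9 yf30 zf21) (kf xf3 yf27 zf18) (kf xf9 yf13 zf7) (kf xf6 yf46 zf47) (kf xf9 yf30 zf23))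
def f_f_6 : D2 → D3 → Pt := @D2.rec (fun _ => D3 → Pt) (@D3.rec (fun _ => Pt) (kf xf2 yf56 zf18) (kf xf3 yf50 zf25) (kf xf11 yf44 zf33) (kf xf9 yf30 zf10) (kf xf11 yf44 zf39) (kf xf11 yf44 zf32) (kf xf9 yf13 zf25) (kf xf2 yf56 zf22) (kf xf3 yf46 zf40) (kf xf9 yf23 zf53) (kf xf9 yf30 zf16) (kf xf11 yf44 zf50) (kf xf11 yf44 zf54) (kf xf9 yf30 zf4) (kf xf9 yf30 zf3) (kf xf11 yf45 zf2) (kf xf2 yf56 zf25) (kf xf7 yf43 zf24) (kf xf9 yf13 zf36) (kf xf6 yf32 zf35) (kf xf9 yf25 zf51) (kf xf9 yf30 zf7) (kf xf7 yf43 zf18) (kf xf9 yf13 zf40) (kf xf9 yf29 zf54) (kf xf11 yf45 zf17) (kf xf2 yf56 zf28) (kf xf7 yf45 zf22) (kf xf9 yf25 zf45) (kf xf9 yf25 zf46) (kf xf6 yf38 zf15) (kf xf9 yf25 zf47) (kf xf11 yf45 zf25) (kf xf5 yf58 zf5) (kf xf11 yf45 zf30) (kf xf11 yf45 zf34) (kf xf2 yf56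 zf33) (kf xf9 yf25 zf54) (kf xf9 yf25 zf2) (kf xf9 yf25 zf55) (kf xf5 yf54 zf44) (kf xf5 yf54 zf9) (kf xf11 yf45 zf44) (kf xf11 yf45 zf48) (kf xf11 yf45 zf51) (kf xf2 yf56 zf37) (kf xf11 yf45 zf55) (kf xf9 yf26 zf7) (kf xf11 yf46 zf1) (kf xf11 yf43 zf22) (kf xf11 yf43 zf21) (kf xf11 yf46 zf12) (kf xf2 yf56 zf41) (kf xf3 yf27 zf20) (kf xf3 yf27 zf21) (kf xf11 yf43 zf25) (kf xf8 yf0 zf44) (kf xf11 yf43 zf26) (kf xf11 yf43 zf28) (kf xf11 yf43 zf27) (kf xf11 yf46 zf37) (kf xf2 yf56 zf44)) (@D3.rec (fun _ => Pt) (kf xf5 yf57 zf52) (kf xf11 yf40 zf10) (kf xf4 yf59 zf50) (kf xf11 yf43 zf39) (kf xf11 yf46 zf45) (kf xf9 yf29 zf58) (kf xf11 yf43 zf41) (kf xf11 yf43 zf42) (kf xf6 yf53 zf23) (kf xf11 yf17 zf46) (kf xf9 yf13 zf58) (kf xf11 yf43 zf43) (kf xf7 yf27 zf11) (kf xf7 yf43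 zf22) (kf xf6 yf8 zf7) (kf xf2 yf56 zf49) (kf xf5 yf51 zf2) (kf xf11 yf41 zf37) (kf xf11 yf43 zf31) (kf xf11 yf43 zf32) (kf xf11 yf47 zf18) (kf xf11 yf43 zf34) (kf xf11 yf43 zf35) (kf xf11 yf43 zf37) (kf xf11 yf14 zf34) (kf xf2 yf56 zf53) (kf xf5 yf49 zf53) (kf xf5 yf58 zf58) (kf xf11 yf47 zf32) (kf xf11 yf20 zf32) (kf xf11 yf47 zf37) (kf xf11 yf20 zf34) (kf xf7 yf26 zf53) (kf xf11 yf20 zf35) (kf xf11 yf20 zf36) (kf xf11 yf47 zf51) (kf xf11 yf20 zf38) (kf xf11 yf20 zf39) (kf xf11 yf20 zf40) (kf xf11 yf20 zf41) (kf xf9 yf13 zf14) (kf xf9 yf13 zf15) (kf xf2 yf57 zf3) (kf xf2 yf57 zf2) (kf xf11 yf0 zf48) (kf xf2 yf56 zf60) (kf xf9 yf13 zf20) (kf xf9 yf31 zf15) (kf xf8 yf0 zf2) (kf xf5 yf54 zf41) (kf xf4 yf45 zf39) (kf xf11 yf48 zf17) (kf xf9 yf30 zf13) (kf xf11 yf48 zf6)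 (kf xf11 yf48 zf7) (kf xf9 yf11 zf10) (kf xf5 yf50 zf10) (kf xf11 yf48 zf5) (kf xf9 yf13 zf21) (kf xf11 yf0 zf21) (kf xf11 yf48 zf35) (kf xf2 yf57 zf4)) (@D3.rec (fun _ => Pt) (kf xf9 yf11 zf23) (kf xf9 yf11 zf24) (kf xf9 yf13 zf9) (kf xf9 yf13 zf8) (kf xf9 yf13 zf10) (kf xf4 yf57 zf56) (kf xf5 yf45 zf45) (kf xf6 yf46 zf48) (kf xf8 yf58 zf49) (kf xf4 yf36 zf30) (kf xf3 yf5 zf35) (kf xf9 yf12 zf47) (kf xf3 yf16 zf42) (kf xf11 yf48 zf53) (kf xf2 yf57 zf19) (kf xf2 yf57 zf18) (kf xf2 yf57 zf13) (kf xf9 yf12 zf53) (kf xf9 yf13 zf49) (kf xf9 yf31 zf32) (kf xf3 yf16 zf43) (kf xf9 yf12 zf56) (kf xf11 yf49 zf5) (kf xf11 yf48 zf51) (kf xf10 yf37 zf39) (kf xf11 yf49 zf13) (kf xf2 yf57 zf17) (kf xf11 yf48 zf55) (kf xf5 yf55 zf13) (kf xf9 yf31 zf36) (kf xf9 yf41 zf61) (kf xf11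 yf48 zf54) (kf xf9 yf13 zf56) (kf xf9 yf13 zf35) (kf xf9 yf13 zf34) (kf xf9 yf11 zf34) (kf xf9 yf11 zf35) (kf xf9 yf12 zf25) (kf xf4 yf7 zf22) (kf xf6 yf6 zf52) (kf xf9 yf13 zf61) (kf xf4 yf35 zf41) (kf xf11 yf49 zf32) (kf xf11 yf30 zf40) (kf xf5 yf50 zf25) (kf xf5 yf50 zf21) (kf xf11 yf49 zf39) (kf xf6 yf3 zf33) (kf xf2 yf57 zf28) (kf xf3 yf10 zf23) (kf xf9 yf8 zf2) (kf xf9 yf14 zf1) (kf xf9 yf13 zf16) (kf xf9 yf14 zf2) (kf xf9 yf14 zf3) (kf xf9 yf14 zf4) (kf xf5 yf49 zf24) (kf xf9 yf13 zf23) (kf xf9 yf13 zf24) (kf xf6 yf8 zf26) (kf xf3 yf8 zf35) (kf xf3 yf10 zf53)) (@D3.rec (fun _ => Pt) (kf xf9 yf12 zf22) (kf xf9 yf13 zf60) (kf xf9 yf13 zf59) (kf xf4 yf36 zf32) (kf xf5 yf49 zf32) (kf xf5 yf49 zf31) (kf xf9 yf14 zf6) (kf xf9 yf13 zf38) (kf xf9 yf7 zf14) (kf xf9 yf13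 zf46) (kf xf9 yf13 zf47) (kf xf9 yf12 zf55) (kf xf9 yf13 zf50) (kf xf9 yf13 zf52) (kf xf9 yf13 zf53) (kf xf9 yf13 zf54) (kf xf11 yf14 zf36) (kf xf7 yf44 zf22) (kf xf7 yf44 zf24) (kf xf9 yf18 zf7) (kf xf6 yf51 zf22) (kf xf5 yf49 zf29) (kf xf4 yf34 zf9) (kf xf10 yf17 zf50) (kf xf9 yf14 zf10) (kf xf9 yf14 zf11) (kf xf6 yf16 zf31) (kf xf9 yf14 zf12) (kf xf11 yf50 zf41) (kf xf8 yf59 zf35) (kf xf5 yf52 zf39) (kf xf9 yf14 zf14) (kf xf6 yf21 zf47) (kf xf6 yf2 zf47) (kf xf6 yf22 zf29) (kf xf2 yf57 zf55) (kf xf9 yf14 zf8) (kf xf11 yf50 zf50) (kf xf9 yf14 zf17) (kf xf9 yf14 zf16) (kf xf2 yf57 zf57) (kf xf9 yf14 zf26) (kf xf11 yf50 zf56) (kf xf9 yf14 zf28) (kf xf11 yf51 zf1) (kf xf9 yf14 zf24) (kf xf9 yf14 zf23) (kf xf2 yf57 zf60) (kf xf9 yf14 zf19) (kf xf5 yf33 zf11) (kf xf9 yf14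 zf21) (kf xf11 yf51 zf14) (kf xf9 yf14 zf31) (kf xf9 yf14 zf30) (kf xf2 yf58 zf1) (kf xf9 yf14 zf35) (kf xf11 yf51 zf25) (kf xf9 yf14 zf33) (kf xf10 yf55 zf32) (kf xf11 yf22 zf59) (kf xf11 yf22 zf60) (kf xf11 yf22 zf61)) (@D3.rec (fun _ => Pt) (kf xf4 yf39 zf28) (kf xf6 yf46 zf14) (kf xf9 yf6 zf21) (kf xf11 yf51 zf48) (kf xf9 yf14 zf42) (kf xf6 yf22 zf27) (kf xf5 yf50 zf18) (kf xf6 yf43 zf6) (kf xf2 yf58 zf8) (kf xf3 yf4 zf28) (kf xf3 yf5 zf45) (kf xf5 yf0 zf25) (kf xf11 yf51 zf58) (kf xf5 yf31 zf56) (kf xf5 yf47 zf43) (kf xf5 yf49 zf2) (kf xf4 yf52 zf60) (kf xf6 yf4 zf20) (kf xf8 yf32 zf41) (kf xf8 yf32 zf42) (kf xf6 yf4 zf17) (kf xf8 yf21 zf12) (kf xf8 yf21 zf13) (kf xf2 yf58 zf37) (kf xf2 yf58 zf31) (kf xf11 yf52 zf19) (kf xf2 yf58 zf43) (kf xf11 yf52 zf23) (kf xf2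 yf58 zf46) (kf xf2 yf58 zf45) (kf xf11 yf52 zf34) (kf xf8 yf14 zf0) (kf xf2 yf58 zf26) (kf xf4 yf27 zf41) (kf xf6 yf4 zf48) (kf xf11 yf52 zf43) (kf xf8 yf6 zf40) (kf xf11 yf52 zf47) (kf xf11 yf52 zf13) (kf xf11 yf52 zf12) (kf xf11 yf52 zf16) (kf xf11 yf52 zf58) (kf xf5 yf24 zf48) (kf xf5 yf24 zf47) (kf xf2 yf58 zf32) (kf xf4 yf2 zf57) (kf xf4 yf2 zf59) (kf xf8 yf36 zf42) (kf xf6 yf4 zf34) (kf xf10 yf46 zf34) (kf xf11 yf52 zf14) (kf xf11 yf52 zf15) (kf xf11 yf53 zf8) (kf xf4 yf27 zf49) (kf xf11 yf52 zf18) (kf xf2 yf58 zf38) (kf xf4 yf6 zf39) (kf xf11 yf53 zf14) (kf xf4 yf20 zf21) (kf xf5 yf23 zf20) (kf xf11 yf53 zf21) (kf xf11 yf52 zf22)) (@D3.rec (fun _ => Pt) (kf xf5 yf26 zf38) (kf xf2 yf58 zf41) (kf xf11 yf53 zf28) (kf xf11 yf52 zf20) (kf xf10 yf37 zf15) (kf xf11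 yf53 zf38) (kf xf5 yf23 zf16) (kf xf5 yf23 zf15) (kf xf2 yf58 zf44) (kf xf11 yf52 zf27) (kf xf11 yf52 zf28) (kf xf11 yf53 zf49) (kf xf11 yf52 zf24) (kf xf11 yf52 zf25) (kf xf11 yf53 zf58) (kf xf11 yf54 zf3) (kf xf11 yf53 zf60) (kf xf11 yf53 zf59) (kf xf11 yf54 zf11) (kf xf2 yf58 zf47) (kf xf11 yf52 zf36) (kf xf11 yf52 zf35) (kf xf8 yf13 zf7) (kf xf11 yf54 zf21) (kf xf2 yf58 zf48) (kf xf4 yf28 zf40) (kf xf4 yf28 zf41) (kf xf4 yf28 zf42) (kf xf5 yf26 zf7) (kf xf5 yf26 zf8) (kf xf5 yf26 zf9) (kf xf5 yf26 zf10) (kf xf11 yf54 zf42) (kf xf8 yf15 zf15) (kf xf8 yf15 zf14) (kf xf2 yf58 zf52) (kf xf5 yf10 zf27) (kf xf5 yf26 zf14) (kf xf5 yf26 zf15) (kf xf5 yf26 zf16) (kf xf5 yf26 zf17) (kf xf5 yf21 zf37) (kf xf5 yf8 zf30) (kf xf11 yf54 zf59) (kf xf5 yf17 zf14) (kf xf5 yf25 zf50)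 (kf xf5 yf25 zf53) (kf xf5 yf25 zf54) (kf xf5 yf25 zf55) (kf xf5 yf25 zf56) (kf xf11 yf55 zf10) (kf xf4 yf29 zf6) (kf xf2 yf59 zf1) (kf xf5 yf26 zf0) (kf xf5 yf26 zf1) (kf xf5 yf26 zf2) (kf xf11 yf5 zf30) (kf xf5 yf38 zf49) (kf xf4 yf28 zf56) (kf xf5 yf16 zf61) (kf xf5 yf26 zf43) (kf xf5 yf26 zf44)) (@D3.rec (fun _ => Pt) (kf xf11 yf55 zf29) (kf xf8 yf15 zf20) (kf xf5 yf32 zf33) (kf xf2 yf59 zf8) (kf xf5 yf26 zf49) (kf xf5 yf26 zf50) (kf xf5 yf26 zf51) (kf xf5 yf26 zf52) (kf xf5 yf53 zf3) (kf xf4 yf33 zf60) (kf xf5 yf26 zf36) (kf xf5 yf26 zf35) (kf xf5 yf40 zf6) (kf xf5 yf21 zf52) (kf xf4 yf12 zf6) (kf xf4 yf30 zf1) (kf xf5 yf26 zf23) (kf xf4 yf13 zf56) (kf xf5 yf26 zf24) (kf xf5 yf26 zf25) (kf xf11 yf55 zf61) (kf xf5 yf31 zf21) (kf xf8 yf29 zf17) (kf xf2 yf59 zf16)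 (kf xf5 yf26 zf30) (kf xf5 yf26 zf31) (kf xf5 yf26 zf32) (kf xf5 yf26 zf33) (kf xf4 yf29 zf47) (kf xf5 yf21 zf57) (kf xf5 yf26 zf60) (kf xf5 yf26 zf61) (kf xf5 yf27 zf0) (kf xf5 yf27 zf1) (kf xf5 yf27 zf2) (kf xf9 yf7 zf7) (kf xf3 yf10 zf20) (kf xf9 yf1 zf38) (kf xf5 yf26 zf54) (kf xf5 yf26 zf56) (kf xf2 yf59 zf29) (kf xf2 yf59 zf28) (kf xf3 yf20 zf41) (kf xf9 yf4 zf22) (kf xf11 yf56 zf25) (kf xf9 yf15 zf15) (kf xf9 yf7 zf54) (kf xf9 yf15 zf14) (kf xf9 yf15 zf8) (kf xf9 yf15 zf36) (kf xf4 yf30 zf35) (kf xf5 yf27 zf20) (kf xf6 yf2 zf39) (kf xf5 yf27 zf22) (kf xf5 yf27 zf21) (kf xf2 yf59 zf34) (kf xf4 yf30 zf44) (kf xf8 yf14 zf11) (kf xf8 yf14 zf12) (kf xf8 yf14 zf13) (kf xf8 yf14 zf14) (kf xf11 yf56 zf60)) (@D3.rec (fun _ => Pt) (kf xf8 yf27 zf21) (kf xf8 yf27 zf20)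 (kf xf2 yf59 zf37) (kf xf8 yf14 zf16) (kf xf8 yf14 zf17) (kf xf8 yf14 zf18) (kf xf5 yf57 zf23) (kf xf8 yf13 zf26) (kf xf5 yf36 zf54) (kf xf4 yf30 zf61) (kf xf5 yf14 zf29) (kf xf2 yf59 zf44) (kf xf8 yf14 zf6) (kf xf8 yf14 zf7) (kf xf11 yf57 zf21) (kf xf4 yf31 zf19) (kf xf2 yf59 zf47) (kf xf6 yf45 zf14) (kf xf6 yf45 zf18) (kf xf11 yf57 zf27) (kf xf6 yf7 zf47) (kf xf2 yf59 zf49) (kf xf4 yf30 zf54) (kf xf8 yf14 zf56) (kf xf8 yf14 zf55) (kf xf2 yf59 zf52) (kf xf4 yf34 zf20) (kf xf4 yf34 zf22) (kf xf5 yf38 zf46) (kf xf5 yf31 zf57) (kf xf4 yf42 zf49) (kf xf4 yf42 zf50) (kf xf6 yf14 zf35) (kf xf6 yf16 zf8) (kf xf4 yf42 zf35) (kf xf8 yf3 zf30) (kf xf8 yf12 zf11) (kf xf5 yf54 zf58) (kf xf8 yf12 zf12) (kf xf5 yf50 zf11) (kf xf4 yf23 zf57) (kf xf8 yf3 zf34) (kf xf4 yf22 zf33) (kf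 xf8 yf12 zf10) (kf xf11 yf57 zf54) (kf xf4 yf38 zf26) (kf xf8 yf12 zf14) (kf xf6 yf7 zf20) (kf xf8 yf57 zf42) (kf xf3 yf0 zf3) (kf xf3 yf0 zf11) (kf xf7 yf27 zf15) (kf xf3 yf0 zf7) (kf xf5 yf37 zf19) (kf xf10 yf5 zf30) (kf xf11 yf7 zf7) (kf xf10 yf4 zf48) (kf xf11 yf58 zf2) (kf xf5 yf53 zf11) (kf xf3 yf0 zf12) (kf xf9 yf17 zf42) (kf xf5 yf57 zf54)) (@D3.rec (fun _ => Pt) (kf xf5 yf58 zf3) (kf xf11 yf58 zf6) (kf xf9 yf47 zf23) (kf xf5 yf27 zf17) (kf xf7 yf27 zf17) (kf xf11 yf58 zf15) (kf xf3 yf0 zf15) (kf xf6 yf1 zf14) (kf xf11 yf40 zf60) (kf xf3 yf0 zf16) (kf xf11 yf58 zf18) (kf xf8 yf12 zf3) (kf xf8 yf12 zf2) (kf xf11 yf56 zf44) (kf xf3 yf0 zf20) (kf xf7 yf53 zf17) (kf xf11 yf29 zf4) (kf xf8 yf12 zf9) (kf xf8 yf12 zf8) (kf xf5 yf27 zf15) (kf xf5 yf27 zf16) (kf xf5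 yf27 zf14) (kf xf11 yf58 zf34) (kf xf4 yf34 zf41) (kf xf10 yf17 zf27) (kf xf3 yf0 zf24) (kf xf6 yf2 zf59) (kf xf5 yf52 zf8) (kf xf9 yf15 zf17) (kf xf3 yf0 zf28) (kf xf9 yf15 zf21) (kf xf9 yf15 zf20) (kf xf5 yf49 zf47) (kf xf3 yf0 zf34) (kf xf5 yf43 zf54) (kf xf3 yf24 zf44) (kf xf9 yf16 zf31) (kf xf9 yf16 zf34) (kf xf11 yf58 zf49) (kf xf11 yf40 zf53) (kf xf11 yf40 zf52) (kf xf11 yf58 zf57) (kf xf3 yf0 zf39) (kf xf11 yf38 zf26) (kf xf11 yf40 zf58) (kf xf11 yf40 zf59) (kf xf9 yf31 zf1) (kf xf11 yf25 zf33) (kf xf11 yf40 zf56) (kf xf11 yf40 zf57) (kf xf11 yf39 zf55) (kf xf5 yf12 zf28) (kf xf5 yf44 zf10) (kf xf9 yf45 zf25) (kf xf9 yf15 zf40) (kf xf9 yf15 zf41) (kf xf9 yf17 zf18) (kf xf9 yf15 zf43) (kf xf9 yf15 zf37) (kf xf9 yf15 zf38) (kf xf11 yf38 zf61) (kf xf5 yf50 zf26))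 (@D3.rec (fun _ => Pt) (kf xf10 yf4 zf5) (kf xf5 yf46 zf53) (kf xf5 yf0 zf31) (kf xf5 yf46 zf54) (kf xf11 yf19 zf11) (kf xf5 yf37 zf12) (kf xf5 yf42 zf24) (kf xf11 yf59 zf20) (kf xf11 yf12 zf26) (kf xf5 yf39 zf61) (kf xf11 yf59 zf28) (kf xf4 yf25 zf31) (kf xf4 yf25 zf30) (kf xf11 yf59 zf37) (kf xf3 yf0 zf59) (kf xf4 yf25 zf35) (kf xf8 yf48 zf47) (kf xf3 yf0 zf60) (kf xf3 yf13 zf42) (kf xf7 yf25 zf46) (kf xf6 yf48 zf2) (kf xf6 yf52 zf32) (kf xf6 yf48 zf4) (kf xf6 yf48 zf5) (kf xf11 yf59 zf45) (kf xf3 yf40 zf2) (kf xf9 yf33 zf1) (kf xf9 yf33 zf2) (kf xf9 yf33 zf3) (kf xf9 yf33 zf4) (kf xf9 yf33 zf5) (kf xf12 yf0 zf4) (kf xf3 yf14 zf41) (kf xf3 yf14 zf48) (kf xf6 yf32 zf61) (kf xf4 yf43 zf59) (kf xf4 yf44 zf1) (kf xf6 yf23 zf58) (kf xf4 yf42 zf29) (kf xf6 yf41 zf29) (kf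 xf6 yf48 zf13) (kf xf6 yf48 zf15) (kf xf6 yf48 zf16) (kf xf6 yf48 zf17) (kf xf6 yf48 zf18) (kf xf6 yf48 zf22) (kf xf6 yf48 zf23) (kf xf6 yf48 zf24) (kf xf3 yf1 zf42) (kf xf12 yf0 zf41) (kf xf3 yf2 zf24) (kf xf3 yf2 zf23) (kf xf6 yf36 zf34) (kf xf3 yf1 zf23) (kf xf3 yf15 zf13) (kf xf3 yf18 zf52) (kf xf4 yf11 zf37) (kf xf3 yf35 zf20) (kf xf6 yf19 zf16) (kf xf6 yf27 zf56) (kf xf3 yf1 zf30) (kf xf6 yf24 zf3)) (@D3.rec (fun _ => Pt) (kf xf6 yf26 zf15) (kf xf12 yf0 zf56) (kf xf7 yf19 zf37) (kf xf3 yf1 zf36) (kf xf6 yf41 zf32) (kf xf6 yf41 zf31) (kf xf4 yf16 zf55) (kf xf6 yf41 zf35) (kf xf12 yf0 zf36) (kf xf12 yf0 zf37) (kf xf9 yf9 zf57) (kf xf3 yf30 zf12) (kf xf12 yf1 zf18) (kf xf12 yf1 zf20) (kf xf3 yf2 zf10) (kf xf3 yf1 zf44) (kf xf3 yf2 zf18) (kf xf3 yf2 zf19) (kf xf3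 yf2 zf20) (kf xf12 yf1 zf26) (kf xf3 yf2 zf15) (kf xf3 yf2 zf16) (kf xf9 yf21 zf11) (kf xf3 yf15 zf16) (kf xf3 yf15 zf17) (kf xf11 yf50 zf5) (kf xf3 yf1 zf53) (kf xf3 yf15 zf46) (kf xf3 yf14 zf17) (kf xf3 yf15 zf50) (kf xf3 yf15 zf51) (kf xf3 yf15 zf52) (kf xf3 yf15 zf53) (kf xf12 yf1 zf42) (kf xf12 yf1 zf44) (kf xf12 yf1 zf48) (kf xf3 yf1 zf56) (kf xf3 yf15 zf42) (kf xf12 yf1 zf25) (kf xf3 yf45 zf29) (kf xf3 yf45 zf30) (kf xf3 yf45 zf31) (kf xf3 yf45 zf13) (kf xf3 yf17 zf58) (kf xf6 yf18 zf21) (kf xf12 yf1 zf61) (kf xf6 yf18 zf22) (kf xf9 yf32 zf50) (kf xf12 yf2 zf6) (kf xf9 yf32 zf49) (kf xf3 yf2 zf2) (kf xf9 yf15 zf23) (kf xf4 yf59 zf0) (kf xf5 yf55 zf36) (kf xf11 yf39 zf57) (kf xf6 yf38 zf56) (kf xf12 yf2 zf16) (kf xf7 yf26 zf60) (kf xf12 yf2 zf21) (kf xf10 yf18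 zf57) (kf xf12 yf2 zf14) (kf xf10 yf13 zf10)) (@D3.rec (fun _ => Pt) (kf xf3 yf2 zf7) (kf xf12 yf1 zf19) (kf xf6 yf29 zf10) (kf xf10 yf12 zf54) (kf xf3 yf2 zf8) (kf xf6 yf28 zf38) (kf xf10 yf14 zf19) (kf xf3 yf45 zf21) (kf xf12 yf2 zf39) (kf xf3 yf45 zf20) (kf xf6 yf18 zf35) (kf xf10 yf13 zf11) (kf xf3 yf2 zf14) (kf xf12 yf0 zf39) (kf xf10 yf14 zf33) (kf xf12 yf2 zf43) (kf xf3 yf14 zf58) (kf xf6 yf29 zf25) (kf xf9 yf21 zf38) (kf xf3 yf15 zf29) (kf xf12 yf1 zf27) (kf xf12 yf2 zf57) (kf xf3 yf14 zf32) (kf xf3 yf18 zf46) (kf xf3 yf2 zf17) (kf xf3 yf13 zf52) (kf xf6 yf25 zf39) (kf xf6 yf28 zf25) (kf xf6 yf25 zf42) (kf xf12 yf1 zf22) (kf xf12 yf1 zf23) (kf xf12 yf3 zf4) (kf xf6 yf29 zf24) (kf xf3 yf15 zf6) (kf xf9 yf28 zf58) (kf xf3 yf2 zf21) (kf xf3 yf2 zf25) (kf xf7 yf31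 zf30) (kf xf12 yf0 zf42) (kf xf6 yf25 zf41) (kf xf7 yf31 zf29) (kf xf10 yf53 zf21) (kf xf9 yf21 zf39) (kf xf12 yf3 zf8) (kf xf3 yf18 zf49) (kf xf3 yf18 zf50) (kf xf3 yf18 zf53) (kf xf3 yf18 zf54) (kf xf3 yf18 zf55) (kf xf3 yf18 zf56) (kf xf3 yf2 zf31) (kf xf3 yf2 zf30) (kf xf3 yf2 zf29) (kf xf12 yf3 zf32) (kf xf9 yf4 zf13) (kf xf5 yf50 zf55) (kf xf10 yf11 zf21) (kf xf12 yf3 zf31) (kf xf11 yf35 zf59) (kf xf6 yf44 zf60) (kf xf11 yf14 zf26) (kf xf12 yf3 zf46)) (@D3.rec (fun _ => Pt) (kf xf3 yf2 zf32) (kf xf9 yf17 zf21) (kf xf9 yf17 zf22) (kf xf6 yf46 zf50) (kf xf9 yf17 zf24) (kf xf9 yf17 zf19) (kf xf9 yf17 zf20) (kf xf12 yf3 zf58) (kf xf6 yf45 zf23) (kf xf6 yf45 zf38) (kf xf11 yf32 zf52) (kf xf6 yf45 zf44) (kf xf9 yf17 zf26) (kf xf12 yf4 zf6) (kf xf6 yf46 zf46) (kf xf9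 yf17 zf28) (kf xf9 yf31 zf57) (kf xf5 yf46 zf60) (kf xf3 yf13 zf57) (kf xf12 yf4 zf15) (kf xf3 yf14 zf6) (kf xf9 yf17 zf41) (kf xf12 yf4 zf19) (kf xf3 yf25 zf32) (kf xf6 yf17 zf51) (kf xf12 yf4 zf14) (kf xf3 yf14 zf23) (kf xf3 yf2 zf47) (kf xf4 yf57 zf54) (kf xf9 yf46 zf38) (kf xf6 yf26 zf61) (kf xf9 yf17 zf44) (kf xf11 yf48 zf42) (kf xf3 yf14 zf61) (kf xf9 yf16 zf60) (kf xf3 yf15 zf2) (kf xf9 yf17 zf33) (kf xf9 yf17 zf34) (kf xf6 yf17 zf33) (kf xf6 yf17 zf34) (kf xf9 yf17 zf37) (kf xf11 yf30 zf23) (kf xf9 yf17 zf39) (kf xf12 yf4 zf39) (kf xf8 yf14 zf35) (kf xf6 yf21 zf45) (kf xf3 yf3 zf13) (kf xf6 yf17 zf50) (kf xf6 yf17 zf52) (kf xf6 yf17 zf46) (kf xf6 yf17 zf47) (kf xf9 yf16 zf8) (kf xf6 yf17 zf48) (kf xf6 yf17 zf54) (kf xf6 yf17 zf55) (kf xf6 yf19 zf17) (kf xf4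 yf45 zf4) (kf xf6 yf17 zf53) (kf xf9 yf28 zf11) (kf xf6 yf17 zf57) (kf xf4 yf41 zf54) (kf xf12 yf4 zf42)) (@D3.rec (fun _ => Pt) (kf xf11 yf58 zf36) (kf xf3 yf22 zf32) (kf xf3 yf22 zf33) (kf xf3 yf22 zf34) (kf xf9 yf8 zf33) (kf xf4 yf26 zf56) (kf xf4 yf26 zf57) (kf xf4 yf26 zf55) (kf xf4 yf26 zf60) (kf xf4 yf26 zf59) (kf xf8 yf51 zf51) (kf xf3 yf3 zf20) (kf xf4 yf27 zf4) (kf xf4 yf27 zf5) (kf xf3 yf59 zf22) (kf xf5 yf52 zf55) (kf xf3 yf59 zf32) (kf xf3 yf3 zf29) (kf xf12 yf5 zf30) (kf xf3 yf3 zf27) (kf xf4 yf58 zf55) (kf xf4 yf58 zf59) (kf xf5 yf50 zf58) (kf xf12 yf5 zf26) (kf xf11 yf27 zf42) (kf xf12 yf5 zf28) (kf xf12 yf5 zf27) (kf xf12 yf5 zf45) (kf xf3 yf3 zf30) (kf xf9 yf51 zf18) (kf xf6 yf46 zf31) (kf xf4 yf0 zf8) (kf xf4 yf0 zf9) (kf xf12 yf5 zf54) (kf xf4 yf26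 zf48) (kf xf4 yf26 zf44) (kf xf12 yf6 zf1) (kf xf3 yf3 zf38) (kf xf8 yf2 zf41) (kf xf8 yf2 zf40) (kf xf12 yf6 zf7) (kf xf3 yf3 zf39) (kf xf6 yf13 zf46) (kf xf7 yf14 zf27) (kf xf12 yf6 zf12) (kf xf8 yf2 zf5) (kf xf6 yf13 zf42) (kf xf8 yf4 zf52) (kf xf4 yf26 zf28) (kf xf4 yf25 zf15) (kf xf4 yf25 zf18) (kf xf4 yf26 zf29) (kf xf3 yf4 zf21) (kf xf3 yf4 zf20) (kf xf3 yf3 zf46) (kf xf7 yf25 zf12) (kf xf12 yf6 zf28) (kf xf8 yf45 zf30) (kf xf8 yf45 zf29) (kf xf12 yf6 zf35) (kf xf3 yf3 zf50) (kf xf4 yf22 zf60)) (@D3.rec (fun _ => Pt) (kf xf8 yf1 zf3) (kf xf12 yf6 zf42) (kf xf3 yf3 zf51) (kf xf5 yf46 zf38) (kf xf5 yf46 zf39) (kf xf5 yf12 zf57) (kf xf3 yf57 zf25) (kf xf5 yf46 zf36) (kf xf8 yf45 zf24) (kf xf8 yf45 zf25) (kf xf4 yf0 zf46) (kf xf12 yf6 zf52) (kf xf8 yf45 zf36) (kf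 xf8 yf45 zf35) (kf xf3 yf3 zf61) (kf xf5 yf47 zf19) (kf xf4 yf56 zf34) (kf xf5 yf47 zf24) (kf xf12 yf7 zf3) (kf xf4 yf56 zf35) (kf xf5 yf41 zf41) (kf xf3 yf4 zf3) (kf xf5 yf46 zf33) (kf xf5 yf46 zf32) (kf xf12 yf7 zf12) (kf xf3 yf4 zf4) (kf xf5 yf46 zf41) (kf xf11 yf23 zf38) (kf xf3 yf4 zf5) (kf xf12 yf7 zf17) (kf xf5 yf37 zf42) (kf xf12 yf7 zf21) (kf xf3 yf4 zf9) (kf xf5 yf54 zf11) (kf xf12 yf7 zf25) (kf xf6 yf7 zf32) (kf xf8 yf38 zf7) (kf xf9 yf19 zf26) (kf xf12 yf7 zf31) (kf xf3 yf4 zf16) (kf xf4 yf45 zf38) (kf xf12 yf7 zf37) (kf xf12 yf7 zf30) (kf xf12 yf7 zf29) (kf xf12 yf7 zf48) (kf xf3 yf4 zf15) (kf xf4 yf41 zf25) (kf xf12 yf7 zf50) (kf xf5 yf38 zf37) (kf xf12 yf6 zf22) (kf xf12 yf6 zf23) (kf xf12 yf7 zf60) (kf xf11 yf11 zf45) (kf xf12 yf6 zf21) (kf xf12 yf8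 zf7) (kf xf7 yf19 zf8) (kf xf7 yf19 zf7) (kf xf12 yf8 zf17) (kf xf3 yf4 zf22) (kf xf7 yf8 zf44) (kf xf5 yf46 zf23) (kf xf5 yf49 zf39)) (@D3.rec (fun _ => Pt) (kf xf11 yf39 zf31) (kf xf12 yf8 zf25) (kf xf8 yf51 zf37) (kf xf7 yf19 zf27) (kf xf7 yf19 zf4) (kf xf12 yf8 zf30) (kf xf7 yf27 zf44) (kf xf12 yf8 zf18) (kf xf7 yf15 zf10) (kf xf7 yf13 zf30) (kf xf12 yf8 zf37) (kf xf12 yf8 zf40) (kf xf9 yf51 zf23) (kf xf3 yf4 zf37) (kf xf5 yf46 zf45) (kf xf5 yf46 zf46) (kf xf5 yf46 zf44) (kf xf5 yf47 zf15) (kf xf5 yf47 zf51) (kf xf5 yf47 zf18) (kf xf5 yf49 zf8) (kf xf5 yf49 zf9) (kf xf3 yf4 zf48) (kf xf3 yf4 zf47) (kf xf9 yf45 zf35) (kf xf3 yf4 zf46) (kf xf9 yf44 zf40) (kf xf4 yf57 zf33) (kf xf5 yf49 zf17) (kf xf5 yf37 zf60) (kf xf9 yf44 zf41) (kf xf12 yf8 zf51) (kf xf9 yf45 zf32)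 (kf xf5 yf41 zf53) (kf xf11 yf12 zf22) (kf xf12 yf9 zf4) (kf xf5 yf37 zf54) (kf xf5 yf37 zf56) (kf xf4 yf36 zf58) (kf xf4 yf58 zf54) (kf xf5 yf53 zf27) (kf xf5 yf54 zf13) (kf xf12 yf9 zf13) (kf xf12 yf9 zf17) (kf xf3 yf4 zf58) (kf xf4 yf58 zf57) (kf xf5 yf54 zf27) (kf xf10 yf43 zf23) (kf xf5 yf54 zf37) (kf xf12 yf9 zf23) (kf xf3 yf4 zf60) (kf xf9 yf51 zf22) (kf xf4 yf32 zf51) (kf xf12 yf9 zf25) (kf xf3 yf5 zf0) (kf xf9 yf19 zf46) (kf xf8 yf12 zf18) (kf xf5 yf54 zf32) (kf xf12 yf9 zf33) (kf xf4 yf45 zf41) (kf xf12 yf9 zf38) (kf xf8 yf5 zf4)) (@D3.rec (fun _ => Pt) (kf xf8 yf12 zf20) (kf xf12 yf9 zf42) (kf xf3 yf5 zf6) (kf xf5 yf54 zf35) (kf xf5 yf50 zf30) (kf xf5 yf54 zf29) (kf xf11 yf49 zf54) (kf xf3 yf5 zf8) (kf xf6 yf7 zf33) (kf xf4 yf56 zf42) (kf xf4 yf36 zf50) (kf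 xf5 yf51 zf45) (kf xf3 yf5 zf10) (kf xf3 yf5 zf21) (kf xf4 yf56 zf43) (kf xf3 yf5 zf17) (kf xf3 yf5 zf18) (kf xf9 yf51 zf21) (kf xf3 yf5 zf24) (kf xf12 yf9 zf58) (kf xf3 yf5 zf14) (kf xf5 yf48 zf41) (kf xf5 yf38 zf25) (kf xf12 yf9 zf60) (kf xf11 yf28 zf3) (kf xf7 yf39 zf39) (kf xf4 yf36 zf25) (kf xf3 yf5 zf19) (kf xf12 yf10 zf4) (kf xf9 yf22 zf6) (kf xf5 yf34 zf25) (kf xf6 yf3 zf26) (kf xf3 yf5 zf22) (kf xf11 yf17 zf27) (kf xf11 yf35 zf20) (kf xf12 yf10 zf14) (kf xf9 yf22 zf21) (kf xf12 yf10 zf17) (kf xf12 yf9 zf57) (kf xf5 yf49 zf28) (kf xf12 yf10 zf26) (kf xf7 yf39 zf37) (kf xf3 yf5 zf25) (kf xf11 yf48 zf36) (kf xf9 yf17 zf51) (kf xf12 yf10 zf33) (kf xf5 yf28 zf44) (kf xf3 yf5 zf28) (kf xf4 yf26 zf10) (kf xf9 yf51 zf4) (kf xf5 yf49 zf30) (kf xf9 yf12 zf24) (kf xf12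 yf10 zf39) (kf xf12 yf10 zf38) (kf xf3 yf10 zf22) (kf xf3 yf5 zf32) (kf xf11 yf49 zf41) (kf xf9 yf2 zf18) (kf xf9 yf18 zf6) (kf xf9 yf18 zf5) (kf xf5 yf47 zf16) (kf xf5 yf47 zf17)) (@D3.rec (fun _ => Pt) (kf xf5 yf49 zf10) (kf xf5 yf38 zf36) (kf xf5 yf49 zf13) (kf xf5 yf49 zf14) (kf xf5 yf49 zf15) (kf xf5 yf37 zf37) (kf xf4 yf5 zf57) (kf xf5 yf46 zf61) (kf xf5 yf49 zf3) (kf xf11 yf51 zf53) (kf xf5 yf49 zf4) (kf xf5 yf30 zf34) (kf xf5 yf47 zf9) (kf xf8 yf14 zf49) (kf xf4 yf33 zf34) (kf xf6 yf19 zf48) (kf xf4 yf47 zf36) (kf xf6 yf20 zf44) (kf xf4 yf18 zf30) (kf xf4 yf47 zf37) (kf xf4 yf40 zf17) (kf xf12 yf11 zf15) (kf xf3 yf5 zf58) (kf xf3 yf5 zf54) (kf xf4 yf44 zf31) (kf xf12 yf11 zf22) (kf xf12 yf11 zf13) (kf xf12 yf11 zf12) (kf xf12 yf11 zf30) (kf xf3 yf5 zf57) (kf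 xf6 yf31 zf32) (kf xf12 yf11 zf16) (kf xf12 yf11 zf17) (kf xf6 yf12 zf38) (kf xf6 yf12 zf39) (kf xf4 yf41 zf3) (kf xf9 yf28 zf50) (kf xf4 yf47 zf31) (kf xf4 yf47 zf32) (kf xf9 yf39 zf5) (kf xf4 yf40 zf13) (kf xf4 yf53 zf37) (kf xf4 yf47 zf39) (kf xf4 yf47 zf40) (kf xf4 yf47 zf41) (kf xf4 yf47 zf42) (kf xf6 yf12 zf49) (kf xf6 yf12 zf50) (kf xf6 yf12 zf52) (kf xf4 yf7 zf19) (kf xf6 yf12 zf47) (kf xf6 yf12 zf24) (kf xf6 yf12 zf48) (kf xf6 yf12 zf57) (kf xf6 yf12 zf53) (kf xf6 yf12 zf54) (kf xf4 yf53 zf41) (kf xf6 yf12 zf59) (kf xf12 yf12 zf10) (kf xf12 yf12 zf12) (kf xf3 yf6 zf11) (kf xf4 yf50 zf27)) (@D3.rec (fun _ => Pt) (kf xf4 yf50 zf28) (kf xf4 yf50 zf29) (kf xf4 yf10 zf30) (kf xf3 yf15 zf14) (kf xf6 yf49 zf0) (kf xf3 yf18 zf19) (kf xf9 yf20 zf10) (kf xf6 yf18 zf41)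 (kf xf6 yf49 zf2) (kf xf6 yf49 zf3) (kf xf9 yf18 zf34) (kf xf7 yf31 zf34) (kf xf6 yf27 zf53) (kf xf6 yf29 zf16) (kf xf6 yf18 zf26) (kf xf12 yf3 zf2) (kf xf3 yf6 zf31) (kf xf3 yf6 zf30) (kf xf6 yf59 zf7) (kf xf3 yf6 zf24) (kf xf6 yf27 zf50) (kf xf6 yf10 zf44) (kf xf6 yf10 zf46) (kf xf3 yf15 zf54) (kf xf3 yf15 zf56) (kf xf6 yf29 zf21) (kf xf6 yf18 zf14) (kf xf12 yf12 zf58) (kf xf12 yf1 zf28) (kf xf6 yf37 zf3) (kf xf3 yf6 zf29) (kf xf6 yf28 zf35) (kf xf12 yf12 zf40) (kf xf12 yf12 zf41) (kf xf6 yf30 zf29) (kf xf6 yf11 zf10) (kf xf12 yf12 zf39) (kf xf6 yf30 zf0) (kf xf6 yf49 zf44) (kf xf6 yf37 zf18) (kf xf3 yf6 zf32) (kf xf6 yf18 zf7) (kf xf12 yf13 zf16) (kf xf6 yf22 zf33) (kf xf6 yf26 zf44) (kf xf6 yf27 zf51) (kf xf6 yf27 zf55) (kf xf6 yf27 zf57) (kf xf6 yf27 zf58) (kf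 xf6 yf29 zf51) (kf xf6 yf28 zf47) (kf xf6 yf28 zf29) (kf xf6 yf29 zf50) (kf xf12 yf13 zf37) (kf xf12 yf13 zf38) (kf xf3 yf6 zf46) (kf xf6 yf27 zf59) (kf xf6 yf27 zf60) (kf xf6 yf27 zf61) (kf xf6 yf27 zf31) (kf xf6 yf19 zf13) (kf xf6 yf50 zf58)) (@D3.rec (fun _ => Pt) (kf xf6 yf29 zf34) (kf xf3 yf6 zf53) (kf xf6 yf29 zf31) (kf xf6 yf30 zf16) (kf xf6 yf28 zf17) (kf xf6 yf52 zf44) (kf xf6 yf30 zf30) (kf xf6 yf28 zf30) (kf xf6 yf28 zf49) (kf xf6 yf29 zf46) (kf xf7 yf31 zf10) (kf xf8 yf34 zf49) (kf xf3 yf7 zf0) (kf xf6 yf18 zf60) (kf xf6 yf27 zf33) (kf xf6 yf28 zf9) (kf xf6 yf9 zf58) (kf xf6 yf12 zf55) (kf xf6 yf28 zf20) (kf xf6 yf28 zf44) (kf xf6 yf28 zf43) (kf xf12 yf14 zf6) (kf xf3 yf7 zf7) (kf xf6 yf28 zf48) (kf xf9 yf21 zf58) (kf xf6 yf29 zf28) (kf xf3 yf7 zf11) (kf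 xf3 yf30 zf13) (kf xf12 yf14 zf12) (kf xf12 yf4 zf45) (kf xf6 yf28 zf26) (kf xf6 yf23 zf2) (kf xf3 yf7 zf14) (kf xf6 yf28 zf28) (kf xf9 yf19 zf53) (kf xf9 yf19 zf54) (kf xf9 yf18 zf13) (kf xf9 yf13 zf51) (kf xf12 yf14 zf25) (kf xf3 yf7 zf49) (kf xf3 yf7 zf48) (kf xf11 yf10 zf40) (kf xf3 yf7 zf19) (kf xf3 yf7 zf56) (kf xf3 yf7 zf57) (kf xf3 yf7 zf58) (kf xf3 yf7 zf52) (kf xf3 yf7 zf53) (kf xf6 yf17 zf15) (kf xf9 yf20 zf7) (kf xf6 yf37 zf23) (kf xf8 yf34 zf45) (kf xf6 yf37 zf24) (kf xf9 yf20 zf8) (kf xf6 yf21 zf0) (kf xf6 yf20 zf61) (kf xf9 yf26 zf59) (kf xf4 yf45 zf34) (kf xf4 yf44 zf51) (kf xf4 yf47 zf16) (kf xf3 yf7 zf33) (kf xf6 yf38 zf19)) (@D3.rec (fun _ => Pt) (kf xf6 yf39 zf55) (kf xf6 yf47 zf53) (kf xf6 yf40 zf58) (kf xf12 yf14 zf53) (kf xf3 yf7 zf36) (kf xf6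 yf51 zf19) (kf xf6 yf29 zf13) (kf xf7 yf30 zf58) (kf xf9 yf19 zf58) (kf xf9 yf10 zf37) (kf xf6 yf49 zf48) (kf xf7 yf31 zf21) (kf xf9 yf20 zf2) (kf xf12 yf15 zf6) (kf xf9 yf20 zf3) (kf xf9 yf10 zf3) (kf xf9 yf10 zf4) (kf xf12 yf15 zf11) (kf xf6 yf47 zf58) (kf xf12 yf15 zf16) (kf xf3 yf7 zf44) (kf xf6 yf28 zf54) (kf xf12 yf15 zf20) (kf xf12 yf4 zf58) (kf xf12 yf14 zf23) (kf xf9 yf12 zf18) (kf xf12 yf15 zf26) (kf xf3 yf7 zf47) (kf xf12 yf14 zf27) (kf xf8 yf22 zf25) (kf xf10 yf14 zf41) (kf xf12 yf14 zf26) (kf xf9 yf1 zf11) (kf xf6 yf29 zf1) (kf xf12 yf14 zf28) (kf xf3 yf7 zf50) (kf xf6 yf49 zf31) (kf xf6 yf59 zf1) (kf xf4 yf47 zf51) (kf xf5 yf30 zf58) (kf xf6 yf29 zf8) (kf xf6 yf35 zf12) (kf xf11 yf31 zf42) (kf xf6 yf29 zf14) (kf xf6 yf17 zf17) (kf xf9 yf15 zf45) (kf xf4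 yf45 zf46) (kf xf12 yf14 zf29) (kf xf12 yf14 zf30) (kf xf5 yf30 zf45) (kf xf6 yf28 zf36) (kf xf3 yf8 zf10) (kf xf6 yf59 zf4) (kf xf3 yf53 zf35) (kf xf9 yf15 zf46) (kf xf9 yf15 zf56) (kf xf9 yf20 zf9) (kf xf3 yf9 zf37) (kf xf8 yf23 zf47) (kf xf9 yf15 zf47) (kf xf12 yf15 zf55) (kf xf6 yf19 zf55)) (@D3.rec (fun _ => Pt) (kf xf6 yf19 zf54) (kf xf4 yf53 zf33) (kf xf4 yf53 zf34) (kf xf4 yf53 zf30) (kf xf6 yf36 zf20) (kf xf6 yf21 zf8) (kf xf6 yf59 zf25) (kf xf6 yf36 zf16) (kf xf6 yf21 zf5) (kf xf12 yf16 zf21) (kf xf6 yf37 zf53) (kf xf6 yf49 zf59) (kf xf3 yf16 zf12) (kf xf3 yf53 zf37) (kf xf12 yf16 zf12) (kf xf12 yf16 zf11) (kf xf12 yf16 zf38) (kf xf3 yf8 zf18) (kf xf9 yf19 zf4) (kf xf12 yf16 zf42) (kf xf10 yf13 zf25) (kf xf3 yf8 zf22) (kf xf6 yf49 zf1) (kf xf6 yf27 zf52) (kf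 xf6 yf36 zf27) (kf xf9 yf18 zf35) (kf xf6 yf36 zf17) (kf xf5 yf50 zf34) (kf xf9 yf18 zf36) (kf xf6 yf29 zf59) (kf xf9 yf18 zf37) (kf xf9 yf18 zf38) (kf xf9 yf18 zf39) (kf xf6 yf59 zf26) (kf xf6 yf29 zf57) (kf xf6 yf29 zf58) (kf xf4 yf59 zf14) (kf xf4 yf59 zf36) (kf xf5 yf50 zf35) (kf xf6 yf30 zf6) (kf xf5 yf50 zf33) (kf xf5 yf50 zf32) (kf xf9 yf18 zf32) (kf xf9 yf18 zf31) (kf xf6 yf42 zf52) (kf xf6 yf12 zf45) (kf xf9 yf18 zf40) (kf xf6 yf3 zf32) (kf xf6 yf47 zf43) (kf xf6 yf49 zf33) (kf xf6 yf27 zf35) (kf xf6 yf49 zf54) (kf xf6 yf49 zf55) (kf xf6 yf42 zf19) (kf xf4 yf45 zf29) (kf xf5 yf50 zf29) (kf xf5 yf51 zf37) (kf xf9 yf18 zf28) (kf xf9 yf18 zf29) (kf xf9 yf18 zf30) (kf xf8 yf25 zf1) (kf xf3 yf42 zf3)) (@D3.rec (fun _ => Pt) (kf xf9 yf18 zf15) (kf xf3 yf59 zf46)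 (kf xf5 yf50 zf28) (kf xf9 yf18 zf16) (kf xf4 yf5 zf42) (kf xf3 yf59 zf55) (kf xf9 yf18 zf17) (kf xf9 yf18 zf33) (kf xf6 yf43 zf5) (kf xf6 yf48 zf27) (kf xf6 yf44 zf2) (kf xf6 yf58 zf59) (kf xf7 yf31 zf35) (kf xf6 yf42 zf60) (kf xf6 yf42 zf61) (kf xf6 yf49 zf56) (kf xf9 yf18 zf41) (kf xf6 yf42 zf58) (kf xf6 yf42 zf59) (kf xf9 yf18 zf44) (kf xf9 yf18 zf45) (kf xf9 yf18 zf42) (kf xf9 yf18 zf43) (kf xf9 yf36 zf43) (kf xf9 yf36 zf44) (kf xf9 yf36 zf35) (kf xf9 yf36 zf45) (kf xf6 yf4 zf5) (kf xf9 yf18 zf50) (kf xf6 yf3 zf34) (kf xf12 yf18 zf30) (kf xf3 yf8 zf56) (kf xf9 yf18 zf55) (kf xf6 yf18 zf43) (kf xf12 yf18 zf38) (kf xf8 yf20 zf50) (kf xf6 yf41 zf30) (kf xf9 yf18 zf57) (kf xf9 yf18 zf58) (kf xf9 yf19 zf0) (kf xf9 yf19 zf1) (kf xf9 yf19 zf2) (kf xf9 yf18 zf21) (kf xf5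 yf4 zf19) (kf xf3 yf10 zf40) (kf xf6 yf27 zf34) (kf xf4 yf11 zf48) (kf xf7 yf11 zf21) (kf xf12 yf19 zf3) (kf xf6 yf50 zf57) (kf xf12 yf17 zf40) (kf xf6 yf57 zf56) (kf xf6 yf57 zf57) (kf xf7 yf11 zf22) (kf xf7 yf11 zf23) (kf xf12 yf19 zf23) (kf xf12 yf17 zf33) (kf xf12 yf19 zf2) (kf xf3 yf9 zf8) (kf xf9 yf18 zf52) (kf xf9 yf18 zf53) (kf xf9 yf18 zf54)) (@D3.rec (fun _ => Pt) (kf xf12 yf19 zf38) (kf xf6 yf24 zf20) (kf xf6 yf19 zf31) (kf xf3 yf18 zf32) (kf xf3 yf9 zf10) (kf xf9 yf19 zf5) (kf xf6 yf23 zf24) (kf xf6 yf28 zf57) (kf xf6 yf27 zf29) (kf xf12 yf19 zf47) (kf xf6 yf27 zf36) (kf xf6 yf27 zf37) (kf xf6 yf27 zf38) (kf xf6 yf27 zf39) (kf xf12 yf19 zf59) (kf xf12 yf13 zf54) (kf xf12 yf19 zf46) (kf xf3 yf9 zf16) (kf xf6 yf27 zf44) (kf xf6 yf27 zf45) (kf xf6 yf27 zf46)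 (kf xf12 yf20 zf8) (kf xf9 yf46 zf35) (kf xf3 yf9 zf18) (kf xf6 yf23 zf6) (kf xf3 yf9 zf24) (kf xf3 yf9 zf23) (kf xf12 yf20 zf16) (kf xf8 yf31 zf33) (kf xf4 yf42 zf24) (kf xf12 yf20 zf23) (kf xf3 yf9 zf22) (kf xf12 yf20 zf9) (kf xf8 yf31 zf34) (kf xf4 yf42 zf25) (kf xf12 yf20 zf35) (kf xf3 yf11 zf56) (kf xf3 yf11 zf54) (kf xf3 yf11 zf55) (kf xf3 yf11 zf4) (kf xf12 yf20 zf47) (kf xf8 yf24 zf30) (kf xf8 yf24 zf29) (kf xf3 yf9 zf27) (kf xf6 yf48 zf45) (kf xf6 yf48 zf41) (kf xf8 yf35 zf22) (kf xf8 yf35 zf17) (kf xf8 yf35 zf18) (kf xf8 yf35 zf20) (kf xf8 yf35 zf21) (kf xf8 yf35 zf27) (kf xf4 yf40 zf12) (kf xf9 yf19 zf12) (kf xf9 yf19 zf14) (kf xf9 yf15 zf54) (kf xf9 yf19 zf15) (kf xf9 yf19 zf16) (kf xf6 yf9 zf37) (kf xf6 yf48 zf54) (kf xf6 yf48 zf58) (kf xf9 yf19 zf20))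 (@D3.rec (fun _ => Pt) (kf xf12 yf16 zf0) (kf xf5 yf11 zf26) (kf xf3 yf22 zf2) (kf xf6 yf9 zf61) (kf xf12 yf21 zf22) (kf xf3 yf53 zf36) (kf xf7 yf11 zf38) (kf xf7 yf11 zf39) (kf xf12 yf21 zf34) (kf xf12 yf21 zf21) (kf xf12 yf3 zf16) (kf xf3 yf9 zf43) (kf xf7 yf11 zf41) (kf xf7 yf11 zf42) (kf xf7 yf11 zf43) (kf xf9 yf31 zf33) (kf xf3 yf9 zf45) (kf xf9 yf19 zf24) (kf xf3 yf22 zf6) (kf xf9 yf19 zf19) (kf xf6 yf23 zf1) (kf xf4 yf39 zf39) (kf xf4 yf39 zf38) (kf xf3 yf9 zf49) (kf xf5 yf56 zf7) (kf xf8 yf43 zf25) (kf xf11 yf57 zf34) (kf xf5 yf56 zf8) (kf xf10 yf1 zf59) (kf xf12 yf22 zf1) (kf xf3 yf9 zf53) (kf xf5 yf56 zf9) (kf xf4 yf56 zf39) (kf xf5 yf56 zf10) (kf xf8 yf52 zf6) (kf xf12 yf22 zf5) (kf xf3 yf9 zf56) (kf xf8 yf45 zf40) (kf xf12 yf22 zf10) (kf xf8 yf45 zf48) (kf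 xf12 yf22 zf15) (kf xf12 yf22 zf9) (kf xf12 yf22 zf8) (kf xf12 yf22 zf24) (kf xf3 yf9 zf59) (kf xf4 yf36 zf59) (kf xf8 yf42 zf53) (kf xf8 yf46 zf30) (kf xf8 yf46 zf31) (kf xf12 yf22 zf35) (kf xf8 yf46 zf27) (kf xf8 yf46 zf28) (kf xf12 yf22 zf43) (kf xf8 yf46 zf33) (kf xf12 yf22 zf50) (kf xf3 yf10 zf2) (kf xf7 yf25 zf13) (kf xf12 yf22 zf55) (kf xf7 yf20 zf20) (kf xf12 yf22 zf61) (kf xf7 yf23 zf5) (kf xf7 yf23 zf6)) (@D3.rec (fun _ => Pt) (kf xf12 yf22 zf51) (kf xf6 yf25 zf34) (kf xf12 yf23 zf8) (kf xf5 yf55 zf29) (kf xf4 yf25 zf59) (kf xf5 yf56 zf12) (kf xf12 yf23 zf15) (kf xf5 yf56 zf29) (kf xf5 yf56 zf30) (kf xf12 yf23 zf21) (kf xf5 yf56 zf38) (kf xf3 yf10 zf14) (kf xf5 yf56 zf13) (kf xf8 yf52 zf49) (kf xf10 yf39 zf37) (kf xf5 yf56 zf35) (kf xf5 yf56 zf36) (kf xf12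 yf23 zf30) (kf xf5 yf56 zf32) (kf xf12 yf23 zf34) (kf xf3 yf10 zf18) (kf xf10 yf39 zf30) (kf xf9 yf12 zf28) (kf xf5 yf45 zf30) (kf xf9 yf15 zf1) (kf xf12 yf10 zf46) (kf xf12 yf10 zf45) (kf xf5 yf34 zf49) (kf xf5 yf34 zf46) (kf xf3 yf57 zf27) (kf xf4 yf57 zf14) (kf xf4 yf57 zf24) (kf xf5 yf50 zf50) (kf xf5 yf50 zf49) (kf xf6 yf25 zf1) (kf xf12 yf23 zf53) (kf xf4 yf59 zf30) (kf xf3 yf10 zf30) (kf xf4 yf17 zf53) (kf xf6 yf11 zf26) (kf xf3 yf10 zf33) (kf xf6 yf11 zf39) (kf xf6 yf11 zf28) (kf xf3 yf10 zf36) (kf xf4 yf40 zf59) (kf xf5 yf12 zf20) (kf xf6 yf26 zf17) (kf xf4 yf18 zf51) (kf xf4 yf45 zf59) (kf xf6 yf50 zf17) (kf xf6 yf50 zf26) (kf xf6 yf50 zf28) (kf xf5 yf48 zf57) (kf xf5 yf48 zf59) (kf xf9 yf18 zf10) (kf xf4 yf59 zf61) (kf xf9 yf18 zf11) (kf xf9 yf11 zf8) (kf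 xf7 yf30 zf39) (kf xf9 yf18 zf12) (kf xf6 yf46 zf49) (kf xf5 yf55 zf12)) (@D3.rec (fun _ => Pt) (kf xf10 yf2 zf46) (kf xf11 yf58 zf35) (kf xf11 yf50 zf30) (kf xf11 yf21 zf9) (kf xf3 yf10 zf51) (kf xf6 yf30 zf18) (kf xf6 yf30 zf26) (kf xf6 yf32 zf41) (kf xf9 yf32 zf37) (kf xf11 yf49 zf55) (kf xf3 yf42 zf35) (kf xf3 yf25 zf30) (kf xf4 yf41 zf43) (kf xf5 yf5 zf44) (kf xf9 yf20 zf36) (kf xf6 yf10 zf0) (kf xf8 yf34 zf44) (kf xf6 yf25 zf46) (kf xf3 yf25 zf6) (kf xf6 yf48 zf7) (kf xf9 yf18 zf20) (kf xf7 yf11 zf44) (kf xf12 yf20 zf39) (kf xf12 yf20 zf43) (kf xf12 yf20 zf36) (kf xf8 yf25 zf32) (kf xf6 yf49 zf34) (kf xf6 yf49 zf35) (kf xf5 yf48 zf55) (kf xf9 yf20 zf17) (kf xf7 yf20 zf4) (kf xf7 yf20 zf3) (kf xf9 yf20 zf18) (kf xf3 yf59 zf43) (kf xf5 yf48 zf54) (kf xf5 yf48 zf56)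 (kf xf5 yf48 zf52) (kf xf9 yf20 zf15) (kf xf9 yf20 zf14) (kf xf6 yf43 zf54) (kf xf6 yf43 zf53) (kf xf9 yf20 zf19) (kf xf6 yf44 zf9) (kf xf3 yf18 zf20) (kf xf6 yf18 zf44) (kf xf3 yf45 zf6) (kf xf3 yf45 zf7) (kf xf3 yf38 zf11) (kf xf5 yf48 zf49) (kf xf6 yf36 zf40) (kf xf9 yf20 zf11) (kf xf9 yf20 zf12) (kf xf9 yf20 zf13) (kf xf3 yf18 zf7) (kf xf3 yf13 zf25) (kf xf4 yf59 zf12) (kf xf4 yf59 zf27) (kf xf5 yf48 zf50) (kf xf6 yf46 zf45) (kf xf4 yf33 zf51) (kf xf5 yf45 zf57) (kf xf6 yf12 zf30)) (@D3.rec (fun _ => Pt) (kf xf9 yf20 zf16) (kf xf6 yf44 zf8) (kf xf3 yf13 zf28) (kf xf6 yf50 zf11) (kf xf9 yf20 zf21) (kf xf4 yf43 zf48) (kf xf8 yf25 zf43) (kf xf6 yf44 zf0) (kf xf8 yf25 zf44) (kf xf9 yf20 zf20) (kf xf7 yf25 zf56) (kf xf6 yf59 zf6) (kf xf6 yf43 zf59) (kf xf6 yf43 zf60)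 (kf xf9 yf18 zf18) (kf xf9 yf20 zf23) (kf xf8 yf25 zf31) (kf xf9 yf20 zf22) (kf xf9 yf1 zf29) (kf xf9 yf29 zf1) (kf xf12 yf26 zf17) (kf xf12 yf26 zf12) (kf xf12 yf26 zf11) (kf xf12 yf26 zf25) (kf xf3 yf11 zf34) (kf xf9 yf20 zf30) (kf xf9 yf20 zf29) (kf xf3 yf11 zf35) (kf xf3 yf25 zf60) (kf xf6 yf23 zf8) (kf xf12 yf26 zf33) (kf xf6 yf18 zf59) (kf xf8 yf23 zf12) (kf xf6 yf19 zf14) (kf xf6 yf22 zf45) (kf xf6 yf21 zf50) (kf xf6 yf23 zf10) (kf xf6 yf23 zf11) (kf xf6 yf23 zf12) (kf xf6 yf23 zf13) (kf xf12 yf26 zf46) (kf xf12 yf26 zf32) (kf xf7 yf20 zf10) (kf xf3 yf11 zf43) (kf xf6 yf23 zf18) (kf xf6 yf23 zf19) (kf xf6 yf23 zf20) (kf xf12 yf26 zf59) (kf xf12 yf26 zf60) (kf xf3 yf11 zf45) (kf xf6 yf18 zf20) (kf xf6 yf18 zf45) (kf xf6 yf21 zf23) (kf xf6 yf18 zf12) (kf xf12 yf27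 zf6) (kf xf6 yf18 zf46) (kf xf6 yf9 zf59) (kf xf6 yf18 zf47) (kf xf6 yf18 zf48) (kf xf6 yf18 zf56) (kf xf6 yf18 zf57) (kf xf6 yf18 zf58)) (@D3.rec (fun _ => Pt) (kf xf12 yf20 zf37) (kf xf12 yf20 zf38) (kf xf12 yf24 zf43) (kf xf12 yf20 zf40) (kf xf12 yf20 zf41) (kf xf8 yf25 zf0) (kf xf6 yf48 zf26) (kf xf3 yf46 zf30) (kf xf3 yf46 zf31) (kf xf6 yf19 zf15) (kf xf4 yf41 zf58) (kf xf9 yf7 zf27) (kf xf9 yf7 zf28) (kf xf3 yf12 zf30) (kf xf3 yf12 zf31) (kf xf3 yf12 zf32) (kf xf8 yf33 zf29) (kf xf6 yf19 zf4) (kf xf12 yf0 zf3) (kf xf3 yf12 zf6) (kf xf6 yf19 zf18) (kf xf12 yf27 zf53) (kf xf3 yf17 zf3) (kf xf3 yf17 zf36) (kf xf12 yf11 zf61) (kf xf6 yf11 zf27) (kf xf6 yf19 zf30) (kf xf3 yf12 zf10) (kf xf6 yf19 zf33) (kf xf6 yf18 zf51) (kf xf6 yf19 zf7) (kf xf12 yf27 zf61) (kf xf4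 yf44 zf40) (kf xf12 yf11 zf32) (kf xf12 yf27 zf60) (kf xf6 yf18 zf31) (kf xf6 yf20 zf50) (kf xf3 yf12 zf16) (kf xf6 yf11 zf5) (kf xf3 yf17 zf31) (kf xf3 yf17 zf29) (kf xf12 yf28 zf7) (kf xf12 yf28 zf10) (kf xf6 yf19 zf20) (kf xf6 yf19 zf19) (kf xf12 yf28 zf14) (kf xf3 yf12 zf19) (kf xf6 yf18 zf50) (kf xf6 yf19 zf23) (kf xf6 yf19 zf8) (kf xf6 yf36 zf54) (kf xf9 yf20 zf44) (kf xf6 yf44 zf32) (kf xf6 yf49 zf19) (kf xf6 yf20 zf21) (kf xf10 yf6 zf4) (kf xf12 yf12 zf11) (kf xf6 yf23 zf7) (kf xf3 yf12 zf26) (kf xf6 yf44 zf23) (kf xf6 yf44 zf24) (kf xf12 yf28 zf25)) (@D3.rec (fun _ => Pt) (kf xf12 yf28 zf27) (kf xf6 yf20 zf33) (kf xf3 yf12 zf29) (kf xf12 yf27 zf46) (kf xf10 yf0 zf40) (kf xf12 yf28 zf32) (kf xf3 yf45 zf16) (kf xf4 yf44 zf18) (kf xf6 yf20 zf40) (kf xf12 yf28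 zf41) (kf xf6 yf11 zf2) (kf xf10 yf27 zf49) (kf xf12 yf28 zf44) (kf xf6 yf20 zf6) (kf xf6 yf20 zf43) (kf xf3 yf12 zf34) (kf xf6 yf18 zf13) (kf xf12 yf28 zf52) (kf xf3 yf12 zf40) (kf xf3 yf12 zf39) (kf xf3 yf12 zf36) (kf xf6 yf18 zf25) (kf xf3 yf16 zf32) (kf xf12 yf28 zf59) (kf xf6 yf11 zf32) (kf xf6 yf11 zf17) (kf xf12 yf29 zf4) (kf xf3 yf12 zf38) (kf xf6 yf19 zf25) (kf xf12 yf2 zf46) (kf xf9 yf20 zf41) (kf xf6 yf19 zf2) (kf xf12 yf28 zf53) (kf xf3 yf45 zf26) (kf xf6 yf19 zf0) (kf xf12 yf29 zf12) (kf xf3 yf12 zf51) (kf xf3 yf12 zf50) (kf xf3 yf12 zf47) (kf xf4 yf58 zf60) (kf xf12 yf29 zf10) (kf xf12 yf11 zf31) (kf xf12 yf29 zf21) (kf xf3 yf12 zf49) (kf xf11 yf2 zf7) (kf xf12 yf16 zf57) (kf xf6 yf19 zf9) (kf xf12 yf29 zf13) (kf xf12 yf17 zf35) (kf xf9 yf20 zf39) (kf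 xf6 yf18 zf52) (kf xf6 yf18 zf49) (kf xf3 yf45 zf36) (kf xf12 yf29 zf28) (kf xf5 yf52 zf48) (kf xf6 yf34 zf36) (kf xf12 yf29 zf39) (kf xf6 yf21 zf34) (kf xf6 yf21 zf35) (kf xf6 yf21 zf29) (kf xf3 yf28 zf40) (kf xf12 yf2 zf36)) (@D3.rec (fun _ => Pt) (kf xf6 yf18 zf37) (kf xf3 yf12 zf60) (kf xf4 yf58 zf46) (kf xf4 yf59 zf3) (kf xf11 yf27 zf22) (kf xf5 yf51 zf41) (kf xf6 yf21 zf39) (kf xf3 yf44 zf51) (kf xf6 yf49 zf23) (kf xf12 yf29 zf53) (kf xf5 yf52 zf44) (kf xf6 yf32 zf8) (kf xf12 yf29 zf60) (kf xf6 yf50 zf46) (kf xf3 yf23 zf54) (kf xf9 yf20 zf37) (kf xf6 yf19 zf3) (kf xf12 yf29 zf51) (kf xf6 yf26 zf5) (kf xf3 yf13 zf11) (kf xf3 yf59 zf35) (kf xf5 yf52 zf43) (kf xf4 yf29 zf60) (kf xf12 yf30 zf10) (kf xf4 yf41 zf6) (kf xf3 yf13 zf14) (kf xf6 yf26 zf6) (kf xf3 yf13 zf18)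 (kf xf3 yf13 zf19) (kf xf6 yf18 zf34) (kf xf6 yf19 zf6) (kf xf3 yf13 zf20) (kf xf5 yf51 zf59) (kf xf11 yf28 zf47) (kf xf5 yf51 zf53) (kf xf12 yf30 zf16) (kf xf4 yf41 zf15) (kf xf4 yf58 zf19) (kf xf4 yf58 zf43) (kf xf5 yf51 zf51) (kf xf12 yf25 zf49) (kf xf10 yf2 zf41) (kf xf3 yf33 zf0) (kf xf7 yf25 zf34) (kf xf3 yf13 zf31) (kf xf7 yf20 zf1) (kf xf6 yf31 zf25) (kf xf6 yf50 zf52) (kf xf6 yf31 zf26) (kf xf12 yf17 zf41) (kf xf7 yf26 zf43) (kf xf12 yf30 zf28) (kf xf6 yf53 zf49) (kf xf6 yf49 zf30) (kf xf11 yf18 zf26) (kf xf11 yf20 zf37) (kf xf3 yf13 zf37) (kf xf3 yf23 zf33) (kf xf6 yf51 zf28) (kf xf7 yf26 zf54) (kf xf12 yf30 zf38) (kf xf3 yf13 zf39)) (@D3.rec (fun _ => Pt) (kf xf7 yf26 zf13) (kf xf7 yf20 zf11) (kf xf7 yf20 zf9) (kf xf9 yf39 zf4) (kf xf11 yf59 zf41) (kf xf6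 yf49 zf46) (kf xf5 yf59 zf34) (kf xf6 yf46 zf20) (kf xf7 yf26 zf48) (kf xf4 yf42 zf60) (kf xf7 yf26 zf27) (kf xf7 yf26 zf28) (kf xf9 yf21 zf53) (kf xf3 yf14 zf13) (kf xf9 yf21 zf54) (kf xf3 yf14 zf21) (kf xf3 yf14 zf22) (kf xf12 yf4 zf20) (kf xf3 yf14 zf18) (kf xf7 yf19 zf61) (kf xf6 yf49 zf28) (kf xf7 yf26 zf59) (kf xf6 yf44 zf34) (kf xf4 yf26 zf17) (kf xf12 yf4 zf13) (kf xf6 yf30 zf46) (kf xf6 yf30 zf48) (kf xf12 yf31 zf12) (kf xf7 yf27 zf14) (kf xf7 yf27 zf13) (kf xf5 yf57 zf43) (kf xf5 yf58 zf34) (kf xf6 yf17 zf30) (kf xf3 yf13 zf59) (kf xf7 yf27 zf8) (kf xf7 yf27 zf9) (kf xf7 yf27 zf10) (kf xf7 yf27 zf1) (kf xf5 yf6 zf35) (kf xf3 yf14 zf0) (kf xf7 yf27 zf4) (kf xf7 yf27 zf5) (kf xf9 yf16 zf56) (kf xf12 yf31 zf24) (kf xf3 yf14 zf2) (kf xf7 yf27 zf18) (kf xf7 yf27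 zf19) (kf xf7 yf27 zf20) (kf xf6 yf42 zf11) (kf xf12 yf4 zf16) (kf xf11 yf6 zf40) (kf xf10 yf18 zf18) (kf xf7 yf27 zf23) (kf xf7 yf27 zf24) (kf xf7 yf27 zf25) (kf xf6 yf42 zf12) (kf xf10 yf6 zf58) (kf xf4 yf59 zf60) (kf xf12 yf24 zf5) (kf xf3 yf14 zf9) (kf xf7 yf24 zf59) (kf xf4 yf57 zf32)) (@D3.rec (fun _ => Pt) (kf xf7 yf25 zf21) (kf xf7 yf29 zf16) (kf xf7 yf29 zf15) (kf xf12 yf31 zf59) (kf xf3 yf14 zf12) (kf xf12 yf30 zf61) (kf xf10 yf52 zf17) (kf xf12 yf32 zf5) (kf xf6 yf30 zf11) (kf xf12 yf4 zf17) (kf xf12 yf31 zf0) (kf xf12 yf29 zf61) (kf xf12 yf32 zf13) (kf xf3 yf14 zf15) (kf xf6 yf41 zf1) (kf xf8 yf21 zf6) (kf xf12 yf28 zf29) (kf xf12 yf31 zf4) (kf xf10 yf15 zf26) (kf xf4 yf49 zf59) (kf xf6 yf42 zf29) (kf xf4 yf45 zf31) (kf xf4 yf48 zf25) (kf xf3 yf14 zf20)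 (kf xf12 yf31 zf2) (kf xf12 yf31 zf3) (kf xf12 yf4 zf22) (kf xf10 yf17 zf24) (kf xf6 yf47 zf40) (kf xf4 yf44 zf39) (kf xf9 yf21 zf31) (kf xf12 yf32 zf40) (kf xf6 yf42 zf49) (kf xf9 yf16 zf61) (kf xf3 yf14 zf26) (kf xf6 yf0 zf19) (kf xf9 yf21 zf36) (kf xf12 yf2 zf37) (kf xf6 yf40 zf20) (kf xf6 yf41 zf16) (kf xf6 yf45 zf5) (kf xf6 yf26 zf7) (kf xf6 yf50 zf47) (kf xf3 yf14 zf35) (kf xf6 yf49 zf60) (kf xf9 yf27 zf27) (kf xf9 yf20 zf61) (kf xf9 yf31 zf61) (kf xf9 yf20 zf58) (kf xf9 yf20 zf59) (kf xf3 yf17 zf20) (kf xf3 yf17 zf21) (kf xf12 yf0 zf5) (kf xf7 yf42 zf40) (kf xf7 yf41 zf54) (kf xf7 yf1 zf50) (kf xf9 yf24 zf51) (kf xf10 yf25 zf39) (kf xf9 yf24 zf52) (kf xf9 yf20 zf53) (kf xf9 yf24 zf53) (kf xf6 yf9 zf34)) (@D3.rec (fun _ => Pt) (kf xf9 yf27 zf56) (kf xf6 yf49 zf8)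 (kf xf4 yf52 zf31) (kf xf8 yf23 zf31) (kf xf9 yf20 zf55) (kf xf12 yf0 zf6) (kf xf12 yf0 zf7) (kf xf9 yf21 zf1) (kf xf9 yf21 zf2) (kf xf3 yf45 zf52) (kf xf12 yf33 zf39) (kf xf6 yf49 zf25) (kf xf9 yf21 zf13) (kf xf9 yf16 zf51) (kf xf9 yf41 zf46) (kf xf3 yf14 zf53) (kf xf7 yf38 zf4) (kf xf9 yf21 zf16) (kf xf6 yf42 zf57) (kf xf9 yf21 zf8) (kf xf9 yf21 zf9) (kf xf12 yf2 zf50) (kf xf6 yf55 zf60) (kf xf6 yf55 zf59) (kf xf12 yf4 zf27) (kf xf10 yf47 zf24) (kf xf9 yf21 zf6) (kf xf9 yf21 zf5) (kf xf12 yf4 zf28) (kf xf12 yf34 zf4) (kf xf4 yf29 zf11) (kf xf3 yf15 zf1) (kf xf12 yf4 zf31) (kf xf7 yf15 zf55) (kf xf12 yf33 zf38) (kf xf3 yf30 zf41) (kf xf3 yf15 zf4) (kf xf9 yf21 zf40) (kf xf12 yf2 zf40) (kf xf3 yf16 zf13) (kf xf3 yf16 zf14) (kf xf12 yf34 zf22) (kf xf12 yf34 zf24) (kf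 xf3 yf15 zf8) (kf xf3 yf18 zf44) (kf xf3 yf16 zf29) (kf xf3 yf18 zf42) (kf xf3 yf18 zf43) (kf xf3 yf18 zf47) (kf xf12 yf34 zf32) (kf xf3 yf15 zf11) (kf xf12 yf0 zf44) (kf xf3 yf53 zf52) (kf xf12 yf2 zf0) (kf xf6 yf40 zf54) (kf xf12 yf1 zf29) (kf xf12 yf1 zf30) (kf xf11 yf37 zf20) (kf xf3 yf15 zf35) (kf xf12 yf34 zf47) (kf xf3 yf15 zf41) (kf xf7 yf16 zf37)) (@D3.rec (fun _ => Pt) (kf xf3 yf15 zf19) (kf xf3 yf38 zf49) (kf xf3 yf15 zf21) (kf xf3 yf30 zf20) (kf xf3 yf15 zf22) (kf xf3 yf29 zf49) (kf xf3 yf29 zf50) (kf xf3 yf29 zf51) (kf xf7 yf16 zf1) (kf xf7 yf16 zf3) (kf xf6 yf53 zf2) (kf xf12 yf34 zf58) (kf xf5 yf57 zf40) (kf xf7 yf31 zf27) (kf xf6 yf36 zf52) (kf xf12 yf2 zf53) (kf xf12 yf35 zf6) (kf xf10 yf22 zf53) (kf xf7 yf31 zf22) (kf xf12 yf35 zf8) (kf xf12 yf28 zf21)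 (kf xf12 yf35 zf10) (kf xf3 yf15 zf32) (kf xf11 yf36 zf6) (kf xf10 yf23 zf3) (kf xf12 yf34 zf41) (kf xf12 yf34 zf42) (kf xf12 yf34 zf43) (kf xf6 yf47 zf60) (kf xf7 yf31 zf6) (kf xf12 yf35 zf23) (kf xf12 yf35 zf27) (kf xf7 yf34 zf26) (kf xf7 yf34 zf22) (kf xf12 yf35 zf36) (kf xf3 yf15 zf38) (kf xf6 yf29 zf55) (kf xf12 yf35 zf40) (kf xf7 yf31 zf50) (kf xf7 yf31 zf51) (kf xf12 yf2 zf56) (kf xf12 yf1 zf46) (kf xf12 yf1 zf45) (kf xf12 yf34 zf48) (kf xf12 yf1 zf49) (kf xf12 yf1 zf50) (kf xf12 yf35 zf61) (kf xf6 yf37 zf9) (kf xf3 yf15 zf44) (kf xf3 yf15 zf45) (kf xf12 yf1 zf32) (kf xf12 yf1 zf33) (kf xf12 yf1 zf34) (kf xf5 yf8 zf20) (kf xf3 yf29 zf58) (kf xf3 yf29 zf59) (kf xf12 yf36 zf6) (kf xf6 yf37 zf40) (kf xf12 yf36 zf7) (kf xf6 yf37 zf41) (kf xf12 yf2 zf59) (kf xf12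 yf12 zf48)) (@D3.rec (fun _ => Pt) (kf xf11 yf48 zf57) (kf xf11 yf48 zf56) (kf xf3 yf17 zf8) (kf xf12 yf36 zf15) (kf xf12 yf12 zf46) (kf xf12 yf12 zf47) (kf xf12 yf12 zf49) (kf xf7 yf33 zf0) (kf xf7 yf32 zf58) (kf xf12 yf36 zf26) (kf xf3 yf15 zf55) (kf xf3 yf17 zf2) (kf xf6 yf20 zf41) (kf xf3 yf17 zf9) (kf xf3 yf17 zf10) (kf xf3 yf17 zf11) (kf xf12 yf36 zf37) (kf xf12 yf36 zf39) (kf xf3 yf16 zf50) (kf xf3 yf16 zf49) (kf xf12 yf36 zf45) (kf xf3 yf15 zf61) (kf xf3 yf16 zf53) (kf xf3 yf16 zf54) (kf xf3 yf16 zf58) (kf xf8 yf22 zf6) (kf xf3 yf16 zf31) (kf xf12 yf36 zf57) (kf xf12 yf36 zf59) (kf xf3 yf17 zf14) (kf xf12 yf37 zf3) (kf xf3 yf16 zf6) (kf xf3 yf17 zf24) (kf xf12 yf37 zf9) (kf xf3 yf16 zf7) (kf xf12 yf11 zf60) (kf xf3 yf16 zf9) (kf xf3 yf17 zf27) (kf xf3 yf17 zf28)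 (kf xf12 yf16 zf26) (kf xf12 yf37 zf23) (kf xf12 yf16 zf27) (kf xf12 yf34 zf13) (kf xf12 yf34 zf14) (kf xf7 yf2 zf6) (kf xf12 yf37 zf32) (kf xf12 yf34 zf16) (kf xf12 yf34 zf17) (kf xf7 yf2 zf7) (kf xf12 yf37 zf41) (kf xf3 yf51 zf29) (kf xf12 yf37 zf46) (kf xf3 yf51 zf27) (kf xf3 yf51 zf28) (kf xf12 yf37 zf51) (kf xf12 yf37 zf44) (kf xf12 yf37 zf43) (kf xf12 yf37 zf61) (kf xf3 yf16 zf17) (kf xf3 yf18 zf2) (kf xf3 yf18 zf1) (kf xf12 yf38 zf7)) (@D3.rec (fun _ => Pt) (kf xf3 yf16 zf18) (kf xf3 yf18 zf12) (kf xf3 yf18 zf6) (kf xf3 yf18 zf8) (kf xf12 yf17 zf1) (kf xf3 yf18 zf15) (kf xf3 yf18 zf14) (kf xf11 yf23 zf17) (kf xf3 yf16 zf21) (kf xf3 yf16 zf41) (kf xf3 yf18 zf35) (kf xf3 yf18 zf36) (kf xf3 yf18 zf38) (kf xf3 yf18 zf24) (kf xf3 yf18 zf25) (kf xf6 yf40 zf57) (kf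 xf6 yf21 zf7) (kf xf6 yf21 zf26) (kf xf3 yf16 zf35) (kf xf4 yf17 zf50) (kf xf6 yf21 zf4) (kf xf6 yf40 zf56) (kf xf12 yf36 zf52) (kf xf12 yf36 zf53) (kf xf11 yf48 zf60) (kf xf12 yf38 zf47) (kf xf12 yf38 zf51) (kf xf6 yf21 zf24) (kf xf12 yf38 zf56) (kf xf3 yf16 zf33) (kf xf9 yf28 zf46) (kf xf8 yf34 zf10) (kf xf12 yf12 zf29) (kf xf9 yf29 zf46) (kf xf6 yf9 zf52) (kf xf12 yf39 zf4) (kf xf3 yf16 zf36) (kf xf7 yf31 zf3) (kf xf7 yf31 zf4) (kf xf7 yf31 zf5) (kf xf6 yf26 zf49) (kf xf7 yf30 zf57) (kf xf12 yf38 zf24) (kf xf12 yf38 zf25) (kf xf11 yf48 zf48) (kf xf12 yf38 zf32) (kf xf12 yf39 zf21) (kf xf12 yf39 zf23) (kf xf12 yf39 zf19) (kf xf12 yf39 zf18) (kf xf12 yf39 zf30) (kf xf3 yf16 zf45) (kf xf6 yf34 zf14) (kf xf12 yf39 zf33) (kf xf6 yf28 zf50) (kf xf12 yf39 zf38) (kf xf7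 yf39 zf58) (kf xf7 yf39 zf54) (kf xf12 yf39 zf46) (kf xf3 yf16 zf48) (kf xf11 yf29 zf1) (kf xf12 yf36 zf42)) (@D3.rec (fun _ => Pt) (kf xf12 yf36 zf40) (kf xf3 yf28 zf39) (kf xf12 yf36 zf41) (kf xf6 yf18 zf29) (kf xf12 yf36 zf43) (kf xf12 yf40 zf5) (kf xf3 yf16 zf51) (kf xf12 yf36 zf46) (kf xf12 yf36 zf47) (kf xf6 yf34 zf47) (kf xf9 yf28 zf57) (kf xf12 yf36 zf48) (kf xf8 yf33 zf33) (kf xf9 yf28 zf56) (kf xf9 yf28 zf59) (kf xf12 yf36 zf49) (kf xf4 yf44 zf9) (kf xf9 yf29 zf2) (kf xf6 yf18 zf39) (kf xf12 yf36 zf50) (kf xf12 yf40 zf31) (kf xf12 yf40 zf36) (kf xf3 yf16 zf60) (kf xf6 yf19 zf50) (kf xf6 yf19 zf52) (kf xf12 yf36 zf27) (kf xf12 yf36 zf28) (kf xf12 yf36 zf29) (kf xf12 yf27 zf54) (kf xf12 yf40 zf48) (kf xf9 yf59 zf8) (kf xf4 yf43 zf9) (kf xf12 yf40 zf51) (kf xf3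 yf17 zf4) (kf xf8 yf35 zf15) (kf xf3 yf51 zf15) (kf xf12 yf38 zf26) (kf xf12 yf40 zf57) (kf xf5 yf56 zf41) (kf xf12 yf41 zf0) (kf xf6 yf34 zf57) (kf xf6 yf34 zf59) (kf xf12 yf41 zf5) (kf xf12 yf40 zf60) (kf xf12 yf40 zf59) (kf xf12 yf41 zf15) (kf xf3 yf17 zf12) (kf xf7 yf38 zf31) (kf xf7 yf38 zf27) (kf xf12 yf41 zf25) (kf xf3 yf17 zf13) (kf xf12 yf36 zf60) (kf xf12 yf36 zf61) (kf xf6 yf21 zf10) (kf xf3 yf22 zf41) (kf xf12 yf37 zf1) (kf xf12 yf37 zf0) (kf xf12 yf41 zf45) (kf xf3 yf17 zf16) (kf xf9 yf29 zf40) (kf xf9 yf29 zf41) (kf xf9 yf29 zf42)) (@D3.rec (fun _ => Pt) (kf xf9 yf29 zf43) (kf xf12 yf33 zf1) (kf xf12 yf33 zf3) (kf xf6 yf40 zf53) (kf xf12 yf33 zf4) (kf xf9 yf29 zf45) (kf xf4 yf44 zf25) (kf xf12 yf37 zf4) (kf xf12 yf37 zf6) (kf xf12 yf37 zf5) (kf xf4 yf10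 zf48) (kf xf12 yf42 zf11) (kf xf3 yf17 zf25) (kf xf9 yf11 zf48) (kf xf12 yf37 zf13) (kf xf6 yf0 zf30) (kf xf12 yf42 zf17) (kf xf12 yf23 zf40) (kf xf12 yf37 zf15) (kf xf6 yf19 zf61) (kf xf12 yf38 zf11) (kf xf12 yf42 zf23) (kf xf7 yf44 zf39) (kf xf7 yf32 zf6) (kf xf12 yf42 zf29) (kf xf12 yf42 zf22) (kf xf12 yf42 zf21) (kf xf12 yf42 zf41) (kf xf3 yf17 zf32) (kf xf12 yf27 zf52) (kf xf12 yf27 zf51) (kf xf12 yf42 zf49) (kf xf3 yf17 zf33) (kf xf12 yf37 zf11) (kf xf12 yf37 zf10) (kf xf12 yf42 zf54) (kf xf3 yf17 zf34) (kf xf9 yf11 zf39) (kf xf12 yf42 zf60) (kf xf9 yf59 zf5) (kf xf12 yf28 zf8) (kf xf12 yf43 zf4) (kf xf3 yf17 zf37) (kf xf12 yf37 zf21) (kf xf12 yf37 zf20) (kf xf12 yf43 zf12) (kf xf3 yf17 zf38) (kf xf12 yf37 zf25) (kf xf12 yf37 zf24) (kf xf12 yf43 zf20) (kf xf3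 yf17 zf39) (kf xf9 yf11 zf40) (kf xf9 yf11 zf41) (kf xf9 yf11 zf42) (kf xf12 yf31 zf43) (kf xf12 yf43 zf30) (kf xf6 yf10 zf55) (kf xf8 yf49 zf55) (kf xf12 yf43 zf34) (kf xf9 yf11 zf36) (kf xf12 yf43 zf38) (kf xf3 yf17 zf44)) (@D3.rec (fun _ => Pt) (kf xf9 yf11 zf47) (kf xf12 yf43 zf42) (kf xf12 yf43 zf45) (kf xf9 yf11 zf21) (kf xf12 yf43 zf50) (kf xf3 yf17 zf47) (kf xf12 yf43 zf54) (kf xf3 yf17 zf55) (kf xf3 yf17 zf54) (kf xf12 yf44 zf3) (kf xf3 yf17 zf49) (kf xf9 yf11 zf55) (kf xf8 yf49 zf25) (kf xf10 yf4 zf55) (kf xf5 yf50 zf15) (kf xf11 yf8 zf30) (kf xf3 yf47 zf41) (kf xf12 yf44 zf16) (kf xf12 yf43 zf52) (kf xf12 yf43 zf51) (kf xf12 yf44 zf26) (kf xf3 yf17 zf53) (kf xf12 yf43 zf58) (kf xf12 yf43 zf59) (kf xf12 yf43 zf60) (kf xf9 yf59 zf61) (kf xf12 yf43 zf55) (kf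 xf9 yf50 zf32) (kf xf12 yf43 zf56) (kf xf12 yf44 zf46) (kf xf12 yf44 zf1) (kf xf12 yf44 zf0) (kf xf12 yf44 zf59) (kf xf3 yf17 zf56) (kf xf9 yf23 zf50) (kf xf12 yf38 zf3) (kf xf12 yf2 zf4) (kf xf12 yf2 zf3) (kf xf12 yf45 zf10) (kf xf3 yf17 zf59) (kf xf12 yf1 zf59) (kf xf12 yf1 zf58) (kf xf12 yf45 zf17) (kf xf3 yf17 zf60) (kf xf3 yf47 zf39) (kf xf3 yf47 zf40) (kf xf12 yf45 zf23) (kf xf3 yf51 zf49) (kf xf3 yf51 zf48) (kf xf12 yf45 zf31) (kf xf3 yf18 zf0) (kf xf12 yf38 zf1) (kf xf12 yf38 zf2) (kf xf9 yf23 zf51) (kf xf12 yf38 zf0) (kf xf6 yf20 zf0) (kf xf12 yf38 zf5) (kf xf12 yf38 zf4) (kf xf12 yf45 zf50) (kf xf3 yf18 zf3) (kf xf3 yf18 zf5) (kf xf3 yf51 zf32)) (@D3.rec (fun _ => Pt) (kf xf3 yf51 zf31) (kf xf12 yf45 zf52) (kf xf12 yf37 zf14) (kf xf12 yf38 zf12) (kf xf12 yf32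 zf57) (kf xf12 yf38 zf13) (kf xf9 yf27 zf4) (kf xf3 yf22 zf42) (kf xf12 yf38 zf9) (kf xf12 yf38 zf8) (kf xf10 yf13 zf19) (kf xf12 yf46 zf17) (kf xf3 yf18 zf9) (kf xf9 yf59 zf9) (kf xf5 yf11 zf16) (kf xf9 yf59 zf10) (kf xf5 yf11 zf25) (kf xf3 yf22 zf43) (kf xf12 yf38 zf10) (kf xf12 yf46 zf26) (kf xf6 yf32 zf38) (kf xf9 yf32 zf42) (kf xf3 yf18 zf13) (kf xf12 yf38 zf20) (kf xf10 yf16 zf41) (kf xf12 yf46 zf37) (kf xf12 yf38 zf17) (kf xf12 yf38 zf18) (kf xf11 yf37 zf42) (kf xf12 yf38 zf22) (kf xf12 yf38 zf21) (kf xf11 yf34 zf13) (kf xf10 yf13 zf13) (kf xf3 yf18 zf16) (kf xf12 yf45 zf51) (kf xf3 yf18 zf21) (kf xf9 yf25 zf34) (kf xf12 yf12 zf20) (kf xf12 yf25 zf19) (kf xf12 yf25 zf20) (kf xf12 yf2 zf38) (kf xf12 yf34 zf23) (kf xf7 yf45 zf36) (kf xf5 yf16 zf43) (kf xf5 yf16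 zf41) (kf xf7 yf31 zf7) (kf xf7 yf31 zf9) (kf xf9 yf12 zf57) (kf xf12 yf38 zf33) (kf xf12 yf38 zf34) (kf xf12 yf28 zf51) (kf xf12 yf38 zf36) (kf xf12 yf47 zf16) (kf xf6 yf38 zf3) (kf xf6 yf33 zf54) (kf xf4 yf44 zf27) (kf xf6 yf36 zf21) (kf xf6 yf36 zf15) (kf xf6 yf20 zf2) (kf xf3 yf18 zf34) (kf xf4 yf43 zf6) (kf xf12 yf19 zf37)) (@D3.rec (fun _ => Pt) (kf xf12 yf28 zf46) (kf xf6 yf32 zf14) (kf xf12 yf36 zf31) (kf xf12 yf38 zf27) (kf xf12 yf38 zf28) (kf xf12 yf47 zf35) (kf xf12 yf38 zf29) (kf xf11 yf17 zf34) (kf xf12 yf29 zf27) (kf xf12 yf29 zf33) (kf xf3 yf18 zf37) (kf xf12 yf38 zf31) (kf xf10 yf22 zf54) (kf xf3 yf18 zf48) (kf xf11 yf49 zf4) (kf xf12 yf34 zf27) (kf xf6 yf32 zf39) (kf xf12 yf34 zf28) (kf xf12 yf34 zf25) (kf xf12 yf34 zf26) (kf xf8 yf33 zf59) (kf xf7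 yf45 zf34) (kf xf12 yf21 zf36) (kf xf8 yf35 zf53) (kf xf12 yf34 zf29) (kf xf12 yf25 zf30) (kf xf12 yf25 zf31) (kf xf12 yf47 zf44) (kf xf12 yf47 zf45) (kf xf6 yf9 zf39) (kf xf6 yf22 zf36) (kf xf6 yf10 zf5) (kf xf6 yf10 zf4) (kf xf12 yf3 zf21) (kf xf12 yf3 zf22) (kf xf6 yf10 zf7) (kf xf7 yf19 zf34) (kf xf12 yf3 zf23) (kf xf7 yf19 zf40) (kf xf12 yf48 zf27) (kf xf12 yf3 zf24) (kf xf7 yf19 zf39) (kf xf12 yf48 zf34) (kf xf12 yf3 zf26) (kf xf12 yf3 zf27) (kf xf12 yf3 zf28) (kf xf12 yf3 zf29) (kf xf6 yf59 zf40) (kf xf6 yf59 zf31) (kf xf3 yf44 zf43) (kf xf12 yf48 zf55) (kf xf7 yf36 zf14) (kf xf7 yf36 zf11) (kf xf12 yf48 zf61) (kf xf3 yf19 zf9) (kf xf3 yf19 zf8) (kf xf12 yf29 zf19) (kf xf3 yf18 zf58) (kf xf3 yf19 zf17) (kf xf3 yf19 zf18) (kf xf3 yf19 zf13) (kf xf3 yf19 zf20))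 (@D3.rec (fun _ => Pt) (kf xf3 yf19 zf19) (kf xf9 yf37 zf16) (kf xf7 yf24 zf56) (kf xf7 yf24 zf57) (kf xf7 yf24 zf58) (kf xf12 yf49 zf18) (kf xf12 yf49 zf21) (kf xf3 yf19 zf2) (kf xf7 yf25 zf39) (kf xf7 yf25 zf40) (kf xf7 yf25 zf41) (kf xf6 yf31 zf48) (kf xf6 yf31 zf55) (kf xf9 yf50 zf30) (kf xf7 yf51 zf60) (kf xf7 yf51 zf59) (kf xf12 yf49 zf41) (kf xf3 yf19 zf7) (kf xf12 yf39 zf53) (kf xf6 yf21 zf53) (kf xf12 yf49 zf0) (kf xf9 yf32 zf32) (kf xf10 yf54 zf54) (kf xf10 yf54 zf48) (kf xf12 yf29 zf11) (kf xf12 yf49 zf58) (kf xf3 yf19 zf10) (kf xf7 yf20 zf2) (kf xf12 yf15 zf33) (kf xf6 yf32 zf20) (kf xf11 yf10 zf47) (kf xf9 yf17 zf43) (kf xf11 yf9 zf40) (kf xf8 yf24 zf60) (kf xf6 yf49 zf50) (kf xf9 yf23 zf46) (kf xf12 yf49 zf2) (kf xf8 yf58 zf17) (kf xf12 yf49 zf3) (kf xf12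 yf49 zf5) (kf xf3 yf43 zf29) (kf xf4 yf48 zf22) (kf xf12 yf49 zf4) (kf xf3 yf43 zf2) (kf xf12 yf26 zf31) (kf xf12 yf50 zf25) (kf xf12 yf50 zf30) (kf xf3 yf19 zf21) (kf xf9 yf24 zf18) (kf xf6 yf32 zf32) (kf xf9 yf24 zf19) (kf xf3 yf19 zf57) (kf xf6 yf21 zf44) (kf xf9 yf28 zf61) (kf xf9 yf28 zf60) (kf xf3 yf20 zf6) (kf xf9 yf20 zf25) (kf xf6 yf33 zf18) (kf xf6 yf22 zf17) (kf xf6 yf22 zf18) (kf xf6 yf22 zf13) (kf xf6 yf22 zf14)) (@D3.rec (fun _ => Pt) (kf xf12 yf50 zf59) (kf xf12 yf50 zf54) (kf xf12 yf50 zf53) (kf xf12 yf51 zf7) (kf xf3 yf19 zf38) (kf xf6 yf22 zf8) (kf xf6 yf4 zf7) (kf xf12 yf51 zf12) (kf xf3 yf19 zf39) (kf xf4 yf50 zf24) (kf xf9 yf28 zf28) (kf xf9 yf28 zf29) (kf xf3 yf48 zf30) (kf xf9 yf27 zf52) (kf xf7 yf47 zf16) (kf xf3 yf19 zf51) (kf xf9 yf27 zf53)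 (kf xf3 yf19 zf58) (kf xf9 yf27 zf55) (kf xf3 yf46 zf39) (kf xf3 yf46 zf38) (kf xf9 yf32 zf0) (kf xf9 yf32 zf1) (kf xf9 yf24 zf47) (kf xf10 yf47 zf17) (kf xf12 yf51 zf19) (kf xf3 yf53 zf26) (kf xf12 yf51 zf47) (kf xf3 yf19 zf50) (kf xf11 yf47 zf19) (kf xf12 yf51 zf21) (kf xf4 yf43 zf7) (kf xf9 yf23 zf52) (kf xf12 yf51 zf23) (kf xf12 yf51 zf22) (kf xf12 yf52 zf4) (kf xf3 yf19 zf53) (kf xf9 yf21 zf44) (kf xf9 yf21 zf46) (kf xf9 yf21 zf48) (kf xf4 yf47 zf60) (kf xf12 yf50 zf37) (kf xf4 yf44 zf21) (kf xf9 yf24 zf20) (kf xf12 yf51 zf25) (kf xf12 yf51 zf26) (kf xf12 yf51 zf28) (kf xf12 yf51 zf27) (kf xf12 yf52 zf31) (kf xf12 yf52 zf36) (kf xf3 yf19 zf59) (kf xf3 yf22 zf19) (kf xf9 yf29 zf27) (kf xf6 yf26 zf40) (kf xf6 yf26 zf39) (kf xf9 yf29 zf44) (kf xf9 yf20 zf54) (kf xf9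 yf29 zf39) (kf xf9 yf24 zf54) (kf xf6 yf27 zf12) (kf xf6 yf27 zf13) (kf xf8 yf36 zf36)) (@D3.rec (fun _ => Pt) (kf xf6 yf27 zf7) (kf xf5 yf42 zf19) (kf xf6 yf22 zf10) (kf xf12 yf53 zf0) (kf xf12 yf52 zf59) (kf xf12 yf52 zf58) (kf xf12 yf53 zf9) (kf xf3 yf20 zf11) (kf xf6 yf27 zf1) (kf xf6 yf26 zf42) (kf xf11 yf19 zf9) (kf xf3 yf20 zf12) (kf xf3 yf22 zf21) (kf xf8 yf0 zf27) (kf xf5 yf27 zf7) (kf xf12 yf17 zf30) (kf xf9 yf13 zf29) (kf xf9 yf13 zf32) (kf xf3 yf20 zf17) (kf xf9 yf11 zf14) (kf xf9 yf12 zf17) (kf xf4 yf58 zf21) (kf xf12 yf47 zf23) (kf xf6 yf28 zf59) (kf xf6 yf28 zf60) (kf xf12 yf53 zf24) (kf xf9 yf11 zf31) (kf xf9 yf11 zf30) (kf xf11 yf10 zf46) (kf xf3 yf20 zf21) (kf xf9 yf11 zf37) (kf xf12 yf53 zf33) (kf xf6 yf28 zf52) (kf xf12 yf41 zf26) (kf xf6 yf31 zf22)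 (kf xf12 yf53 zf39) (kf xf9 yf11 zf18) (kf xf9 yf11 zf17) (kf xf12 yf53 zf48) (kf xf3 yf20 zf26) (kf xf9 yf11 zf22) (kf xf12 yf24 zf8) (kf xf9 yf11 zf25) (kf xf12 yf53 zf57) (kf xf3 yf20 zf28) (kf xf3 yf20 zf38) (kf xf12 yf24 zf11) (kf xf3 yf20 zf33) (kf xf3 yf20 zf34) (kf xf3 yf20 zf35) (kf xf12 yf53 zf32) (kf xf5 yf27 zf12) (kf xf10 yf4 zf3) (kf xf10 yf43 zf15) (kf xf9 yf11 zf15) (kf xf12 yf53 zf60) (kf xf10 yf3 zf52) (kf xf9 yf31 zf20) (kf xf12 yf54 zf0) (kf xf12 yf54 zf20) (kf xf6 yf11 zf59) (kf xf3 yf20 zf36)) (@D3.rec (fun _ => Pt) (kf xf11 yf49 zf31) (kf xf10 yf17 zf48) (kf xf12 yf53 zf58) (kf xf12 yf54 zf28) (kf xf10 yf3 zf33) (kf xf6 yf32 zf40) (kf xf8 yf58 zf51) (kf xf3 yf20 zf40) (kf xf11 yf56 zf26) (kf xf11 yf56 zf27) (kf xf11 yf56 zf28) (kf xf11 yf56 zf29)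 (kf xf9 yf7 zf10) (kf xf9 yf31 zf30) (kf xf6 yf7 zf17) (kf xf12 yf54 zf48) (kf xf9 yf12 zf54) (kf xf12 yf14 zf54) (kf xf6 yf7 zf18) (kf xf9 yf31 zf35) (kf xf12 yf54 zf60) (kf xf11 yf50 zf23) (kf xf9 yf13 zf3) (kf xf6 yf12 zf8) (kf xf3 yf20 zf46) (kf xf9 yf30 zf45) (kf xf9 yf31 zf23) (kf xf11 yf50 zf51) (kf xf9 yf31 zf21) (kf xf4 yf35 zf43) (kf xf6 yf46 zf39) (kf xf6 yf46 zf36) (kf xf9 yf31 zf39) (kf xf12 yf51 zf11) (kf xf9 yf31 zf27) (kf xf9 yf31 zf26) (kf xf12 yf55 zf17) (kf xf3 yf20 zf50) (kf xf6 yf12 zf9) (kf xf9 yf8 zf6) (kf xf5 yf27 zf10) (kf xf9 yf31 zf13) (kf xf9 yf31 zf14) (kf xf11 yf0 zf51) (kf xf6 yf12 zf11) (kf xf3 yf20 zf57) (kf xf9 yf31 zf16) (kf xf9 yf31 zf17) (kf xf9 yf31 zf18) (kf xf11 yf10 zf23) (kf xf9 yf13 zf28) (kf xf11 yf49 zf53) (kf xf9 yf31 zf24)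 (kf xf10 yf53 zf4) (kf xf9 yf31 zf47) (kf xf9 yf15 zf39) (kf xf5 yf0 zf23) (kf xf9 yf31 zf49) (kf xf9 yf44 zf5) (kf xf9 yf31 zf45) (kf xf4 yf30 zf21) (kf xf3 yf21 zf3)) (@D3.rec (fun _ => Pt) (kf xf9 yf31 zf41) (kf xf9 yf31 zf42) (kf xf12 yf55 zf54) (kf xf9 yf31 zf43) (kf xf9 yf31 zf51) (kf xf9 yf31 zf50) (kf xf3 yf21 zf6) (kf xf9 yf31 zf53) (kf xf12 yf56 zf6) (kf xf12 yf56 zf2) (kf xf12 yf56 zf1) (kf xf9 yf17 zf29) (kf xf3 yf21 zf9) (kf xf11 yf12 zf27) (kf xf6 yf4 zf1) (kf xf7 yf26 zf45) (kf xf9 yf32 zf30) (kf xf7 yf24 zf60) (kf xf3 yf23 zf7) (kf xf6 yf46 zf24) (kf xf6 yf31 zf7) (kf xf5 yf14 zf20) (kf xf5 yf14 zf17) (kf xf4 yf49 zf60) (kf xf6 yf46 zf19) (kf xf3 yf24 zf4) (kf xf3 yf24 zf5) (kf xf3 yf24 zf3) (kf xf3 yf23 zf38) (kf xf3 yf24 zf6) (kf xf3 yf24 zf9) (kf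 xf6 yf13 zf30) (kf xf6 yf46 zf53) (kf xf6 yf46 zf51) (kf xf6 yf46 zf52) (kf xf9 yf32 zf20) (kf xf6 yf45 zf31) (kf xf11 yf31 zf33) (kf xf9 yf32 zf18) (kf xf6 yf45 zf30) (kf xf12 yf56 zf39) (kf xf9 yf32 zf24) (kf xf9 yf32 zf23) (kf xf10 yf55 zf35) (kf xf3 yf21 zf30) (kf xf6 yf26 zf58) (kf xf6 yf12 zf14) (kf xf5 yf59 zf60) (kf xf6 yf2 zf7) (kf xf6 yf25 zf60) (kf xf6 yf12 zf3) (kf xf6 yf46 zf33) (kf xf6 yf46 zf34) (kf xf6 yf46 zf32) (kf xf4 yf50 zf0) (kf xf10 yf44 zf23) (kf xf9 yf20 zf60) (kf xf9 yf21 zf0) (kf xf9 yf27 zf39) (kf xf9 yf27 zf40) (kf xf9 yf23 zf41) (kf xf3 yf29 zf27)) (@D3.rec (fun _ => Pt) (kf xf4 yf43 zf5) (kf xf9 yf28 zf34) (kf xf6 yf53 zf17) (kf xf9 yf32 zf3) (kf xf9 yf32 zf4) (kf xf9 yf27 zf44) (kf xf9 yf32 zf5) (kf xf9 yf32 zf6) (kf xf8 yf19 zf51) (kf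 xf12 yf57 zf23) (kf xf9 yf27 zf47) (kf xf9 yf24 zf10) (kf xf9 yf27 zf48) (kf xf4 yf45 zf37) (kf xf4 yf47 zf20) (kf xf4 yf47 zf21) (kf xf9 yf24 zf16) (kf xf9 yf5 zf54) (kf xf7 yf44 zf9) (kf xf12 yf57 zf41) (kf xf9 yf32 zf14) (kf xf9 yf32 zf15) (kf xf9 yf32 zf16) (kf xf11 yf10 zf36) (kf xf9 yf6 zf0) (kf xf12 yf57 zf39) (kf xf5 yf32 zf50) (kf xf3 yf21 zf51) (kf xf9 yf32 zf21) (kf xf11 yf10 zf24) (kf xf11 yf10 zf45) (kf xf3 yf21 zf53) (kf xf9 yf32 zf26) (kf xf5 yf48 zf33) (kf xf9 yf32 zf27) (kf xf9 yf32 zf28) (kf xf12 yf58 zf9) (kf xf3 yf22 zf11) (kf xf5 yf26 zf18) (kf xf3 yf23 zf30) (kf xf6 yf32 zf28) (kf xf9 yf32 zf41) (kf xf4 yf53 zf43) (kf xf6 yf21 zf48) (kf xf12 yf21 zf18) (kf xf9 yf32 zf38) (kf xf9 yf32 zf48) (kf xf9 yf37 zf27) (kf xf12 yf21 zf50) (kf xf9 yf32 zf47)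 (kf xf9 yf32 zf46) (kf xf9 yf32 zf43) (kf xf9 yf32 zf45) (kf xf6 yf20 zf1) (kf xf9 yf32 zf52) (kf xf9 yf32 zf53) (kf xf12 yf19 zf42) (kf xf9 yf32 zf51) (kf xf6 yf20 zf18) (kf xf12 yf58 zf10) (kf xf6 yf34 zf28) (kf xf12 yf58 zf11)) (@D3.rec (fun _ => Pt) (kf xf11 yf22 zf0) (kf xf5 yf3 zf56) (kf xf6 yf9 zf20) (kf xf12 yf21 zf47) (kf xf6 yf9 zf22) (kf xf6 yf9 zf23) (kf xf6 yf52 zf31) (kf xf6 yf26 zf19) (kf xf7 yf55 zf14) (kf xf7 yf55 zf15) (kf xf9 yf32 zf59) (kf xf9 yf32 zf60) (kf xf9 yf32 zf61) (kf xf6 yf9 zf40) (kf xf9 yf19 zf13) (kf xf6 yf9 zf41) (kf xf6 yf9 zf42) (kf xf6 yf9 zf43) (kf xf6 yf9 zf44) (kf xf10 yf52 zf2) (kf xf9 yf24 zf55) (kf xf8 yf34 zf8) (kf xf6 yf9 zf45) (kf xf6 yf9 zf46) (kf xf6 yf9 zf47) (kf xf12 yf53 zf10) (kf xf6 yf28 zf6) (kf xf6 yf22 zf9) (kf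 xf6 yf49 zf9) (kf xf6 yf49 zf10) (kf xf6 yf49 zf11) (kf xf4 yf9 zf47) (kf xf12 yf33 zf21) (kf xf8 yf34 zf42) (kf xf3 yf22 zf24) (kf xf6 yf49 zf12) (kf xf6 yf49 zf13) (kf xf6 yf49 zf14) (kf xf12 yf59 zf47) (kf xf12 yf59 zf48) (kf xf3 yf22 zf26) (kf xf6 yf23 zf45) (kf xf6 yf48 zf43) (kf xf6 yf48 zf42) (kf xf9 yf28 zf14) (kf xf6 yf23 zf44) (kf xf9 yf33 zf7) (kf xf4 yf42 zf26) (kf xf4 yf41 zf60) (kf xf12 yf59 zf60) (kf xf13 yf0 zf0) (kf xf3 yf22 zf31) (kf xf12 yf4 zf59) (kf xf12 yf4 zf60) (kf xf6 yf23 zf59) (kf xf13 yf0 zf14) (kf xf12 yf5 zf0) (kf xf12 yf5 zf1) (kf xf6 yf23 zf60) (kf xf13 yf0 zf27) (kf xf3 yf22 zf35) (kf xf4 yf46 zf27)) (@D3.rec (fun _ => Pt) (kf xf6 yf18 zf4) (kf xf6 yf21 zf22) (kf xf6 yf18 zf8) (kf xf6 yf18 zf9) (kf xf13 yf0 zf33) (kf xf12 yf2 zf54) (kf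 xf4 yf47 zf4) (kf xf3 yf24 zf12) (kf xf6 yf33 zf1) (kf xf6 yf48 zf28) (kf xf6 yf48 zf29) (kf xf6 yf48 zf30) (kf xf6 yf48 zf35) (kf xf6 yf48 zf36) (kf xf6 yf48 zf37) (kf xf3 yf43 zf9) (kf xf3 yf23 zf6) (kf xf3 yf23 zf57) (kf xf3 yf22 zf53) (kf xf6 yf28 zf53) (kf xf10 yf3 zf56) (kf xf5 yf45 zf43) (kf xf3 yf22 zf55) (kf xf6 yf30 zf8) (kf xf12 yf25 zf51) (kf xf6 yf33 zf11) (kf xf3 yf44 zf54) (kf xf7 yf30 zf36) (kf xf6 yf31 zf20) (kf xf9 yf30 zf22) (kf xf6 yf30 zf53) (kf xf6 yf20 zf36) (kf xf3 yf23 zf22) (kf xf6 yf21 zf49) (kf xf6 yf26 zf26) (kf xf6 yf26 zf27) (kf xf3 yf23 zf28) (kf xf13 yf0 zf47) (kf xf13 yf0 zf48) (kf xf8 yf0 zf20) (kf xf12 yf56 zf19) (kf xf3 yf23 zf51) (kf xf3 yf23 zf52) (kf xf3 yf23 zf48) (kf xf6 yf18 zf38) (kf xf3 yf23 zf11) (kf xf6 yf31 zf5) (kf xf4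 yf48 zf23) (kf xf6 yf20 zf10) (kf xf11 yf45 zf11) (kf xf6 yf42 zf34) (kf xf12 yf32 zf24) (kf xf11 yf46 zf44) (kf xf3 yf23 zf15) (kf xf6 yf21 zf51) (kf xf6 yf21 zf52) (kf xf6 yf22 zf15) (kf xf9 yf38 zf18) (kf xf3 yf23 zf17) (kf xf6 yf21 zf11) (kf xf6 yf32 zf44) (kf xf4 yf47 zf12)) (@D3.rec (fun _ => Pt) (kf xf8 yf23 zf23) (kf xf3 yf23 zf21) (kf xf6 yf54 zf0) (kf xf11 yf26 zf5) (kf xf4 yf37 zf14) (kf xf11 yf57 zf52) (kf xf13 yf1 zf22) (kf xf3 yf43 zf5) (kf xf13 yf1 zf25) (kf xf3 yf23 zf24) (kf xf3 yf39 zf58) (kf xf6 yf27 zf3) (kf xf13 yf1 zf29) (kf xf3 yf23 zf26) (kf xf12 yf30 zf15) (kf xf13 yf0 zf57) (kf xf11 yf34 zf53) (kf xf6 yf25 zf49) (kf xf9 yf23 zf42) (kf xf9 yf23 zf43) (kf xf12 yf30 zf32) (kf xf11 yf54 zf51) (kf xf12 yf30 zf33) (kf xf8 yf0 zf37) (kf xf11 yf28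 zf55) (kf xf11 yf27 zf11) (kf xf6 yf25 zf50) (kf xf12 yf56 zf24) (kf xf6 yf25 zf51) (kf xf8 yf0 zf39) (kf xf8 yf0 zf47) (kf xf12 yf56 zf25) (kf xf5 yf7 zf23) (kf xf9 yf48 zf5) (kf xf7 yf27 zf29) (kf xf9 yf5 zf34) (kf xf13 yf1 zf49) (kf xf7 yf43 zf14) (kf xf7 yf43 zf13) (kf xf10 yf18 zf49) (kf xf3 yf23 zf41) (kf xf9 yf27 zf32) (kf xf9 yf27 zf33) (kf xf9 yf32 zf31) (kf xf9 yf29 zf21) (kf xf9 yf48 zf1) (kf xf6 yf30 zf13) (kf xf6 yf32 zf42) (kf xf4 yf47 zf2) (kf xf12 yf28 zf37) (kf xf10 yf17 zf39) (kf xf5 yf58 zf29) (kf xf6 yf30 zf47) (kf xf7 yf24 zf55) (kf xf3 yf39 zf57) (kf xf13 yf0 zf49) (kf xf12 yf30 zf0) (kf xf6 yf22 zf49) (kf xf6 yf18 zf61) (kf xf8 yf23 zf14) (kf xf5 yf54 zf43) (kf xf11 yf28 zf51)) (@D3.rec (fun _ => Pt) (kf xf11 yf26 zf18) (kf xf8 yf0 zf33) (kf xf8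 yf0 zf34) (kf xf11 yf27 zf8) (kf xf11 yf27 zf9) (kf xf10 yf34 zf35) (kf xf9 yf26 zf16) (kf xf12 yf56 zf22) (kf xf11 yf54 zf49) (kf xf11 yf27 zf16) (kf xf11 yf26 zf1) (kf xf11 yf57 zf42) (kf xf12 yf56 zf23) (kf xf11 yf28 zf60) (kf xf10 yf44 zf47) (kf xf12 yf56 zf26) (kf xf4 yf56 zf23) (kf xf12 yf56 zf28) (kf xf5 yf47 zf12) (kf xf6 yf20 zf5) (kf xf4 yf43 zf12) (kf xf4 yf43 zf3) (kf xf6 yf3 zf20) (kf xf3 yf42 zf29) (kf xf7 yf5 zf13) (kf xf7 yf5 zf20) (kf xf7 yf5 zf21) (kf xf3 yf26 zf8) (kf xf6 yf30 zf58) (kf xf3 yf43 zf32) (kf xf3 yf44 zf31) (kf xf3 yf44 zf32) (kf xf6 yf56 zf5) (kf xf13 yf2 zf52) (kf xf9 yf16 zf32) (kf xf3 yf24 zf45) (kf xf13 yf2 zf57) (kf xf3 yf24 zf29) (kf xf3 yf24 zf54) (kf xf3 yf24 zf50) (kf xf13 yf2 zf58) (kf xf3 yf25 zf41) (kf xf6 yf52 zf51) (kf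 xf5 yf59 zf54) (kf xf3 yf26 zf7) (kf xf6 yf52 zf52) (kf xf3 yf26 zf4) (kf xf7 yf18 zf32) (kf xf13 yf3 zf10) (kf xf3 yf25 zf48) (kf xf7 yf18 zf33) (kf xf7 yf1 zf33) (kf xf7 yf1 zf49) (kf xf6 yf52 zf53) (kf xf6 yf52 zf54) (kf xf7 yf1 zf57) (kf xf9 yf47 zf40) (kf xf11 yf58 zf41) (kf xf13 yf2 zf54) (kf xf13 yf2 zf55) (kf xf7 yf18 zf41) (kf xf7 yf3 zf11)) (@D3.rec (fun _ => Pt) (kf xf7 yf3 zf12) (kf xf3 yf55 zf34) (kf xf6 yf56 zf55) (kf xf7 yf47 zf8) (kf xf13 yf3 zf47) (kf xf3 yf24 zf47) (kf xf7 yf2 zf45) (kf xf7 yf18 zf43) (kf xf3 yf25 zf36) (kf xf7 yf2 zf42) (kf xf13 yf2 zf60) (kf xf7 yf18 zf44) (kf xf3 yf26 zf11) (kf xf7 yf4 zf18) (kf xf7 yf11 zf54) (kf xf3 yf55 zf30) (kf xf7 yf32 zf15) (kf xf13 yf2 zf59) (kf xf3 yf55 zf31) (kf xf7 yf51 zf9) (kf xf6 yf52 zf24) (kf xf7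 yf17 zf50) (kf xf3 yf31 zf6) (kf xf6 yf52 zf25) (kf xf6 yf52 zf20) (kf xf6 yf52 zf23) (kf xf3 yf25 zf0) (kf xf3 yf40 zf22) (kf xf3 yf40 zf23) (kf xf7 yf26 zf15) (kf xf7 yf26 zf16) (kf xf6 yf48 zf6) (kf xf6 yf9 zf21) (kf xf3 yf26 zf5) (kf xf3 yf26 zf9) (kf xf7 yf55 zf19) (kf xf7 yf19 zf57) (kf xf7 yf5 zf30) (kf xf7 yf5 zf31) (kf xf7 yf11 zf15) (kf xf7 yf1 zf45) (kf xf6 yf52 zf56) (kf xf7 yf55 zf20) (kf xf13 yf4 zf43) (kf xf6 yf19 zf5) (kf xf3 yf25 zf15) (kf xf3 yf28 zf25) (kf xf3 yf42 zf51) (kf xf3 yf42 zf52) (kf xf6 yf54 zf16) (kf xf6 yf54 zf17) (kf xf6 yf51 zf42) (kf xf6 yf51 zf45) (kf xf6 yf51 zf53) (kf xf6 yf51 zf54) (kf xf7 yf15 zf52) (kf xf6 yf52 zf41) (kf xf7 yf19 zf58) (kf xf13 yf5 zf5) (kf xf7 yf5 zf16) (kf xf7 yf5 zf17) (kf xf3 yf35 zf57)) (@D3.rec (fun _ =>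 Pt) (kf xf3 yf25 zf25) (kf xf7 yf3 zf46) (kf xf6 yf34 zf10) (kf xf7 yf5 zf32) (kf xf12 yf24 zf24) (kf xf7 yf22 zf9) (kf xf7 yf22 zf10) (kf xf5 yf58 zf20) (kf xf13 yf3 zf49) (kf xf5 yf58 zf26) (kf xf13 yf3 zf50) (kf xf13 yf5 zf23) (kf xf3 yf25 zf38) (kf xf13 yf3 zf51) (kf xf7 yf32 zf27) (kf xf13 yf5 zf28) (kf xf13 yf5 zf32) (kf xf6 yf47 zf2) (kf xf13 yf5 zf30) (kf xf13 yf5 zf29) (kf xf13 yf5 zf42) (kf xf3 yf25 zf43) (kf xf7 yf21 zf2) (kf xf6 yf1 zf8) (kf xf13 yf3 zf8) (kf xf13 yf3 zf7) (kf xf13 yf5 zf52) (kf xf3 yf25 zf46) (kf xf7 yf24 zf30) (kf xf7 yf24 zf31) (kf xf7 yf50 zf53) (kf xf13 yf3 zf11) (kf xf13 yf3 zf59) (kf xf13 yf3 zf13) (kf xf13 yf3 zf12) (kf xf13 yf6 zf8) (kf xf3 yf25 zf49) (kf xf7 yf18 zf34) (kf xf7 yf18 zf35) (kf xf7 yf50 zf52) (kf xf3 yf34 zf45) (kf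 xf3 yf32 zf4) (kf xf3 yf42 zf26) (kf xf3 yf25 zf56) (kf xf7 yf27 zf35) (kf xf7 yf27 zf36) (kf xf7 yf27 zf37) (kf xf7 yf25 zf18) (kf xf7 yf29 zf53) (kf xf6 yf30 zf52) (kf xf13 yf6 zf31) (kf xf7 yf29 zf54) (kf xf13 yf4 zf4) (kf xf13 yf4 zf3) (kf xf9 yf21 zf51) (kf xf9 yf21 zf52) (kf xf5 yf53 zf47) (kf xf6 yf55 zf24) (kf xf13 yf6 zf39) (kf xf5 yf48 zf18) (kf xf7 yf33 zf14) (kf xf7 yf32 zf50)) (@D3.rec (fun _ => Pt) (kf xf6 yf50 zf2) (kf xf13 yf6 zf46) (kf xf7 yf33 zf15) (kf xf13 yf4 zf25) (kf xf4 yf48 zf55) (kf xf13 yf6 zf56) (kf xf3 yf26 zf6) (kf xf7 yf0 zf55) (kf xf7 yf20 zf58) (kf xf13 yf4 zf9) (kf xf13 yf2 zf41) (kf xf7 yf20 zf57) (kf xf13 yf4 zf0) (kf xf7 yf26 zf18) (kf xf7 yf26 zf20) (kf xf11 yf59 zf56) (kf xf6 yf52 zf49) (kf xf6 yf52 zf50) (kf xf13 yf3 zf61) (kf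 xf7 yf36 zf4) (kf xf7 yf30 zf19) (kf xf7 yf30 zf18) (kf xf13 yf7 zf24) (kf xf3 yf26 zf13) (kf xf3 yf27 zf22) (kf xf3 yf27 zf23) (kf xf3 yf27 zf29) (kf xf3 yf27 zf28) (kf xf13 yf3 zf46) (kf xf3 yf26 zf15) (kf xf3 yf27 zf45) (kf xf3 yf26 zf26) (kf xf3 yf27 zf47) (kf xf3 yf27 zf48) (kf xf3 yf27 zf50) (kf xf3 yf27 zf37) (kf xf3 yf34 zf11) (kf xf3 yf34 zf0) (kf xf7 yf12 zf29) (kf xf7 yf16 zf38) (kf xf7 yf20 zf61) (kf xf7 yf21 zf0) (kf xf7 yf53 zf29) (kf xf7 yf53 zf30) (kf xf13 yf7 zf40) (kf xf7 yf47 zf15) (kf xf7 yf37 zf61) (kf xf7 yf46 zf1) (kf xf13 yf8 zf4) (kf xf13 yf8 zf2) (kf xf13 yf8 zf1) (kf xf13 yf8 zf15) (kf xf3 yf26 zf30) (kf xf7 yf53 zf20) (kf xf7 yf53 zf19) (kf xf13 yf8 zf23) (kf xf3 yf26 zf32) (kf xf7 yf50 zf57) (kf xf7 yf50 zf58) (kf xf7 yf11 zf31) (kf xf7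 yf53 zf23) (kf xf7 yf26 zf9)) (@D3.rec (fun _ => Pt) (kf xf7 yf53 zf25) (kf xf7 yf53 zf24) (kf xf13 yf8 zf39) (kf xf3 yf26 zf35) (kf xf7 yf11 zf4) (kf xf7 yf11 zf5) (kf xf7 yf11 zf7) (kf xf3 yf26 zf43) (kf xf13 yf8 zf46) (kf xf3 yf26 zf39) (kf xf7 yf24 zf61) (kf xf7 yf25 zf0) (kf xf7 yf25 zf1) (kf xf7 yf21 zf55) (kf xf7 yf52 zf34) (kf xf13 yf8 zf57) (kf xf7 yf52 zf35) (kf xf6 yf57 zf43) (kf xf13 yf8 zf45) (kf xf3 yf37 zf30) (kf xf7 yf52 zf49) (kf xf3 yf26 zf45) (kf xf13 yf7 zf41) (kf xf7 yf38 zf45) (kf xf6 yf53 zf57) (kf xf11 yf58 zf24) (kf xf7 yf38 zf46) (kf xf13 yf9 zf8) (kf xf3 yf26 zf50) (kf xf7 yf53 zf8) (kf xf7 yf53 zf7) (kf xf13 yf9 zf14) (kf xf3 yf26 zf51) (kf xf7 yf34 zf55) (kf xf7 yf53 zf13) (kf xf7 yf53 zf11) (kf xf7 yf53 zf12) (kf xf6 yf57 zf32) (kf xf7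 yf53 zf15) (kf xf7 yf53 zf14) (kf xf13 yf9 zf29) (kf xf3 yf26 zf54) (kf xf7 yf16 zf21) (kf xf7 yf16 zf22) (kf xf6 yf57 zf31) (kf xf7 yf4 zf55) (kf xf3 yf31 zf25) (kf xf7 yf30 zf1) (kf xf7 yf28 zf23) (kf xf13 yf9 zf44) (kf xf13 yf9 zf46) (kf xf3 yf26 zf59) (kf xf7 yf41 zf53) (kf xf7 yf43 zf28) (kf xf7 yf35 zf59) (kf xf7 yf6 zf20) (kf xf13 yf7 zf25) (kf xf13 yf9 zf54) (kf xf7 yf15 zf18) (kf xf6 yf33 zf23) (kf xf6 yf33 zf22) (kf xf7 yf42 zf43)) (@D3.rec (fun _ => Pt) (kf xf13 yf10 zf2) (kf xf7 yf42 zf16) (kf xf13 yf9 zf52) (kf xf13 yf10 zf13) (kf xf3 yf27 zf4) (kf xf6 yf51 zf32) (kf xf7 yf37 zf30) (kf xf7 yf37 zf29) (kf xf13 yf10 zf20) (kf xf3 yf27 zf6) (kf xf7 yf37 zf34) (kf xf13 yf10 zf26) (kf xf3 yf27 zf7) (kf xf7 yf35 zf51) (kf xf7 yf47 zf1) (kf xf7 yf43 zf37) (kf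 xf13 yf10 zf33) (kf xf13 yf10 zf31) (kf xf7 yf41 zf16) (kf xf8 yf26 zf37) (kf xf3 yf27 zf12) (kf xf7 yf41 zf37) (kf xf7 yf42 zf48) (kf xf11 yf45 zf49) (kf xf3 yf27 zf13) (kf xf7 yf15 zf47) (kf xf7 yf42 zf51) (kf xf11 yf50 zf43) (kf xf3 yf27 zf14) (kf xf7 yf43 zf3) (kf xf12 yf56 zf54) (kf xf7 yf30 zf51) (kf xf7 yf30 zf50) (kf xf13 yf10 zf54) (kf xf3 yf27 zf17) (kf xf10 yf25 zf19) (kf xf7 yf43 zf9) (kf xf7 yf43 zf10) (kf xf7 yf43 zf11) (kf xf11 yf46 zf14) (kf xf11 yf46 zf13) (kf xf9 yf5 zf28) (kf xf11 yf46 zf15) (kf xf11 yf46 zf16) (kf xf11 yf46 zf17) (kf xf11 yf46 zf18) (kf xf7 yf41 zf55) (kf xf13 yf7 zf26) (kf xf7 yf13 zf37) (kf xf13 yf7 zf27) (kf xf13 yf11 zf27) (kf xf7 yf47 zf5) (kf xf7 yf19 zf60) (kf xf13 yf7 zf28) (kf xf6 yf56 zf61) (kf xf6 yf52 zf2) (kf xf3 yf27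 zf24) (kf xf7 yf37 zf25) (kf xf7 yf47 zf2) (kf xf7 yf47 zf3) (kf xf7 yf10 zf39) (kf xf6 yf56 zf54)) (@D3.rec (fun _ => Pt) (kf xf13 yf11 zf53) (kf xf7 yf10 zf40) (kf xf13 yf7 zf33) (kf xf13 yf7 zf34) (kf xf7 yf1 zf60) (kf xf13 yf12 zf3) (kf xf13 yf7 zf30) (kf xf13 yf7 zf31) (kf xf7 yf3 zf15) (kf xf13 yf12 zf11) (kf xf13 yf7 zf37) (kf xf13 yf7 zf36) (kf xf13 yf12 zf20) (kf xf13 yf2 zf56) (kf xf3 yf27 zf30) (kf xf11 yf46 zf19) (kf xf6 yf57 zf19) (kf xf3 yf47 zf53) (kf xf3 yf35 zf15) (kf xf6 yf57 zf16) (kf xf7 yf21 zf3) (kf xf7 yf21 zf4) (kf xf5 yf48 zf21) (kf xf7 yf45 zf61) (kf xf7 yf46 zf2) (kf xf6 yf57 zf34) (kf xf13 yf7 zf45) (kf xf13 yf7 zf44) (kf xf13 yf7 zf48) (kf xf6 yf57 zf33) (kf xf6 yf57 zf35) (kf xf6 yf55 zf44) (kf xf6 yf55 zf37) (kf xf6 yf57 zf29) (kf xf6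 yf57 zf25) (kf xf6 yf57 zf30) (kf xf3 yf35 zf16) (kf xf7 yf45 zf44) (kf xf7 yf9 zf13) (kf xf7 yf25 zf27) (kf xf7 yf25 zf28) (kf xf7 yf11 zf35) (kf xf7 yf54 zf33) (kf xf6 yf55 zf17) (kf xf7 yf54 zf36) (kf xf7 yf9 zf8) (kf xf7 yf34 zf48) (kf xf13 yf7 zf42) (kf xf13 yf7 zf43) (kf xf7 yf11 zf36) (kf xf13 yf7 zf46) (kf xf13 yf13 zf20) (kf xf7 yf11 zf32) (kf xf7 yf11 zf37) (kf xf13 yf7 zf47) (kf xf13 yf5 zf19) (kf xf6 yf22 zf51) (kf xf6 yf22 zf52) (kf xf4 yf53 zf39) (kf xf7 yf5 zf14) (kf xf7 yf5 zf15) (kf xf7 yf5 zf22)) (@D3.rec (fun _ => Pt) (kf xf3 yf44 zf22) (kf xf6 yf58 zf57) (kf xf3 yf44 zf23) (kf xf3 yf56 zf42) (kf xf3 yf56 zf33) (kf xf3 yf56 zf43) (kf xf7 yf5 zf25) (kf xf13 yf13 zf55) (kf xf3 yf36 zf38) (kf xf3 yf36 zf41) (kf xf6 yf58 zf28) (kf xf6 yf58 zf29) (kf xf6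 yf58 zf13) (kf xf6 yf58 zf12) (kf xf3 yf36 zf58) (kf xf3 yf36 zf60) (kf xf6 yf58 zf33) (kf xf6 yf58 zf34) (kf xf6 yf58 zf35) (kf xf10 yf22 zf55) (kf xf6 yf58 zf23) (kf xf6 yf58 zf24) (kf xf6 yf58 zf25) (kf xf6 yf58 zf20) (kf xf6 yf58 zf21) (kf xf6 yf58 zf22) (kf xf3 yf33 zf22) (kf xf3 yf33 zf25) (kf xf6 yf58 zf10) (kf xf6 yf58 zf11) (kf xf3 yf53 zf50) (kf xf3 yf33 zf38) (kf xf3 yf33 zf40) (kf xf6 yf58 zf16) (kf xf6 yf58 zf17) (kf xf6 yf58 zf18) (kf xf13 yf14 zf46) (kf xf3 yf33 zf52) (kf xf3 yf53 zf49) (kf xf3 yf53 zf51) (kf xf3 yf41 zf59) (kf xf3 yf29 zf0) (kf xf3 yf29 zf1) (kf xf13 yf14 zf55) (kf xf3 yf30 zf33) (kf xf3 yf30 zf32) (kf xf13 yf14 zf61) (kf xf3 yf28 zf16) (kf xf3 yf31 zf2) (kf xf3 yf30 zf61) (kf xf3 yf44 zf42) (kf xf3 yf28 zf48) (kf xf3 yf53 zf41) (kf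 xf3 yf53 zf42) (kf xf3 yf30 zf36) (kf xf3 yf28 zf24) (kf xf12 yf30 zf20) (kf xf6 yf58 zf1) (kf xf3 yf45 zf25) (kf xf6 yf22 zf11) (kf xf3 yf28 zf32) (kf xf3 yf45 zf8)) (@D3.rec (fun _ => Pt) (kf xf13 yf15 zf15) (kf xf6 yf20 zf37) (kf xf8 yf23 zf10) (kf xf3 yf28 zf35) (kf xf6 yf20 zf52) (kf xf12 yf13 zf3) (kf xf6 yf27 zf11) (kf xf6 yf18 zf18) (kf xf3 yf28 zf41) (kf xf4 yf42 zf19) (kf xf7 yf10 zf5) (kf xf6 yf59 zf39) (kf xf13 yf4 zf30) (kf xf6 yf59 zf38) (kf xf7 yf13 zf53) (kf xf13 yf15 zf36) (kf xf13 yf15 zf31) (kf xf13 yf15 zf30) (kf xf13 yf15 zf44) (kf xf3 yf28 zf49) (kf xf7 yf5 zf35) (kf xf13 yf15 zf49) (kf xf3 yf28 zf50) (kf xf3 yf46 zf52) (kf xf3 yf46 zf53) (kf xf6 yf21 zf6) (kf xf6 yf21 zf33) (kf xf7 yf48 zf49) (kf xf13 yf15 zf59) (kf xf3 yf28 zf56) (kf xf7 yf48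 zf50) (kf xf6 yf41 zf48) (kf xf7 yf5 zf33) (kf xf3 yf35 zf40) (kf xf7 yf6 zf4) (kf xf7 yf19 zf50) (kf xf7 yf19 zf51) (kf xf7 yf19 zf52) (kf xf6 yf59 zf13) (kf xf6 yf59 zf11) (kf xf6 yf41 zf47) (kf xf13 yf16 zf23) (kf xf7 yf22 zf43) (kf xf7 yf32 zf26) (kf xf7 yf13 zf18) (kf xf7 yf17 zf9) (kf xf7 yf31 zf54) (kf xf13 yf4 zf49) (kf xf13 yf16 zf34) (kf xf7 yf41 zf28) (kf xf13 yf16 zf38) (kf xf13 yf16 zf32) (kf xf13 yf16 zf31) (kf xf13 yf16 zf49) (kf xf3 yf29 zf4) (kf xf3 yf30 zf15) (kf xf3 yf30 zf14) (kf xf13 yf16 zf52) (kf xf3 yf29 zf5) (kf xf3 yf30 zf23) (kf xf3 yf30 zf25) (kf xf7 yf15 zf44))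
def f_f_7 : D2 → D3 → Pt := @D2.rec (fun _ => D3 → Pt) (@D3.rec (fun _ => Pt) (kf xf3 yf30 zf19) (kf xf3 yf30 zf21) (kf xf3 yf30 zf28) (kf xf3 yf52 zf22) (kf xf3 yf29 zf8) (kf xf3 yf30 zf53) (kf xf7 yf15 zf35) (kf xf3 yf29 zf23) (kf xf3 yf30 zf55) (kf xf3 yf30 zf56) (kf xf7 yf15 zf38) (kf xf3 yf30 zf58) (kf xf3 yf30 zf38) (kf xf3 yf30 zf42) (kf xf3 yf30 zf45) (kf xf7 yf47 zf6) (kf xf3 yf45 zf38) (kf xf3 yf45 zf39) (kf xf3 yf45 zf40) (kf xf13 yf17 zf27) (kf xf13 yf17 zf29) (kf xf3 yf29 zf21) (kf xf13 yf17 zf8) (kf xf7 yf47 zf41) (kf xf7 yf15 zf53) (kf xf7 yf15 zf54) (kf xf7 yf15 zf56) (kf xf3 yf45 zf59) (kf xf13 yf17 zf45) (kf xf3 yf45 zf61) (kf xf12 yf45 zf32) (kf xf3 yf46 zf46) (kf xf3 yf46 zf45) (kf xf12 yf56 zf60) (kf xf3 yf46 zf49) (kf xf3 yf46 zf50) (kf xf7 yf47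 zf32) (kf xf3 yf46 zf56) (kf xf3 yf46 zf55) (kf xf3 yf29 zf30) (kf xf3 yf46 zf19) (kf xf3 yf46 zf20) (kf xf3 yf46 zf21) (kf xf3 yf46 zf22) (kf xf7 yf18 zf6) (kf xf8 yf25 zf51) (kf xf7 yf18 zf7) (kf xf7 yf39 zf22) (kf xf7 yf4 zf14) (kf xf3 yf46 zf32) (kf xf13 yf17 zf9) (kf xf13 yf18 zf14) (kf xf13 yf18 zf17) (kf xf13 yf18 zf20) (kf xf13 yf18 zf15) (kf xf6 yf54 zf7) (kf xf13 yf18 zf29) (kf xf3 yf29 zf41) (kf xf3 yf46 zf2) (kf xf3 yf46 zf1) (kf xf13 yf18 zf37) (kf xf3 yf29 zf42)) (@D3.rec (fun _ => Pt) (kf xf3 yf46 zf8) (kf xf3 yf46 zf9) (kf xf7 yf40 zf15) (kf xf3 yf46 zf5) (kf xf3 yf46 zf6) (kf xf13 yf17 zf13) (kf xf3 yf46 zf12) (kf xf3 yf46 zf11) (kf xf7 yf33 zf32) (kf xf3 yf29 zf45) (kf xf3 yf46 zf15) (kf xf3 yf46 zf16) (kf xf7 yf5 zf55) (kf xf12 yf34 zf49) (kf xf13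 yf19 zf3) (kf xf12 yf34 zf51) (kf xf7 yf26 zf30) (kf xf13 yf16 zf59) (kf xf3 yf51 zf14) (kf xf7 yf15 zf60) (kf xf7 yf20 zf29) (kf xf7 yf15 zf61) (kf xf3 yf49 zf60) (kf xf13 yf19 zf16) (kf xf7 yf15 zf58) (kf xf7 yf15 zf59) (kf xf7 yf16 zf0) (kf xf3 yf51 zf24) (kf xf3 yf51 zf23) (kf xf13 yf19 zf32) (kf xf3 yf29 zf55) (kf xf11 yf41 zf45) (kf xf13 yf16 zf53) (kf xf6 yf51 zf51) (kf xf13 yf19 zf36) (kf xf13 yf19 zf40) (kf xf11 yf47 zf10) (kf xf13 yf19 zf38) (kf xf13 yf19 zf37) (kf xf13 yf19 zf50) (kf xf3 yf29 zf61) (kf xf3 yf51 zf18) (kf xf3 yf51 zf17) (kf xf13 yf19 zf58) (kf xf3 yf30 zf0) (kf xf6 yf52 zf40) (kf xf7 yf33 zf41) (kf xf13 yf20 zf2) (kf xf3 yf30 zf1) (kf xf6 yf51 zf52) (kf xf6 yf32 zf55) (kf xf7 yf16 zf8) (kf xf7 yf16 zf9) (kf xf3 yf30 zf9) (kf xf3 yf30 zf8)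 (kf xf13 yf20 zf15) (kf xf3 yf30 zf5) (kf xf6 yf51 zf55) (kf xf13 yf20 zf12) (kf xf13 yf20 zf13) (kf xf6 yf57 zf4) (kf xf13 yf20 zf10)) (@D3.rec (fun _ => Pt) (kf xf13 yf20 zf11) (kf xf7 yf15 zf46) (kf xf7 yf43 zf36) (kf xf13 yf4 zf37) (kf xf13 yf20 zf37) (kf xf3 yf30 zf10) (kf xf6 yf35 zf44) (kf xf6 yf35 zf48) (kf xf12 yf1 zf14) (kf xf9 yf22 zf29) (kf xf12 yf35 zf9) (kf xf11 yf45 zf22) (kf xf7 yf45 zf6) (kf xf5 yf51 zf26) (kf xf12 yf27 zf43) (kf xf7 yf25 zf53) (kf xf13 yf20 zf51) (kf xf13 yf16 zf51) (kf xf7 yf22 zf18) (kf xf13 yf20 zf56) (kf xf3 yf30 zf16) (kf xf3 yf30 zf18) (kf xf7 yf41 zf31) (kf xf7 yf41 zf30) (kf xf13 yf20 zf58) (kf xf12 yf34 zf50) (kf xf13 yf16 zf60) (kf xf7 yf22 zf4) (kf xf13 yf16 zf61) (kf xf13 yf21 zf18) (kf xf3 yf35 zf33) (kf xf7 yf12 zf26)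 (kf xf7 yf18 zf21) (kf xf7 yf47 zf44) (kf xf7 yf47 zf45) (kf xf13 yf17 zf0) (kf xf13 yf21 zf31) (kf xf3 yf42 zf2) (kf xf3 yf52 zf31) (kf xf3 yf30 zf22) (kf xf12 yf36 zf5) (kf xf13 yf16 zf54) (kf xf6 yf52 zf9) (kf xf13 yf16 zf55) (kf xf7 yf15 zf42) (kf xf6 yf52 zf6) (kf xf13 yf16 zf57) (kf xf13 yf21 zf51) (kf xf7 yf15 zf43) (kf xf7 yf45 zf42) (kf xf7 yf45 zf59) (kf xf13 yf21 zf61) (kf xf13 yf17 zf2) (kf xf13 yf17 zf3) (kf xf13 yf22 zf3) (kf xf7 yf47 zf42) (kf xf13 yf17 zf5) (kf xf13 yf22 zf10) (kf xf3 yf47 zf60) (kf xf3 yf30 zf29) (kf xf13 yf20 zf57) (kf xf3 yf30 zf34)) (@D3.rec (fun _ => Pt) (kf xf13 yf14 zf58) (kf xf13 yf14 zf59) (kf xf3 yf52 zf13) (kf xf13 yf14 zf56) (kf xf13 yf14 zf57) (kf xf7 yf24 zf48) (kf xf7 yf46 zf49) (kf xf7 yf10 zf33) (kf xf13 yf22 zf16) (kf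 xf7 yf22 zf13) (kf xf7 yf24 zf33) (kf xf6 yf51 zf61) (kf xf6 yf52 zf0) (kf xf7 yf52 zf58) (kf xf3 yf44 zf30) (kf xf6 yf57 zf8) (kf xf3 yf34 zf2) (kf xf3 yf45 zf3) (kf xf3 yf53 zf31) (kf xf3 yf30 zf39) (kf xf3 yf45 zf42) (kf xf3 yf45 zf44) (kf xf12 yf34 zf11) (kf xf13 yf22 zf55) (kf xf7 yf47 zf47) (kf xf7 yf47 zf49) (kf xf13 yf17 zf17) (kf xf13 yf23 zf3) (kf xf3 yf46 zf10) (kf xf13 yf23 zf7) (kf xf3 yf30 zf43) (kf xf3 yf46 zf58) (kf xf3 yf46 zf54) (kf xf13 yf17 zf19) (kf xf13 yf17 zf20) (kf xf3 yf34 zf9) (kf xf3 yf53 zf32) (kf xf7 yf11 zf58) (kf xf7 yf15 zf34) (kf xf7 yf12 zf12) (kf xf7 yf12 zf13) (kf xf3 yf49 zf51) (kf xf7 yf48 zf3) (kf xf3 yf46 zf27) (kf xf13 yf17 zf7) (kf xf3 yf46 zf26) (kf xf6 yf53 zf1) (kf xf3 yf46 zf36) (kf xf12 yf34 zf7) (kf xf11 yf48 zf23) (kf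 xf7 yf15 zf36) (kf xf13 yf17 zf11) (kf xf13 yf23 zf34) (kf xf3 yf46 zf51) (kf xf7 yf15 zf37) (kf xf13 yf17 zf15) (kf xf13 yf17 zf16) (kf xf7 yf15 zf39) (kf xf7 yf17 zf2) (kf xf9 yf21 zf20) (kf xf13 yf15 zf2) (kf xf7 yf17 zf5)) (@D3.rec (fun _ => Pt) (kf xf13 yf15 zf0) (kf xf13 yf15 zf1) (kf xf3 yf34 zf16) (kf xf12 yf16 zf29) (kf xf3 yf39 zf45) (kf xf3 yf39 zf46) (kf xf13 yf4 zf15) (kf xf3 yf53 zf44) (kf xf3 yf53 zf46) (kf xf3 yf39 zf36) (kf xf3 yf39 zf39) (kf xf13 yf24 zf12) (kf xf3 yf31 zf18) (kf xf3 yf31 zf14) (kf xf7 yf0 zf48) (kf xf3 yf40 zf58) (kf xf11 yf30 zf13) (kf xf13 yf24 zf14) (kf xf6 yf52 zf13) (kf xf7 yf4 zf46) (kf xf13 yf17 zf30) (kf xf13 yf24 zf13) (kf xf3 yf54 zf42) (kf xf7 yf4 zf24) (kf xf7 yf4 zf23) (kf xf3 yf40 zf50) (kf xf3 yf40 zf56) (kf xf7 yf4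 zf53) (kf xf7 yf4 zf54) (kf xf13 yf9 zf36) (kf xf7 yf4 zf56) (kf xf3 yf41 zf14) (kf xf3 yf35 zf31) (kf xf3 yf41 zf16) (kf xf7 yf4 zf59) (kf xf7 yf4 zf60) (kf xf7 yf4 zf61) (kf xf7 yf5 zf0) (kf xf13 yf25 zf7) (kf xf13 yf24 zf44) (kf xf3 yf41 zf40) (kf xf7 yf51 zf51) (kf xf3 yf31 zf29) (kf xf7 yf5 zf5) (kf xf7 yf5 zf7) (kf xf7 yf5 zf9) (kf xf7 yf4 zf19) (kf xf3 yf41 zf55) (kf xf3 yf41 zf58) (kf xf3 yf39 zf9) (kf xf3 yf37 zf57) (kf xf3 yf43 zf49) (kf xf3 yf43 zf53) (kf xf7 yf4 zf27) (kf xf7 yf4 zf28) (kf xf6 yf55 zf45) (kf xf7 yf4 zf30) (kf xf3 yf44 zf3) (kf xf3 yf44 zf5) (kf xf7 yf4 zf34) (kf xf7 yf4 zf35) (kf xf7 yf4 zf36)) (@D3.rec (fun _ => Pt) (kf xf7 yf4 zf37) (kf xf13 yf25 zf51) (kf xf3 yf44 zf18) (kf xf7 yf16 zf35) (kf xf7 yf16 zf36) (kf xf7 yf4 zf43) (kf xf3 yf44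 zf33) (kf xf7 yf4 zf44) (kf xf3 yf44 zf21) (kf xf7 yf4 zf45) (kf xf3 yf44 zf25) (kf xf3 yf44 zf29) (kf xf3 yf37 zf39) (kf xf6 yf51 zf24) (kf xf6 yf57 zf59) (kf xf6 yf57 zf60) (kf xf6 yf52 zf59) (kf xf6 yf52 zf60) (kf xf3 yf44 zf27) (kf xf3 yf44 zf28) (kf xf6 yf51 zf25) (kf xf6 yf51 zf26) (kf xf6 yf57 zf61) (kf xf3 yf44 zf17) (kf xf3 yf44 zf20) (kf xf6 yf58 zf6) (kf xf13 yf26 zf31) (kf xf3 yf31 zf60) (kf xf3 yf48 zf18) (kf xf3 yf38 zf5) (kf xf6 yf52 zf37) (kf xf6 yf52 zf38) (kf xf6 yf53 zf3) (kf xf6 yf59 zf32) (kf xf4 yf20 zf37) (kf xf6 yf59 zf20) (kf xf7 yf18 zf8) (kf xf7 yf12 zf0) (kf xf13 yf23 zf57) (kf xf8 yf45 zf61) (kf xf8 yf45 zf60) (kf xf3 yf32 zf19) (kf xf13 yf26 zf46) (kf xf7 yf12 zf39) (kf xf7 yf12 zf40) (kf xf7 yf12 zf36) (kf xf7 yf12 zf37) (kf xf7 yf18 zf16)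 (kf xf7 yf12 zf43) (kf xf7 yf12 zf42) (kf xf13 yf27 zf6) (kf xf3 yf32 zf23) (kf xf7 yf12 zf46) (kf xf7 yf12 zf47) (kf xf7 yf12 zf24) (kf xf7 yf1 zf12) (kf xf3 yf46 zf60) (kf xf3 yf53 zf27) (kf xf3 yf32 zf59) (kf xf7 yf12 zf49) (kf xf7 yf12 zf48) (kf xf7 yf16 zf39)) (@D3.rec (fun _ => Pt) (kf xf7 yf16 zf40) (kf xf7 yf16 zf41) (kf xf7 yf16 zf42) (kf xf13 yf27 zf33) (kf xf6 yf59 zf34) (kf xf13 yf26 zf52) (kf xf13 yf26 zf53) (kf xf13 yf27 zf37) (kf xf3 yf32 zf38) (kf xf8 yf46 zf13) (kf xf7 yf12 zf15) (kf xf7 yf12 zf16) (kf xf7 yf18 zf27) (kf xf7 yf12 zf18) (kf xf7 yf12 zf17) (kf xf13 yf27 zf45) (kf xf3 yf32 zf41) (kf xf7 yf12 zf21) (kf xf7 yf12 zf22) (kf xf3 yf49 zf48) (kf xf6 yf55 zf55) (kf xf7 yf12 zf55) (kf xf7 yf12 zf56) (kf xf13 yf14 zf26) (kf xf7 yf8 zf15) (kf xf13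 yf27 zf60) (kf xf7 yf12 zf59) (kf xf7 yf12 zf58) (kf xf13 yf28 zf9) (kf xf3 yf32 zf47) (kf xf3 yf33 zf46) (kf xf3 yf33 zf45) (kf xf13 yf28 zf14) (kf xf3 yf32 zf48) (kf xf3 yf33 zf53) (kf xf3 yf33 zf55) (kf xf3 yf33 zf49) (kf xf3 yf33 zf51) (kf xf3 yf53 zf33) (kf xf3 yf33 zf58) (kf xf3 yf33 zf57) (kf xf13 yf28 zf33) (kf xf3 yf32 zf51) (kf xf3 yf33 zf3) (kf xf3 yf34 zf13) (kf xf3 yf34 zf14) (kf xf3 yf34 zf5) (kf xf3 yf34 zf6) (kf xf3 yf49 zf44) (kf xf3 yf49 zf45) (kf xf3 yf34 zf40) (kf xf3 yf34 zf41) (kf xf3 yf34 zf37) (kf xf3 yf34 zf38) (kf xf3 yf52 zf28) (kf xf13 yf27 zf17) (kf xf13 yf27 zf18) (kf xf13 yf6 zf15) (kf xf7 yf10 zf48) (kf xf13 yf29 zf10) (kf xf3 yf42 zf27) (kf xf3 yf54 zf38)) (@D3.rec (fun _ => Pt) (kf xf13 yf28 zf35) (kf xf13 yf29 zf14) (kf xf13 yf15 zf35)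 (kf xf13 yf29 zf13) (kf xf13 yf29 zf21) (kf xf3 yf33 zf6) (kf xf5 yf42 zf46) (kf xf8 yf10 zf30) (kf xf7 yf13 zf49) (kf xf5 yf42 zf38) (kf xf12 yf6 zf37) (kf xf3 yf33 zf8) (kf xf7 yf13 zf54) (kf xf7 yf13 zf55) (kf xf7 yf10 zf6) (kf xf7 yf13 zf51) (kf xf7 yf13 zf52) (kf xf7 yf13 zf57) (kf xf7 yf13 zf56) (kf xf13 yf29 zf44) (kf xf3 yf33 zf11) (kf xf7 yf13 zf60) (kf xf7 yf13 zf61) (kf xf3 yf44 zf41) (kf xf7 yf10 zf18) (kf xf7 yf9 zf32) (kf xf7 yf48 zf29) (kf xf7 yf48 zf34) (kf xf3 yf48 zf20) (kf xf3 yf48 zf21) (kf xf3 yf48 zf22) (kf xf3 yf52 zf45) (kf xf3 yf52 zf46) (kf xf13 yf28 zf36) (kf xf13 yf14 zf23) (kf xf5 yf42 zf47) (kf xf13 yf14 zf22) (kf xf13 yf14 zf24) (kf xf4 yf23 zf3) (kf xf4 yf23 zf2) (kf xf13 yf30 zf9) (kf xf3 yf33 zf23) (kf xf7 yf13 zf38) (kf xf7 yf15 zf24)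 (kf xf7 yf13 zf41) (kf xf7 yf13 zf40) (kf xf13 yf14 zf25) (kf xf7 yf14 zf0) (kf xf7 yf14 zf39) (kf xf7 yf14 zf2) (kf xf13 yf28 zf18) (kf xf13 yf30 zf25) (kf xf3 yf53 zf13) (kf xf13 yf30 zf24) (kf xf13 yf30 zf23) (kf xf13 yf30 zf35) (kf xf3 yf33 zf31) (kf xf4 yf23 zf13) (kf xf4 yf23 zf12) (kf xf11 yf13 zf12) (kf xf7 yf14 zf24) (kf xf7 yf14 zf23)) (@D3.rec (fun _ => Pt) (kf xf13 yf30 zf47) (kf xf3 yf33 zf33) (kf xf7 yf14 zf46) (kf xf13 yf14 zf33) (kf xf13 yf14 zf31) (kf xf13 yf14 zf32) (kf xf13 yf14 zf34) (kf xf7 yf14 zf13) (kf xf7 yf14 zf12) (kf xf11 yf23 zf32) (kf xf3 yf33 zf39) (kf xf7 yf14 zf17) (kf xf7 yf14 zf16) (kf xf10 yf15 zf12) (kf xf7 yf57 zf16) (kf xf7 yf6 zf24) (kf xf13 yf31 zf11) (kf xf3 yf37 zf5) (kf xf3 yf37 zf4) (kf xf13 yf31 zf15) (kf xf3 yf33 zf44)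 (kf xf9 yf44 zf35) (kf xf13 yf28 zf10) (kf xf13 yf28 zf11) (kf xf8 yf3 zf26) (kf xf8 yf3 zf41) (kf xf11 yf32 zf36) (kf xf13 yf28 zf12) (kf xf4 yf25 zf28) (kf xf13 yf31 zf31) (kf xf3 yf33 zf47) (kf xf7 yf14 zf1) (kf xf13 yf28 zf19) (kf xf3 yf49 zf27) (kf xf13 yf28 zf20) (kf xf13 yf14 zf47) (kf xf3 yf35 zf35) (kf xf7 yf37 zf37) (kf xf3 yf53 zf10) (kf xf7 yf40 zf30) (kf xf7 yf40 zf28) (kf xf13 yf28 zf22) (kf xf13 yf31 zf58) (kf xf3 yf38 zf44) (kf xf6 yf14 zf59) (kf xf11 yf28 zf0) (kf xf3 yf54 zf31) (kf xf13 yf28 zf15) (kf xf13 yf32 zf10) (kf xf3 yf54 zf29) (kf xf3 yf55 zf61) (kf xf13 yf28 zf16) (kf xf13 yf32 zf16) (kf xf13 yf24 zf31) (kf xf3 yf33 zf56) (kf xf13 yf28 zf27) (kf xf13 yf28 zf28) (kf xf3 yf39 zf37) (kf xf13 yf32 zf27) (kf xf13 yf28 zf24) (kf xf13 yf28 zf25)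 (kf xf7 yf53 zf3)) (@D3.rec (fun _ => Pt) (kf xf13 yf32 zf37) (kf xf13 yf28 zf31) (kf xf13 yf28 zf30) (kf xf13 yf32 zf46) (kf xf13 yf28 zf46) (kf xf3 yf33 zf59) (kf xf13 yf31 zf32) (kf xf13 yf7 zf50) (kf xf6 yf57 zf45) (kf xf3 yf54 zf22) (kf xf3 yf54 zf23) (kf xf3 yf45 zf0) (kf xf13 yf22 zf42) (kf xf6 yf57 zf38) (kf xf7 yf13 zf25) (kf xf7 yf13 zf26) (kf xf7 yf13 zf29) (kf xf12 yf8 zf38) (kf xf13 yf28 zf41) (kf xf7 yf18 zf19) (kf xf7 yf40 zf35) (kf xf7 yf40 zf33) (kf xf13 yf28 zf42) (kf xf13 yf33 zf23) (kf xf7 yf13 zf39) (kf xf7 yf18 zf20) (kf xf3 yf46 zf17) (kf xf3 yf46 zf7) (kf xf13 yf23 zf13) (kf xf13 yf23 zf15) (kf xf3 yf48 zf46) (kf xf3 yf48 zf47) (kf xf7 yf7 zf25) (kf xf3 yf41 zf46) (kf xf7 yf12 zf41) (kf xf3 yf34 zf12) (kf xf7 yf13 zf27) (kf xf13 yf28 zf37) (kf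 xf13 yf28 zf38) (kf xf13 yf33 zf49) (kf xf13 yf28 zf39) (kf xf13 yf33 zf55) (kf xf13 yf33 zf57) (kf xf3 yf34 zf15) (kf xf13 yf23 zf52) (kf xf13 yf23 zf55) (kf xf3 yf42 zf25) (kf xf3 yf39 zf44) (kf xf3 yf47 zf10) (kf xf3 yf47 zf14) (kf xf3 yf39 zf47) (kf xf3 yf47 zf26) (kf xf3 yf35 zf55) (kf xf3 yf47 zf28) (kf xf7 yf52 zf61) (kf xf7 yf53 zf0) (kf xf7 yf53 zf1) (kf xf13 yf34 zf14) (kf xf9 yf18 zf56) (kf xf3 yf46 zf23) (kf xf3 yf46 zf25) (kf xf3 yf37 zf50)) (@D3.rec (fun _ => Pt) (kf xf3 yf46 zf42) (kf xf3 yf46 zf43) (kf xf3 yf46 zf37) (kf xf3 yf46 zf44) (kf xf13 yf34 zf34) (kf xf6 yf59 zf10) (kf xf7 yf7 zf14) (kf xf7 yf37 zf38) (kf xf3 yf34 zf31) (kf xf7 yf12 zf50) (kf xf7 yf12 zf51) (kf xf7 yf12 zf52) (kf xf7 yf12 zf53) (kf xf13 yf34 zf46) (kf xf13 yf34 zf50) (kf xf3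 yf48 zf51) (kf xf7 yf32 zf23) (kf xf3 yf34 zf34) (kf xf7 yf7 zf24) (kf xf13 yf28 zf53) (kf xf13 yf28 zf54) (kf xf13 yf28 zf55) (kf xf13 yf2 zf34) (kf xf13 yf28 zf56) (kf xf3 yf52 zf26) (kf xf13 yf35 zf10) (kf xf3 yf52 zf27) (kf xf13 yf28 zf48) (kf xf13 yf28 zf49) (kf xf13 yf28 zf50) (kf xf13 yf28 zf51) (kf xf13 yf35 zf28) (kf xf13 yf35 zf32) (kf xf7 yf3 zf7) (kf xf3 yf34 zf42) (kf xf13 yf35 zf37) (kf xf7 yf30 zf55) (kf xf7 yf18 zf38) (kf xf3 yf34 zf43) (kf xf6 yf56 zf60) (kf xf6 yf57 zf1) (kf xf13 yf6 zf16) (kf xf3 yf44 zf60) (kf xf13 yf35 zf52) (kf xf13 yf35 zf55) (kf xf3 yf34 zf46) (kf xf7 yf16 zf7) (kf xf13 yf36 zf0) (kf xf7 yf6 zf58) (kf xf13 yf36 zf8) (kf xf13 yf29 zf9) (kf xf13 yf29 zf8) (kf xf3 yf34 zf50) (kf xf13 yf36 zf17) (kf xf7 yf11 zf10) (kf xf7 yf11 zf11)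 (kf xf7 yf11 zf12) (kf xf10 yf56 zf20) (kf xf3 yf41 zf50) (kf xf7 yf11 zf17) (kf xf3 yf41 zf37) (kf xf7 yf11 zf18)) (@D3.rec (fun _ => Pt) (kf xf7 yf11 zf19) (kf xf3 yf41 zf61) (kf xf3 yf55 zf47) (kf xf3 yf55 zf51) (kf xf6 yf55 zf4) (kf xf6 yf55 zf5) (kf xf7 yf20 zf47) (kf xf6 yf55 zf6) (kf xf3 yf48 zf13) (kf xf3 yf48 zf15) (kf xf7 yf10 zf54) (kf xf7 yf10 zf55) (kf xf7 yf10 zf56) (kf xf13 yf37 zf3) (kf xf3 yf51 zf7) (kf xf6 yf52 zf39) (kf xf7 yf55 zf13) (kf xf7 yf10 zf59) (kf xf7 yf10 zf61) (kf xf7 yf11 zf0) (kf xf3 yf42 zf46) (kf xf6 yf22 zf47) (kf xf6 yf22 zf53) (kf xf6 yf22 zf54) (kf xf3 yf42 zf56) (kf xf3 yf42 zf58) (kf xf3 yf44 zf16) (kf xf3 yf44 zf19) (kf xf3 yf44 zf24) (kf xf13 yf37 zf28) (kf xf7 yf45 zf45) (kf xf6 yf54 zf59) (kf xf6 yf57 zf52) (kf xf13 yf12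 zf60) (kf xf13 yf5 zf56) (kf xf6 yf57 zf41) (kf xf6 yf57 zf49) (kf xf6 yf57 zf53) (kf xf6 yf24 zf6) (kf xf6 yf24 zf7) (kf xf12 yf0 zf45) (kf xf6 yf24 zf12) (kf xf6 yf24 zf13) (kf xf6 yf24 zf14) (kf xf6 yf26 zf21) (kf xf4 yf50 zf6) (kf xf12 yf13 zf9) (kf xf3 yf39 zf18) (kf xf3 yf39 zf19) (kf xf3 yf39 zf35) (kf xf13 yf4 zf16) (kf xf3 yf39 zf38) (kf xf3 yf39 zf43) (kf xf13 yf38 zf6) (kf xf6 yf52 zf14) (kf xf7 yf52 zf52) (kf xf7 yf37 zf39) (kf xf7 yf19 zf42) (kf xf7 yf3 zf37) (kf xf13 yf24 zf15) (kf xf13 yf16 zf5) (kf xf7 yf19 zf43)) (@D3.rec (fun _ => Pt) (kf xf7 yf5 zf37) (kf xf13 yf38 zf11) (kf xf13 yf38 zf14) (kf xf13 yf38 zf13) (kf xf13 yf38 zf12) (kf xf13 yf38 zf25) (kf xf3 yf35 zf44) (kf xf13 yf38 zf27) (kf xf4 yf24 zf1) (kf xf13 yf31 zf17) (kf xf4 yf24 zf11) (kf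 xf4 yf24 zf23) (kf xf7 yf3 zf39) (kf xf7 yf3 zf40) (kf xf7 yf40 zf36) (kf xf7 yf6 zf10) (kf xf7 yf6 zf11) (kf xf7 yf6 zf14) (kf xf7 yf6 zf13) (kf xf12 yf47 zf15) (kf xf3 yf35 zf50) (kf xf7 yf6 zf17) (kf xf7 yf6 zf18) (kf xf7 yf40 zf31) (kf xf7 yf5 zf54) (kf xf7 yf30 zf56) (kf xf7 yf2 zf31) (kf xf3 yf53 zf7) (kf xf3 yf38 zf59) (kf xf6 yf54 zf38) (kf xf13 yf16 zf4) (kf xf13 yf38 zf35) (kf xf13 yf38 zf36) (kf xf13 yf38 zf55) (kf xf3 yf36 zf6) (kf xf4 yf24 zf17) (kf xf7 yf5 zf45) (kf xf7 yf5 zf46) (kf xf7 yf19 zf55) (kf xf7 yf5 zf43) (kf xf7 yf5 zf44) (kf xf7 yf9 zf34) (kf xf7 yf5 zf49) (kf xf7 yf5 zf48) (kf xf13 yf39 zf8) (kf xf3 yf36 zf10) (kf xf7 yf5 zf52) (kf xf7 yf5 zf53) (kf xf7 yf5 zf60) (kf xf7 yf5 zf59) (kf xf7 yf10 zf9) (kf xf7 yf10 zf10) (kf xf7 yf10 zf11) (kf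 xf7 yf10 zf12) (kf xf13 yf39 zf24) (kf xf7 yf6 zf21) (kf xf7 yf6 zf22) (kf xf13 yf13 zf60) (kf xf7 yf6 zf27) (kf xf7 yf6 zf26) (kf xf13 yf39 zf36) (kf xf3 yf36 zf18)) (@D3.rec (fun _ => Pt) (kf xf3 yf37 zf10) (kf xf3 yf37 zf11) (kf xf3 yf37 zf8) (kf xf3 yf37 zf9) (kf xf3 yf37 zf14) (kf xf3 yf37 zf13) (kf xf13 yf39 zf56) (kf xf3 yf36 zf21) (kf xf3 yf36 zf34) (kf xf3 yf37 zf25) (kf xf3 yf37 zf26) (kf xf3 yf37 zf19) (kf xf3 yf37 zf20) (kf xf3 yf37 zf31) (kf xf3 yf37 zf37) (kf xf13 yf40 zf12) (kf xf3 yf50 zf19) (kf xf3 yf36 zf27) (kf xf6 yf59 zf44) (kf xf7 yf34 zf45) (kf xf7 yf16 zf12) (kf xf13 yf40 zf23) (kf xf3 yf49 zf4) (kf xf3 yf49 zf5) (kf xf3 yf49 zf6) (kf xf7 yf9 zf14) (kf xf7 yf9 zf15) (kf xf7 yf9 zf36) (kf xf13 yf39 zf58) (kf xf7 yf9 zf16) (kf xf6 yf15 zf9) (kf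 xf13 yf40 zf2) (kf xf13 yf13 zf58) (kf xf13 yf13 zf56) (kf xf13 yf13 zf57) (kf xf3 yf53 zf4) (kf xf3 yf53 zf5) (kf xf6 yf56 zf48) (kf xf7 yf7 zf42) (kf xf7 yf9 zf24) (kf xf7 yf7 zf45) (kf xf7 yf7 zf44) (kf xf13 yf13 zf59) (kf xf3 yf38 zf7) (kf xf13 yf39 zf59) (kf xf13 yf40 zf47) (kf xf13 yf40 zf48) (kf xf10 yf14 zf52) (kf xf3 yf36 zf47) (kf xf7 yf7 zf8) (kf xf9 yf3 zf4) (kf xf7 yf7 zf15) (kf xf7 yf7 zf16) (kf xf6 yf59 zf14) (kf xf7 yf7 zf12) (kf xf7 yf7 zf13) (kf xf7 yf7 zf18) (kf xf7 yf7 zf17) (kf xf13 yf41 zf19) (kf xf3 yf36 zf51) (kf xf7 yf7 zf21) (kf xf7 yf7 zf22)) (@D3.rec (fun _ => Pt) (kf xf7 yf7 zf47) (kf xf7 yf8 zf31) (kf xf7 yf7 zf49) (kf xf3 yf47 zf33) (kf xf13 yf39 zf41) (kf xf4 yf32 zf34) (kf xf13 yf14 zf4) (kf xf5 yf54 zf22) (kf xf4 yf32 zf30) (kf xf13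 yf14 zf2) (kf xf13 yf14 zf3) (kf xf13 yf14 zf5) (kf xf7 yf8 zf8) (kf xf7 yf8 zf7) (kf xf13 yf41 zf45) (kf xf3 yf36 zf59) (kf xf7 yf8 zf12) (kf xf7 yf8 zf11) (kf xf10 yf3 zf42) (kf xf13 yf41 zf52) (kf xf13 yf41 zf51) (kf xf13 yf41 zf31) (kf xf3 yf37 zf0) (kf xf7 yf7 zf61) (kf xf7 yf7 zf60) (kf xf13 yf42 zf0) (kf xf3 yf37 zf1) (kf xf6 yf13 zf43) (kf xf8 yf2 zf7) (kf xf12 yf7 zf19) (kf xf13 yf26 zf44) (kf xf13 yf31 zf12) (kf xf10 yf1 zf24) (kf xf10 yf16 zf8) (kf xf12 yf5 zf11) (kf xf13 yf31 zf13) (kf xf8 yf51 zf40) (kf xf13 yf42 zf16) (kf xf3 yf37 zf6) (kf xf7 yf7 zf48) (kf xf13 yf39 zf42) (kf xf13 yf39 zf43) (kf xf13 yf39 zf38) (kf xf7 yf51 zf12) (kf xf13 yf39 zf44) (kf xf13 yf42 zf34) (kf xf7 yf8 zf2) (kf xf12 yf8 zf23) (kf xf3 yf55 zf23) (kf xf13 yf39 zf37) (kf xf7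 yf49 zf9) (kf xf13 yf39 zf39) (kf xf13 yf42 zf48) (kf xf7 yf49 zf11) (kf xf13 yf39 zf49) (kf xf13 yf39 zf50) (kf xf3 yf38 zf40) (kf xf13 yf42 zf59) (kf xf13 yf39 zf46) (kf xf13 yf39 zf47) (kf xf7 yf39 zf4) (kf xf13 yf43 zf8)) (@D3.rec (fun _ => Pt) (kf xf13 yf39 zf53) (kf xf13 yf39 zf52) (kf xf13 yf43 zf19) (kf xf13 yf40 zf13) (kf xf3 yf37 zf15) (kf xf13 yf42 zf17) (kf xf3 yf55 zf15) (kf xf3 yf55 zf16) (kf xf3 yf49 zf8) (kf xf3 yf49 zf10) (kf xf6 yf15 zf8) (kf xf13 yf40 zf3) (kf xf13 yf40 zf4) (kf xf13 yf33 zf39) (kf xf13 yf26 zf58) (kf xf13 yf40 zf5) (kf xf13 yf43 zf49) (kf xf3 yf39 zf48) (kf xf6 yf55 zf58) (kf xf13 yf39 zf60) (kf xf13 yf39 zf61) (kf xf7 yf48 zf59) (kf xf13 yf40 zf0) (kf xf13 yf44 zf2) (kf xf7 yf7 zf43) (kf xf7 yf48 zf61) (kf xf3 yf47 zf2) (kf xf3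 yf47 zf5) (kf xf3 yf39 zf51) (kf xf3 yf38 zf52) (kf xf3 yf49 zf15) (kf xf13 yf40 zf7) (kf xf7 yf38 zf42) (kf xf3 yf38 zf56) (kf xf7 yf3 zf38) (kf xf7 yf0 zf6) (kf xf7 yf3 zf50) (kf xf7 yf3 zf54) (kf xf7 yf0 zf10) (kf xf7 yf3 zf57) (kf xf13 yf40 zf8) (kf xf7 yf39 zf1) (kf xf7 yf2 zf44) (kf xf7 yf2 zf48) (kf xf6 yf59 zf61) (kf xf13 yf6 zf14) (kf xf7 yf2 zf1) (kf xf6 yf56 zf25) (kf xf3 yf47 zf20) (kf xf13 yf39 zf55) (kf xf13 yf44 zf35) (kf xf3 yf37 zf40) (kf xf6 yf52 zf55) (kf xf7 yf0 zf24) (kf xf7 yf0 zf25) (kf xf6 yf33 zf33) (kf xf7 yf0 zf26) (kf xf13 yf44 zf45) (kf xf7 yf1 zf24) (kf xf7 yf1 zf25) (kf xf7 yf1 zf19) (kf xf7 yf1 zf21)) (@D3.rec (fun _ => Pt) (kf xf7 yf1 zf26) (kf xf6 yf34 zf8) (kf xf13 yf45 zf3) (kf xf6 yf34 zf9) (kf xf13 yf34 zf20) (kf xf13 yf34 zf21)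 (kf xf13 yf34 zf22) (kf xf7 yf10 zf46) (kf xf7 yf1 zf51) (kf xf7 yf1 zf52) (kf xf7 yf18 zf39) (kf xf13 yf45 zf18) (kf xf7 yf13 zf20) (kf xf13 yf45 zf25) (kf xf13 yf40 zf22) (kf xf13 yf40 zf21) (kf xf3 yf37 zf55) (kf xf13 yf45 zf34) (kf xf3 yf51 zf61) (kf xf3 yf50 zf31) (kf xf3 yf55 zf45) (kf xf6 yf55 zf42) (kf xf6 yf55 zf43) (kf xf3 yf50 zf50) (kf xf3 yf50 zf52) (kf xf7 yf16 zf29) (kf xf7 yf16 zf30) (kf xf7 yf16 zf31) (kf xf13 yf46 zf1) (kf xf7 yf16 zf25) (kf xf7 yf16 zf26) (kf xf7 yf16 zf27) (kf xf13 yf46 zf11) (kf xf7 yf55 zf22) (kf xf3 yf39 zf53) (kf xf7 yf5 zf3) (kf xf7 yf5 zf4) (kf xf6 yf33 zf61) (kf xf6 yf54 zf39) (kf xf7 yf5 zf61) (kf xf7 yf6 zf0) (kf xf7 yf6 zf1) (kf xf7 yf6 zf2) (kf xf13 yf46 zf23) (kf xf7 yf18 zf47) (kf xf7 yf18 zf48) (kf xf13 yf38 zf43) (kf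 xf13 yf46 zf29) (kf xf7 yf18 zf51) (kf xf7 yf18 zf50) (kf xf13 yf46 zf41) (kf xf3 yf38 zf14) (kf xf13 yf46 zf43) (kf xf3 yf38 zf15) (kf xf3 yf38 zf41) (kf xf3 yf38 zf42) (kf xf3 yf38 zf38) (kf xf3 yf38 zf39) (kf xf13 yf38 zf48) (kf xf3 yf38 zf45) (kf xf7 yf18 zf0) (kf xf3 yf38 zf18)) (@D3.rec (fun _ => Pt) (kf xf3 yf38 zf60) (kf xf3 yf38 zf61) (kf xf7 yf3 zf58) (kf xf3 yf38 zf54) (kf xf3 yf38 zf55) (kf xf7 yf3 zf61) (kf xf7 yf18 zf53) (kf xf7 yf19 zf22) (kf xf7 yf18 zf55) (kf xf6 yf59 zf45) (kf xf13 yf46 zf46) (kf xf12 yf7 zf47) (kf xf12 yf7 zf46) (kf xf3 yf38 zf26) (kf xf7 yf19 zf10) (kf xf12 yf46 zf16) (kf xf3 yf38 zf27) (kf xf12 yf8 zf33) (kf xf12 yf8 zf32) (kf xf13 yf47 zf23) (kf xf3 yf38 zf29) (kf xf7 yf19 zf0) (kf xf13 yf47 zf27) (kf xf3 yf38 zf30) (kf xf8 yf48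 zf60) (kf xf3 yf39 zf31) (kf xf13 yf47 zf31) (kf xf3 yf38 zf33) (kf xf4 yf20 zf38) (kf xf11 yf33 zf33) (kf xf4 yf25 zf21) (kf xf10 yf16 zf17) (kf xf13 yf42 zf8) (kf xf10 yf1 zf25) (kf xf13 yf47 zf47) (kf xf3 yf38 zf36) (kf xf7 yf18 zf54) (kf xf13 yf34 zf24) (kf xf13 yf46 zf47) (kf xf13 yf42 zf51) (kf xf7 yf49 zf13) (kf xf13 yf46 zf49) (kf xf13 yf48 zf6) (kf xf7 yf19 zf6) (kf xf12 yf8 zf29) (kf xf3 yf41 zf48) (kf xf13 yf46 zf44) (kf xf13 yf48 zf19) (kf xf13 yf46 zf45) (kf xf13 yf48 zf25) (kf xf6 yf52 zf21) (kf xf7 yf53 zf49) (kf xf3 yf38 zf43) (kf xf13 yf31 zf44) (kf xf13 yf31 zf59) (kf xf13 yf48 zf36) (kf xf13 yf46 zf51) (kf xf13 yf46 zf52) (kf xf13 yf48 zf44) (kf xf13 yf33 zf24) (kf xf13 yf46 zf54) (kf xf13 yf48 zf53)) (@D3.rec (fun _ => Pt) (kf xf7 yf16 zf60) (kf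 xf3 yf38 zf46) (kf xf13 yf47 zf48) (kf xf7 yf37 zf36) (kf xf3 yf41 zf38) (kf xf3 yf41 zf39) (kf xf7 yf0 zf44) (kf xf7 yf0 zf46) (kf xf7 yf5 zf36) (kf xf13 yf38 zf9) (kf xf13 yf46 zf61) (kf xf13 yf44 zf8) (kf xf13 yf46 zf58) (kf xf13 yf40 zf50) (kf xf13 yf47 zf1) (kf xf13 yf49 zf22) (kf xf7 yf5 zf47) (kf xf13 yf40 zf31) (kf xf3 yf53 zf6) (kf xf7 yf9 zf19) (kf xf7 yf9 zf25) (kf xf7 yf2 zf32) (kf xf13 yf16 zf3) (kf xf13 yf46 zf57) (kf xf13 yf49 zf34) (kf xf13 yf46 zf59) (kf xf13 yf49 zf40) (kf xf7 yf6 zf12) (kf xf13 yf41 zf4) (kf xf3 yf39 zf0) (kf xf7 yf55 zf23) (kf xf7 yf55 zf24) (kf xf6 yf51 zf47) (kf xf6 yf51 zf50) (kf xf6 yf53 zf37) (kf xf6 yf53 zf38) (kf xf7 yf28 zf5) (kf xf3 yf44 zf57) (kf xf7 yf10 zf37) (kf xf7 yf16 zf10) (kf xf13 yf50 zf0) (kf xf6 yf51 zf60) (kf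 xf7 yf43 zf33) (kf xf6 yf52 zf7) (kf xf6 yf52 zf11) (kf xf7 yf52 zf55) (kf xf3 yf53 zf2) (kf xf7 yf16 zf44) (kf xf7 yf16 zf45) (kf xf13 yf27 zf7) (kf xf7 yf16 zf49) (kf xf7 yf16 zf48) (kf xf13 yf37 zf57) (kf xf7 yf17 zf6) (kf xf7 yf17 zf36) (kf xf7 yf17 zf8) (kf xf13 yf37 zf59) (kf xf13 yf50 zf25) (kf xf13 yf50 zf24) (kf xf13 yf50 zf23) (kf xf13 yf50 zf31) (kf xf3 yf39 zf23)) (@D3.rec (fun _ => Pt) (kf xf7 yf17 zf21) (kf xf3 yf53 zf34) (kf xf13 yf50 zf37) (kf xf3 yf39 zf24) (kf xf6 yf15 zf4) (kf xf13 yf38 zf0) (kf xf7 yf17 zf43) (kf xf6 yf14 zf56) (kf xf6 yf14 zf55) (kf xf3 yf39 zf28) (kf xf7 yf17 zf14) (kf xf13 yf41 zf50) (kf xf3 yf39 zf29) (kf xf4 yf36 zf56) (kf xf13 yf47 zf30) (kf xf7 yf57 zf9) (kf xf8 yf4 zf49) (kf xf7 yf57 zf7) (kf xf13 yf31 zf21) (kf xf8 yf3 zf27)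 (kf xf13 yf50 zf59) (kf xf3 yf39 zf33) (kf xf7 yf17 zf7) (kf xf13 yf37 zf60) (kf xf13 yf24 zf6) (kf xf13 yf32 zf19) (kf xf13 yf51 zf10) (kf xf6 yf15 zf3) (kf xf13 yf38 zf1) (kf xf13 yf24 zf8) (kf xf13 yf51 zf20) (kf xf13 yf51 zf23) (kf xf3 yf39 zf40) (kf xf7 yf49 zf3) (kf xf6 yf41 zf36) (kf xf13 yf51 zf32) (kf xf7 yf49 zf8) (kf xf6 yf10 zf2) (kf xf13 yf51 zf40) (kf xf6 yf41 zf41) (kf xf6 yf41 zf38) (kf xf13 yf38 zf2) (kf xf7 yf11 zf57) (kf xf7 yf11 zf61) (kf xf13 yf23 zf58) (kf xf13 yf23 zf59) (kf xf13 yf34 zf0) (kf xf13 yf51 zf59) (kf xf3 yf49 zf50) (kf xf13 yf29 zf11) (kf xf6 yf59 zf35) (kf xf6 yf59 zf36) (kf xf6 yf59 zf37) (kf xf13 yf44 zf6) (kf xf13 yf52 zf11) (kf xf7 yf12 zf38) (kf xf7 yf47 zf61) (kf xf6 yf52 zf36) (kf xf6 yf52 zf57) (kf xf13 yf52 zf19) (kf xf6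 yf56 zf52) (kf xf6 yf31 zf19)) (@D3.rec (fun _ => Pt) (kf xf4 yf46 zf18) (kf xf6 yf30 zf45) (kf xf6 yf42 zf27) (kf xf6 yf26 zf31) (kf xf6 yf26 zf30) (kf xf12 yf58 zf22) (kf xf7 yf25 zf43) (kf xf7 yf25 zf42) (kf xf13 yf2 zf1) (kf xf6 yf31 zf2) (kf xf6 yf27 zf42) (kf xf6 yf31 zf1) (kf xf8 yf35 zf33) (kf xf11 yf59 zf50) (kf xf7 yf26 zf25) (kf xf13 yf52 zf42) (kf xf13 yf52 zf43) (kf xf3 yf40 zf4) (kf xf7 yf52 zf36) (kf xf7 yf25 zf8) (kf xf6 yf24 zf58) (kf xf11 yf4 zf17) (kf xf7 yf25 zf10) (kf xf13 yf52 zf48) (kf xf13 yf52 zf52) (kf xf13 yf40 zf40) (kf xf13 yf40 zf36) (kf xf13 yf52 zf60) (kf xf3 yf40 zf9) (kf xf7 yf1 zf20) (kf xf13 yf53 zf4) (kf xf7 yf25 zf59) (kf xf7 yf25 zf58) (kf xf13 yf53 zf12) (kf xf3 yf40 zf11) (kf xf7 yf26 zf2) (kf xf7 yf26 zf3) (kf xf7 yf25 zf36)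 (kf xf7 yf25 zf61) (kf xf7 yf26 zf0) (kf xf7 yf26 zf5) (kf xf7 yf26 zf4) (kf xf12 yf26 zf0) (kf xf3 yf40 zf14) (kf xf7 yf26 zf7) (kf xf7 yf26 zf8) (kf xf3 yf55 zf53) (kf xf7 yf11 zf6) (kf xf7 yf26 zf10) (kf xf7 yf53 zf33) (kf xf7 yf53 zf38) (kf xf7 yf26 zf19) (kf xf7 yf26 zf17) (kf xf13 yf4 zf19) (kf xf13 yf4 zf20) (kf xf10 yf41 zf7) (kf xf10 yf32 zf3) (kf xf6 yf54 zf11) (kf xf6 yf54 zf8) (kf xf7 yf25 zf48) (kf xf10 yf40 zf36) (kf xf6 yf54 zf40)) (@D3.rec (fun _ => Pt) (kf xf6 yf54 zf41) (kf xf3 yf49 zf17) (kf xf6 yf53 zf22) (kf xf6 yf57 zf20) (kf xf6 yf57 zf21) (kf xf4 yf47 zf0) (kf xf7 yf22 zf17) (kf xf13 yf53 zf61) (kf xf7 yf25 zf50) (kf xf7 yf54 zf42) (kf xf7 yf25 zf52) (kf xf13 yf54 zf6) (kf xf7 yf54 zf41) (kf xf7 yf54 zf43) (kf xf7 yf25 zf24) (kf xf7 yf25 zf23)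 (kf xf13 yf54 zf19) (kf xf3 yf40 zf33) (kf xf7 yf25 zf30) (kf xf7 yf52 zf47) (kf xf7 yf25 zf32) (kf xf7 yf25 zf31) (kf xf7 yf54 zf44) (kf xf7 yf26 zf31) (kf xf5 yf48 zf48) (kf xf13 yf24 zf39) (kf xf7 yf26 zf33) (kf xf13 yf54 zf35) (kf xf7 yf26 zf36) (kf xf7 yf26 zf35) (kf xf13 yf54 zf44) (kf xf3 yf40 zf38) (kf xf3 yf41 zf32) (kf xf3 yf41 zf31) (kf xf13 yf54 zf54) (kf xf3 yf40 zf39) (kf xf3 yf41 zf35) (kf xf3 yf41 zf36) (kf xf3 yf41 zf42) (kf xf3 yf41 zf41) (kf xf7 yf24 zf11) (kf xf3 yf40 zf41) (kf xf3 yf40 zf46) (kf xf3 yf41 zf56) (kf xf3 yf41 zf57) (kf xf3 yf41 zf49) (kf xf7 yf30 zf3) (kf xf13 yf55 zf8) (kf xf7 yf29 zf55) (kf xf7 yf27 zf42) (kf xf13 yf48 zf11) (kf xf13 yf55 zf23) (kf xf12 yf8 zf15) (kf xf12 yf8 zf14) (kf xf13 yf24 zf36) (kf xf6 yf55 zf13) (kf xf13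 yf55 zf38) (kf xf3 yf50 zf2) (kf xf13 yf55 zf42) (kf xf7 yf28 zf16) (kf xf7 yf28 zf15) (kf xf13 yf55 zf54)) (@D3.rec (fun _ => Pt) (kf xf3 yf40 zf53) (kf xf7 yf28 zf21) (kf xf7 yf28 zf22) (kf xf13 yf9 zf39) (kf xf7 yf2 zf27) (kf xf7 yf28 zf19) (kf xf7 yf28 zf25) (kf xf7 yf28 zf24) (kf xf13 yf24 zf37) (kf xf6 yf53 zf5) (kf xf6 yf53 zf6) (kf xf13 yf24 zf16) (kf xf7 yf30 zf42) (kf xf7 yf3 zf9) (kf xf13 yf44 zf50) (kf xf7 yf28 zf10) (kf xf13 yf55 zf61) (kf xf7 yf21 zf6) (kf xf7 yf2 zf18) (kf xf13 yf56 zf23) (kf xf13 yf56 zf0) (kf xf13 yf56 zf28) (kf xf3 yf41 zf3) (kf xf7 yf27 zf52) (kf xf7 yf27 zf51) (kf xf13 yf56 zf38) (kf xf3 yf41 zf4) (kf xf7 yf27 zf58) (kf xf7 yf27 zf59) (kf xf7 yf30 zf9) (kf xf7 yf27 zf55) (kf xf7 yf27 zf56) (kf xf7 yf50 zf59) (kf xf7 yf28 zf0) (kf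 xf7 yf27 zf61) (kf xf13 yf56 zf58) (kf xf3 yf41 zf7) (kf xf7 yf28 zf3) (kf xf7 yf28 zf4) (kf xf7 yf28 zf27) (kf xf7 yf28 zf28) (kf xf7 yf29 zf31) (kf xf7 yf28 zf30) (kf xf6 yf59 zf42) (kf xf7 yf28 zf31) (kf xf13 yf54 zf55) (kf xf7 yf28 zf33) (kf xf13 yf24 zf48) (kf xf7 yf28 zf35) (kf xf7 yf28 zf36) (kf xf7 yf28 zf37) (kf xf13 yf57 zf17) (kf xf13 yf24 zf46) (kf xf13 yf24 zf47) (kf xf13 yf24 zf49) (kf xf7 yf28 zf59) (kf xf7 yf28 zf58) (kf xf13 yf57 zf36) (kf xf3 yf41 zf15) (kf xf7 yf29 zf0) (kf xf13 yf24 zf50) (kf xf7 yf28 zf51)) (@D3.rec (fun _ => Pt) (kf xf13 yf48 zf58) (kf xf5 yf50 zf51) (kf xf7 yf29 zf38) (kf xf4 yf24 zf30) (kf xf13 yf57 zf46) (kf xf6 yf24 zf60) (kf xf6 yf24 zf61) (kf xf13 yf57 zf53) (kf xf12 yf8 zf12) (kf xf12 yf8 zf8) (kf xf13 yf57 zf61) (kf xf3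 yf41 zf21) (kf xf7 yf28 zf44) (kf xf7 yf28 zf43) (kf xf13 yf58 zf7) (kf xf3 yf41 zf22) (kf xf7 yf28 zf47) (kf xf13 yf58 zf13) (kf xf3 yf41 zf23) (kf xf7 yf29 zf2) (kf xf7 yf29 zf3) (kf xf8 yf32 zf52) (kf xf4 yf57 zf28) (kf xf8 yf32 zf51) (kf xf7 yf29 zf9) (kf xf13 yf58 zf25) (kf xf7 yf29 zf6) (kf xf7 yf29 zf5) (kf xf13 yf58 zf34) (kf xf3 yf41 zf28) (kf xf7 yf29 zf12) (kf xf7 yf29 zf13) (kf xf5 yf40 zf14) (kf xf13 yf58 zf41) (kf xf7 yf27 zf31) (kf xf7 yf27 zf30) (kf xf3 yf41 zf30) (kf xf13 yf54 zf49) (kf xf11 yf19 zf59) (kf xf13 yf54 zf50) (kf xf13 yf58 zf58) (kf xf13 yf54 zf45) (kf xf13 yf54 zf46) (kf xf13 yf54 zf47) (kf xf13 yf59 zf7) (kf xf13 yf54 zf52) (kf xf13 yf54 zf51) (kf xf13 yf59 zf20) (kf xf3 yf41 zf33) (kf xf7 yf28 zf29) (kf xf13 yf54 zf56) (kf xf13 yf54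 zf57) (kf xf13 yf36 zf35) (kf xf13 yf13 zf48) (kf xf13 yf54 zf58) (kf xf13 yf59 zf38) (kf xf3 yf55 zf18) (kf xf7 yf28 zf53) (kf xf11 yf3 zf61) (kf xf11 yf2 zf49) (kf xf13 yf25 zf9) (kf xf13 yf48 zf59)) (@D3.rec (fun _ => Pt) (kf xf13 yf59 zf51) (kf xf7 yf54 zf11) (kf xf13 yf55 zf1) (kf xf13 yf55 zf2) (kf xf14 yf0 zf1) (kf xf13 yf54 zf60) (kf xf13 yf54 zf61) (kf xf14 yf0 zf9) (kf xf13 yf55 zf5) (kf xf13 yf55 zf4) (kf xf14 yf0 zf18) (kf xf7 yf21 zf40) (kf xf3 yf41 zf43) (kf xf13 yf59 zf21) (kf xf7 yf27 zf38) (kf xf7 yf27 zf39) (kf xf7 yf27 zf41) (kf xf13 yf48 zf8) (kf xf13 yf48 zf12) (kf xf13 yf36 zf31) (kf xf13 yf37 zf36) (kf xf13 yf55 zf10) (kf xf13 yf55 zf13) (kf xf14 yf0 zf48) (kf xf7 yf27 zf60) (kf xf13 yf36 zf32) (kf xf7 yf50 zf50) (kf xf7 yf50 zf45) (kf xf7 yf50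 zf51) (kf xf3 yf55 zf29) (kf xf6 yf53 zf28) (kf xf6 yf53 zf29) (kf xf13 yf25 zf17) (kf xf7 yf3 zf10) (kf xf13 yf44 zf53) (kf xf13 yf55 zf9) (kf xf12 yf25 zf34) (kf xf13 yf55 zf11) (kf xf14 yf1 zf5) (kf xf7 yf28 zf20) (kf xf12 yf25 zf33) (kf xf13 yf14 zf50) (kf xf13 yf14 zf51) (kf xf7 yf24 zf51) (kf xf3 yf52 zf9) (kf xf7 yf24 zf52) (kf xf14 yf1 zf20) (kf xf7 yf33 zf39) (kf xf7 yf3 zf5) (kf xf3 yf50 zf43) (kf xf3 yf47 zf57) (kf xf7 yf24 zf43) (kf xf7 yf24 zf45) (kf xf14 yf1 zf32) (kf xf7 yf46 zf46) (kf xf6 yf50 zf53) (kf xf6 yf42 zf2) (kf xf6 yf42 zf3) (kf xf6 yf42 zf4) (kf xf6 yf31 zf60) (kf xf6 yf46 zf17) (kf xf6 yf55 zf10)) (@D3.rec (fun _ => Pt) (kf xf6 yf55 zf11) (kf xf6 yf55 zf12) (kf xf7 yf50 zf40) (kf xf7 yf50 zf41) (kf xf7 yf50 zf60) (kf xf14 yf0 zf49) (kf xf3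 yf42 zf12) (kf xf7 yf50 zf42) (kf xf7 yf20 zf19) (kf xf13 yf33 zf2) (kf xf7 yf20 zf22) (kf xf7 yf53 zf58) (kf xf6 yf13 zf55) (kf xf6 yf24 zf56) (kf xf14 yf1 zf60) (kf xf7 yf53 zf56) (kf xf7 yf53 zf57) (kf xf7 yf53 zf59) (kf xf6 yf53 zf47) (kf xf14 yf2 zf11) (kf xf14 yf2 zf15) (kf xf6 yf32 zf0) (kf xf9 yf45 zf46) (kf xf7 yf21 zf15) (kf xf7 yf21 zf14) (kf xf14 yf2 zf23) (kf xf3 yf42 zf21) (kf xf6 yf57 zf39) (kf xf6 yf57 zf40) (kf xf3 yf51 zf53) (kf xf7 yf21 zf18) (kf xf7 yf21 zf21) (kf xf7 yf21 zf20) (kf xf7 yf53 zf60) (kf xf6 yf30 zf43) (kf xf13 yf7 zf51) (kf xf7 yf20 zf37) (kf xf13 yf2 zf33) (kf xf7 yf29 zf59) (kf xf6 yf42 zf8) (kf xf6 yf42 zf9) (kf xf6 yf42 zf10) (kf xf7 yf20 zf7) (kf xf7 yf20 zf6) (kf xf8 yf35 zf35) (kf xf4 yf18 zf23) (kf xf6 yf9 zf19) (kf xf12 yf24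 zf23) (kf xf7 yf20 zf59) (kf xf14 yf2 zf55) (kf xf7 yf21 zf8) (kf xf14 yf2 zf28) (kf xf7 yf21 zf10) (kf xf7 yf2 zf15) (kf xf9 yf45 zf53) (kf xf14 yf2 zf29) (kf xf6 yf27 zf10) (kf xf3 yf42 zf39) (kf xf7 yf20 zf32) (kf xf7 yf20 zf31) (kf xf9 yf45 zf54) (kf xf7 yf20 zf38)) (@D3.rec (fun _ => Pt) (kf xf7 yf20 zf39) (kf xf7 yf51 zf4) (kf xf7 yf20 zf35) (kf xf7 yf20 zf36) (kf xf7 yf20 zf41) (kf xf7 yf20 zf40) (kf xf3 yf42 zf43) (kf xf7 yf20 zf44) (kf xf7 yf20 zf45) (kf xf6 yf54 zf61) (kf xf7 yf20 zf48) (kf xf13 yf37 zf11) (kf xf13 yf5 zf21) (kf xf6 yf31 zf0) (kf xf4 yf52 zf33) (kf xf6 yf52 zf29) (kf xf6 yf52 zf30) (kf xf7 yf20 zf52) (kf xf6 yf54 zf13) (kf xf7 yf20 zf51) (kf xf6 yf54 zf14) (kf xf13 yf4 zf44) (kf xf13 yf4 zf45) (kf xf13 yf4 zf46) (kf xf13 yf4 zf47) (kf xf7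 yf20 zf14) (kf xf14 yf3 zf53) (kf xf6 yf31 zf10) (kf xf6 yf31 zf11) (kf xf5 yf52 zf1) (kf xf7 yf1 zf16) (kf xf7 yf21 zf23) (kf xf13 yf25 zf23) (kf xf7 yf21 zf26) (kf xf14 yf3 zf61) (kf xf7 yf21 zf29) (kf xf7 yf21 zf28) (kf xf13 yf37 zf18) (kf xf3 yf44 zf13) (kf xf3 yf44 zf12) (kf xf14 yf4 zf20) (kf xf3 yf42 zf57) (kf xf4 yf26 zf19) (kf xf6 yf30 zf50) (kf xf4 yf37 zf26) (kf xf6 yf46 zf15) (kf xf4 yf48 zf24) (kf xf12 yf13 zf44) (kf xf6 yf31 zf8) (kf xf5 yf44 zf27) (kf xf5 yf44 zf1) (kf xf11 yf57 zf58) (kf xf5 yf44 zf12) (kf xf6 yf1 zf32) (kf xf6 yf30 zf59) (kf xf14 yf4 zf33) (kf xf3 yf43 zf6) (kf xf13 yf0 zf45) (kf xf13 yf0 zf46) (kf xf6 yf31 zf21) (kf xf6 yf10 zf57) (kf xf14 yf4 zf42)) (@D3.rec (fun _ => Pt) (kf xf14 yf4 zf43) (kf xf6 yf31 zf37) (kf xf14 yf4 zf44) (kf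 xf3 yf43 zf12) (kf xf6 yf31 zf40) (kf xf6 yf31 zf41) (kf xf14 yf4 zf46) (kf xf3 yf43 zf14) (kf xf6 yf31 zf34) (kf xf6 yf31 zf35) (kf xf6 yf31 zf36) (kf xf6 yf1 zf12) (kf xf14 yf4 zf49) (kf xf6 yf31 zf29) (kf xf6 yf31 zf28) (kf xf6 yf7 zf51) (kf xf3 yf43 zf18) (kf xf6 yf8 zf4) (kf xf6 yf31 zf45) (kf xf6 yf31 zf46) (kf xf6 yf31 zf47) (kf xf14 yf4 zf57) (kf xf3 yf43 zf22) (kf xf6 yf31 zf52) (kf xf6 yf31 zf53) (kf xf6 yf31 zf54) (kf xf11 yf58 zf9) (kf xf10 yf4 zf45) (kf xf3 yf43 zf24) (kf xf6 yf50 zf34) (kf xf7 yf23 zf35) (kf xf7 yf23 zf34) (kf xf12 yf56 zf52) (kf xf3 yf43 zf27) (kf xf4 yf41 zf12) (kf xf6 yf53 zf44) (kf xf6 yf53 zf45) (kf xf6 yf53 zf46) (kf xf7 yf24 zf14) (kf xf7 yf24 zf15) (kf xf13 yf2 zf39) (kf xf7 yf24 zf16) (kf xf7 yf21 zf49) (kf xf13 yf26 zf11) (kf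 xf6 yf15 zf6) (kf xf14 yf5 zf12) (kf xf14 yf5 zf16) (kf xf13 yf38 zf19) (kf xf13 yf38 zf15) (kf xf14 yf5 zf25) (kf xf3 yf43 zf37) (kf xf7 yf22 zf24) (kf xf7 yf22 zf23) (kf xf14 yf5 zf34) (kf xf3 yf43 zf38) (kf xf7 yf22 zf30) (kf xf7 yf22 zf31) (kf xf13 yf25 zf55) (kf xf7 yf22 zf27) (kf xf7 yf22 zf28) (kf xf7 yf24 zf24) (kf xf7 yf22 zf34)) (@D3.rec (fun _ => Pt) (kf xf7 yf22 zf33) (kf xf14 yf5 zf54) (kf xf3 yf43 zf41) (kf xf7 yf22 zf37) (kf xf7 yf22 zf38) (kf xf7 yf18 zf36) (kf xf3 yf55 zf40) (kf xf3 yf55 zf56) (kf xf3 yf55 zf57) (kf xf13 yf2 zf42) (kf xf7 yf22 zf15) (kf xf13 yf25 zf19) (kf xf14 yf6 zf7) (kf xf13 yf25 zf18) (kf xf13 yf25 zf20) (kf xf7 yf21 zf60) (kf xf7 yf21 zf59) (kf xf14 yf6 zf20) (kf xf3 yf43 zf50) (kf xf7 yf22 zf5) (kf xf7 yf24 zf39) (kf xf7 yf22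 zf1) (kf xf7 yf22 zf2) (kf xf6 yf55 zf48) (kf xf7 yf22 zf7) (kf xf7 yf22 zf6) (kf xf13 yf25 zf21) (kf xf7 yf22 zf39) (kf xf7 yf22 zf40) (kf xf7 yf23 zf49) (kf xf7 yf22 zf42) (kf xf7 yf22 zf44) (kf xf13 yf37 zf20) (kf xf7 yf22 zf46) (kf xf14 yf6 zf46) (kf xf7 yf22 zf48) (kf xf7 yf22 zf49) (kf xf7 yf22 zf50) (kf xf14 yf6 zf54) (kf xf14 yf6 zf44) (kf xf14 yf6 zf43) (kf xf14 yf7 zf3) (kf xf3 yf43 zf58) (kf xf7 yf23 zf13) (kf xf7 yf23 zf12) (kf xf14 yf7 zf11) (kf xf3 yf43 zf59) (kf xf7 yf23 zf16) (kf xf3 yf56 zf2) (kf xf14 yf7 zf17) (kf xf3 yf43 zf60) (kf xf7 yf22 zf61) (kf xf13 yf37 zf22) (kf xf7 yf23 zf57) (kf xf13 yf25 zf31) (kf xf13 yf25 zf29) (kf xf13 yf25 zf30) (kf xf13 yf25 zf32) (kf xf7 yf22 zf56) (kf xf7 yf22 zf55) (kf xf14 yf7 zf36) (kf xf3 yf44 zf4)) (@D3.rec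 (fun _ => Pt) (kf xf7 yf22 zf59) (kf xf13 yf25 zf33) (kf xf7 yf23 zf19) (kf xf7 yf23 zf20) (kf xf14 yf7 zf46) (kf xf7 yf23 zf27) (kf xf7 yf23 zf26) (kf xf14 yf7 zf53) (kf xf3 yf44 zf7) (kf xf7 yf23 zf24) (kf xf9 yf45 zf57) (kf xf9 yf45 zf58) (kf xf7 yf23 zf30) (kf xf7 yf23 zf31) (kf xf14 yf8 zf2) (kf xf6 yf32 zf2) (kf xf6 yf32 zf1) (kf xf14 yf8 zf10) (kf xf3 yf44 zf11) (kf xf14 yf4 zf14) (kf xf14 yf4 zf15) (kf xf14 yf4 zf16) (kf xf14 yf8 zf24) (kf xf14 yf4 zf10) (kf xf14 yf4 zf11) (kf xf14 yf4 zf12) (kf xf14 yf8 zf36) (kf xf14 yf4 zf19) (kf xf14 yf4 zf18) (kf xf14 yf8 zf48) (kf xf3 yf44 zf14) (kf xf7 yf22 zf41) (kf xf13 yf37 zf21) (kf xf13 yf26 zf23) (kf xf13 yf25 zf52) (kf xf12 yf13 zf51) (kf xf14 yf9 zf3) (kf xf3 yf54 zf25) (kf xf7 yf23 zf2) (kf xf13 yf37 zf23) (kf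 xf13 yf26 zf25) (kf xf13 yf25 zf59) (kf xf12 yf19 zf5) (kf xf14 yf9 zf16) (kf xf13 yf13 zf40) (kf xf12 yf18 zf60) (kf xf14 yf9 zf23) (kf xf13 yf13 zf45) (kf xf12 yf13 zf46) (kf xf14 yf9 zf29) (kf xf12 yf19 zf18) (kf xf12 yf19 zf17) (kf xf13 yf37 zf24) (kf xf6 yf53 zf48) (kf xf6 yf53 zf51) (kf xf7 yf21 zf48) (kf xf13 yf26 zf12) (kf xf13 yf26 zf13) (kf xf13 yf26 zf0) (kf xf7 yf25 zf38) (kf xf13 yf2 zf45) (kf xf12 yf19 zf10)) (@D3.rec (fun _ => Pt) (kf xf14 yf9 zf60) (kf xf6 yf55 zf47) (kf xf13 yf26 zf1) (kf xf7 yf21 zf46) (kf xf13 yf2 zf43) (kf xf13 yf2 zf44) (kf xf13 yf25 zf57) (kf xf12 yf19 zf8) (kf xf14 yf10 zf12) (kf xf7 yf22 zf29) (kf xf13 yf13 zf4) (kf xf3 yf47 zf29) (kf xf3 yf47 zf30) (kf xf3 yf47 zf31) (kf xf13 yf28 zf44) (kf xf3 yf47 zf34) (kf xf3 yf47 zf35)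 (kf xf13 yf45 zf43) (kf xf6 yf54 zf21) (kf xf6 yf54 zf20) (kf xf14 yf10 zf29) (kf xf3 yf44 zf36) (kf xf3 yf52 zf29) (kf xf3 yf52 zf30) (kf xf3 yf52 zf32) (kf xf14 yf10 zf39) (kf xf3 yf44 zf38) (kf xf3 yf53 zf29) (kf xf3 yf53 zf30) (kf xf13 yf29 zf47) (kf xf13 yf15 zf3) (kf xf13 yf15 zf4) (kf xf13 yf14 zf28) (kf xf12 yf48 zf51) (kf xf14 yf10 zf53) (kf xf3 yf45 zf2) (kf xf6 yf49 zf27) (kf xf4 yf37 zf15) (kf xf5 yf55 zf20) (kf xf6 yf25 zf58) (kf xf12 yf29 zf50) (kf xf11 yf21 zf53) (kf xf7 yf22 zf12) (kf xf13 yf0 zf53) (kf xf13 yf22 zf36) (kf xf13 yf20 zf23) (kf xf13 yf49 zf53) (kf xf13 yf49 zf52) (kf xf13 yf19 zf17) (kf xf13 yf35 zf47) (kf xf6 yf56 zf32) (kf xf6 yf56 zf31) (kf xf14 yf11 zf12) (kf xf3 yf44 zf59) (kf xf13 yf35 zf48) (kf xf7 yf10 zf36) (kf xf7 yf12 zf25)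 (kf xf6 yf36 zf41) (kf xf6 yf20 zf7) (kf xf12 yf25 zf22) (kf xf7 yf44 zf44) (kf xf12 yf25 zf23)) (@D3.rec (fun _ => Pt) (kf xf12 yf25 zf24) (kf xf13 yf15 zf13) (kf xf12 yf1 zf5) (kf xf6 yf36 zf37) (kf xf6 yf36 zf38) (kf xf6 yf36 zf39) (kf xf6 yf34 zf29) (kf xf6 yf40 zf45) (kf xf14 yf11 zf37) (kf xf6 yf40 zf46) (kf xf6 yf19 zf10) (kf xf14 yf11 zf38) (kf xf3 yf45 zf12) (kf xf3 yf50 zf4) (kf xf9 yf16 zf28) (kf xf13 yf3 zf32) (kf xf9 yf16 zf30) (kf xf4 yf44 zf17) (kf xf12 yf28 zf33) (kf xf14 yf11 zf48) (kf xf4 yf37 zf30) (kf xf6 yf20 zf11) (kf xf6 yf34 zf18) (kf xf9 yf57 zf6) (kf xf9 yf58 zf37) (kf xf3 yf45 zf19) (kf xf5 yf57 zf58) (kf xf6 yf34 zf13) (kf xf14 yf11 zf53) (kf xf6 yf11 zf40) (kf xf6 yf11 zf37) (kf xf12 yf38 zf54) (kf xf3 yf45 zf24) (kf xf9 yf20 zf42) (kf xf6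 yf18 zf11) (kf xf6 yf22 zf12) (kf xf12 yf1 zf52) (kf xf12 yf1 zf53) (kf xf10 yf12 zf57) (kf xf12 yf1 zf54) (kf xf12 yf1 zf55) (kf xf12 yf58 zf33) (kf xf14 yf12 zf0) (kf xf14 yf11 zf61) (kf xf12 yf58 zf32) (kf xf3 yf45 zf32) (kf xf12 yf0 zf2) (kf xf12 yf2 zf7) (kf xf14 yf12 zf16) (kf xf3 yf45 zf33) (kf xf6 yf34 zf38) (kf xf6 yf34 zf39) (kf xf12 yf41 zf36) (kf xf3 yf45 zf37) (kf xf6 yf59 zf46) (kf xf12 yf51 zf14) (kf xf13 yf15 zf51) (kf xf13 yf17 zf22) (kf xf13 yf18 zf42) (kf xf7 yf38 zf15) (kf xf13 yf22 zf45) (kf xf7 yf37 zf42)) (@D3.rec (fun _ => Pt) (kf xf7 yf37 zf44) (kf xf7 yf38 zf16) (kf xf12 yf1 zf12) (kf xf13 yf22 zf43) (kf xf13 yf22 zf44) (kf xf13 yf22 zf46) (kf xf6 yf38 zf23) (kf xf13 yf56 zf18) (kf xf3 yf45 zf43) (kf xf3 yf53 zf23) (kf xf13 yf22 zf47) (kf xf13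 yf17 zf56) (kf xf14 yf12 zf49) (kf xf7 yf38 zf22) (kf xf14 yf12 zf56) (kf xf6 yf52 zf16) (kf xf14 yf12 zf47) (kf xf14 yf13 zf1) (kf xf3 yf45 zf48) (kf xf7 yf38 zf19) (kf xf7 yf38 zf18) (kf xf14 yf13 zf9) (kf xf3 yf45 zf49) (kf xf7 yf10 zf16) (kf xf14 yf13 zf13) (kf xf3 yf45 zf50) (kf xf6 yf59 zf43) (kf xf6 yf53 zf14) (kf xf14 yf13 zf20) (kf xf9 yf21 zf19) (kf xf14 yf13 zf24) (kf xf3 yf45 zf53) (kf xf3 yf45 zf56) (kf xf3 yf45 zf55) (kf xf10 yf23 zf51) (kf xf3 yf45 zf54) (kf xf13 yf4 zf53) (kf xf10 yf2 zf37) (kf xf13 yf33 zf27) (kf xf14 yf13 zf25) (kf xf10 yf20 zf16) (kf xf13 yf22 zf54) (kf xf10 yf25 zf41) (kf xf10 yf25 zf43) (kf xf8 yf15 zf7) (kf xf13 yf17 zf42) (kf xf12 yf32 zf61) (kf xf14 yf13 zf43) (kf xf14 yf13 zf46) (kf xf3 yf45 zf60) (kf xf6 yf53 zf61) (kf xf11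 yf30 zf26) (kf xf14 yf13 zf54) (kf xf9 yf28 zf38) (kf xf12 yf45 zf54) (kf xf14 yf14 zf0) (kf xf3 yf46 zf0) (kf xf12 yf37 zf37) (kf xf6 yf35 zf8) (kf xf13 yf18 zf33) (kf xf14 yf14 zf13) (kf xf13 yf18 zf30)) (@D3.rec (fun _ => Pt) (kf xf6 yf35 zf7) (kf xf13 yf18 zf31) (kf xf9 yf23 zf49) (kf xf13 yf18 zf35) (kf xf13 yf18 zf34) (kf xf9 yf53 zf29) (kf xf3 yf46 zf3) (kf xf13 yf17 zf21) (kf xf13 yf18 zf43) (kf xf13 yf18 zf44) (kf xf13 yf33 zf26) (kf xf7 yf37 zf23) (kf xf13 yf18 zf46) (kf xf14 yf14 zf47) (kf xf6 yf53 zf60) (kf xf6 yf54 zf2) (kf xf13 yf18 zf38) (kf xf13 yf23 zf4) (kf xf13 yf18 zf40) (kf xf14 yf14 zf60) (kf xf7 yf48 zf31) (kf xf13 yf18 zf51) (kf xf13 yf18 zf52) (kf xf3 yf48 zf48) (kf xf14 yf15 zf9) (kf xf13 yf18 zf48) (kf xf13 yf18 zf49) (kf xf3 yf53 zf19) (kf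 xf14 yf15 zf16) (kf xf13 yf18 zf55) (kf xf13 yf18 zf54) (kf xf9 yf34 zf40) (kf xf7 yf1 zf8) (kf xf3 yf46 zf13) (kf xf13 yf4 zf50) (kf xf13 yf18 zf57) (kf xf13 yf33 zf25) (kf xf13 yf18 zf59) (kf xf14 yf15 zf35) (kf xf7 yf24 zf47) (kf xf7 yf39 zf0) (kf xf7 yf1 zf46) (kf xf13 yf16 zf27) (kf xf13 yf26 zf47) (kf xf13 yf23 zf18) (kf xf13 yf34 zf17) (kf xf7 yf59 zf26) (kf xf9 yf45 zf34) (kf xf13 yf34 zf15) (kf xf13 yf34 zf16) (kf xf13 yf34 zf18) (kf xf11 yf35 zf22) (kf xf12 yf0 zf57) (kf xf12 yf27 zf35) (kf xf12 yf27 zf34) (kf xf11 yf29 zf5) (kf xf12 yf27 zf36) (kf xf7 yf39 zf34) (kf xf14 yf16 zf0) (kf xf7 yf39 zf35) (kf xf11 yf42 zf23) (kf xf13 yf18 zf12)) (@D3.rec (fun _ => Pt) (kf xf14 yf16 zf6) (kf xf3 yf46 zf34) (kf xf13 yf23 zf23) (kf xf13 yf34 zf27) (kf xf12 yf51 zf33)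 (kf xf12 yf51 zf34) (kf xf14 yf16 zf11) (kf xf12 yf51 zf31) (kf xf14 yf16 zf14) (kf xf12 yf51 zf36) (kf xf12 yf51 zf35) (kf xf14 yf16 zf24) (kf xf3 yf46 zf41) (kf xf13 yf34 zf23) (kf xf13 yf34 zf25) (kf xf13 yf23 zf27) (kf xf13 yf34 zf26) (kf xf13 yf23 zf38) (kf xf13 yf34 zf28) (kf xf13 yf34 zf29) (kf xf13 yf34 zf30) (kf xf13 yf17 zf51) (kf xf6 yf34 zf33) (kf xf13 yf17 zf52) (kf xf14 yf16 zf47) (kf xf13 yf17 zf48) (kf xf6 yf34 zf32) (kf xf13 yf17 zf49) (kf xf14 yf16 zf59) (kf xf13 yf17 zf55) (kf xf13 yf17 zf54) (kf xf3 yf46 zf47) (kf xf13 yf17 zf57) (kf xf13 yf17 zf58) (kf xf13 yf23 zf35) (kf xf14 yf17 zf11) (kf xf13 yf15 zf52) (kf xf13 yf15 zf53) (kf xf13 yf15 zf54) (kf xf13 yf23 zf9) (kf xf14 yf17 zf22) (kf xf13 yf18 zf1) (kf xf14 yf17 zf27) (kf xf13 yf17 zf61) (kf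 xf14 yf17 zf34) (kf xf7 yf13 zf19) (kf xf13 yf23 zf8) (kf xf3 yf52 zf17) (kf xf6 yf57 zf46) (kf xf13 yf23 zf5) (kf xf14 yf10 zf41) (kf xf10 yf47 zf14) (kf xf3 yf49 zf24) (kf xf14 yf17 zf47) (kf xf13 yf44 zf5) (kf xf6 yf55 zf33) (kf xf10 yf47 zf8) (kf xf3 yf48 zf43) (kf xf3 yf48 zf42) (kf xf14 yf17 zf57) (kf xf3 yf47 zf3) (kf xf3 yf48 zf49)) (@D3.rec (fun _ => Pt) (kf xf3 yf48 zf50) (kf xf3 yf48 zf53) (kf xf3 yf48 zf52) (kf xf13 yf43 zf20) (kf xf3 yf48 zf56) (kf xf3 yf48 zf57) (kf xf3 yf48 zf59) (kf xf7 yf38 zf12) (kf xf7 yf38 zf8) (kf xf10 yf46 zf9) (kf xf3 yf49 zf31) (kf xf3 yf49 zf30) (kf xf14 yf18 zf17) (kf xf3 yf47 zf11) (kf xf3 yf49 zf37) (kf xf3 yf49 zf38) (kf xf3 yf49 zf34) (kf xf3 yf49 zf36) (kf xf3 yf49 zf41) (kf xf3 yf49 zf40) (kf xf13 yf32 zf41) (kf xf3 yf50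 zf22) (kf xf14 yf10 zf30) (kf xf3 yf52 zf4) (kf xf14 yf18 zf37) (kf xf14 yf18 zf35) (kf xf14 yf18 zf34) (kf xf13 yf44 zf29) (kf xf3 yf47 zf18) (kf xf3 yf50 zf16) (kf xf3 yf50 zf15) (kf xf14 yf18 zf52) (kf xf3 yf47 zf19) (kf xf13 yf42 zf30) (kf xf3 yf49 zf55) (kf xf3 yf51 zf51) (kf xf3 yf49 zf58) (kf xf3 yf49 zf59) (kf xf13 yf35 zf5) (kf xf13 yf34 zf3) (kf xf3 yf50 zf5) (kf xf14 yf19 zf1) (kf xf13 yf34 zf1) (kf xf13 yf34 zf2) (kf xf13 yf34 zf4) (kf xf3 yf50 zf40) (kf xf3 yf50 zf39) (kf xf14 yf19 zf17) (kf xf3 yf47 zf27) (kf xf3 yf50 zf44) (kf xf13 yf32 zf33) (kf xf6 yf56 zf13) (kf xf7 yf49 zf41) (kf xf12 yf33 zf40) (kf xf14 yf19 zf26) (kf xf14 yf19 zf29) (kf xf14 yf19 zf31) (kf xf14 yf19 zf34) (kf xf3 yf47 zf32) (kf xf6 yf55 zf54) (kf xf13 yf41 zf27) (kf xf14 yf19 zf40))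 (@D3.rec (fun _ => Pt) (kf xf14 yf19 zf43) (kf xf14 yf19 zf46) (kf xf14 yf19 zf49) (kf xf3 yf47 zf36) (kf xf6 yf54 zf19) (kf xf14 yf19 zf54) (kf xf3 yf47 zf44) (kf xf3 yf47 zf43) (kf xf14 yf20 zf0) (kf xf3 yf47 zf38) (kf xf12 yf45 zf18) (kf xf6 yf41 zf52) (kf xf14 yf20 zf7) (kf xf11 yf44 zf34) (kf xf6 yf41 zf51) (kf xf8 yf12 zf31) (kf xf11 yf35 zf14) (kf xf12 yf44 zf12) (kf xf8 yf49 zf39) (kf xf11 yf1 zf31) (kf xf14 yf19 zf52) (kf xf14 yf19 zf51) (kf xf14 yf20 zf24) (kf xf3 yf47 zf42) (kf xf14 yf19 zf58) (kf xf10 yf41 zf41) (kf xf11 yf0 zf10) (kf xf14 yf20 zf32) (kf xf14 yf19 zf55) (kf xf14 yf19 zf56) (kf xf14 yf3 zf31) (kf xf14 yf19 zf60) (kf xf14 yf19 zf59) (kf xf12 yf5 zf37) (kf xf3 yf47 zf45) (kf xf3 yf51 zf39) (kf xf3 yf51 zf40) (kf xf3 yf51 zf41) (kf xf14 yf20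 zf52) (kf xf3 yf51 zf35) (kf xf3 yf51 zf36) (kf xf3 yf51 zf37) (kf xf14 yf21 zf1) (kf xf3 yf51 zf44) (kf xf3 yf51 zf43) (kf xf14 yf21 zf12) (kf xf3 yf47 zf49) (kf xf3 yf50 zf23) (kf xf3 yf52 zf5) (kf xf13 yf12 zf25) (kf xf3 yf51 zf60) (kf xf3 yf52 zf8) (kf xf10 yf31 zf35) (kf xf3 yf49 zf61) (kf xf3 yf51 zf52) (kf xf3 yf51 zf54) (kf xf14 yf1 zf24) (kf xf3 yf52 zf0) (kf xf3 yf52 zf15) (kf xf3 yf52 zf16) (kf xf5 yf21 zf39) (kf xf3 yf52 zf11)) (@D3.rec (fun _ => Pt) (kf xf3 yf52 zf12) (kf xf14 yf21 zf36) (kf xf3 yf52 zf20) (kf xf3 yf52 zf19) (kf xf13 yf22 zf9) (kf xf14 yf21 zf13) (kf xf3 yf53 zf9) (kf xf3 yf48 zf28) (kf xf3 yf48 zf29) (kf xf3 yf49 zf18) (kf xf3 yf53 zf14) (kf xf3 yf53 zf15) (kf xf3 yf52 zf52) (kf xf3 yf52 zf51) (kf xf3 yf53 zf17) (kf xf14 yf22 zf4) (kf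 xf3 yf53 zf22) (kf xf3 yf48 zf31) (kf xf3 yf52 zf48) (kf xf3 yf52 zf49) (kf xf7 yf47 zf54) (kf xf3 yf52 zf53) (kf xf14 yf22 zf19) (kf xf7 yf33 zf11) (kf xf14 yf22 zf21) (kf xf6 yf56 zf57) (kf xf12 yf33 zf61) (kf xf12 yf33 zf60) (kf xf13 yf36 zf49) (kf xf6 yf56 zf7) (kf xf6 yf56 zf6) (kf xf14 yf22 zf33) (kf xf3 yf48 zf14) (kf xf3 yf55 zf35) (kf xf6 yf56 zf10) (kf xf13 yf36 zf50) (kf xf7 yf18 zf3) (kf xf7 yf8 zf37) (kf xf7 yf10 zf7) (kf xf7 yf11 zf56) (kf xf13 yf23 zf43) (kf xf3 yf48 zf19) (kf xf7 yf31 zf61) (kf xf14 yf18 zf18) (kf xf7 yf32 zf0) (kf xf13 yf33 zf32) (kf xf14 yf22 zf45) (kf xf14 yf22 zf43) (kf xf14 yf22 zf42) (kf xf14 yf22 zf54) (kf xf3 yf48 zf23) (kf xf13 yf17 zf14) (kf xf14 yf22 zf58) (kf xf3 yf48 zf24) (kf xf5 yf51 zf20) (kf xf13 yf36 zf39) (kf xf14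 yf21 zf48) (kf xf3 yf55 zf59) (kf xf14 yf21 zf47) (kf xf14 yf21 zf49) (kf xf7 yf46 zf10) (kf xf6 yf54 zf46)) (@D3.rec (fun _ => Pt) (kf xf14 yf22 zf6) (kf xf14 yf22 zf7) (kf xf3 yf48 zf35) (kf xf3 yf48 zf34) (kf xf6 yf33 zf16) (kf xf8 yf30 zf55) (kf xf3 yf48 zf33) (kf xf13 yf8 zf9) (kf xf7 yf35 zf8) (kf xf14 yf23 zf10) (kf xf13 yf46 zf18) (kf xf14 yf23 zf9) (kf xf7 yf35 zf7) (kf xf10 yf54 zf6) (kf xf14 yf23 zf27) (kf xf7 yf31 zf59) (kf xf7 yf32 zf1) (kf xf14 yf23 zf33) (kf xf7 yf32 zf20) (kf xf7 yf32 zf19) (kf xf14 yf23 zf42) (kf xf3 yf48 zf39) (kf xf7 yf32 zf13) (kf xf14 yf23 zf47) (kf xf7 yf41 zf2) (kf xf3 yf48 zf41) (kf xf14 yf17 zf52) (kf xf6 yf37 zf48) (kf xf14 yf17 zf53) (kf xf14 yf23 zf61) (kf xf14 yf17 zf49) (kf xf6 yf37 zf47) (kf xf14 yf17 zf50) (kf xf14 yf24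 zf12) (kf xf14 yf14 zf12) (kf xf14 yf17 zf55) (kf xf10 yf50 zf11) (kf xf3 yf48 zf44) (kf xf13 yf29 zf57) (kf xf13 yf33 zf33) (kf xf13 yf33 zf34) (kf xf14 yf15 zf2) (kf xf7 yf15 zf32) (kf xf13 yf33 zf36) (kf xf14 yf24 zf36) (kf xf6 yf55 zf23) (kf xf6 yf55 zf26) (kf xf3 yf54 zf19) (kf xf14 yf17 zf58) (kf xf13 yf13 zf26) (kf xf14 yf17 zf59) (kf xf14 yf24 zf54) (kf xf13 yf23 zf46) (kf xf14 yf18 zf0) (kf xf7 yf41 zf47) (kf xf14 yf25 zf1) (kf xf14 yf17 zf60) (kf xf7 yf41 zf46) (kf xf14 yf25 zf9) (kf xf8 yf6 zf6) (kf xf3 yf48 zf54) (kf xf14 yf18 zf2)) (@D3.rec (fun _ => Pt) (kf xf7 yf33 zf40) (kf xf7 yf15 zf41) (kf xf14 yf18 zf3) (kf xf14 yf25 zf21) (kf xf7 yf14 zf60) (kf xf14 yf18 zf5) (kf xf7 yf51 zf10) (kf xf14 yf25 zf29) (kf xf7 yf53 zf55) (kf xf3 yf49 zf13) (kf xf3 yf49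 zf2) (kf xf13 yf40 zf43) (kf xf13 yf41 zf7) (kf xf13 yf43 zf29) (kf xf9 yf44 zf46) (kf xf13 yf43 zf27) (kf xf13 yf43 zf28) (kf xf13 yf43 zf30) (kf xf8 yf47 zf12) (kf xf3 yf49 zf9) (kf xf13 yf40 zf32) (kf xf13 yf43 zf31) (kf xf7 yf0 zf47) (kf xf13 yf44 zf7) (kf xf14 yf21 zf51) (kf xf14 yf21 zf52) (kf xf12 yf51 zf39) (kf xf14 yf25 zf57) (kf xf3 yf49 zf19) (kf xf4 yf44 zf43) (kf xf14 yf26 zf0) (kf xf3 yf49 zf26) (kf xf10 yf47 zf12) (kf xf3 yf49 zf21) (kf xf7 yf33 zf57) (kf xf7 yf33 zf59) (kf xf5 yf58 zf59) (kf xf6 yf16 zf41) (kf xf5 yf58 zf61) (kf xf6 yf16 zf25) (kf xf14 yf26 zf13) (kf xf14 yf25 zf60) (kf xf14 yf25 zf59) (kf xf14 yf26 zf23) (kf xf3 yf49 zf25) (kf xf14 yf26 zf1) (kf xf14 yf26 zf2) (kf xf13 yf31 zf37) (kf xf7 yf48 zf24) (kf xf14 yf26 zf4) (kf xf14 yf26 zf3)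 (kf xf14 yf26 zf41) (kf xf3 yf49 zf28) (kf xf10 yf6 zf12) (kf xf6 yf36 zf57) (kf xf14 yf18 zf13) (kf xf14 yf26 zf52) (kf xf14 yf18 zf10) (kf xf6 yf36 zf56) (kf xf14 yf18 zf11) (kf xf14 yf27 zf3) (kf xf14 yf16 zf46)) (@D3.rec (fun _ => Pt) (kf xf14 yf18 zf15) (kf xf14 yf27 zf14) (kf xf3 yf49 zf32) (kf xf13 yf36 zf38) (kf xf14 yf18 zf22) (kf xf14 yf18 zf23) (kf xf14 yf27 zf25) (kf xf13 yf29 zf58) (kf xf14 yf18 zf19) (kf xf14 yf18 zf20) (kf xf7 yf47 zf46) (kf xf14 yf18 zf21) (kf xf14 yf27 zf38) (kf xf14 yf18 zf27) (kf xf7 yf42 zf36) (kf xf7 yf1 zf2) (kf xf14 yf27 zf46) (kf xf14 yf18 zf25) (kf xf7 yf42 zf35) (kf xf14 yf27 zf52) (kf xf14 yf1 zf23) (kf xf14 yf18 zf29) (kf xf14 yf28 zf0) (kf xf3 yf49 zf42) (kf xf14 yf27 zf15) (kf xf13 yf28 zf45) (kf xf7 yf47 zf43) (kf xf14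 yf28 zf10) (kf xf7 yf8 zf40) (kf xf13 yf27 zf48) (kf xf7 yf8 zf39) (kf xf7 yf12 zf23) (kf xf13 yf51 zf60) (kf xf7 yf9 zf21) (kf xf13 yf23 zf20) (kf xf7 yf9 zf20) (kf xf7 yf12 zf14) (kf xf14 yf28 zf26) (kf xf13 yf26 zf55) (kf xf14 yf28 zf22) (kf xf14 yf28 zf31) (kf xf3 yf49 zf52) (kf xf14 yf28 zf34) (kf xf3 yf49 zf53) (kf xf7 yf51 zf43) (kf xf7 yf51 zf35) (kf xf14 yf18 zf54) (kf xf14 yf28 zf42) (kf xf14 yf28 zf45) (kf xf13 yf34 zf60) (kf xf14 yf28 zf50) (kf xf3 yf49 zf57) (kf xf12 yf24 zf12) (kf xf14 yf20 zf25) (kf xf13 yf54 zf30) (kf xf14 yf21 zf22) (kf xf14 yf20 zf53) (kf xf14 yf21 zf23) (kf xf11 yf29 zf56) (kf xf14 yf28 zf59) (kf xf3 yf50 zf8) (kf xf3 yf50 zf7)) (@D3.rec (fun _ => Pt) (kf xf14 yf29 zf5) (kf xf3 yf50 zf1) (kf xf7 yf38 zf24) (kf xf14 yf29 zf11) (kf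 xf3 yf55 zf25) (kf xf14 yf2 zf53) (kf xf14 yf29 zf16) (kf xf3 yf50 zf3) (kf xf12 yf33 zf42) (kf xf9 yf16 zf27) (kf xf11 yf40 zf17) (kf xf14 yf15 zf57) (kf xf12 yf33 zf45) (kf xf14 yf28 zf57) (kf xf14 yf29 zf26) (kf xf3 yf50 zf6) (kf xf6 yf56 zf18) (kf xf14 yf29 zf0) (kf xf14 yf29 zf1) (kf xf14 yf21 zf26) (kf xf14 yf19 zf23) (kf xf14 yf28 zf60) (kf xf14 yf28 zf61) (kf xf14 yf29 zf41) (kf xf10 yf47 zf26) (kf xf14 yf29 zf3) (kf xf14 yf29 zf15) (kf xf3 yf50 zf9) (kf xf6 yf59 zf49) (kf xf14 yf29 zf55) (kf xf7 yf2 zf23) (kf xf7 yf2 zf22) (kf xf14 yf30 zf0) (kf xf3 yf50 zf14) (kf xf14 yf18 zf46) (kf xf14 yf18 zf47) (kf xf11 yf35 zf32) (kf xf6 yf56 zf21) (kf xf14 yf18 zf44) (kf xf14 yf30 zf10) (kf xf14 yf18 zf50) (kf xf14 yf18 zf49) (kf xf14 yf30 zf19) (kf xf3 yf50 zf17) (kf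 xf13 yf40 zf11) (kf xf14 yf30 zf24) (kf xf7 yf38 zf57) (kf xf7 yf38 zf54) (kf xf14 yf30 zf32) (kf xf3 yf50 zf20) (kf xf14 yf30 zf20) (kf xf14 yf20 zf33) (kf xf14 yf21 zf14) (kf xf6 yf55 zf52) (kf xf6 yf32 zf54) (kf xf6 yf56 zf46) (kf xf14 yf30 zf42) (kf xf14 yf10 zf31) (kf xf14 yf30 zf46) (kf xf3 yf50 zf26) (kf xf13 yf45 zf39) (kf xf3 yf50 zf36)) (@D3.rec (fun _ => Pt) (kf xf3 yf50 zf35) (kf xf14 yf30 zf53) (kf xf3 yf50 zf28) (kf xf13 yf12 zf32) (kf xf14 yf30 zf55) (kf xf13 yf8 zf5) (kf xf13 yf45 zf40) (kf xf5 yf58 zf39) (kf xf11 yf30 zf18) (kf xf14 yf30 zf60) (kf xf11 yf30 zf0) (kf xf11 yf29 zf61) (kf xf14 yf31 zf7) (kf xf3 yf50 zf34) (kf xf14 yf19 zf38) (kf xf14 yf30 zf49) (kf xf6 yf56 zf1) (kf xf14 yf30 zf48) (kf xf13 yf35 zf18) (kf xf14 yf30 zf51) (kf xf14 yf30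 zf50) (kf xf14 yf31 zf29) (kf xf3 yf50 zf37) (kf xf14 yf19 zf14) (kf xf14 yf31 zf36) (kf xf14 yf19 zf11) (kf xf14 yf19 zf12) (kf xf14 yf31 zf42) (kf xf14 yf19 zf16) (kf xf14 yf19 zf15) (kf xf14 yf31 zf50) (kf xf3 yf50 zf41) (kf xf14 yf31 zf55) (kf xf14 yf19 zf18) (kf xf14 yf31 zf60) (kf xf7 yf40 zf18) (kf xf7 yf40 zf14) (kf xf14 yf32 zf4) (kf xf3 yf50 zf45) (kf xf14 yf31 zf51) (kf xf6 yf32 zf53) (kf xf14 yf32 zf12) (kf xf13 yf45 zf49) (kf xf6 yf55 zf61) (kf xf14 yf32 zf18) (kf xf13 yf45 zf47) (kf xf13 yf45 zf48) (kf xf13 yf45 zf50) (kf xf6 yf56 zf22) (kf xf14 yf32 zf30) (kf xf3 yf50 zf51) (kf xf6 yf56 zf26) (kf xf13 yf45 zf51) (kf xf3 yf51 zf2) (kf xf3 yf51 zf1) (kf xf11 yf58 zf55) (kf xf3 yf50 zf53) (kf xf3 yf51 zf8) (kf xf3 yf51 zf9) (kf xf3 yf51 zf5) (kf xf3 yf51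 zf6) (kf xf3 yf51 zf11)) (@D3.rec (fun _ => Pt) (kf xf3 yf51 zf10) (kf xf14 yf32 zf53) (kf xf3 yf50 zf56) (kf xf6 yf56 zf29) (kf xf14 yf32 zf60) (kf xf4 yf46 zf39) (kf xf14 yf33 zf3) (kf xf3 yf50 zf59) (kf xf11 yf44 zf17) (kf xf6 yf56 zf36) (kf xf6 yf56 zf37) (kf xf6 yf56 zf38) (kf xf14 yf33 zf11) (kf xf6 yf50 zf38) (kf xf6 yf50 zf37) (kf xf14 yf33 zf15) (kf xf3 yf51 zf0) (kf xf14 yf32 zf36) (kf xf6 yf0 zf22) (kf xf14 yf32 zf37) (kf xf14 yf33 zf29) (kf xf4 yf47 zf54) (kf xf6 yf1 zf13) (kf xf14 yf32 zf35) (kf xf6 yf0 zf17) (kf xf11 yf40 zf54) (kf xf14 yf33 zf42) (kf xf3 yf51 zf3) (kf xf6 yf55 zf53) (kf xf14 yf32 zf10) (kf xf14 yf32 zf41) (kf xf13 yf37 zf4) (kf xf14 yf5 zf60) (kf xf7 yf18 zf42) (kf xf14 yf32 zf42) (kf xf14 yf34 zf2) (kf xf7 yf2 zf2) (kf xf6 yf56 zf15)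 (kf xf12 yf51 zf40) (kf xf14 yf32 zf39) (kf xf14 yf7 zf16) (kf xf14 yf34 zf12) (kf xf14 yf32 zf47) (kf xf14 yf32 zf48) (kf xf14 yf34 zf22) (kf xf14 yf32 zf44) (kf xf14 yf32 zf45) (kf xf14 yf34 zf31) (kf xf14 yf32 zf51) (kf xf14 yf32 zf50) (kf xf14 yf34 zf42) (kf xf14 yf5 zf50) (kf xf3 yf51 zf12) (kf xf14 yf33 zf43) (kf xf14 yf34 zf49) (kf xf12 yf39 zf7) (kf xf12 yf40 zf52) (kf xf12 yf36 zf9) (kf xf14 yf34 zf56) (kf xf4 yf46 zf29) (kf xf14 yf34 zf47) (kf xf14 yf35 zf3)) (@D3.rec (fun _ => Pt) (kf xf3 yf51 zf16) (kf xf13 yf19 zf53) (kf xf13 yf19 zf54) (kf xf14 yf20 zf61) (kf xf13 yf19 zf51) (kf xf13 yf19 zf56) (kf xf13 yf19 zf55) (kf xf14 yf35 zf20) (kf xf3 yf51 zf19) (kf xf6 yf47 zf18) (kf xf9 yf30 zf52) (kf xf14 yf35 zf22) (kf xf14 yf35 zf33) (kf xf3 yf51 zf22) (kf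 xf13 yf19 zf28) (kf xf14 yf31 zf43) (kf xf13 yf19 zf26) (kf xf14 yf20 zf51) (kf xf13 yf19 zf31) (kf xf13 yf19 zf30) (kf xf3 yf51 zf25) (kf xf12 yf37 zf47) (kf xf6 yf3 zf17) (kf xf12 yf44 zf19) (kf xf6 yf3 zf18) (kf xf14 yf35 zf52) (kf xf14 yf35 zf56) (kf xf14 yf35 zf54) (kf xf14 yf35 zf53) (kf xf14 yf36 zf3) (kf xf3 yf51 zf30) (kf xf12 yf45 zf57) (kf xf12 yf28 zf47) (kf xf12 yf45 zf53) (kf xf12 yf45 zf55) (kf xf12 yf28 zf6) (kf xf12 yf45 zf58) (kf xf14 yf36 zf19) (kf xf3 yf51 zf33) (kf xf6 yf38 zf22) (kf xf14 yf20 zf54) (kf xf12 yf16 zf55) (kf xf14 yf20 zf55) (kf xf14 yf36 zf32) (kf xf7 yf30 zf60) (kf xf14 yf20 zf56) (kf xf14 yf20 zf57) (kf xf14 yf36 zf42) (kf xf10 yf39 zf54) (kf xf14 yf20 zf48) (kf xf14 yf20 zf59) (kf xf14 yf36 zf54) (kf xf13 yf19 zf29) (kf xf13 yf21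 zf2) (kf xf3 yf51 zf38) (kf xf11 yf44 zf31) (kf xf10 yf42 zf45) (kf xf4 yf34 zf33) (kf xf14 yf37 zf1) (kf xf10 yf37 zf38) (kf xf14 yf37 zf5) (kf xf14 yf20 zf49)) (@D3.rec (fun _ => Pt) (kf xf14 yf37 zf10) (kf xf13 yf19 zf52) (kf xf14 yf37 zf12) (kf xf3 yf51 zf42) (kf xf14 yf21 zf5) (kf xf14 yf21 zf6) (kf xf7 yf2 zf12) (kf xf14 yf37 zf25) (kf xf10 yf42 zf53) (kf xf14 yf21 zf2) (kf xf14 yf21 zf3) (kf xf14 yf37 zf32) (kf xf14 yf21 zf9) (kf xf14 yf21 zf8) (kf xf14 yf37 zf43) (kf xf14 yf37 zf47) (kf xf3 yf51 zf45) (kf xf3 yf52 zf24) (kf xf3 yf51 zf50) (kf xf12 yf45 zf25) (kf xf12 yf35 zf25) (kf xf12 yf45 zf26) (kf xf6 yf0 zf27) (kf xf5 yf48 zf27) (kf xf12 yf35 zf24) (kf xf12 yf45 zf24) (kf xf14 yf35 zf38) (kf xf12 yf45 zf29) (kf xf12 yf45 zf28) (kf xf14 yf37 zf50) (kf xf14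 yf18 zf55) (kf xf14 yf18 zf56) (kf xf10 yf31 zf48) (kf xf14 yf38 zf13) (kf xf6 yf41 zf21) (kf xf14 yf38 zf15) (kf xf6 yf40 zf42) (kf xf14 yf21 zf25) (kf xf12 yf25 zf26) (kf xf10 yf39 zf10) (kf xf13 yf34 zf55) (kf xf14 yf19 zf7) (kf xf7 yf2 zf49) (kf xf3 yf51 zf55) (kf xf6 yf57 zf37) (kf xf7 yf11 zf30) (kf xf11 yf0 zf42) (kf xf14 yf21 zf17) (kf xf14 yf38 zf34) (kf xf13 yf45 zf38) (kf xf14 yf37 zf8) (kf xf7 yf47 zf31) (kf xf7 yf47 zf28) (kf xf14 yf21 zf28) (kf xf14 yf38 zf47) (kf xf14 yf21 zf21) (kf xf14 yf21 zf20) (kf xf14 yf38 zf56) (kf xf3 yf52 zf1) (kf xf7 yf2 zf50) (kf xf14 yf18 zf33) (kf xf6 yf57 zf23)) (@D3.rec (fun _ => Pt) (kf xf14 yf38 zf60) (kf xf6 yf54 zf47) (kf xf6 yf57 zf24) (kf xf13 yf35 zf13) (kf xf13 yf35 zf16) (kf xf3 yf52 zf7) (kf xf14 yf1 zf11) (kf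 xf12 yf47 zf48) (kf xf13 yf22 zf18) (kf xf14 yf39 zf11) (kf xf7 yf37 zf60) (kf xf7 yf47 zf13) (kf xf14 yf21 zf32) (kf xf14 yf39 zf18) (kf xf14 yf21 zf30) (kf xf14 yf21 zf29) (kf xf14 yf39 zf27) (kf xf3 yf52 zf14) (kf xf5 yf21 zf35) (kf xf4 yf28 zf20) (kf xf14 yf17 zf39) (kf xf5 yf21 zf41) (kf xf8 yf38 zf3) (kf xf14 yf39 zf37) (kf xf14 yf21 zf35) (kf xf14 yf21 zf34) (kf xf14 yf39 zf46) (kf xf3 yf52 zf18) (kf xf14 yf21 zf39) (kf xf14 yf39 zf52) (kf xf14 yf21 zf37) (kf xf14 yf39 zf58) (kf xf14 yf40 zf3) (kf xf14 yf39 zf60) (kf xf14 yf39 zf59) (kf xf12 yf23 zf1) (kf xf3 yf52 zf21) (kf xf14 yf40 zf15) (kf xf14 yf37 zf48) (kf xf14 yf21 zf45) (kf xf14 yf21 zf44) (kf xf14 yf37 zf49) (kf xf3 yf52 zf33) (kf xf13 yf35 zf6) (kf xf13 yf28 zf57) (kf xf13 yf27 zf13) (kf xf7 yf24 zf54)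 (kf xf13 yf35 zf11) (kf xf14 yf40 zf41) (kf xf7 yf3 zf6) (kf xf14 yf10 zf32) (kf xf13 yf50 zf36) (kf xf14 yf40 zf50) (kf xf13 yf21 zf17) (kf xf13 yf21 zf32) (kf xf14 yf40 zf51) (kf xf14 yf10 zf34) (kf xf14 yf10 zf35) (kf xf14 yf41 zf0) (kf xf13 yf23 zf6) (kf xf14 yf10 zf37) (kf xf14 yf40 zf27)) (@D3.rec (fun _ => Pt) (kf xf13 yf27 zf3) (kf xf6 yf56 zf14) (kf xf6 yf56 zf58) (kf xf6 yf56 zf59) (kf xf7 yf47 zf7) (kf xf6 yf56 zf51) (kf xf7 yf0 zf15) (kf xf7 yf47 zf4) (kf xf6 yf52 zf3) (kf xf13 yf29 zf60) (kf xf13 yf29 zf61) (kf xf13 yf29 zf59) (kf xf13 yf30 zf0) (kf xf7 yf46 zf11) (kf xf14 yf41 zf37) (kf xf6 yf54 zf45) (kf xf6 yf43 zf14) (kf xf9 yf28 zf35) (kf xf14 yf22 zf8) (kf xf7 yf47 zf52) (kf xf14 yf22 zf10) (kf xf14 yf22 zf11) (kf xf14 yf22 zf12) (kf xf14 yf41 zf58)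 (kf xf7 yf47 zf50) (kf xf7 yf47 zf51) (kf xf7 yf47 zf53) (kf xf14 yf21 zf60) (kf xf7 yf45 zf52) (kf xf14 yf42 zf8) (kf xf14 yf21 zf58) (kf xf7 yf45 zf51) (kf xf7 yf0 zf36) (kf xf14 yf42 zf17) (kf xf14 yf22 zf14) (kf xf14 yf42 zf22) (kf xf14 yf22 zf3) (kf xf14 yf22 zf2) (kf xf14 yf42 zf33) (kf xf3 yf52 zf54) (kf xf7 yf47 zf48) (kf xf7 yf0 zf23) (kf xf7 yf2 zf55) (kf xf7 yf40 zf26) (kf xf7 yf2 zf33) (kf xf7 yf2 zf34) (kf xf7 yf40 zf10) (kf xf7 yf3 zf24) (kf xf7 yf47 zf40) (kf xf7 yf3 zf25) (kf xf7 yf47 zf24) (kf xf7 yf47 zf25) (kf xf7 yf47 zf19) (kf xf7 yf47 zf26) (kf xf7 yf37 zf20) (kf xf10 yf21 zf54) (kf xf3 yf53 zf3) (kf xf13 yf40 zf25) (kf xf13 yf40 zf44) (kf xf13 yf40 zf45) (kf xf13 yf49 zf23) (kf xf7 yf19 zf56)) (@D3.rec (fun _ => Pt) (kf xf13 yf40 zf46) (kf xf9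 yf58 zf59) (kf xf14 yf43 zf9) (kf xf7 yf3 zf42) (kf xf14 yf21 zf46) (kf xf13 yf30 zf26) (kf xf14 yf21 zf53) (kf xf14 yf3 zf35) (kf xf14 yf21 zf54) (kf xf14 yf21 zf55) (kf xf14 yf21 zf56) (kf xf14 yf43 zf30) (kf xf14 yf3 zf36) (kf xf14 yf43 zf33) (kf xf3 yf53 zf16) (kf xf14 yf22 zf0) (kf xf14 yf43 zf39) (kf xf14 yf22 zf17) (kf xf14 yf22 zf16) (kf xf14 yf43 zf49) (kf xf3 yf53 zf18) (kf xf14 yf1 zf14) (kf xf3 yf53 zf20) (kf xf13 yf39 zf18) (kf xf7 yf39 zf48) (kf xf14 yf22 zf5) (kf xf11 yf48 zf30) (kf xf11 yf0 zf15) (kf xf12 yf51 zf43) (kf xf7 yf7 zf26) (kf xf13 yf27 zf14) (kf xf7 yf33 zf20) (kf xf13 yf27 zf15) (kf xf14 yf44 zf11) (kf xf7 yf7 zf27) (kf xf14 yf10 zf42) (kf xf13 yf27 zf5) (kf xf14 yf44 zf20) (kf xf3 yf54 zf24) (kf xf13 yf23 zf16) (kf xf13 yf23 zf17) (kf xf13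 yf28 zf21) (kf xf13 yf24 zf30) (kf xf13 yf27 zf4) (kf xf14 yf44 zf32) (kf xf12 yf15 zf56) (kf xf12 yf16 zf25) (kf xf12 yf21 zf23) (kf xf12 yf16 zf28) (kf xf6 yf59 zf27) (kf xf6 yf59 zf30) (kf xf14 yf44 zf44) (kf xf8 yf25 zf42) (kf xf13 yf23 zf56) (kf xf3 yf53 zf39) (kf xf13 yf15 zf5) (kf xf13 yf15 zf6) (kf xf13 yf15 zf7) (kf xf13 yf15 zf8) (kf xf7 yf15 zf21) (kf xf14 yf44 zf55) (kf xf7 yf15 zf25)) (@D3.rec (fun _ => Pt) (kf xf13 yf24 zf0) (kf xf13 yf24 zf1) (kf xf13 yf24 zf2) (kf xf7 yf19 zf33) (kf xf14 yf45 zf4) (kf xf13 yf24 zf3) (kf xf13 yf24 zf4) (kf xf13 yf24 zf5) (kf xf7 yf19 zf36) (kf xf7 yf14 zf50) (kf xf14 yf45 zf14) (kf xf7 yf14 zf53) (kf xf13 yf14 zf48) (kf xf7 yf17 zf40) (kf xf13 yf14 zf49) (kf xf14 yf45 zf24) (kf xf12 yf34 zf36) (kf xf14 yf45 zf30) (kf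 xf14 yf10 zf52) (kf xf13 yf50 zf50) (kf xf3 yf53 zf53) (kf xf7 yf51 zf13) (kf xf7 yf54 zf46) (kf xf7 yf51 zf17) (kf xf7 yf51 zf16) (kf xf14 yf45 zf48) (kf xf3 yf53 zf55) (kf xf3 yf54 zf16) (kf xf3 yf54 zf15) (kf xf14 yf45 zf52) (kf xf3 yf53 zf56) (kf xf3 yf54 zf20) (kf xf3 yf56 zf1) (kf xf3 yf54 zf26) (kf xf13 yf45 zf59) (kf xf3 yf53 zf58) (kf xf3 yf54 zf39) (kf xf3 yf54 zf40) (kf xf3 yf54 zf32) (kf xf3 yf56 zf0) (kf xf3 yf54 zf35) (kf xf7 yf35 zf52) (kf xf7 yf52 zf13) (kf xf14 yf24 zf41) (kf xf14 yf46 zf10) (kf xf14 yf46 zf9) (kf xf14 yf46 zf8) (kf xf8 yf34 zf6) (kf xf3 yf54 zf5) (kf xf7 yf51 zf52) (kf xf14 yf46 zf18) (kf xf3 yf54 zf6) (kf xf13 yf32 zf53) (kf xf7 yf52 zf18) (kf xf7 yf54 zf52) (kf xf7 yf54 zf50) (kf xf7 yf54 zf51) (kf xf7 yf54 zf53) (kf xf7 yf51 zf41)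 (kf xf7 yf54 zf54) (kf xf7 yf51 zf55) (kf xf7 yf51 zf56)) (@D3.rec (fun _ => Pt) (kf xf11 yf12 zf7) (kf xf9 yf29 zf17) (kf xf14 yf46 zf38) (kf xf3 yf54 zf14) (kf xf11 yf52 zf4) (kf xf5 yf43 zf17) (kf xf14 yf45 zf50) (kf xf11 yf17 zf29) (kf xf14 yf40 zf10) (kf xf14 yf45 zf49) (kf xf13 yf58 zf57) (kf xf14 yf40 zf4) (kf xf14 yf46 zf60) (kf xf3 yf54 zf17) (kf xf7 yf51 zf34) (kf xf14 yf24 zf39) (kf xf14 yf24 zf42) (kf xf7 yf55 zf10) (kf xf13 yf9 zf35) (kf xf14 yf45 zf53) (kf xf14 yf47 zf16) (kf xf7 yf51 zf45) (kf xf13 yf32 zf54) (kf xf13 yf32 zf55) (kf xf14 yf44 zf21) (kf xf13 yf32 zf56) (kf xf14 yf47 zf32) (kf xf13 yf24 zf53) (kf xf14 yf8 zf59) (kf xf14 yf9 zf4) (kf xf14 yf47 zf41) (kf xf14 yf45 zf55) (kf xf14 yf32 zf34) (kf xf14 yf47 zf49) (kf xf10 yf35 zf34) (kf xf14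 yf45 zf57) (kf xf14 yf47 zf56) (kf xf13 yf45 zf45) (kf xf3 yf54 zf27) (kf xf14 yf46 zf61) (kf xf7 yf25 zf2) (kf xf7 yf25 zf3) (kf xf7 yf25 zf7) (kf xf13 yf31 zf61) (kf xf13 yf32 zf2) (kf xf7 yf24 zf27) (kf xf11 yf51 zf8) (kf xf13 yf9 zf38) (kf xf14 yf46 zf1) (kf xf8 yf38 zf39) (kf xf7 yf24 zf26) (kf xf7 yf24 zf28) (kf xf6 yf53 zf39) (kf xf6 yf53 zf30) (kf xf13 yf9 zf21) (kf xf14 yf46 zf3) (kf xf14 yf46 zf4) (kf xf6 yf54 zf57) (kf xf6 yf54 zf58) (kf xf7 yf22 zf32) (kf xf7 yf25 zf4) (kf xf13 yf53 zf59)) (@D3.rec (fun _ => Pt) (kf xf14 yf45 zf60) (kf xf14 yf48 zf35) (kf xf14 yf45 zf61) (kf xf14 yf48 zf41) (kf xf7 yf26 zf1) (kf xf13 yf56 zf42) (kf xf3 yf54 zf41) (kf xf13 yf24 zf26) (kf xf13 yf24 zf29) (kf xf6 yf52 zf19) (kf xf7 yf39 zf6) (kf xf14 yf48 zf48) (kf xf7 yf14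 zf43) (kf xf7 yf49 zf21) (kf xf7 yf54 zf0) (kf xf14 yf48 zf56) (kf xf7 yf49 zf24) (kf xf7 yf49 zf23) (kf xf14 yf49 zf4) (kf xf3 yf54 zf49) (kf xf3 yf55 zf10) (kf xf3 yf55 zf9) (kf xf14 yf49 zf14) (kf xf3 yf54 zf50) (kf xf3 yf55 zf13) (kf xf3 yf55 zf14) (kf xf3 yf55 zf19) (kf xf14 yf49 zf21) (kf xf3 yf54 zf52) (kf xf3 yf55 zf26) (kf xf3 yf55 zf24) (kf xf3 yf55 zf33) (kf xf14 yf49 zf30) (kf xf3 yf54 zf56) (kf xf7 yf50 zf14) (kf xf7 yf40 zf45) (kf xf14 yf49 zf15) (kf xf7 yf54 zf6) (kf xf7 yf54 zf4) (kf xf7 yf54 zf5) (kf xf7 yf54 zf7) (kf xf7 yf49 zf58) (kf xf7 yf54 zf8) (kf xf7 yf40 zf44) (kf xf11 yf4 zf4) (kf xf7 yf50 zf21) (kf xf14 yf49 zf47) (kf xf14 yf49 zf45) (kf xf14 yf49 zf33) (kf xf14 yf49 zf52) (kf xf3 yf55 zf4) (kf xf7 yf4 zf41) (kf xf7 yf49 zf49) (kf xf14 yf49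 zf57) (kf xf3 yf55 zf5) (kf xf7 yf49 zf60) (kf xf7 yf49 zf61) (kf xf4 yf34 zf13) (kf xf14 yf50 zf5) (kf xf6 yf42 zf15) (kf xf6 yf42 zf14) (kf xf14 yf50 zf15)) (@D3.rec (fun _ => Pt) (kf xf3 yf55 zf8) (kf xf14 yf49 zf8) (kf xf14 yf49 zf9) (kf xf14 yf49 zf10) (kf xf13 yf59 zf10) (kf xf14 yf49 zf5) (kf xf14 yf49 zf6) (kf xf14 yf49 zf7) (kf xf14 yf50 zf38) (kf xf14 yf8 zf23) (kf xf14 yf49 zf12) (kf xf14 yf50 zf47) (kf xf3 yf55 zf11) (kf xf7 yf49 zf42) (kf xf11 yf32 zf48) (kf xf13 yf36 zf48) (kf xf11 yf42 zf52) (kf xf14 yf50 zf57) (kf xf7 yf49 zf53) (kf xf13 yf43 zf25) (kf xf8 yf27 zf47) (kf xf7 yf54 zf29) (kf xf13 yf43 zf26) (kf xf14 yf51 zf6) (kf xf9 yf10 zf52) (kf xf11 yf42 zf58) (kf xf14 yf51 zf13) (kf xf14 yf49 zf17) (kf xf14 yf0 zf50) (kf xf14 yf49 zf19) (kf xf14 yf51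 zf21) (kf xf14 yf22 zf36) (kf xf3 yf55 zf20) (kf xf14 yf50 zf48) (kf xf6 yf55 zf14) (kf xf6 yf55 zf16) (kf xf7 yf20 zf18) (kf xf13 yf42 zf36) (kf xf13 yf42 zf38) (kf xf14 yf48 zf25) (kf xf14 yf5 zf45) (kf xf14 yf49 zf25) (kf xf14 yf51 zf45) (kf xf14 yf29 zf12) (kf xf7 yf54 zf39) (kf xf14 yf49 zf23) (kf xf14 yf51 zf57) (kf xf7 yf21 zf19) (kf xf7 yf54 zf40) (kf xf6 yf55 zf20) (kf xf13 yf44 zf21) (kf xf13 yf8 zf27) (kf xf7 yf11 zf55) (kf xf13 yf4 zf6) (kf xf13 yf4 zf10) (kf xf7 yf18 zf45) (kf xf14 yf49 zf27) (kf xf13 yf3 zf35) (kf xf7 yf3 zf13) (kf xf14 yf22 zf34) (kf xf14 yf52 zf17) (kf xf7 yf9 zf54)) (@D3.rec (fun _ => Pt) (kf xf7 yf9 zf55) (kf xf7 yf9 zf56) (kf xf14 yf52 zf27) (kf xf7 yf8 zf61) (kf xf11 yf43 zf36) (kf xf14 yf5 zf61) (kf xf12 yf17 zf5) (kf xf6 yf55 zf30)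 (kf xf6 yf55 zf29) (kf xf11 yf45 zf0) (kf xf3 yf55 zf42) (kf xf6 yf55 zf35) (kf xf6 yf55 zf36) (kf xf6 yf55 zf34) (kf xf6 yf55 zf39) (kf xf6 yf55 zf38) (kf xf13 yf45 zf41) (kf xf6 yf8 zf15) (kf xf13 yf36 zf40) (kf xf6 yf54 zf54) (kf xf6 yf54 zf53) (kf xf14 yf52 zf52) (kf xf3 yf55 zf49) (kf xf6 yf54 zf60) (kf xf6 yf55 zf1) (kf xf6 yf55 zf0) (kf xf13 yf36 zf41) (kf xf3 yf55 zf60) (kf xf13 yf53 zf29) (kf xf6 yf54 zf42) (kf xf6 yf54 zf43) (kf xf5 yf25 zf9) (kf xf5 yf20 zf61) (kf xf7 yf20 zf49) (kf xf14 yf6 zf0) (kf xf13 yf5 zf61) (kf xf14 yf6 zf1) (kf xf5 yf24 zf56) (kf xf7 yf20 zf50) (kf xf14 yf23 zf0) (kf xf14 yf5 zf53) (kf xf5 yf24 zf53) (kf xf13 yf32 zf3) (kf xf13 yf56 zf41) (kf xf14 yf24 zf43) (kf xf13 yf24 zf52) (kf xf14 yf5 zf51) (kf xf14 yf53 zf29) (kf xf7 yf53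 zf52) (kf xf7 yf17 zf51) (kf xf7 yf53 zf53) (kf xf14 yf53 zf42) (kf xf7 yf53 zf48) (kf xf7 yf53 zf50) (kf xf14 yf53 zf50) (kf xf7 yf39 zf8) (kf xf7 yf25 zf15) (kf xf7 yf25 zf16) (kf xf7 yf25 zf11) (kf xf7 yf25 zf17) (kf xf7 yf25 zf33) (kf xf14 yf54 zf4)) (@D3.rec (fun _ => Pt) (kf xf7 yf51 zf14) (kf xf7 yf54 zf47) (kf xf7 yf54 zf3) (kf xf7 yf54 zf2) (kf xf7 yf51 zf38) (kf xf7 yf51 zf39) (kf xf7 yf51 zf37) (kf xf7 yf51 zf40) (kf xf7 yf51 zf42) (kf xf14 yf54 zf23) (kf xf7 yf54 zf56) (kf xf7 yf24 zf1) (kf xf7 yf54 zf57) (kf xf14 yf54 zf35) (kf xf7 yf54 zf59) (kf xf7 yf54 zf60) (kf xf14 yf54 zf43) (kf xf7 yf55 zf0) (kf xf7 yf55 zf1) (kf xf14 yf54 zf50) (kf xf7 yf54 zf25) (kf xf7 yf54 zf24) (kf xf7 yf55 zf3) (kf xf7 yf55 zf4) (kf xf7 yf54 zf21) (kf xf7 yf54 zf20) (kf xf7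 yf54 zf34) (kf xf3 yf56 zf20) (kf xf7 yf54 zf32) (kf xf7 yf52 zf21) (kf xf7 yf54 zf37) (kf xf7 yf54 zf38) (kf xf7 yf54 zf28) (kf xf6 yf57 zf42) (kf xf7 yf54 zf26) (kf xf14 yf55 zf11) (kf xf6 yf57 zf44) (kf xf7 yf54 zf30) (kf xf7 yf54 zf31) (kf xf7 yf52 zf44) (kf xf7 yf52 zf48) (kf xf7 yf21 zf12) (kf xf7 yf21 zf9) (kf xf7 yf21 zf13) (kf xf7 yf21 zf22) (kf xf14 yf55 zf30) (kf xf7 yf49 zf22) (kf xf7 yf54 zf1) (kf xf13 yf5 zf8) (kf xf7 yf55 zf5) (kf xf7 yf49 zf55) (kf xf7 yf49 zf56) (kf xf7 yf49 zf54) (kf xf7 yf49 zf57) (kf xf7 yf49 zf59) (kf xf14 yf55 zf51) (kf xf7 yf54 zf10) (kf xf7 yf54 zf12) (kf xf14 yf55 zf59) (kf xf7 yf54 zf14) (kf xf7 yf54 zf15) (kf xf14 yf56 zf5)) (@D3.rec (fun _ => Pt) (kf xf7 yf54 zf17) (kf xf7 yf54 zf18) (kf xf14 yf56 zf12) (kf xf7 yf54 zf22)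 (kf xf7 yf54 zf23) (kf xf7 yf54 zf49) (kf xf14 yf55 zf37) (kf xf14 yf55 zf36) (kf xf14 yf56 zf31) (kf xf3 yf56 zf40) (kf xf7 yf50 zf17) (kf xf13 yf13 zf47) (kf xf13 yf13 zf49) (kf xf7 yf11 zf16) (kf xf6 yf48 zf8) (kf xf6 yf48 zf9) (kf xf14 yf56 zf45) (kf xf5 yf39 zf56) (kf xf3 yf56 zf46) (kf xf6 yf52 zf35) (kf xf6 yf52 zf42) (kf xf14 yf56 zf53) (kf xf7 yf16 zf33) (kf xf7 yf18 zf30) (kf xf7 yf18 zf31) (kf xf8 yf36 zf54) (kf xf14 yf56 zf59) (kf xf9 yf35 zf6) (kf xf9 yf34 zf32) (kf xf3 yf57 zf10) (kf xf4 yf21 zf39) (kf xf14 yf57 zf7) (kf xf9 yf34 zf53) (kf xf4 yf21 zf41) (kf xf14 yf57 zf12) (kf xf4 yf21 zf36) (kf xf4 yf21 zf35) (kf xf3 yf56 zf60) (kf xf4 yf21 zf32) (kf xf14 yf57 zf22) (kf xf4 yf21 zf45) (kf xf4 yf21 zf44) (kf xf3 yf57 zf1) (kf xf4 yf21 zf54) (kf xf14 yf57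 zf25) (kf xf4 yf21 zf51) (kf xf4 yf21 zf50) (kf xf3 yf57 zf3) (kf xf4 yf21 zf60) (kf xf4 yf21 zf59) (kf xf3 yf57 zf4) (kf xf4 yf22 zf3) (kf xf14 yf57 zf39) (kf xf4 yf22 zf0) (kf xf4 yf22 zf1) (kf xf14 yf57 zf47) (kf xf14 yf57 zf53) (kf xf14 yf57 zf49) (kf xf14 yf57 zf48) (kf xf4 yf23 zf38) (kf xf3 yf57 zf7) (kf xf14 yf58 zf2)) (@D3.rec (fun _ => Pt) (kf xf9 yf35 zf7) (kf xf4 yf22 zf16) (kf xf4 yf22 zf15) (kf xf4 yf15 zf51) (kf xf8 yf36 zf33) (kf xf4 yf22 zf39) (kf xf14 yf58 zf13) (kf xf3 yf57 zf13) (kf xf4 yf22 zf42) (kf xf14 yf58 zf19) (kf xf4 yf22 zf24) (kf xf3 yf57 zf15) (kf xf4 yf22 zf46) (kf xf4 yf22 zf47) (kf xf4 yf22 zf48) (kf xf4 yf22 zf49) (kf xf14 yf58 zf27) (kf xf8 yf3 zf43) (kf xf4 yf23 zf4) (kf xf14 yf58 zf32) (kf xf4 yf23 zf14) (kf xf14 yf58 zf37) (kf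 xf14 yf58 zf40) (kf xf9 yf2 zf61) (kf xf11 yf13 zf41) (kf xf11 yf23 zf54) (kf xf12 yf7 zf18) (kf xf14 yf58 zf54) (kf xf14 yf58 zf57) (kf xf3 yf57 zf30) (kf xf4 yf23 zf36) (kf xf14 yf59 zf2) (kf xf4 yf23 zf34) (kf xf14 yf59 zf7) (kf xf4 yf22 zf9) (kf xf14 yf59 zf15) (kf xf4 yf23 zf41) (kf xf4 yf23 zf40) (kf xf3 yf57 zf35) (kf xf14 yf59 zf22) (kf xf12 yf8 zf42) (kf xf8 yf3 zf38) (kf xf4 yf24 zf19) (kf xf4 yf24 zf20) (kf xf4 yf24 zf21) (kf xf4 yf24 zf5) (kf xf4 yf24 zf4) (kf xf3 yf57 zf40) (kf xf4 yf24 zf41) (kf xf12 yf5 zf20) (kf xf4 yf24 zf44) (kf xf4 yf24 zf48) (kf xf14 yf59 zf39) (kf xf4 yf24 zf39) (kf xf4 yf24 zf38) (kf xf3 yf57 zf45) (kf xf4 yf25 zf14) (kf xf8 yf48 zf28) (kf xf4 yf25 zf16) (kf xf4 yf25 zf22) (kf xf4 yf25 zf23) (kf xf14 yf59 zf47)) (@D3.rec (fun _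 => Pt) (kf xf4 yf25 zf8) (kf xf4 yf25 zf7) (kf xf14 yf59 zf54) (kf xf3 yf57 zf49) (kf xf4 yf20 zf50) (kf xf14 yf59 zf57) (kf xf8 yf3 zf23) (kf xf7 yf19 zf17) (kf xf9 yf9 zf25) (kf xf7 yf19 zf15) (kf xf9 yf9 zf26) (kf xf11 yf12 zf59) (kf xf11 yf33 zf13) (kf xf8 yf50 zf2) (kf xf15 yf0 zf3) (kf xf12 yf7 zf51) (kf xf7 yf8 zf14) (kf xf8 yf50 zf45) (kf xf15 yf0 zf7) (kf xf8 yf50 zf1) (kf xf8 yf50 zf3) (kf xf15 yf0 zf12) (kf xf15 yf0 zf2) (kf xf15 yf0 zf1) (kf xf3 yf57 zf61) (kf xf4 yf26 zf47) (kf xf4 yf26 zf49) (kf xf15 yf0 zf29) (kf xf4 yf26 zf43) (kf xf4 yf26 zf45) (kf xf12 yf7 zf58) (kf xf5 yf15 zf52) (kf xf5 yf21 zf21) (kf xf10 yf9 zf37) (kf xf10 yf9 zf38) (kf xf9 yf56 zf23) (kf xf9 yf56 zf24) (kf xf3 yf58 zf22) (kf xf5 yf36 zf55) (kf xf3 yf58 zf17) (kf xf5 yf39 zf39)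 (kf xf3 yf58 zf28) (kf xf15 yf1 zf2) (kf xf3 yf58 zf25) (kf xf15 yf1 zf6) (kf xf15 yf1 zf11) (kf xf10 yf32 zf52) (kf xf3 yf58 zf10) (kf xf8 yf13 zf9) (kf xf4 yf55 zf9) (kf xf15 yf1 zf16) (kf xf8 yf33 zf42) (kf xf15 yf1 zf20) (kf xf5 yf17 zf18) (kf xf5 yf36 zf28) (kf xf15 yf1 zf26) (kf xf5 yf27 zf43) (kf xf8 yf20 zf23) (kf xf15 yf0 zf57) (kf xf15 yf0 zf58) (kf xf15 yf1 zf43) (kf xf5 yf36 zf56)) (@D3.rec (fun _ => Pt) (kf xf15 yf1 zf47) (kf xf3 yf58 zf18) (kf xf4 yf5 zf18) (kf xf4 yf8 zf34) (kf xf15 yf1 zf51) (kf xf15 yf0 zf54) (kf xf15 yf0 zf55) (kf xf15 yf1 zf61) (kf xf5 yf39 zf40) (kf xf3 yf58 zf23) (kf xf15 yf2 zf1) (kf xf5 yf14 zf57) (kf xf5 yf25 zf4) (kf xf15 yf1 zf3) (kf xf15 yf2 zf13) (kf xf15 yf1 zf1) (kf xf4 yf55 zf57) (kf xf3 yf58 zf26) (kf xf15 yf2 zf18) (kf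 xf15 yf0 zf60) (kf xf15 yf0 zf61) (kf xf15 yf2 zf28) (kf xf4 yf56 zf9) (kf xf15 yf1 zf5) (kf xf11 yf57 zf9) (kf xf3 yf58 zf29) (kf xf8 yf8 zf34) (kf xf8 yf8 zf35) (kf xf15 yf2 zf40) (kf xf8 yf54 zf8) (kf xf8 yf35 zf1) (kf xf15 yf2 zf48) (kf xf10 yf54 zf38) (kf xf5 yf33 zf52) (kf xf10 yf54 zf36) (kf xf10 yf54 zf39) (kf xf8 yf7 zf50) (kf xf8 yf34 zf0) (kf xf5 yf21 zf14) (kf xf15 yf3 zf5) (kf xf3 yf58 zf33) (kf xf8 yf14 zf3) (kf xf8 yf14 zf4) (kf xf8 yf14 zf5) (kf xf4 yf56 zf3) (kf xf15 yf3 zf18) (kf xf8 yf27 zf55) (kf xf8 yf27 zf54) (kf xf3 yf58 zf37) (kf xf4 yf55 zf22) (kf xf4 yf55 zf59) (kf xf5 yf37 zf0) (kf xf5 yf39 zf50) (kf xf4 yf55 zf30) (kf xf8 yf55 zf13) (kf xf10 yf54 zf30) (kf xf10 yf54 zf31) (kf xf10 yf55 zf30) (kf xf10 yf54 zf32) (kf xf10 yf54 zf33) (kf xf10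 yf54 zf34) (kf xf9 yf6 zf33)) (@D3.rec (fun _ => Pt) (kf xf4 yf57 zf48) (kf xf4 yf57 zf47) (kf xf4 yf57 zf35) (kf xf11 yf26 zf25) (kf xf3 yf58 zf48) (kf xf4 yf56 zf31) (kf xf5 yf57 zf8) (kf xf4 yf56 zf41) (kf xf3 yf59 zf5) (kf xf3 yf59 zf1) (kf xf3 yf59 zf2) (kf xf4 yf57 zf16) (kf xf5 yf41 zf26) (kf xf5 yf41 zf60) (kf xf4 yf57 zf17) (kf xf12 yf9 zf14) (kf xf3 yf58 zf59) (kf xf11 yf6 zf53) (kf xf15 yf3 zf59) (kf xf4 yf57 zf18) (kf xf4 yf57 zf6) (kf xf4 yf23 zf21) (kf xf11 yf6 zf55) (kf xf10 yf18 zf11) (kf xf4 yf0 zf25) (kf xf12 yf9 zf15) (kf xf7 yf33 zf46) (kf xf11 yf6 zf56) (kf xf15 yf4 zf5) (kf xf3 yf59 zf7) (kf xf3 yf59 zf6) (kf xf15 yf3 zf49) (kf xf15 yf4 zf12) (kf xf5 yf44 zf34) (kf xf15 yf4 zf7) (kf xf11 yf23 zf55) (kf xf15 yf4 zf6) (kf xf9 yf3 zf39) (kf xf9 yf3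 zf38) (kf xf15 yf4 zf20) (kf xf15 yf4 zf23) (kf xf3 yf59 zf8) (kf xf15 yf4 zf11) (kf xf15 yf4 zf10) (kf xf3 yf59 zf9) (kf xf15 yf4 zf30) (kf xf11 yf22 zf12) (kf xf4 yf57 zf55) (kf xf11 yf31 zf13) (kf xf4 yf57 zf52) (kf xf3 yf59 zf16) (kf xf4 yf57 zf59) (kf xf4 yf57 zf58) (kf xf5 yf53 zf41) (kf xf4 yf36 zf23) (kf xf5 yf56 zf3) (kf xf5 yf54 zf50) (kf xf9 yf4 zf40) (kf xf11 yf20 zf44) (kf xf5 yf54 zf57) (kf xf8 yf14 zf45) (kf xf10 yf17 zf54))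
def f_f_8 : D2 → D3 → Pt := @D2.rec (fun _ => D3 → Pt) (@D3.rec (fun _ => Pt) (kf xf9 yf19 zf51) (kf xf5 yf54 zf47) (kf xf6 yf1 zf48) (kf xf11 yf24 zf58) (kf xf5 yf0 zf3) (kf xf4 yf0 zf41) (kf xf4 yf26 zf26) (kf xf12 yf30 zf1) (kf xf10 yf49 zf50) (kf xf3 yf59 zf30) (kf xf9 yf47 zf3) (kf xf4 yf35 zf55) (kf xf15 yf4 zf54) (kf xf3 yf59 zf33) (kf xf11 yf24 zf55) (kf xf11 yf24 zf56) (kf xf12 yf30 zf2) (kf xf10 yf43 zf28) (kf xf5 yf52 zf57) (kf xf10 yf49 zf51) (kf xf6 yf49 zf39) (kf xf15 yf5 zf1) (kf xf3 yf59 zf51) (kf xf3 yf59 zf50) (kf xf3 yf59 zf40) (kf xf12 yf25 zf0) (kf xf5 yf53 zf42) (kf xf6 yf44 zf13) (kf xf12 yf25 zf1) (kf xf12 yf25 zf2) (kf xf5 yf47 zf42) (kf xf5 yf55 zf34) (kf xf12 yf17 zf43) (kf xf6 yf51 zf1) (kf xf6 yf51 zf2) (kf xf12 yf17 zf44) (kf xf12 yf17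 zf45) (kf xf6 yf50 zf23) (kf xf12 yf24 zf50) (kf xf6 yf50 zf29) (kf xf14 yf2 zf42) (kf xf9 yf12 zf14) (kf xf14 yf50 zf1) (kf xf3 yf59 zf49) (kf xf6 yf0 zf56) (kf xf15 yf5 zf4) (kf xf15 yf5 zf5) (kf xf6 yf50 zf30) (kf xf15 yf5 zf2) (kf xf15 yf5 zf3) (kf xf14 yf49 zf60) (kf xf4 yf34 zf28) (kf xf5 yf0 zf18) (kf xf4 yf46 zf3) (kf xf5 yf0 zf19) (kf xf12 yf17 zf48) (kf xf5 yf0 zf13) (kf xf5 yf0 zf9) (kf xf5 yf0 zf11) (kf xf4 yf41 zf34) (kf xf4 yf2 zf18) (kf xf8 yf1 zf41)) (@D3.rec (fun _ => Pt) (kf xf8 yf1 zf42) (kf xf8 yf1 zf43) (kf xf5 yf53 zf16) (kf xf6 yf14 zf0) (kf xf8 yf43 zf49) (kf xf15 yf5 zf48) (kf xf15 yf5 zf51) (kf xf4 yf0 zf1) (kf xf8 yf1 zf37) (kf xf15 yf5 zf58) (kf xf8 yf2 zf0) (kf xf8 yf1 zf61) (kf xf4 yf0 zf4) (kf xf15 yf6 zf3) (kf xf15 yf6 zf7) (kf xf9 yf9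 zf37) (kf xf15 yf6 zf11) (kf xf15 yf6 zf15) (kf xf12 yf22 zf59) (kf xf12 yf22 zf58) (kf xf4 yf0 zf10) (kf xf8 yf2 zf37) (kf xf8 yf2 zf38) (kf xf12 yf22 zf41) (kf xf8 yf2 zf34) (kf xf8 yf2 zf35) (kf xf15 yf6 zf38) (kf xf4 yf52 zf59) (kf xf15 yf6 zf42) (kf xf4 yf52 zf55) (kf xf4 yf0 zf15) (kf xf15 yf6 zf45) (kf xf4 yf53 zf1) (kf xf4 yf0 zf17) (kf xf15 yf6 zf52) (kf xf15 yf6 zf47) (kf xf15 yf6 zf46) (kf xf8 yf1 zf8) (kf xf4 yf0 zf18) (kf xf15 yf7 zf2) (kf xf9 yf34 zf4) (kf xf8 yf0 zf61) (kf xf8 yf1 zf0) (kf xf8 yf1 zf1) (kf xf4 yf0 zf27) (kf xf4 yf0 zf26) (kf xf13 yf27 zf55) (kf xf15 yf4 zf0) (kf xf5 yf41 zf20) (kf xf4 yf23 zf18) (kf xf15 yf7 zf6) (kf xf13 yf27 zf54) (kf xf15 yf7 zf5) (kf xf15 yf7 zf15) (kf xf15 yf7 zf14) (kf xf15 yf7 zf28) (kf xf15 yf7 zf31) (kf xf4 yf0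 zf28) (kf xf4 yf0 zf53) (kf xf4 yf53 zf12) (kf xf15 yf7 zf39) (kf xf8 yf1 zf11)) (@D3.rec (fun _ => Pt) (kf xf8 yf1 zf10) (kf xf4 yf0 zf31) (kf xf15 yf7 zf45) (kf xf4 yf0 zf58) (kf xf8 yf3 zf25) (kf xf6 yf13 zf45) (kf xf11 yf23 zf26) (kf xf7 yf14 zf28) (kf xf4 yf42 zf43) (kf xf4 yf0 zf48) (kf xf8 yf38 zf55) (kf xf4 yf25 zf43) (kf xf11 yf28 zf14) (kf xf13 yf46 zf27) (kf xf10 yf52 zf45) (kf xf8 yf4 zf42) (kf xf8 yf5 zf10) (kf xf4 yf0 zf43) (kf xf15 yf7 zf61) (kf xf10 yf52 zf32) (kf xf15 yf8 zf2) (kf xf4 yf0 zf47) (kf xf4 yf0 zf50) (kf xf15 yf8 zf6) (kf xf15 yf8 zf8) (kf xf5 yf53 zf30) (kf xf15 yf8 zf10) (kf xf15 yf8 zf5) (kf xf15 yf8 zf4) (kf xf4 yf0 zf51) (kf xf15 yf8 zf18) (kf xf15 yf7 zf33) (kf xf15 yf8 zf27) (kf xf4 yf0 zf54) (kf xf8 yf1 zf24) (kf xf8 yf1 zf25) (kf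 xf15 yf8 zf38) (kf xf8 yf1 zf21) (kf xf8 yf1 zf22) (kf xf15 yf8 zf48) (kf xf6 yf13 zf39) (kf xf6 yf13 zf38) (kf xf12 yf6 zf6) (kf xf15 yf8 zf55) (kf xf8 yf9 zf19) (kf xf10 yf35 zf16) (kf xf4 yf3 zf3) (kf xf15 yf9 zf2) (kf xf8 yf41 zf5) (kf xf15 yf9 zf8) (kf xf9 yf33 zf41) (kf xf4 yf1 zf2) (kf xf4 yf1 zf10) (kf xf15 yf9 zf10) (kf xf4 yf4 zf2) (kf xf15 yf9 zf15) (kf xf4 yf3 zf58) (kf xf4 yf3 zf57) (kf xf15 yf9 zf20) (kf xf4 yf1 zf6) (kf xf4 yf3 zf55) (kf xf15 yf9 zf28)) (@D3.rec (fun _ => Pt) (kf xf4 yf4 zf5) (kf xf4 yf4 zf4) (kf xf4 yf1 zf8) (kf xf8 yf9 zf17) (kf xf8 yf9 zf18) (kf xf8 yf9 zf16) (kf xf4 yf4 zf19) (kf xf4 yf4 zf18) (kf xf5 yf8 zf35) (kf xf8 yf4 zf44) (kf xf15 yf9 zf47) (kf xf8 yf4 zf40) (kf xf8 yf4 zf39) (kf xf4 yf1 zf13) (kf xf8 yf3 zf35) (kf xf8 yf3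 zf36) (kf xf8 yf3 zf28) (kf xf14 yf45 zf34) (kf xf8 yf4 zf37) (kf xf15 yf9 zf61) (kf xf8 yf4 zf47) (kf xf8 yf4 zf46) (kf xf4 yf1 zf20) (kf xf7 yf57 zf6) (kf xf15 yf10 zf6) (kf xf8 yf2 zf4) (kf xf7 yf8 zf24) (kf xf7 yf19 zf19) (kf xf8 yf3 zf16) (kf xf15 yf10 zf11) (kf xf6 yf7 zf35) (kf xf4 yf56 zf36) (kf xf15 yf10 zf15) (kf xf4 yf56 zf37) (kf xf6 yf7 zf41) (kf xf8 yf3 zf14) (kf xf8 yf3 zf15) (kf xf15 yf10 zf21) (kf xf7 yf56 zf41) (kf xf8 yf4 zf55) (kf xf8 yf4 zf56) (kf xf7 yf8 zf25) (kf xf15 yf10 zf31) (kf xf7 yf56 zf17) (kf xf8 yf38 zf37) (kf xf15 yf10 zf36) (kf xf8 yf5 zf17) (kf xf15 yf10 zf41) (kf xf8 yf5 zf15) (kf xf15 yf10 zf45) (kf xf8 yf4 zf30) (kf xf15 yf10 zf53) (kf xf8 yf5 zf22) (kf xf8 yf5 zf21) (kf xf4 yf1 zf37) (kf xf15 yf10 zf59) (kf xf5 yf8 zf43) (kf xf5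 yf8 zf45) (kf xf15 yf11 zf4) (kf xf5 yf8 zf32) (kf xf5 yf8 zf48) (kf xf5 yf8 zf49)) (@D3.rec (fun _ => Pt) (kf xf15 yf11 zf10) (kf xf5 yf8 zf40) (kf xf4 yf1 zf42) (kf xf5 yf8 zf37) (kf xf5 yf8 zf38) (kf xf15 yf11 zf20) (kf xf5 yf8 zf52) (kf xf9 yf0 zf58) (kf xf4 yf1 zf44) (kf xf15 yf11 zf25) (kf xf5 yf9 zf3) (kf xf5 yf9 zf4) (kf xf15 yf11 zf35) (kf xf5 yf8 zf61) (kf xf4 yf1 zf48) (kf xf15 yf11 zf40) (kf xf5 yf8 zf58) (kf xf5 yf8 zf59) (kf xf15 yf11 zf49) (kf xf5 yf9 zf7) (kf xf4 yf1 zf51) (kf xf5 yf9 zf12) (kf xf5 yf9 zf13) (kf xf15 yf11 zf58) (kf xf5 yf9 zf9) (kf xf5 yf9 zf10) (kf xf15 yf12 zf3) (kf xf15 yf12 zf10) (kf xf15 yf12 zf5) (kf xf15 yf12 zf4) (kf xf8 yf3 zf50) (kf xf4 yf1 zf54) (kf xf5 yf9 zf21) (kf xf5 yf9 zf20) (kf xf15 yf12 zf27) (kf xf9 yf52 zf16) (kf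 xf15 yf12 zf31) (kf xf8 yf3 zf18) (kf xf15 yf12 zf37) (kf xf8 yf3 zf12) (kf xf8 yf3 zf11) (kf xf4 yf1 zf61) (kf xf8 yf2 zf15) (kf xf15 yf12 zf41) (kf xf8 yf3 zf9) (kf xf15 yf12 zf47) (kf xf8 yf3 zf21) (kf xf8 yf3 zf20) (kf xf4 yf2 zf5) (kf xf7 yf19 zf16) (kf xf15 yf12 zf55) (kf xf15 yf12 zf58) (kf xf6 yf13 zf47) (kf xf15 yf13 zf0) (kf xf4 yf24 zf13) (kf xf8 yf3 zf39) (kf xf8 yf3 zf40) (kf xf15 yf13 zf7) (kf xf15 yf13 zf11) (kf xf4 yf22 zf37) (kf xf4 yf2 zf17) (kf xf4 yf5 zf55)) (@D3.rec (fun _ => Pt) (kf xf10 yf1 zf27) (kf xf15 yf13 zf20) (kf xf9 yf44 zf33) (kf xf4 yf2 zf16) (kf xf6 yf15 zf61) (kf xf8 yf25 zf53) (kf xf15 yf13 zf13) (kf xf15 yf13 zf26) (kf xf8 yf38 zf23) (kf xf15 yf13 zf27) (kf xf8 yf2 zf16) (kf xf15 yf13 zf37) (kf xf15 yf13 zf40) (kf xf4 yf2 zf19) (kf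 xf4 yf23 zf49) (kf xf8 yf3 zf48) (kf xf15 yf13 zf47) (kf xf8 yf3 zf46) (kf xf15 yf13 zf51) (kf xf5 yf9 zf18) (kf xf15 yf13 zf59) (kf xf8 yf3 zf53) (kf xf8 yf3 zf52) (kf xf4 yf2 zf24) (kf xf15 yf14 zf4) (kf xf4 yf23 zf51) (kf xf8 yf5 zf49) (kf xf8 yf5 zf48) (kf xf4 yf2 zf27) (kf xf8 yf5 zf52) (kf xf8 yf5 zf51) (kf xf4 yf2 zf28) (kf xf15 yf14 zf17) (kf xf15 yf14 zf13) (kf xf15 yf14 zf12) (kf xf8 yf26 zf2) (kf xf4 yf2 zf29) (kf xf15 yf14 zf25) (kf xf9 yf53 zf24) (kf xf8 yf6 zf0) (kf xf8 yf5 zf61) (kf xf5 yf1 zf1) (kf xf15 yf9 zf19) (kf xf15 yf14 zf32) (kf xf15 yf14 zf37) (kf xf15 yf14 zf38) (kf xf4 yf2 zf35) (kf xf4 yf2 zf42) (kf xf8 yf5 zf27) (kf xf8 yf5 zf26) (kf xf4 yf2 zf37) (kf xf8 yf5 zf30) (kf xf8 yf5 zf29) (kf xf4 yf2 zf38) (kf xf10 yf13 zf56) (kf xf15 yf14 zf45)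 (kf xf15 yf14 zf44) (kf xf8 yf10 zf40) (kf xf4 yf2 zf39) (kf xf15 yf14 zf59) (kf xf15 yf14 zf40) (kf xf8 yf5 zf40)) (@D3.rec (fun _ => Pt) (kf xf8 yf5 zf39) (kf xf5 yf29 zf21) (kf xf15 yf15 zf4) (kf xf4 yf2 zf44) (kf xf5 yf29 zf25) (kf xf5 yf29 zf26) (kf xf7 yf38 zf59) (kf xf4 yf2 zf46) (kf xf5 yf32 zf8) (kf xf5 yf32 zf9) (kf xf15 yf15 zf20) (kf xf4 yf29 zf30) (kf xf4 yf29 zf29) (kf xf4 yf2 zf50) (kf xf10 yf23 zf26) (kf xf10 yf23 zf27) (kf xf15 yf15 zf32) (kf xf5 yf24 zf54) (kf xf10 yf23 zf24) (kf xf14 yf53 zf10) (kf xf15 yf15 zf44) (kf xf15 yf15 zf39) (kf xf15 yf15 zf38) (kf xf15 yf15 zf51) (kf xf4 yf2 zf53) (kf xf10 yf23 zf34) (kf xf10 yf23 zf33) (kf xf4 yf8 zf25) (kf xf13 yf32 zf32) (kf xf4 yf2 zf54) (kf xf8 yf15 zf38) (kf xf5 yf29 zf20) (kf xf8 yf36 zf55) (kf xf5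 yf36 zf6) (kf xf11 yf52 zf61) (kf xf9 yf33 zf40) (kf xf15 yf16 zf19) (kf xf15 yf9 zf1) (kf xf9 yf37 zf39) (kf xf4 yf2 zf60) (kf xf6 yf4 zf36) (kf xf15 yf16 zf24) (kf xf15 yf8 zf61) (kf xf9 yf33 zf39) (kf xf11 yf8 zf44) (kf xf4 yf3 zf27) (kf xf15 yf12 zf49) (kf xf4 yf3 zf4) (kf xf5 yf1 zf8) (kf xf9 yf33 zf31) (kf xf9 yf33 zf32) (kf xf15 yf16 zf42) (kf xf15 yf9 zf3) (kf xf11 yf55 zf30) (kf xf4 yf3 zf10) (kf xf9 yf33 zf28) (kf xf9 yf33 zf29) (kf xf15 yf16 zf55) (kf xf11 yf53 zf27) (kf xf11 yf53 zf26) (kf xf4 yf3 zf12) (kf xf5 yf36 zf11)) (@D3.rec (fun _ => Pt) (kf xf15 yf17 zf2) (kf xf8 yf27 zf23) (kf xf8 yf27 zf24) (kf xf14 yf51 zf2) (kf xf15 yf17 zf14) (kf xf15 yf17 zf9) (kf xf15 yf17 zf8) (kf xf12 yf39 zf45) (kf xf4 yf3 zf15) (kf xf8 yf27 zf18) (kf xf4 yf14 zf24) (kf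 xf15 yf17 zf30) (kf xf4 yf3 zf16) (kf xf4 yf4 zf17) (kf xf4 yf27 zf46) (kf xf4 yf27 zf51) (kf xf4 yf27 zf60) (kf xf4 yf27 zf61) (kf xf15 yf17 zf44) (kf xf4 yf3 zf21) (kf xf4 yf7 zf48) (kf xf5 yf39 zf0) (kf xf15 yf17 zf50) (kf xf8 yf36 zf45) (kf xf8 yf36 zf44) (kf xf4 yf3 zf25) (kf xf5 yf39 zf2) (kf xf15 yf16 zf32) (kf xf8 yf36 zf47) (kf xf8 yf36 zf48) (kf xf8 yf36 zf49) (kf xf15 yf18 zf5) (kf xf8 yf9 zf54) (kf xf8 yf9 zf52) (kf xf15 yf18 zf13) (kf xf4 yf3 zf29) (kf xf8 yf27 zf40) (kf xf9 yf37 zf40) (kf xf8 yf27 zf39) (kf xf15 yf16 zf20) (kf xf8 yf39 zf16) (kf xf8 yf39 zf15) (kf xf15 yf18 zf24) (kf xf4 yf3 zf32) (kf xf8 yf37 zf53) (kf xf8 yf29 zf10) (kf xf15 yf18 zf29) (kf xf15 yf16 zf23) (kf xf15 yf18 zf31) (kf xf8 yf20 zf25) (kf xf7 yf58 zf36) (kf xf11 yf10 zf30) (kf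 xf10 yf0 zf55) (kf xf15 yf18 zf28) (kf xf15 yf18 zf42) (kf xf4 yf3 zf41) (kf xf9 yf37 zf32) (kf xf9 yf37 zf33) (kf xf9 yf37 zf34) (kf xf10 yf51 zf41) (kf xf10 yf51 zf40) (kf xf4 yf3 zf47)) (@D3.rec (fun _ => Pt) (kf xf5 yf39 zf9) (kf xf4 yf9 zf17) (kf xf9 yf53 zf3) (kf xf5 yf39 zf8) (kf xf8 yf36 zf57) (kf xf8 yf36 zf56) (kf xf15 yf19 zf2) (kf xf4 yf3 zf50) (kf xf8 yf40 zf33) (kf xf8 yf37 zf1) (kf xf4 yf28 zf7) (kf xf4 yf28 zf15) (kf xf4 yf28 zf16) (kf xf15 yf19 zf18) (kf xf4 yf28 zf11) (kf xf4 yf3 zf54) (kf xf15 yf9 zf21) (kf xf15 yf9 zf22) (kf xf15 yf9 zf23) (kf xf15 yf19 zf29) (kf xf9 yf43 zf32) (kf xf9 yf43 zf30) (kf xf15 yf19 zf38) (kf xf4 yf3 zf56) (kf xf5 yf24 zf4) (kf xf8 yf28 zf0) (kf xf15 yf9 zf17) (kf xf8 yf27 zf61) (kf xf15 yf9 zf16) (kf xf15 yf16 zf57) (kf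 xf5 yf1 zf22) (kf xf15 yf19 zf53) (kf xf4 yf3 zf59) (kf xf15 yf19 zf56) (kf xf7 yf58 zf26) (kf xf7 yf58 zf27) (kf xf15 yf20 zf3) (kf xf15 yf19 zf55) (kf xf15 yf19 zf54) (kf xf4 yf4 zf1) (kf xf10 yf58 zf58) (kf xf15 yf9 zf11) (kf xf15 yf9 zf12) (kf xf15 yf20 zf12) (kf xf15 yf9 zf26) (kf xf15 yf9 zf25) (kf xf15 yf20 zf20) (kf xf4 yf4 zf3) (kf xf8 yf28 zf11) (kf xf5 yf24 zf34) (kf xf15 yf16 zf47) (kf xf15 yf8 zf54) (kf xf8 yf28 zf10) (kf xf5 yf24 zf33) (kf xf5 yf33 zf35) (kf xf5 yf33 zf36) (kf xf5 yf33 zf32) (kf xf15 yf20 zf37) (kf xf15 yf20 zf41) (kf xf4 yf4 zf8) (kf xf8 yf27 zf57) (kf xf8 yf27 zf58)) (@D3.rec (fun _ => Pt) (kf xf8 yf27 zf59) (kf xf8 yf27 zf51) (kf xf14 yf50 zf34) (kf xf15 yf20 zf55) (kf xf4 yf4 zf10) (kf xf4 yf4 zf13) (kf xf4 yf4 zf12) (kf xf15 yf21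 zf2) (kf xf15 yf21 zf8) (kf xf11 yf8 zf58) (kf xf15 yf21 zf13) (kf xf4 yf4 zf11) (kf xf15 yf20 zf57) (kf xf15 yf20 zf58) (kf xf11 yf8 zf59) (kf xf15 yf21 zf27) (kf xf8 yf3 zf5) (kf xf8 yf3 zf3) (kf xf8 yf3 zf4) (kf xf8 yf2 zf44) (kf xf15 yf21 zf41) (kf xf15 yf17 zf23) (kf xf8 yf9 zf26) (kf xf8 yf9 zf25) (kf xf4 yf4 zf16) (kf xf8 yf9 zf23) (kf xf8 yf9 zf22) (kf xf15 yf17 zf31) (kf xf8 yf28 zf33) (kf xf15 yf9 zf39) (kf xf15 yf14 zf41) (kf xf15 yf9 zf36) (kf xf8 yf28 zf32) (kf xf15 yf9 zf37) (kf xf15 yf20 zf26) (kf xf5 yf38 zf54) (kf xf15 yf22 zf17) (kf xf5 yf38 zf60) (kf xf5 yf36 zf26) (kf xf4 yf4 zf21) (kf xf15 yf22 zf20) (kf xf5 yf38 zf58) (kf xf15 yf22 zf27) (kf xf4 yf50 zf39) (kf xf4 yf4 zf24) (kf xf5 yf39 zf4) (kf xf5 yf39 zf5) (kf xf5 yf39 zf6) (kf xf5 yf57 zf27)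 (kf xf13 yf43 zf37) (kf xf4 yf4 zf26) (kf xf8 yf26 zf39) (kf xf8 yf7 zf33) (kf xf8 yf27 zf43) (kf xf8 yf7 zf32) (kf xf11 yf57 zf3) (kf xf8 yf27 zf46) (kf xf8 yf27 zf45) (kf xf11 yf32 zf47) (kf xf5 yf8 zf47) (kf xf8 yf14 zf20) (kf xf8 yf27 zf50)) (@D3.rec (fun _ => Pt) (kf xf15 yf22 zf48) (kf xf5 yf35 zf18) (kf xf15 yf22 zf55) (kf xf4 yf31 zf29) (kf xf4 yf4 zf37) (kf xf8 yf27 zf36) (kf xf8 yf27 zf37) (kf xf8 yf27 zf38) (kf xf15 yf23 zf5) (kf xf15 yf23 zf8) (kf xf4 yf4 zf40) (kf xf5 yf39 zf15) (kf xf5 yf39 zf16) (kf xf4 yf50 zf55) (kf xf5 yf1 zf28) (kf xf5 yf39 zf12) (kf xf5 yf39 zf13) (kf xf5 yf39 zf18) (kf xf5 yf39 zf17) (kf xf15 yf23 zf25) (kf xf4 yf4 zf43) (kf xf8 yf40 zf35) (kf xf8 yf40 zf36) (kf xf4 yf14 zf44) (kf xf4 yf14 zf43) (kf xf4 yf4 zf47) (kf xf9 yf44 zf34)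 (kf xf8 yf43 zf42) (kf xf5 yf39 zf22) (kf xf15 yf23 zf37) (kf xf7 yf7 zf7) (kf xf4 yf4 zf54) (kf xf4 yf4 zf53) (kf xf10 yf1 zf20) (kf xf11 yf34 zf34) (kf xf5 yf54 zf24) (kf xf5 yf53 zf54) (kf xf15 yf23 zf49) (kf xf11 yf57 zf40) (kf xf4 yf4 zf55) (kf xf8 yf5 zf57) (kf xf15 yf12 zf0) (kf xf8 yf26 zf5) (kf xf8 yf26 zf4) (kf xf4 yf4 zf58) (kf xf15 yf23 zf59) (kf xf4 yf9 zf30) (kf xf4 yf21 zf11) (kf xf8 yf23 zf61) (kf xf8 yf24 zf0) (kf xf8 yf37 zf4) (kf xf8 yf37 zf5) (kf xf4 yf5 zf15) (kf xf4 yf5 zf12) (kf xf11 yf57 zf28) (kf xf4 yf5 zf21) (kf xf15 yf24 zf24) (kf xf4 yf5 zf23) (kf xf12 yf55 zf61) (kf xf8 yf52 zf51) (kf xf4 yf5 zf5) (kf xf4 yf54 zf42)) (@D3.rec (fun _ => Pt) (kf xf8 yf13 zf14) (kf xf8 yf13 zf31) (kf xf15 yf24 zf34) (kf xf4 yf15 zf52) (kf xf9 yf39 zf22) (kf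 xf15 yf24 zf38) (kf xf4 yf14 zf3) (kf xf10 yf15 zf34) (kf xf15 yf24 zf44) (kf xf10 yf0 zf43) (kf xf10 yf0 zf41) (kf xf15 yf24 zf17) (kf xf15 yf24 zf18) (kf xf15 yf24 zf56) (kf xf11 yf57 zf10) (kf xf4 yf5 zf13) (kf xf5 yf15 zf16) (kf xf5 yf15 zf18) (kf xf15 yf24 zf61) (kf xf12 yf55 zf34) (kf xf12 yf23 zf24) (kf xf15 yf25 zf5) (kf xf11 yf57 zf29) (kf xf4 yf5 zf16) (kf xf15 yf25 zf8) (kf xf4 yf7 zf51) (kf xf11 yf53 zf53) (kf xf15 yf1 zf48) (kf xf15 yf25 zf22) (kf xf15 yf24 zf23) (kf xf8 yf14 zf25) (kf xf4 yf5 zf19) (kf xf15 yf25 zf27) (kf xf15 yf24 zf20) (kf xf15 yf24 zf21) (kf xf15 yf25 zf35) (kf xf5 yf37 zf1) (kf xf15 yf1 zf45) (kf xf4 yf5 zf22) (kf xf14 yf48 zf11) (kf xf15 yf24 zf25) (kf xf15 yf25 zf42) (kf xf10 yf33 zf40) (kf xf10 yf26 zf43) (kf xf11 yf51 zf27) (kf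 xf10 yf15 zf36) (kf xf10 yf16 zf44) (kf xf4 yf27 zf19) (kf xf15 yf25 zf54) (kf xf4 yf5 zf25) (kf xf4 yf55 zf50) (kf xf4 yf55 zf51) (kf xf4 yf55 zf52) (kf xf8 yf27 zf27) (kf xf8 yf27 zf26) (kf xf4 yf5 zf28) (kf xf8 yf13 zf42) (kf xf4 yf52 zf45) (kf xf4 yf56 zf8) (kf xf4 yf55 zf60) (kf xf8 yf14 zf41) (kf xf4 yf5 zf33)) (@D3.rec (fun _ => Pt) (kf xf4 yf56 zf27) (kf xf4 yf37 zf2) (kf xf6 yf8 zf12) (kf xf6 yf8 zf11) (kf xf4 yf5 zf37) (kf xf4 yf32 zf40) (kf xf5 yf54 zf33) (kf xf12 yf9 zf31) (kf xf6 yf8 zf18) (kf xf6 yf8 zf17) (kf xf6 yf7 zf43) (kf xf6 yf7 zf36) (kf xf6 yf7 zf38) (kf xf11 yf28 zf43) (kf xf6 yf7 zf46) (kf xf4 yf5 zf58) (kf xf4 yf5 zf54) (kf xf4 yf5 zf56) (kf xf6 yf15 zf56) (kf xf9 yf44 zf43) (kf xf6 yf16 zf0) (kf xf15 yf26 zf24) (kf xf5 yf37 zf36) (kf xf4 yf5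 zf50) (kf xf15 yf26 zf28) (kf xf4 yf5 zf51) (kf xf8 yf14 zf48) (kf xf15 yf26 zf18) (kf xf12 yf10 zf58) (kf xf15 yf13 zf14) (kf xf12 yf10 zf59) (kf xf7 yf36 zf15) (kf xf12 yf48 zf57) (kf xf5 yf52 zf60) (kf xf4 yf5 zf60) (kf xf4 yf5 zf59) (kf xf5 yf55 zf6) (kf xf12 yf31 zf19) (kf xf11 yf35 zf30) (kf xf8 yf49 zf3) (kf xf11 yf35 zf31) (kf xf13 yf6 zf34) (kf xf5 yf54 zf1) (kf xf8 yf14 zf38) (kf xf15 yf27 zf0) (kf xf15 yf27 zf3) (kf xf4 yf5 zf61) (kf xf12 yf30 zf57) (kf xf15 yf26 zf44) (kf xf4 yf6 zf0) (kf xf15 yf27 zf6) (kf xf8 yf14 zf37) (kf xf10 yf18 zf13) (kf xf8 yf14 zf59) (kf xf5 yf50 zf54) (kf xf4 yf6 zf7) (kf xf8 yf15 zf0) (kf xf8 yf14 zf61) (kf xf4 yf16 zf12) (kf xf8 yf35 zf56) (kf xf8 yf35 zf57) (kf xf8 yf25 zf7)) (@D3.rec (fun _ => Pt) (kf xf8 yf25 zf8) (kf xf4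 yf6 zf22) (kf xf4 yf6 zf30) (kf xf4 yf6 zf24) (kf xf4 yf6 zf36) (kf xf15 yf27 zf34) (kf xf15 yf27 zf39) (kf xf6 yf5 zf22) (kf xf4 yf6 zf15) (kf xf7 yf57 zf48) (kf xf8 yf24 zf45) (kf xf9 yf33 zf16) (kf xf15 yf27 zf44) (kf xf4 yf15 zf3) (kf xf8 yf11 zf0) (kf xf10 yf3 zf32) (kf xf15 yf27 zf51) (kf xf11 yf52 zf39) (kf xf11 yf10 zf29) (kf xf5 yf10 zf15) (kf xf10 yf35 zf44) (kf xf10 yf15 zf42) (kf xf15 yf27 zf28) (kf xf15 yf27 zf29) (kf xf15 yf28 zf10) (kf xf9 yf42 zf43) (kf xf6 yf7 zf7) (kf xf4 yf6 zf25) (kf xf5 yf17 zf13) (kf xf5 yf17 zf15) (kf xf11 yf5 zf18) (kf xf8 yf11 zf1) (kf xf11 yf3 zf13) (kf xf15 yf27 zf26) (kf xf15 yf27 zf27) (kf xf11 yf5 zf19) (kf xf15 yf28 zf27) (kf xf4 yf15 zf5) (kf xf9 yf41 zf40) (kf xf9 yf41 zf41) (kf xf15 yf28 zf41) (kf xf15 yf27 zf33) (kf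 xf8 yf11 zf56) (kf xf4 yf6 zf34) (kf xf15 yf28 zf47) (kf xf15 yf27 zf30) (kf xf15 yf27 zf31) (kf xf15 yf28 zf57) (kf xf9 yf41 zf37) (kf xf4 yf6 zf37) (kf xf10 yf35 zf45) (kf xf10 yf35 zf46) (kf xf15 yf29 zf4) (kf xf10 yf37 zf18) (kf xf15 yf29 zf7) (kf xf15 yf29 zf12) (kf xf10 yf45 zf15) (kf xf15 yf29 zf8) (kf xf15 yf29 zf20) (kf xf4 yf6 zf40) (kf xf15 yf16 zf22) (kf xf11 yf52 zf40)) (@D3.rec (fun _ => Pt) (kf xf6 yf4 zf31) (kf xf15 yf29 zf29) (kf xf4 yf6 zf41) (kf xf7 yf58 zf41) (kf xf7 yf58 zf42) (kf xf7 yf58 zf43) (kf xf6 yf7 zf12) (kf xf6 yf7 zf13) (kf xf15 yf29 zf44) (kf xf8 yf37 zf45) (kf xf4 yf6 zf45) (kf xf6 yf6 zf57) (kf xf6 yf6 zf58) (kf xf6 yf6 zf59) (kf xf6 yf6 zf60) (kf xf11 yf5 zf34) (kf xf6 yf7 zf3) (kf xf6 yf7 zf4) (kf xf6 yf7 zf5) (kf xf10 yf48 zf34)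 (kf xf8 yf9 zf60) (kf xf15 yf30 zf1) (kf xf8 yf37 zf51) (kf xf8 yf37 zf50) (kf xf4 yf6 zf55) (kf xf8 yf11 zf30) (kf xf4 yf53 zf46) (kf xf4 yf6 zf61) (kf xf4 yf6 zf60) (kf xf11 yf54 zf4) (kf xf15 yf28 zf51) (kf xf15 yf30 zf21) (kf xf4 yf6 zf59) (kf xf15 yf30 zf11) (kf xf15 yf30 zf12) (kf xf6 yf12 zf44) (kf xf5 yf51 zf32) (kf xf8 yf12 zf51) (kf xf8 yf12 zf43) (kf xf11 yf25 zf43) (kf xf5 yf31 zf31) (kf xf8 yf11 zf60) (kf xf5 yf52 zf26) (kf xf4 yf7 zf2) (kf xf5 yf31 zf32) (kf xf7 yf59 zf60) (kf xf4 yf7 zf15) (kf xf4 yf13 zf29) (kf xf8 yf12 zf26) (kf xf6 yf17 zf13) (kf xf4 yf7 zf16) (kf xf11 yf25 zf32) (kf xf12 yf12 zf0) (kf xf5 yf7 zf50) (kf xf11 yf49 zf29) (kf xf6 yf7 zf24) (kf xf6 yf7 zf23) (kf xf10 yf4 zf60) (kf xf5 yf52 zf16) (kf xf8 yf12 zf53) (kf xf4 yf7 zf28) (kf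 xf8 yf12 zf57)) (@D3.rec (fun _ => Pt) (kf xf8 yf12 zf56) (kf xf8 yf15 zf47) (kf xf15 yf30 zf52) (kf xf5 yf0 zf60) (kf xf15 yf30 zf56) (kf xf4 yf53 zf59) (kf xf15 yf30 zf59) (kf xf7 yf32 zf44) (kf xf10 yf25 zf13) (kf xf8 yf16 zf18) (kf xf8 yf26 zf14) (kf xf8 yf15 zf56) (kf xf8 yf15 zf57) (kf xf15 yf31 zf15) (kf xf6 yf5 zf34) (kf xf6 yf5 zf33) (kf xf4 yf7 zf38) (kf xf8 yf15 zf61) (kf xf8 yf16 zf0) (kf xf15 yf31 zf27) (kf xf6 yf6 zf1) (kf xf4 yf7 zf40) (kf xf8 yf16 zf8) (kf xf8 yf16 zf9) (kf xf8 yf31 zf4) (kf xf8 yf16 zf5) (kf xf8 yf16 zf6) (kf xf15 yf31 zf39) (kf xf15 yf31 zf45) (kf xf15 yf31 zf41) (kf xf15 yf31 zf40) (kf xf15 yf31 zf49) (kf xf4 yf7 zf43) (kf xf8 yf16 zf17) (kf xf8 yf16 zf16) (kf xf8 yf15 zf53) (kf xf15 yf31 zf59) (kf xf4 yf7 zf44) (kf xf8 yf6 zf30)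 (kf xf5 yf21 zf26) (kf xf10 yf35 zf29) (kf xf4 yf8 zf9) (kf xf15 yf32 zf2) (kf xf15 yf32 zf4) (kf xf15 yf25 zf9) (kf xf15 yf24 zf53) (kf xf5 yf22 zf15) (kf xf8 yf15 zf1) (kf xf10 yf54 zf10) (kf xf4 yf8 zf11) (kf xf4 yf7 zf54) (kf xf14 yf13 zf26) (kf xf15 yf32 zf16) (kf xf8 yf15 zf35) (kf xf4 yf7 zf56) (kf xf8 yf26 zf21) (kf xf8 yf15 zf11) (kf xf8 yf15 zf12) (kf xf9 yf24 zf61) (kf xf4 yf28 zf46) (kf xf4 yf7 zf59) (kf xf8 yf15 zf17)) (@D3.rec (fun _ => Pt) (kf xf8 yf15 zf18) (kf xf15 yf32 zf34) (kf xf5 yf26 zf47) (kf xf5 yf26 zf46) (kf xf4 yf8 zf1) (kf xf8 yf15 zf25) (kf xf8 yf15 zf26) (kf xf15 yf32 zf45) (kf xf8 yf15 zf22) (kf xf8 yf15 zf23) (kf xf15 yf32 zf52) (kf xf15 yf32 zf59) (kf xf15 yf32 zf54) (kf xf15 yf32 zf53) (kf xf15 yf33 zf2) (kf xf4 yf8 zf4) (kf xf8 yf15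 zf34) (kf xf8 yf15 zf33) (kf xf8 yf15 zf9) (kf xf15 yf33 zf12) (kf xf4 yf8 zf5) (kf xf5 yf29 zf19) (kf xf4 yf8 zf59) (kf xf15 yf33 zf18) (kf xf4 yf9 zf2) (kf xf15 yf33 zf22) (kf xf4 yf8 zf38) (kf xf4 yf9 zf7) (kf xf4 yf9 zf8) (kf xf15 yf33 zf33) (kf xf4 yf8 zf47) (kf xf4 yf8 zf14) (kf xf4 yf8 zf44) (kf xf4 yf8 zf45) (kf xf15 yf33 zf43) (kf xf4 yf9 zf11) (kf xf4 yf8 zf16) (kf xf10 yf37 zf42) (kf xf4 yf9 zf32) (kf xf4 yf9 zf33) (kf xf15 yf33 zf55) (kf xf4 yf9 zf25) (kf xf4 yf8 zf19) (kf xf4 yf9 zf20) (kf xf4 yf9 zf21) (kf xf15 yf34 zf5) (kf xf4 yf9 zf37) (kf xf4 yf8 zf21) (kf xf4 yf9 zf44) (kf xf4 yf9 zf45) (kf xf15 yf34 zf15) (kf xf4 yf9 zf40) (kf xf4 yf9 zf42) (kf xf15 yf34 zf21) (kf xf15 yf34 zf27) (kf xf15 yf34 zf22) (kf xf15 yf16 zf53) (kf xf15 yf15 zf57) (kf xf4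 yf8 zf24) (kf xf4 yf9 zf53) (kf xf4 yf9 zf52) (kf xf15 yf34 zf42)) (@D3.rec (fun _ => Pt) (kf xf8 yf30 zf10) (kf xf4 yf51 zf8) (kf xf9 yf34 zf51) (kf xf4 yf51 zf61) (kf xf15 yf34 zf52) (kf xf8 yf33 zf18) (kf xf9 yf34 zf13) (kf xf4 yf8 zf30) (kf xf10 yf23 zf39) (kf xf4 yf54 zf43) (kf xf15 yf34 zf57) (kf xf10 yf24 zf12) (kf xf15 yf1 zf49) (kf xf15 yf35 zf1) (kf xf15 yf33 zf21) (kf xf5 yf35 zf57) (kf xf4 yf8 zf35) (kf xf15 yf33 zf23) (kf xf8 yf19 zf27) (kf xf15 yf35 zf12) (kf xf8 yf33 zf25) (kf xf8 yf33 zf24) (kf xf4 yf8 zf39) (kf xf8 yf33 zf22) (kf xf8 yf19 zf28) (kf xf8 yf31 zf6) (kf xf10 yf50 zf21) (kf xf8 yf18 zf45) (kf xf15 yf35 zf22) (kf xf10 yf50 zf25) (kf xf8 yf18 zf46) (kf xf8 yf31 zf2) (kf xf15 yf33 zf36) (kf xf15 yf33 zf37) (kf xf15 yf33 zf38) (kf xf15 yf33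 zf39) (kf xf15 yf35 zf45) (kf xf10 yf24 zf1) (kf xf10 yf50 zf19) (kf xf15 yf35 zf53) (kf xf15 yf33 zf31) (kf xf15 yf33 zf30) (kf xf15 yf36 zf0) (kf xf4 yf8 zf46) (kf xf15 yf33 zf34) (kf xf5 yf17 zf36) (kf xf8 yf33 zf34) (kf xf8 yf30 zf40) (kf xf5 yf15 zf58) (kf xf15 yf36 zf14) (kf xf4 yf8 zf49) (kf xf4 yf13 zf47) (kf xf5 yf15 zf46) (kf xf5 yf15 zf47) (kf xf8 yf21 zf11) (kf xf4 yf21 zf6) (kf xf15 yf36 zf24) (kf xf4 yf54 zf44) (kf xf15 yf36 zf27) (kf xf8 yf30 zf51) (kf xf15 yf36 zf29) (kf xf15 yf33 zf15)) (@D3.rec (fun _ => Pt) (kf xf15 yf24 zf9) (kf xf15 yf36 zf38) (kf xf8 yf30 zf47) (kf xf8 yf34 zf5) (kf xf4 yf8 zf60) (kf xf4 yf54 zf50) (kf xf15 yf23 zf9) (kf xf15 yf33 zf19) (kf xf15 yf36 zf48) (kf xf9 yf37 zf44) (kf xf10 yf51 zf37) (kf xf15 yf36 zf53) (kf xf4 yf9 zf3)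 (kf xf4 yf15 zf42) (kf xf15 yf33 zf24) (kf xf15 yf33 zf25) (kf xf15 yf33 zf26) (kf xf15 yf33 zf27) (kf xf15 yf37 zf10) (kf xf15 yf37 zf13) (kf xf8 yf30 zf25) (kf xf10 yf50 zf36) (kf xf15 yf37 zf22) (kf xf4 yf9 zf9) (kf xf8 yf30 zf19) (kf xf15 yf33 zf44) (kf xf5 yf27 zf41) (kf xf5 yf27 zf40) (kf xf15 yf37 zf33) (kf xf4 yf9 zf12) (kf xf5 yf27 zf45) (kf xf5 yf27 zf46) (kf xf4 yf51 zf52) (kf xf4 yf51 zf53) (kf xf15 yf18 zf56) (kf xf8 yf34 zf36) (kf xf14 yf56 zf57) (kf xf10 yf24 zf0) (kf xf8 yf31 zf10) (kf xf10 yf50 zf18) (kf xf15 yf33 zf58) (kf xf15 yf33 zf59) (kf xf15 yf33 zf60) (kf xf15 yf33 zf61) (kf xf15 yf38 zf6) (kf xf8 yf17 zf27) (kf xf8 yf17 zf30) (kf xf15 yf38 zf12) (kf xf15 yf33 zf53) (kf xf15 yf33 zf52) (kf xf15 yf38 zf21) (kf xf4 yf9 zf22) (kf xf4 yf55 zf4)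 (kf xf15 yf33 zf56) (kf xf10 yf50 zf2) (kf xf8 yf34 zf46) (kf xf8 yf31 zf47) (kf xf5 yf30 zf10) (kf xf15 yf38 zf29) (kf xf15 yf23 zf61) (kf xf15 yf24 zf0) (kf xf15 yf38 zf37)) (@D3.rec (fun _ => Pt) (kf xf14 yf57 zf32) (kf xf8 yf35 zf7) (kf xf15 yf38 zf41) (kf xf4 yf9 zf31) (kf xf15 yf33 zf46) (kf xf15 yf33 zf47) (kf xf15 yf33 zf48) (kf xf15 yf33 zf49) (kf xf15 yf38 zf54) (kf xf15 yf38 zf57) (kf xf15 yf34 zf3) (kf xf15 yf34 zf2) (kf xf13 yf46 zf20) (kf xf4 yf9 zf34) (kf xf8 yf35 zf16) (kf xf8 yf31 zf28) (kf xf15 yf34 zf6) (kf xf5 yf15 zf28) (kf xf15 yf39 zf12) (kf xf4 yf9 zf38) (kf xf15 yf34 zf16) (kf xf15 yf34 zf17) (kf xf15 yf34 zf18) (kf xf11 yf52 zf1) (kf xf13 yf34 zf11) (kf xf15 yf39 zf33) (kf xf15 yf39 zf35) (kf xf8 yf17 zf18) (kf xf8 yf17 zf24) (kf xf15 yf39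 zf41) (kf xf15 yf39 zf45) (kf xf4 yf9 zf43) (kf xf15 yf34 zf8) (kf xf15 yf34 zf9) (kf xf15 yf34 zf10) (kf xf15 yf34 zf11) (kf xf15 yf40 zf0) (kf xf15 yf40 zf4) (kf xf15 yf40 zf8) (kf xf4 yf9 zf46) (kf xf4 yf9 zf49) (kf xf4 yf9 zf48) (kf xf12 yf59 zf36) (kf xf12 yf59 zf39) (kf xf4 yf47 zf61) (kf xf15 yf40 zf10) (kf xf15 yf40 zf11) (kf xf15 yf40 zf9) (kf xf15 yf32 zf25) (kf xf15 yf40 zf28) (kf xf15 yf40 zf39) (kf xf6 yf47 zf8) (kf xf4 yf9 zf50) (kf xf8 yf23 zf42) (kf xf15 yf34 zf39) (kf xf15 yf40 zf49) (kf xf15 yf34 zf37) (kf xf15 yf40 zf55) (kf xf10 yf23 zf32) (kf xf15 yf37 zf11) (kf xf15 yf34 zf41) (kf xf8 yf55 zf60)) (@D3.rec (fun _ => Pt) (kf xf4 yf9 zf55) (kf xf15 yf41 zf4) (kf xf8 yf32 zf30) (kf xf8 yf32 zf31) (kf xf8 yf32 zf32) (kf xf8 yf32 zf33) (kf xf8 yf32 zf34)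 (kf xf11 yf55 zf32) (kf xf8 yf32 zf36) (kf xf8 yf32 zf37) (kf xf8 yf32 zf38) (kf xf15 yf39 zf5) (kf xf5 yf21 zf13) (kf xf8 yf32 zf43) (kf xf8 yf32 zf44) (kf xf8 yf33 zf38) (kf xf8 yf33 zf39) (kf xf15 yf41 zf43) (kf xf4 yf10 zf21) (kf xf4 yf10 zf20) (kf xf4 yf10 zf1) (kf xf5 yf21 zf18) (kf xf8 yf39 zf29) (kf xf7 yf57 zf57) (kf xf15 yf41 zf52) (kf xf8 yf7 zf49) (kf xf15 yf41 zf58) (kf xf8 yf53 zf19) (kf xf15 yf41 zf61) (kf xf4 yf10 zf7) (kf xf8 yf33 zf43) (kf xf8 yf33 zf44) (kf xf15 yf42 zf8) (kf xf8 yf33 zf49) (kf xf4 yf10 zf12) (kf xf8 yf33 zf46) (kf xf8 yf33 zf47) (kf xf15 yf42 zf20) (kf xf4 yf10 zf40) (kf xf4 yf10 zf14) (kf xf8 yf33 zf51) (kf xf8 yf22 zf7) (kf xf15 yf42 zf28) (kf xf8 yf33 zf53) (kf xf8 yf22 zf8) (kf xf12 yf42 zf4) (kf xf8 yf33 zf55) (kf xf8 yf33 zf56)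 (kf xf8 yf33 zf57) (kf xf8 yf33 zf58) (kf xf6 yf22 zf35) (kf xf8 yf33 zf60) (kf xf8 yf33 zf61) (kf xf15 yf42 zf49) (kf xf15 yf41 zf41) (kf xf15 yf41 zf40) (kf xf15 yf42 zf60) (kf xf4 yf10 zf19) (kf xf15 yf33 zf17) (kf xf15 yf41 zf45) (kf xf15 yf41 zf44) (kf xf8 yf33 zf21)) (@D3.rec (fun _ => Pt) (kf xf4 yf18 zf25) (kf xf4 yf18 zf29) (kf xf8 yf33 zf26) (kf xf8 yf34 zf11) (kf xf8 yf24 zf52) (kf xf8 yf24 zf46) (kf xf6 yf32 zf15) (kf xf8 yf34 zf7) (kf xf8 yf34 zf9) (kf xf8 yf25 zf5) (kf xf8 yf30 zf39) (kf xf8 yf17 zf54) (kf xf6 yf4 zf21) (kf xf6 yf4 zf22) (kf xf8 yf33 zf37) (kf xf8 yf32 zf45) (kf xf8 yf25 zf35) (kf xf12 yf42 zf5) (kf xf8 yf33 zf1) (kf xf8 yf22 zf43) (kf xf8 yf34 zf2) (kf xf8 yf33 zf3) (kf xf8 yf22 zf44) (kf xf15 yf43 zf38) (kf xf8 yf33 zf5) (kf xf8 yf33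 zf6) (kf xf8 yf33 zf7) (kf xf8 yf33 zf8) (kf xf8 yf33 zf9) (kf xf8 yf33 zf10) (kf xf8 yf25 zf11) (kf xf15 yf43 zf50) (kf xf8 yf33 zf52) (kf xf12 yf42 zf6) (kf xf8 yf30 zf52) (kf xf8 yf33 zf45) (kf xf5 yf22 zf49) (kf xf5 yf22 zf48) (kf xf15 yf44 zf6) (kf xf4 yf10 zf50) (kf xf5 yf22 zf51) (kf xf8 yf33 zf30) (kf xf8 yf33 zf31) (kf xf8 yf33 zf32) (kf xf8 yf24 zf61) (kf xf8 yf33 zf28) (kf xf5 yf28 zf36) (kf xf5 yf28 zf33) (kf xf5 yf28 zf32) (kf xf15 yf44 zf21) (kf xf10 yf45 zf0) (kf xf4 yf10 zf60) (kf xf5 yf28 zf39) (kf xf5 yf28 zf40) (kf xf5 yf28 zf41) (kf xf8 yf34 zf51) (kf xf8 yf34 zf52) (kf xf15 yf44 zf35) (kf xf4 yf11 zf9) (kf xf4 yf11 zf8) (kf xf4 yf11 zf2) (kf xf8 yf34 zf56)) (@D3.rec (fun _ => Pt) (kf xf8 yf34 zf19) (kf xf8 yf34 zf57) (kf xf8 yf34 zf59) (kf xf8 yf34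 zf60) (kf xf8 yf34 zf61) (kf xf8 yf35 zf0) (kf xf6 yf35 zf25) (kf xf8 yf20 zf41) (kf xf8 yf20 zf44) (kf xf15 yf44 zf61) (kf xf15 yf44 zf33) (kf xf15 yf44 zf32) (kf xf15 yf45 zf11) (kf xf4 yf11 zf7) (kf xf15 yf33 zf45) (kf xf15 yf44 zf37) (kf xf10 yf32 zf31) (kf xf4 yf11 zf31) (kf xf15 yf44 zf36) (kf xf15 yf44 zf1) (kf xf5 yf23 zf50) (kf xf8 yf35 zf11) (kf xf8 yf34 zf41) (kf xf8 yf35 zf12) (kf xf8 yf35 zf13) (kf xf6 yf20 zf29) (kf xf8 yf31 zf26) (kf xf8 yf31 zf27) (kf xf8 yf34 zf50) (kf xf5 yf30 zf47) (kf xf5 yf30 zf48) (kf xf8 yf34 zf12) (kf xf8 yf34 zf13) (kf xf15 yf45 zf40) (kf xf4 yf11 zf32) (kf xf4 yf11 zf25) (kf xf8 yf34 zf18) (kf xf8 yf34 zf20) (kf xf8 yf34 zf58) (kf xf8 yf34 zf21) (kf xf8 yf34 zf22) (kf xf8 yf34 zf23) (kf xf8 yf34 zf24) (kf xf8 yf21 zf19) (kf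 xf8 yf21 zf22) (kf xf8 yf34 zf26) (kf xf15 yf46 zf0) (kf xf15 yf45 zf3) (kf xf15 yf45 zf38) (kf xf15 yf46 zf7) (kf xf4 yf11 zf30) (kf xf15 yf45 zf16) (kf xf15 yf43 zf60) (kf xf14 yf56 zf58) (kf xf15 yf45 zf41) (kf xf8 yf34 zf40) (kf xf8 yf34 zf43) (kf xf8 yf35 zf14) (kf xf8 yf31 zf46) (kf xf8 yf35 zf23) (kf xf8 yf35 zf24) (kf xf8 yf35 zf19)) (@D3.rec (fun _ => Pt) (kf xf8 yf35 zf25) (kf xf8 yf35 zf26) (kf xf8 yf35 zf28) (kf xf8 yf35 zf29) (kf xf8 yf35 zf30) (kf xf8 yf35 zf31) (kf xf8 yf23 zf34) (kf xf4 yf11 zf53) (kf xf4 yf11 zf54) (kf xf4 yf11 zf55) (kf xf6 yf59 zf2) (kf xf12 yf18 zf61) (kf xf6 yf27 zf32) (kf xf4 yf53 zf10) (kf xf6 yf50 zf59) (kf xf15 yf46 zf26) (kf xf15 yf38 zf44) (kf xf15 yf46 zf39) (kf xf15 yf46 zf44) (kf xf12 yf11 zf38) (kf xf4 yf11 zf49) (kf xf5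 yf30 zf59) (kf xf15 yf46 zf50) (kf xf6 yf50 zf0) (kf xf4 yf11 zf50) (kf xf12 yf15 zf53) (kf xf4 yf11 zf51) (kf xf13 yf37 zf56) (kf xf15 yf46 zf25) (kf xf15 yf37 zf51) (kf xf15 yf46 zf27) (kf xf6 yf33 zf3) (kf xf15 yf46 zf28) (kf xf4 yf16 zf31) (kf xf8 yf23 zf6) (kf xf4 yf18 zf24) (kf xf4 yf18 zf27) (kf xf4 yf18 zf28) (kf xf12 yf11 zf5) (kf xf4 yf16 zf29) (kf xf4 yf16 zf30) (kf xf4 yf16 zf32) (kf xf8 yf19 zf53) (kf xf8 yf23 zf45) (kf xf8 yf23 zf46) (kf xf8 yf23 zf43) (kf xf8 yf23 zf44) (kf xf6 yf20 zf58) (kf xf8 yf35 zf49) (kf xf8 yf35 zf50) (kf xf11 yf55 zf51) (kf xf8 yf35 zf52) (kf xf8 yf23 zf54) (kf xf11 yf55 zf52) (kf xf8 yf23 zf52) (kf xf4 yf13 zf50) (kf xf4 yf13 zf45) (kf xf8 yf37 zf55) (kf xf15 yf47 zf33) (kf xf8 yf35 zf54) (kf xf15 yf27 zf45) (kf xf8 yf10 zf48))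 (@D3.rec (fun _ => Pt) (kf xf8 yf10 zf49) (kf xf8 yf35 zf58) (kf xf8 yf35 zf59) (kf xf8 yf37 zf7) (kf xf8 yf37 zf8) (kf xf4 yf43 zf42) (kf xf4 yf12 zf30) (kf xf4 yf12 zf29) (kf xf4 yf12 zf15) (kf xf15 yf47 zf55) (kf xf8 yf37 zf11) (kf xf8 yf37 zf12) (kf xf15 yf48 zf3) (kf xf8 yf37 zf18) (kf xf5 yf39 zf48) (kf xf4 yf12 zf20) (kf xf4 yf15 zf41) (kf xf5 yf29 zf40) (kf xf8 yf37 zf15) (kf xf8 yf37 zf16) (kf xf15 yf48 zf13) (kf xf4 yf12 zf59) (kf xf4 yf12 zf23) (kf xf8 yf37 zf20) (kf xf8 yf37 zf21) (kf xf15 yf48 zf21) (kf xf8 yf37 zf23) (kf xf8 yf37 zf24) (kf xf15 yf43 zf56) (kf xf6 yf23 zf42) (kf xf6 yf23 zf41) (kf xf8 yf37 zf26) (kf xf4 yf21 zf15) (kf xf4 yf28 zf37) (kf xf4 yf27 zf53) (kf xf15 yf48 zf38) (kf xf4 yf43 zf40) (kf xf4 yf43 zf41) (kf xf14 yf58 zf12) (kf xf15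 yf47 zf52) (kf xf5 yf2 zf14) (kf xf9 yf34 zf7) (kf xf12 yf59 zf20) (kf xf5 yf2 zf15) (kf xf8 yf36 zf32) (kf xf8 yf13 zf10) (kf xf8 yf21 zf5) (kf xf8 yf36 zf34) (kf xf15 yf48 zf61) (kf xf9 yf34 zf19) (kf xf9 yf34 zf18) (kf xf4 yf12 zf36) (kf xf8 yf21 zf4) (kf xf12 yf12 zf1) (kf xf5 yf30 zf55) (kf xf5 yf30 zf53) (kf xf4 yf12 zf38) (kf xf5 yf39 zf51) (kf xf5 yf39 zf21) (kf xf8 yf37 zf39) (kf xf6 yf42 zf33) (kf xf8 yf21 zf44)) (@D3.rec (fun _ => Pt) (kf xf6 yf28 zf5) (kf xf6 yf21 zf60) (kf xf8 yf36 zf40) (kf xf8 yf36 zf37) (kf xf8 yf36 zf41) (kf xf8 yf21 zf9) (kf xf5 yf27 zf25) (kf xf8 yf12 zf61) (kf xf8 yf13 zf0) (kf xf8 yf37 zf6) (kf xf8 yf35 zf60) (kf xf8 yf21 zf30) (kf xf15 yf48 zf14) (kf xf8 yf37 zf30) (kf xf4 yf15 zf54) (kf xf8 yf36 zf4) (kf xf8 yf36 zf5) (kf xf8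 yf37 zf31) (kf xf15 yf49 zf28) (kf xf8 yf36 zf9) (kf xf8 yf36 zf10) (kf xf15 yf49 zf33) (kf xf8 yf36 zf7) (kf xf4 yf13 zf5) (kf xf8 yf36 zf14) (kf xf8 yf36 zf15) (kf xf8 yf37 zf28) (kf xf5 yf44 zf16) (kf xf5 yf44 zf15) (kf xf15 yf49 zf44) (kf xf8 yf36 zf18) (kf xf6 yf27 zf16) (kf xf6 yf26 zf25) (kf xf8 yf36 zf19) (kf xf8 yf36 zf20) (kf xf8 yf21 zf16) (kf xf15 yf49 zf51) (kf xf8 yf37 zf22) (kf xf9 yf58 zf47) (kf xf4 yf13 zf10) (kf xf8 yf37 zf10) (kf xf8 yf37 zf13) (kf xf7 yf48 zf52) (kf xf6 yf27 zf6) (kf xf6 yf27 zf8) (kf xf8 yf36 zf35) (kf xf5 yf24 zf7) (kf xf5 yf23 zf4) (kf xf8 yf28 zf28) (kf xf8 yf28 zf29) (kf xf8 yf28 zf27) (kf xf7 yf0 zf45) (kf xf4 yf13 zf30) (kf xf8 yf5 zf5) (kf xf15 yf50 zf9) (kf xf4 yf13 zf28) (kf xf15 yf30 zf41) (kf xf11 yf6 zf11) (kf xf11 yf34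 zf39) (kf xf15 yf50 zf12) (kf xf15 yf50 zf11) (kf xf15 yf50 zf23)) (@D3.rec (fun _ => Pt) (kf xf15 yf50 zf26) (kf xf4 yf13 zf31) (kf xf8 yf5 zf35) (kf xf15 yf50 zf32) (kf xf8 yf10 zf43) (kf xf8 yf10 zf42) (kf xf4 yf13 zf34) (kf xf15 yf50 zf37) (kf xf4 yf13 zf55) (kf xf8 yf26 zf16) (kf xf15 yf50 zf43) (kf xf15 yf50 zf45) (kf xf10 yf20 zf48) (kf xf10 yf20 zf12) (kf xf8 yf15 zf10) (kf xf4 yf13 zf42) (kf xf8 yf26 zf9) (kf xf15 yf50 zf54) (kf xf15 yf50 zf56) (kf xf15 yf36 zf15) (kf xf15 yf36 zf16) (kf xf8 yf15 zf55) (kf xf15 yf50 zf61) (kf xf15 yf51 zf1) (kf xf5 yf31 zf4) (kf xf4 yf16 zf35) (kf xf10 yf19 zf56) (kf xf10 yf50 zf37) (kf xf15 yf51 zf11) (kf xf11 yf55 zf54) (kf xf11 yf55 zf6) (kf xf4 yf14 zf18) (kf xf5 yf30 zf18) (kf xf15 yf51 zf20) (kf xf15 yf51 zf22) (kf xf9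 yf41 zf44) (kf xf9 yf41 zf45) (kf xf6 yf56 zf19) (kf xf15 yf35 zf3) (kf xf8 yf9 zf51) (kf xf4 yf14 zf0) (kf xf15 yf51 zf27) (kf xf4 yf51 zf1) (kf xf10 yf50 zf22) (kf xf10 yf46 zf15) (kf xf10 yf19 zf26) (kf xf9 yf21 zf14) (kf xf9 yf41 zf47) (kf xf4 yf14 zf7) (kf xf9 yf42 zf24) (kf xf9 yf42 zf25) (kf xf10 yf54 zf14) (kf xf15 yf51 zf0) (kf xf9 yf43 zf29) (kf xf15 yf30 zf55) (kf xf4 yf14 zf10) (kf xf15 yf51 zf44) (kf xf8 yf54 zf52) (kf xf10 yf19 zf20) (kf xf15 yf51 zf51) (kf xf9 yf42 zf28) (kf xf9 yf42 zf27)) (@D3.rec (fun _ => Pt) (kf xf15 yf51 zf57) (kf xf4 yf14 zf13) (kf xf5 yf30 zf60) (kf xf5 yf30 zf61) (kf xf15 yf52 zf3) (kf xf15 yf52 zf10) (kf xf15 yf52 zf5) (kf xf15 yf52 zf4) (kf xf15 yf52 zf19) (kf xf4 yf14 zf15) (kf xf5 yf27 zf31) (kf xf4 yf15 zf34) (kf xf15 yf52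 zf25) (kf xf4 yf14 zf16) (kf xf11 yf55 zf55) (kf xf9 yf43 zf26) (kf xf15 yf51 zf7) (kf xf9 yf33 zf23) (kf xf8 yf7 zf9) (kf xf15 yf52 zf40) (kf xf6 yf7 zf1) (kf xf6 yf7 zf0) (kf xf4 yf14 zf20) (kf xf8 yf7 zf1) (kf xf8 yf7 zf2) (kf xf15 yf52 zf51) (kf xf8 yf11 zf54) (kf xf8 yf11 zf53) (kf xf4 yf14 zf22) (kf xf15 yf52 zf59) (kf xf15 yf52 zf54) (kf xf15 yf52 zf53) (kf xf15 yf17 zf26) (kf xf4 yf14 zf23) (kf xf15 yf53 zf8) (kf xf4 yf14 zf52) (kf xf8 yf10 zf5) (kf xf8 yf10 zf6) (kf xf8 yf10 zf7) (kf xf8 yf7 zf38) (kf xf8 yf7 zf36) (kf xf15 yf53 zf24) (kf xf4 yf14 zf28) (kf xf8 yf9 zf53) (kf xf15 yf52 zf41) (kf xf8 yf9 zf57) (kf xf8 yf9 zf56) (kf xf7 yf52 zf20) (kf xf4 yf14 zf31) (kf xf8 yf37 zf48) (kf xf8 yf9 zf61) (kf xf8 yf9 zf1) (kf xf9 yf43 zf41) (kf xf15 yf53 zf38) (kf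 xf7 yf58 zf47) (kf xf7 yf58 zf46) (kf xf4 yf14 zf35) (kf xf8 yf8 zf60) (kf xf8 yf8 zf61) (kf xf8 yf9 zf0) (kf xf15 yf53 zf53) (kf xf8 yf8 zf27)) (@D3.rec (fun _ => Pt) (kf xf8 yf8 zf25) (kf xf15 yf54 zf0) (kf xf4 yf14 zf37) (kf xf8 yf44 zf44) (kf xf8 yf44 zf43) (kf xf9 yf43 zf31) (kf xf11 yf4 zf23) (kf xf5 yf0 zf48) (kf xf15 yf54 zf4) (kf xf4 yf14 zf40) (kf xf8 yf8 zf52) (kf xf8 yf8 zf48) (kf xf15 yf54 zf13) (kf xf4 yf14 zf42) (kf xf11 yf9 zf34) (kf xf10 yf41 zf2) (kf xf4 yf14 zf48) (kf xf4 yf14 zf47) (kf xf15 yf15 zf46) (kf xf15 yf54 zf24) (kf xf15 yf22 zf21) (kf xf15 yf54 zf29) (kf xf4 yf14 zf46) (kf xf15 yf54 zf15) (kf xf15 yf54 zf16) (kf xf15 yf22 zf22) (kf xf15 yf54 zf42) (kf xf8 yf25 zf50) (kf xf8 yf25 zf48) (kf xf8 yf25 zf49) (kf xf15 yf54 zf51) (kf xf15 yf53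 zf5) (kf xf8 yf9 zf32) (kf xf8 yf9 zf28) (kf xf4 yf14 zf51) (kf xf15 yf53 zf9) (kf xf11 yf8 zf37) (kf xf10 yf8 zf33) (kf xf9 yf44 zf29) (kf xf9 yf38 zf57) (kf xf8 yf29 zf11) (kf xf8 yf29 zf12) (kf xf15 yf55 zf11) (kf xf5 yf25 zf59) (kf xf5 yf25 zf58) (kf xf4 yf14 zf56) (kf xf8 yf29 zf14) (kf xf8 yf29 zf15) (kf xf15 yf55 zf23) (kf xf5 yf26 zf28) (kf xf5 yf26 zf27) (kf xf4 yf14 zf58) (kf xf8 yf29 zf22) (kf xf8 yf29 zf23) (kf xf15 yf55 zf34) (kf xf8 yf29 zf19) (kf xf8 yf29 zf20) (kf xf15 yf55 zf42) (kf xf15 yf55 zf49) (kf xf15 yf55 zf44) (kf xf15 yf55 zf43) (kf xf15 yf55 zf56)) (@D3.rec (fun _ => Pt) (kf xf4 yf14 zf61) (kf xf8 yf29 zf31) (kf xf8 yf29 zf30) (kf xf5 yf15 zf8) (kf xf4 yf15 zf0) (kf xf5 yf27 zf28) (kf xf5 yf27 zf29) (kf xf15 yf36 zf39) (kf xf15 yf28 zf28)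 (kf xf15 yf28 zf5) (kf xf8 yf7 zf45) (kf xf8 yf28 zf40) (kf xf8 yf28 zf41) (kf xf10 yf46 zf45) (kf xf8 yf28 zf46) (kf xf8 yf28 zf47) (kf xf14 yf23 zf17) (kf xf6 yf6 zf22) (kf xf4 yf15 zf12) (kf xf8 yf28 zf55) (kf xf8 yf28 zf56) (kf xf15 yf56 zf26) (kf xf8 yf28 zf52) (kf xf8 yf28 zf53) (kf xf13 yf45 zf55) (kf xf15 yf56 zf35) (kf xf15 yf56 zf30) (kf xf15 yf56 zf29) (kf xf10 yf21 zf56) (kf xf4 yf15 zf15) (kf xf8 yf29 zf2) (kf xf8 yf29 zf1) (kf xf4 yf46 zf56) (kf xf8 yf56 zf25) (kf xf15 yf56 zf47) (kf xf4 yf15 zf37) (kf xf4 yf15 zf59) (kf xf4 yf15 zf60) (kf xf15 yf56 zf56) (kf xf4 yf15 zf46) (kf xf4 yf15 zf23) (kf xf4 yf15 zf43) (kf xf4 yf15 zf44) (kf xf15 yf32 zf44) (kf xf4 yf16 zf1) (kf xf4 yf15 zf25) (kf xf15 yf57 zf6) (kf xf4 yf16 zf4) (kf xf4 yf16 zf14) (kf xf4 yf16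 zf15) (kf xf15 yf57 zf16) (kf xf4 yf16 zf8) (kf xf4 yf15 zf28) (kf xf4 yf16 zf5) (kf xf4 yf16 zf6) (kf xf15 yf57 zf27) (kf xf4 yf16 zf18) (kf xf4 yf15 zf30) (kf xf4 yf16 zf25) (kf xf4 yf16 zf27) (kf xf9 yf24 zf26) (kf xf4 yf16 zf21)) (@D3.rec (fun _ => Pt) (kf xf4 yf16 zf23) (kf xf15 yf57 zf41) (kf xf15 yf57 zf47) (kf xf15 yf57 zf42) (kf xf15 yf46 zf60) (kf xf15 yf52 zf21) (kf xf4 yf15 zf33) (kf xf4 yf16 zf34) (kf xf4 yf16 zf33) (kf xf15 yf58 zf1) (kf xf8 yf17 zf0) (kf xf15 yf56 zf48) (kf xf8 yf31 zf59) (kf xf15 yf58 zf9) (kf xf5 yf30 zf15) (kf xf5 yf30 zf14) (kf xf4 yf15 zf38) (kf xf5 yf30 zf19) (kf xf5 yf30 zf20) (kf xf8 yf18 zf24) (kf xf15 yf48 zf8) (kf xf8 yf31 zf17) (kf xf15 yf58 zf23) (kf xf15 yf36 zf54) (kf xf8 yf31 zf18) (kf xf8 yf18 zf20) (kf xf15 yf56 zf58)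 (kf xf15 yf56 zf59) (kf xf15 yf56 zf60) (kf xf15 yf56 zf61) (kf xf15 yf58 zf47) (kf xf10 yf19 zf11) (kf xf10 yf19 zf16) (kf xf12 yf34 zf5) (kf xf15 yf48 zf48) (kf xf15 yf56 zf55) (kf xf15 yf32 zf43) (kf xf4 yf15 zf45) (kf xf15 yf56 zf57) (kf xf8 yf21 zf10) (kf xf8 yf17 zf47) (kf xf5 yf17 zf61) (kf xf13 yf5 zf1) (kf xf4 yf15 zf48) (kf xf5 yf17 zf50) (kf xf5 yf17 zf51) (kf xf15 yf49 zf18) (kf xf8 yf18 zf2) (kf xf15 yf49 zf19) (kf xf15 yf27 zf20) (kf xf15 yf48 zf11) (kf xf8 yf17 zf59) (kf xf8 yf21 zf34) (kf xf4 yf15 zf55) (kf xf5 yf27 zf30) (kf xf7 yf38 zf5) (kf xf4 yf29 zf13) (kf xf4 yf15 zf58) (kf xf15 yf56 zf49) (kf xf15 yf56 zf50) (kf xf15 yf56 zf51) (kf xf15 yf56 zf52)) (@D3.rec (fun _ => Pt) (kf xf15 yf59 zf25) (kf xf15 yf32 zf51) (kf xf8 yf17 zf31) (kf xf15 yf57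 zf2) (kf xf8 yf15 zf24) (kf xf4 yf15 zf61) (kf xf8 yf17 zf25) (kf xf4 yf17 zf0) (kf xf15 yf57 zf3) (kf xf10 yf19 zf10) (kf xf8 yf18 zf38) (kf xf15 yf57 zf7) (kf xf15 yf57 zf18) (kf xf15 yf57 zf19) (kf xf15 yf57 zf20) (kf xf15 yf57 zf21) (kf xf15 yf59 zf54) (kf xf8 yf30 zf21) (kf xf8 yf30 zf24) (kf xf15 yf47 zf2) (kf xf15 yf57 zf15) (kf xf15 yf57 zf14) (kf xf9 yf28 zf17) (kf xf4 yf16 zf7) (kf xf15 yf57 zf17) (kf xf15 yf56 zf4) (kf xf8 yf22 zf26) (kf xf8 yf22 zf27) (kf xf8 yf19 zf15) (kf xf8 yf56 zf41) (kf xf15 yf27 zf14) (kf xf15 yf27 zf15) (kf xf16 yf0 zf14) (kf xf6 yf23 zf28) (kf xf6 yf23 zf33) (kf xf4 yf16 zf13) (kf xf15 yf57 zf9) (kf xf15 yf57 zf10) (kf xf15 yf57 zf11) (kf xf15 yf57 zf12) (kf xf9 yf28 zf20) (kf xf16 yf0 zf28) (kf xf15 yf57 zf25) (kf xf15 yf57 zf24)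 (kf xf16 yf0 zf36) (kf xf4 yf16 zf16) (kf xf8 yf22 zf58) (kf xf8 yf18 zf56) (kf xf15 yf57 zf28) (kf xf16 yf0 zf45) (kf xf4 yf16 zf19) (kf xf15 yf57 zf34) (kf xf15 yf57 zf35) (kf xf15 yf57 zf36) (kf xf10 yf32 zf35) (kf xf15 yf57 zf37) (kf xf16 yf1 zf5) (kf xf4 yf51 zf39) (kf xf16 yf1 zf8) (kf xf8 yf30 zf12) (kf xf15 yf47 zf6) (kf xf9 yf22 zf53)) (@D3.rec (fun _ => Pt) (kf xf4 yf16 zf24) (kf xf15 yf57 zf29) (kf xf15 yf57 zf30) (kf xf15 yf57 zf31) (kf xf4 yf51 zf33) (kf xf15 yf57 zf32) (kf xf16 yf1 zf32) (kf xf16 yf1 zf35) (kf xf16 yf1 zf38) (kf xf16 yf1 zf39) (kf xf4 yf16 zf28) (kf xf15 yf47 zf5) (kf xf4 yf47 zf38) (kf xf15 yf47 zf7) (kf xf15 yf47 zf8) (kf xf15 yf46 zf61) (kf xf15 yf47 zf9) (kf xf15 yf47 zf10) (kf xf15 yf47 zf11) (kf xf12 yf57 zf18) (kf xf15 yf57 zf59)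 (kf xf12 yf34 zf1) (kf xf15 yf57 zf57) (kf xf10 yf44 zf41) (kf xf15 yf51 zf5) (kf xf16 yf2 zf7) (kf xf15 yf58 zf0) (kf xf15 yf57 zf61) (kf xf4 yf16 zf36) (kf xf16 yf2 zf15) (kf xf8 yf20 zf2) (kf xf8 yf20 zf3) (kf xf8 yf20 zf4) (kf xf8 yf20 zf5) (kf xf8 yf20 zf6) (kf xf10 yf44 zf8) (kf xf8 yf20 zf8) (kf xf8 yf20 zf9) (kf xf8 yf20 zf10) (kf xf10 yf56 zf52) (kf xf4 yf21 zf17) (kf xf6 yf4 zf18) (kf xf6 yf4 zf19) (kf xf8 yf20 zf13) (kf xf8 yf20 zf14) (kf xf8 yf21 zf15) (kf xf12 yf1 zf3) (kf xf4 yf16 zf57) (kf xf4 yf16 zf56) (kf xf4 yf16 zf45) (kf xf5 yf23 zf57) (kf xf7 yf23 zf23) (kf xf7 yf23 zf21) (kf xf16 yf2 zf53) (kf xf5 yf23 zf54) (kf xf5 yf23 zf53) (kf xf4 yf16 zf47) (kf xf4 yf51 zf10) (kf xf5 yf23 zf59) (kf xf5 yf23 zf60) (kf xf16 yf3 zf0) (kf xf4 yf17 zf15)) (@D3.rec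 (fun _ => Pt) (kf xf4 yf16 zf50) (kf xf8 yf21 zf18) (kf xf16 yf3 zf4) (kf xf8 yf21 zf21) (kf xf15 yf49 zf53) (kf xf8 yf21 zf24) (kf xf8 yf21 zf25) (kf xf8 yf21 zf26) (kf xf8 yf21 zf27) (kf xf8 yf21 zf28) (kf xf8 yf21 zf29) (kf xf16 yf3 zf21) (kf xf12 yf1 zf1) (kf xf12 yf1 zf2) (kf xf12 yf1 zf4) (kf xf15 yf56 zf46) (kf xf16 yf2 zf46) (kf xf5 yf5 zf27) (kf xf8 yf17 zf5) (kf xf16 yf2 zf45) (kf xf5 yf5 zf28) (kf xf8 yf20 zf61) (kf xf8 yf17 zf23) (kf xf15 yf59 zf31) (kf xf8 yf17 zf21) (kf xf8 yf17 zf20) (kf xf8 yf21 zf2) (kf xf5 yf30 zf54) (kf xf8 yf21 zf45) (kf xf6 yf28 zf16) (kf xf8 yf21 zf41) (kf xf8 yf21 zf42) (kf xf8 yf21 zf43) (kf xf6 yf37 zf12) (kf xf8 yf17 zf46) (kf xf5 yf21 zf16) (kf xf5 yf21 zf17) (kf xf8 yf21 zf14) (kf xf8 yf20 zf15) (kf xf8 yf20 zf16) (kf xf13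 yf54 zf23) (kf xf4 yf51 zf21) (kf xf7 yf57 zf51) (kf xf8 yf20 zf30) (kf xf8 yf20 zf31) (kf xf8 yf21 zf35) (kf xf8 yf20 zf35) (kf xf8 yf20 zf36) (kf xf16 yf4 zf27) (kf xf8 yf20 zf33) (kf xf4 yf17 zf21) (kf xf8 yf20 zf40) (kf xf8 yf21 zf32) (kf xf8 yf20 zf43) (kf xf16 yf4 zf40) (kf xf8 yf20 zf46) (kf xf8 yf20 zf47) (kf xf8 yf20 zf48) (kf xf8 yf20 zf49) (kf xf6 yf41 zf20) (kf xf8 yf20 zf51) (kf xf8 yf20 zf52)) (@D3.rec (fun _ => Pt) (kf xf7 yf58 zf37) (kf xf16 yf4 zf52) (kf xf8 yf21 zf20) (kf xf16 yf4 zf57) (kf xf4 yf17 zf26) (kf xf8 yf18 zf3) (kf xf7 yf49 zf47) (kf xf8 yf21 zf7) (kf xf6 yf48 zf21) (kf xf8 yf21 zf8) (kf xf6 yf36 zf31) (kf xf8 yf21 zf3) (kf xf8 yf22 zf31) (kf xf8 yf22 zf32) (kf xf16 yf5 zf8) (kf xf4 yf17 zf45) (kf xf4 yf17 zf44) (kf xf4 yf17 zf38) (kf xf8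 yf22 zf36) (kf xf8 yf22 zf0) (kf xf8 yf22 zf37) (kf xf8 yf22 zf39) (kf xf8 yf22 zf40) (kf xf8 yf22 zf41) (kf xf8 yf22 zf42) (kf xf12 yf27 zf8) (kf xf8 yf22 zf45) (kf xf16 yf5 zf28) (kf xf16 yf5 zf6) (kf xf16 yf5 zf5) (kf xf16 yf5 zf37) (kf xf4 yf17 zf43) (kf xf15 yf57 zf5) (kf xf16 yf5 zf11) (kf xf11 yf54 zf28) (kf xf4 yf18 zf5) (kf xf8 yf18 zf35) (kf xf16 yf5 zf9) (kf xf16 yf5 zf10) (kf xf10 yf47 zf59) (kf xf8 yf22 zf55) (kf xf8 yf22 zf22) (kf xf6 yf48 zf33) (kf xf8 yf22 zf56) (kf xf6 yf26 zf16) (kf xf6 yf19 zf51) (kf xf8 yf18 zf55) (kf xf5 yf35 zf7) (kf xf5 yf35 zf9) (kf xf6 yf19 zf11) (kf xf8 yf22 zf28) (kf xf8 yf21 zf55) (kf xf8 yf21 zf56) (kf xf16 yf6 zf6) (kf xf4 yf18 zf6) (kf xf4 yf17 zf61) (kf xf8 yf21 zf61) (kf xf8 yf22 zf1) (kf xf8 yf22 zf38) (kf xf8 yf22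 zf2) (kf xf8 yf22 zf3) (kf xf8 yf22 zf4)) (@D3.rec (fun _ => Pt) (kf xf8 yf22 zf5) (kf xf7 yf58 zf30) (kf xf16 yf6 zf26) (kf xf16 yf5 zf31) (kf xf16 yf6 zf4) (kf xf13 yf51 zf27) (kf xf4 yf18 zf4) (kf xf8 yf19 zf1) (kf xf16 yf5 zf42) (kf xf10 yf47 zf56) (kf xf16 yf6 zf7) (kf xf8 yf22 zf21) (kf xf8 yf22 zf23) (kf xf8 yf22 zf24) (kf xf8 yf22 zf57) (kf xf6 yf37 zf34) (kf xf8 yf19 zf14) (kf xf6 yf23 zf47) (kf xf6 yf23 zf48) (kf xf8 yf22 zf61) (kf xf6 yf23 zf49) (kf xf6 yf23 zf50) (kf xf6 yf23 zf46) (kf xf8 yf22 zf59) (kf xf8 yf22 zf60) (kf xf8 yf23 zf0) (kf xf8 yf23 zf1) (kf xf6 yf23 zf51) (kf xf8 yf23 zf2) (kf xf8 yf23 zf3) (kf xf8 yf23 zf4) (kf xf8 yf23 zf5) (kf xf14 yf2 zf46) (kf xf7 yf20 zf12) (kf xf4 yf51 zf56) (kf xf7 yf25 zf44) (kf xf15 yf45 zf26) (kf xf12 yf59 zf50)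 (kf xf15 yf47 zf1) (kf xf15 yf43 zf5) (kf xf9 yf28 zf4) (kf xf4 yf40 zf10) (kf xf4 yf18 zf26) (kf xf12 yf27 zf5) (kf xf15 yf46 zf13) (kf xf15 yf47 zf3) (kf xf15 yf47 zf4) (kf xf15 yf43 zf6) (kf xf4 yf44 zf36) (kf xf8 yf23 zf48) (kf xf8 yf23 zf49) (kf xf10 yf44 zf27) (kf xf8 yf23 zf51) (kf xf6 yf41 zf23) (kf xf8 yf23 zf59) (kf xf10 yf50 zf17) (kf xf8 yf12 zf59) (kf xf8 yf12 zf60) (kf xf8 yf24 zf1) (kf xf8 yf24 zf2) (kf xf8 yf25 zf10) (kf xf12 yf23 zf61)) (@D3.rec (fun _ => Pt) (kf xf4 yf18 zf53) (kf xf4 yf18 zf52) (kf xf4 yf18 zf40) (kf xf16 yf7 zf25) (kf xf8 yf25 zf15) (kf xf8 yf25 zf16) (kf xf12 yf43 zf36) (kf xf8 yf25 zf22) (kf xf4 yf18 zf44) (kf xf8 yf25 zf19) (kf xf8 yf25 zf20) (kf xf15 yf36 zf36) (kf xf4 yf19 zf25) (kf xf4 yf18 zf46) (kf xf8 yf25 zf24) (kf xf8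 yf25 zf25) (kf xf12 yf53 zf30) (kf xf9 yf20 zf26) (kf xf8 yf25 zf30) (kf xf8 yf25 zf33) (kf xf8 yf25 zf34) (kf xf5 yf43 zf30) (kf xf10 yf12 zf3) (kf xf12 yf23 zf60) (kf xf9 yf20 zf35) (kf xf5 yf3 zf55) (kf xf15 yf42 zf54) (kf xf16 yf7 zf21) (kf xf5 yf9 zf43) (kf xf8 yf42 zf36) (kf xf16 yf7 zf20) (kf xf5 yf9 zf44) (kf xf8 yf24 zf44) (kf xf7 yf56 zf4) (kf xf8 yf24 zf47) (kf xf8 yf25 zf45) (kf xf6 yf43 zf61) (kf xf8 yf25 zf3) (kf xf4 yf50 zf50) (kf xf4 yf51 zf15) (kf xf8 yf25 zf2) (kf xf8 yf25 zf4) (kf xf6 yf4 zf47) (kf xf4 yf19 zf9) (kf xf8 yf7 zf24) (kf xf8 yf7 zf23) (kf xf4 yf19 zf10) (kf xf8 yf7 zf28) (kf xf8 yf7 zf29) (kf xf8 yf7 zf30) (kf xf16 yf8 zf20) (kf xf16 yf8 zf24) (kf xf4 yf19 zf12) (kf xf5 yf23 zf36) (kf xf7 yf55 zf25) (kf xf8 yf6 zf32) (kf xf8 yf8 zf5)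 (kf xf8 yf8 zf4) (kf xf16 yf8 zf29) (kf xf4 yf19 zf15) (kf xf9 yf44 zf48) (kf xf5 yf37 zf9)) (@D3.rec (fun _ => Pt) (kf xf5 yf37 zf43) (kf xf8 yf8 zf9) (kf xf16 yf8 zf38) (kf xf8 yf38 zf35) (kf xf8 yf10 zf50) (kf xf8 yf10 zf51) (kf xf8 yf25 zf9) (kf xf8 yf24 zf3) (kf xf8 yf24 zf4) (kf xf9 yf20 zf27) (kf xf8 yf25 zf40) (kf xf8 yf24 zf10) (kf xf8 yf24 zf11) (kf xf8 yf25 zf41) (kf xf10 yf50 zf38) (kf xf8 yf24 zf18) (kf xf8 yf24 zf19) (kf xf16 yf9 zf4) (kf xf8 yf24 zf13) (kf xf4 yf19 zf32) (kf xf8 yf24 zf23) (kf xf8 yf24 zf24) (kf xf8 yf25 zf37) (kf xf8 yf24 zf26) (kf xf8 yf24 zf27) (kf xf16 yf9 zf16) (kf xf8 yf24 zf31) (kf xf16 yf9 zf21) (kf xf8 yf25 zf26) (kf xf9 yf20 zf28) (kf xf8 yf25 zf13) (kf xf8 yf25 zf17) (kf xf15 yf1 zf25) (kf xf15 yf1 zf24) (kf xf16 yf9 zf37)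 (kf xf4 yf19 zf39) (kf xf5 yf36 zf32) (kf xf4 yf50 zf52) (kf xf4 yf51 zf29) (kf xf8 yf24 zf59) (kf xf5 yf35 zf29) (kf xf5 yf37 zf38) (kf xf5 yf37 zf39) (kf xf8 yf38 zf36) (kf xf16 yf9 zf48) (kf xf8 yf14 zf9) (kf xf5 yf35 zf59) (kf xf4 yf19 zf55) (kf xf8 yf27 zf49) (kf xf14 yf50 zf61) (kf xf8 yf14 zf23) (kf xf8 yf14 zf22) (kf xf4 yf19 zf57) (kf xf8 yf7 zf44) (kf xf16 yf10 zf1) (kf xf8 yf23 zf57) (kf xf16 yf10 zf8) (kf xf16 yf10 zf3) (kf xf16 yf10 zf2) (kf xf8 yf39 zf5) (kf xf4 yf19 zf60) (kf xf16 yf10 zf18)) (@D3.rec (fun _ => Pt) (kf xf5 yf35 zf16) (kf xf5 yf35 zf17) (kf xf8 yf38 zf48) (kf xf7 yf46 zf22) (kf xf5 yf5 zf2) (kf xf5 yf5 zf1) (kf xf4 yf20 zf3) (kf xf6 yf14 zf36) (kf xf16 yf10 zf28) (kf xf13 yf48 zf7) (kf xf8 yf38 zf56) (kf xf9 yf45 zf10) (kf xf13 yf15 zf41)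 (kf xf4 yf20 zf12) (kf xf16 yf10 zf32) (kf xf4 yf20 zf10) (kf xf10 yf5 zf25) (kf xf16 yf10 zf30) (kf xf12 yf22 zf26) (kf xf16 yf10 zf35) (kf xf15 yf50 zf19) (kf xf16 yf10 zf45) (kf xf4 yf20 zf13) (kf xf8 yf5 zf8) (kf xf16 yf10 zf51) (kf xf8 yf38 zf44) (kf xf16 yf10 zf58) (kf xf8 yf39 zf8) (kf xf8 yf39 zf7) (kf xf4 yf20 zf17) (kf xf16 yf11 zf2) (kf xf16 yf11 zf6) (kf xf16 yf11 zf8) (kf xf11 yf53 zf15) (kf xf11 yf52 zf52) (kf xf8 yf37 zf3) (kf xf8 yf37 zf43) (kf xf8 yf3 zf44) (kf xf11 yf3 zf24) (kf xf7 yf50 zf49) (kf xf16 yf11 zf25) (kf xf16 yf11 zf31) (kf xf16 yf11 zf27) (kf xf16 yf11 zf26) (kf xf8 yf38 zf25) (kf xf4 yf20 zf26) (kf xf16 yf11 zf44) (kf xf9 yf0 zf31) (kf xf8 yf38 zf2) (kf xf11 yf3 zf21) (kf xf5 yf12 zf48) (kf xf5 yf12 zf47) (kf xf4 yf20 zf31) (kf xf16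 yf11 zf50) (kf xf13 yf51 zf48) (kf xf8 yf2 zf10) (kf xf8 yf38 zf10) (kf xf16 yf11 zf54) (kf xf13 yf26 zf37) (kf xf13 yf47 zf32) (kf xf16 yf11 zf58) (kf xf16 yf11 zf57)) (@D3.rec (fun _ => Pt) (kf xf16 yf12 zf5) (kf xf16 yf12 zf7) (kf xf4 yf20 zf39) (kf xf16 yf12 zf11) (kf xf16 yf12 zf14) (kf xf8 yf37 zf59) (kf xf9 yf51 zf38) (kf xf8 yf38 zf28) (kf xf8 yf38 zf27) (kf xf4 yf20 zf44) (kf xf16 yf12 zf23) (kf xf9 yf43 zf46) (kf xf8 yf39 zf34) (kf xf8 yf39 zf33) (kf xf4 yf20 zf47) (kf xf8 yf7 zf41) (kf xf8 yf7 zf40) (kf xf4 yf20 zf48) (kf xf16 yf12 zf37) (kf xf16 yf12 zf32) (kf xf16 yf12 zf31) (kf xf14 yf59 zf55) (kf xf4 yf20 zf49) (kf xf16 yf12 zf48) (kf xf9 yf43 zf47) (kf xf8 yf39 zf43) (kf xf16 yf12 zf55) (kf xf16 yf12 zf57) (kf xf4 yf20 zf53) (kf xf8 yf20 zf22) (kf xf15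 yf12 zf48) (kf xf11 yf2 zf33) (kf xf5 yf35 zf49) (kf xf8 yf39 zf13) (kf xf8 yf39 zf12) (kf xf4 yf20 zf57) (kf xf16 yf13 zf10) (kf xf16 yf13 zf5) (kf xf16 yf13 zf4) (kf xf8 yf47 zf60) (kf xf4 yf20 zf58) (kf xf16 yf13 zf21) (kf xf11 yf2 zf34) (kf xf8 yf39 zf25) (kf xf5 yf25 zf46) (kf xf16 yf13 zf28) (kf xf16 yf13 zf30) (kf xf4 yf21 zf0) (kf xf5 yf22 zf27) (kf xf9 yf36 zf61) (kf xf9 yf36 zf39) (kf xf5 yf28 zf19) (kf xf16 yf13 zf38) (kf xf15 yf36 zf22) (kf xf15 yf24 zf10) (kf xf12 yf19 zf31) (kf xf14 yf57 zf13) (kf xf16 yf13 zf43) (kf xf4 yf21 zf7) (kf xf15 yf24 zf2) (kf xf15 yf24 zf3) (kf xf16 yf13 zf48)) (@D3.rec (fun _ => Pt) (kf xf12 yf20 zf19) (kf xf4 yf21 zf12) (kf xf9 yf36 zf56) (kf xf9 yf36 zf57) (kf xf12 yf20 zf22) (kf xf16 yf14 zf1) (kf xf16 yf13 zf58) (kf xf16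 yf13 zf57) (kf xf15 yf48 zf30) (kf xf4 yf21 zf14) (kf xf4 yf27 zf39) (kf xf16 yf14 zf14) (kf xf9 yf36 zf40) (kf xf14 yf58 zf4) (kf xf9 yf34 zf11) (kf xf4 yf51 zf60) (kf xf16 yf9 zf41) (kf xf4 yf21 zf30) (kf xf16 yf11 zf47) (kf xf4 yf21 zf19) (kf xf4 yf51 zf49) (kf xf4 yf51 zf50) (kf xf12 yf30 zf44) (kf xf12 yf20 zf17) (kf xf4 yf21 zf24) (kf xf9 yf37 zf19) (kf xf16 yf14 zf34) (kf xf16 yf14 zf33) (kf xf16 yf14 zf45) (kf xf4 yf21 zf25) (kf xf4 yf21 zf26) (kf xf16 yf14 zf50) (kf xf4 yf22 zf14) (kf xf8 yf8 zf8) (kf xf9 yf34 zf61) (kf xf8 yf10 zf21) (kf xf8 yf10 zf22) (kf xf16 yf9 zf40) (kf xf14 yf57 zf17) (kf xf14 yf57 zf18) (kf xf14 yf57 zf19) (kf xf9 yf38 zf28) (kf xf16 yf15 zf15) (kf xf16 yf15 zf17) (kf xf8 yf42 zf45) (kf xf16 yf15 zf20) (kf xf4 yf21 zf34) (kf xf14 yf57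 zf15) (kf xf10 yf19 zf53) (kf xf14 yf57 zf14) (kf xf10 yf19 zf54) (kf xf15 yf34 zf53) (kf xf15 yf36 zf40) (kf xf14 yf57 zf3) (kf xf14 yf57 zf4) (kf xf16 yf8 zf54) (kf xf4 yf21 zf40) (kf xf14 yf57 zf8) (kf xf14 yf57 zf9) (kf xf14 yf57 zf10) (kf xf9 yf38 zf26) (kf xf16 yf15 zf48)) (@D3.rec (fun _ => Pt) (kf xf16 yf15 zf52) (kf xf8 yf43 zf21) (kf xf16 yf15 zf59) (kf xf4 yf21 zf43) (kf xf9 yf34 zf26) (kf xf8 yf2 zf48) (kf xf9 yf34 zf10) (kf xf9 yf44 zf55) (kf xf9 yf38 zf8) (kf xf9 yf38 zf9) (kf xf9 yf38 zf10) (kf xf9 yf38 zf11) (kf xf16 yf16 zf16) (kf xf16 yf16 zf20) (kf xf9 yf37 zf48) (kf xf9 yf37 zf46) (kf xf16 yf16 zf27) (kf xf4 yf21 zf49) (kf xf14 yf57 zf28) (kf xf10 yf42 zf51) (kf xf14 yf57 zf26) (kf xf14 yf57 zf27) (kf xf16 yf14 zf32) (kf xf5 yf23 zf25) (kf xf15 yf22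 zf53) (kf xf4 yf21 zf52) (kf xf9 yf38 zf2) (kf xf14 yf57 zf23) (kf xf12 yf26 zf52) (kf xf4 yf21 zf55) (kf xf9 yf37 zf61) (kf xf9 yf38 zf0) (kf xf9 yf38 zf1) (kf xf9 yf38 zf3) (kf xf12 yf26 zf53) (kf xf16 yf16 zf56) (kf xf9 yf37 zf60) (kf xf9 yf37 zf58) (kf xf16 yf16 zf61) (kf xf4 yf21 zf58) (kf xf14 yf57 zf33) (kf xf10 yf29 zf18) (kf xf15 yf17 zf52) (kf xf14 yf57 zf30) (kf xf10 yf29 zf17) (kf xf14 yf57 zf40) (kf xf14 yf57 zf41) (kf xf14 yf57 zf42) (kf xf14 yf57 zf43) (kf xf12 yf50 zf17) (kf xf16 yf17 zf22) (kf xf12 yf50 zf16) (kf xf4 yf22 zf2) (kf xf14 yf57 zf34) (kf xf14 yf57 zf35) (kf xf14 yf57 zf36) (kf xf11 yf51 zf60) (kf xf9 yf45 zf5) (kf xf16 yf17 zf45) (kf xf15 yf11 zf6) (kf xf16 yf17 zf48) (kf xf4 yf22 zf5)) (@D3.rec (fun _ => Pt) (kf xf4 yf22 zf8) (kf xf4 yf22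 zf7) (kf xf4 yf53 zf42) (kf xf16 yf17 zf58) (kf xf16 yf18 zf0) (kf xf16 yf18 zf2) (kf xf4 yf22 zf6) (kf xf16 yf17 zf50) (kf xf16 yf17 zf51) (kf xf16 yf17 zf52) (kf xf16 yf18 zf11) (kf xf14 yf59 zf10) (kf xf14 yf59 zf8) (kf xf14 yf59 zf9) (kf xf14 yf58 zf51) (kf xf16 yf18 zf22) (kf xf16 yf14 zf46) (kf xf9 yf44 zf52) (kf xf16 yf18 zf29) (kf xf9 yf44 zf61) (kf xf16 yf18 zf36) (kf xf14 yf58 zf1) (kf xf14 yf58 zf0) (kf xf4 yf22 zf13) (kf xf9 yf36 zf27) (kf xf9 yf36 zf31) (kf xf16 yf14 zf51) (kf xf9 yf38 zf34) (kf xf14 yf58 zf7) (kf xf16 yf13 zf2) (kf xf9 yf38 zf33) (kf xf14 yf58 zf5) (kf xf15 yf16 zf45) (kf xf15 yf59 zf29) (kf xf5 yf29 zf38) (kf xf15 yf36 zf1) (kf xf8 yf36 zf29) (kf xf15 yf15 zf3) (kf xf4 yf22 zf19) (kf xf9 yf44 zf49) (kf xf9 yf44 zf50) (kf xf9 yf44 zf51)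 (kf xf16 yf19 zf15) (kf xf16 yf15 zf22) (kf xf4 yf22 zf23) (kf xf8 yf40 zf44) (kf xf5 yf1 zf12) (kf xf5 yf37 zf5) (kf xf5 yf37 zf6) (kf xf5 yf37 zf8) (kf xf16 yf19 zf22) (kf xf16 yf19 zf25) (kf xf4 yf24 zf16) (kf xf6 yf24 zf46) (kf xf9 yf44 zf58) (kf xf10 yf2 zf52) (kf xf5 yf42 zf40) (kf xf5 yf42 zf41) (kf xf9 yf44 zf59) (kf xf16 yf19 zf39) (kf xf11 yf38 zf8) (kf xf11 yf8 zf1)) (@D3.rec (fun _ => Pt) (kf xf11 yf57 zf48) (kf xf14 yf58 zf25) (kf xf14 yf58 zf24) (kf xf16 yf19 zf52) (kf xf4 yf22 zf34) (kf xf9 yf44 zf39) (kf xf4 yf24 zf9) (kf xf15 yf13 zf12) (kf xf5 yf38 zf41) (kf xf9 yf34 zf49) (kf xf10 yf38 zf33) (kf xf10 yf38 zf34) (kf xf15 yf42 zf18) (kf xf9 yf34 zf45) (kf xf4 yf22 zf41) (kf xf14 yf58 zf14) (kf xf14 yf58 zf15) (kf xf14 yf58 zf16) (kf xf16 yf20 zf8) (kf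 xf16 yf20 zf12) (kf xf4 yf22 zf43) (kf xf8 yf41 zf1) (kf xf8 yf43 zf54) (kf xf4 yf23 zf55) (kf xf8 yf43 zf55) (kf xf6 yf24 zf25) (kf xf14 yf58 zf21) (kf xf13 yf30 zf7) (kf xf13 yf30 zf6) (kf xf14 yf58 zf22) (kf xf16 yf20 zf25) (kf xf9 yf45 zf2) (kf xf9 yf45 zf1) (kf xf4 yf22 zf50) (kf xf4 yf24 zf34) (kf xf5 yf42 zf34) (kf xf5 yf42 zf42) (kf xf5 yf42 zf43) (kf xf5 yf42 zf44) (kf xf10 yf3 zf16) (kf xf4 yf32 zf54) (kf xf4 yf33 zf0) (kf xf8 yf10 zf27) (kf xf16 yf20 zf46) (kf xf16 yf20 zf48) (kf xf14 yf58 zf31) (kf xf14 yf58 zf30) (kf xf10 yf3 zf15) (kf xf4 yf22 zf58) (kf xf8 yf1 zf4) (kf xf11 yf23 zf35) (kf xf11 yf13 zf26) (kf xf5 yf40 zf60) (kf xf4 yf24 zf43) (kf xf8 yf43 zf22) (kf xf8 yf43 zf24) (kf xf14 yf58 zf29) (kf xf9 yf45 zf8) (kf xf9 yf45 zf7) (kf xf4 yf23 zf5)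 (kf xf5 yf6 zf43) (kf xf16 yf21 zf14)) (@D3.rec (fun _ => Pt) (kf xf14 yf58 zf36) (kf xf14 yf58 zf35) (kf xf16 yf21 zf21) (kf xf4 yf23 zf9) (kf xf11 yf23 zf30) (kf xf13 yf30 zf38) (kf xf13 yf30 zf36) (kf xf13 yf30 zf37) (kf xf4 yf25 zf19) (kf xf10 yf39 zf13) (kf xf13 yf30 zf39) (kf xf14 yf58 zf33) (kf xf14 yf58 zf39) (kf xf14 yf58 zf38) (kf xf4 yf23 zf15) (kf xf4 yf23 zf27) (kf xf4 yf23 zf23) (kf xf13 yf30 zf58) (kf xf15 yf7 zf11) (kf xf4 yf57 zf4) (kf xf10 yf39 zf31) (kf xf4 yf23 zf19) (kf xf4 yf23 zf20) (kf xf11 yf23 zf11) (kf xf13 yf27 zf51) (kf xf10 yf39 zf38) (kf xf4 yf23 zf26) (kf xf4 yf57 zf5) (kf xf12 yf23 zf45) (kf xf10 yf14 zf44) (kf xf5 yf42 zf61) (kf xf4 yf23 zf29) (kf xf4 yf23 zf28) (kf xf16 yf21 zf35) (kf xf10 yf29 zf10) (kf xf16 yf21 zf49) (kf xf10 yf39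 zf34) (kf xf10 yf28 zf37) (kf xf16 yf21 zf48) (kf xf10 yf28 zf40) (kf xf16 yf22 zf4) (kf xf16 yf21 zf52) (kf xf16 yf21 zf51) (kf xf8 yf28 zf4) (kf xf8 yf28 zf3) (kf xf10 yf9 zf32) (kf xf4 yf23 zf30) (kf xf5 yf20 zf13) (kf xf4 yf23 zf31) (kf xf16 yf22 zf16) (kf xf4 yf25 zf60) (kf xf4 yf26 zf27) (kf xf11 yf13 zf22) (kf xf14 yf59 zf3) (kf xf16 yf22 zf30) (kf xf14 yf59 zf0) (kf xf10 yf28 zf48) (kf xf16 yf22 zf38) (kf xf4 yf23 zf35) (kf xf14 yf58 zf59) (kf xf14 yf58 zf60) (kf xf16 yf22 zf46)) (@D3.rec (fun _ => Pt) (kf xf14 yf59 zf6) (kf xf14 yf59 zf5) (kf xf4 yf23 zf37) (kf xf14 yf57 zf58) (kf xf14 yf57 zf59) (kf xf14 yf57 zf57) (kf xf10 yf9 zf33) (kf xf14 yf59 zf13) (kf xf14 yf59 zf12) (kf xf16 yf23 zf3) (kf xf4 yf23 zf39) (kf xf14 yf59 zf20) (kf xf14 yf59 zf21) (kf xf11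 yf23 zf16) (kf xf16 yf23 zf15) (kf xf14 yf59 zf16) (kf xf14 yf59 zf17) (kf xf14 yf59 zf18) (kf xf10 yf28 zf45) (kf xf4 yf23 zf43) (kf xf14 yf59 zf24) (kf xf14 yf59 zf23) (kf xf16 yf23 zf23) (kf xf4 yf26 zf61) (kf xf6 yf14 zf8) (kf xf6 yf14 zf9) (kf xf5 yf43 zf56) (kf xf16 yf23 zf35) (kf xf15 yf13 zf42) (kf xf6 yf13 zf58) (kf xf6 yf13 zf57) (kf xf16 yf23 zf42) (kf xf4 yf23 zf50) (kf xf12 yf6 zf41) (kf xf16 yf23 zf46) (kf xf6 yf14 zf13) (kf xf6 yf14 zf12) (kf xf4 yf23 zf53) (kf xf5 yf37 zf11) (kf xf9 yf9 zf53) (kf xf6 yf24 zf37) (kf xf5 yf55 zf61) (kf xf5 yf56 zf1) (kf xf16 yf23 zf56) (kf xf5 yf56 zf4) (kf xf15 yf8 zf39) (kf xf5 yf55 zf32) (kf xf5 yf55 zf39) (kf xf6 yf24 zf39) (kf xf16 yf24 zf1) (kf xf10 yf22 zf11) (kf xf13 yf38 zf53) (kf xf4 yf24 zf0) (kf xf11 yf8 zf7)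 (kf xf14 yf59 zf31) (kf xf14 yf59 zf32) (kf xf15 yf8 zf46) (kf xf13 yf38 zf22) (kf xf14 yf59 zf29) (kf xf16 yf24 zf12) (kf xf7 yf5 zf40) (kf xf7 yf5 zf39)) (@D3.rec (fun _ => Pt) (kf xf4 yf24 zf6) (kf xf8 yf47 zf31) (kf xf9 yf9 zf38) (kf xf10 yf1 zf17) (kf xf4 yf46 zf28) (kf xf16 yf24 zf21) (kf xf15 yf13 zf1) (kf xf8 yf47 zf1) (kf xf16 yf24 zf26) (kf xf12 yf8 zf43) (kf xf11 yf15 zf34) (kf xf11 yf41 zf17) (kf xf13 yf39 zf9) (kf xf7 yf6 zf9) (kf xf4 yf46 zf52) (kf xf15 yf8 zf28) (kf xf4 yf36 zf53) (kf xf14 yf59 zf27) (kf xf16 yf24 zf39) (kf xf11 yf41 zf16) (kf xf16 yf24 zf44) (kf xf16 yf24 zf31) (kf xf16 yf24 zf30) (kf xf13 yf38 zf42) (kf xf4 yf24 zf22) (kf xf13 yf38 zf29) (kf xf13 yf38 zf30) (kf xf6 yf24 zf50) (kf xf6 yf24 zf51) (kf xf16 yf25 zf2) (kf xf6 yf24 zf47)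 (kf xf6 yf24 zf48) (kf xf15 yf8 zf37) (kf xf6 yf24 zf53) (kf xf16 yf25 zf11) (kf xf4 yf24 zf26) (kf xf16 yf25 zf13) (kf xf16 yf25 zf15) (kf xf16 yf25 zf18) (kf xf4 yf24 zf51) (kf xf4 yf37 zf5) (kf xf16 yf20 zf34) (kf xf5 yf55 zf47) (kf xf16 yf25 zf26) (kf xf5 yf56 zf15) (kf xf16 yf25 zf31) (kf xf16 yf25 zf25) (kf xf16 yf25 zf24) (kf xf4 yf24 zf37) (kf xf10 yf58 zf51) (kf xf14 yf59 zf41) (kf xf12 yf22 zf45) (kf xf12 yf22 zf40) (kf xf14 yf59 zf40) (kf xf16 yf25 zf53) (kf xf12 yf5 zf21) (kf xf16 yf21 zf2) (kf xf11 yf41 zf14) (kf xf16 yf25 zf61) (kf xf4 yf24 zf50) (kf xf16 yf26 zf3) (kf xf4 yf24 zf45)) (@D3.rec (fun _ => Pt) (kf xf16 yf26 zf6) (kf xf8 yf46 zf7) (kf xf16 yf26 zf10) (kf xf14 yf59 zf36) (kf xf5 yf59 zf49) (kf xf16 yf26 zf16) (kf xf16 yf25 zf59) (kf xf13 yf26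 zf57) (kf xf16 yf26 zf25) (kf xf4 yf24 zf49) (kf xf16 yf26 zf0) (kf xf16 yf25 zf19) (kf xf7 yf39 zf18) (kf xf16 yf26 zf1) (kf xf16 yf26 zf37) (kf xf4 yf24 zf52) (kf xf9 yf46 zf58) (kf xf9 yf46 zf59) (kf xf13 yf26 zf40) (kf xf9 yf46 zf55) (kf xf9 yf46 zf56) (kf xf16 yf26 zf50) (kf xf9 yf47 zf0) (kf xf9 yf46 zf61) (kf xf16 yf26 zf61) (kf xf4 yf24 zf56) (kf xf9 yf47 zf7) (kf xf16 yf27 zf3) (kf xf9 yf47 zf4) (kf xf9 yf47 zf5) (kf xf16 yf27 zf10) (kf xf8 yf46 zf1) (kf xf8 yf48 zf45) (kf xf16 yf27 zf17) (kf xf9 yf47 zf9) (kf xf8 yf48 zf44) (kf xf16 yf27 zf23) (kf xf9 yf47 zf13) (kf xf9 yf47 zf12) (kf xf16 yf27 zf29) (kf xf4 yf58 zf9) (kf xf4 yf25 zf1) (kf xf16 yf27 zf0) (kf xf4 yf25 zf58) (kf xf5 yf53 zf15) (kf xf5 yf53 zf17) (kf xf16 yf27 zf40) (kf xf5 yf52 zf58) (kf xf9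 yf47 zf16) (kf xf16 yf27 zf45) (kf xf11 yf20 zf60) (kf xf14 yf59 zf50) (kf xf16 yf27 zf51) (kf xf5 yf38 zf15) (kf xf14 yf59 zf48) (kf xf16 yf27 zf58) (kf xf12 yf7 zf59) (kf xf14 yf59 zf52) (kf xf16 yf28 zf1) (kf xf4 yf25 zf9) (kf xf8 yf39 zf39) (kf xf16 yf28 zf2)) (@D3.rec (fun _ => Pt) (kf xf8 yf48 zf6) (kf xf13 yf31 zf6) (kf xf9 yf49 zf58) (kf xf15 yf0 zf20) (kf xf11 yf27 zf25) (kf xf15 yf7 zf59) (kf xf8 yf48 zf0) (kf xf12 yf6 zf18) (kf xf16 yf28 zf14) (kf xf13 yf42 zf4) (kf xf11 yf33 zf31) (kf xf16 yf28 zf19) (kf xf4 yf25 zf27) (kf xf4 yf25 zf26) (kf xf12 yf6 zf14) (kf xf11 yf43 zf47) (kf xf11 yf27 zf27) (kf xf14 yf59 zf44) (kf xf12 yf46 zf42) (kf xf11 yf37 zf29) (kf xf11 yf37 zf43) (kf xf16 yf28 zf29) (kf xf16 yf28 zf18) (kf xf13 yf27 zf50) (kf xf16 yf28 zf35) (kf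 xf4 yf25 zf25) (kf xf16 yf28 zf21) (kf xf15 yf7 zf53) (kf xf7 yf56 zf57) (kf xf16 yf28 zf20) (kf xf13 yf31 zf27) (kf xf11 yf59 zf31) (kf xf11 yf59 zf32) (kf xf13 yf50 zf41) (kf xf11 yf59 zf29) (kf xf16 yf23 zf12) (kf xf11 yf59 zf35) (kf xf11 yf59 zf34) (kf xf10 yf51 zf30) (kf xf4 yf25 zf32) (kf xf11 yf8 zf24) (kf xf16 yf29 zf3) (kf xf11 yf8 zf22) (kf xf13 yf31 zf60) (kf xf8 yf47 zf35) (kf xf8 yf47 zf32) (kf xf16 yf29 zf7) (kf xf6 yf9 zf16) (kf xf4 yf25 zf36) (kf xf16 yf28 zf59) (kf xf4 yf26 zf8) (kf xf16 yf29 zf15) (kf xf5 yf57 zf0) (kf xf10 yf17 zf28) (kf xf4 yf26 zf1) (kf xf5 yf38 zf4) (kf xf10 yf16 zf14) (kf xf11 yf24 zf11) (kf xf11 yf27 zf29) (kf xf5 yf34 zf40) (kf xf7 yf17 zf24) (kf xf16 yf29 zf25)) (@D3.rec (fun _ => Pt) (kf xf4 yf25 zf45) (kf xf9 yf48 zf13) (kf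 xf4 yf58 zf25) (kf xf8 yf12 zf39) (kf xf4 yf25 zf49) (kf xf11 yf23 zf2) (kf xf16 yf29 zf31) (kf xf9 yf9 zf45) (kf xf9 yf9 zf43) (kf xf5 yf38 zf14) (kf xf5 yf38 zf16) (kf xf5 yf38 zf17) (kf xf10 yf17 zf29) (kf xf9 yf17 zf46) (kf xf16 yf29 zf44) (kf xf4 yf25 zf56) (kf xf16 yf27 zf34) (kf xf11 yf37 zf30) (kf xf16 yf29 zf52) (kf xf16 yf22 zf20) (kf xf12 yf29 zf41) (kf xf5 yf50 zf57) (kf xf16 yf29 zf61) (kf xf4 yf26 zf0) (kf xf5 yf40 zf0) (kf xf6 yf39 zf12) (kf xf5 yf38 zf5) (kf xf11 yf13 zf9) (kf xf16 yf30 zf7) (kf xf4 yf26 zf2) (kf xf5 yf55 zf41) (kf xf16 yf28 zf60) (kf xf16 yf30 zf14) (kf xf4 yf26 zf4) (kf xf4 yf26 zf13) (kf xf4 yf26 zf14) (kf xf12 yf7 zf61) (kf xf9 yf51 zf2) (kf xf4 yf26 zf16) (kf xf7 yf36 zf18) (kf xf16 yf30 zf22) (kf xf4 yf26 zf23) (kf xf4 yf26 zf9)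 (kf xf11 yf17 zf50) (kf xf16 yf30 zf26) (kf xf9 yf9 zf35) (kf xf9 yf9 zf32) (kf xf9 yf51 zf3) (kf xf12 yf8 zf0) (kf xf16 yf30 zf31) (kf xf4 yf26 zf12) (kf xf5 yf55 zf31) (kf xf11 yf37 zf13) (kf xf16 yf30 zf36) (kf xf11 yf27 zf55) (kf xf6 yf38 zf57) (kf xf9 yf50 zf61) (kf xf9 yf19 zf35) (kf xf16 yf30 zf18) (kf xf4 yf26 zf15) (kf xf9 yf18 zf0) (kf xf11 yf47 zf17)) (@D3.rec (fun _ => Pt) (kf xf11 yf47 zf8) (kf xf7 yf57 zf19) (kf xf7 yf57 zf13) (kf xf7 yf57 zf20) (kf xf16 yf30 zf44) (kf xf11 yf16 zf39) (kf xf16 yf30 zf20) (kf xf16 yf30 zf49) (kf xf4 yf26 zf20) (kf xf16 yf30 zf50) (kf xf10 yf59 zf21) (kf xf11 yf11 zf48) (kf xf9 yf1 zf46) (kf xf16 yf30 zf23) (kf xf16 yf30 zf24) (kf xf4 yf26 zf25) (kf xf16 yf29 zf13) (kf xf16 yf29 zf12) (kf xf16 yf31 zf1) (kf xf15 yf4 zf46)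 (kf xf15 yf4 zf47) (kf xf5 yf55 zf30) (kf xf16 yf22 zf21) (kf xf16 yf22 zf22) (kf xf16 yf22 zf23) (kf xf12 yf6 zf16) (kf xf13 yf47 zf16) (kf xf12 yf6 zf20) (kf xf11 yf37 zf10) (kf xf9 yf25 zf32) (kf xf16 yf31 zf32) (kf xf16 yf31 zf27) (kf xf16 yf31 zf26) (kf xf13 yf47 zf28) (kf xf4 yf26 zf30) (kf xf9 yf19 zf36) (kf xf16 yf28 zf53) (kf xf9 yf19 zf32) (kf xf9 yf19 zf33) (kf xf15 yf0 zf28) (kf xf9 yf19 zf39) (kf xf9 yf19 zf38) (kf xf16 yf31 zf57) (kf xf4 yf26 zf33) (kf xf16 yf31 zf58) (kf xf7 yf57 zf17) (kf xf11 yf14 zf11) (kf xf16 yf31 zf60) (kf xf16 yf31 zf59) (kf xf16 yf32 zf8) (kf xf4 yf26 zf38) (kf xf8 yf51 zf30) (kf xf8 yf51 zf31) (kf xf16 yf32 zf17) (kf xf8 yf51 zf27) (kf xf8 yf51 zf28) (kf xf16 yf32 zf25) (kf xf8 yf51 zf34) (kf xf8 yf51 zf33) (kf xf16 yf32 zf35)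 (kf xf4 yf26 zf41) (kf xf9 yf8 zf24)) (@D3.rec (fun _ => Pt) (kf xf11 yf34 zf2) (kf xf15 yf0 zf30) (kf xf15 yf0 zf31) (kf xf16 yf32 zf51) (kf xf12 yf5 zf57) (kf xf12 yf5 zf58) (kf xf16 yf32 zf60) (kf xf15 yf0 zf25) (kf xf15 yf0 zf24) (kf xf15 yf0 zf33) (kf xf16 yf33 zf10) (kf xf9 yf19 zf37) (kf xf4 yf26 zf46) (kf xf12 yf6 zf19) (kf xf15 yf0 zf21) (kf xf12 yf45 zf34) (kf xf15 yf0 zf22) (kf xf16 yf33 zf20) (kf xf11 yf37 zf22) (kf xf12 yf5 zf55) (kf xf12 yf22 zf34) (kf xf15 yf0 zf26) (kf xf11 yf6 zf15) (kf xf11 yf11 zf43) (kf xf16 yf33 zf30) (kf xf4 yf26 zf50) (kf xf4 yf26 zf54) (kf xf8 yf50 zf54) (kf xf8 yf50 zf55) (kf xf12 yf8 zf5) (kf xf8 yf50 zf51) (kf xf8 yf50 zf52) (kf xf16 yf31 zf46) (kf xf8 yf50 zf58) (kf xf8 yf50 zf57) (kf xf16 yf33 zf31) (kf xf12 yf5 zf6) (kf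 xf6 yf15 zf2) (kf xf12 yf5 zf9) (kf xf16 yf33 zf60) (kf xf7 yf14 zf36) (kf xf12 yf5 zf7) (kf xf16 yf34 zf5) (kf xf11 yf34 zf0) (kf xf12 yf5 zf14) (kf xf16 yf34 zf11) (kf xf12 yf5 zf12) (kf xf16 yf34 zf16) (kf xf12 yf5 zf17) (kf xf12 yf5 zf16) (kf xf16 yf23 zf31) (kf xf6 yf13 zf10) (kf xf4 yf37 zf29) (kf xf9 yf51 zf24) (kf xf16 yf34 zf32) (kf xf4 yf41 zf39) (kf xf9 yf51 zf26) (kf xf12 yf5 zf22) (kf xf12 yf5 zf23) (kf xf16 yf34 zf39) (kf xf5 yf15 zf31) (kf xf5 yf21 zf19)) (@D3.rec (fun _ => Pt) (kf xf10 yf38 zf57) (kf xf16 yf34 zf44) (kf xf9 yf58 zf18) (kf xf5 yf22 zf11) (kf xf5 yf19 zf7) (kf xf8 yf52 zf29) (kf xf6 yf24 zf34) (kf xf16 yf34 zf55) (kf xf4 yf27 zf13) (kf xf8 yf52 zf32) (kf xf8 yf52 zf33) (kf xf16 yf35 zf1) (kf xf5 yf16 zf21) (kf xf5 yf16 zf20) (kf xf4 yf27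 zf15) (kf xf8 yf52 zf41) (kf xf8 yf52 zf42) (kf xf16 yf35 zf10) (kf xf8 yf52 zf38) (kf xf8 yf52 zf39) (kf xf16 yf35 zf17) (kf xf16 yf35 zf22) (kf xf16 yf35 zf19) (kf xf16 yf35 zf18) (kf xf11 yf23 zf6) (kf xf4 yf27 zf18) (kf xf8 yf52 zf50) (kf xf16 yf35 zf28) (kf xf5 yf19 zf41) (kf xf8 yf52 zf5) (kf xf5 yf12 zf0) (kf xf4 yf27 zf23) (kf xf8 yf52 zf9) (kf xf8 yf52 zf10) (kf xf16 yf35 zf42) (kf xf5 yf18 zf34) (kf xf5 yf18 zf33) (kf xf4 yf27 zf25) (kf xf8 yf52 zf18) (kf xf8 yf52 zf19) (kf xf16 yf35 zf49) (kf xf8 yf52 zf15) (kf xf8 yf52 zf16) (kf xf16 yf22 zf2) (kf xf16 yf35 zf57) (kf xf16 yf35 zf54) (kf xf16 yf35 zf53) (kf xf16 yf36 zf5) (kf xf4 yf27 zf28) (kf xf6 yf25 zf13) (kf xf8 yf52 zf26) (kf xf8 yf10 zf59) (kf xf16 yf36 zf11) (kf xf4 yf27 zf29) (kf xf4 yf27 zf52) (kf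 xf16 yf36 zf19) (kf xf4 yf28 zf2) (kf xf4 yf27 zf33) (kf xf4 yf28 zf8) (kf xf4 yf28 zf9) (kf xf16 yf36 zf30) (kf xf4 yf28 zf19)) (@D3.rec (fun _ => Pt) (kf xf4 yf27 zf35) (kf xf4 yf28 zf26) (kf xf4 yf28 zf28) (kf xf16 yf36 zf36) (kf xf4 yf28 zf22) (kf xf4 yf28 zf24) (kf xf16 yf36 zf43) (kf xf16 yf36 zf50) (kf xf16 yf36 zf45) (kf xf16 yf36 zf44) (kf xf16 yf14 zf11) (kf xf4 yf27 zf38) (kf xf4 yf28 zf36) (kf xf4 yf28 zf35) (kf xf16 yf37 zf5) (kf xf11 yf52 zf38) (kf xf11 yf5 zf5) (kf xf11 yf6 zf0) (kf xf5 yf28 zf7) (kf xf8 yf20 zf27) (kf xf4 yf27 zf43) (kf xf15 yf17 zf32) (kf xf8 yf54 zf55) (kf xf16 yf37 zf22) (kf xf5 yf28 zf24) (kf xf5 yf28 zf23) (kf xf4 yf27 zf47) (kf xf5 yf28 zf20) (kf xf5 yf28 zf21) (kf xf11 yf53 zf9) (kf xf11 yf3 zf11) (kf xf8 yf54 zf22) (kf xf16 yf37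 zf41) (kf xf15 yf17 zf33) (kf xf8 yf54 zf23) (kf xf11 yf53 zf6) (kf xf16 yf36 zf13) (kf xf16 yf36 zf14) (kf xf16 yf36 zf15) (kf xf15 yf48 zf34) (kf xf16 yf38 zf3) (kf xf9 yf51 zf43) (kf xf15 yf17 zf40) (kf xf16 yf38 zf11) (kf xf11 yf4 zf14) (kf xf15 yf17 zf42) (kf xf16 yf38 zf20) (kf xf4 yf27 zf54) (kf xf10 yf36 zf59) (kf xf5 yf29 zf17) (kf xf11 yf2 zf21) (kf xf5 yf21 zf58) (kf xf16 yf38 zf31) (kf xf4 yf27 zf57) (kf xf5 yf21 zf47) (kf xf5 yf21 zf48) (kf xf5 yf21 zf49) (kf xf15 yf17 zf35) (kf xf15 yf17 zf36) (kf xf15 yf17 zf37) (kf xf15 yf17 zf38) (kf xf16 yf38 zf55)) (@D3.rec (fun _ => Pt) (kf xf16 yf38 zf59) (kf xf11 yf52 zf51) (kf xf16 yf36 zf17) (kf xf16 yf39 zf6) (kf xf4 yf28 zf0) (kf xf5 yf30 zf50) (kf xf5 yf6 zf14) (kf xf16 yf36 zf20) (kf xf7 yf58 zf29) (kf xf16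 yf39 zf16) (kf xf5 yf31 zf22) (kf xf15 yf9 zf9) (kf xf10 yf3 zf27) (kf xf4 yf28 zf5) (kf xf9 yf51 zf42) (kf xf11 yf53 zf16) (kf xf15 yf19 zf7) (kf xf16 yf36 zf21) (kf xf16 yf36 zf22) (kf xf16 yf36 zf23) (kf xf16 yf36 zf24) (kf xf16 yf39 zf39) (kf xf8 yf53 zf31) (kf xf8 yf53 zf34) (kf xf16 yf39 zf45) (kf xf15 yf19 zf16) (kf xf15 yf19 zf15) (kf xf16 yf39 zf54) (kf xf4 yf28 zf10) (kf xf15 yf19 zf19) (kf xf10 yf30 zf29) (kf xf5 yf31 zf61) (kf xf5 yf32 zf0) (kf xf11 yf53 zf40) (kf xf10 yf3 zf28) (kf xf15 yf19 zf9) (kf xf15 yf19 zf10) (kf xf15 yf19 zf11) (kf xf15 yf19 zf12) (kf xf16 yf40 zf13) (kf xf16 yf40 zf17) (kf xf16 yf36 zf28) (kf xf16 yf36 zf27) (kf xf16 yf40 zf25) (kf xf4 yf28 zf17) (kf xf5 yf32 zf53) (kf xf11 yf53 zf25) (kf xf16 yf36 zf31) (kf xf5 yf21 zf36) (kf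 xf16 yf36 zf37) (kf xf16 yf36 zf38) (kf xf16 yf36 zf39) (kf xf8 yf26 zf57) (kf xf16 yf40 zf43) (kf xf16 yf40 zf45) (kf xf8 yf53 zf22) (kf xf4 yf28 zf25) (kf xf16 yf36 zf32) (kf xf16 yf36 zf33) (kf xf16 yf36 zf34) (kf xf4 yf55 zf18) (kf xf16 yf36 zf35)) (@D3.rec (fun _ => Pt) (kf xf16 yf36 zf41) (kf xf16 yf41 zf3) (kf xf16 yf40 zf54) (kf xf16 yf41 zf7) (kf xf4 yf28 zf29) (kf xf4 yf28 zf32) (kf xf4 yf28 zf31) (kf xf16 yf41 zf17) (kf xf16 yf41 zf22) (kf xf16 yf41 zf24) (kf xf16 yf41 zf26) (kf xf4 yf28 zf30) (kf xf16 yf41 zf10) (kf xf7 yf58 zf54) (kf xf16 yf41 zf11) (kf xf16 yf41 zf38) (kf xf16 yf41 zf8) (kf xf16 yf41 zf40) (kf xf16 yf41 zf39) (kf xf16 yf41 zf53) (kf xf16 yf41 zf56) (kf xf4 yf28 zf33) (kf xf11 yf54 zf12) (kf xf16 yf37 zf1) (kf xf16 yf42 zf4) (kf xf16 yf36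 zf61) (kf xf16 yf42 zf10) (kf xf15 yf48 zf32) (kf xf16 yf42 zf17) (kf xf16 yf37 zf4) (kf xf16 yf37 zf3) (kf xf4 yf28 zf38) (kf xf16 yf42 zf25) (kf xf11 yf54 zf23) (kf xf11 yf54 zf24) (kf xf11 yf54 zf25) (kf xf11 yf54 zf26) (kf xf11 yf54 zf27) (kf xf10 yf47 zf57) (kf xf10 yf22 zf17) (kf xf11 yf54 zf29) (kf xf11 yf54 zf30) (kf xf5 yf29 zf45) (kf xf5 yf29 zf46) (kf xf16 yf42 zf52) (kf xf5 yf29 zf51) (kf xf4 yf28 zf44) (kf xf5 yf29 zf48) (kf xf5 yf29 zf49) (kf xf12 yf52 zf43) (kf xf5 yf29 zf53) (kf xf15 yf59 zf30) (kf xf5 yf29 zf57) (kf xf15 yf32 zf26) (kf xf5 yf29 zf60) (kf xf5 yf29 zf61) (kf xf5 yf30 zf0) (kf xf5 yf30 zf1) (kf xf5 yf30 zf3) (kf xf5 yf30 zf4) (kf xf8 yf19 zf61) (kf xf15 yf15 zf9)) (@D3.rec (fun _ => Pt) (kf xf11 yf4 zf10) (kf xf16 yf43 zf22) (kf xf4 yf28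 zf51) (kf xf10 yf47 zf28) (kf xf10 yf47 zf35) (kf xf11 yf2 zf26) (kf xf5 yf28 zf26) (kf xf5 yf28 zf27) (kf xf5 yf28 zf28) (kf xf11 yf55 zf18) (kf xf11 yf55 zf19) (kf xf5 yf30 zf21) (kf xf5 yf30 zf22) (kf xf16 yf43 zf45) (kf xf5 yf30 zf25) (kf xf5 yf30 zf26) (kf xf12 yf58 zf12) (kf xf5 yf30 zf29) (kf xf5 yf30 zf31) (kf xf5 yf30 zf32) (kf xf5 yf30 zf33) (kf xf5 yf23 zf13) (kf xf5 yf29 zf32) (kf xf5 yf14 zf60) (kf xf5 yf14 zf61) (kf xf8 yf29 zf33) (kf xf5 yf27 zf37) (kf xf5 yf27 zf38) (kf xf11 yf55 zf11) (kf xf5 yf27 zf50) (kf xf11 yf55 zf8) (kf xf5 yf27 zf53) (kf xf16 yf44 zf25) (kf xf5 yf27 zf56) (kf xf5 yf27 zf57) (kf xf5 yf27 zf58) (kf xf5 yf27 zf59) (kf xf11 yf32 zf19) (kf xf9 yf21 zf18) (kf xf4 yf45 zf48) (kf xf11 yf9 zf26) (kf xf8 yf31 zf29) (kf xf5 yf25 zf51) (kf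 xf5 yf29 zf2) (kf xf5 yf29 zf3) (kf xf11 yf55 zf17) (kf xf5 yf29 zf6) (kf xf5 yf29 zf7) (kf xf16 yf44 zf61) (kf xf5 yf29 zf10) (kf xf11 yf32 zf17) (kf xf5 yf29 zf12) (kf xf5 yf29 zf13) (kf xf5 yf29 zf14) (kf xf5 yf49 zf16) (kf xf11 yf32 zf20) (kf xf11 yf32 zf21) (kf xf11 yf31 zf40) (kf xf5 yf30 zf51) (kf xf5 yf30 zf52) (kf xf5 yf6 zf26) (kf xf5 yf32 zf14)) (@D3.rec (fun _ => Pt) (kf xf11 yf55 zf21) (kf xf5 yf32 zf15) (kf xf5 yf32 zf17) (kf xf5 yf32 zf18) (kf xf5 yf32 zf19) (kf xf5 yf32 zf20) (kf xf16 yf45 zf37) (kf xf13 yf36 zf60) (kf xf15 yf15 zf18) (kf xf15 yf15 zf17) (kf xf16 yf45 zf49) (kf xf4 yf29 zf28) (kf xf15 yf15 zf23) (kf xf10 yf26 zf21) (kf xf5 yf24 zf3) (kf xf15 yf15 zf21) (kf xf15 yf15 zf22) (kf xf15 yf32 zf36) (kf xf10 yf3 zf48) (kf xf5 yf32 zf34) (kf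 xf5 yf32 zf35) (kf xf11 yf55 zf38) (kf xf5 yf32 zf36) (kf xf5 yf32 zf37) (kf xf5 yf32 zf39) (kf xf16 yf46 zf8) (kf xf5 yf32 zf43) (kf xf11 yf12 zf47) (kf xf12 yf31 zf48) (kf xf16 yf46 zf6) (kf xf16 yf46 zf19) (kf xf4 yf29 zf37) (kf xf5 yf31 zf55) (kf xf5 yf38 zf40) (kf xf5 yf31 zf59) (kf xf5 yf31 zf58) (kf xf9 yf44 zf8) (kf xf4 yf29 zf41) (kf xf5 yf24 zf25) (kf xf5 yf24 zf26) (kf xf5 yf32 zf5) (kf xf5 yf32 zf1) (kf xf6 yf7 zf48) (kf xf5 yf32 zf2) (kf xf5 yf36 zf13) (kf xf4 yf29 zf54) (kf xf4 yf29 zf53) (kf xf4 yf29 zf49) (kf xf5 yf31 zf6) (kf xf5 yf31 zf7) (kf xf5 yf31 zf8) (kf xf5 yf31 zf9) (kf xf12 yf30 zf7) (kf xf16 yf7 zf5) (kf xf15 yf51 zf54) (kf xf15 yf51 zf52) (kf xf16 yf46 zf48) (kf xf4 yf29 zf52) (kf xf16 yf46 zf28) (kf xf15 yf55 zf26) (kf xf16 yf46 zf27) (kf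 xf5 yf31 zf33)) (@D3.rec (fun _ => Pt) (kf xf5 yf31 zf34) (kf xf5 yf31 zf36) (kf xf5 yf31 zf37) (kf xf11 yf56 zf7) (kf xf5 yf31 zf38) (kf xf12 yf30 zf3) (kf xf5 yf31 zf42) (kf xf12 yf30 zf5) (kf xf12 yf30 zf6) (kf xf5 yf32 zf48) (kf xf5 yf32 zf54) (kf xf11 yf32 zf53) (kf xf5 yf24 zf44) (kf xf5 yf32 zf51) (kf xf5 yf33 zf25) (kf xf5 yf33 zf26) (kf xf5 yf33 zf27) (kf xf6 yf42 zf37) (kf xf5 yf33 zf28) (kf xf5 yf33 zf29) (kf xf5 yf33 zf30) (kf xf5 yf33 zf33) (kf xf11 yf18 zf47) (kf xf5 yf33 zf40) (kf xf16 yf47 zf27) (kf xf11 yf17 zf60) (kf xf16 yf47 zf33) (kf xf4 yf30 zf8) (kf xf5 yf33 zf19) (kf xf5 yf33 zf18) (kf xf4 yf30 zf9) (kf xf5 yf33 zf22) (kf xf5 yf33 zf21) (kf xf11 yf5 zf48) (kf xf4 yf30 zf10) (kf xf5 yf32 zf55) (kf xf5 yf32 zf56) (kf xf5 yf32 zf57) (kf xf5 yf32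 zf59) (kf xf5 yf32 zf60) (kf xf9 yf31 zf48) (kf xf5 yf32 zf61) (kf xf5 yf33 zf0) (kf xf9 yf10 zf45) (kf xf5 yf33 zf2) (kf xf5 yf33 zf3) (kf xf5 yf33 zf4) (kf xf11 yf39 zf61) (kf xf5 yf33 zf8) (kf xf6 yf2 zf8) (kf xf11 yf39 zf60) (kf xf6 yf45 zf6) (kf xf11 yf56 zf24) (kf xf4 yf30 zf26) (kf xf4 yf30 zf27) (kf xf4 yf30 zf28) (kf xf11 yf39 zf8) (kf xf4 yf55 zf41) (kf xf10 yf55 zf36) (kf xf10 yf54 zf56) (kf xf16 yf40 zf3) (kf xf16 yf48 zf10)) (@D3.rec (fun _ => Pt) (kf xf4 yf30 zf22) (kf xf10 yf48 zf1) (kf xf16 yf48 zf15) (kf xf16 yf48 zf16) (kf xf4 yf30 zf23) (kf xf16 yf46 zf24) (kf xf16 yf48 zf18) (kf xf4 yf30 zf24) (kf xf16 yf45 zf31) (kf xf12 yf55 zf47) (kf xf10 yf56 zf55) (kf xf16 yf48 zf0) (kf xf11 yf39 zf2) (kf xf16 yf39 zf25) (kf xf16 yf48 zf1) (kf xf11 yf39 zf7)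 (kf xf16 yf48 zf2) (kf xf16 yf48 zf36) (kf xf11 yf38 zf59) (kf xf5 yf44 zf39) (kf xf11 yf48 zf38) (kf xf5 yf45 zf35) (kf xf5 yf45 zf36) (kf xf5 yf45 zf37) (kf xf5 yf34 zf37) (kf xf5 yf44 zf37) (kf xf5 yf44 zf38) (kf xf5 yf44 zf40) (kf xf16 yf48 zf52) (kf xf4 yf30 zf34) (kf xf11 yf56 zf42) (kf xf11 yf56 zf43) (kf xf11 yf49 zf36) (kf xf5 yf34 zf39) (kf xf5 yf34 zf38) (kf xf6 yf3 zf29) (kf xf5 yf34 zf48) (kf xf16 yf49 zf0) (kf xf5 yf34 zf45) (kf xf5 yf43 zf4) (kf xf5 yf34 zf54) (kf xf9 yf58 zf9) (kf xf5 yf34 zf51) (kf xf9 yf36 zf55) (kf xf5 yf34 zf58) (kf xf5 yf34 zf57) (kf xf11 yf2 zf13) (kf xf5 yf35 zf5) (kf xf5 yf35 zf6) (kf xf10 yf22 zf22) (kf xf5 yf35 zf8) (kf xf10 yf22 zf23) (kf xf5 yf35 zf10) (kf xf5 yf34 zf60) (kf xf5 yf34 zf61) (kf xf5 yf35 zf1) (kf xf5 yf35 zf4)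 (kf xf11 yf57 zf30) (kf xf5 yf39 zf23) (kf xf5 yf39 zf24) (kf xf16 yf49 zf24) (kf xf5 yf39 zf27))
def f_f_9 : D2 → D3 → Pt := @D2.rec (fun _ => D3 → Pt) (@D3.rec (fun _ => Pt) (kf xf5 yf39 zf28) (kf xf16 yf49 zf32) (kf xf5 yf36 zf57) (kf xf4 yf54 zf31) (kf xf4 yf54 zf61) (kf xf5 yf36 zf53) (kf xf11 yf57 zf12) (kf xf5 yf38 zf43) (kf xf5 yf37 zf26) (kf xf5 yf38 zf34) (kf xf5 yf40 zf1) (kf xf5 yf40 zf2) (kf xf5 yf26 zf37) (kf xf5 yf40 zf4) (kf xf5 yf40 zf5) (kf xf11 yf55 zf45) (kf xf5 yf40 zf7) (kf xf5 yf40 zf8) (kf xf12 yf59 zf61) (kf xf11 yf59 zf27) (kf xf11 yf59 zf26) (kf xf4 yf31 zf9) (kf xf5 yf38 zf32) (kf xf11 yf27 zf7) (kf xf5 yf38 zf29) (kf xf5 yf38 zf30) (kf xf16 yf49 zf50) (kf xf5 yf38 zf35) (kf xf4 yf41 zf27) (kf xf5 yf0 zf43) (kf xf5 yf0 zf44) (kf xf8 yf38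 zf47) (kf xf5 yf35 zf25) (kf xf5 yf35 zf26) (kf xf10 yf15 zf56) (kf xf16 yf50 zf3) (kf xf5 yf35 zf33) (kf xf5 yf35 zf34) (kf xf16 yf50 zf13) (kf xf5 yf35 zf28) (kf xf4 yf31 zf22) (kf xf5 yf35 zf38) (kf xf5 yf35 zf39) (kf xf11 yf57 zf19) (kf xf5 yf35 zf41) (kf xf5 yf35 zf42) (kf xf16 yf50 zf30) (kf xf5 yf35 zf44) (kf xf5 yf35 zf45) (kf xf5 yf35 zf46) (kf xf5 yf35 zf47) (kf xf16 yf5 zf47) (kf xf5 yf35 zf50) (kf xf13 yf59 zf41) (kf xf10 yf0 zf58) (kf xf16 yf5 zf46) (kf xf4 yf31 zf27) (kf xf9 yf37 zf51) (kf xf8 yf4 zf7) (kf xf15 yf22 zf56) (kf xf10 yf37 zf29) (kf xf5 yf36 zf45)) (@D3.rec (fun _ => Pt) (kf xf5 yf36 zf46) (kf xf11 yf57 zf25) (kf xf5 yf36 zf49) (kf xf5 yf36 zf50) (kf xf16 yf51 zf2) (kf xf16 yf51 zf4) (kf xf11 yf57 zf23) (kf xf16 yf51 zf3) (kf xf5 yf57 zf5)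 (kf xf4 yf31 zf34) (kf xf4 yf49 zf27) (kf xf6 yf20 zf32) (kf xf4 yf31 zf35) (kf xf4 yf54 zf33) (kf xf4 yf55 zf14) (kf xf5 yf39 zf46) (kf xf5 yf2 zf61) (kf xf5 yf39 zf41) (kf xf5 yf37 zf50) (kf xf5 yf37 zf51) (kf xf5 yf37 zf61) (kf xf5 yf38 zf1) (kf xf5 yf38 zf8) (kf xf5 yf38 zf9) (kf xf15 yf4 zf33) (kf xf5 yf38 zf11) (kf xf5 yf38 zf12) (kf xf15 yf30 zf20) (kf xf12 yf4 zf23) (kf xf6 yf27 zf18) (kf xf5 yf40 zf51) (kf xf5 yf40 zf50) (kf xf4 yf31 zf50) (kf xf5 yf40 zf47) (kf xf5 yf40 zf48) (kf xf4 yf48 zf16) (kf xf5 yf40 zf46) (kf xf5 yf49 zf35) (kf xf6 yf6 zf37) (kf xf10 yf44 zf61) (kf xf4 yf34 zf48) (kf xf5 yf40 zf21) (kf xf16 yf51 zf38) (kf xf5 yf40 zf29) (kf xf5 yf40 zf30) (kf xf5 yf40 zf31) (kf xf8 yf50 zf12) (kf xf16 yf51 zf37) (kf xf16 yf51 zf36) (kf xf16 yf51 zf49)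 (kf xf4 yf32 zf0) (kf xf5 yf7 zf34) (kf xf5 yf41 zf9) (kf xf5 yf41 zf7) (kf xf5 yf41 zf13) (kf xf5 yf41 zf12) (kf xf4 yf32 zf5) (kf xf5 yf42 zf27) (kf xf5 yf42 zf28) (kf xf10 yf44 zf60) (kf xf5 yf42 zf31) (kf xf5 yf42 zf32)) (@D3.rec (fun _ => Pt) (kf xf5 yf46 zf1) (kf xf5 yf42 zf35) (kf xf16 yf52 zf6) (kf xf5 yf42 zf51) (kf xf16 yf52 zf12) (kf xf5 yf42 zf53) (kf xf5 yf42 zf54) (kf xf5 yf42 zf55) (kf xf16 yf52 zf21) (kf xf16 yf52 zf5) (kf xf16 yf52 zf4) (kf xf16 yf52 zf28) (kf xf4 yf32 zf15) (kf xf4 yf33 zf2) (kf xf5 yf42 zf14) (kf xf5 yf42 zf15) (kf xf5 yf42 zf12) (kf xf5 yf42 zf13) (kf xf6 yf16 zf57) (kf xf5 yf42 zf18) (kf xf5 yf42 zf17) (kf xf4 yf32 zf19) (kf xf11 yf23 zf61) (kf xf5 yf41 zf21) (kf xf5 yf41 zf23) (kf xf5 yf45 zf49) (kf xf5 yf41 zf27) (kf xf5 yf41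 zf28) (kf xf5 yf41 zf29) (kf xf16 yf52 zf48) (kf xf4 yf35 zf59) (kf xf5 yf41 zf32) (kf xf5 yf41 zf33) (kf xf16 yf52 zf56) (kf xf5 yf41 zf36) (kf xf5 yf41 zf39) (kf xf5 yf41 zf40) (kf xf5 yf41 zf42) (kf xf16 yf53 zf6) (kf xf5 yf41 zf47) (kf xf16 yf31 zf47) (kf xf5 yf41 zf50) (kf xf15 yf26 zf10) (kf xf5 yf41 zf52) (kf xf5 yf41 zf54) (kf xf16 yf53 zf18) (kf xf16 yf52 zf55) (kf xf16 yf52 zf54) (kf xf16 yf53 zf27) (kf xf4 yf32 zf38) (kf xf5 yf54 zf52) (kf xf11 yf28 zf9) (kf xf5 yf43 zf3) (kf xf5 yf43 zf2) (kf xf5 yf34 zf50) (kf xf16 yf49 zf2) (kf xf4 yf32 zf45) (kf xf5 yf45 zf32) (kf xf4 yf33 zf8) (kf xf16 yf53 zf40) (kf xf5 yf41 zf61) (kf xf7 yf56 zf23)) (@D3.rec (fun _ => Pt) (kf xf11 yf12 zf1) (kf xf16 yf53 zf49) (kf xf11 yf11 zf18) (kf xf16 yf20 zf20) (kf xf7 yf13 zf50)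 (kf xf5 yf13 zf11) (kf xf9 yf52 zf59) (kf xf4 yf32 zf56) (kf xf11 yf11 zf33) (kf xf16 yf52 zf29) (kf xf16 yf53 zf59) (kf xf5 yf20 zf57) (kf xf16 yf53 zf61) (kf xf4 yf32 zf58) (kf xf16 yf52 zf27) (kf xf4 yf32 zf59) (kf xf16 yf53 zf29) (kf xf9 yf52 zf60) (kf xf10 yf3 zf17) (kf xf14 yf53 zf14) (kf xf16 yf54 zf10) (kf xf16 yf53 zf30) (kf xf16 yf54 zf16) (kf xf4 yf33 zf3) (kf xf4 yf41 zf29) (kf xf5 yf43 zf1) (kf xf4 yf33 zf13) (kf xf10 yf58 zf22) (kf xf4 yf33 zf10) (kf xf4 yf33 zf11) (kf xf12 yf23 zf41) (kf xf4 yf33 zf16) (kf xf4 yf33 zf15) (kf xf16 yf53 zf36) (kf xf16 yf54 zf40) (kf xf4 yf33 zf22) (kf xf4 yf33 zf21) (kf xf4 yf33 zf9) (kf xf7 yf59 zf38) (kf xf7 yf59 zf37) (kf xf11 yf7 zf39) (kf xf16 yf54 zf20) (kf xf16 yf54 zf25) (kf xf16 yf54 zf26) (kf xf16 yf54 zf59) (kf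 xf16 yf54 zf24) (kf xf5 yf45 zf17) (kf xf4 yf33 zf12) (kf xf16 yf54 zf21) (kf xf16 yf54 zf22) (kf xf9 yf22 zf34) (kf xf16 yf53 zf35) (kf xf4 yf33 zf14) (kf xf16 yf54 zf30) (kf xf12 yf8 zf56) (kf xf16 yf54 zf31) (kf xf16 yf55 zf12) (kf xf16 yf54 zf27) (kf xf4 yf57 zf30) (kf xf16 yf54 zf28) (kf xf12 yf31 zf45) (kf xf5 yf34 zf27)) (@D3.rec (fun _ => Pt) (kf xf5 yf34 zf28) (kf xf5 yf34 zf21) (kf xf5 yf34 zf29) (kf xf16 yf55 zf25) (kf xf10 yf39 zf28) (kf xf10 yf34 zf8) (kf xf16 yf54 zf38) (kf xf16 yf54 zf37) (kf xf16 yf55 zf33) (kf xf4 yf33 zf19) (kf xf16 yf55 zf34) (kf xf16 yf54 zf43) (kf xf16 yf54 zf44) (kf xf6 yf11 zf54) (kf xf11 yf38 zf24) (kf xf9 yf17 zf25) (kf xf16 yf54 zf41) (kf xf16 yf54 zf42) (kf xf11 yf22 zf33) (kf xf4 yf33 zf24) (kf xf16 yf53 zf39) (kf xf16 yf53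 zf38) (kf xf6 yf6 zf43) (kf xf4 yf38 zf25) (kf xf4 yf38 zf27) (kf xf5 yf45 zf22) (kf xf16 yf56 zf4) (kf xf5 yf45 zf24) (kf xf5 yf45 zf25) (kf xf5 yf45 zf26) (kf xf16 yf55 zf15) (kf xf16 yf56 zf3) (kf xf16 yf56 zf2) (kf xf4 yf33 zf28) (kf xf5 yf44 zf19) (kf xf5 yf45 zf20) (kf xf5 yf46 zf7) (kf xf5 yf45 zf18) (kf xf16 yf56 zf20) (kf xf5 yf45 zf7) (kf xf7 yf59 zf57) (kf xf5 yf45 zf9) (kf xf5 yf45 zf10) (kf xf5 yf45 zf11) (kf xf12 yf6 zf59) (kf xf5 yf43 zf7) (kf xf5 yf45 zf60) (kf xf5 yf34 zf23) (kf xf5 yf34 zf24) (kf xf12 yf9 zf55) (kf xf5 yf34 zf26) (kf xf16 yf56 zf39) (kf xf11 yf48 zf24) (kf xf16 yf56 zf37) (kf xf10 yf17 zf26) (kf xf4 yf33 zf39) (kf xf5 yf45 zf46) (kf xf5 yf45 zf47) (kf xf9 yf13 zf11) (kf xf4 yf50 zf18) (kf xf5 yf42 zf29) (kf xf5 yf46 zf2)) (@D3.rec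 (fun _ => Pt) (kf xf5 yf46 zf3) (kf xf5 yf46 zf4) (kf xf5 yf46 zf6) (kf xf5 yf8 zf24) (kf xf5 yf48 zf58) (kf xf5 yf45 zf34) (kf xf4 yf33 zf47) (kf xf5 yf41 zf30) (kf xf5 yf45 zf50) (kf xf5 yf45 zf51) (kf xf5 yf45 zf52) (kf xf12 yf25 zf44) (kf xf5 yf45 zf55) (kf xf5 yf45 zf19) (kf xf11 yf14 zf39) (kf xf5 yf46 zf14) (kf xf5 yf46 zf16) (kf xf10 yf3 zf1) (kf xf5 yf46 zf10) (kf xf5 yf46 zf12) (kf xf10 yf58 zf38) (kf xf5 yf46 zf19) (kf xf5 yf46 zf18) (kf xf4 yf34 zf40) (kf xf16 yf57 zf26) (kf xf4 yf34 zf2) (kf xf4 yf34 zf1) (kf xf4 yf33 zf57) (kf xf6 yf56 zf41) (kf xf11 yf1 zf60) (kf xf11 yf1 zf51) (kf xf16 yf49 zf47) (kf xf4 yf34 zf0) (kf xf12 yf10 zf50) (kf xf6 yf50 zf35) (kf xf12 yf10 zf49) (kf xf5 yf49 zf37) (kf xf5 yf49 zf36) (kf xf5 yf40 zf49) (kf xf4 yf34 zf3) (kf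 xf5 yf49 zf0) (kf xf5 yf49 zf27) (kf xf11 yf50 zf29) (kf xf5 yf29 zf0) (kf xf5 yf49 zf21) (kf xf5 yf49 zf33) (kf xf5 yf49 zf43) (kf xf16 yf57 zf38) (kf xf5 yf55 zf1) (kf xf5 yf48 zf6) (kf xf16 yf57 zf41) (kf xf4 yf34 zf34) (kf xf4 yf34 zf26) (kf xf11 yf50 zf6) (kf xf6 yf47 zf17) (kf xf15 yf5 zf35) (kf xf10 yf42 zf36) (kf xf10 yf42 zf32) (kf xf16 yf57 zf46) (kf xf4 yf34 zf32) (kf xf11 yf49 zf9) (kf xf11 yf29 zf39)) (@D3.rec (fun _ => Pt) (kf xf6 yf47 zf24) (kf xf12 yf53 zf26) (kf xf15 yf5 zf40) (kf xf5 yf50 zf24) (kf xf11 yf59 zf13) (kf xf5 yf50 zf20) (kf xf5 yf50 zf17) (kf xf5 yf50 zf16) (kf xf16 yf57 zf54) (kf xf4 yf34 zf38) (kf xf5 yf45 zf61) (kf xf4 yf34 zf42) (kf xf4 yf34 zf43) (kf xf11 yf38 zf3) (kf xf16 yf51 zf33) (kf xf5 yf51 zf3) (kf xf16 yf58 zf1) (kf xf4 yf34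 zf55) (kf xf4 yf34 zf54) (kf xf16 yf58 zf5) (kf xf4 yf34 zf50) (kf xf6 yf4 zf2) (kf xf16 yf58 zf11) (kf xf16 yf57 zf61) (kf xf16 yf57 zf60) (kf xf16 yf58 zf20) (kf xf4 yf34 zf53) (kf xf11 yf38 zf51) (kf xf11 yf41 zf49) (kf xf12 yf57 zf57) (kf xf11 yf26 zf39) (kf xf16 yf29 zf56) (kf xf11 yf41 zf48) (kf xf7 yf58 zf61) (kf xf16 yf58 zf31) (kf xf16 yf57 zf50) (kf xf16 yf58 zf3) (kf xf16 yf58 zf40) (kf xf4 yf34 zf56) (kf xf5 yf50 zf59) (kf xf5 yf51 zf0) (kf xf15 yf30 zf13) (kf xf11 yf8 zf2) (kf xf11 yf8 zf4) (kf xf10 yf48 zf40) (kf xf11 yf8 zf8) (kf xf11 yf8 zf9) (kf xf16 yf58 zf7) (kf xf16 yf58 zf6) (kf xf16 yf58 zf61) (kf xf4 yf35 zf0) (kf xf16 yf58 zf41) (kf xf5 yf52 zf53) (kf xf4 yf35 zf10) (kf xf4 yf58 zf51) (kf xf4 yf59 zf6) (kf xf5 yf53 zf0) (kf xf5 yf53 zf1) (kf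 xf5 yf53 zf2) (kf xf5 yf52 zf59) (kf xf5 yf52 zf61) (kf xf5 yf26 zf34)) (@D3.rec (fun _ => Pt) (kf xf4 yf59 zf7) (kf xf5 yf53 zf7) (kf xf4 yf37 zf22) (kf xf5 yf53 zf19) (kf xf5 yf53 zf20) (kf xf5 yf53 zf10) (kf xf5 yf53 zf12) (kf xf6 yf6 zf35) (kf xf16 yf59 zf24) (kf xf5 yf55 zf35) (kf xf6 yf45 zf12) (kf xf16 yf30 zf60) (kf xf5 yf55 zf42) (kf xf5 yf55 zf43) (kf xf6 yf3 zf8) (kf xf5 yf55 zf51) (kf xf4 yf35 zf30) (kf xf4 yf35 zf29) (kf xf16 yf59 zf29) (kf xf4 yf35 zf22) (kf xf4 yf35 zf36) (kf xf4 yf35 zf38) (kf xf16 yf59 zf34) (kf xf4 yf35 zf24) (kf xf16 yf59 zf37) (kf xf5 yf56 zf45) (kf xf5 yf16 zf49) (kf xf6 yf28 zf11) (kf xf6 yf28 zf12) (kf xf5 yf55 zf23) (kf xf11 yf50 zf24) (kf xf11 yf50 zf25) (kf xf10 yf45 zf49) (kf xf14 yf35 zf46) (kf xf14 yf35 zf49) (kf xf16 yf59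 zf38) (kf xf4 yf35 zf31) (kf xf10 yf17 zf32) (kf xf16 yf59 zf50) (kf xf11 yf34 zf33) (kf xf12 yf39 zf12) (kf xf9 yf58 zf46) (kf xf4 yf39 zf49) (kf xf16 yf59 zf56) (kf xf16 yf59 zf30) (kf xf16 yf59 zf58) (kf xf16 yf59 zf31) (kf xf10 yf6 zf2) (kf xf5 yf16 zf48) (kf xf17 yf0 zf8) (kf xf4 yf35 zf39) (kf xf16 yf59 zf46) (kf xf4 yf36 zf40) (kf xf5 yf55 zf11) (kf xf6 yf6 zf46) (kf xf4 yf35 zf47) (kf xf5 yf16 zf46) (kf xf5 yf16 zf47) (kf xf5 yf16 zf45) (kf xf5 yf53 zf29) (kf xf5 yf53 zf31) (kf xf17 yf0 zf21)) (@D3.rec (fun _ => Pt) (kf xf4 yf59 zf31) (kf xf5 yf53 zf34) (kf xf6 yf2 zf50) (kf xf17 yf0 zf28) (kf xf15 yf4 zf51) (kf xf5 yf53 zf46) (kf xf6 yf45 zf39) (kf xf5 yf53 zf38) (kf xf5 yf53 zf39) (kf xf16 yf52 zf49) (kf xf5 yf53 zf51) (kf xf17 yf0 zf41) (kf xf17 yf0 zf44)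 (kf xf4 yf35 zf61) (kf xf5 yf53 zf56) (kf xf4 yf36 zf1) (kf xf4 yf36 zf18) (kf xf17 yf0 zf46) (kf xf4 yf36 zf21) (kf xf4 yf36 zf22) (kf xf4 yf36 zf26) (kf xf17 yf0 zf54) (kf xf4 yf36 zf3) (kf xf5 yf54 zf4) (kf xf8 yf50 zf61) (kf xf5 yf54 zf7) (kf xf16 yf32 zf18) (kf xf17 yf0 zf60) (kf xf17 yf0 zf39) (kf xf17 yf0 zf38) (kf xf17 yf1 zf9) (kf xf4 yf36 zf9) (kf xf11 yf39 zf18) (kf xf6 yf13 zf4) (kf xf12 yf7 zf49) (kf xf17 yf0 zf42) (kf xf17 yf1 zf21) (kf xf4 yf36 zf12) (kf xf5 yf54 zf40) (kf xf12 yf55 zf26) (kf xf12 yf53 zf14) (kf xf5 yf54 zf46) (kf xf5 yf55 zf10) (kf xf4 yf36 zf20) (kf xf5 yf58 zf43) (kf xf9 yf48 zf15) (kf xf11 yf48 zf31) (kf xf11 yf0 zf36) (kf xf11 yf49 zf47) (kf xf14 yf20 zf38) (kf xf14 yf20 zf41) (kf xf17 yf1 zf26) (kf xf17 yf0 zf48) (kf xf9 yf44 zf45)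 (kf xf17 yf0 zf49) (kf xf15 yf4 zf38) (kf xf10 yf45 zf33) (kf xf10 yf45 zf12) (kf xf5 yf58 zf48) (kf xf12 yf10 zf2) (kf xf15 yf44 zf24) (kf xf17 yf0 zf50)) (@D3.rec (fun _ => Pt) (kf xf17 yf0 zf51) (kf xf11 yf31 zf39) (kf xf17 yf2 zf5) (kf xf4 yf36 zf27) (kf xf17 yf1 zf25) (kf xf4 yf37 zf17) (kf xf4 yf37 zf33) (kf xf5 yf57 zf20) (kf xf11 yf48 zf47) (kf xf4 yf40 zf8) (kf xf5 yf57 zf16) (kf xf11 yf46 zf61) (kf xf5 yf57 zf24) (kf xf4 yf36 zf36) (kf xf4 yf37 zf37) (kf xf5 yf35 zf48) (kf xf5 yf57 zf29) (kf xf5 yf57 zf28) (kf xf5 yf57 zf1) (kf xf11 yf7 zf33) (kf xf4 yf37 zf9) (kf xf4 yf37 zf31) (kf xf17 yf0 zf11) (kf xf10 yf45 zf26) (kf xf12 yf9 zf30) (kf xf7 yf57 zf8) (kf xf7 yf57 zf10) (kf xf17 yf2 zf25) (kf xf10 yf5 zf5) (kf xf10 yf6 zf55) (kf xf4 yf36 zf48) (kf xf17 yf1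 zf30) (kf xf8 yf49 zf46) (kf xf17 yf2 zf31) (kf xf5 yf56 zf24) (kf xf8 yf49 zf45) (kf xf17 yf2 zf34) (kf xf8 yf1 zf15) (kf xf8 yf46 zf2) (kf xf16 yf28 zf23) (kf xf17 yf2 zf38) (kf xf4 yf36 zf55) (kf xf13 yf50 zf45) (kf xf8 yf49 zf8) (kf xf17 yf2 zf44) (kf xf8 yf49 zf7) (kf xf17 yf2 zf48) (kf xf4 yf36 zf60) (kf xf17 yf2 zf50) (kf xf4 yf36 zf61) (kf xf17 yf2 zf51) (kf xf10 yf5 zf44) (kf xf11 yf57 zf45) (kf xf8 yf45 zf39) (kf xf17 yf2 zf61) (kf xf4 yf37 zf3) (kf xf14 yf52 zf46) (kf xf6 yf10 zf10) (kf xf17 yf3 zf4) (kf xf4 yf40 zf1) (kf xf4 yf40 zf0) (kf xf4 yf37 zf7)) (@D3.rec (fun _ => Pt) (kf xf17 yf3 zf8) (kf xf9 yf56 zf9) (kf xf12 yf58 zf41) (kf xf6 yf20 zf15) (kf xf6 yf20 zf16) (kf xf17 yf3 zf15) (kf xf11 yf30 zf25) (kf xf13 yf58 zf18) (kf xf13 yf55 zf33) (kf xf4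 yf37 zf12) (kf xf12 yf58 zf40) (kf xf9 yf48 zf26) (kf xf17 yf2 zf9) (kf xf4 yf46 zf61) (kf xf13 yf1 zf61) (kf xf9 yf17 zf47) (kf xf17 yf3 zf26) (kf xf14 yf26 zf42) (kf xf17 yf3 zf30) (kf xf4 yf37 zf20) (kf xf14 yf10 zf54) (kf xf16 yf59 zf12) (kf xf11 yf21 zf33) (kf xf11 yf1 zf54) (kf xf11 yf29 zf10) (kf xf5 yf56 zf49) (kf xf4 yf37 zf24) (kf xf16 yf26 zf39) (kf xf17 yf3 zf35) (kf xf11 yf7 zf55) (kf xf11 yf7 zf59) (kf xf17 yf3 zf43) (kf xf4 yf37 zf27) (kf xf5 yf56 zf6) (kf xf16 yf26 zf32) (kf xf16 yf34 zf26) (kf xf14 yf22 zf60) (kf xf6 yf20 zf9) (kf xf14 yf12 zf18) (kf xf10 yf5 zf34) (kf xf17 yf3 zf18) (kf xf17 yf3 zf17) (kf xf12 yf58 zf39) (kf xf4 yf37 zf32) (kf xf17 yf2 zf10) (kf xf8 yf58 zf43) (kf xf16 yf55 zf45) (kf xf17 yf2 zf15) (kf xf17 yf4 zf4) (kf xf4 yf37 zf34)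 (kf xf5 yf55 zf46) (kf xf10 yf44 zf53) (kf xf7 yf52 zf24) (kf xf17 yf3 zf32) (kf xf17 yf3 zf31) (kf xf4 yf37 zf38) (kf xf17 yf4 zf5) (kf xf17 yf4 zf17) (kf xf17 yf4 zf20) (kf xf4 yf38 zf12) (kf xf4 yf38 zf11) (kf xf17 yf4 zf28)) (@D3.rec (fun _ => Pt) (kf xf4 yf37 zf42) (kf xf4 yf38 zf19) (kf xf4 yf38 zf20) (kf xf4 yf38 zf21) (kf xf17 yf4 zf34) (kf xf4 yf38 zf15) (kf xf4 yf38 zf16) (kf xf4 yf38 zf17) (kf xf6 yf25 zf57) (kf xf17 yf4 zf39) (kf xf6 yf1 zf55) (kf xf11 yf1 zf19) (kf xf17 yf4 zf44) (kf xf4 yf37 zf47) (kf xf6 yf44 zf19) (kf xf6 yf44 zf54) (kf xf17 yf4 zf30) (kf xf6 yf44 zf37) (kf xf6 yf44 zf36) (kf xf17 yf4 zf54) (kf xf4 yf37 zf50) (kf xf6 yf39 zf3) (kf xf6 yf44 zf40) (kf xf6 yf2 zf0) (kf xf6 yf2 zf1) (kf xf6 yf44 zf42) (kf xf17 yf5 zf1) (kf xf4 yf37 zf53)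 (kf xf17 yf5 zf4) (kf xf17 yf5 zf7) (kf xf6 yf44 zf27) (kf xf6 yf44 zf26) (kf xf15 yf49 zf34) (kf xf4 yf37 zf57) (kf xf6 yf2 zf35) (kf xf6 yf2 zf36) (kf xf6 yf38 zf59) (kf xf6 yf44 zf30) (kf xf14 yf33 zf21) (kf xf6 yf38 zf37) (kf xf6 yf38 zf51) (kf xf6 yf38 zf52) (kf xf6 yf38 zf53) (kf xf17 yf5 zf24) (kf xf17 yf5 zf28) (kf xf17 yf5 zf32) (kf xf4 yf38 zf2) (kf xf6 yf39 zf0) (kf xf6 yf38 zf13) (kf xf4 yf59 zf24) (kf xf17 yf5 zf40) (kf xf12 yf17 zf2) (kf xf17 yf5 zf42) (kf xf15 yf49 zf32) (kf xf4 yf38 zf6) (kf xf6 yf39 zf11) (kf xf17 yf5 zf48) (kf xf17 yf5 zf51) (kf xf17 yf4 zf18) (kf xf11 yf49 zf15) (kf xf17 yf5 zf58) (kf xf4 yf38 zf10)) (@D3.rec (fun _ => Pt) (kf xf9 yf48 zf51) (kf xf17 yf4 zf24) (kf xf17 yf4 zf25) (kf xf9 yf49 zf32) (kf xf17 yf4 zf21) (kf xf4 yf59 zf54)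 (kf xf17 yf4 zf22) (kf xf9 yf49 zf30) (kf xf17 yf4 zf27) (kf xf17 yf4 zf26) (kf xf16 yf40 zf14) (kf xf4 yf38 zf13) (kf xf5 yf53 zf43) (kf xf17 yf2 zf23) (kf xf8 yf0 zf41) (kf xf17 yf4 zf35) (kf xf17 yf6 zf21) (kf xf6 yf44 zf20) (kf xf6 yf20 zf25) (kf xf17 yf4 zf36) (kf xf17 yf6 zf30) (kf xf16 yf54 zf13) (kf xf6 yf3 zf0) (kf xf17 yf4 zf38) (kf xf6 yf16 zf51) (kf xf6 yf2 zf37) (kf xf9 yf15 zf11) (kf xf4 yf38 zf18) (kf xf6 yf25 zf22) (kf xf17 yf4 zf29) (kf xf17 yf6 zf43) (kf xf14 yf11 zf16) (kf xf17 yf4 zf31) (kf xf17 yf6 zf47) (kf xf17 yf4 zf33) (kf xf11 yf6 zf23) (kf xf4 yf38 zf22) (kf xf5 yf55 zf50) (kf xf5 yf55 zf60) (kf xf17 yf6 zf57) (kf xf16 yf55 zf57) (kf xf17 yf7 zf3) (kf xf11 yf57 zf55) (kf xf16 yf55 zf58) (kf xf16 yf55 zf59) (kf xf11 yf51 zf39) (kf xf16 yf55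 zf60) (kf xf6 yf2 zf11) (kf xf17 yf7 zf19) (kf xf4 yf38 zf35) (kf xf4 yf38 zf34) (kf xf16 yf48 zf35) (kf xf4 yf38 zf29) (kf xf6 yf2 zf17) (kf xf6 yf45 zf16) (kf xf6 yf3 zf11) (kf xf6 yf2 zf21) (kf xf6 yf40 zf47) (kf xf17 yf7 zf17) (kf xf11 yf26 zf20) (kf xf11 yf1 zf49) (kf xf4 yf38 zf33)) (@D3.rec (fun _ => Pt) (kf xf5 yf59 zf39) (kf xf12 yf37 zf49) (kf xf11 yf1 zf48) (kf xf6 yf45 zf22) (kf xf11 yf39 zf0) (kf xf17 yf7 zf33) (kf xf4 yf38 zf36) (kf xf5 yf59 zf59) (kf xf6 yf2 zf3) (kf xf6 yf2 zf2) (kf xf6 yf2 zf4) (kf xf9 yf4 zf58) (kf xf5 yf33 zf41) (kf xf4 yf41 zf38) (kf xf6 yf1 zf40) (kf xf6 yf1 zf41) (kf xf6 yf2 zf52) (kf xf4 yf38 zf50) (kf xf4 yf38 zf49) (kf xf4 yf38 zf44) (kf xf6 yf1 zf46) (kf xf6 yf1 zf58) (kf xf10 yf4 zf37) (kf xf6 yf2 zf57) (kf xf6 yf2 zf58) (kf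 xf6 yf0 zf6) (kf xf13 yf1 zf38) (kf xf15 yf5 zf14) (kf xf6 yf45 zf50) (kf xf6 yf44 zf16) (kf xf17 yf7 zf45) (kf xf11 yf58 zf31) (kf xf6 yf44 zf17) (kf xf4 yf38 zf51) (kf xf6 yf2 zf34) (kf xf6 yf2 zf33) (kf xf6 yf0 zf18) (kf xf5 yf14 zf28) (kf xf6 yf3 zf7) (kf xf17 yf7 zf61) (kf xf6 yf0 zf23) (kf xf11 yf25 zf9) (kf xf12 yf50 zf6) (kf xf4 yf38 zf59) (kf xf4 yf42 zf61) (kf xf5 yf55 zf37) (kf xf6 yf3 zf9) (kf xf6 yf3 zf10) (kf xf17 yf7 zf44) (kf xf6 yf2 zf18) (kf xf6 yf3 zf12) (kf xf6 yf19 zf37) (kf xf6 yf3 zf13) (kf xf6 yf3 zf14) (kf xf6 yf3 zf15) (kf xf14 yf35 zf58) (kf xf6 yf2 zf32) (kf xf4 yf39 zf3) (kf xf6 yf1 zf10) (kf xf6 yf3 zf2) (kf xf6 yf3 zf1) (kf xf6 yf2 zf40)) (@D3.rec (fun _ => Pt) (kf xf5 yf53 zf48) (kf xf6 yf2 zf51) (kf xf6 yf2 zf53) (kf xf6 yf2 zf54) (kf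 xf6 yf2 zf55) (kf xf11 yf6 zf25) (kf xf6 yf3 zf6) (kf xf5 yf52 zf41) (kf xf6 yf3 zf36) (kf xf4 yf39 zf15) (kf xf6 yf3 zf24) (kf xf6 yf3 zf25) (kf xf6 yf3 zf27) (kf xf17 yf8 zf34) (kf xf6 yf3 zf31) (kf xf12 yf17 zf20) (kf xf6 yf3 zf39) (kf xf6 yf3 zf38) (kf xf4 yf39 zf19) (kf xf6 yf3 zf48) (kf xf10 yf58 zf23) (kf xf6 yf3 zf50) (kf xf12 yf43 zf3) (kf xf6 yf3 zf46) (kf xf6 yf3 zf45) (kf xf4 yf39 zf22) (kf xf6 yf3 zf41) (kf xf17 yf8 zf46) (kf xf6 yf3 zf43) (kf xf12 yf59 zf30) (kf xf6 yf3 zf53) (kf xf6 yf3 zf52) (kf xf4 yf39 zf25) (kf xf6 yf3 zf57) (kf xf17 yf8 zf55) (kf xf6 yf3 zf55) (kf xf15 yf48 zf29) (kf xf11 yf51 zf37) (kf xf11 yf51 zf38) (kf xf11 yf51 zf36) (kf xf5 yf52 zf38) (kf xf4 yf39 zf31) (kf xf6 yf4 zf4) (kf xf12 yf18 zf26) (kf xf5 yf52 zf32) (kf xf5 yf52 zf31)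 (kf xf4 yf39 zf33) (kf xf11 yf23 zf0) (kf xf17 yf9 zf7) (kf xf16 yf29 zf30) (kf xf16 yf29 zf29) (kf xf4 yf39 zf37) (kf xf11 yf34 zf8) (kf xf12 yf21 zf56) (kf xf16 yf27 zf56) (kf xf12 yf21 zf53) (kf xf12 yf21 zf54) (kf xf13 yf42 zf42) (kf xf5 yf47 zf54) (kf xf10 yf16 zf6) (kf xf17 yf9 zf23) (kf xf4 yf39 zf43)) (@D3.rec (fun _ => Pt) (kf xf17 yf9 zf27) (kf xf6 yf25 zf24) (kf xf4 yf39 zf44) (kf xf10 yf15 zf23) (kf xf10 yf4 zf27) (kf xf17 yf9 zf35) (kf xf16 yf59 zf52) (kf xf12 yf28 zf50) (kf xf6 yf6 zf48) (kf xf16 yf59 zf53) (kf xf17 yf9 zf44) (kf xf9 yf12 zf26) (kf xf10 yf17 zf16) (kf xf4 yf39 zf50) (kf xf6 yf6 zf47) (kf xf6 yf6 zf45) (kf xf10 yf4 zf36) (kf xf6 yf8 zf28) (kf xf5 yf50 zf7) (kf xf4 yf39 zf55) (kf xf6 yf8 zf31) (kf xf6 yf8 zf30) (kf xf9 yf17 zf48) (kf xf6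 yf10 zf51) (kf xf9 yf48 zf29) (kf xf9 yf48 zf27) (kf xf10 yf6 zf35) (kf xf17 yf3 zf2) (kf xf17 yf3 zf1) (kf xf17 yf9 zf46) (kf xf4 yf39 zf61) (kf xf12 yf9 zf32) (kf xf10 yf27 zf41) (kf xf17 yf3 zf7) (kf xf17 yf3 zf5) (kf xf17 yf3 zf6) (kf xf6 yf6 zf49) (kf xf6 yf8 zf58) (kf xf6 yf8 zf59) (kf xf6 yf45 zf55) (kf xf6 yf8 zf54) (kf xf6 yf8 zf55) (kf xf16 yf57 zf7) (kf xf6 yf8 zf57) (kf xf10 yf17 zf22) (kf xf6 yf20 zf45) (kf xf6 yf20 zf54) (kf xf6 yf20 zf59) (kf xf12 yf11 zf6) (kf xf12 yf11 zf45) (kf xf12 yf11 zf46) (kf xf4 yf43 zf58) (kf xf15 yf43 zf7) (kf xf4 yf40 zf14) (kf xf6 yf23 zf55) (kf xf9 yf28 zf5) (kf xf6 yf20 zf55) (kf xf9 yf28 zf8) (kf xf9 yf28 zf9) (kf xf12 yf11 zf9) (kf xf12 yf11 zf10) (kf xf5 yf58 zf4)) (@D3.rec (fun _ => Pt) (kf xf9 yf16 zf40) (kf xf17 yf10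 zf34) (kf xf17 yf10 zf37) (kf xf4 yf40 zf42) (kf xf4 yf40 zf41) (kf xf17 yf10 zf43) (kf xf4 yf40 zf19) (kf xf4 yf40 zf49) (kf xf6 yf12 zf51) (kf xf4 yf40 zf46) (kf xf12 yf57 zf12) (kf xf4 yf44 zf48) (kf xf4 yf44 zf52) (kf xf14 yf41 zf61) (kf xf4 yf44 zf56) (kf xf4 yf44 zf57) (kf xf4 yf44 zf58) (kf xf4 yf44 zf59) (kf xf17 yf10 zf51) (kf xf4 yf44 zf19) (kf xf4 yf44 zf22) (kf xf9 yf21 zf60) (kf xf9 yf21 zf61) (kf xf9 yf22 zf0) (kf xf4 yf46 zf50) (kf xf17 yf11 zf2) (kf xf9 yf22 zf28) (kf xf7 yf41 zf9) (kf xf7 yf31 zf14) (kf xf17 yf11 zf8) (kf xf7 yf31 zf16) (kf xf6 yf8 zf36) (kf xf6 yf51 zf34) (kf xf17 yf11 zf15) (kf xf6 yf8 zf37) (kf xf17 yf11 zf21) (kf xf13 yf10 zf37) (kf xf17 yf11 zf13) (kf xf17 yf11 zf24) (kf xf4 yf40 zf38) (kf xf9 yf16 zf0) (kf xf17 yf11 zf31) (kf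 xf16 yf56 zf5) (kf xf17 yf10 zf35) (kf xf17 yf11 zf40) (kf xf4 yf40 zf40) (kf xf17 yf10 zf41) (kf xf17 yf10 zf42) (kf xf17 yf11 zf48) (kf xf17 yf10 zf38) (kf xf17 yf10 zf39) (kf xf6 yf33 zf13) (kf xf9 yf27 zf1) (kf xf12 yf32 zf58) (kf xf12 yf57 zf16) (kf xf4 yf40 zf43) (kf xf6 yf31 zf42) (kf xf4 yf44 zf42) (kf xf17 yf10 zf46) (kf xf14 yf23 zf14) (kf xf6 yf12 zf34) (kf xf6 yf32 zf33)) (@D3.rec (fun _ => Pt) (kf xf4 yf47 zf28) (kf xf4 yf40 zf48) (kf xf15 yf30 zf25) (kf xf17 yf10 zf44) (kf xf4 yf40 zf52) (kf xf4 yf40 zf51) (kf xf17 yf12 zf13) (kf xf4 yf40 zf50) (kf xf11 yf20 zf6) (kf xf14 yf52 zf33) (kf xf5 yf44 zf54) (kf xf12 yf9 zf1) (kf xf17 yf12 zf10) (kf xf13 yf1 zf7) (kf xf9 yf30 zf48) (kf xf17 yf12 zf11) (kf xf13 yf56 zf34) (kf xf4 yf40 zf53) (kf xf6 yf8 zf56) (kf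 xf6 yf12 zf5) (kf xf6 yf12 zf6) (kf xf6 yf12 zf1) (kf xf6 yf12 zf2) (kf xf11 yf49 zf26) (kf xf6 yf12 zf4) (kf xf9 yf4 zf15) (kf xf6 yf12 zf12) (kf xf10 yf44 zf30) (kf xf6 yf12 zf15) (kf xf6 yf46 zf11) (kf xf5 yf42 zf22) (kf xf4 yf44 zf7) (kf xf4 yf44 zf15) (kf xf6 yf12 zf36) (kf xf6 yf12 zf37) (kf xf12 yf11 zf36) (kf xf4 yf44 zf23) (kf xf6 yf12 zf40) (kf xf12 yf30 zf11) (kf xf6 yf12 zf42) (kf xf11 yf12 zf5) (kf xf6 yf12 zf21) (kf xf6 yf7 zf60) (kf xf6 yf42 zf31) (kf xf6 yf12 zf31) (kf xf16 yf36 zf6) (kf xf8 yf49 zf13) (kf xf9 yf10 zf15) (kf xf9 yf15 zf22) (kf xf16 yf19 zf54) (kf xf11 yf16 zf18) (kf xf6 yf16 zf44) (kf xf15 yf5 zf42) (kf xf16 yf54 zf17) (kf xf17 yf12 zf60) (kf xf12 yf33 zf0) (kf xf11 yf26 zf55) (kf xf17 yf13 zf5) (kf xf4 yf41 zf30) (kf xf17 yf13 zf7)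 (kf xf5 yf33 zf15) (kf xf4 yf41 zf33)) (@D3.rec (fun _ => Pt) (kf xf8 yf49 zf60) (kf xf12 yf30 zf51) (kf xf4 yf41 zf35) (kf xf17 yf8 zf1) (kf xf5 yf42 zf16) (kf xf6 yf16 zf59) (kf xf6 yf16 zf58) (kf xf6 yf3 zf19) (kf xf4 yf41 zf59) (kf xf4 yf52 zf23) (kf xf6 yf25 zf54) (kf xf6 yf25 zf56) (kf xf6 yf25 zf59) (kf xf6 yf19 zf36) (kf xf10 yf4 zf38) (kf xf6 yf22 zf0) (kf xf6 yf22 zf3) (kf xf6 yf22 zf6) (kf xf6 yf27 zf14) (kf xf12 yf4 zf53) (kf xf6 yf26 zf20) (kf xf6 yf22 zf42) (kf xf4 yf42 zf21) (kf xf12 yf27 zf38) (kf xf17 yf13 zf11) (kf xf12 yf59 zf54) (kf xf12 yf59 zf55) (kf xf12 yf59 zf53) (kf xf6 yf21 zf57) (kf xf6 yf21 zf58) (kf xf6 yf21 zf59) (kf xf6 yf21 zf43) (kf xf6 yf21 zf42) (kf xf6 yf22 zf7) (kf xf6 yf18 zf10) (kf xf6 yf21 zf25) (kf xf6 yf21 zf28) (kf xf6 yf21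 zf30) (kf xf6 yf21 zf31) (kf xf6 yf21 zf32) (kf xf6 yf21 zf46) (kf xf6 yf22 zf16) (kf xf6 yf22 zf21) (kf xf6 yf22 zf22) (kf xf6 yf22 zf19) (kf xf6 yf22 zf20) (kf xf17 yf13 zf35) (kf xf17 yf14 zf0) (kf xf17 yf13 zf61) (kf xf4 yf42 zf13) (kf xf6 yf22 zf28) (kf xf4 yf42 zf14) (kf xf6 yf22 zf59) (kf xf6 yf22 zf60) (kf xf6 yf22 zf61) (kf xf6 yf22 zf32) (kf xf7 yf9 zf58) (kf xf6 yf22 zf37) (kf xf6 yf22 zf38) (kf xf12 yf48 zf10) (kf xf13 yf15 zf19) (kf xf12 yf13 zf7)) (@D3.rec (fun _ => Pt) (kf xf6 yf22 zf39) (kf xf6 yf22 zf40) (kf xf6 yf22 zf41) (kf xf17 yf13 zf26) (kf xf6 yf21 zf18) (kf xf6 yf23 zf5) (kf xf12 yf20 zf14) (kf xf12 yf20 zf20) (kf xf12 yf39 zf54) (kf xf12 yf20 zf28) (kf xf12 yf20 zf31) (kf xf12 yf58 zf38) (kf xf6 yf23 zf53) (kf xf6 yf48 zf14) (kf xf6 yf23 zf54)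 (kf xf6 yf23 zf56) (kf xf6 yf23 zf57) (kf xf12 yf0 zf15) (kf xf12 yf0 zf16) (kf xf6 yf24 zf19) (kf xf6 yf23 zf61) (kf xf17 yf14 zf58) (kf xf4 yf42 zf31) (kf xf4 yf50 zf12) (kf xf6 yf24 zf17) (kf xf11 yf57 zf39) (kf xf6 yf14 zf37) (kf xf17 yf15 zf2) (kf xf17 yf15 zf6) (kf xf17 yf15 zf1) (kf xf17 yf15 zf0) (kf xf4 yf42 zf38) (kf xf8 yf50 zf37) (kf xf8 yf50 zf38) (kf xf11 yf13 zf44) (kf xf8 yf49 zf57) (kf xf8 yf50 zf35) (kf xf8 yf51 zf11) (kf xf8 yf50 zf41) (kf xf8 yf50 zf40) (kf xf4 yf42 zf41) (kf xf14 yf40 zf11) (kf xf17 yf15 zf30) (kf xf17 yf15 zf25) (kf xf17 yf15 zf36) (kf xf11 yf57 zf36) (kf xf6 yf15 zf55) (kf xf17 yf15 zf41) (kf xf17 yf15 zf43) (kf xf4 yf42 zf53) (kf xf11 yf13 zf49) (kf xf8 yf0 zf0) (kf xf11 yf58 zf32) (kf xf6 yf19 zf34) (kf xf6 yf19 zf35) (kf xf4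 yf43 zf13) (kf xf13 yf2 zf32) (kf xf12 yf40 zf50) (kf xf6 yf20 zf8) (kf xf13 yf2 zf31) (kf xf17 yf15 zf48) (kf xf5 yf3 zf31)) (@D3.rec (fun _ => Pt) (kf xf17 yf15 zf55) (kf xf4 yf43 zf14) (kf xf6 yf20 zf12) (kf xf6 yf20 zf14) (kf xf11 yf56 zf18) (kf xf11 yf11 zf4) (kf xf4 yf43 zf16) (kf xf6 yf19 zf49) (kf xf6 yf19 zf53) (kf xf6 yf20 zf56) (kf xf6 yf18 zf6) (kf xf6 yf26 zf50) (kf xf6 yf26 zf51) (kf xf6 yf26 zf52) (kf xf6 yf26 zf38) (kf xf6 yf26 zf37) (kf xf6 yf27 zf0) (kf xf6 yf26 zf29) (kf xf6 yf26 zf32) (kf xf6 yf26 zf41) (kf xf6 yf27 zf9) (kf xf6 yf27 zf4) (kf xf6 yf27 zf17) (kf xf6 yf27 zf15) (kf xf5 yf40 zf52) (kf xf6 yf42 zf56) (kf xf8 yf36 zf17) (kf xf8 yf37 zf9) (kf xf8 yf37 zf29) (kf xf6 yf27 zf26) (kf xf6 yf27 zf25) (kf xf4 yf43 zf38) (kf xf15 yf48 zf39) (kf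 xf17 yf16 zf27) (kf xf15 yf48 zf40) (kf xf8 yf36 zf24) (kf xf6 yf26 zf14) (kf xf6 yf30 zf15) (kf xf12 yf13 zf53) (kf xf6 yf29 zf49) (kf xf5 yf50 zf31) (kf xf6 yf29 zf30) (kf xf7 yf31 zf33) (kf xf4 yf43 zf51) (kf xf6 yf28 zf51) (kf xf17 yf16 zf42) (kf xf4 yf43 zf55) (kf xf4 yf43 zf56) (kf xf17 yf10 zf21) (kf xf4 yf45 zf15) (kf xf5 yf17 zf52) (kf xf4 yf45 zf8) (kf xf4 yf45 zf9) (kf xf6 yf32 zf59) (kf xf6 yf43 zf56) (kf xf6 yf33 zf4) (kf xf12 yf0 zf10) (kf xf12 yf0 zf11) (kf xf6 yf32 zf48) (kf xf6 yf32 zf49) (kf xf6 yf46 zf56) (kf xf6 yf32 zf46)) (@D3.rec (fun _ => Pt) (kf xf6 yf46 zf57) (kf xf6 yf33 zf7) (kf xf6 yf33 zf8) (kf xf4 yf44 zf50) (kf xf4 yf44 zf54) (kf xf6 yf33 zf27) (kf xf6 yf33 zf26) (kf xf9 yf26 zf60) (kf xf6 yf33 zf19) (kf xf6 yf33 zf20) (kf xf12 yf13 zf0)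 (kf xf6 yf10 zf22) (kf xf17 yf17 zf13) (kf xf6 yf33 zf12) (kf xf8 yf26 zf46) (kf xf4 yf44 zf11) (kf xf6 yf33 zf17) (kf xf9 yf24 zf22) (kf xf8 yf56 zf38) (kf xf7 yf32 zf29) (kf xf7 yf3 zf59) (kf xf17 yf17 zf25) (kf xf4 yf44 zf16) (kf xf14 yf11 zf45) (kf xf12 yf57 zf26) (kf xf12 yf51 zf57) (kf xf12 yf28 zf35) (kf xf17 yf12 zf41) (kf xf17 yf10 zf52) (kf xf17 yf10 zf53) (kf xf17 yf10 zf54) (kf xf6 yf32 zf30) (kf xf12 yf52 zf17) (kf xf17 yf10 zf55) (kf xf17 yf10 zf56) (kf xf17 yf12 zf42) (kf xf6 yf32 zf36) (kf xf12 yf41 zf59) (kf xf6 yf11 zf18) (kf xf6 yf11 zf42) (kf xf6 yf33 zf37) (kf xf12 yf46 zf12) (kf xf4 yf45 zf16) (kf xf4 yf45 zf17) (kf xf6 yf43 zf37) (kf xf4 yf47 zf13) (kf xf6 yf43 zf38) (kf xf4 yf47 zf29) (kf xf6 yf43 zf39) (kf xf12 yf11 zf18) (kf xf9 yf28 zf26)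 (kf xf6 yf53 zf54) (kf xf6 yf53 zf55) (kf xf6 yf31 zf12) (kf xf6 yf31 zf14) (kf xf4 yf45 zf36) (kf xf17 yf18 zf10) (kf xf4 yf44 zf35) (kf xf6 yf19 zf24) (kf xf4 yf44 zf37) (kf xf9 yf16 zf21) (kf xf9 yf16 zf22)) (@D3.rec (fun _ => Pt) (kf xf9 yf16 zf23) (kf xf12 yf32 zf31) (kf xf12 yf32 zf32) (kf xf9 yf24 zf4) (kf xf14 yf23 zf60) (kf xf17 yf18 zf21) (kf xf6 yf16 zf29) (kf xf17 yf18 zf24) (kf xf11 yf1 zf2) (kf xf9 yf28 zf40) (kf xf4 yf44 zf45) (kf xf5 yf58 zf16) (kf xf11 yf35 zf8) (kf xf11 yf35 zf52) (kf xf16 yf57 zf59) (kf xf17 yf18 zf35) (kf xf17 yf17 zf2) (kf xf17 yf17 zf3) (kf xf17 yf17 zf4) (kf xf12 yf14 zf39) (kf xf17 yf18 zf47) (kf xf6 yf16 zf36) (kf xf17 yf18 zf51) (kf xf14 yf42 zf0) (kf xf11 yf55 zf7) (kf xf17 yf18 zf60) (kf xf4 yf44 zf53) (kf xf17 yf17 zf5)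 (kf xf9 yf16 zf26) (kf xf7 yf2 zf9) (kf xf14 yf23 zf45) (kf xf11 yf40 zf31) (kf xf9 yf24 zf39) (kf xf10 yf42 zf39) (kf xf9 yf3 zf50) (kf xf15 yf30 zf29) (kf xf11 yf33 zf1) (kf xf17 yf6 zf38) (kf xf17 yf10 zf48) (kf xf12 yf49 zf12) (kf xf16 yf53 zf60) (kf xf14 yf41 zf43) (kf xf4 yf44 zf60) (kf xf4 yf45 zf61) (kf xf4 yf46 zf0) (kf xf4 yf46 zf1) (kf xf4 yf46 zf2) (kf xf15 yf5 zf37) (kf xf10 yf44 zf1) (kf xf4 yf45 zf47) (kf xf4 yf45 zf2) (kf xf4 yf45 zf50) (kf xf4 yf45 zf51) (kf xf8 yf31 zf61) (kf xf4 yf45 zf40) (kf xf17 yf16 zf47) (kf xf10 yf21 zf27) (kf xf4 yf46 zf5) (kf xf17 yf16 zf48) (kf xf4 yf46 zf12) (kf xf10 yf43 zf41) (kf xf4 yf46 zf24)) (@D3.rec (fun _ => Pt) (kf xf4 yf46 zf25) (kf xf4 yf46 zf26) (kf xf14 yf34 zf58) (kf xf10 yf42 zf55) (kf xf4 yf45 zf12) (kf xf4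 yf46 zf15) (kf xf4 yf46 zf16) (kf xf4 yf46 zf17) (kf xf4 yf46 zf19) (kf xf17 yf16 zf43) (kf xf10 yf20 zf55) (kf xf17 yf16 zf44) (kf xf12 yf27 zf44) (kf xf17 yf11 zf25) (kf xf17 yf19 zf43) (kf xf17 yf17 zf51) (kf xf12 yf27 zf41) (kf xf17 yf11 zf26) (kf xf14 yf32 zf57) (kf xf5 yf59 zf21) (kf xf17 yf19 zf54) (kf xf9 yf26 zf34) (kf xf9 yf26 zf35) (kf xf17 yf19 zf61) (kf xf17 yf19 zf52) (kf xf17 yf19 zf51) (kf xf17 yf20 zf9) (kf xf4 yf45 zf20) (kf xf4 yf46 zf57) (kf xf17 yf20 zf16) (kf xf4 yf45 zf21) (kf xf4 yf47 zf3) (kf xf4 yf47 zf5) (kf xf4 yf47 zf1) (kf xf12 yf32 zf41) (kf xf4 yf47 zf8) (kf xf4 yf47 zf7) (kf xf17 yf11 zf60) (kf xf4 yf45 zf24) (kf xf4 yf47 zf17) (kf xf4 yf47 zf18) (kf xf6 yf46 zf60) (kf xf6 yf50 zf18) (kf xf6 yf50 zf19) (kf xf12 yf17 zf28) (kf xf12 yf17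 zf29) (kf xf6 yf42 zf35) (kf xf9 yf39 zf10) (kf xf12 yf14 zf38) (kf xf7 yf33 zf2) (kf xf6 yf39 zf34) (kf xf6 yf39 zf53) (kf xf6 yf43 zf32) (kf xf6 yf0 zf9) (kf xf12 yf57 zf28) (kf xf12 yf57 zf29) (kf xf5 yf59 zf46) (kf xf17 yf20 zf56) (kf xf11 yf48 zf14) (kf xf17 yf20 zf31) (kf xf17 yf21 zf0) (kf xf17 yf21 zf3)) (@D3.rec (fun _ => Pt) (kf xf17 yf20 zf60) (kf xf17 yf20 zf59) (kf xf16 yf44 zf39) (kf xf4 yf45 zf42) (kf xf9 yf22 zf3) (kf xf17 yf21 zf16) (kf xf17 yf21 zf20) (kf xf4 yf45 zf45) (kf xf12 yf15 zf46) (kf xf12 yf15 zf47) (kf xf6 yf47 zf11) (kf xf17 yf19 zf14) (kf xf15 yf45 zf28) (kf xf4 yf47 zf50) (kf xf17 yf19 zf15) (kf xf17 yf19 zf16) (kf xf6 yf47 zf16) (kf xf16 yf0 zf0) (kf xf6 yf42 zf48) (kf xf6 yf42 zf50) (kf xf6 yf43 zf43) (kf xf4 yf47 zf55) (kf xf9 yf21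 zf17) (kf xf12 yf13 zf60) (kf xf17 yf19 zf17) (kf xf17 yf21 zf44) (kf xf8 yf29 zf60) (kf xf4 yf45 zf57) (kf xf5 yf48 zf29) (kf xf12 yf24 zf0) (kf xf12 yf24 zf1) (kf xf11 yf30 zf21) (kf xf10 yf5 zf17) (kf xf17 yf19 zf10) (kf xf15 yf4 zf55) (kf xf12 yf57 zf30) (kf xf5 yf48 zf23) (kf xf12 yf9 zf8) (kf xf15 yf5 zf33) (kf xf9 yf22 zf32) (kf xf14 yf1 zf40) (kf xf17 yf21 zf53) (kf xf5 yf48 zf20) (kf xf15 yf5 zf36) (kf xf4 yf46 zf4) (kf xf17 yf19 zf23) (kf xf5 yf18 zf3) (kf xf6 yf43 zf23) (kf xf17 yf19 zf25) (kf xf17 yf19 zf24) (kf xf4 yf46 zf7) (kf xf6 yf32 zf56) (kf xf6 yf32 zf58) (kf xf6 yf32 zf60) (kf xf6 yf43 zf58) (kf xf6 yf48 zf20) (kf xf17 yf19 zf26) (kf xf4 yf47 zf58) (kf xf17 yf19 zf27) (kf xf15 yf58 zf14) (kf xf17 yf22 zf17) (kf xf8 yf15 zf58)) (@D3.rec (fun _ =>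 Pt) (kf xf4 yf46 zf13) (kf xf4 yf47 zf35) (kf xf6 yf0 zf38) (kf xf17 yf19 zf33) (kf xf17 yf10 zf60) (kf xf17 yf22 zf25) (kf xf12 yf10 zf21) (kf xf12 yf48 zf56) (kf xf12 yf10 zf20) (kf xf10 yf17 zf40) (kf xf12 yf23 zf38) (kf xf11 yf21 zf24) (kf xf17 yf22 zf32) (kf xf12 yf23 zf39) (kf xf12 yf10 zf36) (kf xf17 yf22 zf35) (kf xf11 yf21 zf13) (kf xf17 yf19 zf35) (kf xf17 yf22 zf40) (kf xf17 yf22 zf30) (kf xf17 yf22 zf29) (kf xf17 yf22 zf52) (kf xf4 yf46 zf20) (kf xf4 yf46 zf21) (kf xf4 yf46 zf22) (kf xf17 yf19 zf29) (kf xf9 yf49 zf49) (kf xf13 yf31 zf7) (kf xf17 yf20 zf17) (kf xf9 yf49 zf50) (kf xf13 yf20 zf52) (kf xf12 yf46 zf40) (kf xf8 yf50 zf29) (kf xf11 yf44 zf1) (kf xf6 yf40 zf36) (kf xf14 yf59 zf59) (kf xf16 yf24 zf17) (kf xf17 yf23 zf5) (kf xf14 yf34 zf57) (kf xf5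 yf15 zf24) (kf xf4 yf46 zf30) (kf xf12 yf32 zf39) (kf xf17 yf19 zf39) (kf xf17 yf23 zf16) (kf xf4 yf46 zf31) (kf xf6 yf0 zf28) (kf xf6 yf0 zf29) (kf xf6 yf0 zf31) (kf xf12 yf17 zf4) (kf xf4 yf59 zf34) (kf xf17 yf23 zf21) (kf xf6 yf0 zf20) (kf xf14 yf30 zf13) (kf xf4 yf46 zf36) (kf xf6 yf0 zf37) (kf xf6 yf0 zf39) (kf xf14 yf20 zf5) (kf xf4 yf59 zf25) (kf xf17 yf23 zf29) (kf xf14 yf32 zf61) (kf xf17 yf23 zf35) (kf xf4 yf46 zf47)) (@D3.rec (fun _ => Pt) (kf xf4 yf46 zf46) (kf xf17 yf23 zf37) (kf xf4 yf46 zf41) (kf xf4 yf59 zf1) (kf xf13 yf20 zf38) (kf xf4 yf58 zf40) (kf xf4 yf59 zf45) (kf xf6 yf0 zf47) (kf xf17 yf23 zf48) (kf xf17 yf23 zf33) (kf xf17 yf23 zf32) (kf xf17 yf23 zf59) (kf xf4 yf46 zf45) (kf xf10 yf43 zf46) (kf xf14 yf22 zf30) (kf xf11 yf35 zf26) (kf xf6 yf51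 zf6) (kf xf14 yf22 zf31) (kf xf14 yf11 zf8) (kf xf13 yf10 zf18) (kf xf13 yf10 zf16) (kf xf17 yf24 zf16) (kf xf4 yf46 zf48) (kf xf16 yf24 zf36) (kf xf17 yf10 zf61) (kf xf17 yf24 zf23) (kf xf17 yf11 zf6) (kf xf15 yf56 zf43) (kf xf17 yf24 zf31) (kf xf4 yf46 zf51) (kf xf13 yf21 zf6) (kf xf13 yf20 zf31) (kf xf17 yf11 zf1) (kf xf4 yf46 zf53) (kf xf9 yf23 zf21) (kf xf9 yf23 zf22) (kf xf17 yf24 zf42) (kf xf9 yf26 zf54) (kf xf9 yf26 zf53) (kf xf17 yf24 zf50) (kf xf4 yf46 zf55) (kf xf11 yf50 zf16) (kf xf10 yf21 zf61) (kf xf10 yf19 zf27) (kf xf10 yf21 zf57) (kf xf16 yf24 zf46) (kf xf17 yf20 zf10) (kf xf17 yf20 zf11) (kf xf17 yf20 zf14) (kf xf17 yf20 zf13) (kf xf17 yf25 zf17) (kf xf4 yf46 zf58) (kf xf4 yf46 zf60) (kf xf9 yf26 zf38) (kf xf9 yf26 zf37) (kf xf17 yf25 zf19) (kf xf10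 yf17 zf41) (kf xf17 yf3 zf20) (kf xf13 yf1 zf60) (kf xf6 yf19 zf56) (kf xf9 yf21 zf7) (kf xf17 yf20 zf21)) (@D3.rec (fun _ => Pt) (kf xf17 yf25 zf38) (kf xf9 yf16 zf52) (kf xf17 yf19 zf30) (kf xf10 yf13 zf2) (kf xf6 yf40 zf6) (kf xf17 yf20 zf18) (kf xf14 yf36 zf29) (kf xf12 yf28 zf38) (kf xf17 yf20 zf19) (kf xf17 yf25 zf53) (kf xf12 yf32 zf34) (kf xf4 yf47 zf6) (kf xf17 yf12 zf52) (kf xf17 yf20 zf26) (kf xf17 yf25 zf61) (kf xf17 yf20 zf23) (kf xf17 yf20 zf24) (kf xf17 yf26 zf8) (kf xf17 yf20 zf28) (kf xf17 yf12 zf39) (kf xf17 yf26 zf16) (kf xf12 yf57 zf17) (kf xf4 yf47 zf9) (kf xf17 yf25 zf18) (kf xf4 yf47 zf14) (kf xf13 yf1 zf16) (kf xf13 yf1 zf17) (kf xf6 yf32 zf45) (kf xf17 yf17 zf55) (kf xf17 yf11 zf47) (kf xf17 yf17 zf56) (kf xf17 yf26 zf21) (kf xf6 yf50 zf41)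 (kf xf6 yf50 zf42) (kf xf12 yf14 zf40) (kf xf12 yf14 zf42) (kf xf12 yf7 zf33) (kf xf17 yf20 zf32) (kf xf17 yf20 zf33) (kf xf6 yf46 zf58) (kf xf6 yf46 zf59) (kf xf12 yf57 zf31) (kf xf12 yf57 zf32) (kf xf12 yf57 zf33) (kf xf6 yf47 zf5) (kf xf12 yf57 zf34) (kf xf17 yf27 zf6) (kf xf6 yf47 zf10) (kf xf6 yf47 zf12) (kf xf4 yf47 zf30) (kf xf4 yf48 zf13) (kf xf4 yf48 zf15) (kf xf6 yf43 zf13) (kf xf6 yf43 zf16) (kf xf4 yf47 zf44) (kf xf6 yf43 zf18) (kf xf6 yf33 zf0) (kf xf4 yf47 zf46) (kf xf12 yf50 zf15) (kf xf17 yf12 zf6) (kf xf17 yf14 zf53) (kf xf17 yf17 zf58)) (@D3.rec (fun _ => Pt) (kf xf17 yf17 zf60) (kf xf17 yf17 zf59) (kf xf17 yf27 zf9) (kf xf17 yf27 zf10) (kf xf8 yf35 zf40) (kf xf9 yf15 zf55) (kf xf12 yf11 zf42) (kf xf12 yf11 zf43) (kf xf9 yf15 zf57) (kf xf9 yf15 zf58)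 (kf xf16 yf3 zf40) (kf xf6 yf12 zf58) (kf xf12 yf11 zf7) (kf xf12 yf11 zf8) (kf xf6 yf48 zf44) (kf xf12 yf11 zf47) (kf xf12 yf11 zf48) (kf xf8 yf31 zf22) (kf xf12 yf11 zf49) (kf xf12 yf11 zf50) (kf xf8 yf31 zf40) (kf xf12 yf11 zf52) (kf xf12 yf11 zf53) (kf xf12 yf11 zf54) (kf xf12 yf11 zf55) (kf xf12 yf11 zf56) (kf xf9 yf21 zf50) (kf xf17 yf28 zf25) (kf xf6 yf43 zf10) (kf xf6 yf43 zf11) (kf xf17 yf27 zf15) (kf xf17 yf27 zf18) (kf xf4 yf47 zf57) (kf xf15 yf40 zf12) (kf xf6 yf47 zf1) (kf xf7 yf47 zf17) (kf xf17 yf21 zf26) (kf xf17 yf21 zf28) (kf xf7 yf32 zf53) (kf xf12 yf15 zf39) (kf xf9 yf22 zf9) (kf xf17 yf28 zf28) (kf xf17 yf28 zf54) (kf xf4 yf47 zf52) (kf xf14 yf33 zf30) (kf xf17 yf21 zf37) (kf xf6 yf36 zf30) (kf xf14 yf33 zf17) (kf xf17 yf28 zf30) (kf xf17 yf22 zf9)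 (kf xf6 yf17 zf36) (kf xf12 yf52 zf11) (kf xf15 yf40 zf20) (kf xf12 yf15 zf54) (kf xf15 yf40 zf16) (kf xf15 yf40 zf21) (kf xf6 yf37 zf13) (kf xf6 yf37 zf10) (kf xf6 yf11 zf34) (kf xf6 yf37 zf14) (kf xf6 yf42 zf54) (kf xf6 yf42 zf53)) (@D3.rec (fun _ => Pt) (kf xf4 yf48 zf35) (kf xf6 yf27 zf19) (kf xf6 yf37 zf17) (kf xf17 yf29 zf37) (kf xf17 yf29 zf33) (kf xf17 yf29 zf32) (kf xf17 yf29 zf46) (kf xf4 yf48 zf9) (kf xf12 yf56 zf42) (kf xf4 yf48 zf10) (kf xf17 yf27 zf11) (kf xf4 yf48 zf17) (kf xf17 yf27 zf12) (kf xf4 yf48 zf21) (kf xf4 yf48 zf26) (kf xf17 yf27 zf13) (kf xf4 yf57 zf12) (kf xf7 yf50 zf1) (kf xf16 yf51 zf32) (kf xf17 yf29 zf50) (kf xf17 yf29 zf51) (kf xf6 yf50 zf44) (kf xf12 yf32 zf4) (kf xf17 yf29 zf52) (kf xf17 yf30 zf15) (kf xf4 yf48 zf19) (kf xf16 yf30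 zf41) (kf xf6 yf43 zf52) (kf xf12 yf50 zf14) (kf xf13 yf1 zf4) (kf xf11 yf14 zf33) (kf xf14 yf4 zf22) (kf xf12 yf32 zf25) (kf xf17 yf29 zf54) (kf xf17 yf29 zf55) (kf xf12 yf24 zf16) (kf xf17 yf30 zf31) (kf xf17 yf30 zf36) (kf xf4 yf48 zf27) (kf xf6 yf43 zf57) (kf xf6 yf37 zf59) (kf xf6 yf37 zf60) (kf xf6 yf37 zf61) (kf xf6 yf38 zf0) (kf xf6 yf43 zf55) (kf xf6 yf38 zf5) (kf xf6 yf36 zf33) (kf xf17 yf30 zf58) (kf xf17 yf30 zf53) (kf xf17 yf30 zf52) (kf xf17 yf31 zf4) (kf xf4 yf48 zf38) (kf xf4 yf48 zf39) (kf xf4 yf50 zf20) (kf xf6 yf0 zf24) (kf xf4 yf48 zf42) (kf xf5 yf59 zf43) (kf xf5 yf58 zf22) (kf xf6 yf1 zf5) (kf xf5 yf58 zf23) (kf xf17 yf26 zf53) (kf xf5 yf59 zf47)) (@D3.rec (fun _ => Pt) (kf xf5 yf59 zf48) (kf xf17 yf31 zf18) (kf xf17 yf31 zf21) (kf xf6 yf0 zf14)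 (kf xf6 yf0 zf13) (kf xf13 yf9 zf12) (kf xf4 yf48 zf47) (kf xf6 yf0 zf21) (kf xf12 yf32 zf46) (kf xf17 yf31 zf28) (kf xf6 yf0 zf3) (kf xf11 yf26 zf22) (kf xf17 yf4 zf40) (kf xf6 yf1 zf52) (kf xf17 yf31 zf35) (kf xf4 yf48 zf52) (kf xf6 yf0 zf10) (kf xf13 yf6 zf51) (kf xf4 yf59 zf40) (kf xf17 yf31 zf41) (kf xf13 yf6 zf52) (kf xf5 yf59 zf57) (kf xf6 yf49 zf29) (kf xf5 yf59 zf61) (kf xf4 yf48 zf57) (kf xf4 yf49 zf5) (kf xf4 yf49 zf6) (kf xf4 yf49 zf7) (kf xf12 yf56 zf49) (kf xf4 yf49 zf1) (kf xf4 yf49 zf2) (kf xf4 yf49 zf3) (kf xf12 yf32 zf45) (kf xf4 yf49 zf10) (kf xf4 yf49 zf9) (kf xf17 yf31 zf57) (kf xf4 yf48 zf61) (kf xf5 yf55 zf38) (kf xf10 yf45 zf9) (kf xf9 yf50 zf13) (kf xf17 yf32 zf0) (kf xf5 yf59 zf44) (kf xf17 yf31 zf52) (kf xf13 yf8 zf20) (kf xf17 yf31 zf49)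 (kf xf6 yf45 zf25) (kf xf11 yf54 zf35) (kf xf17 yf32 zf14) (kf xf9 yf17 zf14) (kf xf4 yf49 zf4) (kf xf5 yf53 zf25) (kf xf11 yf29 zf29) (kf xf7 yf44 zf10) (kf xf17 yf31 zf47) (kf xf17 yf32 zf25) (kf xf17 yf20 zf49) (kf xf13 yf8 zf21) (kf xf13 yf5 zf48) (kf xf11 yf54 zf34) (kf xf17 yf32 zf36) (kf xf5 yf33 zf43) (kf xf4 yf49 zf8)) (@D3.rec (fun _ => Pt) (kf xf10 yf44 zf33) (kf xf6 yf8 zf46) (kf xf10 yf45 zf13) (kf xf10 yf44 zf32) (kf xf13 yf1 zf21) (kf xf17 yf32 zf49) (kf xf11 yf55 zf37) (kf xf11 yf55 zf39) (kf xf17 yf32 zf58) (kf xf4 yf49 zf11) (kf xf5 yf45 zf1) (kf xf5 yf53 zf35) (kf xf5 yf53 zf36) (kf xf6 yf45 zf41) (kf xf6 yf45 zf42) (kf xf6 yf1 zf47) (kf xf6 yf45 zf46) (kf xf6 yf45 zf47) (kf xf6 yf45 zf48) (kf xf15 yf3 zf56) (kf xf6 yf44 zf57) (kf xf6 yf45 zf28) (kf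 xf17 yf8 zf36) (kf xf6 yf45 zf26) (kf xf6 yf45 zf52) (kf xf16 yf6 zf51) (kf xf6 yf45 zf35) (kf xf6 yf45 zf34) (kf xf4 yf49 zf20) (kf xf5 yf55 zf44) (kf xf6 yf45 zf13) (kf xf16 yf48 zf37) (kf xf6 yf2 zf19) (kf xf6 yf24 zf15) (kf xf17 yf33 zf31) (kf xf6 yf45 zf19) (kf xf6 yf2 zf29) (kf xf17 yf8 zf19) (kf xf4 yf49 zf25) (kf xf6 yf45 zf32) (kf xf12 yf15 zf44) (kf xf6 yf46 zf0) (kf xf6 yf46 zf1) (kf xf6 yf46 zf3) (kf xf10 yf17 zf0) (kf xf6 yf45 zf59) (kf xf4 yf49 zf32) (kf xf6 yf45 zf54) (kf xf8 yf58 zf40) (kf xf6 yf45 zf57) (kf xf6 yf46 zf5) (kf xf6 yf46 zf4) (kf xf4 yf49 zf35) (kf xf6 yf46 zf7) (kf xf17 yf33 zf55) (kf xf17 yf33 zf50) (kf xf15 yf32 zf56) (kf xf6 yf12 zf16) (kf xf4 yf49 zf38) (kf xf11 yf24 zf8) (kf xf5 yf46 zf20) (kf xf6 yf32 zf47)) (@D3.rec (fun _ => Pt)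 (kf xf6 yf43 zf21) (kf xf6 yf43 zf22) (kf xf5 yf48 zf19) (kf xf6 yf47 zf3) (kf xf6 yf47 zf4) (kf xf6 yf47 zf6) (kf xf6 yf47 zf7) (kf xf5 yf0 zf0) (kf xf5 yf0 zf1) (kf xf4 yf58 zf14) (kf xf4 yf59 zf53) (kf xf5 yf0 zf2) (kf xf4 yf57 zf60) (kf xf5 yf48 zf15) (kf xf6 yf47 zf20) (kf xf6 yf47 zf21) (kf xf6 yf47 zf22) (kf xf17 yf34 zf34) (kf xf6 yf46 zf38) (kf xf10 yf49 zf6) (kf xf6 yf46 zf35) (kf xf6 yf47 zf28) (kf xf12 yf18 zf29) (kf xf6 yf46 zf42) (kf xf6 yf46 zf41) (kf xf4 yf49 zf54) (kf xf6 yf47 zf32) (kf xf6 yf47 zf34) (kf xf6 yf47 zf35) (kf xf11 yf55 zf48) (kf xf6 yf46 zf16) (kf xf6 yf50 zf43) (kf xf6 yf42 zf21) (kf xf12 yf56 zf53) (kf xf5 yf50 zf23) (kf xf10 yf52 zf59) (kf xf4 yf50 zf17) (kf xf6 yf26 zf8) (kf xf6 yf47 zf45) (kf xf5 yf4 zf18) (kf xf12 yf18 zf58) (kf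 xf6 yf47 zf41) (kf xf6 yf40 zf21) (kf xf6 yf47 zf51) (kf xf17 yf14 zf55) (kf xf6 yf47 zf52) (kf xf6 yf47 zf50) (kf xf6 yf47 zf49) (kf xf6 yf47 zf46) (kf xf6 yf10 zf49) (kf xf6 yf10 zf47) (kf xf6 yf47 zf57) (kf xf6 yf47 zf54) (kf xf6 yf47 zf55) (kf xf17 yf34 zf49) (kf xf17 yf34 zf50) (kf xf17 yf34 zf51) (kf xf16 yf56 zf53) (kf xf5 yf11 zf2) (kf xf6 yf48 zf10) (kf xf6 yf48 zf11) (kf xf6 yf48 zf12)) (@D3.rec (fun _ => Pt) (kf xf17 yf31 zf5) (kf xf6 yf9 zf26) (kf xf6 yf9 zf27) (kf xf6 yf9 zf28) (kf xf6 yf9 zf29) (kf xf6 yf9 zf30) (kf xf12 yf51 zf8) (kf xf6 yf48 zf46) (kf xf12 yf12 zf13) (kf xf12 yf12 zf14) (kf xf12 yf18 zf5) (kf xf12 yf12 zf16) (kf xf12 yf12 zf17) (kf xf17 yf35 zf37) (kf xf10 yf16 zf49) (kf xf17 yf35 zf41) (kf xf8 yf13 zf11) (kf xf15 yf22 zf19) (kf xf16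 yf19 zf60) (kf xf17 yf35 zf46) (kf xf10 yf33 zf45) (kf xf10 yf33 zf28) (kf xf5 yf38 zf51) (kf xf8 yf27 zf17) (kf xf15 yf17 zf57) (kf xf5 yf36 zf2) (kf xf5 yf36 zf1) (kf xf4 yf50 zf40) (kf xf8 yf6 zf55) (kf xf8 yf6 zf56) (kf xf16 yf16 zf1) (kf xf8 yf6 zf49) (kf xf8 yf6 zf50) (kf xf17 yf36 zf5) (kf xf17 yf36 zf12) (kf xf17 yf36 zf7) (kf xf17 yf36 zf6) (kf xf17 yf36 zf21) (kf xf4 yf50 zf43) (kf xf8 yf6 zf43) (kf xf8 yf6 zf35) (kf xf8 yf2 zf50) (kf xf4 yf50 zf44) (kf xf16 yf7 zf54) (kf xf4 yf51 zf11) (kf xf4 yf51 zf26) (kf xf4 yf51 zf27) (kf xf16 yf8 zf5) (kf xf4 yf51 zf12) (kf xf4 yf51 zf13) (kf xf16 yf9 zf39) (kf xf15 yf23 zf10) (kf xf4 yf51 zf42) (kf xf4 yf51 zf43) (kf xf15 yf23 zf15) (kf xf4 yf51 zf36) (kf xf4 yf51 zf34) (kf xf17 yf36 zf52) (kf xf4 yf51 zf46) (kf xf4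 yf50 zf57) (kf xf17 yf36 zf59) (kf xf17 yf36 zf54)) (@D3.rec (fun _ => Pt) (kf xf17 yf36 zf53) (kf xf9 yf36 zf19) (kf xf4 yf50 zf58) (kf xf17 yf37 zf9) (kf xf8 yf1 zf40) (kf xf15 yf51 zf28) (kf xf15 yf58 zf56) (kf xf8 yf24 zf41) (kf xf15 yf51 zf19) (kf xf4 yf51 zf2) (kf xf8 yf41 zf6) (kf xf8 yf40 zf14) (kf xf15 yf49 zf9) (kf xf8 yf17 zf6) (kf xf4 yf51 zf6) (kf xf15 yf34 zf43) (kf xf9 yf35 zf51) (kf xf16 yf15 zf55) (kf xf8 yf24 zf50) (kf xf8 yf24 zf49) (kf xf4 yf51 zf9) (kf xf16 yf2 zf57) (kf xf9 yf35 zf13) (kf xf17 yf37 zf38) (kf xf16 yf7 zf40) (kf xf9 yf35 zf14) (kf xf8 yf41 zf4) (kf xf17 yf36 zf34) (kf xf17 yf36 zf35) (kf xf17 yf36 zf36) (kf xf17 yf36 zf37) (kf xf17 yf38 zf1) (kf xf7 yf55 zf28) (kf xf17 yf38 zf7) (kf xf16 yf3 zf35) (kf xf17 yf36 zf32) (kf xf17 yf38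 zf14) (kf xf4 yf51 zf14) (kf xf15 yf34 zf50) (kf xf5 yf1 zf45) (kf xf7 yf33 zf31) (kf xf4 yf51 zf16) (kf xf5 yf1 zf34) (kf xf5 yf1 zf35) (kf xf16 yf8 zf47) (kf xf8 yf43 zf13) (kf xf16 yf4 zf8) (kf xf10 yf32 zf42) (kf xf16 yf2 zf61) (kf xf8 yf43 zf9) (kf xf4 yf51 zf22) (kf xf8 yf17 zf2) (kf xf15 yf49 zf6) (kf xf7 yf55 zf32) (kf xf4 yf51 zf25) (kf xf17 yf36 zf26) (kf xf17 yf36 zf27) (kf xf17 yf36 zf28) (kf xf17 yf36 zf29) (kf xf17 yf38 zf47) (kf xf17 yf38 zf49) (kf xf8 yf40 zf34)) (@D3.rec (fun _ => Pt) (kf xf17 yf36 zf40) (kf xf17 yf38 zf55) (kf xf4 yf51 zf28) (kf xf9 yf38 zf52) (kf xf16 yf1 zf7) (kf xf4 yf51 zf31) (kf xf7 yf55 zf27) (kf xf7 yf56 zf0) (kf xf16 yf1 zf22) (kf xf16 yf1 zf23) (kf xf16 yf1 zf19) (kf xf16 yf1 zf24) (kf xf17 yf39 zf14) (kf xf9 yf34 zf22) (kf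 xf9 yf34 zf25) (kf xf17 yf39 zf21) (kf xf16 yf5 zf44) (kf xf17 yf36 zf48) (kf xf17 yf39 zf28) (kf xf4 yf51 zf35) (kf xf15 yf37 zf45) (kf xf11 yf8 zf38) (kf xf9 yf38 zf56) (kf xf9 yf37 zf59) (kf xf17 yf39 zf35) (kf xf10 yf32 zf32) (kf xf10 yf32 zf33) (kf xf16 yf6 zf35) (kf xf17 yf39 zf34) (kf xf9 yf38 zf61) (kf xf17 yf39 zf43) (kf xf4 yf51 zf41) (kf xf17 yf36 zf42) (kf xf17 yf36 zf43) (kf xf17 yf36 zf44) (kf xf17 yf36 zf45) (kf xf13 yf52 zf35) (kf xf17 yf39 zf55) (kf xf9 yf52 zf53) (kf xf17 yf36 zf51) (kf xf15 yf11 zf48) (kf xf4 yf51 zf44) (kf xf9 yf37 zf50) (kf xf12 yf30 zf45) (kf xf16 yf19 zf16) (kf xf4 yf51 zf47) (kf xf16 yf14 zf26) (kf xf16 yf14 zf27) (kf xf16 yf14 zf28) (kf xf16 yf14 zf29) (kf xf17 yf40 zf10) (kf xf9 yf34 zf16) (kf xf17 yf39 zf49) (kf xf17 yf40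 zf15) (kf xf4 yf51 zf51) (kf xf15 yf37 zf39) (kf xf15 yf37 zf40) (kf xf15 yf37 zf41) (kf xf15 yf37 zf42) (kf xf17 yf40 zf28) (kf xf17 yf40 zf31) (kf xf10 yf8 zf49)) (@D3.rec (fun _ => Pt) (kf xf4 yf51 zf54) (kf xf4 yf51 zf57) (kf xf17 yf40 zf38) (kf xf17 yf40 zf41) (kf xf12 yf26 zf47) (kf xf4 yf51 zf55) (kf xf16 yf6 zf54) (kf xf16 yf6 zf55) (kf xf17 yf40 zf32) (kf xf17 yf40 zf48) (kf xf17 yf40 zf47) (kf xf17 yf41 zf0) (kf xf17 yf41 zf3) (kf xf4 yf51 zf58) (kf xf9 yf37 zf25) (kf xf16 yf14 zf21) (kf xf17 yf41 zf14) (kf xf15 yf34 zf47) (kf xf17 yf40 zf51) (kf xf9 yf34 zf1) (kf xf17 yf41 zf25) (kf xf17 yf37 zf8) (kf xf17 yf37 zf7) (kf xf4 yf52 zf1) (kf xf17 yf41 zf32) (kf xf9 yf38 zf35) (kf xf9 yf38 zf36) (kf xf8 yf42 zf24) (kf xf9 yf38 zf37) (kf xf15 yf26 zf2) (kf xf9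 yf38 zf39) (kf xf8 yf42 zf25) (kf xf9 yf38 zf40) (kf xf16 yf9 zf56) (kf xf9 yf38 zf59) (kf xf6 yf22 zf25) (kf xf4 yf52 zf13) (kf xf4 yf52 zf12) (kf xf4 yf52 zf7) (kf xf8 yf39 zf50) (kf xf8 yf40 zf12) (kf xf5 yf43 zf31) (kf xf17 yf42 zf1) (kf xf6 yf22 zf23) (kf xf6 yf22 zf24) (kf xf6 yf22 zf26) (kf xf15 yf45 zf5) (kf xf17 yf41 zf54) (kf xf15 yf29 zf35) (kf xf4 yf52 zf24) (kf xf9 yf37 zf42) (kf xf17 yf41 zf52) (kf xf17 yf41 zf53) (kf xf16 yf9 zf33) (kf xf9 yf37 zf49) (kf xf8 yf59 zf43) (kf xf8 yf40 zf2) (kf xf8 yf40 zf3) (kf xf17 yf13 zf13) (kf xf4 yf52 zf25) (kf xf4 yf52 zf20) (kf xf8 yf39 zf49)) (@D3.rec (fun _ => Pt) (kf xf9 yf38 zf60) (kf xf9 yf43 zf5) (kf xf17 yf13 zf12) (kf xf16 yf6 zf33) (kf xf5 yf2 zf37) (kf xf9 yf37 zf56) (kf xf15 yf38 zf35) (kf xf16 yf9 zf31)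 (kf xf16 yf1 zf33) (kf xf15 yf38 zf34) (kf xf9 yf37 zf22) (kf xf4 yf52 zf36) (kf xf15 yf46 zf20) (kf xf17 yf39 zf46) (kf xf15 yf40 zf24) (kf xf17 yf42 zf53) (kf xf6 yf42 zf1) (kf xf4 yf52 zf32) (kf xf14 yf3 zf30) (kf xf8 yf40 zf25) (kf xf17 yf42 zf42) (kf xf4 yf53 zf11) (kf xf9 yf37 zf10) (kf xf4 yf53 zf38) (kf xf4 yf53 zf9) (kf xf9 yf36 zf14) (kf xf9 yf37 zf28) (kf xf6 yf47 zf47) (kf xf9 yf37 zf26) (kf xf9 yf39 zf15) (kf xf9 yf39 zf16) (kf xf15 yf26 zf6) (kf xf8 yf7 zf56) (kf xf8 yf7 zf57) (kf xf8 yf7 zf58) (kf xf17 yf43 zf14) (kf xf17 yf43 zf17) (kf xf4 yf52 zf47) (kf xf5 yf28 zf4) (kf xf8 yf6 zf38) (kf xf8 yf7 zf37) (kf xf15 yf22 zf0) (kf xf9 yf36 zf50) (kf xf15 yf39 zf34) (kf xf8 yf18 zf9) (kf xf4 yf52 zf54) (kf xf8 yf41 zf15) (kf xf15 yf6 zf43) (kf xf8 yf41 zf14)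 (kf xf9 yf36 zf54) (kf xf9 yf35 zf42) (kf xf9 yf0 zf57) (kf xf17 yf43 zf31) (kf xf11 yf51 zf61) (kf xf15 yf46 zf8) (kf xf17 yf43 zf30) (kf xf9 yf37 zf5) (kf xf4 yf52 zf61) (kf xf8 yf41 zf37) (kf xf9 yf35 zf23) (kf xf8 yf41 zf36) (kf xf8 yf41 zf30)) (@D3.rec (fun _ => Pt) (kf xf8 yf41 zf31) (kf xf8 yf41 zf32) (kf xf8 yf41 zf26) (kf xf8 yf41 zf33) (kf xf17 yf43 zf53) (kf xf17 yf43 zf55) (kf xf17 yf43 zf58) (kf xf4 yf53 zf5) (kf xf8 yf41 zf8) (kf xf8 yf41 zf9) (kf xf8 yf41 zf10) (kf xf8 yf41 zf11) (kf xf17 yf44 zf8) (kf xf17 yf44 zf10) (kf xf17 yf44 zf11) (kf xf4 yf53 zf8) (kf xf15 yf54 zf3) (kf xf15 yf54 zf2) (kf xf6 yf49 zf57) (kf xf15 yf46 zf29) (kf xf15 yf46 zf30) (kf xf15 yf7 zf36) (kf xf15 yf7 zf34) (kf xf15 yf7 zf35) (kf xf15 yf7 zf25) (kf xf17 yf44 zf33) (kf xf8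 yf40 zf60) (kf xf17 yf44 zf37) (kf xf8 yf40 zf41) (kf xf17 yf44 zf41) (kf xf15 yf7 zf1) (kf xf15 yf7 zf0) (kf xf4 yf53 zf15) (kf xf8 yf42 zf30) (kf xf8 yf42 zf27) (kf xf9 yf36 zf25) (kf xf9 yf36 zf26) (kf xf9 yf36 zf28) (kf xf15 yf30 zf4) (kf xf9 yf36 zf30) (kf xf9 yf36 zf32) (kf xf15 yf52 zf52) (kf xf4 yf53 zf23) (kf xf4 yf53 zf22) (kf xf4 yf53 zf19) (kf xf17 yf44 zf61) (kf xf12 yf20 zf10) (kf xf9 yf56 zf10) (kf xf4 yf53 zf21) (kf xf15 yf6 zf41) (kf xf17 yf5 zf16) (kf xf15 yf25 zf59) (kf xf9 yf35 zf3) (kf xf17 yf5 zf12) (kf xf17 yf44 zf60) (kf xf11 yf4 zf52) (kf xf9 yf35 zf22) (kf xf8 yf28 zf39) (kf xf5 yf34 zf56) (kf xf9 yf36 zf34) (kf xf9 yf37 zf0) (kf xf9 yf35 zf29)) (@D3.rec (fun _ => Pt) (kf xf12 yf16 zf5) (kf xf11 yf4 zf48) (kf xf12 yf16 zf6) (kf xf12 yf16 zf7)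 (kf xf6 yf31 zf3) (kf xf6 yf17 zf39) (kf xf16 yf6 zf46) (kf xf16 yf17 zf29) (kf xf16 yf1 zf45) (kf xf17 yf42 zf61) (kf xf9 yf23 zf47) (kf xf13 yf13 zf31) (kf xf12 yf12 zf6) (kf xf16 yf17 zf54) (kf xf12 yf58 zf17) (kf xf9 yf37 zf29) (kf xf9 yf37 zf30) (kf xf15 yf30 zf9) (kf xf5 yf47 zf57) (kf xf5 yf49 zf18) (kf xf5 yf1 zf15) (kf xf5 yf1 zf17) (kf xf8 yf11 zf4) (kf xf17 yf45 zf34) (kf xf17 yf45 zf37) (kf xf17 yf45 zf39) (kf xf10 yf26 zf41) (kf xf10 yf16 zf43) (kf xf9 yf40 zf6) (kf xf9 yf40 zf1) (kf xf17 yf45 zf46) (kf xf17 yf45 zf47) (kf xf10 yf26 zf25) (kf xf9 yf40 zf31) (kf xf15 yf50 zf51) (kf xf9 yf40 zf7) (kf xf9 yf40 zf8) (kf xf17 yf45 zf60) (kf xf4 yf54 zf6) (kf xf9 yf40 zf12) (kf xf9 yf40 zf13) (kf xf17 yf46 zf8) (kf xf5 yf3 zf22) (kf xf5 yf3 zf21) (kf xf4 yf54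 zf8) (kf xf9 yf40 zf21) (kf xf9 yf40 zf22) (kf xf17 yf46 zf20) (kf xf9 yf40 zf18) (kf xf9 yf40 zf19) (kf xf17 yf46 zf26) (kf xf17 yf46 zf31) (kf xf17 yf46 zf28) (kf xf17 yf46 zf27) (kf xf17 yf46 zf22) (kf xf4 yf54 zf11) (kf xf9 yf40 zf30) (kf xf9 yf40 zf29) (kf xf9 yf40 zf5) (kf xf17 yf46 zf44) (kf xf4 yf54 zf12) (kf xf10 yf9 zf39)) (@D3.rec (fun _ => Pt) (kf xf9 yf40 zf35) (kf xf9 yf39 zf29) (kf xf17 yf46 zf54) (kf xf17 yf46 zf56) (kf xf10 yf22 zf24) (kf xf9 yf39 zf58) (kf xf9 yf39 zf28) (kf xf9 yf39 zf35) (kf xf9 yf39 zf36) (kf xf17 yf47 zf7) (kf xf5 yf9 zf37) (kf xf4 yf54 zf21) (kf xf9 yf39 zf39) (kf xf9 yf39 zf40) (kf xf17 yf47 zf18) (kf xf5 yf10 zf57) (kf xf5 yf10 zf56) (kf xf4 yf54 zf23) (kf xf9 yf39 zf48) (kf xf9 yf39 zf49) (kf xf17 yf47 zf28) (kf xf9 yf39 zf45)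 (kf xf9 yf39 zf46) (kf xf17 yf47 zf36) (kf xf17 yf47 zf43) (kf xf17 yf47 zf38) (kf xf17 yf47 zf37) (kf xf9 yf57 zf44) (kf xf4 yf54 zf26) (kf xf9 yf39 zf57) (kf xf9 yf39 zf56) (kf xf9 yf39 zf33) (kf xf17 yf47 zf56) (kf xf4 yf54 zf27) (kf xf9 yf56 zf25) (kf xf9 yf40 zf0) (kf xf4 yf55 zf11) (kf xf4 yf55 zf12) (kf xf13 yf10 zf45) (kf xf4 yf54 zf58) (kf xf4 yf54 zf59) (kf xf16 yf51 zf12) (kf xf4 yf55 zf27) (kf xf4 yf55 zf28) (kf xf17 yf48 zf19) (kf xf4 yf55 zf21) (kf xf4 yf54 zf35) (kf xf4 yf55 zf19) (kf xf17 yf48 zf24) (kf xf4 yf55 zf31) (kf xf4 yf54 zf37) (kf xf4 yf55 zf34) (kf xf4 yf55 zf35) (kf xf17 yf48 zf31) (kf xf17 yf48 zf36) (kf xf17 yf48 zf33) (kf xf17 yf48 zf32) (kf xf5 yf25 zf33) (kf xf4 yf54 zf39) (kf xf4 yf55 zf45) (kf xf10 yf27 zf7) (kf xf15 yf24 zf28)) (@D3.rec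 (fun _ => Pt) (kf xf17 yf48 zf47) (kf xf15 yf36 zf25) (kf xf16 yf38 zf21) (kf xf5 yf35 zf60) (kf xf15 yf35 zf2) (kf xf4 yf54 zf45) (kf xf10 yf9 zf36) (kf xf17 yf48 zf55) (kf xf15 yf36 zf41) (kf xf16 yf43 zf60) (kf xf10 yf36 zf49) (kf xf17 yf49 zf0) (kf xf4 yf54 zf51) (kf xf10 yf35 zf1) (kf xf9 yf42 zf52) (kf xf17 yf49 zf10) (kf xf5 yf36 zf16) (kf xf5 yf36 zf15) (kf xf4 yf54 zf55) (kf xf10 yf35 zf27) (kf xf9 yf42 zf12) (kf xf17 yf49 zf19) (kf xf10 yf35 zf22) (kf xf9 yf42 zf13) (kf xf15 yf25 zf3) (kf xf17 yf48 zf8) (kf xf17 yf48 zf9) (kf xf17 yf48 zf10) (kf xf17 yf48 zf11) (kf xf17 yf49 zf39) (kf xf10 yf23 zf23) (kf xf17 yf49 zf45) (kf xf10 yf35 zf38) (kf xf10 yf35 zf37) (kf xf17 yf49 zf54) (kf xf4 yf54 zf60) (kf xf10 yf35 zf9) (kf xf8 yf13 zf48) (kf xf17 yf49 zf61) (kf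 xf4 yf55 zf0) (kf xf8 yf13 zf38) (kf xf8 yf13 zf39) (kf xf16 yf18 zf58) (kf xf15 yf24 zf60) (kf xf8 yf26 zf35) (kf xf8 yf26 zf36) (kf xf6 yf33 zf14) (kf xf8 yf26 zf47) (kf xf4 yf55 zf7) (kf xf15 yf1 zf14) (kf xf15 yf45 zf21) (kf xf10 yf38 zf8) (kf xf4 yf55 zf10) (kf xf17 yf48 zf2) (kf xf17 yf48 zf3) (kf xf17 yf48 zf4) (kf xf17 yf48 zf5) (kf xf13 yf10 zf41) (kf xf17 yf50 zf26) (kf xf10 yf37 zf44) (kf xf10 yf37 zf41) (kf xf6 yf2 zf30)) (@D3.rec (fun _ => Pt) (kf xf4 yf55 zf13) (kf xf16 yf51 zf13) (kf xf15 yf3 zf22) (kf xf16 yf40 zf44) (kf xf9 yf56 zf52) (kf xf4 yf55 zf16) (kf xf10 yf23 zf22) (kf xf15 yf25 zf10) (kf xf16 yf40 zf55) (kf xf16 yf40 zf56) (kf xf16 yf40 zf53) (kf xf16 yf40 zf57) (kf xf9 yf41 zf20) (kf xf9 yf41 zf23) (kf xf17 yf50 zf56) (kf xf16 yf45 zf53) (kf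 xf15 yf19 zf39) (kf xf4 yf55 zf20) (kf xf10 yf38 zf50) (kf xf17 yf46 zf51) (kf xf10 yf38 zf49) (kf xf15 yf3 zf25) (kf xf15 yf25 zf36) (kf xf9 yf56 zf53) (kf xf8 yf26 zf49) (kf xf8 yf26 zf50) (kf xf16 yf46 zf49) (kf xf8 yf26 zf61) (kf xf8 yf26 zf60) (kf xf4 yf55 zf26) (kf xf17 yf48 zf14) (kf xf17 yf33 zf42) (kf xf17 yf48 zf15) (kf xf17 yf48 zf16) (kf xf17 yf51 zf22) (kf xf17 yf51 zf24) (kf xf15 yf20 zf27) (kf xf17 yf48 zf22) (kf xf17 yf51 zf31) (kf xf4 yf55 zf29) (kf xf15 yf3 zf26) (kf xf15 yf25 zf26) (kf xf17 yf48 zf25) (kf xf8 yf13 zf25) (kf xf17 yf51 zf40) (kf xf4 yf55 zf32) (kf xf17 yf48 zf26) (kf xf17 yf48 zf27) (kf xf17 yf48 zf28) (kf xf9 yf51 zf32) (kf xf17 yf48 zf29) (kf xf17 yf51 zf58) (kf xf9 yf41 zf14) (kf xf17 yf51 zf61) (kf xf17 yf52 zf1) (kf xf4 yf55 zf36)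 (kf xf10 yf38 zf43) (kf xf10 yf38 zf44) (kf xf10 yf38 zf45) (kf xf10 yf38 zf46) (kf xf12 yf25 zf27) (kf xf9 yf55 zf47)) (@D3.rec (fun _ => Pt) (kf xf17 yf52 zf10) (kf xf4 yf55 zf39) (kf xf4 yf55 zf42) (kf xf9 yf57 zf11) (kf xf11 yf51 zf15) (kf xf9 yf37 zf1) (kf xf15 yf46 zf24) (kf xf9 yf58 zf51) (kf xf9 yf43 zf38) (kf xf9 yf43 zf37) (kf xf4 yf55 zf43) (kf xf17 yf48 zf45) (kf xf17 yf48 zf41) (kf xf10 yf35 zf6) (kf xf10 yf27 zf40) (kf xf5 yf21 zf3) (kf xf17 yf52 zf26) (kf xf10 yf26 zf56) (kf xf4 yf55 zf48) (kf xf9 yf58 zf52) (kf xf15 yf25 zf56) (kf xf10 yf42 zf41) (kf xf15 yf25 zf57) (kf xf15 yf25 zf58) (kf xf11 yf4 zf49) (kf xf9 yf57 zf37) (kf xf8 yf27 zf15) (kf xf15 yf25 zf60) (kf xf15 yf25 zf61) (kf xf8 yf26 zf53) (kf xf8 yf8 zf21) (kf xf8 yf28 zf5) (kf xf8 yf8 zf20)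 (kf xf17 yf35 zf59) (kf xf9 yf53 zf11) (kf xf15 yf2 zf16) (kf xf10 yf14 zf39) (kf xf9 yf43 zf9) (kf xf9 yf43 zf8) (kf xf9 yf57 zf19) (kf xf9 yf57 zf20) (kf xf8 yf27 zf52) (kf xf14 yf50 zf30) (kf xf4 yf56 zf6) (kf xf4 yf56 zf5) (kf xf4 yf56 zf1) (kf xf8 yf39 zf11) (kf xf8 yf39 zf24) (kf xf17 yf53 zf4) (kf xf15 yf20 zf30) (kf xf15 yf20 zf24) (kf xf14 yf50 zf28) (kf xf4 yf56 zf4) (kf xf10 yf56 zf38) (kf xf10 yf39 zf46) (kf xf15 yf49 zf1) (kf xf16 yf41 zf1) (kf xf10 yf39 zf45) (kf xf15 yf2 zf29) (kf xf9 yf51 zf5) (kf xf4 yf56 zf17) (kf xf4 yf56 zf18)) (@D3.rec (fun _ => Pt) (kf xf4 yf56 zf19) (kf xf9 yf51 zf13) (kf xf10 yf41 zf19) (kf xf10 yf41 zf36) (kf xf17 yf53 zf25) (kf xf6 yf45 zf58) (kf xf10 yf16 zf60) (kf xf17 yf8 zf48) (kf xf8 yf57 zf36) (kf xf10 yf55 zf24) (kf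 xf4 yf56 zf14) (kf xf12 yf56 zf43) (kf xf4 yf56 zf15) (kf xf10 yf54 zf47) (kf xf10 yf41 zf20) (kf xf10 yf58 zf47) (kf xf17 yf53 zf17) (kf xf11 yf31 zf25) (kf xf15 yf8 zf56) (kf xf11 yf31 zf28) (kf xf10 yf53 zf3) (kf xf11 yf57 zf32) (kf xf11 yf57 zf33) (kf xf11 yf22 zf49) (kf xf11 yf31 zf5) (kf xf11 yf22 zf41) (kf xf10 yf54 zf45) (kf xf10 yf54 zf44) (kf xf15 yf26 zf8) (kf xf8 yf28 zf38) (kf xf9 yf58 zf6) (kf xf15 yf3 zf46) (kf xf11 yf4 zf19) (kf xf8 yf5 zf2) (kf xf8 yf10 zf26) (kf xf7 yf8 zf21) (kf xf5 yf49 zf12) (kf xf12 yf5 zf3) (kf xf15 yf10 zf16) (kf xf8 yf43 zf5) (kf xf6 yf15 zf26) (kf xf6 yf15 zf30) (kf xf12 yf22 zf4) (kf xf8 yf12 zf19) (kf xf15 yf3 zf48) (kf xf9 yf8 zf53) (kf xf7 yf39 zf14) (kf xf11 yf32 zf31) (kf xf8 yf36 zf60) (kf xf8 yf42 zf39) (kf xf8 yf42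 zf40) (kf xf8 yf42 zf41) (kf xf8 yf42 zf17) (kf xf17 yf54 zf9) (kf xf17 yf54 zf12) (kf xf8 yf41 zf7) (kf xf17 yf54 zf18) (kf xf4 yf56 zf48) (kf xf8 yf42 zf54) (kf xf8 yf42 zf58) (kf xf17 yf54 zf26) (kf xf8 yf42 zf19)) (@D3.rec (fun _ => Pt) (kf xf17 yf54 zf31) (kf xf8 yf43 zf32) (kf xf8 yf43 zf31) (kf xf4 yf56 zf56) (kf xf11 yf13 zf29) (kf xf8 yf41 zf57) (kf xf17 yf54 zf42) (kf xf8 yf43 zf58) (kf xf8 yf43 zf57) (kf xf4 yf56 zf60) (kf xf8 yf38 zf11) (kf xf17 yf54 zf49) (kf xf4 yf58 zf15) (kf xf4 yf57 zf22) (kf xf16 yf21 zf40) (kf xf11 yf7 zf17) (kf xf10 yf31 zf38) (kf xf17 yf29 zf58) (kf xf11 yf7 zf5) (kf xf11 yf16 zf46) (kf xf11 yf6 zf26) (kf xf17 yf29 zf59) (kf xf11 yf6 zf37) (kf xf17 yf55 zf1) (kf xf11 yf16 zf48) (kf xf6 yf8 zf53) (kf xf15 yf43 zf41) (kf xf15 yf45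 zf51) (kf xf13 yf55 zf35) (kf xf4 yf57 zf11) (kf xf16 yf51 zf50) (kf xf11 yf13 zf21) (kf xf6 yf15 zf32) (kf xf15 yf3 zf53) (kf xf7 yf33 zf47) (kf xf6 yf15 zf24) (kf xf15 yf3 zf60) (kf xf17 yf55 zf14) (kf xf11 yf6 zf27) (kf xf17 yf55 zf17) (kf xf17 yf54 zf51) (kf xf17 yf54 zf52) (kf xf17 yf55 zf26) (kf xf16 yf51 zf51) (kf xf12 yf31 zf57) (kf xf4 yf57 zf23) (kf xf7 yf25 zf22) (kf xf5 yf44 zf44) (kf xf13 yf59 zf5) (kf xf4 yf57 zf40) (kf xf4 yf57 zf39) (kf xf4 yf57 zf29) (kf xf12 yf31 zf46) (kf xf7 yf25 zf54) (kf xf7 yf25 zf60) (kf xf12 yf31 zf47) (kf xf12 yf8 zf54) (kf xf7 yf29 zf10) (kf xf7 yf29 zf11) (kf xf13 yf54 zf31) (kf xf15 yf3 zf43) (kf xf13 yf58 zf28)) (@D3.rec (fun _ => Pt) (kf xf15 yf3 zf44) (kf xf17 yf55 zf50) (kf xf16 yf2 zf35) (kf xf5 yf44 zf5) (kf xf12 yf13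 zf42) (kf xf4 yf57 zf36) (kf xf11 yf19 zf57) (kf xf13 yf57 zf33) (kf xf4 yf57 zf37) (kf xf17 yf55 zf59) (kf xf16 yf55 zf29) (kf xf17 yf55 zf31) (kf xf11 yf24 zf26) (kf xf17 yf55 zf28) (kf xf17 yf55 zf29) (kf xf17 yf55 zf30) (kf xf13 yf58 zf42) (kf xf4 yf57 zf42) (kf xf12 yf31 zf52) (kf xf17 yf54 zf47) (kf xf17 yf34 zf24) (kf xf5 yf0 zf4) (kf xf4 yf58 zf61) (kf xf5 yf0 zf5) (kf xf5 yf0 zf6) (kf xf5 yf0 zf7) (kf xf11 yf19 zf21) (kf xf11 yf26 zf53) (kf xf15 yf3 zf41) (kf xf15 yf3 zf42) (kf xf17 yf56 zf34) (kf xf11 yf26 zf28) (kf xf17 yf56 zf32) (kf xf10 yf18 zf12) (kf xf4 yf57 zf49) (kf xf6 yf23 zf22) (kf xf5 yf40 zf3) (kf xf9 yf58 zf0) (kf xf6 yf12 zf29) (kf xf5 yf40 zf16) (kf xf5 yf38 zf13) (kf xf12 yf4 zf38) (kf xf15 yf4 zf34) (kf xf11 yf48 zf43) (kf xf5 yf38 zf31)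 (kf xf5 yf36 zf24) (kf xf5 yf36 zf21) (kf xf10 yf6 zf49) (kf xf15 yf4 zf35) (kf xf15 yf4 zf36) (kf xf11 yf12 zf49) (kf xf11 yf55 zf46) (kf xf11 yf10 zf41) (kf xf12 yf55 zf42) (kf xf5 yf0 zf27) (kf xf8 yf47 zf19) (kf xf8 yf47 zf20) (kf xf16 yf24 zf14) (kf xf8 yf47 zf16) (kf xf8 yf47 zf17) (kf xf17 yf57 zf6) (kf xf8 yf47 zf23)) (@D3.rec (fun _ => Pt) (kf xf8 yf47 zf22) (kf xf17 yf57 zf13) (kf xf4 yf58 zf2) (kf xf8 yf0 zf10) (kf xf8 yf47 zf28) (kf xf8 yf47 zf29) (kf xf17 yf57 zf23) (kf xf8 yf47 zf26) (kf xf17 yf57 zf27) (kf xf8 yf47 zf34) (kf xf17 yf57 zf33) (kf xf13 yf43 zf33) (kf xf8 yf47 zf38) (kf xf8 yf47 zf37) (kf xf16 yf27 zf28) (kf xf17 yf57 zf14) (kf xf8 yf47 zf48) (kf xf17 yf57 zf42) (kf xf4 yf59 zf16) (kf xf17 yf34 zf18) (kf xf17 yf34 zf19) (kf xf17 yf54 zf50)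 (kf xf10 yf19 zf2) (kf xf6 yf8 zf2) (kf xf17 yf5 zf60) (kf xf17 yf57 zf47) (kf xf5 yf51 zf29) (kf xf16 yf29 zf26) (kf xf14 yf12 zf51) (kf xf4 yf58 zf23) (kf xf5 yf7 zf45) (kf xf5 yf7 zf31) (kf xf15 yf26 zf29) (kf xf5 yf7 zf55) (kf xf16 yf29 zf27) (kf xf10 yf17 zf11) (kf xf4 yf58 zf26) (kf xf11 yf55 zf40) (kf xf4 yf58 zf30) (kf xf17 yf57 zf56) (kf xf6 yf51 zf56) (kf xf11 yf24 zf12) (kf xf17 yf57 zf60) (kf xf5 yf51 zf36) (kf xf4 yf58 zf36) (kf xf11 yf40 zf34) (kf xf9 yf49 zf13) (kf xf17 yf58 zf3) (kf xf9 yf49 zf14) (kf xf17 yf58 zf5) (kf xf11 yf36 zf21) (kf xf4 yf58 zf39) (kf xf11 yf40 zf29) (kf xf11 yf40 zf27) (kf xf17 yf58 zf11) (kf xf10 yf18 zf60) (kf xf4 yf58 zf41) (kf xf12 yf29 zf42) (kf xf17 yf58 zf12) (kf xf10 yf19 zf3) (kf xf12 yf30 zf56) (kf xf4 yf58 zf44)) (@D3.rec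 (fun _ => Pt) (kf xf12 yf29 zf43) (kf xf6 yf50 zf45) (kf xf13 yf1 zf56) (kf xf10 yf18 zf45) (kf xf17 yf58 zf20) (kf xf6 yf50 zf33) (kf xf11 yf58 zf13) (kf xf16 yf59 zf5) (kf xf9 yf48 zf14) (kf xf11 yf34 zf5) (kf xf11 yf20 zf42) (kf xf12 yf5 zf31) (kf xf17 yf58 zf27) (kf xf8 yf49 zf1) (kf xf9 yf48 zf8) (kf xf9 yf8 zf45) (kf xf5 yf52 zf23) (kf xf14 yf19 zf61) (kf xf4 yf58 zf58) (kf xf11 yf27 zf33) (kf xf12 yf5 zf32) (kf xf5 yf52 zf27) (kf xf11 yf42 zf31) (kf xf12 yf29 zf14) (kf xf11 yf42 zf61) (kf xf15 yf22 zf33) (kf xf9 yf10 zf11) (kf xf9 yf15 zf25) (kf xf12 yf2 zf9) (kf xf9 yf15 zf24) (kf xf11 yf42 zf12) (kf xf11 yf42 zf10) (kf xf17 yf58 zf48) (kf xf4 yf59 zf2) (kf xf12 yf29 zf30) (kf xf5 yf32 zf40) (kf xf17 yf56 zf4) (kf xf16 yf59 zf3) (kf xf14 yf32 zf52) (kf xf4 yf59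 zf4) (kf xf11 yf47 zf38) (kf xf11 yf55 zf41) (kf xf11 yf47 zf26) (kf xf11 yf28 zf20) (kf xf11 yf42 zf19) (kf xf17 yf59 zf2) (kf xf17 yf59 zf6) (kf xf4 yf59 zf8) (kf xf17 yf58 zf54) (kf xf11 yf33 zf30) (kf xf4 yf59 zf33) (kf xf9 yf12 zf0) (kf xf10 yf57 zf15) (kf xf12 yf17 zf3) (kf xf4 yf59 zf39) (kf xf12 yf16 zf9) (kf xf12 yf16 zf8) (kf xf17 yf59 zf18) (kf xf4 yf59 zf49) (kf xf17 yf59 zf23) (kf xf4 yf59 zf17) (kf xf4 yf59 zf58)) (@D3.rec (fun _ => Pt) (kf xf4 yf59 zf59) (kf xf4 yf59 zf55) (kf xf4 yf59 zf56) (kf xf5 yf48 zf30) (kf xf12 yf53 zf40) (kf xf17 yf59 zf33) (kf xf4 yf59 zf21) (kf xf11 yf40 zf28) (kf xf9 yf59 zf51) (kf xf9 yf59 zf7) (kf xf12 yf43 zf1) (kf xf11 yf49 zf0) (kf xf17 yf59 zf37) (kf xf9 yf47 zf46) (kf xf9 yf47 zf48) (kf xf15 yf25 zf0) (kf xf17 yf7 zf30)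 (kf xf12 yf42 zf57) (kf xf17 yf59 zf47) (kf xf4 yf59 zf26) (kf xf11 yf43 zf50) (kf xf12 yf25 zf35) (kf xf10 yf57 zf3) (kf xf17 yf59 zf55) (kf xf4 yf59 zf28) (kf xf17 yf0 zf22) (kf xf17 yf7 zf51) (kf xf11 yf49 zf51) (kf xf4 yf59 zf32) (kf xf12 yf24 zf7) (kf xf9 yf12 zf7) (kf xf14 yf6 zf38) (kf xf9 yf12 zf3) (kf xf18 yf0 zf2) (kf xf17 yf8 zf0) (kf xf17 yf31 zf6) (kf xf18 yf0 zf9) (kf xf4 yf59 zf35) (kf xf11 yf45 zf14) (kf xf11 yf44 zf56) (kf xf4 yf59 zf37) (kf xf14 yf12 zf25) (kf xf14 yf12 zf22) (kf xf14 yf32 zf8) (kf xf11 yf28 zf6) (kf xf18 yf0 zf20) (kf xf18 yf0 zf24) (kf xf18 yf0 zf28) (kf xf4 yf59 zf41) (kf xf9 yf25 zf26) (kf xf9 yf25 zf29) (kf xf11 yf43 zf46) (kf xf12 yf3 zf13) (kf xf18 yf0 zf30) (kf xf12 yf3 zf12) (kf xf4 yf59 zf44) (kf xf17 yf12 zf54) (kf xf18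 yf0 zf33) (kf xf8 yf48 zf2) (kf xf18 yf0 zf35) (kf xf17 yf23 zf46) (kf xf17 yf23 zf45)) (@D3.rec (fun _ => Pt) (kf xf18 yf0 zf44) (kf xf4 yf59 zf47) (kf xf18 yf0 zf45) (kf xf17 yf19 zf46) (kf xf17 yf59 zf19) (kf xf14 yf11 zf27) (kf xf11 yf46 zf39) (kf xf11 yf46 zf40) (kf xf17 yf59 zf21) (kf xf17 yf59 zf20) (kf xf18 yf1 zf9) (kf xf4 yf59 zf51) (kf xf17 yf34 zf20) (kf xf9 yf30 zf39) (kf xf17 yf34 zf21) (kf xf5 yf48 zf16) (kf xf17 yf6 zf8) (kf xf18 yf1 zf20) (kf xf11 yf40 zf30) (kf xf11 yf38 zf30) (kf xf17 yf59 zf25) (kf xf12 yf43 zf24) (kf xf12 yf31 zf42) (kf xf11 yf31 zf58) (kf xf5 yf50 zf36) (kf xf4 yf59 zf57) (kf xf11 yf48 zf19) (kf xf17 yf0 zf23) (kf xf12 yf31 zf40) (kf xf17 yf59 zf24) (kf xf6 yf42 zf13) (kf xf11 yf30 zf56) (kf xf6 yf39 zf27) (kf xf17 yf34 zf17) (kf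 xf12 yf25 zf41) (kf xf10 yf43 zf18) (kf xf10 yf43 zf16) (kf xf10 yf57 zf22) (kf xf17 yf34 zf22) (kf xf11 yf56 zf3) (kf xf17 yf34 zf23) (kf xf15 yf4 zf45) (kf xf15 yf22 zf32) (kf xf16 yf57 zf56) (kf xf16 yf59 zf18) (kf xf18 yf1 zf52) (kf xf16 yf59 zf19) (kf xf18 yf1 zf58) (kf xf11 yf32 zf29) (kf xf11 yf32 zf26) (kf xf17 yf56 zf24) (kf xf11 yf43 zf9) (kf xf15 yf5 zf41) (kf xf10 yf6 zf61) (kf xf5 yf50 zf39) (kf xf9 yf59 zf13) (kf xf11 yf31 zf29) (kf xf10 yf12 zf9) (kf xf5 yf0 zf12) (kf xf15 yf5 zf28) (kf xf5 yf48 zf17) (kf xf8 yf49 zf56)) (@D3.rec (fun _ => Pt) (kf xf15 yf5 zf38) (kf xf15 yf5 zf39) (kf xf8 yf49 zf37) (kf xf8 yf49 zf47) (kf xf6 yf16 zf49) (kf xf9 yf43 zf59) (kf xf12 yf55 zf41) (kf xf5 yf51 zf49) (kf xf11 yf51 zf57) (kf xf11 yf51 zf56) (kf xf5 yf0 zf24)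 (kf xf11 yf51 zf54) (kf xf16 yf30 zf1) (kf xf9 yf44 zf1) (kf xf5 yf0 zf26) (kf xf17 yf56 zf53) (kf xf17 yf56 zf54) (kf xf17 yf56 zf55) (kf xf6 yf13 zf29) (kf xf12 yf56 zf29) (kf xf11 yf6 zf48) (kf xf6 yf16 zf17) (kf xf6 yf15 zf51) (kf xf6 yf15 zf12) (kf xf8 yf51 zf53) (kf xf18 yf2 zf38) (kf xf8 yf51 zf56) (kf xf18 yf2 zf39) (kf xf18 yf2 zf40) (kf xf5 yf24 zf30) (kf xf5 yf24 zf31) (kf xf18 yf2 zf44) (kf xf9 yf42 zf49) (kf xf9 yf51 zf44) (kf xf18 yf2 zf51) (kf xf11 yf2 zf35) (kf xf11 yf2 zf36) (kf xf11 yf2 zf37) (kf xf8 yf39 zf6) (kf xf5 yf23 zf28) (kf xf9 yf51 zf50) (kf xf16 yf10 zf15) (kf xf8 yf54 zf14) (kf xf8 yf53 zf41) (kf xf9 yf51 zf33) (kf xf18 yf3 zf6) (kf xf16 yf49 zf51) (kf xf16 yf41 zf15) (kf xf16 yf49 zf52) (kf xf16 yf49 zf53) (kf xf9 yf51 zf40) (kf xf18 yf3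 zf17) (kf xf5 yf1 zf3) (kf xf5 yf1 zf7) (kf xf5 yf1 zf24) (kf xf5 yf1 zf25) (kf xf5 yf1 zf9) (kf xf5 yf1 zf10) (kf xf15 yf19 zf51) (kf xf5 yf1 zf41) (kf xf5 yf1 zf42) (kf xf18 yf3 zf38)) (@D3.rec (fun _ => Pt) (kf xf5 yf1 zf37) (kf xf5 yf0 zf50) (kf xf5 yf1 zf50) (kf xf5 yf1 zf51) (kf xf18 yf3 zf48) (kf xf5 yf1 zf47) (kf xf5 yf1 zf48) (kf xf18 yf3 zf55) (kf xf18 yf3 zf60) (kf xf18 yf3 zf57) (kf xf18 yf3 zf56) (kf xf9 yf54 zf37) (kf xf5 yf0 zf53) (kf xf5 yf1 zf59) (kf xf5 yf1 zf58) (kf xf18 yf4 zf13) (kf xf8 yf4 zf35) (kf xf5 yf17 zf19) (kf xf18 yf4 zf17) (kf xf15 yf50 zf53) (kf xf5 yf17 zf29) (kf xf15 yf30 zf53) (kf xf5 yf18 zf13) (kf xf18 yf4 zf24) (kf xf10 yf10 zf15) (kf xf15 yf30 zf51) (kf xf5 yf0 zf61) (kf xf15 yf14 zf30) (kf xf18 yf4 zf30) (kf xf5 yf1 zf2) (kf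 xf18 yf3 zf18) (kf xf9 yf54 zf2) (kf xf18 yf4 zf40) (kf xf10 yf10 zf21) (kf xf10 yf10 zf20) (kf xf5 yf1 zf4) (kf xf10 yf10 zf18) (kf xf9 yf54 zf3) (kf xf10 yf8 zf6) (kf xf18 yf3 zf19) (kf xf9 yf53 zf30) (kf xf18 yf4 zf55) (kf xf15 yf7 zf3) (kf xf9 yf53 zf31) (kf xf10 yf8 zf2) (kf xf18 yf3 zf24) (kf xf18 yf3 zf25) (kf xf18 yf3 zf26) (kf xf18 yf3 zf27) (kf xf18 yf5 zf9) (kf xf5 yf19 zf46) (kf xf16 yf16 zf33) (kf xf14 yf58 zf18) (kf xf9 yf35 zf38) (kf xf5 yf1 zf11) (kf xf10 yf10 zf48) (kf xf10 yf7 zf53) (kf xf10 yf7 zf56) (kf xf18 yf5 zf16) (kf xf9 yf3 zf6) (kf xf9 yf3 zf17) (kf xf15 yf23 zf11)) (@D3.rec (fun _ => Pt) (kf xf5 yf1 zf18) (kf xf10 yf19 zf51) (kf xf15 yf19 zf50) (kf xf8 yf8 zf2) (kf xf18 yf3 zf20) (kf xf18 yf3 zf21) (kf xf18 yf3 zf22) (kf xf18 yf3 zf23) (kf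 xf18 yf5 zf32) (kf xf10 yf7 zf40) (kf xf5 yf1 zf26) (kf xf9 yf43 zf34) (kf xf5 yf2 zf18) (kf xf10 yf11 zf30) (kf xf11 yf4 zf34) (kf xf15 yf23 zf14) (kf xf11 yf4 zf35) (kf xf11 yf4 zf36) (kf xf5 yf18 zf4) (kf xf5 yf18 zf5) (kf xf10 yf11 zf53) (kf xf15 yf30 zf58) (kf xf5 yf1 zf32) (kf xf5 yf19 zf45) (kf xf8 yf5 zf38) (kf xf17 yf38 zf18) (kf xf17 yf38 zf19) (kf xf14 yf15 zf21) (kf xf17 yf38 zf20) (kf xf7 yf33 zf5) (kf xf9 yf52 zf40) (kf xf9 yf52 zf43) (kf xf18 yf6 zf8) (kf xf18 yf3 zf36) (kf xf18 yf3 zf35) (kf xf18 yf6 zf17) (kf xf5 yf1 zf36) (kf xf18 yf3 zf39) (kf xf11 yf2 zf44) (kf xf10 yf12 zf12) (kf xf10 yf12 zf13) (kf xf10 yf8 zf48) (kf xf17 yf45 zf38) (kf xf10 yf12 zf31) (kf xf5 yf1 zf40) (kf xf16 yf22 zf59) (kf xf18 yf3 zf30) (kf xf18 yf3 zf31) (kf xf18 yf3 zf32)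 (kf xf9 yf53 zf53) (kf xf18 yf6 zf32) (kf xf17 yf38 zf17) (kf xf16 yf22 zf55) (kf xf9 yf53 zf49) (kf xf5 yf1 zf43) (kf xf10 yf12 zf49) (kf xf10 yf8 zf35) (kf xf17 yf38 zf16) (kf xf18 yf3 zf49) (kf xf18 yf3 zf50) (kf xf18 yf3 zf51) (kf xf15 yf0 zf38)) (@D3.rec (fun _ => Pt) (kf xf18 yf3 zf52) (kf xf18 yf6 zf59) (kf xf9 yf52 zf31) (kf xf9 yf52 zf37) (kf xf18 yf7 zf5) (kf xf18 yf7 zf9) (kf xf5 yf1 zf49) (kf xf18 yf3 zf41) (kf xf18 yf3 zf42) (kf xf18 yf3 zf43) (kf xf18 yf3 zf44) (kf xf18 yf7 zf25) (kf xf18 yf7 zf28) (kf xf16 yf20 zf31) (kf xf5 yf1 zf52) (kf xf5 yf1 zf55) (kf xf5 yf1 zf54) (kf xf10 yf30 zf15) (kf xf18 yf1 zf11) (kf xf18 yf7 zf41) (kf xf18 yf7 zf42) (kf xf5 yf1 zf53) (kf xf18 yf7 zf31) (kf xf5 yf18 zf40) (kf xf18 yf7 zf32) (kf xf13 yf20 zf0) (kf xf18 yf7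 zf29) (kf xf18 yf7 zf52) (kf xf18 yf7 zf51) (kf xf18 yf8 zf2) (kf xf18 yf8 zf4) (kf xf5 yf1 zf56) (kf xf10 yf9 zf18) (kf xf18 yf4 zf9) (kf xf16 yf16 zf23) (kf xf18 yf4 zf8) (kf xf18 yf8 zf20) (kf xf9 yf52 zf11) (kf xf18 yf8 zf27) (kf xf18 yf4 zf12) (kf xf18 yf4 zf11) (kf xf5 yf1 zf61) (kf xf18 yf8 zf35) (kf xf10 yf9 zf26) (kf xf10 yf9 zf27) (kf xf10 yf9 zf28) (kf xf10 yf9 zf29) (kf xf10 yf9 zf30) (kf xf10 yf9 zf31) (kf xf15 yf3 zf21) (kf xf10 yf9 zf34) (kf xf10 yf10 zf52) (kf xf10 yf10 zf53) (kf xf18 yf8 zf60) (kf xf10 yf10 zf57) (kf xf10 yf10 zf29) (kf xf5 yf2 zf5) (kf xf5 yf15 zf23) (kf xf10 yf10 zf54) (kf xf10 yf10 zf55) (kf xf18 yf9 zf10) (kf xf5 yf2 zf49)) (@D3.rec (fun _ => Pt) (kf xf5 yf2 zf8) (kf xf10 yf10 zf59) (kf xf9 yf57 zf29) (kf xf18 yf9 zf16) (kf xf9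 yf55 zf5) (kf xf9 yf55 zf4) (kf xf18 yf9 zf20) (kf xf10 yf11 zf0) (kf xf10 yf11 zf1) (kf xf10 yf11 zf2) (kf xf10 yf11 zf3) (kf xf17 yf42 zf35) (kf xf18 yf9 zf40) (kf xf17 yf45 zf58) (kf xf17 yf45 zf57) (kf xf18 yf9 zf49) (kf xf5 yf2 zf13) (kf xf15 yf48 zf42) (kf xf15 yf48 zf46) (kf xf10 yf7 zf24) (kf xf15 yf48 zf51) (kf xf10 yf10 zf17) (kf xf10 yf7 zf33) (kf xf10 yf7 zf34) (kf xf18 yf5 zf36) (kf xf10 yf7 zf31) (kf xf10 yf7 zf30) (kf xf10 yf10 zf30) (kf xf10 yf10 zf31) (kf xf10 yf10 zf32) (kf xf9 yf59 zf4) (kf xf18 yf10 zf12) (kf xf12 yf12 zf25) (kf xf10 yf10 zf27) (kf xf10 yf10 zf26) (kf xf9 yf59 zf12) (kf xf5 yf2 zf21) (kf xf10 yf9 zf52) (kf xf10 yf2 zf17) (kf xf10 yf2 zf16) (kf xf10 yf10 zf22) (kf xf10 yf10 zf23) (kf xf10 yf10 zf24) (kf xf9 yf59 zf6) (kf xf10 yf11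 zf28) (kf xf10 yf11 zf29) (kf xf10 yf2 zf22) (kf xf9 yf42 zf61) (kf xf10 yf2 zf23) (kf xf10 yf2 zf21) (kf xf9 yf57 zf56) (kf xf18 yf10 zf28) (kf xf12 yf38 zf42) (kf xf9 yf58 zf2) (kf xf5 yf2 zf30) (kf xf10 yf2 zf12) (kf xf10 yf2 zf13) (kf xf10 yf2 zf14) (kf xf10 yf2 zf6) (kf xf9 yf57 zf58) (kf xf12 yf15 zf18) (kf xf10 yf11 zf15)) (@D3.rec (fun _ => Pt) (kf xf10 yf11 zf16) (kf xf9 yf57 zf50) (kf xf13 yf30 zf18) (kf xf10 yf11 zf18) (kf xf10 yf11 zf19) (kf xf9 yf57 zf51) (kf xf18 yf10 zf54) (kf xf17 yf42 zf24) (kf xf10 yf11 zf23) (kf xf9 yf10 zf1) (kf xf9 yf38 zf47) (kf xf17 yf42 zf34) (kf xf17 yf16 zf31) (kf xf10 yf3 zf61) (kf xf10 yf3 zf58) (kf xf5 yf2 zf38) (kf xf10 yf2 zf39) (kf xf10 yf2 zf36) (kf xf10 yf2 zf40) (kf xf10 yf7 zf52) (kf xf10 yf10 zf50) (kf xf10 yf10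 zf49) (kf xf10 yf10 zf51) (kf xf7 yf57 zf35) (kf xf7 yf57 zf36) (kf xf9 yf40 zf34) (kf xf10 yf9 zf40) (kf xf10 yf9 zf41) (kf xf18 yf9 zf11) (kf xf10 yf9 zf48) (kf xf10 yf9 zf49) (kf xf10 yf11 zf9) (kf xf10 yf9 zf56) (kf xf10 yf9 zf57) (kf xf18 yf11 zf44) (kf xf10 yf9 zf51) (kf xf5 yf2 zf54) (kf xf10 yf9 zf59) (kf xf9 yf58 zf25) (kf xf10 yf11 zf6) (kf xf10 yf9 zf61) (kf xf9 yf58 zf26) (kf xf18 yf11 zf61) (kf xf10 yf10 zf1) (kf xf10 yf10 zf2) (kf xf10 yf10 zf3) (kf xf10 yf10 zf4) (kf xf18 yf12 zf15) (kf xf18 yf12 zf19) (kf xf10 yf10 zf60) (kf xf18 yf12 zf25) (kf xf5 yf2 zf59) (kf xf9 yf42 zf4) (kf xf9 yf42 zf23) (kf xf15 yf24 zf43) (kf xf15 yf24 zf42) (kf xf16 yf51 zf15) (kf xf11 yf6 zf8) (kf xf10 yf10 zf33) (kf xf10 yf10 zf34) (kf xf9 yf58 zf44) (kf xf10 yf11 zf25))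 (@D3.rec (fun _ => Pt) (kf xf10 yf10 zf36) (kf xf10 yf10 zf37) (kf xf9 yf58 zf45) (kf xf18 yf12 zf48) (kf xf10 yf10 zf39) (kf xf18 yf10 zf52) (kf xf7 yf31 zf23) (kf xf10 yf10 zf41) (kf xf10 yf10 zf42) (kf xf18 yf12 zf57) (kf xf10 yf11 zf17) (kf xf9 yf43 zf3) (kf xf5 yf3 zf8) (kf xf10 yf3 zf4) (kf xf10 yf3 zf0) (kf xf12 yf15 zf25) (kf xf5 yf3 zf9) (kf xf5 yf32 zf6) (kf xf5 yf32 zf7) (kf xf9 yf43 zf39) (kf xf9 yf43 zf40) (kf xf10 yf8 zf9) (kf xf5 yf19 zf12) (kf xf10 yf11 zf39) (kf xf10 yf12 zf21) (kf xf10 yf12 zf22) (kf xf10 yf12 zf23) (kf xf10 yf12 zf24) (kf xf18 yf13 zf20) (kf xf9 yf55 zf2) (kf xf18 yf13 zf24) (kf xf17 yf46 zf6) (kf xf17 yf46 zf5) (kf xf18 yf13 zf33) (kf xf5 yf3 zf20) (kf xf17 yf45 zf36) (kf xf17 yf46 zf11) (kf xf9 yf43 zf25) (kf xf5 yf3 zf48) (kf xf10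 yf8 zf17) (kf xf17 yf46 zf9) (kf xf17 yf46 zf10) (kf xf17 yf51 zf0) (kf xf10 yf12 zf36) (kf xf9 yf40 zf27) (kf xf10 yf11 zf58) (kf xf10 yf12 zf37) (kf xf10 yf12 zf38) (kf xf10 yf12 zf40) (kf xf18 yf13 zf54) (kf xf9 yf56 zf1) (kf xf9 yf56 zf5) (kf xf18 yf13 zf52) (kf xf18 yf13 zf51) (kf xf18 yf14 zf5) (kf xf5 yf3 zf28) (kf xf9 yf55 zf50) (kf xf12 yf28 zf26) (kf xf9 yf55 zf59) (kf xf18 yf0 zf13) (kf xf17 yf15 zf52) (kf xf10 yf12 zf8)) (@D3.rec (fun _ => Pt) (kf xf9 yf46 zf37) (kf xf10 yf12 zf7) (kf xf9 yf55 zf53) (kf xf17 yf6 zf42) (kf xf5 yf3 zf34) (kf xf10 yf8 zf34) (kf xf9 yf44 zf30) (kf xf10 yf12 zf17) (kf xf10 yf12 zf18) (kf xf8 yf59 zf41) (kf xf10 yf12 zf14) (kf xf10 yf12 zf15) (kf xf10 yf12 zf48) (kf xf10 yf11 zf32) (kf xf10 yf11 zf33) (kf xf18 yf14 zf26) (kf xf5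 yf3 zf49) (kf xf5 yf3 zf43) (kf xf8 yf52 zf2) (kf xf10 yf12 zf20) (kf xf10 yf11 zf40) (kf xf10 yf11 zf41) (kf xf10 yf11 zf42) (kf xf10 yf11 zf43) (kf xf16 yf7 zf53) (kf xf9 yf56 zf38) (kf xf9 yf56 zf41) (kf xf18 yf14 zf52) (kf xf18 yf13 zf27) (kf xf18 yf14 zf24) (kf xf18 yf14 zf59) (kf xf5 yf3 zf47) (kf xf10 yf8 zf37) (kf xf18 yf13 zf37) (kf xf17 yf46 zf12) (kf xf15 yf30 zf60) (kf xf18 yf14 zf27) (kf xf7 yf31 zf24) (kf xf10 yf11 zf57) (kf xf10 yf11 zf59) (kf xf10 yf11 zf60) (kf xf10 yf12 zf39) (kf xf10 yf11 zf61) (kf xf16 yf7 zf19) (kf xf9 yf56 zf60) (kf xf9 yf57 zf2) (kf xf9 yf7 zf41) (kf xf8 yf25 zf38) (kf xf16 yf7 zf51) (kf xf16 yf7 zf52) (kf xf10 yf12 zf46) (kf xf9 yf43 zf7) (kf xf9 yf43 zf19) (kf xf10 yf12 zf50) (kf xf10 yf12 zf19) (kf xf10 yf8 zf47) (kf xf10 yf12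 zf47) (kf xf10 yf13 zf12) (kf xf10 yf13 zf15) (kf xf7 yf48 zf1) (kf xf10 yf13 zf17) (kf xf10 yf13 zf18)) (@D3.rec (fun _ => Pt) (kf xf13 yf14 zf10) (kf xf13 yf14 zf7) (kf xf13 yf38 zf39) (kf xf5 yf4 zf6) (kf xf9 yf55 zf30) (kf xf6 yf38 zf39) (kf xf9 yf55 zf43) (kf xf9 yf49 zf9) (kf xf6 yf37 zf30) (kf xf6 yf40 zf13) (kf xf6 yf40 zf15) (kf xf10 yf13 zf8) (kf xf9 yf55 zf35) (kf xf9 yf50 zf55) (kf xf5 yf4 zf10) (kf xf10 yf12 zf51) (kf xf10 yf12 zf52) (kf xf10 yf12 zf53) (kf xf10 yf12 zf55) (kf xf10 yf12 zf56) (kf xf10 yf13 zf14) (kf xf10 yf12 zf58) (kf xf18 yf15 zf51) (kf xf10 yf12 zf60) (kf xf10 yf12 zf61) (kf xf10 yf13 zf0) (kf xf18 yf15 zf59) (kf xf10 yf3 zf37) (kf xf10 yf3 zf41) (kf xf17 yf34 zf54) (kf xf18 yf15 zf28) (kf xf18 yf15 zf49) (kf xf12 yf18 zf57) (kf xf5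 yf4 zf17) (kf xf10 yf13 zf26) (kf xf5 yf4 zf28) (kf xf5 yf4 zf29) (kf xf5 yf4 zf30) (kf xf18 yf14 zf15) (kf xf18 yf15 zf44) (kf xf18 yf15 zf43) (kf xf5 yf16 zf5) (kf xf12 yf44 zf37) (kf xf18 yf16 zf23) (kf xf5 yf4 zf23) (kf xf18 yf16 zf10) (kf xf18 yf6 zf24) (kf xf18 yf16 zf33) (kf xf18 yf16 zf36) (kf xf18 yf16 zf39) (kf xf5 yf4 zf24) (kf xf9 yf49 zf8) (kf xf18 yf16 zf43) (kf xf5 yf4 zf25) (kf xf18 yf14 zf16) (kf xf11 yf14 zf32) (kf xf5 yf4 zf26) (kf xf18 yf15 zf22) (kf xf12 yf2 zf15) (kf xf12 yf2 zf27) (kf xf17 yf47 zf48) (kf xf6 yf39 zf25))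
def f_f_10 : D2 → D3 → Pt := @D2.rec (fun _ => D3 → Pt) (@D3.rec (fun _ => Pt) (kf xf18 yf16 zf54) (kf xf15 yf14 zf33) (kf xf16 yf18 zf52) (kf xf18 yf16 zf59) (kf xf18 yf17 zf0) (kf xf18 yf15 zf23) (kf xf12 yf18 zf56) (kf xf5 yf4 zf31) (kf xf10 yf18 zf31) (kf xf11 yf45 zf9) (kf xf10 yf18 zf54) (kf xf10 yf18 zf55) (kf xf17 yf57 zf61) (kf xf10 yf18 zf58) (kf xf18 yf17 zf7) (kf xf10 yf18 zf29) (kf xf10 yf18 zf30) (kf xf18 yf17 zf3) (kf xf18 yf17 zf2) (kf xf5 yf4 zf36) (kf xf10 yf14 zf16) (kf xf10 yf14 zf17) (kf xf10 yf14 zf18) (kf xf10 yf14 zf23) (kf xf10 yf14 zf22) (kf xf5 yf4 zf38) (kf xf10 yf14 zf20) (kf xf18 yf17 zf26) (kf xf10 yf14 zf27) (kf xf10 yf14 zf26) (kf xf5 yf4 zf40) (kf xf10 yf14 zf34) (kf xf18 yf17 zf30) (kf xf10 yf14 zf30) (kf xf10 yf14 zf31) (kf xf18 yf17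 zf32) (kf xf10 yf14 zf36) (kf xf10 yf14 zf37) (kf xf10 yf14 zf38) (kf xf10 yf14 zf40) (kf xf6 yf29 zf4) (kf xf8 yf11 zf10) (kf xf16 yf8 zf25) (kf xf8 yf11 zf9) (kf xf10 yf15 zf35) (kf xf18 yf17 zf48) (kf xf10 yf33 zf11) (kf xf10 yf33 zf10) (kf xf5 yf4 zf52) (kf xf10 yf15 zf41) (kf xf10 yf4 zf13) (kf xf18 yf17 zf60) (kf xf10 yf15 zf47) (kf xf10 yf15 zf46) (kf xf5 yf4 zf54) (kf xf8 yf7 zf52) (kf xf10 yf15 zf44) (kf xf10 yf4 zf11) (kf xf9 yf0 zf54) (kf xf10 yf15 zf49) (kf xf10 yf4 zf16) (kf xf16 yf50 zf49)) (@D3.rec (fun _ => Pt) (kf xf10 yf8 zf13) (kf xf10 yf4 zf15) (kf xf10 yf15 zf50) (kf xf10 yf15 zf51) (kf xf10 yf15 zf52) (kf xf10 yf15 zf53) (kf xf18 yf18 zf33) (kf xf18 yf18 zf37) (kf xf16 yf9 zf50) (kf xf16 yf9 zf49) (kf xf18 yf18 zf42) (kf xf5 yf5 zf0) (kf xf15 yf29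 zf42) (kf xf11 yf52 zf46) (kf xf11 yf4 zf2) (kf xf15 yf18 zf16) (kf xf18 yf18 zf49) (kf xf8 yf46 zf3) (kf xf10 yf16 zf7) (kf xf18 yf18 zf53) (kf xf8 yf10 zf33) (kf xf18 yf18 zf58) (kf xf10 yf16 zf10) (kf xf10 yf16 zf11) (kf xf7 yf14 zf32) (kf xf7 yf17 zf33) (kf xf18 yf19 zf1) (kf xf8 yf5 zf0) (kf xf10 yf4 zf7) (kf xf11 yf23 zf10) (kf xf10 yf4 zf8) (kf xf10 yf16 zf15) (kf xf18 yf19 zf12) (kf xf10 yf16 zf19) (kf xf18 yf19 zf20) (kf xf16 yf10 zf27) (kf xf13 yf48 zf16) (kf xf5 yf5 zf16) (kf xf18 yf19 zf29) (kf xf10 yf16 zf25) (kf xf10 yf16 zf26) (kf xf18 yf19 zf36) (kf xf10 yf16 zf30) (kf xf10 yf15 zf8) (kf xf5 yf5 zf19) (kf xf10 yf16 zf27) (kf xf10 yf16 zf28) (kf xf10 yf29 zf34) (kf xf10 yf16 zf32) (kf xf10 yf16 zf33) (kf xf18 yf19 zf51) (kf xf10 yf16 zf35) (kf xf10 yf16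 zf36) (kf xf10 yf29 zf31) (kf xf10 yf16 zf38) (kf xf10 yf16 zf39) (kf xf10 yf16 zf40) (kf xf16 yf20 zf15) (kf xf10 yf16 zf42) (kf xf6 yf24 zf28) (kf xf16 yf34 zf53) (kf xf16 yf34 zf52)) (@D3.rec (fun _ => Pt) (kf xf18 yf20 zf9) (kf xf5 yf5 zf26) (kf xf15 yf38 zf39) (kf xf16 yf3 zf33) (kf xf16 yf3 zf39) (kf xf10 yf15 zf4) (kf xf9 yf55 zf58) (kf xf10 yf15 zf9) (kf xf18 yf20 zf22) (kf xf10 yf24 zf35) (kf xf10 yf24 zf34) (kf xf5 yf5 zf31) (kf xf9 yf55 zf55) (kf xf9 yf55 zf56) (kf xf9 yf55 zf57) (kf xf11 yf4 zf41) (kf xf9 yf55 zf39) (kf xf9 yf55 zf38) (kf xf5 yf5 zf33) (kf xf10 yf14 zf46) (kf xf5 yf15 zf21) (kf xf9 yf55 zf49) (kf xf9 yf55 zf46) (kf xf9 yf55 zf48) (kf xf10 yf16 zf52) (kf xf10 yf16 zf53) (kf xf18 yf20 zf42) (kf xf10 yf16 zf55) (kf xf10 yf16 zf56) (kf xf17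 yf50 zf52) (kf xf18 yf20 zf51) (kf xf18 yf20 zf49) (kf xf18 yf20 zf48) (kf xf12 yf24 zf25) (kf xf5 yf5 zf43) (kf xf10 yf15 zf21) (kf xf9 yf56 zf17) (kf xf7 yf32 zf37) (kf xf10 yf15 zf22) (kf xf9 yf56 zf16) (kf xf9 yf56 zf18) (kf xf6 yf30 zf41) (kf xf5 yf5 zf51) (kf xf10 yf4 zf54) (kf xf10 yf4 zf53) (kf xf5 yf5 zf53) (kf xf6 yf26 zf0) (kf xf5 yf5 zf54) (kf xf10 yf4 zf31) (kf xf10 yf4 zf28) (kf xf5 yf5 zf56) (kf xf10 yf17 zf9) (kf xf8 yf42 zf55) (kf xf10 yf4 zf21) (kf xf18 yf21 zf11) (kf xf10 yf17 zf10) (kf xf10 yf17 zf12) (kf xf18 yf21 zf21) (kf xf17 yf3 zf25) (kf xf17 yf3 zf24) (kf xf5 yf5 zf61) (kf xf10 yf15 zf31)) (@D3.rec (fun _ => Pt) (kf xf9 yf57 zf14) (kf xf9 yf5 zf17) (kf xf11 yf21 zf56) (kf xf10 yf15 zf28) (kf xf9 yf57 zf13) (kf xf18 yf21 zf36) (kf xf10 yf14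 zf43) (kf xf15 yf10 zf1) (kf xf10 yf14 zf48) (kf xf10 yf14 zf49) (kf xf16 yf21 zf42) (kf xf10 yf14 zf45) (kf xf5 yf6 zf7) (kf xf10 yf14 zf50) (kf xf10 yf14 zf51) (kf xf8 yf43 zf47) (kf xf8 yf43 zf39) (kf xf9 yf3 zf18) (kf xf10 yf14 zf53) (kf xf10 yf14 zf54) (kf xf10 yf14 zf55) (kf xf10 yf14 zf56) (kf xf18 yf21 zf58) (kf xf18 yf21 zf61) (kf xf10 yf16 zf34) (kf xf18 yf22 zf5) (kf xf5 yf6 zf12) (kf xf8 yf54 zf12) (kf xf8 yf54 zf34) (kf xf10 yf29 zf36) (kf xf10 yf29 zf35) (kf xf16 yf39 zf8) (kf xf8 yf13 zf15) (kf xf6 yf45 zf4) (kf xf10 yf37 zf9) (kf xf10 yf15 zf10) (kf xf10 yf15 zf11) (kf xf9 yf59 zf27) (kf xf10 yf16 zf59) (kf xf10 yf15 zf13) (kf xf10 yf15 zf14) (kf xf9 yf59 zf28) (kf xf7 yf14 zf18) (kf xf18 yf20 zf47) (kf xf10 yf16 zf54) (kf xf5 yf6 zf20) (kf xf5 yf15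 zf3) (kf xf5 yf15 zf40) (kf xf8 yf57 zf18) (kf xf10 yf17 zf5) (kf xf10 yf17 zf4) (kf xf16 yf45 zf22) (kf xf6 yf44 zf56) (kf xf11 yf14 zf27) (kf xf11 yf28 zf19) (kf xf5 yf57 zf32) (kf xf6 yf49 zf20) (kf xf10 yf17 zf19) (kf xf9 yf56 zf14) (kf xf10 yf17 zf20) (kf xf18 yf22 zf37) (kf xf9 yf56 zf13)) (@D3.rec (fun _ => Pt) (kf xf10 yf17 zf17) (kf xf12 yf31 zf5) (kf xf17 yf58 zf14) (kf xf6 yf44 zf52) (kf xf17 yf7 zf60) (kf xf6 yf9 zf0) (kf xf5 yf6 zf41) (kf xf10 yf1 zf28) (kf xf10 yf1 zf30) (kf xf10 yf17 zf30) (kf xf18 yf22 zf50) (kf xf10 yf0 zf57) (kf xf18 yf22 zf55) (kf xf10 yf0 zf50) (kf xf18 yf22 zf59) (kf xf10 yf1 zf1) (kf xf10 yf0 zf60) (kf xf10 yf17 zf33) (kf xf18 yf23 zf5) (kf xf13 yf48 zf37) (kf xf5 yf6 zf47) (kf xf10 yf2 zf53) (kf xf10 yf17 zf42) (kf xf18 yf23 zf12)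 (kf xf17 yf3 zf22) (kf xf11 yf59 zf12) (kf xf5 yf6 zf50) (kf xf9 yf15 zf4) (kf xf10 yf2 zf49) (kf xf5 yf6 zf52) (kf xf5 yf54 zf53) (kf xf10 yf2 zf48) (kf xf18 yf23 zf20) (kf xf5 yf55 zf18) (kf xf5 yf6 zf54) (kf xf5 yf45 zf41) (kf xf9 yf15 zf16) (kf xf9 yf13 zf22) (kf xf9 yf18 zf14) (kf xf10 yf17 zf49) (kf xf10 yf17 zf52) (kf xf10 yf17 zf51) (kf xf11 yf6 zf34) (kf xf5 yf7 zf0) (kf xf10 yf18 zf16) (kf xf7 yf27 zf27) (kf xf17 yf22 zf19) (kf xf18 yf23 zf28) (kf xf6 yf7 zf56) (kf xf11 yf40 zf24) (kf xf17 yf58 zf16) (kf xf17 yf58 zf15) (kf xf5 yf7 zf6) (kf xf10 yf2 zf44) (kf xf10 yf2 zf43) (kf xf6 yf39 zf13) (kf xf16 yf30 zf0) (kf xf5 yf51 zf61) (kf xf5 yf7 zf9) (kf xf10 yf18 zf14) (kf xf8 yf14 zf57) (kf xf10 yf17 zf56)) (@D3.rec (fun _ => Pt) (kf xf10 yf17 zf57) (kf xf5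 yf51 zf43) (kf xf11 yf24 zf45) (kf xf10 yf17 zf58) (kf xf10 yf17 zf59) (kf xf9 yf9 zf28) (kf xf10 yf17 zf61) (kf xf10 yf18 zf0) (kf xf18 yf23 zf55) (kf xf10 yf18 zf2) (kf xf10 yf18 zf3) (kf xf10 yf18 zf5) (kf xf10 yf18 zf6) (kf xf13 yf1 zf43) (kf xf5 yf53 zf28) (kf xf10 yf18 zf25) (kf xf10 yf18 zf22) (kf xf9 yf24 zf32) (kf xf10 yf18 zf20) (kf xf10 yf18 zf23) (kf xf5 yf7 zf28) (kf xf5 yf7 zf47) (kf xf17 yf56 zf40) (kf xf12 yf56 zf18) (kf xf11 yf15 zf47) (kf xf8 yf38 zf16) (kf xf17 yf9 zf24) (kf xf18 yf24 zf9) (kf xf5 yf7 zf33) (kf xf5 yf48 zf45) (kf xf6 yf7 zf54) (kf xf11 yf8 zf28) (kf xf18 yf24 zf12) (kf xf5 yf7 zf37) (kf xf9 yf10 zf39) (kf xf18 yf24 zf20) (kf xf12 yf20 zf42) (kf xf18 yf24 zf23) (kf xf5 yf7 zf40) (kf xf17 yf56 zf33) (kf xf18 yf24 zf27) (kf xf5 yf7 zf41)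 (kf xf18 yf23 zf59) (kf xf5 yf48 zf46) (kf xf9 yf9 zf51) (kf xf15 yf26 zf14) (kf xf18 yf24 zf33) (kf xf11 yf8 zf27) (kf xf18 yf24 zf35) (kf xf18 yf24 zf1) (kf xf12 yf35 zf30) (kf xf18 yf23 zf60) (kf xf5 yf7 zf48) (kf xf5 yf7 zf56) (kf xf18 yf24 zf41) (kf xf5 yf7 zf59) (kf xf5 yf7 zf58) (kf xf10 yf45 zf50) (kf xf10 yf6 zf31) (kf xf13 yf20 zf39) (kf xf5 yf8 zf3) (kf xf5 yf8 zf2)) (@D3.rec (fun _ => Pt) (kf xf5 yf7 zf51) (kf xf11 yf25 zf26) (kf xf9 yf7 zf47) (kf xf18 yf24 zf58) (kf xf6 yf28 zf55) (kf xf11 yf25 zf46) (kf xf11 yf25 zf47) (kf xf11 yf25 zf48) (kf xf18 yf25 zf5) (kf xf15 yf30 zf47) (kf xf10 yf18 zf41) (kf xf5 yf7 zf54) (kf xf7 yf39 zf53) (kf xf18 yf25 zf16) (kf xf18 yf24 zf39) (kf xf12 yf53 zf37) (kf xf10 yf18 zf52) (kf xf5 yf7 zf57) (kf xf12 yf23 zf28) (kf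 xf5 yf48 zf0) (kf xf18 yf24 zf44) (kf xf18 yf25 zf24) (kf xf12 yf14 zf9) (kf xf18 yf24 zf42) (kf xf17 yf5 zf26) (kf xf10 yf14 zf10) (kf xf10 yf14 zf11) (kf xf10 yf14 zf2) (kf xf10 yf14 zf12) (kf xf18 yf24 zf49) (kf xf18 yf24 zf48) (kf xf10 yf5 zf58) (kf xf18 yf25 zf40) (kf xf5 yf7 zf61) (kf xf12 yf23 zf16) (kf xf9 yf15 zf26) (kf xf12 yf49 zf8) (kf xf5 yf8 zf0) (kf xf18 yf25 zf42) (kf xf12 yf29 zf7) (kf xf11 yf29 zf20) (kf xf18 yf25 zf47) (kf xf5 yf8 zf5) (kf xf15 yf30 zf44) (kf xf15 yf30 zf43) (kf xf18 yf25 zf54) (kf xf17 yf58 zf19) (kf xf17 yf58 zf18) (kf xf5 yf8 zf7) (kf xf9 yf46 zf47) (kf xf10 yf19 zf5) (kf xf10 yf18 zf42) (kf xf18 yf26 zf1) (kf xf10 yf18 zf34) (kf xf18 yf26 zf2) (kf xf9 yf9 zf29) (kf xf10 yf18 zf36) (kf xf17 yf7 zf53) (kf xf6 yf31 zf56) (kf xf17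 yf59 zf58) (kf xf5 yf8 zf13) (kf xf9 yf50 zf53)) (@D3.rec (fun _ => Pt) (kf xf18 yf24 zf0) (kf xf10 yf14 zf4) (kf xf10 yf14 zf5) (kf xf18 yf26 zf12) (kf xf10 yf14 zf7) (kf xf10 yf14 zf8) (kf xf18 yf26 zf19) (kf xf12 yf36 zf1) (kf xf12 yf1 zf11) (kf xf12 yf36 zf4) (kf xf18 yf26 zf22) (kf xf10 yf18 zf53) (kf xf5 yf8 zf22) (kf xf12 yf29 zf54) (kf xf10 yf18 zf43) (kf xf10 yf19 zf8) (kf xf18 yf26 zf0) (kf xf10 yf19 zf6) (kf xf18 yf26 zf5) (kf xf18 yf26 zf24) (kf xf15 yf32 zf11) (kf xf11 yf54 zf55) (kf xf5 yf16 zf10) (kf xf14 yf22 zf13) (kf xf9 yf55 zf19) (kf xf15 yf50 zf42) (kf xf5 yf8 zf31) (kf xf15 yf11 zf5) (kf xf10 yf8 zf54) (kf xf18 yf26 zf36) (kf xf9 yf55 zf26) (kf xf9 yf55 zf25) (kf xf5 yf8 zf33) (kf xf9 yf55 zf22) (kf xf9 yf55 zf23) (kf xf15 yf9 zf41) (kf xf10 yf8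 zf25) (kf xf18 yf26 zf51) (kf xf10 yf16 zf4) (kf xf10 yf8 zf26) (kf xf9 yf53 zf9) (kf xf15 yf11 zf13) (kf xf15 yf11 zf14) (kf xf15 yf11 zf15) (kf xf15 yf11 zf16) (kf xf14 yf1 zf13) (kf xf18 yf27 zf8) (kf xf15 yf9 zf50) (kf xf15 yf9 zf49) (kf xf14 yf43 zf50) (kf xf5 yf8 zf39) (kf xf15 yf11 zf11) (kf xf9 yf56 zf19) (kf xf9 yf52 zf56) (kf xf16 yf54 zf3) (kf xf18 yf19 zf45) (kf xf9 yf52 zf57) (kf xf18 yf27 zf21) (kf xf5 yf8 zf46) (kf xf14 yf57 zf45) (kf xf15 yf11 zf7) (kf xf15 yf11 zf8)) (@D3.rec (fun _ => Pt) (kf xf18 yf27 zf29) (kf xf18 yf27 zf25) (kf xf9 yf52 zf44) (kf xf15 yf10 zf0) (kf xf17 yf39 zf53) (kf xf5 yf8 zf50) (kf xf9 yf52 zf38) (kf xf5 yf9 zf47) (kf xf15 yf11 zf21) (kf xf9 yf57 zf21) (kf xf15 yf11 zf22) (kf xf18 yf27 zf46) (kf xf5 yf8 zf53) (kf xf10 yf1 zf0)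 (kf xf5 yf16 zf1) (kf xf5 yf16 zf2) (kf xf18 yf27 zf57) (kf xf9 yf57 zf39) (kf xf15 yf50 zf44) (kf xf5 yf8 zf57) (kf xf15 yf11 zf41) (kf xf15 yf11 zf42) (kf xf15 yf11 zf43) (kf xf15 yf11 zf44) (kf xf18 yf28 zf13) (kf xf10 yf7 zf36) (kf xf10 yf7 zf39) (kf xf18 yf28 zf21) (kf xf15 yf11 zf33) (kf xf15 yf11 zf32) (kf xf18 yf28 zf28) (kf xf5 yf8 zf60) (kf xf15 yf11 zf36) (kf xf8 yf28 zf37) (kf xf9 yf58 zf5) (kf xf9 yf53 zf56) (kf xf17 yf46 zf55) (kf xf9 yf58 zf32) (kf xf5 yf9 zf2) (kf xf15 yf11 zf26) (kf xf15 yf11 zf27) (kf xf15 yf11 zf28) (kf xf15 yf11 zf29) (kf xf18 yf28 zf45) (kf xf18 yf28 zf47) (kf xf15 yf11 zf47) (kf xf5 yf9 zf5) (kf xf9 yf58 zf55) (kf xf9 yf53 zf41) (kf xf9 yf35 zf61) (kf xf15 yf11 zf59) (kf xf15 yf11 zf60) (kf xf15 yf11 zf61) (kf xf18 yf28 zf61) (kf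 xf10 yf7 zf28) (kf xf18 yf29 zf2) (kf xf5 yf9 zf11) (kf xf15 yf11 zf51) (kf xf15 yf11 zf52) (kf xf15 yf11 zf53) (kf xf15 yf11 zf54) (kf xf12 yf58 zf49)) (@D3.rec (fun _ => Pt) (kf xf16 yf8 zf7) (kf xf5 yf9 zf14) (kf xf5 yf9 zf17) (kf xf5 yf9 zf16) (kf xf16 yf35 zf59) (kf xf18 yf29 zf22) (kf xf18 yf29 zf26) (kf xf18 yf29 zf29) (kf xf5 yf9 zf15) (kf xf18 yf29 zf15) (kf xf5 yf16 zf36) (kf xf18 yf29 zf16) (kf xf18 yf29 zf42) (kf xf15 yf13 zf54) (kf xf15 yf13 zf52) (kf xf15 yf13 zf53) (kf xf15 yf13 zf34) (kf xf18 yf29 zf53) (kf xf9 yf54 zf32) (kf xf15 yf12 zf23) (kf xf18 yf29 zf60) (kf xf15 yf12 zf21) (kf xf18 yf30 zf4) (kf xf15 yf12 zf26) (kf xf15 yf12 zf25) (kf xf5 yf9 zf22) (kf xf9 yf54 zf43) (kf xf9 yf54 zf44) (kf xf9 yf54 zf45) (kf xf9 yf54 zf46) (kf xf9 yf54 zf47)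 (kf xf9 yf54 zf48) (kf xf8 yf44 zf45) (kf xf8 yf45 zf6) (kf xf9 yf54 zf50) (kf xf15 yf53 zf40) (kf xf9 yf41 zf6) (kf xf7 yf57 zf33) (kf xf7 yf57 zf34) (kf xf9 yf39 zf61) (kf xf9 yf56 zf26) (kf xf9 yf56 zf27) (kf xf18 yf30 zf44) (kf xf5 yf9 zf30) (kf xf5 yf21 zf28) (kf xf5 yf21 zf32) (kf xf5 yf21 zf31) (kf xf5 yf21 zf40) (kf xf9 yf56 zf29) (kf xf9 yf56 zf30) (kf xf18 yf30 zf57) (kf xf9 yf56 zf35) (kf xf9 yf55 zf37) (kf xf5 yf9 zf34) (kf xf5 yf17 zf31) (kf xf11 yf54 zf57) (kf xf9 yf56 zf32) (kf xf9 yf56 zf33) (kf xf17 yf47 zf8) (kf xf9 yf56 zf37) (kf xf18 yf31 zf11) (kf xf9 yf56 zf40)) (@D3.rec (fun _ => Pt) (kf xf17 yf47 zf5) (kf xf9 yf56 zf43) (kf xf9 yf56 zf44) (kf xf9 yf56 zf45) (kf xf9 yf56 zf46) (kf xf18 yf14 zf25) (kf xf5 yf21 zf24) (kf xf5 yf21 zf34) (kf xf18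 yf31 zf34) (kf xf18 yf30 zf42) (kf xf18 yf20 zf10) (kf xf18 yf14 zf22) (kf xf5 yf9 zf42) (kf xf15 yf11 zf3) (kf xf16 yf7 zf58) (kf xf9 yf52 zf24) (kf xf16 yf8 zf2) (kf xf9 yf55 zf21) (kf xf9 yf52 zf36) (kf xf18 yf27 zf39) (kf xf9 yf52 zf34) (kf xf9 yf52 zf33) (kf xf9 yf55 zf40) (kf xf9 yf55 zf41) (kf xf9 yf55 zf42) (kf xf18 yf32 zf6) (kf xf9 yf55 zf34) (kf xf9 yf55 zf33) (kf xf5 yf9 zf49) (kf xf9 yf54 zf55) (kf xf9 yf55 zf27) (kf xf9 yf55 zf28) (kf xf9 yf55 zf29) (kf xf9 yf56 zf58) (kf xf9 yf56 zf59) (kf xf18 yf32 zf23) (kf xf9 yf57 zf0) (kf xf9 yf57 zf1) (kf xf18 yf32 zf30) (kf xf9 yf57 zf4) (kf xf18 yf14 zf58) (kf xf9 yf57 zf7) (kf xf9 yf57 zf8) (kf xf18 yf32 zf36) (kf xf12 yf24 zf42) (kf xf12 yf24 zf46) (kf xf5 yf9 zf58) (kf xf5 yf9 zf59) (kf xf9 yf52 zf55) (kf xf9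 yf56 zf21) (kf xf9 yf56 zf20) (kf xf9 yf56 zf22) (kf xf9 yf54 zf51) (kf xf9 yf54 zf52) (kf xf9 yf54 zf58) (kf xf9 yf54 zf59) (kf xf18 yf32 zf55) (kf xf9 yf54 zf54) (kf xf5 yf10 zf6) (kf xf9 yf55 zf1) (kf xf9 yf56 zf49) (kf xf18 yf33 zf0)) (@D3.rec (fun _ => Pt) (kf xf9 yf55 zf7) (kf xf9 yf55 zf8) (kf xf9 yf55 zf9) (kf xf9 yf55 zf10) (kf xf18 yf33 zf13) (kf xf18 yf33 zf17) (kf xf9 yf56 zf39) (kf xf18 yf33 zf23) (kf xf5 yf10 zf11) (kf xf9 yf56 zf31) (kf xf11 yf10 zf34) (kf xf11 yf10 zf35) (kf xf11 yf10 zf33) (kf xf11 yf54 zf45) (kf xf15 yf27 zf55) (kf xf9 yf55 zf61) (kf xf9 yf56 zf0) (kf xf9 yf57 zf10) (kf xf9 yf56 zf3) (kf xf9 yf56 zf4) (kf xf18 yf33 zf45) (kf xf6 yf11 zf56) (kf xf18 yf32 zf28) (kf xf9 yf56 zf8) (kf xf16 yf55 zf46) (kf xf9 yf56 zf61) (kf xf5 yf10 zf20)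 (kf xf5 yf10 zf21) (kf xf9 yf55 zf44) (kf xf9 yf55 zf45) (kf xf9 yf53 zf13) (kf xf11 yf10 zf38) (kf xf9 yf58 zf13) (kf xf9 yf58 zf14) (kf xf18 yf34 zf4) (kf xf5 yf10 zf35) (kf xf5 yf10 zf34) (kf xf5 yf10 zf29) (kf xf5 yf21 zf23) (kf xf9 yf57 zf23) (kf xf9 yf58 zf20) (kf xf9 yf58 zf21) (kf xf9 yf58 zf22) (kf xf9 yf58 zf23) (kf xf18 yf34 zf23) (kf xf18 yf34 zf27) (kf xf18 yf34 zf2) (kf xf18 yf34 zf1) (kf xf18 yf34 zf35) (kf xf5 yf10 zf33) (kf xf15 yf11 zf24) (kf xf18 yf34 zf7) (kf xf15 yf3 zf12) (kf xf9 yf53 zf20) (kf xf18 yf34 zf5) (kf xf18 yf34 zf6) (kf xf17 yf47 zf20) (kf xf9 yf58 zf38) (kf xf9 yf57 zf45) (kf xf9 yf58 zf39) (kf xf9 yf58 zf40) (kf xf9 yf58 zf42)) (@D3.rec (fun _ => Pt) (kf xf18 yf34 zf56) (kf xf18 yf34 zf54) (kf xf18 yf34 zf53) (kf xf8 yf36 zf22) (kf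 xf5 yf10 zf41) (kf xf11 yf12 zf37) (kf xf5 yf10 zf42) (kf xf9 yf58 zf1) (kf xf9 yf57 zf61) (kf xf9 yf50 zf57) (kf xf18 yf35 zf5) (kf xf5 yf10 zf45) (kf xf9 yf53 zf39) (kf xf9 yf53 zf40) (kf xf9 yf58 zf10) (kf xf9 yf58 zf11) (kf xf5 yf34 zf53) (kf xf9 yf58 zf7) (kf xf9 yf58 zf8) (kf xf9 yf58 zf54) (kf xf9 yf58 zf19) (kf xf9 yf57 zf24) (kf xf9 yf57 zf25) (kf xf9 yf57 zf26) (kf xf9 yf57 zf27) (kf xf17 yf45 zf59) (kf xf18 yf35 zf24) (kf xf17 yf47 zf16) (kf xf17 yf47 zf15) (kf xf17 yf45 zf55) (kf xf5 yf10 zf55) (kf xf9 yf53 zf43) (kf xf17 yf47 zf21) (kf xf18 yf33 zf27) (kf xf15 yf11 zf38) (kf xf17 yf47 zf19) (kf xf9 yf57 zf43) (kf xf9 yf57 zf46) (kf xf9 yf57 zf47) (kf xf9 yf58 zf41) (kf xf9 yf57 zf48) (kf xf18 yf9 zf48) (kf xf12 yf53 zf61) (kf xf18 yf34 zf59) (kf xf18 yf35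 zf37) (kf xf5 yf11 zf1) (kf xf9 yf58 zf50) (kf xf9 yf58 zf56) (kf xf9 yf58 zf12) (kf xf9 yf53 zf55) (kf xf9 yf58 zf53) (kf xf9 yf59 zf15) (kf xf9 yf59 zf16) (kf xf9 yf59 zf17) (kf xf6 yf11 zf3) (kf xf9 yf59 zf18) (kf xf9 yf59 zf19) (kf xf7 yf31 zf38) (kf xf9 yf59 zf21) (kf xf14 yf43 zf6) (kf xf9 yf59 zf23) (kf xf9 yf59 zf24)) (@D3.rec (fun _ => Pt) (kf xf9 yf59 zf25) (kf xf18 yf36 zf5) (kf xf9 yf27 zf3) (kf xf18 yf35 zf61) (kf xf18 yf35 zf60) (kf xf18 yf36 zf17) (kf xf5 yf11 zf15) (kf xf12 yf46 zf19) (kf xf9 yf59 zf11) (kf xf5 yf11 zf17) (kf xf6 yf10 zf61) (kf xf6 yf11 zf11) (kf xf9 yf58 zf57) (kf xf6 yf40 zf32) (kf xf9 yf59 zf20) (kf xf9 yf58 zf58) (kf xf14 yf43 zf7) (kf xf9 yf58 zf60) (kf xf9 yf58 zf61) (kf xf6 yf40 zf10) (kf xf13 yf40 zf49) (kf xf18 yf36 zf10) (kf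 xf18 yf36 zf25) (kf xf12 yf21 zf17) (kf xf5 yf11 zf24) (kf xf6 yf21 zf20) (kf xf9 yf59 zf34) (kf xf5 yf11 zf35) (kf xf5 yf11 zf36) (kf xf5 yf11 zf37) (kf xf18 yf35 zf11) (kf xf18 yf36 zf22) (kf xf18 yf36 zf21) (kf xf5 yf18 zf8) (kf xf14 yf16 zf50) (kf xf18 yf36 zf52) (kf xf5 yf11 zf30) (kf xf18 yf13 zf50) (kf xf18 yf28 zf36) (kf xf18 yf37 zf0) (kf xf18 yf37 zf3) (kf xf18 yf37 zf5) (kf xf5 yf11 zf31) (kf xf17 yf59 zf35) (kf xf14 yf16 zf53) (kf xf12 yf37 zf56) (kf xf5 yf11 zf32) (kf xf18 yf35 zf12) (kf xf18 yf37 zf15) (kf xf5 yf11 zf33) (kf xf18 yf35 zf41) (kf xf18 yf34 zf13) (kf xf18 yf35 zf45) (kf xf18 yf15 zf5) (kf xf18 yf36 zf39) (kf xf18 yf37 zf27) (kf xf8 yf5 zf54) (kf xf18 yf36 zf41) (kf xf18 yf37 zf34) (kf xf18 yf36 zf43) (kf xf18 yf37 zf39) (kf xf18 yf35 zf42))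 (@D3.rec (fun _ => Pt) (kf xf17 yf13 zf22) (kf xf5 yf11 zf38) (kf xf10 yf6 zf27) (kf xf18 yf0 zf7) (kf xf10 yf7 zf1) (kf xf10 yf7 zf2) (kf xf18 yf37 zf49) (kf xf10 yf7 zf4) (kf xf10 yf7 zf5) (kf xf18 yf37 zf55) (kf xf10 yf6 zf25) (kf xf10 yf6 zf26) (kf xf10 yf6 zf28) (kf xf18 yf38 zf1) (kf xf17 yf59 zf11) (kf xf5 yf11 zf43) (kf xf10 yf0 zf20) (kf xf10 yf0 zf21) (kf xf10 yf0 zf22) (kf xf6 yf11 zf6) (kf xf10 yf0 zf26) (kf xf18 yf38 zf16) (kf xf10 yf0 zf24) (kf xf10 yf0 zf23) (kf xf5 yf11 zf46) (kf xf12 yf13 zf5) (kf xf10 yf0 zf29) (kf xf10 yf0 zf28) (kf xf18 yf38 zf23) (kf xf5 yf11 zf48) (kf xf10 yf0 zf33) (kf xf10 yf0 zf34) (kf xf18 yf38 zf27) (kf xf6 yf11 zf14) (kf xf10 yf0 zf31) (kf xf18 yf38 zf30) (kf xf10 yf0 zf36) (kf xf10 yf0 zf37) (kf xf10 yf0 zf38) (kf xf9 yf43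 zf36) (kf xf10 yf0 zf39) (kf xf6 yf20 zf30) (kf xf18 yf38 zf39) (kf xf10 yf3 zf6) (kf xf8 yf44 zf29) (kf xf10 yf3 zf11) (kf xf10 yf2 zf19) (kf xf5 yf11 zf60) (kf xf10 yf3 zf8) (kf xf10 yf3 zf9) (kf xf10 yf3 zf13) (kf xf10 yf3 zf14) (kf xf7 yf13 zf47) (kf xf10 yf3 zf18) (kf xf10 yf3 zf19) (kf xf10 yf3 zf20) (kf xf10 yf3 zf21) (kf xf18 yf38 zf51) (kf xf18 yf38 zf55) (kf xf10 yf28 zf21) (kf xf10 yf28 zf20) (kf xf18 yf39 zf1)) (@D3.rec (fun _ => Pt) (kf xf5 yf12 zf5) (kf xf10 yf27 zf54) (kf xf10 yf28 zf25) (kf xf10 yf28 zf24) (kf xf10 yf2 zf5) (kf xf10 yf20 zf3) (kf xf10 yf20 zf2) (kf xf5 yf12 zf10) (kf xf10 yf1 zf43) (kf xf10 yf2 zf7) (kf xf10 yf3 zf35) (kf xf10 yf3 zf36) (kf xf7 yf8 zf13) (kf xf10 yf3 zf39) (kf xf10 yf3 zf40) (kf xf13 yf41 zf44) (kf xf18 yf39 zf24) (kf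 xf18 yf39 zf22) (kf xf18 yf39 zf21) (kf xf12 yf23 zf56) (kf xf5 yf12 zf19) (kf xf10 yf2 zf35) (kf xf10 yf2 zf38) (kf xf9 yf15 zf3) (kf xf5 yf49 zf49) (kf xf11 yf41 zf31) (kf xf6 yf32 zf18) (kf xf5 yf12 zf30) (kf xf10 yf3 zf3) (kf xf5 yf46 zf13) (kf xf11 yf36 zf3) (kf xf10 yf2 zf61) (kf xf18 yf39 zf43) (kf xf10 yf37 zf43) (kf xf8 yf11 zf7) (kf xf10 yf0 zf44) (kf xf8 yf11 zf45) (kf xf18 yf0 zf61) (kf xf5 yf22 zf17) (kf xf18 yf39 zf52) (kf xf5 yf12 zf37) (kf xf10 yf0 zf49) (kf xf8 yf13 zf21) (kf xf15 yf18 zf39) (kf xf10 yf0 zf56) (kf xf16 yf50 zf44) (kf xf10 yf0 zf53) (kf xf10 yf0 zf52) (kf xf5 yf12 zf42) (kf xf10 yf0 zf59) (kf xf10 yf1 zf2) (kf xf10 yf1 zf3) (kf xf10 yf1 zf4) (kf xf10 yf1 zf5) (kf xf18 yf1 zf0) (kf xf18 yf40 zf19) (kf xf9 yf0 zf34) (kf xf18 yf40 zf25)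 (kf xf5 yf12 zf46) (kf xf5 yf35 zf43) (kf xf5 yf15 zf44) (kf xf5 yf23 zf26)) (@D3.rec (fun _ => Pt) (kf xf15 yf12 zf30) (kf xf15 yf12 zf29) (kf xf18 yf5 zf34) (kf xf5 yf12 zf49) (kf xf10 yf7 zf38) (kf xf18 yf40 zf36) (kf xf9 yf14 zf59) (kf xf10 yf1 zf18) (kf xf7 yf14 zf33) (kf xf18 yf40 zf41) (kf xf10 yf1 zf22) (kf xf10 yf1 zf23) (kf xf5 yf46 zf28) (kf xf12 yf8 zf21) (kf xf8 yf48 zf56) (kf xf10 yf1 zf31) (kf xf18 yf40 zf48) (kf xf7 yf17 zf31) (kf xf18 yf40 zf53) (kf xf10 yf1 zf33) (kf xf18 yf40 zf60) (kf xf16 yf11 zf49) (kf xf16 yf11 zf48) (kf xf5 yf13 zf1) (kf xf14 yf45 zf10) (kf xf10 yf1 zf39) (kf xf10 yf1 zf40) (kf xf10 yf1 zf45) (kf xf10 yf1 zf46) (kf xf18 yf41 zf18) (kf xf10 yf1 zf42) (kf xf5 yf13 zf6) (kf xf10 yf1 zf48) (kf xf10 yf1 zf49) (kf xf10 yf3 zf24) (kf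 xf10 yf1 zf51) (kf xf10 yf1 zf52) (kf xf18 yf41 zf28) (kf xf10 yf1 zf54) (kf xf10 yf1 zf55) (kf xf10 yf1 zf56) (kf xf6 yf40 zf24) (kf xf10 yf1 zf58) (kf xf9 yf39 zf27) (kf xf8 yf11 zf46) (kf xf5 yf24 zf5) (kf xf10 yf33 zf17) (kf xf10 yf33 zf16) (kf xf10 yf38 zf20) (kf xf9 yf33 zf14) (kf xf10 yf33 zf18) (kf xf10 yf33 zf19) (kf xf10 yf2 zf24) (kf xf10 yf2 zf25) (kf xf10 yf3 zf44) (kf xf10 yf2 zf27) (kf xf10 yf2 zf28) (kf xf18 yf41 zf51) (kf xf16 yf21 zf3) (kf xf10 yf3 zf38) (kf xf9 yf44 zf6) (kf xf5 yf13 zf19)) (@D3.rec (fun _ => Pt) (kf xf9 yf31 zf44) (kf xf5 yf17 zf3) (kf xf5 yf17 zf45) (kf xf5 yf31 zf26) (kf xf10 yf3 zf50) (kf xf10 yf3 zf49) (kf xf10 yf53 zf8) (kf xf10 yf43 zf13) (kf xf10 yf43 zf14) (kf xf10 yf2 zf51) (kf xf10 yf2 zf55) (kf xf9 yf47 zf35) (kf xf10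 yf2 zf56) (kf xf18 yf42 zf9) (kf xf11 yf38 zf38) (kf xf5 yf13 zf29) (kf xf9 yf15 zf12) (kf xf10 yf4 zf0) (kf xf18 yf42 zf14) (kf xf10 yf3 zf57) (kf xf10 yf3 zf59) (kf xf11 yf36 zf0) (kf xf9 yf15 zf44) (kf xf5 yf13 zf33) (kf xf6 yf32 zf27) (kf xf5 yf13 zf34) (kf xf9 yf4 zf54) (kf xf6 yf8 zf24) (kf xf8 yf48 zf53) (kf xf8 yf49 zf12) (kf xf10 yf4 zf9) (kf xf18 yf42 zf27) (kf xf9 yf7 zf37) (kf xf10 yf4 zf17) (kf xf18 yf42 zf35) (kf xf15 yf47 zf32) (kf xf15 yf47 zf31) (kf xf18 yf42 zf44) (kf xf5 yf13 zf43) (kf xf6 yf50 zf50) (kf xf9 yf25 zf9) (kf xf9 yf26 zf56) (kf xf10 yf4 zf22) (kf xf18 yf42 zf52) (kf xf18 yf42 zf46) (kf xf18 yf42 zf45) (kf xf18 yf15 zf11) (kf xf5 yf13 zf47) (kf xf6 yf45 zf1) (kf xf10 yf4 zf39) (kf xf6 yf3 zf23) (kf xf10 yf4 zf41) (kf xf10 yf4 zf40) (kf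 xf5 yf13 zf50) (kf xf7 yf59 zf61) (kf xf5 yf47 zf33) (kf xf10 yf4 zf61) (kf xf10 yf5 zf0) (kf xf10 yf5 zf3) (kf xf10 yf5 zf4) (kf xf18 yf43 zf4) (kf xf10 yf5 zf6)) (@D3.rec (fun _ => Pt) (kf xf10 yf5 zf7) (kf xf13 yf50 zf61) (kf xf10 yf5 zf9) (kf xf10 yf5 zf10) (kf xf12 yf24 zf51) (kf xf10 yf5 zf11) (kf xf10 yf5 zf12) (kf xf12 yf53 zf59) (kf xf17 yf16 zf35) (kf xf18 yf43 zf3) (kf xf5 yf14 zf4) (kf xf7 yf59 zf23) (kf xf9 yf46 zf33) (kf xf8 yf12 zf52) (kf xf10 yf4 zf59) (kf xf18 yf43 zf17) (kf xf10 yf4 zf44) (kf xf18 yf43 zf19) (kf xf6 yf31 zf51) (kf xf14 yf20 zf3) (kf xf10 yf5 zf18) (kf xf11 yf6 zf43) (kf xf10 yf5 zf16) (kf xf10 yf5 zf19) (kf xf5 yf54 zf23) (kf xf10 yf5 zf15) (kf xf18 yf43 zf26) (kf xf11 yf8 zf34) (kf xf5 yf14 zf26) (kf xf10 yf0 zf15) (kf xf10 yf0 zf16)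 (kf xf10 yf0 zf8) (kf xf5 yf50 zf44) (kf xf17 yf7 zf59) (kf xf10 yf6 zf53) (kf xf18 yf43 zf33) (kf xf10 yf6 zf56) (kf xf16 yf55 zf40) (kf xf18 yf43 zf32) (kf xf18 yf43 zf31) (kf xf5 yf14 zf33) (kf xf10 yf6 zf10) (kf xf10 yf6 zf51) (kf xf10 yf7 zf14) (kf xf10 yf49 zf7) (kf xf9 yf48 zf3) (kf xf14 yf33 zf14) (kf xf5 yf57 zf47) (kf xf18 yf43 zf43) (kf xf6 yf50 zf39) (kf xf5 yf14 zf39) (kf xf11 yf31 zf19) (kf xf10 yf6 zf16) (kf xf10 yf7 zf11) (kf xf10 yf0 zf10) (kf xf10 yf0 zf11) (kf xf18 yf43 zf50) (kf xf6 yf10 zf59) (kf xf10 yf0 zf13) (kf xf11 yf30 zf38) (kf xf9 yf47 zf55) (kf xf5 yf14 zf46)) (@D3.rec (fun _ => Pt) (kf xf5 yf40 zf11) (kf xf5 yf14 zf48) (kf xf9 yf47 zf22) (kf xf9 yf47 zf59) (kf xf11 yf22 zf15) (kf xf10 yf6 zf50) (kf xf10 yf7 zf17) (kf xf18 yf2 zf18) (kf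 xf10 yf7 zf15) (kf xf17 yf12 zf44) (kf xf8 yf31 zf9) (kf xf8 yf30 zf31) (kf xf10 yf45 zf55) (kf xf10 yf45 zf56) (kf xf10 yf45 zf57) (kf xf10 yf45 zf58) (kf xf8 yf30 zf32) (kf xf15 yf2 zf2) (kf xf15 yf1 zf38) (kf xf18 yf44 zf18) (kf xf8 yf26 zf58) (kf xf10 yf25 zf6) (kf xf16 yf44 zf0) (kf xf16 yf44 zf1) (kf xf16 yf44 zf2) (kf xf16 yf44 zf3) (kf xf8 yf26 zf45) (kf xf9 yf26 zf43) (kf xf5 yf15 zf34) (kf xf18 yf44 zf38) (kf xf5 yf15 zf37) (kf xf5 yf15 zf38) (kf xf5 yf15 zf25) (kf xf5 yf15 zf26) (kf xf18 yf22 zf23) (kf xf5 yf15 zf54) (kf xf5 yf15 zf55) (kf xf18 yf44 zf56) (kf xf5 yf15 zf49) (kf xf5 yf15 zf5) (kf xf5 yf15 zf60) (kf xf5 yf15 zf61) (kf xf18 yf45 zf3) (kf xf18 yf45 zf9) (kf xf18 yf45 zf5) (kf xf18 yf45 zf4) (kf xf15 yf55 zf61) (kf xf5 yf15 zf7) (kf xf5 yf16 zf9)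 (kf xf18 yf45 zf21) (kf xf10 yf23 zf61) (kf xf9 yf53 zf1) (kf xf12 yf30 zf46) (kf xf8 yf40 zf48) (kf xf8 yf40 zf50) (kf xf5 yf15 zf13) (kf xf8 yf26 zf26) (kf xf17 yf50 zf8) (kf xf15 yf24 zf58) (kf xf18 yf45 zf31) (kf xf18 yf44 zf37) (kf xf11 yf56 zf61)) (@D3.rec (fun _ => Pt) (kf xf5 yf15 zf19) (kf xf18 yf20 zf34) (kf xf10 yf15 zf6) (kf xf10 yf15 zf5) (kf xf5 yf15 zf22) (kf xf18 yf9 zf2) (kf xf17 yf23 zf4) (kf xf10 yf25 zf4) (kf xf18 yf44 zf43) (kf xf17 yf23 zf28) (kf xf18 yf44 zf44) (kf xf18 yf44 zf45) (kf xf8 yf26 zf13) (kf xf15 yf39 zf10) (kf xf15 yf39 zf9) (kf xf5 yf15 zf27) (kf xf7 yf32 zf40) (kf xf10 yf24 zf57) (kf xf16 yf34 zf40) (kf xf15 yf0 zf45) (kf xf18 yf9 zf8) (kf xf10 yf24 zf54) (kf xf5 yf15 zf32) (kf xf17 yf48 zf46) (kf xf18 yf44 zf35) (kf xf16 yf44 zf13)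 (kf xf5 yf38 zf53) (kf xf18 yf46 zf7) (kf xf5 yf15 zf35) (kf xf5 yf17 zf32) (kf xf18 yf44 zf39) (kf xf18 yf44 zf40) (kf xf18 yf44 zf41) (kf xf18 yf44 zf42) (kf xf18 yf46 zf19) (kf xf17 yf24 zf34) (kf xf10 yf24 zf42) (kf xf18 yf44 zf47) (kf xf16 yf36 zf52) (kf xf5 yf15 zf39) (kf xf18 yf22 zf24) (kf xf10 yf47 zf39) (kf xf18 yf46 zf31) (kf xf5 yf15 zf41) (kf xf10 yf47 zf40) (kf xf10 yf47 zf41) (kf xf10 yf26 zf35) (kf xf10 yf29 zf15) (kf xf8 yf26 zf12) (kf xf10 yf25 zf14) (kf xf15 yf36 zf18) (kf xf15 yf36 zf19) (kf xf15 yf36 zf20) (kf xf11 yf45 zf29) (kf xf18 yf46 zf51) (kf xf9 yf23 zf10) (kf xf18 yf46 zf55) (kf xf18 yf13 zf39) (kf xf18 yf44 zf54) (kf xf18 yf47 zf1) (kf xf5 yf15 zf48) (kf xf18 yf27 zf55)) (@D3.rec (fun _ => Pt) (kf xf10 yf46 zf4) (kf xf10 yf26 zf37) (kf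 xf10 yf25 zf42) (kf xf15 yf0 zf35) (kf xf15 yf0 zf36) (kf xf18 yf14 zf61) (kf xf12 yf20 zf18) (kf xf10 yf26 zf49) (kf xf5 yf15 zf53) (kf xf18 yf44 zf48) (kf xf18 yf44 zf49) (kf xf18 yf44 zf50) (kf xf18 yf44 zf51) (kf xf18 yf47 zf26) (kf xf18 yf47 zf28) (kf xf15 yf36 zf11) (kf xf15 yf36 zf10) (kf xf18 yf47 zf36) (kf xf5 yf15 zf56) (kf xf10 yf26 zf51) (kf xf10 yf25 zf27) (kf xf15 yf36 zf8) (kf xf18 yf44 zf58) (kf xf18 yf44 zf59) (kf xf18 yf44 zf60) (kf xf18 yf44 zf61) (kf xf18 yf47 zf51) (kf xf9 yf22 zf56) (kf xf18 yf47 zf55) (kf xf18 yf47 zf59) (kf xf5 yf16 zf0) (kf xf18 yf27 zf50) (kf xf18 yf27 zf51) (kf xf18 yf27 zf52) (kf xf18 yf27 zf53) (kf xf18 yf48 zf11) (kf xf18 yf48 zf14) (kf xf18 yf48 zf17) (kf xf5 yf16 zf3) (kf xf5 yf16 zf6) (kf xf17 yf47 zf45) (kf xf18 yf48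 zf24) (kf xf18 yf48 zf27) (kf xf5 yf16 zf4) (kf xf18 yf16 zf16) (kf xf18 yf16 zf17) (kf xf5 yf25 zf35) (kf xf16 yf54 zf9) (kf xf16 yf54 zf0) (kf xf18 yf48 zf40) (kf xf18 yf48 zf43) (kf xf5 yf16 zf7) (kf xf10 yf26 zf5) (kf xf18 yf45 zf19) (kf xf7 yf47 zf55) (kf xf14 yf41 zf57) (kf xf8 yf29 zf28) (kf xf9 yf26 zf44) (kf xf17 yf18 zf56) (kf xf15 yf55 zf7) (kf xf5 yf16 zf12) (kf xf9 yf26 zf42)) (@D3.rec (fun _ => Pt) (kf xf10 yf26 zf16) (kf xf10 yf26 zf17) (kf xf10 yf26 zf18) (kf xf10 yf26 zf19) (kf xf10 yf26 zf20) (kf xf5 yf31 zf20) (kf xf10 yf26 zf22) (kf xf10 yf26 zf23) (kf xf10 yf26 zf24) (kf xf10 yf26 zf40) (kf xf10 yf26 zf26) (kf xf8 yf45 zf50) (kf xf16 yf35 zf0) (kf xf16 yf34 zf61) (kf xf5 yf16 zf19) (kf xf16 yf34 zf43) (kf xf16 yf35 zf4) (kf xf8 yf55 zf39) (kf xf16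 yf35 zf2) (kf xf16 yf35 zf3) (kf xf10 yf29 zf53) (kf xf10 yf25 zf26) (kf xf8 yf59 zf49) (kf xf8 yf59 zf51) (kf xf9 yf40 zf4) (kf xf10 yf26 zf42) (kf xf18 yf49 zf36) (kf xf10 yf29 zf49) (kf xf10 yf29 zf48) (kf xf18 yf42 zf23) (kf xf5 yf16 zf28) (kf xf10 yf25 zf29) (kf xf10 yf29 zf54) (kf xf16 yf35 zf5) (kf xf10 yf29 zf52) (kf xf10 yf26 zf52) (kf xf5 yf16 zf42) (kf xf13 yf14 zf41) (kf xf18 yf29 zf20) (kf xf18 yf29 zf36) (kf xf18 yf49 zf52) (kf xf18 yf35 zf54) (kf xf18 yf47 zf15) (kf xf18 yf29 zf33) (kf xf18 yf50 zf0) (kf xf18 yf50 zf4) (kf xf5 yf16 zf37) (kf xf12 yf38 zf43) (kf xf5 yf16 zf38) (kf xf17 yf48 zf43) (kf xf18 yf50 zf10) (kf xf5 yf16 zf39) (kf xf17 yf52 zf28) (kf xf6 yf34 zf17) (kf xf6 yf41 zf12) (kf xf6 yf58 zf19) (kf xf13 yf14 zf42) (kf xf14 yf53 zf39) (kf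 xf18 yf49 zf46) (kf xf18 yf50 zf20) (kf xf12 yf38 zf35) (kf xf5 yf25 zf34)) (@D3.rec (fun _ => Pt) (kf xf13 yf37 zf55) (kf xf5 yf16 zf44) (kf xf16 yf25 zf27) (kf xf6 yf34 zf24) (kf xf17 yf0 zf14) (kf xf17 yf0 zf15) (kf xf18 yf50 zf34) (kf xf12 yf29 zf1) (kf xf17 yf0 zf3) (kf xf17 yf0 zf4) (kf xf17 yf0 zf5) (kf xf16 yf59 zf39) (kf xf16 yf59 zf40) (kf xf14 yf11 zf54) (kf xf10 yf27 zf39) (kf xf10 yf27 zf44) (kf xf10 yf27 zf45) (kf xf18 yf50 zf54) (kf xf10 yf27 zf42) (kf xf18 yf50 zf55) (kf xf10 yf27 zf47) (kf xf10 yf27 zf48) (kf xf9 yf42 zf6) (kf xf9 yf41 zf30) (kf xf8 yf6 zf18) (kf xf18 yf51 zf1) (kf xf8 yf6 zf14) (kf xf8 yf6 zf15) (kf xf10 yf56 zf45) (kf xf10 yf49 zf55) (kf xf10 yf49 zf56) (kf xf10 yf49 zf57) (kf xf8 yf19 zf58) (kf xf8 yf6 zf26) (kf xf8 yf6 zf25) (kf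 xf18 yf51 zf25) (kf xf18 yf51 zf27) (kf xf11 yf55 zf20) (kf xf5 yf18 zf14) (kf xf8 yf17 zf8) (kf xf5 yf17 zf42) (kf xf5 yf17 zf43) (kf xf5 yf17 zf33) (kf xf5 yf17 zf34) (kf xf15 yf51 zf39) (kf xf5 yf17 zf57) (kf xf5 yf17 zf58) (kf xf5 yf17 zf53) (kf xf5 yf17 zf5) (kf xf5 yf18 zf1) (kf xf5 yf18 zf2) (kf xf7 yf32 zf34) (kf xf18 yf51 zf58) (kf xf18 yf51 zf53) (kf xf18 yf51 zf52) (kf xf18 yf52 zf6) (kf xf5 yf17 zf7) (kf xf5 yf18 zf12) (kf xf5 yf17 zf26) (kf xf18 yf52 zf12) (kf xf5 yf17 zf8) (kf xf10 yf19 zf50)) (@D3.rec (fun _ => Pt) (kf xf8 yf18 zf37) (kf xf8 yf17 zf37) (kf xf18 yf52 zf20) (kf xf18 yf52 zf22) (kf xf15 yf28 zf13) (kf xf18 yf52 zf28) (kf xf15 yf51 zf56) (kf xf11 yf4 zf11) (kf xf5 yf17 zf16) (kf xf18 yf52 zf31) (kf xf14 yf34 zf34) (kf xf10 yf50 zf49) (kf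 xf8 yf17 zf11) (kf xf15 yf28 zf14) (kf xf5 yf17 zf20) (kf xf18 yf51 zf26) (kf xf15 yf30 zf2) (kf xf5 yf17 zf22) (kf xf18 yf52 zf39) (kf xf15 yf28 zf46) (kf xf15 yf28 zf45) (kf xf5 yf17 zf24) (kf xf18 yf52 zf47) (kf xf18 yf52 zf42) (kf xf18 yf52 zf41) (kf xf18 yf52 zf9) (kf xf5 yf17 zf25) (kf xf11 yf59 zf39) (kf xf5 yf32 zf16) (kf xf11 yf2 zf31) (kf xf11 yf2 zf32) (kf xf18 yf4 zf18) (kf xf10 yf25 zf49) (kf xf18 yf53 zf6) (kf xf10 yf2 zf10) (kf xf10 yf2 zf9) (kf xf5 yf17 zf30) (kf xf18 yf30 zf60) (kf xf10 yf25 zf20) (kf xf18 yf53 zf15) (kf xf18 yf38 zf44) (kf xf10 yf25 zf21) (kf xf10 yf20 zf36) (kf xf18 yf51 zf35) (kf xf18 yf51 zf36) (kf xf18 yf51 zf37) (kf xf18 yf51 zf38) (kf xf18 yf53 zf38) (kf xf15 yf40 zf32) (kf xf16 yf0 zf42) (kf xf16 yf0 zf41) (kf xf15 yf51 zf38)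 (kf xf5 yf17 zf35) (kf xf15 yf36 zf4) (kf xf10 yf20 zf21) (kf xf10 yf27 zf51) (kf xf18 yf31 zf5) (kf xf10 yf20 zf17) (kf xf18 yf53 zf50) (kf xf5 yf17 zf40) (kf xf18 yf51 zf31) (kf xf18 yf51 zf32)) (@D3.rec (fun _ => Pt) (kf xf18 yf51 zf33) (kf xf18 yf51 zf34) (kf xf18 yf54 zf5) (kf xf15 yf51 zf50) (kf xf10 yf20 zf7) (kf xf18 yf51 zf41) (kf xf10 yf19 zf21) (kf xf5 yf17 zf44) (kf xf18 yf41 zf53) (kf xf10 yf42 zf57) (kf xf17 yf22 zf53) (kf xf5 yf17 zf46) (kf xf10 yf42 zf58) (kf xf8 yf15 zf8) (kf xf10 yf20 zf49) (kf xf15 yf58 zf61) (kf xf15 yf59 zf0) (kf xf13 yf4 zf60) (kf xf13 yf35 zf49) (kf xf6 yf56 zf35) (kf xf10 yf24 zf38) (kf xf10 yf24 zf41) (kf xf17 yf16 zf45) (kf xf17 yf16 zf46) (kf xf17 yf21 zf57) (kf xf15 yf16 zf5) (kf xf10 yf22 zf21) (kf xf10 yf21 zf20) (kf xf10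 yf28 zf0) (kf xf10 yf22 zf31) (kf xf5 yf17 zf56) (kf xf18 yf51 zf42) (kf xf18 yf51 zf43) (kf xf18 yf51 zf44) (kf xf18 yf51 zf45) (kf xf18 yf54 zf50) (kf xf14 yf10 zf59) (kf xf15 yf58 zf60) (kf xf15 yf58 zf59) (kf xf6 yf32 zf57) (kf xf5 yf17 zf59) (kf xf7 yf32 zf42) (kf xf10 yf21 zf2) (kf xf7 yf32 zf43) (kf xf18 yf51 zf47) (kf xf18 yf51 zf48) (kf xf18 yf51 zf49) (kf xf18 yf51 zf50) (kf xf17 yf21 zf56) (kf xf10 yf24 zf32) (kf xf18 yf5 zf47) (kf xf18 yf5 zf48) (kf xf18 yf5 zf49) (kf xf5 yf18 zf9) (kf xf18 yf55 zf17) (kf xf18 yf55 zf20) (kf xf10 yf42 zf28) (kf xf5 yf18 zf7) (kf xf18 yf36 zf48) (kf xf18 yf36 zf49) (kf xf13 yf3 zf2) (kf xf18 yf55 zf12)) (@D3.rec (fun _ => Pt) (kf xf18 yf55 zf24) (kf xf18 yf55 zf23) (kf xf18 yf55 zf36) (kf xf18 yf55 zf38) (kf xf5 yf18 zf10)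 (kf xf10 yf21 zf52) (kf xf18 yf52 zf8) (kf xf15 yf40 zf36) (kf xf18 yf4 zf22) (kf xf15 yf52 zf2) (kf xf15 yf40 zf53) (kf xf10 yf51 zf28) (kf xf17 yf21 zf19) (kf xf18 yf52 zf11) (kf xf5 yf18 zf15) (kf xf18 yf55 zf53) (kf xf10 yf22 zf0) (kf xf10 yf22 zf1) (kf xf10 yf22 zf2) (kf xf10 yf22 zf3) (kf xf10 yf22 zf4) (kf xf8 yf57 zf13) (kf xf10 yf22 zf6) (kf xf10 yf22 zf7) (kf xf10 yf22 zf8) (kf xf9 yf39 zf32) (kf xf10 yf22 zf10) (kf xf18 yf56 zf13) (kf xf10 yf28 zf34) (kf xf10 yf28 zf33) (kf xf18 yf56 zf19) (kf xf5 yf18 zf22) (kf xf10 yf27 zf60) (kf xf10 yf28 zf39) (kf xf5 yf25 zf45) (kf xf10 yf20 zf46) (kf xf10 yf28 zf38) (kf xf10 yf21 zf1) (kf xf5 yf35 zf0) (kf xf5 yf35 zf2) (kf xf10 yf22 zf9) (kf xf9 yf39 zf26) (kf xf10 yf22 zf25) (kf xf8 yf11 zf43) (kf xf16 yf24 zf3) (kf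 xf16 yf35 zf40) (kf xf16 yf35 zf39) (kf xf18 yf56 zf40) (kf xf5 yf18 zf32) (kf xf10 yf21 zf7) (kf xf16 yf21 zf50) (kf xf10 yf21 zf19) (kf xf10 yf22 zf35) (kf xf5 yf18 zf45) (kf xf5 yf18 zf46) (kf xf5 yf18 zf47) (kf xf9 yf43 zf17) (kf xf12 yf35 zf3) (kf xf18 yf56 zf50) (kf xf18 yf15 zf25) (kf xf18 yf54 zf41) (kf xf13 yf20 zf3)) (@D3.rec (fun _ => Pt) (kf xf13 yf35 zf59) (kf xf13 yf19 zf41) (kf xf5 yf18 zf41) (kf xf18 yf0 zf12) (kf xf14 yf35 zf27) (kf xf17 yf20 zf3) (kf xf5 yf18 zf42) (kf xf9 yf40 zf60) (kf xf18 yf57 zf3) (kf xf5 yf18 zf43) (kf xf13 yf19 zf49) (kf xf18 yf13 zf45) (kf xf18 yf7 zf36) (kf xf18 yf15 zf41) (kf xf18 yf56 zf43) (kf xf18 yf57 zf14) (kf xf15 yf32 zf12) (kf xf18 yf56 zf45) (kf xf13 yf19 zf39) (kf xf17 yf16 zf59) (kf xf18 yf57 zf23) (kf xf10 yf42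 zf17) (kf xf12 yf21 zf16) (kf xf5 yf18 zf48) (kf xf11 yf35 zf45) (kf xf12 yf35 zf12) (kf xf11 yf36 zf7) (kf xf11 yf36 zf8) (kf xf18 yf57 zf34) (kf xf11 yf36 zf10) (kf xf11 yf36 zf11) (kf xf18 yf57 zf41) (kf xf11 yf35 zf43) (kf xf11 yf35 zf44) (kf xf11 yf35 zf46) (kf xf17 yf18 zf30) (kf xf18 yf57 zf29) (kf xf18 yf57 zf28) (kf xf5 yf18 zf53) (kf xf10 yf23 zf14) (kf xf9 yf43 zf14) (kf xf9 yf15 zf32) (kf xf10 yf23 zf18) (kf xf18 yf58 zf2) (kf xf10 yf23 zf15) (kf xf10 yf23 zf16) (kf xf18 yf58 zf5) (kf xf10 yf23 zf20) (kf xf10 yf23 zf21) (kf xf6 yf29 zf11) (kf xf18 yf45 zf61) (kf xf10 yf24 zf55) (kf xf18 yf9 zf50) (kf xf10 yf28 zf5) (kf xf10 yf15 zf1) (kf xf5 yf19 zf0) (kf xf10 yf28 zf3) (kf xf18 yf11 zf33) (kf xf5 yf19 zf2) (kf xf10 yf28 zf7) (kf xf10 yf26 zf32) (kf xf5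 yf19 zf4)) (@D3.rec (fun _ => Pt) (kf xf10 yf25 zf28) (kf xf5 yf19 zf5) (kf xf10 yf28 zf13) (kf xf10 yf27 zf56) (kf xf18 yf58 zf22) (kf xf10 yf27 zf53) (kf xf5 yf19 zf9) (kf xf10 yf27 zf59) (kf xf5 yf19 zf11) (kf xf18 yf13 zf4) (kf xf18 yf13 zf5) (kf xf10 yf30 zf21) (kf xf18 yf14 zf30) (kf xf10 yf28 zf2) (kf xf10 yf29 zf25) (kf xf10 yf29 zf26) (kf xf10 yf29 zf27) (kf xf10 yf29 zf28) (kf xf18 yf58 zf43) (kf xf18 yf58 zf47) (kf xf10 yf14 zf60) (kf xf10 yf14 zf59) (kf xf18 yf58 zf53) (kf xf5 yf19 zf17) (kf xf10 yf15 zf3) (kf xf10 yf15 zf2) (kf xf16 yf3 zf34) (kf xf10 yf29 zf42) (kf xf10 yf29 zf43) (kf xf10 yf29 zf44) (kf xf10 yf29 zf45) (kf xf18 yf59 zf10) (kf xf18 yf59 zf14) (kf xf10 yf26 zf29) (kf xf10 yf26 zf28) (kf xf18 yf59 zf21) (kf xf5 yf19 zf23) (kf xf8 yf44 zf37)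 (kf xf10 yf26 zf36) (kf xf10 yf26 zf33) (kf xf8 yf44 zf39) (kf xf5 yf20 zf16) (kf xf18 yf59 zf30) (kf xf5 yf19 zf26) (kf xf10 yf30 zf1) (kf xf8 yf45 zf18) (kf xf10 yf30 zf2) (kf xf10 yf30 zf3) (kf xf8 yf44 zf56) (kf xf18 yf59 zf39) (kf xf18 yf59 zf42) (kf xf5 yf19 zf30) (kf xf10 yf29 zf55) (kf xf10 yf29 zf56) (kf xf10 yf29 zf57) (kf xf10 yf29 zf58) (kf xf18 yf59 zf57) (kf xf18 yf59 zf60) (kf xf19 yf0 zf2) (kf xf5 yf19 zf33) (kf xf10 yf29 zf2) (kf xf19 yf0 zf7)) (@D3.rec (fun _ => Pt) (kf xf10 yf29 zf4) (kf xf19 yf0 zf14) (kf xf10 yf28 zf60) (kf xf19 yf0 zf19) (kf xf10 yf29 zf0) (kf xf19 yf0 zf24) (kf xf18 yf14 zf31) (kf xf10 yf30 zf24) (kf xf10 yf30 zf23) (kf xf5 yf19 zf40) (kf xf8 yf44 zf34) (kf xf16 yf35 zf29) (kf xf10 yf30 zf27) (kf xf10 yf30 zf28) (kf xf5 yf24 zf24)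 (kf xf10 yf20 zf47) (kf xf5 yf19 zf43) (kf xf8 yf41 zf44) (kf xf8 yf41 zf41) (kf xf5 yf19 zf44) (kf xf18 yf5 zf52) (kf xf18 yf5 zf53) (kf xf10 yf30 zf18) (kf xf11 yf59 zf48) (kf xf19 yf0 zf47) (kf xf10 yf28 zf14) (kf xf10 yf28 zf15) (kf xf10 yf28 zf16) (kf xf10 yf28 zf17) (kf xf16 yf52 zf61) (kf xf16 yf19 zf37) (kf xf10 yf1 zf53) (kf xf19 yf1 zf1) (kf xf5 yf19 zf50) (kf xf10 yf1 zf47) (kf xf10 yf3 zf30) (kf xf10 yf3 zf29) (kf xf16 yf40 zf35) (kf xf5 yf19 zf52) (kf xf19 yf1 zf10) (kf xf11 yf53 zf46) (kf xf5 yf19 zf54) (kf xf10 yf28 zf27) (kf xf10 yf28 zf28) (kf xf10 yf28 zf29) (kf xf10 yf28 zf30) (kf xf19 yf1 zf21) (kf xf19 yf1 zf25) (kf xf10 yf22 zf28) (kf xf10 yf22 zf27) (kf xf19 yf1 zf30) (kf xf5 yf19 zf58) (kf xf10 yf22 zf34) (kf xf10 yf22 zf20) (kf xf10 yf22 zf32)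 (kf xf10 yf28 zf52) (kf xf10 yf28 zf53) (kf xf10 yf28 zf54) (kf xf10 yf28 zf55) (kf xf19 yf1 zf36) (kf xf19 yf1 zf39) (kf xf19 yf1 zf42)) (@D3.rec (fun _ => Pt) (kf xf5 yf20 zf2) (kf xf10 yf28 zf44) (kf xf10 yf28 zf46) (kf xf10 yf28 zf47) (kf xf16 yf22 zf34) (kf xf19 yf1 zf50) (kf xf19 yf1 zf52) (kf xf5 yf20 zf5) (kf xf5 yf20 zf7) (kf xf19 yf1 zf57) (kf xf19 yf1 zf61) (kf xf18 yf21 zf40) (kf xf19 yf2 zf4) (kf xf5 yf20 zf6) (kf xf18 yf35 zf48) (kf xf9 yf54 zf17) (kf xf18 yf21 zf39) (kf xf19 yf2 zf13) (kf xf10 yf29 zf22) (kf xf19 yf2 zf18) (kf xf16 yf22 zf14) (kf xf10 yf28 zf11) (kf xf19 yf2 zf25) (kf xf10 yf29 zf8) (kf xf10 yf29 zf7) (kf xf5 yf20 zf12) (kf xf16 yf22 zf15) (kf xf10 yf29 zf12) (kf xf10 yf29 zf13) (kf xf8 yf54 zf30) (kf xf5 yf21 zf33) (kf xf14 yf39 zf29)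 (kf xf5 yf21 zf54) (kf xf5 yf21 zf55) (kf xf19 yf2 zf45) (kf xf5 yf21 zf51) (kf xf5 yf20 zf18) (kf xf5 yf22 zf1) (kf xf5 yf22 zf2) (kf xf19 yf2 zf54) (kf xf5 yf21 zf60) (kf xf5 yf21 zf61) (kf xf19 yf3 zf0) (kf xf19 yf3 zf6) (kf xf19 yf3 zf2) (kf xf19 yf3 zf1) (kf xf12 yf4 zf34) (kf xf5 yf20 zf21) (kf xf5 yf22 zf10) (kf xf5 yf22 zf9) (kf xf19 yf3 zf20) (kf xf5 yf20 zf22) (kf xf5 yf21 zf8) (kf xf5 yf23 zf27) (kf xf11 yf4 zf12) (kf xf5 yf20 zf26) (kf xf5 yf22 zf45) (kf xf5 yf22 zf57) (kf xf19 yf3 zf32) (kf xf5 yf22 zf54) (kf xf14 yf39 zf32) (kf xf5 yf23 zf40)) (@D3.rec (fun _ => Pt) (kf xf5 yf23 zf41) (kf xf5 yf23 zf42) (kf xf5 yf23 zf43) (kf xf5 yf23 zf5) (kf xf18 yf50 zf50) (kf xf5 yf23 zf8) (kf xf5 yf23 zf7) (kf xf19 yf3 zf57) (kf xf5 yf20 zf32) (kf xf5 yf23 zf11) (kf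 xf10 yf42 zf47) (kf xf5 yf22 zf36) (kf xf16 yf51 zf14) (kf xf5 yf20 zf36) (kf xf5 yf22 zf61) (kf xf5 yf23 zf0) (kf xf5 yf23 zf1) (kf xf5 yf23 zf2) (kf xf14 yf37 zf2) (kf xf19 yf4 zf13) (kf xf5 yf23 zf47) (kf xf5 yf23 zf46) (kf xf19 yf4 zf20) (kf xf5 yf20 zf39) (kf xf5 yf23 zf52) (kf xf5 yf21 zf29) (kf xf16 yf12 zf59) (kf xf5 yf31 zf18) (kf xf5 yf20 zf42) (kf xf5 yf24 zf9) (kf xf16 yf38 zf33) (kf xf5 yf24 zf36) (kf xf5 yf24 zf37) (kf xf5 yf24 zf38) (kf xf5 yf24 zf39) (kf xf7 yf36 zf52) (kf xf18 yf20 zf38) (kf xf5 yf24 zf18) (kf xf9 yf45 zf16) (kf xf5 yf20 zf46) (kf xf5 yf24 zf23) (kf xf16 yf38 zf27) (kf xf5 yf32 zf31) (kf xf5 yf20 zf49) (kf xf5 yf24 zf10) (kf xf5 yf24 zf11) (kf xf5 yf24 zf12) (kf xf5 yf24 zf13) (kf xf7 yf45 zf32) (kf xf19 yf4 zf41) (kf xf5 yf24 zf42)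 (kf xf5 yf24 zf41) (kf xf5 yf20 zf52) (kf xf5 yf24 zf46) (kf xf16 yf2 zf55) (kf xf5 yf25 zf1) (kf xf5 yf25 zf2) (kf xf5 yf25 zf3) (kf xf5 yf25 zf5) (kf xf16 yf53 zf57) (kf xf18 yf20 zf35) (kf xf5 yf24 zf51)) (@D3.rec (fun _ => Pt) (kf xf5 yf24 zf52) (kf xf5 yf24 zf55) (kf xf14 yf53 zf2) (kf xf7 yf20 zf56) (kf xf5 yf21 zf2) (kf xf5 yf21 zf1) (kf xf14 yf43 zf16) (kf xf19 yf5 zf8) (kf xf18 yf22 zf25) (kf xf14 yf41 zf42) (kf xf5 yf21 zf0) (kf xf19 yf5 zf3) (kf xf11 yf54 zf56) (kf xf17 yf52 zf24) (kf xf17 yf52 zf22) (kf xf17 yf52 zf23) (kf xf12 yf4 zf35) (kf xf5 yf25 zf31) (kf xf18 yf48 zf44) (kf xf5 yf25 zf29) (kf xf19 yf5 zf24) (kf xf5 yf25 zf36) (kf xf5 yf21 zf7) (kf xf5 yf25 zf40) (kf xf5 yf25 zf39) (kf xf12 yf4 zf33) (kf xf5 yf25 zf47) (kf xf5 yf25 zf48) (kf xf5 yf25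 zf42) (kf xf5 yf25 zf43) (kf xf5 yf25 zf44) (kf xf8 yf22 zf16) (kf xf9 yf35 zf25) (kf xf9 yf35 zf26) (kf xf15 yf45 zf13) (kf xf8 yf31 zf54) (kf xf10 yf32 zf45) (kf xf19 yf5 zf46) (kf xf15 yf41 zf26) (kf xf15 yf41 zf27) (kf xf15 yf41 zf28) (kf xf15 yf3 zf1) (kf xf9 yf34 zf47) (kf xf10 yf32 zf51) (kf xf14 yf46 zf42) (kf xf10 yf32 zf36) (kf xf19 yf5 zf61) (kf xf16 yf3 zf59) (kf xf16 yf3 zf60) (kf xf16 yf3 zf61) (kf xf16 yf4 zf0) (kf xf10 yf32 zf43) (kf xf7 yf57 zf46) (kf xf19 yf6 zf12) (kf xf15 yf41 zf47) (kf xf15 yf41 zf48) (kf xf16 yf34 zf41) (kf xf15 yf0 zf46) (kf xf19 yf6 zf23) (kf xf15 yf9 zf48) (kf xf5 yf21 zf20) (kf xf15 yf0 zf39)) (@D3.rec (fun _ => Pt) (kf xf19 yf6 zf27) (kf xf15 yf14 zf8) (kf xf5 yf21 zf22) (kf xf18 yf34 zf8) (kf xf18 yf34 zf9) (kf xf18 yf34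 zf10) (kf xf18 yf31 zf27) (kf xf19 yf6 zf44) (kf xf15 yf32 zf0) (kf xf12 yf47 zf46) (kf xf10 yf0 zf47) (kf xf10 yf0 zf46) (kf xf5 yf21 zf27) (kf xf18 yf30 zf45) (kf xf10 yf34 zf20) (kf xf16 yf54 zf55) (kf xf10 yf16 zf47) (kf xf10 yf16 zf46) (kf xf10 yf16 zf50) (kf xf10 yf16 zf51) (kf xf18 yf30 zf47) (kf xf10 yf33 zf53) (kf xf12 yf23 zf36) (kf xf18 yf30 zf46) (kf xf10 yf33 zf54) (kf xf14 yf39 zf9) (kf xf14 yf39 zf8) (kf xf18 yf31 zf29) (kf xf9 yf33 zf21) (kf xf15 yf0 zf52) (kf xf14 yf31 zf9) (kf xf14 yf39 zf28) (kf xf13 yf7 zf60) (kf xf11 yf54 zf54) (kf xf5 yf23 zf14) (kf xf13 yf34 zf9) (kf xf19 yf7 zf29) (kf xf5 yf22 zf60) (kf xf14 yf39 zf33) (kf xf5 yf22 zf53) (kf xf8 yf11 zf42) (kf xf19 yf7 zf42) (kf xf11 yf55 zf33) (kf xf15 yf16 zf43) (kf xf5 yf21 zf45) (kf xf9 yf33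 zf20) (kf xf5 yf24 zf8) (kf xf16 yf38 zf32) (kf xf16 yf38 zf34) (kf xf16 yf38 zf35) (kf xf16 yf38 zf36) (kf xf16 yf38 zf37) (kf xf19 yf8 zf2) (kf xf10 yf33 zf21) (kf xf10 yf33 zf24) (kf xf19 yf8 zf10) (kf xf19 yf2 zf43) (kf xf19 yf2 zf42) (kf xf19 yf8 zf18) (kf xf5 yf21 zf50) (kf xf19 yf2 zf46) (kf xf15 yf41 zf34)) (@D3.rec (fun _ => Pt) (kf xf11 yf55 zf50) (kf xf5 yf24 zf45) (kf xf19 yf2 zf36) (kf xf19 yf2 zf37) (kf xf19 yf2 zf38) (kf xf19 yf2 zf39) (kf xf19 yf8 zf35) (kf xf19 yf8 zf38) (kf xf9 yf4 zf5) (kf xf16 yf38 zf28) (kf xf19 yf8 zf43) (kf xf5 yf21 zf56) (kf xf11 yf56 zf8) (kf xf5 yf24 zf27) (kf xf16 yf38 zf26) (kf xf19 yf2 zf55) (kf xf19 yf2 zf56) (kf xf19 yf2 zf57) (kf xf19 yf2 zf58) (kf xf19 yf9 zf0) (kf xf10 yf33 zf14) (kf xf19 yf9 zf4) (kf xf19 yf9 zf7)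 (kf xf5 yf22 zf0) (kf xf19 yf2 zf47) (kf xf19 yf2 zf48) (kf xf19 yf2 zf49) (kf xf19 yf2 zf50) (kf xf19 yf9 zf23) (kf xf19 yf9 zf27) (kf xf19 yf9 zf29) (kf xf5 yf22 zf3) (kf xf5 yf22 zf6) (kf xf5 yf22 zf5) (kf xf17 yf36 zf14) (kf xf6 yf51 zf5) (kf xf19 yf9 zf41) (kf xf19 yf9 zf44) (kf xf5 yf22 zf4) (kf xf19 yf9 zf32) (kf xf19 yf9 zf33) (kf xf19 yf9 zf30) (kf xf19 yf9 zf49) (kf xf19 yf9 zf48) (kf xf19 yf10 zf1) (kf xf19 yf10 zf0) (kf xf5 yf22 zf7) (kf xf5 yf25 zf28) (kf xf19 yf3 zf16) (kf xf14 yf52 zf0) (kf xf19 yf3 zf14) (kf xf19 yf10 zf14) (kf xf16 yf34 zf47) (kf xf19 yf10 zf15) (kf xf19 yf3 zf19) (kf xf19 yf3 zf18) (kf xf5 yf22 zf12) (kf xf19 yf9 zf60) (kf xf5 yf25 zf41) (kf xf10 yf35 zf18) (kf xf10 yf35 zf25) (kf xf10 yf35 zf24)) (@D3.rec (fun _ => Pt) (kf xf5 yf22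 zf16) (kf xf9 yf41 zf13) (kf xf18 yf39 zf49) (kf xf10 yf37 zf35) (kf xf10 yf37 zf36) (kf xf10 yf37 zf37) (kf xf9 yf43 zf13) (kf xf14 yf37 zf3) (kf xf10 yf42 zf15) (kf xf9 yf41 zf36) (kf xf11 yf51 zf49) (kf xf5 yf22 zf21) (kf xf19 yf6 zf48) (kf xf10 yf35 zf41) (kf xf10 yf35 zf40) (kf xf5 yf22 zf24) (kf xf8 yf2 zf45) (kf xf16 yf13 zf31) (kf xf10 yf34 zf59) (kf xf10 yf37 zf20) (kf xf19 yf10 zf48) (kf xf5 yf22 zf29) (kf xf9 yf41 zf22) (kf xf19 yf10 zf53) (kf xf10 yf34 zf61) (kf xf10 yf34 zf60) (kf xf5 yf22 zf33) (kf xf9 yf41 zf19) (kf xf19 yf10 zf59) (kf xf8 yf15 zf40) (kf xf5 yf22 zf35) (kf xf19 yf3 zf59) (kf xf19 yf3 zf60) (kf xf19 yf3 zf61) (kf xf7 yf50 zf34) (kf xf13 yf9 zf28) (kf xf5 yf22 zf37) (kf xf9 yf41 zf33) (kf xf9 yf41 zf32) (kf xf18 yf17 zf51) (kf xf10 yf35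 zf14) (kf xf10 yf35 zf13) (kf xf19 yf11 zf13) (kf xf5 yf22 zf40) (kf xf8 yf13 zf20) (kf xf8 yf13 zf50) (kf xf8 yf13 zf51) (kf xf19 yf3 zf24) (kf xf19 yf3 zf25) (kf xf19 yf3 zf26) (kf xf19 yf11 zf27) (kf xf15 yf44 zf3) (kf xf15 yf44 zf2) (kf xf19 yf11 zf34) (kf xf5 yf22 zf47) (kf xf15 yf43 zf61) (kf xf15 yf44 zf0) (kf xf15 yf43 zf59) (kf xf15 yf44 zf7) (kf xf15 yf44 zf8) (kf xf15 yf44 zf9) (kf xf10 yf40 zf42)) (@D3.rec (fun _ => Pt) (kf xf19 yf7 zf35) (kf xf19 yf11 zf48) (kf xf18 yf59 zf27) (kf xf17 yf35 zf43) (kf xf19 yf7 zf36) (kf xf19 yf3 zf33) (kf xf19 yf3 zf34) (kf xf19 yf3 zf35) (kf xf10 yf39 zf19) (kf xf19 yf12 zf8) (kf xf18 yf53 zf55) (kf xf19 yf12 zf12) (kf xf5 yf22 zf56) (kf xf19 yf3 zf27) (kf xf19 yf3 zf28) (kf xf19 yf3 zf29) (kf xf10 yf39 zf21) (kf xf19 yf7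 zf30) (kf xf18 yf52 zf30) (kf xf19 yf12 zf30) (kf xf19 yf7 zf31) (kf xf19 yf4 zf1) (kf xf18 yf39 zf20) (kf xf10 yf39 zf11) (kf xf19 yf12 zf43) (kf xf18 yf53 zf21) (kf xf17 yf49 zf22) (kf xf10 yf39 zf12) (kf xf19 yf12 zf50) (kf xf16 yf21 zf25) (kf xf14 yf40 zf18) (kf xf19 yf4 zf4) (kf xf19 yf4 zf5) (kf xf19 yf12 zf58) (kf xf19 yf12 zf52) (kf xf14 yf38 zf11) (kf xf19 yf13 zf5) (kf xf5 yf23 zf3) (kf xf15 yf50 zf0) (kf xf19 yf13 zf10) (kf xf19 yf3 zf46) (kf xf18 yf50 zf18) (kf xf19 yf3 zf48) (kf xf18 yf49 zf54) (kf xf19 yf13 zf21) (kf xf5 yf23 zf6) (kf xf19 yf3 zf52) (kf xf19 yf3 zf53) (kf xf19 yf3 zf50) (kf xf9 yf41 zf10) (kf xf19 yf3 zf51) (kf xf11 yf44 zf38) (kf xf19 yf3 zf55) (kf xf19 yf3 zf54) (kf xf19 yf13 zf43) (kf xf5 yf23 zf9) (kf xf15 yf1 zf15) (kf xf17 yf28 zf55)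 (kf xf19 yf3 zf58) (kf xf8 yf53 zf48) (kf xf10 yf40 zf13) (kf xf16 yf43 zf61)) (@D3.rec (fun _ => Pt) (kf xf16 yf57 zf40) (kf xf11 yf53 zf41) (kf xf15 yf19 zf20) (kf xf11 yf53 zf39) (kf xf11 yf53 zf36) (kf xf11 yf53 zf35) (kf xf19 yf14 zf5) (kf xf19 yf14 zf10) (kf xf5 yf23 zf17) (kf xf10 yf3 zf34) (kf xf11 yf53 zf17) (kf xf11 yf52 zf53) (kf xf15 yf19 zf8) (kf xf10 yf37 zf16) (kf xf10 yf37 zf17) (kf xf6 yf5 zf4) (kf xf10 yf37 zf13) (kf xf10 yf37 zf14) (kf xf8 yf13 zf53) (kf xf19 yf14 zf26) (kf xf10 yf35 zf19) (kf xf16 yf16 zf36) (kf xf16 yf14 zf25) (kf xf19 yf3 zf21) (kf xf19 yf3 zf22) (kf xf19 yf3 zf23) (kf xf18 yf2 zf58) (kf xf19 yf14 zf46) (kf xf19 yf14 zf50) (kf xf9 yf0 zf60) (kf xf19 yf14 zf56) (kf xf5 yf23 zf29) (kf xf15 yf18 zf61) (kf xf16 yf3 zf44) (kf xf5 yf23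 zf31) (kf xf10 yf35 zf3) (kf xf10 yf35 zf4) (kf xf10 yf35 zf5) (kf xf7 yf44 zf59) (kf xf6 yf2 zf24) (kf xf5 yf23 zf34) (kf xf9 yf41 zf60) (kf xf8 yf16 zf37) (kf xf10 yf15 zf33) (kf xf9 yf41 zf59) (kf xf10 yf51 zf54) (kf xf12 yf43 zf37) (kf xf5 yf23 zf37) (kf xf19 yf3 zf38) (kf xf19 yf3 zf39) (kf xf10 yf39 zf56) (kf xf19 yf3 zf40) (kf xf16 yf50 zf31) (kf xf10 yf39 zf57) (kf xf14 yf37 zf23) (kf xf19 yf3 zf41) (kf xf14 yf40 zf21) (kf xf19 yf3 zf42) (kf xf19 yf3 zf43) (kf xf19 yf3 zf44) (kf xf19 yf15 zf35) (kf xf14 yf39 zf24)) (@D3.rec (fun _ => Pt) (kf xf19 yf15 zf25) (kf xf19 yf15 zf44) (kf xf5 yf23 zf44) (kf xf19 yf4 zf11) (kf xf19 yf4 zf10) (kf xf19 yf15 zf54) (kf xf5 yf23 zf45) (kf xf17 yf21 zf13) (kf xf9 yf41 zf51) (kf xf19 yf4 zf16) (kf xf11 yf6 zf20) (kf xf19 yf4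 zf14) (kf xf19 yf4 zf15) (kf xf19 yf4 zf18) (kf xf19 yf4 zf17) (kf xf19 yf16 zf18) (kf xf5 yf23 zf48) (kf xf15 yf36 zf42) (kf xf15 yf45 zf22) (kf xf15 yf45 zf23) (kf xf10 yf16 zf48) (kf xf19 yf4 zf21) (kf xf19 yf4 zf22) (kf xf16 yf2 zf56) (kf xf16 yf2 zf54) (kf xf16 yf2 zf51) (kf xf16 yf2 zf50) (kf xf19 yf16 zf40) (kf xf19 yf16 zf44) (kf xf5 yf23 zf55) (kf xf16 yf2 zf47) (kf xf11 yf52 zf10) (kf xf16 yf4 zf16) (kf xf8 yf43 zf10) (kf xf8 yf43 zf11) (kf xf16 yf3 zf30) (kf xf16 yf2 zf58) (kf xf16 yf2 zf59) (kf xf14 yf7 zf57) (kf xf14 yf7 zf54) (kf xf11 yf52 zf2) (kf xf14 yf7 zf40) (kf xf5 yf23 zf61) (kf xf9 yf42 zf56) (kf xf9 yf42 zf57) (kf xf9 yf42 zf58) (kf xf9 yf42 zf59) (kf xf19 yf17 zf12) (kf xf18 yf10 zf24) (kf xf9 yf42 zf20) (kf xf9 yf42 zf18) (kf xf19 yf17 zf16)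 (kf xf5 yf24 zf2) (kf xf16 yf45 zf54) (kf xf15 yf32 zf3) (kf xf15 yf19 zf40) (kf xf19 yf17 zf19) (kf xf8 yf52 zf0) (kf xf15 yf49 zf59) (kf xf15 yf49 zf60) (kf xf15 yf49 zf61) (kf xf19 yf7 zf48)) (@D3.rec (fun _ => Pt) (kf xf14 yf31 zf3) (kf xf5 yf34 zf13) (kf xf19 yf4 zf23) (kf xf19 yf4 zf24) (kf xf19 yf4 zf37) (kf xf17 yf53 zf27) (kf xf19 yf7 zf53) (kf xf18 yf46 zf23) (kf xf17 yf50 zf41) (kf xf19 yf4 zf39) (kf xf7 yf45 zf39) (kf xf10 yf36 zf23) (kf xf10 yf36 zf27) (kf xf8 yf44 zf9) (kf xf18 yf45 zf38) (kf xf19 yf17 zf42) (kf xf19 yf17 zf41) (kf xf19 yf17 zf57) (kf xf5 yf24 zf14) (kf xf10 yf36 zf8) (kf xf19 yf18 zf1) (kf xf10 yf36 zf16) (kf xf18 yf41 zf46) (kf xf18 yf46 zf12) (kf xf18 yf39 zf17) (kf xf19 yf18 zf9) (kf xf5 yf24 zf17) (kf xf19 yf4 zf33) (kf xf9 yf4 zf4)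 (kf xf19 yf8 zf40) (kf xf6 yf25 zf21) (kf xf8 yf44 zf20) (kf xf5 yf24 zf20) (kf xf14 yf41 zf55) (kf xf8 yf44 zf36) (kf xf11 yf21 zf5) (kf xf19 yf8 zf45) (kf xf6 yf25 zf14) (kf xf8 yf44 zf25) (kf xf5 yf24 zf29) (kf xf14 yf43 zf44) (kf xf14 yf43 zf40) (kf xf18 yf2 zf41) (kf xf18 yf2 zf42) (kf xf19 yf18 zf31) (kf xf9 yf43 zf57) (kf xf9 yf43 zf54) (kf xf14 yf38 zf57) (kf xf5 yf24 zf32) (kf xf16 yf13 zf3) (kf xf19 yf4 zf27) (kf xf19 yf4 zf28) (kf xf5 yf33 zf57) (kf xf16 yf47 zf52) (kf xf7 yf44 zf48) (kf xf19 yf4 zf29) (kf xf10 yf37 zf50) (kf xf10 yf37 zf53) (kf xf19 yf4 zf30) (kf xf13 yf19 zf43) (kf xf13 yf19 zf45) (kf xf5 yf24 zf40)) (@D3.rec (fun _ => Pt) (kf xf19 yf4 zf44) (kf xf10 yf41 zf3) (kf xf14 yf39 zf30) (kf xf19 yf8 zf15) (kf xf19 yf4 zf42) (kf xf14 yf39 zf31)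 (kf xf16 yf47 zf11) (kf xf13 yf5 zf38) (kf xf19 yf8 zf23) (kf xf5 yf25 zf49) (kf xf19 yf4 zf45) (kf xf11 yf52 zf60) (kf xf11 yf52 zf59) (kf xf10 yf36 zf60) (kf xf11 yf52 zf56) (kf xf11 yf52 zf55) (kf xf19 yf19 zf26) (kf xf19 yf19 zf28) (kf xf5 yf24 zf49) (kf xf16 yf22 zf43) (kf xf19 yf4 zf59) (kf xf16 yf15 zf10) (kf xf11 yf58 zf60) (kf xf14 yf43 zf28) (kf xf19 yf4 zf60) (kf xf19 yf4 zf61) (kf xf14 yf53 zf17) (kf xf13 yf4 zf48) (kf xf14 yf52 zf58) (kf xf15 yf15 zf33) (kf xf15 yf15 zf34) (kf xf15 yf15 zf35) (kf xf14 yf53 zf11) (kf xf17 yf44 zf4) (kf xf19 yf5 zf0) (kf xf14 yf2 zf52) (kf xf7 yf20 zf60) (kf xf14 yf53 zf12) (kf xf14 yf53 zf13) (kf xf19 yf20 zf3) (kf xf5 yf24 zf58) (kf xf18 yf20 zf18) (kf xf10 yf35 zf61) (kf xf18 yf20 zf16) (kf xf18 yf20 zf36) (kf xf5 yf24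 zf61) (kf xf19 yf4 zf47) (kf xf19 yf4 zf48) (kf xf19 yf4 zf50) (kf xf15 yf2 zf39) (kf xf19 yf4 zf51) (kf xf19 yf9 zf13) (kf xf15 yf2 zf6) (kf xf19 yf4 zf52) (kf xf15 yf2 zf4) (kf xf15 yf2 zf5) (kf xf15 yf2 zf7) (kf xf19 yf20 zf26) (kf xf19 yf4 zf54) (kf xf19 yf4 zf55) (kf xf19 yf4 zf56) (kf xf14 yf3 zf46)) (@D3.rec (fun _ => Pt) (kf xf14 yf42 zf9) (kf xf5 yf25 zf6) (kf xf8 yf28 zf15) (kf xf10 yf40 zf1) (kf xf5 yf25 zf7) (kf xf19 yf5 zf1) (kf xf18 yf21 zf0) (kf xf7 yf20 zf55) (kf xf5 yf25 zf8) (kf xf5 yf25 zf22) (kf xf19 yf9 zf31) (kf xf5 yf25 zf18) (kf xf5 yf25 zf20) (kf xf19 yf18 zf15) (kf xf14 yf43 zf43) (kf xf15 yf54 zf45) (kf xf19 yf20 zf53) (kf xf19 yf20 zf56) (kf xf5 yf25 zf13) (kf xf9 yf44 zf2) (kf xf9 yf44 zf14) (kf xf19 yf21 zf0) (kf xf19 yf21 zf2) (kf xf5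 yf25 zf14) (kf xf18 yf46 zf25) (kf xf19 yf21 zf10) (kf xf18 yf45 zf34) (kf xf5 yf25 zf15) (kf xf19 yf18 zf16) (kf xf19 yf21 zf15) (kf xf5 yf25 zf16) (kf xf19 yf19 zf5) (kf xf19 yf17 zf5) (kf xf19 yf19 zf29) (kf xf19 yf20 zf43) (kf xf19 yf21 zf20) (kf xf9 yf44 zf3) (kf xf17 yf58 zf31) (kf xf19 yf20 zf45) (kf xf19 yf21 zf27) (kf xf14 yf41 zf46) (kf xf7 yf36 zf25) (kf xf5 yf25 zf21) (kf xf5 yf25 zf24) (kf xf5 yf25 zf23) (kf xf19 yf20 zf40) (kf xf18 yf47 zf37) (kf xf19 yf21 zf31) (kf xf19 yf21 zf32) (kf xf19 yf21 zf46) (kf xf16 yf22 zf41) (kf xf19 yf21 zf29) (kf xf19 yf21 zf34) (kf xf19 yf21 zf33) (kf xf17 yf48 zf42) (kf xf19 yf21 zf60) (kf xf19 yf22 zf2) (kf xf5 yf25 zf25) (kf xf18 yf45 zf13) (kf xf19 yf21 zf35) (kf xf5 yf25 zf26) (kf xf19 yf22 zf11)) (@D3.rec (fun _ =>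 Pt) (kf xf19 yf10 zf4) (kf xf19 yf10 zf5) (kf xf19 yf10 zf6) (kf xf19 yf5 zf19) (kf xf19 yf5 zf20) (kf xf19 yf22 zf29) (kf xf18 yf48 zf18) (kf xf19 yf22 zf34) (kf xf5 yf25 zf30) (kf xf19 yf5 zf15) (kf xf19 yf5 zf16) (kf xf19 yf22 zf42) (kf xf19 yf5 zf22) (kf xf19 yf22 zf46) (kf xf5 yf25 zf32) (kf xf10 yf35 zf8) (kf xf17 yf48 zf40) (kf xf10 yf27 zf21) (kf xf18 yf50 zf23) (kf xf18 yf48 zf29) (kf xf18 yf16 zf24) (kf xf18 yf48 zf32) (kf xf18 yf16 zf18) (kf xf19 yf5 zf25) (kf xf19 yf5 zf26) (kf xf19 yf5 zf27) (kf xf5 yf25 zf38) (kf xf11 yf26 zf8) (kf xf10 yf25 zf56) (kf xf19 yf23 zf7) (kf xf19 yf5 zf30) (kf xf17 yf35 zf52) (kf xf9 yf5 zf57) (kf xf19 yf18 zf18) (kf xf19 yf5 zf28) (kf xf15 yf3 zf10) (kf xf9 yf5 zf56) (kf xf19 yf19 zf11) (kf xf19 yf5 zf32) (kf xf9 yf22 zf33)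 (kf xf11 yf30 zf5) (kf xf9 yf43 zf21) (kf xf19 yf5 zf33) (kf xf18 yf56 zf20) (kf xf19 yf5 zf35) (kf xf7 yf44 zf56) (kf xf18 yf56 zf23) (kf xf10 yf31 zf10) (kf xf19 yf5 zf37) (kf xf11 yf2 zf39) (kf xf16 yf13 zf24) (kf xf8 yf41 zf19) (kf xf19 yf19 zf2) (kf xf7 yf45 zf8) (kf xf11 yf54 zf60) (kf xf9 yf23 zf3) (kf xf16 yf44 zf43) (kf xf10 yf25 zf9) (kf xf10 yf25 zf12) (kf xf11 yf54 zf61) (kf xf16 yf44 zf40) (kf xf11 yf55 zf0)) (@D3.rec (fun _ => Pt) (kf xf11 yf55 zf1) (kf xf11 yf55 zf2) (kf xf11 yf55 zf3) (kf xf11 yf31 zf61) (kf xf11 yf55 zf5) (kf xf15 yf55 zf9) (kf xf15 yf55 zf8) (kf xf19 yf24 zf9) (kf xf5 yf25 zf57) (kf xf15 yf55 zf13) (kf xf11 yf52 zf42) (kf xf15 yf55 zf12) (kf xf5 yf28 zf10) (kf xf10 yf17 zf7) (kf xf10 yf17 zf8) (kf xf6 yf44 zf53) (kf xf9 yf50 zf36)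 (kf xf11 yf55 zf12) (kf xf9 yf50 zf35) (kf xf11 yf14 zf21) (kf xf11 yf55 zf13) (kf xf11 yf55 zf14) (kf xf10 yf44 zf18) (kf xf6 yf15 zf47) (kf xf11 yf31 zf60) (kf xf11 yf34 zf55) (kf xf11 yf34 zf56) (kf xf11 yf31 zf47) (kf xf8 yf0 zf17) (kf xf10 yf47 zf36) (kf xf10 yf47 zf37) (kf xf11 yf54 zf31) (kf xf10 yf44 zf36) (kf xf5 yf30 zf6) (kf xf11 yf54 zf33) (kf xf10 yf44 zf37) (kf xf15 yf19 zf28) (kf xf11 yf54 zf36) (kf xf11 yf54 zf37) (kf xf12 yf58 zf13) (kf xf5 yf29 zf56) (kf xf9 yf22 zf60) (kf xf5 yf26 zf11) (kf xf5 yf29 zf47) (kf xf11 yf54 zf46) (kf xf11 yf54 zf47) (kf xf9 yf26 zf13) (kf xf5 yf30 zf35) (kf xf11 yf54 zf50) (kf xf19 yf25 zf3) (kf xf11 yf54 zf52) (kf xf11 yf54 zf53) (kf xf5 yf30 zf24) (kf xf5 yf28 zf61) (kf xf5 yf29 zf1) (kf xf5 yf28 zf43) (kf xf5 yf28 zf46)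 (kf xf11 yf55 zf53) (kf xf5 yf31 zf5) (kf xf11 yf55 zf56) (kf xf11 yf55 zf57) (kf xf11 yf55 zf58)) (@D3.rec (fun _ => Pt) (kf xf16 yf59 zf9) (kf xf9 yf22 zf48) (kf xf19 yf25 zf30) (kf xf15 yf55 zf21) (kf xf15 yf55 zf20) (kf xf19 yf25 zf37) (kf xf5 yf26 zf26) (kf xf15 yf55 zf25) (kf xf8 yf32 zf35) (kf xf11 yf53 zf12) (kf xf15 yf55 zf24) (kf xf16 yf0 zf5) (kf xf11 yf56 zf4) (kf xf5 yf31 zf35) (kf xf11 yf56 zf5) (kf xf11 yf56 zf6) (kf xf11 yf33 zf54) (kf xf15 yf4 zf58) (kf xf10 yf43 zf22) (kf xf16 yf59 zf10) (kf xf16 yf47 zf9) (kf xf16 yf49 zf36) (kf xf11 yf55 zf47) (kf xf6 yf46 zf55) (kf xf5 yf32 zf49) (kf xf16 yf49 zf38) (kf xf11 yf53 zf24) (kf xf8 yf35 zf51) (kf xf11 yf32 zf51) (kf xf11 yf32 zf54) (kf xf9 yf17 zf27) (kf xf5 yf32 zf52) (kf xf9 yf31 zf3) (kf xf9 yf31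 zf0) (kf xf11 yf55 zf22) (kf xf11 yf55 zf23) (kf xf10 yf43 zf32) (kf xf10 yf43 zf35) (kf xf17 yf16 zf61) (kf xf15 yf32 zf33) (kf xf15 yf32 zf32) (kf xf8 yf32 zf23) (kf xf5 yf26 zf45) (kf xf15 yf32 zf37) (kf xf15 yf15 zf24) (kf xf15 yf32 zf35) (kf xf11 yf55 zf36) (kf xf6 yf51 zf14) (kf xf5 yf32 zf38) (kf xf11 yf56 zf19) (kf xf11 yf56 zf20) (kf xf5 yf32 zf58) (kf xf11 yf36 zf43) (kf xf9 yf10 zf51) (kf xf11 yf56 zf21) (kf xf11 yf56 zf22) (kf xf11 yf56 zf23) (kf xf11 yf32 zf49) (kf xf11 yf32 zf50) (kf xf11 yf22 zf53) (kf xf9 yf1 zf59) (kf xf9 yf1 zf39)) (@D3.rec (fun _ => Pt) (kf xf8 yf21 zf50) (kf xf11 yf56 zf9) (kf xf11 yf56 zf10) (kf xf11 yf56 zf11) (kf xf5 yf33 zf31) (kf xf11 yf56 zf12) (kf xf11 yf56 zf13) (kf xf11 yf56 zf14) (kf xf11 yf56 zf15) (kf xf9 yf30 zf38) (kf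 xf5 yf33 zf45) (kf xf5 yf27 zf11) (kf xf9 yf8 zf57) (kf xf9 yf31 zf2) (kf xf11 yf32 zf55) (kf xf8 yf13 zf56) (kf xf5 yf50 zf60) (kf xf11 yf41 zf61) (kf xf5 yf27 zf5) (kf xf13 yf2 zf22) (kf xf13 yf2 zf24) (kf xf19 yf27 zf10) (kf xf19 yf27 zf14) (kf xf19 yf27 zf18) (kf xf5 yf27 zf6) (kf xf12 yf53 zf13) (kf xf9 yf9 zf23) (kf xf19 yf25 zf55) (kf xf11 yf14 zf19) (kf xf5 yf27 zf8) (kf xf12 yf55 zf20) (kf xf19 yf7 zf49) (kf xf19 yf26 zf53) (kf xf9 yf8 zf56) (kf xf12 yf54 zf1) (kf xf11 yf58 zf10) (kf xf19 yf27 zf36) (kf xf11 yf58 zf28) (kf xf11 yf58 zf29) (kf xf11 yf58 zf30) (kf xf11 yf58 zf8) (kf xf11 yf58 zf11) (kf xf19 yf27 zf44) (kf xf19 yf27 zf35) (kf xf19 yf27 zf34) (kf xf5 yf27 zf18) (kf xf5 yf34 zf34) (kf xf5 yf34 zf35) (kf xf5 yf34 zf36) (kf xf9 yf7 zf32) (kf xf10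 yf5 zf57) (kf xf11 yf56 zf46) (kf xf10 yf49 zf11) (kf xf5 yf34 zf59) (kf xf15 yf41 zf8) (kf xf10 yf19 zf12) (kf xf10 yf19 zf13) (kf xf10 yf19 zf14) (kf xf10 yf19 zf15) (kf xf15 yf55 zf57) (kf xf19 yf28 zf14) (kf xf15 yf56 zf1)) (@D3.rec (fun _ => Pt) (kf xf15 yf56 zf2) (kf xf15 yf56 zf3) (kf xf15 yf52 zf27) (kf xf10 yf46 zf29) (kf xf10 yf21 zf0) (kf xf15 yf59 zf7) (kf xf15 yf59 zf8) (kf xf15 yf59 zf9) (kf xf15 yf52 zf20) (kf xf7 yf35 zf9) (kf xf5 yf28 zf1) (kf xf5 yf28 zf0) (kf xf5 yf28 zf8) (kf xf5 yf28 zf5) (kf xf11 yf2 zf17) (kf xf8 yf26 zf44) (kf xf13 yf10 zf32) (kf xf16 yf44 zf7) (kf xf16 yf44 zf8) (kf xf16 yf44 zf9) (kf xf16 yf44 zf10) (kf xf19 yf28 zf58) (kf xf17 yf26 zf19) (kf xf15 yf37 zf30) (kf xf15 yf37 zf29) (kf xf19 yf29 zf4) (kf xf5 yf27 zf39) (kf xf15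 yf37 zf28) (kf xf15 yf34 zf7) (kf xf10 yf46 zf3) (kf xf15 yf37 zf27) (kf xf15 yf1 zf27) (kf xf15 yf1 zf28) (kf xf19 yf29 zf19) (kf xf6 yf4 zf49) (kf xf5 yf27 zf44) (kf xf15 yf37 zf34) (kf xf15 yf37 zf35) (kf xf15 yf37 zf36) (kf xf15 yf37 zf37) (kf xf19 yf29 zf34) (kf xf19 yf29 zf38) (kf xf15 yf24 zf59) (kf xf19 yf29 zf44) (kf xf5 yf27 zf47) (kf xf8 yf29 zf13) (kf xf16 yf44 zf15) (kf xf16 yf44 zf16) (kf xf16 yf44 zf17) (kf xf10 yf53 zf58) (kf xf19 yf29 zf61) (kf xf19 yf30 zf3) (kf xf19 yf30 zf6) (kf xf5 yf27 zf52) (kf xf16 yf44 zf20) (kf xf16 yf44 zf21) (kf xf16 yf44 zf22) (kf xf10 yf53 zf60) (kf xf19 yf30 zf19) (kf xf19 yf30 zf23) (kf xf19 yf30 zf26) (kf xf5 yf27 zf55)) (@D3.rec (fun _ => Pt) (kf xf16 yf44 zf26) (kf xf16 yf44 zf27) (kf xf10 yf53 zf50) (kf xf19 yf30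 zf34) (kf xf16 yf44 zf29) (kf xf10 yf53 zf51) (kf xf19 yf30 zf43) (kf xf16 yf44 zf31) (kf xf7 yf34 zf56) (kf xf16 yf44 zf33) (kf xf16 yf44 zf34) (kf xf16 yf44 zf35) (kf xf7 yf39 zf32) (kf xf11 yf32 zf18) (kf xf7 yf34 zf51) (kf xf19 yf28 zf37) (kf xf14 yf13 zf29) (kf xf6 yf43 zf24) (kf xf5 yf27 zf61) (kf xf19 yf13 zf28) (kf xf19 yf28 zf39) (kf xf19 yf28 zf38) (kf xf13 yf17 zf35) (kf xf19 yf24 zf7) (kf xf6 yf33 zf25) (kf xf5 yf35 zf54) (kf xf7 yf41 zf24) (kf xf19 yf28 zf42) (kf xf8 yf56 zf3) (kf xf15 yf31 zf18) (kf xf15 yf1 zf40) (kf xf19 yf24 zf11) (kf xf19 yf28 zf41) (kf xf14 yf11 zf0) (kf xf19 yf24 zf13) (kf xf8 yf56 zf4) (kf xf10 yf43 zf29) (kf xf10 yf43 zf30) (kf xf10 yf51 zf49) (kf xf10 yf20 zf41) (kf xf10 yf20 zf44) (kf xf10 yf20 zf45) (kf xf16 yf13 zf36) (kf xf16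 yf39 zf7) (kf xf16 yf37 zf25) (kf xf16 yf37 zf26) (kf xf16 yf37 zf27) (kf xf16 yf37 zf28) (kf xf19 yf31 zf51) (kf xf19 yf31 zf55) (kf xf16 yf37 zf20) (kf xf16 yf37 zf19) (kf xf19 yf32 zf1) (kf xf5 yf28 zf22) (kf xf15 yf18 zf30) (kf xf16 yf37 zf24) (kf xf8 yf35 zf9) (kf xf8 yf55 zf38) (kf xf16 yf37 zf23) (kf xf8 yf34 zf39) (kf xf16 yf43 zf28) (kf xf16 yf43 zf29)) (@D3.rec (fun _ => Pt) (kf xf16 yf43 zf30) (kf xf8 yf59 zf1) (kf xf16 yf55 zf51) (kf xf10 yf58 zf28) (kf xf10 yf58 zf17) (kf xf19 yf32 zf15) (kf xf19 yf32 zf14) (kf xf5 yf28 zf30) (kf xf10 yf58 zf34) (kf xf10 yf58 zf33) (kf xf19 yf32 zf23) (kf xf5 yf28 zf31) (kf xf15 yf44 zf16) (kf xf11 yf14 zf50) (kf xf15 yf44 zf15) (kf xf12 yf4 zf1) (kf xf5 yf28 zf34) (kf xf15 yf44 zf14) (kf xf11 yf4 zf59) (kf xf11 yf4 zf60)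 (kf xf11 yf4 zf57) (kf xf11 yf4 zf58) (kf xf15 yf44 zf22) (kf xf15 yf44 zf23) (kf xf12 yf10 zf7) (kf xf15 yf44 zf25) (kf xf15 yf45 zf30) (kf xf19 yf25 zf10) (kf xf10 yf58 zf31) (kf xf12 yf10 zf12) (kf xf17 yf1 zf34) (kf xf15 yf5 zf8) (kf xf19 yf25 zf11) (kf xf5 yf52 zf24) (kf xf8 yf14 zf19) (kf xf11 yf2 zf5) (kf xf11 yf58 zf26) (kf xf15 yf30 zf38) (kf xf11 yf5 zf20) (kf xf11 yf5 zf21) (kf xf9 yf6 zf44) (kf xf11 yf5 zf22) (kf xf11 yf5 zf23) (kf xf11 yf5 zf9) (kf xf10 yf55 zf21) (kf xf19 yf32 zf57) (kf xf11 yf5 zf7) (kf xf11 yf5 zf8) (kf xf11 yf5 zf10) (kf xf19 yf33 zf5) (kf xf10 yf55 zf22) (kf xf19 yf33 zf11) (kf xf19 yf32 zf56) (kf xf19 yf32 zf55) (kf xf11 yf7 zf37) (kf xf5 yf28 zf52) (kf xf10 yf55 zf25) (kf xf19 yf33 zf19) (kf xf5 yf28 zf53) (kf xf5 yf28 zf54) (kf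 xf11 yf4 zf53) (kf xf10 yf55 zf47)) (@D3.rec (fun _ => Pt) (kf xf11 yf4 zf54) (kf xf10 yf55 zf42) (kf xf12 yf56 zf35) (kf xf10 yf55 zf53) (kf xf10 yf55 zf52) (kf xf19 yf25 zf9) (kf xf9 yf32 zf19) (kf xf10 yf18 zf44) (kf xf5 yf52 zf19) (kf xf11 yf2 zf20) (kf xf11 yf5 zf31) (kf xf10 yf45 zf52) (kf xf16 yf44 zf44) (kf xf11 yf9 zf9) (kf xf10 yf55 zf3) (kf xf14 yf50 zf12) (kf xf16 yf44 zf46) (kf xf16 yf44 zf47) (kf xf16 yf44 zf48) (kf xf16 yf44 zf49) (kf xf19 yf33 zf40) (kf xf10 yf55 zf4) (kf xf19 yf33 zf45) (kf xf16 yf44 zf59) (kf xf19 yf33 zf50) (kf xf5 yf29 zf5) (kf xf16 yf44 zf52) (kf xf16 yf44 zf53) (kf xf16 yf44 zf54) (kf xf10 yf55 zf6) (kf xf19 yf33 zf61) (kf xf16 yf44 zf56) (kf xf16 yf44 zf57) (kf xf19 yf34 zf7) (kf xf10 yf55 zf7) (kf xf16 yf57 zf33) (kf xf11 yf55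 zf16) (kf xf19 yf34 zf13) (kf xf5 yf29 zf9) (kf xf16 yf45 zf0) (kf xf12 yf11 zf3) (kf xf16 yf45 zf3) (kf xf16 yf56 zf61) (kf xf16 yf45 zf5) (kf xf16 yf45 zf6) (kf xf19 yf34 zf23) (kf xf16 yf45 zf8) (kf xf16 yf45 zf9) (kf xf16 yf45 zf10) (kf xf11 yf32 zf2) (kf xf8 yf0 zf8) (kf xf8 yf0 zf19) (kf xf19 yf24 zf28) (kf xf16 yf13 zf37) (kf xf16 yf38 zf24) (kf xf10 yf23 zf29) (kf xf10 yf23 zf30) (kf xf10 yf23 zf31) (kf xf15 yf33 zf3) (kf xf15 yf16 zf1) (kf xf15 yf16 zf0) (kf xf15 yf33 zf14)) (@D3.rec (fun _ => Pt) (kf xf15 yf16 zf3) (kf xf15 yf16 zf4) (kf xf8 yf18 zf54) (kf xf15 yf15 zf1) (kf xf15 yf37 zf23) (kf xf5 yf29 zf41) (kf xf5 yf29 zf22) (kf xf15 yf15 zf5) (kf xf15 yf15 zf6) (kf xf15 yf15 zf7) (kf xf15 yf15 zf8) (kf xf7 yf38 zf36) (kf xf19 yf35 zf29) (kf xf5 yf30 zf7)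 (kf xf19 yf35 zf33) (kf xf5 yf29 zf27) (kf xf5 yf30 zf13) (kf xf8 yf35 zf55) (kf xf8 yf18 zf39) (kf xf8 yf17 zf38) (kf xf15 yf57 zf8) (kf xf8 yf17 zf26) (kf xf8 yf26 zf43) (kf xf5 yf29 zf34) (kf xf16 yf19 zf61) (kf xf8 yf17 zf29) (kf xf12 yf50 zf46) (kf xf15 yf23 zf21) (kf xf15 yf49 zf27) (kf xf5 yf29 zf37) (kf xf16 yf18 zf59) (kf xf16 yf18 zf60) (kf xf16 yf18 zf61) (kf xf19 yf36 zf1) (kf xf19 yf36 zf4) (kf xf5 yf29 zf39) (kf xf8 yf18 zf21) (kf xf8 yf26 zf27) (kf xf8 yf37 zf14) (kf xf19 yf35 zf9) (kf xf11 yf4 zf50) (kf xf15 yf51 zf21) (kf xf5 yf29 zf42) (kf xf16 yf42 zf45) (kf xf16 yf42 zf46) (kf xf16 yf42 zf47) (kf xf16 yf42 zf48) (kf xf19 yf24 zf52) (kf xf16 yf42 zf59) (kf xf10 yf24 zf11) (kf xf16 yf42 zf54) (kf xf16 yf42 zf55) (kf xf16 yf42 zf56) (kf xf16 yf42 zf57)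 (kf xf19 yf36 zf36) (kf xf16 yf42 zf51) (kf xf16 yf42 zf50) (kf xf5 yf29 zf50) (kf xf16 yf42 zf53) (kf xf15 yf33 zf57) (kf xf16 yf42 zf60) (kf xf16 yf42 zf61)) (@D3.rec (fun _ => Pt) (kf xf16 yf43 zf0) (kf xf10 yf56 zf26) (kf xf19 yf24 zf51) (kf xf12 yf13 zf61) (kf xf12 yf58 zf27) (kf xf16 yf43 zf2) (kf xf16 yf43 zf3) (kf xf16 yf43 zf4) (kf xf10 yf56 zf27) (kf xf19 yf37 zf1) (kf xf5 yf29 zf59) (kf xf16 yf43 zf6) (kf xf16 yf43 zf7) (kf xf10 yf56 zf18) (kf xf19 yf24 zf49) (kf xf16 yf43 zf9) (kf xf10 yf56 zf19) (kf xf19 yf37 zf19) (kf xf16 yf43 zf11) (kf xf19 yf37 zf24) (kf xf16 yf43 zf12) (kf xf16 yf43 zf13) (kf xf16 yf43 zf14) (kf xf19 yf37 zf37) (kf xf17 yf32 zf34) (kf xf19 yf37 zf22) (kf xf19 yf37 zf45) (kf xf5 yf30 zf2) (kf xf10 yf26 zf11) (kf xf19 yf37 zf49) (kf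 xf8 yf48 zf38) (kf xf19 yf37 zf53) (kf xf19 yf35 zf27) (kf xf19 yf35 zf26) (kf xf19 yf38 zf1) (kf xf5 yf30 zf5) (kf xf19 yf24 zf37) (kf xf8 yf18 zf10) (kf xf19 yf24 zf39) (kf xf11 yf54 zf32) (kf xf8 yf7 zf60) (kf xf8 yf7 zf59) (kf xf19 yf35 zf31) (kf xf19 yf35 zf30) (kf xf19 yf38 zf19) (kf xf5 yf30 zf8) (kf xf15 yf1 zf50) (kf xf15 yf38 zf27) (kf xf15 yf38 zf28) (kf xf10 yf47 zf38) (kf xf19 yf35 zf34) (kf xf19 yf35 zf35) (kf xf15 yf58 zf11) (kf xf5 yf32 zf30) (kf xf10 yf37 zf45) (kf xf15 yf58 zf10) (kf xf11 yf55 zf35) (kf xf15 yf58 zf8) (kf xf15 yf58 zf7) (kf xf12 yf15 zf42) (kf xf15 yf39 zf43) (kf xf5 yf30 zf16)) (@D3.rec (fun _ => Pt) (kf xf15 yf51 zf17) (kf xf15 yf31 zf26) (kf xf6 yf48 zf19) (kf xf15 yf58 zf12) (kf xf15 yf46 zf46) (kf xf15 yf58 zf13) (kf xf19 yf38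 zf61) (kf xf16 yf43 zf36) (kf xf11 yf3 zf41) (kf xf10 yf57 zf6) (kf xf19 yf25 zf6) (kf xf16 yf43 zf38) (kf xf16 yf43 zf39) (kf xf16 yf43 zf40) (kf xf16 yf43 zf41) (kf xf19 yf25 zf7) (kf xf10 yf57 zf7) (kf xf6 yf32 zf6) (kf xf19 yf25 zf8) (kf xf16 yf43 zf46) (kf xf16 yf43 zf47) (kf xf16 yf43 zf48) (kf xf10 yf57 zf9) (kf xf19 yf39 zf31) (kf xf15 yf36 zf43) (kf xf16 yf43 zf50) (kf xf19 yf39 zf38) (kf xf10 yf57 zf10) (kf xf12 yf29 zf58) (kf xf16 yf43 zf43) (kf xf19 yf39 zf46) (kf xf5 yf30 zf28) (kf xf8 yf2 zf19) (kf xf12 yf10 zf61) (kf xf5 yf30 zf36) (kf xf19 yf39 zf53) (kf xf5 yf30 zf30) (kf xf16 yf43 zf52) (kf xf16 yf43 zf53) (kf xf19 yf39 zf58) (kf xf16 yf43 zf55) (kf xf16 yf43 zf56) (kf xf16 yf57 zf11) (kf xf16 yf43 zf58) (kf xf16 yf43 zf59) (kf xf8 yf2 zf14) (kf xf12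 yf11 zf2) (kf xf19 yf24 zf54) (kf xf19 yf24 zf58) (kf xf19 yf24 zf60) (kf xf11 yf54 zf48) (kf xf16 yf45 zf18) (kf xf19 yf39 zf50) (kf xf19 yf39 zf51) (kf xf19 yf39 zf52) (kf xf16 yf45 zf12) (kf xf19 yf37 zf42) (kf xf5 yf30 zf37) (kf xf12 yf25 zf8) (kf xf9 yf32 zf35) (kf xf11 yf10 zf39) (kf xf11 yf2 zf29)) (@D3.rec (fun _ => Pt) (kf xf11 yf5 zf24) (kf xf11 yf10 zf31) (kf xf11 yf10 zf37) (kf xf9 yf44 zf20) (kf xf6 yf45 zf53) (kf xf12 yf15 zf52) (kf xf15 yf45 zf31) (kf xf15 yf45 zf32) (kf xf10 yf17 zf6) (kf xf12 yf55 zf57) (kf xf11 yf2 zf10) (kf xf12 yf14 zf4) (kf xf15 yf36 zf26) (kf xf10 yf53 zf14) (kf xf10 yf53 zf13) (kf xf16 yf43 zf31) (kf xf16 yf45 zf20) (kf xf16 yf45 zf21) (kf xf12 yf14 zf5) (kf xf11 yf22 zf55) (kf xf16 yf3 zf47) (kf xf6 yf11 zf41) (kf xf12 yf15 zf40)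 (kf xf12 yf15 zf41) (kf xf12 yf15 zf38) (kf xf15 yf51 zf58) (kf xf15 yf51 zf59) (kf xf15 yf51 zf60) (kf xf15 yf51 zf61) (kf xf19 yf41 zf1) (kf xf18 yf4 zf23) (kf xf5 yf31 zf15) (kf xf5 yf31 zf14) (kf xf15 yf30 zf54) (kf xf5 yf31 zf0) (kf xf5 yf31 zf23) (kf xf5 yf31 zf24) (kf xf5 yf31 zf19) (kf xf11 yf56 zf1) (kf xf15 yf51 zf2) (kf xf15 yf51 zf3) (kf xf15 yf51 zf4) (kf xf19 yf25 zf15) (kf xf19 yf25 zf16) (kf xf16 yf46 zf29) (kf xf5 yf34 zf8) (kf xf12 yf55 zf51) (kf xf16 yf46 zf30) (kf xf16 yf46 zf32) (kf xf19 yf41 zf33) (kf xf10 yf47 zf2) (kf xf10 yf47 zf5) (kf xf16 yf46 zf34) (kf xf14 yf16 zf36) (kf xf19 yf41 zf32) (kf xf19 yf41 zf31) (kf xf12 yf7 zf20) (kf xf5 yf31 zf10) (kf xf10 yf46 zf49) (kf xf19 yf41 zf55) (kf xf10 yf46 zf57) (kf xf19 yf41 zf61)) (@D3.rec (fun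 _ => Pt) (kf xf19 yf41 zf2) (kf xf17 yf12 zf40) (kf xf15 yf30 zf50) (kf xf5 yf31 zf13) (kf xf11 yf1 zf11) (kf xf19 yf41 zf4) (kf xf7 yf38 zf13) (kf xf19 yf41 zf3) (kf xf18 yf54 zf52) (kf xf19 yf42 zf8) (kf xf8 yf15 zf48) (kf xf5 yf31 zf16) (kf xf15 yf3 zf16) (kf xf15 yf14 zf29) (kf xf8 yf26 zf51) (kf xf19 yf41 zf9) (kf xf18 yf46 zf59) (kf xf11 yf56 zf0) (kf xf18 yf44 zf57) (kf xf18 yf49 zf8) (kf xf15 yf2 zf11) (kf xf16 yf39 zf17) (kf xf19 yf10 zf45) (kf xf19 yf41 zf6) (kf xf19 yf41 zf7) (kf xf19 yf42 zf26) (kf xf19 yf41 zf8) (kf xf5 yf31 zf25) (kf xf18 yf13 zf2) (kf xf18 yf41 zf54) (kf xf7 yf58 zf55) (kf xf7 yf58 zf56) (kf xf7 yf58 zf58) (kf xf7 yf58 zf59) (kf xf7 yf58 zf60) (kf xf16 yf46 zf20) (kf xf7 yf58 zf34) (kf xf15 yf30 zf10) (kf xf7 yf58 zf32) (kf xf7 yf58 zf35)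 (kf xf15 yf29 zf21) (kf xf15 yf30 zf33) (kf xf15 yf30 zf34) (kf xf15 yf30 zf35) (kf xf9 yf44 zf27) (kf xf9 yf44 zf26) (kf xf15 yf30 zf39) (kf xf9 yf44 zf13) (kf xf6 yf42 zf23) (kf xf11 yf0 zf26) (kf xf16 yf46 zf55) (kf xf16 yf46 zf56) (kf xf19 yf15 zf57) (kf xf16 yf46 zf60) (kf xf6 yf42 zf22) (kf xf16 yf41 zf18) (kf xf8 yf58 zf59) (kf xf16 yf40 zf37) (kf xf16 yf46 zf58) (kf xf16 yf47 zf0) (kf xf19 yf43 zf10) (kf xf5 yf31 zf45)) (@D3.rec (fun _ => Pt) (kf xf5 yf31 zf44) (kf xf11 yf11 zf61) (kf xf5 yf31 zf39) (kf xf10 yf49 zf14) (kf xf10 yf49 zf21) (kf xf19 yf43 zf21) (kf xf10 yf49 zf29) (kf xf10 yf49 zf34) (kf xf19 yf43 zf30) (kf xf16 yf47 zf1) (kf xf16 yf47 zf2) (kf xf16 yf47 zf3) (kf xf19 yf43 zf40) (kf xf19 yf43 zf9) (kf xf19 yf43 zf8) (kf xf5 yf31 zf43) (kf xf19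 yf43 zf13) (kf xf19 yf43 zf11) (kf xf19 yf43 zf12) (kf xf15 yf26 zf40) (kf xf5 yf42 zf0) (kf xf10 yf48 zf44) (kf xf10 yf48 zf50) (kf xf11 yf26 zf61) (kf xf9 yf44 zf9) (kf xf10 yf48 zf56) (kf xf19 yf43 zf56) (kf xf5 yf31 zf51) (kf xf11 yf12 zf48) (kf xf11 yf12 zf45) (kf xf7 yf58 zf57) (kf xf16 yf46 zf21) (kf xf6 yf3 zf58) (kf xf16 yf46 zf23) (kf xf10 yf58 zf42) (kf xf6 yf46 zf43) (kf xf8 yf58 zf58) (kf xf11 yf11 zf60) (kf xf16 yf39 zf58) (kf xf16 yf39 zf59) (kf xf16 yf39 zf61) (kf xf16 yf46 zf26) (kf xf10 yf49 zf1) (kf xf5 yf33 zf49) (kf xf5 yf34 zf4) (kf xf11 yf32 zf32) (kf xf16 yf20 zf21) (kf xf10 yf48 zf61) (kf xf18 yf13 zf1) (kf xf18 yf10 zf35) (kf xf17 yf49 zf4) (kf xf17 yf49 zf3) (kf xf10 yf49 zf4) (kf xf10 yf49 zf3) (kf xf19 yf44 zf19) (kf xf15 yf15 zf11) (kf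 xf15 yf15 zf12) (kf xf15 yf15 zf13) (kf xf15 yf15 zf14) (kf xf19 yf44 zf33) (kf xf19 yf44 zf37) (kf xf5 yf32 zf26)) (@D3.rec (fun _ => Pt) (kf xf5 yf32 zf25) (kf xf19 yf44 zf45) (kf xf5 yf32 zf10) (kf xf5 yf32 zf32) (kf xf5 yf32 zf29) (kf xf15 yf21 zf20) (kf xf16 yf45 zf23) (kf xf16 yf45 zf24) (kf xf16 yf45 zf27) (kf xf16 yf45 zf28) (kf xf16 yf45 zf29) (kf xf18 yf52 zf54) (kf xf18 yf52 zf57) (kf xf16 yf45 zf30) (kf xf15 yf21 zf4) (kf xf19 yf25 zf59) (kf xf16 yf45 zf33) (kf xf17 yf58 zf50) (kf xf10 yf51 zf13) (kf xf10 yf51 zf16) (kf xf7 yf10 zf57) (kf xf13 yf37 zf0) (kf xf19 yf45 zf14) (kf xf19 yf45 zf13) (kf xf19 yf45 zf35) (kf xf5 yf32 zf21) (kf xf10 yf51 zf1) (kf xf10 yf51 zf8) (kf xf12 yf0 zf28) (kf xf19 yf44 zf35) (kf xf19 yf44 zf34) (kf xf19 yf45 zf51) (kf xf5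 yf32 zf24) (kf xf19 yf44 zf40) (kf xf15 yf51 zf55) (kf xf19 yf44 zf41) (kf xf19 yf38 zf10) (kf xf19 yf44 zf38) (kf xf9 yf43 zf53) (kf xf19 yf44 zf39) (kf xf11 yf55 zf27) (kf xf19 yf44 zf43) (kf xf19 yf44 zf42) (kf xf19 yf46 zf12) (kf xf5 yf32 zf27) (kf xf10 yf23 zf28) (kf xf19 yf44 zf48) (kf xf19 yf44 zf49) (kf xf19 yf38 zf39) (kf xf19 yf44 zf46) (kf xf19 yf44 zf47) (kf xf11 yf55 zf34) (kf xf8 yf32 zf39) (kf xf16 yf41 zf19) (kf xf10 yf57 zf56) (kf xf8 yf59 zf10) (kf xf16 yf45 zf60) (kf xf16 yf45 zf61) (kf xf16 yf46 zf0) (kf xf19 yf26 zf17) (kf xf16 yf46 zf3) (kf xf17 yf32 zf53)) (@D3.rec (fun _ => Pt) (kf xf11 yf58 zf14) (kf xf19 yf26 zf18) (kf xf16 yf46 zf4) (kf xf9 yf49 zf22) (kf xf5 yf32 zf46) (kf xf5 yf32 zf45) (kf xf10 yf52 zf9) (kf xf10 yf52 zf16) (kf xf12 yf32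 zf3) (kf xf10 yf52 zf22) (kf xf10 yf52 zf27) (kf xf16 yf46 zf9) (kf xf16 yf46 zf10) (kf xf16 yf46 zf11) (kf xf11 yf27 zf21) (kf xf9 yf48 zf52) (kf xf19 yf46 zf48) (kf xf19 yf46 zf49) (kf xf12 yf29 zf48) (kf xf19 yf40 zf19) (kf xf19 yf21 zf22) (kf xf19 yf46 zf47) (kf xf9 yf50 zf37) (kf xf11 yf55 zf43) (kf xf5 yf52 zf25) (kf xf12 yf57 zf40) (kf xf12 yf57 zf58) (kf xf5 yf34 zf7) (kf xf5 yf34 zf18) (kf xf19 yf25 zf56) (kf xf16 yf40 zf26) (kf xf16 yf40 zf27) (kf xf5 yf34 zf9) (kf xf12 yf10 zf6) (kf xf12 yf55 zf48) (kf xf16 yf47 zf38) (kf xf16 yf47 zf39) (kf xf16 yf47 zf40) (kf xf16 yf47 zf41) (kf xf19 yf26 zf21) (kf xf16 yf47 zf42) (kf xf16 yf56 zf47) (kf xf16 yf47 zf49) (kf xf17 yf22 zf34) (kf xf16 yf47 zf44) (kf xf16 yf47 zf45) (kf xf16 yf47 zf47) (kf xf11 yf48 zf40) (kf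 xf14 yf50 zf25) (kf xf16 yf47 zf50) (kf xf19 yf47 zf59) (kf xf16 yf47 zf51) (kf xf16 yf54 zf12) (kf xf5 yf33 zf10) (kf xf17 yf6 zf32) (kf xf5 yf33 zf1) (kf xf10 yf56 zf54) (kf xf16 yf47 zf53) (kf xf19 yf26 zf26) (kf xf16 yf28 zf0) (kf xf16 yf27 zf61) (kf xf11 yf3 zf42)) (@D3.rec (fun _ => Pt) (kf xf11 yf3 zf45) (kf xf15 yf50 zf16) (kf xf19 yf48 zf27) (kf xf19 yf47 zf57) (kf xf19 yf47 zf56) (kf xf19 yf48 zf35) (kf xf5 yf33 zf5) (kf xf11 yf5 zf36) (kf xf11 yf5 zf43) (kf xf17 yf12 zf59) (kf xf11 yf5 zf53) (kf xf16 yf47 zf35) (kf xf16 yf47 zf57) (kf xf16 yf47 zf58) (kf xf11 yf59 zf24) (kf xf19 yf48 zf47) (kf xf19 yf48 zf1) (kf xf10 yf48 zf4) (kf xf5 yf33 zf9) (kf xf15 yf4 zf17) (kf xf19 yf48 zf2) (kf xf11 yf51 zf10) (kf xf9 yf3 zf27) (kf xf9 yf14 zf20) (kf xf19 yf48 zf4)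 (kf xf12 yf54 zf59) (kf xf19 yf43 zf31) (kf xf5 yf33 zf12) (kf xf10 yf48 zf3) (kf xf17 yf12 zf57) (kf xf5 yf34 zf0) (kf xf10 yf48 zf28) (kf xf19 yf48 zf61) (kf xf10 yf48 zf9) (kf xf10 yf48 zf8) (kf xf19 yf49 zf1) (kf xf5 yf33 zf17) (kf xf16 yf47 zf34) (kf xf9 yf5 zf20) (kf xf16 yf47 zf37) (kf xf16 yf47 zf36) (kf xf11 yf6 zf35) (kf xf10 yf55 zf34) (kf xf19 yf43 zf32) (kf xf11 yf1 zf46) (kf xf5 yf33 zf23) (kf xf11 yf28 zf16) (kf xf9 yf44 zf15) (kf xf15 yf54 zf47) (kf xf16 yf47 zf13) (kf xf15 yf54 zf31) (kf xf8 yf46 zf49) (kf xf16 yf48 zf59) (kf xf5 yf33 zf51) (kf xf5 yf33 zf50) (kf xf16 yf47 zf16) (kf xf16 yf47 zf17) (kf xf19 yf26 zf44) (kf xf8 yf8 zf40) (kf xf15 yf19 zf21) (kf xf19 yf26 zf46) (kf xf16 yf47 zf18)) (@D3.rec (fun _ => Pt) (kf xf12 yf32 zf23) (kf xf16 yf47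 zf15) (kf xf11 yf42 zf44) (kf xf16 yf47 zf20) (kf xf5 yf33 zf42) (kf xf15 yf20 zf31) (kf xf15 yf20 zf32) (kf xf12 yf49 zf52) (kf xf19 yf49 zf35) (kf xf19 yf49 zf34) (kf xf19 yf49 zf52) (kf xf5 yf33 zf37) (kf xf11 yf9 zf48) (kf xf11 yf9 zf55) (kf xf19 yf49 zf56) (kf xf11 yf10 zf1) (kf xf11 yf10 zf5) (kf xf17 yf13 zf6) (kf xf16 yf47 zf23) (kf xf16 yf47 zf24) (kf xf13 yf59 zf35) (kf xf8 yf50 zf10) (kf xf16 yf48 zf28) (kf xf19 yf49 zf39) (kf xf19 yf50 zf11) (kf xf17 yf32 zf24) (kf xf17 yf32 zf37) (kf xf11 yf42 zf55) (kf xf19 yf26 zf52) (kf xf5 yf34 zf10) (kf xf5 yf34 zf11) (kf xf19 yf44 zf7) (kf xf5 yf33 zf56) (kf xf5 yf34 zf14) (kf xf19 yf44 zf8) (kf xf5 yf34 zf16) (kf xf16 yf53 zf23) (kf xf17 yf8 zf24) (kf xf19 yf42 zf31) (kf xf16 yf56 zf29) (kf xf19 yf49 zf18) (kf xf19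 yf50 zf27) (kf xf15 yf2 zf52) (kf xf15 yf2 zf53) (kf xf19 yf50 zf32) (kf xf19 yf49 zf57) (kf xf19 yf33 zf7) (kf xf19 yf50 zf37) (kf xf5 yf33 zf53) (kf xf16 yf47 zf28) (kf xf11 yf47 zf45) (kf xf19 yf50 zf43) (kf xf5 yf33 zf54) (kf xf11 yf41 zf55) (kf xf19 yf18 zf38) (kf xf19 yf50 zf16) (kf xf19 yf27 zf4) (kf xf19 yf15 zf29) (kf xf19 yf17 zf34) (kf xf19 yf17 zf30) (kf xf18 yf33 zf22) (kf xf19 yf50 zf54))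
def f_f_11 : D2 → D3 → Pt := @D2.rec (fun _ => D3 → Pt) (@D3.rec (fun _ => Pt) (kf xf5 yf33 zf58) (kf xf19 yf39 zf26) (kf xf19 yf18 zf47) (kf xf19 yf51 zf1) (kf xf19 yf51 zf4) (kf xf5 yf33 zf59) (kf xf19 yf50 zf20) (kf xf19 yf50 zf19) (kf xf19 yf51 zf10) (kf xf5 yf33 zf60) (kf xf7 yf36 zf26) (kf xf19 yf48 zf58) (kf xf19 yf51 zf16) (kf xf19 yf39 zf28) (kf xf19 yf50 zf22) (kf xf7 yf48 zf27) (kf xf14 yf21 zf57) (kf xf18 yf48 zf46) (kf xf5 yf34 zf1) (kf xf19 yf49 zf2) (kf xf5 yf34 zf2) (kf xf6 yf1 zf59) (kf xf19 yf49 zf6) (kf xf12 yf7 zf54) (kf xf5 yf34 zf5) (kf xf11 yf28 zf21) (kf xf10 yf54 zf49) (kf xf19 yf47 zf25) (kf xf19 yf51 zf28) (kf xf19 yf17 zf28) (kf xf19 yf33 zf33) (kf xf19 yf51 zf37) (kf xf18 yf48 zf55) (kf xf17 yf4 zf41) (kf xf19 yf51 zf27) (kf xf16 yf47 zf60)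 (kf xf9 yf8 zf47) (kf xf5 yf34 zf12) (kf xf19 yf17 zf29) (kf xf19 yf18 zf58) (kf xf19 yf50 zf17) (kf xf14 yf15 zf26) (kf xf7 yf45 zf46) (kf xf19 yf51 zf11) (kf xf5 yf34 zf15) (kf xf18 yf45 zf20) (kf xf19 yf5 zf5) (kf xf17 yf19 zf9) (kf xf6 yf1 zf44) (kf xf19 yf27 zf46) (kf xf5 yf34 zf17) (kf xf6 yf45 zf43) (kf xf16 yf54 zf35) (kf xf16 yf55 zf17) (kf xf19 yf51 zf54) (kf xf5 yf34 zf32) (kf xf5 yf34 zf31) (kf xf5 yf34 zf22) (kf xf16 yf56 zf30) (kf xf16 yf56 zf31) (kf xf16 yf56 zf32) (kf xf16 yf56 zf33)) (@D3.rec (fun _ => Pt) (kf xf16 yf56 zf34) (kf xf12 yf10 zf5) (kf xf9 yf22 zf8) (kf xf16 yf56 zf36) (kf xf16 yf55 zf13) (kf xf16 yf45 zf1) (kf xf16 yf55 zf14) (kf xf12 yf10 zf53) (kf xf16 yf55 zf16) (kf xf16 yf55 zf19) (kf xf16 yf55 zf20) (kf xf10 yf54 zf4) (kf xf19 yf52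 zf17) (kf xf19 yf51 zf52) (kf xf12 yf25 zf6) (kf xf19 yf52 zf27) (kf xf5 yf34 zf30) (kf xf19 yf51 zf56) (kf xf19 yf51 zf57) (kf xf9 yf11 zf11) (kf xf19 yf52 zf36) (kf xf19 yf51 zf55) (kf xf16 yf53 zf25) (kf xf19 yf27 zf48) (kf xf19 yf27 zf49) (kf xf11 yf35 zf53) (kf xf19 yf44 zf10) (kf xf12 yf55 zf53) (kf xf19 yf27 zf51) (kf xf11 yf35 zf54) (kf xf19 yf47 zf21) (kf xf7 yf36 zf19) (kf xf19 yf27 zf53) (kf xf17 yf21 zf10) (kf xf16 yf48 zf44) (kf xf16 yf48 zf57) (kf xf16 yf48 zf58) (kf xf5 yf40 zf58) (kf xf15 yf7 zf54) (kf xf16 yf29 zf19) (kf xf16 yf29 zf20) (kf xf16 yf29 zf21) (kf xf11 yf28 zf15) (kf xf11 yf28 zf17) (kf xf11 yf28 zf18) (kf xf11 yf48 zf41) (kf xf10 yf58 zf44) (kf xf16 yf47 zf43) (kf xf9 yf13 zf2) (kf xf9 yf12 zf60) (kf xf5 yf45 zf39) (kf xf9 yf5 zf30) (kf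 xf11 yf50 zf22) (kf xf11 yf28 zf22) (kf xf9 yf10 zf23) (kf xf5 yf34 zf47) (kf xf16 yf47 zf19) (kf xf11 yf43 zf53) (kf xf16 yf48 zf60) (kf xf16 yf53 zf33) (kf xf9 yf5 zf29) (kf xf16 yf56 zf28)) (@D3.rec (fun _ => Pt) (kf xf5 yf43 zf5) (kf xf16 yf49 zf4) (kf xf11 yf36 zf13) (kf xf18 yf35 zf10) (kf xf18 yf42 zf13) (kf xf10 yf48 zf35) (kf xf15 yf21 zf50) (kf xf6 yf29 zf44) (kf xf17 yf45 zf11) (kf xf17 yf8 zf44) (kf xf10 yf53 zf10) (kf xf16 yf49 zf6) (kf xf19 yf27 zf58) (kf xf8 yf59 zf46) (kf xf16 yf49 zf12) (kf xf16 yf49 zf13) (kf xf18 yf56 zf26) (kf xf10 yf46 zf14) (kf xf16 yf49 zf14) (kf xf18 yf56 zf27) (kf xf10 yf49 zf9) (kf xf8 yf53 zf50) (kf xf16 yf49 zf15) (kf xf16 yf49 zf7) (kf xf16 yf49 zf8) (kf xf16 yf5 zf57) (kf xf8 yf56 zf5) (kf xf16 yf49 zf10) (kf xf16 yf5 zf58)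 (kf xf10 yf52 zf61) (kf xf16 yf49 zf11) (kf xf10 yf24 zf29) (kf xf10 yf24 zf30) (kf xf8 yf39 zf31) (kf xf8 yf39 zf42) (kf xf9 yf51 zf35) (kf xf9 yf51 zf36) (kf xf9 yf51 zf37) (kf xf11 yf2 zf41) (kf xf10 yf42 zf49) (kf xf16 yf10 zf19) (kf xf11 yf2 zf38) (kf xf16 yf10 zf20) (kf xf11 yf3 zf9) (kf xf9 yf53 zf38) (kf xf15 yf22 zf49) (kf xf15 yf22 zf50) (kf xf15 yf22 zf51) (kf xf11 yf3 zf57) (kf xf7 yf23 zf59) (kf xf5 yf35 zf53) (kf xf13 yf37 zf8) (kf xf5 yf35 zf20) (kf xf5 yf35 zf61) (kf xf5 yf35 zf58) (kf xf16 yf9 zf51) (kf xf15 yf34 zf56) (kf xf15 yf34 zf55) (kf xf5 yf35 zf24) (kf xf16 yf49 zf56) (kf xf16 yf49 zf57) (kf xf16 yf49 zf58)) (@D3.rec (fun _ => Pt) (kf xf16 yf49 zf59) (kf xf19 yf54 zf35) (kf xf19 yf54 zf39) (kf xf16 yf50 zf11) (kf xf16 yf50 zf10) (kf xf19 yf54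 zf46) (kf xf5 yf35 zf27) (kf xf16 yf50 zf14) (kf xf16 yf50 zf15) (kf xf11 yf2 zf43) (kf xf16 yf9 zf43) (kf xf8 yf53 zf30) (kf xf19 yf54 zf57) (kf xf8 yf13 zf32) (kf xf5 yf35 zf32) (kf xf16 yf50 zf4) (kf xf16 yf50 zf5) (kf xf16 yf50 zf6) (kf xf16 yf50 zf7) (kf xf19 yf55 zf9) (kf xf19 yf55 zf13) (kf xf8 yf38 zf49) (kf xf19 yf55 zf18) (kf xf5 yf35 zf35) (kf xf8 yf38 zf38) (kf xf16 yf50 zf16) (kf xf16 yf50 zf17) (kf xf16 yf50 zf18) (kf xf15 yf1 zf30) (kf xf16 yf50 zf19) (kf xf19 yf55 zf39) (kf xf19 yf55 zf43) (kf xf19 yf55 zf46) (kf xf5 yf35 zf40) (kf xf16 yf50 zf23) (kf xf16 yf50 zf24) (kf xf16 yf50 zf25) (kf xf16 yf50 zf26) (kf xf18 yf40 zf26) (kf xf19 yf56 zf0) (kf xf18 yf40 zf27) (kf xf10 yf52 zf8) (kf xf10 yf57 zf61) (kf xf19 yf56 zf7) (kf xf16 yf50 zf33) (kf xf10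 yf58 zf0) (kf xf19 yf56 zf13) (kf xf16 yf50 zf35) (kf xf16 yf50 zf36) (kf xf19 yf56 zf18) (kf xf17 yf2 zf16) (kf xf14 yf46 zf6) (kf xf17 yf2 zf17) (kf xf16 yf13 zf0) (kf xf19 yf56 zf26) (kf xf16 yf50 zf39) (kf xf16 yf10 zf14) (kf xf11 yf2 zf48) (kf xf13 yf59 zf42) (kf xf19 yf54 zf19) (kf xf19 yf54 zf18) (kf xf7 yf23 zf58)) (@D3.rec (fun _ => Pt) (kf xf5 yf35 zf52) (kf xf14 yf47 zf1) (kf xf10 yf1 zf14) (kf xf19 yf31 zf2) (kf xf7 yf51 zf44) (kf xf14 yf37 zf42) (kf xf19 yf54 zf22) (kf xf19 yf54 zf21) (kf xf19 yf56 zf42) (kf xf5 yf35 zf55) (kf xf8 yf56 zf0) (kf xf10 yf24 zf7) (kf xf10 yf30 zf54) (kf xf14 yf51 zf30) (kf xf8 yf53 zf44) (kf xf19 yf56 zf51) (kf xf19 yf54 zf23) (kf xf7 yf20 zf21) (kf xf18 yf18 zf40) (kf xf9 yf44 zf32) (kf xf5 yf36 zf0) (kf xf14 yf23 zf18) (kf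 xf17 yf35 zf60) (kf xf8 yf28 zf6) (kf xf17 yf35 zf45) (kf xf17 yf35 zf58) (kf xf15 yf16 zf59) (kf xf15 yf16 zf56) (kf xf19 yf57 zf3) (kf xf5 yf36 zf3) (kf xf11 yf9 zf27) (kf xf15 yf16 zf8) (kf xf15 yf16 zf9) (kf xf11 yf9 zf30) (kf xf9 yf53 zf14) (kf xf9 yf53 zf16) (kf xf9 yf53 zf17) (kf xf15 yf16 zf60) (kf xf15 yf16 zf61) (kf xf15 yf37 zf57) (kf xf17 yf56 zf50) (kf xf10 yf2 zf15) (kf xf17 yf49 zf8) (kf xf17 yf49 zf7) (kf xf12 yf10 zf32) (kf xf5 yf36 zf14) (kf xf16 yf50 zf2) (kf xf17 yf49 zf11) (kf xf9 yf39 zf1) (kf xf9 yf43 zf24) (kf xf10 yf50 zf40) (kf xf11 yf19 zf29) (kf xf9 yf38 zf55) (kf xf10 yf48 zf60) (kf xf10 yf49 zf0) (kf xf11 yf12 zf11) (kf xf11 yf27 zf57) (kf xf10 yf48 zf20) (kf xf10 yf48 zf21) (kf xf10 yf48 zf18) (kf xf10 yf48 zf19) (kf xf15 yf17 zf48)) (@D3.rec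 (fun _ => Pt) (kf xf15 yf1 zf21) (kf xf15 yf1 zf22) (kf xf19 yf57 zf54) (kf xf5 yf36 zf34) (kf xf5 yf36 zf29) (kf xf8 yf53 zf16) (kf xf16 yf51 zf16) (kf xf10 yf48 zf46) (kf xf10 yf48 zf47) (kf xf10 yf48 zf43) (kf xf10 yf48 zf48) (kf xf19 yf58 zf8) (kf xf19 yf58 zf12) (kf xf19 yf57 zf52) (kf xf11 yf53 zf0) (kf xf19 yf58 zf21) (kf xf5 yf36 zf33) (kf xf19 yf29 zf17) (kf xf8 yf13 zf30) (kf xf8 yf13 zf35) (kf xf10 yf48 zf38) (kf xf10 yf48 zf39) (kf xf10 yf48 zf41) (kf xf10 yf48 zf42) (kf xf10 yf53 zf0) (kf xf19 yf58 zf33) (kf xf16 yf58 zf34) (kf xf17 yf34 zf27) (kf xf19 yf58 zf41) (kf xf5 yf36 zf40) (kf xf6 yf5 zf56) (kf xf10 yf49 zf10) (kf xf11 yf56 zf47) (kf xf5 yf36 zf42) (kf xf8 yf14 zf15) (kf xf16 yf50 zf52) (kf xf10 yf58 zf7) (kf xf19 yf58 zf46) (kf xf16 yf50 zf54)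 (kf xf16 yf50 zf55) (kf xf16 yf50 zf56) (kf xf16 yf50 zf57) (kf xf19 yf58 zf59) (kf xf10 yf58 zf8) (kf xf19 yf59 zf4) (kf xf16 yf51 zf1) (kf xf16 yf51 zf59) (kf xf5 yf36 zf48) (kf xf8 yf58 zf33) (kf xf16 yf57 zf16) (kf xf16 yf50 zf60) (kf xf16 yf50 zf61) (kf xf19 yf59 zf13) (kf xf10 yf58 zf10) (kf xf11 yf49 zf58) (kf xf11 yf57 zf24) (kf xf18 yf39 zf42) (kf xf5 yf36 zf52) (kf xf11 yf57 zf11) (kf xf15 yf0 zf56) (kf xf15 yf1 zf44) (kf xf17 yf51 zf35)) (@D3.rec (fun _ => Pt) (kf xf8 yf53 zf17) (kf xf16 yf49 zf33) (kf xf19 yf59 zf30) (kf xf15 yf29 zf34) (kf xf15 yf29 zf37) (kf xf5 yf36 zf58) (kf xf11 yf8 zf12) (kf xf15 yf2 zf17) (kf xf9 yf56 zf57) (kf xf15 yf23 zf31) (kf xf5 yf46 zf29) (kf xf8 yf25 zf57) (kf xf17 yf39 zf42) (kf xf17 yf39 zf59) (kf xf16 yf8 zf37) (kf xf8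 yf51 zf22) (kf xf5 yf37 zf10) (kf xf16 yf22 zf6) (kf xf11 yf59 zf16) (kf xf19 yf59 zf48) (kf xf10 yf38 zf10) (kf xf19 yf59 zf51) (kf xf12 yf10 zf42) (kf xf9 yf12 zf35) (kf xf5 yf37 zf15) (kf xf9 yf14 zf5) (kf xf9 yf45 zf20) (kf xf9 yf45 zf38) (kf xf11 yf14 zf31) (kf xf18 yf16 zf42) (kf xf11 yf16 zf59) (kf xf11 yf16 zf58) (kf xf5 yf37 zf22) (kf xf11 yf13 zf47) (kf xf10 yf4 zf42) (kf xf10 yf58 zf41) (kf xf5 yf44 zf30) (kf xf9 yf45 zf22) (kf xf12 yf49 zf30) (kf xf11 yf11 zf55) (kf xf6 yf31 zf50) (kf xf5 yf37 zf32) (kf xf11 yf12 zf4) (kf xf10 yf18 zf21) (kf xf15 yf26 zf25) (kf xf12 yf10 zf57) (kf xf15 yf7 zf18) (kf xf20 yf0 zf7) (kf xf9 yf51 zf20) (kf xf12 yf6 zf10) (kf xf5 yf41 zf45) (kf xf16 yf8 zf33) (kf xf20 yf0 zf12) (kf xf7 yf59 zf17) (kf xf11 yf12 zf43) (kf xf7 yf59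 zf22) (kf xf7 yf59 zf27) (kf xf11 yf12 zf6) (kf xf19 yf43 zf51) (kf xf20 yf0 zf6) (kf xf5 yf37 zf46) (kf xf11 yf11 zf31)) (@D3.rec (fun _ => Pt) (kf xf11 yf12 zf10) (kf xf15 yf4 zf15) (kf xf12 yf11 zf4) (kf xf11 yf11 zf25) (kf xf5 yf47 zf53) (kf xf9 yf45 zf18) (kf xf20 yf0 zf25) (kf xf6 yf7 zf55) (kf xf20 yf0 zf27) (kf xf5 yf43 zf41) (kf xf11 yf11 zf27) (kf xf11 yf11 zf28) (kf xf11 yf11 zf29) (kf xf13 yf27 zf0) (kf xf11 yf11 zf38) (kf xf5 yf37 zf59) (kf xf17 yf45 zf33) (kf xf9 yf45 zf15) (kf xf20 yf0 zf40) (kf xf20 yf0 zf42) (kf xf11 yf11 zf35) (kf xf11 yf11 zf36) (kf xf20 yf0 zf51) (kf xf5 yf38 zf3) (kf xf12 yf23 zf10) (kf xf11 yf7 zf51) (kf xf5 yf38 zf19) (kf xf5 yf38 zf18) (kf xf5 yf38 zf24) (kf xf5 yf38 zf21) (kf xf5 yf38 zf22) (kf xf11 yf15 zf29) (kf xf20 yf0 zf58)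 (kf xf9 yf9 zf19) (kf xf16 yf51 zf20) (kf xf16 yf51 zf21) (kf xf20 yf1 zf6) (kf xf10 yf48 zf54) (kf xf5 yf38 zf10) (kf xf9 yf3 zf40) (kf xf17 yf55 zf61) (kf xf16 yf51 zf24) (kf xf16 yf51 zf25) (kf xf17 yf56 zf44) (kf xf11 yf21 zf2) (kf xf16 yf29 zf34) (kf xf20 yf1 zf20) (kf xf16 yf27 zf52) (kf xf17 yf56 zf47) (kf xf11 yf11 zf41) (kf xf11 yf11 zf44) (kf xf11 yf7 zf25) (kf xf16 yf29 zf45) (kf xf16 yf29 zf36) (kf xf20 yf0 zf53) (kf xf9 yf10 zf29) (kf xf18 yf33 zf55) (kf xf17 yf56 zf48) (kf xf17 yf55 zf33) (kf xf9 yf10 zf30) (kf xf18 yf33 zf56) (kf xf20 yf1 zf40)) (@D3.rec (fun _ => Pt) (kf xf15 yf26 zf31) (kf xf8 yf42 zf61) (kf xf9 yf6 zf42) (kf xf5 yf58 zf47) (kf xf9 yf6 zf43) (kf xf16 yf49 zf35) (kf xf20 yf0 zf36) (kf xf8 yf45 zf53) (kf xf9 yf6 zf45) (kf xf9 yf6 zf46)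 (kf xf18 yf2 zf19) (kf xf11 yf29 zf31) (kf xf11 yf6 zf6) (kf xf20 yf1 zf54) (kf xf5 yf38 zf27) (kf xf16 yf46 zf22) (kf xf16 yf49 zf48) (kf xf17 yf56 zf15) (kf xf12 yf15 zf23) (kf xf5 yf38 zf33) (kf xf12 yf7 zf32) (kf xf5 yf49 zf11) (kf xf8 yf48 zf42) (kf xf16 yf19 zf19) (kf xf8 yf48 zf40) (kf xf20 yf1 zf61) (kf xf16 yf23 zf49) (kf xf10 yf5 zf47) (kf xf10 yf5 zf31) (kf xf11 yf57 zf35) (kf xf6 yf39 zf15) (kf xf18 yf23 zf37) (kf xf18 yf23 zf36) (kf xf5 yf38 zf47) (kf xf10 yf18 zf27) (kf xf5 yf38 zf48) (kf xf11 yf34 zf54) (kf xf8 yf28 zf36) (kf xf9 yf35 zf21) (kf xf15 yf22 zf10) (kf xf15 yf22 zf11) (kf xf15 yf22 zf12) (kf xf20 yf2 zf18) (kf xf15 yf22 zf25) (kf xf8 yf6 zf44) (kf xf20 yf2 zf27) (kf xf5 yf38 zf55) (kf xf17 yf48 zf54) (kf xf16 yf9 zf29) (kf xf5 yf38 zf57) (kf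 xf15 yf22 zf23) (kf xf20 yf2 zf34) (kf xf15 yf22 zf15) (kf xf15 yf22 zf14) (kf xf20 yf2 zf41) (kf xf5 yf38 zf59) (kf xf15 yf17 zf47) (kf xf15 yf22 zf18) (kf xf8 yf9 zf9) (kf xf8 yf9 zf14) (kf xf15 yf17 zf45) (kf xf20 yf2 zf51)) (@D3.rec (fun _ => Pt) (kf xf20 yf2 zf55) (kf xf5 yf39 zf1) (kf xf15 yf17 zf53) (kf xf15 yf17 zf54) (kf xf15 yf17 zf55) (kf xf20 yf3 zf2) (kf xf20 yf3 zf5) (kf xf5 yf39 zf3) (kf xf15 yf22 zf28) (kf xf10 yf49 zf13) (kf xf20 yf3 zf11) (kf xf15 yf22 zf30) (kf xf20 yf3 zf17) (kf xf19 yf40 zf16) (kf xf20 yf3 zf19) (kf xf20 yf3 zf18) (kf xf5 yf39 zf7) (kf xf15 yf18 zf57) (kf xf15 yf18 zf58) (kf xf11 yf56 zf49) (kf xf15 yf18 zf53) (kf xf15 yf18 zf54) (kf xf15 yf23 zf6) (kf xf14 yf30 zf17) (kf xf20 yf3 zf43) (kf xf5 yf39 zf10) (kf xf8 yf56 zf40) (kf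 xf11 yf4 zf30) (kf xf15 yf23 zf16) (kf xf15 yf23 zf17) (kf xf11 yf4 zf33) (kf xf15 yf23 zf12) (kf xf15 yf23 zf13) (kf xf15 yf23 zf22) (kf xf8 yf28 zf14) (kf xf15 yf23 zf18) (kf xf15 yf23 zf19) (kf xf15 yf23 zf20) (kf xf15 yf18 zf60) (kf xf15 yf18 zf59) (kf xf6 yf42 zf32) (kf xf17 yf40 zf13) (kf xf5 yf39 zf19) (kf xf13 yf52 zf31) (kf xf15 yf49 zf5) (kf xf14 yf56 zf46) (kf xf15 yf23 zf34) (kf xf20 yf4 zf18) (kf xf10 yf59 zf12) (kf xf20 yf4 zf19) (kf xf16 yf49 zf19) (kf xf15 yf54 zf34) (kf xf16 yf49 zf20) (kf xf16 yf49 zf21) (kf xf20 yf4 zf28) (kf xf10 yf59 zf13) (kf xf20 yf4 zf30) (kf xf16 yf49 zf30) (kf xf18 yf25 zf52) (kf xf5 yf39 zf26) (kf xf16 yf49 zf25) (kf xf16 yf49 zf26)) (@D3.rec (fun _ => Pt) (kf xf16 yf49 zf27) (kf xf10 yf59 zf15) (kf xf20 yf4 zf40) (kf xf16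 yf8 zf10) (kf xf20 yf4 zf44) (kf xf10 yf59 zf16) (kf xf14 yf8 zf30) (kf xf16 yf49 zf23) (kf xf20 yf4 zf50) (kf xf5 yf39 zf30) (kf xf5 yf39 zf33) (kf xf5 yf39 zf32) (kf xf11 yf42 zf20) (kf xf5 yf39 zf31) (kf xf17 yf31 zf54) (kf xf19 yf40 zf23) (kf xf19 yf50 zf8) (kf xf11 yf57 zf5) (kf xf20 yf4 zf51) (kf xf19 yf40 zf22) (kf xf20 yf4 zf52) (kf xf17 yf58 zf58) (kf xf5 yf39 zf34) (kf xf6 yf45 zf49) (kf xf6 yf47 zf29) (kf xf20 yf5 zf5) (kf xf5 yf39 zf37) (kf xf15 yf0 zf59) (kf xf15 yf2 zf0) (kf xf8 yf13 zf18) (kf xf8 yf7 zf51) (kf xf10 yf53 zf1) (kf xf16 yf51 zf17) (kf xf10 yf11 zf12) (kf xf10 yf11 zf10) (kf xf10 yf11 zf11) (kf xf6 yf47 zf23) (kf xf10 yf53 zf2) (kf xf10 yf11 zf31) (kf xf10 yf52 zf60) (kf xf6 yf19 zf41) (kf xf9 yf46 zf52) (kf xf12 yf14 zf7) (kf xf15 yf48 zf7)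 (kf xf15 yf2 zf30) (kf xf6 yf47 zf30) (kf xf6 yf44 zf28) (kf xf6 yf42 zf30) (kf xf5 yf47 zf2) (kf xf5 yf43 zf28) (kf xf13 yf1 zf57) (kf xf5 yf47 zf14) (kf xf13 yf2 zf30) (kf xf11 yf12 zf24) (kf xf5 yf39 zf60) (kf xf16 yf29 zf47) (kf xf5 yf40 zf12) (kf xf11 yf48 zf25) (kf xf16 yf49 zf37) (kf xf17 yf56 zf42) (kf xf11 yf55 zf44) (kf xf16 yf49 zf40)) (@D3.rec (fun _ => Pt) (kf xf11 yf55 zf49) (kf xf16 yf49 zf42) (kf xf17 yf56 zf43) (kf xf16 yf49 zf43) (kf xf9 yf20 zf5) (kf xf17 yf16 zf18) (kf xf20 yf5 zf39) (kf xf20 yf5 zf38) (kf xf12 yf15 zf3) (kf xf5 yf40 zf10) (kf xf12 yf9 zf27) (kf xf18 yf43 zf53) (kf xf11 yf27 zf19) (kf xf20 yf5 zf40) (kf xf12 yf12 zf27) (kf xf20 yf5 zf54) (kf xf5 yf40 zf15) (kf xf19 yf27 zf1) (kf xf9 yf3 zf2) (kf xf11 yf20 zf8) (kf xf16 yf51 zf34)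 (kf xf11 yf11 zf46) (kf xf5 yf40 zf34) (kf xf5 yf40 zf33) (kf xf5 yf40 zf22) (kf xf11 yf7 zf3) (kf xf20 yf5 zf60) (kf xf11 yf7 zf10) (kf xf11 yf7 zf11) (kf xf11 yf7 zf12) (kf xf20 yf6 zf9) (kf xf11 yf6 zf61) (kf xf5 yf40 zf25) (kf xf9 yf3 zf8) (kf xf20 yf6 zf14) (kf xf11 yf7 zf20) (kf xf11 yf7 zf21) (kf xf20 yf6 zf21) (kf xf11 yf7 zf14) (kf xf5 yf40 zf28) (kf xf16 yf51 zf39) (kf xf11 yf7 zf49) (kf xf20 yf6 zf27) (kf xf8 yf51 zf23) (kf xf11 yf7 zf50) (kf xf6 yf14 zf52) (kf xf11 yf11 zf21) (kf xf19 yf0 zf0) (kf xf8 yf50 zf11) (kf xf20 yf5 zf57) (kf xf17 yf56 zf49) (kf xf17 yf54 zf55) (kf xf11 yf29 zf36) (kf xf17 yf2 zf27) (kf xf5 yf43 zf23) (kf xf11 yf6 zf39) (kf xf13 yf58 zf3) (kf xf17 yf55 zf0) (kf xf14 yf50 zf8) (kf xf5 yf40 zf37) (kf xf10 yf55 zf37) (kf xf10 yf55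 zf1)) (@D3.rec (fun _ => Pt) (kf xf15 yf5 zf20) (kf xf9 yf3 zf0) (kf xf15 yf5 zf0) (kf xf5 yf40 zf43) (kf xf11 yf6 zf42) (kf xf9 yf17 zf40) (kf xf11 yf6 zf57) (kf xf7 yf50 zf0) (kf xf14 yf50 zf2) (kf xf16 yf51 zf30) (kf xf11 yf7 zf0) (kf xf11 yf4 zf55) (kf xf16 yf51 zf29) (kf xf11 yf14 zf52) (kf xf14 yf15 zf56) (kf xf16 yf51 zf27) (kf xf11 yf14 zf51) (kf xf12 yf25 zf10) (kf xf12 yf25 zf12) (kf xf17 yf16 zf16) (kf xf5 yf40 zf59) (kf xf20 yf6 zf57) (kf xf6 yf15 zf34) (kf xf18 yf2 zf16) (kf xf11 yf10 zf53) (kf xf5 yf40 zf56) (kf xf6 yf9 zf8) (kf xf6 yf46 zf13) (kf xf19 yf52 zf55) (kf xf18 yf56 zf33) (kf xf19 yf47 zf60) (kf xf5 yf41 zf4) (kf xf5 yf41 zf3) (kf xf16 yf21 zf0) (kf xf20 yf7 zf9) (kf xf20 yf7 zf11) (kf xf5 yf41 zf1) (kf xf10 yf12 zf5) (kf xf18 yf11 zf2) (kf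 xf5 yf41 zf2) (kf xf17 yf55 zf13) (kf xf17 yf55 zf15) (kf xf5 yf41 zf5) (kf xf11 yf6 zf54) (kf xf15 yf4 zf4) (kf xf10 yf55 zf29) (kf xf16 yf51 zf52) (kf xf8 yf57 zf27) (kf xf10 yf55 zf28) (kf xf9 yf46 zf50) (kf xf16 yf51 zf53) (kf xf5 yf44 zf22) (kf xf20 yf7 zf20) (kf xf5 yf53 zf26) (kf xf15 yf7 zf10) (kf xf12 yf8 zf52) (kf xf12 yf8 zf57) (kf xf16 yf52 zf38) (kf xf5 yf53 zf33) (kf xf7 yf57 zf11) (kf xf16 yf52 zf40) (kf xf20 yf7 zf34)) (@D3.rec (fun _ => Pt) (kf xf16 yf52 zf46) (kf xf17 yf33 zf1) (kf xf5 yf41 zf24) (kf xf5 yf53 zf40) (kf xf15 yf3 zf51) (kf xf15 yf4 zf14) (kf xf16 yf55 zf38) (kf xf16 yf52 zf43) (kf xf20 yf7 zf46) (kf xf8 yf49 zf27) (kf xf16 yf52 zf44) (kf xf16 yf57 zf2) (kf xf7 yf7 zf59) (kf xf16 yf52 zf50) (kf xf18 yf59 zf51) (kf xf16 yf52 zf51) (kf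 xf16 yf52 zf52) (kf xf20 yf7 zf57) (kf xf5 yf41 zf57) (kf xf5 yf41 zf56) (kf xf5 yf41 zf34) (kf xf9 yf45 zf31) (kf xf8 yf44 zf52) (kf xf16 yf52 zf57) (kf xf11 yf13 zf27) (kf xf5 yf54 zf6) (kf xf8 yf43 zf51) (kf xf11 yf13 zf24) (kf xf20 yf8 zf4) (kf xf9 yf45 zf4) (kf xf16 yf52 zf59) (kf xf20 yf8 zf9) (kf xf12 yf7 zf4) (kf xf20 yf8 zf13) (kf xf16 yf53 zf0) (kf xf16 yf53 zf1) (kf xf16 yf53 zf2) (kf xf16 yf35 zf31) (kf xf18 yf59 zf49) (kf xf20 yf8 zf23) (kf xf5 yf41 zf43) (kf xf7 yf56 zf24) (kf xf20 yf0 zf8) (kf xf16 yf53 zf7) (kf xf9 yf19 zf34) (kf xf16 yf28 zf55) (kf xf16 yf31 zf49) (kf xf11 yf6 zf33) (kf xf5 yf41 zf48) (kf xf9 yf19 zf50) (kf xf20 yf8 zf35) (kf xf16 yf53 zf9) (kf xf16 yf53 zf10) (kf xf15 yf0 zf6) (kf xf16 yf53 zf8) (kf xf18 yf21 zf31) (kf xf5 yf41 zf51)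 (kf xf16 yf53 zf12) (kf xf11 yf20 zf51) (kf xf20 yf8 zf46) (kf xf12 yf8 zf59) (kf xf11 yf20 zf52)) (@D3.rec (fun _ => Pt) (kf xf20 yf8 zf53) (kf xf16 yf53 zf14) (kf xf16 yf53 zf15) (kf xf16 yf53 zf16) (kf xf20 yf8 zf59) (kf xf20 yf7 zf55) (kf xf15 yf4 zf37) (kf xf20 yf9 zf4) (kf xf5 yf41 zf55) (kf xf20 yf7 zf58) (kf xf16 yf53 zf47) (kf xf8 yf50 zf46) (kf xf19 yf27 zf24) (kf xf15 yf0 zf0) (kf xf16 yf53 zf48) (kf xf20 yf0 zf18) (kf xf5 yf41 zf58) (kf xf15 yf3 zf52) (kf xf11 yf21 zf1) (kf xf10 yf45 zf28) (kf xf19 yf43 zf50) (kf xf10 yf43 zf19) (kf xf20 yf0 zf17) (kf xf20 yf9 zf24) (kf xf12 yf23 zf32) (kf xf5 yf42 zf3) (kf xf6 yf11 zf60) (kf xf10 yf3 zf53) (kf xf11 yf27 zf60) (kf xf5 yf43 zf26) (kf xf20 yf9 zf31) (kf xf11 yf6 zf28) (kf xf9 yf59 zf55) (kf xf9 yf29 zf30)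 (kf xf6 yf1 zf24) (kf xf5 yf42 zf9) (kf xf6 yf3 zf16) (kf xf16 yf52 zf33) (kf xf16 yf52 zf34) (kf xf9 yf5 zf14) (kf xf20 yf9 zf37) (kf xf5 yf43 zf15) (kf xf5 yf43 zf34) (kf xf16 yf52 zf30) (kf xf16 yf52 zf31) (kf xf17 yf13 zf9) (kf xf11 yf59 zf15) (kf xf11 yf22 zf44) (kf xf18 yf21 zf6) (kf xf11 yf16 zf51) (kf xf10 yf48 zf13) (kf xf11 yf12 zf16) (kf xf11 yf12 zf13) (kf xf12 yf52 zf55) (kf xf5 yf42 zf26) (kf xf13 yf56 zf32) (kf xf11 yf24 zf10) (kf xf11 yf24 zf9) (kf xf19 yf59 zf14) (kf xf20 yf9 zf57) (kf xf20 yf9 zf56) (kf xf11 yf59 zf17)) (@D3.rec (fun _ => Pt) (kf xf5 yf42 zf23) (kf xf11 yf19 zf10) (kf xf12 yf52 zf57) (kf xf11 yf24 zf2) (kf xf11 yf24 zf1) (kf xf16 yf21 zf60) (kf xf16 yf19 zf33) (kf xf15 yf4 zf16) (kf xf16 yf51 zf55) (kf xf16 yf51 zf56) (kf xf16 yf51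 zf57) (kf xf16 yf56 zf54) (kf xf20 yf4 zf49) (kf xf16 yf19 zf34) (kf xf19 yf0 zf30) (kf xf16 yf51 zf60) (kf xf16 yf51 zf61) (kf xf14 yf42 zf47) (kf xf5 yf42 zf33) (kf xf16 yf20 zf35) (kf xf16 yf52 zf1) (kf xf16 yf52 zf2) (kf xf18 yf48 zf50) (kf xf5 yf42 zf58) (kf xf5 yf42 zf57) (kf xf20 yf10 zf33) (kf xf5 yf42 zf36) (kf xf11 yf28 zf4) (kf xf13 yf29 zf24) (kf xf11 yf7 zf31) (kf xf16 yf19 zf29) (kf xf20 yf10 zf43) (kf xf16 yf19 zf31) (kf xf20 yf10 zf49) (kf xf8 yf46 zf10) (kf xf16 yf20 zf36) (kf xf20 yf10 zf57) (kf xf16 yf20 zf38) (kf xf20 yf10 zf61) (kf xf11 yf23 zf12) (kf xf16 yf20 zf40) (kf xf16 yf17 zf41) (kf xf16 yf20 zf41) (kf xf18 yf32 zf49) (kf xf13 yf29 zf38) (kf xf13 yf30 zf4) (kf xf5 yf42 zf45) (kf xf10 yf5 zf24) (kf xf11 yf23 zf48) (kf xf11 yf23 zf49) (kf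 xf11 yf23 zf50) (kf xf11 yf23 zf51) (kf xf20 yf11 zf35) (kf xf16 yf52 zf10) (kf xf5 yf42 zf49) (kf xf16 yf52 zf7) (kf xf16 yf52 zf8) (kf xf20 yf11 zf46) (kf xf5 yf42 zf52) (kf xf15 yf50 zf50) (kf xf11 yf21 zf20) (kf xf17 yf24 zf45)) (@D3.rec (fun _ => Pt) (kf xf16 yf52 zf13) (kf xf11 yf21 zf21) (kf xf20 yf11 zf57) (kf xf16 yf52 zf15) (kf xf16 yf52 zf16) (kf xf16 yf52 zf17) (kf xf20 yf12 zf3) (kf xf18 yf48 zf51) (kf xf19 yf23 zf47) (kf xf5 yf42 zf56) (kf xf20 yf10 zf31) (kf xf11 yf17 zf30) (kf xf20 yf10 zf30) (kf xf16 yf48 zf3) (kf xf16 yf56 zf51) (kf xf12 yf53 zf50) (kf xf20 yf12 zf19) (kf xf5 yf42 zf59) (kf xf9 yf17 zf50) (kf xf16 yf48 zf47) (kf xf13 yf9 zf59) (kf xf16 yf54 zf19) (kf xf5 yf43 zf36) (kf xf5 yf43 zf51) (kf xf16 yf53 zf32) (kf xf16 yf53 zf31) (kf xf16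 yf49 zf1) (kf xf5 yf46 zf17) (kf xf19 yf53 zf15) (kf xf5 yf43 zf9) (kf xf5 yf44 zf26) (kf xf11 yf58 zf22) (kf xf5 yf44 zf4) (kf xf20 yf12 zf33) (kf xf5 yf45 zf0) (kf xf5 yf44 zf61) (kf xf17 yf31 zf58) (kf xf5 yf43 zf11) (kf xf5 yf57 zf30) (kf xf8 yf50 zf5) (kf xf5 yf43 zf29) (kf xf5 yf43 zf48) (kf xf5 yf43 zf49) (kf xf20 yf9 zf38) (kf xf11 yf16 zf52) (kf xf11 yf56 zf17) (kf xf9 yf45 zf19) (kf xf11 yf19 zf55) (kf xf9 yf45 zf24) (kf xf12 yf31 zf11) (kf xf20 yf6 zf39) (kf xf11 yf14 zf49) (kf xf11 yf16 zf44) (kf xf5 yf43 zf24) (kf xf20 yf12 zf46) (kf xf20 yf9 zf29) (kf xf11 yf19 zf6) (kf xf12 yf44 zf28) (kf xf11 yf6 zf31) (kf xf11 yf6 zf30) (kf xf5 yf43 zf27) (kf xf20 yf5 zf32)) (@D3.rec (fun _ => Pt) (kf xf11 yf18 zf35) (kf xf20 yf13 zf1) (kf xf20 yf8 zf42) (kf xf11 yf18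 zf36) (kf xf18 yf56 zf49) (kf xf14 yf46 zf41) (kf xf17 yf41 zf58) (kf xf17 yf41 zf59) (kf xf17 yf42 zf28) (kf xf20 yf12 zf43) (kf xf20 yf12 zf42) (kf xf20 yf13 zf17) (kf xf5 yf43 zf32) (kf xf20 yf12 zf22) (kf xf20 yf9 zf39) (kf xf20 yf9 zf40) (kf xf19 yf53 zf14) (kf xf20 yf13 zf23) (kf xf20 yf13 zf26) (kf xf5 yf43 zf44) (kf xf20 yf0 zf28) (kf xf20 yf0 zf29) (kf xf20 yf13 zf34) (kf xf20 yf13 zf24) (kf xf16 yf53 zf19) (kf xf20 yf13 zf37) (kf xf5 yf43 zf42) (kf xf6 yf16 zf33) (kf xf14 yf1 zf55) (kf xf7 yf50 zf7) (kf xf11 yf16 zf11) (kf xf20 yf12 zf47) (kf xf20 yf13 zf41) (kf xf5 yf43 zf46) (kf xf6 yf41 zf7) (kf xf20 yf12 zf40) (kf xf16 yf7 zf44) (kf xf17 yf41 zf56) (kf xf20 yf13 zf47) (kf xf17 yf42 zf27) (kf xf20 yf13 zf19) (kf xf20 yf13 zf18) (kf xf18 yf17 zf44) (kf xf5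 yf43 zf50) (kf xf20 yf12 zf23) (kf xf16 yf47 zf21) (kf xf6 yf1 zf9) (kf xf19 yf53 zf11) (kf xf20 yf13 zf61) (kf xf5 yf43 zf52) (kf xf8 yf49 zf43) (kf xf12 yf32 zf18) (kf xf20 yf14 zf0) (kf xf17 yf2 zf49) (kf xf5 yf44 zf14) (kf xf5 yf44 zf13) (kf xf5 yf44 zf23) (kf xf5 yf44 zf24) (kf xf20 yf14 zf10) (kf xf5 yf44 zf18) (kf xf8 yf58 zf25) (kf xf5 yf43 zf60)) (@D3.rec (fun _ => Pt) (kf xf12 yf36 zf17) (kf xf5 yf44 zf33) (kf xf5 yf44 zf35) (kf xf11 yf23 zf57) (kf xf5 yf44 zf29) (kf xf5 yf44 zf31) (kf xf17 yf59 zf38) (kf xf20 yf12 zf29) (kf xf20 yf12 zf30) (kf xf16 yf48 zf38) (kf xf17 yf55 zf51) (kf xf20 yf14 zf33) (kf xf5 yf44 zf43) (kf xf5 yf44 zf42) (kf xf12 yf13 zf43) (kf xf5 yf44 zf48) (kf xf5 yf44 zf47) (kf xf20 yf14 zf46) (kf xf5 yf44 zf6) (kf xf5 yf44 zf56) (kf xf5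 yf44 zf57) (kf xf5 yf44 zf58) (kf xf20 yf14 zf53) (kf xf5 yf44 zf52) (kf xf5 yf44 zf53) (kf xf20 yf14 zf56) (kf xf6 yf30 zf54) (kf xf13 yf54 zf12) (kf xf13 yf54 zf15) (kf xf14 yf4 zf27) (kf xf12 yf12 zf55) (kf xf20 yf15 zf1) (kf xf11 yf37 zf54) (kf xf20 yf14 zf50) (kf xf14 yf7 zf42) (kf xf11 yf17 zf0) (kf xf11 yf17 zf3) (kf xf20 yf14 zf8) (kf xf20 yf14 zf7) (kf xf20 yf15 zf15) (kf xf5 yf44 zf17) (kf xf20 yf14 zf11) (kf xf20 yf14 zf12) (kf xf20 yf12 zf44) (kf xf16 yf56 zf17) (kf xf16 yf56 zf18) (kf xf12 yf30 zf22) (kf xf8 yf58 zf22) (kf xf20 yf15 zf28) (kf xf5 yf44 zf20) (kf xf20 yf14 zf4) (kf xf20 yf14 zf5) (kf xf15 yf49 zf38) (kf xf15 yf49 zf37) (kf xf20 yf15 zf36) (kf xf11 yf37 zf34) (kf xf12 yf12 zf51) (kf xf5 yf44 zf25) (kf xf20 yf12 zf21) (kf xf20 yf14 zf52) (kf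 xf13 yf1 zf3) (kf xf17 yf43 zf48)) (@D3.rec (fun _ => Pt) (kf xf20 yf14 zf15) (kf xf17 yf59 zf41) (kf xf11 yf44 zf12) (kf xf16 yf15 zf25) (kf xf17 yf59 zf39) (kf xf20 yf15 zf49) (kf xf11 yf16 zf56) (kf xf20 yf15 zf52) (kf xf5 yf44 zf32) (kf xf6 yf44 zf10) (kf xf11 yf15 zf1) (kf xf6 yf9 zf4) (kf xf11 yf23 zf58) (kf xf13 yf58 zf37) (kf xf12 yf26 zf2) (kf xf12 yf43 zf25) (kf xf5 yf44 zf36) (kf xf16 yf48 zf45) (kf xf16 yf48 zf46) (kf xf16 yf7 zf28) (kf xf19 yf47 zf42) (kf xf9 yf46 zf26) (kf xf15 yf27 zf17) (kf xf20 yf16 zf2) (kf xf15 yf27 zf18) (kf xf12 yf48 zf41) (kf xf20 yf16 zf8) (kf xf20 yf16 zf1) (kf xf20 yf16 zf0) (kf xf11 yf4 zf51) (kf xf5 yf44 zf41) (kf xf17 yf43 zf47) (kf xf18 yf25 zf30) (kf xf15 yf46 zf19) (kf xf13 yf58 zf26) (kf xf20 yf16 zf25) (kf xf12 yf17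 zf58) (kf xf20 yf16 zf30) (kf xf5 yf44 zf45) (kf xf20 yf14 zf39) (kf xf20 yf14 zf40) (kf xf20 yf14 zf41) (kf xf20 yf16 zf44) (kf xf20 yf14 zf36) (kf xf15 yf4 zf25) (kf xf20 yf14 zf37) (kf xf20 yf16 zf49) (kf xf20 yf14 zf44) (kf xf20 yf14 zf43) (kf xf20 yf16 zf58) (kf xf5 yf44 zf49) (kf xf5 yf44 zf51) (kf xf20 yf12 zf32) (kf xf12 yf25 zf18) (kf xf12 yf25 zf56) (kf xf11 yf16 zf47) (kf xf20 yf7 zf10) (kf xf9 yf46 zf6) (kf xf17 yf12 zf15) (kf xf7 yf23 zf38) (kf xf20 yf14 zf3) (kf xf17 yf41 zf61)) (@D3.rec (fun _ => Pt) (kf xf20 yf14 zf54) (kf xf20 yf17 zf14) (kf xf5 yf59 zf7) (kf xf17 yf12 zf18) (kf xf13 yf1 zf6) (kf xf16 yf56 zf27) (kf xf9 yf17 zf8) (kf xf5 yf44 zf55) (kf xf11 yf11 zf19) (kf xf20 yf13 zf22) (kf xf20 yf14 zf47) (kf xf20 yf14 zf48) (kf xf20 yf17 zf26) (kf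 xf12 yf47 zf4) (kf xf20 yf14 zf51) (kf xf20 yf17 zf33) (kf xf14 yf52 zf35) (kf xf16 yf56 zf19) (kf xf20 yf17 zf36) (kf xf5 yf44 zf59) (kf xf14 yf8 zf17) (kf xf20 yf12 zf36) (kf xf16 yf49 zf18) (kf xf18 yf39 zf34) (kf xf20 yf7 zf18) (kf xf20 yf12 zf34) (kf xf20 yf12 zf35) (kf xf20 yf12 zf27) (kf xf17 yf32 zf60) (kf xf17 yf32 zf61) (kf xf17 yf32 zf59) (kf xf5 yf58 zf38) (kf xf6 yf1 zf29) (kf xf20 yf17 zf58) (kf xf6 yf1 zf31) (kf xf6 yf1 zf33) (kf xf6 yf1 zf34) (kf xf6 yf30 zf55) (kf xf6 yf1 zf36) (kf xf6 yf1 zf37) (kf xf6 yf1 zf38) (kf xf6 yf1 zf39) (kf xf9 yf48 zf10) (kf xf16 yf56 zf21) (kf xf7 yf59 zf58) (kf xf5 yf45 zf14) (kf xf5 yf45 zf13) (kf xf5 yf45 zf8) (kf xf20 yf18 zf20) (kf xf16 yf56 zf23) (kf xf13 yf38 zf33) (kf xf11 yf13 zf58) (kf xf11 yf13 zf61) (kf xf16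 yf56 zf25) (kf xf20 yf18 zf34) (kf xf20 yf18 zf16) (kf xf20 yf18 zf15) (kf xf18 yf43 zf0) (kf xf5 yf45 zf12) (kf xf16 yf28 zf44) (kf xf8 yf47 zf50) (kf xf18 yf41 zf57)) (@D3.rec (fun _ => Pt) (kf xf16 yf57 zf8) (kf xf11 yf14 zf18) (kf xf11 yf7 zf44) (kf xf18 yf41 zf58) (kf xf20 yf18 zf53) (kf xf10 yf39 zf35) (kf xf16 yf54 zf61) (kf xf12 yf54 zf57) (kf xf16 yf52 zf23) (kf xf6 yf26 zf3) (kf xf5 yf45 zf21) (kf xf16 yf55 zf61) (kf xf16 yf56 zf0) (kf xf9 yf25 zf16) (kf xf5 yf45 zf29) (kf xf5 yf45 zf28) (kf xf5 yf45 zf23) (kf xf16 yf56 zf57) (kf xf16 yf56 zf7) (kf xf20 yf19 zf0) (kf xf11 yf15 zf60) (kf xf11 yf16 zf1) (kf xf16 yf56 zf9) (kf xf20 yf19 zf8) (kf xf9 yf25 zf11) (kf xf5 yf45 zf27) (kf xf11 yf36 zf1) (kf xf20 yf18 zf59) (kf xf11 yf28 zf36) (kf xf20 yf12 zf12) (kf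 xf20 yf18 zf58) (kf xf12 yf3 zf33) (kf xf16 yf53 zf28) (kf xf9 yf10 zf22) (kf xf12 yf3 zf48) (kf xf12 yf23 zf44) (kf xf16 yf48 zf40) (kf xf13 yf0 zf26) (kf xf15 yf49 zf46) (kf xf16 yf48 zf41) (kf xf16 yf48 zf42) (kf xf16 yf48 zf43) (kf xf5 yf45 zf40) (kf xf16 yf59 zf49) (kf xf5 yf45 zf38) (kf xf19 yf53 zf6) (kf xf19 yf53 zf7) (kf xf20 yf13 zf58) (kf xf20 yf19 zf24) (kf xf20 yf19 zf25) (kf xf15 yf49 zf52) (kf xf18 yf23 zf21) (kf xf12 yf32 zf29) (kf xf7 yf30 zf41) (kf xf13 yf0 zf51) (kf xf11 yf44 zf27) (kf xf10 yf3 zf2) (kf xf11 yf48 zf44) (kf xf16 yf47 zf48) (kf xf16 yf56 zf48) (kf xf16 yf56 zf49) (kf xf16 yf56 zf50)) (@D3.rec (fun _ => Pt) (kf xf6 yf48 zf0) (kf xf16 yf52 zf41) (kf xf16 yf57 zf3) (kf xf12 yf9 zf20) (kf xf16 yf56 zf22) (kf xf16 yf57 zf5) (kf xf14 yf43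 zf10) (kf xf20 yf19 zf50) (kf xf11 yf49 zf44) (kf xf18 yf26 zf3) (kf xf11 yf57 zf44) (kf xf5 yf45 zf53) (kf xf7 yf59 zf46) (kf xf16 yf43 zf54) (kf xf16 yf57 zf12) (kf xf10 yf19 zf4) (kf xf12 yf25 zf40) (kf xf5 yf49 zf7) (kf xf12 yf25 zf45) (kf xf5 yf57 zf22) (kf xf11 yf28 zf39) (kf xf16 yf52 zf0) (kf xf16 yf56 zf55) (kf xf16 yf56 zf56) (kf xf12 yf3 zf36) (kf xf16 yf56 zf8) (kf xf16 yf56 zf58) (kf xf16 yf56 zf59) (kf xf19 yf52 zf21) (kf xf11 yf50 zf13) (kf xf5 yf56 zf56) (kf xf16 yf56 zf60) (kf xf16 yf54 zf2) (kf xf9 yf4 zf18) (kf xf5 yf46 zf5) (kf xf16 yf45 zf7) (kf xf16 yf57 zf0) (kf xf5 yf46 zf8) (kf xf16 yf57 zf17) (kf xf16 yf57 zf18) (kf xf18 yf39 zf38) (kf xf9 yf44 zf25) (kf xf5 yf52 zf21) (kf xf11 yf49 zf40) (kf xf11 yf14 zf47) (kf xf16 yf57 zf20) (kf xf17 yf33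 zf13) (kf xf16 yf57 zf13) (kf xf20 yf12 zf26) (kf xf9 yf44 zf23) (kf xf16 yf57 zf15) (kf xf16 yf57 zf22) (kf xf16 yf57 zf23) (kf xf10 yf44 zf59) (kf xf16 yf57 zf21) (kf xf10 yf53 zf19) (kf xf11 yf51 zf42) (kf xf11 yf51 zf41) (kf xf17 yf34 zf3) (kf xf6 yf3 zf59) (kf xf6 yf3 zf60) (kf xf6 yf3 zf61)) (@D3.rec (fun _ => Pt) (kf xf9 yf14 zf47) (kf xf12 yf8 zf19) (kf xf8 yf49 zf5) (kf xf20 yf20 zf48) (kf xf20 yf20 zf50) (kf xf20 yf20 zf47) (kf xf8 yf52 zf24) (kf xf18 yf41 zf6) (kf xf5 yf46 zf27) (kf xf15 yf13 zf17) (kf xf10 yf1 zf29) (kf xf8 yf44 zf23) (kf xf11 yf15 zf39) (kf xf5 yf46 zf30) (kf xf12 yf7 zf6) (kf xf12 yf7 zf7) (kf xf8 yf45 zf13) (kf xf6 yf36 zf7) (kf xf12 yf7 zf5) (kf xf20 yf20 zf61) (kf xf12 yf7 zf10) (kf xf12 yf7 zf9) (kf xf18 yf8 zf53) (kf xf5 yf46 zf34)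 (kf xf12 yf6 zf47) (kf xf20 yf21 zf9) (kf xf8 yf2 zf6) (kf xf12 yf6 zf44) (kf xf12 yf6 zf45) (kf xf20 yf21 zf14) (kf xf8 yf44 zf4) (kf xf20 yf21 zf19) (kf xf7 yf8 zf9) (kf xf12 yf6 zf39) (kf xf18 yf39 zf14) (kf xf8 yf43 zf50) (kf xf12 yf7 zf13) (kf xf20 yf21 zf26) (kf xf6 yf14 zf27) (kf xf5 yf46 zf42) (kf xf20 yf21 zf4) (kf xf12 yf8 zf47) (kf xf18 yf59 zf15) (kf xf12 yf8 zf44) (kf xf12 yf8 zf45) (kf xf20 yf21 zf37) (kf xf11 yf47 zf16) (kf xf20 yf6 zf20) (kf xf11 yf15 zf48) (kf xf11 yf15 zf49) (kf xf11 yf15 zf50) (kf xf11 yf15 zf51) (kf xf11 yf59 zf14) (kf xf5 yf46 zf51) (kf xf7 yf56 zf25) (kf xf7 yf59 zf35) (kf xf14 yf7 zf61) (kf xf11 yf18 zf3) (kf xf11 yf19 zf12) (kf xf11 yf59 zf19) (kf xf5 yf46 zf55) (kf xf9 yf2 zf22)) (@D3.rec (fun _ => Pt) (kf xf12 yf26 zf3) (kf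 xf11 yf15 zf4) (kf xf11 yf15 zf3) (kf xf5 yf46 zf57) (kf xf20 yf21 zf57) (kf xf20 yf21 zf53) (kf xf20 yf21 zf52) (kf xf5 yf46 zf58) (kf xf9 yf31 zf59) (kf xf11 yf14 zf57) (kf xf11 yf14 zf56) (kf xf8 yf48 zf57) (kf xf9 yf47 zf41) (kf xf20 yf22 zf0) (kf xf5 yf47 zf6) (kf xf5 yf47 zf5) (kf xf20 yf22 zf3) (kf xf5 yf47 zf1) (kf xf20 yf22 zf5) (kf xf20 yf21 zf61) (kf xf17 yf12 zf14) (kf xf20 yf12 zf54) (kf xf5 yf47 zf4) (kf xf11 yf29 zf58) (kf xf18 yf50 zf36) (kf xf20 yf16 zf38) (kf xf9 yf46 zf12) (kf xf11 yf31 zf8) (kf xf20 yf22 zf1) (kf xf20 yf22 zf2) (kf xf11 yf30 zf59) (kf xf18 yf1 zf40) (kf xf20 yf0 zf16) (kf xf5 yf47 zf7) (kf xf20 yf22 zf17) (kf xf14 yf46 zf34) (kf xf13 yf2 zf29) (kf xf20 yf5 zf34) (kf xf16 yf28 zf28) (kf xf20 yf5 zf35) (kf xf17 yf8 zf22) (kf xf12 yf10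 zf51) (kf xf17 yf8 zf25) (kf xf20 yf19 zf52) (kf xf11 yf30 zf41) (kf xf10 yf5 zf2) (kf xf5 yf47 zf35) (kf xf5 yf47 zf34) (kf xf5 yf47 zf21) (kf xf11 yf28 zf28) (kf xf20 yf22 zf26) (kf xf20 yf22 zf25) (kf xf5 yf47 zf25) (kf xf11 yf31 zf46) (kf xf11 yf30 zf15) (kf xf8 yf0 zf14) (kf xf8 yf0 zf15) (kf xf11 yf31 zf50) (kf xf8 yf0 zf3) (kf xf18 yf42 zf60) (kf xf11 yf32 zf3) (kf xf11 yf31 zf16)) (@D3.rec (fun _ => Pt) (kf xf19 yf52 zf46) (kf xf20 yf22 zf30) (kf xf11 yf31 zf1) (kf xf11 yf29 zf43) (kf xf20 yf22 zf28) (kf xf20 yf22 zf29) (kf xf11 yf31 zf53) (kf xf11 yf29 zf53) (kf xf11 yf29 zf54) (kf xf9 yf13 zf41) (kf xf20 yf22 zf41) (kf xf5 yf48 zf38) (kf xf11 yf51 zf59) (kf xf20 yf22 zf43) (kf xf13 yf3 zf20) (kf xf11 yf30 zf47) (kf xf20 yf22 zf42) (kf xf5 yf47 zf46) (kf xf11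 yf28 zf12) (kf xf12 yf9 zf2) (kf xf5 yf47 zf48) (kf xf11 yf30 zf3) (kf xf11 yf30 zf4) (kf xf19 yf23 zf13) (kf xf12 yf8 zf50) (kf xf20 yf22 zf51) (kf xf10 yf6 zf1) (kf xf17 yf58 zf28) (kf xf20 yf22 zf49) (kf xf11 yf30 zf37) (kf xf20 yf22 zf58) (kf xf5 yf47 zf56) (kf xf8 yf14 zf51) (kf xf6 yf8 zf47) (kf xf16 yf57 zf36) (kf xf20 yf23 zf1) (kf xf5 yf47 zf60) (kf xf11 yf29 zf48) (kf xf11 yf29 zf47) (kf xf20 yf23 zf9) (kf xf5 yf48 zf1) (kf xf11 yf29 zf51) (kf xf11 yf29 zf52) (kf xf8 yf14 zf39) (kf xf12 yf28 zf23) (kf xf5 yf48 zf3) (kf xf10 yf6 zf5) (kf xf10 yf6 zf6) (kf xf10 yf6 zf7) (kf xf17 yf20 zf54) (kf xf5 yf48 zf22) (kf xf19 yf13 zf55) (kf xf5 yf48 zf7) (kf xf5 yf48 zf31) (kf xf5 yf48 zf32) (kf xf5 yf48 zf26) (kf xf5 yf48 zf28) (kf xf5 yf48 zf35) (kf xf5 yf48 zf34)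 (kf xf5 yf48 zf10) (kf xf5 yf48 zf40) (kf xf5 yf48 zf43)) (@D3.rec (fun _ => Pt) (kf xf12 yf54 zf49) (kf xf6 yf51 zf10) (kf xf17 yf23 zf60) (kf xf11 yf47 zf7) (kf xf18 yf2 zf8) (kf xf6 yf50 zf3) (kf xf17 yf34 zf7) (kf xf17 yf34 zf8) (kf xf10 yf42 zf27) (kf xf13 yf12 zf33) (kf xf18 yf21 zf10) (kf xf20 yf23 zf21) (kf xf5 yf59 zf45) (kf xf17 yf21 zf48) (kf xf20 yf23 zf23) (kf xf20 yf23 zf22) (kf xf20 yf23 zf60) (kf xf5 yf48 zf24) (kf xf6 yf51 zf0) (kf xf17 yf59 zf27) (kf xf9 yf12 zf59) (kf xf20 yf23 zf27) (kf xf9 yf30 zf11) (kf xf14 yf37 zf57) (kf xf17 yf19 zf44) (kf xf7 yf59 zf3) (kf xf12 yf25 zf7) (kf xf20 yf23 zf28) (kf xf9 yf46 zf31) (kf xf17 yf59 zf26) (kf xf12 yf58 zf3) (kf xf14 yf28 zf43) (kf xf20 yf23 zf25) (kf xf12 yf58 zf4) (kf xf20 yf23 zf26) (kf xf20 yf24 zf25)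 (kf xf12 yf58 zf5) (kf xf20 yf23 zf31) (kf xf20 yf23 zf32) (kf xf9 yf6 zf30) (kf xf15 yf3 zf33) (kf xf17 yf59 zf30) (kf xf20 yf23 zf30) (kf xf20 yf23 zf13) (kf xf14 yf48 zf54) (kf xf14 yf48 zf53) (kf xf20 yf24 zf45) (kf xf5 yf48 zf36) (kf xf20 yf12 zf20) (kf xf12 yf10 zf55) (kf xf12 yf11 zf0) (kf xf20 yf19 zf59) (kf xf14 yf1 zf41) (kf xf9 yf46 zf27) (kf xf18 yf24 zf4) (kf xf9 yf17 zf56) (kf xf20 yf24 zf52) (kf xf12 yf22 zf56) (kf xf13 yf6 zf17) (kf xf20 yf24 zf56) (kf xf11 yf49 zf59) (kf xf10 yf55 zf23)) (@D3.rec (fun _ => Pt) (kf xf5 yf48 zf47) (kf xf13 yf19 zf5) (kf xf20 yf24 zf59) (kf xf12 yf25 zf25) (kf xf12 yf25 zf37) (kf xf12 yf25 zf38) (kf xf12 yf25 zf39) (kf xf9 yf0 zf23) (kf xf6 yf51 zf3) (kf xf6 yf51 zf4) (kf xf12 yf25 zf3) (kf xf6 yf50 zf25) (kf xf12 yf24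 zf52) (kf xf12 yf25 zf4) (kf xf12 yf25 zf5) (kf xf16 yf57 zf1) (kf xf6 yf51 zf9) (kf xf12 yf24 zf2) (kf xf12 yf24 zf3) (kf xf11 yf11 zf12) (kf xf12 yf3 zf53) (kf xf10 yf57 zf14) (kf xf6 yf30 zf4) (kf xf15 yf5 zf9) (kf xf16 yf57 zf31) (kf xf8 yf48 zf4) (kf xf17 yf59 zf56) (kf xf8 yf48 zf16) (kf xf14 yf8 zf8) (kf xf8 yf48 zf58) (kf xf20 yf19 zf57) (kf xf5 yf58 zf60) (kf xf20 yf25 zf7) (kf xf9 yf48 zf19) (kf xf11 yf44 zf45) (kf xf20 yf25 zf16) (kf xf20 yf25 zf28) (kf xf12 yf9 zf61) (kf xf12 yf10 zf28) (kf xf16 yf45 zf11) (kf xf12 yf8 zf53) (kf xf14 yf25 zf34) (kf xf6 yf13 zf24) (kf xf11 yf31 zf41) (kf xf12 yf29 zf56) (kf xf12 yf22 zf27) (kf xf5 yf49 zf23) (kf xf5 yf52 zf20) (kf xf11 yf50 zf28) (kf xf11 yf50 zf18) (kf xf11 yf50 zf26) (kf xf11 yf50 zf27) (kf xf12 yf10 zf35)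 (kf xf12 yf10 zf37) (kf xf16 yf51 zf28) (kf xf8 yf49 zf54) (kf xf16 yf57 zf34) (kf xf11 yf4 zf56) (kf xf16 yf57 zf30) (kf xf16 yf57 zf29) (kf xf11 yf14 zf28) (kf xf20 yf25 zf39)) (@D3.rec (fun _ => Pt) (kf xf7 yf8 zf45) (kf xf5 yf49 zf40) (kf xf20 yf25 zf43) (kf xf6 yf16 zf24) (kf xf11 yf15 zf27) (kf xf20 yf25 zf45) (kf xf9 yf49 zf44) (kf xf16 yf57 zf35) (kf xf14 yf12 zf29) (kf xf9 yf2 zf51) (kf xf20 yf25 zf50) (kf xf5 yf49 zf45) (kf xf11 yf25 zf18) (kf xf17 yf31 zf46) (kf xf8 yf2 zf12) (kf xf11 yf1 zf42) (kf xf10 yf58 zf46) (kf xf11 yf1 zf43) (kf xf11 yf1 zf44) (kf xf10 yf3 zf54) (kf xf9 yf48 zf43) (kf xf11 yf0 zf25) (kf xf11 yf1 zf53) (kf xf11 yf31 zf44) (kf xf20 yf25 zf56) (kf xf11 yf28 zf56) (kf xf20 yf22 zf53) (kf xf5 yf49 zf61) (kf xf11 yf24 zf49) (kf xf11 yf31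 zf11) (kf xf20 yf25 zf58) (kf xf5 yf58 zf11) (kf xf17 yf12 zf16) (kf xf13 yf58 zf44) (kf xf11 yf30 zf44) (kf xf5 yf50 zf5) (kf xf11 yf21 zf28) (kf xf11 yf31 zf18) (kf xf17 yf9 zf50) (kf xf11 yf22 zf20) (kf xf11 yf29 zf22) (kf xf11 yf31 zf12) (kf xf11 yf57 zf38) (kf xf8 yf12 zf13) (kf xf12 yf44 zf7) (kf xf12 yf44 zf6) (kf xf16 yf57 zf53) (kf xf6 yf30 zf33) (kf xf12 yf55 zf33) (kf xf11 yf49 zf34) (kf xf11 yf49 zf33) (kf xf6 yf50 zf61) (kf xf12 yf17 zf31) (kf xf5 yf54 zf28) (kf xf17 yf16 zf38) (kf xf6 yf50 zf24) (kf xf11 yf28 zf25) (kf xf12 yf9 zf44) (kf xf12 yf9 zf45) (kf xf17 yf16 zf37) (kf xf6 yf51 zf13) (kf xf11 yf31 zf14)) (@D3.rec (fun _ => Pt) (kf xf12 yf16 zf51) (kf xf6 yf36 zf60) (kf xf12 yf17 zf7) (kf xf12 yf17 zf8) (kf xf6 yf8 zf16) (kf xf7 yf33 zf55) (kf xf18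 yf38 zf17) (kf xf11 yf38 zf25) (kf xf5 yf50 zf41) (kf xf19 yf51 zf39) (kf xf9 yf10 zf24) (kf xf5 yf50 zf43) (kf xf20 yf26 zf19) (kf xf12 yf23 zf46) (kf xf20 yf26 zf22) (kf xf13 yf58 zf59) (kf xf12 yf23 zf52) (kf xf12 yf23 zf51) (kf xf5 yf50 zf52) (kf xf11 yf31 zf20) (kf xf10 yf6 zf40) (kf xf15 yf27 zf11) (kf xf11 yf28 zf40) (kf xf17 yf7 zf56) (kf xf16 yf29 zf59) (kf xf12 yf5 zf34) (kf xf12 yf5 zf39) (kf xf16 yf58 zf42) (kf xf11 yf51 zf7) (kf xf9 yf30 zf51) (kf xf11 yf32 zf28) (kf xf11 yf8 zf11) (kf xf11 yf47 zf44) (kf xf16 yf57 zf57) (kf xf16 yf58 zf44) (kf xf16 yf58 zf45) (kf xf11 yf11 zf52) (kf xf5 yf51 zf30) (kf xf5 yf51 zf31) (kf xf9 yf5 zf61) (kf xf5 yf51 zf25) (kf xf5 yf51 zf27) (kf xf20 yf26 zf47) (kf xf11 yf25 zf3) (kf xf20 yf26 zf46) (kf xf5 yf51 zf8) (kf xf13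 yf20 zf45) (kf xf11 yf25 zf38) (kf xf11 yf25 zf37) (kf xf20 yf26 zf59) (kf xf5 yf51 zf10) (kf xf11 yf25 zf41) (kf xf11 yf25 zf42) (kf xf11 yf25 zf7) (kf xf11 yf25 zf8) (kf xf12 yf29 zf47) (kf xf7 yf40 zf58) (kf xf17 yf57 zf45) (kf xf11 yf24 zf23) (kf xf5 yf51 zf15) (kf xf18 yf38 zf12) (kf xf7 yf42 zf11)) (@D3.rec (fun _ => Pt) (kf xf7 yf42 zf10) (kf xf20 yf27 zf16) (kf xf5 yf51 zf17) (kf xf11 yf25 zf21) (kf xf11 yf25 zf22) (kf xf10 yf42 zf40) (kf xf14 yf24 zf0) (kf xf20 yf27 zf20) (kf xf5 yf51 zf21) (kf xf20 yf27 zf23) (kf xf5 yf51 zf22) (kf xf13 yf21 zf37) (kf xf13 yf5 zf26) (kf xf7 yf4 zf16) (kf xf5 yf51 zf24) (kf xf11 yf24 zf54) (kf xf12 yf27 zf40) (kf xf20 yf27 zf31) (kf xf7 yf42 zf8) (kf xf19 yf23 zf37) (kf xf13 yf1 zf30) (kf xf9 yf24 zf31) (kf xf20 yf2 zf7) (kf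 xf6 yf12 zf41) (kf xf5 yf51 zf28) (kf xf9 yf10 zf6) (kf xf7 yf32 zf51) (kf xf15 yf30 zf26) (kf xf16 yf54 zf32) (kf xf15 yf30 zf27) (kf xf5 yf57 zf57) (kf xf12 yf29 zf29) (kf xf20 yf27 zf40) (kf xf17 yf57 zf58) (kf xf11 yf58 zf58) (kf xf12 yf39 zf57) (kf xf5 yf51 zf35) (kf xf11 yf25 zf29) (kf xf10 yf18 zf59) (kf xf12 yf29 zf46) (kf xf6 yf2 zf43) (kf xf11 yf24 zf44) (kf xf5 yf51 zf46) (kf xf18 yf23 zf41) (kf xf11 yf28 zf34) (kf xf12 yf9 zf52) (kf xf12 yf30 zf8) (kf xf11 yf25 zf15) (kf xf20 yf25 zf18) (kf xf12 yf30 zf14) (kf xf13 yf2 zf14) (kf xf20 yf27 zf48) (kf xf20 yf27 zf55) (kf xf5 yf51 zf47) (kf xf18 yf2 zf15) (kf xf12 yf30 zf18) (kf xf9 yf50 zf31) (kf xf13 yf1 zf51) (kf xf17 yf56 zf6) (kf xf11 yf24 zf30) (kf xf5 yf51 zf52) (kf xf5 yf51 zf55)) (@D3.rec (fun _ =>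 Pt) (kf xf19 yf27 zf40) (kf xf11 yf25 zf2) (kf xf20 yf27 zf59) (kf xf5 yf51 zf60) (kf xf11 yf33 zf29) (kf xf9 yf44 zf24) (kf xf5 yf52 zf2) (kf xf5 yf52 zf28) (kf xf11 yf24 zf27) (kf xf17 yf58 zf26) (kf xf5 yf52 zf6) (kf xf11 yf28 zf29) (kf xf11 yf28 zf41) (kf xf7 yf59 zf48) (kf xf11 yf28 zf61) (kf xf17 yf57 zf55) (kf xf11 yf24 zf61) (kf xf5 yf52 zf11) (kf xf11 yf28 zf37) (kf xf10 yf18 zf51) (kf xf11 yf29 zf19) (kf xf5 yf52 zf18) (kf xf18 yf25 zf8) (kf xf15 yf30 zf37) (kf xf19 yf32 zf36) (kf xf9 yf44 zf17) (kf xf20 yf28 zf8) (kf xf20 yf19 zf41) (kf xf9 yf44 zf19) (kf xf9 yf50 zf56) (kf xf5 yf52 zf30) (kf xf14 yf20 zf43) (kf xf11 yf50 zf49) (kf xf6 yf46 zf37) (kf xf17 yf9 zf4) (kf xf11 yf50 zf48) (kf xf17 yf8 zf37) (kf xf17 yf6 zf24) (kf xf5 yf52 zf33) (kf xf9 yf9 zf1)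 (kf xf8 yf56 zf57) (kf xf11 yf27 zf43) (kf xf6 yf20 zf42) (kf xf11 yf50 zf42) (kf xf11 yf28 zf23) (kf xf17 yf8 zf29) (kf xf11 yf24 zf53) (kf xf10 yf43 zf27) (kf xf12 yf29 zf55) (kf xf20 yf28 zf28) (kf xf11 yf24 zf57) (kf xf19 yf27 zf42) (kf xf20 yf25 zf13) (kf xf11 yf25 zf6) (kf xf5 yf52 zf45) (kf xf5 yf58 zf52) (kf xf12 yf29 zf31) (kf xf20 yf28 zf34) (kf xf9 yf50 zf23) (kf xf5 yf52 zf49) (kf xf10 yf43 zf24) (kf xf10 yf43 zf3)) (@D3.rec (fun _ => Pt) (kf xf16 yf59 zf4) (kf xf12 yf5 zf25) (kf xf10 yf49 zf49) (kf xf11 yf24 zf60) (kf xf11 yf50 zf52) (kf xf11 yf33 zf61) (kf xf13 yf33 zf12) (kf xf20 yf28 zf50) (kf xf16 yf59 zf8) (kf xf19 yf43 zf14) (kf xf15 yf26 zf32) (kf xf15 yf26 zf41) (kf xf11 yf33 zf15) (kf xf13 yf44 zf9) (kf xf16 yf59 zf7) (kf xf11 yf55 zf24) (kf xf11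 yf55 zf42) (kf xf8 yf56 zf50) (kf xf10 yf47 zf13) (kf xf8 yf56 zf37) (kf xf8 yf56 zf55) (kf xf8 yf56 zf56) (kf xf16 yf59 zf11) (kf xf5 yf58 zf35) (kf xf12 yf31 zf16) (kf xf5 yf59 zf11) (kf xf9 yf50 zf49) (kf xf14 yf4 zf26) (kf xf11 yf29 zf30) (kf xf9 yf50 zf48) (kf xf16 yf59 zf20) (kf xf9 yf44 zf47) (kf xf10 yf55 zf45) (kf xf16 yf27 zf35) (kf xf16 yf27 zf36) (kf xf20 yf29 zf30) (kf xf7 yf8 zf26) (kf xf15 yf5 zf44) (kf xf20 yf29 zf36) (kf xf14 yf58 zf28) (kf xf20 yf29 zf41) (kf xf16 yf27 zf44) (kf xf16 yf27 zf43) (kf xf5 yf53 zf18) (kf xf16 yf59 zf14) (kf xf16 yf59 zf16) (kf xf16 yf59 zf17) (kf xf8 yf9 zf58) (kf xf7 yf52 zf14) (kf xf10 yf44 zf57) (kf xf10 yf44 zf58) (kf xf10 yf44 zf28) (kf xf6 yf12 zf10) (kf xf8 yf58 zf11) (kf xf10 yf44 zf29) (kf xf10 yf45 zf14) (kf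 xf11 yf34 zf4) (kf xf20 yf30 zf0) (kf xf18 yf23 zf58) (kf xf11 yf33 zf56) (kf xf20 yf30 zf4) (kf xf11 yf33 zf55)) (@D3.rec (fun _ => Pt) (kf xf20 yf30 zf6) (kf xf9 yf22 zf36) (kf xf20 yf30 zf10) (kf xf17 yf0 zf26) (kf xf17 yf0 zf25) (kf xf20 yf30 zf19) (kf xf5 yf53 zf32) (kf xf17 yf0 zf29) (kf xf15 yf26 zf36) (kf xf20 yf7 zf27) (kf xf17 yf0 zf32) (kf xf17 yf0 zf31) (kf xf17 yf33 zf0) (kf xf7 yf57 zf12) (kf xf20 yf30 zf27) (kf xf11 yf32 zf12) (kf xf20 yf30 zf32) (kf xf20 yf7 zf39) (kf xf20 yf7 zf40) (kf xf12 yf49 zf27) (kf xf20 yf9 zf1) (kf xf15 yf5 zf6) (kf xf12 yf49 zf23) (kf xf15 yf5 zf23) (kf xf20 yf30 zf40) (kf xf15 yf8 zf14) (kf xf17 yf0 zf20) (kf xf5 yf53 zf45) (kf xf13 yf1 zf31) (kf xf11 yf31 zf4) (kf xf9 yf48 zf49) (kf xf8 yf48 zf10) (kf xf20 yf30 zf47) (kf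 xf7 yf17 zf29) (kf xf17 yf0 zf36) (kf xf20 yf30 zf52) (kf xf5 yf54 zf17) (kf xf5 yf54 zf16) (kf xf20 yf30 zf60) (kf xf5 yf53 zf52) (kf xf5 yf54 zf21) (kf xf15 yf23 zf44) (kf xf5 yf54 zf60) (kf xf5 yf54 zf61) (kf xf16 yf56 zf45) (kf xf5 yf54 zf51) (kf xf5 yf54 zf54) (kf xf13 yf2 zf18) (kf xf5 yf55 zf4) (kf xf5 yf55 zf2) (kf xf18 yf22 zf31) (kf xf15 yf26 zf53) (kf xf15 yf26 zf54) (kf xf17 yf0 zf45) (kf xf10 yf44 zf16) (kf xf11 yf32 zf61) (kf xf11 yf32 zf59) (kf xf20 yf31 zf20) (kf xf16 yf32 zf19) (kf xf20 yf31 zf25) (kf xf5 yf54 zf5) (kf xf11 yf32 zf5)) (@D3.rec (fun _ => Pt) (kf xf8 yf51 zf43) (kf xf20 yf8 zf0) (kf xf8 yf51 zf0) (kf xf5 yf54 zf8) (kf xf11 yf32 zf56) (kf xf9 yf48 zf9) (kf xf20 yf31 zf35) (kf xf12 yf7 zf23) (kf xf9 yf14 zf52) (kf xf20 yf31 zf45) (kf xf5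 yf54 zf10) (kf xf11 yf45 zf21) (kf xf20 yf31 zf49) (kf xf6 yf40 zf31) (kf xf5 yf54 zf12) (kf xf20 yf31 zf51) (kf xf15 yf26 zf55) (kf xf16 yf54 zf47) (kf xf19 yf21 zf12) (kf xf20 yf31 zf56) (kf xf5 yf54 zf15) (kf xf20 yf30 zf54) (kf xf19 yf52 zf5) (kf xf20 yf30 zf55) (kf xf20 yf8 zf37) (kf xf16 yf31 zf51) (kf xf19 yf52 zf4) (kf xf20 yf30 zf53) (kf xf20 yf32 zf10) (kf xf20 yf30 zf58) (kf xf20 yf30 zf57) (kf xf20 yf32 zf19) (kf xf5 yf54 zf18) (kf xf9 yf7 zf39) (kf xf8 yf10 zf34) (kf xf13 yf51 zf5) (kf xf20 yf32 zf30) (kf xf18 yf43 zf21) (kf xf20 yf32 zf34) (kf xf8 yf25 zf58) (kf xf15 yf23 zf42) (kf xf20 yf32 zf41) (kf xf20 yf31 zf0) (kf xf20 yf30 zf61) (kf xf16 yf13 zf16) (kf xf20 yf31 zf14) (kf xf5 yf54 zf25) (kf xf20 yf32 zf20) (kf xf12 yf9 zf46) (kf xf12 yf9 zf47) (kf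 xf12 yf9 zf18) (kf xf11 yf49 zf43) (kf xf5 yf54 zf30) (kf xf6 yf50 zf16) (kf xf11 yf8 zf36) (kf xf10 yf43 zf25) (kf xf10 yf43 zf26) (kf xf12 yf9 zf19) (kf xf12 yf9 zf21) (kf xf20 yf32 zf61) (kf xf5 yf54 zf38) (kf xf5 yf57 zf31)) (@D3.rec (fun _ => Pt) (kf xf11 yf48 zf12) (kf xf11 yf44 zf40) (kf xf20 yf33 zf1) (kf xf5 yf54 zf42) (kf xf18 yf23 zf19) (kf xf5 yf54 zf45) (kf xf12 yf28 zf18) (kf xf20 yf28 zf24) (kf xf9 yf22 zf12) (kf xf20 yf33 zf5) (kf xf15 yf4 zf40) (kf xf20 yf31 zf6) (kf xf20 yf33 zf12) (kf xf17 yf26 zf51) (kf xf7 yf36 zf16) (kf xf20 yf31 zf8) (kf xf20 yf33 zf20) (kf xf16 yf56 zf38) (kf xf20 yf33 zf22) (kf xf5 yf54 zf55) (kf xf6 yf16 zf34) (kf xf15 yf4 zf42) (kf xf7 yf33 zf51) (kf xf20 yf31 zf3) (kf xf20 yf33 zf30) (kf xf20 yf31 zf4) (kf xf9 yf26 zf15)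 (kf xf17 yf26 zf46) (kf xf5 yf55 zf0) (kf xf20 yf33 zf35) (kf xf8 yf12 zf38) (kf xf8 yf12 zf40) (kf xf7 yf41 zf36) (kf xf14 yf35 zf43) (kf xf20 yf33 zf44) (kf xf18 yf21 zf32) (kf xf5 yf55 zf3) (kf xf20 yf31 zf10) (kf xf13 yf10 zf38) (kf xf17 yf9 zf45) (kf xf5 yf55 zf5) (kf xf15 yf26 zf43) (kf xf20 yf33 zf52) (kf xf10 yf27 zf32) (kf xf10 yf27 zf33) (kf xf10 yf27 zf24) (kf xf10 yf27 zf34) (kf xf17 yf26 zf52) (kf xf18 yf43 zf22) (kf xf20 yf31 zf2) (kf xf20 yf34 zf4) (kf xf5 yf55 zf8) (kf xf9 yf22 zf13) (kf xf11 yf1 zf25) (kf xf11 yf1 zf29) (kf xf17 yf0 zf12) (kf xf11 yf49 zf18) (kf xf11 yf59 zf10) (kf xf11 yf49 zf17) (kf xf6 yf11 zf58) (kf xf5 yf55 zf14) (kf xf5 yf55 zf17)) (@D3.rec (fun _ => Pt) (kf xf10 yf17 zf21) (kf xf11 yf21 zf26) (kf xf5 yf55 zf21) (kf xf10 yf15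 zf30) (kf xf14 yf11 zf49) (kf xf14 yf29 zf18) (kf xf6 yf34 zf23) (kf xf10 yf27 zf26) (kf xf10 yf27 zf27) (kf xf20 yf34 zf18) (kf xf10 yf27 zf29) (kf xf10 yf27 zf30) (kf xf20 yf34 zf26) (kf xf11 yf2 zf2) (kf xf11 yf51 zf4) (kf xf12 yf31 zf13) (kf xf11 yf37 zf31) (kf xf19 yf48 zf22) (kf xf11 yf37 zf14) (kf xf20 yf34 zf29) (kf xf13 yf57 zf11) (kf xf9 yf47 zf50) (kf xf20 yf34 zf34) (kf xf16 yf30 zf61) (kf xf5 yf55 zf33) (kf xf14 yf35 zf45) (kf xf14 yf35 zf47) (kf xf17 yf50 zf32) (kf xf12 yf2 zf10) (kf xf12 yf37 zf42) (kf xf17 yf8 zf2) (kf xf11 yf50 zf2) (kf xf16 yf31 zf6) (kf xf16 yf59 zf23) (kf xf20 yf34 zf52) (kf xf5 yf55 zf40) (kf xf14 yf27 zf16) (kf xf12 yf40 zf37) (kf xf17 yf33 zf19) (kf xf17 yf58 zf6) (kf xf16 yf59 zf26) (kf xf16 yf59 zf25) (kf xf17 yf33 zf20) (kf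 xf10 yf44 zf52) (kf xf16 yf25 zf22) (kf xf20 yf14 zf17) (kf xf5 yf56 zf18) (kf xf5 yf56 zf17) (kf xf20 yf35 zf5) (kf xf5 yf55 zf48) (kf xf5 yf56 zf21) (kf xf5 yf56 zf22) (kf xf5 yf56 zf26) (kf xf5 yf56 zf25) (kf xf17 yf6 zf51) (kf xf5 yf55 zf53) (kf xf5 yf56 zf47) (kf xf5 yf56 zf46) (kf xf5 yf56 zf54) (kf xf20 yf20 zf18) (kf xf5 yf56 zf50) (kf xf5 yf56 zf51)) (@D3.rec (fun _ => Pt) (kf xf5 yf56 zf58) (kf xf5 yf56 zf57) (kf xf20 yf35 zf30) (kf xf5 yf55 zf56) (kf xf5 yf57 zf7) (kf xf5 yf57 zf3) (kf xf5 yf57 zf10) (kf xf5 yf57 zf9) (kf xf17 yf6 zf53) (kf xf17 yf6 zf54) (kf xf8 yf50 zf28) (kf xf20 yf35 zf47) (kf xf13 yf10 zf60) (kf xf8 yf49 zf52) (kf xf11 yf36 zf18) (kf xf20 yf6 zf55) (kf xf15 yf8 zf40) (kf xf5 yf56 zf2) (kf xf12 yf49 zf24) (kf xf16 yf23 zf57) (kf xf6 yf33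 zf57) (kf xf17 yf8 zf7) (kf xf8 yf51 zf18) (kf xf16 yf23 zf54) (kf xf20 yf35 zf57) (kf xf5 yf56 zf5) (kf xf15 yf8 zf51) (kf xf16 yf25 zf20) (kf xf17 yf3 zf44) (kf xf8 yf48 zf19) (kf xf8 yf49 zf17) (kf xf11 yf36 zf16) (kf xf12 yf22 zf2) (kf xf20 yf35 zf61) (kf xf11 yf18 zf55) (kf xf18 yf39 zf48) (kf xf12 yf6 zf56) (kf xf12 yf21 zf60) (kf xf20 yf36 zf11) (kf xf5 yf56 zf11) (kf xf12 yf23 zf11) (kf xf15 yf25 zf2) (kf xf6 yf40 zf28) (kf xf8 yf48 zf20) (kf xf20 yf36 zf15) (kf xf18 yf50 zf27) (kf xf16 yf0 zf10) (kf xf20 yf15 zf41) (kf xf20 yf36 zf21) (kf xf5 yf56 zf16) (kf xf20 yf35 zf0) (kf xf17 yf35 zf36) (kf xf20 yf35 zf1) (kf xf13 yf27 zf39) (kf xf11 yf18 zf32) (kf xf20 yf34 zf60) (kf xf20 yf36 zf35) (kf xf20 yf35 zf3) (kf xf20 yf8 zf43) (kf xf20 yf36 zf44) (kf xf5 yf56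 zf19) (kf xf20 yf35 zf6)) (@D3.rec (fun _ => Pt) (kf xf16 yf19 zf28) (kf xf20 yf35 zf7) (kf xf20 yf36 zf54) (kf xf9 yf6 zf13) (kf xf17 yf2 zf32) (kf xf20 yf36 zf59) (kf xf13 yf26 zf45) (kf xf20 yf35 zf10) (kf xf8 yf42 zf60) (kf xf20 yf37 zf7) (kf xf15 yf4 zf52) (kf xf20 yf35 zf8) (kf xf20 yf37 zf14) (kf xf20 yf35 zf12) (kf xf20 yf35 zf11) (kf xf20 yf37 zf23) (kf xf20 yf35 zf43) (kf xf5 yf56 zf27) (kf xf20 yf36 zf45) (kf xf12 yf1 zf16) (kf xf12 yf23 zf27) (kf xf20 yf37 zf31) (kf xf5 yf56 zf31) (kf xf12 yf23 zf31) (kf xf9 yf4 zf14) (kf xf11 yf29 zf7) (kf xf6 yf8 zf43) (kf xf5 yf56 zf34) (kf xf12 yf14 zf0) (kf xf20 yf37 zf37) (kf xf9 yf50 zf19) (kf xf12 yf23 zf19) (kf xf12 yf23 zf18) (kf xf20 yf37 zf46) (kf xf5 yf56 zf37) (kf xf12 yf23 zf22) (kf xf12 yf23 zf23) (kf xf20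 yf35 zf21) (kf xf10 yf17 zf14) (kf xf20 yf37 zf50) (kf xf5 yf56 zf39) (kf xf18 yf26 zf7) (kf xf20 yf37 zf53) (kf xf5 yf56 zf42) (kf xf20 yf37 zf56) (kf xf5 yf56 zf43) (kf xf20 yf35 zf17) (kf xf20 yf22 zf44) (kf xf20 yf35 zf18) (kf xf20 yf38 zf4) (kf xf12 yf39 zf35) (kf xf9 yf6 zf27) (kf xf20 yf35 zf15) (kf xf20 yf20 zf20) (kf xf17 yf3 zf34) (kf xf12 yf23 zf17) (kf xf12 yf2 zf19) (kf xf20 yf35 zf22) (kf xf20 yf38 zf17) (kf xf8 yf59 zf18) (kf xf20 yf35 zf23) (kf xf6 yf8 zf60)) (@D3.rec (fun _ => Pt) (kf xf9 yf13 zf4) (kf xf5 yf56 zf52) (kf xf8 yf59 zf12) (kf xf20 yf17 zf3) (kf xf18 yf17 zf19) (kf xf20 yf35 zf19) (kf xf20 yf20 zf17) (kf xf8 yf59 zf15) (kf xf8 yf58 zf56) (kf xf20 yf35 zf25) (kf xf16 yf43 zf33) (kf xf11 yf42 zf15) (kf xf20 yf35 zf24) (kf xf20 yf35 zf27)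 (kf xf20 yf35 zf26) (kf xf20 yf38 zf47) (kf xf5 yf56 zf59) (kf xf5 yf57 zf13) (kf xf9 yf8 zf32) (kf xf16 yf29 zf16) (kf xf20 yf38 zf53) (kf xf17 yf2 zf19) (kf xf17 yf2 zf20) (kf xf20 yf39 zf1) (kf xf16 yf55 zf55) (kf xf5 yf57 zf2) (kf xf15 yf4 zf49) (kf xf18 yf1 zf44) (kf xf20 yf28 zf23) (kf xf20 yf35 zf33) (kf xf16 yf51 zf10) (kf xf6 yf15 zf0) (kf xf20 yf35 zf31) (kf xf20 yf35 zf32) (kf xf15 yf3 zf47) (kf xf20 yf35 zf36) (kf xf19 yf33 zf51) (kf xf20 yf35 zf37) (kf xf19 yf31 zf42) (kf xf20 yf35 zf34) (kf xf20 yf35 zf35) (kf xf20 yf35 zf42) (kf xf20 yf35 zf41) (kf xf20 yf35 zf14) (kf xf20 yf39 zf42) (kf xf5 yf57 zf11) (kf xf20 yf38 zf48) (kf xf11 yf49 zf38) (kf xf17 yf6 zf56) (kf xf5 yf58 zf28) (kf xf5 yf59 zf5) (kf xf11 yf44 zf30) (kf xf17 yf2 zf14) (kf xf20 yf39 zf57)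 (kf xf17 yf32 zf40) (kf xf6 yf8 zf50) (kf xf5 yf57 zf17) (kf xf6 yf10 zf54) (kf xf17 yf2 zf11) (kf xf20 yf19 zf60) (kf xf8 yf58 zf50) (kf xf8 yf58 zf47)) (@D3.rec (fun _ => Pt) (kf xf5 yf59 zf8) (kf xf11 yf56 zf55) (kf xf14 yf21 zf42) (kf xf5 yf59 zf13) (kf xf15 yf22 zf34) (kf xf13 yf52 zf21) (kf xf17 yf2 zf18) (kf xf20 yf12 zf38) (kf xf17 yf59 zf3) (kf xf20 yf40 zf16) (kf xf6 yf1 zf1) (kf xf5 yf57 zf36) (kf xf11 yf40 zf36) (kf xf5 yf57 zf37) (kf xf11 yf42 zf5) (kf xf11 yf42 zf6) (kf xf11 yf42 zf7) (kf xf7 yf41 zf10) (kf xf20 yf40 zf21) (kf xf12 yf34 zf59) (kf xf11 yf40 zf42) (kf xf11 yf40 zf41) (kf xf11 yf40 zf44) (kf xf11 yf40 zf43) (kf xf10 yf4 zf49) (kf xf20 yf40 zf24) (kf xf11 yf47 zf6) (kf xf9 yf47 zf53) (kf xf9 yf49 zf7) (kf xf9 yf47 zf52) (kf xf9 yf50 zf18)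 (kf xf9 yf22 zf31) (kf xf12 yf53 zf34) (kf xf5 yf57 zf53) (kf xf9 yf47 zf45) (kf xf20 yf22 zf12) (kf xf11 yf40 zf12) (kf xf5 yf57 zf56) (kf xf14 yf12 zf31) (kf xf13 yf9 zf56) (kf xf14 yf11 zf30) (kf xf11 yf40 zf21) (kf xf11 yf40 zf20) (kf xf11 yf40 zf23) (kf xf11 yf40 zf22) (kf xf5 yf57 zf61) (kf xf5 yf58 zf1) (kf xf5 yf58 zf54) (kf xf11 yf58 zf4) (kf xf11 yf45 zf26) (kf xf20 yf40 zf37) (kf xf20 yf40 zf40) (kf xf6 yf8 zf40) (kf xf6 yf8 zf39) (kf xf7 yf43 zf25) (kf xf5 yf58 zf6) (kf xf6 yf8 zf48) (kf xf6 yf8 zf49) (kf xf6 yf8 zf44) (kf xf6 yf8 zf45) (kf xf6 yf8 zf8) (kf xf5 yf58 zf9)) (@D3.rec (fun _ => Pt) (kf xf13 yf6 zf36) (kf xf11 yf44 zf11) (kf xf17 yf9 zf49) (kf xf20 yf15 zf47) (kf xf20 yf40 zf51) (kf xf5 yf58 zf13) (kf xf20 yf15 zf44) (kf xf20 yf40 zf56) (kf xf5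 yf58 zf15) (kf xf5 yf58 zf18) (kf xf5 yf58 zf17) (kf xf12 yf1 zf57) (kf xf20 yf41 zf0) (kf xf12 yf35 zf11) (kf xf8 yf46 zf57) (kf xf18 yf57 zf25) (kf xf8 yf46 zf19) (kf xf8 yf46 zf11) (kf xf20 yf41 zf8) (kf xf5 yf58 zf19) (kf xf13 yf5 zf14) (kf xf17 yf31 zf8) (kf xf20 yf41 zf14) (kf xf17 yf6 zf48) (kf xf5 yf58 zf24) (kf xf20 yf41 zf17) (kf xf5 yf59 zf2) (kf xf5 yf59 zf1) (kf xf13 yf5 zf18) (kf xf5 yf58 zf27) (kf xf20 yf39 zf49) (kf xf10 yf15 zf25) (kf xf5 yf58 zf31) (kf xf5 yf59 zf16) (kf xf5 yf59 zf15) (kf xf20 yf29 zf10) (kf xf20 yf29 zf11) (kf xf6 yf1 zf17) (kf xf5 yf58 zf36) (kf xf5 yf58 zf42) (kf xf20 yf41 zf41) (kf xf5 yf58 zf37) (kf xf20 yf1 zf41) (kf xf13 yf41 zf23) (kf xf12 yf33 zf55) (kf xf7 yf1 zf31) (kf xf14 yf26 zf7) (kf xf20 yf41 zf51) (kf xf9 yf6 zf32)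 (kf xf9 yf6 zf28) (kf xf20 yf41 zf58) (kf xf5 yf58 zf41) (kf xf17 yf1 zf31) (kf xf20 yf41 zf38) (kf xf20 yf41 zf61) (kf xf10 yf59 zf53) (kf xf20 yf17 zf24) (kf xf20 yf41 zf39) (kf xf17 yf1 zf33) (kf xf20 yf42 zf5) (kf xf5 yf58 zf44) (kf xf10 yf45 zf17)) (@D3.rec (fun _ => Pt) (kf xf20 yf4 zf32) (kf xf20 yf42 zf12) (kf xf20 yf42 zf14) (kf xf5 yf58 zf49) (kf xf20 yf42 zf6) (kf xf11 yf40 zf14) (kf xf11 yf40 zf15) (kf xf11 yf40 zf16) (kf xf14 yf29 zf17) (kf xf20 yf28 zf31) (kf xf9 yf48 zf31) (kf xf19 yf27 zf56) (kf xf9 yf48 zf30) (kf xf16 yf48 zf20) (kf xf19 yf27 zf57) (kf xf11 yf39 zf11) (kf xf11 yf47 zf36) (kf xf20 yf28 zf39) (kf xf5 yf58 zf55) (kf xf9 yf48 zf44) (kf xf11 yf10 zf12) (kf xf11 yf47 zf27) (kf xf11 yf47 zf28) (kf xf7 yf33 zf60) (kf xf20 yf25 zf6) (kf xf14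 yf23 zf34) (kf xf14 yf26 zf8) (kf xf20 yf41 zf19) (kf xf20 yf41 zf18) (kf xf20 yf42 zf55) (kf xf5 yf59 zf0) (kf xf9 yf48 zf22) (kf xf20 yf41 zf24) (kf xf20 yf42 zf61) (kf xf20 yf41 zf21) (kf xf20 yf41 zf22) (kf xf20 yf17 zf15) (kf xf20 yf41 zf26) (kf xf20 yf41 zf25) (kf xf20 yf43 zf13) (kf xf5 yf59 zf3) (kf xf17 yf17 zf43) (kf xf20 yf39 zf50) (kf xf13 yf11 zf7) (kf xf10 yf59 zf2) (kf xf20 yf40 zf3) (kf xf20 yf41 zf29) (kf xf20 yf41 zf28) (kf xf20 yf43 zf27) (kf xf20 yf43 zf32) (kf xf5 yf59 zf9) (kf xf5 yf59 zf20) (kf xf7 yf52 zf16) (kf xf20 yf28 zf58) (kf xf20 yf43 zf39) (kf xf10 yf59 zf27) (kf xf16 yf59 zf22) (kf xf5 yf59 zf12) (kf xf7 yf52 zf25) (kf xf20 yf29 zf8) (kf xf15 yf54 zf39) (kf xf9 yf48 zf24)) (@D3.rec (fun _ => Pt) (kf xf20 yf41 zf34) (kf xf19 yf37 zf39)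 (kf xf20 yf41 zf32) (kf xf20 yf41 zf33) (kf xf17 yf43 zf11) (kf xf17 yf43 zf12) (kf xf20 yf43 zf56) (kf xf5 yf59 zf17) (kf xf11 yf48 zf1) (kf xf9 yf50 zf51) (kf xf11 yf47 zf34) (kf xf20 yf44 zf2) (kf xf5 yf59 zf18) (kf xf20 yf43 zf33) (kf xf20 yf29 zf13) (kf xf11 yf45 zf58) (kf xf20 yf44 zf11) (kf xf14 yf30 zf39) (kf xf17 yf17 zf53) (kf xf20 yf44 zf18) (kf xf5 yf59 zf22) (kf xf6 yf0 zf50) (kf xf6 yf0 zf49) (kf xf20 yf44 zf26) (kf xf5 yf59 zf23) (kf xf6 yf0 zf55) (kf xf6 yf0 zf57) (kf xf6 yf0 zf59) (kf xf6 yf0 zf58) (kf xf20 yf16 zf57) (kf xf5 yf59 zf25) (kf xf6 yf1 zf18) (kf xf6 yf1 zf19) (kf xf20 yf44 zf42) (kf xf6 yf1 zf21) (kf xf6 yf1 zf22) (kf xf7 yf53 zf4) (kf xf6 yf1 zf23) (kf xf5 yf59 zf30) (kf xf6 yf1 zf3) (kf xf12 yf30 zf50) (kf xf6 yf1 zf6) (kf xf6 yf1 zf7)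 (kf xf6 yf1 zf11) (kf xf5 yf59 zf40) (kf xf5 yf59 zf35) (kf xf9 yf49 zf51) (kf xf8 yf48 zf15) (kf xf14 yf34 zf53) (kf xf20 yf45 zf0) (kf xf9 yf49 zf20) (kf xf20 yf45 zf5) (kf xf5 yf59 zf38) (kf xf11 yf1 zf57) (kf xf12 yf43 zf22) (kf xf17 yf31 zf61) (kf xf16 yf48 zf26) (kf xf17 yf13 zf10) (kf xf5 yf59 zf41) (kf xf17 yf21 zf45) (kf xf17 yf20 zf43) (kf xf17 yf32 zf1)) (@D3.rec (fun _ => Pt) (kf xf20 yf23 zf47) (kf xf9 yf25 zf33) (kf xf17 yf26 zf45) (kf xf12 yf39 zf15) (kf xf20 yf44 zf52) (kf xf20 yf45 zf15) (kf xf20 yf45 zf19) (kf xf20 yf45 zf13) (kf xf12 yf42 zf13) (kf xf20 yf45 zf26) (kf xf5 yf59 zf50) (kf xf11 yf41 zf1) (kf xf11 yf19 zf2) (kf xf17 yf31 zf40) (kf xf17 yf31 zf39) (kf xf14 yf3 zf52) (kf xf5 yf59 zf53) (kf xf7 yf43 zf8) (kf xf13 yf3 zf3) (kf xf17 yf31 zf43)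 (kf xf17 yf31 zf42) (kf xf20 yf45 zf47) (kf xf5 yf59 zf55) (kf xf17 yf7 zf40) (kf xf17 yf7 zf39) (kf xf16 yf36 zf4) (kf xf17 yf7 zf41) (kf xf11 yf21 zf55) (kf xf12 yf30 zf29) (kf xf17 yf31 zf45) (kf xf11 yf39 zf51) (kf xf7 yf44 zf55) (kf xf6 yf0 zf5) (kf xf6 yf0 zf2) (kf xf7 yf36 zf13) (kf xf13 yf47 zf3) (kf xf12 yf33 zf7) (kf xf20 yf46 zf0) (kf xf10 yf36 zf51) (kf xf6 yf0 zf4) (kf xf11 yf35 zf1) (kf xf17 yf32 zf23) (kf xf17 yf7 zf49) (kf xf17 yf7 zf48) (kf xf20 yf44 zf43) (kf xf11 yf27 zf34) (kf xf17 yf21 zf24) (kf xf17 yf33 zf6) (kf xf17 yf21 zf25) (kf xf16 yf44 zf37) (kf xf6 yf0 zf11) (kf xf17 yf31 zf19) (kf xf13 yf24 zf28) (kf xf17 yf33 zf5) (kf xf6 yf0 zf12) (kf xf16 yf57 zf44) (kf xf9 yf49 zf39) (kf xf17 yf31 zf25) (kf xf17 yf32 zf30) (kf xf17 yf31 zf22) (kf xf17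 yf31 zf23) (kf xf13 yf1 zf50)) (@D3.rec (fun _ => Pt) (kf xf7 yf53 zf9) (kf xf19 yf40 zf31) (kf xf6 yf0 zf15) (kf xf14 yf33 zf34) (kf xf12 yf32 zf42) (kf xf17 yf7 zf57) (kf xf17 yf7 zf58) (kf xf17 yf19 zf41) (kf xf17 yf23 zf22) (kf xf10 yf0 zf9) (kf xf14 yf33 zf22) (kf xf6 yf49 zf49) (kf xf20 yf46 zf28) (kf xf12 yf17 zf22) (kf xf9 yf49 zf38) (kf xf18 yf50 zf46) (kf xf18 yf50 zf45) (kf xf6 yf0 zf25) (kf xf14 yf34 zf51) (kf xf12 yf45 zf27) (kf xf12 yf14 zf18) (kf xf11 yf34 zf11) (kf xf7 yf2 zf11) (kf xf14 yf6 zf36) (kf xf20 yf46 zf39) (kf xf6 yf0 zf32) (kf xf11 yf40 zf49) (kf xf20 yf46 zf42) (kf xf17 yf23 zf27) (kf xf10 yf20 zf53) (kf xf6 yf0 zf34) (kf xf17 yf23 zf30) (kf xf17 yf23 zf9) (kf xf20 yf46 zf53) (kf xf6 yf0 zf35) (kf xf12 yf10 zf18) (kf xf12 yf45 zf21) (kf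 xf17 yf23 zf61) (kf xf14 yf35 zf6) (kf xf20 yf26 zf7) (kf xf20 yf46 zf61) (kf xf14 yf20 zf20) (kf xf17 yf22 zf41) (kf xf20 yf47 zf6) (kf xf6 yf0 zf42) (kf xf15 yf55 zf30) (kf xf17 yf23 zf19) (kf xf20 yf47 zf11) (kf xf6 yf0 zf43) (kf xf6 yf56 zf23) (kf xf20 yf47 zf13) (kf xf6 yf0 zf44) (kf xf17 yf23 zf40) (kf xf17 yf23 zf39) (kf xf20 yf47 zf22) (kf xf6 yf0 zf46) (kf xf17 yf23 zf42) (kf xf17 yf23 zf43) (kf xf11 yf43 zf15) (kf xf18 yf14 zf3) (kf xf18 yf0 zf47) (kf xf18 yf0 zf46)) (@D3.rec (fun _ => Pt) (kf xf20 yf47 zf29) (kf xf6 yf0 zf48) (kf xf20 yf44 zf21) (kf xf18 yf36 zf45) (kf xf20 yf44 zf22) (kf xf20 yf47 zf41) (kf xf17 yf15 zf8) (kf xf20 yf44 zf19) (kf xf18 yf45 zf47) (kf xf20 yf44 zf24) (kf xf20 yf44 zf23) (kf xf20 yf47 zf57) (kf xf6 yf0 zf51) (kf xf6 yf56 zf40)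 (kf xf6 yf56 zf39) (kf xf6 yf56 zf42) (kf xf6 yf56 zf43) (kf xf6 yf56 zf44) (kf xf6 yf56 zf45) (kf xf6 yf57 zf15) (kf xf12 yf45 zf20) (kf xf15 yf5 zf24) (kf xf20 yf44 zf27) (kf xf15 yf5 zf22) (kf xf20 yf44 zf28) (kf xf14 yf37 zf54) (kf xf20 yf44 zf32) (kf xf17 yf11 zf22) (kf xf11 yf46 zf34) (kf xf20 yf44 zf30) (kf xf20 yf44 zf31) (kf xf13 yf10 zf40) (kf xf20 yf48 zf25) (kf xf20 yf44 zf34) (kf xf11 yf46 zf28) (kf xf20 yf48 zf32) (kf xf20 yf14 zf45) (kf xf6 yf0 zf60) (kf xf20 yf47 zf58) (kf xf9 yf50 zf6) (kf xf9 yf50 zf7) (kf xf12 yf39 zf9) (kf xf13 yf55 zf48) (kf xf13 yf55 zf44) (kf xf6 yf49 zf52) (kf xf6 yf1 zf4) (kf xf17 yf31 zf9) (kf xf17 yf31 zf11) (kf xf17 yf20 zf53) (kf xf20 yf44 zf53) (kf xf20 yf44 zf54) (kf xf13 yf5 zf43) (kf xf20 yf44 zf46) (kf xf13 yf12 zf13)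 (kf xf13 yf12 zf0) (kf xf13 yf12 zf31) (kf xf13 yf1 zf53) (kf xf13 yf5 zf44) (kf xf20 yf13 zf55) (kf xf16 yf47 zf22) (kf xf17 yf8 zf20) (kf xf9 yf9 zf11)) (@D3.rec (fun _ => Pt) (kf xf20 yf13 zf52) (kf xf20 yf44 zf49) (kf xf20 yf44 zf55) (kf xf20 yf44 zf56) (kf xf14 yf4 zf48) (kf xf14 yf33 zf31) (kf xf11 yf40 zf26) (kf xf11 yf26 zf3) (kf xf8 yf50 zf0) (kf xf17 yf7 zf46) (kf xf7 yf1 zf36) (kf xf20 yf44 zf37) (kf xf20 yf44 zf38) (kf xf20 yf19 zf12) (kf xf20 yf44 zf40) (kf xf17 yf8 zf23) (kf xf11 yf23 zf46) (kf xf8 yf49 zf61) (kf xf6 yf1 zf20) (kf xf6 yf43 zf29) (kf xf20 yf44 zf44) (kf xf20 yf44 zf45) (kf xf13 yf12 zf1) (kf xf20 yf44 zf50) (kf xf20 yf44 zf51) (kf xf13 yf27 zf44) (kf xf9 yf48 zf42) (kf xf11 yf42 zf21) (kf xf11 yf42 zf22) (kf xf20 yf49 zf35) (kf xf20 yf17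 zf57) (kf xf12 yf18 zf28) (kf xf6 yf1 zf28) (kf xf20 yf17 zf55) (kf xf11 yf43 zf10) (kf xf20 yf49 zf47) (kf xf11 yf42 zf16) (kf xf6 yf1 zf30) (kf xf9 yf48 zf40) (kf xf20 yf17 zf59) (kf xf20 yf17 zf60) (kf xf14 yf4 zf30) (kf xf14 yf4 zf28) (kf xf14 yf4 zf29) (kf xf11 yf29 zf32) (kf xf10 yf59 zf50) (kf xf20 yf18 zf0) (kf xf20 yf18 zf1) (kf xf20 yf50 zf7) (kf xf17 yf8 zf50) (kf xf20 yf14 zf59) (kf xf6 yf1 zf35) (kf xf20 yf18 zf3) (kf xf20 yf18 zf4) (kf xf12 yf49 zf20) (kf xf20 yf18 zf5) (kf xf20 yf18 zf6) (kf xf16 yf46 zf16) (kf xf19 yf26 zf15) (kf xf20 yf18 zf7) (kf xf20 yf18 zf8) (kf xf20 yf18 zf9)) (@D3.rec (fun _ => Pt) (kf xf17 yf58 zf23) (kf xf11 yf43 zf8) (kf xf20 yf50 zf40) (kf xf17 yf7 zf43) (kf xf20 yf8 zf38) (kf xf6 yf1 zf57) (kf xf6 yf1 zf53) (kf xf6 yf1 zf54)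 (kf xf19 yf51 zf47) (kf xf17 yf26 zf54) (kf xf17 yf12 zf27) (kf xf12 yf49 zf26) (kf xf11 yf35 zf0) (kf xf14 yf35 zf4) (kf xf9 yf23 zf58) (kf xf12 yf51 zf17) (kf xf12 yf44 zf13) (kf xf6 yf1 zf51) (kf xf17 yf31 zf31) (kf xf9 yf50 zf26) (kf xf20 yf19 zf44) (kf xf20 yf50 zf41) (kf xf17 yf7 zf42) (kf xf7 yf3 zf49) (kf xf9 yf4 zf52) (kf xf11 yf10 zf57) (kf xf20 yf50 zf42) (kf xf19 yf25 zf21) (kf xf17 yf7 zf47) (kf xf17 yf31 zf33) (kf xf7 yf48 zf26) (kf xf9 yf8 zf46) (kf xf20 yf50 zf44) (kf xf20 yf50 zf43) (kf xf20 yf51 zf4) (kf xf6 yf1 zf60) (kf xf6 yf16 zf43) (kf xf17 yf4 zf57) (kf xf8 yf59 zf20) (kf xf12 yf26 zf27) (kf xf10 yf57 zf47) (kf xf11 yf1 zf45) (kf xf6 yf12 zf32) (kf xf9 yf46 zf43) (kf xf11 yf21 zf57) (kf xf12 yf55 zf8) (kf xf16 yf47 zf59) (kf xf9 yf9 zf8) (kf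 xf6 yf36 zf44) (kf xf17 yf8 zf4) (kf xf17 yf51 zf33) (kf xf6 yf2 zf23) (kf xf20 yf51 zf21) (kf xf6 yf2 zf13) (kf xf6 yf2 zf31) (kf xf6 yf2 zf27) (kf xf6 yf35 zf1) (kf xf6 yf35 zf0) (kf xf17 yf8 zf6) (kf xf17 yf33 zf24) (kf xf6 yf36 zf24) (kf xf20 yf51 zf31)) (@D3.rec (fun _ => Pt) (kf xf9 yf49 zf11) (kf xf17 yf7 zf21) (kf xf20 yf37 zf38) (kf xf18 yf17 zf47) (kf xf6 yf41 zf14) (kf xf6 yf2 zf22) (kf xf20 yf51 zf18) (kf xf20 yf51 zf19) (kf xf17 yf33 zf28) (kf xf9 yf5 zf60) (kf xf17 yf8 zf13) (kf xf20 yf51 zf20) (kf xf17 yf52 zf32) (kf xf6 yf2 zf25) (kf xf15 yf5 zf12) (kf xf9 yf11 zf59) (kf xf14 yf35 zf60) (kf xf11 yf35 zf58) (kf xf11 yf35 zf56) (kf xf17 yf50 zf23) (kf xf20 yf51 zf22) (kf xf12 yf17 zf21) (kf xf17 yf7 zf54) (kf xf16 yf57 zf55) (kf xf17 yf6 zf5) (kf xf17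 yf5 zf13) (kf xf9 yf17 zf23) (kf xf17 yf5 zf14) (kf xf17 yf6 zf39) (kf xf8 yf14 zf54) (kf xf11 yf56 zf45) (kf xf6 yf45 zf0) (kf xf6 yf2 zf42) (kf xf11 yf28 zf50) (kf xf11 yf28 zf49) (kf xf17 yf10 zf3) (kf xf8 yf59 zf32) (kf xf20 yf51 zf56) (kf xf11 yf39 zf47) (kf xf6 yf2 zf46) (kf xf11 yf22 zf43) (kf xf6 yf16 zf56) (kf xf17 yf0 zf24) (kf xf11 yf34 zf51) (kf xf11 yf22 zf8) (kf xf17 yf6 zf17) (kf xf12 yf7 zf52) (kf xf9 yf8 zf48) (kf xf16 yf24 zf4) (kf xf13 yf38 zf38) (kf xf13 yf38 zf31) (kf xf9 yf49 zf27) (kf xf17 yf6 zf19) (kf xf6 yf45 zf51) (kf xf6 yf16 zf6) (kf xf6 yf26 zf9) (kf xf17 yf6 zf33) (kf xf17 yf8 zf21) (kf xf11 yf5 zf54) (kf xf11 yf26 zf60) (kf xf17 yf8 zf26) (kf xf17 yf8 zf27)) (@D3.rec (fun _ => Pt) (kf xf17 yf8 zf28) (kf xf12 yf40 zf45) (kf xf11 yf36 zf31)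 (kf xf17 yf8 zf3) (kf xf17 yf8 zf5) (kf xf6 yf10 zf25) (kf xf9 yf5 zf53) (kf xf16 yf23 zf53) (kf xf17 yf8 zf8) (kf xf17 yf8 zf9) (kf xf17 yf8 zf10) (kf xf20 yf36 zf2) (kf xf17 yf8 zf15) (kf xf11 yf22 zf29) (kf xf17 yf8 zf16) (kf xf16 yf48 zf4) (kf xf9 yf26 zf41) (kf xf17 yf8 zf17) (kf xf11 yf27 zf49) (kf xf17 yf8 zf18) (kf xf20 yf9 zf33) (kf xf18 yf42 zf57) (kf xf11 yf1 zf52) (kf xf6 yf45 zf21) (kf xf9 yf7 zf30) (kf xf9 yf7 zf31) (kf xf11 yf27 zf50) (kf xf11 yf27 zf51) (kf xf11 yf27 zf48) (kf xf9 yf5 zf42) (kf xf6 yf26 zf2) (kf xf17 yf8 zf30) (kf xf13 yf42 zf50) (kf xf20 yf52 zf50) (kf xf15 yf4 zf59) (kf xf12 yf10 zf8) (kf xf19 yf32 zf31) (kf xf13 yf23 zf28) (kf xf20 yf52 zf56) (kf xf20 yf30 zf26) (kf xf20 yf30 zf25) (kf xf6 yf3 zf28) (kf xf11 yf31 zf43) (kf xf6 yf56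 zf27) (kf xf13 yf9 zf24) (kf xf12 yf17 zf18) (kf xf14 yf47 zf36) (kf xf20 yf53 zf0) (kf xf11 yf31 zf35) (kf xf11 yf31 zf32) (kf xf6 yf3 zf37) (kf xf6 yf45 zf27) (kf xf11 yf32 zf4) (kf xf20 yf53 zf6) (kf xf20 yf30 zf31) (kf xf20 yf30 zf30) (kf xf6 yf3 zf42) (kf xf13 yf46 zf4) (kf xf13 yf46 zf3) (kf xf14 yf52 zf39) (kf xf20 yf53 zf17) (kf xf12 yf28 zf9)) (@D3.rec (fun _ => Pt) (kf xf18 yf38 zf25) (kf xf6 yf3 zf44) (kf xf17 yf7 zf2) (kf xf12 yf15 zf19) (kf xf11 yf36 zf14) (kf xf17 yf8 zf43) (kf xf17 yf8 zf38) (kf xf11 yf29 zf28) (kf xf7 yf50 zf46) (kf xf14 yf6 zf26) (kf xf10 yf58 zf21) (kf xf14 yf47 zf11) (kf xf20 yf53 zf31) (kf xf17 yf8 zf49) (kf xf6 yf3 zf51) (kf xf9 yf43 zf4) (kf xf12 yf4 zf5) (kf xf17 yf3 zf33) (kf xf12 yf4 zf4) (kf xf17 yf8 zf56) (kf xf15 yf25 zf48)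 (kf xf17 yf8 zf57) (kf xf17 yf8 zf58) (kf xf20 yf53 zf45) (kf xf18 yf50 zf52) (kf xf6 yf3 zf56) (kf xf17 yf8 zf51) (kf xf8 yf11 zf44) (kf xf17 yf8 zf52) (kf xf20 yf20 zf42) (kf xf20 yf20 zf43) (kf xf20 yf20 zf44) (kf xf12 yf53 zf46) (kf xf14 yf25 zf24) (kf xf14 yf45 zf58) (kf xf20 yf54 zf0) (kf xf9 yf14 zf39) (kf xf9 yf14 zf37) (kf xf9 yf14 zf38) (kf xf9 yf12 zf45) (kf xf12 yf56 zf15) (kf xf11 yf22 zf57) (kf xf11 yf22 zf56) (kf xf16 yf58 zf8) (kf xf16 yf58 zf9) (kf xf20 yf54 zf20) (kf xf16 yf59 zf2) (kf xf16 yf59 zf1) (kf xf6 yf4 zf3) (kf xf10 yf35 zf10) (kf xf17 yf9 zf2) (kf xf12 yf18 zf25) (kf xf12 yf51 zf10) (kf xf6 yf17 zf9) (kf xf9 yf51 zf11) (kf xf20 yf54 zf35) (kf xf9 yf51 zf9) (kf xf9 yf51 zf8) (kf xf6 yf4 zf12) (kf xf11 yf25 zf12) (kf xf8 yf41 zf56) (kf xf9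 yf37 zf53)) (@D3.rec (fun _ => Pt) (kf xf16 yf5 zf39) (kf xf8 yf19 zf23) (kf xf10 yf38 zf40) (kf xf20 yf54 zf49) (kf xf7 yf50 zf4) (kf xf20 yf54 zf52) (kf xf15 yf43 zf19) (kf xf15 yf43 zf20) (kf xf15 yf43 zf21) (kf xf15 yf43 zf22) (kf xf10 yf38 zf31) (kf xf14 yf46 zf40) (kf xf6 yf4 zf39) (kf xf6 yf4 zf38) (kf xf6 yf4 zf50) (kf xf6 yf4 zf51) (kf xf6 yf4 zf40) (kf xf19 yf54 zf55) (kf xf6 yf4 zf54) (kf xf6 yf4 zf25) (kf xf6 yf5 zf3) (kf xf20 yf55 zf12) (kf xf6 yf4 zf61) (kf xf6 yf4 zf27) (kf xf6 yf5 zf12) (kf xf6 yf5 zf13) (kf xf20 yf55 zf20) (kf xf6 yf5 zf9) (kf xf6 yf5 zf10) (kf xf20 yf55 zf23) (kf xf20 yf55 zf30) (kf xf20 yf55 zf25) (kf xf20 yf55 zf24) (kf xf15 yf29 zf25) (kf xf6 yf4 zf30) (kf xf6 yf5 zf21) (kf xf6 yf5 zf20) (kf xf20 yf55 zf46) (kf xf8 yf53 zf15) (kf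 xf8 yf13 zf17) (kf xf8 yf13 zf61) (kf xf19 yf58 zf17) (kf xf10 yf43 zf10) (kf xf6 yf4 zf35) (kf xf15 yf16 zf21) (kf xf20 yf55 zf56) (kf xf10 yf1 zf13) (kf xf6 yf4 zf37) (kf xf18 yf18 zf18) (kf xf20 yf55 zf60) (kf xf20 yf54 zf59) (kf xf8 yf54 zf1) (kf xf8 yf38 zf34) (kf xf10 yf37 zf11) (kf xf20 yf56 zf8) (kf xf10 yf40 zf15) (kf xf10 yf40 zf14) (kf xf14 yf39 zf3) (kf xf6 yf4 zf41) (kf xf10 yf40 zf12) (kf xf10 yf40 zf11) (kf xf8 yf6 zf34)) (@D3.rec (fun _ => Pt) (kf xf11 yf5 zf14) (kf xf20 yf54 zf61) (kf xf20 yf55 zf0) (kf xf20 yf55 zf1) (kf xf20 yf56 zf25) (kf xf20 yf56 zf29) (kf xf8 yf53 zf35) (kf xf20 yf56 zf35) (kf xf6 yf4 zf52) (kf xf8 yf53 zf29) (kf xf20 yf55 zf5) (kf xf20 yf56 zf43) (kf xf10 yf44 zf9) (kf xf15 yf56 zf5) (kf xf6 yf4 zf57) (kf xf8 yf38 zf33) (kf xf8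 yf54 zf15) (kf xf10 yf37 zf10) (kf xf20 yf55 zf10) (kf xf20 yf55 zf9) (kf xf20 yf56 zf59) (kf xf6 yf4 zf60) (kf xf20 yf55 zf13) (kf xf16 yf2 zf42) (kf xf10 yf44 zf26) (kf xf8 yf54 zf46) (kf xf8 yf6 zf59) (kf xf8 yf6 zf58) (kf xf6 yf5 zf2) (kf xf20 yf55 zf6) (kf xf20 yf55 zf7) (kf xf11 yf53 zf32) (kf xf11 yf53 zf31) (kf xf20 yf57 zf10) (kf xf20 yf57 zf14) (kf xf10 yf37 zf5) (kf xf10 yf37 zf4) (kf xf20 yf57 zf20) (kf xf6 yf5 zf5) (kf xf10 yf37 zf3) (kf xf8 yf54 zf33) (kf xf10 yf37 zf1) (kf xf12 yf54 zf29) (kf xf12 yf54 zf15) (kf xf11 yf54 zf1) (kf xf20 yf57 zf33) (kf xf10 yf29 zf40) (kf xf20 yf57 zf38) (kf xf19 yf31 zf60) (kf xf6 yf5 zf11) (kf xf20 yf55 zf14) (kf xf20 yf55 zf15) (kf xf20 yf55 zf16) (kf xf8 yf11 zf26) (kf xf20 yf55 zf17) (kf xf20 yf57 zf52) (kf xf20 yf57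 zf56) (kf xf19 yf34 zf42) (kf xf6 yf5 zf14) (kf xf6 yf5 zf17) (kf xf6 yf5 zf16) (kf xf16 yf11 zf33)) (@D3.rec (fun _ => Pt) (kf xf20 yf36 zf46) (kf xf11 yf53 zf44) (kf xf20 yf58 zf5) (kf xf6 yf5 zf15) (kf xf8 yf14 zf29) (kf xf17 yf6 zf58) (kf xf20 yf57 zf58) (kf xf20 yf58 zf6) (kf xf15 yf27 zf47) (kf xf20 yf58 zf17) (kf xf20 yf58 zf19) (kf xf6 yf5 zf18) (kf xf8 yf55 zf22) (kf xf12 yf54 zf12) (kf xf20 yf58 zf25) (kf xf20 yf55 zf41) (kf xf20 yf58 zf31) (kf xf15 yf27 zf38) (kf xf20 yf58 zf37) (kf xf20 yf55 zf45) (kf xf20 yf55 zf44) (kf xf6 yf5 zf23) (kf xf20 yf58 zf43) (kf xf8 yf55 zf33) (kf xf8 yf55 zf34) (kf xf8 yf55 zf35) (kf xf8 yf55 zf36) (kf xf8 yf55 zf37) (kf xf8 yf34 zf34) (kf xf8 yf55 zf40) (kf xf8 yf55 zf41) (kf xf10 yf43 zf31) (kf xf10 yf51 zf39) (kf xf10 yf43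 zf34) (kf xf9 yf30 zf58) (kf xf9 yf30 zf46) (kf xf10 yf43 zf37) (kf xf10 yf43 zf38) (kf xf20 yf59 zf15) (kf xf15 yf31 zf13) (kf xf15 yf31 zf12) (kf xf17 yf27 zf46) (kf xf6 yf5 zf32) (kf xf15 yf31 zf17) (kf xf15 yf31 zf16) (kf xf10 yf11 zf13) (kf xf10 yf43 zf44) (kf xf10 yf43 zf45) (kf xf10 yf52 zf50) (kf xf6 yf51 zf8) (kf xf10 yf43 zf48) (kf xf6 yf50 zf21) (kf xf10 yf43 zf50) (kf xf10 yf43 zf51) (kf xf10 yf33 zf33) (kf xf10 yf7 zf21) (kf xf10 yf32 zf12) (kf xf10 yf9 zf55) (kf xf15 yf36 zf49) (kf xf6 yf5 zf43) (kf xf10 yf42 zf54) (kf xf10 yf42 zf59)) (@D3.rec (fun _ => Pt) (kf xf10 yf42 zf61) (kf xf10 yf43 zf0) (kf xf10 yf43 zf1) (kf xf10 yf43 zf2) (kf xf19 yf58 zf42) (kf xf10 yf43 zf4) (kf xf8 yf26 zf30) (kf xf9 yf22 zf24) (kf xf8 yf56 zf30) (kf xf21 yf0 zf0) (kf xf6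 yf5 zf50) (kf xf8 yf56 zf28) (kf xf10 yf43 zf17) (kf xf10 yf43 zf20) (kf xf10 yf43 zf21) (kf xf16 yf53 zf45) (kf xf10 yf49 zf36) (kf xf8 yf56 zf45) (kf xf8 yf56 zf9) (kf xf8 yf56 zf10) (kf xf10 yf23 zf37) (kf xf8 yf57 zf0) (kf xf10 yf44 zf34) (kf xf10 yf44 zf35) (kf xf11 yf32 zf15) (kf xf17 yf37 zf14) (kf xf15 yf31 zf25) (kf xf10 yf56 zf40) (kf xf15 yf51 zf29) (kf xf6 yf6 zf0) (kf xf8 yf6 zf53) (kf xf15 yf31 zf28) (kf xf8 yf20 zf7) (kf xf10 yf33 zf42) (kf xf10 yf56 zf51) (kf xf10 yf51 zf56) (kf xf10 yf44 zf46) (kf xf9 yf31 zf6) (kf xf8 yf57 zf21) (kf xf9 yf31 zf7) (kf xf9 yf47 zf37) (kf xf9 yf48 zf41) (kf xf11 yf32 zf16) (kf xf10 yf57 zf23) (kf xf11 yf10 zf60) (kf xf9 yf0 zf15) (kf xf9 yf46 zf51) (kf xf10 yf44 zf22) (kf xf9 yf32 zf29) (kf xf11 yf11 zf0) (kf xf10 yf34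 zf0) (kf xf8 yf23 zf50) (kf xf8 yf23 zf53) (kf xf10 yf43 zf57) (kf xf8 yf26 zf29) (kf xf8 yf27 zf14) (kf xf10 yf43 zf59) (kf xf10 yf43 zf60) (kf xf10 yf43 zf61) (kf xf12 yf34 zf9) (kf xf19 yf30 zf59) (kf xf6 yf6 zf20)) (@D3.rec (fun _ => Pt) (kf xf10 yf54 zf17) (kf xf10 yf53 zf38) (kf xf15 yf56 zf18) (kf xf9 yf50 zf39) (kf xf10 yf44 zf12) (kf xf10 yf44 zf14) (kf xf10 yf44 zf15) (kf xf8 yf58 zf3) (kf xf10 yf34 zf12) (kf xf10 yf45 zf1) (kf xf10 yf45 zf2) (kf xf10 yf45 zf3) (kf xf10 yf45 zf5) (kf xf10 yf45 zf6) (kf xf10 yf45 zf7) (kf xf10 yf45 zf8) (kf xf16 yf59 zf21) (kf xf11 yf16 zf45) (kf xf9 yf20 zf4) (kf xf10 yf44 zf49) (kf xf10 yf44 zf50) (kf xf10 yf44 zf54) (kf xf10 yf44 zf55) (kf xf10 yf44 zf56) (kf xf8 yf58 zf52) (kf xf6 yf6 zf44) (kf xf6 yf45 zf8) (kf xf6 yf45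 zf9) (kf xf6 yf45 zf10) (kf xf6 yf45 zf11) (kf xf16 yf55 zf56) (kf xf20 yf56 zf49) (kf xf21 yf1 zf17) (kf xf17 yf9 zf38) (kf xf17 yf2 zf13) (kf xf17 yf0 zf13) (kf xf17 yf9 zf48) (kf xf17 yf3 zf16) (kf xf17 yf9 zf37) (kf xf17 yf9 zf39) (kf xf17 yf10 zf5) (kf xf12 yf53 zf52) (kf xf8 yf59 zf30) (kf xf8 yf59 zf31) (kf xf6 yf8 zf13) (kf xf11 yf49 zf30) (kf xf10 yf45 zf51) (kf xf11 yf5 zf32) (kf xf15 yf29 zf45) (kf xf11 yf9 zf19) (kf xf15 yf29 zf46) (kf xf15 yf29 zf48) (kf xf15 yf29 zf49) (kf xf15 yf29 zf50) (kf xf15 yf29 zf51) (kf xf11 yf40 zf1) (kf xf21 yf1 zf56) (kf xf15 yf52 zf38) (kf xf15 yf52 zf37) (kf xf21 yf1 zf61) (kf xf6 yf6 zf61) (kf xf10 yf19 zf61)) (@D3.rec (fun _ => Pt) (kf xf15 yf16 zf17) (kf xf14 yf38 zf58) (kf xf15 yf16 zf16) (kf xf8 yf9 zf55) (kf xf15 yf29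 zf55) (kf xf11 yf10 zf17) (kf xf15 yf29 zf56) (kf xf15 yf29 zf57) (kf xf15 yf28 zf12) (kf xf7 yf58 zf24) (kf xf8 yf11 zf14) (kf xf11 yf5 zf58) (kf xf9 yf0 zf6) (kf xf15 yf29 zf38) (kf xf15 yf29 zf39) (kf xf12 yf54 zf52) (kf xf15 yf29 zf40) (kf xf21 yf2 zf21) (kf xf21 yf2 zf23) (kf xf9 yf0 zf43) (kf xf21 yf2 zf29) (kf xf6 yf7 zf14) (kf xf12 yf54 zf46) (kf xf9 yf1 zf6) (kf xf11 yf5 zf55) (kf xf9 yf1 zf1) (kf xf11 yf57 zf57) (kf xf6 yf7 zf19) (kf xf8 yf10 zf54) (kf xf8 yf11 zf22) (kf xf8 yf59 zf57) (kf xf15 yf30 zf45) (kf xf9 yf44 zf21) (kf xf9 yf44 zf22) (kf xf6 yf24 zf26) (kf xf11 yf8 zf29) (kf xf9 yf19 zf45) (kf xf20 yf32 zf57) (kf xf11 yf28 zf42) (kf xf9 yf19 zf25) (kf xf8 yf10 zf38) (kf xf21 yf2 zf45) (kf xf6 yf51 zf11) (kf xf20 yf26 zf12) (kf xf11 yf22 zf10) (kf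 xf9 yf9 zf52) (kf xf15 yf10 zf17) (kf xf21 yf2 zf52) (kf xf8 yf43 zf0) (kf xf15 yf26 zf13) (kf xf15 yf26 zf15) (kf xf18 yf21 zf5) (kf xf6 yf50 zf5) (kf xf16 yf46 zf25) (kf xf6 yf7 zf44) (kf xf9 yf12 zf42) (kf xf15 yf26 zf16) (kf xf11 yf57 zf26) (kf xf7 yf26 zf51) (kf xf12 yf30 zf24) (kf xf18 yf23 zf29) (kf xf21 yf3 zf3)) (@D3.rec (fun _ => Pt) (kf xf20 yf4 zf31) (kf xf16 yf47 zf30) (kf xf6 yf7 zf57) (kf xf21 yf3 zf7) (kf xf11 yf40 zf48) (kf xf15 yf26 zf12) (kf xf6 yf8 zf1) (kf xf17 yf57 zf44) (kf xf10 yf45 zf40) (kf xf7 yf27 zf26) (kf xf10 yf45 zf35) (kf xf10 yf45 zf41) (kf xf12 yf29 zf18) (kf xf9 yf48 zf6) (kf xf10 yf57 zf0) (kf xf6 yf8 zf5) (kf xf21 yf3 zf15) (kf xf20 yf23 zf0) (kf xf6 yf8 zf10) (kf xf20 yf40 zf23) (kf xf20 yf40 zf22) (kf xf15 yf26 zf9) (kf xf11 yf16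 zf31) (kf xf14 yf52 zf45) (kf xf6 yf55 zf25) (kf xf12 yf29 zf23) (kf xf10 yf48 zf36) (kf xf15 yf26 zf11) (kf xf10 yf45 zf37) (kf xf10 yf45 zf38) (kf xf10 yf45 zf39) (kf xf9 yf13 zf31) (kf xf9 yf19 zf52) (kf xf18 yf42 zf18) (kf xf6 yf8 zf22) (kf xf6 yf26 zf1) (kf xf6 yf13 zf0) (kf xf17 yf9 zf52) (kf xf17 yf9 zf53) (kf xf17 yf9 zf51) (kf xf18 yf23 zf30) (kf xf6 yf51 zf57) (kf xf13 yf16 zf37) (kf xf13 yf16 zf36) (kf xf17 yf11 zf16) (kf xf21 yf3 zf31) (kf xf20 yf40 zf38) (kf xf20 yf31 zf60) (kf xf21 yf3 zf37) (kf xf6 yf8 zf38) (kf xf13 yf20 zf44) (kf xf14 yf33 zf24) (kf xf20 yf34 zf10) (kf xf14 yf33 zf23) (kf xf13 yf10 zf17) (kf xf7 yf42 zf55) (kf xf21 yf3 zf45) (kf xf6 yf8 zf41) (kf xf11 yf30 zf34) (kf xf20 yf40 zf43) (kf xf10 yf40 zf22) (kf xf20 yf22 zf60)) (@D3.rec (fun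 _ => Pt) (kf xf20 yf39 zf59) (kf xf14 yf26 zf19) (kf xf20 yf40 zf42) (kf xf14 yf52 zf48) (kf xf12 yf50 zf7) (kf xf18 yf22 zf40) (kf xf17 yf55 zf3) (kf xf14 yf3 zf5) (kf xf17 yf10 zf7) (kf xf20 yf38 zf3) (kf xf11 yf35 zf57) (kf xf17 yf10 zf8) (kf xf10 yf4 zf25) (kf xf9 yf6 zf4) (kf xf11 yf23 zf52) (kf xf11 yf14 zf46) (kf xf11 yf6 zf18) (kf xf11 yf14 zf61) (kf xf17 yf59 zf40) (kf xf11 yf23 zf59) (kf xf6 yf9 zf7) (kf xf20 yf6 zf61) (kf xf20 yf7 zf0) (kf xf20 yf7 zf1) (kf xf10 yf58 zf14) (kf xf12 yf20 zf53) (kf xf9 yf0 zf20) (kf xf9 yf0 zf19) (kf xf6 yf9 zf10) (kf xf8 yf48 zf34) (kf xf12 yf8 zf9) (kf xf8 yf48 zf31) (kf xf8 yf48 zf32) (kf xf16 yf33 zf3) (kf xf8 yf48 zf37) (kf xf8 yf48 zf36) (kf xf19 yf37 zf50) (kf xf6 yf9 zf13) (kf xf21 yf4 zf23) (kf xf10 yf24 zf27) (kf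 xf21 yf4 zf19) (kf xf6 yf31 zf4) (kf xf14 yf2 zf47) (kf xf12 yf13 zf48) (kf xf12 yf13 zf49) (kf xf6 yf9 zf24) (kf xf12 yf58 zf51) (kf xf12 yf58 zf52) (kf xf10 yf29 zf23) (kf xf12 yf21 zf48) (kf xf7 yf20 zf13) (kf xf13 yf1 zf12) (kf xf17 yf35 zf15) (kf xf12 yf20 zf13) (kf xf16 yf14 zf39) (kf xf17 yf35 zf16) (kf xf6 yf54 zf15) (kf xf12 yf58 zf56) (kf xf21 yf4 zf40) (kf xf17 yf13 zf37) (kf xf17 yf35 zf18) (kf xf12 yf42 zf36))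
def f_f_12 : D2 → D3 → Pt := @D2.rec (fun _ => D3 → Pt) (@D3.rec (fun _ => Pt) (kf xf17 yf35 zf19) (kf xf17 yf35 zf20) (kf xf7 yf31 zf46) (kf xf6 yf28 zf18) (kf xf6 yf9 zf31) (kf xf6 yf32 zf52) (kf xf6 yf33 zf5) (kf xf6 yf33 zf6) (kf xf12 yf33 zf18) (kf xf12 yf0 zf29) (kf xf9 yf20 zf56) (kf xf9 yf20 zf57) (kf xf12 yf13 zf47) (kf xf12 yf21 zf4) (kf xf12 yf21 zf7) (kf xf9 yf19 zf17) (kf xf9 yf19 zf18) (kf xf12 yf12 zf22) (kf xf12 yf59 zf6) (kf xf12 yf59 zf7) (kf xf12 yf59 zf9) (kf xf12 yf59 zf10) (kf xf15 yf16 zf28) (kf xf12 yf59 zf11) (kf xf12 yf59 zf13) (kf xf12 yf27 zf21) (kf xf12 yf59 zf14) (kf xf12 yf59 zf15) (kf xf10 yf56 zf28) (kf xf12 yf0 zf9) (kf xf21 yf5 zf36) (kf xf12 yf59 zf21) (kf xf21 yf5 zf41) (kf xf12 yf59 zf23) (kf xf12 yf59 zf24) (kf xf18 yf20 zf56)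 (kf xf6 yf10 zf8) (kf xf6 yf10 zf9) (kf xf21 yf5 zf52) (kf xf6 yf11 zf13) (kf xf18 yf35 zf58) (kf xf6 yf9 zf49) (kf xf6 yf11 zf38) (kf xf12 yf39 zf0) (kf xf6 yf33 zf51) (kf xf7 yf11 zf40) (kf xf12 yf12 zf31) (kf xf12 yf27 zf9) (kf xf12 yf27 zf10) (kf xf12 yf21 zf19) (kf xf12 yf24 zf30) (kf xf12 yf1 zf6) (kf xf21 yf6 zf15) (kf xf21 yf6 zf10) (kf xf16 yf6 zf2) (kf xf13 yf51 zf36) (kf xf6 yf10 zf1) (kf xf7 yf33 zf52) (kf xf12 yf48 zf12) (kf xf21 yf6 zf28) (kf xf12 yf48 zf11) (kf xf17 yf14 zf14)) (@D3.rec (fun _ => Pt) (kf xf12 yf48 zf9) (kf xf8 yf33 zf12) (kf xf8 yf33 zf13) (kf xf8 yf32 zf46) (kf xf8 yf33 zf14) (kf xf7 yf31 zf2) (kf xf12 yf0 zf51) (kf xf21 yf6 zf48) (kf xf12 yf31 zf28) (kf xf17 yf18 zf29) (kf xf13 yf9 zf58) (kf xf10 yf7 zf8) (kf xf7 yf32 zf2) (kf xf14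 yf23 zf29) (kf xf7 yf2 zf8) (kf xf18 yf36 zf46) (kf xf11 yf38 zf19) (kf xf18 yf37 zf44) (kf xf6 yf10 zf12) (kf xf6 yf11 zf1) (kf xf6 yf10 zf13) (kf xf12 yf23 zf55) (kf xf6 yf11 zf29) (kf xf6 yf11 zf30) (kf xf12 yf29 zf37) (kf xf6 yf10 zf38) (kf xf6 yf10 zf19) (kf xf6 yf11 zf20) (kf xf6 yf18 zf28) (kf xf6 yf33 zf55) (kf xf6 yf33 zf56) (kf xf20 yf52 zf14) (kf xf6 yf34 zf50) (kf xf6 yf34 zf51) (kf xf6 yf34 zf52) (kf xf18 yf49 zf47) (kf xf20 yf46 zf32) (kf xf21 yf7 zf1) (kf xf21 yf7 zf2) (kf xf21 yf7 zf0) (kf xf17 yf3 zf52) (kf xf21 yf7 zf8) (kf xf6 yf10 zf33) (kf xf21 yf7 zf10) (kf xf6 yf10 zf34) (kf xf6 yf34 zf42) (kf xf6 yf34 zf41) (kf xf12 yf35 zf54) (kf xf6 yf10 zf35) (kf xf6 yf34 zf44) (kf xf6 yf34 zf45) (kf xf18 yf38 zf19) (kf xf7 yf31 zf36) (kf xf7 yf31 zf37) (kf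 xf7 yf31 zf39) (kf xf7 yf31 zf40) (kf xf12 yf12 zf44) (kf xf11 yf41 zf11) (kf xf6 yf39 zf41) (kf xf6 yf39 zf40) (kf xf21 yf7 zf23) (kf xf6 yf10 zf45)) (@D3.rec (fun _ => Pt) (kf xf6 yf33 zf53) (kf xf12 yf14 zf49) (kf xf12 yf14 zf48) (kf xf6 yf39 zf37) (kf xf6 yf39 zf36) (kf xf21 yf7 zf31) (kf xf6 yf10 zf48) (kf xf7 yf31 zf47) (kf xf14 yf12 zf15) (kf xf9 yf48 zf28) (kf xf11 yf36 zf28) (kf xf20 yf34 zf31) (kf xf20 yf39 zf60) (kf xf21 yf7 zf40) (kf xf6 yf10 zf60) (kf xf9 yf59 zf58) (kf xf6 yf10 zf56) (kf xf21 yf7 zf42) (kf xf21 yf7 zf38) (kf xf11 yf38 zf56) (kf xf18 yf35 zf47) (kf xf6 yf10 zf58) (kf xf18 yf32 zf0) (kf xf17 yf6 zf11) (kf xf18 yf43 zf45) (kf xf18 yf41 zf39) (kf xf20 yf34 zf12) (kf xf9 yf59 zf59) (kf xf21 yf6 zf55) (kf xf12 yf45 zf42) (kf xf12 yf28 zf42)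 (kf xf21 yf7 zf53) (kf xf18 yf35 zf53) (kf xf18 yf35 zf51) (kf xf17 yf17 zf7) (kf xf21 yf8 zf2) (kf xf6 yf29 zf61) (kf xf6 yf32 zf37) (kf xf6 yf40 zf40) (kf xf6 yf11 zf8) (kf xf6 yf33 zf38) (kf xf12 yf4 zf51) (kf xf16 yf35 zf58) (kf xf6 yf11 zf15) (kf xf12 yf16 zf44) (kf xf12 yf16 zf43) (kf xf6 yf29 zf29) (kf xf18 yf38 zf28) (kf xf17 yf16 zf40) (kf xf21 yf8 zf3) (kf xf6 yf33 zf21) (kf xf12 yf29 zf2) (kf xf14 yf11 zf55) (kf xf6 yf34 zf15) (kf xf6 yf49 zf5) (kf xf18 yf41 zf41) (kf xf6 yf34 zf40) (kf xf6 yf11 zf21) (kf xf12 yf14 zf51) (kf xf6 yf34 zf60) (kf xf18 yf33 zf38) (kf xf21 yf8 zf14)) (@D3.rec (fun _ => Pt) (kf xf18 yf41 zf42) (kf xf21 yf8 zf18) (kf xf6 yf18 zf15) (kf xf21 yf8 zf20) (kf xf6 yf11 zf31) (kf xf12 yf28 zf60) (kf xf12 yf28 zf61) (kf xf17 yf29 zf21)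 (kf xf6 yf11 zf43) (kf xf12 yf16 zf53) (kf xf12 yf16 zf60) (kf xf12 yf23 zf54) (kf xf9 yf49 zf54) (kf xf9 yf49 zf52) (kf xf12 yf29 zf0) (kf xf12 yf16 zf59) (kf xf6 yf24 zf10) (kf xf12 yf16 zf45) (kf xf12 yf12 zf30) (kf xf21 yf8 zf23) (kf xf21 yf8 zf24) (kf xf6 yf41 zf33) (kf xf6 yf41 zf34) (kf xf6 yf41 zf37) (kf xf6 yf41 zf40) (kf xf12 yf13 zf8) (kf xf6 yf41 zf43) (kf xf6 yf41 zf44) (kf xf6 yf41 zf45) (kf xf6 yf41 zf46) (kf xf19 yf55 zf48) (kf xf6 yf11 zf57) (kf xf6 yf11 zf53) (kf xf11 yf21 zf31) (kf xf12 yf56 zf50) (kf xf21 yf8 zf61) (kf xf11 yf22 zf24) (kf xf16 yf13 zf56) (kf xf21 yf8 zf60) (kf xf12 yf54 zf21) (kf xf20 yf29 zf55) (kf xf20 yf9 zf27) (kf xf20 yf11 zf44) (kf xf20 yf11 zf43) (kf xf17 yf34 zf1) (kf xf21 yf9 zf22) (kf xf6 yf11 zf61) (kf xf17 yf12 zf30)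 (kf xf11 yf21 zf34) (kf xf17 yf7 zf35) (kf xf17 yf12 zf31) (kf xf12 yf55 zf5) (kf xf12 yf4 zf25) (kf xf11 yf27 zf20) (kf xf17 yf12 zf32) (kf xf17 yf12 zf28) (kf xf21 yf9 zf32) (kf xf17 yf12 zf29) (kf xf6 yf12 zf7) (kf xf12 yf55 zf1) (kf xf19 yf48 zf52) (kf xf12 yf55 zf18)) (@D3.rec (fun _ => Pt) (kf xf12 yf14 zf37) (kf xf10 yf48 zf15) (kf xf17 yf12 zf33) (kf xf16 yf6 zf45) (kf xf11 yf51 zf18) (kf xf11 yf51 zf16) (kf xf6 yf12 zf13) (kf xf12 yf56 zf48) (kf xf17 yf15 zf51) (kf xf12 yf59 zf52) (kf xf17 yf33 zf61) (kf xf17 yf34 zf0) (kf xf17 yf33 zf60) (kf xf6 yf31 zf24) (kf xf6 yf12 zf25) (kf xf6 yf12 zf19) (kf xf6 yf31 zf49) (kf xf6 yf32 zf9) (kf xf12 yf24 zf53) (kf xf6 yf12 zf22) (kf xf6 yf31 zf17) (kf xf18 yf39 zf37) (kf xf6 yf32 zf26) (kf xf9 yf1 zf28) (kf xf12 yf25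 zf43) (kf xf12 yf3 zf52) (kf xf17 yf12 zf47) (kf xf6 yf33 zf24) (kf xf6 yf33 zf28) (kf xf17 yf12 zf3) (kf xf17 yf12 zf4) (kf xf6 yf33 zf32) (kf xf17 yf12 zf37) (kf xf10 yf32 zf25) (kf xf10 yf30 zf46) (kf xf10 yf32 zf16) (kf xf12 yf11 zf37) (kf xf12 yf58 zf2) (kf xf9 yf46 zf41) (kf xf6 yf12 zf43) (kf xf12 yf17 zf13) (kf xf12 yf17 zf14) (kf xf6 yf12 zf61) (kf xf12 yf12 zf2) (kf xf12 yf12 zf3) (kf xf6 yf19 zf29) (kf xf12 yf11 zf58) (kf xf17 yf10 zf45) (kf xf12 yf11 zf59) (kf xf12 yf12 zf4) (kf xf12 yf12 zf5) (kf xf12 yf2 zf41) (kf xf12 yf24 zf26) (kf xf9 yf18 zf19) (kf xf21 yf9 zf61) (kf xf20 yf34 zf25) (kf xf21 yf10 zf0) (kf xf21 yf3 zf21) (kf xf6 yf20 zf23) (kf xf6 yf48 zf52) (kf xf6 yf48 zf53) (kf xf21 yf10 zf17)) (@D3.rec (fun _ => Pt) (kf xf6 yf48 zf56) (kf xf6 yf48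 zf57) (kf xf12 yf18 zf11) (kf xf9 yf44 zf37) (kf xf13 yf31 zf16) (kf xf17 yf1 zf11) (kf xf8 yf51 zf36) (kf xf8 yf51 zf41) (kf xf21 yf10 zf32) (kf xf8 yf51 zf38) (kf xf21 yf10 zf37) (kf xf7 yf14 zf34) (kf xf8 yf51 zf46) (kf xf21 yf10 zf44) (kf xf8 yf51 zf44) (kf xf21 yf10 zf49) (kf xf8 yf51 zf49) (kf xf8 yf51 zf48) (kf xf16 yf34 zf24) (kf xf16 yf32 zf36) (kf xf7 yf56 zf49) (kf xf8 yf46 zf55) (kf xf8 yf51 zf57) (kf xf8 yf51 zf58) (kf xf21 yf11 zf5) (kf xf11 yf32 zf1) (kf xf6 yf13 zf23) (kf xf6 yf13 zf26) (kf xf6 yf13 zf25) (kf xf20 yf29 zf20) (kf xf6 yf13 zf18) (kf xf9 yf48 zf11) (kf xf9 yf48 zf20) (kf xf21 yf11 zf16) (kf xf11 yf29 zf25) (kf xf21 yf11 zf8) (kf xf20 yf25 zf30) (kf xf7 yf36 zf33) (kf xf19 yf27 zf31) (kf xf11 yf29 zf26) (kf xf19 yf27 zf30) (kf xf17 yf53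 zf23) (kf xf17 yf1 zf42) (kf xf18 yf2 zf32) (kf xf17 yf2 zf2) (kf xf6 yf13 zf27) (kf xf12 yf56 zf27) (kf xf18 yf2 zf30) (kf xf18 yf2 zf31) (kf xf18 yf2 zf29) (kf xf16 yf25 zf44) (kf xf21 yf11 zf39) (kf xf14 yf50 zf29) (kf xf16 yf25 zf14) (kf xf6 yf13 zf33) (kf xf8 yf51 zf19) (kf xf16 yf24 zf10) (kf xf8 yf51 zf4) (kf xf8 yf51 zf5) (kf xf16 yf25 zf1) (kf xf15 yf8 zf25) (kf xf15 yf8 zf24)) (@D3.rec (fun _ => Pt) (kf xf21 yf11 zf59) (kf xf6 yf13 zf36) (kf xf21 yf12 zf1) (kf xf15 yf8 zf49) (kf xf21 yf12 zf6) (kf xf21 yf12 zf11) (kf xf8 yf2 zf42) (kf xf6 yf13 zf40) (kf xf21 yf11 zf60) (kf xf13 yf42 zf2) (kf xf11 yf6 zf49) (kf xf13 yf30 zf60) (kf xf6 yf13 zf44) (kf xf15 yf12 zf59) (kf xf8 yf48 zf14) (kf xf15 yf12 zf50) (kf xf8 yf50 zf25) (kf xf16 yf32 zf9) (kf xf8 yf48 zf7)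 (kf xf8 yf51 zf13) (kf xf8 yf50 zf27) (kf xf6 yf14 zf53) (kf xf6 yf14 zf49) (kf xf6 yf14 zf50) (kf xf16 yf32 zf16) (kf xf21 yf12 zf28) (kf xf13 yf58 zf61) (kf xf16 yf25 zf12) (kf xf6 yf13 zf56) (kf xf15 yf5 zf60) (kf xf16 yf23 zf37) (kf xf16 yf23 zf38) (kf xf21 yf12 zf34) (kf xf16 yf23 zf40) (kf xf21 yf12 zf37) (kf xf6 yf13 zf59) (kf xf18 yf21 zf50) (kf xf7 yf7 zf10) (kf xf18 yf21 zf49) (kf xf11 yf23 zf33) (kf xf21 yf12 zf44) (kf xf8 yf45 zf33) (kf xf6 yf14 zf1) (kf xf21 yf12 zf38) (kf xf11 yf23 zf27) (kf xf11 yf23 zf28) (kf xf21 yf12 zf52) (kf xf11 yf23 zf24) (kf xf21 yf12 zf57) (kf xf19 yf39 zf49) (kf xf20 yf13 zf60) (kf xf20 yf13 zf59) (kf xf6 yf14 zf11) (kf xf14 yf44 zf24) (kf xf16 yf23 zf48) (kf xf16 yf23 zf13) (kf xf11 yf37 zf36) (kf xf16 yf23 zf47) (kf xf17 yf57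 zf0) (kf xf9 yf4 zf44) (kf xf21 yf13 zf10) (kf xf21 yf13 zf12)) (@D3.rec (fun _ => Pt) (kf xf21 yf13 zf9) (kf xf21 yf13 zf8) (kf xf18 yf59 zf52) (kf xf6 yf14 zf18) (kf xf11 yf13 zf32) (kf xf11 yf23 zf18) (kf xf11 yf23 zf14) (kf xf11 yf23 zf15) (kf xf16 yf23 zf14) (kf xf11 yf23 zf21) (kf xf11 yf23 zf20) (kf xf17 yf47 zf24) (kf xf6 yf14 zf24) (kf xf11 yf23 zf36) (kf xf20 yf21 zf25) (kf xf21 yf13 zf23) (kf xf15 yf24 zf35) (kf xf6 yf14 zf29) (kf xf7 yf56 zf26) (kf xf7 yf14 zf29) (kf xf10 yf53 zf56) (kf xf6 yf14 zf31) (kf xf21 yf13 zf32) (kf xf11 yf34 zf7) (kf xf21 yf13 zf36) (kf xf6 yf14 zf34) (kf xf16 yf10 zf25) (kf xf17 yf14 zf60) (kf xf21 yf13 zf41) (kf xf6 yf14 zf43) (kf xf6 yf14 zf42) (kf xf6 yf14 zf38) (kf xf11 yf8 zf20) (kf xf9 yf27 zf36) (kf xf21 yf13 zf39) (kf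 xf21 yf13 zf38) (kf xf21 yf13 zf50) (kf xf6 yf14 zf41) (kf xf16 yf35 zf48) (kf xf17 yf23 zf53) (kf xf21 yf13 zf44) (kf xf20 yf32 zf12) (kf xf17 yf15 zf31) (kf xf21 yf13 zf42) (kf xf21 yf13 zf43) (kf xf21 yf14 zf5) (kf xf7 yf17 zf12) (kf xf7 yf17 zf11) (kf xf6 yf14 zf44) (kf xf9 yf8 zf34) (kf xf6 yf14 zf47) (kf xf7 yf57 zf15) (kf xf11 yf49 zf46) (kf xf13 yf30 zf29) (kf xf11 yf0 zf23) (kf xf14 yf45 zf9) (kf xf14 yf47 zf25) (kf xf13 yf30 zf53) (kf xf7 yf57 zf30) (kf xf8 yf47 zf56) (kf xf6 yf14 zf51) (kf xf8 yf49 zf36)) (@D3.rec (fun _ => Pt) (kf xf8 yf49 zf48) (kf xf16 yf51 zf18) (kf xf20 yf6 zf29) (kf xf16 yf51 zf40) (kf xf14 yf47 zf24) (kf xf8 yf51 zf29) (kf xf17 yf46 zf33) (kf xf6 yf14 zf54) (kf xf7 yf23 zf9) (kf xf11 yf59 zf30) (kf xf21 yf14 zf24) (kf xf13 yf50 zf40)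 (kf xf7 yf23 zf8) (kf xf19 yf56 zf40) (kf xf7 yf21 zf53) (kf xf7 yf21 zf52) (kf xf21 yf14 zf37) (kf xf6 yf14 zf57) (kf xf6 yf15 zf7) (kf xf11 yf23 zf1) (kf xf14 yf27 zf26) (kf xf10 yf16 zf13) (kf xf16 yf29 zf53) (kf xf7 yf14 zf47) (kf xf21 yf14 zf43) (kf xf6 yf15 zf1) (kf xf16 yf33 zf54) (kf xf13 yf51 zf11) (kf xf21 yf14 zf46) (kf xf7 yf17 zf44) (kf xf6 yf15 zf5) (kf xf21 yf14 zf50) (kf xf7 yf17 zf18) (kf xf7 yf17 zf17) (kf xf21 yf14 zf56) (kf xf15 yf13 zf21) (kf xf17 yf57 zf28) (kf xf6 yf15 zf10) (kf xf7 yf9 zf17) (kf xf21 yf14 zf61) (kf xf6 yf15 zf11) (kf xf16 yf33 zf55) (kf xf7 yf56 zf40) (kf xf8 yf46 zf9) (kf xf11 yf23 zf43) (kf xf11 yf23 zf44) (kf xf21 yf15 zf6) (kf xf11 yf23 zf41) (kf xf18 yf56 zf36) (kf xf21 yf15 zf8) (kf xf11 yf25 zf24) (kf xf6 yf15 zf31) (kf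 xf11 yf12 zf55) (kf xf11 yf27 zf40) (kf xf9 yf45 zf56) (kf xf14 yf2 zf16) (kf xf9 yf3 zf54) (kf xf11 yf12 zf56) (kf xf20 yf6 zf46) (kf xf11 yf13 zf60) (kf xf20 yf6 zf58) (kf xf12 yf46 zf10)) (@D3.rec (fun _ => Pt) (kf xf20 yf6 zf59) (kf xf9 yf17 zf11) (kf xf11 yf25 zf19) (kf xf21 yf15 zf20) (kf xf6 yf15 zf35) (kf xf21 yf15 zf22) (kf xf20 yf1 zf10) (kf xf19 yf39 zf47) (kf xf9 yf24 zf37) (kf xf21 yf15 zf24) (kf xf17 yf15 zf39) (kf xf17 yf15 zf38) (kf xf21 yf15 zf31) (kf xf6 yf15 zf42) (kf xf7 yf59 zf15) (kf xf7 yf59 zf25) (kf xf21 yf15 zf34) (kf xf6 yf15 zf43) (kf xf11 yf34 zf50) (kf xf11 yf34 zf57) (kf xf11 yf22 zf3) (kf xf11 yf34 zf58) (kf xf16 yf53 zf21) (kf xf6 yf15 zf49) (kf xf20 yf32 zf59) (kf xf6 yf15 zf53) (kf xf20 yf52 zf0) (kf xf11 yf11 zf10) (kf xf20 yf19 zf49)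 (kf xf15 yf26 zf19) (kf xf9 yf9 zf24) (kf xf8 yf12 zf7) (kf xf9 yf15 zf31) (kf xf6 yf15 zf58) (kf xf18 yf47 zf52) (kf xf17 yf15 zf34) (kf xf17 yf15 zf33) (kf xf21 yf15 zf42) (kf xf6 yf15 zf60) (kf xf15 yf13 zf22) (kf xf15 yf26 zf21) (kf xf13 yf48 zf29) (kf xf6 yf16 zf1) (kf xf17 yf13 zf19) (kf xf11 yf28 zf57) (kf xf11 yf28 zf58) (kf xf11 yf34 zf48) (kf xf11 yf34 zf49) (kf xf19 yf51 zf48) (kf xf20 yf26 zf4) (kf xf13 yf2 zf11) (kf xf17 yf15 zf46) (kf xf11 yf30 zf45) (kf xf20 yf52 zf6) (kf xf15 yf26 zf35) (kf xf9 yf4 zf49) (kf xf19 yf51 zf15) (kf xf6 yf16 zf38) (kf xf6 yf16 zf19) (kf xf21 yf11 zf11) (kf xf6 yf16 zf23) (kf xf11 yf27 zf37)) (@D3.rec (fun _ => Pt) (kf xf21 yf15 zf50) (kf xf12 yf42 zf25) (kf xf9 yf8 zf59) (kf xf21 yf11 zf6) (kf xf6 yf16 zf28) (kf xf11 yf1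 zf1) (kf xf10 yf57 zf33) (kf xf10 yf48 zf24) (kf xf11 yf50 zf35) (kf xf21 yf15 zf56) (kf xf14 yf23 zf48) (kf xf21 yf15 zf59) (kf xf10 yf48 zf29) (kf xf13 yf2 zf19) (kf xf6 yf16 zf35) (kf xf21 yf15 zf61) (kf xf19 yf48 zf36) (kf xf6 yf16 zf37) (kf xf11 yf45 zf35) (kf xf20 yf52 zf36) (kf xf9 yf25 zf8) (kf xf9 yf25 zf6) (kf xf20 yf52 zf38) (kf xf21 yf16 zf6) (kf xf12 yf31 zf33) (kf xf17 yf24 zf36) (kf xf6 yf16 zf40) (kf xf14 yf26 zf6) (kf xf11 yf27 zf38) (kf xf20 yf51 zf5) (kf xf17 yf4 zf42) (kf xf17 yf12 zf55) (kf xf11 yf4 zf44) (kf xf6 yf16 zf45) (kf xf18 yf2 zf13) (kf xf11 yf27 zf52) (kf xf9 yf25 zf14) (kf xf11 yf27 zf53) (kf xf6 yf16 zf53) (kf xf6 yf16 zf52) (kf xf14 yf20 zf11) (kf xf14 yf11 zf60) (kf xf11 yf6 zf22) (kf xf20 yf9 zf49) (kf xf20 yf19 zf14) (kf xf6 yf25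 zf26) (kf xf6 yf25 zf25) (kf xf20 yf51 zf60) (kf xf16 yf52 zf35) (kf xf9 yf5 zf35) (kf xf9 yf5 zf33) (kf xf11 yf24 zf41) (kf xf19 yf47 zf2) (kf xf11 yf1 zf7) (kf xf20 yf7 zf12) (kf xf11 yf26 zf49) (kf xf21 yf16 zf16) (kf xf11 yf6 zf45) (kf xf8 yf12 zf28) (kf xf8 yf12 zf30) (kf xf19 yf47 zf4) (kf xf10 yf52 zf33)) (@D3.rec (fun _ => Pt) (kf xf11 yf26 zf50) (kf xf21 yf16 zf19) (kf xf10 yf52 zf46) (kf xf10 yf49 zf40) (kf xf11 yf7 zf2) (kf xf8 yf23 zf38) (kf xf9 yf15 zf48) (kf xf9 yf28 zf12) (kf xf9 yf28 zf13) (kf xf9 yf15 zf59) (kf xf9 yf15 zf60) (kf xf21 yf16 zf28) (kf xf6 yf17 zf27) (kf xf6 yf17 zf26) (kf xf21 yf16 zf32) (kf xf6 yf17 zf21) (kf xf6 yf17 zf31) (kf xf6 yf17 zf32) (kf xf9 yf21 zf49) (kf xf17 yf11 zf29) (kf xf17 yf11 zf28) (kf xf21 yf16 zf43) (kf xf6 yf17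 zf25) (kf xf21 yf16 zf31) (kf xf21 yf16 zf29) (kf xf21 yf16 zf30) (kf xf12 yf32 zf38) (kf xf17 yf26 zf28) (kf xf13 yf15 zf14) (kf xf17 yf28 zf50) (kf xf6 yf17 zf28) (kf xf6 yf29 zf41) (kf xf6 yf28 zf33) (kf xf19 yf20 zf42) (kf xf19 yf5 zf2) (kf xf21 yf16 zf33) (kf xf9 yf17 zf35) (kf xf12 yf4 zf36) (kf xf8 yf23 zf19) (kf xf12 yf33 zf24) (kf xf17 yf29 zf7) (kf xf17 yf29 zf8) (kf xf9 yf28 zf6) (kf xf9 yf28 zf7) (kf xf15 yf35 zf16) (kf xf9 yf15 zf49) (kf xf9 yf15 zf50) (kf xf9 yf28 zf15) (kf xf9 yf28 zf16) (kf xf9 yf28 zf18) (kf xf9 yf28 zf19) (kf xf12 yf33 zf51) (kf xf9 yf28 zf21) (kf xf9 yf28 zf22) (kf xf9 yf28 zf23) (kf xf9 yf28 zf24) (kf xf9 yf28 zf25) (kf xf21 yf17 zf44) (kf xf12 yf4 zf46) (kf xf12 yf4 zf48) (kf xf6 yf35 zf35) (kf xf6 yf28 zf24)) (@D3.rec (fun _ =>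 Pt) (kf xf8 yf14 zf52) (kf xf8 yf24 zf53) (kf xf12 yf4 zf43) (kf xf12 yf4 zf44) (kf xf12 yf4 zf49) (kf xf12 yf4 zf50) (kf xf9 yf39 zf12) (kf xf21 yf17 zf54) (kf xf21 yf17 zf51) (kf xf12 yf39 zf27) (kf xf6 yf17 zf58) (kf xf6 yf28 zf56) (kf xf6 yf17 zf59) (kf xf9 yf33 zf8) (kf xf9 yf33 zf9) (kf xf20 yf13 zf9) (kf xf9 yf33 zf11) (kf xf9 yf33 zf12) (kf xf17 yf13 zf58) (kf xf12 yf46 zf30) (kf xf6 yf40 zf37) (kf xf17 yf16 zf1) (kf xf12 yf0 zf17) (kf xf12 yf13 zf12) (kf xf12 yf13 zf13) (kf xf9 yf55 zf32) (kf xf13 yf0 zf28) (kf xf11 yf11 zf14) (kf xf12 yf46 zf28) (kf xf6 yf36 zf32) (kf xf12 yf3 zf18) (kf xf12 yf0 zf46) (kf xf12 yf27 zf2) (kf xf12 yf27 zf3) (kf xf12 yf28 zf48) (kf xf12 yf28 zf49) (kf xf12 yf12 zf53) (kf xf17 yf9 zf36) (kf xf21 yf18 zf28) (kf xf6 yf18 zf36) (kf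 xf6 yf18 zf32) (kf xf6 yf18 zf33) (kf xf12 yf26 zf61) (kf xf12 yf13 zf29) (kf xf12 yf1 zf56) (kf xf21 yf18 zf34) (kf xf6 yf35 zf4) (kf xf6 yf35 zf5) (kf xf6 yf34 zf61) (kf xf6 yf35 zf6) (kf xf21 yf18 zf39) (kf xf11 yf18 zf56) (kf xf21 yf18 zf43) (kf xf12 yf12 zf36) (kf xf21 yf18 zf45) (kf xf11 yf18 zf30) (kf xf20 yf36 zf24) (kf xf21 yf18 zf50) (kf xf6 yf18 zf27) (kf xf17 yf0 zf17) (kf xf21 yf6 zf59) (kf xf12 yf39 zf58)) (@D3.rec (fun _ => Pt) (kf xf9 yf21 zf10) (kf xf21 yf16 zf46) (kf xf12 yf40 zf9) (kf xf6 yf59 zf5) (kf xf12 yf40 zf13) (kf xf10 yf14 zf25) (kf xf12 yf40 zf12) (kf xf9 yf18 zf61) (kf xf12 yf3 zf25) (kf xf7 yf11 zf46) (kf xf12 yf40 zf23) (kf xf12 yf40 zf24) (kf xf12 yf12 zf23) (kf xf12 yf12 zf24) (kf xf15 yf43 zf12) (kf xf12 yf18 zf37) (kf xf6 yf18 zf42)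 (kf xf12 yf18 zf34) (kf xf12 yf18 zf35) (kf xf12 yf25 zf21) (kf xf12 yf27 zf0) (kf xf12 yf27 zf1) (kf xf12 yf27 zf7) (kf xf12 yf27 zf11) (kf xf12 yf27 zf12) (kf xf12 yf27 zf13) (kf xf12 yf27 zf14) (kf xf12 yf18 zf39) (kf xf12 yf18 zf41) (kf xf12 yf12 zf43) (kf xf21 yf19 zf31) (kf xf12 yf29 zf26) (kf xf12 yf27 zf59) (kf xf21 yf19 zf36) (kf xf18 yf26 zf18) (kf xf21 yf19 zf33) (kf xf21 yf19 zf42) (kf xf6 yf18 zf53) (kf xf6 yf18 zf54) (kf xf12 yf27 zf16) (kf xf12 yf27 zf17) (kf xf12 yf27 zf18) (kf xf9 yf46 zf4) (kf xf11 yf18 zf14) (kf xf7 yf26 zf47) (kf xf12 yf26 zf34) (kf xf7 yf29 zf48) (kf xf12 yf0 zf12) (kf xf11 yf59 zf43) (kf xf11 yf59 zf44) (kf xf13 yf2 zf6) (kf xf7 yf29 zf35) (kf xf12 yf29 zf8) (kf xf9 yf20 zf38) (kf xf6 yf23 zf15) (kf xf12 yf15 zf15) (kf xf12 yf28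 zf15) (kf xf12 yf15 zf48) (kf xf12 yf15 zf49) (kf xf12 yf28 zf40) (kf xf9 yf24 zf23) (kf xf10 yf51 zf3)) (@D3.rec (fun _ => Pt) (kf xf11 yf38 zf28) (kf xf12 yf28 zf12) (kf xf12 yf28 zf11) (kf xf12 yf27 zf56) (kf xf10 yf53 zf11) (kf xf10 yf53 zf18) (kf xf6 yf19 zf21) (kf xf11 yf10 zf42) (kf xf12 yf28 zf39) (kf xf10 yf6 zf22) (kf xf12 yf42 zf27) (kf xf12 yf19 zf40) (kf xf6 yf19 zf28) (kf xf12 yf27 zf57) (kf xf12 yf14 zf52) (kf xf12 yf28 zf13) (kf xf12 yf27 zf58) (kf xf12 yf15 zf14) (kf xf11 yf45 zf20) (kf xf17 yf7 zf27) (kf xf18 yf0 zf18) (kf xf17 yf8 zf12) (kf xf17 yf8 zf14) (kf xf6 yf20 zf24) (kf xf17 yf52 zf15) (kf xf6 yf19 zf38) (kf xf6 yf20 zf31) (kf xf6 yf20 zf28) (kf xf6 yf20 zf34) (kf xf6 yf20 zf47) (kf xf6 yf20 zf48) (kf xf12 yf20 zf0) (kf xf15 yf47 zf23) (kf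 xf16 yf5 zf55) (kf xf12 yf40 zf38) (kf xf12 yf40 zf39) (kf xf17 yf15 zf49) (kf xf12 yf4 zf0) (kf xf9 yf23 zf48) (kf xf9 yf22 zf19) (kf xf9 yf27 zf34) (kf xf21 yf20 zf33) (kf xf9 yf27 zf35) (kf xf12 yf42 zf18) (kf xf12 yf45 zf12) (kf xf12 yf45 zf1) (kf xf12 yf45 zf0) (kf xf12 yf45 zf39) (kf xf12 yf2 zf2) (kf xf12 yf2 zf1) (kf xf12 yf47 zf19) (kf xf12 yf2 zf58) (kf xf12 yf14 zf14) (kf xf6 yf20 zf3) (kf xf6 yf45 zf17) (kf xf12 yf28 zf45) (kf xf17 yf3 zf12) (kf xf14 yf11 zf28) (kf xf21 yf20 zf25) (kf xf13 yf1 zf5) (kf xf17 yf15 zf57) (kf xf12 yf31 zf17)) (@D3.rec (fun _ => Pt) (kf xf14 yf14 zf18) (kf xf17 yf15 zf56) (kf xf17 yf15 zf58) (kf xf11 yf11 zf8) (kf xf17 yf3 zf9) (kf xf20 yf6 zf53) (kf xf6 yf20 zf13) (kf xf17 yf12 zf34) (kf xf14 yf14 zf20) (kf xf21 yf20 zf23) (kf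 xf18 yf25 zf1) (kf xf6 yf20 zf17) (kf xf12 yf32 zf54) (kf xf12 yf58 zf37) (kf xf12 yf14 zf17) (kf xf12 yf13 zf55) (kf xf6 yf20 zf19) (kf xf17 yf59 zf16) (kf xf9 yf55 zf60) (kf xf11 yf51 zf3) (kf xf6 yf20 zf22) (kf xf14 yf11 zf17) (kf xf18 yf23 zf34) (kf xf11 yf8 zf18) (kf xf18 yf14 zf7) (kf xf9 yf57 zf15) (kf xf6 yf20 zf26) (kf xf14 yf11 zf15) (kf xf21 yf20 zf26) (kf xf13 yf1 zf8) (kf xf18 yf38 zf36) (kf xf17 yf3 zf11) (kf xf21 yf20 zf24) (kf xf6 yf42 zf28) (kf xf16 yf51 zf11) (kf xf12 yf28 zf24) (kf xf12 yf18 zf10) (kf xf21 yf20 zf27) (kf xf10 yf53 zf24) (kf xf9 yf28 zf39) (kf xf10 yf53 zf22) (kf xf10 yf53 zf23) (kf xf10 yf51 zf59) (kf xf12 yf36 zf30) (kf xf9 yf31 zf40) (kf xf17 yf10 zf10) (kf xf9 yf24 zf8) (kf xf9 yf24 zf9) (kf xf12 yf13 zf57) (kf xf12 yf13 zf58)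 (kf xf12 yf52 zf26) (kf xf12 yf42 zf14) (kf xf10 yf53 zf5) (kf xf8 yf23 zf25) (kf xf9 yf28 zf53) (kf xf6 yf20 zf60) (kf xf7 yf48 zf45) (kf xf13 yf15 zf16) (kf xf17 yf10 zf19) (kf xf12 yf59 zf12) (kf xf15 yf47 zf19) (kf xf15 yf47 zf22)) (@D3.rec (fun _ => Pt) (kf xf6 yf24 zf0) (kf xf17 yf10 zf11) (kf xf17 yf27 zf22) (kf xf12 yf24 zf57) (kf xf12 yf16 zf30) (kf xf9 yf39 zf0) (kf xf9 yf39 zf2) (kf xf9 yf39 zf3) (kf xf9 yf48 zf56) (kf xf9 yf48 zf55) (kf xf21 yf21 zf14) (kf xf6 yf21 zf15) (kf xf6 yf21 zf14) (kf xf13 yf15 zf56) (kf xf12 yf38 zf37) (kf xf12 yf38 zf38) (kf xf12 yf38 zf39) (kf xf21 yf21 zf18) (kf xf18 yf36 zf16) (kf xf21 yf21 zf13) (kf xf21 yf21 zf25) (kf xf6 yf21 zf9) (kf xf12 yf41 zf29) (kf xf12 yf41 zf28) (kf xf12 yf41 zf32) (kf xf7 yf48 zf46) (kf xf6 yf35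 zf39) (kf xf6 yf35 zf41) (kf xf7 yf48 zf48) (kf xf7 yf4 zf3) (kf xf12 yf16 zf4) (kf xf17 yf30 zf44) (kf xf15 yf47 zf20) (kf xf17 yf30 zf45) (kf xf12 yf41 zf52) (kf xf12 yf41 zf51) (kf xf21 yf21 zf54) (kf xf12 yf42 zf8) (kf xf6 yf21 zf16) (kf xf14 yf54 zf32) (kf xf17 yf58 zf47) (kf xf18 yf0 zf4) (kf xf6 yf21 zf19) (kf xf12 yf2 zf45) (kf xf12 yf2 zf44) (kf xf12 yf3 zf17) (kf xf12 yf38 zf52) (kf xf12 yf38 zf53) (kf xf15 yf42 zf37) (kf xf12 yf38 zf40) (kf xf12 yf38 zf41) (kf xf11 yf29 zf0) (kf xf12 yf29 zf40) (kf xf12 yf3 zf9) (kf xf17 yf13 zf47) (kf xf7 yf44 zf41) (kf xf17 yf13 zf49) (kf xf6 yf29 zf45) (kf xf17 yf13 zf50) (kf xf12 yf3 zf15) (kf xf12 yf3 zf10) (kf xf17 yf13 zf51)) (@D3.rec (fun _ => Pt) (kf xf17 yf13 zf52) (kf xf6 yf36 zf4) (kf xf9 yf11 zf51) (kf xf9 yf48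 zf53) (kf xf9 yf25 zf48) (kf xf7 yf53 zf6) (kf xf12 yf29 zf49) (kf xf11 yf29 zf2) (kf xf11 yf29 zf3) (kf xf17 yf13 zf43) (kf xf12 yf18 zf9) (kf xf12 yf50 zf38) (kf xf12 yf17 zf60) (kf xf12 yf4 zf40) (kf xf12 yf4 zf41) (kf xf17 yf13 zf53) (kf xf17 yf13 zf54) (kf xf17 yf13 zf55) (kf xf11 yf50 zf45) (kf xf12 yf58 zf18) (kf xf9 yf14 zf15) (kf xf11 yf49 zf21) (kf xf11 yf45 zf13) (kf xf12 yf26 zf36) (kf xf13 yf1 zf10) (kf xf13 yf1 zf11) (kf xf13 yf2 zf8) (kf xf12 yf49 zf46) (kf xf9 yf23 zf44) (kf xf9 yf23 zf45) (kf xf6 yf44 zf15) (kf xf11 yf28 zf52) (kf xf17 yf13 zf39) (kf xf6 yf22 zf56) (kf xf17 yf13 zf40) (kf xf6 yf29 zf48) (kf xf12 yf31 zf21) (kf xf17 yf13 zf41) (kf xf17 yf13 zf42) (kf xf15 yf49 zf8) (kf xf6 yf22 zf50) (kf xf6 yf30 zf49) (kf xf17 yf13 zf18) (kf xf8 yf0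 zf32) (kf xf8 yf0 zf35) (kf xf8 yf0 zf36) (kf xf13 yf1 zf42) (kf xf13 yf1 zf39) (kf xf8 yf0 zf55) (kf xf17 yf13 zf44) (kf xf17 yf13 zf45) (kf xf17 yf13 zf46) (kf xf12 yf51 zf9) (kf xf12 yf59 zf29) (kf xf12 yf52 zf56) (kf xf12 yf39 zf1) (kf xf12 yf50 zf51) (kf xf14 yf11 zf56) (kf xf11 yf19 zf36) (kf xf12 yf50 zf52) (kf xf12 yf17 zf12) (kf xf12 yf50 zf49)) (@D3.rec (fun _ => Pt) (kf xf17 yf13 zf56) (kf xf12 yf50 zf47) (kf xf12 yf26 zf54) (kf xf12 yf50 zf48) (kf xf12 yf50 zf50) (kf xf9 yf33 zf10) (kf xf17 yf13 zf59) (kf xf12 yf33 zf52) (kf xf17 yf13 zf60) (kf xf12 yf17 zf10) (kf xf12 yf15 zf36) (kf xf12 yf5 zf2) (kf xf13 yf0 zf12) (kf xf17 yf13 zf57) (kf xf17 yf42 zf2) (kf xf15 yf57 zf4) (kf xf17 yf42 zf3) (kf xf17 yf42 zf32) (kf xf17 yf42 zf4) (kf xf17 yf33 zf59) (kf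 xf17 yf41 zf51) (kf xf15 yf48 zf20) (kf xf17 yf42 zf6) (kf xf17 yf42 zf7) (kf xf21 yf24 zf12) (kf xf11 yf51 zf51) (kf xf9 yf14 zf43) (kf xf17 yf14 zf8) (kf xf11 yf47 zf31) (kf xf9 yf32 zf22) (kf xf6 yf22 zf30) (kf xf20 yf9 zf48) (kf xf17 yf14 zf13) (kf xf12 yf18 zf46) (kf xf12 yf13 zf17) (kf xf12 yf13 zf18) (kf xf16 yf4 zf58) (kf xf12 yf13 zf15) (kf xf6 yf22 zf34) (kf xf12 yf13 zf27) (kf xf12 yf48 zf8) (kf xf12 yf13 zf28) (kf xf17 yf14 zf15) (kf xf14 yf3 zf20) (kf xf17 yf14 zf16) (kf xf17 yf14 zf17) (kf xf12 yf18 zf33) (kf xf21 yf24 zf44) (kf xf17 yf14 zf24) (kf xf17 yf14 zf25) (kf xf12 yf52 zf49) (kf xf16 yf16 zf40) (kf xf14 yf49 zf55) (kf xf21 yf24 zf55) (kf xf17 yf13 zf25) (kf xf17 yf13 zf24) (kf xf10 yf0 zf6) (kf xf9 yf59 zf32) (kf xf9 yf32 zf40) (kf xf12 yf26 zf35)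 (kf xf7 yf29 zf45) (kf xf8 yf23 zf11)) (@D3.rec (fun _ => Pt) (kf xf13 yf37 zf12) (kf xf12 yf58 zf54) (kf xf6 yf22 zf57) (kf xf6 yf22 zf48) (kf xf13 yf2 zf5) (kf xf7 yf29 zf42) (kf xf15 yf48 zf53) (kf xf13 yf13 zf29) (kf xf7 yf30 zf7) (kf xf13 yf13 zf30) (kf xf7 yf29 zf61) (kf xf12 yf30 zf34) (kf xf13 yf37 zf13) (kf xf13 yf37 zf14) (kf xf13 yf37 zf15) (kf xf13 yf37 zf16) (kf xf18 yf7 zf15) (kf xf7 yf29 zf51) (kf xf7 yf29 zf50) (kf xf21 yf25 zf35) (kf xf12 yf21 zf49) (kf xf18 yf7 zf54) (kf xf18 yf7 zf13) (kf xf6 yf22 zf55) (kf xf19 yf0 zf44) (kf xf12 yf19 zf61) (kf xf19 yf0 zf43) (kf xf13 yf52 zf23) (kf xf17 yf14 zf10) (kf xf17 yf14 zf11) (kf xf21 yf23 zf15) (kf xf8 yf39 zf55) (kf xf17 yf14 zf12) (kf xf12 yf52 zf52) (kf xf21 yf25 zf52) (kf xf21 yf23 zf7) (kf xf21 yf25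 zf50) (kf xf6 yf40 zf61) (kf xf6 yf23 zf0) (kf xf12 yf21 zf52) (kf xf12 yf14 zf11) (kf xf17 yf14 zf29) (kf xf6 yf47 zf56) (kf xf12 yf28 zf20) (kf xf12 yf26 zf30) (kf xf12 yf50 zf20) (kf xf6 yf23 zf16) (kf xf6 yf23 zf9) (kf xf12 yf26 zf37) (kf xf12 yf26 zf38) (kf xf12 yf26 zf39) (kf xf12 yf26 zf40) (kf xf12 yf26 zf41) (kf xf12 yf26 zf42) (kf xf21 yf26 zf9) (kf xf18 yf29 zf23) (kf xf17 yf30 zf16) (kf xf17 yf27 zf21) (kf xf17 yf30 zf33) (kf xf6 yf23 zf14) (kf xf21 yf20 zf5) (kf xf12 yf19 zf25)) (@D3.rec (fun _ => Pt) (kf xf12 yf14 zf31) (kf xf21 yf25 zf60) (kf xf12 yf26 zf49) (kf xf12 yf26 zf50) (kf xf21 yf26 zf21) (kf xf21 yf26 zf19) (kf xf21 yf26 zf18) (kf xf17 yf56 zf41) (kf xf6 yf23 zf21) (kf xf6 yf23 zf32) (kf xf9 yf38 zf46) (kf xf13 yf0 zf16) (kf xf13 yf0 zf15) (kf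 xf11 yf59 zf53) (kf xf9 yf19 zf6) (kf xf21 yf7 zf11) (kf xf6 yf23 zf27) (kf xf8 yf40 zf23) (kf xf10 yf21 zf6) (kf xf8 yf40 zf0) (kf xf9 yf19 zf7) (kf xf17 yf34 zf61) (kf xf8 yf40 zf4) (kf xf6 yf23 zf30) (kf xf12 yf58 zf34) (kf xf20 yf13 zf8) (kf xf21 yf17 zf56) (kf xf17 yf55 zf53) (kf xf9 yf19 zf9) (kf xf20 yf42 zf24) (kf xf19 yf10 zf54) (kf xf9 yf19 zf10) (kf xf21 yf10 zf5) (kf xf12 yf58 zf35) (kf xf18 yf15 zf16) (kf xf6 yf23 zf35) (kf xf6 yf26 zf24) (kf xf6 yf28 zf0) (kf xf6 yf28 zf1) (kf xf6 yf26 zf22) (kf xf6 yf28 zf3) (kf xf6 yf28 zf4) (kf xf10 yf5 zf36) (kf xf6 yf26 zf23) (kf xf15 yf49 zf17) (kf xf15 yf47 zf49) (kf xf15 yf47 zf48) (kf xf6 yf23 zf40) (kf xf15 yf48 zf28) (kf xf15 yf36 zf60) (kf xf12 yf59 zf51) (kf xf12 yf59 zf49) (kf xf12 yf56 zf45) (kf xf11 yf59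 zf25) (kf xf16 yf6 zf49) (kf xf16 yf6 zf47) (kf xf12 yf55 zf16) (kf xf17 yf14 zf41) (kf xf12 yf21 zf5) (kf xf17 yf14 zf43) (kf xf16 yf7 zf1) (kf xf17 yf10 zf23)) (@D3.rec (fun _ => Pt) (kf xf15 yf33 zf28) (kf xf17 yf14 zf44) (kf xf17 yf14 zf45) (kf xf17 yf14 zf46) (kf xf12 yf0 zf13) (kf xf12 yf20 zf58) (kf xf21 yf27 zf24) (kf xf12 yf0 zf14) (kf xf13 yf0 zf3) (kf xf13 yf0 zf10) (kf xf17 yf16 zf11) (kf xf13 yf0 zf18) (kf xf13 yf0 zf23) (kf xf21 yf26 zf61) (kf xf21 yf21 zf10) (kf xf21 yf21 zf9) (kf xf10 yf27 zf22) (kf xf10 yf13 zf23) (kf xf6 yf47 zf44) (kf xf12 yf0 zf49) (kf xf21 yf18 zf13) (kf xf6 yf24 zf9) (kf xf6 yf24 zf4) (kf xf7 yf48 zf47) (kf xf16 yf3 zf50) (kf xf13 yf37 zf40) (kf xf13 yf37 zf41) (kf xf13 yf37 zf42) (kf xf13 yf37 zf43) (kf xf17 yf33 zf27) (kf xf21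 yf28 zf4) (kf xf17 yf14 zf21) (kf xf17 yf14 zf22) (kf xf21 yf28 zf12) (kf xf6 yf24 zf8) (kf xf21 yf27 zf48) (kf xf6 yf41 zf22) (kf xf21 yf8 zf29) (kf xf13 yf37 zf47) (kf xf13 yf37 zf48) (kf xf21 yf26 zf59) (kf xf13 yf37 zf50) (kf xf13 yf37 zf51) (kf xf17 yf16 zf13) (kf xf17 yf33 zf22) (kf xf17 yf33 zf25) (kf xf17 yf33 zf26) (kf xf6 yf48 zf3) (kf xf11 yf59 zf49) (kf xf12 yf19 zf20) (kf xf6 yf47 zf48) (kf xf17 yf14 zf54) (kf xf12 yf19 zf39) (kf xf9 yf14 zf55) (kf xf9 yf14 zf56) (kf xf16 yf32 zf27) (kf xf9 yf14 zf53) (kf xf21 yf4 zf12) (kf xf12 yf46 zf33) (kf xf15 yf25 zf50) (kf xf11 yf37 zf37) (kf xf18 yf20 zf0)) (@D3.rec (fun _ => Pt) (kf xf16 yf29 zf41) (kf xf6 yf24 zf29) (kf xf11 yf37 zf32) (kf xf16 yf34 zf50) (kf xf9 yf44 zf42) (kf xf6 yf24 zf35) (kf xf16 yf23 zf51)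 (kf xf21 yf28 zf54) (kf xf6 yf24 zf42) (kf xf6 yf24 zf41) (kf xf6 yf24 zf38) (kf xf18 yf15 zf61) (kf xf21 yf28 zf52) (kf xf21 yf28 zf51) (kf xf13 yf41 zf49) (kf xf6 yf24 zf40) (kf xf16 yf24 zf54) (kf xf18 yf56 zf46) (kf xf16 yf51 zf22) (kf xf20 yf8 zf41) (kf xf16 yf53 zf13) (kf xf20 yf8 zf44) (kf xf16 yf24 zf49) (kf xf18 yf2 zf11) (kf xf6 yf24 zf43) (kf xf21 yf29 zf9) (kf xf8 yf38 zf18) (kf xf11 yf27 zf45) (kf xf12 yf32 zf19) (kf xf16 yf25 zf3) (kf xf16 yf24 zf60) (kf xf16 yf24 zf59) (kf xf16 yf25 zf5) (kf xf21 yf29 zf20) (kf xf8 yf51 zf20) (kf xf6 yf24 zf49) (kf xf14 yf5 zf13) (kf xf16 yf24 zf57) (kf xf21 yf29 zf26) (kf xf16 yf24 zf61) (kf xf8 yf46 zf52) (kf xf8 yf1 zf23) (kf xf21 yf29 zf31) (kf xf6 yf24 zf52) (kf xf14 yf5 zf14) (kf xf8 yf46 zf51) (kf xf19 yf46 zf61)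 (kf xf16 yf25 zf9) (kf xf16 yf25 zf8) (kf xf21 yf14 zf35) (kf xf6 yf24 zf54) (kf xf6 yf25 zf0) (kf xf21 yf29 zf46) (kf xf16 yf23 zf45) (kf xf16 yf23 zf44) (kf xf6 yf24 zf57) (kf xf11 yf26 zf57) (kf xf21 yf29 zf54) (kf xf8 yf1 zf19) (kf xf8 yf1 zf18) (kf xf21 yf29 zf59) (kf xf6 yf24 zf59)) (@D3.rec (fun _ => Pt) (kf xf13 yf57 zf47) (kf xf7 yf46 zf35) (kf xf14 yf50 zf27) (kf xf13 yf38 zf23) (kf xf12 yf23 zf49) (kf xf21 yf30 zf1) (kf xf16 yf25 zf17) (kf xf16 yf25 zf16) (kf xf6 yf25 zf2) (kf xf21 yf30 zf9) (kf xf11 yf7 zf24) (kf xf11 yf37 zf40) (kf xf12 yf37 zf60) (kf xf17 yf12 zf49) (kf xf17 yf12 zf48) (kf xf6 yf25 zf6) (kf xf10 yf6 zf34) (kf xf11 yf38 zf55) (kf xf11 yf38 zf32) (kf xf11 yf38 zf31) (kf xf14 yf36 zf1) (kf xf6 yf25 zf9) (kf xf11 yf38 zf35) (kf xf11 yf38 zf36)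 (kf xf8 yf11 zf20) (kf xf21 yf20 zf12) (kf xf18 yf1 zf24) (kf xf11 yf38 zf20) (kf xf10 yf6 zf18) (kf xf21 yf30 zf30) (kf xf6 yf25 zf17) (kf xf11 yf38 zf23) (kf xf11 yf14 zf24) (kf xf21 yf30 zf37) (kf xf6 yf25 zf19) (kf xf19 yf18 zf13) (kf xf10 yf33 zf22) (kf xf17 yf6 zf40) (kf xf9 yf25 zf10) (kf xf9 yf25 zf13) (kf xf6 yf38 zf17) (kf xf9 yf3 zf30) (kf xf17 yf9 zf28) (kf xf17 yf5 zf33) (kf xf11 yf21 zf35) (kf xf8 yf44 zf28) (kf xf11 yf29 zf13) (kf xf21 yf30 zf43) (kf xf21 yf15 zf11) (kf xf12 yf23 zf4) (kf xf21 yf30 zf49) (kf xf11 yf29 zf17) (kf xf11 yf29 zf16) (kf xf6 yf25 zf35) (kf xf12 yf3 zf11) (kf xf12 yf1 zf21) (kf xf10 yf15 zf19) (kf xf12 yf24 zf31) (kf xf12 yf24 zf32) (kf xf12 yf24 zf33) (kf xf8 yf36 zf23) (kf xf8 yf35 zf61)) (@D3.rec (fun _ => Pt) (kf xf9 yf24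 zf29) (kf xf9 yf24 zf30) (kf xf11 yf27 zf17) (kf xf11 yf27 zf18) (kf xf17 yf13 zf14) (kf xf6 yf31 zf58) (kf xf17 yf4 zf37) (kf xf9 yf49 zf29) (kf xf6 yf44 zf41) (kf xf17 yf13 zf15) (kf xf12 yf47 zf18) (kf xf6 yf44 zf46) (kf xf7 yf40 zf52) (kf xf20 yf52 zf46) (kf xf12 yf42 zf58) (kf xf12 yf29 zf52) (kf xf9 yf29 zf35) (kf xf12 yf30 zf12) (kf xf12 yf32 zf53) (kf xf17 yf34 zf52) (kf xf17 yf3 zf57) (kf xf17 yf3 zf54) (kf xf12 yf54 zf27) (kf xf7 yf25 zf47) (kf xf6 yf53 zf4) (kf xf10 yf2 zf33) (kf xf12 yf4 zf52) (kf xf17 yf16 zf32) (kf xf17 yf16 zf33) (kf xf17 yf16 zf34) (kf xf12 yf0 zf50) (kf xf12 yf23 zf57) (kf xf12 yf23 zf58) (kf xf12 yf23 zf59) (kf xf12 yf58 zf55) (kf xf17 yf13 zf21) (kf xf17 yf13 zf23) (kf xf13 yf37 zf54) (kf xf13 yf37 zf53) (kf xf13 yf37 zf44) (kf xf21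 yf26 zf45) (kf xf15 yf48 zf45) (kf xf10 yf10 zf44) (kf xf6 yf28 zf2) (kf xf21 yf26 zf53) (kf xf12 yf59 zf0) (kf xf10 yf10 zf45) (kf xf15 yf49 zf47) (kf xf12 yf55 zf3) (kf xf13 yf0 zf56) (kf xf8 yf0 zf38) (kf xf10 yf18 zf4) (kf xf11 yf27 zf12) (kf xf12 yf4 zf18) (kf xf12 yf49 zf19) (kf xf17 yf16 zf4) (kf xf13 yf52 zf24) (kf xf12 yf16 zf3) (kf xf13 yf52 zf22) (kf xf12 yf30 zf35) (kf xf17 yf16 zf5) (kf xf17 yf16 zf6)) (@D3.rec (fun _ => Pt) (kf xf8 yf0 zf25) (kf xf8 yf0 zf28) (kf xf8 yf0 zf29) (kf xf11 yf27 zf10) (kf xf11 yf27 zf13) (kf xf11 yf27 zf14) (kf xf11 yf1 zf14) (kf xf11 yf26 zf26) (kf xf10 yf52 zf58) (kf xf17 yf16 zf3) (kf xf11 yf12 zf17) (kf xf17 yf16 zf2) (kf xf11 yf12 zf18) (kf xf12 yf52 zf38) (kf xf12 yf52 zf37) (kf xf17 yf16 zf7) (kf xf17 yf16 zf8) (kf xf17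 yf16 zf9) (kf xf11 yf19 zf53) (kf xf6 yf40 zf38) (kf xf6 yf40 zf39) (kf xf12 yf13 zf19) (kf xf7 yf30 zf59) (kf xf7 yf30 zf61) (kf xf7 yf31 zf0) (kf xf11 yf27 zf3) (kf xf7 yf45 zf38) (kf xf9 yf42 zf60) (kf xf12 yf39 zf10) (kf xf20 yf17 zf29) (kf xf6 yf41 zf25) (kf xf6 yf41 zf26) (kf xf17 yf14 zf23) (kf xf7 yf24 zf40) (kf xf7 yf24 zf36) (kf xf9 yf49 zf21) (kf xf12 yf56 zf47) (kf xf11 yf27 zf4) (kf xf11 yf27 zf5) (kf xf11 yf27 zf6) (kf xf11 yf22 zf16) (kf xf9 yf50 zf34) (kf xf12 yf56 zf46) (kf xf12 yf4 zf24) (kf xf9 yf5 zf11) (kf xf11 yf22 zf18) (kf xf13 yf20 zf36) (kf xf14 yf54 zf30) (kf xf12 yf53 zf11) (kf xf6 yf30 zf40) (kf xf12 yf58 zf15) (kf xf6 yf49 zf24) (kf xf13 yf52 zf32) (kf xf12 yf52 zf54) (kf xf17 yf16 zf10) (kf xf15 yf49 zf56) (kf xf11 yf19 zf54) (kf xf12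 yf52 zf53) (kf xf15 yf49 zf57) (kf xf12 yf47 zf51) (kf xf13 yf15 zf18) (kf xf12 yf52 zf50)) (@D3.rec (fun _ => Pt) (kf xf7 yf20 zf42) (kf xf12 yf52 zf51) (kf xf11 yf19 zf14) (kf xf11 yf24 zf0) (kf xf13 yf37 zf49) (kf xf17 yf16 zf14) (kf xf17 yf16 zf15) (kf xf13 yf0 zf24) (kf xf17 yf16 zf12) (kf xf15 yf37 zf8) (kf xf17 yf29 zf30) (kf xf6 yf27 zf22) (kf xf6 yf27 zf21) (kf xf21 yf33 zf17) (kf xf17 yf3 zf61) (kf xf21 yf33 zf21) (kf xf15 yf49 zf16) (kf xf6 yf27 zf20) (kf xf21 yf33 zf11) (kf xf21 yf4 zf7) (kf xf21 yf33 zf30) (kf xf21 yf33 zf10) (kf xf21 yf33 zf31) (kf xf20 yf17 zf38) (kf xf21 yf33 zf36) (kf xf6 yf27 zf23) (kf xf15 yf25 zf55) (kf xf11 yf48 zf39) (kf xf16 yf6 zf48) (kf xf13 yf13 zf8) (kf xf12 yf19 zf44) (kf xf6 yf42 zf44) (kf xf6 yf27 zf41) (kf xf6 yf27 zf30)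 (kf xf12 yf13 zf45) (kf xf12 yf18 zf59) (kf xf12 yf17 zf23) (kf xf12 yf19 zf48) (kf xf12 yf19 zf49) (kf xf12 yf19 zf50) (kf xf12 yf19 zf51) (kf xf12 yf19 zf52) (kf xf12 yf19 zf53) (kf xf21 yf22 zf49) (kf xf21 yf25 zf0) (kf xf21 yf22 zf48) (kf xf6 yf27 zf40) (kf xf9 yf36 zf4) (kf xf12 yf50 zf12) (kf xf12 yf20 zf2) (kf xf12 yf20 zf3) (kf xf17 yf43 zf44) (kf xf8 yf41 zf28) (kf xf8 yf41 zf34) (kf xf12 yf18 zf2) (kf xf21 yf34 zf10) (kf xf21 yf23 zf0) (kf xf18 yf43 zf52) (kf xf13 yf1 zf9) (kf xf6 yf27 zf47) (kf xf6 yf27 zf48) (kf xf12 yf12 zf42)) (@D3.rec (fun _ => Pt) (kf xf12 yf13 zf20) (kf xf12 yf13 zf21) (kf xf12 yf12 zf32) (kf xf12 yf12 zf33) (kf xf16 yf5 zf50) (kf xf8 yf35 zf43) (kf xf6 yf27 zf54) (kf xf12 yf13 zf22) (kf xf8 yf34 zf25) (kf xf12 yf0 zf47) (kf xf12 yf0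 zf48) (kf xf12 yf13 zf23) (kf xf12 yf13 zf24) (kf xf12 yf13 zf25) (kf xf12 yf13 zf26) (kf xf21 yf34 zf41) (kf xf12 yf13 zf39) (kf xf12 yf13 zf40) (kf xf12 yf13 zf41) (kf xf21 yf26 zf29) (kf xf21 yf26 zf44) (kf xf12 yf0 zf25) (kf xf21 yf31 zf37) (kf xf21 yf26 zf46) (kf xf21 yf24 zf58) (kf xf21 yf26 zf47) (kf xf21 yf26 zf48) (kf xf20 yf23 zf15) (kf xf21 yf25 zf17) (kf xf21 yf26 zf49) (kf xf21 yf26 zf50) (kf xf18 yf36 zf37) (kf xf21 yf26 zf52) (kf xf12 yf59 zf28) (kf xf7 yf33 zf54) (kf xf7 yf33 zf53) (kf xf7 yf33 zf56) (kf xf20 yf9 zf53) (kf xf9 yf18 zf23) (kf xf12 yf39 zf6) (kf xf11 yf30 zf16) (kf xf9 yf23 zf16) (kf xf21 yf35 zf1) (kf xf7 yf2 zf14) (kf xf9 yf23 zf12) (kf xf20 yf5 zf28) (kf xf6 yf29 zf3) (kf xf15 yf43 zf11) (kf xf16 yf3 zf48) (kf xf16 yf3 zf49) (kf xf21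 yf20 zf28) (kf xf6 yf38 zf30) (kf xf6 yf38 zf29) (kf xf6 yf28 zf21) (kf xf6 yf37 zf28) (kf xf18 yf15 zf34) (kf xf12 yf14 zf3) (kf xf12 yf14 zf13) (kf xf12 yf14 zf16) (kf xf12 yf13 zf32) (kf xf6 yf28 zf34) (kf xf6 yf28 zf31)) (@D3.rec (fun _ => Pt) (kf xf21 yf16 zf54) (kf xf21 yf4 zf53) (kf xf21 yf35 zf8) (kf xf21 yf21 zf37) (kf xf21 yf35 zf7) (kf xf20 yf37 zf40) (kf xf7 yf44 zf35) (kf xf6 yf28 zf41) (kf xf6 yf38 zf40) (kf xf11 yf50 zf61) (kf xf6 yf28 zf42) (kf xf12 yf14 zf2) (kf xf12 yf14 zf1) (kf xf12 yf14 zf15) (kf xf6 yf28 zf45) (kf xf12 yf13 zf56) (kf xf12 yf39 zf31) (kf xf12 yf53 zf21) (kf xf11 yf35 zf6) (kf xf12 yf39 zf51) (kf xf12 yf19 zf43) (kf xf6 yf34 zf20) (kf xf12 yf39 zf34) (kf xf11 yf25 zf44) (kf xf12 yf15 zf35) (kf xf6 yf28 zf61) (kf xf9 yf57 zf57) (kf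 xf6 yf29 zf0) (kf xf21 yf35 zf3) (kf xf6 yf32 zf16) (kf xf18 yf17 zf37) (kf xf21 yf35 zf24) (kf xf6 yf29 zf5) (kf xf7 yf31 zf18) (kf xf21 yf35 zf25) (kf xf9 yf21 zf26) (kf xf21 yf35 zf28) (kf xf6 yf50 zf49) (kf xf9 yf27 zf7) (kf xf12 yf14 zf8) (kf xf12 yf13 zf59) (kf xf6 yf29 zf9) (kf xf12 yf2 zf30) (kf xf21 yf35 zf31) (kf xf6 yf29 zf12) (kf xf12 yf14 zf55) (kf xf6 yf41 zf0) (kf xf7 yf44 zf32) (kf xf12 yf12 zf34) (kf xf12 yf12 zf35) (kf xf9 yf15 zf7) (kf xf6 yf40 zf50) (kf xf6 yf29 zf17) (kf xf6 yf29 zf32) (kf xf21 yf35 zf36) (kf xf12 yf46 zf29) (kf xf20 yf15 zf8) (kf xf21 yf18 zf44) (kf xf21 yf35 zf44) (kf xf6 yf29 zf23) (kf xf12 yf3 zf5) (kf xf12 yf3 zf6)) (@D3.rec (fun _ => Pt) (kf xf12 yf3 zf14) (kf xf10 yf23 zf7) (kf xf12 yf2 zf51) (kf xf12 yf46 zf15) (kf xf6 yf29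 zf26) (kf xf17 yf11 zf51) (kf xf17 yf16 zf39) (kf xf10 yf6 zf39) (kf xf12 yf13 zf52) (kf xf20 yf22 zf59) (kf xf6 yf29 zf40) (kf xf6 yf42 zf24) (kf xf6 yf29 zf35) (kf xf6 yf29 zf47) (kf xf9 yf48 zf23) (kf xf12 yf49 zf48) (kf xf15 yf26 zf51) (kf xf12 yf49 zf47) (kf xf11 yf58 zf12) (kf xf6 yf41 zf56) (kf xf21 yf36 zf5) (kf xf6 yf29 zf42) (kf xf20 yf4 zf6) (kf xf11 yf58 zf25) (kf xf14 yf4 zf51) (kf xf20 yf4 zf7) (kf xf12 yf13 zf31) (kf xf6 yf41 zf8) (kf xf6 yf29 zf53) (kf xf11 yf30 zf31) (kf xf9 yf48 zf34) (kf xf11 yf31 zf56) (kf xf20 yf25 zf21) (kf xf6 yf41 zf9) (kf xf12 yf35 zf37) (kf xf12 yf35 zf38) (kf xf21 yf36 zf26) (kf xf12 yf1 zf24) (kf xf21 yf36 zf28) (kf xf6 yf29 zf56) (kf xf12 yf16 zf52) (kf xf8 yf49 zf20) (kf xf9 yf47 zf57) (kf xf9 yf48 zf0) (kf xf17 yf59 zf51)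 (kf xf18 yf43 zf48) (kf xf11 yf30 zf39) (kf xf11 yf29 zf55) (kf xf10 yf57 zf18) (kf xf12 yf17 zf6) (kf xf7 yf30 zf40) (kf xf6 yf30 zf17) (kf xf12 yf24 zf15) (kf xf6 yf30 zf9) (kf xf10 yf7 zf13) (kf xf11 yf31 zf48) (kf xf11 yf27 zf44) (kf xf12 yf32 zf6) (kf xf10 yf52 zf28) (kf xf12 yf31 zf20) (kf xf6 yf30 zf12) (kf xf6 yf32 zf11)) (@D3.rec (fun _ => Pt) (kf xf6 yf50 zf56) (kf xf8 yf0 zf7) (kf xf8 yf0 zf16) (kf xf8 yf58 zf5) (kf xf18 yf43 zf38) (kf xf8 yf58 zf7) (kf xf8 yf58 zf8) (kf xf8 yf57 zf52) (kf xf11 yf30 zf46) (kf xf21 yf36 zf40) (kf xf6 yf30 zf23) (kf xf9 yf17 zf38) (kf xf12 yf24 zf17) (kf xf17 yf59 zf59) (kf xf11 yf30 zf49) (kf xf6 yf50 zf14) (kf xf6 yf30 zf35) (kf xf18 yf43 zf46) (kf xf11 yf30 zf55) (kf xf18 yf21 zf3) (kf xf6 yf58 zf56) (kf xf12 yf31 zf9) (kf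 xf11 yf18 zf46) (kf xf14 yf50 zf20) (kf xf11 yf57 zf59) (kf xf13 yf2 zf10) (kf xf21 yf36 zf50) (kf xf20 yf17 zf61) (kf xf6 yf30 zf51) (kf xf11 yf44 zf28) (kf xf14 yf8 zf15) (kf xf20 yf18 zf2) (kf xf6 yf50 zf20) (kf xf6 yf50 zf22) (kf xf12 yf19 zf11) (kf xf12 yf24 zf59) (kf xf17 yf43 zf26) (kf xf21 yf37 zf1) (kf xf6 yf30 zf60) (kf xf14 yf3 zf29) (kf xf13 yf52 zf34) (kf xf13 yf7 zf7) (kf xf13 yf52 zf33) (kf xf13 yf7 zf4) (kf xf8 yf40 zf22) (kf xf9 yf35 zf43) (kf xf10 yf19 zf52) (kf xf13 yf52 zf30) (kf xf13 yf52 zf28) (kf xf16 yf16 zf11) (kf xf11 yf43 zf40) (kf xf9 yf18 zf1) (kf xf20 yf49 zf37) (kf xf17 yf30 zf19) (kf xf14 yf3 zf54) (kf xf13 yf1 zf40) (kf xf9 yf47 zf60) (kf xf8 yf12 zf47) (kf xf17 yf18 zf7) (kf xf17 yf18 zf8) (kf xf17 yf18 zf9) (kf xf6 yf32 zf5)) (@D3.rec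 (fun _ => Pt) (kf xf6 yf32 zf10) (kf xf12 yf32 zf12) (kf xf6 yf32 zf24) (kf xf6 yf32 zf25) (kf xf6 yf32 zf17) (kf xf10 yf4 zf1) (kf xf20 yf0 zf26) (kf xf20 yf40 zf33) (kf xf20 yf40 zf32) (kf xf12 yf30 zf21) (kf xf20 yf9 zf50) (kf xf11 yf16 zf49) (kf xf6 yf31 zf27) (kf xf11 yf36 zf15) (kf xf17 yf16 zf36) (kf xf14 yf4 zf50) (kf xf11 yf32 zf24) (kf xf12 yf14 zf61) (kf xf20 yf19 zf32) (kf xf8 yf12 zf37) (kf xf12 yf29 zf59) (kf xf12 yf17 zf36) (kf xf16 yf17 zf25) (kf xf21 yf37 zf33) (kf xf6 yf31 zf43) (kf xf14 yf4 zf52) (kf xf14 yf1 zf39) (kf xf14 yf4 zf54) (kf xf12 yf1 zf8) (kf xf21 yf20 zf4) (kf xf12 yf49 zf28) (kf xf18 yf32 zf34) (kf xf12 yf49 zf9) (kf xf12 yf10 zf24) (kf xf20 yf0 zf2) (kf xf18 yf26 zf15) (kf xf21 yf9 zf47) (kf xf18 yf24 zf32) (kf xf20 yf0 zf3) (kf xf14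 yf4 zf58) (kf xf9 yf50 zf28) (kf xf15 yf5 zf15) (kf xf9 yf50 zf22) (kf xf6 yf38 zf54) (kf xf14 yf1 zf38) (kf xf9 yf3 zf60) (kf xf9 yf45 zf52) (kf xf9 yf45 zf55) (kf xf8 yf57 zf28) (kf xf14 yf8 zf5) (kf xf14 yf2 zf13) (kf xf14 yf8 zf6) (kf xf9 yf46 zf18) (kf xf14 yf8 zf3) (kf xf14 yf2 zf12) (kf xf14 yf8 zf4) (kf xf18 yf25 zf60) (kf xf9 yf45 zf44) (kf xf16 yf23 zf33) (kf xf6 yf32 zf3) (kf xf14 yf4 zf53) (kf xf20 yf28 zf27)) (@D3.rec (fun _ => Pt) (kf xf19 yf39 zf5) (kf xf18 yf24 zf57) (kf xf19 yf39 zf23) (kf xf10 yf57 zf8) (kf xf9 yf29 zf22) (kf xf6 yf32 zf7) (kf xf12 yf29 zf57) (kf xf21 yf37 zf24) (kf xf21 yf36 zf35) (kf xf21 yf36 zf37) (kf xf20 yf19 zf35) (kf xf20 yf20 zf29) (kf xf12 yf31 zf1) (kf xf6 yf32 zf12) (kf xf14 yf4 zf39) (kf xf21 yf7 zf41) (kf xf21 yf35 zf20)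 (kf xf18 yf39 zf35) (kf xf11 yf17 zf51) (kf xf12 yf22 zf28) (kf xf20 yf17 zf46) (kf xf18 yf39 zf36) (kf xf12 yf50 zf0) (kf xf10 yf59 zf0) (kf xf6 yf49 zf51) (kf xf9 yf29 zf32) (kf xf14 yf4 zf47) (kf xf21 yf37 zf25) (kf xf18 yf22 zf39) (kf xf11 yf21 zf52) (kf xf12 yf58 zf14) (kf xf9 yf22 zf1) (kf xf9 yf22 zf2) (kf xf17 yf17 zf40) (kf xf9 yf27 zf10) (kf xf17 yf17 zf41) (kf xf21 yf38 zf41) (kf xf17 yf17 zf6) (kf xf12 yf11 zf26) (kf xf9 yf25 zf41) (kf xf6 yf32 zf31) (kf xf9 yf23 zf34) (kf xf11 yf45 zf4) (kf xf12 yf50 zf33) (kf xf17 yf12 zf5) (kf xf9 yf30 zf32) (kf xf9 yf30 zf8) (kf xf12 yf38 zf16) (kf xf17 yf17 zf48) (kf xf21 yf22 zf30) (kf xf12 yf46 zf51) (kf xf12 yf44 zf44) (kf xf12 yf47 zf50) (kf xf12 yf24 zf18) (kf xf12 yf15 zf12) (kf xf13 yf1 zf15) (kf xf17 yf26 zf23)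 (kf xf6 yf40 zf4) (kf xf9 yf16 zf53) (kf xf15 yf32 zf31) (kf xf14 yf32 zf55) (kf xf7 yf32 zf46)) (@D3.rec (fun _ => Pt) (kf xf9 yf17 zf55) (kf xf6 yf38 zf1) (kf xf21 yf38 zf61) (kf xf6 yf38 zf2) (kf xf6 yf38 zf4) (kf xf21 yf4 zf54) (kf xf21 yf4 zf55) (kf xf11 yf44 zf36) (kf xf14 yf33 zf16) (kf xf13 yf4 zf58) (kf xf14 yf32 zf58) (kf xf17 yf22 zf3) (kf xf13 yf5 zf0) (kf xf13 yf4 zf61) (kf xf17 yf16 zf49) (kf xf17 yf16 zf51) (kf xf17 yf16 zf50) (kf xf17 yf22 zf4) (kf xf12 yf0 zf8) (kf xf13 yf0 zf34) (kf xf12 yf59 zf37) (kf xf6 yf48 zf32) (kf xf15 yf46 zf54) (kf xf15 yf46 zf57) (kf xf12 yf11 zf39) (kf xf17 yf16 zf53) (kf xf17 yf16 zf54) (kf xf21 yf4 zf56) (kf xf21 yf4 zf57) (kf xf21 yf4 zf58) (kf xf21 yf4 zf59) (kf xf17 yf16 zf57) (kf xf17 yf16 zf56) (kf xf14 yf29 zf48)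 (kf xf21 yf39 zf53) (kf xf14 yf29 zf49) (kf xf21 yf9 zf52) (kf xf21 yf39 zf56) (kf xf6 yf33 zf34) (kf xf6 yf33 zf10) (kf xf7 yf35 zf53) (kf xf13 yf0 zf52) (kf xf7 yf41 zf8) (kf xf17 yf17 zf14) (kf xf17 yf17 zf15) (kf xf7 yf41 zf12) (kf xf16 yf46 zf52) (kf xf17 yf10 zf40) (kf xf14 yf23 zf12) (kf xf14 yf23 zf13) (kf xf17 yf17 zf16) (kf xf12 yf11 zf51) (kf xf12 yf18 zf7) (kf xf21 yf8 zf6) (kf xf20 yf5 zf43) (kf xf11 yf41 zf44) (kf xf17 yf10 zf30) (kf xf13 yf10 zf0) (kf xf13 yf9 zf61) (kf xf21 yf9 zf51) (kf xf7 yf37 zf27) (kf xf7 yf37 zf26)) (@D3.rec (fun _ => Pt) (kf xf18 yf44 zf32) (kf xf8 yf32 zf21) (kf xf14 yf17 zf45) (kf xf14 yf17 zf44) (kf xf6 yf33 zf29) (kf xf8 yf30 zf33) (kf xf13 yf44 zf39) (kf xf7 yf3 zf48) (kf xf13 yf3 zf33) (kf xf11 yf55 zf59) (kf xf21 yf40 zf28)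 (kf xf7 yf3 zf22) (kf xf16 yf7 zf35) (kf xf6 yf35 zf42) (kf xf6 yf35 zf43) (kf xf21 yf38 zf58) (kf xf6 yf35 zf46) (kf xf6 yf35 zf47) (kf xf21 yf40 zf34) (kf xf17 yf4 zf15) (kf xf17 yf4 zf14) (kf xf21 yf40 zf44) (kf xf6 yf33 zf41) (kf xf6 yf40 zf41) (kf xf6 yf33 zf42) (kf xf6 yf41 zf18) (kf xf6 yf41 zf19) (kf xf6 yf41 zf15) (kf xf6 yf41 zf17) (kf xf6 yf41 zf24) (kf xf21 yf40 zf54) (kf xf21 yf40 zf55) (kf xf6 yf33 zf49) (kf xf21 yf5 zf55) (kf xf21 yf5 zf56) (kf xf21 yf5 zf57) (kf xf7 yf49 zf16) (kf xf21 yf41 zf2) (kf xf21 yf41 zf4) (kf xf18 yf50 zf30) (kf xf18 yf50 zf33) (kf xf6 yf34 zf25) (kf xf6 yf34 zf26) (kf xf6 yf34 zf27) (kf xf21 yf18 zf38) (kf xf21 yf18 zf37) (kf xf21 yf41 zf11) (kf xf6 yf33 zf59) (kf xf6 yf34 zf43) (kf xf7 yf1 zf13) (kf xf7 yf2 zf25) (kf xf7 yf1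 zf15) (kf xf21 yf41 zf16) (kf xf13 yf44 zf52) (kf xf13 yf44 zf59) (kf xf13 yf44 zf60) (kf xf13 yf44 zf61) (kf xf13 yf20 zf1) (kf xf6 yf34 zf11) (kf xf11 yf40 zf19) (kf xf18 yf32 zf33) (kf xf12 yf39 zf8)) (@D3.rec (fun _ => Pt) (kf xf12 yf39 zf32) (kf xf12 yf41 zf1) (kf xf18 yf43 zf27) (kf xf10 yf26 zf57) (kf xf12 yf39 zf36) (kf xf21 yf41 zf33) (kf xf6 yf34 zf16) (kf xf17 yf9 zf42) (kf xf6 yf34 zf19) (kf xf7 yf2 zf10) (kf xf6 yf34 zf21) (kf xf11 yf41 zf13) (kf xf10 yf27 zf25) (kf xf21 yf7 zf33) (kf xf20 yf53 zf44) (kf xf21 yf41 zf5) (kf xf21 yf7 zf34) (kf xf21 yf31 zf1) (kf xf17 yf52 zf8) (kf xf12 yf58 zf45) (kf xf14 yf11 zf31) (kf xf21 yf41 zf43) (kf xf21 yf41 zf46) (kf xf6 yf34 zf30) (kf xf7 yf45 zf24) (kf xf7 yf45 zf20) (kf xf21 yf41 zf53) (kf xf6 yf34 zf31) (kf xf14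 yf16 zf54) (kf xf21 yf41 zf56) (kf xf10 yf5 zf50) (kf xf14 yf16 zf42) (kf xf21 yf41 zf60) (kf xf21 yf7 zf9) (kf xf17 yf41 zf57) (kf xf21 yf42 zf1) (kf xf6 yf34 zf34) (kf xf12 yf29 zf34) (kf xf12 yf29 zf35) (kf xf15 yf48 zf17) (kf xf6 yf34 zf37) (kf xf12 yf58 zf36) (kf xf14 yf12 zf19) (kf xf21 yf8 zf9) (kf xf14 yf12 zf21) (kf xf15 yf48 zf19) (kf xf12 yf47 zf47) (kf xf20 yf42 zf23) (kf xf14 yf12 zf13) (kf xf14 yf36 zf24) (kf xf14 yf12 zf12) (kf xf21 yf4 zf52) (kf xf21 yf7 zf12) (kf xf18 yf6 zf7) (kf xf12 yf1 zf47) (kf xf21 yf5 zf49) (kf xf17 yf3 zf60) (kf xf21 yf7 zf14) (kf xf21 yf42 zf23) (kf xf21 yf7 zf16) (kf xf21 yf42 zf27) (kf xf6 yf34 zf46)) (@D3.rec (fun _ => Pt) (kf xf12 yf40 zf8) (kf xf10 yf7 zf7) (kf xf18 yf37 zf43) (kf xf12 yf37 zf34) (kf xf10 yf7 zf9) (kf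 xf7 yf2 zf40) (kf xf6 yf34 zf56) (kf xf6 yf34 zf58) (kf xf20 yf37 zf57) (kf xf7 yf43 zf57) (kf xf14 yf14 zf5) (kf xf20 yf51 zf36) (kf xf21 yf40 zf47) (kf xf14 yf11 zf32) (kf xf20 yf51 zf25) (kf xf6 yf35 zf3) (kf xf21 yf8 zf11) (kf xf11 yf18 zf0) (kf xf21 yf1 zf31) (kf xf17 yf13 zf8) (kf xf21 yf18 zf35) (kf xf14 yf14 zf19) (kf xf21 yf20 zf44) (kf xf14 yf14 zf6) (kf xf21 yf6 zf61) (kf xf21 yf6 zf60) (kf xf6 yf35 zf9) (kf xf6 yf37 zf25) (kf xf6 yf37 zf26) (kf xf6 yf37 zf27) (kf xf12 yf15 zf43) (kf xf6 yf41 zf2) (kf xf21 yf42 zf47) (kf xf18 yf37 zf45) (kf xf21 yf22 zf6) (kf xf17 yf5 zf8) (kf xf20 yf15 zf35) (kf xf6 yf35 zf16) (kf xf21 yf34 zf49) (kf xf6 yf35 zf17) (kf xf6 yf37 zf0) (kf xf6 yf37 zf2) (kf xf6 yf36 zf61) (kf xf6 yf37 zf4) (kf xf21 yf42 zf58) (kf xf6 yf35 zf20)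 (kf xf6 yf37 zf7) (kf xf6 yf37 zf8) (kf xf6 yf37 zf11) (kf xf6 yf37 zf15) (kf xf6 yf37 zf19) (kf xf15 yf44 zf53) (kf xf6 yf36 zf22) (kf xf6 yf36 zf23) (kf xf18 yf14 zf6) (kf xf20 yf51 zf29) (kf xf21 yf43 zf10) (kf xf6 yf35 zf27) (kf xf21 yf43 zf13) (kf xf6 yf35 zf28) (kf xf6 yf37 zf51) (kf xf6 yf37 zf52)) (@D3.rec (fun _ => Pt) (kf xf6 yf37 zf56) (kf xf6 yf37 zf55) (kf xf21 yf43 zf22) (kf xf6 yf35 zf30) (kf xf6 yf38 zf7) (kf xf6 yf38 zf9) (kf xf6 yf38 zf8) (kf xf13 yf54 zf21) (kf xf21 yf43 zf33) (kf xf6 yf35 zf33) (kf xf6 yf38 zf34) (kf xf6 yf38 zf33) (kf xf21 yf17 zf45) (kf xf6 yf38 zf14) (kf xf6 yf40 zf2) (kf xf6 yf38 zf18) (kf xf17 yf22 zf60) (kf xf18 yf16 zf1) (kf xf17 yf22 zf59) (kf xf21 yf21 zf38) (kf xf6 yf38 zf44) (kf xf6 yf38 zf43) (kf xf21 yf43 zf47) (kf xf6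 yf35 zf40) (kf xf6 yf38 zf48) (kf xf6 yf38 zf47) (kf xf21 yf21 zf39) (kf xf21 yf43 zf52) (kf xf20 yf30 zf49) (kf xf21 yf43 zf54) (kf xf17 yf5 zf15) (kf xf21 yf43 zf58) (kf xf6 yf35 zf45) (kf xf17 yf5 zf21) (kf xf12 yf36 zf3) (kf xf21 yf44 zf0) (kf xf20 yf30 zf50) (kf xf7 yf32 zf57) (kf xf12 yf53 zf31) (kf xf14 yf32 zf56) (kf xf18 yf13 zf44) (kf xf6 yf35 zf49) (kf xf11 yf36 zf29) (kf xf6 yf35 zf56) (kf xf6 yf35 zf55) (kf xf20 yf36 zf6) (kf xf6 yf35 zf51) (kf xf7 yf44 zf21) (kf xf12 yf54 zf61) (kf xf9 yf13 zf1) (kf xf21 yf44 zf13) (kf xf6 yf35 zf54) (kf xf17 yf9 zf25) (kf xf21 yf2 zf54) (kf xf21 yf44 zf9) (kf xf21 yf44 zf22) (kf xf10 yf13 zf45) (kf xf21 yf44 zf8) (kf xf21 yf28 zf58) (kf xf21 yf44 zf29) (kf xf12 yf23 zf12) (kf xf6 yf35 zf57)) (@D3.rec (fun _ => Pt) (kf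 xf6 yf39 zf54) (kf xf6 yf39 zf51) (kf xf6 yf39 zf52) (kf xf6 yf39 zf35) (kf xf6 yf39 zf57) (kf xf6 yf39 zf56) (kf xf21 yf44 zf38) (kf xf6 yf35 zf61) (kf xf6 yf40 zf9) (kf xf6 yf40 zf8) (kf xf6 yf40 zf18) (kf xf6 yf38 zf20) (kf xf6 yf40 zf3) (kf xf6 yf40 zf5) (kf xf17 yf25 zf43) (kf xf21 yf44 zf49) (kf xf12 yf32 zf47) (kf xf6 yf40 zf26) (kf xf6 yf40 zf27) (kf xf20 yf36 zf12) (kf xf6 yf40 zf23) (kf xf6 yf40 zf30) (kf xf6 yf40 zf29) (kf xf21 yf44 zf39) (kf xf6 yf36 zf42) (kf xf6 yf36 zf43) (kf xf6 yf37 zf36) (kf xf6 yf41 zf3) (kf xf6 yf41 zf4) (kf xf6 yf41 zf6) (kf xf13 yf14 zf18) (kf xf6 yf41 zf11) (kf xf6 yf36 zf45) (kf xf6 yf40 zf48) (kf xf6 yf40 zf49) (kf xf10 yf22 zf60) (kf xf6 yf40 zf51) (kf xf12 yf16 zf14) (kf xf12 yf16 zf15) (kf xf12 yf16 zf16) (kf xf12 yf16 zf49)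 (kf xf12 yf16 zf50) (kf xf9 yf55 zf52) (kf xf10 yf22 zf47) (kf xf18 yf57 zf53) (kf xf19 yf53 zf25) (kf xf21 yf45 zf0) (kf xf6 yf36 zf25) (kf xf21 yf35 zf35) (kf xf21 yf35 zf34) (kf xf21 yf45 zf4) (kf xf6 yf36 zf26) (kf xf12 yf16 zf46) (kf xf12 yf16 zf47) (kf xf7 yf31 zf31) (kf xf21 yf40 zf18) (kf xf6 yf36 zf28) (kf xf17 yf29 zf0) (kf xf17 yf29 zf1) (kf xf16 yf5 zf1) (kf xf12 yf42 zf37) (kf xf17 yf30 zf51)) (@D3.rec (fun _ => Pt) (kf xf12 yf0 zf43) (kf xf12 yf17 zf55) (kf xf21 yf45 zf23) (kf xf21 yf45 zf27) (kf xf6 yf36 zf35) (kf xf14 yf11 zf26) (kf xf12 yf27 zf39) (kf xf7 yf43 zf55) (kf xf12 yf34 zf61) (kf xf11 yf46 zf41) (kf xf12 yf25 zf28) (kf xf18 yf42 zf54) (kf xf9 yf7 zf40) (kf xf17 yf9 zf40) (kf xf12 yf46 zf31) (kf xf11 yf44 zf3) (kf xf18 yf56 zf60) (kf xf21 yf44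 zf61) (kf xf6 yf36 zf49) (kf xf6 yf36 zf48) (kf xf21 yf33 zf9) (kf xf6 yf36 zf46) (kf xf17 yf14 zf57) (kf xf6 yf36 zf47) (kf xf21 yf45 zf33) (kf xf21 yf10 zf8) (kf xf21 yf45 zf32) (kf xf12 yf12 zf9) (kf xf21 yf33 zf7) (kf xf21 yf45 zf41) (kf xf6 yf36 zf50) (kf xf12 yf28 zf16) (kf xf12 yf35 zf0) (kf xf6 yf36 zf53) (kf xf12 yf28 zf22) (kf xf11 yf38 zf50) (kf xf12 yf35 zf4) (kf xf18 yf13 zf46) (kf xf6 yf36 zf55) (kf xf14 yf26 zf58) (kf xf14 yf26 zf59) (kf xf21 yf45 zf55) (kf xf14 yf26 zf45) (kf xf21 yf45 zf59) (kf xf21 yf34 zf45) (kf xf8 yf7 zf7) (kf xf6 yf36 zf58) (kf xf17 yf20 zf39) (kf xf20 yf26 zf16) (kf xf21 yf42 zf53) (kf xf17 yf35 zf30) (kf xf12 yf28 zf19) (kf xf17 yf5 zf2) (kf xf6 yf42 zf18) (kf xf9 yf19 zf8) (kf xf21 yf42 zf52) (kf xf21 yf26 zf31) (kf xf11 yf30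 zf35) (kf xf12 yf12 zf61) (kf xf21 yf33 zf13) (kf xf21 yf33 zf23) (kf xf12 yf42 zf51)) (@D3.rec (fun _ => Pt) (kf xf21 yf33 zf16) (kf xf21 yf42 zf56) (kf xf21 yf42 zf55) (kf xf21 yf46 zf25) (kf xf21 yf43 zf5) (kf xf6 yf37 zf5) (kf xf21 yf46 zf1) (kf xf21 yf42 zf60) (kf xf12 yf36 zf0) (kf xf12 yf13 zf2) (kf xf21 yf42 zf61) (kf xf17 yf29 zf20) (kf xf12 yf13 zf6) (kf xf12 yf13 zf4) (kf xf21 yf43 zf0) (kf xf16 yf3 zf56) (kf xf15 yf59 zf61) (kf xf12 yf58 zf30) (kf xf17 yf29 zf22) (kf xf17 yf29 zf23) (kf xf12 yf40 zf21) (kf xf12 yf40 zf20) (kf xf17 yf29 zf31) (kf xf12 yf13 zf10) (kf xf12 yf13 zf11) (kf xf21 yf43 zf1) (kf xf21 yf43 zf2) (kf xf21 yf46 zf56) (kf xf14 yf56 zf2) (kf xf15 yf44 zf30) (kf xf21 yf46 zf59) (kf xf6 yf37 zf20) (kf xf21 yf43 zf4) (kf xf21 yf43 zf3) (kf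 xf21 yf42 zf57) (kf xf21 yf47 zf3) (kf xf6 yf37 zf21) (kf xf11 yf36 zf37) (kf xf12 yf14 zf34) (kf xf12 yf14 zf35) (kf xf21 yf25 zf56) (kf xf20 yf27 zf32) (kf xf21 yf47 zf6) (kf xf21 yf47 zf8) (kf xf18 yf15 zf32) (kf xf11 yf50 zf1) (kf xf17 yf5 zf44) (kf xf21 yf47 zf13) (kf xf6 yf37 zf29) (kf xf18 yf15 zf33) (kf xf9 yf19 zf57) (kf xf6 yf37 zf32) (kf xf7 yf43 zf56) (kf xf21 yf44 zf57) (kf xf21 yf44 zf58) (kf xf20 yf51 zf35) (kf xf21 yf47 zf17) (kf xf6 yf37 zf37) (kf xf21 yf47 zf19) (kf xf6 yf37 zf44) (kf xf6 yf37 zf43) (kf xf21 yf47 zf23)) (@D3.rec (fun _ => Pt) (kf xf6 yf37 zf39) (kf xf12 yf35 zf1) (kf xf18 yf38 zf3) (kf xf18 yf0 zf8) (kf xf21 yf47 zf27) (kf xf6 yf37 zf42) (kf xf18 yf0 zf56) (kf xf21 yf41 zf47) (kf xf21 yf47 zf20) (kf xf17 yf7 zf24) (kf xf20 yf49 zf11)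 (kf xf12 yf47 zf42) (kf xf21 yf47 zf21) (kf xf13 yf46 zf7) (kf xf21 yf47 zf41) (kf xf6 yf37 zf45) (kf xf14 yf24 zf5) (kf xf14 yf24 zf6) (kf xf21 yf47 zf46) (kf xf14 yf23 zf53) (kf xf14 yf23 zf54) (kf xf21 yf47 zf55) (kf xf21 yf42 zf40) (kf xf21 yf43 zf11) (kf xf21 yf48 zf3) (kf xf6 yf37 zf49) (kf xf6 yf44 zf33) (kf xf21 yf43 zf14) (kf xf12 yf16 zf23) (kf xf12 yf16 zf22) (kf xf21 yf43 zf15) (kf xf21 yf48 zf20) (kf xf12 yf16 zf24) (kf xf21 yf48 zf22) (kf xf16 yf9 zf10) (kf xf12 yf43 zf17) (kf xf7 yf31 zf52) (kf xf20 yf54 zf3) (kf xf18 yf0 zf53) (kf xf12 yf43 zf16) (kf xf21 yf48 zf35) (kf xf21 yf43 zf19) (kf xf21 yf43 zf18) (kf xf21 yf48 zf43) (kf xf21 yf43 zf31) (kf xf6 yf37 zf57) (kf xf21 yf48 zf4) (kf xf17 yf30 zf40) (kf xf17 yf30 zf41) (kf xf17 yf30 zf42) (kf xf21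 yf48 zf52) (kf xf12 yf16 zf35) (kf xf12 yf16 zf34) (kf xf14 yf56 zf13) (kf xf17 yf30 zf46) (kf xf12 yf47 zf17) (kf xf21 yf39 zf0) (kf xf21 yf39 zf1) (kf xf17 yf30 zf50) (kf xf9 yf21 zf37) (kf xf21 yf43 zf24) (kf xf21 yf43 zf25)) (@D3.rec (fun _ => Pt) (kf xf21 yf43 zf28) (kf xf21 yf43 zf29) (kf xf21 yf43 zf26) (kf xf21 yf43 zf27) (kf xf8 yf20 zf45) (kf xf8 yf21 zf17) (kf xf8 yf21 zf33) (kf xf21 yf43 zf30) (kf xf12 yf16 zf37) (kf xf21 yf43 zf21) (kf xf21 yf49 zf31) (kf xf6 yf38 zf11) (kf xf17 yf6 zf7) (kf xf11 yf44 zf8) (kf xf12 yf15 zf51) (kf xf14 yf34 zf60) (kf xf21 yf49 zf34) (kf xf6 yf38 zf16) (kf xf12 yf14 zf43) (kf xf21 yf44 zf41) (kf xf21 yf44 zf42) (kf xf6 yf38 zf26) (kf xf6 yf38 zf25) (kf xf6 yf38 zf21) (kf xf14 yf36 zf21) (kf xf12 yf10 zf1) (kf xf21 yf49 zf42)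 (kf xf12 yf14 zf10) (kf xf21 yf25 zf59) (kf xf6 yf38 zf24) (kf xf17 yf5 zf38) (kf xf21 yf49 zf39) (kf xf14 yf12 zf10) (kf xf18 yf16 zf3) (kf xf20 yf51 zf57) (kf xf21 yf49 zf38) (kf xf11 yf59 zf61) (kf xf12 yf38 zf60) (kf xf21 yf17 zf49) (kf xf21 yf17 zf48) (kf xf21 yf49 zf58) (kf xf6 yf38 zf27) (kf xf18 yf24 zf46) (kf xf21 yf20 zf35) (kf xf21 yf35 zf10) (kf xf15 yf49 zf14) (kf xf15 yf49 zf12) (kf xf12 yf59 zf25) (kf xf21 yf50 zf1) (kf xf6 yf38 zf31) (kf xf21 yf43 zf34) (kf xf12 yf39 zf61) (kf xf21 yf50 zf8) (kf xf21 yf50 zf12) (kf xf6 yf38 zf35) (kf xf21 yf22 zf36) (kf xf17 yf5 zf19) (kf xf9 yf49 zf17) (kf xf12 yf24 zf14) (kf xf18 yf38 zf22) (kf xf6 yf38 zf38) (kf xf18 yf15 zf30)) (@D3.rec (fun _ => Pt) (kf xf17 yf52 zf57) (kf xf9 yf49 zf10) (kf xf21 yf35 zf12) (kf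 xf9 yf14 zf22) (kf xf6 yf38 zf41) (kf xf21 yf21 zf4) (kf xf17 yf50 zf28) (kf xf17 yf50 zf27) (kf xf16 yf33 zf15) (kf xf21 yf43 zf45) (kf xf21 yf43 zf44) (kf xf21 yf50 zf25) (kf xf6 yf38 zf45) (kf xf17 yf5 zf30) (kf xf21 yf43 zf48) (kf xf18 yf2 zf28) (kf xf12 yf41 zf39) (kf xf12 yf41 zf35) (kf xf21 yf50 zf37) (kf xf21 yf50 zf39) (kf xf6 yf38 zf49) (kf xf21 yf22 zf37) (kf xf11 yf43 zf54) (kf xf18 yf16 zf41) (kf xf9 yf50 zf21) (kf xf11 yf19 zf15) (kf xf21 yf25 zf55) (kf xf21 yf22 zf47) (kf xf21 yf23 zf10) (kf xf12 yf53 zf28) (kf xf6 yf38 zf55) (kf xf18 yf24 zf38) (kf xf15 yf47 zf44) (kf xf21 yf25 zf53) (kf xf6 yf38 zf58) (kf xf21 yf50 zf47) (kf xf8 yf36 zf6) (kf xf10 yf37 zf46) (kf xf6 yf38 zf60) (kf xf17 yf9 zf31) (kf xf16 yf23 zf60) (kf xf21 yf50 zf53) (kf xf6 yf39 zf1)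 (kf xf17 yf5 zf25) (kf xf21 yf50 zf56) (kf xf6 yf39 zf2) (kf xf17 yf4 zf55) (kf xf18 yf16 zf51) (kf xf17 yf5 zf29) (kf xf21 yf51 zf0) (kf xf6 yf39 zf4) (kf xf6 yf39 zf19) (kf xf6 yf39 zf18) (kf xf21 yf51 zf6) (kf xf6 yf39 zf6) (kf xf6 yf39 zf26) (kf xf6 yf39 zf28) (kf xf18 yf16 zf46) (kf xf6 yf39 zf22) (kf xf6 yf39 zf23) (kf xf6 yf39 zf24) (kf xf18 yf16 zf53)) (@D3.rec (fun _ => Pt) (kf xf6 yf39 zf31) (kf xf6 yf39 zf30) (kf xf21 yf51 zf17) (kf xf6 yf39 zf9) (kf xf17 yf5 zf43) (kf xf18 yf15 zf29) (kf xf11 yf28 zf45) (kf xf11 yf28 zf44) (kf xf18 yf23 zf35) (kf xf17 yf5 zf46) (kf xf17 yf5 zf45) (kf xf20 yf2 zf4) (kf xf7 yf36 zf17) (kf xf11 yf48 zf16) (kf xf16 yf30 zf42) (kf xf21 yf51 zf30) (kf xf6 yf39 zf17) (kf xf16 yf30 zf29) (kf xf21 yf51 zf3) (kf xf7 yf44 zf23) (kf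 xf19 yf53 zf8) (kf xf21 yf51 zf2) (kf xf18 yf24 zf37) (kf xf21 yf51 zf5) (kf xf21 yf51 zf4) (kf xf14 yf12 zf36) (kf xf6 yf39 zf20) (kf xf17 yf5 zf20) (kf xf11 yf16 zf57) (kf xf12 yf53 zf19) (kf xf18 yf16 zf52) (kf xf21 yf51 zf8) (kf xf21 yf44 zf40) (kf xf21 yf30 zf35) (kf xf21 yf51 zf49) (kf xf17 yf5 zf35) (kf xf18 yf16 zf19) (kf xf9 yf59 zf42) (kf xf21 yf51 zf7) (kf xf21 yf51 zf55) (kf xf18 yf1 zf37) (kf xf21 yf36 zf33) (kf xf21 yf51 zf9) (kf xf21 yf52 zf0) (kf xf12 yf32 zf51) (kf xf21 yf52 zf1) (kf xf6 yf39 zf29) (kf xf20 yf15 zf40) (kf xf21 yf51 zf15) (kf xf17 yf9 zf57) (kf xf21 yf52 zf7) (kf xf18 yf50 zf39) (kf xf21 yf51 zf13) (kf xf18 yf50 zf38) (kf xf20 yf10 zf34) (kf xf20 yf58 zf15) (kf xf21 yf1 zf34) (kf xf17 yf21 zf2) (kf xf21 yf1 zf27) (kf xf6 yf39 zf32) (kf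 xf20 yf14 zf31) (kf xf17 yf26 zf42)) (@D3.rec (fun _ => Pt) (kf xf12 yf14 zf46) (kf xf12 yf14 zf45) (kf xf21 yf44 zf34) (kf xf21 yf7 zf26) (kf xf21 yf7 zf27) (kf xf12 yf59 zf2) (kf xf21 yf35 zf33) (kf xf21 yf7 zf30) (kf xf21 yf7 zf29) (kf xf16 yf18 zf24) (kf xf6 yf39 zf38) (kf xf21 yf7 zf20) (kf xf12 yf14 zf44) (kf xf21 yf7 zf18) (kf xf21 yf7 zf19) (kf xf21 yf7 zf22) (kf xf21 yf7 zf21) (kf xf6 yf39 zf42) (kf xf7 yf36 zf10) (kf xf15 yf26 zf39) (kf xf11 yf46 zf20) (kf xf11 yf45 zf36) (kf xf21 yf52 zf30) (kf xf6 yf39 zf46) (kf xf7 yf45 zf25) (kf xf7 yf45 zf19) (kf xf7 yf45 zf21) (kf xf11 yf45 zf19) (kf xf7 yf45 zf28) (kf xf7 yf45 zf27) (kf xf21 yf52 zf48) (kf xf6 yf39 zf49) (kf xf7 yf0 zf30) (kf xf21 yf44 zf32) (kf xf8 yf51 zf15) (kf xf21 yf44 zf31) (kf xf17 yf20 zf45)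 (kf xf16 yf24 zf56) (kf xf20 yf9 zf51) (kf xf12 yf14 zf47) (kf xf21 yf44 zf36) (kf xf13 yf27 zf42) (kf xf12 yf2 zf29) (kf xf20 yf5 zf42) (kf xf21 yf44 zf35) (kf xf13 yf23 zf21) (kf xf13 yf38 zf47) (kf xf21 yf44 zf37) (kf xf21 yf53 zf2) (kf xf21 yf53 zf5) (kf xf6 yf39 zf58) (kf xf6 yf40 zf34) (kf xf6 yf40 zf1) (kf xf7 yf44 zf33) (kf xf7 yf32 zf54) (kf xf7 yf44 zf34) (kf xf21 yf7 zf55) (kf xf7 yf44 zf31) (kf xf7 yf44 zf36) (kf xf21 yf53 zf8) (kf xf21 yf43 zf36) (kf xf21 yf43 zf37)) (@D3.rec (fun _ => Pt) (kf xf13 yf19 zf14) (kf xf21 yf44 zf43) (kf xf13 yf19 zf8) (kf xf21 yf38 zf52) (kf xf21 yf44 zf44) (kf xf20 yf22 zf22) (kf xf18 yf56 zf32) (kf xf21 yf41 zf3) (kf xf21 yf44 zf20) (kf xf16 yf32 zf12) (kf xf12 yf8 zf61) (kf xf18 yf20 zf45) (kf xf9 yf21 zf41) (kf xf12 yf52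 zf61) (kf xf12 yf47 zf12) (kf xf12 yf29 zf3) (kf xf7 yf17 zf15) (kf xf6 yf40 zf11) (kf xf18 yf15 zf35) (kf xf10 yf13 zf7) (kf xf18 yf15 zf39) (kf xf16 yf53 zf17) (kf xf13 yf38 zf40) (kf xf21 yf44 zf47) (kf xf21 yf44 zf46) (kf xf21 yf27 zf42) (kf xf6 yf40 zf19) (kf xf17 yf34 zf56) (kf xf12 yf12 zf28) (kf xf12 yf28 zf55) (kf xf12 yf12 zf19) (kf xf12 yf39 zf14) (kf xf12 yf47 zf3) (kf xf12 yf21 zf58) (kf xf21 yf28 zf35) (kf xf21 yf44 zf52) (kf xf21 yf53 zf51) (kf xf6 yf40 zf25) (kf xf21 yf9 zf31) (kf xf21 yf44 zf50) (kf xf9 yf25 zf31) (kf xf16 yf36 zf2) (kf xf8 yf48 zf18) (kf xf21 yf44 zf53) (kf xf16 yf35 zf43) (kf xf21 yf53 zf6) (kf xf21 yf44 zf55) (kf xf21 yf44 zf54) (kf xf21 yf53 zf7) (kf xf17 yf22 zf61) (kf xf21 yf18 zf8) (kf xf12 yf32 zf50) (kf xf21 yf18 zf9) (kf xf21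 yf54 zf17) (kf xf21 yf32 zf20) (kf xf12 yf56 zf33) (kf xf21 yf8 zf1) (kf xf19 yf21 zf17) (kf xf21 yf54 zf25) (kf xf14 yf34 zf7) (kf xf13 yf44 zf47) (kf xf14 yf11 zf33)) (@D3.rec (fun _ => Pt) (kf xf14 yf11 zf34) (kf xf14 yf11 zf29) (kf xf14 yf11 zf35) (kf xf12 yf46 zf32) (kf xf11 yf20 zf13) (kf xf17 yf7 zf22) (kf xf17 yf7 zf23) (kf xf19 yf48 zf46) (kf xf19 yf48 zf0) (kf xf21 yf37 zf52) (kf xf21 yf54 zf36) (kf xf21 yf4 zf4) (kf xf12 yf46 zf14) (kf xf21 yf33 zf15) (kf xf16 yf35 zf60) (kf xf7 yf12 zf19) (kf xf6 yf40 zf52) (kf xf12 yf41 zf55) (kf xf12 yf24 zf10) (kf xf12 yf14 zf50) (kf xf21 yf25 zf57) (kf xf21 yf25 zf51) (kf xf21 yf35 zf32) (kf xf6 yf44 zf22) (kf xf17 yf7 zf20) (kf xf18 yf46 zf47) (kf xf20 yf47 zf25) (kf xf21 yf54 zf50) (kf xf21 yf44 zf59) (kf xf18 yf45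 zf48) (kf xf21 yf44 zf60) (kf xf20 yf13 zf42) (kf xf21 yf42 zf50) (kf xf21 yf54 zf48) (kf xf21 yf36 zf16) (kf xf6 yf41 zf5) (kf xf13 yf50 zf34) (kf xf13 yf14 zf19) (kf xf16 yf7 zf39) (kf xf18 yf15 zf15) (kf xf21 yf36 zf17) (kf xf18 yf49 zf48) (kf xf12 yf41 zf11) (kf xf13 yf14 zf29) (kf xf6 yf41 zf27) (kf xf6 yf41 zf28) (kf xf10 yf33 zf9) (kf xf12 yf35 zf46) (kf xf7 yf46 zf7) (kf xf21 yf55 zf11) (kf xf12 yf32 zf52) (kf xf12 yf25 zf59) (kf xf13 yf56 zf40) (kf xf21 yf40 zf48) (kf xf21 yf55 zf15) (kf xf14 yf1 zf0) (kf xf21 yf28 zf15) (kf xf16 yf7 zf9) (kf xf14 yf54 zf12) (kf xf14 yf28 zf54) (kf xf21 yf21 zf45) (kf xf21 yf32 zf34)) (@D3.rec (fun _ => Pt) (kf xf14 yf28 zf55) (kf xf13 yf53 zf28) (kf xf14 yf54 zf7) (kf xf21 yf55 zf6) (kf xf21 yf18 zf10) (kf xf21 yf32 zf22)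 (kf xf14 yf38 zf18) (kf xf13 yf44 zf49) (kf xf12 yf18 zf40) (kf xf12 yf1 zf0) (kf xf9 yf18 zf59) (kf xf12 yf0 zf60) (kf xf12 yf0 zf58) (kf xf21 yf8 zf39) (kf xf21 yf8 zf40) (kf xf16 yf2 zf43) (kf xf21 yf8 zf41) (kf xf21 yf55 zf53) (kf xf21 yf55 zf55) (kf xf18 yf23 zf2) (kf xf14 yf54 zf38) (kf xf21 yf8 zf43) (kf xf21 yf8 zf44) (kf xf13 yf51 zf43) (kf xf21 yf56 zf6) (kf xf21 yf56 zf10) (kf xf21 yf56 zf12) (kf xf6 yf41 zf39) (kf xf16 yf6 zf37) (kf xf21 yf8 zf45) (kf xf21 yf8 zf46) (kf xf13 yf51 zf41) (kf xf21 yf56 zf22) (kf xf21 yf56 zf24) (kf xf6 yf41 zf42) (kf xf21 yf8 zf49) (kf xf21 yf8 zf50) (kf xf21 yf8 zf51) (kf xf21 yf56 zf30) (kf xf14 yf54 zf41) (kf xf21 yf8 zf53) (kf xf11 yf19 zf25) (kf xf21 yf8 zf55) (kf xf21 yf8 zf56) (kf xf21 yf8 zf57) (kf xf21 yf8 zf58) (kf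 xf14 yf4 zf1) (kf xf13 yf16 zf19) (kf xf21 yf56 zf55) (kf xf13 yf16 zf1) (kf xf21 yf56 zf60) (kf xf7 yf30 zf33) (kf xf21 yf57 zf2) (kf xf21 yf41 zf1) (kf xf19 yf56 zf32) (kf xf6 yf41 zf50) (kf xf9 yf25 zf7) (kf xf8 yf12 zf32) (kf xf14 yf20 zf19) (kf xf14 yf20 zf16) (kf xf21 yf11 zf15) (kf xf6 yf41 zf53)) (@D3.rec (fun _ => Pt) (kf xf6 yf42 zf20) (kf xf20 yf44 zf4) (kf xf6 yf42 zf36) (kf xf6 yf42 zf38) (kf xf6 yf42 zf42) (kf xf6 yf42 zf39) (kf xf17 yf42 zf49) (kf xf17 yf42 zf54) (kf xf10 yf6 zf36) (kf xf12 yf31 zf32) (kf xf17 yf30 zf1) (kf xf14 yf1 zf36) (kf xf9 yf22 zf39) (kf xf21 yf46 zf5) (kf xf18 yf43 zf9) (kf xf21 yf57 zf28) (kf xf21 yf57 zf27) (kf xf21 yf57 zf37) (kf xf6 yf42 zf5) (kf xf12 yf24 zf54) (kf xf11 yf47 zf54) (kf xf6 yf42 zf6) (kf xf14 yf2 zf41) (kf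 xf11 yf33 zf22) (kf xf11 yf37 zf18) (kf xf15 yf5 zf19) (kf xf11 yf48 zf11) (kf xf11 yf33 zf19) (kf xf12 yf31 zf30) (kf xf18 yf1 zf33) (kf xf11 yf6 zf38) (kf xf18 yf1 zf36) (kf xf14 yf50 zf9) (kf xf13 yf55 zf40) (kf xf14 yf50 zf10) (kf xf14 yf50 zf6) (kf xf13 yf55 zf39) (kf xf14 yf50 zf7) (kf xf19 yf25 zf2) (kf xf14 yf50 zf13) (kf xf20 yf4 zf42) (kf xf6 yf42 zf16) (kf xf14 yf1 zf35) (kf xf21 yf46 zf4) (kf xf21 yf46 zf6) (kf xf17 yf34 zf48) (kf xf12 yf17 zf27) (kf xf12 yf29 zf17) (kf xf12 yf29 zf15) (kf xf21 yf1 zf1) (kf xf14 yf2 zf43) (kf xf16 yf46 zf61) (kf xf10 yf59 zf7) (kf xf21 yf35 zf56) (kf xf21 yf35 zf57) (kf xf20 yf29 zf12) (kf xf17 yf29 zf44) (kf xf21 yf57 zf20) (kf xf6 yf42 zf25) (kf xf12 yf56 zf41) (kf xf14 yf4 zf21) (kf xf17 yf5 zf49)) (@D3.rec (fun _ =>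 Pt) (kf xf12 yf32 zf22) (kf xf20 yf5 zf31) (kf xf17 yf12 zf46) (kf xf20 yf4 zf8) (kf xf13 yf1 zf26) (kf xf17 yf20 zf40) (kf xf9 yf13 zf42) (kf xf11 yf59 zf4) (kf xf16 yf47 zf12) (kf xf16 yf47 zf14) (kf xf18 yf5 zf10) (kf xf21 yf57 zf13) (kf xf12 yf26 zf48) (kf xf21 yf57 zf14) (kf xf9 yf29 zf28) (kf xf9 yf27 zf58) (kf xf8 yf41 zf51) (kf xf8 yf41 zf49) (kf xf21 yf33 zf40) (kf xf21 yf33 zf41) (kf xf12 yf19 zf45) (kf xf21 yf58 zf39) (kf xf17 yf39 zf23) (kf xf21 yf58 zf35) (kf xf21 yf58 zf44) (kf xf6 yf42 zf45) (kf xf21 yf57 zf19) (kf xf21 yf22 zf54) (kf xf21 yf57 zf12) (kf xf21 yf58 zf50) (kf xf6 yf42 zf46) (kf xf17 yf21 zf36) (kf xf19 yf28 zf17) (kf xf12 yf32 zf43) (kf xf17 yf21 zf34) (kf xf17 yf21 zf33) (kf xf15 yf37 zf0) (kf xf6 yf43 zf41) (kf xf12 yf17 zf11) (kf xf17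 yf29 zf27) (kf xf17 yf29 zf28) (kf xf17 yf29 zf29) (kf xf17 yf29 zf24) (kf xf17 yf29 zf25) (kf xf17 yf29 zf26) (kf xf17 yf16 zf17) (kf xf10 yf50 zf26) (kf xf12 yf18 zf1) (kf xf12 yf18 zf3) (kf xf12 yf17 zf61) (kf xf12 yf18 zf4) (kf xf12 yf17 zf56) (kf xf12 yf17 zf59) (kf xf6 yf43 zf2) (kf xf6 yf43 zf1) (kf xf21 yf26 zf43) (kf xf21 yf59 zf28) (kf xf21 yf59 zf30) (kf xf21 yf32 zf11) (kf xf6 yf43 zf0) (kf xf21 yf59 zf19) (kf xf21 yf59 zf20)) (@D3.rec (fun _ => Pt) (kf xf21 yf59 zf21) (kf xf18 yf36 zf36) (kf xf21 yf59 zf17) (kf xf21 yf59 zf40) (kf xf21 yf54 zf10) (kf xf21 yf59 zf47) (kf xf21 yf59 zf49) (kf xf6 yf43 zf3) (kf xf9 yf33 zf6) (kf xf12 yf17 zf52) (kf xf11 yf51 zf52) (kf xf6 yf45 zf33) (kf xf6 yf43 zf7) (kf xf20 yf6 zf50) (kf xf7 yf31 zf55) (kf xf17 yf19 zf21)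 (kf xf14 yf41 zf38) (kf xf11 yf48 zf15) (kf xf17 yf27 zf14) (kf xf6 yf43 zf25) (kf xf14 yf41 zf39) (kf xf6 yf43 zf30) (kf xf6 yf43 zf34) (kf xf6 yf43 zf33) (kf xf17 yf27 zf16) (kf xf6 yf43 zf44) (kf xf6 yf43 zf45) (kf xf6 yf43 zf47) (kf xf6 yf43 zf46) (kf xf17 yf27 zf19) (kf xf17 yf27 zf20) (kf xf7 yf34 zf7) (kf xf17 yf28 zf37) (kf xf7 yf34 zf4) (kf xf7 yf34 zf5) (kf xf7 yf34 zf10) (kf xf7 yf34 zf9) (kf xf17 yf34 zf6) (kf xf15 yf31 zf38) (kf xf7 yf39 zf26) (kf xf7 yf43 zf38) (kf xf22 yf0 zf0) (kf xf13 yf29 zf54) (kf xf7 yf48 zf28) (kf xf21 yf40 zf27) (kf xf22 yf0 zf1) (kf xf22 yf0 zf54) (kf xf6 yf43 zf27) (kf xf20 yf49 zf20) (kf xf17 yf12 zf2) (kf xf17 yf20 zf46) (kf xf22 yf0 zf3) (kf xf22 yf1 zf4) (kf xf17 yf20 zf47) (kf xf22 yf1 zf10) (kf xf20 yf49 zf22) (kf xf22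 yf0 zf7) (kf xf9 yf21 zf25) (kf xf18 yf49 zf3) (kf xf22 yf0 zf5) (kf xf22 yf0 zf6) (kf xf22 yf1 zf25)) (@D3.rec (fun _ => Pt) (kf xf22 yf0 zf10) (kf xf22 yf0 zf9) (kf xf22 yf1 zf36) (kf xf22 yf0 zf23) (kf xf6 yf43 zf35) (kf xf19 yf13 zf48) (kf xf17 yf17 zf54) (kf xf17 yf17 zf57) (kf xf22 yf1 zf47) (kf xf17 yf17 zf61) (kf xf17 yf18 zf0) (kf xf9 yf28 zf51) (kf xf13 yf1 zf18) (kf xf21 yf21 zf36) (kf xf21 yf31 zf4) (kf xf21 yf58 zf58) (kf xf15 yf36 zf59) (kf xf9 yf21 zf32) (kf xf22 yf0 zf13) (kf xf22 yf0 zf14) (kf xf22 yf0 zf15) (kf xf22 yf0 zf16) (kf xf14 yf44 zf34) (kf xf22 yf0 zf17) (kf xf16 yf3 zf41) (kf xf16 yf43 zf1) (kf xf12 yf15 zf50) (kf xf21 yf46 zf14) (kf xf21 yf33 zf14) (kf xf22 yf2 zf12) (kf xf22 yf2 zf21) (kf xf6 yf43 zf48) (kf xf22 yf0 zf22) (kf xf21 yf0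 zf21) (kf xf22 yf0 zf12) (kf xf21 yf0 zf13) (kf xf6 yf43 zf49) (kf xf12 yf25 zf14) (kf xf12 yf25 zf13) (kf xf17 yf30 zf47) (kf xf17 yf30 zf48) (kf xf17 yf30 zf49) (kf xf17 yf16 zf52) (kf xf8 yf55 zf49) (kf xf17 yf30 zf37) (kf xf17 yf30 zf38) (kf xf17 yf30 zf39) (kf xf17 yf10 zf22) (kf xf17 yf22 zf5) (kf xf12 yf18 zf50) (kf xf12 yf25 zf61) (kf xf12 yf26 zf1) (kf xf12 yf19 zf33) (kf xf12 yf25 zf57) (kf xf12 yf25 zf53) (kf xf11 yf14 zf53) (kf xf12 yf17 zf54) (kf xf11 yf15 zf2) (kf xf6 yf44 zf5) (kf xf6 yf44 zf4) (kf xf22 yf2 zf61) (kf xf12 yf46 zf13)) (@D3.rec (fun _ => Pt) (kf xf6 yf44 zf3) (kf xf20 yf15 zf59) (kf xf22 yf2 zf58) (kf xf16 yf33 zf39) (kf xf21 yf54 zf1) (kf xf21 yf53 zf48) (kf xf22 yf3 zf4) (kf xf22 yf3 zf11) (kf xf20 yf15 zf53) (kf xf6 yf44 zf6) (kf xf6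 yf48 zf25) (kf xf12 yf25 zf48) (kf xf20 yf15 zf54) (kf xf10 yf45 zf25) (kf xf9 yf8 zf40) (kf xf20 yf52 zf5) (kf xf17 yf6 zf20) (kf xf17 yf6 zf22) (kf xf17 yf6 zf23) (kf xf12 yf44 zf29) (kf xf21 yf1 zf33) (kf xf12 yf28 zf17) (kf xf16 yf14 zf15) (kf xf17 yf5 zf5) (kf xf6 yf44 zf25) (kf xf17 yf5 zf10) (kf xf9 yf6 zf1) (kf xf22 yf3 zf15) (kf xf12 yf43 zf29) (kf xf17 yf6 zf29) (kf xf8 yf36 zf16) (kf xf12 yf37 zf38) (kf xf6 yf44 zf50) (kf xf6 yf44 zf31) (kf xf11 yf40 zf32) (kf xf20 yf23 zf16) (kf xf21 yf48 zf5) (kf xf10 yf6 zf15) (kf xf21 yf20 zf56) (kf xf6 yf44 zf35) (kf xf9 yf49 zf4) (kf xf17 yf4 zf51) (kf xf14 yf6 zf49) (kf xf17 yf4 zf48) (kf xf17 yf4 zf49) (kf xf17 yf4 zf52) (kf xf11 yf51 zf32) (kf xf22 yf3 zf34) (kf xf6 yf44 zf38) (kf xf17 yf4 zf56) (kf xf11 yf16 zf15)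 (kf xf17 yf4 zf58) (kf xf11 yf56 zf41) (kf xf17 yf4 zf60) (kf xf17 yf4 zf59) (kf xf20 yf9 zf43) (kf xf21 yf32 zf14) (kf xf6 yf44 zf43) (kf xf6 yf45 zf2) (kf xf10 yf18 zf7) (kf xf6 yf44 zf55) (kf xf10 yf12 zf42)) (@D3.rec (fun _ => Pt) (kf xf6 yf44 zf58) (kf xf10 yf45 zf34) (kf xf19 yf6 zf56) (kf xf19 yf40 zf34) (kf xf17 yf4 zf45) (kf xf17 yf4 zf46) (kf xf22 yf3 zf43) (kf xf21 yf54 zf51) (kf xf20 yf12 zf7) (kf xf18 yf22 zf29) (kf xf16 yf43 zf34) (kf xf17 yf33 zf10) (kf xf11 yf54 zf13) (kf xf18 yf22 zf13) (kf xf22 yf3 zf46) (kf xf11 yf53 zf43) (kf xf22 yf4 zf4) (kf xf18 yf22 zf28) (kf xf17 yf33 zf18) (kf xf22 yf4 zf6) (kf xf6 yf44 zf59) (kf xf12 yf3 zf39) (kf xf18 yf42 zf55) (kf xf18 yf15 zf12) (kf xf22 yf3 zf44) (kf xf15 yf43 zf45) (kf xf17 yf5 zf9) (kf xf12 yf24 zf22)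 (kf xf6 yf45 zf3) (kf xf11 yf53 zf42) (kf xf16 yf47 zf61) (kf xf12 yf54 zf40) (kf xf21 yf1 zf18) (kf xf15 yf30 zf14) (kf xf20 yf56 zf17) (kf xf21 yf57 zf61) (kf xf19 yf14 zf20) (kf xf21 yf1 zf20) (kf xf21 yf1 zf21) (kf xf16 yf11 zf10) (kf xf12 yf54 zf31) (kf xf21 yf1 zf23) (kf xf21 yf1 zf24) (kf xf22 yf4 zf24) (kf xf16 yf59 zf27) (kf xf17 yf33 zf21) (kf xf11 yf57 zf22) (kf xf16 yf51 zf8) (kf xf6 yf45 zf15) (kf xf11 yf26 zf0) (kf xf12 yf58 zf44) (kf xf17 yf15 zf47) (kf xf11 yf57 zf15) (kf xf17 yf33 zf32) (kf xf17 yf33 zf33) (kf xf17 yf33 zf34) (kf xf22 yf4 zf42) (kf xf11 yf21 zf7) (kf xf22 yf4 zf30) (kf xf10 yf58 zf25) (kf xf6 yf45 zf20) (kf xf12 yf37 zf48)) (@D3.rec (fun _ => Pt) (kf xf17 yf7 zf31) (kf xf12 yf3 zf59) (kf xf17 yf32 zf7) (kf xf12 yf24 zf48) (kf xf17 yf33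 zf14) (kf xf12 yf3 zf51) (kf xf18 yf58 zf1) (kf xf17 yf33 zf11) (kf xf11 yf48 zf45) (kf xf12 yf56 zf38) (kf xf18 yf17 zf29) (kf xf17 yf33 zf36) (kf xf17 yf33 zf37) (kf xf17 yf33 zf38) (kf xf21 yf59 zf54) (kf xf17 yf32 zf12) (kf xf12 yf20 zf56) (kf xf6 yf45 zf36) (kf xf12 yf3 zf61) (kf xf13 yf58 zf38) (kf xf10 yf45 zf30) (kf xf16 yf52 zf47) (kf xf16 yf51 zf5) (kf xf15 yf3 zf57) (kf xf17 yf32 zf20) (kf xf17 yf33 zf2) (kf xf9 yf8 zf39) (kf xf17 yf8 zf33) (kf xf17 yf33 zf4) (kf xf19 yf32 zf39) (kf xf17 yf1 zf55) (kf xf17 yf7 zf50) (kf xf17 yf7 zf52) (kf xf11 yf28 zf48) (kf xf8 yf11 zf19) (kf xf17 yf33 zf15) (kf xf17 yf33 zf16) (kf xf16 yf11 zf32) (kf xf17 yf33 zf43) (kf xf16 yf11 zf20) (kf xf17 yf33 zf44) (kf xf9 yf51 zf6) (kf xf9 yf46 zf53) (kf xf14 yf47 zf13) (kf xf17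 yf33 zf46) (kf xf17 yf33 zf47) (kf xf17 yf53 zf26) (kf xf8 yf59 zf9) (kf xf10 yf57 zf34) (kf xf17 yf33 zf40) (kf xf17 yf33 zf41) (kf xf10 yf53 zf46) (kf xf20 yf53 zf10) (kf xf11 yf1 zf27) (kf xf6 yf46 zf2) (kf xf15 yf25 zf29) (kf xf15 yf25 zf28) (kf xf10 yf53 zf9) (kf xf17 yf32 zf47) (kf xf17 yf33 zf48) (kf xf17 yf33 zf49) (kf xf8 yf10 zf58)) (@D3.rec (fun _ => Pt) (kf xf15 yf27 zf37) (kf xf6 yf46 zf10) (kf xf6 yf46 zf9) (kf xf22 yf5 zf54) (kf xf22 yf5 zf58) (kf xf17 yf42 zf29) (kf xf6 yf46 zf8) (kf xf22 yf5 zf47) (kf xf22 yf5 zf48) (kf xf17 yf14 zf7) (kf xf17 yf12 zf36) (kf xf17 yf12 zf35) (kf xf16 yf7 zf46) (kf xf17 yf12 zf25) (kf xf20 yf7 zf2) (kf xf11 yf51 zf40) (kf xf17 yf34 zf5) (kf xf17 yf34 zf4) (kf xf10 yf5 zf23) (kf xf6 yf49 zf40) (kf xf12 yf56 zf21) (kf xf12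 yf56 zf20) (kf xf6 yf51 zf7) (kf xf6 yf51 zf12) (kf xf6 yf50 zf27) (kf xf6 yf50 zf31) (kf xf6 yf51 zf15) (kf xf12 yf5 zf46) (kf xf6 yf51 zf17) (kf xf9 yf51 zf19) (kf xf17 yf34 zf38) (kf xf17 yf34 zf39) (kf xf20 yf25 zf9) (kf xf12 yf46 zf55) (kf xf18 yf38 zf26) (kf xf10 yf49 zf2) (kf xf17 yf34 zf35) (kf xf17 yf34 zf36) (kf xf12 yf55 zf9) (kf xf6 yf46 zf40) (kf xf17 yf34 zf43) (kf xf12 yf49 zf59) (kf xf9 yf29 zf8) (kf xf9 yf44 zf11) (kf xf12 yf58 zf8) (kf xf12 yf20 zf52) (kf xf12 yf25 zf42) (kf xf12 yf25 zf36) (kf xf12 yf4 zf7) (kf xf9 yf30 zf28) (kf xf12 yf3 zf34) (kf xf16 yf56 zf52) (kf xf7 yf27 zf32) (kf xf9 yf32 zf33) (kf xf6 yf56 zf30) (kf xf17 yf16 zf60) (kf xf17 yf20 zf34) (kf xf15 yf40 zf30) (kf xf22 yf6 zf38) (kf xf17 yf20 zf36) (kf xf7 yf0 zf33) (kf xf17 yf28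 zf33)) (@D3.rec (fun _ => Pt) (kf xf13 yf5 zf33) (kf xf17 yf34 zf9) (kf xf17 yf26 zf57) (kf xf17 yf34 zf10) (kf xf17 yf34 zf11) (kf xf15 yf40 zf59) (kf xf22 yf6 zf52) (kf xf16 yf57 zf43) (kf xf17 yf26 zf61) (kf xf17 yf27 zf0) (kf xf17 yf34 zf12) (kf xf17 yf34 zf13) (kf xf9 yf16 zf10) (kf xf18 yf55 zf50) (kf xf17 yf34 zf14) (kf xf17 yf34 zf15) (kf xf9 yf16 zf54) (kf xf9 yf27 zf21) (kf xf8 yf32 zf19) (kf xf15 yf40 zf40) (kf xf22 yf6 zf36) (kf xf22 yf6 zf35) (kf xf22 yf7 zf15) (kf xf6 yf47 zf9) (kf xf17 yf27 zf7) (kf xf17 yf21 zf22) (kf xf9 yf21 zf24) (kf xf17 yf27 zf8) (kf xf9 yf23 zf54) (kf xf9 yf23 zf55) (kf xf9 yf24 zf35) (kf xf9 yf27 zf41) (kf xf9 yf27 zf42) (kf xf9 yf27 zf43) (kf xf9 yf27 zf45) (kf xf22 yf7 zf28) (kf xf17 yf21 zf30) (kf xf17 yf11 zf9) (kf xf14 yf35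 zf23) (kf xf6 yf47 zf25) (kf xf10 yf57 zf25) (kf xf6 yf47 zf19) (kf xf17 yf34 zf25) (kf xf17 yf34 zf26) (kf xf17 yf34 zf28) (kf xf15 yf28 zf20) (kf xf17 yf34 zf29) (kf xf17 yf34 zf30) (kf xf17 yf34 zf31) (kf xf17 yf34 zf32) (kf xf20 yf5 zf12) (kf xf20 yf5 zf22) (kf xf16 yf57 zf48) (kf xf14 yf20 zf46) (kf xf14 yf36 zf59) (kf xf21 yf51 zf58) (kf xf22 yf7 zf32) (kf xf9 yf6 zf29) (kf xf10 yf57 zf26) (kf xf17 yf34 zf40) (kf xf17 yf34 zf41) (kf xf15 yf24 zf39)) (@D3.rec (fun _ => Pt) (kf xf13 yf10 zf58) (kf xf17 yf34 zf44) (kf xf12 yf4 zf37) (kf xf11 yf26 zf30) (kf xf11 yf26 zf33) (kf xf11 yf26 zf36) (kf xf17 yf34 zf45) (kf xf22 yf8 zf0) (kf xf12 yf56 zf44) (kf xf6 yf47 zf36) (kf xf6 yf47 zf59) (kf xf6 yf47 zf61) (kf xf8 yf56 zf16) (kf xf10 yf43 zf39) (kf xf12 yf32 zf30)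 (kf xf12 yf25 zf50) (kf xf17 yf34 zf57) (kf xf9 yf39 zf14) (kf xf12 yf17 zf19) (kf xf14 yf12 zf6) (kf xf14 yf12 zf2) (kf xf17 yf34 zf53) (kf xf7 yf20 zf5) (kf xf14 yf12 zf14) (kf xf17 yf43 zf4) (kf xf17 yf27 zf25) (kf xf17 yf34 zf58) (kf xf10 yf51 zf4) (kf xf17 yf34 zf59) (kf xf17 yf34 zf60) (kf xf12 yf40 zf17) (kf xf13 yf0 zf44) (kf xf7 yf31 zf44) (kf xf7 yf31 zf41) (kf xf12 yf20 zf24) (kf xf12 yf20 zf33) (kf xf12 yf35 zf41) (kf xf12 yf15 zf13) (kf xf9 yf19 zf11) (kf xf9 yf10 zf42) (kf xf9 yf10 zf10) (kf xf9 yf10 zf2) (kf xf22 yf8 zf2) (kf xf22 yf8 zf3) (kf xf12 yf54 zf50) (kf xf12 yf35 zf19) (kf xf18 yf50 zf21) (kf xf18 yf50 zf6) (kf xf20 yf19 zf34) (kf xf10 yf8 zf61) (kf xf19 yf0 zf42) (kf xf11 yf59 zf46) (kf xf11 yf59 zf47) (kf xf13 yf4 zf24) (kf xf12 yf19 zf1)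 (kf xf12 yf24 zf34) (kf xf11 yf59 zf57) (kf xf14 yf56 zf39) (kf xf14 yf56 zf40) (kf xf14 yf56 zf41) (kf xf14 yf15 zf32) (kf xf22 yf8 zf55)) (@D3.rec (fun _ => Pt) (kf xf12 yf24 zf45) (kf xf17 yf35 zf10) (kf xf12 yf45 zf5) (kf xf17 yf35 zf11) (kf xf17 yf35 zf12) (kf xf18 yf39 zf28) (kf xf12 yf0 zf18) (kf xf12 yf0 zf19) (kf xf17 yf14 zf42) (kf xf12 yf0 zf20) (kf xf12 yf0 zf21) (kf xf12 yf0 zf23) (kf xf12 yf15 zf59) (kf xf12 yf0 zf24) (kf xf12 yf0 zf26) (kf xf12 yf0 zf27) (kf xf19 yf38 zf54) (kf xf16 yf2 zf10) (kf xf17 yf22 zf6) (kf xf16 yf4 zf61) (kf xf8 yf24 zf42) (kf xf12 yf0 zf31) (kf xf16 yf7 zf61) (kf xf12 yf0 zf33) (kf xf12 yf0 zf34) (kf xf12 yf42 zf47) (kf xf16 yf8 zf58) (kf xf16 yf8 zf59) (kf xf12 yf27 zf33) (kf xf12 yf17 zf53) (kf xf9 yf14 zf29) (kf xf13 yf0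 zf35) (kf xf13 yf0 zf36) (kf xf13 yf0 zf37) (kf xf13 yf0 zf38) (kf xf13 yf0 zf39) (kf xf8 yf19 zf42) (kf xf12 yf33 zf20) (kf xf14 yf27 zf53) (kf xf8 yf19 zf43) (kf xf16 yf6 zf40) (kf xf13 yf0 zf41) (kf xf13 yf0 zf42) (kf xf13 yf0 zf43) (kf xf15 yf27 zf22) (kf xf15 yf27 zf23) (kf xf21 yf35 zf39) (kf xf6 yf48 zf38) (kf xf6 yf48 zf39) (kf xf12 yf20 zf51) (kf xf8 yf35 zf37) (kf xf12 yf20 zf50) (kf xf12 yf4 zf9) (kf xf9 yf18 zf27) (kf xf9 yf18 zf25) (kf xf9 yf18 zf26) (kf xf15 yf46 zf22) (kf xf17 yf45 zf13) (kf xf17 yf45 zf12) (kf xf22 yf10 zf2) (kf xf6 yf48 zf49) (kf xf9 yf0 zf18))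
def f_f_13 : D2 → D3 → Pt := @D2.rec (fun _ => D3 → Pt) (@D3.rec (fun _ => Pt) (kf xf6 yf48 zf50) (kf xf21 yf10 zf10) (kf xf21 yf10 zf11) (kf xf12 yf21 zf8) (kf xf22 yf10 zf10) (kf xf21 yf10 zf13) (kf xf16 yf6 zf29) (kf xf21 yf10 zf14) (kf xf21 yf10 zf15) (kf xf22 yf10 zf25) (kf xf12 yf21 zf9) (kf xf22 yf10 zf30) (kf xf12 yf18 zf12) (kf xf19 yf57 zf30) (kf xf6 yf48 zf55) (kf xf12 yf20 zf12) (kf xf12 yf20 zf11) (kf xf21 yf10 zf18) (kf xf12 yf21 zf11) (kf xf16 yf13 zf34) (kf xf14 yf11 zf22) (kf xf21 yf10 zf20) (kf xf16 yf6 zf12) (kf xf12 yf21 zf12) (kf xf12 yf26 zf7) (kf xf21 yf10 zf16) (kf xf11 yf21 zf37) (kf xf6 yf48 zf59) (kf xf12 yf12 zf26) (kf xf21 yf9 zf30) (kf xf21 yf21 zf17) (kf xf21 yf21 zf16) (kf xf22 yf10 zf45) (kf xf6 yf49 zf4) (kf xf12 yf33 zf19) (kf xf12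 yf59 zf31) (kf xf12 yf59 zf32) (kf xf12 yf59 zf33) (kf xf12 yf59 zf34) (kf xf12 yf59 zf35) (kf xf22 yf10 zf56) (kf xf12 yf59 zf41) (kf xf12 yf59 zf42) (kf xf12 yf59 zf43) (kf xf12 yf58 zf31) (kf xf7 yf26 zf57) (kf xf7 yf26 zf58) (kf xf6 yf49 zf37) (kf xf6 yf49 zf38) (kf xf6 yf50 zf55) (kf xf18 yf22 zf30) (kf xf11 yf21 zf54) (kf xf12 yf33 zf41) (kf xf7 yf30 zf43) (kf xf22 yf11 zf6) (kf xf13 yf58 zf50) (kf xf12 yf24 zf49) (kf xf6 yf50 zf15) (kf xf22 yf11 zf3) (kf xf21 yf57 zf31) (kf xf14 yf13 zf47) (kf xf21 yf52 zf8)) (@D3.rec (fun _ => Pt) (kf xf18 yf15 zf13) (kf xf18 yf37 zf22) (kf xf22 yf6 zf8) (kf xf11 yf18 zf60) (kf xf9 yf29 zf29) (kf xf12 yf14 zf59) (kf xf11 yf20 zf4) (kf xf9 yf17 zf13) (kf xf12 yf15 zf29) (kf xf12 yf26 zf58) (kf xf12 yf17 zf24) (kf xf12 yf17 zf25)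 (kf xf11 yf59 zf51) (kf xf17 yf44 zf14) (kf xf17 yf44 zf18) (kf xf12 yf32 zf55) (kf xf9 yf27 zf25) (kf xf9 yf27 zf26) (kf xf12 yf52 zf12) (kf xf13 yf1 zf46) (kf xf18 yf42 zf53) (kf xf9 yf31 zf4) (kf xf6 yf50 zf6) (kf xf19 yf37 zf8) (kf xf22 yf11 zf24) (kf xf6 yf50 zf8) (kf xf12 yf50 zf4) (kf xf22 yf11 zf28) (kf xf22 yf11 zf32) (kf xf6 yf50 zf12) (kf xf11 yf30 zf20) (kf xf11 yf33 zf28) (kf xf14 yf13 zf49) (kf xf17 yf26 zf40) (kf xf17 yf29 zf48) (kf xf14 yf20 zf4) (kf xf21 yf36 zf58) (kf xf14 yf33 zf12) (kf xf9 yf13 zf26) (kf xf12 yf17 zf47) (kf xf12 yf30 zf55) (kf xf15 yf5 zf26) (kf xf12 yf17 zf46) (kf xf10 yf5 zf13) (kf xf17 yf58 zf21) (kf xf14 yf10 zf15) (kf xf13 yf1 zf19) (kf xf14 yf5 zf0) (kf xf14 yf4 zf61) (kf xf6 yf50 zf36) (kf xf11 yf44 zf61) (kf xf11 yf30 zf57)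 (kf xf16 yf57 zf52) (kf xf11 yf46 zf56) (kf xf17 yf20 zf38) (kf xf17 yf34 zf47) (kf xf9 yf48 zf2) (kf xf11 yf10 zf50) (kf xf17 yf30 zf3) (kf xf17 yf30 zf5) (kf xf9 yf26 zf58) (kf xf9 yf10 zf14)) (@D3.rec (fun _ => Pt) (kf xf14 yf1 zf34) (kf xf7 yf20 zf8) (kf xf21 yf30 zf56) (kf xf20 yf14 zf13) (kf xf21 yf36 zf38) (kf xf12 yf19 zf4) (kf xf12 yf13 zf50) (kf xf15 yf43 zf9) (kf xf12 yf17 zf26) (kf xf20 yf23 zf61) (kf xf12 yf30 zf25) (kf xf12 yf9 zf50) (kf xf20 yf59 zf29) (kf xf22 yf6 zf20) (kf xf11 yf30 zf50) (kf xf20 yf23 zf33) (kf xf20 yf26 zf13) (kf xf18 yf24 zf13) (kf xf11 yf33 zf47) (kf xf12 yf10 zf13) (kf xf14 yf39 zf19) (kf xf20 yf28 zf16) (kf xf10 yf45 zf19) (kf xf15 yf30 zf22) (kf xf10 yf45 zf20) (kf xf19 yf20 zf57) (kf xf21 yf59 zf29) (kf xf22 yf6 zf11) (kf xf22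 yf6 zf12) (kf xf11 yf24 zf36) (kf xf11 yf10 zf52) (kf xf9 yf19 zf59) (kf xf9 yf19 zf56) (kf xf7 yf25 zf37) (kf xf7 yf10 zf22) (kf xf13 yf26 zf15) (kf xf13 yf26 zf16) (kf xf13 yf26 zf17) (kf xf13 yf26 zf18) (kf xf7 yf27 zf40) (kf xf22 yf12 zf17) (kf xf6 yf54 zf10) (kf xf7 yf28 zf9) (kf xf7 yf30 zf4) (kf xf7 yf30 zf5) (kf xf7 yf29 zf60) (kf xf22 yf12 zf26) (kf xf13 yf10 zf14) (kf xf17 yf11 zf11) (kf xf13 yf14 zf53) (kf xf13 yf14 zf52) (kf xf22 yf12 zf34) (kf xf6 yf51 zf33) (kf xf17 yf11 zf12) (kf xf6 yf51 zf58) (kf xf6 yf51 zf59) (kf xf6 yf57 zf13) (kf xf6 yf51 zf36) (kf xf6 yf51 zf40) (kf xf6 yf52 zf17) (kf xf6 yf52 zf10) (kf xf13 yf12 zf48)) (@D3.rec (fun _ => Pt) (kf xf13 yf4 zf55) (kf xf13 yf4 zf54) (kf xf10 yf25 zf60) (kf xf11 yf44 zf18) (kf xf13 yf12 zf45) (kf xf14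 yf16 zf39) (kf xf13 yf49 zf47) (kf xf6 yf53 zf25) (kf xf6 yf53 zf24) (kf xf22 yf12 zf51) (kf xf6 yf51 zf48) (kf xf6 yf53 zf31) (kf xf6 yf53 zf34) (kf xf6 yf53 zf33) (kf xf13 yf6 zf7) (kf xf13 yf20 zf16) (kf xf22 yf12 zf36) (kf xf13 yf4 zf56) (kf xf13 yf4 zf57) (kf xf13 yf4 zf59) (kf xf11 yf25 zf14) (kf xf17 yf56 zf21) (kf xf14 yf33 zf28) (kf xf20 yf46 zf24) (kf xf21 yf3 zf23) (kf xf13 yf19 zf33) (kf xf22 yf12 zf37) (kf xf22 yf12 zf38) (kf xf13 yf50 zf1) (kf xf13 yf12 zf51) (kf xf20 yf43 zf17) (kf xf22 yf13 zf31) (kf xf7 yf31 zf15) (kf xf12 yf34 zf8) (kf xf13 yf22 zf37) (kf xf7 yf52 zf57) (kf xf13 yf22 zf39) (kf xf20 yf39 zf54) (kf xf13 yf11 zf26) (kf xf13 yf11 zf38) (kf xf22 yf13 zf45) (kf xf14 yf41 zf25) (kf xf14 yf41 zf26) (kf xf13 yf12 zf49) (kf xf22 yf12 zf39) (kf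 xf22 yf13 zf58) (kf xf6 yf54 zf28) (kf xf6 yf52 zf4) (kf xf17 yf23 zf41) (kf xf6 yf53 zf8) (kf xf6 yf53 zf10) (kf xf6 yf53 zf13) (kf xf13 yf21 zf34) (kf xf13 yf21 zf38) (kf xf13 yf50 zf3) (kf xf13 yf12 zf53) (kf xf13 yf12 zf55) (kf xf20 yf43 zf3) (kf xf22 yf14 zf20) (kf xf6 yf53 zf32) (kf xf13 yf50 zf4) (kf xf6 yf54 zf18)) (@D3.rec (fun _ => Pt) (kf xf6 yf54 zf12) (kf xf13 yf24 zf18) (kf xf13 yf24 zf22) (kf xf6 yf53 zf53) (kf xf6 yf53 zf52) (kf xf14 yf12 zf57) (kf xf7 yf52 zf53) (kf xf22 yf12 zf41) (kf xf20 yf42 zf59) (kf xf6 yf54 zf9) (kf xf7 yf52 zf54) (kf xf14 yf14 zf53) (kf xf13 yf53 zf58) (kf xf13 yf4 zf17) (kf xf13 yf4 zf18) (kf xf7 yf4 zf6) (kf xf7 yf11 zf50) (kf xf13 yf4 zf13) (kf xf13 yf4 zf14) (kf xf7 yf20 zf53) (kf xf7 yf20 zf54) (kf xf14 yf3 zf32) (kf xf14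 yf3 zf33) (kf xf22 yf14 zf47) (kf xf12 yf58 zf53) (kf xf6 yf54 zf3) (kf xf22 yf14 zf55) (kf xf14 yf32 zf21) (kf xf14 yf56 zf47) (kf xf14 yf56 zf48) (kf xf6 yf59 zf12) (kf xf13 yf52 zf13) (kf xf22 yf15 zf1) (kf xf13 yf26 zf32) (kf xf13 yf26 zf33) (kf xf13 yf26 zf34) (kf xf13 yf37 zf5) (kf xf7 yf2 zf3) (kf xf22 yf15 zf7) (kf xf14 yf56 zf49) (kf xf22 yf15 zf15) (kf xf22 yf14 zf46) (kf xf22 yf14 zf45) (kf xf6 yf52 zf43) (kf xf7 yf26 zf21) (kf xf7 yf26 zf22) (kf xf7 yf26 zf23) (kf xf7 yf26 zf24) (kf xf10 yf40 zf27) (kf xf6 yf59 zf47) (kf xf7 yf33 zf34) (kf xf13 yf7 zf10) (kf xf18 yf53 zf36) (kf xf7 yf32 zf36) (kf xf13 yf3 zf1) (kf xf13 yf3 zf0) (kf xf13 yf3 zf17) (kf xf13 yf3 zf18) (kf xf12 yf33 zf9) (kf xf13 yf3 zf19) (kf xf10 yf25 zf17) (kf xf12 yf33 zf13)) (@D3.rec (fun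 _ => Pt) (kf xf12 yf33 zf12) (kf xf8 yf30 zf42) (kf xf13 yf52 zf14) (kf xf22 yf15 zf41) (kf xf18 yf53 zf31) (kf xf6 yf52 zf58) (kf xf13 yf26 zf7) (kf xf13 yf26 zf8) (kf xf7 yf54 zf48) (kf xf13 yf26 zf9) (kf xf22 yf15 zf50) (kf xf14 yf9 zf54) (kf xf22 yf12 zf18) (kf xf14 yf0 zf54) (kf xf11 yf41 zf20) (kf xf14 yf15 zf60) (kf xf14 yf15 zf59) (kf xf22 yf13 zf61) (kf xf11 yf41 zf28) (kf xf6 yf57 zf55) (kf xf22 yf14 zf0) (kf xf7 yf26 zf12) (kf xf22 yf16 zf8) (kf xf6 yf53 zf11) (kf xf22 yf14 zf2) (kf xf22 yf16 zf12) (kf xf11 yf30 zf12) (kf xf20 yf6 zf36) (kf xf6 yf53 zf15) (kf xf6 yf53 zf19) (kf xf6 yf53 zf18) (kf xf22 yf16 zf20) (kf xf6 yf53 zf16) (kf xf12 yf57 zf0) (kf xf22 yf16 zf16) (kf xf14 yf48 zf16) (kf xf22 yf16 zf14) (kf xf22 yf16 zf15) (kf xf10 yf40 zf7) (kf xf22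 yf16 zf18) (kf xf22 yf16 zf17) (kf xf22 yf16 zf36) (kf xf6 yf53 zf20) (kf xf11 yf46 zf51) (kf xf11 yf46 zf57) (kf xf21 yf49 zf35) (kf xf20 yf40 zf53) (kf xf20 yf40 zf54) (kf xf9 yf30 zf57) (kf xf22 yf12 zf49) (kf xf22 yf12 zf48) (kf xf22 yf16 zf52) (kf xf6 yf53 zf26) (kf xf13 yf56 zf11) (kf xf14 yf0 zf55) (kf xf14 yf48 zf15) (kf xf7 yf11 zf34) (kf xf14 yf0 zf57) (kf xf22 yf17 zf4) (kf xf22 yf12 zf52) (kf xf22 yf17 zf10) (kf xf7 yf53 zf35)) (@D3.rec (fun _ => Pt) (kf xf22 yf12 zf56) (kf xf22 yf12 zf57) (kf xf22 yf17 zf17) (kf xf22 yf12 zf54) (kf xf22 yf17 zf22) (kf xf13 yf35 zf45) (kf xf22 yf17 zf28) (kf xf13 yf3 zf14) (kf xf6 yf53 zf35) (kf xf22 yf16 zf53) (kf xf13 yf45 zf21) (kf xf14 yf48 zf14) (kf xf13 yf49 zf50) (kf xf22 yf17 zf40) (kf xf7 yf15 zf45) (kf xf7 yf6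 zf57) (kf xf7 yf10 zf41) (kf xf11 yf26 zf58) (kf xf14 yf5 zf35) (kf xf13 yf8 zf51) (kf xf14 yf6 zf23) (kf xf14 yf2 zf6) (kf xf14 yf9 zf39) (kf xf14 yf1 zf43) (kf xf13 yf58 zf16) (kf xf15 yf50 zf21) (kf xf14 yf9 zf37) (kf xf14 yf9 zf38) (kf xf14 yf9 zf40) (kf xf20 yf45 zf53) (kf xf15 yf50 zf20) (kf xf6 yf53 zf50) (kf xf14 yf9 zf41) (kf xf14 yf12 zf50) (kf xf8 yf12 zf41) (kf xf13 yf9 zf1) (kf xf11 yf41 zf0) (kf xf13 yf17 zf31) (kf xf22 yf17 zf59) (kf xf6 yf53 zf58) (kf xf14 yf14 zf14) (kf xf14 yf14 zf48) (kf xf22 yf18 zf0) (kf xf16 yf57 zf28) (kf xf14 yf14 zf15) (kf xf22 yf18 zf5) (kf xf6 yf54 zf1) (kf xf14 yf14 zf49) (kf xf22 yf14 zf27) (kf xf14 yf3 zf45) (kf xf22 yf14 zf51) (kf xf9 yf30 zf17) (kf xf9 yf30 zf20) (kf xf22 yf12 zf45) (kf xf19 yf19 zf36) (kf xf22 yf18 zf24)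 (kf xf6 yf54 zf5) (kf xf13 yf18 zf24) (kf xf13 yf33 zf58) (kf xf22 yf18 zf30) (kf xf13 yf56 zf12) (kf xf13 yf18 zf21)) (@D3.rec (fun _ => Pt) (kf xf13 yf53 zf46) (kf xf22 yf14 zf22) (kf xf22 yf18 zf41) (kf xf13 yf18 zf27) (kf xf12 yf30 zf43) (kf xf22 yf18 zf46) (kf xf14 yf3 zf41) (kf xf12 yf30 zf41) (kf xf22 yf18 zf53) (kf xf15 yf14 zf52) (kf xf13 yf4 zf51) (kf xf22 yf14 zf21) (kf xf22 yf18 zf61) (kf xf14 yf19 zf50) (kf xf13 yf41 zf35) (kf xf14 yf10 zf24) (kf xf14 yf10 zf25) (kf xf13 yf29 zf3) (kf xf14 yf10 zf20) (kf xf14 yf10 zf21) (kf xf14 yf10 zf22) (kf xf14 yf10 zf27) (kf xf14 yf10 zf26) (kf xf22 yf19 zf22) (kf xf6 yf54 zf22) (kf xf6 yf55 zf56) (kf xf6 yf56 zf47) (kf xf6 yf56 zf49) (kf xf6 yf56 zf53) (kf xf13 yf11 zf50) (kf xf6 yf57 zf6) (kf xf6 yf57 zf7) (kf xf13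 yf11 zf6) (kf xf6 yf57 zf2) (kf xf6 yf57 zf3) (kf xf20 yf47 zf36) (kf xf6 yf57 zf11) (kf xf6 yf57 zf10) (kf xf22 yf13 zf57) (kf xf20 yf44 zf29) (kf xf6 yf54 zf44) (kf xf6 yf55 zf22) (kf xf6 yf57 zf47) (kf xf6 yf57 zf48) (kf xf6 yf57 zf27) (kf xf6 yf57 zf26) (kf xf6 yf57 zf50) (kf xf6 yf57 zf54) (kf xf6 yf57 zf28) (kf xf22 yf19 zf50) (kf xf7 yf9 zf7) (kf xf7 yf25 zf35) (kf xf14 yf52 zf37) (kf xf14 yf26 zf24) (kf xf14 yf25 zf50) (kf xf14 yf25 zf49) (kf xf14 yf52 zf60) (kf xf13 yf50 zf6) (kf xf14 yf52 zf61) (kf xf13 yf11 zf59) (kf xf10 yf33 zf32) (kf xf14 yf38 zf61)) (@D3.rec (fun _ => Pt) (kf xf14 yf39 zf0) (kf xf6 yf54 zf50) (kf xf6 yf54 zf49) (kf xf17 yf3 zf49) (kf xf6 yf54 zf48) (kf xf7 yf42 zf5) (kf xf22 yf19 zf61) (kf xf13 yf27 zf24) (kf xf22 yf19 zf59) (kf xf7 yf38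 zf7) (kf xf22 yf19 zf60) (kf xf14 yf53 zf3) (kf xf22 yf20 zf1) (kf xf22 yf20 zf0) (kf xf22 yf20 zf18) (kf xf6 yf54 zf51) (kf xf14 yf52 zf49) (kf xf14 yf52 zf50) (kf xf20 yf39 zf58) (kf xf14 yf52 zf47) (kf xf9 yf30 zf43) (kf xf9 yf30 zf56) (kf xf22 yf20 zf30) (kf xf6 yf54 zf55) (kf xf13 yf53 zf52) (kf xf14 yf48 zf21) (kf xf13 yf37 zf29) (kf xf7 yf52 zf51) (kf xf14 yf48 zf22) (kf xf22 yf20 zf41) (kf xf14 yf52 zf53) (kf xf22 yf20 zf46) (kf xf13 yf24 zf20) (kf xf14 yf52 zf56) (kf xf13 yf10 zf24) (kf xf22 yf20 zf53) (kf xf13 yf10 zf23) (kf xf22 yf20 zf58) (kf xf22 yf21 zf0) (kf xf6 yf55 zf2) (kf xf22 yf20 zf31) (kf xf13 yf36 zf43) (kf xf13 yf36 zf45) (kf xf19 yf45 zf11) (kf xf13 yf36 zf47) (kf xf6 yf55 zf18) (kf xf6 yf55 zf8) (kf xf14 yf2 zf24) (kf xf14 yf3 zf10) (kf xf13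 yf55 zf32) (kf xf14 yf24 zf37) (kf xf13 yf6 zf19) (kf xf22 yf21 zf11) (kf xf14 yf29 zf33) (kf xf14 yf51 zf26) (kf xf14 yf51 zf27) (kf xf22 yf21 zf19) (kf xf6 yf55 zf15) (kf xf13 yf36 zf34) (kf xf14 yf51 zf28) (kf xf14 yf51 zf58) (kf xf20 yf56 zf58)) (@D3.rec (fun _ => Pt) (kf xf14 yf24 zf38) (kf xf13 yf6 zf35) (kf xf20 yf40 zf44) (kf xf14 yf24 zf1) (kf xf21 yf3 zf20) (kf xf14 yf24 zf40) (kf xf14 yf25 zf2) (kf xf22 yf21 zf41) (kf xf6 yf55 zf27) (kf xf14 yf52 zf34) (kf xf14 yf52 zf31) (kf xf14 yf52 zf32) (kf xf9 yf30 zf5) (kf xf20 yf47 zf12) (kf xf6 yf55 zf31) (kf xf22 yf21 zf53) (kf xf13 yf53 zf53) (kf xf14 yf17 zf48) (kf xf14 yf52 zf38) (kf xf13 yf12 zf52) (kf xf22 yf22 zf0) (kf xf7 yf50 zf54) (kf xf21 yf22 zf45) (kf xf14 yf52 zf42) (kf xf11 yf50 zf44) (kf xf22 yf22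 zf5) (kf xf13 yf44 zf27) (kf xf14 yf32 zf31) (kf xf10 yf35 zf35) (kf xf6 yf55 zf40) (kf xf22 yf21 zf50) (kf xf13 yf45 zf44) (kf xf13 yf12 zf50) (kf xf22 yf22 zf11) (kf xf13 yf25 zf25) (kf xf7 yf50 zf18) (kf xf7 yf4 zf29) (kf xf14 yf9 zf61) (kf xf7 yf50 zf47) (kf xf7 yf22 zf3) (kf xf22 yf22 zf21) (kf xf14 yf5 zf42) (kf xf22 yf22 zf17) (kf xf14 yf40 zf19) (kf xf6 yf55 zf49) (kf xf19 yf14 zf28) (kf xf6 yf55 zf50) (kf xf14 yf33 zf44) (kf xf14 yf33 zf45) (kf xf22 yf19 zf0) (kf xf18 yf21 zf44) (kf xf22 yf19 zf23) (kf xf6 yf56 zf2) (kf xf22 yf22 zf25) (kf xf6 yf55 zf57) (kf xf13 yf43 zf50) (kf xf11 yf40 zf39) (kf xf21 yf16 zf26) (kf xf12 yf1 zf10) (kf xf11 yf16 zf20) (kf xf22 yf22 zf28) (kf xf12 yf33 zf58)) (@D3.rec (fun _ => Pt) (kf xf12 yf33 zf57) (kf xf22 yf22 zf34) (kf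 xf6 yf56 zf0) (kf xf14 yf31 zf12) (kf xf14 yf31 zf13) (kf xf13 yf35 zf15) (kf xf14 yf19 zf37) (kf xf13 yf27 zf61) (kf xf22 yf22 zf24) (kf xf14 yf33 zf51) (kf xf14 yf31 zf21) (kf xf20 yf37 zf19) (kf xf20 yf37 zf12) (kf xf6 yf56 zf3) (kf xf13 yf2 zf47) (kf xf14 yf19 zf44) (kf xf9 yf26 zf20) (kf xf11 yf58 zf54) (kf xf9 yf26 zf19) (kf xf22 yf22 zf58) (kf xf6 yf56 zf8) (kf xf14 yf19 zf47) (kf xf20 yf37 zf20) (kf xf13 yf8 zf36) (kf xf13 yf8 zf34) (kf xf15 yf17 zf7) (kf xf6 yf56 zf11) (kf xf22 yf22 zf59) (kf xf14 yf41 zf11) (kf xf14 yf41 zf12) (kf xf14 yf34 zf4) (kf xf6 yf56 zf17) (kf xf10 yf46 zf16) (kf xf6 yf56 zf16) (kf xf14 yf19 zf24) (kf xf14 yf41 zf19) (kf xf14 yf30 zf6) (kf xf9 yf16 zf36) (kf xf11 yf35 zf38) (kf xf14 yf32 zf28) (kf xf11 yf46 zf31) (kf xf9 yf41 zf57)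 (kf xf22 yf23 zf14) (kf xf14 yf19 zf32) (kf xf22 yf23 zf19) (kf xf9 yf40 zf38) (kf xf21 yf44 zf5) (kf xf22 yf6 zf31) (kf xf14 yf11 zf7) (kf xf14 yf11 zf6) (kf xf14 yf33 zf27) (kf xf14 yf11 zf10) (kf xf14 yf11 zf9) (kf xf22 yf23 zf30) (kf xf6 yf56 zf33) (kf xf14 yf33 zf1) (kf xf14 yf33 zf0) (kf xf15 yf11 zf55) (kf xf12 yf58 zf0) (kf xf14 yf33 zf5) (kf xf11 yf37 zf12) (kf xf20 yf47 zf59)) (@D3.rec (fun _ => Pt) (kf xf20 yf16 zf35) (kf xf16 yf49 zf39) (kf xf20 yf47 zf60) (kf xf18 yf2 zf7) (kf xf20 yf16 zf52) (kf xf20 yf48 zf0) (kf xf13 yf7 zf32) (kf xf11 yf42 zf43) (kf xf13 yf12 zf9) (kf xf17 yf26 zf25) (kf xf20 yf48 zf1) (kf xf20 yf48 zf3) (kf xf20 yf48 zf4) (kf xf19 yf30 zf33) (kf xf19 yf30 zf29) (kf xf14 yf30 zf38) (kf xf14 yf30 zf40) (kf xf22 yf19 zf24) (kf xf22 yf23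 zf55) (kf xf13 yf44 zf3) (kf xf22 yf19 zf25) (kf xf22 yf19 zf26) (kf xf20 yf56 zf40) (kf xf13 yf11 zf49) (kf xf22 yf14 zf57) (kf xf14 yf32 zf24) (kf xf13 yf3 zf38) (kf xf6 yf56 zf50) (kf xf14 yf41 zf20) (kf xf14 yf41 zf21) (kf xf22 yf24 zf16) (kf xf13 yf52 zf20) (kf xf20 yf48 zf35) (kf xf13 yf11 zf37) (kf xf13 yf11 zf36) (kf xf22 yf19 zf28) (kf xf13 yf11 zf34) (kf xf13 yf11 zf33) (kf xf13 yf3 zf39) (kf xf14 yf22 zf22) (kf xf14 yf41 zf13) (kf xf13 yf35 zf41) (kf xf14 yf41 zf15) (kf xf14 yf41 zf16) (kf xf14 yf41 zf17) (kf xf22 yf24 zf44) (kf xf13 yf35 zf40) (kf xf13 yf34 zf53) (kf xf13 yf35 zf42) (kf xf13 yf11 zf23) (kf xf13 yf7 zf29) (kf xf20 yf44 zf33) (kf xf13 yf28 zf8) (kf xf6 yf57 zf0) (kf xf13 yf35 zf43) (kf xf22 yf19 zf31) (kf xf22 yf19 zf32) (kf xf13 yf20 zf19)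 (kf xf22 yf25 zf5) (kf xf13 yf7 zf59) (kf xf13 yf12 zf30) (kf xf22 yf19 zf34)) (@D3.rec (fun _ => Pt) (kf xf11 yf46 zf54) (kf xf11 yf47 zf22) (kf xf22 yf25 zf16) (kf xf6 yf57 zf5) (kf xf22 yf19 zf29) (kf xf22 yf0 zf50) (kf xf13 yf22 zf41) (kf xf22 yf25 zf24) (kf xf22 yf19 zf30) (kf xf13 yf11 zf8) (kf xf22 yf25 zf33) (kf xf6 yf57 zf9) (kf xf22 yf19 zf37) (kf xf11 yf46 zf53) (kf xf22 yf19 zf36) (kf xf22 yf25 zf42) (kf xf22 yf25 zf49) (kf xf22 yf25 zf44) (kf xf22 yf25 zf43) (kf xf22 yf12 zf40) (kf xf6 yf57 zf12) (kf xf20 yf47 zf21) (kf xf20 yf48 zf5) (kf xf20 yf48 zf6) (kf xf20 yf48 zf7) (kf xf7 yf36 zf49) (kf xf13 yf53 zf55) (kf xf13 yf53 zf56) (kf xf13 yf53 zf54) (kf xf13 yf53 zf57) (kf xf13 yf11 zf60) (kf xf11 yf46 zf55) (kf xf7 yf42 zf3) (kf xf11 yf26 zf9) (kf xf14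 yf38 zf59) (kf xf13 yf12 zf58) (kf xf14 yf39 zf1) (kf xf14 yf39 zf2) (kf xf22 yf19 zf49) (kf xf13 yf12 zf56) (kf xf13 yf12 zf57) (kf xf13 yf12 zf59) (kf xf22 yf19 zf46) (kf xf20 yf47 zf51) (kf xf14 yf44 zf13) (kf xf13 yf3 zf4) (kf xf22 yf26 zf42) (kf xf13 yf12 zf54) (kf xf13 yf2 zf61) (kf xf13 yf3 zf43) (kf xf13 yf9 zf32) (kf xf13 yf3 zf29) (kf xf13 yf9 zf19) (kf xf13 yf3 zf55) (kf xf13 yf12 zf47) (kf xf13 yf3 zf56) (kf xf13 yf12 zf39) (kf xf13 yf12 zf40) (kf xf13 yf12 zf35) (kf xf13 yf12 zf41) (kf xf7 yf11 zf33) (kf xf22 yf27 zf2)) (@D3.rec (fun _ => Pt) (kf xf14 yf1 zf44) (kf xf14 yf2 zf25) (kf xf14 yf2 zf26) (kf xf13 yf37 zf35) (kf xf7 yf30 zf10) (kf xf13 yf25 zf11) (kf xf14 yf2 zf27) (kf xf22 yf27 zf10) (kf xf12 yf26 zf29) (kf xf14 yf55 zf14) (kf xf14 yf17 zf40)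 (kf xf22 yf19 zf43) (kf xf13 yf27 zf22) (kf xf22 yf19 zf44) (kf xf14 yf44 zf4) (kf xf20 yf57 zf0) (kf xf22 yf27 zf32) (kf xf13 yf27 zf23) (kf xf13 yf37 zf37) (kf xf22 yf19 zf45) (kf xf6 yf57 zf51) (kf xf22 yf19 zf51) (kf xf20 yf48 zf23) (kf xf22 yf27 zf38) (kf xf13 yf37 zf38) (kf xf22 yf15 zf22) (kf xf7 yf38 zf49) (kf xf22 yf19 zf48) (kf xf14 yf12 zf60) (kf xf12 yf19 zf7) (kf xf12 yf19 zf9) (kf xf9 yf39 zf11) (kf xf13 yf26 zf2) (kf xf13 yf26 zf3) (kf xf13 yf26 zf4) (kf xf13 yf26 zf5) (kf xf22 yf28 zf3) (kf xf13 yf26 zf20) (kf xf13 yf26 zf21) (kf xf13 yf26 zf22) (kf xf7 yf29 zf44) (kf xf22 yf28 zf10) (kf xf13 yf15 zf10) (kf xf13 yf15 zf11) (kf xf13 yf15 zf12) (kf xf7 yf29 zf47) (kf xf22 yf28 zf16) (kf xf7 yf55 zf11) (kf xf7 yf23 zf53) (kf xf7 yf55 zf12) (kf xf22 yf28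 zf24) (kf xf13 yf26 zf27) (kf xf22 yf28 zf31) (kf xf22 yf15 zf49) (kf xf14 yf8 zf33) (kf xf6 yf58 zf7) (kf xf7 yf13 zf33) (kf xf7 yf13 zf34) (kf xf7 yf13 zf32) (kf xf7 yf13 zf42) (kf xf7 yf12 zf57) (kf xf13 yf14 zf27)) (@D3.rec (fun _ => Pt) (kf xf13 yf14 zf1) (kf xf13 yf14 zf0) (kf xf7 yf14 zf9) (kf xf7 yf14 zf10) (kf xf7 yf14 zf6) (kf xf7 yf14 zf11) (kf xf13 yf14 zf35) (kf xf9 yf59 zf1) (kf xf22 yf28 zf51) (kf xf13 yf14 zf37) (kf xf9 yf59 zf0) (kf xf22 yf28 zf58) (kf xf13 yf14 zf39) (kf xf13 yf14 zf40) (kf xf13 yf14 zf17) (kf xf13 yf14 zf20) (kf xf13 yf14 zf21) (kf xf13 yf14 zf14) (kf xf12 yf38 zf30) (kf xf12 yf47 zf37) (kf xf13 yf14 zf15) (kf xf13 yf14 zf16) (kf xf7 yf7 zf36) (kf xf7 yf7 zf34) (kf xf7 yf7 zf37) (kf xf7 yf7 zf46) (kf xf7 yf6 zf23) (kf xf13 yf13 zf61)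 (kf xf7 yf30 zf32) (kf xf12 yf47 zf43) (kf xf22 yf29 zf17) (kf xf7 yf8 zf4) (kf xf7 yf8 zf5) (kf xf7 yf8 zf3) (kf xf7 yf8 zf6) (kf xf13 yf14 zf6) (kf xf22 yf29 zf28) (kf xf13 yf14 zf9) (kf xf18 yf16 zf4) (kf xf13 yf14 zf12) (kf xf13 yf14 zf13) (kf xf10 yf22 zf37) (kf xf10 yf22 zf56) (kf xf22 yf29 zf16) (kf xf22 yf29 zf15) (kf xf22 yf29 zf42) (kf xf6 yf58 zf36) (kf xf7 yf8 zf35) (kf xf7 yf49 zf12) (kf xf7 yf49 zf14) (kf xf7 yf24 zf41) (kf xf7 yf24 zf42) (kf xf13 yf2 zf50) (kf xf13 yf2 zf49) (kf xf22 yf29 zf52) (kf xf6 yf58 zf43) (kf xf7 yf3 zf3) (kf xf7 yf3 zf4) (kf xf7 yf3 zf0) (kf xf7 yf3 zf1) (kf xf14 yf53 zf47) (kf xf6 yf58 zf46)) (@D3.rec (fun _ => Pt) (kf xf7 yf4 zf0) (kf xf7 yf4 zf1) (kf xf7 yf3 zf60) (kf xf7 yf30 zf30) (kf xf7 yf30 zf31) (kf xf7 yf48 zf55) (kf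 xf7 yf48 zf56) (kf xf7 yf48 zf57) (kf xf7 yf48 zf58) (kf xf22 yf30 zf11) (kf xf13 yf13 zf42) (kf xf13 yf13 zf43) (kf xf13 yf13 zf44) (kf xf7 yf31 zf1) (kf xf12 yf11 zf28) (kf xf6 yf59 zf0) (kf xf12 yf15 zf57) (kf xf16 yf3 zf10) (kf xf12 yf25 zf60) (kf xf9 yf18 zf60) (kf xf13 yf34 zf35) (kf xf13 yf34 zf36) (kf xf13 yf34 zf37) (kf xf13 yf16 zf17) (kf xf22 yf30 zf25) (kf xf13 yf49 zf44) (kf xf13 yf49 zf43) (kf xf13 yf16 zf15) (kf xf13 yf41 zf2) (kf xf20 yf6 zf3) (kf xf6 yf59 zf17) (kf xf6 yf59 zf16) (kf xf13 yf49 zf24) (kf xf14 yf48 zf6) (kf xf16 yf11 zf1) (kf xf7 yf7 zf2) (kf xf6 yf59 zf15) (kf xf22 yf30 zf28) (kf xf14 yf48 zf5) (kf xf22 yf30 zf29) (kf xf16 yf11 zf51) (kf xf8 yf38 zf12) (kf xf14 yf5 zf8) (kf xf22 yf30 zf45) (kf xf6 yf59 zf18) (kf xf13 yf26 zf36) (kf xf16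 yf11 zf56) (kf xf22 yf30 zf10) (kf xf18 yf42 zf21) (kf xf6 yf59 zf21) (kf xf22 yf30 zf56) (kf xf7 yf31 zf56) (kf xf7 yf34 zf36) (kf xf7 yf34 zf37) (kf xf7 yf34 zf38) (kf xf22 yf31 zf6) (kf xf12 yf16 zf13) (kf xf22 yf31 zf10) (kf xf22 yf31 zf13) (kf xf6 yf59 zf28) (kf xf14 yf44 zf40) (kf xf14 yf44 zf41)) (@D3.rec (fun _ => Pt) (kf xf14 yf44 zf42) (kf xf12 yf48 zf49) (kf xf22 yf31 zf22) (kf xf7 yf18 zf22) (kf xf7 yf12 zf30) (kf xf7 yf11 zf60) (kf xf13 yf18 zf4) (kf xf13 yf20 zf5) (kf xf13 yf27 zf34) (kf xf13 yf51 zf61) (kf xf13 yf52 zf0) (kf xf13 yf52 zf2) (kf xf13 yf52 zf3) (kf xf13 yf52 zf4) (kf xf22 yf31 zf39) (kf xf13 yf15 zf27) (kf xf22 yf31 zf45) (kf xf13 yf15 zf23) (kf xf16 yf12 zf6) (kf xf12 yf48 zf47) (kf xf22 yf31 zf56) (kf xf13 yf51 zf57) (kf xf13 yf51 zf56)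 (kf xf6 yf59 zf41) (kf xf13 yf40 zf15) (kf xf13 yf40 zf16) (kf xf13 yf36 zf1) (kf xf7 yf33 zf42) (kf xf22 yf15 zf24) (kf xf14 yf13 zf30) (kf xf19 yf22 zf9) (kf xf6 yf59 zf52) (kf xf6 yf59 zf51) (kf xf16 yf32 zf37) (kf xf6 yf59 zf48) (kf xf14 yf29 zf50) (kf xf11 yf58 zf43) (kf xf11 yf58 zf42) (kf xf6 yf59 zf50) (kf xf13 yf57 zf22) (kf xf22 yf16 zf11) (kf xf22 yf32 zf7) (kf xf22 yf32 zf17) (kf xf20 yf51 zf3) (kf xf14 yf12 zf34) (kf xf22 yf32 zf5) (kf xf13 yf40 zf10) (kf xf14 yf20 zf31) (kf xf20 yf30 zf41) (kf xf6 yf59 zf53) (kf xf14 yf30 zf5) (kf xf7 yf2 zf17) (kf xf6 yf59 zf57) (kf xf7 yf1 zf32) (kf xf7 yf2 zf41) (kf xf7 yf2 zf43) (kf xf13 yf44 zf23) (kf xf7 yf2 zf46) (kf xf22 yf32 zf34) (kf xf7 yf1 zf17) (kf xf7 yf2 zf26) (kf xf7 yf2 zf28)) (@D3.rec (fun _ => Pt) (kf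 xf7 yf2 zf35) (kf xf22 yf32 zf42) (kf xf7 yf2 zf52) (kf xf7 yf2 zf53) (kf xf22 yf32 zf46) (kf xf7 yf2 zf56) (kf xf22 yf32 zf22) (kf xf7 yf3 zf44) (kf xf7 yf0 zf22) (kf xf7 yf0 zf50) (kf xf13 yf44 zf10) (kf xf7 yf3 zf51) (kf xf22 yf32 zf58) (kf xf7 yf1 zf5) (kf xf7 yf37 zf51) (kf xf7 yf3 zf55) (kf xf7 yf3 zf56) (kf xf7 yf3 zf26) (kf xf15 yf55 zf17) (kf xf7 yf3 zf33) (kf xf7 yf3 zf34) (kf xf7 yf33 zf7) (kf xf7 yf31 zf57) (kf xf22 yf33 zf11) (kf xf22 yf33 zf9) (kf xf22 yf33 zf8) (kf xf22 yf33 zf19) (kf xf7 yf0 zf19) (kf xf22 yf33 zf21) (kf xf7 yf0 zf20) (kf xf7 yf4 zf20) (kf xf13 yf6 zf37) (kf xf14 yf42 zf34) (kf xf13 yf21 zf56) (kf xf13 yf27 zf28) (kf xf10 yf47 zf22) (kf xf13 yf44 zf38) (kf xf13 yf27 zf29) (kf xf14 yf41 zf48) (kf xf13 yf44 zf40) (kf xf13 yf44 zf41) (kf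 xf13 yf44 zf42) (kf xf7 yf32 zf45) (kf xf22 yf33 zf31) (kf xf22 yf33 zf33) (kf xf7 yf0 zf28) (kf xf20 yf23 zf42) (kf xf21 yf52 zf50) (kf xf7 yf34 zf25) (kf xf7 yf34 zf27) (kf xf17 yf26 zf41) (kf xf7 yf34 zf21) (kf xf7 yf34 zf23) (kf xf22 yf7 zf16) (kf xf7 yf34 zf30) (kf xf7 yf34 zf29) (kf xf7 yf32 zf11) (kf xf7 yf34 zf32) (kf xf7 yf34 zf33) (kf xf14 yf42 zf11) (kf xf22 yf33 zf49) (kf xf7 yf34 zf43)) (@D3.rec (fun _ => Pt) (kf xf22 yf33 zf53) (kf xf7 yf34 zf41) (kf xf22 yf33 zf59) (kf xf13 yf38 zf60) (kf xf13 yf16 zf6) (kf xf13 yf48 zf60) (kf xf13 yf48 zf61) (kf xf13 yf49 zf0) (kf xf15 yf13 zf3) (kf xf13 yf49 zf1) (kf xf22 yf32 zf51) (kf xf19 yf51 zf46) (kf xf7 yf33 zf61) (kf xf22 yf26 zf43) (kf xf7 yf0 zf51) (kf xf7 yf0 zf54) (kf xf18 yf51 zf51) (kf xf7 yf0 zf52) (kf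 xf17 yf20 zf48) (kf xf18 yf54 zf61) (kf xf7 yf0 zf53) (kf xf13 yf6 zf61) (kf xf14 yf43 zf31) (kf xf14 yf26 zf33) (kf xf13 yf6 zf57) (kf xf22 yf26 zf38) (kf xf22 yf34 zf13) (kf xf13 yf7 zf3) (kf xf16 yf22 zf49) (kf xf7 yf0 zf56) (kf xf7 yf32 zf61) (kf xf7 yf33 zf1) (kf xf17 yf20 zf44) (kf xf7 yf32 zf59) (kf xf7 yf33 zf4) (kf xf7 yf33 zf3) (kf xf18 yf5 zf61) (kf xf7 yf0 zf60) (kf xf7 yf33 zf16) (kf xf14 yf27 zf40) (kf xf7 yf33 zf18) (kf xf22 yf34 zf45) (kf xf7 yf31 zf58) (kf xf7 yf33 zf8) (kf xf7 yf33 zf9) (kf xf22 yf32 zf59) (kf xf7 yf33 zf12) (kf xf22 yf34 zf59) (kf xf7 yf33 zf25) (kf xf7 yf33 zf26) (kf xf22 yf35 zf5) (kf xf7 yf33 zf21) (kf xf7 yf33 zf22) (kf xf16 yf18 zf17) (kf xf7 yf33 zf30) (kf xf7 yf33 zf29) (kf xf14 yf15 zf20) (kf xf7 yf33 zf35) (kf xf13 yf27 zf12)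 (kf xf7 yf33 zf37) (kf xf22 yf35 zf20) (kf xf13 yf20 zf55)) (@D3.rec (fun _ => Pt) (kf xf22 yf35 zf23) (kf xf21 yf41 zf14) (kf xf22 yf35 zf27) (kf xf7 yf1 zf14) (kf xf22 yf32 zf9) (kf xf11 yf27 zf1) (kf xf22 yf32 zf35) (kf xf14 yf38 zf25) (kf xf12 yf46 zf2) (kf xf13 yf44 zf51) (kf xf13 yf52 zf61) (kf xf22 yf35 zf36) (kf xf13 yf44 zf54) (kf xf21 yf52 zf34) (kf xf12 yf46 zf0) (kf xf22 yf35 zf44) (kf xf7 yf1 zf23) (kf xf7 yf30 zf48) (kf xf13 yf44 zf46) (kf xf13 yf35 zf1) (kf xf13 yf44 zf13) (kf xf13 yf44 zf48) (kf xf13 yf35 zf2) (kf xf13 yf44 zf55) (kf xf13 yf44 zf56) (kf xf13 yf44 zf57) (kf xf7 yf44 zf16) (kf xf21 yf52 zf14) (kf xf7 yf44 zf14) (kf xf7 yf44 zf52) (kf xf7 yf44 zf19) (kf xf7 yf44 zf18) (kf xf7 yf1 zf29) (kf xf13 yf3 zf25) (kf xf20 yf27 zf25) (kf xf22 yf36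 zf8) (kf xf7 yf1 zf34) (kf xf7 yf1 zf38) (kf xf7 yf1 zf37) (kf xf10 yf27 zf18) (kf xf7 yf1 zf35) (kf xf10 yf27 zf1) (kf xf22 yf32 zf3) (kf xf10 yf39 zf59) (kf xf14 yf31 zf19) (kf xf10 yf39 zf60) (kf xf22 yf32 zf29) (kf xf19 yf15 zf47) (kf xf22 yf36 zf9) (kf xf10 yf27 zf10) (kf xf7 yf1 zf39) (kf xf7 yf44 zf4) (kf xf7 yf45 zf1) (kf xf7 yf44 zf1) (kf xf7 yf44 zf2) (kf xf7 yf44 zf6) (kf xf7 yf44 zf5) (kf xf22 yf36 zf21) (kf xf7 yf1 zf43) (kf xf22 yf36 zf23) (kf xf14 yf15 zf37) (kf xf16 yf18 zf15)) (@D3.rec (fun _ => Pt) (kf xf9 yf54 zf25) (kf xf12 yf34 zf57) (kf xf7 yf1 zf47) (kf xf10 yf26 zf61) (kf xf22 yf36 zf29) (kf xf13 yf16 zf7) (kf xf13 yf45 zf5) (kf xf13 yf45 zf10) (kf xf13 yf45 zf11) (kf xf13 yf45 zf12) (kf xf7 yf1 zf61) (kf xf7 yf2 zf0) (kf xf7 yf1 zf58) (kf xf7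 yf1 zf59) (kf xf14 yf55 zf55) (kf xf7 yf1 zf55) (kf xf13 yf3 zf15) (kf xf22 yf36 zf28) (kf xf22 yf36 zf43) (kf xf13 yf11 zf57) (kf xf13 yf53 zf32) (kf xf22 yf36 zf44) (kf xf20 yf47 zf8) (kf xf7 yf30 zf45) (kf xf17 yf17 zf19) (kf xf22 yf36 zf41) (kf xf13 yf44 zf26) (kf xf22 yf36 zf42) (kf xf14 yf33 zf52) (kf xf14 yf34 zf3) (kf xf22 yf36 zf58) (kf xf9 yf26 zf31) (kf xf22 yf15 zf5) (kf xf22 yf36 zf61) (kf xf14 yf3 zf27) (kf xf22 yf37 zf3) (kf xf12 yf25 zf46) (kf xf7 yf2 zf4) (kf xf9 yf26 zf4) (kf xf10 yf5 zf59) (kf xf18 yf37 zf41) (kf xf14 yf37 zf15) (kf xf14 yf37 zf22) (kf xf22 yf37 zf9) (kf xf11 yf58 zf50) (kf xf11 yf29 zf46) (kf xf15 yf27 zf10) (kf xf22 yf37 zf13) (kf xf22 yf37 zf16) (kf xf14 yf18 zf45) (kf xf14 yf35 zf35) (kf xf7 yf2 zf16) (kf xf9 yf25 zf30) (kf xf22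 yf37 zf19) (kf xf22 yf37 zf21) (kf xf13 yf18 zf61) (kf xf7 yf2 zf19) (kf xf7 yf2 zf60) (kf xf7 yf2 zf24) (kf xf14 yf11 zf41) (kf xf14 yf29 zf58) (kf xf14 yf30 zf9)) (@D3.rec (fun _ => Pt) (kf xf14 yf29 zf56) (kf xf14 yf31 zf35) (kf xf7 yf44 zf53) (kf xf14 yf29 zf60) (kf xf22 yf37 zf25) (kf xf21 yf41 zf12) (kf xf9 yf26 zf30) (kf xf22 yf32 zf36) (kf xf22 yf37 zf47) (kf xf13 yf56 zf1) (kf xf14 yf1 zf6) (kf xf22 yf32 zf37) (kf xf22 yf32 zf38) (kf xf22 yf32 zf39) (kf xf22 yf37 zf57) (kf xf22 yf37 zf45) (kf xf21 yf41 zf23) (kf xf7 yf46 zf53) (kf xf7 yf2 zf29) (kf xf14 yf42 zf38) (kf xf14 yf38 zf36) (kf xf22 yf38 zf6) (kf xf14 yf38 zf30) (kf xf22 yf37 zf14) (kf xf13 yf22 zf59) (kf xf13 yf22 zf57) (kf xf16 yf10 zf23) (kf xf22 yf38 zf15) (kf xf22 yf32 zf33) (kf xf22 yf32 zf32)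 (kf xf22 yf38 zf24) (kf xf7 yf2 zf36) (kf xf7 yf46 zf54) (kf xf16 yf54 zf1) (kf xf13 yf3 zf52) (kf xf22 yf32 zf23) (kf xf13 yf44 zf20) (kf xf11 yf30 zf11) (kf xf13 yf3 zf53) (kf xf22 yf32 zf25) (kf xf22 yf32 zf26) (kf xf22 yf32 zf27) (kf xf22 yf38 zf38) (kf xf13 yf44 zf18) (kf xf13 yf44 zf19) (kf xf13 yf44 zf22) (kf xf22 yf32 zf30) (kf xf22 yf38 zf44) (kf xf17 yf23 zf17) (kf xf22 yf32 zf41) (kf xf22 yf38 zf49) (kf xf7 yf2 zf47) (kf xf13 yf42 zf54) (kf xf14 yf38 zf12) (kf xf14 yf38 zf26) (kf xf22 yf38 zf58) (kf xf13 yf17 zf33) (kf xf22 yf38 zf61) (kf xf22 yf32 zf45) (kf xf22 yf32 zf44) (kf xf22 yf39 zf5) (kf xf7 yf2 zf51)) (@D3.rec (fun _ => Pt) (kf xf20 yf9 zf34) (kf xf14 yf38 zf54) (kf xf14 yf38 zf53) (kf xf7 yf2 zf54) (kf xf14 yf42 zf36) (kf xf18 yf48 zf48) (kf xf16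 yf5 zf52) (kf xf14 yf50 zf17) (kf xf14 yf50 zf16) (kf xf7 yf37 zf4) (kf xf7 yf2 zf57) (kf xf22 yf39 zf15) (kf xf22 yf37 zf23) (kf xf22 yf32 zf49) (kf xf22 yf32 zf48) (kf xf22 yf37 zf24) (kf xf7 yf3 zf8) (kf xf22 yf29 zf55) (kf xf7 yf46 zf8) (kf xf13 yf29 zf50) (kf xf22 yf29 zf56) (kf xf22 yf39 zf34) (kf xf22 yf29 zf53) (kf xf14 yf1 zf22) (kf xf22 yf29 zf54) (kf xf22 yf39 zf43) (kf xf14 yf40 zf32) (kf xf13 yf41 zf61) (kf xf22 yf39 zf50) (kf xf13 yf35 zf27) (kf xf13 yf35 zf33) (kf xf22 yf39 zf56) (kf xf13 yf41 zf18) (kf xf13 yf34 zf51) (kf xf22 yf39 zf24) (kf xf13 yf41 zf21) (kf xf7 yf30 zf44) (kf xf13 yf3 zf34) (kf xf14 yf52 zf12) (kf xf13 yf3 zf36) (kf xf22 yf40 zf15) (kf xf13 yf12 zf6) (kf xf7 yf9 zf12) (kf xf7 yf32 zf3) (kf xf7 yf32 zf4) (kf xf7 yf31 zf60) (kf xf7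 yf32 zf5) (kf xf7 yf32 zf10) (kf xf22 yf40 zf26) (kf xf14 yf42 zf49) (kf xf14 yf42 zf51) (kf xf18 yf27 zf54) (kf xf15 yf55 zf19) (kf xf21 yf40 zf26) (kf xf7 yf32 zf41) (kf xf7 yf3 zf23) (kf xf14 yf42 zf43) (kf xf13 yf21 zf25) (kf xf22 yf40 zf38) (kf xf13 yf21 zf24) (kf xf22 yf33 zf1) (kf xf22 yf40 zf44)) (@D3.rec (fun _ => Pt) (kf xf22 yf32 zf56) (kf xf22 yf32 zf55) (kf xf22 yf40 zf54) (kf xf7 yf3 zf27) (kf xf7 yf33 zf17) (kf xf7 yf34 zf49) (kf xf7 yf46 zf59) (kf xf7 yf3 zf29) (kf xf7 yf34 zf46) (kf xf7 yf34 zf39) (kf xf13 yf44 zf37) (kf xf17 yf17 zf21) (kf xf17 yf28 zf35) (kf xf7 yf9 zf28) (kf xf22 yf41 zf7) (kf xf7 yf9 zf29) (kf xf7 yf48 zf39) (kf xf7 yf48 zf40) (kf xf7 yf33 zf44) (kf xf13 yf38 zf32) (kf xf7 yf40 zf34) (kf xf12 yf45 zf45) (kf xf22 yf32 zf50) (kf xf7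 yf34 zf2) (kf xf14 yf43 zf54) (kf xf14 yf43 zf55) (kf xf19 yf25 zf18) (kf xf7 yf34 zf15) (kf xf11 yf50 zf37) (kf xf20 yf50 zf50) (kf xf22 yf41 zf19) (kf xf22 yf33 zf4) (kf xf22 yf33 zf3) (kf xf15 yf55 zf16) (kf xf7 yf3 zf52) (kf xf7 yf34 zf34) (kf xf13 yf43 zf10) (kf xf14 yf43 zf19) (kf xf7 yf34 zf17) (kf xf22 yf32 zf60) (kf xf22 yf32 zf61) (kf xf22 yf41 zf28) (kf xf13 yf44 zf12) (kf xf7 yf37 zf40) (kf xf17 yf17 zf22) (kf xf13 yf29 zf52) (kf xf7 yf38 zf52) (kf xf22 yf30 zf1) (kf xf22 yf41 zf42) (kf xf13 yf47 zf0) (kf xf13 yf41 zf3) (kf xf22 yf29 zf60) (kf xf7 yf9 zf44) (kf xf22 yf29 zf61) (kf xf22 yf41 zf56) (kf xf7 yf9 zf45) (kf xf7 yf48 zf53) (kf xf7 yf5 zf38) (kf xf7 yf19 zf44) (kf xf7 yf19 zf45) (kf xf22 yf14 zf36) (kf xf22 yf41 zf61)) (@D3.rec (fun _ => Pt) (kf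 xf7 yf49 zf0) (kf xf7 yf49 zf1) (kf xf7 yf49 zf2) (kf xf7 yf49 zf5) (kf xf7 yf49 zf6) (kf xf7 yf49 zf7) (kf xf7 yf19 zf24) (kf xf22 yf42 zf13) (kf xf7 yf19 zf29) (kf xf22 yf42 zf19) (kf xf21 yf57 zf1) (kf xf21 yf57 zf0) (kf xf7 yf4 zf11) (kf xf7 yf4 zf21) (kf xf7 yf4 zf17) (kf xf7 yf11 zf59) (kf xf7 yf22 zf11) (kf xf20 yf20 zf24) (kf xf13 yf4 zf1) (kf xf13 yf53 zf34) (kf xf13 yf8 zf32) (kf xf22 yf42 zf33) (kf xf13 yf4 zf2) (kf xf13 yf25 zf15) (kf xf13 yf25 zf16) (kf xf20 yf10 zf23) (kf xf7 yf51 zf7) (kf xf20 yf16 zf60) (kf xf11 yf44 zf52) (kf xf7 yf51 zf8) (kf xf7 yf48 zf42) (kf xf7 yf8 zf53) (kf xf13 yf24 zf34) (kf xf22 yf42 zf46) (kf xf13 yf24 zf32) (kf xf22 yf42 zf49) (kf xf7 yf21 zf54) (kf xf7 yf22 zf8) (kf xf22 yf42 zf55) (kf xf7 yf21 zf25) (kf xf13 yf25 zf24)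 (kf xf21 yf55 zf24) (kf xf13 yf25 zf26) (kf xf21 yf24 zf52) (kf xf7 yf4 zf39) (kf xf13 yf25 zf28) (kf xf7 yf22 zf52) (kf xf7 yf22 zf53) (kf xf7 yf22 zf47) (kf xf7 yf22 zf54) (kf xf7 yf22 zf60) (kf xf22 yf43 zf15) (kf xf7 yf53 zf45) (kf xf7 yf50 zf27) (kf xf13 yf25 zf35) (kf xf22 yf43 zf27) (kf xf13 yf25 zf37) (kf xf13 yf25 zf38) (kf xf22 yf43 zf34) (kf xf13 yf25 zf40) (kf xf13 yf25 zf41) (kf xf21 yf34 zf37)) (@D3.rec (fun _ => Pt) (kf xf13 yf25 zf43) (kf xf13 yf25 zf44) (kf xf13 yf25 zf45) (kf xf13 yf25 zf46) (kf xf22 yf43 zf38) (kf xf21 yf26 zf39) (kf xf22 yf43 zf2) (kf xf7 yf4 zf38) (kf xf22 yf40 zf55) (kf xf7 yf23 zf60) (kf xf13 yf25 zf56) (kf xf13 yf13 zf5) (kf xf13 yf25 zf58) (kf xf13 yf25 zf60) (kf xf22 yf43 zf61) (kf xf13 yf24 zf23) (kf xf13 yf24 zf24) (kf xf7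 yf24 zf32) (kf xf7 yf28 zf13) (kf xf7 yf28 zf11) (kf xf7 yf28 zf14) (kf xf7 yf28 zf26) (kf xf22 yf44 zf12) (kf xf7 yf26 zf32) (kf xf13 yf24 zf40) (kf xf13 yf9 zf34) (kf xf13 yf24 zf42) (kf xf22 yf44 zf24) (kf xf13 yf24 zf45) (kf xf7 yf28 zf55) (kf xf7 yf28 zf56) (kf xf7 yf28 zf54) (kf xf7 yf28 zf57) (kf xf7 yf29 zf1) (kf xf22 yf44 zf38) (kf xf13 yf24 zf54) (kf xf22 yf44 zf44) (kf xf13 yf24 zf56) (kf xf13 yf24 zf57) (kf xf22 yf44 zf49) (kf xf13 yf24 zf59) (kf xf13 yf24 zf60) (kf xf22 yf44 zf55) (kf xf13 yf25 zf0) (kf xf13 yf25 zf1) (kf xf13 yf25 zf2) (kf xf13 yf25 zf3) (kf xf13 yf57 zf31) (kf xf22 yf44 zf23) (kf xf22 yf44 zf22) (kf xf21 yf48 zf31) (kf xf7 yf5 zf1) (kf xf7 yf29 zf34) (kf xf13 yf46 zf13) (kf xf13 yf46 zf14) (kf xf7 yf27 zf57) (kf xf13 yf25 zf10) (kf xf7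 yf30 zf6) (kf xf13 yf25 zf12) (kf xf7 yf29 zf41) (kf xf13 yf25 zf13) (kf xf22 yf45 zf23)) (@D3.rec (fun _ => Pt) (kf xf7 yf29 zf58) (kf xf7 yf30 zf2) (kf xf13 yf13 zf32) (kf xf13 yf13 zf33) (kf xf13 yf13 zf34) (kf xf13 yf13 zf35) (kf xf22 yf45 zf31) (kf xf13 yf5 zf6) (kf xf13 yf5 zf7) (kf xf13 yf5 zf9) (kf xf22 yf45 zf40) (kf xf7 yf27 zf43) (kf xf7 yf29 zf56) (kf xf7 yf29 zf57) (kf xf21 yf6 zf13) (kf xf13 yf2 zf35) (kf xf13 yf2 zf36) (kf xf13 yf2 zf37) (kf xf13 yf2 zf38) (kf xf22 yf45 zf52) (kf xf13 yf13 zf37) (kf xf13 yf13 zf38) (kf xf13 yf13 zf39) (kf xf7 yf29 zf33) (kf xf22 yf46 zf0) (kf xf7 yf29 zf40) (kf xf22 yf46 zf3) (kf xf13 yf13 zf51) (kf xf18 yf26 zf43) (kf xf22 yf45 zf39) (kf xf22 yf45 zf38) (kf xf7 yf5 zf26) (kf xf13 yf4 zf33) (kf xf13 yf4 zf34) (kf xf13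 yf4 zf35) (kf xf18 yf44 zf46) (kf xf13 yf15 zf45) (kf xf8 yf38 zf58) (kf xf13 yf49 zf3) (kf xf22 yf41 zf57) (kf xf8 yf47 zf18) (kf xf16 yf21 zf7) (kf xf16 yf24 zf13) (kf xf13 yf49 zf10) (kf xf7 yf14 zf30) (kf xf11 yf38 zf6) (kf xf7 yf5 zf42) (kf xf7 yf33 zf43) (kf xf13 yf38 zf61) (kf xf13 yf39 zf0) (kf xf13 yf39 zf2) (kf xf22 yf46 zf26) (kf xf7 yf6 zf5) (kf xf7 yf6 zf6) (kf xf13 yf38 zf56) (kf xf7 yf40 zf38) (kf xf13 yf38 zf58) (kf xf8 yf47 zf7) (kf xf7 yf15 zf14) (kf xf13 yf39 zf4) (kf xf13 yf39 zf5) (kf xf20 yf6 zf2)) (@D3.rec (fun _ => Pt) (kf xf11 yf7 zf13) (kf xf13 yf39 zf3) (kf xf20 yf6 zf4) (kf xf7 yf47 zf0) (kf xf7 yf48 zf43) (kf xf7 yf48 zf36) (kf xf7 yf5 zf50) (kf xf7 yf18 zf49) (kf xf13 yf39 zf10) (kf xf13 yf38 zf49) (kf xf13 yf39 zf11) (kf xf22 yf46 zf45)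 (kf xf13 yf18 zf58) (kf xf7 yf46 zf45) (kf xf7 yf48 zf30) (kf xf7 yf48 zf32) (kf xf22 yf46 zf54) (kf xf7 yf6 zf55) (kf xf7 yf6 zf56) (kf xf13 yf39 zf13) (kf xf13 yf39 zf14) (kf xf13 yf39 zf15) (kf xf13 yf13 zf12) (kf xf13 yf13 zf17) (kf xf13 yf8 zf7) (kf xf13 yf46 zf16) (kf xf13 yf46 zf17) (kf xf13 yf46 zf19) (kf xf13 yf17 zf34) (kf xf13 yf17 zf37) (kf xf22 yf47 zf4) (kf xf13 yf39 zf23) (kf xf13 yf39 zf22) (kf xf7 yf6 zf3) (kf xf13 yf16 zf8) (kf xf20 yf1 zf38) (kf xf13 yf49 zf33) (kf xf7 yf6 zf7) (kf xf16 yf24 zf33) (kf xf11 yf37 zf53) (kf xf13 yf49 zf41) (kf xf13 yf38 zf37) (kf xf12 yf45 zf41) (kf xf18 yf36 zf30) (kf xf11 yf47 zf25) (kf xf7 yf6 zf15) (kf xf16 yf24 zf32) (kf xf13 yf38 zf44) (kf xf7 yf40 zf29) (kf xf13 yf38 zf46) (kf xf8 yf48 zf23) (kf xf8 yf44 zf24)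 (kf xf22 yf29 zf8) (kf xf22 yf29 zf9) (kf xf8 yf1 zf51) (kf xf8 yf1 zf46) (kf xf22 yf29 zf10) (kf xf13 yf31 zf9) (kf xf13 yf31 zf8) (kf xf22 yf47 zf24) (kf xf7 yf6 zf25) (kf xf13 yf10 zf7)) (@D3.rec (fun _ => Pt) (kf xf13 yf39 zf30) (kf xf13 yf39 zf31) (kf xf13 yf39 zf27) (kf xf13 yf39 zf28) (kf xf13 yf39 zf29) (kf xf22 yf28 zf42) (kf xf13 yf39 zf34) (kf xf13 yf39 zf33) (kf xf13 yf11 zf52) (kf xf7 yf6 zf28) (kf xf7 yf8 zf22) (kf xf7 yf8 zf23) (kf xf7 yf8 zf27) (kf xf22 yf47 zf47) (kf xf7 yf6 zf32) (kf xf7 yf8 zf47) (kf xf7 yf8 zf51) (kf xf22 yf47 zf54) (kf xf7 yf7 zf50) (kf xf7 yf8 zf32) (kf xf7 yf8 zf34) (kf xf7 yf48 zf41) (kf xf7 yf8 zf41) (kf xf22 yf48 zf2) (kf xf7 yf8 zf59) (kf xf7 yf8 zf60) (kf xf22 yf48 zf6) (kf xf7 yf8 zf55) (kf xf7 yf8 zf56) (kf xf22 yf48 zf14)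 (kf xf7 yf9 zf2) (kf xf7 yf9 zf1) (kf xf18 yf52 zf56) (kf xf7 yf6 zf41) (kf xf22 yf47 zf48) (kf xf7 yf7 zf0) (kf xf7 yf7 zf33) (kf xf7 yf9 zf37) (kf xf7 yf9 zf38) (kf xf7 yf9 zf40) (kf xf22 yf48 zf29) (kf xf7 yf9 zf18) (kf xf7 yf9 zf22) (kf xf21 yf11 zf55) (kf xf7 yf30 zf14) (kf xf7 yf40 zf25) (kf xf7 yf9 zf4) (kf xf22 yf48 zf44) (kf xf7 yf10 zf27) (kf xf7 yf10 zf28) (kf xf7 yf10 zf29) (kf xf7 yf10 zf30) (kf xf22 yf48 zf53) (kf xf7 yf10 zf19) (kf xf7 yf10 zf20) (kf xf7 yf10 zf21) (kf xf7 yf10 zf23) (kf xf7 yf46 zf44) (kf xf22 yf49 zf0) (kf xf22 yf28 zf5) (kf xf22 yf46 zf55) (kf xf13 yf45 zf19)) (@D3.rec (fun _ => Pt) (kf xf22 yf46 zf56) (kf xf22 yf46 zf57) (kf xf13 yf45 zf20) (kf xf13 yf7 zf17) (kf xf13 yf36 zf3) (kf xf13 yf36 zf2) (kf xf13 yf35 zf50) (kf xf22 yf49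 zf25) (kf xf7 yf10 zf51) (kf xf7 yf10 zf50) (kf xf7 yf6 zf59) (kf xf7 yf19 zf49) (kf xf13 yf32 zf21) (kf xf7 yf7 zf3) (kf xf7 yf7 zf1) (kf xf22 yf30 zf34) (kf xf22 yf49 zf33) (kf xf22 yf49 zf34) (kf xf17 yf54 zf46) (kf xf21 yf12 zf39) (kf xf22 yf49 zf50) (kf xf7 yf7 zf4) (kf xf15 yf10 zf24) (kf xf13 yf40 zf61) (kf xf11 yf15 zf28) (kf xf13 yf41 zf0) (kf xf13 yf40 zf24) (kf xf13 yf41 zf8) (kf xf13 yf41 zf9) (kf xf13 yf34 zf38) (kf xf13 yf41 zf10) (kf xf18 yf56 zf28) (kf xf13 yf41 zf1) (kf xf13 yf41 zf5) (kf xf22 yf50 zf7) (kf xf13 yf41 zf13) (kf xf13 yf30 zf45) (kf xf22 yf50 zf14) (kf xf11 yf15 zf44) (kf xf13 yf30 zf44) (kf xf21 yf52 zf61) (kf xf13 yf41 zf16) (kf xf13 yf41 zf15) (kf xf22 yf50 zf27) (kf xf7 yf7 zf19) (kf xf18 yf21 zf46) (kf xf13 yf41 zf20) (kf xf7 yf30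 zf29) (kf xf22 yf50 zf32) (kf xf13 yf34 zf52) (kf xf13 yf22 zf19) (kf xf13 yf33 zf35) (kf xf13 yf23 zf45) (kf xf14 yf23 zf11) (kf xf12 yf51 zf42) (kf xf14 yf44 zf0) (kf xf22 yf50 zf42) (kf xf7 yf38 zf38) (kf xf7 yf40 zf7) (kf xf7 yf47 zf11) (kf xf7 yf47 zf9) (kf xf7 yf47 zf10)) (@D3.rec (fun _ => Pt) (kf xf7 yf47 zf12) (kf xf22 yf48 zf23) (kf xf22 yf29 zf7) (kf xf13 yf43 zf57) (kf xf11 yf15 zf45) (kf xf18 yf9 zf7) (kf xf8 yf43 zf28) (kf xf8 yf43 zf27) (kf xf17 yf52 zf6) (kf xf7 yf7 zf40) (kf xf13 yf40 zf53) (kf xf13 yf31 zf4) (kf xf22 yf51 zf2) (kf xf13 yf40 zf51) (kf xf13 yf31 zf3) (kf xf22 yf51 zf7) (kf xf13 yf40 zf56) (kf xf13 yf40 zf55) (kf xf9 yf56 zf2) (kf xf13 yf42 zf18) (kf xf13 yf42 zf19) (kf xf22 yf47 zf25) (kf xf22 yf47 zf55) (kf xf7 yf7 zf54) (kf xf7 yf7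 zf53) (kf xf7 yf7 zf51) (kf xf7 yf48 zf5) (kf xf14 yf20 zf34) (kf xf22 yf51 zf11) (kf xf12 yf7 zf53) (kf xf22 yf47 zf19) (kf xf22 yf51 zf10) (kf xf16 yf53 zf5) (kf xf16 yf53 zf4) (kf xf22 yf51 zf26) (kf xf7 yf7 zf55) (kf xf8 yf44 zf6) (kf xf8 yf44 zf7) (kf xf8 yf44 zf5) (kf xf8 yf44 zf10) (kf xf19 yf21 zf18) (kf xf13 yf41 zf58) (kf xf22 yf51 zf35) (kf xf22 yf51 zf37) (kf xf13 yf29 zf39) (kf xf13 yf29 zf36) (kf xf22 yf51 zf44) (kf xf7 yf8 zf0) (kf xf18 yf39 zf19) (kf xf13 yf42 zf35) (kf xf22 yf29 zf18) (kf xf22 yf29 zf19) (kf xf22 yf29 zf21) (kf xf12 yf7 zf57) (kf xf20 yf21 zf18) (kf xf20 yf21 zf17) (kf xf22 yf29 zf22) (kf xf13 yf41 zf42) (kf xf8 yf44 zf17) (kf xf13 yf41 zf41) (kf xf12 yf6 zf11) (kf xf13 yf41 zf43)) (@D3.rec (fun _ => Pt) (kf xf22 yf52 zf0) (kf xf13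 yf41 zf46) (kf xf22 yf52 zf5) (kf xf13 yf30 zf14) (kf xf13 yf30 zf11) (kf xf18 yf39 zf11) (kf xf8 yf48 zf1) (kf xf9 yf25 zf27) (kf xf13 yf27 zf58) (kf xf13 yf27 zf57) (kf xf22 yf52 zf12) (kf xf7 yf8 zf16) (kf xf7 yf14 zf31) (kf xf7 yf14 zf35) (kf xf16 yf26 zf34) (kf xf7 yf8 zf19) (kf xf12 yf5 zf4) (kf xf7 yf12 zf9) (kf xf22 yf47 zf41) (kf xf22 yf47 zf42) (kf xf22 yf52 zf31) (kf xf7 yf19 zf18) (kf xf15 yf10 zf27) (kf xf20 yf29 zf31) (kf xf22 yf52 zf38) (kf xf22 yf47 zf44) (kf xf22 yf52 zf45) (kf xf8 yf48 zf30) (kf xf22 yf52 zf51) (kf xf21 yf10 zf61) (kf xf22 yf47 zf46) (kf xf7 yf8 zf29) (kf xf7 yf9 zf6) (kf xf13 yf41 zf24) (kf xf13 yf41 zf25) (kf xf22 yf47 zf56) (kf xf13 yf39 zf17) (kf xf7 yf39 zf47) (kf xf22 yf47 zf57) (kf xf22 yf47 zf58) (kf xf22 yf47 zf59) (kf xf22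 yf53 zf16) (kf xf22 yf29 zf43) (kf xf13 yf41 zf37) (kf xf7 yf17 zf53) (kf xf14 yf28 zf12) (kf xf14 yf27 zf54) (kf xf16 yf28 zf32) (kf xf14 yf27 zf57) (kf xf22 yf52 zf37) (kf xf13 yf33 zf16) (kf xf13 yf33 zf13) (kf xf22 yf47 zf61) (kf xf14 yf27 zf20) (kf xf22 yf53 zf36) (kf xf22 yf47 zf53) (kf xf22 yf47 zf52) (kf xf22 yf53 zf46) (kf xf7 yf8 zf42) (kf xf7 yf17 zf54) (kf xf8 yf48 zf43) (kf xf7 yf50 zf43)) (@D3.rec (fun _ => Pt) (kf xf20 yf25 zf40) (kf xf22 yf53 zf50) (kf xf7 yf50 zf44) (kf xf7 yf53 zf42) (kf xf16 yf28 zf50) (kf xf22 yf47 zf49) (kf xf16 yf27 zf39) (kf xf13 yf41 zf55) (kf xf22 yf42 zf7) (kf xf22 yf42 zf41) (kf xf7 yf8 zf48) (kf xf15 yf38 zf56) (kf xf14 yf27 zf21) (kf xf22 yf53 zf61) (kf xf16 yf28 zf37) (kf xf22 yf48 zf1) (kf xf7 yf8 zf52) (kf xf22 yf48 zf7)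 (kf xf22 yf48 zf8) (kf xf7 yf19 zf25) (kf xf22 yf54 zf15) (kf xf13 yf29 zf12) (kf xf13 yf33 zf0) (kf xf22 yf48 zf10) (kf xf22 yf54 zf20) (kf xf22 yf48 zf5) (kf xf22 yf48 zf4) (kf xf7 yf8 zf58) (kf xf20 yf1 zf60) (kf xf17 yf36 zf4) (kf xf14 yf52 zf28) (kf xf22 yf54 zf33) (kf xf8 yf6 zf28) (kf xf7 yf35 zf50) (kf xf22 yf54 zf39) (kf xf22 yf48 zf13) (kf xf22 yf48 zf12) (kf xf7 yf9 zf0) (kf xf22 yf48 zf17) (kf xf22 yf54 zf49) (kf xf22 yf48 zf15) (kf xf7 yf35 zf20) (kf xf22 yf54 zf54) (kf xf14 yf18 zf30) (kf xf20 yf44 zf1) (kf xf22 yf48 zf40) (kf xf7 yf9 zf3) (kf xf14 yf52 zf22) (kf xf14 yf52 zf21) (kf xf22 yf55 zf4) (kf xf22 yf52 zf57) (kf xf22 yf48 zf21) (kf xf22 yf48 zf20) (kf xf7 yf49 zf52) (kf xf7 yf50 zf22) (kf xf7 yf50 zf23) (kf xf7 yf50 zf25) (kf xf22 yf55 zf23) (kf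 xf13 yf40 zf27) (kf xf13 yf40 zf28) (kf xf13 yf40 zf26) (kf xf13 yf40 zf29)) (@D3.rec (fun _ => Pt) (kf xf13 yf32 zf22) (kf xf22 yf55 zf29) (kf xf7 yf25 zf9) (kf xf13 yf40 zf34) (kf xf21 yf11 zf54) (kf xf13 yf49 zf25) (kf xf22 yf48 zf30) (kf xf22 yf48 zf31) (kf xf22 yf48 zf32) (kf xf21 yf11 zf56) (kf xf13 yf40 zf42) (kf xf13 yf49 zf26) (kf xf11 yf32 zf6) (kf xf13 yf31 zf51) (kf xf22 yf55 zf53) (kf xf13 yf43 zf54) (kf xf13 yf31 zf50) (kf xf22 yf55 zf57) (kf xf22 yf48 zf33) (kf xf22 yf56 zf0) (kf xf22 yf48 zf28) (kf xf22 yf48 zf27) (kf xf22 yf56 zf11) (kf xf7 yf9 zf23) (kf xf7 yf17 zf59) (kf xf7 yf33 zf36) (kf xf7 yf33 zf10) (kf xf7 yf32 zf38) (kf xf19 yf31 zf0) (kf xf22 yf41 zf1) (kf xf22 yf41 zf3) (kf xf22 yf56 zf20) (kf xf7 yf37 zf45) (kf xf7 yf38 zf39) (kf xf7 yf38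 zf40) (kf xf13 yf29 zf51) (kf xf7 yf38 zf43) (kf xf22 yf56 zf31) (kf xf13 yf39 zf1) (kf xf7 yf15 zf13) (kf xf13 yf40 zf30) (kf xf22 yf48 zf24) (kf xf22 yf23 zf56) (kf xf14 yf28 zf25) (kf xf13 yf43 zf42) (kf xf21 yf2 zf58) (kf xf20 yf35 zf56) (kf xf13 yf40 zf58) (kf xf20 yf36 zf8) (kf xf7 yf9 zf39) (kf xf22 yf48 zf25) (kf xf22 yf56 zf51) (kf xf16 yf24 zf38) (kf xf22 yf48 zf35) (kf xf22 yf56 zf58) (kf xf7 yf9 zf41) (kf xf22 yf40 zf58) (kf xf7 yf9 zf42) (kf xf13 yf6 zf58) (kf xf22 yf34 zf10) (kf xf22 yf41 zf50) (kf xf22 yf57 zf2)) (@D3.rec (fun _ => Pt) (kf xf7 yf19 zf46) (kf xf7 yf35 zf42) (kf xf7 yf35 zf43) (kf xf7 yf35 zf39) (kf xf7 yf35 zf44) (kf xf22 yf57 zf14) (kf xf14 yf52 zf18) (kf xf22 yf57 zf20) (kf xf14 yf52 zf19) (kf xf10 yf33 zf35) (kf xf14 yf52 zf23) (kf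 xf8 yf19 zf24) (kf xf22 yf48 zf43) (kf xf22 yf48 zf42) (kf xf7 yf9 zf57) (kf xf7 yf33 zf48) (kf xf7 yf33 zf49) (kf xf7 yf33 zf45) (kf xf7 yf33 zf50) (kf xf20 yf33 zf25) (kf xf7 yf16 zf4) (kf xf7 yf16 zf5) (kf xf7 yf16 zf6) (kf xf7 yf34 zf13) (kf xf7 yf17 zf37) (kf xf7 yf34 zf14) (kf xf7 yf34 zf16) (kf xf7 yf34 zf3) (kf xf7 yf34 zf18) (kf xf7 yf34 zf19) (kf xf7 yf34 zf20) (kf xf18 yf54 zf60) (kf xf13 yf44 zf44) (kf xf13 yf44 zf43) (kf xf7 yf10 zf4) (kf xf13 yf15 zf20) (kf xf13 yf15 zf21) (kf xf13 yf15 zf22) (kf xf13 yf29 zf29) (kf xf13 yf39 zf16) (kf xf13 yf39 zf19) (kf xf22 yf0 zf39) (kf xf13 yf39 zf20) (kf xf14 yf26 zf32) (kf xf22 yf26 zf53) (kf xf14 yf13 zf10) (kf xf7 yf10 zf13) (kf xf13 yf46 zf22) (kf xf13 yf46 zf21) (kf xf22 yf58 zf14) (kf xf7 yf10 zf14) (kf xf13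 yf22 zf33) (kf xf13 yf29 zf49) (kf xf13 yf11 zf47) (kf xf22 yf48 zf54) (kf xf7 yf45 zf40) (kf xf22 yf48 zf55) (kf xf22 yf45 zf32) (kf xf22 yf12 zf10) (kf xf22 yf48 zf56) (kf xf7 yf40 zf49) (kf xf22 yf12 zf9)) (@D3.rec (fun _ => Pt) (kf xf14 yf9 zf53) (kf xf13 yf19 zf19) (kf xf13 yf19 zf22) (kf xf22 yf48 zf58) (kf xf22 yf58 zf40) (kf xf7 yf35 zf38) (kf xf7 yf46 zf43) (kf xf22 yf48 zf52) (kf xf22 yf48 zf51) (kf xf22 yf58 zf52) (kf xf7 yf10 zf25) (kf xf7 yf46 zf47) (kf xf22 yf48 zf45) (kf xf7 yf46 zf3) (kf xf13 yf45 zf7) (kf xf13 yf10 zf5) (kf xf7 yf46 zf4) (kf xf13 yf45 zf8) (kf xf7 yf42 zf18) (kf xf22 yf48 zf46) (kf xf22 yf59 zf6) (kf xf22 yf48 zf47) (kf xf22 yf48 zf48) (kf xf22 yf48 zf49) (kf xf22 yf59 zf16) (kf xf22 yf59 zf4) (kf xf22 yf58 zf61) (kf xf13 yf22 zf29)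 (kf xf7 yf10 zf31) (kf xf22 yf48 zf61) (kf xf14 yf35 zf40) (kf xf22 yf59 zf27) (kf xf7 yf10 zf32) (kf xf13 yf22 zf30) (kf xf22 yf58 zf58) (kf xf14 yf44 zf46) (kf xf13 yf49 zf54) (kf xf7 yf10 zf35) (kf xf13 yf49 zf55) (kf xf13 yf39 zf35) (kf xf13 yf11 zf46) (kf xf13 yf11 zf41) (kf xf13 yf11 zf48) (kf xf13 yf11 zf54) (kf xf22 yf47 zf23) (kf xf13 yf6 zf5) (kf xf22 yf59 zf40) (kf xf7 yf30 zf49) (kf xf7 yf30 zf54) (kf xf10 yf25 zf18) (kf xf13 yf29 zf6) (kf xf22 yf59 zf48) (kf xf7 yf10 zf43) (kf xf22 yf59 zf39) (kf xf22 yf59 zf38) (kf xf7 yf10 zf44) (kf xf22 yf59 zf55) (kf xf13 yf45 zf6) (kf xf13 yf45 zf9) (kf xf10 yf27 zf0) (kf xf13 yf45 zf1) (kf xf13 yf45 zf0)) (@D3.rec (fun _ => Pt) (kf xf7 yf10 zf47) (kf xf13 yf16 zf26) (kf xf13 yf29 zf5) (kf xf13 yf29 zf4) (kf xf23 yf0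 zf8) (kf xf13 yf36 zf19) (kf xf13 yf36 zf18) (kf xf23 yf0 zf16) (kf xf7 yf10 zf49) (kf xf22 yf49 zf29) (kf xf14 yf17 zf26) (kf xf22 yf49 zf30) (kf xf23 yf0 zf30) (kf xf22 yf49 zf26) (kf xf14 yf17 zf25) (kf xf22 yf49 zf27) (kf xf23 yf0 zf40) (kf xf7 yf10 zf53) (kf xf13 yf36 zf6) (kf xf13 yf36 zf5) (kf xf13 yf36 zf52) (kf xf13 yf36 zf53) (kf xf23 yf0 zf48) (kf xf13 yf36 zf55) (kf xf13 yf36 zf56) (kf xf23 yf0 zf53) (kf xf13 yf36 zf58) (kf xf13 yf36 zf59) (kf xf13 yf36 zf61) (kf xf19 yf45 zf21) (kf xf19 yf45 zf22) (kf xf7 yf24 zf19) (kf xf7 yf24 zf25) (kf xf13 yf37 zf7) (kf xf13 yf8 zf58) (kf xf7 yf23 zf52) (kf xf13 yf37 zf9) (kf xf23 yf1 zf7) (kf xf7 yf40 zf3) (kf xf7 yf37 zf55) (kf xf7 yf53 zf18) (kf xf7 yf53 zf26) (kf xf23 yf1 zf10) (kf xf13 yf8 zf41) (kf xf13 yf53 zf31)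 (kf xf13 yf8 zf42) (kf xf17 yf23 zf57) (kf xf13 yf8 zf44) (kf xf7 yf52 zf15) (kf xf7 yf37 zf28) (kf xf7 yf37 zf35) (kf xf17 yf50 zf7) (kf xf13 yf36 zf20) (kf xf13 yf36 zf21) (kf xf23 yf1 zf24) (kf xf13 yf36 zf23) (kf xf13 yf36 zf24) (kf xf23 yf1 zf28) (kf xf13 yf36 zf26) (kf xf13 yf36 zf27) (kf xf8 yf57 zf7) (kf xf13 yf36 zf28)) (@D3.rec (fun _ => Pt) (kf xf10 yf56 zf21) (kf xf17 yf23 zf34) (kf xf23 yf1 zf43) (kf xf7 yf11 zf13) (kf xf7 yf43 zf31) (kf xf13 yf4 zf36) (kf xf14 yf56 zf37) (kf xf13 yf36 zf33) (kf xf11 yf2 zf51) (kf xf13 yf36 zf36) (kf xf23 yf1 zf50) (kf xf7 yf26 zf11) (kf xf12 yf19 zf0) (kf xf12 yf19 zf12) (kf xf12 yf19 zf13) (kf xf12 yf19 zf14) (kf xf12 yf19 zf15) (kf xf18 yf36 zf60) (kf xf7 yf26 zf37) (kf xf23 yf2 zf1) (kf xf7 yf28 zf32) (kf xf7 yf29 zf32)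 (kf xf7 yf28 zf52) (kf xf7 yf29 zf39) (kf xf7 yf29 zf52) (kf xf23 yf2 zf6) (kf xf23 yf2 zf0) (kf xf23 yf1 zf61) (kf xf7 yf11 zf29) (kf xf13 yf8 zf26) (kf xf22 yf14 zf41) (kf xf22 yf26 zf59) (kf xf22 yf16 zf24) (kf xf13 yf49 zf57) (kf xf23 yf2 zf20) (kf xf13 yf13 zf3) (kf xf7 yf24 zf20) (kf xf13 yf13 zf18) (kf xf13 yf13 zf24) (kf xf21 yf14 zf57) (kf xf12 yf21 zf25) (kf xf12 yf21 zf26) (kf xf12 yf21 zf27) (kf xf12 yf21 zf28) (kf xf12 yf24 zf39) (kf xf23 yf2 zf39) (kf xf21 yf5 zf58) (kf xf12 yf21 zf38) (kf xf12 yf21 zf39) (kf xf12 yf26 zf4) (kf xf12 yf21 zf41) (kf xf12 yf21 zf42) (kf xf23 yf2 zf49) (kf xf12 yf24 zf38) (kf xf12 yf24 zf37) (kf xf10 yf23 zf0) (kf xf8 yf23 zf27) (kf xf7 yf18 zf52) (kf xf23 yf2 zf57) (kf xf7 yf18 zf56) (kf xf7 yf19 zf23) (kf xf22 yf14 zf37))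 (@D3.rec (fun _ => Pt) (kf xf7 yf19 zf5) (kf xf7 yf19 zf28) (kf xf7 yf19 zf41) (kf xf23 yf3 zf6) (kf xf23 yf2 zf56) (kf xf23 yf2 zf55) (kf xf7 yf11 zf53) (kf xf13 yf48 zf30) (kf xf23 yf3 zf16) (kf xf7 yf18 zf9) (kf xf22 yf55 zf48) (kf xf7 yf12 zf1) (kf xf7 yf12 zf4) (kf xf7 yf12 zf3) (kf xf7 yf12 zf2) (kf xf7 yf27 zf48) (kf xf16 yf26 zf42) (kf xf22 yf49 zf40) (kf xf23 yf3 zf19) (kf xf7 yf27 zf47) (kf xf23 yf3 zf20) (kf xf13 yf51 zf54) (kf xf8 yf45 zf57) (kf xf12 yf23 zf3) (kf xf23 yf3 zf35) (kf xf7 yf12 zf5) (kf xf16 yf34 zf34) (kf xf7 yf12 zf7) (kf xf16 yf34 zf33) (kf xf8 yf46 zf25) (kf xf8 yf46 zf26) (kf xf11 yf49 zf50) (kf xf13 yf23 zf19) (kf xf11 yf20 zf50) (kf xf14 yf28 zf20) (kf xf7 yf12 zf31) (kf xf7 yf12 zf32) (kf xf13 yf27 zf41) (kf xf11 yf49 zf49) (kf xf9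 yf59 zf2) (kf xf12 yf46 zf22) (kf xf16 yf7 zf47) (kf xf8 yf46 zf23) (kf xf7 yf16 zf46) (kf xf13 yf27 zf47) (kf xf14 yf28 zf13) (kf xf13 yf27 zf49) (kf xf12 yf45 zf46) (kf xf7 yf16 zf58) (kf xf13 yf27 zf9) (kf xf22 yf30 zf47) (kf xf20 yf34 zf61) (kf xf13 yf52 zf6) (kf xf8 yf45 zf51) (kf xf23 yf3 zf58) (kf xf7 yf12 zf33) (kf xf13 yf26 zf54) (kf xf13 yf52 zf12) (kf xf13 yf26 zf56) (kf xf16 yf26 zf21) (kf xf13 yf18 zf3) (kf xf13 yf26 zf48)) (@D3.rec (fun _ => Pt) (kf xf13 yf26 zf49) (kf xf13 yf33 zf38) (kf xf13 yf26 zf50) (kf xf13 yf27 zf1) (kf xf13 yf26 zf59) (kf xf13 yf26 zf60) (kf xf23 yf4 zf15) (kf xf23 yf4 zf19) (kf xf7 yf12 zf44) (kf xf8 yf46 zf12) (kf xf13 yf27 zf8) (kf xf13 yf27 zf10) (kf xf23 yf4 zf22) (kf xf13 yf27 zf19) (kf xf13 yf27 zf20) (kf xf13 yf27 zf21)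 (kf xf13 yf34 zf39) (kf xf13 yf31 zf36) (kf xf7 yf48 zf23) (kf xf13 yf34 zf40) (kf xf13 yf34 zf42) (kf xf23 yf4 zf33) (kf xf13 yf27 zf32) (kf xf13 yf27 zf31) (kf xf7 yf12 zf54) (kf xf22 yf28 zf39) (kf xf18 yf21 zf42) (kf xf13 yf28 zf2) (kf xf13 yf28 zf3) (kf xf13 yf28 zf4) (kf xf13 yf28 zf0) (kf xf13 yf28 zf1) (kf xf14 yf10 zf44) (kf xf13 yf28 zf7) (kf xf13 yf28 zf6) (kf xf13 yf35 zf39) (kf xf7 yf12 zf60) (kf xf7 yf14 zf49) (kf xf7 yf14 zf42) (kf xf7 yf14 zf51) (kf xf23 yf5 zf0) (kf xf7 yf14 zf4) (kf xf7 yf14 zf40) (kf xf7 yf14 zf41) (kf xf7 yf14 zf44) (kf xf23 yf5 zf4) (kf xf7 yf14 zf58) (kf xf7 yf14 zf59) (kf xf23 yf5 zf10) (kf xf7 yf14 zf54) (kf xf7 yf14 zf55) (kf xf23 yf5 zf15) (kf xf7 yf15 zf1) (kf xf7 yf15 zf0) (kf xf23 yf5 zf21) (kf xf7 yf15 zf49) (kf xf7 yf13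 zf6) (kf xf22 yf52 zf18) (kf xf7 yf13 zf28) (kf xf7 yf13 zf44) (kf xf7 yf15 zf19) (kf xf7 yf15 zf20)) (@D3.rec (fun _ => Pt) (kf xf7 yf15 zf22) (kf xf23 yf5 zf32) (kf xf7 yf13 zf31) (kf xf7 yf15 zf11) (kf xf7 yf15 zf12) (kf xf7 yf15 zf15) (kf xf23 yf5 zf37) (kf xf7 yf15 zf31) (kf xf7 yf15 zf40) (kf xf22 yf17 zf35) (kf xf13 yf16 zf46) (kf xf7 yf41 zf44) (kf xf7 yf13 zf15) (kf xf7 yf15 zf3) (kf xf23 yf5 zf48) (kf xf13 yf16 zf24) (kf xf13 yf16 zf25) (kf xf14 yf17 zf35) (kf xf14 yf17 zf36) (kf xf13 yf45 zf14) (kf xf23 yf5 zf56) (kf xf7 yf16 zf15) (kf xf7 yf16 zf14) (kf xf7 yf13 zf21) (kf xf13 yf29 zf26) (kf xf7 yf47 zf57) (kf xf13 yf32 zf60) (kf xf13 yf32 zf58) (kf xf13 yf32 zf59) (kf xf13 yf32 zf61) (kf xf13 yf33 zf40) (kf xf7 yf18 zf17) (kf xf7 yf39 zf20) (kf xf13 yf42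 zf53) (kf xf13 yf33 zf3) (kf xf22 yf47 zf27) (kf xf7 yf20 zf26) (kf xf16 yf20 zf29) (kf xf22 yf29 zf3) (kf xf22 yf28 zf35) (kf xf7 yf20 zf25) (kf xf22 yf28 zf36) (kf xf13 yf33 zf10) (kf xf7 yf39 zf11) (kf xf7 yf47 zf58) (kf xf7 yf47 zf59) (kf xf7 yf48 zf0) (kf xf7 yf13 zf45) (kf xf7 yf13 zf46) (kf xf10 yf13 zf20) (kf xf7 yf18 zf13) (kf xf13 yf30 zf13) (kf xf23 yf6 zf23) (kf xf13 yf30 zf10) (kf xf21 yf7 zf51) (kf xf13 yf30 zf17) (kf xf13 yf30 zf16) (kf xf22 yf28 zf38) (kf xf13 yf33 zf47) (kf xf16 yf54 zf4) (kf xf15 yf11 zf0) (kf xf13 yf29 zf23)) (@D3.rec (fun _ => Pt) (kf xf13 yf29 zf25) (kf xf13 yf29 zf32) (kf xf13 yf15 zf28) (kf xf13 yf23 zf50) (kf xf7 yf18 zf28) (kf xf13 yf29 zf33) (kf xf18 yf49 zf14) (kf xf7 yf39 zf12) (kf xf13 yf29 zf27) (kf xf13 yf29 zf28) (kf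 xf13 yf29 zf30) (kf xf23 yf6 zf47) (kf xf23 yf6 zf50) (kf xf13 yf29 zf35) (kf xf23 yf6 zf55) (kf xf13 yf29 zf42) (kf xf13 yf29 zf41) (kf xf18 yf46 zf6) (kf xf13 yf22 zf32) (kf xf7 yf13 zf58) (kf xf13 yf29 zf46) (kf xf13 yf22 zf35) (kf xf16 yf22 zf45) (kf xf11 yf41 zf43) (kf xf13 yf31 zf33) (kf xf13 yf31 zf34) (kf xf14 yf24 zf22) (kf xf7 yf35 zf60) (kf xf21 yf15 zf55) (kf xf23 yf5 zf1) (kf xf22 yf28 zf45) (kf xf7 yf14 zf21) (kf xf22 yf28 zf43) (kf xf22 yf28 zf44) (kf xf14 yf22 zf46) (kf xf13 yf7 zf14) (kf xf16 yf35 zf47) (kf xf13 yf31 zf43) (kf xf16 yf21 zf34) (kf xf22 yf28 zf46) (kf xf20 yf49 zf16) (kf xf13 yf30 zf59) (kf xf13 yf30 zf57) (kf xf13 yf30 zf61) (kf xf10 yf15 zf15) (kf xf7 yf14 zf14) (kf xf13 yf31 zf1) (kf xf23 yf7 zf16) (kf xf23 yf7 zf19) (kf xf12 yf22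 zf14) (kf xf7 yf19 zf11) (kf xf7 yf14 zf20) (kf xf7 yf14 zf19) (kf xf14 yf22 zf49) (kf xf16 yf22 zf48) (kf xf13 yf32 zf7) (kf xf23 yf7 zf4) (kf xf23 yf7 zf26) (kf xf13 yf30 zf41) (kf xf16 yf33 zf16) (kf xf23 yf7 zf33) (kf xf13 yf22 zf27)) (@D3.rec (fun _ => Pt) (kf xf7 yf14 zf25) (kf xf14 yf58 zf34) (kf xf12 yf6 zf9) (kf xf16 yf25 zf55) (kf xf8 yf48 zf9) (kf xf16 yf28 zf39) (kf xf22 yf52 zf13) (kf xf23 yf7 zf48) (kf xf7 yf17 zf32) (kf xf21 yf10 zf38) (kf xf23 yf7 zf54) (kf xf22 yf52 zf15) (kf xf23 yf7 zf60) (kf xf16 yf33 zf61) (kf xf23 yf8 zf4) (kf xf16 yf26 zf2) (kf xf7 yf14 zf37) (kf xf7 yf15 zf5) (kf xf13 yf30 zf19) (kf xf13 yf30 zf20) (kf xf20 yf30 zf22) (kf xf17 yf0 zf30) (kf xf23 yf8 zf10) (kf xf23 yf4 zf43) (kf xf14 yf48 zf44) (kf xf23 yf8 zf16) (kf xf14 yf48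 zf49) (kf xf23 yf7 zf53) (kf xf13 yf43 zf43) (kf xf13 yf43 zf40) (kf xf7 yf35 zf33) (kf xf23 yf8 zf25) (kf xf22 yf23 zf28) (kf xf23 yf4 zf61) (kf xf7 yf14 zf45) (kf xf13 yf30 zf49) (kf xf7 yf52 zf37) (kf xf21 yf14 zf40) (kf xf7 yf52 zf38) (kf xf23 yf4 zf54) (kf xf23 yf4 zf55) (kf xf23 yf4 zf56) (kf xf9 yf14 zf57) (kf xf23 yf4 zf59) (kf xf23 yf8 zf50) (kf xf21 yf12 zf21) (kf xf23 yf5 zf3) (kf xf21 yf28 zf36) (kf xf7 yf14 zf52) (kf xf14 yf45 zf15) (kf xf11 yf50 zf32) (kf xf7 yf17 zf39) (kf xf23 yf8 zf59) (kf xf13 yf40 zf33) (kf xf13 yf21 zf52) (kf xf23 yf9 zf4) (kf xf23 yf5 zf9) (kf xf23 yf5 zf8) (kf xf23 yf9 zf11) (kf xf7 yf14 zf57) (kf xf21 yf14 zf41) (kf xf23 yf5 zf5)) (@D3.rec (fun _ => Pt) (kf xf14 yf25 zf22) (kf xf23 yf9 zf18) (kf xf23 yf5 zf6) (kf xf14 yf25 zf15)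 (kf xf23 yf9 zf24) (kf xf23 yf5 zf14) (kf xf23 yf5 zf13) (kf xf23 yf9 zf34) (kf xf7 yf14 zf61) (kf xf20 yf49 zf31) (kf xf13 yf23 zf36) (kf xf16 yf1 zf56) (kf xf15 yf57 zf60) (kf xf14 yf24 zf31) (kf xf16 yf1 zf58) (kf xf23 yf9 zf38) (kf xf16 yf26 zf35) (kf xf23 yf9 zf36) (kf xf23 yf5 zf44) (kf xf7 yf15 zf2) (kf xf7 yf35 zf3) (kf xf23 yf9 zf48) (kf xf23 yf8 zf5) (kf xf23 yf5 zf25) (kf xf23 yf5 zf24) (kf xf7 yf52 zf19) (kf xf7 yf52 zf22) (kf xf7 yf39 zf15) (kf xf7 yf39 zf16) (kf xf7 yf39 zf13) (kf xf7 yf39 zf17) (kf xf7 yf39 zf21) (kf xf16 yf26 zf31) (kf xf9 yf47 zf11) (kf xf15 yf53 zf23) (kf xf23 yf5 zf33) (kf xf17 yf56 zf61) (kf xf8 yf9 zf49) (kf xf23 yf10 zf10) (kf xf22 yf56 zf34) (kf xf13 yf42 zf29) (kf xf23 yf10 zf17) (kf xf13 yf33 zf44) (kf xf13 yf42 zf28) (kf xf23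 yf10 zf23) (kf xf20 yf49 zf26) (kf xf23 yf10 zf26) (kf xf23 yf5 zf31) (kf xf23 yf5 zf30) (kf xf7 yf15 zf16) (kf xf13 yf9 zf55) (kf xf23 yf1 zf20) (kf xf14 yf44 zf48) (kf xf23 yf5 zf27) (kf xf13 yf33 zf15) (kf xf23 yf1 zf19) (kf xf23 yf10 zf36) (kf xf13 yf30 zf3) (kf xf14 yf44 zf51) (kf xf15 yf15 zf10) (kf xf23 yf10 zf39) (kf xf23 yf5 zf36)) (@D3.rec (fun _ => Pt) (kf xf23 yf5 zf35) (kf xf23 yf10 zf48) (kf xf7 yf15 zf23) (kf xf13 yf11 zf19) (kf xf14 yf44 zf56) (kf xf7 yf34 zf54) (kf xf7 yf19 zf53) (kf xf7 yf39 zf23) (kf xf7 yf18 zf11) (kf xf11 yf32 zf13) (kf xf13 yf17 zf10) (kf xf23 yf10 zf54) (kf xf13 yf23 zf42) (kf xf13 yf19 zf20) (kf xf23 yf5 zf38) (kf xf23 yf5 zf39) (kf xf14 yf25 zf14) (kf xf23 yf10 zf61) (kf xf13 yf21 zf43) (kf xf13 yf21 zf44) (kf xf13 yf21 zf36)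 (kf xf7 yf52 zf50) (kf xf13 yf21 zf45) (kf xf13 yf16 zf56) (kf xf23 yf11 zf9) (kf xf14 yf28 zf27) (kf xf13 yf20 zf26) (kf xf13 yf9 zf26) (kf xf23 yf11 zf12) (kf xf7 yf35 zf27) (kf xf23 yf11 zf14) (kf xf23 yf5 zf20) (kf xf23 yf11 zf22) (kf xf23 yf5 zf47) (kf xf23 yf5 zf46) (kf xf7 yf15 zf50) (kf xf19 yf15 zf42) (kf xf13 yf23 zf10) (kf xf13 yf17 zf36) (kf xf12 yf34 zf6) (kf xf13 yf17 zf39) (kf xf13 yf17 zf40) (kf xf13 yf17 zf41) (kf xf13 yf34 zf33) (kf xf13 yf34 zf32) (kf xf7 yf15 zf57) (kf xf13 yf19 zf18) (kf xf12 yf46 zf60) (kf xf13 yf19 zf21) (kf xf12 yf48 zf7) (kf xf7 yf22 zf14) (kf xf13 yf19 zf9) (kf xf12 yf34 zf53) (kf xf7 yf24 zf34) (kf xf13 yf19 zf12) (kf xf13 yf19 zf23) (kf xf13 yf19 zf24) (kf xf13 yf19 zf25) (kf xf23 yf11 zf49) (kf xf12 yf34 zf54) (kf xf12 yf34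 zf55) (kf xf12 yf34 zf56)) (@D3.rec (fun _ => Pt) (kf xf13 yf35 zf61) (kf xf13 yf35 zf60) (kf xf14 yf35 zf21) (kf xf7 yf16 zf2) (kf xf14 yf15 zf43) (kf xf13 yf20 zf6) (kf xf13 yf35 zf57) (kf xf13 yf35 zf14) (kf xf13 yf35 zf17) (kf xf13 yf35 zf58) (kf xf13 yf20 zf7) (kf xf13 yf20 zf8) (kf xf13 yf20 zf9) (kf xf18 yf54 zf27) (kf xf13 yf40 zf19) (kf xf20 yf25 zf20) (kf xf22 yf17 zf39) (kf xf22 yf17 zf38) (kf xf7 yf16 zf11) (kf xf13 yf28 zf61) (kf xf13 yf29 zf2) (kf xf13 yf6 zf10) (kf xf23 yf12 zf20) (kf xf13 yf45 zf36) (kf xf13 yf45 zf35) (kf xf7 yf16 zf13) (kf xf23 yf5 zf59) (kf xf22 yf33 zf48) (kf xf23 yf5 zf60) (kf xf22 yf57 zf28) (kf xf23 yf5 zf57) (kf xf22 yf33 zf47) (kf xf23 yf5 zf58) (kf xf22 yf7 zf1) (kf xf7 yf16 zf17) (kf xf13 yf45 zf24) (kf xf13 yf45 zf23) (kf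 xf23 yf12 zf42) (kf xf7 yf45 zf49) (kf xf7 yf41 zf60) (kf xf7 yf42 zf6) (kf xf7 yf53 zf16) (kf xf19 yf30 zf10) (kf xf7 yf30 zf17) (kf xf13 yf9 zf31) (kf xf7 yf50 zf37) (kf xf23 yf12 zf57) (kf xf7 yf42 zf45) (kf xf7 yf42 zf46) (kf xf7 yf42 zf42) (kf xf7 yf42 zf47) (kf xf7 yf42 zf52) (kf xf17 yf50 zf6) (kf xf13 yf46 zf2) (kf xf15 yf55 zf29) (kf xf8 yf29 zf24) (kf xf15 yf55 zf31) (kf xf13 yf46 zf5) (kf xf13 yf46 zf6) (kf xf7 yf49 zf34) (kf xf21 yf47 zf37) (kf xf23 yf12 zf56)) (@D3.rec (fun _ => Pt) (kf xf19 yf42 zf11) (kf xf7 yf16 zf28) (kf xf13 yf45 zf53) (kf xf11 yf50 zf58) (kf xf11 yf50 zf57) (kf xf13 yf45 zf57) (kf xf13 yf45 zf58) (kf xf12 yf41 zf13) (kf xf22 yf22 zf10) (kf xf22 yf22 zf9) (kf xf23 yf13 zf21) (kf xf7 yf16 zf32) (kf xf14 yf56 zf54) (kf xf13 yf25 zf53)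 (kf xf13 yf25 zf54) (kf xf23 yf13 zf28) (kf xf13 yf27 zf25) (kf xf13 yf27 zf26) (kf xf7 yf38 zf10) (kf xf13 yf27 zf27) (kf xf8 yf19 zf12) (kf xf13 yf34 zf48) (kf xf13 yf34 zf47) (kf xf7 yf16 zf43) (kf xf23 yf3 zf45) (kf xf22 yf46 zf15) (kf xf23 yf3 zf46) (kf xf8 yf2 zf13) (kf xf23 yf13 zf40) (kf xf7 yf16 zf47) (kf xf13 yf50 zf12) (kf xf13 yf50 zf13) (kf xf13 yf50 zf14) (kf xf14 yf25 zf23) (kf xf13 yf50 zf8) (kf xf13 yf50 zf9) (kf xf13 yf50 zf10) (kf xf23 yf3 zf49) (kf xf13 yf50 zf17) (kf xf13 yf50 zf16) (kf xf14 yf0 zf42) (kf xf7 yf16 zf50) (kf xf23 yf14 zf1) (kf xf7 yf16 zf52) (kf xf7 yf17 zf46) (kf xf7 yf17 zf48) (kf xf7 yf17 zf10) (kf xf7 yf17 zf38) (kf xf22 yf41 zf22) (kf xf7 yf17 zf41) (kf xf23 yf14 zf10) (kf xf7 yf17 zf56) (kf xf7 yf17 zf57) (kf xf23 yf14 zf16)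 (kf xf7 yf17 zf60) (kf xf13 yf48 zf52) (kf xf23 yf14 zf2) (kf xf7 yf18 zf23) (kf xf7 yf18 zf12) (kf xf7 yf18 zf25) (kf xf23 yf14 zf30) (kf xf7 yf18 zf10)) (@D3.rec (fun _ => Pt) (kf xf13 yf23 zf49) (kf xf7 yf18 zf14) (kf xf23 yf14 zf37) (kf xf11 yf44 zf35) (kf xf13 yf50 zf60) (kf xf22 yf30 zf59) (kf xf21 yf14 zf10) (kf xf21 yf14 zf11) (kf xf22 yf51 zf17) (kf xf21 yf14 zf6) (kf xf21 yf14 zf7) (kf xf21 yf14 zf8) (kf xf13 yf51 zf7) (kf xf13 yf50 zf44) (kf xf19 yf50 zf0) (kf xf21 yf51 zf48) (kf xf8 yf50 zf26) (kf xf21 yf14 zf52) (kf xf21 yf14 zf53) (kf xf13 yf51 zf18) (kf xf21 yf14 zf51) (kf xf23 yf9 zf14) (kf xf17 yf15 zf32) (kf xf7 yf17 zf19) (kf xf13 yf50 zf32) (kf xf21 yf55 zf1) (kf xf20 yf47 zf30) (kf xf7 yf17 zf22) (kf xf8 yf50 zf33) (kf xf16 yf29 zf22) (kf xf7 yf19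 zf14) (kf xf7 yf17 zf26) (kf xf8 yf38 zf59) (kf xf18 yf40 zf43) (kf xf18 yf40 zf42) (kf xf20 yf30 zf48) (kf xf23 yf15 zf8) (kf xf18 yf40 zf49) (kf xf14 yf45 zf23) (kf xf23 yf7 zf49) (kf xf22 yf29 zf37) (kf xf18 yf18 zf59) (kf xf23 yf15 zf21) (kf xf15 yf10 zf25) (kf xf23 yf13 zf60) (kf xf23 yf15 zf31) (kf xf23 yf15 zf36) (kf xf7 yf17 zf34) (kf xf7 yf18 zf2) (kf xf13 yf50 zf19) (kf xf13 yf50 zf20) (kf xf22 yf57 zf38) (kf xf22 yf41 zf17) (kf xf20 yf32 zf16) (kf xf23 yf7 zf6) (kf xf23 yf14 zf5) (kf xf23 yf15 zf51) (kf xf23 yf8 zf58) (kf xf13 yf50 zf29) (kf xf14 yf10 zf49) (kf xf14 yf45 zf18) (kf xf23 yf15 zf60)) (@D3.rec (fun _ => Pt) (kf xf13 yf49 zf15) (kf xf13 yf49 zf13) (kf xf23 yf14 zf6) (kf xf23 yf16 zf9) (kf xf23 yf9 zf32) (kf xf23 yf9 zf31) (kf xf7 yf17 zf42) (kf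 xf8 yf38 zf9) (kf xf7 yf24 zf17) (kf xf21 yf14 zf47) (kf xf21 yf14 zf23) (kf xf7 yf21 zf50) (kf xf7 yf24 zf18) (kf xf23 yf14 zf3) (kf xf14 yf0 zf32) (kf xf22 yf30 zf13) (kf xf10 yf1 zf36) (kf xf13 yf50 zf42) (kf xf14 yf53 zf33) (kf xf7 yf17 zf47) (kf xf23 yf14 zf4) (kf xf23 yf16 zf29) (kf xf23 yf14 zf9) (kf xf23 yf14 zf8) (kf xf22 yf18 zf48) (kf xf7 yf17 zf49) (kf xf14 yf53 zf34) (kf xf20 yf32 zf29) (kf xf22 yf53 zf18) (kf xf12 yf9 zf41) (kf xf13 yf38 zf7) (kf xf22 yf53 zf47) (kf xf23 yf16 zf42) (kf xf23 yf14 zf15) (kf xf23 yf14 zf14) (kf xf23 yf16 zf50) (kf xf7 yf17 zf55) (kf xf10 yf4 zf19) (kf xf14 yf7 zf20) (kf xf23 yf16 zf56) (kf xf23 yf14 zf12) (kf xf23 yf17 zf0) (kf xf22 yf53 zf44) (kf xf22 yf53 zf43) (kf xf7 yf17 zf58) (kf xf22 yf56 zf12) (kf xf23 yf17 zf11)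 (kf xf23 yf14 zf17) (kf xf23 yf15 zf25) (kf xf23 yf17 zf21) (kf xf23 yf17 zf16) (kf xf23 yf17 zf15) (kf xf13 yf46 zf55) (kf xf7 yf17 zf61) (kf xf23 yf17 zf33) (kf xf23 yf15 zf37) (kf xf23 yf14 zf22) (kf xf18 yf42 zf40) (kf xf7 yf23 zf0) (kf xf7 yf23 zf61) (kf xf13 yf18 zf5) (kf xf13 yf18 zf6)) (@D3.rec (fun _ => Pt) (kf xf13 yf18 zf7) (kf xf13 yf18 zf9) (kf xf23 yf17 zf53) (kf xf13 yf26 zf38) (kf xf23 yf3 zf17) (kf xf23 yf14 zf31) (kf xf23 yf6 zf15) (kf xf23 yf14 zf32) (kf xf23 yf18 zf5) (kf xf19 yf56 zf41) (kf xf13 yf26 zf43) (kf xf16 yf27 zf21) (kf xf23 yf14 zf25) (kf xf13 yf48 zf1) (kf xf23 yf18 zf13) (kf xf13 yf48 zf0) (kf xf23 yf18 zf17) (kf xf23 yf14 zf33) (kf xf23 yf18 zf23) (kf xf23 yf14 zf29) (kf xf23 yf14 zf28) (kf xf23 yf18 zf31) (kf xf7 yf18 zf15) (kf xf7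 yf47 zf60) (kf xf13 yf15 zf32) (kf xf13 yf33 zf5) (kf xf13 yf33 zf11) (kf xf21 yf12 zf60) (kf xf22 yf31 zf23) (kf xf18 yf49 zf19) (kf xf22 yf31 zf40) (kf xf23 yf14 zf23) (kf xf18 yf20 zf6) (kf xf13 yf27 zf36) (kf xf7 yf18 zf24) (kf xf23 yf14 zf26) (kf xf23 yf18 zf42) (kf xf23 yf14 zf36) (kf xf23 yf14 zf35) (kf xf18 yf49 zf37) (kf xf7 yf18 zf26) (kf xf13 yf27 zf40) (kf xf14 yf53 zf37) (kf xf13 yf15 zf26) (kf xf13 yf15 zf25) (kf xf14 yf56 zf55) (kf xf23 yf18 zf50) (kf xf13 yf3 zf6) (kf xf23 yf18 zf55) (kf xf14 yf5 zf59) (kf xf13 yf6 zf12) (kf xf23 yf18 zf59) (kf xf7 yf30 zf47) (kf xf7 yf30 zf46) (kf xf13 yf35 zf36) (kf xf13 yf35 zf38) (kf xf22 yf52 zf11) (kf xf13 yf37 zf33) (kf xf23 yf19 zf5) (kf xf23 yf18 zf58) (kf xf23 yf18 zf57) (kf xf23 yf19 zf14)) (@D3.rec (fun _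 => Pt) (kf xf7 yf18 zf40) (kf xf13 yf3 zf28) (kf xf14 yf33 zf55) (kf xf13 yf3 zf54) (kf xf13 yf3 zf60) (kf xf14 yf52 zf4) (kf xf13 yf7 zf57) (kf xf22 yf46 zf37) (kf xf13 yf46 zf34) (kf xf13 yf46 zf35) (kf xf13 yf46 zf36) (kf xf22 yf47 zf16) (kf xf13 yf46 zf30) (kf xf13 yf46 zf31) (kf xf13 yf46 zf32) (kf xf22 yf46 zf40) (kf xf13 yf46 zf39) (kf xf13 yf46 zf38) (kf xf23 yf2 zf23) (kf xf13 yf47 zf49) (kf xf13 yf47 zf50) (kf xf14 yf14 zf33) (kf xf14 yf44 zf61) (kf xf7 yf18 zf59) (kf xf7 yf18 zf58) (kf xf7 yf18 zf57) (kf xf20 yf30 zf37) (kf xf23 yf2 zf59) (kf xf14 yf12 zf35) (kf xf13 yf47 zf58) (kf xf18 yf1 zf30) (kf xf7 yf18 zf60) (kf xf13 yf47 zf24) (kf xf23 yf19 zf45) (kf xf12 yf47 zf36) (kf xf20 yf52 zf7) (kf xf7 yf46 zf51) (kf xf7 yf19 zf2) (kf xf15 yf0 zf4) (kf xf14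 yf17 zf12) (kf xf12 yf8 zf11) (kf xf8 yf48 zf33) (kf xf13 yf48 zf17) (kf xf22 yf54 zf31) (kf xf13 yf47 zf13) (kf xf9 yf9 zf42) (kf xf15 yf7 zf49) (kf xf23 yf14 zf56) (kf xf23 yf19 zf57) (kf xf15 yf12 zf51) (kf xf7 yf49 zf19) (kf xf22 yf52 zf32) (kf xf23 yf20 zf2) (kf xf15 yf10 zf7) (kf xf23 yf20 zf6) (kf xf18 yf40 zf38) (kf xf21 yf28 zf2) (kf xf23 yf20 zf14) (kf xf23 yf15 zf34) (kf xf7 yf19 zf20) (kf xf13 yf47 zf4) (kf xf10 yf18 zf1)) (@D3.rec (fun _ => Pt) (kf xf22 yf42 zf8) (kf xf22 yf54 zf5) (kf xf22 yf42 zf1) (kf xf22 yf42 zf3) (kf xf22 yf42 zf9) (kf xf11 yf34 zf35) (kf xf22 yf54 zf12) (kf xf13 yf47 zf12) (kf xf22 yf42 zf18) (kf xf22 yf42 zf17) (kf xf7 yf19 zf26) (kf xf12 yf8 zf27) (kf xf22 yf42 zf14) (kf xf23 yf20 zf30) (kf xf22 yf42 zf5) (kf xf22 yf42 zf6) (kf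 xf22 yf42 zf15) (kf xf15 yf50 zf39) (kf xf13 yf47 zf19) (kf xf23 yf20 zf29) (kf xf7 yf19 zf30) (kf xf22 yf42 zf12) (kf xf22 yf42 zf11) (kf xf7 yf19 zf31) (kf xf14 yf44 zf60) (kf xf14 yf45 zf0) (kf xf20 yf31 zf38) (kf xf8 yf35 zf5) (kf xf23 yf20 zf50) (kf xf14 yf45 zf13) (kf xf14 yf45 zf12) (kf xf20 yf31 zf36) (kf xf7 yf19 zf35) (kf xf14 yf45 zf8) (kf xf14 yf45 zf11) (kf xf21 yf28 zf38) (kf xf12 yf0 zf55) (kf xf18 yf42 zf29) (kf xf14 yf45 zf3) (kf xf14 yf45 zf2) (kf xf7 yf19 zf38) (kf xf12 yf48 zf31) (kf xf23 yf21 zf11) (kf xf12 yf48 zf23) (kf xf23 yf21 zf16) (kf xf23 yf2 zf61) (kf xf23 yf3 zf0) (kf xf23 yf3 zf1) (kf xf8 yf38 zf54) (kf xf22 yf30 zf32) (kf xf22 yf57 zf4) (kf xf22 yf30 zf37) (kf xf23 yf21 zf26) (kf xf22 yf57 zf3) (kf xf13 yf38 zf21) (kf xf21 yf14 zf58)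 (kf xf13 yf16 zf22) (kf xf13 yf16 zf21) (kf xf23 yf21 zf38) (kf xf7 yf19 zf47) (kf xf7 yf40 zf32) (kf xf13 yf16 zf9)) (@D3.rec (fun _ => Pt) (kf xf13 yf16 zf10) (kf xf22 yf47 zf13) (kf xf13 yf16 zf11) (kf xf13 yf16 zf12) (kf xf13 yf16 zf13) (kf xf23 yf21 zf49) (kf xf13 yf38 zf52) (kf xf14 yf43 zf2) (kf xf22 yf41 zf60) (kf xf22 yf41 zf59) (kf xf23 yf21 zf54) (kf xf7 yf19 zf54) (kf xf13 yf38 zf57) (kf xf13 yf4 zf31) (kf xf13 yf5 zf2) (kf xf23 yf22 zf1) (kf xf20 yf46 zf47) (kf xf22 yf18 zf60) (kf xf20 yf47 zf54) (kf xf7 yf19 zf59) (kf xf13 yf11 zf31) (kf xf11 yf40 zf5) (kf xf12 yf24 zf58) (kf xf12 yf19 zf27) (kf xf12 yf24 zf56) (kf xf22 yf8 zf16) (kf xf22 yf8 zf10) (kf xf14 yf2 zf45) (kf xf12 yf30 zf48) (kf xf14 yf2 zf44) (kf xf12 yf30 zf47) (kf xf11 yf9 zf43) (kf xf12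 yf25 zf52) (kf xf12 yf30 zf42) (kf xf12 yf30 zf40) (kf xf9 yf35 zf36) (kf xf21 yf4 zf30) (kf xf21 yf4 zf31) (kf xf14 yf3 zf49) (kf xf19 yf19 zf44) (kf xf13 yf55 zf36) (kf xf18 yf18 zf31) (kf xf7 yf20 zf15) (kf xf7 yf20 zf16) (kf xf19 yf56 zf53) (kf xf18 yf18 zf39) (kf xf23 yf22 zf44) (kf xf21 yf32 zf56) (kf xf7 yf20 zf23) (kf xf17 yf57 zf1) (kf xf23 yf22 zf43) (kf xf23 yf22 zf52) (kf xf7 yf20 zf24) (kf xf23 yf6 zf14) (kf xf22 yf45 zf45) (kf xf22 yf8 zf38) (kf xf22 yf8 zf37) (kf xf23 yf22 zf46) (kf xf23 yf22 zf45) (kf xf17 yf38 zf44) (kf xf7 yf20 zf27) (kf xf13 yf19 zf10)) (@D3.rec (fun _ => Pt) (kf xf23 yf23 zf4) (kf xf14 yf2 zf9) (kf xf14 yf2 zf8) (kf xf23 yf23 zf9) (kf xf7 yf20 zf30) (kf xf14 yf3 zf1) (kf xf14 yf3 zf2) (kf xf23 yf23 zf12) (kf xf14 yf2 zf60) (kf xf14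 yf2 zf61) (kf xf22 yf38 zf7) (kf xf14 yf3 zf4) (kf xf7 yf20 zf33) (kf xf14 yf1 zf42) (kf xf14 yf3 zf11) (kf xf14 yf3 zf12) (kf xf14 yf2 zf34) (kf xf14 yf3 zf13) (kf xf23 yf23 zf29) (kf xf14 yf3 zf6) (kf xf14 yf3 zf8) (kf xf23 yf23 zf35) (kf xf14 yf3 zf18) (kf xf14 yf3 zf19) (kf xf21 yf24 zf36) (kf xf14 yf3 zf15) (kf xf14 yf3 zf16) (kf xf23 yf23 zf18) (kf xf12 yf48 zf1) (kf xf7 yf53 zf28) (kf xf23 yf23 zf44) (kf xf13 yf36 zf44) (kf xf13 yf20 zf20) (kf xf14 yf3 zf23) (kf xf13 yf24 zf19) (kf xf14 yf41 zf59) (kf xf14 yf53 zf1) (kf xf14 yf53 zf4) (kf xf16 yf54 zf8) (kf xf14 yf3 zf38) (kf xf14 yf3 zf39) (kf xf14 yf3 zf40) (kf xf14 yf13 zf36) (kf xf19 yf22 zf1) (kf xf19 yf21 zf56) (kf xf17 yf48 zf18) (kf xf13 yf7 zf0) (kf xf23 yf23 zf55) (kf xf23 yf23 zf57) (kf xf14 yf2 zf51)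 (kf xf19 yf19 zf58) (kf xf14 yf3 zf51) (kf xf13 yf8 zf24) (kf xf13 yf9 zf16) (kf xf13 yf12 zf28) (kf xf13 yf12 zf26) (kf xf13 yf12 zf27) (kf xf13 yf12 zf29) (kf xf13 yf4 zf12) (kf xf7 yf50 zf61) (kf xf23 yf24 zf10) (kf xf7 yf21 zf7)) (@D3.rec (fun _ => Pt) (kf xf23 yf23 zf13) (kf xf14 yf55 zf23) (kf xf14 yf2 zf57) (kf xf22 yf38 zf42) (kf xf22 yf38 zf10) (kf xf23 yf24 zf19) (kf xf7 yf21 zf11) (kf xf14 yf55 zf22) (kf xf14 yf51 zf50) (kf xf14 yf55 zf24) (kf xf14 yf55 zf25) (kf xf14 yf2 zf18) (kf xf11 yf18 zf27) (kf xf14 yf2 zf19) (kf xf23 yf24 zf27) (kf xf11 yf18 zf28) (kf xf22 yf38 zf41) (kf xf14 yf2 zf21) (kf xf23 yf24 zf32) (kf xf7 yf21 zf16) (kf xf14 yf2 zf30) (kf xf12 yf37 zf7) (kf xf15 yf41 zf36) (kf xf8 yf33 zf40) (kf xf14 yf2 zf32) (kf xf15 yf41 zf38) (kf xf14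 yf55 zf26) (kf xf22 yf42 zf56) (kf xf23 yf24 zf37) (kf xf22 yf42 zf57) (kf xf7 yf40 zf54) (kf xf9 yf45 zf59) (kf xf14 yf3 zf59) (kf xf14 yf3 zf58) (kf xf23 yf24 zf50) (kf xf7 yf21 zf27) (kf xf14 yf4 zf3) (kf xf14 yf4 zf4) (kf xf14 yf4 zf5) (kf xf22 yf21 zf7) (kf xf14 yf4 zf0) (kf xf14 yf4 zf8) (kf xf14 yf4 zf7) (kf xf23 yf25 zf5) (kf xf7 yf21 zf30) (kf xf7 yf23 zf41) (kf xf7 yf23 zf42) (kf xf7 yf23 zf43) (kf xf23 yf25 zf13) (kf xf7 yf23 zf37) (kf xf7 yf23 zf39) (kf xf7 yf23 zf46) (kf xf7 yf23 zf45) (kf xf22 yf16 zf51) (kf xf7 yf21 zf34) (kf xf7 yf22 zf45) (kf xf7 yf23 zf50) (kf xf7 yf23 zf51) (kf xf7 yf23 zf54) (kf xf23 yf25 zf26) (kf xf7 yf24 zf5) (kf xf7 yf24 zf6)) (@D3.rec (fun _ => Pt) (kf xf23 yf25 zf32) (kf xf7 yf24 zf2) (kf xf7 yf24 zf3) (kf xf23 yf25 zf38) (kf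 xf7 yf24 zf9) (kf xf7 yf24 zf8) (kf xf14 yf0 zf17) (kf xf23 yf25 zf21) (kf xf7 yf21 zf47) (kf xf7 yf24 zf35) (kf xf7 yf24 zf21) (kf xf7 yf24 zf37) (kf xf23 yf25 zf53) (kf xf7 yf24 zf22) (kf xf23 yf25 zf57) (kf xf14 yf10 zf0) (kf xf13 yf59 zf56) (kf xf14 yf9 zf43) (kf xf23 yf16 zf17) (kf xf22 yf30 zf39) (kf xf16 yf24 zf8) (kf xf21 yf14 zf49) (kf xf23 yf26 zf7) (kf xf7 yf21 zf51) (kf xf21 yf14 zf32) (kf xf22 yf44 zf0) (kf xf21 yf14 zf29) (kf xf21 yf14 zf30) (kf xf14 yf9 zf50) (kf xf21 yf14 zf34) (kf xf21 yf14 zf33) (kf xf16 yf25 zf10) (kf xf13 yf8 zf49) (kf xf9 yf10 zf8) (kf xf23 yf26 zf19) (kf xf9 yf45 zf28) (kf xf13 yf52 zf40) (kf xf14 yf39 zf14) (kf xf7 yf21 zf56) (kf xf12 yf49 zf36) (kf xf12 yf49 zf33) (kf xf14 yf39 zf13) (kf xf7 yf21 zf58) (kf xf14 yf6 zf14) (kf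 xf11 yf46 zf43) (kf xf14 yf6 zf15) (kf xf15 yf49 zf48) (kf xf14 yf6 zf11) (kf xf11 yf46 zf42) (kf xf14 yf6 zf12) (kf xf20 yf13 zf39) (kf xf14 yf6 zf18) (kf xf14 yf6 zf17) (kf xf23 yf26 zf49) (kf xf7 yf21 zf61) (kf xf14 yf5 zf1) (kf xf14 yf6 zf24) (kf xf14 yf6 zf25) (kf xf20 yf53 zf27) (kf xf14 yf6 zf27) (kf xf21 yf24 zf35) (kf xf7 yf22 zf16)) (@D3.rec (fun _ => Pt) (kf xf7 yf22 zf20) (kf xf13 yf21 zf9) (kf xf14 yf6 zf21) (kf xf23 yf27 zf6) (kf xf14 yf6 zf31) (kf xf13 yf56 zf9) (kf xf23 yf19 zf37) (kf xf14 yf6 zf29) (kf xf13 yf57 zf39) (kf xf13 yf56 zf5) (kf xf22 yf42 zf51) (kf xf13 yf5 zf53) (kf xf13 yf6 zf60) (kf xf22 yf34 zf8) (kf xf22 yf34 zf7) (kf xf23 yf11 zf38) (kf xf23 yf26 zf32) (kf xf23 yf26 zf61) (kf xf7 yf32 zf7) (kf xf22 yf40 zf24) (kf xf23 yf27 zf27) (kf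 xf23 yf26 zf33) (kf xf23 yf27 zf31) (kf xf7 yf22 zf19) (kf xf23 yf27 zf0) (kf xf14 yf10 zf7) (kf xf23 yf27 zf11) (kf xf23 yf27 zf40) (kf xf7 yf22 zf21) (kf xf14 yf5 zf28) (kf xf14 yf5 zf29) (kf xf14 yf5 zf26) (kf xf11 yf14 zf55) (kf xf14 yf5 zf27) (kf xf9 yf17 zf16) (kf xf14 yf5 zf32) (kf xf14 yf5 zf31) (kf xf23 yf28 zf3) (kf xf7 yf22 zf25) (kf xf14 yf5 zf41) (kf xf12 yf47 zf52) (kf xf7 yf53 zf43) (kf xf7 yf51 zf5) (kf xf14 yf5 zf43) (kf xf21 yf24 zf31) (kf xf14 yf5 zf2) (kf xf14 yf5 zf36) (kf xf14 yf5 zf37) (kf xf14 yf48 zf24) (kf xf14 yf5 zf39) (kf xf23 yf28 zf25) (kf xf14 yf5 zf48) (kf xf13 yf58 zf11) (kf xf23 yf28 zf31) (kf xf14 yf5 zf46) (kf xf13 yf58 zf10) (kf xf23 yf28 zf38) (kf xf15 yf15 zf37) (kf xf7 yf22 zf35) (kf xf23 yf28 zf4) (kf xf14 yf5 zf56) (kf xf14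 yf5 zf57)) (@D3.rec (fun _ => Pt) (kf xf23 yf28 zf48) (kf xf14 yf8 zf49) (kf xf14 yf8 zf11) (kf xf14 yf8 zf50) (kf xf23 yf24 zf51) (kf xf14 yf15 zf22) (kf xf23 yf25 zf14) (kf xf23 yf25 zf22) (kf xf14 yf6 zf41) (kf xf23 yf28 zf57) (kf xf22 yf43 zf6) (kf xf11 yf36 zf20) (kf xf14 yf46 zf39) (kf xf14 yf6 zf48) (kf xf23 yf28 zf55) (kf xf23 yf28 zf54) (kf xf23 yf29 zf7) (kf xf7 yf22 zf51) (kf xf20 yf20 zf32) (kf xf22 yf43 zf3) (kf xf17 yf38 zf26) (kf xf22 yf35 zf30) (kf xf13 yf16 zf39) (kf xf22 yf43 zf4) (kf xf14 yf8 zf58) (kf xf22 yf43 zf7) (kf xf22 yf43 zf8) (kf xf22 yf43 zf9) (kf xf14 yf7 zf32) (kf xf14 yf7 zf33) (kf xf16 yf46 zf18) (kf xf13 yf25 zf47) (kf xf14 yf46 zf48) (kf xf9 yf46 zf7) (kf xf14 yf7 zf34) (kf xf23 yf29 zf29) (kf xf7 yf22 zf57) (kf xf14 yf7 zf37) (kf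 xf14 yf56 zf18) (kf xf13 yf56 zf8) (kf xf22 yf43 zf11) (kf xf21 yf55 zf29) (kf xf23 yf17 zf41) (kf xf14 yf8 zf25) (kf xf14 yf9 zf5) (kf xf23 yf29 zf41) (kf xf7 yf23 zf4) (kf xf12 yf23 zf0) (kf xf14 yf40 zf12) (kf xf14 yf40 zf8) (kf xf21 yf13 zf60) (kf xf23 yf3 zf33) (kf xf23 yf29 zf49) (kf xf7 yf23 zf7) (kf xf21 yf14 zf26) (kf xf21 yf14 zf27) (kf xf14 yf9 zf10) (kf xf21 yf14 zf22) (kf xf21 yf14 zf21) (kf xf21 yf14 zf15) (kf xf16 yf31 zf56) (kf xf7 yf23 zf10)) (@D3.rec (fun _ => Pt) (kf xf14 yf7 zf6) (kf xf14 yf7 zf4) (kf xf14 yf7 zf5) (kf xf11 yf11 zf56) (kf xf14 yf7 zf9) (kf xf14 yf7 zf8) (kf xf23 yf30 zf13) (kf xf7 yf23 zf14) (kf xf14 yf7 zf12) (kf xf23 yf30 zf18) (kf xf13 yf56 zf55) (kf xf13 yf56 zf52) (kf xf23 yf30 zf25) (kf xf7 yf23 zf17) (kf xf23 yf30 zf14) (kf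 xf14 yf7 zf39) (kf xf13 yf6 zf24) (kf xf14 yf7 zf41) (kf xf9 yf10 zf7) (kf xf14 yf8 zf22) (kf xf14 yf7 zf58) (kf xf19 yf17 zf2) (kf xf23 yf30 zf30) (kf xf16 yf17 zf37) (kf xf19 yf16 zf51) (kf xf7 yf23 zf25) (kf xf11 yf19 zf34) (kf xf14 yf8 zf34) (kf xf9 yf45 zf61) (kf xf14 yf7 zf47) (kf xf23 yf25 zf12) (kf xf14 yf7 zf51) (kf xf14 yf7 zf50) (kf xf16 yf4 zf4) (kf xf7 yf23 zf28) (kf xf14 yf7 zf59) (kf xf14 yf7 zf60) (kf xf11 yf19 zf13) (kf xf12 yf55 zf19) (kf xf20 yf28 zf2) (kf xf20 yf28 zf1) (kf xf7 yf23 zf33) (kf xf9 yf46 zf16) (kf xf14 yf4 zf59) (kf xf11 yf28 zf33) (kf xf14 yf6 zf34) (kf xf23 yf25 zf15) (kf xf20 yf17 zf8) (kf xf23 yf25 zf16) (kf xf23 yf30 zf55) (kf xf13 yf0 zf55) (kf xf20 yf9 zf44) (kf xf20 yf6 zf42) (kf xf23 yf25 zf9) (kf xf23 yf13 zf56) (kf xf23 yf31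 zf3) (kf xf14 yf7 zf49) (kf xf7 yf50 zf10) (kf xf7 yf23 zf40) (kf xf11 yf29 zf15) (kf xf21 yf30 zf47) (kf xf12 yf6 zf26)) (@D3.rec (fun _ => Pt) (kf xf23 yf25 zf7) (kf xf23 yf31 zf12) (kf xf21 yf15 zf18) (kf xf23 yf25 zf10) (kf xf22 yf28 zf23) (kf xf9 yf45 zf48) (kf xf22 yf45 zf1) (kf xf7 yf23 zf44) (kf xf23 yf25 zf19) (kf xf19 yf53 zf0) (kf xf7 yf52 zf4) (kf xf14 yf56 zf22) (kf xf23 yf25 zf17) (kf xf23 yf25 zf18) (kf xf17 yf12 zf21) (kf xf15 yf53 zf33) (kf xf23 yf25 zf20) (kf xf15 yf13 zf33) (kf xf15 yf13 zf49) (kf xf22 yf12 zf50) (kf xf7 yf23 zf47) (kf xf7 yf24 zf13) (kf xf14 yf6 zf33) (kf xf14 yf6 zf35) (kf xf19 yf56 zf17) (kf xf19 yf56 zf16) (kf xf23 yf25 zf23) (kf xf19 yf56 zf20) (kf xf14 yf6 zf61) (kf xf21 yf56 zf48) (kf xf22 yf28 zf18) (kf xf14 yf56 zf19) (kf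 xf14 yf0 zf41) (kf xf14 yf0 zf38) (kf xf18 yf42 zf24) (kf xf10 yf59 zf20) (kf xf19 yf54 zf16) (kf xf19 yf54 zf15) (kf xf7 yf23 zf55) (kf xf14 yf7 zf21) (kf xf19 yf56 zf43) (kf xf9 yf0 zf53) (kf xf11 yf3 zf58) (kf xf14 yf7 zf25) (kf xf22 yf43 zf54) (kf xf14 yf54 zf27) (kf xf23 yf17 zf42) (kf xf23 yf31 zf51) (kf xf23 yf25 zf25) (kf xf21 yf56 zf38) (kf xf21 yf56 zf14) (kf xf7 yf24 zf0) (kf xf14 yf54 zf28) (kf xf23 yf25 zf33) (kf xf23 yf25 zf34) (kf xf23 yf31 zf61) (kf xf13 yf55 zf16) (kf xf14 yf0 zf27) (kf xf23 yf25 zf35) (kf xf23 yf32 zf9) (kf xf23 yf25 zf31) (kf xf23 yf25 zf30))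
def f_f_14 : D2 → D3 → Pt := @D2.rec (fun _ => D3 → Pt) (@D3.rec (fun _ => Pt) (kf xf23 yf32 zf17) (kf xf7 yf24 zf4) (kf xf23 yf25 zf27) (kf xf23 yf21 zf6) (kf xf23 yf32 zf21) (kf xf23 yf25 zf28) (kf xf23 yf32 zf26) (kf xf15 yf13 zf36) (kf xf23 yf25 zf37) (kf xf7 yf24 zf7) (kf xf18 yf43 zf8) (kf xf23 yf32 zf35) (kf xf23 yf25 zf39) (kf xf15 yf13 zf39) (kf xf15 yf14 zf0) (kf xf23 yf32 zf42) (kf xf23 yf32 zf41) (kf xf13 yf55 zf6) (kf xf7 yf24 zf10) (kf xf23 yf32 zf53) (kf xf23 yf31 zf26) (kf xf23 yf25 zf45) (kf xf23 yf25 zf44) (kf xf14 yf5 zf4) (kf xf14 yf5 zf5) (kf xf14 yf5 zf3) (kf xf14 yf5 zf6) (kf xf13 yf59 zf57) (kf xf23 yf33 zf12) (kf xf23 yf16 zf16) (kf xf23 yf1 zf0) (kf xf22 yf30 zf31) (kf xf13 yf48 zf14) (kf xf16 yf10 zf56) (kf xf23 yf0 zf61) (kf xf14 yf5 zf21)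 (kf xf23 yf1 zf1) (kf xf23 yf2 zf22) (kf xf13 yf59 zf33) (kf xf23 yf14 zf55) (kf xf14 yf10 zf4) (kf xf13 yf59 zf32) (kf xf13 yf46 zf40) (kf xf20 yf33 zf28) (kf xf23 yf33 zf21) (kf xf23 yf25 zf52) (kf xf23 yf25 zf51) (kf xf23 yf33 zf24) (kf xf7 yf24 zf23) (kf xf7 yf25 zf5) (kf xf7 yf52 zf28) (kf xf14 yf48 zf2) (kf xf14 yf48 zf7) (kf xf23 yf33 zf29) (kf xf13 yf5 zf13) (kf xf13 yf5 zf54) (kf xf21 yf32 zf36) (kf xf13 yf5 zf57) (kf xf23 yf33 zf38) (kf xf22 yf58 zf27) (kf xf21 yf32 zf26) (kf xf22 yf58 zf23)) (@D3.rec (fun _ => Pt) (kf xf12 yf47 zf55) (kf xf23 yf25 zf49) (kf xf23 yf33 zf44) (kf xf23 yf25 zf56) (kf xf23 yf25 zf55) (kf xf7 yf24 zf38) (kf xf13 yf21 zf10) (kf xf22 yf29 zf44) (kf xf23 yf33 zf51) (kf xf14 yf1 zf25) (kf xf14 yf1 zf26) (kf xf7 yf46 zf6) (kf xf19 yf4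 zf31) (kf xf10 yf7 zf45) (kf xf7 yf48 zf21) (kf xf14 yf1 zf27) (kf xf18 yf5 zf8) (kf xf14 yf15 zf34) (kf xf14 yf15 zf33) (kf xf22 yf10 zf53) (kf xf7 yf24 zf46) (kf xf14 yf15 zf36) (kf xf13 yf22 zf23) (kf xf7 yf40 zf20) (kf xf7 yf36 zf56) (kf xf14 yf1 zf9) (kf xf14 yf1 zf10) (kf xf14 yf1 zf15) (kf xf23 yf34 zf17) (kf xf22 yf35 zf19) (kf xf22 yf35 zf18) (kf xf23 yf34 zf25) (kf xf7 yf24 zf53) (kf xf14 yf40 zf36) (kf xf13 yf2 zf0) (kf xf12 yf49 zf42) (kf xf12 yf49 zf11) (kf xf23 yf34 zf32) (kf xf12 yf31 zf44) (kf xf12 yf31 zf26) (kf xf9 yf24 zf40) (kf xf11 yf26 zf52) (kf xf13 yf53 zf13) (kf xf13 yf6 zf23) (kf xf13 yf13 zf0) (kf xf14 yf48 zf0) (kf xf14 yf47 zf60) (kf xf14 yf47 zf61) (kf xf14 yf48 zf26) (kf xf14 yf51 zf8) (kf xf22 yf55 zf30) (kf xf22 yf55 zf31) (kf xf23 yf34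 zf42) (kf xf14 yf53 zf57) (kf xf23 yf34 zf45) (kf xf11 yf17 zf28) (kf xf23 yf34 zf47) (kf xf16 yf25 zf46) (kf xf23 yf34 zf40) (kf xf23 yf34 zf53) (kf xf7 yf25 zf14) (kf xf14 yf53 zf53)) (@D3.rec (fun _ => Pt) (kf xf14 yf55 zf15) (kf xf14 yf53 zf54) (kf xf14 yf53 zf55) (kf xf14 yf53 zf58) (kf xf14 yf53 zf59) (kf xf14 yf53 zf60) (kf xf13 yf6 zf21) (kf xf23 yf35 zf7) (kf xf13 yf53 zf2) (kf xf13 yf53 zf1) (kf xf23 yf35 zf12) (kf xf7 yf25 zf19) (kf xf12 yf31 zf54) (kf xf12 yf31 zf50) (kf xf23 yf35 zf18) (kf xf7 yf25 zf20) (kf xf12 yf8 zf55) (kf xf23 yf35 zf21) (kf xf13 yf54 zf11) (kf xf13 yf54 zf13) (kf xf20 yf13 zf20) (kf xf13 yf54 zf17) (kf xf22 yf43 zf60) (kf xf7 yf25 zf25) (kf xf13 yf8 zf47) (kf xf13 yf13 zf1) (kf xf13 yf13 zf2) (kf xf13 yf13 zf6) (kf xf7 yf25 zf51)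 (kf xf7 yf25 zf55) (kf xf13 yf54 zf20) (kf xf23 yf35 zf28) (kf xf13 yf54 zf24) (kf xf14 yf54 zf0) (kf xf13 yf53 zf16) (kf xf22 yf12 zf6) (kf xf22 yf12 zf7) (kf xf22 yf12 zf8) (kf xf14 yf9 zf51) (kf xf14 yf4 zf24) (kf xf23 yf35 zf42) (kf xf12 yf49 zf22) (kf xf8 yf0 zf40) (kf xf12 yf49 zf50) (kf xf13 yf52 zf29) (kf xf13 yf52 zf27) (kf xf8 yf35 zf32) (kf xf11 yf59 zf42) (kf xf21 yf31 zf8) (kf xf21 yf31 zf9) (kf xf21 yf31 zf10) (kf xf13 yf53 zf49) (kf xf10 yf40 zf35) (kf xf7 yf41 zf5) (kf xf23 yf35 zf59) (kf xf7 yf25 zf49) (kf xf15 yf45 zf53) (kf xf13 yf54 zf2) (kf xf23 yf36 zf0) (kf xf14 yf48 zf33) (kf xf13 yf53 zf8) (kf xf13 yf53 zf9)) (@D3.rec (fun _ => Pt) (kf xf17 yf56 zf1) (kf xf13 yf53 zf5) (kf xf13 yf53 zf6) (kf xf21 yf1 zf6) (kf xf13 yf53 zf11) (kf xf11 yf59 zf7)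 (kf xf13 yf53 zf19) (kf xf14 yf48 zf42) (kf xf13 yf53 zf20) (kf xf21 yf21 zf51) (kf xf13 yf8 zf48) (kf xf13 yf53 zf14) (kf xf13 yf53 zf15) (kf xf13 yf53 zf17) (kf xf23 yf36 zf19) (kf xf13 yf53 zf25) (kf xf13 yf53 zf26) (kf xf23 yf36 zf23) (kf xf13 yf53 zf22) (kf xf13 yf53 zf23) (kf xf12 yf18 zf43) (kf xf17 yf55 zf35) (kf xf23 yf36 zf28) (kf xf13 yf53 zf33) (kf xf14 yf42 zf46) (kf xf14 yf42 zf45) (kf xf22 yf16 zf7) (kf xf13 yf20 zf34) (kf xf21 yf9 zf14) (kf xf12 yf30 zf39) (kf xf9 yf37 zf18) (kf xf7 yf36 zf30) (kf xf13 yf4 zf21) (kf xf13 yf4 zf22) (kf xf18 yf46 zf49) (kf xf7 yf48 zf7) (kf xf7 yf48 zf12) (kf xf23 yf36 zf43) (kf xf13 yf53 zf39) (kf xf13 yf53 zf40) (kf xf13 yf53 zf41) (kf xf13 yf7 zf6) (kf xf23 yf36 zf48) (kf xf22 yf15 zf21) (kf xf14 yf56 zf33) (kf xf13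 yf6 zf49) (kf xf10 yf40 zf61) (kf xf22 yf15 zf23) (kf xf21 yf9 zf15) (kf xf13 yf52 zf38) (kf xf23 yf37 zf0) (kf xf13 yf53 zf51) (kf xf11 yf44 zf15) (kf xf7 yf26 zf26) (kf xf12 yf30 zf54) (kf xf22 yf44 zf13) (kf xf22 yf44 zf14) (kf xf22 yf44 zf15) (kf xf13 yf54 zf33) (kf xf13 yf54 zf32) (kf xf23 yf37 zf13) (kf xf7 yf26 zf34)) (@D3.rec (fun _ => Pt) (kf xf13 yf54 zf40) (kf xf12 yf48 zf46) (kf xf22 yf44 zf20) (kf xf13 yf54 zf36) (kf xf13 yf54 zf37) (kf xf13 yf54 zf38) (kf xf22 yf44 zf25) (kf xf13 yf54 zf42) (kf xf13 yf54 zf41) (kf xf23 yf1 zf59) (kf xf7 yf29 zf23) (kf xf7 yf29 zf24) (kf xf7 yf29 zf25) (kf xf17 yf55 zf60) (kf xf7 yf29 zf19) (kf xf7 yf29 zf20) (kf xf7 yf29 zf21) (kf xf23 yf37 zf40) (kf xf7 yf29 zf28) (kf xf7 yf29 zf27) (kf xf7 yf26 zf40) (kf xf12 yf49 zf60)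 (kf xf9 yf29 zf31) (kf xf21 yf19 zf53) (kf xf14 yf2 zf39) (kf xf21 yf3 zf2) (kf xf11 yf32 zf27) (kf xf11 yf18 zf29) (kf xf11 yf47 zf42) (kf xf11 yf47 zf43) (kf xf11 yf47 zf41) (kf xf18 yf6 zf5) (kf xf22 yf11 zf29) (kf xf7 yf26 zf55) (kf xf17 yf37 zf1) (kf xf22 yf11 zf1) (kf xf17 yf39 zf58) (kf xf22 yf11 zf2) (kf xf16 yf15 zf2) (kf xf12 yf32 zf14) (kf xf16 yf57 zf37) (kf xf23 yf38 zf2) (kf xf7 yf26 zf61) (kf xf7 yf27 zf0) (kf xf7 yf27 zf2) (kf xf23 yf38 zf4) (kf xf7 yf27 zf6) (kf xf12 yf32 zf26) (kf xf11 yf47 zf4) (kf xf7 yf27 zf12) (kf xf12 yf31 zf15) (kf xf12 yf29 zf24) (kf xf12 yf31 zf25) (kf xf12 yf31 zf60) (kf xf12 yf31 zf27) (kf xf20 yf22 zf57) (kf xf20 yf22 zf50) (kf xf7 yf27 zf21) (kf xf12 yf31 zf39) (kf xf13 yf58 zf43) (kf xf17 yf55 zf32) (kf xf13 yf1 zf48))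 (@D3.rec (fun _ => Pt) (kf xf13 yf1 zf47) (kf xf13 yf55 zf55) (kf xf13 yf56 zf45) (kf xf14 yf0 zf25) (kf xf14 yf0 zf23) (kf xf14 yf0 zf24) (kf xf14 yf0 zf26) (kf xf14 yf9 zf20) (kf xf13 yf15 zf42) (kf xf22 yf45 zf41) (kf xf22 yf12 zf13) (kf xf23 yf38 zf23) (kf xf7 yf27 zf45) (kf xf12 yf22 zf36) (kf xf12 yf22 zf44) (kf xf23 yf29 zf40) (kf xf7 yf27 zf46) (kf xf23 yf3 zf28) (kf xf22 yf45 zf13) (kf xf23 yf3 zf21) (kf xf23 yf3 zf22) (kf xf14 yf0 zf35) (kf xf23 yf22 zf55) (kf xf23 yf38 zf22) (kf xf23 yf38 zf43) (kf xf7 yf27 zf49) (kf xf13 yf56 zf31) (kf xf13 yf56 zf33) (kf xf13 yf56 zf29) (kf xf13 yf56 zf30) (kf xf17 yf12 zf12) (kf xf13 yf56 zf36) (kf xf13 yf56 zf35) (kf xf23 yf39 zf2) (kf xf7 yf27 zf53) (kf xf13 yf6 zf18) (kf xf13 yf56 zf46) (kf xf13 yf56 zf47) (kf xf16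 yf4 zf7) (kf xf13 yf56 zf49) (kf xf23 yf39 zf13) (kf xf13 yf56 zf39) (kf xf13 yf9 zf41) (kf xf13 yf56 zf43) (kf xf23 yf39 zf22) (kf xf7 yf52 zf40) (kf xf13 yf56 zf54) (kf xf23 yf39 zf27) (kf xf13 yf56 zf51) (kf xf23 yf39 zf32) (kf xf7 yf43 zf51) (kf xf7 yf53 zf46) (kf xf23 yf39 zf40) (kf xf7 yf53 zf40) (kf xf7 yf28 zf1) (kf xf23 yf39 zf3) (kf xf13 yf56 zf60) (kf xf13 yf56 zf61) (kf xf23 yf39 zf51) (kf xf13 yf49 zf49) (kf xf7 yf43 zf32) (kf xf7 yf53 zf5)) (@D3.rec (fun _ => Pt) (kf xf7 yf53 zf34) (kf xf7 yf53 zf36) (kf xf22 yf12 zf19) (kf xf23 yf38 zf51) (kf xf22 yf44 zf4) (kf xf23 yf38 zf52) (kf xf23 yf40 zf1) (kf xf7 yf28 zf12) (kf xf22 yf44 zf3) (kf xf22 yf44 zf5) (kf xf22 yf44 zf6) (kf xf13 yf55 zf47) (kf xf13 yf55 zf49) (kf xf23 yf24 zf28) (kf xf13 yf55 zf43) (kf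 xf13 yf55 zf45) (kf xf17 yf55 zf24) (kf xf13 yf55 zf52) (kf xf13 yf55 zf51) (kf xf23 yf40 zf17) (kf xf7 yf28 zf17) (kf xf13 yf56 zf2) (kf xf21 yf19 zf25) (kf xf13 yf6 zf20) (kf xf13 yf55 zf56) (kf xf13 yf55 zf57) (kf xf11 yf51 zf9) (kf xf13 yf55 zf59) (kf xf23 yf26 zf37) (kf xf13 yf56 zf7) (kf xf23 yf13 zf59) (kf xf13 yf56 zf4) (kf xf22 yf44 zf8) (kf xf13 yf59 zf22) (kf xf13 yf58 zf45) (kf xf13 yf59 zf23) (kf xf11 yf45 zf23) (kf xf22 yf16 zf54) (kf xf9 yf49 zf31) (kf xf23 yf37 zf34) (kf xf22 yf28 zf6) (kf xf13 yf57 zf8) (kf xf23 yf40 zf44) (kf xf7 yf28 zf40) (kf xf7 yf28 zf39) (kf xf23 yf40 zf51) (kf xf7 yf28 zf34) (kf xf20 yf54 zf50) (kf xf13 yf57 zf13) (kf xf12 yf53 zf42) (kf xf18 yf35 zf2) (kf xf21 yf29 zf39) (kf xf19 yf16 zf49) (kf xf23 yf41 zf0) (kf xf7 yf28 zf38)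 (kf xf23 yf40 zf46) (kf xf23 yf40 zf47) (kf xf22 yf45 zf16) (kf xf22 yf15 zf57) (kf xf22 yf29 zf46) (kf xf23 yf40 zf45) (kf xf13 yf59 zf28)) (@D3.rec (fun _ => Pt) (kf xf23 yf40 zf49) (kf xf23 yf40 zf48) (kf xf23 yf41 zf21) (kf xf7 yf28 zf41) (kf xf13 yf58 zf1) (kf xf13 yf58 zf2) (kf xf13 yf58 zf0) (kf xf14 yf50 zf26) (kf xf13 yf58 zf5) (kf xf13 yf58 zf4) (kf xf23 yf41 zf33) (kf xf7 yf28 zf45) (kf xf13 yf58 zf8) (kf xf23 yf41 zf39) (kf xf14 yf55 zf10) (kf xf23 yf41 zf46) (kf xf7 yf43 zf40) (kf xf7 yf28 zf49) (kf xf23 yf41 zf34) (kf xf22 yf18 zf31) (kf xf13 yf48 zf38) (kf xf13 yf59 zf39) (kf xf22 yf44 zf29) (kf xf22 yf15 zf60) (kf xf22 yf44 zf26) (kf xf13 yf59 zf43) (kf xf22 yf44 zf28) (kf xf22 yf45 zf11) (kf xf22 yf44 zf30) (kf xf22 yf44 zf31) (kf xf22 yf44 zf32) (kf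 xf14 yf50 zf36) (kf xf13 yf57 zf28) (kf xf13 yf57 zf29) (kf xf13 yf57 zf34) (kf xf23 yf42 zf2) (kf xf7 yf28 zf60) (kf xf13 yf57 zf37) (kf xf22 yf44 zf34) (kf xf13 yf58 zf15) (kf xf10 yf38 zf41) (kf xf13 yf58 zf17) (kf xf11 yf18 zf34) (kf xf23 yf42 zf7) (kf xf23 yf42 zf6) (kf xf23 yf42 zf20) (kf xf7 yf29 zf4) (kf xf13 yf58 zf29) (kf xf23 yf37 zf39) (kf xf13 yf58 zf56) (kf xf13 yf58 zf32) (kf xf13 yf58 zf31) (kf xf15 yf41 zf35) (kf xf7 yf29 zf7) (kf xf10 yf38 zf39) (kf xf17 yf55 zf38) (kf xf17 yf55 zf39) (kf xf10 yf38 zf38) (kf xf13 yf58 zf20) (kf xf13 yf58 zf35) (kf xf13 yf58 zf36) (kf xf11 yf23 zf56)) (@D3.rec (fun _ => Pt) (kf xf19 yf43 zf43) (kf xf20 yf7 zf16) (kf xf7 yf29 zf14) (kf xf12 yf31 zf53) (kf xf12 yf31 zf55) (kf xf12 yf31 zf49) (kf xf12 yf31 zf51) (kf xf17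 yf56 zf18) (kf xf11 yf27 zf28) (kf xf23 yf42 zf36) (kf xf7 yf29 zf17) (kf xf13 yf57 zf2) (kf xf22 yf5 zf56) (kf xf23 yf37 zf35) (kf xf23 yf42 zf43) (kf xf12 yf30 zf30) (kf xf23 yf37 zf37) (kf xf11 yf20 zf20) (kf xf23 yf37 zf33) (kf xf23 yf29 zf23) (kf xf23 yf37 zf38) (kf xf23 yf42 zf53) (kf xf13 yf58 zf19) (kf xf7 yf52 zf9) (kf xf7 yf29 zf22) (kf xf13 yf57 zf43) (kf xf21 yf29 zf47) (kf xf15 yf10 zf33) (kf xf23 yf42 zf61) (kf xf23 yf37 zf32) (kf xf11 yf10 zf6) (kf xf21 yf3 zf18) (kf xf15 yf10 zf49) (kf xf13 yf13 zf54) (kf xf13 yf58 zf27) (kf xf23 yf30 zf1) (kf xf7 yf29 zf26) (kf xf23 yf37 zf43) (kf xf15 yf50 zf28) (kf xf23 yf43 zf12) (kf xf23 yf37 zf41) (kf xf15 yf50 zf29) (kf xf20 yf6 zf40) (kf xf23 yf43 zf21) (kf xf21 yf25 zf33) (kf xf21 yf25 zf32) (kf xf23 yf43 zf28)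 (kf xf23 yf43 zf31) (kf xf7 yf29 zf29) (kf xf13 yf57 zf1) (kf xf13 yf57 zf3) (kf xf22 yf45 zf58) (kf xf22 yf45 zf10) (kf xf22 yf45 zf54) (kf xf22 yf45 zf57) (kf xf22 yf45 zf59) (kf xf23 yf43 zf47) (kf xf22 yf45 zf9) (kf xf13 yf57 zf24) (kf xf7 yf50 zf28) (kf xf21 yf20 zf1) (kf xf23 yf43 zf60)) (@D3.rec (fun _ => Pt) (kf xf22 yf46 zf2) (kf xf22 yf46 zf1) (kf xf23 yf44 zf4) (kf xf7 yf29 zf36) (kf xf7 yf50 zf29) (kf xf13 yf57 zf44) (kf xf22 yf30 zf38) (kf xf22 yf45 zf20) (kf xf22 yf30 zf14) (kf xf23 yf44 zf10) (kf xf13 yf57 zf56) (kf xf22 yf45 zf19) (kf xf21 yf25 zf9) (kf xf23 yf44 zf18) (kf xf22 yf45 zf61) (kf xf22 yf45 zf60) (kf xf7 yf29 zf43) (kf xf21 yf1 zf16) (kf xf22 yf28 zf7) (kf xf22 yf45 zf36) (kf xf14 yf5 zf7) (kf xf22 yf28 zf15) (kf xf22 yf28 zf14) (kf xf7 yf29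 zf46) (kf xf22 yf28 zf12) (kf xf21 yf19 zf57) (kf xf18 yf26 zf31) (kf xf22 yf28 zf9) (kf xf22 yf28 zf8) (kf xf7 yf29 zf49) (kf xf21 yf25 zf30) (kf xf23 yf44 zf36) (kf xf21 yf25 zf28) (kf xf23 yf44 zf39) (kf xf16 yf17 zf44) (kf xf23 yf2 zf2) (kf xf23 yf2 zf3) (kf xf13 yf6 zf26) (kf xf13 yf6 zf27) (kf xf13 yf6 zf22) (kf xf13 yf6 zf28) (kf xf13 yf6 zf32) (kf xf23 yf44 zf47) (kf xf13 yf55 zf17) (kf xf22 yf45 zf42) (kf xf19 yf56 zf46) (kf xf22 yf31 zf18) (kf xf22 yf45 zf43) (kf xf22 yf45 zf44) (kf xf22 yf45 zf24) (kf xf13 yf55 zf28) (kf xf14 yf2 zf38) (kf xf23 yf44 zf59) (kf xf13 yf35 zf0) (kf xf13 yf5 zf11) (kf xf23 yf45 zf2) (kf xf21 yf25 zf15) (kf xf23 yf45 zf4) (kf xf19 yf47 zf48) (kf xf22 yf12 zf25) (kf xf7 yf30 zf0) (kf xf13 yf9 zf37)) (@D3.rec (fun _ => Pt) (kf xf13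 yf55 zf15) (kf xf22 yf12 zf20) (kf xf22 yf37 zf51) (kf xf22 yf12 zf21) (kf xf14 yf0 zf40) (kf xf22 yf12 zf22) (kf xf23 yf45 zf19) (kf xf13 yf56 zf25) (kf xf22 yf27 zf6) (kf xf21 yf25 zf13) (kf xf23 yf45 zf3) (kf xf21 yf55 zf48) (kf xf7 yf30 zf8) (kf xf16 yf30 zf13) (kf xf22 yf20 zf5) (kf xf13 yf1 zf45) (kf xf16 yf30 zf12) (kf xf14 yf23 zf19) (kf xf20 yf33 zf48) (kf xf21 yf15 zf54) (kf xf13 yf7 zf18) (kf xf13 yf7 zf19) (kf xf13 yf7 zf20) (kf xf22 yf26 zf45) (kf xf13 yf7 zf15) (kf xf13 yf7 zf16) (kf xf13 yf7 zf22) (kf xf13 yf7 zf21) (kf xf23 yf45 zf51) (kf xf7 yf30 zf20) (kf xf7 yf35 zf22) (kf xf7 yf41 zf57) (kf xf7 yf46 zf50) (kf xf23 yf45 zf59) (kf xf7 yf46 zf56) (kf xf7 yf46 zf57) (kf xf23 yf46 zf1) (kf xf7 yf46 zf60) (kf xf23 yf46 zf4) (kf xf7 yf30 zf25) (kf xf21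 yf52 zf49) (kf xf7 yf34 zf50) (kf xf7 yf48 zf35) (kf xf23 yf46 zf13) (kf xf13 yf39 zf32) (kf xf22 yf30 zf3) (kf xf22 yf30 zf4) (kf xf22 yf30 zf5) (kf xf22 yf30 zf6) (kf xf13 yf47 zf59) (kf xf21 yf56 zf45) (kf xf19 yf52 zf60) (kf xf7 yf49 zf18) (kf xf7 yf30 zf34) (kf xf9 yf10 zf20) (kf xf20 yf19 zf40) (kf xf20 yf19 zf36) (kf xf22 yf40 zf4) (kf xf22 yf40 zf5) (kf xf10 yf25 zf36) (kf xf22 yf31 zf61) (kf xf22 yf24 zf46)) (@D3.rec (fun _ => Pt) (kf xf10 yf47 zf33) (kf xf22 yf24 zf47) (kf xf21 yf54 zf26) (kf xf22 yf59 zf33) (kf xf22 yf35 zf51) (kf xf15 yf31 zf24) (kf xf13 yf10 zf49) (kf xf13 yf10 zf48) (kf xf9 yf26 zf18) (kf xf13 yf10 zf52) (kf xf13 yf10 zf51) (kf xf22 yf53 zf37) (kf xf7 yf30 zf52) (kf xf22 yf59 zf41) (kf xf20 yf45 zf1) (kf xf12 yf15 zf27) (kf xf9 yf12 zf31)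 (kf xf12 yf15 zf21) (kf xf21 yf32 zf23) (kf xf14 yf36 zf33) (kf xf14 yf53 zf5) (kf xf21 yf32 zf25) (kf xf13 yf0 zf20) (kf xf22 yf30 zf15) (kf xf22 yf30 zf16) (kf xf21 yf6 zf44) (kf xf12 yf39 zf5) (kf xf9 yf50 zf5) (kf xf12 yf14 zf57) (kf xf12 yf47 zf1) (kf xf11 yf40 zf40) (kf xf12 yf35 zf20) (kf xf12 yf36 zf13) (kf xf12 yf46 zf61) (kf xf12 yf47 zf0) (kf xf12 yf47 zf2) (kf xf20 yf17 zf30) (kf xf7 yf31 zf8) (kf xf7 yf31 zf11) (kf xf17 yf11 zf4) (kf xf16 yf58 zf27) (kf xf13 yf20 zf59) (kf xf17 yf11 zf5) (kf xf22 yf13 zf32) (kf xf17 yf11 zf10) (kf xf9 yf21 zf23) (kf xf17 yf21 zf60) (kf xf15 yf46 zf47) (kf xf7 yf31 zf19) (kf xf11 yf36 zf4) (kf xf23 yf47 zf17) (kf xf18 yf57 zf51) (kf xf20 yf22 zf9) (kf xf7 yf31 zf28) (kf xf10 yf23 zf13) (kf xf12 yf2 zf52) (kf xf12 yf17 zf57)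 (kf xf18 yf35 zf55) (kf xf18 yf35 zf57) (kf xf21 yf6 zf49) (kf xf12 yf10 zf41) (kf xf7 yf31 zf43)) (@D3.rec (fun _ => Pt) (kf xf7 yf31 zf42) (kf xf22 yf15 zf55) (kf xf12 yf58 zf20) (kf xf23 yf47 zf25) (kf xf15 yf48 zf12) (kf xf22 yf15 zf54) (kf xf12 yf58 zf19) (kf xf21 yf8 zf0) (kf xf22 yf8 zf23) (kf xf21 yf4 zf49) (kf xf12 yf42 zf32) (kf xf21 yf7 zf32) (kf xf12 yf35 zf50) (kf xf12 yf35 zf48) (kf xf12 yf58 zf23) (kf xf12 yf2 zf8) (kf xf7 yf31 zf48) (kf xf21 yf52 zf19) (kf xf9 yf10 zf38) (kf xf12 yf35 zf42) (kf xf21 yf48 zf24) (kf xf12 yf35 zf44) (kf xf9 yf49 zf42) (kf xf18 yf10 zf39) (kf xf22 yf30 zf60) (kf xf9 yf49 zf41) (kf xf20 yf45 zf21) (kf xf22 yf34 zf46) (kf xf22 yf40 zf18) (kf xf11 yf28 zf8) (kf xf14 yf23 zf49) (kf xf11 yf40 zf38) (kf xf14 yf26 zf53) (kf xf21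 yf6 zf52) (kf xf13 yf16 zf44) (kf xf13 yf50 zf28) (kf xf12 yf44 zf25) (kf xf22 yf34 zf53) (kf xf22 yf40 zf17) (kf xf14 yf25 zf47) (kf xf22 yf40 zf19) (kf xf22 yf40 zf20) (kf xf22 yf40 zf21) (kf xf14 yf27 zf1) (kf xf18 yf48 zf47) (kf xf22 yf40 zf23) (kf xf22 yf33 zf43) (kf xf7 yf32 zf16) (kf xf23 yf47 zf61) (kf xf7 yf32 zf12) (kf xf13 yf6 zf33) (kf xf9 yf47 zf28) (kf xf14 yf23 zf43) (kf xf23 yf48 zf2) (kf xf16 yf58 zf12) (kf xf23 yf48 zf6) (kf xf7 yf32 zf14) (kf xf13 yf4 zf5) (kf xf23 yf47 zf58) (kf xf14 yf52 zf2) (kf xf13 yf13 zf28) (kf xf23 yf47 zf59)) (@D3.rec (fun _ => Pt) (kf xf23 yf48 zf20) (kf xf7 yf32 zf17) (kf xf14 yf23 zf37) (kf xf14 yf24 zf10) (kf xf14 yf23 zf35) (kf xf14 yf26 zf51) (kf xf14 yf23 zf40) (kf xf14 yf23 zf39) (kf xf23 yf48 zf32) (kf xf7 yf32 zf21)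 (kf xf13 yf34 zf45) (kf xf23 yf48 zf37) (kf xf23 yf48 zf41) (kf xf7 yf32 zf24) (kf xf23 yf48 zf33) (kf xf14 yf15 zf23) (kf xf22 yf38 zf30) (kf xf22 yf12 zf29) (kf xf22 yf12 zf28) (kf xf23 yf48 zf53) (kf xf7 yf32 zf28) (kf xf17 yf17 zf20) (kf xf17 yf17 zf23) (kf xf23 yf48 zf60) (kf xf7 yf32 zf30) (kf xf7 yf32 zf39) (kf xf8 yf15 zf51) (kf xf14 yf51 zf59) (kf xf15 yf50 zf41) (kf xf10 yf47 zf16) (kf xf13 yf16 zf29) (kf xf22 yf15 zf26) (kf xf18 yf45 zf53) (kf xf22 yf40 zf31) (kf xf23 yf49 zf6) (kf xf14 yf43 zf59) (kf xf13 yf53 zf42) (kf xf18 yf54 zf53) (kf xf15 yf30 zf61) (kf xf21 yf40 zf36) (kf xf21 yf59 zf57) (kf xf20 yf45 zf12) (kf xf23 yf49 zf14) (kf xf7 yf32 zf47) (kf xf22 yf1 zf18) (kf xf23 yf49 zf17) (kf xf7 yf32 zf48) (kf xf13 yf0 zf60) (kf xf21 yf3 zf61) (kf xf13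 yf1 zf32) (kf xf14 yf20 zf1) (kf xf23 yf49 zf23) (kf xf16 yf57 zf42) (kf xf23 yf49 zf27) (kf xf7 yf32 zf52) (kf xf17 yf28 zf42) (kf xf17 yf28 zf38) (kf xf21 yf53 zf9) (kf xf17 yf21 zf21) (kf xf17 yf28 zf48) (kf xf22 yf33 zf32) (kf xf14 yf37 zf17)) (@D3.rec (fun _ => Pt) (kf xf7 yf32 zf55) (kf xf21 yf44 zf2) (kf xf21 yf40 zf30) (kf xf21 yf44 zf3) (kf xf21 yf40 zf32) (kf xf12 yf36 zf10) (kf xf12 yf36 zf23) (kf xf14 yf34 zf52) (kf xf22 yf34 zf29) (kf xf17 yf22 zf0) (kf xf22 yf34 zf32) (kf xf23 yf49 zf59) (kf xf7 yf38 zf34) (kf xf7 yf32 zf60) (kf xf13 yf6 zf40) (kf xf13 yf6 zf44) (kf xf22 yf34 zf27) (kf xf22 yf34 zf28) (kf xf12 yf15 zf0) (kf xf12 yf36 zf21) (kf xf12 yf15 zf8) (kf xf22 yf34 zf30) (kf xf18 yf26 zf26) (kf xf22 yf34 zf35) (kf xf14 yf35 zf17) (kf xf14 yf18 zf12)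 (kf xf23 yf50 zf13) (kf xf22 yf34 zf33) (kf xf14 yf35 zf16) (kf xf23 yf50 zf19) (kf xf18 yf6 zf2) (kf xf18 yf6 zf3) (kf xf18 yf6 zf4) (kf xf13 yf50 zf21) (kf xf22 yf33 zf6) (kf xf22 yf34 zf47) (kf xf22 yf56 zf14) (kf xf22 yf34 zf49) (kf xf22 yf34 zf50) (kf xf22 yf34 zf51) (kf xf23 yf50 zf38) (kf xf22 yf56 zf13) (kf xf22 yf33 zf15) (kf xf22 yf34 zf55) (kf xf23 yf50 zf46) (kf xf22 yf34 zf44) (kf xf22 yf34 zf43) (kf xf7 yf33 zf13) (kf xf13 yf6 zf41) (kf xf13 yf6 zf47) (kf xf22 yf27 zf21) (kf xf22 yf34 zf39) (kf xf23 yf50 zf59) (kf xf13 yf4 zf11) (kf xf16 yf4 zf56) (kf xf22 yf34 zf41) (kf xf23 yf51 zf6) (kf xf22 yf34 zf58) (kf xf22 yf34 zf57) (kf xf23 yf51 zf13) (kf xf7 yf33 zf19) (kf xf14 yf44 zf5)) (@D3.rec (fun _ => Pt) (kf xf22 yf35 zf6) (kf xf22 yf35 zf7) (kf xf7 yf38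 zf41) (kf xf23 yf51 zf20) (kf xf22 yf35 zf9) (kf xf23 yf51 zf28) (kf xf22 yf35 zf3) (kf xf22 yf35 zf2) (kf xf23 yf51 zf35) (kf xf7 yf33 zf24) (kf xf22 yf34 zf60) (kf xf23 yf51 zf43) (kf xf22 yf35 zf0) (kf xf23 yf51 zf50) (kf xf16 yf18 zf12) (kf xf19 yf40 zf61) (kf xf7 yf33 zf28) (kf xf22 yf35 zf13) (kf xf16 yf18 zf16) (kf xf22 yf35 zf11) (kf xf13 yf18 zf56) (kf xf9 yf53 zf27) (kf xf13 yf57 zf5) (kf xf14 yf13 zf15) (kf xf19 yf22 zf5) (kf xf22 yf14 zf44) (kf xf11 yf0 zf41) (kf xf22 yf35 zf14) (kf xf22 yf18 zf57) (kf xf14 yf49 zf29) (kf xf14 yf49 zf28) (kf xf22 yf35 zf16) (kf xf12 yf58 zf60) (kf xf14 yf1 zf18) (kf xf14 yf1 zf17) (kf xf7 yf33 zf38) (kf xf14 yf1 zf21) (kf xf13 yf19 zf60) (kf xf23 yf52 zf20) (kf xf22 yf46 zf17) (kf xf22 yf36 zf34) (kf xf22 yf30 zf21) (kf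 xf22 yf41 zf10) (kf xf13 yf45 zf4) (kf xf22 yf30 zf22) (kf xf22 yf41 zf13) (kf xf20 yf33 zf11) (kf xf20 yf33 zf10) (kf xf22 yf57 zf34) (kf xf18 yf40 zf37) (kf xf20 yf33 zf24) (kf xf21 yf6 zf22) (kf xf20 yf9 zf52) (kf xf18 yf38 zf18) (kf xf21 yf18 zf19) (kf xf18 yf15 zf31) (kf xf11 yf12 zf14) (kf xf7 yf41 zf11) (kf xf20 yf40 zf57) (kf xf13 yf5 zf16) (kf xf13 yf5 zf15) (kf xf23 yf52 zf45)) (@D3.rec (fun _ => Pt) (kf xf7 yf33 zf58) (kf xf20 yf41 zf45) (kf xf20 yf42 zf39) (kf xf22 yf34 zf9) (kf xf22 yf34 zf11) (kf xf23 yf52 zf55) (kf xf7 yf34 zf0) (kf xf22 yf57 zf43) (kf xf20 yf48 zf47) (kf xf23 yf52 zf61) (kf xf23 yf53 zf1) (kf xf7 yf34 zf6) (kf xf17 yf20 zf50) (kf xf23 yf53 zf5) (kf xf7 yf34 zf8) (kf xf22 yf0 zf28) (kf xf22 yf0 zf29) (kf xf22 yf0 zf30) (kf xf22 yf0 zf26)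 (kf xf22 yf0 zf27) (kf xf17 yf32 zf27) (kf xf22 yf0 zf33) (kf xf22 yf0 zf32) (kf xf23 yf53 zf21) (kf xf7 yf34 zf11) (kf xf22 yf57 zf37) (kf xf22 yf41 zf16) (kf xf22 yf57 zf39) (kf xf23 yf53 zf30) (kf xf22 yf57 zf41) (kf xf23 yf53 zf34) (kf xf22 yf57 zf44) (kf xf22 yf57 zf45) (kf xf19 yf34 zf17) (kf xf22 yf57 zf47) (kf xf23 yf53 zf45) (kf xf10 yf53 zf53) (kf xf22 yf57 zf48) (kf xf22 yf57 zf49) (kf xf13 yf3 zf5) (kf xf20 yf23 zf37) (kf xf22 yf33 zf37) (kf xf12 yf35 zf31) (kf xf21 yf49 zf41) (kf xf18 yf55 zf10) (kf xf23 yf13 zf37) (kf xf7 yf39 zf61) (kf xf7 yf34 zf24) (kf xf22 yf33 zf7) (kf xf21 yf44 zf18) (kf xf10 yf13 zf34) (kf xf20 yf33 zf58) (kf xf21 yf44 zf25) (kf xf10 yf13 zf44) (kf xf12 yf35 zf28) (kf xf14 yf36 zf40) (kf xf18 yf55 zf8) (kf xf21 yf53 zf10) (kf xf23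 yf54 zf11) (kf xf7 yf34 zf28) (kf xf22 yf33 zf41) (kf xf14 yf17 zf51)) (@D3.rec (fun _ => Pt) (kf xf23 yf54 zf18) (kf xf18 yf57 zf44) (kf xf23 yf54 zf23) (kf xf22 yf27 zf33) (kf xf22 yf21 zf35) (kf xf22 yf27 zf18) (kf xf22 yf33 zf44) (kf xf23 yf54 zf35) (kf xf22 yf33 zf23) (kf xf18 yf55 zf45) (kf xf22 yf31 zf5) (kf xf7 yf34 zf35) (kf xf13 yf50 zf39) (kf xf22 yf30 zf61) (kf xf22 yf31 zf0) (kf xf22 yf41 zf0) (kf xf22 yf31 zf1) (kf xf22 yf31 zf2) (kf xf22 yf31 zf3) (kf xf23 yf54 zf53) (kf xf22 yf33 zf13) (kf xf22 yf40 zf61) (kf xf7 yf34 zf40) (kf xf22 yf33 zf54) (kf xf22 yf33 zf55) (kf xf13 yf36 zf14) (kf xf13 yf36 zf10) (kf xf7 yf34 zf42) (kf xf22 yf33 zf50) (kf xf22 yf33 zf51) (kf xf23 yf55 zf7) (kf xf22 yf33 zf58) (kf xf22 yf33 zf57) (kf xf23 yf55 zf14) (kf xf7 yf34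 zf44) (kf xf13 yf40 zf17) (kf xf13 yf40 zf18) (kf xf22 yf29 zf48) (kf xf22 yf40 zf60) (kf xf7 yf46 zf20) (kf xf13 yf13 zf10) (kf xf14 yf40 zf53) (kf xf23 yf46 zf7) (kf xf23 yf55 zf22) (kf xf12 yf34 zf3) (kf xf12 yf34 zf2) (kf xf16 yf44 zf32) (kf xf7 yf34 zf53) (kf xf13 yf9 zf17) (kf xf7 yf38 zf30) (kf xf7 yf38 zf32) (kf xf14 yf16 zf61) (kf xf7 yf38 zf26) (kf xf7 yf38 zf28) (kf xf23 yf55 zf41) (kf xf7 yf38 zf35) (kf xf19 yf35 zf19) (kf xf7 yf34 zf59) (kf xf7 yf38 zf48) (kf xf7 yf38 zf50) (kf xf7 yf38 zf56) (kf xf23 yf55 zf50)) (@D3.rec (fun _ => Pt) (kf xf7 yf38 zf53) (kf xf23 yf55 zf55) (kf xf7 yf38 zf61) (kf xf7 yf39 zf2) (kf xf23 yf56 zf0) (kf xf7 yf39 zf5) (kf xf14 yf23 zf23) (kf xf14 yf19 zf41) (kf xf14 yf23 zf16) (kf xf15 yf57 zf1) (kf xf7 yf39 zf57) (kf xf7 yf39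 zf59) (kf xf14 yf14 zf25) (kf xf7 yf39 zf55) (kf xf21 yf35 zf6) (kf xf7 yf40 zf0) (kf xf23 yf56 zf19) (kf xf7 yf35 zf12) (kf xf7 yf37 zf43) (kf xf7 yf40 zf8) (kf xf7 yf40 zf9) (kf xf7 yf40 zf11) (kf xf7 yf40 zf4) (kf xf7 yf40 zf5) (kf xf23 yf56 zf25) (kf xf7 yf40 zf17) (kf xf20 yf37 zf2) (kf xf7 yf40 zf13) (kf xf23 yf56 zf30) (kf xf7 yf40 zf21) (kf xf13 yf32 zf43) (kf xf23 yf6 zf37) (kf xf23 yf45 zf52) (kf xf7 yf45 zf60) (kf xf7 yf35 zf26) (kf xf7 yf35 zf25) (kf xf23 yf11 zf13) (kf xf7 yf35 zf24) (kf xf20 yf28 zf52) (kf xf20 yf28 zf51) (kf xf22 yf38 zf39) (kf xf19 yf34 zf33) (kf xf19 yf16 zf13) (kf xf20 yf2 zf11) (kf xf7 yf41 zf38) (kf xf13 yf20 zf49) (kf xf7 yf41 zf34) (kf xf7 yf41 zf35) (kf xf20 yf33 zf38) (kf xf7 yf41 zf41) (kf xf7 yf41 zf40) (kf xf23 yf56 zf50)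 (kf xf7 yf35 zf31) (kf xf23 yf7 zf43) (kf xf7 yf40 zf46) (kf xf7 yf45 zf30) (kf xf7 yf45 zf31) (kf xf22 yf58 zf41) (kf xf14 yf55 zf31) (kf xf22 yf37 zf61) (kf xf22 yf57 zf9) (kf xf18 yf57 zf4)) (@D3.rec (fun _ => Pt) (kf xf23 yf56 zf56) (kf xf7 yf35 zf41) (kf xf22 yf57 zf5) (kf xf22 yf57 zf6) (kf xf22 yf57 zf7) (kf xf14 yf48 zf57) (kf xf22 yf57 zf8) (kf xf7 yf45 zf41) (kf xf22 yf57 zf10) (kf xf22 yf57 zf11) (kf xf22 yf57 zf12) (kf xf7 yf42 zf25) (kf xf7 yf42 zf26) (kf xf14 yf35 zf14) (kf xf7 yf42 zf23) (kf xf7 yf42 zf29) (kf xf7 yf42 zf28) (kf xf7 yf35 zf47) (kf xf7 yf42 zf33) (kf xf23 yf57 zf18) (kf xf23 yf36 zf11) (kf xf14 yf47 zf0) (kf xf18 yf42 zf4) (kf xf7 yf41 zf20) (kf xf13 yf10 zf34) (kf xf19 yf29 zf22) (kf xf7 yf35 zf54) (kf xf14 yf23 zf20) (kf xf23 yf57 zf25)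 (kf xf7 yf35 zf55) (kf xf23 yf57 zf27) (kf xf7 yf35 zf56) (kf xf13 yf10 zf43) (kf xf23 yf57 zf33) (kf xf7 yf35 zf57) (kf xf23 yf6 zf16) (kf xf23 yf57 zf36) (kf xf13 yf10 zf6) (kf xf7 yf42 zf14) (kf xf23 yf57 zf42) (kf xf7 yf35 zf61) (kf xf14 yf18 zf7) (kf xf23 yf57 zf46) (kf xf7 yf36 zf0) (kf xf13 yf10 zf15) (kf xf23 yf57 zf47) (kf xf7 yf36 zf1) (kf xf13 yf10 zf21) (kf xf23 yf57 zf52) (kf xf7 yf36 zf2) (kf xf13 yf7 zf13) (kf xf7 yf36 zf21) (kf xf7 yf36 zf20) (kf xf21 yf3 zf41) (kf xf7 yf36 zf5) (kf xf7 yf36 zf28) (kf xf7 yf36 zf29) (kf xf14 yf42 zf37) (kf xf7 yf36 zf24) (kf xf7 yf36 zf32) (kf xf7 yf36 zf31) (kf xf9 yf48 zf17)) (@D3.rec (fun _ => Pt) (kf xf7 yf36 zf8) (kf xf14 yf13 zf50) (kf xf23 yf58 zf2) (kf xf10 yf18 zf19) (kf xf13 yf1 zf35) (kf xf9 yf25 zf56) (kf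 xf23 yf58 zf4) (kf xf7 yf36 zf12) (kf xf15 yf26 zf37) (kf xf15 yf26 zf38) (kf xf18 yf23 zf17) (kf xf12 yf10 zf40) (kf xf14 yf50 zf0) (kf xf20 yf9 zf7) (kf xf17 yf2 zf7) (kf xf23 yf57 zf54) (kf xf12 yf48 zf59) (kf xf20 yf33 zf17) (kf xf20 yf45 zf59) (kf xf12 yf48 zf58) (kf xf11 yf45 zf41) (kf xf23 yf57 zf56) (kf xf23 yf57 zf55) (kf xf15 yf26 zf52) (kf xf7 yf36 zf22) (kf xf7 yf40 zf53) (kf xf14 yf54 zf10) (kf xf19 yf50 zf55) (kf xf23 yf58 zf22) (kf xf14 yf23 zf5) (kf xf16 yf32 zf43) (kf xf13 yf16 zf47) (kf xf7 yf36 zf27) (kf xf7 yf41 zf51) (kf xf13 yf30 zf27) (kf xf14 yf44 zf59) (kf xf23 yf23 zf50) (kf xf23 yf57 zf60) (kf xf9 yf8 zf49) (kf xf18 yf41 zf60) (kf xf23 yf57 zf59) (kf xf9 yf8 zf50) (kf xf23 yf58 zf36) (kf xf11 yf31 zf31) (kf xf21 yf11 zf20) (kf xf20 yf22 zf52)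 (kf xf12 yf57 zf53) (kf xf21 yf41 zf58) (kf xf7 yf44 zf49) (kf xf7 yf44 zf61) (kf xf23 yf58 zf45) (kf xf7 yf44 zf17) (kf xf7 yf36 zf38) (kf xf7 yf40 zf56) (kf xf7 yf44 zf40) (kf xf7 yf44 zf42) (kf xf7 yf44 zf45) (kf xf7 yf44 zf46) (kf xf21 yf42 zf39) (kf xf7 yf44 zf50) (kf xf23 yf58 zf57) (kf xf7 yf44 zf3)) (@D3.rec (fun _ => Pt) (kf xf14 yf30 zf2) (kf xf7 yf36 zf42) (kf xf7 yf45 zf9) (kf xf7 yf45 zf10) (kf xf23 yf12 zf22) (kf xf7 yf45 zf4) (kf xf7 yf45 zf5) (kf xf23 yf59 zf5) (kf xf7 yf45 zf13) (kf xf7 yf45 zf12) (kf xf23 yf59 zf15) (kf xf23 yf59 zf18) (kf xf7 yf36 zf45) (kf xf7 yf37 zf5) (kf xf7 yf41 zf52) (kf xf22 yf26 zf9) (kf xf22 yf26 zf8) (kf xf7 yf45 zf47) (kf xf23 yf58 zf55) (kf xf15 yf42 zf40) (kf xf7 yf45 zf56) (kf xf7 yf45 zf55) (kf xf7 yf40 zf55) (kf xf7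 yf40 zf57) (kf xf22 yf27 zf59) (kf xf7 yf45 zf37) (kf xf7 yf41 zf19) (kf xf23 yf34 zf6) (kf xf7 yf45 zf53) (kf xf7 yf46 zf15) (kf xf7 yf46 zf14) (kf xf23 yf59 zf24) (kf xf7 yf46 zf12) (kf xf23 yf59 zf29) (kf xf7 yf46 zf25) (kf xf7 yf46 zf24) (kf xf7 yf37 zf1) (kf xf7 yf46 zf30) (kf xf23 yf59 zf37) (kf xf7 yf46 zf28) (kf xf23 yf59 zf41) (kf xf14 yf50 zf39) (kf xf11 yf40 zf2) (kf xf22 yf39 zf12) (kf xf7 yf46 zf40) (kf xf7 yf46 zf39) (kf xf7 yf48 zf4) (kf xf7 yf37 zf58) (kf xf7 yf37 zf56) (kf xf7 yf37 zf59) (kf xf23 yf49 zf36) (kf xf7 yf39 zf24) (kf xf7 yf39 zf25) (kf xf7 yf48 zf6) (kf xf7 yf48 zf8) (kf xf7 yf48 zf9) (kf xf7 yf48 zf10) (kf xf11 yf0 zf16) (kf xf7 yf47 zf30) (kf xf24 yf0 zf1) (kf xf7 yf47 zf27) (kf xf24 yf0 zf6)) (@D3.rec (fun _ => Pt) (kf xf7 yf48 zf15)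 (kf xf16 yf6 zf41) (kf xf7 yf47 zf37) (kf xf7 yf47 zf36) (kf xf7 yf37 zf15) (kf xf7 yf48 zf25) (kf xf7 yf38 zf0) (kf xf7 yf38 zf1) (kf xf7 yf47 zf18) (kf xf14 yf42 zf52) (kf xf7 yf47 zf20) (kf xf7 yf47 zf21) (kf xf7 yf47 zf22) (kf xf10 yf7 zf23) (kf xf7 yf47 zf34) (kf xf19 yf18 zf39) (kf xf7 yf48 zf18) (kf xf7 yf48 zf17) (kf xf20 yf59 zf35) (kf xf7 yf37 zf22) (kf xf24 yf0 zf31) (kf xf7 yf37 zf24) (kf xf13 yf11 zf39) (kf xf21 yf40 zf12) (kf xf17 yf25 zf8) (kf xf21 yf40 zf11) (kf xf22 yf58 zf16) (kf xf21 yf40 zf15) (kf xf21 yf40 zf14) (kf xf20 yf39 zf56) (kf xf9 yf26 zf14) (kf xf9 yf26 zf17) (kf xf24 yf0 zf41) (kf xf7 yf37 zf31) (kf xf7 yf52 zf59) (kf xf24 yf0 zf43) (kf xf7 yf52 zf31) (kf xf24 yf0 zf48) (kf xf23 yf56 zf7) (kf xf23 yf56 zf20) (kf xf23 yf55 zf33) (kf xf22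 yf56 zf21) (kf xf7 yf37 zf48) (kf xf7 yf37 zf47) (kf xf24 yf0 zf56) (kf xf7 yf37 zf46) (kf xf13 yf41 zf34) (kf xf24 yf0 zf54) (kf xf22 yf46 zf59) (kf xf13 yf41 zf53) (kf xf24 yf0 zf53) (kf xf23 yf47 zf50) (kf xf24 yf0 zf55) (kf xf22 yf24 zf58) (kf xf7 yf37 zf49) (kf xf22 yf32 zf53) (kf xf24 yf1 zf10) (kf xf24 yf1 zf14) (kf xf7 yf37 zf52) (kf xf23 yf49 zf18) (kf xf9 yf10 zf36) (kf xf23 yf59 zf44)) (@D3.rec (fun _ => Pt) (kf xf7 yf53 zf39) (kf xf23 yf19 zf18) (kf xf23 yf59 zf45) (kf xf23 yf59 zf46) (kf xf14 yf39 zf12) (kf xf14 yf20 zf29) (kf xf17 yf0 zf47) (kf xf17 yf28 zf34) (kf xf20 yf35 zf28) (kf xf7 yf38 zf11) (kf xf7 yf38 zf9) (kf xf13 yf29 zf53) (kf xf12 yf33 zf48) (kf xf12 yf33 zf49) (kf xf9 yf16 zf59) (kf xf22 yf20 zf8) (kf xf14 yf18 zf8) (kf xf8 yf29 zf16) (kf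 xf11 yf4 zf21) (kf xf14 yf10 zf17) (kf xf14 yf19 zf27) (kf xf19 yf42 zf2) (kf xf24 yf1 zf47) (kf xf14 yf18 zf6) (kf xf15 yf51 zf10) (kf xf19 yf41 zf5) (kf xf22 yf41 zf32) (kf xf7 yf38 zf14) (kf xf24 yf1 zf54) (kf xf12 yf1 zf13) (kf xf24 yf1 zf52) (kf xf21 yf41 zf37) (kf xf24 yf2 zf0) (kf xf7 yf38 zf17) (kf xf11 yf42 zf25) (kf xf14 yf13 zf4) (kf xf21 yf53 zf0) (kf xf14 yf13 zf2) (kf xf23 yf49 zf51) (kf xf14 yf13 zf7) (kf xf14 yf13 zf6) (kf xf24 yf2 zf14) (kf xf7 yf38 zf20) (kf xf14 yf12 zf52) (kf xf20 yf28 zf6) (kf xf9 yf22 zf30) (kf xf14 yf29 zf6) (kf xf7 yf38 zf23) (kf xf12 yf10 zf10) (kf xf14 yf12 zf30) (kf xf23 yf55 zf34) (kf xf23 yf55 zf35) (kf xf23 yf55 zf36) (kf xf12 yf41 zf19) (kf xf12 yf41 zf20) (kf xf18 yf26 zf8) (kf xf23 yf55 zf30) (kf xf21 yf21 zf3) (kf xf23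 yf55 zf38) (kf xf24 yf2 zf39) (kf xf9 yf22 zf4) (kf xf7 yf38 zf29)) (@D3.rec (fun _ => Pt) (kf xf11 yf30 zf6) (kf xf13 yf9 zf3) (kf xf18 yf25 zf50) (kf xf23 yf55 zf28) (kf xf24 yf2 zf52) (kf xf12 yf41 zf16) (kf xf12 yf41 zf17) (kf xf24 yf2 zf57) (kf xf23 yf55 zf31) (kf xf24 yf3 zf0) (kf xf14 yf13 zf3) (kf xf24 yf3 zf2) (kf xf7 yf38 zf33) (kf xf23 yf49 zf42) (kf xf14 yf30 zf16) (kf xf15 yf55 zf2) (kf xf23 yf55 zf42) (kf xf14 yf30 zf15) (kf xf24 yf3 zf10) (kf xf19 yf35 zf23) (kf xf19 yf35 zf24) (kf xf19 yf35 zf25) (kf xf13 yf41 zf26) (kf xf22 yf50 zf43) (kf xf22 yf56 zf22) (kf xf22 yf56 zf23) (kf xf22 yf56 zf24) (kf xf22 yf56 zf25) (kf xf24 yf3 zf32) (kf xf23 yf36 zf49) (kf xf22 yf50 zf48) (kf xf13 yf43 zf13) (kf xf15 yf55 zf18) (kf xf20 yf40 zf10) (kf xf24 yf3 zf38)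 (kf xf19 yf40 zf57) (kf xf7 yf38 zf44) (kf xf13 yf8 zf50) (kf xf13 yf9 zf0) (kf xf7 yf50 zf15) (kf xf13 yf9 zf5) (kf xf7 yf49 zf43) (kf xf7 yf50 zf16) (kf xf7 yf53 zf44) (kf xf22 yf42 zf38) (kf xf23 yf54 zf37) (kf xf23 yf55 zf44) (kf xf24 yf3 zf60) (kf xf22 yf27 zf50) (kf xf23 yf55 zf45) (kf xf24 yf4 zf5) (kf xf22 yf56 zf30) (kf xf22 yf56 zf29) (kf xf24 yf4 zf9) (kf xf7 yf38 zf51) (kf xf22 yf41 zf38) (kf xf23 yf55 zf51) (kf xf23 yf55 zf52) (kf xf24 yf4 zf19) (kf xf14 yf30 zf27) (kf xf24 yf4 zf26) (kf xf23 yf55 zf49)) (@D3.rec (fun _ => Pt) (kf xf23 yf55 zf48) (kf xf7 yf38 zf55) (kf xf13 yf9 zf6) (kf xf23 yf55 zf46) (kf xf24 yf4 zf37) (kf xf14 yf30 zf25) (kf xf24 yf4 zf44) (kf xf15 yf55 zf6) (kf xf23 yf55 zf54) (kf xf7 yf38 zf58) (kf xf23 yf12 zf51) (kf xf17 yf0 zf34)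 (kf xf23 yf55 zf56) (kf xf24 yf4 zf53) (kf xf13 yf44 zf16) (kf xf13 yf43 zf3) (kf xf24 yf4 zf58) (kf xf23 yf55 zf58) (kf xf24 yf5 zf2) (kf xf14 yf48 zf47) (kf xf14 yf48 zf46) (kf xf7 yf39 zf3) (kf xf13 yf43 zf0) (kf xf13 yf46 zf33) (kf xf11 yf51 zf33) (kf xf24 yf5 zf13) (kf xf23 yf55 zf61) (kf xf23 yf55 zf60) (kf xf24 yf5 zf23) (kf xf7 yf39 zf7) (kf xf14 yf53 zf51) (kf xf19 yf0 zf51) (kf xf23 yf6 zf38) (kf xf23 yf9 zf60) (kf xf11 yf27 zf41) (kf xf16 yf26 zf29) (kf xf23 yf9 zf58) (kf xf23 yf9 zf59) (kf xf14 yf43 zf11) (kf xf23 yf9 zf61) (kf xf23 yf10 zf0) (kf xf22 yf54 zf7) (kf xf16 yf26 zf30) (kf xf20 yf37 zf13) (kf xf16 yf1 zf57) (kf xf23 yf10 zf1) (kf xf23 yf10 zf49) (kf xf14 yf12 zf39) (kf xf23 yf10 zf50) (kf xf13 yf7 zf55) (kf xf13 yf7 zf54) (kf xf21 yf54 zf11)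 (kf xf22 yf41 zf23) (kf xf22 yf23 zf16) (kf xf22 yf0 zf38) (kf xf22 yf0 zf46) (kf xf24 yf5 zf55) (kf xf7 yf39 zf27) (kf xf22 yf6 zf58) (kf xf7 yf39 zf42) (kf xf7 yf39 zf41) (kf xf16 yf44 zf36)) (@D3.rec (fun _ => Pt) (kf xf7 yf39 zf30) (kf xf7 yf39 zf45) (kf xf7 yf39 zf46) (kf xf7 yf39 zf50) (kf xf7 yf39 zf49) (kf xf19 yf30 zf52) (kf xf12 yf10 zf27) (kf xf11 yf41 zf46) (kf xf11 yf42 zf26) (kf xf16 yf56 zf35) (kf xf23 yf55 zf25) (kf xf24 yf5 zf57) (kf xf22 yf6 zf57) (kf xf7 yf39 zf40) (kf xf20 yf34 zf20) (kf xf20 yf34 zf22) (kf xf24 yf6 zf18) (kf xf24 yf5 zf58) (kf xf22 yf0 zf34) (kf xf11 yf59 zf1) (kf xf23 yf53 zf3) (kf xf17 yf32 zf26) (kf xf24 yf6 zf24) (kf xf7 yf39 zf43) (kf xf13 yf7 zf53) (kf xf24 yf5 zf61) (kf xf22 yf53 zf1) (kf xf24 yf6 zf0) (kf xf24 yf6 zf36)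 (kf xf22 yf53 zf2) (kf xf24 yf6 zf41) (kf xf22 yf58 zf37) (kf xf13 yf34 zf43) (kf xf13 yf18 zf23) (kf xf23 yf4 zf30) (kf xf22 yf7 zf7) (kf xf23 yf4 zf25) (kf xf24 yf6 zf4) (kf xf24 yf6 zf3) (kf xf24 yf6 zf57) (kf xf24 yf7 zf0) (kf xf7 yf39 zf51) (kf xf9 yf10 zf17) (kf xf18 yf25 zf12) (kf xf24 yf7 zf6) (kf xf12 yf39 zf42) (kf xf21 yf42 zf42) (kf xf21 yf20 zf31) (kf xf23 yf56 zf11) (kf xf23 yf56 zf14) (kf xf24 yf7 zf18) (kf xf14 yf13 zf5) (kf xf7 yf39 zf56) (kf xf14 yf12 zf32) (kf xf23 yf56 zf8) (kf xf22 yf22 zf27) (kf xf23 yf56 zf9) (kf xf24 yf7 zf30) (kf xf12 yf39 zf39) (kf xf12 yf39 zf40) (kf xf22 yf37 zf5) (kf xf23 yf56 zf12)) (@D3.rec (fun _ => Pt) (kf xf22 yf57 zf1) (kf xf14 yf12 zf43) (kf xf14 yf43 zf45) (kf xf7 yf39 zf60) (kf xf18 yf24 zf30) (kf xf14 yf31 zf48)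 (kf xf24 yf7 zf44) (kf xf21 yf44 zf24) (kf xf14 yf31 zf47) (kf xf24 yf7 zf46) (kf xf23 yf56 zf18) (kf xf23 yf56 zf17) (kf xf24 yf7 zf54) (kf xf24 yf7 zf57) (kf xf7 yf40 zf1) (kf xf7 yf40 zf24) (kf xf11 yf36 zf36) (kf xf14 yf52 zf3) (kf xf23 yf48 zf11) (kf xf24 yf8 zf0) (kf xf13 yf31 zf53) (kf xf13 yf32 zf12) (kf xf24 yf8 zf7) (kf xf23 yf55 zf12) (kf xf23 yf55 zf11) (kf xf7 yf40 zf6) (kf xf12 yf8 zf20) (kf xf22 yf50 zf44) (kf xf23 yf56 zf21) (kf xf14 yf42 zf42) (kf xf23 yf50 zf39) (kf xf23 yf50 zf41) (kf xf24 yf8 zf18) (kf xf14 yf42 zf40) (kf xf14 yf42 zf41) (kf xf24 yf8 zf22) (kf xf23 yf56 zf24) (kf xf23 yf56 zf23) (kf xf7 yf40 zf12) (kf xf22 yf18 zf8) (kf xf13 yf18 zf39) (kf xf24 yf8 zf27) (kf xf24 yf8 zf30) (kf xf23 yf56 zf27) (kf xf23 yf56 zf26) (kf xf24 yf8 zf37)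 (kf xf7 yf40 zf16) (kf xf20 yf37 zf11) (kf xf20 yf37 zf4) (kf xf24 yf8 zf41) (kf xf23 yf56 zf29) (kf xf18 yf48 zf10) (kf xf7 yf40 zf19) (kf xf12 yf59 zf38) (kf xf13 yf31 zf46) (kf xf22 yf10 zf54) (kf xf14 yf51 zf22) (kf xf13 yf31 zf48) (kf xf22 yf10 zf52) (kf xf24 yf8 zf53) (kf xf16 yf27 zf20) (kf xf24 yf8 zf49)) (@D3.rec (fun _ => Pt) (kf xf7 yf40 zf22) (kf xf19 yf35 zf20) (kf xf19 yf28 zf35) (kf xf19 yf28 zf34) (kf xf22 yf48 zf36) (kf xf22 yf48 zf37) (kf xf22 yf48 zf38) (kf xf24 yf9 zf9) (kf xf14 yf52 zf26) (kf xf14 yf52 zf25) (kf xf7 yf40 zf27) (kf xf24 yf9 zf17) (kf xf13 yf31 zf45) (kf xf13 yf38 zf45) (kf xf24 yf9 zf21) (kf xf22 yf41 zf30) (kf xf22 yf41 zf29) (kf xf24 yf9 zf24) (kf xf22 yf41 zf11) (kf xf20 yf28 zf57) (kf xf13 yf38 zf34) (kf xf24 yf9 zf28) (kf xf7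 yf40 zf39) (kf xf22 yf56 zf33) (kf xf24 yf9 zf30) (kf xf13 yf33 zf43) (kf xf7 yf40 zf37) (kf xf13 yf44 zf25) (kf xf22 yf50 zf51) (kf xf24 yf8 zf25) (kf xf24 yf9 zf34) (kf xf7 yf40 zf40) (kf xf23 yf21 zf37) (kf xf23 yf21 zf36) (kf xf7 yf40 zf42) (kf xf24 yf9 zf42) (kf xf22 yf55 zf14) (kf xf24 yf3 zf45) (kf xf24 yf9 zf45) (kf xf14 yf55 zf38) (kf xf23 yf24 zf5) (kf xf21 yf46 zf38) (kf xf7 yf40 zf47) (kf xf11 yf26 zf31) (kf xf24 yf9 zf53) (kf xf7 yf40 zf48) (kf xf22 yf58 zf26) (kf xf22 yf48 zf57) (kf xf22 yf37 zf46) (kf xf24 yf9 zf61) (kf xf7 yf40 zf50) (kf xf21 yf3 zf60) (kf xf23 yf58 zf14) (kf xf16 yf3 zf52) (kf xf12 yf47 zf59) (kf xf12 yf48 zf0) (kf xf21 yf59 zf45) (kf xf7 yf41 zf13) (kf xf19 yf28 zf49) (kf xf7 yf40 zf59) (kf xf7 yf41 zf21) (kf xf7 yf41 zf22)) (@D3.rec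 (fun _ => Pt) (kf xf7 yf41 zf17) (kf xf7 yf41 zf18) (kf xf22 yf48 zf60) (kf xf7 yf41 zf25) (kf xf23 yf1 zf3) (kf xf7 yf41 zf0) (kf xf14 yf23 zf46) (kf xf14 yf42 zf35) (kf xf23 yf26 zf23) (kf xf23 yf27 zf25) (kf xf24 yf10 zf20) (kf xf7 yf41 zf3) (kf xf7 yf52 zf43) (kf xf23 yf10 zf58) (kf xf14 yf55 zf19) (kf xf7 yf41 zf26) (kf xf7 yf41 zf6) (kf xf11 yf42 zf8) (kf xf11 yf36 zf5) (kf xf21 yf39 zf59) (kf xf19 yf53 zf18) (kf xf24 yf10 zf5) (kf xf24 yf10 zf32) (kf xf16 yf44 zf42) (kf xf24 yf10 zf6) (kf xf21 yf45 zf18) (kf xf7 yf41 zf14) (kf xf14 yf49 zf43) (kf xf24 yf10 zf9) (kf xf22 yf58 zf18) (kf xf14 yf51 zf48) (kf xf24 yf10 zf11) (kf xf21 yf41 zf24) (kf xf13 yf8 zf53) (kf xf20 yf30 zf34) (kf xf24 yf10 zf42) (kf xf24 yf10 zf7) (kf xf24 yf10 zf46) (kf xf24 yf10 zf8) (kf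 xf24 yf10 zf50) (kf xf22 yf39 zf26) (kf xf7 yf41 zf23) (kf xf14 yf37 zf45) (kf xf19 yf31 zf14) (kf xf19 yf56 zf37) (kf xf24 yf10 zf56) (kf xf23 yf33 zf13) (kf xf22 yf22 zf14) (kf xf12 yf33 zf33) (kf xf12 yf33 zf35) (kf xf13 yf16 zf35) (kf xf17 yf1 zf24) (kf xf21 yf37 zf23) (kf xf21 yf37 zf21) (kf xf24 yf11 zf0) (kf xf7 yf41 zf29) (kf xf13 yf21 zf0) (kf xf21 yf52 zf40) (kf xf13 yf20 zf60) (kf xf23 yf57 zf13) (kf xf13 yf21 zf3) (kf xf24 yf11 zf6)) (@D3.rec (fun _ => Pt) (kf xf7 yf41 zf32) (kf xf23 yf56 zf42) (kf xf14 yf21 zf0) (kf xf23 yf56 zf43) (kf xf24 yf11 zf9) (kf xf13 yf16 zf50) (kf xf13 yf10 zf36) (kf xf23 yf56 zf40) (kf xf24 yf4 zf57) (kf xf13 yf20 zf61) (kf xf7 yf41 zf39) (kf xf23 yf56 zf46) (kf xf24 yf11 zf13) (kf xf9 yf25 zf52) (kf xf24 yf11 zf17) (kf xf14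 yf24 zf17) (kf xf14 yf24 zf14) (kf xf11 yf9 zf23) (kf xf24 yf11 zf28) (kf xf7 yf41 zf42) (kf xf7 yf41 zf50) (kf xf14 yf43 zf14) (kf xf24 yf11 zf36) (kf xf19 yf15 zf26) (kf xf7 yf41 zf45) (kf xf14 yf25 zf5) (kf xf24 yf11 zf45) (kf xf14 yf24 zf59) (kf xf24 yf11 zf51) (kf xf17 yf58 zf22) (kf xf24 yf11 zf52) (kf xf23 yf33 zf16) (kf xf7 yf41 zf48) (kf xf24 yf11 zf29) (kf xf19 yf35 zf11) (kf xf19 yf35 zf15) (kf xf23 yf58 zf23) (kf xf17 yf35 zf40) (kf xf13 yf11 zf15) (kf xf11 yf43 zf17) (kf xf13 yf11 zf16) (kf xf24 yf12 zf3) (kf xf7 yf41 zf56) (kf xf23 yf45 zf53) (kf xf23 yf45 zf60) (kf xf19 yf19 zf18) (kf xf7 yf41 zf58) (kf xf19 yf30 zf9) (kf xf7 yf42 zf17) (kf xf7 yf42 zf15) (kf xf7 yf42 zf20) (kf xf7 yf42 zf19) (kf xf24 yf12 zf19) (kf xf7 yf42 zf1) (kf xf19 yf30 zf11) (kf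 xf7 yf42 zf4) (kf xf22 yf20 zf2) (kf xf19 yf30 zf60) (kf xf23 yf12 zf48) (kf xf24 yf12 zf30) (kf xf7 yf42 zf9) (kf xf20 yf27 zf10)) (@D3.rec (fun _ => Pt) (kf xf20 yf27 zf11) (kf xf24 yf12 zf37) (kf xf20 yf27 zf8) (kf xf10 yf39 zf0) (kf xf20 yf27 zf14) (kf xf20 yf27 zf13) (kf xf24 yf12 zf43) (kf xf7 yf42 zf12) (kf xf23 yf57 zf38) (kf xf10 yf33 zf30) (kf xf24 yf12 zf11) (kf xf24 yf12 zf53) (kf xf13 yf10 zf3) (kf xf13 yf10 zf4) (kf xf22 yf58 zf60) (kf xf24 yf12 zf9) (kf xf24 yf12 zf60) (kf xf23 yf57 zf41) (kf xf24 yf12 zf15) (kf xf13 yf19 zf44) (kf xf24 yf13 zf6) (kf xf13 yf10 zf10) (kf xf24 yf12 zf13) (kf xf23 yf11 zf1) (kf xf24 yf13 zf13) (kf xf22 yf20 zf14) (kf xf22 yf20 zf11) (kf xf24 yf13 zf23) (kf xf24 yf13 zf28) (kf xf7 yf42 zf21) (kf xf24 yf12 zf44) (kf xf20 yf46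 zf33) (kf xf14 yf38 zf0) (kf xf23 yf57 zf14) (kf xf22 yf9 zf22) (kf xf13 yf21 zf1) (kf xf7 yf42 zf24) (kf xf23 yf57 zf8) (kf xf23 yf57 zf9) (kf xf20 yf34 zf8) (kf xf23 yf57 zf11) (kf xf22 yf57 zf22) (kf xf7 yf42 zf27) (kf xf7 yf44 zf15) (kf xf24 yf13 zf39) (kf xf23 yf57 zf15) (kf xf23 yf0 zf25) (kf xf14 yf27 zf8) (kf xf14 yf27 zf5) (kf xf24 yf13 zf45) (kf xf7 yf42 zf30) (kf xf7 yf42 zf39) (kf xf23 yf57 zf17) (kf xf23 yf0 zf37) (kf xf24 yf13 zf54) (kf xf7 yf42 zf32) (kf xf22 yf22 zf61) (kf xf24 yf13 zf60) (kf xf23 yf34 zf4) (kf xf23 yf34 zf3) (kf xf7 yf42 zf34) (kf xf24 yf14 zf3)) (@D3.rec (fun _ => Pt) (kf xf24 yf14 zf4) (kf xf24 yf14 zf10) (kf xf24 yf14 zf6) (kf xf24 yf14 zf5) (kf xf7 yf42 zf37) (kf xf24 yf13 zf46) (kf xf19 yf35 zf21) (kf xf22 yf57 zf13) (kf xf9 yf49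 zf43) (kf xf24 yf14 zf20) (kf xf7 yf43 zf29) (kf xf24 yf14 zf23) (kf xf7 yf42 zf41) (kf xf19 yf28 zf46) (kf xf24 yf14 zf25) (kf xf17 yf17 zf11) (kf xf17 yf17 zf10) (kf xf24 yf14 zf33) (kf xf7 yf42 zf44) (kf xf20 yf25 zf38) (kf xf23 yf12 zf58) (kf xf13 yf4 zf27) (kf xf20 yf28 zf55) (kf xf20 yf28 zf54) (kf xf13 yf11 zf25) (kf xf23 yf12 zf59) (kf xf19 yf34 zf36) (kf xf23 yf12 zf60) (kf xf13 yf10 zf39) (kf xf17 yf50 zf19) (kf xf7 yf42 zf49) (kf xf13 yf9 zf27) (kf xf24 yf14 zf51) (kf xf17 yf49 zf31) (kf xf7 yf50 zf32) (kf xf7 yf43 zf23) (kf xf7 yf43 zf17) (kf xf7 yf43 zf19) (kf xf21 yf3 zf42) (kf xf7 yf43 zf39) (kf xf24 yf15 zf2) (kf xf7 yf43 zf30) (kf xf7 yf43 zf34) (kf xf19 yf17 zf22) (kf xf7 yf43 zf45) (kf xf7 yf43 zf46) (kf xf24 yf15 zf10) (kf xf7 yf43 zf42) (kf xf7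 yf43 zf43) (kf xf24 yf15 zf16) (kf xf7 yf43 zf49) (kf xf7 yf43 zf48) (kf xf9 yf48 zf38) (kf xf7 yf43 zf1) (kf xf21 yf3 zf43) (kf xf12 yf32 zf60) (kf xf12 yf37 zf39) (kf xf9 yf23 zf18) (kf xf12 yf33 zf10) (kf xf24 yf15 zf26) (kf xf7 yf43 zf4) (kf xf9 yf25 zf59)) (@D3.rec (fun _ => Pt) (kf xf13 yf10 zf56) (kf xf13 yf10 zf55) (kf xf24 yf15 zf32) (kf xf7 yf43 zf6) (kf xf17 yf53 zf46) (kf xf13 yf10 zf59) (kf xf22 yf4 zf32) (kf xf21 yf23 zf3) (kf xf20 yf51 zf41) (kf xf21 yf20 zf20) (kf xf18 yf25 zf15) (kf xf7 yf43 zf12) (kf xf13 yf1 zf37) (kf xf20 yf46 zf14) (kf xf10 yf18 zf46) (kf xf7 yf43 zf15) (kf xf12 yf33 zf8) (kf xf9 yf28 zf47) (kf xf21 yf45 zf35) (kf xf19 yf17 zf26) (kf xf24 yf15 zf40) (kf xf9 yf11 zf38) (kf xf11 yf45 zf10) (kf xf11 yf58 zf53) (kf xf11 yf58 zf51) (kf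 xf24 yf14 zf56) (kf xf24 yf15 zf48) (kf xf13 yf10 zf50) (kf xf13 yf3 zf22) (kf xf7 yf43 zf20) (kf xf9 yf28 zf44) (kf xf11 yf47 zf5) (kf xf24 yf14 zf54) (kf xf24 yf15 zf55) (kf xf11 yf45 zf3) (kf xf20 yf40 zf36) (kf xf20 yf40 zf41) (kf xf23 yf19 zf8) (kf xf24 yf14 zf59) (kf xf24 yf14 zf58) (kf xf24 yf16 zf9) (kf xf24 yf16 zf11) (kf xf7 yf43 zf26) (kf xf7 yf43 zf53) (kf xf13 yf9 zf47) (kf xf13 yf9 zf48) (kf xf19 yf17 zf21) (kf xf23 yf1 zf44) (kf xf19 yf19 zf3) (kf xf24 yf15 zf3) (kf xf19 yf17 zf23) (kf xf13 yf10 zf9) (kf xf13 yf20 zf28) (kf xf22 yf44 zf40) (kf xf24 yf16 zf24) (kf xf13 yf50 zf2) (kf xf24 yf15 zf53) (kf xf14 yf53 zf8) (kf xf14 yf53 zf6) (kf xf24 yf15 zf4) (kf xf20 yf15 zf27) (kf xf19 yf51 zf5)) (@D3.rec (fun _ => Pt) (kf xf23 yf59 zf20) (kf xf24 yf16 zf38)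 (kf xf7 yf43 zf35) (kf xf13 yf20 zf29) (kf xf13 yf10 zf30) (kf xf22 yf0 zf40) (kf xf24 yf14 zf61) (kf xf12 yf46 zf59) (kf xf24 yf15 zf0) (kf xf16 yf36 zf47) (kf xf23 yf41 zf45) (kf xf19 yf19 zf32) (kf xf7 yf43 zf41) (kf xf24 yf14 zf21) (kf xf24 yf15 zf11) (kf xf24 yf16 zf53) (kf xf14 yf52 zf30) (kf xf24 yf15 zf13) (kf xf22 yf43 zf20) (kf xf24 yf17 zf1) (kf xf24 yf15 zf9) (kf xf23 yf59 zf22) (kf xf7 yf43 zf44) (kf xf24 yf0 zf29) (kf xf24 yf15 zf5) (kf xf24 yf17 zf13) (kf xf24 yf15 zf7) (kf xf22 yf43 zf17) (kf xf19 yf36 zf0) (kf xf23 yf59 zf32) (kf xf24 yf15 zf15) (kf xf7 yf43 zf47) (kf xf19 yf36 zf26) (kf xf22 yf43 zf23) (kf xf10 yf24 zf10) (kf xf24 yf15 zf17) (kf xf22 yf43 zf22) (kf xf24 yf17 zf32) (kf xf24 yf17 zf38) (kf xf24 yf17 zf34) (kf xf24 yf17 zf33) (kf xf23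 yf39 zf33) (kf xf7 yf43 zf50) (kf xf24 yf17 zf49) (kf xf24 yf16 zf12) (kf xf24 yf15 zf20) (kf xf24 yf15 zf19) (kf xf7 yf43 zf60) (kf xf24 yf17 zf61) (kf xf7 yf43 zf54) (kf xf21 yf22 zf14) (kf xf11 yf45 zf18) (kf xf14 yf14 zf7) (kf xf11 yf43 zf48) (kf xf21 yf22 zf11) (kf xf24 yf18 zf5) (kf xf7 yf43 zf58) (kf xf9 yf25 zf38) (kf xf9 yf23 zf2) (kf xf21 yf30 zf57) (kf xf12 yf42 zf15) (kf xf24 yf17 zf58)) (@D3.rec (fun _ => Pt) (kf xf24 yf17 zf59) (kf xf19 yf12 zf55) (kf xf19 yf1 zf56) (kf xf7 yf43 zf61) (kf xf11 yf48 zf13) (kf xf22 yf36 zf19) (kf xf11 yf45 zf38) (kf xf22 yf36 zf18) (kf xf22 yf36 zf17) (kf xf18 yf26 zf61) (kf xf16 yf18 zf8) (kf xf16 yf17 zf61) (kf xf18 yf27 zf0) (kf xf22 yf36 zf20) (kf xf14 yf19 zf13) (kf xf19 yf15 zf28) (kf xf14 yf14 zf28) (kf xf14 yf14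 zf24) (kf xf19 yf1 zf60) (kf xf23 yf47 zf35) (kf xf7 yf44 zf7) (kf xf13 yf45 zf2) (kf xf7 yf44 zf11) (kf xf12 yf57 zf38) (kf xf17 yf32 zf16) (kf xf17 yf32 zf17) (kf xf22 yf7 zf55) (kf xf10 yf27 zf4) (kf xf24 yf18 zf33) (kf xf23 yf58 zf39) (kf xf24 yf18 zf35) (kf xf24 yf18 zf34) (kf xf15 yf32 zf49) (kf xf7 yf44 zf12) (kf xf22 yf35 zf59) (kf xf13 yf20 zf50) (kf xf22 yf36 zf0) (kf xf24 yf18 zf54) (kf xf7 yf45 zf26) (kf xf22 yf35 zf60) (kf xf13 yf35 zf30) (kf xf23 yf58 zf46) (kf xf23 yf0 zf38) (kf xf11 yf35 zf33) (kf xf24 yf18 zf60) (kf xf11 yf36 zf25) (kf xf9 yf7 zf33) (kf xf11 yf36 zf26) (kf xf21 yf51 zf34) (kf xf9 yf7 zf34) (kf xf20 yf2 zf1) (kf xf24 yf19 zf2) (kf xf7 yf44 zf25) (kf xf7 yf44 zf28) (kf xf7 yf44 zf27) (kf xf20 yf37 zf44) (kf xf7 yf44 zf26) (kf xf17 yf5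 zf54) (kf xf9 yf13 zf55) (kf xf24 yf19 zf5) (kf xf11 yf49 zf16) (kf xf21 yf42 zf45)) (@D3.rec (fun _ => Pt) (kf xf24 yf19 zf3) (kf xf12 yf23 zf20) (kf xf24 yf19 zf19) (kf xf7 yf44 zf29) (kf xf21 yf53 zf12) (kf xf21 yf53 zf11) (kf xf21 yf53 zf15) (kf xf19 yf33 zf20) (kf xf21 yf7 zf28) (kf xf19 yf40 zf32) (kf xf21 yf53 zf13) (kf xf20 yf25 zf31) (kf xf21 yf35 zf11) (kf xf21 yf22 zf33) (kf xf21 yf53 zf16) (kf xf21 yf53 zf19) (kf xf21 yf53 zf18) (kf xf24 yf19 zf39) (kf xf23 yf59 zf17) (kf xf7 yf44 zf37) (kf xf21 yf40 zf46) (kf xf12 yf42 zf24) (kf xf24 yf19 zf44) (kf xf21 yf22 zf13) (kf xf12 yf35 zf49) (kf xf17 yf13 zf48) (kf xf19 yf4 zf38) (kf xf23 yf58 zf47) (kf xf24 yf19 zf51) (kf xf9 yf27 zf6) (kf xf22 yf35 zf40) (kf xf22 yf37 zf32) (kf xf7 yf44 zf43) (kf xf14 yf11 zf19)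 (kf xf20 yf51 zf24) (kf xf23 yf58 zf48) (kf xf21 yf54 zf57) (kf xf19 yf15 zf1) (kf xf19 yf15 zf0) (kf xf23 yf58 zf49) (kf xf14 yf16 zf55) (kf xf21 yf41 zf32) (kf xf7 yf44 zf47) (kf xf19 yf18 zf42) (kf xf19 yf18 zf44) (kf xf23 yf58 zf40) (kf xf19 yf18 zf22) (kf xf23 yf58 zf41) (kf xf23 yf58 zf52) (kf xf23 yf58 zf53) (kf xf24 yf20 zf13) (kf xf23 yf58 zf44) (kf xf23 yf58 zf43) (kf xf22 yf16 zf3) (kf xf7 yf44 zf51) (kf xf22 yf36 zf1) (kf xf22 yf37 zf33) (kf xf19 yf23 zf30) (kf xf24 yf20 zf20) (kf xf12 yf57 zf54) (kf xf20 yf44 zf39) (kf xf24 yf20 zf18)) (@D3.rec (fun _ => Pt) (kf xf24 yf20 zf22) (kf xf7 yf44 zf58) (kf xf10 yf31 zf18) (kf xf10 yf35 zf7) (kf xf24 yf2 zf28) (kf xf7 yf44 zf60) (kf xf23 yf58 zf42) (kf xf24 yf20 zf27) (kf xf7 yf45 zf50) (kf xf24 yf20 zf32) (kf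 xf7 yf45 zf0) (kf xf24 yf2 zf35) (kf xf7 yf45 zf2) (kf xf19 yf23 zf31) (kf xf23 yf59 zf0) (kf xf13 yf20 zf41) (kf xf24 yf20 zf44) (kf xf14 yf13 zf61) (kf xf23 yf58 zf59) (kf xf23 yf59 zf2) (kf xf23 yf59 zf3) (kf xf24 yf20 zf56) (kf xf13 yf20 zf42) (kf xf10 yf37 zf54) (kf xf23 yf58 zf61) (kf xf7 yf45 zf7) (kf xf19 yf23 zf35) (kf xf23 yf58 zf60) (kf xf15 yf44 zf49) (kf xf21 yf45 zf58) (kf xf21 yf56 zf23) (kf xf23 yf59 zf4) (kf xf7 yf45 zf11) (kf xf23 yf59 zf9) (kf xf23 yf59 zf10) (kf xf24 yf21 zf8) (kf xf23 yf59 zf6) (kf xf23 yf59 zf7) (kf xf15 yf43 zf16) (kf xf17 yf53 zf50) (kf xf19 yf54 zf7) (kf xf24 yf21 zf11) (kf xf11 yf4 zf5) (kf xf7 yf45 zf14) (kf xf23 yf59 zf16) (kf xf14 yf29 zf42) (kf xf18 yf18 zf43) (kf xf7 yf45 zf15) (kf xf7 yf46 zf38) (kf xf7 yf46 zf41) (kf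 xf7 yf45 zf29) (kf xf21 yf52 zf35) (kf xf21 yf41 zf48) (kf xf21 yf52 zf31) (kf xf11 yf46 zf25) (kf xf21 yf52 zf36) (kf xf22 yf58 zf53) (kf xf11 yf26 zf23) (kf xf21 yf12 zf22) (kf xf21 yf20 zf17) (kf xf21 yf52 zf32) (kf xf24 yf13 zf52)) (@D3.rec (fun _ => Pt) (kf xf14 yf31 zf32) (kf xf21 yf52 zf42) (kf xf21 yf52 zf43) (kf xf23 yf34 zf19) (kf xf21 yf52 zf38) (kf xf21 yf52 zf39) (kf xf24 yf21 zf44) (kf xf21 yf52 zf46) (kf xf21 yf52 zf45) (kf xf24 yf21 zf20) (kf xf21 yf53 zf4) (kf xf10 yf36 zf35) (kf xf13 yf21 zf53) (kf xf7 yf45 zf33) (kf xf14 yf48 zf28) (kf xf7 yf45 zf35) (kf xf19 yf8 zf0) (kf xf23 yf58 zf17) (kf xf12 yf48 zf6) (kf xf21 yf32 zf30) (kf xf19 yf17 zf7) (kf xf19 yf17 zf43) (kf xf22 yf58 zf20) (kf xf23 yf56 zf60) (kf xf23 yf57 zf0) (kf xf13 yf19 zf7) (kf xf13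 yf21 zf54) (kf xf19 yf51 zf44) (kf xf19 yf27 zf16) (kf xf16 yf47 zf55) (kf xf13 yf21 zf22) (kf xf24 yf22 zf10) (kf xf19 yf2 zf40) (kf xf23 yf12 zf45) (kf xf7 yf45 zf48) (kf xf23 yf12 zf47) (kf xf13 yf21 zf20) (kf xf24 yf20 zf28) (kf xf14 yf42 zf13) (kf xf24 yf22 zf26) (kf xf14 yf42 zf4) (kf xf24 yf20 zf25) (kf xf23 yf35 zf24) (kf xf23 yf59 zf21) (kf xf18 yf2 zf48) (kf xf24 yf22 zf37) (kf xf14 yf42 zf24) (kf xf7 yf45 zf54) (kf xf19 yf48 zf28) (kf xf22 yf37 zf7) (kf xf21 yf24 zf28) (kf xf22 yf37 zf8) (kf xf19 yf8 zf32) (kf xf13 yf22 zf2) (kf xf13 yf22 zf1) (kf xf16 yf3 zf12) (kf xf7 yf45 zf57) (kf xf10 yf39 zf47) (kf xf11 yf57 zf1) (kf xf13 yf12 zf34) (kf xf7 yf46 zf0) (kf xf13 yf7 zf61)) (@D3.rec (fun _ => Pt) (kf xf13 yf8 zf0) (kf xf13 yf12 zf36) (kf xf13 yf12 zf37)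 (kf xf11 yf52 zf57) (kf xf24 yf22 zf51) (kf xf22 yf58 zf55) (kf xf23 yf33 zf53) (kf xf21 yf54 zf27) (kf xf10 yf33 zf26) (kf xf10 yf33 zf25) (kf xf24 yf22 zf58) (kf xf7 yf46 zf9) (kf xf14 yf23 zf4) (kf xf13 yf55 zf41) (kf xf13 yf55 zf37) (kf xf16 yf10 zf22) (kf xf16 yf10 zf21) (kf xf18 yf19 zf15) (kf xf7 yf46 zf13) (kf xf13 yf2 zf20) (kf xf21 yf2 zf11) (kf xf19 yf8 zf30) (kf xf21 yf56 zf21) (kf xf19 yf8 zf29) (kf xf10 yf37 zf61) (kf xf22 yf57 zf21) (kf xf24 yf23 zf11) (kf xf7 yf46 zf16) (kf xf10 yf33 zf31) (kf xf10 yf30 zf31) (kf xf10 yf40 zf2) (kf xf10 yf40 zf5) (kf xf10 yf30 zf60) (kf xf10 yf33 zf38) (kf xf23 yf59 zf27) (kf xf23 yf59 zf26) (kf xf24 yf23 zf22) (kf xf7 yf46 zf23) (kf xf23 yf59 zf33) (kf xf22 yf39 zf44) (kf xf23 yf58 zf33) (kf xf23 yf59 zf30) (kf xf23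 yf59 zf31) (kf xf22 yf39 zf33) (kf xf22 yf39 zf32) (kf xf24 yf23 zf30) (kf xf7 yf46 zf26) (kf xf14 yf48 zf55) (kf xf20 yf24 zf43) (kf xf23 yf59 zf38) (kf xf24 yf23 zf38) (kf xf24 yf23 zf41) (kf xf7 yf46 zf29) (kf xf22 yf39 zf16) (kf xf23 yf59 zf34) (kf xf23 yf59 zf35) (kf xf24 yf23 zf49) (kf xf24 yf23 zf52) (kf xf7 yf46 zf31) (kf xf7 yf46 zf34) (kf xf7 yf46 zf33) (kf xf24 yf23 zf56)) (@D3.rec (fun _ => Pt) (kf xf24 yf23 zf61) (kf xf24 yf24 zf1) (kf xf24 yf24 zf2) (kf xf7 yf46 zf32) (kf xf7 yf50 zf11) (kf xf24 yf23 zf53) (kf xf23 yf25 zf8) (kf xf24 yf24 zf10) (kf xf13 yf57 zf49) (kf xf21 yf29 zf55) (kf xf7 yf50 zf8) (kf xf9 yf19 zf41) (kf xf13 yf57 zf48) (kf xf22 yf55 zf15) (kf xf20 yf24 zf40) (kf xf7 yf46 zf37) (kf xf22 yf39 zf14) (kf xf22 yf39 zf13) (kf xf10 yf36 zf30)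 (kf xf13 yf9 zf43) (kf xf23 yf59 zf43) (kf xf10 yf37 zf56) (kf xf19 yf56 zf45) (kf xf23 yf59 zf42) (kf xf23 yf46 zf6) (kf xf19 yf8 zf34) (kf xf24 yf21 zf19) (kf xf7 yf46 zf61) (kf xf22 yf58 zf42) (kf xf22 yf58 zf43) (kf xf22 yf58 zf44) (kf xf24 yf24 zf44) (kf xf13 yf22 zf26) (kf xf22 yf46 zf46) (kf xf22 yf42 zf47) (kf xf24 yf24 zf46) (kf xf14 yf1 zf33) (kf xf14 yf44 zf2) (kf xf23 yf45 zf58) (kf xf22 yf24 zf20) (kf xf24 yf24 zf56) (kf xf7 yf46 zf48) (kf xf23 yf45 zf54) (kf xf23 yf45 zf55) (kf xf23 yf45 zf56) (kf xf24 yf25 zf1) (kf xf16 yf55 zf30) (kf xf24 yf25 zf5) (kf xf22 yf58 zf50) (kf xf22 yf58 zf49) (kf xf7 yf46 zf52) (kf xf7 yf46 zf55) (kf xf22 yf38 zf23) (kf xf14 yf17 zf41) (kf xf22 yf26 zf15) (kf xf20 yf49 zf23) (kf xf24 yf25 zf17) (kf xf23 yf46 zf0) (kf xf22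 yf37 zf44) (kf xf24 yf9 zf57) (kf xf22 yf38 zf22) (kf xf22 yf38 zf21)) (@D3.rec (fun _ => Pt) (kf xf7 yf46 zf58) (kf xf22 yf40 zf57) (kf xf22 yf26 zf14) (kf xf23 yf46 zf2) (kf xf22 yf41 zf8) (kf xf24 yf25 zf31) (kf xf24 yf24 zf35) (kf xf24 yf24 zf36) (kf xf24 yf24 zf37) (kf xf19 yf43 zf19) (kf xf24 yf25 zf41) (kf xf13 yf10 zf28) (kf xf13 yf10 zf29) (kf xf13 yf11 zf40) (kf xf14 yf41 zf24) (kf xf13 yf11 zf42) (kf xf13 yf11 zf43) (kf xf13 yf11 zf44) (kf xf14 yf41 zf23) (kf xf13 yf10 zf35) (kf xf13 yf11 zf28) (kf xf13 yf11 zf29) (kf xf24 yf25 zf58) (kf xf14 yf41 zf18) (kf xf14 yf41 zf14) (kf xf13 yf3 zf41) (kf xf13 yf3 zf42) (kf xf24 yf26 zf1) (kf xf22 yf50 zf46) (kf xf22 yf50 zf47) (kf xf22 yf50 zf45) (kf xf22 yf50 zf49) (kf xf21 yf54 zf12) (kf xf22 yf50 zf50) (kf xf24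 yf26 zf14) (kf xf23 yf59 zf49) (kf xf23 yf59 zf48) (kf xf7 yf47 zf14) (kf xf12 yf51 zf16) (kf xf12 yf51 zf20) (kf xf17 yf28 zf36) (kf xf24 yf0 zf14) (kf xf10 yf32 zf9) (kf xf9 yf22 zf41) (kf xf24 yf0 zf15) (kf xf24 yf26 zf30) (kf xf10 yf41 zf40) (kf xf24 yf0 zf16) (kf xf13 yf17 zf38) (kf xf24 yf26 zf35) (kf xf24 yf0 zf18) (kf xf24 yf0 zf19) (kf xf24 yf0 zf20) (kf xf24 yf0 zf21) (kf xf24 yf26 zf49) (kf xf10 yf39 zf33) (kf xf24 yf26 zf25) (kf xf10 yf21 zf55) (kf xf7 yf47 zf23) (kf xf13 yf53 zf35) (kf xf14 yf42 zf50) (kf xf9 yf16 zf13)) (@D3.rec (fun _ => Pt) (kf xf9 yf22 zf23) (kf xf24 yf0 zf2) (kf xf24 yf0 zf3) (kf xf24 yf27 zf2) (kf xf14 yf38 zf40) (kf xf24 yf27 zf6) (kf xf24 yf0 zf0) (kf xf23 yf59 zf61) (kf xf7 yf47 zf29) (kf xf10 yf41 zf0) (kf xf23 yf59 zf59) (kf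 xf13 yf17 zf59) (kf xf24 yf27 zf23) (kf xf14 yf38 zf38) (kf xf24 yf27 zf29) (kf xf24 yf0 zf5) (kf xf23 yf49 zf33) (kf xf7 yf47 zf33) (kf xf24 yf0 zf22) (kf xf24 yf0 zf23) (kf xf20 yf24 zf41) (kf xf24 yf27 zf41) (kf xf7 yf47 zf35) (kf xf24 yf0 zf12) (kf xf14 yf38 zf46) (kf xf15 yf45 zf54) (kf xf24 yf27 zf51) (kf xf24 yf0 zf10) (kf xf23 yf35 zf22) (kf xf24 yf27 zf56) (kf xf14 yf43 zf57) (kf xf14 yf43 zf56) (kf xf15 yf46 zf15) (kf xf7 yf47 zf38) (kf xf13 yf17 zf32) (kf xf14 yf29 zf7) (kf xf13 yf22 zf4) (kf xf14 yf19 zf57) (kf xf13 yf21 zf19) (kf xf24 yf28 zf0) (kf xf14 yf27 zf33) (kf xf14 yf27 zf34) (kf xf14 yf27 zf29) (kf xf13 yf22 zf56) (kf xf23 yf24 zf14) (kf xf14 yf3 zf25) (kf xf14 yf3 zf24) (kf xf11 yf15 zf17) (kf xf24 yf28 zf6) (kf xf13 yf22 zf49) (kf xf14 yf41 zf60)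 (kf xf13 yf22 zf50) (kf xf14 yf22 zf9) (kf xf18 yf47 zf61) (kf xf18 yf48 zf1) (kf xf17 yf55 zf7) (kf xf16 yf34 zf60) (kf xf14 yf44 zf45) (kf xf23 yf6 zf17) (kf xf23 yf6 zf18) (kf xf18 yf59 zf3) (kf xf24 yf28 zf23)) (@D3.rec (fun _ => Pt) (kf xf23 yf6 zf0) (kf xf22 yf57 zf57) (kf xf13 yf52 zf7) (kf xf24 yf28 zf25) (kf xf23 yf6 zf9) (kf xf18 yf15 zf57) (kf xf10 yf12 zf59) (kf xf10 yf13 zf16) (kf xf16 yf20 zf17) (kf xf7 yf48 zf2) (kf xf11 yf22 zf6) (kf xf14 yf25 zf38) (kf xf20 yf52 zf3) (kf xf22 yf51 zf12) (kf xf14 yf30 zf21) (kf xf23 yf59 zf50) (kf xf10 yf32 zf6) (kf xf22 yf18 zf25) (kf xf23 yf59 zf51) (kf xf13 yf23 zf37) (kf xf24 yf28 zf42) (kf xf23 yf59 zf53) (kf xf24 yf28 zf46) (kf xf23 yf59 zf54) (kf xf16 yf46 zf41) (kf xf23 yf59 zf55) (kf xf23 yf59 zf56) (kf xf24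 yf28 zf35) (kf xf10 yf40 zf23) (kf xf24 yf29 zf2) (kf xf7 yf48 zf11) (kf xf13 yf18 zf22) (kf xf24 yf29 zf9) (kf xf7 yf48 zf13) (kf xf17 yf53 zf8) (kf xf24 yf0 zf7) (kf xf24 yf0 zf8) (kf xf17 yf52 zf59) (kf xf24 yf29 zf18) (kf xf7 yf48 zf16) (kf xf10 yf39 zf41) (kf xf22 yf34 zf34) (kf xf24 yf29 zf24) (kf xf10 yf41 zf14) (kf xf10 yf39 zf40) (kf xf14 yf27 zf2) (kf xf24 yf0 zf28) (kf xf24 yf0 zf27) (kf xf24 yf29 zf33) (kf xf7 yf48 zf19) (kf xf10 yf7 zf49) (kf xf20 yf59 zf34) (kf xf23 yf4 zf24) (kf xf14 yf44 zf26) (kf xf13 yf23 zf24) (kf xf13 yf23 zf25) (kf xf14 yf42 zf31) (kf xf14 yf42 zf30) (kf xf22 yf0 zf41) (kf xf14 yf13 zf35) (kf xf22 yf0 zf44) (kf xf24 yf29 zf48)) (@D3.rec (fun _ => Pt) (kf xf13 yf29 zf55) (kf xf22 yf46 zf48) (kf xf14 yf40 zf37) (kf xf24 yf29 zf55)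 (kf xf13 yf13 zf14) (kf xf14 yf14 zf61) (kf xf22 yf46 zf50) (kf xf24 yf29 zf60) (kf xf23 yf46 zf12) (kf xf23 yf46 zf11) (kf xf24 yf30 zf7) (kf xf7 yf48 zf33) (kf xf23 yf46 zf8) (kf xf13 yf12 zf44) (kf xf23 yf46 zf9) (kf xf24 yf30 zf17) (kf xf17 yf15 zf5) (kf xf24 yf30 zf23) (kf xf22 yf46 zf53) (kf xf22 yf46 zf52) (kf xf7 yf48 zf37) (kf xf7 yf50 zf24) (kf xf16 yf24 zf7) (kf xf16 yf26 zf46) (kf xf12 yf6 zf53) (kf xf20 yf52 zf1) (kf xf14 yf43 zf53) (kf xf22 yf42 zf40) (kf xf22 yf46 zf34) (kf xf24 yf30 zf37) (kf xf23 yf19 zf44) (kf xf23 yf19 zf43) (kf xf7 yf48 zf44) (kf xf21 yf21 zf7) (kf xf12 yf52 zf22) (kf xf21 yf27 zf49) (kf xf21 yf27 zf50) (kf xf21 yf27 zf51) (kf xf21 yf21 zf41) (kf xf21 yf21 zf42) (kf xf13 yf15 zf60) (kf xf13 yf15 zf61) (kf xf13 yf16 zf0) (kf xf22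 yf39 zf8) (kf xf7 yf48 zf51) (kf xf14 yf42 zf57) (kf xf13 yf35 zf35) (kf xf22 yf30 zf7) (kf xf13 yf43 zf52) (kf xf22 yf30 zf8) (kf xf24 yf31 zf0) (kf xf13 yf43 zf58) (kf xf22 yf30 zf58) (kf xf22 yf30 zf57) (kf xf21 yf53 zf45) (kf xf7 yf48 zf60) (kf xf13 yf44 zf4) (kf xf22 yf42 zf0) (kf xf22 yf42 zf2) (kf xf14 yf20 zf35) (kf xf13 yf51 zf24) (kf xf13 yf50 zf22)) (@D3.rec (fun _ => Pt) (kf xf13 yf51 zf25) (kf xf24 yf31 zf16) (kf xf13 yf51 zf39) (kf xf13 yf51 zf38) (kf xf7 yf49 zf4) (kf xf22 yf42 zf4) (kf xf14 yf55 zf40) (kf xf14 yf56 zf34) (kf xf13 yf51 zf33) (kf xf12 yf7 zf55) (kf xf10 yf16 zf24) (kf xf13 yf51 zf34) (kf xf13 yf51 zf30) (kf xf13 yf51 zf29) (kf xf7 yf49 zf10) (kf xf13 yf42 zf49) (kf xf22 yf29 zf20) (kf xf20 yf25 zf41) (kf xf13 yf47 zf60) (kf xf24 yf31 zf30)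 (kf xf21 yf40 zf61) (kf xf24 yf31 zf38) (kf xf24 yf31 zf29) (kf xf13 yf47 zf38) (kf xf7 yf49 zf15) (kf xf21 yf40 zf59) (kf xf21 yf40 zf60) (kf xf21 yf40 zf58) (kf xf24 yf31 zf49) (kf xf19 yf56 zf27) (kf xf7 yf49 zf17) (kf xf23 yf46 zf24) (kf xf19 yf47 zf33) (kf xf23 yf46 zf25) (kf xf8 yf3 zf17) (kf xf23 yf19 zf59) (kf xf21 yf30 zf42) (kf xf15 yf12 zf52) (kf xf14 yf55 zf32) (kf xf14 yf55 zf33) (kf xf14 yf48 zf60) (kf xf14 yf48 zf61) (kf xf14 yf48 zf58) (kf xf14 yf48 zf59) (kf xf14 yf54 zf9) (kf xf14 yf49 zf2) (kf xf14 yf49 zf1) (kf xf20 yf39 zf20) (kf xf7 yf49 zf25) (kf xf7 yf50 zf9) (kf xf7 yf50 zf6) (kf xf21 yf55 zf12) (kf xf7 yf49 zf29) (kf xf7 yf50 zf19) (kf xf24 yf32 zf11) (kf xf7 yf50 zf31) (kf xf24 yf32 zf15) (kf xf7 yf50 zf35) (kf xf11 yf51 zf34) (kf xf24 yf32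 zf7) (kf xf7 yf51 zf0) (kf xf7 yf51 zf2)) (@D3.rec (fun _ => Pt) (kf xf16 yf11 zf22) (kf xf7 yf50 zf48) (kf xf16 yf11 zf23) (kf xf7 yf50 zf55) (kf xf7 yf50 zf56) (kf xf14 yf50 zf49) (kf xf11 yf3 zf51) (kf xf23 yf43 zf51) (kf xf7 yf49 zf46) (kf xf7 yf49 zf45) (kf xf7 yf49 zf44) (kf xf22 yf19 zf8) (kf xf24 yf32 zf23) (kf xf22 yf45 zf55) (kf xf24 yf32 zf22) (kf xf16 yf2 zf60) (kf xf14 yf49 zf54) (kf xf16 yf4 zf11) (kf xf7 yf49 zf50) (kf xf16 yf2 zf49) (kf xf14 yf55 zf42) (kf xf14 yf55 zf39) (kf xf14 yf51 zf0) (kf xf14 yf55 zf41) (kf xf14 yf55 zf43) (kf xf14 yf55 zf44) (kf xf14 yf55 zf45) (kf xf14 yf49 zf40) (kf xf24 yf32 zf41) (kf xf14 yf55 zf47) (kf xf14 yf49 zf59) (kf xf14 yf49 zf61) (kf xf20 yf6 zf47) (kf xf15 yf3 zf58) (kf xf11 yf24 zf35) (kf xf17 yf29 zf61) (kf xf17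 yf29 zf60) (kf xf20 yf52 zf15) (kf xf7 yf50 zf2) (kf xf13 yf57 zf12) (kf xf11 yf52 zf11) (kf xf11 yf17 zf5) (kf xf10 yf32 zf44) (kf xf16 yf2 zf37) (kf xf24 yf27 zf34) (kf xf23 yf42 zf22) (kf xf24 yf32 zf5) (kf xf24 yf32 zf60) (kf xf13 yf57 zf32) (kf xf24 yf22 zf14) (kf xf18 yf37 zf54) (kf xf23 yf13 zf27) (kf xf23 yf30 zf54) (kf xf23 yf31 zf4) (kf xf22 yf45 zf4) (kf xf24 yf24 zf4) (kf xf24 yf33 zf9) (kf xf18 yf17 zf46) (kf xf24 yf33 zf12) (kf xf24 yf33 zf15) (kf xf7 yf50 zf12) (kf xf7 yf50 zf39)) (@D3.rec (fun _ => Pt) (kf xf14 yf19 zf21) (kf xf11 yf4 zf1) (kf xf24 yf3 zf42) (kf xf17 yf38 zf25) (kf xf23 yf29 zf14) (kf xf24 yf3 zf46) (kf xf14 yf56 zf32) (kf xf14 yf49 zf36) (kf xf22 yf22 zf12) (kf xf17 yf9 zf0) (kf xf24 yf33 zf28) (kf xf11 yf51 zf11) (kf xf15 yf25 zf34)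 (kf xf12 yf55 zf43) (kf xf22 yf5 zf61) (kf xf22 yf55 zf22) (kf xf7 yf50 zf20) (kf xf14 yf49 zf44) (kf xf22 yf55 zf16) (kf xf24 yf30 zf29) (kf xf22 yf55 zf17) (kf xf22 yf55 zf18) (kf xf22 yf55 zf19) (kf xf24 yf33 zf47) (kf xf12 yf8 zf4) (kf xf12 yf7 zf56) (kf xf22 yf43 zf19) (kf xf22 yf55 zf21) (kf xf24 yf33 zf54) (kf xf24 yf32 zf10) (kf xf24 yf32 zf9) (kf xf24 yf33 zf61) (kf xf7 yf50 zf26) (kf xf23 yf43 zf37) (kf xf23 yf43 zf52) (kf xf24 yf34 zf6) (kf xf11 yf50 zf46) (kf xf17 yf48 zf7) (kf xf24 yf34 zf8) (kf xf24 yf32 zf14) (kf xf24 yf32 zf13) (kf xf7 yf50 zf30) (kf xf24 yf24 zf13) (kf xf24 yf32 zf12) (kf xf19 yf36 zf55) (kf xf24 yf14 zf52) (kf xf24 yf34 zf17) (kf xf19 yf11 zf2) (kf xf19 yf10 zf61) (kf xf7 yf50 zf33) (kf xf19 yf4 zf0) (kf xf23 yf58 zf50) (kf xf23 yf12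 zf49) (kf xf20 yf54 zf27) (kf xf24 yf34 zf20) (kf xf23 yf12 zf54) (kf xf7 yf50 zf36) (kf xf24 yf33 zf16) (kf xf24 yf32 zf16) (kf xf24 yf21 zf14) (kf xf14 yf1 zf46) (kf xf14 yf1 zf47)) (@D3.rec (fun _ => Pt) (kf xf14 yf1 zf45) (kf xf21 yf59 zf53) (kf xf14 yf0 zf51) (kf xf15 yf18 zf22) (kf xf15 yf18 zf21) (kf xf13 yf15 zf38) (kf xf13 yf15 zf33) (kf xf14 yf0 zf52) (kf xf24 yf34 zf28) (kf xf14 yf51 zf47) (kf xf24 yf22 zf36) (kf xf8 yf11 zf39) (kf xf16 yf11 zf21) (kf xf15 yf47 zf29) (kf xf13 yf6 zf11) (kf xf13 yf5 zf55) (kf xf13 yf5 zf35) (kf xf19 yf19 zf10) (kf xf23 yf54 zf36) (kf xf24 yf1 zf38) (kf xf24 yf34 zf34) (kf xf13 yf8 zf25) (kf xf13 yf8 zf28) (kf xf24 yf34 zf41) (kf xf13 yf56 zf48) (kf xf7 yf52 zf39) (kf xf14 yf1 zf48) (kf xf15 yf18 zf23) (kf xf14 yf38 zf14) (kf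 xf22 yf22 zf20) (kf xf14 yf51 zf38) (kf xf19 yf8 zf28) (kf xf24 yf22 zf13) (kf xf14 yf2 zf59) (kf xf23 yf27 zf1) (kf xf7 yf51 zf1) (kf xf20 yf53 zf47) (kf xf24 yf34 zf48) (kf xf24 yf22 zf32) (kf xf24 yf32 zf18) (kf xf24 yf34 zf53) (kf xf7 yf51 zf3) (kf xf14 yf3 zf7) (kf xf24 yf34 zf54) (kf xf13 yf42 zf24) (kf xf24 yf34 zf59) (kf xf14 yf25 zf20) (kf xf14 yf25 zf19) (kf xf7 yf51 zf11) (kf xf13 yf42 zf26) (kf xf24 yf35 zf3) (kf xf14 yf54 zf5) (kf xf14 yf54 zf6) (kf xf11 yf26 zf45) (kf xf11 yf26 zf44) (kf xf14 yf39 zf47) (kf xf7 yf51 zf15) (kf xf14 yf19 zf5) (kf xf14 yf45 zf42) (kf xf14 yf45 zf43) (kf xf14 yf45 zf40) (kf xf14 yf45 zf41)) (@D3.rec (fun _ => Pt) (kf xf14 yf52 zf59) (kf xf14 yf45 zf46) (kf xf14 yf45 zf45) (kf xf24 yf35 zf20) (kf xf7 yf51 zf18) (kf xf7 yf52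 zf5) (kf xf7 yf52 zf6) (kf xf7 yf52 zf7) (kf xf7 yf52 zf1) (kf xf7 yf52 zf2) (kf xf7 yf52 zf3) (kf xf23 yf29 zf22) (kf xf7 yf52 zf10) (kf xf24 yf35 zf30) (kf xf7 yf51 zf22) (kf xf7 yf51 zf36) (kf xf24 yf35 zf34) (kf xf7 yf52 zf27) (kf xf15 yf22 zf52) (kf xf7 yf52 zf29) (kf xf24 yf35 zf39) (kf xf7 yf51 zf27) (kf xf24 yf35 zf31) (kf xf7 yf52 zf45) (kf xf24 yf35 zf45) (kf xf7 yf52 zf41) (kf xf24 yf35 zf48) (kf xf7 yf52 zf56) (kf xf14 yf15 zf30) (kf xf14 yf15 zf29) (kf xf7 yf51 zf32) (kf xf22 yf20 zf32) (kf xf14 yf54 zf14) (kf xf7 yf51 zf48) (kf xf14 yf54 zf11) (kf xf14 yf55 zf0) (kf xf14 yf47 zf7) (kf xf14 yf54 zf15) (kf xf14 yf54 zf16) (kf xf14 yf54 zf17) (kf xf14 yf46 zf27) (kf xf23 yf24 zf29) (kf xf14 yf54 zf19) (kf xf14 yf29 zf27) (kf xf14 yf47 zf17) (kf xf7 yf51 zf47)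 (kf xf24 yf36 zf5) (kf xf7 yf51 zf46) (kf xf21 yf55 zf21) (kf xf21 yf19 zf11) (kf xf24 yf35 zf55) (kf xf24 yf36 zf10) (kf xf7 yf51 zf49) (kf xf15 yf42 zf0) (kf xf14 yf46 zf16) (kf xf12 yf18 zf52) (kf xf21 yf41 zf7) (kf xf7 yf51 zf53) (kf xf17 yf55 zf40) (kf xf14 yf46 zf30) (kf xf8 yf0 zf50) (kf xf14 yf46 zf31)) (@D3.rec (fun _ => Pt) (kf xf14 yf20 zf12) (kf xf8 yf0 zf42) (kf xf11 yf12 zf8) (kf xf16 yf53 zf46) (kf xf24 yf36 zf21) (kf xf7 yf51 zf58) (kf xf12 yf49 zf35) (kf xf12 yf49 zf37) (kf xf11 yf11 zf58) (kf xf12 yf49 zf32) (kf xf12 yf49 zf34) (kf xf16 yf46 zf17) (kf xf10 yf49 zf15) (kf xf12 yf49 zf39) (kf xf24 yf36 zf35) (kf xf7 yf51 zf61) (kf xf13 yf22 zf8) (kf xf13 yf22 zf7) (kf xf17 yf4 zf1) (kf xf23 yf31 zf18) (kf xf12 yf30 zf23) (kf xf20 yf9 zf45) (kf xf24 yf35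 zf23) (kf xf23 yf30 zf29) (kf xf20 yf43 zf18) (kf xf10 yf57 zf48) (kf xf14 yf7 zf7) (kf xf12 yf23 zf2) (kf xf9 yf43 zf51) (kf xf12 yf5 zf52) (kf xf9 yf43 zf42) (kf xf24 yf36 zf46) (kf xf24 yf35 zf22) (kf xf17 yf12 zf22) (kf xf8 yf9 zf2) (kf xf15 yf53 zf34) (kf xf14 yf7 zf31) (kf xf14 yf56 zf27) (kf xf7 yf52 zf8) (kf xf14 yf21 zf41) (kf xf20 yf43 zf20) (kf xf24 yf36 zf54) (kf xf24 yf35 zf25) (kf xf24 yf35 zf27) (kf xf24 yf35 zf26) (kf xf24 yf37 zf1) (kf xf24 yf37 zf4) (kf xf7 yf52 zf11) (kf xf7 yf52 zf33) (kf xf14 yf46 zf5) (kf xf23 yf1 zf15) (kf xf24 yf37 zf10) (kf xf14 yf51 zf39) (kf xf14 yf51 zf36) (kf xf15 yf52 zf44) (kf xf15 yf53 zf30) (kf xf15 yf53 zf29) (kf xf7 yf52 zf17) (kf xf14 yf55 zf3) (kf xf15 yf53 zf27) (kf xf15 yf53 zf28) (kf xf8 yf37 zf49)) (@D3.rec (fun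 _ => Pt) (kf xf14 yf46 zf22) (kf xf14 yf55 zf2) (kf xf8 yf7 zf3) (kf xf15 yf52 zf46) (kf xf24 yf35 zf33) (kf xf24 yf35 zf32) (kf xf7 yf52 zf23) (kf xf16 yf5 zf41) (kf xf14 yf1 zf49) (kf xf15 yf23 zf1) (kf xf24 yf35 zf36) (kf xf24 yf35 zf35) (kf xf16 yf5 zf40) (kf xf7 yf52 zf26) (kf xf20 yf41 zf36) (kf xf24 yf37 zf36) (kf xf23 yf56 zf32) (kf xf20 yf2 zf12) (kf xf20 yf43 zf48) (kf xf20 yf43 zf47) (kf xf24 yf0 zf44) (kf xf7 yf52 zf30) (kf xf14 yf27 zf56) (kf xf24 yf37 zf5) (kf xf24 yf35 zf42) (kf xf24 yf35 zf41) (kf xf13 yf8 zf54) (kf xf13 yf8 zf55) (kf xf13 yf8 zf59) (kf xf24 yf37 zf55) (kf xf11 yf4 zf13) (kf xf23 yf8 zf33) (kf xf23 yf8 zf34) (kf xf23 yf8 zf35) (kf xf20 yf50 zf10) (kf xf16 yf4 zf6) (kf xf14 yf50 zf53) (kf xf24 yf38 zf3) (kf xf14 yf48 zf30) (kf xf14 yf50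 zf52) (kf xf24 yf27 zf46) (kf xf22 yf52 zf55) (kf xf24 yf38 zf10) (kf xf24 yf35 zf44) (kf xf24 yf35 zf43) (kf xf7 yf52 zf42) (kf xf24 yf10 zf21) (kf xf14 yf48 zf9) (kf xf14 yf29 zf30) (kf xf24 yf38 zf20) (kf xf13 yf54 zf8) (kf xf14 yf55 zf20) (kf xf15 yf53 zf1) (kf xf24 yf38 zf23) (kf xf24 yf27 zf4) (kf xf24 yf35 zf47) (kf xf24 yf38 zf31) (kf xf7 yf52 zf46) (kf xf13 yf8 zf60) (kf xf14 yf13 zf27) (kf xf23 yf11 zf5) (kf xf23 yf11 zf2)) (@D3.rec (fun _ => Pt) (kf xf10 yf34 zf49) (kf xf24 yf38 zf38) (kf xf14 yf12 zf59) (kf xf14 yf27 zf17) (kf xf13 yf50 zf5) (kf xf24 yf38 zf41) (kf xf22 yf13 zf0) (kf xf24 yf35 zf49) (kf xf24 yf35 zf50) (kf xf19 yf31 zf17) (kf xf19 yf31 zf4) (kf xf21 yf0 zf51) (kf xf13 yf22 zf38) (kf xf15 yf41 zf5) (kf xf21 yf39 zf26) (kf xf24 yf0 zf47) (kf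 xf24 yf0 zf46) (kf xf7 yf52 zf60) (kf xf13 yf34 zf6) (kf xf13 yf34 zf8) (kf xf19 yf7 zf25) (kf xf13 yf32 zf48) (kf xf13 yf32 zf47) (kf xf13 yf34 zf10) (kf xf15 yf39 zf29) (kf xf14 yf28 zf9) (kf xf14 yf28 zf8) (kf xf7 yf53 zf2) (kf xf13 yf32 zf30) (kf xf20 yf44 zf48) (kf xf14 yf34 zf16) (kf xf13 yf9 zf10) (kf xf13 yf9 zf11) (kf xf9 yf17 zf9) (kf xf13 yf9 zf9) (kf xf11 yf20 zf16) (kf xf20 yf46 zf21) (kf xf13 yf7 zf52) (kf xf13 yf9 zf18) (kf xf11 yf50 zf59) (kf xf24 yf39 zf18) (kf xf21 yf47 zf38) (kf xf13 yf9 zf23) (kf xf24 yf39 zf22) (kf xf24 yf39 zf24) (kf xf11 yf58 zf23) (kf xf9 yf9 zf56) (kf xf13 yf8 zf19) (kf xf11 yf59 zf3) (kf xf13 yf8 zf16) (kf xf13 yf8 zf17) (kf xf24 yf39 zf30) (kf xf7 yf53 zf21) (kf xf13 yf8 zf30) (kf xf24 yf39 zf32) (kf xf24 yf39 zf34) (kf xf13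 yf8 zf33) (kf xf24 yf39 zf36) (kf xf10 yf40 zf28) (kf xf14 yf49 zf0) (kf xf13 yf7 zf56) (kf xf13 yf7 zf58)) (@D3.rec (fun _ => Pt) (kf xf20 yf48 zf60) (kf xf13 yf53 zf36) (kf xf10 yf32 zf2) (kf xf13 yf8 zf11) (kf xf13 yf53 zf37) (kf xf14 yf11 zf20) (kf xf14 yf33 zf58) (kf xf24 yf39 zf46) (kf xf14 yf33 zf57) (kf xf24 yf39 zf49) (kf xf8 yf6 zf19) (kf xf10 yf40 zf32) (kf xf10 yf40 zf37) (kf xf10 yf40 zf38) (kf xf9 yf3 zf19) (kf xf24 yf1 zf19) (kf xf23 yf39 zf39) (kf xf10 yf40 zf26) (kf xf22 yf53 zf51) (kf xf22 yf53 zf48) (kf xf22 yf53 zf52) (kf xf24 yf40 zf5) (kf xf23 yf41 zf16) (kf xf22 yf27 zf48) (kf xf22 yf43 zf16) (kf xf23 yf39 zf35) (kf xf24 yf40 zf9) (kf xf23 yf41 zf38) (kf xf23 yf41 zf37) (kf xf7 yf53 zf47) (kf xf14 yf53 zf43) (kf xf14 yf53 zf44) (kf xf24 yf40 zf23)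 (kf xf13 yf48 zf18) (kf xf13 yf48 zf26) (kf xf24 yf40 zf27) (kf xf14 yf53 zf45) (kf xf13 yf49 zf42) (kf xf14 yf53 zf46) (kf xf10 yf22 zf57) (kf xf22 yf50 zf31) (kf xf22 yf50 zf30) (kf xf7 yf53 zf51) (kf xf14 yf53 zf30) (kf xf14 yf53 zf31) (kf xf14 yf53 zf36) (kf xf14 yf53 zf38) (kf xf13 yf14 zf60) (kf xf18 yf50 zf15) (kf xf16 yf22 zf40) (kf xf7 yf53 zf54) (kf xf14 yf25 zf30) (kf xf24 yf40 zf43) (kf xf14 yf1 zf61) (kf xf14 yf2 zf1) (kf xf14 yf2 zf2) (kf xf14 yf55 zf4) (kf xf14 yf1 zf53) (kf xf14 yf2 zf3) (kf xf14 yf2 zf4) (kf xf14 yf2 zf5) (kf xf24 yf40 zf61)) (@D3.rec (fun _ => Pt) (kf xf14 yf2 zf33) (kf xf24 yf41 zf4) (kf xf14 yf55 zf29) (kf xf14 yf55 zf28) (kf xf7 yf53 zf61) (kf xf14 yf48 zf51) (kf xf14 yf48 zf52) (kf xf12 yf48 zf2) (kf xf14 yf55 zf34) (kf xf14 yf45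 zf44) (kf xf14 yf20 zf26) (kf xf14 yf49 zf34) (kf xf12 yf47 zf58) (kf xf14 yf55 zf8) (kf xf14 yf49 zf32) (kf xf14 yf49 zf37) (kf xf14 yf49 zf38) (kf xf14 yf49 zf39) (kf xf16 yf2 zf52) (kf xf14 yf49 zf42) (kf xf24 yf41 zf27) (kf xf14 yf55 zf50) (kf xf14 yf55 zf49) (kf xf7 yf54 zf9) (kf xf14 yf55 zf52) (kf xf14 yf55 zf53) (kf xf24 yf41 zf31) (kf xf13 yf59 zf45) (kf xf13 yf59 zf52) (kf xf24 yf41 zf37) (kf xf12 yf25 zf47) (kf xf14 yf55 zf54) (kf xf12 yf16 zf39) (kf xf23 yf23 zf43) (kf xf23 yf23 zf42) (kf xf7 yf54 zf13) (kf xf14 yf55 zf60) (kf xf14 yf55 zf61) (kf xf12 yf48 zf20) (kf xf14 yf56 zf1) (kf xf21 yf34 zf28) (kf xf12 yf48 zf39) (kf xf14 yf56 zf11) (kf xf7 yf54 zf16) (kf xf14 yf56 zf6) (kf xf14 yf56 zf7) (kf xf24 yf41 zf57) (kf xf14 yf56 zf9) (kf xf14 yf56 zf4) (kf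 xf14 yf56 zf3) (kf xf7 yf54 zf19) (kf xf14 yf54 zf60) (kf xf21 yf6 zf12) (kf xf14 yf54 zf58) (kf xf24 yf42 zf9) (kf xf14 yf56 zf14) (kf xf14 yf56 zf15) (kf xf14 yf56 zf16) (kf xf14 yf54 zf53) (kf xf24 yf42 zf17) (kf xf14 yf54 zf51) (kf xf24 yf42 zf23)) (@D3.rec (fun _ => Pt) (kf xf14 yf49 zf35) (kf xf14 yf55 zf9) (kf xf14 yf51 zf1) (kf xf14 yf50 zf58) (kf xf14 yf53 zf56) (kf xf14 yf55 zf16) (kf xf14 yf55 zf17) (kf xf24 yf42 zf29) (kf xf14 yf54 zf13) (kf xf14 yf55 zf1) (kf xf14 yf7 zf14) (kf xf7 yf54 zf35) (kf xf23 yf29 zf33) (kf xf23 yf29 zf32) (kf xf13 yf13 zf9) (kf xf14 yf2 zf0) (kf xf14 yf55 zf5) (kf xf14 yf55 zf6) (kf xf24 yf42 zf39) (kf xf14 yf29 zf14) (kf xf14 yf51 zf51) (kf xf22 yf43 zf51) (kf xf13 yf54 zf7) (kf xf13 yf54 zf1) (kf xf13 yf54 zf9) (kf xf13 yf54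 zf10) (kf xf13 yf54 zf26) (kf xf24 yf42 zf52) (kf xf14 yf54 zf3) (kf xf14 yf54 zf2) (kf xf7 yf54 zf45) (kf xf14 yf18 zf58) (kf xf14 yf45 zf38) (kf xf14 yf45 zf39) (kf xf14 yf54 zf8) (kf xf14 yf56 zf17) (kf xf7 yf55 zf7) (kf xf7 yf55 zf6) (kf xf14 yf28 zf39) (kf xf14 yf46 zf21) (kf xf14 yf45 zf6) (kf xf14 yf46 zf23) (kf xf14 yf46 zf20) (kf xf14 yf46 zf24) (kf xf14 yf46 zf25) (kf xf14 yf46 zf26) (kf xf24 yf43 zf14) (kf xf14 yf46 zf29) (kf xf24 yf43 zf20) (kf xf14 yf54 zf22) (kf xf14 yf54 zf21) (kf xf7 yf54 zf55) (kf xf14 yf54 zf24) (kf xf14 yf54 zf25) (kf xf14 yf54 zf31) (kf xf13 yf20 zf14) (kf xf20 yf16 zf20) (kf xf16 yf2 zf36) (kf xf23 yf36 zf27) (kf xf7 yf54 zf58) (kf xf14 yf54 zf36) (kf xf14 yf54 zf37)) (@D3.rec (fun _ => Pt) (kf xf21 yf55 zf58) (kf xf14 yf54 zf39)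 (kf xf12 yf40 zf28) (kf xf14 yf54 zf49) (kf xf14 yf54 zf48) (kf xf7 yf54 zf61) (kf xf14 yf54 zf44) (kf xf14 yf54 zf45) (kf xf24 yf43 zf36) (kf xf14 yf54 zf47) (kf xf21 yf5 zf61) (kf xf14 yf54 zf42) (kf xf7 yf55 zf2) (kf xf12 yf41 zf53) (kf xf14 yf54 zf55) (kf xf14 yf54 zf56) (kf xf14 yf54 zf57) (kf xf14 yf55 zf35) (kf xf13 yf57 zf38) (kf xf13 yf59 zf31) (kf xf24 yf43 zf1) (kf xf22 yf27 zf11) (kf xf13 yf59 zf11) (kf xf24 yf43 zf54) (kf xf24 yf42 zf60) (kf xf22 yf27 zf12) (kf xf24 yf42 zf61) (kf xf14 yf50 zf37) (kf xf23 yf31 zf37) (kf xf23 yf31 zf36) (kf xf15 yf7 zf57) (kf xf7 yf55 zf8) (kf xf14 yf47 zf6) (kf xf14 yf3 zf44) (kf xf14 yf45 zf7) (kf xf22 yf28 zf17) (kf xf22 yf28 zf20) (kf xf13 yf37 zf6) (kf xf17 yf11 zf18) (kf xf12 yf58 zf57) (kf xf12 yf58 zf58) (kf xf12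 yf58 zf59) (kf xf15 yf19 zf3) (kf xf21 yf32 zf48) (kf xf24 yf44 zf8) (kf xf7 yf55 zf16) (kf xf11 yf9 zf45) (kf xf13 yf4 zf28) (kf xf13 yf4 zf29) (kf xf13 yf4 zf39) (kf xf24 yf44 zf15) (kf xf18 yf46 zf46) (kf xf24 yf44 zf21) (kf xf7 yf55 zf21) (kf xf13 yf46 zf12) (kf xf13 yf49 zf45) (kf xf24 yf44 zf26) (kf xf8 yf18 zf36) (kf xf8 yf22 zf53) (kf xf7 yf55 zf26) (kf xf17 yf38 zf58) (kf xf17 yf38 zf59)) (@D3.rec (fun _ => Pt) (kf xf17 yf38 zf60) (kf xf17 yf38 zf2) (kf xf24 yf44 zf37) (kf xf8 yf40 zf53) (kf xf8 yf40 zf54) (kf xf18 yf37 zf26) (kf xf15 yf56 zf45) (kf xf7 yf55 zf31) (kf xf8 yf40 zf57) (kf xf8 yf40 zf58) (kf xf8 yf40 zf59) (kf xf18 yf37 zf40) (kf xf7 yf55 zf34) (kf xf8 yf39 zf56) (kf xf8 yf40 zf49) (kf xf8 yf40 zf47) (kf xf16 yf3 zf36) (kf xf8 yf40 zf38) (kf xf8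 yf40 zf39) (kf xf8 yf40 zf40) (kf xf24 yf44 zf53) (kf xf24 yf44 zf57) (kf xf7 yf55 zf39) (kf xf8 yf41 zf27) (kf xf21 yf34 zf7) (kf xf7 yf55 zf44) (kf xf8 yf41 zf20) (kf xf8 yf41 zf21) (kf xf8 yf41 zf18) (kf xf24 yf44 zf27) (kf xf8 yf41 zf43) (kf xf16 yf5 zf45) (kf xf8 yf19 zf0) (kf xf8 yf41 zf40) (kf xf8 yf41 zf53) (kf xf8 yf41 zf54) (kf xf8 yf41 zf55) (kf xf17 yf39 zf30) (kf xf17 yf39 zf29) (kf xf7 yf55 zf52) (kf xf8 yf41 zf45) (kf xf8 yf41 zf46) (kf xf8 yf41 zf47) (kf xf8 yf41 zf48) (kf xf21 yf58 zf29) (kf xf10 yf7 zf59) (kf xf18 yf28 zf46) (kf xf7 yf55 zf55) (kf xf7 yf55 zf58) (kf xf7 yf55 zf57) (kf xf17 yf36 zf61) (kf xf24 yf45 zf22) (kf xf24 yf45 zf25) (kf xf7 yf55 zf56) (kf xf24 yf45 zf13) (kf xf24 yf45 zf14) (kf xf21 yf33 zf54) (kf xf8 yf45 zf5) (kf xf8 yf45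 zf3) (kf xf8 yf45 zf4) (kf xf18 yf30 zf27) (kf xf17 yf38 zf61)) (@D3.rec (fun _ => Pt) (kf xf8 yf42 zf22) (kf xf8 yf42 zf21) (kf xf7 yf55 zf61) (kf xf17 yf39 zf0) (kf xf8 yf40 zf13) (kf xf8 yf42 zf31) (kf xf16 yf12 zf28) (kf xf8 yf42 zf28) (kf xf21 yf0 zf25) (kf xf24 yf45 zf46) (kf xf17 yf38 zf27) (kf xf17 yf37 zf15) (kf xf8 yf24 zf38) (kf xf7 yf56 zf6) (kf xf8 yf43 zf15) (kf xf8 yf43 zf16) (kf xf8 yf43 zf17) (kf xf22 yf14 zf48) (kf xf9 yf52 zf52) (kf xf7 yf56 zf9) (kf xf16 yf8 zf6) (kf xf8 yf43 zf26) (kf xf8 yf43 zf29) (kf xf18 yf36 zf2) (kf xf8 yf43 zf2) (kf xf8 yf43 zf1) (kf xf24 yf45 zf57) (kf xf7 yf56 zf16) (kf xf11 yf32 zf39) (kf xf8 yf43 zf56) (kf xf8 yf43 zf46) (kf xf8 yf43 zf45) (kf xf7 yf56 zf19) (kf xf8 yf44 zf11) (kf xf13 yf42 zf1) (kf xf8 yf44 zf1) (kf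 xf8 yf44 zf0) (kf xf7 yf56 zf21) (kf xf8 yf44 zf13) (kf xf8 yf44 zf12) (kf xf7 yf56 zf22) (kf xf16 yf53 zf42) (kf xf20 yf8 zf24) (kf xf19 yf0 zf31) (kf xf20 yf21 zf48) (kf xf24 yf46 zf12) (kf xf21 yf12 zf17) (kf xf21 yf13 zf28) (kf xf22 yf29 zf36) (kf xf24 yf46 zf6) (kf xf24 yf46 zf5) (kf xf8 yf42 zf14) (kf xf24 yf46 zf18) (kf xf24 yf46 zf21) (kf xf7 yf56 zf27) (kf xf18 yf59 zf48) (kf xf24 yf46 zf8) (kf xf7 yf56 zf28) (kf xf24 yf46 zf25) (kf xf8 yf44 zf59) (kf xf8 yf44 zf60) (kf xf24 yf46 zf31)) (@D3.rec (fun _ => Pt) (kf xf8 yf44 zf55) (kf xf24 yf46 zf35) (kf xf7 yf56 zf31) (kf xf8 yf44 zf53) (kf xf24 yf46 zf38) (kf xf8 yf45 zf1) (kf xf8 yf45 zf0) (kf xf7 yf56 zf33) (kf xf8 yf42 zf12) (kf xf8 yf42 zf13) (kf xf8 yf42 zf11) (kf xf24 yf46 zf42) (kf xf8 yf45 zf8) (kf xf8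 yf45 zf7) (kf xf24 yf46 zf50) (kf xf7 yf56 zf35) (kf xf8 yf45 zf15) (kf xf8 yf45 zf16) (kf xf8 yf45 zf17) (kf xf16 yf35 zf6) (kf xf8 yf45 zf11) (kf xf8 yf45 zf12) (kf xf7 yf56 zf39) (kf xf8 yf45 zf21) (kf xf8 yf45 zf20) (kf xf15 yf10 zf22) (kf xf16 yf32 zf52) (kf xf8 yf46 zf17) (kf xf15 yf6 zf29) (kf xf8 yf45 zf58) (kf xf15 yf6 zf36) (kf xf8 yf45 zf54) (kf xf8 yf45 zf55) (kf xf16 yf32 zf59) (kf xf21 yf10 zf59) (kf xf20 yf0 zf59) (kf xf8 yf47 zf3) (kf xf24 yf47 zf3) (kf xf20 yf0 zf60) (kf xf7 yf56 zf52) (kf xf8 yf46 zf53) (kf xf8 yf46 zf50) (kf xf21 yf13 zf2) (kf xf21 yf28 zf34) (kf xf8 yf48 zf17) (kf xf20 yf30 zf46) (kf xf20 yf30 zf45) (kf xf7 yf56 zf61) (kf xf8 yf47 zf54) (kf xf16 yf31 zf53) (kf xf8 yf47 zf51) (kf xf21 yf28 zf39) (kf xf8 yf47 zf57) (kf xf24 yf47 zf15)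 (kf xf7 yf57 zf2) (kf xf8 yf39 zf21) (kf xf20 yf32 zf6) (kf xf7 yf57 zf5) (kf xf15 yf10 zf2) (kf xf9 yf25 zf35) (kf xf16 yf55 zf7) (kf xf20 yf7 zf28))
def f_f_15 : D2 → D3 → Pt := @D2.rec (fun _ => D3 → Pt) (@D3.rec (fun _ => Pt) (kf xf11 yf14 zf13) (kf xf7 yf57 zf23) (kf xf7 yf57 zf22) (kf xf7 yf57 zf14) (kf xf13 yf50 zf38) (kf xf24 yf47 zf24) (kf xf11 yf13 zf53) (kf xf7 yf57 zf18) (kf xf20 yf26 zf6) (kf xf24 yf47 zf19) (kf xf20 yf0 zf0) (kf xf19 yf58 zf45) (kf xf7 yf57 zf21) (kf xf17 yf15 zf27) (kf xf24 yf47 zf23) (kf xf22 yf11 zf55) (kf xf24 yf47 zf20) (kf xf24 yf36 zf23) (kf xf24 yf47 zf21) (kf xf20 yf6 zf22) (kf xf8 yf48 zf3) (kf xf8 yf51 zf14) (kf xf8 yf51 zf16) (kf xf24 yf47 zf43) (kf xf8 yf51 zf8) (kf xf8 yf51 zf7) (kf xf8 yf51 zf21) (kf xf19 yf59 zf47) (kf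 xf8 yf50 zf39) (kf xf7 yf57 zf27) (kf xf8 yf51 zf1) (kf xf8 yf51 zf2) (kf xf21 yf13 zf59) (kf xf8 yf51 zf9) (kf xf16 yf27 zf48) (kf xf10 yf21 zf3) (kf xf10 yf21 zf4) (kf xf18 yf34 zf37) (kf xf9 yf53 zf61) (kf xf10 yf32 zf61) (kf xf24 yf48 zf7) (kf xf18 yf30 zf29) (kf xf18 yf30 zf30) (kf xf18 yf30 zf31) (kf xf18 yf30 zf32) (kf xf10 yf20 zf19) (kf xf10 yf32 zf57) (kf xf24 yf48 zf20) (kf xf18 yf11 zf14) (kf xf18 yf11 zf15) (kf xf18 yf11 zf16) (kf xf18 yf11 zf17) (kf xf10 yf33 zf29) (kf xf24 yf12 zf34) (kf xf7 yf58 zf5) (kf xf7 yf58 zf6) (kf xf11 yf5 zf59) (kf xf7 yf57 zf58) (kf xf7 yf57 zf59) (kf xf11 yf10 zf27) (kf xf7 yf58 zf19) (kf xf7 yf58 zf20)) (@D3.rec (fun _ => Pt) (kf xf19 yf20 zf19) (kf xf7 yf58 zf15) (kf xf7 yf57 zf42) (kf xf7 yf58 zf13) (kf xf24 yf48 zf51)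 (kf xf7 yf58 zf23) (kf xf7 yf57 zf44) (kf xf24 yf48 zf54) (kf xf24 yf48 zf52) (kf xf19 yf42 zf39) (kf xf19 yf6 zf9) (kf xf7 yf57 zf45) (kf xf24 yf49 zf5) (kf xf15 yf27 zf41) (kf xf9 yf41 zf49) (kf xf10 yf36 zf56) (kf xf7 yf57 zf50) (kf xf16 yf4 zf10) (kf xf24 yf32 zf29) (kf xf15 yf42 zf51) (kf xf7 yf57 zf52) (kf xf11 yf5 zf0) (kf xf11 yf5 zf1) (kf xf24 yf49 zf22) (kf xf8 yf37 zf33) (kf xf8 yf37 zf32) (kf xf7 yf57 zf55) (kf xf10 yf46 zf31) (kf xf10 yf46 zf32) (kf xf24 yf49 zf32) (kf xf11 yf3 zf28) (kf xf15 yf2 zf9) (kf xf15 yf28 zf23) (kf xf24 yf48 zf37) (kf xf19 yf12 zf36) (kf xf19 yf42 zf17) (kf xf15 yf2 zf12) (kf xf24 yf49 zf46) (kf xf10 yf19 zf18) (kf xf24 yf33 zf20) (kf xf10 yf47 zf30) (kf xf15 yf41 zf59) (kf xf24 yf49 zf57) (kf xf7 yf57 zf60) (kf xf11 yf5 zf60)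 (kf xf8 yf11 zf37) (kf xf24 yf50 zf0) (kf xf7 yf58 zf0) (kf xf8 yf11 zf27) (kf xf8 yf17 zf12) (kf xf10 yf51 zf46) (kf xf7 yf58 zf4) (kf xf24 yf48 zf32) (kf xf19 yf37 zf4) (kf xf24 yf48 zf33) (kf xf24 yf48 zf34) (kf xf24 yf50 zf17) (kf xf24 yf50 zf21) (kf xf15 yf27 zf61) (kf xf24 yf48 zf40) (kf xf24 yf50 zf27) (kf xf7 yf58 zf7)) (@D3.rec (fun _ => Pt) (kf xf11 yf10 zf28) (kf xf7 yf58 zf10) (kf xf10 yf19 zf17) (kf xf15 yf28 zf29) (kf xf10 yf40 zf54) (kf xf10 yf40 zf55) (kf xf10 yf40 zf52) (kf xf10 yf40 zf56) (kf xf24 yf50 zf41) (kf xf15 yf1 zf31) (kf xf15 yf27 zf59) (kf xf10 yf54 zf20) (kf xf15 yf1 zf36) (kf xf7 yf58 zf14) (kf xf16 yf39 zf15) (kf xf17 yf48 zf1) (kf xf9 yf43 zf35) (kf xf11 yf6 zf7) (kf xf7 yf58 zf18) (kf xf24 yf48 zf42) (kf xf19 yf45 zf7) (kf xf24 yf48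 zf43) (kf xf24 yf48 zf44) (kf xf24 yf50 zf59) (kf xf24 yf51 zf1) (kf xf24 yf48 zf49) (kf xf24 yf48 zf48) (kf xf24 yf51 zf9) (kf xf7 yf58 zf21) (kf xf9 yf43 zf58) (kf xf11 yf10 zf44) (kf xf15 yf20 zf1) (kf xf21 yf2 zf10) (kf xf15 yf19 zf57) (kf xf15 yf19 zf58) (kf xf15 yf19 zf59) (kf xf15 yf19 zf60) (kf xf24 yf51 zf15) (kf xf24 yf51 zf27) (kf xf10 yf40 zf49) (kf xf7 yf58 zf28) (kf xf16 yf39 zf11) (kf xf16 yf39 zf12) (kf xf16 yf39 zf13) (kf xf16 yf6 zf21) (kf xf24 yf51 zf42) (kf xf24 yf51 zf45) (kf xf24 yf51 zf48) (kf xf7 yf58 zf31) (kf xf18 yf44 zf24) (kf xf19 yf42 zf42) (kf xf19 yf43 zf60) (kf xf10 yf59 zf42) (kf xf10 yf59 zf43) (kf xf19 yf47 zf18) (kf xf19 yf42 zf40) (kf xf19 yf32 zf58) (kf xf19 yf32 zf61) (kf xf19 yf42 zf44) (kf xf15 yf18 zf35) (kf xf24 yf33 zf23)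 (kf xf16 yf4 zf47)) (@D3.rec (fun _ => Pt) (kf xf24 yf52 zf3) (kf xf10 yf32 zf41) (kf xf16 yf12 zf60) (kf xf24 yf49 zf4) (kf xf24 yf49 zf3) (kf xf7 yf58 zf39) (kf xf24 yf32 zf51) (kf xf15 yf22 zf3) (kf xf15 yf29 zf31) (kf xf15 yf29 zf32) (kf xf10 yf42 zf35) (kf xf15 yf29 zf33) (kf xf10 yf11 zf52) (kf xf15 yf29 zf36) (kf xf24 yf52 zf24) (kf xf15 yf53 zf36) (kf xf10 yf54 zf12) (kf xf19 yf5 zf38) (kf xf7 yf58 zf45) (kf xf15 yf53 zf41) (kf xf15 yf53 zf42) (kf xf9 yf54 zf49) (kf xf9 yf42 zf2) (kf xf15 yf53 zf39) (kf xf15 yf53 zf26) (kf xf9 yf42 zf21) (kf xf9 yf42 zf40) (kf xf16 yf41 zf32) (kf xf19 yf43 zf45) (kf xf16 yf41 zf30) (kf xf19 yf42 zf32) (kf xf19 yf43 zf58) (kf xf16 yf3 zf16) (kf xf11 yf26 zf40) (kf xf19 yf43 zf59) (kf xf19 yf42 zf33) (kf xf16 yf58 zf25) (kf xf18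 yf44 zf17) (kf xf19 yf42 zf35) (kf xf16 yf58 zf30) (kf xf19 yf42 zf36) (kf xf9 yf46 zf28) (kf xf9 yf46 zf29) (kf xf9 yf45 zf60) (kf xf9 yf46 zf0) (kf xf20 yf24 zf8) (kf xf9 yf44 zf31) (kf xf11 yf39 zf34) (kf xf9 yf44 zf44) (kf xf7 yf59 zf31) (kf xf24 yf52 zf58) (kf xf11 yf13 zf4) (kf xf11 yf14 zf17) (kf xf9 yf45 zf33) (kf xf19 yf41 zf48) (kf xf18 yf58 zf31) (kf xf9 yf31 zf19) (kf xf12 yf55 zf23) (kf xf14 yf46 zf33) (kf xf7 yf59 zf18) (kf xf9 yf45 zf36) (kf xf24 yf53 zf5)) (@D3.rec (fun _ => Pt) (kf xf8 yf1 zf47) (kf xf19 yf41 zf47) (kf xf22 yf49 zf55) (kf xf20 yf0 zf14) (kf xf11 yf12 zf44) (kf xf7 yf59 zf28) (kf xf7 yf59 zf36) (kf xf7 yf59 zf34) (kf xf20 yf9 zf20) (kf xf23 yf35 zf43) (kf xf7 yf59 zf43) (kf xf7 yf59 zf42) (kf xf7 yf59 zf32) (kf xf20 yf21 zf50) (kf xf11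 yf13 zf5) (kf xf11 yf7 zf1) (kf xf11 yf15 zf7) (kf xf10 yf58 zf19) (kf xf16 yf54 zf46) (kf xf24 yf46 zf7) (kf xf7 yf59 zf39) (kf xf24 yf53 zf7) (kf xf16 yf55 zf39) (kf xf7 yf59 zf40) (kf xf20 yf25 zf5) (kf xf11 yf19 zf44) (kf xf24 yf53 zf10) (kf xf24 yf53 zf8) (kf xf24 yf53 zf9) (kf xf23 yf30 zf43) (kf xf7 yf59 zf45) (kf xf19 yf39 zf30) (kf xf24 yf52 zf57) (kf xf9 yf1 zf24) (kf xf9 yf46 zf42) (kf xf9 yf46 zf48) (kf xf9 yf46 zf49) (kf xf11 yf14 zf6) (kf xf9 yf8 zf55) (kf xf24 yf53 zf22) (kf xf11 yf35 zf10) (kf xf20 yf18 zf17) (kf xf11 yf35 zf21) (kf xf15 yf30 zf40) (kf xf18 yf42 zf58) (kf xf9 yf50 zf41) (kf xf8 yf50 zf19) (kf xf8 yf50 zf20) (kf xf19 yf24 zf26) (kf xf11 yf39 zf26) (kf xf17 yf57 zf15) (kf xf9 yf8 zf4) (kf xf11 yf38 zf10) (kf xf23 yf6 zf1) (kf xf8 yf0 zf12)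 (kf xf9 yf24 zf34) (kf xf20 yf22 zf32) (kf xf19 yf24 zf27) (kf xf10 yf44 zf17) (kf xf11 yf50 zf34) (kf xf19 yf34 zf37) (kf xf23 yf34 zf30)) (@D3.rec (fun _ => Pt) (kf xf11 yf12 zf2) (kf xf8 yf0 zf21) (kf xf8 yf0 zf48) (kf xf8 yf0 zf49) (kf xf8 yf0 zf45) (kf xf8 yf0 zf46) (kf xf11 yf33 zf21) (kf xf19 yf27 zf20) (kf xf10 yf48 zf31) (kf xf11 yf27 zf23) (kf xf21 yf31 zf57) (kf xf20 yf51 zf38) (kf xf11 yf49 zf14) (kf xf21 yf20 zf51) (kf xf9 yf13 zf27) (kf xf12 yf31 zf41) (kf xf18 yf23 zf27) (kf xf21 yf31 zf42) (kf xf21 yf3 zf1) (kf xf12 yf49 zf25) (kf xf11 yf12 zf0) (kf xf17 yf6 zf15) (kf xf11 yf46 zf23) (kf xf11 yf33 zf23) (kf xf11 yf46 zf21) (kf xf24 yf53 zf32) (kf xf13 yf1 zf41) (kf xf21 yf37 zf44) (kf xf9 yf50 zf59) (kf xf20 yf8 zf33) (kf xf24 yf36 zf17) (kf xf20 yf7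 zf44) (kf xf20 yf8 zf34) (kf xf9 yf24 zf38) (kf xf18 yf25 zf18) (kf xf9 yf5 zf55) (kf xf9 yf24 zf43) (kf xf9 yf22 zf47) (kf xf9 yf51 zf0) (kf xf9 yf51 zf1) (kf xf9 yf6 zf2) (kf xf9 yf50 zf52) (kf xf9 yf17 zf52) (kf xf15 yf7 zf4) (kf xf11 yf32 zf37) (kf xf16 yf20 zf58) (kf xf15 yf6 zf60) (kf xf24 yf53 zf53) (kf xf8 yf1 zf5) (kf xf18 yf49 zf31) (kf xf21 yf12 zf33) (kf xf8 yf1 zf6) (kf xf24 yf53 zf57) (kf xf15 yf6 zf58) (kf xf15 yf6 zf59) (kf xf15 yf6 zf57) (kf xf18 yf28 zf26) (kf xf24 yf54 zf4) (kf xf8 yf1 zf9) (kf xf15 yf7 zf43) (kf xf12 yf6 zf29) (kf xf18 yf6 zf23)) (@D3.rec (fun _ => Pt) (kf xf15 yf7 zf40) (kf xf15 yf7 zf41) (kf xf18 yf15 zf52) (kf xf8 yf1 zf13) (kf xf15 yf7 zf47) (kf xf15 yf7 zf46) (kf xf16 yf25 zf45) (kf xf8 yf1 zf14) (kf xf16 yf28 zf22) (kf xf20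 yf36 zf22) (kf xf16 yf26 zf40) (kf xf8 yf1 zf16) (kf xf21 yf29 zf52) (kf xf21 yf29 zf51) (kf xf24 yf54 zf20) (kf xf8 yf1 zf17) (kf xf16 yf30 zf46) (kf xf21 yf29 zf57) (kf xf21 yf29 zf23) (kf xf20 yf35 zf45) (kf xf21 yf29 zf56) (kf xf24 yf54 zf30) (kf xf15 yf8 zf41) (kf xf15 yf8 zf42) (kf xf21 yf29 zf2) (kf xf15 yf8 zf34) (kf xf15 yf8 zf33) (kf xf15 yf8 zf44) (kf xf24 yf54 zf37) (kf xf14 yf59 zf28) (kf xf15 yf8 zf29) (kf xf15 yf8 zf30) (kf xf15 yf8 zf31) (kf xf20 yf6 zf0) (kf xf15 yf8 zf35) (kf xf16 yf20 zf47) (kf xf14 yf59 zf30) (kf xf24 yf47 zf6) (kf xf8 yf1 zf26) (kf xf24 yf54 zf44) (kf xf17 yf38 zf56) (kf xf9 yf38 zf49) (kf xf8 yf1 zf28) (kf xf9 yf37 zf47) (kf xf15 yf38 zf59) (kf xf8 yf1 zf31) (kf xf8 yf1 zf36) (kf xf8 yf1 zf35) (kf xf16 yf14 zf3) (kf xf24 yf54 zf53)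 (kf xf24 yf54 zf56) (kf xf24 yf54 zf57) (kf xf8 yf1 zf34) (kf xf24 yf54 zf48) (kf xf24 yf44 zf28) (kf xf24 yf54 zf49) (kf xf23 yf37 zf47) (kf xf15 yf5 zf55) (kf xf15 yf5 zf53) (kf xf15 yf5 zf54) (kf xf15 yf5 zf46) (kf xf24 yf55 zf16)) (@D3.rec (fun _ => Pt) (kf xf9 yf38 zf31) (kf xf9 yf38 zf30) (kf xf8 yf1 zf39) (kf xf9 yf52 zf42) (kf xf15 yf5 zf43) (kf xf8 yf1 zf52) (kf xf8 yf1 zf50) (kf xf20 yf20 zf53) (kf xf24 yf53 zf6) (kf xf24 yf55 zf31) (kf xf11 yf12 zf54) (kf xf8 yf44 zf18) (kf xf24 yf55 zf23) (kf xf24 yf55 zf34) (kf xf8 yf1 zf54) (kf xf8 yf1 zf53) (kf xf24 yf55 zf21) (kf xf24 yf55 zf44) (kf xf11 yf6 zf46) (kf xf24 yf55 zf36) (kf xf24 yf55 zf53) (kf xf24 yf55 zf18) (kf xf24 yf55 zf58) (kf xf24 yf55 zf38) (kf xf16 yf21 zf56) (kf xf9 yf38 zf24) (kf xf24 yf56 zf10)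 (kf xf24 yf56 zf12) (kf xf8 yf1 zf55) (kf xf24 yf55 zf43) (kf xf24 yf55 zf42) (kf xf8 yf1 zf56) (kf xf24 yf56 zf16) (kf xf8 yf2 zf31) (kf xf9 yf38 zf22) (kf xf9 yf38 zf23) (kf xf9 yf38 zf21) (kf xf24 yf56 zf29) (kf xf24 yf56 zf31) (kf xf8 yf1 zf60) (kf xf15 yf6 zf0) (kf xf15 yf6 zf1) (kf xf18 yf36 zf27) (kf xf15 yf5 zf59) (kf xf17 yf46 zf42) (kf xf8 yf2 zf2) (kf xf15 yf6 zf5) (kf xf15 yf6 zf4) (kf xf24 yf56 zf35) (kf xf13 yf50 zf46) (kf xf19 yf59 zf37) (kf xf24 yf24 zf12) (kf xf20 yf25 zf19) (kf xf8 yf48 zf27) (kf xf11 yf1 zf38) (kf xf23 yf13 zf38) (kf xf19 yf40 zf4) (kf xf14 yf56 zf30) (kf xf15 yf13 zf32) (kf xf8 yf48 zf5) (kf xf22 yf47 zf22) (kf xf8 yf2 zf18)) (@D3.rec (fun _ => Pt) (kf xf19 yf39 zf48) (kf xf22 yf23 zf23) (kf xf8 yf2 zf20) (kf xf24 yf46 zf59) (kf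 xf8 yf2 zf28) (kf xf8 yf2 zf27) (kf xf8 yf2 zf23) (kf xf23 yf3 zf31) (kf xf8 yf2 zf24) (kf xf24 yf56 zf59) (kf xf8 yf2 zf26) (kf xf24 yf47 zf27) (kf xf24 yf56 zf55) (kf xf24 yf57 zf4) (kf xf11 yf33 zf25) (kf xf20 yf25 zf25) (kf xf24 yf56 zf53) (kf xf20 yf4 zf29) (kf xf8 yf2 zf30) (kf xf17 yf59 zf50) (kf xf24 yf57 zf6) (kf xf17 yf57 zf17) (kf xf17 yf57 zf16) (kf xf24 yf56 zf19) (kf xf12 yf5 zf61) (kf xf12 yf5 zf60) (kf xf24 yf57 zf20) (kf xf8 yf2 zf32) (kf xf8 yf46 zf15) (kf xf15 yf6 zf30) (kf xf15 yf6 zf31) (kf xf15 yf6 zf32) (kf xf24 yf57 zf28) (kf xf15 yf6 zf26) (kf xf15 yf6 zf25) (kf xf15 yf6 zf34) (kf xf24 yf57 zf33) (kf xf8 yf46 zf32) (kf xf8 yf2 zf36) (kf xf8 yf45 zf45) (kf xf11 yf37 zf16) (kf xf15 yf6 zf22) (kf xf15 yf6 zf23) (kf xf24 yf57 zf40) (kf xf15 yf6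 zf27) (kf xf15 yf23 zf36) (kf xf8 yf45 zf56) (kf xf16 yf25 zf40) (kf xf8 yf2 zf39) (kf xf12 yf6 zf3) (kf xf24 yf57 zf47) (kf xf11 yf37 zf26) (kf xf24 yf57 zf50) (kf xf21 yf12 zf10) (kf xf8 yf8 zf51) (kf xf8 yf2 zf43) (kf xf9 yf44 zf18) (kf xf15 yf21 zf36) (kf xf15 yf21 zf28) (kf xf15 yf21 zf37) (kf xf18 yf36 zf50) (kf xf8 yf6 zf42)) (@D3.rec (fun _ => Pt) (kf xf20 yf2 zf23) (kf xf8 yf6 zf37) (kf xf8 yf2 zf47) (kf xf8 yf6 zf52) (kf xf24 yf57 zf61) (kf xf24 yf57 zf56) (kf xf24 yf57 zf55) (kf xf17 yf36 zf24) (kf xf8 yf2 zf49) (kf xf8 yf54 zf11) (kf xf8 yf2 zf53) (kf xf8 yf8 zf41) (kf xf8 yf8 zf42) (kf xf24 yf58 zf13) (kf xf24 yf58 zf16) (kf xf8 yf2 zf55) (kf xf8 yf8 zf28) (kf xf8 yf8 zf26) (kf xf20 yf57 zf2) (kf xf8 yf5 zf42) (kf xf8 yf2 zf58) (kf xf8 yf8 zf16) (kf xf8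 yf8 zf17) (kf xf8 yf8 zf18) (kf xf24 yf58 zf25) (kf xf8 yf8 zf45) (kf xf8 yf8 zf44) (kf xf24 yf58 zf30) (kf xf8 yf2 zf61) (kf xf16 yf8 zf26) (kf xf15 yf21 zf30) (kf xf15 yf21 zf31) (kf xf24 yf58 zf37) (kf xf15 yf21 zf33) (kf xf15 yf21 zf34) (kf xf24 yf58 zf44) (kf xf8 yf9 zf31) (kf xf8 yf9 zf33) (kf xf15 yf14 zf9) (kf xf8 yf9 zf29) (kf xf15 yf37 zf47) (kf xf10 yf7 zf35) (kf xf15 yf12 zf42) (kf xf15 yf12 zf43) (kf xf15 yf12 zf44) (kf xf23 yf51 zf0) (kf xf24 yf58 zf51) (kf xf8 yf3 zf10) (kf xf10 yf32 zf59) (kf xf10 yf7 zf48) (kf xf10 yf7 zf47) (kf xf16 yf15 zf23) (kf xf23 yf17 zf54) (kf xf23 yf20 zf28) (kf xf15 yf12 zf40) (kf xf15 yf12 zf39) (kf xf15 yf12 zf32) (kf xf15 yf12 zf33) (kf xf15 yf12 zf34) (kf xf24 yf59 zf6) (kf xf17 yf39 zf50) (kf xf8 yf3 zf19)) (@D3.rec (fun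 _ => Pt) (kf xf10 yf8 zf3) (kf xf10 yf3 zf7) (kf xf14 yf59 zf58) (kf xf24 yf59 zf12) (kf xf15 yf12 zf54) (kf xf15 yf12 zf53) (kf xf8 yf3 zf24) (kf xf13 yf50 zf53) (kf xf22 yf35 zf37) (kf xf15 yf12 zf57) (kf xf15 yf12 zf56) (kf xf8 yf3 zf29) (kf xf15 yf12 zf61) (kf xf15 yf12 zf60) (kf xf24 yf59 zf32) (kf xf8 yf3 zf32) (kf xf9 yf44 zf38) (kf xf11 yf57 zf46) (kf xf24 yf59 zf35) (kf xf15 yf13 zf6) (kf xf15 yf13 zf5) (kf xf8 yf3 zf37) (kf xf14 yf59 zf25) (kf xf15 yf13 zf2) (kf xf13 yf29 zf22) (kf xf13 yf47 zf43) (kf xf24 yf59 zf45) (kf xf13 yf31 zf22) (kf xf15 yf13 zf9) (kf xf15 yf13 zf8) (kf xf24 yf59 zf51) (kf xf8 yf3 zf42) (kf xf15 yf12 zf18) (kf xf14 yf8 zf27) (kf xf16 yf12 zf13) (kf xf16 yf12 zf12) (kf xf8 yf3 zf45) (kf xf15 yf13 zf48) (kf xf20 yf0 zf35) (kf xf15 yf13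 zf46) (kf xf15 yf13 zf45) (kf xf8 yf3 zf47) (kf xf15 yf13 zf43) (kf xf24 yf59 zf60) (kf xf15 yf13 zf50) (kf xf8 yf3 zf49) (kf xf15 yf12 zf16) (kf xf15 yf12 zf17) (kf xf15 yf12 zf15) (kf xf14 yf8 zf32) (kf xf15 yf13 zf57) (kf xf15 yf13 zf56) (kf xf15 yf14 zf18) (kf xf8 yf3 zf51) (kf xf15 yf14 zf1) (kf xf15 yf14 zf2) (kf xf15 yf13 zf60) (kf xf15 yf13 zf61) (kf xf23 yf32 zf45) (kf xf8 yf3 zf55) (kf xf15 yf14 zf6) (kf xf15 yf14 zf5)) (@D3.rec (fun _ => Pt) (kf xf13 yf40 zf60) (kf xf18 yf39 zf2) (kf xf17 yf45 zf45) (kf xf10 yf10 zf13) (kf xf8 yf3 zf58) (kf xf10 yf7 zf27) (kf xf8 yf41 zf59) (kf xf10 yf7 zf60) (kf xf10 yf7 zf61) (kf xf24 yf29 zf34) (kf xf8 yf4 zf0) (kf xf10 yf7 zf51) (kf xf16 yf19 zf18) (kf xf10 yf7 zf41) (kf xf10 yf7 zf42) (kf xf10 yf7 zf43) (kf xf10 yf7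 zf44) (kf xf23 yf33 zf56) (kf xf25 yf0 zf26) (kf xf25 yf0 zf29) (kf xf8 yf4 zf5) (kf xf10 yf8 zf8) (kf xf10 yf8 zf10) (kf xf16 yf22 zf8) (kf xf10 yf11 zf50) (kf xf8 yf4 zf9) (kf xf10 yf8 zf39) (kf xf10 yf8 zf40) (kf xf10 yf8 zf41) (kf xf10 yf8 zf42) (kf xf16 yf18 zf34) (kf xf25 yf0 zf37) (kf xf10 yf8 zf29) (kf xf10 yf8 zf28) (kf xf25 yf0 zf44) (kf xf8 yf4 zf12) (kf xf10 yf8 zf32) (kf xf16 yf22 zf10) (kf xf10 yf12 zf34) (kf xf15 yf50 zf55) (kf xf8 yf4 zf15) (kf xf10 yf8 zf20) (kf xf10 yf8 zf21) (kf xf10 yf8 zf22) (kf xf10 yf8 zf23) (kf xf21 yf4 zf35) (kf xf16 yf17 zf47) (kf xf10 yf8 zf45) (kf xf9 yf35 zf40) (kf xf8 yf4 zf18) (kf xf18 yf3 zf40) (kf xf10 yf8 zf57) (kf xf10 yf8 zf58) (kf xf10 yf8 zf59) (kf xf10 yf8 zf60) (kf xf13 yf10 zf57) (kf xf15 yf14 zf53) (kf xf25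 yf0 zf53) (kf xf8 yf4 zf23) (kf xf10 yf8 zf50) (kf xf10 yf8 zf51) (kf xf10 yf8 zf52)) (@D3.rec (fun _ => Pt) (kf xf8 yf10 zf41) (kf xf25 yf0 zf58) (kf xf15 yf14 zf56) (kf xf8 yf4 zf26) (kf xf8 yf4 zf29) (kf xf8 yf4 zf28) (kf xf19 yf6 zf35) (kf xf25 yf1 zf5) (kf xf23 yf44 zf30) (kf xf25 yf1 zf8) (kf xf8 yf4 zf27) (kf xf25 yf0 zf59) (kf xf19 yf0 zf36) (kf xf23 yf44 zf31) (kf xf25 yf1 zf15) (kf xf15 yf10 zf48) (kf xf15 yf10 zf46) (kf xf15 yf10 zf47) (kf xf15 yf10 zf32) (kf xf23 yf43 zf3) (kf xf18 yf4 zf7) (kf xf10 yf9 zf21) (kf xf23 yf43 zf26) (kf xf10 yf9 zf19) (kf xf25 yf1 zf25) (kf xf10 yf9 zf24) (kf xf10 yf9 zf23) (kf xf8 yf4 zf34) (kf xf18 yf4 zf14) (kf xf10 yf16 zf1) (kf xf10 yf16 zf0) (kf xf8 yf4 zf36) (kf xf15 yf9 zf56) (kf xf15 yf9 zf57) (kf xf15 yf9 zf58) (kf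 xf25 yf1 zf35) (kf xf25 yf1 zf36) (kf xf8 yf4 zf38) (kf xf18 yf45 zf26) (kf xf15 yf9 zf55) (kf xf15 yf9 zf54) (kf xf8 yf4 zf43) (kf xf15 yf9 zf42) (kf xf15 yf9 zf43) (kf xf15 yf9 zf44) (kf xf25 yf1 zf47) (kf xf17 yf40 zf29) (kf xf8 yf4 zf45) (kf xf8 yf39 zf30) (kf xf8 yf6 zf46) (kf xf12 yf6 zf15) (kf xf13 yf50 zf49) (kf xf14 yf45 zf37) (kf xf15 yf10 zf5) (kf xf15 yf10 zf4) (kf xf8 yf4 zf50) (kf xf15 yf10 zf10) (kf xf15 yf10 zf9) (kf xf8 yf4 zf51) (kf xf12 yf6 zf13) (kf xf15 yf10 zf13) (kf xf15 yf10 zf12)) (@D3.rec (fun _ => Pt) (kf xf8 yf4 zf53) (kf xf8 yf46 zf6) (kf xf15 yf10 zf23) (kf xf13 yf18 zf8) (kf xf25 yf2 zf0) (kf xf15 yf10 zf20) (kf xf15 yf10 zf19) (kf xf8 yf4 zf57) (kf xf15 yf10 zf29) (kf xf15 yf10 zf28) (kf xf25 yf2 zf10) (kf xf8 yf4 zf58) (kf xf8 yf43 zf7)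 (kf xf8 yf5 zf6) (kf xf8 yf12 zf29) (kf xf15 yf50 zf5) (kf xf18 yf19 zf2) (kf xf11 yf23 zf9) (kf xf25 yf2 zf19) (kf xf25 yf2 zf21) (kf xf8 yf5 zf1) (kf xf12 yf8 zf35) (kf xf12 yf9 zf39) (kf xf15 yf50 zf6) (kf xf25 yf2 zf12) (kf xf25 yf2 zf28) (kf xf8 yf5 zf7) (kf xf8 yf5 zf9) (kf xf16 yf10 zf47) (kf xf25 yf2 zf32) (kf xf25 yf2 zf29) (kf xf25 yf2 zf37) (kf xf15 yf7 zf58) (kf xf13 yf59 zf17) (kf xf10 yf9 zf16) (kf xf24 yf41 zf29) (kf xf14 yf0 zf7) (kf xf8 yf5 zf11) (kf xf18 yf23 zf50) (kf xf14 yf0 zf13) (kf xf8 yf5 zf12) (kf xf25 yf2 zf45) (kf xf8 yf45 zf28) (kf xf15 yf10 zf42) (kf xf25 yf2 zf52) (kf xf15 yf10 zf40) (kf xf15 yf10 zf39) (kf xf8 yf5 zf16) (kf xf15 yf10 zf37) (kf xf13 yf59 zf18) (kf xf15 yf10 zf44) (kf xf8 yf5 zf18) (kf xf10 yf9 zf14) (kf xf10 yf9 zf15)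 (kf xf10 yf9 zf13) (kf xf23 yf44 zf32) (kf xf15 yf10 zf51) (kf xf15 yf10 zf50) (kf xf25 yf2 zf61) (kf xf8 yf5 zf20) (kf xf15 yf10 zf56) (kf xf15 yf10 zf57)) (@D3.rec (fun _ => Pt) (kf xf14 yf0 zf14) (kf xf15 yf10 zf54) (kf xf15 yf10 zf55) (kf xf25 yf3 zf9) (kf xf8 yf5 zf24) (kf xf15 yf10 zf61) (kf xf15 yf10 zf60) (kf xf25 yf3 zf10) (kf xf10 yf33 zf1) (kf xf15 yf9 zf38) (kf xf16 yf22 zf54) (kf xf16 yf21 zf58) (kf xf8 yf5 zf34) (kf xf8 yf5 zf33) (kf xf18 yf4 zf0) (kf xf25 yf3 zf19) (kf xf25 yf3 zf21) (kf xf8 yf5 zf32) (kf xf15 yf10 zf52) (kf xf25 yf3 zf15) (kf xf25 yf3 zf27) (kf xf15 yf50 zf30) (kf xf18 yf5 zf54) (kf xf15 yf14 zf58) (kf xf15 yf14 zf57) (kf xf8 yf5 zf37) (kf xf18 yf5 zf55) (kf xf15 yf14 zf61) (kf xf15 yf14 zf60) (kf xf10 yf54 zf13) (kf xf9 yf52 zf27) (kf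 xf15 yf54 zf1) (kf xf8 yf5 zf43) (kf xf10 yf0 zf1) (kf xf17 yf44 zf48) (kf xf19 yf2 zf14) (kf xf16 yf15 zf19) (kf xf8 yf5 zf44) (kf xf8 yf5 zf45) (kf xf17 yf38 zf15) (kf xf8 yf5 zf60) (kf xf8 yf9 zf30) (kf xf15 yf19 zf43) (kf xf18 yf39 zf61) (kf xf8 yf5 zf56) (kf xf8 yf5 zf55) (kf xf18 yf37 zf19) (kf xf18 yf37 zf28) (kf xf24 yf46 zf52) (kf xf18 yf36 zf59) (kf xf24 yf48 zf21) (kf xf25 yf3 zf49) (kf xf13 yf7 zf9) (kf xf15 yf11 zf56) (kf xf15 yf23 zf53) (kf xf15 yf23 zf54) (kf xf15 yf12 zf2) (kf xf15 yf14 zf24) (kf xf15 yf14 zf23) (kf xf8 yf5 zf59) (kf xf15 yf14 zf28) (kf xf15 yf14 zf27)) (@D3.rec (fun _ => Pt) (kf xf15 yf19 zf45) (kf xf10 yf50 zf3) (kf xf16 yf3 zf57) (kf xf8 yf42 zf37) (kf xf8 yf6 zf2) (kf xf10 yf50 zf7) (kf xf10 yf50 zf8) (kf xf10 yf50 zf9) (kf xf10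 yf50 zf10) (kf xf8 yf55 zf61) (kf xf13 yf43 zf59) (kf xf10 yf55 zf55) (kf xf10 yf55 zf56) (kf xf10 yf55 zf57) (kf xf10 yf55 zf58) (kf xf24 yf34 zf56) (kf xf23 yf1 zf33) (kf xf8 yf57 zf9) (kf xf8 yf57 zf8) (kf xf15 yf19 zf27) (kf xf8 yf6 zf10) (kf xf8 yf57 zf15) (kf xf8 yf57 zf16) (kf xf8 yf57 zf12) (kf xf10 yf44 zf44) (kf xf18 yf51 zf2) (kf xf18 yf51 zf3) (kf xf18 yf51 zf4) (kf xf18 yf51 zf5) (kf xf25 yf4 zf48) (kf xf25 yf4 zf52) (kf xf25 yf4 zf54) (kf xf8 yf6 zf16) (kf xf10 yf40 zf29) (kf xf10 yf40 zf30) (kf xf10 yf40 zf31) (kf xf25 yf5 zf1) (kf xf13 yf56 zf57) (kf xf8 yf6 zf22) (kf xf8 yf6 zf21) (kf xf18 yf2 zf56) (kf xf19 yf49 zf12) (kf xf19 yf36 zf19) (kf xf25 yf5 zf14) (kf xf8 yf6 zf20) (kf xf25 yf5 zf6) (kf xf8 yf28 zf18) (kf xf19 yf36 zf20) (kf xf25 yf5 zf25)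 (kf xf22 yf54 zf19) (kf xf22 yf54 zf18) (kf xf8 yf6 zf23) (kf xf15 yf31 zf50) (kf xf18 yf51 zf21) (kf xf25 yf5 zf37) (kf xf18 yf51 zf19) (kf xf25 yf5 zf42) (kf xf8 yf16 zf57) (kf xf22 yf10 zf55) (kf xf18 yf51 zf24) (kf xf18 yf51 zf23) (kf xf22 yf54 zf34)) (@D3.rec (fun _ => Pt) (kf xf10 yf49 zf60) (kf xf10 yf49 zf59) (kf xf15 yf31 zf61) (kf xf10 yf50 zf0) (kf xf10 yf50 zf1) (kf xf10 yf25 zf25) (kf xf16 yf8 zf9) (kf xf15 yf22 zf2) (kf xf11 yf4 zf31) (kf xf11 yf4 zf32) (kf xf15 yf41 zf12) (kf xf15 yf41 zf9) (kf xf20 yf56 zf15) (kf xf17 yf36 zf22) (kf xf25 yf6 zf13) (kf xf15 yf58 zf57) (kf xf11 yf57 zf2) (kf xf11 yf57 zf0) (kf xf25 yf6 zf18) (kf xf8 yf6 zf36) (kf xf8 yf7 zf39) (kf xf11 yf52 zf44) (kf xf8 yf13 zf60) (kf xf8 yf7 zf47) (kf xf8 yf6 zf41) (kf xf24 yf57 zf53)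 (kf xf24 yf57 zf54) (kf xf22 yf9 zf15) (kf xf12 yf0 zf22) (kf xf20 yf2 zf21) (kf xf17 yf27 zf40) (kf xf20 yf2 zf22) (kf xf8 yf7 zf27) (kf xf18 yf21 zf38) (kf xf18 yf21 zf37) (kf xf18 yf27 zf35) (kf xf16 yf2 zf24) (kf xf16 yf2 zf23) (kf xf25 yf6 zf38) (kf xf15 yf26 zf4) (kf xf15 yf26 zf1) (kf xf25 yf6 zf45) (kf xf8 yf6 zf51) (kf xf10 yf33 zf43) (kf xf15 yf52 zf49) (kf xf8 yf42 zf32) (kf xf15 yf52 zf48) (kf xf8 yf8 zf50) (kf xf17 yf35 zf61) (kf xf17 yf36 zf0) (kf xf15 yf47 zf15) (kf xf15 yf47 zf0) (kf xf25 yf6 zf56) (kf xf8 yf16 zf56) (kf xf22 yf54 zf27) (kf xf8 yf6 zf57) (kf xf11 yf4 zf27) (kf xf8 yf8 zf29) (kf xf15 yf41 zf60) (kf xf11 yf4 zf26) (kf xf11 yf4 zf37) (kf xf11 yf4 zf38)) (@D3.rec (fun _ => Pt) (kf xf15 yf59 zf43) (kf xf20 yf3 zf3) (kf xf8 yf7 zf0) (kf xf15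 yf52 zf42) (kf xf15 yf52 zf43) (kf xf15 yf52 zf45) (kf xf25 yf7 zf13) (kf xf13 yf10 zf25) (kf xf8 yf7 zf6) (kf xf8 yf7 zf5) (kf xf25 yf7 zf19) (kf xf24 yf7 zf55) (kf xf21 yf49 zf59) (kf xf25 yf7 zf24) (kf xf8 yf7 zf4) (kf xf15 yf59 zf37) (kf xf22 yf2 zf20) (kf xf15 yf59 zf36) (kf xf22 yf52 zf47) (kf xf21 yf42 zf51) (kf xf21 yf46 zf0) (kf xf21 yf5 zf40) (kf xf21 yf46 zf28) (kf xf8 yf9 zf21) (kf xf15 yf52 zf35) (kf xf25 yf7 zf39) (kf xf8 yf27 zf32) (kf xf25 yf7 zf46) (kf xf15 yf21 zf57) (kf xf15 yf21 zf56) (kf xf8 yf7 zf11) (kf xf8 yf9 zf27) (kf xf8 yf53 zf21) (kf xf8 yf53 zf33) (kf xf20 yf56 zf32) (kf xf8 yf53 zf57) (kf xf8 yf53 zf58) (kf xf8 yf53 zf59) (kf xf8 yf53 zf60) (kf xf25 yf8 zf10) (kf xf8 yf53 zf42) (kf xf25 yf8 zf16) (kf xf8 yf53 zf45) (kf xf25 yf8 zf19) (kf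 xf8 yf7 zf18) (kf xf11 yf8 zf60) (kf xf25 yf8 zf24) (kf xf11 yf8 zf56) (kf xf11 yf4 zf61) (kf xf25 yf8 zf31) (kf xf8 yf7 zf22) (kf xf15 yf41 zf51) (kf xf8 yf41 zf42) (kf xf11 yf9 zf2) (kf xf11 yf9 zf3) (kf xf11 yf9 zf4) (kf xf25 yf6 zf33) (kf xf9 yf33 zf24) (kf xf25 yf6 zf34) (kf xf16 yf8 zf11) (kf xf25 yf8 zf52) (kf xf16 yf8 zf13)) (@D3.rec (fun _ => Pt) (kf xf16 yf8 zf14) (kf xf21 yf48 zf15) (kf xf20 yf43 zf51) (kf xf24 yf35 zf38) (kf xf16 yf45 zf39) (kf xf8 yf7 zf31) (kf xf15 yf22 zf40) (kf xf15 yf22 zf41) (kf xf15 yf22 zf37) (kf xf15 yf22 zf38) (kf xf25 yf6 zf16) (kf xf17 yf43 zf16) (kf xf17 yf43 zf15) (kf xf8 yf7 zf34) (kf xf15 yf53 zf18) (kf xf15 yf53 zf19) (kf xf10 yf1 zf15) (kf xf15 yf53 zf16) (kf xf15 yf53 zf17) (kf xf21 yf1 zf59) (kf xf25 yf1 zf28) (kf xf14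 yf48 zf4) (kf xf14 yf48 zf3) (kf xf14 yf48 zf27) (kf xf8 yf7 zf42) (kf xf16 yf9 zf58) (kf xf16 yf9 zf59) (kf xf16 yf9 zf60) (kf xf8 yf7 zf53) (kf xf8 yf7 zf46) (kf xf10 yf47 zf54) (kf xf8 yf7 zf48) (kf xf15 yf41 zf53) (kf xf15 yf41 zf54) (kf xf15 yf41 zf55) (kf xf15 yf2 zf59) (kf xf19 yf38 zf7) (kf xf25 yf9 zf26) (kf xf20 yf5 zf11) (kf xf10 yf15 zf43) (kf xf15 yf36 zf28) (kf xf15 yf35 zf13) (kf xf8 yf7 zf54) (kf xf17 yf43 zf6) (kf xf25 yf6 zf26) (kf xf17 yf43 zf8) (kf xf17 yf43 zf9) (kf xf25 yf9 zf41) (kf xf19 yf38 zf5) (kf xf19 yf38 zf4) (kf xf16 yf8 zf22) (kf xf16 yf8 zf21) (kf xf17 yf43 zf28) (kf xf11 yf9 zf20) (kf xf11 yf9 zf21) (kf xf15 yf29 zf47) (kf xf8 yf18 zf34) (kf xf11 yf9 zf17) (kf xf11 yf9 zf18) (kf xf11 yf9 zf39) (kf xf11 yf9 zf38) (kf xf10 yf37 zf32))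 (@D3.rec (fun _ => Pt) (kf xf21 yf42 zf6) (kf xf17 yf39 zf26) (kf xf8 yf8 zf6) (kf xf14 yf56 zf42) (kf xf16 yf14 zf52) (kf xf16 yf14 zf53) (kf xf16 yf8 zf35) (kf xf8 yf54 zf16) (kf xf10 yf37 zf12) (kf xf8 yf54 zf35) (kf xf8 yf54 zf36) (kf xf8 yf54 zf37) (kf xf8 yf54 zf38) (kf xf25 yf10 zf15) (kf xf25 yf10 zf17) (kf xf8 yf54 zf26) (kf xf8 yf54 zf25) (kf xf25 yf10 zf21) (kf xf8 yf8 zf13) (kf xf8 yf54 zf29) (kf xf10 yf37 zf2) (kf xf10 yf58 zf59) (kf xf24 yf58 zf18) (kf xf21 yf16 zf58) (kf xf24 yf58 zf19) (kf xf24 yf58 zf20) (kf xf16 yf45 zf47) (kf xf15 yf15 zf19) (kf xf10 yf43 zf36) (kf xf8 yf8 zf19) (kf xf17 yf52 zf47) (kf xf17 yf52 zf48) (kf xf17 yf52 zf45) (kf xf17 yf52 zf46) (kf xf19 yf56 zf59) (kf xf24 yf58 zf14) (kf xf19 yf57 zf13) (kf xf18 yf18 zf12) (kf xf8 yf8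 zf22) (kf xf9 yf42 zf16) (kf xf10 yf38 zf55) (kf xf15 yf53 zf56) (kf xf15 yf53 zf57) (kf xf15 yf14 zf42) (kf xf18 yf30 zf13) (kf xf15 yf15 zf0) (kf xf15 yf53 zf54) (kf xf15 yf53 zf55) (kf xf25 yf6 zf58) (kf xf24 yf58 zf17) (kf xf9 yf53 zf2) (kf xf9 yf51 zf58) (kf xf25 yf10 zf59) (kf xf8 yf8 zf31) (kf xf8 yf8 zf38) (kf xf8 yf8 zf37) (kf xf8 yf8 zf33) (kf xf15 yf2 zf33) (kf xf15 yf2 zf34) (kf xf15 yf2 zf35) (kf xf15 yf2 zf36) (kf xf25 yf11 zf8)) (@D3.rec (fun _ => Pt) (kf xf25 yf11 zf12) (kf xf15 yf2 zf31) (kf xf21 yf43 zf9) (kf xf8 yf8 zf36) (kf xf20 yf56 zf46) (kf xf19 yf49 zf20) (kf xf19 yf49 zf13) (kf xf24 yf50 zf50) (kf xf25 yf6 zf52) (kf xf19 yf37 zf61) (kf xf19 yf35 zf28) (kf xf15 yf39 zf38) (kf xf8 yf8 zf43) (kf xf24 yf58 zf28) (kf xf24 yf58 zf29) (kf xf20 yf3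 zf60) (kf xf24 yf58 zf26) (kf xf24 yf58 zf27) (kf xf17 yf57 zf21) (kf xf21 yf2 zf3) (kf xf8 yf8 zf46) (kf xf15 yf54 zf8) (kf xf15 yf54 zf9) (kf xf24 yf11 zf24) (kf xf9 yf43 zf50) (kf xf16 yf12 zf29) (kf xf8 yf9 zf34) (kf xf9 yf42 zf36) (kf xf15 yf54 zf5) (kf xf15 yf54 zf6) (kf xf9 yf43 zf49) (kf xf10 yf59 zf5) (kf xf10 yf59 zf6) (kf xf20 yf15 zf23) (kf xf24 yf39 zf50) (kf xf18 yf1 zf55) (kf xf25 yf11 zf52) (kf xf8 yf8 zf57) (kf xf15 yf53 zf60) (kf xf15 yf53 zf59) (kf xf19 yf6 zf2) (kf xf8 yf8 zf58) (kf xf15 yf53 zf44) (kf xf15 yf53 zf45) (kf xf15 yf53 zf47) (kf xf15 yf53 zf48) (kf xf25 yf7 zf9) (kf xf15 yf53 zf31) (kf xf15 yf53 zf32) (kf xf24 yf36 zf41) (kf xf24 yf22 zf27) (kf xf24 yf36 zf50) (kf xf15 yf54 zf11) (kf xf15 yf54 zf10) (kf xf16 yf27 zf2) (kf xf8 yf9 zf3)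 (kf xf25 yf7 zf14) (kf xf8 yf9 zf12) (kf xf8 yf9 zf13) (kf xf25 yf10 zf50) (kf xf19 yf20 zf10) (kf xf19 yf17 zf20)) (@D3.rec (fun _ => Pt) (kf xf20 yf2 zf44) (kf xf24 yf16 zf20) (kf xf8 yf9 zf7) (kf xf22 yf54 zf48) (kf xf10 yf56 zf14) (kf xf19 yf19 zf31) (kf xf25 yf12 zf24) (kf xf24 yf16 zf33) (kf xf8 yf9 zf8) (kf xf20 yf2 zf45) (kf xf20 yf3 zf25) (kf xf25 yf10 zf51) (kf xf25 yf12 zf31) (kf xf8 yf9 zf10) (kf xf24 yf16 zf18) (kf xf25 yf10 zf9) (kf xf25 yf11 zf48) (kf xf25 yf12 zf10) (kf xf19 yf38 zf30) (kf xf25 yf12 zf42) (kf xf10 yf56 zf5) (kf xf25 yf12 zf11) (kf xf24 yf16 zf32) (kf xf20 yf2 zf47) (kf xf25 yf12 zf46) (kf xf25 yf11 zf40) (kf xf24 yf9 zf14) (kf xf8 yf9 zf15) (kf xf15 yf8 zf58) (kf xf25 yf12 zf51) (kf xf15 yf9 zf30) (kf xf15 yf9 zf31) (kf xf25 yf12 zf59)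 (kf xf15 yf9 zf33) (kf xf15 yf9 zf34) (kf xf25 yf13 zf2) (kf xf15 yf8 zf57) (kf xf15 yf8 zf59) (kf xf25 yf13 zf4) (kf xf25 yf12 zf50) (kf xf25 yf12 zf49) (kf xf8 yf9 zf20) (kf xf25 yf7 zf33) (kf xf25 yf7 zf34) (kf xf21 yf46 zf27) (kf xf15 yf21 zf53) (kf xf15 yf21 zf54) (kf xf18 yf28 zf31) (kf xf15 yf21 zf51) (kf xf17 yf45 zf10) (kf xf11 yf2 zf6) (kf xf15 yf21 zf48) (kf xf18 yf14 zf12) (kf xf15 yf21 zf45) (kf xf15 yf21 zf46) (kf xf17 yf39 zf31) (kf xf15 yf17 zf29) (kf xf15 yf17 zf28) (kf xf25 yf7 zf45) (kf xf15 yf54 zf56) (kf xf15 yf54 zf57) (kf xf25 yf3 zf48)) (@D3.rec (fun _ => Pt) (kf xf9 yf37 zf41) (kf xf24 yf58 zf46) (kf xf15 yf16 zf7) (kf xf15 yf3 zf7) (kf xf19 yf31 zf11) (kf xf25 yf11 zf17) (kf xf15 yf38 zf23) (kf xf15 yf38 zf22) (kf xf19 yf38 zf11) (kf xf24 yf58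 zf45) (kf xf11 yf8 zf39) (kf xf11 yf8 zf40) (kf xf11 yf8 zf41) (kf xf25 yf13 zf56) (kf xf11 yf8 zf53) (kf xf11 yf8 zf52) (kf xf25 yf6 zf43) (kf xf8 yf9 zf36) (kf xf11 yf8 zf57) (kf xf9 yf33 zf17) (kf xf8 yf9 zf40) (kf xf8 yf28 zf20) (kf xf8 yf28 zf25) (kf xf11 yf8 zf50) (kf xf25 yf14 zf9) (kf xf11 yf8 zf43) (kf xf25 yf14 zf14) (kf xf8 yf9 zf42) (kf xf11 yf9 zf8) (kf xf21 yf57 zf54) (kf xf11 yf9 zf11) (kf xf25 yf14 zf23) (kf xf9 yf50 zf42) (kf xf9 yf48 zf25) (kf xf11 yf40 zf4) (kf xf15 yf53 zf22) (kf xf15 yf53 zf21) (kf xf15 yf18 zf8) (kf xf15 yf18 zf9) (kf xf21 yf2 zf1) (kf xf15 yf18 zf6) (kf xf15 yf18 zf7) (kf xf21 yf2 zf4) (kf xf15 yf53 zf43) (kf xf15 yf53 zf25) (kf xf22 yf28 zf13) (kf xf16 yf11 zf53) (kf xf16 yf11 zf52) (kf xf8 yf10 zf0) (kf xf11 yf2 zf45) (kf xf11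 yf2 zf46) (kf xf11 yf2 zf47) (kf xf14 yf49 zf18) (kf xf8 yf41 zf24) (kf xf24 yf41 zf34) (kf xf8 yf10 zf2) (kf xf9 yf0 zf59) (kf xf15 yf53 zf10) (kf xf15 yf53 zf11) (kf xf25 yf14 zf53) (kf xf15 yf53 zf13) (kf xf15 yf53 zf14)) (@D3.rec (fun _ => Pt) (kf xf25 yf14 zf61) (kf xf14 yf51 zf9) (kf xf25 yf15 zf1) (kf xf25 yf15 zf0) (kf xf25 yf15 zf12) (kf xf8 yf10 zf8) (kf xf11 yf9 zf22) (kf xf25 yf15 zf18) (kf xf8 yf10 zf9) (kf xf8 yf18 zf6) (kf xf9 yf33 zf51) (kf xf9 yf52 zf61) (kf xf11 yf9 zf31) (kf xf11 yf9 zf32) (kf xf9 yf53 zf15) (kf xf9 yf33 zf54) (kf xf11 yf9 zf28) (kf xf11 yf9 zf29) (kf xf11 yf9 zf35) (kf xf11 yf9 zf36) (kf xf11 yf9 zf37) (kf xf10 yf50 zf27) (kf xf11 yf9 zf33) (kf xf25 yf15 zf38) (kf xf25 yf15 zf41) (kf xf8 yf10 zf19) (kf xf16 yf14 zf55) (kf xf16 yf14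 zf56) (kf xf16 yf14 zf57) (kf xf16 yf14 zf58) (kf xf25 yf15 zf49) (kf xf11 yf6 zf9) (kf xf16 yf20 zf42) (kf xf25 yf15 zf55) (kf xf11 yf9 zf46) (kf xf25 yf15 zf57) (kf xf15 yf8 zf45) (kf xf8 yf10 zf29) (kf xf18 yf18 zf54) (kf xf25 yf16 zf1) (kf xf20 yf32 zf23) (kf xf25 yf16 zf5) (kf xf11 yf34 zf40) (kf xf18 yf23 zf46) (kf xf11 yf33 zf41) (kf xf25 yf16 zf9) (kf xf20 yf33 zf6) (kf xf20 yf30 zf1) (kf xf25 yf16 zf14) (kf xf8 yf10 zf37) (kf xf21 yf2 zf40) (kf xf21 yf2 zf41) (kf xf21 yf2 zf42) (kf xf15 yf14 zf54) (kf xf15 yf14 zf55) (kf xf15 yf50 zf35) (kf xf25 yf16 zf26) (kf xf15 yf50 zf33) (kf xf25 yf16 zf29) (kf xf8 yf10 zf45) (kf xf15 yf50 zf38) (kf xf8 yf18 zf59)) (@D3.rec (fun _ => Pt) (kf xf8 yf18 zf60) (kf xf17 yf45 zf3) (kf xf8 yf39 zf59) (kf xf8 yf39 zf60) (kf xf21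 yf31 zf16) (kf xf15 yf47 zf36) (kf xf15 yf47 zf37) (kf xf15 yf47 zf38) (kf xf15 yf47 zf39) (kf xf8 yf18 zf0) (kf xf8 yf39 zf54) (kf xf15 yf24 zf50) (kf xf16 yf8 zf40) (kf xf16 yf1 zf42) (kf xf16 yf8 zf41) (kf xf16 yf8 zf42) (kf xf25 yf16 zf46) (kf xf8 yf11 zf11) (kf xf8 yf11 zf12) (kf xf19 yf10 zf58) (kf xf8 yf11 zf33) (kf xf8 yf11 zf34) (kf xf25 yf16 zf49) (kf xf8 yf11 zf29) (kf xf8 yf10 zf56) (kf xf8 yf11 zf40) (kf xf16 yf36 zf7) (kf xf18 yf57 zf1) (kf xf9 yf40 zf61) (kf xf15 yf51 zf26) (kf xf15 yf28 zf15) (kf xf20 yf56 zf14) (kf xf15 yf27 zf50) (kf xf15 yf27 zf49) (kf xf8 yf11 zf2) (kf xf12 yf7 zf16) (kf xf19 yf18 zf20) (kf xf17 yf39 zf41) (kf xf8 yf11 zf5) (kf xf12 yf57 zf61) (kf xf15 yf25 zf40) (kf xf25 yf16 zf58) (kf xf9 yf56 zf55) (kf xf9 yf56 zf54) (kf xf8 yf11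 zf8) (kf xf18 yf17 zf42) (kf xf15 yf25 zf16) (kf xf19 yf15 zf4) (kf xf18 yf17 zf38) (kf xf15 yf25 zf17) (kf xf15 yf24 zf11) (kf xf22 yf5 zf19) (kf xf23 yf42 zf37) (kf xf8 yf15 zf45) (kf xf18 yf17 zf50) (kf xf18 yf17 zf49) (kf xf8 yf11 zf13) (kf xf19 yf6 zf47) (kf xf10 yf19 zf58) (kf xf10 yf46 zf42) (kf xf9 yf41 zf43) (kf xf8 yf11 zf18)) (@D3.rec (fun _ => Pt) (kf xf9 yf49 zf15) (kf xf25 yf17 zf18) (kf xf11 yf37 zf41) (kf xf9 yf41 zf24) (kf xf25 yf17 zf20) (kf xf8 yf11 zf21) (kf xf15 yf30 zf5) (kf xf16 yf11 zf5) (kf xf8 yf11 zf24) (kf xf8 yf15 zf44) (kf xf9 yf42 zf7) (kf xf20 yf57 zf44) (kf xf20 yf57 zf45) (kf xf20 yf57 zf42) (kf xf20 yf57 zf46) (kf xf25 yf17 zf34) (kf xf15 yf24 zf46) (kf xf15 yf24 zf49) (kf xf19 yf59 zf1) (kf xf20 yf16 zf15) (kf xf20 yf16 zf11) (kf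 xf25 yf17 zf39) (kf xf8 yf11 zf28) (kf xf19 yf7 zf40) (kf xf15 yf47 zf47) (kf xf15 yf30 zf8) (kf xf9 yf42 zf41) (kf xf8 yf11 zf32) (kf xf12 yf55 zf56) (kf xf12 yf55 zf55) (kf xf22 yf5 zf8) (kf xf21 yf13 zf53) (kf xf18 yf2 zf25) (kf xf24 yf49 zf60) (kf xf14 yf47 zf12) (kf xf8 yf11 zf35) (kf xf9 yf42 zf22) (kf xf22 yf5 zf60) (kf xf20 yf13 zf51) (kf xf24 yf32 zf17) (kf xf15 yf24 zf40) (kf xf19 yf57 zf33) (kf xf8 yf11 zf41) (kf xf19 yf7 zf37) (kf xf17 yf33 zf51) (kf xf19 yf7 zf38) (kf xf20 yf53 zf46) (kf xf16 yf24 zf2) (kf xf11 yf51 zf20) (kf xf18 yf39 zf47) (kf xf12 yf21 zf59) (kf xf25 yf17 zf51) (kf xf25 yf16 zf51) (kf xf20 yf52 zf19) (kf xf8 yf11 zf48) (kf xf12 yf26 zf26) (kf xf9 yf43 zf20) (kf xf9 yf43 zf22) (kf xf9 yf43 zf23) (kf xf9 yf38 zf51) (kf xf9 yf43 zf27) (kf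 xf9 yf43 zf28)) (@D3.rec (fun _ => Pt) (kf xf15 yf51 zf9) (kf xf15 yf16 zf40) (kf xf9 yf36 zf29) (kf xf15 yf28 zf25) (kf xf15 yf16 zf39) (kf xf15 yf28 zf44) (kf xf9 yf37 zf31) (kf xf15 yf30 zf36) (kf xf9 yf44 zf28) (kf xf11 yf58 zf21) (kf xf9 yf2 zf42) (kf xf11 yf58 zf27) (kf xf11 yf58 zf5) (kf xf11 yf57 zf49) (kf xf10 yf5 zf45) (kf xf11 yf57 zf50) (kf xf11 yf57 zf56) (kf xf21 yf37 zf28) (kf xf8 yf12 zf27) (kf xf12 yf9 zf29) (kf xf17 yf2 zf56) (kf xf12 yf9 zf40) (kf xf20 yf32 zf26) (kf xf25 yf18 zf15) (kf xf8 yf12 zf21) (kf xf11 yf6 zf44) (kf xf17 yf25 zf32) (kf xf20 yf33 zf39) (kf xf8 yf12 zf24) (kf xf9 yf47 zf32) (kf xf21 yf57 zf9) (kf xf11 yf8 zf0) (kf xf11 yf32 zf10) (kf xf20 yf32 zf25) (kf xf25 yf18 zf26) (kf xf12 yf9 zf54) (kf xf11 yf33 zf8) (kf xf14 yf20 zf8)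 (kf xf14 yf20 zf9) (kf xf12 yf45 zf19) (kf xf10 yf55 zf19) (kf xf11 yf32 zf11) (kf xf17 yf18 zf6) (kf xf11 yf35 zf41) (kf xf8 yf12 zf48) (kf xf17 yf11 zf41) (kf xf20 yf33 zf14) (kf xf22 yf17 zf57) (kf xf20 yf33 zf37) (kf xf20 yf33 zf15) (kf xf21 yf3 zf24) (kf xf12 yf29 zf16) (kf xf14 yf20 zf23) (kf xf11 yf33 zf51) (kf xf11 yf33 zf52) (kf xf11 yf34 zf16) (kf xf15 yf30 zf30) (kf xf15 yf30 zf31) (kf xf18 yf23 zf18) (kf xf20 yf33 zf13) (kf xf22 yf52 zf20) (kf xf25 yf18 zf44)) (@D3.rec (fun _ => Pt) (kf xf8 yf12 zf44) (kf xf17 yf17 zf1) (kf xf25 yf18 zf47) (kf xf8 yf12 zf45) (kf xf25 yf18 zf48) (kf xf18 yf25 zf14) (kf xf8 yf12 zf50) (kf xf18 yf25 zf58) (kf xf21 yf37 zf22) (kf xf15 yf30 zf28) (kf xf13 yf20 zf46) (kf xf11 yf29 zf21) (kf xf15 yf30 zf48) (kf xf15 yf30 zf46)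 (kf xf8 yf31 zf30) (kf xf8 yf31 zf31) (kf xf17 yf42 zf9) (kf xf11 yf19 zf22) (kf xf11 yf19 zf24) (kf xf16 yf7 zf12) (kf xf8 yf30 zf49) (kf xf25 yf17 zf4) (kf xf12 yf59 zf44) (kf xf12 yf59 zf45) (kf xf15 yf49 zf11) (kf xf25 yf17 zf29) (kf xf8 yf13 zf33) (kf xf8 yf13 zf34) (kf xf8 yf13 zf22) (kf xf8 yf13 zf23) (kf xf8 yf13 zf45) (kf xf8 yf13 zf46) (kf xf25 yf19 zf19) (kf xf8 yf13 zf41) (kf xf8 yf13 zf5) (kf xf25 yf19 zf23) (kf xf25 yf19 zf20) (kf xf12 yf56 zf0) (kf xf11 yf54 zf17) (kf xf8 yf13 zf6) (kf xf25 yf19 zf34) (kf xf15 yf1 zf13) (kf xf17 yf35 zf42) (kf xf19 yf7 zf23) (kf xf8 yf13 zf12) (kf xf8 yf23 zf60) (kf xf25 yf19 zf39) (kf xf11 yf54 zf8) (kf xf19 yf19 zf14) (kf xf15 yf24 zf33) (kf xf15 yf24 zf32) (kf xf8 yf13 zf16) (kf xf20 yf55 zf48) (kf xf15 yf29 zf1) (kf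 xf20 yf5 zf10) (kf xf10 yf11 zf14) (kf xf19 yf11 zf14) (kf xf15 yf28 zf35) (kf xf19 yf20 zf17) (kf xf15 yf2 zf10) (kf xf15 yf28 zf36) (kf xf15 yf1 zf58)) (@D3.rec (fun _ => Pt) (kf xf25 yf19 zf8) (kf xf25 yf19 zf9) (kf xf25 yf19 zf10) (kf xf24 yf50 zf44) (kf xf24 yf1 zf23) (kf xf8 yf29 zf9) (kf xf25 yf20 zf4) (kf xf17 yf51 zf37) (kf xf17 yf51 zf36) (kf xf25 yf20 zf10) (kf xf8 yf13 zf24) (kf xf17 yf51 zf34) (kf xf11 yf57 zf8) (kf xf10 yf24 zf4) (kf xf10 yf24 zf13) (kf xf15 yf24 zf30) (kf xf16 yf37 zf32) (kf xf25 yf19 zf4) (kf xf25 yf19 zf5) (kf xf25 yf19 zf6) (kf xf12 yf57 zf45) (kf xf19 yf58 zf24) (kf xf25 yf20 zf28) (kf xf15 yf1 zf32) (kf xf19 yf58 zf25) (kf xf15 yf26 zf3) (kf xf17 yf35 zf44) (kf xf8 yf13 zf36) (kf xf8 yf29 zf8) (kf xf15 yf2 zf3) (kf xf17 yf50 zf0)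 (kf xf17 yf50 zf1) (kf xf17 yf50 zf2) (kf xf16 yf12 zf53) (kf xf25 yf20 zf52) (kf xf15 yf27 zf57) (kf xf15 yf27 zf60) (kf xf25 yf20 zf58) (kf xf19 yf25 zf41) (kf xf25 yf19 zf17) (kf xf25 yf21 zf4) (kf xf8 yf13 zf40) (kf xf20 yf56 zf41) (kf xf16 yf7 zf17) (kf xf15 yf26 zf5) (kf xf10 yf24 zf20) (kf xf10 yf24 zf19) (kf xf8 yf13 zf44) (kf xf25 yf19 zf12) (kf xf25 yf19 zf13) (kf xf25 yf19 zf14) (kf xf8 yf14 zf30) (kf xf25 yf21 zf14) (kf xf25 yf21 zf18) (kf xf17 yf49 zf58) (kf xf17 yf49 zf57) (kf xf25 yf21 zf24) (kf xf8 yf13 zf47) (kf xf17 yf49 zf55) (kf xf19 yf11 zf15) (kf xf19 yf11 zf16) (kf xf19 yf11 zf17)) (@D3.rec (fun _ => Pt) (kf xf25 yf21 zf34) (kf xf15 yf27 zf53) (kf xf25 yf21 zf40) (kf xf25 yf21 zf43) (kf xf8 yf13 zf52) (kf xf25 yf21 zf47) (kf xf25 yf21 zf49) (kf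 xf8 yf13 zf54) (kf xf8 yf13 zf57) (kf xf15 yf56 zf36) (kf xf25 yf19 zf24) (kf xf25 yf21 zf58) (kf xf8 yf13 zf55) (kf xf19 yf26 zf58) (kf xf19 yf26 zf59) (kf xf25 yf21 zf50) (kf xf22 yf7 zf38) (kf xf22 yf7 zf37) (kf xf18 yf52 zf24) (kf xf25 yf22 zf10) (kf xf8 yf13 zf58) (kf xf10 yf54 zf40) (kf xf20 yf55 zf53) (kf xf25 yf22 zf18) (kf xf25 yf22 zf22) (kf xf11 yf52 zf33) (kf xf25 yf22 zf28) (kf xf25 yf19 zf33) (kf xf25 yf19 zf32) (kf xf8 yf14 zf1) (kf xf25 yf22 zf35) (kf xf15 yf3 zf8) (kf xf15 yf3 zf9) (kf xf15 yf3 zf11) (kf xf11 yf6 zf3) (kf xf9 yf36 zf48) (kf xf15 yf3 zf13) (kf xf11 yf6 zf4) (kf xf11 yf57 zf13) (kf xf11 yf57 zf14) (kf xf11 yf57 zf16) (kf xf23 yf42 zf55) (kf xf10 yf1 zf12) (kf xf25 yf22 zf49) (kf xf8 yf14 zf8) (kf xf11 yf56 zf48) (kf xf11 yf56 zf50) (kf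 xf15 yf18 zf55) (kf xf11 yf56 zf51) (kf xf11 yf56 zf52) (kf xf11 yf56 zf53) (kf xf11 yf56 zf54) (kf xf19 yf32 zf42) (kf xf25 yf23 zf0) (kf xf19 yf58 zf43) (kf xf11 yf57 zf4) (kf xf11 yf57 zf6) (kf xf11 yf57 zf7) (kf xf20 yf4 zf53) (kf xf25 yf23 zf11) (kf xf16 yf9 zf53) (kf xf16 yf9 zf52)) (@D3.rec (fun _ => Pt) (kf xf25 yf23 zf18) (kf xf8 yf14 zf21) (kf xf10 yf24 zf16) (kf xf16 yf9 zf57) (kf xf9 yf38 zf38) (kf xf15 yf25 zf6) (kf xf16 yf9 zf55) (kf xf15 yf49 zf4) (kf xf15 yf25 zf25) (kf xf9 yf39 zf17) (kf xf10 yf54 zf37) (kf xf8 yf14 zf33) (kf xf8 yf14 zf34) (kf xf9 yf6 zf41) (kf xf12 yf54 zf33) (kf xf20 yf36 zf55) (kf xf21 yf1 zf0) (kf xf17 yf32 zf41) (kf xf25 yf23 zf36) (kf xf20 yf5 zf26) (kf xf9 yf1 zf27) (kf xf8 yf14 zf31) (kf xf13 yf2 zf23) (kf xf20 yf58 zf1) (kf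 xf16 yf12 zf52) (kf xf9 yf17 zf2) (kf xf11 yf30 zf27) (kf xf11 yf30 zf29) (kf xf15 yf27 zf9) (kf xf9 yf22 zf35) (kf xf15 yf26 zf56) (kf xf15 yf26 zf57) (kf xf20 yf23 zf11) (kf xf10 yf54 zf41) (kf xf10 yf54 zf42) (kf xf10 yf54 zf43) (kf xf15 yf26 zf7) (kf xf11 yf31 zf23) (kf xf10 yf48 zf37) (kf xf10 yf54 zf46) (kf xf15 yf4 zf43) (kf xf8 yf25 zf56) (kf xf20 yf51 zf55) (kf xf10 yf6 zf44) (kf xf10 yf6 zf43) (kf xf11 yf57 zf31) (kf xf15 yf27 zf13) (kf xf10 yf6 zf9) (kf xf15 yf27 zf12) (kf xf15 yf32 zf10) (kf xf10 yf54 zf2) (kf xf9 yf52 zf25) (kf xf8 yf15 zf2) (kf xf9 yf52 zf21) (kf xf10 yf53 zf33) (kf xf8 yf26 zf54) (kf xf8 yf15 zf4) (kf xf25 yf23 zf55) (kf xf9 yf53 zf21) (kf xf8 yf15 zf6) (kf xf9 yf58 zf35) (kf xf14 yf13 zf38)) (@D3.rec (fun _ => Pt) (kf xf18 yf54 zf17)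 (kf xf18 yf54 zf18) (kf xf18 yf54 zf19) (kf xf15 yf33 zf8) (kf xf20 yf11 zf48) (kf xf15 yf32 zf19) (kf xf15 yf32 zf20) (kf xf15 yf32 zf21) (kf xf15 yf32 zf22) (kf xf15 yf32 zf23) (kf xf23 yf11 zf19) (kf xf15 yf40 zf33) (kf xf11 yf54 zf40) (kf xf11 yf54 zf39) (kf xf17 yf10 zf29) (kf xf8 yf15 zf13) (kf xf11 yf54 zf44) (kf xf11 yf54 zf43) (kf xf10 yf47 zf29) (kf xf15 yf32 zf27) (kf xf15 yf32 zf28) (kf xf15 yf32 zf29) (kf xf15 yf32 zf30) (kf xf24 yf3 zf33) (kf xf14 yf11 zf5) (kf xf11 yf55 zf26) (kf xf10 yf52 zf1) (kf xf8 yf15 zf19) (kf xf11 yf55 zf31) (kf xf15 yf32 zf46) (kf xf15 yf32 zf47) (kf xf15 yf32 zf48) (kf xf15 yf59 zf24) (kf xf15 yf32 zf38) (kf xf15 yf32 zf39) (kf xf15 yf32 zf40) (kf xf15 yf32 zf41) (kf xf20 yf50 zf16) (kf xf12 yf51 zf38) (kf xf8 yf15 zf27) (kf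 xf8 yf15 zf30) (kf xf8 yf15 zf29) (kf xf16 yf10 zf9) (kf xf24 yf38 zf9) (kf xf25 yf24 zf52) (kf xf8 yf15 zf28) (kf xf25 yf24 zf46) (kf xf15 yf52 zf55) (kf xf23 yf7 zf56) (kf xf8 yf15 zf31) (kf xf15 yf15 zf52) (kf xf15 yf33 zf6) (kf xf25 yf24 zf61) (kf xf15 yf33 zf4) (kf xf25 yf25 zf5) (kf xf15 yf32 zf15) (kf xf25 yf25 zf11) (kf xf15 yf33 zf11) (kf xf15 yf33 zf10) (kf xf8 yf15 zf36) (kf xf25 yf25 zf13) (kf xf15 yf16 zf2)) (@D3.rec (fun _ => Pt) (kf xf10 yf33 zf8) (kf xf16 yf49 zf16) (kf xf8 yf15 zf42) (kf xf10 yf38 zf54) (kf xf8 yf15 zf43) (kf xf25 yf17 zf22) (kf xf25 yf17 zf23) (kf xf25 yf17 zf24) (kf xf25 yf17 zf8) (kf xf25 yf25 zf31) (kf xf15 yf30 zf49) (kf xf10 yf7 zf20) (kf xf10 yf27 zf16) (kf xf19 yf1 zf55) (kf xf25 yf25 zf34) (kf xf15 yf31 zf55) (kf xf8 yf15 zf52)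 (kf xf17 yf11 zf38) (kf xf15 yf36 zf17) (kf xf15 yf31 zf5) (kf xf15 yf31 zf6) (kf xf15 yf31 zf7) (kf xf15 yf31 zf8) (kf xf15 yf31 zf9) (kf xf17 yf22 zf16) (kf xf8 yf19 zf48) (kf xf8 yf55 zf53) (kf xf15 yf31 zf19) (kf xf15 yf31 zf20) (kf xf15 yf31 zf21) (kf xf15 yf31 zf22) (kf xf12 yf32 zf59) (kf xf10 yf44 zf40) (kf xf10 yf44 zf39) (kf xf8 yf16 zf1) (kf xf10 yf44 zf45) (kf xf8 yf57 zf17) (kf xf10 yf44 zf43) (kf xf15 yf31 zf33) (kf xf15 yf31 zf34) (kf xf15 yf31 zf35) (kf xf15 yf31 zf36) (kf xf25 yf26 zf4) (kf xf8 yf30 zf36) (kf xf8 yf29 zf43) (kf xf8 yf16 zf7) (kf xf15 yf31 zf29) (kf xf15 yf31 zf30) (kf xf15 yf31 zf31) (kf xf14 yf35 zf32) (kf xf25 yf26 zf9) (kf xf8 yf31 zf1) (kf xf8 yf16 zf10) (kf xf8 yf16 zf13) (kf xf8 yf16 zf12) (kf xf25 yf26 zf15) (kf xf9 yf31 zf56)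 (kf xf25 yf26 zf19) (kf xf25 yf26 zf21) (kf xf8 yf16 zf11) (kf xf25 yf26 zf11) (kf xf15 yf37 zf6)) (@D3.rec (fun _ => Pt) (kf xf24 yf13 zf44) (kf xf25 yf26 zf31) (kf xf8 yf16 zf14) (kf xf10 yf49 zf58) (kf xf15 yf31 zf53) (kf xf16 yf46 zf47) (kf xf15 yf31 zf51) (kf xf16 yf7 zf6) (kf xf15 yf31 zf3) (kf xf25 yf26 zf47) (kf xf15 yf31 zf58) (kf xf15 yf31 zf57) (kf xf8 yf16 zf19) (kf xf25 yf26 zf49) (kf xf10 yf49 zf61) (kf xf8 yf17 zf61) (kf xf15 yf48 zf43) (kf xf8 yf20 zf58) (kf xf8 yf16 zf23) (kf xf8 yf18 zf7) (kf xf19 yf31 zf5) (kf xf8 yf17 zf14) (kf xf8 yf16 zf25) (kf xf8 yf17 zf17) (kf xf8 yf18 zf14) (kf xf8 yf18 zf15) (kf xf8 yf18 zf16) (kf xf8 yf18 zf17) (kf xf12 yf21 zf0) (kf xf25 yf27 zf3) (kf xf8 yf17 zf41) (kf xf8 yf17 zf40) (kf xf25 yf27 zf8) (kf xf8 yf16 zf29)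 (kf xf8 yf17 zf44) (kf xf15 yf41 zf17) (kf xf8 yf17 zf32) (kf xf8 yf17 zf33) (kf xf8 yf17 zf34) (kf xf8 yf17 zf35) (kf xf25 yf27 zf19) (kf xf25 yf5 zf49) (kf xf25 yf27 zf23) (kf xf8 yf16 zf34) (kf xf8 yf18 zf25) (kf xf8 yf22 zf14) (kf xf8 yf19 zf4) (kf xf8 yf19 zf5) (kf xf8 yf19 zf6) (kf xf8 yf19 zf7) (kf xf21 yf17 zf3) (kf xf25 yf27 zf32) (kf xf8 yf18 zf49) (kf xf8 yf18 zf48) (kf xf25 yf27 zf38) (kf xf8 yf16 zf40) (kf xf8 yf18 zf53) (kf xf10 yf50 zf59) (kf xf8 yf18 zf40) (kf xf8 yf18 zf41) (kf xf8 yf18 zf42) (kf xf8 yf18 zf43)) (@D3.rec (fun _ => Pt) (kf xf25 yf27 zf46) (kf xf25 yf26 zf48) (kf xf8 yf19 zf11) (kf xf8 yf19 zf10) (kf xf23 yf13 zf30) (kf xf8 yf16 zf45) (kf xf8 yf19 zf16) (kf xf10 yf46 zf28) (kf xf8 yf19 zf32) (kf xf8 yf19 zf33) (kf xf8 yf19 zf34) (kf xf8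 yf19 zf35) (kf xf20 yf44 zf5) (kf xf20 yf43 zf26) (kf xf20 yf43 zf57) (kf xf8 yf16 zf50) (kf xf8 yf19 zf20) (kf xf8 yf19 zf21) (kf xf8 yf19 zf22) (kf xf25 yf28 zf9) (kf xf22 yf59 zf35) (kf xf8 yf16 zf53) (kf xf8 yf16 zf55) (kf xf25 yf28 zf17) (kf xf25 yf7 zf1) (kf xf16 yf27 zf7) (kf xf25 yf9 zf0) (kf xf8 yf16 zf54) (kf xf25 yf28 zf10) (kf xf25 yf7 zf2) (kf xf25 yf28 zf11) (kf xf22 yf9 zf39) (kf xf25 yf5 zf45) (kf xf25 yf5 zf43) (kf xf25 yf5 zf44) (kf xf22 yf48 zf3) (kf xf22 yf54 zf30) (kf xf8 yf19 zf56) (kf xf25 yf28 zf42) (kf xf8 yf19 zf54) (kf xf15 yf41 zf2) (kf xf8 yf19 zf60) (kf xf8 yf16 zf61) (kf xf9 yf34 zf15) (kf xf17 yf38 zf28) (kf xf17 yf38 zf29) (kf xf17 yf38 zf30) (kf xf9 yf36 zf17) (kf xf23 yf44 zf17) (kf xf25 yf28 zf60) (kf xf9 yf34 zf38) (kf xf23 yf44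 zf14) (kf xf8 yf17 zf4) (kf xf8 yf40 zf51) (kf xf25 yf28 zf61) (kf xf11 yf2 zf57) (kf xf11 yf2 zf56) (kf xf8 yf17 zf10) (kf xf24 yf50 zf1) (kf xf24 yf50 zf2) (kf xf24 yf50 zf3) (kf xf24 yf11 zf40)) (@D3.rec (fun _ => Pt) (kf xf25 yf29 zf9) (kf xf8 yf17 zf13) (kf xf9 yf41 zf4) (kf xf8 yf26 zf38) (kf xf18 yf52 zf29) (kf xf25 yf26 zf56) (kf xf25 yf26 zf57) (kf xf22 yf2 zf9) (kf xf15 yf39 zf36) (kf xf25 yf7 zf43) (kf xf16 yf3 zf43) (kf xf16 yf3 zf42) (kf xf8 yf17 zf19) (kf xf15 yf18 zf41) (kf xf16 yf3 zf46) (kf xf16 yf3 zf45) (kf xf12 yf11 zf44) (kf xf15 yf39 zf37) (kf xf19 yf35 zf42) (kf xf19 yf35 zf43) (kf xf19 yf35 zf44) (kf xf15 yf38 zf7) (kf xf8 yf17 zf28) (kf xf19 yf35 zf46) (kf xf19 yf35 zf47) (kf xf19 yf35 zf48) (kf xf15 yf38 zf8) (kf xf15 yf59 zf28) (kf xf16 yf19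 zf8) (kf xf25 yf27 zf10) (kf xf15 yf37 zf61) (kf xf25 yf29 zf47) (kf xf25 yf27 zf12) (kf xf17 yf37 zf46) (kf xf15 yf38 zf0) (kf xf25 yf29 zf57) (kf xf25 yf27 zf14) (kf xf25 yf30 zf0) (kf xf25 yf27 zf16) (kf xf20 yf29 zf19) (kf xf25 yf27 zf17) (kf xf25 yf30 zf9) (kf xf18 yf8 zf1) (kf xf25 yf29 zf60) (kf xf25 yf30 zf14) (kf xf8 yf17 zf36) (kf xf18 yf52 zf18) (kf xf22 yf52 zf46) (kf xf19 yf35 zf38) (kf xf25 yf5 zf35) (kf xf19 yf37 zf59) (kf xf19 yf37 zf55) (kf xf25 yf30 zf22) (kf xf8 yf17 zf39) (kf xf25 yf7 zf31) (kf xf25 yf27 zf6) (kf xf25 yf27 zf4) (kf xf25 yf27 zf5) (kf xf15 yf58 zf53) (kf xf16 yf0 zf34) (kf xf16 yf0 zf31) (kf xf25 yf30 zf43)) (@D3.rec (fun _ => Pt) (kf xf8 yf17 zf42) (kf xf8 yf42 zf35) (kf xf17 yf36 zf23) (kf xf25 yf27 zf9) (kf xf10 yf24 zf53) (kf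 xf15 yf39 zf8) (kf xf16 yf3 zf58) (kf xf15 yf58 zf58) (kf xf10 yf21 zf21) (kf xf18 yf51 zf46) (kf xf10 yf21 zf16) (kf xf10 yf21 zf15) (kf xf24 yf38 zf54) (kf xf24 yf38 zf52) (kf xf8 yf17 zf49) (kf xf8 yf26 zf19) (kf xf8 yf26 zf20) (kf xf15 yf32 zf18) (kf xf10 yf20 zf50) (kf xf10 yf20 zf51) (kf xf10 yf20 zf52) (kf xf25 yf30 zf61) (kf xf8 yf39 zf53) (kf xf15 yf49 zf25) (kf xf8 yf17 zf56) (kf xf9 yf41 zf1) (kf xf10 yf53 zf12) (kf xf8 yf17 zf58) (kf xf15 yf18 zf40) (kf xf8 yf17 zf60) (kf xf17 yf50 zf58) (kf xf17 yf50 zf59) (kf xf21 yf25 zf43) (kf xf18 yf12 zf29) (kf xf25 yf31 zf8) (kf xf19 yf57 zf35) (kf xf8 yf36 zf11) (kf xf25 yf31 zf14) (kf xf8 yf18 zf1) (kf xf8 yf29 zf7) (kf xf8 yf40 zf52) (kf xf9 yf41 zf8) (kf xf10 yf38 zf17) (kf xf10 yf52 zf24) (kf xf19 yf15 zf9) (kf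 xf25 yf26 zf53) (kf xf25 yf15 zf10) (kf xf25 yf31 zf23) (kf xf8 yf18 zf8) (kf xf11 yf54 zf58) (kf xf16 yf8 zf57) (kf xf16 yf8 zf56) (kf xf15 yf37 zf16) (kf xf8 yf18 zf11) (kf xf8 yf30 zf23) (kf xf25 yf26 zf58) (kf xf17 yf50 zf61) (kf xf15 yf38 zf49) (kf xf15 yf59 zf23) (kf xf12 yf52 zf16) (kf xf12 yf20 zf49) (kf xf15 yf38 zf50)) (@D3.rec (fun _ => Pt) (kf xf12 yf50 zf36) (kf xf25 yf26 zf60) (kf xf25 yf31 zf40) (kf xf18 yf12 zf24) (kf xf25 yf26 zf61) (kf xf25 yf27 zf0) (kf xf15 yf32 zf61) (kf xf15 yf59 zf13) (kf xf12 yf26 zf9) (kf xf25 yf31 zf49) (kf xf8 yf18 zf18) (kf xf8 yf19 zf59) (kf xf25 yf31 zf51) (kf xf8 yf18 zf19) (kf xf15 yf58 zf27) (kf xf15 yf58 zf29) (kf xf15 yf36 zf52) (kf xf19 yf36 zf5) (kf xf19 yf36 zf6) (kf xf25 yf27 zf21) (kf xf22 yf2 zf5) (kf xf25 yf32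 zf7) (kf xf8 yf18 zf22) (kf xf10 yf50 zf4) (kf xf15 yf58 zf16) (kf xf25 yf27 zf24) (kf xf25 yf27 zf25) (kf xf10 yf46 zf30) (kf xf10 yf46 zf27) (kf xf10 yf46 zf24) (kf xf10 yf46 zf23) (kf xf25 yf32 zf28) (kf xf25 yf32 zf32) (kf xf8 yf18 zf28) (kf xf10 yf46 zf36) (kf xf10 yf46 zf37) (kf xf10 yf46 zf38) (kf xf10 yf46 zf39) (kf xf25 yf32 zf38) (kf xf9 yf35 zf55) (kf xf9 yf35 zf56) (kf xf9 yf35 zf57) (kf xf9 yf35 zf58) (kf xf25 yf9 zf55) (kf xf17 yf38 zf35) (kf xf9 yf35 zf20) (kf xf25 yf9 zf56) (kf xf15 yf9 zf40) (kf xf18 yf52 zf15) (kf xf18 yf52 zf16) (kf xf18 yf52 zf17) (kf xf8 yf23 zf29) (kf xf19 yf35 zf36) (kf xf19 yf35 zf37) (kf xf16 yf17 zf10) (kf xf17 yf42 zf46) (kf xf15 yf59 zf42) (kf xf11 yf4 zf39) (kf xf17 yf39 zf1) (kf xf25 yf27 zf39) (kf xf25 yf33 zf4) (kf xf15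 yf35 zf30)) (@D3.rec (fun _ => Pt) (kf xf15 yf35 zf34) (kf xf25 yf27 zf41) (kf xf25 yf33 zf12) (kf xf25 yf33 zf2) (kf xf25 yf13 zf16) (kf xf24 yf37 zf52) (kf xf8 yf18 zf44) (kf xf15 yf35 zf21) (kf xf15 yf35 zf26) (kf xf19 yf45 zf45) (kf xf19 yf45 zf41) (kf xf25 yf33 zf28) (kf xf8 yf18 zf47) (kf xf17 yf29 zf34) (kf xf25 yf13 zf6) (kf xf25 yf27 zf33) (kf xf25 yf27 zf34) (kf xf16 yf0 zf32) (kf xf25 yf27 zf36) (kf xf25 yf27 zf35) (kf xf25 yf33 zf47) (kf xf8 yf18 zf50) (kf xf15 yf22 zf7) (kf xf15 yf22 zf6) (kf xf19 yf35 zf2) (kf xf16 yf5 zf56) (kf xf16 yf0 zf38) (kf xf10 yf51 zf47) (kf xf10 yf51 zf48) (kf xf8 yf18 zf58) (kf xf25 yf16 zf32) (kf xf25 yf16 zf33) (kf xf25 yf16 zf34) (kf xf25 yf33 zf56) (kf xf9 yf37 zf9) (kf xf9 yf37 zf6) (kf xf21 yf7 zf47) (kf xf8 yf18 zf61)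 (kf xf21 yf23 zf53) (kf xf10 yf2 zf2) (kf xf18 yf31 zf43) (kf xf8 yf19 zf2) (kf xf25 yf27 zf26) (kf xf19 yf17 zf15) (kf xf8 yf23 zf16) (kf xf16 yf6 zf52) (kf xf16 yf0 zf18) (kf xf25 yf27 zf28) (kf xf21 yf5 zf3) (kf xf15 yf36 zf57) (kf xf15 yf36 zf61) (kf xf18 yf9 zf9) (kf xf25 yf34 zf14) (kf xf21 yf5 zf4) (kf xf8 yf19 zf8) (kf xf25 yf27 zf47) (kf xf13 yf32 zf11) (kf xf8 yf19 zf9) (kf xf25 yf27 zf49) (kf xf15 yf6 zf44) (kf xf15 yf58 zf55) (kf xf16 yf0 zf2)) (@D3.rec (fun _ => Pt) (kf xf15 yf58 zf54) (kf xf23 yf13 zf31) (kf xf23 yf13 zf32) (kf xf16 yf6 zf43) (kf xf16 yf0 zf6) (kf xf8 yf20 zf11) (kf xf22 yf9 zf41) (kf xf21 yf0 zf20) (kf xf15 yf36 zf5) (kf xf10 yf20 zf14) (kf xf10 yf20 zf13) (kf xf22 yf14 zf59) (kf xf8 yf19 zf18) (kf xf25 yf28 zf0) (kf xf25 yf28 zf1) (kf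 xf25 yf28 zf2) (kf xf16 yf0 zf49) (kf xf25 yf28 zf3) (kf xf25 yf28 zf4) (kf xf25 yf28 zf5) (kf xf20 yf54 zf44) (kf xf22 yf48 zf41) (kf xf25 yf34 zf42) (kf xf16 yf5 zf54) (kf xf20 yf54 zf43) (kf xf20 yf54 zf45) (kf xf25 yf34 zf46) (kf xf22 yf57 zf24) (kf xf22 yf57 zf25) (kf xf14 yf52 zf24) (kf xf25 yf34 zf41) (kf xf25 yf34 zf40) (kf xf25 yf34 zf59) (kf xf8 yf19 zf25) (kf xf9 yf37 zf43) (kf xf8 yf19 zf26) (kf xf15 yf35 zf8) (kf xf15 yf35 zf17) (kf xf15 yf20 zf11) (kf xf25 yf27 zf59) (kf xf20 yf43 zf25) (kf xf8 yf19 zf29) (kf xf25 yf27 zf60) (kf xf10 yf51 zf60) (kf xf25 yf35 zf5) (kf xf8 yf19 zf30) (kf xf25 yf27 zf51) (kf xf25 yf27 zf52) (kf xf22 yf21 zf1) (kf xf22 yf9 zf45) (kf xf16 yf16 zf41) (kf xf25 yf27 zf54) (kf xf16 yf1 zf18) (kf xf25 yf27 zf55) (kf xf25 yf35 zf14)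 (kf xf19 yf35 zf53) (kf xf19 yf35 zf57) (kf xf25 yf27 zf56) (kf xf20 yf43 zf31) (kf xf25 yf35 zf13) (kf xf22 yf9 zf42) (kf xf20 yf44 zf3)) (@D3.rec (fun _ => Pt) (kf xf8 yf19 zf36) (kf xf22 yf57 zf23) (kf xf19 yf45 zf47) (kf xf18 yf52 zf55) (kf xf8 yf19 zf37) (kf xf15 yf43 zf18) (kf xf22 yf33 zf25) (kf xf22 yf59 zf34) (kf xf8 yf19 zf38) (kf xf8 yf19 zf47) (kf xf8 yf19 zf45) (kf xf8 yf19 zf46) (kf xf9 yf28 zf33) (kf xf22 yf9 zf46) (kf xf22 yf9 zf44) (kf xf22 yf9 zf47) (kf xf9 yf28 zf54) (kf xf22 yf9 zf49) (kf xf22 yf9 zf50) (kf xf25 yf35 zf49) (kf xf9 yf28 zf52) (kf xf9 yf28 zf55) (kf xf25 yf32 zf39) (kf xf25 yf34 zf30) (kf xf9 yf37 zf14) (kf xf25 yf35 zf33) (kf xf25 yf35 zf35) (kf xf25 yf35 zf61) (kf xf8 yf19 zf49) (kf xf25 yf35 zf32) (kf xf12 yf56 zf57) (kf xf25 yf25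 zf47) (kf xf10 yf24 zf48) (kf xf15 yf31 zf11) (kf xf25 yf36 zf0) (kf xf25 yf36 zf1) (kf xf10 yf26 zf7) (kf xf25 yf36 zf2) (kf xf18 yf51 zf17) (kf xf8 yf19 zf50) (kf xf12 yf57 zf19) (kf xf15 yf47 zf13) (kf xf15 yf47 zf14) (kf xf24 yf7 zf51) (kf xf23 yf0 zf26) (kf xf24 yf7 zf48) (kf xf22 yf9 zf14) (kf xf19 yf37 zf57) (kf xf25 yf36 zf23) (kf xf8 yf19 zf55) (kf xf25 yf28 zf39) (kf xf22 yf23 zf5) (kf xf25 yf36 zf26) (kf xf10 yf26 zf10) (kf xf20 yf59 zf0) (kf xf8 yf19 zf57) (kf xf18 yf51 zf15) (kf xf18 yf51 zf16) (kf xf18 yf51 zf14) (kf xf12 yf57 zf5) (kf xf25 yf24 zf36) (kf xf25 yf28 zf43)) (@D3.rec (fun _ => Pt) (kf xf25 yf28 zf44) (kf xf16 yf43 zf15) (kf xf15 yf34 zf40) (kf xf16 yf43 zf16) (kf xf8 yf20 zf1) (kf xf14 yf52 zf13) (kf xf25 yf36 zf35) (kf xf16 yf2 zf19) (kf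 xf10 yf45 zf54) (kf xf15 yf16 zf11) (kf xf25 yf33 zf50) (kf xf16 yf2 zf21) (kf xf15 yf16 zf10) (kf xf25 yf34 zf26) (kf xf16 yf2 zf25) (kf xf16 yf2 zf26) (kf xf19 yf36 zf38) (kf xf15 yf33 zf35) (kf xf16 yf2 zf28) (kf xf15 yf47 zf42) (kf xf16 yf2 zf29) (kf xf20 yf56 zf44) (kf xf16 yf2 zf31) (kf xf16 yf2 zf32) (kf xf25 yf34 zf22) (kf xf16 yf2 zf34) (kf xf10 yf32 zf38) (kf xf10 yf32 zf39) (kf xf10 yf32 zf40) (kf xf16 yf2 zf38) (kf xf16 yf2 zf39) (kf xf16 yf2 zf40) (kf xf16 yf2 zf41) (kf xf15 yf42 zf11) (kf xf10 yf33 zf61) (kf xf14 yf7 zf52) (kf xf13 yf54 zf22) (kf xf16 yf4 zf5) (kf xf13 yf54 zf25) (kf xf24 yf37 zf60) (kf xf8 yf20 zf55) (kf xf8 yf20 zf54) (kf xf23 yf39 zf8) (kf xf8 yf20 zf17) (kf xf8 yf20 zf60) (kf xf8 yf20 zf59) (kf xf15 yf47 zf27) (kf xf10 yf32 zf54) (kf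 xf10 yf32 zf55) (kf xf16 yf12 zf58) (kf xf25 yf20 zf31) (kf xf15 yf17 zf51) (kf xf8 yf20 zf24) (kf xf15 yf18 zf32) (kf xf15 yf18 zf33) (kf xf15 yf18 zf34) (kf xf25 yf37 zf35) (kf xf25 yf37 zf38) (kf xf8 yf20 zf26) (kf xf15 yf1 zf41) (kf xf15 yf16 zf58) (kf xf8 yf20 zf28)) (@D3.rec (fun _ => Pt) (kf xf14 yf49 zf53) (kf xf16 yf4 zf12) (kf xf16 yf4 zf13) (kf xf25 yf37 zf43) (kf xf25 yf37 zf47) (kf xf16 yf4 zf25) (kf xf16 yf4 zf24) (kf xf25 yf37 zf52) (kf xf8 yf20 zf32) (kf xf16 yf4 zf28) (kf xf16 yf4 zf29) (kf xf15 yf41 zf33) (kf xf16 yf4 zf18) (kf xf16 yf4 zf19) (kf xf16 yf4 zf20) (kf xf16 yf4 zf21) (kf xf25 yf37 zf60) (kf xf19 yf55 zf37) (kf xf8 yf43 zf12) (kf xf25 yf38 zf3) (kf xf8 yf20 zf37) (kf xf16 yf4 zf30) (kf xf16 yf4 zf31) (kf xf16 yf4 zf32) (kf xf15 yf44 zf54)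 (kf xf25 yf38 zf12) (kf xf25 yf38 zf15) (kf xf25 yf38 zf18) (kf xf8 yf20 zf42) (kf xf16 yf4 zf35) (kf xf16 yf4 zf36) (kf xf16 yf4 zf37) (kf xf15 yf44 zf56) (kf xf21 yf49 zf16) (kf xf25 yf38 zf33) (kf xf21 yf49 zf17) (kf xf16 yf4 zf41) (kf xf12 yf16 zf48) (kf xf16 yf4 zf42) (kf xf15 yf44 zf50) (kf xf14 yf21 zf19) (kf xf25 yf38 zf40) (kf xf16 yf4 zf43) (kf xf19 yf47 zf28) (kf xf16 yf4 zf45) (kf xf24 yf27 zf24) (kf xf25 yf37 zf12) (kf xf25 yf37 zf11) (kf xf25 yf38 zf54) (kf xf8 yf20 zf53) (kf xf25 yf30 zf28) (kf xf15 yf1 zf19) (kf xf15 yf46 zf4) (kf xf25 yf37 zf14) (kf xf8 yf36 zf26) (kf xf15 yf46 zf5) (kf xf16 yf3 zf26) (kf xf25 yf37 zf17) (kf xf25 yf37 zf16) (kf xf25 yf39 zf14) (kf xf8 yf20 zf56) (kf xf16 yf4 zf9)) (@D3.rec (fun _ => Pt) (kf xf21 yf24 zf46) (kf xf25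 yf37 zf20) (kf xf21 yf24 zf23) (kf xf25 yf37 zf19) (kf xf16 yf3 zf38) (kf xf8 yf35 zf39) (kf xf8 yf35 zf47) (kf xf9 yf15 zf52) (kf xf15 yf48 zf54) (kf xf13 yf2 zf7) (kf xf15 yf48 zf55) (kf xf12 yf27 zf47) (kf xf12 yf13 zf14) (kf xf16 yf4 zf59) (kf xf16 yf4 zf60) (kf xf16 yf5 zf0) (kf xf14 yf37 zf38) (kf xf15 yf51 zf18) (kf xf15 yf40 zf5) (kf xf11 yf52 zf6) (kf xf11 yf52 zf7) (kf xf11 yf52 zf8) (kf xf11 yf52 zf9) (kf xf16 yf4 zf1) (kf xf24 yf32 zf48) (kf xf16 yf4 zf3) (kf xf21 yf49 zf18) (kf xf16 yf3 zf1) (kf xf16 yf3 zf2) (kf xf16 yf3 zf3) (kf xf15 yf45 zf56) (kf xf16 yf4 zf53) (kf xf16 yf3 zf5) (kf xf16 yf3 zf6) (kf xf16 yf3 zf7) (kf xf25 yf39 zf48) (kf xf17 yf56 zf31) (kf xf15 yf45 zf9) (kf xf8 yf21 zf23) (kf xf16 yf3 zf9) (kf xf16 yf3 zf11) (kf xf9 yf45 zf26) (kf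 xf16 yf3 zf14) (kf xf23 yf47 zf56) (kf xf25 yf39 zf55) (kf xf12 yf54 zf25) (kf xf18 yf34 zf55) (kf xf22 yf17 zf44) (kf xf23 yf26 zf29) (kf xf25 yf40 zf2) (kf xf8 yf21 zf31) (kf xf16 yf4 zf33) (kf xf16 yf4 zf34) (kf xf21 yf49 zf19) (kf xf21 yf49 zf20) (kf xf21 yf49 zf21) (kf xf8 yf24 zf28) (kf xf16 yf4 zf14) (kf xf16 yf4 zf17) (kf xf10 yf35 zf57) (kf xf8 yf22 zf52) (kf xf10 yf35 zf55)) (@D3.rec (fun _ => Pt) (kf xf10 yf35 zf56) (kf xf8 yf22 zf19) (kf xf10 yf35 zf52) (kf xf10 yf35 zf51) (kf xf25 yf40 zf33) (kf xf19 yf9 zf5) (kf xf8 yf21 zf38) (kf xf10 yf35 zf58) (kf xf10 yf35 zf59) (kf xf10 yf35 zf60) (kf xf16 yf3 zf51) (kf xf16 yf3 zf53) (kf xf16 yf3 zf54) (kf xf16 yf3 zf55) (kf xf10 yf48 zf17) (kf xf10 yf48 zf14) (kf xf10 yf48 zf12) (kf xf20 yf18 zf48) (kf xf25 yf40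 zf40) (kf xf25 yf40 zf39) (kf xf19 yf26 zf41) (kf xf8 yf21 zf49) (kf xf10 yf48 zf22) (kf xf10 yf48 zf23) (kf xf9 yf8 zf60) (kf xf10 yf48 zf25) (kf xf16 yf5 zf60) (kf xf16 yf5 zf61) (kf xf16 yf6 zf0) (kf xf16 yf6 zf1) (kf xf12 yf40 zf29) (kf xf25 yf40 zf54) (kf xf8 yf22 zf11) (kf xf8 yf22 zf10) (kf xf25 yf40 zf58) (kf xf8 yf21 zf57) (kf xf8 yf22 zf18) (kf xf8 yf22 zf15) (kf xf16 yf6 zf8) (kf xf16 yf6 zf9) (kf xf16 yf6 zf10) (kf xf16 yf5 zf15) (kf xf16 yf5 zf16) (kf xf16 yf6 zf11) (kf xf16 yf6 zf13) (kf xf16 yf6 zf16) (kf xf16 yf5 zf21) (kf xf16 yf6 zf17) (kf xf16 yf6 zf19) (kf xf14 yf37 zf28) (kf xf15 yf42 zf39) (kf xf16 yf6 zf20) (kf xf19 yf14 zf44) (kf xf12 yf36 zf51) (kf xf15 yf42 zf24) (kf xf25 yf41 zf30) (kf xf15 yf42 zf32) (kf xf25 yf41 zf32) (kf xf25 yf40 zf52)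 (kf xf25 yf40 zf51) (kf xf25 yf41 zf42) (kf xf8 yf22 zf9)) (@D3.rec (fun _ => Pt) (kf xf15 yf45 zf2) (kf xf17 yf43 zf20) (kf xf15 yf45 zf0) (kf xf8 yf22 zf47) (kf xf22 yf10 zf23) (kf xf9 yf36 zf46) (kf xf25 yf40 zf55) (kf xf25 yf40 zf14) (kf xf25 yf40 zf56) (kf xf15 yf43 zf37) (kf xf15 yf54 zf54) (kf xf8 yf22 zf12) (kf xf19 yf5 zf34) (kf xf10 yf32 zf34) (kf xf25 yf40 zf61) (kf xf25 yf41 zf0) (kf xf8 yf22 zf51) (kf xf19 yf5 zf36) (kf xf25 yf40 zf59) (kf xf25 yf40 zf60) (kf xf25 yf40 zf24) (kf xf9 yf41 zf50) (kf xf10 yf38 zf18) (kf xf10 yf38 zf19) (kf xf16 yf6 zf39) (kf xf16 yf5 zf53) (kf xf8 yf35 zf36) (kf xf16 yf0 zf56) (kf xf9 yf24 zf12) (kf xf16 yf5 zf59) (kf xf10 yf48 zf26) (kf xf10 yf53 zf6) (kf xf10 yf53 zf7) (kf xf16 yf57 zf24) (kf xf16 yf5 zf2) (kf xf16 yf5 zf3)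 (kf xf21 yf6 zf0) (kf xf25 yf42 zf15) (kf xf8 yf22 zf48) (kf xf25 yf42 zf18) (kf xf8 yf22 zf33) (kf xf8 yf22 zf54) (kf xf16 yf5 zf12) (kf xf16 yf5 zf13) (kf xf16 yf5 zf14) (kf xf16 yf5 zf17) (kf xf16 yf5 zf18) (kf xf16 yf5 zf19) (kf xf16 yf6 zf14) (kf xf16 yf6 zf15) (kf xf16 yf5 zf20) (kf xf9 yf45 zf27) (kf xf16 yf6 zf18) (kf xf14 yf2 zf56) (kf xf14 yf42 zf25) (kf xf22 yf38 zf13) (kf xf15 yf43 zf30) (kf xf16 yf5 zf24) (kf xf25 yf42 zf35) (kf xf25 yf42 zf14) (kf xf25 yf42 zf13) (kf xf25 yf42 zf42)) (@D3.rec (fun _ => Pt) (kf xf8 yf22 zf46) (kf xf25 yf41 zf44) (kf xf25 yf40 zf10) (kf xf25 yf42 zf16) (kf xf15 yf42 zf52) (kf xf15 yf42 zf55) (kf xf23 yf29 zf16) (kf xf8 yf22 zf49) (kf xf9 yf37 zf54) (kf xf22 yf43 zf49) (kf xf25 yf40 zf23) (kf xf21 yf34 zf20) (kf xf25 yf42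 zf19) (kf xf8 yf35 zf44) (kf xf16 yf5 zf51) (kf xf14 yf42 zf32) (kf xf16 yf6 zf42) (kf xf16 yf0 zf37) (kf xf16 yf6 zf44) (kf xf11 yf19 zf33) (kf xf9 yf37 zf12) (kf xf16 yf6 zf50) (kf xf12 yf59 zf56) (kf xf16 yf6 zf53) (kf xf9 yf43 zf6) (kf xf8 yf23 zf28) (kf xf8 yf23 zf15) (kf xf8 yf23 zf30) (kf xf8 yf23 zf32) (kf xf9 yf38 zf19) (kf xf9 yf38 zf20) (kf xf25 yf34 zf1) (kf xf25 yf25 zf3) (kf xf16 yf6 zf58) (kf xf25 yf25 zf4) (kf xf16 yf17 zf6) (kf xf25 yf32 zf55) (kf xf25 yf43 zf17) (kf xf21 yf16 zf61) (kf xf8 yf23 zf17) (kf xf25 yf34 zf23) (kf xf22 yf2 zf0) (kf xf25 yf43 zf22) (kf xf25 yf43 zf25) (kf xf8 yf23 zf18) (kf xf21 yf17 zf0) (kf xf10 yf52 zf4) (kf xf14 yf11 zf47) (kf xf25 yf43 zf31) (kf xf25 yf43 zf33) (kf xf8 yf23 zf22) (kf xf25 yf32 zf53) (kf xf25 yf39 zf27)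 (kf xf25 yf32 zf54) (kf xf12 yf33 zf22) (kf xf25 yf43 zf6) (kf xf25 yf43 zf35) (kf xf12 yf33 zf23) (kf xf25 yf31 zf25) (kf xf25 yf43 zf8) (kf xf8 yf30 zf4) (kf xf8 yf32 zf15)) (@D3.rec (fun _ => Pt) (kf xf15 yf16 zf51) (kf xf8 yf35 zf38) (kf xf8 yf31 zf19) (kf xf8 yf35 zf45) (kf xf8 yf35 zf46) (kf xf8 yf32 zf11) (kf xf8 yf31 zf60) (kf xf8 yf32 zf13) (kf xf8 yf32 zf14) (kf xf8 yf32 zf16) (kf xf8 yf32 zf17) (kf xf8 yf32 zf18) (kf xf22 yf7 zf5) (kf xf15 yf40 zf41) (kf xf15 yf40 zf42) (kf xf15 yf16 zf50) (kf xf15 yf47 zf18) (kf xf15 yf47 zf21) (kf xf15 yf47 zf16) (kf xf12 yf15 zf60) (kf xf12 yf16 zf32) (kf xf15 yf47 zf17) (kf xf12 yf15 zf61) (kf xf12 yf14 zf32) (kf xf16 yf7 zf7) (kf xf16 yf7 zf8) (kf xf21 yf0 zf43) (kf xf15 yf41 zf46) (kf xf16 yf7 zf10) (kf xf14 yf48 zf13)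 (kf xf23 yf33 zf26) (kf xf10 yf17 zf36) (kf xf10 yf17 zf35) (kf xf8 yf23 zf58) (kf xf16 yf7 zf11) (kf xf16 yf8 zf39) (kf xf15 yf24 zf5) (kf xf15 yf24 zf6) (kf xf15 yf24 zf7) (kf xf15 yf24 zf8) (kf xf16 yf7 zf13) (kf xf25 yf17 zf5) (kf xf15 yf41 zf19) (kf xf16 yf7 zf15) (kf xf12 yf43 zf32) (kf xf16 yf7 zf16) (kf xf15 yf48 zf6) (kf xf15 yf25 zf24) (kf xf12 yf20 zf46) (kf xf12 yf20 zf45) (kf xf16 yf8 zf44) (kf xf25 yf44 zf34) (kf xf8 yf24 zf39) (kf xf16 yf7 zf22) (kf xf19 yf16 zf32) (kf xf8 yf24 zf9) (kf xf16 yf8 zf48) (kf xf16 yf8 zf49) (kf xf16 yf8 zf50) (kf xf16 yf8 zf51) (kf xf25 yf44 zf38) (kf xf25 yf44 zf39)) (@D3.rec (fun _ => Pt) (kf xf16 yf9 zf2) (kf xf16 yf9 zf1) (kf xf25 yf44 zf45) (kf xf8 yf24 zf12) (kf xf16 yf9 zf5) (kf xf16 yf9 zf6) (kf xf15 yf47 zf46) (kf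 xf11 yf10 zf43) (kf xf8 yf30 zf20) (kf xf16 yf8 zf60) (kf xf25 yf44 zf54) (kf xf8 yf30 zf50) (kf xf14 yf12 zf4) (kf xf8 yf24 zf20) (kf xf8 yf25 zf12) (kf xf16 yf9 zf7) (kf xf16 yf9 zf8) (kf xf12 yf35 zf39) (kf xf16 yf9 zf9) (kf xf12 yf35 zf45) (kf xf12 yf18 zf21) (kf xf8 yf24 zf25) (kf xf16 yf9 zf11) (kf xf16 yf9 zf12) (kf xf16 yf9 zf13) (kf xf16 yf9 zf14) (kf xf21 yf36 zf9) (kf xf20 yf54 zf5) (kf xf12 yf20 zf48) (kf xf9 yf14 zf36) (kf xf8 yf40 zf8) (kf xf21 yf20 zf55) (kf xf8 yf55 zf27) (kf xf22 yf4 zf55) (kf xf8 yf53 zf39) (kf xf25 yf45 zf11) (kf xf25 yf44 zf33) (kf xf25 yf44 zf32) (kf xf8 yf24 zf35) (kf xf9 yf20 zf32) (kf xf9 yf20 zf34) (kf xf16 yf7 zf50) (kf xf9 yf55 zf17) (kf xf15 yf33 zf16) (kf xf22 yf9 zf31) (kf xf12 yf24 zf41) (kf xf9 yf55 zf18) (kf xf16 yf7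 zf59) (kf xf8 yf30 zf34) (kf xf16 yf7 zf60) (kf xf16 yf8 zf1) (kf xf9 yf55 zf20) (kf xf19 yf15 zf60) (kf xf12 yf19 zf6) (kf xf15 yf43 zf8) (kf xf15 yf43 zf10) (kf xf21 yf17 zf46) (kf xf25 yf45 zf25) (kf xf17 yf37 zf28) (kf xf17 yf37 zf27) (kf xf17 yf43 zf56) (kf xf8 yf24 zf48)) (@D3.rec (fun _ => Pt) (kf xf17 yf37 zf31) (kf xf9 yf43 zf55) (kf xf16 yf7 zf23) (kf xf17 yf37 zf30) (kf xf15 yf30 zf7) (kf xf11 yf9 zf44) (kf xf9 yf34 zf52) (kf xf16 yf9 zf42) (kf xf12 yf17 zf39) (kf xf9 yf34 zf12) (kf xf16 yf8 zf8) (kf xf15 yf27 zf24) (kf xf12 yf42 zf46) (kf xf21 yf51 zf25) (kf xf12 yf42 zf45) (kf xf16 yf7 zf18) (kf xf12 yf26 zf16) (kf xf12 yf20 zf44) (kf xf8 yf30 zf46) (kf xf8 yf30 zf48) (kf xf16 yf7 zf55) (kf xf16 yf7 zf26) (kf xf16 yf7 zf27) (kf xf16 yf9 zf27) (kf xf25 yf45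 zf42) (kf xf15 yf36 zf23) (kf xf16 yf9 zf28) (kf xf10 yf50 zf28) (kf xf8 yf25 zf18) (kf xf16 yf7 zf32) (kf xf16 yf7 zf33) (kf xf16 yf7 zf34) (kf xf9 yf11 zf53) (kf xf8 yf25 zf21) (kf xf9 yf11 zf32) (kf xf16 yf7 zf31) (kf xf16 yf7 zf38) (kf xf11 yf18 zf53) (kf xf11 yf18 zf52) (kf xf16 yf9 zf22) (kf xf20 yf21 zf56) (kf xf16 yf9 zf23) (kf xf24 yf32 zf31) (kf xf17 yf45 zf1) (kf xf8 yf25 zf29) (kf xf15 yf59 zf14) (kf xf11 yf21 zf38) (kf xf12 yf24 zf47) (kf xf13 yf55 zf46) (kf xf23 yf40 zf10) (kf xf21 yf33 zf28) (kf xf8 yf25 zf36) (kf xf11 yf21 zf50) (kf xf8 yf33 zf4) (kf xf16 yf8 zf52) (kf xf16 yf8 zf55) (kf xf12 yf25 zf55) (kf xf12 yf25 zf58) (kf xf16 yf8 zf4) (kf xf10 yf38 zf58) (kf xf10 yf38 zf59) (kf xf10 yf38 zf60)) (@D3.rec (fun _ => Pt) (kf xf10 yf36 zf38) (kf xf25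 yf46 zf9) (kf xf15 yf54 zf44) (kf xf25 yf10 zf29) (kf xf25 yf11 zf32) (kf xf15 yf13 zf15) (kf xf15 yf13 zf23) (kf xf23 yf30 zf47) (kf xf18 yf56 zf42) (kf xf8 yf25 zf54) (kf xf25 yf46 zf18) (kf xf8 yf25 zf60) (kf xf8 yf25 zf59) (kf xf20 yf32 zf35) (kf xf25 yf46 zf25) (kf xf23 yf31 zf17) (kf xf10 yf58 zf1) (kf xf16 yf29 zf42) (kf xf25 yf46 zf20) (kf xf8 yf38 zf20) (kf xf13 yf6 zf30) (kf xf13 yf6 zf25) (kf xf23 yf44 zf44) (kf xf8 yf25 zf61) (kf xf16 yf30 zf59) (kf xf25 yf46 zf24) (kf xf8 yf26 zf0) (kf xf23 yf31 zf58) (kf xf14 yf8 zf38) (kf xf14 yf8 zf41) (kf xf15 yf14 zf21) (kf xf18 yf29 zf10) (kf xf8 yf26 zf3) (kf xf15 yf23 zf57) (kf xf18 yf42 zf38) (kf xf15 yf23 zf55) (kf xf25 yf46 zf42) (kf xf8 yf26 zf7) (kf xf15 yf23 zf60) (kf xf13 yf51 zf17) (kf xf15 yf50 zf52) (kf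 xf14 yf13 zf28) (kf xf10 yf7 zf25) (kf xf8 yf26 zf10) (kf xf10 yf8 zf18) (kf xf8 yf26 zf11) (kf xf18 yf46 zf37) (kf xf18 yf9 zf32) (kf xf18 yf46 zf38) (kf xf18 yf45 zf49) (kf xf11 yf15 zf59) (kf xf9 yf39 zf34) (kf xf15 yf50 zf40) (kf xf9 yf52 zf19) (kf xf8 yf26 zf17) (kf xf15 yf11 zf39) (kf xf8 yf26 zf18) (kf xf22 yf40 zf3) (kf xf24 yf40 zf32) (kf xf22 yf38 zf56) (kf xf17 yf24 zf44) (kf xf8 yf26 zf22)) (@D3.rec (fun _ => Pt) (kf xf8 yf26 zf52) (kf xf8 yf26 zf23) (kf xf10 yf53 zf39) (kf xf10 yf53 zf40) (kf xf10 yf53 zf41) (kf xf8 yf32 zf24) (kf xf25 yf47 zf0) (kf xf8 yf27 zf16) (kf xf19 yf36 zf7) (kf xf15 yf26 zf0) (kf xf14 yf23 zf24) (kf xf8 yf26 zf28) (kf xf21 yf0 zf47) (kf xf21 yf0 zf48) (kf xf19 yf16 zf28) (kf xf20 yf59 zf54) (kf xf17 yf25 zf20) (kf xf10 yf52 zf0)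 (kf xf15 yf43 zf17) (kf xf9 yf34 zf8) (kf xf8 yf26 zf33) (kf xf10 yf50 zf41) (kf xf8 yf26 zf34) (kf xf17 yf50 zf4) (kf xf17 yf50 zf5) (kf xf18 yf45 zf32) (kf xf15 yf24 zf29) (kf xf8 yf26 zf41) (kf xf9 yf34 zf5) (kf xf11 yf55 zf28) (kf xf19 yf28 zf44) (kf xf19 yf28 zf45) (kf xf18 yf44 zf31) (kf xf17 yf17 zf12) (kf xf17 yf51 zf7) (kf xf17 yf51 zf8) (kf xf17 yf51 zf9) (kf xf17 yf51 zf10) (kf xf10 yf24 zf51) (kf xf10 yf23 zf44) (kf xf16 yf21 zf53) (kf xf17 yf52 zf44) (kf xf19 yf56 zf57) (kf xf16 yf41 zf2) (kf xf8 yf26 zf56) (kf xf16 yf40 zf38) (kf xf16 yf40 zf36) (kf xf16 yf40 zf39) (kf xf25 yf47 zf35) (kf xf25 yf36 zf9) (kf xf10 yf25 zf3) (kf xf8 yf26 zf59) (kf xf8 yf57 zf55) (kf xf19 yf35 zf50) (kf xf8 yf57 zf54) (kf xf10 yf56 zf34) (kf xf10 yf24 zf6) (kf xf8 yf27 zf0)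 (kf xf10 yf53 zf25) (kf xf10 yf53 zf26) (kf xf10 yf53 zf27) (kf xf10 yf53 zf28)) (@D3.rec (fun _ => Pt) (kf xf25 yf47 zf45) (kf xf24 yf8 zf8) (kf xf10 yf26 zf9) (kf xf8 yf27 zf4) (kf xf8 yf27 zf7) (kf xf8 yf27 zf6) (kf xf25 yf47 zf52) (kf xf19 yf49 zf40) (kf xf19 yf30 zf14) (kf xf25 yf47 zf56) (kf xf8 yf27 zf5) (kf xf25 yf47 zf46) (kf xf19 yf10 zf22) (kf xf25 yf48 zf3) (kf xf19 yf6 zf58) (kf xf25 yf48 zf4) (kf xf22 yf20 zf19) (kf xf18 yf14 zf46) (kf xf19 yf6 zf54) (kf xf8 yf27 zf8) (kf xf10 yf46 zf8) (kf xf8 yf30 zf5) (kf xf25 yf48 zf18) (kf xf25 yf46 zf61) (kf xf25 yf46 zf60) (kf xf8 yf27 zf12) (kf xf19 yf6 zf52) (kf xf10 yf46 zf2) (kf xf17 yf52 zf40) (kf xf18 yf27 zf58) (kf xf25 yf47 zf1) (kf xf17 yf21 zf31) (kf xf17 yf35 zf53) (kf xf17 yf35 zf54) (kf xf17 yf35 zf55)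 (kf xf15 yf17 zf24) (kf xf25 yf48 zf38) (kf xf11 yf56 zf58) (kf xf11 yf56 zf57) (kf xf25 yf48 zf41) (kf xf8 yf27 zf19) (kf xf8 yf27 zf44) (kf xf15 yf17 zf3) (kf xf15 yf17 zf4) (kf xf14 yf50 zf54) (kf xf15 yf17 zf5) (kf xf14 yf51 zf3) (kf xf25 yf32 zf60) (kf xf15 yf16 zf46) (kf xf15 yf16 zf44) (kf xf25 yf8 zf29) (kf xf8 yf27 zf25) (kf xf9 yf38 zf41) (kf xf8 yf27 zf31) (kf xf8 yf27 zf30) (kf xf15 yf31 zf47) (kf xf22 yf38 zf37) (kf xf25 yf49 zf0) (kf xf25 yf49 zf3) (kf xf8 yf27 zf29) (kf xf25 yf48 zf54) (kf xf15 yf55 zf45)) (@D3.rec (fun _ => Pt) (kf xf25 yf48 zf55) (kf xf14 yf51 zf52) (kf xf25 yf7 zf42) (kf xf25 yf7 zf40) (kf xf25 yf7 zf41) (kf xf8 yf28 zf31) (kf xf15 yf54 zf60) (kf xf15 yf54 zf59) (kf xf8 yf27 zf34) (kf xf8 yf28 zf35) (kf xf15 yf22 zf57) (kf xf15 yf22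 zf58) (kf xf25 yf49 zf15) (kf xf15 yf22 zf60) (kf xf15 yf22 zf61) (kf xf25 yf49 zf22) (kf xf15 yf18 zf17) (kf xf15 yf18 zf18) (kf xf15 yf18 zf14) (kf xf15 yf18 zf15) (kf xf25 yf13 zf42) (kf xf15 yf22 zf36) (kf xf15 yf22 zf35) (kf xf13 yf43 zf34) (kf xf8 yf27 zf41) (kf xf15 yf22 zf44) (kf xf15 yf3 zf24) (kf xf14 yf50 zf59) (kf xf14 yf50 zf60) (kf xf14 yf50 zf56) (kf xf14 yf50 zf55) (kf xf15 yf20 zf47) (kf xf15 yf20 zf48) (kf xf13 yf59 zf15) (kf xf14 yf50 zf35) (kf xf24 yf43 zf57) (kf xf15 yf3 zf15) (kf xf17 yf39 zf36) (kf xf8 yf27 zf53) (kf xf15 yf3 zf23) (kf xf10 yf9 zf35) (kf xf15 yf3 zf19) (kf xf15 yf3 zf20) (kf xf15 yf22 zf43) (kf xf15 yf20 zf42) (kf xf15 yf20 zf43) (kf xf25 yf13 zf14) (kf xf15 yf20 zf44) (kf xf15 yf20 zf45) (kf xf25 yf49 zf44) (kf xf25 yf37 zf10)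 (kf xf24 yf38 zf5) (kf xf20 yf59 zf27) (kf xf8 yf27 zf60) (kf xf15 yf19 zf46) (kf xf15 yf19 zf47) (kf xf15 yf19 zf41) (kf xf15 yf19 zf42) (kf xf19 yf57 zf0) (kf xf15 yf20 zf39) (kf xf15 yf20 zf38) (kf xf25 yf37 zf57)) (@D3.rec (fun _ => Pt) (kf xf8 yf28 zf1) (kf xf15 yf14 zf31) (kf xf9 yf38 zf17) (kf xf9 yf38 zf16) (kf xf8 yf28 zf8) (kf xf15 yf20 zf28) (kf xf15 yf20 zf29) (kf xf20 yf3 zf39) (kf xf15 yf20 zf21) (kf xf15 yf20 zf22) (kf xf15 yf20 zf53) (kf xf15 yf20 zf52) (kf xf17 yf57 zf22) (kf xf8 yf28 zf12) (kf xf19 yf16 zf27) (kf xf8 yf28 zf23) (kf xf8 yf28 zf24) (kf xf25 yf10 zf34) (kf xf25 yf5 zf21) (kf xf25 yf50 zf17) (kf xf19 yf16 zf7) (kf xf25 yf5 zf18) (kf xf25 yf50 zf23) (kf xf24 yf5 zf3) (kf xf8 yf28 zf19) (kf xf25 yf14 zf1) (kf xf25 yf15 zf21) (kf xf25 yf10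 zf35) (kf xf25 yf50 zf34) (kf xf8 yf28 zf21) (kf xf25 yf11 zf27) (kf xf10 yf58 zf50) (kf xf25 yf5 zf8) (kf xf25 yf11 zf57) (kf xf11 yf9 zf51) (kf xf25 yf50 zf41) (kf xf25 yf50 zf9) (kf xf25 yf50 zf47) (kf xf25 yf14 zf3) (kf xf11 yf42 zf60) (kf xf25 yf11 zf28) (kf xf25 yf50 zf53) (kf xf8 yf28 zf26) (kf xf25 yf50 zf56) (kf xf15 yf50 zf2) (kf xf10 yf41 zf15) (kf xf24 yf26 zf4) (kf xf10 yf58 zf48) (kf xf25 yf51 zf0) (kf xf25 yf50 zf55) (kf xf25 yf50 zf54) (kf xf8 yf28 zf30) (kf xf25 yf49 zf7) (kf xf25 yf49 zf8) (kf xf15 yf45 zf10) (kf xf25 yf3 zf14) (kf xf15 yf21 zf59) (kf xf15 yf21 zf60) (kf xf25 yf32 zf49) (kf xf15 yf53 zf7) (kf xf15 yf53 zf6) (kf xf21 yf46 zf24)) (@D3.rec (fun _ => Pt) (kf xf20 yf2 zf9) (kf xf17 yf53 zf49) (kf xf14 yf24 zf15) (kf xf15 yf56 zf11) (kf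 xf15 yf56 zf12) (kf xf15 yf56 zf13) (kf xf14 yf25 zf7) (kf xf10 yf21 zf59) (kf xf10 yf43 zf6) (kf xf10 yf43 zf5) (kf xf25 yf51 zf27) (kf xf8 yf28 zf42) (kf xf10 yf43 zf11) (kf xf10 yf43 zf9) (kf xf15 yf56 zf16) (kf xf15 yf56 zf17) (kf xf13 yf23 zf33) (kf xf13 yf17 zf18) (kf xf14 yf24 zf32) (kf xf13 yf22 zf52) (kf xf10 yf44 zf4) (kf xf10 yf44 zf3) (kf xf19 yf30 zf4) (kf xf8 yf28 zf48) (kf xf10 yf44 zf10) (kf xf10 yf44 zf7) (kf xf8 yf57 zf59) (kf xf15 yf56 zf27) (kf xf15 yf56 zf28) (kf xf13 yf45 zf54) (kf xf11 yf45 zf45) (kf xf13 yf45 zf56) (kf xf22 yf25 zf23) (kf xf19 yf29 zf2) (kf xf8 yf28 zf54) (kf xf15 yf56 zf19) (kf xf15 yf56 zf20) (kf xf15 yf56 zf21) (kf xf15 yf56 zf22) (kf xf23 yf13 zf8) (kf xf25 yf51 zf52) (kf xf19 yf31 zf3) (kf xf8 yf28 zf57) (kf xf8 yf28 zf60)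 (kf xf8 yf28 zf59) (kf xf15 yf52 zf61) (kf xf24 yf10 zf22) (kf xf25 yf51 zf60) (kf xf24 yf38 zf16) (kf xf8 yf28 zf58) (kf xf16 yf10 zf4) (kf xf25 yf51 zf55) (kf xf25 yf51 zf53) (kf xf25 yf52 zf2) (kf xf25 yf52 zf1) (kf xf25 yf52 zf10) (kf xf8 yf28 zf61) (kf xf10 yf45 zf59) (kf xf15 yf56 zf42) (kf xf17 yf24 zf27) (kf xf15 yf56 zf40) (kf xf10 yf19 zf46)) (@D3.rec (fun _ => Pt) (kf xf17 yf20 zf12) (kf xf10 yf45 zf61) (kf xf10 yf46 zf0) (kf xf10 yf46 zf1) (kf xf8 yf31 zf25) (kf xf11 yf53 zf13) (kf xf25 yf20 zf38) (kf xf25 yf20 zf39) (kf xf25 yf20 zf40) (kf xf25 yf19 zf61) (kf xf24 yf52 zf47) (kf xf15 yf55 zf3) (kf xf15 yf55 zf4) (kf xf15 yf55 zf5) (kf xf19 yf29 zf45) (kf xf19 yf29 zf46) (kf xf15 yf55 zf14) (kf xf15 yf55 zf15) (kf xf11 yf56 zf2) (kf xf15 yf55 zf35) (kf xf15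 yf55 zf36) (kf xf15 yf55 zf37) (kf xf15 yf55 zf38) (kf xf25 yf52 zf49) (kf xf25 yf52 zf51) (kf xf25 yf32 zf29) (kf xf8 yf29 zf21) (kf xf15 yf55 zf27) (kf xf15 yf55 zf28) (kf xf8 yf29 zf27) (kf xf8 yf29 zf26) (kf xf24 yf4 zf47) (kf xf25 yf53 zf4) (kf xf17 yf22 zf38) (kf xf25 yf53 zf9) (kf xf8 yf29 zf25) (kf xf15 yf29 zf9) (kf xf17 yf22 zf39) (kf xf18 yf48 zf37) (kf xf16 yf44 zf4) (kf xf15 yf55 zf60) (kf xf20 yf11 zf47) (kf xf15 yf55 zf58) (kf xf9 yf26 zf27) (kf xf16 yf44 zf6) (kf xf14 yf57 zf6) (kf xf8 yf33 zf15) (kf xf8 yf29 zf34) (kf xf8 yf30 zf11) (kf xf8 yf30 zf58) (kf xf8 yf30 zf59) (kf xf8 yf30 zf60) (kf xf8 yf30 zf61) (kf xf21 yf27 zf17) (kf xf17 yf17 zf18) (kf xf8 yf30 zf35) (kf xf8 yf29 zf38) (kf xf8 yf30 zf38) (kf xf8 yf30 zf26) (kf xf8 yf30 zf27) (kf xf8 yf30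 zf28) (kf xf8 yf30 zf29)) (@D3.rec (fun _ => Pt) (kf xf25 yf26 zf3) (kf xf14 yf18 zf9) (kf xf8 yf31 zf3) (kf xf8 yf31 zf8) (kf xf12 yf18 zf15) (kf xf8 yf34 zf32) (kf xf8 yf29 zf46) (kf xf8 yf31 zf11) (kf xf10 yf50 zf20) (kf xf8 yf31 zf36) (kf xf8 yf31 zf37) (kf xf8 yf31 zf38) (kf xf8 yf31 zf39) (kf xf17 yf28 zf9) (kf xf8 yf31 zf21) (kf xf8 yf31 zf20) (kf xf8 yf29 zf50) (kf xf8 yf31 zf24) (kf xf8 yf31 zf12) (kf xf8 yf31 zf13) (kf xf8 yf31 zf14) (kf xf8 yf31 zf15) (kf xf25 yf53 zf47) (kf xf25 yf43 zf43) (kf xf8 yf31 zf43) (kf xf8 yf31 zf42) (kf xf17 yf28 zf1) (kf xf8 yf29 zf55) (kf xf8 yf31 zf48) (kf xf8 yf32 zf1) (kf xf8 yf32 zf2) (kf xf8 yf32 zf3) (kf xf8 yf32 zf5) (kf xf17 yf21 zf43) (kf xf8 yf31 zf51) (kf xf8 yf31 zf52) (kf xf8 yf31 zf53) (kf xf8 yf31 zf55) (kf xf25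 yf54 zf15) (kf xf25 yf43 zf51) (kf xf21 yf16 zf25) (kf xf8 yf30 zf1) (kf xf8 yf30 zf3) (kf xf25 yf42 zf22) (kf xf19 yf57 zf24) (kf xf25 yf54 zf27) (kf xf25 yf54 zf28) (kf xf8 yf30 zf2) (kf xf25 yf54 zf18) (kf xf19 yf57 zf25) (kf xf25 yf54 zf19) (kf xf21 yf18 zf1) (kf xf25 yf43 zf38) (kf xf25 yf48 zf15) (kf xf25 yf48 zf16) (kf xf25 yf48 zf10) (kf xf25 yf54 zf47) (kf xf8 yf32 zf22) (kf xf17 yf17 zf8) (kf xf8 yf32 zf20) (kf xf13 yf43 zf12) (kf xf8 yf32 zf27)) (@D3.rec (fun _ => Pt) (kf xf8 yf32 zf26) (kf xf8 yf30 zf9) (kf xf25 yf53 zf20) (kf xf25 yf53 zf21) (kf xf25 yf43 zf28) (kf xf16 yf1 zf9) (kf xf25 yf54 zf59) (kf xf10 yf51 zf58) (kf xf10 yf51 zf57) (kf xf8 yf30 zf13) (kf xf10 yf51 zf55) (kf xf10 yf51 zf52) (kf xf10 yf52 zf3) (kf xf10 yf52 zf5) (kf xf9 yf24 zf59) (kf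 xf25 yf55 zf6) (kf xf15 yf37 zf24) (kf xf25 yf44 zf49) (kf xf25 yf44 zf50) (kf xf22 yf9 zf35) (kf xf15 yf59 zf55) (kf xf25 yf55 zf20) (kf xf25 yf55 zf23) (kf xf8 yf30 zf22) (kf xf25 yf31 zf26) (kf xf25 yf31 zf27) (kf xf15 yf59 zf57) (kf xf15 yf37 zf14) (kf xf25 yf55 zf35) (kf xf15 yf37 zf15) (kf xf17 yf37 zf51) (kf xf23 yf22 zf17) (kf xf15 yf59 zf47) (kf xf25 yf55 zf42) (kf xf25 yf13 zf36) (kf xf16 yf19 zf3) (kf xf15 yf59 zf48) (kf xf21 yf57 zf43) (kf xf25 yf53 zf28) (kf xf25 yf55 zf50) (kf xf25 yf53 zf30) (kf xf25 yf53 zf31) (kf xf19 yf19 zf40) (kf xf21 yf40 zf22) (kf xf25 yf55 zf48) (kf xf25 yf55 zf47) (kf xf25 yf26 zf1) (kf xf8 yf30 zf30) (kf xf18 yf43 zf61) (kf xf17 yf24 zf59) (kf xf18 yf44 zf12) (kf xf25 yf56 zf7) (kf xf24 yf30 zf42) (kf xf15 yf35 zf58) (kf xf15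 yf39 zf0) (kf xf15 yf38 zf60) (kf xf9 yf34 zf6) (kf xf15 yf16 zf15) (kf xf15 yf36 zf7) (kf xf10 yf25 zf38) (kf xf10 yf25 zf37) (kf xf10 yf25 zf15)) (@D3.rec (fun _ => Pt) (kf xf10 yf25 zf16) (kf xf20 yf34 zf59) (kf xf20 yf36 zf19) (kf xf21 yf28 zf57) (kf xf25 yf44 zf55) (kf xf21 yf44 zf14) (kf xf25 yf44 zf56) (kf xf10 yf46 zf5) (kf xf10 yf46 zf6) (kf xf10 yf46 zf7) (kf xf25 yf53 zf22) (kf xf20 yf19 zf21) (kf xf16 yf0 zf20) (kf xf15 yf37 zf7) (kf xf15 yf49 zf45) (kf xf16 yf0 zf21) (kf xf17 yf28 zf60) (kf xf25 yf53 zf23) (kf xf22 yf1 zf57) (kf xf25 yf53 zf24) (kf xf25 yf53 zf25) (kf xf25 yf53 zf26) (kf xf24 yf5 zf42) (kf xf15 yf36 zf58) (kf xf15 yf31 zf32) (kf xf8 yf31 zf0) (kf xf16 yf43 zf26) (kf xf16 yf43 zf24) (kf xf15 yf35 zf27) (kf xf8 yf42 zf33) (kf xf8 yf55 zf51)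 (kf xf8 yf33 zf23) (kf xf25 yf53 zf33) (kf xf18 yf43 zf58) (kf xf18 yf43 zf59) (kf xf18 yf43 zf60) (kf xf15 yf17 zf17) (kf xf15 yf17 zf15) (kf xf25 yf43 zf45) (kf xf25 yf43 zf44) (kf xf17 yf39 zf5) (kf xf16 yf18 zf3) (kf xf15 yf37 zf56) (kf xf15 yf17 zf0) (kf xf16 yf17 zf5) (kf xf25 yf53 zf41) (kf xf25 yf57 zf0) (kf xf15 yf58 zf32) (kf xf15 yf58 zf36) (kf xf25 yf53 zf42) (kf xf25 yf33 zf8) (kf xf25 yf56 zf60) (kf xf25 yf56 zf59) (kf xf17 yf28 zf0) (kf xf8 yf31 zf16) (kf xf15 yf58 zf20) (kf xf23 yf10 zf20) (kf xf15 yf58 zf26) (kf xf25 yf57 zf19) (kf xf25 yf43 zf41) (kf xf25 yf43 zf42) (kf xf12 yf40 zf16))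
def f_f_16 : D2 → D3 → Pt := @D2.rec (fun _ => D3 → Pt) (@D3.rec (fun _ => Pt) (kf xf9 yf24 zf17) (kf xf25 yf31 zf37) (kf xf15 yf38 zf61) (kf xf25 yf13 zf46) (kf xf21 yf10 zf3) (kf xf10 yf44 zf11) (kf xf15 yf39 zf4) (kf xf25 yf18 zf54) (kf xf25 yf18 zf55) (kf xf25 yf18 zf56) (kf xf11 yf37 zf46) (kf xf17 yf28 zf7) (kf xf25 yf57 zf32) (kf xf21 yf24 zf49) (kf xf8 yf31 zf32) (kf xf16 yf13 zf50) (kf xf25 yf53 zf36) (kf xf17 yf35 zf35) (kf xf15 yf38 zf46) (kf xf25 yf53 zf38) (kf xf15 yf59 zf12) (kf xf15 yf59 zf15) (kf xf25 yf53 zf39) (kf xf25 yf57 zf40) (kf xf17 yf28 zf8) (kf xf25 yf53 zf48) (kf xf17 yf25 zf60) (kf xf17 yf28 zf6) (kf xf8 yf31 zf41) (kf xf17 yf28 zf3) (kf xf16 yf1 zf34) (kf xf15 yf35 zf60) (kf xf15 yf38 zf17) (kf xf25 yf53 zf50) (kf xf15 yf35 zf59) (kf xf21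 yf17 zf21) (kf xf8 yf31 zf44) (kf xf15 yf46 zf17) (kf xf15 yf38 zf26) (kf xf25 yf53 zf52) (kf xf19 yf46 zf2) (kf xf10 yf24 zf50) (kf xf10 yf24 zf49) (kf xf25 yf58 zf4) (kf xf18 yf44 zf19) (kf xf8 yf31 zf49) (kf xf16 yf16 zf8) (kf xf25 yf54 zf1) (kf xf25 yf54 zf2) (kf xf15 yf39 zf16) (kf xf25 yf54 zf3) (kf xf25 yf40 zf48) (kf xf25 yf54 zf4) (kf xf19 yf5 zf43) (kf xf25 yf54 zf6) (kf xf25 yf58 zf19) (kf xf15 yf45 zf27) (kf xf19 yf5 zf42) (kf xf19 yf5 zf44) (kf xf21 yf46 zf37) (kf xf25 yf54 zf8) (kf xf25 yf54 zf9)) (@D3.rec (fun _ => Pt) (kf xf25 yf54 zf10) (kf xf25 yf43 zf50) (kf xf21 yf46 zf13) (kf xf21 yf46 zf17) (kf xf17 yf19 zf18) (kf xf8 yf31 zf56) (kf xf19 yf15 zf59) (kf xf9 yf35 zf4) (kf xf8 yf31 zf58) (kf xf15 yf58 zf5) (kf xf25 yf58 zf36) (kf xf19 yf38 zf56) (kf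 xf25 yf53 zf53) (kf xf25 yf53 zf54) (kf xf25 yf53 zf55) (kf xf25 yf43 zf47) (kf xf25 yf53 zf57) (kf xf25 yf53 zf58) (kf xf15 yf39 zf52) (kf xf9 yf35 zf10) (kf xf25 yf29 zf54) (kf xf25 yf58 zf52) (kf xf9 yf35 zf8) (kf xf9 yf35 zf9) (kf xf9 yf35 zf11) (kf xf25 yf58 zf56) (kf xf25 yf35 zf56) (kf xf25 yf53 zf60) (kf xf25 yf58 zf60) (kf xf25 yf58 zf50) (kf xf25 yf58 zf49) (kf xf25 yf59 zf6) (kf xf8 yf32 zf6) (kf xf9 yf37 zf8) (kf xf16 yf0 zf30) (kf xf8 yf32 zf7) (kf xf25 yf54 zf17) (kf xf25 yf54 zf16) (kf xf8 yf32 zf8) (kf xf8 yf32 zf9) (kf xf25 yf43 zf48) (kf xf25 yf43 zf49) (kf xf15 yf24 zf13) (kf xf16 yf16 zf5) (kf xf25 yf43 zf52) (kf xf9 yf39 zf8) (kf xf25 yf43 zf53) (kf xf17 yf51 zf12) (kf xf25 yf43 zf54) (kf xf25 yf35 zf59) (kf xf25 yf43 zf56) (kf xf25 yf35 zf47) (kf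 xf25 yf54 zf51) (kf xf22 yf7 zf27) (kf xf22 yf7 zf26) (kf xf25 yf43 zf57) (kf xf13 yf43 zf11) (kf xf14 yf25 zf44) (kf xf13 yf43 zf14) (kf xf25 yf30 zf2) (kf xf19 yf26 zf10) (kf xf19 yf26 zf11)) (@D3.rec (fun _ => Pt) (kf xf25 yf46 zf58) (kf xf25 yf46 zf59) (kf xf25 yf46 zf57) (kf xf22 yf3 zf47) (kf xf25 yf48 zf26) (kf xf25 yf48 zf25) (kf xf19 yf6 zf51) (kf xf8 yf32 zf25) (kf xf25 yf54 zf52) (kf xf19 yf28 zf13) (kf xf12 yf59 zf17) (kf xf25 yf43 zf55) (kf xf25 yf54 zf49) (kf xf19 yf28 zf12) (kf xf25 yf54 zf50) (kf xf8 yf32 zf29) (kf xf25 yf48 zf17) (kf xf25 yf8 zf51) (kf xf25 yf59 zf58) (kf xf15 yf41 zf7) (kf xf25 yf57 zf26) (kf xf15 yf41 zf11) (kf xf19 yf32 zf28) (kf xf15 yf16 zf37) (kf xf15 yf16 zf36) (kf xf15 yf41 zf14) (kf xf15 yf41 zf15) (kf xf19 yf25 zf40) (kf xf15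 yf41 zf18) (kf xf15 yf41 zf20) (kf xf19 yf7 zf43) (kf xf15 yf41 zf22) (kf xf15 yf41 zf23) (kf xf19 yf46 zf31) (kf xf15 yf41 zf25) (kf xf9 yf46 zf2) (kf xf14 yf55 zf57) (kf xf14 yf46 zf43) (kf xf15 yf41 zf29) (kf xf15 yf41 zf30) (kf xf15 yf41 zf31) (kf xf15 yf41 zf32) (kf xf11 yf53 zf23) (kf xf12 yf48 zf15) (kf xf21 yf6 zf39) (kf xf8 yf33 zf19) (kf xf8 yf33 zf16) (kf xf10 yf38 zf30) (kf xf26 yf0 zf16) (kf xf14 yf46 zf19) (kf xf10 yf38 zf26) (kf xf10 yf38 zf25) (kf xf14 yf54 zf18) (kf xf8 yf32 zf53) (kf xf10 yf38 zf24) (kf xf10 yf31 zf54) (kf xf10 yf38 zf23) (kf xf9 yf34 zf21) (kf xf10 yf38 zf36) (kf xf10 yf38 zf37) (kf xf14 yf46 zf15) (kf xf9 yf34 zf48)) (@D3.rec (fun _ => Pt) (kf xf8 yf32 zf60) (kf xf15 yf43 zf27) (kf xf15 yf43 zf28) (kf xf15 yf43 zf29) (kf xf8 yf33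 zf2) (kf xf15 yf43 zf32) (kf xf15 yf43 zf33) (kf xf15 yf43 zf34) (kf xf24 yf42 zf55) (kf xf15 yf43 zf39) (kf xf13 yf15 zf17) (kf xf15 yf43 zf40) (kf xf14 yf38 zf55) (kf xf26 yf0 zf39) (kf xf15 yf43 zf42) (kf xf22 yf6 zf4) (kf xf15 yf3 zf32) (kf xf20 yf24 zf32) (kf xf25 yf45 zf57) (kf xf25 yf45 zf56) (kf xf20 yf32 zf21) (kf xf8 yf33 zf11) (kf xf21 yf6 zf36) (kf xf16 yf6 zf30) (kf xf21 yf6 zf38) (kf xf16 yf6 zf31) (kf xf15 yf42 zf56) (kf xf21 yf6 zf40) (kf xf21 yf6 zf41) (kf xf21 yf6 zf42) (kf xf10 yf38 zf35) (kf xf26 yf0 zf18) (kf xf26 yf0 zf19) (kf xf10 yf2 zf3) (kf xf10 yf28 zf26) (kf xf9 yf34 zf34) (kf xf14 yf57 zf16) (kf xf26 yf0 zf17) (kf xf15 yf43 zf4) (kf xf10 yf2 zf4) (kf xf9 yf28 zf10) (kf xf12 yf52 zf24) (kf xf15 yf35 zf11) (kf xf15 yf35 zf10) (kf xf10 yf37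 zf33) (kf xf15 yf35 zf15) (kf xf15 yf35 zf14) (kf xf10 yf53 zf20) (kf xf12 yf27 zf48) (kf xf12 yf27 zf49) (kf xf12 yf21 zf24) (kf xf15 yf44 zf10) (kf xf14 yf28 zf53) (kf xf15 yf44 zf11) (kf xf15 yf44 zf12) (kf xf15 yf44 zf13) (kf xf12 yf40 zf15) (kf xf15 yf15 zf2) (kf xf15 yf36 zf6) (kf xf10 yf32 zf47) (kf xf10 yf32 zf48) (kf xf10 yf32 zf49)) (@D3.rec (fun _ => Pt) (kf xf10 yf32 zf50) (kf xf15 yf43 zf23) (kf xf19 yf53 zf51) (kf xf15 yf43 zf25) (kf xf13 yf58 zf33) (kf xf15 yf41 zf37) (kf xf14 yf51 zf35) (kf xf14 yf5 zf38) (kf xf9 yf34 zf46) (kf xf15 yf42 zf61) (kf xf15 yf1 zf17) (kf xf14 yf46 zf17) (kf xf15 yf42 zf1) (kf xf15 yf42 zf2) (kf xf15 yf43 zf57) (kf xf26 yf1 zf30) (kf xf10 yf38 zf32) (kf xf15 yf43 zf58) (kf xf15 yf42 zf12) (kf xf15 yf42 zf13) (kf xf15 yf42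 zf14) (kf xf15 yf42 zf15) (kf xf26 yf1 zf37) (kf xf19 yf53 zf16) (kf xf15 yf42 zf6) (kf xf15 yf42 zf5) (kf xf26 yf1 zf40) (kf xf8 yf33 zf48) (kf xf15 yf42 zf9) (kf xf15 yf42 zf10) (kf xf15 yf42 zf21) (kf xf15 yf42 zf22) (kf xf15 yf42 zf23) (kf xf15 yf43 zf51) (kf xf15 yf43 zf52) (kf xf15 yf42 zf29) (kf xf15 yf42 zf30) (kf xf15 yf42 zf31) (kf xf26 yf1 zf53) (kf xf16 yf5 zf35) (kf xf8 yf33 zf54) (kf xf15 yf42 zf36) (kf xf15 yf42 zf38) (kf xf15 yf42 zf42) (kf xf24 yf22 zf21) (kf xf15 yf42 zf44) (kf xf26 yf1 zf58) (kf xf15 yf2 zf61) (kf xf26 yf2 zf2) (kf xf20 yf53 zf22) (kf xf22 yf21 zf12) (kf xf22 yf22 zf18) (kf xf8 yf34 zf1) (kf xf15 yf43 zf31) (kf xf22 yf17 zf52) (kf xf26 yf1 zf17) (kf xf14 yf14 zf54) (kf xf8 yf34 zf3) (kf xf12 yf18 zf36) (kf xf15 yf43 zf13) (kf xf15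 yf43 zf14) (kf xf12 yf59 zf19)) (@D3.rec (fun _ => Pt) (kf xf15 yf43 zf15) (kf xf12 yf38 zf59) (kf xf15 yf45 zf34) (kf xf15 yf45 zf35) (kf xf21 yf45 zf21) (kf xf8 yf34 zf29) (kf xf8 yf34 zf28) (kf xf25 yf38 zf16) (kf xf8 yf34 zf14) (kf xf8 yf34 zf37) (kf xf8 yf34 zf38) (kf xf8 yf34 zf33) (kf xf15 yf45 zf42) (kf xf15 yf45 zf43) (kf xf15 yf45 zf44) (kf xf15 yf44 zf41) (kf xf15 yf44 zf42) (kf xf15 yf45 zf45) (kf xf15 yf45 zf46) (kf xf15 yf45 zf47) (kf xf15 yf45 zf50) (kf xf15 yf44 zf46) (kf xf26 yf2 zf28) (kf xf21 yf34 zf27) (kf xf15 yf45 zf57) (kf xf21 yf33 zf35) (kf xf21 yf33 zf34) (kf xf20 yf40 zf2) (kf xf8 yf34 zf27) (kf xf25 yf41 zf35) (kf xf25 yf41 zf33) (kf xf8 yf35 zf3) (kf xf26 yf2 zf11) (kf xf26 yf2 zf12) (kf xf23 yf35 zf26) (kf xf16 yf4 zf39) (kf xf20 yf29 zf56)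 (kf xf8 yf34 zf30) (kf xf20 yf58 zf54) (kf xf11 yf52 zf0) (kf xf14 yf51 zf12) (kf xf14 yf51 zf7) (kf xf8 yf35 zf8) (kf xf20 yf58 zf57) (kf xf9 yf35 zf16) (kf xf14 yf57 zf31) (kf xf9 yf0 zf55) (kf xf9 yf0 zf51) (kf xf19 yf32 zf9) (kf xf26 yf2 zf13) (kf xf12 yf27 zf4) (kf xf15 yf46 zf14) (kf xf13 yf22 zf6) (kf xf15 yf45 zf25) (kf xf15 yf39 zf23) (kf xf12 yf14 zf33) (kf xf15 yf38 zf25) (kf xf11 yf2 zf25) (kf xf11 yf2 zf28) (kf xf15 yf45 zf29) (kf xf15 yf44 zf26) (kf xf15 yf44 zf27)) (@D3.rec (fun _ => Pt) (kf xf15 yf44 zf28) (kf xf15 yf44 zf29) (kf xf12 yf0 zf54) (kf xf26 yf3 zf4) (kf xf8 yf35 zf4) (kf xf23 yf20 zf46) (kf xf8 yf34 zf53) (kf xf8 yf35 zf10) (kf xf15 yf44 zf38) (kf xf15 yf44 zf39) (kf xf15 yf44 zf40) (kf xf15 yf44 zf43) (kf xf13 yf0 zf22) (kf xf15 yf44 zf44)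 (kf xf15 yf45 zf48) (kf xf15 yf45 zf49) (kf xf15 yf44 zf45) (kf xf15 yf44 zf47) (kf xf15 yf45 zf52) (kf xf15 yf44 zf48) (kf xf15 yf44 zf51) (kf xf15 yf2 zf44) (kf xf26 yf3 zf20) (kf xf22 yf4 zf35) (kf xf25 yf19 zf57) (kf xf26 yf3 zf27) (kf xf8 yf35 zf2) (kf xf26 yf2 zf36) (kf xf23 yf35 zf27) (kf xf13 yf0 zf6) (kf xf16 yf3 zf23) (kf xf16 yf3 zf25) (kf xf23 yf20 zf41) (kf xf9 yf37 zf3) (kf xf19 yf32 zf3) (kf xf9 yf35 zf27) (kf xf26 yf2 zf46) (kf xf12 yf48 zf28) (kf xf23 yf31 zf45) (kf xf15 yf45 zf24) (kf xf12 yf59 zf40) (kf xf14 yf22 zf1) (kf xf15 yf46 zf16) (kf xf15 yf39 zf3) (kf xf15 yf46 zf18) (kf xf12 yf4 zf3) (kf xf9 yf39 zf6) (kf xf12 yf20 zf55) (kf xf12 yf26 zf28) (kf xf12 yf20 zf54) (kf xf15 yf46 zf21) (kf xf9 yf31 zf25) (kf xf15 yf38 zf45) (kf xf15 yf46 zf23)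 (kf xf9 yf36 zf6) (kf xf9 yf36 zf7) (kf xf25 yf42 zf7) (kf xf17 yf25 zf36) (kf xf15 yf46 zf33) (kf xf22 yf9 zf54) (kf xf17 yf39 zf2) (kf xf25 yf43 zf40)) (@D3.rec (fun _ => Pt) (kf xf25 yf29 zf37) (kf xf12 yf20 zf60) (kf xf23 yf42 zf15) (kf xf23 yf42 zf13) (kf xf25 yf43 zf46) (kf xf8 yf57 zf53) (kf xf15 yf33 zf7) (kf xf15 yf47 zf24) (kf xf15 yf47 zf25) (kf xf12 yf47 zf57) (kf xf15 yf47 zf28) (kf xf15 yf47 zf34) (kf xf15 yf27 zf19) (kf xf15 yf47 zf40) (kf xf26 yf3 zf56) (kf xf15 yf47 zf43) (kf xf15 yf47 zf45) (kf xf15 yf28 zf43) (kf xf15 yf49 zf15) (kf xf9 yf58 zf43) (kf xf8 yf36 zf30) (kf xf8 yf36 zf27) (kf xf15 yf47 zf53) (kf xf15 yf49 zf2) (kf xf19 yf35 zf45) (kf xf8 yf36 zf3) (kf xf15 yf49 zf21) (kf xf15 yf49 zf22) (kf xf11 yf19 zf19) (kf xf21 yf43 zf56) (kf xf17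 yf58 zf41) (kf xf15 yf49 zf35) (kf xf15 yf49 zf29) (kf xf15 yf49 zf30) (kf xf15 yf49 zf31) (kf xf12 yf34 zf12) (kf xf25 yf39 zf45) (kf xf21 yf51 zf46) (kf xf15 yf49 zf36) (kf xf12 yf47 zf38) (kf xf9 yf34 zf24) (kf xf22 yf3 zf17) (kf xf18 yf10 zf57) (kf xf17 yf16 zf19) (kf xf11 yf17 zf36) (kf xf24 yf32 zf47) (kf xf12 yf56 zf12) (kf xf13 yf38 zf41) (kf xf21 yf30 zf53) (kf xf17 yf16 zf30) (kf xf15 yf48 zf41) (kf xf9 yf58 zf48) (kf xf9 yf58 zf49) (kf xf9 yf58 zf24) (kf xf9 yf33 zf43) (kf xf15 yf49 zf20) (kf xf25 yf38 zf59) (kf xf26 yf3 zf61) (kf xf10 yf10 zf14) (kf xf15 yf48 zf47) (kf xf15 yf48 zf49) (kf xf12 yf59 zf22)) (@D3.rec (fun _ => Pt) (kf xf18 yf20 zf52) (kf xf15 yf48 zf50) (kf xf10 yf10 zf16) (kf xf26 yf4 zf35) (kf xf15 yf49 zf58) (kf xf9 yf33 zf47) (kf xf14 yf58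 zf20) (kf xf10 yf9 zf0) (kf xf15 yf49 zf10) (kf xf15 yf16 zf6) (kf xf11 yf10 zf3) (kf xf15 yf17 zf59) (kf xf26 yf4 zf48) (kf xf15 yf17 zf61) (kf xf15 yf18 zf0) (kf xf26 yf4 zf54) (kf xf26 yf4 zf56) (kf xf25 yf36 zf47) (kf xf26 yf4 zf55) (kf xf26 yf5 zf4) (kf xf8 yf36 zf50) (kf xf15 yf18 zf51) (kf xf15 yf18 zf50) (kf xf26 yf5 zf10) (kf xf8 yf36 zf51) (kf xf10 yf0 zf42) (kf xf15 yf9 zf29) (kf xf26 yf5 zf13) (kf xf26 yf5 zf15) (kf xf8 yf36 zf58) (kf xf17 yf53 zf56) (kf xf17 yf53 zf57) (kf xf17 yf53 zf58) (kf xf11 yf6 zf51) (kf xf26 yf5 zf21) (kf xf15 yf19 zf6) (kf xf26 yf5 zf23) (kf xf11 yf6 zf14) (kf xf8 yf37 zf2) (kf xf15 yf47 zf35) (kf xf15 yf24 zf12) (kf xf15 yf24 zf14) (kf xf15 yf24 zf15) (kf xf26 yf5 zf30) (kf xf15 yf47 zf50) (kf xf26 yf5 zf35) (kf xf17 yf16 zf20)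 (kf xf9 yf34 zf44) (kf xf15 yf47 zf56) (kf xf15 yf47 zf57) (kf xf15 yf47 zf58) (kf xf15 yf47 zf59) (kf xf15 yf49 zf54) (kf xf26 yf5 zf43) (kf xf8 yf40 zf55) (kf xf15 yf49 zf55) (kf xf15 yf36 zf51) (kf xf15 yf36 zf50) (kf xf12 yf59 zf26) (kf xf12 yf59 zf27) (kf xf15 yf48 zf9) (kf xf21 yf22 zf34)) (@D3.rec (fun _ => Pt) (kf xf21 yf11 zf35) (kf xf15 yf48 zf1) (kf xf15 yf48 zf0) (kf xf26 yf5 zf51) (kf xf8 yf37 zf17) (kf xf15 yf48 zf4) (kf xf15 yf48 zf5) (kf xf15 yf48 zf15) (kf xf15 yf48 zf16) (kf xf15 yf48 zf18) (kf xf12 yf41 zf34) (kf xf15 yf48 zf22) (kf xf15 yf48 zf23) (kf xf15 yf48 zf24) (kf xf15 yf48 zf25) (kf xf26 yf5 zf57) (kf xf8 yf37 zf25) (kf xf17 yf14 zf9) (kf xf21 yf48 zf9) (kf xf26 yf5 zf33) (kf xf26 yf6 zf0) (kf xf8 yf37 zf27) (kf xf15 yf49 zf39) (kf xf15 yf49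 zf41) (kf xf17 yf16 zf21) (kf xf17 yf16 zf22) (kf xf17 yf16 zf23) (kf xf15 yf49 zf23) (kf xf15 yf49 zf26) (kf xf11 yf8 zf48) (kf xf24 yf49 zf24) (kf xf9 yf37 zf7) (kf xf24 yf49 zf23) (kf xf9 yf36 zf53) (kf xf24 yf49 zf20) (kf xf19 yf32 zf2) (kf xf25 yf21 zf41) (kf xf8 yf37 zf34) (kf xf26 yf6 zf22) (kf xf9 yf33 zf50) (kf xf8 yf40 zf37) (kf xf8 yf40 zf16) (kf xf15 yf49 zf7) (kf xf11 yf3 zf10) (kf xf16 yf11 zf14) (kf xf16 yf11 zf15) (kf xf16 yf11 zf16) (kf xf26 yf6 zf31) (kf xf8 yf37 zf44) (kf xf10 yf1 zf9) (kf xf10 yf1 zf8) (kf xf11 yf2 zf55) (kf xf15 yf29 zf61) (kf xf15 yf29 zf60) (kf xf19 yf55 zf44) (kf xf15 yf30 zf6) (kf xf9 yf36 zf33) (kf xf15 yf30 zf3) (kf xf15 yf18 zf25) (kf xf15 yf18 zf26) (kf xf15 yf18 zf27) (kf xf24 yf22 zf11)) (@D3.rec (fun _ => Pt) (kf xf19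 yf54 zf44) (kf xf8 yf37 zf54) (kf xf8 yf37 zf58) (kf xf8 yf37 zf57) (kf xf15 yf55 zf50) (kf xf26 yf6 zf55) (kf xf26 yf6 zf59) (kf xf26 yf7 zf0) (kf xf8 yf37 zf56) (kf xf15 yf31 zf42) (kf xf26 yf6 zf48) (kf xf16 yf12 zf17) (kf xf16 yf12 zf15) (kf xf16 yf12 zf16) (kf xf11 yf3 zf56) (kf xf9 yf51 zf41) (kf xf16 yf11 zf43) (kf xf16 yf11 zf42) (kf xf8 yf37 zf61) (kf xf11 yf2 zf40) (kf xf11 yf2 zf42) (kf xf14 yf39 zf16) (kf xf14 yf39 zf15) (kf xf13 yf21 zf26) (kf xf17 yf43 zf18) (kf xf12 yf7 zf26) (kf xf26 yf7 zf19) (kf xf10 yf1 zf35) (kf xf8 yf38 zf8) (kf xf22 yf30 zf41) (kf xf8 yf38 zf17) (kf xf23 yf30 zf51) (kf xf8 yf38 zf14) (kf xf18 yf24 zf5) (kf xf22 yf31 zf26) (kf xf8 yf38 zf19) (kf xf26 yf7 zf27) (kf xf21 yf29 zf10) (kf xf23 yf18 zf43) (kf xf23 yf40 zf36) (kf xf26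 yf7 zf32) (kf xf16 yf11 zf39) (kf xf19 yf58 zf52) (kf xf19 yf48 zf14) (kf xf19 yf48 zf17) (kf xf8 yf38 zf21) (kf xf26 yf7 zf36) (kf xf15 yf13 zf28) (kf xf26 yf7 zf41) (kf xf16 yf12 zf10) (kf xf16 yf12 zf9) (kf xf8 yf38 zf24) (kf xf16 yf11 zf37) (kf xf16 yf11 zf38) (kf xf16 yf11 zf36) (kf xf18 yf3 zf10) (kf xf14 yf0 zf33) (kf xf16 yf12 zf18) (kf xf8 yf38 zf26) (kf xf16 yf12 zf21) (kf xf16 yf12 zf22) (kf xf26 yf7 zf48)) (@D3.rec (fun _ => Pt) (kf xf16 yf12 zf19) (kf xf13 yf15 zf34) (kf xf8 yf38 zf30) (kf xf16 yf12 zf25) (kf xf16 yf12 zf24) (kf xf15 yf25 zf7) (kf xf8 yf38 zf31) (kf xf17 yf48 zf61) (kf xf8 yf38 zf32) (kf xf20 yf56 zf47) (kf xf12 yf54 zf39) (kf xf20 yf56 zf48) (kf xf16 yf38 zf5) (kf xf26 yf7 zf60) (kf xf16 yf9 zf44) (kf xf16 yf9 zf45) (kf xf16 yf9 zf46)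 (kf xf19 yf55 zf19) (kf xf23 yf42 zf57) (kf xf19 yf55 zf20) (kf xf12 yf55 zf39) (kf xf14 yf48 zf12) (kf xf14 yf46 zf0) (kf xf14 yf46 zf2) (kf xf26 yf8 zf8) (kf xf8 yf38 zf40) (kf xf8 yf38 zf43) (kf xf8 yf38 zf42) (kf xf26 yf8 zf14) (kf xf26 yf8 zf16) (kf xf26 yf8 zf19) (kf xf8 yf38 zf41) (kf xf12 yf55 zf37) (kf xf11 yf53 zf61) (kf xf26 yf8 zf10) (kf xf24 yf31 zf56) (kf xf16 yf10 zf54) (kf xf16 yf10 zf52) (kf xf16 yf10 zf53) (kf xf16 yf10 zf41) (kf xf25 yf41 zf13) (kf xf16 yf49 zf54) (kf xf16 yf10 zf17) (kf xf16 yf10 zf16) (kf xf8 yf38 zf46) (kf xf16 yf49 zf55) (kf xf19 yf55 zf14) (kf xf8 yf40 zf18) (kf xf10 yf16 zf22) (kf xf10 yf16 zf21) (kf xf8 yf38 zf53) (kf xf13 yf15 zf40) (kf xf15 yf22 zf47) (kf xf15 yf22 zf46) (kf xf8 yf38 zf57) (kf xf21 yf6 zf25) (kf xf13 yf15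 zf46) (kf xf8 yf38 zf61) (kf xf8 yf38 zf60) (kf xf23 yf14 zf57) (kf xf22 yf30 zf27) (kf xf25 yf1 zf49)) (@D3.rec (fun _ => Pt) (kf xf25 yf1 zf50) (kf xf21 yf53 zf46) (kf xf21 yf12 zf19) (kf xf23 yf19 zf52) (kf xf23 yf20 zf15) (kf xf8 yf39 zf0) (kf xf13 yf16 zf18) (kf xf8 yf39 zf1) (kf xf26 yf8 zf58) (kf xf16 yf10 zf50) (kf xf16 yf10 zf49) (kf xf8 yf39 zf3) (kf xf15 yf10 zf35) (kf xf15 yf10 zf34) (kf xf8 yf39 zf4) (kf xf16 yf10 zf12) (kf xf16 yf10 zf13) (kf xf16 yf10 zf11) (kf xf16 yf10 zf57) (kf xf16 yf11 zf0) (kf xf22 yf30 zf33) (kf xf16 yf10 zf59) (kf xf16 yf10 zf60) (kf xf8 yf39 zf10) (kf xf16 yf11 zf4) (kf xf16 yf11 zf3) (kf xf17 yf52 zf58) (kf xf17 yf52 zf60) (kf xf14 yf58 zf6) (kf xf15 yf20 zf25) (kf xf18 yf40 zf28) (kf xf8 yf39 zf20) (kf xf8 yf39 zf19) (kf xf24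 yf31 zf55) (kf xf26 yf9 zf21) (kf xf26 yf9 zf25) (kf xf24 yf10 zf43) (kf xf8 yf39 zf18) (kf xf26 yf9 zf12) (kf xf26 yf9 zf13) (kf xf26 yf9 zf14) (kf xf24 yf47 zf18) (kf xf24 yf47 zf16) (kf xf24 yf47 zf17) (kf xf23 yf15 zf9) (kf xf17 yf52 zf61) (kf xf16 yf13 zf20) (kf xf16 yf13 zf19) (kf xf8 yf39 zf23) (kf xf17 yf53 zf0) (kf xf16 yf13 zf23) (kf xf19 yf0 zf35) (kf xf15 yf30 zf24) (kf xf15 yf28 zf33) (kf xf25 yf19 zf55) (kf xf8 yf39 zf26) (kf xf26 yf9 zf49) (kf xf8 yf39 zf27) (kf xf15 yf41 zf49) (kf xf10 yf31 zf26) (kf xf15 yf3 zf2) (kf xf19 yf53 zf52)) (@D3.rec (fun _ => Pt) (kf xf11 yf3 zf53) (kf xf26 yf7 zf3) (kf xf8 yf42 zf29) (kf xf10 yf39 zf49) (kf xf8 yf39 zf38) (kf xf8 yf39 zf37) (kf xf18 yf52 zf49) (kf xf25 yf21 zf60) (kf xf26 yf10 zf1) (kf xf26 yf10 zf4) (kf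 xf8 yf39 zf36) (kf xf25 yf19 zf21) (kf xf26 yf9 zf53) (kf xf16 yf28 zf5) (kf xf16 yf28 zf3) (kf xf16 yf28 zf4) (kf xf11 yf34 zf44) (kf xf19 yf48 zf12) (kf xf19 yf53 zf53) (kf xf16 yf12 zf47) (kf xf16 yf12 zf46) (kf xf8 yf39 zf41) (kf xf19 yf53 zf54) (kf xf16 yf12 zf50) (kf xf10 yf42 zf50) (kf xf16 yf16 zf31) (kf xf22 yf5 zf28) (kf xf21 yf53 zf47) (kf xf8 yf39 zf45) (kf xf23 yf8 zf56) (kf xf8 yf39 zf46) (kf xf10 yf35 zf17) (kf xf17 yf42 zf25) (kf xf17 yf42 zf26) (kf xf13 yf0 zf19) (kf xf17 yf41 zf55) (kf xf10 yf47 zf42) (kf xf10 yf49 zf53) (kf xf8 yf39 zf52) (kf xf21 yf23 zf12) (kf xf25 yf16 zf44) (kf xf26 yf10 zf37) (kf xf24 yf44 zf38) (kf xf8 yf39 zf57) (kf xf25 yf16 zf36) (kf xf21 yf31 zf15) (kf xf25 yf16 zf37) (kf xf18 yf43 zf51) (kf xf8 yf39 zf61) (kf xf21 yf26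 zf34) (kf xf16 yf0 zf15) (kf xf17 yf42 zf20) (kf xf17 yf42 zf21) (kf xf17 yf42 zf22) (kf xf17 yf13 zf20) (kf xf26 yf10 zf44) (kf xf12 yf3 zf37) (kf xf8 yf40 zf7) (kf xf8 yf40 zf6) (kf xf25 yf43 zf5) (kf xf26 yf10 zf51) (kf xf25 yf13 zf0)) (@D3.rec (fun _ => Pt) (kf xf21 yf26 zf32) (kf xf8 yf40 zf5) (kf xf26 yf10 zf45) (kf xf15 yf6 zf48) (kf xf26 yf5 zf53) (kf xf26 yf11 zf2) (kf xf24 yf2 zf30) (kf xf25 yf44 zf58) (kf xf25 yf45 zf0) (kf xf25 yf45 zf6) (kf xf24 yf2 zf54) (kf xf8 yf53 zf10) (kf xf25 yf20 zf14) (kf xf17 yf6 zf46) (kf xf8 yf40 zf11) (kf xf12 yf53 zf22) (kf xf24 yf45 zf43) (kf xf21 yf26 zf42) (kf xf17 yf37 zf17) (kf xf17 yf37 zf18) (kf xf17 yf37 zf19) (kf xf9 yf36 zf15) (kf xf21 yf25 zf49) (kf xf26 yf11 zf31) (kf xf26 yf6 zf25) (kf xf10 yf37 zf22) (kf xf9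 yf35 zf46) (kf xf9 yf35 zf47) (kf xf9 yf35 zf48) (kf xf9 yf35 zf49) (kf xf21 yf31 zf17) (kf xf24 yf59 zf7) (kf xf8 yf41 zf22) (kf xf8 yf40 zf27) (kf xf8 yf40 zf26) (kf xf17 yf42 zf57) (kf xf17 yf42 zf47) (kf xf21 yf59 zf18) (kf xf26 yf11 zf40) (kf xf11 yf59 zf54) (kf xf26 yf11 zf39) (kf xf26 yf11 zf49) (kf xf26 yf11 zf48) (kf xf26 yf11 zf58) (kf xf26 yf12 zf1) (kf xf8 yf40 zf28) (kf xf8 yf42 zf16) (kf xf26 yf12 zf8) (kf xf24 yf44 zf36) (kf xf24 yf44 zf35) (kf xf8 yf40 zf31) (kf xf8 yf42 zf26) (kf xf15 yf19 zf4) (kf xf15 yf19 zf5) (kf xf17 yf38 zf50) (kf xf15 yf23 zf26) (kf xf15 yf23 zf27) (kf xf15 yf23 zf28) (kf xf15 yf23 zf29) (kf xf24 yf41 zf54) (kf xf26 yf12 zf26) (kf xf24 yf41 zf53)) (@D3.rec (fun _ => Pt) (kf xf24 yf44 zf45) (kf xf24 yf44 zf46) (kf xf14 yf4 zf38)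 (kf xf26 yf12 zf35) (kf xf18 yf5 zf20) (kf xf24 yf44 zf47) (kf xf17 yf44 zf38) (kf xf26 yf12 zf40) (kf xf17 yf43 zf60) (kf xf17 yf44 zf0) (kf xf10 yf40 zf21) (kf xf26 yf12 zf46) (kf xf26 yf12 zf38) (kf xf25 yf1 zf14) (kf xf26 yf12 zf50) (kf xf8 yf40 zf42) (kf xf16 yf20 zf27) (kf xf8 yf40 zf43) (kf xf16 yf19 zf17) (kf xf15 yf14 zf36) (kf xf8 yf40 zf45) (kf xf24 yf44 zf43) (kf xf8 yf42 zf43) (kf xf15 yf9 zf51) (kf xf17 yf38 zf10) (kf xf11 yf19 zf3) (kf xf21 yf31 zf28) (kf xf20 yf47 zf35) (kf xf18 yf37 zf38) (kf xf17 yf0 zf6) (kf xf18 yf37 zf23) (kf xf19 yf35 zf56) (kf xf20 yf27 zf39) (kf xf16 yf16 zf47) (kf xf26 yf11 zf27) (kf xf24 yf44 zf39) (kf xf24 yf44 zf40) (kf xf16 yf16 zf48) (kf xf21 yf10 zf2) (kf xf17 yf44 zf34) (kf xf26 yf13 zf14) (kf xf17 yf43 zf39) (kf xf17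 yf43 zf43) (kf xf17 yf44 zf35) (kf xf26 yf13 zf24) (kf xf26 yf11 zf19) (kf xf26 yf13 zf12) (kf xf26 yf13 zf27) (kf xf8 yf40 zf61) (kf xf16 yf19 zf46) (kf xf16 yf19 zf42) (kf xf26 yf13 zf34) (kf xf8 yf41 zf0) (kf xf16 yf20 zf13) (kf xf16 yf20 zf14) (kf xf9 yf34 zf17) (kf xf24 yf44 zf55) (kf xf24 yf44 zf54) (kf xf26 yf13 zf44) (kf xf8 yf41 zf2) (kf xf17 yf37 zf43) (kf xf17 yf37 zf45)) (@D3.rec (fun _ => Pt) (kf xf17 yf36 zf25) (kf xf9 yf33 zf30) (kf xf17 yf54 zf13) (kf xf17 yf54 zf14) (kf xf17 yf43 zf59) (kf xf16 yf1 zf43) (kf xf25 yf32 zf40) (kf xf17 yf43 zf61) (kf xf16 yf0 zf46) (kf xf17 yf44 zf2) (kf xf26 yf14 zf1) (kf xf12 yf30 zf49) (kf xf25 yf1 zf30) (kf xf26 yf13 zf61) (kf xf26 yf13 zf60) (kf xf26 yf14 zf10) (kf xf8 yf41 zf12) (kf xf16 yf21 zf10) (kf xf16 yf21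 zf6) (kf xf18 yf7 zf26) (kf xf8 yf41 zf13) (kf xf17 yf43 zf25) (kf xf17 yf43 zf23) (kf xf9 yf54 zf34) (kf xf21 yf36 zf61) (kf xf17 yf37 zf29) (kf xf26 yf14 zf26) (kf xf8 yf41 zf16) (kf xf24 yf44 zf61) (kf xf24 yf45 zf0) (kf xf19 yf23 zf34) (kf xf16 yf13 zf25) (kf xf21 yf26 zf30) (kf xf9 yf52 zf51) (kf xf17 yf39 zf56) (kf xf24 yf44 zf60) (kf xf10 yf37 zf21) (kf xf25 yf14 zf43) (kf xf25 yf14 zf44) (kf xf23 yf1 zf45) (kf xf12 yf18 zf51) (kf xf15 yf39 zf50) (kf xf17 yf43 zf38) (kf xf17 yf43 zf41) (kf xf17 yf43 zf42) (kf xf26 yf11 zf33) (kf xf17 yf43 zf45) (kf xf16 yf15 zf33) (kf xf16 yf15 zf37) (kf xf26 yf14 zf49) (kf xf21 yf34 zf5) (kf xf17 yf14 zf36) (kf xf21 yf34 zf8) (kf xf16 yf20 zf54) (kf xf16 yf20 zf50) (kf xf26 yf14 zf58) (kf xf8 yf41 zf35) (kf xf17 yf43 zf36) (kf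 xf17 yf43 zf37) (kf xf25 yf14 zf0) (kf xf17 yf43 zf35) (kf xf8 yf41 zf38)) (@D3.rec (fun _ => Pt) (kf xf21 yf33 zf49) (kf xf17 yf38 zf12) (kf xf17 yf39 zf25) (kf xf21 yf56 zf13) (kf xf17 yf38 zf11) (kf xf15 yf59 zf44) (kf xf15 yf46 zf35) (kf xf17 yf54 zf3) (kf xf17 yf39 zf3) (kf xf18 yf4 zf36) (kf xf15 yf37 zf54) (kf xf17 yf54 zf4) (kf xf24 yf45 zf5) (kf xf16 yf19 zf5) (kf xf16 yf19 zf9) (kf xf24 yf45 zf7) (kf xf23 yf37 zf46) (kf xf21 yf58 zf26) (kf xf21 yf58 zf25) (kf xf17 yf54 zf40) (kf xf17 yf54 zf39) (kf xf18 yf6 zf30) (kf xf8 yf41 zf50) (kf xf21 yf58 zf28) (kf xf17 yf36 zf58) (kf xf12 yf31 zf22) (kf xf20 yf16 zf17) (kf xf17 yf55 zf21) (kf xf17 yf54 zf27) (kf xf9 yf39 zf7) (kf xf17 yf54 zf28) (kf xf17 yf39 zf47) (kf xf20 yf54 zf39) (kf xf17 yf54 zf38) (kf xf21 yf33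 zf38) (kf xf20 yf54 zf37) (kf xf20 yf54 zf38) (kf xf13 yf58 zf23) (kf xf25 yf42 zf55) (kf xf16 yf20 zf1) (kf xf16 yf20 zf2) (kf xf11 yf15 zf41) (kf xf25 yf0 zf3) (kf xf21 yf33 zf39) (kf xf14 yf9 zf34) (kf xf8 yf41 zf58) (kf xf18 yf28 zf39) (kf xf15 yf11 zf46) (kf xf8 yf41 zf60) (kf xf21 yf41 zf61) (kf xf8 yf42 zf7) (kf xf8 yf42 zf8) (kf xf8 yf42 zf9) (kf xf21 yf59 zf38) (kf xf9 yf39 zf13) (kf xf26 yf15 zf45) (kf xf25 yf33 zf55) (kf xf21 yf50 zf27) (kf xf8 yf42 zf3) (kf xf18 yf3 zf28) (kf xf26 yf15 zf50) (kf xf14 yf35 zf11)) (@D3.rec (fun _ => Pt) (kf xf8 yf42 zf4) (kf xf21 yf42 zf10) (kf xf8 yf42 zf5) (kf xf15 yf59 zf41) (kf xf19 yf19 zf56) (kf xf21 yf33 zf52) (kf xf21 yf50 zf28) (kf xf18 yf39 zf23) (kf xf14 yf35 zf10) (kf xf21 yf33 zf48) (kf xf26 yf15 zf57) (kf xf8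 yf42 zf10) (kf xf14 yf15 zf14) (kf xf26 yf15 zf61) (kf xf24 yf46 zf39) (kf xf13 yf19 zf61) (kf xf14 yf15 zf18) (kf xf13 yf18 zf53) (kf xf24 yf46 zf14) (kf xf26 yf16 zf4) (kf xf26 yf15 zf60) (kf xf26 yf15 zf59) (kf xf8 yf42 zf15) (kf xf26 yf12 zf3) (kf xf12 yf45 zf9) (kf xf26 yf12 zf4) (kf xf17 yf54 zf1) (kf xf17 yf54 zf5) (kf xf26 yf16 zf15) (kf xf8 yf42 zf18) (kf xf17 yf54 zf29) (kf xf17 yf54 zf21) (kf xf18 yf30 zf17) (kf xf17 yf54 zf10) (kf xf15 yf11 zf30) (kf xf26 yf16 zf24) (kf xf8 yf42 zf20) (kf xf24 yf45 zf37) (kf xf24 yf45 zf38) (kf xf18 yf28 zf44) (kf xf24 yf45 zf35) (kf xf24 yf45 zf36) (kf xf26 yf13 zf36) (kf xf17 yf41 zf41) (kf xf17 yf41 zf42) (kf xf25 yf23 zf22) (kf xf17 yf41 zf47) (kf xf17 yf41 zf48) (kf xf18 yf6 zf58) (kf xf24 yf45 zf41) (kf xf24 yf45 zf40)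 (kf xf26 yf12 zf14) (kf xf10 yf0 zf2) (kf xf21 yf36 zf60) (kf xf24 yf45 zf45) (kf xf17 yf44 zf47) (kf xf25 yf6 zf48) (kf xf24 yf45 zf44) (kf xf9 yf41 zf42) (kf xf10 yf50 zf30) (kf xf10 yf50 zf31) (kf xf10 yf50 zf32)) (@D3.rec (fun _ => Pt) (kf xf25 yf30 zf45) (kf xf25 yf30 zf46) (kf xf17 yf37 zf16) (kf xf15 yf58 zf35) (kf xf17 yf53 zf59) (kf xf16 yf17 zf13) (kf xf26 yf16 zf59) (kf xf17 yf53 zf61) (kf xf15 yf35 zf28) (kf xf16 yf17 zf14) (kf xf26 yf17 zf4) (kf xf26 yf17 zf7) (kf xf26 yf17 zf5) (kf xf25 yf3 zf26) (kf xf26 yf12 zf55) (kf xf8 yf42 zf42) (kf xf9 yf35 zf44) (kf xf16 yf15 zf18) (kf xf15 yf11 zf12) (kf xf11 yf8 zf23) (kf xf16 yf21 zf13) (kf xf16 yf21 zf12) (kf xf8 yf42 zf50) (kf xf16 yf20 zf45) (kf xf16 yf20 zf44) (kf xf8 yf42 zf51) (kf xf17 yf54 zf19) (kf xf18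 yf21 zf59) (kf xf11 yf38 zf0) (kf xf11 yf15 zf30) (kf xf26 yf17 zf27) (kf xf11 yf15 zf32) (kf xf24 yf56 zf33) (kf xf11 yf15 zf6) (kf xf11 yf15 zf13) (kf xf17 yf54 zf22) (kf xf26 yf17 zf36) (kf xf10 yf29 zf30) (kf xf26 yf17 zf40) (kf xf8 yf42 zf59) (kf xf21 yf2 zf53) (kf xf24 yf45 zf53) (kf xf16 yf15 zf50) (kf xf24 yf45 zf54) (kf xf24 yf56 zf34) (kf xf21 yf15 zf4) (kf xf16 yf15 zf49) (kf xf24 yf45 zf51) (kf xf26 yf17 zf51) (kf xf23 yf10 zf7) (kf xf17 yf57 zf5) (kf xf26 yf17 zf57) (kf xf8 yf43 zf3) (kf xf25 yf2 zf11) (kf xf9 yf17 zf49) (kf xf19 yf16 zf52) (kf xf19 yf16 zf53) (kf xf19 yf16 zf54) (kf xf23 yf35 zf30) (kf xf25 yf38 zf0) (kf xf9 yf33 zf18) (kf xf10 yf50 zf24)) (@D3.rec (fun _ => Pt) (kf xf24 yf45 zf48) (kf xf16 yf17 zf39) (kf xf16 yf17 zf40) (kf xf26 yf18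 zf8) (kf xf26 yf18 zf9) (kf xf17 yf38 zf36) (kf xf18 yf35 zf7) (kf xf18 yf26 zf35) (kf xf8 yf43 zf18) (kf xf17 yf54 zf16) (kf xf17 yf54 zf15) (kf xf26 yf18 zf17) (kf xf8 yf43 zf19) (kf xf16 yf15 zf53) (kf xf16 yf15 zf54) (kf xf10 yf1 zf57) (kf xf19 yf10 zf39) (kf xf14 yf43 zf8) (kf xf22 yf50 zf61) (kf xf21 yf7 zf54) (kf xf9 yf3 zf3) (kf xf10 yf55 zf46) (kf xf26 yf18 zf23) (kf xf19 yf10 zf38) (kf xf22 yf29 zf34) (kf xf8 yf43 zf30) (kf xf17 yf54 zf34) (kf xf16 yf15 zf16) (kf xf17 yf54 zf35) (kf xf13 yf40 zf37) (kf xf17 yf54 zf32) (kf xf9 yf54 zf13) (kf xf17 yf54 zf33) (kf xf24 yf56 zf32) (kf xf8 yf46 zf41) (kf xf11 yf15 zf19) (kf xf11 yf15 zf35) (kf xf26 yf18 zf31) (kf xf11 yf15 zf37) (kf xf26 yf18 zf35) (kf xf11 yf15 zf40) (kf xf11 yf15 zf42) (kf xf15 yf23 zf32) (kf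 xf26 yf18 zf42) (kf xf16 yf19 zf24) (kf xf16 yf19 zf23) (kf xf8 yf43 zf43) (kf xf15 yf6 zf35) (kf xf8 yf43 zf44) (kf xf24 yf45 zf60) (kf xf16 yf16 zf54) (kf xf17 yf46 zf57) (kf xf24 yf57 zf32) (kf xf18 yf21 zf48) (kf xf16 yf16 zf53) (kf xf17 yf46 zf58) (kf xf26 yf18 zf55) (kf xf18 yf21 zf47) (kf xf15 yf5 zf45) (kf xf26 yf18 zf61) (kf xf20 yf8 zf1) (kf xf26 yf19 zf1)) (@D3.rec (fun _ => Pt) (kf xf11 yf12 zf33) (kf xf19 yf2 zf27) (kf xf8 yf46 zf56) (kf xf10 yf16 zf58) (kf xf18 yf19 zf58) (kf xf17 yf52 zf5) (kf xf16 yf16 zf18) (kf xf13 yf26 zf41) (kf xf24 yf57 zf30) (kf xf17 yf54 zf43) (kf xf16 yf16 zf17) (kf xf17 yf54 zf44) (kf xf16 yf19 zf21) (kf xf16 yf19 zf20) (kf xf8 yf43 zf61) (kf xf20 yf8 zf22) (kf xf19 yf0 zf3) (kf xf24 yf29 zf7) (kf xf26 yf19 zf22) (kf xf18 yf59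 zf34) (kf xf26 yf19 zf27) (kf xf8 yf44 zf2) (kf xf20 yf21 zf15) (kf xf21 yf53 zf3) (kf xf22 yf51 zf27) (kf xf10 yf36 zf29) (kf xf24 yf40 zf26) (kf xf23 yf16 zf31) (kf xf22 yf51 zf29) (kf xf26 yf19 zf35) (kf xf19 yf21 zf16) (kf xf19 yf14 zf60) (kf xf18 yf38 zf41) (kf xf24 yf47 zf45) (kf xf13 yf41 zf38) (kf xf8 yf44 zf33) (kf xf19 yf0 zf32) (kf xf22 yf51 zf58) (kf xf22 yf51 zf60) (kf xf24 yf55 zf32) (kf xf9 yf45 zf14) (kf xf26 yf19 zf44) (kf xf10 yf3 zf10) (kf xf20 yf10 zf51) (kf xf18 yf9 zf17) (kf xf18 yf38 zf40) (kf xf18 yf48 zf35) (kf xf18 yf38 zf42) (kf xf8 yf44 zf38) (kf xf8 yf44 zf35) (kf xf10 yf26 zf50) (kf xf8 yf44 zf42) (kf xf8 yf44 zf41) (kf xf15 yf51 zf40) (kf xf17 yf46 zf60) (kf xf25 yf2 zf15) (kf xf15 yf7 zf24) (kf xf18 yf59 zf22) (kf xf15 yf14 zf11) (kf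 xf18 yf59 zf23) (kf xf11 yf15 zf5) (kf xf20 yf10 zf38)) (@D3.rec (fun _ => Pt) (kf xf26 yf20 zf2) (kf xf18 yf58 zf17) (kf xf8 yf52 zf43) (kf xf26 yf20 zf6) (kf xf8 yf44 zf40) (kf xf25 yf46 zf51) (kf xf11 yf6 zf17) (kf xf25 yf15 zf20) (kf xf15 yf11 zf23) (kf xf18 yf33 zf25) (kf xf15 yf11 zf37) (kf xf26 yf20 zf7) (kf xf18 yf30 zf24) (kf xf18 yf30 zf25) (kf xf10 yf30 zf20) (kf xf10 yf30 zf26) (kf xf8 yf44 zf49) (kf xf18 yf49 zf27) (kf xf18 yf49 zf44) (kf xf26 yf20 zf9) (kf xf8 yf49 zf19) (kf xf8 yf50 zf22) (kf xf8 yf50 zf23) (kf xf8 yf50 zf24) (kf xf20 yf7 zf25) (kf xf24 yf28 zf17) (kf xf20 yf18 zf13) (kf xf26 yf20 zf20) (kf xf26 yf20 zf19) (kf xf26 yf20 zf26) (kf xf8 yf44 zf54) (kf xf24 yf46 zf11) (kf xf24 yf46 zf32) (kf xf18 yf59 zf36) (kf xf10 yf30 zf4) (kf xf24 yf46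 zf34) (kf xf21 yf4 zf15) (kf xf26 yf20 zf37) (kf xf8 yf44 zf57) (kf xf24 yf46 zf27) (kf xf14 yf53 zf49) (kf xf10 yf41 zf50) (kf xf20 yf10 zf35) (kf xf10 yf40 zf19) (kf xf26 yf20 zf41) (kf xf13 yf41 zf22) (kf xf8 yf44 zf61) (kf xf17 yf38 zf13) (kf xf13 yf41 zf54) (kf xf13 yf18 zf28) (kf xf23 yf20 zf34) (kf xf16 yf35 zf7) (kf xf24 yf45 zf30) (kf xf24 yf45 zf31) (kf xf15 yf14 zf10) (kf xf9 yf53 zf52) (kf xf18 yf30 zf26) (kf xf24 yf46 zf45) (kf xf24 yf46 zf46) (kf xf9 yf53 zf45) (kf xf24 yf46 zf43) (kf xf24 yf46 zf44)) (@D3.rec (fun _ => Pt) (kf xf24 yf46 zf48) (kf xf24 yf46 zf47) (kf xf16 yf33 zf52) (kf xf8 yf45 zf9) (kf xf16 yf52 zf58) (kf xf20 yf8 zf3) (kf xf20 yf7 zf47) (kf xf20 yf20 zf57) (kf xf18 yf59 zf1) (kf xf24 yf46 zf54) (kf xf24 yf46 zf55) (kf xf26 yf21 zf12)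 (kf xf8 yf48 zf35) (kf xf12 yf6 zf55) (kf xf12 yf7 zf8) (kf xf8 yf45 zf14) (kf xf21 yf12 zf23) (kf xf21 yf52 zf47) (kf xf18 yf35 zf50) (kf xf24 yf46 zf51) (kf xf18 yf29 zf3) (kf xf16 yf25 zf51) (kf xf18 yf35 zf49) (kf xf8 yf45 zf22) (kf xf20 yf7 zf24) (kf xf24 yf46 zf57) (kf xf18 yf19 zf23) (kf xf24 yf46 zf56) (kf xf21 yf10 zf58) (kf xf21 yf10 zf57) (kf xf26 yf21 zf15) (kf xf8 yf51 zf50) (kf xf23 yf42 zf34) (kf xf12 yf31 zf58) (kf xf26 yf21 zf37) (kf xf8 yf45 zf27) (kf xf25 yf2 zf48) (kf xf12 yf6 zf30) (kf xf12 yf6 zf31) (kf xf16 yf25 zf43) (kf xf12 yf6 zf33) (kf xf26 yf21 zf42) (kf xf8 yf45 zf31) (kf xf21 yf12 zf43) (kf xf12 yf22 zf54) (kf xf12 yf22 zf53) (kf xf8 yf45 zf34) (kf xf12 yf6 zf57) (kf xf12 yf6 zf54) (kf xf11 yf8 zf26) (kf xf17 yf2 zf57) (kf xf12 yf22 zf6)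 (kf xf23 yf10 zf42) (kf xf11 yf50 zf7) (kf xf11 yf37 zf23) (kf xf23 yf10 zf40) (kf xf8 yf45 zf43) (kf xf11 yf37 zf19) (kf xf22 yf2 zf33) (kf xf20 yf52 zf10) (kf xf12 yf43 zf40) (kf xf23 yf3 zf55)) (@D3.rec (fun _ => Pt) (kf xf26 yf21 zf56) (kf xf8 yf45 zf49) (kf xf15 yf25 zf47) (kf xf10 yf26 zf44) (kf xf11 yf49 zf48) (kf xf23 yf3 zf53) (kf xf24 yf46 zf60) (kf xf14 yf44 zf22) (kf xf13 yf55 zf20) (kf xf26 yf21 zf60) (kf xf12 yf5 zf56) (kf xf17 yf45 zf41) (kf xf8 yf45 zf59) (kf xf13 yf26 zf42) (kf xf9 yf46 zf57) (kf xf16 yf27 zf11) (kf xf21 yf44 zf51) (kf xf9 yf25 zf36) (kf xf19 yf23 zf41) (kf xf16 yf26 zf8) (kf xf25 yf3 zf0) (kf xf8 yf46 zf5) (kf xf23 yf15 zf2) (kf xf26 yf22 zf3) (kf xf16 yf26 zf4) (kf xf18 yf41 zf20) (kf xf8 yf46 zf8) (kf xf21 yf15 zf1) (kf xf20 yf41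 zf6) (kf xf23 yf4 zf20) (kf xf8 yf46 zf22) (kf xf8 yf46 zf21) (kf xf13 yf27 zf46) (kf xf13 yf27 zf38) (kf xf22 yf37 zf42) (kf xf26 yf22 zf12) (kf xf9 yf26 zf23) (kf xf16 yf32 zf53) (kf xf13 yf33 zf52) (kf xf8 yf46 zf18) (kf xf24 yf57 zf23) (kf xf26 yf22 zf7) (kf xf26 yf22 zf6) (kf xf26 yf22 zf21) (kf xf8 yf46 zf20) (kf xf24 yf56 zf58) (kf xf9 yf26 zf45) (kf xf21 yf54 zf2) (kf xf26 yf22 zf29) (kf xf12 yf22 zf22) (kf xf20 yf52 zf31) (kf xf21 yf53 zf61) (kf xf24 yf57 zf27) (kf xf23 yf3 zf44) (kf xf12 yf22 zf16) (kf xf20 yf49 zf25) (kf xf12 yf45 zf37) (kf xf12 yf22 zf37) (kf xf26 yf22 zf37) (kf xf12 yf22 zf31) (kf xf12 yf22 zf30) (kf xf12 yf22 zf39)) (@D3.rec (fun _ => Pt) (kf xf16 yf25 zf48) (kf xf12 yf5 zf59) (kf xf8 yf46 zf29) (kf xf12 yf22 zf29) (kf xf24 yf57 zf3) (kf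 xf12 yf22 zf32) (kf xf21 yf13 zf0) (kf xf26 yf22 zf43) (kf xf12 yf22 zf48) (kf xf12 yf22 zf47) (kf xf13 yf55 zf31) (kf xf8 yf46 zf34) (kf xf12 yf6 zf27) (kf xf8 yf46 zf36) (kf xf12 yf5 zf53) (kf xf8 yf46 zf37) (kf xf12 yf23 zf7) (kf xf12 yf23 zf6) (kf xf8 yf46 zf38) (kf xf8 yf47 zf11) (kf xf11 yf37 zf27) (kf xf24 yf0 zf33) (kf xf11 yf36 zf44) (kf xf26 yf22 zf56) (kf xf8 yf46 zf47) (kf xf8 yf46 zf46) (kf xf8 yf46 zf43) (kf xf10 yf23 zf2) (kf xf26 yf22 zf55) (kf xf20 yf31 zf58) (kf xf19 yf58 zf61) (kf xf8 yf46 zf45) (kf xf26 yf22 zf57) (kf xf19 yf48 zf45) (kf xf19 yf48 zf7) (kf xf21 yf29 zf3) (kf xf19 yf48 zf44) (kf xf19 yf48 zf11) (kf xf26 yf23 zf5) (kf xf19 yf49 zf16) (kf xf15 yf8 zf47) (kf xf24 yf47 zf7) (kf xf26 yf23 zf11) (kf xf16 yf23 zf39) (kf xf12 yf5 zf50) (kf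 xf15 yf6 zf6) (kf xf14 yf1 zf57) (kf xf21 yf29 zf29) (kf xf16 yf25 zf0) (kf xf23 yf43 zf15) (kf xf18 yf18 zf48) (kf xf16 yf23 zf21) (kf xf21 yf11 zf46) (kf xf8 yf46 zf54) (kf xf21 yf10 zf60) (kf xf13 yf42 zf3) (kf xf22 yf52 zf23) (kf xf20 yf41 zf1) (kf xf26 yf23 zf22) (kf xf8 yf47 zf6) (kf xf25 yf59 zf14) (kf xf8 yf46 zf58)) (@D3.rec (fun _ => Pt) (kf xf8 yf47 zf10) (kf xf8 yf47 zf13) (kf xf13 yf42 zf15) (kf xf8 yf46 zf60) (kf xf16 yf24 zf24) (kf xf18 yf19 zf47) (kf xf8 yf47 zf0) (kf xf26 yf23 zf30) (kf xf16 yf24 zf19) (kf xf23 yf18 zf46) (kf xf8 yf47 zf2) (kf xf26 yf23 zf33) (kf xf26 yf23 zf35) (kf xf26 yf23 zf20) (kf xf22 yf42 zf48) (kf xf26 yf23 zf40) (kf xf8 yf47 zf5) (kf xf20 yf18 zf11) (kf xf19 yf17 zf52) (kf xf19 yf17 zf49) (kf xf22 yf46 zf29) (kf xf13 yf38 zf59)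 (kf xf26 yf22 zf28) (kf xf26 yf23 zf23) (kf xf25 yf59 zf13) (kf xf8 yf47 zf8) (kf xf26 yf23 zf24) (kf xf26 yf22 zf52) (kf xf23 yf10 zf43) (kf xf14 yf25 zf35) (kf xf14 yf25 zf42) (kf xf13 yf43 zf32) (kf xf9 yf10 zf34) (kf xf23 yf7 zf55) (kf xf13 yf31 zf14) (kf xf13 yf43 zf16) (kf xf26 yf23 zf56) (kf xf8 yf47 zf14) (kf xf26 yf23 zf45) (kf xf9 yf10 zf27) (kf xf15 yf6 zf10) (kf xf17 yf57 zf2) (kf xf13 yf38 zf16) (kf xf17 yf56 zf59) (kf xf17 yf56 zf58) (kf xf17 yf57 zf4) (kf xf14 yf44 zf23) (kf xf17 yf56 zf56) (kf xf26 yf24 zf2) (kf xf17 yf56 zf60) (kf xf8 yf47 zf21) (kf xf17 yf57 zf9) (kf xf16 yf28 zf58) (kf xf24 yf59 zf47) (kf xf17 yf57 zf7) (kf xf16 yf28 zf57) (kf xf26 yf24 zf12) (kf xf17 yf57 zf12) (kf xf17 yf57 zf11) (kf xf25 yf4 zf57) (kf xf25 yf4 zf56) (kf xf8 yf47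 zf24)) (@D3.rec (fun _ => Pt) (kf xf8 yf47 zf42) (kf xf17 yf57 zf24) (kf xf15 yf20 zf54) (kf xf8 yf47 zf27) (kf xf17 yf57 zf18) (kf xf26 yf24 zf19) (kf xf17 yf57 zf20) (kf xf15 yf34 zf25) (kf xf17 yf57 zf26) (kf xf17 yf57 zf25) (kf xf8 yf47 zf30) (kf xf16 yf24 zf15) (kf xf22 yf55 zf33) (kf xf16 yf29 zf5) (kf xf25 yf8 zf61) (kf xf17 yf57 zf31) (kf xf17 yf57 zf30) (kf xf8 yf47 zf33) (kf xf17 yf57 zf29) (kf xf23 yf2 zf17) (kf xf14 yf27 zf60) (kf xf13 yf49 zf11) (kf xf17 yf57 zf34) (kf xf8 yf47 zf36) (kf xf25 yf49 zf25) (kf xf25 yf5 zf46) (kf xf26 yf24 zf39) (kf xf26 yf24 zf38) (kf xf9 yf47 zf14) (kf xf8 yf47 zf39) (kf xf26 yf24 zf45) (kf xf26 yf24 zf14) (kf xf17 yf57 zf40) (kf xf17 yf57 zf39) (kf xf8 yf49 zf16) (kf xf11 yf32 zf33) (kf xf11 yf32 zf34) (kf xf26 yf24 zf50)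 (kf xf17 yf57 zf41) (kf xf13 yf32 zf6) (kf xf8 yf47 zf46) (kf xf26 yf24 zf54) (kf xf25 yf50 zf5) (kf xf11 yf32 zf42) (kf xf11 yf32 zf41) (kf xf8 yf47 zf49) (kf xf20 yf18 zf45) (kf xf26 yf25 zf0) (kf xf15 yf0 zf34) (kf xf19 yf53 zf58) (kf xf26 yf25 zf3) (kf xf8 yf47 zf52) (kf xf11 yf7 zf47) (kf xf26 yf25 zf6) (kf xf19 yf53 zf55) (kf xf18 yf18 zf57) (kf xf9 yf14 zf54) (kf xf16 yf33 zf36) (kf xf8 yf47 zf55) (kf xf21 yf14 zf14) (kf xf23 yf16 zf19) (kf xf10 yf57 zf60)) (@D3.rec (fun _ => Pt) (kf xf10 yf57 zf59) (kf xf8 yf47 zf58) (kf xf8 yf47 zf61) (kf xf16 yf13 zf14) (kf xf16 yf13 zf15) (kf xf16 yf13 zf13) (kf xf18 yf40 zf52) (kf xf18 yf40 zf51) (kf xf24 yf47 zf34) (kf xf26 yf25 zf20) (kf xf23 yf7 zf39) (kf xf22 yf38 zf52) (kf xf21 yf54 zf40) (kf xf16 yf32 zf10) (kf xf8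 yf48 zf8) (kf xf23 yf7 zf40) (kf xf20 yf14 zf24) (kf xf20 yf5 zf41) (kf xf8 yf48 zf22) (kf xf8 yf48 zf11) (kf xf8 yf48 zf29) (kf xf8 yf48 zf26) (kf xf15 yf6 zf8) (kf xf9 yf9 zf39) (kf xf21 yf53 zf54) (kf xf21 yf8 zf7) (kf xf21 yf53 zf55) (kf xf18 yf50 zf25) (kf xf11 yf24 zf38) (kf xf8 yf48 zf21) (kf xf26 yf25 zf27) (kf xf22 yf47 zf18) (kf xf13 yf31 zf47) (kf xf22 yf52 zf44) (kf xf22 yf52 zf43) (kf xf8 yf48 zf24) (kf xf25 yf12 zf23) (kf xf13 yf32 zf14) (kf xf24 yf56 zf45) (kf xf13 yf42 zf5) (kf xf26 yf25 zf28) (kf xf25 yf12 zf43) (kf xf22 yf52 zf39) (kf xf20 yf36 zf60) (kf xf11 yf20 zf59) (kf xf21 yf4 zf13) (kf xf21 yf51 zf29) (kf xf21 yf4 zf10) (kf xf16 yf33 zf44) (kf xf21 yf4 zf14) (kf xf13 yf32 zf4) (kf xf21 yf4 zf11) (kf xf21 yf4 zf17) (kf xf8 yf50 zf36) (kf xf22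 yf54 zf32) (kf xf11 yf13 zf45) (kf xf25 yf11 zf45) (kf xf16 yf26 zf55) (kf xf16 yf26 zf52) (kf xf8 yf48 zf49) (kf xf8 yf49 zf31) (kf xf26 yf26 zf2)) (@D3.rec (fun _ => Pt) (kf xf21 yf4 zf21) (kf xf21 yf4 zf20) (kf xf26 yf26 zf9) (kf xf8 yf48 zf41) (kf xf25 yf14 zf32) (kf xf16 yf27 zf13) (kf xf19 yf37 zf48) (kf xf8 yf48 zf46) (kf xf19 yf37 zf51) (kf xf21 yf4 zf25) (kf xf21 yf4 zf24) (kf xf24 yf36 zf47) (kf xf8 yf50 zf17) (kf xf8 yf50 zf16) (kf xf26 yf26 zf18) (kf xf8 yf48 zf51) (kf xf11 yf39 zf19) (kf xf19 yf50 zf6) (kf xf16 yf36 zf1) (kf xf11 yf1 zf39) (kf xf11 yf1 zf40) (kf xf11 yf1 zf41) (kf xf13 yf47 zf29) (kf xf23 yf14 zf59) (kf xf24 yf56 zf47) (kf xf8 yf48 zf61) (kf xf9 yf47 zf27) (kf xf9 yf47 zf34) (kf xf23 yf43 zf0) (kf xf9 yf14 zf50) (kf xf9 yf14 zf49) (kf xf8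 yf49 zf6) (kf xf17 yf2 zf45) (kf xf20 yf24 zf24) (kf xf11 yf7 zf45) (kf xf24 yf53 zf19) (kf xf11 yf7 zf53) (kf xf18 yf42 zf19) (kf xf23 yf50 zf25) (kf xf17 yf12 zf51) (kf xf25 yf16 zf54) (kf xf12 yf22 zf0) (kf xf15 yf50 zf17) (kf xf16 yf30 zf15) (kf xf8 yf49 zf14) (kf xf11 yf7 zf52) (kf xf24 yf32 zf20) (kf xf11 yf10 zf55) (kf xf20 yf36 zf23) (kf xf21 yf30 zf7) (kf xf17 yf0 zf61) (kf xf26 yf26 zf43) (kf xf8 yf49 zf18) (kf xf12 yf8 zf22) (kf xf17 yf1 zf13) (kf xf20 yf37 zf0) (kf xf9 yf6 zf31) (kf xf17 yf3 zf53) (kf xf21 yf36 zf30) (kf xf11 yf29 zf24) (kf xf17 yf4 zf8) (kf xf8 yf49 zf22)) (@D3.rec (fun _ => Pt) (kf xf10 yf4 zf56) (kf xf9 yf51 zf12) (kf xf20 yf7 zf43) (kf xf20 yf7 zf48) (kf xf16 yf30 zf48) (kf xf26 yf25 zf54) (kf xf25 yf32 zf34) (kf xf8 yf49 zf28) (kf xf26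 yf26 zf58) (kf xf24 yf3 zf19) (kf xf17 yf3 zf48) (kf xf17 yf3 zf46) (kf xf14 yf10 zf16) (kf xf14 yf10 zf13) (kf xf8 yf49 zf32) (kf xf16 yf29 zf43) (kf xf21 yf13 zf51) (kf xf21 yf14 zf16) (kf xf8 yf49 zf58) (kf xf18 yf2 zf14) (kf xf8 yf50 zf6) (kf xf20 yf17 zf25) (kf xf8 yf49 zf40) (kf xf8 yf50 zf13) (kf xf8 yf50 zf14) (kf xf16 yf51 zf35) (kf xf8 yf49 zf44) (kf xf17 yf2 zf33) (kf xf19 yf33 zf16) (kf xf12 yf44 zf17) (kf xf21 yf14 zf17) (kf xf8 yf49 zf49) (kf xf20 yf25 zf37) (kf xf18 yf14 zf9) (kf xf17 yf15 zf23) (kf xf17 yf15 zf7) (kf xf8 yf49 zf53) (kf xf17 yf15 zf18) (kf xf19 yf50 zf42) (kf xf26 yf27 zf2) (kf xf16 yf51 zf41) (kf xf9 yf29 zf26) (kf xf12 yf44 zf14) (kf xf26 yf27 zf11) (kf xf8 yf50 zf4) (kf xf20 yf0 zf30) (kf xf15 yf6 zf16) (kf xf20 yf17 zf21) (kf xf16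 yf30 zf4) (kf xf8 yf50 zf7) (kf xf8 yf50 zf9) (kf xf24 yf36 zf48) (kf xf26 yf27 zf13) (kf xf19 yf50 zf5) (kf xf19 yf50 zf7) (kf xf16 yf47 zf25) (kf xf20 yf6 zf31) (kf xf20 yf6 zf32) (kf xf16 yf51 zf42) (kf xf15 yf50 zf24) (kf xf9 yf7 zf11) (kf xf11 yf36 zf23)) (@D3.rec (fun _ => Pt) (kf xf26 yf27 zf3) (kf xf8 yf50 zf18) (kf xf17 yf59 zf53) (kf xf20 yf6 zf38) (kf xf26 yf26 zf13) (kf xf20 yf6 zf10) (kf xf11 yf36 zf32) (kf xf17 yf34 zf46) (kf xf26 yf26 zf12) (kf xf22 yf7 zf61) (kf xf26 yf26 zf16) (kf xf26 yf26 zf15) (kf xf26 yf27 zf23) (kf xf22 yf47 zf21) (kf xf20 yf37 zf1) (kf xf26 yf27 zf45) (kf xf22 yf52 zf10) (kf xf20 yf36 zf49) (kf xf26 yf27 zf52) (kf xf20 yf36 zf48) (kf xf26 yf27 zf57) (kf xf26 yf17 zf21) (kf xf26 yf20 zf16) (kf xf26 yf20 zf17) (kf xf21 yf12 zf20)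 (kf xf21 yf53 zf34) (kf xf8 yf50 zf32) (kf xf8 yf50 zf31) (kf xf21 yf44 zf33) (kf xf26 yf28 zf2) (kf xf21 yf28 zf61) (kf xf19 yf12 zf41) (kf xf8 yf50 zf30) (kf xf23 yf14 zf54) (kf xf18 yf0 zf38) (kf xf26 yf28 zf5) (kf xf26 yf25 zf37) (kf xf20 yf49 zf24) (kf xf26 yf28 zf4) (kf xf23 yf20 zf53) (kf xf21 yf38 zf7) (kf xf17 yf25 zf1) (kf xf17 yf15 zf15) (kf xf17 yf15 zf14) (kf xf17 yf15 zf19) (kf xf26 yf28 zf20) (kf xf8 yf51 zf32) (kf xf9 yf2 zf40) (kf xf17 yf15 zf13) (kf xf11 yf13 zf46) (kf xf17 yf15 zf16) (kf xf11 yf34 zf25) (kf xf18 yf29 zf58) (kf xf14 yf59 zf49) (kf xf26 yf28 zf24) (kf xf26 yf28 zf25) (kf xf13 yf57 zf60) (kf xf8 yf50 zf42) (kf xf8 yf50 zf44) (kf xf8 yf50 zf48) (kf xf8 yf50 zf47) (kf xf20 yf9 zf9)) (@D3.rec (fun _ => Pt) (kf xf24 yf56 zf44) (kf xf26 yf28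 zf28) (kf xf17 yf55 zf11) (kf xf22 yf38 zf50) (kf xf26 yf28 zf26) (kf xf26 yf28 zf29) (kf xf22 yf47 zf60) (kf xf19 yf27 zf17) (kf xf8 yf50 zf49) (kf xf12 yf6 zf17) (kf xf16 yf28 zf13) (kf xf16 yf33 zf40) (kf xf12 yf46 zf9) (kf xf16 yf33 zf35) (kf xf16 yf33 zf42) (kf xf26 yf28 zf56) (kf xf12 yf6 zf24) (kf xf8 yf50 zf53) (kf xf9 yf8 zf26) (kf xf11 yf33 zf58) (kf xf16 yf33 zf32) (kf xf16 yf33 zf33) (kf xf26 yf29 zf3) (kf xf16 yf33 zf37) (kf xf26 yf29 zf6) (kf xf8 yf50 zf56) (kf xf16 yf33 zf47) (kf xf12 yf21 zf55) (kf xf16 yf33 zf45) (kf xf16 yf33 zf46) (kf xf26 yf29 zf12) (kf xf16 yf33 zf50) (kf xf16 yf33 zf49) (kf xf26 yf29 zf19) (kf xf24 yf46 zf49) (kf xf8 yf50 zf59) (kf xf12 yf5 zf19) (kf xf13 yf16 zf33) (kf xf20 yf30 zf39) (kf xf20 yf31 zf30) (kf xf26 yf29 zf23) (kf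 xf17 yf0 zf19) (kf xf21 yf11 zf49) (kf xf14 yf20 zf30) (kf xf25 yf52 zf15) (kf xf22 yf51 zf21) (kf xf24 yf47 zf52) (kf xf20 yf30 zf42) (kf xf26 yf29 zf33) (kf xf26 yf29 zf22) (kf xf17 yf15 zf12) (kf xf8 yf51 zf3) (kf xf14 yf59 zf26) (kf xf16 yf24 zf37) (kf xf21 yf11 zf50) (kf xf22 yf46 zf33) (kf xf21 yf11 zf45) (kf xf21 yf11 zf52) (kf xf26 yf29 zf46) (kf xf14 yf59 zf33) (kf xf8 yf51 zf6) (kf xf24 yf47 zf32)) (@D3.rec (fun _ => Pt) (kf xf24 yf47 zf46) (kf xf24 yf46 zf3) (kf xf24 yf47 zf44) (kf xf11 yf59 zf33) (kf xf24 yf47 zf48) (kf xf24 yf47 zf47) (kf xf24 yf47 zf54) (kf xf24 yf47 zf55) (kf xf18 yf6 zf38) (kf xf24 yf46 zf1) (kf xf8 yf51 zf10) (kf xf17 yf15 zf21) (kf xf22 yf51 zf36) (kf xf21 yf53 zf38) (kf xf20 yf34 zf42) (kf xf12 yf43 zf8) (kf xf13 yf41 zf59) (kf xf24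 yf47 zf42) (kf xf19 yf59 zf44) (kf xf26 yf30 zf2) (kf xf8 yf51 zf17) (kf xf20 yf35 zf53) (kf xf18 yf19 zf53) (kf xf21 yf11 zf47) (kf xf26 yf30 zf8) (kf xf24 yf47 zf49) (kf xf24 yf47 zf50) (kf xf19 yf59 zf45) (kf xf19 yf59 zf46) (kf xf26 yf23 zf9) (kf xf8 yf51 zf24) (kf xf8 yf51 zf35) (kf xf16 yf32 zf20) (kf xf16 yf32 zf21) (kf xf21 yf14 zf4) (kf xf16 yf32 zf13) (kf xf16 yf27 zf57) (kf xf16 yf32 zf23) (kf xf26 yf30 zf26) (kf xf12 yf53 zf3) (kf xf16 yf32 zf11) (kf xf21 yf53 zf31) (kf xf16 yf32 zf14) (kf xf26 yf26 zf7) (kf xf16 yf28 zf48) (kf xf16 yf32 zf28) (kf xf16 yf32 zf29) (kf xf16 yf32 zf26) (kf xf23 yf4 zf57) (kf xf16 yf32 zf32) (kf xf16 yf32 zf31) (kf xf26 yf30 zf13) (kf xf16 yf23 zf2) (kf xf18 yf2 zf34) (kf xf12 yf8 zf26) (kf xf12 yf8 zf41) (kf xf21 yf10 zf33)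 (kf xf26 yf30 zf55) (kf xf21 yf10 zf31) (kf xf21 yf10 zf30) (kf xf8 yf51 zf39) (kf xf13 yf42 zf13)) (@D3.rec (fun _ => Pt) (kf xf26 yf31 zf0) (kf xf21 yf10 zf28) (kf xf26 yf31 zf5) (kf xf21 yf10 zf36) (kf xf21 yf10 zf35) (kf xf8 yf51 zf42) (kf xf26 yf31 zf11) (kf xf21 yf10 zf45) (kf xf26 yf31 zf16) (kf xf21 yf10 zf43) (kf xf21 yf10 zf42) (kf xf8 yf51 zf45) (kf xf21 yf10 zf40) (kf xf26 yf31 zf29) (kf xf21 yf10 zf48) (kf xf21 yf10 zf47) (kf xf8 yf51 zf47) (kf xf21 yf10 zf52) (kf xf19 yf6 zf19) (kf xf21 yf10 zf50) (kf xf26 yf31 zf39) (kf xf26 yf21 zf33) (kf xf26 yf21 zf34) (kf xf26 yf21 zf35) (kf xf12 yf5 zf18) (kf xf26 yf29 zf20) (kf xf9 yf10 zf35) (kf xf24 yf59 zf57) (kf xf18 yf2 zf35) (kf xf26 yf31 zf54) (kf xf21 yf11 zf4) (kf xf21 yf11 zf3) (kf xf8 yf51 zf54) (kf xf13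 yf38 zf28) (kf xf13 yf38 zf26) (kf xf26 yf32 zf0) (kf xf21 yf11 zf1) (kf xf26 yf32 zf3) (kf xf18 yf2 zf37) (kf xf8 yf51 zf59) (kf xf10 yf20 zf18) (kf xf10 yf32 zf56) (kf xf17 yf51 zf4) (kf xf10 yf22 zf15) (kf xf8 yf52 zf1) (kf xf18 yf14 zf28) (kf xf18 yf14 zf29) (kf xf10 yf34 zf52) (kf xf16 yf35 zf30) (kf xf16 yf35 zf32) (kf xf12 yf22 zf3) (kf xf17 yf53 zf54) (kf xf10 yf1 zf61) (kf xf10 yf1 zf60) (kf xf17 yf2 zf58) (kf xf8 yf52 zf7) (kf xf16 yf35 zf33) (kf xf16 yf35 zf34) (kf xf16 yf35 zf35) (kf xf16 yf35 zf36) (kf xf14 yf42 zf56) (kf xf10 yf22 zf13)) (@D3.rec (fun _ => Pt) (kf xf10 yf22 zf12) (kf xf8 yf52 zf11) (kf xf10 yf22 zf18) (kf xf10 yf22 zf19) (kf xf10 yf22 zf16) (kf xf10 yf22 zf33) (kf xf14 yf59 zf19) (kf xf16 yf22 zf51) (kf xf16 yf35 zf50) (kf xf21 yf13 zf52)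 (kf xf8 yf52 zf17) (kf xf16 yf35 zf44) (kf xf16 yf35 zf45) (kf xf16 yf35 zf46) (kf xf22 yf34 zf14) (kf xf20 yf5 zf56) (kf xf26 yf32 zf32) (kf xf8 yf52 zf20) (kf xf8 yf52 zf23) (kf xf8 yf52 zf22) (kf xf17 yf47 zf55) (kf xf26 yf32 zf38) (kf xf8 yf52 zf21) (kf xf26 yf32 zf33) (kf xf17 yf47 zf54) (kf xf26 yf32 zf44) (kf xf16 yf36 zf10) (kf xf16 yf36 zf9) (kf xf8 yf52 zf27) (kf xf10 yf29 zf11) (kf xf16 yf34 zf48) (kf xf11 yf13 zf37) (kf xf16 yf34 zf49) (kf xf16 yf34 zf56) (kf xf16 yf34 zf57) (kf xf16 yf34 zf58) (kf xf16 yf34 zf59) (kf xf24 yf28 zf14) (kf xf23 yf3 zf54) (kf xf10 yf26 zf46) (kf xf10 yf26 zf45) (kf xf22 yf31 zf32) (kf xf8 yf52 zf34) (kf xf12 yf46 zf44) (kf xf16 yf35 zf11) (kf xf16 yf35 zf12) (kf xf16 yf35 zf13) (kf xf13 yf41 zf36) (kf xf12 yf7 zf38) (kf xf8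 yf52 zf40) (kf xf16 yf35 zf8) (kf xf26 yf32 zf57) (kf xf26 yf20 zf3) (kf xf8 yf52 zf46) (kf xf8 yf52 zf45) (kf xf23 yf43 zf29) (kf xf23 yf42 zf29) (kf xf8 yf52 zf44) (kf xf12 yf2 zf42) (kf xf10 yf9 zf4) (kf xf12 yf47 zf14) (kf xf22 yf29 zf13)) (@D3.rec (fun _ => Pt) (kf xf20 yf19 zf37) (kf xf16 yf29 zf18) (kf xf12 yf46 zf41) (kf xf20 yf12 zf13) (kf xf11 yf44 zf25) (kf xf8 yf52 zf47) (kf xf9 yf17 zf45) (kf xf15 yf24 zf26) (kf xf21 yf33 zf37) (kf xf16 yf35 zf27) (kf xf16 yf35 zf26) (kf xf8 yf52 zf52) (kf xf23 yf46 zf28) (kf xf8 yf53 zf36) (kf xf8 yf53 zf37) (kf xf8 yf53 zf38) (kf xf26 yf7 zf59) (kf xf8 yf54 zf2) (kf xf26 yf33 zf15) (kf xf8 yf52 zf55) (kf xf8 yf54 zf7) (kf xf8 yf54 zf17) (kf xf8 yf54 zf18) (kf xf8 yf54 zf19) (kf xf8 yf54 zf20) (kf xf26 yf33 zf22) (kf xf20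 yf38 zf22) (kf xf8 yf54 zf42) (kf xf8 yf54 zf41) (kf xf24 yf12 zf6) (kf xf8 yf52 zf60) (kf xf8 yf54 zf47) (kf xf8 yf54 zf57) (kf xf8 yf54 zf58) (kf xf8 yf54 zf59) (kf xf8 yf54 zf61) (kf xf8 yf53 zf3) (kf xf8 yf54 zf49) (kf xf8 yf54 zf50) (kf xf8 yf54 zf51) (kf xf26 yf33 zf39) (kf xf8 yf55 zf0) (kf xf26 yf33 zf43) (kf xf8 yf53 zf6) (kf xf8 yf53 zf9) (kf xf8 yf53 zf8) (kf xf19 yf44 zf53) (kf xf14 yf34 zf9) (kf xf26 yf33 zf52) (kf xf26 yf33 zf53) (kf xf8 yf53 zf7) (kf xf25 yf10 zf23) (kf xf10 yf20 zf38) (kf xf26 yf33 zf45) (kf xf24 yf26 zf26) (kf xf26 yf11 zf13) (kf xf26 yf11 zf11) (kf xf26 yf11 zf12) (kf xf25 yf36 zf43) (kf xf26 yf4 zf61) (kf xf20 yf55 zf40) (kf xf8 yf55 zf25)) (@D3.rec (fun _ => Pt) (kf xf26 yf34 zf9) (kf xf8 yf55 zf23) (kf xf26 yf34 zf11) (kf xf8 yf55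 zf30) (kf xf8 yf55 zf29) (kf xf8 yf53 zf14) (kf xf20 yf55 zf47) (kf xf19 yf57 zf55) (kf xf19 yf57 zf56) (kf xf19 yf57 zf57) (kf xf19 yf59 zf24) (kf xf19 yf59 zf25) (kf xf18 yf18 zf44) (kf xf25 yf7 zf53) (kf xf25 yf7 zf54) (kf xf25 yf7 zf55) (kf xf16 yf40 zf46) (kf xf26 yf34 zf34) (kf xf21 yf48 zf23) (kf xf10 yf47 zf51) (kf xf10 yf47 zf50) (kf xf26 yf34 zf41) (kf xf8 yf53 zf23) (kf xf10 yf47 zf58) (kf xf10 yf47 zf55) (kf xf10 yf47 zf44) (kf xf10 yf47 zf45) (kf xf10 yf47 zf46) (kf xf10 yf47 zf47) (kf xf20 yf56 zf37) (kf xf20 yf54 zf4) (kf xf20 yf56 zf36) (kf xf15 yf28 zf16) (kf xf20 yf56 zf38) (kf xf19 yf54 zf51) (kf xf19 yf54 zf52) (kf xf19 yf54 zf53) (kf xf16 yf39 zf37) (kf xf26 yf35 zf2) (kf xf26 yf35 zf5) (kf xf26 yf35 zf6) (kf xf8 yf53 zf32) (kf xf25 yf7 zf56) (kf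 xf25 yf7 zf57) (kf xf25 yf7 zf58) (kf xf16 yf39 zf41) (kf xf20 yf56 zf30) (kf xf20 yf54 zf6) (kf xf20 yf56 zf31) (kf xf17 yf49 zf27) (kf xf26 yf33 zf8) (kf xf16 yf39 zf35) (kf xf26 yf35 zf25) (kf xf26 yf33 zf9) (kf xf24 yf49 zf39) (kf xf16 yf39 zf36) (kf xf20 yf56 zf26) (kf xf22 yf4 zf5) (kf xf26 yf35 zf35) (kf xf25 yf45 zf7) (kf xf25 yf45 zf8) (kf xf19 yf32 zf18)) (@D3.rec (fun _ => Pt) (kf xf26 yf35 zf33) (kf xf26 yf35 zf32) (kf xf26 yf35 zf52) (kf xf8 yf53 zf40) (kf xf18 yf3 zf2) (kf xf16 yf11 zf12) (kf xf25 yf8 zf11) (kf xf26 yf35 zf55) (kf xf25 yf8 zf14) (kf xf25 yf8 zf13) (kf xf26 yf36 zf3) (kf xf8 yf53 zf43) (kf xf19 yf56 zf47) (kf xf19 yf14 zf6) (kf xf25 yf8 zf17) (kf xf19 yf14 zf7) (kf xf20 yf56 zf11) (kf xf20 yf57 zf18) (kf xf20 yf57 zf15) (kf xf26 yf36 zf24)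 (kf xf8 yf53 zf46) (kf xf9 yf41 zf2) (kf xf19 yf13 zf51) (kf xf19 yf13 zf52) (kf xf10 yf49 zf54) (kf xf19 yf53 zf36) (kf xf10 yf34 zf14) (kf xf10 yf31 zf41) (kf xf10 yf34 zf9) (kf xf26 yf36 zf43) (kf xf19 yf13 zf25) (kf xf8 yf53 zf52) (kf xf10 yf33 zf47) (kf xf10 yf31 zf30) (kf xf10 yf33 zf48) (kf xf10 yf33 zf49) (kf xf10 yf33 zf50) (kf xf10 yf33 zf51) (kf xf24 yf13 zf4) (kf xf16 yf39 zf49) (kf xf25 yf7 zf61) (kf xf16 yf39 zf48) (kf xf20 yf56 zf22) (kf xf19 yf33 zf52) (kf xf16 yf40 zf7) (kf xf26 yf36 zf59) (kf xf25 yf8 zf1) (kf xf26 yf37 zf2) (kf xf25 yf8 zf3) (kf xf25 yf8 zf4) (kf xf25 yf8 zf5) (kf xf26 yf37 zf12) (kf xf20 yf56 zf18) (kf xf26 yf37 zf0) (kf xf26 yf37 zf20) (kf xf8 yf53 zf61) (kf xf25 yf45 zf10) (kf xf25 yf45 zf9) (kf xf21 yf1 zf40) (kf xf8 yf54 zf0)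 (kf xf20 yf56 zf2) (kf xf20 yf39 zf15)) (@D3.rec (fun _ => Pt) (kf xf20 yf54 zf60) (kf xf26 yf33 zf12) (kf xf20 yf39 zf14) (kf xf26 yf33 zf14) (kf xf26 yf33 zf13) (kf xf26 yf37 zf33) (kf xf8 yf54 zf3) (kf xf10 yf47 zf43) (kf xf10 yf3 zf31) (kf xf26 yf33 zf16) (kf xf19 yf40 zf43) (kf xf15 yf2 zf41) (kf xf15 yf2 zf42) (kf xf15 yf2 zf43) (kf xf26 yf37 zf43) (kf xf15 yf2 zf14) (kf xf8 yf54 zf9) (kf xf10 yf54 zf21) (kf xf24 yf58 zf8) (kf xf19 yf11 zf10) (kf xf18 yf2 zf61) (kf xf18 yf3 zf0) (kf xf18 yf3 zf1) (kf xf16 yf39 zf24) (kf xf16 yf39 zf23) (kf xf8 yf59 zf13) (kf xf25 yf10 zf4) (kf xf25 yf10 zf5) (kf xf17 yf50 zf45) (kf xf24 yf52 zf37) (kf xf19 yf14 zf21) (kf xf26 yf33 zf17) (kf xf24 yf50 zf35) (kf xf20 yf38 zf33) (kf xf26 yf37 zf46) (kf xf16 yf37 zf51) (kf xf16 yf37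 zf55) (kf xf16 yf37 zf37) (kf xf26 yf37 zf57) (kf xf8 yf54 zf21) (kf xf17 yf7 zf10) (kf xf16 yf37 zf45) (kf xf26 yf38 zf7) (kf xf17 yf50 zf42) (kf xf26 yf38 zf10) (kf xf8 yf54 zf24) (kf xf25 yf10 zf18) (kf xf25 yf10 zf19) (kf xf16 yf38 zf41) (kf xf16 yf38 zf39) (kf xf20 yf57 zf16) (kf xf19 yf43 zf1) (kf xf25 yf10 zf8) (kf xf26 yf38 zf18) (kf xf8 yf54 zf27) (kf xf24 yf26 zf50) (kf xf19 yf31 zf37) (kf xf19 yf2 zf32) (kf xf10 yf55 zf38) (kf xf10 yf55 zf39) (kf xf20 yf57 zf22) (kf xf10 yf55 zf40)) (@D3.rec (fun _ => Pt) (kf xf17 yf46 zf53) (kf xf18 yf22 zf6) (kf xf18 yf22 zf7) (kf xf8 yf58 zf60) (kf xf20 yf57 zf5) (kf xf25 yf10 zf11) (kf xf26 yf38 zf40) (kf xf16 yf38 zf44) (kf xf25 yf10 zf13) (kf xf26 yf37 zf51) (kf xf26 yf38 zf38) (kf xf26 yf38 zf37) (kf xf26 yf38 zf53)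 (kf xf8 yf54 zf39) (kf xf9 yf12 zf10) (kf xf26 yf33 zf23) (kf xf26 yf38 zf61) (kf xf8 yf54 zf40) (kf xf26 yf33 zf25) (kf xf20 yf56 zf13) (kf xf20 yf56 zf56) (kf xf24 yf26 zf42) (kf xf20 yf56 zf12) (kf xf19 yf19 zf20) (kf xf20 yf23 zf40) (kf xf8 yf54 zf43) (kf xf10 yf57 zf30) (kf xf10 yf57 zf31) (kf xf20 yf57 zf1) (kf xf22 yf26 zf23) (kf xf19 yf14 zf11) (kf xf26 yf33 zf32) (kf xf20 yf57 zf26) (kf xf26 yf33 zf33) (kf xf19 yf40 zf51) (kf xf10 yf29 zf37) (kf xf15 yf51 zf46) (kf xf10 yf54 zf57) (kf xf15 yf51 zf45) (kf xf15 yf51 zf47) (kf xf18 yf54 zf4) (kf xf26 yf33 zf30) (kf xf24 yf3 zf29) (kf xf8 yf54 zf53) (kf xf9 yf42 zf3) (kf xf8 yf54 zf54) (kf xf16 yf37 zf16) (kf xf17 yf8 zf60) (kf xf26 yf33 zf26) (kf xf26 yf33 zf28) (kf xf17 yf42 zf30) (kf xf26 yf33 zf29) (kf xf16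 yf41 zf60) (kf xf9 yf42 zf10) (kf xf8 yf55 zf2) (kf xf9 yf42 zf8) (kf xf9 yf42 zf9) (kf xf9 yf42 zf11) (kf xf26 yf33 zf31) (kf xf26 yf33 zf35) (kf xf26 yf33 zf40) (kf xf26 yf33 zf41)) (@D3.rec (fun _ => Pt) (kf xf26 yf33 zf42) (kf xf9 yf43 zf56) (kf xf15 yf51 zf43) (kf xf8 yf55 zf1) (kf xf26 yf39 zf38) (kf xf19 yf19 zf15) (kf xf19 yf19 zf16) (kf xf8 yf55 zf3) (kf xf8 yf55 zf16) (kf xf20 yf57 zf59) (kf xf8 yf55 zf12) (kf xf8 yf55 zf14) (kf xf26 yf38 zf22) (kf xf25 yf10 zf24) (kf xf26 yf39 zf33) (kf xf9 yf51 zf47) (kf xf26 yf39 zf57) (kf xf8 yf55 zf7) (kf xf10 yf54 zf55) (kf xf10 yf56 zf53) (kf xf19 yf33 zf56) (kf xf26 yf40 zf0) (kf xf8 yf55 zf8) (kf xf19 yf31 zf44) (kf xf8 yf55 zf9) (kf xf26 yf38 zf23) (kf xf8 yf55 zf10) (kf xf26 yf39 zf7) (kf xf22 yf4 zf3) (kf xf26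 yf39 zf12) (kf xf15 yf3 zf29) (kf xf26 yf40 zf11) (kf xf15 yf3 zf27) (kf xf20 yf38 zf7) (kf xf26 yf1 zf57) (kf xf26 yf39 zf58) (kf xf20 yf38 zf18) (kf xf20 yf38 zf45) (kf xf8 yf55 zf15) (kf xf8 yf55 zf18) (kf xf8 yf55 zf17) (kf xf21 yf56 zf36) (kf xf26 yf40 zf20) (kf xf25 yf22 zf26) (kf xf26 yf40 zf25) (kf xf22 yf4 zf2) (kf xf25 yf38 zf24) (kf xf20 yf58 zf49) (kf xf26 yf40 zf16) (kf xf26 yf2 zf7) (kf xf25 yf36 zf61) (kf xf21 yf8 zf52) (kf xf24 yf34 zf9) (kf xf8 yf55 zf19) (kf xf26 yf40 zf19) (kf xf20 yf39 zf23) (kf xf8 yf55 zf20) (kf xf26 yf40 zf39) (kf xf20 yf58 zf20) (kf xf20 yf58 zf21) (kf xf16 yf40 zf52) (kf xf18 yf22 zf11)) (@D3.rec (fun _ => Pt) (kf xf18 yf12 zf28) (kf xf26 yf34 zf7) (kf xf26 yf34 zf6) (kf xf26 yf40 zf50) (kf xf8 yf55 zf24) (kf xf26 yf34 zf3)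 (kf xf26 yf34 zf4) (kf xf26 yf40 zf59) (kf xf20 yf39 zf46) (kf xf25 yf45 zf13) (kf xf8 yf55 zf26) (kf xf25 yf45 zf3) (kf xf25 yf45 zf4) (kf xf20 yf13 zf48) (kf xf24 yf19 zf57) (kf xf21 yf20 zf54) (kf xf17 yf16 zf41) (kf xf8 yf55 zf28) (kf xf17 yf48 zf12) (kf xf26 yf34 zf13) (kf xf17 yf48 zf51) (kf xf24 yf14 zf32) (kf xf24 yf14 zf46) (kf xf26 yf34 zf12) (kf xf17 yf48 zf50) (kf xf8 yf55 zf32) (kf xf25 yf20 zf15) (kf xf20 yf57 zf49) (kf xf20 yf58 zf45) (kf xf20 yf58 zf46) (kf xf26 yf38 zf28) (kf xf20 yf58 zf48) (kf xf26 yf39 zf10) (kf xf20 yf58 zf51) (kf xf20 yf58 zf52) (kf xf20 yf58 zf53) (kf xf19 yf31 zf12) (kf xf18 yf49 zf21) (kf xf20 yf58 zf55) (kf xf20 yf58 zf56) (kf xf18 yf49 zf24) (kf xf19 yf32 zf6) (kf xf20 yf58 zf58) (kf xf20 yf58 zf59) (kf xf20 yf58 zf60) (kf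 xf10 yf50 zf43) (kf xf10 yf50 zf44) (kf xf10 yf50 zf45) (kf xf10 yf50 zf46) (kf xf26 yf41 zf35) (kf xf10 yf50 zf56) (kf xf10 yf50 zf55) (kf xf8 yf55 zf44) (kf xf10 yf50 zf58) (kf xf10 yf50 zf50) (kf xf10 yf50 zf51) (kf xf10 yf50 zf52) (kf xf10 yf50 zf53) (kf xf22 yf2 zf38) (kf xf10 yf50 zf48) (kf xf10 yf50 zf60) (kf xf10 yf50 zf61)) (@D3.rec (fun _ => Pt) (kf xf10 yf51 zf0) (kf xf12 yf52 zf25) (kf xf10 yf51 zf5) (kf xf10 yf51 zf6) (kf xf10 yf51 zf7) (kf xf25 yf25 zf49) (kf xf10 yf51 zf11) (kf xf10 yf51 zf12) (kf xf26 yf41 zf61) (kf xf10 yf51 zf15) (kf xf22 yf8 zf5) (kf xf10 yf51 zf18) (kf xf10 yf51 zf20) (kf xf10 yf51 zf21) (kf xf10 yf51 zf22) (kf xf15 yf41 zf1) (kf xf15 yf41 zf3) (kf xf25 yf4 zf14) (kf xf19 yf56 zf44) (kf xf19 yf53 zf45) (kf xf23 yf56 zf4) (kf xf23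 yf56 zf1) (kf xf8 yf56 zf1) (kf xf19 yf31 zf6) (kf xf15 yf59 zf27) (kf xf19 yf31 zf21) (kf xf15 yf59 zf26) (kf xf19 yf53 zf43) (kf xf10 yf47 zf60) (kf xf10 yf47 zf61) (kf xf10 yf48 zf0) (kf xf10 yf53 zf15) (kf xf21 yf0 zf12) (kf xf11 yf39 zf10) (kf xf12 yf54 zf10) (kf xf18 yf21 zf27) (kf xf10 yf52 zf7) (kf xf26 yf42 zf22) (kf xf10 yf52 zf11) (kf xf10 yf52 zf12) (kf xf10 yf52 zf13) (kf xf10 yf52 zf14) (kf xf26 yf42 zf31) (kf xf10 yf52 zf29) (kf xf17 yf30 zf8) (kf xf8 yf56 zf13) (kf xf10 yf52 zf19) (kf xf10 yf52 zf20) (kf xf10 yf52 zf21) (kf xf22 yf6 zf15) (kf xf10 yf52 zf25) (kf xf22 yf8 zf4) (kf xf10 yf52 zf37) (kf xf10 yf52 zf38) (kf xf11 yf22 zf13) (kf xf10 yf52 zf40) (kf xf10 yf52 zf41) (kf xf17 yf53 zf45) (kf xf10 yf52 zf43) (kf xf10 yf52 zf44) (kf xf9 yf41 zf9)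 (kf xf10 yf36 zf61)) (@D3.rec (fun _ => Pt) (kf xf10 yf19 zf22) (kf xf10 yf19 zf23) (kf xf10 yf19 zf24) (kf xf10 yf19 zf25) (kf xf15 yf56 zf39) (kf xf17 yf24 zf60) (kf xf15 yf56 zf44) (kf xf10 yf46 zf17) (kf xf10 yf46 zf18) (kf xf10 yf46 zf19) (kf xf10 yf46 zf20) (kf xf21 yf0 zf1) (kf xf26 yf42 zf60) (kf xf10 yf20 zf25) (kf xf21 yf0 zf2) (kf xf10 yf46 zf46) (kf xf10 yf46 zf47) (kf xf10 yf46 zf48) (kf xf20 yf59 zf57) (kf xf20 yf59 zf58) (kf xf10 yf46 zf54) (kf xf10 yf46 zf55) (kf xf10 yf46 zf56) (kf xf26 yf43 zf17) (kf xf19 yf25 zf35) (kf xf8 yf56 zf32) (kf xf10 yf47 zf0) (kf xf10 yf47 zf1) (kf xf20 yf59 zf51) (kf xf10 yf47 zf4) (kf xf26 yf43 zf26) (kf xf10 yf47 zf7) (kf xf14 yf17 zf46) (kf xf10 yf47 zf9) (kf xf10 yf47 zf10) (kf xf10 yf47 zf11) (kf xf14 yf25 zf61) (kf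 xf11 yf44 zf49) (kf xf20 yf29 zf2) (kf xf9 yf24 zf2) (kf xf10 yf42 zf60) (kf xf20 yf3 zf44) (kf xf14 yf29 zf23) (kf xf10 yf42 zf56) (kf xf10 yf49 zf12) (kf xf21 yf0 zf9) (kf xf10 yf49 zf16) (kf xf10 yf49 zf17) (kf xf10 yf49 zf18) (kf xf10 yf49 zf19) (kf xf21 yf0 zf10) (kf xf21 yf0 zf11) (kf xf10 yf49 zf26) (kf xf10 yf49 zf27) (kf xf10 yf49 zf28) (kf xf26 yf43 zf53) (kf xf10 yf49 zf31) (kf xf10 yf49 zf32) (kf xf26 yf43 zf57) (kf xf10 yf49 zf23) (kf xf19 yf25 zf51) (kf xf8 yf56 zf48)) (@D3.rec (fun _ => Pt) (kf xf10 yf49 zf39) (kf xf11 yf1 zf5) (kf xf17 yf58 zf33) (kf xf10 yf49 zf41) (kf xf17 yf53 zf42) (kf xf10 yf49 zf43) (kf xf10 yf49 zf44) (kf xf11 yf22 zf35) (kf xf10 yf49 zf46) (kf xf10 yf49 zf47) (kf xf10 yf49 zf48) (kf xf11 yf27 zf39) (kf xf10 yf52 zf55) (kf xf20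 yf29 zf3) (kf xf20 yf29 zf4) (kf xf20 yf29 zf5) (kf xf20 yf29 zf6) (kf xf20 yf29 zf7) (kf xf10 yf52 zf51) (kf xf20 yf28 zf15) (kf xf10 yf53 zf16) (kf xf10 yf53 zf17) (kf xf10 yf3 zf51) (kf xf10 yf56 zf6) (kf xf10 yf56 zf7) (kf xf16 yf45 zf26) (kf xf16 yf45 zf25) (kf xf10 yf56 zf8) (kf xf10 yf56 zf9) (kf xf10 yf56 zf10) (kf xf10 yf56 zf13) (kf xf8 yf59 zf8) (kf xf17 yf32 zf46) (kf xf10 yf56 zf16) (kf xf20 yf50 zf5) (kf xf20 yf14 zf60) (kf xf26 yf44 zf25) (kf xf8 yf57 zf6) (kf xf23 yf1 zf32) (kf xf15 yf18 zf4) (kf xf23 yf1 zf34) (kf xf25 yf4 zf26) (kf xf17 yf50 zf35) (kf xf25 yf4 zf27) (kf xf25 yf4 zf24) (kf xf25 yf4 zf25) (kf xf17 yf22 zf11) (kf xf15 yf19 zf26) (kf xf26 yf34 zf29) (kf xf8 yf57 zf10) (kf xf25 yf4 zf31) (kf xf25 yf4 zf32) (kf xf18 yf56 zf3) (kf xf9 yf42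 zf15) (kf xf10 yf38 zf53) (kf xf25 yf25 zf19) (kf xf25 yf4 zf28) (kf xf25 yf4 zf29) (kf xf25 yf4 zf30) (kf xf21 yf0 zf30) (kf xf10 yf56 zf56) (kf xf10 yf56 zf57)) (@D3.rec (fun _ => Pt) (kf xf10 yf56 zf58) (kf xf21 yf0 zf33) (kf xf21 yf0 zf34) (kf xf10 yf56 zf60) (kf xf10 yf57 zf2) (kf xf17 yf55 zf27) (kf xf8 yf57 zf29) (kf xf18 yf1 zf29) (kf xf8 yf57 zf25) (kf xf10 yf57 zf11) (kf xf10 yf57 zf12) (kf xf10 yf57 zf13) (kf xf20 yf7 zf14) (kf xf19 yf48 zf31) (kf xf21 yf37 zf49) (kf xf17 yf53 zf22) (kf xf11 yf47 zf57) (kf xf14 yf50 zf11) (kf xf13 yf57 zf30) (kf xf8 yf57 zf30) (kf xf10 yf54 zf35) (kf xf10 yf55 zf31) (kf xf11 yf8 zf15) (kf xf10 yf55 zf33) (kf xf8 yf59 zf5) (kf xf11 yf57 zf53) (kf xf10 yf55 zf41) (kf xf8 yf57 zf60) (kf xf8 yf57 zf58) (kf xf10 yf53 zf44) (kf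 xf10 yf53 zf47) (kf xf21 yf0 zf50) (kf xf10 yf53 zf48) (kf xf21 yf36 zf39) (kf xf10 yf53 zf52) (kf xf23 yf53 zf48) (kf xf21 yf36 zf43) (kf xf21 yf36 zf44) (kf xf21 yf36 zf45) (kf xf19 yf38 zf57) (kf xf23 yf56 zf2) (kf xf14 yf43 zf24) (kf xf25 yf47 zf39) (kf xf25 yf11 zf29) (kf xf17 yf12 zf9) (kf xf19 yf24 zf4) (kf xf19 yf24 zf6) (kf xf15 yf33 zf5) (kf xf8 yf57 zf56) (kf xf9 yf42 zf26) (kf xf26 yf44 zf56) (kf xf26 yf44 zf57) (kf xf12 yf33 zf46) (kf xf26 yf44 zf54) (kf xf26 yf44 zf55) (kf xf10 yf54 zf50) (kf xf10 yf54 zf51) (kf xf21 yf0 zf56) (kf xf10 yf54 zf58) (kf xf21 yf0 zf58) (kf xf10 yf54 zf53) (kf xf12 yf49 zf51)) (@D3.rec (fun _ => Pt) (kf xf10 yf54 zf59) (kf xf10 yf55 zf9) (kf xf10 yf55 zf10) (kf xf10 yf55 zf11) (kf xf17 yf53 zf38) (kf xf19 yf51 zf35) (kf xf26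 yf2 zf61) (kf xf21 yf36 zf41) (kf xf19 yf51 zf34) (kf xf10 yf44 zf20) (kf xf20 yf29 zf58) (kf xf10 yf40 zf6) (kf xf12 yf50 zf8) (kf xf10 yf58 zf49) (kf xf12 yf50 zf9) (kf xf10 yf59 zf1) (kf xf10 yf58 zf55) (kf xf10 yf58 zf56) (kf xf10 yf58 zf61) (kf xf11 yf1 zf56) (kf xf10 yf59 zf3) (kf xf11 yf17 zf45) (kf xf11 yf46 zf59) (kf xf10 yf59 zf18) (kf xf10 yf59 zf19) (kf xf16 yf30 zf55) (kf xf21 yf37 zf26) (kf xf8 yf58 zf24) (kf xf10 yf59 zf49) (kf xf20 yf14 zf14) (kf xf11 yf58 zf1) (kf xf20 yf4 zf60) (kf xf19 yf59 zf61) (kf xf8 yf58 zf26) (kf xf10 yf58 zf37) (kf xf10 yf58 zf11) (kf xf10 yf58 zf40) (kf xf10 yf58 zf39) (kf xf10 yf57 zf35) (kf xf10 yf57 zf36) (kf xf10 yf57 zf37) (kf xf10 yf57 zf38) (kf xf10 yf57 zf40) (kf xf11 yf1 zf47) (kf xf10 yf57 zf44) (kf xf10 yf57 zf45)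 (kf xf17 yf33 zf45) (kf xf10 yf57 zf46) (kf xf11 yf21 zf58) (kf xf10 yf57 zf42) (kf xf10 yf57 zf49) (kf xf10 yf57 zf51) (kf xf10 yf39 zf53) (kf xf10 yf57 zf57) (kf xf21 yf1 zf12) (kf xf14 yf38 zf29) (kf xf19 yf47 zf6) (kf xf10 yf58 zf12) (kf xf10 yf58 zf13) (kf xf11 yf48 zf46) (kf xf11 yf0 zf35) (kf xf12 yf54 zf30)) (@D3.rec (fun _ => Pt) (kf xf8 yf59 zf11) (kf xf8 yf59 zf14) (kf xf8 yf59 zf16) (kf xf11 yf16 zf13) (kf xf11 yf50 zf15) (kf xf19 yf43 zf2) (kf xf21 yf1 zf19) (kf xf26 yf37 zf3) (kf xf26 yf38 zf11) (kf xf24 yf27 zf39) (kf xf8 yf58 zf61) (kf xf19 yf32 zf13) (kf xf23 yf46 zf27) (kf xf19 yf43 zf23) (kf xf26 yf46 zf7) (kf xf8 yf59 zf2) (kf xf8 yf59 zf3) (kf xf16 yf53 zf55) (kf xf8 yf59 zf6) (kf xf19 yf44 zf0) (kf xf11 yf42 zf13) (kf xf19 yf46 zf34) (kf xf19 yf46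 zf35) (kf xf19 yf47 zf8) (kf xf19 yf37 zf7) (kf xf19 yf46 zf52) (kf xf11 yf43 zf56) (kf xf20 yf17 zf50) (kf xf10 yf59 zf22) (kf xf20 yf38 zf31) (kf xf20 yf38 zf21) (kf xf20 yf38 zf20) (kf xf20 yf38 zf32) (kf xf25 yf16 zf56) (kf xf26 yf46 zf28) (kf xf9 yf12 zf51) (kf xf8 yf59 zf17) (kf xf9 yf31 zf31) (kf xf11 yf18 zf9) (kf xf20 yf51 zf10) (kf xf11 yf21 zf36) (kf xf11 yf21 zf39) (kf xf11 yf21 zf40) (kf xf11 yf21 zf41) (kf xf11 yf1 zf34) (kf xf11 yf19 zf17) (kf xf11 yf19 zf18) (kf xf11 yf16 zf19) (kf xf17 yf56 zf30) (kf xf26 yf46 zf31) (kf xf26 yf46 zf30) (kf xf21 yf32 zf54) (kf xf8 yf59 zf28) (kf xf21 yf1 zf38) (kf xf17 yf32 zf48) (kf xf17 yf0 zf10) (kf xf20 yf51 zf58) (kf xf11 yf1 zf35) (kf xf11 yf1 zf36) (kf xf10 yf58 zf52) (kf xf11 yf1 zf58) (kf xf23 yf38 zf5)) (@D3.rec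 (fun _ => Pt) (kf xf8 yf59 zf37) (kf xf11 yf16 zf26) (kf xf9 yf2 zf55) (kf xf18 yf14 zf14) (kf xf11 yf2 zf1) (kf xf17 yf42 zf19) (kf xf11 yf2 zf11) (kf xf11 yf2 zf23) (kf xf11 yf2 zf24) (kf xf18 yf49 zf29) (kf xf11 yf2 zf27) (kf xf11 yf2 zf30) (kf xf11 yf2 zf14) (kf xf11 yf2 zf15) (kf xf11 yf2 zf18) (kf xf11 yf2 zf22) (kf xf15 yf32 zf1) (kf xf18 yf0 zf14) (kf xf11 yf20 zf22) (kf xf11 yf9 zf50) (kf xf11 yf9 zf52) (kf xf11 yf9 zf53) (kf xf24 yf36 zf32) (kf xf11 yf10 zf7) (kf xf8 yf59 zf60) (kf xf11 yf9 zf60) (kf xf11 yf9 zf61) (kf xf11 yf10 zf0) (kf xf26 yf46 zf53) (kf xf26 yf46 zf57) (kf xf11 yf9 zf57) (kf xf21 yf3 zf17) (kf xf9 yf0 zf1) (kf xf11 yf6 zf1) (kf xf17 yf52 zf38) (kf xf11 yf8 zf5) (kf xf10 yf44 zf21) (kf xf11 yf10 zf58) (kf xf10 yf44 zf25) (kf xf13 yf11 zf1)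 (kf xf11 yf10 zf61) (kf xf18 yf32 zf8) (kf xf11 yf11 zf1) (kf xf11 yf11 zf3) (kf xf17 yf15 zf61) (kf xf20 yf18 zf38) (kf xf20 yf15 zf9) (kf xf9 yf5 zf31) (kf xf11 yf8 zf16) (kf xf21 yf37 zf60) (kf xf9 yf0 zf26) (kf xf9 yf51 zf46) (kf xf9 yf51 zf48) (kf xf9 yf51 zf49) (kf xf16 yf11 zf41) (kf xf16 yf11 zf45) (kf xf11 yf2 zf59) (kf xf11 yf2 zf60) (kf xf11 yf2 zf61) (kf xf11 yf3 zf0) (kf xf18 yf40 zf20) (kf xf26 yf47 zf13)) (@D3.rec (fun _ => Pt) (kf xf18 yf40 zf21) (kf xf19 yf36 zf8) (kf xf11 yf4 zf46) (kf xf9 yf0 zf35) (kf xf11 yf3 zf15) (kf xf11 yf3 zf16) (kf xf11 yf3 zf17) (kf xf11 yf3 zf18) (kf xf26 yf47 zf27) (kf xf26 yf47 zf31) (kf xf11 yf3 zf4) (kf xf11 yf3 zf3) (kf xf26 yf8 zf6) (kf xf9 yf0 zf38) (kf xf11 yf3 zf7) (kf xf11 yf3 zf8) (kf xf11 yf3 zf25) (kf xf11 yf3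 zf26) (kf xf11 yf3 zf27) (kf xf11 yf3 zf29) (kf xf21 yf2 zf24) (kf xf26 yf47 zf47) (kf xf21 yf2 zf25) (kf xf11 yf3 zf34) (kf xf11 yf3 zf35) (kf xf11 yf3 zf36) (kf xf11 yf3 zf37) (kf xf26 yf47 zf56) (kf xf26 yf47 zf60) (kf xf25 yf23 zf17) (kf xf9 yf0 zf46) (kf xf10 yf37 zf52) (kf xf21 yf2 zf19) (kf xf11 yf3 zf44) (kf xf26 yf48 zf5) (kf xf11 yf3 zf47) (kf xf11 yf3 zf48) (kf xf21 yf2 zf12) (kf xf19 yf40 zf7) (kf xf11 yf3 zf55) (kf xf26 yf7 zf10) (kf xf19 yf56 zf30) (kf xf18 yf18 zf5) (kf xf18 yf18 zf7) (kf xf10 yf15 zf45) (kf xf20 yf54 zf54) (kf xf21 yf18 zf20) (kf xf26 yf2 zf49) (kf xf17 yf43 zf29) (kf xf10 yf0 zf61) (kf xf19 yf14 zf51) (kf xf19 yf14 zf52) (kf xf11 yf5 zf35) (kf xf21 yf2 zf33) (kf xf11 yf5 zf38) (kf xf11 yf5 zf39) (kf xf11 yf5 zf40) (kf xf11 yf5 zf41)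 (kf xf21 yf2 zf34) (kf xf21 yf2 zf35) (kf xf11 yf5 zf50) (kf xf11 yf5 zf51)) (@D3.rec (fun _ => Pt) (kf xf26 yf48 zf32) (kf xf11 yf5 zf45) (kf xf9 yf1 zf4) (kf xf9 yf1 zf7) (kf xf9 yf1 zf5) (kf xf12 yf55 zf22) (kf xf21 yf2 zf32) (kf xf20 yf38 zf19) (kf xf12 yf54 zf47) (kf xf26 yf1 zf41) (kf xf11 yf39 zf30) (kf xf12 yf15 zf34) (kf xf9 yf40 zf41) (kf xf9 yf42 zf1) (kf xf10 yf31 zf12) (kf xf9 yf56 zf56) (kf xf11 yf5 zf6) (kf xf11 yf10 zf32) (kf xf12 yf8 zf1) (kf xf20 yf20 zf6) (kf xf11 yf7 zf34) (kf xf11 yf7 zf35) (kf xf12 yf22 zf18) (kf xf25 yf23 zf30) (kf xf11 yf7 zf41) (kf xf11 yf7 zf42) (kf xf25 yf23 zf37) (kf xf11 yf12 zf15) (kf xf11 yf27 zf54) (kf xf11 yf12 zf12) (kf xf11 yf12 zf9) (kf xf21 yf4 zf9) (kf xf9 yf29 zf18) (kf xf9 yf6 zf14) (kf xf11 yf11 zf20) (kf xf16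 yf30 zf25) (kf xf9 yf1 zf48) (kf xf9 yf1 zf47) (kf xf9 yf1 zf42) (kf xf11 yf11 zf40) (kf xf12 yf8 zf3) (kf xf16 yf30 zf40) (kf xf16 yf30 zf58) (kf xf20 yf12 zf4) (kf xf20 yf13 zf32) (kf xf18 yf48 zf33) (kf xf20 yf13 zf31) (kf xf19 yf42 zf37) (kf xf20 yf23 zf29) (kf xf9 yf1 zf49) (kf xf9 yf45 zf30) (kf xf9 yf45 zf43) (kf xf11 yf12 zf46) (kf xf11 yf12 zf50) (kf xf19 yf2 zf29) (kf xf11 yf15 zf8) (kf xf11 yf15 zf9) (kf xf11 yf15 zf10) (kf xf19 yf26 zf40) (kf xf11 yf5 zf46) (kf xf11 yf15 zf15) (kf xf11 yf15 zf16)) (@D3.rec (fun _ => Pt) (kf xf11 yf22 zf21) (kf xf11 yf15 zf20) (kf xf11 yf15 zf21) (kf xf17 yf24 zf21) (kf xf9 yf2 zf10) (kf xf9 yf2 zf9) (kf xf9 yf2 zf2) (kf xf11 yf15 zf55) (kf xf11 yf15 zf56) (kf xf26 yf49 zf14) (kf xf11 yf15 zf53) (kf xf18 yf39 zf39) (kf xf9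 yf2 zf4) (kf xf11 yf16 zf0) (kf xf22 yf46 zf31) (kf xf11 yf16 zf3) (kf xf11 yf16 zf4) (kf xf11 yf16 zf5) (kf xf26 yf49 zf22) (kf xf17 yf24 zf18) (kf xf26 yf49 zf26) (kf xf9 yf2 zf8) (kf xf26 yf49 zf10) (kf xf11 yf21 zf8) (kf xf24 yf10 zf13) (kf xf20 yf20 zf23) (kf xf17 yf22 zf33) (kf xf9 yf3 zf14) (kf xf9 yf2 zf11) (kf xf9 yf3 zf9) (kf xf11 yf14 zf43) (kf xf11 yf14 zf44) (kf xf21 yf3 zf22) (kf xf11 yf14 zf37) (kf xf11 yf14 zf38) (kf xf12 yf10 zf48) (kf xf20 yf9 zf58) (kf xf20 yf9 zf60) (kf xf11 yf12 zf57) (kf xf19 yf2 zf31) (kf xf11 yf12 zf60) (kf xf11 yf22 zf1) (kf xf19 yf26 zf55) (kf xf11 yf13 zf7) (kf xf11 yf13 zf10) (kf xf26 yf27 zf12) (kf xf11 yf13 zf0) (kf xf12 yf55 zf21) (kf xf9 yf2 zf29) (kf xf9 yf8 zf9) (kf xf11 yf13 zf13) (kf xf11 yf13 zf15) (kf xf11 yf13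 zf16) (kf xf26 yf32 zf17) (kf xf9 yf2 zf47) (kf xf9 yf2 zf46) (kf xf9 yf2 zf33) (kf xf11 yf13 zf23) (kf xf16 yf23 zf4) (kf xf11 yf13 zf30) (kf xf26 yf49 zf48) (kf xf10 yf29 zf29)) (@D3.rec (fun _ => Pt) (kf xf11 yf13 zf34) (kf xf11 yf13 zf35) (kf xf11 yf13 zf36) (kf xf26 yf32 zf50) (kf xf13 yf30 zf33) (kf xf13 yf30 zf32) (kf xf9 yf2 zf38) (kf xf11 yf13 zf43) (kf xf11 yf13 zf54) (kf xf11 yf13 zf51) (kf xf11 yf13 zf52) (kf xf24 yf47 zf25) (kf xf11 yf13 zf57) (kf xf12 yf22 zf20) (kf xf11 yf14 zf1) (kf xf11 yf14 zf2) (kf xf11 yf14 zf3) (kf xf12 yf46 zf21) (kf xf9 yf2 zf45) (kf xf11 yf17 zf24) (kf xf21 yf12 zf24) (kf xf12 yf9 zf22) (kf xf20 yf6 zf25) (kf xf10 yf59 zf36) (kf xf21 yf13 zf11) (kf xf11 yf1 zf22) (kf xf26 yf49 zf60) (kf xf9 yf2 zf48) (kf xf11 yf21 zf32) (kf xf9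 yf3 zf16) (kf xf9 yf3 zf21) (kf xf11 yf16 zf25) (kf xf11 yf16 zf24) (kf xf11 yf1 zf59) (kf xf21 yf9 zf26) (kf xf9 yf3 zf51) (kf xf9 yf3 zf33) (kf xf26 yf50 zf5) (kf xf9 yf4 zf21) (kf xf9 yf4 zf20) (kf xf9 yf2 zf59) (kf xf19 yf27 zf21) (kf xf14 yf58 zf41) (kf xf18 yf22 zf19) (kf xf20 yf6 zf44) (kf xf11 yf55 zf15) (kf xf14 yf50 zf3) (kf xf11 yf14 zf10) (kf xf11 yf14 zf14) (kf xf9 yf3 zf1) (kf xf20 yf6 zf11) (kf xf22 yf4 zf47) (kf xf20 yf59 zf55) (kf xf25 yf47 zf8) (kf xf20 yf52 zf29) (kf xf16 yf48 zf17) (kf xf21 yf9 zf16) (kf xf10 yf31 zf59) (kf xf21 yf9 zf13) (kf xf9 yf3 zf10) (kf xf9 yf22 zf40) (kf xf9 yf3 zf12)) (@D3.rec (fun _ => Pt) (kf xf10 yf21 zf48) (kf xf13 yf21 zf33) (kf xf11 yf22 zf32) (kf xf10 yf7 zf54) (kf xf13 yf40 zf59) (kf xf24 yf39 zf54) (kf xf24 yf39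 zf55) (kf xf20 yf15 zf51) (kf xf13 yf53 zf38) (kf xf10 yf21 zf47) (kf xf9 yf3 zf20) (kf xf18 yf49 zf55) (kf xf10 yf57 zf52) (kf xf9 yf12 zf21) (kf xf17 yf7 zf34) (kf xf26 yf50 zf31) (kf xf9 yf3 zf22) (kf xf9 yf17 zf53) (kf xf21 yf38 zf19) (kf xf11 yf16 zf21) (kf xf9 yf3 zf41) (kf xf9 yf3 zf48) (kf xf9 yf3 zf49) (kf xf17 yf19 zf5) (kf xf9 yf3 zf45) (kf xf9 yf3 zf42) (kf xf9 yf3 zf43) (kf xf9 yf3 zf57) (kf xf9 yf3 zf59) (kf xf21 yf37 zf46) (kf xf9 yf3 zf53) (kf xf9 yf3 zf55) (kf xf11 yf30 zf28) (kf xf17 yf11 zf27) (kf xf26 yf50 zf0) (kf xf11 yf0 zf52) (kf xf26 yf50 zf46) (kf xf9 yf4 zf7) (kf xf9 yf4 zf6) (kf xf26 yf50 zf48) (kf xf9 yf3 zf34) (kf xf9 yf4 zf16) (kf xf9 yf4 zf17) (kf xf9 yf4 zf11) (kf xf9 yf4 zf12) (kf xf20 yf20 zf4) (kf xf15 yf4 zf18) (kf xf11 yf34 zf17)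 (kf xf26 yf50 zf55) (kf xf17 yf18 zf26) (kf xf26 yf50 zf49) (kf xf16 yf56 zf15) (kf xf16 yf56 zf14) (kf xf20 yf40 zf45) (kf xf26 yf50 zf38) (kf xf10 yf33 zf15) (kf xf20 yf1 zf33) (kf xf26 yf50 zf34) (kf xf26 yf51 zf5) (kf xf9 yf3 zf44) (kf xf26 yf50 zf36) (kf xf11 yf21 zf6)) (@D3.rec (fun _ => Pt) (kf xf26 yf49 zf30) (kf xf20 yf40 zf49) (kf xf20 yf40 zf48) (kf xf26 yf50 zf33) (kf xf25 yf40 zf27) (kf xf17 yf19 zf45) (kf xf17 yf23 zf1) (kf xf14 yf59 zf60) (kf xf26 yf50 zf40) (kf xf17 yf23 zf0) (kf xf21 yf37 zf45) (kf xf26 yf51 zf18) (kf xf9 yf3 zf56) (kf xf11 yf1 zf4) (kf xf11 yf1 zf6) (kf xf9 yf4 zf30) (kf xf11 yf1 zf8) (kf xf11 yf0 zf53) (kf xf26 yf51 zf30) (kf xf11 yf1 zf9) (kf xf11 yf1 zf10) (kf xf19 yf8 zf39) (kf xf26 yf51 zf28) (kf xf26 yf51 zf27) (kf xf26 yf51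 zf41) (kf xf9 yf4 zf3) (kf xf18 yf52 zf38) (kf xf26 yf50 zf47) (kf xf22 yf38 zf28) (kf xf9 yf46 zf10) (kf xf14 yf40 zf46) (kf xf20 yf24 zf7) (kf xf26 yf38 zf56) (kf xf9 yf4 zf8) (kf xf9 yf4 zf10) (kf xf26 yf50 zf3) (kf xf26 yf50 zf2) (kf xf26 yf51 zf53) (kf xf11 yf13 zf6) (kf xf15 yf4 zf22) (kf xf10 yf18 zf37) (kf xf20 yf1 zf9) (kf xf26 yf50 zf52) (kf xf26 yf38 zf60) (kf xf20 yf37 zf34) (kf xf9 yf10 zf46) (kf xf10 yf11 zf24) (kf xf26 yf50 zf50) (kf xf26 yf10 zf43) (kf xf19 yf27 zf23) (kf xf18 yf48 zf23) (kf xf10 yf48 zf2) (kf xf18 yf21 zf24) (kf xf26 yf50 zf6) (kf xf18 yf48 zf30) (kf xf11 yf39 zf24) (kf xf11 yf56 zf30) (kf xf9 yf12 zf40) (kf xf9 yf12 zf43) (kf xf9 yf12 zf44) (kf xf9 yf12 zf46) (kf xf11 yf21 zf11)) (@D3.rec (fun _ => Pt) (kf xf11 yf21 zf12) (kf xf17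 yf22 zf36) (kf xf9 yf4 zf32) (kf xf9 yf4 zf31) (kf xf9 yf4 zf26) (kf xf9 yf16 zf42) (kf xf26 yf52 zf34) (kf xf11 yf21 zf18) (kf xf11 yf22 zf25) (kf xf11 yf21 zf22) (kf xf26 yf52 zf42) (kf xf21 yf16 zf37) (kf xf20 yf1 zf28) (kf xf26 yf51 zf23) (kf xf16 yf54 zf52) (kf xf16 yf54 zf51) (kf xf26 yf50 zf20) (kf xf11 yf18 zf44) (kf xf11 yf18 zf45) (kf xf11 yf20 zf17) (kf xf9 yf4 zf38) (kf xf11 yf20 zf43) (kf xf11 yf22 zf4) (kf xf11 yf20 zf49) (kf xf19 yf25 zf52) (kf xf11 yf20 zf53) (kf xf21 yf13 zf6) (kf xf11 yf20 zf5) (kf xf11 yf1 zf61) (kf xf10 yf59 zf39) (kf xf11 yf0 zf58) (kf xf11 yf0 zf59) (kf xf11 yf0 zf60) (kf xf11 yf0 zf61) (kf xf11 yf1 zf0) (kf xf14 yf26 zf9) (kf xf11 yf1 zf3) (kf xf9 yf4 zf53) (kf xf11 yf35 zf17) (kf xf9 yf4 zf51) (kf xf20 yf50 zf51) (kf xf20 yf50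 zf55) (kf xf20 yf25 zf49) (kf xf20 yf28 zf25) (kf xf19 yf25 zf22) (kf xf11 yf33 zf44) (kf xf18 yf42 zf17) (kf xf10 yf57 zf41) (kf xf11 yf21 zf59) (kf xf11 yf21 zf60) (kf xf11 yf21 zf61) (kf xf11 yf16 zf14) (kf xf12 yf56 zf51) (kf xf9 yf32 zf57) (kf xf11 yf15 zf11) (kf xf11 yf22 zf22) (kf xf11 yf22 zf23) (kf xf11 yf21 zf17) (kf xf11 yf22 zf26) (kf xf11 yf22 zf27) (kf xf11 yf22 zf31) (kf xf10 yf49 zf42)) (@D3.rec (fun _ => Pt) (kf xf11 yf22 zf36) (kf xf11 yf27 zf15) (kf xf11 yf13 zf11) (kf xf11 yf22 zf2) (kf xf18 yf43 zf35) (kf xf11 yf22 zf5) (kf xf21 yf32 zf41) (kf xf9 yf15 zf42) (kf xf11 yf21 zf0) (kf xf21 yf32 zf46) (kf xf20 yf9 zf6) (kf xf10 yf52 zf42) (kf xf11 yf22 zf14) (kf xf11 yf22 zf47) (kf xf18 yf21 zf29) (kf xf11 yf22 zf50) (kf xf11 yf5 zf49) (kf xf11 yf22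 zf38) (kf xf11 yf22 zf39) (kf xf19 yf49 zf4) (kf xf11 yf22 zf45) (kf xf11 yf22 zf54) (kf xf11 yf22 zf51) (kf xf11 yf22 zf52) (kf xf15 yf45 zf33) (kf xf26 yf53 zf17) (kf xf9 yf5 zf24) (kf xf22 yf9 zf53) (kf xf13 yf6 zf43) (kf xf11 yf27 zf59) (kf xf11 yf27 zf58) (kf xf11 yf27 zf24) (kf xf19 yf43 zf20) (kf xf10 yf49 zf35) (kf xf11 yf27 zf56) (kf xf11 yf28 zf7) (kf xf11 yf25 zf34) (kf xf14 yf4 zf40) (kf xf9 yf5 zf47) (kf xf26 yf53 zf20) (kf xf10 yf37 zf0) (kf xf9 yf5 zf50) (kf xf14 yf13 zf52) (kf xf12 yf57 zf7) (kf xf11 yf44 zf55) (kf xf17 yf19 zf4) (kf xf9 yf5 zf58) (kf xf17 yf57 zf48) (kf xf12 yf57 zf52) (kf xf19 yf23 zf32) (kf xf9 yf6 zf35) (kf xf24 yf53 zf44) (kf xf13 yf1 zf52) (kf xf11 yf28 zf46) (kf xf9 yf6 zf8) (kf xf11 yf49 zf23) (kf xf9 yf50 zf43) (kf xf11 yf29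 zf33) (kf xf20 yf42 zf13) (kf xf9 yf22 zf14) (kf xf9 yf6 zf24) (kf xf9 yf6 zf23)) (@D3.rec (fun _ => Pt) (kf xf26 yf53 zf31) (kf xf9 yf6 zf16) (kf xf18 yf2 zf10) (kf xf9 yf6 zf36) (kf xf26 yf53 zf36) (kf xf9 yf6 zf19) (kf xf9 yf6 zf48) (kf xf9 yf6 zf47) (kf xf11 yf51 zf43) (kf xf11 yf51 zf44) (kf xf17 yf26 zf58) (kf xf9 yf6 zf22) (kf xf14 yf12 zf54) (kf xf22 yf6 zf54) (kf xf20 yf23 zf52) (kf xf22 yf6 zf55) (kf xf19 yf23 zf11) (kf xf26 yf53 zf21) (kf xf26 yf53 zf29) (kf xf26 yf53 zf54) (kf xf9 yf6 zf25) (kf xf20 yf24 zf28) (kf xf20 yf41 zf53) (kf xf20 yf24 zf35) (kf xf22 yf7 zf48) (kf xf15 yf3 zf36) (kf xf26 yf54 zf3) (kf xf14 yf11 zf40) (kf xf20 yf41 zf52) (kf xf26 yf54 zf9) (kf xf15 yf3 zf39) (kf xf9 yf6 zf34) (kf xf20 yf38 zf42) (kf xf20 yf42 zf2) (kf xf11 yf5 zf26)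 (kf xf23 yf58 zf38) (kf xf20 yf42 zf1) (kf xf26 yf53 zf33) (kf xf26 yf53 zf32) (kf xf26 yf54 zf21) (kf xf9 yf6 zf37) (kf xf9 yf6 zf51) (kf xf11 yf29 zf27) (kf xf25 yf23 zf27) (kf xf11 yf29 zf34) (kf xf11 yf29 zf35) (kf xf25 yf23 zf28) (kf xf19 yf32 zf44) (kf xf20 yf1 zf42) (kf xf20 yf1 zf43) (kf xf19 yf32 zf48) (kf xf20 yf1 zf44) (kf xf20 yf1 zf45) (kf xf26 yf53 zf38) (kf xf20 yf1 zf50) (kf xf19 yf32 zf59) (kf xf26 yf53 zf37) (kf xf20 yf1 zf51) (kf xf20 yf26 zf44) (kf xf20 yf26 zf34) (kf xf26 yf54 zf46) (kf xf9 yf6 zf49)) (@D3.rec (fun _ => Pt) (kf xf26 yf54 zf22) (kf xf11 yf51 zf47) (kf xf11 yf51 zf46) (kf xf9 yf48 zf37) (kf xf11 yf32 zf0) (kf xf9 yf48 zf7) (kf xf21 yf3 zf13) (kf xf11 yf32 zf14) (kf xf11 yf32 zf8) (kf xf10 yf44 zf0) (kf xf10 yf44 zf19) (kf xf11 yf32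 zf22) (kf xf9 yf10 zf21) (kf xf23 yf46 zf26) (kf xf11 yf32 zf44) (kf xf19 yf48 zf3) (kf xf11 yf32 zf45) (kf xf11 yf32 zf46) (kf xf9 yf50 zf44) (kf xf9 yf50 zf46) (kf xf11 yf32 zf30) (kf xf11 yf56 zf16) (kf xf11 yf42 zf56) (kf xf11 yf36 zf33) (kf xf9 yf7 zf8) (kf xf11 yf36 zf41) (kf xf11 yf36 zf40) (kf xf12 yf54 zf44) (kf xf20 yf40 zf59) (kf xf9 yf7 zf18) (kf xf9 yf7 zf44) (kf xf9 yf7 zf46) (kf xf21 yf53 zf28) (kf xf21 yf53 zf27) (kf xf9 yf7 zf22) (kf xf25 yf18 zf6) (kf xf21 yf20 zf21) (kf xf9 yf7 zf24) (kf xf9 yf7 zf35) (kf xf10 yf23 zf11) (kf xf10 yf23 zf12) (kf xf20 yf51 zf44) (kf xf21 yf20 zf15) (kf xf17 yf9 zf34) (kf xf21 yf20 zf3) (kf xf18 yf25 zf45) (kf xf9 yf7 zf51) (kf xf18 yf42 zf28) (kf xf23 yf54 zf39) (kf xf11 yf21 zf43) (kf xf9 yf7 zf38) (kf xf18 yf15 zf14)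 (kf xf9 yf15 zf6) (kf xf9 yf15 zf9) (kf xf23 yf47 zf37) (kf xf18 yf39 zf40) (kf xf9 yf7 zf43) (kf xf23 yf30 zf49) (kf xf9 yf7 zf45) (kf xf21 yf30 zf11) (kf xf21 yf30 zf10) (kf xf26 yf55 zf14))
def f_f_17 : D2 → D3 → Pt := @D2.rec (fun _ => D3 → Pt) (@D3.rec (fun _ => Pt) (kf xf18 yf24 zf53) (kf xf18 yf24 zf54) (kf xf17 yf6 zf6) (kf xf10 yf23 zf8) (kf xf10 yf23 zf9) (kf xf10 yf23 zf10) (kf xf16 yf15 zf29) (kf xf26 yf55 zf21) (kf xf9 yf7 zf49) (kf xf26 yf55 zf8) (kf xf16 yf48 zf55) (kf xf9 yf9 zf22) (kf xf11 yf35 zf55) (kf xf11 yf56 zf35) (kf xf10 yf23 zf4) (kf xf10 yf23 zf5) (kf xf26 yf55 zf25) (kf xf12 yf12 zf59) (kf xf23 yf4 zf5) (kf xf16 yf32 zf41) (kf xf11 yf33 zf26) (kf xf9 yf7 zf61) (kf xf9 yf49 zf25) (kf xf9 yf50 zf27) (kf xf11 yf49 zf42) (kf xf11 yf33 zf4) (kf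 xf11 yf33 zf3) (kf xf26 yf55 zf35) (kf xf9 yf8 zf3) (kf xf11 yf33 zf7) (kf xf13 yf42 zf21) (kf xf11 yf33 zf11) (kf xf11 yf33 zf10) (kf xf26 yf55 zf37) (kf xf14 yf25 zf11) (kf xf23 yf5 zf42) (kf xf11 yf33 zf34) (kf xf26 yf55 zf38) (kf xf9 yf8 zf29) (kf xf9 yf8 zf28) (kf xf26 yf55 zf42) (kf xf9 yf8 zf11) (kf xf9 yf8 zf35) (kf xf26 yf55 zf45) (kf xf9 yf8 zf12) (kf xf11 yf33 zf53) (kf xf9 yf8 zf17) (kf xf14 yf23 zf6) (kf xf9 yf8 zf52) (kf xf9 yf8 zf54) (kf xf9 yf8 zf61) (kf xf9 yf9 zf0) (kf xf26 yf55 zf56) (kf xf26 yf55 zf59) (kf xf9 yf8 zf21) (kf xf26 yf55 zf46) (kf xf22 yf32 zf21) (kf xf26 yf51 zf0) (kf xf26 yf23 zf41) (kf xf26 yf56 zf5) (kf xf9 yf8 zf27) (kf xf16 yf29 zf50)) (@D3.rec (fun _ => Pt) (kf xf26 yf52 zf28) (kf xf26 yf55 zf39) (kf xf21 yf30 zf44) (kf xf26 yf52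 zf29) (kf xf22 yf53 zf5) (kf xf22 yf38 zf0) (kf xf26 yf55 zf41) (kf xf26 yf55 zf40) (kf xf18 yf52 zf5) (kf xf9 yf8 zf30) (kf xf20 yf38 zf49) (kf xf12 yf5 zf5) (kf xf26 yf28 zf45) (kf xf16 yf29 zf54) (kf xf21 yf14 zf12) (kf xf22 yf49 zf12) (kf xf22 yf49 zf6) (kf xf21 yf15 zf48) (kf xf26 yf23 zf47) (kf xf18 yf52 zf13) (kf xf26 yf55 zf58) (kf xf9 yf8 zf36) (kf xf18 yf52 zf4) (kf xf19 yf27 zf37) (kf xf14 yf29 zf51) (kf xf9 yf9 zf4) (kf xf9 yf8 zf51) (kf xf20 yf50 zf58) (kf xf17 yf58 zf29) (kf xf20 yf50 zf59) (kf xf9 yf9 zf31) (kf xf11 yf41 zf52) (kf xf19 yf27 zf47) (kf xf11 yf41 zf58) (kf xf10 yf48 zf30) (kf xf23 yf58 zf32) (kf xf26 yf55 zf47) (kf xf20 yf28 zf10) (kf xf21 yf15 zf10) (kf xf24 yf5 zf26) (kf xf26 yf55 zf48) (kf xf26 yf56 zf43) (kf xf12 yf5 zf42) (kf xf19 yf44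 zf9) (kf xf26 yf55 zf50) (kf xf26 yf55 zf51) (kf xf24 yf53 zf21) (kf xf26 yf56 zf54) (kf xf19 yf27 zf28) (kf xf19 yf27 zf32) (kf xf19 yf26 zf54) (kf xf25 yf40 zf43) (kf xf21 yf15 zf51) (kf xf21 yf15 zf52) (kf xf25 yf40 zf46) (kf xf12 yf55 zf30) (kf xf23 yf45 zf32) (kf xf26 yf55 zf52) (kf xf25 yf50 zf48) (kf xf26 yf55 zf53) (kf xf25 yf40 zf35) (kf xf20 yf28 zf13)) (@D3.rec (fun _ => Pt) (kf xf20 yf28 zf14) (kf xf26 yf55 zf57) (kf xf12 yf5 zf44) (kf xf26 yf55 zf44) (kf xf22 yf19 zf58) (kf xf9 yf9 zf2) (kf xf26 yf53 zf19) (kf xf14 yf20 zf14) (kf xf20 yf18 zf52) (kf xf9 yf10 zf12) (kf xf9 yf10 zf44) (kf xf11 yf39 zf58) (kf xf20 yf51 zf16) (kf xf11 yf56 zf34) (kf xf11 yf39 zf52) (kf xf9 yf10 zf47) (kf xf11 yf3 zf50) (kf xf11 yf3 zf52) (kf xf11 yf40 zf6) (kf xf11 yf39 zf21)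 (kf xf11 yf39 zf22) (kf xf18 yf10 zf56) (kf xf18 yf24 zf16) (kf xf9 yf12 zf13) (kf xf21 yf11 zf24) (kf xf9 yf9 zf27) (kf xf18 yf23 zf44) (kf xf11 yf11 zf53) (kf xf24 yf36 zf43) (kf xf26 yf22 zf11) (kf xf23 yf10 zf35) (kf xf9 yf9 zf33) (kf xf11 yf38 zf4) (kf xf16 yf30 zf27) (kf xf9 yf9 zf36) (kf xf25 yf45 zf48) (kf xf20 yf18 zf37) (kf xf23 yf18 zf16) (kf xf9 yf9 zf40) (kf xf20 yf18 zf21) (kf xf23 yf19 zf50) (kf xf22 yf7 zf58) (kf xf21 yf29 zf7) (kf xf21 yf29 zf6) (kf xf9 yf9 zf44) (kf xf16 yf29 zf32) (kf xf21 yf15 zf21) (kf xf21 yf12 zf29) (kf xf9 yf9 zf46) (kf xf11 yf17 zf53) (kf xf9 yf9 zf48) (kf xf9 yf9 zf50) (kf xf26 yf57 zf42) (kf xf18 yf24 zf28) (kf xf21 yf2 zf47) (kf xf19 yf1 zf51) (kf xf15 yf26 zf20) (kf xf16 yf23 zf50) (kf xf16 yf34 zf54) (kf xf23 yf19 zf51)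 (kf xf24 yf39 zf25) (kf xf9 yf9 zf54)) (@D3.rec (fun _ => Pt) (kf xf26 yf57 zf51) (kf xf9 yf15 zf28) (kf xf9 yf15 zf27) (kf xf18 yf42 zf12) (kf xf9 yf9 zf58) (kf xf9 yf15 zf34) (kf xf9 yf15 zf35) (kf xf9 yf15 zf33) (kf xf9 yf10 zf0) (kf xf12 yf15 zf4) (kf xf21 yf32 zf7) (kf xf12 yf15 zf31) (kf xf12 yf14 zf56) (kf xf20 yf2 zf6) (kf xf24 yf32 zf49) (kf xf9 yf10 zf5) (kf xf11 yf56 zf37) (kf xf9 yf10 zf41) (kf xf9 yf10 zf40) (kf xf26 yf57 zf26) (kf xf9 yf26 zf57) (kf xf21 yf38 zf43) (kf xf10 yf4 zf24) (kf xf21 yf38 zf42) (kf xf10 yf2 zf59) (kf xf10 yf2 zf58) (kf xf9 yf10 zf16) (kf xf24 yf7 zf1) (kf xf19 yf20 zf16) (kf xf21 yf2 zf55) (kf xf9 yf10 zf18) (kf xf9 yf10 zf54) (kf xf9 yf10 zf53) (kf xf11 yf51 zf17) (kf xf11 yf38 zf54) (kf xf9 yf10 zf28) (kf xf19 yf29 zf29) (kf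 xf20 yf1 zf36) (kf xf20 yf1 zf37) (kf xf20 yf6 zf35) (kf xf18 yf44 zf29) (kf xf26 yf57 zf43) (kf xf26 yf58 zf2) (kf xf9 yf10 zf31) (kf xf11 yf37 zf28) (kf xf26 yf58 zf14) (kf xf16 yf30 zf11) (kf xf22 yf56 zf37) (kf xf16 yf30 zf10) (kf xf13 yf8 zf3) (kf xf18 yf24 zf14) (kf xf18 yf24 zf15) (kf xf12 yf1 zf40) (kf xf16 yf29 zf57) (kf xf12 yf24 zf21) (kf xf22 yf3 zf27) (kf xf23 yf47 zf4) (kf xf12 yf24 zf20) (kf xf26 yf52 zf11) (kf xf21 yf32 zf5) (kf xf12 yf35 zf56) (kf xf12 yf26 zf14)) (@D3.rec (fun _ => Pt) (kf xf26 yf52 zf10) (kf xf14 yf50 zf18) (kf xf26 yf2 zf33) (kf xf26 yf2 zf31) (kf xf9 yf10 zf48) (kf xf9 yf10 zf56) (kf xf19 yf26 zf24) (kf xf26 yf47 zf19) (kf xf16 yf29 zf60) (kf xf20 yf53 zf25) (kf xf24 yf37 zf49) (kf xf20 yf53 zf26) (kf xf26 yf58 zf29) (kf xf26 yf54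 zf57) (kf xf12 yf34 zf20) (kf xf12 yf34 zf19) (kf xf26 yf58 zf38) (kf xf9 yf10 zf57) (kf xf9 yf11 zf58) (kf xf26 yf58 zf40) (kf xf9 yf10 zf58) (kf xf9 yf12 zf4) (kf xf9 yf12 zf6) (kf xf17 yf59 zf60) (kf xf9 yf12 zf1) (kf xf9 yf12 zf2) (kf xf9 yf12 zf9) (kf xf9 yf12 zf8) (kf xf9 yf10 zf61) (kf xf9 yf12 zf29) (kf xf9 yf11 zf16) (kf xf9 yf12 zf32) (kf xf17 yf9 zf43) (kf xf9 yf12 zf34) (kf xf9 yf11 zf4) (kf xf9 yf12 zf15) (kf xf9 yf12 zf19) (kf xf12 yf24 zf6) (kf xf9 yf12 zf23) (kf xf9 yf11 zf9) (kf xf9 yf30 zf12) (kf xf11 yf0 zf33) (kf xf12 yf10 zf30) (kf xf20 yf25 zf23) (kf xf9 yf11 zf12) (kf xf12 yf54 zf4) (kf xf12 yf54 zf5) (kf xf26 yf10 zf42) (kf xf12 yf53 zf43) (kf xf12 yf53 zf44) (kf xf17 yf22 zf54) (kf xf12 yf53 zf41) (kf xf12 yf53 zf45) (kf xf26 yf58 zf58) (kf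 xf9 yf11 zf19) (kf xf12 yf43 zf46) (kf xf12 yf53 zf49) (kf xf11 yf48 zf37) (kf xf12 yf53 zf51) (kf xf12 yf53 zf54) (kf xf12 yf53 zf53) (kf xf21 yf51 zf36)) (@D3.rec (fun _ => Pt) (kf xf26 yf59 zf3) (kf xf9 yf11 zf26) (kf xf12 yf39 zf52) (kf xf21 yf19 zf32) (kf xf9 yf11 zf28) (kf xf12 yf53 zf23) (kf xf25 yf44 zf47) (kf xf9 yf11 zf29) (kf xf12 yf36 zf35) (kf xf12 yf54 zf26) (kf xf12 yf53 zf25) (kf xf21 yf45 zf5) (kf xf9 yf38 zf53) (kf xf11 yf49 zf25) (kf xf11 yf49 zf27) (kf xf12 yf37 zf30) (kf xf9 yf38 zf50) (kf xf17 yf59 zf61) (kf xf24 yf15 zf41) (kf xf12 yf42 zf56) (kf xf12 yf44 zf27) (kf xf12 yf37 zf33) (kf xf21 yf20 zf6) (kf xf26 yf59 zf5) (kf xf9 yf11 zf43) (kf xf12 yf43 zf43) (kf xf10 yf6 zf24) (kf xf26 yf59 zf10) (kf xf9 yf11 zf44) (kf xf12 yf43 zf48) (kf xf12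 yf43 zf13) (kf xf26 yf59 zf13) (kf xf9 yf11 zf45) (kf xf12 yf23 zf43) (kf xf17 yf51 zf27) (kf xf12 yf44 zf35) (kf xf21 yf22 zf25) (kf xf21 yf30 zf22) (kf xf12 yf42 zf30) (kf xf25 yf45 zf46) (kf xf9 yf11 zf50) (kf xf25 yf36 zf56) (kf xf9 yf11 zf52) (kf xf12 yf44 zf4) (kf xf12 yf40 zf46) (kf xf12 yf44 zf10) (kf xf12 yf44 zf9) (kf xf26 yf3 zf55) (kf xf9 yf11 zf56) (kf xf12 yf49 zf61) (kf xf26 yf57 zf25) (kf xf9 yf11 zf57) (kf xf20 yf51 zf51) (kf xf18 yf43 zf16) (kf xf14 yf35 zf57) (kf xf26 yf58 zf39) (kf xf25 yf23 zf49) (kf xf26 yf59 zf26) (kf xf9 yf11 zf60) (kf xf17 yf59 zf9) (kf xf9 yf47 zf24) (kf xf26 yf58 zf45)) (@D3.rec (fun _ => Pt) (kf xf17 yf59 zf57) (kf xf26 yf58 zf42) (kf xf20 yf40 zf1) (kf xf26 yf41 zf11) (kf xf26 yf59 zf38) (kf xf11 yf49 zf24) (kf xf17 yf0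 zf2) (kf xf12 yf42 zf12) (kf xf9 yf50 zf16) (kf xf26 yf58 zf43) (kf xf17 yf51 zf18) (kf xf12 yf2 zf23) (kf xf26 yf58 zf26) (kf xf26 yf38 zf54) (kf xf26 yf59 zf27) (kf xf15 yf5 zf21) (kf xf18 yf22 zf32) (kf xf11 yf49 zf45) (kf xf20 yf8 zf32) (kf xf11 yf49 zf52) (kf xf12 yf53 zf16) (kf xf9 yf12 zf16) (kf xf12 yf53 zf17) (kf xf12 yf53 zf18) (kf xf11 yf31 zf37) (kf xf20 yf53 zf57) (kf xf26 yf58 zf47) (kf xf26 yf58 zf50) (kf xf21 yf48 zf7) (kf xf12 yf53 zf29) (kf xf9 yf12 zf20) (kf xf26 yf50 zf27) (kf xf10 yf57 zf54) (kf xf11 yf49 zf56) (kf xf26 yf50 zf26) (kf xf17 yf24 zf55) (kf xf20 yf11 zf32) (kf xf26 yf58 zf51) (kf xf9 yf22 zf37) (kf xf11 yf49 zf28) (kf xf12 yf23 zf37) (kf xf18 yf22 zf36) (kf xf9 yf58 zf3) (kf xf9 yf12 zf30) (kf xf23 yf46 zf49) (kf xf26 yf58 zf48) (kf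 xf16 yf14 zf13) (kf xf9 yf12 zf33) (kf xf11 yf41 zf23) (kf xf26 yf58 zf49) (kf xf19 yf59 zf53) (kf xf11 yf36 zf54) (kf xf27 yf0 zf2) (kf xf11 yf37 zf8) (kf xf11 yf37 zf9) (kf xf27 yf0 zf8) (kf xf11 yf39 zf48) (kf xf9 yf12 zf39) (kf xf11 yf54 zf5) (kf xf21 yf3 zf0) (kf xf26 yf52 zf22) (kf xf20 yf39 zf25)) (@D3.rec (fun _ => Pt) (kf xf27 yf0 zf19) (kf xf21 yf2 zf60) (kf xf11 yf51 zf2) (kf xf9 yf12 zf41) (kf xf20 yf39 zf26) (kf xf26 yf52 zf23) (kf xf20 yf39 zf11) (kf xf26 yf35 zf22) (kf xf26 yf52 zf24) (kf xf20 yf39 zf12) (kf xf16 yf39 zf40) (kf xf20 yf54 zf1) (kf xf20 yf54 zf7) (kf xf24 yf53 zf25) (kf xf26 yf52 zf26) (kf xf26 yf26 zf20) (kf xf27 yf0 zf43) (kf xf9 yf12 zf58) (kf xf19 yf53 zf4) (kf xf9 yf12 zf48) (kf xf12 yf47 zf24) (kf xf11 yf49 zf1) (kf xf12 yf47 zf5)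 (kf xf12 yf47 zf6) (kf xf12 yf41 zf9) (kf xf26 yf46 zf26) (kf xf20 yf24 zf1) (kf xf12 yf14 zf19) (kf xf19 yf53 zf5) (kf xf19 yf52 zf54) (kf xf9 yf49 zf16) (kf xf12 yf55 zf0) (kf xf21 yf42 zf43) (kf xf9 yf13 zf5) (kf xf16 yf54 zf14) (kf xf12 yf3 zf49) (kf xf20 yf38 zf24) (kf xf21 yf52 zf22) (kf xf20 yf24 zf27) (kf xf11 yf44 zf24) (kf xf11 yf44 zf23) (kf xf11 yf44 zf26) (kf xf11 yf48 zf22) (kf xf11 yf48 zf3) (kf xf9 yf13 zf48) (kf xf9 yf13 zf30) (kf xf11 yf47 zf9) (kf xf11 yf48 zf28) (kf xf11 yf44 zf43) (kf xf11 yf44 zf42) (kf xf12 yf55 zf31) (kf xf9 yf49 zf26) (kf xf12 yf55 zf32) (kf xf10 yf6 zf57) (kf xf11 yf49 zf22) (kf xf18 yf43 zf14) (kf xf11 yf29 zf23) (kf xf11 yf45 zf5) (kf xf11 yf45 zf6) (kf xf10 yf18 zf33) (kf xf10 yf4 zf4) (kf xf9 yf13 zf39)) (@D3.rec (fun _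 => Pt) (kf xf9 yf49 zf34) (kf xf9 yf18 zf3) (kf xf11 yf36 zf30) (kf xf11 yf50 zf3) (kf xf11 yf48 zf49) (kf xf11 yf50 zf4) (kf xf11 yf48 zf58) (kf xf11 yf37 zf21) (kf xf11 yf50 zf8) (kf xf11 yf50 zf9) (kf xf11 yf50 zf10) (kf xf27 yf0 zf57) (kf xf12 yf14 zf21) (kf xf11 yf49 zf10) (kf xf12 yf14 zf22) (kf xf11 yf50 zf12) (kf xf11 yf50 zf14) (kf xf11 yf50 zf17) (kf xf11 yf50 zf19) (kf xf9 yf31 zf37) (kf xf11 yf46 zf60) (kf xf11 yf49 zf57) (kf xf11 yf24 zf40) (kf xf11 yf47 zf15) (kf xf10 yf59 zf37) (kf xf11 yf24 zf42) (kf xf11 yf49 zf60) (kf xf11 yf49 zf61) (kf xf11 yf50 zf0) (kf xf11 yf31 zf45) (kf xf11 yf50 zf31) (kf xf20 yf8 zf28) (kf xf20 yf28 zf36) (kf xf12 yf55 zf27) (kf xf9 yf14 zf13) (kf xf17 yf59 zf45) (kf xf9 yf31 zf22) (kf xf11 yf31 zf36) (kf xf11 yf51 zf6) (kf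 xf19 yf48 zf51) (kf xf19 yf47 zf46) (kf xf21 yf50 zf17) (kf xf18 yf17 zf28) (kf xf11 yf51 zf5) (kf xf11 yf2 zf9) (kf xf17 yf15 zf45) (kf xf9 yf14 zf27) (kf xf22 yf9 zf38) (kf xf9 yf44 zf7) (kf xf11 yf51 zf13) (kf xf11 yf47 zf49) (kf xf11 yf51 zf26) (kf xf11 yf51 zf28) (kf xf17 yf51 zf2) (kf xf18 yf58 zf0) (kf xf9 yf14 zf34) (kf xf11 yf51 zf19) (kf xf11 yf51 zf21) (kf xf11 yf51 zf22) (kf xf25 yf45 zf5) (kf xf16 yf40 zf47) (kf xf20 yf28 zf19)) (@D3.rec (fun _ => Pt) (kf xf14 yf47 zf9) (kf xf20 yf28 zf20) (kf xf11 yf51 zf50) (kf xf21 yf24 zf15) (kf xf11 yf31 zf34) (kf xf23 yf43 zf1) (kf xf23 yf24 zf42) (kf xf9 yf14 zf48) (kf xf26 yf25 zf30) (kf xf20 yf7 zf15) (kf xf26 yf26 zf24) (kf xf24 yf53 zf20) (kf xf19 yf33 zf10) (kf xf26 yf26 zf23) (kf xf26 yf25 zf50) (kf xf20 yf31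 zf40) (kf xf20 yf31 zf41) (kf xf20 yf32 zf8) (kf xf21 yf28 zf40) (kf xf23 yf20 zf58) (kf xf21 yf28 zf37) (kf xf27 yf1 zf24) (kf xf18 yf58 zf51) (kf xf9 yf14 zf60) (kf xf10 yf5 zf26) (kf xf12 yf37 zf52) (kf xf26 yf55 zf13) (kf xf9 yf15 zf0) (kf xf12 yf23 zf42) (kf xf18 yf39 zf32) (kf xf20 yf32 zf46) (kf xf12 yf43 zf39) (kf xf18 yf23 zf16) (kf xf26 yf59 zf14) (kf xf16 yf59 zf43) (kf xf9 yf15 zf5) (kf xf12 yf12 zf37) (kf xf11 yf56 zf38) (kf xf11 yf56 zf33) (kf xf11 yf56 zf39) (kf xf12 yf39 zf13) (kf xf25 yf46 zf22) (kf xf12 yf35 zf7) (kf xf17 yf4 zf32) (kf xf9 yf15 zf10) (kf xf11 yf35 zf39) (kf xf9 yf15 zf29) (kf xf18 yf12 zf53) (kf xf11 yf56 zf36) (kf xf11 yf41 zf2) (kf xf11 yf28 zf38) (kf xf11 yf58 zf39) (kf xf11 yf58 zf37) (kf xf11 yf58 zf38) (kf xf17 yf12 zf53) (kf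 xf17 yf58 zf42) (kf xf26 yf57 zf53) (kf xf12 yf44 zf49) (kf xf26 yf55 zf17) (kf xf26 yf57 zf52) (kf xf26 yf57 zf28) (kf xf26 yf55 zf6)) (@D3.rec (fun _ => Pt) (kf xf17 yf21 zf5) (kf xf18 yf57 zf60) (kf xf20 yf51 zf53) (kf xf11 yf49 zf35) (kf xf17 yf59 zf15) (kf xf11 yf56 zf40) (kf xf26 yf57 zf54) (kf xf11 yf59 zf8) (kf xf11 yf59 zf11) (kf xf18 yf42 zf16) (kf xf12 yf15 zf45) (kf xf12 yf16 zf1) (kf xf21 yf16 zf20) (kf xf17 yf10 zf28) (kf xf17 yf29 zf11) (kf xf21 yf17 zf17) (kf xf21 yf17 zf18) (kf xf21 yf17 zf19) (kf xf21 yf17 zf20) (kf xf12 yf15 zf58) (kf xf17 yf27 zf41) (kf xf9 yf20 zf48) (kf xf12 yf52 zf47) (kf xf12 yf20 zf61) (kf xf17 yf27 zf47) (kf xf17 yf27 zf48) (kf xf17 yf27 zf49) (kf xf17 yf27 zf50) (kf xf17 yf10 zf13) (kf xf15 yf31 zf14) (kf xf12 yf33 zf56) (kf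 xf18 yf57 zf30) (kf xf26 yf50 zf42) (kf xf27 yf1 zf60) (kf xf9 yf16 zf1) (kf xf9 yf16 zf43) (kf xf25 yf24 zf6) (kf xf9 yf16 zf2) (kf xf9 yf16 zf49) (kf xf9 yf16 zf50) (kf xf12 yf33 zf47) (kf xf9 yf16 zf46) (kf xf9 yf16 zf47) (kf xf9 yf16 zf5) (kf xf9 yf17 zf3) (kf xf12 yf4 zf47) (kf xf9 yf16 zf58) (kf xf17 yf24 zf54) (kf xf9 yf22 zf38) (kf xf26 yf50 zf18) (kf xf27 yf2 zf13) (kf xf9 yf16 zf18) (kf xf9 yf21 zf28) (kf xf9 yf21 zf29) (kf xf9 yf21 zf30) (kf xf9 yf21 zf33) (kf xf9 yf21 zf34) (kf xf17 yf18 zf11) (kf xf20 yf37 zf48) (kf xf27 yf2 zf3) (kf xf9 yf25 zf4) (kf xf9 yf26 zf24)) (@D3.rec (fun _ => Pt) (kf xf27 yf2 zf20) (kf xf9 yf26 zf32) (kf xf9 yf16 zf25) (kf xf25 yf23 zf39) (kf xf14 yf11 zf39) (kf xf14 yf11 zf42) (kf xf9 yf26 zf26) (kf xf27 yf2 zf25) (kf xf9 yf16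 zf29) (kf xf12 yf57 zf37) (kf xf14 yf11 zf44) (kf xf13 yf2 zf48) (kf xf13 yf2 zf53) (kf xf9 yf16 zf37) (kf xf22 yf23 zf21) (kf xf9 yf16 zf33) (kf xf11 yf58 zf44) (kf xf27 yf2 zf31) (kf xf14 yf56 zf38) (kf xf20 yf15 zf42) (kf xf27 yf2 zf34) (kf xf9 yf16 zf35) (kf xf11 yf46 zf27) (kf xf27 yf2 zf36) (kf xf9 yf16 zf38) (kf xf9 yf23 zf13) (kf xf9 yf23 zf17) (kf xf16 yf54 zf33) (kf xf12 yf11 zf20) (kf xf12 yf11 zf19) (kf xf27 yf2 zf40) (kf xf9 yf16 zf41) (kf xf23 yf46 zf37) (kf xf17 yf25 zf7) (kf xf24 yf47 zf4) (kf xf17 yf18 zf25) (kf xf27 yf1 zf61) (kf xf22 yf36 zf55) (kf xf15 yf32 zf17) (kf xf18 yf55 zf46) (kf xf9 yf16 zf44) (kf xf15 yf26 zf45) (kf xf27 yf2 zf4) (kf xf27 yf2 zf5) (kf xf27 yf2 zf53) (kf xf22 yf0 zf36) (kf xf26 yf45 zf24) (kf xf9 yf27 zf29) (kf xf9 yf16 zf48)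 (kf xf17 yf19 zf1) (kf xf27 yf2 zf0) (kf xf12 yf29 zf5) (kf xf22 yf35 zf41) (kf xf22 yf0 zf35) (kf xf17 yf25 zf34) (kf xf17 yf25 zf39) (kf xf27 yf3 zf1) (kf xf21 yf38 zf53) (kf xf18 yf53 zf39) (kf xf22 yf7 zf2) (kf xf9 yf23 zf37) (kf xf27 yf2 zf44)) (@D3.rec (fun _ => Pt) (kf xf25 yf25 zf52) (kf xf27 yf3 zf10) (kf xf12 yf51 zf49) (kf xf12 yf4 zf29) (kf xf12 yf4 zf30) (kf xf12 yf32 zf44) (kf xf9 yf27 zf59) (kf xf22 yf16 zf21) (kf xf25 yf25 zf53) (kf xf16 yf46 zf44) (kf xf9 yf17 zf12) (kf xf9 yf17 zf15) (kf xf14 yf5 zf30) (kf xf9 yf17 zf6) (kf xf11 yf24 zf20) (kf xf11 yf19 zf58) (kf xf11 yf28 zf32) (kf xf20 yf31 zf12) (kf xf11 yf20 zf3) (kf xf20 yf46 zf2) (kf xf21 yf15 zf19) (kf xf13 yf59 zf14) (kf xf14 yf50 zf33) (kf xf23 yf27 zf53) (kf xf23 yf26 zf22) (kf xf12 yf56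 zf13) (kf xf23 yf27 zf54) (kf xf11 yf48 zf10) (kf xf12 yf3 zf55) (kf xf12 yf3 zf57) (kf xf12 yf3 zf47) (kf xf12 yf3 zf50) (kf xf12 yf3 zf54) (kf xf12 yf4 zf2) (kf xf12 yf15 zf7) (kf xf12 yf56 zf11) (kf xf12 yf56 zf10) (kf xf12 yf4 zf32) (kf xf17 yf52 zf25) (kf xf9 yf27 zf19) (kf xf10 yf54 zf1) (kf xf9 yf21 zf27) (kf xf9 yf21 zf35) (kf xf17 yf56 zf46) (kf xf10 yf19 zf9) (kf xf18 yf26 zf23) (kf xf12 yf50 zf2) (kf xf12 yf4 zf26) (kf xf12 yf23 zf14) (kf xf12 yf23 zf13) (kf xf26 yf33 zf6) (kf xf16 yf29 zf39) (kf xf9 yf27 zf12) (kf xf17 yf9 zf54) (kf xf9 yf49 zf56) (kf xf12 yf10 zf31) (kf xf18 yf35 zf4) (kf xf10 yf58 zf29) (kf xf17 yf49 zf9) (kf xf10 yf58 zf9) (kf xf9 yf17 zf54) (kf xf27 yf3 zf38)) (@D3.rec (fun _ => Pt) (kf xf20 yf24 zf49) (kf xf17 yf49 zf18) (kf xf20 yf40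 zf26) (kf xf21 yf51 zf18) (kf xf21 yf37 zf16) (kf xf9 yf17 zf57) (kf xf10 yf59 zf17) (kf xf9 yf17 zf59) (kf xf12 yf36 zf19) (kf xf11 yf14 zf45) (kf xf11 yf43 zf57) (kf xf9 yf18 zf24) (kf xf9 yf37 zf2) (kf xf9 yf36 zf58) (kf xf12 yf24 zf4) (kf xf12 yf24 zf9) (kf xf18 yf23 zf22) (kf xf18 yf23 zf23) (kf xf12 yf17 zf42) (kf xf12 yf9 zf43) (kf xf16 yf13 zf54) (kf xf12 yf24 zf35) (kf xf10 yf14 zf0) (kf xf12 yf24 zf36) (kf xf12 yf18 zf55) (kf xf12 yf18 zf54) (kf xf9 yf19 zf3) (kf xf19 yf22 zf50) (kf xf19 yf22 zf49) (kf xf21 yf5 zf59) (kf xf17 yf51 zf60) (kf xf27 yf3 zf40) (kf xf19 yf22 zf48) (kf xf22 yf9 zf56) (kf xf21 yf21 zf12) (kf xf9 yf18 zf46) (kf xf22 yf9 zf57) (kf xf11 yf59 zf59) (kf xf21 yf32 zf4) (kf xf12 yf17 zf32) (kf xf12 yf17 zf34) (kf xf12 yf17 zf37) (kf xf12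 yf17 zf38) (kf xf12 yf17 zf9) (kf xf12 yf17 zf49) (kf xf12 yf17 zf50) (kf xf12 yf17 zf51) (kf xf12 yf16 zf54) (kf xf14 yf36 zf25) (kf xf12 yf16 zf56) (kf xf12 yf16 zf58) (kf xf12 yf16 zf61) (kf xf12 yf17 zf0) (kf xf12 yf17 zf15) (kf xf12 yf17 zf16) (kf xf12 yf17 zf17) (kf xf12 yf18 zf0) (kf xf12 yf18 zf13) (kf xf12 yf12 zf18) (kf xf12 yf18 zf6) (kf xf12 yf18 zf8) (kf xf9 yf18 zf48)) (@D3.rec (fun _ => Pt) (kf xf9 yf18 zf47) (kf xf27 yf3 zf53) (kf xf26 yf46 zf39) (kf xf27 yf3 zf54) (kf xf21 yf32 zf3) (kf xf22 yf10 zf7) (kf xf21 yf49 zf49) (kf xf12 yf56 zf9) (kf xf12 yf18 zf27) (kf xf16 yf9 zf17) (kf xf12 yf19 zf28) (kf xf12 yf19 zf29) (kf xf12 yf19 zf32) (kf xf12 yf18 zf32) (kf xf12 yf0 zf61) (kf xf12 yf18 zf42) (kf xf12 yf18 zf44) (kf xf12 yf18 zf45) (kf xf21 yf55 zf35)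 (kf xf27 yf4 zf39) (kf xf21 yf55 zf36) (kf xf12 yf21 zf31) (kf xf12 yf21 zf32) (kf xf12 yf25 zf32) (kf xf12 yf18 zf48) (kf xf12 yf18 zf49) (kf xf22 yf2 zf50) (kf xf18 yf37 zf59) (kf xf18 yf37 zf42) (kf xf12 yf19 zf41) (kf xf17 yf35 zf31) (kf xf21 yf19 zf47) (kf xf21 yf26 zf35) (kf xf21 yf26 zf36) (kf xf21 yf26 zf37) (kf xf21 yf46 zf7) (kf xf16 yf16 zf51) (kf xf22 yf8 zf29) (kf xf18 yf36 zf33) (kf xf18 yf36 zf32) (kf xf21 yf59 zf24) (kf xf12 yf20 zf57) (kf xf12 yf59 zf8) (kf xf12 yf20 zf59) (kf xf12 yf21 zf1) (kf xf12 yf21 zf2) (kf xf12 yf21 zf3) (kf xf21 yf5 zf10) (kf xf27 yf5 zf1) (kf xf21 yf5 zf12) (kf xf21 yf5 zf13) (kf xf21 yf5 zf14) (kf xf21 yf5 zf15) (kf xf9 yf27 zf60) (kf xf12 yf21 zf51) (kf xf9 yf32 zf44) (kf xf20 yf37 zf52) (kf xf12 yf39 zf22) (kf xf9 yf19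 zf21) (kf xf21 yf2 zf38) (kf xf12 yf7 zf27) (kf xf27 yf5 zf7)) (@D3.rec (fun _ => Pt) (kf xf9 yf19 zf30) (kf xf9 yf19 zf29) (kf xf9 yf19 zf27) (kf xf27 yf5 zf5) (kf xf26 yf22 zf22) (kf xf14 yf44 zf16) (kf xf9 yf19 zf28) (kf xf16 yf30 zf35) (kf xf11 yf46 zf6) (kf xf20 yf18 zf51) (kf xf26 yf29 zf1) (kf xf27 yf5 zf8) (kf xf16 yf32 zf50) (kf xf16 yf31 zf48) (kf xf16 yf31 zf43) (kf xf16 yf31 zf42) (kf xf16 yf31 zf50) (kf xf20 yf32 zf4) (kf xf16 yf30 zf37) (kf xf16 yf31 zf44) (kf xf20 yf26 zf18) (kf xf16 yf33 zf11) (kf xf27 yf5 zf23) (kf xf16 yf30 zf34) (kf xf27 yf5 zf24) (kf xf9 yf19 zf43) (kf xf20 yf25 zf42) (kf xf15 yf0 zf13) (kf xf24 yf24 zf11) (kf xf19 yf18 zf37) (kf xf9 yf19 zf42) (kf xf12 yf7 zf42) (kf xf13 yf47 zf22) (kf xf12 yf9 zf36) (kf xf12 yf9 zf35) (kf xf27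 yf5 zf35) (kf xf9 yf19 zf44) (kf xf21 yf2 zf36) (kf xf12 yf9 zf11) (kf xf12 yf9 zf10) (kf xf27 yf5 zf40) (kf xf9 yf19 zf47) (kf xf19 yf21 zf23) (kf xf9 yf19 zf48) (kf xf20 yf8 zf31) (kf xf17 yf8 zf45) (kf xf12 yf9 zf51) (kf xf12 yf54 zf51) (kf xf9 yf19 zf60) (kf xf12 yf14 zf36) (kf xf18 yf24 zf24) (kf xf12 yf4 zf8) (kf xf9 yf57 zf60) (kf xf18 yf58 zf4) (kf xf22 yf4 zf54) (kf xf9 yf20 zf0) (kf xf12 yf15 zf1) (kf xf12 yf14 zf60) (kf xf12 yf15 zf2) (kf xf21 yf1 zf7) (kf xf20 yf5 zf51) (kf xf16 yf49 zf44)) (@D3.rec (fun _ => Pt) (kf xf20 yf19 zf28) (kf xf12 yf12 zf21) (kf xf12 yf25 zf11) (kf xf12 yf25 zf9) (kf xf12 yf24 zf55) (kf xf12 yf24 zf60) (kf xf12 yf24 zf61) (kf xf12 yf25 zf15) (kf xf12 yf25 zf16) (kf xf12 yf25 zf17) (kf xf12 yf25 zf54) (kf xf12 yf21 zf10) (kf xf12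 yf26 zf8) (kf xf12 yf21 zf43) (kf xf12 yf26 zf5) (kf xf12 yf26 zf6) (kf xf11 yf12 zf19) (kf xf12 yf50 zf45) (kf xf11 yf11 zf5) (kf xf16 yf7 zf43) (kf xf16 yf8 zf46) (kf xf16 yf9 zf24) (kf xf16 yf9 zf25) (kf xf16 yf9 zf26) (kf xf22 yf10 zf3) (kf xf23 yf2 zf45) (kf xf23 yf2 zf44) (kf xf9 yf20 zf33) (kf xf22 yf10 zf4) (kf xf22 yf10 zf6) (kf xf16 yf7 zf49) (kf xf9 yf56 zf12) (kf xf12 yf24 zf27) (kf xf12 yf24 zf28) (kf xf12 yf24 zf29) (kf xf10 yf18 zf8) (kf xf12 yf31 zf14) (kf xf11 yf28 zf59) (kf xf11 yf28 zf54) (kf xf12 yf29 zf6) (kf xf12 yf2 zf48) (kf xf16 yf42 zf16) (kf xf9 yf20 zf45) (kf xf9 yf23 zf9) (kf xf9 yf23 zf11) (kf xf10 yf25 zf22) (kf xf10 yf25 zf23) (kf xf9 yf22 zf55) (kf xf9 yf22 zf58) (kf xf12 yf33 zf14) (kf xf12 yf33 zf16) (kf xf12 yf33 zf15) (kf xf12 yf52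 zf42) (kf xf12 yf33 zf25) (kf xf12 yf33 zf26) (kf xf21 yf5 zf5) (kf xf12 yf33 zf32) (kf xf12 yf33 zf31) (kf xf18 yf36 zf15) (kf xf10 yf27 zf19) (kf xf12 yf56 zf55) (kf xf10 yf44 zf38)) (@D3.rec (fun _ => Pt) (kf xf27 yf3 zf12) (kf xf15 yf27 zf1) (kf xf9 yf22 zf16) (kf xf9 yf22 zf17) (kf xf9 yf22 zf18) (kf xf9 yf22 zf27) (kf xf12 yf32 zf37) (kf xf12 yf2 zf34) (kf xf15 yf57 zf58) (kf xf21 yf18 zf53) (kf xf14 yf32 zf16) (kf xf14 yf32 zf15) (kf xf15 yf51 zf33) (kf xf9 yf21 zf12) (kf xf12 yf33 zf43) (kf xf12 yf33 zf44) (kf xf12 yf33 zf50) (kf xf17 yf21 zf38) (kf xf15 yf56 zf54) (kf xf13 yf20 zf24) (kf xf14 yf13 zf21) (kf xf13 yf23 zf11) (kf xf13 yf23 zf44) (kf xf14 yf13 zf22) (kf xf27 yf6 zf51) (kf xf9 yf21 zf21) (kf xf22 yf7 zf17) (kf xf22 yf1 zf12) (kf xf22 yf7 zf18) (kf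 xf27 yf6 zf55) (kf xf21 yf35 zf26) (kf xf27 yf6 zf58) (kf xf24 yf6 zf10) (kf xf23 yf47 zf14) (kf xf19 yf53 zf31) (kf xf23 yf47 zf13) (kf xf27 yf7 zf4) (kf xf21 yf38 zf44) (kf xf21 yf38 zf37) (kf xf27 yf2 zf15) (kf xf12 yf32 zf33) (kf xf12 yf32 zf35) (kf xf22 yf40 zf11) (kf xf11 yf42 zf41) (kf xf27 yf2 zf16) (kf xf27 yf3 zf28) (kf xf22 yf7 zf20) (kf xf27 yf7 zf27) (kf xf12 yf32 zf48) (kf xf17 yf35 zf14) (kf xf26 yf4 zf2) (kf xf9 yf23 zf15) (kf xf24 yf15 zf23) (kf xf11 yf43 zf18) (kf xf12 yf52 zf6) (kf xf9 yf27 zf28) (kf xf9 yf27 zf30) (kf xf12 yf52 zf7) (kf xf9 yf27 zf61) (kf xf9 yf28 zf1) (kf xf9 yf28 zf0) (kf xf12 yf52 zf9)) (@D3.rec (fun _ => Pt) (kf xf12 yf52 zf10) (kf xf21 yf16 zf34) (kf xf21 yf16 zf35) (kf xf21 yf16 zf36) (kf xf17 yf28 zf21) (kf xf27 yf7 zf57)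 (kf xf15 yf26 zf42) (kf xf12 yf30 zf58) (kf xf12 yf30 zf59) (kf xf12 yf30 zf60) (kf xf9 yf21 zf56) (kf xf17 yf10 zf57) (kf xf18 yf42 zf7) (kf xf20 yf19 zf42) (kf xf21 yf38 zf25) (kf xf21 yf38 zf26) (kf xf21 yf38 zf27) (kf xf21 yf38 zf28) (kf xf24 yf28 zf3) (kf xf17 yf21 zf18) (kf xf17 yf21 zf17) (kf xf9 yf22 zf5) (kf xf23 yf55 zf21) (kf xf17 yf28 zf45) (kf xf9 yf22 zf7) (kf xf17 yf11 zf35) (kf xf16 yf54 zf49) (kf xf19 yf52 zf2) (kf xf17 yf28 zf46) (kf xf12 yf1 zf9) (kf xf10 yf27 zf35) (kf xf20 yf34 zf6) (kf xf26 yf53 zf28) (kf xf20 yf30 zf8) (kf xf27 yf8 zf20) (kf xf9 yf22 zf15) (kf xf20 yf33 zf3) (kf xf27 yf6 zf26) (kf xf27 yf8 zf24) (kf xf20 yf33 zf2) (kf xf27 yf6 zf27) (kf xf18 yf21 zf33) (kf xf27 yf6 zf29) (kf xf26 yf53 zf0) (kf xf27 yf6 zf30) (kf xf27 yf8 zf35)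 (kf xf27 yf8 zf39) (kf xf9 yf22 zf20) (kf xf27 yf8 zf40) (kf xf17 yf25 zf22) (kf xf27 yf8 zf42) (kf xf9 yf22 zf22) (kf xf24 yf26 zf55) (kf xf24 yf26 zf56) (kf xf20 yf59 zf50) (kf xf20 yf59 zf56) (kf xf10 yf21 zf58) (kf xf27 yf2 zf11) (kf xf27 yf2 zf10) (kf xf27 yf8 zf58) (kf xf9 yf22 zf25) (kf xf27 yf6 zf31)) (@D3.rec (fun _ => Pt) (kf xf24 yf20 zf36) (kf xf17 yf11 zf49) (kf xf17 yf21 zf51) (kf xf18 yf42 zf10) (kf xf16 yf57 zf45) (kf xf16 yf54 zf23) (kf xf24 yf2 zf17) (kf xf19 yf59 zf52) (kf xf17 yf54 zf56) (kf xf11 yf0 zf47) (kf xf9 yf24 zf33) (kf xf24 yf53 zf40) (kf xf19 yf25 zf26) (kf xf19 yf23 zf23) (kf xf9 yf24 zf11) (kf xf9 yf24 zf14) (kf xf9 yf24 zf15) (kf xf9 yf24 zf24) (kf xf16 yf1 zf4) (kf xf20 yf2 zf8) (kf xf27 yf6 zf10) (kf xf12 yf51 zf15) (kf xf27 yf6 zf11)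 (kf xf9 yf24 zf45) (kf xf9 yf24 zf49) (kf xf9 yf24 zf48) (kf xf9 yf24 zf56) (kf xf9 yf24 zf58) (kf xf19 yf24 zf50) (kf xf9 yf25 zf25) (kf xf9 yf27 zf2) (kf xf21 yf8 zf4) (kf xf21 yf22 zf0) (kf xf9 yf25 zf3) (kf xf18 yf42 zf48) (kf xf9 yf25 zf17) (kf xf18 yf46 zf52) (kf xf22 yf11 zf18) (kf xf27 yf6 zf7) (kf xf9 yf25 zf42) (kf xf27 yf9 zf19) (kf xf11 yf45 zf7) (kf xf24 yf14 zf31) (kf xf9 yf23 zf14) (kf xf11 yf26 zf24) (kf xf16 yf55 zf5) (kf xf9 yf50 zf3) (kf xf20 yf15 zf39) (kf xf18 yf47 zf20) (kf xf24 yf15 zf22) (kf xf27 yf9 zf26) (kf xf9 yf23 zf25) (kf xf9 yf23 zf24) (kf xf27 yf9 zf28) (kf xf9 yf23 zf20) (kf xf27 yf9 zf30) (kf xf17 yf24 zf37) (kf xf22 yf36 zf45) (kf xf27 yf9 zf24) (kf xf27 yf9 zf23) (kf xf27 yf9 zf37) (kf xf9 yf23 zf23)) (@D3.rec (fun _ => Pt) (kf xf27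 yf3 zf43) (kf xf21 yf40 zf8) (kf xf22 yf7 zf56) (kf xf10 yf27 zf5) (kf xf21 yf40 zf9) (kf xf24 yf15 zf37) (kf xf22 yf22 zf32) (kf xf22 yf22 zf29) (kf xf20 yf36 zf47) (kf xf9 yf23 zf26) (kf xf9 yf26 zf46) (kf xf9 yf26 zf47) (kf xf15 yf56 zf0) (kf xf9 yf26 zf49) (kf xf9 yf26 zf48) (kf xf27 yf9 zf58) (kf xf9 yf23 zf29) (kf xf9 yf25 zf28) (kf xf9 yf27 zf5) (kf xf9 yf27 zf8) (kf xf25 yf59 zf15) (kf xf9 yf26 zf61) (kf xf27 yf10 zf5) (kf xf9 yf27 zf15) (kf xf9 yf27 zf16) (kf xf18 yf47 zf30) (kf xf9 yf27 zf13) (kf xf27 yf10 zf11) (kf xf9 yf27 zf18) (kf xf27 yf3 zf5) (kf xf25 yf32 zf37) (kf xf9 yf23 zf59) (kf xf9 yf27 zf37) (kf xf9 yf27 zf38) (kf xf12 yf56 zf56) (kf xf25 yf43 zf58) (kf xf12 yf56 zf59) (kf xf21 yf52 zf26) (kf xf13 yf1 zf54) (kf xf12 yf39 zf47) (kf xf12 yf50 zf5)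 (kf xf17 yf45 zf22) (kf xf17 yf45 zf27) (kf xf11 yf43 zf60) (kf xf13 yf18 zf32) (kf xf12 yf45 zf36) (kf xf12 yf51 zf50) (kf xf12 yf51 zf53) (kf xf13 yf18 zf18) (kf xf9 yf30 zf55) (kf xf14 yf16 zf12) (kf xf22 yf7 zf22) (kf xf17 yf25 zf57) (kf xf11 yf46 zf48) (kf xf11 yf25 zf49) (kf xf27 yf10 zf35) (kf xf9 yf23 zf57) (kf xf27 yf10 zf14) (kf xf19 yf9 zf58) (kf xf9 yf24 zf1) (kf xf9 yf24 zf0) (kf xf26 yf43 zf37)) (@D3.rec (fun _ => Pt) (kf xf9 yf23 zf60) (kf xf21 yf13 zf17) (kf xf12 yf44 zf57) (kf xf9 yf23 zf61) (kf xf21 yf49 zf50) (kf xf17 yf10 zf0) (kf xf27 yf10 zf38) (kf xf26 yf52 zf58) (kf xf21 yf10 zf9) (kf xf27 yf10 zf37) (kf xf11 yf1 zf33) (kf xf21 yf39 zf52) (kf xf25 yf18 zf45) (kf xf10 yf38 zf7) (kf xf24 yf27 zf48) (kf xf27 yf10 zf52) (kf xf9 yf24 zf5) (kf xf17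 yf18 zf20) (kf xf17 yf18 zf19) (kf xf10 yf26 zf12) (kf xf9 yf24 zf6) (kf xf14 yf13 zf58) (kf xf12 yf57 zf25) (kf xf19 yf28 zf24) (kf xf11 yf44 zf46) (kf xf11 yf44 zf48) (kf xf9 yf28 zf36) (kf xf25 yf42 zf8) (kf xf9 yf28 zf37) (kf xf27 yf9 zf3) (kf xf12 yf57 zf36) (kf xf15 yf52 zf31) (kf xf25 yf52 zf21) (kf xf12 yf50 zf35) (kf xf12 yf50 zf34) (kf xf25 yf57 zf22) (kf xf12 yf50 zf31) (kf xf9 yf28 zf45) (kf xf17 yf17 zf17) (kf xf25 yf51 zf16) (kf xf26 yf14 zf5) (kf xf26 yf14 zf7) (kf xf27 yf11 zf4) (kf xf15 yf57 zf33) (kf xf9 yf24 zf25) (kf xf11 yf43 zf59) (kf xf18 yf43 zf12) (kf xf19 yf10 zf28) (kf xf11 yf26 zf13) (kf xf18 yf48 zf21) (kf xf24 yf53 zf39) (kf xf17 yf19 zf2) (kf xf23 yf42 zf30) (kf xf9 yf24 zf41) (kf xf24 yf53 zf41) (kf xf24 yf53 zf42) (kf xf10 yf25 zf48)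 (kf xf10 yf25 zf24) (kf xf27 yf9 zf8) (kf xf17 yf23 zf14) (kf xf14 yf11 zf46) (kf xf27 yf11 zf18)) (@D3.rec (fun _ => Pt) (kf xf14 yf14 zf9) (kf xf17 yf23 zf13) (kf xf18 yf53 zf4) (kf xf12 yf33 zf11) (kf xf12 yf33 zf17) (kf xf12 yf52 zf48) (kf xf12 yf59 zf18) (kf xf27 yf9 zf9) (kf xf19 yf26 zf14) (kf xf9 yf28 zf49) (kf xf25 yf51 zf18) (kf xf16 yf45 zf46) (kf xf19 yf26 zf8) (kf xf27 yf11 zf34) (kf xf24 yf5 zf12) (kf xf27 yf11 zf31) (kf xf15 yf32 zf24) (kf xf9 yf24 zf60) (kf xf20 yf26 zf2) (kf xf10 yf4 zf46) (kf xf20 yf45 zf27) (kf xf18 yf43 zf18) (kf xf20 yf11 zf36) (kf xf21 yf2 zf59) (kf xf27 yf11 zf44) (kf xf9 yf25 zf5) (kf xf18 yf42 zf47) (kf xf18 yf21 zf14) (kf xf27 yf11 zf46) (kf xf9 yf25 zf20) (kf xf9 yf25 zf19) (kf xf24 yf10 zf33) (kf xf9 yf25 zf12) (kf xf16 yf52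 zf26) (kf xf10 yf57 zf43) (kf xf9 yf25 zf15) (kf xf16 yf56 zf1) (kf xf27 yf11 zf55) (kf xf15 yf56 zf33) (kf xf15 yf56 zf37) (kf xf9 yf25 zf18) (kf xf11 yf45 zf42) (kf xf27 yf11 zf48) (kf xf27 yf11 zf49) (kf xf23 yf58 zf8) (kf xf23 yf52 zf59) (kf xf21 yf57 zf10) (kf xf27 yf11 zf47) (kf xf23 yf58 zf7) (kf xf23 yf57 zf20) (kf xf19 yf29 zf24) (kf xf27 yf12 zf9) (kf xf9 yf25 zf21) (kf xf10 yf25 zf10) (kf xf17 yf4 zf50) (kf xf18 yf13 zf55) (kf xf23 yf19 zf48) (kf xf27 yf9 zf59) (kf xf20 yf45 zf10) (kf xf12 yf37 zf18) (kf xf12 yf37 zf16) (kf xf12 yf46 zf49)) (@D3.rec (fun _ => Pt) (kf xf16 yf55 zf9) (kf xf16 yf55 zf6) (kf xf18 yf50 zf14) (kf xf26 yf22 zf2) (kf xf10 yf20 zf6) (kf xf9 yf25 zf37) (kf xf23 yf6 zf56) (kf xf24 yf18 zf6) (kf xf23 yf6 zf49) (kf xf11 yf45 zf32) (kf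 xf18 yf49 zf9) (kf xf27 yf9 zf18) (kf xf18 yf53 zf7) (kf xf17 yf22 zf1) (kf xf17 yf21 zf59) (kf xf18 yf27 zf19) (kf xf9 yf25 zf43) (kf xf13 yf21 zf48) (kf xf22 yf5 zf20) (kf xf11 yf45 zf46) (kf xf18 yf45 zf28) (kf xf9 yf25 zf50) (kf xf11 yf45 zf8) (kf xf24 yf11 zf14) (kf xf20 yf33 zf32) (kf xf23 yf58 zf3) (kf xf25 yf17 zf15) (kf xf11 yf45 zf28) (kf xf10 yf20 zf9) (kf xf9 yf25 zf58) (kf xf11 yf45 zf31) (kf xf24 yf15 zf27) (kf xf9 yf26 zf10) (kf xf9 yf26 zf9) (kf xf13 yf37 zf1) (kf xf9 yf25 zf60) (kf xf27 yf12 zf38) (kf xf9 yf26 zf1) (kf xf21 yf47 zf9) (kf xf11 yf45 zf53) (kf xf11 yf45 zf52) (kf xf13 yf3 zf48) (kf xf11 yf45 zf56) (kf xf11 yf45 zf57) (kf xf27 yf12 zf47) (kf xf9 yf49 zf61) (kf xf9 yf49 zf60) (kf xf19 yf11 zf1) (kf xf9 yf26 zf8) (kf xf22 yf37 zf18) (kf xf24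 yf33 zf53) (kf xf27 yf12 zf34) (kf xf22 yf36 zf59) (kf xf12 yf7 zf39) (kf xf27 yf12 zf32) (kf xf27 yf12 zf33) (kf xf25 yf52 zf57) (kf xf13 yf36 zf46) (kf xf27 yf13 zf3) (kf xf9 yf26 zf11) (kf xf11 yf26 zf2) (kf xf11 yf45 zf37)) (@D3.rec (fun _ => Pt) (kf xf20 yf31 zf9) (kf xf20 yf33 zf33) (kf xf20 yf31 zf5) (kf xf23 yf38 zf10) (kf xf24 yf0 zf38) (kf xf27 yf13 zf10) (kf xf20 yf39 zf53) (kf xf22 yf22 zf54) (kf xf27 yf13 zf13) (kf xf22 yf22 zf50) (kf xf22 yf22 zf52) (kf xf23 yf0 zf52) (kf xf24 yf39 zf28) (kf xf22 yf0 zf37) (kf xf27 yf13 zf18) (kf xf27 yf13 zf23) (kf xf9 yf26 zf21) (kf xf27 yf13 zf4) (kf xf16 yf52 zf19) (kf xf20 yf41 zf11) (kf xf27 yf13 zf27) (kf xf16 yf52 zf3) (kf xf27 yf13 zf30) (kf xf9 yf26 zf25) (kf xf26 yf4 zf13) (kf xf27 yf2 zf21) (kf xf25 yf53 zf18)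 (kf xf15 yf55 zf59) (kf xf27 yf2 zf23) (kf xf27 yf2 zf22) (kf xf27 yf6 zf50) (kf xf9 yf26 zf28) (kf xf22 yf36 zf56) (kf xf22 yf15 zf3) (kf xf10 yf20 zf35) (kf xf21 yf51 zf35) (kf xf12 yf10 zf25) (kf xf17 yf19 zf56) (kf xf27 yf13 zf47) (kf xf20 yf44 zf9) (kf xf20 yf44 zf8) (kf xf27 yf13 zf53) (kf xf9 yf26 zf36) (kf xf17 yf25 zf23) (kf xf15 yf50 zf60) (kf xf11 yf15 zf61) (kf xf17 yf25 zf21) (kf xf17 yf25 zf25) (kf xf17 yf25 zf24) (kf xf27 yf14 zf4) (kf xf9 yf26 zf39) (kf xf20 yf52 zf30) (kf xf18 yf44 zf30) (kf xf18 yf48 zf52) (kf xf17 yf10 zf47) (kf xf17 yf6 zf35) (kf xf18 yf48 zf59) (kf xf18 yf44 zf33) (kf xf18 yf44 zf34) (kf xf15 yf58 zf49) (kf xf16 yf44 zf5) (kf xf18 yf48 zf53)) (@D3.rec (fun _ => Pt) (kf xf18 yf48 zf54) (kf xf16 yf31 zf41) (kf xf26 yf22 zf25) (kf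 xf27 yf9 zf52) (kf xf27 yf9 zf53) (kf xf20 yf18 zf60) (kf xf27 yf9 zf56) (kf xf17 yf11 zf33) (kf xf14 yf22 zf24) (kf xf27 yf9 zf54) (kf xf27 yf9 zf55) (kf xf18 yf47 zf27) (kf xf25 yf47 zf36) (kf xf19 yf38 zf58) (kf xf26 yf42 zf11) (kf xf27 yf14 zf34) (kf xf26 yf0 zf0) (kf xf9 yf26 zf50) (kf xf9 yf27 zf23) (kf xf9 yf26 zf55) (kf xf15 yf51 zf16) (kf xf17 yf24 zf46) (kf xf17 yf18 zf49) (kf xf17 yf24 zf43) (kf xf17 yf24 zf48) (kf xf17 yf24 zf47) (kf xf27 yf14 zf38) (kf xf18 yf21 zf15) (kf xf18 yf42 zf3) (kf xf18 yf42 zf2) (kf xf18 yf42 zf22) (kf xf27 yf14 zf57) (kf xf15 yf26 zf26) (kf xf18 yf42 zf51) (kf xf17 yf11 zf54) (kf xf27 yf10 zf1) (kf xf16 yf6 zf57) (kf xf25 yf36 zf6) (kf xf9 yf27 zf0) (kf xf17 yf11 zf55) (kf xf18 yf0 zf29) (kf xf27 yf9 zf11) (kf xf18 yf36 zf6)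 (kf xf12 yf38 zf14) (kf xf20 yf27 zf7) (kf xf27 yf9 zf60) (kf xf27 yf15 zf9) (kf xf21 yf38 zf32) (kf xf27 yf10 zf0) (kf xf27 yf15 zf16) (kf xf27 yf10 zf4) (kf xf27 yf10 zf3) (kf xf27 yf15 zf21) (kf xf9 yf27 zf9) (kf xf21 yf38 zf33) (kf xf18 yf19 zf8) (kf xf27 yf15 zf24) (kf xf17 yf20 zf52) (kf xf17 yf26 zf43) (kf xf23 yf8 zf22) (kf xf16 yf0 zf26) (kf xf9 yf27 zf14)) (@D3.rec (fun _ => Pt) (kf xf18 yf17 zf23) (kf xf27 yf10 zf6) (kf xf19 yf7 zf15) (kf xf27 yf10 zf8) (kf xf27 yf15 zf37) (kf xf23 yf0 zf50) (kf xf27 yf10 zf10) (kf xf19 yf7 zf54) (kf xf9 yf27 zf17) (kf xf26 yf42 zf5) (kf xf27 yf3 zf27) (kf xf19 yf3 zf13) (kf xf27 yf15 zf48) (kf xf27 yf15 zf46) (kf xf27 yf15 zf45) (kf xf22 yf7 zf4) (kf xf9 yf27 zf20) (kf xf27 yf15 zf59) (kf xf25 yf58 zf34) (kf xf10 yf46 zf22)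 (kf xf27 yf14 zf37) (kf xf9 yf27 zf31) (kf xf22 yf11 zf19) (kf xf12 yf32 zf56) (kf xf22 yf11 zf20) (kf xf13 yf11 zf9) (kf xf22 yf1 zf15) (kf xf24 yf25 zf44) (kf xf12 yf11 zf27) (kf xf22 yf1 zf14) (kf xf27 yf2 zf52) (kf xf22 yf1 zf0) (kf xf25 yf51 zf41) (kf xf24 yf21 zf21) (kf xf22 yf0 zf61) (kf xf27 yf16 zf25) (kf xf27 yf3 zf11) (kf xf27 yf7 zf34) (kf xf27 yf16 zf2) (kf xf27 yf7 zf42) (kf xf13 yf1 zf33) (kf xf13 yf17 zf50) (kf xf12 yf44 zf61) (kf xf17 yf25 zf58) (kf xf19 yf30 zf0) (kf xf11 yf44 zf2) (kf xf11 yf35 zf27) (kf xf19 yf9 zf59) (kf xf27 yf10 zf15) (kf xf25 yf59 zf40) (kf xf21 yf39 zf55) (kf xf11 yf35 zf13) (kf xf11 yf35 zf47) (kf xf9 yf29 zf60) (kf xf11 yf48 zf9) (kf xf19 yf10 zf27) (kf xf20 yf27 zf21) (kf xf12 yf57 zf2) (kf xf16 yf58 zf10) (kf xf22 yf7 zf23)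 (kf xf27 yf16 zf49) (kf xf12 yf57 zf8)) (@D3.rec (fun _ => Pt) (kf xf12 yf57 zf9) (kf xf22 yf7 zf25) (kf xf25 yf43 zf39) (kf xf25 yf48 zf22) (kf xf27 yf10 zf18) (kf xf27 yf16 zf59) (kf xf9 yf27 zf46) (kf xf12 yf57 zf24) (kf xf12 yf57 zf27) (kf xf9 yf28 zf2) (kf xf9 yf28 zf3) (kf xf9 yf29 zf10) (kf xf9 yf29 zf12) (kf xf9 yf29 zf15) (kf xf12 yf51 zf18) (kf xf9 yf28 zf30) (kf xf12 yf51 zf24) (kf xf24 yf26 zf20) (kf xf9 yf28 zf31) (kf xf12 yf51 zf29) (kf xf12 yf51 zf30) (kf xf12 yf19 zf57) (kf xf12 yf16 zf2) (kf xf27 yf3 zf14) (kf xf22 yf2 zf10) (kf xf12 yf58 zf25) (kf xf21 yf32 zf10) (kf xf22 yf2 zf11) (kf xf27 yf7 zf38) (kf xf22 yf1 zf59) (kf xf27 yf7 zf37) (kf xf22 yf1 zf60) (kf xf27 yf17 zf0) (kf xf27 yf17 zf1) (kf xf27 yf17 zf2) (kf xf25 yf24 zf39) (kf xf22 yf11 zf22)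 (kf xf27 yf7 zf41) (kf xf27 yf7 zf36) (kf xf27 yf17 zf39) (kf xf15 yf16 zf30) (kf xf17 yf10 zf20) (kf xf21 yf17 zf11) (kf xf21 yf17 zf12) (kf xf21 yf17 zf13) (kf xf21 yf17 zf14) (kf xf11 yf54 zf41) (kf xf17 yf10 zf24) (kf xf17 yf10 zf25) (kf xf17 yf10 zf26) (kf xf17 yf10 zf27) (kf xf26 yf1 zf1) (kf xf25 yf24 zf16) (kf xf21 yf16 zf21) (kf xf21 yf16 zf22) (kf xf21 yf16 zf23) (kf xf21 yf16 zf24) (kf xf25 yf53 zf51) (kf xf21 yf17 zf22) (kf xf21 yf17 zf23) (kf xf21 yf17 zf24) (kf xf21 yf17 zf25)) (@D3.rec (fun _ => Pt) (kf xf15 yf59 zf53) (kf xf15 yf57 zf26) (kf xf21 yf17 zf27) (kf xf16 yf0 zf29) (kf xf21 yf17 zf28) (kf xf21 yf17 zf29) (kf xf16 yf0 zf27) (kf xf16 yf0 zf11) (kf xf16 yf0 zf24) (kf xf15 yf57 zf13) (kf xf21 yf17 zf31) (kf xf21 yf17 zf32) (kf xf21 yf17 zf34)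 (kf xf21 yf17 zf35) (kf xf21 yf17 zf36) (kf xf21 yf17 zf37) (kf xf27 yf18 zf34) (kf xf21 yf17 zf39) (kf xf19 yf46 zf21) (kf xf21 yf17 zf41) (kf xf20 yf59 zf18) (kf xf17 yf18 zf4) (kf xf27 yf18 zf46) (kf xf25 yf30 zf44) (kf xf27 yf7 zf56) (kf xf9 yf28 zf27) (kf xf19 yf22 zf20) (kf xf26 yf55 zf60) (kf xf9 yf28 zf41) (kf xf27 yf0 zf4) (kf xf9 yf28 zf48) (kf xf25 yf35 zf34) (kf xf25 yf35 zf37) (kf xf12 yf56 zf61) (kf xf14 yf23 zf7) (kf xf13 yf23 zf12) (kf xf14 yf41 zf40) (kf xf12 yf51 zf32) (kf xf14 yf13 zf56) (kf xf27 yf10 zf55) (kf xf27 yf10 zf56) (kf xf19 yf53 zf30) (kf xf14 yf13 zf55) (kf xf21 yf20 zf60) (kf xf19 yf28 zf23) (kf xf17 yf18 zf23) (kf xf17 yf18 zf28) (kf xf27 yf19 zf18) (kf xf14 yf13 zf59) (kf xf27 yf18 zf50) (kf xf12 yf11 zf29) (kf xf27 yf18 zf52) (kf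 xf19 yf13 zf53) (kf xf27 yf18 zf56) (kf xf9 yf28 zf42) (kf xf10 yf36 zf57) (kf xf24 yf15 zf50) (kf xf27 yf19 zf29) (kf xf19 yf40 zf49) (kf xf19 yf40 zf50) (kf xf15 yf59 zf16) (kf xf27 yf11 zf0)) (@D3.rec (fun _ => Pt) (kf xf12 yf38 zf57) (kf xf12 yf38 zf58) (kf xf19 yf17 zf25) (kf xf27 yf18 zf53) (kf xf25 yf52 zf20) (kf xf27 yf11 zf26) (kf xf27 yf11 zf27) (kf xf12 yf11 zf40) (kf xf12 yf11 zf41) (kf xf22 yf1 zf52) (kf xf22 yf1 zf54) (kf xf17 yf10 zf14) (kf xf21 yf21 zf6) (kf xf25 yf35 zf43) (kf xf25 yf35 zf44) (kf xf25 yf35 zf40) (kf xf21 yf58 zf10) (kf xf25 yf35 zf50) (kf xf21 yf21 zf0) (kf xf25 yf35 zf51) (kf xf12 yf40 zf11) (kf xf12 yf3 zf7) (kf xf12 yf40 zf18) (kf xf12 yf40 zf19) (kf xf12 yf50 zf42) (kf xf12 yf50 zf43) (kf xf12 yf50 zf44) (kf xf12 yf50 zf39) (kf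 xf12 yf50 zf40) (kf xf12 yf50 zf41) (kf xf12 yf26 zf10) (kf xf12 yf40 zf22) (kf xf9 yf29 zf5) (kf xf9 yf29 zf4) (kf xf15 yf38 zf13) (kf xf25 yf12 zf48) (kf xf22 yf2 zf28) (kf xf9 yf29 zf3) (kf xf26 yf10 zf25) (kf xf27 yf19 zf58) (kf xf18 yf16 zf7) (kf xf27 yf19 zf57) (kf xf26 yf5 zf46) (kf xf27 yf20 zf1) (kf xf12 yf49 zf56) (kf xf22 yf6 zf24) (kf xf9 yf29 zf6) (kf xf19 yf57 zf41) (kf xf13 yf1 zf34) (kf xf27 yf17 zf4) (kf xf9 yf29 zf19) (kf xf9 yf29 zf20) (kf xf9 yf29 zf23) (kf xf20 yf15 zf13) (kf xf9 yf29 zf33) (kf xf9 yf29 zf34) (kf xf27 yf17 zf5) (kf xf27 yf17 zf6) (kf xf9 yf45 zf17) (kf xf9 yf45 zf21) (kf xf14 yf46 zf36) (kf xf14 yf46 zf35)) (@D3.rec (fun _ => Pt) (kf xf20 yf15 zf11) (kf xf12 yf49 zf10) (kf xf20 yf0 zf24) (kf xf13 yf1 zf58) (kf xf18 yf16 zf45) (kf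 xf13 yf1 zf59) (kf xf21 yf38 zf3) (kf xf21 yf38 zf6) (kf xf16 yf43 zf44) (kf xf18 yf35 zf9) (kf xf19 yf39 zf43) (kf xf21 yf38 zf21) (kf xf20 yf17 zf40) (kf xf21 yf35 zf40) (kf xf27 yf20 zf11) (kf xf9 yf29 zf24) (kf xf12 yf19 zf56) (kf xf17 yf39 zf33) (kf xf21 yf58 zf27) (kf xf12 yf30 zf53) (kf xf20 yf9 zf32) (kf xf18 yf16 zf37) (kf xf26 yf18 zf19) (kf xf18 yf16 zf38) (kf xf18 yf35 zf6) (kf xf17 yf38 zf37) (kf xf21 yf30 zf58) (kf xf21 yf30 zf59) (kf xf24 yf18 zf26) (kf xf26 yf12 zf16) (kf xf23 yf49 zf53) (kf xf9 yf29 zf36) (kf xf21 yf58 zf34) (kf xf12 yf19 zf58) (kf xf27 yf20 zf7) (kf xf27 yf20 zf38) (kf xf9 yf29 zf37) (kf xf12 yf52 zf44) (kf xf12 yf52 zf45) (kf xf12 yf52 zf46) (kf xf12 yf41 zf47) (kf xf12 yf41 zf48) (kf xf12 yf41 zf49) (kf xf18 yf22 zf22) (kf xf12 yf16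 zf31) (kf xf12 yf16 zf33) (kf xf12 yf41 zf54) (kf xf12 yf52 zf39) (kf xf12 yf52 zf40) (kf xf12 yf52 zf41) (kf xf12 yf41 zf58) (kf xf12 yf38 zf61) (kf xf9 yf29 zf49) (kf xf9 yf29 zf48) (kf xf21 yf31 zf7) (kf xf23 yf50 zf22) (kf xf21 yf34 zf60) (kf xf21 yf49 zf54) (kf xf9 yf29 zf47) (kf xf25 yf31 zf7) (kf xf23 yf50 zf20) (kf xf20 yf22 zf24)) (@D3.rec (fun _ => Pt) (kf xf27 yf20 zf51) (kf xf21 yf59 zf31) (kf xf26 yf46 zf34) (kf xf23 yf49 zf45) (kf xf9 yf29 zf50) (kf xf9 yf33 zf0) (kf xf9 yf49 zf35) (kf xf20 yf42 zf30) (kf xf11 yf41 zf21) (kf xf11 yf46 zf46) (kf xf24 yf30 zf31) (kf xf11 yf46 zf47) (kf xf26 yf59 zf59) (kf xf24 yf39 zf26) (kf xf18 yf16 zf0) (kf xf21 yf22 zf10) (kf xf27 yf10 zf41) (kf xf22 yf21 zf46) (kf xf9 yf30 zf1) (kf xf11 yf44 zf51) (kf xf27 yf21 zf4)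 (kf xf9 yf30 zf2) (kf xf11 yf44 zf59) (kf xf11 yf44 zf60) (kf xf22 yf11 zf37) (kf xf11 yf44 zf57) (kf xf17 yf50 zf22) (kf xf27 yf21 zf6) (kf xf9 yf30 zf9) (kf xf20 yf24 zf3) (kf xf19 yf13 zf33) (kf xf11 yf48 zf18) (kf xf20 yf41 zf60) (kf xf11 yf48 zf29) (kf xf20 yf24 zf30) (kf xf9 yf30 zf14) (kf xf18 yf47 zf46) (kf xf22 yf18 zf15) (kf xf21 yf47 zf16) (kf xf11 yf44 zf14) (kf xf11 yf44 zf13) (kf xf9 yf30 zf19) (kf xf11 yf44 zf20) (kf xf11 yf44 zf19) (kf xf22 yf18 zf16) (kf xf11 yf44 zf29) (kf xf11 yf28 zf13) (kf xf9 yf30 zf53) (kf xf22 yf6 zf29) (kf xf9 yf30 zf44) (kf xf24 yf36 zf49) (kf xf21 yf38 zf47) (kf xf9 yf30 zf42) (kf xf21 yf38 zf48) (kf xf11 yf10 zf14) (kf xf25 yf26 zf14) (kf xf27 yf13 zf21) (kf xf9 yf30 zf35) (kf xf11 yf16 zf36) (kf xf20 yf12 zf55) (kf xf18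 yf1 zf10) (kf xf11 yf43 zf55)) (@D3.rec (fun _ => Pt) (kf xf9 yf30 zf40) (kf xf11 yf43 zf61) (kf xf18 yf57 zf9) (kf xf22 yf20 zf24) (kf xf22 yf20 zf25) (kf xf27 yf21 zf26) (kf xf19 yf24 zf55) (kf xf12 yf55 zf2) (kf xf20 yf59 zf8) (kf xf19 yf26 zf0) (kf xf27 yf21 zf34) (kf xf20 yf14 zf57) (kf xf12 yf55 zf15) (kf xf24 yf35 zf24) (kf xf9 yf30 zf47) (kf xf27 yf0 zf52) (kf xf14 yf35 zf24) (kf xf14 yf35 zf25) (kf xf22 yf7 zf45) (kf xf18 yf41 zf59) (kf xf12 yf55 zf24) (kf xf22 yf7 zf34) (kf xf26 yf56 zf57) (kf xf11 yf44 zf41) (kf xf10 yf59 zf25) (kf xf9 yf30 zf54) (kf xf14 yf26 zf21) (kf xf14 yf16 zf20) (kf xf22 yf20 zf27) (kf xf27 yf21 zf44) (kf xf11 yf44 zf58) (kf xf20 yf42 zf58) (kf xf20 yf59 zf6) (kf xf19 yf25 zf61) (kf xf10 yf51 zf24) (kf xf20 yf43 zf41) (kf xf9 yf30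 zf59) (kf xf10 yf59 zf26) (kf xf19 yf25 zf58) (kf xf19 yf24 zf47) (kf xf11 yf39 zf54) (kf xf15 yf30 zf17) (kf xf19 yf26 zf56) (kf xf19 yf49 zf19) (kf xf19 yf25 zf57) (kf xf19 yf24 zf46) (kf xf16 yf45 zf32) (kf xf12 yf55 zf58) (kf xf16 yf48 zf54) (kf xf9 yf31 zf5) (kf xf21 yf0 zf31) (kf xf21 yf0 zf32) (kf xf21 yf0 zf35) (kf xf10 yf56 zf61) (kf xf19 yf24 zf57) (kf xf19 yf25 zf0) (kf xf27 yf12 zf37) (kf xf27 yf13 zf14) (kf xf9 yf31 zf8) (kf xf11 yf20 zf30) (kf xf11 yf20 zf28) (kf xf11 yf20 zf29)) (@D3.rec (fun _ => Pt) (kf xf11 yf33 zf12) (kf xf11 yf13 zf1) (kf xf12 yf55 zf25) (kf xf24 yf18 zf13) (kf xf12 yf55 zf28) (kf xf11 yf44 zf53) (kf xf11 yf44 zf47) (kf xf24 yf46 zf16) (kf xf24 yf53 zf2) (kf xf20 yf18 zf49) (kf xf12 yf54 zf11) (kf xf12 yf55 zf7) (kf xf18 yf50 zf53)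 (kf xf11 yf22 zf46) (kf xf12 yf55 zf4) (kf xf12 yf55 zf35) (kf xf12 yf55 zf36) (kf xf26 yf3 zf39) (kf xf12 yf54 zf18) (kf xf11 yf36 zf38) (kf xf11 yf36 zf42) (kf xf12 yf54 zf45) (kf xf12 yf21 zf44) (kf xf26 yf46 zf29) (kf xf11 yf48 zf59) (kf xf12 yf21 zf45) (kf xf12 yf21 zf46) (kf xf12 yf21 zf29) (kf xf11 yf49 zf8) (kf xf18 yf57 zf59) (kf xf18 yf21 zf2) (kf xf9 yf31 zf34) (kf xf12 yf54 zf53) (kf xf12 yf54 zf54) (kf xf12 yf54 zf55) (kf xf24 yf19 zf4) (kf xf12 yf55 zf11) (kf xf12 yf55 zf12) (kf xf12 yf55 zf13) (kf xf21 yf21 zf2) (kf xf12 yf55 zf49) (kf xf12 yf55 zf50) (kf xf9 yf42 zf31) (kf xf12 yf55 zf38) (kf xf12 yf55 zf40) (kf xf16 yf47 zf46) (kf xf12 yf55 zf44) (kf xf12 yf55 zf45) (kf xf12 yf55 zf59) (kf xf12 yf55 zf60) (kf xf9 yf31 zf55) (kf xf15 yf25 zf44) (kf xf27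 yf22 zf26) (kf xf26 yf6 zf3) (kf xf17 yf52 zf3) (kf xf9 yf31 zf54) (kf xf25 yf52 zf53) (kf xf25 yf24 zf24) (kf xf18 yf47 zf21) (kf xf12 yf18 zf19) (kf xf12 yf4 zf12) (kf xf12 yf4 zf10)) (@D3.rec (fun _ => Pt) (kf xf12 yf4 zf11) (kf xf12 yf3 zf44) (kf xf20 yf21 zf59) (kf xf11 yf22 zf58) (kf xf12 yf56 zf17) (kf xf12 yf56 zf16) (kf xf12 yf51 zf37) (kf xf11 yf26 zf6) (kf xf11 yf26 zf7) (kf xf12 yf57 zf1) (kf xf12 yf57 zf3) (kf xf12 yf57 zf4) (kf xf12 yf57 zf10) (kf xf12 yf57 zf11) (kf xf12 yf57 zf14) (kf xf12 yf57 zf15) (kf xf27 yf22 zf45) (kf xf9 yf50 zf33) (kf xf9 yf47 zf19) (kf xf9 yf47 zf20) (kf xf9 yf50 zf12) (kf xf9 yf50 zf14) (kf xf9 yf50 zf38) (kf xf9 yf50 zf40) (kf xf9 yf46 zf20) (kf xf12 yf57 zf42) (kf xf12 yf57 zf43) (kf xf11 yf5 zf27) (kf xf12 yf57 zf44) (kf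 xf12 yf57 zf46) (kf xf12 yf57 zf47) (kf xf12 yf57 zf48) (kf xf12 yf57 zf49) (kf xf27 yf22 zf55) (kf xf9 yf32 zf17) (kf xf12 yf56 zf36) (kf xf12 yf56 zf37) (kf xf19 yf33 zf23) (kf xf12 yf56 zf30) (kf xf12 yf56 zf31) (kf xf12 yf57 zf59) (kf xf12 yf57 zf60) (kf xf21 yf24 zf16) (kf xf12 yf56 zf40) (kf xf12 yf58 zf1) (kf xf12 yf58 zf6) (kf xf16 yf31 zf7) (kf xf13 yf1 zf55) (kf xf12 yf49 zf45) (kf xf9 yf32 zf54) (kf xf9 yf32 zf55) (kf xf9 yf32 zf56) (kf xf12 yf24 zf19) (kf xf12 yf58 zf21) (kf xf9 yf59 zf29) (kf xf18 yf36 zf20) (kf xf12 yf46 zf27) (kf xf12 yf58 zf16) (kf xf12 yf58 zf26) (kf xf12 yf58 zf28) (kf xf12 yf58 zf29) (kf xf12 yf20 zf21)) (@D3.rec (fun _ => Pt) (kf xf20 yf27 zf36) (kf xf27 yf23 zf0) (kf xf20 yf27 zf35) (kf xf21 yf9 zf23) (kf xf27 yf23 zf1) (kf xf27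 yf23 zf2) (kf xf20 yf34 zf13) (kf xf18 yf57 zf21) (kf xf18 yf57 zf0) (kf xf26 yf52 zf61) (kf xf12 yf59 zf1) (kf xf12 yf59 zf3) (kf xf12 yf59 zf4) (kf xf21 yf42 zf26) (kf xf17 yf17 zf49) (kf xf11 yf59 zf52) (kf xf11 yf59 zf55) (kf xf26 yf16 zf5) (kf xf11 yf59 zf60) (kf xf12 yf0 zf0) (kf xf12 yf0 zf1) (kf xf21 yf59 zf50) (kf xf21 yf59 zf51) (kf xf20 yf13 zf10) (kf xf21 yf4 zf48) (kf xf21 yf17 zf57) (kf xf21 yf17 zf58) (kf xf21 yf17 zf59) (kf xf21 yf23 zf34) (kf xf21 yf23 zf35) (kf xf12 yf39 zf50) (kf xf17 yf14 zf30) (kf xf21 yf17 zf61) (kf xf27 yf23 zf38) (kf xf21 yf18 zf2) (kf xf16 yf0 zf17) (kf xf11 yf37 zf51) (kf xf9 yf33 zf13) (kf xf18 yf41 zf35) (kf xf20 yf59 zf32) (kf xf14 yf30 zf37) (kf xf9 yf33 zf15) (kf xf15 yf27 zf42) (kf xf10 yf36 zf3) (kf xf15 yf28 zf26) (kf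 xf11 yf4 zf24) (kf xf9 yf33 zf19) (kf xf19 yf7 zf45) (kf xf19 yf7 zf46) (kf xf19 yf7 zf47) (kf xf19 yf7 zf18) (kf xf27 yf23 zf58) (kf xf10 yf42 zf31) (kf xf15 yf52 zf32) (kf xf15 yf52 zf33) (kf xf15 yf52 zf34) (kf xf25 yf8 zf40) (kf xf25 yf8 zf41) (kf xf11 yf4 zf25) (kf xf9 yf43 zf33) (kf xf11 yf4 zf22) (kf xf15 yf16 zf48)) (@D3.rec (fun _ => Pt) (kf xf15 yf16 zf49) (kf xf26 yf13 zf49) (kf xf20 yf2 zf39) (kf xf26 yf44 zf27) (kf xf13 yf32 zf29) (kf xf9 yf33 zf33) (kf xf9 yf33 zf36) (kf xf9 yf33 zf35) (kf xf26 yf10 zf21) (kf xf27 yf24 zf17) (kf xf24 yf43 zf52) (kf xf27 yf24 zf21) (kf xf9 yf33 zf34) (kf xf21 yf0 zf60) (kf xf10 yf34 zf34) (kf xf27 yf24 zf9) (kf xf27 yf24 zf26) (kf xf27 yf24 zf8) (kf xf27 yf24 zf28) (kf xf27 yf24 zf27) (kf xf27 yf24 zf34) (kf xf9 yf33 zf37)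 (kf xf15 yf16 zf13) (kf xf15 yf36 zf2) (kf xf15 yf9 zf7) (kf xf16 yf16 zf0) (kf xf9 yf34 zf55) (kf xf9 yf34 zf56) (kf xf9 yf34 zf57) (kf xf9 yf34 zf58) (kf xf23 yf1 zf51) (kf xf27 yf24 zf43) (kf xf9 yf34 zf35) (kf xf26 yf4 zf39) (kf xf9 yf34 zf27) (kf xf9 yf34 zf28) (kf xf9 yf34 zf29) (kf xf9 yf34 zf30) (kf xf26 yf6 zf23) (kf xf27 yf24 zf51) (kf xf9 yf35 zf0) (kf xf26 yf6 zf24) (kf xf9 yf35 zf32) (kf xf9 yf35 zf33) (kf xf9 yf35 zf34) (kf xf9 yf35 zf35) (kf xf23 yf22 zf35) (kf xf27 yf24 zf61) (kf xf9 yf35 zf17) (kf xf25 yf15 zf27) (kf xf25 yf0 zf27) (kf xf9 yf35 zf39) (kf xf9 yf33 zf57) (kf xf9 yf34 zf0) (kf xf9 yf33 zf61) (kf xf26 yf10 zf30) (kf xf27 yf25 zf9) (kf xf27 yf25 zf11) (kf xf16 yf17 zf24) (kf xf9 yf33 zf60) (kf xf27 yf25 zf3) (kf xf14 yf57 zf50)) (@D3.rec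 (fun _ => Pt) (kf xf17 yf37 zf37) (kf xf14 yf4 zf34) (kf xf17 yf41 zf20) (kf xf17 yf41 zf18) (kf xf17 yf41 zf19) (kf xf17 yf40 zf59) (kf xf26 yf12 zf6) (kf xf9 yf36 zf22) (kf xf9 yf36 zf21) (kf xf9 yf34 zf3) (kf xf25 yf47 zf17) (kf xf21 yf58 zf14) (kf xf25 yf47 zf18) (kf xf25 yf56 zf10) (kf xf11 yf55 zf25) (kf xf14 yf58 zf11) (kf xf16 yf19 zf2) (kf xf16 yf14 zf18) (kf xf16 yf14 zf19) (kf xf16 yf14 zf20) (kf xf25 yf45 zf32) (kf xf25 yf28 zf45) (kf xf25 yf28 zf46) (kf xf25 yf28 zf47) (kf xf17 yf40 zf11) (kf xf18 yf5 zf30) (kf xf24 yf55 zf0) (kf xf15 yf48 zf59) (kf xf15 yf48 zf58) (kf xf16 yf16 zf25) (kf xf15 yf49 zf3) (kf xf15 yf49 zf0) (kf xf26 yf0 zf24) (kf xf26 yf0 zf25) (kf xf23 yf42 zf25) (kf xf17 yf39 zf15) (kf xf27 yf25 zf46) (kf xf17 yf37 zf0) (kf xf9 yf34 zf23)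 (kf xf21 yf53 zf41) (kf xf26 yf4 zf10) (kf xf20 yf15 zf32) (kf xf17 yf39 zf17) (kf xf16 yf15 zf60) (kf xf27 yf25 zf51) (kf xf16 yf15 zf61) (kf xf15 yf35 zf33) (kf xf27 yf24 zf44) (kf xf17 yf39 zf8) (kf xf21 yf58 zf20) (kf xf27 yf24 zf46) (kf xf15 yf58 zf30) (kf xf17 yf39 zf9) (kf xf27 yf25 zf60) (kf xf27 yf24 zf47) (kf xf27 yf26 zf3) (kf xf25 yf28 zf54) (kf xf25 yf58 zf53) (kf xf25 yf32 zf61) (kf xf27 yf26 zf10) (kf xf27 yf26 zf1) (kf xf27 yf26 zf0)) (@D3.rec (fun _ => Pt) (kf xf27 yf26 zf16) (kf xf9 yf34 zf31) (kf xf14 yf57 zf1) (kf xf27 yf26 zf19) (kf xf27 yf24 zf42) (kf xf27 yf24 zf41) (kf xf18 yf27 zf31) (kf xf9 yf34 zf33) (kf xf22 yf31 zf14) (kf xf22 yf8 zf51) (kf xf16 yf15 zf24) (kf xf16 yf17 zf4) (kf xf16 yf17 zf1) (kf xf16 yf22 zf47) (kf xf9 yf34 zf36) (kf xf15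 yf14 zf39) (kf xf9 yf53 zf57) (kf xf9 yf53 zf51) (kf xf9 yf53 zf25) (kf xf9 yf53 zf26) (kf xf9 yf53 zf28) (kf xf27 yf26 zf28) (kf xf26 yf1 zf18) (kf xf26 yf1 zf19) (kf xf24 yf52 zf26) (kf xf14 yf47 zf3) (kf xf13 yf57 zf20) (kf xf14 yf58 zf10) (kf xf15 yf34 zf44) (kf xf15 yf34 zf45) (kf xf15 yf34 zf46) (kf xf22 yf11 zf8) (kf xf22 yf11 zf7) (kf xf27 yf24 zf37) (kf xf25 yf38 zf37) (kf xf15 yf37 zf44) (kf xf16 yf20 zf5) (kf xf17 yf30 zf25) (kf xf27 yf24 zf38) (kf xf24 yf43 zf7) (kf xf17 yf41 zf31) (kf xf27 yf24 zf39) (kf xf27 yf24 zf40) (kf xf27 yf26 zf49) (kf xf13 yf52 zf59) (kf xf22 yf8 zf8) (kf xf27 yf26 zf52) (kf xf9 yf34 zf59) (kf xf27 yf24 zf50) (kf xf9 yf34 zf60) (kf xf16 yf14 zf54) (kf xf27 yf24 zf52) (kf xf27 yf24 zf53) (kf xf21 yf42 zf3) (kf xf24 yf43 zf15) (kf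 xf9 yf35 zf1) (kf xf15 yf6 zf40) (kf xf19 yf36 zf9) (kf xf14 yf56 zf60) (kf xf14 yf56 zf61) (kf xf14 yf57 zf0) (kf xf14 yf57 zf61)) (@D3.rec (fun _ => Pt) (kf xf14 yf58 zf3) (kf xf15 yf37 zf58) (kf xf16 yf6 zf60) (kf xf16 yf17 zf8) (kf xf18 yf6 zf61) (kf xf15 yf59 zf40) (kf xf25 yf58 zf47) (kf xf26 yf14 zf8) (kf xf17 yf37 zf48) (kf xf17 yf37 zf52) (kf xf25 yf29 zf52) (kf xf25 yf32 zf43) (kf xf26 yf14 zf0) (kf xf27 yf27 zf6) (kf xf9 yf35 zf12) (kf xf17 yf37 zf35) (kf xf27 yf25 zf14) (kf xf17 yf37 zf42) (kf xf27 yf24 zf59) (kf xf25 yf0 zf28) (kf xf27 yf26 zf32) (kf xf9 yf35 zf15) (kf xf26 yf2 zf50) (kf xf12 yf50 zf22) (kf xf27 yf25 zf0) (kf xf16 yf17 zf2) (kf xf15 yf19 zf1) (kf xf27 yf27 zf24) (kf xf9 yf35 zf18) (kf xf14 yf57 zf38) (kf xf14 yf57 zf37) (kf xf15 yf21 zf55)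 (kf xf17 yf45 zf9) (kf xf17 yf30 zf17) (kf xf9 yf35 zf28) (kf xf9 yf35 zf24) (kf xf15 yf53 zf37) (kf xf19 yf5 zf39) (kf xf23 yf22 zf34) (kf xf26 yf3 zf37) (kf xf26 yf47 zf17) (kf xf15 yf24 zf37) (kf xf11 yf6 zf12) (kf xf9 yf35 zf30) (kf xf27 yf24 zf54) (kf xf18 yf3 zf5) (kf xf9 yf37 zf13) (kf xf16 yf17 zf31) (kf xf25 yf1 zf48) (kf xf9 yf35 zf52) (kf xf15 yf9 zf60) (kf xf27 yf27 zf32) (kf xf22 yf18 zf54) (kf xf10 yf8 zf4) (kf xf18 yf6 zf13) (kf xf9 yf35 zf37) (kf xf16 yf16 zf34) (kf xf19 yf59 zf40) (kf xf14 yf4 zf36) (kf xf11 yf6 zf13) (kf xf26 yf10 zf55) (kf xf26 yf11 zf23)) (@D3.rec (fun _ => Pt) (kf xf17 yf43 zf40) (kf xf26 yf11 zf32) (kf xf26 yf10 zf39) (kf xf26 yf11 zf24) (kf xf26 yf11 zf34) (kf xf26 yf11 zf35) (kf xf26 yf11 zf36) (kf xf24 yf59 zf5) (kf xf27 yf20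 zf31) (kf xf21 yf10 zf4) (kf xf9 yf35 zf50) (kf xf17 yf37 zf24) (kf xf27 yf27 zf50) (kf xf11 yf9 zf41) (kf xf21 yf22 zf1) (kf xf9 yf35 zf53) (kf xf24 yf52 zf28) (kf xf25 yf28 zf52) (kf xf25 yf32 zf41) (kf xf25 yf28 zf53) (kf xf17 yf44 zf1) (kf xf25 yf32 zf42) (kf xf27 yf27 zf59) (kf xf25 yf32 zf44) (kf xf17 yf40 zf45) (kf xf26 yf14 zf6) (kf xf27 yf27 zf57) (kf xf18 yf28 zf51) (kf xf9 yf35 zf59) (kf xf15 yf12 zf46) (kf xf27 yf28 zf4) (kf xf9 yf35 zf60) (kf xf9 yf36 zf8) (kf xf17 yf42 zf60) (kf xf27 yf27 zf53) (kf xf25 yf39 zf33) (kf xf27 yf28 zf8) (kf xf21 yf34 zf1) (kf xf9 yf36 zf2) (kf xf25 yf45 zf20) (kf xf27 yf28 zf15) (kf xf9 yf36 zf3) (kf xf21 yf34 zf2) (kf xf25 yf58 zf38) (kf xf26 yf3 zf41) (kf xf17 yf40 zf24) (kf xf27 yf27 zf2) (kf xf9 yf36 zf10) (kf xf9 yf36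 zf9) (kf xf24 yf56 zf5) (kf xf27 yf28 zf21) (kf xf9 yf36 zf18) (kf xf17 yf41 zf2) (kf xf25 yf28 zf55) (kf xf27 yf28 zf18) (kf xf17 yf41 zf1) (kf xf25 yf28 zf51) (kf xf27 yf28 zf20) (kf xf27 yf28 zf19) (kf xf17 yf37 zf5) (kf xf24 yf56 zf4) (kf xf27 yf26 zf47)) (@D3.rec (fun _ => Pt) (kf xf9 yf36 zf11) (kf xf17 yf40 zf55) (kf xf17 yf40 zf52) (kf xf9 yf36 zf12) (kf xf27 yf28 zf34) (kf xf17 yf43 zf0) (kf xf17 yf43 zf1) (kf xf17 yf43 zf2) (kf xf26 yf11 zf22) (kf xf26 yf11 zf25) (kf xf27 yf28 zf43) (kf xf25 yf28 zf59) (kf xf25 yf28 zf58) (kf xf25 yf1 zf23) (kf xf9 yf36 zf16) (kf xf26 yf11 zf30) (kf xf26 yf11 zf29) (kf xf19 yf17 zf0) (kf xf17 yf37 zf3) (kf xf17 yf37 zf4) (kf xf17 yf37 zf2) (kf xf18 yf27 zf34) (kf xf17 yf41 zf34) (kf xf17 yf41 zf33) (kf xf18 yf27 zf33) (kf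 xf9 yf36 zf20) (kf xf27 yf25 zf24) (kf xf27 yf25 zf25) (kf xf27 yf25 zf22) (kf xf26 yf12 zf5) (kf xf27 yf25 zf23) (kf xf17 yf38 zf40) (kf xf9 yf36 zf24) (kf xf17 yf41 zf23) (kf xf17 yf41 zf22) (kf xf27 yf29 zf4) (kf xf17 yf44 zf51) (kf xf17 yf44 zf52) (kf xf17 yf44 zf53) (kf xf17 yf44 zf54) (kf xf25 yf17 zf60) (kf xf16 yf18 zf43) (kf xf16 yf18 zf44) (kf xf25 yf18 zf1) (kf xf17 yf44 zf56) (kf xf17 yf44 zf57) (kf xf24 yf32 zf26) (kf xf16 yf18 zf46) (kf xf16 yf18 zf47) (kf xf26 yf6 zf42) (kf xf17 yf44 zf59) (kf xf12 yf18 zf20) (kf xf9 yf36 zf51) (kf xf9 yf36 zf52) (kf xf9 yf36 zf47) (kf xf16 yf13 zf35) (kf xf11 yf17 zf37) (kf xf12 yf35 zf34) (kf xf11 yf17 zf6) (kf xf11 yf17 zf7) (kf xf25 yf42 zf33) (kf xf11 yf19 zf61)) (@D3.rec (fun _ => Pt) (kf xf27 yf29 zf23) (kf xf9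 yf36 zf42) (kf xf12 yf18 zf14) (kf xf12 yf18 zf16) (kf xf12 yf18 zf18) (kf xf21 yf32 zf0) (kf xf12 yf18 zf22) (kf xf12 yf18 zf23) (kf xf19 yf23 zf22) (kf xf15 yf27 zf16) (kf xf20 yf16 zf7) (kf xf25 yf17 zf25) (kf xf25 yf22 zf44) (kf xf17 yf43 zf19) (kf xf25 yf29 zf0) (kf xf27 yf29 zf15) (kf xf25 yf33 zf57) (kf xf27 yf29 zf16) (kf xf17 yf43 zf27) (kf xf16 yf49 zf5) (kf xf16 yf13 zf51) (kf xf16 yf13 zf52) (kf xf16 yf13 zf53) (kf xf17 yf52 zf14) (kf xf9 yf56 zf7) (kf xf16 yf13 zf32) (kf xf16 yf13 zf33) (kf xf11 yf17 zf39) (kf xf11 yf17 zf8) (kf xf12 yf56 zf5) (kf xf16 yf40 zf50) (kf xf27 yf3 zf41) (kf xf12 yf18 zf17) (kf xf24 yf41 zf30) (kf xf9 yf56 zf11) (kf xf9 yf55 zf11) (kf xf25 yf41 zf49) (kf xf25 yf33 zf58) (kf xf18 yf37 zf24) (kf xf26 yf6 zf12) (kf xf21 yf31 zf11)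 (kf xf18 yf37 zf25) (kf xf9 yf37 zf20) (kf xf25 yf43 zf2) (kf xf25 yf43 zf3) (kf xf17 yf45 zf19) (kf xf15 yf37 zf55) (kf xf16 yf14 zf36) (kf xf25 yf35 zf54) (kf xf12 yf49 zf6) (kf xf21 yf23 zf1) (kf xf27 yf27 zf43) (kf xf27 yf27 zf42) (kf xf9 yf37 zf15) (kf xf12 yf49 zf7) (kf xf23 yf36 zf36) (kf xf23 yf36 zf37) (kf xf16 yf14 zf35) (kf xf27 yf29 zf52) (kf xf27 yf27 zf45) (kf xf17 yf40 zf33) (kf xf9 yf39 zf9)) (@D3.rec (fun _ => Pt) (kf xf17 yf41 zf5) (kf xf17 yf41 zf6) (kf xf17 yf41 zf7) (kf xf17 yf43 zf5) (kf xf12 yf58 zf24) (kf xf17 yf43 zf3) (kf xf15 yf18 zf43) (kf xf27 yf30 zf9) (kf xf15 yf18 zf45) (kf xf15 yf18 zf46) (kf xf27 yf30 zf15) (kf xf11 yf43 zf4) (kf xf11 yf43 zf5) (kf xf19 yf26 zf6) (kf xf9 yf37 zf35) (kf xf15 yf18 zf12) (kf xf15 yf18 zf11) (kf xf9 yf37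 zf36) (kf xf16 yf10 zf24) (kf xf17 yf42 zf13) (kf xf15 yf45 zf1) (kf xf25 yf34 zf60) (kf xf19 yf54 zf25) (kf xf16 yf16 zf22) (kf xf24 yf54 zf47) (kf xf16 yf16 zf21) (kf xf12 yf30 zf36) (kf xf17 yf42 zf18) (kf xf15 yf18 zf52) (kf xf16 yf50 zf48) (kf xf9 yf37 zf55) (kf xf9 yf37 zf52) (kf xf27 yf30 zf26) (kf xf25 yf42 zf56) (kf xf20 yf2 zf28) (kf xf16 yf16 zf60) (kf xf16 yf16 zf57) (kf xf16 yf16 zf58) (kf xf16 yf16 zf42) (kf xf16 yf15 zf41) (kf xf17 yf40 zf0) (kf xf16 yf16 zf43) (kf xf16 yf16 zf44) (kf xf16 yf15 zf42) (kf xf12 yf26 zf51) (kf xf16 yf16 zf46) (kf xf21 yf23 zf30) (kf xf11 yf19 zf31) (kf xf11 yf18 zf61) (kf xf27 yf30 zf36) (kf xf27 yf30 zf32) (kf xf27 yf4 zf22) (kf xf21 yf57 zf16) (kf xf9 yf38 zf4) (kf xf27 yf30 zf41) (kf xf9 yf38 zf5) (kf xf15 yf48 zf60)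 (kf xf27 yf30 zf43) (kf xf9 yf38 zf6) (kf xf16 yf16 zf4) (kf xf16 yf15 zf8) (kf xf16 yf16 zf7)) (@D3.rec (fun _ => Pt) (kf xf16 yf15 zf9) (kf xf17 yf40 zf20) (kf xf16 yf16 zf9) (kf xf21 yf26 zf16) (kf xf10 yf40 zf33) (kf xf27 yf1 zf39) (kf xf27 yf1 zf42) (kf xf27 yf30 zf55) (kf xf9 yf38 zf12) (kf xf27 yf30 zf56) (kf xf9 yf38 zf13) (kf xf9 yf38 zf14) (kf xf25 yf49 zf60) (kf xf17 yf52 zf51) (kf xf13 yf1 zf13) (kf xf20 yf4 zf13) (kf xf18 yf27 zf40) (kf xf18 yf26 zf32) (kf xf13 yf1 zf14) (kf xf21 yf58 zf33) (kf xf25 yf43 zf9) (kf xf25 yf43 zf10) (kf xf18 yf26 zf30) (kf xf27 yf31 zf6) (kf xf24 yf56 zf20) (kf xf24 yf56 zf21) (kf xf18 yf6 zf40) (kf xf24 yf56 zf23) (kf xf24 yf56 zf24) (kf xf25 yf1 zf7) (kf xf24 yf56 zf3) (kf xf22 yf15 zf11) (kf xf17 yf45 zf18) (kf xf9 yf38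 zf25) (kf xf16 yf15 zf39) (kf xf16 yf15 zf43) (kf xf27 yf31 zf18) (kf xf9 yf38 zf27) (kf xf16 yf15 zf6) (kf xf22 yf18 zf21) (kf xf27 yf31 zf22) (kf xf9 yf38 zf29) (kf xf24 yf55 zf19) (kf xf27 yf31 zf26) (kf xf22 yf18 zf51) (kf xf24 yf55 zf17) (kf xf23 yf16 zf23) (kf xf16 yf18 zf55) (kf xf15 yf14 zf34) (kf xf26 yf9 zf11) (kf xf27 yf20 zf27) (kf xf17 yf41 zf36) (kf xf17 yf41 zf37) (kf xf17 yf41 zf38) (kf xf17 yf41 zf39) (kf xf25 yf23 zf19) (kf xf17 yf41 zf44) (kf xf17 yf41 zf45) (kf xf25 yf20 zf35) (kf xf17 yf41 zf50) (kf xf9 yf38 zf54) (kf xf9 yf38 zf45)) (@D3.rec (fun _ => Pt) (kf xf21 yf26 zf28) (kf xf15 yf49 zf43) (kf xf24 yf54 zf46) (kf xf15 yf24 zf1) (kf xf26 yf2 zf39) (kf xf25 yf17 zf58) (kf xf19 yf57 zf38) (kf xf19 yf57 zf39) (kf xf21 yf44 zf4) (kf xf17 yf39 zf32)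 (kf xf15 yf21 zf49) (kf xf11 yf2 zf8) (kf xf12 yf59 zf58) (kf xf12 yf59 zf57) (kf xf19 yf57 zf34) (kf xf21 yf19 zf43) (kf xf19 yf57 zf37) (kf xf24 yf45 zf27) (kf xf17 yf44 zf32) (kf xf17 yf42 zf45) (kf xf24 yf44 zf7) (kf xf19 yf19 zf57) (kf xf17 yf20 zf41) (kf xf25 yf45 zf59) (kf xf26 yf15 zf33) (kf xf27 yf28 zf28) (kf xf27 yf31 zf52) (kf xf17 yf20 zf42) (kf xf22 yf27 zf56) (kf xf22 yf27 zf57) (kf xf26 yf15 zf46) (kf xf25 yf0 zf18) (kf xf22 yf8 zf13) (kf xf11 yf7 zf16) (kf xf9 yf39 zf23) (kf xf18 yf27 zf59) (kf xf9 yf57 zf35) (kf xf9 yf39 zf24) (kf xf9 yf53 zf42) (kf xf9 yf39 zf25) (kf xf18 yf56 zf30) (kf xf16 yf24 zf11) (kf xf20 yf36 zf33) (kf xf17 yf46 zf52) (kf xf18 yf58 zf54) (kf xf15 yf11 zf2) (kf xf9 yf39 zf30) (kf xf9 yf39 zf31) (kf xf18 yf21 zf52) (kf xf18 yf15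 zf53) (kf xf20 yf10 zf42) (kf xf17 yf46 zf61) (kf xf17 yf47 zf0) (kf xf17 yf47 zf1) (kf xf17 yf47 zf2) (kf xf10 yf12 zf29) (kf xf18 yf13 zf19) (kf xf9 yf55 zf14) (kf xf9 yf55 zf13) (kf xf10 yf12 zf25) (kf xf9 yf39 zf37) (kf xf17 yf47 zf9)) (@D3.rec (fun _ => Pt) (kf xf17 yf47 zf10) (kf xf17 yf47 zf11) (kf xf17 yf47 zf12) (kf xf27 yf32 zf30) (kf xf27 yf32 zf33) (kf xf9 yf57 zf32) (kf xf9 yf57 zf31) (kf xf27 yf32 zf40) (kf xf9 yf39 zf41) (kf xf9 yf57 zf40) (kf xf9 yf57 zf41) (kf xf9 yf57 zf36) (kf xf9 yf58 zf34) (kf xf17 yf47 zf29) (kf xf17 yf47 zf30) (kf xf17 yf47 zf31) (kf xf17 yf47 zf32) (kf xf17 yf46 zf19) (kf xf27 yf32 zf61) (kf xf17 yf46 zf17) (kf xf9 yf39 zf47) (kf xf17 yf47 zf22) (kf xf9 yf39 zf54) (kf xf17 yf47 zf23) (kf xf27 yf33 zf5) (kf xf27 yf33 zf7) (kf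 xf9 yf39 zf50) (kf xf9 yf39 zf53) (kf xf9 yf39 zf52) (kf xf21 yf13 zf16) (kf xf22 yf51 zf49) (kf xf9 yf39 zf51) (kf xf27 yf33 zf9) (kf xf12 yf8 zf6) (kf xf18 yf58 zf19) (kf xf27 yf33 zf18) (kf xf25 yf0 zf32) (kf xf24 yf48 zf1) (kf xf18 yf30 zf33) (kf xf17 yf47 zf51) (kf xf27 yf33 zf25) (kf xf23 yf36 zf55) (kf xf15 yf7 zf44) (kf xf24 yf54 zf6) (kf xf9 yf39 zf59) (kf xf24 yf54 zf5) (kf xf17 yf47 zf59) (kf xf17 yf47 zf58) (kf xf18 yf30 zf35) (kf xf17 yf47 zf61) (kf xf17 yf48 zf0) (kf xf9 yf42 zf19) (kf xf17 yf45 zf43) (kf xf16 yf40 zf0) (kf xf9 yf40 zf2) (kf xf10 yf8 zf36) (kf xf9 yf40 zf3) (kf xf16 yf20 zf51) (kf xf16 yf20 zf55) (kf xf18 yf49 zf30) (kf xf16 yf21 zf54) (kf xf17 yf45 zf51)) (@D3.rec (fun _ => Pt) (kf xf17 yf45 zf52) (kf xf17 yf45 zf53) (kf xf17 yf45 zf54)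 (kf xf18 yf35 zf23) (kf xf27 yf33 zf58) (kf xf10 yf10 zf0) (kf xf18 yf35 zf21) (kf xf9 yf40 zf9) (kf xf10 yf9 zf58) (kf xf17 yf45 zf61) (kf xf17 yf46 zf0) (kf xf17 yf46 zf1) (kf xf17 yf46 zf2) (kf xf18 yf31 zf42) (kf xf27 yf34 zf13) (kf xf10 yf12 zf28) (kf xf10 yf12 zf27) (kf xf27 yf32 zf9) (kf xf9 yf40 zf14) (kf xf10 yf12 zf35) (kf xf10 yf11 zf56) (kf xf10 yf12 zf32) (kf xf17 yf46 zf21) (kf xf17 yf46 zf23) (kf xf12 yf7 zf11) (kf xf27 yf34 zf27) (kf xf27 yf34 zf29) (kf xf27 yf32 zf52) (kf xf9 yf40 zf20) (kf xf17 yf46 zf13) (kf xf17 yf46 zf14) (kf xf17 yf46 zf15) (kf xf17 yf46 zf16) (kf xf27 yf32 zf60) (kf xf27 yf34 zf43) (kf xf27 yf32 zf56) (kf xf9 yf40 zf23) (kf xf9 yf40 zf26) (kf xf9 yf40 zf25) (kf xf25 yf3 zf44) (kf xf21 yf9 zf21) (kf xf18 yf10 zf42) (kf xf27 yf34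 zf53) (kf xf9 yf40 zf24) (kf xf18 yf13 zf47) (kf xf10 yf21 zf40) (kf xf18 yf10 zf43) (kf xf27 yf34 zf59) (kf xf9 yf59 zf60) (kf xf18 yf11 zf18) (kf xf26 yf17 zf35) (kf xf17 yf46 zf39) (kf xf27 yf35 zf6) (kf xf18 yf36 zf28) (kf xf16 yf35 zf24) (kf xf16 yf35 zf20) (kf xf9 yf40 zf32) (kf xf27 yf35 zf10) (kf xf17 yf46 zf47) (kf xf17 yf46 zf46) (kf xf18 yf11 zf20) (kf xf17 yf46 zf49)) (@D3.rec (fun _ => Pt) (kf xf17 yf46 zf50) (kf xf15 yf2 zf15) (kf xf9 yf41 zf53) (kf xf9 yf41 zf54) (kf xf9 yf41 zf55) (kf xf9 yf41 zf56) (kf xf27 yf35 zf27) (kf xf14 yf47 zf37) (kf xf9 yf41 zf25) (kf xf9 yf41 zf26) (kf xf9 yf41 zf27) (kf xf9 yf41 zf28) (kf xf16 yf42 zf18) (kf xf24 yf19 zf11) (kf xf9 yf42 zf30) (kf xf9 yf42 zf32) (kf xf9 yf42 zf33) (kf xf26 yf10 zf38) (kf xf13 yf53 zf45) (kf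 xf9 yf40 zf44) (kf xf18 yf11 zf46) (kf xf18 yf39 zf15) (kf xf9 yf42 zf37) (kf xf27 yf35 zf36) (kf xf9 yf40 zf48) (kf xf9 yf42 zf42) (kf xf9 yf42 zf46) (kf xf9 yf42 zf47) (kf xf9 yf42 zf48) (kf xf9 yf42 zf50) (kf xf24 yf21 zf57) (kf xf9 yf40 zf53) (kf xf9 yf40 zf56) (kf xf9 yf40 zf55) (kf xf27 yf35 zf46) (kf xf26 yf10 zf46) (kf xf9 yf40 zf54) (kf xf27 yf35 zf42) (kf xf27 yf35 zf43) (kf xf27 yf35 zf51) (kf xf10 yf42 zf16) (kf xf9 yf43 zf12) (kf xf10 yf41 zf54) (kf xf10 yf22 zf49) (kf xf21 yf23 zf37) (kf xf9 yf43 zf11) (kf xf10 yf20 zf23) (kf xf9 yf41 zf0) (kf xf25 yf8 zf53) (kf xf25 yf31 zf1) (kf xf16 yf42 zf24) (kf xf16 yf42 zf20) (kf xf26 yf36 zf26) (kf xf25 yf16 zf52) (kf xf11 yf8 zf47) (kf xf9 yf41 zf7) (kf xf19 yf19 zf52) (kf xf19 yf19 zf54) (kf xf25 yf31 zf15) (kf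 xf26 yf42 zf37) (kf xf26 yf42 zf38) (kf xf16 yf11 zf7)) (@D3.rec (fun _ => Pt) (kf xf9 yf41 zf11) (kf xf19 yf10 zf31) (kf xf19 yf10 zf32) (kf xf10 yf55 zf51) (kf xf10 yf55 zf50) (kf xf27 yf36 zf12) (kf xf18 yf20 zf29) (kf xf11 yf4 zf43) (kf xf11 yf4 zf42) (kf xf17 yf12 zf58) (kf xf9 yf41 zf15) (kf xf11 yf4 zf47) (kf xf19 yf10 zf55) (kf xf19 yf10 zf56) (kf xf19 yf10 zf57) (kf xf17 yf50 zf50) (kf xf26 yf58 zf61) (kf xf27 yf36 zf26) (kf xf17 yf13 zf1) (kf xf9 yf41 zf21) (kf xf19 yf10 zf49) (kf xf19 yf10 zf50) (kf xf10 yf36 zf26) (kf xf27 yf35 zf28) (kf xf17 yf50 zf47) (kf xf26 yf35 zf59) (kf xf27 yf35 zf30) (kf xf16 yf37 zf49) (kf xf17 yf50 zf48) (kf xf27 yf36 zf38) (kf xf27 yf35 zf31) (kf xf14 yf32 zf33) (kf xf26 yf39 zf39) (kf xf26 yf39 zf41) (kf xf27 yf35 zf32) (kf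 xf27 yf36 zf15) (kf xf27 yf36 zf41) (kf xf27 yf36 zf40) (kf xf27 yf36 zf50) (kf xf9 yf41 zf29) (kf xf18 yf50 zf60) (kf xf27 yf29 zf49) (kf xf19 yf15 zf49) (kf xf19 yf15 zf45) (kf xf24 yf19 zf9) (kf xf9 yf41 zf31) (kf xf19 yf11 zf7) (kf xf19 yf11 zf8) (kf xf19 yf11 zf5) (kf xf19 yf11 zf6) (kf xf25 yf17 zf11) (kf xf25 yf17 zf43) (kf xf25 yf17 zf42) (kf xf26 yf53 zf39) (kf xf9 yf41 zf34) (kf xf15 yf28 zf58) (kf xf18 yf9 zf0) (kf xf15 yf28 zf55) (kf xf15 yf28 zf54) (kf xf27 yf37 zf5) (kf xf27 yf37 zf8) (kf xf9 yf41 zf38)) (@D3.rec (fun _ => Pt) (kf xf15 yf28 zf30) (kf xf15 yf28 zf31) (kf xf15 yf28 zf32) (kf xf27 yf37 zf13) (kf xf15 yf51 zf23) (kf xf15 yf51 zf24) (kf xf13 yf45 zf52) (kf xf13 yf36 zf51) (kf xf10 yf19 zf57) (kf xf19 yf20 zf27) (kf xf19 yf20 zf30) (kf xf24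 yf49 zf7) (kf xf25 yf42 zf3) (kf xf25 yf42 zf4) (kf xf27 yf35 zf23) (kf xf19 yf30 zf27) (kf xf17 yf51 zf19) (kf xf20 yf16 zf53) (kf xf26 yf15 zf4) (kf xf14 yf32 zf29) (kf xf27 yf35 zf24) (kf xf18 yf35 zf14) (kf xf17 yf31 zf26) (kf xf11 yf49 zf19) (kf xf18 yf36 zf23) (kf xf19 yf13 zf14) (kf xf9 yf41 zf58) (kf xf12 yf43 zf7) (kf xf12 yf43 zf6) (kf xf18 yf17 zf39) (kf xf19 yf15 zf2) (kf xf19 yf15 zf3) (kf xf11 yf36 zf27) (kf xf21 yf30 zf21) (kf xf20 yf51 zf54) (kf xf16 yf45 zf42) (kf xf26 yf19 zf40) (kf xf27 yf36 zf4) (kf xf18 yf50 zf57) (kf xf18 yf50 zf58) (kf xf18 yf50 zf59) (kf xf10 yf39 zf8) (kf xf16 yf39 zf43) (kf xf21 yf59 zf23) (kf xf26 yf39 zf40) (kf xf16 yf39 zf28) (kf xf21 yf7 zf46) (kf xf17 yf49 zf24) (kf xf17 yf49 zf28) (kf xf26 yf39 zf43) (kf xf17 yf49 zf15)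 (kf xf18 yf41 zf45) (kf xf10 yf2 zf29) (kf xf18 yf41 zf47) (kf xf19 yf18 zf56) (kf xf18 yf39 zf26) (kf xf9 yf42 zf14) (kf xf21 yf50 zf58) (kf xf15 yf36 zf30) (kf xf15 yf36 zf31) (kf xf19 yf17 zf13) (kf xf15 yf36 zf56)) (@D3.rec (fun _ => Pt) (kf xf9 yf57 zf42) (kf xf27 yf33 zf38) (kf xf17 yf8 zf53) (kf xf24 yf52 zf34) (kf xf16 yf34 zf42) (kf xf18 yf12 zf26) (kf xf18 yf12 zf27) (kf xf15 yf51 zf34) (kf xf15 yf51 zf35) (kf xf15 yf51 zf36) (kf xf15 yf51 zf37) (kf xf23 yf12 zf14) (kf xf16 yf1 zf47) (kf xf18 yf51 zf40) (kf xf24 yf1 zf36) (kf xf27 yf35 zf33) (kf xf19 yf41 zf24) (kf xf17 yf52 zf56) (kf xf17 yf6 zf10) (kf xf17 yf50 zf16) (kf xf20 yf16 zf42) (kf xf21 yf50 zf14) (kf xf9 yf42 zf34) (kf xf18 yf39 zf16) (kf xf9 yf42 zf35) (kf xf21 yf50 zf20) (kf xf27 yf35 zf34) (kf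 xf17 yf5 zf34) (kf xf27 yf35 zf35) (kf xf21 yf41 zf36) (kf xf27 yf1 zf32) (kf xf9 yf42 zf38) (kf xf27 yf35 zf37) (kf xf11 yf48 zf50) (kf xf15 yf28 zf11) (kf xf11 yf5 zf61) (kf xf15 yf28 zf8) (kf xf15 yf28 zf7) (kf xf27 yf38 zf18) (kf xf27 yf38 zf21) (kf xf9 yf42 zf44) (kf xf24 yf32 zf58) (kf xf27 yf35 zf38) (kf xf22 yf6 zf1) (kf xf25 yf12 zf53) (kf xf24 yf32 zf59) (kf xf26 yf16 zf27) (kf xf18 yf2 zf46) (kf xf27 yf35 zf40) (kf xf24 yf21 zf58) (kf xf18 yf2 zf45) (kf xf18 yf2 zf47) (kf xf24 yf22 zf35) (kf xf19 yf11 zf0) (kf xf19 yf11 zf3) (kf xf27 yf35 zf41) (kf xf27 yf38 zf35) (kf xf23 yf13 zf26) (kf xf9 yf42 zf51) (kf xf18 yf11 zf4) (kf xf17 yf13 zf30) (kf xf9 yf42 zf53)) (@D3.rec (fun _ => Pt) (kf xf27 yf38 zf40) (kf xf9 yf42 zf54) (kf xf19 yf17 zf4) (kf xf17 yf33 zf54)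 (kf xf21 yf23 zf51) (kf xf16 yf21 zf5) (kf xf13 yf30 zf8) (kf xf18 yf13 zf0) (kf xf12 yf35 zf18) (kf xf23 yf47 zf18) (kf xf9 yf43 zf0) (kf xf18 yf12 zf60) (kf xf18 yf12 zf51) (kf xf20 yf53 zf32) (kf xf17 yf42 zf23) (kf xf12 yf14 zf24) (kf xf17 yf52 zf55) (kf xf17 yf52 zf54) (kf xf26 yf18 zf24) (kf xf27 yf35 zf53) (kf xf26 yf16 zf11) (kf xf18 yf57 zf58) (kf xf10 yf32 zf14) (kf xf10 yf32 zf15) (kf xf10 yf32 zf13) (kf xf17 yf12 zf38) (kf xf9 yf43 zf16) (kf xf18 yf56 zf44) (kf xf10 yf22 zf52) (kf xf25 yf17 zf55) (kf xf27 yf9 zf21) (kf xf19 yf23 zf25) (kf xf11 yf49 zf12) (kf xf19 yf56 zf50) (kf xf18 yf13 zf34) (kf xf25 yf17 zf56) (kf xf25 yf17 zf57) (kf xf18 yf13 zf38) (kf xf16 yf49 zf34) (kf xf19 yf57 zf36) (kf xf15 yf52 zf28) (kf xf21 yf22 zf40) (kf xf21 yf22 zf38) (kf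 xf25 yf17 zf59) (kf xf15 yf51 zf41) (kf xf15 yf19 zf32) (kf xf15 yf19 zf33) (kf xf15 yf19 zf30) (kf xf15 yf19 zf31) (kf xf25 yf51 zf14) (kf xf18 yf5 zf35) (kf xf17 yf44 zf13) (kf xf24 yf50 zf48) (kf xf18 yf38 zf34) (kf xf17 yf52 zf17) (kf xf17 yf52 zf16) (kf xf17 yf51 zf17) (kf xf12 yf43 zf0) (kf xf16 yf12 zf26) (kf xf14 yf43 zf37) (kf xf16 yf12 zf27) (kf xf16 yf12 zf45)) (@D3.rec (fun _ => Pt) (kf xf16 yf12 zf49) (kf xf23 yf31 zf5) (kf xf21 yf30 zf48) (kf xf27 yf39 zf10) (kf xf9 yf43 zf48) (kf xf19 yf5 zf57) (kf xf25 yf11 zf47) (kf xf26 yf6 zf38) (kf xf14 yf43 zf34) (kf xf25 yf11 zf42) (kf xf18 yf52 zf37) (kf xf19 yf18 zf35) (kf xf19 yf18 zf36) (kf xf25 yf45 zf28) (kf xf19 yf18 zf32) (kf xf19 yf18 zf33) (kf xf24 yf51 zf10) (kf xf9 yf44 zf16) (kf xf18 yf1 zf56) (kf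 xf19 yf20 zf59) (kf xf19 yf21 zf21) (kf xf19 yf43 zf28) (kf xf16 yf46 zf15) (kf xf12 yf5 zf41) (kf xf22 yf6 zf25) (kf xf9 yf44 zf4) (kf xf12 yf55 zf46) (kf xf10 yf39 zf5) (kf xf18 yf41 zf52) (kf xf21 yf40 zf45) (kf xf19 yf20 zf58) (kf xf17 yf58 zf35) (kf xf19 yf49 zf8) (kf xf19 yf49 zf9) (kf xf19 yf50 zf9) (kf xf19 yf43 zf15) (kf xf19 yf49 zf53) (kf xf20 yf28 zf7) (kf xf16 yf47 zf4) (kf xf20 yf28 zf9) (kf xf18 yf38 zf21) (kf xf19 yf22 zf19) (kf xf16 yf45 zf4) (kf xf20 yf20 zf31) (kf xf20 yf28 zf0) (kf xf16 yf43 zf57) (kf xf14 yf33 zf4) (kf xf20 yf20 zf27) (kf xf19 yf42 zf56) (kf xf15 yf55 zf1) (kf xf14 yf37 zf39) (kf xf19 yf56 zf38) (kf xf20 yf33 zf50) (kf xf24 yf59 zf33) (kf xf16 yf34 zf51) (kf xf20 yf29 zf21) (kf xf16 yf8 zf30) (kf xf16 yf8 zf31) (kf xf16 yf8 zf32)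 (kf xf16 yf19 zf4) (kf xf27 yf5 zf48) (kf xf16 yf19 zf7)) (@D3.rec (fun _ => Pt) (kf xf27 yf39 zf28) (kf xf16 yf18 zf26) (kf xf27 yf25 zf58) (kf xf16 yf17 zf7) (kf xf16 yf17 zf11) (kf xf16 yf18 zf27) (kf xf27 yf39 zf35) (kf xf27 yf24 zf45) (kf xf26 yf14 zf2) (kf xf9 yf44 zf53) (kf xf16 yf18 zf33) (kf xf27 yf39 zf42) (kf xf9 yf44 zf54) (kf xf16 yf16 zf2) (kf xf16 yf16 zf3) (kf xf16 yf20 zf10) (kf xf16 yf20 zf9) (kf xf27 yf39 zf51) (kf xf9 yf44 zf56) (kf xf16 yf19 zf26) (kf xf24 yf28 zf28) (kf xf16 yf18 zf31) (kf xf16 yf19 zf35) (kf xf27 yf40 zf0) (kf xf27 yf39 zf55) (kf xf27 yf39 zf54) (kf xf9 yf44 zf60) (kf xf16 yf17 zf28) (kf xf16 yf17 zf30) (kf xf16 yf18 zf30) (kf xf27 yf40 zf11) (kf xf9 yf45 zf0) (kf xf16 yf20 zf30) (kf xf16 yf20 zf32) (kf xf16 yf20 zf26) (kf xf16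 yf20 zf28) (kf xf23 yf6 zf11) (kf xf27 yf40 zf17) (kf xf16 yf17 zf33) (kf xf16 yf17 zf20) (kf xf16 yf17 zf19) (kf xf26 yf14 zf60) (kf xf9 yf45 zf6) (kf xf16 yf21 zf9) (kf xf16 yf21 zf11) (kf xf24 yf54 zf34) (kf xf13 yf29 zf18) (kf xf9 yf46 zf19) (kf xf24 yf36 zf24) (kf xf9 yf45 zf11) (kf xf9 yf47 zf21) (kf xf9 yf45 zf40) (kf xf9 yf45 zf41) (kf xf26 yf51 zf42) (kf xf21 yf37 zf38) (kf xf11 yf11 zf51) (kf xf17 yf19 zf8) (kf xf27 yf13 zf26) (kf xf19 yf39 zf45) (kf xf19 yf59 zf54) (kf xf26 yf49 zf31) (kf xf20 yf13 zf13)) (@D3.rec (fun _ => Pt) (kf xf11 yf11 zf57) (kf xf9 yf45 zf23) (kf xf20 yf12 zf45) (kf xf11 yf59 zf6) (kf xf23 yf26 zf20) (kf xf27 yf40 zf32) (kf xf20 yf8 zf6) (kf xf14 yf42 zf55) (kf xf21 yf29 zf1) (kf xf24 yf53 zf3) (kf xf24 yf53 zf4) (kf xf16 yf32 zf2)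 (kf xf26 yf32 zf25) (kf xf11 yf12 zf40) (kf xf9 yf45 zf37) (kf xf11 yf12 zf41) (kf xf20 yf13 zf49) (kf xf9 yf45 zf39) (kf xf27 yf40 zf26) (kf xf21 yf29 zf34) (kf xf24 yf22 zf43) (kf xf16 yf17 zf27) (kf xf27 yf40 zf43) (kf xf23 yf23 zf33) (kf xf14 yf6 zf16) (kf xf22 yf17 zf56) (kf xf9 yf45 zf42) (kf xf16 yf46 zf5) (kf xf9 yf46 zf13) (kf xf9 yf46 zf14) (kf xf9 yf46 zf15) (kf xf9 yf46 zf11) (kf xf14 yf4 zf60) (kf xf11 yf7 zf58) (kf xf21 yf37 zf47) (kf xf14 yf3 zf21) (kf xf20 yf59 zf28) (kf xf23 yf30 zf45) (kf xf14 yf7 zf55) (kf xf14 yf7 zf56) (kf xf14 yf49 zf58) (kf xf23 yf24 zf39) (kf xf23 yf24 zf40) (kf xf23 yf30 zf35) (kf xf27 yf40 zf51) (kf xf24 yf52 zf53) (kf xf21 yf19 zf49) (kf xf27 yf40 zf50) (kf xf23 yf24 zf46) (kf xf23 yf29 zf24) (kf xf9 yf46 zf1) (kf xf11 yf18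 zf10) (kf xf21 yf19 zf44) (kf xf12 yf20 zf27) (kf xf21 yf19 zf50) (kf xf21 yf19 zf51) (kf xf20 yf17 zf1) (kf xf20 yf17 zf2) (kf xf23 yf26 zf45) (kf xf9 yf46 zf9) (kf xf14 yf4 zf13) (kf xf11 yf7 zf40)) (@D3.rec (fun _ => Pt) (kf xf20 yf22 zf11) (kf xf14 yf3 zf0) (kf xf22 yf32 zf31) (kf xf22 yf45 zf7) (kf xf9 yf48 zf36) (kf xf20 yf22 zf13) (kf xf11 yf30 zf58) (kf xf20 yf27 zf51) (kf xf24 yf30 zf30) (kf xf20 yf26 zf10) (kf xf20 yf27 zf49) (kf xf27 yf40 zf45) (kf xf22 yf45 zf3) (kf xf18 yf18 zf32) (kf xf27 yf40 zf46) (kf xf11 yf8 zf17) (kf xf21 yf37 zf53) (kf xf21 yf37 zf56) (kf xf14 yf8 zf7) (kf xf23 yf23 zf15) (kf xf27 yf22 zf47) (kf xf13 yf3 zf21) (kf xf27 yf41 zf16) (kf xf27 yf41 zf18) (kf xf9 yf50 zf50) (kf xf19 yf34 zf19) (kf xf19 yf49 zf23) (kf xf19 yf50 zf24) (kf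 xf19 yf39 zf54) (kf xf19 yf39 zf0) (kf xf16 yf48 zf48) (kf xf15 yf43 zf36) (kf xf9 yf46 zf32) (kf xf10 yf5 zf39) (kf xf9 yf46 zf30) (kf xf20 yf16 zf14) (kf xf20 yf24 zf14) (kf xf18 yf24 zf51) (kf xf27 yf41 zf22) (kf xf27 yf41 zf23) (kf xf10 yf5 zf22) (kf xf12 yf20 zf7) (kf xf11 yf10 zf59) (kf xf11 yf11 zf2) (kf xf11 yf7 zf43) (kf xf20 yf20 zf51) (kf xf17 yf12 zf43) (kf xf11 yf7 zf48) (kf xf11 yf7 zf57) (kf xf11 yf11 zf50) (kf xf11 yf4 zf40) (kf xf21 yf24 zf17) (kf xf22 yf5 zf30) (kf xf9 yf51 zf15) (kf xf9 yf51 zf16) (kf xf9 yf51 zf17) (kf xf16 yf26 zf47) (kf xf26 yf21 zf61) (kf xf16 yf26 zf44) (kf xf16 yf26 zf43) (kf xf16 yf26 zf49) (kf xf13 yf43 zf36)) (@D3.rec (fun _ => Pt) (kf xf12 yf6 zf58) (kf xf13 yf52 zf49) (kf xf16 yf26 zf41) (kf xf23 yf3 zf25) (kf xf16 yf26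 zf45) (kf xf16 yf19 zf50) (kf xf9 yf46 zf60) (kf xf16 yf26 zf54) (kf xf25 yf2 zf5) (kf xf16 yf26 zf51) (kf xf25 yf11 zf35) (kf xf16 yf26 zf58) (kf xf16 yf26 zf57) (kf xf9 yf47 zf1) (kf xf9 yf47 zf15) (kf xf15 yf4 zf50) (kf xf15 yf8 zf22) (kf xf15 yf8 zf21) (kf xf16 yf27 zf4) (kf xf27 yf41 zf58) (kf xf16 yf27 zf6) (kf xf15 yf20 zf18) (kf xf15 yf54 zf12) (kf xf9 yf47 zf6) (kf xf16 yf27 zf1) (kf xf16 yf27 zf9) (kf xf16 yf27 zf8) (kf xf9 yf47 zf8) (kf xf12 yf8 zf36) (kf xf16 yf27 zf18) (kf xf16 yf27 zf16) (kf xf16 yf27 zf15) (kf xf22 yf27 zf46) (kf xf9 yf47 zf10) (kf xf16 yf27 zf22) (kf xf25 yf9 zf8) (kf xf22 yf23 zf0) (kf xf26 yf24 zf43) (kf xf26 yf24 zf42) (kf xf16 yf27 zf33) (kf xf16 yf27 zf32) (kf xf16 yf27 zf38) (kf xf9 yf47 zf17) (kf xf18 yf26 zf21) (kf xf11 yf58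 zf7) (kf xf11 yf29 zf57) (kf xf27 yf42 zf15) (kf xf9 yf47 zf25) (kf xf16 yf57 zf47) (kf xf21 yf1 zf32) (kf xf27 yf41 zf29) (kf xf22 yf11 zf9) (kf xf27 yf42 zf19) (kf xf23 yf38 zf8) (kf xf21 yf3 zf12) (kf xf11 yf31 zf15) (kf xf9 yf47 zf39) (kf xf21 yf33 zf29) (kf xf11 yf30 zf33) (kf xf21 yf33 zf27) (kf xf9 yf47 zf42) (kf xf10 yf0 zf12)) (@D3.rec (fun _ => Pt) (kf xf20 yf15 zf57) (kf xf18 yf37 zf47) (kf xf22 yf2 zf54) (kf xf9 yf47 zf47) (kf xf20 yf12 zf52) (kf xf9 yf47 zf49) (kf xf11 yf36 zf39) (kf xf27 yf20 zf16) (kf xf27 yf12 zf53) (kf xf20 yf42 zf50) (kf xf20 yf42 zf47) (kf xf9 yf47 zf54) (kf xf9 yf47 zf58) (kf xf21 yf36 zf31) (kf xf10 yf4 zf2) (kf xf10 yf4 zf51) (kf xf10 yf4 zf50) (kf xf21 yf3 zf8) (kf xf10 yf6 zf47) (kf xf10 yf6 zf46) (kf xf9 yf48 zf4) (kf xf13 yf1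 zf44) (kf xf14 yf30 zf29) (kf xf11 yf48 zf0) (kf xf20 yf18 zf12) (kf xf21 yf11 zf12) (kf xf11 yf31 zf9) (kf xf9 yf48 zf12) (kf xf11 yf25 zf27) (kf xf17 yf1 zf28) (kf xf20 yf19 zf51) (kf xf10 yf41 zf37) (kf xf25 yf23 zf47) (kf xf16 yf45 zf2) (kf xf21 yf11 zf14) (kf xf17 yf53 zf31) (kf xf22 yf23 zf36) (kf xf20 yf43 zf23) (kf xf21 yf1 zf51) (kf xf23 yf56 zf35) (kf xf25 yf14 zf26) (kf xf16 yf7 zf30) (kf xf17 yf9 zf55) (kf xf18 yf38 zf20) (kf xf20 yf42 zf25) (kf xf20 yf42 zf26) (kf xf27 yf41 zf5) (kf xf12 yf16 zf40) (kf xf9 yf48 zf32) (kf xf27 yf41 zf4) (kf xf10 yf56 zf17) (kf xf20 yf49 zf45) (kf xf20 yf42 zf31) (kf xf20 yf42 zf29) (kf xf9 yf48 zf48) (kf xf21 yf0 zf16) (kf xf19 yf36 zf30) (kf xf20 yf25 zf53) (kf xf11 yf10 zf21) (kf xf20 yf42 zf33) (kf xf20 yf42 zf34) (kf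 xf24 yf17 zf51)) (@D3.rec (fun _ => Pt) (kf xf24 yf17 zf50) (kf xf27 yf42 zf44) (kf xf9 yf48 zf45) (kf xf11 yf40 zf8) (kf xf25 yf14 zf25) (kf xf24 yf40 zf12) (kf xf9 yf48 zf46) (kf xf24 yf14 zf60) (kf xf26 yf46 zf43) (kf xf17 yf5 zf59) (kf xf19 yf47 zf3) (kf xf10 yf14 zf14) (kf xf18 yf10 zf29) (kf xf21 yf3 zf25) (kf xf21 yf3 zf26) (kf xf17 yf10 zf4) (kf xf12 yf15 zf17) (kf xf27 yf42 zf48) (kf xf9 yf48 zf57) (kf xf9 yf50 zf4) (kf xf9 yf50 zf9) (kf xf9 yf50 zf8) (kf xf24 yf33 zf7) (kf xf9 yf48 zf59) (kf xf9 yf50 zf29) (kf xf9 yf50 zf20) (kf xf11 yf26 zf29) (kf xf11 yf26 zf19) (kf xf22 yf3 zf22) (kf xf18 yf13 zf56) (kf xf11 yf26 zf41) (kf xf22 yf3 zf36) (kf xf22 yf2 zf43) (kf xf9 yf49 zf5) (kf xf20 yf40 zf25) (kf xf10 yf13 zf43) (kf xf21 yf50 zf16) (kf xf9 yf49 zf12) (kf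 xf11 yf18 zf6) (kf xf11 yf19 zf4) (kf xf11 yf59 zf18) (kf xf11 yf19 zf1) (kf xf20 yf46 zf8) (kf xf27 yf0 zf47) (kf xf27 yf42 zf47) (kf xf17 yf8 zf35) (kf xf22 yf23 zf17) (kf xf9 yf49 zf18) (kf xf20 yf17 zf12) (kf xf21 yf32 zf37) (kf xf15 yf8 zf19) (kf xf12 yf29 zf44) (kf xf20 yf34 zf45) (kf xf16 yf31 zf2) (kf xf27 yf43 zf2) (kf xf9 yf49 zf23) (kf xf11 yf27 zf26) (kf xf17 yf6 zf0) (kf xf10 yf6 zf59) (kf xf12 yf30 zf13) (kf xf17 yf4 zf23) (kf xf17 yf5 zf17))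
def f_f_18 : D2 → D3 → Pt := @D2.rec (fun _ => D3 → Pt) (@D3.rec (fun _ => Pt) (kf xf20 yf45 zf35) (kf xf20 yf45 zf32) (kf xf9 yf49 zf33) (kf xf19 yf42 zf57) (kf xf12 yf16 zf41) (kf xf18 yf0 zf6) (kf xf18 yf0 zf5) (kf xf10 yf14 zf3) (kf xf12 yf41 zf3) (kf xf9 yf49 zf36) (kf xf20 yf46 zf29) (kf xf20 yf46 zf30) (kf xf10 yf27 zf3) (kf xf9 yf57 zf59) (kf xf16 yf49 zf17) (kf xf27 yf7 zf28) (kf xf21 yf9 zf50) (kf xf23 yf49 zf10) (kf xf12 yf14 zf20) (kf xf27 yf1 zf12) (kf xf9 yf49 zf45) (kf xf20 yf44 zf60) (kf xf20 yf44 zf59) (kf xf27 yf22 zf57) (kf xf9 yf49 zf46) (kf xf20 yf45 zf3) (kf xf20 yf45 zf2) (kf xf22 yf22 zf4) (kf xf9 yf49 zf47) (kf xf17 yf25 zf40) (kf xf9 yf49 zf53) (kf xf20 yf40 zf20) (kf xf20 yf40 zf19) (kf xf9 yf49 zf57) (kf xf26 yf28 zf46) (kf xf9 yf49 zf59)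 (kf xf27 yf12 zf48) (kf xf26 yf46 zf5) (kf xf16 yf31 zf34) (kf xf26 yf50 zf24) (kf xf27 yf43 zf18) (kf xf19 yf57 zf28) (kf xf26 yf41 zf1) (kf xf24 yf34 zf18) (kf xf9 yf50 zf0) (kf xf9 yf50 zf2) (kf xf11 yf45 zf61) (kf xf11 yf45 zf60) (kf xf27 yf38 zf31) (kf xf23 yf47 zf41) (kf xf21 yf35 zf2) (kf xf21 yf35 zf0) (kf xf20 yf48 zf38) (kf xf12 yf41 zf38) (kf xf23 yf29 zf28) (kf xf20 yf27 zf45) (kf xf12 yf41 zf6) (kf xf20 yf48 zf36) (kf xf20 yf48 zf37) (kf xf20 yf48 zf39) (kf xf27 yf43 zf28) (kf xf10 yf15 zf37)) (@D3.rec (fun _ => Pt) (kf xf10 yf15 zf54) (kf xf20 yf22 zf7) (kf xf21 yf40 zf49) (kf xf23 yf59 zf25) (kf xf20 yf17 zf4) (kf xf18 yf17 zf45) (kf xf22 yf45 zf8) (kf xf25 yf14 zf39) (kf xf23 yf26 zf46) (kf xf9 yf50 zf10) (kf xf17 yf31 zf60) (kf xf9 yf54 zf18) (kf xf21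 yf22 zf8) (kf xf18 yf10 zf30) (kf xf18 yf12 zf42) (kf xf27 yf22 zf46) (kf xf24 yf53 zf43) (kf xf26 yf59 zf29) (kf xf26 yf51 zf47) (kf xf22 yf3 zf16) (kf xf9 yf50 zf17) (kf xf20 yf40 zf27) (kf xf20 yf40 zf29) (kf xf20 yf37 zf39) (kf xf12 yf23 zf26) (kf xf24 yf33 zf29) (kf xf23 yf26 zf48) (kf xf21 yf23 zf6) (kf xf21 yf23 zf16) (kf xf16 yf46 zf7) (kf xf13 yf50 zf30) (kf xf20 yf52 zf2) (kf xf18 yf15 zf38) (kf xf12 yf49 zf29) (kf xf24 yf33 zf27) (kf xf27 yf43 zf47) (kf xf12 yf49 zf31) (kf xf12 yf44 zf40) (kf xf21 yf32 zf44) (kf xf19 yf40 zf20) (kf xf11 yf24 zf31) (kf xf19 yf47 zf12) (kf xf22 yf5 zf29) (kf xf25 yf58 zf6) (kf xf11 yf39 zf27) (kf xf25 yf14 zf24) (kf xf27 yf11 zf39) (kf xf26 yf54 zf61) (kf xf19 yf19 zf49) (kf xf23 yf28 zf2) (kf xf27 yf41 zf17) (kf xf20 yf54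 zf36) (kf xf9 yf50 zf45) (kf xf26 yf55 zf0) (kf xf20 yf40 zf7) (kf xf15 yf20 zf35) (kf xf17 yf53 zf18) (kf xf27 yf41 zf15) (kf xf9 yf50 zf47) (kf xf20 yf29 zf17) (kf xf20 yf29 zf18) (kf xf23 yf41 zf32)) (@D3.rec (fun _ => Pt) (kf xf20 yf29 zf14) (kf xf20 yf29 zf15) (kf xf23 yf1 zf47) (kf xf21 yf48 zf27) (kf xf27 yf41 zf19) (kf xf20 yf43 zf60) (kf xf27 yf44 zf11) (kf xf13 yf11 zf3) (kf xf11 yf26 zf4) (kf xf20 yf52 zf32) (kf xf16 yf58 zf2) (kf xf12 yf22 zf23) (kf xf19 yf42 zf38) (kf xf12 yf10 zf34) (kf xf16 yf30 zf19) (kf xf11 yf30 zf54) (kf xf11 yf12 zf23) (kf xf20 yf25 zf10) (kf xf10 yf19 zf7) (kf xf11 yf8 zf10) (kf xf20 yf1 zf52) (kf xf19 yf50 zf30) (kf xf20 yf50 zf26) (kf xf27 yf41 zf34) (kf xf19 yf13 zf1) (kf xf15 yf25 zf32) (kf xf19 yf56 zf61) (kf xf19 yf12 zf60)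 (kf xf12 yf43 zf15) (kf xf12 yf5 zf49) (kf xf12 yf5 zf47) (kf xf12 yf5 zf48) (kf xf12 yf5 zf43) (kf xf21 yf54 zf5) (kf xf16 yf33 zf53) (kf xf16 yf34 zf28) (kf xf27 yf44 zf25) (kf xf16 yf34 zf38) (kf xf9 yf51 zf25) (kf xf9 yf51 zf27) (kf xf9 yf51 zf28) (kf xf10 yf39 zf42) (kf xf10 yf39 zf43) (kf xf27 yf44 zf29) (kf xf9 yf51 zf31) (kf xf17 yf51 zf50) (kf xf17 yf51 zf47) (kf xf17 yf51 zf51) (kf xf14 yf38 zf44) (kf xf27 yf40 zf42) (kf xf21 yf11 zf38) (kf xf9 yf51 zf34) (kf xf18 yf44 zf5) (kf xf19 yf46 zf39) (kf xf25 yf49 zf49) (kf xf19 yf53 zf57) (kf xf15 yf15 zf40) (kf xf24 yf54 zf16) (kf xf10 yf37 zf26) (kf xf18 yf3 zf16) (kf xf18 yf3 zf15) (kf xf16 yf39 zf20)) (@D3.rec (fun _ => Pt) (kf xf16 yf39 zf21) (kf xf16 yf39 zf22) (kf xf16 yf38 zf4) (kf xf26 yf7 zf57) (kf xf27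 yf44 zf52) (kf xf17 yf39 zf45) (kf xf9 yf51 zf45) (kf xf19 yf55 zf2) (kf xf19 yf55 zf3) (kf xf20 yf24 zf38) (kf xf16 yf10 zf55) (kf xf19 yf55 zf35) (kf xf26 yf47 zf4) (kf xf26 yf47 zf5) (kf xf25 yf42 zf29) (kf xf18 yf2 zf60) (kf xf18 yf2 zf59) (kf xf9 yf51 zf51) (kf xf9 yf52 zf30) (kf xf9 yf52 zf39) (kf xf9 yf53 zf4) (kf xf9 yf53 zf5) (kf xf9 yf53 zf6) (kf xf9 yf53 zf7) (kf xf9 yf52 zf45) (kf xf9 yf52 zf46) (kf xf9 yf52 zf47) (kf xf9 yf52 zf48) (kf xf16 yf17 zf59) (kf xf26 yf14 zf32) (kf xf9 yf53 zf46) (kf xf9 yf53 zf47) (kf xf9 yf53 zf48) (kf xf18 yf6 zf31) (kf xf27 yf45 zf10) (kf xf9 yf53 zf34) (kf xf9 yf53 zf33) (kf xf18 yf6 zf29) (kf xf9 yf51 zf61) (kf xf9 yf53 zf37) (kf xf15 yf11 zf50) (kf xf9 yf54 zf7) (kf xf9 yf54 zf8) (kf xf9 yf54 zf9) (kf xf9 yf54 zf10) (kf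 xf27 yf45 zf23) (kf xf27 yf45 zf24) (kf xf27 yf45 zf26) (kf xf9 yf52 zf4) (kf xf9 yf53 zf58) (kf xf9 yf53 zf59) (kf xf9 yf53 zf60) (kf xf9 yf54 zf0) (kf xf27 yf45 zf34) (kf xf27 yf30 zf40) (kf xf9 yf52 zf7) (kf xf9 yf52 zf10) (kf xf9 yf52 zf9) (kf xf27 yf45 zf38) (kf xf27 yf45 zf39) (kf xf9 yf52 zf8) (kf xf26 yf21 zf11)) (@D3.rec (fun _ => Pt) (kf xf15 yf14 zf14) (kf xf26 yf15 zf0) (kf xf18 yf7 zf24) (kf xf18 yf8 zf23) (kf xf18 yf8 zf21) (kf xf18 yf8 zf22) (kf xf18 yf8 zf0) (kf xf15 yf12 zf20) (kf xf9 yf54 zf35) (kf xf9 yf54 zf33) (kf xf26 yf14 zf20) (kf xf9 yf54 zf40) (kf xf9 yf54 zf39) (kf xf9 yf52 zf15) (kf xf15 yf12 zf28) (kf xf18 yf46 zf5) (kf xf18 yf31 zf57) (kf xf9 yf52 zf18) (kf xf10 yf24 zf31) (kf xf22 yf57 zf55) (kf xf22 yf57 zf52) (kf xf25 yf23 zf54) (kf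 xf10 yf26 zf8) (kf xf10 yf53 zf30) (kf xf9 yf52 zf23) (kf xf18 yf26 zf27) (kf xf25 yf3 zf37) (kf xf24 yf45 zf34) (kf xf25 yf3 zf38) (kf xf23 yf37 zf57) (kf xf9 yf52 zf28) (kf xf27 yf44 zf61) (kf xf20 yf4 zf15) (kf xf27 yf27 zf1) (kf xf18 yf6 zf60) (kf xf27 yf31 zf1) (kf xf16 yf17 zf9) (kf xf18 yf31 zf55) (kf xf18 yf31 zf54) (kf xf25 yf0 zf51) (kf xf9 yf52 zf32) (kf xf18 yf31 zf59) (kf xf18 yf31 zf60) (kf xf18 yf31 zf58) (kf xf18 yf31 zf50) (kf xf18 yf31 zf51) (kf xf18 yf31 zf52) (kf xf18 yf7 zf0) (kf xf18 yf27 zf37) (kf xf26 yf15 zf1) (kf xf18 yf27 zf38) (kf xf26 yf18 zf45) (kf xf27 yf30 zf3) (kf xf23 yf4 zf40) (kf xf25 yf0 zf42) (kf xf9 yf52 zf41) (kf xf18 yf45 zf44) (kf xf19 yf15 zf21) (kf xf18 yf6 zf0) (kf xf27 yf46 zf26) (kf xf27 yf45 zf5) (kf xf18 yf53 zf22)) (@D3.rec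 (fun _ => Pt) (kf xf18 yf6 zf1) (kf xf19 yf15 zf15) (kf xf27 yf45 zf7) (kf xf23 yf50 zf48) (kf xf21 yf52 zf18) (kf xf21 yf52 zf17) (kf xf21 yf41 zf54) (kf xf26 yf14 zf31) (kf xf14 yf1 zf16) (kf xf9 yf52 zf49) (kf xf12 yf50 zf10) (kf xf23 yf36 zf58) (kf xf18 yf27 zf11) (kf xf18 yf32 zf41) (kf xf18 yf27 zf16) (kf xf27 yf12 zf25) (kf xf9 yf52 zf58) (kf xf18 yf45 zf23) (kf xf18 yf45 zf24) (kf xf18 yf45 zf25) (kf xf16 yf15 zf4) (kf xf27 yf45 zf0) (kf xf18 yf6 zf26) (kf xf18 yf27 zf26) (kf xf18 yf6 zf27) (kf xf27 yf46 zf41) (kf xf27 yf45 zf2) (kf xf26 yf20 zf59) (kf xf27 yf45 zf3) (kf xf27 yf45 zf4) (kf xf17 yf37 zf25) (kf xf27 yf10 zf21) (kf xf9 yf53 zf8) (kf xf18 yf26 zf56) (kf xf10 yf16 zf2) (kf xf17 yf52 zf50) (kf xf9 yf55 zf24) (kf xf18 yf33 zf54) (kf xf19 yf57 zf14)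 (kf xf19 yf57 zf12) (kf xf19 yf57 zf11) (kf xf25 yf15 zf24) (kf xf19 yf57 zf15) (kf xf19 yf57 zf16) (kf xf19 yf57 zf17) (kf xf19 yf57 zf18) (kf xf27 yf46 zf61) (kf xf10 yf25 zf50) (kf xf10 yf25 zf51) (kf xf10 yf25 zf52) (kf xf18 yf34 zf41) (kf xf25 yf23 zf56) (kf xf10 yf29 zf20) (kf xf10 yf29 zf21) (kf xf15 yf14 zf22) (kf xf15 yf14 zf26) (kf xf18 yf46 zf45) (kf xf18 yf56 zf54) (kf xf18 yf28 zf2) (kf xf27 yf26 zf27) (kf xf18 yf54 zf22) (kf xf13 yf18 zf36)) (@D3.rec (fun _ => Pt) (kf xf18 yf4 zf58) (kf xf18 yf5 zf0) (kf xf14 yf14 zf30) (kf xf14 yf14 zf31) (kf xf14 yf14 zf32) (kf xf14 yf4 zf31) (kf xf24 yf43 zf10) (kf xf12 yf35 zf53) (kf xf9 yf53 zf32) (kf xf26 yf19 zf53) (kf xf27 yf45 zf11) (kf xf24 yf40 zf57) (kf xf24 yf40 zf56) (kf xf17 yf39 zf54) (kf xf27 yf45 zf12)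 (kf xf18 yf40 zf30) (kf xf27 yf47 zf23) (kf xf9 yf53 zf35) (kf xf27 yf45 zf13) (kf xf19 yf54 zf8) (kf xf18 yf28 zf50) (kf xf18 yf35 zf8) (kf xf26 yf20 zf55) (kf xf15 yf5 zf61) (kf xf9 yf59 zf46) (kf xf21 yf42 zf0) (kf xf18 yf5 zf22) (kf xf18 yf5 zf24) (kf xf27 yf45 zf9) (kf xf18 yf3 zf37) (kf xf16 yf17 zf21) (kf xf18 yf3 zf33) (kf xf9 yf53 zf50) (kf xf27 yf26 zf26) (kf xf18 yf27 zf13) (kf xf26 yf20 zf49) (kf xf18 yf27 zf12) (kf xf18 yf35 zf44) (kf xf16 yf33 zf8) (kf xf18 yf28 zf34) (kf xf17 yf44 zf26) (kf xf24 yf58 zf50) (kf xf27 yf45 zf27) (kf xf27 yf45 zf28) (kf xf27 yf45 zf29) (kf xf18 yf28 zf55) (kf xf26 yf16 zf36) (kf xf27 yf45 zf30) (kf xf27 yf45 zf31) (kf xf24 yf48 zf2) (kf xf24 yf45 zf33) (kf xf26 yf13 zf46) (kf xf18 yf34 zf51) (kf xf24 yf48 zf3) (kf xf27 yf47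 zf54) (kf xf24 yf45 zf12) (kf xf24 yf40 zf46) (kf xf26 yf12 zf18) (kf xf16 yf18 zf48) (kf xf9 yf54 zf1) (kf xf18 yf4 zf34) (kf xf17 yf39 zf4)) (@D3.rec (fun _ => Pt) (kf xf18 yf4 zf47) (kf xf24 yf45 zf16) (kf xf23 yf22 zf61) (kf xf26 yf14 zf16) (kf xf23 yf22 zf12) (kf xf9 yf54 zf4) (kf xf27 yf45 zf25) (kf xf18 yf9 zf61) (kf xf24 yf42 zf18) (kf xf9 yf54 zf5) (kf xf24 yf46 zf53) (kf xf27 yf45 zf14) (kf xf27 yf45 zf15) (kf xf12 yf19 zf22) (kf xf27 yf45 zf16) (kf xf12 yf19 zf16) (kf xf18 yf29 zf9) (kf xf27 yf45 zf17) (kf xf26 yf12 zf45) (kf xf27 yf45 zf19) (kf xf27 yf31 zf40) (kf xf27 yf45 zf20) (kf xf27 yf48 zf1) (kf xf26 yf12 zf37) (kf xf18 yf4 zf2) (kf xf9 yf54 zf11) (kf xf16 yf16 zf19) (kf xf27 yf31 zf28) (kf xf9 yf54 zf12) (kf xf9 yf54 zf26) (kf xf18 yf29 zf14) (kf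 xf9 yf54 zf22) (kf xf9 yf54 zf24) (kf xf21 yf26 zf11) (kf xf19 yf1 zf58) (kf xf24 yf18 zf30) (kf xf10 yf27 zf12) (kf xf27 yf48 zf9) (kf xf21 yf1 zf4) (kf xf25 yf23 zf8) (kf xf21 yf31 zf53) (kf xf9 yf54 zf19) (kf xf9 yf54 zf20) (kf xf22 yf36 zf26) (kf xf27 yf47 zf0) (kf xf19 yf1 zf59) (kf xf22 yf36 zf16) (kf xf25 yf23 zf6) (kf xf22 yf8 zf18) (kf xf22 yf36 zf25) (kf xf22 yf36 zf27) (kf xf9 yf54 zf28) (kf xf9 yf54 zf27) (kf xf22 yf27 zf54) (kf xf12 yf19 zf21) (kf xf19 yf26 zf45) (kf xf21 yf58 zf16) (kf xf27 yf48 zf15) (kf xf19 yf26 zf43) (kf xf27 yf48 zf21) (kf xf19 yf26 zf50) (kf xf19 yf26 zf48)) (@D3.rec (fun _ => Pt) (kf xf18 yf4 zf6) (kf xf15 yf35 zf42) (kf xf9 yf54 zf29) (kf xf22 yf27 zf55) (kf xf9 yf54 zf30) (kf xf21 yf37 zf3) (kf xf18 yf29 zf54) (kf xf18 yf29 zf55)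 (kf xf18 yf29 zf56) (kf xf27 yf45 zf49) (kf xf27 yf45 zf50) (kf xf26 yf14 zf19) (kf xf26 yf14 zf18) (kf xf26 yf14 zf17) (kf xf21 yf37 zf32) (kf xf27 yf45 zf48) (kf xf27 yf3 zf58) (kf xf27 yf45 zf52) (kf xf27 yf45 zf51) (kf xf27 yf48 zf36) (kf xf9 yf54 zf36) (kf xf18 yf4 zf4) (kf xf18 yf4 zf5) (kf xf18 yf4 zf3) (kf xf18 yf8 zf37) (kf xf18 yf8 zf36) (kf xf25 yf3 zf24) (kf xf9 yf54 zf38) (kf xf27 yf26 zf24) (kf xf22 yf8 zf41) (kf xf27 yf45 zf55) (kf xf26 yf12 zf22) (kf xf22 yf8 zf42) (kf xf27 yf45 zf54) (kf xf27 yf26 zf44) (kf xf9 yf54 zf42) (kf xf18 yf8 zf25) (kf xf18 yf8 zf24) (kf xf27 yf48 zf52) (kf xf18 yf30 zf11) (kf xf18 yf30 zf12) (kf xf25 yf10 zf49) (kf xf18 yf30 zf14) (kf xf18 yf30 zf15) (kf xf18 yf30 zf18) (kf xf18 yf30 zf19) (kf xf18 yf30 zf20) (kf xf19 yf5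 zf13) (kf xf18 yf30 zf21) (kf xf18 yf30 zf22) (kf xf24 yf45 zf29) (kf xf18 yf30 zf23) (kf xf18 yf30 zf28) (kf xf11 yf23 zf22) (kf xf18 yf32 zf47) (kf xf18 yf32 zf48) (kf xf27 yf49 zf16) (kf xf18 yf32 zf53) (kf xf18 yf32 zf52) (kf xf27 yf49 zf21) (kf xf9 yf54 zf53) (kf xf18 yf32 zf56)) (@D3.rec (fun _ => Pt) (kf xf17 yf49 zf56) (kf xf18 yf32 zf9) (kf xf10 yf20 zf5) (kf xf18 yf16 zf49) (kf xf18 yf32 zf50) (kf xf18 yf10 zf50) (kf xf27 yf49 zf31) (kf xf13 yf30 zf5) (kf xf10 yf20 zf20) (kf xf15 yf38 zf51) (kf xf9 yf54 zf60) (kf xf9 yf56 zf28) (kf xf18 yf32 zf57) (kf xf18 yf32 zf58) (kf xf24 yf57 zf19) (kf xf24 yf57 zf18) (kf xf9 yf55 zf3) (kf xf16 yf21 zf44) (kf xf26 yf19 zf48) (kf xf27 yf49 zf45) (kf xf9 yf55 zf6) (kf xf18 yf33 zf1) (kf xf18 yf33 zf2) (kf xf18 yf13 zf13)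 (kf xf27 yf49 zf52) (kf xf18 yf33 zf4) (kf xf18 yf13 zf14) (kf xf27 yf49 zf55) (kf xf18 yf33 zf6) (kf xf27 yf29 zf35) (kf xf18 yf33 zf8) (kf xf18 yf33 zf9) (kf xf15 yf50 zf47) (kf xf27 yf50 zf1) (kf xf27 yf29 zf45) (kf xf27 yf29 zf46) (kf xf27 yf29 zf47) (kf xf27 yf32 zf13) (kf xf27 yf32 zf12) (kf xf18 yf13 zf12) (kf xf9 yf55 zf12) (kf xf27 yf32 zf15) (kf xf18 yf14 zf56) (kf xf27 yf32 zf14) (kf xf18 yf14 zf57) (kf xf18 yf31 zf39) (kf xf27 yf32 zf18) (kf xf27 yf32 zf17) (kf xf10 yf12 zf41) (kf xf9 yf55 zf15) (kf xf10 yf27 zf52) (kf xf25 yf45 zf17) (kf xf18 yf32 zf40) (kf xf18 yf31 zf46) (kf xf25 yf45 zf19) (kf xf18 yf32 zf38) (kf xf18 yf31 zf49) (kf xf18 yf26 zf40) (kf xf18 yf26 zf41) (kf xf18 yf26 zf42) (kf xf18 yf26 zf34) (kf xf18 yf7 zf7)) (@D3.rec (fun _ => Pt) (kf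 xf18 yf26 zf39) (kf xf18 yf26 zf37) (kf xf18 yf26 zf38) (kf xf18 yf32 zf10) (kf xf18 yf32 zf11) (kf xf18 yf33 zf51) (kf xf18 yf32 zf13) (kf xf18 yf32 zf14) (kf xf18 yf32 zf44) (kf xf27 yf20 zf17) (kf xf27 yf50 zf36) (kf xf27 yf50 zf35) (kf xf9 yf55 zf31) (kf xf18 yf32 zf7) (kf xf18 yf30 zf59) (kf xf18 yf20 zf33) (kf xf18 yf20 zf32) (kf xf18 yf31 zf61) (kf xf18 yf32 zf42) (kf xf18 yf32 zf1) (kf xf18 yf33 zf52) (kf xf18 yf32 zf15) (kf xf18 yf33 zf53) (kf xf18 yf20 zf37) (kf xf10 yf38 zf48) (kf xf27 yf36 zf9) (kf xf27 yf20 zf36) (kf xf20 yf38 zf10) (kf xf9 yf55 zf51) (kf xf17 yf59 zf12) (kf xf18 yf1 zf13) (kf xf18 yf20 zf25) (kf xf18 yf20 zf60) (kf xf18 yf20 zf26) (kf xf18 yf20 zf27) (kf xf10 yf55 zf49) (kf xf18 yf20 zf14) (kf xf18 yf20 zf15) (kf xf18 yf20 zf17) (kf xf14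 yf12 zf23) (kf xf18 yf33 zf35) (kf xf18 yf21 zf51) (kf xf17 yf47 zf41) (kf xf17 yf47 zf46) (kf xf22 yf50 zf59) (kf xf18 yf33 zf44) (kf xf18 yf33 zf39) (kf xf18 yf33 zf40) (kf xf26 yf15 zf6) (kf xf18 yf33 zf42) (kf xf18 yf9 zf5) (kf xf27 yf51 zf2) (kf xf9 yf57 zf5) (kf xf27 yf51 zf3) (kf xf9 yf56 zf6) (kf xf18 yf33 zf46) (kf xf17 yf2 zf21) (kf xf16 yf7 zf42) (kf xf27 yf29 zf43) (kf xf27 yf29 zf44) (kf xf27 yf6 zf5) (kf xf27 yf6 zf6)) (@D3.rec (fun _ => Pt) (kf xf18 yf24 zf22) (kf xf18 yf22 zf38) (kf xf11 yf12 zf38) (kf xf18 yf22 zf34) (kf xf17 yf51 zf59) (kf xf18 yf20 zf28) (kf xf18 yf20 zf61) (kf xf18 yf20 zf58) (kf xf18 yf27 zf15) (kf xf18 yf32 zf12) (kf xf18 yf32 zf45) (kf xf18 yf32 zf2) (kf xf18 yf32 zf43) (kf xf18 yf32 zf46) (kf xf15 yf0 zf48) (kf xf15 yf0 zf49)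 (kf xf15 yf0 zf50) (kf xf15 yf0 zf51) (kf xf17 yf47 zf49) (kf xf27 yf51 zf37) (kf xf17 yf47 zf60) (kf xf18 yf30 zf36) (kf xf18 yf30 zf37) (kf xf18 yf30 zf38) (kf xf18 yf30 zf39) (kf xf27 yf49 zf37) (kf xf24 yf38 zf57) (kf xf27 yf49 zf38) (kf xf18 yf30 zf48) (kf xf18 yf30 zf49) (kf xf18 yf30 zf50) (kf xf18 yf30 zf51) (kf xf27 yf52 zf2) (kf xf10 yf27 zf57) (kf xf18 yf33 zf24) (kf xf18 yf30 zf61) (kf xf18 yf31 zf0) (kf xf18 yf31 zf1) (kf xf18 yf31 zf2) (kf xf27 yf52 zf15) (kf xf27 yf52 zf19) (kf xf18 yf30 zf55) (kf xf18 yf30 zf54) (kf xf27 yf32 zf57) (kf xf9 yf56 zf34) (kf xf18 yf30 zf58) (kf xf17 yf48 zf20) (kf xf18 yf31 zf7) (kf xf18 yf31 zf8) (kf xf18 yf31 zf9) (kf xf18 yf14 zf45) (kf xf18 yf33 zf18) (kf xf25 yf48 zf12) (kf xf18 yf33 zf19) (kf xf18 yf31 zf12) (kf xf18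 yf31 zf13) (kf xf18 yf31 zf14) (kf xf18 yf14 zf47) (kf xf27 yf52 zf46) (kf xf25 yf48 zf5) (kf xf18 yf13 zf31) (kf xf9 yf56 zf42)) (@D3.rec (fun _ => Pt) (kf xf18 yf31 zf17) (kf xf18 yf31 zf18) (kf xf18 yf14 zf38) (kf xf18 yf33 zf11) (kf xf18 yf31 zf20) (kf xf18 yf14 zf39) (kf xf22 yf51 zf55) (kf xf18 yf31 zf22) (kf xf18 yf14 zf51) (kf xf18 yf31 zf23) (kf xf18 yf31 zf24) (kf xf18 yf31 zf25) (kf xf27 yf52 zf61) (kf xf18 yf33 zf3) (kf xf18 yf14 zf23) (kf xf9 yf56 zf47) (kf xf27 yf51 zf53) (kf xf27 yf51 zf52) (kf xf27 yf53 zf8) (kf xf9 yf56 zf48) (kf xf18 yf32 zf59) (kf xf18 yf32 zf60) (kf xf27 yf51 zf56) (kf xf27 yf51 zf55) (kf xf15 yf37 zf3) (kf xf9 yf56 zf50) (kf xf17 yf51 zf5) (kf xf17 yf51 zf6) (kf xf16 yf42 zf0) (kf xf15 yf36 zf33) (kf xf19 yf57 zf4) (kf xf25 yf16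 zf59) (kf xf25 yf16 zf57) (kf xf21 yf27 zf34) (kf xf22 yf9 zf55) (kf xf18 yf33 zf48) (kf xf18 yf32 zf17) (kf xf18 yf32 zf18) (kf xf18 yf32 zf19) (kf xf18 yf32 zf20) (kf xf18 yf33 zf49) (kf xf18 yf33 zf50) (kf xf18 yf1 zf14) (kf xf18 yf32 zf24) (kf xf18 yf32 zf25) (kf xf18 yf32 zf26) (kf xf27 yf53 zf27) (kf xf18 yf32 zf22) (kf xf9 yf57 zf3) (kf xf18 yf32 zf31) (kf xf21 yf42 zf5) (kf xf17 yf52 zf12) (kf xf18 yf32 zf35) (kf xf17 yf9 zf47) (kf xf26 yf46 zf38) (kf xf21 yf42 zf4) (kf xf21 yf20 zf48) (kf xf9 yf57 zf9) (kf xf18 yf33 zf36) (kf xf18 yf33 zf37) (kf xf17 yf52 zf11) (kf xf18 yf21 zf35)) (@D3.rec (fun _ => Pt) (kf xf17 yf52 zf7) (kf xf10 yf55 zf48) (kf xf10 yf54 zf28) (kf xf18 yf17 zf58) (kf xf10 yf28 zf9) (kf xf10 yf28 zf10) (kf xf18 yf29 zf1) (kf xf18 yf34 zf11)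 (kf xf18 yf35 zf16) (kf xf18 yf34 zf14) (kf xf18 yf35 zf17) (kf xf18 yf35 zf19) (kf xf18 yf9 zf39) (kf xf18 yf9 zf23) (kf xf18 yf9 zf26) (kf xf18 yf35 zf20) (kf xf27 yf33 zf57) (kf xf27 yf52 zf45) (kf xf27 yf53 zf46) (kf xf17 yf45 zf56) (kf xf9 yf57 zf28) (kf xf27 yf53 zf52) (kf xf27 yf32 zf31) (kf xf27 yf33 zf53) (kf xf9 yf57 zf30) (kf xf27 yf32 zf35) (kf xf27 yf32 zf36) (kf xf9 yf58 zf28) (kf xf27 yf32 zf34) (kf xf26 yf19 zf60) (kf xf27 yf32 zf38) (kf xf18 yf11 zf60) (kf xf27 yf54 zf0) (kf xf9 yf57 zf33) (kf xf17 yf52 zf34) (kf xf27 yf32 zf43) (kf xf27 yf32 zf44) (kf xf9 yf58 zf33) (kf xf17 yf52 zf37) (kf xf10 yf20 zf57) (kf xf25 yf23 zf57) (kf xf27 yf32 zf41) (kf xf27 yf32 zf42) (kf xf27 yf37 zf55) (kf xf12 yf37 zf40) (kf xf10 yf27 zf11) (kf xf12 yf39 zf37) (kf xf17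 yf47 zf44) (kf xf18 yf34 zf49) (kf xf18 yf34 zf50) (kf xf10 yf13 zf37) (kf xf9 yf57 zf53) (kf xf9 yf57 zf52) (kf xf25 yf39 zf56) (kf xf9 yf57 zf49) (kf xf17 yf22 zf55) (kf xf17 yf59 zf29) (kf xf27 yf54 zf17) (kf xf27 yf54 zf18) (kf xf27 yf22 zf28) (kf xf18 yf49 zf50) (kf xf27 yf54 zf16)) (@D3.rec (fun _ => Pt) (kf xf26 yf6 zf5) (kf xf26 yf4 zf20) (kf xf27 yf54 zf19) (kf xf11 yf45 zf59) (kf xf27 yf0 zf60) (kf xf9 yf57 zf54) (kf xf12 yf36 zf54) (kf xf12 yf15 zf24) (kf xf18 yf35 zf3) (kf xf16 yf30 zf33) (kf xf18 yf28 zf32) (kf xf18 yf28 zf33) (kf xf15 yf21 zf52) (kf xf18 yf35 zf13) (kf xf16 yf49 zf3) (kf xf9 yf59 zf38) (kf xf9 yf59 zf54) (kf xf18 yf35 zf43) (kf xf18 yf33 zf57) (kf xf18 yf33 zf58) (kf xf18 yf33 zf59) (kf xf18 yf33 zf60) (kf xf10 yf10 zf11) (kf xf18 yf12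 zf14) (kf xf9 yf58 zf29) (kf xf10 yf10 zf5) (kf xf9 yf58 zf15) (kf xf9 yf58 zf36) (kf xf16 yf34 zf45) (kf xf16 yf34 zf46) (kf xf10 yf28 zf12) (kf xf10 yf29 zf6) (kf xf18 yf35 zf15) (kf xf18 yf34 zf12) (kf xf18 yf34 zf15) (kf xf18 yf35 zf18) (kf xf18 yf34 zf16) (kf xf26 yf3 zf60) (kf xf18 yf12 zf2) (kf xf18 yf12 zf5) (kf xf18 yf34 zf18) (kf xf27 yf54 zf60) (kf xf26 yf4 zf21) (kf xf26 yf4 zf22) (kf xf26 yf4 zf23) (kf xf18 yf11 zf50) (kf xf15 yf52 zf17) (kf xf18 yf11 zf57) (kf xf27 yf55 zf10) (kf xf27 yf54 zf41) (kf xf27 yf54 zf40) (kf xf18 yf12 zf8) (kf xf9 yf58 zf27) (kf xf27 yf53 zf57) (kf xf27 yf32 zf37) (kf xf26 yf20 zf0) (kf xf18 yf9 zf42) (kf xf18 yf9 zf44) (kf xf10 yf10 zf40) (kf xf9 yf58 zf30) (kf xf26 yf20 zf8) (kf xf10 yf21 zf5)) (@D3.rec (fun _ => Pt) (kf xf27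 yf54 zf3) (kf xf27 yf54 zf5) (kf xf27 yf32 zf45) (kf xf22 yf18 zf12) (kf xf27 yf54 zf42) (kf xf10 yf13 zf53) (kf xf18 yf34 zf47) (kf xf18 yf34 zf48) (kf xf18 yf35 zf35) (kf xf18 yf34 zf52) (kf xf18 yf35 zf36) (kf xf10 yf17 zf46) (kf xf12 yf54 zf23) (kf xf13 yf1 zf0) (kf xf16 yf59 zf51) (kf xf12 yf47 zf39) (kf xf12 yf20 zf34) (kf xf18 yf50 zf12) (kf xf26 yf4 zf17) (kf xf27 yf22 zf29) (kf xf26 yf4 zf18) (kf xf26 yf4 zf19) (kf xf9 yf59 zf57) (kf xf10 yf0 zf5) (kf xf18 yf28 zf49) (kf xf10 yf26 zf59) (kf xf22 yf28 zf54) (kf xf22 yf14 zf38) (kf xf9 yf59 zf30) (kf xf12 yf44 zf5) (kf xf12 yf42 zf61) (kf xf14 yf15 zf55) (kf xf12 yf40 zf44) (kf xf12 yf40 zf49) (kf xf12 yf27 zf55) (kf xf12 yf46 zf18) (kf xf18 yf36 zf18) (kf xf20 yf6 zf60) (kf xf18 yf1 zf32) (kf xf12 yf46 zf20)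 (kf xf18 yf35 zf46) (kf xf10 yf27 zf13) (kf xf18 yf35 zf52) (kf xf9 yf59 zf40) (kf xf9 yf59 zf39) (kf xf18 yf35 zf56) (kf xf18 yf36 zf24) (kf xf18 yf21 zf45) (kf xf23 yf21 zf53) (kf xf9 yf59 zf31) (kf xf21 yf5 zf48) (kf xf9 yf59 zf22) (kf xf15 yf6 zf2) (kf xf17 yf45 zf49) (kf xf18 yf36 zf29) (kf xf18 yf36 zf0) (kf xf27 yf55 zf50) (kf xf14 yf43 zf5) (kf xf27 yf55 zf54) (kf xf9 yf59 zf26) (kf xf18 yf22 zf16) (kf xf12 yf22 zf11)) (@D3.rec (fun _ => Pt) (kf xf17 yf31 zf14) (kf xf12 yf37 zf17) (kf xf21 yf45 zf12) (kf xf12 yf42 zf33) (kf xf13 yf14 zf38) (kf xf22 yf28 zf55) (kf xf19 yf10 zf46) (kf xf17 yf29 zf40) (kf xf18 yf36 zf38) (kf xf27 yf54 zf33) (kf xf9 yf59 zf45) (kf xf21 yf26 zf14) (kf xf20 yf9 zf30) (kf xf18 yf43 zf44) (kf xf21 yf51 zf50) (kf xf27 yf55 zf61) (kf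 xf10 yf21 zf44) (kf xf10 yf21 zf45) (kf xf10 yf42 zf22) (kf xf12 yf44 zf36) (kf xf18 yf36 zf11) (kf xf27 yf55 zf59) (kf xf19 yf48 zf57) (kf xf9 yf59 zf43) (kf xf10 yf42 zf20) (kf xf27 yf47 zf25) (kf xf27 yf55 zf58) (kf xf18 yf36 zf56) (kf xf27 yf46 zf46) (kf xf18 yf46 zf42) (kf xf25 yf3 zf43) (kf xf26 yf14 zf43) (kf xf24 yf44 zf13) (kf xf9 yf59 zf47) (kf xf21 yf1 zf3) (kf xf23 yf22 zf9) (kf xf9 yf59 zf48) (kf xf17 yf30 zf21) (kf xf17 yf30 zf23) (kf xf9 yf59 zf49) (kf xf26 yf16 zf14) (kf xf12 yf43 zf23) (kf xf11 yf6 zf29) (kf xf9 yf59 zf52) (kf xf21 yf21 zf58) (kf xf17 yf30 zf4) (kf xf12 yf43 zf57) (kf xf21 yf34 zf51) (kf xf25 yf3 zf41) (kf xf18 yf9 zf3) (kf xf18 yf58 zf21) (kf xf12 yf43 zf47) (kf xf12 yf44 zf30) (kf xf12 yf43 zf61) (kf xf10 yf0 zf0) (kf xf27 yf47 zf30)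 (kf xf27 yf56 zf13) (kf xf26 yf16 zf10) (kf xf19 yf0 zf41) (kf xf10 yf0 zf3) (kf xf21 yf21 zf57) (kf xf20 yf12 zf51)) (@D3.rec (fun _ => Pt) (kf xf10 yf0 zf4) (kf xf20 yf6 zf41) (kf xf10 yf0 zf18) (kf xf10 yf0 zf17) (kf xf18 yf50 zf42) (kf xf18 yf43 zf47) (kf xf18 yf43 zf49) (kf xf10 yf0 zf14) (kf xf18 yf43 zf29) (kf xf19 yf27 zf55) (kf xf18 yf50 zf37) (kf xf21 yf41 zf42) (kf xf27 yf43 zf3) (kf xf18 yf38 zf5) (kf xf18 yf38 zf6) (kf xf27 yf35 zf25) (kf xf18 yf38 zf7) (kf xf18 yf38 zf8) (kf xf18 yf38 zf9) (kf xf11 yf39 zf4) (kf xf18 yf38 zf11) (kf xf18 yf37 zf48) (kf xf18 yf38 zf29) (kf xf17 yf26 zf0) (kf xf27 yf56 zf25) (kf xf21 yf7 zf61) (kf xf10 yf0 zf27) (kf xf18 yf37 zf52) (kf xf17 yf8 zf42) (kf xf12 yf55 zf10) (kf xf10 yf0 zf32) (kf xf21 yf35 zf52) (kf xf10 yf0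 zf35) (kf xf18 yf38 zf31) (kf xf18 yf38 zf32) (kf xf18 yf38 zf33) (kf xf18 yf38 zf35) (kf xf12 yf28 zf30) (kf xf15 yf24 zf48) (kf xf17 yf50 zf29) (kf xf18 yf39 zf45) (kf xf18 yf39 zf44) (kf xf15 yf24 zf45) (kf xf18 yf39 zf46) (kf xf11 yf17 zf42) (kf xf18 yf1 zf5) (kf xf14 yf46 zf57) (kf xf11 yf49 zf3) (kf xf10 yf0 zf45) (kf xf15 yf24 zf55) (kf xf15 yf24 zf54) (kf xf10 yf35 zf39) (kf xf18 yf39 zf53) (kf xf18 yf39 zf54) (kf xf18 yf39 zf55) (kf xf18 yf22 zf56) (kf xf25 yf58 zf16) (kf xf23 yf21 zf17) (kf xf18 yf13 zf3) (kf xf18 yf39 zf60) (kf xf10 yf0 zf51) (kf xf18 yf27 zf43)) (@D3.rec (fun _ => Pt) (kf xf18 yf27 zf42) (kf xf18 yf39 zf57) (kf xf18 yf39 zf58) (kf xf18 yf39 zf59) (kf xf18 yf22 zf51) (kf xf16 yf50 zf42) (kf xf27 yf56 zf52) (kf xf16 yf50 zf43) (kf xf18 yf40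 zf0) (kf xf18 yf40 zf1) (kf xf18 yf40 zf2) (kf xf18 yf23 zf0) (kf xf15 yf19 zf37) (kf xf27 yf56 zf60) (kf xf24 yf45 zf20) (kf xf18 yf27 zf47) (kf xf18 yf27 zf48) (kf xf18 yf27 zf49) (kf xf11 yf52 zf48) (kf xf18 yf22 zf60) (kf xf27 yf57 zf5) (kf xf18 yf40 zf3) (kf xf27 yf57 zf6) (kf xf18 yf40 zf5) (kf xf18 yf40 zf6) (kf xf27 yf57 zf9) (kf xf18 yf40 zf8) (kf xf18 yf40 zf9) (kf xf18 yf40 zf10) (kf xf18 yf40 zf11) (kf xf23 yf35 zf9) (kf xf13 yf52 zf41) (kf xf17 yf56 zf13) (kf xf10 yf1 zf6) (kf xf18 yf40 zf58) (kf xf18 yf40 zf57) (kf xf21 yf30 zf5) (kf xf10 yf1 zf7) (kf xf26 yf6 zf32) (kf xf13 yf52 zf45) (kf xf11 yf4 zf18) (kf xf26 yf24 zf51) (kf xf10 yf1 zf10) (kf xf14 yf37 zf46) (kf xf16 yf37 zf12) (kf xf19 yf56 zf35) (kf xf19 yf54 zf20) (kf xf18 yf40 zf40) (kf xf16 yf25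 zf50) (kf xf10 yf1 zf16) (kf xf27 yf57 zf29) (kf xf18 yf40 zf35) (kf xf18 yf40 zf34) (kf xf10 yf1 zf19) (kf xf15 yf23 zf38) (kf xf27 yf57 zf38) (kf xf18 yf22 zf58) (kf xf16 yf27 zf55) (kf xf10 yf1 zf21) (kf xf13 yf47 zf41) (kf xf27 yf57 zf45) (kf xf18 yf22 zf54)) (@D3.rec (fun _ => Pt) (kf xf18 yf22 zf53) (kf xf10 yf1 zf26) (kf xf15 yf13 zf16) (kf xf18 yf22 zf42) (kf xf27 yf57 zf51) (kf xf18 yf22 zf44) (kf xf27 yf57 zf53) (kf xf18 yf40 zf44) (kf xf17 yf25 zf55) (kf xf27 yf57 zf58) (kf xf19 yf1 zf32) (kf xf19 yf1 zf33) (kf xf10 yf1 zf32) (kf xf18 yf40 zf54) (kf xf18 yf40 zf55) (kf xf14 yf39 zf17) (kf xf27 yf58 zf1) (kf xf18 yf40 zf17) (kf xf18 yf40 zf16) (kf xf27 yf58 zf9) (kf xf10 yf1 zf34) (kf xf20 yf32 zf40) (kf xf26 yf7 zf20) (kf xf16 yf23 zf26) (kf xf23 yf16 zf21)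 (kf xf19 yf1 zf46) (kf xf23 yf9 zf17) (kf xf18 yf39 zf7) (kf xf18 yf39 zf51) (kf xf10 yf1 zf38) (kf xf18 yf41 zf7) (kf xf18 yf41 zf8) (kf xf27 yf58 zf20) (kf xf18 yf41 zf16) (kf xf18 yf41 zf15) (kf xf18 yf59 zf40) (kf xf10 yf1 zf41) (kf xf18 yf41 zf19) (kf xf18 yf39 zf8) (kf xf18 yf41 zf10) (kf xf18 yf41 zf11) (kf xf18 yf41 zf12) (kf xf18 yf41 zf13) (kf xf19 yf1 zf2) (kf xf20 yf34 zf48) (kf xf10 yf7 zf55) (kf xf19 yf1 zf3) (kf xf16 yf26 zf5) (kf xf18 yf41 zf21) (kf xf18 yf41 zf22) (kf xf18 yf59 zf19) (kf xf10 yf1 zf50) (kf xf19 yf0 zf58) (kf xf16 yf33 zf22) (kf xf19 yf0 zf59) (kf xf23 yf6 zf22) (kf xf18 yf41 zf30) (kf xf27 yf58 zf40) (kf xf16 yf21 zf4) (kf xf24 yf54 zf40) (kf xf26 yf18 zf21) (kf xf27 yf58 zf44)) (@D3.rec (fun _ => Pt) (kf xf12 yf21 zf61) (kf xf26 yf32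 zf21) (kf xf18 yf49 zf40) (kf xf25 yf3 zf13) (kf xf18 yf49 zf41) (kf xf18 yf38 zf60) (kf xf13 yf49 zf32) (kf xf19 yf1 zf27) (kf xf23 yf32 zf4) (kf xf10 yf2 zf0) (kf xf10 yf10 zf10) (kf xf23 yf31 zf33) (kf xf18 yf59 zf61) (kf xf26 yf1 zf0) (kf xf18 yf10 zf36) (kf xf18 yf10 zf37) (kf xf10 yf40 zf43) (kf xf18 yf10 zf38) (kf xf10 yf40 zf41) (kf xf27 yf59 zf5) (kf xf18 yf53 zf5) (kf xf18 yf47 zf57) (kf xf10 yf2 zf8) (kf xf18 yf53 zf8) (kf xf18 yf38 zf37) (kf xf18 yf10 zf31) (kf xf18 yf10 zf33) (kf xf18 yf10 zf34) (kf xf18 yf11 zf5) (kf xf17 yf49 zf6) (kf xf19 yf57 zf26) (kf xf19 yf57 zf27) (kf xf18 yf10 zf16) (kf xf18 yf10 zf15) (kf xf10 yf20 zf1) (kf xf10 yf31 zf60) (kf xf10 yf40 zf44) (kf xf18 yf10 zf23) (kf xf10 yf31 zf36) (kf xf27 yf59 zf18) (kf xf22 yf51 zf61) (kf xf18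 yf41 zf50) (kf xf10 yf2 zf26) (kf xf18 yf41 zf44) (kf xf18 yf41 zf48) (kf xf12 yf46 zf11) (kf xf27 yf37 zf46) (kf xf10 yf3 zf43) (kf xf10 yf2 zf32) (kf xf10 yf2 zf31) (kf xf21 yf31 zf12) (kf xf10 yf2 zf30) (kf xf16 yf8 zf0) (kf xf27 yf59 zf23) (kf xf27 yf37 zf50) (kf xf27 yf59 zf22) (kf xf12 yf0 zf35) (kf xf18 yf39 zf29) (kf xf18 yf11 zf7) (kf xf18 yf39 zf30) (kf xf18 yf10 zf32) (kf xf18 yf11 zf6)) (@D3.rec (fun _ => Pt) (kf xf10 yf41 zf6) (kf xf18 yf39 zf31) (kf xf17 yf33 zf30) (kf xf12 yf30 zf19) (kf xf18 yf23 zf25) (kf xf11 yf57 zf51) (kf xf11 yf14 zf48) (kf xf18 yf22 zf46) (kf xf27 yf9 zf51) (kf xf18 yf23 zf7) (kf xf11 yf26 zf10) (kf xf10 yf2 zf54) (kf xf18 yf42 zf1) (kf xf21 yf39 zf57) (kf xf17 yf22 zf27) (kf xf17 yf25 zf27) (kf xf18 yf42 zf5) (kf xf27 yf59 zf46)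 (kf xf26 yf57 zf60) (kf xf26 yf57 zf59) (kf xf27 yf59 zf52) (kf xf10 yf2 zf57) (kf xf21 yf15 zf46) (kf xf24 yf7 zf5) (kf xf16 yf55 zf52) (kf xf24 yf7 zf4) (kf xf26 yf57 zf61) (kf xf16 yf43 zf35) (kf xf18 yf39 zf41) (kf xf16 yf57 zf14) (kf xf19 yf59 zf17) (kf xf11 yf13 zf55) (kf xf11 yf35 zf35) (kf xf17 yf18 zf41) (kf xf27 yf59 zf59) (kf xf18 yf12 zf61) (kf xf10 yf3 zf5) (kf xf15 yf16 zf34) (kf xf15 yf16 zf33) (kf xf10 yf30 zf16) (kf xf10 yf30 zf11) (kf xf18 yf38 zf43) (kf xf13 yf39 zf26) (kf xf20 yf20 zf54) (kf xf13 yf9 zf50) (kf xf18 yf15 zf47) (kf xf13 yf29 zf45) (kf xf16 yf20 zf57) (kf xf16 yf20 zf53) (kf xf12 yf6 zf38) (kf xf12 yf6 zf36) (kf xf18 yf10 zf41) (kf xf17 yf45 zf48) (kf xf20 yf8 zf14) (kf xf18 yf38 zf46) (kf xf28 yf0 zf5) (kf xf18 yf41 zf29) (kf xf24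 yf9 zf43) (kf xf10 yf3 zf22) (kf xf16 yf19 zf27) (kf xf28 yf0 zf11) (kf xf10 yf3 zf23)) (@D3.rec (fun _ => Pt) (kf xf18 yf41 zf23) (kf xf18 yf41 zf25) (kf xf19 yf0 zf61) (kf xf19 yf0 zf60) (kf xf28 yf0 zf18) (kf xf10 yf3 zf25) (kf xf16 yf40 zf1) (kf xf16 yf40 zf2) (kf xf18 yf53 zf49) (kf xf19 yf1 zf5) (kf xf19 yf1 zf4) (kf xf16 yf41 zf61) (kf xf19 yf40 zf45) (kf xf12 yf54 zf13) (kf xf26 yf39 zf13) (kf xf18 yf39 zf10) (kf xf18 yf15 zf60) (kf xf18 yf39 zf12) (kf xf18 yf39 zf13) (kf xf16 yf53 zf43) (kf xf18 yf41 zf40) (kf xf18 yf41 zf43) (kf xf17 yf30 zf43) (kf xf10 yf19 zf34) (kf xf10 yf20 zf40) (kf xf10 yf32 zf8) (kf xf18 yf41 zf56) (kf xf18 yf41 zf55) (kf xf12 yf54 zf17) (kf xf12 yf54 zf9) (kf xf13 yf0 zf50) (kf xf11 yf33 zf50) (kf xf17 yf6 zf16) (kf xf21 yf39 zf54)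 (kf xf18 yf11 zf3) (kf xf18 yf58 zf3) (kf xf17 yf6 zf41) (kf xf10 yf3 zf60) (kf xf18 yf11 zf1) (kf xf12 yf32 zf28) (kf xf11 yf59 zf5) (kf xf18 yf43 zf2) (kf xf18 yf19 zf3) (kf xf28 yf0 zf27) (kf xf18 yf19 zf5) (kf xf28 yf0 zf29) (kf xf18 yf21 zf7) (kf xf18 yf49 zf35) (kf xf23 yf13 zf55) (kf xf26 yf26 zf29) (kf xf10 yf4 zf10) (kf xf18 yf18 zf4) (kf xf28 yf0 zf31) (kf xf18 yf19 zf0) (kf xf18 yf18 zf61) (kf xf10 yf4 zf12) (kf xf18 yf17 zf55) (kf xf28 yf0 zf35) (kf xf18 yf18 zf56) (kf xf10 yf4 zf14) (kf xf18 yf18 zf19) (kf xf23 yf46 zf56)) (@D3.rec (fun _ => Pt) (kf xf18 yf18 zf11) (kf xf28 yf0 zf39) (kf xf12 yf48 zf19) (kf xf18 yf42 zf30) (kf xf23 yf11 zf40) (kf xf10 yf4 zf18) (kf xf26 yf22 zf51) (kf xf18 yf21 zf9) (kf xf18 yf42 zf49) (kf xf18 yf59 zf20) (kf xf26 yf57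 zf58) (kf xf28 yf0 zf45) (kf xf10 yf4 zf23) (kf xf21 yf2 zf46) (kf xf22 yf6 zf53) (kf xf21 yf4 zf1) (kf xf17 yf9 zf32) (kf xf14 yf20 zf10) (kf xf15 yf26 zf58) (kf xf11 yf35 zf4) (kf xf10 yf4 zf32) (kf xf11 yf21 zf51) (kf xf17 yf13 zf16) (kf xf17 yf13 zf17) (kf xf18 yf42 zf56) (kf xf18 yf21 zf4) (kf xf23 yf30 zf41) (kf xf15 yf5 zf16) (kf xf10 yf4 zf47) (kf xf11 yf57 zf60) (kf xf11 yf58 zf40) (kf xf27 yf11 zf59) (kf xf20 yf28 zf3) (kf xf18 yf43 zf24) (kf xf12 yf15 zf22) (kf xf12 yf44 zf8) (kf xf11 yf8 zf32) (kf xf11 yf8 zf31) (kf xf20 yf22 zf27) (kf xf18 yf42 zf61) (kf xf20 yf18 zf33) (kf xf11 yf30 zf43) (kf xf18 yf43 zf1) (kf xf24 yf31 zf11) (kf xf17 yf2 zf26) (kf xf28 yf0 zf52) (kf xf15 yf23 zf43) (kf xf20 yf32 zf38) (kf xf18 yf43 zf5) (kf xf18 yf43 zf6) (kf xf15 yf13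 zf38) (kf xf18 yf43 zf7) (kf xf23 yf32 zf33) (kf xf28 yf0 zf51) (kf xf28 yf0 zf50) (kf xf10 yf5 zf8) (kf xf18 yf43 zf10) (kf xf18 yf43 zf13) (kf xf11 yf32 zf58) (kf xf10 yf5 zf42) (kf xf10 yf5 zf51) (kf xf18 yf43 zf20)) (@D3.rec (fun _ => Pt) (kf xf10 yf7 zf0) (kf xf10 yf5 zf49) (kf xf21 yf20 zf52) (kf xf21 yf58 zf0) (kf xf11 yf26 zf54) (kf xf16 yf10 zf33) (kf xf18 yf36 zf44) (kf xf18 yf43 zf15) (kf xf27 yf36 zf27) (kf xf10 yf5 zf27) (kf xf28 yf0 zf60) (kf xf20 yf33 zf4) (kf xf10 yf5 zf32) (kf xf13 yf2 zf17) (kf xf17 yf3 zf50) (kf xf17 yf3 zf51) (kf xf17 yf2 zf22) (kf xf18 yf37 zf10) (kf xf21 yf26 zf51) (kf xf18 yf37 zf36) (kf xf10 yf5 zf35) (kf xf21 yf20 zf50) (kf xf18 yf11 zf0) (kf xf10 yf5 zf37) (kf xf17 yf15 zf50) (kf xf20 yf51 zf49) (kf xf28 yf1 zf4) (kf xf10 yf5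 zf40) (kf xf17 yf2 zf53) (kf xf19 yf0 zf1) (kf xf14 yf27 zf4) (kf xf22 yf11 zf33) (kf xf12 yf31 zf37) (kf xf10 yf5 zf46) (kf xf21 yf51 zf37) (kf xf10 yf5 zf48) (kf xf21 yf41 zf49) (kf xf12 yf44 zf22) (kf xf12 yf43 zf31) (kf xf10 yf6 zf14) (kf xf22 yf3 zf20) (kf xf10 yf5 zf54) (kf xf10 yf6 zf23) (kf xf26 yf59 zf7) (kf xf10 yf6 zf20) (kf xf19 yf27 zf54) (kf xf12 yf42 zf42) (kf xf18 yf25 zf35) (kf xf10 yf6 zf30) (kf xf10 yf6 zf29) (kf xf28 yf1 zf11) (kf xf17 yf56 zf37) (kf xf23 yf38 zf9) (kf xf17 yf0 zf0) (kf xf17 yf0 zf1) (kf xf26 yf59 zf37) (kf xf18 yf43 zf37) (kf xf12 yf32 zf1) (kf xf10 yf6 zf3) (kf xf20 yf23 zf17) (kf xf20 yf23 zf18) (kf xf20 yf23 zf19)) (@D3.rec (fun _ => Pt) (kf xf21 yf47 zf25) (kf xf12 yf15 zf10) (kf xf25 yf39 zf25) (kf xf28 yf1 zf8) (kf xf23 yf47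 zf54) (kf xf10 yf6 zf8) (kf xf25 yf23 zf50) (kf xf20 yf1 zf8) (kf xf11 yf31 zf22) (kf xf18 yf43 zf40) (kf xf18 yf43 zf41) (kf xf19 yf58 zf32) (kf xf14 yf26 zf43) (kf xf20 yf40 zf46) (kf xf15 yf27 zf5) (kf xf14 yf33 zf10) (kf xf10 yf6 zf13) (kf xf22 yf3 zf19) (kf xf15 yf5 zf34) (kf xf21 yf30 zf26) (kf xf27 yf37 zf33) (kf xf21 yf38 zf17) (kf xf25 yf57 zf27) (kf xf21 yf51 zf32) (kf xf10 yf6 zf21) (kf xf27 yf31 zf38) (kf xf26 yf59 zf6) (kf xf18 yf37 zf56) (kf xf21 yf20 zf8) (kf xf18 yf37 zf57) (kf xf11 yf19 zf32) (kf xf21 yf20 zf7) (kf xf18 yf37 zf60) (kf xf20 yf15 zf56) (kf xf21 yf30 zf28) (kf xf18 yf24 zf47) (kf xf27 yf38 zf52) (kf xf28 yf1 zf10) (kf xf28 yf1 zf9) (kf xf21 yf57 zf58) (kf xf10 yf6 zf32) (kf xf27 yf4 zf10) (kf xf10 yf6 zf38) (kf xf21 yf30 zf16) (kf xf25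 yf23 zf48) (kf xf16 yf59 zf45) (kf xf18 yf43 zf42) (kf xf10 yf6 zf41) (kf xf21 yf35 zf54) (kf xf19 yf58 zf39) (kf xf14 yf24 zf2) (kf xf20 yf26 zf27) (kf xf11 yf9 zf58) (kf xf21 yf3 zf5) (kf xf10 yf6 zf45) (kf xf27 yf42 zf18) (kf xf18 yf25 zf61) (kf xf18 yf43 zf55) (kf xf15 yf27 zf7) (kf xf27 yf3 zf29) (kf xf12 yf31 zf56) (kf xf18 yf25 zf56)) (@D3.rec (fun _ => Pt) (kf xf10 yf7 zf16) (kf xf10 yf6 zf52) (kf xf10 yf6 zf54) (kf xf11 yf22 zf9) (kf xf18 yf43 zf34) (kf xf10 yf7 zf18) (kf xf28 yf1 zf40) (kf xf11 yf38 zf41) (kf xf14 yf23 zf55) (kf xf18 yf37 zf46) (kf xf21 yf47 zf50) (kf xf18 yf37 zf53) (kf xf10 yf7 zf3) (kf xf18 yf37 zf16) (kf xf18 yf37 zf50) (kf xf12 yf31 zf35) (kf xf28 yf1 zf34) (kf xf21 yf47 zf48) (kf xf12 yf13 zf34) (kf xf10 yf7 zf6) (kf xf21 yf26 zf26)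 (kf xf17 yf57 zf43) (kf xf10 yf7 zf10) (kf xf17 yf12 zf45) (kf xf10 yf7 zf19) (kf xf20 yf59 zf33) (kf xf14 yf14 zf22) (kf xf18 yf4 zf25) (kf xf25 yf0 zf14) (kf xf25 yf0 zf15) (kf xf17 yf44 zf22) (kf xf14 yf9 zf26) (kf xf17 yf44 zf17) (kf xf22 yf28 zf27) (kf xf18 yf9 zf60) (kf xf16 yf20 zf7) (kf xf10 yf7 zf29) (kf xf18 yf10 zf1) (kf xf18 yf10 zf2) (kf xf18 yf10 zf0) (kf xf18 yf9 zf57) (kf xf18 yf9 zf58) (kf xf18 yf9 zf59) (kf xf13 yf26 zf28) (kf xf22 yf28 zf28) (kf xf23 yf43 zf9) (kf xf23 yf43 zf16) (kf xf24 yf58 zf47) (kf xf18 yf28 zf14) (kf xf28 yf1 zf56) (kf xf28 yf1 zf59) (kf xf10 yf7 zf37) (kf xf18 yf40 zf31) (kf xf18 yf40 zf32) (kf xf18 yf40 zf33) (kf xf18 yf28 zf16) (kf xf18 yf5 zf33) (kf xf18 yf30 zf5) (kf xf18 yf53 zf27) (kf xf23 yf33 zf55) (kf xf18 yf28 zf7)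 (kf xf14 yf35 zf9)) (@D3.rec (fun _ => Pt) (kf xf14 yf35 zf12) (kf xf18 yf28 zf8) (kf xf25 yf0 zf19) (kf xf25 yf0 zf20) (kf xf25 yf0 zf21) (kf xf25 yf0 zf22) (kf xf24 yf59 zf18) (kf xf24 yf59 zf14) (kf xf10 yf7 zf46) (kf xf24 yf58 zf53) (kf xf24 yf58 zf52) (kf xf18 yf5 zf12) (kf xf18 yf6 zf36) (kf xf18 yf6 zf34) (kf xf25 yf0 zf16) (kf xf18 yf11 zf8) (kf xf18 yf5 zf14) (kf xf25 yf0 zf11) (kf xf27 yf58 zf30) (kf xf17 yf23 zf15) (kf xf25 yf19 zf38) (kf xf10 yf7 zf57) (kf xf24 yf45 zf8) (kf xf18 yf28 zf40) (kf xf24 yf29 zf31) (kf xf10 yf8 zf1) (kf xf18 yf5 zf23) (kf xf26 yf12 zf10) (kf xf27 yf27 zf33) (kf xf10 yf8 zf0) (kf xf24 yf58 zf59) (kf xf17 yf38 zf6) (kf xf27 yf27 zf8) (kf xf17 yf41 zf24) (kf xf17 yf41 zf21) (kf xf15 yf16 zf35) (kf xf24 yf59 zf8) (kf xf18 yf4 zf48)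 (kf xf18 yf4 zf50) (kf xf10 yf10 zf19) (kf xf17 yf44 zf16) (kf xf25 yf0 zf30) (kf xf18 yf18 zf0) (kf xf18 yf17 zf61) (kf xf25 yf38 zf27) (kf xf26 yf3 zf8) (kf xf10 yf8 zf11) (kf xf18 yf18 zf15) (kf xf18 yf18 zf16) (kf xf18 yf18 zf17) (kf xf10 yf21 zf31) (kf xf10 yf21 zf32) (kf xf10 yf21 zf33) (kf xf10 yf21 zf34) (kf xf13 yf22 zf51) (kf xf10 yf20 zf61) (kf xf28 yf2 zf49) (kf xf10 yf8 zf16) (kf xf15 yf52 zf29) (kf xf17 yf45 zf35) (kf xf25 yf46 zf46) (kf xf19 yf42 zf15)) (@D3.rec (fun _ => Pt) (kf xf18 yf54 zf26) (kf xf18 yf49 zf56) (kf xf18 yf5 zf58) (kf xf25 yf0 zf47) (kf xf18 yf46 zf41) (kf xf25 yf0 zf49) (kf xf23 yf51 zf30) (kf xf18 yf26 zf60) (kf xf18 yf27 zf1) (kf xf23 yf15 zf22) (kf xf28 yf3 zf0) (kf xf22 yf35 zf12) (kf xf28 yf3 zf3) (kf xf10 yf8 zf24) (kf xf18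 yf26 zf48) (kf xf24 yf31 zf22) (kf xf18 yf26 zf55) (kf xf28 yf3 zf9) (kf xf24 yf59 zf28) (kf xf24 yf59 zf25) (kf xf25 yf0 zf61) (kf xf10 yf8 zf27) (kf xf25 yf0 zf40) (kf xf25 yf0 zf41) (kf xf25 yf0 zf38) (kf xf25 yf0 zf39) (kf xf15 yf5 zf56) (kf xf28 yf3 zf21) (kf xf10 yf8 zf30) (kf xf24 yf56 zf22) (kf xf25 yf0 zf45) (kf xf15 yf21 zf47) (kf xf18 yf14 zf10) (kf xf18 yf14 zf11) (kf xf18 yf6 zf39) (kf xf28 yf2 zf29) (kf xf10 yf13 zf38) (kf xf25 yf0 zf33) (kf xf27 yf39 zf38) (kf xf16 yf17 zf46) (kf xf18 yf27 zf23) (kf xf21 yf2 zf48) (kf xf28 yf3 zf4) (kf xf28 yf3 zf29) (kf xf16 yf18 zf39) (kf xf10 yf8 zf43) (kf xf14 yf57 zf46) (kf xf10 yf8 zf44) (kf xf24 yf56 zf2) (kf xf18 yf15 zf24) (kf xf18 yf6 zf20) (kf xf17 yf40 zf27) (kf xf25 yf0 zf54) (kf xf25 yf0 zf55) (kf xf25 yf0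 zf56) (kf xf18 yf6 zf45) (kf xf25 yf0 zf36) (kf xf25 yf0 zf57) (kf xf25 yf0 zf34) (kf xf25 yf3 zf33) (kf xf25 yf3 zf32) (kf xf10 yf8 zf53)) (@D3.rec (fun _ => Pt) (kf xf18 yf31 zf56) (kf xf18 yf13 zf6) (kf xf10 yf8 zf55) (kf xf16 yf23 zf20) (kf xf22 yf14 zf54) (kf xf25 yf0 zf50) (kf xf21 yf25 zf34) (kf xf22 yf14 zf53) (kf xf21 yf25 zf27) (kf xf18 yf7 zf16) (kf xf15 yf50 zf31) (kf xf23 yf2 zf12) (kf xf23 yf2 zf8) (kf xf23 yf20 zf3) (kf xf18 yf7 zf30) (kf xf10 yf9 zf9) (kf xf10 yf9 zf11) (kf xf28 yf3 zf26) (kf xf26 yf33 zf0) (kf xf22 yf29 zf12) (kf xf10 yf22 zf38) (kf xf20 yf47 zf24) (kf xf10 yf9 zf5) (kf xf12 yf19 zf55) (kf xf23 yf44 zf58) (kf xf28 yf3 zf54) (kf xf10 yf9 zf6) (kf xf27 yf31 zf9) (kf xf28 yf3 zf56) (kf xf10 yf9 zf7) (kf xf28 yf3 zf31) (kf xf28 yf2 zf38)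 (kf xf26 yf32 zf59) (kf xf10 yf22 zf43) (kf xf28 yf2 zf9) (kf xf22 yf8 zf59) (kf xf10 yf22 zf39) (kf xf27 yf38 zf51) (kf xf23 yf44 zf57) (kf xf28 yf4 zf1) (kf xf28 yf3 zf32) (kf xf22 yf8 zf58) (kf xf10 yf9 zf12) (kf xf23 yf43 zf11) (kf xf23 yf44 zf34) (kf xf25 yf2 zf54) (kf xf25 yf2 zf56) (kf xf25 yf2 zf57) (kf xf23 yf43 zf25) (kf xf23 yf37 zf42) (kf xf25 yf2 zf38) (kf xf23 yf44 zf33) (kf xf23 yf44 zf35) (kf xf10 yf9 zf17) (kf xf18 yf8 zf6) (kf xf18 yf8 zf7) (kf xf18 yf8 zf8) (kf xf25 yf1 zf20) (kf xf16 yf31 zf52) (kf xf23 yf43 zf27) (kf xf10 yf9 zf20) (kf xf25 yf1 zf17)) (@D3.rec (fun _ => Pt) (kf xf25 yf1 zf19) (kf xf23 yf43 zf57) (kf xf25 yf1 zf22) (kf xf28 yf4 zf15) (kf xf10 yf9 zf22) (kf xf18 yf26 zf57) (kf xf25 yf1 zf26) (kf xf23 yf44 zf12) (kf xf21 yf25 zf24)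 (kf xf21 yf26 zf1) (kf xf28 yf3 zf5) (kf xf18 yf8 zf39) (kf xf18 yf8 zf40) (kf xf15 yf19 zf44) (kf xf18 yf8 zf42) (kf xf18 yf8 zf43) (kf xf19 yf42 zf10) (kf xf16 yf18 zf32) (kf xf18 yf8 zf44) (kf xf18 yf8 zf45) (kf xf18 yf8 zf46) (kf xf18 yf8 zf48) (kf xf18 yf8 zf49) (kf xf18 yf8 zf51) (kf xf16 yf22 zf12) (kf xf16 yf22 zf13) (kf xf16 yf22 zf56) (kf xf14 yf57 zf60) (kf xf18 yf8 zf52) (kf xf15 yf0 zf41) (kf xf15 yf0 zf42) (kf xf15 yf0 zf43) (kf xf15 yf0 zf44) (kf xf17 yf46 zf38) (kf xf28 yf4 zf39) (kf xf17 yf46 zf48) (kf xf18 yf11 zf21) (kf xf18 yf11 zf22) (kf xf18 yf11 zf23) (kf xf18 yf11 zf24) (kf xf18 yf35 zf29) (kf xf28 yf4 zf52) (kf xf10 yf10 zf9) (kf xf27 yf54 zf37) (kf xf10 yf9 zf42) (kf xf10 yf33 zf13) (kf xf10 yf33 zf23) (kf xf10 yf33 zf20) (kf xf18 yf11 zf28)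 (kf xf18 yf11 zf29) (kf xf18 yf11 zf30) (kf xf18 yf11 zf31) (kf xf20 yf21 zf20) (kf xf28 yf5 zf0) (kf xf18 yf11 zf42) (kf xf18 yf11 zf41) (kf xf27 yf33 zf0) (kf xf10 yf9 zf50) (kf xf18 yf11 zf45) (kf xf18 yf10 zf14) (kf xf10 yf24 zf37) (kf xf18 yf11 zf35)) (@D3.rec (fun _ => Pt) (kf xf18 yf11 zf36) (kf xf18 yf11 zf37) (kf xf18 yf11 zf38) (kf xf27 yf34 zf2) (kf xf28 yf5 zf17) (kf xf10 yf24 zf56) (kf xf19 yf22 zf37) (kf xf18 yf11 zf47) (kf xf18 yf11 zf48) (kf xf18 yf11 zf49) (kf xf28 yf5 zf29) (kf xf10 yf9 zf60) (kf xf18 yf11 zf54) (kf xf18 yf11 zf55) (kf xf18 yf11 zf56) (kf xf27 yf33 zf59) (kf xf27 yf33 zf60) (kf xf18 yf12 zf0) (kf xf18 yf12 zf1) (kf xf28 yf5 zf39) (kf xf18 yf12 zf4) (kf xf21 yf12 zf40) (kf xf18 yf12 zf7) (kf xf18 yf12 zf9) (kf xf18 yf12 zf10) (kf xf18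 yf12 zf11) (kf xf18 yf34 zf3) (kf xf10 yf33 zf6) (kf xf28 yf5 zf51) (kf xf10 yf33 zf27) (kf xf24 yf12 zf48) (kf xf28 yf4 zf50) (kf xf28 yf4 zf49) (kf xf18 yf33 zf61) (kf xf10 yf10 zf8) (kf xf28 yf2 zf19) (kf xf18 yf35 zf27) (kf xf27 yf58 zf54) (kf xf18 yf35 zf28) (kf xf18 yf9 zf45) (kf xf27 yf34 zf17) (kf xf27 yf34 zf14) (kf xf17 yf47 zf13) (kf xf15 yf38 zf40) (kf xf26 yf4 zf26) (kf xf26 yf4 zf27) (kf xf18 yf9 zf53) (kf xf26 yf4 zf30) (kf xf26 yf4 zf31) (kf xf18 yf9 zf56) (kf xf18 yf4 zf44) (kf xf18 yf4 zf45) (kf xf18 yf4 zf46) (kf xf28 yf2 zf36) (kf xf18 yf4 zf38) (kf xf18 yf4 zf37) (kf xf18 yf29 zf0) (kf xf18 yf4 zf16) (kf xf18 yf4 zf43) (kf xf18 yf4 zf41) (kf xf18 yf4 zf42) (kf xf18 yf10 zf17)) (@D3.rec (fun _ => Pt) (kf xf12 yf2 zf22) (kf xf18 yf10 zf19) (kf xf18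 yf11 zf11) (kf xf28 yf6 zf35) (kf xf28 yf6 zf34) (kf xf28 yf6 zf33) (kf xf10 yf10 zf25) (kf xf18 yf10 zf13) (kf xf16 yf49 zf41) (kf xf18 yf9 zf1) (kf xf18 yf10 zf3) (kf xf18 yf10 zf4) (kf xf18 yf11 zf9) (kf xf18 yf10 zf6) (kf xf18 yf10 zf7) (kf xf18 yf10 zf21) (kf xf28 yf6 zf46) (kf xf18 yf12 zf36) (kf xf18 yf12 zf37) (kf xf18 yf12 zf38) (kf xf18 yf12 zf39) (kf xf28 yf6 zf57) (kf xf18 yf12 zf47) (kf xf10 yf10 zf35) (kf xf18 yf12 zf43) (kf xf18 yf12 zf44) (kf xf18 yf12 zf45) (kf xf27 yf37 zf45) (kf xf10 yf11 zf22) (kf xf19 yf10 zf60) (kf xf10 yf10 zf38) (kf xf18 yf12 zf49) (kf xf25 yf18 zf7) (kf xf12 yf34 zf60) (kf xf12 yf31 zf31) (kf xf18 yf12 zf52) (kf xf10 yf10 zf43) (kf xf21 yf31 zf36) (kf xf18 yf9 zf55) (kf xf21 yf31 zf41) (kf xf18 yf9 zf52) (kf xf18 yf5 zf13) (kf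 xf18 yf10 zf18) (kf xf18 yf11 zf12) (kf xf18 yf10 zf8) (kf xf18 yf11 zf10) (kf xf18 yf11 zf13) (kf xf18 yf8 zf54) (kf xf18 yf8 zf55) (kf xf11 yf15 zf43) (kf xf18 yf9 zf4) (kf xf28 yf7 zf11) (kf xf18 yf8 zf58) (kf xf18 yf8 zf57) (kf xf28 yf7 zf16) (kf xf10 yf10 zf56) (kf xf18 yf8 zf61) (kf xf18 yf9 zf12) (kf xf18 yf9 zf13) (kf xf18 yf12 zf20) (kf xf18 yf12 zf21) (kf xf18 yf34 zf33)) (@D3.rec (fun _ => Pt) (kf xf10 yf10 zf61) (kf xf18 yf9 zf21) (kf xf18 yf9 zf22) (kf xf18 yf12 zf13) (kf xf18 yf9 zf25) (kf xf28 yf7 zf29) (kf xf18 yf9 zf28) (kf xf28 yf5 zf40) (kf xf18 yf9 zf30) (kf xf18 yf9 zf31) (kf xf28 yf7 zf36) (kf xf18 yf12 zf3) (kf xf26 yf19 zf28) (kf xf10 yf11 zf4) (kf xf23 yf51 zf39) (kf xf27 yf33 zf56) (kf xf27 yf53 zf45) (kf xf10 yf11 zf5) (kf xf18 yf11 zf51)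 (kf xf18 yf11 zf53) (kf xf27 yf34 zf0) (kf xf27 yf33 zf61) (kf xf10 yf59 zf60) (kf xf10 yf11 zf7) (kf xf18 yf11 zf34) (kf xf16 yf22 zf9) (kf xf19 yf20 zf21) (kf xf10 yf12 zf33) (kf xf20 yf5 zf21) (kf xf19 yf20 zf22) (kf xf20 yf5 zf18) (kf xf20 yf5 zf19) (kf xf20 yf5 zf13) (kf xf20 yf5 zf20) (kf xf20 yf59 zf23) (kf xf18 yf10 zf40) (kf xf18 yf12 zf58) (kf xf18 yf12 zf59) (kf xf12 yf2 zf60) (kf xf18 yf10 zf46) (kf xf18 yf10 zf47) (kf xf23 yf6 zf27) (kf xf18 yf10 zf49) (kf xf28 yf7 zf61) (kf xf18 yf10 zf45) (kf xf10 yf11 zf20) (kf xf18 yf10 zf55) (kf xf26 yf52 zf12) (kf xf18 yf12 zf35) (kf xf18 yf12 zf40) (kf xf18 yf12 zf41) (kf xf18 yf10 zf5) (kf xf18 yf10 zf20) (kf xf18 yf10 zf22) (kf xf18 yf5 zf37) (kf xf11 yf7 zf56) (kf xf11 yf7 zf60) (kf xf18 yf14 zf18) (kf xf18 yf14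 zf19) (kf xf18 yf14 zf20) (kf xf18 yf14 zf21) (kf xf18 yf31 zf33)) (@D3.rec (fun _ => Pt) (kf xf27 yf52 zf60) (kf xf10 yf11 zf47) (kf xf10 yf11 zf46) (kf xf18 yf31 zf26) (kf xf10 yf11 zf34) (kf xf10 yf11 zf54) (kf xf10 yf11 zf55) (kf xf10 yf11 zf51) (kf xf10 yf33 zf3) (kf xf10 yf33 zf4) (kf xf10 yf33 zf5) (kf xf18 yf13 zf7) (kf xf18 yf14 zf33) (kf xf10 yf13 zf51) (kf xf18 yf13 zf9) (kf xf18 yf14 zf34) (kf xf18 yf14 zf36) (kf xf28 yf8 zf32) (kf xf18 yf14 zf40) (kf xf28 yf8 zf36) (kf xf28 yf8 zf30) (kf xf27 yf50 zf16) (kf xf28 yf8 zf43) (kf xf10 yf11 zf44) (kf xf28 yf8 zf12) (kf xf24 yf13 zf14) (kf xf27 yf52 zf52) (kf xf10 yf11 zf45) (kf xf28 yf3 zf16) (kf xf28 yf8 zf14) (kf xf28 yf7 zf42) (kf xf28 yf8 zf13) (kf xf27 yf34 zf15) (kf xf18 yf32 zf61) (kf xf20 yf12 zf0) (kf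 xf10 yf11 zf48) (kf xf24 yf52 zf18) (kf xf15 yf0 zf37) (kf xf20 yf21 zf32) (kf xf28 yf8 zf18) (kf xf24 yf52 zf20) (kf xf18 yf5 zf50) (kf xf25 yf0 zf46) (kf xf28 yf8 zf15) (kf xf28 yf8 zf16) (kf xf27 yf34 zf20) (kf xf28 yf8 zf17) (kf xf18 yf15 zf6) (kf xf18 yf15 zf7) (kf xf18 yf13 zf48) (kf xf18 yf13 zf49) (kf xf18 yf6 zf52) (kf xf18 yf15 zf9) (kf xf10 yf12 zf2) (kf xf10 yf12 zf1) (kf xf15 yf43 zf46) (kf xf10 yf12 zf0) (kf xf28 yf9 zf13) (kf xf22 yf5 zf57) (kf xf10 yf12 zf43) (kf xf18 yf56 zf47) (kf xf27 yf55 zf27)) (@D3.rec (fun _ => Pt) (kf xf28 yf9 zf12) (kf xf26 yf39 zf35) (kf xf14 yf6 zf50) (kf xf18 yf14 zf8) (kf xf17 yf12 zf56) (kf xf10 yf12 zf10) (kf xf17 yf30 zf24) (kf xf16 yf20 zf6) (kf xf18 yf6 zf21) (kf xf17 yf30 zf9) (kf xf11 yf2 zf3) (kf xf10 yf13 zf30)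 (kf xf10 yf13 zf47) (kf xf18 yf14 zf13) (kf xf17 yf50 zf21) (kf xf18 yf14 zf32) (kf xf18 yf13 zf8) (kf xf18 yf13 zf10) (kf xf18 yf14 zf35) (kf xf18 yf13 zf11) (kf xf18 yf13 zf15) (kf xf17 yf47 zf6) (kf xf27 yf34 zf11) (kf xf17 yf47 zf3) (kf xf10 yf12 zf26) (kf xf27 yf34 zf16) (kf xf28 yf7 zf45) (kf xf18 yf31 zf36) (kf xf18 yf31 zf38) (kf xf18 yf30 zf40) (kf xf27 yf34 zf21) (kf xf27 yf34 zf22) (kf xf20 yf21 zf31) (kf xf27 yf34 zf18) (kf xf27 yf34 zf19) (kf xf18 yf15 zf8) (kf xf18 yf15 zf10) (kf xf10 yf12 zf44) (kf xf18 yf57 zf12) (kf xf22 yf5 zf59) (kf xf27 yf38 zf23) (kf xf10 yf13 zf50) (kf xf10 yf13 zf61) (kf xf18 yf14 zf17) (kf xf18 yf6 zf37) (kf xf10 yf13 zf52) (kf xf18 yf15 zf40) (kf xf12 yf2 zf20) (kf xf10 yf30 zf14) (kf xf16 yf23 zf22) (kf xf16 yf23 zf18) (kf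 xf12 yf2 zf33) (kf xf18 yf15 zf42) (kf xf12 yf2 zf32) (kf xf10 yf22 zf41) (kf xf14 yf11 zf57) (kf xf18 yf15 zf45) (kf xf14 yf11 zf58) (kf xf12 yf0 zf40) (kf xf24 yf28 zf19) (kf xf10 yf13 zf4) (kf xf10 yf13 zf3)) (@D3.rec (fun _ => Pt) (kf xf18 yf15 zf55) (kf xf28 yf0 zf12) (kf xf14 yf58 zf23) (kf xf24 yf28 zf30) (kf xf28 yf9 zf50) (kf xf10 yf13 zf1) (kf xf17 yf25 zf42) (kf xf28 yf8 zf39) (kf xf21 yf12 zf48) (kf xf28 yf9 zf44) (kf xf10 yf13 zf21) (kf xf18 yf16 zf20) (kf xf22 yf29 zf38) (kf xf28 yf9 zf43) (kf xf19 yf17 zf37) (kf xf17 yf16 zf58) (kf xf12 yf16 zf18) (kf xf10 yf13 zf5) (kf xf18 yf15 zf36) (kf xf20 yf5 zf37) (kf xf17 yf34 zf55) (kf xf10 yf13 zf32) (kf xf10 yf13 zf31) (kf xf17 yf50 zf24) (kf xf18 yf15 zf46) (kf xf10 yf13 zf22) (kf xf21 yf27 zf41) (kf xf15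 yf7 zf42) (kf xf17 yf47 zf53) (kf xf18 yf15 zf54) (kf xf13 yf27 zf43) (kf xf23 yf6 zf20) (kf xf17 yf14 zf39) (kf xf17 yf14 zf38) (kf xf19 yf17 zf40) (kf xf28 yf9 zf57) (kf xf12 yf51 zf1) (kf xf12 yf27 zf31) (kf xf18 yf16 zf8) (kf xf10 yf13 zf54) (kf xf28 yf9 zf20) (kf xf10 yf13 zf57) (kf xf27 yf39 zf34) (kf xf10 yf13 zf59) (kf xf18 yf24 zf6) (kf xf11 yf46 zf3) (kf xf12 yf1 zf15) (kf xf19 yf23 zf9) (kf xf10 yf25 zf58) (kf xf10 yf25 zf59) (kf xf15 yf8 zf60) (kf xf28 yf10 zf1) (kf xf10 yf13 zf35) (kf xf22 yf12 zf44) (kf xf25 yf2 zf59) (kf xf27 yf1 zf21) (kf xf18 yf16 zf27) (kf xf25 yf1 zf6) (kf xf18 yf54 zf23) (kf xf15 yf14 zf49) (kf xf13 yf37 zf17) (kf xf21 yf4 zf38)) (@D3.rec (fun _ => Pt) (kf xf10 yf13 zf39) (kf xf22 yf15 zf51) (kf xf28 yf3 zf30) (kf xf10 yf13 zf40)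 (kf xf27 yf39 zf30) (kf xf10 yf13 zf41) (kf xf21 yf4 zf37) (kf xf21 yf55 zf5) (kf xf21 yf55 zf4) (kf xf23 yf54 zf4) (kf xf18 yf24 zf17) (kf xf21 yf43 zf59) (kf xf21 yf44 zf23) (kf xf21 yf26 zf27) (kf xf28 yf9 zf21) (kf xf10 yf13 zf48) (kf xf18 yf26 zf13) (kf xf21 yf44 zf15) (kf xf25 yf45 zf38) (kf xf15 yf14 zf46) (kf xf27 yf55 zf29) (kf xf27 yf55 zf33) (kf xf13 yf1 zf1) (kf xf16 yf15 zf30) (kf xf17 yf42 zf38) (kf xf17 yf42 zf41) (kf xf14 yf57 zf5) (kf xf10 yf13 zf55) (kf xf15 yf14 zf47) (kf xf22 yf18 zf56) (kf xf21 yf25 zf23) (kf xf27 yf20 zf29) (kf xf28 yf10 zf7) (kf xf21 yf31 zf25) (kf xf10 yf13 zf58) (kf xf25 yf45 zf15) (kf xf18 yf24 zf19) (kf xf21 yf26 zf20) (kf xf16 yf15 zf28) (kf xf10 yf13 zf60) (kf xf14 yf57 zf11) (kf xf13 yf20 zf40) (kf xf17 yf14 zf28) (kf xf12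 yf36 zf2) (kf xf12 yf1 zf17) (kf xf12 yf36 zf33) (kf xf18 yf26 zf9) (kf xf17 yf58 zf1) (kf xf18 yf17 zf21) (kf xf10 yf14 zf6) (kf xf18 yf26 zf14) (kf xf28 yf10 zf19) (kf xf18 yf17 zf27) (kf xf18 yf26 zf11) (kf xf14 yf46 zf50) (kf xf10 yf14 zf9) (kf xf18 yf25 zf27) (kf xf18 yf25 zf29) (kf xf28 yf10 zf24) (kf xf17 yf14 zf27) (kf xf18 yf25 zf32) (kf xf21 yf35 zf13)) (@D3.rec (fun _ => Pt) (kf xf27 yf12 zf27) (kf xf10 yf14 zf13) (kf xf24 yf7 zf24) (kf xf12 yf41 zf2) (kf xf25 yf17 zf17) (kf xf18 yf17 zf13) (kf xf18 yf17 zf14) (kf xf18 yf17 zf16) (kf xf18 yf17 zf17) (kf xf18 yf17 zf18) (kf xf24 yf34 zf16) (kf xf18 yf17 zf20) (kf xf11 yf29 zf60) (kf xf19 yf17 zf38) (kf xf20 yf40 zf60) (kf xf21 yf18 zf54) (kf xf10 yf14 zf21) (kf xf11 yf29 zf6) (kf xf14 yf15 zf53) (kf xf12 yf1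 zf51) (kf xf17 yf58 zf43) (kf xf17 yf53 zf40) (kf xf12 yf42 zf59) (kf xf10 yf14 zf28) (kf xf28 yf10 zf32) (kf xf11 yf51 zf0) (kf xf12 yf56 zf34) (kf xf10 yf14 zf32) (kf xf12 yf2 zf47) (kf xf18 yf17 zf22) (kf xf10 yf14 zf35) (kf xf18 yf17 zf33) (kf xf18 yf17 zf34) (kf xf18 yf17 zf35) (kf xf17 yf52 zf53) (kf xf18 yf17 zf36) (kf xf12 yf15 zf30) (kf xf18 yf20 zf24) (kf xf18 yf58 zf7) (kf xf10 yf14 zf42) (kf xf16 yf21 zf45) (kf xf16 yf21 zf32) (kf xf16 yf21 zf47) (kf xf18 yf21 zf41) (kf xf10 yf24 zf40) (kf xf28 yf10 zf41) (kf xf18 yf21 zf54) (kf xf28 yf10 zf44) (kf xf24 yf57 zf26) (kf xf27 yf51 zf7) (kf xf28 yf10 zf48) (kf xf10 yf14 zf57) (kf xf18 yf58 zf45) (kf xf18 yf58 zf44) (kf xf28 yf10 zf51) (kf xf10 yf14 zf58) (kf xf18 yf58 zf49) (kf xf18 yf56 zf37) (kf xf18 yf58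 zf48) (kf xf18 yf56 zf38) (kf xf18 yf20 zf5) (kf xf18 yf39 zf33)) (@D3.rec (fun _ => Pt) (kf xf28 yf10 zf57) (kf xf10 yf14 zf61) (kf xf15 yf11 zf1) (kf xf18 yf58 zf57) (kf xf18 yf58 zf58) (kf xf18 yf58 zf55) (kf xf18 yf58 zf56) (kf xf18 yf19 zf27) (kf xf18 yf19 zf38) (kf xf28 yf11 zf5) (kf xf18 yf22 zf15) (kf xf13 yf31 zf5) (kf xf18 yf22 zf17) (kf xf18 yf22 zf18) (kf xf11 yf23 zf34) (kf xf17 yf48 zf21) (kf xf17 yf51 zf23) (kf xf10 yf39 zf24) (kf xf23 yf7 zf12) (kf xf13 yf30 zf48) (kf xf10 yf36 zf22) (kf xf10 yf15 zf18) (kf xf10 yf15 zf17) (kf xf16 yf18 zf7) (kf xf10 yf15 zf16) (kf xf28 yf11 zf11) (kf xf17 yf50 zf55) (kf xf28 yf11 zf10) (kf xf12 yf59 zf5) (kf xf18 yf20 zf57) (kf xf18 yf20 zf59) (kf xf18 yf21 zf1) (kf xf17 yf9 zf29) (kf xf18 yf38 zf61) (kf xf11 yf20 zf23)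 (kf xf12 yf32 zf17) (kf xf12 yf32 zf21) (kf xf12 yf4 zf21) (kf xf11 yf22 zf40) (kf xf16 yf52 zf11) (kf xf16 yf59 zf55) (kf xf18 yf21 zf28) (kf xf11 yf5 zf56) (kf xf10 yf15 zf32) (kf xf18 yf17 zf41) (kf xf18 yf17 zf40) (kf xf18 yf17 zf43) (kf xf15 yf25 zf49) (kf xf11 yf37 zf35) (kf xf10 yf35 zf2) (kf xf18 yf57 zf54) (kf xf18 yf19 zf28) (kf xf10 yf15 zf39) (kf xf18 yf17 zf52) (kf xf18 yf17 zf53) (kf xf18 yf17 zf54) (kf xf18 yf53 zf48) (kf xf18 yf18 zf1) (kf xf18 yf18 zf2) (kf xf18 yf18 zf3) (kf xf18 yf17 zf59) (kf xf15 yf14 zf43)) (@D3.rec (fun _ => Pt) (kf xf18 yf18 zf8) (kf xf18 yf18 zf9) (kf xf18 yf18 zf10) (kf xf18 yf18 zf21) (kf xf28 yf11 zf29) (kf xf18 yf18 zf23) (kf xf18 yf18 zf24) (kf xf28 yf11 zf36) (kf xf18 yf18 zf26) (kf xf18 yf18 zf27) (kf xf18 yf18 zf28)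 (kf xf18 yf18 zf29) (kf xf23 yf19 zf36) (kf xf19 yf59 zf7) (kf xf27 yf43 zf29) (kf xf23 yf40 zf25) (kf xf18 yf19 zf18) (kf xf18 yf19 zf17) (kf xf28 yf11 zf50) (kf xf10 yf15 zf55) (kf xf16 yf49 zf60) (kf xf16 yf50 zf0) (kf xf26 yf8 zf36) (kf xf26 yf8 zf35) (kf xf28 yf12 zf0) (kf xf10 yf15 zf57) (kf xf11 yf3 zf38) (kf xf11 yf3 zf40) (kf xf16 yf12 zf30) (kf xf27 yf46 zf50) (kf xf18 yf6 zf15) (kf xf18 yf26 zf52) (kf xf18 yf26 zf53) (kf xf18 yf26 zf54) (kf xf18 yf18 zf52) (kf xf18 yf18 zf51) (kf xf10 yf16 zf5) (kf xf14 yf15 zf49) (kf xf13 yf50 zf55) (kf xf28 yf12 zf13) (kf xf18 yf18 zf47) (kf xf10 yf16 zf9) (kf xf13 yf47 zf34) (kf xf13 yf47 zf33) (kf xf18 yf19 zf7) (kf xf23 yf21 zf32) (kf xf27 yf3 zf34) (kf xf27 yf3 zf33) (kf xf10 yf16 zf16) (kf xf13 yf47 zf37) (kf xf24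 yf31 zf41) (kf xf16 yf28 zf7) (kf xf16 yf28 zf6) (kf xf10 yf16 zf18) (kf xf18 yf19 zf13) (kf xf18 yf19 zf14) (kf xf23 yf21 zf33) (kf xf18 yf18 zf35) (kf xf18 yf18 zf34) (kf xf21 yf29 zf44) (kf xf10 yf16 zf20) (kf xf24 yf59 zf53)) (@D3.rec (fun _ => Pt) (kf xf24 yf47 zf30) (kf xf28 yf12 zf32) (kf xf26 yf8 zf37) (kf xf24 yf59 zf52) (kf xf26 yf8 zf38) (kf xf28 yf12 zf37) (kf xf11 yf23 zf7) (kf xf18 yf19 zf30) (kf xf18 yf19 zf31) (kf xf26 yf27 zf29) (kf xf18 yf19 zf39) (kf xf18 yf19 zf40) (kf xf18 yf19 zf41) (kf xf18 yf19 zf42) (kf xf28 yf12 zf44) (kf xf18 yf19 zf34) (kf xf18 yf19 zf33) (kf xf19 yf1 zf40) (kf xf10 yf16 zf29) (kf xf18 yf19 zf37) (kf xf16 yf24 zf25) (kf xf18 yf19 zf48) (kf xf18 yf19 zf49) (kf xf18 yf22 zf0) (kf xf20 yf8 zf40) (kf xf18 yf22 zf1) (kf xf28 yf12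 zf52) (kf xf18 yf56 zf17) (kf xf10 yf16 zf37) (kf xf18 yf21 zf56) (kf xf18 yf19 zf56) (kf xf22 yf51 zf1) (kf xf28 yf12 zf57) (kf xf26 yf23 zf2) (kf xf19 yf16 zf24) (kf xf17 yf35 zf38) (kf xf19 yf6 zf55) (kf xf19 yf6 zf57) (kf xf25 yf48 zf6) (kf xf12 yf2 zf25) (kf xf18 yf22 zf20) (kf xf12 yf2 zf55) (kf xf12 yf3 zf0) (kf xf18 yf22 zf21) (kf xf18 yf20 zf43) (kf xf17 yf50 zf51) (kf xf10 yf39 zf22) (kf xf17 yf50 zf53) (kf xf18 yf20 zf44) (kf xf23 yf7 zf15) (kf xf18 yf20 zf41) (kf xf10 yf16 zf57) (kf xf17 yf53 zf28) (kf xf10 yf25 zf8) (kf xf10 yf54 zf29) (kf xf18 yf22 zf27) (kf xf18 yf22 zf26) (kf xf11 yf20 zf61) (kf xf11 yf21 zf3) (kf xf17 yf32 zf19) (kf xf14 yf20 zf39) (kf xf19 yf24 zf14)) (@D3.rec (fun _ => Pt) (kf xf24 yf44 zf23) (kf xf18 yf21 zf12) (kf xf17 yf25 zf29)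 (kf xf17 yf25 zf28) (kf xf14 yf19 zf22) (kf xf18 yf21 zf16) (kf xf28 yf13 zf10) (kf xf17 yf18 zf12) (kf xf19 yf17 zf35) (kf xf10 yf17 zf13) (kf xf17 yf19 zf3) (kf xf20 yf26 zf0) (kf xf17 yf3 zf3) (kf xf11 yf2 zf4) (kf xf10 yf17 zf18) (kf xf20 yf21 zf60) (kf xf17 yf10 zf9) (kf xf16 yf56 zf46) (kf xf11 yf58 zf33) (kf xf16 yf29 zf37) (kf xf19 yf1 zf29) (kf xf13 yf15 zf48) (kf xf17 yf25 zf30) (kf xf10 yf22 zf29) (kf xf13 yf59 zf34) (kf xf27 yf58 zf55) (kf xf28 yf13 zf16) (kf xf10 yf17 zf31) (kf xf16 yf59 zf47) (kf xf13 yf51 zf37) (kf xf18 yf23 zf3) (kf xf27 yf55 zf53) (kf xf25 yf44 zf15) (kf xf25 yf44 zf14) (kf xf28 yf13 zf28) (kf xf10 yf17 zf34) (kf xf23 yf20 zf19) (kf xf25 yf14 zf34) (kf xf15 yf50 zf34) (kf xf19 yf59 zf43) (kf xf13 yf48 zf57) (kf xf25 yf14 zf33) (kf xf24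 yf58 zf57) (kf xf23 yf3 zf10) (kf xf10 yf17 zf37) (kf xf10 yf17 zf45) (kf xf10 yf17 zf44) (kf xf17 yf22 zf26) (kf xf17 yf19 zf34) (kf xf18 yf23 zf8) (kf xf28 yf13 zf44) (kf xf17 yf25 zf33) (kf xf10 yf17 zf43) (kf xf13 yf1 zf20) (kf xf12 yf39 zf11) (kf xf12 yf54 zf22) (kf xf18 yf23 zf24) (kf xf11 yf50 zf21) (kf xf15 yf4 zf44) (kf xf28 yf13 zf48) (kf xf11 yf24 zf59) (kf xf18 yf23 zf39)) (@D3.rec (fun _ => Pt) (kf xf11 yf20 zf57) (kf xf18 yf23 zf42) (kf xf18 yf22 zf41) (kf xf10 yf18 zf9) (kf xf10 yf17 zf60) (kf xf18 yf23 zf48) (kf xf18 yf23 zf49) (kf xf18 yf23 zf51) (kf xf14 yf0 zf10) (kf xf12 yf49 zf14) (kf xf18 yf23 zf56) (kf xf21 yf31 zf43) (kf xf17 yf21 zf46) (kf xf18 yf23 zf57) (kf xf17 yf7 zf55) (kf xf18 yf24 zf7) (kf xf17 yf5 zf53) (kf xf10 yf18 zf15) (kf xf17 yf22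 zf21) (kf xf10 yf18 zf17) (kf xf18 yf23 zf61) (kf xf11 yf34 zf37) (kf xf11 yf35 zf48) (kf xf26 yf52 zf60) (kf xf18 yf23 zf33) (kf xf20 yf22 zf37) (kf xf10 yf18 zf26) (kf xf12 yf35 zf2) (kf xf20 yf37 zf35) (kf xf18 yf17 zf8) (kf xf20 yf51 zf52) (kf xf10 yf18 zf39) (kf xf10 yf18 zf38) (kf xf10 yf18 zf35) (kf xf18 yf26 zf4) (kf xf16 yf57 zf4) (kf xf26 yf52 zf1) (kf xf18 yf24 zf56) (kf xf12 yf30 zf4) (kf xf19 yf27 zf41) (kf xf18 yf25 zf9) (kf xf18 yf25 zf10) (kf xf18 yf25 zf46) (kf xf10 yf18 zf48) (kf xf18 yf16 zf13) (kf xf12 yf2 zf24) (kf xf12 yf30 zf17) (kf xf18 yf17 zf5) (kf xf12 yf29 zf45) (kf xf18 yf17 zf6) (kf xf10 yf18 zf56) (kf xf16 yf13 zf47) (kf xf12 yf26 zf57) (kf xf11 yf11 zf11) (kf xf20 yf19 zf54) (kf xf18 yf25 zf57) (kf xf20 yf19 zf56) (kf xf19 yf27 zf33)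 (kf xf15 yf59 zf33) (kf xf15 yf59 zf34) (kf xf15 yf59 zf35) (kf xf15 yf58 zf48)) (@D3.rec (fun _ => Pt) (kf xf27 yf14 zf17) (kf xf19 yf27 zf61) (kf xf19 yf28 zf0) (kf xf19 yf42 zf12) (kf xf19 yf28 zf2) (kf xf18 yf2 zf52) (kf xf19 yf28 zf3) (kf xf28 yf14 zf10) (kf xf19 yf28 zf5) (kf xf19 yf28 zf7) (kf xf19 yf28 zf8) (kf xf19 yf28 zf9) (kf xf15 yf58 zf50) (kf xf24 yf50 zf30) (kf xf24 yf50 zf31) (kf xf24 yf50 zf32) (kf xf24 yf49 zf47) (kf xf15 yf3 zf37) (kf xf10 yf19 zf19) (kf xf16 yf0 zf44) (kf xf19 yf17 zf31) (kf xf26 yf42 zf40) (kf xf19 yf29 zf27) (kf xf28 yf14 zf27) (kf xf15 yf2 zf49) (kf xf19 yf29 zf28) (kf xf26 yf45 zf21) (kf xf26 yf26 zf54) (kf xf25 yf32 zf35) (kf xf17 yf3 zf40) (kf xf17 yf24 zf52) (kf xf15 yf51 zf32) (kf xf12 yf34 zf0) (kf xf17 yf24 zf57) (kf xf17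 yf24 zf58) (kf xf10 yf20 zf24) (kf xf25 yf51 zf28) (kf xf10 yf19 zf60) (kf xf10 yf19 zf29) (kf xf10 yf20 zf30) (kf xf10 yf20 zf31) (kf xf10 yf20 zf32) (kf xf10 yf20 zf33) (kf xf10 yf20 zf8) (kf xf10 yf20 zf10) (kf xf10 yf20 zf11) (kf xf13 yf26 zf35) (kf xf10 yf20 zf37) (kf xf10 yf21 zf9) (kf xf10 yf21 zf10) (kf xf10 yf21 zf11) (kf xf10 yf21 zf12) (kf xf28 yf14 zf45) (kf xf27 yf13 zf38) (kf xf10 yf20 zf58) (kf xf28 yf14 zf48) (kf xf10 yf19 zf37) (kf xf10 yf54 zf18) (kf xf10 yf21 zf22) (kf xf10 yf21 zf23) (kf xf10 yf21 zf24) (kf xf10 yf21 zf25)) (@D3.rec (fun _ => Pt) (kf xf28 yf14 zf54) (kf xf25 yf48 zf21) (kf xf27 yf16 zf54) (kf xf10 yf19 zf42) (kf xf10 yf19 zf45) (kf xf10 yf19 zf44) (kf xf28 yf14 zf59) (kf xf28 yf14 zf61) (kf xf23 yf6 zf44) (kf xf10 yf19 zf43) (kf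 xf28 yf14 zf57) (kf xf25 yf23 zf58) (kf xf20 yf31 zf37) (kf xf10 yf41 zf58) (kf xf25 yf52 zf17) (kf xf25 yf52 zf16) (kf xf25 yf52 zf9) (kf xf26 yf56 zf16) (kf xf18 yf52 zf7) (kf xf10 yf21 zf53) (kf xf11 yf0 zf45) (kf xf10 yf19 zf49) (kf xf18 yf52 zf14) (kf xf18 yf5 zf17) (kf xf18 yf5 zf18) (kf xf18 yf5 zf19) (kf xf15 yf12 zf38) (kf xf19 yf36 zf10) (kf xf17 yf23 zf20) (kf xf20 yf47 zf9) (kf xf26 yf45 zf18) (kf xf10 yf19 zf59) (kf xf15 yf51 zf25) (kf xf26 yf29 zf26) (kf xf10 yf41 zf26) (kf xf27 yf59 zf15) (kf xf21 yf9 zf8) (kf xf27 yf49 zf26) (kf xf10 yf39 zf14) (kf xf22 yf38 zf57) (kf xf24 yf18 zf8) (kf xf18 yf54 zf8) (kf xf23 yf23 zf61) (kf xf20 yf31 zf34) (kf xf18 yf4 zf56) (kf xf24 yf15 zf28) (kf xf22 yf36 zf57) (kf xf11 yf46 zf8) (kf xf12 yf47 zf29) (kf xf15 yf50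 zf49) (kf xf25 yf34 zf28) (kf xf21 yf41 zf19) (kf xf18 yf53 zf42) (kf xf14 yf13 zf32) (kf xf26 yf32 zf5) (kf xf26 yf32 zf6) (kf xf26 yf32 zf7) (kf xf24 yf48 zf16) (kf xf27 yf49 zf33) (kf xf24 yf38 zf34) (kf xf27 yf49 zf34) (kf xf10 yf27 zf50)) (@D3.rec (fun _ => Pt) (kf xf21 yf0 zf7) (kf xf28 yf14 zf34) (kf xf20 yf58 zf9) (kf xf26 yf42 zf61) (kf xf26 yf43 zf0) (kf xf18 yf4 zf15) (kf xf13 yf41 zf17) (kf xf10 yf20 zf27) (kf xf28 yf14 zf36) (kf xf28 yf5 zf36) (kf xf18 yf47 zf19) (kf xf18 yf54 zf2) (kf xf10 yf39 zf23) (kf xf21 yf9 zf41) (kf xf19 yf12 zf3) (kf xf28 yf14 zf37) (kf xf28 yf14 zf38) (kf xf27 yf13 zf43) (kf xf18 yf53 zf54) (kf xf10 yf20 zf34) (kf xf27 yf13 zf44) (kf xf28 yf7 zf49) (kf xf19 yf12 zf45) (kf xf10 yf39 zf7) (kf xf26 yf33 zf49) (kf xf10 yf41 zf24)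 (kf xf19 yf31 zf31) (kf xf19 yf31 zf29) (kf xf19 yf31 zf28) (kf xf28 yf16 zf1) (kf xf26 yf33 zf51) (kf xf10 yf20 zf42) (kf xf19 yf31 zf32) (kf xf19 yf31 zf33) (kf xf19 yf31 zf34) (kf xf19 yf31 zf35) (kf xf25 yf43 zf23) (kf xf15 yf50 zf46) (kf xf15 yf50 zf48) (kf xf18 yf54 zf20) (kf xf18 yf54 zf21) (kf xf18 yf28 zf4) (kf xf18 yf16 zf29) (kf xf18 yf54 zf24) (kf xf25 yf30 zf59) (kf xf18 yf5 zf56) (kf xf14 yf56 zf51) (kf xf12 yf47 zf25) (kf xf28 yf16 zf24) (kf xf14 yf3 zf34) (kf xf28 yf16 zf29) (kf xf10 yf20 zf54) (kf xf17 yf19 zf36) (kf xf22 yf40 zf28) (kf xf21 yf16 zf40) (kf xf10 yf20 zf56) (kf xf27 yf54 zf6) (kf xf21 yf38 zf39) (kf xf21 yf38 zf40) (kf xf10 yf54 zf16) (kf xf28 yf14 zf46) (kf xf22 yf39 zf57)) (@D3.rec (fun _ => Pt) (kf xf28 yf16 zf45) (kf xf10 yf20 zf59)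 (kf xf28 yf2 zf45) (kf xf28 yf2 zf46) (kf xf18 yf56 zf25) (kf xf24 yf47 zf56) (kf xf24 yf47 zf57) (kf xf24 yf47 zf58) (kf xf24 yf47 zf59) (kf xf27 yf55 zf21) (kf xf28 yf16 zf56) (kf xf27 yf55 zf22) (kf xf18 yf58 zf25) (kf xf18 yf59 zf46) (kf xf28 yf8 zf23) (kf xf10 yf22 zf42) (kf xf18 yf54 zf42) (kf xf20 yf46 zf43) (kf xf28 yf17 zf1) (kf xf18 yf46 zf10) (kf xf17 yf19 zf48) (kf xf17 yf33 zf58) (kf xf28 yf17 zf4) (kf xf28 yf17 zf0) (kf xf25 yf46 zf7) (kf xf28 yf17 zf11) (kf xf10 yf21 zf13) (kf xf17 yf25 zf11) (kf xf10 yf21 zf14) (kf xf25 yf30 zf53) (kf xf17 yf20 zf25) (kf xf18 yf54 zf36) (kf xf25 yf30 zf51) (kf xf24 yf0 zf36) (kf xf25 yf30 zf55) (kf xf25 yf30 zf42) (kf xf10 yf21 zf17) (kf xf10 yf41 zf46) (kf xf19 yf0 zf53) (kf xf19 yf43 zf27) (kf xf18 yf54 zf56) (kf xf24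 yf21 zf53) (kf xf18 yf58 zf59) (kf xf24 yf25 zf38) (kf xf28 yf14 zf49) (kf xf23 yf51 zf29) (kf xf17 yf31 zf36) (kf xf28 yf14 zf51) (kf xf28 yf17 zf19) (kf xf22 yf34 zf24) (kf xf28 yf17 zf25) (kf xf10 yf21 zf26) (kf xf12 yf9 zf34) (kf xf28 yf2 zf44) (kf xf27 yf8 zf9) (kf xf10 yf21 zf28) (kf xf28 yf2 zf47) (kf xf18 yf20 zf21) (kf xf28 yf17 zf35) (kf xf10 yf21 zf29) (kf xf28 yf2 zf37) (kf xf14 yf42 zf53)) (@D3.rec (fun _ => Pt) (kf xf20 yf11 zf45) (kf xf14 yf42 zf54) (kf xf18 yf55 zf11) (kf xf28 yf2 zf40) (kf xf23 yf50 zf18) (kf xf28 yf2 zf41) (kf xf23 yf23 zf1) (kf xf28 yf2 zf42) (kf xf24 yf28 zf4) (kf xf22 yf34 zf36) (kf xf14 yf27 zf51) (kf xf10 yf21 zf35) (kf xf27 yf8 zf5) (kf xf24 yf28 zf8) (kf xf10 yf21 zf36) (kf xf25 yf30 zf48) (kf xf28 yf17 zf49) (kf xf10 yf21 zf37)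 (kf xf10 yf42 zf6) (kf xf27 yf34 zf56) (kf xf28 yf17 zf54) (kf xf17 yf21 zf49) (kf xf27 yf59 zf54) (kf xf16 yf55 zf50) (kf xf10 yf21 zf41) (kf xf27 yf35 zf52) (kf xf28 yf17 zf58) (kf xf10 yf21 zf42) (kf xf20 yf45 zf33) (kf xf10 yf42 zf19) (kf xf16 yf55 zf54) (kf xf27 yf59 zf55) (kf xf10 yf42 zf21) (kf xf16 yf51 zf45) (kf xf26 yf59 zf51) (kf xf16 yf21 zf46) (kf xf28 yf18 zf0) (kf xf15 yf56 zf38) (kf xf21 yf54 zf34) (kf xf28 yf18 zf4) (kf xf10 yf21 zf49) (kf xf20 yf11 zf20) (kf xf22 yf4 zf45) (kf xf10 yf21 zf50) (kf xf10 yf32 zf18) (kf xf18 yf55 zf40) (kf xf11 yf0 zf17) (kf xf14 yf12 zf44) (kf xf13 yf22 zf5) (kf xf24 yf26 zf53) (kf xf11 yf15 zf22) (kf xf11 yf16 zf7) (kf xf17 yf24 zf53) (kf xf17 yf24 zf61) (kf xf17 yf25 zf0) (kf xf11 yf0 zf32) (kf xf27 yf8 zf49) (kf xf20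 yf11 zf38) (kf xf23 yf54 zf60) (kf xf17 yf24 zf56) (kf xf18 yf55 zf56) (kf xf18 yf55 zf57)) (@D3.rec (fun _ => Pt) (kf xf19 yf42 zf3) (kf xf18 yf55 zf58) (kf xf18 yf55 zf59) (kf xf12 yf51 zf58) (kf xf18 yf55 zf61) (kf xf18 yf56 zf0) (kf xf18 yf56 zf1) (kf xf18 yf56 zf2) (kf xf10 yf54 zf19) (kf xf17 yf23 zf10) (kf xf18 yf56 zf4) (kf xf18 yf56 zf5) (kf xf18 yf56 zf6) (kf xf18 yf56 zf7) (kf xf13 yf41 zf6) (kf xf18 yf56 zf29) (kf xf18 yf56 zf8) (kf xf18 yf56 zf9) (kf xf22 yf49 zf35) (kf xf13 yf49 zf29) (kf xf19 yf1 zf28) (kf xf16 yf42 zf37) (kf xf26 yf32 zf28) (kf xf26 yf32 zf29) (kf xf16 yf42 zf40) (kf xf22 yf28 zf40) (kf xf23 yf13 zf48) (kf xf16 yf22 zf17) (kf xf26 yf32 zf27) (kf xf16 yf49 zf9) (kf xf17 yf46 zf59) (kf xf15 yf5 zf49) (kf xf18 yf56 zf31) (kf xf19 yf1 zf23)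 (kf xf19 yf1 zf22) (kf xf18 yf22 zf47) (kf xf10 yf22 zf26) (kf xf13 yf49 zf39) (kf xf26 yf32 zf26) (kf xf19 yf1 zf26) (kf xf18 yf20 zf2) (kf xf18 yf20 zf4) (kf xf26 yf32 zf10) (kf xf19 yf0 zf17) (kf xf16 yf22 zf18) (kf xf19 yf1 zf31) (kf xf10 yf22 zf58) (kf xf12 yf1 zf35) (kf xf12 yf47 zf41) (kf xf21 yf51 zf19) (kf xf18 yf13 zf60) (kf xf28 yf3 zf50) (kf xf10 yf22 zf40) (kf xf18 yf59 zf43) (kf xf10 yf36 zf43) (kf xf16 yf54 zf11) (kf xf18 yf28 zf1) (kf xf25 yf46 zf52) (kf xf20 yf46 zf38) (kf xf23 yf52 zf19) (kf xf19 yf18 zf8) (kf xf19 yf18 zf5)) (@D3.rec (fun _ => Pt) (kf xf10 yf22 zf44) (kf xf24 yf40 zf31) (kf xf24 yf40 zf30) (kf xf28 yf18 zf60) (kf xf10 yf22 zf45) (kf xf25 yf46 zf8) (kf xf12 yf58 zf47) (kf xf25 yf16 zf50) (kf xf21 yf54 zf35) (kf xf19 yf33 zf57) (kf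 xf10 yf22 zf50) (kf xf22 yf29 zf14) (kf xf18 yf15 zf17) (kf xf22 yf29 zf35) (kf xf17 yf23 zf2) (kf xf14 yf53 zf48) (kf xf21 yf37 zf51) (kf xf26 yf51 zf56) (kf xf10 yf36 zf41) (kf xf24 yf13 zf12) (kf xf10 yf22 zf59) (kf xf12 yf58 zf46) (kf xf21 yf36 zf19) (kf xf10 yf42 zf18) (kf xf23 yf2 zf52) (kf xf16 yf28 zf27) (kf xf21 yf51 zf53) (kf xf11 yf37 zf45) (kf xf28 yf19 zf7) (kf xf21 yf35 zf49) (kf xf12 yf34 zf39) (kf xf21 yf35 zf46) (kf xf26 yf55 zf23) (kf xf12 yf34 zf40) (kf xf10 yf23 zf6) (kf xf21 yf35 zf50) (kf xf11 yf24 zf24) (kf xf18 yf17 zf10) (kf xf12 yf44 zf53) (kf xf12 yf44 zf51) (kf xf19 yf32 zf17) (kf xf21 yf54 zf33) (kf xf18 yf17 zf4) (kf xf26 yf55 zf9) (kf xf26 yf55 zf10) (kf xf11 yf45 zf16) (kf xf11 yf45 zf15) (kf xf26 yf55 zf24) (kf xf21 yf22 zf9) (kf xf18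 yf57 zf57) (kf xf10 yf31 zf4) (kf xf23 yf47 zf38) (kf xf11 yf51 zf24) (kf xf17 yf33 zf12) (kf xf10 yf23 zf17) (kf xf10 yf23 zf19) (kf xf18 yf58 zf6) (kf xf17 yf50 zf38) (kf xf17 yf50 zf39) (kf xf17 yf50 zf40) (kf xf17 yf49 zf40) (kf xf27 yf43 zf58)) (@D3.rec (fun _ => Pt) (kf xf28 yf16 zf2) (kf xf10 yf23 zf25) (kf xf15 yf15 zf25) (kf xf15 yf15 zf26) (kf xf15 yf15 zf27) (kf xf15 yf15 zf28) (kf xf19 yf46 zf14) (kf xf28 yf19 zf24) (kf xf19 yf46 zf15) (kf xf19 yf34 zf45) (kf xf19 yf34 zf46) (kf xf26 yf10 zf41) (kf xf19 yf34 zf48) (kf xf19 yf46 zf26) (kf xf15 yf40 zf58) (kf xf15 yf40 zf56) (kf xf15 yf40 zf57) (kf xf15 yf40 zf38) (kf xf22 yf6 zf48) (kf xf15 yf15 zf55) (kf xf28 yf19 zf37) (kf xf15 yf15 zf53) (kf xf28 yf19 zf43) (kf xf15 yf15 zf60) (kf xf15 yf15 zf59) (kf xf10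 yf23 zf35) (kf xf10 yf24 zf15) (kf xf10 yf23 zf36) (kf xf21 yf0 zf14) (kf xf19 yf37 zf52) (kf xf19 yf37 zf47) (kf xf10 yf24 zf60) (kf xf10 yf24 zf61) (kf xf10 yf25 zf0) (kf xf10 yf25 zf1) (kf xf10 yf24 zf43) (kf xf10 yf24 zf44) (kf xf10 yf24 zf45) (kf xf10 yf24 zf46) (kf xf23 yf13 zf7) (kf xf17 yf51 zf13) (kf xf10 yf25 zf5) (kf xf10 yf25 zf31) (kf xf10 yf25 zf32) (kf xf10 yf25 zf33) (kf xf10 yf25 zf34) (kf xf15 yf36 zf9) (kf xf10 yf25 zf44) (kf xf10 yf25 zf45) (kf xf10 yf25 zf46) (kf xf10 yf25 zf47) (kf xf13 yf18 zf16) (kf xf10 yf23 zf54) (kf xf10 yf23 zf53) (kf xf27 yf32 zf2) (kf xf28 yf20 zf10) (kf xf28 yf20 zf12) (kf xf19 yf22 zf13) (kf xf10 yf23 zf52) (kf xf28 yf20 zf6) (kf xf25 yf46 zf47) (kf xf28 yf0 zf47)) (@D3.rec (fun _ => Pt) (kf xf19 yf21 zf61) (kf xf28 yf20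 zf5) (kf xf28 yf20 zf17) (kf xf28 yf20 zf16) (kf xf17 yf1 zf22) (kf xf17 yf1 zf8) (kf xf10 yf23 zf55) (kf xf18 yf45 zf18) (kf xf10 yf26 zf6) (kf xf10 yf24 zf25) (kf xf19 yf37 zf46) (kf xf10 yf26 zf13) (kf xf10 yf23 zf59) (kf xf17 yf1 zf19) (kf xf18 yf45 zf22) (kf xf15 yf37 zf48) (kf xf15 yf37 zf49) (kf xf15 yf37 zf50) (kf xf15 yf35 zf46) (kf xf28 yf19 zf35) (kf xf10 yf24 zf2) (kf xf19 yf54 zf26) (kf xf10 yf24 zf3) (kf xf25 yf20 zf12) (kf xf15 yf29 zf18) (kf xf25 yf20 zf13) (kf xf24 yf17 zf26) (kf xf19 yf46 zf20) (kf xf10 yf24 zf5) (kf xf15 yf35 zf4) (kf xf10 yf36 zf18) (kf xf10 yf24 zf9) (kf xf19 yf24 zf61) (kf xf24 yf17 zf3) (kf xf24 yf15 zf18) (kf xf19 yf36 zf25) (kf xf25 yf36 zf41) (kf xf17 yf53 zf10) (kf xf16 yf55 zf26) (kf xf10 yf24 zf18) (kf xf25 yf49 zf39) (kf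 xf10 yf24 zf24) (kf xf10 yf24 zf23) (kf xf25 yf25 zf24) (kf xf22 yf55 zf20) (kf xf28 yf20 zf41) (kf xf24 yf33 zf43) (kf xf10 yf24 zf22) (kf xf28 yf20 zf35) (kf xf16 yf13 zf6) (kf xf28 yf20 zf36) (kf xf24 yf33 zf36) (kf xf25 yf28 zf34) (kf xf26 yf26 zf11) (kf xf10 yf56 zf11) (kf xf15 yf40 zf3) (kf xf13 yf28 zf32) (kf xf10 yf56 zf12) (kf xf19 yf53 zf49) (kf xf19 yf53 zf50) (kf xf27 yf45 zf57) (kf xf19 yf51 zf0)) (@D3.rec (fun _ => Pt) (kf xf19 yf20 zf8) (kf xf18 yf55 zf5) (kf xf19 yf21 zf4) (kf xf27 yf30 zf19) (kf xf17 yf22 zf2) (kf xf18 yf20 zf20) (kf xf10 yf24 zf33) (kf xf17 yf23 zf12) (kf xf18 yf20 zf23) (kf xf28 yf5 zf8) (kf xf28 yf5 zf9) (kf xf28 yf5 zf10) (kf xf18 yf54 zf31) (kf xf22 yf50 zf26) (kf xf28 yf20 zf61) (kf xf10 yf24 zf39) (kf xf27 yf50 zf45) (kf xf28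 yf10 zf39) (kf xf22 yf50 zf28) (kf xf18 yf54 zf33) (kf xf28 yf21 zf7) (kf xf10 yf36 zf25) (kf xf18 yf4 zf61) (kf xf28 yf19 zf53) (kf xf18 yf54 zf28) (kf xf28 yf21 zf11) (kf xf28 yf19 zf54) (kf xf18 yf26 zf58) (kf xf18 yf54 zf29) (kf xf19 yf50 zf56) (kf xf28 yf19 zf56) (kf xf13 yf5 zf4) (kf xf25 yf56 zf13) (kf xf25 yf56 zf15) (kf xf28 yf19 zf57) (kf xf23 yf0 zf60) (kf xf13 yf4 zf52) (kf xf25 yf47 zf25) (kf xf10 yf24 zf47) (kf xf17 yf11 zf58) (kf xf25 yf57 zf60) (kf xf25 yf57 zf59) (kf xf18 yf45 zf52) (kf xf23 yf49 zf0) (kf xf18 yf58 zf8) (kf xf18 yf58 zf9) (kf xf18 yf58 zf10) (kf xf28 yf5 zf18) (kf xf18 yf39 zf56) (kf xf18 yf22 zf8) (kf xf10 yf24 zf58) (kf xf28 yf19 zf47) (kf xf27 yf32 zf24) (kf xf18 yf54 zf44) (kf xf18 yf46 zf18) (kf xf10 yf36 zf10) (kf xf18 yf54 zf45)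 (kf xf19 yf17 zf59) (kf xf28 yf19 zf49) (kf xf28 yf21 zf44) (kf xf28 yf19 zf50) (kf xf28 yf19 zf51)) (@D3.rec (fun _ => Pt) (kf xf28 yf19 zf52) (kf xf25 yf47 zf34) (kf xf18 yf46 zf11) (kf xf28 yf21 zf43) (kf xf16 yf40 zf40) (kf xf10 yf25 zf2) (kf xf25 yf47 zf38) (kf xf23 yf46 zf34) (kf xf18 yf45 zf41) (kf xf28 yf19 zf58) (kf xf19 yf21 zf3) (kf xf19 yf23 zf45) (kf xf19 yf23 zf44) (kf xf19 yf23 zf43) (kf xf27 yf12 zf10) (kf xf19 yf23 zf46) (kf xf19 yf23 zf48) (kf xf15 yf31 zf0) (kf xf15 yf31 zf1) (kf xf15 yf31 zf2) (kf xf18 yf46 zf39) (kf xf18 yf46 zf40) (kf xf18 yf5 zf60) (kf xf18 yf36 zf58) (kf xf18 yf46 zf43) (kf xf25 yf56 zf14) (kf xf18 yf28 zf0) (kf xf13 yf45 zf13) (kf xf18 yf53 zf24) (kf xf18 yf53 zf28) (kf xf22 yf59 zf42) (kf xf18 yf53 zf12) (kf xf28 yf22 zf23)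 (kf xf18 yf53 zf19) (kf xf28 yf22 zf29) (kf xf27 yf6 zf8) (kf xf18 yf47 zf31) (kf xf19 yf20 zf41) (kf xf19 yf6 zf29) (kf xf26 yf32 zf30) (kf xf27 yf32 zf10) (kf xf10 yf26 zf60) (kf xf18 yf47 zf16) (kf xf28 yf19 zf60) (kf xf18 yf53 zf53) (kf xf18 yf53 zf56) (kf xf28 yf19 zf61) (kf xf22 yf36 zf30) (kf xf22 yf15 zf30) (kf xf22 yf15 zf29) (kf xf10 yf25 zf35) (kf xf25 yf56 zf12) (kf xf10 yf54 zf8) (kf xf14 yf13 zf37) (kf xf27 yf5 zf36) (kf xf28 yf20 zf0) (kf xf18 yf47 zf40) (kf xf28 yf9 zf41) (kf xf26 yf32 zf23) (kf xf28 yf20 zf1) (kf xf13 yf34 zf31) (kf xf13 yf18 zf19)) (@D3.rec (fun _ => Pt) (kf xf28 yf20 zf2) (kf xf28 yf20 zf3) (kf xf28 yf20 zf4) (kf xf22 yf18 zf18) (kf xf23 yf53 zf51) (kf xf18 yf53 zf1) (kf xf28 yf23 zf5) (kf xf27 yf34 zf33) (kf xf14 yf16 zf56) (kf xf27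 yf47 zf2) (kf xf14 yf16 zf44) (kf xf18 yf48 zf2) (kf xf10 yf25 zf61) (kf xf28 yf23 zf8) (kf xf22 yf14 zf52) (kf xf28 yf23 zf16) (kf xf19 yf23 zf8) (kf xf10 yf25 zf54) (kf xf27 yf58 zf60) (kf xf28 yf23 zf21) (kf xf10 yf25 zf55) (kf xf19 yf23 zf10) (kf xf28 yf10 zf2) (kf xf10 yf26 zf1) (kf xf10 yf26 zf0) (kf xf28 yf23 zf12) (kf xf26 yf51 zf3) (kf xf28 yf23 zf26) (kf xf28 yf23 zf27) (kf xf25 yf36 zf11) (kf xf28 yf23 zf24) (kf xf28 yf23 zf25) (kf xf25 yf48 zf2) (kf xf27 yf22 zf43) (kf xf25 yf36 zf31) (kf xf28 yf23 zf47) (kf xf10 yf26 zf2) (kf xf26 yf50 zf35) (kf xf10 yf26 zf3) (kf xf28 yf23 zf50) (kf xf18 yf48 zf45) (kf xf28 yf20 zf25) (kf xf28 yf20 zf26) (kf xf25 yf36 zf10) (kf xf24 yf18 zf49) (kf xf14 yf17 zf9) (kf xf17 yf11 zf39) (kf xf19 yf36 zf48) (kf xf21 yf15 zf53)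 (kf xf25 yf25 zf15) (kf xf12 yf57 zf13) (kf xf28 yf20 zf27) (kf xf25 yf25 zf14) (kf xf10 yf26 zf15) (kf xf22 yf47 zf1) (kf xf27 yf14 zf11) (kf xf18 yf48 zf60) (kf xf18 yf48 zf61) (kf xf18 yf49 zf1) (kf xf18 yf49 zf2) (kf xf19 yf5 zf14) (kf xf18 yf49 zf4)) (@D3.rec (fun _ => Pt) (kf xf18 yf49 zf5) (kf xf18 yf49 zf6) (kf xf18 yf49 zf7) (kf xf16 yf45 zf52) (kf xf18 yf49 zf10) (kf xf18 yf49 zf11) (kf xf18 yf49 zf12) (kf xf18 yf49 zf13) (kf xf18 yf49 zf16) (kf xf18 yf49 zf17) (kf xf18 yf59 zf12) (kf xf18 yf59 zf11) (kf xf27 yf14 zf53) (kf xf10 yf26 zf27) (kf xf18 yf59 zf17) (kf xf18 yf59 zf18) (kf xf18 yf59 zf16) (kf xf18 yf41 zf27) (kf xf26 yf57 zf57) (kf xf10 yf26 zf30) (kf xf10 yf42 zf43) (kf xf18 yf59 zf25) (kf xf18 yf59 zf26) (kf xf10 yf42 zf46) (kf xf18 yf59 zf24)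 (kf xf18 yf47 zf4) (kf xf11 yf2 zf16) (kf xf11 yf2 zf19) (kf xf13 yf29 zf31) (kf xf18 yf49 zf15) (kf xf17 yf45 zf40) (kf xf18 yf49 zf32) (kf xf12 yf46 zf6) (kf xf11 yf12 zf29) (kf xf24 yf57 zf36) (kf xf23 yf6 zf46) (kf xf12 yf8 zf48) (kf xf18 yf38 zf57) (kf xf18 yf38 zf59) (kf xf28 yf24 zf45) (kf xf10 yf26 zf47) (kf xf26 yf19 zf49) (kf xf15 yf50 zf8) (kf xf10 yf27 zf14) (kf xf17 yf52 zf27) (kf xf10 yf27 zf17) (kf xf12 yf22 zf17) (kf xf18 yf34 zf60) (kf xf22 yf28 zf59) (kf xf11 yf17 zf4) (kf xf10 yf26 zf58) (kf xf21 yf53 zf57) (kf xf27 yf55 zf37) (kf xf28 yf21 zf47) (kf xf18 yf5 zf57) (kf xf22 yf59 zf60) (kf xf19 yf12 zf9) (kf xf22 yf59 zf59) (kf xf19 yf3 zf47) (kf xf24 yf18 zf39) (kf xf12 yf39 zf16) (kf xf27 yf9 zf41)) (@D3.rec (fun _ => Pt) (kf xf17 yf35 zf8) (kf xf15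 yf24 zf27) (kf xf27 yf44 zf13) (kf xf10 yf27 zf8) (kf xf14 yf18 zf61) (kf xf28 yf24 zf60) (kf xf19 yf1 zf54) (kf xf23 yf7 zf36) (kf xf22 yf28 zf50) (kf xf17 yf32 zf2) (kf xf27 yf4 zf3) (kf xf22 yf28 zf60) (kf xf18 yf35 zf38) (kf xf21 yf27 zf38) (kf xf10 yf27 zf15) (kf xf25 yf25 zf35) (kf xf21 yf41 zf17) (kf xf28 yf24 zf47) (kf xf23 yf53 zf2) (kf xf27 yf6 zf23) (kf xf24 yf15 zf38) (kf xf17 yf35 zf7) (kf xf21 yf31 zf2) (kf xf10 yf27 zf20) (kf xf21 yf27 zf39) (kf xf11 yf41 zf15) (kf xf20 yf33 zf56) (kf xf21 yf41 zf35) (kf xf10 yf27 zf37) (kf xf10 yf27 zf36) (kf xf17 yf10 zf31) (kf xf20 yf27 zf33) (kf xf20 yf34 zf15) (kf xf20 yf34 zf24) (kf xf10 yf27 zf28) (kf xf20 yf34 zf19) (kf xf28 yf25 zf15) (kf xf20 yf34 zf23) (kf xf24 yf14 zf29) (kf xf20 yf34 zf17) (kf xf28 yf25 zf21)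 (kf xf10 yf27 zf31) (kf xf20 yf33 zf53) (kf xf20 yf33 zf54) (kf xf14 yf17 zf1) (kf xf23 yf55 zf37) (kf xf20 yf33 zf57) (kf xf20 yf33 zf59) (kf xf23 yf54 zf51) (kf xf24 yf7 zf22) (kf xf27 yf8 zf13) (kf xf14 yf11 zf51) (kf xf20 yf40 zf34) (kf xf12 yf38 zf44) (kf xf18 yf39 zf50) (kf xf20 yf40 zf35) (kf xf21 yf40 zf6) (kf xf18 yf50 zf49) (kf xf17 yf52 zf21) (kf xf17 yf33 zf29) (kf xf17 yf10 zf1) (kf xf21 yf1 zf30)) (@D3.rec (fun _ => Pt) (kf xf17 yf8 zf54) (kf xf12 yf55 zf6) (kf xf10 yf27 zf43) (kf xf18 yf22 zf35) (kf xf17 yf15 zf53) (kf xf10 yf27 zf46) (kf xf18 yf50 zf56) (kf xf18 yf38 zf38) (kf xf18 yf53 zf44) (kf xf18 yf53 zf45) (kf xf18 yf53 zf46) (kf xf27 yf34 zf58) (kf xf27 yf34 zf55) (kf xf25 yf33 zf60) (kf xf27 yf52 zf3) (kf xf27 yf52 zf4) (kf xf18 yf58 zf24) (kf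 xf16 yf22 zf1) (kf xf18 yf58 zf30) (kf xf17 yf46 zf34) (kf xf28 yf25 zf47) (kf xf18 yf16 zf50) (kf xf10 yf28 zf4) (kf xf19 yf6 zf24) (kf xf18 yf58 zf16) (kf xf18 yf47 zf12) (kf xf27 yf31 zf61) (kf xf27 yf53 zf56) (kf xf25 yf2 zf60) (kf xf28 yf25 zf52) (kf xf18 yf58 zf18) (kf xf15 yf3 zf55) (kf xf19 yf0 zf48) (kf xf19 yf0 zf49) (kf xf19 yf0 zf50) (kf xf18 yf59 zf4) (kf xf19 yf0 zf52) (kf xf20 yf8 zf16) (kf xf19 yf0 zf54) (kf xf28 yf26 zf0) (kf xf28 yf25 zf56) (kf xf28 yf25 zf55) (kf xf28 yf26 zf5) (kf xf10 yf28 zf18) (kf xf18 yf38 zf53) (kf xf18 yf38 zf52) (kf xf23 yf31 zf29) (kf xf10 yf28 zf19) (kf xf18 yf38 zf58) (kf xf18 yf38 zf56) (kf xf26 yf32 zf22) (kf xf17 yf9 zf22) (kf xf25 yf42 zf54) (kf xf10 yf28 zf22) (kf xf17 yf45 zf44) (kf xf18 yf39 zf5) (kf xf18 yf39 zf6)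 (kf xf18 yf39 zf3) (kf xf18 yf39 zf4) (kf xf18 yf47 zf42) (kf xf19 yf1 zf12) (kf xf26 yf32 zf24)) (@D3.rec (fun _ => Pt) (kf xf19 yf1 zf13) (kf xf16 yf23 zf8) (kf xf19 yf1 zf14) (kf xf14 yf42 zf60) (kf xf18 yf58 zf35) (kf xf19 yf1 zf16) (kf xf28 yf26 zf21) (kf xf21 yf15 zf9) (kf xf28 yf26 zf17) (kf xf28 yf26 zf26) (kf xf10 yf28 zf31) (kf xf18 yf56 zf11) (kf xf18 yf56 zf10) (kf xf28 yf13 zf41) (kf xf10 yf28 zf32) (kf xf11 yf23 zf42) (kf xf18 yf56 zf16) (kf xf18 yf56 zf14) (kf xf18 yf56 zf15) (kf xf18 yf19 zf50) (kf xf18 yf23 zf9) (kf xf10 yf28 zf35) (kf xf16 yf21 zf57) (kf xf16 yf21 zf59) (kf xf18 yf56 zf24) (kf xf18 yf56 zf21) (kf xf18 yf56 zf22) (kf xf10 yf36 zf2) (kf xf28 yf26 zf44) (kf xf28 yf26 zf47) (kf xf10 yf28 zf42) (kf xf18 yf59 zf47) (kf xf19 yf1 zf43) (kf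 xf18 yf59 zf45) (kf xf16 yf21 zf19) (kf xf28 yf26 zf48) (kf xf16 yf22 zf33) (kf xf19 yf1 zf37) (kf xf28 yf26 zf56) (kf xf10 yf28 zf49) (kf xf18 yf19 zf35) (kf xf24 yf7 zf38) (kf xf10 yf28 zf50) (kf xf18 yf49 zf53) (kf xf19 yf0 zf8) (kf xf18 yf59 zf33) (kf xf18 yf47 zf13) (kf xf18 yf59 zf31) (kf xf14 yf58 zf55) (kf xf11 yf13 zf38) (kf xf28 yf27 zf2) (kf xf11 yf13 zf14) (kf xf12 yf7 zf2) (kf xf20 yf8 zf11) (kf xf22 yf28 zf49) (kf xf28 yf27 zf0) (kf xf28 yf27 zf5) (kf xf10 yf28 zf56) (kf xf19 yf1 zf48) (kf xf23 yf3 zf51) (kf xf10 yf28 zf57) (kf xf18 yf20 zf12))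
def f_f_19 : D2 → D3 → Pt := @D2.rec (fun _ => D3 → Pt) (@D3.rec (fun _ => Pt) (kf xf11 yf11 zf47) (kf xf18 yf24 zf29) (kf xf10 yf28 zf58) (kf xf16 yf21 zf16) (kf xf20 yf21 zf8) (kf xf19 yf0 zf22) (kf xf28 yf27 zf9) (kf xf10 yf28 zf61) (kf xf18 yf59 zf44) (kf xf19 yf0 zf20) (kf xf19 yf0 zf21) (kf xf28 yf27 zf13) (kf xf19 yf0 zf16) (kf xf28 yf27 zf14) (kf xf10 yf29 zf1) (kf xf28 yf27 zf15) (kf xf19 yf0 zf12) (kf xf18 yf49 zf43) (kf xf23 yf31 zf32) (kf xf10 yf29 zf3) (kf xf19 yf0 zf9) (kf xf19 yf0 zf10) (kf xf19 yf0 zf5) (kf xf28 yf27 zf20) (kf xf10 yf29 zf5) (kf xf19 yf2 zf23) (kf xf19 yf2 zf22) (kf xf27 yf54 zf45) (kf xf19 yf2 zf28) (kf xf19 yf2 zf26) (kf xf11 yf15 zf14) (kf xf14 yf58 zf43) (kf xf16 yf21 zf36) (kf xf19 yf2 zf30) (kf xf19 yf2 zf33) (kf xf16 yf12 zf51)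 (kf xf15 yf12 zf12) (kf xf27 yf47 zf3) (kf xf27 yf47 zf14) (kf xf27 yf47 zf5) (kf xf27 yf33 zf42) (kf xf18 yf16 zf58) (kf xf12 yf58 zf50) (kf xf12 yf19 zf26) (kf xf12 yf19 zf24) (kf xf25 yf3 zf47) (kf xf25 yf3 zf46) (kf xf10 yf29 zf24) (kf xf18 yf58 zf32) (kf xf18 yf58 zf33) (kf xf18 yf58 zf34) (kf xf14 yf25 zf31) (kf xf18 yf58 zf36) (kf xf18 yf47 zf38) (kf xf18 yf58 zf38) (kf xf26 yf17 zf37) (kf xf20 yf18 zf28) (kf xf26 yf17 zf38) (kf xf18 yf19 zf52) (kf xf18 yf19 zf54) (kf xf18 yf22 zf3) (kf xf18 yf22 zf2)) (@D3.rec (fun _ => Pt) (kf xf26 yf39 zf15) (kf xf10 yf29 zf32) (kf xf18 yf19 zf43) (kf xf18 yf19 zf46) (kf xf18 yf22 zf10) (kf xf18 yf22 zf9) (kf xf26 yf39 zf19) (kf xf22 yf3 zf59) (kf xf22 yf3 zf58) (kf xf20 yf57 zf34) (kf xf10 yf29 zf39) (kf xf28 yf27 zf60) (kf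 xf18 yf58 zf60) (kf xf18 yf59 zf0) (kf xf18 yf59 zf2) (kf xf24 yf28 zf21) (kf xf18 yf59 zf5) (kf xf28 yf28 zf4) (kf xf24 yf28 zf18) (kf xf24 yf46 zf36) (kf xf28 yf28 zf10) (kf xf10 yf29 zf46) (kf xf18 yf49 zf34) (kf xf18 yf49 zf33) (kf xf26 yf26 zf28) (kf xf10 yf29 zf47) (kf xf18 yf49 zf39) (kf xf18 yf20 zf7) (kf xf18 yf49 zf20) (kf xf18 yf42 zf20) (kf xf10 yf29 zf50) (kf xf18 yf49 zf45) (kf xf18 yf19 zf10) (kf xf18 yf19 zf11) (kf xf21 yf13 zf29) (kf xf28 yf28 zf18) (kf xf10 yf29 zf59) (kf xf18 yf59 zf37) (kf xf28 yf28 zf22) (kf xf10 yf29 zf60) (kf xf18 yf41 zf17) (kf xf28 yf28 zf25) (kf xf10 yf29 zf61) (kf xf18 yf59 zf32) (kf xf24 yf46 zf33) (kf xf27 yf57 zf46) (kf xf18 yf19 zf25) (kf xf26 yf20 zf33) (kf xf18 yf59 zf58) (kf xf22 yf46 zf14) (kf xf10 yf30 zf5) (kf xf17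 yf2 zf55) (kf xf10 yf30 zf6) (kf xf26 yf19 zf54) (kf xf18 yf57 zf6) (kf xf15 yf32 zf13) (kf xf14 yf35 zf2) (kf xf10 yf30 zf9) (kf xf18 yf7 zf34) (kf xf18 yf7 zf45) (kf xf14 yf35 zf18) (kf xf10 yf30 zf10)) (@D3.rec (fun _ => Pt) (kf xf27 yf46 zf12) (kf xf26 yf13 zf3) (kf xf26 yf19 zf51) (kf xf23 yf19 zf10) (kf xf10 yf30 zf12) (kf xf27 yf48 zf14) (kf xf22 yf51 zf46) (kf xf22 yf29 zf32) (kf xf27 yf31 zf17) (kf xf21 yf28 zf32) (kf xf28 yf26 zf14) (kf xf28 yf27 zf16) (kf xf23 yf33 zf49) (kf xf10 yf30 zf17) (kf xf15 yf14 zf35) (kf xf24 yf56 zf11) (kf xf19 yf2 zf20) (kf xf19 yf2 zf19) (kf xf10 yf30 zf19) (kf xf19 yf2 zf17) (kf xf19 yf2 zf16) (kf xf25 yf0 zf52) (kf xf19 yf0 zf26) (kf xf19 yf0 zf25) (kf xf28 yf28 zf46) (kf xf10 yf30 zf22) (kf xf19 yf0 zf29) (kf xf16 yf21 zf1)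 (kf xf19 yf0 zf28) (kf xf16 yf51 zf54) (kf xf19 yf0 zf33) (kf xf16 yf52 zf39) (kf xf16 yf39 zf57) (kf xf19 yf0 zf34) (kf xf21 yf55 zf9) (kf xf24 yf23 zf12) (kf xf10 yf34 zf2) (kf xf10 yf34 zf3) (kf xf10 yf34 zf4) (kf xf10 yf34 zf5) (kf xf14 yf38 zf32) (kf xf23 yf0 zf33) (kf xf10 yf33 zf57) (kf xf10 yf33 zf56) (kf xf19 yf12 zf10) (kf xf10 yf30 zf34) (kf xf10 yf33 zf60) (kf xf10 yf34 zf24) (kf xf10 yf34 zf25) (kf xf10 yf34 zf26) (kf xf10 yf34 zf27) (kf xf28 yf29 zf10) (kf xf28 yf29 zf13) (kf xf19 yf11 zf32) (kf xf10 yf30 zf39) (kf xf10 yf34 zf15) (kf xf10 yf34 zf16) (kf xf10 yf34 zf17) (kf xf10 yf34 zf18) (kf xf28 yf29 zf19) (kf xf28 yf29 zf21) (kf xf19 yf13 zf49)) (@D3.rec (fun _ => Pt) (kf xf10 yf30 zf42) (kf xf10 yf30 zf45) (kf xf10 yf30 zf44) (kf xf28 yf29 zf24) (kf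 xf28 yf29 zf26) (kf xf24 yf26 zf28) (kf xf10 yf30 zf43) (kf xf24 yf27 zf11) (kf xf26 yf7 zf51) (kf xf28 yf29 zf29) (kf xf21 yf9 zf54) (kf xf21 yf9 zf55) (kf xf21 yf9 zf56) (kf xf17 yf26 zf11) (kf xf10 yf34 zf50) (kf xf22 yf20 zf3) (kf xf10 yf34 zf48) (kf xf24 yf38 zf35) (kf xf10 yf34 zf55) (kf xf10 yf34 zf54) (kf xf10 yf30 zf50) (kf xf10 yf37 zf23) (kf xf10 yf37 zf24) (kf xf10 yf37 zf25) (kf xf10 yf35 zf47) (kf xf10 yf35 zf48) (kf xf10 yf35 zf49) (kf xf10 yf36 zf13) (kf xf10 yf36 zf14) (kf xf10 yf36 zf15) (kf xf28 yf29 zf44) (kf xf19 yf8 zf16) (kf xf10 yf30 zf58) (kf xf10 yf36 zf5) (kf xf10 yf36 zf6) (kf xf10 yf36 zf7) (kf xf24 yf23 zf13) (kf xf24 yf23 zf14) (kf xf10 yf37 zf48) (kf xf10 yf37 zf49) (kf xf10 yf37 zf51) (kf xf10 yf37 zf55) (kf xf10 yf37 zf57) (kf xf10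 yf37 zf58) (kf xf10 yf37 zf59) (kf xf28 yf19 zf12) (kf xf10 yf36 zf40) (kf xf18 yf56 zf58) (kf xf10 yf36 zf42) (kf xf28 yf19 zf13) (kf xf10 yf36 zf48) (kf xf10 yf36 zf50) (kf xf10 yf36 zf46) (kf xf10 yf36 zf47) (kf xf10 yf36 zf53) (kf xf10 yf36 zf52) (kf xf28 yf30 zf11) (kf xf10 yf31 zf7) (kf xf10 yf36 zf58) (kf xf10 yf35 zf31) (kf xf10 yf35 zf32) (kf xf10 yf35 zf33)) (@D3.rec (fun _ => Pt) (kf xf14 yf47 zf50) (kf xf10 yf36 zf21) (kf xf23 yf59 zf23) (kf xf24 yf20 zf43) (kf xf10 yf36 zf31) (kf xf10 yf36 zf32) (kf xf28 yf30 zf18) (kf xf24 yf19 zf22) (kf xf24 yf19 zf21) (kf xf24 yf19 zf41) (kf xf10 yf38 zf4) (kf xf10 yf38 zf3) (kf xf28 yf30 zf27) (kf xf10 yf31 zf19) (kf xf10 yf38 zf11) (kf xf10 yf38 zf12) (kf xf10 yf38 zf9) (kf xf10 yf38 zf14) (kf xf10 yf38 zf13) (kf xf28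 yf30 zf38) (kf xf10 yf31 zf22) (kf xf10 yf38 zf21) (kf xf10 yf38 zf22) (kf xf10 yf39 zf2) (kf xf10 yf39 zf3) (kf xf26 yf36 zf47) (kf xf20 yf27 zf12) (kf xf10 yf39 zf50) (kf xf10 yf39 zf51) (kf xf10 yf39 zf55) (kf xf10 yf39 zf58) (kf xf14 yf1 zf12) (kf xf20 yf12 zf25) (kf xf10 yf39 zf27) (kf xf26 yf36 zf38) (kf xf26 yf36 zf36) (kf xf19 yf15 zf5) (kf xf10 yf39 zf4) (kf xf14 yf36 zf26) (kf xf10 yf39 zf9) (kf xf23 yf34 zf7) (kf xf10 yf31 zf49) (kf xf10 yf40 zf4) (kf xf28 yf28 zf59) (kf xf10 yf40 zf0) (kf xf10 yf40 zf10) (kf xf26 yf0 zf23) (kf xf10 yf40 zf46) (kf xf10 yf40 zf47) (kf xf28 yf1 zf22) (kf xf10 yf40 zf48) (kf xf10 yf40 zf50) (kf xf10 yf40 zf53) (kf xf24 yf1 zf20) (kf xf10 yf40 zf58) (kf xf10 yf40 zf59) (kf xf10 yf40 zf60) (kf xf21 yf9 zf12) (kf xf24 yf27 zf52)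 (kf xf10 yf40 zf20) (kf xf10 yf40 zf24) (kf xf10 yf40 zf25)) (@D3.rec (fun _ => Pt) (kf xf10 yf40 zf34) (kf xf10 yf41 zf5) (kf xf12 yf11 zf34) (kf xf10 yf32 zf11) (kf xf24 yf28 zf36) (kf xf11 yf0 zf46) (kf xf19 yf17 zf39) (kf xf24 yf26 zf24) (kf xf10 yf32 zf7) (kf xf25 yf10 zf12) (kf xf27 yf38 zf49) (kf xf25 yf47 zf26) (kf xf23 yf50 zf12) (kf xf18 yf8 zf47) (kf xf18 yf55 zf60) (kf xf10 yf42 zf9) (kf xf10 yf42 zf10) (kf xf28 yf18 zf8) (kf xf28 yf18 zf9) (kf xf10 yf42 zf3) (kf xf10 yf42 zf4) (kf xf23 yf36 zf41) (kf xf10 yf42 zf12) (kf xf28 yf31 zf6) (kf xf10 yf32 zf20) (kf xf10 yf42 zf23) (kf xf10 yf42 zf24) (kf xf10 yf42 zf25) (kf xf10 yf42 zf34) (kf xf28 yf8 zf57) (kf xf10 yf42 zf30) (kf xf28 yf30 zf49) (kf xf10 yf42 zf38) (kf xf10 yf42 zf42) (kf xf15 yf45 zf12) (kf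 xf10 yf42 zf44) (kf xf15 yf45 zf17) (kf xf10 yf42 zf48) (kf xf15 yf3 zf17) (kf xf17 yf39 zf37) (kf xf25 yf41 zf56) (kf xf25 yf41 zf57) (kf xf16 yf0 zf57) (kf xf16 yf0 zf53) (kf xf16 yf0 zf58) (kf xf26 yf0 zf56) (kf xf10 yf32 zf37) (kf xf20 yf16 zf22) (kf xf21 yf56 zf26) (kf xf23 yf30 zf36) (kf xf20 yf16 zf21) (kf xf24 yf34 zf12) (kf xf21 yf31 zf22) (kf xf22 yf22 zf13) (kf xf24 yf51 zf56) (kf xf24 yf33 zf21) (kf xf19 yf6 zf7) (kf xf17 yf53 zf5) (kf xf19 yf6 zf11) (kf xf27 yf56 zf49) (kf xf19 yf16 zf41) (kf xf10 yf32 zf46)) (@D3.rec (fun _ => Pt) (kf xf25 yf32 zf56) (kf xf28 yf31 zf25) (kf xf15 yf20 zf40) (kf xf25 yf10 zf33) (kf xf26 yf1 zf8) (kf xf26 yf1 zf9) (kf xf28 yf31 zf28) (kf xf19 yf5 zf56) (kf xf28 yf31 zf34) (kf xf15 yf1 zf10) (kf xf28 yf31 zf41) (kf xf19 yf5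 zf58) (kf xf10 yf32 zf53) (kf xf19 yf6 zf16) (kf xf25 yf37 zf22) (kf xf25 yf37 zf23) (kf xf19 yf6 zf13) (kf xf26 yf32 zf8) (kf xf26 yf32 zf9) (kf xf16 yf34 zf18) (kf xf28 yf31 zf50) (kf xf28 yf31 zf53) (kf xf28 yf31 zf55) (kf xf10 yf32 zf58) (kf xf18 yf58 zf23) (kf xf28 yf31 zf57) (kf xf28 yf7 zf15) (kf xf10 yf33 zf0) (kf xf19 yf42 zf20) (kf xf18 yf54 zf38) (kf xf27 yf33 zf43) (kf xf28 yf8 zf19) (kf xf27 yf52 zf29) (kf xf26 yf20 zf57) (kf xf27 yf47 zf39) (kf xf15 yf12 zf6) (kf xf27 yf52 zf30) (kf xf28 yf32 zf7) (kf xf28 yf5 zf45) (kf xf28 yf5 zf20) (kf xf28 yf5 zf24) (kf xf28 yf5 zf46) (kf xf26 yf32 zf15) (kf xf26 yf32 zf14) (kf xf10 yf33 zf7) (kf xf21 yf55 zf14) (kf xf21 yf55 zf13) (kf xf15 yf24 zf57) (kf xf10 yf35 zf12) (kf xf27 yf18 zf58) (kf xf28 yf4 zf53) (kf xf16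 yf2 zf6) (kf xf15 yf52 zf26) (kf xf26 yf50 zf61) (kf xf15 yf52 zf18) (kf xf18 yf41 zf36) (kf xf12 yf54 zf2) (kf xf18 yf41 zf37) (kf xf15 yf52 zf14) (kf xf24 yf16 zf47) (kf xf24 yf16 zf52) (kf xf19 yf8 zf3)) (@D3.rec (fun _ => Pt) (kf xf21 yf30 zf40) (kf xf28 yf32 zf35) (kf xf28 yf4 zf54) (kf xf28 yf4 zf55) (kf xf28 yf4 zf56) (kf xf19 yf8 zf5) (kf xf26 yf45 zf25) (kf xf24 yf22 zf56) (kf xf21 yf54 zf21) (kf xf19 yf7 zf57) (kf xf28 yf30 zf20) (kf xf24 yf22 zf54) (kf xf21 yf54 zf20) (kf xf19 yf7 zf58) (kf xf24 yf22 zf57) (kf xf17 yf26 zf2) (kf xf22 yf35 zf42) (kf xf22 yf57 zf15) (kf xf17 yf35 zf50) (kf xf24 yf48 zf29) (kf xf24 yf12 zf35) (kf xf22 yf36 zf5) (kf xf20 yf27 zf27) (kf xf15 yf27 zf43) (kf xf22 yf53 zf32) (kf xf14 yf52 zf20) (kf xf28 yf5 zf53) (kf xf26 yf27 zf36)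 (kf xf22 yf39 zf38) (kf xf10 yf33 zf36) (kf xf10 yf36 zf17) (kf xf10 yf36 zf20) (kf xf24 yf23 zf15) (kf xf24 yf23 zf16) (kf xf24 yf23 zf17) (kf xf10 yf36 zf0) (kf xf10 yf36 zf4) (kf xf15 yf25 zf43) (kf xf15 yf25 zf45) (kf xf26 yf28 zf13) (kf xf15 yf25 zf23) (kf xf21 yf16 zf12) (kf xf10 yf33 zf41) (kf xf16 yf2 zf30) (kf xf19 yf15 zf6) (kf xf17 yf35 zf47) (kf xf17 yf35 zf48) (kf xf17 yf35 zf49) (kf xf10 yf38 zf61) (kf xf10 yf45 zf31) (kf xf25 yf53 zf0) (kf xf26 yf36 zf46) (kf xf25 yf20 zf46) (kf xf10 yf39 zf6) (kf xf17 yf26 zf7) (kf xf26 yf36 zf48) (kf xf28 yf33 zf26) (kf xf19 yf7 zf9) (kf xf19 yf7 zf13) (kf xf22 yf35 zf39) (kf xf28 yf33 zf31) (kf xf24 yf19 zf42)) (@D3.rec (fun _ => Pt) (kf xf14 yf38 zf16) (kf xf28 yf33 zf36) (kf xf10 yf33 zf52) (kf xf19 yf6 zf61) (kf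 xf24 yf13 zf30) (kf xf19 yf7 zf5) (kf xf28 yf33 zf42) (kf xf24 yf12 zf41) (kf xf28 yf28 zf54) (kf xf23 yf0 zf32) (kf xf10 yf33 zf55) (kf xf28 yf28 zf57) (kf xf28 yf28 zf58) (kf xf28 yf28 zf55) (kf xf28 yf28 zf56) (kf xf10 yf40 zf3) (kf xf19 yf3 zf31) (kf xf28 yf34 zf1) (kf xf10 yf33 zf58) (kf xf28 yf28 zf61) (kf xf22 yf27 zf9) (kf xf20 yf29 zf59) (kf xf21 yf0 zf42) (kf xf10 yf40 zf8) (kf xf21 yf3 zf39) (kf xf28 yf28 zf52) (kf xf21 yf1 zf10) (kf xf23 yf0 zf28) (kf xf14 yf48 zf31) (kf xf14 yf39 zf23) (kf xf14 yf39 zf21) (kf xf28 yf28 zf53) (kf xf14 yf38 zf52) (kf xf28 yf34 zf10) (kf xf14 yf40 zf25) (kf xf10 yf34 zf6) (kf xf24 yf12 zf14) (kf xf28 yf34 zf20) (kf xf10 yf34 zf7) (kf xf16 yf55 zf21) (kf xf10 yf39 zf29) (kf xf26 yf36 zf37) (kf xf26 yf36 zf23) (kf xf10 yf34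 zf10) (kf xf21 yf0 zf59) (kf xf10 yf39 zf36) (kf xf26 yf36 zf34) (kf xf26 yf36 zf35) (kf xf26 yf20 zf39) (kf xf27 yf22 zf23) (kf xf24 yf38 zf40) (kf xf28 yf22 zf61) (kf xf25 yf24 zf22) (kf xf22 yf20 zf23) (kf xf28 yf29 zf15) (kf xf24 yf39 zf45) (kf xf28 yf29 zf17) (kf xf25 yf25 zf1) (kf xf25 yf36 zf24) (kf xf19 yf37 zf26) (kf xf22 yf17 zf9) (kf xf28 yf34 zf37)) (@D3.rec (fun _ => Pt) (kf xf10 yf34 zf19) (kf xf22 yf7 zf24) (kf xf28 yf29 zf11) (kf xf28 yf34 zf38) (kf xf10 yf34 zf21) (kf xf15 yf44 zf5) (kf xf28 yf34 zf43) (kf xf10 yf34 zf22) (kf xf28 yf29 zf0) (kf xf28 yf1 zf21) (kf xf27 yf24 zf14) (kf xf24 yf51 zf26) (kf xf28 yf29 zf1) (kf xf10 yf40 zf51) (kf xf28 yf29 zf2) (kf xf28 yf34 zf54) (kf xf28 yf29 zf4) (kf xf28 yf29 zf5) (kf xf28 yf29 zf6) (kf xf28 yf35 zf1)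 (kf xf24 yf27 zf53) (kf xf28 yf34 zf52) (kf xf28 yf35 zf11) (kf xf10 yf34 zf28) (kf xf28 yf8 zf45) (kf xf22 yf20 zf12) (kf xf28 yf35 zf16) (kf xf10 yf34 zf29) (kf xf28 yf35 zf19) (kf xf10 yf34 zf30) (kf xf10 yf34 zf41) (kf xf10 yf41 zf10) (kf xf10 yf34 zf39) (kf xf10 yf34 zf40) (kf xf21 yf11 zf33) (kf xf27 yf24 zf13) (kf xf27 yf24 zf24) (kf xf24 yf27 zf0) (kf xf21 yf11 zf10) (kf xf23 yf45 zf28) (kf xf25 yf59 zf26) (kf xf10 yf34 zf36) (kf xf28 yf34 zf3) (kf xf28 yf35 zf31) (kf xf10 yf34 zf37) (kf xf28 yf33 zf14) (kf xf27 yf24 zf15) (kf xf28 yf35 zf21) (kf xf10 yf34 zf43) (kf xf10 yf34 zf42) (kf xf21 yf9 zf53) (kf xf19 yf42 zf0) (kf xf28 yf35 zf37) (kf xf20 yf46 zf57) (kf xf28 yf35 zf44) (kf xf28 yf35 zf35) (kf xf24 yf13 zf33) (kf xf28 yf35 zf51) (kf xf17 yf20 zf58) (kf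 xf17 yf26 zf47) (kf xf10 yf34 zf57) (kf xf20 yf27 zf17)) (@D3.rec (fun _ => Pt) (kf xf10 yf34 zf45) (kf xf10 yf34 zf44) (kf xf28 yf35 zf40) (kf xf28 yf35 zf39) (kf xf10 yf42 zf0) (kf xf10 yf42 zf1) (kf xf10 yf42 zf2) (kf xf28 yf29 zf31) (kf xf24 yf38 zf39) (kf xf20 yf35 zf58) (kf xf28 yf24 zf28) (kf xf28 yf5 zf60) (kf xf28 yf5 zf56) (kf xf28 yf36 zf10) (kf xf10 yf34 zf51) (kf xf10 yf34 zf53) (kf xf28 yf5 zf49) (kf xf28 yf5 zf48) (kf xf28 yf36 zf11) (kf xf28 yf29 zf34) (kf xf27 yf51 zf35) (kf xf27 yf58 zf59) (kf xf15 yf52 zf12) (kf xf28 yf29 zf33) (kf xf27 yf51 zf34) (kf xf27 yf59 zf30) (kf xf28 yf36 zf34) (kf xf17 yf26 zf55) (kf xf17 yf21 zf47) (kf xf19 yf10 zf30) (kf xf19 yf10 zf29) (kf xf17 yf49 zf1) (kf xf17 yf49 zf2) (kf xf28 yf11 zf20) (kf xf19 yf14 zf57) (kf xf19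 yf14 zf58) (kf xf28 yf36 zf42) (kf xf21 yf55 zf10) (kf xf16 yf20 zf23) (kf xf16 yf20 zf16) (kf xf19 yf22 zf47) (kf xf24 yf14 zf47) (kf xf21 yf48 zf30) (kf xf22 yf10 zf31) (kf xf20 yf54 zf28) (kf xf10 yf54 zf22) (kf xf18 yf16 zf6) (kf xf19 yf14 zf27) (kf xf10 yf35 zf20) (kf xf17 yf49 zf20) (kf xf17 yf49 zf21) (kf xf21 yf38 zf60) (kf xf21 yf38 zf57) (kf xf10 yf35 zf23) (kf xf12 yf20 zf30) (kf xf17 yf49 zf12) (kf xf17 yf49 zf13) (kf xf17 yf49 zf14) (kf xf15 yf24 zf19) (kf xf10 yf35 zf28) (kf xf18 yf32 zf29) (kf xf14 yf47 zf48)) (@D3.rec (fun _ => Pt) (kf xf17 yf51 zf53) (kf xf17 yf23 zf47) (kf xf14 yf47 zf47) (kf xf17 yf51 zf54) (kf xf22 yf21 zf39) (kf xf17 yf49 zf48) (kf xf17 yf49 zf49) (kf xf17 yf49 zf46) (kf xf17 yf49 zf47) (kf xf27 yf38 zf54) (kf xf16 yf39 zf19) (kf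 xf28 yf37 zf0) (kf xf19 yf59 zf26) (kf xf10 yf35 zf42) (kf xf15 yf27 zf56) (kf xf15 yf28 zf59) (kf xf15 yf28 zf60) (kf xf15 yf28 zf61) (kf xf28 yf37 zf11) (kf xf19 yf29 zf50) (kf xf26 yf35 zf26) (kf xf19 yf41 zf21) (kf xf28 yf29 zf38) (kf xf26 yf34 zf54) (kf xf26 yf55 zf54) (kf xf27 yf19 zf17) (kf xf27 yf18 zf51) (kf xf10 yf35 zf50) (kf xf25 yf40 zf28) (kf xf25 yf40 zf29) (kf xf25 yf40 zf25) (kf xf25 yf40 zf26) (kf xf19 yf2 zf53) (kf xf25 yf40 zf18) (kf xf10 yf35 zf53) (kf xf23 yf12 zf21) (kf xf24 yf20 zf37) (kf xf25 yf40 zf22) (kf xf25 yf40 zf36) (kf xf28 yf33 zf11) (kf xf19 yf20 zf7) (kf xf28 yf20 zf50) (kf xf26 yf56 zf38) (kf xf22 yf6 zf14) (kf xf28 yf33 zf12) (kf xf19 yf20 zf5) (kf xf19 yf20 zf4) (kf xf28 yf17 zf57) (kf xf10 yf36 zf1) (kf xf22 yf14 zf19) (kf xf22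 yf14 zf8) (kf xf27 yf23 zf46) (kf xf27 yf23 zf47) (kf xf19 yf23 zf18) (kf xf28 yf26 zf45) (kf xf28 yf26 zf36) (kf xf26 yf34 zf27) (kf xf25 yf49 zf16) (kf xf25 yf46 zf4) (kf xf28 yf30 zf28) (kf xf28 yf29 zf47) (kf xf20 yf2 zf56)) (@D3.rec (fun _ => Pt) (kf xf25 yf46 zf5) (kf xf24 yf17 zf53) (kf xf28 yf38 zf4) (kf xf18 yf46 zf14) (kf xf19 yf17 zf58) (kf xf28 yf38 zf3) (kf xf24 yf15 zf59) (kf xf28 yf38 zf14) (kf xf10 yf36 zf9) (kf xf18 yf56 zf56) (kf xf19 yf2 zf44) (kf xf28 yf34 zf41) (kf xf10 yf36 zf11) (kf xf19 yf33 zf25) (kf xf28 yf29 zf39) (kf xf27 yf38 zf60) (kf xf19 yf29 zf20) (kf xf28 yf29 zf40) (kf xf23 yf57 zf26) (kf xf19 yf18 zf2) (kf xf28 yf33 zf1) (kf xf19 yf17 zf32) (kf xf19 yf18 zf3) (kf xf28 yf38 zf31) (kf xf23 yf58 zf31) (kf xf28 yf32 zf37) (kf xf28 yf33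 zf2) (kf xf19 yf17 zf61) (kf xf19 yf17 zf60) (kf xf28 yf18 zf58) (kf xf10 yf36 zf19) (kf xf19 yf23 zf29) (kf xf28 yf26 zf40) (kf xf28 yf26 zf58) (kf xf25 yf40 zf44) (kf xf28 yf30 zf14) (kf xf15 yf1 zf34) (kf xf19 yf17 zf44) (kf xf28 yf38 zf52) (kf xf21 yf53 zf14) (kf xf27 yf36 zf32) (kf xf16 yf31 zf31) (kf xf28 yf38 zf55) (kf xf10 yf36 zf24) (kf xf26 yf34 zf25) (kf xf18 yf46 zf22) (kf xf27 yf36 zf30) (kf xf24 yf17 zf12) (kf xf21 yf54 zf16) (kf xf28 yf38 zf57) (kf xf10 yf36 zf28) (kf xf24 yf21 zf27) (kf xf10 yf36 zf34) (kf xf24 yf24 zf20) (kf xf28 yf7 zf50) (kf xf14 yf35 zf1) (kf xf28 yf38 zf58) (kf xf25 yf30 zf57) (kf xf10 yf36 zf33) (kf xf26 yf56 zf58) (kf xf18 yf2 zf27) (kf xf28 yf38 zf59)) (@D3.rec (fun _ => Pt) (kf xf24 yf16 zf40) (kf xf18 yf2 zf24) (kf xf24 yf10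 zf0) (kf xf24 yf24 zf49) (kf xf28 yf38 zf60) (kf xf10 yf36 zf36) (kf xf25 yf46 zf3) (kf xf25 yf46 zf6) (kf xf21 yf39 zf10) (kf xf20 yf27 zf9) (kf xf10 yf36 zf39) (kf xf28 yf29 zf56) (kf xf22 yf29 zf25) (kf xf28 yf19 zf3) (kf xf17 yf50 zf25) (kf xf28 yf29 zf57) (kf xf24 yf46 zf24) (kf xf28 yf18 zf53) (kf xf24 yf24 zf58) (kf xf28 yf29 zf58) (kf xf28 yf39 zf20) (kf xf10 yf36 zf44) (kf xf28 yf29 zf46) (kf xf28 yf29 zf61) (kf xf28 yf30 zf0) (kf xf16 yf38 zf30) (kf xf28 yf30 zf1) (kf xf23 yf57 zf30) (kf xf10 yf47 zf19) (kf xf28 yf29 zf60) (kf xf20 yf45 zf61) (kf xf20 yf46 zf1) (kf xf26 yf39 zf5) (kf xf17 yf31 zf30) (kf xf28 yf30 zf5) (kf xf28 yf30 zf6) (kf xf28 yf39 zf46) (kf xf28 yf30 zf2) (kf xf28 yf30 zf3) (kf xf28 yf30 zf8) (kf xf28 yf30 zf7) (kf xf28 yf39 zf54) (kf xf20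 yf57 zf19) (kf xf10 yf36 zf54) (kf xf28 yf39 zf21) (kf xf24 yf49 zf8) (kf xf24 yf49 zf9) (kf xf26 yf55 zf55) (kf xf12 yf52 zf5) (kf xf19 yf2 zf61) (kf xf28 yf30 zf13) (kf xf16 yf38 zf22) (kf xf16 yf38 zf23) (kf xf17 yf28 zf52) (kf xf26 yf42 zf39) (kf xf11 yf25 zf51) (kf xf20 yf57 zf23) (kf xf20 yf57 zf24) (kf xf22 yf24 zf61) (kf xf20 yf57 zf21) (kf xf20 yf57 zf17) (kf xf25 yf10 zf20)) (@D3.rec (fun _ => Pt) (kf xf20 yf38 zf55) (kf xf26 yf37 zf61) (kf xf28 yf40 zf22) (kf xf28 yf40 zf21) (kf xf28 yf40 zf28) (kf xf10 yf37 zf6) (kf xf16 yf38 zf13) (kf xf16 yf38 zf15) (kf xf28 yf30 zf10) (kf xf28 yf40 zf34) (kf xf10 yf37 zf7) (kf xf16 yf40 zf30) (kf xf20 yf56 zf50) (kf xf20 yf56 zf51) (kf xf20 yf56 zf3) (kf xf25 yf10 zf6) (kf xf27 yf44 zf45) (kf xf25 yf10 zf7) (kf xf19 yf14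 zf22) (kf xf26 yf33 zf18) (kf xf12 yf54 zf36) (kf xf16 yf39 zf30) (kf xf19 yf14 zf18) (kf xf28 yf40 zf43) (kf xf20 yf57 zf12) (kf xf20 yf57 zf11) (kf xf10 yf37 zf19) (kf xf19 yf10 zf47) (kf xf13 yf9 zf45) (kf xf22 yf45 zf25) (kf xf26 yf14 zf35) (kf xf28 yf29 zf36) (kf xf19 yf18 zf24) (kf xf28 yf29 zf37) (kf xf27 yf37 zf15) (kf xf19 yf18 zf25) (kf xf24 yf20 zf53) (kf xf22 yf12 zf23) (kf xf24 yf24 zf21) (kf xf24 yf29 zf26) (kf xf24 yf29 zf20) (kf xf27 yf44 zf38) (kf xf23 yf45 zf10) (kf xf24 yf23 zf4) (kf xf15 yf44 zf52) (kf xf28 yf41 zf14) (kf xf10 yf37 zf27) (kf xf23 yf44 zf53) (kf xf23 yf44 zf52) (kf xf22 yf10 zf14) (kf xf10 yf37 zf28) (kf xf16 yf50 zf50) (kf xf16 yf50 zf51) (kf xf28 yf40 zf52) (kf xf28 yf40 zf51) (kf xf28 yf41 zf24) (kf xf10 yf37 zf30) (kf xf19 yf10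 zf34) (kf xf19 yf10 zf35) (kf xf21 yf47 zf28) (kf xf16 yf21 zf31) (kf xf26 yf22 zf34)) (@D3.rec (fun _ => Pt) (kf xf14 yf36 zf38) (kf xf14 yf36 zf37) (kf xf17 yf50 zf30) (kf xf17 yf50 zf31) (kf xf15 yf24 zf47) (kf xf19 yf4 zf36) (kf xf19 yf7 zf44) (kf xf24 yf17 zf57) (kf xf19 yf39 zf25) (kf xf15 yf36 zf44) (kf xf19 yf18 zf46) (kf xf26 yf48 zf0) (kf xf24 yf24 zf19) (kf xf24 yf34 zf14) (kf xf24 yf29 zf16) (kf xf18 yf5 zf1) (kf xf28 yf21 zf8) (kf xf24 yf20 zf57) (kf xf19 yf48 zf13) (kf xf24 yf20 zf58) (kf xf19 yf18 zf48) (kf xf18 yf4 zf57) (kf xf24 yf20 zf59) (kf xf28 yf29 zf53) (kf xf22 yf15 zf6) (kf xf10 yf38 zf0) (kf xf14 yf30 zf23) (kf xf22 yf23 zf31) (kf xf14 yf35 zf15) (kf xf10 yf59 zf57) (kf xf23 yf50 zf11) (kf xf24 yf29 zf21) (kf xf28 yf29 zf55) (kf xf23 yf51 zf47)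 (kf xf28 yf41 zf47) (kf xf10 yf37 zf60) (kf xf24 yf17 zf5) (kf xf24 yf23 zf8) (kf xf24 yf20 zf29) (kf xf26 yf57 zf3) (kf xf26 yf48 zf6) (kf xf24 yf20 zf30) (kf xf13 yf44 zf36) (kf xf24 yf4 zf24) (kf xf10 yf38 zf1) (kf xf17 yf49 zf43) (kf xf28 yf30 zf23) (kf xf13 yf19 zf47) (kf xf28 yf30 zf21) (kf xf17 yf49 zf42) (kf xf28 yf30 zf22) (kf xf28 yf30 zf25) (kf xf28 yf30 zf24) (kf xf28 yf42 zf0) (kf xf10 yf38 zf5) (kf xf27 yf10 zf49) (kf xf26 yf45 zf29) (kf xf10 yf54 zf52) (kf xf19 yf32 zf34) (kf xf16 yf1 zf6) (kf xf15 yf48 zf52) (kf xf25 yf41 zf58)) (@D3.rec (fun _ => Pt) (kf xf19 yf23 zf36) (kf xf19 yf49 zf42) (kf xf21 yf0 zf54) (kf xf28 yf29 zf48) (kf xf28 yf30 zf29) (kf xf25 yf51 zf49) (kf xf28 yf30 zf30) (kf xf15 yf54 zf20) (kf xf20 yf28 zf44) (kf xf28 yf30 zf34) (kf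 xf28 yf42 zf13) (kf xf28 yf30 zf31) (kf xf28 yf30 zf32) (kf xf14 yf18 zf42) (kf xf28 yf30 zf36) (kf xf28 yf30 zf35) (kf xf28 yf42 zf24) (kf xf25 yf41 zf54) (kf xf10 yf38 zf15) (kf xf28 yf42 zf1) (kf xf25 yf31 zf16) (kf xf25 yf31 zf17) (kf xf19 yf41 zf19) (kf xf19 yf41 zf16) (kf xf18 yf41 zf34) (kf xf25 yf42 zf5) (kf xf19 yf23 zf24) (kf xf15 yf54 zf14) (kf xf15 yf51 zf14) (kf xf19 yf41 zf20) (kf xf25 yf41 zf6) (kf xf25 yf41 zf43) (kf xf15 yf47 zf54) (kf xf26 yf0 zf60) (kf xf24 yf43 zf13) (kf xf21 yf56 zf1) (kf xf26 yf48 zf13) (kf xf21 yf18 zf56) (kf xf24 yf36 zf11) (kf xf24 yf43 zf5) (kf xf10 yf38 zf27) (kf xf19 yf5 zf60) (kf xf25 yf41 zf55) (kf xf23 yf42 zf8) (kf xf10 yf38 zf28) (kf xf25 yf31 zf30) (kf xf26 yf0 zf20) (kf xf20 yf54 zf57) (kf xf26 yf1 zf31) (kf xf14 yf6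 zf52) (kf xf26 yf1 zf32) (kf xf13 yf58 zf24) (kf xf16 yf19 zf55) (kf xf16 yf19 zf56) (kf xf16 yf19 zf57) (kf xf26 yf0 zf53) (kf xf24 yf36 zf37) (kf xf26 yf0 zf54) (kf xf23 yf42 zf17) (kf xf26 yf0 zf26) (kf xf20 yf54 zf55) (kf xf22 yf31 zf9)) (@D3.rec (fun _ => Pt) (kf xf17 yf41 zf17) (kf xf20 yf54 zf56) (kf xf13 yf58 zf21) (kf xf23 yf42 zf42) (kf xf17 yf52 zf2) (kf xf10 yf41 zf32) (kf xf28 yf33 zf15) (kf xf14 yf38 zf20) (kf xf21 yf6 zf58) (kf xf28 yf42 zf60) (kf xf28 yf42 zf59) (kf xf21 yf18 zf52) (kf xf10 yf38 zf47) (kf xf17 yf50 zf60) (kf xf27 yf1 zf5) (kf xf15 yf38 zf43) (kf xf10 yf38 zf51) (kf xf26 yf44 zf41) (kf xf25 yf10 zf45) (kf xf10 yf38 zf56) (kf xf15 yf20 zf61) (kf xf14 yf33 zf46) (kf xf14 yf32 zf43) (kf xf14 yf33 zf50) (kf xf28 yf25 zf33) (kf xf17 yf29 zf2)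 (kf xf14 yf33 zf19) (kf xf20 yf46 zf3) (kf xf11 yf0 zf29) (kf xf11 yf0 zf38) (kf xf10 yf59 zf59) (kf xf18 yf44 zf20) (kf xf19 yf12 zf21) (kf xf19 yf52 zf12) (kf xf10 yf59 zf58) (kf xf18 yf42 zf8) (kf xf27 yf36 zf52) (kf xf18 yf36 zf14) (kf xf18 yf38 zf13) (kf xf19 yf5 zf6) (kf xf18 yf36 zf34) (kf xf10 yf39 zf16) (kf xf10 yf39 zf15) (kf xf14 yf38 zf21) (kf xf19 yf12 zf37) (kf xf28 yf13 zf0) (kf xf22 yf38 zf51) (kf xf28 yf43 zf9) (kf xf21 yf54 zf24) (kf xf16 yf26 zf19) (kf xf26 yf36 zf39) (kf xf26 yf35 zf12) (kf xf16 yf26 zf18) (kf xf28 yf43 zf19) (kf xf28 yf43 zf11) (kf xf26 yf22 zf26) (kf xf20 yf8 zf27) (kf xf10 yf39 zf17) (kf xf19 yf12 zf4) (kf xf18 yf53 zf57) (kf xf19 yf12 zf28) (kf xf19 yf12 zf27)) (@D3.rec (fun _ => Pt) (kf xf28 yf43 zf29) (kf xf10 yf39 zf20) (kf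 xf19 yf12 zf19) (kf xf19 yf12 zf22) (kf xf28 yf13 zf1) (kf xf18 yf49 zf61) (kf xf28 yf43 zf33) (kf xf26 yf50 zf8) (kf xf18 yf49 zf60) (kf xf10 yf39 zf25) (kf xf25 yf46 zf2) (kf xf19 yf51 zf49) (kf xf27 yf46 zf35) (kf xf12 yf23 zf35) (kf xf27 yf9 zf33) (kf xf10 yf41 zf13) (kf xf10 yf41 zf28) (kf xf20 yf29 zf22) (kf xf10 yf42 zf33) (kf xf28 yf34 zf26) (kf xf15 yf24 zf36) (kf xf24 yf29 zf19) (kf xf14 yf36 zf46) (kf xf27 yf44 zf27) (kf xf19 yf14 zf32) (kf xf19 yf14 zf35) (kf xf27 yf44 zf28) (kf xf28 yf43 zf52) (kf xf27 yf44 zf34) (kf xf21 yf12 zf27) (kf xf27 yf40 zf39) (kf xf10 yf39 zf44) (kf xf17 yf53 zf14) (kf xf17 yf53 zf15) (kf xf25 yf23 zf26) (kf xf17 yf53 zf11) (kf xf17 yf53 zf12) (kf xf17 yf15 zf29) (kf xf10 yf59 zf54) (kf xf14 yf22 zf15) (kf xf24 yf47 zf14) (kf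 xf24 yf47 zf13) (kf xf14 yf36 zf43) (kf xf26 yf46 zf1) (kf xf14 yf36 zf44) (kf xf28 yf30 zf43) (kf xf19 yf15 zf10) (kf xf11 yf0 zf2) (kf xf19 yf15 zf20) (kf xf27 yf46 zf24) (kf xf24 yf29 zf29) (kf xf24 yf29 zf27) (kf xf28 yf30 zf44) (kf xf22 yf36 zf10) (kf xf28 yf44 zf9) (kf xf22 yf14 zf60) (kf xf17 yf50 zf54) (kf xf28 yf44 zf11) (kf xf11 yf0 zf39) (kf xf28 yf30 zf48) (kf xf23 yf52 zf26) (kf xf28 yf33 zf54)) (@D3.rec (fun _ => Pt) (kf xf25 yf20 zf37) (kf xf22 yf32 zf28) (kf xf10 yf42 zf52) (kf xf14 yf33 zf48) (kf xf23 yf19 zf15) (kf xf10 yf41 zf31) (kf xf22 yf16 zf27) (kf xf28 yf34 zf5) (kf xf22 yf14 zf4) (kf xf22 yf15 zf25) (kf xf14 yf48 zf17) (kf xf10 yf42 zf37) (kf xf27 yf37 zf23) (kf xf22 yf26 zf26) (kf xf15 yf27 zf48) (kf xf16 yf41 zf5) (kf xf16 yf41 zf6) (kf xf20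 yf56 zf10) (kf xf14 yf30 zf45) (kf xf20 yf56 zf9) (kf xf16 yf40 zf23) (kf xf19 yf56 zf48) (kf xf28 yf44 zf32) (kf xf28 yf44 zf28) (kf xf28 yf44 zf27) (kf xf28 yf44 zf37) (kf xf10 yf40 zf16) (kf xf28 yf44 zf38) (kf xf10 yf40 zf17) (kf xf10 yf41 zf33) (kf xf21 yf3 zf49) (kf xf15 yf21 zf5) (kf xf14 yf34 zf11) (kf xf27 yf22 zf25) (kf xf28 yf30 zf57) (kf xf21 yf3 zf50) (kf xf13 yf6 zf54) (kf xf20 yf46 zf20) (kf xf24 yf28 zf59) (kf xf24 yf28 zf60) (kf xf15 yf58 zf42) (kf xf27 yf48 zf3) (kf xf24 yf39 zf61) (kf xf23 yf39 zf41) (kf xf13 yf52 zf39) (kf xf25 yf4 zf55) (kf xf19 yf46 zf43) (kf xf19 yf39 zf32) (kf xf25 yf4 zf58) (kf xf18 yf1 zf48) (kf xf24 yf16 zf34) (kf xf24 yf16 zf35) (kf xf17 yf48 zf56) (kf xf24 yf29 zf0) (kf xf17 yf48 zf57) (kf xf24 yf59 zf1) (kf xf16 yf18 zf4)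 (kf xf17 yf45 zf21) (kf xf13 yf53 zf50) (kf xf24 yf39 zf51) (kf xf24 yf39 zf52) (kf xf28 yf29 zf18)) (@D3.rec (fun _ => Pt) (kf xf23 yf59 zf58) (kf xf24 yf5 zf0) (kf xf28 yf45 zf0) (kf xf10 yf40 zf39) (kf xf19 yf11 zf46) (kf xf19 yf11 zf45) (kf xf27 yf59 zf1) (kf xf19 yf11 zf40) (kf xf18 yf53 zf0) (kf xf23 yf50 zf16) (kf xf15 yf20 zf60) (kf xf28 yf30 zf51) (kf xf28 yf34 zf49) (kf xf28 yf34 zf50) (kf xf23 yf50 zf14) (kf xf21 yf4 zf0) (kf xf17 yf3 zf28) (kf xf15 yf27 zf58) (kf xf24 yf50 zf37) (kf xf15 yf1 zf0) (kf xf27 yf37 zf10) (kf xf18 yf33 zf26) (kf xf18 yf33 zf29) (kf xf24 yf39 zf56) (kf xf24 yf21 zf54) (kf xf28 yf45 zf23) (kf xf10 yf40 zf57) (kf xf17 yf50 zf9) (kf xf28 yf45 zf25) (kf xf28 yf30 zf54) (kf xf17 yf50 zf10) (kf xf28 yf45 zf31) (kf xf20 yf21 zf21) (kf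 xf23 yf36 zf52) (kf xf24 yf27 zf12) (kf xf24 yf27 zf13) (kf xf28 yf29 zf8) (kf xf25 yf15 zf32) (kf xf28 yf15 zf29) (kf xf28 yf45 zf37) (kf xf10 yf41 zf45) (kf xf18 yf54 zf37) (kf xf12 yf11 zf33) (kf xf10 yf41 zf34) (kf xf28 yf43 zf35) (kf xf10 yf41 zf38) (kf xf24 yf47 zf51) (kf xf23 yf50 zf9) (kf xf25 yf50 zf58) (kf xf24 yf26 zf5) (kf xf24 yf29 zf28) (kf xf28 yf38 zf6) (kf xf28 yf15 zf15) (kf xf10 yf41 zf16) (kf xf24 yf27 zf42) (kf xf28 yf45 zf43) (kf xf10 yf41 zf17) (kf xf13 yf2 zf25) (kf xf17 yf53 zf30) (kf xf17 yf53 zf19) (kf xf19 yf32 zf33) (kf xf19 yf33 zf44)) (@D3.rec (fun _ => Pt) (kf xf10 yf41 zf21) (kf xf28 yf45 zf45) (kf xf10 yf41 zf22) (kf xf18 yf54 zf10) (kf xf18 yf53 zf2) (kf xf19 yf50 zf59) (kf xf19 yf50 zf57) (kf xf28 yf14 zf26) (kf xf26 yf51 zf32) (kf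 xf28 yf15 zf16) (kf xf10 yf41 zf25) (kf xf28 yf15 zf17) (kf xf11 yf34 zf18) (kf xf26 yf50 zf14) (kf xf20 yf31 zf31) (kf xf10 yf41 zf29) (kf xf16 yf21 zf30) (kf xf12 yf46 zf57) (kf xf13 yf30 zf40) (kf xf22 yf18 zf35) (kf xf10 yf41 zf35) (kf xf17 yf53 zf20) (kf xf10 yf57 zf20) (kf xf17 yf15 zf42) (kf xf26 yf51 zf31) (kf xf23 yf52 zf4) (kf xf22 yf14 zf43) (kf xf10 yf41 zf39) (kf xf24 yf26 zf31) (kf xf10 yf41 zf51) (kf xf28 yf15 zf9) (kf xf10 yf41 zf47) (kf xf10 yf41 zf48) (kf xf10 yf41 zf53) (kf xf10 yf41 zf52) (kf xf10 yf41 zf59) (kf xf25 yf50 zf28) (kf xf28 yf45 zf57) (kf xf28 yf46 zf6) (kf xf19 yf50 zf47) (kf xf19 yf50 zf45) (kf xf28 yf45 zf59) (kf xf26 yf51 zf24) (kf xf28 yf46 zf16) (kf xf28 yf14 zf56) (kf xf23 yf45 zf37) (kf xf10 yf41 zf49) (kf xf28 yf45 zf60) (kf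 xf20 yf7 zf41) (kf xf26 yf51 zf21) (kf xf25 yf40 zf47) (kf xf26 yf52 zf54) (kf xf28 yf45 zf58) (kf xf25 yf40 zf45) (kf xf26 yf52 zf57) (kf xf19 yf42 zf5) (kf xf13 yf53 zf44) (kf xf19 yf41 zf15) (kf xf19 yf42 zf1) (kf xf24 yf1 zf41) (kf xf10 yf41 zf55) (kf xf18 yf52 zf0)) (@D3.rec (fun _ => Pt) (kf xf23 yf48 zf45) (kf xf13 yf53 zf43) (kf xf10 yf41 zf56) (kf xf28 yf15 zf0) (kf xf28 yf15 zf3) (kf xf14 yf15 zf24) (kf xf28 yf15 zf5) (kf xf28 yf14 zf58) (kf xf23 yf6 zf45) (kf xf13 yf16 zf30) (kf xf28 yf45 zf61) (kf xf10 yf41 zf61) (kf xf21 yf59 zf55) (kf xf18 yf51 zf57) (kf xf28 yf35 zf54) (kf xf25 yf51 zf5) (kf xf21 yf35 zf59) (kf xf28 yf43 zf37) (kf xf28 yf35 zf60) (kf xf17 yf53 zf41) (kf xf17 yf28 zf26) (kf xf28 yf44 zf18) (kf xf26 yf15 zf53) (kf xf28 yf46 zf47) (kf xf26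 yf16 zf0) (kf xf27 yf56 zf17) (kf xf26 yf21 zf13) (kf xf27 yf47 zf61) (kf xf22 yf26 zf37) (kf xf10 yf42 zf5) (kf xf28 yf17 zf50) (kf xf22 yf26 zf24) (kf xf28 yf31 zf1) (kf xf28 yf46 zf49) (kf xf10 yf42 zf7) (kf xf27 yf52 zf5) (kf xf23 yf51 zf41) (kf xf18 yf31 zf6) (kf xf19 yf42 zf19) (kf xf28 yf46 zf57) (kf xf23 yf36 zf51) (kf xf28 yf46 zf61) (kf xf10 yf42 zf11) (kf xf28 yf31 zf4) (kf xf27 yf53 zf35) (kf xf28 yf47 zf2) (kf xf10 yf42 zf13) (kf xf19 yf10 zf40) (kf xf17 yf13 zf32) (kf xf17 yf13 zf28) (kf xf17 yf13 zf27) (kf xf24 yf43 zf43) (kf xf26 yf12 zf44) (kf xf28 yf17 zf59) (kf xf27 yf56 zf4) (kf xf22 yf20 zf56) (kf xf23 yf36 zf47) (kf xf21 yf24 zf56) (kf xf27 yf51 zf19) (kf xf22 yf20 zf15) (kf xf28 yf17 zf61) (kf xf27 yf16 zf47)) (@D3.rec (fun _ => Pt) (kf xf27 yf56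 zf0) (kf xf28 yf30 zf52) (kf xf28 yf31 zf7) (kf xf28 yf31 zf8) (kf xf21 yf34 zf50) (kf xf28 yf31 zf9) (kf xf25 yf48 zf13) (kf xf10 yf42 zf29) (kf xf18 yf55 zf16) (kf xf18 yf36 zf47) (kf xf18 yf55 zf21) (kf xf16 yf58 zf16) (kf xf27 yf11 zf13) (kf xf11 yf25 zf23) (kf xf25 yf5 zf52) (kf xf28 yf43 zf39) (kf xf20 yf2 zf29) (kf xf25 yf0 zf31) (kf xf19 yf11 zf53) (kf xf24 yf52 zf19) (kf xf24 yf27 zf22) (kf xf19 yf59 zf31) (kf xf17 yf42 zf8) (kf xf17 yf19 zf13) (kf xf19 yf16 zf26) (kf xf17 yf52 zf31) (kf xf20 yf51 zf46) (kf xf21 yf23 zf46) (kf xf24 yf19 zf34) (kf xf19 yf12 zf31) (kf xf14 yf36 zf57) (kf xf14 yf37 zf13) (kf xf16 yf57 zf49) (kf xf19 yf54 zf0) (kf xf16 yf16 zf30) (kf xf14 yf37 zf26) (kf xf19 yf16 zf0) (kf xf11 yf30 zf19) (kf xf20 yf59 zf36) (kf xf20 yf59 zf37)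 (kf xf20 yf59 zf38) (kf xf16 yf24 zf18) (kf xf26 yf43 zf39) (kf xf18 yf54 zf13) (kf xf18 yf54 zf12) (kf xf18 yf54 zf11) (kf xf18 yf54 zf15) (kf xf11 yf16 zf8) (kf xf18 yf54 zf16) (kf xf20 yf59 zf39) (kf xf20 yf59 zf40) (kf xf20 yf59 zf41) (kf xf26 yf43 zf38) (kf xf20 yf59 zf42) (kf xf20 yf59 zf43) (kf xf20 yf59 zf44) (kf xf20 yf59 zf45) (kf xf19 yf25 zf20) (kf xf20 yf59 zf47) (kf xf20 yf28 zf35) (kf xf19 yf43 zf41) (kf xf20 yf59 zf49)) (@D3.rec (fun _ => Pt) (kf xf20 yf28 zf37) (kf xf20 yf28 zf38) (kf xf20 yf59 zf53) (kf xf24 yf11 zf61) (kf xf16 yf46 zf45) (kf xf25 yf51 zf25) (kf xf16 yf46 zf46) (kf xf10 yf47 zf23) (kf xf28 yf47 zf59) (kf xf10 yf43 zf7) (kf xf24 yf21 zf18) (kf xf10 yf47 zf31) (kf xf25 yf51 zf29) (kf xf10 yf47 zf34) (kf xf18 yf41 zf61) (kf xf20 yf9 zf19)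 (kf xf21 yf0 zf3) (kf xf20 yf25 zf48) (kf xf20 yf9 zf21) (kf xf21 yf0 zf4) (kf xf21 yf0 zf5) (kf xf21 yf0 zf8) (kf xf20 yf26 zf5) (kf xf20 yf22 zf55) (kf xf20 yf25 zf57) (kf xf20 yf28 zf26) (kf xf15 yf4 zf48) (kf xf15 yf4 zf57) (kf xf10 yf49 zf52) (kf xf19 yf31 zf22) (kf xf19 yf31 zf23) (kf xf19 yf31 zf24) (kf xf19 yf31 zf25) (kf xf28 yf48 zf19) (kf xf20 yf58 zf61) (kf xf20 yf59 zf1) (kf xf19 yf26 zf3) (kf xf10 yf51 zf36) (kf xf26 yf44 zf26) (kf xf10 yf51 zf38) (kf xf20 yf59 zf3) (kf xf20 yf59 zf4) (kf xf20 yf59 zf5) (kf xf19 yf26 zf5) (kf xf24 yf58 zf24) (kf xf20 yf59 zf9) (kf xf17 yf32 zf45) (kf xf17 yf32 zf39) (kf xf20 yf59 zf10) (kf xf10 yf51 zf14) (kf xf17 yf19 zf28) (kf xf10 yf51 zf2) (kf xf10 yf50 zf47) (kf xf20 yf59 zf24) (kf xf10 yf52 zf47) (kf xf17 yf32 zf6)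 (kf xf20 yf59 zf26) (kf xf17 yf32 zf54) (kf xf10 yf52 zf48) (kf xf22 yf11 zf36) (kf xf10 yf52 zf49) (kf xf18 yf52 zf32)) (@D3.rec (fun _ => Pt) (kf xf17 yf32 zf55) (kf xf25 yf49 zf43) (kf xf12 yf49 zf38) (kf xf10 yf43 zf49) (kf xf20 yf59 zf30) (kf xf25 yf23 zf46) (kf xf10 yf52 zf10) (kf xf10 yf52 zf15) (kf xf10 yf52 zf18) (kf xf10 yf49 zf5) (kf xf10 yf48 zf27) (kf xf10 yf48 zf32) (kf xf21 yf0 zf44) (kf xf21 yf0 zf45) (kf xf21 yf0 zf46) (kf xf10 yf53 zf42) (kf xf10 yf53 zf43) (kf xf21 yf0 zf49) (kf xf13 yf23 zf26) (kf xf20 yf53 zf2) (kf xf19 yf23 zf57) (kf xf11 yf48 zf27) (kf xf16 yf56 zf44) (kf xf20 yf20 zf34) (kf xf26 yf45 zf4) (kf xf22 yf23 zf48) (kf xf17 yf19 zf12) (kf xf25 yf51 zf34) (kf xf25 yf51 zf33) (kf xf24 yf25 zf32) (kf xf10 yf44 zf2) (kf xf25 yf51 zf38)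 (kf xf22 yf0 zf59) (kf xf25 yf51 zf36) (kf xf25 yf51 zf37) (kf xf16 yf44 zf24) (kf xf28 yf49 zf2) (kf xf10 yf44 zf5) (kf xf25 yf51 zf42) (kf xf25 yf51 zf43) (kf xf16 yf2 zf27) (kf xf15 yf28 zf38) (kf xf25 yf9 zf30) (kf xf25 yf51 zf40) (kf xf21 yf0 zf55) (kf xf21 yf0 zf57) (kf xf19 yf33 zf48) (kf xf26 yf54 zf54) (kf xf25 yf23 zf29) (kf xf26 yf45 zf40) (kf xf21 yf36 zf42) (kf xf16 yf44 zf60) (kf xf16 yf56 zf24) (kf xf21 yf0 zf40) (kf xf20 yf29 zf57) (kf xf10 yf45 zf27) (kf xf10 yf57 zf29) (kf xf17 yf32 zf44) (kf xf17 yf32 zf38) (kf xf10 yf56 zf15) (kf xf21 yf0 zf15) (kf xf17 yf32 zf33)) (@D3.rec (fun _ => Pt) (kf xf17 yf32 zf9) (kf xf21 yf0 zf17) (kf xf27 yf6 zf25) (kf xf19 yf24 zf36) (kf xf25 yf35 zf0) (kf xf19 yf24 zf43) (kf xf17 yf43 zf13) (kf xf25 yf25 zf54) (kf xf17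 yf22 zf12) (kf xf24 yf33 zf41) (kf xf16 yf1 zf60) (kf xf16 yf1 zf61) (kf xf25 yf25 zf56) (kf xf25 yf25 zf57) (kf xf17 yf22 zf8) (kf xf11 yf47 zf58) (kf xf25 yf25 zf55) (kf xf10 yf56 zf59) (kf xf10 yf57 zf1) (kf xf21 yf1 zf8) (kf xf21 yf1 zf9) (kf xf10 yf57 zf39) (kf xf20 yf37 zf32) (kf xf20 yf34 zf58) (kf xf17 yf4 zf6) (kf xf21 yf1 zf11) (kf xf10 yf57 zf58) (kf xf19 yf56 zf25) (kf xf19 yf56 zf22) (kf xf21 yf1 zf13) (kf xf21 yf1 zf14) (kf xf21 yf1 zf15) (kf xf23 yf44 zf22) (kf xf20 yf29 zf51) (kf xf20 yf29 zf52) (kf xf20 yf29 zf53) (kf xf20 yf7 zf37) (kf xf20 yf29 zf54) (kf xf20 yf20 zf35) (kf xf20 yf9 zf28) (kf xf16 yf51 zf58) (kf xf15 yf44 zf20) (kf xf21 yf0 zf61) (kf xf18 yf7 zf58) (kf xf10 yf58 zf57) (kf xf18 yf7 zf55) (kf xf10 yf58 zf60) (kf xf20 yf57 zf4) (kf xf18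 yf7 zf61) (kf xf21 yf1 zf2) (kf xf18 yf7 zf60) (kf xf20 yf46 zf27) (kf xf10 yf59 zf28) (kf xf10 yf45 zf32) (kf xf17 yf1 zf50) (kf xf16 yf52 zf42) (kf xf17 yf32 zf42) (kf xf20 yf7 zf19) (kf xf15 yf29 zf13) (kf xf15 yf29 zf14) (kf xf20 yf1 zf48) (kf xf20 yf42 zf7)) (@D3.rec (fun _ => Pt) (kf xf20 yf17 zf48) (kf xf11 yf11 zf17) (kf xf22 yf11 zf58) (kf xf22 yf11 zf59) (kf xf10 yf59 zf56) (kf xf22 yf11 zf61) (kf xf25 yf20 zf43) (kf xf28 yf33 zf24) (kf xf28 yf49 zf60) (kf xf28 yf50 zf1) (kf xf10 yf45 zf21) (kf xf22 yf11 zf52) (kf xf22 yf11 zf57) (kf xf25 yf59 zf42) (kf xf10 yf45 zf22) (kf xf28 yf49 zf48) (kf xf14 yf38 zf28) (kf xf16 yf32 zf7) (kf xf10 yf45 zf23) (kf xf22 yf3 zf12) (kf xf15 yf5 zf7) (kf xf16 yf53 zf41) (kf xf20 yf0 zf15) (kf xf16 yf55 zf49) (kf xf11 yf14 zf12)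 (kf xf22 yf5 zf11) (kf xf22 yf5 zf12) (kf xf28 yf22 zf53) (kf xf17 yf1 zf48) (kf xf28 yf50 zf12) (kf xf12 yf5 zf40) (kf xf12 yf5 zf38) (kf xf17 yf1 zf49) (kf xf18 yf43 zf57) (kf xf10 yf45 zf44) (kf xf10 yf45 zf43) (kf xf10 yf45 zf36) (kf xf17 yf1 zf23) (kf xf20 yf27 zf60) (kf xf20 yf27 zf61) (kf xf11 yf31 zf0) (kf xf18 yf43 zf39) (kf xf11 yf31 zf51) (kf xf21 yf31 zf44) (kf xf10 yf45 zf42) (kf xf28 yf48 zf36) (kf xf11 yf0 zf49) (kf xf17 yf1 zf32) (kf xf11 yf1 zf23) (kf xf11 yf1 zf24) (kf xf28 yf49 zf18) (kf xf11 yf1 zf28) (kf xf20 yf29 zf23) (kf xf11 yf1 zf32) (kf xf18 yf24 zf45) (kf xf18 yf17 zf9) (kf xf11 yf42 zf11) (kf xf11 yf42 zf14) (kf xf11 yf2 zf12) (kf xf25 yf36 zf40) (kf xf25 yf47 zf2) (kf xf18 yf44 zf1)) (@D3.rec (fun _ => Pt) (kf xf18 yf44 zf2) (kf xf26 yf45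 zf15) (kf xf18 yf44 zf4) (kf xf18 yf44 zf6) (kf xf24 yf34 zf60) (kf xf18 yf44 zf8) (kf xf25 yf51 zf54) (kf xf18 yf44 zf9) (kf xf18 yf44 zf10) (kf xf18 yf44 zf11) (kf xf25 yf52 zf11) (kf xf25 yf52 zf12) (kf xf16 yf2 zf13) (kf xf16 yf2 zf9) (kf xf10 yf45 zf60) (kf xf24 yf15 zf54) (kf xf24 yf15 zf51) (kf xf12 yf50 zf32) (kf xf25 yf52 zf19) (kf xf25 yf52 zf22) (kf xf25 yf52 zf23) (kf xf25 yf52 zf24) (kf xf24 yf27 zf30) (kf xf17 yf28 zf44) (kf xf17 yf21 zf23) (kf xf19 yf29 zf7) (kf xf25 yf56 zf21) (kf xf24 yf11 zf56) (kf xf19 yf40 zf58) (kf xf28 yf50 zf41) (kf xf25 yf56 zf23) (kf xf24 yf11 zf55) (kf xf19 yf40 zf59) (kf xf28 yf50 zf52) (kf xf14 yf28 zf3) (kf xf14 yf28 zf2) (kf xf25 yf4 zf13) (kf xf10 yf47 zf15) (kf xf10 yf47 zf21) (kf xf10 yf47 zf20) (kf xf19 yf53 zf33) (kf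 xf10 yf47 zf32) (kf xf10 yf47 zf27) (kf xf19 yf53 zf32) (kf xf15 yf51 zf30) (kf xf15 yf51 zf31) (kf xf14 yf32 zf13) (kf xf25 yf13 zf51) (kf xf19 yf58 zf48) (kf xf14 yf28 zf58) (kf xf19 yf54 zf27) (kf xf26 yf42 zf50) (kf xf28 yf50 zf61) (kf xf26 yf42 zf52) (kf xf27 yf15 zf60) (kf xf28 yf50 zf60) (kf xf28 yf50 zf59) (kf xf24 yf25 zf9) (kf xf10 yf46 zf21) (kf xf27 yf15 zf61) (kf xf20 yf44 zf35) (kf xf25 yf48 zf28)) (@D3.rec (fun _ => Pt) (kf xf25 yf32 zf21) (kf xf25 yf32 zf22) (kf xf15 yf55 zf33) (kf xf25 yf32 zf6) (kf xf10 yf46 zf25) (kf xf25 yf32 zf19) (kf xf25 yf32 zf20) (kf xf19 yf28 zf25) (kf xf25 yf27 zf50) (kf xf19 yf57 zf42) (kf xf25 yf32 zf18) (kf xf24 yf49 zf25) (kf xf24 yf49 zf26) (kf xf24 yf49 zf27) (kf xf24 yf49 zf28) (kf xf28 yf51 zf27) (kf xf28 yf51 zf31)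 (kf xf11 yf5 zf17) (kf xf28 yf51 zf35) (kf xf10 yf46 zf33) (kf xf19 yf12 zf16) (kf xf25 yf32 zf33) (kf xf14 yf19 zf25) (kf xf19 yf57 zf60) (kf xf17 yf22 zf50) (kf xf25 yf32 zf36) (kf xf28 yf51 zf42) (kf xf18 yf44 zf22) (kf xf18 yf44 zf25) (kf xf17 yf3 zf36) (kf xf28 yf51 zf46) (kf xf28 yf51 zf40) (kf xf28 yf47 zf39) (kf xf28 yf51 zf55) (kf xf10 yf46 zf40) (kf xf26 yf42 zf58) (kf xf26 yf42 zf57) (kf xf28 yf51 zf60) (kf xf10 yf46 zf41) (kf xf25 yf17 zf13) (kf xf25 yf17 zf14) (kf xf26 yf43 zf1) (kf xf21 yf58 zf52) (kf xf28 yf16 zf44) (kf xf10 yf46 zf43) (kf xf15 yf56 zf14) (kf xf15 yf56 zf15) (kf xf26 yf43 zf3) (kf xf26 yf43 zf4) (kf xf26 yf43 zf5) (kf xf19 yf11 zf19) (kf xf23 yf45 zf30) (kf xf19 yf41 zf49) (kf xf28 yf52 zf16) (kf xf19 yf41 zf12) (kf xf19 yf41 zf14) (kf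 xf19 yf41 zf50) (kf xf28 yf52 zf23) (kf xf28 yf52 zf14) (kf xf28 yf52 zf13) (kf xf28 yf52 zf33) (kf xf10 yf46 zf50)) (@D3.rec (fun _ => Pt) (kf xf17 yf26 zf44) (kf xf19 yf41 zf59) (kf xf28 yf52 zf40) (kf xf10 yf46 zf51) (kf xf15 yf55 zf22) (kf xf28 yf52 zf44) (kf xf10 yf46 zf52) (kf xf26 yf43 zf12) (kf xf20 yf3 zf12) (kf xf14 yf30 zf47) (kf xf13 yf45 zf42) (kf xf14 yf30 zf54) (kf xf19 yf41 zf56) (kf xf28 yf52 zf48) (kf xf15 yf52 zf8) (kf xf19 yf41 zf57) (kf xf28 yf52 zf46) (kf xf28 yf47 zf47) (kf xf28 yf52 zf58) (kf xf10 yf46 zf58) (kf xf19 yf41 zf53) (kf xf19 yf41 zf52) (kf xf28 yf53 zf0) (kf xf10 yf46 zf59) (kf xf26 yf43 zf10) (kf xf28 yf17 zf34) (kf xf10 yf46 zf60) (kf xf17 yf50 zf15) (kf xf19 yf41 zf34) (kf xf13 yf11 zf14) (kf xf19 yf41 zf35) (kf xf28 yf53 zf12)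 (kf xf24 yf46 zf17) (kf xf13 yf11 zf13) (kf xf10 yf47 zf3) (kf xf26 yf43 zf22) (kf xf26 yf43 zf23) (kf xf19 yf41 zf37) (kf xf28 yf53 zf22) (kf xf19 yf41 zf38) (kf xf28 yf53 zf27) (kf xf20 yf59 zf48) (kf xf28 yf53 zf31) (kf xf10 yf47 zf6) (kf xf26 yf43 zf27) (kf xf22 yf21 zf3) (kf xf26 yf43 zf29) (kf xf26 yf43 zf30) (kf xf28 yf53 zf37) (kf xf26 yf43 zf32) (kf xf26 yf43 zf33) (kf xf26 yf43 zf34) (kf xf14 yf26 zf5) (kf xf20 yf29 zf1) (kf xf28 yf47 zf51) (kf xf23 yf57 zf44) (kf xf28 yf11 zf16) (kf xf23 yf57 zf23) (kf xf28 yf39 zf33) (kf xf11 yf55 zf60) (kf xf14 yf30 zf57) (kf xf28 yf47 zf57)) (@D3.rec (fun _ => Pt) (kf xf13 yf33 zf28) (kf xf19 yf53 zf28) (kf xf11 yf4 zf3) (kf xf15 yf55 zf41) (kf xf14 yf52 zf10) (kf xf15 yf33 zf20) (kf xf16 yf43 zf23) (kf xf25 yf24 zf21)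 (kf xf22 yf21 zf38) (kf xf24 yf49 zf51) (kf xf27 yf38 zf14) (kf xf15 yf22 zf4) (kf xf16 yf42 zf36) (kf xf20 yf52 zf51) (kf xf14 yf29 zf43) (kf xf23 yf46 zf33) (kf xf28 yf48 zf1) (kf xf14 yf52 zf9) (kf xf22 yf40 zf10) (kf xf25 yf32 zf23) (kf xf28 yf48 zf2) (kf xf16 yf43 zf25) (kf xf19 yf24 zf29) (kf xf19 yf24 zf30) (kf xf19 yf24 zf31) (kf xf19 yf24 zf32) (kf xf19 yf38 zf26) (kf xf25 yf12 zf41) (kf xf18 yf46 zf28) (kf xf18 yf46 zf27) (kf xf19 yf38 zf31) (kf xf18 yf46 zf26) (kf xf18 yf46 zf32) (kf xf18 yf46 zf33) (kf xf18 yf46 zf34) (kf xf18 yf46 zf35) (kf xf28 yf54 zf7) (kf xf16 yf39 zf56) (kf xf19 yf44 zf2) (kf xf20 yf58 zf18) (kf xf26 yf37 zf35) (kf xf26 yf34 zf44) (kf xf11 yf39 zf38) (kf xf20 yf58 zf40) (kf xf16 yf41 zf23) (kf xf26 yf52 zf16) (kf xf26 yf34 zf46) (kf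 xf28 yf54 zf21) (kf xf28 yf54 zf16) (kf xf28 yf54 zf15) (kf xf28 yf54 zf28) (kf xf10 yf47 zf48) (kf xf26 yf34 zf36) (kf xf26 yf34 zf35) (kf xf28 yf54 zf35) (kf xf10 yf47 zf49) (kf xf26 yf34 zf39) (kf xf22 yf27 zf25) (kf xf26 yf36 zf32) (kf xf22 yf27 zf26) (kf xf11 yf53 zf48) (kf xf26 yf34 zf40)) (@D3.rec (fun _ => Pt) (kf xf23 yf24 zf9) (kf xf10 yf47 zf52) (kf xf16 yf9 zf35) (kf xf16 yf6 zf34) (kf xf26 yf34 zf43) (kf xf22 yf27 zf20) (kf xf16 yf42 zf41) (kf xf26 yf34 zf42) (kf xf22 yf27 zf23) (kf xf16 yf5 zf48) (kf xf26 yf35 zf16) (kf xf26 yf40 zf31) (kf xf26 yf40 zf33) (kf xf16 yf48 zf11) (kf xf10 yf48 zf6) (kf xf10 yf48 zf5) (kf xf19 yf48 zf56) (kf xf18 yf50 zf40) (kf xf16 yf37 zf61) (kf xf26 yf46 zf46) (kf xf28 yf54 zf55) (kf xf21 yf9 zf35) (kf xf19 yf49 zf0) (kf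 xf10 yf48 zf10) (kf xf25 yf8 zf27) (kf xf25 yf40 zf38) (kf xf21 yf9 zf10) (kf xf19 yf57 zf44) (kf xf16 yf2 zf22) (kf xf19 yf57 zf45) (kf xf19 yf57 zf43) (kf xf11 yf50 zf36) (kf xf25 yf42 zf10) (kf xf19 yf20 zf60) (kf xf19 yf15 zf58) (kf xf20 yf52 zf35) (kf xf11 yf31 zf24) (kf xf21 yf36 zf52) (kf xf23 yf57 zf61) (kf xf12 yf55 zf29) (kf xf19 yf52 zf44) (kf xf20 yf28 zf29) (kf xf15 yf29 zf52) (kf xf19 yf53 zf20) (kf xf16 yf58 zf47) (kf xf19 yf58 zf26) (kf xf19 yf58 zf27) (kf xf19 yf58 zf28) (kf xf16 yf58 zf50) (kf xf19 yf55 zf29) (kf xf19 yf58 zf30) (kf xf19 yf44 zf15) (kf xf19 yf58 zf1) (kf xf28 yf55 zf12) (kf xf19 yf43 zf52) (kf xf10 yf48 zf53) (kf xf10 yf48 zf52) (kf xf10 yf48 zf45) (kf xf15 yf2 zf56) (kf xf16 yf58 zf55) (kf xf19 yf57 zf61) (kf xf15 yf2 zf57)) (@D3.rec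 (fun _ => Pt) (kf xf19 yf58 zf3) (kf xf28 yf55 zf18) (kf xf28 yf55 zf10) (kf xf28 yf55 zf9) (kf xf28 yf55 zf25) (kf xf10 yf48 zf49) (kf xf19 yf43 zf53) (kf xf10 yf59 zf46) (kf xf19 yf43 zf54) (kf xf23 yf30 zf4) (kf xf17 yf9 zf12) (kf xf10 yf48 zf51) (kf xf26 yf43 zf51) (kf xf28 yf55 zf14) (kf xf26 yf42 zf20) (kf xf28 yf55 zf13) (kf xf16 yf30 zf28) (kf xf20 yf1 zf7) (kf xf19 yf43 zf55) (kf xf10 yf48 zf57) (kf xf14 yf36 zf7) (kf xf19 yf44 zf18) (kf xf19 yf44 zf17) (kf xf17 yf34 zf37) (kf xf19 yf53 zf35) (kf xf19 yf12 zf13) (kf xf26 yf43 zf41) (kf xf20 yf52 zf52) (kf xf26 yf43 zf42) (kf xf25 yf13 zf49) (kf xf26 yf43 zf43) (kf xf25 yf50 zf19) (kf xf28 yf42 zf25) (kf xf11 yf0 zf30) (kf xf19 yf42 zf58) (kf xf19 yf41 zf40) (kf xf28 yf55 zf45) (kf xf26 yf43 zf55) (kf xf24 yf47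 zf28) (kf xf28 yf55 zf51) (kf xf10 yf49 zf20) (kf xf19 yf43 zf16) (kf xf19 yf43 zf17) (kf xf19 yf43 zf18) (kf xf19 yf20 zf61) (kf xf10 yf49 zf22) (kf xf24 yf36 zf22) (kf xf19 yf53 zf37) (kf xf19 yf25 zf46) (kf xf20 yf7 zf32) (kf xf10 yf49 zf24) (kf xf11 yf39 zf36) (kf xf16 yf38 zf43) (kf xf19 yf43 zf22) (kf xf28 yf55 zf55) (kf xf28 yf55 zf57) (kf xf16 yf41 zf20) (kf xf18 yf50 zf9) (kf xf28 yf55 zf53) (kf xf19 yf58 zf34) (kf xf28 yf55 zf61) (kf xf10 yf49 zf30)) (@D3.rec (fun _ => Pt) (kf xf20 yf38 zf52) (kf xf28 yf15 zf45) (kf xf19 yf41 zf41) (kf xf28 yf56 zf7) (kf xf26 yf43 zf46) (kf xf22 yf5 zf17) (kf xf28 yf56 zf14) (kf xf10 yf49 zf33) (kf xf19 yf43 zf25) (kf xf19 yf43 zf26) (kf xf24 yf25 zf36) (kf xf21 yf35 zf60) (kf xf28 yf56 zf18) (kf xf10 yf49 zf37) (kf xf26 yf43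 zf58) (kf xf26 yf43 zf59) (kf xf26 yf43 zf60) (kf xf14 yf16 zf33) (kf xf24 yf29 zf36) (kf xf17 yf56 zf25) (kf xf27 yf42 zf51) (kf xf20 yf45 zf28) (kf xf26 yf44 zf0) (kf xf10 yf49 zf45) (kf xf26 yf44 zf2) (kf xf26 yf53 zf7) (kf xf26 yf44 zf3) (kf xf26 yf44 zf4) (kf xf20 yf50 zf52) (kf xf19 yf43 zf33) (kf xf19 yf43 zf36) (kf xf26 yf44 zf6) (kf xf28 yf56 zf27) (kf xf14 yf18 zf41) (kf xf20 yf28 zf43) (kf xf28 yf48 zf9) (kf xf14 yf32 zf26) (kf xf15 yf4 zf60) (kf xf28 yf42 zf6) (kf xf24 yf4 zf13) (kf xf26 yf10 zf31) (kf xf26 yf36 zf29) (kf xf11 yf53 zf57) (kf xf26 yf36 zf30) (kf xf28 yf39 zf55) (kf xf18 yf51 zf9) (kf xf18 yf51 zf10) (kf xf28 yf56 zf42) (kf xf18 yf51 zf12) (kf xf26 yf44 zf42) (kf xf25 yf26 zf10) (kf xf25 yf26 zf33) (kf xf25 yf26 zf34) (kf xf25 yf26 zf35) (kf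 xf25 yf5 zf53) (kf xf22 yf2 zf46) (kf xf20 yf5 zf16) (kf xf25 yf5 zf51) (kf xf27 yf30 zf22) (kf xf25 yf5 zf56) (kf xf25 yf5 zf55) (kf xf25 yf26 zf51)) (@D3.rec (fun _ => Pt) (kf xf25 yf5 zf58) (kf xf25 yf5 zf59) (kf xf15 yf38 zf24) (kf xf25 yf5 zf60) (kf xf25 yf4 zf4) (kf xf23 yf24 zf18) (kf xf25 yf4 zf5) (kf xf25 yf32 zf9) (kf xf25 yf32 zf10) (kf xf10 yf50 zf39) (kf xf25 yf4 zf8) (kf xf14 yf30 zf34) (kf xf19 yf44 zf26) (kf xf25 yf25 zf48) (kf xf25 yf4 zf10) (kf xf14 yf30 zf35) (kf xf19 yf44 zf27) (kf xf24 yf42 zf48) (kf xf25 yf4 zf12) (kf xf14 yf17 zf56) (kf xf14 yf28 zf1) (kf xf14 yf32 zf6) (kf xf28 yf57 zf11) (kf xf14 yf24 zf19) (kf xf14 yf24 zf20) (kf xf14 yf24 zf21) (kf xf10 yf51 zf33) (kf xf10 yf51 zf32) (kf xf15 yf20 zf10) (kf xf10 yf50 zf12) (kf xf10 yf51 zf43)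 (kf xf10 yf51 zf42) (kf xf28 yf57 zf31) (kf xf10 yf50 zf14) (kf xf10 yf51 zf50) (kf xf10 yf51 zf51) (kf xf15 yf37 zf52) (kf xf15 yf37 zf53) (kf xf15 yf35 zf48) (kf xf25 yf53 zf34) (kf xf28 yf57 zf38) (kf xf25 yf53 zf35) (kf xf15 yf35 zf18) (kf xf15 yf35 zf19) (kf xf15 yf35 zf20) (kf xf16 yf7 zf24) (kf xf15 yf35 zf23) (kf xf15 yf35 zf24) (kf xf15 yf35 zf25) (kf xf21 yf23 zf38) (kf xf15 yf51 zf53) (kf xf25 yf31 zf4) (kf xf26 yf16 zf46) (kf xf15 yf39 zf55) (kf xf28 yf57 zf47) (kf xf22 yf2 zf13) (kf xf16 yf15 zf31) (kf xf15 yf39 zf56) (kf xf21 yf46 zf12) (kf xf28 yf57 zf55) (kf xf28 yf57 zf53) (kf xf28 yf57 zf52)) (@D3.rec (fun _ => Pt) (kf xf14 yf34 zf28) (kf xf10 yf50 zf33) (kf xf28 yf48 zf28) (kf xf28 yf52 zf43) (kf xf10 yf50 zf34) (kf xf15 yf37 zf17) (kf xf15 yf37 zf18)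 (kf xf15 yf51 zf8) (kf xf16 yf50 zf1) (kf xf17 yf38 zf57) (kf xf18 yf45 zf27) (kf xf25 yf15 zf14) (kf xf20 yf4 zf21) (kf xf23 yf7 zf51) (kf xf23 yf8 zf21) (kf xf20 yf2 zf10) (kf xf23 yf56 zf48) (kf xf26 yf41 zf31) (kf xf28 yf48 zf30) (kf xf15 yf15 zf42) (kf xf15 yf15 zf47) (kf xf20 yf29 zf46) (kf xf28 yf48 zf29) (kf xf28 yf48 zf16) (kf xf26 yf41 zf47) (kf xf18 yf52 zf35) (kf xf14 yf34 zf32) (kf xf26 yf41 zf40) (kf xf26 yf41 zf41) (kf xf28 yf57 zf32) (kf xf17 yf58 zf56) (kf xf26 yf41 zf43) (kf xf28 yf58 zf21) (kf xf26 yf41 zf45) (kf xf28 yf58 zf20) (kf xf27 yf29 zf22) (kf xf10 yf50 zf54) (kf xf26 yf41 zf38) (kf xf15 yf41 zf16) (kf xf26 yf42 zf15) (kf xf26 yf41 zf36) (kf xf26 yf41 zf39) (kf xf21 yf0 zf23) (kf xf25 yf8 zf35) (kf xf26 yf41 zf48) (kf xf26 yf42 zf6) (kf xf26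 yf41 zf49) (kf xf26 yf41 zf50) (kf xf18 yf55 zf47) (kf xf26 yf5 zf1) (kf xf19 yf45 zf36) (kf xf19 yf44 zf51) (kf xf19 yf44 zf54) (kf xf19 yf45 zf37) (kf xf26 yf41 zf52) (kf xf14 yf47 zf44) (kf xf26 yf41 zf53) (kf xf19 yf55 zf21) (kf xf26 yf5 zf6) (kf xf19 yf45 zf38) (kf xf28 yf58 zf39) (kf xf25 yf10 zf40)) (@D3.rec (fun _ => Pt) (kf xf28 yf58 zf38) (kf xf10 yf51 zf9) (kf xf26 yf41 zf57) (kf xf26 yf41 zf58) (kf xf15 yf1 zf53) (kf xf19 yf45 zf16) (kf xf28 yf48 zf27) (kf xf16 yf48 zf24) (kf xf13 yf1 zf23) (kf xf19 yf45 zf17) (kf xf25 yf35 zf17) (kf xf27 yf11 zf7) (kf xf25 yf8 zf32) (kf xf26 yf42 zf0) (kf xf19 yf45 zf18) (kf xf28 yf58 zf59) (kf xf19 yf45 zf19) (kf xf26 yf41 zf60) (kf xf28 yf59 zf2) (kf xf10 yf51 zf17) (kf xf24 yf0 zf39) (kf xf27 yf13 zf8) (kf xf10 yf51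 zf25) (kf xf28 yf59 zf8) (kf xf10 yf51 zf19) (kf xf26 yf42 zf3) (kf xf19 yf8 zf59) (kf xf22 yf54 zf51) (kf xf22 yf48 zf16) (kf xf26 yf42 zf4) (kf xf22 yf54 zf53) (kf xf22 yf59 zf52) (kf xf22 yf59 zf54) (kf xf23 yf46 zf41) (kf xf24 yf0 zf37) (kf xf28 yf59 zf4) (kf xf28 yf59 zf3) (kf xf10 yf51 zf23) (kf xf27 yf21 zf46) (kf xf11 yf43 zf1) (kf xf20 yf59 zf7) (kf xf28 yf59 zf5) (kf xf10 yf52 zf56) (kf xf28 yf59 zf7) (kf xf28 yf59 zf6) (kf xf10 yf51 zf26) (kf xf18 yf52 zf10) (kf xf18 yf51 zf30) (kf xf16 yf29 zf6) (kf xf10 yf51 zf29) (kf xf11 yf59 zf36) (kf xf16 yf29 zf8) (kf xf18 yf51 zf29) (kf xf10 yf51 zf31) (kf xf25 yf35 zf30) (kf xf15 yf35 zf51) (kf xf28 yf57 zf22) (kf xf15 yf40 zf47) (kf xf28 yf57 zf20) (kf xf15 yf35 zf50) (kf xf28 yf57 zf21) (kf xf15 yf20 zf9)) (@D3.rec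 (fun _ => Pt) (kf xf28 yf59 zf32) (kf xf10 yf51 zf34) (kf xf26 yf5 zf2) (kf xf20 yf59 zf2) (kf xf15 yf18 zf49) (kf xf15 yf18 zf48) (kf xf28 yf48 zf21) (kf xf15 yf18 zf36) (kf xf28 yf57 zf25) (kf xf28 yf57 zf26) (kf xf10 yf56 zf36) (kf xf15 yf22 zf8) (kf xf28 yf57 zf24) (kf xf21 yf0 zf24) (kf xf25 yf33 zf48) (kf xf28 yf57 zf29) (kf xf28 yf57 zf28) (kf xf25 yf22 zf42) (kf xf25 yf33 zf44) (kf xf10 yf51 zf44) (kf xf27 yf24 zf5) (kf xf24 yf50 zf4) (kf xf24 yf50 zf5) (kf xf25 yf15 zf13) (kf xf25 yf33 zf51) (kf xf24 yf20 zf23) (kf xf19 yf31 zf26) (kf xf25 yf33 zf52) (kf xf25 yf15 zf3) (kf xf25 yf33 zf53) (kf xf15 yf21 zf18) (kf xf19 yf31 zf30) (kf xf20 yf5 zf2) (kf xf28 yf1 zf27) (kf xf28 yf57 zf33) (kf xf25 yf33 zf46) (kf xf29 yf0 zf5) (kf xf25 yf55 zf2) (kf xf25 yf55 zf3)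 (kf xf10 yf56 zf48) (kf xf25 yf55 zf0) (kf xf25 yf55 zf1) (kf xf21 yf0 zf29) (kf xf25 yf54 zf61) (kf xf25 yf56 zf11) (kf xf19 yf49 zf30) (kf xf19 yf49 zf26) (kf xf21 yf16 zf56) (kf xf25 yf33 zf45) (kf xf25 yf9 zf39) (kf xf25 yf47 zf9) (kf xf25 yf47 zf10) (kf xf25 yf47 zf11) (kf xf24 yf42 zf45) (kf xf12 yf59 zf16) (kf xf25 yf55 zf4) (kf xf16 yf1 zf11) (kf xf16 yf46 zf39) (kf xf17 yf25 zf13) (kf xf23 yf10 zf37) (kf xf25 yf36 zf34) (kf xf10 yf52 zf6)) (@D3.rec (fun _ => Pt) (kf xf17 yf56 zf29) (kf xf26 yf2 zf41) (kf xf19 yf46 zf50) (kf xf28 yf48 zf34) (kf xf19 yf46 zf32) (kf xf12 yf32 zf0) (kf xf19 yf58 zf36) (kf xf21 yf57 zf34) (kf xf28 yf1 zf15) (kf xf26 yf42 zf23) (kf xf26 yf42 zf24) (kf xf25 yf36 zf29) (kf xf24 yf11 zf54) (kf xf25 yf31 zf19) (kf xf26 yf42 zf25) (kf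 xf28 yf48 zf35) (kf xf19 yf46 zf37) (kf xf25 yf56 zf0) (kf xf22 yf4 zf50) (kf xf25 yf57 zf9) (kf xf19 yf46 zf53) (kf xf19 yf46 zf54) (kf xf19 yf46 zf55) (kf xf12 yf32 zf2) (kf xf24 yf36 zf19) (kf xf19 yf15 zf8) (kf xf11 yf0 zf1) (kf xf29 yf0 zf32) (kf xf11 yf0 zf13) (kf xf19 yf57 zf40) (kf xf15 yf4 zf31) (kf xf10 yf52 zf23) (kf xf19 yf19 zf47) (kf xf28 yf58 zf24) (kf xf25 yf29 zf38) (kf xf26 yf42 zf29) (kf xf26 yf42 zf28) (kf xf29 yf0 zf36) (kf xf10 yf52 zf26) (kf xf19 yf46 zf59) (kf xf19 yf46 zf60) (kf xf21 yf36 zf36) (kf xf19 yf46 zf57) (kf xf17 yf30 zf10) (kf xf26 yf42 zf32) (kf xf17 yf54 zf58) (kf xf10 yf52 zf30) (kf xf12 yf9 zf7) (kf xf15 yf8 zf0) (kf xf12 yf6 zf49) (kf xf10 yf52 zf52) (kf xf10 yf52 zf53) (kf xf10 yf52 zf54) (kf xf10 yf52 zf35) (kf xf17 yf56 zf28)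 (kf xf27 yf0 zf46) (kf xf22 yf53 zf20) (kf xf23 yf3 zf48) (kf xf10 yf52 zf39) (kf xf21 yf31 zf58) (kf xf22 yf59 zf51) (kf xf22 yf59 zf47)) (@D3.rec (fun _ => Pt) (kf xf20 yf45 zf50) (kf xf19 yf47 zf0) (kf xf26 yf42 zf36) (kf xf23 yf46 zf42) (kf xf15 yf7 zf56) (kf xf19 yf58 zf29) (kf xf22 yf11 zf56) (kf xf16 yf50 zf38) (kf xf28 yf48 zf31) (kf xf20 yf59 zf25) (kf xf20 yf4 zf54) (kf xf21 yf36 zf0) (kf xf19 yf53 zf48) (kf xf19 yf49 zf46) (kf xf26 yf44 zf13) (kf xf25 yf15 zf2) (kf xf11 yf9 zf13) (kf xf27 yf42 zf40) (kf xf21 yf51 zf57) (kf xf10 yf57 zf19) (kf xf18 yf1 zf39) (kf xf21 yf0 zf39) (kf xf11 yf10 zf19) (kf xf11 yf10 zf15) (kf xf21 yf21 zf5) (kf xf20 yf5 zf27) (kf xf19 yf58 zf31) (kf xf19 yf58 zf0) (kf xf20 yf5 zf23) (kf xf20 yf5 zf24) (kf xf20 yf5 zf25) (kf xf11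 yf45 zf1) (kf xf14 yf36 zf9) (kf xf25 yf42 zf11) (kf xf12 yf54 zf3) (kf xf22 yf5 zf40) (kf xf19 yf52 zf50) (kf xf21 yf40 zf17) (kf xf21 yf1 zf39) (kf xf19 yf53 zf23) (kf xf21 yf20 zf9) (kf xf25 yf31 zf2) (kf xf19 yf40 zf44) (kf xf16 yf39 zf10) (kf xf19 yf40 zf42) (kf xf18 yf22 zf12) (kf xf26 yf2 zf54) (kf xf25 yf37 zf51) (kf xf21 yf20 zf10) (kf xf17 yf28 zf58) (kf xf17 yf28 zf59) (kf xf16 yf40 zf34) (kf xf25 yf5 zf16) (kf xf25 yf51 zf31) (kf xf25 yf47 zf41) (kf xf25 yf4 zf33) (kf xf24 yf8 zf11) (kf xf14 yf24 zf35) (kf xf19 yf28 zf28) (kf xf19 yf28 zf32) (kf xf23 yf50 zf50) (kf xf14 yf15 zf15)) (@D3.rec (fun _ => Pt) (kf xf23 yf49 zf57) (kf xf10 yf53 zf29) (kf xf10 yf54 zf0) (kf xf10 yf54 zf7) (kf xf10 yf54 zf5) (kf xf14 yf23 zf25) (kf xf10 yf54 zf23) (kf xf10 yf54 zf24)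 (kf xf10 yf54 zf26) (kf xf10 yf54 zf15) (kf xf21 yf0 zf52) (kf xf25 yf46 zf55) (kf xf19 yf29 zf54) (kf xf25 yf46 zf56) (kf xf19 yf29 zf55) (kf xf19 yf21 zf57) (kf xf19 yf16 zf23) (kf xf28 yf46 zf46) (kf xf27 yf19 zf1) (kf xf19 yf16 zf22) (kf xf19 yf16 zf29) (kf xf19 yf11 zf21) (kf xf26 yf37 zf37) (kf xf25 yf47 zf58) (kf xf17 yf51 zf16) (kf xf21 yf23 zf23) (kf xf22 yf5 zf37) (kf xf22 yf5 zf38) (kf xf26 yf44 zf58) (kf xf26 yf44 zf59) (kf xf26 yf44 zf61) (kf xf10 yf53 zf55) (kf xf10 yf53 zf54) (kf xf10 yf53 zf49) (kf xf19 yf30 zf28) (kf xf19 yf30 zf30) (kf xf29 yf1 zf31) (kf xf19 yf30 zf37) (kf xf19 yf30 zf39) (kf xf29 yf1 zf39) (kf xf19 yf33 zf35) (kf xf19 yf34 zf2) (kf xf26 yf45 zf1) (kf xf23 yf53 zf46) (kf xf23 yf53 zf47) (kf xf29 yf1 zf25) (kf xf20 yf30 zf29) (kf xf15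 yf4 zf1) (kf xf15 yf3 zf54) (kf xf19 yf29 zf52) (kf xf19 yf29 zf56) (kf xf29 yf1 zf58) (kf xf19 yf30 zf21) (kf xf19 yf30 zf20) (kf xf29 yf2 zf0) (kf xf10 yf53 zf59) (kf xf19 yf30 zf12) (kf xf19 yf30 zf15) (kf xf29 yf2 zf4) (kf xf19 yf30 zf1) (kf xf29 yf2 zf9) (kf xf10 yf53 zf61)) (@D3.rec (fun _ => Pt) (kf xf19 yf9 zf51) (kf xf19 yf21 zf58) (kf xf14 yf23 zf21) (kf xf18 yf49 zf0) (kf xf25 yf47 zf47) (kf xf19 yf21 zf55) (kf xf29 yf2 zf16) (kf xf20 yf59 zf60) (kf xf10 yf54 zf9) (kf xf24 yf52 zf25) (kf xf18 yf30 zf16) (kf xf13 yf46 zf0) (kf xf18 yf44 zf3) (kf xf28 yf31 zf29) (kf xf24 yf40 zf29) (kf xf18 yf27 zf61) (kf xf24 yf50 zf45) (kf xf15 yf1 zf35) (kf xf27 yf37 zf0) (kf xf19 yf22 zf38) (kf xf19 yf6 zf28) (kf xf26 yf42 zf42) (kf xf28 yf14 zf25) (kf xf28 yf46 zf8) (kf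 xf29 yf2 zf28) (kf xf28 yf15 zf49) (kf xf10 yf54 zf25) (kf xf28 yf37 zf59) (kf xf25 yf47 zf55) (kf xf27 yf50 zf50) (kf xf27 yf36 zf8) (kf xf10 yf59 zf38) (kf xf15 yf3 zf30) (kf xf15 yf3 zf35) (kf xf26 yf1 zf55) (kf xf15 yf3 zf38) (kf xf15 yf3 zf40) (kf xf16 yf51 zf47) (kf xf18 yf2 zf12) (kf xf15 yf1 zf9) (kf xf15 yf2 zf55) (kf xf25 yf21 zf51) (kf xf15 yf2 zf50) (kf xf22 yf7 zf49) (kf xf15 yf2 zf58) (kf xf29 yf2 zf40) (kf xf25 yf22 zf12) (kf xf19 yf52 zf39) (kf xf25 yf22 zf13) (kf xf25 yf23 zf43) (kf xf25 yf22 zf38) (kf xf20 yf54 zf34) (kf xf25 yf23 zf44) (kf xf25 yf23 zf45) (kf xf20 yf54 zf26) (kf xf20 yf54 zf23) (kf xf17 yf53 zf48) (kf xf18 yf0 zf3) (kf xf19 yf33 zf34) (kf xf21 yf15 zf33) (kf xf19 yf52 zf45) (kf xf26 yf45 zf28)) (@D3.rec (fun _ => Pt) (kf xf21 yf57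 zf38) (kf xf16 yf39 zf51) (kf xf16 yf48 zf5) (kf xf26 yf39 zf21) (kf xf29 yf2 zf56) (kf xf26 yf45 zf30) (kf xf26 yf45 zf31) (kf xf22 yf5 zf16) (kf xf10 yf55 zf14) (kf xf10 yf55 zf13) (kf xf10 yf54 zf60) (kf xf10 yf55 zf17) (kf xf10 yf55 zf18) (kf xf10 yf55 zf16) (kf xf11 yf32 zf9) (kf xf17 yf53 zf35) (kf xf19 yf33 zf41) (kf xf19 yf33 zf42) (kf xf19 yf33 zf43) (kf xf14 yf41 zf9) (kf xf16 yf57 zf32) (kf xf10 yf55 zf5) (kf xf19 yf33 zf53) (kf xf16 yf48 zf13) (kf xf21 yf54 zf31) (kf xf19 yf34 zf8) (kf xf19 yf34 zf9) (kf xf18 yf47 zf39) (kf xf17 yf53 zf21) (kf xf21 yf13 zf14) (kf xf10 yf55 zf8) (kf xf10 yf58 zf26) (kf xf10 yf58 zf43) (kf xf19 yf34 zf29) (kf xf26 yf59 zf48) (kf xf26 yf45 zf33) (kf xf19 yf34 zf30) (kf xf28 yf26 zf59) (kf xf24 yf12 zf47) (kf xf29 yf3 zf11)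 (kf xf10 yf55 zf12) (kf xf19 yf23 zf60) (kf xf29 yf2 zf60) (kf xf14 yf8 zf0) (kf xf19 yf50 zf15) (kf xf15 yf3 zf28) (kf xf26 yf35 zf30) (kf xf25 yf18 zf20) (kf xf26 yf39 zf25) (kf xf25 yf18 zf32) (kf xf11 yf14 zf20) (kf xf11 yf6 zf58) (kf xf19 yf32 zf54) (kf xf19 yf33 zf6) (kf xf19 yf33 zf8) (kf xf19 yf33 zf18) (kf xf10 yf55 zf26) (kf xf20 yf7 zf13) (kf xf15 yf3 zf31) (kf xf15 yf3 zf34) (kf xf15 yf2 zf51) (kf xf26 yf26 zf14)) (@D3.rec (fun _ => Pt) (kf xf16 yf48 zf19) (kf xf26 yf38 zf24) (kf xf19 yf31 zf38) (kf xf26 yf38 zf26) (kf xf29 yf3 zf23) (kf xf26 yf38 zf29) (kf xf21 yf7 zf56) (kf xf10 yf59 zf31) (kf xf10 yf59 zf34) (kf xf17 yf1 zf43) (kf xf11 yf1 zf26) (kf xf26 yf15 zf8) (kf xf25 yf50 zf24) (kf xf24 yf58 zf42) (kf xf27 yf50 zf47) (kf xf19 yf32 zf51) (kf xf21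 yf43 zf7) (kf xf19 yf33 zf22) (kf xf19 yf33 zf21) (kf xf10 yf55 zf54) (kf xf25 yf4 zf15) (kf xf25 yf4 zf17) (kf xf25 yf4 zf18) (kf xf25 yf25 zf50) (kf xf25 yf4 zf19) (kf xf27 yf42 zf30) (kf xf19 yf35 zf12) (kf xf19 yf35 zf16) (kf xf25 yf4 zf20) (kf xf29 yf3 zf32) (kf xf24 yf16 zf27) (kf xf29 yf3 zf27) (kf xf29 yf3 zf36) (kf xf10 yf55 zf59) (kf xf10 yf56 zf30) (kf xf10 yf56 zf29) (kf xf29 yf3 zf39) (kf xf10 yf55 zf60) (kf xf10 yf56 zf37) (kf xf10 yf56 zf39) (kf xf10 yf56 zf33) (kf xf10 yf56 zf35) (kf xf10 yf56 zf42) (kf xf10 yf56 zf41) (kf xf28 yf47 zf58) (kf xf10 yf56 zf1) (kf xf10 yf56 zf49) (kf xf10 yf56 zf50) (kf xf10 yf56 zf46) (kf xf10 yf56 zf47) (kf xf25 yf12 zf34) (kf xf19 yf36 zf51) (kf xf26 yf44 zf29) (kf xf16 yf36 zf46) (kf xf19 yf36 zf52) (kf xf26 yf44 zf17)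 (kf xf19 yf48 zf9) (kf xf24 yf32 zf61) (kf xf26 yf44 zf18) (kf xf19 yf48 zf10) (kf xf19 yf45 zf1) (kf xf20 yf3 zf52)) (@D3.rec (fun _ => Pt) (kf xf28 yf20 zf46) (kf xf19 yf44 zf60) (kf xf19 yf53 zf47) (kf xf26 yf44 zf16) (kf xf28 yf20 zf47) (kf xf26 yf44 zf20) (kf xf25 yf12 zf18) (kf xf15 yf2 zf20) (kf xf28 yf49 zf19) (kf xf21 yf3 zf14) (kf xf21 yf3 zf54) (kf xf13 yf8 zf43) (kf xf23 yf1 zf14) (kf xf10 yf56 zf23) (kf xf10 yf56 zf22) (kf xf27 yf42 zf31) (kf xf19 yf37 zf5) (kf xf19 yf37 zf9) (kf xf19 yf37 zf14) (kf xf19 yf37 zf16) (kf xf28 yf57 zf51) (kf xf13 yf36 zf29) (kf xf13 yf36 zf30) (kf xf23 yf1 zf36) (kf xf23 yf1 zf37) (kf xf23 yf1 zf38) (kf xf29 yf4 zf9) (kf xf29 yf4 zf10) (kf xf28 yf59 zf22) (kf xf24 yf16 zf31) (kf xf29 yf4 zf8) (kf xf20 yf17 zf47) (kf xf20 yf49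 zf46) (kf xf23 yf28 zf36) (kf xf23 yf41 zf40) (kf xf10 yf56 zf24) (kf xf19 yf36 zf50) (kf xf19 yf36 zf53) (kf xf19 yf36 zf59) (kf xf21 yf5 zf33) (kf xf26 yf45 zf10) (kf xf15 yf38 zf10) (kf xf25 yf36 zf21) (kf xf25 yf59 zf53) (kf xf29 yf3 zf37) (kf xf15 yf38 zf9) (kf xf25 yf36 zf20) (kf xf15 yf40 zf2) (kf xf28 yf59 zf27) (kf xf27 yf17 zf42) (kf xf29 yf4 zf51) (kf xf10 yf56 zf31) (kf xf24 yf16 zf44) (kf xf22 yf2 zf23) (kf xf21 yf21 zf11) (kf xf22 yf2 zf24) (kf xf26 yf5 zf44) (kf xf29 yf3 zf43) (kf xf25 yf43 zf0) (kf xf26 yf44 zf19) (kf xf29 yf3 zf40) (kf xf29 yf3 zf41)) (@D3.rec (fun _ => Pt) (kf xf21 yf0 zf22) (kf xf29 yf3 zf42) (kf xf16 yf0 zf40) (kf xf23 yf41 zf42) (kf xf26 yf1 zf6) (kf xf29 yf3 zf44) (kf xf29 yf3 zf45) (kf xf29 yf5 zf11) (kf xf29 yf3 zf47) (kf xf29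 yf3 zf46) (kf xf25 yf40 zf20) (kf xf25 yf51 zf26) (kf xf10 yf56 zf43) (kf xf29 yf4 zf52) (kf xf18 yf51 zf6) (kf xf18 yf51 zf8) (kf xf25 yf5 zf15) (kf xf25 yf5 zf23) (kf xf29 yf3 zf52) (kf xf24 yf11 zf27) (kf xf18 yf52 zf27) (kf xf17 yf28 zf18) (kf xf27 yf18 zf37) (kf xf21 yf49 zf27) (kf xf25 yf5 zf54) (kf xf25 yf31 zf20) (kf xf18 yf51 zf13) (kf xf28 yf56 zf40) (kf xf29 yf3 zf50) (kf xf21 yf0 zf28) (kf xf27 yf18 zf38) (kf xf16 yf2 zf33) (kf xf19 yf39 zf4) (kf xf26 yf26 zf46) (kf xf16 yf48 zf21) (kf xf16 yf48 zf22) (kf xf26 yf44 zf49) (kf xf19 yf39 zf16) (kf xf20 yf42 zf28) (kf xf18 yf2 zf53) (kf xf25 yf24 zf40) (kf xf24 yf16 zf4) (kf xf24 yf16 zf2) (kf xf19 yf19 zf46) (kf xf21 yf57 zf39) (kf xf20 yf49 zf12) (kf xf26 yf44 zf47) (kf xf10 yf57 zf21) (kf xf10 yf57 zf16)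 (kf xf10 yf57 zf17) (kf xf19 yf39 zf2) (kf xf21 yf38 zf2) (kf xf16 yf48 zf25) (kf xf19 yf39 zf20) (kf xf19 yf39 zf21) (kf xf19 yf39 zf22) (kf xf21 yf38 zf4) (kf xf19 yf39 zf42) (kf xf21 yf38 zf5) (kf xf19 yf39 zf39) (kf xf19 yf39 zf40) (kf xf12 yf22 zf46)) (@D3.rec (fun _ => Pt) (kf xf19 yf40 zf1) (kf xf21 yf38 zf20) (kf xf12 yf10 zf52) (kf xf17 yf59 zf10) (kf xf12 yf10 zf60) (kf xf24 yf22 zf5) (kf xf16 yf47 zf56) (kf xf29 yf0 zf51) (kf xf16 yf48 zf23) (kf xf29 yf5 zf39) (kf xf29 yf5 zf40) (kf xf29 yf0 zf52) (kf xf18 yf1 zf41) (kf xf20 yf9 zf13) (kf xf22 yf44 zf39) (kf xf21 yf0 zf38) (kf xf20 yf9 zf12) (kf xf22 yf7 zf33) (kf xf15 yf2 zf54) (kf xf22 yf7 zf50) (kf xf26 yf48 zf33) (kf xf11 yf1 zf30) (kf xf26 yf39 zf8) (kf xf24 yf12 zf4) (kf xf28 yf39 zf51) (kf xf11 yf0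 zf27) (kf xf20 yf50 zf53) (kf xf20 yf32 zf56) (kf xf15 yf42 zf43) (kf xf26 yf1 zf56) (kf xf19 yf58 zf53) (kf xf20 yf53 zf28) (kf xf26 yf45 zf53) (kf xf14 yf45 zf32) (kf xf24 yf20 zf50) (kf xf26 yf45 zf54) (kf xf26 yf0 zf52) (kf xf20 yf31 zf59) (kf xf28 yf12 zf24) (kf xf25 yf38 zf14) (kf xf26 yf45 zf60) (kf xf28 yf43 zf40) (kf xf11 yf19 zf20) (kf xf26 yf45 zf56) (kf xf26 yf53 zf1) (kf xf25 yf37 zf46) (kf xf17 yf8 zf40) (kf xf20 yf46 zf16) (kf xf14 yf9 zf58) (kf xf26 yf45 zf58) (kf xf29 yf6 zf7) (kf xf20 yf51 zf13) (kf xf19 yf52 zf61) (kf xf23 yf1 zf49) (kf xf20 yf1 zf25) (kf xf23 yf31 zf19) (kf xf10 yf58 zf4) (kf xf10 yf58 zf3) (kf xf25 yf34 zf36) (kf xf10 yf57 zf50) (kf xf11 yf12 zf30) (kf xf21 yf4 zf8)) (@D3.rec (fun _ => Pt) (kf xf12 yf47 zf8) (kf xf10 yf58 zf16)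 (kf xf10 yf58 zf20) (kf xf16 yf59 zf15) (kf xf10 yf58 zf24) (kf xf26 yf59 zf47) (kf xf22 yf11 zf60) (kf xf16 yf25 zf34) (kf xf28 yf49 zf33) (kf xf19 yf44 zf56) (kf xf19 yf44 zf59) (kf xf16 yf25 zf37) (kf xf16 yf13 zf17) (kf xf19 yf15 zf18) (kf xf16 yf10 zf43) (kf xf23 yf21 zf44) (kf xf19 yf56 zf8) (kf xf16 yf10 zf44) (kf xf25 yf39 zf13) (kf xf19 yf58 zf54) (kf xf19 yf59 zf8) (kf xf24 yf56 zf46) (kf xf11 yf36 zf17) (kf xf25 yf46 zf19) (kf xf29 yf6 zf11) (kf xf29 yf6 zf10) (kf xf29 yf6 zf29) (kf xf10 yf58 zf2) (kf xf14 yf38 zf48) (kf xf27 yf39 zf19) (kf xf21 yf19 zf6) (kf xf16 yf46 zf13) (kf xf24 yf35 zf57) (kf xf20 yf29 zf50) (kf xf25 yf28 zf13) (kf xf10 yf58 zf5) (kf xf12 yf10 zf16) (kf xf19 yf58 zf60) (kf xf19 yf59 zf0) (kf xf20 yf19 zf29) (kf xf19 yf59 zf15) (kf xf26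 yf45 zf50) (kf xf26 yf46 zf6) (kf xf22 yf6 zf27) (kf xf16 yf25 zf36) (kf xf16 yf25 zf33) (kf xf12 yf47 zf7) (kf xf10 yf58 zf15) (kf xf28 yf47 zf50) (kf xf29 yf1 zf48) (kf xf20 yf53 zf24) (kf xf17 yf8 zf39) (kf xf12 yf3 zf60) (kf xf29 yf3 zf5) (kf xf29 yf3 zf6) (kf xf29 yf3 zf7) (kf xf19 yf32 zf16) (kf xf18 yf16 zf22) (kf xf11 yf0 zf11) (kf xf20 yf32 zf60) (kf xf23 yf30 zf44) (kf xf10 yf58 zf32)) (@D3.rec (fun _ => Pt) (kf xf19 yf32 zf22) (kf xf10 yf58 zf35) (kf xf11 yf0 zf19) (kf xf26 yf45 zf32) (kf xf16 yf57 zf19) (kf xf26 yf45 zf52) (kf xf11 yf0 zf22) (kf xf26 yf45 zf51) (kf xf17 yf53 zf32) (kf xf17 yf53 zf33) (kf xf20 yf15 zf24) (kf xf27 yf21 zf48) (kf xf15 yf15 zf41) (kf xf15 yf20 zf6) (kf xf25 yf10 zf27) (kf xf29 yf6 zf49) (kf xf16 yf25 zf39) (kf xf21 yf32 zf40)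 (kf xf10 yf59 zf40) (kf xf17 yf32 zf43) (kf xf15 yf20 zf5) (kf xf26 yf45 zf43) (kf xf25 yf23 zf32) (kf xf17 yf56 zf26) (kf xf21 yf38 zf22) (kf xf22 yf5 zf39) (kf xf19 yf38 zf46) (kf xf25 yf6 zf35) (kf xf21 yf35 zf61) (kf xf21 yf35 zf58) (kf xf19 yf38 zf45) (kf xf23 yf31 zf41) (kf xf21 yf58 zf2) (kf xf27 yf21 zf47) (kf xf10 yf59 zf9) (kf xf10 yf59 zf8) (kf xf20 yf43 zf19) (kf xf26 yf32 zf56) (kf xf19 yf54 zf17) (kf xf10 yf59 zf23) (kf xf15 yf52 zf7) (kf xf24 yf58 zf31) (kf xf19 yf16 zf1) (kf xf21 yf58 zf5) (kf xf25 yf12 zf40) (kf xf27 yf21 zf41) (kf xf19 yf40 zf13) (kf xf29 yf6 zf56) (kf xf29 yf0 zf20) (kf xf20 yf43 zf36) (kf xf29 yf6 zf58) (kf xf29 yf6 zf57) (kf xf10 yf59 zf10) (kf xf17 yf53 zf36) (kf xf24 yf46 zf61) (kf xf20 yf4 zf48) (kf xf10 yf59 zf14) (kf xf10 yf59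 zf45) (kf xf20 yf4 zf36) (kf xf21 yf38 zf13) (kf xf20 yf4 zf45) (kf xf20 yf4 zf46)) (@D3.rec (fun _ => Pt) (kf xf13 yf47 zf14) (kf xf19 yf52 zf59) (kf xf23 yf31 zf38) (kf xf23 yf31 zf39) (kf xf23 yf25 zf24) (kf xf16 yf30 zf53) (kf xf16 yf29 zf17) (kf xf16 yf30 zf54) (kf xf11 yf10 zf16) (kf xf17 yf53 zf34) (kf xf29 yf4 zf30) (kf xf10 yf59 zf24) (kf xf20 yf41 zf59) (kf xf26 yf54 zf0) (kf xf20 yf43 zf40) (kf xf19 yf43 zf44) (kf xf10 yf59 zf55) (kf xf11 yf0 zf40) (kf xf23 yf52 zf0) (kf xf11 yf0 zf7) (kf xf11 yf0 zf6) (kf xf22 yf32 zf20) (kf xf11 yf0 zf14) (kf xf28 yf55 zf5) (kf xf17 yf56 zf27) (kf xf20 yf45 zf49) (kf xf27 yf21 zf11) (kf xf10 yf59 zf41) (kf xf24 yf51 zf31) (kf xf24 yf51 zf51) (kf xf18 yf2 zf21) (kf xf24 yf51 zf30) (kf xf10 yf59 zf44) (kf xf26 yf0 zf33) (kf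 xf21 yf38 zf16) (kf xf24 yf35 zf5) (kf xf20 yf4 zf37) (kf xf10 yf59 zf47) (kf xf26 yf45 zf45) (kf xf20 yf49 zf60) (kf xf26 yf45 zf47) (kf xf27 yf3 zf20) (kf xf16 yf30 zf38) (kf xf10 yf59 zf51) (kf xf28 yf41 zf40) (kf xf19 yf21 zf40) (kf xf22 yf23 zf32) (kf xf19 yf21 zf39) (kf xf23 yf36 zf39) (kf xf28 yf5 zf19) (kf xf27 yf34 zf1) (kf xf19 yf52 zf11) (kf xf28 yf43 zf13) (kf xf27 yf14 zf9) (kf xf10 yf59 zf61) (kf xf14 yf20 zf27) (kf xf18 yf53 zf29) (kf xf19 yf21 zf6) (kf xf29 yf7 zf34) (kf xf19 yf21 zf5) (kf xf27 yf46 zf23) (kf xf28 yf7 zf39)) (@D3.rec (fun _ => Pt) (kf xf18 yf52 zf61) (kf xf11 yf0 zf3) (kf xf28 yf15 zf22) (kf xf21 yf9 zf7) (kf xf11 yf0 zf4) (kf xf14 yf33 zf61) (kf xf28 yf13 zf54) (kf xf29 yf7 zf16) (kf xf22 yf39 zf7) (kf xf20 yf6 zf15) (kf xf11 yf0 zf8)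 (kf xf11 yf0 zf43) (kf xf21 yf30 zf39) (kf xf19 yf52 zf8) (kf xf20 yf25 zf32) (kf xf12 yf9 zf56) (kf xf11 yf0 zf12) (kf xf29 yf0 zf33) (kf xf19 yf51 zf61) (kf xf20 yf52 zf43) (kf xf19 yf52 zf0) (kf xf23 yf59 zf57) (kf xf24 yf29 zf10) (kf xf29 yf6 zf42) (kf xf29 yf6 zf43) (kf xf20 yf6 zf23) (kf xf29 yf7 zf49) (kf xf11 yf0 zf34) (kf xf11 yf0 zf28) (kf xf24 yf28 zf56) (kf xf28 yf43 zf4) (kf xf24 yf28 zf38) (kf xf22 yf57 zf46) (kf xf23 yf53 zf40) (kf xf16 yf47 zf8) (kf xf16 yf47 zf5) (kf xf29 yf7 zf57) (kf xf11 yf0 zf31) (kf xf23 yf53 zf41) (kf xf11 yf29 zf9) (kf xf28 yf26 zf16) (kf xf23 yf51 zf60) (kf xf29 yf7 zf14) (kf xf23 yf51 zf61) (kf xf14 yf38 zf27) (kf xf28 yf50 zf6) (kf xf13 yf18 zf11) (kf xf11 yf48 zf8) (kf xf12 yf9 zf48) (kf xf19 yf18 zf11) (kf xf25 yf31 zf13)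 (kf xf29 yf8 zf6) (kf xf11 yf1 zf13) (kf xf29 yf8 zf10) (kf xf11 yf0 zf54) (kf xf11 yf1 zf21) (kf xf11 yf1 zf17) (kf xf11 yf1 zf18) (kf xf22 yf46 zf41) (kf xf20 yf25 zf14) (kf xf25 yf39 zf30) (kf xf19 yf51 zf18)) (@D3.rec (fun _ => Pt) (kf xf19 yf51 zf20) (kf xf27 yf19 zf12) (kf xf17 yf18 zf27) (kf xf27 yf19 zf13) (kf xf11 yf34 zf26) (kf xf11 yf34 zf22) (kf xf26 yf51 zf19) (kf xf26 yf51 zf20) (kf xf19 yf51 zf13) (kf xf29 yf8 zf23) (kf xf29 yf8 zf25) (kf xf19 yf50 zf51) (kf xf19 yf17 zf33) (kf xf24 yf1 zf44) (kf xf29 yf8 zf4) (kf xf29 yf8 zf3) (kf xf29 yf8 zf36) (kf xf11 yf1 zf12) (kf xf29 yf8 zf7) (kf xf29 yf8 zf8) (kf xf26 yf53 zf8) (kf xf11 yf22 zf28) (kf xf21 yf31 zf60) (kf xf21 yf9 zf6) (kf xf29 yf8 zf9) (kf xf20 yf25 zf24) (kf xf27 yf8 zf29) (kf xf11 yf1 zf15)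 (kf xf20 yf50 zf49) (kf xf22 yf41 zf18) (kf xf23 yf38 zf0) (kf xf20 yf25 zf12) (kf xf29 yf8 zf12) (kf xf29 yf8 zf13) (kf xf29 yf8 zf56) (kf xf20 yf25 zf54) (kf xf11 yf1 zf20) (kf xf29 yf8 zf11) (kf xf21 yf13 zf7) (kf xf19 yf42 zf47) (kf xf20 yf34 zf7) (kf xf21 yf36 zf54) (kf xf28 yf43 zf8) (kf xf29 yf3 zf24) (kf xf19 yf32 zf40) (kf xf19 yf42 zf60) (kf xf11 yf25 zf0) (kf xf28 yf30 zf41) (kf xf29 yf5 zf53) (kf xf28 yf55 zf2) (kf xf19 yf40 zf36) (kf xf27 yf10 zf45) (kf xf21 yf3 zf29) (kf xf26 yf53 zf2) (kf xf17 yf7 zf29) (kf xf11 yf12 zf28) (kf xf27 yf5 zf56) (kf xf20 yf25 zf2) (kf xf26 yf26 zf21) (kf xf19 yf50 zf1) (kf xf14 yf10 zf51) (kf xf19 yf47 zf52)) (@D3.rec (fun _ => Pt) (kf xf13 yf59 zf9) (kf xf20 yf25 zf51) (kf xf20 yf45 zf51) (kf xf26 yf45 zf57) (kf xf17 yf7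 zf18) (kf xf17 yf7 zf28) (kf xf11 yf21 zf45) (kf xf11 yf21 zf46) (kf xf12 yf44 zf20) (kf xf21 yf32 zf39) (kf xf20 yf45 zf6) (kf xf11 yf17 zf47) (kf xf20 yf25 zf3) (kf xf23 yf4 zf48) (kf xf11 yf17 zf16) (kf xf11 yf16 zf28) (kf xf16 yf4 zf23) (kf xf28 yf9 zf19) (kf xf14 yf29 zf20) (kf xf20 yf26 zf1) (kf xf19 yf32 zf43) (kf xf25 yf13 zf23) (kf xf27 yf31 zf37) (kf xf19 yf40 zf39) (kf xf21 yf45 zf1) (kf xf12 yf38 zf45) (kf xf24 yf28 zf41) (kf xf20 yf53 zf4) (kf xf19 yf31 zf1) (kf xf26 yf46 zf44) (kf xf17 yf28 zf41) (kf xf17 yf17 zf34) (kf xf19 yf28 zf43) (kf xf19 yf28 zf40) (kf xf20 yf52 zf54) (kf xf19 yf33 zf24) (kf xf16 yf38 zf25) (kf xf19 yf33 zf47) (kf xf20 yf5 zf1) (kf xf26 yf46 zf40) (kf xf26 yf46 zf41) (kf xf26 yf46 zf42) (kf xf27 yf17 zf21) (kf xf16 yf43 zf27) (kf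 xf25 yf24 zf17) (kf xf16 yf43 zf19) (kf xf20 yf49 zf32) (kf xf19 yf45 zf2) (kf xf19 yf40 zf12) (kf xf18 yf52 zf58) (kf xf18 yf52 zf59) (kf xf16 yf4 zf2) (kf xf16 yf12 zf61) (kf xf16 yf13 zf18) (kf xf16 yf13 zf22) (kf xf16 yf27 zf54) (kf xf27 yf39 zf12) (kf xf18 yf2 zf55) (kf xf16 yf27 zf49) (kf xf25 yf10 zf53) (kf xf19 yf54 zf4) (kf xf19 yf54 zf5)) (@D3.rec (fun _ => Pt) (kf xf19 yf23 zf33) (kf xf26 yf14 zf30) (kf xf24 yf20 zf7) (kf xf26 yf7 zf16) (kf xf19 yf53 zf60) (kf xf19 yf53 zf61) (kf xf25 yf13 zf29) (kf xf14 yf37 zf40) (kf xf18 yf6 zf19) (kf xf19 yf54 zf49) (kf xf25 yf14 zf38) (kf xf27 yf43 zf21) (kf xf25 yf14 zf40) (kf xf25 yf14 zf41) (kf xf27 yf43 zf32) (kf xf13 yf59 zf37) (kf xf13 yf59 zf36) (kf xf19 yf49 zf38) (kf xf11 yf3 zf60) (kf xf11 yf3 zf59) (kf xf18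 yf18 zf46) (kf xf11 yf4 zf7) (kf xf11 yf4 zf6) (kf xf11 yf4 zf16) (kf xf26 yf6 zf33) (kf xf17 yf43 zf22) (kf xf18 yf52 zf21) (kf xf19 yf28 zf50) (kf xf24 yf10 zf35) (kf xf26 yf23 zf8) (kf xf29 yf9 zf59) (kf xf29 yf10 zf0) (kf xf29 yf9 zf57) (kf xf29 yf9 zf56) (kf xf29 yf10 zf8) (kf xf11 yf3 zf1) (kf xf26 yf47 zf29) (kf xf26 yf47 zf28) (kf xf29 yf10 zf16) (kf xf11 yf3 zf2) (kf xf25 yf41 zf19) (kf xf26 yf47 zf34) (kf xf26 yf47 zf32) (kf xf26 yf47 zf33) (kf xf16 yf10 zf0) (kf xf27 yf26 zf58) (kf xf11 yf3 zf5) (kf xf26 yf47 zf36) (kf xf26 yf47 zf37) (kf xf19 yf54 zf9) (kf xf26 yf6 zf27) (kf xf16 yf37 zf34) (kf xf16 yf37 zf35) (kf xf16 yf37 zf36) (kf xf29 yf10 zf39) (kf xf11 yf52 zf17) (kf xf24 yf0 zf59) (kf xf11 yf3 zf12) (kf xf25 yf41 zf39) (kf xf26 yf47 zf18) (kf xf26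 yf58 zf30) (kf xf26 yf2 zf40)) (@D3.rec (fun _ => Pt) (kf xf26 yf47 zf20) (kf xf29 yf10 zf46) (kf xf18 yf3 zf7) (kf xf18 yf3 zf8) (kf xf26 yf47 zf22) (kf xf29 yf10 zf52) (kf xf29 yf10 zf44) (kf xf27 yf57 zf0) (kf xf29 yf10 zf60) (kf xf11 yf3 zf19) (kf xf22 yf45 zf49) (kf xf26 yf6 zf58) (kf xf29 yf11 zf5) (kf xf11 yf3 zf20) (kf xf16 yf11 zf46) (kf xf26 yf47 zf15) (kf xf26 yf47 zf14) (kf xf23 yf38 zf38) (kf xf11 yf3 zf22) (kf xf16 yf11 zf17) (kf xf16 yf11 zf19) (kf xf19 yf36 zf57) (kf xf26 yf47 zf38) (kf xf23 yf43 zf36) (kf xf24 yf34 zf1) (kf xf26 yf47 zf39) (kf xf24 yf49 zf34) (kf xf26 yf47 zf40) (kf xf26 yf1 zf28) (kf xf19 yf32 zf49) (kf xf24 yf49 zf33) (kf xf24 yf49 zf35) (kf xf29 yf11 zf20) (kf xf26 yf23 zf10) (kf xf24 yf52 zf4) (kf xf18 yf3 zf11) (kf xf29 yf11 zf24)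 (kf xf15 yf42 zf17) (kf xf29 yf11 zf30) (kf xf11 yf3 zf30) (kf xf26 yf47 zf58) (kf xf26 yf47 zf57) (kf xf29 yf11 zf35) (kf xf11 yf3 zf31) (kf xf16 yf9 zf54) (kf xf29 yf11 zf37) (kf xf11 yf3 zf32) (kf xf26 yf47 zf50) (kf xf12 yf3 zf30) (kf xf24 yf31 zf60) (kf xf21 yf45 zf16) (kf xf26 yf47 zf51) (kf xf24 yf23 zf47) (kf xf26 yf9 zf9) (kf xf24 yf29 zf15) (kf xf26 yf47 zf53) (kf xf29 yf11 zf49) (kf xf24 yf23 zf43) (kf xf28 yf12 zf1) (kf xf26 yf47 zf45) (kf xf26 yf47 zf44) (kf xf29 yf11 zf59)) (@D3.rec (fun _ => Pt) (kf xf11 yf3 zf39) (kf xf26 yf47 zf49) (kf xf26 yf47 zf48) (kf xf23 yf40 zf33) (kf xf29 yf12 zf2) (kf xf26 yf48 zf3) (kf xf23 yf28 zf17) (kf xf11 yf3 zf43) (kf xf19 yf48 zf16) (kf xf24 yf24 zf9) (kf xf22 yf31 zf31) (kf xf21 yf2 zf16) (kf xf29 yf12 zf9) (kf xf11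 yf3 zf46) (kf xf20 yf6 zf30) (kf xf23 yf31 zf48) (kf xf13 yf59 zf25) (kf xf13 yf59 zf24) (kf xf11 yf3 zf49) (kf xf23 yf59 zf13) (kf xf13 yf59 zf27) (kf xf23 yf43 zf46) (kf xf19 yf26 zf28) (kf xf26 yf48 zf9) (kf xf26 yf25 zf13) (kf xf19 yf26 zf27) (kf xf11 yf3 zf54) (kf xf14 yf45 zf29) (kf xf26 yf7 zf8) (kf xf26 yf7 zf9) (kf xf16 yf50 zf41) (kf xf29 yf12 zf21) (kf xf12 yf48 zf54) (kf xf29 yf12 zf24) (kf xf24 yf33 zf17) (kf xf18 yf18 zf45) (kf xf24 yf24 zf17) (kf xf14 yf29 zf44) (kf xf17 yf53 zf51) (kf xf29 yf9 zf54) (kf xf12 yf8 zf13) (kf xf13 yf49 zf9) (kf xf11 yf4 zf8) (kf xf13 yf59 zf40) (kf xf16 yf43 zf18) (kf xf14 yf40 zf22) (kf xf14 yf9 zf45) (kf xf16 yf38 zf12) (kf xf19 yf19 zf21) (kf xf25 yf44 zf18) (kf xf17 yf52 zf33) (kf xf11 yf4 zf15) (kf xf23 yf34 zf38) (kf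 xf13 yf52 zf44) (kf xf27 yf57 zf22) (kf xf26 yf10 zf20) (kf xf27 yf57 zf23) (kf xf15 yf51 zf42) (kf xf24 yf1 zf39) (kf xf15 yf19 zf34) (kf xf27 yf24 zf4) (kf xf18 yf2 zf26)) (@D3.rec (fun _ => Pt) (kf xf15 yf53 zf58) (kf xf25 yf6 zf57) (kf xf25 yf30 zf1) (kf xf11 yf4 zf28) (kf xf18 yf12 zf30) (kf xf25 yf5 zf61) (kf xf25 yf6 zf0) (kf xf25 yf6 zf1) (kf xf25 yf6 zf2) (kf xf20 yf3 zf48) (kf xf27 yf23 zf13) (kf xf18 yf5 zf40) (kf xf18 yf5 zf39) (kf xf15 yf19 zf36) (kf xf18 yf5 zf38) (kf xf18 yf5 zf42) (kf xf18 yf5 zf43) (kf xf18 yf5 zf44) (kf xf18 yf5 zf45) (kf xf29 yf12 zf46) (kf xf25 yf6 zf59) (kf xf29 yf12 zf49) (kf xf25 yf6 zf61) (kf xf29 yf12 zf53) (kf xf15 yf57 zf44) (kf xf15 yf57 zf49) (kf xf18 yf20 zf30) (kf xf18 yf20 zf31) (kf xf18 yf0 zf41) (kf xf20 yf19 zf27)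 (kf xf13 yf0 zf13) (kf xf27 yf36 zf13) (kf xf20 yf19 zf17) (kf xf15 yf25 zf41) (kf xf17 yf45 zf14) (kf xf15 yf36 zf35) (kf xf17 yf52 zf39) (kf xf17 yf45 zf16) (kf xf17 yf45 zf6) (kf xf17 yf45 zf7) (kf xf19 yf39 zf29) (kf xf17 yf29 zf47) (kf xf19 yf29 zf9) (kf xf19 yf32 zf30) (kf xf19 yf32 zf27) (kf xf19 yf32 zf29) (kf xf25 yf8 zf28) (kf xf24 yf49 zf15) (kf xf24 yf49 zf16) (kf xf24 yf49 zf17) (kf xf24 yf51 zf6) (kf xf29 yf9 zf13) (kf xf11 yf5 zf13) (kf xf24 yf51 zf5) (kf xf11 yf5 zf2) (kf xf16 yf37 zf7) (kf xf16 yf37 zf8) (kf xf16 yf37 zf9) (kf xf25 yf22 zf37) (kf xf26 yf48 zf36) (kf xf19 yf29 zf23) (kf xf19 yf32 zf60)) (@D3.rec (fun _ => Pt) (kf xf19 yf40 zf27) (kf xf19 yf32 zf52) (kf xf29 yf13 zf15) (kf xf19 yf33 zf0) (kf xf29 yf13 zf19) (kf xf26 yf54 zf15) (kf xf27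 yf22 zf50) (kf xf28 yf31 zf42) (kf xf11 yf5 zf11) (kf xf29 yf13 zf2) (kf xf29 yf13 zf1) (kf xf29 yf13 zf27) (kf xf11 yf5 zf12) (kf xf29 yf13 zf4) (kf xf29 yf13 zf5) (kf xf20 yf55 zf49) (kf xf20 yf56 zf16) (kf xf11 yf52 zf41) (kf xf28 yf14 zf21) (kf xf29 yf13 zf6) (kf xf26 yf45 zf22) (kf xf11 yf5 zf15) (kf xf28 yf37 zf49) (kf xf28 yf51 zf32) (kf xf15 yf28 zf21) (kf xf15 yf28 zf24) (kf xf19 yf32 zf45) (kf xf19 yf32 zf46) (kf xf19 yf32 zf47) (kf xf19 yf40 zf5) (kf xf19 yf32 zf50) (kf xf19 yf40 zf26) (kf xf18 yf25 zf11) (kf xf11 yf5 zf25) (kf xf19 yf33 zf59) (kf xf26 yf54 zf12) (kf xf19 yf39 zf6) (kf xf27 yf22 zf48) (kf xf29 yf2 zf49) (kf xf18 yf25 zf49) (kf xf29 yf13 zf44) (kf xf11 yf5 zf28) (kf xf11 yf55 zf4) (kf xf15 yf29 zf54) (kf xf20 yf9 zf10) (kf xf15 yf0 zf11) (kf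 xf11 yf5 zf37) (kf xf26 yf48 zf21) (kf xf19 yf28 zf48) (kf xf26 yf48 zf22) (kf xf26 yf48 zf23) (kf xf29 yf13 zf52) (kf xf16 yf10 zf42) (kf xf19 yf47 zf30) (kf xf19 yf48 zf19) (kf xf29 yf13 zf54) (kf xf25 yf41 zf26) (kf xf26 yf48 zf30) (kf xf29 yf13 zf59) (kf xf11 yf5 zf42) (kf xf19 yf48 zf37) (kf xf16 yf25 zf30)) (@D3.rec (fun _ => Pt) (kf xf19 yf48 zf38) (kf xf15 yf25 zf18) (kf xf29 yf14 zf0) (kf xf25 yf53 zf5) (kf xf11 yf5 zf44) (kf xf22 yf32 zf10) (kf xf26 yf48 zf28) (kf xf18 yf40 zf13) (kf xf19 yf48 zf20) (kf xf23 yf21 zf46) (kf xf26 yf48 zf26) (kf xf26 yf48 zf25) (kf xf29 yf14 zf8) (kf xf11 yf5 zf52) (kf xf11 yf14 zf58) (kf xf19 yf48 zf40) (kf xf20 yf49 zf3) (kf xf18 yf21 zf30) (kf xf27 yf38 zf5) (kf xf24 yf48 zf35) (kf xf24 yf48 zf36) (kf xf24 yf49 zf58) (kf xf24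 yf49 zf59) (kf xf27 yf38 zf11) (kf xf16 yf37 zf10) (kf xf16 yf37 zf11) (kf xf19 yf11 zf12) (kf xf26 yf46 zf58) (kf xf25 yf13 zf45) (kf xf26 yf41 zf22) (kf xf11 yf6 zf2) (kf xf19 yf23 zf21) (kf xf25 yf22 zf45) (kf xf25 yf22 zf46) (kf xf20 yf1 zf49) (kf xf24 yf50 zf49) (kf xf20 yf20 zf21) (kf xf15 yf7 zf50) (kf xf25 yf15 zf58) (kf xf24 yf54 zf42) (kf xf17 yf39 zf57) (kf xf26 yf5 zf24) (kf xf26 yf5 zf25) (kf xf18 yf42 zf39) (kf xf16 yf33 zf18) (kf xf16 yf33 zf27) (kf xf16 yf33 zf28) (kf xf15 yf0 zf27) (kf xf11 yf6 zf19) (kf xf21 yf16 zf5) (kf xf28 yf43 zf34) (kf xf11 yf6 zf21) (kf xf17 yf19 zf7) (kf xf17 yf6 zf50) (kf xf17 yf54 zf59) (kf xf20 yf12 zf24) (kf xf20 yf9 zf42) (kf xf21 yf22 zf46) (kf xf20 yf12 zf53) (kf xf20 yf12 zf56) (kf xf20 yf0 zf41) (kf xf16 yf47 zf32))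
def f_f_20 : D2 → D3 → Pt := @D2.rec (fun _ => D3 → Pt) (@D3.rec (fun _ => Pt) (kf xf15 yf0 zf10) (kf xf25 yf40 zf19) (kf xf12 yf31 zf34) (kf xf12 yf31 zf38) (kf xf28 yf26 zf22) (kf xf22 yf18 zf42) (kf xf11 yf6 zf59) (kf xf11 yf6 zf47) (kf xf11 yf13 zf42) (kf xf23 yf49 zf56) (kf xf25 yf23 zf53) (kf xf21 yf13 zf21) (kf xf11 yf6 zf52) (kf xf20 yf6 zf33) (kf xf15 yf4 zf3) (kf xf19 yf27 zf22) (kf xf11 yf24 zf32) (kf xf11 yf14 zf22) (kf xf11 yf14 zf15) (kf xf20 yf5 zf58) (kf xf24 yf53 zf13) (kf xf27 yf13 zf56) (kf xf28 yf18 zf2) (kf xf20 yf6 zf45) (kf xf17 yf30 zf2) (kf xf11 yf7 zf6) (kf xf12 yf31 zf6) (kf xf11 yf7 zf8) (kf xf11 yf17 zf20) (kf xf11 yf17 zf21) (kf xf16 yf30 zf45) (kf xf20 yf5 zf61) (kf xf20 yf1 zf1) (kf xf24 yf54 zf21) (kf xf20 yf6 zf1) (kf xf15 yf10 zf38)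 (kf xf11 yf8 zf6) (kf xf25 yf47 zf7) (kf xf20 yf27 zf52) (kf xf20 yf6 zf43) (kf xf11 yf7 zf18) (kf xf19 yf59 zf60) (kf xf11 yf7 zf19) (kf xf20 yf6 zf16) (kf xf20 yf6 zf17) (kf xf20 yf6 zf18) (kf xf29 yf14 zf46) (kf xf29 yf14 zf47) (kf xf20 yf6 zf7) (kf xf20 yf6 zf6) (kf xf22 yf50 zf54) (kf xf11 yf7 zf22) (kf xf20 yf31 zf57) (kf xf11 yf7 zf54) (kf xf23 yf3 zf60) (kf xf29 yf14 zf48) (kf xf24 yf53 zf18) (kf xf27 yf20 zf19) (kf xf11 yf7 zf32) (kf xf14 yf59 zf35) (kf xf14 yf59 zf38) (kf xf26 yf48 zf39)) (@D3.rec (fun _ => Pt) (kf xf22 yf56 zf55) (kf xf20 yf0 zf32) (kf xf27 yf59 zf35) (kf xf20 yf17 zf42) (kf xf26 yf48 zf45) (kf xf29 yf14 zf51) (kf xf11 yf7 zf36) (kf xf19 yf33 zf17) (kf xf18 yf25 zf7) (kf xf16 yf55 zf41) (kf xf12 yf9 zf6) (kf xf20 yf29 zf60) (kf xf26 yf48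 zf42) (kf xf26 yf49 zf56) (kf xf28 yf13 zf45) (kf xf20 yf17 zf19) (kf xf20 yf18 zf50) (kf xf27 yf5 zf16) (kf xf28 yf0 zf28) (kf xf29 yf14 zf58) (kf xf11 yf7 zf46) (kf xf29 yf14 zf59) (kf xf20 yf6 zf24) (kf xf29 yf14 zf61) (kf xf22 yf31 zf41) (kf xf19 yf47 zf54) (kf xf26 yf24 zf48) (kf xf24 yf53 zf12) (kf xf16 yf56 zf12) (kf xf28 yf8 zf4) (kf xf27 yf40 zf27) (kf xf23 yf3 zf61) (kf xf28 yf8 zf5) (kf xf16 yf54 zf56) (kf xf25 yf41 zf25) (kf xf23 yf49 zf61) (kf xf17 yf3 zf37) (kf xf17 yf3 zf38) (kf xf13 yf27 zf35) (kf xf21 yf51 zf21) (kf xf11 yf7 zf61) (kf xf11 yf41 zf42) (kf xf16 yf58 zf48) (kf xf16 yf58 zf49) (kf xf16 yf58 zf51) (kf xf16 yf58 zf52) (kf xf24 yf3 zf52) (kf xf20 yf26 zf33) (kf xf19 yf26 zf60) (kf xf19 yf59 zf34) (kf xf16 yf58 zf54) (kf xf16 yf58 zf57) (kf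 xf18 yf2 zf20) (kf xf29 yf15 zf20) (kf xf11 yf8 zf13) (kf xf26 yf44 zf53) (kf xf20 yf54 zf33) (kf xf26 yf47 zf3) (kf xf23 yf8 zf6) (kf xf29 yf15 zf26) (kf xf13 yf32 zf28) (kf xf11 yf8 zf25)) (@D3.rec (fun _ => Pt) (kf xf26 yf59 zf19) (kf xf14 yf35 zf50) (kf xf20 yf34 zf55) (kf xf27 yf4 zf50) (kf xf12 yf44 zf11) (kf xf25 yf18 zf19) (kf xf17 yf3 zf13) (kf xf11 yf30 zf22) (kf xf17 yf19 zf19) (kf xf15 yf55 zf0) (kf xf19 yf36 zf15) (kf xf14 yf18 zf43) (kf xf14 yf51 zf17) (kf xf20 yf23 zf8) (kf xf29 yf15 zf34) (kf xf29 yf15 zf32) (kf xf29 yf15 zf31) (kf xf29 yf15 zf42) (kf xf11 yf8 zf42) (kf xf25 yf14 zf10) (kf xf25 yf14 zf11) (kf xf15 yf16 zf29) (kf xf15 yf16 zf31) (kf xf15 yf9 zf0) (kf xf25 yf13 zf41) (kf xf25 yf14 zf12) (kf xf29 yf15 zf53) (kf xf11 yf8 zf45) (kf xf17 yf43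 zf34) (kf xf19 yf23 zf16) (kf xf29 yf15 zf57) (kf xf29 yf15 zf55) (kf xf24 yf36 zf33) (kf xf29 yf16 zf5) (kf xf11 yf8 zf51) (kf xf25 yf13 zf59) (kf xf25 yf13 zf60) (kf xf25 yf13 zf57) (kf xf25 yf13 zf58) (kf xf17 yf36 zf2) (kf xf27 yf39 zf50) (kf xf11 yf8 zf54) (kf xf25 yf8 zf25) (kf xf25 yf8 zf26) (kf xf15 yf21 zf0) (kf xf15 yf21 zf9) (kf xf24 yf12 zf27) (kf xf15 yf21 zf23) (kf xf21 yf21 zf27) (kf xf21 yf21 zf30) (kf xf27 yf20 zf43) (kf xf11 yf8 zf61) (kf xf25 yf8 zf43) (kf xf25 yf8 zf42) (kf xf29 yf16 zf23) (kf xf11 yf9 zf0) (kf xf19 yf11 zf61) (kf xf24 yf11 zf19) (kf xf25 yf8 zf34) (kf xf25 yf9 zf5) (kf xf29 yf16 zf29) (kf xf29 yf16 zf27)) (@D3.rec (fun _ => Pt) (kf xf29 yf16 zf26) (kf xf26 yf30 zf29) (kf xf11 yf9 zf5) (kf xf15 yf17 zf1) (kf xf26 yf13 zf43) (kf xf11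 yf9 zf6) (kf xf25 yf14 zf15) (kf xf29 yf16 zf38) (kf xf21 yf57 zf55) (kf xf25 yf14 zf21) (kf xf29 yf16 zf39) (kf xf11 yf9 zf10) (kf xf19 yf30 zf8) (kf xf25 yf14 zf19) (kf xf29 yf16 zf44) (kf xf25 yf14 zf17) (kf xf29 yf16 zf47) (kf xf11 yf9 zf12) (kf xf11 yf9 zf15) (kf xf11 yf9 zf14) (kf xf26 yf0 zf9) (kf xf29 yf16 zf49) (kf xf21 yf1 zf48) (kf xf29 yf0 zf2) (kf xf29 yf0 zf60) (kf xf15 yf21 zf10) (kf xf25 yf9 zf57) (kf xf25 yf9 zf58) (kf xf21 yf1 zf44) (kf xf25 yf9 zf52) (kf xf25 yf9 zf51) (kf xf25 yf9 zf59) (kf xf29 yf9 zf43) (kf xf24 yf11 zf22) (kf xf24 yf20 zf34) (kf xf23 yf58 zf58) (kf xf25 yf9 zf53) (kf xf29 yf17 zf1) (kf xf25 yf9 zf48) (kf xf15 yf54 zf7) (kf xf25 yf15 zf16) (kf xf25 yf15 zf15) (kf xf25 yf15 zf39) (kf xf11 yf9 zf24) (kf xf16 yf44 zf41) (kf xf25 yf13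 zf50) (kf xf25 yf15 zf28) (kf xf25 yf15 zf29) (kf xf19 yf57 zf9) (kf xf25 yf15 zf25) (kf xf25 yf13 zf48) (kf xf25 yf15 zf30) (kf xf19 yf44 zf61) (kf xf25 yf14 zf4) (kf xf25 yf15 zf22) (kf xf25 yf15 zf23) (kf xf25 yf15 zf26) (kf xf29 yf17 zf19) (kf xf25 yf15 zf36) (kf xf25 yf15 zf37) (kf xf15 yf20 zf15) (kf xf25 yf15 zf33)) (@D3.rec (fun _ => Pt) (kf xf25 yf15 zf34) (kf xf25 yf15 zf35) (kf xf22 yf11 zf11) (kf xf22 yf11 zf10) (kf xf25 yf9 zf61) (kf xf24 yf45 zf4) (kf xf12 yf29 zf22) (kf xf12 yf29 zf25) (kf xf12 yf50 zf3) (kf xf25 yf15 zf17) (kf xf27 yf48 zf38) (kf xf23 yf22 zf26) (kf xf25 yf45 zf30) (kf xf17 yf44 zf15) (kf xf25 yf15 zf50) (kf xf18 yf4 zf32) (kf xf25 yf15 zf48) (kf xf25 yf15 zf47) (kf xf11 yf9 zf47) (kf xf11 yf9 zf49) (kf xf25 yf5 zf9) (kf xf19 yf36 zf12)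 (kf xf25 yf50 zf12) (kf xf29 yf17 zf32) (kf xf21 yf21 zf34) (kf xf26 yf46 zf55) (kf xf26 yf46 zf54) (kf xf23 yf43 zf5) (kf xf11 yf9 zf54) (kf xf15 yf8 zf17) (kf xf11 yf9 zf56) (kf xf11 yf58 zf0) (kf xf11 yf42 zf0) (kf xf26 yf27 zf14) (kf xf24 yf52 zf41) (kf xf28 yf55 zf28) (kf xf19 yf49 zf58) (kf xf19 yf50 zf36) (kf xf25 yf40 zf41) (kf xf20 yf5 zf55) (kf xf11 yf10 zf2) (kf xf29 yf17 zf42) (kf xf12 yf49 zf40) (kf xf29 yf17 zf46) (kf xf11 yf10 zf4) (kf xf19 yf49 zf60) (kf xf19 yf49 zf61) (kf xf23 yf43 zf2) (kf xf19 yf49 zf55) (kf xf11 yf15 zf12) (kf xf11 yf10 zf8) (kf xf11 yf10 zf18) (kf xf11 yf10 zf20) (kf xf15 yf29 zf58) (kf xf19 yf40 zf10) (kf xf28 yf59 zf21) (kf xf29 yf0 zf55) (kf xf21 yf2 zf7) (kf xf26 yf37 zf32) (kf xf28 yf59 zf23) (kf xf16 yf47 zf31) (kf xf24 yf52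 zf12)) (@D3.rec (fun _ => Pt) (kf xf28 yf49 zf54) (kf xf19 yf53 zf38) (kf xf19 yf38 zf32) (kf xf20 yf23 zf14) (kf xf28 yf1 zf23) (kf xf11 yf10 zf25) (kf xf24 yf48 zf38) (kf xf24 yf48 zf41) (kf xf24 yf50 zf28) (kf xf24 yf50 zf29) (kf xf15 yf27 zf54) (kf xf15 yf18 zf38) (kf xf12 yf57 zf50) (kf xf18 yf33 zf32) (kf xf26 yf48 zf37) (kf xf25 yf21 zf10) (kf xf19 yf34 zf56) (kf xf29 yf18 zf4) (kf xf18 yf33 zf30) (kf xf18 yf33 zf31) (kf xf18 yf33 zf33) (kf xf18 yf33 zf28) (kf xf12 yf57 zf51) (kf xf19 yf40 zf28) (kf xf19 yf40 zf29) (kf xf19 yf40 zf30) (kf xf15 yf30 zf19) (kf xf19 yf40 zf25) (kf xf12 yf27 zf45) (kf xf21 yf23 zf43) (kf xf24 yf51 zf11) (kf xf12 yf50 zf1) (kf xf11 yf16 zf61) (kf xf22 yf11 zf38) (kf xf11 yf24 zf37) (kf xf11 yf24 zf39) (kf xf22 yf12 zf5) (kf xf18 yf36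 zf19) (kf xf11 yf11 zf7) (kf xf11 yf11 zf6) (kf xf11 yf11 zf13) (kf xf16 yf28 zf17) (kf xf12 yf45 zf43) (kf xf12 yf33 zf54) (kf xf26 yf46 zf60) (kf xf21 yf0 zf41) (kf xf23 yf42 zf9) (kf xf27 yf41 zf30) (kf xf26 yf47 zf0) (kf xf21 yf3 zf27) (kf xf26 yf47 zf1) (kf xf17 yf15 zf60) (kf xf20 yf25 zf17) (kf xf20 yf15 zf37) (kf xf11 yf11 zf15) (kf xf20 yf4 zf39) (kf xf16 yf35 zf15) (kf xf11 yf11 zf49) (kf xf20 yf0 zf19) (kf xf20 yf22 zf15) (kf xf11 yf11 zf26) (kf xf20 yf0 zf31)) (@D3.rec (fun _ => Pt) (kf xf15 yf6 zf33) (kf xf20 yf0 zf34) (kf xf13 yf26 zf61) (kf xf13 yf15 zf29) (kf xf13 yf27 zf2) (kf xf22 yf31 zf42) (kf xf20 yf0 zf49) (kf xf20 yf0 zf48) (kf xf23 yf6 zf31) (kf xf11 yf11 zf30) (kf xf16 yf31 zf5) (kf xf16 yf53 zf50) (kf xf29 yf14 zf37) (kf xf21 yf37 zf36) (kf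 xf11 yf11 zf34) (kf xf19 yf51 zf9) (kf xf20 yf0 zf43) (kf xf20 yf0 zf44) (kf xf20 yf0 zf45) (kf xf23 yf4 zf13) (kf xf11 yf23 zf47) (kf xf11 yf11 zf37) (kf xf15 yf0 zf19) (kf xf19 yf51 zf25) (kf xf20 yf1 zf22) (kf xf16 yf53 zf22) (kf xf29 yf18 zf18) (kf xf11 yf11 zf42) (kf xf29 yf18 zf19) (kf xf12 yf8 zf2) (kf xf19 yf56 zf14) (kf xf16 yf30 zf56) (kf xf16 yf30 zf57) (kf xf20 yf0 zf13) (kf xf22 yf38 zf34) (kf xf17 yf3 zf39) (kf xf13 yf5 zf27) (kf xf21 yf37 zf37) (kf xf16 yf31 zf3) (kf xf11 yf16 zf50) (kf xf14 yf8 zf42) (kf xf18 yf17 zf1) (kf xf13 yf58 zf52) (kf xf20 yf0 zf39) (kf xf16 yf53 zf44) (kf xf20 yf0 zf23) (kf xf12 yf8 zf58) (kf xf14 yf46 zf32) (kf xf26 yf48 zf47) (kf xf26 yf48 zf48) (kf xf12 yf51 zf13) (kf xf20 yf8 zf60) (kf xf21 yf32 zf2) (kf xf12 yf15 zf5) (kf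 xf21 yf32 zf6) (kf xf11 yf37 zf15) (kf xf20 yf34 zf35) (kf xf11 yf12 zf21) (kf xf12 yf8 zf60) (kf xf12 yf9 zf0) (kf xf18 yf15 zf37) (kf xf11 yf59 zf21)) (@D3.rec (fun _ => Pt) (kf xf11 yf59 zf22) (kf xf11 yf59 zf23) (kf xf12 yf56 zf14) (kf xf29 yf9 zf5) (kf xf28 yf24 zf37) (kf xf26 yf19 zf2) (kf xf29 yf18 zf34) (kf xf26 yf19 zf0) (kf xf25 yf28 zf37) (kf xf11 yf12 zf34) (kf xf11 yf19 zf56) (kf xf11 yf12 zf35) (kf xf12 yf10 zf54) (kf xf19 yf43 zf57) (kf xf16 yf46 zf12) (kf xf17 yf9 zf9) (kf xf14 yf8 zf1) (kf xf26 yf48 zf59) (kf xf11 yf20 zf24) (kf xf19 yf26 zf57) (kf xf11 yf12 zf52) (kf xf20 yf8 zf5) (kf xf20 yf7 zf60) (kf xf28 yf26 zf24) (kf xf16 yf23 zf24) (kf xf16 yf22 zf24) (kf xf26 yf49 zf36) (kf xf11 yf33 zf9) (kf xf14 yf59 zf61) (kf xf26 yf49 zf37) (kf xf24 yf53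 zf26) (kf xf26 yf55 zf34) (kf xf19 yf33 zf49) (kf xf26 yf49 zf39) (kf xf11 yf12 zf61) (kf xf26 yf49 zf40) (kf xf20 yf33 zf46) (kf xf19 yf26 zf36) (kf xf27 yf21 zf58) (kf xf11 yf33 zf17) (kf xf11 yf33 zf18) (kf xf19 yf21 zf48) (kf xf29 yf18 zf48) (kf xf16 yf30 zf2) (kf xf15 yf5 zf31) (kf xf22 yf51 zf0) (kf xf11 yf13 zf8) (kf xf16 yf23 zf6) (kf xf16 yf30 zf3) (kf xf23 yf47 zf47) (kf xf26 yf49 zf42) (kf xf26 yf22 zf24) (kf xf26 yf49 zf43) (kf xf26 yf49 zf44) (kf xf20 yf8 zf56) (kf xf11 yf14 zf5) (kf xf29 yf18 zf55) (kf xf11 yf13 zf17) (kf xf11 yf14 zf9) (kf xf24 yf40 zf39) (kf xf20 yf7 zf22) (kf xf20 yf8 zf2)) (@D3.rec (fun _ => Pt) (kf xf11 yf34 zf1) (kf xf16 yf20 zf60) (kf xf20 yf7 zf61) (kf xf16 yf23 zf5) (kf xf11 yf13 zf28) (kf xf20 yf7 zf21) (kf xf17 yf55 zf6) (kf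 xf26 yf49 zf46) (kf xf20 yf18 zf25) (kf xf11 yf13 zf31) (kf xf20 yf18 zf22) (kf xf18 yf59 zf53) (kf xf26 yf49 zf47) (kf xf11 yf13 zf33) (kf xf18 yf21 zf53) (kf xf20 yf18 zf27) (kf xf18 yf58 zf37) (kf xf26 yf49 zf49) (kf xf26 yf49 zf50) (kf xf26 yf49 zf51) (kf xf22 yf17 zf23) (kf xf26 yf18 zf41) (kf xf16 yf21 zf15) (kf xf11 yf13 zf39) (kf xf14 yf58 zf42) (kf xf28 yf27 zf31) (kf xf26 yf50 zf13) (kf xf19 yf17 zf56) (kf xf17 yf8 zf31) (kf xf29 yf19 zf6) (kf xf24 yf47 zf22) (kf xf17 yf15 zf44) (kf xf17 yf6 zf18) (kf xf15 yf5 zf29) (kf xf15 yf5 zf32) (kf xf11 yf13 zf50) (kf xf26 yf30 zf16) (kf xf11 yf34 zf24) (kf xf11 yf48 zf4) (kf xf22 yf23 zf12) (kf xf18 yf41 zf24) (kf xf12 yf22 zf19) (kf xf11 yf17 zf2) (kf xf11 yf37 zf58) (kf xf12 yf22 zf21) (kf xf29 yf19 zf16) (kf xf11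 yf13 zf59) (kf xf21 yf15 zf13) (kf xf21 yf15 zf14) (kf xf21 yf15 zf15) (kf xf20 yf18 zf24) (kf xf29 yf19 zf19) (kf xf29 yf14 zf53) (kf xf11 yf14 zf0) (kf xf20 yf31 zf24) (kf xf26 yf49 zf58) (kf xf20 yf7 zf54) (kf xf29 yf18 zf53) (kf xf29 yf18 zf52) (kf xf11 yf14 zf4) (kf xf20 yf6 zf51) (kf xf23 yf3 zf36)) (@D3.rec (fun _ => Pt) (kf xf23 yf10 zf44) (kf xf11 yf33 zf20) (kf xf20 yf32 zf52) (kf xf29 yf18 zf54) (kf xf11 yf14 zf7) (kf xf26 yf50 zf51) (kf xf16 yf57 zf10) (kf xf14 yf20 zf13) (kf xf20 yf9 zf11) (kf xf16 yf31 zf61) (kf xf19 yf58 zf44) (kf xf20 yf9 zf8) (kf xf19 yf47 zf16) (kf xf19 yf47 zf13) (kf xf24 yf52 zf60) (kf xf29 yf19 zf34) (kf xf22 yf8 zf1) (kf xf27 yf44 zf7) (kf xf27 yf43 zf49) (kf xf19 yf24 zf15) (kf xf15 yf4 zf8) (kf xf19 yf24 zf18) (kf xf21 yf30 zf34)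 (kf xf21 yf30 zf33) (kf xf11 yf14 zf23) (kf xf21 yf30 zf32) (kf xf26 yf49 zf34) (kf xf12 yf3 zf41) (kf xf19 yf26 zf39) (kf xf11 yf16 zf55) (kf xf18 yf16 zf12) (kf xf11 yf14 zf30) (kf xf17 yf30 zf20) (kf xf11 yf50 zf20) (kf xf13 yf22 zf0) (kf xf26 yf49 zf33) (kf xf26 yf52 zf33) (kf xf11 yf14 zf40) (kf xf11 yf16 zf43) (kf xf11 yf17 zf14) (kf xf11 yf17 zf15) (kf xf21 yf37 zf17) (kf xf19 yf59 zf56) (kf xf12 yf53 zf55) (kf xf13 yf58 zf51) (kf xf14 yf50 zf21) (kf xf26 yf45 zf49) (kf xf20 yf17 zf41) (kf xf12 yf18 zf31) (kf xf12 yf10 zf43) (kf xf12 yf31 zf10) (kf xf12 yf45 zf38) (kf xf14 yf15 zf52) (kf xf12 yf27 zf37) (kf xf21 yf32 zf19) (kf xf22 yf2 zf53) (kf xf11 yf14 zf60) (kf xf11 yf14 zf59) (kf xf16 yf52 zf36) (kf xf29 yf13 zf60) (kf xf16 yf52 zf37) (kf xf20 yf15 zf20))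 (@D3.rec (fun _ => Pt) (kf xf20 yf15 zf17) (kf xf20 yf10 zf39) (kf xf26 yf17 zf30) (kf xf26 yf17 zf31) (kf xf20 yf11 zf29) (kf xf20 yf11 zf30) (kf xf26 yf48 zf61) (kf xf26 yf49 zf0) (kf xf24 yf28 zf2) (kf xf26 yf49 zf1) (kf xf26 yf53 zf3) (kf xf20 yf21 zf38) (kf xf20 yf21 zf41) (kf xf26 yf17 zf34) (kf xf29 yf20 zf2) (kf xf24 yf53 zf16) (kf xf26 yf49 zf4) (kf xf20 yf34 zf51) (kf xf26 yf17 zf33) (kf xf28 yf27 zf30) (kf xf26 yf20 zf12) (kf xf26 yf48 zf60) (kf xf21 yf49 zf40) (kf xf13 yf24 zf25) (kf xf22 yf17 zf58) (kf xf26 yf49 zf6) (kf xf26 yf49 zf7) (kf xf26 yf49 zf8) (kf xf28 yf18 zf16) (kf xf29 yf20 zf17) (kf xf11 yf16 zf12) (kf xf11 yf16 zf10) (kf xf28 yf19 zf8) (kf xf11 yf15 zf25) (kf xf12 yf44 zf54) (kf xf16 yf22 zf42) (kf xf28 yf18 zf43) (kf xf22 yf23 zf35) (kf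 xf16 yf21 zf61) (kf xf20 yf10 zf1) (kf xf26 yf17 zf22) (kf xf26 yf17 zf23) (kf xf17 yf45 zf50) (kf xf11 yf15 zf31) (kf xf26 yf17 zf28) (kf xf26 yf17 zf29) (kf xf28 yf28 zf43) (kf xf24 yf56 zf39) (kf xf26 yf17 zf25) (kf xf11 yf15 zf33) (kf xf23 yf18 zf45) (kf xf16 yf21 zf43) (kf xf26 yf18 zf29) (kf xf20 yf19 zf3) (kf xf27 yf52 zf41) (kf xf26 yf18 zf34) (kf xf24 yf57 zf38) (kf xf11 yf15 zf36) (kf xf26 yf18 zf32) (kf xf20 yf19 zf1) (kf xf26 yf18 zf30) (kf xf11 yf15 zf38)) (@D3.rec (fun _ => Pt) (kf xf20 yf20 zf55) (kf xf20 yf19 zf6) (kf xf29 yf20 zf45) (kf xf26 yf18 zf36) (kf xf20 yf19 zf5) (kf xf27 yf51 zf57) (kf xf26 yf15 zf36) (kf xf26 yf15 zf37) (kf xf26 yf15 zf26) (kf xf26 yf15 zf38) (kf xf26 yf18 zf15) (kf xf29 yf20 zf55) (kf xf22 yf50 zf58) (kf xf22 yf50 zf57) (kf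 xf27 yf38 zf0) (kf xf22 yf50 zf15) (kf xf29 yf21 zf3) (kf xf22 yf50 zf8) (kf xf22 yf50 zf55) (kf xf20 yf36 zf34) (kf xf18 yf48 zf41) (kf xf26 yf49 zf27) (kf xf20 yf21 zf40) (kf xf29 yf20 zf18) (kf xf20 yf21 zf43) (kf xf20 yf21 zf44) (kf xf20 yf21 zf45) (kf xf20 yf21 zf46) (kf xf23 yf4 zf17) (kf xf20 yf10 zf4) (kf xf20 yf10 zf5) (kf xf29 yf21 zf22) (kf xf17 yf6 zf36) (kf xf26 yf49 zf12) (kf xf29 yf21 zf26) (kf xf11 yf15 zf52) (kf xf17 yf22 zf22) (kf xf26 yf49 zf15) (kf xf18 yf48 zf57) (kf xf23 yf0 zf23) (kf xf26 yf49 zf11) (kf xf22 yf47 zf9) (kf xf28 yf23 zf9) (kf xf12 yf3 zf43) (kf xf12 yf3 zf42) (kf xf18 yf48 zf0) (kf xf11 yf15 zf57) (kf xf15 yf56 zf41) (kf xf15 yf31 zf4) (kf xf25 yf26 zf44) (kf xf24 yf1 zf13) (kf xf26 yf49 zf16) (kf xf25 yf52 zf4) (kf xf22 yf46 zf30)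 (kf xf20 yf19 zf2) (kf xf22 yf46 zf32) (kf xf25 yf26 zf43) (kf xf11 yf16 zf2) (kf xf29 yf21 zf35) (kf xf26 yf49 zf17) (kf xf22 yf35 zf54) (kf xf24 yf12 zf51)) (@D3.rec (fun _ => Pt) (kf xf18 yf34 zf34) (kf xf28 yf5 zf44) (kf xf28 yf47 zf61) (kf xf11 yf16 zf6) (kf xf16 yf51 zf43) (kf xf20 yf58 zf33) (kf xf20 yf21 zf39) (kf xf12 yf54 zf8) (kf xf29 yf20 zf19) (kf xf24 yf29 zf37) (kf xf25 yf52 zf41) (kf xf22 yf6 zf28) (kf xf11 yf21 zf29) (kf xf16 yf36 zf3) (kf xf21 yf9 zf1) (kf xf29 yf20 zf20) (kf xf26 yf46 zf36) (kf xf22 yf4 zf61) (kf xf22 yf4 zf59) (kf xf11 yf16 zf16) (kf xf11 yf26 zf48) (kf xf11 yf18 zf58) (kf xf11 yf17 zf13) (kf xf11 yf17 zf44) (kf xf19 yf59 zf55) (kf xf19 yf4 zf32) (kf xf11 yf22 zf48) (kf xf11 yf20 zf27) (kf xf23 yf42 zf44) (kf xf11 yf18 zf7) (kf xf11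 yf18 zf8) (kf xf25 yf31 zf0) (kf xf11 yf19 zf52) (kf xf11 yf16 zf33) (kf xf11 yf20 zf25) (kf xf11 yf20 zf26) (kf xf11 yf20 zf21) (kf xf27 yf21 zf20) (kf xf11 yf40 zf7) (kf xf23 yf47 zf0) (kf xf11 yf17 zf35) (kf xf21 yf47 zf54) (kf xf11 yf17 zf10) (kf xf11 yf17 zf9) (kf xf11 yf18 zf43) (kf xf17 yf55 zf2) (kf xf11 yf16 zf54) (kf xf11 yf17 zf31) (kf xf21 yf51 zf60) (kf xf21 yf51 zf59) (kf xf20 yf15 zf50) (kf xf18 yf16 zf61) (kf xf17 yf58 zf4) (kf xf19 yf59 zf58) (kf xf11 yf24 zf21) (kf xf17 yf31 zf59) (kf xf19 yf59 zf59) (kf xf29 yf18 zf8) (kf xf29 yf18 zf9) (kf xf29 yf18 zf10) (kf xf20 yf15 zf4) (kf xf22 yf12 zf4)) (@D3.rec (fun _ => Pt) (kf xf20 yf28 zf32) (kf xf11 yf17 zf1) (kf xf26 yf46 zf25) (kf xf20 yf15 zf6) (kf xf21 yf27 zf35) (kf xf23 yf40 zf53) (kf xf24 yf32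 zf50) (kf xf21 yf18 zf46) (kf xf12 yf20 zf25) (kf xf12 yf12 zf15) (kf xf17 yf35 zf23) (kf xf27 yf29 zf39) (kf xf23 yf36 zf17) (kf xf17 yf54 zf61) (kf xf26 yf21 zf50) (kf xf24 yf33 zf14) (kf xf24 yf32 zf46) (kf xf11 yf17 zf11) (kf xf11 yf17 zf41) (kf xf11 yf17 zf40) (kf xf14 yf2 zf20) (kf xf23 yf24 zf25) (kf xf11 yf20 zf9) (kf xf11 yf17 zf17) (kf xf11 yf17 zf23) (kf xf27 yf1 zf14) (kf xf11 yf17 zf18) (kf xf21 yf53 zf36) (kf xf29 yf14 zf41) (kf xf29 yf22 zf2) (kf xf26 yf57 zf44) (kf xf16 yf51 zf46) (kf xf16 yf51 zf44) (kf xf26 yf7 zf31) (kf xf11 yf17 zf22) (kf xf23 yf24 zf44) (kf xf29 yf22 zf6) (kf xf11 yf17 zf25) (kf xf21 yf38 zf15) (kf xf13 yf55 zf50) (kf xf20 yf48 zf41) (kf xf11 yf17 zf32) (kf xf12 yf47 zf31) (kf xf27 yf3 zf26) (kf xf27 yf43 zf14) (kf xf29 yf6 zf36)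 (kf xf21 yf47 zf52) (kf xf11 yf17 zf38) (kf xf16 yf42 zf13) (kf xf17 yf55 zf16) (kf xf28 yf24 zf36) (kf xf15 yf25 zf38) (kf xf11 yf47 zf0) (kf xf25 yf2 zf41) (kf xf29 yf21 zf45) (kf xf11 yf46 zf58) (kf xf26 yf45 zf44) (kf xf21 yf30 zf12) (kf xf11 yf21 zf47) (kf xf12 yf6 zf51) (kf xf12 yf6 zf50) (kf xf11 yf17 zf48)) (@D3.rec (fun _ => Pt) (kf xf11 yf17 zf52) (kf xf21 yf36 zf34) (kf xf29 yf0 zf37) (kf xf11 yf19 zf60) (kf xf11 yf18 zf50) (kf xf11 yf18 zf51) (kf xf26 yf25 zf29) (kf xf11 yf18 zf38) (kf xf11 yf18 zf37) (kf xf27 yf43 zf13) (kf xf11 yf17 zf58) (kf xf11 yf18 zf41) (kf xf11 yf18 zf42) (kf xf13 yf2 zf3) (kf xf16 yf47 zf29) (kf xf11 yf19 zf0) (kf xf21 yf32 zf58) (kf xf11 yf36 zf45) (kf xf26 yf23 zf19) (kf xf21 yf26 zf56) (kf xf26 yf22 zf54) (kf xf27 yf20 zf56)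 (kf xf29 yf21 zf46) (kf xf21 yf26 zf58) (kf xf16 yf28 zf16) (kf xf25 yf18 zf60) (kf xf25 yf31 zf10) (kf xf26 yf10 zf40) (kf xf25 yf16 zf39) (kf xf21 yf19 zf48) (kf xf29 yf22 zf19) (kf xf12 yf44 zf60) (kf xf25 yf16 zf45) (kf xf11 yf18 zf11) (kf xf25 yf43 zf1) (kf xf21 yf19 zf52) (kf xf11 yf19 zf43) (kf xf11 yf19 zf45) (kf xf26 yf59 zf4) (kf xf11 yf19 zf39) (kf xf11 yf19 zf40) (kf xf11 yf19 zf41) (kf xf27 yf20 zf13) (kf xf11 yf19 zf48) (kf xf11 yf19 zf47) (kf xf11 yf46 zf36) (kf xf11 yf18 zf17) (kf xf11 yf20 zf10) (kf xf11 yf20 zf11) (kf xf20 yf20 zf49) (kf xf11 yf18 zf33) (kf xf11 yf20 zf14) (kf xf11 yf18 zf59) (kf xf11 yf18 zf22) (kf xf11 yf20 zf0) (kf xf21 yf42 zf35) (kf xf11 yf18 zf25) (kf xf17 yf32 zf11) (kf xf21 yf37 zf18) (kf xf11 yf47 zf50) (kf xf16 yf45 zf35)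 (kf xf29 yf22 zf30)) (@D3.rec (fun _ => Pt) (kf xf29 yf22 zf31) (kf xf11 yf18 zf31) (kf xf23 yf3 zf52) (kf xf29 yf22 zf27) (kf xf20 yf12 zf60) (kf xf27 yf6 zf4) (kf xf20 yf13 zf3) (kf xf21 yf36 zf11) (kf xf12 yf28 zf56) (kf xf16 yf49 zf46) (kf xf21 yf3 zf28) (kf xf17 yf30 zf0) (kf xf20 yf15 zf48) (kf xf17 yf29 zf53) (kf xf26 yf50 zf22) (kf xf11 yf18 zf39) (kf xf29 yf6 zf1) (kf xf20 yf10 zf0) (kf xf29 yf21 zf50) (kf xf29 yf22 zf14) (kf xf20 yf9 zf61) (kf xf21 yf36 zf49) (kf xf26 yf52 zf49) (kf xf15 yf20 zf33) (kf xf19 yf49 zf10) (kf xf29 yf22 zf15) (kf xf25 yf50 zf15) (kf xf14 yf33 zf60) (kf xf11 yf18 zf48) (kf xf20 yf27 zf38) (kf xf21 yf54 zf29) (kf xf29 yf22 zf42) (kf xf17 yf37 zf41) (kf xf29 yf22 zf45) (kf xf25 yf45 zf52) (kf xf12 yf36 zf36) (kf xf11 yf18 zf54) (kf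 xf20 yf5 zf53) (kf xf21 yf32 zf45) (kf xf17 yf19 zf47) (kf xf12 yf44 zf47) (kf xf11 yf37 zf47) (kf xf17 yf11 zf19) (kf xf29 yf22 zf22) (kf xf11 yf41 zf6) (kf xf20 yf45 zf29) (kf xf20 yf45 zf30) (kf xf11 yf41 zf3) (kf xf20 yf15 zf12) (kf xf11 yf19 zf5) (kf xf20 yf12 zf50) (kf xf16 yf54 zf7) (kf xf11 yf19 zf7) (kf xf12 yf53 zf8) (kf xf12 yf53 zf12) (kf xf21 yf22 zf41) (kf xf18 yf25 zf33) (kf xf17 yf58 zf0) (kf xf21 yf35 zf41) (kf xf12 yf53 zf1) (kf xf21 yf53 zf30) (kf xf21 yf56 zf27)) (@D3.rec (fun _ => Pt) (kf xf11 yf19 zf28) (kf xf11 yf19 zf27) (kf xf11 yf19 zf23) (kf xf25 yf44 zf23) (kf xf21 yf56 zf35) (kf xf21 yf56 zf32) (kf xf21 yf8 zf54) (kf xf17 yf42 zf10) (kf xf11 yf19 zf26) (kf xf29 yf22 zf55) (kf xf29 yf22 zf56) (kf xf15 yf25 zf20) (kf xf26 yf50 zf28) (kf xf27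 yf1 zf28) (kf xf17 yf56 zf35) (kf xf15 yf25 zf19) (kf xf20 yf34 zf38) (kf xf16 yf17 zf26) (kf xf28 yf1 zf28) (kf xf21 yf51 zf20) (kf xf14 yf55 zf56) (kf xf19 yf5 zf50) (kf xf19 yf5 zf47) (kf xf23 yf30 zf34) (kf xf24 yf37 zf27) (kf xf11 yf19 zf35) (kf xf21 yf23 zf19) (kf xf21 yf23 zf21) (kf xf21 yf22 zf44) (kf xf24 yf14 zf49) (kf xf11 yf19 zf37) (kf xf27 yf30 zf33) (kf xf29 yf22 zf23) (kf xf29 yf20 zf3) (kf xf24 yf34 zf49) (kf xf13 yf11 zf0) (kf xf24 yf53 zf15) (kf xf20 yf25 zf61) (kf xf11 yf24 zf25) (kf xf20 yf49 zf2) (kf xf20 yf49 zf4) (kf xf22 yf21 zf45) (kf xf17 yf51 zf20) (kf xf26 yf50 zf30) (kf xf11 yf19 zf42) (kf xf20 yf20 zf37) (kf xf20 yf26 zf17) (kf xf28 yf48 zf44) (kf xf26 yf52 zf48) (kf xf11 yf19 zf46) (kf xf29 yf22 zf25) (kf xf28 yf53 zf5) (kf xf13 yf11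 zf4) (kf xf17 yf50 zf17) (kf xf24 yf53 zf37) (kf xf22 yf25 zf14) (kf xf22 yf25 zf13) (kf xf11 yf43 zf29) (kf xf11 yf19 zf49) (kf xf21 yf25 zf47) (kf xf13 yf24 zf27) (kf xf21 yf32 zf55)) (@D3.rec (fun _ => Pt) (kf xf20 yf40 zf31) (kf xf17 yf55 zf56) (kf xf17 yf55 zf57) (kf xf11 yf39 zf3) (kf xf18 yf1 zf4) (kf xf21 yf18 zf47) (kf xf29 yf22 zf12) (kf xf27 yf22 zf37) (kf xf13 yf58 zf47) (kf xf20 yf49 zf5) (kf xf20 yf49 zf7) (kf xf20 yf48 zf19) (kf xf17 yf59 zf48) (kf xf20 yf36 zf0) (kf xf11 yf20 zf1) (kf xf11 yf42 zf36) (kf xf20 yf48 zf54) (kf xf27 yf3 zf19) (kf xf22 yf27 zf42) (kf xf20 yf1 zf15) (kf xf28 yf39 zf9) (kf xf16 yf30 zf47) (kf xf21 yf54 zf28) (kf xf20 yf49 zf19) (kf xf11 yf41 zf56) (kf xf16 yf30 zf21) (kf xf11 yf20 zf12) (kf xf21 yf54 zf30) (kf xf21 yf44 zf56)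 (kf xf12 yf25 zf29) (kf xf14 yf11 zf36) (kf xf23 yf12 zf61) (kf xf20 yf25 zf1) (kf xf11 yf20 zf15) (kf xf23 yf55 zf27) (kf xf20 yf48 zf18) (kf xf11 yf20 zf18) (kf xf21 yf3 zf16) (kf xf12 yf26 zf23) (kf xf29 yf21 zf48) (kf xf17 yf30 zf12) (kf xf20 yf9 zf47) (kf xf20 yf1 zf3) (kf xf23 yf10 zf47) (kf xf29 yf21 zf47) (kf xf25 yf17 zf45) (kf xf12 yf32 zf20) (kf xf19 yf45 zf31) (kf xf19 yf27 zf0) (kf xf20 yf28 zf59) (kf xf16 yf48 zf27) (kf xf21 yf0 zf37) (kf xf25 yf26 zf12) (kf xf27 yf21 zf57) (kf xf26 yf59 zf18) (kf xf11 yf47 zf33) (kf xf29 yf23 zf40) (kf xf11 yf47 zf30) (kf xf11 yf20 zf33) (kf xf11 yf47 zf39) (kf xf11 yf47 zf40) (kf xf12 yf30 zf27)) (@D3.rec (fun _ => Pt) (kf xf11 yf47 zf46) (kf xf11 yf47 zf47) (kf xf12 yf30 zf31) (kf xf11 yf47 zf52) (kf xf11 yf47 zf53)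 (kf xf11 yf47 zf55) (kf xf11 yf47 zf56) (kf xf11 yf47 zf59) (kf xf11 yf47 zf60) (kf xf11 yf47 zf61) (kf xf29 yf23 zf54) (kf xf16 yf26 zf17) (kf xf17 yf58 zf24) (kf xf16 yf22 zf26) (kf xf20 yf28 zf42) (kf xf11 yf20 zf56) (kf xf11 yf20 zf55) (kf xf15 yf4 zf41) (kf xf21 yf51 zf26) (kf xf29 yf21 zf4) (kf xf11 yf20 zf48) (kf xf17 yf2 zf39) (kf xf20 yf8 zf10) (kf xf29 yf24 zf3) (kf xf20 yf8 zf50) (kf xf20 yf8 zf8) (kf xf29 yf24 zf5) (kf xf20 yf8 zf15) (kf xf19 yf0 zf56) (kf xf26 yf52 zf51) (kf xf29 yf19 zf14) (kf xf29 yf23 zf59) (kf xf29 yf18 zf60) (kf xf18 yf23 zf40) (kf xf11 yf20 zf54) (kf xf23 yf35 zf19) (kf xf24 yf32 zf44) (kf xf17 yf2 zf36) (kf xf16 yf49 zf45) (kf xf20 yf30 zf59) (kf xf26 yf22 zf23) (kf xf28 yf13 zf50) (kf xf28 yf13 zf51) (kf xf28 yf13 zf49) (kf xf26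 yf25 zf44) (kf xf16 yf27 zf46) (kf xf26 yf53 zf14) (kf xf28 yf13 zf4) (kf xf15 yf44 zf17) (kf xf17 yf33 zf9) (kf xf20 yf1 zf16) (kf xf17 yf15 zf9) (kf xf17 yf2 zf8) (kf xf11 yf21 zf4) (kf xf26 yf51 zf7) (kf xf22 yf4 zf43) (kf xf26 yf52 zf30) (kf xf27 yf2 zf45) (kf xf11 yf21 zf30) (kf xf11 yf21 zf27) (kf xf17 yf25 zf5) (kf xf24 yf31 zf52)) (@D3.rec (fun _ => Pt) (kf xf11 yf21 zf19) (kf xf20 yf10 zf59) (kf xf20 yf11 zf54) (kf xf20 yf10 zf53) (kf xf29 yf24 zf25) (kf xf20 yf11 zf4) (kf xf20 yf11 zf1) (kf xf26 yf52 zf37) (kf xf11 yf21 zf23) (kf xf21 yf9 zf3) (kf xf21 yf52 zf9) (kf xf21 yf9 zf0) (kf xf11 yf47 zf13) (kf xf21 yf9 zf25) (kf xf12 yf10 zf44) (kf xf20 yf27 zf37) (kf xf20 yf51 zf11) (kf xf19 yf57 zf32) (kf xf25 yf45 zf55) (kf xf23 yf2 zf53) (kf xf26 yf46 zf32) (kf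 xf15 yf59 zf11) (kf xf26 yf2 zf6) (kf xf27 yf5 zf54) (kf xf11 yf21 zf48) (kf xf11 yf21 zf49) (kf xf25 yf56 zf20) (kf xf19 yf57 zf29) (kf xf17 yf16 zf0) (kf xf19 yf48 zf39) (kf xf20 yf25 zf52) (kf xf22 yf46 zf39) (kf xf12 yf31 zf18) (kf xf29 yf22 zf32) (kf xf12 yf58 zf48) (kf xf12 yf32 zf10) (kf xf14 yf10 zf56) (kf xf16 yf36 zf0) (kf xf26 yf46 zf0) (kf xf22 yf47 zf17) (kf xf14 yf10 zf55) (kf xf11 yf31 zf27) (kf xf17 yf18 zf13) (kf xf23 yf4 zf8) (kf xf11 yf48 zf20) (kf xf23 yf3 zf26) (kf xf26 yf53 zf12) (kf xf23 yf4 zf46) (kf xf22 yf22 zf41) (kf xf12 yf9 zf28) (kf xf11 yf22 zf7) (kf xf17 yf58 zf30) (kf xf11 yf24 zf43) (kf xf26 yf42 zf35) (kf xf18 yf43 zf54) (kf xf21 yf16 zf18) (kf xf18 yf43 zf56) (kf xf11 yf27 zf30) (kf xf21 yf32 zf43) (kf xf11 yf26 zf51) (kf xf11 yf39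 zf59) (kf xf26 yf49 zf5)) (@D3.rec (fun _ => Pt) (kf xf26 yf53 zf4) (kf xf26 yf53 zf5) (kf xf21 yf9 zf5) (kf xf26 yf53 zf6) (kf xf16 yf54 zf45) (kf xf26 yf52 zf35) (kf xf16 yf51 zf19) (kf xf26 yf52 zf36) (kf xf26 yf44 zf5) (kf xf26 yf53 zf9) (kf xf20 yf52 zf33) (kf xf20 yf34 zf47) (kf xf28 yf0 zf42) (kf xf26 yf52 zf43) (kf xf29 yf8 zf45) (kf xf27 yf13 zf29) (kf xf20 yf52 zf26) (kf xf11 yf39 zf6) (kf xf11 yf36 zf59) (kf xf20 yf52 zf16) (kf xf11 yf38 zf53) (kf xf19 yf59 zf36) (kf xf26 yf50 zf19) (kf xf16 yf52 zf25) (kf xf13 yf24 zf17) (kf xf26 yf43 zf61) (kf xf26 yf44 zf1) (kf xf17 yf53 zf47) (kf xf26 yf53 zf16) (kf xf12 yf32 zf11) (kf xf26 yf43 zf20) (kf xf17 yf53 zf43) (kf xf13 yf57 zf18) (kf xf26 yf53 zf15) (kf xf19 yf25 zf23) (kf xf19 yf26 zf38) (kf xf24 yf33 zf52)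 (kf xf20 yf16 zf45) (kf xf20 yf54 zf11) (kf xf20 yf54 zf12) (kf xf27 yf22 zf36) (kf xf25 yf26 zf16) (kf xf11 yf51 zf29) (kf xf11 yf51 zf30) (kf xf11 yf51 zf31) (kf xf22 yf3 zf31) (kf xf23 yf31 zf13) (kf xf11 yf23 zf5) (kf xf11 yf23 zf3) (kf xf20 yf14 zf49) (kf xf11 yf23 zf4) (kf xf17 yf56 zf45) (kf xf28 yf6 zf51) (kf xf15 yf7 zf7) (kf xf18 yf21 zf43) (kf xf20 yf11 zf0) (kf xf28 yf12 zf38) (kf xf16 yf23 zf7) (kf xf21 yf13 zf19) (kf xf29 yf24 zf55) (kf xf26 yf19 zf4) (kf xf11 yf23 zf19)) (@D3.rec (fun _ => Pt) (kf xf21 yf12 zf36) (kf xf20 yf29 zf44) (kf xf29 yf24 zf57) (kf xf27 yf32 zf51) (kf xf11 yf23 zf40) (kf xf21 yf12 zf53) (kf xf29 yf25 zf1) (kf xf21 yf12 zf51) (kf xf19 yf0 zf4) (kf xf11 yf23 zf25) (kf xf21 yf12 zf49) (kf xf27 yf50 zf15) (kf xf21 yf12 zf56) (kf xf21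 yf12 zf55) (kf xf11 yf23 zf29) (kf xf16 yf21 zf22) (kf xf29 yf25 zf5) (kf xf13 yf30 zf55) (kf xf13 yf30 zf54) (kf xf11 yf23 zf31) (kf xf18 yf30 zf52) (kf xf19 yf20 zf32) (kf xf29 yf25 zf13) (kf xf29 yf25 zf10) (kf xf27 yf34 zf42) (kf xf12 yf7 zf14) (kf xf11 yf23 zf37) (kf xf27 yf34 zf24) (kf xf27 yf49 zf11) (kf xf21 yf13 zf27) (kf xf21 yf13 zf26) (kf xf18 yf35 zf32) (kf xf18 yf34 zf38) (kf xf21 yf15 zf5) (kf xf22 yf50 zf6) (kf xf27 yf33 zf16) (kf xf21 yf15 zf7) (kf xf11 yf23 zf45) (kf xf20 yf10 zf11) (kf xf20 yf12 zf6) (kf xf20 yf11 zf22) (kf xf20 yf10 zf12) (kf xf29 yf25 zf23) (kf xf20 yf11 zf24) (kf xf20 yf11 zf25) (kf xf20 yf11 zf26) (kf xf20 yf11 zf27) (kf xf29 yf25 zf28) (kf xf14 yf58 zf44) (kf xf22 yf34 zf25) (kf xf15 yf4 zf13) (kf xf21 yf32 zf59) (kf xf11 yf24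 zf6) (kf xf11 yf24 zf5) (kf xf21 yf41 zf9) (kf xf29 yf25 zf33) (kf xf15 yf49 zf40) (kf xf11 yf24 zf4) (kf xf25 yf53 zf14) (kf xf17 yf34 zf2) (kf xf18 yf42 zf15) (kf xf11 yf24 zf19)) (@D3.rec (fun _ => Pt) (kf xf11 yf24 zf13) (kf xf11 yf24 zf28) (kf xf11 yf24 zf29) (kf xf11 yf24 zf16) (kf xf26 yf45 zf48) (kf xf11 yf24 zf18) (kf xf20 yf36 zf3) (kf xf18 yf1 zf1) (kf xf27 yf3 zf17) (kf xf14 yf11 zf52) (kf xf20 yf27 zf5) (kf xf17 yf56 zf0) (kf xf11 yf40 zf35) (kf xf17 yf56 zf5) (kf xf21 yf9 zf49) (kf xf20 yf5 zf59) (kf xf20 yf29 zf0) (kf xf11 yf24 zf34) (kf xf22 yf12 zf2) (kf xf22 yf12 zf3) (kf xf22 yf12 zf1) (kf xf25 yf39 zf52) (kf xf12 yf46 zf5) (kf xf25 yf19 zf1) (kf xf17 yf30 zf61) (kf xf11 yf24 zf51) (kf xf11 yf24 zf50) (kf xf18 yf23 zf38) (kf xf11 yf25 zf4) (kf xf11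 yf25 zf5) (kf xf11 yf25 zf1) (kf xf26 yf28 zf40) (kf xf15 yf4 zf56) (kf xf20 yf28 zf4) (kf xf20 yf26 zf48) (kf xf20 yf28 zf30) (kf xf21 yf3 zf6) (kf xf18 yf43 zf25) (kf xf20 yf27 zf1) (kf xf20 yf26 zf61) (kf xf27 yf0 zf44) (kf xf11 yf25 zf10) (kf xf11 yf25 zf16) (kf xf11 yf25 zf13) (kf xf11 yf38 zf47) (kf xf22 yf13 zf5) (kf xf20 yf27 zf50) (kf xf29 yf25 zf39) (kf xf20 yf27 zf30) (kf xf11 yf25 zf28) (kf xf14 yf4 zf56) (kf xf11 yf25 zf25) (kf xf14 yf20 zf45) (kf xf11 yf28 zf26) (kf xf20 yf26 zf8) (kf xf19 yf24 zf23) (kf xf28 yf13 zf59) (kf xf14 yf4 zf55) (kf xf11 yf25 zf30) (kf xf12 yf29 zf9) (kf xf11 yf58 zf61) (kf xf26 yf56 zf37)) (@D3.rec (fun _ => Pt) (kf xf11 yf58 zf17) (kf xf11 yf25 zf35) (kf xf20 yf26 zf55) (kf xf20 yf26 zf52) (kf xf20 yf26 zf53) (kf xf29 yf25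 zf46) (kf xf20 yf26 zf58) (kf xf20 yf26 zf57) (kf xf20 yf2 zf13) (kf xf11 yf25 zf39) (kf xf20 yf26 zf60) (kf xf15 yf30 zf32) (kf xf20 yf27 zf0) (kf xf11 yf26 zf43) (kf xf20 yf5 zf3) (kf xf12 yf27 zf27) (kf xf12 yf53 zf35) (kf xf18 yf24 zf59) (kf xf18 yf24 zf60) (kf xf18 yf24 zf61) (kf xf26 yf57 zf24) (kf xf11 yf26 zf11) (kf xf11 yf26 zf15) (kf xf11 yf26 zf14) (kf xf28 yf40 zf13) (kf xf11 yf26 zf32) (kf xf11 yf26 zf34) (kf xf11 yf26 zf21) (kf xf11 yf26 zf27) (kf xf16 yf51 zf48) (kf xf11 yf26 zf42) (kf xf11 yf26 zf37) (kf xf11 yf26 zf38) (kf xf13 yf2 zf15) (kf xf21 yf30 zf54) (kf xf26 yf53 zf24) (kf xf20 yf49 zf13) (kf xf14 yf16 zf40) (kf xf27 yf22 zf38) (kf xf27 yf22 zf39) (kf xf16 yf40 zf24) (kf xf22 yf14 zf23) (kf xf13 yf17 zf46) (kf xf27 yf59 zf37) (kf xf25 yf23 zf42)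 (kf xf27 yf10 zf26) (kf xf29 yf25 zf51) (kf xf11 yf44 zf0) (kf xf27 yf11 zf10) (kf xf26 yf59 zf60) (kf xf29 yf25 zf54) (kf xf29 yf25 zf55) (kf xf16 yf58 zf14) (kf xf28 yf18 zf10) (kf xf29 yf25 zf53) (kf xf28 yf47 zf23) (kf xf24 yf21 zf39) (kf xf29 yf25 zf56) (kf xf29 yf26 zf30) (kf xf24 yf35 zf6) (kf xf11 yf26 zf16) (kf xf13 yf2 zf9)) (@D3.rec (fun _ => Pt) (kf xf27 yf42 zf52) (kf xf17 yf7 zf26) (kf xf21 yf31 zf59) (kf xf17 yf31 zf29) (kf xf24 yf21 zf31) (kf xf24 yf21 zf32) (kf xf24 yf21 zf33) (kf xf16 yf55 zf31) (kf xf15 yf3 zf45) (kf xf21 yf31 zf61) (kf xf29 yf7 zf17) (kf xf27 yf39 zf17) (kf xf29 yf25 zf61) (kf xf27 yf56 zf61) (kf xf17 yf56 zf36) (kf xf21 yf32 zf38) (kf xf29 yf21 zf44) (kf xf22 yf7 zf59) (kf xf23 yf19 zf47) (kf xf29 yf25 zf59) (kf xf24 yf25 zf2) (kf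 xf22 yf7 zf60) (kf xf26 yf58 zf27) (kf xf29 yf22 zf4) (kf xf16 yf29 zf33) (kf xf11 yf26 zf35) (kf xf27 yf42 zf56) (kf xf17 yf7 zf38) (kf xf16 yf58 zf21) (kf xf24 yf52 zf35) (kf xf17 yf31 zf34) (kf xf27 yf57 zf21) (kf xf16 yf3 zf17) (kf xf25 yf38 zf42) (kf xf24 yf52 zf45) (kf xf16 yf58 zf23) (kf xf27 yf42 zf55) (kf xf23 yf26 zf17) (kf xf18 yf3 zf9) (kf xf29 yf25 zf45) (kf xf14 yf40 zf14) (kf xf14 yf42 zf20) (kf xf28 yf55 zf26) (kf xf14 yf39 zf48) (kf xf29 yf25 zf58) (kf xf11 yf26 zf46) (kf xf29 yf26 zf39) (kf xf23 yf42 zf33) (kf xf28 yf55 zf58) (kf xf17 yf13 zf0) (kf xf27 yf36 zf25) (kf xf20 yf52 zf9) (kf xf11 yf26 zf56) (kf xf23 yf26 zf1) (kf xf21 yf29 zf32) (kf xf29 yf26 zf52) (kf xf11 yf26 zf59) (kf xf29 yf26 zf54) (kf xf27 yf40 zf56) (kf xf11 yf27 zf2) (kf xf21 yf32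 zf27) (kf xf21 yf32 zf28)) (@D3.rec (fun _ => Pt) (kf xf21 yf32 zf29) (kf xf20 yf17 zf32) (kf xf19 yf52 zf57) (kf xf19 yf53 zf12) (kf xf21 yf32 zf42) (kf xf15 yf4 zf24) (kf xf11 yf42 zf24) (kf xf11 yf27 zf32) (kf xf21 yf16 zf15) (kf xf12 yf56 zf32) (kf xf18 yf2 zf17) (kf xf21 yf31 zf45) (kf xf19 yf52 zf31) (kf xf11 yf31 zf52) (kf xf19 yf51 zf59) (kf xf26 yf44 zf8) (kf xf11 yf27 zf35) (kf xf20 yf5 zf52) (kf xf11 yf30 zf48) (kf xf15 yf7 zf52) (kf xf13 yf45 zf15) (kf xf12 yf29 zf32) (kf xf21 yf16 zf10) (kf xf17 yf4 zf43) (kf xf19 yf52 zf25) (kf xf15 yf8 zf15) (kf xf26 yf33 zf4) (kf xf20 yf50 zf60) (kf xf11 yf27 zf36) (kf xf28 yf13 zf11) (kf xf12 yf5 zf36) (kf xf14 yf36 zf11) (kf xf19 yf51 zf14) (kf xf20 yf52 zf37) (kf xf20 yf52 zf44) (kf xf20 yf52 zf45) (kf xf21 yf16 zf13)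 (kf xf16 yf30 zf32) (kf xf14 yf32 zf19) (kf xf11 yf27 zf61) (kf xf13 yf32 zf0) (kf xf14 yf45 zf17) (kf xf17 yf15 zf26) (kf xf11 yf28 zf2) (kf xf28 yf48 zf42) (kf xf11 yf28 zf5) (kf xf22 yf7 zf53) (kf xf28 yf0 zf25) (kf xf19 yf24 zf17) (kf xf16 yf56 zf42) (kf xf11 yf28 zf10) (kf xf19 yf53 zf1) (kf xf20 yf19 zf30) (kf xf17 yf58 zf57) (kf xf19 yf52 zf35) (kf xf20 yf28 zf21) (kf xf11 yf28 zf24) (kf xf19 yf24 zf24) (kf xf11 yf28 zf30) (kf xf27 yf1 zf29) (kf xf27 yf3 zf18) (kf xf20 yf16 zf37)) (@D3.rec (fun _ => Pt) (kf xf18 yf42 zf11) (kf xf19 yf53 zf19) (kf xf17 yf22 zf18) (kf xf21 yf51 zf31) (kf xf12 yf9 zf49) (kf xf19 yf24 zf22) (kf xf15 yf0 zf8) (kf xf11 yf45 zf39) (kf xf20 yf22 zf54) (kf xf20 yf32 zf58) (kf xf17 yf56 zf9) (kf xf21 yf15 zf44) (kf xf11 yf57 zf43) (kf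 xf13 yf2 zf16) (kf xf21 yf22 zf4) (kf xf21 yf22 zf5) (kf xf12 yf39 zf48) (kf xf20 yf16 zf46) (kf xf17 yf15 zf20) (kf xf11 yf29 zf12) (kf xf23 yf4 zf21) (kf xf21 yf30 zf45) (kf xf11 yf29 zf14) (kf xf21 yf12 zf26) (kf xf26 yf28 zf18) (kf xf21 yf30 zf50) (kf xf21 yf12 zf25) (kf xf18 yf25 zf51) (kf xf21 yf37 zf40) (kf xf23 yf58 zf13) (kf xf21 yf57 zf29) (kf xf20 yf50 zf46) (kf xf21 yf36 zf51) (kf xf20 yf1 zf47) (kf xf16 yf58 zf59) (kf xf20 yf49 zf58) (kf xf20 yf49 zf59) (kf xf21 yf36 zf55) (kf xf26 yf53 zf25) (kf xf26 yf53 zf26) (kf xf24 yf33 zf22) (kf xf24 yf49 zf49) (kf xf26 yf54 zf24) (kf xf20 yf41 zf43) (kf xf16 yf58 zf58) (kf xf29 yf27 zf33) (kf xf11 yf29 zf44) (kf xf11 yf29 zf42) (kf xf20 yf22 zf34) (kf xf25 yf23 zf38) (kf xf23 yf49 zf22) (kf xf26 yf53 zf56) (kf xf20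 yf23 zf3) (kf xf20 yf23 zf4) (kf xf22 yf37 zf10) (kf xf20 yf23 zf2) (kf xf26 yf53 zf61) (kf xf20 yf23 zf7) (kf xf20 yf23 zf6) (kf xf11 yf29 zf49) (kf xf20 yf23 zf10) (kf xf20 yf22 zf39)) (@D3.rec (fun _ => Pt) (kf xf20 yf23 zf12) (kf xf20 yf22 zf38) (kf xf21 yf36 zf32) (kf xf27 yf42 zf14) (kf xf26 yf51 zf43) (kf xf20 yf22 zf10) (kf xf27 yf41 zf1) (kf xf17 yf25 zf44) (kf xf14 yf31 zf2) (kf xf19 yf13 zf9) (kf xf14 yf30 zf61) (kf xf14 yf31 zf0) (kf xf19 yf4 zf26) (kf xf14 yf31 zf5) (kf xf14 yf31 zf4) (kf xf27 yf54 zf43) (kf xf11 yf30 zf1) (kf xf19 yf9 zf61) (kf xf24 yf2 zf40) (kf xf24 yf12 zf21) (kf xf11 yf30 zf7) (kf xf17 yf26 zf56) (kf xf27 yf35 zf8) (kf xf11 yf30 zf9) (kf xf22 yf26 zf31) (kf xf13 yf19 zf34) (kf xf22 yf16 zf13) (kf xf19 yf7 zf22) (kf xf21 yf50 zf43)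 (kf xf21 yf36 zf48) (kf xf20 yf22 zf48) (kf xf11 yf30 zf17) (kf xf12 yf40 zf41) (kf xf18 yf57 zf31) (kf xf25 yf23 zf40) (kf xf17 yf35 zf2) (kf xf17 yf35 zf0) (kf xf20 yf19 zf15) (kf xf20 yf15 zf29) (kf xf16 yf15 zf32) (kf xf11 yf30 zf32) (kf xf27 yf42 zf20) (kf xf21 yf3 zf47) (kf xf21 yf3 zf48) (kf xf21 yf36 zf15) (kf xf18 yf0 zf55) (kf xf21 yf45 zf29) (kf xf21 yf22 zf57) (kf xf11 yf30 zf51) (kf xf17 yf56 zf10) (kf xf20 yf22 zf46) (kf xf17 yf56 zf7) (kf xf20 yf0 zf38) (kf xf24 yf47 zf37) (kf xf24 yf31 zf4) (kf xf11 yf30 zf52) (kf xf21 yf53 zf39) (kf xf21 yf52 zf54) (kf xf26 yf10 zf22) (kf xf11 yf31 zf2) (kf xf19 yf27 zf38) (kf xf19 yf27 zf39)) (@D3.rec (fun _ => Pt) (kf xf17 yf53 zf44) (kf xf13 yf58 zf40) (kf xf13 yf58 zf39) (kf xf18 yf23 zf32) (kf xf20 yf22 zf33) (kf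 xf20 yf59 zf31) (kf xf14 yf23 zf44) (kf xf17 yf53 zf37) (kf xf11 yf31 zf26) (kf xf17 yf53 zf39) (kf xf17 yf1 zf37) (kf xf20 yf53 zf1) (kf xf23 yf46 zf50) (kf xf17 yf1 zf61) (kf xf17 yf2 zf0) (kf xf16 yf45 zf19) (kf xf13 yf2 zf21) (kf xf20 yf52 zf59) (kf xf20 yf52 zf60) (kf xf17 yf8 zf61) (kf xf17 yf9 zf1) (kf xf20 yf25 zf55) (kf xf20 yf53 zf55) (kf xf11 yf39 zf28) (kf xf11 yf35 zf7) (kf xf16 yf56 zf43) (kf xf19 yf24 zf25) (kf xf12 yf31 zf61) (kf xf11 yf31 zf49) (kf xf19 yf32 zf41) (kf xf20 yf22 zf35) (kf xf11 yf42 zf9) (kf xf20 yf13 zf0) (kf xf21 yf36 zf12) (kf xf11 yf31 zf57) (kf xf19 yf23 zf59) (kf xf17 yf8 zf32) (kf xf19 yf24 zf0) (kf xf19 yf24 zf1) (kf xf11 yf42 zf17) (kf xf26 yf54 zf52) (kf xf21 yf11 zf7) (kf xf20 yf18 zf14) (kf xf19 yf34 zf34) (kf xf19 yf16 zf8)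 (kf xf28 yf28 zf16) (kf xf20 yf31 zf29) (kf xf20 yf31 zf28) (kf xf26 yf49 zf57) (kf xf20 yf31 zf23) (kf xf11 yf32 zf7) (kf xf14 yf18 zf39) (kf xf14 yf18 zf38) (kf xf29 yf2 zf61) (kf xf14 yf32 zf23) (kf xf14 yf32 zf22) (kf xf20 yf30 zf28) (kf xf14 yf28 zf19) (kf xf11 yf42 zf53) (kf xf20 yf17 zf49) (kf xf21 yf0 zf19) (kf xf21 yf0 zf36)) (@D3.rec (fun _ => Pt) (kf xf20 yf22 zf16) (kf xf19 yf30 zf53) (kf xf16 yf44 zf38) (kf xf16 yf45 zf13) (kf xf16 yf45 zf14) (kf xf16 yf45 zf15) (kf xf16 yf45 zf16) (kf xf16 yf45 zf17) (kf xf11 yf42 zf59) (kf xf25 yf36 zf33) (kf xf11 yf41 zf35) (kf xf11 yf41 zf36) (kf xf12 yf49 zf55) (kf xf11 yf43 zf14) (kf xf18 yf2 zf0) (kf xf18 yf2 zf1) (kf xf21 yf50 zf34) (kf xf18 yf1 zf59) (kf xf18 yf1 zf60) (kf xf15 yf35 zf39) (kf xf12 yf5 zf29) (kf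 xf17 yf53 zf55) (kf xf19 yf18 zf17) (kf xf19 yf27 zf52) (kf xf22 yf52 zf9) (kf xf20 yf35 zf59) (kf xf20 yf35 zf60) (kf xf28 yf24 zf33) (kf xf26 yf26 zf57) (kf xf26 yf26 zf56) (kf xf11 yf32 zf35) (kf xf13 yf31 zf23) (kf xf29 yf28 zf29) (kf xf29 yf28 zf31) (kf xf24 yf59 zf30) (kf xf24 yf59 zf29) (kf xf11 yf32 zf38) (kf xf24 yf45 zf58) (kf xf29 yf28 zf40) (kf xf26 yf24 zf24) (kf xf25 yf33 zf5) (kf xf11 yf32 zf40) (kf xf26 yf24 zf57) (kf xf25 yf28 zf21) (kf xf20 yf21 zf1) (kf xf26 yf25 zf52) (kf xf19 yf36 zf21) (kf xf26 yf24 zf55) (kf xf23 yf40 zf21) (kf xf26 yf54 zf59) (kf xf19 yf48 zf33) (kf xf19 yf26 zf33) (kf xf19 yf26 zf34) (kf xf19 yf26 zf35) (kf xf19 yf26 zf37) (kf xf12 yf3 zf40) (kf xf16 yf5 zf36) (kf xf19 yf25 zf54) (kf xf16 yf47 zf10) (kf xf19 yf8 zf21) (kf xf20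 yf1 zf11) (kf xf26 yf24 zf58)) (@D3.rec (fun _ => Pt) (kf xf11 yf32 zf57) (kf xf15 yf23 zf47) (kf xf20 yf47 zf42) (kf xf24 yf56 zf57) (kf xf11 yf32 zf60) (kf xf21 yf13 zf55) (kf xf11 yf33 zf0) (kf xf29 yf18 zf21) (kf xf17 yf18 zf33) (kf xf29 yf28 zf58) (kf xf11 yf33 zf2) (kf xf20 yf31 zf18) (kf xf26 yf55 zf31) (kf xf26 yf49 zf45) (kf xf20 yf31 zf17) (kf xf26 yf55 zf29) (kf xf26 yf55 zf33) (kf xf26 yf55 zf32) (kf xf26 yf49 zf38) (kf xf11 yf33 zf5) (kf xf29 yf29 zf5) (kf xf29 yf29 zf6) (kf xf13 yf42 zf20) (kf xf29 yf18 zf38) (kf xf29 yf18 zf39) (kf xf11 yf50 zf40) (kf xf11 yf50 zf39) (kf xf11 yf33 zf14) (kf xf20 yf28 zf56) (kf xf19 yf41 zf46) (kf xf11 yf50 zf55) (kf xf11 yf50 zf54) (kf xf11 yf33 zf16) (kf xf21 yf0 zf53) (kf xf14 yf29 zf34) (kf xf29 yf18 zf44) (kf xf29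 yf18 zf45) (kf xf13 yf50 zf26) (kf xf24 yf47 zf26) (kf xf16 yf32 zf38) (kf xf11 yf33 zf24) (kf xf13 yf16 zf48) (kf xf16 yf32 zf47) (kf xf29 yf18 zf15) (kf xf26 yf55 zf26) (kf xf14 yf59 zf46) (kf xf14 yf59 zf45) (kf xf11 yf33 zf32) (kf xf13 yf47 zf35) (kf xf12 yf37 zf28) (kf xf12 yf37 zf36) (kf xf28 yf42 zf34) (kf xf11 yf33 zf35) (kf xf11 yf34 zf27) (kf xf11 yf34 zf21) (kf xf11 yf34 zf23) (kf xf29 yf19 zf7) (kf xf11 yf34 zf30) (kf xf11 yf34 zf29) (kf xf20 yf18 zf39) (kf xf11 yf33 zf38) (kf xf11 yf34 zf43)) (@D3.rec (fun _ => Pt) (kf xf11 yf34 zf42) (kf xf25 yf16 zf6) (kf xf11 yf35 zf49) (kf xf11 yf35 zf23) (kf xf11 yf35 zf25) (kf xf17 yf24 zf2) (kf xf11 yf35 zf11) (kf xf28 yf27 zf7) (kf xf11 yf35 zf15) (kf xf17 yf24 zf0) (kf xf11 yf35 zf37) (kf xf20 yf41 zf3) (kf xf17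 yf12 zf17) (kf xf25 yf18 zf35) (kf xf11 yf34 zf45) (kf xf27 yf5 zf14) (kf xf20 yf52 zf12) (kf xf20 yf30 zf14) (kf xf20 yf30 zf11) (kf xf29 yf29 zf33) (kf xf11 yf33 zf57) (kf xf26 yf28 zf57) (kf xf26 yf32 zf53) (kf xf20 yf28 zf49) (kf xf20 yf8 zf54) (kf xf11 yf33 zf59) (kf xf29 yf29 zf37) (kf xf26 yf29 zf8) (kf xf20 yf28 zf47) (kf xf20 yf28 zf46) (kf xf16 yf32 zf39) (kf xf19 yf21 zf14) (kf xf21 yf13 zf31) (kf xf21 yf9 zf4) (kf xf18 yf45 zf43) (kf xf11 yf34 zf6) (kf xf13 yf51 zf31) (kf xf18 yf45 zf12) (kf xf13 yf51 zf26) (kf xf29 yf29 zf16) (kf xf17 yf9 zf15) (kf xf17 yf9 zf16) (kf xf23 yf14 zf42) (kf xf21 yf13 zf34) (kf xf23 yf52 zf29) (kf xf11 yf34 zf9) (kf xf20 yf46 zf59) (kf xf20 yf46 zf58) (kf xf29 yf29 zf49) (kf xf11 yf34 zf12) (kf xf26 yf28 zf21) (kf xf11 yf34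 zf15) (kf xf20 yf54 zf31) (kf xf26 yf52 zf2) (kf xf29 yf29 zf52) (kf xf28 yf42 zf32) (kf xf11 yf34 zf19) (kf xf20 yf0 zf52) (kf xf16 yf25 zf29) (kf xf19 yf47 zf37) (kf xf11 yf58 zf47) (kf xf29 yf19 zf8)) (@D3.rec (fun _ => Pt) (kf xf28 yf45 zf54) (kf xf24 yf47 zf53) (kf xf21 yf13 zf18) (kf xf26 yf28 zf22) (kf xf17 yf15 zf17) (kf xf29 yf8 zf37) (kf xf14 yf59 zf56) (kf xf24 yf59 zf9) (kf xf17 yf9 zf17) (kf xf26 yf25 zf56) (kf xf11 yf34 zf28) (kf xf24 yf47 zf40) (kf xf12 yf7 zf41) (kf xf29 yf29 zf58) (kf xf29 yf7 zf47) (kf xf29 yf7 zf39) (kf xf13 yf47 zf53) (kf xf29 yf18 zf16) (kf xf29 yf29 zf17) (kf xf11 yf34 zf31) (kf xf11 yf34 zf47) (kf xf16 yf3 zf20) (kf xf29 yf30 zf1) (kf xf15 yf23 zf40) (kf xf29 yf30 zf3) (kf xf15 yf26 zf33) (kf xf15 yf26 zf22) (kf xf22 yf48 zf9)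 (kf xf22 yf42 zf10) (kf xf13 yf48 zf27) (kf xf11 yf34 zf36) (kf xf25 yf16 zf31) (kf xf27 yf16 zf41) (kf xf23 yf18 zf7) (kf xf11 yf34 zf38) (kf xf15 yf50 zf13) (kf xf29 yf30 zf7) (kf xf22 yf52 zf30) (kf xf18 yf23 zf47) (kf xf25 yf16 zf17) (kf xf18 yf19 zf21) (kf xf11 yf34 zf41) (kf xf25 yf18 zf16) (kf xf26 yf56 zf39) (kf xf25 yf18 zf11) (kf xf24 yf18 zf57) (kf xf17 yf9 zf30) (kf xf26 yf10 zf9) (kf xf26 yf10 zf6) (kf xf26 yf10 zf10) (kf xf24 yf5 zf34) (kf xf29 yf29 zf20) (kf xf20 yf9 zf2) (kf xf29 yf29 zf61) (kf xf23 yf20 zf43) (kf xf24 yf59 zf13) (kf xf19 yf47 zf27) (kf xf11 yf57 zf37) (kf xf20 yf26 zf9) (kf xf12 yf9 zf24) (kf xf19 yf48 zf59) (kf xf11 yf34 zf59)) (@D3.rec (fun _ => Pt) (kf xf21 yf3 zf51) (kf xf11 yf35 zf2) (kf xf17 yf18 zf39) (kf xf17 yf18 zf36) (kf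 xf18 yf24 zf11) (kf xf11 yf35 zf9) (kf xf15 yf23 zf46) (kf xf29 yf30 zf11) (kf xf29 yf29 zf22) (kf xf29 yf30 zf14) (kf xf14 yf15 zf47) (kf xf14 yf15 zf46) (kf xf11 yf35 zf12) (kf xf15 yf26 zf59) (kf xf15 yf26 zf46) (kf xf15 yf26 zf49) (kf xf22 yf59 zf21) (kf xf14 yf20 zf17) (kf xf20 yf47 zf2) (kf xf29 yf30 zf22) (kf xf11 yf35 zf16) (kf xf24 yf25 zf37) (kf xf11 yf35 zf18) (kf xf23 yf17 zf48) (kf xf14 yf15 zf50) (kf xf13 yf34 zf19) (kf xf23 yf32 zf55) (kf xf23 yf17 zf43) (kf xf14 yf0 zf43) (kf xf29 yf29 zf23) (kf xf11 yf35 zf24) (kf xf29 yf30 zf28) (kf xf17 yf23 zf24) (kf xf17 yf24 zf1) (kf xf21 yf38 zf14) (kf xf11 yf35 zf29) (kf xf22 yf32 zf8) (kf xf15 yf26 zf48) (kf xf14 yf18 zf48) (kf xf15 yf26 zf27) (kf xf21 yf10 zf25) (kf xf28 yf1 zf36) (kf xf29 yf19 zf9) (kf xf24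 yf21 zf23) (kf xf11 yf35 zf34) (kf xf25 yf18 zf49) (kf xf20 yf7 zf36) (kf xf29 yf30 zf34) (kf xf14 yf10 zf18) (kf xf22 yf23 zf11) (kf xf17 yf53 zf52) (kf xf22 yf0 zf58) (kf xf11 yf35 zf42) (kf xf18 yf57 zf42) (kf xf18 yf57 zf43) (kf xf29 yf30 zf41) (kf xf18 yf57 zf26) (kf xf18 yf57 zf46) (kf xf14 yf16 zf51) (kf xf18 yf57 zf47) (kf xf29 yf21 zf14) (kf xf22 yf54 zf4)) (@D3.rec (fun _ => Pt) (kf xf22 yf54 zf11) (kf xf23 yf18 zf29) (kf xf29 yf23 zf56) (kf xf26 yf56 zf3) (kf xf11 yf35 zf50) (kf xf29 yf30 zf50) (kf xf17 yf18 zf31) (kf xf19 yf52 zf40) (kf xf14 yf31 zf39) (kf xf20 yf53 zf9) (kf xf11 yf58 zf52) (kf xf22 yf22 zf49) (kf xf12 yf2 zf26) (kf xf17 yf35 zf6) (kf xf21 yf36 zf14) (kf xf18 yf57 zf32) (kf xf27 yf6 zf35) (kf xf18 yf57 zf39) (kf xf11 yf36 zf9) (kf xf18 yf57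 zf35) (kf xf14 yf26 zf14) (kf xf26 yf10 zf53) (kf xf14 yf26 zf15) (kf xf18 yf57 zf37) (kf xf18 yf57 zf33) (kf xf12 yf4 zf55) (kf xf11 yf36 zf12) (kf xf20 yf53 zf20) (kf xf25 yf17 zf47) (kf xf11 yf36 zf19) (kf xf24 yf36 zf36) (kf xf12 yf2 zf11) (kf xf24 yf57 zf34) (kf xf22 yf4 zf26) (kf xf11 yf36 zf22) (kf xf20 yf6 zf56) (kf xf26 yf27 zf19) (kf xf28 yf12 zf16) (kf xf20 yf16 zf16) (kf xf27 yf51 zf16) (kf xf21 yf44 zf7) (kf xf20 yf34 zf43) (kf xf16 yf33 zf14) (kf xf20 yf34 zf41) (kf xf26 yf27 zf28) (kf xf17 yf59 zf52) (kf xf20 yf35 zf52) (kf xf20 yf20 zf11) (kf xf18 yf19 zf44) (kf xf20 yf52 zf22) (kf xf20 yf52 zf39) (kf xf20 yf10 zf17) (kf xf11 yf36 zf34) (kf xf26 yf2 zf58) (kf xf21 yf49 zf61) (kf xf20 yf2 zf2) (kf xf26 yf55 zf5) (kf xf24 yf19 zf0) (kf xf19 yf26 zf23)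 (kf xf15 yf59 zf1) (kf xf11 yf37 zf55) (kf xf13 yf38 zf51)) (@D3.rec (fun _ => Pt) (kf xf11 yf37 zf50) (kf xf11 yf37 zf52) (kf xf22 yf47 zf12) (kf xf11 yf37 zf57) (kf xf25 yf59 zf16) (kf xf11 yf36 zf48) (kf xf11 yf37 zf61) (kf xf11 yf38 zf1) (kf xf11 yf38 zf11) (kf xf29 yf31 zf12) (kf xf11 yf38 zf7) (kf xf11 yf38 zf14) (kf xf11 yf38 zf13) (kf xf25 yf59 zf51) (kf xf11 yf39 zf43) (kf xf11 yf38 zf52) (kf xf29 yf9 zf4) (kf xf11 yf38 zf46) (kf xf11 yf38 zf48) (kf xf11 yf39 zf5) (kf xf29 yf6 zf9) (kf xf11 yf38 zf37) (kf xf11 yf38 zf57) (kf xf11 yf38 zf60) (kf xf11 yf39 zf12) (kf xf11 yf39 zf9) (kf xf11 yf39 zf14) (kf xf11 yf39 zf13) (kf xf14 yf23 zf8) (kf xf28 yf18 zf12) (kf xf11 yf37 zf2) (kf xf11 yf39 zf32) (kf xf11 yf39 zf33) (kf xf11 yf39 zf29) (kf xf11 yf39 zf39) (kf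 xf11 yf39 zf40) (kf xf11 yf39 zf35) (kf xf11 yf39 zf37) (kf xf26 yf34 zf28) (kf xf26 yf36 zf27) (kf xf27 yf0 zf3) (kf xf11 yf39 zf42) (kf xf11 yf39 zf41) (kf xf11 yf38 zf16) (kf xf29 yf31 zf38) (kf xf15 yf6 zf19) (kf xf26 yf22 zf35) (kf xf11 yf37 zf11) (kf xf26 yf21 zf57) (kf xf24 yf57 zf35) (kf xf28 yf24 zf39) (kf xf21 yf57 zf44) (kf xf20 yf34 zf46) (kf xf16 yf33 zf21) (kf xf26 yf21 zf49) (kf xf24 yf57 zf16) (kf xf13 yf33 zf46) (kf xf11 yf37 zf24) (kf xf19 yf10 zf9) (kf xf20 yf29 zf25) (kf xf20 yf29 zf26) (kf xf11 yf37 zf33)) (@D3.rec (fun _ => Pt) (kf xf20 yf17 zf13) (kf xf21 yf28 zf42) (kf xf11 yf50 zf11) (kf xf20 yf22 zf6) (kf xf21 yf13 zf3) (kf xf26 yf23 zf3) (kf xf12 yf37 zf45) (kf xf21 yf28 zf43) (kf xf13 yf33 zf48) (kf xf21 yf28 zf45) (kf xf25 yf18 zf12) (kf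 xf11 yf37 zf38) (kf xf12 yf38 zf19) (kf xf26 yf22 zf60) (kf xf27 yf20 zf52) (kf xf11 yf37 zf44) (kf xf21 yf49 zf52) (kf xf29 yf31 zf49) (kf xf26 yf32 zf47) (kf xf15 yf59 zf2) (kf xf29 yf31 zf53) (kf xf11 yf37 zf48) (kf xf15 yf6 zf9) (kf xf16 yf29 zf48) (kf xf12 yf12 zf56) (kf xf22 yf47 zf11) (kf xf28 yf12 zf50) (kf xf26 yf23 zf61) (kf xf29 yf31 zf6) (kf xf21 yf13 zf4) (kf xf21 yf33 zf0) (kf xf29 yf31 zf5) (kf xf23 yf10 zf33) (kf xf17 yf45 zf42) (kf xf20 yf11 zf19) (kf xf11 yf37 zf56) (kf xf26 yf31 zf61) (kf xf29 yf31 zf7) (kf xf24 yf9 zf36) (kf xf29 yf19 zf12) (kf xf26 yf48 zf46) (kf xf28 yf33 zf43) (kf xf27 yf9 zf40) (kf xf22 yf59 zf50) (kf xf11 yf37 zf59) (kf xf11 yf38 zf18) (kf xf11 yf54 zf0) (kf xf17 yf20 zf8) (kf xf16 yf31 zf19) (kf xf16 yf31 zf17) (kf xf28 yf50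 zf39) (kf xf29 yf31 zf9) (kf xf29 yf32 zf19) (kf xf23 yf10 zf32) (kf xf11 yf38 zf2) (kf xf15 yf30 zf15) (kf xf22 yf56 zf43) (kf xf26 yf57 zf37) (kf xf29 yf3 zf19) (kf xf11 yf38 zf5) (kf xf16 yf28 zf43) (kf xf22 yf48 zf22)) (@D3.rec (fun _ => Pt) (kf xf16 yf29 zf55) (kf xf16 yf31 zf14) (kf xf14 yf18 zf26) (kf xf29 yf31 zf13) (kf xf14 yf27 zf48) (kf xf28 yf17 zf10) (kf xf26 yf24 zf29) (kf xf11 yf38 zf9) (kf xf22 yf55 zf24) (kf xf28 yf34 zf61) (kf xf29 yf31 zf10) (kf xf14 yf27 zf47) (kf xf13 yf10 zf12) (kf xf14 yf25 zf43) (kf xf11 yf38 zf12) (kf xf29 yf31 zf16) (kf xf24 yf13 zf7) (kf xf29 yf31 zf14) (kf xf29 yf31 zf15) (kf xf13 yf10 zf11) (kf xf13 yf10 zf22) (kf xf24 yf0 zf42) (kf xf22 yf26 zf4) (kf xf11 yf38 zf15) (kf xf29 yf32 zf36) (kf xf28 yf33 zf21) (kf xf27 yf0 zf1)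 (kf xf27 yf0 zf0) (kf xf21 yf30 zf24) (kf xf21 yf30 zf27) (kf xf25 yf36 zf59) (kf xf11 yf38 zf21) (kf xf19 yf26 zf22) (kf xf21 yf30 zf31) (kf xf16 yf55 zf44) (kf xf18 yf43 zf28) (kf xf29 yf1 zf0) (kf xf11 yf38 zf29) (kf xf11 yf49 zf2) (kf xf18 yf1 zf23) (kf xf12 yf28 zf5) (kf xf21 yf30 zf18) (kf xf21 yf30 zf17) (kf xf27 yf0 zf50) (kf xf14 yf35 zf55) (kf xf29 yf32 zf46) (kf xf11 yf38 zf33) (kf xf26 yf46 zf27) (kf xf17 yf10 zf58) (kf xf28 yf43 zf6) (kf xf11 yf38 zf39) (kf xf28 yf1 zf41) (kf xf17 yf14 zf56) (kf xf11 yf38 zf42) (kf xf20 yf51 zf17) (kf xf24 yf19 zf15) (kf xf11 yf38 zf44) (kf xf12 yf36 zf8) (kf xf21 yf45 zf44) (kf xf29 yf31 zf19) (kf xf28 yf1 zf17) (kf xf29 yf25 zf38)) (@D3.rec (fun _ => Pt) (kf xf29 yf25 zf36) (kf xf27 yf38 zf36) (kf xf23 yf34 zf20) (kf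 xf11 yf59 zf9) (kf xf11 yf38 zf49) (kf xf21 yf45 zf42) (kf xf21 yf45 zf54) (kf xf16 yf41 zf33) (kf xf27 yf44 zf12) (kf xf28 yf43 zf27) (kf xf18 yf10 zf27) (kf xf21 yf7 zf44) (kf xf27 yf37 zf49) (kf xf27 yf59 zf27) (kf xf27 yf11 zf14) (kf xf27 yf37 zf47) (kf xf21 yf30 zf19) (kf xf11 yf38 zf58) (kf xf16 yf41 zf36) (kf xf16 yf51 zf7) (kf xf16 yf48 zf31) (kf xf16 yf48 zf30) (kf xf16 yf36 zf26) (kf xf29 yf31 zf20) (kf xf17 yf7 zf36) (kf xf27 yf50 zf38) (kf xf29 yf24 zf44) (kf xf28 yf45 zf4) (kf xf21 yf28 zf60) (kf xf21 yf30 zf25) (kf xf26 yf22 zf59) (kf xf16 yf48 zf29) (kf xf16 yf48 zf32) (kf xf16 yf39 zf33) (kf xf24 yf53 zf24) (kf xf28 yf44 zf33) (kf xf26 yf42 zf18) (kf xf28 yf44 zf21) (kf xf28 yf31 zf2) (kf xf29 yf26 zf31) (kf xf28 yf48 zf5) (kf xf26 yf34 zf48) (kf xf16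 yf58 zf32) (kf xf28 yf29 zf59) (kf xf29 yf26 zf23) (kf xf16 yf41 zf37) (kf xf28 yf40 zf12) (kf xf11 yf39 zf15) (kf xf11 yf39 zf46) (kf xf17 yf1 zf10) (kf xf29 yf19 zf31) (kf xf26 yf26 zf19) (kf xf19 yf34 zf0) (kf xf11 yf39 zf20) (kf xf26 yf57 zf29) (kf xf19 yf14 zf0) (kf xf26 yf57 zf30) (kf xf26 yf57 zf31) (kf xf29 yf33 zf24) (kf xf29 yf33 zf28) (kf xf26 yf52 zf20) (kf xf26 yf52 zf19)) (@D3.rec (fun _ => Pt) (kf xf29 yf33 zf35) (kf xf11 yf39 zf23) (kf xf26 yf52 zf18) (kf xf24 yf14 zf41) (kf xf29 yf33 zf5) (kf xf25 yf8 zf8) (kf xf26 yf35 zf42) (kf xf29 yf27 zf53) (kf xf29 yf27 zf52) (kf xf29 yf27 zf54) (kf xf26 yf48 zf35) (kf xf17 yf7 zf6) (kf xf17 yf7 zf9) (kf xf26 yf41 zf28) (kf xf16 yf39 zf2) (kf xf16 yf38 zf61) (kf xf26 yf36 zf8) (kf xf26 yf36 zf7) (kf xf29 yf31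 zf23) (kf xf29 yf33 zf53) (kf xf14 yf45 zf47) (kf xf24 yf35 zf17) (kf xf29 yf31 zf29) (kf xf16 yf41 zf55) (kf xf26 yf43 zf49) (kf xf17 yf6 zf61) (kf xf17 yf7 zf4) (kf xf26 yf41 zf16) (kf xf20 yf58 zf47) (kf xf29 yf31 zf25) (kf xf29 yf31 zf26) (kf xf20 yf58 zf42) (kf xf29 yf31 zf27) (kf xf29 yf34 zf10) (kf xf29 yf31 zf35) (kf xf29 yf34 zf15) (kf xf20 yf57 zf37) (kf xf29 yf34 zf22) (kf xf29 yf31 zf17) (kf xf29 yf34 zf27) (kf xf28 yf40 zf31) (kf xf29 yf31 zf37) (kf xf11 yf39 zf44) (kf xf29 yf34 zf31) (kf xf27 yf0 zf7) (kf xf27 yf0 zf6) (kf xf16 yf42 zf8) (kf xf20 yf51 zf59) (kf xf27 yf0 zf9) (kf xf11 yf41 zf30) (kf xf11 yf42 zf42) (kf xf20 yf45 zf55) (kf xf22 yf23 zf24) (kf xf17 yf24 zf6) (kf xf13 yf3 zf37) (kf xf22 yf40 zf12) (kf xf14 yf22 zf29) (kf xf11 yf39 zf53) (kf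 xf13 yf8 zf18) (kf xf11 yf59 zf0) (kf xf12 yf2 zf12) (kf xf21 yf51 zf12)) (@D3.rec (fun _ => Pt) (kf xf28 yf1 zf32) (kf xf17 yf6 zf2) (kf xf16 yf5 zf27) (kf xf11 yf42 zf45) (kf xf21 yf1 zf50) (kf xf21 yf1 zf52) (kf xf21 yf33 zf33) (kf xf18 yf1 zf54) (kf xf21 yf36 zf2) (kf xf23 yf59 zf12) (kf xf14 yf24 zf33) (kf xf25 yf55 zf34) (kf xf29 yf21 zf49) (kf xf25 yf43 zf32) (kf xf29 yf34 zf54) (kf xf20 yf48 zf61) (kf xf11 yf40 zf9) (kf xf27 yf51 zf4) (kf xf27 yf2 zf58) (kf xf18 yf0 zf32) (kf xf18 yf0 zf31) (kf xf11 yf40 zf18) (kf xf11 yf58 zf20) (kf xf11 yf58 zf19) (kf xf11 yf40 zf25) (kf xf17 yf59 zf34) (kf xf17 yf13 zf2) (kf xf18 yf1 zf21) (kf xf22 yf23 zf37) (kf xf18 yf1 zf22) (kf xf26 yf55 zf15) (kf xf20 yf17 zf0) (kf xf12 yf31 zf8) (kf xf12 yf31 zf7) (kf xf18 yf57 zf52)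 (kf xf18 yf57 zf55) (kf xf14 yf33 zf35) (kf xf11 yf40 zf50) (kf xf11 yf58 zf46) (kf xf29 yf34 zf61) (kf xf11 yf40 zf51) (kf xf14 yf33 zf36) (kf xf11 yf59 zf2) (kf xf11 yf58 zf59) (kf xf13 yf9 zf2) (kf xf16 yf54 zf53) (kf xf18 yf25 zf13) (kf xf23 yf49 zf24) (kf xf16 yf55 zf2) (kf xf16 yf55 zf1) (kf xf29 yf22 zf52) (kf xf11 yf41 zf4) (kf xf29 yf22 zf49) (kf xf13 yf5 zf46) (kf xf13 yf5 zf47) (kf xf27 yf42 zf9) (kf xf11 yf41 zf7) (kf xf14 yf15 zf58) (kf xf28 yf25 zf9) (kf xf16 yf59 zf28) (kf xf18 yf38 zf14) (kf xf27 yf8 zf6)) (@D3.rec (fun _ => Pt) (kf xf11 yf41 zf12) (kf xf16 yf25 zf57) (kf xf28 yf14 zf14) (kf xf20 yf31 zf11) (kf xf28 yf25 zf8) (kf xf26 yf29 zf24) (kf xf16 yf24 zf28) (kf xf26 yf29 zf25) (kf xf11 yf41 zf18) (kf xf24 yf20 zf17) (kf xf22 yf15 zf56) (kf xf17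 yf24 zf19) (kf xf20 yf52 zf24) (kf xf24 yf34 zf39) (kf xf11 yf41 zf22) (kf xf24 yf30 zf32) (kf xf26 yf59 zf58) (kf xf11 yf41 zf25) (kf xf11 yf42 zf28) (kf xf11 yf42 zf27) (kf xf22 yf14 zf1) (kf xf11 yf42 zf34) (kf xf11 yf42 zf35) (kf xf20 yf45 zf39) (kf xf11 yf42 zf32) (kf xf11 yf42 zf38) (kf xf11 yf42 zf37) (kf xf22 yf16 zf4) (kf xf11 yf42 zf47) (kf xf11 yf42 zf46) (kf xf29 yf34 zf36) (kf xf29 yf34 zf37) (kf xf11 yf43 zf2) (kf xf11 yf43 zf3) (kf xf11 yf43 zf0) (kf xf29 yf15 zf29) (kf xf14 yf51 zf14) (kf xf27 yf30 zf16) (kf xf11 yf41 zf53) (kf xf11 yf41 zf57) (kf xf29 yf35 zf33) (kf xf11 yf41 zf40) (kf xf29 yf15 zf3) (kf xf20 yf26 zf43) (kf xf27 yf59 zf38) (kf xf14 yf16 zf1) (kf xf23 yf4 zf4) (kf xf24 yf6 zf7) (kf xf24 yf6 zf8) (kf xf24 yf6 zf9) (kf xf22 yf59 zf18)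 (kf xf11 yf41 zf47) (kf xf16 yf58 zf28) (kf xf16 yf58 zf22) (kf xf24 yf12 zf36) (kf xf22 yf7 zf47) (kf xf22 yf7 zf46) (kf xf29 yf35 zf53) (kf xf11 yf41 zf50) (kf xf19 yf50 zf12) (kf xf17 yf31 zf32) (kf xf11 yf41 zf54)) (@D3.rec (fun _ => Pt) (kf xf21 yf36 zf53) (kf xf16 yf58 zf36) (kf xf16 yf58 zf33) (kf xf29 yf36 zf0) (kf xf29 yf36 zf3) (kf xf11 yf41 zf59) (kf xf11 yf42 zf4) (kf xf19 yf26 zf61) (kf xf28 yf36 zf44) (kf xf29 yf0 zf3) (kf xf27 yf30 zf17) (kf xf29 yf36 zf14) (kf xf11 yf42 zf1) (kf xf16 yf57 zf58) (kf xf11 yf42 zf2) (kf xf29 yf36 zf19) (kf xf29 yf36 zf4) (kf xf23 yf37 zf45) (kf xf21 yf45 zf3) (kf xf24 yf20 zf42) (kf xf23 yf52 zf38) (kf xf23 yf47 zf7) (kf xf21 yf46 zf11) (kf xf12 yf35 zf47) (kf xf12 yf20 zf29) (kf xf17 yf58 zf44) (kf xf17 yf58 zf45) (kf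 xf27 yf1 zf4) (kf xf19 yf46 zf38) (kf xf17 yf58 zf53) (kf xf17 yf31 zf7) (kf xf17 yf58 zf52) (kf xf24 yf16 zf55) (kf xf17 yf58 zf59) (kf xf17 yf58 zf60) (kf xf20 yf49 zf27) (kf xf20 yf49 zf28) (kf xf20 yf49 zf29) (kf xf23 yf9 zf45) (kf xf14 yf16 zf2) (kf xf24 yf53 zf33) (kf xf29 yf26 zf60) (kf xf24 yf2 zf1) (kf xf24 yf6 zf17) (kf xf24 yf2 zf7) (kf xf22 yf29 zf49) (kf xf27 yf2 zf9) (kf xf17 yf58 zf10) (kf xf29 yf35 zf14) (kf xf22 yf4 zf48) (kf xf17 yf58 zf9) (kf xf29 yf35 zf12) (kf xf29 yf35 zf16) (kf xf29 yf35 zf15) (kf xf29 yf36 zf45) (kf xf11 yf42 zf29) (kf xf25 yf18 zf5) (kf xf29 yf35 zf19) (kf xf17 yf32 zf31) (kf xf13 yf4 zf8) (kf xf29 yf36 zf52) (kf xf11 yf42 zf33)) (@D3.rec (fun _ => Pt) (kf xf29 yf35 zf18) (kf xf24 yf2 zf49) (kf xf29 yf35 zf20) (kf xf13 yf3 zf57)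 (kf xf22 yf13 zf9) (kf xf28 yf37 zf52) (kf xf29 yf35 zf22) (kf xf22 yf13 zf10) (kf xf29 yf36 zf61) (kf xf29 yf35 zf24) (kf xf24 yf15 zf49) (kf xf29 yf37 zf5) (kf xf23 yf1 zf27) (kf xf11 yf42 zf39) (kf xf27 yf7 zf18) (kf xf22 yf23 zf40) (kf xf29 yf34 zf38) (kf xf13 yf3 zf30) (kf xf14 yf50 zf24) (kf xf19 yf49 zf36) (kf xf14 yf50 zf40) (kf xf29 yf7 zf0) (kf xf27 yf46 zf57) (kf xf17 yf58 zf37) (kf xf29 yf35 zf26) (kf xf15 yf39 zf40) (kf xf15 yf34 zf13) (kf xf11 yf42 zf48) (kf xf29 yf35 zf29) (kf xf23 yf1 zf31) (kf xf23 yf1 zf26) (kf xf15 yf39 zf58) (kf xf11 yf42 zf49) (kf xf11 yf43 zf13) (kf xf25 yf48 zf45) (kf xf29 yf37 zf19) (kf xf19 yf49 zf49) (kf xf24 yf36 zf30) (kf xf25 yf55 zf51) (kf xf11 yf42 zf54) (kf xf19 yf50 zf14) (kf xf17 yf32 zf35) (kf xf26 yf55 zf4) (kf xf25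 yf33 zf10) (kf xf25 yf14 zf29) (kf xf25 yf14 zf2) (kf xf25 yf50 zf49) (kf xf14 yf51 zf19) (kf xf14 yf51 zf18) (kf xf29 yf35 zf30) (kf xf27 yf21 zf31) (kf xf15 yf18 zf2) (kf xf25 yf37 zf31) (kf xf25 yf36 zf14) (kf xf25 yf6 zf55) (kf xf29 yf37 zf37) (kf xf11 yf43 zf6) (kf xf15 yf34 zf14) (kf xf20 yf50 zf36) (kf xf25 yf35 zf52) (kf xf18 yf2 zf5) (kf xf29 yf37 zf42)) (@D3.rec (fun _ => Pt) (kf xf20 yf49 zf42) (kf xf13 yf32 zf44) (kf xf11 yf43 zf11) (kf xf15 yf39 zf61) (kf xf12 yf49 zf1) (kf xf15 yf34 zf12) (kf xf21 yf36 zf3) (kf xf26 yf5 zf58) (kf xf17 yf24 zf40) (kf xf17 yf24 zf39) (kf xf29 yf37 zf56) (kf xf11 yf43 zf16) (kf xf24 yf12 zf0) (kf xf22 yf34 zf15) (kf xf27 yf7 zf29) (kf xf27 yf7 zf31) (kf xf27 yf7 zf30) (kf xf29 yf33 zf60) (kf xf11 yf43 zf19) (kf xf11 yf46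 zf7) (kf xf28 yf15 zf26) (kf xf11 yf46 zf2) (kf xf11 yf46 zf4) (kf xf11 yf46 zf10) (kf xf11 yf46 zf9) (kf xf22 yf24 zf15) (kf xf11 yf43 zf23) (kf xf11 yf46 zf22) (kf xf11 yf46 zf24) (kf xf13 yf7 zf39) (kf xf11 yf46 zf29) (kf xf11 yf46 zf30) (kf xf11 yf46 zf26) (kf xf13 yf11 zf51) (kf xf11 yf46 zf33) (kf xf19 yf28 zf60) (kf xf24 yf25 zf57) (kf xf11 yf47 zf11) (kf xf11 yf47 zf12) (kf xf14 yf36 zf60) (kf xf11 yf47 zf14) (kf xf23 yf38 zf1) (kf xf11 yf43 zf33) (kf xf11 yf44 zf44) (kf xf11 yf47 zf20) (kf xf11 yf47 zf21) (kf xf11 yf46 zf52) (kf xf22 yf19 zf42) (kf xf14 yf52 zf29) (kf xf11 yf47 zf1) (kf xf11 yf47 zf23) (kf xf11 yf47 zf24) (kf xf11 yf44 zf4) (kf xf11 yf46 zf49) (kf xf11 yf46 zf50) (kf xf11 yf47 zf2) (kf xf11 yf47 zf3) (kf xf21 yf35 zf48) (kf xf21 yf21 zf28)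 (kf xf18 yf0 zf22) (kf xf18 yf0 zf21) (kf xf29 yf38 zf19)) (@D3.rec (fun _ => Pt) (kf xf11 yf43 zf49) (kf xf14 yf11 zf14) (kf xf18 yf0 zf26) (kf xf18 yf0 zf25) (kf xf24 yf39 zf23) (kf xf11 yf43 zf51) (kf xf19 yf53 zf10) (kf xf22 yf18 zf3) (kf xf27 yf21 zf21) (kf xf20 yf48 zf15) (kf xf17 yf22 zf58) (kf xf27 yf16 zf36) (kf xf14 yf13 zf41) (kf xf11 yf44 zf7) (kf xf29 yf38 zf25) (kf xf11 yf44 zf5) (kf xf21 yf12 zf31) (kf xf26 yf23 zf28) (kf xf23 yf37 zf2) (kf xf11 yf44 zf6) (kf xf28 yf20 zf7) (kf xf14 yf12 zf26) (kf xf21 yf49 zf33) (kf xf22 yf50 zf12) (kf xf29 yf38 zf24) (kf xf23 yf7 zf25) (kf xf11 yf44 zf9) (kf xf17 yf22 zf20) (kf xf19 yf34 zf21) (kf xf20 yf15 zf45) (kf xf20 yf15 zf46) (kf xf27 yf21 zf13) (kf xf18 yf0 zf1) (kf xf18 yf48 zf28) (kf xf29 yf38 zf37) (kf xf18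 yf0 zf0) (kf xf29 yf38 zf39) (kf xf27 yf21 zf14) (kf xf20 yf46 zf50) (kf xf20 yf41 zf23) (kf xf22 yf18 zf39) (kf xf20 yf46 zf49) (kf xf23 yf7 zf30) (kf xf27 yf12 zf30) (kf xf27 yf12 zf21) (kf xf29 yf38 zf47) (kf xf24 yf55 zf41) (kf xf11 yf44 zf21) (kf xf23 yf37 zf3) (kf xf19 yf50 zf25) (kf xf19 yf40 zf0) (kf xf19 yf53 zf2) (kf xf26 yf33 zf5) (kf xf13 yf6 zf29) (kf xf27 yf21 zf16) (kf xf20 yf39 zf51) (kf xf25 yf18 zf29) (kf xf25 yf18 zf27) (kf xf27 yf10 zf54) (kf xf14 yf20 zf18) (kf xf29 yf38 zf54) (kf xf19 yf13 zf30)) (@D3.rec (fun _ => Pt) (kf xf11 yf44 zf37) (kf xf19 yf13 zf31) (kf xf17 yf12 zf19) (kf xf19 yf17 zf27) (kf xf29 yf38 zf15) (kf xf24 yf2 zf31) (kf xf27 yf16 zf60) (kf xf22 yf42 zf37) (kf xf17 yf59 zf42) (kf xf22 yf42 zf39) (kf xf22 yf42 zf24) (kf xf27 yf21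 zf3) (kf xf27 yf21 zf2) (kf xf26 yf53 zf22) (kf xf14 yf33 zf13) (kf xf27 yf10 zf24) (kf xf19 yf47 zf47) (kf xf24 yf2 zf45) (kf xf21 yf47 zf18) (kf xf29 yf39 zf2) (kf xf19 yf19 zf37) (kf xf14 yf52 zf36) (kf xf27 yf21 zf60) (kf xf24 yf15 zf56) (kf xf13 yf3 zf23) (kf xf27 yf9 zf20) (kf xf23 yf13 zf16) (kf xf19 yf26 zf51) (kf xf11 yf45 zf12) (kf xf18 yf0 zf10) (kf xf18 yf0 zf11) (kf xf21 yf26 zf41) (kf xf12 yf1 zf36) (kf xf14 yf31 zf31) (kf xf29 yf39 zf6) (kf xf23 yf0 zf14) (kf xf28 yf17 zf39) (kf xf27 yf12 zf17) (kf xf18 yf49 zf58) (kf xf11 yf45 zf24) (kf xf29 yf39 zf10) (kf xf23 yf19 zf9) (kf xf11 yf45 zf27) (kf xf18 yf47 zf17) (kf xf29 yf39 zf12) (kf xf29 yf39 zf13) (kf xf27 yf9 zf22) (kf xf13 yf52 zf16) (kf xf27 yf59 zf9) (kf xf20 yf45 zf41) (kf xf20 yf45 zf38) (kf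 xf27 yf48 zf24) (kf xf26 yf21 zf8) (kf xf11 yf45 zf33) (kf xf28 yf14 zf39) (kf xf21 yf52 zf25) (kf xf21 yf52 zf27) (kf xf19 yf9 zf53) (kf xf20 yf31 zf47) (kf xf20 yf31 zf46) (kf xf29 yf39 zf21) (kf xf11 yf45 zf40)) (@D3.rec (fun _ => Pt) (kf xf23 yf52 zf60) (kf xf23 yf58 zf10) (kf xf20 yf33 zf18) (kf xf27 yf11 zf57) (kf xf23 yf45 zf31) (kf xf29 yf8 zf15) (kf xf11 yf45 zf43) (kf xf21 yf52 zf2) (kf xf13 yf20 zf22) (kf xf18 yf45 zf29) (kf xf28 yf32 zf16) (kf xf11 yf45 zf47) (kf xf13 yf9 zf13) (kf xf11 yf45 zf50) (kf xf28 yf15 zf24) (kf xf27 yf12 zf41) (kf xf26 yf6 zf1) (kf xf27 yf12 zf40) (kf xf29 yf25 zf31) (kf xf27 yf12 zf44) (kf xf27 yf12 zf43) (kf xf13 yf12 zf21) (kf xf11 yf45 zf54) (kf xf21 yf6 zf50) (kf xf18 yf29 zf21) (kf xf12 yf47 zf26) (kf xf23 yf6 zf25) (kf xf27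 yf43 zf22) (kf xf28 yf4 zf22) (kf xf11 yf46 zf0) (kf xf13 yf47 zf26) (kf xf22 yf37 zf20) (kf xf23 yf40 zf55) (kf xf22 yf39 zf3) (kf xf23 yf40 zf56) (kf xf16 yf15 zf27) (kf xf13 yf7 zf35) (kf xf29 yf38 zf5) (kf xf29 yf39 zf46) (kf xf27 yf12 zf42) (kf xf27 yf2 zf32) (kf xf11 yf46 zf5) (kf xf20 yf30 zf2) (kf xf27 yf5 zf15) (kf xf28 yf15 zf25) (kf xf29 yf38 zf3) (kf xf22 yf25 zf29) (kf xf24 yf21 zf30) (kf xf29 yf38 zf7) (kf xf21 yf3 zf32) (kf xf29 yf38 zf6) (kf xf13 yf12 zf43) (kf xf22 yf25 zf31) (kf xf22 yf24 zf22) (kf xf13 yf52 zf18) (kf xf29 yf39 zf56) (kf xf28 yf22 zf11) (kf xf11 yf46 zf11) (kf xf11 yf46 zf38) (kf xf13 yf10 zf61) (kf xf13 yf11 zf2) (kf xf21 yf42 zf36)) (@D3.rec (fun _ => Pt) (kf xf13 yf11 zf5) (kf xf13 yf11 zf10) (kf xf22 yf19 zf35) (kf xf13 yf11 zf11)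 (kf xf13 yf11 zf12) (kf xf13 yf12 zf22) (kf xf13 yf12 zf23) (kf xf13 yf12 zf24) (kf xf21 yf52 zf24) (kf xf21 yf52 zf29) (kf xf21 yf52 zf28) (kf xf29 yf38 zf9) (kf xf29 yf38 zf10) (kf xf24 yf21 zf24) (kf xf20 yf48 zf27) (kf xf20 yf45 zf9) (kf xf20 yf48 zf43) (kf xf28 yf48 zf45) (kf xf20 yf17 zf35) (kf xf20 yf17 zf11) (kf xf29 yf38 zf12) (kf xf29 yf40 zf13) (kf xf29 yf38 zf13) (kf xf13 yf13 zf22) (kf xf29 yf40 zf19) (kf xf11 yf46 zf32) (kf xf29 yf38 zf14) (kf xf20 yf48 zf14) (kf xf29 yf40 zf29) (kf xf29 yf40 zf26) (kf xf29 yf40 zf25) (kf xf29 yf22 zf26) (kf xf11 yf46 zf35) (kf xf26 yf10 zf34) (kf xf29 yf39 zf57) (kf xf13 yf11 zf32) (kf xf18 yf0 zf57) (kf xf18 yf0 zf58) (kf xf18 yf0 zf52) (kf xf18 yf0 zf59) (kf xf29 yf40 zf37) (kf xf20 yf13 zf40) (kf xf27 yf20 zf58) (kf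 xf20 yf48 zf16) (kf xf22 yf26 zf41) (kf xf22 yf46 zf36) (kf xf24 yf5 zf54) (kf xf14 yf16 zf8) (kf xf24 yf21 zf47) (kf xf29 yf38 zf16) (kf xf24 yf21 zf43) (kf xf22 yf26 zf16) (kf xf22 yf16 zf37) (kf xf29 yf26 zf17) (kf xf20 yf17 zf16) (kf xf22 yf19 zf38) (kf xf22 yf25 zf12) (kf xf22 yf26 zf18) (kf xf22 yf26 zf19) (kf xf22 yf26 zf20) (kf xf14 yf53 zf0) (kf xf20 yf40 zf15)) (@D3.rec (fun _ => Pt) (kf xf21 yf3 zf44) (kf xf27 yf13 zf49) (kf xf20 yf16 zf39) (kf xf19 yf59 zf16) (kf xf20 yf16 zf40) (kf xf20 yf17 zf9) (kf xf29 yf18 zf26) (kf xf20 yf17 zf10) (kf xf29 yf18 zf25) (kf xf26 yf4 zf14) (kf xf27 yf29 zf21) (kf xf12 yf41 zf10) (kf xf19 yf46 zf45) (kf xf20 yf23 zf36) (kf xf23 yf14 zf38) (kf xf21 yf39 zf7) (kf xf13 yf41 zf40) (kf xf26 yf54 zf8) (kf xf27 yf50 zf42) (kf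 xf20 yf17 zf23) (kf xf12 yf51 zf48) (kf xf22 yf25 zf48) (kf xf12 yf51 zf55) (kf xf14 yf40 zf55) (kf xf16 yf31 zf37) (kf xf16 yf24 zf55) (kf xf13 yf43 zf45) (kf xf20 yf42 zf35) (kf xf20 yf42 zf36) (kf xf20 yf42 zf37) (kf xf29 yf41 zf12) (kf xf13 yf43 zf9) (kf xf19 yf53 zf46) (kf xf29 yf23 zf39) (kf xf24 yf39 zf8) (kf xf11 yf47 zf29) (kf xf24 yf16 zf10) (kf xf12 yf30 zf52) (kf xf21 yf24 zf7) (kf xf28 yf58 zf36) (kf xf29 yf23 zf36) (kf xf29 yf23 zf37) (kf xf20 yf44 zf0) (kf xf29 yf41 zf25) (kf xf25 yf35 zf28) (kf xf17 yf58 zf51) (kf xf19 yf45 zf32) (kf xf11 yf47 zf35) (kf xf26 yf23 zf27) (kf xf26 yf23 zf53) (kf xf23 yf7 zf42) (kf xf23 yf37 zf50) (kf xf29 yf41 zf33) (kf xf21 yf31 zf46) (kf xf21 yf31 zf47) (kf xf23 yf37 zf51) (kf xf21 yf57 zf40) (kf xf21 yf57 zf41) (kf xf20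 yf26 zf35) (kf xf20 yf26 zf36) (kf xf19 yf50 zf39) (kf xf29 yf23 zf43)) (@D3.rec (fun _ => Pt) (kf xf29 yf23 zf44) (kf xf29 yf23 zf45) (kf xf29 yf23 zf46) (kf xf29 yf41 zf46) (kf xf29 yf41 zf49) (kf xf16 yf45 zf34) (kf xf29 yf41 zf53) (kf xf11 yf47 zf48) (kf xf26 yf44 zf46) (kf xf21 yf9 zf38) (kf xf14 yf51 zf34) (kf xf24 yf4 zf55) (kf xf24 yf33 zf38) (kf xf23 yf8 zf44) (kf xf21 yf57 zf42) (kf xf29 yf23 zf49) (kf xf15 yf31 zf37) (kf xf29 yf23 zf50) (kf xf21 yf11 zf21) (kf xf29 yf23 zf51) (kf xf25 yf55 zf41) (kf xf26 yf44 zf51) (kf xf24 yf33 zf49) (kf xf28 yf49 zf29) (kf xf21 yf33 zf8) (kf xf28 yf49 zf27) (kf xf18 yf2 zf22) (kf xf25 yf56 zf29) (kf xf26 yf44 zf43) (kf xf29 yf23 zf52) (kf xf25 yf56 zf47) (kf xf24 yf5 zf37) (kf xf29 yf23 zf53) (kf xf29 yf42 zf15) (kf xf27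 yf42 zf22) (kf xf24 yf17 zf52) (kf xf20 yf43 zf58) (kf xf27 yf15 zf54) (kf xf25 yf55 zf54) (kf xf29 yf34 zf53) (kf xf11 yf48 zf2) (kf xf11 yf48 zf21) (kf xf11 yf48 zf26) (kf xf11 yf48 zf33) (kf xf11 yf48 zf32) (kf xf23 yf3 zf37) (kf xf20 yf26 zf31) (kf xf20 yf50 zf56) (kf xf21 yf59 zf58) (kf xf19 yf52 zf28) (kf xf13 yf23 zf29) (kf xf16 yf56 zf40) (kf xf19 yf34 zf28) (kf xf19 yf47 zf26) (kf xf27 yf0 zf51) (kf xf16 yf56 zf41) (kf xf20 yf50 zf47) (kf xf24 yf10 zf57) (kf xf17 yf1 zf27) (kf xf17 yf1 zf29) (kf xf20 yf25 zf27) (kf xf23 yf57 zf57)) (@D3.rec (fun _ => Pt) (kf xf28 yf45 zf44) (kf xf29 yf19 zf37) (kf xf21 yf14 zf13) (kf xf13 yf16 zf43) (kf xf11 yf48 zf34) (kf xf12 yf10 zf29) (kf xf26 yf58 zf60) (kf xf26 yf58 zf59) (kf xf26 yf41 zf44) (kf xf27 yf36 zf17) (kf xf16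 yf48 zf39) (kf xf20 yf19 zf16) (kf xf21 yf33 zf6) (kf xf19 yf47 zf51) (kf xf22 yf4 zf56) (kf xf22 yf2 zf40) (kf xf17 yf2 zf12) (kf xf20 yf37 zf54) (kf xf11 yf49 zf6) (kf xf11 yf49 zf7) (kf xf11 yf49 zf11) (kf xf11 yf48 zf52) (kf xf11 yf49 zf20) (kf xf23 yf49 zf43) (kf xf14 yf36 zf34) (kf xf12 yf36 zf14) (kf xf21 yf20 zf16) (kf xf22 yf8 zf36) (kf xf25 yf42 zf27) (kf xf12 yf36 zf55) (kf xf20 yf53 zf43) (kf xf11 yf48 zf61) (kf xf26 yf58 zf41) (kf xf27 yf36 zf37) (kf xf27 yf36 zf35) (kf xf12 yf40 zf55) (kf xf12 yf36 zf11) (kf xf27 yf22 zf11) (kf xf15 yf5 zf11) (kf xf25 yf45 zf53) (kf xf22 yf7 zf44) (kf xf14 yf33 zf8) (kf xf27 yf0 zf58) (kf xf27 yf42 zf49) (kf xf16 yf59 zf41) (kf xf23 yf46 zf53) (kf xf19 yf23 zf26) (kf xf24 yf18 zf61) (kf xf24 yf53 zf35) (kf xf18 yf24 zf25)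 (kf xf24 yf19 zf10) (kf xf17 yf5 zf52) (kf xf18 yf43 zf30) (kf xf17 yf10 zf2) (kf xf17 yf50 zf34) (kf xf15 yf30 zf42) (kf xf11 yf49 zf37) (kf xf12 yf42 zf34) (kf xf16 yf48 zf56) (kf xf20 yf39 zf47) (kf xf12 yf10 zf47) (kf xf26 yf55 zf28)) (@D3.rec (fun _ => Pt) (kf xf12 yf9 zf26) (kf xf14 yf44 zf25) (kf xf18 yf1 zf31) (kf xf14 yf43 zf12) (kf xf26 yf32 zf51) (kf xf12 yf53 zf15) (kf xf12 yf9 zf53) (kf xf13 yf50 zf35) (kf xf26 yf59 zf49) (kf xf20 yf24 zf51) (kf xf16 yf23 zf59) (kf xf27 yf0 zf53) (kf xf20 yf31 zf16) (kf xf27 yf0 zf54) (kf xf12 yf1 zf31) (kf xf14 yf46 zf37) (kf xf20 yf20 zf19) (kf xf21 yf35 zf42) (kf xf26 yf22 zf58) (kf xf15 yf25 zf53) (kf xf26 yf27 zf8) (kf xf27 yf0 zf55) (kf xf20 yf34 zf49) (kf xf24 yf53 zf38) (kf xf20 yf41 zf12) (kf xf27 yf0 zf61) (kf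 xf20 yf20 zf16) (kf xf23 yf26 zf34) (kf xf27 yf1 zf0) (kf xf16 yf53 zf54) (kf xf17 yf24 zf51) (kf xf16 yf24 zf50) (kf xf18 yf2 zf9) (kf xf20 yf20 zf10) (kf xf28 yf18 zf17) (kf xf19 yf32 zf35) (kf xf12 yf10 zf19) (kf xf20 yf25 zf33) (kf xf12 yf10 zf22) (kf xf20 yf34 zf50) (kf xf27 yf59 zf40) (kf xf29 yf19 zf38) (kf xf26 yf52 zf47) (kf xf19 yf51 zf19) (kf xf20 yf25 zf34) (kf xf20 yf25 zf35) (kf xf12 yf24 zf13) (kf xf29 yf42 zf41) (kf xf29 yf18 zf58) (kf xf29 yf29 zf7) (kf xf11 yf50 zf33) (kf xf19 yf31 zf13) (kf xf19 yf33 zf27) (kf xf28 yf53 zf14) (kf xf19 yf53 zf34) (kf xf29 yf42 zf44) (kf xf11 yf50 zf38) (kf xf29 yf28 zf2) (kf xf29 yf28 zf1) (kf xf20 yf28 zf17) (kf xf20 yf28 zf18) (kf xf24 yf33 zf4)) (@D3.rec (fun _ => Pt) (kf xf11 yf50 zf47) (kf xf20 yf28 zf11) (kf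 xf19 yf25 zf19) (kf xf24 yf4 zf6) (kf xf19 yf53 zf27) (kf xf29 yf42 zf48) (kf xf11 yf50 zf53) (kf xf29 yf23 zf42) (kf xf29 yf3 zf14) (kf xf20 yf34 zf9) (kf xf12 yf55 zf52) (kf xf29 yf2 zf54) (kf xf23 yf13 zf10) (kf xf27 yf43 zf40) (kf xf21 yf43 zf61) (kf xf23 yf13 zf14) (kf xf28 yf10 zf26) (kf xf11 yf50 zf60) (kf xf21 yf35 zf9) (kf xf27 yf0 zf21) (kf xf20 yf34 zf27) (kf xf21 yf20 zf47) (kf xf16 yf4 zf49) (kf xf27 yf22 zf17) (kf xf19 yf48 zf50) (kf xf17 yf4 zf9) (kf xf17 yf4 zf11) (kf xf13 yf55 zf58) (kf xf19 yf47 zf31) (kf xf27 yf43 zf42) (kf xf24 yf33 zf1) (kf xf11 yf51 zf12) (kf xf17 yf52 zf13) (kf xf27 yf1 zf7) (kf xf27 yf22 zf21) (kf xf21 yf48 zf28) (kf xf25 yf17 zf49) (kf xf25 yf21 zf25) (kf xf21 yf43 zf8) (kf xf25 yf19 zf26) (kf xf25 yf17 zf44) (kf xf27 yf1 zf8)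 (kf xf24 yf51 zf7) (kf xf20 yf51 zf30) (kf xf12 yf35 zf14) (kf xf11 yf51 zf23) (kf xf15 yf25 zf46) (kf xf14 yf48 zf36) (kf xf21 yf11 zf28) (kf xf22 yf3 zf28) (kf xf24 yf5 zf11) (kf xf24 yf5 zf10) (kf xf24 yf4 zf61) (kf xf29 yf24 zf50) (kf xf22 yf3 zf29) (kf xf20 yf28 zf22) (kf xf26 yf40 zf61) (kf xf17 yf6 zf25) (kf xf22 yf3 zf30) (kf xf23 yf8 zf12) (kf xf29 yf43 zf15) (kf xf24 yf32 zf3)) (@D3.rec (fun _ => Pt) (kf xf11 yf51 zf35) (kf xf17 yf7 zf11) (kf xf22 yf5 zf46) (kf xf12 yf41 zf37) (kf xf16 yf37 zf30) (kf xf15 yf48 zf27) (kf xf16 yf37 zf47) (kf xf17 yf7 zf12) (kf xf21 yf1 zf22) (kf xf22 yf6 zf6) (kf xf22 yf6 zf7) (kf xf20 yf20 zf38) (kf xf20 yf20 zf39) (kf xf26 yf53 zf40) (kf xf26 yf53 zf41) (kf xf21 yf24 zf14) (kf xf29 yf43 zf33) (kf xf26 yf54 zf48) (kf xf26 yf54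 zf47) (kf xf29 yf43 zf38) (kf xf11 yf51 zf45) (kf xf26 yf54 zf50) (kf xf26 yf54 zf51) (kf xf19 yf42 zf55) (kf xf21 yf57 zf59) (kf xf26 yf54 zf49) (kf xf19 yf42 zf54) (kf xf14 yf47 zf53) (kf xf19 yf10 zf44) (kf xf21 yf24 zf13) (kf xf21 yf18 zf4) (kf xf20 yf31 zf52) (kf xf29 yf7 zf19) (kf xf20 yf1 zf56) (kf xf19 yf42 zf51) (kf xf11 yf51 zf55) (kf xf18 yf1 zf51) (kf xf16 yf17 zf35) (kf xf16 yf17 zf36) (kf xf16 yf17 zf32) (kf xf24 yf41 zf56) (kf xf26 yf46 zf4) (kf xf25 yf37 zf50) (kf xf15 yf39 zf24) (kf xf15 yf39 zf20) (kf xf15 yf39 zf25) (kf xf29 yf43 zf52) (kf xf27 yf40 zf59) (kf xf25 yf39 zf15) (kf xf11 yf52 zf3) (kf xf14 yf6 zf47) (kf xf26 yf1 zf39) (kf xf11 yf52 zf5) (kf xf23 yf42 zf11) (kf xf16 yf50 zf45) (kf xf19 yf16 zf60) (kf xf19 yf17 zf1) (kf xf19 yf16 zf47)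 (kf xf23 yf40 zf58) (kf xf11 yf52 zf50) (kf xf16 yf39 zf0) (kf xf11 yf53 zf1)) (@D3.rec (fun _ => Pt) (kf xf11 yf53 zf2) (kf xf11 yf53 zf3) (kf xf29 yf43 zf60) (kf xf29 yf10 zf40) (kf xf29 yf10 zf41) (kf xf11 yf53 zf10) (kf xf11 yf53 zf29) (kf xf11 yf53 zf30) (kf xf29 yf44 zf3) (kf xf11 yf53 zf19) (kf xf11 yf53 zf18) (kf xf23 yf55 zf20) (kf xf11 yf52 zf21) (kf xf11 yf53 zf22) (kf xf11 yf53 zf50) (kf xf11 yf53 zf51) (kf xf11 yf53 zf52) (kf xf11 yf53 zf54) (kf xf29 yf44 zf14) (kf xf29 yf44 zf17) (kf xf11 yf52 zf26) (kf xf29 yf44 zf19) (kf xf29 yf44 zf21) (kf xf11 yf52 zf29) (kf xf11 yf52 zf32) (kf xf11 yf52 zf31) (kf xf20 yf55 zf28) (kf xf27 yf15 zf41) (kf xf20 yf55 zf26) (kf xf22 yf1 zf35) (kf xf11 yf52 zf30) (kf xf29 yf44 zf22) (kf xf27 yf15 zf42) (kf xf29 yf44 zf23)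 (kf xf27 yf0 zf11) (kf xf25 yf22 zf25) (kf xf25 yf22 zf23) (kf xf25 yf22 zf24) (kf xf25 yf22 zf7) (kf xf29 yf44 zf36) (kf xf16 yf36 zf60) (kf xf11 yf54 zf15) (kf xf29 yf44 zf41) (kf xf29 yf44 zf43) (kf xf11 yf54 zf20) (kf xf11 yf54 zf19) (kf xf11 yf52 zf37) (kf xf16 yf37 zf6) (kf xf15 yf27 zf52) (kf xf19 yf58 zf15) (kf xf27 yf39 zf18) (kf xf25 yf6 zf19) (kf xf24 yf51 zf22) (kf xf15 yf29 zf22) (kf xf29 yf44 zf50) (kf xf29 yf44 zf51) (kf xf11 yf52 zf45) (kf xf24 yf23 zf34) (kf xf27 yf57 zf2) (kf xf27 yf57 zf1) (kf xf11 yf52 zf49) (kf xf22 yf3 zf51)) (@D3.rec (fun _ => Pt) (kf xf29 yf43 zf57) (kf xf26 yf37 zf5) (kf xf16 yf38 zf60) (kf xf19 yf14 zf14) (kf xf29 yf44 zf57) (kf xf29 yf43 zf59) (kf xf29 yf43 zf58) (kf xf24 yf22 zf47) (kf xf11 yf52 zf54) (kf xf19 yf19 zf19)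 (kf xf19 yf19 zf17) (kf xf16 yf38 zf16) (kf xf16 yf40 zf22) (kf xf16 yf40 zf19) (kf xf15 yf24 zf31) (kf xf15 yf16 zf12) (kf xf19 yf58 zf16) (kf xf12 yf54 zf34) (kf xf16 yf38 zf52) (kf xf21 yf51 zf56) (kf xf26 yf35 zf37) (kf xf29 yf45 zf11) (kf xf16 yf38 zf42) (kf xf29 yf45 zf9) (kf xf29 yf45 zf19) (kf xf11 yf53 zf4) (kf xf16 yf37 zf56) (kf xf29 yf43 zf61) (kf xf29 yf37 zf57) (kf xf11 yf53 zf5) (kf xf16 yf37 zf46) (kf xf16 yf37 zf48) (kf xf15 yf17 zf34) (kf xf24 yf1 zf4) (kf xf24 yf1 zf2) (kf xf11 yf53 zf7) (kf xf16 yf37 zf31) (kf xf16 yf37 zf29) (kf xf16 yf37 zf33) (kf xf29 yf44 zf0) (kf xf13 yf11 zf22) (kf xf15 yf28 zf42) (kf xf29 yf45 zf45) (kf xf11 yf53 zf11) (kf xf15 yf41 zf21) (kf xf25 yf52 zf25) (kf xf15 yf20 zf4) (kf xf16 yf11 zf9) (kf xf16 yf11 zf11) (kf xf11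 yf56 zf31) (kf xf19 yf14 zf12) (kf xf19 yf14 zf13) (kf xf29 yf44 zf5) (kf xf29 yf44 zf6) (kf xf29 yf33 zf23) (kf xf29 yf44 zf4) (kf xf16 yf40 zf20) (kf xf25 yf7 zf60) (kf xf13 yf8 zf61) (kf xf11 yf53 zf20) (kf xf29 yf44 zf8) (kf xf29 yf44 zf9)) (@D3.rec (fun _ => Pt) (kf xf13 yf13 zf15) (kf xf16 yf40 zf28) (kf xf15 yf9 zf18) (kf xf25 yf36 zf60) (kf xf19 yf26 zf47) (kf xf16 yf40 zf4) (kf xf27 yf0 zf28) (kf xf29 yf45 zf57) (kf xf27 yf0 zf29) (kf xf29 yf45 zf61) (kf xf11 yf53 zf33) (kf xf19 yf14 zf25) (kf xf19 yf14 zf24) (kf xf29 yf46 zf8) (kf xf11 yf53 zf34) (kf xf16 yf38 zf18) (kf xf16 yf39 zf50) (kf xf19 yf13 zf60) (kf xf16 yf38 zf17) (kf xf19 yf13 zf42) (kf xf11 yf53 zf37) (kf xf19 yf13 zf59) (kf xf16 yf39 zf60) (kf xf19 yf13 zf56) (kf xf19 yf13 zf57) (kf xf21 yf52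 zf11) (kf xf16 yf40 zf32) (kf xf22 yf3 zf60) (kf xf21 yf52 zf12) (kf xf29 yf46 zf26) (kf xf29 yf46 zf25) (kf xf29 yf46 zf24) (kf xf28 yf54 zf42) (kf xf11 yf53 zf45) (kf xf19 yf1 zf9) (kf xf29 yf44 zf16) (kf xf29 yf44 zf15) (kf xf20 yf39 zf36) (kf xf11 yf53 zf47) (kf xf23 yf56 zf52) (kf xf26 yf0 zf5) (kf xf26 yf39 zf53) (kf xf15 yf25 zf13) (kf xf26 yf34 zf51) (kf xf15 yf25 zf11) (kf xf15 yf25 zf12) (kf xf15 yf25 zf14) (kf xf26 yf5 zf47) (kf xf20 yf57 zf61) (kf xf16 yf42 zf27) (kf xf29 yf46 zf46) (kf xf28 yf56 zf34) (kf xf11 yf53 zf55) (kf xf29 yf44 zf20) (kf xf27 yf17 zf37) (kf xf29 yf46 zf53) (kf xf11 yf53 zf56) (kf xf28 yf56 zf35) (kf xf11 yf54 zf6) (kf xf16 yf41 zf9) (kf xf27 yf0 zf10) (kf xf20 yf57 zf48)) (@D3.rec (fun _ => Pt) (kf xf29 yf46 zf58) (kf xf15 yf30 zf23)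 (kf xf29 yf31 zf8) (kf xf23 yf13 zf9) (kf xf28 yf54 zf26) (kf xf11 yf54 zf2) (kf xf11 yf54 zf7) (kf xf25 yf51 zf19) (kf xf26 yf39 zf32) (kf xf18 yf46 zf2) (kf xf26 yf59 zf34) (kf xf29 yf3 zf22) (kf xf29 yf47 zf1) (kf xf28 yf47 zf41) (kf xf25 yf19 zf29) (kf xf12 yf44 zf55) (kf xf29 yf47 zf10) (kf xf11 yf54 zf9) (kf xf19 yf31 zf39) (kf xf11 yf54 zf10) (kf xf16 yf41 zf58) (kf xf16 yf41 zf59) (kf xf29 yf44 zf39) (kf xf29 yf44 zf38) (kf xf29 yf47 zf19) (kf xf11 yf54 zf14) (kf xf22 yf3 zf57) (kf xf29 yf47 zf24) (kf xf29 yf3 zf18) (kf xf29 yf38 zf2) (kf xf29 yf47 zf27) (kf xf11 yf54 zf16) (kf xf25 yf19 zf28) (kf xf20 yf12 zf5) (kf xf25 yf19 zf27) (kf xf29 yf47 zf30) (kf xf25 yf22 zf36) (kf xf11 yf54 zf18) (kf xf26 yf54 zf30) (kf xf26 yf59 zf23) (kf xf19 yf31 zf43) (kf xf26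 yf59 zf21) (kf xf20 yf39 zf31) (kf xf11 yf54 zf22) (kf xf25 yf22 zf27) (kf xf16 yf42 zf28) (kf xf16 yf42 zf29) (kf xf20 yf39 zf28) (kf xf16 yf42 zf31) (kf xf16 yf41 zf47) (kf xf27 yf54 zf1) (kf xf16 yf42 zf33) (kf xf16 yf42 zf34) (kf xf16 yf42 zf35) (kf xf16 yf5 zf38) (kf xf16 yf42 zf38) (kf xf16 yf42 zf39) (kf xf16 yf5 zf43) (kf xf16 yf42 zf42) (kf xf16 yf42 zf43) (kf xf16 yf42 zf44) (kf xf19 yf24 zf34)) (@D3.rec (fun _ => Pt) (kf xf15 yf40 zf54) (kf xf19 yf24 zf35) (kf xf19 yf38 zf3) (kf xf19 yf24 zf40) (kf xf19 yf24 zf41) (kf xf19 yf24 zf42) (kf xf17 yf32 zf32) (kf xf19 yf37 zf40) (kf xf17 yf32 zf8) (kf xf19 yf24 zf45) (kf xf19 yf24 zf48) (kf xf29 yf47 zf53) (kf xf25 yf24 zf15) (kf xf25 yf24 zf14) (kf xf21 yf17 zf16) (kf xf11 yf54 zf38) (kf xf24 yf17 zf14) (kf xf24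 yf23 zf57) (kf xf17 yf28 zf20) (kf xf25 yf24 zf20) (kf xf25 yf5 zf2) (kf xf25 yf24 zf19) (kf xf25 yf5 zf3) (kf xf18 yf33 zf34) (kf xf19 yf24 zf53) (kf xf19 yf40 zf9) (kf xf19 yf24 zf56) (kf xf15 yf53 zf52) (kf xf17 yf55 zf36) (kf xf13 yf2 zf12) (kf xf19 yf25 zf4) (kf xf20 yf28 zf5) (kf xf17 yf35 zf39) (kf xf18 yf26 zf25) (kf xf14 yf43 zf51) (kf xf14 yf22 zf18) (kf xf19 yf23 zf38) (kf xf19 yf23 zf39) (kf xf19 yf23 zf40) (kf xf19 yf23 zf49) (kf xf19 yf23 zf50) (kf xf19 yf23 zf51) (kf xf19 yf23 zf53) (kf xf19 yf23 zf54) (kf xf19 yf23 zf55) (kf xf19 yf23 zf56) (kf xf29 yf1 zf52) (kf xf19 yf23 zf58) (kf xf19 yf30 zf41) (kf xf19 yf23 zf61) (kf xf17 yf18 zf54) (kf xf16 yf44 zf28) (kf xf29 yf13 zf45) (kf xf19 yf24 zf2) (kf xf15 yf51 zf15) (kf xf16 yf53 zf52) (kf xf17 yf18 zf55)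 (kf xf16 yf44 zf18) (kf xf16 yf44 zf19) (kf xf24 yf1 zf50) (kf xf19 yf42 zf7) (kf xf29 yf48 zf23))
def f_f_21 : D2 → D3 → Pt := @D2.rec (fun _ => D3 → Pt) (@D3.rec (fun _ => Pt) (kf xf11 yf55 zf9) (kf xf16 yf44 zf11) (kf xf16 yf44 zf14) (kf xf19 yf24 zf16) (kf xf19 yf24 zf19) (kf xf19 yf24 zf20) (kf xf26 yf50 zf11) (kf xf18 yf46 zf0) (kf xf19 yf24 zf21) (kf xf16 yf44 zf45) (kf xf16 yf44 zf50) (kf xf16 yf44 zf51) (kf xf16 yf43 zf32) (kf xf12 yf52 zf35) (kf xf18 yf51 zf28) (kf xf19 yf25 zf60) (kf xf17 yf58 zf55) (kf xf19 yf26 zf1) (kf xf27 yf25 zf28) (kf xf20 yf28 zf60) (kf xf15 yf39 zf7) (kf xf12 yf52 zf33) (kf xf19 yf46 zf0) (kf xf19 yf36 zf42) (kf xf19 yf38 zf13) (kf xf14 yf58 zf8) (kf xf25 yf24 zf31) (kf xf25 yf24 zf32) (kf xf19 yf46 zf29) (kf xf19 yf38 zf42) (kf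 xf16 yf45 zf59) (kf xf17 yf32 zf50) (kf xf17 yf32 zf51) (kf xf16 yf46 zf1) (kf xf16 yf46 zf2) (kf xf17 yf32 zf52) (kf xf20 yf28 zf61) (kf xf20 yf17 zf51) (kf xf19 yf47 zf15) (kf xf19 yf40 zf21) (kf xf19 yf25 zf53) (kf xf20 yf5 zf45) (kf xf19 yf8 zf22) (kf xf15 yf47 zf26) (kf xf19 yf25 zf12) (kf xf19 yf25 zf13) (kf xf19 yf25 zf14) (kf xf15 yf51 zf12) (kf xf15 yf51 zf13) (kf xf19 yf25 zf17) (kf xf16 yf46 zf31) (kf xf14 yf52 zf11) (kf xf19 yf41 zf10) (kf xf20 yf30 zf33) (kf xf19 yf16 zf2) (kf xf19 yf25 zf44) (kf xf16 yf46 zf57) (kf xf19 yf25 zf45) (kf xf16 yf46 zf59) (kf xf19 yf8 zf44) (kf xf17 yf36 zf13) (kf xf19 yf26 zf42)) (@D3.rec (fun _ => Pt) (kf xf15 yf30 zf16) (kf xf12 yf49 zf49) (kf xf19 yf26 zf49) (kf xf18 yf16 zf34) (kf xf18 yf7 zf38) (kf xf26 yf55 zf3) (kf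 xf14 yf3 zf3) (kf xf17 yf15 zf59) (kf xf19 yf26 zf19) (kf xf19 yf26 zf20) (kf xf19 yf8 zf26) (kf xf19 yf26 zf25) (kf xf16 yf47 zf54) (kf xf19 yf26 zf29) (kf xf19 yf26 zf30) (kf xf19 yf26 zf31) (kf xf14 yf9 zf17) (kf xf11 yf56 zf32) (kf xf12 yf54 zf32) (kf xf16 yf48 zf6) (kf xf12 yf54 zf37) (kf xf12 yf54 zf38) (kf xf20 yf54 zf8) (kf xf12 yf54 zf41) (kf xf12 yf54 zf42) (kf xf24 yf3 zf25) (kf xf26 yf52 zf21) (kf xf12 yf44 zf58) (kf xf29 yf49 zf8) (kf xf26 yf58 zf53) (kf xf18 yf57 zf61) (kf xf12 yf36 zf18) (kf xf17 yf57 zf49) (kf xf12 yf53 zf20) (kf xf12 yf44 zf56) (kf xf27 yf22 zf27) (kf xf26 yf58 zf54) (kf xf21 yf50 zf57) (kf xf16 yf48 zf53) (kf xf19 yf40 zf38) (kf xf16 yf38 zf58) (kf xf25 yf22 zf50) (kf xf25 yf22 zf51) (kf xf25 yf22 zf52) (kf xf20 yf3 zf28) (kf xf25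 yf22 zf53) (kf xf25 yf22 zf54) (kf xf25 yf22 zf55) (kf xf20 yf3 zf22) (kf xf25 yf22 zf57) (kf xf20 yf40 zf4) (kf xf17 yf58 zf38) (kf xf20 yf40 zf5) (kf xf25 yf48 zf36) (kf xf25 yf48 zf35) (kf xf27 yf42 zf3) (kf xf11 yf56 zf56) (kf xf25 yf48 zf40) (kf xf25 yf48 zf39) (kf xf15 yf18 zf19) (kf xf21 yf11 zf40) (kf xf11 yf56 zf59)) (@D3.rec (fun _ => Pt) (kf xf25 yf6 zf15) (kf xf15 yf22 zf39) (kf xf24 yf16 zf13) (kf xf15 yf20 zf19) (kf xf15 yf22 zf42) (kf xf25 yf23 zf4) (kf xf25 yf23 zf5) (kf xf20 yf4 zf57) (kf xf25 yf20 zf22) (kf xf24 yf51 zf46) (kf xf15 yf2 zf32) (kf xf14 yf39 zf20) (kf xf16 yf50 zf37) (kf xf25 yf22 zf48) (kf xf25 yf49 zf57) (kf xf22 yf4 zf33) (kf xf19 yf56 zf11) (kf xf25 yf2 zf30) (kf xf29 yf49 zf36) (kf xf16 yf50 zf32) (kf xf29 yf49 zf39) (kf xf11 yf57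 zf17) (kf xf29 yf49 zf43) (kf xf11 yf57 zf18) (kf xf16 yf50 zf20) (kf xf16 yf50 zf22) (kf xf23 yf29 zf54) (kf xf26 yf8 zf3) (kf xf29 yf49 zf54) (kf xf11 yf57 zf20) (kf xf22 yf4 zf27) (kf xf22 yf4 zf28) (kf xf16 yf51 zf6) (kf xf16 yf50 zf53) (kf xf16 yf50 zf58) (kf xf16 yf50 zf59) (kf xf17 yf15 zf37) (kf xf29 yf30 zf5) (kf xf17 yf14 zf59) (kf xf23 yf52 zf28) (kf xf15 yf23 zf50) (kf xf15 yf23 zf51) (kf xf15 yf23 zf52) (kf xf28 yf0 zf53) (kf xf28 yf0 zf32) (kf xf11 yf57 zf41) (kf xf18 yf23 zf13) (kf xf17 yf2 zf54) (kf xf18 yf28 zf41) (kf xf24 yf59 zf34) (kf xf26 yf48 zf44) (kf xf27 yf9 zf27) (kf xf11 yf57 zf47) (kf xf16 yf19 zf40) (kf xf12 yf37 zf53) (kf xf17 yf3 zf29) (kf xf29 yf26 zf2) (kf xf25 yf18 zf9) (kf xf13 yf33 zf45) (kf xf17 yf22 zf23) (kf xf17 yf7 zf1) (kf xf26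 yf38 zf25)) (@D3.rec (fun _ => Pt) (kf xf17 yf6 zf59) (kf xf15 yf5 zf18) (kf xf14 yf4 zf25) (kf xf11 yf57 zf61) (kf xf21 yf57 zf45) (kf xf18 yf25 zf53) (kf xf20 yf22 zf36) (kf xf11 yf58 zf3) (kf xf17 yf58 zf17) (kf xf27 yf42 zf13) (kf xf21 yf37 zf42) (kf xf21 yf37 zf19) (kf xf17 yf57 zf54) (kf xf16 yf59 zf6) (kf xf19 yf45 zf9) (kf xf11 yf58 zf16) (kf xf20 yf17 zf37) (kf xf16 yf49 zf31) (kf xf14 yf8 zf31) (kf xf23 yf1 zf8) (kf xf13 yf9 zf4) (kf xf12 yf4 zf57) (kf xf16 yf52 zf32) (kf xf13 yf3 zf24) (kf xf15 yf26 zf50) (kf xf17 yf59 zf13) (kf xf17 yf59 zf14) (kf xf20 yf5 zf49) (kf xf20 yf15 zf10) (kf xf19 yf52 zf52) (kf xf21 yf4 zf5) (kf xf11 yf58 zf45) (kf xf20 yf47 zf49) (kf xf28 yf16 zf23) (kf xf27 yf12 zf58) (kf xf29 yf34 zf60) (kf xf29 yf50 zf13) (kf xf11 yf58 zf48)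 (kf xf24 yf15 zf42) (kf xf19 yf8 zf24) (kf xf22 yf22 zf51) (kf xf14 yf19 zf53) (kf xf14 yf32 zf38) (kf xf14 yf32 zf54) (kf xf20 yf49 zf0) (kf xf11 yf58 zf56) (kf xf29 yf50 zf14) (kf xf20 yf27 zf42) (kf xf20 yf27 zf43) (kf xf19 yf19 zf30) (kf xf19 yf19 zf35) (kf xf20 yf33 zf0) (kf xf24 yf6 zf19) (kf xf24 yf5 zf59) (kf xf19 yf45 zf10) (kf xf24 yf52 zf52) (kf xf25 yf39 zf43) (kf xf21 yf55 zf33) (kf xf22 yf21 zf48) (kf xf27 yf1 zf33) (kf xf14 yf28 zf51) (kf xf14 yf13 zf48)) (@D3.rec (fun _ => Pt) (kf xf19 yf20 zf15) (kf xf18 yf23 zf15) (kf xf29 yf6 zf34) (kf xf22 yf39 zf11) (kf xf12 yf47 zf11) (kf xf21 yf3 zf30) (kf xf29 yf18 zf24) (kf xf12 yf26 zf19) (kf xf19 yf47 zf61) (kf xf16 yf51 zf31) (kf xf16 yf28 zf47) (kf xf16 yf28 zf51) (kf xf12 yf21 zf57) (kf xf16 yf28 zf45)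 (kf xf16 yf28 zf49) (kf xf16 yf22 zf36) (kf xf24 yf59 zf26) (kf xf16 yf28 zf52) (kf xf25 yf50 zf2) (kf xf11 yf59 zf40) (kf xf16 yf29 zf1) (kf xf16 yf29 zf0) (kf xf23 yf8 zf32) (kf xf11 yf59 zf38) (kf xf16 yf29 zf10) (kf xf16 yf29 zf9) (kf xf21 yf32 zf53) (kf xf23 yf35 zf49) (kf xf23 yf35 zf50) (kf xf22 yf8 zf43) (kf xf13 yf52 zf36) (kf xf13 yf52 zf37) (kf xf26 yf5 zf22) (kf xf26 yf11 zf47) (kf xf22 yf8 zf50) (kf xf15 yf11 zf45) (kf xf27 yf23 zf20) (kf xf18 yf37 zf6) (kf xf18 yf36 zf61) (kf xf24 yf44 zf14) (kf xf11 yf59 zf58) (kf xf21 yf34 zf44) (kf xf22 yf10 zf32) (kf xf27 yf3 zf56) (kf xf23 yf52 zf10) (kf xf21 yf49 zf51) (kf xf21 yf17 zf50) (kf xf21 yf34 zf4) (kf xf17 yf35 zf24) (kf xf14 yf12 zf9) (kf xf23 yf22 zf28) (kf xf23 yf52 zf14) (kf xf12 yf35 zf51) (kf xf12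 yf28 zf1) (kf xf12 yf33 zf5) (kf xf12 yf33 zf6) (kf xf12 yf33 zf27) (kf xf12 yf33 zf28) (kf xf12 yf33 zf29) (kf xf12 yf33 zf30) (kf xf21 yf39 zf20) (kf xf21 yf39 zf21)) (@D3.rec (fun _ => Pt) (kf xf21 yf39 zf22) (kf xf21 yf5 zf34) (kf xf25 yf59 zf54) (kf xf15 yf38 zf48) (kf xf15 yf38 zf53) (kf xf17 yf16 zf55) (kf xf21 yf19 zf59) (kf xf21 yf27 zf18) (kf xf21 yf27 zf14) (kf xf21 yf27 zf19) (kf xf17 yf14 zf47) (kf xf28 yf19 zf41) (kf xf17 yf14 zf49) (kf xf17 yf14 zf50) (kf xf17 yf14 zf51) (kf xf17 yf14 zf52) (kf xf21 yf18 zf11) (kf xf21 yf18 zf12) (kf xf22 yf9 zf4) (kf xf22 yf9 zf5) (kf xf22 yf9 zf6) (kf xf22 yf9 zf7) (kf xf22 yf9 zf11) (kf xf22 yf9 zf12) (kf xf22 yf9 zf13) (kf xf22 yf9 zf16) (kf xf22 yf9 zf17) (kf xf21 yf45 zf61) (kf xf21 yf34 zf46) (kf xf21 yf34 zf47)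 (kf xf22 yf9 zf18) (kf xf22 yf9 zf20) (kf xf22 yf9 zf21) (kf xf19 yf45 zf39) (kf xf21 yf5 zf1) (kf xf25 yf34 zf61) (kf xf12 yf0 zf30) (kf xf22 yf9 zf28) (kf xf22 yf9 zf29) (kf xf22 yf9 zf30) (kf xf15 yf17 zf21) (kf xf12 yf0 zf32) (kf xf21 yf27 zf54) (kf xf22 yf9 zf32) (kf xf27 yf59 zf26) (kf xf22 yf9 zf33) (kf xf22 yf9 zf34) (kf xf27 yf59 zf29) (kf xf18 yf15 zf50) (kf xf12 yf35 zf55) (kf xf26 yf57 zf50) (kf xf27 yf1 zf31) (kf xf12 yf0 zf38) (kf xf21 yf45 zf7) (kf xf21 yf45 zf15) (kf xf12 yf34 zf33) (kf xf12 yf34 zf34) (kf xf12 yf34 zf35) (kf xf13 yf37 zf46) (kf xf17 yf13 zf29) (kf xf21 yf18 zf22) (kf xf14 yf56 zf10)) (@D3.rec (fun _ => Pt) (kf xf15 yf45 zf36) (kf xf21 yf34 zf29) (kf xf29 yf51 zf17) (kf xf21 yf27 zf43) (kf xf21 yf27 zf44) (kf xf21 yf27 zf45) (kf xf21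 yf31 zf18) (kf xf21 yf31 zf19) (kf xf21 yf31 zf20) (kf xf23 yf25 zf47) (kf xf12 yf0 zf53) (kf xf29 yf51 zf22) (kf xf14 yf54 zf52) (kf xf13 yf26 zf14) (kf xf21 yf45 zf19) (kf xf12 yf0 zf52) (kf xf29 yf51 zf21) (kf xf23 yf21 zf1) (kf xf21 yf55 zf43) (kf xf21 yf55 zf47) (kf xf23 yf20 zf59) (kf xf28 yf10 zf4) (kf xf14 yf15 zf51) (kf xf29 yf30 zf25) (kf xf21 yf55 zf39) (kf xf16 yf11 zf55) (kf xf23 yf20 zf49) (kf xf23 yf20 zf48) (kf xf12 yf0 zf59) (kf xf21 yf28 zf23) (kf xf21 yf55 zf37) (kf xf21 yf55 zf38) (kf xf27 yf4 zf28) (kf xf27 yf4 zf29) (kf xf21 yf55 zf32) (kf xf21 yf55 zf34) (kf xf16 yf3 zf22) (kf xf25 yf37 zf15) (kf xf16 yf3 zf24) (kf xf16 yf2 zf44) (kf xf16 yf3 zf27) (kf xf16 yf3 zf28) (kf xf16 yf3 zf29) (kf xf29 yf30 zf0) (kf xf14 yf11 zf25) (kf xf24 yf31 zf50)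 (kf xf21 yf55 zf52) (kf xf21 yf55 zf51) (kf xf12 yf1 zf7) (kf xf14 yf11 zf59) (kf xf20 yf47 zf23) (kf xf21 yf41 zf28) (kf xf14 yf12 zf33) (kf xf22 yf3 zf42) (kf xf29 yf51 zf46) (kf xf12 yf2 zf28) (kf xf21 yf49 zf60) (kf xf21 yf36 zf27) (kf xf19 yf17 zf8) (kf xf12 yf12 zf60) (kf xf12 yf36 zf25) (kf xf12 yf36 zf24)) (@D3.rec (fun _ => Pt) (kf xf12 yf1 zf39) (kf xf12 yf1 zf37) (kf xf12 yf1 zf38) (kf xf21 yf54 zf58) (kf xf21 yf47 zf35) (kf xf21 yf54 zf59) (kf xf24 yf32 zf6) (kf xf22 yf8 zf30) (kf xf12 yf1 zf41) (kf xf12 yf35 zf33) (kf xf12 yf1 zf43) (kf xf12 yf20 zf15) (kf xf12 yf35 zf52) (kf xf29 yf51 zf50) (kf xf12 yf35 zf57) (kf xf28 yf10 zf30) (kf xf12 yf35 zf59) (kf xf21 yf58 zf59) (kf xf12 yf45 zf13) (kf xf12 yf45 zf14) (kf xf12 yf45 zf11) (kf xf12 yf45 zf16) (kf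 xf12 yf45 zf15) (kf xf12 yf1 zf60) (kf xf29 yf18 zf12) (kf xf21 yf20 zf37) (kf xf12 yf45 zf3) (kf xf12 yf45 zf4) (kf xf14 yf36 zf8) (kf xf12 yf45 zf8) (kf xf12 yf45 zf7) (kf xf12 yf2 zf5) (kf xf14 yf12 zf11) (kf xf12 yf35 zf13) (kf xf12 yf35 zf16) (kf xf23 yf23 zf41) (kf xf27 yf1 zf30) (kf xf22 yf37 zf2) (kf xf12 yf2 zf18) (kf xf28 yf8 zf25) (kf xf12 yf2 zf13) (kf xf12 yf32 zf15) (kf xf12 yf2 zf17) (kf xf29 yf51 zf55) (kf xf20 yf38 zf11) (kf xf28 yf1 zf2) (kf xf17 yf50 zf46) (kf xf15 yf38 zf36) (kf xf29 yf51 zf59) (kf xf21 yf35 zf29) (kf xf21 yf35 zf30) (kf xf13 yf40 zf54) (kf xf21 yf35 zf4) (kf xf12 yf2 zf31) (kf xf16 yf20 zf19) (kf xf12 yf45 zf56) (kf xf19 yf44 zf6) (kf xf22 yf51 zf57) (kf xf28 yf9 zf40) (kf xf22 yf46 zf43) (kf xf21 yf16 zf47) (kf xf18 yf17 zf25))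 (@D3.rec (fun _ => Pt) (kf xf14 yf12 zf7) (kf xf12 yf46 zf56) (kf xf12 yf2 zf35) (kf xf12 yf2 zf49) (kf xf17 yf19 zf31) (kf xf27 yf10 zf46) (kf xf12 yf33 zf53) (kf xf16 yf28 zf25) (kf xf27 yf38 zf29) (kf xf12 yf35 zf43) (kf xf27 yf38 zf26) (kf xf12 yf36 zf16) (kf xf27 yf31 zf34) (kf xf26 yf10 zf26) (kf xf12 yf2 zf61) (kf xf23 yf7 zf11) (kf xf27 yf58 zf41) (kf xf29 yf52 zf1) (kf xf12 yf3 zf1) (kf xf25 yf56 zf54) (kf xf12 yf3 zf3) (kf xf21 yf35 zf45) (kf xf21 yf46 zf47) (kf xf12 yf3 zf19) (kf xf12 yf3 zf20) (kf xf21 yf22 zf17) (kf xf21 yf22 zf18) (kf xf21 yf35 zf47) (kf xf21 yf22 zf16) (kf xf12 yf21 zf37) (kf xf21 yf21 zf60) (kf xf21 yf21 zf61) (kf xf21 yf18 zf21) (kf xf24 yf52 zf54) (kf xf24 yf42 zf0) (kf xf24 yf41 zf9) (kf xf24 yf32 zf0) (kf xf26 yf14 zf36) (kf xf27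 yf21 zf1) (kf xf12 yf48 zf13) (kf xf12 yf48 zf14) (kf xf12 yf48 zf16) (kf xf28 yf12 zf25) (kf xf12 yf48 zf21) (kf xf12 yf48 zf22) (kf xf12 yf48 zf29) (kf xf12 yf48 zf30) (kf xf21 yf18 zf58) (kf xf21 yf18 zf59) (kf xf12 yf48 zf35) (kf xf12 yf48 zf36) (kf xf12 yf48 zf37) (kf xf16 yf41 zf51) (kf xf12 yf48 zf40) (kf xf20 yf16 zf6) (kf xf12 yf48 zf42) (kf xf12 yf48 zf43) (kf xf12 yf48 zf44) (kf xf12 yf48 zf45) (kf xf23 yf37 zf17) (kf xf12 yf3 zf38) (kf xf12 yf3 zf35)) (@D3.rec (fun _ => Pt) (kf xf20 yf19 zf11) (kf xf20 yf12 zf14) (kf xf22 yf6 zf30) (kf xf20 yf19 zf9) (kf xf20 yf31 zf33) (kf xf20 yf20 zf2) (kf xf19 yf52 zf23) (kf xf19 yf51 zf3) (kf xf18 yf45 zf36) (kf xf23 yf58 zf21) (kf xf19 yf32 zf26) (kf xf28 yf28 zf2) (kf xf19 yf4 zf57) (kf xf16 yf53 zf58) (kf xf14 yf3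 zf28) (kf xf14 yf3 zf48) (kf xf16 yf53 zf56) (kf xf27 yf22 zf34) (kf xf23 yf47 zf52) (kf xf24 yf28 zf9) (kf xf27 yf22 zf35) (kf xf17 yf47 zf40) (kf xf12 yf3 zf45) (kf xf17 yf35 zf3) (kf xf22 yf2 zf44) (kf xf20 yf19 zf13) (kf xf16 yf53 zf34) (kf xf21 yf52 zf3) (kf xf27 yf3 zf25) (kf xf22 yf4 zf52) (kf xf13 yf0 zf29) (kf xf12 yf46 zf38) (kf xf12 yf3 zf56) (kf xf22 yf5 zf2) (kf xf27 yf3 zf24) (kf xf19 yf32 zf21) (kf xf22 yf5 zf9) (kf xf22 yf5 zf10) (kf xf20 yf50 zf9) (kf xf22 yf6 zf26) (kf xf27 yf22 zf33) (kf xf18 yf46 zf13) (kf xf27 yf22 zf2) (kf xf23 yf47 zf55) (kf xf25 yf53 zf17) (kf xf27 yf22 zf3) (kf xf22 yf9 zf61) (kf xf12 yf31 zf36) (kf xf28 yf11 zf19) (kf xf20 yf22 zf14) (kf xf18 yf0 zf16) (kf xf12 yf33 zf59) (kf xf12 yf33 zf36) (kf xf19 yf9 zf50) (kf xf19 yf3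 zf10) (kf xf19 yf3 zf11) (kf xf19 yf3 zf12) (kf xf21 yf16 zf59) (kf xf21 yf16 zf60) (kf xf22 yf7 zf54) (kf xf21 yf22 zf35) (kf xf12 yf4 zf54)) (@D3.rec (fun _ => Pt) (kf xf12 yf4 zf56) (kf xf21 yf17 zf47) (kf xf16 yf15 zf38) (kf xf16 yf0 zf4) (kf xf17 yf40 zf9) (kf xf12 yf20 zf32) (kf xf26 yf2 zf19) (kf xf26 yf2 zf37) (kf xf12 yf39 zf25) (kf xf17 yf21 zf8) (kf xf13 yf0 zf1) (kf xf13 yf0 zf2) (kf xf26 yf14 zf41) (kf xf13 yf0 zf5) (kf xf13 yf0 zf7) (kf xf13 yf0 zf8) (kf xf13 yf0 zf25) (kf xf12 yf4 zf61) (kf xf13 yf0 zf17) (kf xf21 yf23 zf44) (kf xf13 yf0 zf21) (kf xf21 yf23 zf45) (kf xf22 yf52 zf19) (kf xf25 yf18 zf41) (kf xf26 yf56 zf17) (kf xf20 yf33 zf40) (kf xf26 yf31 zf48) (kf xf26 yf56 zf20) (kf xf16 yf34 zf1) (kf xf29 yf52 zf49) (kf xf16 yf33 zf59) (kf xf16 yf33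 zf58) (kf xf12 yf5 zf8) (kf xf16 yf33 zf56) (kf xf29 yf52 zf52) (kf xf16 yf34 zf4) (kf xf16 yf34 zf3) (kf xf12 yf5 zf10) (kf xf13 yf42 zf9) (kf xf29 yf52 zf56) (kf xf16 yf34 zf12) (kf xf29 yf52 zf61) (kf xf16 yf34 zf10) (kf xf16 yf34 zf9) (kf xf12 yf5 zf13) (kf xf16 yf34 zf7) (kf xf26 yf29 zf10) (kf xf16 yf34 zf15) (kf xf16 yf34 zf14) (kf xf12 yf5 zf15) (kf xf16 yf34 zf19) (kf xf28 yf31 zf45) (kf xf16 yf34 zf17) (kf xf28 yf31 zf47) (kf xf26 yf31 zf46) (kf xf26 yf31 zf47) (kf xf26 yf31 zf45) (kf xf16 yf23 zf29) (kf xf16 yf23 zf28) (kf xf14 yf59 zf34) (kf xf16 yf25 zf54) (kf xf13 yf31 zf29)) (@D3.rec (fun _ => Pt) (kf xf29 yf53 zf19) (kf xf16 yf34 zf36) (kf xf24 yf48 zf10) (kf xf16 yf34 zf31) (kf xf16 yf34 zf30) (kf xf12 yf5 zf24) (kf xf12 yf10 zf3) (kf xf20 yf28 zf41)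 (kf xf12 yf5 zf35) (kf xf29 yf28 zf19) (kf xf19 yf9 zf38) (kf xf12 yf9 zf59) (kf xf17 yf58 zf25) (kf xf29 yf23 zf58) (kf xf17 yf58 zf34) (kf xf12 yf48 zf60) (kf xf12 yf5 zf33) (kf xf22 yf58 zf45) (kf xf29 yf0 zf38) (kf xf28 yf50 zf13) (kf xf14 yf20 zf44) (kf xf20 yf50 zf18) (kf xf26 yf57 zf0) (kf xf26 yf57 zf1) (kf xf17 yf2 zf24) (kf xf26 yf56 zf44) (kf xf26 yf56 zf45) (kf xf27 yf44 zf20) (kf xf20 yf53 zf48) (kf xf27 yf44 zf19) (kf xf26 yf57 zf19) (kf xf26 yf56 zf19) (kf xf29 yf53 zf41) (kf xf19 yf9 zf34) (kf xf22 yf6 zf10) (kf xf16 yf9 zf0) (kf xf26 yf36 zf40) (kf xf21 yf43 zf42) (kf xf18 yf2 zf50) (kf xf12 yf5 zf51) (kf xf21 yf1 zf60) (kf xf26 yf17 zf15) (kf xf21 yf54 zf39) (kf xf26 yf22 zf50) (kf xf26 yf22 zf36) (kf xf16 yf32 zf56) (kf xf16 yf25 zf52) (kf xf16 yf33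 zf23) (kf xf28 yf24 zf29) (kf xf16 yf32 zf42) (kf xf16 yf32 zf54) (kf xf26 yf22 zf27) (kf xf16 yf32 zf57) (kf xf26 yf24 zf27) (kf xf13 yf33 zf4) (kf xf13 yf28 zf43) (kf xf13 yf33 zf9) (kf xf27 yf53 zf51) (kf xf24 yf56 zf30) (kf xf12 yf6 zf0) (kf xf12 yf6 zf8) (kf xf24 yf57 zf46)) (@D3.rec (fun _ => Pt) (kf xf24 yf57 zf45) (kf xf12 yf6 zf2) (kf xf24 yf57 zf43) (kf xf24 yf9 zf27) (kf xf24 yf57 zf49) (kf xf24 yf57 zf48) (kf xf12 yf6 zf4) (kf xf28 yf8 zf35) (kf xf27 yf51 zf49) (kf xf29 yf53 zf58) (kf xf15 yf8 zf53) (kf xf12 yf6 zf5) (kf xf29 yf54 zf0) (kf xf28 yf7 zf22) (kf xf24 yf56 zf43) (kf xf24 yf56 zf42) (kf xf26 yf33 zf3) (kf xf14 yf58 zf46) (kf xf23 yf16 zf49) (kf xf16 yf12 zf2) (kf xf16 yf31 zf24) (kf xf13 yf42 zf45) (kf xf14 yf37 zf58) (kf xf16 yf23 zf16) (kf xf16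 yf53 zf20) (kf xf20 yf26 zf26) (kf xf20 yf26 zf23) (kf xf19 yf18 zf29) (kf xf12 yf6 zf25) (kf xf17 yf2 zf47) (kf xf24 yf24 zf8) (kf xf20 yf45 zf16) (kf xf29 yf54 zf6) (kf xf15 yf5 zf50) (kf xf12 yf6 zf32) (kf xf29 yf54 zf7) (kf xf20 yf21 zf0) (kf xf12 yf6 zf34) (kf xf12 yf6 zf43) (kf xf13 yf29 zf19) (kf xf18 yf31 zf21) (kf xf27 yf52 zf28) (kf xf27 yf52 zf32) (kf xf16 yf23 zf43) (kf xf12 yf6 zf40) (kf xf29 yf54 zf16) (kf xf29 yf54 zf9) (kf xf24 yf54 zf27) (kf xf18 yf36 zf8) (kf xf20 yf21 zf10) (kf xf29 yf54 zf23) (kf xf20 yf21 zf7) (kf xf12 yf6 zf46) (kf xf20 yf21 zf5) (kf xf29 yf54 zf26) (kf xf20 yf21 zf13) (kf xf20 yf21 zf12) (kf xf12 yf6 zf48) (kf xf27 yf57 zf10) (kf xf24 yf25 zf29) (kf xf13 yf49 zf27) (kf xf22 yf41 zf9)) (@D3.rec (fun _ => Pt) (kf xf16 yf25 zf6)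 (kf xf22 yf55 zf47) (kf xf14 yf59 zf42) (kf xf20 yf36 zf4) (kf xf20 yf36 zf29) (kf xf22 yf55 zf36) (kf xf16 yf56 zf26) (kf xf19 yf52 zf38) (kf xf12 yf7 zf1) (kf xf12 yf7 zf0) (kf xf12 yf6 zf60) (kf xf16 yf53 zf24) (kf xf12 yf6 zf61) (kf xf21 yf53 zf56) (kf xf19 yf43 zf29) (kf xf26 yf24 zf61) (kf xf17 yf46 zf29) (kf xf17 yf21 zf1) (kf xf20 yf32 zf2) (kf xf20 yf20 zf58) (kf xf27 yf5 zf28) (kf xf20 yf0 zf11) (kf xf29 yf28 zf44) (kf xf12 yf7 zf15) (kf xf27 yf34 zf41) (kf xf27 yf34 zf40) (kf xf20 yf21 zf30) (kf xf20 yf21 zf29) (kf xf14 yf58 zf47) (kf xf19 yf1 zf34) (kf xf25 yf16 zf53) (kf xf20 yf31 zf32) (kf xf12 yf7 zf22) (kf xf22 yf14 zf33) (kf xf20 yf31 zf43) (kf xf29 yf30 zf15) (kf xf12 yf7 zf24) (kf xf27 yf54 zf28) (kf xf12 yf7 zf35) (kf xf12 yf7 zf34) (kf xf29 yf54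 zf47) (kf xf12 yf7 zf28) (kf xf12 yf7 zf43) (kf xf12 yf7 zf44) (kf xf12 yf7 zf40) (kf xf29 yf54 zf43) (kf xf29 yf54 zf42) (kf xf29 yf54 zf45) (kf xf29 yf54 zf44) (kf xf24 yf9 zf2) (kf xf12 yf7 zf36) (kf xf16 yf30 zf16) (kf xf16 yf35 zf9) (kf xf15 yf25 zf31) (kf xf24 yf0 zf57) (kf xf20 yf30 zf5) (kf xf27 yf12 zf59) (kf xf22 yf29 zf2) (kf xf22 yf19 zf2) (kf xf15 yf0 zf32) (kf xf13 yf57 zf50) (kf xf26 yf20 zf44)) (@D3.rec (fun _ => Pt) (kf xf22 yf37 zf17) (kf xf28 yf50 zf4) (kf xf29 yf7 zf41) (kf xf29 yf54 zf48) (kf xf16 yf33 zf34) (kf xf12 yf7 zf45) (kf xf13 yf47 zf9) (kf xf13 yf47 zf10) (kf xf13 yf47 zf11) (kf xf23 yf20 zf23) (kf xf13 yf47 zf6) (kf xf13 yf47 zf7) (kf xf17 yf1 zf14) (kf xf20 yf51 zf2) (kf xf16 yf27 zf59) (kf xf13 yf57 zf59) (kf xf16 yf30 zf17) (kf xf16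 yf30 zf30) (kf xf23 yf46 zf14) (kf xf24 yf12 zf55) (kf xf24 yf21 zf61) (kf xf13 yf57 zf58) (kf xf13 yf57 zf57) (kf xf13 yf48 zf10) (kf xf12 yf8 zf10) (kf xf24 yf5 zf44) (kf xf13 yf57 zf54) (kf xf13 yf57 zf55) (kf xf22 yf54 zf28) (kf xf13 yf55 zf26) (kf xf13 yf55 zf27) (kf xf22 yf42 zf34) (kf xf13 yf55 zf24) (kf xf13 yf55 zf30) (kf xf13 yf55 zf29) (kf xf12 yf22 zf49) (kf xf29 yf55 zf25) (kf xf12 yf8 zf16) (kf xf22 yf13 zf13) (kf xf24 yf8 zf12) (kf xf13 yf42 zf37) (kf xf13 yf42 zf60) (kf xf24 yf13 zf8) (kf xf12 yf8 zf24) (kf xf26 yf30 zf48) (kf xf22 yf12 zf61) (kf xf12 yf8 zf28) (kf xf13 yf48 zf9) (kf xf24 yf5 zf7) (kf xf13 yf55 zf21) (kf xf12 yf8 zf31) (kf xf13 yf47 zf20) (kf xf13 yf47 zf17) (kf xf13 yf47 zf18) (kf xf23 yf8 zf39) (kf xf22 yf27 zf45) (kf xf12 yf8 zf34)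 (kf xf13 yf37 zf39) (kf xf13 yf51 zf55) (kf xf23 yf6 zf6) (kf xf26 yf30 zf51) (kf xf12 yf8 zf39)) (@D3.rec (fun _ => Pt) (kf xf26 yf30 zf49) (kf xf16 yf24 zf27) (kf xf24 yf18 zf9) (kf xf28 yf8 zf60) (kf xf16 yf19 zf45) (kf xf20 yf21 zf33) (kf xf12 yf8 zf46) (kf xf20 yf21 zf36) (kf xf12 yf8 zf49) (kf xf18 yf59 zf7) (kf xf17 yf1 zf38) (kf xf12 yf23 zf48) (kf xf24 yf28 zf22) (kf xf20 yf8 zf47) (kf xf20 yf8 zf48) (kf xf20 yf8 zf49) (kf xf26 yf4 zf3) (kf xf26 yf25 zf24) (kf xf13 yf59 zf2) (kf xf17 yf12 zf20) (kf xf12 yf9 zf3) (kf xf17 yf2 zf46) (kf xf12 yf9 zf5) (kf xf29 yf14 zf43) (kf xf12 yf9 zf9) (kf xf21 yf53 zf53) (kf xf22 yf32 zf15) (kf xf21 yf38 zf11) (kf xf26 yf32 zf16) (kf xf27 yf5 zf38) (kf xf28 yf20 zf54) (kf xf12 yf9 zf12) (kf xf28 yf21 zf57) (kf xf19 yf42 zf59)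 (kf xf12 yf9 zf16) (kf xf29 yf55 zf37) (kf xf27 yf5 zf32) (kf xf27 yf42 zf59) (kf xf27 yf5 zf4) (kf xf25 yf2 zf43) (kf xf27 yf5 zf33) (kf xf22 yf53 zf15) (kf xf12 yf9 zf37) (kf xf28 yf26 zf4) (kf xf20 yf26 zf11) (kf xf27 yf41 zf7) (kf xf18 yf21 zf22) (kf xf29 yf3 zf2) (kf xf17 yf1 zf17) (kf xf28 yf15 zf52) (kf xf12 yf10 zf0) (kf xf17 yf1 zf52) (kf xf17 yf1 zf53) (kf xf18 yf55 zf48) (kf xf14 yf10 zf19) (kf xf13 yf41 zf28) (kf xf12 yf10 zf9) (kf xf24 yf8 zf23) (kf xf24 yf6 zf39) (kf xf12 yf10 zf11) (kf xf29 yf55 zf52) (kf xf12 yf10 zf15)) (@D3.rec (fun _ => Pt) (kf xf26 yf45 zf34) (kf xf28 yf13 zf38) (kf xf29 yf42 zf36) (kf xf27 yf21 zf7) (kf xf26 yf51 zf39) (kf xf19 yf59 zf49) (kf xf12 yf10 zf23) (kf xf26 yf49 zf32) (kf xf25 yf18 zf34) (kf xf24 yf6 zf14) (kf xf20 yf25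 zf22) (kf xf29 yf42 zf21) (kf xf19 yf7 zf41) (kf xf20 yf25 zf36) (kf xf29 yf55 zf57) (kf xf20 yf25 zf8) (kf xf12 yf10 zf56) (kf xf29 yf55 zf58) (kf xf20 yf19 zf55) (kf xf12 yf11 zf1) (kf xf17 yf10 zf12) (kf xf17 yf27 zf53) (kf xf17 yf27 zf54) (kf xf17 yf27 zf55) (kf xf17 yf27 zf56) (kf xf15 yf57 zf40) (kf xf13 yf9 zf57) (kf xf24 yf15 zf57) (kf xf12 yf11 zf11) (kf xf12 yf11 zf24) (kf xf12 yf11 zf25) (kf xf12 yf11 zf23) (kf xf12 yf11 zf14) (kf xf12 yf11 zf35) (kf xf17 yf18 zf1) (kf xf17 yf18 zf2) (kf xf17 yf18 zf3) (kf xf16 yf56 zf11) (kf xf27 yf2 zf38) (kf xf25 yf51 zf47) (kf xf18 yf46 zf54) (kf xf25 yf52 zf18) (kf xf28 yf58 zf30) (kf xf12 yf11 zf21) (kf xf27 yf19 zf3) (kf xf28 yf15 zf58) (kf xf12 yf13 zf1) (kf xf21 yf7 zf60) (kf xf26 yf38 zf35) (kf xf27 yf16 zf7) (kf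 xf27 yf8 zf11) (kf xf22 yf30 zf17) (kf xf27 yf19 zf19) (kf xf29 yf56 zf10) (kf xf12 yf28 zf0) (kf xf26 yf33 zf44) (kf xf19 yf38 zf47) (kf xf27 yf48 zf18) (kf xf15 yf19 zf23) (kf xf21 yf9 zf57) (kf xf21 yf9 zf58) (kf xf15 yf46 zf38)) (@D3.rec (fun _ => Pt) (kf xf15 yf46 zf45) (kf xf21 yf39 zf30) (kf xf21 yf39 zf32) (kf xf15 yf33 zf50) (kf xf27 yf19 zf42) (kf xf21 yf45 zf37) (kf xf27 yf19 zf34) (kf xf21 yf58 zf3) (kf xf27 yf19 zf43) (kf xf27 yf19 zf21) (kf xf29 yf56 zf30) (kf xf17 yf27 zf42) (kf xf17 yf27 zf43) (kf xf17 yf27 zf44) (kf xf17 yf27 zf45) (kf xf25 yf29 zf18) (kf xf20 yf59 zf14) (kf xf17 yf10 zf15) (kf xf17 yf10 zf16) (kf xf17 yf10 zf17) (kf xf17 yf10 zf18) (kf xf16 yf0 zf35) (kf xf17 yf27 zf58) (kf xf17 yf27 zf59) (kf xf17 yf27 zf60) (kf xf17 yf27 zf61) (kf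 xf25 yf53 zf49) (kf xf17 yf28 zf2) (kf xf17 yf28 zf4) (kf xf17 yf28 zf5) (kf xf21 yf40 zf1) (kf xf17 yf28 zf10) (kf xf17 yf28 zf11) (kf xf21 yf40 zf2) (kf xf17 yf28 zf12) (kf xf17 yf28 zf13) (kf xf17 yf28 zf14) (kf xf17 yf28 zf15) (kf xf29 yf56 zf61) (kf xf17 yf28 zf17) (kf xf25 yf24 zf18) (kf xf17 yf28 zf19) (kf xf27 yf18 zf44) (kf xf27 yf18 zf43) (kf xf12 yf11 zf57) (kf xf12 yf37 zf12) (kf xf15 yf48 zf56) (kf xf21 yf10 zf1) (kf xf12 yf42 zf39) (kf xf12 yf42 zf38) (kf xf21 yf4 zf46) (kf xf12 yf12 zf8) (kf xf27 yf29 zf38) (kf xf29 yf57 zf11) (kf xf12 yf12 zf7) (kf xf29 yf57 zf8) (kf xf12 yf20 zf26) (kf xf17 yf35 zf25) (kf xf17 yf35 zf26) (kf xf17 yf35 zf27) (kf xf29 yf21 zf57) (kf xf17 yf35 zf32)) (@D3.rec (fun _ => Pt) (kf xf27 yf4 zf12) (kf xf15 yf57 zf51) (kf xf17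 yf35 zf34) (kf xf27 yf4 zf13) (kf xf20 yf54 zf30) (kf xf21 yf53 zf22) (kf xf21 yf49 zf37) (kf xf21 yf53 zf42) (kf xf12 yf46 zf50) (kf xf12 yf46 zf52) (kf xf12 yf48 zf4) (kf xf21 yf5 zf16) (kf xf21 yf5 zf17) (kf xf12 yf21 zf20) (kf xf21 yf19 zf2) (kf xf21 yf19 zf3) (kf xf21 yf19 zf4) (kf xf21 yf19 zf5) (kf xf23 yf41 zf6) (kf xf14 yf15 zf54) (kf xf16 yf50 zf46) (kf xf21 yf8 zf32) (kf xf21 yf5 zf60) (kf xf21 yf34 zf21) (kf xf21 yf34 zf22) (kf xf21 yf34 zf23) (kf xf29 yf57 zf48) (kf xf21 yf33 zf22) (kf xf12 yf12 zf38) (kf xf21 yf34 zf12) (kf xf21 yf34 zf13) (kf xf21 yf34 zf14) (kf xf21 yf19 zf27) (kf xf29 yf57 zf57) (kf xf12 yf12 zf45) (kf xf12 yf36 zf20) (kf xf29 yf12 zf60) (kf xf12 yf34 zf45) (kf xf12 yf34 zf44) (kf xf12 yf12 zf50) (kf xf27 yf43 zf31) (kf xf21 yf35 zf38)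 (kf xf21 yf35 zf37) (kf xf12 yf12 zf52) (kf xf12 yf28 zf57) (kf xf12 yf12 zf54) (kf xf20 yf13 zf7) (kf xf20 yf17 zf5) (kf xf29 yf57 zf59) (kf xf21 yf46 zf19) (kf xf12 yf12 zf57) (kf xf25 yf57 zf21) (kf xf19 yf17 zf11) (kf xf17 yf17 zf9) (kf xf18 yf38 zf15) (kf xf21 yf46 zf34) (kf xf19 yf16 zf37) (kf xf21 yf46 zf36) (kf xf21 yf8 zf47) (kf xf21 yf8 zf48) (kf xf21 yf46 zf44) (kf xf21 yf46 zf45)) (@D3.rec (fun _ => Pt) (kf xf21 yf46 zf46) (kf xf21 yf46 zf48) (kf xf21 yf18 zf14) (kf xf21 yf18 zf15) (kf xf21 yf18 zf16) (kf xf21 yf18 zf17) (kf xf19 yf48 zf30) (kf xf23 yf39 zf15) (kf xf21 yf24 zf24) (kf xf21 yf24 zf25) (kf xf21 yf24 zf26) (kf xf14 yf49 zf49) (kf xf29 yf58 zf11) (kf xf21 yf34 zf15) (kf xf21 yf34 zf16) (kf xf21 yf34 zf17) (kf xf21 yf34 zf18) (kf xf29 yf58 zf16)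 (kf xf23 yf39 zf61) (kf xf21 yf34 zf31) (kf xf21 yf34 zf32) (kf xf21 yf34 zf34) (kf xf21 yf34 zf35) (kf xf21 yf59 zf15) (kf xf21 yf34 zf36) (kf xf14 yf6 zf22) (kf xf29 yf58 zf27) (kf xf21 yf18 zf32) (kf xf29 yf58 zf31) (kf xf29 yf57 zf56) (kf xf29 yf57 zf55) (kf xf12 yf13 zf30) (kf xf17 yf5 zf3) (kf xf12 yf13 zf35) (kf xf21 yf46 zf32) (kf xf24 yf43 zf21) (kf xf12 yf13 zf33) (kf xf27 yf4 zf19) (kf xf21 yf50 zf42) (kf xf21 yf40 zf31) (kf xf29 yf22 zf53) (kf xf21 yf42 zf46) (kf xf12 yf13 zf36) (kf xf17 yf45 zf15) (kf xf17 yf55 zf52) (kf xf21 yf34 zf42) (kf xf21 yf34 zf43) (kf xf17 yf14 zf31) (kf xf20 yf14 zf29) (kf xf17 yf55 zf46) (kf xf17 yf55 zf54) (kf xf17 yf55 zf55) (kf xf20 yf14 zf35) (kf xf14 yf4 zf23) (kf xf21 yf33 zf42) (kf xf21 yf33 zf43) (kf xf21 yf33 zf44) (kf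 xf14 yf9 zf25) (kf xf21 yf26 zf2) (kf xf21 yf5 zf6) (kf xf22 yf11 zf48) (kf xf22 yf11 zf49)) (@D3.rec (fun _ => Pt) (kf xf22 yf11 zf50) (kf xf14 yf8 zf60) (kf xf29 yf58 zf51) (kf xf16 yf59 zf44) (kf xf12 yf31 zf29) (kf xf12 yf19 zf60) (kf xf17 yf5 zf22) (kf xf18 yf25 zf31) (kf xf18 yf25 zf28) (kf xf19 yf40 zf40) (kf xf19 yf40 zf48) (kf xf21 yf25 zf36) (kf xf12 yf23 zf25) (kf xf21 yf20 zf38) (kf xf21 yf35 zf14) (kf xf16 yf59 zf42) (kf xf20 yf51 zf26) (kf xf14 yf37 zf59) (kf xf27 yf35 zf50) (kf xf22 yf21 zf49) (kf xf14 yf33 zf9) (kf xf16 yf59 zf36) (kf xf27 yf0 zf59) (kf xf12 yf15 zf9) (kf xf12 yf15 zf32) (kf xf12 yf14 zf58) (kf xf12 yf15 zf28) (kf xf12 yf15 zf37) (kf xf12 yf27 zf50) (kf xf21 yf47 zf5) (kf xf29 yf42 zf34) (kf xf14 yf26 zf47) (kf xf28 yf52 zf35) (kf xf12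 yf14 zf41) (kf xf21 yf51 zf23) (kf xf12 yf42 zf43) (kf xf21 yf52 zf58) (kf xf21 yf7 zf25) (kf xf21 yf20 zf13) (kf xf26 yf57 zf56) (kf xf29 yf42 zf26) (kf xf21 yf35 zf16) (kf xf23 yf50 zf3) (kf xf27 yf5 zf41) (kf xf12 yf36 zf22) (kf xf29 yf43 zf28) (kf xf22 yf8 zf28) (kf xf20 yf53 zf21) (kf xf18 yf12 zf56) (kf xf21 yf35 zf15) (kf xf18 yf24 zf21) (kf xf15 yf5 zf13) (kf xf18 yf24 zf2) (kf xf26 yf57 zf55) (kf xf16 yf42 zf15) (kf xf15 yf48 zf31) (kf xf12 yf53 zf38) (kf xf21 yf35 zf17) (kf xf29 yf25 zf50) (kf xf26 yf33 zf11) (kf xf17 yf28 zf43) (kf xf28 yf50 zf31)) (@D3.rec (fun _ => Pt) (kf xf17 yf29 zf18) (kf xf21 yf42 zf44) (kf xf17 yf33 zf39) (kf xf14 yf23 zf57) (kf xf12 yf43 zf5) (kf xf19 yf40 zf24) (kf xf17 yf29 zf12) (kf xf14 yf44 zf33) (kf xf29 yf59 zf4) (kf xf12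 yf21 zf15) (kf xf12 yf21 zf14) (kf xf19 yf45 zf54) (kf xf17 yf13 zf34) (kf xf12 yf16 zf19) (kf xf12 yf16 zf10) (kf xf22 yf31 zf7) (kf xf13 yf0 zf31) (kf xf13 yf0 zf30) (kf xf12 yf16 zf17) (kf xf28 yf9 zf55) (kf xf29 yf25 zf30) (kf xf29 yf59 zf6) (kf xf21 yf48 zf19) (kf xf21 yf48 zf18) (kf xf29 yf59 zf14) (kf xf12 yf16 zf20) (kf xf21 yf47 zf30) (kf xf20 yf2 zf48) (kf xf20 yf44 zf58) (kf xf21 yf48 zf10) (kf xf20 yf2 zf49) (kf xf26 yf25 zf33) (kf xf21 yf48 zf14) (kf xf21 yf48 zf13) (kf xf20 yf4 zf24) (kf xf21 yf48 zf21) (kf xf12 yf52 zf13) (kf xf12 yf28 zf3) (kf xf12 yf37 zf19) (kf xf12 yf37 zf26) (kf xf25 yf13 zf3) (kf xf14 yf44 zf38) (kf xf14 yf44 zf39) (kf xf24 yf41 zf15) (kf xf21 yf48 zf61) (kf xf12 yf47 zf60) (kf xf23 yf2 zf54) (kf xf27 yf20 zf42) (kf xf21 yf49 zf0)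 (kf xf21 yf48 zf54) (kf xf21 yf48 zf53) (kf xf14 yf3 zf9) (kf xf23 yf23 zf28) (kf xf21 yf49 zf25) (kf xf12 yf16 zf36) (kf xf21 yf48 zf16) (kf xf29 yf59 zf38) (kf xf18 yf16 zf60) (kf xf18 yf16 zf44) (kf xf21 yf35 zf53) (kf xf21 yf8 zf30) (kf xf21 yf8 zf31)) (@D3.rec (fun _ => Pt) (kf xf17 yf19 zf32) (kf xf17 yf40 zf14) (kf xf21 yf45 zf24) (kf xf27 yf43 zf30) (kf xf20 yf26 zf14) (kf xf20 yf26 zf15) (kf xf12 yf36 zf34) (kf xf21 yf36 zf29) (kf xf18 yf1 zf12) (kf xf18 yf50 zf48) (kf xf17 yf31 zf15) (kf xf14 yf34 zf54) (kf xf24 yf10 zf26) (kf xf14 yf36 zf23) (kf xf14 yf34 zf50) (kf xf27 yf4 zf4) (kf xf21 yf8 zf28) (kf xf21 yf8 zf25) (kf xf21 yf8 zf26) (kf xf27 yf4 zf5) (kf xf27 yf4 zf6) (kf xf27 yf4 zf7) (kf xf27 yf4 zf8) (kf xf24 yf10 zf25) (kf xf24 yf20 zf52) (kf xf17 yf5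 zf36) (kf xf25 yf45 zf14) (kf xf25 yf44 zf27) (kf xf25 yf44 zf46) (kf xf21 yf23 zf42) (kf xf12 yf32 zf49) (kf xf21 yf58 zf60) (kf xf21 yf58 zf18) (kf xf14 yf36 zf13) (kf xf16 yf8 zf61) (kf xf21 yf9 zf60) (kf xf12 yf42 zf55) (kf xf12 yf43 zf21) (kf xf17 yf52 zf42) (kf xf27 yf4 zf9) (kf xf17 yf52 zf41) (kf xf20 yf15 zf55) (kf xf27 yf4 zf11) (kf xf21 yf23 zf22) (kf xf20 yf16 zf28) (kf xf13 yf9 zf22) (kf xf19 yf59 zf57) (kf xf12 yf43 zf27) (kf xf12 yf26 zf45) (kf xf12 yf26 zf43) (kf xf22 yf11 zf4) (kf xf21 yf58 zf1) (kf xf27 yf3 zf57) (kf xf23 yf38 zf3) (kf xf12 yf50 zf27) (kf xf21 yf23 zf2) (kf xf21 yf37 zf29) (kf xf20 yf27 zf47) (kf xf26 yf12 zf34) (kf xf27 yf3 zf59) (kf xf27 yf3 zf60) (kf xf22 yf9 zf37)) (@D3.rec (fun _ => Pt) (kf xf12 yf26 zf56) (kf xf17 yf42 zf50)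 (kf xf21 yf22 zf55) (kf xf14 yf33 zf7) (kf xf27 yf4 zf0) (kf xf27 yf4 zf1) (kf xf18 yf1 zf27) (kf xf12 yf19 zf35) (kf xf25 yf45 zf26) (kf xf21 yf23 zf32) (kf xf12 yf43 zf28) (kf xf21 yf59 zf52) (kf xf16 yf13 zf39) (kf xf21 yf59 zf9) (kf xf21 yf34 zf9) (kf xf12 yf19 zf30) (kf xf18 yf1 zf28) (kf xf21 yf45 zf17) (kf xf21 yf34 zf33) (kf xf20 yf16 zf26) (kf xf21 yf59 zf16) (kf xf20 yf16 zf27) (kf xf21 yf22 zf43) (kf xf19 yf41 zf25) (kf xf21 yf59 zf12) (kf xf21 yf33 zf56) (kf xf21 yf59 zf10) (kf xf21 yf59 zf13) (kf xf28 yf44 zf56) (kf xf21 yf59 zf8) (kf xf17 yf43 zf46) (kf xf21 yf59 zf11) (kf xf21 yf23 zf9) (kf xf21 yf59 zf14) (kf xf17 yf35 zf28) (kf xf17 yf35 zf29) (kf xf21 yf40 zf3) (kf xf17 yf48 zf44) (kf xf19 yf35 zf49) (kf xf21 yf59 zf1) (kf xf21 yf59 zf3) (kf xf27 yf4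 zf14) (kf xf21 yf22 zf29) (kf xf20 yf5 zf29) (kf xf21 yf10 zf19) (kf xf21 yf10 zf21) (kf xf19 yf23 zf27) (kf xf21 yf23 zf48) (kf xf21 yf23 zf47) (kf xf24 yf20 zf40) (kf xf27 yf29 zf24) (kf xf17 yf52 zf4) (kf xf27 yf29 zf41) (kf xf15 yf38 zf38) (kf xf22 yf3 zf35) (kf xf27 yf29 zf25) (kf xf21 yf32 zf1) (kf xf27 yf29 zf18) (kf xf24 yf41 zf36) (kf xf27 yf22 zf30) (kf xf27 yf22 zf32) (kf xf27 yf29 zf14)) (@D3.rec (fun _ => Pt) (kf xf24 yf20 zf38) (kf xf25 yf45 zf1) (kf xf21 yf55 zf8) (kf xf27 yf29 zf26) (kf xf27 yf29 zf27) (kf xf25 yf44 zf44) (kf xf27 yf29 zf29) (kf xf20 yf49 zf38) (kf xf27 yf29 zf30) (kf xf28 yf15 zf60) (kf xf25 yf44 zf30) (kf xf25 yf44 zf29) (kf xf12 yf18 zf24) (kf xf20 yf54 zf29) (kf xf20 yf54 zf15) (kf xf17 yf9 zf3) (kf xf17 yf34 zf42) (kf xf17 yf56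 zf51) (kf xf27 yf4 zf25) (kf xf27 yf4 zf26) (kf xf27 yf4 zf27) (kf xf21 yf24 zf40) (kf xf30 yf0 zf24) (kf xf15 yf43 zf2) (kf xf21 yf19 zf8) (kf xf21 yf19 zf9) (kf xf21 yf19 zf10) (kf xf24 yf23 zf50) (kf xf14 yf38 zf50) (kf xf21 yf55 zf30) (kf xf21 yf55 zf31) (kf xf13 yf56 zf44) (kf xf23 yf39 zf16) (kf xf27 yf4 zf30) (kf xf23 yf36 zf26) (kf xf13 yf55 zf60) (kf xf13 yf53 zf24) (kf xf27 yf4 zf31) (kf xf27 yf4 zf33) (kf xf23 yf40 zf29) (kf xf21 yf24 zf21) (kf xf30 yf0 zf45) (kf xf23 yf40 zf3) (kf xf30 yf0 zf23) (kf xf12 yf18 zf47) (kf xf22 yf2 zf48) (kf xf15 yf43 zf0) (kf xf24 yf36 zf13) (kf xf22 yf2 zf49) (kf xf16 yf0 zf13) (kf xf30 yf0 zf49) (kf xf23 yf2 zf33) (kf xf13 yf24 zf43) (kf xf22 yf9 zf36) (kf xf22 yf5 zf5) (kf xf12 yf18 zf53) (kf xf19 yf22 zf57) (kf xf23 yf42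 zf26) (kf xf12 yf27 zf24) (kf xf21 yf33 zf45) (kf xf21 yf33 zf46) (kf xf21 yf33 zf47)) (@D3.rec (fun _ => Pt) (kf xf12 yf26 zf44) (kf xf21 yf26 zf6) (kf xf21 yf25 zf39) (kf xf23 yf1 zf52) (kf xf23 yf1 zf53) (kf xf22 yf8 zf46) (kf xf22 yf11 zf45) (kf xf22 yf11 zf46) (kf xf22 yf11 zf47) (kf xf14 yf9 zf12) (kf xf30 yf0 zf53) (kf xf22 yf27 zf52) (kf xf22 yf27 zf53) (kf xf14 yf10 zf9) (kf xf30 yf0 zf59) (kf xf14 yf9 zf56) (kf xf21 yf36 zf59) (kf xf12 yf27 zf28) (kf xf21 yf26 zf4) (kf xf27 yf26 zf39) (kf xf23 yf1 zf54) (kf xf21 yf26 zf5) (kf xf22 yf2 zf56) (kf xf18 yf37 zf30) (kf xf18 yf30 zf8) (kf xf21 yf33 zf55) (kf xf23 yf1 zf56) (kf xf18 yf29 zf8) (kf xf14 yf9 zf32) (kf xf27 yf4 zf48) (kf xf14 yf9 zf30) (kf xf30 yf1 zf6) (kf xf14 yf8 zf45) (kf xf14 yf8 zf44) (kf xf18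 yf29 zf6) (kf xf12 yf19 zf19) (kf xf21 yf20 zf11) (kf xf27 yf47 zf60) (kf xf28 yf27 zf39) (kf xf21 yf25 zf2) (kf xf28 yf27 zf38) (kf xf22 yf8 zf60) (kf xf21 yf27 zf12) (kf xf15 yf36 zf32) (kf xf21 yf34 zf58) (kf xf22 yf11 zf31) (kf xf27 yf4 zf23) (kf xf20 yf16 zf59) (kf xf27 yf4 zf24) (kf xf16 yf14 zf22) (kf xf12 yf19 zf36) (kf xf12 yf47 zf21) (kf xf12 yf19 zf34) (kf xf12 yf43 zf33) (kf xf23 yf36 zf61) (kf xf12 yf43 zf26) (kf xf12 yf40 zf40) (kf xf12 yf47 zf20) (kf xf21 yf28 zf33) (kf xf12 yf42 zf28) (kf xf12 yf20 zf1) (kf xf21 yf33 zf50)) (@D3.rec (fun _ => Pt) (kf xf21 yf33 zf51) (kf xf18 yf30 zf9) (kf xf21 yf19 zf58) (kf xf27 yf31 zf3) (kf xf21 yf25 zf18) (kf xf21 yf25 zf21) (kf xf21 yf25 zf1) (kf xf22 yf8 zf31) (kf xf25 yf43 zf11) (kf xf12 yf19 zf54) (kf xf21 yf32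 zf13) (kf xf18 yf7 zf33) (kf xf27 yf17 zf17) (kf xf21 yf55 zf22) (kf xf18 yf16 zf11) (kf xf30 yf1 zf13) (kf xf17 yf44 zf3) (kf xf21 yf34 zf6) (kf xf12 yf20 zf6) (kf xf12 yf20 zf5) (kf xf18 yf37 zf37) (kf xf12 yf20 zf4) (kf xf30 yf1 zf20) (kf xf21 yf32 zf16) (kf xf26 yf3 zf58) (kf xf26 yf16 zf45) (kf xf18 yf26 zf20) (kf xf18 yf37 zf13) (kf xf17 yf45 zf0) (kf xf12 yf27 zf19) (kf xf16 yf16 zf32) (kf xf12 yf39 zf56) (kf xf16 yf14 zf0) (kf xf24 yf19 zf46) (kf xf16 yf13 zf49) (kf xf17 yf14 zf32) (kf xf17 yf14 zf33) (kf xf17 yf14 zf34) (kf xf27 yf23 zf7) (kf xf13 yf25 zf5) (kf xf27 yf10 zf20) (kf xf20 yf46 zf31) (kf xf16 yf14 zf17) (kf xf12 yf50 zf55) (kf xf12 yf27 zf20) (kf xf12 yf24 zf40) (kf xf12 yf27 zf23) (kf xf12 yf27 zf25) (kf xf12 yf27 zf26) (kf xf12 yf27 zf29) (kf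 xf12 yf27 zf30) (kf xf18 yf24 zf18) (kf xf12 yf27 zf32) (kf xf12 yf24 zf44) (kf xf22 yf3 zf45) (kf xf25 yf44 zf28) (kf xf20 yf14 zf19) (kf xf23 yf13 zf4) (kf xf20 yf14 zf23) (kf xf12 yf21 zf40) (kf xf23 yf2 zf47) (kf xf12 yf21 zf13)) (@D3.rec (fun _ => Pt) (kf xf22 yf5 zf7) (kf xf27 yf4 zf51) (kf xf27 yf4 zf52) (kf xf27 yf4 zf53) (kf xf21 yf27 zf20) (kf xf25 yf30 zf17) (kf xf25 yf30 zf10) (kf xf25 yf7 zf35) (kf xf27 yf4 zf55) (kf xf26 yf3 zf47) (kf xf25 yf30 zf27) (kf xf25 yf30 zf26) (kf xf21 yf25 zf42) (kf xf25 yf57 zf41) (kf xf21 yf5 zf8) (kf xf27 yf4 zf57) (kf xf30 yf1 zf33) (kf xf15 yf56 zf53) (kf xf21 yf5 zf7) (kf xf21 yf5 zf9) (kf xf21 yf27 zf4) (kf xf29 yf4 zf48) (kf xf25 yf5 zf0) (kf xf30 yf1 zf30) (kf xf12 yf21 zf6) (kf xf22 yf8 zf61) (kf xf22 yf10 zf26) (kf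 xf22 yf10 zf27) (kf xf22 yf10 zf28) (kf xf27 yf5 zf52) (kf xf25 yf55 zf10) (kf xf22 yf10 zf38) (kf xf22 yf10 zf39) (kf xf30 yf1 zf26) (kf xf18 yf12 zf33) (kf xf20 yf13 zf4) (kf xf29 yf59 zf5) (kf xf27 yf23 zf3) (kf xf18 yf57 zf13) (kf xf18 yf57 zf24) (kf xf25 yf45 zf54) (kf xf18 yf36 zf26) (kf xf12 yf46 zf25) (kf xf21 yf6 zf3) (kf xf21 yf6 zf4) (kf xf21 yf6 zf5) (kf xf29 yf57 zf32) (kf xf29 yf57 zf34) (kf xf12 yf21 zf35) (kf xf14 yf44 zf35) (kf xf14 yf44 zf36) (kf xf14 yf44 zf37) (kf xf23 yf42 zf18) (kf xf24 yf22 zf42) (kf xf21 yf5 zf42) (kf xf23 yf2 zf28) (kf xf22 yf43 zf59) (kf xf21 yf56 zf28) (kf xf27 yf22 zf4) (kf xf23 yf2 zf31) (kf xf30 yf2 zf1) (kf xf27 yf22 zf8)) (@D3.rec (fun _ => Pt) (kf xf27 yf22 zf9) (kf xf27 yf22 zf10) (kf xf13 yf50 zf56) (kf xf30 yf2 zf8)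 (kf xf12 yf21 zf30) (kf xf27 yf4 zf42) (kf xf27 yf4 zf43) (kf xf26 yf14 zf38) (kf xf27 yf4 zf44) (kf xf21 yf55 zf19) (kf xf30 yf1 zf53) (kf xf30 yf2 zf20) (kf xf12 yf21 zf33) (kf xf24 yf41 zf6) (kf xf30 yf1 zf55) (kf xf12 yf47 zf56) (kf xf29 yf52 zf3) (kf xf30 yf1 zf25) (kf xf23 yf2 zf41) (kf xf23 yf2 zf42) (kf xf29 yf7 zf18) (kf xf22 yf8 zf56) (kf xf25 yf44 zf59) (kf xf21 yf6 zf29) (kf xf23 yf2 zf46) (kf xf26 yf0 zf34) (kf xf25 yf17 zf54) (kf xf27 yf22 zf5) (kf xf27 yf22 zf6) (kf xf27 yf5 zf57) (kf xf22 yf37 zf12) (kf xf27 yf22 zf7) (kf xf19 yf2 zf9) (kf xf21 yf25 zf58) (kf xf14 yf59 zf43) (kf xf12 yf46 zf34) (kf xf13 yf42 zf47) (kf xf17 yf9 zf20) (kf xf13 yf51 zf35) (kf xf14 yf59 zf51) (kf xf17 yf9 zf18) (kf xf21 yf53 zf44) (kf xf20 yf36 zf1) (kf xf20 yf36 zf7) (kf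 xf22 yf56 zf48) (kf xf20 yf36 zf9) (kf xf27 yf58 zf45) (kf xf26 yf26 zf32) (kf xf23 yf42 zf28) (kf xf21 yf53 zf52) (kf xf30 yf2 zf36) (kf xf12 yf22 zf13) (kf xf12 yf22 zf12) (kf xf23 yf7 zf21) (kf xf12 yf22 zf7) (kf xf29 yf19 zf11) (kf xf30 yf2 zf37) (kf xf15 yf59 zf3) (kf xf12 yf37 zf58) (kf xf23 yf7 zf20) (kf xf20 yf38 zf28) (kf xf16 yf31 zf30)) (@D3.rec (fun _ => Pt) (kf xf26 yf22 zf32) (kf xf17 yf55 zf8) (kf xf15 yf6 zf24) (kf xf16 yf25 zf35) (kf xf24 yf52 zf46) (kf xf25 yf17 zf52) (kf xf17 yf2 zf43) (kf xf17 yf2 zf42) (kf xf30 yf2 zf40) (kf xf12 yf22 zf25) (kf xf16 yf10 zf37) (kf xf21 yf53 zf43) (kf xf23 yf31 zf7) (kf xf24 yf24 zf0) (kf xf26 yf22 zf39) (kf xf26 yf22 zf38) (kf xf26 yf22 zf41) (kf xf23 yf29 zf58) (kf xf25 yf12 zf7) (kf xf26 yf6 zf30) (kf xf12 yf22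 zf33) (kf xf23 yf38 zf24) (kf xf28 yf12 zf29) (kf xf15 yf6 zf18) (kf xf26 yf8 zf60) (kf xf27 yf57 zf28) (kf xf12 yf22 zf38) (kf xf23 yf3 zf24) (kf xf23 yf29 zf59) (kf xf16 yf25 zf47) (kf xf25 yf3 zf59) (kf xf12 yf22 zf42) (kf xf20 yf24 zf54) (kf xf23 yf38 zf25) (kf xf17 yf55 zf19) (kf xf24 yf36 zf44) (kf xf26 yf22 zf45) (kf xf26 yf22 zf46) (kf xf24 yf36 zf45) (kf xf14 yf6 zf51) (kf xf26 yf22 zf44) (kf xf28 yf42 zf52) (kf xf26 yf22 zf49) (kf xf26 yf22 zf48) (kf xf18 yf40 zf59) (kf xf30 yf3 zf3) (kf xf12 yf22 zf52) (kf xf14 yf8 zf26) (kf xf22 yf30 zf46) (kf xf26 yf21 zf46) (kf xf23 yf3 zf23) (kf xf15 yf6 zf13) (kf xf15 yf6 zf12) (kf xf30 yf3 zf6) (kf xf12 yf22 zf57) (kf xf14 yf40 zf9) (kf xf15 yf6 zf20) (kf xf15 yf6 zf17) (kf xf30 yf3 zf11) (kf xf12 yf22 zf60) (kf xf22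 yf28 zf37) (kf xf30 yf3 zf13)) (@D3.rec (fun _ => Pt) (kf xf30 yf3 zf15) (kf xf12 yf23 zf5) (kf xf22 yf42 zf42) (kf xf23 yf14 zf11) (kf xf22 yf37 zf56) (kf xf18 yf18 zf36) (kf xf22 yf53 zf49) (kf xf16 yf29 zf49) (kf xf30 yf3 zf17) (kf xf12 yf23 zf9) (kf xf16 yf59 zf60) (kf xf16 yf59 zf59) (kf xf20 yf13 zf57) (kf xf27 yf3 zf31) (kf xf27 yf3 zf30) (kf xf27 yf0 zf56) (kf xf18 yf25 zf43) (kf xf20 yf37 zf42) (kf xf20 yf37 zf41) (kf xf20 yf38 zf16) (kf xf24 yf19 zf13) (kf xf17 yf50 zf33) (kf xf17 yf5 zf37) (kf xf27 yf43 zf39) (kf xf20 yf37 zf28) (kf xf20 yf38 zf29) (kf xf18 yf25 zf19) (kf xf20 yf37 zf29) (kf xf18 yf25 zf34) (kf xf27 yf4 zf59) (kf xf12 yf23 zf29) (kf xf20 yf37 zf33) (kf xf20 yf9 zf25) (kf xf20 yf9 zf23) (kf xf20 yf9 zf22) (kf xf12 yf44 zf33) (kf xf25 yf48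 zf58) (kf xf12 yf23 zf33) (kf xf28 yf15 zf54) (kf xf19 yf51 zf12) (kf xf19 yf7 zf0) (kf xf27 yf1 zf25) (kf xf14 yf45 zf36) (kf xf12 yf23 zf47) (kf xf17 yf1 zf2) (kf xf20 yf26 zf21) (kf xf30 yf3 zf23) (kf xf13 yf58 zf60) (kf xf17 yf53 zf2) (kf xf12 yf23 zf50) (kf xf20 yf26 zf25) (kf xf27 yf5 zf19) (kf xf21 yf31 zf21) (kf xf16 yf7 zf48) (kf xf20 yf23 zf34) (kf xf25 yf39 zf57) (kf xf13 yf2 zf2) (kf xf14 yf34 zf59) (kf xf17 yf30 zf26) (kf xf17 yf30 zf27) (kf xf21 yf36 zf46) (kf xf21 yf36 zf47)) (@D3.rec (fun _ => Pt) (kf xf21 yf38 zf51) (kf xf12 yf35 zf17) (kf xf18 yf57 zf22) (kf xf25 yf31 zf32) (kf xf12 yf52 zf14) (kf xf26 yf58 zf20) (kf xf26 yf58 zf22) (kf xf17 yf30 zf54) (kf xf14 yf2 zf48) (kf xf14 yf2 zf49) (kf xf14 yf2 zf50) (kf xf17 yf42 zf40) (kf xf18 yf20 zf50)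 (kf xf23 yf23 zf51) (kf xf27 yf3 zf61) (kf xf16 yf13 zf45) (kf xf15 yf24 zf4) (kf xf16 yf14 zf30) (kf xf21 yf6 zf6) (kf xf21 yf6 zf7) (kf xf21 yf6 zf8) (kf xf21 yf30 zf52) (kf xf19 yf5 zf52) (kf xf22 yf8 zf47) (kf xf22 yf8 zf48) (kf xf18 yf37 zf33) (kf xf27 yf3 zf44) (kf xf27 yf3 zf45) (kf xf16 yf15 zf26) (kf xf23 yf2 zf50) (kf xf23 yf2 zf51) (kf xf23 yf2 zf30) (kf xf23 yf2 zf34) (kf xf23 yf2 zf35) (kf xf29 yf22 zf34) (kf xf27 yf17 zf52) (kf xf18 yf32 zf37) (kf xf12 yf27 zf22) (kf xf21 yf35 zf21) (kf xf30 yf1 zf23) (kf xf30 yf1 zf24) (kf xf18 yf32 zf39) (kf xf15 yf5 zf17) (kf xf18 yf43 zf11) (kf xf19 yf27 zf43) (kf xf20 yf25 zf11) (kf xf20 yf49 zf53) (kf xf20 yf49 zf54) (kf xf27 yf5 zf44) (kf xf23 yf22 zf16) (kf xf23 yf22 zf10) (kf xf23 yf22 zf11) (kf xf23 yf22 zf8)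 (kf xf18 yf7 zf40) (kf xf27 yf5 zf45) (kf xf27 yf5 zf46) (kf xf27 yf5 zf47) (kf xf15 yf5 zf10) (kf xf19 yf39 zf59) (kf xf20 yf24 zf2) (kf xf19 yf52 zf22) (kf xf20 yf24 zf9)) (@D3.rec (fun _ => Pt) (kf xf17 yf42 zf5) (kf xf21 yf23 zf56) (kf xf20 yf6 zf52) (kf xf17 yf14 zf4) (kf xf17 yf13 zf38) (kf xf17 yf3 zf59) (kf xf20 yf6 zf54) (kf xf17 yf3 zf10) (kf xf22 yf2 zf29) (kf xf22 yf2 zf30) (kf xf17 yf27 zf26) (kf xf12 yf50 zf58) (kf xf22 yf2 zf27) (kf xf21 yf26 zf10) (kf xf12 yf53 zf56) (kf xf27 yf5 zf50) (kf xf21 yf26 zf23) (kf xf25 yf44 zf26) (kf xf27 yf5 zf51) (kf xf20 yf9 zf54) (kf xf12 yf46 zf54) (kf xf22 yf6 zf17) (kf xf12 yf48 zf5) (kf xf14 yf11 zf18) (kf xf24 yf19 zf56) (kf xf14 yf11 zf21) (kf xf14 yf0 zf60) (kf xf20 yf24 zf60) (kf xf20 yf24 zf61) (kf xf20 yf25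 zf0) (kf xf14 yf38 zf19) (kf xf21 yf45 zf30) (kf xf29 yf23 zf24) (kf xf26 yf28 zf10) (kf xf12 yf47 zf61) (kf xf26 yf2 zf56) (kf xf14 yf0 zf56) (kf xf17 yf59 zf49) (kf xf20 yf24 zf15) (kf xf19 yf53 zf9) (kf xf19 yf49 zf17) (kf xf16 yf57 zf6) (kf xf20 yf25 zf4) (kf xf20 yf19 zf58) (kf xf18 yf1 zf38) (kf xf20 yf15 zf38) (kf xf16 yf57 zf9) (kf xf22 yf8 zf9) (kf xf14 yf56 zf43) (kf xf22 yf2 zf55) (kf xf22 yf2 zf52) (kf xf22 yf2 zf57) (kf xf25 yf45 zf58) (kf xf21 yf4 zf26) (kf xf16 yf48 zf51) (kf xf20 yf16 zf61) (kf xf13 yf52 zf47) (kf xf22 yf2 zf51) (kf xf20 yf14 zf16) (kf xf20 yf21 zf51) (kf xf23 yf2 zf40) (kf xf23 yf2 zf43)) (@D3.rec (fun _ => Pt) (kf xf20 yf36 zf30) (kf xf27 yf5 zf53) (kf xf23 yf2 zf27) (kf xf24 yf42 zf11) (kf xf22 yf10 zf36) (kf xf22 yf10 zf40) (kf xf20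 yf51 zf12) (kf xf12 yf39 zf28) (kf xf20 yf50 zf24) (kf xf12 yf39 zf20) (kf xf12 yf26 zf21) (kf xf12 yf26 zf18) (kf xf23 yf36 zf21) (kf xf12 yf39 zf59) (kf xf12 yf52 zf28) (kf xf12 yf47 zf13) (kf xf12 yf40 zf0) (kf xf12 yf26 zf13) (kf xf25 yf56 zf19) (kf xf25 yf45 zf36) (kf xf26 yf58 zf23) (kf xf12 yf26 zf15) (kf xf21 yf18 zf27) (kf xf12 yf39 zf60) (kf xf26 yf13 zf2) (kf xf24 yf44 zf41) (kf xf29 yf19 zf42) (kf xf17 yf57 zf59) (kf xf15 yf49 zf50) (kf xf17 yf57 zf57) (kf xf12 yf26 zf20) (kf xf12 yf26 zf22) (kf xf29 yf22 zf41) (kf xf20 yf40 zf6) (kf xf16 yf5 zf26) (kf xf16 yf5 zf25) (kf xf12 yf26 zf24) (kf xf16 yf36 zf8) (kf xf16 yf17 zf34) (kf xf16 yf17 zf43) (kf xf12 yf50 zf18) (kf xf12 yf50 zf19) (kf xf21 yf19 zf54) (kf xf21 yf19 zf55) (kf xf21 yf19 zf56) (kf xf21 yf24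 zf59) (kf xf21 yf24 zf60) (kf xf21 yf24 zf61) (kf xf16 yf18 zf9) (kf xf16 yf17 zf0) (kf xf21 yf25 zf61) (kf xf21 yf26 zf0) (kf xf16 yf18 zf5) (kf xf27 yf25 zf6) (kf xf14 yf57 zf56) (kf xf21 yf25 zf25) (kf xf21 yf23 zf25) (kf xf22 yf11 zf17) (kf xf22 yf11 zf16) (kf xf22 yf28 zf30) (kf xf22 yf28 zf29) (kf xf21 yf58 zf19)) (@D3.rec (fun _ => Pt) (kf xf21 yf58 zf17) (kf xf17 yf40 zf37) (kf xf17 yf40 zf42) (kf xf21 yf58 zf24) (kf xf21 yf4 zf47) (kf xf16 yf16 zf50) (kf xf21 yf26 zf17) (kf xf14 yf57 zf24) (kf xf16 yf16 zf52) (kf xf21 yf23 zf14) (kf xf12 yf26 zf55) (kf xf28 yf19 zf9) (kf xf21 yf18 zf29) (kf xf21 yf18 zf30) (kf xf21 yf18 zf31) (kf xf21 yf19 zf13) (kf xf21 yf19 zf14) (kf xf21 yf19 zf15) (kf xf21 yf19 zf16) (kf xf30 yf4 zf34) (kf xf15 yf46 zf11) (kf xf21 yf18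 zf23) (kf xf21 yf18 zf24) (kf xf21 yf18 zf25) (kf xf30 yf2 zf61) (kf xf24 yf10 zf3) (kf xf30 yf4 zf37) (kf xf16 yf5 zf23) (kf xf14 yf54 zf40) (kf xf21 yf6 zf1) (kf xf23 yf27 zf55) (kf xf21 yf19 zf19) (kf xf21 yf19 zf20) (kf xf21 yf23 zf18) (kf xf21 yf19 zf21) (kf xf21 yf19 zf22) (kf xf21 yf19 zf24) (kf xf13 yf24 zf61) (kf xf22 yf44 zf52) (kf xf29 yf58 zf30) (kf xf29 yf58 zf29) (kf xf12 yf27 zf15) (kf xf21 yf19 zf45) (kf xf21 yf19 zf46) (kf xf21 yf4 zf41) (kf xf12 yf39 zf44) (kf xf21 yf5 zf28) (kf xf21 yf5 zf29) (kf xf21 yf50 zf0) (kf xf12 yf36 zf38) (kf xf19 yf23 zf4) (kf xf18 yf16 zf47) (kf xf21 yf51 zf61) (kf xf25 yf45 zf37) (kf xf22 yf9 zf0) (kf xf27 yf4 zf45) (kf xf27 yf4 zf46) (kf xf29 yf32 zf52) (kf xf21 yf25 zf44) (kf xf28 yf10 zf0) (kf xf17 yf30 zf56) (kf xf25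 yf18 zf53)) (@D3.rec (fun _ => Pt) (kf xf18 yf0 zf51) (kf xf12 yf27 zf42) (kf xf18 yf0 zf50) (kf xf12 yf28 zf28) (kf xf21 yf7 zf52) (kf xf27 yf55 zf40) (kf xf14 yf18 zf14) (kf xf12 yf28 zf4) (kf xf12 yf28 zf2) (kf xf20 yf53 zf18) (kf xf12 yf42 zf44) (kf xf14 yf36 zf12) (kf xf12 yf43 zf2) (kf xf18 yf37 zf61) (kf xf21 yf20 zf14) (kf xf21 yf20 zf49) (kf xf21 yf20 zf41) (kf xf21 yf20 zf57) (kf xf27 yf56 zf36) (kf xf28 yf1 zf18) (kf xf12 yf32 zf16) (kf xf21 yf31 zf38) (kf xf27 yf56 zf34) (kf xf22 yf3 zf13) (kf xf12 yf28 zf31) (kf xf12 yf28 zf34) (kf xf17 yf17 zf30) (kf xf30 yf5 zf8) (kf xf12 yf28 zf36) (kf xf21 yf7 zf49) (kf xf21 yf7 zf50) (kf xf12 yf28 zf43) (kf xf12 yf47 zf22) (kf xf12 yf45 zf6) (kf xf12 yf38 zf49) (kf xf12 yf38 zf48) (kf xf12 yf28 zf54) (kf xf21 yf18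 zf42) (kf xf21 yf18 zf41) (kf xf12 yf59 zf46) (kf xf17 yf30 zf13) (kf xf20 yf15 zf58) (kf xf20 yf52 zf17) (kf xf29 yf6 zf35) (kf xf12 yf28 zf58) (kf xf21 yf8 zf21) (kf xf18 yf50 zf31) (kf xf21 yf8 zf27) (kf xf20 yf44 zf57) (kf xf18 yf50 zf29) (kf xf18 yf50 zf35) (kf xf27 yf43 zf11) (kf xf18 yf17 zf31) (kf xf21 yf21 zf59) (kf xf18 yf25 zf48) (kf xf21 yf37 zf43) (kf xf12 yf49 zf53) (kf xf12 yf49 zf54) (kf xf19 yf49 zf29) (kf xf19 yf22 zf16) (kf xf19 yf34 zf11) (kf xf19 yf49 zf28)) (@D3.rec (fun _ => Pt) (kf xf19 yf40 zf11) (kf xf22 yf6 zf22) (kf xf20 yf40 zf8) (kf xf20 yf44 zf6) (kf xf29 yf9 zf15) (kf xf12 yf29 zf20) (kf xf26 yf14 zf37) (kf xf23 yf38 zf6) (kf xf29 yf17 zf25) (kf xf15 yf48 zf26) (kf xf27 yf42 zf61) (kf xf20 yf15 zf7) (kf xf20 yf28 zf33) (kf xf26 yf5 zf55)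 (kf xf20 yf34 zf14) (kf xf20 yf27 zf44) (kf xf12 yf47 zf34) (kf xf12 yf47 zf40) (kf xf26 yf4 zf9) (kf xf18 yf50 zf22) (kf xf21 yf38 zf49) (kf xf21 yf42 zf2) (kf xf25 yf10 zf1) (kf xf21 yf42 zf8) (kf xf21 yf42 zf7) (kf xf30 yf5 zf19) (kf xf12 yf29 zf36) (kf xf21 yf6 zf57) (kf xf12 yf29 zf38) (kf xf21 yf22 zf7) (kf xf16 yf29 zf58) (kf xf17 yf58 zf13) (kf xf20 yf27 zf2) (kf xf12 yf44 zf41) (kf xf20 yf14 zf1) (kf xf12 yf32 zf8) (kf xf19 yf39 zf41) (kf xf12 yf32 zf9) (kf xf13 yf2 zf4) (kf xf16 yf46 zf33) (kf xf12 yf30 zf9) (kf xf16 yf47 zf7) (kf xf19 yf25 zf50) (kf xf16 yf46 zf36) (kf xf16 yf46 zf37) (kf xf16 yf46 zf38) (kf xf21 yf30 zf60) (kf xf21 yf30 zf61) (kf xf20 yf27 zf29) (kf xf20 yf15 zf21) (kf xf12 yf30 zf26) (kf xf20 yf26 zf32) (kf xf19 yf32 zf37) (kf xf20 yf42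 zf0) (kf xf19 yf52 zf41) (kf xf20 yf26 zf37) (kf xf29 yf23 zf47) (kf xf23 yf37 zf53) (kf xf13 yf1 zf36) (kf xf21 yf25 zf16) (kf xf16 yf18 zf53) (kf xf16 yf16 zf24)) (@D3.rec (fun _ => Pt) (kf xf27 yf26 zf38) (kf xf12 yf30 zf37) (kf xf23 yf36 zf34) (kf xf18 yf8 zf5) (kf xf23 yf36 zf35) (kf xf23 yf22 zf31) (kf xf23 yf22 zf32) (kf xf23 yf22 zf33) (kf xf22 yf18 zf50) (kf xf27 yf25 zf59) (kf xf23 yf22 zf29) (kf xf23 yf22 zf30) (kf xf22 yf18 zf43) (kf xf24 yf55 zf48) (kf xf23 yf22 zf21) (kf xf25 yf1 zf33) (kf xf17 yf13 zf4) (kf xf20 yf9 zf41) (kf xf20 yf14 zf58) (kf xf21 yf3 zf11) (kf xf23 yf48 zf0) (kf xf14 yf29 zf53) (kf xf15 yf27 zf8) (kf xf14 yf29 zf52) (kf xf12 yf32 zf7) (kf xf12 yf32 zf27) (kf xf16 yf47 zf26) (kf xf28 yf55 zf1) (kf xf15 yf26 zf17) (kf xf21 yf22 zf56)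 (kf xf24 yf54 zf50) (kf xf26 yf5 zf11) (kf xf18 yf8 zf14) (kf xf12 yf31 zf23) (kf xf22 yf21 zf26) (kf xf21 yf42 zf17) (kf xf20 yf6 zf13) (kf xf20 yf6 zf37) (kf xf17 yf54 zf54) (kf xf23 yf58 zf0) (kf xf20 yf26 zf28) (kf xf28 yf1 zf35) (kf xf21 yf3 zf10) (kf xf21 yf35 zf55) (kf xf15 yf5 zf27) (kf xf16 yf55 zf10) (kf xf16 yf54 zf29) (kf xf17 yf55 zf34) (kf xf23 yf42 zf32) (kf xf16 yf46 zf14) (kf xf23 yf34 zf33) (kf xf18 yf50 zf16) (kf xf12 yf47 zf9) (kf xf17 yf56 zf16) (kf xf23 yf35 zf14) (kf xf23 yf35 zf15) (kf xf17 yf56 zf17) (kf xf28 yf1 zf37) (kf xf23 yf35 zf13) (kf xf23 yf35 zf20) (kf xf16 yf49 zf49) (kf xf23 yf43 zf30)) (@D3.rec (fun _ => Pt) (kf xf23 yf38 zf7) (kf xf28 yf0 zf59) (kf xf19 yf46 zf51) (kf xf17 yf30 zf6) (kf xf19 yf46 zf56) (kf xf19 yf46 zf58) (kf xf17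 yf30 zf7) (kf xf16 yf31 zf40) (kf xf26 yf28 zf15) (kf xf29 yf23 zf60) (kf xf29 yf18 zf42) (kf xf21 yf15 zf27) (kf xf24 yf56 zf15) (kf xf19 yf49 zf59) (kf xf20 yf33 zf34) (kf xf20 yf13 zf38) (kf xf19 yf50 zf34) (kf xf18 yf25 zf21) (kf xf21 yf51 zf27) (kf xf16 yf54 zf18) (kf xf19 yf47 zf1) (kf xf17 yf30 zf11) (kf xf19 yf49 zf24) (kf xf22 yf8 zf6) (kf xf22 yf8 zf7) (kf xf17 yf18 zf14) (kf xf17 yf18 zf15) (kf xf17 yf18 zf16) (kf xf17 yf18 zf17) (kf xf27 yf7 zf12) (kf xf27 yf7 zf13) (kf xf30 yf5 zf40) (kf xf17 yf25 zf47) (kf xf17 yf25 zf54) (kf xf30 yf5 zf45) (kf xf22 yf6 zf39) (kf xf27 yf7 zf14) (kf xf17 yf17 zf38) (kf xf30 yf5 zf53) (kf xf18 yf46 zf57) (kf xf18 yf46 zf58) (kf xf12 yf32 zf36) (kf xf17 yf3 zf23) (kf xf17 yf3 zf21) (kf xf17 yf17 zf37) (kf xf28 yf52 zf6) (kf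 xf27 yf3 zf13) (kf xf17 yf31 zf51) (kf xf17 yf31 zf53) (kf xf21 yf36 zf20) (kf xf26 yf13 zf8) (kf xf21 yf31 zf0) (kf xf12 yf46 zf3) (kf xf17 yf11 zf57) (kf xf28 yf21 zf23) (kf xf22 yf53 zf38) (kf xf24 yf15 zf34) (kf xf19 yf10 zf52) (kf xf12 yf34 zf15) (kf xf29 yf18 zf11) (kf xf19 yf10 zf51) (kf xf12 yf33 zf2)) (@D3.rec (fun _ => Pt) (kf xf12 yf41 zf56) (kf xf12 yf41 zf57) (kf xf29 yf43 zf49) (kf xf27 yf19 zf56) (kf xf21 yf48 zf60) (kf xf30 yf6 zf15) (kf xf24 yf15 zf33) (kf xf20 yf49 zf15) (kf xf24 yf15 zf24) (kf xf24 yf15 zf25) (kf xf19 yf13 zf8) (kf xf22 yf15 zf32) (kf xf22 yf24 zf34) (kf xf27 yf6 zf12) (kf xf24 yf41 zf14) (kf xf22 yf2 zf47) (kf xf27 yf6 zf13) (kf xf27 yf11 zf20) (kf xf27 yf11 zf21) (kf xf27 yf11 zf22) (kf xf21 yf4 zf60) (kf xf21 yf4 zf61) (kf xf21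 yf5 zf0) (kf xf22 yf10 zf46) (kf xf22 yf10 zf47) (kf xf22 yf10 zf48) (kf xf14 yf52 zf14) (kf xf22 yf10 zf60) (kf xf25 yf32 zf58) (kf xf24 yf14 zf13) (kf xf21 yf17 zf1) (kf xf28 yf19 zf44) (kf xf21 yf17 zf2) (kf xf27 yf6 zf14) (kf xf27 yf6 zf15) (kf xf27 yf6 zf16) (kf xf27 yf6 zf17) (kf xf27 yf42 zf6) (kf xf29 yf50 zf36) (kf xf22 yf55 zf26) (kf xf30 yf6 zf40) (kf xf22 yf10 zf57) (kf xf29 yf32 zf23) (kf xf25 yf32 zf50) (kf xf29 yf50 zf38) (kf xf29 yf50 zf39) (kf xf29 yf50 zf40) (kf xf23 yf9 zf57) (kf xf27 yf6 zf21) (kf xf30 yf6 zf47) (kf xf27 yf6 zf19) (kf xf30 yf6 zf51) (kf xf17 yf21 zf11) (kf xf12 yf33 zf34) (kf xf18 yf22 zf33) (kf xf17 yf26 zf50) (kf xf12 yf33 zf37) (kf xf18 yf21 zf13) (kf xf27 yf6 zf37) (kf xf14 yf29 zf19) (kf xf27 yf2 zf1) (kf xf24 yf1 zf35)) (@D3.rec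 (fun _ => Pt) (kf xf21 yf50 zf6) (kf xf21 yf17 zf30) (kf xf21 yf17 zf33) (kf xf21 yf23 zf36) (kf xf27 yf1 zf56) (kf xf22 yf22 zf31) (kf xf18 yf57 zf56) (kf xf27 yf7 zf24) (kf xf17 yf20 zf1) (kf xf17 yf20 zf4) (kf xf28 yf27 zf55) (kf xf14 yf22 zf25) (kf xf14 yf22 zf23) (kf xf22 yf15 zf4) (kf xf14 yf22 zf28) (kf xf14 yf22 zf27) (kf xf23 yf55 zf26) (kf xf19 yf40 zf37) (kf xf12 yf38 zf55) (kf xf23 yf55 zf23) (kf xf23 yf55 zf24) (kf xf24 yf6 zf12) (kf xf15 yf58 zf43) (kf xf23 yf10 zf51) (kf xf22 yf13 zf33) (kf xf24 yf38 zf45) (kf xf13 yf22 zf53) (kf xf12 yf51 zf44) (kf xf12 yf34 zf10) (kf xf29 yf42 zf28) (kf xf14 yf14 zf2) (kf xf21 yf19 zf39) (kf xf14 yf14 zf4) (kf xf29 yf59 zf51) (kf xf12 yf34 zf18) (kf xf21 yf57 zf33) (kf xf14 yf13 zf39) (kf xf26 yf58 zf34) (kf xf24 yf15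 zf21) (kf xf21 yf42 zf33) (kf xf24 yf33 zf5) (kf xf26 yf58 zf36) (kf xf26 yf58 zf35) (kf xf28 yf45 zf17) (kf xf12 yf34 zf21) (kf xf17 yf53 zf29) (kf xf14 yf36 zf20) (kf xf12 yf36 zf12) (kf xf12 yf47 zf53) (kf xf18 yf1 zf2) (kf xf24 yf9 zf46) (kf xf24 yf9 zf48) (kf xf24 yf41 zf8) (kf xf30 yf7 zf15) (kf xf12 yf34 zf30) (kf xf12 yf34 zf31) (kf xf23 yf22 zf37) (kf xf25 yf54 zf7) (kf xf14 yf45 zf27) (kf xf14 yf45 zf25) (kf xf14 yf45 zf26) (kf xf14 yf45 zf20)) (@D3.rec (fun _ => Pt) (kf xf30 yf7 zf25) (kf xf12 yf48 zf53) (kf xf12 yf34 zf37) (kf xf12 yf46 zf7) (kf xf12 yf34 zf38) (kf xf12 yf35 zf15) (kf xf27 yf38 zf41) (kf xf14 yf49 zf56) (kf xf29 yf21 zf55) (kf xf20 yf21 zf54) (kf xf24 yf41 zf35) (kf xf12 yf34 zf46) (kf xf13 yf21 zf5) (kf xf23 yf26 zf50) (kf xf13 yf19 zf1)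 (kf xf24 yf24 zf45) (kf xf12 yf34 zf52) (kf xf18 yf57 zf16) (kf xf23 yf11 zf37) (kf xf18 yf45 zf51) (kf xf23 yf34 zf5) (kf xf22 yf17 zf49) (kf xf23 yf11 zf50) (kf xf13 yf21 zf16) (kf xf14 yf29 zf32) (kf xf23 yf11 zf52) (kf xf23 yf11 zf53) (kf xf21 yf47 zf47) (kf xf21 yf6 zf51) (kf xf21 yf47 zf24) (kf xf21 yf45 zf45) (kf xf21 yf47 zf53) (kf xf14 yf36 zf41) (kf xf12 yf35 zf5) (kf xf21 yf47 zf45) (kf xf18 yf57 zf27) (kf xf17 yf51 zf29) (kf xf14 yf23 zf31) (kf xf22 yf8 zf14) (kf xf27 yf38 zf8) (kf xf22 yf8 zf34) (kf xf22 yf8 zf33) (kf xf18 yf17 zf11) (kf xf12 yf35 zf21) (kf xf22 yf37 zf6) (kf xf24 yf19 zf30) (kf xf12 yf35 zf22) (kf xf12 yf41 zf7) (kf xf14 yf37 zf52) (kf xf18 yf24 zf36) (kf xf23 yf3 zf50) (kf xf23 yf47 zf2) (kf xf21 yf52 zf59) (kf xf12 yf35 zf26) (kf xf18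 yf5 zf6) (kf xf23 yf54 zf6) (kf xf12 yf35 zf29) (kf xf23 yf53 zf57) (kf xf14 yf20 zf47) (kf xf30 yf3 zf38) (kf xf12 yf35 zf32) (kf xf16 yf17 zf49)) (@D3.rec (fun _ => Pt) (kf xf18 yf6 zf25) (kf xf12 yf35 zf35) (kf xf21 yf36 zf21) (kf xf17 yf38 zf53) (kf xf18 yf12 zf55) (kf xf18 yf12 zf50) (kf xf15 yf19 zf0) (kf xf21 yf36 zf24) (kf xf21 yf36 zf23) (kf xf21 yf42 zf49) (kf xf16 yf18 zf1) (kf xf29 yf50 zf35) (kf xf21 yf49 zf48) (kf xf27 yf30 zf39) (kf xf24 yf43 zf34) (kf xf23 yf22 zf53) (kf xf22 yf34 zf38) (kf xf21 yf37 zf35) (kf xf27 yf17 zf32) (kf xf25 yf17 zf19) (kf xf21 yf44 zf28) (kf xf29 yf51 zf51) (kf xf25 yf16 zf48) (kf xf12 yf35 zf58) (kf xf29 yf51 zf53) (kf xf26 yf13 zf6) (kf xf17 yf35 zf13) (kf xf12 yf35 zf60) (kf xf21 yf44 zf10) (kf xf21 yf43 zf55) (kf xf23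 yf49 zf44) (kf xf27 yf43 zf27) (kf xf24 yf21 zf56) (kf xf21 yf40 zf39) (kf xf27 yf42 zf57) (kf xf20 yf14 zf55) (kf xf20 yf47 zf61) (kf xf23 yf50 zf4) (kf xf21 yf45 zf2) (kf xf14 yf20 zf58) (kf xf12 yf41 zf22) (kf xf23 yf49 zf46) (kf xf14 yf26 zf46) (kf xf17 yf7 zf32) (kf xf21 yf21 zf1) (kf xf14 yf35 zf61) (kf xf21 yf19 zf41) (kf xf12 yf36 zf32) (kf xf28 yf10 zf8) (kf xf21 yf42 zf9) (kf xf12 yf47 zf32) (kf xf15 yf17 zf19) (kf xf12 yf39 zf55) (kf xf12 yf39 zf49) (kf xf24 yf19 zf48) (kf xf12 yf40 zf2) (kf xf12 yf40 zf1) (kf xf12 yf40 zf34) (kf xf12 yf36 zf44) (kf xf30 yf4 zf58) (kf xf12 yf40 zf7) (kf xf12 yf40 zf10)) (@D3.rec (fun _ => Pt) (kf xf12 yf40 zf14) (kf xf12 yf40 zf25) (kf xf12 yf40 zf26) (kf xf12 yf40 zf33) (kf xf12 yf40 zf32) (kf xf12 yf40 zf4) (kf xf24 yf58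 zf7) (kf xf19 yf44 zf16) (kf xf20 yf53 zf38) (kf xf15 yf20 zf2) (kf xf12 yf36 zf56) (kf xf12 yf41 zf23) (kf xf25 yf13 zf8) (kf xf12 yf36 zf58) (kf xf12 yf41 zf27) (kf xf12 yf41 zf30) (kf xf26 yf4 zf49) (kf xf23 yf13 zf25) (kf xf12 yf41 zf42) (kf xf12 yf41 zf41) (kf xf25 yf33 zf31) (kf xf12 yf42 zf9) (kf xf12 yf37 zf2) (kf xf25 yf13 zf7) (kf xf12 yf41 zf60) (kf xf12 yf41 zf61) (kf xf12 yf42 zf2) (kf xf12 yf42 zf3) (kf xf12 yf42 zf0) (kf xf12 yf42 zf1) (kf xf12 yf42 zf7) (kf xf12 yf41 zf44) (kf xf30 yf8 zf0) (kf xf12 yf37 zf8) (kf xf12 yf42 zf50) (kf xf21 yf56 zf11) (kf xf12 yf45 zf60) (kf xf12 yf45 zf61) (kf xf27 yf12 zf13) (kf xf21 yf54 zf15) (kf xf27 yf12 zf12) (kf xf23 yf47 zf24) (kf xf21 yf11 zf37) (kf xf29 yf59 zf25) (kf xf12 yf43 zf10) (kf xf12 yf43 zf9) (kf xf30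 yf8 zf5) (kf xf12 yf37 zf22) (kf xf12 yf43 zf14) (kf xf27 yf23 zf19) (kf xf25 yf51 zf4) (kf xf22 yf31 zf11) (kf xf12 yf37 zf27) (kf xf21 yf45 zf36) (kf xf12 yf37 zf29) (kf xf21 yf42 zf29) (kf xf16 yf7 zf29) (kf xf30 yf8 zf11) (kf xf12 yf37 zf31) (kf xf18 yf37 zf11) (kf xf27 yf55 zf39) (kf xf20 yf53 zf14)) (@D3.rec (fun _ => Pt) (kf xf12 yf37 zf35) (kf xf29 yf49 zf9) (kf xf14 yf14 zf1) (kf xf14 yf14 zf3) (kf xf17 yf45 zf8) (kf xf13 yf10 zf46) (kf xf26 yf59 zf11) (kf xf20 yf34 zf40) (kf xf12 yf37 zf57) (kf xf12 yf37 zf54) (kf xf21 yf42 zf28) (kf xf22 yf4 zf46) (kf xf29 yf24 zf43) (kf xf12 yf37 zf50) (kf xf15 yf59 zf5) (kf xf18 yf37 zf17) (kf xf21 yf45 zf31) (kf xf29 yf50 zf1) (kf xf14 yf16 zf49) (kf xf29 yf30 zf57) (kf xf12 yf46 zf8) (kf xf29 yf30 zf59) (kf xf12 yf37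 zf55) (kf xf18 yf37 zf12) (kf xf14 yf27 zf7) (kf xf14 yf16 zf52) (kf xf26 yf27 zf7) (kf xf29 yf31 zf51) (kf xf21 yf42 zf20) (kf xf12 yf37 zf59) (kf xf29 yf31 zf47) (kf xf12 yf45 zf35) (kf xf12 yf45 zf33) (kf xf16 yf31 zf28) (kf xf12 yf45 zf2) (kf xf12 yf45 zf44) (kf xf12 yf45 zf40) (kf xf12 yf45 zf47) (kf xf12 yf38 zf6) (kf xf12 yf38 zf23) (kf xf12 yf44 zf32) (kf xf12 yf42 zf19) (kf xf12 yf42 zf20) (kf xf12 yf46 zf1) (kf xf12 yf46 zf4) (kf xf25 yf19 zf2) (kf xf12 yf46 zf24) (kf xf12 yf46 zf23) (kf xf26 yf4 zf0) (kf xf12 yf38 zf15) (kf xf12 yf46 zf39) (kf xf16 yf24 zf16) (kf xf12 yf46 zf35) (kf xf12 yf46 zf43) (kf xf12 yf46 zf47) (kf xf12 yf46 zf46) (kf xf20 yf17 zf28) (kf xf12 yf40 zf53) (kf xf12 yf40 zf54) (kf xf12 yf47 zf28) (kf xf12 yf47 zf30) (kf xf12 yf39 zf17))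 (@D3.rec (fun _ => Pt) (kf xf12 yf38 zf46) (kf xf19 yf53 zf24) (kf xf21 yf42 zf38) (kf xf20 yf42 zf18) (kf xf12 yf38 zf50) (kf xf17 yf5 zf11) (kf xf22 yf3 zf14) (kf xf21 yf5 zf53) (kf xf30 yf4 zf38) (kf xf30 yf8 zf18) (kf xf26 yf2 zf9) (kf xf24 yf21 zf10) (kf xf18 yf16 zf2) (kf xf27 yf5 zf55) (kf xf27 yf20 zf50) (kf xf21 yf5 zf54) (kf xf19 yf55 zf50) (kf xf21 yf23 zf17) (kf xf14 yf29 zf25) (kf xf21 yf6 zf14) (kf xf22 yf27 zf7) (kf xf16 yf5 zf4) (kf xf30 yf8 zf26) (kf xf12 yf39 zf2) (kf xf21 yf22 zf2) (kf xf24 yf39 zf10) (kf xf24 yf38 zf18) (kf xf12 yf39 zf3) (kf xf24 yf2 zf26) (kf xf20 yf27 zf46) (kf xf21 yf32 zf31) (kf xf21 yf44 zf16) (kf xf12 yf39 zf26) (kf xf12 yf39 zf24) (kf xf30 yf4 zf8) (kf xf14 yf33 zf18) (kf xf21 yf43 zf53) (kf xf21 yf17 zf5) (kf xf25 yf31 zf48)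 (kf xf30 yf8 zf30) (kf xf21 yf58 zf47) (kf xf12 yf39 zf29) (kf xf20 yf38 zf5) (kf xf24 yf2 zf55) (kf xf20 yf37 zf58) (kf xf21 yf41 zf30) (kf xf24 yf7 zf11) (kf xf24 yf7 zf23) (kf xf24 yf7 zf31) (kf xf28 yf10 zf25) (kf xf24 yf7 zf8) (kf xf24 yf7 zf7) (kf xf24 yf7 zf32) (kf xf26 yf14 zf42) (kf xf20 yf38 zf6) (kf xf12 yf39 zf41) (kf xf24 yf7 zf9) (kf xf25 yf59 zf8) (kf xf14 yf37 zf29) (kf xf12 yf39 zf43) (kf xf27 yf48 zf32) (kf xf21 yf5 zf27)) (@D3.rec (fun _ => Pt) (kf xf15 yf17 zf20) (kf xf12 yf40 zf6) (kf xf25 yf54 zf0) (kf xf21 yf50 zf10) (kf xf12 yf49 zf43) (kf xf12 yf49 zf13) (kf xf12 yf49 zf44) (kf xf17 yf14 zf35) (kf xf27 yf23 zf36) (kf xf21 yf50 zf9) (kf xf22 yf10 zf51) (kf xf20 yf42 zf22) (kf xf19 yf35 zf58) (kf xf16 yf1 zf2) (kf xf12 yf52 zf27) (kf xf26 yf58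 zf25) (kf xf21 yf50 zf3) (kf xf16 yf1 zf3) (kf xf27 yf17 zf60) (kf xf21 yf18 zf49) (kf xf28 yf57 zf42) (kf xf27 yf6 zf40) (kf xf25 yf7 zf51) (kf xf25 yf7 zf48) (kf xf15 yf54 zf61) (kf xf12 yf40 zf3) (kf xf27 yf10 zf61) (kf xf15 yf21 zf44) (kf xf15 yf17 zf22) (kf xf30 yf7 zf41) (kf xf29 yf59 zf50) (kf xf25 yf44 zf21) (kf xf21 yf19 zf34) (kf xf26 yf2 zf38) (kf xf21 yf18 zf55) (kf xf25 yf57 zf24) (kf xf21 yf18 zf57) (kf xf16 yf0 zf59) (kf xf14 yf28 zf41) (kf xf22 yf8 zf25) (kf xf27 yf19 zf50) (kf xf21 yf56 zf29) (kf xf24 yf42 zf56) (kf xf24 yf43 zf41) (kf xf21 yf18 zf60) (kf xf21 yf18 zf61) (kf xf21 yf19 zf0) (kf xf21 yf8 zf22) (kf xf21 yf19 zf1) (kf xf24 yf41 zf49) (kf xf30 yf0 zf6) (kf xf30 yf7 zf42) (kf xf30 yf7 zf43) (kf xf30 yf7 zf44) (kf xf24 yf41 zf48) (kf xf30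 yf8 zf53) (kf xf12 yf40 zf27) (kf xf23 yf23 zf40) (kf xf30 yf8 zf54) (kf xf12 yf40 zf30) (kf xf24 yf40 zf51) (kf xf23 yf24 zf11)) (@D3.rec (fun _ => Pt) (kf xf24 yf58 zf4) (kf xf30 yf7 zf46) (kf xf30 yf7 zf45) (kf xf12 yf40 zf35) (kf xf30 yf8 zf60) (kf xf21 yf20 zf29) (kf xf12 yf40 zf42) (kf xf29 yf22 zf24) (kf xf12 yf40 zf43) (kf xf17 yf23 zf38) (kf xf29 yf33 zf0) (kf xf29 yf22 zf38) (kf xf29 yf36 zf41) (kf xf12 yf40 zf47) (kf xf23 yf47 zf1) (kf xf23 yf53 zf6) (kf xf17 yf31 zf38) (kf xf12 yf40 zf56) (kf xf20 yf46 zf18) (kf xf12 yf40 zf58) (kf xf12 yf41 zf8) (kf xf12 yf41 zf12) (kf xf22 yf21 zf61) (kf xf12 yf40 zf61) (kf xf21 yf41 zf29) (kf xf18 yf25 zf0) (kf xf22 yf23 zf9) (kf xf12 yf41 zf4) (kf xf19 yf14 zf59) (kf xf29 yf41 zf0) (kf xf21 yf21 zf26) (kf xf25 yf47 zf16)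 (kf xf29 yf23 zf13) (kf xf25 yf47 zf13) (kf xf27 yf43 zf25) (kf xf21 yf7 zf4) (kf xf23 yf13 zf12) (kf xf13 yf45 zf60) (kf xf14 yf52 zf41) (kf xf29 yf2 zf14) (kf xf22 yf25 zf59) (kf xf12 yf41 zf14) (kf xf30 yf9 zf5) (kf xf23 yf58 zf51) (kf xf24 yf2 zf53) (kf xf21 yf41 zf34) (kf xf12 yf41 zf18) (kf xf21 yf41 zf27) (kf xf18 yf26 zf17) (kf xf24 yf2 zf27) (kf xf18 yf26 zf10) (kf xf24 yf2 zf29) (kf xf20 yf13 zf46) (kf xf21 yf41 zf31) (kf xf20 yf12 zf41) (kf xf12 yf41 zf21) (kf xf21 yf50 zf23) (kf xf26 yf59 zf41) (kf xf27 yf43 zf26) (kf xf21 yf50 zf22) (kf xf30 yf9 zf22) (kf xf30 yf7 zf48)) (@D3.rec (fun _ => Pt) (kf xf25 yf50 zf0) (kf xf30 yf9 zf25) (kf xf29 yf16 zf53) (kf xf12 yf41 zf24) (kf xf12 yf41 zf46) (kf xf12 yf53 zf36) (kf xf26 yf11 zf16) (kf xf17 yf6 zf28) (kf xf30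 yf7 zf49) (kf xf16 yf9 zf18) (kf xf21 yf21 zf29) (kf xf24 yf18 zf1) (kf xf26 yf11 zf10) (kf xf21 yf21 zf33) (kf xf21 yf21 zf32) (kf xf15 yf18 zf1) (kf xf21 yf21 zf55) (kf xf26 yf4 zf50) (kf xf21 yf21 zf23) (kf xf21 yf21 zf22) (kf xf12 yf41 zf31) (kf xf21 yf21 zf35) (kf xf12 yf41 zf33) (kf xf16 yf37 zf18) (kf xf14 yf12 zf20) (kf xf21 yf50 zf31) (kf xf21 yf50 zf32) (kf xf18 yf2 zf3) (kf xf20 yf53 zf35) (kf xf23 yf13 zf11) (kf xf19 yf10 zf42) (kf xf13 yf25 zf50) (kf xf21 yf50 zf29) (kf xf21 yf50 zf30) (kf xf30 yf9 zf49) (kf xf12 yf41 zf40) (kf xf30 yf7 zf50) (kf xf30 yf7 zf51) (kf xf27 yf20 zf48) (kf xf30 yf9 zf58) (kf xf23 yf41 zf20) (kf xf30 yf9 zf57) (kf xf23 yf26 zf56) (kf xf12 yf41 zf43) (kf xf27 yf20 zf41) (kf xf30 yf10 zf6) (kf xf30 yf7 zf55) (kf xf30 yf7 zf54)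 (kf xf25 yf8 zf36) (kf xf25 yf8 zf20) (kf xf30 yf6 zf3) (kf xf29 yf12 zf58) (kf xf12 yf41 zf50) (kf xf21 yf21 zf50) (kf xf21 yf21 zf49) (kf xf24 yf43 zf40) (kf xf30 yf10 zf12) (kf xf30 yf6 zf4) (kf xf30 yf6 zf5) (kf xf30 yf6 zf6) (kf xf21 yf39 zf4) (kf xf21 yf21 zf44)) (@D3.rec (fun _ => Pt) (kf xf21 yf21 zf48) (kf xf24 yf21 zf7) (kf xf28 yf42 zf43) (kf xf28 yf42 zf45) (kf xf30 yf7 zf56) (kf xf29 yf11 zf52) (kf xf30 yf2 zf29) (kf xf27 yf26 zf57) (kf xf26 yf18 zf11) (kf xf29 yf11 zf7) (kf xf29 yf10 zf18) (kf xf23 yf23 zf17) (kf xf30 yf5 zf17) (kf xf27 yf42 zf29) (kf xf23 yf39 zf31) (kf xf30 yf10 zf33) (kf xf15 yf42 zf33) (kf xf15 yf42 zf35) (kf xf15 yf43 zf26) (kf xf15 yf43 zf53) (kf xf15 yf43 zf54) (kf xf15 yf43 zf55) (kf xf30 yf10 zf47) (kf xf26 yf8 zf4) (kf xf30 yf10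 zf51) (kf xf21 yf21 zf53) (kf xf30 yf10 zf53) (kf xf19 yf46 zf23) (kf xf25 yf30 zf34) (kf xf28 yf13 zf20) (kf xf27 yf17 zf58) (kf xf12 yf42 zf10) (kf xf30 yf10 zf58) (kf xf20 yf45 zf22) (kf xf12 yf42 zf16) (kf xf13 yf5 zf45) (kf xf25 yf18 zf40) (kf xf21 yf18 zf6) (kf xf12 yf42 zf35) (kf xf12 yf42 zf31) (kf xf20 yf10 zf22) (kf xf14 yf16 zf43) (kf xf12 yf42 zf26) (kf xf23 yf47 zf34) (kf xf22 yf8 zf39) (kf xf22 yf33 zf29) (kf xf28 yf44 zf41) (kf xf27 yf55 zf57) (kf xf21 yf42 zf12) (kf xf17 yf14 zf6) (kf xf17 yf21 zf4) (kf xf21 yf4 zf45) (kf xf20 yf36 zf16) (kf xf21 yf58 zf41) (kf xf17 yf30 zf57) (kf xf26 yf4 zf11) (kf xf29 yf57 zf7) (kf xf29 yf51 zf54) (kf xf12 yf42 zf40) (kf xf15 yf17 zf12) (kf xf21 yf6 zf56) (kf xf20 yf34 zf54)) (@D3.rec (fun _ => Pt) (kf xf21 yf34 zf48)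 (kf xf12 yf42 zf48) (kf xf26 yf1 zf49) (kf xf21 yf46 zf16) (kf xf30 yf8 zf36) (kf xf30 yf11 zf7) (kf xf21 yf40 zf0) (kf xf30 yf8 zf42) (kf xf12 yf42 zf52) (kf xf21 yf46 zf9) (kf xf21 yf46 zf3) (kf xf29 yf0 zf10) (kf xf12 yf42 zf53) (kf xf29 yf56 zf21) (kf xf17 yf51 zf21) (kf xf25 yf17 zf16) (kf xf17 yf59 zf36) (kf xf17 yf8 zf41) (kf xf30 yf11 zf13) (kf xf26 yf59 zf9) (kf xf17 yf51 zf25) (kf xf27 yf41 zf32) (kf xf21 yf47 zf59) (kf xf21 yf47 zf56) (kf xf29 yf17 zf52) (kf xf12 yf43 zf11) (kf xf25 yf31 zf47) (kf xf16 yf17 zf57) (kf xf16 yf18 zf6) (kf xf21 yf48 zf32) (kf xf21 yf48 zf33) (kf xf21 yf48 zf25) (kf xf21 yf48 zf26) (kf xf25 yf4 zf22) (kf xf20 yf29 zf16) (kf xf27 yf44 zf1) (kf xf23 yf27 zf51) (kf xf12 yf43 zf18) (kf xf29 yf4 zf31) (kf xf12 yf43 zf19) (kf xf27 yf19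 zf47) (kf xf27 yf56 zf22) (kf xf21 yf19 zf38) (kf xf20 yf27 zf28) (kf xf22 yf4 zf10) (kf xf28 yf1 zf33) (kf xf25 yf44 zf35) (kf xf12 yf43 zf35) (kf xf26 yf50 zf29) (kf xf26 yf21 zf51) (kf xf26 yf5 zf40) (kf xf28 yf36 zf57) (kf xf24 yf48 zf50) (kf xf12 yf43 zf41) (kf xf26 yf59 zf8) (kf xf29 yf17 zf4) (kf xf12 yf43 zf44) (kf xf21 yf1 zf37) (kf xf17 yf50 zf57) (kf xf22 yf3 zf26) (kf xf28 yf45 zf22) (kf xf22 yf2 zf39)) (@D3.rec (fun _ => Pt) (kf xf12 yf43 zf49) (kf xf25 yf44 zf41) (kf xf12 yf44 zf21) (kf xf12 yf44 zf18) (kf xf12 yf44 zf24) (kf xf12 yf44 zf23) (kf xf12 yf43 zf53) (kf xf12 yf44 zf38) (kf xf12 yf44 zf31) (kf xf12 yf44 zf42) (kf xf27 yf9 zf31) (kf xf27 yf56 zf9) (kf xf20 yf39 zf61) (kf xf12 yf44 zf52) (kf xf25 yf25 zf26) (kf xf12 yf44 zf48) (kf xf26 yf9 zf19)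 (kf xf12 yf44 zf2) (kf xf17 yf13 zf3) (kf xf18 yf49 zf49) (kf xf20 yf16 zf19) (kf xf20 yf1 zf39) (kf xf26 yf59 zf17) (kf xf21 yf20 zf34) (kf xf26 yf59 zf16) (kf xf15 yf49 zf13) (kf xf20 yf18 zf18) (kf xf21 yf38 zf18) (kf xf26 yf27 zf10) (kf xf16 yf28 zf46) (kf xf12 yf44 zf15) (kf xf20 yf26 zf3) (kf xf18 yf25 zf23) (kf xf23 yf47 zf51) (kf xf14 yf35 zf48) (kf xf17 yf24 zf35) (kf xf17 yf4 zf61) (kf xf18 yf24 zf34) (kf xf22 yf36 zf48) (kf xf22 yf36 zf49) (kf xf29 yf6 zf2) (kf xf22 yf40 zf32) (kf xf23 yf47 zf45) (kf xf29 yf21 zf41) (kf xf25 yf45 zf41) (kf xf29 yf21 zf12) (kf xf16 yf7 zf37) (kf xf22 yf3 zf50) (kf xf13 yf47 zf15) (kf xf12 yf44 zf34) (kf xf18 yf16 zf14) (kf xf21 yf51 zf52) (kf xf21 yf51 zf51) (kf xf18 yf50 zf26) (kf xf24 yf36 zf12) (kf xf12 yf44 zf39) (kf xf20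 yf56 zf19) (kf xf19 yf40 zf18) (kf xf12 yf57 zf55) (kf xf20 yf12 zf49) (kf xf20 yf12 zf48) (kf xf21 yf34 zf52)) (@D3.rec (fun _ => Pt) (kf xf12 yf44 zf43) (kf xf12 yf44 zf45) (kf xf20 yf47 zf7) (kf xf21 yf9 zf27) (kf xf26 yf57 zf27) (kf xf25 yf25 zf25) (kf xf22 yf5 zf1) (kf xf12 yf44 zf50) (kf xf13 yf0 zf61) (kf xf20 yf19 zf10) (kf xf29 yf29 zf15) (kf xf20 yf57 zf25) (kf xf20 yf57 zf28) (kf xf23 yf47 zf49) (kf xf13 yf19 zf27) (kf xf27 yf48 zf11) (kf xf22 yf11 zf35) (kf xf18 yf5 zf5) (kf xf18 yf5 zf4) (kf xf14 yf12 zf17) (kf xf29 yf22 zf57) (kf xf29 yf6 zf8) (kf xf17 yf7 zf37) (kf xf25 yf18 zf31) (kf xf20 yf48 zf8) (kf xf20 yf46 zf55) (kf xf17 yf20 zf37) (kf xf20 yf46 zf56) (kf xf20 yf48 zf10) (kf xf20 yf48 zf9) (kf xf12 yf45 zf22) (kf xf14 yf37 zf53) (kf xf14 yf37 zf60)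 (kf xf26 yf51 zf45) (kf xf13 yf19 zf13) (kf xf14 yf37 zf51) (kf xf14 yf37 zf55) (kf xf30 yf11 zf48) (kf xf14 yf38 zf4) (kf xf14 yf38 zf5) (kf xf14 yf29 zf57) (kf xf30 yf11 zf53) (kf xf14 yf38 zf1) (kf xf14 yf38 zf2) (kf xf30 yf11 zf55) (kf xf14 yf38 zf8) (kf xf14 yf38 zf7) (kf xf16 yf23 zf17) (kf xf12 yf45 zf30) (kf xf14 yf10 zf40) (kf xf13 yf17 zf47) (kf xf23 yf55 zf40) (kf xf30 yf8 zf15) (kf xf30 yf12 zf1) (kf xf20 yf27 zf57) (kf xf27 yf10 zf25) (kf xf30 yf12 zf4) (kf xf22 yf49 zf52) (kf xf21 yf20 zf36) (kf xf21 yf41 zf52) (kf xf22 yf47 zf15) (kf xf13 yf29 zf40)) (@D3.rec (fun _ => Pt) (kf xf14 yf23 zf36) (kf xf26 yf29 zf27) (kf xf12 yf45 zf48) (kf xf16 yf21 zf23) (kf xf14 yf38 zf10) (kf xf12 yf45 zf49) (kf xf12 yf46 zf45) (kf xf12 yf46 zf48) (kf xf12 yf45 zf59) (kf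 xf14 yf13 zf57) (kf xf14 yf16 zf57) (kf xf14 yf36 zf5) (kf xf14 yf36 zf4) (kf xf14 yf36 zf10) (kf xf19 yf12 zf39) (kf xf14 yf36 zf6) (kf xf14 yf36 zf14) (kf xf29 yf59 zf26) (kf xf14 yf36 zf16) (kf xf14 yf36 zf15) (kf xf27 yf19 zf37) (kf xf28 yf32 zf46) (kf xf21 yf18 zf5) (kf xf22 yf35 zf32) (kf xf28 yf33 zf28) (kf xf24 yf18 zf48) (kf xf28 yf21 zf22) (kf xf16 yf59 zf33) (kf xf16 yf59 zf32) (kf xf28 yf24 zf35) (kf xf20 yf15 zf60) (kf xf16 yf33 zf41) (kf xf21 yf54 zf38) (kf xf26 yf21 zf48) (kf xf16 yf31 zf25) (kf xf23 yf3 zf42) (kf xf20 yf13 zf27) (kf xf23 yf3 zf43) (kf xf16 yf33 zf13) (kf xf20 yf27 zf56) (kf xf25 yf17 zf36) (kf xf17 yf37 zf39) (kf xf21 yf18 zf7) (kf xf21 yf29 zf11) (kf xf21 yf28 zf41) (kf xf14 yf44 zf54) (kf xf16 yf12 zf1) (kf xf16 yf13 zf27) (kf xf12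 yf53 zf5) (kf xf22 yf4 zf57) (kf xf29 yf12 zf43) (kf xf12 yf46 zf36) (kf xf21 yf28 zf49) (kf xf21 yf15 zf25) (kf xf16 yf28 zf24) (kf xf16 yf28 zf26) (kf xf21 yf13 zf13) (kf xf18 yf56 zf51) (kf xf26 yf28 zf8) (kf xf29 yf54 zf28) (kf xf29 yf22 zf54) (kf xf16 yf24 zf51)) (@D3.rec (fun _ => Pt) (kf xf26 yf28 zf7) (kf xf12 yf53 zf4) (kf xf16 yf24 zf47) (kf xf26 yf28 zf6) (kf xf30 yf2 zf38) (kf xf18 yf2 zf33) (kf xf27 yf12 zf14) (kf xf23 yf47 zf29) (kf xf27 yf12 zf15) (kf xf29 yf57 zf26) (kf xf12 yf51 zf4) (kf xf14 yf25 zf51) (kf xf14 yf41 zf32) (kf xf29 yf57 zf27) (kf xf30 yf12 zf28) (kf xf21 yf43 zf39) (kf xf19 yf12 zf48) (kf xf12 yf46 zf53) (kf xf22 yf15 zf59) (kf xf22 yf6 zf13) (kf xf19 yf7 zf12) (kf xf19 yf7 zf8) (kf xf25 yf50 zf57) (kf xf28 yf44 zf40) (kf xf19 yf17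 zf48) (kf xf12 yf46 zf58) (kf xf14 yf11 zf2) (kf xf14 yf39 zf7) (kf xf20 yf17 zf22) (kf xf20 yf15 zf30) (kf xf20 yf17 zf27) (kf xf19 yf43 zf24) (kf xf28 yf24 zf59) (kf xf18 yf50 zf41) (kf xf18 yf48 zf38) (kf xf18 yf50 zf8) (kf xf12 yf47 zf10) (kf xf29 yf43 zf56) (kf xf21 yf53 zf32) (kf xf21 yf11 zf42) (kf xf16 yf28 zf12) (kf xf26 yf32 zf61) (kf xf26 yf3 zf57) (kf xf28 yf10 zf27) (kf xf22 yf8 zf32) (kf xf30 yf12 zf35) (kf xf23 yf36 zf33) (kf xf26 yf46 zf12) (kf xf12 yf47 zf33) (kf xf30 yf5 zf18) (kf xf12 yf47 zf27) (kf xf12 yf54 zf7) (kf xf22 yf46 zf35) (kf xf24 yf30 zf33) (kf xf27 yf30 zf28) (kf xf27 yf30 zf30) (kf xf26 yf4 zf7) (kf xf14 yf36 zf36) (kf xf21 yf7 zf3) (kf xf21 yf7 zf5) (kf xf27 yf20 zf32) (kf xf23 yf19 zf46)) (@D3.rec (fun _ => Pt) (kf xf22 yf38 zf55)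 (kf xf13 yf47 zf25) (kf xf26 yf4 zf8) (kf xf28 yf27 zf44) (kf xf18 yf37 zf8) (kf xf18 yf37 zf7) (kf xf12 yf48 zf3) (kf xf23 yf10 zf57) (kf xf21 yf24 zf2) (kf xf19 yf2 zf34) (kf xf19 yf10 zf37) (kf xf12 yf47 zf49) (kf xf14 yf45 zf51) (kf xf19 yf6 zf46) (kf xf19 yf6 zf45) (kf xf12 yf47 zf54) (kf xf27 yf4 zf40) (kf xf29 yf6 zf28) (kf xf23 yf36 zf44) (kf xf21 yf28 zf9) (kf xf24 yf41 zf32) (kf xf14 yf49 zf48) (kf xf21 yf26 zf13) (kf xf22 yf4 zf25) (kf xf13 yf24 zf41) (kf xf30 yf12 zf39) (kf xf22 yf45 zf17) (kf xf23 yf41 zf7) (kf xf24 yf21 zf55) (kf xf13 yf57 zf41) (kf xf21 yf24 zf29) (kf xf21 yf24 zf30) (kf xf21 yf6 zf34) (kf xf21 yf3 zf57) (kf xf21 yf6 zf35) (kf xf17 yf14 zf18) (kf xf17 yf14 zf20) (kf xf21 yf6 zf30) (kf xf21 yf6 zf31) (kf xf21 yf6 zf24) (kf xf26 yf8 zf45)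 (kf xf29 yf52 zf8) (kf xf22 yf45 zf22) (kf xf21 yf6 zf18) (kf xf25 yf2 zf17) (kf xf29 yf52 zf9) (kf xf22 yf45 zf21) (kf xf21 yf6 zf19) (kf xf14 yf10 zf11) (kf xf23 yf44 zf16) (kf xf28 yf4 zf18) (kf xf21 yf6 zf47) (kf xf21 yf6 zf46) (kf xf12 yf48 zf17) (kf xf22 yf38 zf43) (kf xf12 yf48 zf18) (kf xf24 yf41 zf46) (kf xf22 yf31 zf49) (kf xf14 yf56 zf0) (kf xf27 yf27 zf26) (kf xf29 yf52 zf10) (kf xf22 yf31 zf50)) (@D3.rec (fun _ => Pt) (kf xf23 yf21 zf14) (kf xf19 yf16 zf35) (kf xf23 yf21 zf12) (kf xf23 yf21 zf13) (kf xf23 yf21 zf15) (kf xf25 yf37 zf4) (kf xf12 yf48 zf24) (kf xf23 yf20 zf54) (kf xf23 yf20 zf52) (kf xf30 yf13 zf24) (kf xf12 yf48 zf25) (kf xf21 yf43 zf35) (kf xf12 yf48 zf26) (kf xf16 yf17 zf3) (kf xf13 yf59 zf50) (kf xf23 yf18 zf0) (kf xf23 yf21 zf8) (kf xf23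 yf21 zf7) (kf xf30 yf13 zf26) (kf xf23 yf21 zf5) (kf xf23 yf21 zf2) (kf xf14 yf39 zf22) (kf xf12 yf48 zf32) (kf xf14 yf37 zf30) (kf xf12 yf48 zf33) (kf xf29 yf52 zf12) (kf xf19 yf5 zf48) (kf xf20 yf15 zf61) (kf xf21 yf27 zf57) (kf xf21 yf46 zf41) (kf xf12 yf48 zf38) (kf xf24 yf41 zf50) (kf xf20 yf16 zf5) (kf xf29 yf49 zf32) (kf xf23 yf42 zf41) (kf xf20 yf16 zf4) (kf xf16 yf41 zf41) (kf xf29 yf52 zf14) (kf xf13 yf59 zf49) (kf xf29 yf11 zf21) (kf xf30 yf13 zf15) (kf xf29 yf11 zf22) (kf xf23 yf42 zf45) (kf xf29 yf52 zf17) (kf xf29 yf52 zf18) (kf xf14 yf10 zf50) (kf xf29 yf52 zf19) (kf xf23 yf37 zf16) (kf xf13 yf59 zf29) (kf xf22 yf31 zf51) (kf xf22 yf31 zf34) (kf xf23 yf37 zf30) (kf xf22 yf31 zf21) (kf xf22 yf31 zf20) (kf xf30 yf13 zf58) (kf xf12 yf48 zf48) (kf xf30 yf13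 zf59) (kf xf22 yf31 zf54) (kf xf22 yf31 zf53) (kf xf30 yf13 zf61) (kf xf12 yf48 zf50) (kf xf29 yf9 zf7)) (@D3.rec (fun _ => Pt) (kf xf13 yf24 zf11) (kf xf13 yf24 zf10) (kf xf12 yf48 zf52) (kf xf22 yf31 zf44) (kf xf22 yf45 zf56) (kf xf30 yf14 zf4) (kf xf22 yf31 zf43) (kf xf22 yf58 zf17) (kf xf30 yf14 zf5) (kf xf15 yf26 zf30) (kf xf17 yf22 zf46) (kf xf29 yf37 zf48) (kf xf12 yf50 zf28) (kf xf12 yf50 zf11) (kf xf12 yf50 zf13) (kf xf27 yf27 zf4) (kf xf17 yf43 zf52) (kf xf27 yf29 zf54) (kf xf27 yf25 zf32) (kf xf12 yf50 zf26) (kf xf12 yf49 zf57) (kf xf28 yf57 zf57) (kf xf27 yf20 zf14) (kf xf27 yf20 zf15) (kf xf30 yf8 zf37) (kf xf24 yf36 zf25) (kf xf28 yf56 zf28) (kf xf12 yf49 zf16) (kf xf12 yf49 zf15) (kf xf20 yf26 zf30) (kf xf30 yf7 zf40) (kf xf13 yf0 zf59) (kf xf28 yf13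 zf55) (kf xf21 yf40 zf35) (kf xf19 yf39 zf7) (kf xf29 yf43 zf45) (kf xf30 yf14 zf9) (kf xf12 yf49 zf17) (kf xf19 yf43 zf0) (kf xf19 yf46 zf44) (kf xf20 yf49 zf56) (kf xf20 yf49 zf57) (kf xf20 yf50 zf14) (kf xf15 yf58 zf37) (kf xf20 yf35 zf51) (kf xf21 yf3 zf4) (kf xf24 yf36 zf26) (kf xf24 yf36 zf27) (kf xf24 yf36 zf28) (kf xf23 yf26 zf24) (kf xf22 yf11 zf54) (kf xf23 yf26 zf21) (kf xf23 yf26 zf31) (kf xf24 yf36 zf31) (kf xf15 yf22 zf29) (kf xf20 yf3 zf8) (kf xf29 yf17 zf43) (kf xf24 yf37 zf3) (kf xf18 yf25 zf39) (kf xf20 yf54 zf24) (kf xf26 yf40 zf40) (kf xf12 yf54 zf35)) (@D3.rec (fun _ => Pt) (kf xf18 yf24 zf3) (kf xf21 yf22 zf51) (kf xf19 yf49 zf32) (kf xf21 yf17 zf7) (kf xf27 yf19 zf30) (kf xf19 yf49 zf43) (kf xf26 yf37 zf21) (kf xf28 yf42 zf21) (kf xf29 yf28 zf14)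 (kf xf27 yf20 zf5) (kf xf17 yf29 zf16) (kf xf27 yf20 zf2) (kf xf27 yf20 zf6) (kf xf26 yf45 zf42) (kf xf17 yf37 zf11) (kf xf22 yf6 zf23) (kf xf18 yf7 zf56) (kf xf21 yf34 zf0) (kf xf21 yf22 zf32) (kf xf21 yf33 zf61) (kf xf17 yf37 zf49) (kf xf26 yf16 zf57) (kf xf22 yf11 zf25) (kf xf26 yf45 zf41) (kf xf21 yf34 zf3) (kf xf16 yf17 zf18) (kf xf16 yf17 zf17) (kf xf17 yf30 zf18) (kf xf16 yf17 zf23) (kf xf14 yf57 zf44) (kf xf27 yf24 zf56) (kf xf22 yf11 zf15) (kf xf22 yf11 zf14) (kf xf17 yf44 zf19) (kf xf17 yf30 zf32) (kf xf12 yf50 zf23) (kf xf25 yf14 zf45) (kf xf30 yf11 zf2) (kf xf24 yf18 zf32) (kf xf12 yf50 zf21) (kf xf26 yf10 zf50) (kf xf21 yf49 zf53) (kf xf27 yf45 zf8) (kf xf27 yf27 zf21) (kf xf12 yf50 zf24) (kf xf26 yf18 zf7) (kf xf30 yf5 zf16) (kf xf21 yf45 zf40) (kf xf30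 yf14 zf7) (kf xf22 yf11 zf43) (kf xf12 yf50 zf29) (kf xf30 yf14 zf24) (kf xf19 yf29 zf42) (kf xf27 yf10 zf60) (kf xf27 yf10 zf59) (kf xf25 yf29 zf16) (kf xf25 yf31 zf36) (kf xf25 yf26 zf59) (kf xf12 yf52 zf15) (kf xf21 yf7 zf17) (kf xf21 yf22 zf31) (kf xf27 yf19 zf53)) (@D3.rec (fun _ => Pt) (kf xf27 yf19 zf54) (kf xf21 yf23 zf39) (kf xf27 yf19 zf55) (kf xf21 yf23 zf40) (kf xf27 yf19 zf51) (kf xf27 yf19 zf52) (kf xf22 yf10 zf24) (kf xf27 yf5 zf58) (kf xf21 yf23 zf29) (kf xf21 yf23 zf13) (kf xf21 yf23 zf26) (kf xf21 yf23 zf31) (kf xf21 yf23 zf24) (kf xf21 yf23 zf27) (kf xf21 yf23 zf33) (kf xf21 yf19 zf23) (kf xf21 yf23 zf20) (kf xf12 yf51 zf2) (kf xf16 yf14 zf37) (kf xf12 yf50 zf60) (kf xf12 yf50 zf61) (kf xf12 yf51 zf0) (kf xf29 yf22 zf18) (kf xf17 yf50 zf43) (kf xf17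 yf14 zf40) (kf xf29 yf52 zf37) (kf xf27 yf25 zf5) (kf xf23 yf50 zf24) (kf xf12 yf50 zf56) (kf xf13 yf2 zf26) (kf xf12 yf50 zf57) (kf xf17 yf31 zf1) (kf xf25 yf18 zf57) (kf xf30 yf8 zf38) (kf xf27 yf23 zf35) (kf xf30 yf14 zf35) (kf xf28 yf9 zf60) (kf xf30 yf14 zf19) (kf xf16 yf17 zf53) (kf xf28 yf9 zf61) (kf xf12 yf51 zf3) (kf xf29 yf40 zf50) (kf xf26 yf5 zf28) (kf xf26 yf10 zf36) (kf xf30 yf12 zf25) (kf xf14 yf28 zf56) (kf xf29 yf40 zf43) (kf xf12 yf51 zf5) (kf xf26 yf5 zf27) (kf xf12 yf51 zf6) (kf xf17 yf35 zf21) (kf xf17 yf35 zf22) (kf xf21 yf23 zf11) (kf xf14 yf48 zf1) (kf xf12 yf55 zf14) (kf xf19 yf22 zf12) (kf xf24 yf26 zf18) (kf xf14 yf13 zf40) (kf xf20 yf50 zf48) (kf xf27 yf17 zf7) (kf xf27 yf17 zf8) (kf xf24 yf25 zf25))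
def f_f_22 : D2 → D3 → Pt := @D2.rec (fun _ => D3 → Pt) (@D3.rec (fun _ => Pt) (kf xf12 yf51 zf41) (kf xf12 yf51 zf45) (kf xf24 yf26 zf19) (kf xf12 yf51 zf51) (kf xf29 yf2 zf5) (kf xf12 yf51 zf59) (kf xf12 yf51 zf60) (kf xf12 yf51 zf56) (kf xf22 yf25 zf50) (kf xf12 yf52 zf1) (kf xf12 yf52 zf0) (kf xf27 yf17 zf9) (kf xf12 yf52 zf34) (kf xf12 yf52 zf18) (kf xf12 yf52 zf19) (kf xf12 yf52 zf20) (kf xf12 yf52 zf21) (kf xf12 yf52 zf23) (kf xf27 yf17 zf13) (kf xf27 yf17 zf14) (kf xf27 yf17 zf15) (kf xf27 yf17 zf16) (kf xf12 yf52 zf32) (kf xf12 yf52 zf3) (kf xf26 yf44 zf9) (kf xf24 yf11 zf33) (kf xf14 yf16 zf18) (kf xf14 yf16 zf19) (kf xf14 yf16 zf15) (kf xf14 yf16 zf16) (kf xf14 yf16 zf17) (kf xf27 yf10 zf30) (kf xf14 yf16 zf22) (kf xf14 yf16 zf21) (kf xf14 yf26 zf18) (kf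 xf17 yf11 zf53) (kf xf17 yf11 zf45) (kf xf17 yf24 zf13) (kf xf14 yf25 zf54) (kf xf13 yf34 zf41) (kf xf14 yf34 zf5) (kf xf14 yf43 zf58) (kf xf30 yf14 zf49) (kf xf30 yf15 zf18) (kf xf14 yf43 zf60) (kf xf30 yf15 zf21) (kf xf14 yf25 zf55) (kf xf30 yf7 zf3) (kf xf30 yf14 zf51) (kf xf25 yf51 zf35) (kf xf13 yf12 zf5) (kf xf30 yf14 zf52) (kf xf22 yf0 zf53) (kf xf22 yf0 zf52) (kf xf12 yf51 zf46) (kf xf24 yf30 zf9) (kf xf24 yf30 zf10) (kf xf29 yf41 zf4) (kf xf20 yf33 zf51) (kf xf19 yf25 zf32) (kf xf30 yf15 zf20) (kf xf17 yf26 zf34)) (@D3.rec (fun _ => Pt) (kf xf17 yf26 zf31) (kf xf30 yf15 zf39) (kf xf27 yf8 zf37) (kf xf27 yf8 zf36) (kf xf12 yf51 zf52) (kf xf27 yf10 zf27) (kf xf27 yf10 zf28) (kf xf30 yf15 zf44) (kf xf28 yf53 zf46) (kf xf30 yf14 zf54) (kf xf12 yf51 zf54) (kf xf29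 yf41 zf7) (kf xf17 yf17 zf27) (kf xf22 yf25 zf52) (kf xf17 yf26 zf29) (kf xf17 yf26 zf26) (kf xf25 yf7 zf59) (kf xf28 yf18 zf26) (kf xf14 yf13 zf44) (kf xf30 yf15 zf53) (kf xf30 yf14 zf55) (kf xf30 yf14 zf56) (kf xf30 yf15 zf59) (kf xf28 yf48 zf61) (kf xf30 yf14 zf58) (kf xf12 yf51 zf61) (kf xf22 yf25 zf0) (kf xf30 yf14 zf59) (kf xf28 yf18 zf29) (kf xf29 yf46 zf51) (kf xf30 yf14 zf25) (kf xf30 yf16 zf10) (kf xf30 yf16 zf16) (kf xf30 yf16 zf12) (kf xf30 yf16 zf11) (kf xf20 yf55 zf29) (kf xf12 yf52 zf2) (kf xf29 yf44 zf27) (kf xf28 yf40 zf6) (kf xf27 yf17 zf12) (kf xf27 yf17 zf11) (kf xf27 yf7 zf32) (kf xf29 yf32 zf28) (kf xf27 yf7 zf35) (kf xf30 yf16 zf29) (kf xf24 yf25 zf50) (kf xf27 yf16 zf0) (kf xf12 yf52 zf8) (kf xf24 yf42 zf41) (kf xf23 yf36 zf8) (kf xf27 yf7 zf39)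 (kf xf27 yf7 zf40) (kf xf17 yf29 zf9) (kf xf24 yf2 zf36) (kf xf17 yf29 zf10) (kf xf22 yf11 zf21) (kf xf25 yf29 zf35) (kf xf15 yf59 zf18) (kf xf28 yf58 zf27) (kf xf17 yf27 zf29) (kf xf17 yf27 zf31) (kf xf25 yf29 zf4)) (@D3.rec (fun _ => Pt) (kf xf15 yf46 zf41) (kf xf23 yf24 zf21) (kf xf23 yf23 zf39) (kf xf25 yf31 zf31) (kf xf28 yf50 zf37) (kf xf15 yf37 zf20) (kf xf28 yf25 zf17) (kf xf25 yf56 zf49) (kf xf25 yf54 zf54) (kf xf15 yf35 zf7) (kf xf17 yf27 zf24) (kf xf17 yf27 zf27) (kf xf12 yf52 zf29) (kf xf19 yf35 zf55) (kf xf30 yf4 zf9) (kf xf28 yf58 zf56) (kf xf26 yf23 zf55) (kf xf29 yf23 zf30) (kf xf30 yf16 zf51) (kf xf30 yf16 zf54) (kf xf15 yf17 zf16) (kf xf12 yf52 zf30) (kf xf29 yf17 zf9) (kf xf19 yf45 zf53) (kf xf19 yf45 zf55) (kf xf30 yf15 zf0) (kf xf25 yf59 zf55) (kf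 xf21 yf32 zf12) (kf xf17 yf29 zf36) (kf xf21 yf32 zf8) (kf xf21 yf32 zf9) (kf xf27 yf20 zf45) (kf xf27 yf20 zf46) (kf xf16 yf23 zf58) (kf xf27 yf20 zf47) (kf xf22 yf3 zf33) (kf xf22 yf3 zf41) (kf xf25 yf34 zf15) (kf xf16 yf42 zf58) (kf xf21 yf50 zf61) (kf xf20 yf51 zf15) (kf xf26 yf25 zf22) (kf xf27 yf20 zf40) (kf xf17 yf59 zf32) (kf xf21 yf9 zf24) (kf xf24 yf35 zf58) (kf xf19 yf34 zf55) (kf xf21 yf39 zf15) (kf xf21 yf24 zf45) (kf xf21 yf24 zf48) (kf xf17 yf14 zf26) (kf xf21 yf32 zf57) (kf xf21 yf32 zf50) (kf xf20 yf9 zf55) (kf xf17 yf58 zf2) (kf xf21 yf32 zf49) (kf xf21 yf25 zf22) (kf xf21 yf32 zf51) (kf xf12 yf53 zf2) (kf xf25 yf24 zf51) (kf xf30 yf16 zf41) (kf xf12 yf52 zf60)) (@D3.rec (fun _ => Pt) (kf xf26 yf5 zf38) (kf xf25 yf38 zf25) (kf xf25 yf29 zf32) (kf xf26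 yf41 zf32) (kf xf12 yf53 zf6) (kf xf23 yf10 zf46) (kf xf25 yf31 zf11) (kf xf29 yf29 zf39) (kf xf29 yf31 zf50) (kf xf22 yf29 zf6) (kf xf30 yf17 zf8) (kf xf12 yf53 zf7) (kf xf19 yf27 zf19) (kf xf21 yf35 zf23) (kf xf21 yf45 zf6) (kf xf12 yf53 zf27) (kf xf18 yf1 zf19) (kf xf16 yf7 zf41) (kf xf26 yf38 zf5) (kf xf18 yf25 zf17) (kf xf18 yf24 zf40) (kf xf29 yf58 zf59) (kf xf17 yf59 zf28) (kf xf22 yf4 zf53) (kf xf26 yf58 zf57) (kf xf26 yf58 zf55) (kf xf21 yf50 zf59) (kf xf17 yf3 zf55) (kf xf20 yf53 zf49) (kf xf20 yf53 zf54) (kf xf20 yf53 zf58) (kf xf20 yf20 zf45) (kf xf25 yf31 zf56) (kf xf22 yf2 zf35) (kf xf12 yf53 zf47) (kf xf21 yf23 zf54) (kf xf17 yf59 zf31) (kf xf22 yf37 zf0) (kf xf25 yf31 zf6) (kf xf26 yf59 zf2) (kf xf26 yf59 zf1) (kf xf22 yf2 zf36) (kf xf21 yf6 zf53) (kf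 xf12 yf54 zf6) (kf xf12 yf54 zf24) (kf xf21 yf26 zf54) (kf xf12 yf54 zf14) (kf xf16 yf2 zf3) (kf xf26 yf5 zf59) (kf xf29 yf21 zf54) (kf xf21 yf51 zf47) (kf xf20 yf55 zf61) (kf xf22 yf4 zf12) (kf xf26 yf42 zf19) (kf xf26 yf7 zf56) (kf xf22 yf4 zf13) (kf xf26 yf34 zf49) (kf xf20 yf58 zf26) (kf xf19 yf1 zf8) (kf xf19 yf1 zf7) (kf xf20 yf57 zf27) (kf xf29 yf56 zf9)) (@D3.rec (fun _ => Pt) (kf xf26 yf33 zf34) (kf xf28 yf0 zf22) (kf xf16 yf41 zf45) (kf xf16 yf41 zf28) (kf xf12 yf54 zf16) (kf xf16 yf37 zf57) (kf xf12 yf54 zf19) (kf xf25 yf52 zf38) (kf xf24 yf29 zf38) (kf xf22 yf9 zf60) (kf xf21 yf50 zf44) (kf xf26 yf2 zf34) (kf xf22 yf3 zf52) (kf xf22 yf3 zf55) (kf xf26 yf37 zf28) (kf xf26 yf38 zf8) (kf xf22 yf4 zf18) (kf xf28 yf33 zf25) (kf xf22 yf4 zf16) (kf xf30 yf17 zf29)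 (kf xf26 yf38 zf16) (kf xf24 yf3 zf26) (kf xf29 yf49 zf7) (kf xf29 yf49 zf6) (kf xf12 yf54 zf43) (kf xf21 yf55 zf23) (kf xf20 yf34 zf33) (kf xf21 yf2 zf30) (kf xf21 yf2 zf31) (kf xf25 yf41 zf5) (kf xf12 yf54 zf58) (kf xf22 yf8 zf35) (kf xf14 yf33 zf6) (kf xf21 yf2 zf15) (kf xf22 yf5 zf24) (kf xf16 yf6 zf23) (kf xf22 yf5 zf25) (kf xf26 yf8 zf20) (kf xf27 yf22 zf13) (kf xf27 yf22 zf14) (kf xf30 yf17 zf47) (kf xf25 yf41 zf24) (kf xf12 yf54 zf56) (kf xf20 yf18 zf55) (kf xf30 yf17 zf41) (kf xf18 yf48 zf42) (kf xf21 yf44 zf11) (kf xf16 yf53 zf51) (kf xf20 yf42 zf49) (kf xf27 yf21 zf27) (kf xf19 yf39 zf18) (kf xf26 yf59 zf56) (kf xf21 yf9 zf29) (kf xf22 yf3 zf23) (kf xf17 yf15 zf54) (kf xf15 yf48 zf33) (kf xf20 yf51 zf14) (kf xf21 yf53 zf49) (kf xf22 yf6 zf18) (kf xf20 yf12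 zf18) (kf xf23 yf31 zf2) (kf xf20 yf12 zf17)) (@D3.rec (fun _ => Pt) (kf xf24 yf33 zf6) (kf xf21 yf52 zf6) (kf xf21 yf9 zf33) (kf xf30 yf14 zf43) (kf xf26 yf1 zf26) (kf xf21 yf24 zf54) (kf xf27 yf21 zf36) (kf xf21 yf27 zf0) (kf xf15 yf25 zf30) (kf xf21 yf9 zf36) (kf xf21 yf9 zf37) (kf xf19 yf27 zf25) (kf xf19 yf27 zf26) (kf xf26 yf49 zf41) (kf xf24 yf53 zf28) (kf xf27 yf21 zf59) (kf xf19 yf43 zf7) (kf xf19 yf34 zf5) (kf xf24 yf53 zf31) (kf xf15 yf24 zf51) (kf xf17 yf23 zf18) (kf xf26 yf59 zf28) (kf xf27 yf1 zf1) (kf xf26 yf8 zf12) (kf xf22 yf4 zf34) (kf xf22 yf4 zf36) (kf xf27 yf22 zf18) (kf xf30 yf18 zf1) (kf xf16 yf13 zf26) (kf xf18 yf1 zf42) (kf xf17 yf56 zf52) (kf xf24 yf33 zf31) (kf xf24 yf32 zf8) (kf xf24 yf32 zf57) (kf xf27 yf37 zf37) (kf xf24 yf34 zf33) (kf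 xf27 yf22 zf16) (kf xf19 yf41 zf26) (kf xf19 yf41 zf27) (kf xf19 yf49 zf25) (kf xf19 yf40 zf35) (kf xf27 yf22 zf20) (kf xf25 yf52 zf26) (kf xf24 yf58 zf1) (kf xf25 yf52 zf30) (kf xf25 yf17 zf48) (kf xf20 yf54 zf2) (kf xf12 yf56 zf7) (kf xf12 yf56 zf8) (kf xf24 yf57 zf58) (kf xf30 yf18 zf8) (kf xf26 yf0 zf4) (kf xf29 yf38 zf17) (kf xf24 yf58 zf33) (kf xf12 yf56 zf3) (kf xf26 yf11 zf15) (kf xf14 yf8 zf12) (kf xf18 yf34 zf58) (kf xf12 yf56 zf4) (kf xf18 yf35 zf39) (kf xf15 yf25 zf37) (kf xf14 yf47 zf14)) (@D3.rec (fun _ => Pt) (kf xf27 yf20 zf22) (kf xf17 yf51 zf43) (kf xf27 yf4 zf21) (kf xf25 yf39 zf53) (kf xf16 yf3 zf15) (kf xf27 yf3 zf23) (kf xf20 yf54 zf9) (kf xf20 yf54 zf10) (kf xf13 yf1 zf2) (kf xf27 yf22 zf60) (kf xf21 yf11 zf34) (kf xf13 yf2 zf27) (kf xf13 yf2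 zf28) (kf xf21 yf54 zf19) (kf xf19 yf11 zf43) (kf xf16 yf43 zf49) (kf xf24 yf23 zf24) (kf xf21 yf32 zf21) (kf xf22 yf4 zf58) (kf xf27 yf22 zf56) (kf xf13 yf2 zf13) (kf xf27 yf22 zf61) (kf xf21 yf36 zf1) (kf xf21 yf58 zf15) (kf xf17 yf29 zf45) (kf xf17 yf53 zf24) (kf xf21 yf9 zf39) (kf xf19 yf48 zf43) (kf xf20 yf12 zf11) (kf xf17 yf31 zf48) (kf xf21 yf9 zf2) (kf xf13 yf10 zf47) (kf xf27 yf6 zf24) (kf xf27 yf10 zf17) (kf xf25 yf28 zf28) (kf xf12 yf57 zf21) (kf xf12 yf57 zf20) (kf xf30 yf18 zf26) (kf xf12 yf56 zf58) (kf xf21 yf38 zf35) (kf xf22 yf16 zf22) (kf xf25 yf24 zf34) (kf xf22 yf54 zf9) (kf xf27 yf16 zf43) (kf xf27 yf22 zf40) (kf xf27 yf22 zf41) (kf xf27 yf22 zf42) (kf xf25 yf24 zf57) (kf xf18 yf51 zf18) (kf xf30 yf18 zf28) (kf xf26 yf24 zf34) (kf xf30 yf18 zf37)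 (kf xf12 yf57 zf6) (kf xf18 yf23 zf14) (kf xf16 yf58 zf13) (kf xf16 yf58 zf15) (kf xf27 yf16 zf50) (kf xf14 yf26 zf12) (kf xf14 yf25 zf58) (kf xf28 yf24 zf0) (kf xf28 yf24 zf1) (kf xf26 yf45 zf13)) (@D3.rec (fun _ => Pt) (kf xf22 yf47 zf2) (kf xf13 yf45 zf33) (kf xf17 yf11 zf59) (kf xf28 yf23 zf59) (kf xf17 yf26 zf15) (kf xf15 yf47 zf12) (kf xf25 yf6 zf53) (kf xf14 yf26 zf35) (kf xf22 yf20 zf54) (kf xf27 yf6 zf47) (kf xf25 yf25 zf12) (kf xf30 yf18 zf23) (kf xf29 yf48 zf24) (kf xf30 yf18 zf24) (kf xf30 yf19 zf7) (kf xf12 yf57 zf22) (kf xf13 yf17 zf53) (kf xf17 yf17 zf26) (kf xf17 yf17 zf28) (kf xf27 yf59 zf7) (kf xf17 yf17 zf46) (kf xf27 yf16 zf61) (kf xf17 yf20 zf51) (kf xf17 yf26 zf59) (kf xf19 yf9 zf1) (kf xf17 yf27 zf1) (kf xf16 yf1 zf54) (kf xf16 yf1 zf53) (kf xf12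 yf57 zf35) (kf xf27 yf2 zf26) (kf xf30 yf19 zf19) (kf xf24 yf18 zf36) (kf xf12 yf57 zf56) (kf xf19 yf47 zf17) (kf xf17 yf32 zf21) (kf xf24 yf50 zf43) (kf xf27 yf22 zf49) (kf xf15 yf29 zf17) (kf xf15 yf29 zf16) (kf xf25 yf22 zf1) (kf xf27 yf22 zf51) (kf xf25 yf21 zf52) (kf xf27 yf29 zf33) (kf xf29 yf14 zf27) (kf xf20 yf51 zf40) (kf xf17 yf32 zf18) (kf xf20 yf41 zf56) (kf xf20 yf41 zf55) (kf xf16 yf58 zf24) (kf xf19 yf42 zf43) (kf xf19 yf47 zf19) (kf xf25 yf52 zf31) (kf xf25 yf52 zf32) (kf xf20 yf25 zf46) (kf xf21 yf9 zf59) (kf xf14 yf35 zf26) (kf xf17 yf20 zf2) (kf xf24 yf12 zf33) (kf xf17 yf2 zf41) (kf xf20 yf24 zf17) (kf xf20 yf24 zf21) (kf xf16 yf31 zf9)) (@D3.rec (fun _ => Pt) (kf xf12 yf58 zf7) (kf xf20 yf9 zf16) (kf xf12 yf58 zf42) (kf xf12 yf58 zf43) (kf xf16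 yf43 zf51) (kf xf16 yf43 zf10) (kf xf21 yf38 zf23) (kf xf21 yf38 zf24) (kf xf17 yf38 zf45) (kf xf21 yf32 zf47) (kf xf13 yf52 zf26) (kf xf27 yf9 zf10) (kf xf25 yf29 zf40) (kf xf17 yf45 zf32) (kf xf21 yf41 zf38) (kf xf23 yf47 zf23) (kf xf13 yf52 zf25) (kf xf23 yf47 zf30) (kf xf18 yf7 zf48) (kf xf26 yf15 zf21) (kf xf25 yf34 zf3) (kf xf27 yf23 zf4) (kf xf27 yf23 zf5) (kf xf14 yf12 zf8) (kf xf27 yf23 zf6) (kf xf21 yf46 zf39) (kf xf22 yf10 zf59) (kf xf22 yf11 zf0) (kf xf21 yf20 zf46) (kf xf17 yf14 zf37) (kf xf21 yf7 zf7) (kf xf21 yf26 zf7) (kf xf21 yf54 zf44) (kf xf21 yf41 zf41) (kf xf21 yf41 zf40) (kf xf22 yf4 zf31) (kf xf20 yf51 zf27) (kf xf13 yf52 zf56) (kf xf13 yf52 zf55) (kf xf21 yf49 zf44) (kf xf24 yf42 zf57) (kf xf18 yf8 zf29) (kf xf18 yf8 zf32) (kf xf21 yf4 zf29)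 (kf xf22 yf14 zf49) (kf xf22 yf14 zf50) (kf xf21 yf25 zf5) (kf xf21 yf31 zf23) (kf xf21 yf31 zf24) (kf xf24 yf44 zf6) (kf xf21 yf4 zf34) (kf xf17 yf38 zf9) (kf xf22 yf35 zf17) (kf xf23 yf21 zf61) (kf xf23 yf21 zf60) (kf xf12 yf58 zf61) (kf xf21 yf28 zf21) (kf xf27 yf23 zf17) (kf xf18 yf29 zf41) (kf xf18 yf29 zf35) (kf xf21 yf25 zf41) (kf xf21 yf27 zf25)) (@D3.rec (fun _ => Pt) (kf xf21 yf34 zf54) (kf xf23 yf22 zf18) (kf xf27 yf23 zf18) (kf xf27 yf46 zf31) (kf xf21 yf5 zf18) (kf xf21 yf5 zf19) (kf xf21 yf5 zf20) (kf xf21 yf5 zf21) (kf xf24 yf58 zf6) (kf xf25 yf5 zf40) (kf xf27 yf4 zf54) (kf xf21 yf5 zf22) (kf xf21 yf5 zf23) (kf xf21 yf5 zf24) (kf xf15 yf40 zf46) (kf xf15 yf16 zf27) (kf xf21 yf5 zf25) (kf xf21 yf5 zf26) (kf xf21 yf5 zf30) (kf xf26 yf5 zf45) (kf xf21 yf5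 zf31) (kf xf21 yf5 zf32) (kf xf14 yf31 zf34) (kf xf25 yf59 zf49) (kf xf27 yf11 zf33) (kf xf29 yf0 zf17) (kf xf25 yf59 zf52) (kf xf26 yf2 zf8) (kf xf21 yf5 zf37) (kf xf21 yf5 zf38) (kf xf21 yf5 zf39) (kf xf15 yf48 zf44) (kf xf21 yf5 zf43) (kf xf21 yf5 zf45) (kf xf21 yf5 zf46) (kf xf15 yf58 zf19) (kf xf21 yf24 zf53) (kf xf21 yf22 zf61) (kf xf17 yf8 zf47) (kf xf15 yf34 zf31) (kf xf22 yf10 zf49) (kf xf15 yf39 zf6) (kf xf15 yf39 zf60) (kf xf22 yf10 zf50) (kf xf15 yf40 zf14) (kf xf15 yf39 zf49) (kf xf15 yf40 zf13) (kf xf15 yf40 zf15) (kf xf24 yf8 zf43) (kf xf15 yf40 zf17) (kf xf15 yf40 zf18) (kf xf22 yf10 zf58) (kf xf22 yf10 zf61) (kf xf16 yf57 zf27) (kf xf16 yf6 zf59) (kf xf18 yf12 zf34) (kf xf17 yf13 zf33) (kf xf17 yf13 zf36) (kf xf24 yf7 zf10) (kf xf27 yf31 zf39) (kf xf22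 yf4 zf9) (kf xf21 yf9 zf46)) (@D3.rec (fun _ => Pt) (kf xf26 yf2 zf29) (kf xf26 yf50 zf57) (kf xf12 yf59 zf59) (kf xf17 yf16 zf24) (kf xf17 yf16 zf28) (kf xf30 yf14 zf31) (kf xf17 yf16 zf29) (kf xf17 yf14 zf5) (kf xf29 yf23 zf29) (kf xf29 yf12 zf55) (kf xf13 yf0 zf4) (kf xf26 yf3 zf29) (kf xf29 yf52 zf34) (kf xf26 yf0 zf50) (kf xf19 yf14 zf49) (kf xf23 yf46 zf57) (kf xf23 yf31 zf43) (kf xf30 yf8 zf51) (kf xf29 yf52 zf35) (kf xf26 yf3 zf33) (kf xf29 yf52 zf36) (kf xf30 yf17 zf59) (kf xf25 yf41 zf47) (kf xf15 yf45 zf4) (kf xf21 yf59 zf6) (kf xf13 yf0 zf9) (kf xf21 yf27 zf26) (kf xf21 yf27 zf27) (kf xf21 yf27 zf28) (kf xf28 yf57 zf44) (kf xf13 yf0 zf11) (kf xf19 yf10 zf43) (kf xf21 yf4 zf42) (kf xf23 yf46 zf55) (kf xf24 yf18 zf27) (kf xf26 yf10 zf28) (kf xf21 yf33 zf4)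 (kf xf29 yf52 zf38) (kf xf21 yf27 zf31) (kf xf21 yf27 zf32) (kf xf21 yf33 zf5) (kf xf27 yf48 zf8) (kf xf29 yf21 zf52) (kf xf23 yf6 zf26) (kf xf28 yf6 zf45) (kf xf13 yf0 zf32) (kf xf21 yf39 zf23) (kf xf21 yf39 zf24) (kf xf21 yf39 zf25) (kf xf22 yf9 zf40) (kf xf22 yf9 zf43) (kf xf21 yf46 zf10) (kf xf14 yf27 zf58) (kf xf14 yf1 zf19) (kf xf14 yf27 zf55) (kf xf15 yf15 zf58) (kf xf13 yf0 zf40) (kf xf21 yf39 zf41) (kf xf22 yf9 zf51) (kf xf22 yf8 zf26) (kf xf21 yf39 zf27) (kf xf22 yf9 zf52)) (@D3.rec (fun _ => Pt) (kf xf22 yf8 zf27) (kf xf14 yf4 zf35) (kf xf14 yf4 zf37) (kf xf13 yf0 zf58) (kf xf21 yf22 zf50) (kf xf23 yf28 zf12) (kf xf13 yf0 zf54) (kf xf17 yf38 zf32) (kf xf17 yf38 zf31) (kf xf17 yf57 zf51) (kf xf20 yf4 zf3) (kf xf20 yf4 zf2) (kf xf27 yf30 zf58) (kf xf27 yf30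 zf59) (kf xf21 yf58 zf32) (kf xf21 yf58 zf31) (kf xf21 yf33 zf58) (kf xf21 yf33 zf57) (kf xf17 yf19 zf37) (kf xf17 yf26 zf22) (kf xf17 yf26 zf24) (kf xf22 yf1 zf55) (kf xf17 yf27 zf36) (kf xf26 yf46 zf50) (kf xf13 yf1 zf24) (kf xf21 yf58 zf22) (kf xf26 yf13 zf0) (kf xf26 yf11 zf28) (kf xf13 yf1 zf27) (kf xf14 yf4 zf32) (kf xf25 yf27 zf15) (kf xf21 yf25 zf45) (kf xf13 yf1 zf28) (kf xf18 yf24 zf31) (kf xf27 yf11 zf37) (kf xf21 yf52 zf16) (kf xf19 yf24 zf59) (kf xf17 yf31 zf24) (kf xf20 yf5 zf33) (kf xf23 yf34 zf27) (kf xf23 yf34 zf28) (kf xf26 yf50 zf37) (kf xf27 yf20 zf20) (kf xf21 yf58 zf49) (kf xf27 yf50 zf37) (kf xf21 yf25 zf6) (kf xf21 yf25 zf7) (kf xf21 yf25 zf8) (kf xf21 yf19 zf60) (kf xf21 yf19 zf61) (kf xf21 yf20 zf0) (kf xf25 yf39 zf22) (kf xf19 yf27 zf11) (kf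 xf30 yf18 zf21) (kf xf21 yf57 zf50) (kf xf15 yf0 zf15) (kf xf19 yf40 zf6) (kf xf19 yf27 zf12) (kf xf19 yf27 zf2) (kf xf19 yf27 zf3) (kf xf19 yf48 zf6) (kf xf19 yf27 zf5)) (@D3.rec (fun _ => Pt) (kf xf30 yf18 zf18) (kf xf20 yf22 zf20) (kf xf20 yf22 zf18) (kf xf20 yf22 zf19) (kf xf20 yf12 zf61) (kf xf20 yf5 zf36) (kf xf14 yf2 zf35) (kf xf14 yf2 zf36) (kf xf14 yf2 zf37) (kf xf13 yf34 zf61) (kf xf13 yf34 zf58) (kf xf22 yf45 zf46) (kf xf22 yf45 zf47) (kf xf14 yf5 zf10) (kf xf22 yf45 zf48) (kf xf22 yf45 zf30) (kf xf22 yf45 zf29) (kf xf13 yf2 zf40) (kf xf13 yf5 zf12) (kf xf14 yf6 zf2) (kf xf14 yf10 zf1) (kf xf14 yf10 zf3) (kf xf14 yf10 zf5) (kf xf19 yf14 zf37) (kf xf28 yf10 zf6) (kf xf14 yf9 zf59) (kf xf13 yf2 zf46) (kf xf27 yf2 zf28) (kf xf14 yf13 zf18) (kf xf14 yf13 zf17)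 (kf xf22 yf29 zf47) (kf xf22 yf19 zf7) (kf xf22 yf29 zf50) (kf xf30 yf20 zf49) (kf xf13 yf2 zf51) (kf xf27 yf2 zf29) (kf xf13 yf3 zf16) (kf xf13 yf3 zf26) (kf xf13 yf3 zf27) (kf xf13 yf3 zf44) (kf xf13 yf12 zf19) (kf xf13 yf4 zf7) (kf xf29 yf36 zf50) (kf xf22 yf13 zf43) (kf xf18 yf36 zf53) (kf xf13 yf6 zf53) (kf xf23 yf53 zf52) (kf xf23 yf18 zf51) (kf xf13 yf5 zf50) (kf xf13 yf5 zf49) (kf xf13 yf59 zf19) (kf xf13 yf3 zf9) (kf xf13 yf5 zf59) (kf xf30 yf21 zf5) (kf xf13 yf6 zf3) (kf xf29 yf38 zf31) (kf xf13 yf6 zf0) (kf xf13 yf6 zf1) (kf xf30 yf21 zf9) (kf xf22 yf17 zf27) (kf xf22 yf24 zf9) (kf xf21 yf14 zf45)) (@D3.rec (fun _ => Pt) (kf xf14 yf52 zf6) (kf xf22 yf15 zf28) (kf xf22 yf14 zf61) (kf xf22 yf23 zf60) (kf xf22 yf15 zf31) (kf xf20 yf22 zf45) (kf xf24 yf15 zf39)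 (kf xf23 yf13 zf15) (kf xf28 yf16 zf28) (kf xf20 yf43 zf4) (kf xf20 yf43 zf7) (kf xf29 yf50 zf11) (kf xf24 yf38 zf36) (kf xf21 yf14 zf38) (kf xf22 yf24 zf8) (kf xf30 yf20 zf51) (kf xf23 yf19 zf16) (kf xf30 yf20 zf52) (kf xf24 yf14 zf39) (kf xf30 yf20 zf53) (kf xf30 yf21 zf38) (kf xf22 yf36 zf36) (kf xf22 yf26 zf46) (kf xf22 yf24 zf18) (kf xf30 yf21 zf42) (kf xf22 yf14 zf13) (kf xf22 yf14 zf10) (kf xf29 yf37 zf7) (kf xf24 yf44 zf20) (kf xf22 yf40 zf14) (kf xf22 yf40 zf13) (kf xf13 yf3 zf31) (kf xf14 yf11 zf43) (kf xf21 yf40 zf24) (kf xf22 yf40 zf6) (kf xf22 yf40 zf7) (kf xf22 yf40 zf8) (kf xf29 yf34 zf42) (kf xf29 yf34 zf39) (kf xf29 yf34 zf41) (kf xf22 yf23 zf54) (kf xf22 yf24 zf10) (kf xf30 yf22 zf0) (kf xf22 yf12 zf43) (kf xf22 yf24 zf4) (kf xf13 yf3 zf40) (kf xf24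 yf26 zf3) (kf xf24 yf26 zf2) (kf xf23 yf46 zf30) (kf xf24 yf25 zf60) (kf xf24 yf26 zf0) (kf xf22 yf26 zf44) (kf xf22 yf16 zf5) (kf xf30 yf20 zf54) (kf xf30 yf22 zf23) (kf xf30 yf22 zf18) (kf xf30 yf22 zf17) (kf xf13 yf7 zf38) (kf xf13 yf3 zf45) (kf xf29 yf38 zf11) (kf xf27 yf12 zf45) (kf xf13 yf5 zf17)) (@D3.rec (fun _ => Pt) (kf xf13 yf5 zf20) (kf xf20 yf41 zf20) (kf xf13 yf5 zf24) (kf xf22 yf38 zf26) (kf xf19 yf19 zf8) (kf xf22 yf26 zf56) (kf xf22 yf26 zf58) (kf xf22 yf38 zf31) (kf xf19 yf11 zf50) (kf xf22 yf26 zf51) (kf xf22 yf13 zf26) (kf xf30 yf22 zf40) (kf xf22 yf26 zf54) (kf xf22 yf13 zf25) (kf xf30 yf22 zf43) (kf xf29 yf36 zf54) (kf xf29 yf35 zf21) (kf xf30 yf20 zf60) (kf xf30 yf20 zf59) (kf xf19 yf11 zf49) (kf xf13 yf3 zf58) (kf xf13 yf7 zf11) (kf xf13 yf7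 zf1) (kf xf20 yf23 zf41) (kf xf22 yf27 zf49) (kf xf23 yf48 zf7) (kf xf28 yf37 zf53) (kf xf13 yf6 zf48) (kf xf30 yf20 zf58) (kf xf27 yf13 zf11) (kf xf29 yf36 zf48) (kf xf29 yf36 zf49) (kf xf29 yf38 zf56) (kf xf21 yf13 zf33) (kf xf22 yf14 zf39) (kf xf22 yf14 zf40) (kf xf13 yf23 zf60) (kf xf13 yf37 zf61) (kf xf18 yf15 zf27) (kf xf22 yf14 zf34) (kf xf22 yf14 zf35) (kf xf13 yf37 zf30) (kf xf23 yf36 zf38) (kf xf19 yf21 zf26) (kf xf14 yf15 zf25) (kf xf13 yf4 zf42) (kf xf13 yf4 zf41) (kf xf13 yf4 zf23) (kf xf14 yf58 zf17) (kf xf22 yf8 zf44) (kf xf22 yf8 zf45) (kf xf13 yf6 zf50) (kf xf18 yf55 zf14) (kf xf18 yf29 zf7) (kf xf18 yf29 zf4) (kf xf13 yf4 zf26) (kf xf23 yf46 zf16) (kf xf13 yf11 zf24) (kf xf23 yf58 zf24) (kf xf15 yf39 zf11) (kf xf19 yf18 zf55) (kf xf22 yf13 zf2)) (@D3.rec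 (fun _ => Pt) (kf xf23 yf21 zf55) (kf xf13 yf4 zf32) (kf xf22 yf46 zf12) (kf xf17 yf24 zf33) (kf xf21 yf40 zf13) (kf xf13 yf20 zf32) (kf xf19 yf15 zf24) (kf xf13 yf4 zf38) (kf xf24 yf44 zf9) (kf xf24 yf44 zf10) (kf xf24 yf44 zf11) (kf xf17 yf44 zf31) (kf xf27 yf23 zf22) (kf xf27 yf23 zf21) (kf xf30 yf23 zf17) (kf xf13 yf4 zf40) (kf xf26 yf40 zf55) (kf xf27 yf30 zf47) (kf xf27 yf28 zf39) (kf xf28 yf21 zf59) (kf xf27 yf30 zf49) (kf xf14 yf3 zf43) (kf xf13 yf13 zf25) (kf xf14 yf3 zf47) (kf xf13 yf16 zf28) (kf xf19 yf19 zf9) (kf xf14 yf13 zf31) (kf xf22 yf25 zf1) (kf xf22 yf13 zf1) (kf xf18 yf54 zf49) (kf xf18 yf54 zf48) (kf xf22 yf13 zf4) (kf xf21 yf39 zf11) (kf xf22 yf25 zf22) (kf xf23 yf21 zf56) (kf xf23 yf21 zf57) (kf xf23 yf21 zf58) (kf xf23 yf34 zf12) (kf xf23 yf52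 zf8) (kf xf23 yf52 zf7) (kf xf30 yf23 zf27) (kf xf13 yf5 zf3) (kf xf25 yf58 zf2) (kf xf25 yf1 zf32) (kf xf23 yf0 zf59) (kf xf23 yf13 zf5) (kf xf22 yf45 zf33) (kf xf22 yf45 zf34) (kf xf22 yf45 zf35) (kf xf13 yf13 zf53) (kf xf13 yf5 zf10) (kf xf18 yf37 zf1) (kf xf23 yf36 zf45) (kf xf23 yf33 zf30) (kf xf14 yf12 zf5) (kf xf14 yf12 zf1) (kf xf20 yf41 zf10) (kf xf14 yf6 zf58) (kf xf23 yf52 zf41) (kf xf21 yf54 zf18) (kf xf14 yf7 zf23) (kf xf23 yf52 zf40)) (@D3.rec (fun _ => Pt) (kf xf22 yf21 zf22) (kf xf23 yf52 zf43) (kf xf23 yf52 zf42) (kf xf14 yf36 zf53) (kf xf20 yf41 zf27) (kf xf22 yf13 zf52) (kf xf24 yf24 zf55) (kf xf14 yf3 zf26) (kf xf13 yf5 zf22) (kf xf22 yf26 zf22) (kf xf26 yf49 zf24) (kf xf13 yf16 zf40) (kf xf13 yf5 zf25) (kf xf20 yf27 zf26) (kf xf13 yf5 zf36) (kf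 xf13 yf5 zf37) (kf xf13 yf5 zf34) (kf xf13 yf5 zf40) (kf xf13 yf5 zf39) (kf xf30 yf23 zf52) (kf xf13 yf5 zf31) (kf xf17 yf12 zf7) (kf xf22 yf6 zf40) (kf xf23 yf54 zf26) (kf xf13 yf37 zf32) (kf xf28 yf47 zf56) (kf xf30 yf23 zf48) (kf xf19 yf19 zf6) (kf xf22 yf59 zf12) (kf xf25 yf29 zf34) (kf xf30 yf23 zf50) (kf xf23 yf11 zf61) (kf xf28 yf58 zf19) (kf xf22 yf58 zf56) (kf xf22 yf59 zf0) (kf xf29 yf50 zf55) (kf xf13 yf5 zf41) (kf xf20 yf48 zf52) (kf xf29 yf35 zf7) (kf xf26 yf27 zf39) (kf xf29 yf24 zf27) (kf xf27 yf2 zf35) (kf xf24 yf56 zf51) (kf xf29 yf29 zf26) (kf xf22 yf23 zf27) (kf xf23 yf4 zf47) (kf xf22 yf23 zf26) (kf xf30 yf24 zf6) (kf xf23 yf46 zf45) (kf xf23 yf46 zf43) (kf xf26 yf9 zf7) (kf xf13 yf54 zf53) (kf xf13 yf5 zf51) (kf xf13 yf6 zf9) (kf xf14 yf6 zf37)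 (kf xf23 yf27 zf17) (kf xf23 yf33 zf31) (kf xf23 yf33 zf32) (kf xf22 yf58 zf34) (kf xf30 yf24 zf10) (kf xf23 yf53 zf23) (kf xf23 yf27 zf22)) (@D3.rec (fun _ => Pt) (kf xf23 yf33 zf34) (kf xf26 yf27 zf24) (kf xf30 yf21 zf4) (kf xf30 yf21 zf3) (kf xf13 yf5 zf58) (kf xf26 yf25 zf61) (kf xf28 yf12 zf43) (kf xf23 yf33 zf37) (kf xf23 yf33 zf36) (kf xf19 yf8 zf60) (kf xf13 yf5 zf60) (kf xf23 yf11 zf44) (kf xf30 yf24 zf17) (kf xf30 yf21 zf8) (kf xf27 yf58 zf28) (kf xf29 yf25 zf20) (kf xf30 yf21 zf6) (kf xf13 yf6 zf2) (kf xf29 yf28 zf27) (kf xf29 yf0 zf27) (kf xf27 yf41 zf35) (kf xf28 yf59 zf12) (kf xf13 yf6 zf4) (kf xf20 yf8 zf20) (kf xf27 yf41 zf39) (kf xf27 yf42 zf1) (kf xf30 yf24 zf26) (kf xf22 yf12 zf59) (kf xf13 yf6 zf6) (kf xf23 yf31 zf25) (kf xf23 yf32 zf56) (kf xf23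 yf18 zf54) (kf xf23 yf18 zf53) (kf xf23 yf12 zf6) (kf xf24 yf5 zf50) (kf xf13 yf40 zf9) (kf xf22 yf49 zf21) (kf xf27 yf42 zf60) (kf xf13 yf45 zf17) (kf xf13 yf45 zf16) (kf xf13 yf6 zf13) (kf xf29 yf19 zf3) (kf xf23 yf38 zf45) (kf xf23 yf39 zf4) (kf xf15 yf43 zf47) (kf xf23 yf40 zf19) (kf xf23 yf44 zf43) (kf xf25 yf46 zf30) (kf xf25 yf46 zf31) (kf xf21 yf41 zf21) (kf xf23 yf44 zf41) (kf xf23 yf44 zf42) (kf xf16 yf4 zf54) (kf xf23 yf35 zf35) (kf xf23 yf35 zf36) (kf xf23 yf35 zf17) (kf xf17 yf55 zf25) (kf xf15 yf26 zf47) (kf xf20 yf10 zf24) (kf xf13 yf6 zf38) (kf xf23 yf50 zf51) (kf xf30 yf24 zf44)) (@D3.rec (fun _ => Pt) (kf xf13 yf6 zf42) (kf xf23 yf34 zf29) (kf xf23 yf49 zf60) (kf xf20 yf45 zf7) (kf xf24 yf48 zf23) (kf xf13 yf6 zf45) (kf xf23 yf50 zf52) (kf xf30 yf24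 zf50) (kf xf14 yf27 zf39) (kf xf23 yf36 zf50) (kf xf28 yf17 zf52) (kf xf30 yf23 zf7) (kf xf18 yf15 zf3) (kf xf25 yf3 zf56) (kf xf26 yf18 zf37) (kf xf17 yf31 zf37) (kf xf17 yf31 zf44) (kf xf23 yf24 zf1) (kf xf18 yf55 zf3) (kf xf22 yf23 zf34) (kf xf24 yf46 zf29) (kf xf17 yf44 zf39) (kf xf24 yf15 zf30) (kf xf24 yf15 zf29) (kf xf13 yf6 zf55) (kf xf14 yf43 zf17) (kf xf22 yf34 zf20) (kf xf29 yf1 zf45) (kf xf23 yf23 zf54) (kf xf23 yf23 zf53) (kf xf13 yf6 zf59) (kf xf14 yf7 zf19) (kf xf23 yf27 zf18) (kf xf22 yf34 zf17) (kf xf30 yf22 zf55) (kf xf19 yf21 zf19) (kf xf23 yf23 zf49) (kf xf23 yf27 zf20) (kf xf30 yf22 zf54) (kf xf20 yf45 zf40) (kf xf23 yf23 zf56) (kf xf13 yf7 zf2) (kf xf20 yf0 zf5) (kf xf21 yf37 zf12) (kf xf27 yf45 zf21) (kf xf23 yf36 zf46) (kf xf13 yf7 zf5) (kf xf22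 yf34 zf22) (kf xf13 yf48 zf24) (kf xf24 yf40 zf25) (kf xf21 yf37 zf8) (kf xf17 yf44 zf44) (kf xf23 yf36 zf42) (kf xf13 yf7 zf8) (kf xf17 yf39 zf52) (kf xf25 yf3 zf57) (kf xf18 yf37 zf29) (kf xf14 yf15 zf28) (kf xf30 yf25 zf11) (kf xf22 yf32 zf6) (kf xf13 yf52 zf17) (kf xf13 yf7 zf12)) (@D3.rec (fun _ => Pt) (kf xf13 yf9 zf49) (kf xf23 yf7 zf5) (kf xf21 yf13 zf58) (kf xf23 yf45 zf39) (kf xf22 yf49 zf11) (kf xf23 yf45 zf40) (kf xf30 yf25 zf22) (kf xf22 yf12 zf31) (kf xf14 yf46 zf11) (kf xf23 yf45 zf33) (kf xf23 yf45 zf35) (kf xf26 yf56 zf28) (kf xf23 yf45 zf45) (kf xf23 yf45 zf46) (kf xf30 yf25 zf27) (kf xf23 yf45 zf42) (kf xf23 yf45 zf43) (kf xf29 yf39 zf50) (kf xf23 yf45 zf49) (kf xf23 yf45 zf48) (kf xf30 yf11 zf52) (kf xf30 yf25 zf38) (kf xf13 yf7 zf23) (kf xf13 yf9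 zf51) (kf xf13 yf11 zf17) (kf xf13 yf11 zf20) (kf xf13 yf11 zf21) (kf xf22 yf24 zf51) (kf xf13 yf11 zf35) (kf xf13 yf12 zf4) (kf xf13 yf12 zf8) (kf xf13 yf11 zf55) (kf xf13 yf11 zf56) (kf xf29 yf39 zf42) (kf xf13 yf11 zf61) (kf xf20 yf48 zf2) (kf xf13 yf12 zf14) (kf xf13 yf12 zf12) (kf xf20 yf48 zf55) (kf xf30 yf11 zf57) (kf xf30 yf22 zf28) (kf xf30 yf22 zf27) (kf xf20 yf44 zf47) (kf xf13 yf13 zf11) (kf xf13 yf13 zf13) (kf xf13 yf13 zf19) (kf xf13 yf12 zf42) (kf xf29 yf39 zf54) (kf xf13 yf13 zf27) (kf xf13 yf12 zf38) (kf xf13 yf7 zf49) (kf xf13 yf13 zf21) (kf xf24 yf39 zf13) (kf xf24 yf6 zf25) (kf xf23 yf36 zf29) (kf xf28 yf12 zf60) (kf xf24 yf39 zf39) (kf xf22 yf25 zf6) (kf xf17 yf2 zf4) (kf xf13 yf8 zf8) (kf xf13 yf8 zf10) (kf xf13 yf8 zf6)) (@D3.rec (fun _ => Pt)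 (kf xf13 yf8 zf13) (kf xf13 yf8 zf12) (kf xf14 yf30 zf56) (kf xf19 yf3 zf15) (kf xf26 yf45 zf6) (kf xf14 yf10 zf14) (kf xf30 yf26 zf11) (kf xf24 yf26 zf54) (kf xf14 yf23 zf15) (kf xf30 yf26 zf19) (kf xf22 yf42 zf25) (kf xf14 yf31 zf26) (kf xf19 yf9 zf25) (kf xf30 yf26 zf13) (kf xf14 yf31 zf25) (kf xf19 yf22 zf59) (kf xf26 yf32 zf1) (kf xf28 yf15 zf38) (kf xf13 yf8 zf14) (kf xf15 yf52 zf16) (kf xf24 yf39 zf27) (kf xf29 yf34 zf43) (kf xf30 yf26 zf25) (kf xf19 yf8 zf53) (kf xf17 yf32 zf3) (kf xf17 yf32 zf4) (kf xf30 yf26 zf27) (kf xf17 yf32 zf28) (kf xf28 yf59 zf10) (kf xf30 yf26 zf30) (kf xf13 yf8 zf22) (kf xf13 yf8 zf40) (kf xf14 yf49 zf31) (kf xf23 yf24 zf2) (kf xf24 yf6 zf27) (kf xf24 yf6 zf26) (kf xf24 yf34 zf35) (kf xf30 yf26 zf39) (kf xf22 yf57 zf61) (kf xf22 yf46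 zf60) (kf xf24 yf34 zf37) (kf xf13 yf8 zf29) (kf xf24 yf39 zf31) (kf xf26 yf46 zf17) (kf xf24 yf34 zf40) (kf xf29 yf38 zf32) (kf xf13 yf8 zf31) (kf xf22 yf42 zf29) (kf xf22 yf58 zf25) (kf xf30 yf26 zf45) (kf xf22 yf23 zf1) (kf xf22 yf54 zf52) (kf xf24 yf39 zf33) (kf xf13 yf8 zf35) (kf xf22 yf7 zf8) (kf xf25 yf27 zf45) (kf xf19 yf22 zf55) (kf xf24 yf39 zf35) (kf xf13 yf8 zf37) (kf xf25 yf8 zf60) (kf xf30 yf26 zf50) (kf xf22 yf52 zf52)) (@D3.rec (fun _ => Pt) (kf xf13 yf8 zf38) (kf xf15 yf39 zf48) (kf xf23 yf1 zf9) (kf xf19 yf30 zf45) (kf xf23 yf1 zf11) (kf xf29 yf4 zf6) (kf xf23 yf1 zf13) (kf xf13 yf54 zf39) (kf xf24 yf3 zf40) (kf xf23 yf27 zf48) (kf xf24 yf1 zf30) (kf xf13 yf8 zf52) (kf xf16 yf4 zf50) (kf xf22 yf27 zf14) (kf xf24 yf37 zf48) (kf xf24 yf34 zf2) (kf xf23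 yf26 zf27) (kf xf23 yf26 zf26) (kf xf25 yf33 zf11) (kf xf13 yf8 zf56) (kf xf24 yf37 zf51) (kf xf24 yf38 zf32) (kf xf22 yf16 zf0) (kf xf24 yf6 zf42) (kf xf23 yf50 zf60) (kf xf24 yf3 zf41) (kf xf21 yf37 zf34) (kf xf29 yf35 zf1) (kf xf24 yf2 zf41) (kf xf24 yf2 zf42) (kf xf24 yf3 zf5) (kf xf27 yf12 zf6) (kf xf24 yf3 zf43) (kf xf28 yf46 zf59) (kf xf24 yf4 zf29) (kf xf14 yf17 zf4) (kf xf30 yf27 zf9) (kf xf24 yf10 zf53) (kf xf19 yf31 zf8) (kf xf19 yf11 zf4) (kf xf29 yf41 zf38) (kf xf13 yf9 zf7) (kf xf29 yf50 zf10) (kf xf27 yf38 zf3) (kf xf24 yf39 zf11) (kf xf20 yf16 zf41) (kf xf17 yf31 zf17) (kf xf30 yf27 zf18) (kf xf21 yf3 zf58) (kf xf21 yf20 zf19) (kf xf13 yf9 zf30) (kf xf24 yf39 zf17) (kf xf24 yf39 zf16) (kf xf13 yf9 zf15) (kf xf23 yf24 zf3) (kf xf22 yf26 zf50) (kf xf24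 yf10 zf36) (kf xf24 yf3 zf24) (kf xf30 yf27 zf22) (kf xf22 yf26 zf48) (kf xf22 yf26 zf49) (kf xf21 yf47 zf22)) (@D3.rec (fun _ => Pt) (kf xf13 yf9 zf20) (kf xf24 yf39 zf21) (kf xf24 yf39 zf20) (kf xf30 yf27 zf24) (kf xf18 yf0 zf27) (kf xf13 yf9 zf25) (kf xf28 yf36 zf38) (kf xf23 yf12 zf52) (kf xf30 yf27 zf29) (kf xf13 yf46 zf9) (kf xf13 yf46 zf8) (kf xf13 yf9 zf33) (kf xf14 yf47 zf8) (kf xf19 yf5 zf53) (kf xf14 yf29 zf47) (kf xf23 yf1 zf46) (kf xf27 yf43 zf41) (kf xf13 yf9 zf42) (kf xf16 yf4 zf51) (kf xf23 yf52 zf16) (kf xf14 yf48 zf29) (kf xf13 yf9 zf40) (kf xf24 yf19 zf58) (kf xf30 yf25 zf15) (kf xf13 yf10 zf8) (kf xf13 yf9 zf53) (kf xf29 yf56 zf1) (kf xf14 yf26 zf55) (kf xf13 yf9 zf60) (kf xf17 yf20 zf7) (kf xf28 yf25 zf32) (kf xf21 yf40 zf5) (kf xf17 yf20 zf6) (kf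 xf28 yf0 zf16) (kf xf13 yf10 zf1) (kf xf24 yf12 zf54) (kf xf22 yf58 zf59) (kf xf23 yf8 zf37) (kf xf30 yf27 zf34) (kf xf22 yf36 zf37) (kf xf23 yf57 zf37) (kf xf20 yf19 zf48) (kf xf22 yf47 zf26) (kf xf30 yf27 zf31) (kf xf30 yf27 zf36) (kf xf23 yf57 zf40) (kf xf22 yf51 zf8) (kf xf28 yf17 zf9) (kf xf25 yf47 zf21) (kf xf20 yf34 zf11) (kf xf17 yf24 zf9) (kf xf21 yf3 zf40) (kf xf17 yf24 zf10) (kf xf30 yf27 zf39) (kf xf17 yf24 zf7) (kf xf23 yf1 zf23) (kf xf30 yf27 zf42) (kf xf30 yf7 zf0) (kf xf13 yf10 zf19) (kf xf13 yf10 zf27) (kf xf23 yf57 zf48) (kf xf14 yf31 zf56)) (@D3.rec (fun _ => Pt) (kf xf17 yf57 zf36) (kf xf22 yf20 zf50) (kf xf30 yf27 zf45) (kf xf25 yf43 zf14) (kf xf23 yf1 zf18) (kf xf15 yf40 zf51) (kf xf24 yf25 zf42) (kf xf24 yf25 zf43) (kf xf24 yf16 zf39) (kf xf21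 yf47 zf26) (kf xf29 yf23 zf21) (kf xf20 yf33 zf49) (kf xf20 yf8 zf39) (kf xf24 yf14 zf50) (kf xf13 yf10 zf42) (kf xf23 yf57 zf28) (kf xf14 yf25 zf53) (kf xf17 yf59 zf46) (kf xf23 yf11 zf11) (kf xf13 yf10 zf44) (kf xf30 yf18 zf22) (kf xf17 yf11 zf14) (kf xf23 yf46 zf40) (kf xf15 yf8 zf1) (kf xf20 yf39 zf52) (kf xf29 yf26 zf59) (kf xf22 yf16 zf46) (kf xf22 yf16 zf44) (kf xf13 yf42 zf32) (kf xf23 yf31 zf21) (kf xf13 yf10 zf53) (kf xf19 yf15 zf27) (kf xf19 yf50 zf46) (kf xf30 yf27 zf58) (kf xf22 yf18 zf19) (kf xf20 yf10 zf37) (kf xf17 yf58 zf36) (kf xf20 yf40 zf28) (kf xf27 yf16 zf8) (kf xf29 yf39 zf58) (kf xf20 yf43 zf15) (kf xf22 yf25 zf28) (kf xf22 yf25 zf30) (kf xf29 yf39 zf59) (kf xf24 yf32 zf19) (kf xf22 yf42 zf32) (kf xf29 yf39 zf60) (kf xf24 yf1 zf8) (kf xf19 yf25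 zf25) (kf xf26 yf43 zf25) (kf xf28 yf53 zf7) (kf xf28 yf53 zf8) (kf xf26 yf43 zf19) (kf xf22 yf24 zf50) (kf xf22 yf13 zf40) (kf xf13 yf11 zf18) (kf xf13 yf33 zf42) (kf xf29 yf10 zf42) (kf xf28 yf39 zf15) (kf xf30 yf25 zf16) (kf xf22 yf13 zf3) (kf xf29 yf31 zf28)) (@D3.rec (fun _ => Pt) (kf xf29 yf45 zf40) (kf xf22 yf24 zf39) (kf xf22 yf24 zf48) (kf xf22 yf24 zf49) (kf xf22 yf13 zf44) (kf xf29 yf54 zf58) (kf xf24 yf14 zf37) (kf xf22 yf47 zf30) (kf xf22 yf13 zf14) (kf xf22 yf12 zf60) (kf xf22 yf13 zf41) (kf xf24 yf25 zf53) (kf xf30 yf28 zf33) (kf xf24 yf25 zf55) (kf xf30 yf28 zf35) (kf xf20 yf44 zf25) (kf xf13 yf11 zf30) (kf xf23 yf22 zf7) (kf xf22 yf13 zf23) (kf xf29 yf40 zf35) (kf xf14 yf40 zf39) (kf xf22 yf24 zf26) (kf xf20 yf47 zf53) (kf xf30 yf25 zf42) (kf xf27 yf13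 zf59) (kf xf30 yf25 zf43) (kf xf22 yf24 zf21) (kf xf29 yf38 zf8) (kf xf24 yf0 zf32) (kf xf27 yf7 zf33) (kf xf24 yf25 zf45) (kf xf27 yf16 zf24) (kf xf24 yf25 zf46) (kf xf24 yf25 zf47) (kf xf21 yf39 zf12) (kf xf24 yf25 zf49) (kf xf28 yf18 zf33) (kf xf23 yf49 zf7) (kf xf24 yf25 zf51) (kf xf22 yf24 zf1) (kf xf24 yf25 zf52) (kf xf30 yf29 zf10) (kf xf27 yf2 zf57) (kf xf22 yf47 zf40) (kf xf13 yf11 zf45) (kf xf22 yf49 zf1) (kf xf14 yf10 zf61) (kf xf14 yf11 zf1) (kf xf22 yf24 zf2) (kf xf22 yf24 zf3) (kf xf22 yf23 zf53) (kf xf22 yf19 zf27) (kf xf23 yf46 zf44) (kf xf22 yf47 zf38) (kf xf22 yf47 zf39) (kf xf29 yf46 zf18) (kf xf22 yf36 zf47) (kf xf25 yf52 zf48) (kf xf14 yf22 zf53) (kf xf29 yf45 zf34) (kf xf30 yf25 zf47) (kf xf19 yf13 zf58)) (@D3.rec (fun _ => Pt) (kf xf22 yf1 zf26)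 (kf xf22 yf15 zf27) (kf xf30 yf29 zf23) (kf xf30 yf29 zf22) (kf xf25 yf52 zf44) (kf xf13 yf11 zf58) (kf xf22 yf19 zf57) (kf xf22 yf25 zf15) (kf xf22 yf26 zf17) (kf xf30 yf25 zf49) (kf xf30 yf25 zf50) (kf xf30 yf25 zf51) (kf xf20 yf48 zf56) (kf xf20 yf16 zf56) (kf xf20 yf16 zf55) (kf xf22 yf25 zf7) (kf xf13 yf12 zf2) (kf xf22 yf40 zf16) (kf xf25 yf52 zf50) (kf xf29 yf34 zf20) (kf xf30 yf15 zf28) (kf xf30 yf14 zf61) (kf xf22 yf15 zf33) (kf xf15 yf55 zf32) (kf xf13 yf12 zf7) (kf xf26 yf28 zf0) (kf xf30 yf25 zf44) (kf xf30 yf25 zf45) (kf xf22 yf23 zf41) (kf xf20 yf47 zf46) (kf xf22 yf23 zf42) (kf xf20 yf47 zf52) (kf xf27 yf54 zf24) (kf xf13 yf12 zf10) (kf xf30 yf25 zf53) (kf xf30 yf25 zf54) (kf xf30 yf25 zf55) (kf xf26 yf33 zf21) (kf xf29 yf49 zf4) (kf xf29 yf33 zf34) (kf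 xf30 yf25 zf52) (kf xf30 yf29 zf53) (kf xf13 yf12 zf15) (kf xf13 yf12 zf18) (kf xf13 yf12 zf17) (kf xf29 yf40 zf44) (kf xf26 yf51 zf35) (kf xf27 yf8 zf14) (kf xf20 yf49 zf21) (kf xf13 yf12 zf16) (kf xf22 yf0 zf8) (kf xf26 yf51 zf37) (kf xf22 yf1 zf13) (kf xf30 yf20 zf57) (kf xf30 yf20 zf55) (kf xf30 yf20 zf56) (kf xf29 yf30 zf20) (kf xf26 yf43 zf21) (kf xf28 yf53 zf11) (kf xf21 yf47 zf40) (kf xf29 yf39 zf61) (kf xf29 yf40 zf0)) (@D3.rec (fun _ => Pt) (kf xf28 yf53 zf6) (kf xf28 yf39 zf25) (kf xf29 yf32 zf32) (kf xf29 yf40 zf1) (kf xf20 yf37 zf22) (kf xf27 yf16 zf13) (kf xf29 yf40 zf2) (kf xf29 yf39 zf45) (kf xf14 yf21 zf16) (kf xf14 yf21 zf15) (kf xf23 yf24 zf6) (kf xf23 yf24 zf7) (kf xf23 yf24 zf4) (kf xf23 yf24 zf8) (kf xf14 yf41 zf2) (kf xf14 yf40 zf54) (kf xf20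 yf48 zf51) (kf xf22 yf25 zf8) (kf xf20 yf48 zf57) (kf xf20 yf48 zf58) (kf xf20 yf48 zf59) (kf xf30 yf26 zf5) (kf xf22 yf16 zf9) (kf xf16 yf40 zf29) (kf xf19 yf22 zf31) (kf xf24 yf22 zf46) (kf xf19 yf19 zf13) (kf xf30 yf30 zf22) (kf xf30 yf26 zf3) (kf xf30 yf26 zf4) (kf xf22 yf26 zf57) (kf xf20 yf27 zf24) (kf xf22 yf26 zf60) (kf xf24 yf30 zf8) (kf xf29 yf40 zf24) (kf xf29 yf39 zf53) (kf xf29 yf39 zf52) (kf xf19 yf22 zf28) (kf xf13 yf18 zf25) (kf xf30 yf30 zf32) (kf xf30 yf26 zf2) (kf xf20 yf48 zf44) (kf xf13 yf12 zf46) (kf xf13 yf18 zf13) (kf xf22 yf13 zf51) (kf xf14 yf10 zf23) (kf xf22 yf13 zf22) (kf xf28 yf16 zf25) (kf xf22 yf21 zf59) (kf xf22 yf21 zf60) (kf xf22 yf21 zf55) (kf xf22 yf14 zf9) (kf xf29 yf36 zf51) (kf xf13 yf34 zf44) (kf xf22 yf14 zf12) (kf xf30 yf9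 zf10) (kf xf22 yf14 zf5) (kf xf22 yf26 zf30) (kf xf22 yf14 zf6) (kf xf13 yf37 zf31) (kf xf22 yf26 zf32) (kf xf30 yf30 zf44)) (@D3.rec (fun _ => Pt) (kf xf30 yf23 zf46) (kf xf30 yf23 zf45) (kf xf13 yf12 zf61) (kf xf22 yf27 zf58) (kf xf22 yf58 zf21) (kf xf23 yf2 zf21) (kf xf14 yf10 zf8) (kf xf21 yf45 zf20) (kf xf22 yf43 zf57) (kf xf19 yf8 zf20) (kf xf13 yf13 zf7) (kf xf14 yf56 zf21) (kf xf14 yf56 zf25) (kf xf24 yf42 zf34) (kf xf22 yf21 zf13) (kf xf24 yf34 zf46) (kf xf28 yf35 zf8) (kf xf30 yf30 zf52) (kf xf14 yf17 zf5) (kf xf24 yf0 zf58) (kf xf19 yf32 zf5) (kf xf14 yf14 zf50) (kf xf30 yf30 zf57) (kf xf19 yf32 zf8) (kf xf30 yf30 zf60) (kf xf19 yf31 zf57) (kf xf19 yf31 zf59) (kf xf29 yf28 zf47) (kf xf30 yf31 zf3) (kf xf30 yf30 zf51) (kf xf24 yf30 zf24) (kf xf29 yf21 zf20)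 (kf xf13 yf13 zf16) (kf xf14 yf17 zf3) (kf xf23 yf2 zf24) (kf xf30 yf26 zf0) (kf xf24 yf30 zf2) (kf xf30 yf25 zf60) (kf xf13 yf13 zf23) (kf xf24 yf30 zf16) (kf xf23 yf4 zf44) (kf xf29 yf40 zf17) (kf xf20 yf17 zf18) (kf xf23 yf2 zf19) (kf xf23 yf2 zf18) (kf xf21 yf14 zf55) (kf xf17 yf57 zf32) (kf xf22 yf50 zf36) (kf xf14 yf53 zf23) (kf xf22 yf14 zf24) (kf xf14 yf24 zf48) (kf xf23 yf48 zf12) (kf xf21 yf25 zf11) (kf xf21 yf25 zf12) (kf xf18 yf7 zf53) (kf xf18 yf8 zf3) (kf xf17 yf45 zf28) (kf xf17 yf45 zf29) (kf xf22 yf27 zf3) (kf xf14 yf21 zf24) (kf xf22 yf45 zf26) (kf xf22 yf45 zf27)) (@D3.rec (fun _ => Pt) (kf xf30 yf31 zf38) (kf xf22 yf45 zf51) (kf xf22 yf45 zf50) (kf xf13 yf13 zf36) (kf xf22 yf45 zf53) (kf xf13 yf28 zf59) (kf xf14 yf6 zf40) (kf xf14 yf9 zf18) (kf xf14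 yf9 zf28) (kf xf14 yf9 zf27) (kf xf13 yf13 zf41) (kf xf22 yf30 zf12) (kf xf14 yf9 zf24) (kf xf15 yf22 zf45) (kf xf14 yf9 zf22) (kf xf14 yf9 zf21) (kf xf13 yf13 zf46) (kf xf14 yf56 zf35) (kf xf13 yf59 zf30) (kf xf24 yf43 zf50) (kf xf14 yf56 zf36) (kf xf23 yf3 zf15) (kf xf23 yf19 zf32) (kf xf13 yf59 zf4) (kf xf13 yf13 zf50) (kf xf22 yf46 zf4) (kf xf22 yf46 zf5) (kf xf18 yf26 zf33) (kf xf18 yf26 zf44) (kf xf21 yf33 zf60) (kf xf21 yf33 zf59) (kf xf13 yf13 zf52) (kf xf25 yf1 zf16) (kf xf30 yf23 zf32) (kf xf23 yf43 zf4) (kf xf13 yf40 zf39) (kf xf13 yf40 zf41) (kf xf21 yf29 zf60) (kf xf13 yf40 zf57) (kf xf13 yf39 zf25) (kf xf18 yf49 zf25) (kf xf22 yf29 zf11) (kf xf13 yf28 zf5) (kf xf13 yf41 zf32) (kf xf13 yf41 zf33) (kf xf13 yf41 zf30) (kf xf13 yf41 zf39) (kf xf22 yf29 zf23)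 (kf xf22 yf29 zf24) (kf xf18 yf59 zf54) (kf xf18 yf57 zf8) (kf xf13 yf14 zf8) (kf xf22 yf29 zf29) (kf xf22 yf29 zf30) (kf xf18 yf15 zf26) (kf xf18 yf16 zf5) (kf xf22 yf29 zf27) (kf xf22 yf29 zf26) (kf xf13 yf14 zf11) (kf xf18 yf56 zf48) (kf xf18 yf57 zf11) (kf xf28 yf9 zf36)) (@D3.rec (fun _ => Pt) (kf xf22 yf29 zf4) (kf xf22 yf29 zf5) (kf xf21 yf13 zf57) (kf xf13 yf40 zf38) (kf xf22 yf29 zf0) (kf xf22 yf29 zf1) (kf xf22 yf3 zf9) (kf xf13 yf30 zf2) (kf xf13 yf27 zf52) (kf xf13 yf27 zf53) (kf xf13 yf27 zf56) (kf xf22 yf28 zf41) (kf xf18 yf29 zf19) (kf xf16 yf35 zf61) (kf xf18 yf50 zf11) (kf xf13 yf14 zf44) (kf xf13 yf14 zf43) (kf xf13 yf14 zf30) (kf xf13 yf30 zf50) (kf xf13 yf30 zf51) (kf xf14 yf45 zf16) (kf xf13 yf30 zf52) (kf xf13 yf30 zf56) (kf xf22 yf28 zf47) (kf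 xf22 yf28 zf48) (kf xf19 yf13 zf12) (kf xf22 yf28 zf57) (kf xf22 yf28 zf56) (kf xf13 yf14 zf36) (kf xf22 yf28 zf52) (kf xf22 yf28 zf53) (kf xf25 yf46 zf44) (kf xf19 yf2 zf7) (kf xf28 yf25 zf3) (kf xf16 yf20 zf24) (kf xf18 yf50 zf13) (kf xf14 yf58 zf48) (kf xf13 yf47 zf40) (kf xf18 yf36 zf12) (kf xf23 yf15 zf59) (kf xf23 yf15 zf58) (kf xf23 yf18 zf38) (kf xf13 yf14 zf45) (kf xf13 yf31 zf42) (kf xf14 yf1 zf7) (kf xf30 yf32 zf12) (kf xf14 yf6 zf59) (kf xf22 yf12 zf30) (kf xf14 yf17 zf37) (kf xf20 yf42 zf45) (kf xf22 yf12 zf32) (kf xf29 yf35 zf41) (kf xf13 yf14 zf54) (kf xf13 yf22 zf22) (kf xf13 yf22 zf24) (kf xf13 yf22 zf17) (kf xf13 yf22 zf20) (kf xf30 yf32 zf25) (kf xf24 yf40 zf37) (kf xf24 yf11 zf7) (kf xf13 yf23 zf51) (kf xf13 yf23 zf53)) (@D3.rec (fun _ => Pt) (kf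 xf24 yf10 zf51) (kf xf13 yf23 zf47) (kf xf30 yf32 zf33) (kf xf14 yf10 zf45) (kf xf14 yf10 zf46) (kf xf14 yf10 zf47) (kf xf14 yf10 zf48) (kf xf14 yf44 zf47) (kf xf14 yf44 zf49) (kf xf30 yf32 zf38) (kf xf13 yf15 zf47) (kf xf13 yf15 zf9) (kf xf22 yf28 zf11) (kf xf13 yf48 zf15) (kf xf14 yf9 zf8) (kf xf14 yf11 zf23) (kf xf14 yf11 zf24) (kf xf21 yf16 zf51) (kf xf26 yf0 zf35) (kf xf22 yf49 zf7) (kf xf22 yf31 zf46) (kf xf14 yf15 zf41) (kf xf14 yf15 zf44) (kf xf22 yf31 zf47) (kf xf28 yf0 zf57) (kf xf13 yf15 zf24) (kf xf22 yf46 zf13) (kf xf16 yf11 zf60) (kf xf13 yf15 zf37) (kf xf13 yf15 zf39) (kf xf24 yf34 zf27) (kf xf14 yf0 zf31) (kf xf13 yf51 zf49) (kf xf16 yf12 zf20) (kf xf13 yf29 zf15) (kf xf23 yf6 zf13) (kf xf30 yf32 zf42) (kf xf13 yf51 zf51) (kf xf14 yf9 zf6) (kf xf13 yf55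 zf19) (kf xf30 yf32 zf48) (kf xf16 yf10 zf29) (kf xf30 yf32 zf49) (kf xf27 yf42 zf11) (kf xf27 yf42 zf10) (kf xf13 yf15 zf43) (kf xf21 yf29 zf48) (kf xf13 yf38 zf50) (kf xf22 yf57 zf36) (kf xf22 yf57 zf35) (kf xf24 yf59 zf41) (kf xf29 yf29 zf46) (kf xf30 yf32 zf39) (kf xf27 yf55 zf45) (kf xf28 yf13 zf14) (kf xf27 yf55 zf49) (kf xf13 yf15 zf50) (kf xf14 yf44 zf53) (kf xf14 yf44 zf52) (kf xf13 yf47 zf5) (kf xf14 yf12 zf24) (kf xf14 yf17 zf13)) (@D3.rec (fun _ => Pt) (kf xf14 yf17 zf14) (kf xf14 yf17 zf16) (kf xf14 yf17 zf17) (kf xf14 yf17 zf18) (kf xf30 yf33 zf8) (kf xf14 yf17 zf10) (kf xf13 yf15 zf55) (kf xf21 yf21 zf15) (kf xf25 yf37 zf56) (kf xf19 yf16 zf61) (kf xf13 yf15 zf57) (kf xf21 yf43 zf51) (kf xf30 yf33 zf12) (kf xf13 yf15 zf58) (kf xf17 yf38 zf8) (kf xf25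 yf39 zf18) (kf xf24 yf30 zf52) (kf xf24 yf30 zf53) (kf xf14 yf9 zf46) (kf xf30 yf33 zf16) (kf xf21 yf56 zf53) (kf xf21 yf56 zf52) (kf xf13 yf16 zf2) (kf xf13 yf49 zf28) (kf xf22 yf33 zf60) (kf xf22 yf47 zf10) (kf xf16 yf10 zf34) (kf xf23 yf21 zf39) (kf xf23 yf21 zf41) (kf xf30 yf33 zf28) (kf xf23 yf21 zf43) (kf xf19 yf56 zf10) (kf xf16 yf35 zf41) (kf xf23 yf21 zf45) (kf xf21 yf56 zf50) (kf xf23 yf21 zf47) (kf xf26 yf3 zf25) (kf xf25 yf15 zf59) (kf xf30 yf33 zf27) (kf xf13 yf16 zf14) (kf xf13 yf49 zf30) (kf xf20 yf1 zf24) (kf xf20 yf6 zf5) (kf xf21 yf57 zf6) (kf xf21 yf57 zf3) (kf xf13 yf16 zf16) (kf xf22 yf30 zf20) (kf xf22 yf30 zf23) (kf xf26 yf8 zf57) (kf xf21 yf55 zf57) (kf xf21 yf55 zf61) (kf xf21 yf56 zf49) (kf xf30 yf33 zf41) (kf xf21 yf56 zf58) (kf xf21 yf56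 zf57) (kf xf30 yf33 zf45) (kf xf13 yf16 zf20) (kf xf23 yf21 zf34) (kf xf23 yf21 zf29) (kf xf23 yf21 zf30) (kf xf30 yf33 zf54) (kf xf14 yf10 zf60)) (@D3.rec (fun _ => Pt) (kf xf23 yf0 zf1) (kf xf23 yf5 zf49) (kf xf23 yf0 zf2) (kf xf13 yf19 zf42) (kf xf28 yf46 zf40) (kf xf13 yf16 zf45) (kf xf22 yf18 zf59) (kf xf13 yf16 zf41) (kf xf20 yf33 zf36) (kf xf13 yf19 zf4) (kf xf19 yf59 zf5) (kf xf30 yf33 zf59) (kf xf27 yf10 zf39) (kf xf23 yf49 zf2) (kf xf23 yf23 zf45) (kf xf21 yf15 zf26) (kf xf29 yf39 zf19) (kf xf13 yf16 zf42) (kf xf23 yf5 zf43) (kf xf29 yf18 zf49) (kf xf19 yf50 zf21) (kf xf17 yf0 zf56) (kf xf13 yf17 zf6) (kf xf13 yf21 zf35) (kf xf23 yf11 zf4) (kf xf13 yf21 zf39) (kf xf13 yf21 zf40) (kf xf13 yf21 zf41) (kf xf19 yf19 zf1) (kf xf13 yf19 zf46) (kf xf13 yf21 zf46)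 (kf xf17 yf56 zf2) (kf xf13 yf21 zf29) (kf xf13 yf21 zf28) (kf xf13 yf16 zf58) (kf xf13 yf19 zf6) (kf xf13 yf21 zf7) (kf xf13 yf21 zf11) (kf xf13 yf21 zf12) (kf xf13 yf21 zf13) (kf xf22 yf35 zf34) (kf xf13 yf21 zf49) (kf xf13 yf17 zf1) (kf xf25 yf39 zf51) (kf xf13 yf21 zf59) (kf xf13 yf21 zf58) (kf xf13 yf17 zf4) (kf xf26 yf2 zf55) (kf xf13 yf22 zf14) (kf xf13 yf22 zf13) (kf xf13 yf23 zf22) (kf xf13 yf18 zf10) (kf xf23 yf10 zf52) (kf xf14 yf22 zf55) (kf xf30 yf34 zf9) (kf xf13 yf23 zf1) (kf xf13 yf23 zf0) (kf xf24 yf25 zf34) (kf xf13 yf17 zf12) (kf xf13 yf18 zf45) (kf xf13 yf23 zf39) (kf xf13 yf23 zf40)) (@D3.rec (fun _ => Pt) (kf xf30 yf34 zf14) (kf xf13 yf22 zf60) (kf xf25 yf51 zf32) (kf xf13 yf23 zf32) (kf xf13 yf23 zf31) (kf xf30 yf34 zf16) (kf xf14 yf14 zf34) (kf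 xf14 yf16 zf48) (kf xf13 yf17 zf25) (kf xf13 yf17 zf24) (kf xf30 yf34 zf20) (kf xf13 yf17 zf23) (kf xf30 yf34 zf18) (kf xf14 yf17 zf20) (kf xf30 yf34 zf17) (kf xf14 yf14 zf42) (kf xf24 yf0 zf61) (kf xf30 yf34 zf19) (kf xf30 yf21 zf56) (kf xf13 yf17 zf26) (kf xf30 yf34 zf33) (kf xf13 yf17 zf28) (kf xf24 yf2 zf15) (kf xf14 yf17 zf8) (kf xf22 yf47 zf3) (kf xf15 yf40 zf6) (kf xf23 yf11 zf31) (kf xf25 yf35 zf45) (kf xf29 yf9 zf2) (kf xf21 yf49 zf45) (kf xf30 yf34 zf38) (kf xf13 yf17 zf43) (kf xf14 yf13 zf60) (kf xf13 yf17 zf44) (kf xf29 yf26 zf6) (kf xf24 yf21 zf36) (kf xf22 yf58 zf10) (kf xf14 yf16 zf41) (kf xf25 yf18 zf8) (kf xf23 yf48 zf22) (kf xf30 yf34 zf44) (kf xf14 yf16 zf60) (kf xf30 yf34 zf46) (kf xf14 yf12 zf46) (kf xf14 yf17 zf6) (kf xf30 yf34 zf52) (kf xf24 yf27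 zf20) (kf xf13 yf45 zf31) (kf xf13 yf45 zf27) (kf xf13 yf17 zf60) (kf xf14 yf17 zf28) (kf xf14 yf17 zf29) (kf xf29 yf19 zf51) (kf xf13 yf18 zf0) (kf xf14 yf17 zf23) (kf xf14 yf17 zf24) (kf xf26 yf49 zf3) (kf xf14 yf17 zf32) (kf xf14 yf17 zf31) (kf xf13 yf18 zf2) (kf xf22 yf31 zf24) (kf xf23 yf4 zf10)) (@D3.rec (fun _ => Pt) (kf xf23 yf17 zf44) (kf xf23 yf3 zf40) (kf xf23 yf17 zf45) (kf xf23 yf17 zf46) (kf xf23 yf17 zf47) (kf xf25 yf1 zf60) (kf xf23 yf17 zf49) (kf xf13 yf56 zf14) (kf xf13 yf56 zf13) (kf xf14 yf16 zf3) (kf xf13 yf33 zf59) (kf xf14 yf16 zf4) (kf xf29 yf54 zf56) (kf xf13 yf18 zf26) (kf xf16 yf35 zf14) (kf xf20 yf44 zf13) (kf xf27 yf10 zf29) (kf xf22 yf18 zf33) (kf xf24 yf29 zf3) (kf xf23 yf4 zf29) (kf xf22 yf18 zf26) (kf xf30 yf35 zf13) (kf xf22 yf18 zf47)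 (kf xf25 yf18 zf14) (kf xf18 yf47 zf49) (kf xf20 yf21 zf49) (kf xf26 yf20 zf43) (kf xf14 yf14 zf16) (kf xf14 yf14 zf17) (kf xf14 yf14 zf8) (kf xf14 yf14 zf21) (kf xf28 yf1 zf45) (kf xf14 yf14 zf10) (kf xf14 yf14 zf27) (kf xf14 yf43 zf41) (kf xf14 yf14 zf23) (kf xf18 yf48 zf9) (kf xf26 yf16 zf34) (kf xf21 yf42 zf16) (kf xf14 yf14 zf51) (kf xf30 yf35 zf21) (kf xf14 yf14 zf55) (kf xf29 yf50 zf30) (kf xf14 yf14 zf46) (kf xf14 yf14 zf45) (kf xf13 yf18 zf41) (kf xf14 yf12 zf27) (kf xf14 yf14 zf35) (kf xf28 yf18 zf44) (kf xf14 yf14 zf37) (kf xf14 yf14 zf38) (kf xf14 yf14 zf39) (kf xf30 yf35 zf30) (kf xf14 yf12 zf37) (kf xf24 yf5 zf45) (kf xf14 yf14 zf43) (kf xf30 yf35 zf34) (kf xf14 yf14 zf58) (kf xf14 yf14 zf57) (kf xf13 yf18 zf47) (kf xf14 yf15 zf10) (kf xf30 yf35 zf40))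 (@D3.rec (fun _ => Pt) (kf xf14 yf15 zf12) (kf xf30 yf35 zf42) (kf xf14 yf15 zf7) (kf xf14 yf15 zf6) (kf xf30 yf35 zf47) (kf xf13 yf18 zf50) (kf xf14 yf15 zf0) (kf xf14 yf15 zf1) (kf xf26 yf16 zf1) (kf xf14 yf15 zf4) (kf xf24 yf53 zf60) (kf xf14 yf15 zf19) (kf xf18 yf28 zf11) (kf xf14 yf15 zf17) (kf xf14 yf15 zf27) (kf xf30 yf25 zf8) (kf xf14 yf15 zf31) (kf xf22 yf8 zf52) (kf xf14 yf1 zf30) (kf xf14 yf1 zf29) (kf xf13 yf18 zf60) (kf xf29 yf39 zf39) (kf xf30 yf35 zf55) (kf xf13 yf19 zf0) (kf xf24 yf23 zf28) (kf xf24 yf9 zf56) (kf xf24 yf2 zf11) (kf xf13 yf19 zf2) (kf xf24 yf22 zf2) (kf xf30 yf35 zf61) (kf xf13 yf57 zf21) (kf xf30 yf34 zf2) (kf xf21 yf53 zf23) (kf xf23 yf11 zf39) (kf xf22 yf32 zf40) (kf xf23 yf20 zf5) (kf xf13 yf19 zf11) (kf xf15 yf10 zf8) (kf xf30 yf11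 zf45) (kf xf19 yf7 zf59) (kf xf14 yf36 zf30) (kf xf17 yf11 zf52) (kf xf19 yf7 zf16) (kf xf30 yf36 zf7) (kf xf13 yf19 zf15) (kf xf23 yf10 zf55) (kf xf22 yf58 zf29) (kf xf23 yf12 zf25) (kf xf22 yf58 zf31) (kf xf22 yf58 zf32) (kf xf30 yf36 zf14) (kf xf14 yf11 zf4) (kf xf23 yf11 zf41) (kf xf28 yf14 zf8) (kf xf20 yf11 zf60) (kf xf23 yf11 zf43) (kf xf30 yf36 zf21) (kf xf23 yf11 zf45) (kf xf23 yf11 zf46) (kf xf14 yf35 zf34) (kf xf14 yf35 zf39) (kf xf22 yf59 zf23)) (@D3.rec (fun _ => Pt) (kf xf14 yf35 zf36) (kf xf14 yf36 zf55) (kf xf29 yf52 zf41) (kf xf30 yf36 zf27) (kf xf29 yf24 zf42) (kf xf19 yf7 zf21) (kf xf22 yf59 zf5) (kf xf29 yf19 zf40) (kf xf13 yf19 zf35) (kf xf13 yf19 zf48) (kf xf19 yf18 zf53) (kf xf24 yf12 zf61) (kf xf27 yf59 zf25) (kf xf28 yf39 zf17) (kf xf24 yf46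 zf13) (kf xf28 yf9 zf59) (kf xf18 yf7 zf46) (kf xf14 yf35 zf8) (kf xf14 yf35 zf7) (kf xf14 yf35 zf5) (kf xf14 yf35 zf13) (kf xf13 yf19 zf57) (kf xf22 yf40 zf2) (kf xf13 yf19 zf59) (kf xf23 yf52 zf17) (kf xf18 yf7 zf49) (kf xf18 yf7 zf43) (kf xf18 yf7 zf50) (kf xf13 yf20 zf17) (kf xf13 yf20 zf4) (kf xf18 yf54 zf47) (kf xf23 yf11 zf57) (kf xf22 yf59 zf10) (kf xf23 yf11 zf0) (kf xf14 yf15 zf40) (kf xf22 yf59 zf30) (kf xf22 yf13 zf21) (kf xf22 yf22 zf39) (kf xf23 yf12 zf0) (kf xf23 yf12 zf1) (kf xf23 yf12 zf2) (kf xf13 yf20 zf25) (kf xf13 yf20 zf27) (kf xf13 yf20 zf18) (kf xf13 yf20 zf21) (kf xf17 yf19 zf57) (kf xf25 yf51 zf50) (kf xf22 yf24 zf56) (kf xf21 yf51 zf38) (kf xf21 yf51 zf39) (kf xf29 yf39 zf26) (kf xf27 yf13 zf0) (kf xf22 yf42 zf27) (kf xf27 yf43 zf6) (kf xf25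 yf51 zf51) (kf xf17 yf11 zf37) (kf xf17 yf24 zf32) (kf xf18 yf45 zf46) (kf xf13 yf20 zf30) (kf xf17 yf23 zf52) (kf xf24 yf16 zf37) (kf xf13 yf20 zf33)) (@D3.rec (fun _ => Pt) (kf xf22 yf3 zf37) (kf xf29 yf30 zf56) (kf xf21 yf7 zf37) (kf xf13 yf20 zf35) (kf xf27 yf38 zf55) (kf xf14 yf26 zf60) (kf xf21 yf41 zf44) (kf xf14 yf38 zf49) (kf xf14 yf38 zf51) (kf xf13 yf20 zf43) (kf xf20 yf26 zf54) (kf xf24 yf18 zf37) (kf xf21 yf28 zf30) (kf xf13 yf20 zf47) (kf xf13 yf21 zf23) (kf xf23 yf12 zf23) (kf xf13 yf20 zf48) (kf xf21 yf14 zf0) (kf xf17 yf23 zf49) (kf xf13 yf20 zf53) (kf xf20 yf47 zf31) (kf xf13 yf20 zf54) (kf xf30 yf36 zf55) (kf xf13 yf22 zf12) (kf xf13 yf22 zf15) (kf xf13 yf21 zf4) (kf xf23 yf47 zf8) (kf xf24 yf10 zf30) (kf xf24 yf11 zf3) (kf xf30 yf36 zf61) (kf xf24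 yf11 zf1) (kf xf24 yf40 zf42) (kf xf14 yf36 zf31) (kf xf14 yf36 zf56) (kf xf24 yf5 zf16) (kf xf23 yf48 zf29) (kf xf23 yf52 zf44) (kf xf24 yf2 zf10) (kf xf24 yf2 zf8) (kf xf30 yf32 zf27) (kf xf29 yf51 zf60) (kf xf30 yf7 zf27) (kf xf16 yf24 zf34) (kf xf30 yf34 zf3) (kf xf14 yf40 zf58) (kf xf13 yf21 zf15) (kf xf14 yf28 zf48) (kf xf13 yf21 zf8) (kf xf23 yf27 zf2) (kf xf23 yf27 zf3) (kf xf29 yf58 zf25) (kf xf14 yf10 zf2) (kf xf22 yf56 zf56) (kf xf27 yf14 zf29) (kf xf30 yf34 zf4) (kf xf29 yf9 zf11) (kf xf21 yf30 zf4) (kf xf13 yf21 zf14) (kf xf26 yf2 zf5) (kf xf23 yf37 zf19) (kf xf23 yf11 zf51) (kf xf14 yf18 zf59)) (@D3.rec (fun _ => Pt) (kf xf17 yf1 zf5) (kf xf29 yf55 zf10) (kf xf24 yf22 zf16) (kf xf30 yf37 zf17) (kf xf24 yf27 zf61) (kf xf24 yf27 zf60) (kf xf13 yf21 zf21)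 (kf xf13 yf53 zf10) (kf xf23 yf36 zf2) (kf xf22 yf40 zf35) (kf xf13 yf54 zf4) (kf xf30 yf2 zf51) (kf xf22 yf40 zf48) (kf xf15 yf45 zf55) (kf xf30 yf37 zf24) (kf xf13 yf21 zf27) (kf xf27 yf5 zf17) (kf xf27 yf5 zf20) (kf xf24 yf21 zf29) (kf xf26 yf3 zf49) (kf xf30 yf36 zf51) (kf xf14 yf40 zf61) (kf xf14 yf40 zf60) (kf xf14 yf40 zf52) (kf xf13 yf21 zf30) (kf xf27 yf13 zf45) (kf xf22 yf14 zf3) (kf xf30 yf33 zf60) (kf xf16 yf55 zf28) (kf xf23 yf11 zf3) (kf xf14 yf13 zf16) (kf xf22 yf14 zf7) (kf xf28 yf29 zf32) (kf xf30 yf37 zf31) (kf xf20 yf6 zf34) (kf xf30 yf5 zf31) (kf xf27 yf20 zf12) (kf xf15 yf52 zf56) (kf xf13 yf21 zf42) (kf xf14 yf18 zf40) (kf xf23 yf11 zf6) (kf xf13 yf54 zf16) (kf xf13 yf54 zf3) (kf xf21 yf55 zf54) (kf xf13 yf21 zf47) (kf xf23 yf40 zf38) (kf xf23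 yf56 zf45) (kf xf23 yf10 zf60) (kf xf23 yf10 zf59) (kf xf13 yf21 zf50) (kf xf16 yf32 zf3) (kf xf19 yf17 zf46) (kf xf16 yf28 zf11) (kf xf24 yf22 zf4) (kf xf22 yf55 zf13) (kf xf21 yf55 zf0) (kf xf15 yf50 zf59) (kf xf18 yf45 zf39) (kf xf13 yf21 zf55) (kf xf24 yf28 zf12) (kf xf24 yf28 zf10) (kf xf13 yf21 zf57)) (@D3.rec (fun _ => Pt) (kf xf26 yf29 zf34) (kf xf28 yf18 zf13) (kf xf28 yf18 zf14) (kf xf20 yf47 zf33) (kf xf30 yf37 zf37) (kf xf13 yf21 zf60) (kf xf30 yf36 zf53) (kf xf19 yf51 zf8) (kf xf14 yf44 zf43) (kf xf25 yf51 zf24) (kf xf28 yf18 zf15) (kf xf21 yf4 zf3) (kf xf14 yf21 zf43) (kf xf14 yf40 zf17) (kf xf14 yf40 zf16) (kf xf13 yf22 zf11) (kf xf14 yf39 zf53) (kf xf25 yf52 zf7) (kf xf30 yf34 zf7) (kf xf23 yf0 zf42) (kf xf30 yf34 zf6) (kf xf29 yf19 zf36) (kf xf30 yf32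 zf26) (kf xf30 yf36 zf56) (kf xf13 yf22 zf34) (kf xf22 yf41 zf39) (kf xf14 yf29 zf40) (kf xf30 yf37 zf60) (kf xf22 yf50 zf33) (kf xf22 yf50 zf22) (kf xf30 yf38 zf1) (kf xf22 yf41 zf36) (kf xf14 yf39 zf44) (kf xf14 yf39 zf43) (kf xf13 yf22 zf21) (kf xf30 yf32 zf19) (kf xf30 yf32 zf20) (kf xf27 yf13 zf28) (kf xf19 yf7 zf28) (kf xf30 yf32 zf21) (kf xf30 yf38 zf11) (kf xf24 yf13 zf38) (kf xf30 yf32 zf24) (kf xf13 yf22 zf25) (kf xf14 yf39 zf39) (kf xf30 yf38 zf17) (kf xf23 yf7 zf32) (kf xf30 yf30 zf45) (kf xf22 yf59 zf25) (kf xf22 yf59 zf24) (kf xf13 yf22 zf28) (kf xf22 yf59 zf19) (kf xf30 yf38 zf25) (kf xf22 yf59 zf28) (kf xf30 yf38 zf30) (kf xf24 yf24 zf54) (kf xf13 yf22 zf31) (kf xf18 yf46 zf61) (kf xf30 yf38 zf16) (kf xf22 yf58 zf15) (kf xf30 yf38 zf35) (kf xf28 yf44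 zf4)) (@D3.rec (fun _ => Pt) (kf xf30 yf37 zf54) (kf xf30 yf37 zf55) (kf xf22 yf36 zf22) (kf xf15 yf50 zf57) (kf xf14 yf10 zf57) (kf xf14 yf10 zf58) (kf xf22 yf13 zf34) (kf xf22 yf13 zf35) (kf xf22 yf13 zf36) (kf xf30 yf38 zf47) (kf xf19 yf31 zf18) (kf xf17 yf17 zf42) (kf xf20 yf39 zf55) (kf xf22 yf13 zf30) (kf xf22 yf13 zf29) (kf xf13 yf22 zf40) (kf xf22 yf25 zf17) (kf xf14 yf12 zf38) (kf xf14 yf12 zf28) (kf xf14 yf12 zf40) (kf xf14 yf12 zf41) (kf xf14 yf12 zf42) (kf xf29 yf51 zf45) (kf xf14 yf12 zf45) (kf xf13 yf56 zf19) (kf xf24 yf27 zf59) (kf xf13 yf22 zf48) (kf xf23 yf23 zf48) (kf xf18 yf46 zf53) (kf xf24 yf28 zf7) (kf xf28 yf2 zf43) (kf xf14 yf13 zf33) (kf xf21 yf51 zf41) (kf xf24 yf28 zf1) (kf xf29 yf19 zf52) (kf xf22 yf38 zf9) (kf xf23 yf24 zf16) (kf xf24 yf28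 zf5) (kf xf13 yf22 zf58) (kf xf24 yf29 zf11) (kf xf24 yf29 zf13) (kf xf30 yf34 zf15) (kf xf28 yf17 zf41) (kf xf30 yf38 zf60) (kf xf13 yf22 zf61) (kf xf30 yf34 zf11) (kf xf24 yf30 zf1) (kf xf26 yf52 zf46) (kf xf22 yf38 zf12) (kf xf30 yf34 zf10) (kf xf29 yf24 zf45) (kf xf30 yf34 zf13) (kf xf28 yf51 zf5) (kf xf29 yf40 zf6) (kf xf13 yf23 zf2) (kf xf13 yf25 zf8) (kf xf30 yf12 zf0) (kf xf14 yf41 zf1) (kf xf13 yf33 zf56) (kf xf24 yf9 zf58) (kf xf14 yf17 zf38) (kf xf14 yf17 zf21)) (@D3.rec (fun _ => Pt) (kf xf14 yf17 zf15) (kf xf13 yf33 zf29) (kf xf27 yf18 zf59) (kf xf13 yf33 zf30) (kf xf24 yf23 zf3) (kf xf24 yf23 zf1) (kf xf28 yf29 zf30) (kf xf13 yf23 zf14) (kf xf14 yf41 zf4) (kf xf21 yf12 zf61) (kf xf14 yf15 zf42) (kf xf14 yf28 zf18) (kf xf24 yf28 zf16) (kf xf14 yf15 zf45)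 (kf xf23 yf18 zf37) (kf xf24 yf29 zf35) (kf xf14 yf16 zf26) (kf xf13 yf47 zf52) (kf xf19 yf52 zf29) (kf xf13 yf23 zf30) (kf xf29 yf21 zf43) (kf xf24 yf28 zf40) (kf xf13 yf46 zf48) (kf xf14 yf25 zf52) (kf xf29 yf48 zf5) (kf xf30 yf39 zf19) (kf xf24 yf23 zf21) (kf xf24 yf23 zf19) (kf xf13 yf23 zf41) (kf xf14 yf28 zf16) (kf xf14 yf28 zf15) (kf xf22 yf50 zf38) (kf xf14 yf23 zf26) (kf xf27 yf6 zf44) (kf xf30 yf39 zf25) (kf xf22 yf50 zf37) (kf xf22 yf39 zf31) (kf xf30 yf39 zf29) (kf xf14 yf24 zf55) (kf xf22 yf39 zf25) (kf xf24 yf27 zf50) (kf xf30 yf23 zf36) (kf xf13 yf23 zf48) (kf xf22 yf49 zf44) (kf xf23 yf3 zf18) (kf xf23 yf6 zf32) (kf xf30 yf39 zf37) (kf xf30 yf30 zf37) (kf xf30 yf32 zf28) (kf xf30 yf39 zf43) (kf xf13 yf33 zf60) (kf xf30 yf32 zf30) (kf xf24 yf10 zf49)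 (kf xf24 yf7 zf43) (kf xf30 yf32 zf32) (kf xf30 yf39 zf51) (kf xf13 yf23 zf54) (kf xf13 yf26 zf39) (kf xf26 yf19 zf8) (kf xf13 yf52 zf9) (kf xf13 yf52 zf8) (kf xf13 yf23 zf61)) (@D3.rec (fun _ => Pt) (kf xf14 yf44 zf57) (kf xf13 yf51 zf2) (kf xf14 yf44 zf58) (kf xf13 yf51 zf3) (kf xf14 yf45 zf5) (kf xf13 yf51 zf14) (kf xf13 yf51 zf15) (kf xf13 yf32 zf8) (kf xf13 yf51 zf0) (kf xf13 yf51 zf4) (kf xf20 yf32 zf28) (kf xf13 yf51 zf22) (kf xf13 yf51 zf21) (kf xf13 yf24 zf7) (kf xf13 yf51 zf12) (kf xf13 yf51 zf16) (kf xf25 yf46 zf45) (kf xf13 yf51 zf9) (kf xf13 yf51 zf8) (kf xf13 yf24 zf9) (kf xf29 yf54 zf39) (kf xf30 yf14 zf0) (kf xf23 yf17 zf36) (kf xf29 yf14 zf34) (kf xf20 yf46 zf10) (kf xf22 yf20 zf10) (kf xf23 yf23 zf47) (kf xf22 yf36 zf52) (kf xf29 yf22 zf50) (kf xf22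 yf20 zf47) (kf xf22 yf42 zf43) (kf xf29 yf35 zf4) (kf xf22 yf23 zf45) (kf xf13 yf24 zf21) (kf xf21 yf14 zf31) (kf xf22 yf44 zf1) (kf xf22 yf44 zf2) (kf xf20 yf46 zf7) (kf xf14 yf24 zf44) (kf xf20 yf46 zf9) (kf xf14 yf44 zf27) (kf xf13 yf32 zf9) (kf xf21 yf30 zf2) (kf xf22 yf42 zf30) (kf xf26 yf23 zf37) (kf xf22 yf46 zf44) (kf xf13 yf24 zf33) (kf xf14 yf40 zf34) (kf xf16 yf26 zf14) (kf xf13 yf24 zf35) (kf xf30 yf40 zf3) (kf xf13 yf56 zf10) (kf xf30 yf40 zf6) (kf xf22 yf44 zf11) (kf xf22 yf44 zf10) (kf xf13 yf24 zf38) (kf xf13 yf54 zf27) (kf xf13 yf54 zf29) (kf xf22 yf44 zf16) (kf xf22 yf44 zf17) (kf xf22 yf44 zf18) (kf xf30 yf0 zf50)) (@D3.rec (fun _ => Pt) (kf xf22 yf44 zf21) (kf xf22 yf44 zf48) (kf xf13 yf25 zf6) (kf xf13 yf57 zf19) (kf xf13 yf57 zf23) (kf xf23 yf43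 zf50) (kf xf13 yf57 zf10) (kf xf13 yf57 zf25) (kf xf13 yf57 zf26) (kf xf13 yf57 zf27) (kf xf30 yf40 zf29) (kf xf13 yf57 zf40) (kf xf30 yf40 zf31) (kf xf22 yf44 zf37) (kf xf22 yf44 zf36) (kf xf13 yf24 zf51) (kf xf14 yf53 zf24) (kf xf14 yf34 zf27) (kf xf30 yf40 zf39) (kf xf14 yf47 zf26) (kf xf14 yf34 zf18) (kf xf30 yf40 zf42) (kf xf14 yf34 zf36) (kf xf14 yf34 zf33) (kf xf30 yf40 zf45) (kf xf23 yf39 zf50) (kf xf23 yf39 zf49) (kf xf13 yf24 zf55) (kf xf22 yf44 zf45) (kf xf28 yf49 zf31) (kf xf22 yf44 zf47) (kf xf30 yf4 zf47) (kf xf22 yf44 zf54) (kf xf22 yf44 zf53) (kf xf13 yf24 zf58) (kf xf22 yf44 zf50) (kf xf22 yf44 zf51) (kf xf25 yf14 zf35) (kf xf13 yf25 zf4) (kf xf22 yf44 zf56) (kf xf30 yf1 zf22) (kf xf22 yf44 zf57) (kf xf22 yf44 zf59) (kf xf22 yf44 zf60) (kf xf22 yf44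 zf61) (kf xf22 yf45 zf0) (kf xf23 yf41 zf27) (kf xf23 yf30 zf37) (kf xf26 yf14 zf53) (kf xf15 yf46 zf9) (kf xf27 yf58 zf8) (kf xf14 yf55 zf21) (kf xf22 yf44 zf58) (kf xf26 yf2 zf52) (kf xf13 yf59 zf44) (kf xf22 yf45 zf14) (kf xf22 yf45 zf15) (kf xf22 yf27 zf8) (kf xf22 yf45 zf18) (kf xf21 yf27 zf56) (kf xf14 yf2 zf22) (kf xf13 yf25 zf14)) (@D3.rec (fun _ => Pt) (kf xf13 yf55 zf25) (kf xf22 yf42 zf35) (kf xf22 yf42 zf36) (kf xf14 yf6 zf8) (kf xf14 yf6 zf4) (kf xf14 yf6 zf9) (kf xf14 yf6 zf10) (kf xf30 yf41 zf16) (kf xf14 yf6 zf32) (kf xf29 yf10 zf30) (kf xf22 yf42 zf54) (kf xf22 yf42 zf53) (kf xf13 yf25 zf22) (kf xf14 yf3 zf55) (kf xf14 yf3 zf56) (kf xf14 yf3 zf57) (kf xf22 yf42 zf58) (kf xf22 yf42 zf59) (kf xf22 yf42 zf60) (kf xf30 yf41 zf35) (kf xf14 yf4 zf2) (kf xf22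 yf43 zf0) (kf xf13 yf25 zf49) (kf xf13 yf25 zf48) (kf xf13 yf25 zf27) (kf xf14 yf4 zf6) (kf xf14 yf7 zf24) (kf xf23 yf13 zf23) (kf xf14 yf7 zf26) (kf xf14 yf7 zf22) (kf xf14 yf7 zf28) (kf xf14 yf7 zf29) (kf xf14 yf7 zf30) (kf xf29 yf55 zf22) (kf xf14 yf7 zf38) (kf xf30 yf41 zf51) (kf xf22 yf43 zf14) (kf xf22 yf43 zf13) (kf xf13 yf25 zf34) (kf xf19 yf47 zf14) (kf xf14 yf33 zf53) (kf xf30 yf41 zf58) (kf xf23 yf28 zf47) (kf xf23 yf28 zf46) (kf xf13 yf25 zf36) (kf xf22 yf43 zf28) (kf xf30 yf42 zf0) (kf xf22 yf43 zf30) (kf xf22 yf43 zf1) (kf xf13 yf25 zf39) (kf xf22 yf43 zf35) (kf xf22 yf43 zf36) (kf xf21 yf34 zf38) (kf xf22 yf43 zf33) (kf xf22 yf43 zf32) (kf xf13 yf25 zf42) (kf xf22 yf43 zf39) (kf xf22 yf43 zf41) (kf xf22 yf43 zf52) (kf xf22 yf43 zf42) (kf xf22 yf43 zf43)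 (kf xf22 yf43 zf44)) (@D3.rec (fun _ => Pt) (kf xf22 yf43 zf45) (kf xf13 yf59 zf6) (kf xf30 yf41 zf38) (kf xf17 yf56 zf12) (kf xf14 yf46 zf54) (kf xf29 yf23 zf17) (kf xf30 yf41 zf37) (kf xf17 yf56 zf3) (kf xf18 yf1 zf6) (kf xf14 yf8 zf57) (kf xf14 yf8 zf52) (kf xf14 yf7 zf27) (kf xf23 yf13 zf24) (kf xf14 yf5 zf18) (kf xf22 yf43 zf55) (kf xf22 yf43 zf56) (kf xf14 yf6 zf57) (kf xf21 yf55 zf26) (kf xf22 yf43 zf58) (kf xf14 yf9 zf11) (kf xf14 yf9 zf7) (kf xf21 yf55 zf46) (kf xf21 yf55 zf42) (kf xf13 yf25 zf61) (kf xf14 yf9 zf49) (kf xf19 yf14 zf29) (kf xf22 yf27 zf60) (kf xf22 yf27 zf61) (kf xf25 yf51 zf59) (kf xf22 yf12 zf16) (kf xf22 yf12 zf15) (kf xf13 yf26 zf6) (kf xf13 yf34 zf57) (kf xf22 yf15 zf46) (kf xf22 yf15 zf47) (kf xf22 yf15 zf48) (kf xf14 yf9 zf19) (kf xf29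 yf31 zf3) (kf xf13 yf26 zf30) (kf xf13 yf26 zf29) (kf xf13 yf26 zf10) (kf xf14 yf5 zf9) (kf xf14 yf9 zf44) (kf xf14 yf9 zf47) (kf xf14 yf9 zf48) (kf xf13 yf52 zf54) (kf xf22 yf12 zf11) (kf xf22 yf12 zf12) (kf xf22 yf12 zf14) (kf xf19 yf55 zf10) (kf xf22 yf28 zf2) (kf xf22 yf28 zf1) (kf xf13 yf26 zf19) (kf xf22 yf28 zf4) (kf xf14 yf8 zf53) (kf xf14 yf46 zf13) (kf xf21 yf57 zf4) (kf xf14 yf8 zf54) (kf xf14 yf8 zf51) (kf xf14 yf8 zf55) (kf xf14 yf9 zf15) (kf xf14 yf9 zf14)) (@D3.rec (fun _ => Pt) (kf xf13 yf26 zf24) (kf xf14 yf9 zf1) (kf xf14 yf9 zf0) (kf xf13 yf26 zf26) (kf xf22 yf28 zf25) (kf xf22 yf28 zf26) (kf xf30 yf42 zf31) (kf xf28 yf1 zf30) (kf xf23 yf32 zf58) (kf xf26 yf10 zf15) (kf xf28 yf1 zf29) (kf xf30 yf0 zf37) (kf xf22 yf15 zf2) (kf xf22 yf30 zf26) (kf xf19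 yf1 zf49) (kf xf13 yf46 zf25) (kf xf23 yf18 zf6) (kf xf14 yf15 zf39) (kf xf23 yf4 zf6) (kf xf23 yf4 zf7) (kf xf23 yf4 zf9) (kf xf29 yf23 zf55) (kf xf23 yf4 zf12) (kf xf28 yf43 zf17) (kf xf23 yf4 zf3) (kf xf23 yf4 zf2) (kf xf13 yf26 zf51) (kf xf23 yf3 zf59) (kf xf23 yf4 zf0) (kf xf16 yf26 zf20) (kf xf20 yf11 zf53) (kf xf16 yf52 zf14) (kf xf20 yf11 zf55) (kf xf16 yf32 zf55) (kf xf14 yf44 zf28) (kf xf21 yf54 zf52) (kf xf20 yf48 zf45) (kf xf13 yf50 zf7) (kf xf23 yf3 zf47) (kf xf20 yf19 zf31) (kf xf13 yf50 zf15) (kf xf19 yf51 zf58) (kf xf29 yf27 zf0) (kf xf21 yf7 zf59) (kf xf22 yf42 zf45) (kf xf13 yf27 zf11) (kf xf14 yf40 zf33) (kf xf30 yf11 zf47) (kf xf14 yf44 zf1) (kf xf28 yf39 zf7) (kf xf14 yf44 zf6) (kf xf30 yf42 zf56) (kf xf14 yf44 zf19) (kf xf14 yf44 zf18) (kf xf13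 yf27 zf16) (kf xf13 yf28 zf60) (kf xf13 yf29 zf0) (kf xf13 yf29 zf1) (kf xf23 yf4 zf23) (kf xf14 yf22 zf48) (kf xf22 yf20 zf39) (kf xf23 yf13 zf29)) (@D3.rec (fun _ => Pt) (kf xf22 yf49 zf3) (kf xf18 yf55 zf54) (kf xf22 yf7 zf0) (kf xf22 yf33 zf24) (kf xf13 yf27 zf30) (kf xf23 yf4 zf36) (kf xf23 yf4 zf37) (kf xf23 yf4 zf34) (kf xf23 yf4 zf35) (kf xf20 yf11 zf41) (kf xf22 yf31 zf25) (kf xf20 yf36 zf25) (kf xf20 yf35 zf2) (kf xf13 yf52 zf1) (kf xf23 yf3 zf41) (kf xf21 yf52 zf60) (kf xf13 yf50 zf11) (kf xf20 yf19 zf39) (kf xf16 yf28 zf31) (kf xf13 yf30 zf30) (kf xf24 yf56 zf28) (kf xf16 yf31 zf13) (kf xf15 yf7 zf60) (kf xf13 yf35 zf44) (kf xf13 yf27 zf59) (kf xf13 yf30 zf21) (kf xf22 yf22 zf42) (kf xf13 yf40 zf35) (kf xf23 yf4 zf45) (kf xf23 yf4 zf41) (kf xf22 yf24 zf7)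 (kf xf23 yf4 zf42) (kf xf29 yf24 zf31) (kf xf29 yf9 zf10) (kf xf23 yf4 zf51) (kf xf30 yf43 zf9) (kf xf23 yf4 zf49) (kf xf28 yf21 zf20) (kf xf22 yf24 zf53) (kf xf22 yf24 zf54) (kf xf22 yf24 zf43) (kf xf13 yf31 zf18) (kf xf13 yf31 zf19) (kf xf24 yf9 zf20) (kf xf13 yf31 zf25) (kf xf30 yf43 zf15) (kf xf13 yf31 zf30) (kf xf13 yf28 zf13) (kf xf13 yf28 zf34) (kf xf13 yf32 zf5) (kf xf26 yf24 zf52) (kf xf30 yf43 zf18) (kf xf13 yf31 zf56) (kf xf13 yf31 zf55) (kf xf13 yf28 zf17) (kf xf13 yf30 zf22) (kf xf13 yf31 zf35) (kf xf13 yf31 zf38) (kf xf13 yf31 zf39) (kf xf13 yf31 zf40) (kf xf16 yf32 zf6) (kf xf13 yf31 zf52)) (@D3.rec (fun _ => Pt) (kf xf30 yf37 zf9) (kf xf13 yf32 zf15) (kf xf13 yf28 zf23) (kf xf15 yf34 zf35) (kf xf13 yf32 zf26) (kf xf13 yf32 zf25) (kf xf13 yf28 zf26) (kf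 xf13 yf32 zf17) (kf xf13 yf32 zf18) (kf xf20 yf32 zf27) (kf xf13 yf32 zf23) (kf xf30 yf43 zf29) (kf xf13 yf32 zf36) (kf xf13 yf32 zf35) (kf xf13 yf28 zf29) (kf xf13 yf32 zf40) (kf xf19 yf37 zf28) (kf xf13 yf32 zf38) (kf xf25 yf25 zf46) (kf xf30 yf43 zf16) (kf xf13 yf32 zf52) (kf xf13 yf32 zf51) (kf xf20 yf36 zf61) (kf xf13 yf30 zf1) (kf xf13 yf33 zf41) (kf xf13 yf33 zf50) (kf xf29 yf38 zf22) (kf xf13 yf33 zf21) (kf xf13 yf33 zf20) (kf xf13 yf28 zf40) (kf xf13 yf33 zf6) (kf xf13 yf33 zf7) (kf xf13 yf33 zf8) (kf xf13 yf33 zf18) (kf xf29 yf53 zf51) (kf xf13 yf33 zf53) (kf xf14 yf28 zf4) (kf xf14 yf28 zf5) (kf xf14 yf28 zf6) (kf xf30 yf43 zf52) (kf xf13 yf32 zf45) (kf xf15 yf39 zf21) (kf xf13 yf34 zf13) (kf xf13 yf34 zf12) (kf xf13 yf28 zf47) (kf xf13 yf35 zf12) (kf xf13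 yf35 zf19) (kf xf13 yf35 zf21) (kf xf13 yf35 zf22) (kf xf13 yf35 zf23) (kf xf30 yf43 zf56) (kf xf13 yf35 zf8) (kf xf13 yf35 zf7) (kf xf13 yf28 zf52) (kf xf13 yf34 zf54) (kf xf13 yf34 zf56) (kf xf13 yf34 zf59) (kf xf14 yf28 zf47) (kf xf13 yf35 zf3) (kf xf30 yf44 zf1) (kf xf14 yf29 zf2) (kf xf13 yf35 zf29)) (@D3.rec (fun _ => Pt) (kf xf13 yf28 zf58) (kf xf22 yf24 zf45) (kf xf23 yf12 zf15) (kf xf22 yf47 zf0) (kf xf30 yf34 zf35) (kf xf22 yf52 zf60) (kf xf17 yf1 zf16) (kf xf22 yf30 zf19) (kf xf22 yf53 zf17) (kf xf23 yf12 zf16) (kf xf30 yf33 zf0) (kf xf22 yf19 zf4) (kf xf17 yf1 zf15) (kf xf22 yf51 zf9) (kf xf22 yf59 zf45) (kf xf30 yf44 zf5) (kf xf23 yf0 zf4) (kf xf23 yf0 zf5) (kf xf25 yf18 zf30) (kf xf22 yf59 zf43) (kf xf22 yf59 zf44) (kf xf22 yf17 zf36) (kf xf30 yf44 zf13)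 (kf xf26 yf56 zf21) (kf xf28 yf56 zf2) (kf xf13 yf29 zf7) (kf xf13 yf36 zf13) (kf xf13 yf36 zf15) (kf xf24 yf22 zf12) (kf xf13 yf36 zf9) (kf xf13 yf36 zf11) (kf xf30 yf36 zf26) (kf xf30 yf44 zf19) (kf xf13 yf29 zf16) (kf xf13 yf29 zf17) (kf xf18 yf49 zf18) (kf xf28 yf25 zf48) (kf xf30 yf44 zf20) (kf xf30 yf31 zf53) (kf xf22 yf51 zf54) (kf xf13 yf38 zf17) (kf xf29 yf53 zf55) (kf xf27 yf40 zf20) (kf xf22 yf51 zf53) (kf xf22 yf41 zf43) (kf xf24 yf54 zf22) (kf xf29 yf25 zf7) (kf xf29 yf25 zf6) (kf xf27 yf52 zf10) (kf xf30 yf44 zf36) (kf xf13 yf29 zf20) (kf xf23 yf15 zf12) (kf xf21 yf52 zf57) (kf xf30 yf39 zf36) (kf xf27 yf58 zf33) (kf xf15 yf4 zf2) (kf xf23 yf6 zf39) (kf xf22 yf57 zf58) (kf xf23 yf6 zf40) (kf xf23 yf6 zf41) (kf xf23 yf6 zf42) (kf xf28 yf24 zf34)) (@D3.rec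 (fun _ => Pt) (kf xf22 yf57 zf59) (kf xf22 yf57 zf60) (kf xf23 yf6 zf29) (kf xf23 yf6 zf30) (kf xf23 yf6 zf35) (kf xf26 yf20 zf40) (kf xf20 yf21 zf34) (kf xf13 yf29 zf34) (kf xf20 yf11 zf17) (kf xf23 yf6 zf51) (kf xf30 yf44 zf44) (kf xf22 yf51 zf39) (kf xf20 yf45 zf23) (kf xf23 yf6 zf48) (kf xf13 yf29 zf37) (kf xf20 yf11 zf15) (kf xf24 yf54 zf31) (kf xf22 yf51 zf38) (kf xf26 yf29 zf59) (kf xf23 yf6 zf54) (kf xf23 yf6 zf53) (kf xf23 yf6 zf57) (kf xf22 yf39 zf29) (kf xf24 yf21 zf42) (kf xf30 yf44 zf60) (kf xf30 yf44 zf56) (kf xf18 yf53 zf13) (kf xf13 yf29 zf43) (kf xf18 yf53 zf18) (kf xf23 yf6 zf59) (kf xf14 yf53 zf41) (kf xf14 yf53 zf40) (kf xf13 yf29 zf48) (kf xf22 yf39 zf28) (kf xf30 yf45 zf5) (kf xf22 yf56 zf27) (kf xf22 yf27 zf47) (kf xf22 yf41 zf35) (kf xf22 yf41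 zf31) (kf xf24 yf29 zf49) (kf xf22 yf58 zf12) (kf xf22 yf58 zf11) (kf xf13 yf29 zf56) (kf xf14 yf24 zf23) (kf xf14 yf27 zf27) (kf xf14 yf41 zf30) (kf xf14 yf41 zf28) (kf xf14 yf41 zf29) (kf xf14 yf24 zf30) (kf xf14 yf41 zf31) (kf xf14 yf41 zf33) (kf xf14 yf28 zf28) (kf xf30 yf43 zf38) (kf xf30 yf31 zf55) (kf xf20 yf0 zf50) (kf xf20 yf11 zf18) (kf xf29 yf31 zf59) (kf xf20 yf11 zf13) (kf xf20 yf11 zf12) (kf xf18 yf10 zf44) (kf xf27 yf49 zf32) (kf xf16 yf20 zf18)) (@D3.rec (fun _ => Pt) (kf xf20 yf7 zf45) (kf xf18 yf41 zf31) (kf xf13 yf30 zf12) (kf xf23 yf6 zf21) (kf xf22 yf51 zf22) (kf xf26 yf29 zf30) (kf xf23 yf6 zf24) (kf xf13 yf30 zf15) (kf xf22 yf22 zf46) (kf xf22 yf49 zf13) (kf xf13 yf30 zf31) (kf xf13 yf30 zf28) (kf xf14 yf43 zf13) (kf xf24 yf40 zf34) (kf xf26 yf32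 zf34) (kf xf26 yf32 zf40) (kf xf26 yf29 zf28) (kf xf13 yf47 zf8) (kf xf22 yf51 zf20) (kf xf26 yf49 zf53) (kf xf22 yf51 zf18) (kf xf16 yf32 zf45) (kf xf22 yf51 zf4) (kf xf26 yf49 zf52) (kf xf30 yf45 zf39) (kf xf28 yf26 zf25) (kf xf13 yf30 zf34) (kf xf16 yf21 zf24) (kf xf23 yf9 zf9) (kf xf16 yf21 zf28) (kf xf23 yf34 zf8) (kf xf24 yf28 zf61) (kf xf23 yf7 zf27) (kf xf28 yf12 zf42) (kf xf23 yf7 zf24) (kf xf13 yf30 zf42) (kf xf16 yf33 zf12) (kf xf13 yf30 zf43) (kf xf22 yf50 zf17) (kf xf22 yf50 zf11) (kf xf24 yf21 zf46) (kf xf27 yf59 zf6) (kf xf30 yf45 zf49) (kf xf30 yf45 zf48) (kf xf13 yf30 zf46) (kf xf27 yf55 zf46) (kf xf19 yf2 zf6) (kf xf23 yf8 zf31) (kf xf30 yf31 zf59) (kf xf17 yf46 zf30) (kf xf28 yf10 zf37) (kf xf26 yf31 zf31) (kf xf30 yf45 zf55) (kf xf22 yf49 zf43) (kf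 xf22 yf49 zf39) (kf xf18 yf12 zf6) (kf xf30 yf31 zf60) (kf xf21 yf7 zf57) (kf xf16 yf21 zf37) (kf xf23 yf20 zf36) (kf xf16 yf21 zf38) (kf xf18 yf20 zf40)) (@D3.rec (fun _ => Pt) (kf xf13 yf31 zf0) (kf xf23 yf7 zf13) (kf xf29 yf7 zf8) (kf xf23 yf7 zf18) (kf xf23 yf7 zf17) (kf xf13 yf31 zf2) (kf xf28 yf11 zf6) (kf xf28 yf11 zf7) (kf xf28 yf5 zf37) (kf xf20 yf29 zf24) (kf xf16 yf31 zf16) (kf xf13 yf49 zf56) (kf xf13 yf31 zf10) (kf xf13 yf42 zf6) (kf xf30 yf32 zf4) (kf xf13 yf42 zf11) (kf xf30 yf46 zf7) (kf xf26 yf23 zf51) (kf xf13 yf39 zf57) (kf xf21 yf10 zf22) (kf xf15 yf26 zf60) (kf xf29 yf41 zf9) (kf xf27 yf9 zf50) (kf xf16 yf25 zf56) (kf xf25 yf5 zf12) (kf xf30 yf43 zf12) (kf xf25 yf8 zf33) (kf xf30 yf46 zf12) (kf xf23 yf20 zf25) (kf xf23 yf20 zf26) (kf xf20 yf32 zf37)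 (kf xf13 yf31 zf20) (kf xf13 yf50 zf51) (kf xf24 yf59 zf46) (kf xf28 yf9 zf46) (kf xf25 yf4 zf50) (kf xf25 yf33 zf20) (kf xf13 yf31 zf49) (kf xf13 yf31 zf24) (kf xf16 yf28 zf42) (kf xf30 yf26 zf46) (kf xf26 yf23 zf54) (kf xf28 yf20 zf29) (kf xf16 yf28 zf34) (kf xf16 yf28 zf33) (kf xf13 yf31 zf26) (kf xf15 yf35 zf47) (kf xf15 yf17 zf18) (kf xf28 yf20 zf32) (kf xf30 yf43 zf14) (kf xf30 yf18 zf48) (kf xf13 yf31 zf28) (kf xf22 yf20 zf61) (kf xf29 yf28 zf15) (kf xf25 yf35 zf38) (kf xf14 yf51 zf41) (kf xf30 yf18 zf46) (kf xf13 yf32 zf50) (kf xf23 yf7 zf0) (kf xf23 yf7 zf1) (kf xf22 yf49 zf5) (kf xf30 yf43 zf20)) (@D3.rec (fun _ => Pt) (kf xf28 yf23 zf2) (kf xf14 yf26 zf26) (kf xf14 yf26 zf29) (kf xf30 yf46 zf32) (kf xf30 yf43 zf21) (kf xf17 yf1 zf4) (kf xf30 yf43 zf22) (kf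 xf26 yf20 zf24) (kf xf30 yf43 zf23) (kf xf30 yf43 zf24) (kf xf28 yf34 zf40) (kf xf30 yf43 zf25) (kf xf28 yf20 zf11) (kf xf30 yf46 zf28) (kf xf30 yf46 zf27) (kf xf21 yf15 zf41) (kf xf13 yf31 zf41) (kf xf22 yf49 zf8) (kf xf13 yf48 zf28) (kf xf24 yf9 zf18) (kf xf19 yf39 zf56) (kf xf24 yf9 zf16) (kf xf24 yf9 zf15) (kf xf24 yf8 zf46) (kf xf30 yf46 zf17) (kf xf25 yf32 zf51) (kf xf25 yf50 zf4) (kf xf24 yf14 zf8) (kf xf24 yf14 zf12) (kf xf25 yf34 zf16) (kf xf24 yf8 zf1) (kf xf28 yf23 zf17) (kf xf19 yf7 zf24) (kf xf22 yf56 zf5) (kf xf22 yf56 zf2) (kf xf30 yf46 zf56) (kf xf13 yf31 zf54) (kf xf14 yf11 zf11) (kf xf21 yf38 zf55) (kf xf23 yf15 zf6) (kf xf30 yf43 zf19) (kf xf23 yf15 zf7) (kf xf30 yf6 zf44) (kf xf13 yf48 zf43) (kf xf13 yf48 zf42) (kf xf30 yf47 zf6) (kf xf13 yf31 zf57)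 (kf xf13 yf48 zf31) (kf xf14 yf53 zf19) (kf xf21 yf30 zf6) (kf xf13 yf32 zf1) (kf xf14 yf53 zf18) (kf xf14 yf53 zf20) (kf xf26 yf25 zf48) (kf xf23 yf7 zf22) (kf xf24 yf8 zf3) (kf xf25 yf4 zf60) (kf xf30 yf47 zf14) (kf xf22 yf56 zf54) (kf xf22 yf56 zf52) (kf xf23 yf27 zf32) (kf xf13 yf32 zf13)) (@D3.rec (fun _ => Pt) (kf xf26 yf25 zf39) (kf xf25 yf12 zf22) (kf xf29 yf5 zf42) (kf xf23 yf27 zf39) (kf xf20 yf33 zf61) (kf xf13 yf51 zf1) (kf xf30 yf47 zf20) (kf xf14 yf25 zf41) (kf xf30 yf43 zf27) (kf xf22 yf6 zf42) (kf xf30 yf43 zf28) (kf xf20 yf34 zf0) (kf xf13 yf51 zf6) (kf xf30 yf47 zf19) (kf xf30 yf47 zf18) (kf xf13 yf32 zf20) (kf xf27 yf42 zf7) (kf xf22 yf59 zf13) (kf xf15 yf15 zf50) (kf xf15 yf15 zf49) (kf xf13 yf32 zf24) (kf xf28 yf28 zf30) (kf xf28 yf23 zf58) (kf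 xf27 yf59 zf20) (kf xf30 yf43 zf26) (kf xf27 yf59 zf21) (kf xf30 yf46 zf22) (kf xf15 yf16 zf54) (kf xf21 yf14 zf28) (kf xf29 yf50 zf23) (kf xf15 yf34 zf36) (kf xf13 yf50 zf43) (kf xf16 yf28 zf54) (kf xf13 yf32 zf31) (kf xf15 yf15 zf61) (kf xf25 yf24 zf53) (kf xf24 yf9 zf40) (kf xf24 yf9 zf37) (kf xf25 yf51 zf30) (kf xf13 yf32 zf34) (kf xf25 yf25 zf45) (kf xf24 yf31 zf24) (kf xf30 yf37 zf12) (kf xf30 yf43 zf30) (kf xf24 yf8 zf50) (kf xf26 yf26 zf10) (kf xf30 yf43 zf31) (kf xf30 yf47 zf41) (kf xf15 yf21 zf3) (kf xf13 yf32 zf39) (kf xf24 yf8 zf45) (kf xf19 yf37 zf27) (kf xf22 yf20 zf51) (kf xf19 yf37 zf30) (kf xf13 yf32 zf42) (kf xf23 yf56 zf6) (kf xf29 yf37 zf45) (kf xf29 yf37 zf16) (kf xf29 yf40 zf55) (kf xf29 yf28 zf13) (kf xf24 yf39 zf0) (kf xf30 yf19 zf54)) (@D3.rec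 (fun _ => Pt) (kf xf24 yf38 zf60) (kf xf29 yf3 zf30) (kf xf24 yf39 zf3) (kf xf24 yf39 zf2) (kf xf13 yf32 zf49) (kf xf30 yf43 zf34) (kf xf30 yf43 zf33) (kf xf30 yf6 zf8) (kf xf26 yf28 zf38) (kf xf29 yf50 zf54) (kf xf30 yf36 zf47) (kf xf30 yf47 zf29) (kf xf30 yf36 zf46) (kf xf22 yf38 zf54) (kf xf14 yf28 zf36) (kf xf14 yf40 zf13) (kf xf14 yf47 zf18) (kf xf14 yf47 zf20) (kf xf14 yf47 zf21) (kf xf14 yf47 zf22) (kf xf18 yf52 zf44) (kf xf14 yf47 zf27) (kf xf14 yf47 zf15) (kf xf13 yf32 zf57) (kf xf20 yf37 zf8) (kf xf29 yf53 zf24) (kf xf21 yf39 zf39) (kf xf30 yf43 zf37) (kf xf30 yf43 zf36) (kf xf13 yf33 zf1) (kf xf14 yf1 zf50) (kf xf14 yf1 zf51) (kf xf23 yf6 zf7) (kf xf16 yf27 zf12) (kf xf26 yf30 zf37) (kf xf24 yf57 zf17) (kf xf21 yf13 zf5) (kf xf29 yf53 zf1) (kf xf30 yf43 zf44)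 (kf xf29 yf53 zf2) (kf xf23 yf8 zf38) (kf xf23 yf8 zf40) (kf xf30 yf43 zf45) (kf xf30 yf43 zf46) (kf xf26 yf30 zf40) (kf xf24 yf59 zf61) (kf xf23 yf31 zf24) (kf xf21 yf13 zf1) (kf xf13 yf38 zf10) (kf xf23 yf18 zf32) (kf xf25 yf29 zf27) (kf xf24 yf9 zf23) (kf xf24 yf9 zf22) (kf xf13 yf33 zf14) (kf xf26 yf17 zf39) (kf xf30 yf48 zf11) (kf xf24 yf9 zf26) (kf xf13 yf33 zf17) (kf xf24 yf8 zf51) (kf xf26 yf24 zf15) (kf xf30 yf48 zf15) (kf xf30 yf48 zf17)) (@D3.rec (fun _ => Pt) (kf xf13 yf33 zf19) (kf xf30 yf43 zf42) (kf xf22 yf53 zf34) (kf xf23 yf18 zf25) (kf xf30 yf43 zf41) (kf xf22 yf53 zf33) (kf xf24 yf59 zf59) (kf xf30 yf33 zf48) (kf xf23 yf18 zf49) (kf xf23 yf18 zf48) (kf xf30 yf48 zf29) (kf xf13 yf33 zf22) (kf xf13 yf48 zf45) (kf xf14 yf14 zf41) (kf xf14 yf14 zf36)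 (kf xf28 yf53 zf47) (kf xf24 yf1 zf40) (kf xf25 yf26 zf54) (kf xf29 yf32 zf12) (kf xf28 yf50 zf49) (kf xf13 yf33 zf31) (kf xf14 yf22 zf41) (kf xf14 yf24 zf24) (kf xf14 yf24 zf25) (kf xf14 yf24 zf26) (kf xf14 yf24 zf27) (kf xf30 yf48 zf44) (kf xf22 yf50 zf35) (kf xf28 yf58 zf1) (kf xf14 yf24 zf52) (kf xf14 yf24 zf51) (kf xf13 yf33 zf37) (kf xf23 yf4 zf11) (kf xf14 yf28 zf23) (kf xf13 yf43 zf39) (kf xf30 yf46 zf16) (kf xf23 yf6 zf2) (kf xf17 yf3 zf47) (kf xf27 yf59 zf36) (kf xf23 yf10 zf11) (kf xf24 yf9 zf31) (kf xf26 yf58 zf7) (kf xf23 yf10 zf18) (kf xf20 yf36 zf56) (kf xf29 yf50 zf2) (kf xf27 yf21 zf22) (kf xf29 yf40 zf39) (kf xf25 yf18 zf10) (kf xf21 yf28 zf44) (kf xf29 yf22 zf20) (kf xf30 yf49 zf0) (kf xf13 yf33 zf51) (kf xf22 yf53 zf59) (kf xf26 yf18 zf22) (kf xf22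 yf53 zf58) (kf xf20 yf1 zf0) (kf xf22 yf37 zf52) (kf xf23 yf27 zf21) (kf xf13 yf33 zf54) (kf xf29 yf22 zf21) (kf xf30 yf39 zf44) (kf xf28 yf22 zf59)) (@D3.rec (fun _ => Pt) (kf xf24 yf29 zf23) (kf xf14 yf27 zf0) (kf xf13 yf33 zf61) (kf xf13 yf51 zf53) (kf xf13 yf51 zf50) (kf xf14 yf19 zf2) (kf xf14 yf19 zf3) (kf xf14 yf19 zf4) (kf xf14 yf19 zf6) (kf xf14 yf18 zf60) (kf xf14 yf19 zf8) (kf xf14 yf19 zf9) (kf xf14 yf19 zf10) (kf xf14 yf32 zf7) (kf xf13 yf34 zf5) (kf xf19 yf7 zf17) (kf xf24 yf38 zf56) (kf xf30 yf49 zf15) (kf xf24 yf38 zf59) (kf xf24 yf38 zf58) (kf xf13 yf34 zf7) (kf xf14 yf39 zf25) (kf xf14 yf31 zf41) (kf xf15 yf40 zf1) (kf xf15 yf39 zf27) (kf xf15 yf39 zf28) (kf xf28 yf14 zf9) (kf xf24 yf8 zf5) (kf xf13 yf45 zf29) (kf xf23 yf33 zf60) (kf xf30 yf43 zf53)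 (kf xf24 yf8 zf4) (kf xf24 yf18 zf53) (kf xf25 yf50 zf18) (kf xf14 yf15 zf48) (kf xf22 yf30 zf49) (kf xf22 yf30 zf48) (kf xf14 yf16 zf25) (kf xf13 yf47 zf51) (kf xf14 yf16 zf27) (kf xf30 yf18 zf43) (kf xf14 yf16 zf29) (kf xf26 yf45 zf5) (kf xf14 yf16 zf7) (kf xf14 yf16 zf31) (kf xf14 yf16 zf32) (kf xf19 yf51 zf32) (kf xf14 yf16 zf34) (kf xf14 yf16 zf37) (kf xf14 yf16 zf38) (kf xf28 yf22 zf54) (kf xf23 yf11 zf35) (kf xf18 yf4 zf20) (kf xf30 yf49 zf33) (kf xf23 yf11 zf33) (kf xf18 yf4 zf19) (kf xf30 yf49 zf37) (kf xf14 yf43 zf1) (kf xf22 yf49 zf57) (kf xf22 yf50 zf0) (kf xf22 yf50 zf1) (kf xf22 yf20 zf38)) (@D3.rec (fun _ => Pt) (kf xf23 yf4 zf27) (kf xf23 yf4 zf28) (kf xf24 yf6 zf44) (kf xf23 yf53 zf14) (kf xf24 yf6 zf45) (kf xf23 yf48 zf34) (kf xf23 yf13 zf35) (kf xf23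 yf13 zf36) (kf xf23 yf13 zf33) (kf xf23 yf13 zf34) (kf xf22 yf33 zf36) (kf xf22 yf50 zf41) (kf xf22 yf50 zf40) (kf xf30 yf50 zf3) (kf xf13 yf34 zf49) (kf xf22 yf39 zf59) (kf xf14 yf22 zf26) (kf xf21 yf57 zf7) (kf xf14 yf29 zf29) (kf xf30 yf13 zf28) (kf xf14 yf38 zf22) (kf xf22 yf27 zf4) (kf xf23 yf37 zf23) (kf xf14 yf0 zf61) (kf xf30 yf43 zf58) (kf xf22 yf20 zf48) (kf xf14 yf28 zf46) (kf xf14 yf0 zf59) (kf xf25 yf16 zf23) (kf xf22 yf35 zf46) (kf xf28 yf33 zf34) (kf xf22 yf35 zf48) (kf xf22 yf35 zf49) (kf xf30 yf50 zf12) (kf xf22 yf16 zf58) (kf xf28 yf46 zf39) (kf xf30 yf43 zf60) (kf xf14 yf26 zf31) (kf xf23 yf56 zf55) (kf xf30 yf50 zf16) (kf xf13 yf35 zf4) (kf xf14 yf18 zf57) (kf xf14 yf40 zf28) (kf xf14 yf40 zf29) (kf xf14 yf40 zf30) (kf xf21 yf11 zf17) (kf xf30 yf37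 zf27) (kf xf30 yf43 zf57) (kf xf30 yf36 zf23) (kf xf14 yf40 zf49) (kf xf14 yf40 zf48) (kf xf30 yf11 zf46) (kf xf13 yf35 zf9) (kf xf14 yf37 zf56) (kf xf23 yf11 zf59) (kf xf14 yf39 zf5) (kf xf22 yf16 zf33) (kf xf30 yf44 zf16) (kf xf13 yf35 zf34) (kf xf22 yf22 zf36) (kf xf14 yf31 zf14) (kf xf13 yf35 zf26)) (@D3.rec (fun _ => Pt) (kf xf22 yf16 zf34) (kf xf30 yf50 zf24) (kf xf29 yf50 zf45) (kf xf24 yf6 zf54) (kf xf13 yf35 zf25) (kf xf22 yf36 zf6) (kf xf13 yf35 zf20) (kf xf23 yf52 zf25) (kf xf29 yf50 zf61) (kf xf28 yf33 zf56) (kf xf22 yf36 zf32) (kf xf30 yf43 zf54) (kf xf22 yf16 zf28) (kf xf22 yf54 zf17) (kf xf24 yf6 zf55) (kf xf30 yf50 zf33) (kf xf13 yf35 zf24) (kf xf29 yf28 zf5) (kf xf20 yf41 zf50) (kf xf22 yf39 zf51) (kf xf30 yf38 zf13) (kf xf20 yf33 zf16) (kf xf24 yf18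 zf55) (kf xf22 yf35 zf61) (kf xf22 yf39 zf49) (kf xf22 yf39 zf48) (kf xf30 yf50 zf45) (kf xf13 yf35 zf31) (kf xf22 yf39 zf53) (kf xf23 yf18 zf60) (kf xf22 yf36 zf35) (kf xf23 yf18 zf61) (kf xf23 yf4 zf53) (kf xf14 yf11 zf3) (kf xf15 yf40 zf7) (kf xf15 yf34 zf20) (kf xf29 yf37 zf34) (kf xf23 yf19 zf1) (kf xf13 yf35 zf54) (kf xf13 yf35 zf53) (kf xf13 yf35 zf46) (kf xf14 yf11 zf13) (kf xf18 yf54 zf30) (kf xf22 yf49 zf19) (kf xf22 yf49 zf20) (kf xf22 yf49 zf14) (kf xf30 yf50 zf53) (kf xf19 yf39 zf61) (kf xf13 yf35 zf51) (kf xf26 yf24 zf18) (kf xf20 yf36 zf43) (kf xf19 yf39 zf60) (kf xf19 yf37 zf31) (kf xf30 yf50 zf60) (kf xf19 yf37 zf32) (kf xf13 yf35 zf56) (kf xf29 yf39 zf34) (kf xf29 yf39 zf47) (kf xf23 yf11 zf58) (kf xf18 yf56 zf57) (kf xf18 yf56 zf55) (kf xf30 yf50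 zf41))
def f_f_23 : D2 → D3 → Pt := @D2.rec (fun _ => D3 → Pt) (@D3.rec (fun _ => Pt) (kf xf23 yf11 zf54) (kf xf22 yf32 zf0) (kf xf22 yf32 zf2) (kf xf29 yf30 zf30) (kf xf22 yf49 zf16) (kf xf22 yf49 zf17) (kf xf26 yf56 zf7) (kf xf29 yf2 zf57) (kf xf13 yf36 zf4) (kf xf23 yf0 zf44) (kf xf23 yf0 zf45) (kf xf24 yf18 zf59) (kf xf23 yf0 zf41) (kf xf30 yf51 zf6) (kf xf20 yf46 zf35) (kf xf23 yf30 zf31) (kf xf13 yf36 zf7) (kf xf23 yf11 zf42) (kf xf30 yf26 zf36) (kf xf24 yf6 zf29) (kf xf30 yf44 zf17) (kf xf28 yf38 zf54) (kf xf23 yf53 zf42) (kf xf20 yf11 zf39) (kf xf23 yf54 zf21) (kf xf14 yf31 zf46) (kf xf15 yf40 zf44) (kf xf25 yf43 zf12) (kf xf19 yf8 zf27) (kf xf23 yf11 zf56) (kf xf13 yf36 zf12) (kf xf23 yf11 zf60) (kf xf19 yf8 zf9) (kf xf19 yf2 zf41) (kf xf28 yf38 zf15) (kf xf30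 yf51 zf15) (kf xf25 yf31 zf41) (kf xf14 yf31 zf53) (kf xf14 yf35 zf42) (kf xf24 yf24 zf30) (kf xf13 yf36 zf16) (kf xf23 yf0 zf12) (kf xf22 yf39 zf19) (kf xf23 yf11 zf25) (kf xf23 yf0 zf9) (kf xf23 yf0 zf10) (kf xf30 yf50 zf61) (kf xf26 yf27 zf35) (kf xf13 yf36 zf22) (kf xf23 yf1 zf25) (kf xf17 yf26 zf5) (kf xf25 yf24 zf44) (kf xf17 yf24 zf11) (kf xf13 yf36 zf25) (kf xf23 yf1 zf29) (kf xf23 yf1 zf30) (kf xf29 yf37 zf14) (kf xf29 yf4 zf17) (kf xf23 yf12 zf12) (kf xf22 yf15 zf44) (kf xf18 yf53 zf35) (kf xf14 yf0 zf34)) (@D3.rec (fun _ => Pt) (kf xf14 yf0 zf30) (kf xf14 yf0 zf36) (kf xf29 yf23 zf3) (kf xf14 yf29 zf4) (kf xf25 yf49 zf10) (kf xf24 yf37 zf9) (kf xf24 yf37 zf8) (kf xf13 yf36 zf37) (kf xf21 yf3 zf19) (kf xf22 yf21 zf2) (kf xf13 yf36 zf42) (kf xf22 yf21 zf4)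 (kf xf27 yf12 zf61) (kf xf22 yf21 zf6) (kf xf19 yf45 zf12) (kf xf14 yf50 zf50) (kf xf25 yf49 zf35) (kf xf26 yf15 zf3) (kf xf22 yf23 zf4) (kf xf13 yf43 zf55) (kf xf13 yf43 zf51) (kf xf27 yf23 zf54) (kf xf25 yf26 zf0) (kf xf22 yf22 zf55) (kf xf13 yf36 zf54) (kf xf23 yf0 zf49) (kf xf20 yf43 zf30) (kf xf20 yf43 zf12) (kf xf13 yf36 zf57) (kf xf23 yf0 zf54) (kf xf23 yf0 zf55) (kf xf20 yf43 zf29) (kf xf16 yf45 zf38) (kf xf15 yf15 zf16) (kf xf16 yf45 zf40) (kf xf30 yf9 zf46) (kf xf19 yf45 zf23) (kf xf19 yf45 zf24) (kf xf19 yf45 zf25) (kf xf27 yf9 zf25) (kf xf27 yf12 zf35) (kf xf27 yf12 zf39) (kf xf27 yf12 zf29) (kf xf13 yf37 zf2) (kf xf14 yf33 zf47) (kf xf16 yf16 zf39) (kf xf22 yf22 zf15) (kf xf18 yf2 zf2) (kf xf29 yf41 zf50) (kf xf19 yf47 zf53) (kf xf13 yf37 zf10) (kf xf17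 yf36 zf30) (kf xf21 yf25 zf3) (kf xf21 yf25 zf4) (kf xf21 yf25 zf20) (kf xf30 yf17 zf3) (kf xf21 yf25 zf26) (kf xf23 yf2 zf5) (kf xf23 yf2 zf4) (kf xf14 yf4 zf9) (kf xf30 yf1 zf61) (kf xf13 yf37 zf27)) (@D3.rec (fun _ => Pt) (kf xf13 yf37 zf26) (kf xf13 yf37 zf19) (kf xf14 yf9 zf35) (kf xf14 yf9 zf36) (kf xf23 yf1 zf58) (kf xf23 yf1 zf57) (kf xf13 yf37 zf25) (kf xf30 yf51 zf52) (kf xf18 yf29 zf12) (kf xf24 yf43 zf61) (kf xf24 yf40 zf15) (kf xf30 yf32 zf50) (kf xf18 yf29 zf11) (kf xf30 yf51 zf51) (kf xf30 yf52 zf0) (kf xf24 yf8 zf54) (kf xf30 yf52 zf1) (kf xf16 yf27 zf19) (kf xf22 yf27 zf44) (kf xf22 yf27 zf43) (kf xf13 yf37 zf34) (kf xf22 yf27 zf5) (kf xf14 yf0 zf37) (kf xf13 yf50 zf18) (kf xf22 yf27 zf34) (kf xf29 yf55 zf31) (kf xf26 yf27 zf38) (kf xf21 yf33 zf2) (kf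 xf21 yf27 zf55) (kf xf23 yf30 zf38) (kf xf21 yf31 zf31) (kf xf21 yf27 zf59) (kf xf23 yf33 zf18) (kf xf21 yf24 zf51) (kf xf21 yf31 zf32) (kf xf21 yf31 zf33) (kf xf23 yf3 zf4) (kf xf23 yf3 zf3) (kf xf30 yf52 zf17) (kf xf13 yf37 zf45) (kf xf21 yf32 zf60) (kf xf21 yf28 zf18) (kf xf21 yf28 zf19) (kf xf21 yf32 zf61) (kf xf17 yf16 zf26) (kf xf17 yf16 zf25) (kf xf21 yf28 zf24) (kf xf21 yf26 zf60) (kf xf27 yf22 zf59) (kf xf13 yf37 zf52) (kf xf21 yf31 zf29) (kf xf21 yf31 zf30) (kf xf18 yf50 zf24) (kf xf20 yf19 zf19) (kf xf21 yf21 zf46) (kf xf13 yf38 zf5) (kf xf13 yf38 zf4) (kf xf13 yf37 zf58) (kf xf30 yf23 zf5) (kf xf13 yf50 zf27) (kf xf23 yf15 zf53) (kf xf13 yf51 zf45)) (@D3.rec (fun _ => Pt) (kf xf13 yf51 zf46) (kf xf13 yf51 zf47) (kf xf30 yf52 zf29) (kf xf23 yf2 zf37) (kf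 xf23 yf2 zf36) (kf xf30 yf52 zf34) (kf xf13 yf38 zf3) (kf xf30 yf12 zf59) (kf xf30 yf32 zf7) (kf xf24 yf30 zf38) (kf xf18 yf42 zf43) (kf xf30 yf12 zf58) (kf xf30 yf52 zf21) (kf xf30 yf52 zf39) (kf xf23 yf16 zf37) (kf xf22 yf28 zf21) (kf xf13 yf38 zf8) (kf xf13 yf49 zf4) (kf xf22 yf41 zf44) (kf xf13 yf38 zf18) (kf xf13 yf38 zf20) (kf xf14 yf5 zf19) (kf xf14 yf5 zf20) (kf xf21 yf29 zf50) (kf xf21 yf29 zf27) (kf xf17 yf57 zf3) (kf xf20 yf19 zf45) (kf xf23 yf21 zf27) (kf xf14 yf5 zf17) (kf xf27 yf41 zf8) (kf xf24 yf54 zf28) (kf xf15 yf8 zf7) (kf xf26 yf18 zf28) (kf xf13 yf57 zf51) (kf xf30 yf52 zf50) (kf xf13 yf38 zf24) (kf xf20 yf8 zf61) (kf xf20 yf50 zf45) (kf xf23 yf21 zf50) (kf xf24 yf9 zf25) (kf xf22 yf34 zf1) (kf xf22 yf47 zf14) (kf xf21 yf53 zf35) (kf xf21 yf53 zf37)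 (kf xf16 yf24 zf53) (kf xf13 yf46 zf24) (kf xf13 yf46 zf26) (kf xf22 yf46 zf38) (kf xf19 yf39 zf57) (kf xf13 yf46 zf37) (kf xf21 yf41 zf50) (kf xf18 yf59 zf59) (kf xf20 yf15 zf2) (kf xf16 yf24 zf5) (kf xf16 yf35 zf38) (kf xf16 yf23 zf61) (kf xf29 yf40 zf59) (kf xf30 yf52 zf54) (kf xf13 yf38 zf54) (kf xf22 yf46 zf27) (kf xf20 yf0 zf54) (kf xf20 yf1 zf31)) (@D3.rec (fun _ => Pt) (kf xf22 yf46 zf28) (kf xf26 yf23 zf42) (kf xf22 yf46 zf25) (kf xf22 yf46 zf24) (kf xf20 yf41 zf46) (kf xf17 yf0 zf18) (kf xf22 yf46 zf18) (kf xf22 yf46 zf19) (kf xf20 yf19 zf43) (kf xf22 yf46 zf20) (kf xf22 yf33 zf61) (kf xf22 yf56 zf32) (kf xf22 yf46 zf22) (kf xf20 yf6 zf19) (kf xf28 yf47 zf52) (kf xf13 yf39 zf6) (kf xf30 yf52 zf57) (kf xf20 yf11 zf28) (kf xf30 yf52 zf56) (kf xf13 yf39 zf7)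 (kf xf16 yf24 zf29) (kf xf20 yf26 zf20) (kf xf13 yf39 zf12) (kf xf22 yf46 zf58) (kf xf14 yf43 zf52) (kf xf14 yf26 zf36) (kf xf28 yf24 zf3) (kf xf22 yf58 zf0) (kf xf22 yf58 zf1) (kf xf22 yf34 zf19) (kf xf14 yf26 zf34) (kf xf29 yf3 zf1) (kf xf28 yf22 zf50) (kf xf13 yf39 zf21) (kf xf22 yf47 zf7) (kf xf22 yf47 zf8) (kf xf22 yf47 zf5) (kf xf22 yf47 zf6) (kf xf28 yf23 zf7) (kf xf27 yf40 zf19) (kf xf18 yf4 zf53) (kf xf22 yf47 zf29) (kf xf22 yf47 zf31) (kf xf13 yf42 zf23) (kf xf22 yf27 zf40) (kf xf22 yf47 zf28) (kf xf20 yf19 zf47) (kf xf22 yf16 zf45) (kf xf19 yf53 zf13) (kf xf22 yf47 zf36) (kf xf30 yf53 zf17) (kf xf22 yf47 zf34) (kf xf30 yf53 zf20) (kf xf22 yf59 zf32) (kf xf13 yf42 zf39) (kf xf13 yf42 zf40) (kf xf13 yf42 zf41) (kf xf16 yf33 zf48) (kf xf30 yf46 zf5) (kf xf13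 yf42 zf43) (kf xf30 yf53 zf24) (kf xf13 yf42 zf33)) (@D3.rec (fun _ => Pt) (kf xf13 yf39 zf40) (kf xf13 yf41 zf29) (kf xf30 yf53 zf25) (kf xf13 yf42 zf46) (kf xf13 yf39 zf45) (kf xf13 yf42 zf61) (kf xf13 yf43 zf2) (kf xf30 yf53 zf27) (kf xf13 yf42 zf57) (kf xf13 yf42 zf56) (kf xf13 yf39 zf48) (kf xf29 yf19 zf5) (kf xf30 yf48 zf23) (kf xf13 yf43 zf6) (kf xf13 yf43 zf5) (kf xf13 yf39 zf51) (kf xf25 yf59 zf29) (kf xf29 yf43 zf1) (kf xf29 yf42 zf61) (kf xf30 yf53 zf32) (kf xf13 yf44 zf31) (kf xf13 yf39 zf54) (kf xf28 yf41 zf51) (kf xf26 yf23 zf52) (kf xf13 yf43 zf24) (kf xf13 yf43 zf23) (kf xf26 yf23 zf26) (kf xf13 yf43 zf53) (kf xf30 yf53 zf43) (kf xf30 yf53 zf44) (kf xf13 yf43 zf48) (kf xf13 yf43 zf47) (kf xf13 yf40 zf1) (kf xf13 yf43 zf35) (kf xf30 yf53 zf46) (kf xf13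 yf44 zf0) (kf xf13 yf43 zf61) (kf xf13 yf40 zf6) (kf xf13 yf44 zf14) (kf xf13 yf44 zf15) (kf xf23 yf43 zf49) (kf xf30 yf24 zf36) (kf xf17 yf0 zf35) (kf xf22 yf32 zf18) (kf xf13 yf43 zf18) (kf xf24 yf39 zf9) (kf xf13 yf44 zf34) (kf xf13 yf44 zf33) (kf xf13 yf40 zf14) (kf xf22 yf32 zf1) (kf xf23 yf55 zf15) (kf xf23 yf12 zf4) (kf xf23 yf12 zf5) (kf xf29 yf19 zf30) (kf xf30 yf24 zf35) (kf xf29 yf7 zf52) (kf xf13 yf40 zf20) (kf xf13 yf45 zf30) (kf xf13 yf45 zf32) (kf xf13 yf45 zf26) (kf xf13 yf45 zf28) (kf xf30 yf11 zf0)) (@D3.rec (fun _ => Pt) (kf xf14 yf43 zf0) (kf xf15 yf4 zf53) (kf xf22 yf56 zf36) (kf xf25 yf59 zf28) (kf xf25 yf59 zf33) (kf xf23 yf8 zf60) (kf xf21 yf14 zf59) (kf xf22 yf55 zf32) (kf xf24 yf56 zf41) (kf xf14 yf43 zf4) (kf xf26 yf18 zf26) (kf xf17 yf54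 zf36) (kf xf25 yf3 zf18) (kf xf22 yf30 zf35) (kf xf13 yf52 zf53) (kf xf13 yf49 zf6) (kf xf14 yf19 zf35) (kf xf14 yf42 zf58) (kf xf14 yf42 zf59) (kf xf24 yf56 zf36) (kf xf18 yf36 zf31) (kf xf22 yf51 zf3) (kf xf18 yf19 zf55) (kf xf13 yf40 zf52) (kf xf22 yf51 zf6) (kf xf20 yf47 zf26) (kf xf22 yf10 zf43) (kf xf18 yf33 zf41) (kf xf30 yf12 zf5) (kf xf22 yf50 zf2) (kf xf22 yf50 zf3) (kf xf20 yf6 zf8) (kf xf22 yf41 zf45) (kf xf28 yf10 zf42) (kf xf25 yf59 zf32) (kf xf22 yf50 zf4) (kf xf28 yf18 zf41) (kf xf14 yf18 zf31) (kf xf14 yf25 zf32) (kf xf22 yf49 zf56) (kf xf22 yf49 zf58) (kf xf22 yf49 zf59) (kf xf22 yf49 zf60) (kf xf29 yf14 zf40) (kf xf18 yf45 zf8) (kf xf19 yf22 zf8) (kf xf18 yf56 zf35) (kf xf13 yf41 zf11) (kf xf22 yf50 zf13) (kf xf17 yf23 zf8) (kf xf13 yf41 zf12) (kf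 xf22 yf50 zf9) (kf xf26 yf52 zf50) (kf xf22 yf50 zf20) (kf xf22 yf50 zf19) (kf xf13 yf41 zf14) (kf xf17 yf23 zf6) (kf xf22 yf50 zf21) (kf xf26 yf29 zf58) (kf xf22 yf50 zf29) (kf xf26 yf20 zf42) (kf xf25 yf46 zf53)) (@D3.rec (fun _ => Pt) (kf xf22 yf52 zf58) (kf xf22 yf52 zf59) (kf xf28 yf55 zf34) (kf xf29 yf41 zf2) (kf xf13 yf41 zf56) (kf xf22 yf19 zf1) (kf xf13 yf47 zf54) (kf xf26 yf19 zf39) (kf xf26 yf29 zf48) (kf xf24 yf47 zf31) (kf xf29 yf41 zf3) (kf xf21 yf8 zf15) (kf xf18 yf39 zf18) (kf xf22 yf52 zf1) (kf xf30 yf54 zf17) (kf xf18 yf41 zf49) (kf xf13 yf41 zf47) (kf xf22 yf52 zf4) (kf xf22 yf52 zf3) (kf xf13 yf41 zf48) (kf xf21 yf28 zf59) (kf xf21 yf28 zf53) (kf xf22 yf53 zf54) (kf xf24 yf40 zf24) (kf xf22 yf51 zf34) (kf xf20 yf45 zf25) (kf xf13 yf41 zf57) (kf xf22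 yf51 zf32) (kf xf26 yf27 zf15) (kf xf30 yf22 zf48) (kf xf20 yf45 zf42) (kf xf30 yf54 zf20) (kf xf22 yf39 zf46) (kf xf13 yf41 zf60) (kf xf30 yf54 zf24) (kf xf24 yf46 zf0) (kf xf18 yf57 zf7) (kf xf30 yf40 zf1) (kf xf30 yf33 zf46) (kf xf16 yf28 zf10) (kf xf16 yf28 zf15) (kf xf25 yf58 zf26) (kf xf20 yf49 zf50) (kf xf14 yf18 zf53) (kf xf30 yf46 zf55) (kf xf23 yf16 zf12) (kf xf23 yf16 zf14) (kf xf30 yf32 zf3) (kf xf13 yf42 zf7) (kf xf13 yf47 zf39) (kf xf29 yf52 zf54) (kf xf19 yf36 zf13) (kf xf30 yf54 zf31) (kf xf13 yf42 zf27) (kf xf13 yf42 zf10) (kf xf16 yf26 zf33) (kf xf15 yf31 zf48) (kf xf25 yf55 zf13) (kf xf26 yf30 zf61) (kf xf26 yf25 zf35) (kf xf13 yf42 zf12) (kf xf26 yf30 zf59)) (@D3.rec (fun _ => Pt) (kf xf26 yf30 zf60) (kf xf30 yf54 zf34) (kf xf24 yf31 zf19) (kf xf24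 yf31 zf17) (kf xf13 yf42 zf14) (kf xf13 yf43 zf22) (kf xf20 yf1 zf58) (kf xf26 yf29 zf9) (kf xf30 yf54 zf39) (kf xf30 yf54 zf38) (kf xf13 yf42 zf22) (kf xf29 yf40 zf18) (kf xf20 yf53 zf59) (kf xf25 yf58 zf30) (kf xf24 yf35 zf2) (kf xf24 yf35 zf1) (kf xf13 yf42 zf25) (kf xf24 yf34 zf61) (kf xf30 yf14 zf15) (kf xf23 yf10 zf13) (kf xf30 yf54 zf30) (kf xf19 yf36 zf14) (kf xf17 yf25 zf59) (kf xf23 yf10 zf28) (kf xf28 yf34 zf11) (kf xf13 yf42 zf31) (kf xf30 yf27 zf54) (kf xf23 yf19 zf55) (kf xf27 yf15 zf49) (kf xf23 yf19 zf56) (kf xf30 yf46 zf61) (kf xf22 yf51 zf47) (kf xf21 yf4 zf22) (kf xf14 yf51 zf31) (kf xf14 yf51 zf32) (kf xf14 yf51 zf33) (kf xf26 yf6 zf49) (kf xf22 yf22 zf37) (kf xf22 yf55 zf40) (kf xf21 yf14 zf54) (kf xf22 yf55 zf41) (kf xf26 yf56 zf10) (kf xf29 yf52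 zf58) (kf xf26 yf31 zf2) (kf xf20 yf50 zf13) (kf xf30 yf53 zf22) (kf xf25 yf48 zf50) (kf xf23 yf10 zf45) (kf xf23 yf10 zf41) (kf xf25 yf48 zf49) (kf xf13 yf42 zf44) (kf xf29 yf54 zf2) (kf xf25 yf58 zf24) (kf xf25 yf58 zf27) (kf xf29 yf29 zf12) (kf xf29 yf26 zf58) (kf xf16 yf13 zf29) (kf xf26 yf21 zf16) (kf xf13 yf47 zf57) (kf xf13 yf42 zf52) (kf xf23 yf6 zf5) (kf xf30 yf54 zf32)) (@D3.rec (fun _ => Pt) (kf xf30 yf55 zf4) (kf xf26 yf3 zf42) (kf xf25 yf56 zf36) (kf xf25 yf55 zf12) (kf xf13 yf42 zf55) (kf xf30 yf53 zf16) (kf xf30 yf45 zf50) (kf xf30 yf53 zf28) (kf xf30 yf54 zf35) (kf xf22 yf51 zf28) (kf xf28 yf46 zf19) (kf xf13 yf42 zf58) (kf xf26 yf21 zf21) (kf xf28 yf32 zf0) (kf xf13 yf47 zf21) (kf xf26 yf31 zf7) (kf xf26 yf30 zf20) (kf xf18 yf19 zf26) (kf xf13 yf43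 zf1) (kf xf29 yf42 zf16) (kf xf28 yf32 zf4) (kf xf26 yf6 zf52) (kf xf29 yf30 zf47) (kf xf30 yf46 zf21) (kf xf13 yf43 zf4) (kf xf25 yf59 zf34) (kf xf30 yf53 zf31) (kf xf26 yf30 zf27) (kf xf30 yf53 zf19) (kf xf25 yf59 zf35) (kf xf30 yf53 zf30) (kf xf13 yf48 zf5) (kf xf13 yf48 zf4) (kf xf30 yf55 zf17) (kf xf13 yf43 zf7) (kf xf25 yf24 zf26) (kf xf13 yf43 zf17) (kf xf24 yf4 zf59) (kf xf13 yf43 zf15) (kf xf24 yf4 zf60) (kf xf25 yf59 zf56) (kf xf24 yf39 zf40) (kf xf30 yf53 zf47) (kf xf29 yf41 zf8) (kf xf23 yf39 zf53) (kf xf20 yf42 zf38) (kf xf29 yf41 zf14) (kf xf30 yf53 zf36) (kf xf13 yf43 zf21) (kf xf30 yf53 zf37) (kf xf28 yf17 zf18) (kf xf30 yf54 zf36) (kf xf30 yf53 zf40) (kf xf30 yf53 zf41) (kf xf23 yf46 zf47) (kf xf28 yf13 zf3) (kf xf30 yf53 zf39) (kf xf21 yf39 zf47) (kf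 xf14 yf25 zf36) (kf xf14 yf25 zf37) (kf xf14 yf25 zf33) (kf xf14 yf25 zf39)) (@D3.rec (fun _ => Pt) (kf xf14 yf25 zf40) (kf xf14 yf25 zf45) (kf xf26 yf23 zf48) (kf xf26 yf23 zf49) (kf xf26 yf23 zf50) (kf xf27 yf42 zf0) (kf xf27 yf41 zf36) (kf xf16 yf19 zf49) (kf xf25 yf12 zf8) (kf xf26 yf9 zf6) (kf xf13 yf43 zf38) (kf xf22 yf56 zf39) (kf xf29 yf18 zf51) (kf xf23 yf8 zf19) (kf xf25 yf55 zf14) (kf xf25 yf58 zf29) (kf xf27 yf41 zf37) (kf xf13 yf43 zf41) (kf xf22 yf56 zf42) (kf xf28 yf11 zf2) (kf xf15 yf59 zf56) (kf xf25 yf55 zf18) (kf xf28 yf9 zf47) (kf xf13 yf43 zf44) (kf xf27 yf13 zf7) (kf xf24 yf23 zf5) (kf xf13 yf43 zf46) (kf xf28 yf20 zf15) (kf xf23 yf8 zf23) (kf xf23 yf21 zf31) (kf xf23 yf18 zf24) (kf xf30 yf48 zf26) (kf xf20 yf36 zf53) (kf xf20 yf36 zf32) (kf xf28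 yf51 zf56) (kf xf17 yf2 zf30) (kf xf13 yf43 zf56) (kf xf19 yf38 zf59) (kf xf30 yf55 zf43) (kf xf13 yf43 zf60) (kf xf16 yf23 zf55) (kf xf23 yf8 zf48) (kf xf16 yf23 zf52) (kf xf16 yf26 zf28) (kf xf20 yf9 zf0) (kf xf23 yf8 zf47) (kf xf22 yf3 zf5) (kf xf20 yf17 zf43) (kf xf13 yf44 zf1) (kf xf14 yf25 zf46) (kf xf14 yf25 zf48) (kf xf21 yf40 zf23) (kf xf22 yf32 zf52) (kf xf23 yf55 zf39) (kf xf13 yf44 zf11) (kf xf22 yf35 zf45) (kf xf28 yf53 zf53) (kf xf21 yf55 zf7) (kf xf14 yf29 zf13) (kf xf22 yf38 zf48) (kf xf22 yf38 zf47) (kf xf13 yf44 zf17)) (@D3.rec (fun _ => Pt) (kf xf22 yf36 zf33) (kf xf14 yf31 zf23) (kf xf14 yf51 zf61) (kf xf22 yf38 zf29) (kf xf22 yf32 zf24) (kf xf14 yf51 zf60) (kf xf22 yf38 zf40) (kf xf25 yf48 zf59) (kf xf23 yf56 zf44) (kf xf13 yf44 zf24) (kf xf24 yf9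 zf29) (kf xf22 yf23 zf18) (kf xf13 yf44 zf28) (kf xf14 yf18 zf36) (kf xf13 yf44 zf30) (kf xf27 yf36 zf49) (kf xf30 yf53 zf35) (kf xf29 yf27 zf51) (kf xf30 yf26 zf9) (kf xf15 yf31 zf10) (kf xf29 yf41 zf29) (kf xf30 yf55 zf56) (kf xf13 yf44 zf32) (kf xf28 yf47 zf34) (kf xf24 yf4 zf42) (kf xf23 yf0 zf43) (kf xf30 yf56 zf0) (kf xf28 yf42 zf12) (kf xf24 yf4 zf41) (kf xf30 yf37 zf47) (kf xf25 yf29 zf19) (kf xf22 yf33 zf26) (kf xf27 yf10 zf53) (kf xf22 yf57 zf54) (kf xf30 yf45 zf9) (kf xf22 yf57 zf51) (kf xf30 yf56 zf10) (kf xf21 yf41 zf18) (kf xf13 yf56 zf15) (kf xf22 yf35 zf33) (kf xf18 yf23 zf4) (kf xf22 yf35 zf52) (kf xf23 yf0 zf17) (kf xf22 yf35 zf55) (kf xf22 yf17 zf11) (kf xf22 yf35 zf57) (kf xf22 yf35 zf58) (kf xf29 yf30 zf54) (kf xf28 yf22 zf24) (kf xf13 yf44 zf58)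 (kf xf21 yf41 zf22) (kf xf22 yf37 zf60) (kf xf21 yf41 zf25) (kf xf21 yf41 zf26) (kf xf23 yf0 zf0) (kf xf30 yf38 zf22) (kf xf23 yf0 zf29) (kf xf22 yf36 zf31) (kf xf22 yf59 zf58) (kf xf22 yf58 zf54) (kf xf23 yf0 zf31) (kf xf22 yf16 zf31)) (@D3.rec (fun _ => Pt) (kf xf22 yf36 zf38) (kf xf22 yf36 zf39) (kf xf22 yf36 zf40) (kf xf28 yf22 zf13) (kf xf23 yf5 zf51) (kf xf23 yf5 zf52) (kf xf22 yf17 zf33) (kf xf29 yf27 zf4) (kf xf26 yf29 zf41) (kf xf28 yf21 zf42) (kf xf29 yf9 zf6) (kf xf23 yf13 zf6) (kf xf23 yf0 zf58) (kf xf29 yf0 zf28) (kf xf17 yf51 zf11) (kf xf22 yf49 zf2) (kf xf22 yf49 zf9) (kf xf30 yf56 zf22) (kf xf29 yf30 zf16) (kf xf30 yf56 zf21) (kf xf13 yf45 zf22) (kf xf19 yf11 zf35) (kf xf14 yf21 zf4) (kf xf22 yf37 zf15) (kf xf23 yf12 zf43) (kf xf22 yf35 zf47) (kf xf30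 yf50 zf11) (kf xf30 yf53 zf53) (kf xf30 yf12 zf12) (kf xf30 yf18 zf42) (kf xf30 yf34 zf39) (kf xf28 yf24 zf2) (kf xf23 yf56 zf41) (kf xf30 yf53 zf54) (kf xf30 yf43 zf55) (kf xf25 yf50 zf46) (kf xf25 yf36 zf28) (kf xf25 yf50 zf25) (kf xf27 yf50 zf44) (kf xf28 yf37 zf16) (kf xf25 yf5 zf20) (kf xf23 yf34 zf2) (kf xf13 yf45 zf37) (kf xf23 yf12 zf24) (kf xf24 yf18 zf50) (kf xf14 yf38 zf33) (kf xf30 yf56 zf36) (kf xf14 yf38 zf35) (kf xf14 yf30 zf58) (kf xf14 yf47 zf52) (kf xf25 yf12 zf27) (kf xf14 yf25 zf10) (kf xf22 yf22 zf7) (kf xf28 yf45 zf50) (kf xf14 yf47 zf55) (kf xf30 yf9 zf2) (kf xf13 yf45 zf61) (kf xf13 yf45 zf46) (kf xf14 yf32 zf20) (kf xf14 yf32 zf25) (kf xf14 yf32 zf27) (kf xf20 yf17 zf31)) (@D3.rec (fun _ => Pt) (kf xf29 yf40 zf60) (kf xf30 yf12 zf42) (kf xf26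 yf10 zf58) (kf xf29 yf26 zf57) (kf xf21 yf26 zf57) (kf xf22 yf15 zf45) (kf xf23 yf12 zf11) (kf xf18 yf51 zf39) (kf xf15 yf55 zf39) (kf xf20 yf58 zf3) (kf xf20 yf53 zf12) (kf xf21 yf48 zf29) (kf xf21 yf47 zf36) (kf xf30 yf27 zf30) (kf xf20 yf53 zf15) (kf xf22 yf13 zf7) (kf xf20 yf46 zf26) (kf xf28 yf52 zf4) (kf xf29 yf39 zf32) (kf xf29 yf39 zf30) (kf xf29 yf36 zf34) (kf xf13 yf46 zf10) (kf xf24 yf44 zf22) (kf xf22 yf44 zf27) (kf xf22 yf45 zf12) (kf xf21 yf43 zf17) (kf xf17 yf51 zf57) (kf xf14 yf46 zf51) (kf xf13 yf46 zf15) (kf xf22 yf46 zf61) (kf xf15 yf34 zf4) (kf xf15 yf39 zf1) (kf xf15 yf39 zf2) (kf xf22 yf58 zf8) (kf xf22 yf58 zf9) (kf xf22 yf58 zf6) (kf xf22 yf58 zf7) (kf xf14 yf16 zf45) (kf xf15 yf7 zf55) (kf xf23 yf25 zf48) (kf xf13 yf46 zf28) (kf xf23 yf19 zf26)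 (kf xf24 yf5 zf8) (kf xf23 yf19 zf28) (kf xf24 yf5 zf9) (kf xf23 yf19 zf30) (kf xf23 yf32 zf60) (kf xf23 yf19 zf20) (kf xf18 yf49 zf26) (kf xf23 yf19 zf22) (kf xf30 yf52 zf51) (kf xf23 yf19 zf24) (kf xf28 yf28 zf12) (kf xf23 yf19 zf34) (kf xf27 yf1 zf15) (kf xf18 yf22 zf48) (kf xf13 yf58 zf54) (kf xf23 yf19 zf35) (kf xf23 yf17 zf29) (kf xf14 yf6 zf30) (kf xf13 yf47 zf44) (kf xf30 yf12 zf46)) (@D3.rec (fun _ => Pt) (kf xf30 yf2 zf7) (kf xf13 yf46 zf42) (kf xf13 yf46 zf56) (kf xf13 yf48 zf13) (kf xf13 yf48 zf20) (kf xf13 yf47 zf55) (kf xf13 yf48 zf2) (kf xf30 yf31 zf35) (kf xf13 yf48 zf23) (kf xf13 yf48 zf22) (kf xf13 yf46 zf50) (kf xf21 yf30 zf3) (kf xf13 yf48 zf40) (kf xf30 yf57 zf21) (kf xf13 yf48 zf34) (kf xf13 yf48 zf33) (kf xf13 yf46 zf53) (kf xf13 yf48 zf47) (kf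 xf30 yf57 zf29) (kf xf23 yf17 zf27) (kf xf23 yf17 zf28) (kf xf23 yf17 zf26) (kf xf13 yf48 zf56) (kf xf13 yf49 zf31) (kf xf27 yf58 zf50) (kf xf13 yf49 zf12) (kf xf13 yf49 zf35) (kf xf30 yf57 zf36) (kf xf13 yf49 zf20) (kf xf13 yf49 zf19) (kf xf13 yf46 zf60) (kf xf13 yf49 zf5) (kf xf13 yf49 zf7) (kf xf13 yf49 zf17) (kf xf30 yf57 zf43) (kf xf13 yf49 zf38) (kf xf13 yf49 zf37) (kf xf13 yf47 zf2) (kf xf20 yf49 zf14) (kf xf23 yf20 zf17) (kf xf29 yf55 zf9) (kf xf28 yf44 zf13) (kf xf20 yf31 zf42) (kf xf26 yf32 zf49) (kf xf23 yf20 zf21) (kf xf29 yf36 zf32) (kf xf23 yf20 zf22) (kf xf29 yf55 zf8) (kf xf26 yf26 zf38) (kf xf23 yf20 zf35) (kf xf23 yf42 zf59) (kf xf26 yf32 zf45) (kf xf23 yf42 zf58) (kf xf24 yf58 zf58) (kf xf16 yf31 zf33) (kf xf14 yf0 zf39) (kf xf13 yf50 zf47) (kf xf16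 yf11 zf59) (kf xf27 yf57 zf54) (kf xf16 yf29 zf23) (kf xf25 yf2 zf49) (kf xf28 yf12 zf33)) (@D3.rec (fun _ => Pt) (kf xf25 yf2 zf50) (kf xf24 yf59 zf39) (kf xf16 yf24 zf22) (kf xf29 yf29 zf13) (kf xf29 yf29 zf14) (kf xf30 yf57 zf55) (kf xf22 yf53 zf39) (kf xf22 yf53 zf41) (kf xf13 yf47 zf36) (kf xf16 yf12 zf44) (kf xf28 yf12 zf19) (kf xf24 yf31 zf40) (kf xf22 yf49 zf51) (kf xf23 yf16 zf61) (kf xf23 yf16 zf59) (kf xf30 yf32 zf2) (kf xf27 yf57 zf44) (kf xf27 yf57 zf43) (kf xf27 yf56 zf44) (kf xf27 yf57 zf41) (kf xf30 yf57 zf52) (kf xf13 yf47 zf42) (kf xf18 yf28 zf9) (kf xf23 yf15 zf28) (kf xf30 yf57 zf27) (kf xf13 yf48 zf48) (kf xf23 yf15 zf29) (kf xf30 yf57 zf28) (kf xf23 yf15 zf23) (kf xf23 yf15 zf26) (kf xf30 yf57 zf47) (kf xf13 yf47 zf45) (kf xf25 yf2 zf51) (kf xf30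 yf57 zf12) (kf xf13 yf50 zf58) (kf xf30 yf58 zf23) (kf xf13 yf47 zf46) (kf xf13 yf48 zf55) (kf xf23 yf19 zf38) (kf xf23 yf19 zf39) (kf xf28 yf25 zf61) (kf xf29 yf30 zf8) (kf xf29 yf29 zf59) (kf xf30 yf33 zf32) (kf xf30 yf54 zf11) (kf xf30 yf32 zf41) (kf xf30 yf57 zf13) (kf xf28 yf25 zf54) (kf xf30 yf58 zf30) (kf xf30 yf58 zf26) (kf xf29 yf30 zf9) (kf xf13 yf47 zf56) (kf xf23 yf19 zf42) (kf xf23 yf2 zf60) (kf xf23 yf46 zf19) (kf xf23 yf32 zf7) (kf xf24 yf31 zf27) (kf xf30 yf57 zf33) (kf xf22 yf29 zf40) (kf xf22 yf29 zf39) (kf xf13 yf47 zf61) (kf xf23 yf18 zf14)) (@D3.rec (fun _ => Pt) (kf xf28 yf9 zf58) (kf xf23 yf18 zf9) (kf xf30 yf12 zf15) (kf xf30 yf20 zf40) (kf xf30 yf57 zf14) (kf xf30 yf57 zf15) (kf xf30 yf47 zf4) (kf xf23 yf18 zf26) (kf xf30 yf48 zf20) (kf xf13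 yf48 zf3) (kf xf23 yf32 zf1) (kf xf30 yf55 zf16) (kf xf23 yf7 zf45) (kf xf30 yf48 zf28) (kf xf23 yf7 zf46) (kf xf30 yf57 zf57) (kf xf14 yf0 zf29) (kf xf13 yf55 zf18) (kf xf26 yf7 zf45) (kf xf16 yf27 zf60) (kf xf30 yf2 zf16) (kf xf18 yf19 zf24) (kf xf23 yf19 zf49) (kf xf17 yf44 zf46) (kf xf30 yf20 zf37) (kf xf30 yf20 zf39) (kf xf30 yf58 zf55) (kf xf23 yf18 zf44) (kf xf23 yf16 zf57) (kf xf13 yf48 zf21) (kf xf30 yf57 zf17) (kf xf16 yf21 zf27) (kf xf28 yf12 zf14) (kf xf30 yf57 zf7) (kf xf23 yf17 zf22) (kf xf24 yf40 zf22) (kf xf30 yf46 zf47) (kf xf23 yf3 zf14) (kf xf30 yf58 zf3) (kf xf30 yf57 zf20) (kf xf30 yf57 zf19) (kf xf30 yf58 zf10) (kf xf13 yf48 zf32) (kf xf28 yf11 zf39) (kf xf30 yf57 zf24) (kf xf26 yf28 zf16) (kf xf30 yf57 zf22) (kf xf30 yf57 zf23) (kf xf26 yf29 zf61)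 (kf xf21 yf12 zf18) (kf xf13 yf48 zf35) (kf xf30 yf59 zf3) (kf xf23 yf41 zf51) (kf xf30 yf59 zf5) (kf xf27 yf57 zf47) (kf xf29 yf50 zf25) (kf xf13 yf48 zf39) (kf xf23 yf16 zf28) (kf xf30 yf42 zf24) (kf xf23 yf15 zf14) (kf xf30 yf47 zf3) (kf xf23 yf15 zf13)) (@D3.rec (fun _ => Pt) (kf xf13 yf48 zf41) (kf xf30 yf47 zf2) (kf xf30 yf58 zf9) (kf xf30 yf47 zf0) (kf xf30 yf47 zf1) (kf xf30 yf48 zf30) (kf xf30 yf48 zf31) (kf xf30 yf48 zf32) (kf xf26 yf15 zf55) (kf xf30 yf59 zf17) (kf xf26 yf9 zf23) (kf xf13 yf48 zf46) (kf xf30 yf57 zf25) (kf xf30 yf57 zf26) (kf xf24 yf28 zf29) (kf xf13 yf48 zf51) (kf xf13 yf48 zf50) (kf xf30 yf58 zf24) (kf xf30 yf59 zf27) (kf xf30 yf58 zf18) (kf xf30 yf59 zf30) (kf xf13 yf48 zf49) (kf xf23 yf16 zf34) (kf xf30 yf59 zf21) (kf xf30 yf59 zf20)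 (kf xf30 yf59 zf34) (kf xf23 yf14 zf21) (kf xf23 yf14 zf19) (kf xf23 yf14 zf20) (kf xf23 yf13 zf58) (kf xf23 yf45 zf14) (kf xf23 yf17 zf35) (kf xf23 yf17 zf34) (kf xf13 yf48 zf54) (kf xf23 yf17 zf32) (kf xf23 yf17 zf31) (kf xf22 yf42 zf22) (kf xf26 yf29 zf57) (kf xf28 yf13 zf33) (kf xf25 yf16 zf24) (kf xf26 yf29 zf60) (kf xf13 yf57 zf42) (kf xf13 yf59 zf46) (kf xf20 yf33 zf27) (kf xf22 yf34 zf0) (kf xf22 yf34 zf2) (kf xf22 yf34 zf3) (kf xf22 yf34 zf4) (kf xf20 yf33 zf23) (kf xf22 yf34 zf6) (kf xf30 yf59 zf51) (kf xf30 yf32 zf54) (kf xf30 yf32 zf53) (kf xf13 yf49 zf2) (kf xf15 yf9 zf52) (kf xf25 yf3 zf29) (kf xf25 yf3 zf12) (kf xf30 yf53 zf60) (kf xf23 yf44 zf13) (kf xf23 yf20 zf32) (kf xf23 yf20 zf33) (kf xf23 yf45 zf22)) (@D3.rec (fun _ => Pt) (kf xf21 yf56 zf15) (kf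 xf25 yf3 zf31) (kf xf28 yf10 zf13) (kf xf25 yf2 zf53) (kf xf26 yf24 zf9) (kf xf13 yf49 zf8) (kf xf22 yf46 zf16) (kf xf20 yf32 zf33) (kf xf29 yf24 zf17) (kf xf23 yf16 zf1) (kf xf30 yf59 zf56) (kf xf28 yf10 zf46) (kf xf28 yf10 zf45) (kf xf13 yf49 zf14) (kf xf23 yf15 zf61) (kf xf30 yf59 zf61) (kf xf17 yf2 zf37) (kf xf13 yf49 zf16) (kf xf30 yf57 zf39) (kf xf30 yf57 zf40) (kf xf30 yf57 zf41) (kf xf28 yf2 zf59) (kf xf30 yf46 zf57) (kf xf13 yf49 zf18) (kf xf23 yf10 zf30) (kf xf22 yf56 zf3) (kf xf23 yf16 zf7) (kf xf30 yf57 zf37) (kf xf31 yf0 zf5) (kf xf20 yf34 zf1) (kf xf30 yf53 zf56) (kf xf13 yf49 zf21) (kf xf22 yf55 zf49) (kf xf24 yf44 zf25) (kf xf24 yf44 zf24) (kf xf25 yf3 zf7) (kf xf27 yf58 zf49) (kf xf22 yf41 zf14) (kf xf22 yf29 zf41) (kf xf30 yf57 zf34) (kf xf31 yf0 zf9)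 (kf xf31 yf0 zf10) (kf xf13 yf49 zf36) (kf xf16 yf10 zf38) (kf xf23 yf16 zf27) (kf xf20 yf10 zf50) (kf xf16 yf26 zf9) (kf xf27 yf32 zf3) (kf xf22 yf56 zf9) (kf xf22 yf56 zf8) (kf xf13 yf49 zf46) (kf xf22 yf12 zf47) (kf xf28 yf23 zf14) (kf xf22 yf17 zf32) (kf xf22 yf17 zf31) (kf xf13 yf49 zf48) (kf xf31 yf0 zf18) (kf xf13 yf49 zf60) (kf xf13 yf49 zf59) (kf xf13 yf49 zf51) (kf xf22 yf59 zf29) (kf xf22 yf59 zf31)) (@D3.rec (fun _ => Pt) (kf xf30 yf46 zf3) (kf xf22 yf59 zf37) (kf xf31 yf0 zf16) (kf xf31 yf0 zf15) (kf xf31 yf0 zf24) (kf xf13 yf49 zf58) (kf xf31 yf0 zf19) (kf xf30 yf24 zf12) (kf xf14 yf33 zf37) (kf xf20 yf46 zf41) (kf xf19 yf2 zf3) (kf xf24 yf16 zf23) (kf xf24 yf16 zf22) (kf xf25 yf26 zf2) (kf xf13 yf49 zf61) (kf xf19 yf19 zf4) (kf xf22 yf13 zf16) (kf xf24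 yf16 zf25) (kf xf14 yf23 zf1) (kf xf28 yf37 zf45) (kf xf23 yf13 zf47) (kf xf28 yf18 zf49) (kf xf23 yf13 zf49) (kf xf30 yf43 zf7) (kf xf23 yf13 zf51) (kf xf31 yf0 zf35) (kf xf23 yf13 zf41) (kf xf30 yf21 zf39) (kf xf23 yf13 zf43) (kf xf30 yf42 zf52) (kf xf23 yf13 zf45) (kf xf31 yf0 zf36) (kf xf22 yf28 zf22) (kf xf23 yf30 zf61) (kf xf23 yf13 zf53) (kf xf23 yf13 zf57) (kf xf18 yf40 zf12) (kf xf13 yf56 zf6) (kf xf23 yf15 zf38) (kf xf23 yf15 zf39) (kf xf23 yf32 zf32) (kf xf29 yf18 zf46) (kf xf23 yf15 zf52) (kf xf14 yf44 zf31) (kf xf14 yf44 zf30) (kf xf13 yf50 zf33) (kf xf21 yf54 zf61) (kf xf20 yf24 zf18) (kf xf17 yf22 zf56) (kf xf23 yf16 zf22) (kf xf17 yf2 zf40) (kf xf17 yf2 zf59) (kf xf16 yf12 zf3) (kf xf26 yf45 zf55) (kf xf30 yf57 zf46) (kf xf23 yf8 zf27) (kf xf23 yf8 zf29)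 (kf xf13 yf50 zf48) (kf xf25 yf1 zf51) (kf xf14 yf45 zf35) (kf xf25 yf46 zf23) (kf xf30 yf46 zf13)) (@D3.rec (fun _ => Pt) (kf xf24 yf59 zf20) (kf xf24 yf31 zf20) (kf xf13 yf50 zf52) (kf xf18 yf29 zf13) (kf xf23 yf45 zf9) (kf xf22 yf35 zf35) (kf xf13 yf50 zf54) (kf xf27 yf39 zf8) (kf xf28 yf12 zf11) (kf xf23 yf29 zf37) (kf xf30 yf2 zf3) (kf xf30 yf2 zf4) (kf xf31 yf0 zf49) (kf xf26 yf8 zf55) (kf xf13 yf50 zf57) (kf xf16 yf12 zf4) (kf xf30 yf2 zf6) (kf xf23 yf14 zf39) (kf xf26 yf25 zf11) (kf xf18 yf42 zf36) (kf xf30 yf36 zf32) (kf xf23 yf14 zf44) (kf xf23 yf14 zf46) (kf xf21 yf14 zf9) (kf xf23 yf33 zf9) (kf xf22 yf52 zf28) (kf xf22 yf52 zf29) (kf xf30 yf39 zf59) (kf xf15 yf9 zf53) (kf xf13 yf51 zf19) (kf xf13 yf51 zf13) (kf xf30 yf39 zf53) (kf xf23 yf17 zf59) (kf xf23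 yf17 zf60) (kf xf16 yf22 zf50) (kf xf23 yf14 zf49) (kf xf22 yf51 zf59) (kf xf24 yf47 zf8) (kf xf30 yf39 zf54) (kf xf24 yf31 zf9) (kf xf24 yf31 zf12) (kf xf16 yf6 zf32) (kf xf24 yf31 zf13) (kf xf20 yf32 zf54) (kf xf26 yf24 zf59) (kf xf29 yf29 zf42) (kf xf16 yf6 zf5) (kf xf31 yf0 zf51) (kf xf21 yf6 zf27) (kf xf21 yf6 zf26) (kf xf13 yf51 zf28) (kf xf24 yf31 zf25) (kf xf21 yf56 zf8) (kf xf16 yf31 zf39) (kf xf21 yf56 zf7) (kf xf24 yf31 zf23) (kf xf30 yf47 zf33) (kf xf24 yf31 zf21) (kf xf17 yf9 zf19) (kf xf21 yf6 zf20) (kf xf26 yf14 zf57) (kf xf24 yf59 zf22)) (@D3.rec (fun _ => Pt) (kf xf26 yf30 zf58) (kf xf21 yf6 zf17) (kf xf21 yf56 zf20) (kf xf28 yf25 zf0) (kf xf23 yf30 zf60) (kf xf21 yf56 zf19) (kf xf14 yf0 zf3) (kf xf21 yf56 zf17) (kf xf21 yf56 zf16) (kf xf24 yf52 zf22)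 (kf xf30 yf1 zf52) (kf xf13 yf51 zf42) (kf xf21 yf56 zf2) (kf xf21 yf56 zf3) (kf xf21 yf56 zf0) (kf xf21 yf56 zf4) (kf xf13 yf51 zf44) (kf xf18 yf17 zf57) (kf xf30 yf52 zf23) (kf xf30 yf52 zf24) (kf xf26 yf9 zf22) (kf xf26 yf7 zf42) (kf xf27 yf47 zf56) (kf xf30 yf42 zf47) (kf xf26 yf7 zf49) (kf xf31 yf1 zf4) (kf xf13 yf51 zf52) (kf xf23 yf3 zf27) (kf xf29 yf55 zf32) (kf xf22 yf31 zf58) (kf xf22 yf31 zf59) (kf xf23 yf10 zf29) (kf xf18 yf40 zf45) (kf xf18 yf40 zf56) (kf xf22 yf31 zf57) (kf xf27 yf57 zf55) (kf xf14 yf28 zf33) (kf xf14 yf28 zf32) (kf xf13 yf51 zf58) (kf xf22 yf31 zf27) (kf xf26 yf7 zf26) (kf xf22 yf31 zf28) (kf xf26 yf7 zf29) (kf xf22 yf31 zf30) (kf xf19 yf48 zf15) (kf xf22 yf31 zf33) (kf xf19 yf59 zf9) (kf xf22 yf31 zf35) (kf xf23 yf40 zf37) (kf xf13 yf52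 zf5) (kf xf23 yf3 zf38) (kf xf24 yf28 zf24) (kf xf28 yf0 zf55) (kf xf18 yf15 zf48) (kf xf13 yf52 zf10) (kf xf22 yf15 zf0) (kf xf22 yf15 zf34) (kf xf22 yf15 zf35) (kf xf22 yf15 zf36) (kf xf30 yf46 zf0) (kf xf22 yf8 zf54) (kf xf22 yf8 zf53)) (@D3.rec (fun _ => Pt) (kf xf28 yf6 zf27) (kf xf13 yf52 zf15) (kf xf29 yf39 zf14) (kf xf29 yf38 zf43) (kf xf27 yf12 zf31) (kf xf30 yf25 zf14) (kf xf29 yf35 zf11) (kf xf22 yf24 zf17) (kf xf21 yf31 zf52) (kf xf18 yf16 zf35) (kf xf21 yf31 zf50) (kf xf21 yf31 zf51) (kf xf18 yf7 zf4) (kf xf24 yf43 zf2) (kf xf29 yf17 zf24) (kf xf30 yf19 zf31) (kf xf21 yf31 zf49) (kf xf15 yf58 zf31) (kf xf22 yf9 zf1) (kf xf23 yf35 zf47) (kf xf23 yf35 zf48) (kf xf21 yf37 zf14) (kf xf31 yf1 zf23) (kf xf23 yf35 zf44) (kf xf23 yf35 zf45) (kf xf23 yf35 zf46)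 (kf xf20 yf4 zf11) (kf xf27 yf47 zf36) (kf xf21 yf4 zf50) (kf xf21 yf37 zf10) (kf xf21 yf37 zf11) (kf xf21 yf37 zf5) (kf xf21 yf37 zf6) (kf xf21 yf37 zf7) (kf xf17 yf39 zf38) (kf xf17 yf36 zf46) (kf xf29 yf50 zf28) (kf xf21 yf40 zf56) (kf xf23 yf36 zf60) (kf xf23 yf36 zf59) (kf xf23 yf36 zf54) (kf xf27 yf31 zf31) (kf xf27 yf57 zf15) (kf xf13 yf52 zf50) (kf xf13 yf52 zf46) (kf xf13 yf52 zf58) (kf xf13 yf52 zf57) (kf xf26 yf2 zf22) (kf xf26 yf2 zf20) (kf xf29 yf26 zf36) (kf xf25 yf39 zf50) (kf xf25 yf39 zf46) (kf xf13 yf52 zf51) (kf xf21 yf42 zf15) (kf xf27 yf47 zf29) (kf xf14 yf5 zf22) (kf xf27 yf47 zf26) (kf xf24 yf32 zf38) (kf xf25 yf38 zf36) (kf xf25 yf38 zf23) (kf xf24 yf32 zf37) (kf xf18 yf7 zf2)) (@D3.rec (fun _ => Pt) (kf xf31 yf1 zf33) (kf xf18 yf48 zf6) (kf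 xf23 yf35 zf60) (kf xf31 yf0 zf46) (kf xf13 yf53 zf0) (kf xf23 yf35 zf8) (kf xf23 yf35 zf11) (kf xf23 yf35 zf10) (kf xf23 yf31 zf20) (kf xf13 yf53 zf3) (kf xf23 yf36 zf3) (kf xf31 yf1 zf40) (kf xf13 yf53 zf7) (kf xf13 yf54 zf0) (kf xf23 yf36 zf1) (kf xf17 yf56 zf19) (kf xf23 yf36 zf6) (kf xf21 yf49 zf11) (kf xf13 yf53 zf27) (kf xf23 yf34 zf35) (kf xf23 yf36 zf12) (kf xf23 yf35 zf33) (kf xf23 yf36 zf13) (kf xf23 yf36 zf14) (kf xf23 yf36 zf15) (kf xf31 yf1 zf44) (kf xf23 yf35 zf32) (kf xf23 yf34 zf36) (kf xf21 yf21 zf52) (kf xf13 yf53 zf18) (kf xf23 yf36 zf7) (kf xf31 yf1 zf46) (kf xf23 yf36 zf10) (kf xf17 yf55 zf23) (kf xf23 yf36 zf18) (kf xf13 yf53 zf21) (kf xf23 yf36 zf24) (kf xf23 yf36 zf25) (kf xf23 yf36 zf22) (kf xf22 yf2 zf2) (kf xf21 yf46 zf57) (kf xf21 yf7 zf35)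 (kf xf14 yf54 zf34) (kf xf14 yf54 zf33) (kf xf13 yf53 zf30) (kf xf22 yf32 zf14) (kf xf23 yf36 zf30) (kf xf22 yf42 zf26) (kf xf22 yf40 zf27) (kf xf22 yf18 zf36) (kf xf14 yf20 zf36) (kf xf21 yf31 zf13) (kf xf30 yf39 zf60) (kf xf22 yf18 zf29) (kf xf22 yf18 zf28) (kf xf13 yf53 zf47) (kf xf22 yf18 zf40) (kf xf13 yf53 zf48) (kf xf23 yf35 zf57) (kf xf23 yf35 zf58) (kf xf23 yf35 zf56) (kf xf18 yf45 zf42)) (@D3.rec (fun _ => Pt) (kf xf23 yf37 zf1) (kf xf22 yf18 zf17) (kf xf22 yf20 zf33) (kf xf22 yf21 zf54) (kf xf22 yf26 zf12) (kf xf14 yf28 zf40) (kf xf22 yf26 zf10) (kf xf22 yf26 zf11) (kf xf22 yf26 zf13) (kf xf19 yf32 zf0) (kf xf13 yf53 zf60) (kf xf21 yf46 zf61) (kf xf24 yf42 zf43) (kf xf25 yf46 zf21) (kf xf14 yf42 zf44) (kf xf25 yf34 zf31) (kf xf22 yf40 zf36) (kf xf25 yf39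 zf41) (kf xf19 yf35 zf5) (kf xf13 yf54 zf5) (kf xf24 yf41 zf47) (kf xf22 yf2 zf1) (kf xf25 yf38 zf5) (kf xf24 yf42 zf46) (kf xf24 yf42 zf47) (kf xf20 yf13 zf21) (kf xf23 yf35 zf16) (kf xf13 yf54 zf14) (kf xf14 yf6 zf13) (kf xf14 yf49 zf41) (kf xf29 yf58 zf6) (kf xf24 yf37 zf45) (kf xf13 yf54 zf18) (kf xf24 yf30 zf49) (kf xf24 yf30 zf50) (kf xf30 yf40 zf9) (kf xf31 yf2 zf0) (kf xf13 yf54 zf28) (kf xf30 yf40 zf10) (kf xf17 yf55 zf41) (kf xf17 yf55 zf42) (kf xf23 yf37 zf8) (kf xf17 yf9 zf6) (kf xf23 yf37 zf9) (kf xf20 yf13 zf35) (kf xf23 yf37 zf7) (kf xf17 yf55 zf48) (kf xf23 yf37 zf11) (kf xf23 yf37 zf10) (kf xf26 yf9 zf38) (kf xf13 yf54 zf34) (kf xf13 yf57 zf4) (kf xf23 yf37 zf18) (kf xf24 yf24 zf15) (kf xf23 yf37 zf20) (kf xf26 yf58 zf31) (kf xf23 yf37 zf22) (kf xf29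 yf52 zf15) (kf xf23 yf37 zf14) (kf xf23 yf37 zf26) (kf xf23 yf37 zf27) (kf xf31 yf2 zf17)) (@D3.rec (fun _ => Pt) (kf xf23 yf37 zf24) (kf xf30 yf13 zf27) (kf xf23 yf37 zf29) (kf xf23 yf32 zf51) (kf xf25 yf39 zf20) (kf xf13 yf54 zf43) (kf xf31 yf2 zf8) (kf xf13 yf59 zf0) (kf xf14 yf40 zf6) (kf xf13 yf58 zf53) (kf xf13 yf59 zf3) (kf xf29 yf12 zf14) (kf xf13 yf58 zf30) (kf xf13 yf54 zf48) (kf xf13 yf57 zf6) (kf xf13 yf58 zf46) (kf xf13 yf58 zf48) (kf xf13 yf59 zf12) (kf xf13 yf59 zf13) (kf xf13 yf59 zf8) (kf xf13 yf59 zf16) (kf xf13 yf55 zf7) (kf xf13 yf57 zf7) (kf xf13 yf59 zf26) (kf xf19 yf50 zf4) (kf xf13 yf59 zf48) (kf xf13 yf54 zf59) (kf xf14 yf0 zf2) (kf xf14 yf0 zf5) (kf xf28 yf11 zf0) (kf xf13 yf59 zf61) (kf xf13 yf59 zf60) (kf xf13 yf55 zf0) (kf xf13 yf59 zf53)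 (kf xf13 yf59 zf54) (kf xf13 yf59 zf58) (kf xf29 yf22 zf11) (kf xf14 yf0 zf8) (kf xf13 yf55 zf3) (kf xf14 yf0 zf12) (kf xf25 yf2 zf44) (kf xf23 yf32 zf49) (kf xf23 yf32 zf50) (kf xf23 yf32 zf48) (kf xf14 yf0 zf22) (kf xf14 yf0 zf21) (kf xf30 yf58 zf45) (kf xf21 yf6 zf9) (kf xf23 yf13 zf39) (kf xf14 yf1 zf1) (kf xf26 yf23 zf6) (kf xf14 yf0 zf46) (kf xf14 yf0 zf45) (kf xf13 yf55 zf12) (kf xf31 yf2 zf43) (kf xf14 yf1 zf4) (kf xf14 yf1 zf3) (kf xf13 yf55 zf14) (kf xf23 yf45 zf8) (kf xf23 yf32 zf0) (kf xf30 yf32 zf46) (kf xf26 yf21 zf58)) (@D3.rec (fun _ => Pt) (kf xf31 yf2 zf51) (kf xf20 yf24 zf53) (kf xf29 yf55 zf28) (kf xf31 yf2 zf56) (kf xf29 yf55 zf24) (kf xf29 yf55 zf23) (kf xf23 yf38 zf42) (kf xf13 yf55 zf22) (kf xf24 yf42 zf26) (kf xf28 yf11 zf57) (kf xf29 yf55 zf17)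 (kf xf23 yf44 zf54) (kf xf27 yf58 zf5) (kf xf29 yf55 zf20) (kf xf30 yf40 zf30) (kf xf23 yf28 zf56) (kf xf30 yf38 zf49) (kf xf20 yf24 zf37) (kf xf26 yf0 zf40) (kf xf13 yf55 zf34) (kf xf17 yf55 zf4) (kf xf21 yf57 zf51) (kf xf17 yf12 zf24) (kf xf14 yf29 zf8) (kf xf21 yf57 zf49) (kf xf23 yf40 zf8) (kf xf22 yf21 zf17) (kf xf22 yf21 zf16) (kf xf24 yf23 zf0) (kf xf15 yf43 zf48) (kf xf23 yf40 zf9) (kf xf21 yf57 zf52) (kf xf13 yf56 zf16) (kf xf13 yf56 zf21) (kf xf20 yf52 zf27) (kf xf23 yf40 zf7) (kf xf26 yf0 zf36) (kf xf14 yf6 zf28) (kf xf23 yf26 zf60) (kf xf29 yf22 zf7) (kf xf23 yf40 zf15) (kf xf23 yf29 zf27) (kf xf29 yf58 zf23) (kf xf23 yf40 zf13) (kf xf23 yf29 zf26) (kf xf17 yf55 zf58) (kf xf18 yf1 zf8) (kf xf31 yf3 zf23) (kf xf18 yf1 zf26) (kf xf13 yf55 zf53) (kf xf21 yf41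 zf13) (kf xf23 yf38 zf11) (kf xf23 yf40 zf20) (kf xf23 yf45 zf20) (kf xf23 yf40 zf22) (kf xf23 yf40 zf23) (kf xf21 yf48 zf42) (kf xf30 yf0 zf34) (kf xf29 yf42 zf55) (kf xf23 yf38 zf17) (kf xf23 yf26 zf38) (kf xf13 yf56 zf17)) (@D3.rec (fun _ => Pt) (kf xf13 yf56 zf24) (kf xf14 yf48 zf34) (kf xf22 yf37 zf48) (kf xf22 yf37 zf49) (kf xf31 yf3 zf41) (kf xf23 yf31 zf16) (kf xf13 yf56 zf3) (kf xf23 yf40 zf30) (kf xf23 yf40 zf31) (kf xf30 yf1 zf31) (kf xf23 yf40 zf28) (kf xf13 yf56 zf26) (kf xf23 yf40 zf26) (kf xf23 yf29 zf34) (kf xf30 yf40 zf4) (kf xf29 yf59 zf29) (kf xf23 yf29 zf6) (kf xf22 yf16 zf55) (kf xf22 yf18 zf32) (kf xf29 yf54 zf27) (kf xf22 yf18 zf37) (kf xf22 yf56 zf57) (kf xf22 yf16 zf61) (kf xf23 yf29 zf60) (kf xf31 yf3 zf32) (kf xf14 yf29 zf9) (kf xf30 yf38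 zf50) (kf xf13 yf56 zf20) (kf xf29 yf55 zf49) (kf xf31 yf1 zf52) (kf xf23 yf30 zf24) (kf xf13 yf56 zf22) (kf xf22 yf53 zf60) (kf xf30 yf10 zf52) (kf xf31 yf3 zf43) (kf xf29 yf59 zf32) (kf xf31 yf3 zf47) (kf xf31 yf3 zf46) (kf xf25 yf5 zf4) (kf xf22 yf54 zf3) (kf xf13 yf56 zf27) (kf xf31 yf3 zf52) (kf xf23 yf38 zf53) (kf xf23 yf38 zf54) (kf xf23 yf38 zf49) (kf xf23 yf38 zf48) (kf xf23 yf38 zf55) (kf xf30 yf10 zf29) (kf xf22 yf21 zf9) (kf xf23 yf38 zf46) (kf xf23 yf38 zf47) (kf xf21 yf50 zf36) (kf xf31 yf4 zf4) (kf xf17 yf12 zf23) (kf xf17 yf12 zf26) (kf xf21 yf34 zf30) (kf xf23 yf30 zf11) (kf xf24 yf34 zf50) (kf xf23 yf38 zf58) (kf xf23 yf30 zf10) (kf xf29 yf51 zf12) (kf xf23 yf38 zf61)) (@D3.rec (fun _ => Pt) (kf xf23 yf38 zf60) (kf xf30 yf1 zf36) (kf xf18 yf1 zf49)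 (kf xf13 yf56 zf37) (kf xf13 yf56 zf59) (kf xf23 yf39 zf14) (kf xf26 yf8 zf5) (kf xf29 yf57 zf1) (kf xf23 yf39 zf17) (kf xf27 yf1 zf40) (kf xf23 yf39 zf12) (kf xf23 yf39 zf11) (kf xf22 yf11 zf5) (kf xf23 yf38 zf12) (kf xf23 yf39 zf5) (kf xf23 yf39 zf6) (kf xf23 yf39 zf7) (kf xf19 yf56 zf6) (kf xf25 yf37 zf13) (kf xf23 yf38 zf15) (kf xf24 yf34 zf42) (kf xf23 yf39 zf9) (kf xf31 yf4 zf22) (kf xf23 yf39 zf20) (kf xf23 yf39 zf19) (kf xf13 yf56 zf50) (kf xf23 yf39 zf28) (kf xf23 yf30 zf21) (kf xf29 yf41 zf28) (kf xf23 yf39 zf26) (kf xf23 yf39 zf25) (kf xf13 yf56 zf53) (kf xf23 yf39 zf23) (kf xf23 yf29 zf19) (kf xf31 yf4 zf36) (kf xf23 yf30 zf19) (kf xf19 yf45 zf33) (kf xf23 yf39 zf30) (kf xf13 yf56 zf56) (kf xf30 yf1 zf35) (kf xf23 yf39 zf44) (kf xf23 yf39 zf43) (kf xf23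 yf39 zf45) (kf xf31 yf4 zf50) (kf xf23 yf39 zf47) (kf xf31 yf4 zf53) (kf xf22 yf44 zf43) (kf xf22 yf44 zf42) (kf xf13 yf57 zf0) (kf xf23 yf43 zf32) (kf xf23 yf42 zf38) (kf xf23 yf43 zf33) (kf xf30 yf59 zf4) (kf xf23 yf51 zf57) (kf xf13 yf57 zf15) (kf xf13 yf57 zf14) (kf xf23 yf26 zf15) (kf xf13 yf57 zf9) (kf xf29 yf12 zf3) (kf xf29 yf46 zf42) (kf xf31 yf4 zf58) (kf xf29 yf43 zf54)) (@D3.rec (fun _ => Pt) (kf xf27 yf12 zf51) (kf xf27 yf12 zf54) (kf xf31 yf4 zf57) (kf xf24 yf32 zf53) (kf xf27 yf30 zf25) (kf xf31 yf4 zf34) (kf xf23 yf27 zf16) (kf xf13 yf57 zf16) (kf xf27 yf26 zf31) (kf xf26 yf1 zf21) (kf xf30 yf36 zf0) (kf xf23 yf43 zf48) (kf xf26 yf48 zf31) (kf xf28 yf31 zf33) (kf xf14 yf47 zf4) (kf xf28 yf49 zf44) (kf xf15 yf46 zf6) (kf xf30 yf36 zf1) (kf xf28 yf49 zf45)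 (kf xf23 yf28 zf33) (kf xf28 yf49 zf41) (kf xf23 yf41 zf61) (kf xf14 yf49 zf11) (kf xf14 yf8 zf19) (kf xf17 yf55 zf49) (kf xf29 yf58 zf44) (kf xf23 yf26 zf44) (kf xf23 yf26 zf41) (kf xf18 yf0 zf54) (kf xf13 yf57 zf35) (kf xf23 yf42 zf3) (kf xf24 yf43 zf47) (kf xf14 yf55 zf13) (kf xf14 yf55 zf12) (kf xf23 yf27 zf13) (kf xf29 yf55 zf21) (kf xf29 yf10 zf31) (kf xf23 yf20 zf9) (kf xf27 yf56 zf58) (kf xf23 yf42 zf54) (kf xf14 yf5 zf15) (kf xf13 yf57 zf45) (kf xf29 yf55 zf1) (kf xf29 yf55 zf2) (kf xf30 yf52 zf46) (kf xf26 yf32 zf55) (kf xf30 yf52 zf48) (kf xf30 yf52 zf47) (kf xf23 yf41 zf60) (kf xf13 yf57 zf52) (kf xf29 yf55 zf16) (kf xf23 yf44 zf11) (kf xf29 yf55 zf13) (kf xf31 yf5 zf25) (kf xf21 yf2 zf26) (kf xf29 yf55 zf11) (kf xf27 yf58 zf13) (kf xf31 yf3 zf45) (kf xf21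 yf29 zf17) (kf xf21 yf29 zf28) (kf xf23 yf27 zf23) (kf xf31 yf5 zf21)) (@D3.rec (fun _ => Pt) (kf xf23 yf41 zf24) (kf xf14 yf8 zf35) (kf xf23 yf41 zf26) (kf xf23 yf41 zf23) (kf xf19 yf33 zf9) (kf xf23 yf41 zf25) (kf xf30 yf40 zf41) (kf xf24 yf33 zf56) (kf xf23 yf41 zf28) (kf xf31 yf5 zf34) (kf xf23 yf27 zf59) (kf xf23 yf27 zf56) (kf xf31 yf5 zf39) (kf xf13 yf58 zf6) (kf xf13 yf58 zf14) (kf xf23 yf41 zf35) (kf xf24 yf43 zf44) (kf xf23 yf41 zf41) (kf xf13 yf58 zf9) (kf xf23 yf28 zf35) (kf xf29 yf4 zf37) (kf xf23 yf28 zf27) (kf xf31 yf5 zf48) (kf xf29 yf4 zf36) (kf xf23 yf27 zf30) (kf xf13 yf58 zf12) (kf xf31 yf5 zf40) (kf xf23 yf41 zf50) (kf xf23 yf41 zf49) (kf xf14 yf50 zf23) (kf xf13 yf58 zf22) (kf xf23 yf0 zf15) (kf xf30 yf37 zf14) (kf xf26 yf12 zf28) (kf xf20 yf16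 zf23) (kf xf17 yf55 zf43) (kf xf19 yf5 zf49) (kf xf22 yf43 zf47) (kf xf23 yf2 zf29) (kf xf26 yf1 zf14) (kf xf25 yf40 zf50) (kf xf18 yf23 zf26) (kf xf29 yf27 zf47) (kf xf15 yf4 zf29) (kf xf19 yf48 zf60) (kf xf17 yf55 zf37) (kf xf23 yf34 zf34) (kf xf15 yf50 zf7) (kf xf31 yf5 zf54) (kf xf16 yf59 zf57) (kf xf27 yf29 zf20) (kf xf16 yf10 zf31) (kf xf28 yf31 zf21) (kf xf23 yf42 zf16) (kf xf14 yf46 zf52) (kf xf13 yf58 zf49) (kf xf28 yf55 zf27) (kf xf29 yf18 zf23) (kf xf30 yf13 zf33) (kf xf31 yf2 zf26) (kf xf23 yf21 zf4) (kf xf23 yf19 zf33)) (@D3.rec (fun _ => Pt) (kf xf24 yf33 zf33) (kf xf24 yf33 zf34) (kf xf22 yf4 zf60) (kf xf13 yf58 zf55) (kf xf14 yf46 zf53) (kf xf17 yf53 zf1) (kf xf29 yf12 zf16) (kf xf21 yf29 zf12) (kf xf26 yf48 zf11) (kf xf31 yf2 zf25) (kf xf29 yf12 zf15)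 (kf xf30 yf2 zf58) (kf xf13 yf59 zf1) (kf xf20 yf20 zf46) (kf xf27 yf1 zf16) (kf xf30 yf31 zf46) (kf xf23 yf27 zf5) (kf xf15 yf50 zf15) (kf xf14 yf50 zf19) (kf xf19 yf47 zf55) (kf xf23 yf23 zf8) (kf xf22 yf23 zf29) (kf xf27 yf3 zf21) (kf xf31 yf2 zf28) (kf xf22 yf55 zf46) (kf xf22 yf17 zf29) (kf xf14 yf0 zf20) (kf xf23 yf40 zf35) (kf xf26 yf7 zf30) (kf xf18 yf58 zf46) (kf xf31 yf6 zf7) (kf xf29 yf12 zf11) (kf xf19 yf0 zf18) (kf xf18 yf20 zf11) (kf xf29 yf12 zf13) (kf xf23 yf41 zf9) (kf xf14 yf56 zf29) (kf xf14 yf56 zf28) (kf xf19 yf50 zf2) (kf xf19 yf50 zf3) (kf xf29 yf9 zf50) (kf xf19 yf49 zf31) (kf xf31 yf5 zf59) (kf xf22 yf10 zf16) (kf xf31 yf5 zf60) (kf xf16 yf6 zf38) (kf xf24 yf41 zf33) (kf xf28 yf13 zf15) (kf xf19 yf56 zf15) (kf xf23 yf33 zf46) (kf xf27 yf58 zf56)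 (kf xf13 yf59 zf47) (kf xf31 yf2 zf30) (kf xf31 yf2 zf27) (kf xf30 yf13 zf32) (kf xf27 yf29 zf42) (kf xf28 yf27 zf17) (kf xf26 yf10 zf0) (kf xf15 yf50 zf27) (kf xf30 yf36 zf35) (kf xf31 yf6 zf13) (kf xf13 yf59 zf55)) (@D3.rec (fun _ => Pt) (kf xf23 yf25 zf59) (kf xf23 yf16 zf10) (kf xf23 yf33 zf8) (kf xf26 yf3 zf36) (kf xf18 yf20 zf8) (kf xf28 yf28 zf13) (kf xf28 yf27 zf6) (kf xf23 yf15 zf55) (kf xf28 yf10 zf61) (kf xf13 yf59 zf59) (kf xf30 yf13 zf13) (kf xf31 yf2 zf32) (kf xf31 yf2 zf33) (kf xf26 yf18 zf27) (kf xf31 yf2 zf31) (kf xf29 yf9 zf45) (kf xf26 yf16 zf51) (kf xf14 yf0 zf0) (kf xf26 yf9 zf56) (kf xf26 yf10 zf16) (kf xf28 yf49 zf36) (kf xf14 yf0 zf4) (kf xf27 yf58 zf53) (kf xf26 yf0 zf57) (kf xf26 yf25 zf31) (kf xf28 yf11 zf34) (kf xf14 yf0 zf6) (kf xf25 yf2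 zf42) (kf xf29 yf52 zf13) (kf xf27 yf56 zf39) (kf xf28 yf13 zf52) (kf xf28 yf13 zf53) (kf xf23 yf19 zf40) (kf xf18 yf23 zf52) (kf xf24 yf57 zf2) (kf xf14 yf0 zf11) (kf xf25 yf15 zf61) (kf xf31 yf2 zf34) (kf xf31 yf2 zf35) (kf xf31 yf2 zf36) (kf xf24 yf56 zf54) (kf xf14 yf0 zf16) (kf xf14 yf0 zf15) (kf xf25 yf3 zf3) (kf xf25 yf3 zf5) (kf xf15 yf10 zf58) (kf xf27 yf58 zf51) (kf xf25 yf3 zf28) (kf xf23 yf25 zf43) (kf xf23 yf25 zf41) (kf xf23 yf25 zf42) (kf xf23 yf25 zf3) (kf xf23 yf32 zf54) (kf xf14 yf0 zf19) (kf xf23 yf32 zf52) (kf xf20 yf33 zf26) (kf xf22 yf17 zf30) (kf xf31 yf2 zf39) (kf xf22 yf46 zf8) (kf xf26 yf9 zf41) (kf xf23 yf13 zf46) (kf xf26 yf9 zf40)) (@D3.rec (fun _ => Pt) (kf xf30 yf13 zf25) (kf xf23 yf38 zf14) (kf xf23 yf38 zf16) (kf xf23 yf38 zf13) (kf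 xf23 yf38 zf18) (kf xf23 yf38 zf19) (kf xf23 yf38 zf20) (kf xf25 yf46 zf34) (kf xf23 yf32 zf2) (kf xf23 yf20 zf24) (kf xf23 yf52 zf33) (kf xf31 yf2 zf40) (kf xf14 yf0 zf28) (kf xf14 yf29 zf46) (kf xf30 yf32 zf43) (kf xf23 yf38 zf31) (kf xf14 yf30 zf31) (kf xf23 yf45 zf11) (kf xf23 yf2 zf32) (kf xf25 yf37 zf6) (kf xf26 yf25 zf10) (kf xf14 yf0 zf44) (kf xf31 yf2 zf41) (kf xf27 yf57 zf12) (kf xf14 yf0 zf47) (kf xf24 yf20 zf46) (kf xf15 yf47 zf30) (kf xf30 yf13 zf43) (kf xf30 yf32 zf11) (kf xf14 yf0 zf53) (kf xf22 yf15 zf53) (kf xf22 yf16 zf56) (kf xf22 yf16 zf57) (kf xf31 yf6 zf45) (kf xf22 yf17 zf0) (kf xf28 yf28 zf32) (kf xf22 yf17 zf8) (kf xf22 yf17 zf7) (kf xf14 yf0 zf58) (kf xf23 yf44 zf55) (kf xf27 yf57 zf61) (kf xf24 yf53 zf23) (kf xf29 yf29 zf60) (kf xf25 yf15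 zf53) (kf xf14 yf1 zf2) (kf xf23 yf45 zf18) (kf xf23 yf31 zf49) (kf xf31 yf6 zf51) (kf xf31 yf2 zf44) (kf xf19 yf2 zf12) (kf xf30 yf32 zf9) (kf xf14 yf1 zf8) (kf xf23 yf34 zf9) (kf xf14 yf39 zf6) (kf xf28 yf1 zf51) (kf xf18 yf26 zf59) (kf xf15 yf11 zf17) (kf xf23 yf34 zf10) (kf xf23 yf34 zf11) (kf xf23 yf52 zf13) (kf xf22 yf57 zf29) (kf xf24 yf18 zf19)) (@D3.rec (fun _ => Pt) (kf xf23 yf52 zf9) (kf xf23 yf52 zf11) (kf xf23 yf12 zf41) (kf xf14 yf31 zf59) (kf xf14 yf31 zf58) (kf xf21 yf41 zf20) (kf xf14 yf21 zf27) (kf xf19 yf4 zf40) (kf xf22 yf51 zf30) (kf xf23 yf33 zf52) (kf xf23 yf33 zf57) (kf xf23 yf33 zf58) (kf xf22 yf15 zf37) (kf xf30 yf45 zf43) (kf xf27 yf49 zf10) (kf xf23 yf51 zf27) (kf xf30 yf44 zf54) (kf xf14 yf1 zf28) (kf xf23 yf51 zf4) (kf xf14 yf38 zf3) (kf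 xf20 yf38 zf2) (kf xf23 yf51 zf3) (kf xf24 yf21 zf26) (kf xf24 yf24 zf25) (kf xf31 yf7 zf2) (kf xf14 yf1 zf31) (kf xf24 yf24 zf47) (kf xf22 yf11 zf39) (kf xf22 yf11 zf40) (kf xf22 yf18 zf1) (kf xf15 yf4 zf61) (kf xf30 yf5 zf34) (kf xf14 yf1 zf37) (kf xf21 yf37 zf50) (kf xf23 yf30 zf46) (kf xf23 yf23 zf19) (kf xf23 yf23 zf27) (kf xf24 yf37 zf30) (kf xf19 yf56 zf52) (kf xf26 yf42 zf8) (kf xf14 yf1 zf58) (kf xf30 yf8 zf56) (kf xf14 yf1 zf52) (kf xf24 yf40 zf50) (kf xf28 yf43 zf54) (kf xf14 yf1 zf54) (kf xf31 yf7 zf6) (kf xf14 yf1 zf56) (kf xf24 yf44 zf29) (kf xf24 yf44 zf32) (kf xf27 yf25 zf41) (kf xf26 yf0 zf32) (kf xf27 yf28 zf47) (kf xf14 yf1 zf59) (kf xf24 yf40 zf44) (kf xf24 yf40 zf45) (kf xf24 yf43 zf37) (kf xf24 yf40 zf48) (kf xf27 yf47 zf46) (kf xf24 yf36 zf9)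 (kf xf27 yf39 zf25) (kf xf24 yf40 zf53)) (@D3.rec (fun _ => Pt) (kf xf24 yf36 zf8) (kf xf30 yf3 zf32) (kf xf24 yf40 zf55) (kf xf31 yf7 zf12) (kf xf31 yf7 zf11) (kf xf30 yf4 zf11) (kf xf26 yf8 zf25) (kf xf14 yf2 zf7) (kf xf23 yf23 zf5) (kf xf18 yf18 zf30) (kf xf23 yf23 zf7) (kf xf23 yf23 zf6) (kf xf14 yf2 zf10) (kf xf21 yf37 zf58) (kf xf21 yf37 zf54) (kf xf21 yf37 zf55) (kf xf23 yf24 zf26) (kf xf22 yf17 zf55) (kf xf14 yf2 zf14) (kf xf20 yf18 zf35) (kf xf21 yf37 zf59) (kf xf14 yf2 zf17) (kf xf14 yf42 zf28) (kf xf29 yf21 zf59) (kf xf14 yf38 zf42) (kf xf28 yf11 zf24) (kf xf16 yf5 zf34) (kf xf16 yf6 zf28) (kf xf14 yf2 zf31) (kf xf24 yf41 zf0) (kf xf16 yf19 zf58) (kf xf24 yf41 zf1) (kf xf23 yf23 zf26) (kf xf23 yf23 zf21) (kf xf30 yf20 zf33) (kf xf22 yf17 zf53) (kf xf22 yf17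 zf54) (kf xf31 yf7 zf18) (kf xf23 yf37 zf49) (kf xf24 yf45 zf11) (kf xf23 yf45 zf1) (kf xf23 yf45 zf0) (kf xf14 yf2 zf40) (kf xf15 yf4 zf9) (kf xf23 yf22 zf23) (kf xf23 yf22 zf24) (kf xf23 yf22 zf25) (kf xf23 yf22 zf19) (kf xf23 yf22 zf20) (kf xf21 yf4 zf27) (kf xf21 yf4 zf28) (kf xf30 yf3 zf29) (kf xf26 yf10 zf59) (kf xf27 yf27 zf34) (kf xf28 yf47 zf4) (kf xf27 yf26 zf61) (kf xf23 yf23 zf60) (kf xf23 yf23 zf58) (kf xf23 yf23 zf59) (kf xf14 yf2 zf54) (kf xf23 yf23 zf2) (kf xf28 yf43 zf51)) (@D3.rec (fun _ => Pt) (kf xf14 yf2 zf58) (kf xf23 yf23 zf14) (kf xf22 yf38 zf8) (kf xf23 yf23 zf10) (kf xf29 yf48 zf50) (kf xf24 yf27 zf3) (kf xf23 yf23 zf16) (kf xf23 yf23 zf30) (kf xf22 yf1 zf49) (kf xf24 yf43 zf33) (kf xf23 yf23 zf32) (kf xf14 yf19 zf20) (kf xf23 yf23 zf20) (kf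 xf23 yf23 zf22) (kf xf23 yf23 zf23) (kf xf23 yf23 zf24) (kf xf25 yf41 zf8) (kf xf20 yf13 zf12) (kf xf23 yf23 zf34) (kf xf14 yf3 zf14) (kf xf31 yf7 zf34) (kf xf21 yf33 zf12) (kf xf23 yf23 zf38) (kf xf14 yf3 zf17) (kf xf23 yf23 zf36) (kf xf23 yf23 zf37) (kf xf21 yf24 zf34) (kf xf14 yf55 zf58) (kf xf14 yf3 zf22) (kf xf22 yf19 zf54) (kf xf23 yf23 zf46) (kf xf29 yf28 zf9) (kf xf28 yf10 zf9) (kf xf21 yf54 zf46) (kf xf21 yf37 zf2) (kf xf21 yf37 zf4) (kf xf17 yf42 zf55) (kf xf17 yf42 zf56) (kf xf22 yf14 zf42) (kf xf19 yf50 zf48) (kf xf24 yf18 zf21) (kf xf19 yf5 zf21) (kf xf22 yf18 zf52) (kf xf14 yf3 zf37) (kf xf21 yf55 zf18) (kf xf22 yf15 zf52) (kf xf22 yf18 zf45) (kf xf19 yf22 zf56) (kf xf14 yf3 zf42) (kf xf14 yf24 zf29) (kf xf22 yf18 zf9) (kf xf19 yf22 zf40) (kf xf19 yf20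 zf33) (kf xf27 yf50 zf22) (kf xf23 yf22 zf40) (kf xf17 yf46 zf41) (kf xf27 yf49 zf48) (kf xf23 yf50 zf2) (kf xf18 yf5 zf11) (kf xf23 yf22 zf39) (kf xf23 yf22 zf38) (kf xf21 yf25 zf54)) (@D3.rec (fun _ => Pt) (kf xf14 yf3 zf50) (kf xf23 yf24 zf0) (kf xf20 yf45 zf18) (kf xf20 yf45 zf48) (kf xf30 yf41 zf21) (kf xf30 yf41 zf22) (kf xf30 yf41 zf23) (kf xf23 yf24 zf45) (kf xf23 yf24 zf41) (kf xf23 yf24 zf43) (kf xf23 yf24 zf48) (kf xf23 yf24 zf47) (kf xf30 yf42 zf43) (kf xf14 yf3 zf60) (kf xf23 yf24 zf58) (kf xf30 yf41 zf36) (kf xf21 yf56 zf47) (kf xf21 yf8 zf59) (kf xf23 yf24 zf52) (kf xf22 yf37 zf59) (kf xf23 yf24 zf54) (kf xf30 yf7 zf36) (kf xf23 yf24 zf56) (kf xf22 yf58 zf22) (kf xf23 yf25 zf0) (kf xf31 yf6 zf53) (kf xf23 yf24 zf59) (kf xf23 yf24 zf60) (kf xf26 yf9 zf16)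 (kf xf23 yf25 zf2) (kf xf21 yf56 zf51) (kf xf30 yf51 zf50) (kf xf14 yf8 zf29) (kf xf14 yf8 zf18) (kf xf14 yf6 zf39) (kf xf14 yf8 zf13) (kf xf31 yf8 zf5) (kf xf14 yf8 zf16) (kf xf14 yf8 zf20) (kf xf14 yf7 zf48) (kf xf14 yf4 zf17) (kf xf14 yf8 zf40) (kf xf18 yf29 zf49) (kf xf14 yf8 zf37) (kf xf31 yf8 zf8) (kf xf20 yf42 zf17) (kf xf16 yf17 zf16) (kf xf15 yf6 zf56) (kf xf25 yf4 zf1) (kf xf23 yf35 zf38) (kf xf20 yf49 zf51) (kf xf20 yf49 zf55) (kf xf24 yf43 zf4) (kf xf21 yf36 zf57) (kf xf23 yf46 zf58) (kf xf27 yf25 zf15) (kf xf26 yf13 zf48) (kf xf18 yf4 zf29) (kf xf27 yf48 zf46) (kf xf27 yf48 zf50) (kf xf28 yf31 zf46) (kf xf26 yf12 zf29)) (@D3.rec (fun _ => Pt) (kf xf19 yf52 zf30) (kf xf20 yf44 zf41) (kf xf14 yf4 zf41) (kf xf21 yf22 zf53) (kf xf14 yf4 zf45) (kf xf16 yf48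 zf61) (kf xf21 yf36 zf7) (kf xf21 yf38 zf0) (kf xf17 yf57 zf53) (kf xf18 yf24 zf52) (kf xf17 yf24 zf3) (kf xf23 yf26 zf51) (kf xf23 yf28 zf13) (kf xf23 yf33 zf3) (kf xf23 yf33 zf1) (kf xf23 yf28 zf19) (kf xf23 yf33 zf2) (kf xf23 yf26 zf59) (kf xf23 yf33 zf4) (kf xf23 yf33 zf5) (kf xf23 yf33 zf6) (kf xf30 yf20 zf34) (kf xf14 yf5 zf23) (kf xf14 yf5 zf11) (kf xf21 yf29 zf21) (kf xf21 yf29 zf33) (kf xf27 yf40 zf38) (kf xf24 yf40 zf1) (kf xf30 yf40 zf58) (kf xf31 yf8 zf33) (kf xf30 yf52 zf43) (kf xf23 yf33 zf15) (kf xf30 yf40 zf57) (kf xf31 yf8 zf42) (kf xf23 yf41 zf58) (kf xf31 yf8 zf46) (kf xf31 yf1 zf59) (kf xf23 yf41 zf57) (kf xf19 yf55 zf17) (kf xf29 yf49 zf48) (kf xf30 yf41 zf43) (kf xf31 yf8 zf56) (kf xf23 yf26 zf6) (kf xf14 yf5 zf24) (kf xf30 yf52 zf49) (kf xf22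 yf17 zf42) (kf xf23 yf27 zf49) (kf xf23 yf27 zf50) (kf xf23 yf27 zf45) (kf xf23 yf27 zf44) (kf xf29 yf4 zf32) (kf xf14 yf6 zf3) (kf xf14 yf6 zf5) (kf xf23 yf27 zf42) (kf xf23 yf27 zf43) (kf xf23 yf27 zf46) (kf xf24 yf40 zf4) (kf xf27 yf3 zf16) (kf xf23 yf27 zf58) (kf xf31 yf9 zf8) (kf xf23 yf28 zf0) (kf xf23 yf27 zf61)) (@D3.rec (fun _ => Pt) (kf xf23 yf40 zf50) (kf xf26 yf55 zf1) (kf xf14 yf5 zf33) (kf xf14 yf5 zf55) (kf xf22 yf17 zf43) (kf xf23 yf28 zf14) (kf xf23 yf28 zf15) (kf xf23 yf28 zf16) (kf xf15 yf41 zf42) (kf xf23 yf28 zf21) (kf xf29 yf56 zf35) (kf xf23 yf28 zf11) (kf xf23 yf28 zf10) (kf xf14 yf5 zf40) (kf xf23 yf28 zf5) (kf xf21 yf19 zf7) (kf xf21 yf24 zf32) (kf xf23 yf28 zf8) (kf xf31 yf9 zf22) (kf xf23 yf28 zf24) (kf xf23 yf28 zf23) (kf xf31 yf9 zf26)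 (kf xf14 yf5 zf44) (kf xf23 yf28 zf32) (kf xf29 yf43 zf53) (kf xf23 yf28 zf30) (kf xf23 yf28 zf29) (kf xf14 yf5 zf47) (kf xf23 yf28 zf26) (kf xf30 yf41 zf48) (kf xf23 yf28 zf37) (kf xf21 yf49 zf14) (kf xf14 yf5 zf49) (kf xf14 yf34 zf41) (kf xf31 yf9 zf42) (kf xf14 yf53 zf25) (kf xf31 yf9 zf48) (kf xf31 yf9 zf43) (kf xf28 yf19 zf22) (kf xf14 yf53 zf16) (kf xf14 yf5 zf52) (kf xf19 yf19 zf43) (kf xf31 yf9 zf11) (kf xf23 yf28 zf41) (kf xf23 yf28 zf40) (kf xf23 yf28 zf42) (kf xf30 yf52 zf10) (kf xf23 yf28 zf44) (kf xf25 yf30 zf13) (kf xf22 yf43 zf26) (kf xf22 yf43 zf25) (kf xf14 yf5 zf58) (kf xf31 yf10 zf5) (kf xf23 yf9 zf44) (kf xf31 yf10 zf7) (kf xf30 yf20 zf36) (kf xf30 yf4 zf41) (kf xf23 yf42 zf1) (kf xf24 yf28 zf11) (kf xf30 yf37 zf23) (kf xf27 yf40 zf31) (kf xf21 yf19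 zf18)) (@D3.rec (fun _ => Pt) (kf xf29 yf51 zf16) (kf xf14 yf6 zf6) (kf xf30 yf41 zf10) (kf xf21 yf24 zf42) (kf xf30 yf41 zf12) (kf xf30 yf41 zf13) (kf xf25 yf38 zf39) (kf xf23 yf26 zf35) (kf xf23 yf26 zf25) (kf xf23 yf26 zf30) (kf xf15 yf49 zf49) (kf xf23 yf40 zf18) (kf xf23 yf45 zf26) (kf xf23 yf26 zf43) (kf xf24 yf38 zf25) (kf xf23 yf26 zf40) (kf xf29 yf10 zf32) (kf xf14 yf6 zf19) (kf xf23 yf40 zf11) (kf xf22 yf17 zf45) (kf xf23 yf26 zf52) (kf xf20 yf29 zf48) (kf xf23 yf26 zf54) (kf xf23 yf26 zf55) (kf xf29 yf6 zf38) (kf xf18 yf40 zf15) (kf xf23 yf27 zf12) (kf xf30 yf10 zf9) (kf xf23 yf27 zf10) (kf xf21 yf24 zf39) (kf xf23 yf27 zf7) (kf xf23 yf27 zf8) (kf xf29 yf49 zf47) (kf xf19 yf56 zf3) (kf xf29 yf10 zf33) (kf xf23 yf31 zf27) (kf xf16 yf10 zf39) (kf xf23 yf21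 zf48) (kf xf22 yf38 zf45) (kf xf30 yf2 zf5) (kf xf28 yf1 zf13) (kf xf26 yf8 zf23) (kf xf30 yf31 zf42) (kf xf31 yf10 zf33) (kf xf14 yf6 zf42) (kf xf14 yf6 zf60) (kf xf14 yf6 zf55) (kf xf14 yf6 zf56) (kf xf14 yf7 zf1) (kf xf14 yf7 zf0) (kf xf23 yf39 zf0) (kf xf14 yf6 zf45) (kf xf27 yf57 zf24) (kf xf20 yf13 zf5) (kf xf30 yf2 zf59) (kf xf20 yf47 zf32) (kf xf20 yf47 zf34) (kf xf28 yf42 zf47) (kf xf20 yf54 zf58) (kf xf30 yf3 zf0) (kf xf31 yf10 zf31) (kf xf30 yf1 zf37)) (@D3.rec (fun _ => Pt) (kf xf14 yf6 zf53) (kf xf31 yf10 zf34) (kf xf30 yf12 zf52) (kf xf24 yf40 zf7) (kf xf29 yf15 zf40) (kf xf29 yf58 zf3) (kf xf21 yf18 zf18) (kf xf21 yf55 zf27) (kf xf30 yf32 zf13) (kf xf23 yf31 zf35) (kf xf29 yf15 zf41) (kf xf29 yf49 zf38) (kf xf31 yf10 zf37) (kf xf31 yf10 zf53) (kf xf31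 yf7 zf48) (kf xf31 yf10 zf35) (kf xf14 yf53 zf22) (kf xf26 yf1 zf34) (kf xf27 yf4 zf58) (kf xf29 yf5 zf19) (kf xf21 yf48 zf40) (kf xf14 yf7 zf2) (kf xf31 yf10 zf46) (kf xf23 yf30 zf3) (kf xf23 yf30 zf0) (kf xf23 yf30 zf5) (kf xf23 yf30 zf2) (kf xf22 yf43 zf46) (kf xf23 yf30 zf8) (kf xf31 yf11 zf2) (kf xf30 yf4 zf57) (kf xf29 yf59 zf3) (kf xf18 yf1 zf61) (kf xf14 yf7 zf10) (kf xf14 yf7 zf18) (kf xf23 yf30 zf15) (kf xf30 yf31 zf44) (kf xf14 yf53 zf28) (kf xf14 yf53 zf27) (kf xf14 yf7 zf13) (kf xf19 yf45 zf34) (kf xf23 yf30 zf17) (kf xf19 yf46 zf3) (kf xf31 yf11 zf12) (kf xf31 yf3 zf51) (kf xf14 yf34 zf10) (kf xf14 yf7 zf15) (kf xf28 yf44 zf42) (kf xf31 yf11 zf4) (kf xf23 yf30 zf28) (kf xf23 yf30 zf27) (kf xf23 yf16 zf52) (kf xf30 yf41 zf39) (kf xf30 yf41 zf41) (kf xf30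 yf42 zf20) (kf xf30 yf41 zf42) (kf xf31 yf10 zf29) (kf xf23 yf38 zf37) (kf xf23 yf38 zf34) (kf xf30 yf41 zf45) (kf xf23 yf29 zf48) (kf xf23 yf29 zf21)) (@D3.rec (fun _ => Pt) (kf xf24 yf37 zf26) (kf xf23 yf39 zf57) (kf xf14 yf7 zf35) (kf xf23 yf29 zf30) (kf xf30 yf41 zf11) (kf xf30 yf41 zf49) (kf xf14 yf7 zf44) (kf xf14 yf7 zf43) (kf xf19 yf16 zf43) (kf xf20 yf5 zf46) (kf xf25 yf45 zf39) (kf xf20 yf54 zf53) (kf xf26 yf28 zf19) (kf xf16 yf7 zf3) (kf xf25 yf45 zf40) (kf xf16 yf7 zf2) (kf xf23 yf30 zf53) (kf xf19 yf16 zf58) (kf xf21 yf27 zf52) (kf xf29 yf0 zf16) (kf xf14 yf7 zf45) (kf xf24 yf42 zf3) (kf xf14 yf46 zf45) (kf xf25 yf37 zf8) (kf xf25 yf37 zf9) (kf xf17 yf37 zf34) (kf xf21 yf24 zf57) (kf xf27 yf11 zf53) (kf xf21 yf28 zf48) (kf xf16 yf35 zf56) (kf xf17 yf21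 zf52) (kf xf27 yf41 zf10) (kf xf21 yf37 zf48) (kf xf20 yf24 zf47) (kf xf16 yf23 zf32) (kf xf30 yf1 zf8) (kf xf14 yf8 zf9) (kf xf15 yf24 zf52) (kf xf23 yf28 zf50) (kf xf30 yf18 zf11) (kf xf30 yf33 zf40) (kf xf21 yf56 zf34) (kf xf19 yf17 zf3) (kf xf14 yf8 zf14) (kf xf20 yf12 zf28) (kf xf21 yf56 zf42) (kf xf30 yf51 zf56) (kf xf30 yf1 zf3) (kf xf26 yf14 zf48) (kf xf25 yf0 zf1) (kf xf27 yf45 zf41) (kf xf24 yf37 zf16) (kf xf24 yf37 zf18) (kf xf14 yf8 zf21) (kf xf23 yf29 zf39) (kf xf15 yf29 zf41) (kf xf30 yf31 zf54) (kf xf16 yf11 zf18) (kf xf23 yf14 zf52) (kf xf23 yf14 zf50) (kf xf29 yf11 zf9) (kf xf14 yf8 zf28)) (@D3.rec (fun _ => Pt) (kf xf16 yf29 zf28) (kf xf17 yf9 zf5) (kf xf20 yf4 zf47) (kf xf15 yf12 zf19) (kf xf22 yf28 zf34) (kf xf20 yf4 zf27) (kf xf31 yf8 zf6) (kf xf31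 yf8 zf7) (kf xf25 yf46 zf36) (kf xf18 yf26 zf45) (kf xf27 yf50 zf32) (kf xf18 yf29 zf43) (kf xf14 yf8 zf39) (kf xf30 yf3 zf14) (kf xf29 yf18 zf22) (kf xf16 yf25 zf49) (kf xf18 yf26 zf46) (kf xf31 yf11 zf42) (kf xf28 yf36 zf52) (kf xf28 yf36 zf49) (kf xf29 yf6 zf19) (kf xf14 yf8 zf43) (kf xf27 yf50 zf28) (kf xf30 yf1 zf7) (kf xf27 yf58 zf25) (kf xf18 yf29 zf48) (kf xf15 yf12 zf22) (kf xf18 yf29 zf59) (kf xf14 yf8 zf46) (kf xf16 yf35 zf55) (kf xf21 yf37 zf61) (kf xf14 yf8 zf47) (kf xf23 yf28 zf49) (kf xf23 yf28 zf51) (kf xf30 yf51 zf54) (kf xf30 yf42 zf37) (kf xf19 yf55 zf23) (kf xf14 yf47 zf33) (kf xf30 yf13 zf38) (kf xf25 yf37 zf0) (kf xf30 yf42 zf36) (kf xf30 yf20 zf12) (kf xf30 yf42 zf38) (kf xf29 yf58 zf50) (kf xf30 yf42 zf39) (kf xf31 yf11 zf44) (kf xf19 yf56 zf21)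 (kf xf14 yf8 zf56) (kf xf23 yf29 zf11) (kf xf23 yf5 zf40) (kf xf22 yf43 zf5) (kf xf14 yf46 zf7) (kf xf14 yf47 zf34) (kf xf29 yf58 zf48) (kf xf29 yf58 zf49) (kf xf29 yf58 zf47) (kf xf30 yf1 zf12) (kf xf18 yf30 zf1) (kf xf23 yf45 zf6) (kf xf27 yf26 zf8) (kf xf14 yf8 zf61) (kf xf30 yf42 zf40)) (@D3.rec (fun _ => Pt) (kf xf30 yf0 zf58) (kf xf30 yf0 zf57) (kf xf30 yf42 zf44) (kf xf27 yf37 zf24) (kf xf14 yf9 zf2) (kf xf30 yf51 zf61) (kf xf26 yf7 zf46) (kf xf30 yf42 zf45) (kf xf24 yf31 zf42) (kf xf31 yf12 zf4) (kf xf14 yf9 zf9) (kf xf23 yf29 zf51) (kf xf18 yf30 zf7) (kf xf23 yf17 zf58) (kf xf15 yf34 zf51) (kf xf23 yf45 zf25) (kf xf21 yf55 zf49) (kf xf15 yf34 zf48) (kf xf14 yf9 zf13) (kf xf30 yf0 zf61) (kf xf30 yf0 zf60) (kf xf29 yf48 zf60) (kf xf19 yf26 zf32) (kf xf30 yf31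 zf43) (kf xf30 yf42 zf29) (kf xf30 yf42 zf30) (kf xf30 yf31 zf45) (kf xf29 yf58 zf43) (kf xf29 yf58 zf39) (kf xf30 yf51 zf60) (kf xf15 yf12 zf8) (kf xf15 yf12 zf13) (kf xf15 yf13 zf55) (kf xf18 yf29 zf51) (kf xf18 yf29 zf44) (kf xf18 yf29 zf52) (kf xf14 yf9 zf31) (kf xf26 yf15 zf41) (kf xf30 yf1 zf4) (kf xf14 yf9 zf33) (kf xf23 yf44 zf61) (kf xf22 yf17 zf50) (kf xf22 yf17 zf51) (kf xf22 yf17 zf46) (kf xf15 yf50 zf22) (kf xf28 yf3 zf46) (kf xf28 yf3 zf45) (kf xf14 yf9 zf42) (kf xf28 yf43 zf55) (kf xf27 yf47 zf28) (kf xf30 yf42 zf32) (kf xf31 yf12 zf11) (kf xf19 yf14 zf48) (kf xf19 yf14 zf47) (kf xf23 yf26 zf11) (kf xf23 yf33 zf39) (kf xf31 yf12 zf16) (kf xf18 yf29 zf38) (kf xf18 yf29 zf24) (kf xf14 yf9 zf52) (kf xf31 yf12 zf17) (kf xf23 yf44 zf40)) (@D3.rec (fun _ =>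 Pt) (kf xf23 yf35 zf41) (kf xf23 yf35 zf40) (kf xf14 yf9 zf55) (kf xf14 yf10 zf10) (kf xf14 yf9 zf57) (kf xf31 yf12 zf19) (kf xf23 yf43 zf58) (kf xf24 yf38 zf12) (kf xf23 yf25 zf58) (kf xf23 yf20 zf4) (kf xf19 yf14 zf42) (kf xf23 yf33 zf17) (kf xf30 yf20 zf38) (kf xf30 yf57 zf10) (kf xf23 yf17 zf30) (kf xf30 yf0 zf55) (kf xf31 yf12 zf24) (kf xf31 yf12 zf21) (kf xf23 yf33 zf45) (kf xf14 yf10 zf6) (kf xf23 yf26 zf53) (kf xf25 yf34 zf56) (kf xf23 yf17 zf61) (kf xf27 yf26 zf25) (kf xf30 yf0 zf54) (kf xf23 yf44 zf15) (kf xf23 yf40 zf12) (kf xf30 yf26 zf15) (kf xf19 yf9 zf39) (kf xf26 yf26 zf44) (kf xf19 yf29 zf51) (kf xf20 yf47 zf4) (kf xf17 yf1 zf56) (kf xf22 yf19 zf9) (kf xf24 yf40 zf6) (kf xf22 yf19 zf10) (kf xf24 yf1 zf45) (kf xf19 yf21 zf45) (kf xf30 yf28 zf43) (kf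 xf22 yf19 zf3) (kf xf22 yf19 zf5) (kf xf29 yf27 zf50) (kf xf22 yf19 zf15) (kf xf22 yf19 zf16) (kf xf29 yf40 zf52) (kf xf22 yf19 zf12) (kf xf22 yf19 zf13) (kf xf29 yf40 zf5) (kf xf22 yf19 zf19) (kf xf22 yf19 zf18) (kf xf28 yf46 zf14) (kf xf14 yf10 zf28) (kf xf14 yf18 zf32) (kf xf14 yf30 zf43) (kf xf14 yf40 zf42) (kf xf14 yf40 zf43) (kf xf14 yf40 zf44) (kf xf31 yf12 zf41) (kf xf14 yf40 zf38) (kf xf14 yf10 zf33) (kf xf14 yf30 zf44) (kf xf31 yf12 zf45)) (@D3.rec (fun _ => Pt) (kf xf14 yf40 zf57) (kf xf14 yf10 zf36) (kf xf14 yf41 zf3) (kf xf30 yf23 zf2) (kf xf14 yf10 zf38) (kf xf30 yf11 zf61) (kf xf14 yf40 zf24) (kf xf14 yf17 zf42) (kf xf14 yf44 zf12) (kf xf14 yf44 zf14) (kf xf31 yf1 zf24) (kf xf14 yf44 zf9) (kf xf14 yf44 zf8) (kf xf14 yf10 zf43) (kf xf21 yf14 zf18) (kf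 xf30 yf31 zf58) (kf xf22 yf14 zf56) (kf xf26 yf7 zf22) (kf xf26 yf7 zf23) (kf xf23 yf15 zf54) (kf xf29 yf51 zf28) (kf xf30 yf13 zf41) (kf xf30 yf13 zf42) (kf xf25 yf14 zf49) (kf xf14 yf45 zf31) (kf xf14 yf45 zf33) (kf xf16 yf59 zf13) (kf xf16 yf48 zf12) (kf xf16 yf36 zf12) (kf xf30 yf38 zf39) (kf xf22 yf13 zf48) (kf xf27 yf8 zf57) (kf xf30 yf29 zf13) (kf xf19 yf31 zf15) (kf xf18 yf54 zf7) (kf xf27 yf3 zf7) (kf xf30 yf33 zf55) (kf xf17 yf11 zf32) (kf xf25 yf43 zf18) (kf xf25 yf24 zf29) (kf xf22 yf23 zf22) (kf xf19 yf37 zf33) (kf xf19 yf40 zf3) (kf xf22 yf16 zf49) (kf xf22 yf24 zf52) (kf xf22 yf16 zf48) (kf xf30 yf3 zf59) (kf xf23 yf9 zf54) (kf xf27 yf53 zf32) (kf xf17 yf6 zf44) (kf xf20 yf28 zf12) (kf xf27 yf53 zf29) (kf xf24 yf39 zf43) (kf xf20 yf51 zf45) (kf xf24 yf19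 zf55) (kf xf22 yf10 zf33) (kf xf18 yf22 zf61) (kf xf22 yf10 zf15) (kf xf23 yf37 zf54) (kf xf27 yf57 zf19) (kf xf28 yf41 zf16) (kf xf24 yf47 zf12)) (@D3.rec (fun _ => Pt) (kf xf20 yf12 zf39) (kf xf21 yf47 zf14) (kf xf21 yf41 zf51) (kf xf24 yf19 zf53) (kf xf17 yf3 zf56) (kf xf26 yf54 zf4) (kf xf30 yf6 zf52) (kf xf20 yf42 zf21) (kf xf22 yf37 zf26) (kf xf29 yf51 zf61) (kf xf24 yf19 zf43) (kf xf23 yf48 zf27) (kf xf30 yf21 zf49) (kf xf17 yf17 zf35) (kf xf17 yf17 zf33) (kf xf27 yf2 zf27) (kf xf27 yf11 zf15) (kf xf14 yf11 zf50) (kf xf17 yf52 zf9) (kf xf27 yf21 zf24) (kf xf28 yf10 zf31) (kf xf30 yf23 zf34) (kf xf29 yf40 zf46) (kf xf22 yf8 zf15) (kf xf21 yf43 zf41) (kf xf14 yf12 zf3) (kf xf28 yf10 zf17) (kf xf30 yf23 zf33) (kf xf29 yf38 zf27) (kf xf21 yf54 zf7) (kf xf22 yf8 zf17)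 (kf xf30 yf3 zf42) (kf xf29 yf50 zf32) (kf xf29 yf50 zf34) (kf xf21 yf49 zf43) (kf xf14 yf35 zf19) (kf xf27 yf53 zf31) (kf xf16 yf59 zf54) (kf xf18 yf50 zf51) (kf xf27 yf50 zf52) (kf xf30 yf32 zf58) (kf xf18 yf0 zf49) (kf xf24 yf2 zf19) (kf xf24 yf7 zf19) (kf xf24 yf7 zf20) (kf xf21 yf51 zf42) (kf xf30 yf25 zf13) (kf xf20 yf7 zf49) (kf xf28 yf10 zf38) (kf xf21 yf52 zf13) (kf xf14 yf22 zf51) (kf xf21 yf51 zf33) (kf xf21 yf9 zf18) (kf xf28 yf45 zf41) (kf xf18 yf25 zf4) (kf xf21 yf9 zf43) (kf xf15 yf43 zf43) (kf xf30 yf34 zf47) (kf xf14 yf12 zf58) (kf xf14 yf12 zf61) (kf xf30 yf38 zf4) (kf xf14 yf12 zf48)) (@D3.rec (fun _ => Pt) (kf xf21 yf37 zf20) (kf xf28 yf13 zf60) (kf xf14 yf12 zf53) (kf xf26 yf53 zf43) (kf xf26 yf53 zf48) (kf xf28 yf18 zf56) (kf xf14 yf12 zf55) (kf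 xf22 yf14 zf25) (kf xf31 yf13 zf37) (kf xf30 yf9 zf11) (kf xf28 yf36 zf3) (kf xf14 yf27 zf18) (kf xf22 yf27 zf51) (kf xf30 yf22 zf12) (kf xf28 yf52 zf56) (kf xf30 yf22 zf10) (kf xf31 yf13 zf30) (kf xf31 yf13 zf29) (kf xf29 yf28 zf6) (kf xf29 yf28 zf4) (kf xf14 yf13 zf0) (kf xf30 yf37 zf29) (kf xf22 yf33 zf39) (kf xf24 yf2 zf5) (kf xf31 yf13 zf45) (kf xf24 yf2 zf3) (kf xf30 yf35 zf45) (kf xf23 yf47 zf11) (kf xf30 yf7 zf29) (kf xf22 yf37 zf35) (kf xf27 yf8 zf17) (kf xf30 yf42 zf50) (kf xf14 yf13 zf8) (kf xf14 yf13 zf14) (kf xf22 yf58 zf5) (kf xf24 yf30 zf6) (kf xf24 yf30 zf5) (kf xf14 yf13 zf11) (kf xf28 yf37 zf35) (kf xf28 yf17 zf29) (kf xf28 yf46 zf38) (kf xf14 yf13 zf12) (kf xf30 yf21 zf18) (kf xf27 yf8 zf50) (kf xf30 yf34 zf34) (kf xf19 yf22 zf0) (kf xf29 yf36 zf28)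 (kf xf29 yf35 zf44) (kf xf23 yf55 zf17) (kf xf30 yf20 zf43) (kf xf23 yf52 zf6) (kf xf31 yf12 zf31) (kf xf30 yf34 zf23) (kf xf14 yf13 zf19) (kf xf27 yf6 zf42) (kf xf28 yf52 zf60) (kf xf27 yf6 zf46) (kf xf30 yf18 zf57) (kf xf27 yf6 zf48) (kf xf27 yf2 zf24) (kf xf14 yf13 zf23) (kf xf30 yf30 zf19)) (@D3.rec (fun _ => Pt) (kf xf18 yf53 zf43) (kf xf31 yf13 zf60) (kf xf22 yf32 zf13) (kf xf24 yf29 zf41) (kf xf27 yf9 zf7) (kf xf28 yf24 zf9) (kf xf14 yf13 zf34) (kf xf22 yf24 zf37) (kf xf30 yf7 zf6) (kf xf30 yf14 zf45) (kf xf18 yf0 zf17) (kf xf24 yf29 zf59) (kf xf30 yf14 zf47) (kf xf29 yf40 zf45) (kf xf14 yf13 zf42) (kf xf30 yf25 zf57) (kf xf31 yf14 zf7) (kf xf14 yf13 zf45) (kf xf14 yf22 zf59) (kf xf29 yf25 zf35) (kf xf29 yf50 zf19) (kf xf27 yf9 zf14) (kf xf20 yf26 zf50) (kf xf14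 yf13 zf51) (kf xf20 yf40 zf47) (kf xf26 yf53 zf23) (kf xf29 yf13 zf23) (kf xf14 yf13 zf53) (kf xf23 yf56 zf15) (kf xf27 yf19 zf9) (kf xf30 yf35 zf59) (kf xf27 yf19 zf0) (kf xf28 yf43 zf60) (kf xf14 yf42 zf16) (kf xf24 yf20 zf45) (kf xf24 yf20 zf9) (kf xf14 yf21 zf50) (kf xf27 yf32 zf39) (kf xf27 yf54 zf11) (kf xf30 yf8 zf12) (kf xf29 yf38 zf28) (kf xf29 yf7 zf36) (kf xf14 yf24 zf13) (kf xf20 yf51 zf23) (kf xf21 yf42 zf30) (kf xf17 yf31 zf3) (kf xf21 yf42 zf41) (kf xf29 yf23 zf18) (kf xf26 yf15 zf16) (kf xf30 yf35 zf35) (kf xf26 yf15 zf51) (kf xf14 yf23 zf38) (kf xf24 yf18 zf17) (kf xf17 yf30 zf30) (kf xf30 yf35 zf16) (kf xf26 yf10 zf60) (kf xf20 yf0 zf9) (kf xf19 yf41 zf0) (kf xf25 yf51 zf21) (kf xf14 yf14 zf11) (kf xf22 yf18 zf2) (kf xf20 yf1 zf35)) (@D3.rec (fun _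 => Pt) (kf xf27 yf11 zf12) (kf xf30 yf35 zf14) (kf xf23 yf36 zf57) (kf xf21 yf20 zf42) (kf xf21 yf42 zf37) (kf xf24 yf18 zf31) (kf xf25 yf1 zf38) (kf xf27 yf53 zf61) (kf xf23 yf56 zf10) (kf xf19 yf20 zf47) (kf xf24 yf18 zf25) (kf xf19 yf15 zf30) (kf xf19 yf5 zf12) (kf xf14 yf14 zf26) (kf xf19 yf20 zf14) (kf xf27 yf52 zf36) (kf xf19 yf20 zf9) (kf xf30 yf19 zf41) (kf xf18 yf48 zf4) (kf xf14 yf14 zf29) (kf xf17 yf30 zf60) (kf xf26 yf13 zf25) (kf xf17 yf30 zf55) (kf xf27 yf47 zf13) (kf xf21 yf59 zf27) (kf xf16 yf29 zf38) (kf xf27 yf32 zf32) (kf xf30 yf35 zf23) (kf xf31 yf14 zf37) (kf xf30 yf35 zf25) (kf xf29 yf20 zf34) (kf xf28 yf45 zf40) (kf xf25 yf33 zf61) (kf xf30 yf35 zf26) (kf xf27 yf32 zf59) (kf xf28 yf25 zf39) (kf xf31 yf14 zf36) (kf xf31 yf14 zf35) (kf xf14 yf14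 zf40) (kf xf14 yf27 zf30) (kf xf29 yf55 zf30) (kf xf14 yf27 zf31) (kf xf30 yf35 zf31) (kf xf30 yf35 zf32) (kf xf30 yf35 zf33) (kf xf31 yf14 zf48) (kf xf14 yf14 zf44) (kf xf30 yf35 zf12) (kf xf18 yf5 zf3) (kf xf30 yf19 zf53) (kf xf19 yf40 zf60) (kf xf22 yf17 zf60) (kf xf22 yf18 zf6) (kf xf31 yf14 zf50) (kf xf30 yf35 zf18) (kf xf27 yf53 zf54) (kf xf31 yf14 zf59) (kf xf29 yf38 zf40) (kf xf29 yf32 zf54) (kf xf14 yf14 zf52) (kf xf22 yf21 zf24) (kf xf30 yf23 zf30)) (@D3.rec (fun _ => Pt) (kf xf15 yf9 zf45) (kf xf30 yf35 zf22) (kf xf27 yf39 zf40) (kf xf23 yf34 zf21) (kf xf23 yf34 zf18) (kf xf31 yf14 zf19) (kf xf14 yf14 zf56) (kf xf28 yf18 zf27) (kf xf27 yf11 zf19) (kf xf26 yf29 zf47) (kf xf24 yf29 zf54) (kf xf24 yf29 zf53) (kf xf30 yf28 zf49) (kf xf14 yf14 zf59) (kf xf27 yf34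 zf39) (kf xf30 yf54 zf3) (kf xf30 yf35 zf49) (kf xf31 yf15 zf9) (kf xf30 yf54 zf4) (kf xf31 yf15 zf14) (kf xf14 yf15 zf3) (kf xf30 yf35 zf52) (kf xf26 yf12 zf51) (kf xf24 yf54 zf3) (kf xf24 yf54 zf0) (kf xf30 yf35 zf41) (kf xf27 yf47 zf10) (kf xf23 yf34 zf15) (kf xf14 yf15 zf5) (kf xf18 yf47 zf45) (kf xf18 yf28 zf6) (kf xf30 yf35 zf44) (kf xf30 yf35 zf43) (kf xf24 yf2 zf6) (kf xf31 yf13 zf15) (kf xf14 yf15 zf8) (kf xf29 yf20 zf36) (kf xf30 yf35 zf36) (kf xf30 yf35 zf37) (kf xf18 yf33 zf14) (kf xf29 yf20 zf28) (kf xf19 yf22 zf36) (kf xf29 yf1 zf6) (kf xf14 yf15 zf11) (kf xf27 yf45 zf32) (kf xf27 yf45 zf33) (kf xf31 yf15 zf33) (kf xf19 yf15 zf33) (kf xf26 yf13 zf18) (kf xf25 yf44 zf57) (kf xf14 yf15 zf13) (kf xf26 yf15 zf58) (kf xf29 yf1 zf7) (kf xf28 yf47 zf7) (kf xf28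 yf46 zf48) (kf xf30 yf23 zf26) (kf xf30 yf23 zf25) (kf xf23 yf28 zf53) (kf xf29 yf52 zf22) (kf xf28 yf20 zf49) (kf xf19 yf51 zf41) (kf xf19 yf51 zf43)) (@D3.rec (fun _ => Pt) (kf xf19 yf50 zf18) (kf xf23 yf52 zf3) (kf xf24 yf13 zf57) (kf xf23 yf52 zf1) (kf xf19 yf21 zf25) (kf xf24 yf35 zf51) (kf xf23 yf48 zf50) (kf xf22 yf15 zf39) (kf xf22 yf15 zf38) (kf xf23 yf34 zf0) (kf xf21 yf4 zf44) (kf xf23 yf34 zf1) (kf xf24 yf5 zf5) (kf xf23 yf33 zf59) (kf xf21 yf4 zf51) (kf xf28 yf21 zf1) (kf xf22 yf22 zf19) (kf xf22 yf36 zf24) (kf xf29 yf7 zf27) (kf xf18 yf49 zf59) (kf xf14 yf15 zf38) (kf xf30 yf28 zf27) (kf xf30 yf36 zf38) (kf xf28 yf27 zf1) (kf xf29 yf30 zf13) (kf xf22 yf59 zf7) (kf xf19 yf18 zf60) (kf xf28 yf28 zf5) (kf xf21 yf2 zf39) (kf xf20 yf31 zf44) (kf xf26 yf7 zf39)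 (kf xf28 yf25 zf60) (kf xf28 yf26 zf11) (kf xf23 yf33 zf10) (kf xf29 yf30 zf24) (kf xf28 yf11 zf35) (kf xf29 yf51 zf20) (kf xf29 yf51 zf27) (kf xf20 yf42 zf20) (kf xf29 yf35 zf8) (kf xf22 yf15 zf61) (kf xf22 yf15 zf58) (kf xf22 yf16 zf2) (kf xf22 yf16 zf1) (kf xf22 yf37 zf36) (kf xf14 yf15 zf61) (kf xf29 yf35 zf38) (kf xf30 yf35 zf4) (kf xf31 yf15 zf47) (kf xf30 yf35 zf6) (kf xf30 yf18 zf54) (kf xf30 yf21 zf53) (kf xf30 yf35 zf7) (kf xf28 yf37 zf55) (kf xf29 yf54 zf46) (kf xf14 yf16 zf5) (kf xf24 yf53 zf34) (kf xf28 yf34 zf31) (kf xf28 yf14 zf53) (kf xf17 yf22 zf45) (kf xf20 yf47 zf0) (kf xf14 yf16 zf9)) (@D3.rec (fun _ => Pt) (kf xf23 yf57 zf29) (kf xf14 yf16 zf10) (kf xf18 yf57 zf18) (kf xf14 yf26 zf20) (kf xf24 yf18 zf41) (kf xf14 yf16 zf13) (kf xf21 yf47 zf15) (kf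 xf28 yf35 zf34) (kf xf30 yf6 zf56) (kf xf23 yf57 zf35) (kf xf28 yf23 zf57) (kf xf28 yf56 zf26) (kf xf27 yf21 zf37) (kf xf27 yf14 zf52) (kf xf22 yf58 zf3) (kf xf27 yf21 zf40) (kf xf28 yf35 zf46) (kf xf28 yf35 zf48) (kf xf31 yf15 zf58) (kf xf27 yf59 zf39) (kf xf29 yf27 zf59) (kf xf14 yf16 zf23) (kf xf31 yf15 zf61) (kf xf22 yf16 zf60) (kf xf30 yf27 zf37) (kf xf30 yf49 zf25) (kf xf24 yf13 zf59) (kf xf28 yf39 zf10) (kf xf29 yf8 zf44) (kf xf26 yf45 zf0) (kf xf14 yf16 zf28) (kf xf26 yf53 zf10) (kf xf28 yf25 zf58) (kf xf29 yf24 zf37) (kf xf14 yf16 zf30) (kf xf28 yf51 zf0) (kf xf30 yf49 zf28) (kf xf28 yf32 zf52) (kf xf28 yf35 zf57) (kf xf28 yf45 zf55) (kf xf19 yf51 zf33) (kf xf19 yf51 zf38) (kf xf23 yf0 zf22) (kf xf27 yf59 zf43) (kf xf30 yf49 zf29) (kf xf14 yf16 zf35) (kf xf19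 yf41 zf43) (kf xf19 yf41 zf44) (kf xf16 yf46 zf35) (kf xf28 yf14 zf50) (kf xf28 yf25 zf59) (kf xf18 yf55 zf4) (kf xf22 yf12 zf46) (kf xf29 yf26 zf1) (kf xf27 yf54 zf54) (kf xf27 yf53 zf20) (kf xf30 yf57 zf4) (kf xf21 yf41 zf57) (kf xf24 yf8 zf9) (kf xf24 yf8 zf10) (kf xf30 yf57 zf6) (kf xf28 yf25 zf23)) (@D3.rec (fun _ => Pt) (kf xf27 yf23 zf16) (kf xf29 yf30 zf44) (kf xf27 yf23 zf15) (kf xf30 yf8 zf14) (kf xf18 yf37 zf9) (kf xf24 yf19 zf59) (kf xf21 yf41 zf55) (kf xf26 yf4 zf15) (kf xf24 yf20 zf2) (kf xf28 yf23 zf6) (kf xf30 yf36 zf58) (kf xf14 yf16 zf58) (kf xf28 yf25 zf22) (kf xf28 yf6 zf50) (kf xf23 yf55 zf29) (kf xf31 yf16 zf24) (kf xf30 yf34 zf43) (kf xf30 yf34 zf42) (kf xf14 yf17 zf0) (kf xf28 yf23 zf36) (kf xf31 yf16 zf28) (kf xf23 yf0 zf24) (kf xf24 yf4 zf45)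 (kf xf14 yf17 zf2) (kf xf30 yf31 zf12) (kf xf31 yf16 zf33) (kf xf22 yf16 zf23) (kf xf30 yf30 zf53) (kf xf30 yf18 zf32) (kf xf30 yf34 zf48) (kf xf30 yf34 zf49) (kf xf30 yf34 zf50) (kf xf28 yf7 zf14) (kf xf31 yf16 zf32) (kf xf31 yf16 zf31) (kf xf14 yf17 zf7) (kf xf14 yf48 zf18) (kf xf14 yf24 zf45) (kf xf25 yf47 zf43) (kf xf16 yf59 zf48) (kf xf30 yf32 zf59) (kf xf27 yf15 zf30) (kf xf30 yf32 zf60) (kf xf29 yf16 zf4) (kf xf29 yf42 zf11) (kf xf24 yf5 zf35) (kf xf30 yf33 zf1) (kf xf29 yf42 zf9) (kf xf30 yf33 zf3) (kf xf30 yf33 zf4) (kf xf29 yf15 zf56) (kf xf18 yf57 zf48) (kf xf31 yf16 zf48) (kf xf14 yf17 zf19) (kf xf23 yf55 zf19) (kf xf29 yf55 zf7) (kf xf30 yf34 zf56) (kf xf28 yf9 zf9) (kf xf30 yf34 zf57) (kf xf30 yf34 zf58) (kf xf18 yf48 zf58) (kf xf30 yf49 zf32)) (@D3.rec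 (fun _ => Pt) (kf xf30 yf34 zf53) (kf xf29 yf19 zf54) (kf xf28 yf22 zf41) (kf xf30 yf34 zf54) (kf xf31 yf17 zf0) (kf xf25 yf56 zf28) (kf xf25 yf56 zf30) (kf xf14 yf17 zf30) (kf xf30 yf34 zf59) (kf xf24 yf27 zf8) (kf xf25 yf59 zf22) (kf xf14 yf27 zf24) (kf xf14 yf27 zf23) (kf xf31 yf17 zf3) (kf xf14 yf17 zf33) (kf xf23 yf5 zf50) (kf xf30 yf12 zf53) (kf xf23 yf48 zf48) (kf xf30 yf39 zf9) (kf xf23 yf54 zf54) (kf xf20 yf55 zf11) (kf xf17 yf18 zf22) (kf xf14 yf17 zf43) (kf xf21 yf40 zf19) (kf xf21 yf40 zf20) (kf xf14 yf26 zf10) (kf xf21 yf40 zf16) (kf xf20 yf17 zf34) (kf xf14 yf24 zf3) (kf xf23 yf54 zf14) (kf xf14 yf23 zf56) (kf xf14 yf24 zf8) (kf xf25 yf47 zf44) (kf xf14 yf22 zf40) (kf xf14 yf23 zf50) (kf xf14 yf23 zf51) (kf xf14 yf23 zf52) (kf xf18 yf57 zf45) (kf xf14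 yf23 zf58) (kf xf23 yf10 zf53) (kf xf21 yf52 zf51) (kf xf14 yf17 zf54) (kf xf14 yf24 zf16) (kf xf28 yf57 zf5) (kf xf14 yf24 zf46) (kf xf14 yf24 zf49) (kf xf14 yf25 zf3) (kf xf31 yf17 zf16) (kf xf14 yf25 zf0) (kf xf14 yf24 zf61) (kf xf14 yf17 zf61) (kf xf14 yf24 zf56) (kf xf14 yf24 zf57) (kf xf31 yf17 zf20) (kf xf14 yf25 zf8) (kf xf14 yf18 zf1) (kf xf14 yf25 zf12) (kf xf31 yf17 zf22) (kf xf14 yf25 zf17) (kf xf30 yf19 zf36) (kf xf14 yf25 zf27) (kf xf14 yf25 zf26)) (@D3.rec (fun _ => Pt) (kf xf14 yf18 zf4) (kf xf16 yf43 zf21) (kf xf16 yf46 zf40) (kf xf23 yf57 zf43) (kf xf16 yf43 zf20) (kf xf28 yf17 zf45) (kf xf22 yf54 zf55) (kf xf14 yf22 zf38) (kf xf14 yf26 zf54) (kf xf14 yf26 zf56) (kf xf23 yf50 zf8) (kf xf14 yf26 zf48) (kf xf14 yf26 zf61) (kf xf28 yf17 zf43) (kf xf14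 yf26 zf49) (kf xf23 yf49 zf28) (kf xf31 yf17 zf30) (kf xf14 yf27 zf11) (kf xf14 yf27 zf10) (kf xf14 yf18 zf16) (kf xf14 yf22 zf39) (kf xf14 yf27 zf28) (kf xf25 yf12 zf6) (kf xf14 yf27 zf37) (kf xf14 yf27 zf36) (kf xf14 yf18 zf24) (kf xf14 yf27 zf44) (kf xf14 yf27 zf43) (kf xf28 yf47 zf18) (kf xf14 yf27 zf50) (kf xf14 yf18 zf28) (kf xf30 yf15 zf48) (kf xf14 yf51 zf16) (kf xf27 yf44 zf4) (kf xf28 yf41 zf56) (kf xf17 yf58 zf39) (kf xf28 yf42 zf16) (kf xf28 yf30 zf33) (kf xf24 yf12 zf25) (kf xf26 yf31 zf37) (kf xf14 yf30 zf7) (kf xf23 yf12 zf32) (kf xf14 yf30 zf1) (kf xf14 yf30 zf3) (kf xf23 yf11 zf8) (kf xf22 yf38 zf46) (kf xf14 yf30 zf11) (kf xf26 yf15 zf54) (kf xf19 yf36 zf16) (kf xf30 yf9 zf23) (kf xf14 yf18 zf51) (kf xf24 yf5 zf38) (kf xf20 yf57 zf39) (kf xf24 yf42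 zf54) (kf xf24 yf1 zf9) (kf xf22 yf58 zf38) (kf xf14 yf19 zf0) (kf xf30 yf49 zf7) (kf xf30 yf49 zf8) (kf xf27 yf14 zf30) (kf xf14 yf38 zf23) (kf xf24 yf35 zf7)) (@D3.rec (fun _ => Pt) (kf xf14 yf38 zf24) (kf xf30 yf49 zf9) (kf xf27 yf14 zf27) (kf xf30 yf49 zf10) (kf xf31 yf17 zf49) (kf xf29 yf55 zf42) (kf xf30 yf36 zf9) (kf xf24 yf25 zf11) (kf xf14 yf31 zf37) (kf xf14 yf31 zf38) (kf xf24 yf18 zf22) (kf xf14 yf31 zf40) (kf xf30 yf19 zf51) (kf xf14 yf29 zf59) (kf xf14 yf31 zf33) (kf xf14 yf31 zf45) (kf xf30 yf51 zf10) (kf xf14 yf31 zf52) (kf xf14 yf19 zf19) (kf xf31 yf7 zf31) (kf xf17 yf22 zf49) (kf xf24 yf25 zf59) (kf xf24 yf4 zf31) (kf xf19 yf30 zf57) (kf xf24 yf11 zf30) (kf xf14 yf19 zf28) (kf xf19 yf12 zf18) (kf xf14 yf19 zf30) (kf xf22 yf23 zf15) (kf xf23 yf53 zf0)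 (kf xf19 yf13 zf27) (kf xf29 yf55 zf45) (kf xf31 yf18 zf0) (kf xf14 yf19 zf33) (kf xf30 yf53 zf61) (kf xf23 yf53 zf9) (kf xf14 yf19 zf36) (kf xf22 yf22 zf40) (kf xf14 yf31 zf8) (kf xf24 yf28 zf31) (kf xf22 yf22 zf45) (kf xf14 yf31 zf17) (kf xf14 yf19 zf39) (kf xf23 yf56 zf3) (kf xf19 yf30 zf55) (kf xf24 yf13 zf55) (kf xf14 yf19 zf42) (kf xf14 yf19 zf45) (kf xf22 yf22 zf60) (kf xf30 yf26 zf21) (kf xf31 yf12 zf27) (kf xf30 yf26 zf44) (kf xf14 yf19 zf48) (kf xf28 yf55 zf33) (kf xf14 yf20 zf15) (kf xf14 yf20 zf22) (kf xf14 yf20 zf21) (kf xf20 yf50 zf61) (kf xf24 yf8 zf19) (kf xf14 yf20 zf40) (kf xf14 yf20 zf37) (kf xf19 yf32 zf38)) (@D3.rec (fun _ => Pt) (kf xf21 yf37 zf39) (kf xf25 yf23 zf61) (kf xf14 yf20 zf2) (kf xf17 yf23 zf25) (kf xf14 yf20 zf6) (kf xf25 yf18 zf28)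 (kf xf25 yf16 zf12) (kf xf17 yf22 zf48) (kf xf17 yf22 zf44) (kf xf24 yf10 zf59) (kf xf20 yf47 zf1) (kf xf27 yf2 zf18) (kf xf29 yf0 zf31) (kf xf20 yf26 zf29) (kf xf14 yf28 zf52) (kf xf24 yf41 zf11) (kf xf24 yf42 zf24) (kf xf14 yf38 zf17) (kf xf29 yf7 zf29) (kf xf24 yf27 zf16) (kf xf30 yf6 zf59) (kf xf21 yf9 zf9) (kf xf14 yf20 zf28) (kf xf14 yf30 zf36) (kf xf22 yf14 zf58) (kf xf31 yf10 zf47) (kf xf24 yf1 zf25) (kf xf28 yf13 zf5) (kf xf27 yf10 zf36) (kf xf31 yf18 zf1) (kf xf24 yf5 zf48) (kf xf19 yf12 zf24) (kf xf17 yf1 zf35) (kf xf14 yf39 zf40) (kf xf26 yf42 zf33) (kf xf31 yf18 zf15) (kf xf14 yf20 zf42) (kf xf26 yf58 zf28) (kf xf16 yf58 zf35) (kf xf14 yf35 zf29) (kf xf14 yf36 zf45) (kf xf14 yf36 zf47) (kf xf14 yf37 zf6) (kf xf14 yf36 zf52) (kf xf14 yf36 zf51) (kf xf14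 yf20 zf50) (kf xf14 yf35 zf41) (kf xf14 yf36 zf27) (kf xf14 yf36 zf35) (kf xf14 yf36 zf39) (kf xf14 yf47 zf51) (kf xf21 yf47 zf43) (kf xf14 yf36 zf48) (kf xf14 yf36 zf49) (kf xf24 yf27 zf27) (kf xf14 yf21 zf18) (kf xf24 yf5 zf17) (kf xf14 yf20 zf60) (kf xf20 yf3 zf35) (kf xf14 yf37 zf18) (kf xf14 yf37 zf27) (kf xf14 yf37 zf24)) (@D3.rec (fun _ => Pt) (kf xf14 yf37 zf14) (kf xf26 yf51 zf13) (kf xf14 yf37 zf19) (kf xf14 yf37 zf20) (kf xf14 yf37 zf31) (kf xf14 yf21 zf7) (kf xf14 yf37 zf36) (kf xf14 yf37 zf37) (kf xf25 yf39 zf31) (kf xf14 yf37 zf33) (kf xf14 yf37 zf34) (kf xf24 yf37 zf42) (kf xf20 yf40 zf9) (kf xf19 yf56 zf19) (kf xf25 yf37 zf45) (kf xf14 yf21 zf10) (kf xf14 yf37 zf44) (kf xf14 yf36 zf18) (kf xf14 yf21 zf11) (kf xf31 yf18 zf18) (kf xf14 yf34 zf0) (kf xf14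 yf38 zf43) (kf xf14 yf34 zf21) (kf xf19 yf4 zf2) (kf xf14 yf21 zf31) (kf xf18 yf1 zf3) (kf xf14 yf39 zf35) (kf xf14 yf39 zf34) (kf xf29 yf58 zf26) (kf xf14 yf21 zf33) (kf xf14 yf39 zf41) (kf xf14 yf39 zf42) (kf xf14 yf34 zf29) (kf xf14 yf39 zf38) (kf xf14 yf39 zf54) (kf xf14 yf39 zf55) (kf xf26 yf9 zf33) (kf xf14 yf21 zf38) (kf xf14 yf39 zf49) (kf xf31 yf18 zf36) (kf xf29 yf58 zf7) (kf xf14 yf21 zf40) (kf xf14 yf40 zf23) (kf xf14 yf40 zf20) (kf xf14 yf22 zf61) (kf xf14 yf23 zf2) (kf xf14 yf23 zf3) (kf xf28 yf39 zf60) (kf xf14 yf41 zf36) (kf xf14 yf41 zf35) (kf xf14 yf43 zf15) (kf xf14 yf43 zf18) (kf xf31 yf18 zf43) (kf xf14 yf43 zf21) (kf xf14 yf43 zf23) (kf xf14 yf43 zf25) (kf xf14 yf43 zf26) (kf xf19 yf51 zf21) (kf xf19 yf20 zf0) (kf xf14 yf42 zf10) (kf xf31 yf18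 zf51) (kf xf14 yf42 zf7))
def f_f_24 : D2 → D3 → Pt := @D2.rec (fun _ => D3 → Pt) (@D3.rec (fun _ => Pt) (kf xf14 yf42 zf6) (kf xf14 yf21 zf59) (kf xf14 yf42 zf1) (kf xf14 yf42 zf2) (kf xf31 yf18 zf58) (kf xf14 yf42 zf15) (kf xf14 yf21 zf61) (kf xf14 yf43 zf35) (kf xf14 yf43 zf36) (kf xf25 yf58 zf20) (kf xf14 yf42 zf27) (kf xf31 yf14 zf13) (kf xf14 yf42 zf23) (kf xf24 yf34 zf43) (kf xf14 yf41 zf41) (kf xf14 yf41 zf44) (kf xf14 yf41 zf47) (kf xf31 yf19 zf0) (kf xf14 yf41 zf50) (kf xf14 yf41 zf51) (kf xf14 yf41 zf52) (kf xf14 yf41 zf53) (kf xf14 yf42 zf18) (kf xf14 yf42 zf19) (kf xf27 yf44 zf43) (kf xf28 yf43 zf59) (kf xf24 yf7 zf36) (kf xf14 yf43 zf47) (kf xf14 yf43 zf46) (kf xf14 yf34 zf23) (kf xf30 yf39 zf10) (kf xf14 yf22 zf20) (kf xf22 yf24 zf28) (kf xf16 yf25 zf21)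 (kf xf25 yf47 zf37) (kf xf30 yf48 zf46) (kf xf18 yf47 zf33) (kf xf19 yf37 zf34) (kf xf17 yf24 zf4) (kf xf19 yf37 zf20) (kf xf25 yf55 zf57) (kf xf14 yf22 zf32) (kf xf20 yf37 zf21) (kf xf14 yf22 zf35) (kf xf14 yf51 zf20) (kf xf24 yf8 zf47) (kf xf14 yf52 zf16) (kf xf14 yf52 zf15) (kf xf14 yf22 zf37) (kf xf27 yf16 zf40) (kf xf30 yf43 zf8) (kf xf29 yf47 zf9) (kf xf30 yf48 zf37) (kf xf14 yf22 zf50) (kf xf14 yf22 zf47) (kf xf14 yf22 zf52) (kf xf14 yf22 zf44) (kf xf21 yf13 zf54) (kf xf22 yf27 zf19) (kf xf19 yf54 zf56) (kf xf31 yf19 zf28) (kf xf22 yf33 zf16)) (@D3.rec (fun _ => Pt) (kf xf31 yf19 zf31) (kf xf26 yf57 zf22) (kf xf20 yf56 zf34) (kf xf31 yf19 zf35) (kf xf20 yf56 zf33) (kf xf28 yf54 zf32) (kf xf31 yf14 zf5) (kf xf30 yf11 zf40) (kf xf22 yf23 zf47) (kf xf23 yf56 zf54)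 (kf xf14 yf22 zf56) (kf xf30 yf29 zf60) (kf xf30 yf25 zf28) (kf xf20 yf11 zf50) (kf xf14 yf22 zf57) (kf xf31 yf14 zf8) (kf xf30 yf39 zf7) (kf xf30 yf16 zf25) (kf xf31 yf18 zf37) (kf xf14 yf53 zf15) (kf xf19 yf4 zf53) (kf xf31 yf0 zf33) (kf xf27 yf23 zf45) (kf xf15 yf28 zf4) (kf xf25 yf20 zf24) (kf xf23 yf58 zf26) (kf xf24 yf22 zf61) (kf xf29 yf18 zf2) (kf xf24 yf22 zf59) (kf xf24 yf22 zf60) (kf xf22 yf21 zf10) (kf xf27 yf18 zf57) (kf xf28 yf26 zf42) (kf xf24 yf17 zf6) (kf xf29 yf31 zf21) (kf xf21 yf39 zf61) (kf xf17 yf51 zf14) (kf xf30 yf26 zf14) (kf xf14 yf48 zf19) (kf xf19 yf56 zf58) (kf xf22 yf56 zf16) (kf xf19 yf21 zf59) (kf xf28 yf48 zf38) (kf xf29 yf2 zf10) (kf xf19 yf52 zf13) (kf xf23 yf45 zf36) (kf xf27 yf6 zf59) (kf xf14 yf23 zf22) (kf xf26 yf45 zf7) (kf xf25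 yf46 zf54) (kf xf20 yf59 zf59) (kf xf27 yf6 zf61) (kf xf14 yf23 zf30) (kf xf31 yf19 zf57) (kf xf14 yf23 zf28) (kf xf31 yf16 zf15) (kf xf27 yf59 zf57) (kf xf30 yf7 zf35) (kf xf31 yf14 zf17) (kf xf31 yf19 zf55) (kf xf31 yf19 zf54) (kf xf31 yf20 zf5)) (@D3.rec (fun _ => Pt) (kf xf14 yf23 zf32) (kf xf20 yf42 zf42) (kf xf29 yf41 zf6) (kf xf23 yf48 zf25) (kf xf31 yf20 zf7) (kf xf23 yf48 zf23) (kf xf23 yf51 zf33) (kf xf20 yf42 zf44) (kf xf22 yf37 zf38) (kf xf30 yf48 zf45) (kf xf22 yf37 zf37) (kf xf22 yf35 zf26) (kf xf31 yf20 zf11) (kf xf30 yf40 zf2) (kf xf14 yf23 zf41) (kf xf22 yf33 zf22) (kf xf25 yf18 zf37) (kf xf17 yf19 zf6) (kf xf31 yf9 zf2) (kf xf23 yf47 zf42) (kf xf24 yf14 zf24) (kf xf31 yf17 zf8) (kf xf29 yf52 zf33) (kf xf30 yf8 zf31) (kf xf29 yf46 zf31) (kf xf31 yf20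 zf22) (kf xf21 yf45 zf28) (kf xf21 yf47 zf49) (kf xf14 yf37 zf4) (kf xf21 yf47 zf51) (kf xf16 yf14 zf6) (kf xf20 yf46 zf5) (kf xf31 yf13 zf19) (kf xf24 yf27 zf32) (kf xf28 yf56 zf51) (kf xf14 yf37 zf11) (kf xf22 yf1 zf53) (kf xf24 yf11 zf26) (kf xf30 yf56 zf31) (kf xf14 yf23 zf59) (kf xf20 yf27 zf18) (kf xf22 yf21 zf28) (kf xf22 yf21 zf29) (kf xf29 yf30 zf36) (kf xf28 yf55 zf60) (kf xf20 yf46 zf17) (kf xf29 yf6 zf5) (kf xf31 yf17 zf5) (kf xf31 yf20 zf41) (kf xf20 yf43 zf1) (kf xf29 yf26 zf19) (kf xf30 yf31 zf10) (kf xf14 yf24 zf4) (kf xf21 yf47 zf44) (kf xf16 yf14 zf10) (kf xf21 yf45 zf43) (kf xf24 yf54 zf25) (kf xf14 yf24 zf7) (kf xf31 yf17 zf7) (kf xf24 yf11 zf25) (kf xf30 yf55 zf3) (kf xf24 yf30 zf26)) (@D3.rec (fun _ => Pt) (kf xf14 yf24 zf9) (kf xf30 yf11 zf43)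 (kf xf14 yf24 zf11) (kf xf24 yf11 zf21) (kf xf25 yf51 zf20) (kf xf22 yf21 zf30) (kf xf29 yf47 zf29) (kf xf31 yf20 zf50) (kf xf24 yf11 zf18) (kf xf31 yf20 zf53) (kf xf14 yf24 zf18) (kf xf28 yf57 zf12) (kf xf28 yf57 zf13) (kf xf28 yf57 zf15) (kf xf28 yf57 zf16) (kf xf25 yf25 zf44) (kf xf28 yf57 zf17) (kf xf28 yf57 zf18) (kf xf28 yf57 zf19) (kf xf16 yf30 zf9) (kf xf30 yf45 zf11) (kf xf29 yf44 zf18) (kf xf31 yf20 zf61) (kf xf27 yf0 zf22) (kf xf22 yf21 zf57) (kf xf21 yf1 zf25) (kf xf22 yf4 zf21) (kf xf29 yf34 zf48) (kf xf30 yf48 zf40) (kf xf16 yf40 zf42) (kf xf29 yf1 zf12) (kf xf31 yf20 zf60) (kf xf14 yf24 zf28) (kf xf15 yf31 zf23) (kf xf28 yf58 zf3) (kf xf24 yf5 zf6) (kf xf24 yf5 zf4) (kf xf26 yf11 zf4) (kf xf14 yf24 zf34) (kf xf24 yf34 zf57) (kf xf22 yf21 zf8) (kf xf22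 yf21 zf25) (kf xf14 yf47 zf2) (kf xf22 yf21 zf32) (kf xf31 yf21 zf13) (kf xf14 yf28 zf37) (kf xf14 yf47 zf5) (kf xf26 yf9 zf54) (kf xf30 yf40 zf0) (kf xf31 yf20 zf39) (kf xf31 yf16 zf45) (kf xf25 yf47 zf3) (kf xf20 yf1 zf46) (kf xf31 yf17 zf10) (kf xf31 yf17 zf11) (kf xf31 yf17 zf12) (kf xf31 yf21 zf31) (kf xf30 yf9 zf3) (kf xf31 yf21 zf12) (kf xf31 yf21 zf37) (kf xf14 yf24 zf47) (kf xf30 yf31 zf32)) (@D3.rec (fun _ => Pt) (kf xf25 yf26 zf6) (kf xf25 yf26 zf8) (kf xf31 yf21 zf39) (kf xf24 yf5 zf19) (kf xf24 yf5 zf15) (kf xf14 yf24 zf50) (kf xf20 yf53 zf3) (kf xf28 yf52 zf9) (kf xf30 yf39 zf28) (kf xf14 yf24 zf53) (kf xf30 yf39 zf30) (kf xf24 yf14 zf43) (kf xf31 yf21 zf45) (kf xf19 yf34 zf39) (kf xf24 yf11 zf48) (kf xf31 yf17 zf18) (kf xf26 yf40 zf57) (kf xf31 yf21 zf44)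 (kf xf31 yf21 zf43) (kf xf14 yf24 zf58) (kf xf24 yf11 zf46) (kf xf24 yf11 zf47) (kf xf31 yf21 zf55) (kf xf24 yf11 zf37) (kf xf19 yf15 zf43) (kf xf31 yf21 zf58) (kf xf14 yf24 zf60) (kf xf24 yf26 zf16) (kf xf29 yf1 zf17) (kf xf22 yf21 zf34) (kf xf31 yf21 zf60) (kf xf23 yf57 zf22) (kf xf24 yf11 zf42) (kf xf31 yf17 zf13) (kf xf25 yf20 zf32) (kf xf27 yf43 zf9) (kf xf29 yf13 zf31) (kf xf14 yf25 zf4) (kf xf24 yf11 zf39) (kf xf24 yf11 zf41) (kf xf31 yf9 zf50) (kf xf23 yf11 zf28) (kf xf23 yf11 zf24) (kf xf31 yf9 zf49) (kf xf14 yf25 zf6) (kf xf23 yf54 zf22) (kf xf26 yf51 zf33) (kf xf15 yf56 zf31) (kf xf30 yf17 zf56) (kf xf30 yf56 zf43) (kf xf30 yf56 zf42) (kf xf30 yf28 zf41) (kf xf30 yf28 zf39) (kf xf14 yf25 zf13) (kf xf25 yf51 zf56) (kf xf20 yf50 zf11) (kf xf30 yf16 zf36) (kf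 xf14 yf30 zf8) (kf xf14 yf25 zf16) (kf xf23 yf9 zf37) (kf xf23 yf9 zf39) (kf xf20 yf53 zf52)) (@D3.rec (fun _ => Pt) (kf xf19 yf20 zf1) (kf xf26 yf11 zf8) (kf xf14 yf25 zf18) (kf xf15 yf54 zf23) (kf xf24 yf3 zf36) (kf xf23 yf52 zf12) (kf xf24 yf3 zf35) (kf xf21 yf14 zf48) (kf xf23 yf13 zf42) (kf xf23 yf13 zf44) (kf xf20 yf53 zf51) (kf xf20 yf53 zf50) (kf xf17 yf22 zf14) (kf xf14 yf25 zf25) (kf xf31 yf17 zf23) (kf xf24 yf4 zf4) (kf xf22 yf37 zf34) (kf xf23 yf58 zf56) (kf xf28 yf42 zf2) (kf xf24 yf4 zf3) (kf xf31 yf15 zf43) (kf xf30 yf38 zf0) (kf xf30 yf37 zf46) (kf xf14 yf25 zf28) (kf xf24 yf40 zf40) (kf xf28 yf27 zf47) (kf xf17 yf1 zf39) (kf xf30 yf55 zf25) (kf xf29 yf54 zf40) (kf xf30 yf55 zf26) (kf xf30 yf55 zf46) (kf xf26 yf24 zf36) (kf xf29 yf24 zf9) (kf xf30 yf44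 zf4) (kf xf20 yf32 zf50) (kf xf23 yf54 zf45) (kf xf30 yf46 zf42) (kf xf20 yf50 zf31) (kf xf23 yf56 zf51) (kf xf25 yf59 zf30) (kf xf25 yf59 zf31) (kf xf30 yf47 zf42) (kf xf15 yf59 zf22) (kf xf30 yf55 zf28) (kf xf21 yf14 zf25) (kf xf22 yf34 zf54) (kf xf30 yf39 zf13) (kf xf28 yf32 zf21) (kf xf23 yf58 zf30) (kf xf30 yf27 zf51) (kf xf22 yf17 zf34) (kf xf29 yf55 zf54) (kf xf31 yf22 zf31) (kf xf30 yf15 zf22) (kf xf20 yf48 zf46) (kf xf14 yf25 zf56) (kf xf24 yf11 zf32) (kf xf14 yf26 zf11) (kf xf14 yf26 zf17) (kf xf21 yf3 zf53) (kf xf26 yf43 zf35) (kf xf14 yf26 zf25)) (@D3.rec (fun _ => Pt) (kf xf14 yf26 zf27) (kf xf28 yf56 zf21) (kf xf30 yf52 zf60) (kf xf14 yf26 zf38) (kf xf14 yf26 zf37) (kf xf25 yf56 zf43) (kf xf28 yf53 zf44) (kf xf20 yf41 zf47) (kf xf20 yf41 zf48) (kf xf20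 yf41 zf49) (kf xf17 yf17 zf32) (kf xf26 yf52 zf56) (kf xf21 yf40 zf21) (kf xf31 yf13 zf17) (kf xf21 yf16 zf9) (kf xf27 yf10 zf31) (kf xf31 yf22 zf44) (kf xf20 yf42 zf43) (kf xf14 yf26 zf16) (kf xf21 yf3 zf52) (kf xf27 yf21 zf23) (kf xf30 yf56 zf27) (kf xf28 yf23 zf61) (kf xf28 yf56 zf19) (kf xf14 yf26 zf22) (kf xf22 yf19 zf53) (kf xf22 yf20 zf35) (kf xf22 yf20 zf34) (kf xf31 yf22 zf34) (kf xf23 yf0 zf19) (kf xf30 yf46 zf29) (kf xf28 yf52 zf59) (kf xf28 yf22 zf58) (kf xf30 yf46 zf30) (kf xf30 yf46 zf44) (kf xf30 yf46 zf31) (kf xf14 yf26 zf28) (kf xf27 yf59 zf2) (kf xf30 yf18 zf61) (kf xf21 yf15 zf58) (kf xf31 yf22 zf35) (kf xf14 yf26 zf30) (kf xf22 yf21 zf23) (kf xf30 yf43 zf61) (kf xf22 yf58 zf2) (kf xf22 yf58 zf4) (kf xf30 yf53 zf0) (kf xf30 yf53 zf1) (kf xf30 yf31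 zf21) (kf xf31 yf22 zf39) (kf xf26 yf56 zf24) (kf xf31 yf22 zf36) (kf xf31 yf22 zf37) (kf xf30 yf46 zf46) (kf xf22 yf59 zf3) (kf xf22 yf59 zf14) (kf xf31 yf23 zf9) (kf xf14 yf26 zf39) (kf xf31 yf22 zf41) (kf xf29 yf27 zf5) (kf xf30 yf46 zf43) (kf xf30 yf20 zf48)) (@D3.rec (fun _ => Pt) (kf xf14 yf26 zf40) (kf xf17 yf3 zf27) (kf xf28 yf45 zf9) (kf xf28 yf34 zf46) (kf xf18 yf21 zf25) (kf xf18 yf21 zf23) (kf xf14 yf26 zf44) (kf xf21 yf45 zf51) (kf xf21 yf45 zf50) (kf xf21 yf45 zf56) (kf xf22 yf9 zf58) (kf xf21 yf45 zf46) (kf xf27 yf21 zf29) (kf xf28 yf52 zf34) (kf xf31 yf17 zf28) (kf xf24 yf13 zf32) (kf xf26 yf7 zf1) (kf xf29 yf51 zf0) (kf xf14 yf26 zf50) (kf xf23 yf47 zf43) (kf xf23 yf47 zf44) (kf xf31 yf17 zf25) (kf xf18 yf57 zf49) (kf xf21 yf45 zf47) (kf xf18 yf38 zf2)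 (kf xf28 yf35 zf52) (kf xf30 yf8 zf29) (kf xf28 yf12 zf15) (kf xf28 yf35 zf24) (kf xf24 yf29 zf25) (kf xf14 yf26 zf57) (kf xf21 yf45 zf48) (kf xf21 yf45 zf52) (kf xf28 yf43 zf0) (kf xf30 yf33 zf47) (kf xf24 yf23 zf10) (kf xf24 yf0 zf26) (kf xf26 yf26 zf35) (kf xf18 yf59 zf41) (kf xf24 yf13 zf42) (kf xf31 yf23 zf21) (kf xf27 yf16 zf55) (kf xf31 yf17 zf29) (kf xf22 yf41 zf53) (kf xf14 yf27 zf6) (kf xf31 yf23 zf24) (kf xf14 yf27 zf9) (kf xf29 yf47 zf41) (kf xf15 yf40 zf45) (kf xf24 yf17 zf0) (kf xf24 yf16 zf58) (kf xf15 yf40 zf43) (kf xf27 yf21 zf51) (kf xf27 yf21 zf50) (kf xf14 yf27 zf12) (kf xf15 yf17 zf11) (kf xf25 yf6 zf50) (kf xf14 yf27 zf13) (kf xf29 yf20 zf1) (kf xf28 yf24 zf26) (kf xf28 yf58 zf60) (kf xf28 yf36 zf29)) (@D3.rec (fun _ => Pt) (kf xf14 yf27 zf19)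 (kf xf22 yf53 zf30) (kf xf28 yf32 zf55) (kf xf22 yf53 zf55) (kf xf22 yf57 zf31) (kf xf22 yf57 zf27) (kf xf25 yf54 zf24) (kf xf14 yf27 zf22) (kf xf15 yf52 zf1) (kf xf23 yf53 zf58) (kf xf23 yf53 zf59) (kf xf19 yf40 zf56) (kf xf21 yf14 zf39) (kf xf28 yf0 zf17) (kf xf29 yf19 zf57) (kf xf29 yf32 zf17) (kf xf29 yf54 zf41) (kf xf29 yf32 zf8) (kf xf14 yf27 zf32) (kf xf23 yf57 zf58) (kf xf24 yf9 zf11) (kf xf29 yf49 zf22) (kf xf14 yf27 zf35) (kf xf21 yf15 zf57) (kf xf29 yf32 zf9) (kf xf14 yf28 zf29) (kf xf30 yf48 zf59) (kf xf14 yf27 zf41) (kf xf24 yf13 zf50) (kf xf24 yf13 zf48) (kf xf14 yf27 zf42) (kf xf25 yf59 zf44) (kf xf31 yf17 zf32) (kf xf24 yf37 zf38) (kf xf29 yf53 zf35) (kf xf31 yf17 zf2) (kf xf30 yf8 zf16) (kf xf14 yf27 zf45) (kf xf29 yf31 zf11) (kf xf28 yf46 zf35) (kf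 xf29 yf32 zf26) (kf xf14 yf27 zf49) (kf xf30 yf38 zf56) (kf xf22 yf9 zf48) (kf xf25 yf35 zf42) (kf xf22 yf54 zf50) (kf xf22 yf53 zf23) (kf xf24 yf0 zf45) (kf xf25 yf35 zf39) (kf xf14 yf27 zf61) (kf xf22 yf54 zf44) (kf xf22 yf55 zf58) (kf xf29 yf42 zf18) (kf xf14 yf27 zf59) (kf xf23 yf2 zf15) (kf xf28 yf57 zf6) (kf xf28 yf50 zf54) (kf xf24 yf14 zf16) (kf xf28 yf34 zf55) (kf xf24 yf14 zf15) (kf xf31 yf3 zf49) (kf xf26 yf27 zf53)) (@D3.rec (fun _ => Pt) (kf xf30 yf43 zf49) (kf xf27 yf16 zf38) (kf xf21 yf13 zf49) (kf xf30 yf43 zf50) (kf xf28 yf35 zf43) (kf xf29 yf40 zf54) (kf xf29 yf37 zf4) (kf xf29 yf29 zf27) (kf xf29 yf54 zf59) (kf xf14 yf28 zf7) (kf xf24 yf39 zf7) (kf xf24 yf8 zf20) (kf xf24 yf21 zf35) (kf xf24 yf39 zf5) (kf xf15 yf21 zf26) (kf xf22 yf53 zf22) (kf xf22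 yf53 zf21) (kf xf14 yf28 zf11) (kf xf22 yf53 zf19) (kf xf29 yf0 zf40) (kf xf22 yf47 zf43) (kf xf14 yf28 zf14) (kf xf22 yf55 zf52) (kf xf22 yf55 zf51) (kf xf14 yf28 zf17) (kf xf23 yf3 zf39) (kf xf22 yf55 zf56) (kf xf21 yf12 zf3) (kf xf14 yf28 zf21) (kf xf23 yf11 zf10) (kf xf14 yf28 zf24) (kf xf22 yf56 zf40) (kf xf30 yf30 zf3) (kf xf28 yf34 zf60) (kf xf14 yf28 zf30) (kf xf28 yf26 zf29) (kf xf20 yf36 zf38) (kf xf22 yf54 zf37) (kf xf24 yf31 zf3) (kf xf26 yf29 zf38) (kf xf22 yf54 zf36) (kf xf28 yf12 zf12) (kf xf14 yf28 zf35) (kf xf18 yf21 zf57) (kf xf25 yf5 zf26) (kf xf14 yf28 zf38) (kf xf21 yf40 zf50) (kf xf24 yf37 zf21) (kf xf21 yf40 zf51) (kf xf24 yf43 zf6) (kf xf26 yf0 zf27) (kf xf30 yf11 zf54) (kf xf30 yf29 zf48) (kf xf14 yf28 zf44) (kf xf29 yf40 zf23) (kf xf31 yf15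 zf1) (kf xf22 yf35 zf25) (kf xf14 yf40 zf59) (kf xf22 yf40 zf59) (kf xf30 yf28 zf5) (kf xf25 yf56 zf24) (kf xf14 yf28 zf49)) (@D3.rec (fun _ => Pt) (kf xf19 yf13 zf2) (kf xf29 yf50 zf18) (kf xf31 yf18 zf11) (kf xf21 yf34 zf25) (kf xf24 yf42 zf30) (kf xf14 yf29 zf21) (kf xf14 yf29 zf24) (kf xf14 yf29 zf36) (kf xf14 yf29 zf38) (kf xf14 yf29 zf28) (kf xf30 yf44 zf2) (kf xf14 yf29 zf31) (kf xf29 yf1 zf8) (kf xf16 yf52 zf24) (kf xf31 yf3 zf6) (kf xf26 yf0 zf38) (kf xf28 yf14 zf7) (kf xf25 yf34 zf33) (kf xf31 yf3 zf8) (kf xf30 yf55 zf57) (kf xf14 yf29 zf10) (kf xf14 yf51 zf46) (kf xf15 yf55 zf46) (kf xf26 yf6 zf51) (kf xf24 yf20 zf10) (kf xf21 yf22 zf23) (kf xf21 yf22 zf12) (kf xf27 yf11 zf60) (kf xf27 yf2 zf46) (kf xf25 yf51 zf61) (kf xf22 yf37 zf27) (kf xf24 yf21 zf22)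 (kf xf14 yf29 zf22) (kf xf17 yf22 zf31) (kf xf28 yf31 zf16) (kf xf19 yf54 zf28) (kf xf22 yf21 zf56) (kf xf30 yf50 zf5) (kf xf29 yf29 zf10) (kf xf29 yf2 zf25) (kf xf24 yf32 zf25) (kf xf30 yf37 zf57) (kf xf14 yf29 zf35) (kf xf16 yf12 zf36) (kf xf30 yf30 zf36) (kf xf29 yf57 zf41) (kf xf14 yf29 zf37) (kf xf28 yf31 zf30) (kf xf28 yf50 zf24) (kf xf22 yf41 zf52) (kf xf14 yf29 zf39) (kf xf22 yf30 zf0) (kf xf24 yf19 zf40) (kf xf22 yf21 zf37) (kf xf28 yf48 zf0) (kf xf28 yf47 zf60) (kf xf14 yf29 zf45) (kf xf20 yf50 zf57) (kf xf29 yf30 zf19) (kf xf23 yf58 zf9) (kf xf29 yf39 zf23) (kf xf31 yf24 zf12)) (@D3.rec (fun _ => Pt) (kf xf14 yf29 zf54) (kf xf22 yf37 zf30) (kf xf31 yf24 zf14) (kf xf22 yf37 zf28) (kf xf26 yf51 zf55) (kf xf26 yf51 zf54) (kf xf14 yf29 zf61) (kf xf22 yf29 zf59)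 (kf xf31 yf17 zf40) (kf xf14 yf30 zf4) (kf xf29 yf58 zf56) (kf xf29 yf3 zf35) (kf xf28 yf47 zf33) (kf xf14 yf30 zf12) (kf xf17 yf23 zf23) (kf xf28 yf15 zf12) (kf xf28 yf41 zf39) (kf xf14 yf30 zf14) (kf xf24 yf3 zf8) (kf xf20 yf2 zf57) (kf xf25 yf52 zf35) (kf xf24 yf3 zf3) (kf xf20 yf3 zf33) (kf xf31 yf24 zf27) (kf xf15 yf20 zf23) (kf xf24 yf2 zf59) (kf xf24 yf2 zf37) (kf xf19 yf46 zf19) (kf xf14 yf30 zf18) (kf xf14 yf30 zf33) (kf xf23 yf57 zf24) (kf xf24 yf28 zf32) (kf xf24 yf5 zf56) (kf xf22 yf0 zf25) (kf xf26 yf57 zf4) (kf xf28 yf46 zf22) (kf xf14 yf30 zf22) (kf xf24 yf4 zf23) (kf xf24 yf24 zf41) (kf xf24 yf4 zf38) (kf xf15 yf34 zf61) (kf xf24 yf4 zf39) (kf xf24 yf4 zf32) (kf xf31 yf24 zf36) (kf xf31 yf24 zf39) (kf xf14 yf30 zf26) (kf xf24 yf4 zf20) (kf xf24 yf4 zf21)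 (kf xf24 yf4 zf14) (kf xf31 yf24 zf45) (kf xf31 yf24 zf47) (kf xf14 yf30 zf28) (kf xf14 yf30 zf30) (kf xf24 yf16 zf8) (kf xf19 yf39 zf12) (kf xf19 yf28 zf31) (kf xf19 yf28 zf27) (kf xf28 yf51 zf36) (kf xf28 yf56 zf61) (kf xf24 yf25 zf13) (kf xf30 yf55 zf61) (kf xf19 yf24 zf3)) (@D3.rec (fun _ => Pt) (kf xf20 yf44 zf12) (kf xf27 yf21 zf9) (kf xf29 yf26 zf21) (kf xf14 yf30 zf41) (kf xf19 yf47 zf23) (kf xf31 yf24 zf56) (kf xf16 yf36 zf29) (kf xf28 yf44 zf23) (kf xf28 yf52 zf45) (kf xf14 yf31 zf15) (kf xf30 yf49 zf21) (kf xf14 yf31 zf10) (kf xf31 yf23 zf43) (kf xf14 yf31 zf22) (kf xf19 yf8 zf36) (kf xf14 yf31 zf18) (kf xf31 yf24 zf61) (kf xf29 yf24 zf22) (kf xf31 yf25 zf3) (kf xf14 yf30 zf52) (kf xf28 yf32 zf40) (kf xf20 yf27 zf19) (kf xf25 yf12 zf14) (kf xf25 yf49 zf5)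 (kf xf29 yf2 zf12) (kf xf23 yf56 zf38) (kf xf28 yf47 zf55) (kf xf20 yf2 zf46) (kf xf30 yf56 zf40) (kf xf31 yf13 zf36) (kf xf14 yf30 zf59) (kf xf29 yf27 zf39) (kf xf30 yf32 zf0) (kf xf22 yf7 zf57) (kf xf15 yf0 zf53) (kf xf19 yf7 zf20) (kf xf20 yf41 zf54) (kf xf14 yf31 zf1) (kf xf28 yf6 zf53) (kf xf31 yf25 zf10) (kf xf29 yf27 zf40) (kf xf19 yf8 zf7) (kf xf31 yf25 zf12) (kf xf14 yf31 zf6) (kf xf14 yf31 zf30) (kf xf29 yf28 zf22) (kf xf30 yf49 zf4) (kf xf19 yf43 zf38) (kf xf18 yf31 zf30) (kf xf31 yf24 zf59) (kf xf26 yf31 zf36) (kf xf20 yf11 zf61) (kf xf25 yf50 zf43) (kf xf14 yf31 zf11) (kf xf22 yf22 zf35) (kf xf21 yf14 zf19) (kf xf27 yf9 zf35) (kf xf26 yf31 zf35) (kf xf31 yf25 zf20) (kf xf29 yf14 zf36) (kf xf14 yf31 zf16) (kf xf22 yf36 zf11)) (@D3.rec (fun _ => Pt) (kf xf31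 yf25 zf25) (kf xf31 yf23 zf3) (kf xf29 yf53 zf21) (kf xf28 yf31 zf56) (kf xf16 yf38 zf38) (kf xf31 yf25 zf28) (kf xf14 yf31 zf20) (kf xf20 yf37 zf16) (kf xf21 yf14 zf42) (kf xf29 yf53 zf20) (kf xf28 yf47 zf11) (kf xf31 yf6 zf58) (kf xf18 yf50 zf19) (kf xf14 yf31 zf24) (kf xf18 yf34 zf25) (kf xf30 yf26 zf23) (kf xf29 yf52 zf47) (kf xf30 yf26 zf20) (kf xf31 yf25 zf38) (kf xf26 yf24 zf25) (kf xf31 yf23 zf38) (kf xf31 yf25 zf39) (kf xf29 yf53 zf61) (kf xf14 yf31 zf27) (kf xf27 yf53 zf5) (kf xf27 yf53 zf2) (kf xf28 yf54 zf5) (kf xf30 yf44 zf43) (kf xf14 yf31 zf28) (kf xf27 yf55 zf4) (kf xf19 yf8 zf4) (kf xf24 yf39 zf6) (kf xf24 yf7 zf15) (kf xf19 yf9 zf56) (kf xf30 yf51 zf22) (kf xf30 yf19 zf52) (kf xf31 yf17 zf50) (kf xf31 yf6 zf59) (kf xf22 yf39 zf41) (kf xf14 yf31 zf44)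 (kf xf30 yf51 zf9) (kf xf31 yf25 zf48) (kf xf24 yf7 zf39) (kf xf30 yf51 zf11) (kf xf15 yf33 zf0) (kf xf14 yf31 zf49) (kf xf14 yf32 zf5) (kf xf31 yf17 zf48) (kf xf24 yf8 zf29) (kf xf24 yf24 zf28) (kf xf24 yf8 zf28) (kf xf30 yf51 zf16) (kf xf14 yf37 zf61) (kf xf29 yf53 zf32) (kf xf14 yf31 zf54) (kf xf23 yf57 zf45) (kf xf24 yf25 zf54) (kf xf23 yf52 zf2) (kf xf31 yf15 zf37) (kf xf23 yf53 zf26) (kf xf14 yf31 zf57) (kf xf24 yf18 zf24)) (@D3.rec (fun _ => Pt) (kf xf30 yf37 zf20) (kf xf24 yf18 zf23) (kf xf25 yf12 zf44) (kf xf14 yf31 zf61) (kf xf14 yf32 zf0) (kf xf14 yf32 zf3) (kf xf14 yf32 zf2) (kf xf30 yf47 zf37) (kf xf22 yf53 zf27) (kf xf31 yf17 zf34) (kf xf14 yf32 zf1) (kf xf30 yf47 zf38) (kf xf22 yf53 zf28) (kf xf21 yf39 zf29) (kf xf25 yf4 zf35) (kf xf24 yf8 zf59) (kf xf24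 yf8 zf57) (kf xf30 yf20 zf31) (kf xf24 yf23 zf6) (kf xf29 yf34 zf58) (kf xf14 yf32 zf9) (kf xf14 yf34 zf13) (kf xf29 yf37 zf10) (kf xf14 yf32 zf11) (kf xf24 yf2 zf20) (kf xf14 yf32 zf14) (kf xf27 yf6 zf34) (kf xf27 yf6 zf32) (kf xf27 yf6 zf33) (kf xf18 yf57 zf38) (kf xf27 yf6 zf36) (kf xf17 yf19 zf42) (kf xf16 yf42 zf21) (kf xf14 yf32 zf17) (kf xf29 yf27 zf8) (kf xf27 yf0 zf23) (kf xf26 yf39 zf26) (kf xf22 yf24 zf6) (kf xf29 yf3 zf13) (kf xf22 yf13 zf18) (kf xf30 yf56 zf46) (kf xf20 yf39 zf3) (kf xf28 yf48 zf10) (kf xf24 yf4 zf11) (kf xf27 yf35 zf56) (kf xf30 yf31 zf0) (kf xf16 yf42 zf22) (kf xf19 yf10 zf41) (kf xf27 yf43 zf8) (kf xf20 yf16 zf29) (kf xf22 yf23 zf13) (kf xf14 yf32 zf32) (kf xf14 yf47 zf45) (kf xf29 yf58 zf36) (kf xf14 yf33 zf32) (kf xf31 yf26 zf21) (kf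 xf14 yf33 zf25) (kf xf30 yf56 zf56) (kf xf14 yf33 zf39) (kf xf14 yf33 zf38) (kf xf17 yf59 zf7) (kf xf14 yf34 zf6)) (@D3.rec (fun _ => Pt) (kf xf14 yf34 zf8) (kf xf26 yf33 zf50) (kf xf14 yf32 zf40) (kf xf14 yf33 zf49) (kf xf14 yf33 zf59) (kf xf14 yf34 zf24) (kf xf27 yf15 zf38) (kf xf14 yf34 zf26) (kf xf25 yf36 zf25) (kf xf14 yf34 zf20) (kf xf14 yf32 zf46) (kf xf14 yf34 zf14) (kf xf31 yf26 zf33) (kf xf14 yf34 zf17) (kf xf28 yf57 zf54) (kf xf14 yf34 zf30) (kf xf14 yf32 zf49) (kf xf14 yf34 zf35) (kf xf18 yf52 zf34) (kf xf14 yf34 zf46) (kf xf14 yf34 zf45) (kf xf21 yf40 zf38) (kf xf17 yf19 zf49) (kf xf17 yf17 zf52) (kf xf21 yf39 zf8) (kf xf21 yf39 zf9) (kf xf14 yf32 zf59) (kf xf17 yf23 zf31) (kf xf18 yf45 zf45) (kf xf22 yf18 zf23) (kf xf22 yf18 zf22) (kf xf25 yf30 zf54) (kf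 xf14 yf33 zf2) (kf xf21 yf39 zf6) (kf xf21 yf38 zf56) (kf xf28 yf43 zf2) (kf xf31 yf26 zf42) (kf xf17 yf20 zf5) (kf xf18 yf57 zf20) (kf xf22 yf13 zf6) (kf xf14 yf33 zf20) (kf xf17 yf5 zf18) (kf xf21 yf3 zf38) (kf xf30 yf55 zf19) (kf xf31 yf26 zf44) (kf xf29 yf26 zf61) (kf xf30 yf21 zf48) (kf xf30 yf56 zf55) (kf xf14 yf33 zf26) (kf xf20 yf43 zf10) (kf xf17 yf28 zf56) (kf xf19 yf28 zf16) (kf xf31 yf26 zf49) (kf xf14 yf33 zf56) (kf xf19 yf28 zf15) (kf xf14 yf33 zf33) (kf xf20 yf46 zf23) (kf xf21 yf16 zf27) (kf xf29 yf34 zf59) (kf xf19 yf12 zf6) (kf xf29 yf35 zf0) (kf xf31 yf0 zf28)) (@D3.rec (fun _ => Pt) (kf xf29 yf0 zf29) (kf xf29 yf50 zf16) (kf xf19 yf46 zf42) (kf xf31 yf26 zf23) (kf xf19 yf46 zf41) (kf xf31 yf26 zf54) (kf xf25 yf49 zf56) (kf xf31 yf26 zf55) (kf xf24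 yf11 zf53) (kf xf14 yf33 zf40) (kf xf20 yf49 zf36) (kf xf14 yf33 zf41) (kf xf14 yf34 zf44) (kf xf21 yf2 zf2) (kf xf24 yf26 zf59) (kf xf25 yf11 zf33) (kf xf31 yf26 zf59) (kf xf24 yf26 zf57) (kf xf15 yf21 zf14) (kf xf31 yf23 zf46) (kf xf15 yf21 zf1) (kf xf29 yf48 zf41) (kf xf23 yf19 zf12) (kf xf23 yf19 zf11) (kf xf14 yf33 zf54) (kf xf23 yf19 zf17) (kf xf29 yf16 zf54) (kf xf19 yf44 zf30) (kf xf28 yf34 zf34) (kf xf31 yf26 zf48) (kf xf31 yf26 zf26) (kf xf19 yf45 zf29) (kf xf15 yf21 zf22) (kf xf15 yf21 zf7) (kf xf19 yf19 zf50) (kf xf19 yf19 zf51) (kf xf28 yf34 zf14) (kf xf22 yf36 zf60) (kf xf14 yf34 zf1) (kf xf22 yf23 zf8) (kf xf19 yf13 zf0) (kf xf28 yf33 zf33) (kf xf31 yf11 zf16) (kf xf31 yf26 zf25) (kf xf19 yf45 zf52) (kf xf25 yf57 zf3) (kf xf24 yf26 zf11) (kf xf19 yf6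 zf59) (kf xf24 yf26 zf6) (kf xf31 yf26 zf29) (kf xf31 yf26 zf30) (kf xf31 yf27 zf17) (kf xf19 yf6 zf60) (kf xf14 yf34 zf15) (kf xf31 yf26 zf34) (kf xf20 yf42 zf32) (kf xf31 yf26 zf35) (kf xf30 yf11 zf25) (kf xf24 yf7 zf50) (kf xf31 yf27 zf20) (kf xf25 yf25 zf42) (kf xf31 yf26 zf28)) (@D3.rec (fun _ => Pt) (kf xf24 yf7 zf49) (kf xf14 yf34 zf19) (kf xf28 yf50 zf2) (kf xf18 yf52 zf33) (kf xf27 yf12 zf57) (kf xf19 yf15 zf36) (kf xf24 yf1 zf33) (kf xf31 yf27 zf24) (kf xf29 yf44 zf32) (kf xf31 yf26 zf27) (kf xf28 yf27 zf57) (kf xf31 yf27 zf23) (kf xf19 yf12 zf47) (kf xf14 yf34 zf25) (kf xf20 yf59 zf16) (kf xf31 yf11 zf15) (kf xf28 yf48 zf20) (kf xf29 yf4 zf57) (kf xf28 yf57 zf59) (kf xf28 yf56 zf60) (kf xf28 yf58 zf15) (kf xf30 yf38 zf15) (kf xf25 yf31 zf18) (kf xf31 yf26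 zf37) (kf xf29 yf57 zf2) (kf xf31 yf9 zf46) (kf xf18 yf52 zf26) (kf xf27 yf38 zf16) (kf xf30 yf40 zf43) (kf xf28 yf58 zf14) (kf xf29 yf57 zf0) (kf xf31 yf27 zf42) (kf xf14 yf34 zf37) (kf xf14 yf34 zf40) (kf xf14 yf34 zf39) (kf xf24 yf54 zf18) (kf xf31 yf4 zf51) (kf xf27 yf56 zf54) (kf xf14 yf34 zf38) (kf xf28 yf48 zf13) (kf xf24 yf54 zf19) (kf xf31 yf4 zf52) (kf xf28 yf58 zf6) (kf xf31 yf9 zf38) (kf xf31 yf9 zf36) (kf xf31 yf9 zf37) (kf xf31 yf9 zf39) (kf xf26 yf46 zf18) (kf xf29 yf36 zf22) (kf xf14 yf34 zf43) (kf xf17 yf59 zf0) (kf xf17 yf58 zf61) (kf xf20 yf50 zf35) (kf xf19 yf12 zf1) (kf xf30 yf27 zf49) (kf xf31 yf26 zf38) (kf xf29 yf23 zf15) (kf xf19 yf15 zf7) (kf xf14 yf34 zf61) (kf xf14 yf35 zf0) (kf xf24 yf46 zf30) (kf xf14 yf34 zf48)) (@D3.rec (fun _ => Pt)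 (kf xf29 yf22 zf44) (kf xf21 yf48 zf11) (kf xf25 yf12 zf56) (kf xf26 yf10 zf52) (kf xf31 yf27 zf58) (kf xf14 yf34 zf55) (kf xf17 yf23 zf7) (kf xf30 yf3 zf24) (kf xf18 yf45 zf40) (kf xf21 yf15 zf2) (kf xf28 yf17 zf12) (kf xf24 yf46 zf28) (kf xf28 yf28 zf28) (kf xf17 yf33 zf3) (kf xf30 yf36 zf33) (kf xf28 yf56 zf17) (kf xf28 yf38 zf40) (kf xf23 yf49 zf52) (kf xf28 yf2 zf2) (kf xf23 yf33 zf61) (kf xf26 yf15 zf47) (kf xf23 yf36 zf40) (kf xf23 yf57 zf10) (kf xf24 yf14 zf1) (kf xf24 yf13 zf61) (kf xf23 yf50 zf10) (kf xf17 yf30 zf28) (kf xf22 yf10 zf34) (kf xf28 yf28 zf29) (kf xf24 yf55 zf50) (kf xf18 yf7 zf35) (kf xf23 yf50 zf5) (kf xf21 yf58 zf38) (kf xf14 yf35 zf28) (kf xf14 yf35 zf31) (kf xf14 yf35 zf30) (kf xf22 yf7 zf31) (kf xf22 yf37 zf11) (kf xf28 yf53 zf32) (kf xf18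 yf56 zf59) (kf xf26 yf53 zf58) (kf xf23 yf53 zf4) (kf xf29 yf26 zf3) (kf xf30 yf51 zf13) (kf xf27 yf21 zf45) (kf xf25 yf50 zf52) (kf xf25 yf18 zf38) (kf xf25 yf26 zf7) (kf xf21 yf53 zf25) (kf xf18 yf55 zf44) (kf xf23 yf12 zf44) (kf xf30 yf36 zf24) (kf xf30 yf36 zf52) (kf xf22 yf57 zf32) (kf xf14 yf35 zf37) (kf xf22 yf59 zf22) (kf xf31 yf18 zf16) (kf xf20 yf32 zf45) (kf xf24 yf28 zf43) (kf xf23 yf0 zf11) (kf xf14 yf35 zf44) (kf xf20 yf51 zf47)) (@D3.rec (fun _ => Pt) (kf xf20 yf34 zf57) (kf xf25 yf34 zf4) (kf xf14 yf35 zf51) (kf xf14 yf36 zf0) (kf xf17 yf33 zf35) (kf xf14 yf35 zf59) (kf xf29 yf32 zf42) (kf xf26 yf59 zf20) (kf xf31 yf28 zf13) (kf xf17 yf49 zf44) (kf xf20 yf51 zf50) (kf xf17 yf48 zf13) (kf xf31 yf28 zf11) (kf xf21 yf30 zf20) (kf xf30 yf11 zf27) (kf xf20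 yf37 zf55) (kf xf29 yf58 zf54) (kf xf31 yf28 zf20) (kf xf31 yf14 zf11) (kf xf14 yf36 zf2) (kf xf30 yf7 zf10) (kf xf19 yf4 zf8) (kf xf19 yf4 zf7) (kf xf24 yf20 zf1) (kf xf24 yf19 zf61) (kf xf30 yf12 zf8) (kf xf25 yf50 zf13) (kf xf25 yf50 zf29) (kf xf30 yf12 zf7) (kf xf26 yf57 zf15) (kf xf21 yf41 zf45) (kf xf29 yf1 zf14) (kf xf30 yf12 zf9) (kf xf30 yf12 zf10) (kf xf19 yf23 zf28) (kf xf31 yf28 zf36) (kf xf31 yf28 zf34) (kf xf31 yf28 zf33) (kf xf31 yf18 zf27) (kf xf14 yf36 zf17) (kf xf24 yf10 zf52) (kf xf19 yf4 zf9) (kf xf19 yf7 zf61) (kf xf23 yf47 zf10) (kf xf14 yf36 zf22) (kf xf29 yf22 zf43) (kf xf21 yf26 zf33) (kf xf27 yf4 zf2) (kf xf21 yf42 zf54) (kf xf28 yf43 zf10) (kf xf30 yf23 zf43) (kf xf14 yf36 zf28) (kf xf30 yf5 zf41) (kf xf23 yf47 zf3) (kf xf30 yf37 zf1) (kf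 xf23 yf46 zf54) (kf xf21 yf32 zf24) (kf xf16 yf42 zf14) (kf xf22 yf22 zf22) (kf xf23 yf54 zf5) (kf xf28 yf4 zf8) (kf xf24 yf19 zf24)) (@D3.rec (fun _ => Pt) (kf xf30 yf12 zf44) (kf xf24 yf19 zf23) (kf xf23 yf54 zf8) (kf xf24 yf21 zf5) (kf xf24 yf38 zf14) (kf xf24 yf20 zf51) (kf xf27 yf44 zf30) (kf xf19 yf54 zf2) (kf xf24 yf37 zf53) (kf xf23 yf49 zf35) (kf xf24 yf10 zf24) (kf xf29 yf13 zf50) (kf xf24 yf27 zf47) (kf xf14 yf36 zf50) (kf xf31 yf9 zf19) (kf xf30 yf0 zf28) (kf xf30 yf36 zf25) (kf xf20 yf41 zf9) (kf xf14 yf36 zf61) (kf xf29 yf25 zf41) (kf xf14 yf36 zf58) (kf xf31 yf28 zf51) (kf xf14 yf37 zf0) (kf xf19 yf38 zf25) (kf xf31 yf28 zf52) (kf xf14 yf38 zf41) (kf xf30 yf9 zf0) (kf xf14 yf37 zf7) (kf xf14 yf38 zf37) (kf xf19 yf15 zf38) (kf xf19 yf15 zf41) (kf xf31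 yf21 zf40) (kf xf14 yf37 zf9) (kf xf29 yf5 zf24) (kf xf20 yf3 zf34) (kf xf28 yf47 zf29) (kf xf17 yf19 zf0) (kf xf19 yf11 zf36) (kf xf21 yf24 zf0) (kf xf30 yf20 zf7) (kf xf21 yf23 zf49) (kf xf28 yf41 zf28) (kf xf20 yf42 zf19) (kf xf19 yf4 zf3) (kf xf14 yf37 zf16) (kf xf23 yf49 zf34) (kf xf23 yf33 zf25) (kf xf29 yf12 zf29) (kf xf31 yf18 zf23) (kf xf29 yf10 zf22) (kf xf19 yf47 zf34) (kf xf24 yf20 zf5) (kf xf21 yf22 zf24) (kf xf19 yf14 zf36) (kf xf29 yf10 zf17) (kf xf30 yf7 zf58) (kf xf14 yf37 zf21) (kf xf19 yf15 zf17) (kf xf19 yf15 zf19) (kf xf19 yf15 zf22) (kf xf31 yf18 zf21) (kf xf29 yf7 zf40)) (@D3.rec (fun _ => Pt) (kf xf29 yf26 zf46) (kf xf24 yf35 zf21) (kf xf29 yf47 zf40) (kf xf26 yf41 zf18) (kf xf31 yf29 zf5) (kf xf24 yf20 zf3) (kf xf31 yf24 zf3) (kf xf21 yf49 zf1)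 (kf xf14 yf37 zf35) (kf xf25 yf39 zf29) (kf xf21 yf45 zf11) (kf xf14 yf37 zf41) (kf xf25 yf10 zf42) (kf xf25 yf37 zf58) (kf xf14 yf47 zf59) (kf xf28 yf58 zf42) (kf xf25 yf10 zf39) (kf xf31 yf29 zf13) (kf xf19 yf24 zf10) (kf xf14 yf40 zf26) (kf xf14 yf38 zf9) (kf xf17 yf26 zf33) (kf xf24 yf10 zf31) (kf xf20 yf33 zf43) (kf xf20 yf48 zf13) (kf xf30 yf11 zf42) (kf xf23 yf34 zf22) (kf xf19 yf12 zf51) (kf xf30 yf50 zf18) (kf xf22 yf38 zf18) (kf xf20 yf47 zf47) (kf xf20 yf24 zf4) (kf xf20 yf24 zf5) (kf xf20 yf24 zf6) (kf xf26 yf51 zf48) (kf xf24 yf9 zf12) (kf xf22 yf33 zf35) (kf xf30 yf11 zf56) (kf xf30 yf11 zf51) (kf xf20 yf23 zf56) (kf xf31 yf29 zf23) (kf xf30 yf11 zf49) (kf xf22 yf50 zf23) (kf xf20 yf48 zf50) (kf xf14 yf38 zf6) (kf xf30 yf11 zf58) (kf xf22 yf51 zf40) (kf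 xf20 yf48 zf48) (kf xf30 yf29 zf58) (kf xf28 yf22 zf51) (kf xf24 yf46 zf19) (kf xf29 yf20 zf22) (kf xf30 yf11 zf59) (kf xf18 yf47 zf41) (kf xf19 yf20 zf24) (kf xf21 yf55 zf28) (kf xf21 yf42 zf32) (kf xf17 yf48 zf30) (kf xf17 yf51 zf49) (kf xf27 yf29 zf36) (kf xf28 yf43 zf12) (kf xf21 yf14 zf20)) (@D3.rec (fun _ => Pt) (kf xf30 yf50 zf6) (kf xf30 yf40 zf12) (kf xf22 yf35 zf28) (kf xf24 yf46 zf58) (kf xf22 yf38 zf53) (kf xf19 yf47 zf5) (kf xf29 yf43 zf50) (kf xf30 yf56 zf38) (kf xf30 yf56 zf37) (kf xf30 yf10 zf20) (kf xf14 yf38 zf31) (kf xf16 yf9 zf61) (kf xf22 yf49 zf28) (kf xf14 yf48 zf32) (kf xf14 yf46 zf49) (kf xf26 yf46 zf3) (kf xf22 yf38 zf2) (kf xf29 yf16 zf55) (kf xf31 yf18 zf28) (kf xf31 yf14 zf14) (kf xf29 yf51 zf7) (kf xf16 yf4 zf44) (kf xf24 yf27 zf25) (kf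 xf24 yf27 zf17) (kf xf31 yf29 zf37) (kf xf31 yf24 zf46) (kf xf14 yf38 zf39) (kf xf15 yf20 zf50) (kf xf24 yf38 zf26) (kf xf28 yf41 zf13) (kf xf30 yf8 zf28) (kf xf24 yf32 zf55) (kf xf14 yf48 zf38) (kf xf24 yf32 zf56) (kf xf29 yf58 zf52) (kf xf17 yf51 zf52) (kf xf14 yf48 zf10) (kf xf14 yf38 zf45) (kf xf30 yf34 zf1) (kf xf28 yf34 zf15) (kf xf24 yf24 zf23) (kf xf29 yf55 zf4) (kf xf21 yf27 zf53) (kf xf17 yf55 zf20) (kf xf31 yf29 zf42) (kf xf28 yf35 zf12) (kf xf22 yf26 zf25) (kf xf20 yf56 zf7) (kf xf31 yf29 zf43) (kf xf29 yf26 zf12) (kf xf31 yf29 zf41) (kf xf14 yf39 zf4) (kf xf28 yf2 zf25) (kf xf28 yf1 zf50) (kf xf19 yf7 zf11) (kf xf26 yf5 zf29) (kf xf19 yf7 zf7) (kf xf19 yf7 zf14) (kf xf14 yf39 zf10) (kf xf24 yf1 zf28) (kf xf24 yf1 zf29) (kf xf24 yf1 zf26)) (@D3.rec (fun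 _ => Pt) (kf xf23 yf26 zf28) (kf xf22 yf41 zf5) (kf xf26 yf7 zf18) (kf xf22 yf41 zf4) (kf xf19 yf14 zf43) (kf xf23 yf10 zf25) (kf xf24 yf14 zf18) (kf xf28 yf31 zf26) (kf xf19 yf15 zf37) (kf xf30 yf46 zf54) (kf xf24 yf7 zf35) (kf xf14 yf39 zf26) (kf xf19 yf2 zf35) (kf xf19 yf3 zf36) (kf xf19 yf3 zf37) (kf xf19 yf7 zf32) (kf xf19 yf7 zf33) (kf xf19 yf7 zf34) (kf xf31 yf18 zf30) (kf xf22 yf41 zf27) (kf xf31 yf18 zf29) (kf xf22 yf41 zf26) (kf xf14 yf39 zf36) (kf xf31 yf18 zf31) (kf xf22 yf6 zf16) (kf xf29 yf8 zf49) (kf xf30 yf22 zf38) (kf xf30 yf3 zf48) (kf xf22 yf35 zf24) (kf xf30 yf37 zf41) (kf xf14 yf39 zf45) (kf xf28 yf44 zf24) (kf xf27 yf56 zf41) (kf xf28 yf44 zf25) (kf xf20 yf55 zf57) (kf xf31 yf6 zf20) (kf xf26 yf8 zf0) (kf xf31 yf7 zf13) (kf xf14 yf39 zf50) (kf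 xf29 yf48 zf55) (kf xf26 yf48 zf8) (kf xf14 yf39 zf51) (kf xf30 yf27 zf23) (kf xf19 yf55 zf57) (kf xf29 yf27 zf58) (kf xf31 yf18 zf32) (kf xf31 yf30 zf16) (kf xf19 yf55 zf52) (kf xf31 yf30 zf19) (kf xf14 yf39 zf56) (kf xf21 yf24 zf27) (kf xf29 yf58 zf10) (kf xf14 yf39 zf57) (kf xf14 yf40 zf5) (kf xf28 yf48 zf23) (kf xf31 yf19 zf42) (kf xf14 yf39 zf61) (kf xf20 yf59 zf17) (kf xf30 yf3 zf5) (kf xf29 yf41 zf22) (kf xf29 yf5 zf2) (kf xf14 yf40 zf0)) (@D3.rec (fun _ => Pt) (kf xf21 yf29 zf13) (kf xf14 yf40 zf1) (kf xf14 yf40 zf2) (kf xf31 yf30 zf6) (kf xf14 yf46 zf55) (kf xf30 yf26 zf7) (kf xf29 yf5 zf1) (kf xf26 yf41 zf55) (kf xf21 yf12 zf30) (kf xf19 yf56 zf9) (kf xf14 yf40 zf7) (kf xf17 yf15 zf28) (kf xf15 yf7 zf51) (kf xf14 yf47 zf42) (kf xf28 yf42 zf44) (kf xf23 yf24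 zf53) (kf xf31 yf29 zf55) (kf xf19 yf56 zf36) (kf xf30 yf37 zf40) (kf xf19 yf15 zf12) (kf xf19 yf12 zf53) (kf xf19 yf14 zf38) (kf xf30 yf31 zf25) (kf xf24 yf22 zf40) (kf xf30 yf50 zf8) (kf xf23 yf34 zf23) (kf xf31 yf12 zf48) (kf xf31 yf12 zf49) (kf xf24 yf13 zf49) (kf xf28 yf34 zf16) (kf xf23 yf0 zf39) (kf xf31 yf12 zf47) (kf xf31 yf12 zf46) (kf xf30 yf53 zf3) (kf xf30 yf53 zf2) (kf xf14 yf41 zf6) (kf xf14 yf41 zf7) (kf xf14 yf41 zf8) (kf xf28 yf54 zf39) (kf xf30 yf50 zf17) (kf xf24 yf30 zf28) (kf xf24 yf11 zf38) (kf xf24 yf29 zf52) (kf xf31 yf30 zf37) (kf xf14 yf40 zf31) (kf xf21 yf41 zf15) (kf xf14 yf40 zf35) (kf xf23 yf34 zf26) (kf xf24 yf29 zf51) (kf xf19 yf13 zf3) (kf xf30 yf28 zf44) (kf xf30 yf31 zf26) (kf xf30 yf36 zf60) (kf xf30 yf28 zf42) (kf xf22 yf39 zf55)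 (kf xf22 yf16 zf6) (kf xf14 yf40 zf40) (kf xf30 yf15 zf34) (kf xf19 yf13 zf18) (kf xf26 yf51 zf44) (kf xf31 yf30 zf48) (kf xf31 yf24 zf55)) (@D3.rec (fun _ => Pt) (kf xf31 yf24 zf54) (kf xf14 yf40 zf45) (kf xf20 yf24 zf20) (kf xf24 yf30 zf25) (kf xf31 yf30 zf52) (kf xf14 yf40 zf47) (kf xf30 yf42 zf55) (kf xf29 yf52 zf42) (kf xf30 yf26 zf1) (kf xf19 yf28 zf57) (kf xf30 yf37 zf28) (kf xf23 yf57 zf7) (kf xf29 yf40 zf53) (kf xf24 yf11 zf59) (kf xf29 yf23 zf12) (kf xf30 yf29 zf28) (kf xf26 yf59 zf46) (kf xf14 yf40 zf56) (kf xf31 yf12 zf42) (kf xf29 yf40 zf7) (kf xf30 yf39 zf8) (kf xf29 yf21 zf17) (kf xf30 yf11 zf35) (kf xf30 yf15 zf25) (kf xf27 yf5 zf9) (kf xf21 yf59 zf61) (kf xf30 yf11 zf39) (kf xf29 yf29 zf50) (kf xf28 yf52 zf30) (kf xf21 yf12 zf59) (kf xf30 yf27 zf19)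 (kf xf14 yf41 zf5) (kf xf19 yf25 zf29) (kf xf31 yf30 zf32) (kf xf22 yf32 zf57) (kf xf31 yf30 zf33) (kf xf19 yf34 zf10) (kf xf20 yf33 zf21) (kf xf18 yf47 zf43) (kf xf27 yf58 zf34) (kf xf30 yf42 zf51) (kf xf14 yf41 zf10) (kf xf22 yf23 zf6) (kf xf22 yf23 zf7) (kf xf17 yf26 zf27) (kf xf22 yf24 zf30) (kf xf22 yf24 zf32) (kf xf22 yf24 zf33) (kf xf28 yf24 zf16) (kf xf22 yf24 zf35) (kf xf22 yf1 zf45) (kf xf22 yf24 zf38) (kf xf22 yf24 zf40) (kf xf22 yf24 zf11) (kf xf24 yf13 zf56) (kf xf22 yf24 zf13) (kf xf28 yf44 zf59) (kf xf20 yf44 zf36) (kf xf14 yf41 zf22) (kf xf23 yf57 zf21) (kf xf22 yf13 zf49) (kf xf31 yf31 zf21)) (@D3.rec (fun _ => Pt) (kf xf22 yf13 zf50) (kf xf14 yf41 zf27) (kf xf22 yf13 zf47) (kf xf22 yf13 zf46) (kf xf15 yf54 zf46) (kf xf19 yf20 zf49) (kf xf24 yf16 zf48)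 (kf xf26 yf57 zf7) (kf xf28 yf37 zf36) (kf xf29 yf37 zf11) (kf xf27 yf46 zf55) (kf xf24 yf16 zf46) (kf xf30 yf45 zf12) (kf xf26 yf57 zf8) (kf xf14 yf41 zf34) (kf xf31 yf18 zf39) (kf xf24 yf4 zf27) (kf xf31 yf18 zf38) (kf xf21 yf59 zf56) (kf xf22 yf0 zf2) (kf xf17 yf27 zf17) (kf xf27 yf18 zf61) (kf xf31 yf18 zf59) (kf xf31 yf18 zf60) (kf xf19 yf5 zf7) (kf xf14 yf41 zf56) (kf xf16 yf36 zf54) (kf xf30 yf30 zf17) (kf xf19 yf3 zf5) (kf xf31 yf18 zf52) (kf xf14 yf41 zf45) (kf xf19 yf21 zf28) (kf xf31 yf31 zf45) (kf xf31 yf18 zf61) (kf xf31 yf31 zf46) (kf xf14 yf41 zf49) (kf xf31 yf19 zf1) (kf xf31 yf19 zf2) (kf xf28 yf40 zf47) (kf xf31 yf19 zf3) (kf xf31 yf31 zf51) (kf xf31 yf19 zf5) (kf xf16 yf40 zf21) (kf xf27 yf44 zf44) (kf xf31 yf19 zf6) (kf xf31 yf19 zf7) (kf xf30 yf15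 zf31) (kf xf29 yf33 zf2) (kf xf26 yf35 zf11) (kf xf14 yf41 zf54) (kf xf16 yf39 zf55) (kf xf27 yf19 zf8) (kf xf31 yf31 zf39) (kf xf18 yf48 zf49) (kf xf22 yf20 zf7) (kf xf17 yf18 zf52) (kf xf17 yf18 zf53) (kf xf24 yf16 zf17) (kf xf31 yf31 zf61) (kf xf24 yf16 zf14) (kf xf31 yf18 zf55) (kf xf31 yf32 zf3)) (@D3.rec (fun _ => Pt) (kf xf19 yf9 zf37) (kf xf31 yf31 zf60) (kf xf14 yf42 zf3) (kf xf23 yf36 zf5) (kf xf14 yf51 zf54) (kf xf30 yf10 zf28) (kf xf14 yf42 zf5) (kf xf31 yf18 zf42) (kf xf23 yf55 zf9) (kf xf31 yf17 zf43) (kf xf30 yf56 zf9) (kf xf19 yf3 zf7) (kf xf19 yf20 zf34) (kf xf19 yf20 zf35) (kf xf31 yf32 zf12) (kf xf29 yf18 zf3) (kf xf23 yf58 zf19) (kf xf24 yf22 zf23) (kf xf29 yf13 zf36) (kf xf31 yf32 zf15) (kf xf22 yf33 zf46) (kf xf31 yf32 zf11) (kf xf19 yf23 zf20)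 (kf xf14 yf42 zf12) (kf xf15 yf42 zf45) (kf xf24 yf22 zf22) (kf xf31 yf32 zf20) (kf xf23 yf58 zf54) (kf xf30 yf6 zf38) (kf xf14 yf42 zf14) (kf xf19 yf28 zf22) (kf xf29 yf42 zf43) (kf xf24 yf2 zf33) (kf xf30 yf12 zf6) (kf xf14 yf46 zf44) (kf xf31 yf19 zf8) (kf xf31 yf32 zf22) (kf xf31 yf19 zf9) (kf xf29 yf52 zf6) (kf xf16 yf48 zf9) (kf xf28 yf54 zf13) (kf xf14 yf42 zf21) (kf xf19 yf20 zf54) (kf xf25 yf12 zf15) (kf xf25 yf42 zf31) (kf xf31 yf32 zf30) (kf xf14 yf51 zf40) (kf xf24 yf20 zf12) (kf xf17 yf21 zf14) (kf xf30 yf34 zf12) (kf xf22 yf41 zf40) (kf xf14 yf42 zf26) (kf xf19 yf4 zf58) (kf xf19 yf9 zf20) (kf xf31 yf17 zf44) (kf xf24 yf30 zf4) (kf xf14 yf42 zf29) (kf xf24 yf29 zf39) (kf xf25 yf34 zf43) (kf xf22 yf40 zf25) (kf xf22 yf38 zf5) (kf xf22 yf38 zf4)) (@D3.rec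 (fun _ => Pt) (kf xf14 yf42 zf39) (kf xf22 yf40 zf33) (kf xf20 yf10 zf8) (kf xf17 yf18 zf18) (kf xf18 yf48 zf8) (kf xf22 yf40 zf37) (kf xf14 yf42 zf48) (kf xf22 yf40 zf29) (kf xf18 yf48 zf13) (kf xf21 yf9 zf19) (kf xf22 yf38 zf60) (kf xf23 yf39 zf58) (kf xf22 yf38 zf59) (kf xf27 yf40 zf35) (kf xf16 yf35 zf37) (kf xf30 yf53 zf59) (kf xf22 yf41 zf12) (kf xf16 yf22 zf25) (kf xf19 yf1 zf18) (kf xf18 yf35 zf59) (kf xf28 yf26 zf18) (kf xf19 yf1 zf15) (kf xf21 yf15 zf12) (kf xf14 yf42 zf61) (kf xf23 yf21 zf51) (kf xf14 yf43 zf3) (kf xf24 yf45 zf39) (kf xf24 yf56 zf38) (kf xf17 yf54 zf20) (kf xf23 yf17 zf14) (kf xf18 yf36 zf3) (kf xf23 yf57 zf39) (kf xf24 yf11 zf31) (kf xf31 yf18 zf40) (kf xf28 yf20 zf22) (kf xf14 yf43 zf27) (kf xf19 yf5 zf4) (kf xf27 yf32 zf0) (kf xf19 yf51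 zf31) (kf xf28 yf45 zf51) (kf xf22 yf41 zf21) (kf xf19 yf53 zf26) (kf xf14 yf43 zf20) (kf xf24 yf18 zf58) (kf xf31 yf17 zf39) (kf xf31 yf18 zf41) (kf xf14 yf43 zf22) (kf xf25 yf48 zf1) (kf xf25 yf18 zf33) (kf xf26 yf45 zf2) (kf xf31 yf18 zf44) (kf xf31 yf18 zf45) (kf xf31 yf15 zf60) (kf xf31 yf18 zf46) (kf xf26 yf45 zf12) (kf xf28 yf20 zf19) (kf xf19 yf51 zf29) (kf xf28 yf23 zf1) (kf xf31 yf32 zf45) (kf xf19 yf19 zf38) (kf xf19 yf19 zf39) (kf xf22 yf51 zf31)) (@D3.rec (fun _ => Pt) (kf xf19 yf19 zf53) (kf xf28 yf43 zf31) (kf xf14 yf43 zf29) (kf xf22 yf34 zf18) (kf xf30 yf52 zf61) (kf xf31 yf32 zf41) (kf xf28 yf11 zf14) (kf xf16 yf21 zf17) (kf xf24 yf59 zf23) (kf xf14 yf43 zf32) (kf xf19 yf51 zf22) (kf xf22 yf40 zf39) (kf xf26 yf45 zf16) (kf xf22 yf40 zf40) (kf xf29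 yf52 zf5) (kf xf19 yf55 zf54) (kf xf19 yf15 zf14) (kf xf31 yf32 zf51) (kf xf14 yf43 zf38) (kf xf19 yf18 zf21) (kf xf19 yf14 zf40) (kf xf19 yf15 zf31) (kf xf31 yf18 zf53) (kf xf22 yf57 zf0) (kf xf14 yf43 zf42) (kf xf24 yf7 zf29) (kf xf19 yf14 zf39) (kf xf19 yf18 zf51) (kf xf19 yf20 zf50) (kf xf19 yf18 zf50) (kf xf27 yf45 zf59) (kf xf18 yf27 zf24) (kf xf31 yf32 zf60) (kf xf14 yf43 zf48) (kf xf15 yf11 zf9) (kf xf22 yf41 zf15) (kf xf19 yf34 zf18) (kf xf20 yf12 zf9) (kf xf22 yf4 zf8) (kf xf24 yf27 zf57) (kf xf28 yf11 zf17) (kf xf23 yf49 zf3) (kf xf29 yf33 zf47) (kf xf30 yf15 zf19) (kf xf31 yf33 zf6) (kf xf30 yf15 zf17) (kf xf30 yf15 zf16) (kf xf31 yf33 zf12) (kf xf14 yf43 zf61) (kf xf22 yf50 zf39) (kf xf29 yf32 zf25) (kf xf24 yf24 zf48) (kf xf24 yf24 zf42) (kf xf23 yf51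 zf11) (kf xf23 yf51 zf10) (kf xf14 yf44 zf3) (kf xf30 yf39 zf0) (kf xf30 yf42 zf53) (kf xf30 yf42 zf54) (kf xf23 yf49 zf11) (kf xf14 yf44 zf7) (kf xf31 yf12 zf53)) (@D3.rec (fun _ => Pt) (kf xf30 yf39 zf32) (kf xf22 yf40 zf46) (kf xf22 yf27 zf36) (kf xf31 yf12 zf52) (kf xf24 yf27 zf55) (kf xf23 yf48 zf36) (kf xf23 yf48 zf35) (kf xf14 yf44 zf10) (kf xf22 yf26 zf33) (kf xf22 yf0 zf55) (kf xf22 yf0 zf56) (kf xf31 yf33 zf26) (kf xf31 yf12 zf50) (kf xf31 yf12 zf51) (kf xf31 yf33 zf30) (kf xf30 yf15 zf33) (kf xf22 yf27 zf39) (kf xf14 yf44 zf15) (kf xf27 yf5 zf11) (kf xf27 yf5 zf12) (kf xf27 yf5 zf6) (kf xf31 yf33 zf34) (kf xf31 yf33 zf37) (kf xf14 yf44 zf17) (kf xf22 yf27 zf30) (kf xf24 yf25 zf3) (kf xf24 yf2 zf61) (kf xf30 yf42 zf57) (kf xf24 yf24 zf40) (kf xf14 yf47 zf19)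 (kf xf17 yf56 zf8) (kf xf17 yf31 zf10) (kf xf20 yf41 zf15) (kf xf21 yf54 zf53) (kf xf29 yf3 zf0) (kf xf28 yf51 zf1) (kf xf28 yf50 zf22) (kf xf14 yf44 zf29) (kf xf23 yf3 zf9) (kf xf29 yf27 zf10) (kf xf31 yf0 zf38) (kf xf25 yf52 zf6) (kf xf15 yf58 zf52) (kf xf29 yf59 zf1) (kf xf30 yf1 zf56) (kf xf30 yf1 zf57) (kf xf29 yf57 zf36) (kf xf28 yf42 zf54) (kf xf29 yf50 zf41) (kf xf23 yf24 zf33) (kf xf23 yf24 zf34) (kf xf29 yf59 zf27) (kf xf22 yf31 zf16) (kf xf22 yf31 zf17) (kf xf27 yf47 zf42) (kf xf29 yf51 zf39) (kf xf26 yf57 zf41) (kf xf29 yf51 zf36) (kf xf30 yf32 zf35) (kf xf31 yf33 zf46) (kf xf26 yf48 zf55) (kf xf26 yf48 zf53)) (@D3.rec (fun _ => Pt) (kf xf14 yf44 zf50) (kf xf26 yf48 zf40) (kf xf26 yf22 zf33) (kf xf24 yf9 zf38) (kf xf20 yf27 zf54) (kf xf29 yf11 zf45) (kf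 xf26 yf25 zf32) (kf xf24 yf44 zf3) (kf xf28 yf28 zf3) (kf xf23 yf20 zf39) (kf xf27 yf1 zf19) (kf xf18 yf23 zf43) (kf xf23 yf20 zf40) (kf xf23 yf20 zf42) (kf xf29 yf42 zf42) (kf xf28 yf1 zf5) (kf xf14 yf45 zf1) (kf xf23 yf8 zf3) (kf xf28 yf28 zf34) (kf xf23 yf8 zf2) (kf xf23 yf20 zf1) (kf xf23 yf20 zf57) (kf xf18 yf28 zf15) (kf xf23 yf20 zf55) (kf xf22 yf54 zf41) (kf xf23 yf20 zf51) (kf xf29 yf11 zf43) (kf xf23 yf15 zf56) (kf xf31 yf33 zf54) (kf xf14 yf45 zf22) (kf xf14 yf45 zf19) (kf xf30 yf7 zf22) (kf xf30 yf7 zf23) (kf xf30 yf7 zf17) (kf xf31 yf33 zf59) (kf xf31 yf33 zf53) (kf xf26 yf57 zf39) (kf xf26 yf11 zf56) (kf xf14 yf45 zf21) (kf xf30 yf59 zf59) (kf xf23 yf15 zf11) (kf xf18 yf40 zf50) (kf xf23 yf44 zf8) (kf xf30 yf7 zf18) (kf xf30 yf37 zf36) (kf xf26 yf0 zf21)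 (kf xf30 yf7 zf20) (kf xf30 yf33 zf24) (kf xf28 yf41 zf32) (kf xf14 yf45 zf28) (kf xf21 yf6 zf45) (kf xf24 yf47 zf9) (kf xf20 yf18 zf61) (kf xf24 yf35 zf10) (kf xf24 yf35 zf12) (kf xf16 yf12 zf33) (kf xf16 yf11 zf35) (kf xf24 yf41 zf10) (kf xf24 yf35 zf8) (kf xf31 yf29 zf31) (kf xf19 yf55 zf49) (kf xf24 yf35 zf16)) (@D3.rec (fun _ => Pt) (kf xf21 yf8 zf36) (kf xf24 yf35 zf14) (kf xf26 yf34 zf55) (kf xf20 yf53 zf61) (kf xf26 yf36 zf31) (kf xf14 yf46 zf46) (kf xf21 yf7 zf6) (kf xf14 yf45 zf59) (kf xf22 yf5 zf32) (kf xf14 yf47 zf30) (kf xf14 yf47 zf29) (kf xf14 yf45 zf54) (kf xf14 yf47 zf43) (kf xf14 yf47 zf40) (kf xf14 yf47 zf39) (kf xf14 yf45 zf56) (kf xf14 yf47 zf58) (kf xf15 yf25 zf39) (kf xf14 yf48 zf39) (kf xf22 yf23 zf44) (kf xf16 yf29 zf46) (kf xf29 yf15 zf9) (kf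 xf14 yf46 zf14) (kf xf14 yf46 zf12) (kf xf30 yf25 zf23) (kf xf24 yf10 zf40) (kf xf17 yf41 zf46) (kf xf25 yf37 zf1) (kf xf26 yf7 zf50) (kf xf15 yf1 zf18) (kf xf26 yf1 zf24) (kf xf15 yf49 zf42) (kf xf24 yf36 zf16) (kf xf24 yf36 zf15) (kf xf24 yf42 zf4) (kf xf24 yf43 zf55) (kf xf26 yf1 zf20) (kf xf23 yf22 zf60) (kf xf23 yf22 zf57) (kf xf24 yf43 zf9) (kf xf24 yf36 zf0) (kf xf14 yf46 zf28) (kf xf24 yf43 zf16) (kf xf24 yf43 zf17) (kf xf20 yf18 zf36) (kf xf24 yf53 zf11) (kf xf20 yf13 zf16) (kf xf16 yf7 zf45) (kf xf15 yf43 zf24) (kf xf17 yf3 zf14) (kf xf20 yf13 zf6) (kf xf15 yf3 zf6) (kf xf25 yf17 zf30) (kf xf23 yf29 zf3) (kf xf24 yf42 zf2) (kf xf24 yf22 zf31) (kf xf24 yf22 zf33) (kf xf22 yf5 zf33) (kf xf17 yf51 zf41) (kf xf17 yf51 zf45) (kf xf14 yf46 zf47) (kf xf19 yf44 zf57))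 (@D3.rec (fun _ => Pt) (kf xf28 yf10 zf18) (kf xf20 yf53 zf30) (kf xf31 yf5 zf55) (kf xf27 yf56 zf48) (kf xf20 yf52 zf61) (kf xf21 yf40 zf40) (kf xf22 yf5 zf0) (kf xf17 yf59 zf22) (kf xf29 yf42 zf23) (kf xf14 yf46 zf56) (kf xf26 yf59 zf42) (kf xf28 yf25 zf13) (kf xf14 yf46 zf58) (kf xf30 yf5 zf20) (kf xf20 yf13 zf15) (kf xf14 yf46 zf59) (kf xf14 yf47 zf57) (kf xf19 yf56 zf34) (kf xf25 yf37 zf44) (kf xf26 yf2 zf0) (kf xf15 yf1 zf39) (kf xf19 yf5 zf55) (kf xf20 yf26 zf40) (kf xf15 yf2 zf60) (kf xf31 yf21 zf14) (kf xf26 yf34 zf47) (kf xf28 yf54 zf18) (kf xf18 yf1 zf34) (kf xf14 yf47 zf10) (kf xf18 yf1 zf25) (kf xf24 yf49 zf61) (kf xf22 yf5 zf31) (kf xf26 yf41 zf12) (kf xf23 yf31 zf0) (kf xf23 yf31 zf1) (kf xf31 yf34 zf18) (kf xf18 yf52 zf51) (kf xf26 yf9 zf57) (kf xf20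 yf50 zf12) (kf xf28 yf31 zf27) (kf xf30 yf47 zf58) (kf xf19 yf26 zf9) (kf xf30 yf47 zf59) (kf xf18 yf52 zf46) (kf xf30 yf56 zf39) (kf xf28 yf49 zf40) (kf xf31 yf34 zf36) (kf xf14 yf47 zf23) (kf xf30 yf2 zf45) (kf xf20 yf50 zf22) (kf xf27 yf44 zf16) (kf xf31 yf34 zf39) (kf xf20 yf20 zf36) (kf xf17 yf23 zf50) (kf xf14 yf47 zf28) (kf xf31 yf29 zf29) (kf xf23 yf30 zf7) (kf xf24 yf41 zf61) (kf xf30 yf18 zf16) (kf xf30 yf40 zf38) (kf xf30 yf40 zf37) (kf xf14 yf47 zf31)) (@D3.rec (fun _ => Pt) (kf xf31 yf11 zf52) (kf xf19 yf55 zf24) (kf xf22 yf21 zf15) (kf xf29 yf13 zf24) (kf xf31 yf11 zf59) (kf xf25 yf11 zf10) (kf xf14 yf47 zf35) (kf xf27 yf37 zf29) (kf xf14 yf47 zf38) (kf xf16 yf41 zf52) (kf xf24 yf41 zf28) (kf xf24 yf42 zf50) (kf xf19 yf5 zf51) (kf xf31 yf34 zf13) (kf xf19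 yf15 zf13) (kf xf27 yf36 zf48) (kf xf18 yf38 zf10) (kf xf14 yf47 zf46) (kf xf18 yf0 zf43) (kf xf28 yf36 zf48) (kf xf14 yf47 zf54) (kf xf31 yf34 zf20) (kf xf30 yf12 zf37) (kf xf29 yf6 zf3) (kf xf31 yf34 zf44) (kf xf25 yf49 zf41) (kf xf25 yf9 zf10) (kf xf22 yf30 zf30) (kf xf14 yf48 zf8) (kf xf31 yf29 zf39) (kf xf25 yf51 zf58) (kf xf28 yf44 zf17) (kf xf27 yf44 zf3) (kf xf22 yf5 zf35) (kf xf14 yf48 zf20) (kf xf22 yf20 zf36) (kf xf26 yf22 zf19) (kf xf22 yf20 zf40) (kf xf28 yf33 zf61) (kf xf20 yf41 zf13) (kf xf22 yf20 zf44) (kf xf14 yf48 zf23) (kf xf23 yf28 zf20) (kf xf24 yf0 zf13) (kf xf26 yf36 zf41) (kf xf30 yf10 zf57) (kf xf22 yf27 zf15) (kf xf27 yf17 zf59) (kf xf14 yf48 zf37) (kf xf20 yf16 zf34) (kf xf23 yf27 zf57) (kf xf31 yf4 zf12) (kf xf31 yf4 zf11) (kf xf14 yf48 zf40)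 (kf xf14 yf48 zf43) (kf xf31 yf34 zf51) (kf xf15 yf15 zf15) (kf xf24 yf3 zf39) (kf xf31 yf34 zf52) (kf xf14 yf48 zf45) (kf xf19 yf28 zf4) (kf xf23 yf8 zf17)) (@D3.rec (fun _ => Pt) (kf xf30 yf19 zf55) (kf xf23 yf8 zf15) (kf xf23 yf8 zf14) (kf xf14 yf48 zf50) (kf xf24 yf41 zf7) (kf xf19 yf50 zf35) (kf xf20 yf23 zf59) (kf xf23 yf56 zf61) (kf xf24 yf31 zf58) (kf xf26 yf7 zf52) (kf xf24 yf31 zf53) (kf xf24 yf39 zf37) (kf xf24 yf31 zf54) (kf xf26 yf9 zf17) (kf xf24 yf32 zf1) (kf xf26 yf40 zf34) (kf xf24 yf31 zf61) (kf xf20 yf39 zf21) (kf xf31 yf35 zf3) (kf xf28 yf40 zf11) (kf xf14 yf49 zf3) (kf xf24 yf21 zf1) (kf xf14 yf50 zf32) (kf xf14 yf50 zf22) (kf xf17 yf32 zf13) (kf xf14 yf50 zf42) (kf xf14 yf50 zf44) (kf xf14 yf50 zf43) (kf xf31 yf35 zf9) (kf xf29 yf37 zf31) (kf xf14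 yf49 zf13) (kf xf14 yf49 zf22) (kf xf14 yf51 zf5) (kf xf14 yf51 zf4) (kf xf14 yf49 zf16) (kf xf14 yf51 zf11) (kf xf14 yf51 zf10) (kf xf29 yf15 zf30) (kf xf15 yf18 zf3) (kf xf14 yf49 zf20) (kf xf31 yf35 zf11) (kf xf14 yf51 zf25) (kf xf14 yf51 zf24) (kf xf14 yf51 zf44) (kf xf14 yf51 zf43) (kf xf14 yf49 zf24) (kf xf31 yf35 zf17) (kf xf14 yf51 zf55) (kf xf14 yf49 zf26) (kf xf14 yf52 zf7) (kf xf14 yf52 zf8) (kf xf23 yf52 zf5) (kf xf24 yf41 zf16) (kf xf24 yf41 zf12) (kf xf24 yf42 zf14) (kf xf14 yf49 zf50) (kf xf24 yf41 zf17) (kf xf19 yf48 zf32) (kf xf22 yf2 zf45) (kf xf24 yf41 zf18) (kf xf24 yf41 zf19) (kf xf24 yf41 zf20)) (@D3.rec (fun _ => Pt) (kf xf24 yf32 zf40) (kf xf25 yf39 zf26) (kf xf24 yf41 zf21) (kf xf24 yf41 zf22) (kf xf24 yf41 zf23) (kf xf14 yf49 zf46) (kf xf30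 yf12 zf49) (kf xf26 yf1 zf10) (kf xf23 yf35 zf0) (kf xf23 yf34 zf59) (kf xf14 yf49 zf51) (kf xf19 yf16 zf38) (kf xf21 yf51 zf54) (kf xf21 yf24 zf47) (kf xf25 yf45 zf50) (kf xf24 yf32 zf33) (kf xf24 yf32 zf32) (kf xf15 yf5 zf30) (kf xf26 yf50 zf12) (kf xf19 yf39 zf24) (kf xf31 yf35 zf26) (kf xf14 yf50 zf4) (kf xf19 yf33 zf46) (kf xf15 yf0 zf17) (kf xf17 yf54 zf48) (kf xf21 yf57 zf25) (kf xf21 yf57 zf46) (kf xf21 yf57 zf47) (kf xf21 yf57 zf48) (kf xf26 yf44 zf52) (kf xf20 yf43 zf37) (kf xf21 yf57 zf53) (kf xf16 yf49 zf22) (kf xf20 yf2 zf32) (kf xf31 yf35 zf10) (kf xf14 yf50 zf14) (kf xf20 yf34 zf30) (kf xf19 yf16 zf56) (kf xf25 yf50 zf39) (kf xf29 yf58 zf45) (kf xf25 yf50 zf38) (kf xf15 yf20 zf49) (kf xf26 yf15 zf27) (kf xf17 yf2 zf28) (kf xf21 yf29 zf35) (kf xf21 yf29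 zf38) (kf xf14 yf50 zf31) (kf xf16 yf29 zf11) (kf xf16 yf30 zf51) (kf xf17 yf31 zf50) (kf xf15 yf20 zf51) (kf xf24 yf43 zf0) (kf xf29 yf37 zf9) (kf xf25 yf14 zf51) (kf xf14 yf50 zf41) (kf xf31 yf35 zf5) (kf xf29 yf35 zf28) (kf xf31 yf35 zf6) (kf xf29 yf17 zf33) (kf xf29 yf15 zf39) (kf xf29 yf16 zf46) (kf xf31 yf35 zf45)) (@D3.rec (fun _ => Pt) (kf xf29 yf37 zf12) (kf xf14 yf50 zf45) (kf xf25 yf50 zf40) (kf xf21 yf57 zf57) (kf xf14 yf50 zf46) (kf xf14 yf51 zf23) (kf xf26 yf40 zf1) (kf xf31 yf35 zf51) (kf xf23 yf1 zf6) (kf xf23 yf1 zf5) (kf xf14 yf50 zf51) (kf xf24 yf38 zf4) (kf xf25 yf49 zf45) (kf xf24 yf37 zf61) (kf xf25 yf48 zf44) (kf xf25 yf49 zf31) (kf xf23 yf42 zf51) (kf xf25 yf49 zf4) (kf xf23 yf42 zf52) (kf xf25 yf49 zf33) (kf xf25 yf49 zf37) (kf xf24 yf9 zf47)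 (kf xf24 yf38 zf28) (kf xf24 yf38 zf24) (kf xf25 yf48 zf47) (kf xf31 yf35 zf13) (kf xf23 yf42 zf0) (kf xf20 yf16 zf24) (kf xf31 yf34 zf57) (kf xf31 yf35 zf12) (kf xf23 yf34 zf37) (kf xf25 yf33 zf3) (kf xf26 yf40 zf18) (kf xf26 yf4 zf57) (kf xf30 yf9 zf14) (kf xf26 yf6 zf29) (kf xf14 yf51 zf15) (kf xf29 yf37 zf30) (kf xf24 yf8 zf33) (kf xf31 yf35 zf14) (kf xf28 yf30 zf37) (kf xf31 yf35 zf47) (kf xf23 yf59 zf11) (kf xf25 yf33 zf16) (kf xf27 yf43 zf44) (kf xf23 yf24 zf31) (kf xf25 yf33 zf17) (kf xf29 yf59 zf60) (kf xf22 yf21 zf14) (kf xf17 yf4 zf10) (kf xf25 yf38 zf13) (kf xf22 yf21 zf20) (kf xf15 yf38 zf5) (kf xf24 yf20 zf8) (kf xf29 yf9 zf41) (kf xf14 yf51 zf29) (kf xf29 yf9 zf40) (kf xf31 yf36 zf11) (kf xf30 yf54 zf56) (kf xf29 yf9 zf36) (kf xf15 yf41 zf39) (kf xf24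 yf37 zf13)) (@D3.rec (fun _ => Pt) (kf xf31 yf36 zf17) (kf xf29 yf59 zf47) (kf xf31 yf9 zf25) (kf xf14 yf51 zf37) (kf xf24 yf37 zf11) (kf xf15 yf53 zf51) (kf xf26 yf1 zf16) (kf xf26 yf1 zf15) (kf xf29 yf28 zf16) (kf xf15 yf31 zf43) (kf xf14 yf51 zf42) (kf xf31 yf35 zf15) (kf xf23 yf45 zf7) (kf xf25 yf0 zf0) (kf xf24 yf20 zf4) (kf xf29 yf59 zf49) (kf xf15 yf55 zf48) (kf xf28 yf49 zf43) (kf xf21 yf45 zf26) (kf xf31 yf36 zf26) (kf xf14 yf51 zf49) (kf xf25 yf48 zf56) (kf xf31 yf36 zf28) (kf xf14 yf51 zf53) (kf xf24 yf37 zf23) (kf xf23 yf40 zf14) (kf xf24 yf22 zf28) (kf xf31 yf35 zf18) (kf xf24 yf37 zf22) (kf xf24 yf42 zf38) (kf xf24 yf42 zf37) (kf xf14 yf51 zf56) (kf xf22 yf21 zf21) (kf xf30 yf55 zf50) (kf xf18 yf45 zf59) (kf xf19 yf3 zf17) (kf xf22 yf13 zf12) (kf xf29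 yf1 zf26) (kf xf14 yf52 zf1) (kf xf19 yf10 zf8) (kf xf19 yf8 zf50) (kf xf14 yf52 zf5) (kf xf30 yf21 zf12) (kf xf30 yf52 zf55) (kf xf26 yf27 zf0) (kf xf21 yf40 zf25) (kf xf28 yf47 zf8) (kf xf29 yf50 zf43) (kf xf31 yf19 zf16) (kf xf25 yf55 zf60) (kf xf24 yf44 zf19) (kf xf30 yf51 zf46) (kf xf15 yf36 zf13) (kf xf25 yf55 zf59) (kf xf15 yf36 zf12) (kf xf31 yf19 zf15) (kf xf22 yf57 zf16) (kf xf18 yf11 zf26) (kf xf22 yf57 zf19) (kf xf22 yf57 zf18) (kf xf22 yf55 zf0) (kf xf30 yf54 zf51)) (@D3.rec (fun _ => Pt) (kf xf22 yf54 zf60) (kf xf31 yf36 zf42) (kf xf22 yf55 zf3) (kf xf22 yf55 zf2) (kf xf25 yf34 zf49) (kf xf24 yf9 zf13) (kf xf24 yf13 zf31) (kf xf24 yf9 zf10) (kf xf20 yf49 zf34) (kf xf23 yf5 zf45) (kf xf21 yf45 zf25) (kf xf22 yf21 zf44) (kf xf29 yf23 zf9) (kf xf22 yf19 zf52)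 (kf xf29 yf1 zf47) (kf xf26 yf10 zf32) (kf xf22 yf21 zf52) (kf xf22 yf21 zf51) (kf xf14 yf52 zf40) (kf xf31 yf28 zf44) (kf xf22 yf22 zf2) (kf xf22 yf22 zf1) (kf xf14 yf52 zf43) (kf xf20 yf45 zf4) (kf xf14 yf52 zf44) (kf xf17 yf2 zf60) (kf xf17 yf31 zf13) (kf xf22 yf20 zf20) (kf xf17 yf24 zf12) (kf xf28 yf48 zf25) (kf xf14 yf52 zf51) (kf xf22 yf20 zf42) (kf xf14 yf52 zf54) (kf xf22 yf20 zf52) (kf xf14 yf52 zf55) (kf xf22 yf20 zf57) (kf xf14 yf52 zf57) (kf xf24 yf35 zf11) (kf xf26 yf57 zf14) (kf xf22 yf19 zf56) (kf xf23 yf9 zf41) (kf xf27 yf36 zf1) (kf xf31 yf28 zf45) (kf xf23 yf46 zf52) (kf xf31 yf36 zf49) (kf xf19 yf8 zf55) (kf xf14 yf53 zf7) (kf xf31 yf10 zf6) (kf xf29 yf39 zf1) (kf xf14 yf53 zf9) (kf xf15 yf20 zf34) (kf xf19 yf19 zf59) (kf xf19 yf19 zf60) (kf xf30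 yf22 zf50) (kf xf16 yf54 zf5) (kf xf16 yf54 zf6) (kf xf19 yf20 zf23) (kf xf31 yf9 zf52) (kf xf31 yf19 zf40) (kf xf27 yf17 zf36) (kf xf28 yf19 zf21) (kf xf19 yf19 zf42)) (@D3.rec (fun _ => Pt) (kf xf30 yf19 zf39) (kf xf23 yf38 zf27) (kf xf30 yf47 zf7) (kf xf25 yf44 zf16) (kf xf23 yf38 zf56) (kf xf14 yf53 zf21) (kf xf23 yf45 zf34) (kf xf23 yf41 zf3) (kf xf30 yf10 zf0) (kf xf14 yf53 zf26) (kf xf31 yf9 zf30) (kf xf31 yf9 zf29) (kf xf17 yf59 zf5) (kf xf25 yf57 zf42) (kf xf25 yf57 zf53) (kf xf23 yf2 zf10) (kf xf27 yf1 zf47) (kf xf31 yf11 zf9) (kf xf31 yf4 zf31) (kf xf31 yf11 zf10) (kf xf31 yf6 zf16) (kf xf28 yf27 zf11) (kf xf23 yf16 zf35) (kf xf14 yf53 zf32) (kf xf23 yf7 zf23) (kf xf22 yf18 zf49) (kf xf16 yf21 zf26) (kf xf14 yf53 zf35) (kf xf24 yf40 zf35) (kf xf19 yf42 zf14)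 (kf xf18 yf50 zf2) (kf xf18 yf50 zf1) (kf xf15 yf50 zf58) (kf xf30 yf11 zf60) (kf xf22 yf51 zf13) (kf xf24 yf40 zf28) (kf xf28 yf30 zf16) (kf xf22 yf29 zf58) (kf xf31 yf24 zf16) (kf xf20 yf7 zf59) (kf xf24 yf5 zf24) (kf xf30 yf36 zf57) (kf xf22 yf37 zf31) (kf xf14 yf53 zf52) (kf xf23 yf34 zf54) (kf xf23 yf34 zf55) (kf xf18 yf6 zf56) (kf xf24 yf42 zf25) (kf xf23 yf34 zf57) (kf xf24 yf41 zf58) (kf xf23 yf34 zf43) (kf xf21 yf46 zf60) (kf xf30 yf0 zf19) (kf xf23 yf34 zf61) (kf xf25 yf38 zf19) (kf xf23 yf35 zf2) (kf xf18 yf6 zf12) (kf xf18 yf6 zf11) (kf xf27 yf24 zf58) (kf xf31 yf37 zf18) (kf xf28 yf41 zf20) (kf xf14 yf53 zf61)) (@D3.rec (fun _ => Pt) (kf xf23 yf35 zf29) (kf xf23 yf35 zf31) (kf xf27 yf25 zf1) (kf xf29 yf17 zf10) (kf xf14 yf54 zf1) (kf xf24 yf41 zf25) (kf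 xf21 yf28 zf13) (kf xf24 yf35 zf4) (kf xf21 yf40 zf52) (kf xf21 yf8 zf35) (kf xf24 yf31 zf57) (kf xf23 yf58 zf15) (kf xf24 yf35 zf53) (kf xf24 yf43 zf51) (kf xf21 yf39 zf14) (kf xf21 yf21 zf43) (kf xf24 yf35 zf52) (kf xf24 yf35 zf56) (kf xf24 yf35 zf59) (kf xf24 yf35 zf60) (kf xf24 yf35 zf61) (kf xf24 yf36 zf2) (kf xf24 yf36 zf3) (kf xf24 yf36 zf4) (kf xf30 yf8 zf61) (kf xf24 yf41 zf5) (kf xf30 yf8 zf25) (kf xf14 yf54 zf20) (kf xf24 yf34 zf10) (kf xf15 yf13 zf35) (kf xf17 yf42 zf33) (kf xf14 yf54 zf26) (kf xf21 yf55 zf20) (kf xf23 yf31 zf46) (kf xf15 yf22 zf54) (kf xf21 yf41 zf10) (kf xf21 yf23 zf58) (kf xf14 yf54 zf29) (kf xf24 yf43 zf23) (kf xf24 yf43 zf24) (kf xf26 yf12 zf19) (kf xf24 yf42 zf22) (kf xf24 yf43 zf26) (kf xf24 yf43 zf28) (kf xf24 yf43 zf29) (kf xf24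 yf43 zf30) (kf xf21 yf55 zf56) (kf xf23 yf24 zf20) (kf xf21 yf46 zf54) (kf xf21 yf46 zf49) (kf xf21 yf56 zf31) (kf xf24 yf41 zf60) (kf xf29 yf17 zf3) (kf xf16 yf14 zf61) (kf xf16 yf14 zf59) (kf xf27 yf31 zf36) (kf xf20 yf54 zf40) (kf xf14 yf54 zf46) (kf xf24 yf40 zf49) (kf xf24 yf43 zf38) (kf xf24 yf41 zf51) (kf xf24 yf33 zf57)) (@D3.rec (fun _ => Pt) (kf xf21 yf8 zf34) (kf xf24 yf42 zf21) (kf xf24 yf32 zf54) (kf xf23 yf42 zf21) (kf xf24 yf32 zf34) (kf xf24 yf42 zf19) (kf xf29 yf51 zf23) (kf xf24 yf42 zf15) (kf xf24 yf42 zf16) (kf xf14 yf54 zf54) (kf xf24 yf43 zf42) (kf xf21 yf33 zf3) (kf xf24 yf43 zf45) (kf xf24 yf43 zf46) (kf xf24 yf35 zf54) (kf xf24 yf42 zf7) (kf xf24 yf42 zf8) (kf xf14 yf54 zf59) (kf xf18 yf7 zf8) (kf xf24 yf42 zf5) (kf xf28 yf31 zf12) (kf xf24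 yf42 zf1) (kf xf24 yf41 zf41) (kf xf14 yf54 zf61) (kf xf23 yf58 zf16) (kf xf24 yf40 zf47) (kf xf23 yf26 zf8) (kf xf24 yf42 zf35) (kf xf29 yf10 zf61) (kf xf14 yf55 zf7) (kf xf24 yf10 zf4) (kf xf25 yf39 zf19) (kf xf29 yf58 zf37) (kf xf31 yf5 zf13) (kf xf22 yf27 zf13) (kf xf24 yf42 zf27) (kf xf29 yf10 zf7) (kf xf24 yf38 zf30) (kf xf24 yf38 zf29) (kf xf14 yf55 zf18) (kf xf30 yf41 zf7) (kf xf22 yf1 zf48) (kf xf31 yf37 zf32) (kf xf23 yf24 zf12) (kf xf30 yf19 zf44) (kf xf19 yf38 zf53) (kf xf23 yf24 zf23) (kf xf23 yf24 zf24) (kf xf19 yf35 zf17) (kf xf29 yf59 zf41) (kf xf24 yf34 zf11) (kf xf31 yf36 zf8) (kf xf14 yf55 zf27) (kf xf30 yf2 zf22) (kf xf23 yf56 zf53) (kf xf16 yf3 zf8) (kf xf21 yf46 zf42) (kf xf22 yf8 zf40) (kf xf24 yf43 zf48) (kf xf24 yf43 zf49) (kf xf14 yf56 zf24)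 (kf xf14 yf56 zf26)) (@D3.rec (fun _ => Pt) (kf xf24 yf36 zf51) (kf xf14 yf56 zf20) (kf xf23 yf22 zf13) (kf xf31 yf37 zf35) (kf xf23 yf37 zf52) (kf xf19 yf16 zf39) (kf xf24 yf9 zf49) (kf xf17 yf38 zf39) (kf xf30 yf51 zf47) (kf xf24 yf32 zf39) (kf xf18 yf6 zf6) (kf xf31 yf37 zf57) (kf xf29 yf52 zf11) (kf xf19 yf16 zf34) (kf xf14 yf55 zf46) (kf xf17 yf38 zf54) (kf xf24 yf32 zf42) (kf xf24 yf32 zf43) (kf xf26 yf14 zf34) (kf xf26 yf14 zf33) (kf xf14 yf55 zf48) (kf xf21 yf19 zf35) (kf xf25 yf2 zf31) (kf xf24 yf41 zf38) (kf xf24 yf41 zf39) (kf xf26 yf1 zf7) (kf xf24 yf41 zf42) (kf xf29 yf11 zf12) (kf xf24 yf41 zf43) (kf xf24 yf41 zf44) (kf xf24 yf41 zf45) (kf xf30 yf8 zf45) (kf xf26 yf48 zf14) (kf xf23 yf36 zf9) (kf xf21 yf42 zf14) (kf xf30 yf20 zf17) (kf xf14 yf56 zf8) (kf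 xf23 yf34 zf56) (kf xf24 yf41 zf59) (kf xf29 yf51 zf11) (kf xf21 yf48 zf55) (kf xf21 yf46 zf43) (kf xf24 yf42 zf10) (kf xf19 yf22 zf51) (kf xf23 yf30 zf16) (kf xf24 yf42 zf12) (kf xf24 yf42 zf13) (kf xf23 yf29 zf31) (kf xf24 yf42 zf58) (kf xf24 yf42 zf59) (kf xf22 yf28 zf19) (kf xf24 yf41 zf13) (kf xf17 yf36 zf10) (kf xf30 yf30 zf49) (kf xf14 yf56 zf23) (kf xf24 yf32 zf35) (kf xf24 yf52 zf23) (kf xf15 yf53 zf35) (kf xf30 yf30 zf50) (kf xf31 yf6 zf6) (kf xf25 yf2 zf39) (kf xf23 yf2 zf9)) (@D3.rec (fun _ => Pt) (kf xf29 yf12 zf19) (kf xf25 yf2 zf40) (kf xf31 yf5 zf56) (kf xf24 yf31 zf7) (kf xf24 yf58 zf56) (kf xf24 yf58 zf55) (kf xf22 yf8 zf49) (kf xf17 yf45 zf20) (kf xf14 yf56 zf44) (kf xf22 yf15 zf8) (kf xf22 yf15 zf9) (kf xf22 yf15 zf10) (kf xf27 yf31 zf13) (kf xf18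 yf16 zf32) (kf xf21 yf4 zf39) (kf xf14 yf56 zf50) (kf xf28 yf14 zf41) (kf xf27 yf45 zf18) (kf xf28 yf16 zf20) (kf xf24 yf38 zf50) (kf xf22 yf13 zf28) (kf xf14 yf56 zf52) (kf xf23 yf13 zf22) (kf xf18 yf42 zf0) (kf xf23 yf18 zf34) (kf xf23 yf18 zf33) (kf xf14 yf56 zf56) (kf xf14 yf57 zf29) (kf xf15 yf6 zf54) (kf xf23 yf34 zf48) (kf xf27 yf26 zf59) (kf xf26 yf14 zf21) (kf xf23 yf34 zf49) (kf xf27 yf27 zf0) (kf xf27 yf28 zf51) (kf xf16 yf14 zf49) (kf xf16 yf14 zf48) (kf xf14 yf57 zf2) (kf xf16 yf13 zf42) (kf xf16 yf15 zf35) (kf xf16 yf15 zf36) (kf xf21 yf33 zf25) (kf xf28 yf10 zf15) (kf xf16 yf15 zf21) (kf xf26 yf0 zf59) (kf xf16 yf15 zf0) (kf xf16 yf15 zf1) (kf xf16 yf15 zf5) (kf xf29 yf17 zf23) (kf xf31 yf38 zf15) (kf xf27 yf26 zf34) (kf xf30 yf15 zf4) (kf xf28 yf1 zf55)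 (kf xf14 yf57 zf20) (kf xf16 yf15 zf57) (kf xf16 yf15 zf56) (kf xf31 yf38 zf18) (kf xf14 yf57 zf21) (kf xf29 yf22 zf59) (kf xf26 yf5 zf50) (kf xf16 yf16 zf35) (kf xf16 yf16 zf28)) (@D3.rec (fun _ => Pt) (kf xf16 yf16 zf29) (kf xf27 yf25 zf2) (kf xf26 yf2 zf51) (kf xf27 yf24 zf55) (kf xf20 yf4 zf5) (kf xf16 yf17 zf12) (kf xf30 yf4 zf12) (kf xf16 yf17 zf15) (kf xf18 yf27 zf22) (kf xf27 yf27 zf5) (kf xf30 yf6 zf31) (kf xf23 yf35 zf39) (kf xf18 yf6 zf55) (kf xf14 yf57 zf54) (kf xf14 yf57 zf55) (kf xf30 yf4 zf18) (kf xf18 yf7 zf1) (kf xf27 yf30 zf42) (kf xf26 yf13 zf57) (kf xf26 yf3 zf1) (kf xf18 yf18 zf14) (kf xf30 yf8 zf52) (kf xf14 yf57 zf51) (kf xf27 yf26 zf54) (kf xf31 yf38 zf26) (kf xf14 yf57 zf52) (kf xf28 yf4 zf16) (kf xf17 yf45 zf17) (kf xf24 yf58 zf15) (kf xf18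 yf8 zf50) (kf xf16 yf22 zf52) (kf xf16 yf22 zf53) (kf xf24 yf56 zf0) (kf xf18 yf6 zf50) (kf xf18 yf4 zf27) (kf xf16 yf18 zf40) (kf xf16 yf18 zf41) (kf xf16 yf18 zf37) (kf xf16 yf18 zf38) (kf xf24 yf28 zf26) (kf xf16 yf18 zf50) (kf xf16 yf18 zf49) (kf xf26 yf16 zf43) (kf xf16 yf14 zf16) (kf xf16 yf18 zf57) (kf xf16 yf18 zf54) (kf xf14 yf58 zf9) (kf xf25 yf39 zf0) (kf xf16 yf20 zf0) (kf xf27 yf26 zf50) (kf xf27 yf54 zf21) (kf xf16 yf19 zf47) (kf xf24 yf54 zf7) (kf xf16 yf19 zf41) (kf xf16 yf19 zf43) (kf xf31 yf38 zf39) (kf xf31 yf38 zf42) (kf xf14 yf58 zf26) (kf xf20 yf29 zf37) (kf xf24 yf54 zf36) (kf xf16 yf20 zf49) (kf xf31 yf38 zf46)) (@D3.rec (fun _ => Pt) (kf xf23 yf7 zf35) (kf xf16 yf33 zf9) (kf xf31 yf32 zf46) (kf xf16 yf33 zf1) (kf xf26 yf50 zf7) (kf xf14 yf58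 zf50) (kf xf14 yf58 zf49) (kf xf15 yf4 zf19) (kf xf14 yf58 zf56) (kf xf28 yf22 zf44) (kf xf31 yf38 zf50) (kf xf16 yf22 zf31) (kf xf14 yf58 zf45) (kf xf22 yf36 zf14) (kf xf16 yf18 zf18) (kf xf28 yf17 zf37) (kf xf17 yf33 zf7) (kf xf19 yf30 zf32) (kf xf14 yf58 zf52) (kf xf24 yf21 zf50) (kf xf31 yf33 zf16) (kf xf14 yf58 zf53) (kf xf28 yf30 zf59) (kf xf28 yf26 zf60) (kf xf19 yf13 zf16) (kf xf14 yf58 zf58) (kf xf29 yf19 zf4) (kf xf16 yf22 zf39) (kf xf24 yf18 zf11) (kf xf22 yf18 zf20) (kf xf24 yf17 zf60) (kf xf14 yf58 zf61) (kf xf16 yf22 zf32) (kf xf19 yf1 zf44) (kf xf16 yf22 zf35) (kf xf14 yf59 zf1) (kf xf19 yf1 zf19) (kf xf29 yf18 zf56) (kf xf14 yf59 zf4) (kf xf16 yf18 zf14) (kf xf25 yf0 zf48) (kf xf31 yf32 zf58) (kf xf14 yf59 zf11) (kf xf16 yf22 zf60) (kf xf16 yf22 zf61)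 (kf xf16 yf22 zf57) (kf xf16 yf22 zf58) (kf xf16 yf23 zf1) (kf xf16 yf23 zf0) (kf xf16 yf32 zf34) (kf xf14 yf59 zf14) (kf xf16 yf23 zf19) (kf xf15 yf14 zf48) (kf xf18 yf7 zf10) (kf xf16 yf23 zf9) (kf xf16 yf23 zf10) (kf xf16 yf23 zf27) (kf xf16 yf23 zf25) (kf xf24 yf22 zf3) (kf xf15 yf8 zf3) (kf xf16 yf24 zf6) (kf xf19 yf49 zf54)) (@D3.rec (fun _ => Pt) (kf xf28 yf48 zf41) (kf xf28 yf56 zf20) (kf xf28 yf14 zf11) (kf xf14 yf59 zf37) (kf xf17 yf11 zf34) (kf xf26 yf22 zf31) (kf xf15 yf6 zf37) (kf xf16 yf25 zf41) (kf xf23 yf20 zf37) (kf xf24 yf31 zf51) (kf xf26 yf30 zf0) (kf xf27 yf57 zf40) (kf xf23 yf46 zf61) (kf xf19 yf18 zf41) (kf xf19 yf18 zf40) (kf xf14 yf59 zf53) (kf xf16 yf12 zf42) (kf xf16 yf12 zf43) (kf xf16 yf12 zf41) (kf xf15 yf0 zf9) (kf xf15 yf0 zf16) (kf xf15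 yf0 zf18) (kf xf20 yf8 zf30) (kf xf15 yf0 zf14) (kf xf15 yf0 zf5) (kf xf16 yf53 zf11) (kf xf20 yf30 zf38) (kf xf15 yf8 zf11) (kf xf19 yf33 zf38) (kf xf27 yf5 zf26) (kf xf18 yf41 zf0) (kf xf23 yf7 zf9) (kf xf16 yf32 zf61) (kf xf31 yf39 zf5) (kf xf16 yf28 zf8) (kf xf26 yf25 zf19) (kf xf26 yf22 zf10) (kf xf20 yf27 zf53) (kf xf28 yf44 zf8) (kf xf26 yf5 zf20) (kf xf20 yf32 zf11) (kf xf30 yf12 zf16) (kf xf16 yf33 zf17) (kf xf15 yf0 zf23) (kf xf16 yf33 zf2) (kf xf16 yf21 zf33) (kf xf16 yf33 zf0) (kf xf16 yf33 zf5) (kf xf16 yf33 zf4) (kf xf16 yf33 zf25) (kf xf16 yf33 zf26) (kf xf19 yf20 zf46) (kf xf16 yf32 zf46) (kf xf20 yf32 zf1) (kf xf16 yf33 zf6) (kf xf16 yf33 zf7) (kf xf18 yf47 zf5) (kf xf18 yf47 zf6) (kf xf18 yf47 zf7) (kf xf18 yf47 zf8) (kf xf28 yf8 zf58) (kf xf29 yf53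 zf9)) (@D3.rec (fun _ => Pt) (kf xf27 yf49 zf20) (kf xf17 yf46 zf37) (kf xf18 yf6 zf49) (kf xf18 yf6 zf53) (kf xf31 yf39 zf22) (kf xf31 yf39 zf23) (kf xf27 yf50 zf21) (kf xf15 yf0 zf40) (kf xf28 yf8 zf59) (kf xf27 yf33 zf21) (kf xf21 yf11 zf2) (kf xf28 yf31 zf49) (kf xf28 yf4 zf33) (kf xf28 yf4 zf34) (kf xf25 yf1 zf53) (kf xf26 yf31 zf20) (kf xf18 yf45 zf57) (kf xf26 yf30 zf41) (kf xf24 yf48 zf31) (kf xf24 yf48 zf30) (kf xf15 yf0 zf47) (kf xf15 yf14 zf50) (kf xf27 yf51 zf24) (kf xf22 yf18 zf4) (kf xf27 yf51 zf25) (kf xf27 yf51 zf27) (kf xf27 yf51 zf29) (kf xf27 yf51 zf30) (kf xf25 yf24 zf2) (kf xf19 yf7 zf19) (kf xf24 yf48 zf19) (kf xf24 yf48 zf18) (kf xf15 yf1 zf52) (kf xf15 yf1 zf54) (kf xf15 yf1 zf55) (kf xf19 yf59 zf19) (kf xf19 yf59 zf20) (kf xf15 yf1 zf33) (kf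 xf20 yf5 zf6) (kf xf31 yf34 zf23) (kf xf15 yf1 zf59) (kf xf20 yf5 zf7) (kf xf15 yf2 zf19) (kf xf15 yf2 zf21) (kf xf15 yf2 zf22) (kf xf28 yf45 zf11) (kf xf25 yf19 zf48) (kf xf25 yf19 zf49) (kf xf15 yf2 zf26) (kf xf15 yf2 zf25) (kf xf21 yf50 zf52) (kf xf15 yf1 zf4) (kf xf15 yf1 zf8) (kf xf30 yf7 zf9) (kf xf15 yf1 zf7) (kf xf31 yf39 zf47) (kf xf28 yf19 zf14) (kf xf25 yf22 zf0) (kf xf29 yf2 zf36) (kf xf28 yf31 zf37) (kf xf28 yf31 zf35) (kf xf28 yf31 zf36)) (@D3.rec (fun _ => Pt) (kf xf25 yf10 zf36) (kf xf31 yf39 zf48) (kf xf25 yf19 zf31) (kf xf15 yf3 zf4) (kf xf15 yf3 zf3) (kf xf15 yf1 zf12) (kf xf25 yf19 zf35) (kf xf17 yf50 zf11) (kf xf19 yf13 zf45) (kf xf19 yf13 zf46) (kf xf26 yf1 zf22) (kf xf26 yf1 zf23) (kf xf29 yf57 zf29) (kf xf30 yf40 zf24) (kf xf27 yf25 zf29) (kf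 xf19 yf57 zf47) (kf xf19 yf57 zf48) (kf xf19 yf57 zf49) (kf xf28 yf55 zf16) (kf xf29 yf11 zf25) (kf xf16 yf9 zf34) (kf xf29 yf45 zf43) (kf xf15 yf1 zf23) (kf xf16 yf9 zf32) (kf xf16 yf9 zf30) (kf xf19 yf29 zf11) (kf xf19 yf29 zf12) (kf xf19 yf29 zf13) (kf xf19 yf29 zf14) (kf xf31 yf40 zf14) (kf xf29 yf11 zf18) (kf xf31 yf40 zf18) (kf xf15 yf1 zf29) (kf xf19 yf55 zf30) (kf xf19 yf55 zf26) (kf xf19 yf55 zf31) (kf xf25 yf20 zf29) (kf xf31 yf20 zf37) (kf xf25 yf20 zf30) (kf xf16 yf37 zf54) (kf xf31 yf40 zf29) (kf xf28 yf38 zf47) (kf xf31 yf40 zf31) (kf xf31 yf40 zf30) (kf xf28 yf38 zf61) (kf xf26 yf54 zf44) (kf xf15 yf1 zf37) (kf xf18 yf44 zf16) (kf xf24 yf52 zf48) (kf xf20 yf26 zf41) (kf xf31 yf34 zf22) (kf xf19 yf31 zf9) (kf xf25 yf37 zf39) (kf xf25 yf20 zf7) (kf xf25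 yf21 zf22) (kf xf25 yf21 zf19) (kf xf31 yf40 zf38) (kf xf15 yf1 zf42) (kf xf19 yf59 zf21) (kf xf19 yf59 zf22) (kf xf15 yf25 zf33) (kf xf24 yf33 zf30)) (@D3.rec (fun _ => Pt) (kf xf15 yf1 zf46) (kf xf15 yf34 zf58) (kf xf15 yf34 zf59) (kf xf15 yf34 zf60) (kf xf19 yf38 zf21) (kf xf19 yf38 zf22) (kf xf24 yf50 zf52) (kf xf25 yf20 zf23) (kf xf24 yf50 zf53) (kf xf31 yf40 zf45) (kf xf31 yf40 zf47) (kf xf29 yf2 zf18) (kf xf28 yf14 zf19) (kf xf31 yf24 zf0) (kf xf25 yf20 zf19) (kf xf28 yf59 zf18) (kf xf31 yf40 zf53) (kf xf15 yf1 zf56) (kf xf25 yf38 zf48) (kf xf25 yf38 zf44) (kf xf31 yf40 zf60) (kf xf15 yf1 zf57) (kf xf25 yf19 zf51) (kf xf31 yf36 zf56) (kf xf31 yf39 zf43) (kf xf31 yf39 zf42) (kf xf31 yf24 zf32) (kf xf15 yf1 zf60) (kf xf20 yf5 zf8) (kf xf20 yf5 zf9) (kf xf18 yf44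 zf13) (kf xf18 yf44 zf14) (kf xf18 yf44 zf15) (kf xf25 yf20 zf41) (kf xf25 yf20 zf42) (kf xf16 yf39 zf32) (kf xf25 yf20 zf44) (kf xf19 yf20 zf18) (kf xf26 yf37 zf54) (kf xf29 yf7 zf28) (kf xf28 yf43 zf14) (kf xf15 yf2 zf8) (kf xf31 yf41 zf14) (kf xf22 yf7 zf35) (kf xf15 yf28 zf3) (kf xf19 yf42 zf16) (kf xf25 yf21 zf20) (kf xf27 yf35 zf21) (kf xf17 yf52 zf52) (kf xf19 yf59 zf35) (kf xf15 yf20 zf7) (kf xf25 yf19 zf47) (kf xf24 yf50 zf6) (kf xf24 yf50 zf8) (kf xf28 yf22 zf0) (kf xf27 yf11 zf50) (kf xf31 yf36 zf54) (kf xf29 yf4 zf26) (kf xf24 yf52 zf0) (kf xf15 yf2 zf23) (kf xf25 yf41 zf37) (kf xf25 yf41 zf34)) (@D3.rec (fun _ => Pt) (kf xf31 yf41 zf19) (kf xf15 yf2 zf24) (kf xf28 yf31 zf20) (kf xf25 yf20 zf8) (kf xf25 yf21 zf1) (kf xf19 yf57 zf53) (kf xf19 yf57 zf50) (kf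 xf20 yf53 zf42) (kf xf24 yf51 zf54) (kf xf15 yf2 zf27) (kf xf17 yf53 zf16) (kf xf20 yf5 zf30) (kf xf25 yf11 zf13) (kf xf25 yf11 zf14) (kf xf24 yf58 zf38) (kf xf15 yf2 zf37) (kf xf25 yf21 zf28) (kf xf25 yf9 zf19) (kf xf25 yf10 zf61) (kf xf25 yf11 zf1) (kf xf25 yf11 zf2) (kf xf25 yf11 zf3) (kf xf20 yf55 zf52) (kf xf25 yf9 zf18) (kf xf25 yf22 zf4) (kf xf26 yf3 zf19) (kf xf19 yf9 zf11) (kf xf15 yf2 zf38) (kf xf26 yf37 zf38) (kf xf26 yf1 zf59) (kf xf19 yf50 zf31) (kf xf19 yf50 zf28) (kf xf25 yf21 zf36) (kf xf26 yf3 zf17) (kf xf31 yf41 zf34) (kf xf26 yf3 zf15) (kf xf26 yf3 zf16) (kf xf26 yf3 zf14) (kf xf31 yf41 zf38) (kf xf31 yf41 zf32) (kf xf28 yf51 zf26) (kf xf31 yf41 zf41) (kf xf15 yf2 zf45) (kf xf25 yf11 zf9) (kf xf30 yf0 zf3) (kf xf15 yf2 zf46) (kf xf21 yf2 zf9) (kf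 xf25 yf11 zf16) (kf xf15 yf2 zf47) (kf xf28 yf14 zf23) (kf xf29 yf2 zf24) (kf xf19 yf50 zf29) (kf xf26 yf54 zf18) (kf xf25 yf44 zf20) (kf xf24 yf51 zf8) (kf xf26 yf5 zf39) (kf xf19 yf5 zf54) (kf xf25 yf9 zf20) (kf xf31 yf34 zf25) (kf xf31 yf34 zf26) (kf xf26 yf1 zf60) (kf xf29 yf35 zf32)) (@D3.rec (fun _ => Pt) (kf xf24 yf50 zf58) (kf xf25 yf9 zf24) (kf xf29 yf35 zf31) (kf xf15 yf3 zf0) (kf xf19 yf55 zf34) (kf xf25 yf11 zf58) (kf xf26 yf37 zf40) (kf xf31 yf41 zf53) (kf xf26 yf9 zf58) (kf xf28 yf31 zf39) (kf xf29 yf2 zf48) (kf xf25 yf13 zf43) (kf xf20 yf4 zf61) (kf xf29 yf2 zf23) (kf xf25 yf22 zf39) (kf xf25 yf22 zf40) (kf xf26 yf2 zf45) (kf xf25 yf22 zf43) (kf xf18 yf34 zf36) (kf xf19 yf23 zf19) (kf xf18 yf34 zf40) (kf xf25 yf49 zf36) (kf xf23 yf21 zf9) (kf xf24 yf43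 zf56) (kf xf15 yf3 zf14) (kf xf19 yf42 zf9) (kf xf17 yf38 zf24) (kf xf25 yf49 zf30) (kf xf17 yf40 zf16) (kf xf25 yf49 zf40) (kf xf25 yf49 zf29) (kf xf25 yf38 zf22) (kf xf25 yf38 zf21) (kf xf25 yf9 zf11) (kf xf17 yf51 zf3) (kf xf20 yf24 zf29) (kf xf26 yf50 zf9) (kf xf16 yf39 zf29) (kf xf26 yf40 zf4) (kf xf26 yf40 zf6) (kf xf29 yf3 zf16) (kf xf20 yf4 zf34) (kf xf29 yf2 zf33) (kf xf25 yf44 zf22) (kf xf25 yf19 zf54) (kf xf20 yf24 zf34) (kf xf21 yf29 zf4) (kf xf15 yf56 zf10) (kf xf24 yf49 zf48) (kf xf29 yf32 zf41) (kf xf26 yf54 zf1) (kf xf26 yf54 zf10) (kf xf21 yf3 zf55) (kf xf17 yf55 zf45) (kf xf21 yf8 zf33) (kf xf26 yf32 zf18) (kf xf29 yf19 zf28) (kf xf15 yf4 zf32) (kf xf15 yf3 zf50) (kf xf28 yf38 zf19) (kf xf20 yf9 zf14) (kf xf29 yf24 zf47)) (@D3.rec (fun _ => Pt) (kf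 xf29 yf1 zf51) (kf xf25 yf46 zf50) (kf xf17 yf33 zf8) (kf xf17 yf55 zf9) (kf xf17 yf55 zf10) (kf xf15 yf3 zf61) (kf xf15 yf7 zf8) (kf xf15 yf4 zf21) (kf xf15 yf4 zf27) (kf xf15 yf4 zf28) (kf xf15 yf4 zf26) (kf xf24 yf32 zf45) (kf xf20 yf1 zf27) (kf xf20 yf0 zf20) (kf xf26 yf52 zf0) (kf xf20 yf16 zf36) (kf xf20 yf10 zf15) (kf xf29 yf27 zf38) (kf xf20 yf0 zf56) (kf xf16 yf29 zf35) (kf xf17 yf9 zf11) (kf xf17 yf1 zf46) (kf xf15 yf4 zf39) (kf xf23 yf33 zf41) (kf xf20 yf38 zf34) (kf xf17 yf7 zf13) (kf xf20 yf7 zf30) (kf xf30 yf24 zf37) (kf xf22 yf5 zf14) (kf xf28 yf48 zf7) (kf xf28 yf48 zf11) (kf xf22 yf5 zf18) (kf xf15 yf5 zf25) (kf xf20 yf42 zf40) (kf xf23 yf52 zf56) (kf xf20 yf51 zf48) (kf xf26 yf43 zf40) (kf xf20 yf16 zf54) (kf xf20 yf52 zf23) (kf xf17 yf21 zf50) (kf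 xf17 yf19 zf11) (kf xf17 yf21 zf54) (kf xf17 yf21 zf55) (kf xf18 yf1 zf16) (kf xf16 yf57 zf51) (kf xf24 yf55 zf12) (kf xf24 yf55 zf10) (kf xf24 yf55 zf11) (kf xf24 yf55 zf4) (kf xf27 yf53 zf38) (kf xf27 yf54 zf49) (kf xf29 yf54 zf30) (kf xf31 yf42 zf15) (kf xf15 yf5 zf47) (kf xf31 yf42 zf16) (kf xf28 yf18 zf42) (kf xf27 yf33 zf8) (kf xf15 yf5 zf52) (kf xf26 yf18 zf60) (kf xf26 yf18 zf59) (kf xf22 yf35 zf10) (kf xf24 yf55 zf6)) (@D3.rec (fun _ => Pt) (kf xf23 yf51 zf24) (kf xf24 yf55 zf7) (kf xf24 yf55 zf8) (kf xf23 yf51 zf23) (kf xf15 yf5 zf57) (kf xf17 yf46 zf45) (kf xf17 yf46 zf43) (kf xf24 yf45 zf52) (kf xf24 yf56 zf40) (kf xf26 yf8 zf59) (kf xf24 yf56 zf37) (kf xf25 yf2 zf6) (kf xf25 yf45 zf49) (kf xf26 yf23 zf57) (kf xf29 yf38 zf50) (kf xf30 yf2 zf48) (kf xf18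 yf2 zf57) (kf xf31 yf2 zf50) (kf xf24 yf17 zf35) (kf xf24 yf17 zf40) (kf xf15 yf6 zf14) (kf xf20 yf0 zf33) (kf xf22 yf49 zf45) (kf xf24 yf57 zf29) (kf xf30 yf3 zf8) (kf xf24 yf2 zf56) (kf xf30 yf3 zf7) (kf xf21 yf12 zf47) (kf xf23 yf3 zf30) (kf xf30 yf2 zf53) (kf xf15 yf6 zf21) (kf xf22 yf50 zf16) (kf xf24 yf57 zf37) (kf xf24 yf57 zf0) (kf xf17 yf54 zf45) (kf xf24 yf57 zf41) (kf xf24 yf45 zf59) (kf xf15 yf6 zf28) (kf xf24 yf57 zf21) (kf xf24 yf57 zf24) (kf xf18 yf19 zf59) (kf xf24 yf57 zf31) (kf xf19 yf59 zf39) (kf xf26 yf8 zf41) (kf xf15 yf6 zf39) (kf xf25 yf44 zf19) (kf xf17 yf45 zf2) (kf xf17 yf43 zf24) (kf xf15 yf6 zf53) (kf xf15 yf6 zf55) (kf xf21 yf37 zf30) (kf xf26 yf10 zf47) (kf xf26 yf10 zf57) (kf xf15 yf6 zf49) (kf xf25 yf15 zf46) (kf xf31 yf42 zf41) (kf xf15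 yf6 zf50) (kf xf15 yf6 zf51) (kf xf26 yf13 zf53) (kf xf26 yf10 zf48) (kf xf27 yf39 zf47) (kf xf27 yf27 zf19)) (@D3.rec (fun _ => Pt) (kf xf17 yf37 zf26) (kf xf26 yf14 zf22) (kf xf29 yf25 zf11) (kf xf25 yf1 zf41) (kf xf24 yf53 zf48) (kf xf27 yf29 zf3) (kf xf24 yf53 zf61) (kf xf24 yf54 zf1) (kf xf24 yf54 zf2) (kf xf26 yf20 zf56) (kf xf24 yf53 zf46) (kf xf24 yf53 zf47) (kf xf24 yf53 zf45) (kf xf31 yf42 zf54) (kf xf31 yf14 zf26) (kf xf31 yf42 zf48) (kf xf15 yf6 zf61) (kf xf17 yf44 zf45) (kf xf15 yf7 zf21) (kf xf17 yf44 zf42) (kf xf30 yf54 zf18) (kf xf15 yf7 zf16) (kf xf26 yf13 zf21) (kf xf15 yf7 zf12) (kf xf26 yf18 zf38) (kf xf28 yf43 zf61) (kf xf30 yf45 zf60) (kf xf30 yf24 zf55) (kf xf27 yf28 zf58) (kf xf27 yf31 zf42) (kf xf28 yf0 zf1) (kf xf15 yf7 zf9) (kf xf16 yf21 zf39)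 (kf xf30 yf45 zf42) (kf xf15 yf7 zf13) (kf xf31 yf38 zf37) (kf xf15 yf7 zf19) (kf xf27 yf40 zf12) (kf xf15 yf7 zf23) (kf xf26 yf15 zf20) (kf xf24 yf56 zf8) (kf xf20 yf45 zf46) (kf xf15 yf7 zf30) (kf xf15 yf7 zf29) (kf xf15 yf7 zf17) (kf xf28 yf17 zf21) (kf xf30 yf45 zf40) (kf xf26 yf13 zf17) (kf xf21 yf37 zf13) (kf xf27 yf28 zf17) (kf xf24 yf18 zf29) (kf xf29 yf55 zf33) (kf xf31 yf43 zf7) (kf xf15 yf7 zf20) (kf xf31 yf42 zf59) (kf xf30 yf25 zf3) (kf xf27 yf40 zf13) (kf xf31 yf43 zf8) (kf xf15 yf7 zf22) (kf xf30 yf25 zf7) (kf xf31 yf43 zf4) (kf xf27 yf47 zf15)) (@D3.rec (fun _ => Pt) (kf xf24 yf45 zf32) (kf xf26 yf19 zf52) (kf xf18 yf28 zf48) (kf xf17 yf44 zf30) (kf xf17 yf40 zf60) (kf xf17 yf40 zf49) (kf xf27 yf31 zf41) (kf xf26 yf19 zf42) (kf xf24 yf55 zf40) (kf xf27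 yf28 zf61) (kf xf15 yf7 zf26) (kf xf19 yf2 zf15) (kf xf15 yf7 zf27) (kf xf26 yf20 zf47) (kf xf26 yf21 zf9) (kf xf21 yf38 zf12) (kf xf15 yf7 zf32) (kf xf26 yf13 zf10) (kf xf30 yf24 zf21) (kf xf15 yf8 zf23) (kf xf17 yf44 zf24) (kf xf17 yf44 zf25) (kf xf18 yf28 zf29) (kf xf17 yf44 zf27) (kf xf17 yf44 zf28) (kf xf27 yf45 zf43) (kf xf27 yf45 zf46) (kf xf27 yf45 zf35) (kf xf22 yf47 zf20) (kf xf15 yf7 zf37) (kf xf21 yf11 zf58) (kf xf15 yf7 zf38) (kf xf16 yf20 zf33) (kf xf16 yf19 zf32) (kf xf16 yf19 zf44) (kf xf15 yf7 zf48) (kf xf23 yf6 zf19) (kf xf24 yf54 zf10) (kf xf24 yf28 zf27) (kf xf20 yf10 zf47) (kf xf24 yf54 zf8) (kf xf23 yf6 zf8) (kf xf21 yf12 zf15) (kf xf21 yf12 zf14) (kf xf16 yf32 zf0) (kf xf16 yf28 zf38) (kf xf19 yf48 zf21) (kf xf16 yf29 zf24) (kf xf25 yf50 zf37)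 (kf xf25 yf2 zf34) (kf xf25 yf2 zf33) (kf xf22 yf16 zf42) (kf xf30 yf27 zf56) (kf xf15 yf8 zf16) (kf xf23 yf32 zf40) (kf xf15 yf8 zf12) (kf xf29 yf24 zf32) (kf xf20 yf30 zf3) (kf xf16 yf24 zf45) (kf xf15 yf8 zf9) (kf xf31 yf39 zf6) (kf xf29 yf38 zf51)) (@D3.rec (fun _ => Pt) (kf xf24 yf54 zf33) (kf xf26 yf29 zf54) (kf xf23 yf32 zf34) (kf xf16 yf25 zf4) (kf xf15 yf8 zf13) (kf xf25 yf15 zf54) (kf xf15 yf8 zf20) (kf xf27 yf41 zf57) (kf xf27 yf43 zf10) (kf xf27 yf41 zf51) (kf xf28 yf22 zf14) (kf xf27 yf41 zf49) (kf xf27 yf41 zf53) (kf xf26 yf27 zf46) (kf xf29 yf25 zf21) (kf xf29 yf36 zf39) (kf xf20 yf35 zf55) (kf xf22 yf55 zf35) (kf xf18 yf9 zf15) (kf xf18 yf9 zf14) (kf xf15 yf8 zf26) (kf xf24 yf54 zf38) (kf xf25 yf52 zf8) (kf xf16 yf24 zf40) (kf xf24 yf54 zf39) (kf xf31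 yf43 zf30) (kf xf18 yf38 zf48) (kf xf16 yf24 zf52) (kf xf15 yf8 zf32) (kf xf24 yf54 zf23) (kf xf16 yf21 zf8) (kf xf24 yf54 zf41) (kf xf16 yf20 zf52) (kf xf15 yf8 zf36) (kf xf20 yf34 zf32) (kf xf20 yf35 zf49) (kf xf18 yf56 zf34) (kf xf24 yf54 zf32) (kf xf20 yf10 zf56) (kf xf26 yf23 zf1) (kf xf15 yf8 zf43) (kf xf24 yf54 zf35) (kf xf25 yf14 zf37) (kf xf21 yf12 zf2) (kf xf31 yf1 zf6) (kf xf21 yf12 zf0) (kf xf21 yf11 zf61) (kf xf15 yf8 zf50) (kf xf21 yf12 zf5) (kf xf21 yf12 zf4) (kf xf15 yf8 zf52) (kf xf29 yf53 zf60) (kf xf29 yf53 zf59) (kf xf15 yf16 zf25) (kf xf15 yf16 zf26) (kf xf15 yf9 zf6) (kf xf15 yf9 zf5) (kf xf25 yf47 zf6) (kf xf22 yf5 zf49) (kf xf31 yf43 zf42) (kf xf31 yf43 zf44) (kf xf15 yf9 zf4)) (@D3.rec (fun _ => Pt) (kf xf26 yf3 zf45) (kf xf22 yf5 zf43) (kf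 xf26 yf3 zf43) (kf xf27 yf44 zf17) (kf xf21 yf47 zf0) (kf xf27 yf24 zf36) (kf xf22 yf9 zf8) (kf xf21 yf43 zf6) (kf xf16 yf39 zf18) (kf xf26 yf44 zf35) (kf xf26 yf45 zf46) (kf xf29 yf3 zf55) (kf xf26 yf37 zf4) (kf xf15 yf9 zf13) (kf xf15 yf19 zf35) (kf xf24 yf45 zf28) (kf xf15 yf9 zf14) (kf xf15 yf19 zf49) (kf xf15 yf19 zf22) (kf xf15 yf19 zf24) (kf xf15 yf19 zf25) (kf xf26 yf44 zf36) (kf xf27 yf14 zf36) (kf xf31 yf43 zf52) (kf xf19 yf24 zf44) (kf xf15 yf9 zf24) (kf xf15 yf20 zf16) (kf xf15 yf20 zf17) (kf xf15 yf20 zf13) (kf xf15 yf20 zf14) (kf xf15 yf9 zf27) (kf xf19 yf49 zf41) (kf xf29 yf2 zf11) (kf xf22 yf5 zf53) (kf xf25 yf12 zf54) (kf xf25 yf12 zf55) (kf xf25 yf13 zf1) (kf xf15 yf9 zf32) (kf xf24 yf51 zf14) (kf xf25 yf12 zf60) (kf xf25 yf11 zf18) (kf xf25 yf33 zf21)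 (kf xf19 yf44 zf13) (kf xf25 yf12 zf57) (kf xf15 yf9 zf35) (kf xf15 yf22 zf9) (kf xf15 yf22 zf1) (kf xf18 yf26 zf47) (kf xf25 yf1 zf39) (kf xf25 yf1 zf42) (kf xf18 yf6 zf41) (kf xf15 yf9 zf46) (kf xf18 yf27 zf10) (kf xf18 yf27 zf9) (kf xf26 yf12 zf56) (kf xf24 yf44 zf5) (kf xf24 yf44 zf4) (kf xf18 yf42 zf42) (kf xf23 yf14 zf53) (kf xf18 yf27 zf30) (kf xf25 yf1 zf37) (kf xf25 yf1 zf29)) (@D3.rec (fun _ => Pt) (kf xf25 yf1 zf31) (kf xf19 yf19 zf55) (kf xf26 yf13 zf59) (kf xf30 yf23 zf31) (kf xf27 yf29 zf1) (kf xf17 yf40 zf7) (kf xf15 yf9 zf59) (kf xf16 yf14 zf31) (kf xf18 yf27 zf36) (kf xf20 yf32 zf7) (kf xf26 yf57 zf47) (kf xf25 yf18 zf22) (kf xf15 yf10 zf3) (kf xf20 yf32 zf55) (kf xf18 yf27 zf7) (kf xf25 yf1 zf55) (kf xf30 yf39 zf55) (kf xf25 yf1 zf52) (kf xf18 yf27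 zf6) (kf xf25 yf46 zf40) (kf xf23 yf20 zf0) (kf xf25 yf0 zf12) (kf xf23 yf20 zf61) (kf xf24 yf29 zf8) (kf xf31 yf44 zf4) (kf xf18 yf28 zf19) (kf xf21 yf4 zf16) (kf xf25 yf1 zf58) (kf xf18 yf28 zf18) (kf xf20 yf29 zf35) (kf xf20 yf29 zf34) (kf xf31 yf44 zf8) (kf xf15 yf10 zf14) (kf xf17 yf53 zf53) (kf xf21 yf2 zf49) (kf xf15 yf10 zf18) (kf xf25 yf2 zf2) (kf xf26 yf31 zf57) (kf xf31 yf44 zf9) (kf xf23 yf15 zf1) (kf xf29 yf29 zf18) (kf xf22 yf30 zf50) (kf xf30 yf59 zf10) (kf xf29 yf29 zf19) (kf xf31 yf0 zf3) (kf xf15 yf10 zf26) (kf xf22 yf52 zf33) (kf xf16 yf26 zf53) (kf xf25 yf2 zf4) (kf xf25 yf2 zf8) (kf xf25 yf2 zf7) (kf xf15 yf10 zf30) (kf xf18 yf41 zf3) (kf xf18 yf40 zf61) (kf xf26 yf8 zf61) (kf xf26 yf8 zf52) (kf xf26 yf9 zf5) (kf xf16 yf34 zf27) (kf xf31 yf44 zf12)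 (kf xf22 yf56 zf6) (kf xf15 yf10 zf43) (kf xf22 yf55 zf45))
def f_f_25 : D2 → D3 → Pt := @D2.rec (fun _ => D3 → Pt) (@D3.rec (fun _ => Pt) (kf xf24 yf38 zf13) (kf xf23 yf42 zf49) (kf xf25 yf2 zf58) (kf xf16 yf17 zf42) (kf xf25 yf3 zf23) (kf xf25 yf3 zf6) (kf xf25 yf3 zf8) (kf xf25 yf3 zf1) (kf xf25 yf3 zf2) (kf xf25 yf3 zf4) (kf xf25 yf3 zf11) (kf xf18 yf27 zf17) (kf xf24 yf59 zf21) (kf xf25 yf45 zf16) (kf xf18 yf26 zf28) (kf xf18 yf26 zf29) (kf xf18 yf27 zf14) (kf xf26 yf12 zf53) (kf xf17 yf45 zf31) (kf xf18 yf27 zf2) (kf xf18 yf27 zf3) (kf xf18 yf27 zf4) (kf xf18 yf27 zf5) (kf xf31 yf44 zf17) (kf xf31 yf6 zf55) (kf xf31 yf44 zf25) (kf xf15 yf11 zf18) (kf xf17 yf36 zf50) (kf xf17 yf39 zf19) (kf xf15 yf11 zf19) (kf xf18 yf27 zf41) (kf xf19 yf23 zf17) (kf xf17 yf46 zf36)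 (kf xf18 yf28 zf37) (kf xf18 yf28 zf58) (kf xf26 yf16 zf21) (kf xf18 yf28 zf56) (kf xf15 yf11 zf31) (kf xf18 yf28 zf24) (kf xf18 yf28 zf25) (kf xf18 yf28 zf22) (kf xf18 yf28 zf23) (kf xf18 yf4 zf54) (kf xf29 yf15 zf52) (kf xf15 yf11 zf34) (kf xf18 yf28 zf30) (kf xf18 yf34 zf42) (kf xf18 yf28 zf3) (kf xf24 yf46 zf40) (kf xf18 yf28 zf5) (kf xf18 yf29 zf5) (kf xf18 yf4 zf39) (kf xf19 yf2 zf21) (kf xf15 yf11 zf57) (kf xf18 yf28 zf52) (kf xf18 yf28 zf53) (kf xf18 yf28 zf54) (kf xf18 yf28 zf57) (kf xf15 yf12 zf1) (kf xf15 yf12 zf11) (kf xf26 yf13 zf29) (kf xf18 yf28 zf20)) (@D3.rec (fun _ => Pt) (kf xf28 yf32 zf2) (kf xf27 yf47 zf11) (kf xf27 yf47 zf24) (kf xf31 yf44 zf35) (kf xf31 yf14 zf33) (kf xf15 yf12 zf7) (kf xf18 yf36 zf57) (kf xf17 yf44 zf29) (kf xf15 yf12 zf9) (kf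 xf27 yf28 zf2) (kf xf26 yf13 zf28) (kf xf26 yf13 zf31) (kf xf27 yf28 zf36) (kf xf27 yf27 zf58) (kf xf16 yf15 zf13) (kf xf15 yf12 zf14) (kf xf22 yf28 zf32) (kf xf18 yf29 zf61) (kf xf27 yf45 zf47) (kf xf18 yf30 zf0) (kf xf18 yf29 zf57) (kf xf29 yf29 zf55) (kf xf18 yf30 zf2) (kf xf17 yf41 zf13) (kf xf31 yf44 zf39) (kf xf15 yf12 zf24) (kf xf18 yf30 zf6) (kf xf27 yf45 zf56) (kf xf15 yf18 zf20) (kf xf24 yf58 zf61) (kf xf16 yf16 zf12) (kf xf24 yf59 zf0) (kf xf22 yf15 zf43) (kf xf21 yf37 zf15) (kf xf30 yf23 zf21) (kf xf15 yf12 zf35) (kf xf15 yf12 zf36) (kf xf24 yf58 zf60) (kf xf23 yf50 zf6) (kf xf24 yf58 zf48) (kf xf26 yf18 zf12) (kf xf24 yf55 zf3) (kf xf24 yf58 zf49) (kf xf31 yf44 zf45) (kf xf31 yf32 zf55) (kf xf28 yf4 zf30) (kf xf27 yf27 zf10) (kf xf15 yf12 zf45) (kf xf17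 yf39 zf48) (kf xf16 yf11 zf61) (kf xf16 yf12 zf0) (kf xf23 yf19 zf58) (kf xf24 yf59 zf17) (kf xf24 yf48 zf14) (kf xf29 yf28 zf33) (kf xf24 yf59 zf15) (kf xf25 yf16 zf25) (kf xf31 yf0 zf55) (kf xf24 yf59 zf27) (kf xf27 yf5 zf21) (kf xf22 yf34 zf5) (kf xf28 yf10 zf40)) (@D3.rec (fun _ => Pt) (kf xf15 yf13 zf4) (kf xf29 yf49 zf61) (kf xf24 yf59 zf36) (kf xf31 yf44 zf54) (kf xf24 yf59 zf48) (kf xf17 yf57 zf8) (kf xf24 yf54 zf11) (kf xf24 yf59 zf50) (kf xf24 yf59 zf49) (kf xf27 yf12 zf36) (kf xf15 yf13 zf10) (kf xf16 yf19 zf53) (kf xf15 yf13 zf24) (kf xf30 yf25 zf1) (kf xf31 yf44 zf56) (kf xf16 yf21 zf55) (kf xf26 yf8 zf33) (kf xf21 yf55 zf44) (kf xf31 yf44 zf61) (kf xf15 yf13 zf18) (kf xf27 yf57 zf32) (kf xf15 yf13 zf19) (kf xf31 yf44 zf55) (kf xf31 yf45 zf0) (kf xf30 yf13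 zf7) (kf xf30 yf0 zf32) (kf xf26 yf8 zf48) (kf xf27 yf57 zf25) (kf xf15 yf13 zf25) (kf xf15 yf13 zf30) (kf xf21 yf2 zf17) (kf xf24 yf43 zf22) (kf xf15 yf13 zf29) (kf xf24 yf56 zf50) (kf xf24 yf56 zf49) (kf xf28 yf0 zf36) (kf xf26 yf25 zf1) (kf xf15 yf13 zf31) (kf xf18 yf29 zf50) (kf xf24 yf43 zf60) (kf xf24 yf44 zf1) (kf xf20 yf13 zf53) (kf xf23 yf32 zf27) (kf xf21 yf15 zf39) (kf xf23 yf25 zf40) (kf xf15 yf13 zf41) (kf xf26 yf7 zf40) (kf xf31 yf45 zf3) (kf xf16 yf23 zf36) (kf xf23 yf14 zf60) (kf xf23 yf15 zf0) (kf xf23 yf15 zf32) (kf xf15 yf13 zf44) (kf xf23 yf18 zf3) (kf xf18 yf29 zf45) (kf xf27 yf44 zf33) (kf xf18 yf29 zf46) (kf xf18 yf29 zf47) (kf xf25 yf0 zf2) (kf xf18 yf36 zf54) (kf xf18 yf58 zf28) (kf xf15 yf13 zf58)) (@D3.rec (fun _ => Pt) (kf xf16 yf24 zf20)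 (kf xf25 yf0 zf7) (kf xf25 yf0 zf8) (kf xf23 yf32 zf43) (kf xf25 yf0 zf9) (kf xf23 yf32 zf44) (kf xf25 yf0 zf5) (kf xf23 yf18 zf35) (kf xf25 yf0 zf6) (kf xf15 yf14 zf3) (kf xf15 yf14 zf7) (kf xf25 yf0 zf10) (kf xf23 yf17 zf56) (kf xf18 yf20 zf3) (kf xf15 yf54 zf55) (kf xf15 yf14 zf19) (kf xf27 yf45 zf37) (kf xf27 yf48 zf7) (kf xf23 yf6 zf12) (kf xf15 yf14 zf15) (kf xf30 yf31 zf51) (kf xf15 yf14 zf16) (kf xf27 yf40 zf14) (kf xf25 yf0 zf4) (kf xf18 yf8 zf26) (kf xf30 yf25 zf6) (kf xf16 yf19 zf13) (kf xf15 yf14 zf20) (kf xf23 yf32 zf47) (kf xf23 yf17 zf55) (kf xf25 yf4 zf0) (kf xf23 yf18 zf1) (kf xf18 yf28 zf60) (kf xf18 yf28 zf59) (kf xf27 yf34 zf26) (kf xf25 yf4 zf3) (kf xf25 yf4 zf2) (kf xf18 yf4 zf26) (kf xf18 yf4 zf28) (kf xf25 yf49 zf58) (kf xf25 yf49 zf59) (kf xf18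 yf16 zf48) (kf xf30 yf1 zf16) (kf xf18 yf16 zf30) (kf xf17 yf47 zf39) (kf xf31 yf45 zf13) (kf xf19 yf0 zf46) (kf xf19 yf0 zf45) (kf xf15 yf21 zf61) (kf xf15 yf14 zf51) (kf xf28 yf3 zf34) (kf xf28 yf3 zf11) (kf xf28 yf10 zf10) (kf xf26 yf30 zf39) (kf xf26 yf29 zf51) (kf xf31 yf39 zf30) (kf xf22 yf18 zf13) (kf xf22 yf18 zf55) (kf xf25 yf16 zf18) (kf xf21 yf29 zf30) (kf xf25 yf16 zf20) (kf xf31 yf42 zf26)) (@D3.rec (fun _ => Pt) (kf xf25 yf3 zf30) (kf xf23 yf37 zf48) (kf xf25 yf3 zf36) (kf xf25 yf3 zf35) (kf xf19 yf35 zf4) (kf xf19 yf35 zf6) (kf xf26 yf1 zf4) (kf xf25 yf57 zf54) (kf xf19 yf35 zf10) (kf xf31 yf30 zf55) (kf xf19 yf35 zf14) (kf xf27 yf11 zf38) (kf xf19 yf35 zf18) (kf xf19 yf28 zf36) (kf xf16 yf43 zf17) (kf xf19 yf44 zf20) (kf xf25 yf24 zf23) (kf xf19 yf44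 zf21) (kf xf19 yf44 zf22) (kf xf19 yf44 zf24) (kf xf19 yf44 zf28) (kf xf30 yf9 zf43) (kf xf21 yf50 zf33) (kf xf25 yf36 zf36) (kf xf16 yf45 zf44) (kf xf16 yf45 zf45) (kf xf16 yf45 zf41) (kf xf16 yf45 zf43) (kf xf16 yf45 zf56) (kf xf16 yf45 zf57) (kf xf16 yf45 zf58) (kf xf16 yf45 zf50) (kf xf16 yf45 zf51) (kf xf19 yf40 zf55) (kf xf27 yf22 zf52) (kf xf24 yf14 zf14) (kf xf25 yf24 zf35) (kf xf25 yf26 zf50) (kf xf25 yf26 zf32) (kf xf28 yf19 zf19) (kf xf31 yf9 zf53) (kf xf25 yf29 zf2) (kf xf25 yf29 zf6) (kf xf27 yf49 zf30) (kf xf31 yf17 zf33) (kf xf31 yf39 zf54) (kf xf31 yf39 zf51) (kf xf28 yf41 zf55) (kf xf15 yf15 zf29) (kf xf28 yf19 zf18) (kf xf22 yf52 zf35) (kf xf27 yf43 zf57) (kf xf15 yf15 zf30) (kf xf31 yf45 zf38) (kf xf15 yf15 zf31) (kf xf19 yf19 zf45) (kf xf16 yf26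 zf60) (kf xf16 yf26 zf59) (kf xf19 yf19 zf48) (kf xf27 yf43 zf60) (kf xf22 yf53 zf56) (kf xf28 yf19 zf23)) (@D3.rec (fun _ => Pt) (kf xf21 yf27 zf22) (kf xf15 yf15 zf36) (kf xf20 yf59 zf20) (kf xf20 yf59 zf22) (kf xf23 yf27 zf38) (kf xf25 yf24 zf45) (kf xf15 yf15 zf45) (kf xf31 yf22 zf13) (kf xf15 yf54 zf32) (kf xf20 yf4 zf20) (kf xf31 yf45 zf46) (kf xf28 yf58 zf5) (kf xf22 yf52 zf24) (kf xf31 yf45 zf29) (kf xf15 yf15 zf43) (kf xf19 yf46 zf16) (kf xf19 yf40 zf52) (kf xf27 yf44 zf35) (kf xf15 yf54 zf21) (kf xf28 yf50 zf38) (kf xf23 yf12 zf40) (kf xf15 yf54 zf18) (kf xf29 yf7 zf11) (kf xf19 yf46 zf17) (kf xf31 yf45 zf48) (kf xf15 yf15 zf48) (kf xf24 yf9 zf44) (kf xf30 yf46 zf19) (kf xf31 yf43 zf57) (kf xf25 yf24 zf54) (kf xf25 yf24 zf55) (kf xf25 yf24 zf56) (kf xf28 yf19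 zf38) (kf xf28 yf19 zf39) (kf xf31 yf45 zf55) (kf xf15 yf35 zf49) (kf xf29 yf52 zf28) (kf xf15 yf15 zf54) (kf xf25 yf55 zf53) (kf xf29 yf37 zf23) (kf xf22 yf9 zf9) (kf xf31 yf35 zf39) (kf xf15 yf15 zf56) (kf xf15 yf34 zf33) (kf xf15 yf34 zf34) (kf xf15 yf34 zf32) (kf xf16 yf27 zf25) (kf xf27 yf6 zf18) (kf xf25 yf43 zf26) (kf xf15 yf33 zf41) (kf xf25 yf26 zf13) (kf xf19 yf34 zf57) (kf xf19 yf23 zf14) (kf xf19 yf34 zf54) (kf xf19 yf46 zf24) (kf xf19 yf34 zf60) (kf xf19 yf34 zf59) (kf xf25 yf25 zf17) (kf xf19 yf35 zf0) (kf xf19 yf35 zf1) (kf xf19 yf35 zf3) (kf xf19 yf57 zf5)) (@D3.rec (fun _ => Pt) (kf xf19 yf57 zf6) (kf xf19 yf57 zf7) (kf xf19 yf57 zf8) (kf xf31 yf45 zf59) (kf xf25 yf36 zf44) (kf xf25 yf36 zf46) (kf xf26 yf4 zf60) (kf xf25 yf36 zf38) (kf xf25 yf36 zf42)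 (kf xf28 yf59 zf24) (kf xf25 yf54 zf60) (kf xf31 yf35 zf8) (kf xf27 yf15 zf58) (kf xf15 yf16 zf14) (kf xf25 yf35 zf31) (kf xf21 yf2 zf0) (kf xf15 yf18 zf10) (kf xf26 yf28 zf31) (kf xf15 yf16 zf18) (kf xf20 yf55 zf51) (kf xf31 yf46 zf0) (kf xf31 yf43 zf37) (kf xf29 yf58 zf55) (kf xf25 yf20 zf17) (kf xf28 yf59 zf38) (kf xf27 yf30 zf13) (kf xf15 yf18 zf44) (kf xf29 yf4 zf47) (kf xf27 yf17 zf40) (kf xf27 yf17 zf41) (kf xf29 yf12 zf31) (kf xf27 yf38 zf58) (kf xf29 yf15 zf44) (kf xf15 yf17 zf56) (kf xf15 yf17 zf58) (kf xf19 yf49 zf27) (kf xf26 yf0 zf6) (kf xf25 yf59 zf61) (kf xf15 yf16 zf38) (kf xf25 yf18 zf2) (kf xf25 yf18 zf3) (kf xf25 yf17 zf61) (kf xf25 yf18 zf0) (kf xf15 yf22 zf16) (kf xf27 yf52 zf31) (kf xf15 yf16 zf41) (kf xf25 yf48 zf51) (kf xf25 yf48 zf52) (kf xf16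 yf18 zf56) (kf xf25 yf23 zf31) (kf xf24 yf7 zf56) (kf xf25 yf21 zf9) (kf xf15 yf20 zf8) (kf xf22 yf7 zf6) (kf xf27 yf44 zf8) (kf xf20 yf43 zf54) (kf xf15 yf16 zf52) (kf xf19 yf57 zf1) (kf xf15 yf19 zf48) (kf xf19 yf57 zf20) (kf xf31 yf46 zf27) (kf xf19 yf57 zf22)) (@D3.rec (fun _ => Pt) (kf xf31 yf46 zf29) (kf xf15 yf34 zf24) (kf xf15 yf34 zf29) (kf xf25 yf55 zf52) (kf xf29 yf16 zf9) (kf xf25 yf48 zf42) (kf xf25 yf48 zf32) (kf xf25 yf48 zf43) (kf xf25 yf48 zf33) (kf xf15 yf20 zf46) (kf xf25 yf43 zf61) (kf xf25 yf48 zf46) (kf xf31 yf46 zf40) (kf xf15 yf17 zf6) (kf xf15 yf20 zf56) (kf xf28 yf34 zf47) (kf xf28 yf33 zf18) (kf xf28 yf57 zf35) (kf xf31 yf46 zf43) (kf xf15 yf17 zf10) (kf xf28 yf34 zf29) (kf xf25 yf56 zf55) (kf xf30 yf16 zf53) (kf xf29 yf16 zf32) (kf xf15 yf17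 zf13) (kf xf25 yf56 zf56) (kf xf27 yf43 zf55) (kf xf26 yf23 zf18) (kf xf25 yf55 zf19) (kf xf30 yf8 zf35) (kf xf25 yf36 zf53) (kf xf15 yf35 zf54) (kf xf25 yf55 zf15) (kf xf15 yf21 zf42) (kf xf15 yf21 zf43) (kf xf21 yf27 zf7) (kf xf25 yf22 zf60) (kf xf25 yf22 zf59) (kf xf31 yf46 zf52) (kf xf15 yf17 zf25) (kf xf15 yf53 zf3) (kf xf15 yf53 zf4) (kf xf15 yf53 zf2) (kf xf15 yf35 zf9) (kf xf25 yf13 zf37) (kf xf15 yf21 zf58) (kf xf15 yf17 zf27) (kf xf25 yf13 zf35) (kf xf21 yf46 zf23) (kf xf25 yf55 zf45) (kf xf25 yf13 zf33) (kf xf21 yf46 zf22) (kf xf25 yf29 zf50) (kf xf16 yf37 zf13) (kf xf16 yf37 zf14) (kf xf16 yf37 zf15) (kf xf16 yf37 zf42) (kf xf16 yf37 zf43) (kf xf16 yf37 zf44) (kf xf22 yf1 zf16) (kf xf20 yf56 zf57) (kf xf16 yf38 zf40)) (@D3.rec (fun _ => Pt) (kf xf29 yf45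 zf15) (kf xf16 yf38 zf46) (kf xf29 yf37 zf32) (kf xf16 yf38 zf48) (kf xf16 yf38 zf49) (kf xf16 yf38 zf50) (kf xf27 yf16 zf18) (kf xf31 yf26 zf9) (kf xf20 yf39 zf5) (kf xf30 yf29 zf12) (kf xf15 yf17 zf39) (kf xf16 yf38 zf6) (kf xf26 yf7 zf54) (kf xf16 yf38 zf9) (kf xf16 yf38 zf8) (kf xf27 yf16 zf17) (kf xf15 yf17 zf41) (kf xf16 yf38 zf14) (kf xf31 yf47 zf5) (kf xf15 yf17 zf43) (kf xf21 yf48 zf49) (kf xf29 yf59 zf9) (kf xf29 yf59 zf10) (kf xf31 yf47 zf12) (kf xf15 yf17 zf46) (kf xf20 yf2 zf42) (kf xf20 yf2 zf43) (kf xf19 yf32 zf24) (kf xf19 yf57 zf46) (kf xf15 yf52 zf50) (kf xf31 yf38 zf17) (kf xf15 yf17 zf49) (kf xf19 yf37 zf12) (kf xf22 yf52 zf26) (kf xf20 yf2 zf58) (kf xf19 yf36 zf43) (kf xf21 yf48 zf48) (kf xf31 yf46 zf15) (kf xf29 yf49 zf13) (kf xf31 yf46 zf16) (kf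 xf17 yf35 zf56) (kf xf17 yf35 zf57) (kf xf20 yf2 zf53) (kf xf20 yf2 zf52) (kf xf28 yf3 zf39) (kf xf26 yf4 zf41) (kf xf26 yf4 zf42) (kf xf26 yf4 zf43) (kf xf26 yf4 zf44) (kf xf30 yf29 zf39) (kf xf26 yf4 zf53) (kf xf16 yf2 zf17) (kf xf15 yf17 zf60) (kf xf17 yf48 zf48) (kf xf26 yf4 zf51) (kf xf30 yf9 zf28) (kf xf26 yf4 zf46) (kf xf30 yf9 zf32) (kf xf29 yf43 zf9) (kf xf25 yf14 zf30) (kf xf22 yf20 zf59) (kf xf16 yf27 zf14)) (@D3.rec (fun _ => Pt) (kf xf15 yf34 zf26) (kf xf27 yf30 zf21) (kf xf26 yf17 zf53) (kf xf27 yf30 zf20) (kf xf25 yf11 zf39) (kf xf20 yf2 zf59) (kf xf25 yf49 zf23) (kf xf29 yf49 zf23) (kf xf17 yf57 zf35) (kf xf25 yf13 zf26) (kf xf24 yf34 zf26) (kf xf24 yf52 zf33) (kf xf26 yf6 zf45) (kf xf25 yf37 zf28) (kf xf25 yf12 zf37) (kf xf29 yf13 zf28) (kf xf25 yf22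 zf30) (kf xf31 yf47 zf44) (kf xf24 yf51 zf23) (kf xf24 yf51 zf17) (kf xf24 yf51 zf57) (kf xf31 yf47 zf48) (kf xf28 yf59 zf40) (kf xf25 yf11 zf4) (kf xf24 yf52 zf1) (kf xf27 yf38 zf15) (kf xf15 yf18 zf37) (kf xf29 yf13 zf11) (kf xf29 yf13 zf10) (kf xf29 yf17 zf59) (kf xf19 yf25 zf42) (kf xf27 yf30 zf4) (kf xf27 yf30 zf5) (kf xf27 yf30 zf6) (kf xf31 yf46 zf3) (kf xf31 yf46 zf4) (kf xf30 yf16 zf49) (kf xf27 yf30 zf11) (kf xf31 yf48 zf2) (kf xf19 yf38 zf49) (kf xf30 yf18 zf51) (kf xf15 yf18 zf47) (kf xf28 yf59 zf39) (kf xf31 yf43 zf38) (kf xf28 yf59 zf36) (kf xf28 yf59 zf37) (kf xf26 yf5 zf7) (kf xf26 yf5 zf5) (kf xf20 yf3 zf38) (kf xf26 yf5 zf14) (kf xf25 yf22 zf56) (kf xf20 yf3 zf30) (kf xf20 yf3 zf29) (kf xf20 yf3 zf36) (kf xf29 yf9 zf37) (kf xf15 yf37 zf43) (kf xf15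 yf37 zf46) (kf xf20 yf3 zf26) (kf xf20 yf3 zf27) (kf xf20 yf3 zf31) (kf xf29 yf41 zf57) (kf xf20 yf4 zf4)) (@D3.rec (fun _ => Pt) (kf xf29 yf50 zf31) (kf xf21 yf36 zf22) (kf xf26 yf5 zf9) (kf xf26 yf12 zf15) (kf xf16 yf39 zf26) (kf xf16 yf39 zf27) (kf xf19 yf14 zf15) (kf xf19 yf14 zf17) (kf xf16 yf39 zf52) (kf xf15 yf21 zf15) (kf xf29 yf44 zf1) (kf xf16 yf40 zf5) (kf xf19 yf5 zf9) (kf xf16 yf40 zf8) (kf xf26 yf35 zf27) (kf xf15 yf19 zf13) (kf xf31 yf21 zf7) (kf xf15 yf19 zf14) (kf xf16 yf39 zf46) (kf xf16 yf39 zf47) (kf xf19 yf13 zf61) (kf xf15 yf19 zf17) (kf xf29 yf56 zf19) (kf xf16 yf36 zf51) (kf xf16 yf41 zf13) (kf xf31 yf43 zf50) (kf xf26 yf34 zf2) (kf xf19 yf49 zf14) (kf xf31 yf43 zf51) (kf xf15 yf50 zf3) (kf xf25 yf50 zf60) (kf xf27 yf38 zf56) (kf xf26 yf44 zf32)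 (kf xf19 yf6 zf3) (kf xf15 yf54 zf17) (kf xf15 yf54 zf27) (kf xf24 yf49 zf0) (kf xf29 yf12 zf30) (kf xf31 yf43 zf49) (kf xf24 yf21 zf16) (kf xf19 yf36 zf61) (kf xf29 yf12 zf40) (kf xf24 yf21 zf12) (kf xf25 yf49 zf55) (kf xf25 yf49 zf52) (kf xf19 yf17 zf18) (kf xf25 yf49 zf48) (kf xf25 yf49 zf47) (kf xf28 yf4 zf19) (kf xf18 yf8 zf41) (kf xf15 yf20 zf59) (kf xf15 yf21 zf11) (kf xf30 yf9 zf52) (kf xf19 yf53 zf59) (kf xf27 yf44 zf36) (kf xf25 yf23 zf2) (kf xf27 yf31 zf45) (kf xf26 yf15 zf30) (kf xf31 yf48 zf19) (kf xf15 yf19 zf52) (kf xf28 yf37 zf8) (kf xf24 yf51 zf18)) (@D3.rec (fun _ => Pt) (kf xf28 yf59 zf29) (kf xf24 yf51 zf19) (kf xf24 yf51 zf20) (kf xf24 yf51 zf21) (kf xf25 yf9 zf23) (kf xf28 yf45 zf32) (kf xf31 yf45 zf57) (kf xf30 yf7 zf47) (kf xf15 yf19 zf61) (kf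 xf24 yf51 zf43) (kf xf24 yf34 zf5) (kf xf30 yf14 zf28) (kf xf15 yf20 zf0) (kf xf24 yf51 zf12) (kf xf24 yf51 zf13) (kf xf25 yf44 zf48) (kf xf24 yf51 zf47) (kf xf15 yf22 zf5) (kf xf24 yf58 zf40) (kf xf29 yf6 zf50) (kf xf29 yf6 zf51) (kf xf30 yf14 zf18) (kf xf31 yf40 zf48) (kf xf29 yf17 zf60) (kf xf28 yf57 zf10) (kf xf28 yf57 zf23) (kf xf27 yf24 zf6) (kf xf15 yf54 zf30) (kf xf15 yf54 zf40) (kf xf16 yf46 zf43) (kf xf28 yf23 zf42) (kf xf29 yf17 zf21) (kf xf15 yf50 zf4) (kf xf24 yf16 zf15) (kf xf31 yf43 zf54) (kf xf17 yf57 zf10) (kf xf26 yf24 zf7) (kf xf27 yf41 zf61) (kf xf29 yf49 zf28) (kf xf25 yf9 zf4) (kf xf15 yf21 zf25) (kf xf25 yf50 zf1) (kf xf17 yf53 zf9) (kf xf25 yf23 zf16) (kf xf25 yf49 zf61) (kf xf16 yf28 zf56) (kf xf27 yf41 zf48) (kf xf17 yf53 zf6) (kf xf15 yf21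 zf16) (kf xf28 yf48 zf33) (kf xf27 yf44 zf6) (kf xf26 yf51 zf12) (kf xf15 yf20 zf36) (kf xf25 yf49 zf54) (kf xf29 yf10 zf2) (kf xf25 yf49 zf51) (kf xf25 yf15 zf19) (kf xf15 yf54 zf33) (kf xf24 yf52 zf5) (kf xf31 yf23 zf17) (kf xf25 yf13 zf15) (kf xf30 yf14 zf32)) (@D3.rec (fun _ => Pt) (kf xf25 yf49 zf34) (kf xf25 yf49 zf32) (kf xf31 yf36 zf0) (kf xf29 yf48 zf49) (kf xf25 yf33 zf1) (kf xf29 yf37 zf26) (kf xf23 yf56 zf22) (kf xf21 yf29 zf18) (kf xf23 yf10 zf8) (kf xf27 yf19 zf38) (kf xf15 yf21 zf17) (kf xf15 yf21 zf21) (kf xf31 yf27 zf3) (kf xf28 yf16 zf0) (kf xf24 yf12 zf22) (kf xf24 yf27 zf43) (kf xf28 yf19 zf27) (kf xf28 yf15 zf61) (kf xf19 yf45 zf6) (kf xf29 yf3 zf25) (kf xf25 yf57 zf4) (kf xf28 yf58 zf55) (kf xf22 yf54 zf1) (kf xf16 yf28 zf36) (kf xf15 yf21 zf6)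 (kf xf31 yf27 zf4) (kf xf29 yf22 zf28) (kf xf23 yf12 zf50) (kf xf28 yf36 zf43) (kf xf28 yf59 zf59) (kf xf31 yf48 zf52) (kf xf15 yf21 zf12) (kf xf25 yf14 zf46) (kf xf28 yf16 zf3) (kf xf19 yf44 zf50) (kf xf26 yf33 zf48) (kf xf26 yf33 zf56) (kf xf25 yf9 zf14) (kf xf25 yf33 zf54) (kf xf31 yf48 zf54) (kf xf19 yf49 zf44) (kf xf19 yf31 zf27) (kf xf15 yf21 zf19) (kf xf16 yf28 zf41) (kf xf24 yf14 zf2) (kf xf28 yf48 zf17) (kf xf15 yf21 zf24) (kf xf31 yf23 zf40) (kf xf17 yf29 zf35) (kf xf15 yf21 zf40) (kf xf15 yf21 zf39) (kf xf15 yf21 zf29) (kf xf29 yf7 zf1) (kf xf17 yf51 zf44) (kf xf24 yf58 zf34) (kf xf24 yf58 zf35) (kf xf24 yf18 zf2) (kf xf24 yf58 zf43) (kf xf30 yf48 zf10) (kf xf15 yf21 zf32) (kf xf24 yf58 zf39) (kf xf31 yf41 zf47)) (@D3.rec (fun _ => Pt) (kf xf16 yf13 zf61)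 (kf xf24 yf58 zf36) (kf xf15 yf21 zf35) (kf xf21 yf21 zf40) (kf xf15 yf21 zf38) (kf xf28 yf42 zf35) (kf xf15 yf38 zf14) (kf xf21 yf43 zf23) (kf xf21 yf43 zf12) (kf xf30 yf6 zf39) (kf xf30 yf9 zf51) (kf xf29 yf4 zf1) (kf xf27 yf19 zf39) (kf xf25 yf41 zf23) (kf xf15 yf53 zf46) (kf xf25 yf11 zf60) (kf xf15 yf38 zf4) (kf xf28 yf3 zf25) (kf xf25 yf13 zf25) (kf xf25 yf13 zf31) (kf xf31 yf49 zf5) (kf xf25 yf13 zf27) (kf xf31 yf46 zf28) (kf xf19 yf53 zf21) (kf xf27 yf44 zf0) (kf xf25 yf13 zf18) (kf xf25 yf9 zf9) (kf xf25 yf13 zf21) (kf xf27 yf18 zf4) (kf xf19 yf54 zf6) (kf xf27 yf27 zf25) (kf xf25 yf13 zf19) (kf xf29 yf12 zf48) (kf xf25 yf7 zf50) (kf xf31 yf49 zf9) (kf xf25 yf7 zf47) (kf xf15 yf58 zf34) (kf xf25 yf7 zf44) (kf xf25 yf41 zf41) (kf xf30 yf11 zf22) (kf xf25 yf28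 zf12) (kf xf20 yf2 zf24) (kf xf15 yf53 zf20) (kf xf24 yf52 zf11) (kf xf28 yf59 zf46) (kf xf19 yf59 zf28) (kf xf16 yf0 zf3) (kf xf27 yf46 zf60) (kf xf20 yf3 zf50) (kf xf19 yf33 zf29) (kf xf20 yf3 zf45) (kf xf19 yf28 zf47) (kf xf31 yf49 zf14) (kf xf31 yf49 zf12) (kf xf31 yf49 zf11) (kf xf31 yf46 zf22) (kf xf15 yf22 zf13) (kf xf20 yf2 zf37) (kf xf20 yf2 zf38) (kf xf20 yf2 zf35) (kf xf20 yf2 zf36) (kf xf26 yf18 zf16)) (@D3.rec (fun _ => Pt) (kf xf16 yf16 zf59) (kf xf15 yf54 zf25) (kf xf20 yf43 zf45) (kf xf15 yf54 zf38) (kf xf20 yf3 zf53) (kf xf31 yf49 zf24) (kf xf29 yf59 zf18) (kf xf29 yf12 zf44) (kf xf31 yf49 zf27) (kf xf15 yf22 zf24) (kf xf20 yf2 zf19) (kf xf20 yf2 zf20) (kf xf20 yf2 zf25) (kf xf28 yf3 zf20) (kf xf15 yf22 zf26) (kf xf20 yf3 zf6) (kf xf30 yf14 zf13) (kf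 xf20 yf3 zf15) (kf xf30 yf14 zf14) (kf xf20 yf3 zf13) (kf xf31 yf49 zf32) (kf xf20 yf3 zf9) (kf xf31 yf3 zf60) (kf xf15 yf22 zf31) (kf xf18 yf1 zf45) (kf xf17 yf59 zf4) (kf xf17 yf58 zf40) (kf xf25 yf49 zf27) (kf xf29 yf50 zf22) (kf xf20 yf43 zf44) (kf xf25 yf8 zf59) (kf xf29 yf49 zf29) (kf xf16 yf29 zf4) (kf xf18 yf42 zf41) (kf xf18 yf42 zf37) (kf xf22 yf43 zf37) (kf xf26 yf8 zf42) (kf xf24 yf57 zf42) (kf xf19 yf54 zf10) (kf xf18 yf1 zf7) (kf xf19 yf54 zf12) (kf xf19 yf54 zf13) (kf xf30 yf40 zf52) (kf xf16 yf16 zf37) (kf xf16 yf16 zf38) (kf xf21 yf58 zf36) (kf xf25 yf12 zf32) (kf xf31 yf49 zf40) (kf xf25 yf49 zf11) (kf xf23 yf46 zf23) (kf xf31 yf49 zf43) (kf xf24 yf36 zf53) (kf xf31 yf4 zf23) (kf xf15 yf22 zf59) (kf xf25 yf49 zf17) (kf xf25 yf49 zf18) (kf xf31 yf49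 zf47) (kf xf25 yf49 zf20) (kf xf31 yf36 zf34) (kf xf25 yf49 zf13) (kf xf31 yf49 zf49) (kf xf15 yf23 zf0)) (@D3.rec (fun _ => Pt) (kf xf15 yf23 zf3) (kf xf15 yf23 zf2) (kf xf19 yf40 zf15) (kf xf19 yf38 zf28) (kf xf29 yf59 zf44) (kf xf29 yf5 zf28) (kf xf25 yf48 zf30) (kf xf31 yf49 zf50) (kf xf28 yf41 zf10) (kf xf31 yf49 zf51) (kf xf15 yf36 zf46) (kf xf27 yf42 zf42) (kf xf15 yf23 zf4) (kf xf19 yf38 zf23) (kf xf19 yf36 zf11) (kf xf20 yf3 zf41) (kf xf20 yf3 zf40) (kf xf20 yf4 zf9) (kf xf15 yf23 zf7) (kf xf25 yf11 zf56) (kf xf16 yf22 zf7) (kf xf15 yf54 zf26) (kf xf20 yf3 zf54) (kf xf20 yf3 zf55) (kf xf18 yf5 zf41) (kf xf20 yf3 zf49) (kf xf20 yf3 zf56) (kf xf17 yf36 zf49) (kf xf20 yf3 zf46) (kf xf20 yf3 zf47) (kf xf20 yf3 zf51) (kf xf29 yf3 zf61) (kf xf19 yf20 zf37) (kf xf20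 yf3 zf61) (kf xf20 yf4 zf0) (kf xf20 yf4 zf1) (kf xf20 yf3 zf58) (kf xf20 yf3 zf59) (kf xf15 yf23 zf23) (kf xf20 yf3 zf42) (kf xf27 yf31 zf33) (kf xf15 yf23 zf24) (kf xf25 yf44 zf61) (kf xf26 yf12 zf20) (kf xf26 yf13 zf35) (kf xf26 yf12 zf21) (kf xf24 yf54 zf54) (kf xf20 yf4 zf17) (kf xf20 yf4 zf16) (kf xf15 yf23 zf30) (kf xf20 yf4 zf14) (kf xf26 yf18 zf39) (kf xf31 yf6 zf57) (kf xf23 yf33 zf43) (kf xf24 yf57 zf5) (kf xf15 yf23 zf33) (kf xf26 yf12 zf49) (kf xf15 yf23 zf35) (kf xf19 yf59 zf38) (kf xf22 yf31 zf37) (kf xf27 yf57 zf35) (kf xf23 yf32 zf36)) (@D3.rec (fun _ => Pt) (kf xf29 yf30 zf2) (kf xf15 yf23 zf39) (kf xf28 yf0 zf46) (kf xf28 yf0 zf48) (kf xf27 yf57 zf37) (kf xf15 yf23 zf41) (kf xf20 yf31 zf1) (kf xf29 yf24 zf16) (kf xf28 yf20 zf18) (kf xf15 yf23 zf45)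 (kf xf26 yf56 zf15) (kf xf29 yf28 zf50) (kf xf23 yf58 zf6) (kf xf26 yf31 zf17) (kf xf15 yf23 zf48) (kf xf29 yf49 zf60) (kf xf30 yf32 zf5) (kf xf20 yf32 zf39) (kf xf25 yf3 zf58) (kf xf30 yf2 zf54) (kf xf25 yf3 zf60) (kf xf26 yf22 zf42) (kf xf25 yf46 zf41) (kf xf22 yf58 zf28) (kf xf23 yf17 zf39) (kf xf25 yf1 zf56) (kf xf15 yf23 zf56) (kf xf25 yf46 zf38) (kf xf30 yf39 zf56) (kf xf15 yf23 zf58) (kf xf25 yf46 zf43) (kf xf20 yf32 zf31) (kf xf15 yf38 zf30) (kf xf15 yf38 zf31) (kf xf15 yf38 zf32) (kf xf27 yf31 zf35) (kf xf16 yf13 zf44) (kf xf16 yf13 zf46) (kf xf26 yf4 zf25) (kf xf20 yf14 zf28) (kf xf29 yf58 zf40) (kf xf25 yf44 zf24) (kf xf25 yf17 zf3) (kf xf29 yf12 zf56) (kf xf16 yf13 zf40) (kf xf20 yf14 zf32) (kf xf15 yf24 zf16) (kf xf26 yf58 zf44) (kf xf21 yf42 zf22) (kf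 xf15 yf24 zf22) (kf xf18 yf50 zf7) (kf xf15 yf25 zf52) (kf xf17 yf48 zf53) (kf xf21 yf13 zf30) (kf xf16 yf29 zf40) (kf xf27 yf32 zf1) (kf xf16 yf48 zf33) (kf xf18 yf12 zf32) (kf xf15 yf24 zf41) (kf xf18 yf12 zf31) (kf xf27 yf56 zf37) (kf xf27 yf56 zf38)) (@D3.rec (fun _ => Pt) (kf xf25 yf17 zf35) (kf xf28 yf41 zf30) (kf xf29 yf19 zf10) (kf xf25 yf16 zf42) (kf xf15 yf27 zf21) (kf xf15 yf47 zf41) (kf xf29 yf46 zf38) (kf xf29 yf46 zf40) (kf xf15 yf32 zf8) (kf xf31 yf37 zf59) (kf xf27 yf56 zf40) (kf xf17 yf49 zf50) (kf xf28 yf32 zf20) (kf xf19 yf29 zf39) (kf xf19 yf29 zf40) (kf xf17 yf23 zf26) (kf xf21 yf50 zf15) (kf xf18 yf38 zf4) (kf xf15 yf25 zf1) (kf xf21 yf42 zf19) (kf xf15 yf25 zf4) (kf xf25 yf47 zf27) (kf xf15 yf32 zf5) (kf xf15 yf32 zf6) (kf xf15 yf32 zf7) (kf xf17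 yf42 zf11) (kf xf29 yf46 zf39) (kf xf25 yf19 zf0) (kf xf26 yf59 zf40) (kf xf15 yf27 zf25) (kf xf24 yf32 zf52) (kf xf26 yf55 zf19) (kf xf26 yf58 zf46) (kf xf29 yf37 zf51) (kf xf15 yf25 zf15) (kf xf25 yf17 zf0) (kf xf21 yf53 zf40) (kf xf26 yf46 zf33) (kf xf29 yf22 zf61) (kf xf15 yf25 zf21) (kf xf28 yf33 zf16) (kf xf29 yf54 zf57) (kf xf17 yf49 zf52) (kf xf17 yf49 zf51) (kf xf20 yf53 zf40) (kf xf20 yf17 zf45) (kf xf25 yf52 zf56) (kf xf20 yf34 zf28) (kf xf22 yf5 zf45) (kf xf20 yf53 zf36) (kf xf27 yf20 zf21) (kf xf15 yf25 zf51) (kf xf21 yf29 zf5) (kf xf27 yf20 zf25) (kf xf21 yf28 zf26) (kf xf17 yf52 zf29) (kf xf17 yf52 zf35) (kf xf17 yf52 zf36) (kf xf17 yf45 zf5) (kf xf17 yf52 zf43) (kf xf17 yf41 zf40) (kf xf25 yf6 zf41)) (@D3.rec (fun _ => Pt) (kf xf25 yf6 zf42) (kf xf17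 yf41 zf43) (kf xf25 yf6 zf39) (kf xf25 yf6 zf40) (kf xf25 yf21 zf7) (kf xf20 yf42 zf56) (kf xf16 yf59 zf35) (kf xf18 yf32 zf32) (kf xf22 yf33 zf38) (kf xf21 yf2 zf57) (kf xf22 yf56 zf47) (kf xf20 yf32 zf44) (kf xf20 yf36 zf10) (kf xf31 yf6 zf22) (kf xf22 yf34 zf23) (kf xf15 yf26 zf23) (kf xf20 yf32 zf42) (kf xf27 yf2 zf47) (kf xf30 yf14 zf16) (kf xf20 yf2 zf5) (kf xf19 yf43 zf47) (kf xf26 yf31 zf19) (kf xf24 yf59 zf11) (kf xf28 yf13 zf46) (kf xf29 yf24 zf13) (kf xf31 yf50 zf25) (kf xf15 yf26 zf34) (kf xf20 yf45 zf57) (kf xf23 yf58 zf5) (kf xf20 yf45 zf56) (kf xf22 yf49 zf18) (kf xf21 yf52 zf23) (kf xf19 yf43 zf49) (kf xf24 yf28 zf48) (kf xf21 yf16 zf8) (kf xf20 yf31 zf13) (kf xf29 yf19 zf29) (kf xf24 yf2 zf16) (kf xf24 yf18 zf46) (kf xf31 yf50 zf32) (kf xf21 yf49 zf36)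 (kf xf21 yf10 zf23) (kf xf31 yf22 zf27) (kf xf30 yf39 zf16) (kf xf15 yf26 zf61) (kf xf17 yf21 zf12) (kf xf31 yf50 zf34) (kf xf15 yf27 zf2) (kf xf15 yf27 zf4) (kf xf20 yf33 zf45) (kf xf27 yf10 zf33) (kf xf27 yf42 zf17) (kf xf29 yf54 zf29) (kf xf21 yf34 zf61) (kf xf16 yf0 zf7) (kf xf16 yf0 zf8) (kf xf16 yf0 zf9) (kf xf21 yf59 zf32) (kf xf31 yf50 zf37) (kf xf25 yf44 zf43) (kf xf20 yf14 zf25) (kf xf29 yf13 zf61)) (@D3.rec (fun _ => Pt) (kf xf25 yf17 zf27) (kf xf20 yf22 zf23) (kf xf21 yf44 zf45) (kf xf25 yf45 zf33) (kf xf15 yf28 zf17) (kf xf15 yf28 zf18) (kf xf15 yf28 zf19) (kf xf31 yf50 zf39) (kf xf15 yf28 zf0) (kf xf15 yf28 zf1) (kf xf15 yf28 zf2) (kf xf31 yf50 zf40) (kf xf15 yf28 zf48) (kf xf15 yf28 zf49) (kf xf15 yf28 zf50) (kf xf25 yf56 zf46) (kf xf31 yf50 zf46) (kf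 xf15 yf28 zf39) (kf xf31 yf40 zf16) (kf xf15 yf27 zf32) (kf xf15 yf27 zf36) (kf xf16 yf13 zf11) (kf xf31 yf50 zf13) (kf xf15 yf27 zf35) (kf xf15 yf29 zf10) (kf xf25 yf25 zf20) (kf xf20 yf53 zf39) (kf xf20 yf58 zf34) (kf xf20 yf58 zf32) (kf xf20 yf58 zf14) (kf xf31 yf50 zf55) (kf xf24 yf49 zf2) (kf xf15 yf29 zf28) (kf xf15 yf29 zf27) (kf xf15 yf27 zf40) (kf xf24 yf49 zf6) (kf xf27 yf23 zf43) (kf xf27 yf23 zf44) (kf xf18 yf27 zf20) (kf xf15 yf27 zf46) (kf xf28 yf44 zf20) (kf xf25 yf21 zf35) (kf xf26 yf37 zf39) (kf xf28 yf37 zf3) (kf xf28 yf37 zf4) (kf xf28 yf37 zf5) (kf xf25 yf20 zf53) (kf xf24 yf50 zf51) (kf xf24 yf48 zf46) (kf xf24 yf48 zf47) (kf xf31 yf41 zf10) (kf xf24 yf50 zf22) (kf xf31 yf18 zf14) (kf xf31 yf51 zf0) (kf xf24 yf52 zf44) (kf xf16 yf12 zf54) (kf xf29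 yf17 zf54) (kf xf16 yf6 zf24) (kf xf31 yf40 zf22) (kf xf31 yf17 zf51) (kf xf25 yf22 zf3) (kf xf15 yf56 zf9)) (@D3.rec (fun _ => Pt) (kf xf29 yf8 zf58) (kf xf29 yf45 zf24) (kf xf29 yf45 zf21) (kf xf30 yf19 zf24) (kf xf15 yf28 zf6) (kf xf27 yf38 zf13) (kf xf27 yf38 zf12) (kf xf24 yf49 zf53) (kf xf24 yf51 zf3) (kf xf27 yf38 zf9) (kf xf15 yf28 zf9) (kf xf27 yf38 zf10) (kf xf18 yf52 zf23) (kf xf18 yf52 zf25) (kf xf16 yf14 zf12) (kf xf16 yf42 zf26) (kf xf26 yf34 zf53) (kf xf25 yf6 zf23) (kf xf29 yf47 zf46) (kf xf24 yf50 zf14) (kf xf27 yf35 zf48) (kf xf29 yf13 zf37) (kf xf21 yf2 zf8) (kf xf24 yf50 zf7) (kf xf24 yf1 zf24) (kf xf29 yf44 zf61) (kf xf29 yf44 zf59) (kf xf28 yf51 zf48) (kf xf15 yf28 zf22) (kf xf24 yf49 zf36) (kf xf24 yf49 zf38) (kf xf15 yf41 zf50) (kf xf24 yf4 zf34)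 (kf xf29 yf2 zf21) (kf xf28 yf47 zf38) (kf xf17 yf44 zf58) (kf xf27 yf23 zf48) (kf xf19 yf19 zf0) (kf xf15 yf56 zf6) (kf xf15 yf56 zf7) (kf xf15 yf56 zf8) (kf xf24 yf50 zf33) (kf xf24 yf50 zf34) (kf xf19 yf27 zf6) (kf xf24 yf50 zf36) (kf xf27 yf37 zf9) (kf xf19 yf7 zf52) (kf xf31 yf51 zf26) (kf xf31 yf40 zf36) (kf xf31 yf51 zf24) (kf xf28 yf45 zf19) (kf xf31 yf51 zf34) (kf xf15 yf28 zf34) (kf xf25 yf19 zf46) (kf xf26 yf37 zf55) (kf xf29 yf46 zf2) (kf xf29 yf46 zf0) (kf xf31 yf51 zf44) (kf xf15 yf28 zf37) (kf xf28 yf49 zf6) (kf xf28 yf49 zf7) (kf xf31 yf50 zf47)) (@D3.rec (fun _ => Pt) (kf xf31 yf50 zf48) (kf xf24 yf51 zf4) (kf xf25 yf37 zf27) (kf xf31 yf51 zf53) (kf xf15 yf28 zf40) (kf xf29 yf45 zf41) (kf xf29 yf45 zf42) (kf xf25 yf18 zf4) (kf xf27 yf11 zf17) (kf xf25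 yf6 zf51) (kf xf20 yf5 zf15) (kf xf29 yf41 zf34) (kf xf29 yf41 zf35) (kf xf31 yf51 zf58) (kf xf15 yf28 zf52) (kf xf27 yf37 zf12) (kf xf27 yf37 zf11) (kf xf29 yf36 zf16) (kf xf15 yf28 zf53) (kf xf24 yf49 zf55) (kf xf24 yf50 zf46) (kf xf27 yf36 zf61) (kf xf24 yf49 zf54) (kf xf27 yf36 zf59) (kf xf15 yf28 zf56) (kf xf20 yf53 zf37) (kf xf25 yf37 zf36) (kf xf28 yf37 zf6) (kf xf24 yf51 zf16) (kf xf28 yf37 zf7) (kf xf31 yf52 zf8) (kf xf31 yf52 zf6) (kf xf31 yf48 zf22) (kf xf31 yf52 zf16) (kf xf15 yf29 zf0) (kf xf25 yf19 zf41) (kf xf24 yf51 zf32) (kf xf28 yf40 zf41) (kf xf28 yf40 zf40) (kf xf31 yf52 zf24) (kf xf15 yf29 zf2) (kf xf16 yf9 zf36) (kf xf31 yf52 zf27) (kf xf15 yf29 zf3) (kf xf28 yf37 zf10) (kf xf28 yf37 zf9) (kf xf31 yf52 zf36) (kf xf15 yf29 zf5) (kf xf28 yf36 zf55)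 (kf xf15 yf29 zf6) (kf xf15 yf29 zf15) (kf xf19 yf42 zf41) (kf xf22 yf7 zf41) (kf xf31 yf21 zf20) (kf xf28 yf20 zf42) (kf xf31 yf52 zf42) (kf xf28 yf49 zf52) (kf xf28 yf55 zf23) (kf xf15 yf29 zf11) (kf xf25 yf53 zf2) (kf xf16 yf13 zf7) (kf xf31 yf21 zf22)) (@D3.rec (fun _ => Pt) (kf xf24 yf48 zf57) (kf xf22 yf7 zf39) (kf xf29 yf47 zf45) (kf xf25 yf19 zf60) (kf xf24 yf51 zf24) (kf xf29 yf47 zf43) (kf xf31 yf40 zf59) (kf xf20 yf55 zf38) (kf xf31 yf52 zf47) (kf xf28 yf55 zf6) (kf xf15 yf29 zf19) (kf xf31 yf52 zf48) (kf xf19 yf42 zf46) (kf xf19 yf42 zf48) (kf xf31 yf52 zf50) (kf xf26 yf34 zf19) (kf xf29 yf44 zf44) (kf xf31 yf52 zf54) (kf xf15 yf29 zf23) (kf xf31 yf40 zf49) (kf xf31 yf45 zf61) (kf xf28 yf51 zf24) (kf xf15 yf29 zf24) (kf xf20 yf55 zf36) (kf xf20 yf55 zf37)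 (kf xf20 yf55 zf35) (kf xf16 yf41 zf43) (kf xf20 yf58 zf44) (kf xf15 yf29 zf26) (kf xf27 yf44 zf46) (kf xf25 yf9 zf16) (kf xf29 yf0 zf12) (kf xf27 yf44 zf47) (kf xf29 yf11 zf10) (kf xf28 yf54 zf47) (kf xf15 yf29 zf30) (kf xf20 yf58 zf36) (kf xf19 yf57 zf58) (kf xf19 yf42 zf50) (kf xf24 yf52 zf14) (kf xf24 yf52 zf15) (kf xf28 yf18 zf45) (kf xf19 yf38 zf17) (kf xf24 yf52 zf17) (kf xf17 yf42 zf12) (kf xf19 yf59 zf32) (kf xf19 yf59 zf33) (kf xf26 yf48 zf7) (kf xf21 yf2 zf13) (kf xf15 yf29 zf43) (kf xf21 yf1 zf41) (kf xf21 yf1 zf42) (kf xf21 yf1 zf43) (kf xf21 yf1 zf45) (kf xf21 yf1 zf46) (kf xf21 yf1 zf47) (kf xf25 yf9 zf50) (kf xf21 yf1 zf49) (kf xf29 yf16 zf48) (kf xf25 yf7 zf37) (kf xf25 yf7 zf36) (kf xf31 yf53 zf5)) (@D3.rec (fun _ => Pt) (kf xf15 yf29 zf53) (kf xf27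 yf24 zf2) (kf xf25 yf10 zf55) (kf xf29 yf13 zf46) (kf xf21 yf2 zf5) (kf xf21 yf2 zf6) (kf xf18 yf7 zf47) (kf xf29 yf17 zf47) (kf xf18 yf7 zf39) (kf xf29 yf0 zf54) (kf xf30 yf40 zf56) (kf xf15 yf29 zf59) (kf xf26 yf6 zf36) (kf xf26 yf6 zf37) (kf xf26 yf6 zf34) (kf xf26 yf6 zf35) (kf xf25 yf11 zf43) (kf xf16 yf50 zf29) (kf xf15 yf30 zf0) (kf xf17 yf44 zf55) (kf xf26 yf6 zf43) (kf xf26 yf6 zf44) (kf xf16 yf18 zf45) (kf xf25 yf45 zf29) (kf xf26 yf6 zf40) (kf xf26 yf6 zf41) (kf xf19 yf18 zf34) (kf xf16 yf58 zf43) (kf xf16 yf58 zf46) (kf xf19 yf25 zf48) (kf xf16 yf51 zf23) (kf xf25 yf6 zf49) (kf xf19 yf49 zf22) (kf xf29 yf36 zf5) (kf xf29 yf23 zf32) (kf xf31 yf53 zf18) (kf xf15 yf30 zf18) (kf xf16 yf51 zf26) (kf xf20 yf26 zf49) (kf xf17 yf11 zf3) (kf xf20 yf27 zf34) (kf xf29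 yf52 zf40) (kf xf20 yf23 zf44) (kf xf19 yf42 zf49) (kf xf19 yf42 zf52) (kf xf19 yf42 zf53) (kf xf19 yf25 zf5) (kf xf17 yf58 zf32) (kf xf18 yf25 zf44) (kf xf17 yf5 zf56) (kf xf18 yf25 zf6) (kf xf25 yf25 zf32) (kf xf25 yf25 zf33) (kf xf20 yf0 zf10) (kf xf18 yf4 zf21) (kf xf15 yf30 zf57) (kf xf18 yf5 zf51) (kf xf18 yf13 zf40) (kf xf18 yf45 zf11) (kf xf28 yf22 zf2) (kf xf28 yf22 zf3) (kf xf23 yf58 zf1)) (@D3.rec (fun _ => Pt) (kf xf28 yf22 zf4) (kf xf26 yf32 zf11) (kf xf24 yf48 zf28) (kf xf25 yf26 zf41) (kf xf25 yf26 zf42) (kf xf25 yf26 zf29) (kf xf17 yf10 zf36) (kf xf25 yf25 zf41) (kf xf25 yf24 zf27) (kf xf28 yf57 zf14) (kf xf25 yf25 zf43) (kf xf25 yf24 zf28) (kf xf25 yf36 zf5) (kf xf27 yf1 zf53) (kf xf20 yf59 zf13) (kf xf20 yf59 zf12) (kf xf17 yf27 zf52) (kf xf19 yf53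 zf44) (kf xf21 yf17 zf40) (kf xf20 yf59 zf21) (kf xf20 yf59 zf19) (kf xf19 yf31 zf7) (kf xf19 yf8 zf52) (kf xf25 yf4 zf16) (kf xf17 yf33 zf57) (kf xf25 yf25 zf51) (kf xf23 yf9 zf35) (kf xf25 yf24 zf8) (kf xf25 yf24 zf11) (kf xf23 yf46 zf39) (kf xf31 yf17 zf41) (kf xf21 yf0 zf26) (kf xf21 yf0 zf27) (kf xf25 yf26 zf5) (kf xf22 yf6 zf41) (kf xf25 yf4 zf36) (kf xf15 yf40 zf60) (kf xf25 yf56 zf35) (kf xf25 yf56 zf45) (kf xf17 yf27 zf35) (kf xf19 yf46 zf40) (kf xf25 yf25 zf58) (kf xf25 yf25 zf59) (kf xf25 yf25 zf60) (kf xf23 yf0 zf51) (kf xf25 yf5 zf5) (kf xf15 yf31 zf46) (kf xf30 yf54 zf33) (kf xf29 yf41 zf54) (kf xf30 yf46 zf24) (kf xf31 yf53 zf30) (kf xf22 yf2 zf59) (kf xf15 yf31 zf44) (kf xf22 yf54 zf35) (kf xf25 yf5 zf29) (kf xf25 yf5 zf30) (kf xf25 yf5 zf31) (kf xf22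 yf6 zf47) (kf xf30 yf56 zf24) (kf xf25 yf26 zf39) (kf xf25 yf26 zf38) (kf xf15 yf31 zf52)) (@D3.rec (fun _ => Pt) (kf xf25 yf26 zf36) (kf xf19 yf8 zf57) (kf xf30 yf26 zf54) (kf xf15 yf46 zf32) (kf xf15 yf46 zf34) (kf xf15 yf31 zf54) (kf xf25 yf25 zf37) (kf xf25 yf25 zf38) (kf xf25 yf25 zf36) (kf xf25 yf26 zf45) (kf xf27 yf13 zf55) (kf xf15 yf31 zf56) (kf xf22 yf7 zf10) (kf xf15 yf31 zf60) (kf xf18 yf55 zf52) (kf xf18 yf55 zf49) (kf xf26 yf39 zf18) (kf xf25 yf5 zf57) (kf xf26 yf46 zf45) (kf xf16 yf45 zf55) (kf xf25 yf19 zf25) (kf xf27 yf22 zf22) (kf xf29 yf22 zf10) (kf xf31 yf34 zf37) (kf xf18 yf52 zf43) (kf xf21 yf52 zf5) (kf xf21 yf51 zf14) (kf xf31 yf50 zf9) (kf xf31 yf53 zf41) (kf xf26 yf10 zf24) (kf xf26 yf10 zf23) (kf xf15 yf32 zf9) (kf xf25 yf23 zf51) (kf xf25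 yf23 zf52) (kf xf15 yf32 zf14) (kf xf18 yf57 zf15) (kf xf25 yf25 zf8) (kf xf25 yf25 zf6) (kf xf25 yf25 zf7) (kf xf27 yf2 zf43) (kf xf25 yf30 zf58) (kf xf25 yf24 zf7) (kf xf24 yf16 zf60) (kf xf25 yf24 zf10) (kf xf24 yf3 zf15) (kf xf22 yf54 zf40) (kf xf22 yf48 zf18) (kf xf15 yf40 zf31) (kf xf19 yf35 zf13) (kf xf16 yf43 zf5) (kf xf19 yf44 zf23) (kf xf25 yf24 zf25) (kf xf17 yf12 zf0) (kf xf17 yf12 zf8) (kf xf19 yf26 zf7) (kf xf19 yf26 zf16) (kf xf19 yf26 zf12) (kf xf19 yf26 zf13) (kf xf25 yf24 zf41) (kf xf25 yf24 zf42) (kf xf25 yf24 zf43) (kf xf31 yf26 zf61)) (@D3.rec (fun _ => Pt) (kf xf23 yf1 zf22) (kf xf15 yf58 zf46) (kf xf23 yf19 zf13) (kf xf15 yf57 zf0) (kf xf15 yf32 zf42) (kf xf25 yf24 zf33) (kf xf24 yf4 zf0) (kf xf24 yf18 zf47) (kf xf24 yf4 zf1) (kf xf15 yf32 zf50)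 (kf xf19 yf34 zf50) (kf xf15 yf32 zf60) (kf xf20 yf17 zf52) (kf xf25 yf5 zf50) (kf xf17 yf31 zf55) (kf xf15 yf32 zf55) (kf xf20 yf20 zf41) (kf xf28 yf16 zf5) (kf xf28 yf15 zf35) (kf xf15 yf32 zf57) (kf xf29 yf48 zf38) (kf xf15 yf32 zf58) (kf xf28 yf15 zf36) (kf xf31 yf53 zf51) (kf xf25 yf31 zf45) (kf xf25 yf27 zf1) (kf xf28 yf16 zf51) (kf xf27 yf54 zf52) (kf xf28 yf15 zf53) (kf xf25 yf24 zf5) (kf xf27 yf54 zf47) (kf xf15 yf33 zf1) (kf xf25 yf4 zf38) (kf xf19 yf34 zf51) (kf xf19 yf34 zf52) (kf xf19 yf34 zf53) (kf xf25 yf25 zf0) (kf xf26 yf45 zf14) (kf xf25 yf24 zf60) (kf xf25 yf24 zf59) (kf xf25 yf29 zf28) (kf xf25 yf24 zf3) (kf xf25 yf24 zf4) (kf xf20 yf11 zf56) (kf xf20 yf11 zf49) (kf xf25 yf25 zf9) (kf xf27 yf14 zf40) (kf xf15 yf33 zf9) (kf xf15 yf34 zf1) (kf xf15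 yf33 zf13) (kf xf25 yf4 zf37) (kf xf19 yf34 zf61) (kf xf25 yf36 zf55) (kf xf15 yf36 zf45) (kf xf22 yf56 zf17) (kf xf25 yf47 zf40) (kf xf15 yf35 zf5) (kf xf15 yf35 zf6) (kf xf15 yf36 zf55) (kf xf21 yf58 zf57) (kf xf15 yf37 zf1) (kf xf15 yf37 zf4)) (@D3.rec (fun _ => Pt) (kf xf15 yf37 zf5) (kf xf25 yf26 zf25) (kf xf31 yf47 zf58) (kf xf15 yf33 zf29) (kf xf15 yf35 zf56) (kf xf15 yf35 zf57) (kf xf15 yf35 zf55) (kf xf31 yf54 zf7) (kf xf15 yf33 zf32) (kf xf15 yf36 zf3) (kf xf15 yf35 zf29) (kf xf25 yf53 zf32) (kf xf15 yf35 zf32) (kf xf30 yf8 zf46) (kf xf15 yf35 zf36) (kf xf22 yf11 zf30) (kf xf15 yf35 zf38) (kf xf15 yf35 zf40) (kf xf27 yf21 zf53) (kf xf15 yf33 zf40) (kf xf28 yf48 zf32) (kf xf15 yf37 zf19) (kf xf29 yf45 zf27) (kf xf15 yf33 zf42) (kf xf15 yf37 zf25) (kf xf15 yf37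 zf26) (kf xf15 yf38 zf42) (kf xf25 yf53 zf37) (kf xf15 yf38 zf47) (kf xf30 yf45 zf31) (kf xf29 yf56 zf24) (kf xf31 yf31 zf27) (kf xf15 yf33 zf51) (kf xf15 yf38 zf15) (kf xf15 yf38 zf16) (kf xf15 yf38 zf19) (kf xf15 yf38 zf18) (kf xf31 yf54 zf12) (kf xf15 yf33 zf54) (kf xf15 yf37 zf59) (kf xf29 yf50 zf44) (kf xf15 yf38 zf1) (kf xf29 yf41 zf61) (kf xf25 yf57 zf6) (kf xf29 yf0 zf25) (kf xf22 yf20 zf55) (kf xf15 yf34 zf0) (kf xf15 yf38 zf55) (kf xf25 yf53 zf40) (kf xf15 yf38 zf58) (kf xf19 yf29 zf8) (kf xf15 yf39 zf46) (kf xf15 yf39 zf47) (kf xf25 yf53 zf56) (kf xf15 yf39 zf51) (kf xf15 yf39 zf53) (kf xf15 yf39 zf57) (kf xf29 yf37 zf49) (kf xf25 yf59 zf2) (kf xf15 yf39 zf39) (kf xf15 yf39 zf42) (kf xf29 yf36 zf15)) (@D3.rec (fun _ => Pt) (kf xf15 yf39 zf13) (kf xf15 yf39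 zf14) (kf xf15 yf39 zf15) (kf xf15 yf39 zf17) (kf xf15 yf39 zf18) (kf xf15 yf39 zf19) (kf xf25 yf54 zf5) (kf xf25 yf58 zf31) (kf xf30 yf47 zf50) (kf xf15 yf34 zf19) (kf xf15 yf34 zf28) (kf xf15 yf34 zf30) (kf xf25 yf13 zf40) (kf xf19 yf48 zf34) (kf xf25 yf41 zf2) (kf xf26 yf24 zf22) (kf xf28 yf42 zf20) (kf xf15 yf34 zf23) (kf xf25 yf57 zf33) (kf xf31 yf46 zf30) (kf xf31 yf47 zf38) (kf xf20 yf29 zf43) (kf xf27 yf38 zf38) (kf xf28 yf7 zf23) (kf xf30 yf19 zf60) (kf xf31 yf46 zf31) (kf xf30 yf19 zf61) (kf xf29 yf15 zf27) (kf xf22 yf6 zf34) (kf xf28 yf23 zf49) (kf xf26 yf24 zf47) (kf xf31 yf38 zf38) (kf xf30 yf1 zf46) (kf xf31 yf38 zf36) (kf xf18 yf52 zf52) (kf xf29 yf50 zf26) (kf xf26 yf20 zf31) (kf xf20 yf7 zf8) (kf xf28 yf23 zf40) (kf xf15 yf40 zf50) (kf xf27 yf12 zf56)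 (kf xf31 yf54 zf27) (kf xf15 yf34 zf38) (kf xf15 yf40 zf61) (kf xf15 yf41 zf0) (kf xf17 yf37 zf21) (kf xf17 yf37 zf22) (kf xf17 yf37 zf23) (kf xf27 yf26 zf33) (kf xf27 yf26 zf35) (kf xf27 yf26 zf36) (kf xf17 yf40 zf56) (kf xf17 yf40 zf17) (kf xf17 yf40 zf19) (kf xf17 yf37 zf56) (kf xf17 yf40 zf53) (kf xf27 yf17 zf44) (kf xf27 yf17 zf48) (kf xf17 yf41 zf12) (kf xf17 yf41 zf11) (kf xf15 yf34 zf49) (kf xf15 yf34 zf54)) (@D3.rec (fun _ => Pt) (kf xf17 yf42 zf14) (kf xf31 yf40 zf40) (kf xf25 yf4 zf41) (kf xf25 yf56 zf44) (kf xf22 yf1 zf61) (kf xf26 yf34 zf15) (kf xf25 yf4 zf42) (kf xf25 yf31 zf61) (kf xf30 yf54 zf45) (kf xf15 yf35 zf0) (kf xf25 yf48 zf27) (kf xf25 yf38 zf6) (kf xf25 yf55 zf43) (kf xf27 yf11 zf29) (kf xf25 yf55 zf9) (kf xf26 yf1 zf2) (kf xf21 yf58 zf55) (kf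 xf26 yf1 zf3) (kf xf21 yf17 zf15) (kf xf23 yf11 zf30) (kf xf25 yf54 zf56) (kf xf28 yf20 zf30) (kf xf28 yf58 zf0) (kf xf28 yf57 zf40) (kf xf28 yf20 zf31) (kf xf29 yf51 zf5) (kf xf25 yf33 zf18) (kf xf22 yf55 zf50) (kf xf25 yf26 zf40) (kf xf26 yf16 zf54) (kf xf26 yf51 zf17) (kf xf25 yf33 zf19) (kf xf22 yf3 zf2) (kf xf25 yf32 zf57) (kf xf22 yf16 zf29) (kf xf22 yf1 zf56) (kf xf25 yf55 zf25) (kf xf16 yf7 zf0) (kf xf19 yf39 zf34) (kf xf31 yf54 zf38) (kf xf22 yf8 zf12) (kf xf26 yf17 zf0) (kf xf31 yf54 zf8) (kf xf27 yf48 zf19) (kf xf28 yf44 zf48) (kf xf31 yf54 zf9) (kf xf26 yf14 zf9) (kf xf15 yf35 zf31) (kf xf25 yf54 zf53) (kf xf26 yf16 zf55) (kf xf25 yf7 zf52) (kf xf30 yf8 zf47) (kf xf17 yf39 zf10) (kf xf27 yf39 zf36) (kf xf16 yf1 zf20) (kf xf25 yf53 zf29) (kf xf31 yf54 zf45)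 (kf xf15 yf35 zf35) (kf xf26 yf3 zf46) (kf xf31 yf36 zf3) (kf xf15 yf35 zf43) (kf xf29 yf56 zf55)) (@D3.rec (fun _ => Pt) (kf xf15 yf35 zf37) (kf xf19 yf57 zf2) (kf xf16 yf1 zf59) (kf xf26 yf55 zf2) (kf xf25 yf43 zf30) (kf xf29 yf37 zf17) (kf xf31 yf54 zf47) (kf xf31 yf54 zf46) (kf xf31 yf54 zf56) (kf xf15 yf35 zf41) (kf xf21 yf27 zf6) (kf xf27 yf48 zf23) (kf xf31 yf54 zf49) (kf xf23 yf39 zf48) (kf xf15 yf35 zf44) (kf xf28 yf57 zf34) (kf xf28 yf59 zf28) (kf xf21 yf27 zf5) (kf xf28 yf59 zf25) (kf xf30 yf47 zf10) (kf xf30 yf10 zf44) (kf xf27 yf30 zf14) (kf xf15 yf35 zf52) (kf xf28 yf57 zf39) (kf xf31 yf46 zf46) (kf xf25 yf57 zf45) (kf xf21 yf27 zf11) (kf xf21 yf27 zf10) (kf xf15 yf42 zf50) (kf xf27 yf18 zf17) (kf xf25 yf56 zf8) (kf xf25 yf57 zf46) (kf xf29 yf5 zf13) (kf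 xf25 yf36 zf51) (kf xf21 yf49 zf28) (kf xf25 yf57 zf52) (kf xf25 yf57 zf47) (kf xf25 yf57 zf49) (kf xf29 yf3 zf51) (kf xf25 yf57 zf57) (kf xf25 yf57 zf55) (kf xf30 yf9 zf33) (kf xf18 yf47 zf35) (kf xf15 yf35 zf61) (kf xf17 yf28 zf23) (kf xf16 yf19 zf0) (kf xf16 yf19 zf1) (kf xf27 yf24 zf35) (kf xf18 yf48 zf15) (kf xf26 yf1 zf5) (kf xf29 yf5 zf6) (kf xf18 yf47 zf32) (kf xf27 yf6 zf9) (kf xf18 yf47 zf29) (kf xf24 yf15 zf31) (kf xf18 yf47 zf34) (kf xf31 yf36 zf40) (kf xf19 yf12 zf57) (kf xf25 yf25 zf40) (kf xf18 yf46 zf44) (kf xf25 yf56 zf16) (kf xf15 yf36 zf21)) (@D3.rec (fun _ => Pt) (kf xf20 yf12 zf31) (kf xf17 yf48 zf49) (kf xf19 yf40 zf41) (kf xf27 yf37 zf53) (kf xf19 yf35 zf51) (kf xf29 yf51 zf52) (kf xf22 yf3 zf38) (kf xf17 yf30 zf59) (kf xf15 yf36 zf34) (kf xf26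 yf35 zf56) (kf xf20 yf14 zf26) (kf xf22 yf3 zf6) (kf xf31 yf50 zf10) (kf xf19 yf51 zf50) (kf xf15 yf36 zf37) (kf xf17 yf48 zf58) (kf xf19 yf16 zf20) (kf xf19 yf16 zf21) (kf xf24 yf17 zf22) (kf xf19 yf39 zf13) (kf xf19 yf46 zf25) (kf xf25 yf33 zf37) (kf xf28 yf59 zf42) (kf xf15 yf36 zf47) (kf xf25 yf31 zf54) (kf xf15 yf46 zf58) (kf xf15 yf58 zf24) (kf xf15 yf58 zf25) (kf xf31 yf1 zf53) (kf xf25 yf40 zf37) (kf xf19 yf16 zf45) (kf xf22 yf2 zf3) (kf xf21 yf31 zf3) (kf xf25 yf34 zf7) (kf xf25 yf34 zf9) (kf xf25 yf34 zf19) (kf xf21 yf58 zf56) (kf xf16 yf0 zf1) (kf xf27 yf55 zf28) (kf xf26 yf41 zf46) (kf xf15 yf37 zf2) (kf xf23 yf0 zf36) (kf xf28 yf8 zf9) (kf xf31 yf55 zf20) (kf xf26 yf32 zf2) (kf xf25 yf26 zf24) (kf xf25 yf56 zf27) (kf xf21 yf50 zf26) (kf xf21 yf45 zf38)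 (kf xf15 yf37 zf9) (kf xf29 yf44 zf30) (kf xf15 yf37 zf12) (kf xf25 yf55 zf27) (kf xf25 yf55 zf31) (kf xf25 yf31 zf24) (kf xf25 yf55 zf36) (kf xf22 yf3 zf32) (kf xf25 yf55 zf37) (kf xf29 yf34 zf50) (kf xf28 yf57 zf41) (kf xf28 yf58 zf2) (kf xf25 yf29 zf7)) (@D3.rec (fun _ => Pt) (kf xf28 yf57 zf61) (kf xf30 yf8 zf48) (kf xf28 yf57 zf60) (kf xf28 yf50 zf35) (kf xf29 yf45 zf28) (kf xf30 yf9 zf26) (kf xf19 yf29 zf3) (kf xf15 yf37 zf21) (kf xf31 yf55 zf22) (kf xf19 yf35 zf7) (kf xf19 yf35 zf8) (kf xf25 yf55 zf7) (kf xf25 yf36 zf48) (kf xf25 yf55 zf8) (kf xf27 yf11 zf28) (kf xf29 yf17 zf18) (kf xf26 yf36 zf56) (kf xf29 yf33 zf15) (kf xf19 yf29 zf10) (kf xf19 yf29 zf5) (kf xf19 yf29 zf6) (kf xf19 yf29 zf0) (kf xf19 yf29 zf1) (kf xf19 yf31 zf19) (kf xf31 yf55 zf40) (kf xf31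 yf39 zf7) (kf xf31 yf55 zf36) (kf xf31 yf55 zf45) (kf xf15 yf37 zf31) (kf xf15 yf56 zf25) (kf xf28 yf49 zf0) (kf xf29 yf34 zf23) (kf xf15 yf37 zf32) (kf xf19 yf29 zf21) (kf xf16 yf30 zf6) (kf xf18 yf44 zf28) (kf xf19 yf29 zf25) (kf xf17 yf20 zf30) (kf xf15 yf37 zf38) (kf xf15 yf40 zf22) (kf xf16 yf16 zf6) (kf xf17 yf40 zf18) (kf xf17 yf40 zf21) (kf xf17 yf39 zf11) (kf xf17 yf40 zf23) (kf xf27 yf26 zf40) (kf xf29 yf59 zf55) (kf xf27 yf30 zf53) (kf xf29 yf59 zf39) (kf xf15 yf54 zf58) (kf xf21 yf39 zf43) (kf xf22 yf53 zf25) (kf xf27 yf19 zf60) (kf xf15 yf46 zf51) (kf xf15 yf46 zf53) (kf xf15 yf46 zf36) (kf xf19 yf6 zf0) (kf xf25 yf29 zf33) (kf xf21 yf39 zf28) (kf xf27 yf29 zf53) (kf xf15 yf52 zf47) (kf xf17 yf37 zf58)) (@D3.rec (fun _ => Pt) (kf xf31 yf54 zf13) (kf xf25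 yf12 zf4) (kf xf15 yf38 zf3) (kf xf24 yf37 zf31) (kf xf15 yf37 zf60) (kf xf20 yf29 zf40) (kf xf31 yf45 zf40) (kf xf31 yf54 zf14) (kf xf15 yf59 zf50) (kf xf29 yf16 zf45) (kf xf20 yf43 zf43) (kf xf22 yf21 zf18) (kf xf15 yf38 zf2) (kf xf26 yf15 zf12) (kf xf25 yf53 zf44) (kf xf31 yf0 zf32) (kf xf24 yf37 zf43) (kf xf24 yf37 zf46) (kf xf25 yf29 zf26) (kf xf25 yf29 zf31) (kf xf22 yf52 zf36) (kf xf24 yf58 zf41) (kf xf30 yf19 zf56) (kf xf29 yf4 zf42) (kf xf29 yf4 zf43) (kf xf31 yf45 zf56) (kf xf29 yf50 zf48) (kf xf31 yf55 zf61) (kf xf15 yf38 zf11) (kf xf27 yf19 zf59) (kf xf28 yf59 zf50) (kf xf21 yf43 zf20) (kf xf28 yf42 zf9) (kf xf25 yf41 zf50) (kf xf28 yf42 zf37) (kf xf25 yf57 zf48) (kf xf31 yf47 zf49) (kf xf25 yf31 zf21) (kf xf31 yf54 zf11) (kf xf25 yf35 zf4) (kf xf31 yf47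 zf10) (kf xf28 yf42 zf7) (kf xf25 yf35 zf3) (kf xf31 yf41 zf24) (kf xf19 yf38 zf18) (kf xf19 yf38 zf48) (kf xf19 yf38 zf35) (kf xf15 yf38 zf20) (kf xf19 yf38 zf14) (kf xf26 yf2 zf59) (kf xf15 yf41 zf10) (kf xf19 yf38 zf24) (kf xf19 yf38 zf27) (kf xf19 yf38 zf29) (kf xf25 yf12 zf38) (kf xf16 yf17 zf56) (kf xf15 yf38 zf33) (kf xf17 yf42 zf16) (kf xf17 yf42 zf37) (kf xf27 yf50 zf55) (kf xf18 yf58 zf13) (kf xf23 yf50 zf32)) (@D3.rec (fun _ => Pt) (kf xf28 yf6 zf14) (kf xf15 yf46 zf31) (kf xf26 yf3 zf40) (kf xf22 yf8 zf20) (kf xf24 yf19 zf1) (kf xf25 yf47 zf4) (kf xf31 yf23 zf29) (kf xf25 yf31 zf33) (kf xf30 yf20 zf21) (kf xf25 yf31 zf34) (kf xf27 yf49 zf35) (kf xf27 yf49 zf36) (kf xf30 yf45 zf32) (kf xf31 yf23 zf30) (kf xf15 yf38 zf52) (kf xf22 yf2 zf37) (kf xf22 yf53 zf29)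 (kf xf27 yf2 zf55) (kf xf31 yf45 zf41) (kf xf25 yf31 zf35) (kf xf25 yf57 zf25) (kf xf27 yf2 zf42) (kf xf15 yf41 zf24) (kf xf15 yf46 zf40) (kf xf30 yf56 zf59) (kf xf30 yf18 zf45) (kf xf15 yf41 zf13) (kf xf29 yf4 zf39) (kf xf18 yf45 zf50) (kf xf25 yf57 zf61) (kf xf15 yf40 zf23) (kf xf23 yf24 zf15) (kf xf31 yf7 zf7) (kf xf24 yf10 zf17) (kf xf25 yf58 zf9) (kf xf25 yf58 zf11) (kf xf19 yf47 zf58) (kf xf31 yf54 zf15) (kf xf27 yf40 zf30) (kf xf30 yf55 zf37) (kf xf15 yf39 zf31) (kf xf15 yf39 zf30) (kf xf15 yf39 zf22) (kf xf24 yf27 zf58) (kf xf25 yf58 zf21) (kf xf29 yf51 zf8) (kf xf15 yf39 zf26) (kf xf30 yf49 zf19) (kf xf30 yf49 zf20) (kf xf24 yf39 zf4) (kf xf31 yf36 zf7) (kf xf31 yf53 zf32) (kf xf25 yf54 zf12) (kf xf25 yf51 zf9) (kf xf28 yf41 zf0) (kf xf25 yf51 zf8) (kf xf23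 yf45 zf21) (kf xf28 yf42 zf22) (kf xf29 yf41 zf10) (kf xf15 yf39 zf32) (kf xf17 yf43 zf21) (kf xf21 yf5 zf35)) (@D3.rec (fun _ => Pt) (kf xf19 yf26 zf4) (kf xf29 yf35 zf60) (kf xf26 yf44 zf30) (kf xf25 yf33 zf42) (kf xf25 yf33 zf39) (kf xf15 yf39 zf44) (kf xf28 yf15 zf41) (kf xf27 yf48 zf28) (kf xf30 yf20 zf1) (kf xf26 yf13 zf15) (kf xf25 yf58 zf43) (kf xf25 yf58 zf46) (kf xf25 yf47 zf15) (kf xf15 yf39 zf59) (kf xf15 yf39 zf54) (kf xf28 yf57 zf45) (kf xf25 yf47 zf59) (kf xf19 yf37 zf10) (kf xf28 yf57 zf48) (kf xf28 yf57 zf50) (kf xf27 yf38 zf2) (kf xf29 yf37 zf15) (kf xf30 yf14 zf39) (kf xf29 yf48 zf34) (kf xf31 yf56 zf22) (kf xf29 yf48 zf35) (kf xf29 yf37 zf46) (kf xf29 yf37 zf47) (kf xf20 yf49 zf44) (kf xf30 yf20 zf3) (kf xf19 yf37 zf54) (kf xf25 yf6 zf14) (kf xf15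 yf40 zf29) (kf xf15 yf40 zf25) (kf xf17 yf28 zf31) (kf xf15 yf40 zf26) (kf xf28 yf48 zf24) (kf xf17 yf28 zf32) (kf xf22 yf52 zf54) (kf xf24 yf8 zf48) (kf xf17 yf29 zf15) (kf xf30 yf20 zf2) (kf xf24 yf8 zf44) (kf xf17 yf29 zf13) (kf xf17 yf29 zf14) (kf xf22 yf33 zf27) (kf xf25 yf43 zf20) (kf xf16 yf1 zf51) (kf xf28 yf21 zf4) (kf xf15 yf40 zf19) (kf xf17 yf29 zf17) (kf xf17 yf29 zf19) (kf xf20 yf43 zf59) (kf xf31 yf35 zf46) (kf xf17 yf42 zf48) (kf xf31 yf55 zf57) (kf xf16 yf1 zf26) (kf xf30 yf46 zf49) (kf xf30 yf50 zf55) (kf xf16 yf1 zf49) (kf xf31 yf56 zf26) (kf xf15 yf40 zf27)) (@D3.rec (fun _ => Pt) (kf xf15 yf40 zf34) (kf xf15 yf40 zf35) (kf xf15 yf40 zf37) (kf xf30 yf47 zf17) (kf xf26 yf25 zf36) (kf xf25 yf24 zf12) (kf xf17 yf25 zf37) (kf xf25 yf58 zf44) (kf xf25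 yf56 zf42) (kf xf15 yf51 zf49) (kf xf18 yf55 zf43) (kf xf18 yf55 zf29) (kf xf28 yf19 zf33) (kf xf28 yf19 zf29) (kf xf20 yf43 zf53) (kf xf31 yf17 zf31) (kf xf30 yf19 zf50) (kf xf31 yf23 zf23) (kf xf31 yf23 zf25) (kf xf30 yf19 zf49) (kf xf19 yf45 zf46) (kf xf19 yf45 zf42) (kf xf29 yf5 zf27) (kf xf15 yf40 zf48) (kf xf19 yf8 zf58) (kf xf24 yf15 zf8) (kf xf15 yf40 zf52) (kf xf28 yf19 zf30) (kf xf23 yf12 zf36) (kf xf19 yf39 zf11) (kf xf28 yf19 zf31) (kf xf18 yf55 zf34) (kf xf30 yf55 zf38) (kf xf20 yf29 zf9) (kf xf19 yf38 zf60) (kf xf15 yf41 zf6) (kf xf25 yf4 zf23) (kf xf26 yf0 zf1) (kf xf25 yf6 zf7) (kf xf30 yf7 zf13) (kf xf19 yf27 zf59) (kf xf18 yf52 zf36) (kf xf25 yf6 zf8) (kf xf16 yf36 zf58) (kf xf25 yf6 zf4) (kf xf31 yf56 zf12) (kf xf25 yf6 zf5) (kf xf16 yf8 zf17) (kf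 xf25 yf32 zf12) (kf xf28 yf58 zf26) (kf xf26 yf0 zf8) (kf xf25 yf30 zf33) (kf xf26 yf44 zf39) (kf xf25 yf7 zf30) (kf xf26 yf59 zf0) (kf xf25 yf26 zf52) (kf xf17 yf5 zf41) (kf xf26 yf0 zf10) (kf xf26 yf37 zf14) (kf xf20 yf37 zf30) (kf xf20 yf57 zf3) (kf xf16 yf41 zf50)) (@D3.rec (fun _ => Pt) (kf xf23 yf43 zf39) (kf xf24 yf32 zf27) (kf xf26 yf0 zf12) (kf xf26 yf0 zf14) (kf xf21 yf56 zf5) (kf xf26 yf0 zf15) (kf xf23 yf33 zf19) (kf xf25 yf37 zf53) (kf xf23 yf42 zf23) (kf xf23 yf42 zf24) (kf xf15 yf53 zf50) (kf xf15 yf42 zf47) (kf xf15 yf42 zf46) (kf xf23 yf28 zf18) (kf xf15 yf42 zf53) (kf xf21 yf6 zf37) (kf xf15 yf42 zf58) (kf xf15 yf42 zf57) (kf xf28 yf24 zf44) (kf xf15 yf43 zf3) (kf xf15 yf43 zf1) (kf xf25 yf44 zf12) (kf xf19 yf6 zf14) (kf xf19 yf6 zf15) (kf xf26 yf9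 zf47) (kf xf28 yf31 zf43) (kf xf26 yf9 zf51) (kf xf25 yf21 zf2) (kf xf25 yf9 zf13) (kf xf31 yf56 zf57) (kf xf31 yf48 zf30) (kf xf20 yf43 zf52) (kf xf31 yf56 zf58) (kf xf30 yf26 zf59) (kf xf31 yf57 zf2) (kf xf15 yf41 zf56) (kf xf25 yf21 zf26) (kf xf31 yf50 zf16) (kf xf15 yf41 zf57) (kf xf24 yf49 zf52) (kf xf26 yf1 zf25) (kf xf29 yf59 zf52) (kf xf31 yf35 zf37) (kf xf15 yf42 zf3) (kf xf24 yf33 zf18) (kf xf23 yf59 zf14) (kf xf19 yf47 zf45) (kf xf15 yf42 zf4) (kf xf26 yf0 zf22) (kf xf26 yf1 zf38) (kf xf20 yf54 zf42) (kf xf19 yf40 zf47) (kf xf15 yf42 zf7) (kf xf25 yf37 zf7) (kf xf26 yf1 zf42) (kf xf26 yf1 zf35) (kf xf22 yf31 zf8) (kf xf15 yf53 zf61) (kf xf24 yf21 zf13) (kf xf29 yf10 zf24) (kf xf15 yf42 zf16) (kf xf29 yf11 zf26)) (@D3.rec (fun _ => Pt) (kf xf16 yf19 zf59)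 (kf xf26 yf1 zf33) (kf xf28 yf34 zf0) (kf xf15 yf42 zf19) (kf xf26 yf1 zf43) (kf xf23 yf24 zf22) (kf xf25 yf29 zf11) (kf xf31 yf7 zf35) (kf xf25 yf41 zf40) (kf xf26 yf58 zf33) (kf xf25 yf40 zf53) (kf xf25 yf38 zf46) (kf xf15 yf42 zf25) (kf xf24 yf37 zf50) (kf xf19 yf47 zf39) (kf xf15 yf42 zf26) (kf xf16 yf5 zf7) (kf xf29 yf18 zf5) (kf xf15 yf42 zf27) (kf xf24 yf40 zf54) (kf xf26 yf1 zf48) (kf xf24 yf52 zf32) (kf xf24 yf52 zf31) (kf xf23 yf22 zf59) (kf xf16 yf41 zf46) (kf xf22 yf3 zf1) (kf xf25 yf41 zf14) (kf xf18 yf27 zf44) (kf xf26 yf47 zf24) (kf xf30 yf10 zf34) (kf xf25 yf41 zf28) (kf xf25 yf41 zf27) (kf xf31 yf57 zf18) (kf xf15 yf42 zf34) (kf xf25 yf44 zf11) (kf xf28 yf34 zf42) (kf xf23 yf22 zf58) (kf xf17 yf38 zf34) (kf xf25 yf41 zf20) (kf xf23 yf40 zf6) (kf xf15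 yf42 zf41) (kf xf26 yf7 zf35) (kf xf20 yf24 zf33) (kf xf29 yf5 zf59) (kf xf24 yf50 zf19) (kf xf31 yf56 zf44) (kf xf25 yf38 zf11) (kf xf31 yf56 zf42) (kf xf24 yf50 zf18) (kf xf31 yf56 zf43) (kf xf31 yf57 zf27) (kf xf31 yf56 zf46) (kf xf31 yf56 zf45) (kf xf31 yf57 zf30) (kf xf15 yf42 zf48) (kf xf31 yf7 zf36) (kf xf25 yf42 zf47) (kf xf25 yf42 zf48) (kf xf28 yf19 zf5) (kf xf16 yf7 zf56) (kf xf25 yf42 zf50) (kf xf26 yf0 zf47)) (@D3.rec (fun _ => Pt) (kf xf24 yf45 zf47) (kf xf25 yf42 zf51) (kf xf31 yf57 zf38) (kf xf25 yf44 zf8) (kf xf25 yf40 zf11) (kf xf31 yf56 zf51) (kf xf31 yf57 zf28) (kf xf31 yf56 zf48) (kf xf31 yf56 zf49) (kf xf31 yf57 zf51) (kf xf30 yf41 zf5) (kf xf30 yf42 zf16) (kf xf29 yf49 zf40) (kf xf19 yf48 zf18) (kf xf15 yf42 zf59) (kf xf20 yf54 zf48) (kf xf25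 yf42 zf52) (kf xf29 yf57 zf44) (kf xf22 yf31 zf15) (kf xf24 yf42 zf31) (kf xf23 yf25 zf4) (kf xf26 yf0 zf61) (kf xf22 yf11 zf51) (kf xf25 yf45 zf21) (kf xf31 yf57 zf55) (kf xf18 yf25 zf2) (kf xf24 yf36 zf1) (kf xf15 yf46 zf52) (kf xf25 yf41 zf21) (kf xf24 yf21 zf9) (kf xf19 yf51 zf60) (kf xf23 yf59 zf8) (kf xf25 yf47 zf12) (kf xf17 yf40 zf35) (kf xf30 yf2 zf50) (kf xf26 yf1 zf11) (kf xf26 yf1 zf12) (kf xf26 yf1 zf13) (kf xf30 yf10 zf35) (kf xf26 yf0 zf28) (kf xf26 yf0 zf42) (kf xf23 yf24 zf17) (kf xf26 yf0 zf30) (kf xf21 yf3 zf56) (kf xf26 yf1 zf45) (kf xf16 yf7 zf36) (kf xf23 yf22 zf51) (kf xf25 yf41 zf52) (kf xf15 yf43 zf35) (kf xf25 yf41 zf53) (kf xf23 yf22 zf50) (kf xf22 yf32 zf43) (kf xf20 yf22 zf21) (kf xf22 yf6 zf3) (kf xf26 yf7 zf34) (kf xf15 yf43 zf44) (kf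 xf18 yf13 zf53) (kf xf21 yf30 zf55) (kf xf30 yf24 zf40) (kf xf29 yf39 zf41) (kf xf31 yf3 zf10) (kf xf31 yf3 zf12)) (@D3.rec (fun _ => Pt) (kf xf31 yf3 zf11) (kf xf31 yf58 zf4) (kf xf15 yf43 zf49) (kf xf26 yf0 zf29) (kf xf26 yf1 zf44) (kf xf26 yf1 zf46) (kf xf26 yf1 zf47) (kf xf29 yf14 zf6) (kf xf30 yf10 zf37) (kf xf30 yf10 zf38) (kf xf15 yf46 zf2) (kf xf25 yf39 zf4) (kf xf30 yf10 zf40) (kf xf30 yf10 zf41) (kf xf15 yf45 zf7) (kf xf31 yf58 zf9) (kf xf29 yf47 zf55) (kf xf30 yf10 zf43) (kf xf19 yf11 zf33) (kf xf20 yf0 zf1) (kf xf19 yf46 zf10) (kf xf29 yf12 zf7) (kf xf19 yf11 zf37) (kf xf15 yf46 zf10) (kf xf15 yf45 zf20) (kf xf19 yf11 zf30) (kf xf19 yf11 zf31) (kf xf16 yf55 zf4) (kf xf19 yf11 zf28) (kf xf19 yf11 zf29) (kf xf29 yf12 zf57) (kf xf31 yf35 zf25) (kf xf28 yf34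 zf39) (kf xf15 yf44 zf4) (kf xf28 yf33 zf60) (kf xf17 yf1 zf60) (kf xf19 yf11 zf38) (kf xf25 yf31 zf29) (kf xf19 yf32 zf25) (kf xf15 yf44 zf19) (kf xf15 yf44 zf18) (kf xf20 yf4 zf38) (kf xf29 yf0 zf30) (kf xf17 yf1 zf51) (kf xf19 yf12 zf34) (kf xf19 yf21 zf53) (kf xf17 yf1 zf54) (kf xf19 yf21 zf50) (kf xf16 yf0 zf51) (kf xf26 yf3 zf2) (kf xf23 yf30 zf40) (kf xf15 yf44 zf59) (kf xf15 yf44 zf58) (kf xf25 yf38 zf10) (kf xf15 yf44 zf31) (kf xf15 yf45 zf6) (kf xf15 yf45 zf8) (kf xf25 yf50 zf7) (kf xf15 yf44 zf34) (kf xf15 yf45 zf18) (kf xf15 yf45 zf19) (kf xf15 yf45 zf14)) (@D3.rec (fun _ => Pt) (kf xf15 yf45 zf15) (kf xf26 yf3 zf5) (kf xf25 yf28 zf14) (kf xf26 yf3 zf28) (kf xf26 yf3 zf6) (kf xf22 yf4 zf29) (kf xf19 yf16 zf30) (kf xf26 yf2 zf16) (kf xf23 yf36 zf16) (kf xf26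 yf2 zf17) (kf xf25 yf46 zf29) (kf xf26 yf2 zf18) (kf xf25 yf44 zf13) (kf xf16 yf11 zf40) (kf xf25 yf38 zf26) (kf xf26 yf2 zf23) (kf xf26 yf2 zf24) (kf xf26 yf3 zf11) (kf xf26 yf3 zf12) (kf xf19 yf54 zf40) (kf xf25 yf38 zf38) (kf xf25 yf39 zf28) (kf xf28 yf41 zf12) (kf xf25 yf13 zf13) (kf xf22 yf4 zf41) (kf xf20 yf1 zf34) (kf xf19 yf58 zf56) (kf xf25 yf38 zf31) (kf xf25 yf38 zf30) (kf xf31 yf58 zf22) (kf xf15 yf44 zf55) (kf xf26 yf41 zf15) (kf xf15 yf44 zf57) (kf xf16 yf5 zf30) (kf xf24 yf50 zf61) (kf xf16 yf5 zf29) (kf xf26 yf40 zf36) (kf xf24 yf50 zf60) (kf xf31 yf7 zf32) (kf xf19 yf54 zf58) (kf xf25 yf38 zf8) (kf xf25 yf13 zf38) (kf xf15 yf44 zf60) (kf xf19 yf16 zf31) (kf xf15 yf46 zf1) (kf xf27 yf23 zf59) (kf xf25 yf42 zf44) (kf xf22 yf10 zf22) (kf xf30 yf16 zf59)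 (kf xf17 yf42 zf36) (kf xf25 yf33 zf33) (kf xf25 yf42 zf43) (kf xf25 yf39 zf47) (kf xf25 yf39 zf49) (kf xf19 yf16 zf17) (kf xf19 yf16 zf42) (kf xf19 yf5 zf40) (kf xf19 yf5 zf41) (kf xf19 yf15 zf61) (kf xf28 yf31 zf24) (kf xf28 yf31 zf13) (kf xf27 yf26 zf55)) (@D3.rec (fun _ => Pt) (kf xf25 yf51 zf12) (kf xf26 yf0 zf13) (kf xf28 yf42 zf49) (kf xf17 yf50 zf12) (kf xf17 yf50 zf13) (kf xf19 yf16 zf25) (kf xf26 yf2 zf57) (kf xf16 yf6 zf56) (kf xf17 yf21 zf27) (kf xf26 yf3 zf0) (kf xf19 yf32 zf32) (kf xf19 yf40 zf33) (kf xf26 yf2 zf10) (kf xf15 yf45 zf60) (kf xf15 yf45 zf59) (kf xf15 yf45 zf37) (kf xf15 yf46 zf3) (kf xf28 yf10 zf56) (kf xf15 yf45 zf39) (kf xf15 yf46 zf12) (kf xf26 yf2 zf14) (kf xf26 yf2 zf35) (kf xf15 yf57 zf43) (kf xf29 yf58 zf20) (kf xf25 yf43 zf4) (kf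 xf28 yf47 zf5) (kf xf26 yf3 zf9) (kf xf20 yf51 zf28) (kf xf26 yf3 zf10) (kf xf18 yf3 zf14) (kf xf26 yf3 zf13) (kf xf24 yf27 zf44) (kf xf26 yf5 zf34) (kf xf17 yf41 zf60) (kf xf26 yf5 zf32) (kf xf15 yf45 zf58) (kf xf26 yf2 zf32) (kf xf29 yf22 zf60) (kf xf31 yf8 zf61) (kf xf31 yf8 zf60) (kf xf31 yf4 zf2) (kf xf30 yf24 zf39) (kf xf15 yf45 zf61) (kf xf25 yf41 zf51) (kf xf25 yf41 zf46) (kf xf26 yf2 zf21) (kf xf31 yf58 zf32) (kf xf25 yf38 zf56) (kf xf25 yf38 zf57) (kf xf31 yf58 zf45) (kf xf25 yf38 zf60) (kf xf25 yf39 zf1) (kf xf25 yf39 zf16) (kf xf27 yf58 zf11) (kf xf18 yf58 zf52) (kf xf16 yf17 zf38) (kf xf17 yf43 zf33) (kf xf30 yf41 zf2) (kf xf28 yf42 zf48) (kf xf30 yf0 zf26) (kf xf30 yf41 zf0) (kf xf26 yf3 zf38)) (@D3.rec (fun _ => Pt) (kf xf19 yf45 zf58) (kf xf20 yf14 zf34)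 (kf xf17 yf42 zf43) (kf xf17 yf42 zf44) (kf xf25 yf42 zf24) (kf xf16 yf13 zf59) (kf xf15 yf46 zf55) (kf xf28 yf54 zf0) (kf xf15 yf46 zf59) (kf xf17 yf44 zf20) (kf xf17 yf44 zf21) (kf xf21 yf26 zf8) (kf xf23 yf0 zf27) (kf xf30 yf6 zf2) (kf xf22 yf23 zf3) (kf xf29 yf0 zf34) (kf xf26 yf42 zf27) (kf xf15 yf46 zf37) (kf xf23 yf46 zf38) (kf xf25 yf56 zf9) (kf xf25 yf35 zf46) (kf xf28 yf11 zf3) (kf xf15 yf46 zf42) (kf xf18 yf46 zf36) (kf xf29 yf49 zf14) (kf xf15 yf46 zf43) (kf xf25 yf5 zf48) (kf xf29 yf56 zf13) (kf xf15 yf58 zf4) (kf xf27 yf25 zf54) (kf xf25 yf30 zf4) (kf xf15 yf46 zf48) (kf xf20 yf40 zf13) (kf xf15 yf46 zf49) (kf xf31 yf58 zf55) (kf xf15 yf46 zf56) (kf xf28 yf14 zf15) (kf xf28 yf14 zf0) (kf xf15 yf57 zf52) (kf xf17 yf27 zf2) (kf xf16 yf6 zf61) (kf xf15 yf59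 zf59) (kf xf15 yf59 zf60) (kf xf15 yf57 zf23) (kf xf15 yf59 zf39) (kf xf15 yf59 zf38) (kf xf16 yf7 zf4) (kf xf16 yf1 zf15) (kf xf16 yf1 zf40) (kf xf16 yf1 zf41) (kf xf16 yf1 zf1) (kf xf15 yf57 zf39) (kf xf16 yf1 zf44) (kf xf16 yf1 zf46) (kf xf16 yf1 zf48) (kf xf16 yf2 zf11) (kf xf16 yf1 zf50) (kf xf16 yf1 zf55) (kf xf17 yf20 zf35) (kf xf27 yf30 zf8) (kf xf30 yf18 zf52) (kf xf25 yf7 zf10)) (@D3.rec (fun _ => Pt) (kf xf25 yf44 zf3) (kf xf25 yf44 zf4) (kf xf25 yf44 zf5) (kf xf25 yf44 zf0) (kf xf25 yf44 zf1) (kf xf25 yf44 zf2) (kf xf26 yf3 zf51) (kf xf26 yf3 zf52) (kf xf25 yf39 zf3) (kf xf26 yf3 zf53) (kf xf30 yf13 zf30) (kf xf25 yf38 zf34) (kf xf25 yf37 zf21) (kf xf25 yf41 zf12) (kf xf18 yf42 zf33) (kf xf18 yf42 zf32) (kf xf24 yf40 zf3) (kf xf26 yf3 zf54) (kf xf19 yf56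 zf49) (kf xf24 yf54 zf45) (kf xf24 yf51 zf53) (kf xf21 yf46 zf31) (kf xf24 yf52 zf43) (kf xf20 yf16 zf3) (kf xf25 yf16 zf41) (kf xf28 yf33 zf17) (kf xf21 yf32 zf17) (kf xf21 yf22 zf27) (kf xf21 yf26 zf55) (kf xf21 yf24 zf11) (kf xf21 yf24 zf10) (kf xf26 yf5 zf31) (kf xf15 yf48 zf37) (kf xf15 yf48 zf36) (kf xf15 yf47 zf51) (kf xf21 yf50 zf46) (kf xf26 yf5 zf37) (kf xf27 yf38 zf53) (kf xf15 yf47 zf60) (kf xf15 yf47 zf61) (kf xf26 yf5 zf49) (kf xf21 yf51 zf1) (kf xf26 yf5 zf48) (kf xf25 yf18 zf59) (kf xf21 yf24 zf5) (kf xf15 yf48 zf2) (kf xf21 yf22 zf28) (kf xf17 yf5 zf6) (kf xf25 yf11 zf15) (kf xf15 yf58 zf17) (kf xf15 yf58 zf18) (kf xf26 yf5 zf42) (kf xf26 yf5 zf41) (kf xf28 yf1 zf14) (kf xf15 yf48 zf10) (kf xf15 yf59 zf4) (kf xf15 yf59 zf6) (kf xf23 yf51 zf49) (kf xf16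 yf14 zf7) (kf xf21 yf28 zf22) (kf xf26 yf5 zf52) (kf xf25 yf15 zf42)) (@D3.rec (fun _ => Pt) (kf xf16 yf14 zf8) (kf xf21 yf24 zf1) (kf xf26 yf5 zf54) (kf xf16 yf42 zf11) (kf xf16 yf42 zf12) (kf xf17 yf8 zf59) (kf xf16 yf14 zf9) (kf xf16 yf37 zf59) (kf xf16 yf37 zf60) (kf xf16 yf38 zf57) (kf xf16 yf38 zf56) (kf xf15 yf48 zf35) (kf xf27 yf19 zf49) (kf xf16 yf42 zf9) (kf xf21 yf22 zf26) (kf xf18 yf37 zf35) (kf xf25 yf0 zf13) (kf xf18 yf9 zf51) (kf xf26 yf4 zf28) (kf xf18 yf9 zf54) (kf xf17 yf40 zf39) (kf xf25 yf39 zf23) (kf xf31 yf55 zf49) (kf xf27 yf25 zf39) (kf xf27 yf25 zf38) (kf xf15 yf48 zf57) (kf xf21 yf23 zf8) (kf xf27 yf25 zf40) (kf xf17 yf53 zf13) (kf xf25 yf23 zf23) (kf xf20 yf4 zf12) (kf xf26 yf6 zf26) (kf xf17 yf37 zf20) (kf xf25 yf19 zf3) (kf xf29 yf13 zf42)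 (kf xf26 yf3 zf59) (kf xf21 yf33 zf19) (kf xf21 yf34 zf53) (kf xf18 yf37 zf18) (kf xf23 yf42 zf10) (kf xf23 yf42 zf14) (kf xf21 yf51 zf44) (kf xf15 yf49 zf24) (kf xf26 yf4 zf4) (kf xf26 yf6 zf9) (kf xf26 yf4 zf1) (kf xf17 yf5 zf39) (kf xf26 yf4 zf6) (kf xf17 yf2 zf35) (kf xf24 yf54 zf12) (kf xf24 yf36 zf14) (kf xf26 yf4 zf12) (kf xf20 yf15 zf34) (kf xf20 yf51 zf39) (kf xf21 yf27 zf40) (kf xf20 yf19 zf18) (kf xf16 yf3 zf19) (kf xf16 yf3 zf18) (kf xf21 yf32 zf52) (kf xf17 yf45 zf23) (kf xf26 yf4 zf36) (kf xf26 yf4 zf37)) (@D3.rec (fun _ => Pt) (kf xf26 yf4 zf38) (kf xf27 yf48 zf55) (kf xf19 yf18 zf10) (kf xf19 yf13 zf6) (kf xf19 yf11 zf58) (kf xf19 yf12 zf0) (kf xf19 yf13 zf7) (kf xf18 yf47 zf24) (kf xf18 yf50 zf5) (kf xf15 yf50 zf1) (kf xf30 yf11 zf17) (kf xf30 yf0 zf13)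 (kf xf31 yf48 zf36) (kf xf28 yf24 zf46) (kf xf26 yf25 zf15) (kf xf26 yf20 zf4) (kf xf26 yf25 zf14) (kf xf29 yf5 zf57) (kf xf15 yf50 zf10) (kf xf19 yf48 zf23) (kf xf15 yf50 zf18) (kf xf23 yf24 zf13) (kf xf17 yf9 zf41) (kf xf23 yf19 zf60) (kf xf15 yf50 zf25) (kf xf15 yf50 zf14) (kf xf26 yf26 zf33) (kf xf26 yf26 zf34) (kf xf31 yf59 zf22) (kf xf25 yf41 zf10) (kf xf22 yf17 zf47) (kf xf22 yf17 zf48) (kf xf31 yf12 zf8) (kf xf26 yf3 zf32) (kf xf23 yf33 zf7) (kf xf26 yf27 zf18) (kf xf23 yf43 zf8) (kf xf31 yf59 zf30) (kf xf25 yf16 zf27) (kf xf28 yf13 zf29) (kf xf24 yf59 zf19) (kf xf25 yf16 zf22) (kf xf15 yf50 zf36) (kf xf25 yf16 zf30) (kf xf22 yf29 zf31) (kf xf22 yf42 zf16) (kf xf18 yf27 zf60) (kf xf18 yf51 zf60) (kf xf28 yf16 zf32) (kf xf28 yf17 zf14) (kf xf24 yf53 zf1) (kf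 xf16 yf22 zf5) (kf xf18 yf49 zf57) (kf xf23 yf6 zf61) (kf xf24 yf1 zf49) (kf xf19 yf41 zf11) (kf xf19 yf41 zf13) (kf xf16 yf2 zf2) (kf xf16 yf2 zf0) (kf xf16 yf2 zf1) (kf xf15 yf52 zf24) (kf xf15 yf52 zf23)) (@D3.rec (fun _ => Pt) (kf xf15 yf51 zf6) (kf xf15 yf52 zf30) (kf xf19 yf27 zf60) (kf xf24 yf3 zf51) (kf xf25 yf34 zf5) (kf xf31 yf59 zf36) (kf xf24 yf57 zf57) (kf xf20 yf0 zf37) (kf xf16 yf53 zf53) (kf xf19 yf38 zf50) (kf xf19 yf38 zf51) (kf xf19 yf38 zf52) (kf xf25 yf39 zf32) (kf xf21 yf47 zf33) (kf xf27 yf37 zf14) (kf xf25 yf35 zf12) (kf xf21 yf47 zf31) (kf xf17 yf37 zf10) (kf xf17 yf37 zf12) (kf xf25 yf47 zf30) (kf xf28 yf51 zf10) (kf xf22 yf22 zf48) (kf xf26 yf39 zf23) (kf xf27 yf35 zf47) (kf xf25 yf51 zf45) (kf xf18 yf53 zf37) (kf xf19 yf5 zf11) (kf xf25 yf17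 zf21) (kf xf26 yf39 zf20) (kf xf26 yf39 zf44) (kf xf25 yf47 zf19) (kf xf29 yf31 zf55) (kf xf26 yf45 zf38) (kf xf31 yf26 zf1) (kf xf18 yf54 zf1) (kf xf15 yf51 zf48) (kf xf17 yf25 zf12) (kf xf24 yf0 zf34) (kf xf18 yf54 zf6) (kf xf16 yf46 zf42) (kf xf25 yf26 zf55) (kf xf19 yf40 zf54) (kf xf25 yf52 zf42) (kf xf23 yf54 zf38) (kf xf23 yf55 zf32) (kf xf15 yf52 zf0) (kf xf15 yf52 zf11) (kf xf19 yf42 zf4) (kf xf26 yf39 zf14) (kf xf31 yf41 zf6) (kf xf28 yf52 zf49) (kf xf30 yf27 zf4) (kf xf15 yf52 zf6) (kf xf31 yf52 zf46) (kf xf28 yf52 zf50) (kf xf19 yf42 zf28) (kf xf15 yf52 zf9) (kf xf31 yf48 zf33) (kf xf19 yf41 zf23) (kf xf25 yf35 zf16) (kf xf30 yf3 zf58) (kf xf28 yf36 zf24)) (@D3.rec (fun _ => Pt) (kf xf28 yf29 zf35) (kf xf24 yf28 zf47) (kf xf18 yf55 zf32) (kf xf15 yf52 zf13)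 (kf xf15 yf52 zf15) (kf xf18 yf11 zf59) (kf xf18 yf41 zf38) (kf xf27 yf52 zf16) (kf xf27 yf52 zf17) (kf xf27 yf55 zf5) (kf xf15 yf57 zf55) (kf xf27 yf53 zf59) (kf xf18 yf11 zf52) (kf xf19 yf23 zf6) (kf xf28 yf32 zf24) (kf xf15 yf57 zf53) (kf xf15 yf57 zf54) (kf xf16 yf2 zf16) (kf xf15 yf52 zf22) (kf xf30 yf49 zf38) (kf xf27 yf14 zf13) (kf xf18 yf45 zf1) (kf xf17 yf27 zf3) (kf xf31 yf32 zf35) (kf xf27 yf14 zf14) (kf xf16 yf2 zf5) (kf xf16 yf2 zf4) (kf xf25 yf29 zf10) (kf xf19 yf28 zf61) (kf xf27 yf23 zf60) (kf xf25 yf15 zf6) (kf xf27 yf23 zf61) (kf xf25 yf7 zf6) (kf xf25 yf7 zf8) (kf xf27 yf26 zf11) (kf xf21 yf1 zf54) (kf xf21 yf1 zf53) (kf xf26 yf24 zf31) (kf xf15 yf52 zf36) (kf xf21 yf1 zf58) (kf xf21 yf1 zf57) (kf xf15 yf52 zf39) (kf xf25 yf7 zf5) (kf xf25 yf7 zf7)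 (kf xf24 yf37 zf14) (kf xf20 yf43 zf34) (kf xf25 yf7 zf11) (kf xf24 yf37 zf24) (kf xf31 yf55 zf54) (kf xf23 yf8 zf49) (kf xf23 yf8 zf46) (kf xf25 yf6 zf46) (kf xf25 yf6 zf47) (kf xf31 yf47 zf15) (kf xf15 yf52 zf60) (kf xf15 yf53 zf0) (kf xf24 yf38 zf21) (kf xf30 yf55 zf42) (kf xf21 yf30 zf36) (kf xf23 yf11 zf7) (kf xf27 yf23 zf11) (kf xf25 yf54 zf30)) (@D3.rec (fun _ => Pt) (kf xf15 yf52 zf57) (kf xf31 yf46 zf20) (kf xf31 yf49 zf18) (kf xf15 yf52 zf58) (kf xf24 yf37 zf17) (kf xf24 yf12 zf23) (kf xf31 yf35 zf44) (kf xf15 yf54 zf52) (kf xf15 yf54 zf53) (kf xf32 yf0 zf7) (kf xf23 yf1 zf4) (kf xf25 yf14 zf48) (kf xf31 yf37 zf50) (kf xf25 yf14 zf59) (kf xf31 yf36 zf2) (kf xf15 yf53 zf12) (kf xf19 yf11 zf57) (kf xf25 yf14 zf54) (kf xf25 yf14 zf55) (kf xf32 yf0 zf11) (kf xf25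 yf14 zf57) (kf xf30 yf41 zf56) (kf xf15 yf53 zf15) (kf xf25 yf9 zf6) (kf xf31 yf49 zf10) (kf xf16 yf27 zf24) (kf xf26 yf17 zf55) (kf xf25 yf14 zf27) (kf xf25 yf50 zf6) (kf xf24 yf52 zf30) (kf xf24 yf52 zf27) (kf xf24 yf37 zf15) (kf xf25 yf12 zf1) (kf xf24 yf37 zf19) (kf xf25 yf12 zf0) (kf xf23 yf1 zf16) (kf xf24 yf52 zf21) (kf xf24 yf37 zf20) (kf xf27 yf25 zf12) (kf xf18 yf52 zf40) (kf xf24 yf52 zf29) (kf xf24 yf34 zf25) (kf xf29 yf59 zf61) (kf xf19 yf25 zf1) (kf xf15 yf53 zf49) (kf xf24 yf37 zf12) (kf xf27 yf21 zf35) (kf xf25 yf10 zf47) (kf xf25 yf10 zf46) (kf xf18 yf2 zf54) (kf xf29 yf5 zf37) (kf xf25 yf11 zf55) (kf xf25 yf10 zf44) (kf xf32 yf0 zf16) (kf xf25 yf11 zf53) (kf xf25 yf10 zf43) (kf xf24 yf16 zf6) (kf xf21 yf2 zf14) (kf xf25 yf3 zf39) (kf xf25 yf3 zf40)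 (kf xf17 yf44 zf12) (kf xf25 yf11 zf44)) (@D3.rec (fun _ => Pt) (kf xf21 yf48 zf0) (kf xf25 yf11 zf41) (kf xf21 yf4 zf18) (kf xf26 yf24 zf13) (kf xf22 yf53 zf26) (kf xf16 yf27 zf42) (kf xf25 yf49 zf28) (kf xf25 yf40 zf57) (kf xf26 yf44 zf23) (kf xf15 yf54 zf36) (kf xf28 yf41 zf54) (kf xf29 yf47 zf47) (kf xf20 yf4 zf22) (kf xf24 yf19 zf26) (kf xf31 yf43 zf47) (kf xf20 yf15 zf26) (kf xf32 yf0 zf24) (kf xf15 yf54 zf19) (kf xf22 yf57 zf33) (kf xf19 yf33 zf31) (kf xf28 yf32 zf59) (kf xf28 yf52 zf51) (kf xf28 yf32 zf54) (kf xf15 yf54 zf22) (kf xf19 yf44 zf12) (kf xf23 yf12 zf37) (kf xf28 yf45 zf26) (kf xf28 yf38 zf53) (kf xf19 yf21 zf36) (kf xf24 yf19 zf27) (kf xf31 yf49 zf54) (kf xf31 yf48 zf10) (kf xf31 yf48 zf16) (kf xf27 yf35 zf45) (kf xf15 yf54 zf28) (kf xf31 yf36 zf43)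 (kf xf30 yf14 zf12) (kf xf24 yf56 zf48) (kf xf24 yf36 zf40) (kf xf24 yf36 zf38) (kf xf24 yf37 zf2) (kf xf15 yf54 zf35) (kf xf28 yf36 zf14) (kf xf24 yf12 zf52) (kf xf31 yf59 zf39) (kf xf26 yf45 zf35) (kf xf23 yf12 zf35) (kf xf15 yf54 zf37) (kf xf17 yf1 zf58) (kf xf20 yf43 zf46) (kf xf31 yf48 zf32) (kf xf31 yf48 zf39) (kf xf24 yf18 zf45) (kf xf15 yf54 zf41) (kf xf15 yf54 zf50) (kf xf15 yf54 zf49) (kf xf15 yf54 zf43) (kf xf21 yf54 zf22) (kf xf19 yf20 zf48) (kf xf31 yf31 zf26) (kf xf25 yf10 zf30) (kf xf31 yf59 zf7)) (@D3.rec (fun _ => Pt) (kf xf15 yf54 zf48) (kf xf31 yf49 zf2) (kf xf30 yf34 zf37) (kf xf31 yf56 zf24) (kf xf21 yf43 zf50) (kf xf19 yf22 zf15) (kf xf27 yf23 zf26) (kf xf32 yf0 zf42) (kf xf25 yf34 zf55) (kf xf25 yf34 zf53) (kf xf31 yf22 zf17) (kf xf31 yf28 zf55)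 (kf xf25 yf42 zf0) (kf xf31 yf48 zf35) (kf xf17 yf52 zf49) (kf xf31 yf55 zf52) (kf xf17 yf21 zf39) (kf xf27 yf1 zf36) (kf xf17 yf22 zf10) (kf xf20 yf58 zf7) (kf xf24 yf3 zf4) (kf xf23 yf49 zf58) (kf xf25 yf52 zf34) (kf xf25 yf52 zf36) (kf xf22 yf39 zf9) (kf xf19 yf24 zf5) (kf xf19 yf46 zf11) (kf xf15 yf55 zf10) (kf xf18 yf44 zf36) (kf xf19 yf24 zf12) (kf xf22 yf54 zf38) (kf xf19 yf40 zf53) (kf xf22 yf33 zf2) (kf xf19 yf25 zf28) (kf xf19 yf25 zf27) (kf xf22 yf0 zf49) (kf xf19 yf25 zf33) (kf xf19 yf25 zf34) (kf xf19 yf25 zf31) (kf xf28 yf51 zf13) (kf xf19 yf25 zf43) (kf xf17 yf26 zf32) (kf xf19 yf25 zf38) (kf xf19 yf25 zf39) (kf xf25 yf52 zf54) (kf xf25 yf47 zf24) (kf xf25 yf52 zf55) (kf xf21 yf16 zf39) (kf xf28 yf51 zf12) (kf xf19 yf16 zf5) (kf xf22 yf36 zf46) (kf xf22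 yf36 zf54) (kf xf15 yf55 zf40) (kf xf15 yf55 zf52) (kf xf19 yf28 zf6) (kf xf15 yf55 zf51) (kf xf24 yf4 zf54) (kf xf30 yf55 zf49) (kf xf24 yf34 zf30) (kf xf22 yf45 zf28) (kf xf15 yf55 zf47) (kf xf24 yf10 zf29)) (@D3.rec (fun _ => Pt) (kf xf26 yf6 zf50) (kf xf15 yf55 zf54) (kf xf15 yf55 zf53) (kf xf31 yf39 zf4) (kf xf20 yf11 zf52) (kf xf30 yf51 zf19) (kf xf24 yf30 zf41) (kf xf22 yf39 zf17) (kf xf24 yf57 zf22) (kf xf18 yf45 zf16) (kf xf15 yf55 zf55) (kf xf19 yf28 zf10) (kf xf19 yf28 zf11) (kf xf25 yf53 zf16) (kf xf27 yf13 zf36) (kf xf16 yf32 zf44) (kf xf18 yf45 zf15) (kf xf18 yf45 zf14) (kf xf21 yf16 zf41) (kf xf19 yf28 zf18) (kf xf17 yf29 zf4) (kf xf17 yf21 zf32) (kf xf19 yf28 zf19) (kf xf19 yf28 zf20) (kf xf19 yf28 zf21) (kf xf20 yf56 zf45) (kf xf22 yf5 zf42) (kf xf30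 yf39 zf61) (kf xf31 yf21 zf17) (kf xf31 yf51 zf18) (kf xf22 yf5 zf44) (kf xf22 yf7 zf51) (kf xf22 yf7 zf52) (kf xf26 yf9 zf48) (kf xf25 yf51 zf22) (kf xf24 yf11 zf20) (kf xf25 yf51 zf23) (kf xf28 yf50 zf50) (kf xf22 yf4 zf7) (kf xf25 yf56 zf22) (kf xf28 yf52 zf10) (kf xf20 yf12 zf10) (kf xf25 yf47 zf42) (kf xf26 yf39 zf22) (kf xf22 yf25 zf4) (kf xf30 yf36 zf48) (kf xf28 yf49 zf14) (kf xf31 yf59 zf41) (kf xf22 yf24 zf57) (kf xf15 yf56 zf23) (kf xf22 yf25 zf18) (kf xf15 yf56 zf24) (kf xf28 yf52 zf41) (kf xf17 yf33 zf56) (kf xf25 yf51 zf44) (kf xf25 yf51 zf46) (kf xf25 yf17 zf46) (kf xf17 yf23 zf56) (kf xf27 yf38 zf1) (kf xf26 yf42 zf43) (kf xf28 yf49 zf9) (kf xf30 yf17 zf55)) (@D3.rec (fun _ => Pt) (kf xf19 yf7 zf50) (kf xf30 yf56 zf41) (kf xf25 yf21 zf59) (kf xf32 yf1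 zf7) (kf xf15 yf56 zf32) (kf xf19 yf59 zf3) (kf xf30 yf33 zf58) (kf xf28 yf49 zf10) (kf xf31 yf12 zf34) (kf xf15 yf56 zf34) (kf xf26 yf39 zf60) (kf xf26 yf42 zf45) (kf xf26 yf42 zf46) (kf xf26 yf42 zf47) (kf xf20 yf21 zf58) (kf xf27 yf2 zf41) (kf xf25 yf52 zf13) (kf xf21 yf9 zf44) (kf xf17 yf24 zf26) (kf xf26 yf42 zf49) (kf xf15 yf58 zf2) (kf xf15 yf58 zf3) (kf xf15 yf59 zf10) (kf xf15 yf59 zf17) (kf xf15 yf59 zf19) (kf xf15 yf59 zf20) (kf xf15 yf59 zf21) (kf xf27 yf6 zf41) (kf xf15 yf58 zf38) (kf xf25 yf29 zf55) (kf xf15 yf58 zf40) (kf xf15 yf58 zf41) (kf xf25 yf27 zf11) (kf xf15 yf59 zf32) (kf xf19 yf35 zf39) (kf xf19 yf35 zf41) (kf xf16 yf0 zf16) (kf xf25 yf27 zf27) (kf xf16 yf0 zf19) (kf xf16 yf0 zf22) (kf xf25 yf27 zf48) (kf xf15 yf59 zf45) (kf xf15 yf59 zf49)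 (kf xf31 yf37 zf5) (kf xf25 yf33 zf14) (kf xf27 yf18 zf20) (kf xf27 yf18 zf11) (kf xf15 yf57 zf22) (kf xf16 yf0 zf25) (kf xf21 yf17 zf26) (kf xf16 yf0 zf33) (kf xf17 yf27 zf57) (kf xf16 yf0 zf39) (kf xf16 yf1 zf12) (kf xf16 yf1 zf13) (kf xf16 yf1 zf14) (kf xf25 yf27 zf53) (kf xf16 yf1 zf16) (kf xf16 yf1 zf17) (kf xf27 yf11 zf8) (kf xf16 yf1 zf27) (kf xf27 yf11 zf9)) (@D3.rec (fun _ => Pt) (kf xf21 yf46 zf2) (kf xf16 yf0 zf47) (kf xf16 yf0 zf48) (kf xf16 yf0 zf50) (kf xf16 yf0 zf52) (kf xf25 yf28 zf6) (kf xf16 yf0 zf54) (kf xf21 yf40 zf57) (kf xf16 yf0 zf60) (kf xf16 yf0 zf61) (kf xf16 yf1 zf0) (kf xf31 yf58 zf59) (kf xf25 yf34 zf52) (kf xf29 yf51 zf25) (kf xf29 yf56 zf0) (kf xf15 yf57 zf38) (kf xf16 yf1 zf37) (kf xf16 yf1 zf36) (kf xf15 yf57 zf48) (kf xf15 yf57 zf50)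 (kf xf27 yf11 zf3) (kf xf26 yf13 zf54) (kf xf31 yf58 zf34) (kf xf29 yf57 zf23) (kf xf24 yf8 zf6) (kf xf25 yf54 zf57) (kf xf32 yf1 zf34) (kf xf15 yf57 zf45) (kf xf15 yf57 zf46) (kf xf29 yf55 zf59) (kf xf25 yf48 zf61) (kf xf32 yf1 zf29) (kf xf29 yf57 zf19) (kf xf29 yf18 zf33) (kf xf32 yf1 zf35) (kf xf29 yf57 zf20) (kf xf27 yf55 zf11) (kf xf29 yf21 zf15) (kf xf29 yf20 zf46) (kf xf30 yf19 zf15) (kf xf31 yf59 zf52) (kf xf31 yf59 zf53) (kf xf28 yf20 zf44) (kf xf31 yf59 zf49) (kf xf31 yf59 zf50) (kf xf29 yf18 zf35) (kf xf30 yf19 zf16) (kf xf15 yf57 zf56) (kf xf26 yf54 zf53) (kf xf16 yf2 zf12) (kf xf16 yf2 zf14) (kf xf16 yf1 zf52) (kf xf16 yf2 zf8) (kf xf25 yf29 zf48) (kf xf22 yf2 zf8) (kf xf29 yf31 zf52) (kf xf25 yf29 zf20) (kf xf25 yf54 zf25) (kf xf25 yf58 zf32) (kf xf15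 yf58 zf6) (kf xf25 yf6 zf10) (kf xf19 yf38 zf43)) (@D3.rec (fun _ => Pt) (kf xf19 yf38 zf40) (kf xf19 yf38 zf41) (kf xf19 yf38 zf37) (kf xf19 yf38 zf38) (kf xf19 yf38 zf55) (kf xf25 yf58 zf35) (kf xf15 yf58 zf15) (kf xf25 yf32 zf11) (kf xf25 yf32 zf13) (kf xf25 yf29 zf14) (kf xf21 yf27 zf30) (kf xf28 yf13 zf61) (kf xf23 yf9 zf3) (kf xf23 yf7 zf57) (kf xf23 yf10 zf14) (kf xf25 yf7 zf32) (kf xf25 yf56 zf50) (kf xf25 yf56 zf53) (kf xf23 yf10 zf21) (kf xf25 yf7 zf28) (kf xf15 yf58 zf21) (kf xf25 yf57 zf17) (kf xf25 yf57 zf16) (kf xf15 yf58 zf22) (kf xf28 yf14 zf16) (kf xf25 yf29 zf36) (kf xf25 yf57 zf13) (kf xf25 yf31 zf52) (kf xf25 yf56 zf57) (kf xf25 yf57 zf14) (kf xf30 yf54 zf46) (kf xf25 yf31 zf53) (kf xf25 yf57 zf12) (kf xf25 yf57 zf11) (kf xf20 yf40 zf11) (kf xf15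 yf58 zf28) (kf xf25 yf31 zf55) (kf xf25 yf31 zf57) (kf xf30 yf4 zf23) (kf xf26 yf16 zf61) (kf xf29 yf59 zf58) (kf xf20 yf50 zf20) (kf xf15 yf58 zf33) (kf xf25 yf29 zf12) (kf xf25 yf57 zf1) (kf xf25 yf7 zf49) (kf xf28 yf48 zf26) (kf xf15 yf58 zf45) (kf xf15 yf58 zf44) (kf xf30 yf56 zf16) (kf xf15 yf58 zf39) (kf xf20 yf43 zf38) (kf xf25 yf7 zf3) (kf xf25 yf5 zf38) (kf xf20 yf50 zf38) (kf xf28 yf23 zf60) (kf xf28 yf44 zf44) (kf xf24 yf0 zf40) (kf xf27 yf26 zf12) (kf xf24 yf38 zf53) (kf xf24 yf38 zf49) (kf xf31 yf53 zf46)) (@D3.rec (fun _ => Pt) (kf xf19 yf39 zf17) (kf xf26 yf23 zf43) (kf xf27 yf14 zf15) (kf xf27 yf14 zf16) (kf xf28 yf14 zf17) (kf xf28 yf14 zf13) (kf xf28 yf14 zf1) (kf xf15 yf58 zf51) (kf xf25 yf30 zf30) (kf xf25 yf43 zf19) (kf xf17 yf37 zf13) (kf xf19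 yf38 zf44) (kf xf18 yf54 zf51) (kf xf18 yf53 zf32) (kf xf18 yf54 zf25) (kf xf18 yf53 zf33) (kf xf25 yf30 zf60) (kf xf29 yf31 zf4) (kf xf26 yf27 zf6) (kf xf21 yf33 zf18) (kf xf20 yf19 zf26) (kf xf19 yf28 zf26) (kf xf25 yf52 zf39) (kf xf19 yf28 zf30) (kf xf24 yf9 zf60) (kf xf30 yf19 zf45) (kf xf25 yf57 zf36) (kf xf25 yf31 zf46) (kf xf23 yf55 zf5) (kf xf20 yf50 zf27) (kf xf23 yf55 zf6) (kf xf32 yf2 zf8) (kf xf27 yf19 zf32) (kf xf27 yf19 zf33) (kf xf28 yf24 zf58) (kf xf25 yf24 zf37) (kf xf23 yf9 zf2) (kf xf32 yf1 zf11) (kf xf27 yf15 zf11) (kf xf32 yf1 zf13) (kf xf27 yf15 zf12) (kf xf30 yf56 zf20) (kf xf25 yf36 zf8) (kf xf24 yf6 zf5) (kf xf25 yf29 zf3) (kf xf25 yf24 zf38) (kf xf25 yf19 zf15) (kf xf20 yf50 zf30) (kf xf28 yf17 zf16) (kf xf22 yf2 zf7) (kf xf25 yf55 zf16) (kf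 xf32 yf1 zf16) (kf xf27 yf7 zf50) (kf xf25 yf55 zf17) (kf xf21 yf8 zf19) (kf xf25 yf7 zf21) (kf xf25 yf7 zf25) (kf xf25 yf55 zf28) (kf xf31 yf56 zf21) (kf xf15 yf59 zf52) (kf xf15 yf59 zf51) (kf xf27 yf18 zf7)) (@D3.rec (fun _ => Pt) (kf xf15 yf59 zf46) (kf xf25 yf55 zf44) (kf xf29 yf16 zf12) (kf xf24 yf16 zf45) (kf xf25 yf12 zf20) (kf xf26 yf14 zf24) (kf xf25 yf27 zf43) (kf xf26 yf15 zf10) (kf xf26 yf16 zf56) (kf xf19 yf39 zf19) (kf xf27 yf18 zf12) (kf xf25 yf55 zf33) (kf xf25 yf55 zf32) (kf xf25 yf55 zf26) (kf xf25 yf55 zf29) (kf xf32 yf2 zf24) (kf xf25 yf55 zf22) (kf xf25 yf55 zf21) (kf xf32 yf0 zf6) (kf xf15 yf59 zf58) (kf xf30 yf55 zf45) (kf xf21 yf18 zf51) (kf xf17 yf21 zf35) (kf xf30 yf6 zf53) (kf xf21 yf46 zf35) (kf xf25 yf34 zf20) (kf xf16 yf2 zf20) (kf xf18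 yf25 zf22) (kf xf26 yf33 zf7) (kf xf26 yf14 zf40) (kf xf26 yf14 zf39) (kf xf30 yf3 zf28) (kf xf16 yf0 zf12) (kf xf25 yf28 zf18) (kf xf30 yf50 zf54) (kf xf30 yf36 zf42) (kf xf25 yf56 zf26) (kf xf29 yf42 zf5) (kf xf32 yf1 zf14) (kf xf27 yf18 zf19) (kf xf16 yf0 zf23) (kf xf21 yf27 zf13) (kf xf24 yf40 zf13) (kf xf27 yf15 zf26) (kf xf27 yf10 zf9) (kf xf25 yf30 zf25) (kf xf25 yf30 zf31) (kf xf25 yf30 zf36) (kf xf25 yf33 zf35) (kf xf25 yf30 zf37) (kf xf27 yf7 zf47) (kf xf27 yf18 zf13) (kf xf25 yf30 zf35) (kf xf24 yf40 zf14) (kf xf25 yf4 zf7) (kf xf25 yf30 zf40) (kf xf29 yf5 zf4) (kf xf25 yf30 zf39) (kf xf28 yf59 zf49) (kf xf18 yf53 zf41) (kf xf18 yf53 zf40) (kf xf25 yf34 zf29)) (@D3.rec (fun _ => Pt) (kf xf32 yf2 zf40) (kf xf28 yf44 zf10) (kf xf22 yf15 zf42) (kf xf26 yf39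 zf24) (kf xf16 yf0 zf43) (kf xf26 yf13 zf58) (kf xf18 yf1 zf43) (kf xf30 yf8 zf49) (kf xf29 yf6 zf37) (kf xf25 yf34 zf34) (kf xf32 yf2 zf43) (kf xf25 yf34 zf35) (kf xf29 yf23 zf0) (kf xf32 yf1 zf20) (kf xf28 yf14 zf3) (kf xf31 yf33 zf49) (kf xf18 yf17 zf56) (kf xf26 yf23 zf46) (kf xf31 yf34 zf54) (kf xf16 yf0 zf55) (kf xf24 yf0 zf9) (kf xf25 yf34 zf44) (kf xf26 yf9 zf10) (kf xf26 yf40 zf30) (kf xf23 yf8 zf52) (kf xf31 yf11 zf29) (kf xf23 yf7 zf41) (kf xf23 yf8 zf53) (kf xf26 yf23 zf25) (kf xf23 yf10 zf15) (kf xf23 yf8 zf13) (kf xf25 yf28 zf7) (kf xf25 yf54 zf58) (kf xf31 yf34 zf33) (kf xf17 yf26 zf18) (kf xf25 yf55 zf5) (kf xf16 yf1 zf10) (kf xf32 yf1 zf18) (kf xf17 yf40 zf43) (kf xf27 yf23 zf23) (kf xf27 yf28 zf29) (kf xf31 yf58 zf57) (kf xf32 yf1 zf19) (kf xf25 yf35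 zf10) (kf xf25 yf36 zf7) (kf xf31 yf35 zf16) (kf xf25 yf35 zf11) (kf xf17 yf39 zf6) (kf xf32 yf2 zf51) (kf xf16 yf1 zf30) (kf xf16 yf1 zf29) (kf xf32 yf2 zf54) (kf xf16 yf1 zf21) (kf xf17 yf37 zf57) (kf xf26 yf15 zf11) (kf xf29 yf56 zf40) (kf xf16 yf1 zf25) (kf xf29 yf43 zf7) (kf xf29 yf48 zf33) (kf xf32 yf2 zf50) (kf xf16 yf1 zf28) (kf xf31 yf6 zf17)) (@D3.rec (fun _ => Pt) (kf xf29 yf28 zf8) (kf xf29 yf4 zf33) (kf xf25 yf27 zf58) (kf xf32 yf2 zf53) (kf xf32 yf2 zf52) (kf xf32 yf2 zf60) (kf xf16 yf1 zf31) (kf xf32 yf1 zf28) (kf xf21 yf45 zf57) (kf xf31 yf58 zf58) (kf xf26 yf13 zf55) (kf xf28 yf44 zf49) (kf xf29 yf23 zf48) (kf xf16 yf26 zf24) (kf xf16 yf25 zf60) (kf xf17 yf20 zf20) (kf xf20 yf35 zf4) (kf xf31 yf45 zf39) (kf xf28 yf50 zf26) (kf xf28 yf49 zf25) (kf xf31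 yf58 zf60) (kf xf28 yf19 zf46) (kf xf23 yf55 zf10) (kf xf29 yf1 zf27) (kf xf31 yf59 zf57) (kf xf31 yf18 zf5) (kf xf19 yf9 zf40) (kf xf30 yf47 zf26) (kf xf23 yf6 zf3) (kf xf23 yf5 zf16) (kf xf24 yf5 zf39) (kf xf24 yf5 zf40) (kf xf23 yf6 zf34) (kf xf23 yf6 zf4) (kf xf23 yf9 zf25) (kf xf23 yf9 zf29) (kf xf31 yf55 zf9) (kf xf28 yf49 zf26) (kf xf30 yf26 zf31) (kf xf30 yf44 zf15) (kf xf17 yf26 zf49) (kf xf28 yf27 zf56) (kf xf19 yf27 zf13) (kf xf31 yf32 zf9) (kf xf24 yf8 zf31) (kf xf31 yf59 zf56) (kf xf31 yf33 zf51) (kf xf32 yf1 zf47) (kf xf30 yf32 zf56) (kf xf22 yf9 zf23) (kf xf27 yf23 zf49) (kf xf20 yf35 zf13) (kf xf22 yf9 zf26) (kf xf19 yf45 zf43) (kf xf21 yf5 zf2) (kf xf22 yf2 zf26) (kf xf23 yf9 zf40) (kf xf28 yf50 zf25) (kf xf16 yf2 zf18) (kf xf30 yf9 zf34) (kf xf29 yf17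 zf41) (kf xf25 yf6 zf37))
def f_f_26 : D2 → D3 → Pt := @D2.rec (fun _ => D3 → Pt) (@D3.rec (fun _ => Pt) (kf xf17 yf25 zf16) (kf xf25 yf36 zf37) (kf xf31 yf37 zf60) (kf xf28 yf54 zf60) (kf xf22 yf5 zf51) (kf xf20 yf57 zf40) (kf xf25 yf6 zf36) (kf xf28 yf49 zf5) (kf xf25 yf36 zf50) (kf xf20 yf3 zf20) (kf xf25 yf36 zf57) (kf xf28 yf54 zf2) (kf xf25 yf37 zf2) (kf xf25 yf42 zf1) (kf xf25 yf37 zf3) (kf xf25 yf37 zf5) (kf xf16 yf2 zf48) (kf xf16 yf3 zf37) (kf xf16 yf3 zf31) (kf xf16 yf3 zf32) (kf xf19 yf16 zf46) (kf xf24 yf31 zf45) (kf xf25 yf37 zf48) (kf xf19 yf4 zf46) (kf xf17 yf37 zf32) (kf xf17 yf37 zf33) (kf xf19 yf16 zf59) (kf xf24 yf9 zf50) (kf xf25 yf39 zf39) (kf xf25 yf40 zf3) (kf xf25 yf39 zf42) (kf xf29 yf51 zf34) (kf xf23 yf34 zf51) (kf xf19 yf50 zf33) (kf xf21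 yf28 zf25) (kf xf22 yf30 zf18) (kf xf23 yf26 zf36) (kf xf31 yf56 zf14) (kf xf24 yf10 zf15) (kf xf16 yf3 zf13) (kf xf23 yf26 zf18) (kf xf26 yf48 zf56) (kf xf25 yf39 zf40) (kf xf29 yf51 zf35) (kf xf26 yf3 zf30) (kf xf26 yf3 zf31) (kf xf28 yf10 zf53) (kf xf25 yf38 zf61) (kf xf26 yf3 zf34) (kf xf29 yf51 zf37) (kf xf22 yf10 zf13) (kf xf29 yf51 zf38) (kf xf19 yf47 zf36) (kf xf19 yf16 zf55) (kf xf19 yf16 zf57) (kf xf30 yf13 zf29) (kf xf19 yf5 zf45) (kf xf23 yf32 zf23) (kf xf28 yf24 zf41) (kf xf24 yf44 zf44) (kf xf19 yf16 zf33) (kf xf25 yf39 zf21)) (@D3.rec (fun _ => Pt) (kf xf18 yf20 zf13) (kf xf17 yf27 zf51) (kf xf25 yf29 zf15) (kf xf25 yf29 zf17) (kf xf25 yf4 zf6) (kf xf25 yf30 zf49) (kf xf19 yf46 zf4) (kf xf24 yf43 zf25) (kf xf19 yf6 zf4) (kf xf19 yf6 zf5) (kf xf24 yf36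 zf7) (kf xf25 yf39 zf35) (kf xf25 yf39 zf36) (kf xf25 yf39 zf37) (kf xf23 yf30 zf39) (kf xf24 yf38 zf7) (kf xf24 yf38 zf6) (kf xf16 yf4 zf55) (kf xf17 yf38 zf22) (kf xf17 yf38 zf23) (kf xf24 yf32 zf36) (kf xf23 yf29 zf9) (kf xf24 yf49 zf10) (kf xf24 yf49 zf11) (kf xf24 yf32 zf30) (kf xf25 yf37 zf40) (kf xf22 yf5 zf4) (kf xf31 yf34 zf14) (kf xf19 yf55 zf28) (kf xf32 yf3 zf17) (kf xf16 yf4 zf15) (kf xf19 yf16 zf48) (kf xf19 yf16 zf50) (kf xf25 yf38 zf1) (kf xf23 yf41 zf17) (kf xf25 yf37 zf55) (kf xf27 yf30 zf24) (kf xf16 yf4 zf22) (kf xf25 yf37 zf49) (kf xf20 yf54 zf51) (kf xf16 yf4 zf26) (kf xf16 yf51 zf9) (kf xf25 yf37 zf54) (kf xf25 yf38 zf4) (kf xf25 yf40 zf4) (kf xf25 yf39 zf44) (kf xf25 yf40 zf5) (kf xf25 yf40 zf6) (kf xf25 yf38 zf20) (kf xf21 yf50 zf2) (kf xf28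 yf41 zf19) (kf xf31 yf48 zf4) (kf xf26 yf2 zf42) (kf xf16 yf4 zf38) (kf xf26 yf2 zf43) (kf xf19 yf42 zf34) (kf xf19 yf47 zf29) (kf xf16 yf41 zf34) (kf xf16 yf4 zf46) (kf xf24 yf51 zf29) (kf xf24 yf51 zf60) (kf xf28 yf35 zf2)) (@D3.rec (fun _ => Pt) (kf xf24 yf33 zf19) (kf xf31 yf34 zf41) (kf xf16 yf4 zf48) (kf xf26 yf8 zf13) (kf xf30 yf6 zf17) (kf xf22 yf37 zf58) (kf xf20 yf19 zf22) (kf xf16 yf41 zf49) (kf xf22 yf9 zf27) (kf xf21 yf45 zf10) (kf xf25 yf42 zf12) (kf xf16 yf5 zf32) (kf xf16 yf5 zf33) (kf xf16 yf5 zf49) (kf xf25 yf42 zf20) (kf xf31 yf58 zf24) (kf xf25 yf41 zf7) (kf xf25 yf41 zf9) (kf xf25 yf41 zf11) (kf xf21 yf10 zf6) (kf xf23 yf22 zf48) (kf xf25 yf42 zf45) (kf xf23 yf22 zf47) (kf xf25 yf41 zf15) (kf xf25 yf41 zf16) (kf xf31 yf7 zf17) (kf xf27 yf41 zf11)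 (kf xf29 yf34 zf44) (kf xf16 yf5 zf22) (kf xf22 yf10 zf0) (kf xf30 yf4 zf10) (kf xf17 yf4 zf3) (kf xf25 yf42 zf36) (kf xf17 yf4 zf2) (kf xf22 yf4 zf11) (kf xf25 yf42 zf21) (kf xf16 yf6 zf27) (kf xf21 yf10 zf7) (kf xf21 yf46 zf33) (kf xf17 yf45 zf4) (kf xf19 yf54 zf61) (kf xf19 yf39 zf1) (kf xf26 yf1 zf52) (kf xf26 yf1 zf54) (kf xf27 yf1 zf2) (kf xf24 yf52 zf16) (kf xf16 yf6 zf36) (kf xf29 yf44 zf7) (kf xf29 yf47 zf39) (kf xf16 yf50 zf47) (kf xf17 yf39 zf22) (kf xf24 yf45 zf2) (kf xf22 yf43 zf53) (kf xf32 yf3 zf28) (kf xf19 yf40 zf46) (kf xf22 yf32 zf47) (kf xf21 yf32 zf35) (kf xf25 yf42 zf6) (kf xf20 yf34 zf53) (kf xf25 yf33 zf49) (kf xf28 yf57 zf27) (kf xf16 yf47 zf6)) (@D3.rec (fun _ => Pt) (kf xf25 yf42 zf9) (kf xf24 yf45 zf19) (kf xf25 yf40 zf49) (kf xf30 yf42 zf26)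 (kf xf16 yf6 zf3) (kf xf25 yf41 zf1) (kf xf25 yf41 zf4) (kf xf28 yf42 zf40) (kf xf18 yf27 zf45) (kf xf25 yf42 zf26) (kf xf25 yf42 zf28) (kf xf25 yf41 zf17) (kf xf25 yf41 zf18) (kf xf25 yf42 zf30) (kf xf24 yf51 zf37) (kf xf24 yf51 zf35) (kf xf24 yf51 zf36) (kf xf24 yf51 zf33) (kf xf32 yf3 zf39) (kf xf24 yf51 zf25) (kf xf16 yf6 zf22) (kf xf27 yf1 zf27) (kf xf29 yf14 zf3) (kf xf26 yf7 zf43) (kf xf30 yf17 zf44) (kf xf22 yf31 zf36) (kf xf32 yf3 zf42) (kf xf16 yf6 zf25) (kf xf25 yf41 zf3) (kf xf22 yf10 zf11) (kf xf26 yf0 zf44) (kf xf26 yf0 zf45) (kf xf25 yf46 zf33) (kf xf22 yf10 zf19) (kf xf26 yf0 zf48) (kf xf28 yf24 zf40) (kf xf23 yf32 zf3) (kf xf17 yf39 zf39) (kf xf25 yf42 zf61) (kf xf17 yf33 zf17) (kf xf25 yf34 zf2) (kf xf17 yf40 zf44) (kf xf23 yf9 zf1) (kf xf24 yf58 zf2)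 (kf xf27 yf10 zf2) (kf xf24 yf58 zf0) (kf xf25 yf29 zf58) (kf xf21 yf27 zf9) (kf xf29 yf6 zf33) (kf xf22 yf38 zf19) (kf xf31 yf58 zf56) (kf xf25 yf44 zf6) (kf xf25 yf44 zf7) (kf xf25 yf44 zf9) (kf xf25 yf44 zf17) (kf xf17 yf5 zf47) (kf xf16 yf7 zf14) (kf xf21 yf54 zf42) (kf xf21 yf26 zf24) (kf xf25 yf45 zf35) (kf xf18 yf14 zf37) (kf xf16 yf7 zf57)) (@D3.rec (fun _ => Pt) (kf xf21 yf44 zf48) (kf xf25 yf45 zf45) (kf xf17 yf17 zf50) (kf xf21 yf15 zf16) (kf xf25 yf45 zf43) (kf xf29 yf28 zf53) (kf xf25 yf45 zf47) (kf xf21 yf54 zf56) (kf xf21 yf55 zf2) (kf xf21 yf36 zf18) (kf xf17 yf37 zf40) (kf xf21 yf49 zf55) (kf xf25 yf45 zf51) (kf xf17 yf24 zf24) (kf xf20 yf49 zf9) (kf xf23 yf54 zf7) (kf xf27 yf6 zf3) (kf xf18 yf15 zf18) (kf xf18 yf15 zf20) (kf xf18 yf15 zf21) (kf xf18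 yf14 zf1) (kf xf18 yf14 zf42) (kf xf18 yf14 zf43) (kf xf18 yf14 zf44) (kf xf27 yf59 zf24) (kf xf25 yf16 zf38) (kf xf18 yf31 zf44) (kf xf18 yf31 zf45) (kf xf25 yf45 zf18) (kf xf29 yf15 zf28) (kf xf18 yf31 zf47) (kf xf18 yf31 zf48) (kf xf27 yf25 zf37) (kf xf27 yf27 zf49) (kf xf31 yf38 zf29) (kf xf16 yf8 zf3) (kf xf25 yf45 zf60) (kf xf25 yf45 zf61) (kf xf25 yf46 zf0) (kf xf17 yf36 zf33) (kf xf29 yf59 zf22) (kf xf25 yf8 zf45) (kf xf25 yf8 zf46) (kf xf25 yf8 zf47) (kf xf25 yf8 zf48) (kf xf32 yf4 zf4) (kf xf25 yf8 zf56) (kf xf27 yf18 zf49) (kf xf16 yf8 zf12) (kf xf21 yf43 zf16) (kf xf21 yf48 zf17) (kf xf25 yf8 zf54) (kf xf32 yf4 zf7) (kf xf25 yf8 zf50) (kf xf16 yf8 zf15) (kf xf16 yf8 zf18) (kf xf16 yf8 zf16) (kf xf24 yf37 zf33) (kf xf31 yf56 zf39) (kf xf29 yf4 zf60) (kf xf25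 yf6 zf6) (kf xf16 yf36 zf59)) (@D3.rec (fun _ => Pt) (kf xf29 yf4 zf59) (kf xf19 yf36 zf49) (kf xf19 yf38 zf2) (kf xf26 yf37 zf15) (kf xf16 yf8 zf19) (kf xf25 yf9 zf47) (kf xf19 yf36 zf58) (kf xf25 yf9 zf46) (kf xf26 yf48 zf18) (kf xf25 yf10 zf2) (kf xf16 yf8 zf23) (kf xf21 yf37 zf31) (kf xf27 yf26 zf56) (kf xf16 yf8 zf27) (kf xf25 yf9 zf49) (kf xf16 yf8 zf28) (kf xf27 yf25 zf35) (kf xf27 yf39 zf27) (kf xf30 yf3 zf31) (kf xf29 yf54 zf35) (kf xf24 yf47 zf39) (kf xf16 yf8 zf34) (kf xf21 yf4 zf32) (kf xf16 yf8 zf36) (kf xf19 yf59 zf41) (kf xf19 yf59 zf42) (kf xf27 yf31 zf59) (kf xf21 yf59 zf48) (kf xf21 yf59 zf42) (kf xf24 yf22 zf55) (kf xf16 yf8 zf43) (kf xf25 yf44 zf31) (kf xf25 yf42 zf34) (kf xf16 yf9 zf19) (kf xf25 yf42 zf32) (kf xf16 yf8 zf45) (kf xf27 yf5 zf59) (kf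 xf25 yf44 zf36) (kf xf22 yf3 zf0) (kf xf24 yf51 zf55) (kf xf21 yf50 zf50) (kf xf25 yf44 zf52) (kf xf25 yf44 zf51) (kf xf16 yf8 zf53) (kf xf19 yf45 zf56) (kf xf22 yf9 zf19) (kf xf17 yf29 zf42) (kf xf20 yf57 zf47) (kf xf25 yf44 zf42) (kf xf25 yf44 zf40) (kf xf24 yf44 zf59) (kf xf16 yf9 zf3) (kf xf25 yf44 zf60) (kf xf16 yf14 zf4) (kf xf25 yf45 zf2) (kf xf21 yf36 zf13) (kf xf29 yf22 zf46) (kf xf16 yf9 zf15) (kf xf20 yf44 zf7) (kf xf22 yf3 zf48) (kf xf30 yf18 zf17) (kf xf30 yf38 zf61)) (@D3.rec (fun _ => Pt) (kf xf16 yf9 zf20) (kf xf20 yf47 zf16) (kf xf27 yf5 zf60) (kf xf17 yf33 zf53) (kf xf27 yf5 zf61) (kf xf18 yf14 zf0) (kf xf27 yf6 zf0) (kf xf27 yf6 zf1) (kf xf27 yf6 zf2) (kf xf25 yf45 zf44) (kf xf31 yf40 zf8) (kf xf31 yf40 zf9) (kf xf17 yf42 zf39) (kf xf31 yf40 zf6)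 (kf xf31 yf40 zf7) (kf xf31 yf40 zf4) (kf xf31 yf40 zf5) (kf xf28 yf54 zf48) (kf xf31 yf51 zf52) (kf xf32 yf4 zf26) (kf xf31 yf40 zf2) (kf xf31 yf40 zf1) (kf xf16 yf9 zf38) (kf xf17 yf36 zf38) (kf xf17 yf36 zf41) (kf xf16 yf14 zf24) (kf xf25 yf45 zf31) (kf xf19 yf54 zf50) (kf xf26 yf7 zf61) (kf xf24 yf37 zf35) (kf xf21 yf29 zf19) (kf xf16 yf9 zf47) (kf xf18 yf18 zf38) (kf xf19 yf54 zf24) (kf xf25 yf23 zf14) (kf xf25 yf23 zf15) (kf xf25 yf23 zf12) (kf xf25 yf23 zf13) (kf xf17 yf53 zf7) (kf xf29 yf10 zf28) (kf xf25 yf23 zf24) (kf xf25 yf23 zf25) (kf xf17 yf41 zf49) (kf xf25 yf23 zf20) (kf xf25 yf23 zf21) (kf xf25 yf9 zf12) (kf xf29 yf10 zf26) (kf xf29 yf10 zf27) (kf xf16 yf10 zf10) (kf xf23 yf8 zf36) (kf xf25 yf52 zf0) (kf xf24 yf10 zf23) (kf xf23 yf9 zf21) (kf xf31 yf48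 zf47) (kf xf31 yf22 zf12) (kf xf16 yf10 zf5) (kf xf27 yf56 zf57) (kf xf26 yf7 zf11) (kf xf19 yf55 zf11) (kf xf16 yf10 zf6) (kf xf32 yf4 zf34) (kf xf29 yf10 zf6)) (@D3.rec (fun _ => Pt) (kf xf16 yf10 zf7) (kf xf24 yf7 zf16) (kf xf26 yf7 zf14) (kf xf16 yf13 zf1) (kf xf26 yf9 zf1) (kf xf29 yf27 zf13) (kf xf26 yf9 zf3) (kf xf31 yf12 zf10) (kf xf19 yf56 zf28) (kf xf19 yf56 zf29) (kf xf16 yf50 zf40) (kf xf26 yf6 zf57) (kf xf31 yf44 zf57) (kf xf26 yf8 zf32) (kf xf26 yf7 zf2) (kf xf31 yf44 zf59) (kf xf19 yf54 zf3) (kf xf28 yf27 zf33) (kf xf24 yf23 zf2) (kf xf16 yf10 zf26) (kf xf18 yf19 zf22) (kf xf29 yf55 zf27) (kf xf23 yf46 zf17) (kf xf23 yf46 zf18) (kf xf32 yf4 zf44) (kf xf30 yf7 zf21) (kf xf23 yf21 zf40) (kf xf16 yf10 zf36) (kf xf30 yf2 zf41) (kf xf23 yf21 zf42) (kf xf23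 yf31 zf28) (kf xf20 yf13 zf33) (kf xf16 yf10 zf40) (kf xf26 yf8 zf26) (kf xf25 yf39 zf54) (kf xf25 yf38 zf41) (kf xf16 yf10 zf46) (kf xf29 yf6 zf25) (kf xf29 yf6 zf26) (kf xf23 yf52 zf30) (kf xf25 yf2 zf46) (kf xf16 yf10 zf48) (kf xf23 yf21 zf21) (kf xf26 yf3 zf23) (kf xf31 yf11 zf49) (kf xf23 yf16 zf18) (kf xf23 yf44 zf6) (kf xf26 yf9 zf0) (kf xf16 yf10 zf61) (kf xf23 yf21 zf24) (kf xf24 yf32 zf28) (kf xf19 yf3 zf8) (kf xf24 yf35 zf9) (kf xf29 yf45 zf46) (kf xf25 yf8 zf12) (kf xf26 yf11 zf14) (kf xf22 yf3 zf54) (kf xf18 yf3 zf3) (kf xf29 yf44 zf56) (kf xf16 yf36 zf16) (kf xf16 yf11 zf13) (kf xf26 yf6 zf28)) (@D3.rec (fun _ => Pt) (kf xf24 yf23 zf36) (kf xf26 yf40 zf17) (kf xf31 yf11 zf32) (kf xf21 yf2 zf27) (kf xf21 yf49 zf23) (kf xf23 yf28 zf6) (kf xf16 yf50 zf12)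 (kf xf29 yf11 zf36) (kf xf16 yf11 zf24) (kf xf26 yf8 zf31) (kf xf16 yf11 zf34) (kf xf31 yf34 zf8) (kf xf22 yf5 zf23) (kf xf26 yf2 zf3) (kf xf16 yf11 zf28) (kf xf28 yf0 zf37) (kf xf16 yf11 zf29) (kf xf31 yf53 zf10) (kf xf32 yf4 zf56) (kf xf16 yf11 zf30) (kf xf22 yf4 zf37) (kf xf29 yf50 zf5) (kf xf30 yf42 zf27) (kf xf23 yf40 zf41) (kf xf27 yf1 zf22) (kf xf23 yf35 zf6) (kf xf26 yf7 zf33) (kf xf30 yf13 zf20) (kf xf31 yf58 zf17) (kf xf26 yf47 zf6) (kf xf26 yf47 zf7) (kf xf26 yf8 zf9) (kf xf26 yf7 zf13) (kf xf25 yf2 zf16) (kf xf29 yf51 zf40) (kf xf18 yf40 zf23) (kf xf18 yf40 zf22) (kf xf18 yf41 zf2) (kf xf18 yf41 zf4) (kf xf30 yf52 zf36) (kf xf26 yf25 zf12) (kf xf24 yf54 zf43) (kf xf25 yf14 zf36) (kf xf27 yf44 zf59) (kf xf27 yf44 zf58) (kf xf21 yf55 zf40) (kf xf28 yf0 zf54)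 (kf xf29 yf48 zf57) (kf xf25 yf2 zf26) (kf xf31 yf0 zf44) (kf xf31 yf0 zf43) (kf xf29 yf51 zf42) (kf xf24 yf59 zf55) (kf xf29 yf22 zf1) (kf xf29 yf54 zf1) (kf xf23 yf20 zf13) (kf xf30 yf13 zf54) (kf xf22 yf31 zf48) (kf xf16 yf12 zf8) (kf xf24 yf54 zf9) (kf xf21 yf29 zf24) (kf xf24 yf59 zf54)) (@D3.rec (fun _ => Pt) (kf xf26 yf7 zf47) (kf xf26 yf7 zf4) (kf xf32 yf5 zf6) (kf xf26 yf7 zf6) (kf xf29 yf54 zf4) (kf xf24 yf59 zf56) (kf xf23 yf10 zf9) (kf xf22 yf16 zf50) (kf xf27 yf39 zf3) (kf xf19 yf55 zf53) (kf xf25 yf58 zf22) (kf xf17 yf44 zf49) (kf xf16 yf12 zf38) (kf xf16 yf12 zf39) (kf xf16 yf12 zf40) (kf xf31 yf23 zf58) (kf xf23 yf37 zf28) (kf xf24 yf35 zf13) (kf xf28 yf48 zf40) (kf xf21 yf51 zf16) (kf xf31 yf21 zf2) (kf xf16 yf12 zf34) (kf xf23 yf21 zf20) (kf xf23 yf17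 zf10) (kf xf31 yf2 zf11) (kf xf16 yf12 zf35) (kf xf31 yf24 zf2) (kf xf28 yf34 zf8) (kf xf30 yf59 zf7) (kf xf30 yf57 zf60) (kf xf31 yf11 zf38) (kf xf30 yf59 zf37) (kf xf31 yf7 zf52) (kf xf23 yf59 zf36) (kf xf31 yf39 zf3) (kf xf30 yf59 zf35) (kf xf30 yf57 zf58) (kf xf30 yf57 zf59) (kf xf23 yf24 zf49) (kf xf30 yf42 zf46) (kf xf23 yf32 zf61) (kf xf23 yf32 zf59) (kf xf30 yf42 zf48) (kf xf26 yf10 zf18) (kf xf26 yf10 zf17) (kf xf27 yf39 zf4) (kf xf26 yf54 zf25) (kf xf25 yf37 zf24) (kf xf25 yf52 zf33) (kf xf16 yf12 zf56) (kf xf29 yf2 zf42) (kf xf25 yf37 zf26) (kf xf28 yf49 zf34) (kf xf16 yf13 zf12) (kf xf24 yf3 zf47) (kf xf26 yf48 zf10) (kf xf23 yf32 zf18) (kf xf24 yf33 zf37) (kf xf24 yf52 zf8) (kf xf32 yf3 zf26) (kf xf28 yf0 zf30) (kf xf31 yf6 zf31)) (@D3.rec (fun _ => Pt)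 (kf xf23 yf31 zf57) (kf xf16 yf13 zf8) (kf xf32 yf4 zf31) (kf xf29 yf11 zf27) (kf xf16 yf13 zf9) (kf xf32 yf3 zf41) (kf xf20 yf32 zf48) (kf xf26 yf46 zf2) (kf xf26 yf20 zf5) (kf xf20 yf32 zf47) (kf xf20 yf32 zf49) (kf xf29 yf6 zf20) (kf xf29 yf6 zf21) (kf xf29 yf6 zf17) (kf xf29 yf6 zf16) (kf xf22 yf46 zf9) (kf xf23 yf32 zf19) (kf xf26 yf9 zf44) (kf xf26 yf9 zf43) (kf xf29 yf9 zf34) (kf xf19 yf56 zf55) (kf xf17 yf36 zf8) (kf xf20 yf27 zf58) (kf xf25 yf25 zf30) (kf xf25 yf25 zf29) (kf xf17 yf29 zf38) (kf xf21 yf8 zf13) (kf xf27 yf3 zf49) (kf xf22 yf10 zf35) (kf xf27 yf29 zf17) (kf xf17 yf36 zf55) (kf xf19 yf34 zf40) (kf xf24 yf39 zf15) (kf xf27 yf37 zf30) (kf xf20 yf48 zf33) (kf xf26 yf37 zf24) (kf xf21 yf59 zf43) (kf xf16 yf13 zf41) (kf xf17 yf48 zf17) (kf xf17 yf40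 zf2) (kf xf20 yf14 zf27) (kf xf18 yf51 zf11) (kf xf17 yf4 zf47) (kf xf16 yf55 zf48) (kf xf16 yf13 zf55) (kf xf16 yf14 zf2) (kf xf17 yf48 zf35) (kf xf24 yf54 zf51) (kf xf24 yf54 zf59) (kf xf31 yf44 zf41) (kf xf21 yf58 zf40) (kf xf16 yf13 zf60) (kf xf24 yf18 zf3) (kf xf20 yf34 zf21) (kf xf27 yf3 zf46) (kf xf17 yf39 zf60) (kf xf31 yf58 zf51) (kf xf24 yf54 zf52) (kf xf23 yf13 zf2) (kf xf23 yf35 zf52) (kf xf23 yf49 zf55) (kf xf31 yf45 zf20)) (@D3.rec (fun _ => Pt) (kf xf27 yf29 zf40) (kf xf27 yf50 zf53) (kf xf16 yf14 zf5) (kf xf31 yf20 zf23) (kf xf24 yf3 zf37) (kf xf29 yf43 zf42) (kf xf31 yf59 zf10) (kf xf29 yf49 zf12) (kf xf24 yf5 zf1) (kf xf28 yf54 zf3) (kf xf21 yf48 zf12) (kf xf16 yf36 zf56) (kf xf16 yf36 zf57) (kf xf16 yf36 zf55) (kf xf26 yf7 zf55) (kf xf22 yf5 zf55)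 (kf xf21 yf48 zf6) (kf xf27 yf25 zf30) (kf xf27 yf25 zf31) (kf xf16 yf15 zf45) (kf xf27 yf20 zf55) (kf xf29 yf59 zf57) (kf xf17 yf41 zf8) (kf xf17 yf39 zf61) (kf xf17 yf40 zf3) (kf xf17 yf41 zf9) (kf xf27 yf27 zf55) (kf xf16 yf15 zf34) (kf xf22 yf11 zf27) (kf xf17 yf41 zf16) (kf xf17 yf41 zf15) (kf xf16 yf14 zf23) (kf xf17 yf40 zf1) (kf xf16 yf16 zf45) (kf xf17 yf40 zf4) (kf xf17 yf40 zf5) (kf xf17 yf40 zf6) (kf xf31 yf44 zf1) (kf xf27 yf30 zf37) (kf xf16 yf14 zf40) (kf xf16 yf14 zf38) (kf xf27 yf27 zf12) (kf xf27 yf29 zf58) (kf xf32 yf5 zf40) (kf xf27 yf27 zf3) (kf xf32 yf5 zf36) (kf xf27 yf29 zf60) (kf xf21 yf4 zf33) (kf xf16 yf14 zf42) (kf xf16 yf14 zf41) (kf xf32 yf5 zf35) (kf xf32 yf5 zf47) (kf xf30 yf59 zf60) (kf xf32 yf5 zf42) (kf xf31 yf54 zf39) (kf xf32 yf5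 zf41) (kf xf24 yf31 zf37) (kf xf32 yf5 zf43) (kf xf16 yf14 zf43) (kf xf29 yf22 zf0) (kf xf32 yf5 zf57) (kf xf27 yf28 zf27)) (@D3.rec (fun _ => Pt) (kf xf28 yf44 zf3) (kf xf16 yf14 zf44) (kf xf28 yf41 zf42) (kf xf16 yf18 zf23) (kf xf16 yf18 zf25) (kf xf17 yf41 zf29) (kf xf17 yf37 zf6) (kf xf31 yf32 zf57) (kf xf16 yf14 zf47) (kf xf31 yf38 zf12) (kf xf18 yf27 zf27) (kf xf32 yf6 zf0) (kf xf27 yf28 zf30) (kf xf27 yf46 zf18) (kf xf16 yf18 zf51) (kf xf25 yf10 zf3) (kf xf17 yf30 zf29) (kf xf26 yf16 zf39) (kf xf18 yf6 zf57) (kf xf24 yf41 zf40) (kf xf25 yf15 zf43) (kf xf25 yf15 zf45) (kf xf18 yf8 zf31) (kf xf26 yf15 zf14) (kf xf26 yf16 zf40) (kf xf30 yf12 zf38) (kf xf16 yf14 zf60) (kf xf31 yf1 zf32) (kf xf23 yf30 zf33) (kf xf23 yf37 zf61) (kf xf31 yf37 zf56) (kf xf29 yf0 zf18)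 (kf xf31 yf11 zf26) (kf xf30 yf5 zf23) (kf xf21 yf22 zf58) (kf xf16 yf15 zf3) (kf xf27 yf46 zf36) (kf xf18 yf7 zf23) (kf xf16 yf15 zf12) (kf xf32 yf6 zf1) (kf xf16 yf15 zf7) (kf xf27 yf30 zf45) (kf xf27 yf30 zf46) (kf xf28 yf3 zf43) (kf xf19 yf22 zf52) (kf xf18 yf7 zf18) (kf xf16 yf15 zf11) (kf xf27 yf46 zf48) (kf xf31 yf7 zf0) (kf xf25 yf15 zf56) (kf xf16 yf15 zf14) (kf xf23 yf51 zf22) (kf xf27 yf29 zf12) (kf xf25 yf0 zf17) (kf xf27 yf39 zf26) (kf xf16 yf19 zf14) (kf xf24 yf58 zf54) (kf xf26 yf16 zf37) (kf xf27 yf40 zf29) (kf xf26 yf55 zf18) (kf xf28 yf57 zf46) (kf xf26 yf14 zf44)) (@D3.rec (fun _ => Pt) (kf xf22 yf11 zf26) (kf xf29 yf27 zf44) (kf xf21 yf33 zf24) (kf xf19 yf2 zf1) (kf xf30 yf5 zf25) (kf xf30 yf3 zf45) (kf xf21 yf42 zf25) (kf xf26 yf14 zf45) (kf xf21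 yf38 zf50) (kf xf26 yf14 zf46) (kf xf24 yf56 zf17) (kf xf28 yf3 zf48) (kf xf16 yf15 zf46) (kf xf27 yf31 zf50) (kf xf16 yf15 zf40) (kf xf25 yf35 zf9) (kf xf27 yf30 zf29) (kf xf24 yf55 zf47) (kf xf23 yf51 zf48) (kf xf26 yf19 zf31) (kf xf28 yf28 zf38) (kf xf24 yf55 zf22) (kf xf27 yf31 zf15) (kf xf31 yf1 zf20) (kf xf16 yf15 zf44) (kf xf23 yf50 zf21) (kf xf26 yf21 zf1) (kf xf16 yf15 zf47) (kf xf25 yf1 zf10) (kf xf25 yf0 zf60) (kf xf26 yf17 zf42) (kf xf25 yf1 zf11) (kf xf27 yf31 zf20) (kf xf32 yf6 zf8) (kf xf16 yf15 zf51) (kf xf25 yf15 zf44) (kf xf16 yf18 zf42) (kf xf26 yf18 zf20) (kf xf27 yf48 zf42) (kf xf26 yf18 zf14) (kf xf27 yf39 zf48) (kf xf27 yf39 zf46) (kf xf26 yf21 zf2) (kf xf20 yf3 zf4) (kf xf16 yf15 zf58) (kf xf27 yf48 zf60) (kf xf18 yf6 zf51) (kf xf27 yf25 zf52)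 (kf xf23 yf37 zf56) (kf xf17 yf36 zf1) (kf xf27 yf39 zf43) (kf xf27 yf39 zf44) (kf xf32 yf6 zf13) (kf xf24 yf54 zf58) (kf xf25 yf54 zf21) (kf xf25 yf59 zf10) (kf xf27 yf24 zf23) (kf xf24 yf45 zf18) (kf xf25 yf58 zf5) (kf xf24 yf59 zf2) (kf xf16 yf16 zf14) (kf xf16 yf16 zf13)) (@D3.rec (fun _ => Pt) (kf xf17 yf39 zf12) (kf xf16 yf16 zf10) (kf xf17 yf54 zf8) (kf xf27 yf50 zf29) (kf xf27 yf48 zf5) (kf xf17 yf21 zf40) (kf xf17 yf40 zf25) (kf xf17 yf21 zf41) (kf xf17 yf39 zf7) (kf xf25 yf29 zf46) (kf xf16 yf16 zf15) (kf xf26 yf19 zf12) (kf xf26 yf19 zf13) (kf xf29 yf38 zf45) (kf xf26 yf19 zf5) (kf xf26 yf19 zf6) (kf xf18 yf7 zf3) (kf xf18 yf8 zf13) (kf xf18 yf8 zf12) (kf xf18 yf8 zf11) (kf xf18 yf4 zf10) (kf xf24 yf44 zf31) (kf xf24 yf55 zf1) (kf xf27 yf25 zf8) (kf xf25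 yf57 zf5) (kf xf27 yf48 zf35) (kf xf16 yf16 zf26) (kf xf27 yf48 zf6) (kf xf31 yf38 zf20) (kf xf26 yf48 zf17) (kf xf19 yf54 zf1) (kf xf18 yf5 zf7) (kf xf18 yf3 zf29) (kf xf24 yf43 zf19) (kf xf24 yf43 zf18) (kf xf19 yf14 zf30) (kf xf21 yf8 zf37) (kf xf21 yf36 zf6) (kf xf21 yf28 zf7) (kf xf25 yf57 zf30) (kf xf25 yf57 zf29) (kf xf21 yf10 zf12) (kf xf21 yf45 zf53) (kf xf18 yf16 zf31) (kf xf26 yf12 zf61) (kf xf26 yf13 zf7) (kf xf26 yf13 zf9) (kf xf28 yf28 zf36) (kf xf23 yf42 zf48) (kf xf16 yf16 zf49) (kf xf27 yf31 zf51) (kf xf27 yf4 zf47) (kf xf28 yf3 zf55) (kf xf22 yf43 zf48) (kf xf26 yf18 zf51) (kf xf31 yf44 zf40) (kf xf27 yf1 zf20) (kf xf23 yf20 zf60) (kf xf16 yf16 zf55) (kf xf26 yf15 zf42) (kf xf17 yf54 zf41) (kf xf32 yf6 zf22)) (@D3.rec (fun _ => Pt) (kf xf18 yf4 zf1)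 (kf xf18 yf4 zf49) (kf xf27 yf39 zf32) (kf xf23 yf1 zf17) (kf xf17 yf50 zf18) (kf xf28 yf10 zf29) (kf xf18 yf10 zf48) (kf xf26 yf17 zf1) (kf xf19 yf44 zf11) (kf xf31 yf38 zf21) (kf xf25 yf57 zf7) (kf xf25 yf58 zf54) (kf xf25 yf33 zf13) (kf xf30 yf4 zf0) (kf xf26 yf12 zf23) (kf xf27 yf46 zf8) (kf xf23 yf49 zf48) (kf xf30 yf14 zf21) (kf xf27 yf40 zf4) (kf xf27 yf40 zf5) (kf xf24 yf55 zf39) (kf xf22 yf8 zf19) (kf xf27 yf40 zf7) (kf xf31 yf39 zf0) (kf xf27 yf27 zf28) (kf xf30 yf4 zf13) (kf xf20 yf11 zf8) (kf xf24 yf36 zf42) (kf xf30 yf4 zf28) (kf xf31 yf58 zf48) (kf xf25 yf10 zf57) (kf xf26 yf18 zf2) (kf xf27 yf46 zf20) (kf xf17 yf45 zf24) (kf xf26 yf18 zf4) (kf xf30 yf23 zf22) (kf xf20 yf11 zf6) (kf xf20 yf11 zf7) (kf xf20 yf11 zf9) (kf xf30 yf2 zf55) (kf xf31 yf44 zf15)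 (kf xf23 yf44 zf37) (kf xf26 yf14 zf59) (kf xf27 yf45 zf60) (kf xf27 yf10 zf22) (kf xf16 yf17 zf55) (kf xf17 yf45 zf30) (kf xf24 yf18 zf20) (kf xf27 yf37 zf31) (kf xf29 yf6 zf44) (kf xf16 yf17 zf60) (kf xf23 yf49 zf50) (kf xf30 yf6 zf0) (kf xf19 yf22 zf22) (kf xf23 yf56 zf47) (kf xf23 yf17 zf8) (kf xf32 yf6 zf41) (kf xf16 yf18 zf10) (kf xf23 yf51 zf51) (kf xf16 yf18 zf21) (kf xf16 yf18 zf20) (kf xf16 yf18 zf13)) (@D3.rec (fun _ => Pt) (kf xf19 yf22 zf24) (kf xf22 yf35 zf8) (kf xf31 yf38 zf52) (kf xf28 yf37 zf14) (kf xf16 yf18 zf19) (kf xf17 yf35 zf17) (kf xf27 yf29 zf59) (kf xf28 yf28 zf35) (kf xf27 yf46 zf14) (kf xf27 yf39 zf29) (kf xf18 yf16 zf57) (kf xf17 yf52 zf20) (kf xf27 yf39 zf33) (kf xf27 yf48 zf10) (kf xf18 yf16 zf40) (kf xf16 yf18 zf28) (kf xf27 yf39 zf58)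 (kf xf27 yf39 zf56) (kf xf27 yf39 zf57) (kf xf26 yf31 zf8) (kf xf28 yf4 zf25) (kf xf25 yf0 zf35) (kf xf27 yf39 zf39) (kf xf32 yf6 zf48) (kf xf16 yf18 zf35) (kf xf27 yf39 zf31) (kf xf27 yf20 zf28) (kf xf17 yf51 zf46) (kf xf27 yf28 zf11) (kf xf28 yf2 zf30) (kf xf31 yf38 zf32) (kf xf27 yf28 zf32) (kf xf31 yf38 zf30) (kf xf31 yf38 zf31) (kf xf22 yf34 zf37) (kf xf30 yf4 zf2) (kf xf18 yf6 zf46) (kf xf26 yf12 zf57) (kf xf31 yf7 zf10) (kf xf26 yf12 zf17) (kf xf26 yf12 zf24) (kf xf27 yf31 zf32) (kf xf27 yf31 zf30) (kf xf24 yf45 zf42) (kf xf28 yf6 zf32) (kf xf21 yf26 zf25) (kf xf19 yf35 zf52) (kf xf27 yf11 zf6) (kf xf31 yf55 zf10) (kf xf30 yf1 zf38) (kf xf27 yf17 zf51) (kf xf23 yf32 zf16) (kf xf29 yf57 zf6) (kf xf27 yf5 zf49) (kf xf25 yf29 zf29) (kf xf25 yf29 zf49) (kf xf25 yf57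 zf8) (kf xf21 yf58 zf21) (kf xf30 yf14 zf33) (kf xf16 yf19 zf6) (kf xf27 yf25 zf33) (kf xf25 yf55 zf39)) (@D3.rec (fun _ => Pt) (kf xf25 yf29 zf41) (kf xf26 yf15 zf7) (kf xf27 yf26 zf51) (kf xf27 yf24 zf48) (kf xf16 yf19 zf10) (kf xf16 yf19 zf12) (kf xf31 yf7 zf44) (kf xf16 yf19 zf11) (kf xf31 yf1 zf18) (kf xf31 yf48 zf20) (kf xf26 yf19 zf17) (kf xf26 yf19 zf20) (kf xf26 yf19 zf14) (kf xf26 yf19 zf15) (kf xf26 yf19 zf38) (kf xf21 yf11 zf41) (kf xf26 yf18 zf53) (kf xf26 yf19 zf9) (kf xf27 yf39 zf52) (kf xf27 yf33 zf23) (kf xf27 yf9 zf36) (kf xf16 yf31 zf21) (kf xf20 yf10 zf40) (kf xf20 yf10 zf41) (kf xf28 yf27 zf25) (kf xf20 yf10 zf48) (kf xf30 yf55 zf44) (kf xf16 yf19 zf30) (kf xf20 yf10 zf44) (kf xf20 yf10 zf45) (kf xf20 yf10 zf2) (kf xf20 yf10 zf3) (kf xf28 yf28 zf49)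 (kf xf20 yf10 zf18) (kf xf20 yf10 zf13) (kf xf17 yf47 zf50) (kf xf16 yf19 zf36) (kf xf19 yf0 zf55) (kf xf19 yf0 zf57) (kf xf22 yf55 zf54) (kf xf16 yf19 zf38) (kf xf29 yf32 zf29) (kf xf26 yf13 zf30) (kf xf26 yf24 zf33) (kf xf29 yf53 zf43) (kf xf28 yf31 zf59) (kf xf29 yf53 zf46) (kf xf27 yf33 zf44) (kf xf30 yf25 zf4) (kf xf31 yf38 zf35) (kf xf28 yf12 zf9) (kf xf16 yf19 zf48) (kf xf30 yf55 zf32) (kf xf25 yf9 zf2) (kf xf26 yf20 zf34) (kf xf25 yf49 zf26) (kf xf32 yf7 zf13) (kf xf16 yf19 zf51) (kf xf26 yf24 zf40) (kf xf26 yf24 zf41) (kf xf27 yf13 zf24) (kf xf28 yf11 zf60)) (@D3.rec (fun _ => Pt) (kf xf31 yf57 zf6) (kf xf30 yf3 zf30) (kf xf26 yf15 zf31) (kf xf32 yf6 zf55) (kf xf26 yf15 zf34) (kf xf32 yf7 zf17) (kf xf31 yf38 zf34) (kf xf21 yf58 zf45) (kf xf16 yf20 zf3) (kf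 xf16 yf20 zf4) (kf xf27 yf26 zf41) (kf xf21 yf49 zf8) (kf xf25 yf1 zf40) (kf xf27 yf39 zf45) (kf xf26 yf13 zf39) (kf xf20 yf11 zf10) (kf xf25 yf13 zf61) (kf xf16 yf20 zf11) (kf xf26 yf20 zf50) (kf xf17 yf30 zf22) (kf xf26 yf13 zf37) (kf xf18 yf19 zf60) (kf xf22 yf56 zf53) (kf xf16 yf20 zf22) (kf xf17 yf52 zf18) (kf xf27 yf40 zf15) (kf xf23 yf6 zf10) (kf xf23 yf32 zf13) (kf xf23 yf3 zf32) (kf xf20 yf10 zf52) (kf xf20 yf10 zf60) (kf xf16 yf20 zf37) (kf xf20 yf10 zf58) (kf xf28 yf5 zf31) (kf xf20 yf10 zf55) (kf xf16 yf20 zf39) (kf xf20 yf11 zf3) (kf xf22 yf18 zf14) (kf xf24 yf55 zf24) (kf xf25 yf15 zf51) (kf xf26 yf21 zf36) (kf xf20 yf8 zf21) (kf xf16 yf20 zf43) (kf xf28 yf0 zf6) (kf xf27 yf40 zf24) (kf xf18 yf4 zf51) (kf xf31 yf43 zf21) (kf xf26 yf30 zf54) (kf xf28 yf28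 zf11) (kf xf26 yf19 zf24) (kf xf27 yf58 zf37) (kf xf26 yf14 zf54) (kf xf27 yf28 zf59) (kf xf26 yf17 zf16) (kf xf26 yf31 zf60) (kf xf16 yf20 zf56) (kf xf26 yf19 zf25) (kf xf28 yf12 zf8) (kf xf32 yf1 zf46) (kf xf24 yf53 zf59) (kf xf24 yf53 zf58) (kf xf16 yf20 zf59)) (@D3.rec (fun _ => Pt) (kf xf20 yf7 zf7) (kf xf16 yf20 zf61) (kf xf20 yf7 zf5) (kf xf28 yf4 zf36) (kf xf20 yf20 zf60) (kf xf26 yf14 zf14) (kf xf26 yf14 zf15) (kf xf26 yf20 zf61) (kf xf22 yf41 zf58) (kf xf26 yf17 zf17) (kf xf27 yf40 zf21) (kf xf27 yf40 zf22) (kf xf26 yf14 zf11) (kf xf26 yf14 zf12) (kf xf26 yf17 zf12) (kf xf26 yf17 zf13) (kf xf29 yf53 zf14) (kf xf26 yf17 zf10) (kf xf31 yf22 zf21) (kf xf29 yf54 zf24) (kf xf26 yf17 zf11) (kf xf26 yf21 zf19) (kf xf16 yf21 zf18) (kf xf28 yf0 zf34) (kf xf26 yf18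 zf49) (kf xf26 yf18 zf56) (kf xf26 yf31 zf59) (kf xf16 yf21 zf20) (kf xf18 yf33 zf12) (kf xf27 yf34 zf8) (kf xf28 yf7 zf37) (kf xf26 yf13 zf19) (kf xf30 yf23 zf12) (kf xf29 yf14 zf33) (kf xf28 yf27 zf45) (kf xf16 yf21 zf29) (kf xf28 yf12 zf46) (kf xf30 yf12 zf41) (kf xf26 yf17 zf14) (kf xf23 yf7 zf7) (kf xf17 yf50 zf36) (kf xf28 yf12 zf40) (kf xf24 yf56 zf7) (kf xf29 yf46 zf60) (kf xf16 yf21 zf41) (kf xf27 yf53 zf10) (kf xf29 yf20 zf26) (kf xf27 yf49 zf42) (kf xf18 yf9 zf18) (kf xf18 yf56 zf41) (kf xf27 yf33 zf45) (kf xf19 yf2 zf2) (kf xf24 yf56 zf1) (kf xf18 yf6 zf9) (kf xf19 yf1 zf53) (kf xf28 yf26 zf37) (kf xf27 yf58 zf23) (kf xf27 yf58 zf21) (kf xf28 yf26 zf38) (kf xf26 yf32 zf43) (kf xf18 yf13 zf29) (kf xf27 yf54 zf53)) (@D3.rec (fun _ => Pt) (kf xf18 yf14 zf55)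 (kf xf26 yf32 zf39) (kf xf16 yf22 zf0) (kf xf16 yf35 zf52) (kf xf25 yf46 zf15) (kf xf26 yf10 zf8) (kf xf16 yf22 zf3) (kf xf16 yf22 zf11) (kf xf18 yf14 zf60) (kf xf16 yf22 zf19) (kf xf28 yf18 zf48) (kf xf28 yf2 zf27) (kf xf20 yf10 zf20) (kf xf28 yf2 zf28) (kf xf28 yf27 zf8) (kf xf31 yf23 zf16) (kf xf16 yf31 zf22) (kf xf16 yf31 zf23) (kf xf29 yf18 zf37) (kf xf16 yf22 zf28) (kf xf16 yf22 zf27) (kf xf30 yf53 zf51) (kf xf30 yf53 zf49) (kf xf28 yf27 zf10) (kf xf22 yf53 zf7) (kf xf26 yf56 zf12) (kf xf16 yf22 zf29) (kf xf31 yf38 zf51) (kf xf26 yf26 zf6) (kf xf28 yf26 zf49) (kf xf31 yf38 zf59) (kf xf25 yf28 zf36) (kf xf28 yf26 zf50) (kf xf19 yf1 zf47) (kf xf26 yf17 zf54) (kf xf26 yf45 zf8) (kf xf29 yf5 zf5) (kf xf16 yf22 zf37) (kf xf31 yf29 zf27) (kf xf19 yf8 zf48) (kf xf22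 yf50 zf5) (kf xf16 yf22 zf44) (kf xf23 yf6 zf60) (kf xf22 yf34 zf26) (kf xf21 yf13 zf61) (kf xf31 yf38 zf24) (kf xf31 yf38 zf27) (kf xf24 yf56 zf13) (kf xf31 yf38 zf28) (kf xf18 yf6 zf35) (kf xf26 yf18 zf18) (kf xf28 yf4 zf27) (kf xf28 yf4 zf29) (kf xf27 yf40 zf6) (kf xf27 yf33 zf1) (kf xf18 yf6 zf22) (kf xf24 yf55 zf9) (kf xf19 yf6 zf33) (kf xf32 yf7 zf49) (kf xf18 yf5 zf27) (kf xf26 yf30 zf33) (kf xf26 yf19 zf7)) (@D3.rec (fun _ => Pt) (kf xf26 yf30 zf23) (kf xf26 yf13 zf26) (kf xf26 yf13 zf42) (kf xf31 yf35 zf22) (kf xf26 yf30 zf44) (kf xf26 yf30 zf45) (kf xf26 yf30 zf43) (kf xf27 yf26 zf18) (kf xf20 yf46 zf52) (kf xf24 yf56 zf14) (kf xf26 yf30 zf36) (kf xf18 yf3 zf61) (kf xf16 yf23 zf11) (kf xf19 yf22 zf26) (kf xf28 yf3 zf40) (kf xf16 yf23 zf30) (kf xf23 yf8 zf57)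 (kf xf27 yf58 zf10) (kf xf29 yf52 zf50) (kf xf26 yf19 zf21) (kf xf29 yf52 zf51) (kf xf23 yf9 zf12) (kf xf31 yf39 zf1) (kf xf27 yf40 zf37) (kf xf29 yf53 zf15) (kf xf26 yf26 zf4) (kf xf29 yf53 zf12) (kf xf29 yf53 zf13) (kf xf30 yf54 zf42) (kf xf26 yf31 zf51) (kf xf26 yf31 zf50) (kf xf31 yf59 zf47) (kf xf32 yf5 zf61) (kf xf16 yf34 zf21) (kf xf16 yf34 zf22) (kf xf16 yf34 zf23) (kf xf26 yf18 zf40) (kf xf16 yf23 zf34) (kf xf29 yf54 zf15) (kf xf31 yf43 zf10) (kf xf26 yf24 zf23) (kf xf31 yf44 zf42) (kf xf16 yf23 zf41) (kf xf29 yf54 zf13) (kf xf29 yf54 zf14) (kf xf29 yf54 zf12) (kf xf21 yf29 zf49) (kf xf26 yf57 zf48) (kf xf21 yf53 zf33) (kf xf20 yf35 zf54) (kf xf20 yf13 zf14) (kf xf21 yf50 zf49) (kf xf30 yf52 zf52) (kf xf29 yf31 zf48) (kf xf28 yf55 zf15) (kf xf30 yf34 zf28)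 (kf xf16 yf24 zf0) (kf xf20 yf35 zf48) (kf xf23 yf25 zf61) (kf xf27 yf40 zf41) (kf xf16 yf24 zf9) (kf xf17 yf56 zf57)) (@D3.rec (fun _ => Pt) (kf xf30 yf47 zf5) (kf xf30 yf57 zf51) (kf xf17 yf23 zf3) (kf xf16 yf24 zf23) (kf xf30 yf12 zf31) (kf xf30 yf52 zf58) (kf xf16 yf24 zf42) (kf xf16 yf24 zf41) (kf xf30 yf52 zf59) (kf xf31 yf42 zf0) (kf xf24 yf47 zf36) (kf xf17 yf2 zf29) (kf xf16 yf24 zf35) (kf xf26 yf29 zf36) (kf xf28 yf12 zf48) (kf xf28 yf53 zf35) (kf xf32 yf8 zf6) (kf xf31 yf43 zf29) (kf xf30 yf51 zf7) (kf xf24 yf34 zf36) (kf xf32 yf8 zf14) (kf xf16 yf24 zf43) (kf xf17 yf15 zf4) (kf xf20 yf18 zf40) (kf xf20 yf7 zf51) (kf xf17 yf25 zf2) (kf xf19 yf17 zf55) (kf xf21 yf11 zf51) (kf xf16 yf26 zf22) (kf xf16 yf24 zf48) (kf xf28 yf32 zf44) (kf xf24 yf47 zf5) (kf xf21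 yf29 zf0) (kf xf24 yf31 zf2) (kf xf19 yf14 zf61) (kf xf20 yf35 zf46) (kf xf21 yf11 zf44) (kf xf16 yf24 zf58) (kf xf21 yf29 zf15) (kf xf21 yf29 zf14) (kf xf27 yf57 zf13) (kf xf21 yf29 zf16) (kf xf25 yf16 zf21) (kf xf16 yf25 zf7) (kf xf21 yf29 zf40) (kf xf21 yf29 zf36) (kf xf21 yf29 zf37) (kf xf28 yf12 zf35) (kf xf21 yf29 zf43) (kf xf21 yf29 zf42) (kf xf21 yf11 zf43) (kf xf18 yf23 zf6) (kf xf16 yf26 zf27) (kf xf28 yf24 zf27) (kf xf20 yf14 zf20) (kf xf16 yf25 zf28) (kf xf16 yf25 zf23) (kf xf16 yf25 zf32) (kf xf20 yf52 zf18) (kf xf20 yf38 zf30) (kf xf20 yf36 zf13) (kf xf29 yf6 zf15)) (@D3.rec (fun _ => Pt) (kf xf28 yf24 zf38) (kf xf24 yf57 zf39) (kf xf18 yf41 zf33) (kf xf20 yf36 zf5) (kf xf26 yf58 zf10) (kf xf16 yf25 zf38) (kf xf23 yf25 zf50) (kf xf28 yf11 zf40) (kf xf19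 yf54 zf29) (kf xf16 yf33 zf29) (kf xf19 yf55 zf33) (kf xf16 yf25 zf42) (kf xf29 yf14 zf49) (kf xf27 yf57 zf27) (kf xf26 yf24 zf5) (kf xf26 yf28 zf52) (kf xf29 yf24 zf1) (kf xf30 yf46 zf8) (kf xf25 yf7 zf27) (kf xf20 yf14 zf18) (kf xf16 yf26 zf13) (kf xf32 yf4 zf14) (kf xf16 yf25 zf58) (kf xf16 yf26 zf23) (kf xf16 yf26 zf26) (kf xf25 yf58 zf28) (kf xf23 yf5 zf26) (kf xf20 yf49 zf48) (kf xf20 yf45 zf17) (kf xf27 yf58 zf32) (kf xf16 yf26 zf7) (kf xf30 yf58 zf12) (kf xf31 yf7 zf46) (kf xf16 yf26 zf11) (kf xf28 yf11 zf31) (kf xf16 yf26 zf12) (kf xf31 yf18 zf47) (kf xf22 yf42 zf44) (kf xf29 yf7 zf45) (kf xf31 yf28 zf48) (kf xf16 yf26 zf15) (kf xf17 yf0 zf58) (kf xf23 yf4 zf1) (kf xf25 yf56 zf1) (kf xf30 yf17 zf6) (kf xf16 yf26 zf38) (kf xf25 yf58 zf17) (kf xf17 yf1 zf18)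 (kf xf23 yf10 zf2) (kf xf23 yf10 zf3) (kf xf23 yf10 zf4) (kf xf22 yf52 zf17) (kf xf23 yf5 zf23) (kf xf20 yf49 zf49) (kf xf22 yf52 zf41) (kf xf22 yf2 zf16) (kf xf16 yf26 zf36) (kf xf24 yf54 zf13) (kf xf27 yf41 zf41) (kf xf27 yf41 zf42) (kf xf27 yf41 zf43) (kf xf20 yf36 zf27)) (@D3.rec (fun _ => Pt) (kf xf27 yf41 zf38) (kf xf27 yf41 zf44) (kf xf16 yf26 zf48) (kf xf27 yf41 zf40) (kf xf26 yf31 zf4) (kf xf26 yf23 zf14) (kf xf26 yf25 zf59) (kf xf25 yf11 zf36) (kf xf27 yf41 zf47) (kf xf23 yf18 zf4) (kf xf27 yf41 zf45) (kf xf26 yf25 zf58) (kf xf16 yf26 zf56) (kf xf25 yf50 zf3) (kf xf16 yf27 zf31) (kf xf22 yf55 zf59) (kf xf27 yf41 zf54) (kf xf27 yf41 zf55) (kf xf22 yf59 zf49) (kf xf16 yf27 zf5) (kf xf27 yf41 zf59) (kf xf27 yf41 zf60) (kf xf25 yf28 zf15) (kf xf26 yf21 zf40) (kf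 xf20 yf29 zf39) (kf xf24 yf13 zf19) (kf xf30 yf48 zf0) (kf xf21 yf11 zf53) (kf xf31 yf47 zf37) (kf xf20 yf37 zf6) (kf xf27 yf42 zf4) (kf xf25 yf48 zf37) (kf xf27 yf42 zf2) (kf xf26 yf17 zf43) (kf xf22 yf6 zf50) (kf xf29 yf28 zf0) (kf xf24 yf5 zf31) (kf xf31 yf54 zf50) (kf xf16 yf27 zf27) (kf xf16 yf27 zf26) (kf xf26 yf17 zf58) (kf xf26 yf17 zf59) (kf xf17 yf57 zf38) (kf xf17 yf57 zf37) (kf xf26 yf24 zf46) (kf xf16 yf27 zf30) (kf xf26 yf24 zf44) (kf xf25 yf28 zf30) (kf xf20 yf1 zf26) (kf xf28 yf26 zf39) (kf xf16 yf27 zf37) (kf xf18 yf18 zf41) (kf xf22 yf47 zf50) (kf xf27 yf40 zf34) (kf xf16 yf27 zf41) (kf xf20 yf29 zf47) (kf xf26 yf30 zf31) (kf xf20 yf29 zf42) (kf xf20 yf29 zf61) (kf xf23 yf20 zf44) (kf xf26 yf28 zf17) (kf xf21 yf13 zf15)) (@D3.rec (fun _ => Pt) (kf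 xf16 yf27 zf47) (kf xf25 yf2 zf36) (kf xf30 yf3 zf2) (kf xf16 yf27 zf50) (kf xf27 yf57 zf39) (kf xf26 yf27 zf25) (kf xf16 yf27 zf53) (kf xf28 yf14 zf6) (kf xf27 yf57 zf4) (kf xf26 yf30 zf21) (kf xf23 yf33 zf20) (kf xf23 yf20 zf18) (kf xf26 yf8 zf40) (kf xf19 yf56 zf24) (kf xf25 yf46 zf16) (kf xf25 yf46 zf14) (kf xf28 yf12 zf22) (kf xf28 yf12 zf21) (kf xf27 yf58 zf52) (kf xf24 yf47 zf35) (kf xf16 yf28 zf9) (kf xf30 yf54 zf25) (kf xf22 yf2 zf41) (kf xf26 yf28 zf47) (kf xf21 yf15 zf17) (kf xf30 yf54 zf27) (kf xf29 yf6 zf0) (kf xf16 yf28 zf30) (kf xf16 yf28 zf40) (kf xf20 yf14 zf6) (kf xf17 yf9 zf8) (kf xf23 yf32 zf24) (kf xf24 yf31 zf6) (kf xf21 yf21 zf31) (kf xf30 yf12 zf18) (kf xf23 yf7 zf59) (kf xf25 yf36 zf4) (kf xf16 yf31 zf36) (kf xf30 yf37 zf13) (kf xf22 yf54 zf0)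 (kf xf31 yf43 zf17) (kf xf31 yf48 zf61) (kf xf28 yf49 zf24) (kf xf28 yf58 zf4) (kf xf20 yf18 zf44) (kf xf28 yf14 zf29) (kf xf26 yf27 zf32) (kf xf28 yf50 zf44) (kf xf22 yf53 zf53) (kf xf28 yf1 zf20) (kf xf17 yf9 zf14) (kf xf26 yf56 zf9) (kf xf20 yf29 zf45) (kf xf28 yf50 zf48) (kf xf16 yf30 zf5) (kf xf28 yf34 zf56) (kf xf20 yf32 zf9) (kf xf27 yf5 zf30) (kf xf26 yf24 zf11) (kf xf26 yf24 zf6) (kf xf31 yf20 zf58) (kf xf22 yf17 zf5)) (@D3.rec (fun _ => Pt) (kf xf32 yf8 zf48) (kf xf31 yf6 zf46) (kf xf16 yf28 zf61) (kf xf26 yf56 zf25) (kf xf26 yf21 zf25) (kf xf29 yf50 zf24) (kf xf26 yf20 zf28) (kf xf16 yf33 zf43) (kf xf31 yf25 zf29) (kf xf16 yf29 zf2) (kf xf22 yf54 zf45) (kf xf18 yf52 zf53) (kf xf16 yf31 zf8) (kf xf16 yf31 zf4) (kf xf19 yf43 zf61) (kf xf16 yf31 zf11) (kf xf16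 yf31 zf10) (kf xf28 yf56 zf0) (kf xf16 yf29 zf14) (kf xf20 yf38 zf51) (kf xf17 yf7 zf15) (kf xf19 yf52 zf58) (kf xf30 yf5 zf30) (kf xf17 yf9 zf13) (kf xf17 yf9 zf10) (kf xf29 yf26 zf40) (kf xf29 yf50 zf0) (kf xf28 yf13 zf13) (kf xf19 yf1 zf24) (kf xf18 yf22 zf49) (kf xf27 yf3 zf36) (kf xf31 yf0 zf6) (kf xf21 yf28 zf47) (kf xf25 yf46 zf26) (kf xf25 yf46 zf27) (kf xf24 yf7 zf37) (kf xf26 yf27 zf1) (kf xf30 yf3 zf16) (kf xf23 yf14 zf48) (kf xf26 yf56 zf6) (kf xf29 yf52 zf53) (kf xf26 yf56 zf13) (kf xf28 yf35 zf26) (kf xf16 yf29 zf51) (kf xf23 yf45 zf29) (kf xf29 yf32 zf13) (kf xf19 yf46 zf33) (kf xf27 yf43 zf37) (kf xf29 yf46 zf59) (kf xf29 yf50 zf8) (kf xf27 yf21 zf61) (kf xf29 yf18 zf50) (kf xf28 yf34 zf59) (kf xf29 yf24 zf38) (kf xf18 yf44 zf27) (kf xf28 yf35 zf28)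 (kf xf20 yf29 zf29) (kf xf20 yf29 zf28) (kf xf16 yf30 zf8) (kf xf29 yf15 zf25) (kf xf26 yf58 zf18) (kf xf31 yf16 zf1)) (@D3.rec (fun _ => Pt) (kf xf24 yf38 zf44) (kf xf26 yf26 zf36) (kf xf16 yf30 zf39) (kf xf16 yf31 zf0) (kf xf26 yf48 zf50) (kf xf28 yf55 zf31) (kf xf25 yf56 zf18) (kf xf21 yf44 zf26) (kf xf20 yf52 zf20) (kf xf26 yf48 zf51) (kf xf21 yf51 zf28) (kf xf16 yf30 zf43) (kf xf16 yf52 zf45) (kf xf16 yf30 zf52) (kf xf20 yf4 zf33) (kf xf23 yf7 zf28) (kf xf29 yf7 zf9) (kf xf26 yf48 zf52) (kf xf25 yf46 zf35) (kf xf20 yf34 zf36) (kf xf26 yf32 zf46) (kf xf26 yf32 zf48) (kf xf27 yf50 zf12) (kf xf16 yf31 zf12) (kf xf22 yf17 zf1) (kf xf26 yf25 zf5) (kf xf31 yf23 zf35) (kf xf28 yf27 zf18) (kf xf20 yf34 zf44) (kf xf18 yf41 zf9) (kf xf32 yf8 zf53) (kf xf31 yf6 zf47) (kf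 xf26 yf25 zf46) (kf xf29 yf32 zf16) (kf xf28 yf35 zf42) (kf xf23 yf0 zf47) (kf xf19 yf7 zf27) (kf xf32 yf9 zf0) (kf xf23 yf2 zf26) (kf xf22 yf16 zf39) (kf xf29 yf32 zf24) (kf xf29 yf32 zf14) (kf xf27 yf24 zf16) (kf xf31 yf59 zf25) (kf xf28 yf32 zf30) (kf xf16 yf31 zf15) (kf xf24 yf57 zf13) (kf xf28 yf22 zf17) (kf xf29 yf32 zf6) (kf xf29 yf32 zf7) (kf xf27 yf9 zf46) (kf xf27 yf9 zf48) (kf xf16 yf31 zf18) (kf xf24 yf8 zf61) (kf xf29 yf32 zf5) (kf xf29 yf53 zf6) (kf xf32 yf7 zf38) (kf xf16 yf31 zf20) (kf xf31 yf23 zf45) (kf xf29 yf26 zf42) (kf xf28 yf55 zf37) (kf xf32 yf7 zf39)) (@D3.rec (fun _ => Pt) (kf xf22 yf25 zf25) (kf xf27 yf36 zf31) (kf xf16 yf31 zf29) (kf xf27 yf36 zf28) (kf xf16 yf31 zf38) (kf xf16 yf31 zf35) (kf xf21 yf54 zf3) (kf xf21 yf54 zf0) (kf xf21 yf53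 zf58) (kf xf28 yf43 zf20) (kf xf21 yf32 zf33) (kf xf27 yf5 zf18) (kf xf32 yf8 zf10) (kf xf19 yf7 zf39) (kf xf31 yf32 zf61) (kf xf21 yf38 zf8) (kf xf23 yf16 zf45) (kf xf26 yf24 zf60) (kf xf20 yf26 zf24) (kf xf23 yf42 zf12) (kf xf16 yf31 zf45) (kf xf20 yf31 zf50) (kf xf20 yf32 zf3) (kf xf27 yf5 zf22) (kf xf16 yf31 zf54) (kf xf16 yf31 zf55) (kf xf16 yf32 zf4) (kf xf26 yf49 zf54) (kf xf16 yf32 zf1) (kf xf16 yf32 zf5) (kf xf28 yf49 zf49) (kf xf25 yf6 zf17) (kf xf32 yf9 zf21) (kf xf26 yf30 zf18) (kf xf28 yf35 zf30) (kf xf31 yf22 zf22) (kf xf30 yf37 zf33) (kf xf28 yf34 zf4) (kf xf22 yf55 zf8) (kf xf28 yf23 zf3) (kf xf20 yf22 zf31) (kf xf29 yf14 zf55) (kf xf28 yf50 zf7) (kf xf28 yf50 zf8) (kf xf28 yf50 zf0) (kf xf17 yf1 zf12) (kf xf18 yf0 zf34) (kf xf26 yf25 zf23) (kf xf26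 yf30 zf28) (kf xf30 yf45 zf61) (kf xf26 yf30 zf19) (kf xf26 yf29 zf42) (kf xf26 yf23 zf15) (kf xf32 yf9 zf27) (kf xf26 yf30 zf25) (kf xf26 yf30 zf24) (kf xf16 yf32 zf15) (kf xf20 yf31 zf21) (kf xf29 yf55 zf35) (kf xf26 yf30 zf14) (kf xf28 yf15 zf8) (kf xf26 yf30 zf17)) (@D3.rec (fun _ => Pt) (kf xf30 yf54 zf37) (kf xf17 yf15 zf10) (kf xf26 yf29 zf35) (kf xf16 yf32 zf22) (kf xf26 yf30 zf22) (kf xf32 yf8 zf33) (kf xf16 yf32 zf24) (kf xf26 yf30 zf32) (kf xf20 yf31 zf27) (kf xf23 yf8 zf7) (kf xf21 yf10 zf46) (kf xf26 yf31 zf12) (kf xf16 yf32 zf30) (kf xf26 yf30 zf38) (kf xf26 yf30 zf35) (kf xf32 yf9 zf37) (kf xf32 yf9 zf35) (kf xf32 yf9 zf34) (kf xf28 yf21 zf31) (kf xf16 yf32 zf33) (kf xf16 yf34 zf25) (kf xf28 yf27 zf3) (kf xf16 yf32 zf49) (kf xf16 yf32 zf40) (kf xf20 yf41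 zf5) (kf xf20 yf41 zf7) (kf xf18 yf45 zf33) (kf xf21 yf53 zf1) (kf xf22 yf51 zf16) (kf xf28 yf27 zf32) (kf xf22 yf51 zf5) (kf xf27 yf39 zf23) (kf xf28 yf26 zf61) (kf xf16 yf32 zf48) (kf xf22 yf39 zf0) (kf xf26 yf29 zf2) (kf xf26 yf22 zf13) (kf xf29 yf19 zf17) (kf xf24 yf9 zf39) (kf xf29 yf53 zf48) (kf xf30 yf44 zf45) (kf xf23 yf12 zf8) (kf xf26 yf28 zf51) (kf xf29 yf53 zf49) (kf xf32 yf9 zf43) (kf xf26 yf31 zf58) (kf xf16 yf32 zf58) (kf xf23 yf51 zf9) (kf xf23 yf7 zf8) (kf xf27 yf40 zf18) (kf xf31 yf39 zf11) (kf xf25 yf3 zf54) (kf xf30 yf24 zf59) (kf xf30 yf24 zf60) (kf xf24 yf57 zf1) (kf xf27 yf47 zf35) (kf xf30 yf45 zf45) (kf xf23 yf17 zf37) (kf xf23 yf6 zf58) (kf xf22 yf50 zf18) (kf xf23 yf17 zf40) (kf xf23 yf16 zf48)) (@D3.rec (fun _ => Pt) (kf xf24 yf47 zf10) (kf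 xf32 yf9 zf50) (kf xf16 yf33 zf19) (kf xf27 yf14 zf7) (kf xf29 yf31 zf42) (kf xf26 yf58 zf17) (kf xf27 yf52 zf0) (kf xf32 yf9 zf52) (kf xf16 yf33 zf24) (kf xf29 yf39 zf37) (kf xf28 yf12 zf2) (kf xf29 yf14 zf32) (kf xf29 yf14 zf35) (kf xf16 yf33 zf51) (kf xf26 yf28 zf59) (kf xf29 yf48 zf4) (kf xf20 yf8 zf36) (kf xf26 yf28 zf61) (kf xf26 yf28 zf33) (kf xf26 yf28 zf50) (kf xf23 yf9 zf16) (kf xf26 yf25 zf9) (kf xf26 yf29 zf4) (kf xf26 yf21 zf0) (kf xf26 yf28 zf55) (kf xf26 yf28 zf54) (kf xf16 yf33 zf38) (kf xf23 yf9 zf27) (kf xf26 yf28 zf48) (kf xf20 yf3 zf1) (kf xf32 yf8 zf51) (kf xf26 yf24 zf56) (kf xf26 yf29 zf7) (kf xf26 yf20 zf60) (kf xf30 yf53 zf21) (kf xf26 yf29 zf14) (kf xf26 yf21 zf10) (kf xf22 yf55 zf34) (kf xf26 yf29 zf13) (kf xf25 yf3 zf53) (kf xf22 yf55 zf44)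 (kf xf24 yf48 zf17) (kf xf28 yf31 zf51) (kf xf26 yf21 zf6) (kf xf26 yf21 zf4) (kf xf26 yf21 zf5) (kf xf32 yf6 zf52) (kf xf27 yf44 zf22) (kf xf21 yf14 zf44) (kf xf21 yf15 zf0) (kf xf30 yf31 zf15) (kf xf21 yf14 zf60) (kf xf32 yf7 zf56) (kf xf26 yf31 zf56) (kf xf26 yf18 zf47) (kf xf16 yf33 zf57) (kf xf26 yf56 zf36) (kf xf28 yf4 zf58) (kf xf23 yf21 zf0) (kf xf23 yf7 zf61) (kf xf23 yf8 zf0) (kf xf23 yf7 zf58)) (@D3.rec (fun _ => Pt) (kf xf16 yf34 zf0) (kf xf29 yf52 zf48) (kf xf23 yf8 zf43) (kf xf26 yf32 zf4) (kf xf26 yf24 zf4) (kf xf16 yf34 zf2) (kf xf27 yf44 zf24) (kf xf23 yf9 zf15) (kf xf26 yf16 zf19) (kf xf29 yf29 zf36) (kf xf29 yf29 zf35) (kf xf16 yf34 zf6) (kf xf26 yf29 zf11) (kf xf29 yf52 zf60) (kf xf29 yf52 zf59) (kf xf32 yf7 zf26) (kf xf16 yf34 zf8) (kf xf25 yf16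 zf13) (kf xf27 yf47 zf47) (kf xf25 yf18 zf21) (kf xf24 yf48 zf15) (kf xf27 yf58 zf15) (kf xf31 yf44 zf48) (kf xf27 yf53 zf1) (kf xf29 yf52 zf57) (kf xf31 yf46 zf24) (kf xf29 yf53 zf4) (kf xf29 yf53 zf3) (kf xf29 yf24 zf61) (kf xf16 yf34 zf13) (kf xf29 yf53 zf7) (kf xf22 yf51 zf51) (kf xf29 yf27 zf12) (kf xf27 yf49 zf15) (kf xf29 yf53 zf5) (kf xf24 yf12 zf57) (kf xf24 yf12 zf50) (kf xf23 yf56 zf39) (kf xf29 yf21 zf0) (kf xf16 yf34 zf20) (kf xf32 yf8 zf2) (kf xf32 yf8 zf3) (kf xf30 yf53 zf5) (kf xf28 yf36 zf36) (kf xf29 yf20 zf47) (kf xf21 yf10 zf56) (kf xf21 yf10 zf54) (kf xf21 yf10 zf55) (kf xf21 yf10 zf26) (kf xf32 yf9 zf40) (kf xf26 yf21 zf30) (kf xf26 yf21 zf29) (kf xf30 yf43 zf39) (kf xf26 yf32 zf41) (kf xf16 yf34 zf29) (kf xf29 yf0 zf42) (kf xf26 yf30 zf53) (kf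 xf24 yf59 zf37) (kf xf26 yf29 zf45) (kf xf26 yf19 zf26) (kf xf26 yf18 zf54) (kf xf20 yf36 zf36)) (@D3.rec (fun _ => Pt) (kf xf16 yf34 zf35) (kf xf22 yf20 zf16) (kf xf25 yf31 zf44) (kf xf16 yf34 zf37) (kf xf26 yf31 zf3) (kf xf18 yf45 zf54) (kf xf18 yf45 zf55) (kf xf18 yf45 zf56) (kf xf19 yf6 zf17) (kf xf19 yf6 zf18) (kf xf18 yf49 zf42) (kf xf25 yf24 zf1) (kf xf27 yf54 zf44) (kf xf27 yf40 zf1) (kf xf19 yf6 zf43) (kf xf19 yf6 zf42) (kf xf21 yf15 zf28) (kf xf16 yf52 zf53) (kf xf24 yf52 zf55) (kf xf27 yf39 zf22) (kf xf26 yf57 zf46) (kf xf18 yf20 zf1) (kf xf18 yf58 zf50) (kf xf18 yf54 zf58) (kf xf18 yf58 zf61) (kf xf17 yf55 zf12) (kf xf18 yf49 zf38) (kf xf18 yf49 zf28) (kf xf18 yf49 zf22) (kf xf18 yf49 zf23) (kf xf18 yf54 zf39) (kf xf26 yf32 zf54) (kf xf16 yf35 zf16) (kf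 xf16 yf35 zf23) (kf xf22 yf51 zf14) (kf xf27 yf33 zf13) (kf xf31 yf32 zf38) (kf xf29 yf20 zf12) (kf xf16 yf35 zf21) (kf xf26 yf20 zf1) (kf xf22 yf51 zf15) (kf xf26 yf31 zf53) (kf xf31 yf1 zf17) (kf xf26 yf19 zf59) (kf xf16 yf35 zf25) (kf xf23 yf14 zf51) (kf xf26 yf27 zf20) (kf xf20 yf36 zf18) (kf xf26 yf27 zf21) (kf xf23 yf14 zf43) (kf xf16 yf53 zf3) (kf xf20 yf52 zf4) (kf xf30 yf33 zf29) (kf xf20 yf31 zf22) (kf xf26 yf32 zf31) (kf xf23 yf29 zf45) (kf xf19 yf49 zf37) (kf xf16 yf35 zf51) (kf xf31 yf1 zf14) (kf xf18 yf29 zf32) (kf xf30 yf4 zf21) (kf xf21 yf54 zf41)) (@D3.rec (fun _ => Pt) (kf xf18 yf29 zf18) (kf xf30 yf25 zf2) (kf xf30 yf31 zf57) (kf xf21 yf12 zf16) (kf xf20 yf25 zf26) (kf xf20 yf45 zf52) (kf xf17 yf12 zf50) (kf xf25 yf57 zf28) (kf xf16 yf37 zf50) (kf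 xf16 yf37 zf53) (kf xf29 yf45 zf23) (kf xf21 yf20 zf59) (kf xf16 yf39 zf1) (kf xf16 yf39 zf4) (kf xf16 yf39 zf3) (kf xf16 yf36 zf18) (kf xf16 yf39 zf9) (kf xf16 yf39 zf31) (kf xf19 yf14 zf19) (kf xf31 yf31 zf47) (kf xf28 yf40 zf46) (kf xf22 yf25 zf37) (kf xf16 yf36 zf25) (kf xf16 yf40 zf15) (kf xf29 yf32 zf58) (kf xf16 yf40 zf18) (kf xf16 yf40 zf48) (kf xf26 yf39 zf54) (kf xf16 yf40 zf49) (kf xf16 yf40 zf51) (kf xf16 yf40 zf41) (kf xf16 yf40 zf58) (kf xf16 yf40 zf31) (kf xf16 yf40 zf33) (kf xf22 yf4 zf0) (kf xf16 yf40 zf59) (kf xf29 yf46 zf29) (kf xf31 yf20 zf20) (kf xf32 yf10 zf45) (kf xf16 yf36 zf40) (kf xf16 yf40 zf60) (kf xf16 yf40 zf61) (kf xf16 yf41 zf0) (kf xf16 yf36 zf42) (kf xf21 yf16 zf55) (kf xf16 yf36 zf53) (kf xf29 yf3 zf56) (kf xf29 yf3 zf53) (kf xf25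 yf12 zf35) (kf xf18 yf46 zf24) (kf xf24 yf15 zf1) (kf xf18 yf46 zf30) (kf xf16 yf36 zf48) (kf xf16 yf36 zf49) (kf xf29 yf3 zf54) (kf xf31 yf31 zf40) (kf xf25 yf12 zf36) (kf xf31 yf19 zf49) (kf xf27 yf2 zf39) (kf xf32 yf4 zf5) (kf xf31 yf47 zf30) (kf xf27 yf19 zf23)) (@D3.rec (fun _ => Pt) (kf xf32 yf3 zf60) (kf xf32 yf4 zf8) (kf xf25 yf10 zf26) (kf xf16 yf42 zf5) (kf xf16 yf42 zf6) (kf xf28 yf54 zf37) (kf xf16 yf42 zf2) (kf xf16 yf42 zf1) (kf xf32 yf10 zf55) (kf xf16 yf37 zf0) (kf xf26 yf34 zf38) (kf xf16 yf37 zf2) (kf xf16 yf42 zf23) (kf xf16 yf42 zf19) (kf xf26 yf41 zf21) (kf xf25 yf29 zf5) (kf xf26 yf40 zf3) (kf xf32 yf10 zf60) (kf xf29 yf13 zf7) (kf xf25 yf22 zf15) (kf xf29 yf14 zf18) (kf xf29 yf14 zf16) (kf xf29 yf14 zf17) (kf xf29 yf14 zf19) (kf xf29 yf14 zf20)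 (kf xf19 yf12 zf44) (kf xf29 yf1 zf19) (kf xf19 yf11 zf56) (kf xf20 yf35 zf38) (kf xf16 yf45 zf48) (kf xf30 yf16 zf15) (kf xf30 yf9 zf37) (kf xf32 yf11 zf7) (kf xf32 yf11 zf6) (kf xf16 yf37 zf17) (kf xf19 yf31 zf53) (kf xf19 yf31 zf52) (kf xf30 yf9 zf38) (kf xf26 yf34 zf10) (kf xf19 yf31 zf56) (kf xf19 yf31 zf61) (kf xf16 yf37 zf21) (kf xf19 yf32 zf7) (kf xf19 yf32 zf4) (kf xf19 yf31 zf41) (kf xf29 yf45 zf35) (kf xf19 yf31 zf46) (kf xf24 yf33 zf25) (kf xf20 yf38 zf41) (kf xf22 yf3 zf56) (kf xf29 yf45 zf36) (kf xf20 yf57 zf43) (kf xf29 yf43 zf18) (kf xf25 yf20 zf16) (kf xf19 yf11 zf23) (kf xf24 yf32 zf2) (kf xf31 yf34 zf60) (kf xf26 yf38 zf13) (kf xf32 yf11 zf22) (kf xf26 yf37 zf60) (kf xf28 yf40 zf23) (kf xf28 yf54 zf54)) (@D3.rec (fun _ => Pt) (kf xf26 yf41 zf27) (kf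 xf32 yf11 zf27) (kf xf16 yf37 zf38) (kf xf26 yf38 zf4) (kf xf31 yf19 zf37) (kf xf16 yf37 zf39) (kf xf16 yf37 zf40) (kf xf27 yf10 zf51) (kf xf27 yf36 zf29) (kf xf29 yf8 zf17) (kf xf29 yf44 zf55) (kf xf24 yf26 zf48) (kf xf19 yf17 zf51) (kf xf29 yf43 zf19) (kf xf29 yf45 zf29) (kf xf29 yf33 zf41) (kf xf19 yf32 zf10) (kf xf26 yf37 zf58) (kf xf28 yf55 zf4) (kf xf27 yf36 zf33) (kf xf31 yf50 zf61) (kf xf31 yf51 zf3) (kf xf17 yf7 zf7) (kf xf32 yf10 zf31) (kf xf29 yf46 zf6) (kf xf16 yf37 zf52) (kf xf19 yf11 zf20) (kf xf25 yf10 zf14) (kf xf29 yf45 zf20) (kf xf26 yf50 zf60) (kf xf19 yf43 zf46) (kf xf29 yf45 zf22) (kf xf16 yf38 zf1) (kf xf16 yf38 zf0) (kf xf32 yf11 zf48) (kf xf16 yf37 zf58) (kf xf27 yf37 zf42) (kf xf20 yf56 zf20) (kf xf27 yf43 zf48) (kf xf28 yf54 zf57) (kf xf26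 yf36 zf54) (kf xf28 yf54 zf58) (kf xf20 yf39 zf6) (kf xf29 yf15 zf6) (kf xf28 yf40 zf26) (kf xf32 yf11 zf45) (kf xf29 yf15 zf5) (kf xf28 yf40 zf27) (kf xf29 yf45 zf1) (kf xf32 yf11 zf47) (kf xf32 yf11 zf46) (kf xf28 yf35 zf7) (kf xf16 yf38 zf2) (kf xf27 yf14 zf19) (kf xf27 yf44 zf48) (kf xf16 yf38 zf7) (kf xf25 yf31 zf9) (kf xf31 yf47 zf0) (kf xf31 yf46 zf60) (kf xf17 yf49 zf25) (kf xf31 yf46 zf61) (kf xf32 yf12 zf8)) (@D3.rec (fun _ => Pt) (kf xf31 yf47 zf3) (kf xf31 yf47 zf2) (kf xf32 yf12 zf13) (kf xf16 yf38 zf10) (kf xf29 yf12 zf26) (kf xf28 yf40 zf29) (kf xf28 yf39 zf38) (kf xf20 yf39 zf17) (kf xf20 yf39 zf16) (kf xf28 yf40 zf30) (kf xf26 yf37 zf9) (kf xf28 yf39 zf30) (kf xf32 yf12 zf14) (kf xf26 yf41 zf26) (kf xf29 yf46 zf11) (kf xf29 yf46 zf12) (kf xf32 yf12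 zf9) (kf xf29 yf33 zf17) (kf xf29 yf46 zf9) (kf xf32 yf12 zf27) (kf xf29 yf46 zf20) (kf xf29 yf46 zf16) (kf xf32 yf12 zf31) (kf xf19 yf8 zf42) (kf xf16 yf38 zf19) (kf xf29 yf42 zf53) (kf xf17 yf48 zf52) (kf xf20 yf35 zf39) (kf xf28 yf40 zf10) (kf xf19 yf34 zf41) (kf xf19 yf34 zf43) (kf xf24 yf32 zf4) (kf xf19 yf31 zf58) (kf xf26 yf40 zf28) (kf xf19 yf8 zf46) (kf xf19 yf8 zf47) (kf xf19 yf4 zf35) (kf xf19 yf8 zf41) (kf xf19 yf4 zf34) (kf xf19 yf17 zf50) (kf xf21 yf11 zf36) (kf xf24 yf34 zf44) (kf xf28 yf39 zf1) (kf xf16 yf38 zf29) (kf xf28 yf39 zf27) (kf xf31 yf25 zf27) (kf xf19 yf7 zf51) (kf xf19 yf4 zf25) (kf xf19 yf7 zf55) (kf xf31 yf17 zf47) (kf xf26 yf38 zf12) (kf xf29 yf45 zf12) (kf xf29 yf45 zf13) (kf xf29 yf45 zf14) (kf xf26 yf35 zf40) (kf xf26 yf38 zf41) (kf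 xf25 yf32 zf16) (kf xf31 yf46 zf55) (kf xf31 yf31 zf0) (kf xf16 yf38 zf45) (kf xf27 yf17 zf29) (kf xf28 yf56 zf45)) (@D3.rec (fun _ => Pt) (kf xf16 yf38 zf53) (kf xf32 yf12 zf53) (kf xf16 yf38 zf47) (kf xf16 yf48 zf7) (kf xf24 yf58 zf12) (kf xf20 yf56 zf1) (kf xf31 yf46 zf57) (kf xf31 yf24 zf26) (kf xf31 yf41 zf21) (kf xf26 yf36 zf10) (kf xf32 yf12 zf51) (kf xf29 yf4 zf3) (kf xf16 yf38 zf51) (kf xf29 yf45 zf8) (kf xf25 yf36 zf58) (kf xf26 yf5 zf3) (kf xf28 yf30 zf58) (kf xf32 yf12 zf52) (kf xf29 yf45 zf49) (kf xf31 yf20 zf25) (kf xf16 yf38 zf54) (kf xf21 yf58 zf6) (kf xf26 yf59 zf32) (kf xf31 yf59 zf11) (kf xf26 yf10 zf35) (kf xf29 yf44 zf54) (kf xf29 yf10 zf34) (kf xf26 yf46 zf9) (kf xf22 yf4 zf14) (kf xf32 yf3 zf37) (kf xf31 yf26 zf2) (kf xf28 yf49 zf13) (kf xf20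 yf4 zf58) (kf xf16 yf39 zf5) (kf xf27 yf0 zf20) (kf xf19 yf31 zf40) (kf xf29 yf1 zf18) (kf xf19 yf41 zf22) (kf xf24 yf51 zf28) (kf xf25 yf19 zf42) (kf xf24 yf52 zf6) (kf xf32 yf12 zf58) (kf xf31 yf52 zf32) (kf xf16 yf39 zf14) (kf xf27 yf36 zf60) (kf xf28 yf9 zf6) (kf xf16 yf39 zf34) (kf xf26 yf37 zf49) (kf xf26 yf37 zf50) (kf xf26 yf37 zf47) (kf xf26 yf37 zf48) (kf xf16 yf40 zf9) (kf xf26 yf46 zf8) (kf xf27 yf37 zf41) (kf xf24 yf50 zf38) (kf xf25 yf20 zf54) (kf xf28 yf40 zf39) (kf xf16 yf39 zf38) (kf xf26 yf35 zf17) (kf xf26 yf52 zf25) (kf xf26 yf34 zf59) (kf xf19 yf14 zf1)) (@D3.rec (fun _ => Pt) (kf xf29 yf11 zf16) (kf xf32 yf13 zf9) (kf xf27 yf0 zf31) (kf xf32 yf13 zf12) (kf xf26 yf35 zf3) (kf xf22 yf3 zf18) (kf xf32 yf13 zf14) (kf xf16 yf39 zf42) (kf xf22 yf4 zf15)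 (kf xf31 yf26 zf5) (kf xf16 yf39 zf44) (kf xf16 yf48 zf8) (kf xf26 yf36 zf50) (kf xf26 yf34 zf57) (kf xf32 yf13 zf17) (kf xf32 yf13 zf20) (kf xf22 yf4 zf20) (kf xf27 yf58 zf31) (kf xf16 yf39 zf53) (kf xf31 yf31 zf37) (kf xf28 yf54 zf8) (kf xf32 yf13 zf22) (kf xf16 yf41 zf12) (kf xf16 yf41 zf25) (kf xf19 yf44 zf1) (kf xf21 yf2 zf61) (kf xf19 yf44 zf3) (kf xf28 yf54 zf36) (kf xf16 yf42 zf30) (kf xf19 yf44 zf5) (kf xf27 yf33 zf40) (kf xf27 yf33 zf41) (kf xf28 yf0 zf19) (kf xf32 yf9 zf4) (kf xf27 yf19 zf15) (kf xf21 yf16 zf48) (kf xf29 yf5 zf36) (kf xf16 yf40 zf11) (kf xf16 yf40 zf10) (kf xf30 yf16 zf14) (kf xf16 yf40 zf6) (kf xf26 yf36 zf55) (kf xf31 yf41 zf25) (kf xf28 yf56 zf39) (kf xf29 yf33 zf1) (kf xf31 yf24 zf57) (kf xf31 yf31 zf36) (kf xf32 yf13 zf29) (kf xf32 yf3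 zf36) (kf xf32 yf13 zf28) (kf xf29 yf33 zf29) (kf xf28 yf44 zf31) (kf xf28 yf44 zf34) (kf xf16 yf40 zf12) (kf xf17 yf6 zf13) (kf xf29 yf49 zf0) (kf xf16 yf55 zf32) (kf xf32 yf10 zf32) (kf xf31 yf30 zf57) (kf xf29 yf42 zf30) (kf xf16 yf55 zf43) (kf xf16 yf40 zf16)) (@D3.rec (fun _ => Pt) (kf xf29 yf45 zf5) (kf xf28 yf39 zf16) (kf xf29 yf26 zf33) (kf xf32 yf13 zf47) (kf xf27 yf21 zf10) (kf xf19 yf13 zf32) (kf xf31 yf31 zf38) (kf xf16 yf41 zf27) (kf xf19 yf47 zf22) (kf xf29 yf28 zf48) (kf xf16 yf42 zf32) (kf xf32 yf13 zf49) (kf xf16 yf41 zf29) (kf xf18 yf22 zf14) (kf xf25 yf47 zf48) (kf xf19 yf1 zf0) (kf xf29 yf46 zf22) (kf xf29 yf46 zf23) (kf xf25 yf25 zf16) (kf xf19 yf1 zf6) (kf xf25 yf47 zf28) (kf xf19 yf43 zf3) (kf xf25 yf52 zf43) (kf xf25 yf47 zf22) (kf xf25 yf58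 zf3) (kf xf19 yf43 zf48) (kf xf24 yf14 zf36) (kf xf32 yf10 zf36) (kf xf30 yf48 zf41) (kf xf27 yf1 zf10) (kf xf27 yf1 zf11) (kf xf32 yf0 zf46) (kf xf20 yf58 zf8) (kf xf16 yf41 zf14) (kf xf31 yf19 zf10) (kf xf18 yf35 zf1) (kf xf32 yf10 zf35) (kf xf26 yf40 zf43) (kf xf16 yf41 zf4) (kf xf17 yf49 zf32) (kf xf17 yf50 zf44) (kf xf17 yf49 zf33) (kf xf29 yf46 zf41) (kf xf17 yf50 zf49) (kf xf25 yf47 zf29) (kf xf32 yf10 zf38) (kf xf31 yf43 zf53) (kf xf31 yf30 zf43) (kf xf29 yf47 zf31) (kf xf31 yf30 zf44) (kf xf29 yf44 zf13) (kf xf32 yf10 zf46) (kf xf29 yf25 zf57) (kf xf20 yf57 zf41) (kf xf26 yf33 zf27) (kf xf32 yf13 zf23) (kf xf32 yf3 zf61) (kf xf16 yf41 zf16) (kf xf16 yf41 zf35) (kf xf29 yf6 zf30) (kf xf25 yf53 zf10) (kf xf27 yf14 zf6)) (@D3.rec (fun _ => Pt) (kf xf16 yf41 zf21)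 (kf xf24 yf37 zf6) (kf xf29 yf26 zf25) (kf xf26 yf34 zf16) (kf xf24 yf52 zf38) (kf xf32 yf13 zf58) (kf xf24 yf52 zf39) (kf xf30 yf19 zf27) (kf xf32 yf13 zf61) (kf xf32 yf10 zf39) (kf xf29 yf26 zf26) (kf xf16 yf41 zf31) (kf xf26 yf46 zf20) (kf xf29 yf32 zf55) (kf xf28 yf39 zf11) (kf xf28 yf54 zf22) (kf xf16 yf41 zf48) (kf xf26 yf8 zf1) (kf xf24 yf37 zf32) (kf xf16 yf41 zf54) (kf xf16 yf41 zf42) (kf xf32 yf14 zf7) (kf xf32 yf14 zf5) (kf xf32 yf10 zf49) (kf xf32 yf14 zf12) (kf xf16 yf41 zf44) (kf xf29 yf15 zf0) (kf xf29 yf12 zf28) (kf xf26 yf36 zf33) (kf xf27 yf19 zf22) (kf xf25 yf58 zf23) (kf xf19 yf32 zf11) (kf xf31 yf29 zf0) (kf xf19 yf32 zf12) (kf xf24 yf35 zf15) (kf xf30 yf7 zf4) (kf xf25 yf41 zf36) (kf xf29 yf39 zf5) (kf xf27 yf10 zf57) (kf xf16 yf41 zf57) (kf xf21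 yf57 zf60) (kf xf27 yf0 zf17) (kf xf28 yf27 zf59) (kf xf26 yf39 zf37) (kf xf32 yf10 zf51) (kf xf32 yf10 zf50) (kf xf27 yf35 zf55) (kf xf32 yf10 zf53) (kf xf32 yf10 zf52) (kf xf31 yf31 zf12) (kf xf16 yf42 zf3) (kf xf28 yf47 zf36) (kf xf28 yf54 zf38) (kf xf28 yf15 zf43) (kf xf28 yf21 zf53) (kf xf22 yf15 zf16) (kf xf28 yf42 zf4) (kf xf24 yf4 zf16) (kf xf32 yf14 zf22) (kf xf16 yf42 zf7) (kf xf26 yf59 zf44) (kf xf20 yf53 zf56)) (@D3.rec (fun _ => Pt) (kf xf31 yf18 zf22) (kf xf18 yf0 zf42) (kf xf27 yf56 zf47) (kf xf27 yf53 zf23) (kf xf29 yf46 zf49) (kf xf32 yf10 zf56) (kf xf32 yf14 zf27) (kf xf27 yf35 zf57) (kf xf31 yf26 zf3) (kf xf29 yf2 zf37) (kf xf28 yf0 zf23) (kf xf17 yf6 zf3) (kf xf24 yf33 zf32) (kf xf29 yf47 zf35) (kf xf32 yf13 zf26) (kf xf25 yf41 zf31) (kf xf20 yf39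 zf27) (kf xf32 yf14 zf32) (kf xf24 yf21 zf3) (kf xf29 yf47 zf37) (kf xf27 yf38 zf22) (kf xf26 yf34 zf14) (kf xf19 yf59 zf29) (kf xf29 yf47 zf38) (kf xf28 yf18 zf47) (kf xf28 yf44 zf26) (kf xf26 yf36 zf13) (kf xf26 yf35 zf0) (kf xf20 yf39 zf13) (kf xf28 yf54 zf50) (kf xf27 yf19 zf10) (kf xf19 yf36 zf17) (kf xf22 yf3 zf3) (kf xf32 yf0 zf14) (kf xf32 yf14 zf36) (kf xf16 yf42 zf49) (kf xf19 yf36 zf40) (kf xf28 yf53 zf49) (kf xf19 yf36 zf37) (kf xf19 yf36 zf41) (kf xf19 yf36 zf27) (kf xf19 yf36 zf28) (kf xf27 yf42 zf37) (kf xf19 yf36 zf31) (kf xf20 yf51 zf8) (kf xf19 yf36 zf33) (kf xf25 yf31 zf39) (kf xf19 yf36 zf24) (kf xf19 yf36 zf44) (kf xf19 yf36 zf46) (kf xf19 yf36 zf47) (kf xf31 yf45 zf25) (kf xf19 yf36 zf54) (kf xf19 yf36 zf56) (kf xf31 yf53 zf45) (kf xf24 yf24 zf7)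 (kf xf29 yf47 zf44) (kf xf19 yf37 zf2) (kf xf19 yf37 zf3) (kf xf32 yf14 zf38) (kf xf19 yf37 zf17) (kf xf16 yf43 zf8)) (@D3.rec (fun _ => Pt) (kf xf19 yf37 zf13) (kf xf30 yf19 zf30) (kf xf30 yf6 zf18) (kf xf19 yf37 zf25) (kf xf19 yf37 zf29) (kf xf17 yf26 zf9) (kf xf19 yf36 zf45) (kf xf29 yf9 zf28) (kf xf23 yf34 zf39) (kf xf29 yf9 zf33) (kf xf31 yf17 zf24) (kf xf17 yf25 zf14) (kf xf28 yf17 zf47) (kf xf27 yf42 zf36) (kf xf29 yf34 zf52) (kf xf19 yf36 zf39) (kf xf28 yf56 zf44) (kf xf26 yf58 zf0) (kf xf20 yf38 zf36) (kf xf22 yf3 zf53) (kf xf19 yf33 zf14) (kf xf29 yf12 zf1) (kf xf16 yf43 zf37) (kf xf19 yf39 zf9) (kf xf19 yf39 zf10) (kf xf19 yf39 zf14) (kf xf32 yf0 zf15) (kf xf25 yf43 zf16) (kf xf19 yf39 zf36) (kf xf19 yf39 zf35) (kf xf29 yf23 zf35) (kf xf16 yf43 zf42) (kf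 xf19 yf39 zf44) (kf xf23 yf58 zf34) (kf xf30 yf19 zf29) (kf xf20 yf19 zf53) (kf xf19 yf40 zf2) (kf xf17 yf48 zf59) (kf xf17 yf48 zf60) (kf xf19 yf13 zf54) (kf xf18 yf44 zf21) (kf xf32 yf14 zf42) (kf xf19 yf42 zf21) (kf xf25 yf52 zf59) (kf xf27 yf14 zf8) (kf xf25 yf53 zf11) (kf xf25 yf53 zf12) (kf xf25 yf53 zf13) (kf xf27 yf14 zf18) (kf xf25 yf53 zf19) (kf xf19 yf28 zf51) (kf xf29 yf48 zf26) (kf xf19 yf28 zf53) (kf xf32 yf14 zf49) (kf xf29 yf48 zf25) (kf xf29 yf48 zf2) (kf xf29 yf48 zf27) (kf xf19 yf29 zf36) (kf xf19 yf29 zf35) (kf xf32 yf14 zf55) (kf xf16 yf44 zf12) (kf xf18 yf46 zf3)) (@D3.rec (fun _ => Pt) (kf xf18 yf46 zf4) (kf xf19 yf29 zf41) (kf xf29 yf48 zf28) (kf xf19 yf29 zf47) (kf xf19 yf29 zf48) (kf xf19 yf29 zf49) (kf xf29 yf48 zf13) (kf xf29 yf48 zf12) (kf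 xf29 yf48 zf6) (kf xf29 yf48 zf14) (kf xf19 yf30 zf24) (kf xf29 yf48 zf15) (kf xf19 yf30 zf7) (kf xf32 yf15 zf8) (kf xf28 yf47 zf3) (kf xf28 yf42 zf31) (kf xf28 yf48 zf59) (kf xf16 yf44 zf23) (kf xf28 yf48 zf60) (kf xf22 yf23 zf52) (kf xf20 yf20 zf30) (kf xf22 yf25 zf57) (kf xf19 yf30 zf35) (kf xf19 yf30 zf36) (kf xf32 yf15 zf14) (kf xf22 yf23 zf49) (kf xf16 yf44 zf30) (kf xf19 yf30 zf44) (kf xf29 yf42 zf39) (kf xf19 yf30 zf46) (kf xf19 yf30 zf47) (kf xf32 yf3 zf4) (kf xf19 yf30 zf49) (kf xf19 yf30 zf50) (kf xf19 yf30 zf51) (kf xf24 yf5 zf60) (kf xf29 yf28 zf10) (kf xf17 yf20 zf61) (kf xf19 yf23 zf52) (kf xf19 yf23 zf42) (kf xf24 yf53 zf36) (kf xf19 yf33 zf26) (kf xf19 yf33 zf28) (kf xf19 yf33 zf30) (kf xf29 yf48 zf30) (kf xf28 yf32 zf56) (kf xf19 yf34 zf4) (kf xf29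 yf48 zf31) (kf xf27 yf59 zf48) (kf xf20 yf39 zf24) (kf xf31 yf35 zf27) (kf xf19 yf33 zf12) (kf xf26 yf48 zf41) (kf xf16 yf44 zf55) (kf xf29 yf40 zf33) (kf xf19 yf33 zf37) (kf xf32 yf15 zf23) (kf xf16 yf44 zf58) (kf xf19 yf34 zf14) (kf xf19 yf34 zf15) (kf xf19 yf34 zf16) (kf xf20 yf20 zf25)) (@D3.rec (fun _ => Pt) (kf xf19 yf34 zf22) (kf xf20 yf20 zf26) (kf xf19 yf34 zf24) (kf xf19 yf34 zf26) (kf xf19 yf34 zf27) (kf xf20 yf20 zf8) (kf xf19 yf34 zf31) (kf xf32 yf15 zf28) (kf xf20 yf25 zf15) (kf xf22 yf0 zf24) (kf xf29 yf18 zf7) (kf xf29 yf7 zf43) (kf xf29 yf28 zf11) (kf xf19 yf40 zf14) (kf xf28 yf52 zf27) (kf xf31 yf11 zf17) (kf xf19 yf45 zf3) (kf xf19 yf44 zf55) (kf xf19 yf44 zf58) (kf xf19 yf45 zf59) (kf xf19 yf45 zf5) (kf xf27 yf21 zf52) (kf xf29 yf22 zf29) (kf xf25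 yf50 zf8) (kf xf27 yf21 zf33) (kf xf16 yf45 zf36) (kf xf19 yf24 zf38) (kf xf17 yf36 zf3) (kf xf30 yf51 zf36) (kf xf19 yf44 zf52) (kf xf25 yf35 zf2) (kf xf31 yf45 zf26) (kf xf25 yf10 zf32) (kf xf27 yf11 zf30) (kf xf28 yf0 zf21) (kf xf24 yf58 zf9) (kf xf24 yf58 zf21) (kf xf30 yf9 zf40) (kf xf31 yf45 zf30) (kf xf25 yf36 zf52) (kf xf27 yf19 zf41) (kf xf19 yf17 zf17) (kf xf19 yf34 zf49) (kf xf20 yf50 zf28) (kf xf31 yf45 zf27) (kf xf29 yf6 zf14) (kf xf20 yf50 zf8) (kf xf19 yf46 zf46) (kf xf27 yf40 zf44) (kf xf19 yf46 zf36) (kf xf29 yf12 zf42) (kf xf20 yf50 zf21) (kf xf24 yf36 zf29) (kf xf20 yf1 zf55) (kf xf16 yf46 zf53) (kf xf16 yf46 zf54) (kf xf16 yf46 zf50) (kf xf16 yf46 zf51) (kf xf19 yf41 zf28) (kf xf19 yf41 zf29) (kf xf29 yf48 zf46) (kf xf19 yf41 zf30)) (@D3.rec (fun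 _ => Pt) (kf xf23 yf53 zf29) (kf xf19 yf41 zf42) (kf xf24 yf28 zf49) (kf xf29 yf27 zf60) (kf xf19 yf25 zf24) (kf xf22 yf57 zf42) (kf xf22 yf20 zf4) (kf xf24 yf1 zf48) (kf xf26 yf20 zf35) (kf xf27 yf3 zf15) (kf xf19 yf45 zf40) (kf xf27 yf2 zf7) (kf xf24 yf28 zf54) (kf xf22 yf6 zf61) (kf xf25 yf26 zf37) (kf xf19 yf28 zf1) (kf xf24 yf29 zf12) (kf xf30 yf49 zf13) (kf xf18 yf45 zf30) (kf xf32 yf0 zf49) (kf xf30 yf47 zf9) (kf xf18 yf44 zf26) (kf xf19 yf58 zf20) (kf xf30 yf15 zf12) (kf xf17 yf11 zf46) (kf xf19 yf7 zf6) (kf xf28 yf33 zf40) (kf xf28 yf33 zf38) (kf xf19 yf42 zf61) (kf xf19 yf15 zf56) (kf xf19 yf43 zf5) (kf xf19 yf43 zf6) (kf xf19 yf49 zf3) (kf xf19 yf43 zf35) (kf xf21 yf16 zf0) (kf xf25 yf50 zf45) (kf xf29 yf7 zf56) (kf xf29 yf25 zf42) (kf xf25 yf47 zf32) (kf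 xf29 yf7 zf54) (kf xf19 yf25 zf49) (kf xf21 yf58 zf23) (kf xf21 yf58 zf13) (kf xf19 yf49 zf21) (kf xf20 yf13 zf56) (kf xf19 yf50 zf38) (kf xf24 yf58 zf10) (kf xf19 yf50 zf40) (kf xf20 yf22 zf4) (kf xf20 yf9 zf46) (kf xf19 yf48 zf41) (kf xf19 yf49 zf7) (kf xf19 yf49 zf5) (kf xf19 yf47 zf32) (kf xf19 yf47 zf35) (kf xf23 yf19 zf53) (kf xf19 yf47 zf43) (kf xf19 yf53 zf3) (kf xf19 yf47 zf49) (kf xf31 yf36 zf22) (kf xf19 yf47 zf40) (kf xf27 yf22 zf19)) (@D3.rec (fun _ => Pt) (kf xf20 yf19 zf38) (kf xf19 yf18 zf43) (kf xf26 yf10 zf7) (kf xf24 yf22 zf15) (kf xf20 yf54 zf41) (kf xf18 yf0 zf37) (kf xf19 yf48 zf42) (kf xf16 yf48 zf14) (kf xf26 yf37 zf52) (kf xf26 yf37 zf27) (kf xf31 yf55 zf33) (kf xf27 yf55 zf60) (kf xf21 yf54 zf47) (kf xf26 yf50 zf16) (kf xf26 yf50 zf17) (kf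 xf29 yf5 zf35) (kf xf29 yf5 zf43) (kf xf22 yf20 zf43) (kf xf24 yf17 zf47) (kf xf29 yf0 zf39) (kf xf26 yf40 zf12) (kf xf29 yf32 zf57) (kf xf28 yf39 zf19) (kf xf29 yf32 zf60) (kf xf29 yf32 zf59) (kf xf20 yf13 zf2) (kf xf17 yf7 zf25) (kf xf20 yf37 zf47) (kf xf16 yf48 zf34) (kf xf17 yf33 zf23) (kf xf16 yf48 zf50) (kf xf16 yf48 zf49) (kf xf20 yf19 zf20) (kf xf25 yf17 zf37) (kf xf17 yf31 zf2) (kf xf28 yf9 zf54) (kf xf20 yf12 zf16) (kf xf29 yf34 zf34) (kf xf18 yf12 zf54) (kf xf17 yf14 zf2) (kf xf19 yf53 zf39) (kf xf19 yf53 zf40) (kf xf19 yf53 zf41) (kf xf17 yf59 zf8) (kf xf19 yf53 zf29) (kf xf25 yf25 zf18) (kf xf19 yf32 zf19) (kf xf31 yf35 zf31) (kf xf29 yf59 zf12) (kf xf31 yf35 zf32) (kf xf22 yf11 zf23) (kf xf29 yf13 zf40) (kf xf29 yf30 zf29) (kf xf16 yf49 zf28) (kf xf20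 yf4 zf26) (kf xf20 yf4 zf25) (kf xf30 yf11 zf24) (kf xf16 yf49 zf29) (kf xf19 yf59 zf27) (kf xf28 yf53 zf52) (kf xf20 yf5 zf44) (kf xf28 yf6 zf40)) (@D3.rec (fun _ => Pt) (kf xf20 yf5 zf48) (kf xf20 yf5 zf50) (kf xf27 yf5 zf43) (kf xf20 yf1 zf57) (kf xf18 yf3 zf12) (kf xf18 yf3 zf13) (kf xf26 yf8 zf29) (kf xf26 yf8 zf30) (kf xf28 yf11 zf52) (kf xf28 yf11 zf51) (kf xf28 yf11 zf28) (kf xf28 yf11 zf53) (kf xf31 yf8 zf43) (kf xf16 yf49 zf61) (kf xf19 yf55 zf16) (kf xf19 yf55 zf15) (kf xf28 yf11 zf54) (kf xf17 yf39 zf40) (kf xf19 yf54 zf59) (kf xf17 yf4 zf7) (kf xf19 yf55 zf0) (kf xf32 yf16 zf4) (kf xf19 yf55 zf4) (kf xf31 yf6 zf32) (kf xf25 yf38 zf28) (kf xf32 yf16 zf3) (kf xf32 yf4 zf51) (kf xf16 yf50 zf8) (kf xf19 yf54 zf37) (kf xf19 yf54 zf36) (kf xf32 yf16 zf11) (kf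 xf16 yf50 zf9) (kf xf19 yf54 zf42) (kf xf19 yf54 zf43) (kf xf19 yf54 zf41) (kf xf30 yf42 zf1) (kf xf19 yf54 zf47) (kf xf19 yf54 zf48) (kf xf19 yf55 zf22) (kf xf19 yf55 zf25) (kf xf19 yf55 zf27) (kf xf29 yf49 zf45) (kf xf29 yf49 zf44) (kf xf29 yf49 zf46) (kf xf19 yf55 zf60) (kf xf19 yf55 zf59) (kf xf31 yf8 zf51) (kf xf16 yf50 zf21) (kf xf19 yf56 zf2) (kf xf19 yf56 zf1) (kf xf19 yf55 zf47) (kf xf19 yf55 zf51) (kf xf31 yf29 zf12) (kf xf19 yf55 zf55) (kf xf31 yf18 zf24) (kf xf31 yf10 zf8) (kf xf16 yf50 zf27) (kf xf19 yf55 zf41) (kf xf19 yf55 zf40) (kf xf32 yf16 zf19) (kf xf16 yf50 zf28) (kf xf28 yf42 zf56)) (@D3.rec (fun _ => Pt) (kf xf19 yf15 zf11) (kf xf29 yf49 zf37) (kf xf31 yf29 zf9) (kf xf19 yf56 zf5) (kf xf28 yf49 zf42) (kf xf16 yf50 zf34) (kf xf19 yf15 zf40) (kf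 xf25 yf22 zf47) (kf xf24 yf23 zf40) (kf xf19 yf56 zf23) (kf xf26 yf9 zf55) (kf xf23 yf31 zf8) (kf xf27 yf56 zf50) (kf xf19 yf16 zf36) (kf xf24 yf43 zf32) (kf xf27 yf28 zf6) (kf xf28 yf41 zf21) (kf xf26 yf14 zf29) (kf xf26 yf5 zf8) (kf xf31 yf37 zf21) (kf xf27 yf59 zf56) (kf xf19 yf58 zf47) (kf xf19 yf58 zf49) (kf xf19 yf58 zf50) (kf xf29 yf49 zf57) (kf xf19 yf59 zf11) (kf xf19 yf59 zf10) (kf xf29 yf49 zf58) (kf xf19 yf59 zf6) (kf xf28 yf11 zf42) (kf xf19 yf58 zf57) (kf xf23 yf29 zf12) (kf xf16 yf51 zf0) (kf xf19 yf47 zf20) (kf xf29 yf32 zf56) (kf xf20 yf39 zf10) (kf xf19 yf57 zf59) (kf xf20 yf5 zf14) (kf xf32 yf12 zf57) (kf xf20 yf0 zf61) (kf xf24 yf31 zf1) (kf xf26 yf43 zf52) (kf xf20 yf1 zf12) (kf xf29 yf24 zf2) (kf xf21 yf2 zf50) (kf xf20 yf1 zf4) (kf xf20 yf36 zf40)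 (kf xf20 yf6 zf48) (kf xf20 yf6 zf49) (kf xf29 yf24 zf15) (kf xf26 yf27 zf4) (kf xf26 yf27 zf9) (kf xf26 yf27 zf17) (kf xf24 yf30 zf61) (kf xf28 yf15 zf6) (kf xf24 yf30 zf60) (kf xf26 yf0 zf41) (kf xf29 yf25 zf60) (kf xf29 yf22 zf3) (kf xf20 yf7 zf17) (kf xf20 yf10 zf21) (kf xf20 yf10 zf6)) (@D3.rec (fun _ => Pt) (kf xf20 yf10 zf7) (kf xf20 yf10 zf9) (kf xf26 yf55 zf12) (kf xf22 yf33 zf56) (kf xf20 yf10 zf16) (kf xf20 yf19 zf61) (kf xf20 yf10 zf25) (kf xf20 yf10 zf26) (kf xf20 yf10 zf27) (kf xf32 yf16 zf27) (kf xf16 yf52 zf22) (kf xf20 yf11 zf40) (kf xf20 yf11 zf33) (kf xf30 yf39 zf6) (kf xf16 yf52 zf9) (kf xf20 yf11 zf37) (kf xf20 yf11 zf51) (kf xf20 yf11 zf59) (kf xf30 yf36 zf18) (kf xf28 yf20 zf58) (kf xf32 yf16 zf26) (kf xf31 yf23 zf11) (kf xf16 yf52 zf18) (kf xf27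 yf13 zf25) (kf xf22 yf16 zf10) (kf xf30 yf30 zf26) (kf xf16 yf52 zf20) (kf xf20 yf11 zf21) (kf xf30 yf3 zf50) (kf xf30 yf37 zf30) (kf xf16 yf55 zf0) (kf xf17 yf54 zf60) (kf xf21 yf16 zf7) (kf xf20 yf9 zf35) (kf xf20 yf9 zf26) (kf xf26 yf55 zf20) (kf xf20 yf7 zf26) (kf xf20 yf7 zf29) (kf xf20 yf30 zf18) (kf xf20 yf7 zf33) (kf xf20 yf7 zf35) (kf xf22 yf5 zf13) (kf xf20 yf7 zf50) (kf xf20 yf7 zf52) (kf xf20 yf7 zf53) (kf xf20 yf30 zf13) (kf xf20 yf8 zf7) (kf xf20 yf8 zf12) (kf xf16 yf52 zf60) (kf xf20 yf8 zf17) (kf xf20 yf8 zf18) (kf xf20 yf8 zf19) (kf xf22 yf51 zf23) (kf xf22 yf51 zf19) (kf xf26 yf28 zf27) (kf xf29 yf42 zf40) (kf xf20 yf1 zf13) (kf xf20 yf28 zf48) (kf xf20 yf8 zf55) (kf xf29 yf52 zf21) (kf xf16 yf53 zf26) (kf xf27 yf0 zf48)) (@D3.rec (fun _ => Pt) (kf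 xf16 yf54 zf34) (kf xf31 yf55 zf14) (kf xf16 yf55 zf36) (kf xf16 yf55 zf35) (kf xf32 yf16 zf37) (kf xf16 yf53 zf37) (kf xf16 yf55 zf53) (kf xf24 yf46 zf4) (kf xf19 yf18 zf7) (kf xf24 yf52 zf36) (kf xf29 yf18 zf13) (kf xf21 yf0 zf6) (kf xf24 yf36 zf18) (kf xf20 yf8 zf26) (kf xf19 yf21 zf13) (kf xf29 yf48 zf10) (kf xf26 yf46 zf13) (kf xf26 yf46 zf14) (kf xf17 yf10 zf49) (kf xf20 yf20 zf22) (kf xf16 yf56 zf16) (kf xf31 yf36 zf52) (kf xf20 yf15 zf14) (kf xf26 yf51 zf10) (kf xf18 yf0 zf39) (kf xf26 yf51 zf11) (kf xf17 yf6 zf34) (kf xf17 yf6 zf31) (kf xf20 yf16 zf12) (kf xf21 yf50 zf48) (kf xf20 yf16 zf43) (kf xf16 yf54 zf15) (kf xf28 yf17 zf27) (kf xf16 yf55 zf3) (kf xf16 yf54 zf57) (kf xf18 yf55 zf37) (kf xf16 yf54 zf60) (kf xf22 yf11 zf41) (kf xf16 yf54 zf54) (kf xf29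 yf6 zf41) (kf xf16 yf55 zf8) (kf xf27 yf2 zf37) (kf xf17 yf10 zf32) (kf xf28 yf32 zf32) (kf xf30 yf36 zf50) (kf xf29 yf37 zf53) (kf xf16 yf54 zf36) (kf xf16 yf55 zf27) (kf xf16 yf54 zf39) (kf xf16 yf54 zf50) (kf xf16 yf55 zf47) (kf xf20 yf9 zf5) (kf xf16 yf55 zf42) (kf xf32 yf16 zf42) (kf xf32 yf16 zf45) (kf xf16 yf54 zf48) (kf xf30 yf30 zf24) (kf xf22 yf10 zf1) (kf xf29 yf19 zf41) (kf xf29 yf35 zf2) (kf xf26 yf35 zf29) (kf xf19 yf6 zf53)) (@D3.rec (fun _ => Pt) (kf xf17 yf0 zf57) (kf xf29 yf15 zf1) (kf xf28 yf17 zf44) (kf xf18 yf55 zf26) (kf xf31 yf57 zf9) (kf xf16 yf54 zf58) (kf xf29 yf39 zf8) (kf xf20 yf18 zf54) (kf xf30 yf33 zf61) (kf xf29 yf27 zf2) (kf xf26 yf50 zf23) (kf xf26 yf50 zf25) (kf xf25 yf11 zf51) (kf xf23 yf59 zf1) (kf xf30 yf1 zf43) (kf xf27 yf12 zf16)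 (kf xf28 yf24 zf52) (kf xf25 yf29 zf30) (kf xf16 yf55 zf11) (kf xf19 yf52 zf6) (kf xf19 yf52 zf7) (kf xf19 yf21 zf49) (kf xf28 yf29 zf42) (kf xf16 yf56 zf13) (kf xf19 yf21 zf42) (kf xf28 yf39 zf37) (kf xf28 yf34 zf21) (kf xf16 yf55 zf23) (kf xf16 yf55 zf22) (kf xf32 yf16 zf48) (kf xf16 yf55 zf18) (kf xf19 yf21 zf24) (kf xf19 yf21 zf8) (kf xf24 yf4 zf46) (kf xf30 yf5 zf36) (kf xf22 yf25 zf46) (kf xf27 yf11 zf56) (kf xf22 yf25 zf51) (kf xf32 yf16 zf47) (kf xf21 yf16 zf4) (kf xf32 yf16 zf53) (kf xf16 yf55 zf24) (kf xf17 yf54 zf53) (kf xf20 yf27 zf4) (kf xf24 yf24 zf59) (kf xf21 yf52 zf33) (kf xf29 yf26 zf35) (kf xf18 yf1 zf18) (kf xf24 yf21 zf34) (kf xf32 yf13 zf40) (kf xf32 yf13 zf39) (kf xf29 yf45 zf2) (kf xf28 yf30 zf4) (kf xf16 yf55 zf37) (kf xf24 yf11 zf5) (kf xf24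 yf11 zf4) (kf xf18 yf50 zf17) (kf xf30 yf37 zf21) (kf xf30 yf37 zf48) (kf xf32 yf16 zf36) (kf xf31 yf35 zf29) (kf xf30 yf30 zf34)) (@D3.rec (fun _ => Pt) (kf xf24 yf53 zf14) (kf xf18 yf43 zf36) (kf xf20 yf31 zf53) (kf xf29 yf14 zf52) (kf xf27 yf20 zf18) (kf xf31 yf15 zf0) (kf xf29 yf20 zf13) (kf xf26 yf59 zf50) (kf xf26 yf59 zf52) (kf xf29 yf26 zf5) (kf xf17 yf4 zf0) (kf xf17 yf3 zf58) (kf xf18 yf33 zf47) (kf xf28 yf17 zf51) (kf xf28 yf17 zf55) (kf xf27 yf59 zf53) (kf xf19 yf31 zf45) (kf xf29 yf36 zf40) (kf xf20 yf39 zf2) (kf xf20 yf38 zf61) (kf xf20 yf38 zf60) (kf xf21 yf1 zf26) (kf xf17 yf6 zf60) (kf xf17 yf7 zf5) (kf xf17 yf7 zf8) (kf xf26 yf37 zf59) (kf xf17 yf7 zf14) (kf xf32 yf17 zf9) (kf xf17 yf1 zf0) (kf xf17 yf1 zf3) (kf xf20 yf18 zf56) (kf xf32 yf17 zf12)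 (kf xf27 yf11 zf51) (kf xf20 yf9 zf36) (kf xf16 yf56 zf6) (kf xf20 yf20 zf5) (kf xf20 yf20 zf7) (kf xf20 yf19 zf7) (kf xf27 yf53 zf21) (kf xf32 yf17 zf11) (kf xf32 yf17 zf10) (kf xf28 yf38 zf49) (kf xf16 yf56 zf10) (kf xf20 yf20 zf13) (kf xf28 yf18 zf18) (kf xf28 yf32 zf42) (kf xf22 yf40 zf47) (kf xf20 yf52 zf42) (kf xf20 yf16 zf48) (kf xf20 yf15 zf22) (kf xf23 yf6 zf52) (kf xf20 yf18 zf29) (kf xf28 yf0 zf61) (kf xf28 yf48 zf43) (kf xf19 yf21 zf51) (kf xf28 yf52 zf25) (kf xf24 yf6 zf11) (kf xf19 yf21 zf54) (kf xf17 yf21 zf7) (kf xf28 yf14 zf52) (kf xf18 yf43 zf23) (kf xf17 yf35 zf9)) (@D3.rec (fun _ => Pt) (kf xf17 yf18 zf43) (kf xf19 yf47 zf44) (kf xf19 yf52 zf53) (kf xf20 yf10 zf10) (kf xf20 yf20 zf0) (kf xf20 yf20 zf1) (kf xf20 yf20 zf3) (kf xf19 yf34 zf25) (kf xf19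 yf52 zf20) (kf xf20 yf20 zf9) (kf xf23 yf53 zf31) (kf xf28 yf13 zf58) (kf xf20 yf19 zf46) (kf xf26 yf56 zf42) (kf xf20 yf18 zf46) (kf xf20 yf20 zf33) (kf xf20 yf20 zf28) (kf xf16 yf57 zf25) (kf xf30 yf5 zf10) (kf xf17 yf2 zf6) (kf xf16 yf57 zf39) (kf xf16 yf58 zf17) (kf xf20 yf46 zf13) (kf xf23 yf49 zf25) (kf xf20 yf23 zf35) (kf xf20 yf26 zf38) (kf xf20 yf26 zf39) (kf xf30 yf5 zf21) (kf xf17 yf18 zf32) (kf xf16 yf58 zf18) (kf xf32 yf17 zf24) (kf xf16 yf58 zf0) (kf xf16 yf58 zf38) (kf xf16 yf58 zf37) (kf xf30 yf0 zf16) (kf xf32 yf17 zf26) (kf xf16 yf58 zf4) (kf xf16 yf58 zf56) (kf xf16 yf58 zf53) (kf xf17 yf49 zf53) (kf xf20 yf54 zf13) (kf xf20 yf54 zf14) (kf xf32 yf17 zf29) (kf xf23 yf48 zf3) (kf xf30 yf18 zf38) (kf xf32 yf17 zf33) (kf xf30 yf18 zf39) (kf xf28 yf45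 zf3) (kf xf23 yf48 zf4) (kf xf28 yf37 zf50) (kf xf29 yf35 zf51) (kf xf29 yf35 zf49) (kf xf30 yf38 zf45) (kf xf32 yf17 zf25) (kf xf16 yf58 zf19) (kf xf30 yf22 zf32) (kf xf20 yf26 zf51) (kf xf29 yf35 zf45) (kf xf24 yf18 zf40) (kf xf29 yf35 zf48) (kf xf32 yf17 zf41) (kf xf20 yf26 zf56)) (@D3.rec (fun _ => Pt) (kf xf19 yf50 zf13) (kf xf24 yf52 zf50) (kf xf29 yf36 zf1) (kf xf16 yf58 zf26) (kf xf23 yf47 zf5) (kf xf27 yf12 zf19) (kf xf29 yf35 zf46) (kf xf28 yf43 zf26) (kf xf20 yf49 zf17) (kf xf16 yf58 zf29) (kf xf24 yf52 zf51) (kf xf29 yf35 zf57) (kf xf19 yf58 zf35) (kf xf29 yf35 zf55) (kf xf29 yf35 zf56) (kf xf19 yf58 zf5) (kf xf29 yf5 zf50) (kf xf28 yf9 zf2) (kf xf24 yf51 zf52) (kf xf32 yf17 zf23) (kf xf27 yf37 zf2) (kf xf16 yf58 zf39) (kf xf16 yf59 zf0) (kf xf28 yf49 zf39)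 (kf xf20 yf26 zf42) (kf xf26 yf9 zf46) (kf xf32 yf17 zf49) (kf xf31 yf53 zf13) (kf xf29 yf15 zf7) (kf xf29 yf15 zf8) (kf xf20 yf58 zf38) (kf xf29 yf15 zf10) (kf xf29 yf15 zf11) (kf xf31 yf40 zf39) (kf xf27 yf44 zf15) (kf xf28 yf51 zf38) (kf xf32 yf17 zf27) (kf xf31 yf56 zf60) (kf xf31 yf17 zf53) (kf xf29 yf15 zf18) (kf xf29 yf27 zf30) (kf xf32 yf17 zf58) (kf xf29 yf27 zf16) (kf xf32 yf18 zf2) (kf xf24 yf49 zf45) (kf xf32 yf17 zf28) (kf xf16 yf58 zf60) (kf xf20 yf54 zf18) (kf xf20 yf54 zf17) (kf xf20 yf54 zf25) (kf xf20 yf54 zf21) (kf xf20 yf54 zf22) (kf xf20 yf28 zf40) (kf xf25 yf54 zf48) (kf xf19 yf25 zf47) (kf xf29 yf7 zf13) (kf xf31 yf12 zf56) (kf xf17 yf4 zf13) (kf xf29 yf6 zf13) (kf xf20 yf29 zf49) (kf xf29 yf6 zf12) (kf xf18 yf1 zf47)) (@D3.rec (fun _ => Pt) (kf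 xf18 yf1 zf53) (kf xf23 yf39 zf1) (kf xf25 yf30 zf3) (kf xf21 yf1 zf5) (kf xf20 yf43 zf42) (kf xf20 yf34 zf56) (kf xf17 yf9 zf61) (kf xf28 yf1 zf31) (kf xf17 yf0 zf9) (kf xf18 yf50 zf43) (kf xf18 yf50 zf44) (kf xf27 yf1 zf17) (kf xf26 yf49 zf2) (kf xf17 yf9 zf26) (kf xf16 yf59 zf61) (kf xf20 yf40 zf30) (kf xf27 yf41 zf6) (kf xf17 yf9 zf58) (kf xf26 yf12 zf59) (kf xf25 yf17 zf31) (kf xf26 yf49 zf35) (kf xf17 yf0 zf7) (kf xf28 yf1 zf42) (kf xf18 yf50 zf32) (kf xf18 yf50 zf47) (kf xf17 yf0 zf16) (kf xf20 yf30 zf44) (kf xf28 yf0 zf58) (kf xf20 yf51 zf61) (kf xf20 yf30 zf15) (kf xf29 yf14 zf45) (kf xf20 yf30 zf12) (kf xf20 yf30 zf17) (kf xf20 yf30 zf16) (kf xf20 yf7 zf31) (kf xf17 yf0 zf27) (kf xf29 yf19 zf20) (kf xf17 yf0 zf33) (kf xf17 yf0 zf37) (kf xf17 yf1 zf1) (kf xf17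 yf1 zf7) (kf xf17 yf1 zf6) (kf xf17 yf0 zf40) (kf xf28 yf23 zf13) (kf xf17 yf2 zf3) (kf xf17 yf0 zf43) (kf xf17 yf0 zf55) (kf xf17 yf1 zf36) (kf xf17 yf1 zf40) (kf xf30 yf44 zf11) (kf xf17 yf1 zf44) (kf xf17 yf1 zf45) (kf xf17 yf1 zf57) (kf xf17 yf1 zf59) (kf xf19 yf11 zf24) (kf xf19 yf13 zf47) (kf xf17 yf0 zf52) (kf xf17 yf2 zf1) (kf xf17 yf1 zf20) (kf xf17 yf0 zf53) (kf xf17 yf28 zf27) (kf xf30 yf32 zf18)) (@D3.rec (fun _ => Pt) (kf xf32 yf16 zf46) (kf xf29 yf54 zf53) (kf xf32 yf8 zf21) (kf xf20 yf34 zf3) (kf xf26 yf58 zf8) (kf xf17 yf0 zf59) (kf xf26 yf26 zf39) (kf xf23 yf0 zf6) (kf xf30 yf46 zf34) (kf xf26 yf25 zf51) (kf xf23 yf8 zf41) (kf xf29 yf55 zf29) (kf xf26 yf20 zf25) (kf xf26 yf26 zf41) (kf xf32 yf15 zf24) (kf xf25 yf16 zf10) (kf xf18 yf45 zf17) (kf xf21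 yf10 zf24) (kf xf29 yf1 zf44) (kf xf21 yf11 zf31) (kf xf21 yf10 zf27) (kf xf22 yf49 zf23) (kf xf28 yf38 zf26) (kf xf30 yf24 zf11) (kf xf24 yf6 zf50) (kf xf26 yf26 zf3) (kf xf30 yf44 zf3) (kf xf29 yf21 zf28) (kf xf22 yf19 zf11) (kf xf29 yf55 zf43) (kf xf29 yf42 zf10) (kf xf29 yf55 zf47) (kf xf28 yf20 zf28) (kf xf28 yf50 zf14) (kf xf31 yf42 zf4) (kf xf28 yf20 zf23) (kf xf26 yf30 zf56) (kf xf20 yf22 zf61) (kf xf19 yf11 zf42) (kf xf20 yf32 zf43) (kf xf31 yf28 zf10) (kf xf28 yf35 zf23) (kf xf26 yf53 zf13) (kf xf17 yf1 zf41) (kf xf21 yf11 zf25) (kf xf21 yf11 zf26) (kf xf28 yf43 zf36) (kf xf28 yf43 zf15) (kf xf32 yf18 zf11) (kf xf32 yf16 zf49) (kf xf32 yf11 zf51) (kf xf31 yf23 zf42) (kf xf29 yf42 zf4) (kf xf28 yf35 zf29) (kf xf17 yf1 zf47) (kf xf28 yf50 zf10) (kf xf28 yf33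 zf23) (kf xf17 yf32 zf22) (kf xf19 yf12 zf59) (kf xf29 yf55 zf44) (kf xf29 yf55 zf46) (kf xf31 yf58 zf15)) (@D3.rec (fun _ => Pt) (kf xf21 yf11 zf22) (kf xf21 yf11 zf23) (kf xf29 yf40 zf21) (kf xf19 yf15 zf39) (kf xf24 yf11 zf34) (kf xf31 yf12 zf28) (kf xf30 yf28 zf32) (kf xf24 yf26 zf7) (kf xf24 yf26 zf13) (kf xf32 yf0 zf32) (kf xf31 yf21 zf52) (kf xf28 yf52 zf29) (kf xf27 yf8 zf8) (kf xf29 yf27 zf48) (kf xf24 yf39 zf38) (kf xf24 yf19 zf29) (kf xf29 yf27 zf49) (kf xf32 yf18 zf12) (kf xf32 yf8 zf56) (kf xf21 yf11 zf30) (kf xf32 yf18 zf9) (kf xf30 yf26 zf10) (kf xf24 yf1 zf1) (kf xf30 yf25 zf35) (kf xf20 yf23 zf20) (kf xf17 yf5 zf50) (kf xf17 yf3 zf19) (kf xf21 yf52 zf4) (kf xf17 yf9 zf60) (kf xf20 yf38 zf54) (kf xf20 yf38 zf56) (kf xf20 yf38 zf57) (kf xf30 yf29 zf27)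 (kf xf29 yf49 zf24) (kf xf32 yf8 zf8) (kf xf29 yf7 zf24) (kf xf30 yf55 zf41) (kf xf20 yf36 zf57) (kf xf29 yf24 zf14) (kf xf24 yf31 zf36) (kf xf31 yf0 zf40) (kf xf24 yf30 zf56) (kf xf17 yf2 zf52) (kf xf17 yf3 zf41) (kf xf20 yf13 zf30) (kf xf28 yf1 zf6) (kf xf26 yf32 zf20) (kf xf24 yf59 zf10) (kf xf26 yf21 zf47) (kf xf29 yf53 zf16) (kf xf21 yf5 zf50) (kf xf17 yf3 zf0) (kf xf17 yf9 zf59) (kf xf17 yf9 zf56) (kf xf17 yf10 zf6) (kf xf21 yf20 zf53) (kf xf21 yf20 zf39) (kf xf18 yf56 zf18) (kf xf18 yf23 zf10) (kf xf18 yf21 zf19) (kf xf18 yf21 zf18) (kf xf18 yf21 zf26)) (@D3.rec (fun _ => Pt) (kf xf26 yf42 zf17) (kf xf28 yf28 zf21) (kf xf17 yf3 zf42) (kf xf28 yf51 zf44) (kf xf28 yf51 zf45) (kf xf29 yf15 zf2) (kf xf29 yf18 zf20) (kf xf22 yf56 zf41) (kf xf26 yf56 zf4) (kf xf29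 yf2 zf35) (kf xf26 yf23 zf4) (kf xf32 yf16 zf29) (kf xf28 yf24 zf24) (kf xf28 yf24 zf22) (kf xf17 yf3 zf45) (kf xf30 yf48 zf48) (kf xf28 yf26 zf33) (kf xf26 yf30 zf5) (kf xf26 yf26 zf60) (kf xf30 yf17 zf12) (kf xf21 yf31 zf5) (kf xf28 yf25 zf14) (kf xf21 yf31 zf6) (kf xf21 yf33 zf20) (kf xf28 yf1 zf39) (kf xf21 yf46 zf15) (kf xf17 yf6 zf12) (kf xf20 yf24 zf22) (kf xf23 yf58 zf37) (kf xf17 yf4 zf12) (kf xf19 yf54 zf60) (kf xf23 yf24 zf55) (kf xf31 yf57 zf26) (kf xf25 yf38 zf9) (kf xf21 yf40 zf37) (kf xf21 yf40 zf42) (kf xf21 yf40 zf41) (kf xf31 yf52 zf51) (kf xf17 yf4 zf16) (kf xf17 yf5 zf55) (kf xf17 yf4 zf19) (kf xf20 yf51 zf32) (kf xf17 yf6 zf1) (kf xf17 yf6 zf9) (kf xf25 yf16 zf47) (kf xf17 yf5 zf61) (kf xf25 yf17 zf32) (kf xf17 yf6 zf26) (kf xf17 yf6 zf45) (kf xf17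 yf6 zf49) (kf xf17 yf6 zf27) (kf xf17 yf6 zf37) (kf xf29 yf8 zf41) (kf xf21 yf1 zf29) (kf xf21 yf1 zf36) (kf xf22 yf3 zf25) (kf xf27 yf53 zf34) (kf xf22 yf3 zf24) (kf xf17 yf4 zf53) (kf xf20 yf51 zf7) (kf xf20 yf51 zf6) (kf xf17 yf49 zf16)) (@D3.rec (fun _ => Pt) (kf xf25 yf36 zf54) (kf xf22 yf3 zf40) (kf xf22 yf3 zf39) (kf xf17 yf5 zf0) (kf xf20 yf14 zf38) (kf xf17 yf5 zf23) (kf xf18 yf25 zf26) (kf xf18 yf24 zf43) (kf xf21 yf50 zf54) (kf xf21 yf50 zf19) (kf xf17 yf5 zf27) (kf xf21 yf44 zf6) (kf xf27 yf37 zf52) (kf xf17 yf5 zf31) (kf xf17 yf9 zf33) (kf xf27 yf4 zf20) (kf xf21 yf51 zf24) (kf xf21 yf51 zf22) (kf xf20 yf17 zf54) (kf xf20 yf2 zf0) (kf xf24 yf19 zf7) (kf xf20 yf58 zf41) (kf xf27 yf37 zf40) (kf xf20 yf58 zf39) (kf xf32 yf4 zf46) (kf xf28 yf40 zf49) (kf xf17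 yf5 zf57) (kf xf17 yf6 zf14) (kf xf22 yf5 zf21) (kf xf18 yf1 zf17) (kf xf27 yf36 zf56) (kf xf29 yf44 zf58) (kf xf26 yf37 zf22) (kf xf26 yf59 zf43) (kf xf20 yf58 zf10) (kf xf31 yf51 zf6) (kf xf27 yf35 zf29) (kf xf18 yf24 zf55) (kf xf17 yf6 zf4) (kf xf28 yf39 zf44) (kf xf25 yf17 zf28) (kf xf21 yf47 zf57) (kf xf24 yf33 zf10) (kf xf26 yf59 zf33) (kf xf26 yf40 zf60) (kf xf30 yf9 zf27) (kf xf24 yf25 zf16) (kf xf19 yf48 zf5) (kf xf19 yf43 zf34) (kf xf20 yf52 zf8) (kf xf26 yf52 zf7) (kf xf18 yf48 zf34) (kf xf26 yf52 zf8) (kf xf29 yf21 zf23) (kf xf27 yf29 zf28) (kf xf31 yf13 zf1) (kf xf22 yf4 zf51) (kf xf29 yf45 zf3) (kf xf20 yf41 zf16) (kf xf17 yf31 zf12) (kf xf20 yf23 zf49) (kf xf28 yf36 zf35))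
def f_f_27 : D2 → D3 → Pt := @D2.rec (fun _ => D3 → Pt) (@D3.rec (fun _ => Pt) (kf xf20 yf37 zf27) (kf xf20 yf37 zf26) (kf xf17 yf6 zf52) (kf xf20 yf35 zf40) (kf xf17 yf28 zf29) (kf xf29 yf43 zf10) (kf xf20 yf39 zf45) (kf xf20 yf39 zf44) (kf xf17 yf6 zf55) (kf xf20 yf39 zf48) (kf xf20 yf57 zf60) (kf xf20 yf55 zf34) (kf xf28 yf40 zf14) (kf xf29 yf33 zf59) (kf xf30 yf16 zf9) (kf xf29 yf37 zf55) (kf xf29 yf0 zf61) (kf xf26 yf40 zf41) (kf xf30 yf16 zf8) (kf xf17 yf7 zf0) (kf xf26 yf37 zf34) (kf xf20 yf53 zf19) (kf xf24 yf3 zf23) (kf xf24 yf14 zf35) (kf xf29 yf33 zf44) (kf xf32 yf11 zf36) (kf xf31 yf33 zf3) (kf xf32 yf11 zf39) (kf xf20 yf57 zf6) (kf xf20 yf57 zf8) (kf xf29 yf33 zf46) (kf xf26 yf38 zf2) (kf xf29 yf43 zf16) (kf xf29 yf43 zf20) (kf xf29 yf43 zf21) (kf xf29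 yf43 zf22) (kf xf30 yf15 zf54) (kf xf31 yf26 zf11) (kf xf31 yf46 zf59) (kf xf32 yf19 zf13) (kf xf32 yf8 zf55) (kf xf32 yf18 zf42) (kf xf29 yf45 zf31) (kf xf17 yf7 zf16) (kf xf20 yf22 zf40) (kf xf29 yf9 zf9) (kf xf19 yf39 zf55) (kf xf17 yf59 zf43) (kf xf26 yf49 zf61) (kf xf28 yf54 zf56) (kf xf20 yf37 zf43) (kf xf20 yf50 zf54) (kf xf17 yf32 zf15) (kf xf20 yf52 zf11) (kf xf20 yf52 zf13) (kf xf20 yf52 zf21) (kf xf21 yf30 zf15) (kf xf17 yf8 zf11) (kf xf20 yf51 zf42) (kf xf21 yf20 zf22) (kf xf18 yf14 zf4) (kf xf20 yf52 zf25)) (@D3.rec (fun _ => Pt) (kf xf20 yf52 zf28) (kf xf22 yf5 zf22) (kf xf26 yf2 zf44) (kf xf29 yf6 zf4) (kf xf20 yf42 zf27) (kf xf19 yf17 zf14) (kf xf27 yf37 zf57) (kf xf20 yf53 zf33) (kf xf20 yf53 zf41) (kf xf27 yf35 zf44) (kf xf26 yf39 zf29) (kf xf26 yf39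 zf30) (kf xf18 yf0 zf19) (kf xf30 yf0 zf17) (kf xf20 yf13 zf25) (kf xf23 yf13 zf54) (kf xf23 yf31 zf14) (kf xf26 yf55 zf11) (kf xf29 yf29 zf51) (kf xf24 yf31 zf10) (kf xf26 yf14 zf56) (kf xf18 yf36 zf55) (kf xf26 yf8 zf24) (kf xf28 yf26 zf12) (kf xf17 yf9 zf21) (kf xf21 yf30 zf41) (kf xf28 yf0 zf38) (kf xf26 yf3 zf21) (kf xf20 yf16 zf13) (kf xf20 yf25 zf59) (kf xf21 yf7 zf36) (kf xf21 yf5 zf51) (kf xf17 yf51 zf30) (kf xf21 yf3 zf59) (kf xf29 yf4 zf58) (kf xf27 yf1 zf54) (kf xf25 yf51 zf17) (kf xf29 yf4 zf54) (kf xf29 yf56 zf37) (kf xf17 yf44 zf5) (kf xf23 yf28 zf9) (kf xf27 yf18 zf55) (kf xf17 yf44 zf6) (kf xf32 yf19 zf22) (kf xf29 yf56 zf39) (kf xf27 yf17 zf45) (kf xf27 yf17 zf49) (kf xf24 yf40 zf16) (kf xf27 yf17 zf53) (kf xf27 yf17 zf54) (kf xf27 yf17 zf55) (kf xf27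 yf17 zf56) (kf xf27 yf17 zf57) (kf xf25 yf24 zf13) (kf xf27 yf1 zf35) (kf xf29 yf15 zf45) (kf xf21 yf40 zf4) (kf xf28 yf24 zf57) (kf xf31 yf53 zf22) (kf xf31 yf16 zf13) (kf xf17 yf10 zf33) (kf xf17 yf11 zf36)) (@D3.rec (fun _ => Pt) (kf xf17 yf11 zf50) (kf xf21 yf39 zf60) (kf xf30 yf47 zf8) (kf xf17 yf10 zf59) (kf xf17 yf11 zf42) (kf xf17 yf11 zf43) (kf xf31 yf53 zf23) (kf xf26 yf45 zf11) (kf xf29 yf21 zf8) (kf xf20 yf42 zf46) (kf xf17 yf18 zf58) (kf xf17 yf18 zf57) (kf xf31 yf13 zf11) (kf xf17 yf10 zf50) (kf xf29 yf9 zf24) (kf xf17 yf17 zf39) (kf xf17 yf17 zf44) (kf xf30 yf38 zf48) (kf xf23 yf58 zf11) (kf xf31 yf35 zf24) (kf xf17 yf11 zf0) (kf xf17 yf24 zf25) (kf xf17 yf24 zf29) (kf xf17 yf24 zf28) (kf xf23 yf48 zf59) (kf xf17 yf11 zf7) (kf xf22 yf7 zf29) (kf xf23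 yf47 zf15) (kf xf22 yf12 zf27) (kf xf22 yf12 zf35) (kf xf30 yf27 zf55) (kf xf17 yf11 zf17) (kf xf20 yf47 zf40) (kf xf28 yf21 zf19) (kf xf17 yf11 zf20) (kf xf22 yf16 zf41) (kf xf17 yf11 zf23) (kf xf26 yf50 zf41) (kf xf21 yf16 zf38) (kf xf26 yf33 zf58) (kf xf17 yf11 zf30) (kf xf25 yf53 zf15) (kf xf25 yf34 zf21) (kf xf25 yf25 zf39) (kf xf17 yf11 zf61) (kf xf20 yf18 zf57) (kf xf24 yf10 zf28) (kf xf25 yf18 zf17) (kf xf27 yf52 zf56) (kf xf28 yf8 zf48) (kf xf27 yf59 zf49) (kf xf27 yf8 zf0) (kf xf17 yf26 zf30) (kf xf17 yf11 zf44) (kf xf30 yf15 zf11) (kf xf25 yf34 zf17) (kf xf30 yf20 zf4) (kf xf22 yf24 zf42) (kf xf20 yf40 zf18) (kf xf32 yf19 zf40) (kf xf27 yf14 zf60) (kf xf30 yf26 zf48)) (@D3.rec (fun _ => Pt) (kf xf32 yf19 zf42) (kf xf17 yf11 zf56) (kf xf28 yf34 zf9) (kf xf29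 yf53 zf17) (kf xf30 yf18 zf47) (kf xf17 yf20 zf29) (kf xf28 yf21 zf55) (kf xf23 yf46 zf35) (kf xf31 yf58 zf52) (kf xf28 yf48 zf54) (kf xf17 yf12 zf1) (kf xf17 yf26 zf36) (kf xf17 yf17 zf0) (kf xf21 yf38 zf46) (kf xf17 yf27 zf23) (kf xf26 yf45 zf9) (kf xf23 yf38 zf57) (kf xf20 yf22 zf8) (kf xf20 yf25 zf60) (kf xf20 yf17 zf17) (kf xf19 yf50 zf41) (kf xf23 yf31 zf22) (kf xf30 yf2 zf49) (kf xf22 yf6 zf5) (kf xf21 yf9 zf34) (kf xf21 yf9 zf28) (kf xf20 yf13 zf43) (kf xf17 yf26 zf10) (kf xf17 yf17 zf45) (kf xf18 yf25 zf59) (kf xf21 yf30 zf14) (kf xf21 yf30 zf13) (kf xf29 yf24 zf29) (kf xf18 yf40 zf47) (kf xf18 yf40 zf46) (kf xf31 yf1 zf7) (kf xf26 yf26 zf30) (kf xf28 yf49 zf56) (kf xf17 yf12 zf61) (kf xf27 yf36 zf23) (kf xf17 yf13 zf31) (kf xf17 yf42 zf31) (kf xf31 yf4 zf1)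 (kf xf17 yf20 zf0) (kf xf21 yf31 zf26) (kf xf21 yf31 zf27) (kf xf26 yf10 zf54) (kf xf27 yf40 zf49) (kf xf28 yf36 zf20) (kf xf26 yf10 zf27) (kf xf27 yf38 zf37) (kf xf29 yf51 zf47) (kf xf27 yf17 zf61) (kf xf17 yf14 zf1) (kf xf17 yf14 zf3) (kf xf30 yf20 zf6) (kf xf21 yf4 zf43) (kf xf21 yf22 zf52) (kf xf18 yf8 zf16) (kf xf21 yf22 zf59) (kf xf21 yf22 zf60) (kf xf21 yf31 zf14)) (@D3.rec (fun _ => Pt) (kf xf21 yf23 zf4) (kf xf21 yf23 zf5) (kf xf24 yf19 zf47) (kf xf18 yf57 zf10) (kf xf21 yf22 zf15) (kf xf21 yf22 zf19) (kf xf21 yf22 zf20) (kf xf21 yf22 zf21) (kf xf21 yf22 zf22) (kf xf21 yf22 zf39) (kf xf18 yf25 zf41) (kf xf21 yf22 zf42) (kf xf21 yf18 zf0) (kf xf21 yf18 zf3) (kf xf21 yf23 zf41) (kf xf29 yf57 zf58) (kf xf30 yf10 zf7) (kf xf30 yf3 zf51) (kf xf29 yf58 zf41) (kf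 xf21 yf19 zf37) (kf xf26 yf59 zf15) (kf xf22 yf6 zf2) (kf xf17 yf43 zf51) (kf xf21 yf25 zf46) (kf xf21 yf25 zf48) (kf xf21 yf24 zf18) (kf xf21 yf24 zf19) (kf xf21 yf24 zf20) (kf xf21 yf6 zf32) (kf xf21 yf6 zf33) (kf xf21 yf24 zf33) (kf xf21 yf24 zf37) (kf xf28 yf3 zf52) (kf xf21 yf24 zf38) (kf xf31 yf10 zf28) (kf xf29 yf32 zf48) (kf xf30 yf0 zf43) (kf xf30 yf0 zf42) (kf xf32 yf19 zf52) (kf xf17 yf14 zf19) (kf xf21 yf55 zf16) (kf xf30 yf12 zf57) (kf xf21 yf28 zf5) (kf xf21 yf28 zf6) (kf xf21 yf28 zf8) (kf xf21 yf34 zf55) (kf xf21 yf34 zf56) (kf xf26 yf14 zf51) (kf xf21 yf25 zf29) (kf xf27 yf27 zf48) (kf xf20 yf2 zf3) (kf xf21 yf27 zf1) (kf xf21 yf27 zf2) (kf xf21 yf27 zf3) (kf xf22 yf9 zf10) (kf xf21 yf27 zf8) (kf xf29 yf32 zf39) (kf xf21 yf27 zf15) (kf xf23 yf41 zf18)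 (kf xf21 yf30 zf29) (kf xf28 yf47 zf44) (kf xf29 yf3 zf38)) (@D3.rec (fun _ => Pt) (kf xf31 yf49 zf39) (kf xf17 yf14 zf48) (kf xf29 yf50 zf49) (kf xf29 yf50 zf50) (kf xf21 yf15 zf38) (kf xf17 yf15 zf3) (kf xf24 yf30 zf20) (kf xf17 yf14 zf61) (kf xf17 yf15 zf11) (kf xf24 yf25 zf24) (kf xf28 yf15 zf7) (kf xf24 yf30 zf18) (kf xf24 yf30 zf19) (kf xf28 yf12 zf39) (kf xf20 yf31 zf15) (kf xf20 yf47 zf43) (kf xf20 yf1 zf17) (kf xf22 yf38 zf16) (kf xf26 yf28 zf11) (kf xf21 yf30 zf51) (kf xf22 yf38 zf17) (kf xf25 yf1 zf59) (kf xf26 yf28 zf23) (kf xf17 yf15 zf22) (kf xf17 yf15 zf24) (kf xf29 yf27 zf9) (kf xf24 yf47 zf29) (kf xf28 yf12 zf31) (kf xf21 yf13 zf20) (kf xf27 yf33 zf19) (kf xf26 yf25 zf57) (kf xf29 yf29 zf1) (kf xf21 yf15 zf36) (kf xf21 yf15 zf40) (kf xf29 yf30 zf6)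 (kf xf17 yf15 zf35) (kf xf18 yf54 zf54) (kf xf30 yf5 zf35) (kf xf21 yf15 zf29) (kf xf28 yf43 zf32) (kf xf17 yf15 zf40) (kf xf21 yf20 zf43) (kf xf29 yf48 zf51) (kf xf26 yf47 zf2) (kf xf21 yf31 zf48) (kf xf21 yf31 zf54) (kf xf21 yf31 zf55) (kf xf21 yf31 zf56) (kf xf17 yf53 zf60) (kf xf26 yf16 zf53) (kf xf21 yf32 zf15) (kf xf21 yf32 zf18) (kf xf21 yf27 zf29) (kf xf21 yf33 zf1) (kf xf20 yf19 zf23) (kf xf21 yf45 zf13) (kf xf19 yf52 zf56) (kf xf21 yf28 zf29) (kf xf21 yf59 zf7) (kf xf26 yf5 zf36) (kf xf26 yf6 zf2) (kf xf26 yf6 zf4)) (@D3.rec (fun _ => Pt) (kf xf26 yf6 zf6) (kf xf26 yf6 zf7) (kf xf26 yf6 zf8) (kf xf26 yf4 zf16) (kf xf20 yf15 zf5) (kf xf18 yf10 zf60) (kf xf18 yf10 zf61) (kf xf17 yf19 zf38) (kf xf18 yf54 zf35) (kf xf25 yf30 zf52) (kf xf17 yf19 zf20) (kf xf17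 yf19 zf22) (kf xf21 yf39 zf13) (kf xf21 yf39 zf16) (kf xf21 yf39 zf33) (kf xf21 yf39 zf34) (kf xf21 yf39 zf35) (kf xf21 yf39 zf36) (kf xf25 yf5 zf47) (kf xf21 yf39 zf50) (kf xf27 yf21 zf19) (kf xf21 yf39 zf48) (kf xf31 yf56 zf9) (kf xf18 yf57 zf19) (kf xf22 yf6 zf32) (kf xf19 yf26 zf2) (kf xf17 yf18 zf37) (kf xf17 yf18 zf40) (kf xf27 yf59 zf58) (kf xf17 yf18 zf42) (kf xf17 yf18 zf44) (kf xf17 yf18 zf61) (kf xf24 yf14 zf27) (kf xf24 yf14 zf28) (kf xf24 yf14 zf26) (kf xf20 yf34 zf16) (kf xf24 yf14 zf30) (kf xf21 yf39 zf58) (kf xf27 yf11 zf1) (kf xf27 yf11 zf2) (kf xf21 yf46 zf21) (kf xf25 yf53 zf27) (kf xf23 yf48 zf54) (kf xf32 yf20 zf13) (kf xf22 yf41 zf33) (kf xf27 yf16 zf57) (kf xf23 yf48 zf56) (kf xf22 yf7 zf9) (kf xf23 yf48 zf58) (kf xf32 yf20 zf20) (kf xf17 yf24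 zf30) (kf xf17 yf17 zf24) (kf xf30 yf15 zf9) (kf xf30 yf5 zf7) (kf xf30 yf5 zf6) (kf xf17 yf17 zf29) (kf xf30 yf5 zf4) (kf xf32 yf20 zf24) (kf xf17 yf17 zf31) (kf xf24 yf1 zf46) (kf xf29 yf9 zf18) (kf xf24 yf1 zf51)) (@D3.rec (fun _ => Pt) (kf xf29 yf9 zf25) (kf xf30 yf19 zf13) (kf xf32 yf19 zf28) (kf xf32 yf19 zf27) (kf xf17 yf17 zf36) (kf xf30 yf5 zf57) (kf xf28 yf52 zf5) (kf xf30 yf5 zf50) (kf xf32 yf20 zf36) (kf xf32 yf19 zf29) (kf xf30 yf39 zf22) (kf xf32 yf19 zf30) (kf xf21 yf38 zf29) (kf xf21 yf38 zf30) (kf xf21 yf38 zf36) (kf xf30 yf38 zf43) (kf xf30 yf28 zf48) (kf xf30 yf28 zf51) (kf xf20 yf43 zf14) (kf xf29 yf38 zf52) (kf xf28 yf25 zf5) (kf xf27 yf9 zf44) (kf xf32 yf19 zf31) (kf xf32 yf20 zf50) (kf xf21 yf40 zf7) (kf xf30 yf19 zf10) (kf xf32 yf20 zf54) (kf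 xf17 yf17 zf47) (kf xf18 yf0 zf15) (kf xf20 yf44 zf14) (kf xf20 yf44 zf16) (kf xf20 yf44 zf15) (kf xf22 yf1 zf41) (kf xf22 yf24 zf29) (kf xf17 yf26 zf37) (kf xf22 yf1 zf43) (kf xf17 yf27 zf38) (kf xf17 yf27 zf30) (kf xf17 yf27 zf28) (kf xf22 yf1 zf50) (kf xf22 yf1 zf51) (kf xf17 yf27 zf37) (kf xf17 yf26 zf39) (kf xf31 yf20 zf28) (kf xf29 yf56 zf2) (kf xf29 yf56 zf3) (kf xf29 yf56 zf4) (kf xf25 yf57 zf50) (kf xf29 yf56 zf5) (kf xf29 yf56 zf6) (kf xf25 yf56 zf52) (kf xf27 yf18 zf41) (kf xf27 yf18 zf39) (kf xf27 yf18 zf40) (kf xf27 yf18 zf31) (kf xf31 yf20 zf30) (kf xf17 yf28 zf24) (kf xf17 yf18 zf5) (kf xf28 yf13 zf12) (kf xf29 yf24 zf30) (kf xf28 yf18 zf59) (kf xf30 yf5 zf37)) (@D3.rec (fun _ => Pt) (kf xf27 yf2 zf51) (kf xf27 yf12 zf1) (kf xf28 yf0 zf44) (kf xf28 yf9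 zf18) (kf xf28 yf16 zf48) (kf xf18 yf48 zf12) (kf xf20 yf40 zf61) (kf xf31 yf17 zf4) (kf xf26 yf57 zf12) (kf xf18 yf47 zf54) (kf xf27 yf10 zf50) (kf xf21 yf16 zf50) (kf xf27 yf19 zf14) (kf xf18 yf57 zf50) (kf xf22 yf25 zf47) (kf xf29 yf28 zf54) (kf xf29 yf21 zf11) (kf xf23 yf48 zf30) (kf xf29 yf28 zf56) (kf xf30 yf19 zf8) (kf xf17 yf18 zf34) (kf xf28 yf13 zf56) (kf xf32 yf20 zf6) (kf xf27 yf9 zf5) (kf xf17 yf18 zf38) (kf xf32 yf20 zf8) (kf xf32 yf21 zf20) (kf xf30 yf23 zf35) (kf xf31 yf24 zf9) (kf xf19 yf52 zf26) (kf xf31 yf24 zf10) (kf xf32 yf15 zf5) (kf xf30 yf28 zf38) (kf xf31 yf18 zf8) (kf xf30 yf39 zf1) (kf xf17 yf18 zf45) (kf xf22 yf1 zf3) (kf xf22 yf1 zf2) (kf xf32 yf21 zf24) (kf xf17 yf18 zf46) (kf xf17 yf18 zf48) (kf xf27 yf14 zf25) (kf xf17 yf18 zf50) (kf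 xf31 yf31 zf57) (kf xf28 yf17 zf28) (kf xf28 yf17 zf26) (kf xf31 yf13 zf57) (kf xf29 yf48 zf9) (kf xf29 yf48 zf11) (kf xf18 yf48 zf56) (kf xf23 yf48 zf43) (kf xf27 yf13 zf41) (kf xf29 yf1 zf59) (kf xf27 yf13 zf40) (kf xf32 yf19 zf26) (kf xf32 yf19 zf25) (kf xf30 yf19 zf9) (kf xf23 yf46 zf31) (kf xf17 yf18 zf59) (kf xf32 yf20 zf9) (kf xf32 yf20 zf10) (kf xf30 yf5 zf5)) (@D3.rec (fun _ => Pt) (kf xf29 yf14 zf38) (kf xf27 yf40 zf28) (kf xf28 yf47 zf27) (kf xf17 yf21 zf29) (kf xf28 yf37 zf34) (kf xf27 yf8 zf23) (kf xf32 yf20 zf0) (kf xf23 yf49 zf4) (kf xf17 yf21 zf58) (kf xf17 yf22 zf7) (kf xf22 yf8 zf11) (kf xf17 yf25 zf41) (kf xf28 yf13 zf39) (kf xf27 yf42 zf54) (kf xf23 yf49 zf21) (kf xf27 yf59 zf50) (kf xf31 yf27 zf59) (kf xf30 yf54 zf12) (kf xf17 yf23 zf11) (kf xf17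 yf19 zf40) (kf xf20 yf46 zf25) (kf xf17 yf52 zf30) (kf xf20 yf46 zf46) (kf xf17 yf19 zf59) (kf xf17 yf19 zf58) (kf xf23 yf1 zf39) (kf xf17 yf19 zf50) (kf xf21 yf2 zf51) (kf xf17 yf19 zf53) (kf xf30 yf28 zf29) (kf xf17 yf19 zf55) (kf xf21 yf51 zf10) (kf xf28 yf27 zf19) (kf xf19 yf18 zf14) (kf xf28 yf32 zf31) (kf xf24 yf12 zf56) (kf xf26 yf17 zf20) (kf xf17 yf19 zf60) (kf xf32 yf15 zf51) (kf xf29 yf14 zf56) (kf xf20 yf36 zf42) (kf xf18 yf56 zf61) (kf xf30 yf6 zf57) (kf xf32 yf9 zf1) (kf xf27 yf7 zf21) (kf xf30 yf27 zf33) (kf xf26 yf27 zf50) (kf xf28 yf17 zf7) (kf xf26 yf27 zf51) (kf xf29 yf32 zf4) (kf xf22 yf52 zf22) (kf xf18 yf21 zf8) (kf xf17 yf25 zf3) (kf xf17 yf25 zf4) (kf xf17 yf25 zf9) (kf xf17 yf25 zf10) (kf xf17 yf25 zf6) (kf xf31 yf34 zf49) (kf xf17 yf20 zf15)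 (kf xf17 yf22 zf57) (kf xf17 yf25 zf45) (kf xf30 yf51 zf8)) (@D3.rec (fun _ => Pt) (kf xf17 yf25 zf48) (kf xf17 yf25 zf35) (kf xf26 yf3 zf44) (kf xf17 yf25 zf51) (kf xf17 yf25 zf50) (kf xf17 yf20 zf22) (kf xf17 yf26 zf1) (kf xf28 yf17 zf13) (kf xf17 yf26 zf3) (kf xf25 yf57 zf44) (kf xf17 yf26 zf6) (kf xf17 yf20 zf27) (kf xf30 yf43 zf40) (kf xf30 yf48 zf16) (kf xf17 yf20 zf57) (kf xf17 yf26 zf48) (kf xf29 yf54 zf52) (kf xf22 yf6 zf33) (kf xf17 yf27 zf4) (kf xf31 yf13 zf54) (kf xf21 yf26 zf40) (kf xf18 yf5 zf31) (kf xf26 yf15 zf44) (kf xf27 yf31 zf44) (kf xf20 yf46 zf15) (kf xf21 yf52 zf55) (kf xf20 yf23 zf45) (kf xf22 yf1 zf5) (kf xf22 yf1 zf6) (kf xf22 yf34 zf16) (kf xf22 yf0 zf31) (kf xf24 yf6 zf15) (kf xf27 yf15 zf25) (kf xf25 yf18 zf50) (kf xf29 yf40 zf12) (kf xf17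 yf20 zf55) (kf xf23 yf58 zf28) (kf xf17 yf21 zf9) (kf xf17 yf21 zf6) (kf xf22 yf32 zf12) (kf xf31 yf13 zf25) (kf xf17 yf31 zf16) (kf xf30 yf11 zf3) (kf xf27 yf55 zf56) (kf xf29 yf1 zf15) (kf xf19 yf52 zf51) (kf xf21 yf8 zf5) (kf xf29 yf39 zf25) (kf xf28 yf37 zf12) (kf xf19 yf15 zf55) (kf xf27 yf8 zf10) (kf xf26 yf35 zf7) (kf xf17 yf21 zf15) (kf xf23 yf11 zf32) (kf xf20 yf45 zf58) (kf xf17 yf28 zf39) (kf xf17 yf28 zf40) (kf xf26 yf40 zf38) (kf xf30 yf56 zf52) (kf xf21 yf58 zf54) (kf xf21 yf58 zf53) (kf xf21 yf46 zf26)) (@D3.rec (fun _ => Pt) (kf xf17 yf28 zf61) (kf xf27 yf6 zf38) (kf xf27 yf6 zf39) (kf xf25 yf54 zf20) (kf xf17 yf21 zf42) (kf xf32 yf6 zf18) (kf xf26 yf16 zf47) (kf xf19 yf37 zf11) (kf xf25 yf53 zf59) (kf xf25 yf53 zf61) (kf xf20 yf23 zf48) (kf xf29 yf55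 zf56) (kf xf23 yf50 zf0) (kf xf19 yf23 zf12) (kf xf20 yf38 zf14) (kf xf23 yf47 zf16) (kf xf30 yf29 zf61) (kf xf25 yf21 zf8) (kf xf17 yf21 zf61) (kf xf23 yf51 zf8) (kf xf21 yf39 zf17) (kf xf21 yf39 zf18) (kf xf21 yf39 zf19) (kf xf28 yf58 zf8) (kf xf28 yf58 zf11) (kf xf28 yf49 zf28) (kf xf17 yf29 zf5) (kf xf17 yf29 zf6) (kf xf25 yf32 zf14) (kf xf25 yf29 zf13) (kf xf26 yf44 zf33) (kf xf17 yf22 zf15) (kf xf30 yf12 zf36) (kf xf22 yf9 zf24) (kf xf17 yf22 zf13) (kf xf30 yf17 zf11) (kf xf29 yf56 zf20) (kf xf22 yf11 zf34) (kf xf25 yf4 zf11) (kf xf18 yf1 zf46) (kf xf29 yf21 zf27) (kf xf29 yf50 zf3) (kf xf31 yf29 zf14) (kf xf32 yf19 zf5) (kf xf17 yf22 zf24) (kf xf27 yf57 zf52) (kf xf17 yf22 zf28) (kf xf17 yf22 zf47) (kf xf17 yf22 zf42) (kf xf17 yf22 zf43) (kf xf24 yf50 zf55) (kf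 xf26 yf52 zf32) (kf xf29 yf38 zf55) (kf xf23 yf42 zf27) (kf xf27 yf42 zf53) (kf xf17 yf22 zf37) (kf xf26 yf51 zf36) (kf xf20 yf47 zf3) (kf xf29 yf2 zf51) (kf xf18 yf23 zf31) (kf xf24 yf10 zf27) (kf xf31 yf20 zf35)) (@D3.rec (fun _ => Pt) (kf xf32 yf14 zf45) (kf xf27 yf8 zf1) (kf xf29 yf0 zf58) (kf xf31 yf20 zf34) (kf xf28 yf43 zf7) (kf xf31 yf17 zf52) (kf xf22 yf21 zf31) (kf xf28 yf51 zf20) (kf xf31 yf41 zf51) (kf xf17 yf22 zf51) (kf xf18 yf54 zf14) (kf xf31 yf0 zf39) (kf xf21 yf43 zf40) (kf xf21 yf43 zf38) (kf xf21 yf54 zf6) (kf xf21 yf54 zf8) (kf xf26 yf51 zf15) (kf xf20 yf46 zf37) (kf xf29 yf24 zf35) (kf xf26 yf54 zf5) (kf xf28 yf26 zf31) (kf xf20 yf45 zf44) (kf xf28 yf18 zf35) (kf xf28 yf5 zf1) (kf xf28 yf20 zf52) (kf xf18 yf5 zf15) (kf xf27 yf43 zf7) (kf xf18 yf38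 zf0) (kf xf28 yf44 zf1) (kf xf23 yf1 zf42) (kf xf20 yf45 zf43) (kf xf23 yf22 zf4) (kf xf17 yf23 zf54) (kf xf17 yf23 zf55) (kf xf17 yf23 zf51) (kf xf23 yf1 zf40) (kf xf25 yf2 zf9) (kf xf17 yf32 zf56) (kf xf17 yf23 zf36) (kf xf23 yf1 zf41) (kf xf20 yf47 zf17) (kf xf20 yf47 zf15) (kf xf20 yf47 zf39) (kf xf20 yf47 zf20) (kf xf20 yf47 zf19) (kf xf22 yf13 zf60) (kf xf29 yf25 zf29) (kf xf17 yf23 zf44) (kf xf18 yf0 zf36) (kf xf30 yf18 zf6) (kf xf28 yf36 zf50) (kf xf23 yf29 zf0) (kf xf28 yf57 zf7) (kf xf17 yf58 zf8) (kf xf23 yf29 zf1) (kf xf28 yf14 zf33) (kf xf25 yf28 zf40) (kf xf24 yf17 zf4) (kf xf21 yf3 zf34) (kf xf21 yf13 zf56) (kf xf31 yf27 zf19) (kf xf23 yf1 zf12)) (@D3.rec (fun _ => Pt) (kf xf22 yf36 zf51) (kf xf32 yf22 zf3) (kf xf31 yf27 zf35) (kf xf17 yf23 zf58) (kf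 xf17 yf24 zf17) (kf xf29 yf55 zf5) (kf xf29 yf29 zf21) (kf xf23 yf10 zf24) (kf xf19 yf37 zf21) (kf xf29 yf49 zf15) (kf xf17 yf24 zf5) (kf xf22 yf14 zf29) (kf xf27 yf20 zf60) (kf xf17 yf24 zf8) (kf xf17 yf32 zf57) (kf xf30 yf6 zf50) (kf xf29 yf28 zf38) (kf xf32 yf22 zf7) (kf xf17 yf24 zf14) (kf xf28 yf49 zf20) (kf xf27 yf16 zf35) (kf xf17 yf31 zf56) (kf xf30 yf6 zf49) (kf xf17 yf24 zf15) (kf xf26 yf17 zf60) (kf xf26 yf49 zf23) (kf xf17 yf54 zf57) (kf xf17 yf24 zf20) (kf xf22 yf39 zf37) (kf xf20 yf20 zf15) (kf xf17 yf24 zf22) (kf xf28 yf16 zf31) (kf xf28 yf16 zf30) (kf xf32 yf19 zf33) (kf xf31 yf33 zf13) (kf xf28 yf52 zf1) (kf xf25 yf52 zf14) (kf xf32 yf19 zf35) (kf xf18 yf44 zf53) (kf xf28 yf51 zf57) (kf xf27 yf8 zf53) (kf xf27 yf8 zf51) (kf xf30 yf21 zf52) (kf xf18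 yf46 zf17) (kf xf18 yf46 zf20) (kf xf22 yf38 zf25) (kf xf30 yf21 zf24) (kf xf17 yf24 zf38) (kf xf29 yf37 zf52) (kf xf20 yf49 zf1) (kf xf29 yf37 zf50) (kf xf29 yf37 zf54) (kf xf29 yf33 zf61) (kf xf17 yf24 zf41) (kf xf27 yf14 zf41) (kf xf25 yf25 zf10) (kf xf20 yf0 zf21) (kf xf27 yf14 zf39) (kf xf27 yf14 zf44) (kf xf22 yf24 zf24) (kf xf27 yf14 zf42) (kf xf27 yf14 zf43)) (@D3.rec (fun _ => Pt) (kf xf32 yf22 zf16) (kf xf27 yf14 zf47) (kf xf27 yf14 zf46) (kf xf30 yf16 zf55) (kf xf17 yf24 zf49) (kf xf29 yf42 zf33) (kf xf26 yf39 zf61) (kf xf26 yf30 zf3) (kf xf26 yf42 zf44) (kf xf19 yf50 zf53) (kf xf28 yf18 zf21) (kf xf18 yf55 zf55) (kf xf28 yf14 zf32) (kf xf25 yf48 zf20) (kf xf25 yf48 zf24) (kf xf25 yf56 zf2) (kf xf25 yf56 zf3) (kf xf18 yf44 zf0) (kf xf26 yf42 zf48) (kf xf26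 yf35 zf53) (kf xf30 yf36 zf12) (kf xf32 yf8 zf15) (kf xf31 yf6 zf44) (kf xf31 yf16 zf55) (kf xf32 yf21 zf36) (kf xf27 yf8 zf41) (kf xf32 yf1 zf56) (kf xf23 yf57 zf2) (kf xf32 yf8 zf11) (kf xf22 yf37 zf53) (kf xf23 yf56 zf59) (kf xf31 yf45 zf28) (kf xf29 yf23 zf41) (kf xf29 yf41 zf47) (kf xf17 yf25 zf15) (kf xf27 yf14 zf49) (kf xf24 yf58 zf22) (kf xf17 yf26 zf20) (kf xf17 yf25 zf26) (kf xf27 yf13 zf57) (kf xf25 yf26 zf46) (kf xf27 yf13 zf54) (kf xf27 yf13 zf60) (kf xf27 yf13 zf61) (kf xf27 yf13 zf58) (kf xf30 yf28 zf52) (kf xf27 yf14 zf2) (kf xf27 yf14 zf1) (kf xf29 yf34 zf9) (kf xf27 yf14 zf35) (kf xf27 yf57 zf50) (kf xf29 yf42 zf32) (kf xf23 yf53 zf13) (kf xf18 yf56 zf12) (kf xf28 yf13 zf43) (kf xf28 yf13 zf42) (kf xf31 yf56 zf29) (kf xf17 yf25 zf31) (kf xf30 yf46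 zf6) (kf xf28 yf34 zf13) (kf xf27 yf2 zf60) (kf xf30 yf50 zf21)) (@D3.rec (fun _ => Pt) (kf xf28 yf9 zf51) (kf xf28 yf26 zf35) (kf xf31 yf13 zf12) (kf xf28 yf22 zf52) (kf xf31 yf16 zf18) (kf xf31 yf15 zf59) (kf xf32 yf22 zf24) (kf xf30 yf36 zf10) (kf xf32 yf22 zf35) (kf xf17 yf25 zf46) (kf xf29 yf42 zf8) (kf xf25 yf56 zf38) (kf xf25 yf56 zf40) (kf xf27 yf16 zf56) (kf xf27 yf16 zf52) (kf xf32 yf22 zf39) (kf xf17 yf25 zf49) (kf xf28 yf51 zf58) (kf xf32 yf18 zf44) (kf xf30 yf5 zf39) (kf xf32 yf22 zf43) (kf xf17 yf25 zf52) (kf xf32 yf22 zf46) (kf xf27 yf59 zf44) (kf xf17 yf25 zf56) (kf xf27 yf10 zf32) (kf xf25 yf57 zf43) (kf xf27 yf56 zf23) (kf xf30 yf24 zf31) (kf xf29 yf38 zf23) (kf xf23 yf54 zf41) (kf xf28 yf22 zf35) (kf xf28 yf22 zf37) (kf xf30 yf54 zf49) (kf xf32 yf22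 zf47) (kf xf28 yf19 zf36) (kf xf28 yf49 zf21) (kf xf17 yf26 zf4) (kf xf24 yf15 zf6) (kf xf28 yf32 zf27) (kf xf28 yf32 zf25) (kf xf20 yf55 zf27) (kf xf20 yf55 zf32) (kf xf28 yf32 zf11) (kf xf28 yf32 zf10) (kf xf17 yf26 zf14) (kf xf17 yf26 zf13) (kf xf32 yf20 zf4) (kf xf17 yf26 zf12) (kf xf23 yf8 zf28) (kf xf30 yf46 zf58) (kf xf32 yf20 zf5) (kf xf29 yf28 zf12) (kf xf29 yf37 zf40) (kf xf20 yf50 zf37) (kf xf30 yf18 zf50) (kf xf31 yf35 zf34) (kf xf31 yf34 zf53) (kf xf25 yf6 zf12) (kf xf17 yf26 zf17) (kf xf19 yf28 zf54) (kf xf19 yf28 zf59)) (@D3.rec (fun _ => Pt) (kf xf22 yf1 zf46) (kf xf32 yf22 zf29) (kf xf17 yf26 zf38) (kf xf30 yf11 zf38) (kf xf30 yf20 zf23) (kf xf30 yf20 zf24) (kf xf31 yf31 zf6) (kf xf21 yf16 zf49) (kf xf22 yf23 zf38) (kf xf30 yf15 zf50) (kf xf29 yf33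 zf19) (kf xf31 yf31 zf9) (kf xf29 yf34 zf25) (kf xf22 yf26 zf5) (kf xf31 yf19 zf13) (kf xf32 yf19 zf38) (kf xf32 yf0 zf52) (kf xf25 yf8 zf15) (kf xf25 yf8 zf6) (kf xf32 yf0 zf53) (kf xf30 yf49 zf12) (kf xf30 yf15 zf36) (kf xf30 yf15 zf37) (kf xf32 yf19 zf11) (kf xf22 yf24 zf31) (kf xf17 yf26 zf35) (kf xf30 yf16 zf4) (kf xf28 yf48 zf53) (kf xf32 yf11 zf10) (kf xf30 yf16 zf5) (kf xf32 yf23 zf9) (kf xf30 yf30 zf61) (kf xf32 yf22 zf57) (kf xf29 yf46 zf28) (kf xf31 yf20 zf18) (kf xf27 yf13 zf20) (kf xf20 yf45 zf11) (kf xf28 yf35 zf53) (kf xf24 yf9 zf1) (kf xf27 yf55 zf42) (kf xf24 yf0 zf49) (kf xf20 yf32 zf32) (kf xf32 yf23 zf13) (kf xf22 yf6 zf43) (kf xf27 yf55 zf3) (kf xf27 yf55 zf13) (kf xf31 yf59 zf51) (kf xf19 yf22 zf61) (kf xf28 yf36 zf8) (kf xf17 yf26 zf60) (kf xf22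 yf6 zf56) (kf xf31 yf59 zf54) (kf xf27 yf15 zf14) (kf xf29 yf1 zf60) (kf xf18 yf45 zf2) (kf xf24 yf7 zf41) (kf xf27 yf15 zf13) (kf xf27 yf6 zf45) (kf xf30 yf5 zf48) (kf xf17 yf27 zf5) (kf xf20 yf46 zf6) (kf xf22 yf7 zf21)) (@D3.rec (fun _ => Pt) (kf xf17 yf27 zf32) (kf xf17 yf27 zf33) (kf xf17 yf27 zf34) (kf xf31 yf20 zf26) (kf xf17 yf29 zf49) (kf xf17 yf29 zf56) (kf xf17 yf29 zf57) (kf xf21 yf59 zf59) (kf xf21 yf59 zf60) (kf xf22 yf0 zf11) (kf xf31 yf31 zf35) (kf xf22 yf1 zf40) (kf xf22 yf1 zf39) (kf xf22 yf0 zf18) (kf xf22 yf0 zf19) (kf xf22 yf0 zf20) (kf xf22 yf0 zf21) (kf xf21 yf26 zf12) (kf xf29 yf56 zf38) (kf xf30 yf19 zf33) (kf xf29 yf50 zf15) (kf xf19 yf53 zf42) (kf xf27 yf19 zf48) (kf xf29 yf55 zf60) (kf xf30 yf3 zf53) (kf xf28 yf58 zf58) (kf xf29 yf5 zf48)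 (kf xf29 yf9 zf16) (kf xf29 yf0 zf35) (kf xf26 yf36 zf60) (kf xf31 yf56 zf1) (kf xf28 yf58 zf23) (kf xf21 yf42 zf18) (kf xf29 yf48 zf48) (kf xf28 yf58 zf28) (kf xf31 yf52 zf20) (kf xf24 yf39 zf59) (kf xf20 yf57 zf54) (kf xf32 yf14 zf1) (kf xf17 yf27 zf39) (kf xf25 yf6 zf28) (kf xf25 yf6 zf29) (kf xf19 yf45 zf49) (kf xf29 yf56 zf31) (kf xf25 yf28 zf56) (kf xf27 yf1 zf45) (kf xf27 yf48 zf17) (kf xf29 yf56 zf32) (kf xf25 yf28 zf57) (kf xf27 yf1 zf46) (kf xf29 yf56 zf33) (kf xf26 yf16 zf50) (kf xf21 yf31 zf35) (kf xf27 yf1 zf48) (kf xf27 yf1 zf49) (kf xf27 yf1 zf50) (kf xf27 yf1 zf51) (kf xf27 yf1 zf52) (kf xf21 yf49 zf30) (kf xf24 yf34 zf47) (kf xf21 yf46 zf18) (kf xf27 yf3 zf52)) (@D3.rec (fun _ => Pt) (kf xf29 yf55 zf61) (kf xf29 yf51 zf44) (kf xf32 yf1 zf17) (kf xf29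 yf5 zf47) (kf xf25 yf13 zf28) (kf xf29 yf56 zf41) (kf xf29 yf56 zf42) (kf xf25 yf56 zf61) (kf xf29 yf56 zf43) (kf xf29 yf56 zf44) (kf xf29 yf56 zf45) (kf xf25 yf53 zf46) (kf xf25 yf57 zf10) (kf xf25 yf57 zf51) (kf xf29 yf56 zf46) (kf xf29 yf56 zf47) (kf xf29 yf56 zf48) (kf xf25 yf30 zf29) (kf xf29 yf56 zf49) (kf xf25 yf57 zf39) (kf xf25 yf53 zf45) (kf xf29 yf56 zf50) (kf xf29 yf56 zf51) (kf xf32 yf23 zf44) (kf xf31 yf27 zf39) (kf xf29 yf56 zf53) (kf xf29 yf5 zf31) (kf xf29 yf49 zf35) (kf xf31 yf58 zf3) (kf xf29 yf56 zf56) (kf xf29 yf56 zf57) (kf xf27 yf7 zf54) (kf xf31 yf58 zf8) (kf xf29 yf5 zf25) (kf xf17 yf28 zf16) (kf xf29 yf57 zf3) (kf xf29 yf57 zf4) (kf xf19 yf46 zf22) (kf xf19 yf46 zf30) (kf xf27 yf7 zf52) (kf xf27 yf7 zf53) (kf xf27 yf7 zf51) (kf xf32 yf23 zf56)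 (kf xf21 yf17 zf43) (kf xf21 yf17 zf42) (kf xf32 yf23 zf57) (kf xf17 yf28 zf22) (kf xf29 yf5 zf45) (kf xf29 yf36 zf23) (kf xf26 yf4 zf47) (kf xf17 yf28 zf49) (kf xf19 yf11 zf26) (kf xf17 yf28 zf51) (kf xf17 yf29 zf3) (kf xf32 yf0 zf56) (kf xf27 yf1 zf41) (kf xf17 yf28 zf53) (kf xf24 yf1 zf31) (kf xf19 yf6 zf49) (kf xf22 yf41 zf2) (kf xf32 yf23 zf59) (kf xf24 yf26 zf21)) (@D3.rec (fun _ => Pt) (kf xf23 yf49 zf31) (kf xf19 yf41 zf18) (kf xf29 yf9 zf17) (kf xf21 yf16 zf44) (kf xf30 yf17 zf30) (kf xf29 yf59 zf0) (kf xf29 yf9 zf22) (kf xf29 yf9 zf23) (kf xf24 yf26 zf51) (kf xf23 yf49 zf29) (kf xf26 yf41 zf30) (kf xf28 yf50 zf30) (kf xf19 yf52 zf1) (kf xf19 yf52 zf3) (kf xf27 yf8 zf12) (kf xf26 yf38 zf34) (kf xf32 yf24 zf4) (kf xf19 yf11 zf25) (kf xf17 yf28 zf47) (kf xf21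 yf16 zf52) (kf xf31 yf56 zf25) (kf xf21 yf17 zf9) (kf xf26 yf40 zf29) (kf xf26 yf33 zf61) (kf xf31 yf34 zf55) (kf xf28 yf56 zf47) (kf xf32 yf18 zf59) (kf xf32 yf23 zf58) (kf xf28 yf43 zf16) (kf xf17 yf28 zf57) (kf xf21 yf58 zf4) (kf xf28 yf31 zf23) (kf xf25 yf56 zf32) (kf xf25 yf56 zf33) (kf xf21 yf17 zf6) (kf xf31 yf26 zf58) (kf xf32 yf0 zf55) (kf xf21 yf53 zf20) (kf xf25 yf12 zf9) (kf xf25 yf13 zf12) (kf xf32 yf21 zf46) (kf xf26 yf44 zf40) (kf xf21 yf17 zf4) (kf xf21 yf17 zf8) (kf xf32 yf24 zf10) (kf xf29 yf50 zf37) (kf xf30 yf9 zf39) (kf xf21 yf50 zf40) (kf xf27 yf17 zf22) (kf xf25 yf45 zf12) (kf xf21 yf46 zf40) (kf xf21 yf59 zf4) (kf xf21 yf59 zf5) (kf xf21 yf58 zf61) (kf xf21 yf59 zf0) (kf xf21 yf59 zf2) (kf xf21 yf39 zf3) (kf xf17 yf29 zf41) (kf xf17 yf29 zf39)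 (kf xf25 yf33 zf29) (kf xf25 yf32 zf52) (kf xf29 yf48 zf37)) (@D3.rec (fun _ => Pt) (kf xf27 yf29 zf48) (kf xf17 yf29 zf43) (kf xf21 yf58 zf11) (kf xf30 yf7 zf39) (kf xf31 yf49 zf0) (kf xf21 yf58 zf9) (kf xf21 yf58 zf12) (kf xf17 yf30 zf34) (kf xf31 yf28 zf0) (kf xf31 yf54 zf43) (kf xf32 yf23 zf25) (kf xf17 yf30 zf14) (kf xf22 yf38 zf36) (kf xf20 yf14 zf42) (kf xf21 yf57 zf22) (kf xf21 yf57 zf23) (kf xf17 yf58 zf7) (kf xf18 yf10 zf9) (kf xf26 yf52 zf4) (kf xf20 yf0 zf57) (kf xf22 yf11 zf42) (kf xf25 yf17 zf50) (kf xf22 yf6 zf0) (kf xf30 yf5 zf9) (kf xf30 yf5 zf11) (kf xf25 yf17 zf53) (kf xf29 yf32 zf49) (kf xf17 yf44 zf50) (kf xf26 yf16 zf26) (kf xf18 yf37 zf31) (kf xf27 yf38 zf47) (kf xf17 yf40 zf8) (kf xf21 yf54 zf60) (kf xf30 yf3 zf25) (kf xf27 yf31 zf11) (kf xf30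 yf35 zf53) (kf xf18 yf10 zf26) (kf xf28 yf6 zf26) (kf xf17 yf30 zf35) (kf xf29 yf32 zf51) (kf xf22 yf2 zf42) (kf xf21 yf48 zf44) (kf xf21 yf21 zf47) (kf xf20 yf2 zf50) (kf xf30 yf6 zf10) (kf xf22 yf2 zf31) (kf xf22 yf2 zf32) (kf xf22 yf2 zf34) (kf xf21 yf48 zf38) (kf xf31 yf29 zf6) (kf xf21 yf45 zf14) (kf xf17 yf31 zf0) (kf xf20 yf36 zf14) (kf xf30 yf2 zf28) (kf xf31 yf14 zf31) (kf xf26 yf11 zf20) (kf xf20 yf14 zf21) (kf xf29 yf43 zf8) (kf xf20 yf48 zf42) (kf xf30 yf28 zf34) (kf xf27 yf13 zf12) (kf xf27 yf55 zf55)) (@D3.rec (fun _ => Pt) (kf xf31 yf20 zf16) (kf xf21 yf8 zf38) (kf xf20 yf46 zf12) (kf xf20 yf46 zf11) (kf xf17 yf31 zf20) (kf xf29 yf1 zf21) (kf xf17 yf31 zf27) (kf xf21 yf16 zf3) (kf xf28 yf39 zf36) (kf xf24 yf12 zf1) (kf xf26 yf39 zf4) (kf xf19 yf50 zf26)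 (kf xf27 yf57 zf20) (kf xf20 yf45 zf31) (kf xf20 yf45 zf37) (kf xf30 yf24 zf54) (kf xf20 yf45 zf54) (kf xf29 yf7 zf26) (kf xf30 yf5 zf61) (kf xf27 yf6 zf20) (kf xf20 yf12 zf37) (kf xf20 yf45 zf8) (kf xf22 yf56 zf45) (kf xf24 yf6 zf20) (kf xf23 yf47 zf19) (kf xf32 yf24 zf17) (kf xf17 yf32 zf5) (kf xf22 yf4 zf49) (kf xf29 yf47 zf49) (kf xf24 yf7 zf12) (kf xf31 yf45 zf45) (kf xf20 yf43 zf50) (kf xf29 yf47 zf48) (kf xf26 yf44 zf24) (kf xf17 yf32 zf10) (kf xf25 yf49 zf46) (kf xf22 yf5 zf6) (kf xf23 yf53 zf12) (kf xf29 yf36 zf6) (kf xf32 yf23 zf19) (kf xf23 yf53 zf15) (kf xf19 yf49 zf45) (kf xf28 yf59 zf14) (kf xf28 yf59 zf17) (kf xf17 yf32 zf29) (kf xf24 yf18 zf44) (kf xf19 yf37 zf38) (kf xf19 yf49 zf33) (kf xf19 yf49 zf11) (kf xf29 yf2 zf32) (kf xf24 yf7 zf53) (kf xf24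 yf7 zf52) (kf xf26 yf44 zf21) (kf xf25 yf27 zf18) (kf xf32 yf21 zf58) (kf xf32 yf22 zf6) (kf xf30 yf6 zf48) (kf xf20 yf17 zf53) (kf xf20 yf7 zf38) (kf xf22 yf5 zf15) (kf xf20 yf46 zf22) (kf xf26 yf26 zf50)) (@D3.rec (fun _ => Pt) (kf xf28 yf48 zf4) (kf xf28 yf46 zf21) (kf xf21 yf9 zf42) (kf xf21 yf9 zf45) (kf xf21 yf27 zf58) (kf xf21 yf28 zf27) (kf xf21 yf28 zf28) (kf xf21 yf28 zf31) (kf xf21 yf27 zf61) (kf xf21 yf28 zf0) (kf xf21 yf28 zf1) (kf xf20 yf51 zf37) (kf xf27 yf59 zf34) (kf xf22 yf4 zf38) (kf xf22 yf4 zf39) (kf xf29 yf34 zf56) (kf xf22 yf5 zf36) (kf xf20 yf53 zf23) (kf xf22 yf5 zf26) (kf xf26 yf45 zf61) (kf xf22 yf5 zf41) (kf xf20 yf53 zf34) (kf xf25 yf25 zf21) (kf xf19 yf8 zf49) (kf xf28 yf16 zf52) (kf xf19 yf19 zf33) (kf xf17 yf33 zf52) (kf xf21 yf1 zf35)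 (kf xf18 yf13 zf59) (kf xf18 yf15 zf19) (kf xf21 yf23 zf59) (kf xf30 yf43 zf32) (kf xf21 yf23 zf60) (kf xf21 yf9 zf40) (kf xf21 yf9 zf17) (kf xf21 yf9 zf20) (kf xf20 yf20 zf40) (kf xf20 yf17 zf7) (kf xf20 yf23 zf38) (kf xf20 yf23 zf39) (kf xf22 yf6 zf44) (kf xf22 yf6 zf45) (kf xf22 yf6 zf46) (kf xf18 yf55 zf33) (kf xf31 yf48 zf59) (kf xf17 yf34 zf16) (kf xf18 yf1 zf15) (kf xf17 yf56 zf20) (kf xf19 yf58 zf37) (kf xf22 yf7 zf36) (kf xf19 yf58 zf6) (kf xf22 yf7 zf40) (kf xf25 yf4 zf34) (kf xf28 yf7 zf55) (kf xf28 yf7 zf54) (kf xf17 yf34 zf33) (kf xf22 yf6 zf19) (kf xf18 yf0 zf23) (kf xf28 yf19 zf11) (kf xf23 yf2 zf48) (kf xf22 yf6 zf9) (kf xf22 yf6 zf21)) (@D3.rec (fun _ => Pt) (kf xf17 yf35 zf1) (kf xf17 yf35 zf4) (kf xf17 yf35 zf5) (kf xf21 yf27 zf37) (kf xf22 yf8 zf21)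 (kf xf22 yf8 zf22) (kf xf22 yf8 zf24) (kf xf21 yf26 zf38) (kf xf31 yf13 zf20) (kf xf31 yf1 zf42) (kf xf32 yf24 zf21) (kf xf25 yf48 zf60) (kf xf29 yf12 zf50) (kf xf19 yf57 zf10) (kf xf28 yf58 zf43) (kf xf23 yf54 zf2) (kf xf23 yf54 zf0) (kf xf22 yf8 zf57) (kf xf22 yf9 zf2) (kf xf21 yf43 zf49) (kf xf21 yf4 zf36) (kf xf22 yf15 zf13) (kf xf22 yf15 zf12) (kf xf25 yf58 zf39) (kf xf29 yf21 zf58) (kf xf29 yf50 zf33) (kf xf25 yf51 zf6) (kf xf29 yf57 zf12) (kf xf29 yf57 zf13) (kf xf29 yf57 zf14) (kf xf29 yf57 zf15) (kf xf30 yf0 zf0) (kf xf29 yf57 zf16) (kf xf29 yf57 zf17) (kf xf29 yf57 zf18) (kf xf21 yf59 zf34) (kf xf21 yf46 zf8) (kf xf30 yf0 zf1) (kf xf17 yf35 zf33) (kf xf29 yf57 zf21) (kf xf32 yf24 zf34) (kf xf28 yf12 zf58) (kf xf28 yf12 zf59) (kf xf25 yf19 zf36) (kf xf25 yf19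 zf37) (kf xf24 yf1 zf22) (kf xf19 yf11 zf51) (kf xf19 yf11 zf52) (kf xf25 yf20 zf36) (kf xf25 yf59 zf50) (kf xf28 yf33 zf47) (kf xf28 yf33 zf20) (kf xf28 yf34 zf22) (kf xf28 yf32 zf48) (kf xf23 yf1 zf21) (kf xf28 yf32 zf49) (kf xf28 yf17 zf8) (kf xf28 yf32 zf53) (kf xf17 yf35 zf51) (kf xf25 yf41 zf45) (kf xf25 yf48 zf29) (kf xf25 yf48 zf31)) (@D3.rec (fun _ => Pt) (kf xf30 yf17 zf54) (kf xf31 yf47 zf24) (kf xf25 yf23 zf1) (kf xf31 yf47 zf25) (kf xf19 yf56 zf60) (kf xf19 yf38 zf20) (kf xf25 yf11 zf26) (kf xf29 yf16 zf8) (kf xf17 yf36 zf17) (kf xf17 yf36 zf15) (kf xf31 yf32 zf4) (kf xf30 yf18 zf3) (kf xf32 yf24 zf44) (kf xf19 yf9 zf35) (kf xf19 yf9 zf10) (kf xf19 yf9 zf46) (kf xf26 yf27 zf42) (kf xf17 yf36 zf9) (kf xf27 yf46 zf58) (kf xf31 yf50 zf20) (kf xf29 yf16 zf2)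 (kf xf17 yf36 zf11) (kf xf32 yf24 zf41) (kf xf26 yf13 zf56) (kf xf19 yf9 zf36) (kf xf31 yf25 zf4) (kf xf17 yf36 zf16) (kf xf17 yf36 zf19) (kf xf17 yf36 zf18) (kf xf31 yf57 zf12) (kf xf30 yf8 zf57) (kf xf30 yf1 zf58) (kf xf31 yf55 zf0) (kf xf31 yf46 zf45) (kf xf17 yf36 zf20) (kf xf25 yf30 zf47) (kf xf24 yf58 zf5) (kf xf17 yf38 zf33) (kf xf17 yf38 zf38) (kf xf17 yf38 zf41) (kf xf17 yf38 zf42) (kf xf17 yf38 zf5) (kf xf17 yf38 zf4) (kf xf17 yf36 zf31) (kf xf17 yf37 zf47) (kf xf17 yf54 zf7) (kf xf17 yf37 zf50) (kf xf17 yf37 zf54) (kf xf26 yf17 zf3) (kf xf30 yf51 zf48) (kf xf17 yf38 zf48) (kf xf17 yf36 zf39) (kf xf17 yf38 zf51) (kf xf17 yf38 zf52) (kf xf17 yf39 zf44) (kf xf24 yf45 zf3) (kf xf21 yf58 zf30) (kf xf31 yf7 zf8) (kf xf24 yf40 zf58) (kf xf17 yf39 zf18) (kf xf27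 yf26 zf29) (kf xf17 yf36 zf47)) (@D3.rec (fun _ => Pt) (kf xf17 yf39 zf24) (kf xf24 yf41 zf2) (kf xf24 yf45 zf1) (kf xf17 yf36 zf60) (kf xf32 yf5 zf24) (kf xf21 yf59 zf26) (kf xf21 yf33 zf53) (kf xf28 yf2 zf0) (kf xf26 yf14 zf23) (kf xf17 yf36 zf56) (kf xf27 yf25 zf36) (kf xf17 yf36 zf57) (kf xf25 yf49 zf38) (kf xf31 yf41 zf58) (kf xf17 yf39 zf16) (kf xf23 yf37 zf55) (kf xf27 yf26 zf46) (kf xf27 yf28 zf48) (kf xf27 yf28 zf49) (kf xf27 yf26 zf21) (kf xf27 yf26 zf17) (kf xf27 yf28 zf31) (kf xf17 yf41 zf28) (kf xf17 yf41 zf30) (kf xf17 yf41 zf26) (kf xf17 yf41 zf27) (kf xf29 yf50 zf57) (kf xf29 yf50 zf58) (kf xf21 yf0 zf18) (kf xf24 yf49 zf14) (kf xf26 yf11 zf17) (kf xf26 yf11 zf18) (kf xf21 yf57 zf18) (kf xf26 yf16 zf60) (kf xf27 yf27 zf16) (kf xf26 yf5 zf16) (kf xf27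 yf25 zf10) (kf xf26 yf4 zf32) (kf xf25 yf45 zf24) (kf xf25 yf45 zf23) (kf xf25 yf45 zf27) (kf xf23 yf34 zf50) (kf xf27 yf27 zf7) (kf xf31 yf35 zf23) (kf xf31 yf37 zf19) (kf xf31 yf37 zf20) (kf xf17 yf37 zf36) (kf xf27 yf27 zf13) (kf xf31 yf32 zf53) (kf xf27 yf27 zf11) (kf xf31 yf8 zf17) (kf xf17 yf37 zf44) (kf xf26 yf13 zf47) (kf xf30 yf5 zf29) (kf xf25 yf43 zf29) (kf xf30 yf58 zf49) (kf xf30 yf3 zf44) (kf xf27 yf27 zf46) (kf xf17 yf54 zf2) (kf xf21 yf37 zf9) (kf xf17 yf37 zf53) (kf xf27 yf28 zf24)) (@D3.rec (fun _ => Pt) (kf xf17 yf37 zf61) (kf xf17 yf37 zf60) (kf xf30 yf1 zf14) (kf xf17 yf37 zf55) (kf xf27 yf47 zf57) (kf xf27 yf28 zf33) (kf xf27 yf31 zf53) (kf xf27 yf28 zf22) (kf xf23 yf43 zf59) (kf xf28 yf2 zf32) (kf xf17 yf37 zf59) (kf xf25 yf48 zf34) (kf xf25 yf55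 zf58) (kf xf31 yf37 zf8) (kf xf28 yf3 zf44) (kf xf30 yf31 zf40) (kf xf17 yf38 zf0) (kf xf27 yf25 zf20) (kf xf26 yf21 zf7) (kf xf17 yf38 zf3) (kf xf32 yf24 zf51) (kf xf27 yf25 zf19) (kf xf32 yf24 zf48) (kf xf32 yf24 zf49) (kf xf18 yf8 zf28) (kf xf23 yf45 zf23) (kf xf18 yf6 zf33) (kf xf18 yf5 zf59) (kf xf17 yf38 zf21) (kf xf27 yf24 zf60) (kf xf29 yf24 zf18) (kf xf23 yf29 zf8) (kf xf17 yf39 zf20) (kf xf25 yf28 zf48) (kf xf24 yf44 zf50) (kf xf25 yf28 zf49) (kf xf25 yf28 zf50) (kf xf30 yf11 zf8) (kf xf21 yf37 zf0) (kf xf21 yf25 zf19) (kf xf25 yf32 zf45) (kf xf26 yf18 zf10) (kf xf27 yf46 zf17) (kf xf27 yf28 zf46) (kf xf18 yf8 zf34) (kf xf27 yf29 zf2) (kf xf27 yf25 zf16) (kf xf17 yf40 zf61) (kf xf27 yf29 zf7) (kf xf17 yf38 zf43) (kf xf24 yf45 zf49) (kf xf26 yf17 zf2) (kf xf17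 yf38 zf46) (kf xf27 yf49 zf9) (kf xf24 yf45 zf23) (kf xf25 yf41 zf61) (kf xf26 yf5 zf12) (kf xf21 yf49 zf7) (kf xf19 yf54 zf45) (kf xf24 yf44 zf30) (kf xf29 yf14 zf29) (kf xf23 yf35 zf55)) (@D3.rec (fun _ => Pt) (kf xf24 yf44 zf33) (kf xf18 yf4 zf33) (kf xf17 yf40 zf46) (kf xf26 yf11 zf44) (kf xf21 yf57 zf15) (kf xf24 yf45 zf9) (kf xf17 yf39 zf13) (kf xf27 yf25 zf42) (kf xf18 yf27 zf32) (kf xf32 yf24 zf53) (kf xf25 yf1 zf46) (kf xf27 yf25 zf49) (kf xf26 yf11 zf41) (kf xf27 yf25 zf47) (kf xf31 yf44 zf26) (kf xf32 yf25 zf5) (kf xf27 yf25 zf34) (kf xf31 yf34 zf16) (kf xf28 yf41 zf23) (kf xf24 yf54 zf61) (kf xf30 yf4 zf26) (kf xf21 yf58 zf43) (kf xf31 yf38 zf25) (kf xf29 yf59 zf42) (kf xf17 yf39 zf27) (kf xf25 yf13 zf30) (kf xf21 yf55 zf59) (kf xf31 yf6 zf21) (kf xf26 yf15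 zf24) (kf xf31 yf43 zf9) (kf xf31 yf42 zf57) (kf xf27 yf47 zf20) (kf xf17 yf39 zf51) (kf xf18 yf27 zf28) (kf xf23 yf35 zf53) (kf xf32 yf5 zf28) (kf xf27 yf28 zf25) (kf xf32 yf5 zf31) (kf xf31 yf24 zf19) (kf xf32 yf5 zf32) (kf xf32 yf24 zf57) (kf xf31 yf44 zf0) (kf xf17 yf42 zf52) (kf xf17 yf42 zf51) (kf xf32 yf5 zf33) (kf xf17 yf42 zf59) (kf xf27 yf25 zf57) (kf xf27 yf28 zf12) (kf xf27 yf4 zf49) (kf xf26 yf4 zf33) (kf xf17 yf40 zf12) (kf xf31 yf38 zf13) (kf xf27 yf28 zf37) (kf xf17 yf40 zf34) (kf xf27 yf30 zf48) (kf xf26 yf11 zf26) (kf xf27 yf28 zf40) (kf xf17 yf40 zf26) (kf xf25 yf1 zf13) (kf xf17 yf40 zf22) (kf xf31 yf44 zf38) (kf xf31 yf54 zf40)) (@D3.rec (fun _ => Pt) (kf xf27 yf28 zf13) (kf xf29 yf17 zf20) (kf xf25 yf1 zf9) (kf xf27 yf31 zf23) (kf xf17 yf40 zf30)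 (kf xf27 yf31 zf25) (kf xf26 yf48 zf15) (kf xf28 yf2 zf34) (kf xf17 yf40 zf36) (kf xf28 yf40 zf53) (kf xf31 yf49 zf61) (kf xf26 yf16 zf28) (kf xf27 yf27 zf47) (kf xf27 yf28 zf0) (kf xf27 yf29 zf56) (kf xf17 yf40 zf40) (kf xf32 yf3 zf44) (kf xf24 yf55 zf49) (kf xf17 yf40 zf54) (kf xf17 yf40 zf58) (kf xf17 yf40 zf57) (kf xf17 yf40 zf50) (kf xf27 yf26 zf7) (kf xf31 yf54 zf29) (kf xf27 yf25 zf61) (kf xf27 yf27 zf36) (kf xf32 yf25 zf13) (kf xf26 yf11 zf61) (kf xf17 yf45 zf25) (kf xf25 yf58 zf40) (kf xf26 yf12 zf12) (kf xf27 yf25 zf21) (kf xf26 yf16 zf31) (kf xf27 yf26 zf5) (kf xf17 yf41 zf4) (kf xf27 yf30 zf2) (kf xf25 yf1 zf12) (kf xf27 yf27 zf52) (kf xf31 yf11 zf60) (kf xf22 yf15 zf18) (kf xf27 yf27 zf56) (kf xf27 yf31 zf58) (kf xf31 yf11 zf43) (kf xf17 yf41 zf10) (kf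 xf27 yf48 zf49) (kf xf30 yf42 zf42) (kf xf27 yf26 zf43) (kf xf23 yf34 zf52) (kf xf27 yf25 zf17) (kf xf27 yf25 zf18) (kf xf32 yf24 zf50) (kf xf24 yf44 zf34) (kf xf27 yf29 zf8) (kf xf27 yf29 zf5) (kf xf27 yf29 zf6) (kf xf27 yf29 zf10) (kf xf27 yf29 zf9) (kf xf32 yf5 zf30) (kf xf24 yf55 zf28) (kf xf26 yf18 zf52) (kf xf29 yf38 zf46) (kf xf24 yf56 zf9)) (@D3.rec (fun _ => Pt) (kf xf31 yf43 zf11) (kf xf24 yf59 zf4) (kf xf27 yf26 zf45) (kf xf24 yf55 zf5) (kf xf17 yf41 zf35) (kf xf27 yf28 zf53) (kf xf27 yf28 zf54) (kf xf27 yf26 zf48) (kf xf27 yf28 zf52) (kf xf27 yf28 zf56) (kf xf27 yf28 zf55) (kf xf31 yf50 zf19) (kf xf26 yf12 zf52) (kf xf31 yf14 zf25) (kf xf21 yf23 zf61) (kf xf17 yf42 zf15) (kf xf17 yf42 zf17) (kf xf26 yf10 zf29) (kf xf21 yf23 zf57) (kf xf27 yf40 zf60) (kf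 xf23 yf30 zf50) (kf xf20 yf49 zf10) (kf xf19 yf36 zf35) (kf xf17 yf42 zf0) (kf xf21 yf23 zf50) (kf xf21 yf23 zf55) (kf xf21 yf24 zf3) (kf xf21 yf24 zf4) (kf xf26 yf59 zf54) (kf xf21 yf24 zf6) (kf xf21 yf24 zf8) (kf xf28 yf49 zf8) (kf xf28 yf47 zf25) (kf xf22 yf7 zf42) (kf xf31 yf40 zf61) (kf xf18 yf9 zf29) (kf xf24 yf21 zf59) (kf xf29 yf52 zf0) (kf xf21 yf17 zf52) (kf xf20 yf13 zf11) (kf xf26 yf11 zf0) (kf xf21 yf23 zf52) (kf xf23 yf31 zf55) (kf xf18 yf10 zf58) (kf xf18 yf10 zf59) (kf xf18 yf9 zf34) (kf xf18 yf9 zf35) (kf xf18 yf9 zf36) (kf xf27 yf20 zf0) (kf xf17 yf49 zf41) (kf xf28 yf10 zf3) (kf xf28 yf19 zf17) (kf xf17 yf42 zf58) (kf xf25 yf32 zf59) (kf xf21 yf57 zf17) (kf xf29 yf59 zf56) (kf xf27 yf28 zf14) (kf xf28 yf4 zf9) (kf xf26 yf11 zf42) (kf xf26 yf16 zf6)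 (kf xf26 yf11 zf46) (kf xf30 yf23 zf16)) (@D3.rec (fun _ => Pt) (kf xf30 yf23 zf15) (kf xf28 yf21 zf9) (kf xf27 yf28 zf35) (kf xf18 yf4 zf52) (kf xf25 yf9 zf31) (kf xf25 yf9 zf32) (kf xf25 yf9 zf33) (kf xf32 yf25 zf21) (kf xf25 yf43 zf59) (kf xf17 yf43 zf7) (kf xf32 yf25 zf22) (kf xf25 yf9 zf37) (kf xf31 yf51 zf8) (kf xf25 yf6 zf25) (kf xf25 yf30 zf21) (kf xf17 yf43 zf10) (kf xf20 yf41 zf37) (kf xf20 yf42 zf10) (kf xf28 yf49 zf23) (kf xf18 yf53 zf3) (kf xf25 yf9 zf3) (kf xf25 yf9 zf1) (kf xf19 yf34 zf58) (kf xf31 yf35 zf36) (kf xf26 yf1 zf36) (kf xf23 yf29 zf4) (kf xf17 yf43 zf32) (kf xf31 yf9 zf27) (kf xf21 yf54 zf54) (kf xf26 yf13 zf16) (kf xf21 yf54 zf55) (kf xf31 yf43 zf61) (kf xf17 yf43 zf50) (kf xf20 yf16 zf31) (kf xf30 yf45 zf44) (kf xf30 yf4 zf17) (kf xf17 yf43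 zf49) (kf xf26 yf11 zf38) (kf xf27 yf48 zf16) (kf xf21 yf42 zf13) (kf xf18 yf3 zf54) (kf xf17 yf43 zf54) (kf xf24 yf45 zf17) (kf xf17 yf43 zf57) (kf xf28 yf4 zf17) (kf xf26 yf12 zf41) (kf xf26 yf12 zf42) (kf xf22 yf15 zf17) (kf xf27 yf27 zf54) (kf xf22 yf15 zf20) (kf xf30 yf1 zf19) (kf xf31 yf42 zf44) (kf xf27 yf56 zf10) (kf xf25 yf32 zf47) (kf xf31 yf0 zf53) (kf xf17 yf44 zf7) (kf xf17 yf44 zf9) (kf xf27 yf48 zf47) (kf xf22 yf11 zf12) (kf xf22 yf11 zf13) (kf xf29 yf17 zf29) (kf xf27 yf31 zf47)) (@D3.rec (fun _ => Pt) (kf xf27 yf31 zf46) (kf xf18 yf4 zf35) (kf xf28 yf1 zf47) (kf xf21 yf26 zf3) (kf xf27 yf38 zf59) (kf xf27 yf38 zf32) (kf xf17 yf44 zf23) (kf xf27 yf45 zf40) (kf xf27 yf37 zf28) (kf xf18 yf29 zf27) (kf xf31 yf43 zf13) (kf xf27 yf20 zf34) (kf xf29 yf32 zf61)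 (kf xf24 yf44 zf12) (kf xf27 yf48 zf2) (kf xf26 yf13 zf22) (kf xf28 yf28 zf6) (kf xf19 yf2 zf8) (kf xf17 yf44 zf36) (kf xf30 yf24 zf58) (kf xf26 yf13 zf32) (kf xf32 yf25 zf29) (kf xf17 yf44 zf40) (kf xf27 yf28 zf3) (kf xf31 yf42 zf60) (kf xf27 yf28 zf5) (kf xf17 yf44 zf43) (kf xf31 yf42 zf58) (kf xf18 yf7 zf27) (kf xf27 yf47 zf18) (kf xf26 yf16 zf42) (kf xf23 yf22 zf41) (kf xf26 yf16 zf41) (kf xf25 yf15 zf40) (kf xf21 yf8 zf12) (kf xf25 yf16 zf35) (kf xf24 yf41 zf55) (kf xf19 yf53 zf22) (kf xf18 yf25 zf25) (kf xf22 yf9 zf59) (kf xf18 yf7 zf20) (kf xf24 yf56 zf6) (kf xf24 yf55 zf29) (kf xf28 yf21 zf10) (kf xf27 yf10 zf23) (kf xf25 yf10 zf56) (kf xf27 yf31 zf0) (kf xf27 yf30 zf61) (kf xf27 yf46 zf27) (kf xf27 yf48 zf27) (kf xf26 yf13 zf13) (kf xf26 yf14 zf50) (kf xf17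 yf45 zf26) (kf xf27 yf26 zf6) (kf xf29 yf39 zf18) (kf xf28 yf15 zf21) (kf xf27 yf46 zf1) (kf xf27 yf46 zf2) (kf xf27 yf28 zf41) (kf xf26 yf5 zf26) (kf xf28 yf9 zf23) (kf xf18 yf58 zf26)) (@D3.rec (fun _ => Pt) (kf xf24 yf28 zf37) (kf xf25 yf16 zf55) (kf xf18 yf51 zf54) (kf xf23 yf18 zf47) (kf xf27 yf33 zf46) (kf xf28 yf5 zf57) (kf xf27 yf33 zf48) (kf xf32 yf25 zf36) (kf xf27 yf33 zf50) (kf xf17 yf47 zf17) (kf xf18 yf54 zf40) (kf xf27 yf33 zf52) (kf xf18 yf9 zf38) (kf xf18 yf9 zf37) (kf xf18 yf9 zf43) (kf xf18 yf9 zf41) (kf xf27 yf56 zf33) (kf xf18 yf9 zf47) (kf xf18 yf9 zf46) (kf xf27 yf34 zf3) (kf xf28 yf8 zf6) (kf xf27 yf34 zf4) (kf xf27 yf34 zf6) (kf xf27 yf50 zf0) (kf xf18 yf53 zf52) (kf xf27 yf34 zf7) (kf xf32 yf7 zf33) (kf xf32 yf25 zf45) (kf xf32 yf25 zf44) (kf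 xf27 yf49 zf56) (kf xf17 yf46 zf3) (kf xf18 yf13 zf22) (kf xf23 yf50 zf26) (kf xf17 yf46 zf4) (kf xf18 yf13 zf28) (kf xf18 yf13 zf25) (kf xf18 yf13 zf26) (kf xf18 yf14 zf54) (kf xf18 yf13 zf30) (kf xf23 yf49 zf37) (kf xf17 yf46 zf7) (kf xf18 yf13 zf41) (kf xf18 yf13 zf42) (kf xf18 yf13 zf35) (kf xf18 yf13 zf36) (kf xf18 yf15 zf2) (kf xf27 yf34 zf30) (kf xf27 yf34 zf31) (kf xf31 yf39 zf12) (kf xf27 yf34 zf32) (kf xf27 yf34 zf34) (kf xf20 yf21 zf3) (kf xf17 yf47 zf27) (kf xf27 yf34 zf36) (kf xf27 yf34 zf37) (kf xf27 yf34 zf38) (kf xf17 yf47 zf35) (kf xf18 yf11 zf43) (kf xf27 yf34 zf28) (kf xf23 yf50 zf34) (kf xf17 yf47 zf33) (kf xf17 yf46 zf18)) (@D3.rec (fun _ => Pt) (kf xf18 yf30 zf56) (kf xf26 yf20 zf54) (kf xf29 yf50 zf27) (kf xf27 yf55 zf25) (kf xf32 yf26 zf5) (kf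 xf17 yf46 zf24) (kf xf32 yf26 zf6) (kf xf17 yf46 zf25) (kf xf24 yf53 zf56) (kf xf17 yf46 zf32) (kf xf30 yf39 zf35) (kf xf30 yf44 zf35) (kf xf28 yf9 zf30) (kf xf26 yf32 zf35) (kf xf31 yf56 zf6) (kf xf32 yf26 zf10) (kf xf20 yf21 zf35) (kf xf31 yf7 zf41) (kf xf17 yf46 zf35) (kf xf27 yf5 zf29) (kf xf28 yf4 zf37) (kf xf24 yf48 zf9) (kf xf32 yf26 zf15) (kf xf26 yf17 zf19) (kf xf27 yf54 zf12) (kf xf17 yf46 zf40) (kf xf27 yf35 zf5) (kf xf27 yf35 zf4) (kf xf31 yf42 zf24) (kf xf27 yf35 zf14) (kf xf27 yf35 zf15) (kf xf27 yf35 zf12) (kf xf27 yf35 zf13) (kf xf27 yf35 zf17) (kf xf27 yf35 zf16) (kf xf28 yf4 zf40) (kf xf27 yf35 zf19) (kf xf27 yf35 zf20) (kf xf17 yf51 zf1) (kf xf27 yf35 zf22) (kf xf26 yf38 zf30) (kf xf26 yf38 zf31) (kf xf19 yf0 zf40) (kf xf19 yf6 zf30) (kf xf26 yf17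 zf47) (kf xf26 yf19 zf50) (kf xf27 yf32 zf4) (kf xf27 yf51 zf50) (kf xf27 yf32 zf6) (kf xf32 yf26 zf32) (kf xf27 yf32 zf8) (kf xf27 yf34 zf12) (kf xf27 yf32 zf11) (kf xf18 yf13 zf23) (kf xf27 yf51 zf40) (kf xf28 yf7 zf47) (kf xf18 yf33 zf15) (kf xf18 yf13 zf16) (kf xf17 yf47 zf4) (kf xf18 yf31 zf15) (kf xf18 yf31 zf16) (kf xf18 yf33 zf21)) (@D3.rec (fun _ => Pt) (kf xf18 yf33 zf20) (kf xf19 yf50 zf50) (kf xf18 yf31 zf3) (kf xf27 yf32 zf19) (kf xf27 yf32 zf21) (kf xf27 yf54 zf35) (kf xf27 yf32 zf22) (kf xf27 yf32 zf25) (kf xf26 yf19 zf29) (kf xf28 yf6 zf12) (kf xf28 yf6 zf13) (kf xf18 yf35 zf22) (kf xf27 yf33 zf51) (kf xf17 yf47 zf14) (kf xf18 yf31 zf41) (kf xf18 yf34 zf32) (kf xf18 yf35 zf25) (kf xf18 yf31 zf40) (kf xf18 yf35 zf33) (kf xf18 yf35 zf34) (kf xf18 yf34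 zf45) (kf xf18 yf35 zf30) (kf xf18 yf35 zf31) (kf xf27 yf47 zf48) (kf xf20 yf21 zf27) (kf xf27 yf54 zf25) (kf xf25 yf3 zf34) (kf xf17 yf47 zf25) (kf xf27 yf32 zf58) (kf xf17 yf47 zf26) (kf xf27 yf32 zf46) (kf xf27 yf32 zf47) (kf xf27 yf32 zf49) (kf xf18 yf55 zf7) (kf xf27 yf32 zf50) (kf xf28 yf3 zf19) (kf xf27 yf32 zf53) (kf xf27 yf32 zf54) (kf xf27 yf32 zf55) (kf xf23 yf51 zf14) (kf xf21 yf13 zf25) (kf xf21 yf13 zf24) (kf xf20 yf21 zf24) (kf xf17 yf47 zf34) (kf xf32 yf26 zf0) (kf xf27 yf51 zf28) (kf xf27 yf54 zf7) (kf xf31 yf45 zf10) (kf xf30 yf44 zf34) (kf xf30 yf35 zf39) (kf xf27 yf51 zf8) (kf xf27 yf54 zf8) (kf xf30 yf45 zf53) (kf xf17 yf47 zf42) (kf xf32 yf26 zf38) (kf xf18 yf58 zf12) (kf xf18 yf48 zf19) (kf xf28 yf7 zf51) (kf xf18 yf58 zf11) (kf xf17 yf47 zf47)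 (kf xf27 yf35 zf2) (kf xf27 yf51 zf31)) (@D3.rec (fun _ => Pt) (kf xf27 yf51 zf32) (kf xf27 yf51 zf33) (kf xf27 yf34 zf60) (kf xf28 yf31 zf54) (kf xf27 yf33 zf27) (kf xf27 yf33 zf26) (kf xf17 yf47 zf52) (kf xf30 yf45 zf35) (kf xf20 yf27 zf22) (kf xf27 yf39 zf61) (kf xf17 yf47 zf57) (kf xf32 yf26 zf48) (kf xf27 yf33 zf31) (kf xf27 yf33 zf32) (kf xf27 yf33 zf29) (kf xf27 yf33 zf30) (kf xf27 yf33 zf34) (kf xf27 yf33 zf33) (kf xf27 yf51 zf38) (kf xf27 yf33 zf36) (kf xf27 yf33 zf37) (kf xf24 yf50 zf47) (kf xf27 yf33 zf39) (kf xf17 yf50 zf14) (kf xf17 yf50 zf20) (kf xf18 yf17 zf15) (kf xf31 yf28 zf12) (kf xf17 yf48 zf6) (kf xf17 yf49 zf23) (kf xf26 yf59 zf36) (kf xf17 yf49 zf26) (kf xf17 yf49 zf30) (kf xf17 yf49 zf34) (kf xf17 yf51 zf15) (kf xf17 yf51 zf26) (kf xf17 yf51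 zf28) (kf xf17 yf48 zf23) (kf xf17 yf51 zf32) (kf xf17 yf51 zf42) (kf xf29 yf40 zf36) (kf xf17 yf51 zf48) (kf xf17 yf51 zf55) (kf xf17 yf48 zf37) (kf xf17 yf48 zf38) (kf xf27 yf1 zf9) (kf xf25 yf50 zf33) (kf xf17 yf48 zf34) (kf xf25 yf47 zf23) (kf xf25 yf20 zf20) (kf xf32 yf18 zf48) (kf xf21 yf20 zf18) (kf xf17 yf48 zf39) (kf xf18 yf48 zf25) (kf xf17 yf52 zf19) (kf xf31 yf47 zf31) (kf xf26 yf40 zf46) (kf xf24 yf14 zf44) (kf xf26 yf41 zf7) (kf xf32 yf12 zf35) (kf xf28 yf44 zf51) (kf xf31 yf58 zf10) (kf xf28 yf44 zf53)) (@D3.rec (fun _ => Pt) (kf xf30 yf22 zf53) (kf xf24 yf39 zf41) (kf xf29 yf40 zf10) (kf xf28 yf39 zf41) (kf xf17 yf50 zf37) (kf xf28 yf36 zf37) (kf xf28 yf36 zf39) (kf xf29 yf31 zf40) (kf xf19 yf42 zf30) (kf xf18 yf10 zf25) (kf xf30 yf9 zf35) (kf xf29 yf22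 zf33) (kf xf17 yf49 zf5) (kf xf19 yf57 zf31) (kf xf28 yf36 zf46) (kf xf17 yf49 zf35) (kf xf28 yf10 zf28) (kf xf20 yf51 zf9) (kf xf27 yf37 zf35) (kf xf27 yf37 zf38) (kf xf27 yf49 zf47) (kf xf32 yf8 zf5) (kf xf31 yf38 zf19) (kf xf27 yf3 zf39) (kf xf27 yf37 zf48) (kf xf20 yf24 zf50) (kf xf17 yf49 zf17) (kf xf18 yf24 zf8) (kf xf26 yf28 zf3) (kf xf26 yf35 zf8) (kf xf19 yf12 zf46) (kf xf26 yf28 zf1) (kf xf19 yf12 zf40) (kf xf26 yf35 zf19) (kf xf27 yf37 zf44) (kf xf20 yf51 zf34) (kf xf31 yf47 zf1) (kf xf20 yf51 zf33) (kf xf17 yf49 zf29) (kf xf32 yf27 zf2) (kf xf17 yf49 zf37) (kf xf17 yf49 zf36) (kf xf27 yf50 zf18) (kf xf28 yf8 zf38) (kf xf30 yf18 zf13) (kf xf32 yf13 zf54) (kf xf29 yf2 zf22) (kf xf32 yf6 zf57) (kf xf24 yf34 zf15) (kf xf23 yf11 zf15) (kf xf17 yf49 zf38) (kf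 xf27 yf55 zf14) (kf xf19 yf17 zf36) (kf xf28 yf36 zf58) (kf xf28 yf36 zf56) (kf xf28 yf36 zf54) (kf xf26 yf59 zf30) (kf xf28 yf36 zf53) (kf xf31 yf24 zf34) (kf xf25 yf21 zf23) (kf xf26 yf37 zf44) (kf xf25 yf21 zf21)) (@D3.rec (fun _ => Pt) (kf xf19 yf42 zf18) (kf xf31 yf41 zf11) (kf xf26 yf54 zf20) (kf xf32 yf27 zf16) (kf xf32 yf27 zf18) (kf xf17 yf49 zf59) (kf xf29 yf14 zf24) (kf xf32 yf27 zf20) (kf xf17 yf49 zf60) (kf xf25 yf20 zf45) (kf xf19 yf20 zf20) (kf xf25 yf21 zf16) (kf xf25 yf21 zf15) (kf xf17 yf50 zf3) (kf xf25 yf47 zf14) (kf xf19 yf14 zf34) (kf xf28 yf7 zf53) (kf xf31 yf30 zf5) (kf xf31 yf58 zf11) (kf xf31 yf58 zf30) (kf xf31 yf58 zf28) (kf xf31 yf58 zf29) (kf xf31 yf17 zf15) (kf xf19 yf19 zf12) (kf xf23 yf44 zf3) (kf xf28 yf53 zf4) (kf xf29 yf23 zf11) (kf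 xf28 yf9 zf37) (kf xf27 yf31 zf8) (kf xf24 yf34 zf7) (kf xf26 yf10 zf33) (kf xf26 yf15 zf48) (kf xf28 yf36 zf47) (kf xf18 yf25 zf20) (kf xf28 yf19 zf15) (kf xf27 yf36 zf18) (kf xf30 yf7 zf8) (kf xf22 yf5 zf34) (kf xf27 yf36 zf19) (kf xf30 yf11 zf28) (kf xf26 yf59 zf22) (kf xf26 yf37 zf53) (kf xf26 yf35 zf36) (kf xf27 yf50 zf54) (kf xf27 yf36 zf34) (kf xf18 yf32 zf27) (kf xf18 yf20 zf46) (kf xf20 yf38 zf15) (kf xf27 yf36 zf24) (kf xf20 yf38 zf12) (kf xf18 yf20 zf54) (kf xf28 yf19 zf16) (kf xf26 yf59 zf12) (kf xf25 yf31 zf3) (kf xf30 yf11 zf6) (kf xf18 yf13 zf43) (kf xf32 yf26 zf25) (kf xf27 yf1 zf6) (kf xf27 yf38 zf43) (kf xf27 yf51 zf59) (kf xf27 yf53 zf14) (kf xf27 yf53 zf15)) (@D3.rec (fun _ => Pt) (kf xf20 yf11 zf14) (kf xf25 yf52 zf58) (kf xf25 yf35 zf20) (kf xf22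 yf21 zf43) (kf xf30 yf3 zf21) (kf xf19 yf59 zf18) (kf xf27 yf38 zf7) (kf xf27 yf38 zf6) (kf xf21 yf41 zf39) (kf xf25 yf20 zf9) (kf xf25 yf20 zf11) (kf xf19 yf59 zf23) (kf xf25 yf20 zf6) (kf xf25 yf20 zf5) (kf xf19 yf31 zf10) (kf xf25 yf9 zf25) (kf xf24 yf17 zf27) (kf xf32 yf3 zf40) (kf xf17 yf51 zf38) (kf xf30 yf17 zf52) (kf xf30 yf7 zf7) (kf xf17 yf51 zf39) (kf xf26 yf41 zf20) (kf xf18 yf35 zf40) (kf xf27 yf44 zf31) (kf xf27 yf46 zf15) (kf xf21 yf8 zf10) (kf xf27 yf44 zf32) (kf xf28 yf36 zf51) (kf xf21 yf8 zf8) (kf xf28 yf2 zf31) (kf xf18 yf0 zf48) (kf xf27 yf31 zf5) (kf xf32 yf25 zf10) (kf xf27 yf51 zf10) (kf xf17 yf51 zf56) (kf xf20 yf38 zf1) (kf xf27 yf3 zf50) (kf xf25 yf28 zf22) (kf xf27 yf49 zf44) (kf xf17 yf52 zf0) (kf xf21 yf41 zf6) (kf xf27 yf39 zf2) (kf xf27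 yf37 zf58) (kf xf27 yf39 zf1) (kf xf27 yf38 zf61) (kf xf27 yf48 zf25) (kf xf27 yf20 zf30) (kf xf32 yf25 zf12) (kf xf19 yf5 zf10) (kf xf27 yf55 zf41) (kf xf18 yf29 zf37) (kf xf18 yf25 zf36) (kf xf25 yf44 zf37) (kf xf19 yf11 zf9) (kf xf22 yf37 zf4) (kf xf25 yf10 zf31) (kf xf32 yf0 zf41) (kf xf25 yf6 zf31) (kf xf27 yf31 zf4) (kf xf19 yf12 zf15) (kf xf27 yf38 zf45)) (@D3.rec (fun _ => Pt) (kf xf27 yf52 zf38) (kf xf27 yf38 zf44) (kf xf27 yf38 zf42) (kf xf26 yf9 zf8) (kf xf26 yf9 zf45) (kf xf27 yf44 zf50) (kf xf30 yf3 zf22) (kf xf27 yf44 zf49) (kf xf23 yf20 zf7) (kf xf29 yf55 zf3) (kf xf17 yf53 zf3) (kf xf32 yf4 zf32) (kf xf19 yf53 zf56) (kf xf27 yf44 zf37) (kf xf28 yf43 zf58) (kf xf29 yf16 zf58) (kf xf28 yf43 zf56) (kf xf20 yf24 zf11) (kf xf20 yf55 zf50) (kf xf19 yf48 zf29)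 (kf xf29 yf7 zf10) (kf xf29 yf30 zf35) (kf xf26 yf32 zf19) (kf xf26 yf29 zf31) (kf xf29 yf28 zf20) (kf xf23 yf34 zf60) (kf xf26 yf12 zf54) (kf xf26 yf5 zf17) (kf xf17 yf54 zf0) (kf xf26 yf16 zf9) (kf xf18 yf37 zf4) (kf xf26 yf16 zf25) (kf xf26 yf15 zf2) (kf xf26 yf16 zf12) (kf xf18 yf36 zf42) (kf xf17 yf54 zf6) (kf xf25 yf29 zf53) (kf xf31 yf27 zf41) (kf xf18 yf28 zf38) (kf xf26 yf16 zf22) (kf xf23 yf51 zf2) (kf xf32 yf27 zf31) (kf xf17 yf54 zf11) (kf xf26 yf13 zf50) (kf xf26 yf13 zf51) (kf xf26 yf18 zf13) (kf xf26 yf13 zf41) (kf xf24 yf54 zf60) (kf xf26 yf13 zf40) (kf xf32 yf27 zf33) (kf xf20 yf2 zf40) (kf xf17 yf54 zf17) (kf xf26 yf17 zf18) (kf xf31 yf32 zf40) (kf xf17 yf54 zf25) (kf xf17 yf54 zf24) (kf xf26 yf16 zf17) (kf xf26 yf16 zf18) (kf xf26 yf16 zf16) (kf xf31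 yf39 zf21) (kf xf28 yf6 zf60) (kf xf27 yf35 zf9)) (@D3.rec (fun _ => Pt) (kf xf17 yf54 zf23) (kf xf26 yf32 zf13) (kf xf29 yf14 zf39) (kf xf31 yf14 zf39) (kf xf26 yf15 zf18) (kf xf26 yf15 zf19) (kf xf26 yf20 zf53) (kf xf26 yf15 zf22) (kf xf27 yf49 zf3) (kf xf28 yf27 zf36) (kf xf31 yf15 zf34) (kf xf17 yf54 zf30) (kf xf24 yf55 zf37) (kf xf24 yf55 zf56) (kf xf25 yf3 zf22) (kf xf26 yf18 zf25) (kf xf29 yf12 zf10) (kf xf17 yf54 zf37) (kf xf26 yf29 zf49) (kf xf23 yf4 zf39) (kf xf22 yf49 zf42) (kf xf26 yf19 zf10) (kf xf26 yf19 zf11) (kf xf31 yf42 zf37) (kf xf26 yf18 zf44) (kf xf29 yf37 zf24) (kf xf17 yf55 zf18) (kf xf20 yf1 zf30) (kf xf27 yf9 zf1) (kf xf26 yf12 zf58) (kf xf25 yf34 zf38) (kf xf23 yf39 zf60) (kf xf17 yf55 zf5) (kf xf29 yf18 zf57) (kf xf26 yf24 zf53) (kf xf24 yf28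 zf13) (kf xf31 yf42 zf2) (kf xf26 yf21 zf23) (kf xf23 yf38 zf26) (kf xf19 yf18 zf30) (kf xf27 yf44 zf51) (kf xf26 yf21 zf59) (kf xf18 yf2 zf49) (kf xf17 yf55 zf22) (kf xf26 yf44 zf48) (kf xf17 yf56 zf11) (kf xf17 yf56 zf14) (kf xf29 yf47 zf61) (kf xf30 yf37 zf32) (kf xf27 yf3 zf47) (kf xf17 yf55 zf47) (kf xf17 yf55 zf44) (kf xf29 yf58 zf42) (kf xf30 yf37 zf15) (kf xf31 yf10 zf59) (kf xf31 yf2 zf6) (kf xf20 yf24 zf58) (kf xf31 yf5 zf7) (kf xf29 yf58 zf38) (kf xf20 yf54 zf47) (kf xf27 yf29 zf19) (kf xf29 yf23 zf16)) (@D3.rec (fun _ => Pt) (kf xf31 yf3 zf19) (kf xf20 yf27 zf6) (kf xf30 yf34 zf0) (kf xf31 yf0 zf37) (kf xf17 yf58 zf49) (kf xf17 yf58 zf46) (kf xf26 yf55 zf16) (kf xf21 yf15 zf45) (kf xf23 yf3 zf29) (kf xf30 yf42 zf17) (kf xf23 yf42 zf31) (kf xf26 yf2 zf26)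 (kf xf30 yf2 zf43) (kf xf30 yf18 zf4) (kf xf29 yf17 zf45) (kf xf18 yf1 zf57) (kf xf17 yf56 zf22) (kf xf18 yf1 zf50) (kf xf17 yf56 zf23) (kf xf18 yf2 zf4) (kf xf29 yf26 zf37) (kf xf29 yf24 zf33) (kf xf17 yf56 zf38) (kf xf17 yf56 zf39) (kf xf29 yf26 zf38) (kf xf29 yf22 zf58) (kf xf27 yf56 zf1) (kf xf31 yf1 zf39) (kf xf32 yf27 zf52) (kf xf17 yf57 zf50) (kf xf20 yf5 zf47) (kf xf30 yf18 zf5) (kf xf21 yf50 zf21) (kf xf30 yf18 zf2) (kf xf18 yf2 zf23) (kf xf22 yf17 zf20) (kf xf23 yf10 zf6) (kf xf23 yf10 zf16) (kf xf26 yf24 zf0) (kf xf22 yf17 zf24) (kf xf26 yf24 zf3) (kf xf26 yf23 zf58) (kf xf26 yf23 zf59) (kf xf26 yf23 zf60) (kf xf26 yf24 zf1) (kf xf26 yf24 zf10) (kf xf28 yf23 zf39) (kf xf26 yf24 zf8) (kf xf25 yf11 zf46) (kf xf24 yf57 zf11) (kf xf28 yf21 zf14) (kf xf24 yf57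 zf9) (kf xf32 yf27 zf56) (kf xf24 yf57 zf12) (kf xf26 yf24 zf16) (kf xf26 yf24 zf17) (kf xf29 yf38 zf21) (kf xf24 yf57 zf7) (kf xf17 yf57 zf19) (kf xf26 yf24 zf20) (kf xf26 yf24 zf21) (kf xf25 yf11 zf37)) (@D3.rec (fun _ => Pt) (kf xf23 yf10 zf5) (kf xf22 yf17 zf25) (kf xf26 yf24 zf32) (kf xf21 yf1 zf55) (kf xf26 yf24 zf30) (kf xf28 yf0 zf15) (kf xf21 yf39 zf37) (kf xf22 yf54 zf16) (kf xf31 yf38 zf43) (kf xf20 yf40 zf55) (kf xf22 yf30 zf44) (kf xf22 yf30 zf43) (kf xf28 yf49 zf22) (kf xf21 yf3 zf9) (kf xf20 yf27 zf3) (kf xf17 yf57 zf46) (kf xf28 yf13 zf57) (kf xf25 yf18 zf51) (kf xf18 yf25 zf55) (kf xf17 yf57 zf52) (kf xf20 yf27 zf41) (kf xf28 yf10 zf23) (kf xf20 yf50 zf34) (kf xf31 yf9 zf41) (kf xf29 yf23 zf57) (kf xf29 yf52 zf45) (kf xf29 yf52 zf46) (kf xf28 yf42 zf10)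 (kf xf28 yf10 zf22) (kf xf21 yf49 zf13) (kf xf19 yf44 zf25) (kf xf19 yf45 zf15) (kf xf29 yf4 zf29) (kf xf28 yf16 zf4) (kf xf29 yf5 zf46) (kf xf28 yf59 zf1) (kf xf26 yf42 zf13) (kf xf26 yf41 zf42) (kf xf28 yf58 zf18) (kf xf29 yf7 zf4) (kf xf19 yf40 zf17) (kf xf29 yf41 zf59) (kf xf25 yf15 zf11) (kf xf29 yf41 zf60) (kf xf17 yf59 zf1) (kf xf31 yf37 zf6) (kf xf31 yf37 zf7) (kf xf17 yf59 zf44) (kf xf17 yf59 zf17) (kf xf20 yf51 zf43) (kf xf31 yf18 zf34) (kf xf19 yf34 zf20) (kf xf20 yf24 zf0) (kf xf27 yf11 zf54) (kf xf27 yf9 zf13) (kf xf20 yf24 zf36) (kf xf20 yf24 zf26) (kf xf21 yf42 zf34) (kf xf30 yf27 zf52) (kf xf21 yf15 zf37) (kf xf22 yf17 zf37) (kf xf21 yf36 zf10)) (@D3.rec (fun _ => Pt) (kf xf29 yf30 zf61) (kf xf30 yf27 zf53) (kf xf17 yf59 zf54) (kf xf18 yf17 zf12) (kf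 xf28 yf1 zf12) (kf xf29 yf44 zf45) (kf xf22 yf36 zf53) (kf xf27 yf12 zf26) (kf xf24 yf14 zf48) (kf xf24 yf4 zf35) (kf xf24 yf57 zf8) (kf xf21 yf35 zf51) (kf xf30 yf26 zf55) (kf xf20 yf14 zf9) (kf xf20 yf13 zf44) (kf xf32 yf16 zf40) (kf xf30 yf17 zf49) (kf xf29 yf34 zf55) (kf xf18 yf0 zf40) (kf xf29 yf12 zf54) (kf xf30 yf12 zf32) (kf xf19 yf54 zf11) (kf xf20 yf47 zf27) (kf xf32 yf27 zf26) (kf xf28 yf47 zf28) (kf xf21 yf47 zf34) (kf xf21 yf47 zf58) (kf xf21 yf42 zf31) (kf xf18 yf0 zf60) (kf xf18 yf40 zf14) (kf xf21 yf22 zf3) (kf xf21 yf18 zf40) (kf xf19 yf54 zf14) (kf xf31 yf3 zf20) (kf xf29 yf22 zf35) (kf xf30 yf3 zf40) (kf xf28 yf18 zf1) (kf xf26 yf26 zf47) (kf xf29 yf32 zf47) (kf xf21 yf30 zf23) (kf xf20 yf53 zf13) (kf xf22 yf22 zf16) (kf xf20 yf53 zf29) (kf xf28 yf31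 zf31) (kf xf24 yf37 zf44) (kf xf31 yf34 zf32) (kf xf29 yf1 zf1) (kf xf18 yf1 zf35) (kf xf26 yf35 zf38) (kf xf20 yf9 zf18) (kf xf31 yf45 zf37) (kf xf31 yf45 zf36) (kf xf31 yf17 zf35) (kf xf29 yf43 zf47) (kf xf30 yf14 zf11) (kf xf25 yf7 zf26) (kf xf32 yf18 zf5) (kf xf25 yf4 zf51) (kf xf18 yf50 zf61) (kf xf29 yf56 zf28) (kf xf25 yf4 zf59) (kf xf29 yf50 zf6)) (@D3.rec (fun _ => Pt) (kf xf25 yf13 zf24) (kf xf21 yf50 zf35) (kf xf32 yf18 zf6) (kf xf24 yf34 zf32) (kf xf23 yf56 zf33) (kf xf29 yf34 zf46) (kf xf25 yf11 zf50) (kf xf20 yf9 zf17) (kf xf25 yf6 zf54) (kf xf31 yf11 zf3) (kf xf31 yf11 zf18) (kf xf18 yf2 zf6) (kf xf20 yf38 zf8) (kf xf18 yf57 zf2) (kf xf29 yf8 zf51) (kf xf26 yf54 zf34) (kf xf24 yf33 zf50) (kf xf24 yf58 zf3) (kf xf29 yf12 zf32) (kf xf21 yf11 zf29) (kf xf21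 yf11 zf27) (kf xf28 yf35 zf22) (kf xf26 yf30 zf47) (kf xf30 yf54 zf55) (kf xf26 yf31 zf6) (kf xf18 yf2 zf36) (kf xf27 yf57 zf26) (kf xf19 yf18 zf23) (kf xf19 yf18 zf26) (kf xf18 yf2 zf43) (kf xf24 yf20 zf6) (kf xf27 yf38 zf24) (kf xf27 yf38 zf27) (kf xf25 yf2 zf55) (kf xf19 yf18 zf28) (kf xf25 yf5 zf17) (kf xf25 yf10 zf54) (kf xf27 yf39 zf13) (kf xf19 yf14 zf41) (kf xf32 yf28 zf15) (kf xf27 yf44 zf55) (kf xf27 yf44 zf56) (kf xf31 yf12 zf9) (kf xf24 yf0 zf24) (kf xf24 yf26 zf43) (kf xf19 yf14 zf16) (kf xf25 yf22 zf29) (kf xf25 yf22 zf32) (kf xf26 yf35 zf54) (kf xf27 yf39 zf7) (kf xf27 yf39 zf5) (kf xf27 yf40 zf40) (kf xf18 yf3 zf4) (kf xf28 yf40 zf56) (kf xf31 yf7 zf55) (kf xf27 yf44 zf40) (kf xf27 yf44 zf41) (kf xf32 yf28 zf19) (kf xf26 yf8 zf44) (kf xf26 yf8 zf43)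 (kf xf32 yf19 zf49) (kf xf18 yf4 zf31)) (@D3.rec (fun _ => Pt) (kf xf18 yf5 zf21) (kf xf27 yf48 zf57) (kf xf18 yf5 zf26) (kf xf18 yf5 zf28) (kf xf18 yf5 zf29) (kf xf18 yf4 zf60) (kf xf28 yf41 zf35) (kf xf18 yf5 zf2) (kf xf21 yf58 zf42) (kf xf18 yf6 zf28) (kf xf18 yf3 zf34) (kf xf18 yf6 zf10) (kf xf18 yf6 zf14) (kf xf18 yf6 zf18) (kf xf18 yf7 zf11) (kf xf18 yf7 zf12) (kf xf18 yf7 zf14) (kf xf18 yf7 zf17) (kf xf24 yf44 zf17) (kf xf18 yf7 zf19) (kf xf18 yf7 zf21) (kf xf22 yf18 zf44) (kf xf27 yf45 zf42) (kf xf18 yf3 zf45) (kf xf18 yf3 zf46) (kf xf18 yf7 zf6) (kf xf18 yf3 zf47) (kf xf18 yf6 zf42) (kf xf18 yf6 zf43) (kf xf18 yf6 zf44) (kf xf18 yf6 zf47) (kf xf18 yf6 zf48) (kf xf23 yf51 zf44) (kf xf23 yf51 zf45) (kf xf18 yf3 zf53) (kf xf24 yf56 zf27) (kf xf27 yf48 zf0) (kf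 xf25 yf3 zf16) (kf xf18 yf3 zf58) (kf xf18 yf3 zf59) (kf xf27 yf31 zf7) (kf xf23 yf42 zf50) (kf xf27 yf45 zf22) (kf xf24 yf56 zf25) (kf xf27 yf48 zf37) (kf xf27 yf48 zf39) (kf xf24 yf56 zf26) (kf xf25 yf1 zf18) (kf xf18 yf8 zf15) (kf xf18 yf8 zf9) (kf xf18 yf8 zf10) (kf xf18 yf8 zf18) (kf xf18 yf8 zf17) (kf xf30 yf5 zf14) (kf xf18 yf8 zf33) (kf xf18 yf8 zf30) (kf xf25 yf1 zf27) (kf xf18 yf52 zf60) (kf xf28 yf25 zf36) (kf xf24 yf29 zf30) (kf xf26 yf15 zf43) (kf xf31 yf45 zf9)) (@D3.rec (fun _ => Pt) (kf xf28 yf4 zf41) (kf xf27 yf31 zf56) (kf xf27 yf31 zf57) (kf xf27 yf56 zf18) (kf xf32 yf6 zf4) (kf xf28 yf3 zf23) (kf xf28 yf2 zf20) (kf xf31 yf44 zf31) (kf xf26 yf15 zf15) (kf xf28 yf3 zf13) (kf xf28 yf6 zf30) (kf xf28 yf3 zf14) (kf xf19 yf2 zf0) (kf xf28 yf7 zf3) (kf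 xf26 yf16 zf8) (kf xf27 yf38 zf25) (kf xf28 yf2 zf35) (kf xf27 yf26 zf42) (kf xf26 yf12 zf13) (kf xf28 yf1 zf46) (kf xf26 yf15 zf32) (kf xf30 yf44 zf24) (kf xf28 yf3 zf38) (kf xf19 yf50 zf60) (kf xf19 yf18 zf49) (kf xf32 yf28 zf25) (kf xf18 yf4 zf59) (kf xf27 yf31 zf48) (kf xf27 yf47 zf12) (kf xf28 yf16 zf19) (kf xf30 yf11 zf36) (kf xf22 yf9 zf3) (kf xf28 yf6 zf25) (kf xf28 yf7 zf4) (kf xf28 yf2 zf26) (kf xf19 yf18 zf12) (kf xf26 yf12 zf36) (kf xf27 yf49 zf2) (kf xf27 yf47 zf27) (kf xf27 yf49 zf0) (kf xf27 yf47 zf43) (kf xf18 yf5 zf25) (kf xf30 yf2 zf33) (kf xf31 yf1 zf28) (kf xf31 yf45 zf2) (kf xf30 yf20 zf28) (kf xf18 yf16 zf28) (kf xf31 yf6 zf2) (kf xf26 yf12 zf47) (kf xf32 yf19 zf48) (kf xf18 yf40 zf29) (kf xf29 yf12 zf41) (kf xf29 yf43 zf14) (kf xf31 yf49 zf57)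 (kf xf31 yf49 zf56) (kf xf24 yf26 zf10) (kf xf28 yf12 zf61) (kf xf20 yf43 zf22) (kf xf27 yf24 zf18) (kf xf31 yf37 zf26) (kf xf25 yf13 zf47) (kf xf18 yf5 zf46)) (@D3.rec (fun _ => Pt) (kf xf18 yf7 zf44) (kf xf28 yf2 zf39) (kf xf18 yf55 zf9) (kf xf19 yf0 zf37) (kf xf27 yf56 zf7) (kf xf19 yf0 zf39) (kf xf27 yf56 zf12) (kf xf28 yf2 zf50) (kf xf28 yf16 zf18) (kf xf28 yf2 zf52) (kf xf23 yf51 zf26) (kf xf25 yf1 zf1) (kf xf27 yf46 zf28) (kf xf23 yf50 zf23) (kf xf19 yf0 zf38) (kf xf24 yf55 zf61) (kf xf28 yf1 zf48) (kf xf28 yf1 zf49) (kf xf27 yf31 zf29) (kf xf30 yf45 zf59) (kf xf27 yf27 zf31) (kf xf28 yf12 zf5) (kf xf29 yf49 zf53) (kf xf18 yf6 zf16) (kf xf25 yf1 zf2) (kf xf18 yf16 zf25) (kf xf23 yf22 zf56) (kf xf27 yf46 zf38) (kf xf23 yf44 zf49) (kf xf23 yf22 zf54) (kf xf18 yf16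 zf55) (kf xf31 yf45 zf12) (kf xf28 yf2 zf22) (kf xf27 yf56 zf15) (kf xf28 yf2 zf21) (kf xf26 yf29 zf55) (kf xf23 yf22 zf27) (kf xf28 yf2 zf55) (kf xf32 yf10 zf12) (kf xf19 yf6 zf34) (kf xf27 yf49 zf58) (kf xf28 yf3 zf33) (kf xf24 yf30 zf54) (kf xf27 yf46 zf40) (kf xf31 yf39 zf16) (kf xf31 yf59 zf17) (kf xf23 yf34 zf58) (kf xf26 yf31 zf18) (kf xf27 yf34 zf23) (kf xf27 yf53 zf24) (kf xf28 yf31 zf44) (kf xf31 yf39 zf18) (kf xf29 yf55 zf26) (kf xf31 yf50 zf18) (kf xf18 yf6 zf54) (kf xf31 yf37 zf17) (kf xf23 yf21 zf22) (kf xf27 yf26 zf4) (kf xf31 yf7 zf23) (kf xf29 yf17 zf28) (kf xf21 yf25 zf37) (kf xf19 yf22 zf27)) (@D3.rec (fun _ => Pt) (kf xf27 yf45 zf36) (kf xf18 yf7 zf22) (kf xf27 yf31 zf14) (kf xf19 yf19 zf41) (kf xf28 yf2 zf24) (kf xf26 yf14 zf4) (kf xf26 yf14 zf27)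 (kf xf25 yf3 zf17) (kf xf22 yf10 zf41) (kf xf18 yf7 zf37) (kf xf26 yf16 zf13) (kf xf21 yf52 zf15) (kf xf30 yf14 zf6) (kf xf30 yf5 zf28) (kf xf19 yf2 zf5) (kf xf18 yf7 zf57) (kf xf27 yf30 zf38) (kf xf27 yf17 zf46) (kf xf21 yf16 zf57) (kf xf25 yf29 zf43) (kf xf30 yf5 zf15) (kf xf18 yf7 zf59) (kf xf28 yf6 zf31) (kf xf25 yf30 zf11) (kf xf20 yf46 zf51) (kf xf27 yf38 zf46) (kf xf28 yf3 zf2) (kf xf27 yf31 zf49) (kf xf25 yf35 zf7) (kf xf28 yf3 zf1) (kf xf32 yf4 zf42) (kf xf31 yf44 zf58) (kf xf21 yf45 zf60) (kf xf29 yf27 zf46) (kf xf31 yf42 zf61) (kf xf26 yf14 zf25) (kf xf18 yf8 zf19) (kf xf27 yf45 zf44) (kf xf20 yf4 zf10) (kf xf27 yf45 zf45) (kf xf27 yf48 zf54) (kf xf27 yf48 zf53) (kf xf26 yf13 zf38) (kf xf29 yf54 zf18) (kf xf28 yf41 zf17) (kf xf29 yf51 zf31) (kf xf23 yf37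 zf58) (kf xf27 yf30 zf57) (kf xf28 yf13 zf36) (kf xf27 yf28 zf44) (kf xf23 yf37 zf59) (kf xf29 yf54 zf34) (kf xf18 yf8 zf38) (kf xf27 yf48 zf41) (kf xf27 yf48 zf40) (kf xf25 yf46 zf1) (kf xf28 yf25 zf49) (kf xf27 yf45 zf1) (kf xf31 yf48 zf17) (kf xf28 yf4 zf20) (kf xf26 yf13 zf45) (kf xf28 yf4 zf21)) (@D3.rec (fun _ => Pt) (kf xf27 yf46 zf39) (kf xf28 yf4 zf23) (kf xf27 yf46 zf37) (kf xf27 yf40 zf8) (kf xf28 yf3 zf35) (kf xf28 yf3 zf36) (kf xf27 yf53 zf37) (kf xf28 yf4 zf26) (kf xf28 yf4 zf28) (kf xf27 yf26 zf53) (kf xf23 yf34 zf14) (kf xf20 yf21 zf28) (kf xf32 yf28 zf41) (kf xf30 yf45 zf23) (kf xf32 yf10 zf16) (kf xf26 yf31 zf33) (kf xf18 yf8 zf56) (kf xf28 yf7 zf13) (kf xf28 yf5 zf2) (kf xf28 yf7 zf12) (kf xf24 yf48 zf0) (kf xf18 yf8 zf59) (kf xf28 yf7 zf17) (kf xf28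 yf7 zf18) (kf xf27 yf59 zf13) (kf xf28 yf6 zf41) (kf xf18 yf45 zf37) (kf xf32 yf28 zf47) (kf xf32 yf28 zf45) (kf xf28 yf5 zf14) (kf xf25 yf4 zf43) (kf xf18 yf9 zf6) (kf xf22 yf50 zf60) (kf xf18 yf45 zf58) (kf xf18 yf45 zf60) (kf xf25 yf34 zf10) (kf xf25 yf34 zf11) (kf xf18 yf11 zf25) (kf xf18 yf11 zf27) (kf xf28 yf7 zf20) (kf xf32 yf25 zf38) (kf xf31 yf22 zf4) (kf xf26 yf19 zf47) (kf xf28 yf8 zf55) (kf xf27 yf38 zf39) (kf xf18 yf9 zf19) (kf xf28 yf43 zf22) (kf xf27 yf36 zf20) (kf xf23 yf36 zf56) (kf xf29 yf20 zf38) (kf xf28 yf7 zf27) (kf xf31 yf25 zf43) (kf xf18 yf9 zf24) (kf xf32 yf8 zf39) (kf xf27 yf53 zf3) (kf xf18 yf9 zf27) (kf xf27 yf32 zf29) (kf xf32 yf28 zf59) (kf xf27 yf47 zf40) (kf xf31 yf37 zf12) (kf xf32 yf25 zf50) (kf xf30 yf35 zf38)) (@D3.rec (fun _ =>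 Pt) (kf xf27 yf32 zf23) (kf xf18 yf9 zf33) (kf xf32 yf2 zf41) (kf xf27 yf55 zf1) (kf xf29 yf25 zf16) (kf xf27 yf55 zf2) (kf xf27 yf55 zf19) (kf xf29 yf20 zf25) (kf xf28 yf7 zf19) (kf xf31 yf7 zf45) (kf xf27 yf55 zf18) (kf xf27 yf55 zf20) (kf xf26 yf27 zf22) (kf xf30 yf5 zf2) (kf xf27 yf56 zf30) (kf xf20 yf21 zf11) (kf xf18 yf34 zf21) (kf xf28 yf22 zf45) (kf xf27 yf36 zf42) (kf xf29 yf25 zf14) (kf xf28 yf7 zf2) (kf xf24 yf48 zf6) (kf xf23 yf36 zf53) (kf xf28 yf7 zf0) (kf xf28 yf6 zf21) (kf xf30 yf5 zf1) (kf xf28 yf6 zf23) (kf xf28 yf6 zf24) (kf xf23 yf43 zf22) (kf xf26 yf14 zf3) (kf xf28 yf8 zf2) (kf xf28 yf2 zf1) (kf xf23 yf43 zf10) (kf xf28 yf8 zf3) (kf xf28 yf7 zf5) (kf xf18 yf10 zf11) (kf xf18 yf10 zf10) (kf xf22 yf11 zf44) (kf xf20 yf38 zf25) (kf xf27 yf59 zf14)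 (kf xf28 yf5 zf7) (kf xf28 yf6 zf44) (kf xf20 yf49 zf18) (kf xf27 yf59 zf33) (kf xf23 yf12 zf38) (kf xf18 yf53 zf16) (kf xf27 yf59 zf11) (kf xf19 yf44 zf14) (kf xf27 yf58 zf57) (kf xf27 yf58 zf58) (kf xf19 yf42 zf29) (kf xf27 yf58 zf61) (kf xf23 yf47 zf39) (kf xf26 yf11 zf1) (kf xf27 yf37 zf43) (kf xf25 yf33 zf59) (kf xf28 yf7 zf59) (kf xf28 yf7 zf58) (kf xf30 yf45 zf29) (kf xf28 yf8 zf0) (kf xf31 yf25 zf19) (kf xf28 yf7 zf56)) (@D3.rec (fun _ => Pt) (kf xf28 yf6 zf49) (kf xf31 yf24 zf58) (kf xf18 yf10 zf51) (kf xf18 yf10 zf53) (kf xf20 yf40 zf17) (kf xf27 yf59 zf10) (kf xf31 yf16 zf17) (kf xf18 yf38 zf49) (kf xf27 yf34 zf50) (kf xf28 yf6 zf6) (kf xf27 yf38 zf34) (kf xf31 yf1 zf48) (kf xf28 yf1 zf0) (kf xf28 yf25 zf44) (kf xf28 yf6 zf5) (kf xf28 yf1 zf1) (kf xf20 yf34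 zf39) (kf xf27 yf59 zf12) (kf xf27 yf59 zf31) (kf xf19 yf22 zf58) (kf xf28 yf6 zf42) (kf xf28 yf6 zf43) (kf xf28 yf7 zf6) (kf xf28 yf7 zf7) (kf xf24 yf48 zf22) (kf xf24 yf48 zf24) (kf xf28 yf9 zf4) (kf xf24 yf48 zf25) (kf xf27 yf34 zf45) (kf xf24 yf48 zf26) (kf xf24 yf48 zf27) (kf xf27 yf34 zf61) (kf xf27 yf35 zf0) (kf xf27 yf35 zf1) (kf xf19 yf10 zf24) (kf xf19 yf10 zf20) (kf xf31 yf57 zf47) (kf xf18 yf11 zf19) (kf xf27 yf35 zf18) (kf xf27 yf54 zf38) (kf xf27 yf33 zf54) (kf xf28 yf4 zf43) (kf xf27 yf54 zf39) (kf xf32 yf28 zf60) (kf xf28 yf4 zf44) (kf xf27 yf54 zf59) (kf xf28 yf4 zf45) (kf xf28 yf4 zf46) (kf xf28 yf4 zf47) (kf xf21 yf12 zf8) (kf xf27 yf33 zf47) (kf xf27 yf54 zf51) (kf xf18 yf12 zf17) (kf xf18 yf12 zf16) (kf xf31 yf25 zf34) (kf xf18 yf12 zf23) (kf xf18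 yf12 zf22) (kf xf20 yf11 zf5) (kf xf28 yf6 zf15) (kf xf27 yf37 zf59) (kf xf32 yf9 zf58) (kf xf28 yf5 zf16)) (@D3.rec (fun _ => Pt) (kf xf26 yf30 zf6) (kf xf27 yf59 zf51) (kf xf18 yf11 zf32) (kf xf18 yf58 zf14) (kf xf18 yf58 zf15) (kf xf19 yf22 zf35) (kf xf28 yf5 zf11) (kf xf28 yf5 zf12) (kf xf28 yf6 zf18) (kf xf28 yf5 zf15) (kf xf22 yf49 zf48) (kf xf32 yf29 zf36) (kf xf32 yf29 zf35) (kf xf32 yf29 zf34) (kf xf32 yf26 zf1) (kf xf18 yf11 zf39) (kf xf25 yf48 zf7) (kf xf25 yf48 zf8) (kf xf32 yf29 zf40) (kf xf18 yf11 zf40) (kf xf28 yf5 zf3) (kf xf28 yf5 zf4) (kf xf28 yf5 zf5) (kf xf28 yf5 zf6) (kf xf28 yf6 zf2) (kf xf28 yf5 zf22) (kf xf28 yf5 zf23) (kf xf28 yf7 zf21) (kf xf21 yf12 zf41) (kf xf19 yf6 zf32) (kf xf19 yf6 zf36) (kf xf25 yf6 zf44) (kf xf21 yf12 zf42) (kf xf28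 yf7 zf43) (kf xf27 yf55 zf8) (kf xf27 yf55 zf7) (kf xf23 yf50 zf15) (kf xf28 yf5 zf34) (kf xf27 yf39 zf0) (kf xf28 yf5 zf30) (kf xf28 yf5 zf32) (kf xf20 yf10 zf54) (kf xf28 yf9 zf26) (kf xf30 yf45 zf21) (kf xf32 yf29 zf9) (kf xf18 yf13 zf17) (kf xf18 yf11 zf58) (kf xf28 yf5 zf35) (kf xf32 yf7 zf37) (kf xf28 yf7 zf38) (kf xf29 yf20 zf24) (kf xf28 yf5 zf38) (kf xf18 yf34 zf26) (kf xf28 yf5 zf41) (kf xf32 yf29 zf24) (kf xf28 yf5 zf42) (kf xf27 yf2 zf48) (kf xf29 yf21 zf39) (kf xf31 yf25 zf42) (kf xf32 yf29 zf50) (kf xf18 yf34 zf0) (kf xf18 yf12 zf12)) (@D3.rec (fun _ => Pt) (kf xf28 yf7 zf25) (kf xf26 yf31 zf23) (kf xf24 yf13 zf25) (kf xf27 yf49 zf54) (kf xf32 yf29 zf28) (kf xf24 yf13 zf24) (kf xf28 yf5 zf59) (kf xf31 yf25 zf52) (kf xf18 yf12 zf18) (kf xf28 yf5 zf21) (kf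 xf26 yf19 zf45) (kf xf32 yf7 zf25) (kf xf31 yf54 zf24) (kf xf31 yf53 zf57) (kf xf27 yf37 zf60) (kf xf27 yf37 zf61) (kf xf29 yf20 zf54) (kf xf28 yf6 zf47) (kf xf28 yf6 zf48) (kf xf28 yf6 zf52) (kf xf23 yf53 zf55) (kf xf26 yf52 zf38) (kf xf28 yf8 zf1) (kf xf26 yf41 zf3) (kf xf27 yf47 zf49) (kf xf28 yf6 zf56) (kf xf28 yf6 zf55) (kf xf18 yf12 zf46) (kf xf28 yf6 zf58) (kf xf23 yf46 zf51) (kf xf28 yf50 zf15) (kf xf23 yf47 zf36) (kf xf23 yf46 zf48) (kf xf28 yf7 zf57) (kf xf26 yf58 zf56) (kf xf19 yf22 zf44) (kf xf28 yf9 zf27) (kf xf27 yf49 zf6) (kf xf24 yf53 zf49) (kf xf28 yf8 zf21) (kf xf27 yf56 zf35) (kf xf28 yf8 zf22) (kf xf28 yf8 zf24) (kf xf28 yf8 zf26) (kf xf28 yf8 zf27) (kf xf18 yf33 zf16) (kf xf18 yf13 zf18) (kf xf30 yf24 zf45) (kf xf32 yf7 zf19) (kf xf31 yf15 zf35)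 (kf xf27 yf55 zf12) (kf xf21 yf11 zf57) (kf xf18 yf13 zf21) (kf xf30 yf21 zf14) (kf xf23 yf50 zf55) (kf xf28 yf22 zf43) (kf xf18 yf58 zf27) (kf xf18 yf14 zf53) (kf xf30 yf32 zf1) (kf xf25 yf48 zf11) (kf xf27 yf54 zf61) (kf xf23 yf50 zf7)) (@D3.rec (fun _ => Pt) (kf xf18 yf13 zf32) (kf xf20 yf58 zf50) (kf xf32 yf25 zf56) (kf xf18 yf15 zf0) (kf xf28 yf21 zf34) (kf xf18 yf15 zf1) (kf xf18 yf46 zf56) (kf xf27 yf34 zf46) (kf xf27 yf34 zf51) (kf xf32 yf25 zf55) (kf xf28 yf46 zf54) (kf xf23 yf49 zf38) (kf xf27 yf33 zf24) (kf xf27 yf56 zf19) (kf xf28 yf9 zf10) (kf xf28 yf9 zf11) (kf xf18 yf13 zf61) (kf xf18 yf13 zf57) (kf xf18 yf13 zf58) (kf xf18 yf14 zf2) (kf xf31 yf3 zf48) (kf xf24 yf45 zf50) (kf xf28 yf6 zf54) (kf xf28 yf16 zf61) (kf xf22 yf25 zf32) (kf xf27 yf34 zf25) (kf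 xf29 yf54 zf33) (kf xf32 yf3 zf48) (kf xf21 yf13 zf37) (kf xf32 yf7 zf2) (kf xf28 yf3 zf27) (kf xf28 yf6 zf37) (kf xf28 yf6 zf39) (kf xf18 yf16 zf9) (kf xf28 yf7 zf31) (kf xf27 yf34 zf5) (kf xf28 yf8 zf7) (kf xf18 yf30 zf43) (kf xf27 yf51 zf39) (kf xf27 yf51 zf42) (kf xf18 yf14 zf50) (kf xf18 yf14 zf49) (kf xf18 yf15 zf4) (kf xf20 yf27 zf15) (kf xf26 yf32 zf12) (kf xf19 yf0 zf27) (kf xf28 yf9 zf22) (kf xf25 yf26 zf30) (kf xf28 yf8 zf28) (kf xf24 yf53 zf50) (kf xf28 yf9 zf24) (kf xf27 yf51 zf51) (kf xf25 yf26 zf27) (kf xf26 yf19 zf61) (kf xf23 yf53 zf54) (kf xf32 yf30 zf16) (kf xf32 yf30 zf17) (kf xf32 yf30 zf15) (kf xf28 yf8 zf50) (kf xf27 yf51 zf45) (kf xf18 yf14 zf41) (kf xf27 yf53 zf60)) (@D3.rec (fun _ => Pt) (kf xf31 yf59 zf32) (kf xf27 yf50 zf3) (kf xf27 yf50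 zf5) (kf xf27 yf16 zf44) (kf xf24 yf13 zf29) (kf xf25 yf48 zf9) (kf xf32 yf30 zf14) (kf xf27 yf52 zf35) (kf xf27 yf52 zf34) (kf xf31 yf14 zf28) (kf xf18 yf14 zf48) (kf xf25 yf54 zf36) (kf xf27 yf53 zf50) (kf xf27 yf16 zf45) (kf xf27 yf36 zf51) (kf xf28 yf8 zf20) (kf xf28 yf32 zf5) (kf xf31 yf42 zf53) (kf xf27 yf50 zf10) (kf xf27 yf50 zf6) (kf xf27 yf50 zf11) (kf xf18 yf47 zf9) (kf xf18 yf47 zf11) (kf xf28 yf4 zf31) (kf xf30 yf24 zf51) (kf xf27 yf33 zf3) (kf xf29 yf20 zf6) (kf xf18 yf34 zf61) (kf xf25 yf31 zf38) (kf xf18 yf37 zf20) (kf xf28 yf9 zf14) (kf xf30 yf24 zf43) (kf xf28 yf9 zf35) (kf xf18 yf37 zf21) (kf xf28 yf6 zf10) (kf xf31 yf39 zf20) (kf xf28 yf6 zf9) (kf xf18 yf56 zf52) (kf xf30 yf23 zf6) (kf xf21 yf43 zf60) (kf xf21 yf35 zf5) (kf xf27 yf38 zf50) (kf xf27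 yf16 zf39) (kf xf27 yf59 zf61) (kf xf28 yf26 zf9) (kf xf22 yf30 zf53) (kf xf22 yf51 zf45) (kf xf30 yf24 zf15) (kf xf28 yf26 zf10) (kf xf22 yf30 zf55) (kf xf18 yf15 zf56) (kf xf27 yf58 zf42) (kf xf27 yf58 zf43) (kf xf18 yf42 zf31) (kf xf18 yf15 zf58) (kf xf27 yf20 zf61) (kf xf27 yf10 zf43) (kf xf21 yf49 zf47) (kf xf18 yf16 zf26) (kf xf18 yf16 zf21) (kf xf26 yf46 zf11) (kf xf18 yf16 zf15)) (@D3.rec (fun _ => Pt) (kf xf19 yf23 zf0) (kf xf27 yf41 zf26) (kf xf30 yf20 zf27) (kf xf28 yf16 zf16) (kf xf19 yf22 zf54) (kf xf29 yf0 zf26) (kf xf28 yf27 zf35) (kf xf27 yf47 zf4) (kf xf28 yf25 zf46) (kf xf21 yf51 zf11) (kf xf27 yf30 zf52) (kf xf31 yf55 zf51) (kf xf27 yf47 zf6) (kf xf18 yf16 zf56) (kf xf28 yf2 zf16) (kf xf27 yf47 zf33) (kf xf28 yf27 zf37) (kf xf19 yf22 zf25) (kf xf27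 yf46 zf3) (kf xf27 yf54 zf13) (kf xf28 yf10 zf21) (kf xf29 yf42 zf51) (kf xf21 yf50 zf41) (kf xf27 yf15 zf27) (kf xf30 yf36 zf15) (kf xf18 yf17 zf24) (kf xf29 yf38 zf29) (kf xf28 yf10 zf20) (kf xf28 yf10 zf33) (kf xf28 yf10 zf34) (kf xf27 yf50 zf14) (kf xf28 yf10 zf35) (kf xf32 yf30 zf35) (kf xf27 yf32 zf16) (kf xf21 yf35 zf22) (kf xf27 yf53 zf40) (kf xf21 yf35 zf18) (kf xf25 yf16 zf60) (kf xf25 yf16 zf61) (kf xf23 yf32 zf29) (kf xf25 yf17 zf10) (kf xf24 yf23 zf32) (kf xf28 yf11 zf22) (kf xf28 yf11 zf23) (kf xf23 yf15 zf18) (kf xf27 yf57 zf33) (kf xf27 yf57 zf30) (kf xf26 yf41 zf2) (kf xf24 yf33 zf3) (kf xf19 yf5 zf59) (kf xf26 yf48 zf12) (kf xf28 yf42 zf41) (kf xf18 yf18 zf6) (kf xf28 yf11 zf25) (kf xf24 yf17 zf37) (kf xf28 yf11 zf26) (kf xf28 yf11 zf27) (kf xf26 yf6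 zf56) (kf xf23 yf29 zf38) (kf xf28 yf0 zf33) (kf xf18 yf18 zf13) (kf xf20 yf24 zf13)) (@D3.rec (fun _ => Pt) (kf xf19 yf55 zf7) (kf xf20 yf55 zf59) (kf xf20 yf55 zf58) (kf xf29 yf52 zf39) (kf xf26 yf25 zf8) (kf xf18 yf18 zf20) (kf xf18 yf18 zf22) (kf xf28 yf11 zf30) (kf xf28 yf11 zf32) (kf xf18 yf18 zf25) (kf xf21 yf12 zf58) (kf xf28 yf11 zf38) (kf xf23 yf33 zf23) (kf xf26 yf22 zf40) (kf xf31 yf7 zf15) (kf xf23 yf22 zf42) (kf xf28 yf12 zf28) (kf xf31 yf2 zf38) (kf xf28 yf12 zf26) (kf xf23 yf46 zf59) (kf xf27 yf21 zf12) (kf xf20 yf24 zf31) (kf xf19 yf56 zf54) (kf xf19 yf56 zf56) (kf xf23 yf40 zf52) (kf xf25 yf2 zf27) (kf xf27 yf44 zf26) (kf xf26 yf23 zf13) (kf xf21 yf29 zf25) (kf xf18 yf18 zf50) (kf xf27 yf56 zf46) (kf xf28 yf0 zf2) (kf xf25 yf2 zf20) (kf xf27 yf56 zf45)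 (kf xf31 yf6 zf9) (kf xf25 yf15 zf60) (kf xf28 yf13 zf47) (kf xf25 yf16 zf4) (kf xf18 yf18 zf55) (kf xf26 yf25 zf4) (kf xf24 yf47 zf11) (kf xf23 yf15 zf19) (kf xf31 yf1 zf1) (kf xf23 yf15 zf17) (kf xf23 yf15 zf16) (kf xf18 yf18 zf60) (kf xf19 yf1 zf45) (kf xf23 yf16 zf54) (kf xf30 yf51 zf58) (kf xf28 yf0 zf26) (kf xf27 yf14 zf50) (kf xf18 yf19 zf4) (kf xf27 yf11 zf45) (kf xf18 yf19 zf6) (kf xf23 yf14 zf58) (kf xf23 yf21 zf35) (kf xf28 yf36 zf0) (kf xf32 yf3 zf11) (kf xf18 yf19 zf9) (kf xf30 yf2 zf34) (kf xf30 yf13 zf9) (kf xf23 yf33 zf40)) (@D3.rec (fun _ => Pt) (kf xf32 yf30 zf43) (kf xf18 yf19 zf16) (kf xf28 yf11 zf45) (kf xf28 yf11 zf46) (kf xf28 yf11 zf44) (kf xf23 yf26 zf12) (kf xf28 yf11 zf49) (kf xf28 yf11 zf48) (kf xf22 yf43 zf50) (kf xf18 yf19 zf19) (kf xf26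 yf21 zf17) (kf xf25 yf42 zf53) (kf xf30 yf58 zf48) (kf xf23 yf29 zf56) (kf xf30 yf2 zf14) (kf xf26 yf31 zf21) (kf xf28 yf26 zf52) (kf xf30 yf45 zf54) (kf xf32 yf8 zf61) (kf xf28 yf26 zf57) (kf xf18 yf19 zf32) (kf xf26 yf19 zf57) (kf xf28 yf12 zf45) (kf xf26 yf19 zf56) (kf xf28 yf26 zf34) (kf xf23 yf43 zf24) (kf xf30 yf45 zf41) (kf xf28 yf26 zf51) (kf xf22 yf17 zf14) (kf xf29 yf31 zf0) (kf xf18 yf27 zf18) (kf xf26 yf38 zf17) (kf xf26 yf23 zf29) (kf xf22 yf49 zf54) (kf xf24 yf25 zf39) (kf xf28 yf26 zf32) (kf xf28 yf27 zf53) (kf xf26 yf18 zf50) (kf xf30 yf54 zf0) (kf xf29 yf4 zf12) (kf xf18 yf19 zf57) (kf xf21 yf8 zf16) (kf xf27 yf55 zf51) (kf xf27 yf55 zf52) (kf xf18 yf19 zf61) (kf xf21 yf28 zf46) (kf xf29 yf20 zf33) (kf xf28 yf18 zf51) (kf xf28 yf18 zf52) (kf xf23 yf18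 zf36) (kf xf23 yf14 zf24) (kf xf23 yf32 zf46) (kf xf26 yf25 zf18) (kf xf23 yf32 zf22) (kf xf18 yf31 zf37) (kf xf18 yf42 zf25) (kf xf23 yf31 zf50) (kf xf27 yf50 zf48) (kf xf27 yf50 zf49) (kf xf19 yf10 zf21) (kf xf18 yf55 zf18) (kf xf27 yf50 zf51)) (@D3.rec (fun _ => Pt) (kf xf28 yf37 zf29) (kf xf19 yf20 zf6) (kf xf24 yf6 zf37) (kf xf28 yf18 zf20) (kf xf30 yf18 zf55) (kf xf18 yf20 zf19) (kf xf22 yf51 zf41) (kf xf22 yf7 zf19) (kf xf28 yf16 zf42) (kf xf20 yf46 zf48) (kf xf27 yf51 zf5) (kf xf27 yf50 zf46) (kf xf27 yf51 zf17) (kf xf27 yf49 zf24) (kf xf27 yf50 zf39) (kf xf18 yf45 zf35) (kf xf28 yf6 zf38) (kf xf29 yf51 zf58) (kf xf18 yf20 zf39) (kf xf31 yf50 zf3) (kf xf22 yf54 zf23) (kf xf22 yf54 zf25) (kf xf18 yf20 zf55) (kf xf18 yf20 zf53) (kf xf26 yf4 zf24) (kf xf22 yf36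 zf12) (kf xf21 yf5 zf44) (kf xf20 yf38 zf13) (kf xf30 yf52 zf22) (kf xf21 yf5 zf47) (kf xf19 yf10 zf25) (kf xf27 yf51 zf18) (kf xf28 yf11 zf15) (kf xf27 yf50 zf43) (kf xf27 yf22 zf12) (kf xf20 yf1 zf2) (kf xf22 yf56 zf38) (kf xf20 yf23 zf43) (kf xf20 yf41 zf44) (kf xf23 yf53 zf19) (kf xf20 yf52 zf40) (kf xf28 yf13 zf6) (kf xf30 yf44 zf8) (kf xf23 yf53 zf43) (kf xf27 yf15 zf23) (kf xf31 yf55 zf13) (kf xf18 yf21 zf17) (kf xf30 yf54 zf13) (kf xf26 yf43 zf48) (kf xf27 yf2 zf50) (kf xf27 yf9 zf15) (kf xf27 yf52 zf1) (kf xf18 yf21 zf20) (kf xf26 yf52 zf15) (kf xf18 yf48 zf22) (kf xf18 yf48 zf31) (kf xf26 yf48 zf20) (kf xf24 yf1 zf56) (kf xf27 yf6 zf28) (kf xf18 yf21 zf34) (kf xf28 yf10 zf60) (kf xf27 yf55 zf43))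
def f_f_28 : D2 → D3 → Pt := @D2.rec (fun _ => D3 → Pt) (@D3.rec (fun _ => Pt) (kf xf28 yf12 zf49) (kf xf24 yf55 zf30) (kf xf27 yf57 zf31) (kf xf28 yf26 zf30) (kf xf32 yf21 zf55) (kf xf18 yf21 zf55) (kf xf26 yf18 zf43) (kf xf28 yf12 zf54) (kf xf28 yf27 zf52) (kf xf28 yf27 zf51) (kf xf32 yf30 zf56) (kf xf18 yf21 zf60) (kf xf18 yf36 zf1) (kf xf28 yf12 zf47) (kf xf29 yf31 zf56) (kf xf27 yf42 zf5) (kf xf22 yf22 zf33) (kf xf24 yf8 zf13) (kf xf18 yf22 zf4) (kf xf26 yf38 zf32) (kf xf32 yf30 zf57) (kf xf26 yf44 zf34) (kf xf22 yf4 zf1) (kf xf26 yf41 zf10) (kf xf28 yf11 zf12) (kf xf20 yf25 zf47) (kf xf27 yf57 zf49) (kf xf18 yf22 zf43) (kf xf20 yf1 zf18) (kf xf18 yf22 zf45) (kf xf26 yf9 zf60) (kf xf18 yf22 zf52) (kf xf21 yf2 zf44) (kf xf27 yf56 zf59) (kf xf26 yf19 zf23) (kf xf18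 yf22 zf57) (kf xf25 yf2 zf35) (kf xf26 yf8 zf15) (kf xf27 yf1 zf26) (kf xf18 yf23 zf1) (kf xf29 yf31 zf1) (kf xf28 yf13 zf40) (kf xf20 yf20 zf12) (kf xf31 yf15 zf50) (kf xf27 yf8 zf2) (kf xf18 yf23 zf11) (kf xf25 yf16 zf2) (kf xf18 yf51 zf61) (kf xf25 yf16 zf3) (kf xf30 yf35 zf10) (kf xf18 yf23 zf54) (kf xf18 yf23 zf53) (kf xf18 yf23 zf45) (kf xf21 yf2 zf43) (kf xf26 yf8 zf46) (kf xf23 yf21 zf52) (kf xf29 yf14 zf44) (kf xf22 yf30 zf24) (kf xf26 yf55 zf27) (kf xf21 yf38 zf1) (kf xf18 yf24 zf10) (kf xf26 yf52 zf52)) (@D3.rec (fun _ => Pt) (kf xf27 yf51 zf12) (kf xf27 yf51 zf15) (kf xf21 yf7 zf45) (kf xf31 yf58 zf40) (kf xf18 yf24 zf26) (kf xf24 yf31 zf15) (kf xf26 yf57 zf45) (kf xf28 yf26 zf55) (kf xf18 yf25 zf3) (kf xf18 yf25 zf38) (kf xf18 yf25 zf37) (kf xf18 yf24 zf50)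 (kf xf27 yf43 zf4) (kf xf23 yf40 zf40) (kf xf25 yf44 zf53) (kf xf19 yf39 zf8) (kf xf30 yf8 zf33) (kf xf20 yf37 zf60) (kf xf21 yf35 zf19) (kf xf29 yf13 zf39) (kf xf26 yf25 zf49) (kf xf19 yf9 zf9) (kf xf19 yf4 zf49) (kf xf20 yf5 zf4) (kf xf29 yf25 zf48) (kf xf28 yf31 zf17) (kf xf31 yf50 zf6) (kf xf19 yf38 zf33) (kf xf20 yf16 zf18) (kf xf22 yf46 zf10) (kf xf22 yf46 zf7) (kf xf26 yf55 zf7) (kf xf20 yf40 zf0) (kf xf21 yf50 zf45) (kf xf18 yf26 zf16) (kf xf21 yf37 zf41) (kf xf20 yf33 zf41) (kf xf21 yf37 zf57) (kf xf28 yf55 zf54) (kf xf26 yf58 zf24) (kf xf18 yf26 zf6) (kf xf20 yf37 zf51) (kf xf26 yf55 zf22) (kf xf29 yf48 zf0) (kf xf29 yf48 zf1) (kf xf22 yf34 zf31) (kf xf27 yf46 zf19) (kf xf27 yf31 zf2) (kf xf27 yf47 zf16) (kf xf27 yf47 zf17) (kf xf24 yf22 zf53) (kf xf23 yf33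 zf54) (kf xf31 yf43 zf59) (kf xf32 yf31 zf0) (kf xf32 yf25 zf30) (kf xf24 yf44 zf52) (kf xf18 yf26 zf49) (kf xf28 yf3 zf7) (kf xf28 yf3 zf6) (kf xf18 yf26 zf50) (kf xf31 yf43 zf58) (kf xf28 yf12 zf6)) (@D3.rec (fun _ => Pt) (kf xf27 yf25 zf7) (kf xf27 yf50 zf31) (kf xf24 yf18 zf18) (kf xf28 yf2 zf56) (kf xf30 yf14 zf40) (kf xf28 yf2 zf57) (kf xf30 yf59 zf15) (kf xf28 yf22 zf12) (kf xf31 yf44 zf18) (kf xf18 yf29 zf34) (kf xf31 yf11 zf39) (kf xf31 yf44 zf20) (kf xf30 yf4 zf20) (kf xf30 yf59 zf13) (kf xf31 yf44 zf22) (kf xf31 yf0 zf52) (kf xf27 yf56 zf14) (kf xf28 yf12 zf7) (kf xf31 yf1 zf30) (kf xf18 yf31 zf35) (kf xf27 yf46 zf6) (kf xf27 yf47 zf34) (kf xf27 yf47 zf32) (kf xf30 yf23 zf23) (kf xf27 yf48 zf4) (kf xf24 yf22 zf52) (kf xf27 yf46 zf34) (kf xf26 yf20 zf11) (kf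 xf26 yf20 zf13) (kf xf18 yf28 zf35) (kf xf26 yf16 zf29) (kf xf27 yf38 zf30) (kf xf27 yf26 zf9) (kf xf31 yf44 zf24) (kf xf27 yf28 zf7) (kf xf27 yf46 zf16) (kf xf18 yf31 zf53) (kf xf18 yf47 zf60) (kf xf18 yf29 zf31) (kf xf27 yf47 zf1) (kf xf18 yf48 zf3) (kf xf18 yf48 zf5) (kf xf18 yf48 zf7) (kf xf22 yf40 zf30) (kf xf18 yf47 zf53) (kf xf18 yf47 zf2) (kf xf18 yf47 zf3) (kf xf18 yf47 zf56) (kf xf32 yf15 zf6) (kf xf18 yf27 zf56) (kf xf27 yf47 zf7) (kf xf28 yf16 zf17) (kf xf27 yf47 zf9) (kf xf30 yf48 zf27) (kf xf30 yf59 zf14) (kf xf27 yf47 zf37) (kf xf28 yf2 zf3) (kf xf28 yf2 zf5) (kf xf30 yf1 zf5) (kf xf23 yf18 zf21) (kf xf30 yf58 zf14) (kf xf30 yf58 zf15)) (@D3.rec (fun _ => Pt) (kf xf18 yf28 zf10) (kf xf27 yf48 zf29) (kf xf27 yf48 zf26) (kf xf18 yf28 zf12) (kf xf18 yf28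 zf42) (kf xf18 yf30 zf10) (kf xf28 yf1 zf58) (kf xf28 yf1 zf57) (kf xf30 yf4 zf15) (kf xf18 yf28 zf17) (kf xf31 yf12 zf0) (kf xf25 yf3 zf51) (kf xf31 yf44 zf29) (kf xf27 yf46 zf9) (kf xf27 yf46 zf11) (kf xf31 yf44 zf30) (kf xf18 yf34 zf28) (kf xf31 yf44 zf28) (kf xf28 yf6 zf29) (kf xf27 yf34 zf35) (kf xf25 yf14 zf13) (kf xf18 yf28 zf27) (kf xf30 yf20 zf26) (kf xf27 yf46 zf5) (kf xf31 yf44 zf33) (kf xf25 yf13 zf17) (kf xf18 yf29 zf17) (kf xf27 yf54 zf30) (kf xf28 yf12 zf3) (kf xf18 yf28 zf43) (kf xf18 yf37 zf2) (kf xf18 yf29 zf30) (kf xf18 yf29 zf40) (kf xf27 yf47 zf41) (kf xf25 yf3 zf50) (kf xf27 yf49 zf4) (kf xf27 yf49 zf5) (kf xf28 yf6 zf28) (kf xf27 yf46 zf22) (kf xf25 yf8 zf44) (kf xf26 yf21 zf14) (kf xf30 yf23 zf9) (kf xf30 yf23 zf8) (kf xf26 yf12 zf43) (kf xf27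 yf26 zf14) (kf xf23 yf44 zf46) (kf xf23 yf44 zf45) (kf xf30 yf4 zf22) (kf xf26 yf13 zf11) (kf xf30 yf31 zf56) (kf xf18 yf49 zf51) (kf xf29 yf39 zf36) (kf xf27 yf4 zf32) (kf xf31 yf11 zf40) (kf xf18 yf29 zf25) (kf xf26 yf14 zf52) (kf xf18 yf29 zf28) (kf xf31 yf44 zf21) (kf xf31 yf45 zf8) (kf xf32 yf31 zf1) (kf xf31 yf44 zf19) (kf xf28 yf10 zf14)) (@D3.rec (fun _ => Pt) (kf xf30 yf13 zf5) (kf xf18 yf29 zf39) (kf xf30 yf2 zf2) (kf xf28 yf10 zf5) (kf xf31 yf45 zf6) (kf xf31 yf11 zf46) (kf xf31 yf11 zf47) (kf xf30 yf51 zf53) (kf xf24 yf19 zf60) (kf xf27 yf29 zf57) (kf xf31 yf36 zf23) (kf xf31 yf6 zf39) (kf xf31 yf11 zf61) (kf xf31 yf44 zf37) (kf xf31 yf44 zf36) (kf xf18 yf30 zf3) (kf xf24 yf45 zf26) (kf xf27 yf30 zf44) (kf xf21 yf55 zf50) (kf xf25 yf10 zf48) (kf xf27 yf48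 zf59) (kf xf27 yf48 zf61) (kf xf20 yf47 zf28) (kf xf27 yf49 zf1) (kf xf32 yf25 zf15) (kf xf26 yf16 zf20) (kf xf27 yf49 zf7) (kf xf26 yf20 zf51) (kf xf27 yf49 zf8) (kf xf26 yf20 zf52) (kf xf25 yf1 zf45) (kf xf27 yf55 zf23) (kf xf29 yf25 zf2) (kf xf24 yf48 zf12) (kf xf24 yf48 zf13) (kf xf32 yf10 zf13) (kf xf26 yf19 zf3) (kf xf27 yf33 zf20) (kf xf32 yf31 zf35) (kf xf18 yf30 zf34) (kf xf27 yf33 zf35) (kf xf27 yf46 zf0) (kf xf32 yf10 zf5) (kf xf27 yf51 zf41) (kf xf27 yf51 zf44) (kf xf27 yf51 zf46) (kf xf27 yf51 zf47) (kf xf27 yf51 zf48) (kf xf28 yf8 zf31) (kf xf18 yf31 zf32) (kf xf18 yf31 zf31) (kf xf28 yf8 zf8) (kf xf18 yf30 zf41) (kf xf19 yf6 zf50) (kf xf19 yf7 zf2) (kf xf19 yf7 zf3) (kf xf19 yf7 zf4) (kf xf32 yf3 zf49) (kf xf26 yf30 zf57) (kf xf32 yf7 zf31) (kf xf29 yf25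 zf9) (kf xf28 yf45 zf39)) (@D3.rec (fun _ => Pt) (kf xf18 yf30 zf53) (kf xf27 yf12 zf23) (kf xf27 yf49 zf18) (kf xf27 yf52 zf20) (kf xf27 yf52 zf21) (kf xf27 yf52 zf22) (kf xf27 yf52 zf23) (kf xf27 yf50 zf40) (kf xf18 yf53 zf9) (kf xf18 yf53 zf10) (kf xf18 yf53 zf11) (kf xf27 yf52 zf6) (kf xf27 yf52 zf7) (kf xf32 yf3 zf53) (kf xf27 yf49 zf29) (kf xf27 yf52 zf9) (kf xf27 yf51 zf61) (kf xf18 yf31 zf4) (kf xf18 yf53 zf47) (kf xf19 yf50 zf49) (kf xf19 yf6 zf39) (kf xf27 yf53 zf9) (kf xf27 yf52 zf25) (kf xf27 yf52 zf26) (kf xf19 yf6 zf40) (kf xf31 yf14 zf44) (kf xf29 yf54 zf11) (kf xf30 yf44 zf22) (kf xf30 yf44 zf27) (kf xf18 yf31 zf10) (kf xf27 yf52 zf39) (kf xf26 yf18 zf33) (kf xf27 yf52 zf40) (kf xf32 yf26 zf33) (kf xf27 yf52 zf37) (kf xf27 yf52 zf47) (kf xf18 yf46 zf9)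 (kf xf22 yf52 zf8) (kf xf27 yf52 zf51) (kf xf18 yf31 zf19) (kf xf18 yf33 zf7) (kf xf27 yf52 zf53) (kf xf27 yf52 zf55) (kf xf31 yf0 zf14) (kf xf20 yf12 zf1) (kf xf19 yf6 zf38) (kf xf19 yf6 zf41) (kf xf32 yf31 zf48) (kf xf19 yf10 zf17) (kf xf19 yf10 zf16) (kf xf32 yf31 zf55) (kf xf18 yf31 zf28) (kf xf30 yf49 zf11) (kf xf19 yf7 zf26) (kf xf30 yf36 zf28) (kf xf29 yf16 zf6) (kf xf19 yf10 zf12) (kf xf27 yf32 zf5) (kf xf29 yf2 zf2) (kf xf27 yf53 zf6) (kf xf19 yf10 zf11) (kf xf28 yf43 zf21)) (@D3.rec (fun _ => Pt) (kf xf28 yf8 zf10) (kf xf28 yf8 zf11) (kf xf27 yf52 zf24) (kf xf31 yf14 zf53) (kf xf28 yf9 zf28) (kf xf27 yf51 zf14) (kf xf27 yf51 zf9) (kf xf31 yf7 zf51) (kf xf31 yf15 zf24) (kf xf27 yf55 zf36) (kf xf27 yf55 zf34) (kf xf32 yf25 zf53) (kf xf27 yf34 zf9) (kf xf27 yf34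 zf10) (kf xf25 yf34 zf0) (kf xf27 yf51 zf58) (kf xf32 yf3 zf50) (kf xf31 yf7 zf40) (kf xf27 yf52 zf8) (kf xf31 yf7 zf38) (kf xf28 yf25 zf38) (kf xf27 yf50 zf24) (kf xf32 yf31 zf60) (kf xf27 yf50 zf26) (kf xf27 yf50 zf27) (kf xf27 yf46 zf32) (kf xf27 yf20 zf37) (kf xf23 yf22 zf0) (kf xf28 yf3 zf37) (kf xf28 yf3 zf18) (kf xf27 yf46 zf10) (kf xf27 yf48 zf22) (kf xf26 yf16 zf44) (kf xf18 yf32 zf5) (kf xf18 yf32 zf4) (kf xf18 yf32 zf3) (kf xf29 yf38 zf41) (kf xf27 yf54 zf31) (kf xf27 yf59 zf16) (kf xf27 yf54 zf32) (kf xf26 yf46 zf61) (kf xf27 yf49 zf25) (kf xf27 yf51 zf20) (kf xf27 yf51 zf21) (kf xf27 yf50 zf41) (kf xf22 yf10 zf44) (kf xf18 yf32 zf16) (kf xf27 yf53 zf17) (kf xf27 yf53 zf18) (kf xf27 yf51 zf0) (kf xf23 yf54 zf13) (kf xf20 yf20 zf52) (kf xf27 yf53 zf19) (kf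 xf24 yf12 zf38) (kf xf27 yf54 zf22) (kf xf27 yf53 zf26) (kf xf27 yf53 zf25) (kf xf18 yf32 zf21) (kf xf27 yf53 zf28) (kf xf28 yf25 zf40) (kf xf27 yf39 zf60) (kf xf30 yf35 zf50)) (@D3.rec (fun _ => Pt) (kf xf27 yf50 zf23) (kf xf30 yf3 zf39) (kf xf27 yf50 zf20) (kf xf27 yf46 zf13) (kf xf27 yf46 zf33) (kf xf27 yf50 zf34) (kf xf27 yf51 zf22) (kf xf27 yf51 zf23) (kf xf32 yf10 zf6) (kf xf32 yf21 zf45) (kf xf31 yf24 zf60) (kf xf18 yf32 zf51) (kf xf27 yf49 zf19) (kf xf27 yf49 zf17) (kf xf23 yf54 zf32) (kf xf19 yf6 zf26) (kf xf18 yf32 zf54) (kf xf27 yf49 zf22) (kf xf27 yf49 zf23) (kf xf27 yf50 zf8) (kf xf27 yf49 zf39) (kf xf27 yf52 zf27) (kf xf21 yf12 zf13) (kf xf25 yf28 zf23) (kf xf28 yf8 zf56) (kf xf27 yf53 zf0) (kf xf32 yf10 zf15) (kf xf27 yf49 zf50) (kf xf28 yf8 zf41) (kf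 xf18 yf33 zf5) (kf xf32 yf25 zf47) (kf xf27 yf54 zf34) (kf xf32 yf28 zf33) (kf xf28 yf47 zf16) (kf xf28 yf7 zf44) (kf xf32 yf25 zf43) (kf xf18 yf33 zf10) (kf xf26 yf19 zf30) (kf xf27 yf52 zf49) (kf xf19 yf50 zf61) (kf xf28 yf25 zf50) (kf xf29 yf20 zf11) (kf xf18 yf34 zf30) (kf xf27 yf52 zf33) (kf xf28 yf7 zf34) (kf xf18 yf35 zf26) (kf xf32 yf28 zf20) (kf xf27 yf33 zf55) (kf xf32 yf25 zf52) (kf xf18 yf46 zf21) (kf xf19 yf12 zf54) (kf xf27 yf34 zf57) (kf xf28 yf45 zf13) (kf xf27 yf37 zf16) (kf xf27 yf22 zf54) (kf xf27 yf22 zf53) (kf xf27 yf50 zf61) (kf xf27 yf53 zf33) (kf xf27 yf50 zf57) (kf xf27 yf50 zf56) (kf xf32 yf9 zf60) (kf xf18 yf33 zf43)) (@D3.rec (fun _ => Pt) (kf xf27 yf50 zf59) (kf xf27 yf53 zf22) (kf xf27 yf50 zf30) (kf xf27 yf50 zf33) (kf xf20 yf1 zf29) (kf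 xf20 yf1 zf32) (kf xf27 yf32 zf20) (kf xf27 yf54 zf36) (kf xf28 yf4 zf51) (kf xf25 yf31 zf42) (kf xf28 yf6 zf0) (kf xf28 yf6 zf1) (kf xf18 yf34 zf24) (kf xf18 yf34 zf31) (kf xf18 yf34 zf29) (kf xf18 yf34 zf43) (kf xf18 yf34 zf44) (kf xf18 yf34 zf46) (kf xf18 yf34 zf39) (kf xf19 yf6 zf31) (kf xf27 yf55 zf15) (kf xf27 yf53 zf39) (kf xf27 yf53 zf41) (kf xf18 yf47 zf14) (kf xf27 yf53 zf42) (kf xf21 yf7 zf39) (kf xf27 yf53 zf43) (kf xf27 yf53 zf44) (kf xf27 yf54 zf48) (kf xf32 yf10 zf9) (kf xf18 yf34 zf20) (kf xf28 yf4 zf48) (kf xf18 yf34 zf17) (kf xf31 yf23 zf2) (kf xf31 yf16 zf37) (kf xf21 yf12 zf7) (kf xf18 yf34 zf19) (kf xf32 yf29 zf49) (kf xf27 yf36 zf43) (kf xf18 yf36 zf7) (kf xf32 yf29 zf3) (kf xf28 yf7 zf28) (kf xf32 yf32 zf16) (kf xf18 yf34 zf22) (kf xf30 yf31 zf11)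 (kf xf19 yf9 zf24) (kf xf31 yf25 zf0) (kf xf30 yf26 zf24) (kf xf27 yf2 zf49) (kf xf31 yf42 zf8) (kf xf27 yf54 zf58) (kf xf30 yf44 zf41) (kf xf32 yf32 zf6) (kf xf29 yf20 zf9) (kf xf28 yf23 zf31) (kf xf27 yf49 zf43) (kf xf28 yf7 zf24) (kf xf19 yf5 zf29) (kf xf24 yf47 zf60) (kf xf24 yf48 zf8) (kf xf21 yf15 zf3) (kf xf29 yf25 zf17)) (@D3.rec (fun _ => Pt) (kf xf31 yf54 zf1) (kf xf32 yf29 zf33) (kf xf26 yf54 zf17) (kf xf28 yf14 zf28) (kf xf27 yf51 zf26) (kf xf28 yf14 zf31) (kf xf26 yf37 zf45) (kf xf28 yf51 zf33) (kf xf32 yf30 zf26) (kf xf23 yf54 zf57) (kf xf27 yf54 zf14) (kf xf27 yf54 zf15) (kf xf18 yf35 zf0) (kf xf18 yf34 zf57) (kf xf27 yf55 zf30) (kf xf31 yf53 zf53) (kf xf30 yf18 zf12) (kf xf32 yf0 zf3) (kf xf27 yf8 zf3) (kf xf19 yf53 zf17) (kf xf18 yf36 zf40) (kf xf18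 yf37 zf14) (kf xf27 yf54 zf46) (kf xf27 yf31 zf60) (kf xf27 yf54 zf50) (kf xf32 yf26 zf36) (kf xf27 yf52 zf42) (kf xf27 yf53 zf36) (kf xf28 yf6 zf4) (kf xf31 yf2 zf4) (kf xf27 yf33 zf12) (kf xf30 yf24 zf52) (kf xf32 yf26 zf14) (kf xf32 yf26 zf2) (kf xf29 yf19 zf46) (kf xf27 yf55 zf32) (kf xf22 yf28 zf61) (kf xf27 yf37 zf27) (kf xf28 yf47 zf21) (kf xf29 yf54 zf20) (kf xf21 yf7 zf58) (kf xf18 yf54 zf57) (kf xf30 yf32 zf57) (kf xf18 yf36 zf13) (kf xf18 yf36 zf9) (kf xf29 yf7 zf61) (kf xf22 yf52 zf34) (kf xf23 yf10 zf22) (kf xf28 yf12 zf56) (kf xf32 yf21 zf38) (kf xf18 yf36 zf4) (kf xf27 yf15 zf0) (kf xf28 yf33 zf30) (kf xf31 yf58 zf39) (kf xf26 yf46 zf35) (kf xf21 yf21 zf19) (kf xf28 yf47 zf22) (kf xf18 yf36 zf35) (kf xf23 yf16 zf0) (kf xf22 yf36 zf15) (kf xf21 yf59 zf36)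 (kf xf21 yf59 zf39)) (@D3.rec (fun _ => Pt) (kf xf21 yf34 zf59) (kf xf18 yf36 zf51) (kf xf18 yf55 zf22) (kf xf27 yf29 zf50) (kf xf21 yf6 zf21) (kf xf28 yf4 zf3) (kf xf22 yf12 zf24) (kf xf18 yf37 zf32) (kf xf21 yf42 zf48) (kf xf23 yf36 zf32) (kf xf25 yf3 zf52) (kf xf30 yf24 zf53) (kf xf32 yf1 zf42) (kf xf23 yf18 zf2) (kf xf28 yf3 zf61) (kf xf24 yf44 zf42) (kf xf29 yf14 zf9) (kf xf23 yf47 zf26) (kf xf24 yf33 zf0) (kf xf18 yf37 zf51) (kf xf27 yf56 zf27) (kf xf27 yf56 zf20) (kf xf27 yf42 zf28) (kf xf27 yf42 zf21) (kf xf18 yf37 zf58) (kf xf21 yf45 zf49) (kf xf20 yf53 zf16) (kf xf21 yf54 zf43) (kf xf27 yf36 zf16) (kf xf26 yf15 zf5) (kf xf21 yf7 zf15) (kf xf23 yf47 zf20) (kf xf18 yf38 zf24) (kf xf27 yf56 zf28) (kf xf27 yf56 zf29) (kf xf27 yf56 zf31) (kf xf32 yf32 zf33) (kf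 xf22 yf51 zf50) (kf xf23 yf47 zf48) (kf xf18 yf53 zf17) (kf xf25 yf1 zf61) (kf xf18 yf38 zf45) (kf xf23 yf6 zf33) (kf xf30 yf58 zf28) (kf xf18 yf38 zf47) (kf xf23 yf18 zf12) (kf xf23 yf18 zf11) (kf xf30 yf58 zf6) (kf xf18 yf38 zf50) (kf xf28 yf26 zf7) (kf xf28 yf26 zf6) (kf xf18 yf38 zf54) (kf xf28 yf26 zf8) (kf xf26 yf0 zf46) (kf xf28 yf11 zf18) (kf xf30 yf2 zf13) (kf xf25 yf42 zf17) (kf xf18 yf39 zf0) (kf xf29 yf32 zf38) (kf xf28 yf12 zf18) (kf xf27 yf59 zf60) (kf xf23 yf32 zf8)) (@D3.rec (fun _ => Pt) (kf xf23 yf25 zf29) (kf xf28 yf24 zf42) (kf xf23 yf10 zf19) (kf xf25 yf43 zf21) (kf xf28 yf23 zf4) (kf xf18 yf39 zf9) (kf xf22 yf52 zf6) (kf xf22 yf52 zf7) (kf xf30 yf47 zf27) (kf xf30 yf54 zf15) (kf xf18 yf39 zf27) (kf xf18 yf39 zf25) (kf xf28 yf0 zf24) (kf xf28 yf12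 zf36) (kf xf24 yf29 zf6) (kf xf27 yf59 zf32) (kf xf19 yf30 zf56) (kf xf24 yf29 zf40) (kf xf28 yf10 zf54) (kf xf21 yf9 zf48) (kf xf19 yf10 zf33) (kf xf28 yf25 zf19) (kf xf27 yf56 zf42) (kf xf27 yf56 zf43) (kf xf23 yf35 zf25) (kf xf27 yf56 zf53) (kf xf27 yf56 zf55) (kf xf27 yf56 zf56) (kf xf26 yf47 zf10) (kf xf18 yf40 zf4) (kf xf27 yf57 zf7) (kf xf26 yf23 zf34) (kf xf27 yf57 zf8) (kf xf29 yf52 zf2) (kf xf23 yf32 zf25) (kf xf23 yf52 zf35) (kf xf18 yf40 zf7) (kf xf31 yf2 zf42) (kf xf27 yf57 zf11) (kf xf23 yf16 zf43) (kf xf26 yf23 zf7) (kf xf30 yf42 zf18) (kf xf26 yf48 zf29) (kf xf32 yf28 zf3) (kf xf27 yf58 zf4) (kf xf27 yf58 zf2) (kf xf27 yf58 zf3) (kf xf30 yf32 zf44) (kf xf27 yf58 zf7) (kf xf27 yf58 zf6) (kf xf18 yf40 zf18) (kf xf26 yf47 zf9) (kf xf26 yf47 zf8) (kf xf26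 yf47 zf11) (kf xf26 yf47 zf16) (kf xf30 yf52 zf45) (kf xf31 yf8 zf27) (kf xf23 yf26 zf9) (kf xf32 yf4 zf60) (kf xf32 yf4 zf49) (kf xf26 yf17 zf61) (kf xf29 yf49 zf49)) (@D3.rec (fun _ => Pt) (kf xf18 yf40 zf24) (kf xf19 yf55 zf58) (kf xf26 yf30 zf10) (kf xf28 yf3 zf28) (kf xf32 yf24 zf55) (kf xf27 yf47 zf21) (kf xf28 yf1 zf61) (kf xf28 yf2 zf17) (kf xf26 yf18 zf57) (kf xf26 yf17 zf50) (kf xf31 yf33 zf47) (kf xf23 yf20 zf8) (kf xf24 yf9 zf41) (kf xf18 yf40 zf39) (kf xf23 yf16 zf32) (kf xf24 yf7 zf27) (kf xf20 yf34 zf37) (kf xf28 yf28 zf14) (kf xf28 yf10 zf59) (kf xf23 yf15 zf10) (kf xf31 yf34 zf4) (kf xf26 yf25 zf17) (kf xf26 yf25 zf16) (kf xf31 yf44 zf49) (kf xf19 yf47 zf38) (kf xf21 yf8 zf42) (kf xf27 yf57 zf18) (kf xf31 yf6 zf25) (kf xf27 yf57 zf16) (kf xf21 yf29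 zf22) (kf xf30 yf33 zf22) (kf xf27 yf5 zf27) (kf xf18 yf41 zf1) (kf xf23 yf14 zf61) (kf xf32 yf4 zf61) (kf xf26 yf22 zf47) (kf xf28 yf11 zf13) (kf xf18 yf41 zf5) (kf xf20 yf20 zf56) (kf xf27 yf5 zf13) (kf xf26 yf19 zf41) (kf xf30 yf54 zf16) (kf xf22 yf51 zf33) (kf xf22 yf17 zf6) (kf xf18 yf41 zf14) (kf xf27 yf58 zf22) (kf xf26 yf19 zf36) (kf xf28 yf0 zf13) (kf xf26 yf22 zf14) (kf xf28 yf0 zf0) (kf xf20 yf36 zf26) (kf xf29 yf53 zf57) (kf xf18 yf41 zf26) (kf xf28 yf24 zf30) (kf xf28 yf0 zf7) (kf xf28 yf24 zf23) (kf xf28 yf9 zf48) (kf xf18 yf41 zf32) (kf xf27 yf23 zf41) (kf xf27 yf23 zf42) (kf xf22 yf19 zf55) (kf xf27 yf46 zf56)) (@D3.rec (fun _ => Pt) (kf xf19 yf17 zf45) (kf xf19 yf18 zf4) (kf xf28 yf38 zf27) (kf xf23 yf9 zf55) (kf xf20 yf18 zf47) (kf xf23 yf58 zf27)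 (kf xf27 yf59 zf41) (kf xf29 yf31 zf44) (kf xf29 yf31 zf45) (kf xf32 yf19 zf46) (kf xf18 yf42 zf6) (kf xf20 yf25 zf29) (kf xf27 yf7 zf58) (kf xf26 yf26 zf27) (kf xf22 yf30 zf54) (kf xf23 yf31 zf47) (kf xf18 yf42 zf26) (kf xf30 yf32 zf10) (kf xf30 yf31 zf39) (kf xf30 yf33 zf31) (kf xf21 yf49 zf29) (kf xf29 yf10 zf43) (kf xf31 yf59 zf4) (kf xf29 yf9 zf55) (kf xf31 yf59 zf3) (kf xf31 yf8 zf28) (kf xf31 yf59 zf5) (kf xf30 yf40 zf46) (kf xf18 yf42 zf34) (kf xf25 yf46 zf39) (kf xf29 yf14 zf30) (kf xf31 yf49 zf37) (kf xf29 yf6 zf24) (kf xf23 yf17 zf38) (kf xf31 yf49 zf35) (kf xf31 yf49 zf36) (kf xf27 yf48 zf48) (kf xf31 yf44 zf50) (kf xf21 yf16 zf1) (kf xf27 yf9 zf12) (kf xf28 yf0 zf41) (kf xf18 yf59 zf13) (kf xf27 yf14 zf55) (kf xf27 yf14 zf54) (kf xf18 yf42 zf50) (kf xf20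 yf1 zf14) (kf xf25 yf18 zf23) (kf xf27 yf57 zf36) (kf xf18 yf42 zf59) (kf xf20 yf18 zf43) (kf xf20 yf18 zf41) (kf xf20 yf18 zf42) (kf xf23 yf32 zf30) (kf xf23 yf32 zf31) (kf xf19 yf51 zf6) (kf xf21 yf57 zf32) (kf xf27 yf8 zf21) (kf xf27 yf42 zf16) (kf xf26 yf53 zf11) (kf xf20 yf22 zf56) (kf xf23 yf48 zf1) (kf xf25 yf55 zf11)) (@D3.rec (fun _ => Pt) (kf xf25 yf43 zf37) (kf xf25 yf56 zf6) (kf xf28 yf50 zf19) (kf xf25 yf58 zf14) (kf xf28 yf15 zf19) (kf xf28 yf50 zf21) (kf xf26 yf25 zf7) (kf xf24 yf10 zf16) (kf xf22 yf35 zf53) (kf xf22 yf57 zf26) (kf xf18 yf44 zf7) (kf xf24 yf47 zf2) (kf xf28 yf50 zf23) (kf xf25 yf56 zf5) (kf xf20 yf41 zf2) (kf xf25 yf43 zf36) (kf xf25 yf55 zf24) (kf xf25 yf56 zf4) (kf xf28 yf51 zf22) (kf xf24 yf50 zf12) (kf xf28 yf51 zf23) (kf xf19 yf58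 zf18) (kf xf28 yf43 zf5) (kf xf24 yf51 zf49) (kf xf32 yf3 zf23) (kf xf19 yf42 zf22) (kf xf19 yf21 zf7) (kf xf18 yf44 zf23) (kf xf28 yf9 zf3) (kf xf26 yf25 zf45) (kf xf29 yf28 zf26) (kf xf28 yf9 zf5) (kf xf27 yf14 zf12) (kf xf27 yf12 zf55) (kf xf18 yf46 zf1) (kf xf32 yf0 zf48) (kf xf18 yf46 zf8) (kf xf18 yf46 zf15) (kf xf18 yf46 zf16) (kf xf20 yf46 zf54) (kf xf28 yf19 zf59) (kf xf24 yf44 zf16) (kf xf31 yf38 zf47) (kf xf28 yf22 zf46) (kf xf32 yf32 zf60) (kf xf18 yf44 zf52) (kf xf18 yf46 zf60) (kf xf32 yf15 zf0) (kf xf18 yf44 zf55) (kf xf18 yf47 zf44) (kf xf23 yf53 zf49) (kf xf18 yf47 zf47) (kf xf26 yf52 zf59) (kf xf23 yf52 zf58) (kf xf18 yf45 zf0) (kf xf32 yf2 zf18) (kf xf19 yf21 zf44) (kf xf18 yf45 zf10) (kf xf19 yf22 zf7) (kf xf18 yf45 zf6) (kf xf28 yf22 zf30) (kf xf18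 yf45 zf7)) (@D3.rec (fun _ => Pt) (kf xf19 yf22 zf3) (kf xf29 yf52 zf24) (kf xf29 yf29 zf40) (kf xf19 yf22 zf4) (kf xf30 yf23 zf3) (kf xf19 yf22 zf6) (kf xf26 yf48 zf54) (kf xf27 yf5 zf10) (kf xf26 yf28 zf60) (kf xf19 yf21 zf30) (kf xf28 yf20 zf24) (kf xf28 yf18 zf32) (kf xf24 yf11 zf15) (kf xf29 yf4 zf41) (kf xf28 yf21 zf12) (kf xf19 yf20 zf52) (kf xf19 yf21 zf9) (kf xf19 yf21 zf11) (kf xf28 yf21 zf56) (kf xf28 yf14 zf4) (kf xf28 yf21 zf2) (kf xf27 yf31 zf55) (kf xf19 yf51 zf2) (kf xf28 yf44 zf2) (kf xf20 yf47 zf14) (kf xf20 yf47 zf44) (kf xf20 yf44 zf20) (kf xf30 yf7 zf30) (kf xf28 yf21 zf27) (kf xf19 yf20 zf38) (kf xf31 yf7 zf42) (kf xf28 yf21 zf33) (kf xf32 yf10 zf23) (kf xf31 yf39 zf25) (kf xf28 yf38 zf5) (kf xf25 yf26 zf18) (kf xf25 yf26 zf22) (kf xf31 yf39 zf26)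 (kf xf22 yf20 zf17) (kf xf28 yf21 zf30) (kf xf31 yf32 zf56) (kf xf25 yf35 zf6) (kf xf29 yf25 zf47) (kf xf26 yf40 zf53) (kf xf32 yf14 zf57) (kf xf19 yf34 zf1) (kf xf32 yf14 zf56) (kf xf32 yf14 zf58) (kf xf29 yf48 zf47) (kf xf19 yf42 zf25) (kf xf32 yf14 zf59) (kf xf28 yf27 zf61) (kf xf21 yf15 zf49) (kf xf25 yf26 zf28) (kf xf21 yf30 zf38) (kf xf28 yf21 zf36) (kf xf28 yf19 zf48) (kf xf29 yf56 zf16) (kf xf21 yf16 zf45) (kf xf28 yf54 zf1) (kf xf21 yf24 zf9) (kf xf25 yf12 zf17)) (@D3.rec (fun _ => Pt) (kf xf25 yf12 zf13) (kf xf18 yf46 zf29) (kf xf18 yf51 zf0) (kf xf25 yf12 zf33) (kf xf27 yf42 zf33) (kf xf25 yf26 zf17) (kf xf28 yf54 zf4) (kf xf31 yf25 zf45) (kf xf31 yf55 zf12) (kf xf28 yf22 zf5) (kf xf28 yf22 zf6) (kf xf28 yf22 zf7) (kf xf28 yf22 zf8) (kf xf28 yf18 zf40) (kf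 xf28 yf22 zf9) (kf xf28 yf22 zf10) (kf xf27 yf56 zf3) (kf xf28 yf2 zf51) (kf xf27 yf47 zf8) (kf xf27 yf46 zf29) (kf xf24 yf44 zf18) (kf xf31 yf14 zf18) (kf xf29 yf39 zf11) (kf xf21 yf3 zf33) (kf xf18 yf46 zf48) (kf xf22 yf26 zf47) (kf xf30 yf38 zf38) (kf xf31 yf31 zf25) (kf xf22 yf13 zf8) (kf xf18 yf46 zf50) (kf xf27 yf13 zf32) (kf xf27 yf13 zf31) (kf xf25 yf46 zf48) (kf xf30 yf5 zf54) (kf xf30 yf5 zf55) (kf xf30 yf5 zf56) (kf xf30 yf38 zf33) (kf xf28 yf17 zf32) (kf xf31 yf31 zf20) (kf xf28 yf17 zf31) (kf xf30 yf5 zf60) (kf xf29 yf48 zf22) (kf xf27 yf59 zf8) (kf xf30 yf5 zf58) (kf xf19 yf29 zf43) (kf xf18 yf47 zf0) (kf xf32 yf31 zf11) (kf xf30 yf5 zf52) (kf xf27 yf8 zf4) (kf xf31 yf39 zf13) (kf xf32 yf30 zf25) (kf xf25 yf26 zf26) (kf xf27 yf22 zf24) (kf xf28 yf59 zf9)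 (kf xf32 yf26 zf44) (kf xf28 yf33 zf44) (kf xf18 yf47 zf10) (kf xf28 yf20 zf8) (kf xf32 yf31 zf47) (kf xf28 yf22 zf31) (kf xf28 yf22 zf32) (kf xf27 yf54 zf23)) (@D3.rec (fun _ => Pt) (kf xf18 yf47 zf23) (kf xf18 yf47 zf18) (kf xf32 yf15 zf26) (kf xf30 yf36 zf49) (kf xf18 yf47 zf22) (kf xf28 yf27 zf4) (kf xf32 yf25 zf54) (kf xf27 yf9 zf47) (kf xf27 yf23 zf56) (kf xf22 yf22 zf47) (kf xf20 yf37 zf5) (kf xf18 yf47 zf25) (kf xf24 yf18 zf10) (kf xf27 yf10 zf7) (kf xf25 yf46 zf49) (kf xf30 yf36 zf8) (kf xf25 yf56 zf48) (kf xf30 yf6 zf60) (kf xf23 yf9 zf50) (kf xf18 yf47 zf48) (kf xf30 yf38 zf26) (kf xf24 yf55 zf45) (kf xf30 yf38 zf8) (kf xf30 yf38 zf27) (kf xf32 yf9 zf56) (kf xf18 yf47 zf50) (kf xf27 yf8 zf45) (kf xf26 yf50 zf32) (kf xf27 yf8 zf44) (kf xf23 yf48 zf39) (kf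 xf32 yf20 zf17) (kf xf28 yf16 zf39) (kf xf28 yf16 zf37) (kf xf32 yf21 zf26) (kf xf19 yf30 zf25) (kf xf18 yf47 zf58) (kf xf28 yf23 zf10) (kf xf24 yf46 zf15) (kf xf28 yf23 zf11) (kf xf20 yf46 zf36) (kf xf30 yf33 zf42) (kf xf22 yf40 zf42) (kf xf30 yf35 zf17) (kf xf23 yf56 zf13) (kf xf26 yf51 zf2) (kf xf23 yf56 zf5) (kf xf31 yf13 zf59) (kf xf26 yf42 zf12) (kf xf31 yf45 zf23) (kf xf18 yf48 zf16) (kf xf19 yf22 zf30) (kf xf26 yf52 zf13) (kf xf22 yf18 zf10) (kf xf32 yf33 zf25) (kf xf18 yf48 zf20) (kf xf26 yf52 zf14) (kf xf32 yf27 zf4) (kf xf19 yf11 zf47) (kf xf18 yf48 zf26) (kf xf19 yf22 zf53) (kf xf30 yf26 zf18) (kf xf19 yf22 zf60)) (@D3.rec (fun _ => Pt) (kf xf18 yf48 zf36) (kf xf27 yf43 zf36) (kf xf20 yf0 zf22) (kf xf29 yf6 zf39) (kf xf18 yf48 zf39) (kf xf29 yf19 zf58) (kf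 xf29 yf3 zf3) (kf xf30 yf17 zf48) (kf xf19 yf5 zf17) (kf xf19 yf5 zf18) (kf xf20 yf23 zf53) (kf xf28 yf23 zf53) (kf xf20 yf35 zf29) (kf xf22 yf39 zf1) (kf xf22 yf39 zf2) (kf xf22 yf39 zf10) (kf xf20 yf10 zf28) (kf xf20 yf52 zf34) (kf xf26 yf52 zf44) (kf xf28 yf56 zf38) (kf xf27 yf59 zf3) (kf xf27 yf14 zf10) (kf xf28 yf24 zf8) (kf xf28 yf24 zf10) (kf xf28 yf24 zf12) (kf xf28 yf51 zf16) (kf xf22 yf1 zf17) (kf xf23 yf51 zf7) (kf xf28 yf24 zf13) (kf xf22 yf1 zf28) (kf xf28 yf24 zf14) (kf xf28 yf24 zf15) (kf xf28 yf15 zf11) (kf xf22 yf24 zf36) (kf xf28 yf24 zf17) (kf xf27 yf12 zf22) (kf xf28 yf24 zf19) (kf xf28 yf24 zf20) (kf xf31 yf55 zf35) (kf xf28 yf24 zf21) (kf xf28 yf16 zf13) (kf xf23 yf6 zf36) (kf xf24 yf53 zf55) (kf xf20 yf10 zf36) (kf xf22 yf34 zf48) (kf xf25 yf22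 zf41) (kf xf30 yf57 zf45) (kf xf26 yf41 zf24) (kf xf26 yf20 zf10) (kf xf23 yf19 zf21) (kf xf32 yf10 zf27) (kf xf27 yf58 zf47) (kf xf27 yf58 zf48) (kf xf19 yf13 zf17) (kf xf30 yf37 zf18) (kf xf29 yf54 zf36) (kf xf23 yf48 zf5) (kf xf31 yf37 zf13) (kf xf19 yf12 zf29) (kf xf27 yf7 zf60) (kf xf18 yf50 zf3) (kf xf30 yf19 zf43)) (@D3.rec (fun _ => Pt) (kf xf30 yf12 zf19) (kf xf31 yf14 zf21) (kf xf28 yf32 zf34) (kf xf19 yf13 zf13) (kf xf31 yf25 zf33) (kf xf25 yf38 zf58) (kf xf30 yf52 zf20) (kf xf18 yf50 zf28) (kf xf20 yf10 zf32) (kf xf21 yf34 zf11) (kf xf30 yf5 zf12) (kf xf27 yf22 zf58) (kf xf19 yf3 zf45) (kf xf19 yf3 zf49) (kf xf24 yf48 zf56) (kf xf27 yf37 zf34) (kf xf27 yf37 zf51) (kf xf27 yf29 zf51) (kf xf25 yf4 zf49) (kf xf25 yf4 zf39) (kf xf31 yf10 zf45) (kf xf24 yf39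 zf60) (kf xf23 yf39 zf38) (kf xf25 yf4 zf61) (kf xf18 yf51 zf7) (kf xf29 yf5 zf18) (kf xf30 yf46 zf9) (kf xf25 yf12 zf16) (kf xf29 yf5 zf29) (kf xf25 yf36 zf13) (kf xf25 yf36 zf27) (kf xf25 yf36 zf30) (kf xf28 yf23 zf45) (kf xf25 yf36 zf12) (kf xf32 yf18 zf7) (kf xf18 yf52 zf19) (kf xf27 yf15 zf35) (kf xf18 yf51 zf20) (kf xf25 yf5 zf32) (kf xf25 yf5 zf33) (kf xf31 yf27 zf15) (kf xf21 yf5 zf11) (kf xf31 yf31 zf58) (kf xf18 yf51 zf22) (kf xf21 yf39 zf31) (kf xf28 yf34 zf30) (kf xf25 yf59 zf21) (kf xf18 yf53 zf51) (kf xf28 yf15 zf56) (kf xf18 yf53 zf58) (kf xf18 yf53 zf60) (kf xf18 yf53 zf61) (kf xf18 yf54 zf0) (kf xf18 yf53 zf23) (kf xf18 yf53 zf26) (kf xf29 yf7 zf30) (kf xf18 yf53 zf30) (kf xf18 yf53 zf34) (kf xf18 yf54 zf9) (kf xf28 yf14 zf40) (kf xf18 yf54 zf43) (kf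 xf18 yf54 zf46)) (@D3.rec (fun _ => Pt) (kf xf18 yf54 zf55) (kf xf18 yf54 zf59) (kf xf18 yf55 zf0) (kf xf18 yf55 zf1) (kf xf18 yf55 zf2) (kf xf18 yf52 zf1) (kf xf18 yf51 zf59) (kf xf20 yf45 zf20) (kf xf28 yf16 zf57) (kf xf28 yf46 zf43) (kf xf18 yf51 zf55) (kf xf22 yf53 zf12) (kf xf18 yf51 zf56) (kf xf30 yf56 zf3) (kf xf28 yf46 zf29) (kf xf23 yf10 zf27) (kf xf18 yf52 zf3) (kf xf18 yf52 zf2) (kf xf25 yf16 zf8) (kf xf24 yf28 zf55) (kf xf32 yf2 zf10) (kf xf32 yf32 zf52) (kf xf24 yf28 zf34) (kf xf26 yf56 zf35) (kf xf28 yf15 zf10) (kf xf18 yf55 zf41) (kf xf18 yf55 zf42) (kf xf18 yf55 zf51) (kf xf26 yf56 zf32) (kf xf22 yf52 zf42) (kf xf25 yf29 zf21) (kf xf25 yf29 zf24) (kf xf22 yf52 zf48) (kf xf31 yf20 zf51) (kf xf28 yf59 zf54) (kf xf18 yf52 zf48) (kf xf18 yf52 zf50) (kf xf29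 yf48 zf36) (kf xf31 yf53 zf40) (kf xf29 yf43 zf0) (kf xf29 yf4 zf40) (kf xf18 yf52 zf45) (kf xf25 yf21 zf54) (kf xf28 yf23 zf22) (kf xf25 yf54 zf42) (kf xf31 yf53 zf58) (kf xf19 yf45 zf0) (kf xf19 yf45 zf4) (kf xf29 yf7 zf38) (kf xf23 yf51 zf59) (kf xf19 yf11 zf41) (kf xf28 yf45 zf46) (kf xf27 yf12 zf24) (kf xf32 yf31 zf37) (kf xf21 yf15 zf30) (kf xf31 yf16 zf9) (kf xf28 yf22 zf19) (kf xf28 yf22 zf20) (kf xf26 yf49 zf19) (kf xf28 yf22 zf27) (kf xf28 yf22 zf26) (kf xf18 yf53 zf14)) (@D3.rec (fun _ => Pt) (kf xf30 yf56 zf11) (kf xf23 yf52 zf15) (kf xf28 yf15 zf20) (kf xf28 yf33 zf35) (kf xf25 yf35 zf48) (kf xf28 yf22 zf22) (kf xf31 yf27 zf31) (kf xf18 yf53 zf20) (kf xf19 yf15 zf16) (kf xf27 yf30 zf1) (kf xf27 yf31 zf43) (kf xf18 yf53 zf25) (kf xf28 yf15 zf14) (kf xf28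 yf22 zf16) (kf xf27 yf41 zf50) (kf xf31 yf26 zf51) (kf xf31 yf6 zf29) (kf xf29 yf53 zf29) (kf xf31 yf6 zf28) (kf xf27 yf2 zf33) (kf xf22 yf47 zf37) (kf xf31 yf6 zf8) (kf xf21 yf53 zf26) (kf xf21 yf38 zf54) (kf xf31 yf15 zf36) (kf xf32 yf2 zf37) (kf xf30 yf56 zf14) (kf xf28 yf15 zf28) (kf xf28 yf45 zf35) (kf xf28 yf25 zf34) (kf xf28 yf15 zf39) (kf xf26 yf29 zf18) (kf xf32 yf29 zf11) (kf xf28 yf15 zf31) (kf xf27 yf54 zf4) (kf xf28 yf22 zf34) (kf xf28 yf15 zf55) (kf xf32 yf33 zf57) (kf xf32 yf33 zf59) (kf xf28 yf43 zf23) (kf xf28 yf43 zf24) (kf xf30 yf55 zf14) (kf xf23 yf12 zf9) (kf xf18 yf54 zf3) (kf xf18 yf53 zf59) (kf xf32 yf10 zf28) (kf xf28 yf56 zf24) (kf xf18 yf56 zf53) (kf xf30 yf53 zf34) (kf xf32 yf33 zf43) (kf xf31 yf49 zf19) (kf xf31 yf59 zf42) (kf xf30 yf36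 zf37) (kf xf26 yf40 zf54) (kf xf31 yf12 zf59) (kf xf27 yf3 zf6) (kf xf28 yf15 zf18) (kf xf21 yf15 zf32) (kf xf28 yf45 zf49) (kf xf22 yf15 zf19) (kf xf28 yf46 zf10) (kf xf32 yf21 zf54)) (@D3.rec (fun _ => Pt) (kf xf24 yf50 zf54) (kf xf28 yf47 zf37) (kf xf25 yf23 zf59) (kf xf25 yf23 zf60) (kf xf25 yf24 zf0) (kf xf28 yf16 zf9) (kf xf28 yf16 zf10) (kf xf28 yf16 zf11) (kf xf28 yf16 zf12) (kf xf28 yf16 zf14) (kf xf28 yf16 zf15) (kf xf20 yf47 zf56) (kf xf28 yf2 zf7) (kf xf23 yf12 zf3) (kf xf24 yf57 zf10) (kf xf30 yf50 zf59) (kf xf28 yf21 zf13) (kf xf26 yf27 zf47) (kf xf30 yf24 zf32) (kf xf28 yf20 zf56) (kf xf28 yf20 zf57) (kf xf32 yf16 zf30) (kf xf28 yf21 zf5) (kf xf18 yf54 zf32) (kf xf23 yf11 zf48) (kf xf32 yf34 zf8) (kf xf28 yf20 zf60) (kf xf28 yf20 zf59) (kf xf32 yf34 zf9)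 (kf xf18 yf54 zf34) (kf xf28 yf14 zf60) (kf xf28 yf16 zf59) (kf xf28 yf16 zf60) (kf xf30 yf48 zf14) (kf xf28 yf21 zf35) (kf xf27 yf15 zf31) (kf xf31 yf22 zf50) (kf xf27 yf15 zf32) (kf xf32 yf22 zf49) (kf xf30 yf56 zf5) (kf xf30 yf48 zf12) (kf xf23 yf55 zf2) (kf xf30 yf23 zf20) (kf xf27 yf53 zf55) (kf xf24 yf46 zf9) (kf xf27 yf50 zf17) (kf xf28 yf14 zf43) (kf xf30 yf7 zf32) (kf xf30 yf44 zf39) (kf xf28 yf32 zf38) (kf xf23 yf4 zf32) (kf xf24 yf21 zf49) (kf xf27 yf15 zf3) (kf xf19 yf27 zf27) (kf xf22 yf57 zf50) (kf xf31 yf25 zf13) (kf xf32 yf34 zf13) (kf xf31 yf39 zf33) (kf xf24 yf6 zf32) (kf xf22 yf56 zf61) (kf xf29 yf52 zf27) (kf xf19 yf8 zf51)) (@D3.rec (fun _ => Pt) (kf xf30 yf10 zf61) (kf xf24 yf28 zf57) (kf xf22 yf53 zf0) (kf xf26 yf28 zf39) (kf xf28 yf11 zf4) (kf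 xf18 yf55 zf6) (kf xf23 yf54 zf9) (kf xf23 yf4 zf38) (kf xf18 yf55 zf13) (kf xf20 yf11 zf42) (kf xf28 yf17 zf36) (kf xf28 yf17 zf38) (kf xf18 yf55 zf25) (kf xf26 yf55 zf43) (kf xf23 yf18 zf52) (kf xf30 yf56 zf7) (kf xf18 yf55 zf15) (kf xf22 yf53 zf31) (kf xf28 yf24 zf55) (kf xf28 yf24 zf54) (kf xf32 yf29 zf25) (kf xf18 yf55 zf19) (kf xf28 yf20 zf43) (kf xf29 yf30 zf42) (kf xf18 yf55 zf30) (kf xf18 yf55 zf31) (kf xf18 yf55 zf27) (kf xf18 yf55 zf28) (kf xf30 yf23 zf56) (kf xf30 yf43 zf13) (kf xf29 yf25 zf27) (kf xf28 yf8 zf54) (kf xf31 yf23 zf28) (kf xf28 yf24 zf51) (kf xf28 yf24 zf49) (kf xf32 yf30 zf13) (kf xf23 yf54 zf19) (kf xf31 yf56 zf30) (kf xf32 yf31 zf24) (kf xf27 yf41 zf46) (kf xf25 yf28 zf38) (kf xf29 yf30 zf37) (kf xf25 yf11 zf30) (kf xf30 yf23 zf49) (kf xf29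 yf30 zf52) (kf xf28 yf19 zf32) (kf xf29 yf30 zf46) (kf xf18 yf55 zf35) (kf xf28 yf57 zf36) (kf xf25 yf28 zf29) (kf xf18 yf55 zf39) (kf xf30 yf23 zf55) (kf xf32 yf16 zf61) (kf xf28 yf18 zf11) (kf xf32 yf3 zf5) (kf xf29 yf8 zf16) (kf xf28 yf55 zf35) (kf xf23 yf53 zf10) (kf xf22 yf54 zf22) (kf xf22 yf7 zf3) (kf xf25 yf55 zf55) (kf xf24 yf6 zf22)) (@D3.rec (fun _ => Pt) (kf xf22 yf6 zf59) (kf xf22 yf6 zf60) (kf xf23 yf12 zf31) (kf xf23 yf4 zf26) (kf xf30 yf14 zf50) (kf xf30 yf16 zf24) (kf xf31 yf58 zf54) (kf xf32 yf22 zf20) (kf xf28 yf18 zf22) (kf xf23 yf49 zf5) (kf xf28 yf18 zf23) (kf xf28 yf40 zf5) (kf xf28 yf18 zf24) (kf xf28 yf18 zf28) (kf xf28 yf18 zf30) (kf xf28 yf18 zf31) (kf xf24 yf25 zf48) (kf xf28 yf18 zf34) (kf xf28 yf51 zf9) (kf xf28 yf18 zf36) (kf xf28 yf18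 zf37) (kf xf28 yf18 zf39) (kf xf26 yf58 zf13) (kf xf28 yf12 zf55) (kf xf26 yf58 zf12) (kf xf28 yf26 zf28) (kf xf24 yf7 zf59) (kf xf26 yf22 zf53) (kf xf19 yf10 zf10) (kf xf21 yf11 zf48) (kf xf28 yf12 zf53) (kf xf28 yf26 zf46) (kf xf28 yf26 zf41) (kf xf20 yf29 zf27) (kf xf22 yf49 zf61) (kf xf21 yf53 zf29) (kf xf20 yf13 zf50) (kf xf20 yf7 zf4) (kf xf26 yf23 zf0) (kf xf20 yf35 zf50) (kf xf26 yf3 zf35) (kf xf26 yf0 zf58) (kf xf28 yf11 zf1) (kf xf30 yf52 zf27) (kf xf25 yf37 zf18) (kf xf18 yf56 zf39) (kf xf25 yf46 zf13) (kf xf18 yf57 zf17) (kf xf28 yf56 zf23) (kf xf28 yf23 zf34) (kf xf32 yf34 zf32) (kf xf28 yf23 zf33) (kf xf26 yf51 zf16) (kf xf30 yf49 zf6) (kf xf28 yf23 zf19) (kf xf28 yf23 zf18) (kf xf28 yf38 zf18) (kf xf27 yf1 zf57) (kf xf25 yf56 zf34) (kf xf21 yf54 zf32)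 (kf xf18 yf57 zf5) (kf xf31 yf33 zf52)) (@D3.rec (fun _ => Pt) (kf xf23 yf21 zf3) (kf xf30 yf15 zf7) (kf xf30 yf3 zf26) (kf xf22 yf29 zf33) (kf xf30 yf15 zf8) (kf xf27 yf7 zf20) (kf xf30 yf3 zf27) (kf xf30 yf1 zf47) (kf xf20 yf41 zf4) (kf xf20 yf40 zf58) (kf xf30 yf7 zf34) (kf xf31 yf59 zf40) (kf xf29 yf27 zf45) (kf xf24 yf33 zf11) (kf xf26 yf58 zf21) (kf xf18 yf57 zf36) (kf xf32 yf34 zf37) (kf xf22 yf2 zf6) (kf xf29 yf30 zf39) (kf xf28 yf11 zf21) (kf xf29 yf6 zf53) (kf xf18 yf57 zf40) (kf xf23 yf54 zf12) (kf xf23 yf53 zf61) (kf xf32 yf34 zf41) (kf xf32 yf34 zf43) (kf xf31 yf17 zf9) (kf xf29 yf32 zf0) (kf xf31 yf16 zf54) (kf xf29 yf16 zf0) (kf xf31 yf17 zf26) (kf xf30 yf34 zf36) (kf xf22 yf22 zf30) (kf xf19 yf17 zf24) (kf xf28 yf21 zf29) (kf xf32 yf9 zf39) (kf xf27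 yf45 zf58) (kf xf30 yf23 zf28) (kf xf28 yf6 zf20) (kf xf23 yf50 zf35) (kf xf28 yf6 zf59) (kf xf29 yf54 zf32) (kf xf31 yf42 zf39) (kf xf32 yf34 zf46) (kf xf27 yf51 zf13) (kf xf31 yf14 zf43) (kf xf27 yf56 zf8) (kf xf18 yf58 zf20) (kf xf22 yf49 zf36) (kf xf27 yf48 zf56) (kf xf28 yf7 zf40) (kf xf31 yf14 zf51) (kf xf18 yf58 zf29) (kf xf28 yf27 zf46) (kf xf23 yf15 zf47) (kf xf18 yf58 zf41) (kf xf18 yf58 zf40) (kf xf29 yf18 zf61) (kf xf23 yf53 zf32) (kf xf23 yf53 zf50) (kf xf23 yf52 zf31) (kf xf23 yf15 zf40)) (@D3.rec (fun _ => Pt) (kf xf18 yf58 zf39) (kf xf29 yf55 zf41) (kf xf31 yf2 zf37) (kf xf30 yf59 zf55) (kf xf21 yf15 zf43) (kf xf18 yf58 zf42) (kf xf28 yf10 zf50) (kf xf28 yf10 zf49) (kf xf28 yf10 zf52) (kf xf27 yf55 zf44) (kf xf27 yf55 zf48) (kf xf23 yf52 zf32) (kf xf27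 yf1 zf23) (kf xf30 yf32 zf37) (kf xf19 yf2 zf10) (kf xf29 yf18 zf41) (kf xf19 yf51 zf40) (kf xf18 yf59 zf8) (kf xf24 yf28 zf20) (kf xf30 yf44 zf12) (kf xf29 yf24 zf8) (kf xf18 yf59 zf6) (kf xf20 yf0 zf4) (kf xf29 yf55 zf34) (kf xf20 yf7 zf23) (kf xf22 yf51 zf25) (kf xf18 yf59 zf9) (kf xf30 yf45 zf22) (kf xf28 yf24 zf25) (kf xf24 yf9 zf35) (kf xf28 yf0 zf3) (kf xf27 yf12 zf20) (kf xf27 yf58 zf35) (kf xf26 yf58 zf16) (kf xf27 yf58 zf24) (kf xf27 yf15 zf1) (kf xf19 yf11 zf55) (kf xf26 yf19 zf55) (kf xf26 yf19 zf58) (kf xf26 yf24 zf49) (kf xf19 yf12 zf32) (kf xf28 yf24 zf32) (kf xf24 yf1 zf32) (kf xf32 yf20 zf28) (kf xf18 yf59 zf28) (kf xf19 yf11 zf54) (kf xf28 yf24 zf31) (kf xf18 yf59 zf29) (kf xf18 yf59 zf35) (kf xf26 yf20 zf29) (kf xf26 yf20 zf32) (kf xf27 yf58 zf27)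 (kf xf27 yf58 zf16) (kf xf28 yf28 zf20) (kf xf28 yf28 zf19) (kf xf28 yf1 zf7) (kf xf18 yf59 zf38) (kf xf27 yf58 zf19) (kf xf19 yf12 zf33) (kf xf19 yf43 zf37) (kf xf24 yf46 zf23) (kf xf26 yf29 zf32)) (@D3.rec (fun _ => Pt) (kf xf18 yf59 zf55) (kf xf23 yf52 zf23) (kf xf18 yf59 zf50) (kf xf26 yf29 zf21) (kf xf28 yf17 zf5) (kf xf18 yf59 zf56) (kf xf23 yf32 zf6) (kf xf20 yf31 zf7) (kf xf26 yf20 zf14) (kf xf19 yf0 zf6) (kf xf26 yf20 zf23) (kf xf24 yf40 zf21) (kf xf32 yf34 zf53) (kf xf19 yf0 zf11) (kf xf19 yf0 zf13) (kf xf19 yf0 zf15) (kf xf19 yf2 zf11) (kf xf23 yf31 zf56) (kf xf26 yf27 zf27) (kf xf27 yf9 zf32) (kf xf19 yf0 zf23) (kf xf28 yf28 zf41) (kf xf28 yf28 zf42) (kf xf28 yf28 zf39) (kf xf28 yf28 zf40) (kf xf26 yf17 zf24) (kf xf28 yf28 zf45) (kf xf28 yf28 zf44) (kf xf28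 yf28 zf48) (kf xf28 yf28 zf47) (kf xf20 yf10 zf19) (kf xf20 yf8 zf25) (kf xf26 yf29 zf29) (kf xf26 yf7 zf17) (kf xf30 yf1 zf21) (kf xf27 yf56 zf6) (kf xf27 yf40 zf9) (kf xf27 yf56 zf16) (kf xf21 yf25 zf40) (kf xf21 yf25 zf38) (kf xf31 yf34 zf17) (kf xf31 yf8 zf9) (kf xf30 yf4 zf59) (kf xf31 yf8 zf10) (kf xf21 yf55 zf3) (kf xf26 yf19 zf34) (kf xf28 yf25 zf53) (kf xf24 yf5 zf25) (kf xf30 yf58 zf29) (kf xf31 yf16 zf3) (kf xf32 yf7 zf1) (kf xf28 yf0 zf9) (kf xf28 yf0 zf8) (kf xf27 yf58 zf36) (kf xf30 yf24 zf29) (kf xf21 yf40 zf10) (kf xf25 yf59 zf41) (kf xf24 yf17 zf10) (kf xf30 yf17 zf19) (kf xf26 yf40 zf42) (kf xf19 yf1 zf11) (kf xf28 yf15 zf51)) (@D3.rec (fun _ => Pt) (kf xf29 yf7 zf59) (kf xf30 yf32 zf55) (kf xf21 yf9 zf11) (kf xf24 yf31 zf8) (kf xf19 yf1 zf17) (kf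 xf23 yf52 zf27) (kf xf27 yf31 zf16) (kf xf31 yf38 zf60) (kf xf32 yf10 zf26) (kf xf32 yf8 zf43) (kf xf19 yf1 zf20) (kf xf26 yf18 zf48) (kf xf23 yf13 zf52) (kf xf23 yf32 zf5) (kf xf28 yf12 zf17) (kf xf29 yf14 zf60) (kf xf20 yf28 zf45) (kf xf30 yf55 zf23) (kf xf19 yf1 zf35) (kf xf28 yf26 zf54) (kf xf28 yf26 zf53) (kf xf26 yf58 zf1) (kf xf19 yf1 zf38) (kf xf32 yf16 zf24) (kf xf28 yf29 zf52) (kf xf19 yf1 zf41) (kf xf31 yf32 zf48) (kf xf29 yf9 zf60) (kf xf24 yf18 zf12) (kf xf24 yf18 zf28) (kf xf22 yf54 zf21) (kf xf30 yf46 zf2) (kf xf23 yf33 zf35) (kf xf30 yf39 zf58) (kf xf24 yf31 zf18) (kf xf26 yf16 zf7) (kf xf26 yf14 zf47) (kf xf31 yf0 zf45) (kf xf26 yf13 zf20) (kf xf28 yf27 zf23) (kf xf28 yf27 zf24) (kf xf28 yf27 zf21) (kf xf28 yf27 zf22) (kf xf20 yf10 zf46) (kf xf28 yf27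 zf27) (kf xf28 yf27 zf26) (kf xf19 yf2 zf24) (kf xf28 yf27 zf29) (kf xf28 yf27 zf28) (kf xf26 yf17 zf32) (kf xf30 yf12 zf40) (kf xf29 yf24 zf40) (kf xf19 yf8 zf25) (kf xf19 yf8 zf31) (kf xf19 yf8 zf8) (kf xf19 yf8 zf13) (kf xf19 yf8 zf14) (kf xf19 yf8 zf11) (kf xf19 yf8 zf12) (kf xf19 yf4 zf43) (kf xf28 yf37 zf28) (kf xf19 yf8 zf19)) (@D3.rec (fun _ => Pt) (kf xf19 yf9 zf8) (kf xf19 yf9 zf12) (kf xf19 yf9 zf14) (kf xf31 yf18 zf50) (kf xf19 yf9 zf16) (kf xf19 yf9 zf17) (kf xf19 yf9 zf18) (kf xf32 yf30 zf59) (kf xf19 yf20 zf36) (kf xf28 yf37 zf25) (kf xf19 yf2 zf51) (kf xf19 yf9 zf2) (kf xf28 yf58 zf22) (kf xf19 yf2 zf52) (kf xf28 yf37 zf26) (kf xf19 yf8 zf54) (kf xf29 yf40 zf57) (kf xf19 yf8 zf56) (kf xf19 yf19 zf61) (kf xf19 yf2 zf59) (kf xf32 yf35 zf16) (kf xf19 yf2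 zf60) (kf xf28 yf40 zf7) (kf xf28 yf48 zf37) (kf xf19 yf3 zf3) (kf xf31 yf31 zf42) (kf xf19 yf3 zf4) (kf xf29 yf53 zf30) (kf xf31 yf34 zf9) (kf xf19 yf3 zf9) (kf xf22 yf41 zf6) (kf xf19 yf10 zf7) (kf xf22 yf38 zf32) (kf xf19 yf10 zf23) (kf xf19 yf10 zf19) (kf xf25 yf48 zf0) (kf xf19 yf14 zf31) (kf xf19 yf14 zf33) (kf xf19 yf11 zf22) (kf xf19 yf12 zf14) (kf xf19 yf12 zf17) (kf xf29 yf8 zf24) (kf xf26 yf51 zf22) (kf xf28 yf33 zf57) (kf xf19 yf3 zf30) (kf xf28 yf33 zf58) (kf xf19 yf13 zf22) (kf xf19 yf11 zf60) (kf xf19 yf16 zf3) (kf xf31 yf26 zf32) (kf xf31 yf25 zf60) (kf xf31 yf29 zf56) (kf xf28 yf28 zf24) (kf xf19 yf15 zf23) (kf xf30 yf23 zf13) (kf xf19 yf15 zf32) (kf xf19 yf13 zf11) (kf xf19 yf13 zf15) (kf xf19 yf13 zf19) (kf xf20 yf38 zf43) (kf xf19 yf13 zf29) (kf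 xf19 yf13 zf23)) (@D3.rec (fun _ => Pt) (kf xf19 yf13 zf24) (kf xf19 yf13 zf26) (kf xf19 yf13 zf37) (kf xf19 yf13 zf38) (kf xf26 yf51 zf52) (kf xf19 yf13 zf34) (kf xf19 yf13 zf35) (kf xf19 yf13 zf40) (kf xf19 yf13 zf39) (kf xf31 yf24 zf53) (kf xf19 yf14 zf8) (kf xf19 yf3 zf56) (kf xf31 yf23 zf52) (kf xf19 yf13 zf50) (kf xf19 yf12 zf35) (kf xf29 yf5 zf51) (kf xf24 yf40 zf36) (kf xf32 yf15 zf18) (kf xf19 yf4 zf6) (kf xf31 yf28 zf22) (kf xf19 yf7 zf10) (kf xf19 yf15 zf48) (kf xf19 yf15 zf50) (kf xf19 yf15 zf46) (kf xf19 yf15 zf52) (kf xf19 yf15 zf51) (kf xf29 yf12 zf39) (kf xf19 yf4 zf12) (kf xf19 yf11 zf59) (kf xf19 yf16 zf4) (kf xf19 yf16 zf6) (kf xf19 yf16 zf11) (kf xf19 yf16 zf12) (kf xf23 yf56 zf37) (kf xf19 yf16 zf9) (kf xf19 yf16 zf15) (kf xf19 yf16 zf14) (kf xf24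 yf37 zf40) (kf xf19 yf4 zf19) (kf xf31 yf49 zf17) (kf xf28 yf42 zf33) (kf xf19 yf52 zf47) (kf xf29 yf8 zf32) (kf xf19 yf18 zf45) (kf xf19 yf18 zf52) (kf xf32 yf12 zf44) (kf xf30 yf22 zf36) (kf xf32 yf35 zf5) (kf xf19 yf18 zf59) (kf xf19 yf5 zf31) (kf xf32 yf30 zf60) (kf xf19 yf20 zf11) (kf xf19 yf23 zf1) (kf xf32 yf35 zf41) (kf xf19 yf20 zf29) (kf xf32 yf29 zf20) (kf xf29 yf36 zf2) (kf xf19 yf19 zf34) (kf xf26 yf37 zf16) (kf xf24 yf46 zf22) (kf xf31 yf15 zf29) (kf xf29 yf52 zf25)) (@D3.rec (fun _ => Pt) (kf xf30 yf30 zf59) (kf xf19 yf22 zf32) (kf xf20 yf38 zf38) (kf xf29 yf39 zf3) (kf xf19 yf22 zf43) (kf xf31 yf45 zf35) (kf xf19 yf5 zf23) (kf xf19 yf23 zf2) (kf xf19 yf23 zf3) (kf xf19 yf23 zf5) (kf xf31 yf32 zf17) (kf xf29 yf57 zf61) (kf xf24 yf42 zf20) (kf xf25 yf41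 zf60) (kf xf29 yf6 zf60) (kf xf29 yf43 zf48) (kf xf24 yf10 zf34) (kf xf28 yf1 zf25) (kf xf28 yf31 zf32) (kf xf30 yf40 zf23) (kf xf24 yf51 zf2) (kf xf23 yf30 zf52) (kf xf29 yf52 zf4) (kf xf27 yf19 zf31) (kf xf25 yf41 zf59) (kf xf19 yf6 zf1) (kf xf24 yf23 zf7) (kf xf24 yf33 zf39) (kf xf19 yf6 zf6) (kf xf19 yf42 zf13) (kf xf24 yf10 zf47) (kf xf27 yf43 zf43) (kf xf28 yf31 zf18) (kf xf23 yf29 zf13) (kf xf19 yf6 zf8) (kf xf24 yf48 zf60) (kf xf24 yf48 zf61) (kf xf24 yf48 zf59) (kf xf31 yf40 zf57) (kf xf24 yf52 zf9) (kf xf29 yf43 zf46) (kf xf19 yf6 zf10) (kf xf19 yf58 zf7) (kf xf25 yf37 zf25) (kf xf27 yf47 zf50) (kf xf21 yf10 zf51) (kf xf23 yf37 zf60) (kf xf21 yf10 zf53) (kf xf32 yf28 zf39) (kf xf24 yf48 zf11) (kf xf19 yf6 zf20) (kf xf26 yf30 zf42) (kf xf32 yf26 zf13) (kf xf19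 yf6 zf21) (kf xf27 yf35 zf3) (kf xf19 yf6 zf22) (kf xf24 yf13 zf3) (kf xf19 yf6 zf25) (kf xf32 yf28 zf50) (kf xf26 yf17 zf45) (kf xf30 yf59 zf53) (kf xf32 yf29 zf44)) (@D3.rec (fun _ => Pt) (kf xf23 yf9 zf13) (kf xf32 yf29 zf43) (kf xf25 yf1 zf0) (kf xf31 yf38 zf61) (kf xf23 yf9 zf20) (kf xf27 yf55 zf16) (kf xf32 yf7 zf32) (kf xf19 yf6 zf37) (kf xf30 yf53 zf23) (kf xf31 yf46 zf25) (kf xf27 yf15 zf44) (kf xf27 yf15 zf43) (kf xf31 yf53 zf47) (kf xf31 yf23 zf44) (kf xf32 yf10 zf25) (kf xf32 yf9 zf15) (kf xf20 yf47 zf10) (kf xf30 yf12 zf45) (kf xf28 yf41 zf29) (kf xf30 yf12 zf43) (kf xf25 yf17 zf12) (kf xf24 yf5 zf47) (kf xf29 yf44 zf53) (kf xf29 yf44 zf52) (kf xf25 yf48 zf14) (kf xf27 yf15 zf40) (kf xf31 yf27 zf13) (kf xf27 yf15 zf39) (kf xf28 yf33 zf37) (kf xf29 yf8 zf21)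 (kf xf26 yf27 zf44) (kf xf27 yf9 zf34) (kf xf26 yf50 zf43) (kf xf28 yf33 zf41) (kf xf28 yf19 zf2) (kf xf19 yf7 zf1) (kf xf31 yf18 zf13) (kf xf19 yf12 zf25) (kf xf28 yf22 zf49) (kf xf28 yf33 zf39) (kf xf24 yf12 zf20) (kf xf28 yf33 zf27) (kf xf26 yf52 zf45) (kf xf30 yf3 zf19) (kf xf26 yf22 zf30) (kf xf28 yf40 zf36) (kf xf21 yf53 zf21) (kf xf30 yf26 zf34) (kf xf27 yf23 zf53) (kf xf27 yf23 zf55) (kf xf31 yf39 zf34) (kf xf31 yf39 zf32) (kf xf23 yf53 zf37) (kf xf27 yf23 zf57) (kf xf25 yf50 zf22) (kf xf24 yf8 zf2) (kf xf26 yf43 zf45) (kf xf32 yf31 zf57) (kf xf32 yf9 zf8) (kf xf25 yf50 zf20) (kf xf30 yf38 zf6) (kf xf30 yf38 zf7)) (@D3.rec (fun _ => Pt) (kf xf30 yf38 zf5) (kf xf19 yf12 zf20) (kf xf19 yf12 zf26) (kf xf32 yf33 zf39) (kf xf31 yf29 zf58) (kf xf31 yf29 zf60) (kf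 xf31 yf29 zf61) (kf xf32 yf17 zf40) (kf xf31 yf30 zf0) (kf xf31 yf30 zf1) (kf xf29 yf37 zf2) (kf xf19 yf11 zf39) (kf xf19 yf11 zf44) (kf xf30 yf30 zf43) (kf xf19 yf9 zf45) (kf xf19 yf17 zf6) (kf xf25 yf17 zf40) (kf xf25 yf44 zf25) (kf xf25 yf7 zf16) (kf xf32 yf12 zf42) (kf xf27 yf23 zf51) (kf xf20 yf37 zf25) (kf xf31 yf0 zf29) (kf xf26 yf56 zf56) (kf xf19 yf27 zf7) (kf xf22 yf4 zf17) (kf xf19 yf7 zf56) (kf xf28 yf32 zf41) (kf xf21 yf53 zf24) (kf xf32 yf33 zf54) (kf xf28 yf9 zf52) (kf xf19 yf7 zf60) (kf xf31 yf28 zf41) (kf xf24 yf16 zf41) (kf xf22 yf58 zf30) (kf xf28 yf21 zf3) (kf xf19 yf8 zf1) (kf xf28 yf32 zf28) (kf xf26 yf45 zf27) (kf xf28 yf32 zf39) (kf xf26 yf45 zf26) (kf xf28 yf32 zf33) (kf xf19 yf8 zf6) (kf xf20 yf36 zf41) (kf xf28 yf16 zf55) (kf xf31 yf25 zf11)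 (kf xf29 yf27 zf41) (kf xf27 yf23 zf50) (kf xf32 yf35 zf4) (kf xf31 yf0 zf25) (kf xf32 yf35 zf6) (kf xf32 yf1 zf3) (kf xf32 yf35 zf3) (kf xf31 yf15 zf41) (kf xf19 yf18 zf61) (kf xf31 yf56 zf33) (kf xf22 yf59 zf9) (kf xf28 yf29 zf43) (kf xf28 yf29 zf45) (kf xf30 yf47 zf43) (kf xf25 yf40 zf34) (kf xf24 yf34 zf38)) (@D3.rec (fun _ => Pt) (kf xf25 yf38 zf2) (kf xf19 yf8 zf17) (kf xf30 yf26 zf35) (kf xf19 yf9 zf42) (kf xf26 yf28 zf37) (kf xf19 yf19 zf7) (kf xf29 yf48 zf43) (kf xf29 yf44 zf25) (kf xf26 yf9 zf27) (kf xf27 yf3 zf2) (kf xf19 yf8 zf33) (kf xf23 yf8 zf24) (kf xf32 yf0 zf19) (kf xf27 yf14 zf59) (kf xf24 yf16 zf36) (kf xf24 yf22 zf39) (kf xf24 yf24 zf29) (kf xf31 yf12 zf40) (kf xf32 yf9 zf16) (kf xf32 yf12 zf45) (kf xf19 yf8 zf37) (kf xf26 yf51 zf26) (kf xf27 yf23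 zf52) (kf xf32 yf12 zf43) (kf xf29 yf33 zf10) (kf xf30 yf51 zf14) (kf xf19 yf18 zf19) (kf xf32 yf12 zf41) (kf xf30 yf36 zf3) (kf xf25 yf7 zf20) (kf xf28 yf19 zf45) (kf xf23 yf52 zf57) (kf xf31 yf36 zf50) (kf xf32 yf35 zf13) (kf xf24 yf16 zf28) (kf xf31 yf43 zf23) (kf xf30 yf24 zf33) (kf xf19 yf8 zf61) (kf xf19 yf9 zf3) (kf xf25 yf40 zf32) (kf xf22 yf53 zf10) (kf xf19 yf12 zf11) (kf xf25 yf38 zf35) (kf xf19 yf9 zf6) (kf xf31 yf53 zf19) (kf xf29 yf28 zf23) (kf xf24 yf7 zf3) (kf xf25 yf7 zf15) (kf xf32 yf24 zf45) (kf xf19 yf20 zf12) (kf xf19 yf20 zf13) (kf xf29 yf28 zf24) (kf xf19 yf9 zf21) (kf xf29 yf40 zf56) (kf xf19 yf9 zf15) (kf xf24 yf8 zf58) (kf xf26 yf25 zf55) (kf xf32 yf18 zf53) (kf xf32 yf35 zf9) (kf xf26 yf26 zf52) (kf xf24 yf9 zf33) (kf xf20 yf37 zf9)) (@D3.rec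 (fun _ => Pt) (kf xf32 yf36 zf12) (kf xf19 yf9 zf19) (kf xf26 yf1 zf61) (kf xf31 yf32 zf32) (kf xf29 yf35 zf52) (kf xf29 yf53 zf26) (kf xf29 yf15 zf12) (kf xf26 yf35 zf51) (kf xf22 yf27 zf16) (kf xf32 yf36 zf10) (kf xf29 yf34 zf1) (kf xf19 yf9 zf22) (kf xf24 yf22 zf45) (kf xf32 yf35 zf14) (kf xf29 yf2 zf3) (kf xf32 yf36 zf20) (kf xf19 yf9 zf26) (kf xf32 yf36 zf21) (kf xf32 yf5 zf25) (kf xf19 yf9 zf28) (kf xf32 yf34 zf18) (kf xf19 yf9 zf47) (kf xf27 yf44 zf21) (kf xf26 yf56 zf41) (kf xf24 yf7 zf28) (kf xf32 yf18 zf54) (kf xf26 yf26 zf42) (kf xf31 yf32 zf5) (kf xf26 yf26 zf55) (kf xf26 yf56 zf53) (kf xf26 yf28 zf34) (kf xf19 yf9 zf43) (kf xf30 yf23 zf61) (kf xf31 yf28 zf6) (kf xf23 yf53 zf7) (kf xf19 yf9 zf55) (kf xf30 yf26 zf16) (kf xf19 yf9 zf52) (kf xf29 yf1 zf57)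 (kf xf19 yf10 zf3) (kf xf19 yf10 zf2) (kf xf32 yf28 zf27) (kf xf26 yf27 zf34) (kf xf24 yf9 zf4) (kf xf19 yf9 zf54) (kf xf30 yf24 zf1) (kf xf23 yf53 zf16) (kf xf30 yf26 zf33) (kf xf23 yf53 zf17) (kf xf29 yf1 zf54) (kf xf30 yf49 zf45) (kf xf19 yf9 zf57) (kf xf24 yf7 zf25) (kf xf27 yf16 zf37) (kf xf19 yf22 zf14) (kf xf32 yf36 zf26) (kf xf31 yf15 zf38) (kf xf23 yf53 zf38) (kf xf29 yf1 zf11) (kf xf31 yf31 zf44) (kf xf19 yf22 zf18) (kf xf30 yf27 zf40)) (@D3.rec (fun _ => Pt) (kf xf27 yf57 zf56) (kf xf32 yf30 zf49) (kf xf30 yf48 zf56) (kf xf23 yf48 zf10) (kf xf32 yf31 zf59) (kf xf29 yf2 zf1) (kf xf32 yf31 zf58) (kf xf30 yf49 zf46) (kf xf27 yf16 zf48) (kf xf32 yf26 zf43) (kf xf19 yf10 zf13) (kf xf19 yf10 zf18) (kf xf30 yf36 zf17) (kf xf32 yf31 zf52) (kf xf25 yf50 zf42) (kf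 xf32 yf31 zf50) (kf xf32 yf31 zf51) (kf xf30 yf49 zf22) (kf xf32 yf31 zf54) (kf xf32 yf31 zf53) (kf xf27 yf3 zf48) (kf xf29 yf4 zf15) (kf xf32 yf29 zf18) (kf xf32 yf27 zf41) (kf xf25 yf47 zf61) (kf xf32 yf35 zf7) (kf xf32 yf35 zf18) (kf xf32 yf8 zf36) (kf xf30 yf24 zf48) (kf xf24 yf7 zf61) (kf xf32 yf8 zf37) (kf xf32 yf29 zf17) (kf xf29 yf21 zf36) (kf xf30 yf23 zf59) (kf xf19 yf10 zf26) (kf xf26 yf59 zf61) (kf xf26 yf31 zf43) (kf xf27 yf36 zf5) (kf xf22 yf22 zf6) (kf xf27 yf36 zf6) (kf xf28 yf41 zf25) (kf xf32 yf36 zf33) (kf xf19 yf10 zf36) (kf xf25 yf12 zf28) (kf xf20 yf42 zf8) (kf xf28 yf37 zf1) (kf xf27 yf36 zf14) (kf xf27 yf37 zf32) (kf xf24 yf34 zf19) (kf xf23 yf43 zf19) (kf xf27 yf12 zf50) (kf xf27 yf38 zf28) (kf xf23 yf43 zf18) (kf xf27 yf36 zf57) (kf xf27 yf36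 zf55) (kf xf25 yf21 zf48) (kf xf27 yf36 zf54) (kf xf21 yf50 zf51) (kf xf27 yf36 zf53) (kf xf31 yf41 zf26) (kf xf30 yf18 zf53) (kf xf29 yf14 zf22)) (@D3.rec (fun _ => Pt) (kf xf19 yf11 zf11) (kf xf28 yf36 zf45) (kf xf32 yf36 zf40) (kf xf25 yf19 zf43) (kf xf25 yf19 zf44) (kf xf25 yf19 zf45) (kf xf25 yf21 zf27) (kf xf25 yf21 zf29) (kf xf25 yf10 zf60) (kf xf25 yf21 zf45) (kf xf25 yf21 zf44) (kf xf19 yf11 zf18) (kf xf27 yf10 zf48) (kf xf28 yf50 zf29) (kf xf26 yf16 zf3) (kf xf31 yf34 zf58) (kf xf23 yf12 zf39) (kf xf32 yf11 zf24) (kf xf28 yf45 zf24) (kf xf31 yf58 zf12) (kf xf29 yf19 zf50) (kf xf31 yf58 zf5) (kf xf28 yf44 zf54) (kf xf29 yf35 zf6) (kf xf31 yf58 zf7) (kf xf28 yf29 zf9) (kf xf28 yf29 zf14) (kf xf32 yf36 zf48) (kf xf28 yf28 zf60) (kf xf27 yf59 zf0) (kf xf30 yf36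 zf13) (kf xf31 yf53 zf33) (kf xf32 yf20 zf26) (kf xf28 yf45 zf5) (kf xf27 yf9 zf4) (kf xf23 yf48 zf38) (kf xf24 yf26 zf8) (kf xf32 yf18 zf26) (kf xf30 yf18 zf19) (kf xf30 yf18 zf20) (kf xf28 yf46 zf45) (kf xf31 yf22 zf56) (kf xf28 yf45 zf1) (kf xf28 yf45 zf2) (kf xf28 yf44 zf52) (kf xf23 yf19 zf19) (kf xf30 yf22 zf35) (kf xf28 yf45 zf28) (kf xf32 yf24 zf36) (kf xf19 yf58 zf22) (kf xf26 yf53 zf49) (kf xf29 yf36 zf55) (kf xf20 yf43 zf5) (kf xf22 yf14 zf26) (kf xf28 yf47 zf31) (kf xf23 yf52 zf53) (kf xf32 yf34 zf48) (kf xf32 yf33 zf49) (kf xf31 yf59 zf18) (kf xf19 yf42 zf27) (kf xf31 yf55 zf34) (kf xf28 yf56 zf59)) (@D3.rec (fun _ => Pt) (kf xf30 yf46 zf11) (kf xf31 yf59 zf19) (kf xf29 yf40 zf34) (kf xf19 yf12 zf5) (kf xf19 yf12 zf2) (kf xf28 yf15 zf34) (kf xf19 yf20 zf51)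 (kf xf32 yf11 zf11) (kf xf32 yf36 zf55) (kf xf31 yf0 zf26) (kf xf29 yf16 zf30) (kf xf32 yf24 zf37) (kf xf32 yf33 zf56) (kf xf32 yf2 zf7) (kf xf19 yf12 zf7) (kf xf23 yf0 zf34) (kf xf32 yf28 zf5) (kf xf28 yf42 zf50) (kf xf28 yf24 zf56) (kf xf24 yf52 zf59) (kf xf29 yf18 zf47) (kf xf32 yf27 zf29) (kf xf31 yf17 zf55) (kf xf28 yf43 zf30) (kf xf32 yf33 zf42) (kf xf32 yf35 zf57) (kf xf26 yf56 zf22) (kf xf28 yf13 zf2) (kf xf32 yf36 zf59) (kf xf30 yf44 zf57) (kf xf32 yf9 zf29) (kf xf19 yf12 zf23) (kf xf28 yf56 zf9) (kf xf29 yf8 zf33) (kf xf32 yf17 zf34) (kf xf28 yf51 zf47) (kf xf29 yf8 zf34) (kf xf32 yf35 zf58) (kf xf32 yf35 zf59) (kf xf32 yf35 zf60) (kf xf24 yf18 zf16) (kf xf28 yf43 zf25) (kf xf30 yf34 zf41) (kf xf28 yf47 zf30) (kf xf29 yf35 zf50) (kf xf31 yf58 zf14) (kf xf32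 yf37 zf12) (kf xf24 yf49 zf41) (kf xf29 yf5 zf52) (kf xf26 yf52 zf41) (kf xf31 yf18 zf10) (kf xf32 yf9 zf23) (kf xf19 yf12 zf38) (kf xf25 yf50 zf27) (kf xf23 yf0 zf21) (kf xf19 yf12 zf42) (kf xf31 yf27 zf30) (kf xf19 yf12 zf49) (kf xf19 yf12 zf56) (kf xf19 yf12 zf61) (kf xf19 yf13 zf4) (kf xf24 yf49 zf44)) (@D3.rec (fun _ => Pt) (kf xf29 yf34 zf17) (kf xf26 yf36 zf42) (kf xf29 yf32 zf11) (kf xf31 yf27 zf5) (kf xf29 yf33 zf39) (kf xf31 yf23 zf33) (kf xf31 yf30 zf39) (kf xf22 yf46 zf49) (kf xf30 yf11 zf44) (kf xf20 yf17 zf20) (kf xf23 yf53 zf27) (kf xf26 yf40 zf14) (kf xf31 yf38 zf56) (kf xf31 yf38 zf58) (kf xf29 yf42 zf31) (kf xf22 yf23 zf58) (kf xf26 yf39 zf1) (kf xf22 yf36 zf13) (kf xf31 yf39 zf10) (kf xf26 yf46 zf22) (kf xf19 yf13 zf20) (kf xf19 yf13 zf44) (kf xf31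 yf36 zf4) (kf xf32 yf33 zf36) (kf xf29 yf34 zf26) (kf xf22 yf26 zf1) (kf xf32 yf35 zf26) (kf xf26 yf36 zf44) (kf xf31 yf30 zf26) (kf xf32 yf35 zf27) (kf xf26 yf36 zf11) (kf xf31 yf17 zf57) (kf xf29 yf8 zf22) (kf xf19 yf30 zf58) (kf xf29 yf9 zf26) (kf xf32 yf16 zf50) (kf xf27 yf21 zf8) (kf xf26 yf51 zf25) (kf xf26 yf36 zf6) (kf xf32 yf35 zf28) (kf xf32 yf35 zf29) (kf xf27 yf36 zf3) (kf xf28 yf40 zf2) (kf xf32 yf35 zf30) (kf xf26 yf59 zf39) (kf xf29 yf47 zf18) (kf xf19 yf13 zf36) (kf xf31 yf17 zf59) (kf xf32 yf35 zf31) (kf xf29 yf47 zf16) (kf xf31 yf30 zf46) (kf xf19 yf47 zf24) (kf xf31 yf30 zf45) (kf xf29 yf46 zf14) (kf xf19 yf13 zf41) (kf xf19 yf34 zf44) (kf xf32 yf11 zf17) (kf xf29 yf47 zf5) (kf xf29 yf40 zf27) (kf xf31 yf30 zf50) (kf xf23 yf59 zf47) (kf xf31 yf39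 zf58)) (@D3.rec (fun _ => Pt) (kf xf31 yf39 zf57) (kf xf31 yf39 zf59) (kf xf28 yf39 zf42) (kf xf32 yf33 zf27) (kf xf31 yf20 zf59) (kf xf28 yf24 zf11) (kf xf22 yf1 zf38) (kf xf28 yf29 zf22) (kf xf32 yf18 zf39) (kf xf32 yf35 zf32) (kf xf26 yf36 zf28) (kf xf24 yf35 zf19) (kf xf20 yf38 zf46) (kf xf20 yf23 zf24) (kf xf27 yf0 zf12) (kf xf29 yf46 zf19) (kf xf30 yf29 zf25) (kf xf32 yf34 zf28) (kf xf32 yf20 zf59) (kf xf29 yf33 zf14) (kf xf31 yf48 zf6) (kf xf19 yf14 zf3) (kf xf19 yf14 zf2) (kf xf26 yf34 zf60) (kf xf32 yf35 zf17) (kf xf32 yf36 zf14) (kf xf26 yf35 zf44) (kf xf26 yf35 zf47) (kf xf19 yf14 zf4) (kf xf26 yf36 zf5) (kf xf26 yf36 zf9) (kf xf20 yf39 zf40) (kf xf29 yf47 zf6) (kf xf29 yf46 zf5) (kf xf19 yf14 zf9) (kf xf32 yf37 zf57) (kf xf28 yf32 zf45) (kf xf29 yf4 zf2)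 (kf xf29 yf49 zf2) (kf xf26 yf37 zf56) (kf xf25 yf21 zf38) (kf xf25 yf21 zf37) (kf xf32 yf38 zf0) (kf xf19 yf14 zf23) (kf xf29 yf43 zf24) (kf xf29 yf46 zf3) (kf xf26 yf33 zf20) (kf xf24 yf26 zf38) (kf xf29 yf46 zf1) (kf xf26 yf59 zf25) (kf xf29 yf10 zf21) (kf xf19 yf14 zf54) (kf xf19 yf14 zf53) (kf xf27 yf28 zf9) (kf xf28 yf43 zf43) (kf xf30 yf31 zf37) (kf xf27 yf44 zf53) (kf xf31 yf28 zf57) (kf xf28 yf43 zf45) (kf xf30 yf13 zf31) (kf xf31 yf28 zf58) (kf xf30 yf20 zf41)) (@D3.rec (fun _ => Pt) (kf xf25 yf34 zf54) (kf xf31 yf32 zf54) (kf xf29 yf10 zf48) (kf xf31 yf32 zf52) (kf xf29 yf48 zf52) (kf xf30 yf57 zf61) (kf xf30 yf58 zf0) (kf xf32 yf28 zf13) (kf xf30 yf58 zf50) (kf xf29 yf51 zf24) (kf xf25 yf15 zf8) (kf xf29 yf1 zf3) (kf xf25 yf41 zf22) (kf xf24 yf22 zf29) (kf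 xf19 yf14 zf45) (kf xf31 yf2 zf55) (kf xf23 yf46 zf60) (kf xf27 yf48 zf44) (kf xf32 yf28 zf14) (kf xf26 yf1 zf50) (kf xf24 yf40 zf60) (kf xf26 yf48 zf16) (kf xf31 yf7 zf24) (kf xf27 yf27 zf18) (kf xf19 yf14 zf55) (kf xf28 yf36 zf40) (kf xf30 yf9 zf6) (kf xf32 yf8 zf16) (kf xf24 yf20 zf41) (kf xf28 yf32 zf18) (kf xf25 yf17 zf1) (kf xf29 yf23 zf4) (kf xf24 yf31 zf48) (kf xf30 yf8 zf24) (kf xf28 yf43 zf47) (kf xf27 yf45 zf6) (kf xf28 yf43 zf48) (kf xf31 yf4 zf17) (kf xf32 yf35 zf23) (kf xf24 yf11 zf16) (kf xf19 yf50 zf44) (kf xf31 yf14 zf27) (kf xf26 yf12 zf2) (kf xf28 yf44 zf5) (kf xf32 yf35 zf24) (kf xf32 yf24 zf28) (kf xf31 yf20 zf52) (kf xf19 yf15 zf34) (kf xf29 yf0 zf48) (kf xf29 yf17 zf26) (kf xf31 yf22 zf45) (kf xf23 yf5 zf22) (kf xf31 yf21 zf56) (kf xf31 yf23 zf53)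 (kf xf25 yf50 zf10) (kf xf25 yf4 zf47) (kf xf23 yf56 zf34) (kf xf28 yf47 zf1) (kf xf28 yf47 zf0) (kf xf29 yf12 zf38) (kf xf31 yf48 zf51) (kf xf29 yf41 zf41)) (@D3.rec (fun _ => Pt) (kf xf19 yf15 zf53) (kf xf19 yf16 zf19) (kf xf24 yf5 zf18) (kf xf29 yf16 zf25) (kf xf26 yf40 zf56) (kf xf30 yf56 zf54) (kf xf19 yf34 zf38) (kf xf25 yf33 zf41) (kf xf28 yf42 zf30) (kf xf25 yf33 zf32) (kf xf27 yf42 zf27) (kf xf32 yf35 zf35) (kf xf23 yf11 zf27) (kf xf19 yf16 zf10) (kf xf32 yf35 zf33) (kf xf32 yf14 zf33) (kf xf23 yf56 zf36) (kf xf29 yf57 zf10) (kf xf29 yf57 zf9) (kf xf29 yf49 zf27) (kf xf25 yf28 zf16) (kf xf21 yf58 zf7) (kf xf25 yf34 zf57) (kf xf29 yf0 zf9) (kf xf19 yf16 zf16) (kf xf19 yf33 zf32) (kf xf32 yf35 zf36) (kf xf31 yf28 zf47) (kf xf29 yf1 zf22) (kf xf31 yf36 zf45) (kf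 xf28 yf42 zf8) (kf xf26 yf43 zf15) (kf xf20 yf31 zf55) (kf xf28 yf30 zf40) (kf xf20 yf30 zf51) (kf xf25 yf13 zf5) (kf xf28 yf47 zf26) (kf xf25 yf33 zf34) (kf xf29 yf2 zf13) (kf xf28 yf50 zf28) (kf xf26 yf3 zf7) (kf xf27 yf56 zf51) (kf xf29 yf43 zf55) (kf xf21 yf49 zf2) (kf xf24 yf24 zf14) (kf xf21 yf49 zf3) (kf xf32 yf3 zf18) (kf xf23 yf40 zf57) (kf xf25 yf42 zf58) (kf xf25 yf42 zf2) (kf xf28 yf38 zf17) (kf xf29 yf51 zf18) (kf xf21 yf29 zf41) (kf xf32 yf3 zf10) (kf xf24 yf30 zf47) (kf xf30 yf20 zf30) (kf xf26 yf47 zf61) (kf xf30 yf9 zf12) (kf xf29 yf35 zf9) (kf xf19 yf17 zf10) (kf xf19 yf17 zf9) (kf xf31 yf59 zf6)) (@D3.rec (fun _ => Pt) (kf xf24 yf7 zf33) (kf xf32 yf35 zf38) (kf xf24 yf15 zf35) (kf xf32 yf35 zf39) (kf xf19 yf51 zf30) (kf xf28 yf14 zf22) (kf xf20 yf37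 zf49) (kf xf27 yf12 zf4) (kf xf19 yf52 zf42) (kf xf19 yf17 zf47) (kf xf24 yf19 zf49) (kf xf19 yf17 zf54) (kf xf24 yf21 zf60) (kf xf19 yf50 zf52) (kf xf24 yf50 zf40) (kf xf26 yf56 zf47) (kf xf27 yf19 zf28) (kf xf22 yf46 zf23) (kf xf30 yf37 zf58) (kf xf19 yf17 zf53) (kf xf26 yf28 zf9) (kf xf28 yf5 zf61) (kf xf27 yf49 zf46) (kf xf28 yf21 zf39) (kf xf28 yf21 zf40) (kf xf28 yf38 zf41) (kf xf26 yf54 zf7) (kf xf20 yf38 zf9) (kf xf29 yf36 zf53) (kf xf19 yf18 zf0) (kf xf28 yf38 zf23) (kf xf24 yf29 zf1) (kf xf27 yf5 zf39) (kf xf19 yf18 zf6) (kf xf19 yf59 zf50) (kf xf19 yf20 zf44) (kf xf26 yf56 zf46) (kf xf19 yf22 zf17) (kf xf29 yf8 zf53) (kf xf19 yf23 zf15) (kf xf19 yf47 zf41) (kf xf32 yf28 zf9) (kf xf30 yf24 zf42) (kf xf28 yf40 zf54) (kf xf30 yf58 zf31) (kf xf28 yf40 zf58) (kf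 xf31 yf7 zf56) (kf xf28 yf41 zf34) (kf xf28 yf41 zf36) (kf xf32 yf28 zf10) (kf xf32 yf38 zf22) (kf xf23 yf35 zf61) (kf xf19 yf18 zf27) (kf xf32 yf28 zf12) (kf xf23 yf34 zf44) (kf xf23 yf44 zf48) (kf xf27 yf39 zf16) (kf xf29 yf52 zf31) (kf xf27 yf39 zf14) (kf xf24 yf0 zf25) (kf xf23 yf49 zf32) (kf xf24 yf55 zf25)) (@D3.rec (fun _ => Pt) (kf xf32 yf24 zf61) (kf xf27 yf12 zf28) (kf xf28 yf15 zf23) (kf xf26 yf12 zf0) (kf xf22 yf39 zf61) (kf xf28 yf41 zf43) (kf xf32 yf35 zf37) (kf xf30 yf23 zf11) (kf xf24 yf47 zf38) (kf xf19 yf18 zf54) (kf xf25 yf58 zf1) (kf xf19 yf18 zf57) (kf xf30 yf36 zf39) (kf xf23 yf14 zf41) (kf xf29 yf2 zf53) (kf xf29 yf2 zf55) (kf xf30 yf33 zf57) (kf xf24 yf34 zf31) (kf xf19 yf22 zf21) (kf xf32 yf15 zf29) (kf xf25 yf19 zf40) (kf xf20 yf38 zf37) (kf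 xf29 yf45 zf4) (kf xf24 yf12 zf7) (kf xf24 yf23 zf31) (kf xf24 yf23 zf33) (kf xf26 yf41 zf25) (kf xf19 yf19 zf24) (kf xf19 yf19 zf23) (kf xf32 yf38 zf28) (kf xf29 yf56 zf23) (kf xf26 yf38 zf51) (kf xf19 yf19 zf22) (kf xf20 yf38 zf35) (kf xf26 yf38 zf52) (kf xf32 yf13 zf33) (kf xf29 yf45 zf53) (kf xf19 yf19 zf25) (kf xf19 yf19 zf27) (kf xf32 yf38 zf31) (kf xf21 yf54 zf23) (kf xf21 yf49 zf46) (kf xf23 yf41 zf47) (kf xf31 yf23 zf37) (kf xf25 yf55 zf56) (kf xf29 yf5 zf38) (kf xf31 yf36 zf51) (kf xf29 yf19 zf33) (kf xf25 yf29 zf44) (kf xf25 yf59 zf11) (kf xf31 yf26 zf45) (kf xf27 yf35 zf59) (kf xf28 yf37 zf44) (kf xf27 yf35 zf61) (kf xf28 yf37 zf22) (kf xf30 yf24 zf61) (kf xf21 yf23 zf28) (kf xf30 yf17 zf14) (kf xf29 yf17 zf50) (kf xf24 yf25 zf56) (kf xf31 yf17 zf21) (kf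 xf28 yf57 zf58)) (@D3.rec (fun _ => Pt) (kf xf19 yf20 zf2) (kf xf28 yf37 zf42) (kf xf28 yf37 zf43) (kf xf26 yf53 zf47) (kf xf20 yf38 zf27) (kf xf28 yf37 zf33) (kf xf29 yf0 zf6) (kf xf29 yf2 zf44) (kf xf32 yf17 zf43) (kf xf24 yf7 zf2) (kf xf29 yf17 zf57) (kf xf24 yf48 zf45) (kf xf31 yf41 zf44) (kf xf28 yf7 zf52) (kf xf31 yf31 zf48) (kf xf31 yf36 zf53) (kf xf32 yf38 zf33) (kf xf21 yf40 zf43) (kf xf31 yf29 zf28) (kf xf25 yf20 zf50) (kf xf31 yf21 zf26) (kf xf31 yf23 zf57) (kf xf21 yf50 zf60) (kf xf19 yf20 zf25) (kf xf28 yf37 zf18) (kf xf19 yf20 zf28) (kf xf25 yf50 zf26) (kf xf30 yf44 zf50) (kf xf28 yf37 zf47) (kf xf30 yf54 zf21) (kf xf32 yf35 zf55) (kf xf19 yf20 zf31) (kf xf25 yf11 zf5) (kf xf32 yf35 zf10) (kf xf32 yf35 zf11) (kf xf28 yf21 zf28) (kf xf32 yf38 zf37) (kf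 xf19 yf20 zf39) (kf xf29 yf53 zf47) (kf xf28 yf4 zf61) (kf xf23 yf50 zf31) (kf xf23 yf47 zf53) (kf xf32 yf7 zf20) (kf xf19 yf20 zf55) (kf xf20 yf51 zf0) (kf xf19 yf21 zf1) (kf xf28 yf20 zf51) (kf xf28 yf46 zf11) (kf xf28 yf46 zf12) (kf xf28 yf21 zf58) (kf xf23 yf12 zf53) (kf xf24 yf28 zf39) (kf xf31 yf28 zf7) (kf xf28 yf48 zf49) (kf xf20 yf32 zf0) (kf xf23 yf53 zf39) (kf xf30 yf25 zf37) (kf xf19 yf21 zf37) (kf xf19 yf21 zf52) (kf xf19 yf21 zf41) (kf xf19 yf21 zf47) (kf xf19 yf22 zf10)) (@D3.rec (fun _ => Pt) (kf xf31 yf29 zf26) (kf xf29 yf20 zf29) (kf xf32 yf30 zf5) (kf xf32 yf25 zf58) (kf xf32 yf31 zf9) (kf xf31 yf12 zf33) (kf xf19 yf21 zf38) (kf xf32 yf32 zf54) (kf xf19 yf42 zf23) (kf xf29 yf19 zf32) (kf xf28 yf21 zf60) (kf xf28 yf45 zf47) (kf xf28 yf45 zf48) (kf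 xf31 yf55 zf37) (kf xf23 yf45 zf50) (kf xf29 yf55 zf48) (kf xf19 yf21 zf43) (kf xf31 yf12 zf32) (kf xf30 yf30 zf18) (kf xf23 yf9 zf10) (kf xf31 yf57 zf56) (kf xf27 yf22 zf1) (kf xf24 yf11 zf35) (kf xf30 yf35 zf48) (kf xf30 yf35 zf51) (kf xf29 yf24 zf58) (kf xf31 yf21 zf53) (kf xf29 yf1 zf46) (kf xf31 yf19 zf50) (kf xf28 yf20 zf14) (kf xf30 yf36 zf34) (kf xf32 yf33 zf0) (kf xf32 yf32 zf22) (kf xf32 yf7 zf45) (kf xf31 yf15 zf22) (kf xf24 yf8 zf39) (kf xf30 yf26 zf22) (kf xf32 yf21 zf41) (kf xf23 yf48 zf40) (kf xf22 yf58 zf35) (kf xf22 yf32 zf4) (kf xf29 yf54 zf50) (kf xf30 yf14 zf44) (kf xf28 yf20 zf9) (kf xf31 yf32 zf27) (kf xf28 yf37 zf40) (kf xf19 yf41 zf17) (kf xf19 yf22 zf23) (kf xf23 yf51 zf54) (kf xf19 yf22 zf33) (kf xf29 yf40 zf9) (kf xf31 yf42 zf20) (kf xf31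 yf15 zf27) (kf xf31 yf15 zf28) (kf xf27 yf54 zf10) (kf xf32 yf38 zf45) (kf xf28 yf58 zf49) (kf xf19 yf22 zf39) (kf xf29 yf20 zf27) (kf xf22 yf21 zf33) (kf xf31 yf20 zf46) (kf xf19 yf22 zf41)) (@D3.rec (fun _ => Pt) (kf xf28 yf41 zf58) (kf xf28 yf41 zf57) (kf xf19 yf22 zf45) (kf xf26 yf43 zf14) (kf xf23 yf35 zf54) (kf xf25 yf42 zf25) (kf xf31 yf10 zf2) (kf xf23 yf51 zf53) (kf xf24 yf38 zf46) (kf xf30 yf38 zf18) (kf xf31 yf16 zf38) (kf xf24 yf13 zf10) (kf xf32 yf33 zf26) (kf xf32 yf29 zf19) (kf xf32 yf23 zf18) (kf xf29 yf36 zf60) (kf xf28 yf7 zf33) (kf xf30 yf26 zf49) (kf xf23 yf56 zf28) (kf xf32 yf35 zf43) (kf xf31 yf10 zf1) (kf xf28 yf9 zf38) (kf xf28 yf9 zf56) (kf xf20 yf23 zf55) (kf xf30 yf17 zf2) (kf xf27 yf29 zf32) (kf xf28 yf42 zf36) (kf xf27 yf9 zf2) (kf xf27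 yf43 zf24) (kf xf24 yf20 zf35) (kf xf28 yf38 zf43) (kf xf28 yf37 zf54) (kf xf29 yf12 zf37) (kf xf24 yf11 zf12) (kf xf23 yf11 zf23) (kf xf31 yf28 zf42) (kf xf26 yf40 zf51) (kf xf28 yf22 zf1) (kf xf25 yf20 zf34) (kf xf19 yf29 zf32) (kf xf29 yf48 zf3) (kf xf20 yf58 zf13) (kf xf29 yf28 zf55) (kf xf29 yf21 zf40) (kf xf27 yf4 zf60) (kf xf32 yf0 zf47) (kf xf29 yf48 zf7) (kf xf19 yf30 zf17) (kf xf29 yf27 zf57) (kf xf29 yf3 zf12) (kf xf19 yf48 zf48) (kf xf19 yf30 zf54) (kf xf23 yf4 zf14) (kf xf30 yf39 zf15) (kf xf29 yf38 zf20) (kf xf24 yf12 zf26) (kf xf22 yf16 zf25) (kf xf19 yf30 zf61) (kf xf19 yf44 zf44) (kf xf19 yf24 zf8) (kf xf24 yf10 zf55) (kf xf20 yf12 zf2)) (@D3.rec (fun _ => Pt) (kf xf24 yf10 zf54) (kf xf19 yf31 zf16) (kf xf19 yf31 zf20) (kf xf29 yf12 zf36) (kf xf27 yf22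 zf0) (kf xf20 yf38 zf40) (kf xf29 yf25 zf40) (kf xf24 yf53 zf29) (kf xf29 yf27 zf55) (kf xf19 yf34 zf35) (kf xf24 yf14 zf42) (kf xf24 yf53 zf30) (kf xf28 yf53 zf58) (kf xf24 yf17 zf39) (kf xf28 yf53 zf59) (kf xf28 yf53 zf60) (kf xf19 yf36 zf23) (kf xf25 yf12 zf45) (kf xf28 yf54 zf6) (kf xf19 yf24 zf33) (kf xf24 yf17 zf16) (kf xf19 yf38 zf6) (kf xf29 yf47 zf42) (kf xf24 yf23 zf54) (kf xf25 yf35 zf36) (kf xf24 yf39 zf29) (kf xf25 yf55 zf46) (kf xf19 yf37 zf6) (kf xf19 yf36 zf2) (kf xf19 yf36 zf22) (kf xf19 yf36 zf18) (kf xf19 yf40 zf8) (kf xf25 yf27 zf20) (kf xf25 yf11 zf49) (kf xf19 yf39 zf3) (kf xf19 yf39 zf15) (kf xf19 yf27 zf45) (kf xf28 yf29 zf23) (kf xf24 yf1 zf42) (kf xf32 yf0 zf51) (kf xf26 yf9 zf18) (kf xf24 yf47 zf0) (kf xf20 yf25 zf44) (kf xf26 yf52 zf53) (kf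 xf20 yf16 zf47) (kf xf20 yf48 zf17) (kf xf31 yf30 zf61) (kf xf31 yf33 zf31) (kf xf30 yf28 zf7) (kf xf28 yf45 zf53) (kf xf29 yf48 zf44) (kf xf31 yf50 zf35) (kf xf30 yf15 zf35) (kf xf27 yf16 zf27) (kf xf27 yf3 zf9) (kf xf29 yf48 zf45) (kf xf31 yf59 zf35) (kf xf31 yf29 zf49) (kf xf32 yf0 zf50) (kf xf26 yf43 zf16) (kf xf26 yf43 zf18) (kf xf22 yf1 zf23)) (@D3.rec (fun _ => Pt) (kf xf25 yf32 zf30) (kf xf32 yf39 zf2) (kf xf19 yf25 zf36) (kf xf30 yf39 zf4) (kf xf30 yf15 zf38) (kf xf26 yf0 zf7) (kf xf25 yf20 zf59) (kf xf25 yf20 zf60) (kf xf27 yf29 zf31) (kf xf25 yf52 zf60) (kf xf25 yf53 zf7) (kf xf29 yf25 zf44) (kf xf31 yf33 zf28) (kf xf26 yf37 zf31) (kf xf25 yf52 zf46) (kf xf29 yf40 zf30) (kf xf29 yf7 zf55) (kf xf29 yf48 zf42) (kf xf19 yf27 zf50) (kf xf19 yf45 zf8) (kf xf27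 yf13 zf19) (kf xf27 yf15 zf36) (kf xf27 yf42 zf12) (kf xf27 yf30 zf18) (kf xf26 yf25 zf42) (kf xf25 yf59 zf19) (kf xf25 yf59 zf37) (kf xf20 yf50 zf25) (kf xf27 yf11 zf25) (kf xf20 yf50 zf23) (kf xf29 yf48 zf53) (kf xf22 yf43 zf29) (kf xf29 yf48 zf56) (kf xf19 yf48 zf8) (kf xf26 yf9 zf52) (kf xf29 yf48 zf58) (kf xf23 yf32 zf20) (kf xf29 yf48 zf59) (kf xf30 yf41 zf60) (kf xf26 yf54 zf23) (kf xf24 yf33 zf45) (kf xf23 yf29 zf20) (kf xf26 yf48 zf4) (kf xf24 yf38 zf17) (kf xf23 yf29 zf15) (kf xf23 yf29 zf18) (kf xf29 yf56 zf18) (kf xf29 yf32 zf40) (kf xf19 yf27 zf15) (kf xf26 yf28 zf30) (kf xf29 yf15 zf14) (kf xf32 yf39 zf13) (kf xf25 yf21 zf56) (kf xf29 yf15 zf15) (kf xf20 yf5 zf0) (kf xf31 yf7 zf37) (kf xf27 yf3 zf37) (kf xf32 yf22 zf19) (kf xf32 yf36 zf3) (kf xf32 yf36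 zf11) (kf xf19 yf27 zf8) (kf xf31 yf51 zf29)) (@D3.rec (fun _ => Pt) (kf xf26 yf28 zf44) (kf xf19 yf27 zf9) (kf xf24 yf17 zf2) (kf xf30 yf51 zf32) (kf xf21 yf14 zf1) (kf xf29 yf30 zf27) (kf xf19 yf51 zf45) (kf xf26 yf28 zf42) (kf xf26 yf28 zf43) (kf xf31 yf25 zf22) (kf xf26 yf56 zf55) (kf xf29 yf53 zf38) (kf xf19 yf27 zf29) (kf xf21 yf11 zf19) (kf xf26 yf56 zf33) (kf xf27 yf53 zf30) (kf xf30 yf5 zf22) (kf xf31 yf28 zf37) (kf xf29 yf8 zf28) (kf xf28 yf14 zf2) (kf xf30 yf36 zf19) (kf xf28 yf14 zf5) (kf xf24 yf30 zf36) (kf xf28 yf14 zf12) (kf xf24 yf10 zf48) (kf xf25 yf59 zf57) (kf xf25 yf59 zf18) (kf xf31 yf26 zf47) (kf xf28 yf42 zf39) (kf xf28 yf37 zf13) (kf xf27 yf19 zf11) (kf xf21 yf20 zf61) (kf xf32 yf2 zf2) (kf xf29 yf1 zf4) (kf xf32 yf39 zf18) (kf xf25 yf32 zf3)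 (kf xf30 yf20 zf5) (kf xf22 yf2 zf4) (kf xf25 yf5 zf19) (kf xf20 yf36 zf50) (kf xf31 yf38 zf53) (kf xf19 yf28 zf29) (kf xf30 yf27 zf16) (kf xf28 yf51 zf37) (kf xf26 yf25 zf47) (kf xf32 yf39 zf23) (kf xf30 yf49 zf23) (kf xf30 yf19 zf37) (kf xf26 yf25 zf53) (kf xf22 yf56 zf19) (kf xf25 yf52 zf37) (kf xf31 yf13 zf10) (kf xf19 yf28 zf33) (kf xf30 yf39 zf12) (kf xf24 yf8 zf56) (kf xf29 yf42 zf35) (kf xf31 yf18 zf3) (kf xf30 yf24 zf16) (kf xf30 yf48 zf51) (kf xf19 yf28 zf56) (kf xf19 yf28 zf55) (kf xf19 yf28 zf52)) (@D3.rec (fun _ => Pt) (kf xf23 yf53 zf35) (kf xf24 yf30 zf35) (kf xf32 yf22 zf53) (kf xf30 yf53 zf9) (kf xf29 yf10 zf1) (kf xf22 yf40 zf52) (kf xf29 yf34 zf24) (kf xf32 yf22 zf54) (kf xf29 yf38 zf1) (kf xf28 yf24 zf18) (kf xf25 yf47 zf20) (kf xf31 yf55 zf27) (kf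 xf25 yf51 zf48) (kf xf25 yf51 zf39) (kf xf31 yf55 zf29) (kf xf30 yf30 zf10) (kf xf28 yf18 zf25) (kf xf29 yf12 zf45) (kf xf29 yf12 zf59) (kf xf31 yf55 zf28) (kf xf27 yf12 zf7) (kf xf32 yf39 zf32) (kf xf28 yf14 zf18) (kf xf28 yf14 zf20) (kf xf25 yf22 zf21) (kf xf32 yf36 zf41) (kf xf24 yf51 zf40) (kf xf19 yf29 zf15) (kf xf31 yf40 zf25) (kf xf31 yf40 zf24) (kf xf31 yf20 zf31) (kf xf19 yf29 zf16) (kf xf19 yf58 zf23) (kf xf28 yf9 zf7) (kf xf32 yf35 zf46) (kf xf19 yf29 zf18) (kf xf24 yf11 zf57) (kf xf28 yf50 zf43) (kf xf26 yf54 zf35) (kf xf30 yf48 zf53) (kf xf19 yf29 zf31) (kf xf32 yf39 zf37) (kf xf19 yf29 zf26) (kf xf32 yf8 zf58) (kf xf26 yf58 zf3) (kf xf26 yf58 zf4) (kf xf19 yf29 zf30) (kf xf28 yf38 zf35) (kf xf25 yf20 zf27) (kf xf32 yf39 zf36) (kf xf29 yf13 zf20) (kf xf32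 yf16 zf34) (kf xf32 yf17 zf39) (kf xf32 yf21 zf12) (kf xf30 yf30 zf23) (kf xf19 yf29 zf33) (kf xf23 yf10 zf34) (kf xf27 yf13 zf39) (kf xf27 yf15 zf17) (kf xf32 yf39 zf45) (kf xf19 yf29 zf37) (kf xf29 yf39 zf27)) (@D3.rec (fun _ => Pt) (kf xf31 yf50 zf11) (kf xf27 yf13 zf35) (kf xf32 yf14 zf60) (kf xf28 yf53 zf1) (kf xf23 yf13 zf17) (kf xf27 yf7 zf6) (kf xf21 yf38 zf45) (kf xf32 yf20 zf23) (kf xf30 yf22 zf8) (kf xf24 yf4 zf7) (kf xf25 yf52 zf40) (kf xf29 yf1 zf53) (kf xf30 yf26 zf17) (kf xf19 yf29 zf59) (kf xf19 yf29 zf58) (kf xf32 yf39 zf49) (kf xf19 yf29 zf53) (kf xf29 yf1 zf9) (kf xf29 yf1 zf10) (kf xf29 yf1 zf13) (kf xf29 yf1 zf55) (kf xf29 yf1 zf56) (kf xf29 yf53 zf40) (kf xf19 yf29 zf57) (kf xf32 yf15 zf13) (kf xf26 yf52 zf55) (kf xf30 yf25 zf20) (kf xf26 yf44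 zf14) (kf xf32 yf39 zf16) (kf xf26 yf57 zf11) (kf xf24 yf25 zf28) (kf xf31 yf19 zf32) (kf xf30 yf16 zf0) (kf xf19 yf29 zf60) (kf xf24 yf7 zf13) (kf xf21 yf20 zf32) (kf xf29 yf1 zf36) (kf xf29 yf2 zf7) (kf xf29 yf2 zf6) (kf xf32 yf39 zf54) (kf xf19 yf30 zf2) (kf xf25 yf52 zf52) (kf xf30 yf16 zf1) (kf xf19 yf36 zf3) (kf xf19 yf30 zf5) (kf xf24 yf12 zf8) (kf xf19 yf30 zf16) (kf xf31 yf13 zf34) (kf xf19 yf30 zf13) (kf xf25 yf47 zf50) (kf xf25 yf47 zf54) (kf xf25 yf50 zf21) (kf xf32 yf39 zf21) (kf xf31 yf10 zf56) (kf xf30 yf9 zf8) (kf xf29 yf16 zf15) (kf xf23 yf48 zf14) (kf xf30 yf38 zf40) (kf xf19 yf30 zf18) (kf xf24 yf6 zf31) (kf xf23 yf48 zf55) (kf xf32 yf20 zf29)) (@D3.rec (fun _ => Pt) (kf xf19 yf30 zf22) (kf xf28 yf52 zf3) (kf xf30 yf38 zf41) (kf xf30 yf15 zf61) (kf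 xf27 yf37 zf25) (kf xf20 yf16 zf51) (kf xf22 yf26 zf0) (kf xf22 yf23 zf50) (kf xf22 yf23 zf51) (kf xf32 yf19 zf44) (kf xf29 yf1 zf37) (kf xf22 yf25 zf58) (kf xf19 yf30 zf31) (kf xf31 yf38 zf54) (kf xf20 yf52 zf53) (kf xf32 yf3 zf3) (kf xf29 yf1 zf32) (kf xf31 yf30 zf15) (kf xf29 yf1 zf23) (kf xf32 yf36 zf28) (kf xf31 yf30 zf11) (kf xf32 yf40 zf3) (kf xf19 yf30 zf38) (kf xf29 yf1 zf34) (kf xf31 yf32 zf8) (kf xf29 yf1 zf29) (kf xf32 yf40 zf5) (kf xf19 yf30 zf40) (kf xf29 yf42 zf46) (kf xf31 yf20 zf8) (kf xf32 yf40 zf8) (kf xf19 yf30 zf42) (kf xf24 yf18 zf38) (kf xf30 yf26 zf52) (kf xf29 yf24 zf20) (kf xf26 yf22 zf15) (kf xf29 yf8 zf55) (kf xf19 yf30 zf48) (kf xf32 yf15 zf15) (kf xf28 yf55 zf39) (kf xf32 yf15 zf16) (kf xf29 yf1 zf41) (kf xf29 yf1 zf43) (kf xf31 yf16 zf5)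 (kf xf24 yf6 zf6) (kf xf31 yf14 zf15) (kf xf22 yf1 zf8) (kf xf22 yf56 zf15) (kf xf29 yf9 zf19) (kf xf26 yf41 zf37) (kf xf30 yf27 zf12) (kf xf32 yf27 zf24) (kf xf26 yf46 zf59) (kf xf23 yf10 zf56) (kf xf30 yf12 zf54) (kf xf31 yf28 zf40) (kf xf29 yf42 zf45) (kf xf29 yf9 zf20) (kf xf28 yf48 zf12) (kf xf28 yf48 zf14) (kf xf28 yf48 zf15) (kf xf28 yf58 zf12)) (@D3.rec (fun _ => Pt) (kf xf25 yf43 zf7) (kf xf28 yf15 zf59) (kf xf26 yf0 zf11) (kf xf26 yf11 zf9) (kf xf28 yf16 zf6) (kf xf24 yf13 zf26) (kf xf28 yf48 zf18) (kf xf19 yf31 zf36) (kf xf26 yf38 zf20) (kf xf30 yf16 zf2) (kf xf29 yf47 zf11) (kf xf32 yf3 zf22) (kf xf29 yf3 zf17) (kf xf24 yf27 zf40) (kf xf31 yf35 zf48) (kf xf19 yf31 zf49) (kf xf19 yf31 zf48) (kf xf30 yf16 zf13) (kf xf24 yf33 zf26) (kf xf29 yf47 zf36) (kf xf32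 yf40 zf15) (kf xf19 yf31 zf47) (kf xf26 yf40 zf15) (kf xf29 yf34 zf7) (kf xf32 yf40 zf13) (kf xf30 yf31 zf2) (kf xf20 yf58 zf4) (kf xf32 yf18 zf55) (kf xf19 yf31 zf50) (kf xf30 yf28 zf13) (kf xf32 yf11 zf13) (kf xf32 yf11 zf14) (kf xf24 yf1 zf5) (kf xf29 yf21 zf31) (kf xf32 yf16 zf28) (kf xf19 yf31 zf54) (kf xf26 yf38 zf27) (kf xf26 yf34 zf5) (kf xf26 yf40 zf52) (kf xf24 yf24 zf38) (kf xf31 yf26 zf18) (kf xf28 yf56 zf29) (kf xf20 yf57 zf32) (kf xf29 yf34 zf18) (kf xf32 yf11 zf15) (kf xf29 yf34 zf16) (kf xf32 yf40 zf23) (kf xf25 yf22 zf34) (kf xf26 yf6 zf17) (kf xf30 yf30 zf54) (kf xf26 yf41 zf29) (kf xf32 yf40 zf29) (kf xf32 yf19 zf3) (kf xf32 yf11 zf35) (kf xf26 yf34 zf61) (kf xf19 yf32 zf20) (kf xf27 yf0 zf49) (kf xf26 yf35 zf39) (kf xf26 yf35 zf41) (kf xf31 yf47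 zf14) (kf xf26 yf0 zf3) (kf xf31 yf18 zf6)) (@D3.rec (fun _ => Pt) (kf xf30 yf32 zf14) (kf xf21 yf37 zf27) (kf xf19 yf52 zf49) (kf xf32 yf8 zf60) (kf xf26 yf35 zf18) (kf xf19 yf50 zf23) (kf xf25 yf22 zf9) (kf xf31 yf51 zf5) (kf xf32 yf40 zf32) (kf xf19 yf33 zf3) (kf xf19 yf33 zf2) (kf xf32 yf39 zf14) (kf xf19 yf32 zf53) (kf xf19 yf33 zf15) (kf xf19 yf33 zf13) (kf xf26 yf21 zf54) (kf xf24 yf49 zf18) (kf xf32 yf40 zf38) (kf xf19 yf33 zf1) (kf xf31 yf55 zf41) (kf xf32 yf39 zf7) (kf xf32 yf40 zf34) (kf xf32 yf39 zf8) (kf xf25 yf21 zf57) (kf xf32 yf40 zf49) (kf xf19 yf33 zf4) (kf xf20 yf24 zf42) (kf xf23 yf30 zf56) (kf xf20 yf4 zf35) (kf xf32 yf5 zf19) (kf xf32 yf40 zf37) (kf xf26 yf27 zf5) (kf xf32 yf40 zf36) (kf xf23 yf57 zf53) (kf xf23 yf7 zf2) (kf xf28 yf23 zf56) (kf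 xf32 yf0 zf25) (kf xf26 yf27 zf60) (kf xf31 yf12 zf43) (kf xf28 yf53 zf39) (kf xf29 yf1 zf40) (kf xf32 yf18 zf18) (kf xf29 yf33 zf13) (kf xf29 yf33 zf12) (kf xf32 yf40 zf58) (kf xf19 yf33 zf36) (kf xf32 yf15 zf22) (kf xf31 yf38 zf55) (kf xf31 yf17 zf61) (kf xf30 yf17 zf57) (kf xf29 yf18 zf43) (kf xf19 yf33 zf39) (kf xf29 yf33 zf6) (kf xf19 yf33 zf58) (kf xf28 yf1 zf38) (kf xf19 yf33 zf54) (kf xf32 yf12 zf33) (kf xf19 yf33 zf55) (kf xf20 yf24 zf48) (kf xf29 yf50 zf7) (kf xf24 yf2 zf44) (kf xf19 yf33 zf60)) (@D3.rec (fun _ => Pt) (kf xf26 yf26 zf17) (kf xf32 yf33 zf2) (kf xf22 yf49 zf24) (kf xf32 yf9 zf22) (kf xf32 yf7 zf36) (kf xf29 yf54 zf55) (kf xf32 yf21 zf18) (kf xf19 yf34 zf3) (kf xf31 yf23 zf12) (kf xf28 yf38 zf32) (kf xf30 yf17 zf58) (kf xf29 yf42 zf49) (kf xf29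 yf42 zf50) (kf xf31 yf21 zf41) (kf xf19 yf34 zf6) (kf xf29 yf3 zf4) (kf xf30 yf54 zf5) (kf xf24 yf18 zf15) (kf xf19 yf34 zf12) (kf xf24 yf6 zf23) (kf xf24 yf47 zf1) (kf xf24 yf6 zf1) (kf xf29 yf27 zf6) (kf xf28 yf24 zf48) (kf xf28 yf21 zf46) (kf xf32 yf18 zf20) (kf xf23 yf53 zf11) (kf xf19 yf34 zf32) (kf xf21 yf57 zf26) (kf xf28 yf54 zf41) (kf xf32 yf14 zf15) (kf xf31 yf21 zf50) (kf xf32 yf12 zf38) (kf xf32 yf41 zf7) (kf xf20 yf57 zf51) (kf xf20 yf57 zf57) (kf xf32 yf23 zf0) (kf xf32 yf12 zf40) (kf xf28 yf18 zf19) (kf xf26 yf38 zf43) (kf xf19 yf46 zf27) (kf xf32 yf41 zf12) (kf xf19 yf34 zf47) (kf xf31 yf26 zf52) (kf xf26 yf42 zf16) (kf xf26 yf36 zf61) (kf xf32 yf25 zf24) (kf xf27 yf19 zf25) (kf xf29 yf9 zf31) (kf xf29 yf50 zf9) (kf xf29 yf41 zf11) (kf xf24 yf2 zf34)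 (kf xf31 yf45 zf58) (kf xf28 yf59 zf35) (kf xf31 yf1 zf55) (kf xf30 yf10 zf22) (kf xf29 yf0 zf15) (kf xf31 yf47 zf21) (kf xf31 yf55 zf30) (kf xf28 yf37 zf61) (kf xf24 yf17 zf19) (kf xf24 yf11 zf58)) (@D3.rec (fun _ => Pt) (kf xf31 yf30 zf56) (kf xf29 yf3 zf29) (kf xf29 yf40 zf61) (kf xf31 yf37 zf54) (kf xf31 yf29 zf53) (kf xf23 yf55 zf43) (kf xf24 yf8 zf55) (kf xf27 yf12 zf52) (kf xf29 yf50 zf60) (kf xf32 yf41 zf16) (kf xf25 yf11 zf24) (kf xf19 yf35 zf22) (kf xf24 yf3 zf11) (kf xf24 yf3 zf12) (kf xf25 yf24 zf9) (kf xf24 yf3 zf13) (kf xf24 yf3 zf14) (kf xf24 yf3 zf16) (kf xf24 yf3 zf17) (kf xf24 yf3 zf18) (kf xf19 yf37 zf58) (kf xf19 yf37 zf60) (kf xf19 yf37 zf56) (kf xf25 yf11 zf25) (kf xf19 yf38 zf12) (kf xf19 yf38 zf8) (kf xf19 yf38 zf9) (kf xf26 yf2 zf60) (kf xf19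 yf38 zf16) (kf xf19 yf38 zf15) (kf xf32 yf16 zf23) (kf xf19 yf35 zf32) (kf xf19 yf36 zf29) (kf xf19 yf38 zf34) (kf xf25 yf30 zf15) (kf xf25 yf7 zf17) (kf xf28 yf23 zf48) (kf xf31 yf38 zf5) (kf xf19 yf35 zf40) (kf xf25 yf30 zf23) (kf xf25 yf29 zf23) (kf xf25 yf31 zf59) (kf xf21 yf46 zf20) (kf xf30 yf0 zf2) (kf xf22 yf10 zf29) (kf xf25 yf35 zf15) (kf xf26 yf12 zf60) (kf xf19 yf35 zf54) (kf xf25 yf35 zf18) (kf xf29 yf59 zf54) (kf xf25 yf35 zf19) (kf xf19 yf45 zf20) (kf xf19 yf35 zf61) (kf xf19 yf35 zf60) (kf xf24 yf15 zf14) (kf xf19 yf35 zf59) (kf xf29 yf43 zf3) (kf xf21 yf57 zf21) (kf xf28 yf44 zf61) (kf xf24 yf17 zf18) (kf xf25 yf32 zf2) (kf xf25 yf32 zf0)) (@D3.rec (fun _ => Pt) (kf xf25 yf29 zf22) (kf xf22 yf56 zf28) (kf xf25 yf31 zf60) (kf xf24 yf3 zf34) (kf xf26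 yf25 zf43) (kf xf25 yf5 zf11) (kf xf24 yf17 zf42) (kf xf29 yf17 zf30) (kf xf27 yf11 zf23) (kf xf32 yf38 zf54) (kf xf29 yf15 zf35) (kf xf27 yf11 zf24) (kf xf28 yf53 zf61) (kf xf31 yf40 zf41) (kf xf24 yf17 zf29) (kf xf24 yf17 zf20) (kf xf31 yf24 zf22) (kf xf29 yf27 zf34) (kf xf27 yf42 zf38) (kf xf22 yf16 zf32) (kf xf19 yf36 zf34) (kf xf19 yf36 zf32) (kf xf28 yf29 zf12) (kf xf27 yf17 zf31) (kf xf19 yf39 zf33) (kf xf31 yf54 zf44) (kf xf25 yf36 zf49) (kf xf22 yf1 zf58) (kf xf27 yf17 zf34) (kf xf31 yf31 zf56) (kf xf21 yf16 zf42) (kf xf31 yf24 zf41) (kf xf32 yf4 zf11) (kf xf32 yf4 zf12) (kf xf32 yf0 zf45) (kf xf29 yf11 zf11) (kf xf20 yf49 zf39) (kf xf31 yf50 zf23) (kf xf19 yf37 zf0) (kf xf19 yf36 zf60) (kf xf31 yf48 zf14) (kf xf31 yf48 zf15) (kf xf24 yf21 zf15) (kf xf27 yf23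 zf14) (kf xf31 yf39 zf61) (kf xf30 yf47 zf40) (kf xf32 yf0 zf29) (kf xf29 yf4 zf11) (kf xf29 yf4 zf4) (kf xf28 yf46 zf56) (kf xf31 yf56 zf19) (kf xf31 yf35 zf19) (kf xf31 yf1 zf47) (kf xf29 yf4 zf16) (kf xf29 yf36 zf25) (kf xf25 yf12 zf21) (kf xf22 yf2 zf15) (kf xf32 yf41 zf25) (kf xf27 yf17 zf25) (kf xf19 yf37 zf15) (kf xf24 yf7 zf60) (kf xf29 yf4 zf14)) (@D3.rec (fun _ => Pt) (kf xf32 yf14 zf39) (kf xf27 yf42 zf35) (kf xf19 yf37 zf18) (kf xf19 yf37 zf36) (kf xf19 yf37 zf35) (kf xf19 yf37 zf41) (kf xf19 yf37 zf44) (kf xf19 yf37 zf43) (kf xf19 yf37 zf23) (kf xf28 yf16 zf53) (kf xf22 yf20 zf28) (kf xf31 yf23 zf32) (kf xf22 yf17 zf21) (kf xf32 yf28 zf28) (kf xf27 yf21 zf42) (kf xf31 yf36 zf37) (kf xf32 yf21 zf56) (kf xf27 yf21 zf43) (kf xf24 yf50 zf15) (kf xf30 yf9 zf18)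 (kf xf32 yf0 zf20) (kf xf20 yf4 zf55) (kf xf19 yf45 zf28) (kf xf20 yf4 zf59) (kf xf25 yf6 zf9) (kf xf25 yf30 zf18) (kf xf29 yf44 zf47) (kf xf19 yf45 zf48) (kf xf25 yf30 zf16) (kf xf25 yf11 zf0) (kf xf31 yf43 zf56) (kf xf29 yf13 zf32) (kf xf19 yf38 zf0) (kf xf32 yf4 zf13) (kf xf30 yf9 zf17) (kf xf28 yf56 zf53) (kf xf25 yf9 zf44) (kf xf25 yf9 zf45) (kf xf25 yf6 zf24) (kf xf25 yf9 zf42) (kf xf25 yf9 zf22) (kf xf32 yf41 zf19) (kf xf25 yf31 zf22) (kf xf28 yf59 zf57) (kf xf29 yf6 zf54) (kf xf29 yf6 zf52) (kf xf25 yf13 zf44) (kf xf31 yf41 zf54) (kf xf31 yf56 zf5) (kf xf25 yf57 zf58) (kf xf25 yf33 zf30) (kf xf29 yf13 zf25) (kf xf31 yf48 zf21) (kf xf31 yf53 zf14) (kf xf28 yf20 zf34) (kf xf31 yf24 zf20) (kf xf31 yf26 zf60) (kf xf28 yf59 zf43) (kf xf31 yf52 zf9) (kf xf25 yf12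 zf29) (kf xf31 yf49 zf53) (kf xf29 yf42 zf29))
def f_f_29 : D2 → D3 → Pt := @D2.rec (fun _ => D3 → Pt) (@D3.rec (fun _ => Pt) (kf xf29 yf0 zf50) (kf xf29 yf27 zf36) (kf xf20 yf3 zf23) (kf xf20 yf42 zf9) (kf xf30 yf18 zf59) (kf xf19 yf38 zf36) (kf xf28 yf45 zf6) (kf xf29 yf48 zf39) (kf xf31 yf28 zf53) (kf xf28 yf42 zf23) (kf xf21 yf50 zf11) (kf xf30 yf13 zf23) (kf xf25 yf22 zf31) (kf xf31 yf41 zf22) (kf xf31 yf7 zf33) (kf xf28 yf56 zf56) (kf xf23 yf42 zf19) (kf xf22 yf9 zf25) (kf xf26 yf12 zf31) (kf xf30 yf5 zf13) (kf xf19 yf49 zf48) (kf xf32 yf38 zf55) (kf xf29 yf28 zf41) (kf xf32 yf15 zf59) (kf xf29 yf12 zf51) (kf xf25 yf27 zf44) (kf xf27 yf56 zf5) (kf xf22 yf17 zf19) (kf xf23 yf12 zf13) (kf xf24 yf16 zf0) (kf xf25 yf40 zf42) (kf xf23 yf58 zf12) (kf xf19 yf39 zf27)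 (kf xf19 yf51 zf17) (kf xf25 yf43 zf15) (kf xf27 yf17 zf28) (kf xf19 yf39 zf37) (kf xf20 yf14 zf2) (kf xf21 yf11 zf18) (kf xf26 yf46 zf19) (kf xf24 yf9 zf19) (kf xf29 yf53 zf56) (kf xf26 yf31 zf55) (kf xf29 yf26 zf0) (kf xf29 yf18 zf6) (kf xf29 yf17 zf48) (kf xf29 yf6 zf55) (kf xf29 yf6 zf61) (kf xf28 yf41 zf48) (kf xf32 yf1 zf2) (kf xf29 yf0 zf0) (kf xf19 yf47 zf7) (kf xf19 yf47 zf11) (kf xf29 yf16 zf51) (kf xf25 yf23 zf9) (kf xf20 yf4 zf56) (kf xf29 yf13 zf13) (kf xf30 yf18 zf7) (kf xf27 yf12 zf2) (kf xf29 yf9 zf1) (kf xf20 yf3 zf24) (kf xf27 yf0 zf16)) (@D3.rec (fun _ => Pt) (kf xf20 yf37 zf36) (kf xf27 yf43 zf46) (kf xf30 yf11 zf34) (kf xf28 yf41 zf11) (kf xf28 yf50 zf33) (kf xf29 yf32 zf10) (kf xf23 yf51 zf42) (kf xf23 yf51 zf52) (kf xf24 yf10 zf12) (kf xf28 yf52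 zf17) (kf xf28 yf52 zf18) (kf xf28 yf35 zf58) (kf xf24 yf3 zf30) (kf xf28 yf52 zf19) (kf xf24 yf19 zf31) (kf xf27 yf10 zf44) (kf xf32 yf23 zf61) (kf xf24 yf4 zf28) (kf xf26 yf37 zf36) (kf xf26 yf34 zf26) (kf xf29 yf39 zf0) (kf xf27 yf21 zf5) (kf xf28 yf42 zf28) (kf xf28 yf53 zf18) (kf xf32 yf2 zf45) (kf xf19 yf41 zf45) (kf xf24 yf38 zf37) (kf xf25 yf59 zf23) (kf xf32 yf32 zf35) (kf xf28 yf53 zf25) (kf xf30 yf20 zf50) (kf xf19 yf41 zf36) (kf xf28 yf53 zf16) (kf xf31 yf33 zf35) (kf xf28 yf53 zf23) (kf xf31 yf15 zf57) (kf xf28 yf52 zf36) (kf xf28 yf53 zf10) (kf xf30 yf29 zf54) (kf xf19 yf41 zf39) (kf xf28 yf55 zf40) (kf xf28 yf53 zf41) (kf xf32 yf35 zf50) (kf xf28 yf53 zf42) (kf xf26 yf56 zf18) (kf xf22 yf18 zf27) (kf xf28 yf46 zf27) (kf xf24 yf39 zf14) (kf xf19 yf48 zf49)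 (kf xf29 yf29 zf8) (kf xf29 yf29 zf9) (kf xf24 yf53 zf0) (kf xf20 yf59 zf46) (kf xf28 yf52 zf11) (kf xf28 yf35 zf49) (kf xf28 yf52 zf20) (kf xf28 yf52 zf21) (kf xf28 yf35 zf38) (kf xf19 yf41 zf51) (kf xf27 yf8 zf52) (kf xf27 yf16 zf53) (kf xf31 yf13 zf52)) (@D3.rec (fun _ => Pt) (kf xf19 yf41 zf54) (kf xf28 yf36 zf5) (kf xf28 yf5 zf58) (kf xf28 yf35 zf14) (kf xf19 yf41 zf58) (kf xf22 yf0 zf4) (kf xf28 yf52 zf38) (kf xf28 yf52 zf37) (kf xf32 yf41 zf49) (kf xf19 yf41 zf60) (kf xf24 yf1 zf43) (kf xf24 yf58 zf32) (kf xf24 yf12 zf24) (kf xf28 yf42 zf38) (kf xf21 yf47 zf39) (kf xf29 yf48 zf18) (kf xf19 yf42 zf6) (kf xf29 yf48 zf19) (kf xf24 yf50 zf11) (kf xf31 yf41 zf40) (kf xf29 yf17 zf55) (kf xf25 yf20 zf33) (kf xf27 yf36 zf46) (kf xf24 yf52 zf13) (kf xf24 yf51 zf50) (kf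 xf24 yf10 zf39) (kf xf32 yf21 zf51) (kf xf32 yf33 zf5) (kf xf19 yf42 zf24) (kf xf29 yf48 zf21) (kf xf31 yf59 zf45) (kf xf29 yf38 zf49) (kf xf27 yf21 zf49) (kf xf24 yf52 zf42) (kf xf30 yf3 zf18) (kf xf26 yf58 zf9) (kf xf24 yf48 zf58) (kf xf26 yf41 zf9) (kf xf29 yf58 zf53) (kf xf32 yf41 zf52) (kf xf19 yf42 zf45) (kf xf31 yf52 zf49) (kf xf26 yf9 zf50) (kf xf29 yf43 zf44) (kf xf28 yf45 zf7) (kf xf29 yf43 zf37) (kf xf29 yf43 zf35) (kf xf31 yf51 zf35) (kf xf24 yf52 zf10) (kf xf19 yf58 zf38) (kf xf31 yf40 zf58) (kf xf27 yf11 zf58) (kf xf29 yf9 zf0) (kf xf28 yf44 zf14) (kf xf20 yf53 zf11) (kf xf28 yf44 zf15) (kf xf19 yf43 zf4) (kf xf23 yf0 zf7) (kf xf29 yf29 zf29) (kf xf32 yf15 zf42) (kf xf19 yf43 zf42) (kf xf20 yf28 zf53)) (@D3.rec (fun _ => Pt) (kf xf24 yf30 zf34) (kf xf23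 yf4 zf31) (kf xf21 yf15 zf47) (kf xf28 yf18 zf6) (kf xf28 yf56 zf15) (kf xf19 yf48 zf53) (kf xf19 yf48 zf54) (kf xf19 yf48 zf55) (kf xf31 yf22 zf58) (kf xf30 yf29 zf57) (kf xf29 yf19 zf44) (kf xf19 yf43 zf39) (kf xf28 yf47 zf49) (kf xf24 yf14 zf38) (kf xf20 yf53 zf8) (kf xf31 yf50 zf27) (kf xf24 yf52 zf40) (kf xf28 yf54 zf12) (kf xf20 yf58 zf28) (kf xf20 yf36 zf58) (kf xf32 yf41 zf55) (kf xf32 yf13 zf21) (kf xf20 yf58 zf11) (kf xf19 yf44 zf4) (kf xf19 yf52 zf43) (kf xf25 yf12 zf19) (kf xf30 yf51 zf30) (kf xf19 yf44 zf31) (kf xf30 yf9 zf48) (kf xf28 yf57 zf1) (kf xf22 yf55 zf1) (kf xf30 yf9 zf42) (kf xf19 yf44 zf29) (kf xf31 yf13 zf0) (kf xf31 yf4 zf20) (kf xf24 yf11 zf11) (kf xf19 yf44 zf32) (kf xf19 yf45 zf44) (kf xf27 yf4 zf61) (kf xf19 yf44 zf36) (kf xf19 yf45 zf60)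 (kf xf19 yf45 zf61) (kf xf19 yf46 zf1) (kf xf19 yf45 zf57) (kf xf19 yf46 zf5) (kf xf19 yf46 zf6) (kf xf19 yf46 zf9) (kf xf19 yf46 zf8) (kf xf32 yf15 zf48) (kf xf30 yf9 zf41) (kf xf19 yf46 zf28) (kf xf25 yf30 zf38) (kf xf19 yf46 zf18) (kf xf26 yf33 zf47) (kf xf26 yf33 zf54) (kf xf24 yf58 zf11) (kf xf26 yf33 zf46) (kf xf32 yf15 zf38) (kf xf31 yf13 zf2) (kf xf31 yf34 zf19) (kf xf29 yf17 zf6) (kf xf25 yf15 zf31)) (@D3.rec (fun _ => Pt) (kf xf32 yf15 zf32) (kf xf25 yf13 zf11) (kf xf28 yf40 zf37) (kf xf26 yf37 zf11) (kf xf28 yf58 zf48) (kf xf32 yf42 zf0) (kf xf22 yf21 zf5) (kf xf30 yf51 zf31) (kf xf19 yf45 zf30) (kf xf19 yf45 zf26) (kf xf19 yf45 zf27) (kf xf28 yf58 zf47) (kf xf27 yf58 zf39) (kf xf31 yf53 zf29) (kf xf28 yf58 zf61) (kf xf28 yf36 zf21) (kf xf28 yf58 zf53) (kf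 xf23 yf0 zf57) (kf xf30 yf51 zf38) (kf xf30 yf51 zf39) (kf xf30 yf51 zf40) (kf xf30 yf51 zf41) (kf xf30 yf51 zf42) (kf xf30 yf51 zf43) (kf xf32 yf15 zf30) (kf xf31 yf27 zf1) (kf xf24 yf50 zf57) (kf xf32 yf42 zf1) (kf xf29 yf17 zf13) (kf xf27 yf42 zf32) (kf xf19 yf50 zf10) (kf xf21 yf50 zf38) (kf xf23 yf38 zf50) (kf xf25 yf59 zf1) (kf xf29 yf23 zf31) (kf xf29 yf41 zf24) (kf xf23 yf30 zf23) (kf xf23 yf30 zf20) (kf xf30 yf51 zf37) (kf xf25 yf34 zf27) (kf xf28 yf20 zf40) (kf xf28 yf15 zf13) (kf xf25 yf33 zf23) (kf xf25 yf33 zf24) (kf xf29 yf44 zf34) (kf xf31 yf56 zf35) (kf xf32 yf23 zf34) (kf xf25 yf6 zf27) (kf xf21 yf27 zf21) (kf xf32 yf42 zf19) (kf xf31 yf56 zf0) (kf xf19 yf45 zf50) (kf xf19 yf46 zf13) (kf xf31 yf27 zf8) (kf xf27 yf1 zf37) (kf xf29 yf17 zf7) (kf xf29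 yf57 zf5) (kf xf24 yf17 zf17) (kf xf27 yf1 zf34) (kf xf26 yf5 zf0) (kf xf26 yf4 zf59) (kf xf32 yf15 zf31)) (@D3.rec (fun _ => Pt) (kf xf29 yf15 zf47) (kf xf24 yf24 zf6) (kf xf24 yf23 zf60) (kf xf32 yf41 zf58) (kf xf25 yf57 zf56) (kf xf26 yf20 zf36) (kf xf25 yf30 zf50) (kf xf31 yf11 zf13) (kf xf30 yf3 zf10) (kf xf32 yf42 zf23) (kf xf31 yf49 zf28) (kf xf19 yf46 zf7) (kf xf31 yf10 zf44) (kf xf25 yf30 zf32) (kf xf32 yf41 zf59) (kf xf30 yf1 zf32) (kf xf32 yf13 zf30) (kf xf31 yf11 zf14) (kf xf28 yf19 zf25) (kf xf23 yf41 zf19) (kf xf29 yf6 zf46) (kf xf31 yf27 zf50) (kf xf30 yf10 zf5) (kf xf30 yf10 zf4) (kf xf24 yf20 zf33) (kf xf27 yf18 zf33) (kf xf30 yf10 zf54) (kf xf25 yf36 zf22) (kf xf25 yf15 zf5) (kf xf28 yf19 zf28) (kf xf30 yf10 zf1) (kf xf27 yf18 zf26) (kf xf32 yf33 zf7)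 (kf xf31 yf10 zf23) (kf xf30 yf47 zf13) (kf xf26 yf46 zf15) (kf xf26 yf38 zf36) (kf xf25 yf49 zf50) (kf xf28 yf44 zf45) (kf xf19 yf47 zf9) (kf xf19 yf47 zf10) (kf xf30 yf56 zf19) (kf xf22 yf54 zf2) (kf xf26 yf46 zf16) (kf xf31 yf10 zf3) (kf xf27 yf18 zf47) (kf xf27 yf42 zf34) (kf xf27 yf18 zf3) (kf xf27 yf17 zf26) (kf xf30 yf19 zf20) (kf xf26 yf54 zf16) (kf xf28 yf30 zf15) (kf xf28 yf38 zf48) (kf xf19 yf52 zf48) (kf xf31 yf24 zf52) (kf xf31 yf59 zf23) (kf xf31 yf6 zf35) (kf xf25 yf46 zf17) (kf xf29 yf5 zf60) (kf xf25 yf38 zf43) (kf xf29 yf5 zf58) (kf xf31 yf39 zf56)) (@D3.rec (fun _ => Pt) (kf xf26 yf25 zf26) (kf xf20 yf15 zf16) (kf xf21 yf51 zf40) (kf xf24 yf34 zf23) (kf xf27 yf1 zf3) (kf xf24 yf2 zf46) (kf xf31 yf33 zf45) (kf xf19 yf47 zf50) (kf xf21 yf52 zf21) (kf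 xf20 yf35 zf20) (kf xf19 yf48 zf25) (kf xf19 yf48 zf24) (kf xf26 yf54 zf60) (kf xf26 yf54 zf58) (kf xf26 yf44 zf45) (kf xf26 yf22 zf61) (kf xf26 yf10 zf14) (kf xf26 yf10 zf13) (kf xf31 yf56 zf53) (kf xf23 yf43 zf20) (kf xf26 yf10 zf11) (kf xf26 yf10 zf12) (kf xf30 yf58 zf40) (kf xf31 yf1 zf11) (kf xf28 yf13 zf32) (kf xf26 yf7 zf37) (kf xf26 yf7 zf38) (kf xf31 yf58 zf26) (kf xf21 yf55 zf17) (kf xf19 yf48 zf26) (kf xf26 yf39 zf59) (kf xf29 yf28 zf46) (kf xf31 yf54 zf16) (kf xf26 yf3 zf48) (kf xf21 yf4 zf2) (kf xf21 yf35 zf43) (kf xf20 yf13 zf45) (kf xf25 yf58 zf8) (kf xf23 yf40 zf24) (kf xf28 yf18 zf3) (kf xf30 yf50 zf23) (kf xf26 yf50 zf39) (kf xf19 yf51 zf23) (kf xf19 yf51 zf24) (kf xf26 yf15 zf49) (kf xf29 yf22 zf39) (kf xf29 yf5 zf20) (kf xf30 yf11 zf12) (kf xf31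 yf48 zf8) (kf xf19 yf49 zf15) (kf xf25 yf11 zf19) (kf xf25 yf11 zf20) (kf xf28 yf59 zf45) (kf xf28 yf25 zf20) (kf xf28 yf59 zf44) (kf xf29 yf0 zf46) (kf xf19 yf49 zf47) (kf xf19 yf49 zf51) (kf xf19 yf49 zf50) (kf xf32 yf42 zf14) (kf xf28 yf31 zf14) (kf xf29 yf0 zf47)) (@D3.rec (fun _ => Pt) (kf xf20 yf43 zf21) (kf xf25 yf12 zf52) (kf xf31 yf48 zf58) (kf xf29 yf37 zf20) (kf xf27 yf42 zf39) (kf xf31 yf54 zf37) (kf xf29 yf17 zf37) (kf xf30 yf55 zf13) (kf xf22 yf52 zf2) (kf xf26 yf27 zf16) (kf xf27 yf39 zf20) (kf xf25 yf5 zf22) (kf xf31 yf47 zf41) (kf xf26 yf54 zf55) (kf xf19 yf51 zf42) (kf xf29 yf29 zf11) (kf xf19 yf51 zf7) (kf xf20 yf24 zf10) (kf xf21 yf28 zf20) (kf xf20 yf54 zf32) (kf xf29 yf26 zf43) (kf xf29 yf17 zf38) (kf xf31 yf47 zf54) (kf xf29 yf41 zf37) (kf xf26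 yf57 zf35) (kf xf29 yf18 zf14) (kf xf27 yf21 zf17) (kf xf23 yf52 zf18) (kf xf24 yf50 zf39) (kf xf23 yf58 zf18) (kf xf28 yf19 zf55) (kf xf32 yf21 zf30) (kf xf31 yf27 zf60) (kf xf32 yf40 zf60) (kf xf19 yf50 zf58) (kf xf32 yf13 zf55) (kf xf23 yf49 zf41) (kf xf31 yf21 zf8) (kf xf28 yf20 zf48) (kf xf20 yf32 zf15) (kf xf24 yf20 zf61) (kf xf21 yf14 zf2) (kf xf29 yf14 zf54) (kf xf26 yf44 zf11) (kf xf31 yf31 zf5) (kf xf26 yf23 zf38) (kf xf29 yf39 zf20) (kf xf20 yf32 zf14) (kf xf32 yf32 zf17) (kf xf19 yf51 zf26) (kf xf32 yf38 zf16) (kf xf30 yf43 zf51) (kf xf23 yf5 zf55) (kf xf30 yf49 zf27) (kf xf26 yf45 zf39) (kf xf28 yf49 zf16) (kf xf26 yf45 zf36) (kf xf19 yf51 zf36) (kf xf29 yf24 zf7) (kf xf28 yf28 zf0) (kf xf31 yf7 zf47) (kf xf28 yf9 zf45)) (@D3.rec (fun _ => Pt) (kf xf30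 yf36 zf22) (kf xf31 yf26 zf40) (kf xf31 yf51 zf50) (kf xf19 yf52 zf15) (kf xf19 yf52 zf14) (kf xf32 yf21 zf21) (kf xf19 yf51 zf51) (kf xf19 yf52 zf18) (kf xf19 yf52 zf19) (kf xf19 yf52 zf24) (kf xf19 yf51 zf53) (kf xf19 yf52 zf37) (kf xf19 yf52 zf32) (kf xf19 yf52 zf33) (kf xf29 yf27 zf3) (kf xf20 yf47 zf5) (kf xf28 yf23 zf55) (kf xf26 yf35 zf9) (kf xf32 yf17 zf19) (kf xf32 yf17 zf18) (kf xf32 yf33 zf12) (kf xf28 yf32 zf29) (kf xf28 yf39 zf32) (kf xf19 yf52 zf9) (kf xf28 yf29 zf41) (kf xf19 yf52 zf10) (kf xf31 yf19 zf51) (kf xf31 yf19 zf52) (kf xf28 yf50 zf18) (kf xf30 yf27 zf27) (kf xf32 yf42 zf40) (kf xf30 yf27 zf28) (kf xf28 yf30 zf42) (kf xf28 yf38 zf33) (kf xf28 yf38 zf36) (kf xf32 yf15 zf4) (kf xf19 yf52 zf16) (kf xf20 yf32 zf5) (kf xf29 yf52 zf20) (kf xf32 yf18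 zf14) (kf xf29 yf54 zf37) (kf xf26 yf58 zf52) (kf xf30 yf3 zf41) (kf xf32 yf42 zf49) (kf xf23 yf53 zf28) (kf xf20 yf20 zf14) (kf xf32 yf37 zf2) (kf xf29 yf29 zf28) (kf xf32 yf14 zf41) (kf xf24 yf23 zf25) (kf xf30 yf38 zf29) (kf xf27 yf44 zf14) (kf xf29 yf27 zf1) (kf xf28 yf43 zf38) (kf xf32 yf41 zf39) (kf xf28 yf53 zf36) (kf xf19 yf52 zf34) (kf xf32 yf18 zf27) (kf xf25 yf20 zf0) (kf xf29 yf15 zf22) (kf xf31 yf28 zf39) (kf xf32 yf17 zf38)) (@D3.rec (fun _ => Pt) (kf xf29 yf2 zf52) (kf xf29 yf0 zf59) (kf xf22 yf33 zf28) (kf xf30 yf23 zf4) (kf xf20 yf35 zf16) (kf xf20 yf7 zf3) (kf xf23 yf12 zf10) (kf xf21 yf56 zf61) (kf xf29 yf27 zf11) (kf xf27 yf0 zf45) (kf xf22 yf47 zf33) (kf xf22 yf37 zf55) (kf xf30 yf53 zf15) (kf xf19 yf57 zf51) (kf xf29 yf11 zf60) (kf xf21 yf36 zf4)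 (kf xf27 yf17 zf27) (kf xf27 yf19 zf2) (kf xf27 yf6 zf60) (kf xf28 yf53 zf48) (kf xf28 yf53 zf57) (kf xf31 yf20 zf15) (kf xf27 yf19 zf6) (kf xf27 yf19 zf7) (kf xf27 yf2 zf14) (kf xf27 yf7 zf0) (kf xf28 yf39 zf34) (kf xf31 yf29 zf7) (kf xf26 yf42 zf7) (kf xf31 yf21 zf49) (kf xf32 yf15 zf52) (kf xf28 yf56 zf48) (kf xf32 yf3 zf58) (kf xf26 yf42 zf9) (kf xf26 yf10 zf19) (kf xf31 yf7 zf5) (kf xf24 yf37 zf59) (kf xf25 yf9 zf54) (kf xf29 yf16 zf61) (kf xf29 yf9 zf42) (kf xf24 yf37 zf56) (kf xf24 yf37 zf54) (kf xf29 yf9 zf39) (kf xf20 yf3 zf32) (kf xf31 yf36 zf10) (kf xf23 yf32 zf15) (kf xf30 yf40 zf5) (kf xf31 yf11 zf51) (kf xf31 yf18 zf35) (kf xf31 yf5 zf53) (kf xf23 yf31 zf40) (kf xf30 yf51 zf57) (kf xf31 yf6 zf0) (kf xf32 yf42 zf54) (kf xf19 yf56 zf39) (kf xf28 yf13 zf23)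 (kf xf19 yf54 zf33) (kf xf19 yf54 zf32) (kf xf31 yf8 zf39) (kf xf19 yf54 zf30) (kf xf28 yf28 zf27) (kf xf32 yf28 zf17)) (@D3.rec (fun _ => Pt) (kf xf19 yf54 zf31) (kf xf28 yf51 zf4) (kf xf25 yf11 zf54) (kf xf32 yf42 zf55) (kf xf31 yf36 zf9) (kf xf32 yf16 zf2) (kf xf26 yf6 zf61) (kf xf24 yf42 zf36) (kf xf19 yf54 zf34) (kf xf32 yf16 zf9) (kf xf31 yf8 zf44) (kf xf31 yf9 zf31) (kf xf31 yf8 zf45) (kf xf32 yf5 zf5) (kf xf32 yf16 zf10) (kf xf31 yf37 zf46) (kf xf19 yf54 zf38) (kf xf24 yf20 zf54) (kf xf21 yf49 zf10) (kf xf30 yf33 zf9) (kf xf32 yf15 zf61) (kf xf28 yf40 zf50) (kf xf24 yf20 zf49) (kf xf31 yf9 zf7) (kf xf25 yf37 zf59) (kf xf31 yf8 zf49) (kf xf26 yf6 zf46) (kf xf26 yf6 zf47) (kf xf26 yf6 zf39) (kf xf31 yf8 zf30) (kf xf22 yf44 zf9) (kf xf23 yf29 zf36) (kf xf23 yf40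 zf16) (kf xf23 yf40 zf34) (kf xf26 yf37 zf26) (kf xf32 yf43 zf1) (kf xf31 yf18 zf33) (kf xf32 yf30 zf40) (kf xf31 yf19 zf24) (kf xf19 yf54 zf54) (kf xf20 yf55 zf3) (kf xf20 yf55 zf4) (kf xf22 yf23 zf57) (kf xf28 yf13 zf21) (kf xf19 yf55 zf6) (kf xf32 yf32 zf30) (kf xf19 yf55 zf1) (kf xf31 yf41 zf61) (kf xf28 yf41 zf2) (kf xf31 yf6 zf33) (kf xf30 yf13 zf48) (kf xf32 yf43 zf8) (kf xf19 yf55 zf5) (kf xf31 yf19 zf43) (kf xf32 yf26 zf47) (kf xf29 yf47 zf20) (kf xf32 yf30 zf39) (kf xf31 yf57 zf25) (kf xf32 yf43 zf5) (kf xf32 yf27 zf0) (kf xf19 yf55 zf8) (kf xf24 yf42 zf28)) (@D3.rec (fun _ => Pt) (kf xf32 yf4 zf37) (kf xf32 yf4 zf39) (kf xf32 yf16 zf1) (kf xf30 yf0 zf41) (kf xf31 yf8 zf26) (kf xf19 yf55 zf12) (kf xf31 yf2 zf49) (kf xf21 yf49 zf9) (kf xf30 yf16 zf61) (kf xf23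 yf42 zf60) (kf xf25 yf22 zf33) (kf xf28 yf58 zf35) (kf xf24 yf43 zf27) (kf xf31 yf41 zf12) (kf xf30 yf20 zf8) (kf xf32 yf3 zf14) (kf xf26 yf38 zf0) (kf xf32 yf40 zf53) (kf xf24 yf49 zf30) (kf xf31 yf51 zf49) (kf xf19 yf55 zf32) (kf xf21 yf56 zf39) (kf xf21 yf56 zf41) (kf xf32 yf24 zf30) (kf xf19 yf55 zf36) (kf xf24 yf49 zf19) (kf xf25 yf37 zf61) (kf xf26 yf10 zf3) (kf xf30 yf40 zf35) (kf xf30 yf8 zf8) (kf xf19 yf55 zf38) (kf xf31 yf37 zf48) (kf xf32 yf16 zf17) (kf xf31 yf37 zf45) (kf xf32 yf43 zf16) (kf xf19 yf55 zf42) (kf xf26 yf8 zf7) (kf xf19 yf55 zf45) (kf xf31 yf8 zf50) (kf xf29 yf14 zf42) (kf xf30 yf52 zf32) (kf xf31 yf30 zf17) (kf xf31 yf6 zf40) (kf xf24 yf31 zf26) (kf xf30 yf47 zf34) (kf xf24 yf31 zf5) (kf xf31 yf7 zf58) (kf xf31 yf0 zf56) (kf xf32 yf23 zf38)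 (kf xf19 yf55 zf56) (kf xf29 yf26 zf45) (kf xf31 yf30 zf12) (kf xf21 yf49 zf5) (kf xf32 yf32 zf45) (kf xf32 yf16 zf14) (kf xf32 yf16 zf13) (kf xf32 yf16 zf16) (kf xf32 yf16 zf15) (kf xf30 yf41 zf44) (kf xf19 yf55 zf61) (kf xf29 yf9 zf14) (kf xf30 yf51 zf27)) (@D3.rec (fun _ => Pt) (kf xf32 yf42 zf60) (kf xf26 yf42 zf21) (kf xf19 yf56 zf4) (kf xf23 yf28 zf58) (kf xf31 yf30 zf24) (kf xf30 yf33 zf30) (kf xf29 yf49 zf33) (kf xf25 yf40 zf21) (kf xf31 yf5 zf44) (kf xf19 yf56 zf12) (kf xf27 yf40 zf16) (kf xf23 yf31 zf31) (kf xf30 yf2 zf11) (kf xf23 yf31 zf34) (kf xf23 yf25 zf11) (kf xf23 yf31 zf10) (kf xf23 yf31 zf6) (kf xf30 yf32 zf51) (kf xf30 yf33 zf14) (kf xf24 yf44 zf0) (kf xf31 yf2 zf20) (kf xf19 yf56 zf31) (kf xf32 yf43 zf19) (kf xf32 yf8 zf44) (kf xf19 yf56 zf33) (kf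 xf31 yf34 zf21) (kf xf26 yf36 zf4) (kf xf31 yf58 zf23) (kf xf26 yf40 zf27) (kf xf24 yf20 zf47) (kf xf25 yf10 zf37) (kf xf25 yf6 zf30) (kf xf27 yf44 zf18) (kf xf31 yf46 zf39) (kf xf31 yf46 zf38) (kf xf31 yf48 zf43) (kf xf28 yf48 zf3) (kf xf28 yf47 zf32) (kf xf28 yf41 zf59) (kf xf28 yf30 zf26) (kf xf25 yf10 zf41) (kf xf27 yf46 zf51) (kf xf26 yf44 zf50) (kf xf21 yf53 zf50) (kf xf25 yf14 zf7) (kf xf28 yf51 zf17) (kf xf19 yf57 zf19) (kf xf31 yf43 zf41) (kf xf25 yf13 zf32) (kf xf19 yf57 zf21) (kf xf27 yf23 zf12) (kf xf29 yf0 zf24) (kf xf31 yf46 zf26) (kf xf19 yf57 zf23) (kf xf27 yf43 zf19) (kf xf22 yf10 zf9) (kf xf25 yf16 zf43) (kf xf25 yf40 zf30) (kf xf21 yf48 zf51) (kf xf28 yf51 zf18) (kf xf21 yf18 zf36) (kf xf29 yf20 zf51)) (@D3.rec (fun _ => Pt) (kf xf30 yf54 zf60) (kf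 xf19 yf58 zf10) (kf xf19 yf58 zf9) (kf xf32 yf20 zf11) (kf xf19 yf58 zf13) (kf xf19 yf58 zf14) (kf xf19 yf58 zf19) (kf xf26 yf34 zf18) (kf xf31 yf52 zf52) (kf xf29 yf15 zf4) (kf xf25 yf9 zf28) (kf xf25 yf9 zf27) (kf xf29 yf23 zf38) (kf xf29 yf0 zf56) (kf xf30 yf0 zf15) (kf xf19 yf58 zf2) (kf xf30 yf14 zf30) (kf xf30 yf0 zf14) (kf xf32 yf43 zf24) (kf xf19 yf58 zf4) (kf xf28 yf51 zf50) (kf xf31 yf29 zf50) (kf xf30 yf26 zf58) (kf xf23 yf49 zf26) (kf xf24 yf34 zf3) (kf xf28 yf59 zf51) (kf xf29 yf38 zf59) (kf xf19 yf58 zf11) (kf xf25 yf9 zf15) (kf xf29 yf35 zf59) (kf xf29 yf45 zf7) (kf xf24 yf4 zf36) (kf xf28 yf59 zf31) (kf xf31 yf59 zf46) (kf xf32 yf43 zf21) (kf xf32 yf39 zf4) (kf xf24 yf27 zf18) (kf xf25 yf20 zf21) (kf xf30 yf20 zf25) (kf xf28 yf1 zf19) (kf xf26 yf46 zf51)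 (kf xf31 yf40 zf21) (kf xf25 yf45 zf34) (kf xf30 yf8 zf13) (kf xf19 yf58 zf40) (kf xf20 yf59 zf52) (kf xf25 yf23 zf3) (kf xf32 yf43 zf26) (kf xf32 yf8 zf41) (kf xf32 yf42 zf56) (kf xf24 yf20 zf11) (kf xf31 yf36 zf24) (kf xf19 yf58 zf51) (kf xf31 yf57 zf43) (kf xf19 yf58 zf55) (kf xf31 yf8 zf22) (kf xf31 yf9 zf12) (kf xf31 yf9 zf15) (kf xf31 yf9 zf14) (kf xf19 yf58 zf58) (kf xf20 yf9 zf59) (kf xf25 yf18 zf61)) (@D3.rec (fun _ => Pt) (kf xf19 yf59 zf2) (kf xf31 yf1 zf13) (kf xf31 yf58 zf2) (kf xf26 yf3 zf22) (kf xf32 yf16 zf21) (kf xf32 yf16 zf22) (kf xf25 yf40 zf7) (kf xf31 yf9 zf51) (kf xf19 yf59 zf12) (kf xf28 yf10 zf16) (kf xf29 yf35 zf35) (kf xf29 yf35 zf34) (kf xf31 yf39 zf37) (kf xf31 yf39 zf38) (kf xf32 yf17 zf57) (kf xf29 yf15 zf16) (kf xf26 yf34 zf21) (kf xf26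 yf34 zf22) (kf xf26 yf34 zf20) (kf xf26 yf34 zf23) (kf xf26 yf34 zf24) (kf xf29 yf35 zf36) (kf xf28 yf36 zf61) (kf xf32 yf43 zf36) (kf xf27 yf37 zf6) (kf xf31 yf40 zf51) (kf xf31 yf52 zf61) (kf xf22 yf7 zf43) (kf xf30 yf27 zf10) (kf xf27 yf26 zf60) (kf xf28 yf13 zf30) (kf xf30 yf5 zf27) (kf xf26 yf30 zf11) (kf xf26 yf19 zf33) (kf xf22 yf42 zf23) (kf xf26 yf30 zf12) (kf xf24 yf12 zf59) (kf xf20 yf6 zf12) (kf xf27 yf9 zf0) (kf xf27 yf40 zf2) (kf xf23 yf6 zf43) (kf xf20 yf13 zf28) (kf xf29 yf11 zf39) (kf xf21 yf15 zf23) (kf xf28 yf0 zf56) (kf xf26 yf55 zf30) (kf xf20 yf0 zf46) (kf xf20 yf0 zf47) (kf xf20 yf0 zf55) (kf xf26 yf23 zf12) (kf xf32 yf34 zf59) (kf xf20 yf1 zf5) (kf xf26 yf52 zf3) (kf xf20 yf8 zf52) (kf xf29 yf7 zf42) (kf xf26 yf28 zf41) (kf xf27 yf9 zf39) (kf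 xf29 yf32 zf1) (kf xf20 yf1 zf19) (kf xf20 yf1 zf21) (kf xf28 yf28 zf15) (kf xf20 yf1 zf23)) (@D3.rec (fun _ => Pt) (kf xf26 yf40 zf26) (kf xf26 yf51 zf1) (kf xf26 yf58 zf5) (kf xf20 yf41 zf42) (kf xf29 yf13 zf9) (kf xf26 yf35 zf46) (kf xf26 yf35 zf43) (kf xf26 yf54 zf28) (kf xf26 yf54 zf29) (kf xf24 yf32 zf21) (kf xf26 yf54 zf31) (kf xf26 yf54 zf32) (kf xf28 yf35 zf6) (kf xf29 yf27 zf15) (kf xf28 yf49 zf50) (kf xf28 yf49 zf53) (kf xf29 yf14 zf15) (kf xf32 yf43 zf43) (kf xf26 yf54 zf39) (kf xf31 yf21 zf10) (kf xf20 yf1 zf53) (kf xf29 yf27 zf27) (kf xf29 yf8 zf59) (kf xf31 yf51 zf4) (kf xf29 yf41 zf52) (kf xf26 yf26 zf59) (kf xf20 yf1 zf59) (kf xf25 yf28 zf27) (kf xf26 yf4 zf29) (kf xf20 yf41 zf35) (kf xf24 yf35 zf37) (kf xf20 yf2 zf16) (kf xf20 yf2 zf15) (kf xf31 yf3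 zf30) (kf xf20 yf2 zf14) (kf xf28 yf58 zf10) (kf xf32 yf15 zf20) (kf xf29 yf59 zf21) (kf xf32 yf14 zf50) (kf xf24 yf36 zf59) (kf xf23 yf41 zf4) (kf xf23 yf41 zf10) (kf xf20 yf2 zf17) (kf xf31 yf42 zf9) (kf xf25 yf6 zf32) (kf xf27 yf1 zf55) (kf xf29 yf16 zf22) (kf xf29 yf5 zf0) (kf xf29 yf16 zf21) (kf xf31 yf47 zf28) (kf xf31 yf47 zf27) (kf xf30 yf40 zf18) (kf xf25 yf0 zf43) (kf xf20 yf2 zf26) (kf xf31 yf49 zf30) (kf xf20 yf2 zf31) (kf xf23 yf54 zf50) (kf xf20 yf2 zf30) (kf xf29 yf59 zf11) (kf xf32 yf43 zf49) (kf xf29 yf43 zf12) (kf xf30 yf8 zf32)) (@D3.rec (fun _ => Pt) (kf xf28 yf25 zf29) (kf xf31 yf35 zf33) (kf xf27 yf24 zf20) (kf xf32 yf36 zf57) (kf xf23 yf54 zf43) (kf xf20 yf2 zf33) (kf xf28 yf5 zf55) (kf xf31 yf49 zf21) (kf xf27 yf24 zf7) (kf xf25 yf7 zf4) (kf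 xf32 yf27 zf32) (kf xf31 yf46 zf23) (kf xf25 yf57 zf2) (kf xf31 yf47 zf13) (kf xf31 yf23 zf14) (kf xf28 yf52 zf55) (kf xf29 yf59 zf15) (kf xf29 yf59 zf16) (kf xf29 yf59 zf17) (kf xf29 yf49 zf10) (kf xf32 yf23 zf43) (kf xf29 yf15 zf48) (kf xf29 yf15 zf46) (kf xf20 yf2 zf54) (kf xf31 yf46 zf17) (kf xf28 yf42 zf3) (kf xf20 yf3 zf0) (kf xf20 yf2 zf61) (kf xf32 yf2 zf0) (kf xf20 yf2 zf60) (kf xf28 yf38 zf10) (kf xf31 yf47 zf39) (kf xf25 yf7 zf23) (kf xf32 yf1 zf59) (kf xf31 yf47 zf16) (kf xf32 yf3 zf8) (kf xf31 yf47 zf20) (kf xf31 yf55 zf3) (kf xf20 yf3 zf7) (kf xf20 yf3 zf10) (kf xf32 yf43 zf54) (kf xf32 yf38 zf47) (kf xf31 yf47 zf8) (kf xf32 yf2 zf13) (kf xf20 yf3 zf14) (kf xf25 yf33 zf9) (kf xf24 yf36 zf60) (kf xf20 yf3 zf16) (kf xf25 yf22 zf58) (kf xf20 yf3 zf21) (kf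 xf31 yf24 zf25) (kf xf29 yf0 zf53) (kf xf29 yf49 zf11) (kf xf21 yf48 zf2) (kf xf24 yf16 zf26) (kf xf24 yf22 zf17) (kf xf31 yf0 zf31) (kf xf31 yf37 zf33) (kf xf27 yf39 zf15) (kf xf29 yf17 zf8) (kf xf29 yf59 zf45) (kf xf29 yf9 zf38)) (@D3.rec (fun _ => Pt) (kf xf29 yf41 zf55) (kf xf20 yf3 zf37) (kf xf29 yf23 zf2) (kf xf24 yf41 zf52) (kf xf21 yf50 zf55) (kf xf29 yf58 zf57) (kf xf29 yf3 zf60) (kf xf29 yf4 zf55) (kf xf29 yf16 zf59) (kf xf22 yf2 zf22) (kf xf24 yf41 zf3) (kf xf31 yf49 zf55) (kf xf31 yf20 zf57) (kf xf29 yf4 zf28) (kf xf31 yf41 zf1) (kf xf31 yf36 zf55) (kf xf31 yf49 zf58) (kf xf32 yf5 zf16) (kf xf25 yf32 zf15) (kf xf20 yf3 zf57) (kf xf27 yf28 zf1) (kf xf25 yf11 zf31) (kf xf31 yf49 zf59) (kf xf24 yf44 zf48) (kf xf23 yf22 zf14) (kf xf21 yf36 zf8) (kf xf28 yf41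 zf49) (kf xf31 yf0 zf57) (kf xf27 yf47 zf59) (kf xf27 yf30 zf60) (kf xf28 yf58 zf7) (kf xf31 yf11 zf36) (kf xf20 yf4 zf23) (kf xf24 yf36 zf58) (kf xf29 yf59 zf23) (kf xf32 yf27 zf9) (kf xf32 yf40 zf51) (kf xf29 yf7 zf6) (kf xf29 yf7 zf21) (kf xf29 yf41 zf48) (kf xf32 yf15 zf55) (kf xf25 yf59 zf60) (kf xf20 yf4 zf41) (kf xf21 yf57 zf56) (kf xf32 yf6 zf15) (kf xf27 yf41 zf14) (kf xf20 yf4 zf43) (kf xf25 yf23 zf7) (kf xf29 yf0 zf45) (kf xf29 yf49 zf30) (kf xf28 yf44 zf58) (kf xf29 yf49 zf31) (kf xf21 yf50 zf24) (kf xf31 yf39 zf39) (kf xf25 yf19 zf56) (kf xf29 yf2 zf20) (kf xf31 yf39 zf40) (kf xf28 yf45 zf10) (kf xf31 yf18 zf12) (kf xf25 yf9 zf29) (kf xf25 yf11 zf23) (kf xf31 yf48 zf49)) (@D3.rec (fun _ => Pt) (kf xf30 yf6 zf20) (kf xf31 yf35 zf20) (kf xf24 yf1 zf27) (kf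 xf24 yf27 zf15) (kf xf20 yf5 zf17) (kf xf25 yf38 zf17) (kf xf29 yf0 zf44) (kf xf26 yf44 zf10) (kf xf20 yf12 zf57) (kf xf20 yf12 zf58) (kf xf20 yf12 zf59) (kf xf21 yf38 zf59) (kf xf21 yf7 zf24) (kf xf26 yf50 zf10) (kf xf29 yf7 zf25) (kf xf20 yf30 zf43) (kf xf20 yf32 zf17) (kf xf30 yf39 zf52) (kf xf20 yf6 zf26) (kf xf20 yf6 zf28) (kf xf26 yf58 zf6) (kf xf20 yf30 zf7) (kf xf23 yf43 zf14) (kf xf23 yf30 zf57) (kf xf21 yf4 zf6) (kf xf20 yf49 zf8) (kf xf20 yf49 zf6) (kf xf29 yf21 zf51) (kf xf31 yf42 zf51) (kf xf32 yf7 zf28) (kf xf32 yf7 zf29) (kf xf29 yf19 zf48) (kf xf29 yf20 zf5) (kf xf25 yf54 zf33) (kf xf20 yf7 zf6) (kf xf25 yf54 zf45) (kf xf31 yf42 zf17) (kf xf26 yf20 zf18) (kf xf20 yf30 zf23) (kf xf20 yf30 zf24) (kf xf30 yf47 zf51) (kf xf28 yf26 zf15) (kf xf21 yf38 zf10)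 (kf xf28 yf55 zf50) (kf xf20 yf30 zf35) (kf xf20 yf30 zf36) (kf xf23 yf19 zf41) (kf xf28 yf38 zf20) (kf xf20 yf7 zf42) (kf xf22 yf32 zf19) (kf xf26 yf26 zf51) (kf xf23 yf10 zf12) (kf xf20 yf8 zf58) (kf xf20 yf8 zf57) (kf xf20 yf9 zf3) (kf xf20 yf7 zf56) (kf xf24 yf46 zf37) (kf xf27 yf40 zf33) (kf xf20 yf52 zf48) (kf xf29 yf29 zf53) (kf xf20 yf18 zf32) (kf xf28 yf25 zf57)) (@D3.rec (fun _ => Pt) (kf xf29 yf38 zf34) (kf xf31 yf0 zf22) (kf xf31 yf43 zf2) (kf xf22 yf17 zf41) (kf xf24 yf46 zf26) (kf xf23 yf5 zf11) (kf xf20 yf8 zf29) (kf xf20 yf30 zf56) (kf xf20 yf31 zf61) (kf xf20 yf33 zf42) (kf xf25 yf17 zf2) (kf xf21 yf28 zf55) (kf xf20 yf36 zf39) (kf xf30 yf6 zf58) (kf xf20 yf18 zf30) (kf xf29 yf24 zf4) (kf xf20 yf8 zf45) (kf xf26 yf29 zf37) (kf xf29 yf28 zf49) (kf xf20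 yf8 zf51) (kf xf26 yf55 zf36) (kf xf29 yf29 zf34) (kf xf32 yf21 zf35) (kf xf30 yf51 zf3) (kf xf30 yf48 zf18) (kf xf30 yf43 zf43) (kf xf30 yf51 zf2) (kf xf29 yf29 zf3) (kf xf24 yf52 zf56) (kf xf25 yf18 zf36) (kf xf23 yf5 zf53) (kf xf20 yf38 zf50) (kf xf28 yf46 zf9) (kf xf28 yf44 zf47) (kf xf20 yf9 zf15) (kf xf31 yf35 zf28) (kf xf22 yf39 zf21) (kf xf20 yf51 zf1) (kf xf20 yf52 zf41) (kf xf29 yf38 zf35) (kf xf22 yf36 zf7) (kf xf26 yf50 zf58) (kf xf21 yf33 zf26) (kf xf32 yf6 zf3) (kf xf29 yf3 zf10) (kf xf29 yf20 zf23) (kf xf28 yf9 zf34) (kf xf32 yf6 zf61) (kf xf29 yf18 zf31) (kf xf32 yf7 zf0) (kf xf28 yf37 zf20) (kf xf22 yf33 zf52) (kf xf22 yf40 zf34) (kf xf29 yf25 zf24) (kf xf23 yf55 zf1) (kf xf32 yf17 zf20) (kf xf32 yf17 zf21) (kf xf24 yf8 zf14) (kf xf28 yf18 zf5) (kf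 xf31 yf43 zf26) (kf xf32 yf1 zf37) (kf xf32 yf16 zf25)) (@D3.rec (fun _ => Pt) (kf xf30 yf24 zf25) (kf xf24 yf7 zf58) (kf xf20 yf10 zf14) (kf xf20 yf16 zf33) (kf xf29 yf31 zf43) (kf xf29 yf18 zf32) (kf xf27 yf55 zf26) (kf xf31 yf43 zf15) (kf xf32 yf6 zf60) (kf xf28 yf8 zf53) (kf xf32 yf7 zf34) (kf xf28 yf7 zf41) (kf xf26 yf32 zf37) (kf xf26 yf52 zf6) (kf xf29 yf39 zf38) (kf xf29 yf24 zf19) (kf xf31 yf22 zf29) (kf xf20 yf10 zf29) (kf xf20 yf11 zf23) (kf xf20 yf12 zf8) (kf xf20 yf12 zf15) (kf xf30 yf17 zf51) (kf xf24 yf21 zf51) (kf xf29 yf19 zf45) (kf xf27 yf52 zf50) (kf xf27 yf50 zf7) (kf xf26 yf19 zf46) (kf xf28 yf46 zf58) (kf xf23 yf51 zf40) (kf xf28 yf46 zf1) (kf xf31 yf54 zf33) (kf xf31 yf55 zf17) (kf xf32 yf26 zf61) (kf xf27 yf58 zf46) (kf xf23 yf50 zf30) (kf xf29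 yf27 zf42) (kf xf23 yf51 zf36) (kf xf31 yf43 zf36) (kf xf27 yf49 zf49) (kf xf29 yf24 zf21) (kf xf31 yf25 zf1) (kf xf29 yf24 zf52) (kf xf29 yf24 zf53) (kf xf29 yf24 zf54) (kf xf29 yf24 zf26) (kf xf20 yf11 zf2) (kf xf25 yf54 zf38) (kf xf26 yf31 zf44) (kf xf32 yf6 zf30) (kf xf32 yf6 zf35) (kf xf31 yf59 zf48) (kf xf29 yf12 zf61) (kf xf29 yf53 zf8) (kf xf31 yf25 zf14) (kf xf27 yf53 zf16) (kf xf20 yf11 zf11) (kf xf30 yf45 zf26) (kf xf30 yf45 zf27) (kf xf32 yf30 zf1) (kf xf30 yf45 zf24) (kf xf31 yf43 zf34) (kf xf30 yf45 zf30)) (@D3.rec (fun _ => Pt) (kf xf26 yf31 zf38) (kf xf30 yf44 zf46) (kf xf30 yf44 zf47) (kf xf20 yf11 zf16) (kf xf20 yf18 zf19) (kf xf30 yf45 zf19) (kf xf30 yf45 zf20) (kf xf29 yf31 zf60) (kf xf27 yf2 zf8) (kf xf29 yf35 zf13) (kf xf29 yf38 zf57) (kf xf27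 yf8 zf16) (kf xf21 yf51 zf45) (kf xf29 yf25 zf25) (kf xf20 yf33 zf60) (kf xf25 yf54 zf37) (kf xf30 yf42 zf58) (kf xf24 yf25 zf21) (kf xf30 yf24 zf13) (kf xf30 yf43 zf2) (kf xf22 yf27 zf31) (kf xf32 yf44 zf8) (kf xf20 yf11 zf31) (kf xf26 yf59 zf53) (kf xf30 yf48 zf61) (kf xf32 yf11 zf29) (kf xf20 yf11 zf34) (kf xf27 yf11 zf40) (kf xf26 yf56 zf27) (kf xf29 yf24 zf23) (kf xf31 yf54 zf2) (kf xf28 yf54 zf33) (kf xf30 yf36 zf16) (kf xf30 yf44 zf14) (kf xf31 yf19 zf14) (kf xf20 yf11 zf58) (kf xf28 yf36 zf32) (kf xf31 yf25 zf15) (kf xf30 yf36 zf6) (kf xf27 yf52 zf57) (kf xf28 yf47 zf43) (kf xf21 yf51 zf43) (kf xf32 yf13 zf50) (kf xf22 yf41 zf20) (kf xf20 yf24 zf16) (kf xf20 yf13 zf54) (kf xf20 yf14 zf22) (kf xf20 yf17 zf44) (kf xf20 yf17 zf39) (kf xf20 yf40 zf12) (kf xf20 yf15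 zf18) (kf xf29 yf18 zf27) (kf xf22 yf10 zf42) (kf xf29 yf27 zf56) (kf xf22 yf3 zf49) (kf xf21 yf41 zf8) (kf xf29 yf22 zf36) (kf xf21 yf17 zf60) (kf xf27 yf23 zf24) (kf xf23 yf35 zf23) (kf xf30 yf12 zf14) (kf xf29 yf31 zf39)) (@D3.rec (fun _ => Pt) (kf xf26 yf11 zf59) (kf xf26 yf8 zf53) (kf xf20 yf13 zf29) (kf xf26 yf48 zf58) (kf xf20 yf24 zf23) (kf xf31 yf59 zf26) (kf xf20 yf13 zf36) (kf xf23 yf26 zf39) (kf xf30 yf9 zf16) (kf xf29 yf52 zf23) (kf xf25 yf25 zf22) (kf xf23 yf25 zf36) (kf xf20 yf17 zf6) (kf xf30 yf12 zf33) (kf xf20 yf15 zf19) (kf xf20 yf15 zf25) (kf xf32 yf8 zf20) (kf xf32 yf28 zf26) (kf xf21 yf59 zf22) (kf xf20 yf14 zf30) (kf xf22 yf56 zf49) (kf xf22 yf56 zf59) (kf xf20 yf15 zf43) (kf xf20 yf16 zf32) (kf xf21 yf47 zf7) (kf xf20 yf16 zf50) (kf xf20 yf48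 zf31) (kf xf20 yf15 zf3) (kf xf25 yf12 zf26) (kf xf26 yf44 zf22) (kf xf20 yf14 zf61) (kf xf20 yf15 zf0) (kf xf20 yf19 zf33) (kf xf27 yf36 zf11) (kf xf21 yf31 zf34) (kf xf27 yf43 zf34) (kf xf29 yf21 zf56) (kf xf30 yf7 zf37) (kf xf21 yf47 zf11) (kf xf29 yf6 zf45) (kf xf32 yf16 zf39) (kf xf21 yf33 zf32) (kf xf20 yf15 zf31) (kf xf24 yf19 zf45) (kf xf24 yf18 zf0) (kf xf20 yf15 zf33) (kf xf26 yf5 zf56) (kf xf32 yf10 zf29) (kf xf32 yf3 zf13) (kf xf20 yf40 zf52) (kf xf22 yf42 zf28) (kf xf29 yf38 zf33) (kf xf20 yf40 zf50) (kf xf21 yf19 zf40) (kf xf21 yf53 zf60) (kf xf20 yf16 zf9) (kf xf20 yf16 zf10) (kf xf21 yf52 zf20) (kf xf27 yf41 zf25) (kf xf24 yf44 zf58) (kf xf25 yf42 zf37) (kf xf25 yf17 zf38)) (@D3.rec (fun _ => Pt) (kf xf25 yf58 zf12) (kf xf30 yf9 zf20) (kf xf29 yf17 zf2)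 (kf xf23 yf1 zf2) (kf xf28 yf41 zf31) (kf xf29 yf59 zf59) (kf xf32 yf24 zf18) (kf xf29 yf25 zf37) (kf xf30 yf8 zf27) (kf xf24 yf39 zf12) (kf xf32 yf15 zf12) (kf xf27 yf37 zf26) (kf xf24 yf25 zf14) (kf xf21 yf47 zf32) (kf xf30 yf29 zf32) (kf xf24 yf17 zf56) (kf xf27 yf40 zf61) (kf xf22 yf45 zf5) (kf xf23 yf49 zf47) (kf xf29 yf31 zf54) (kf xf31 yf24 zf18) (kf xf22 yf23 zf10) (kf xf29 yf30 zf32) (kf xf29 yf29 zf25) (kf xf21 yf32 zf32) (kf xf30 yf56 zf48) (kf xf29 yf51 zf49) (kf xf30 yf55 zf47) (kf xf30 yf3 zf54) (kf xf22 yf10 zf8) (kf xf22 yf2 zf17) (kf xf29 yf4 zf34) (kf xf25 yf23 zf34) (kf xf29 yf28 zf7) (kf xf29 yf48 zf40) (kf xf26 yf42 zf30) (kf xf20 yf49 zf40) (kf xf20 yf49 zf41) (kf xf29 yf13 zf12) (kf xf20 yf49 zf33) (kf xf20 yf17 zf56) (kf xf27 yf14 zf32) (kf xf20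 yf53 zf7) (kf xf20 yf49 zf61) (kf xf20 yf50 zf0) (kf xf20 yf50 zf1) (kf xf20 yf50 zf2) (kf xf21 yf36 zf56) (kf xf25 yf59 zf12) (kf xf20 yf50 zf15) (kf xf20 yf50 zf17) (kf xf20 yf50 zf19) (kf xf20 yf50 zf29) (kf xf20 yf50 zf32) (kf xf20 yf18 zf10) (kf xf22 yf46 zf21) (kf xf20 yf34 zf2) (kf xf27 yf42 zf24) (kf xf21 yf11 zf13) (kf xf20 yf18 zf31) (kf xf21 yf38 zf9) (kf xf31 yf32 zf47)) (@D3.rec (fun _ => Pt) (kf xf30 yf54 zf14) (kf xf26 yf23 zf16) (kf xf26 yf48 zf43) (kf xf20 yf18 zf23) (kf xf29 yf19 zf15) (kf xf20 yf18 zf26) (kf xf29 yf24 zf12) (kf xf29 yf7 zf58) (kf xf28 yf26 zf20) (kf xf24 yf5 zf32) (kf xf30 yf58 zf25) (kf xf31 yf0 zf11) (kf xf29 yf24 zf6) (kf xf25 yf18 zf24) (kf xf26 yf57 zf38) (kf xf26 yf48 zf49) (kf xf25 yf16 zf7) (kf xf23 yf18 zf8) (kf xf27 yf26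 zf30) (kf xf29 yf20 zf15) (kf xf28 yf53 zf34) (kf xf29 yf20 zf39) (kf xf24 yf12 zf17) (kf xf29 yf21 zf29) (kf xf32 yf44 zf23) (kf xf20 yf19 zf4) (kf xf29 yf20 zf44) (kf xf22 yf16 zf40) (kf xf30 yf8 zf10) (kf xf27 yf3 zf32) (kf xf27 yf7 zf59) (kf xf22 yf47 zf32) (kf xf24 yf56 zf56) (kf xf27 yf41 zf21) (kf xf31 yf25 zf55) (kf xf27 yf12 zf18) (kf xf29 yf27 zf7) (kf xf23 yf53 zf33) (kf xf26 yf26 zf53) (kf xf29 yf30 zf60) (kf xf28 yf28 zf51) (kf xf29 yf56 zf7) (kf xf22 yf36 zf4) (kf xf21 yf44 zf12) (kf xf20 yf38 zf26) (kf xf22 yf40 zf50) (kf xf30 yf30 zf40) (kf xf24 yf52 zf61) (kf xf29 yf43 zf29) (kf xf31 yf36 zf48) (kf xf20 yf53 zf53) (kf xf32 yf25 zf61) (kf xf29 yf20 zf41) (kf xf29 yf20 zf42) (kf xf29 yf20 zf43) (kf xf20 yf20 zf59) (kf xf29 yf28 zf43) (kf xf20 yf21 zf2)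 (kf xf28 yf46 zf25) (kf xf29 yf54 zf25) (kf xf32 yf30 zf9) (kf xf26 yf31 zf28)) (@D3.rec (fun _ => Pt) (kf xf32 yf9 zf44) (kf xf20 yf21 zf6) (kf xf28 yf4 zf32) (kf xf29 yf54 zf21) (kf xf29 yf25 zf19) (kf xf20 yf21 zf16) (kf xf22 yf49 zf47) (kf xf22 yf49 zf46) (kf xf32 yf10 zf17) (kf xf28 yf4 zf60) (kf xf20 yf21 zf23) (kf xf24 yf55 zf2) (kf xf32 yf25 zf33) (kf xf20 yf21 zf22) (kf xf27 yf50 zf19) (kf xf29 yf54 zf17) (kf xf27 yf50 zf4) (kf xf28 yf8 zf61) (kf xf31 yf45 zf19) (kf xf29 yf25 zf4) (kf xf22 yf17 zf15) (kf xf24 yf57 zf14) (kf xf30 yf30 zf16) (kf xf20 yf21 zf42) (kf xf29 yf19 zf53) (kf xf29 yf21 zf13) (kf xf31 yf16 zf19) (kf xf28 yf23 zf30) (kf xf20 yf21 zf47) (kf xf27 yf12 zf46) (kf xf21 yf21 zf20) (kf xf20 yf47 zf18) (kf xf32 yf44 zf28) (kf xf20 yf21 zf55) (kf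 xf32 yf1 zf10) (kf xf23 yf49 zf19) (kf xf20 yf38 zf0) (kf xf29 yf23 zf7) (kf xf20 yf37 zf61) (kf xf20 yf22 zf47) (kf xf28 yf48 zf6) (kf xf24 yf20 zf19) (kf xf26 yf45 zf37) (kf xf31 yf22 zf33) (kf xf28 yf49 zf11) (kf xf20 yf24 zf39) (kf xf20 yf23 zf5) (kf xf28 yf15 zf42) (kf xf28 yf1 zf24) (kf xf29 yf27 zf37) (kf xf21 yf20 zf58) (kf xf20 yf23 zf46) (kf xf30 yf30 zf21) (kf xf20 yf23 zf54) (kf xf20 yf23 zf50) (kf xf20 yf23 zf51) (kf xf20 yf23 zf57) (kf xf26 yf39 zf52) (kf xf20 yf24 zf44) (kf xf20 yf24 zf19) (kf xf26 yf48 zf57) (kf xf20 yf24 zf12)) (@D3.rec (fun _ => Pt) (kf xf29 yf0 zf43) (kf xf23 yf53 zf53) (kf xf21 yf2 zf56) (kf xf24 yf18 zf42) (kf xf32 yf24 zf19) (kf xf26 yf52 zf9) (kf xf22 yf33 zf34) (kf xf31 yf20 zf33) (kf xf32 yf30 zf53) (kf xf31 yf29 zf17) (kf xf32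 yf37 zf42) (kf xf31 yf29 zf18) (kf xf24 yf22 zf49) (kf xf29 yf26 zf34) (kf xf31 yf31 zf49) (kf xf32 yf21 zf44) (kf xf32 yf13 zf46) (kf xf20 yf48 zf53) (kf xf32 yf44 zf30) (kf xf24 yf2 zf50) (kf xf30 yf29 zf50) (kf xf24 yf12 zf2) (kf xf30 yf28 zf3) (kf xf20 yf38 zf44) (kf xf31 yf29 zf21) (kf xf26 yf40 zf2) (kf xf26 yf40 zf10) (kf xf31 yf48 zf56) (kf xf31 yf27 zf10) (kf xf32 yf44 zf36) (kf xf20 yf23 zf58) (kf xf20 yf38 zf39) (kf xf29 yf44 zf37) (kf xf26 yf39 zf2) (kf xf29 yf26 zf13) (kf xf26 yf51 zf46) (kf xf23 yf22 zf49) (kf xf27 yf41 zf20) (kf xf27 yf41 zf24) (kf xf20 yf24 zf46) (kf xf26 yf26 zf25) (kf xf29 yf44 zf40) (kf xf26 yf27 zf59) (kf xf29 yf7 zf20) (kf xf30 yf33 zf44) (kf xf29 yf11 zf50) (kf xf24 yf21 zf0) (kf xf31 yf2 zf52) (kf xf30 yf2 zf56) (kf xf31 yf2 zf59)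 (kf xf30 yf2 zf46) (kf xf32 yf27 zf47) (kf xf20 yf24 zf55) (kf xf29 yf58 zf15) (kf xf20 yf24 zf57) (kf xf32 yf27 zf44) (kf xf30 yf3 zf57) (kf xf23 yf13 zf3) (kf xf23 yf8 zf55) (kf xf22 yf23 zf25) (kf xf20 yf42 zf41) (kf xf24 yf15 zf45)) (@D3.rec (fun _ => Pt) (kf xf22 yf46 zf42) (kf xf29 yf8 zf52) (kf xf26 yf51 zf9) (kf xf29 yf8 zf14) (kf xf23 yf12 zf7) (kf xf24 yf6 zf59) (kf xf28 yf56 zf22) (kf xf29 yf24 zf36) (kf xf24 yf14 zf34) (kf xf27 yf5 zf25) (kf xf24 yf30 zf39) (kf xf29 yf9 zf8) (kf xf26 yf31 zf32) (kf xf26 yf7 zf5) (kf xf30 yf14 zf8) (kf xf29 yf15 zf13) (kf xf26 yf54 zf42) (kf xf32 yf44 zf43) (kf xf29 yf41 zf36) (kf xf30 yf27 zf15) (kf xf31 yf50 zf15) (kf xf31 yf21 zf18) (kf xf31 yf51 zf55) (kf xf32 yf17 zf22) (kf xf30 yf27 zf1) (kf xf31 yf34 zf24) (kf xf31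 yf40 zf35) (kf xf29 yf15 zf21) (kf xf30 yf27 zf13) (kf xf32 yf44 zf47) (kf xf26 yf54 zf40) (kf xf32 yf44 zf49) (kf xf31 yf51 zf57) (kf xf20 yf26 zf45) (kf xf28 yf58 zf17) (kf xf30 yf55 zf51) (kf xf29 yf0 zf1) (kf xf29 yf25 zf49) (kf xf24 yf53 zf17) (kf xf24 yf12 zf31) (kf xf24 yf12 zf40) (kf xf28 yf33 zf46) (kf xf29 yf20 zf35) (kf xf32 yf26 zf9) (kf xf26 yf13 zf1) (kf xf28 yf25 zf12) (kf xf27 yf48 zf33) (kf xf23 yf30 zf42) (kf xf26 yf57 zf13) (kf xf26 yf57 zf16) (kf xf23 yf45 zf41) (kf xf23 yf11 zf17) (kf xf20 yf39 zf8) (kf xf20 yf39 zf7) (kf xf20 yf39 zf9) (kf xf28 yf48 zf8) (kf xf29 yf21 zf53) (kf xf28 yf47 zf48) (kf xf24 yf23 zf44) (kf xf23 yf53 zf20) (kf xf26 yf45 zf3) (kf xf29 yf56 zf36)) (@D3.rec (fun _ => Pt) (kf xf26 yf24 zf35) (kf xf20 yf52 zf58) (kf xf20 yf52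 zf57) (kf xf29 yf29 zf2) (kf xf23 yf48 zf19) (kf xf22 yf59 zf17) (kf xf23 yf48 zf18) (kf xf29 yf23 zf33) (kf xf25 yf59 zf0) (kf xf23 yf36 zf31) (kf xf26 yf43 zf36) (kf xf26 yf44 zf12) (kf xf27 yf15 zf52) (kf xf22 yf54 zf59) (kf xf21 yf58 zf8) (kf xf22 yf52 zf53) (kf xf24 yf38 zf8) (kf xf30 yf11 zf23) (kf xf30 yf47 zf15) (kf xf21 yf11 zf9) (kf xf27 yf39 zf24) (kf xf32 yf19 zf56) (kf xf24 yf12 zf45) (kf xf28 yf34 zf45) (kf xf28 yf34 zf51) (kf xf32 yf8 zf47) (kf xf28 yf14 zf30) (kf xf22 yf17 zf18) (kf xf31 yf23 zf18) (kf xf20 yf29 zf32) (kf xf31 yf44 zf7) (kf xf20 yf29 zf33) (kf xf31 yf44 zf5) (kf xf25 yf1 zf54) (kf xf30 yf48 zf19) (kf xf32 yf8 zf40) (kf xf31 yf38 zf44) (kf xf30 yf46 zf14) (kf xf27 yf13 zf16) (kf xf32 yf44 zf55) (kf xf20 yf29 zf38) (kf xf29 yf0 zf22) (kf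 xf30 yf33 zf56) (kf xf29 yf24 zf56) (kf xf21 yf13 zf22) (kf xf31 yf44 zf6) (kf xf29 yf6 zf31) (kf xf22 yf27 zf27) (kf xf26 yf39 zf9) (kf xf29 yf19 zf18) (kf xf25 yf16 zf11) (kf xf29 yf39 zf49) (kf xf30 yf30 zf27) (kf xf26 yf4 zf5) (kf xf27 yf8 zf15) (kf xf28 yf47 zf42) (kf xf27 yf8 zf18) (kf xf29 yf36 zf29) (kf xf20 yf30 zf9) (kf xf29 yf29 zf30) (kf xf30 yf44 zf10) (kf xf29 yf29 zf0)) (@D3.rec (fun _ => Pt) (kf xf29 yf28 zf61) (kf xf27 yf5 zf31) (kf xf29 yf28 zf3) (kf xf29 yf19 zf27) (kf xf31 yf50 zf24) (kf xf20 yf30 zf20) (kf xf20 yf30 zf21) (kf xf20 yf52 zf49) (kf xf29 yf1 zf49) (kf xf29 yf1 zf50) (kf xf24 yf10 zf38) (kf xf29 yf7 zf15) (kf xf23 yf8 zf54) (kf xf23 yf15 zf3) (kf xf23 yf15 zf4) (kf xf21 yf52 zf10) (kf xf20 yf31 zf39) (kf xf20 yf32 zf18) (kf xf24 yf59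 zf40) (kf xf24 yf59 zf43) (kf xf20 yf32 zf51) (kf xf27 yf13 zf6) (kf xf20 yf33 zf8) (kf xf20 yf33 zf29) (kf xf30 yf50 zf39) (kf xf29 yf23 zf23) (kf xf22 yf16 zf43) (kf xf24 yf9 zf7) (kf xf29 yf8 zf47) (kf xf29 yf2 zf58) (kf xf29 yf28 zf59) (kf xf32 yf18 zf13) (kf xf32 yf37 zf0) (kf xf20 yf31 zf19) (kf xf29 yf19 zf21) (kf xf26 yf31 zf10) (kf xf26 yf31 zf9) (kf xf20 yf31 zf26) (kf xf32 yf18 zf8) (kf xf22 yf3 zf7) (kf xf28 yf15 zf2) (kf xf32 yf4 zf16) (kf xf23 yf20 zf45) (kf xf30 yf42 zf49) (kf xf29 yf54 zf38) (kf xf30 yf39 zf57) (kf xf22 yf30 zf51) (kf xf30 yf34 zf60) (kf xf30 yf55 zf27) (kf xf20 yf31 zf48) (kf xf24 yf25 zf27) (kf xf27 yf1 zf18) (kf xf20 yf31 zf54) (kf xf29 yf18 zf59) (kf xf31 yf43 zf60) (kf xf25 yf1 zf21) (kf xf32 yf42 zf47) (kf xf29 yf49 zf59) (kf xf20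 yf32 zf13) (kf xf23 yf15 zf42) (kf xf23 yf33 zf42) (kf xf20 yf32 zf53)) (@D3.rec (fun _ => Pt) (kf xf21 yf6 zf43) (kf xf20 yf32 zf22) (kf xf25 yf16 zf0) (kf xf20 yf32 zf24) (kf xf31 yf33 zf48) (kf xf21 yf2 zf37) (kf xf27 yf5 zf34) (kf xf20 yf32 zf36) (kf xf23 yf15 zf41) (kf xf23 yf15 zf50) (kf xf30 yf55 zf39) (kf xf20 yf33 zf7) (kf xf30 yf33 zf49) (kf xf23 yf52 zf24) (kf xf20 yf33 zf9) (kf xf21 yf13 zf35) (kf xf23 yf12 zf18) (kf xf30 yf50 zf38) (kf xf29 yf39 zf22) (kf xf24 yf10 zf58) (kf xf22 yf25 zf56) (kf xf32 yf45 zf1) (kf xf20 yf33 zf19) (kf xf31 yf30 zf38) (kf xf23 yf52 zf34) (kf xf21 yf6 zf23) (kf xf30 yf53 zf50) (kf xf28 yf50 zf5) (kf xf20 yf33 zf31) (kf xf26 yf46 zf52) (kf xf23 yf0 zf3) (kf xf29 yf35 zf40) (kf xf29 yf23 zf22) (kf xf31 yf22 zf28) (kf xf20 yf33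 zf47) (kf xf27 yf39 zf21) (kf xf24 yf2 zf43) (kf xf28 yf23 zf41) (kf xf32 yf18 zf30) (kf xf28 yf25 zf18) (kf xf31 yf14 zf0) (kf xf20 yf33 zf55) (kf xf28 yf23 zf23) (kf xf30 yf49 zf55) (kf xf23 yf54 zf1) (kf xf30 yf49 zf57) (kf xf28 yf23 zf46) (kf xf23 yf9 zf22) (kf xf30 yf47 zf16) (kf xf30 yf47 zf25) (kf xf20 yf34 zf5) (kf xf29 yf34 zf57) (kf xf28 yf23 zf44) (kf xf32 yf27 zf61) (kf xf23 yf11 zf47) (kf xf32 yf15 zf43) (kf xf22 yf37 zf1) (kf xf21 yf44 zf19) (kf xf31 yf14 zf55) (kf xf21 yf44 zf21) (kf xf29 yf24 zf39) (kf xf27 yf43 zf0)) (@D3.rec (fun _ => Pt) (kf xf27 yf58 zf29) (kf xf28 yf0 zf40) (kf xf30 yf2 zf32) (kf xf22 yf45 zf37) (kf xf25 yf56 zf17) (kf xf20 yf36 zf31) (kf xf20 yf36 zf28) (kf xf20 yf36 zf37) (kf xf20 yf58 zf2) (kf xf20 yf36 zf51) (kf xf20 yf37 zf10)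 (kf xf24 yf8 zf38) (kf xf20 yf35 zf9) (kf xf20 yf37 zf3) (kf xf20 yf37 zf17) (kf xf20 yf37 zf18) (kf xf20 yf37 zf15) (kf xf20 yf39 zf38) (kf xf32 yf19 zf14) (kf xf20 yf37 zf59) (kf xf20 yf38 zf23) (kf xf24 yf1 zf34) (kf xf32 yf37 zf50) (kf xf20 yf39 zf18) (kf xf32 yf14 zf35) (kf xf20 yf39 zf29) (kf xf20 yf39 zf30) (kf xf20 yf39 zf32) (kf xf22 yf23 zf61) (kf xf20 yf39 zf22) (kf xf31 yf35 zf1) (kf xf32 yf11 zf4) (kf xf31 yf21 zf46) (kf xf32 yf12 zf37) (kf xf32 yf39 zf26) (kf xf20 yf39 zf34) (kf xf32 yf45 zf10) (kf xf20 yf39 zf41) (kf xf20 yf35 zf44) (kf xf29 yf21 zf61) (kf xf27 yf36 zf7) (kf xf31 yf43 zf33) (kf xf26 yf30 zf4) (kf xf29 yf20 zf4) (kf xf28 yf13 zf7) (kf xf28 yf13 zf8) (kf xf31 yf14 zf32) (kf xf21 yf44 zf30) (kf xf26 yf21 zf53) (kf xf20 yf36 zf17) (kf xf22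 yf3 zf8) (kf xf21 yf44 zf27) (kf xf25 yf54 zf55) (kf xf20 yf36 zf20) (kf xf29 yf23 zf19) (kf xf25 yf47 zf31) (kf xf28 yf0 zf14) (kf xf32 yf13 zf27) (kf xf32 yf45 zf3) (kf xf22 yf50 zf56) (kf xf29 yf21 zf7) (kf xf32 yf2 zf6)) (@D3.rec (fun _ => Pt) (kf xf28 yf25 zf27) (kf xf29 yf14 zf57) (kf xf30 yf50 zf56) (kf xf29 yf43 zf11) (kf xf27 yf9 zf49) (kf xf26 yf27 zf54) (kf xf26 yf27 zf48) (kf xf26 yf27 zf49) (kf xf24 yf8 zf17) (kf xf24 yf8 zf24) (kf xf29 yf1 zf5) (kf xf28 yf39 zf2) (kf xf22 yf56 zf18) (kf xf26 yf26 zf45) (kf xf26 yf27 zf41) (kf xf32 yf45 zf15) (kf xf26 yf27 zf33) (kf xf24 yf8 zf15) (kf xf32 yf40 zf55) (kf xf20 yf36 zf52) (kf xf30 yf51 zf33) (kf xf30 yf48 zf55) (kf xf31 yf19 zf34) (kf xf21 yf39 zf42) (kf xf26 yf27 zf40) (kf xf24 yf29 zf50) (kf xf24 yf8 zf40)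 (kf xf32 yf22 zf44) (kf xf22 yf1 zf42) (kf xf26 yf17 zf41) (kf xf31 yf25 zf23) (kf xf31 yf33 zf29) (kf xf22 yf26 zf2) (kf xf29 yf39 zf44) (kf xf30 yf50 zf58) (kf xf29 yf42 zf14) (kf xf20 yf37 zf24) (kf xf29 yf53 zf18) (kf xf28 yf10 zf58) (kf xf27 yf4 zf56) (kf xf28 yf49 zf47) (kf xf24 yf52 zf49) (kf xf24 yf19 zf6) (kf xf31 yf50 zf12) (kf xf29 yf42 zf25) (kf xf32 yf45 zf20) (kf xf20 yf37 zf45) (kf xf27 yf43 zf38) (kf xf27 yf4 zf35) (kf xf27 yf20 zf26) (kf xf31 yf28 zf46) (kf xf27 yf20 zf39) (kf xf21 yf34 zf57) (kf xf29 yf51 zf57) (kf xf23 yf50 zf58) (kf xf26 yf40 zf13) (kf xf26 yf48 zf34) (kf xf26 yf46 zf21) (kf xf26 yf33 zf24) (kf xf26 yf46 zf24) (kf xf26 yf46 zf23) (kf xf27 yf31 zf12)) (@D3.rec (fun _ => Pt) (kf xf21 yf47 zf10) (kf xf26 yf38 zf44) (kf xf24 yf26 zf47)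 (kf xf30 yf29 zf46) (kf xf31 yf26 zf12) (kf xf20 yf39 zf4) (kf xf28 yf55 zf52) (kf xf32 yf14 zf40) (kf xf32 yf13 zf42) (kf xf32 yf37 zf41) (kf xf28 yf34 zf24) (kf xf32 yf37 zf49) (kf xf28 yf55 zf43) (kf xf28 yf55 zf42) (kf xf28 yf40 zf19) (kf xf25 yf32 zf17) (kf xf29 yf33 zf49) (kf xf26 yf36 zf17) (kf xf32 yf12 zf17) (kf xf27 yf16 zf10) (kf xf32 yf12 zf16) (kf xf32 yf18 zf40) (kf xf30 yf28 zf54) (kf xf20 yf56 zf54) (kf xf20 yf38 zf58) (kf xf32 yf17 zf8) (kf xf32 yf17 zf7) (kf xf30 yf28 zf53) (kf xf20 yf38 zf59) (kf xf26 yf38 zf50) (kf xf32 yf11 zf50) (kf xf32 yf11 zf49) (kf xf32 yf12 zf50) (kf xf32 yf17 zf3) (kf xf22 yf25 zf39) (kf xf20 yf39 zf0) (kf xf30 yf16 zf19) (kf xf32 yf17 zf2) (kf xf32 yf24 zf1) (kf xf28 yf39 zf4) (kf xf32 yf13 zf10) (kf xf26 yf35 zf15) (kf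 xf29 yf40 zf32) (kf xf32 yf14 zf34) (kf xf27 yf0 zf24) (kf xf31 yf14 zf1) (kf xf27 yf0 zf30) (kf xf24 yf29 zf42) (kf xf32 yf12 zf15) (kf xf29 yf33 zf16) (kf xf32 yf45 zf4) (kf xf32 yf45 zf45) (kf xf32 yf21 zf42) (kf xf20 yf39 zf19) (kf xf31 yf34 zf61) (kf xf31 yf34 zf30) (kf xf32 yf13 zf59) (kf xf31 yf34 zf11) (kf xf32 yf14 zf31) (kf xf27 yf0 zf13) (kf xf20 yf44 zf17) (kf xf27 yf13 zf52)) (@D3.rec (fun _ => Pt) (kf xf31 yf21 zf47) (kf xf28 yf35 zf10) (kf xf29 yf46 zf36) (kf xf29 yf47 zf15) (kf xf29 yf47 zf33) (kf xf32 yf45 zf5) (kf xf32 yf45 zf6) (kf xf28 yf54 zf23) (kf xf32 yf14 zf10) (kf xf27 yf14 zf48) (kf xf20 yf39 zf33) (kf xf31 yf35 zf4) (kf xf31 yf34 zf7) (kf xf32 yf14 zf16) (kf xf29 yf46 zf32) (kf xf20 yf39 zf35) (kf xf28 yf54 zf45) (kf xf28 yf39 zf0) (kf xf28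 yf54 zf43) (kf xf32 yf45 zf9) (kf xf22 yf25 zf19) (kf xf31 yf55 zf44) (kf xf20 yf39 zf37) (kf xf25 yf32 zf31) (kf xf28 yf51 zf6) (kf xf27 yf16 zf12) (kf xf28 yf39 zf24) (kf xf20 yf39 zf39) (kf xf31 yf19 zf22) (kf xf29 yf44 zf42) (kf xf32 yf37 zf35) (kf xf20 yf39 zf43) (kf xf32 yf11 zf20) (kf xf29 yf47 zf34) (kf xf26 yf46 zf37) (kf xf30 yf17 zf27) (kf xf20 yf41 zf30) (kf xf20 yf41 zf31) (kf xf20 yf43 zf16) (kf xf22 yf13 zf38) (kf xf30 yf50 zf50) (kf xf22 yf13 zf39) (kf xf22 yf13 zf37) (kf xf22 yf20 zf21) (kf xf26 yf2 zf27) (kf xf31 yf36 zf39) (kf xf27 yf44 zf5) (kf xf31 yf9 zf57) (kf xf24 yf3 zf27) (kf xf29 yf46 zf34) (kf xf25 yf31 zf58) (kf xf30 yf53 zf57) (kf xf26 yf42 zf14) (kf xf20 yf50 zf39) (kf xf20 yf40 zf14) (kf xf27 yf43 zf17) (kf xf27 yf22 zf15) (kf xf29 yf30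 zf51) (kf xf24 yf14 zf19) (kf xf24 yf15 zf58) (kf xf21 yf3 zf35) (kf xf20 yf40 zf39)) (@D3.rec (fun _ => Pt) (kf xf24 yf15 zf60) (kf xf22 yf21 zf27) (kf xf26 yf50 zf59) (kf xf31 yf14 zf10) (kf xf22 yf42 zf31) (kf xf29 yf38 zf36) (kf xf28 yf37 zf23) (kf xf22 yf16 zf38) (kf xf23 yf52 zf39) (kf xf28 yf42 zf58) (kf xf30 yf11 zf1) (kf xf23 yf22 zf6) (kf xf20 yf42 zf51) (kf xf29 yf21 zf9) (kf xf20 yf42 zf48) (kf xf20 yf42 zf53) (kf xf20 yf42 zf52) (kf xf30 yf22 zf31) (kf xf20 yf43 zf0) (kf xf20 yf42 zf57) (kf xf20 yf43 zf2) (kf xf22 yf14 zf16) (kf xf20 yf43 zf6) (kf xf32 yf17 zf31) (kf xf20 yf43 zf9) (kf xf30 yf23 zf44) (kf xf20 yf43 zf24) (kf xf31 yf36 zf44) (kf xf24 yf36 zf56) (kf xf20 yf43 zf28) (kf xf20 yf43 zf49) (kf xf24 yf52 zf2) (kf xf24 yf51 zf61) (kf xf20 yf41 zf40)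 (kf xf29 yf14 zf11) (kf xf29 yf14 zf10) (kf xf29 yf14 zf21) (kf xf32 yf3 zf24) (kf xf23 yf52 zf46) (kf xf30 yf50 zf34) (kf xf29 yf30 zf31) (kf xf22 yf29 zf51) (kf xf30 yf21 zf40) (kf xf30 yf45 zf3) (kf xf23 yf48 zf47) (kf xf26 yf53 zf57) (kf xf26 yf54 zf6) (kf xf32 yf38 zf18) (kf xf26 yf53 zf59) (kf xf26 yf53 zf51) (kf xf28 yf38 zf44) (kf xf26 yf53 zf50) (kf xf28 yf35 zf4) (kf xf20 yf41 zf57) (kf xf30 yf50 zf35) (kf xf26 yf54 zf13) (kf xf26 yf54 zf14) (kf xf26 yf54 zf11) (kf xf31 yf55 zf58) (kf xf29 yf13 zf29) (kf xf25 yf35 zf1) (kf xf31 yf47 zf45)) (@D3.rec (fun _ => Pt) (kf xf20 yf42 zf3) (kf xf26 yf54 zf2) (kf xf28 yf30 zf56) (kf xf20 yf42 zf4) (kf xf20 yf42 zf16) (kf xf25 yf23 zf33) (kf xf27 yf21 zf38) (kf xf32 yf36 zf34) (kf xf32 yf41 zf35) (kf xf32 yf25 zf23)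 (kf xf32 yf46 zf2) (kf xf32 yf46 zf1) (kf xf32 yf46 zf10) (kf xf32 yf46 zf12) (kf xf20 yf42 zf11) (kf xf25 yf27 zf61) (kf xf25 yf21 zf17) (kf xf32 yf46 zf16) (kf xf32 yf11 zf0) (kf xf20 yf42 zf15) (kf xf30 yf8 zf19) (kf xf30 yf8 zf41) (kf xf24 yf17 zf48) (kf xf27 yf18 zf48) (kf xf29 yf37 zf22) (kf xf28 yf58 zf54) (kf xf29 yf41 zf27) (kf xf29 yf41 zf26) (kf xf23 yf48 zf46) (kf xf29 yf28 zf57) (kf xf30 yf22 zf34) (kf xf32 yf40 zf6) (kf xf23 yf14 zf45) (kf xf32 yf16 zf43) (kf xf23 yf13 zf20) (kf xf30 yf22 zf52) (kf xf30 yf30 zf38) (kf xf29 yf36 zf38) (kf xf29 yf36 zf37) (kf xf24 yf57 zf15) (kf xf26 yf52 zf17) (kf xf21 yf47 zf12) (kf xf30 yf22 zf33) (kf xf29 yf36 zf56) (kf xf32 yf37 zf5) (kf xf20 yf42 zf54) (kf xf31 yf13 zf13) (kf xf30 yf23 zf0) (kf xf22 yf14 zf30) (kf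 xf22 yf14 zf31) (kf xf22 yf12 zf42) (kf xf22 yf26 zf52) (kf xf20 yf42 zf60) (kf xf28 yf43 zf28) (kf xf22 yf14 zf15) (kf xf28 yf37 zf51) (kf xf29 yf36 zf43) (kf xf30 yf30 zf46) (kf xf32 yf27 zf7) (kf xf31 yf21 zf32) (kf xf28 yf47 zf15) (kf xf20 yf43 zf8)) (@D3.rec (fun _ => Pt) (kf xf31 yf26 zf46) (kf xf30 yf22 zf41) (kf xf28 yf33 zf10) (kf xf32 yf46 zf22) (kf xf24 yf9 zf6) (kf xf20 yf43 zf11) (kf xf32 yf20 zf42) (kf xf22 yf13 zf27) (kf xf32 yf9 zf7) (kf xf24 yf36 zf52) (kf xf24 yf14 zf22) (kf xf24 yf26 zf9) (kf xf24 yf37 zf0) (kf xf30 yf51 zf35) (kf xf23 yf0 zf56) (kf xf25 yf35 zf21) (kf xf22 yf54 zf57) (kf xf25 yf30 zf5) (kf xf32 yf1 zf60) (kf xf20 yf43 zf35) (kf xf29 yf7 zf3) (kf xf31 yf35 zf30) (kf xf29 yf36 zf24) (kf xf25 yf5 zf39) (kf xf27 yf40 zf25) (kf xf30 yf53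 zf45) (kf xf25 yf12 zf5) (kf xf31 yf49 zf22) (kf xf32 yf0 zf33) (kf xf32 yf0 zf34) (kf xf24 yf37 zf37) (kf xf24 yf35 zf29) (kf xf25 yf8 zf2) (kf xf31 yf56 zf59) (kf xf22 yf59 zf36) (kf xf29 yf41 zf21) (kf xf31 yf12 zf58) (kf xf20 yf43 zf55) (kf xf29 yf42 zf19) (kf xf29 yf42 zf13) (kf xf27 yf15 zf53) (kf xf32 yf6 zf16) (kf xf20 yf43 zf61) (kf xf29 yf41 zf19) (kf xf29 yf41 zf20) (kf xf22 yf54 zf56) (kf xf25 yf35 zf26) (kf xf25 yf35 zf27) (kf xf21 yf57 zf11) (kf xf25 yf27 zf57) (kf xf27 yf13 zf50) (kf xf25 yf17 zf33) (kf xf27 yf13 zf48) (kf xf26 yf50 zf45) (kf xf27 yf13 zf51) (kf xf27 yf0 zf15) (kf xf20 yf44 zf10) (kf xf20 yf56 zf28) (kf xf30 yf35 zf9) (kf xf32 yf20 zf55) (kf xf32 yf20 zf56) (kf xf32 yf20 zf58)) (@D3.rec (fun _ => Pt) (kf xf32 yf20 zf57) (kf xf28 yf51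 zf8) (kf xf20 yf58 zf29) (kf xf20 yf47 zf45) (kf xf30 yf29 zf44) (kf xf20 yf47 zf37) (kf xf20 yf47 zf50) (kf xf20 yf47 zf48) (kf xf22 yf24 zf27) (kf xf20 yf48 zf11) (kf xf20 yf48 zf12) (kf xf22 yf13 zf59) (kf xf20 yf48 zf20) (kf xf20 yf48 zf22) (kf xf20 yf48 zf26) (kf xf20 yf46 zf4) (kf xf20 yf48 zf49) (kf xf22 yf5 zf52) (kf xf29 yf49 zf19) (kf xf20 yf44 zf61) (kf xf28 yf47 zf54) (kf xf27 yf41 zf56) (kf xf22 yf48 zf26) (kf xf27 yf15 zf29) (kf xf20 yf45 zf24) (kf xf20 yf45 zf14) (kf xf32 yf46 zf33) (kf xf23 yf47 zf28) (kf xf23 yf49 zf40) (kf xf27 yf56 zf26) (kf xf30 yf43 zf35) (kf xf22 yf12 zf55) (kf xf22 yf20 zf45) (kf xf29 yf22 zf51) (kf xf29 yf19 zf0) (kf xf29 yf19 zf39) (kf xf29 yf35 zf5) (kf xf20 yf45 zf34) (kf xf32 yf35 zf47) (kf xf20 yf45 zf36) (kf xf23 yf50 zf57)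 (kf xf28 yf6 zf36) (kf xf30 yf14 zf23) (kf xf23 yf22 zf3) (kf xf32 yf21 zf57) (kf xf26 yf14 zf13) (kf xf27 yf28 zf60) (kf xf20 yf45 zf45) (kf xf30 yf24 zf56) (kf xf29 yf2 zf31) (kf xf24 yf54 zf14) (kf xf24 yf56 zf61) (kf xf27 yf7 zf19) (kf xf31 yf15 zf52) (kf xf20 yf45 zf60) (kf xf27 yf11 zf52) (kf xf22 yf14 zf32) (kf xf29 yf21 zf10) (kf xf30 yf9 zf7) (kf xf29 yf13 zf26) (kf xf31 yf21 zf33) (kf xf30 yf9 zf4)) (@D3.rec (fun _ => Pt) (kf xf29 yf1 zf20) (kf xf24 yf39 zf48) (kf xf20 yf46 zf19) (kf xf28 yf31 zf3) (kf xf30 yf25 zf5) (kf xf26 yf40 zf37) (kf xf20 yf46 zf34) (kf xf31 yf32 zf34) (kf xf26 yf51 zf6) (kf xf31 yf0 zf27) (kf xf20 yf46 zf40) (kf xf28 yf16 zf22) (kf xf20 yf46 zf44) (kf xf20 yf46 zf45) (kf xf23 yf22 zf2) (kf xf30 yf19 zf40) (kf xf32 yf6 zf19) (kf xf32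 yf28 zf36) (kf xf27 yf31 zf54) (kf xf22 yf32 zf16) (kf xf29 yf7 zf46) (kf xf20 yf46 zf60) (kf xf29 yf30 zf18) (kf xf24 yf10 zf60) (kf xf32 yf14 zf43) (kf xf27 yf10 zf47) (kf xf22 yf36 zf50) (kf xf28 yf51 zf61) (kf xf30 yf22 zf39) (kf xf29 yf50 zf12) (kf xf23 yf13 zf19) (kf xf29 yf45 zf44) (kf xf23 yf13 zf18) (kf xf31 yf43 zf18) (kf xf22 yf59 zf56) (kf xf32 yf19 zf61) (kf xf28 yf3 zf51) (kf xf26 yf30 zf9) (kf xf29 yf20 zf14) (kf xf22 yf35 zf21) (kf xf30 yf38 zf58) (kf xf25 yf39 zf59) (kf xf22 yf19 zf33) (kf xf30 yf52 zf3) (kf xf29 yf32 zf33) (kf xf22 yf26 zf7) (kf xf20 yf47 zf38) (kf xf22 yf59 zf57) (kf xf31 yf43 zf12) (kf xf29 yf28 zf51) (kf xf22 yf19 zf17) (kf xf29 yf40 zf16) (kf xf22 yf26 zf36) (kf xf22 yf26 zf35) (kf xf22 yf19 zf47) (kf xf30 yf25 zf40) (kf xf20 yf47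 zf55) (kf xf20 yf48 zf34) (kf xf22 yf23 zf39) (kf xf22 yf23 zf43) (kf xf22 yf23 zf46) (kf xf22 yf25 zf60)) (@D3.rec (fun _ => Pt) (kf xf22 yf25 zf61) (kf xf22 yf26 zf3) (kf xf22 yf26 zf6) (kf xf31 yf23 zf41) (kf xf30 yf25 zf33) (kf xf23 yf45 zf47) (kf xf22 yf40 zf53) (kf xf24 yf25 zf19) (kf xf31 yf29 zf15) (kf xf28 yf46 zf50) (kf xf27 yf36 zf2) (kf xf29 yf40 zf40) (kf xf27 yf10 zf34) (kf xf20 yf48 zf21) (kf xf32 yf39 zf50) (kf xf32 yf21 zf23) (kf xf29 yf39 zf51) (kf xf22 yf27 zf41) (kf xf23 yf8 zf11) (kf xf20 yf48 zf24) (kf xf32 yf46 zf32) (kf xf26 yf57 zf2) (kf xf30 yf28 zf45) (kf xf24 yf9 zf54) (kf xf22 yf26 zf34) (kf xf20 yf48 zf30) (kf xf20 yf48 zf29) (kf xf28 yf39 zf58) (kf xf32 yf46 zf48) (kf xf20 yf48 zf28) (kf xf28 yf49 zf15) (kf xf32 yf46 zf45) (kf xf29 yf33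 zf42) (kf xf26 yf43 zf54) (kf xf28 yf38 zf2) (kf xf22 yf24 zf19) (kf xf27 yf35 zf39) (kf xf20 yf48 zf40) (kf xf32 yf24 zf14) (kf xf22 yf56 zf46) (kf xf29 yf40 zf11) (kf xf30 yf28 zf40) (kf xf30 yf30 zf11) (kf xf21 yf59 zf46) (kf xf22 yf25 zf45) (kf xf23 yf49 zf13) (kf xf23 yf47 zf22) (kf xf30 yf29 zf29) (kf xf30 yf30 zf12) (kf xf30 yf30 zf13) (kf xf21 yf59 zf41) (kf xf32 yf44 zf33) (kf xf23 yf45 zf44) (kf xf24 yf25 zf12) (kf xf24 yf9 zf5) (kf xf22 yf54 zf58) (kf xf28 yf34 zf53) (kf xf28 yf29 zf16) (kf xf30 yf30 zf4) (kf xf23 yf3 zf56) (kf xf23 yf13 zf0) (kf xf28 yf57 zf2)) (@D3.rec (fun _ => Pt) (kf xf21 yf47 zf29) (kf xf30 yf31 zf61) (kf xf23 yf7 zf3) (kf xf23 yf7 zf10) (kf xf22 yf0 zf57) (kf xf30 yf30 zf31) (kf xf24 yf2 zf2) (kf xf22 yf1 zf11) (kf xf23 yf9 zf43) (kf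 xf22 yf52 zf21) (kf xf25 yf34 zf58) (kf xf28 yf56 zf50) (kf xf20 yf49 zf30) (kf xf31 yf54 zf51) (kf xf23 yf9 zf46) (kf xf31 yf24 zf33) (kf xf29 yf41 zf42) (kf xf29 yf41 zf43) (kf xf31 yf47 zf51) (kf xf29 yf37 zf43) (kf xf29 yf37 zf44) (kf xf29 yf37 zf35) (kf xf24 yf23 zf59) (kf xf32 yf41 zf24) (kf xf29 yf4 zf35) (kf xf20 yf49 zf43) (kf xf29 yf36 zf27) (kf xf29 yf36 zf26) (kf xf23 yf28 zf28) (kf xf23 yf11 zf20) (kf xf31 yf8 zf13) (kf xf31 yf8 zf11) (kf xf31 yf8 zf12) (kf xf20 yf49 zf52) (kf xf25 yf21 zf11) (kf xf25 yf21 zf12) (kf xf29 yf27 zf18) (kf xf29 yf7 zf23) (kf xf22 yf21 zf40) (kf xf31 yf21 zf23) (kf xf31 yf52 zf39) (kf xf28 yf41 zf61) (kf xf29 yf41 zf16) (kf xf29 yf41 zf17) (kf xf32 yf33 zf52) (kf xf32 yf47 zf1) (kf xf20 yf50 zf3) (kf xf27 yf14 zf33) (kf xf29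 yf17 zf39) (kf xf20 yf50 zf4) (kf xf23 yf1 zf48) (kf xf31 yf36 zf6) (kf xf29 yf15 zf24) (kf xf20 yf50 zf6) (kf xf25 yf24 zf48) (kf xf29 yf17 zf0) (kf xf30 yf48 zf3) (kf xf25 yf9 zf60) (kf xf30 yf54 zf59) (kf xf27 yf42 zf41) (kf xf27 yf42 zf43) (kf xf25 yf27 zf42)) (@D3.rec (fun _ => Pt) (kf xf31 yf36 zf1) (kf xf31 yf35 zf61) (kf xf32 yf1 zf57) (kf xf32 yf34 zf42) (kf xf26 yf56 zf52) (kf xf25 yf57 zf37) (kf xf32 yf15 zf35) (kf xf30 yf50 zf49) (kf xf27 yf15 zf10) (kf xf23 yf54 zf47) (kf xf26 yf56 zf30) (kf xf23 yf54 zf44) (kf xf30 yf50 zf46) (kf xf29 yf37 zf39) (kf xf29 yf32 zf35) (kf xf20 yf50 zf33) (kf xf23 yf9 zf19) (kf xf30 yf48 zf7) (kf xf24 yf8 zf52) (kf xf29 yf37 zf38) (kf xf30 yf25 zf12) (kf xf21 yf16 zf11) (kf xf30 yf4 zf7) (kf xf24 yf33 zf8) (kf xf30 yf1 zf42)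 (kf xf29 yf32 zf44) (kf xf21 yf20 zf40) (kf xf31 yf58 zf37) (kf xf21 yf40 zf29) (kf xf28 yf59 zf61) (kf xf26 yf38 zf59) (kf xf28 yf39 zf14) (kf xf27 yf14 zf51) (kf xf27 yf14 zf5) (kf xf21 yf20 zf30) (kf xf28 yf50 zf55) (kf xf21 yf16 zf2) (kf xf32 yf30 zf54) (kf xf32 yf12 zf7) (kf xf26 yf43 zf28) (kf xf26 yf49 zf55) (kf xf20 yf52 zf47) (kf xf24 yf31 zf14) (kf xf24 yf27 zf31) (kf xf20 yf52 zf55) (kf xf28 yf53 zf56) (kf xf28 yf53 zf28) (kf xf32 yf33 zf45) (kf xf20 yf53 zf5) (kf xf28 yf56 zf11) (kf xf28 yf56 zf12) (kf xf27 yf56 zf21) (kf xf30 yf4 zf60) (kf xf26 yf36 zf25) (kf xf31 yf36 zf30) (kf xf23 yf26 zf58) (kf xf30 yf28 zf31) (kf xf31 yf50 zf50) (kf xf29 yf53 zf34) (kf xf30 yf17 zf13) (kf xf30 yf8 zf20) (kf xf23 yf5 zf18)) (@D3.rec (fun _ => Pt) (kf xf28 yf20 zf39)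 (kf xf23 yf5 zf17) (kf xf30 yf54 zf43) (kf xf28 yf57 zf56) (kf xf30 yf54 zf41) (kf xf30 yf54 zf40) (kf xf32 yf34 zf36) (kf xf25 yf58 zf57) (kf xf27 yf20 zf57) (kf xf25 yf8 zf58) (kf xf27 yf0 zf5) (kf xf29 yf32 zf3) (kf xf29 yf15 zf60) (kf xf31 yf48 zf9) (kf xf27 yf46 zf52) (kf xf20 yf53 zf60) (kf xf27 yf0 zf32) (kf xf29 yf48 zf61) (kf xf26 yf34 zf52) (kf xf26 yf35 zf13) (kf xf27 yf0 zf33) (kf xf27 yf0 zf34) (kf xf27 yf0 zf35) (kf xf32 yf46 zf28) (kf xf28 yf40 zf44) (kf xf29 yf49 zf1) (kf xf29 yf59 zf7) (kf xf29 yf44 zf12) (kf xf21 yf20 zf45) (kf xf29 yf24 zf48) (kf xf32 yf17 zf53) (kf xf32 yf17 zf52) (kf xf32 yf17 zf51) (kf xf20 yf54 zf16) (kf xf31 yf18 zf9) (kf xf29 yf2 zf46) (kf xf32 yf18 zf4) (kf xf29 yf2 zf45) (kf xf20 yf54 zf19) (kf xf32 yf14 zf25) (kf xf32 yf0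 zf57) (kf xf31 yf41 zf39) (kf xf26 yf11 zf5) (kf xf29 yf57 zf24) (kf xf29 yf2 zf43) (kf xf21 yf57 zf35) (kf xf28 yf31 zf40) (kf xf27 yf43 zf53) (kf xf28 yf31 zf15) (kf xf21 yf39 zf2) (kf xf24 yf22 zf6) (kf xf30 yf55 zf22) (kf xf20 yf54 zf46) (kf xf23 yf39 zf24) (kf xf23 yf28 zf61) (kf xf28 yf42 zf42) (kf xf21 yf54 zf37) (kf xf20 yf56 zf0) (kf xf20 yf56 zf6) (kf xf20 yf56 zf5) (kf xf20 yf55 zf2) (kf xf20 yf56 zf27)) (@D3.rec (fun _ => Pt) (kf xf20 yf56 zf39) (kf xf25 yf10 zf10) (kf xf29 yf45 zf56) (kf xf20 yf55 zf8) (kf xf20 yf56 zf55) (kf xf20 yf56 zf52) (kf xf20 yf56 zf53) (kf xf26 yf2 zf47) (kf xf20 yf56 zf60) (kf xf20 yf56 zf61) (kf xf32 yf11 zf21) (kf xf31 yf34 zf29) (kf xf29 yf43 zf27) (kf xf26 yf39 zf50) (kf xf20 yf55 zf18) (kf xf20 yf57 zf36) (kf xf20 yf57 zf35)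 (kf xf20 yf55 zf19) (kf xf24 yf3 zf21) (kf xf20 yf55 zf21) (kf xf20 yf57 zf53) (kf xf20 yf55 zf22) (kf xf20 yf55 zf31) (kf xf20 yf55 zf33) (kf xf30 yf16 zf18) (kf xf28 yf34 zf7) (kf xf30 yf16 zf20) (kf xf22 yf1 zf37) (kf xf32 yf15 zf33) (kf xf32 yf18 zf56) (kf xf25 yf31 zf50) (kf xf31 yf24 zf24) (kf xf24 yf17 zf8) (kf xf31 yf52 zf55) (kf xf29 yf4 zf44) (kf xf31 yf24 zf23) (kf xf20 yf55 zf39) (kf xf29 yf26 zf32) (kf xf20 yf58 zf23) (kf xf20 yf58 zf22) (kf xf29 yf26 zf41) (kf xf20 yf55 zf42) (kf xf29 yf34 zf29) (kf xf20 yf55 zf43) (kf xf25 yf22 zf16) (kf xf27 yf43 zf5) (kf xf30 yf19 zf21) (kf xf28 yf59 zf26) (kf xf31 yf19 zf39) (kf xf31 yf47 zf56) (kf xf20 yf55 zf54) (kf xf20 yf55 zf55) (kf xf28 yf32 zf23) (kf xf28 yf32 zf22) (kf xf26 yf37 zf25) (kf xf26 yf35 zf10) (kf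 xf26 yf7 zf58) (kf xf20 yf56 zf4) (kf xf26 yf59 zf31) (kf xf25 yf20 zf26) (kf xf32 yf10 zf34) (kf xf25 yf20 zf25)) (@D3.rec (fun _ => Pt) (kf xf31 yf31 zf53) (kf xf26 yf35 zf48) (kf xf26 yf51 zf51) (kf xf26 yf59 zf57) (kf xf28 yf44 zf22) (kf xf26 yf39 zf0) (kf xf32 yf36 zf6) (kf xf29 yf13 zf30) (kf xf26 yf37 zf13) (kf xf20 yf56 zf23) (kf xf32 yf46 zf29) (kf xf20 yf56 zf21) (kf xf26 yf36 zf51) (kf xf26 yf36 zf52) (kf xf26 yf36 zf53) (kf xf25 yf8 zf0) (kf xf32 yf47 zf22) (kf xf32 yf47 zf24) (kf xf32 yf47 zf23) (kf xf20 yf56 zf24) (kf xf26 yf35 zf28) (kf xf25 yf20 zf2) (kf xf26 yf35 zf31) (kf xf26 yf33 zf10) (kf xf25 yf20 zf1) (kf xf31 yf14 zf3) (kf xf31 yf14 zf2) (kf xf25 yf27 zf22) (kf xf25 yf32 zf4) (kf xf26 yf35 zf14) (kf xf32 yf33 zf30) (kf xf27 yf0 zf42) (kf xf31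 yf19 zf33) (kf xf32 yf47 zf5) (kf xf22 yf24 zf59) (kf xf26 yf34 zf45) (kf xf26 yf34 zf50) (kf xf30 yf29 zf6) (kf xf30 yf17 zf20) (kf xf32 yf34 zf57) (kf xf22 yf24 zf0) (kf xf25 yf21 zf5) (kf xf25 yf21 zf6) (kf xf24 yf49 zf21) (kf xf29 yf39 zf31) (kf xf20 yf56 zf42) (kf xf26 yf7 zf53) (kf xf30 yf17 zf28) (kf xf32 yf45 zf35) (kf xf26 yf37 zf18) (kf xf29 yf46 zf37) (kf xf32 yf33 zf32) (kf xf32 yf37 zf55) (kf xf28 yf44 zf36) (kf xf32 yf45 zf39) (kf xf31 yf53 zf38) (kf xf29 yf44 zf2) (kf xf20 yf57 zf7) (kf xf32 yf19 zf10) (kf xf32 yf33 zf38) (kf xf31 yf46 zf58) (kf xf20 yf57 zf9)) (@D3.rec (fun _ => Pt) (kf xf25 yf20 zf56) (kf xf28 yf40 zf48) (kf xf25 yf20 zf55) (kf xf28 yf40 zf45) (kf xf32 yf3 zf34) (kf xf28 yf40 zf33) (kf xf26 yf35 zf24) (kf xf32 yf40 zf22) (kf xf20 yf57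 zf13) (kf xf26 yf36 zf18) (kf xf32 yf14 zf21) (kf xf26 yf36 zf14) (kf xf26 yf36 zf15) (kf xf32 yf47 zf37) (kf xf28 yf39 zf53) (kf xf32 yf33 zf11) (kf xf26 yf36 zf21) (kf xf32 yf12 zf11) (kf xf22 yf24 zf55) (kf xf28 yf40 zf15) (kf xf26 yf36 zf20) (kf xf32 yf39 zf30) (kf xf26 yf39 zf16) (kf xf26 yf39 zf17) (kf xf20 yf57 zf31) (kf xf20 yf57 zf30) (kf xf20 yf57 zf29) (kf xf30 yf17 zf33) (kf xf27 yf16 zf33) (kf xf26 yf33 zf36) (kf xf30 yf17 zf32) (kf xf24 yf2 zf24) (kf xf29 yf34 zf14) (kf xf31 yf17 zf42) (kf xf29 yf34 zf49) (kf xf30 yf27 zf61) (kf xf29 yf34 zf2) (kf xf29 yf45 zf50) (kf xf25 yf17 zf6) (kf xf25 yf17 zf26) (kf xf25 yf17 zf7) (kf xf26 yf39 zf42) (kf xf23 yf28 zf59) (kf xf29 yf46 zf56) (kf xf29 yf46 zf55) (kf xf32 yf47 zf51) (kf xf20 yf57 zf50) (kf xf32 yf41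 zf8) (kf xf32 yf21 zf0) (kf xf26 yf41 zf4) (kf xf32 yf41 zf6) (kf xf22 yf1 zf29) (kf xf32 yf47 zf52) (kf xf20 yf57 zf55) (kf xf32 yf41 zf10) (kf xf29 yf46 zf44) (kf xf29 yf46 zf43) (kf xf32 yf40 zf17) (kf xf20 yf58 zf0) (kf xf26 yf26 zf48) (kf xf26 yf19 zf43) (kf xf30 yf56 zf50)) (@D3.rec (fun _ => Pt) (kf xf32 yf40 zf18) (kf xf20 yf58 zf12) (kf xf30 yf55 zf52) (kf xf31 yf50 zf58) (kf xf31 yf26 zf14) (kf xf28 yf39 zf57) (kf xf28 yf40 zf32) (kf xf31 yf30 zf9) (kf xf32 yf15 zf2) (kf xf24 yf0 zf51) (kf xf20 yf58 zf16) (kf xf28 yf54 zf10) (kf xf32 yf47 zf15) (kf xf32 yf14 zf2) (kf xf32 yf14 zf3) (kf xf29 yf34 zf3) (kf xf28 yf39 zf49) (kf xf32 yf47 zf17) (kf xf28 yf39 zf45) (kf xf20 yf58 zf24) (kf xf29 yf10 zf55) (kf xf32 yf4 zf0) (kf xf32 yf14 zf9) (kf xf32 yf40 zf14) (kf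 xf20 yf58 zf27) (kf xf32 yf13 zf24) (kf xf32 yf23 zf2) (kf xf20 yf58 zf30) (kf xf31 yf41 zf27) (kf xf24 yf3 zf6) (kf xf20 yf58 zf35) (kf xf26 yf39 zf48) (kf xf29 yf58 zf58) (kf xf29 yf34 zf4) (kf xf29 yf34 zf33) (kf xf26 yf41 zf13) (kf xf28 yf54 zf19) (kf xf26 yf41 zf19) (kf xf26 yf41 zf23) (kf xf26 yf2 zf48) (kf xf24 yf21 zf2) (kf xf24 yf7 zf47) (kf xf28 yf48 zf22) (kf xf25 yf22 zf5) (kf xf26 yf41 zf56) (kf xf25 yf22 zf2) (kf xf25 yf20 zf18) (kf xf25 yf50 zf11) (kf xf27 yf21 zf32) (kf xf27 yf21 zf28) (kf xf32 yf2 zf49) (kf xf31 yf49 zf48) (kf xf31 yf56 zf23) (kf xf20 yf59 zf11) (kf xf31 yf53 zf25) (kf xf25 yf40 zf16) (kf xf31 yf27 zf45) (kf xf31 yf3 zf50) (kf xf31 yf53 zf26) (kf xf31 yf45 zf44) (kf xf31 yf9 zf44) (kf xf27 yf40 zf47)) (@D3.rec (fun _ => Pt) (kf xf28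 yf1 zf43) (kf xf28 yf1 zf44) (kf xf26 yf42 zf55) (kf xf28 yf47 zf40) (kf xf26 yf30 zf15) (kf xf22 yf41 zf24) (kf xf26 yf43 zf8) (kf xf28 yf47 zf46) (kf xf32 yf38 zf39) (kf xf27 yf8 zf47) (kf xf26 yf50 zf15) (kf xf27 yf8 zf48) (kf xf26 yf43 zf7) (kf xf26 yf43 zf6) (kf xf26 yf43 zf9) (kf xf26 yf43 zf11) (kf xf31 yf13 zf55) (kf xf31 yf19 zf53) (kf xf29 yf2 zf15) (kf xf29 yf2 zf17) (kf xf32 yf0 zf59) (kf xf29 yf2 zf29) (kf xf28 yf16 zf41) (kf xf20 yf59 zf61) (kf xf22 yf7 zf12) (kf xf26 yf42 zf54) (kf xf26 yf42 zf51) (kf xf26 yf42 zf56) (kf xf26 yf43 zf2) (kf xf31 yf31 zf22) (kf xf26 yf43 zf44) (kf xf26 yf43 zf47) (kf xf32 yf24 zf58) (kf xf25 yf58 zf58) (kf xf25 yf35 zf23) (kf xf25 yf35 zf25) (kf xf28 yf20 zf37) (kf xf27 yf19 zf61) (kf xf25 yf26 zf20) (kf xf29 yf0 zf7) (kf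 xf29 yf23 zf34) (kf xf24 yf16 zf21) (kf xf28 yf49 zf17) (kf xf28 yf34 zf6) (kf xf28 yf48 zf50) (kf xf28 yf48 zf55) (kf xf26 yf44 zf60) (kf xf28 yf15 zf48) (kf xf27 yf17 zf33) (kf xf25 yf12 zf3) (kf xf23 yf36 zf4) (kf xf27 yf5 zf42) (kf xf28 yf41 zf4) (kf xf28 yf49 zf30) (kf xf31 yf0 zf41) (kf xf24 yf23 zf39) (kf xf28 yf49 zf32) (kf xf26 yf8 zf47) (kf xf28 yf49 zf35) (kf xf28 yf49 zf37) (kf xf23 yf44 zf21) (kf xf29 yf43 zf17)) (@D3.rec (fun _ => Pt) (kf xf26 yf38 zf55) (kf xf29 yf43 zf25) (kf xf28 yf40 zf38) (kf xf31 yf21 zf3) (kf xf22 yf25 zf38) (kf xf30 yf48 zf39) (kf xf22 yf4 zf23) (kf xf22 yf4 zf22) (kf xf21 yf1 zf28) (kf xf21 yf44 zf1) (kf xf29 yf16 zf19) (kf xf29 yf16 zf52) (kf xf26 yf11 zf7) (kf xf25 yf8 zf38) (kf xf25 yf43 zf24) (kf xf27 yf13 zf9) (kf xf30 yf6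 zf41) (kf xf31 yf59 zf59) (kf xf30 yf17 zf4) (kf xf29 yf38 zf18) (kf xf31 yf13 zf18) (kf xf31 yf27 zf14) (kf xf24 yf8 zf21) (kf xf25 yf9 zf7) (kf xf26 yf57 zf33) (kf xf32 yf7 zf3) (kf xf30 yf56 zf1) (kf xf28 yf42 zf19) (kf xf25 yf11 zf38) (kf xf25 yf14 zf31) (kf xf29 yf17 zf49) (kf xf29 yf17 zf51) (kf xf21 yf56 zf33) (kf xf29 yf12 zf6) (kf xf30 yf20 zf11) (kf xf27 yf18 zf27) (kf xf21 yf2 zf18) (kf xf26 yf48 zf1) (kf xf23 yf41 zf11) (kf xf21 yf2 zf20) (kf xf25 yf39 zf12) (kf xf32 yf4 zf47) (kf xf31 yf8 zf32) (kf xf21 yf2 zf22) (kf xf26 yf47 zf42) (kf xf26 yf47 zf41) (kf xf26 yf47 zf43) (kf xf23 yf40 zf32) (kf xf23 yf38 zf39) (kf xf28 yf11 zf61) (kf xf29 yf55 zf14) (kf xf32 yf4 zf48) (kf xf29 yf59 zf33) (kf xf27 yf47 zf22) (kf xf21 yf2 zf28) (kf xf31 yf5 zf14) (kf xf30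 yf17 zf38) (kf xf26 yf48 zf24) (kf xf26 yf48 zf27) (kf xf29 yf29 zf57) (kf xf25 yf16 zf15) (kf xf25 yf2 zf1)) (@D3.rec (fun _ => Pt) (kf xf26 yf26 zf26) (kf xf21 yf44 zf17) (kf xf22 yf56 zf44) (kf xf27 yf11 zf41) (kf xf30 yf29 zf21) (kf xf26 yf8 zf21) (kf xf27 yf43 zf61) (kf xf28 yf55 zf59) (kf xf26 yf26 zf49) (kf xf28 yf56 zf49) (kf xf22 yf21 zf42) (kf xf22 yf13 zf11) (kf xf29 yf39 zf29) (kf xf21 yf3 zf36) (kf xf21 yf3 zf46) (kf xf27 yf17 zf20) (kf xf24 yf16 zf1) (kf xf30 yf27 zf2) (kf xf24 yf10 zf1) (kf xf23 yf49 zf20) (kf xf32 yf17 zf32) (kf xf30 yf1 zf59) (kf xf25 yf14 zf28) (kf xf22 yf54 zf29) (kf xf26 yf26 zf5) (kf xf23 yf16 zf55) (kf xf25 yf28 zf35) (kf xf27 yf33 zf2) (kf xf23 yf22 zf36) (kf xf30 yf1 zf18) (kf xf22 yf34 zf42) (kf xf25 yf10 zf0) (kf xf23 yf47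 zf32) (kf xf27 yf23 zf25) (kf xf23 yf47 zf33) (kf xf21 yf42 zf11) (kf xf21 yf39 zf38) (kf xf27 yf19 zf45) (kf xf21 yf39 zf44) (kf xf21 yf39 zf45) (kf xf21 yf39 zf46) (kf xf24 yf30 zf48) (kf xf30 yf6 zf26) (kf xf24 yf38 zf47) (kf xf25 yf27 zf40) (kf xf22 yf59 zf2) (kf xf29 yf58 zf46) (kf xf30 yf56 zf34) (kf xf25 yf33 zf26) (kf xf27 yf5 zf2) (kf xf27 yf5 zf3) (kf xf29 yf57 zf28) (kf xf29 yf57 zf30) (kf xf29 yf57 zf31) (kf xf22 yf55 zf9) (kf xf22 yf16 zf35) (kf xf30 yf19 zf48) (kf xf27 yf25 zf26) (kf xf27 yf25 zf27) (kf xf30 yf8 zf34) (kf xf28 yf57 zf8) (kf xf22 yf59 zf8)) (@D3.rec (fun _ => Pt) (kf xf24 yf7 zf17) (kf xf30 yf6 zf43) (kf xf32 yf0 zf18) (kf xf30 yf19 zf58) (kf xf31 yf25 zf46) (kf xf25 yf29 zf25) (kf xf32 yf23 zf45) (kf xf24 yf22 zf20) (kf xf25 yf34 zf45)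 (kf xf32 yf48 zf21) (kf xf32 yf32 zf20) (kf xf24 yf43 zf39) (kf xf23 yf27 zf60) (kf xf30 yf4 zf39) (kf xf30 yf4 zf40) (kf xf30 yf4 zf36) (kf xf23 yf40 zf0) (kf xf21 yf6 zf2) (kf xf28 yf42 zf51) (kf xf30 yf1 zf50) (kf xf23 yf52 zf36) (kf xf21 yf6 zf16) (kf xf21 yf6 zf11) (kf xf24 yf42 zf6) (kf xf28 yf41 zf9) (kf xf25 yf54 zf13) (kf xf30 yf13 zf2) (kf xf23 yf52 zf37) (kf xf23 yf46 zf20) (kf xf31 yf0 zf47) (kf xf30 yf2 zf27) (kf xf27 yf48 zf45) (kf xf32 yf19 zf50) (kf xf30 yf1 zf28) (kf xf26 yf0 zf31) (kf xf26 yf0 zf43) (kf xf24 yf30 zf57) (kf xf26 yf0 zf49) (kf xf26 yf0 zf51) (kf xf24 yf30 zf55) (kf xf26 yf8 zf34) (kf xf30 yf13 zf8) (kf xf26 yf8 zf51) (kf xf30 yf13 zf6) (kf xf27 yf18 zf1) (kf xf22 yf40 zf22) (kf xf21 yf6 zf54) (kf xf27 yf3 zf51) (kf xf30 yf56 zf49) (kf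 xf29 yf23 zf26) (kf xf21 yf7 zf13) (kf xf21 yf42 zf21) (kf xf25 yf31 zf5) (kf xf21 yf42 zf24) (kf xf21 yf49 zf57) (kf xf21 yf7 zf43) (kf xf32 yf29 zf6) (kf xf29 yf32 zf53) (kf xf27 yf59 zf17) (kf xf21 yf7 zf48) (kf xf22 yf37 zf40) (kf xf23 yf47 zf9)) (@D3.rec (fun _ => Pt) (kf xf27 yf29 zf37) (kf xf21 yf8 zf17) (kf xf28 yf11 zf33) (kf xf21 yf28 zf16) (kf xf28 yf31 zf22) (kf xf24 yf29 zf14) (kf xf24 yf27 zf38) (kf xf31 yf37 zf34) (kf xf21 yf55 zf41) (kf xf21 yf55 zf45) (kf xf21 yf55 zf60) (kf xf24 yf43 zf12) (kf xf21 yf56 zf25) (kf xf23 yf32 zf28) (kf xf21 yf56 zf37) (kf xf23 yf24 zf57) (kf xf31 yf0 zf58) (kf xf21 yf56 zf43) (kf xf21 yf56 zf44) (kf xf21 yf56 zf46) (kf xf29 yf8 zf38) (kf xf26 yf49 zf59) (kf xf23 yf51 zf58) (kf xf29 yf22 zf9) (kf xf28 yf15 zf1) (kf xf28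 yf30 zf61) (kf xf31 yf53 zf44) (kf xf28 yf22 zf60) (kf xf25 yf5 zf36) (kf xf29 yf56 zf22) (kf xf29 yf56 zf14) (kf xf28 yf43 zf57) (kf xf32 yf3 zf31) (kf xf24 yf2 zf22) (kf xf22 yf10 zf12) (kf xf22 yf10 zf18) (kf xf22 yf10 zf20) (kf xf21 yf59 zf25) (kf xf22 yf10 zf37) (kf xf27 yf57 zf3) (kf xf25 yf23 zf41) (kf xf22 yf36 zf2) (kf xf24 yf25 zf7) (kf xf32 yf10 zf18) (kf xf32 yf10 zf20) (kf xf27 yf42 zf25) (kf xf27 yf42 zf26) (kf xf24 yf13 zf16) (kf xf26 yf31 zf1) (kf xf21 yf10 zf29) (kf xf26 yf21 zf18) (kf xf26 yf21 zf20) (kf xf21 yf10 zf34) (kf xf26 yf26 zf40) (kf xf23 yf7 zf50) (kf xf32 yf48 zf32) (kf xf21 yf10 zf39) (kf xf26 yf31 zf24) (kf xf23 yf8 zf42) (kf xf26 yf31 zf14) (kf xf26 yf31 zf13) (kf xf21 yf10 zf41)) (@D3.rec (fun _ => Pt) (kf xf30 yf51 zf1) (kf xf22 yf55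 zf37) (kf xf22 yf55 zf39) (kf xf26 yf31 zf27) (kf xf26 yf31 zf26) (kf xf26 yf31 zf34) (kf xf26 yf27 zf55) (kf xf26 yf31 zf30) (kf xf29 yf20 zf52) (kf xf24 yf47 zf61) (kf xf31 yf34 zf43) (kf xf31 yf16 zf21) (kf xf26 yf21 zf26) (kf xf26 yf21 zf27) (kf xf26 yf19 zf16) (kf xf26 yf21 zf24) (kf xf26 yf57 zf49) (kf xf27 yf3 zf3) (kf xf29 yf32 zf37) (kf xf21 yf11 zf0) (kf xf24 yf13 zf9) (kf xf24 yf13 zf2) (kf xf31 yf39 zf24) (kf xf31 yf38 zf45) (kf xf22 yf55 zf25) (kf xf31 yf12 zf61) (kf xf28 yf35 zf5) (kf xf31 yf34 zf47) (kf xf32 yf28 zf7) (kf xf28 yf21 zf17) (kf xf28 yf29 zf27) (kf xf31 yf33 zf10) (kf xf24 yf13 zf53) (kf xf30 yf8 zf1) (kf xf29 yf42 zf58) (kf xf24 yf8 zf34) (kf xf31 yf30 zf29) (kf xf32 yf18 zf19) (kf xf28 yf50 zf11) (kf xf32 yf18 zf38) (kf xf28 yf52 zf22)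 (kf xf21 yf11 zf32) (kf xf32 yf11 zf32) (kf xf26 yf17 zf44) (kf xf30 yf12 zf34) (kf xf32 yf29 zf30) (kf xf26 yf17 zf46) (kf xf28 yf45 zf38) (kf xf26 yf29 zf39) (kf xf26 yf29 zf43) (kf xf32 yf8 zf35) (kf xf22 yf48 zf34) (kf xf30 yf45 zf18) (kf xf30 yf21 zf10) (kf xf30 yf12 zf30) (kf xf22 yf49 zf41) (kf xf29 yf0 zf41) (kf xf28 yf12 zf51) (kf xf21 yf12 zf9) (kf xf24 yf57 zf52) (kf xf24 yf57 zf51) (kf xf24 yf13 zf22)) (@D3.rec (fun _ => Pt) (kf xf21 yf12 zf12) (kf xf26 yf8 zf54) (kf xf23 yf8 zf51) (kf xf31 yf42 zf28) (kf xf26 yf9 zf4) (kf xf32 yf9 zf20) (kf xf21 yf12 zf32) (kf xf21 yf12 zf35) (kf xf32 yf44 zf56) (kf xf21 yf12 zf46) (kf xf31 yf42 zf6) (kf xf28 yf5 zf26) (kf xf26 yf21 zf45) (kf xf26 yf21 zf43) (kf xf26 yf21 zf44) (kf xf26 yf21 zf38) (kf xf21 yf12 zf45) (kf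 xf29 yf25 zf15) (kf xf27 yf48 zf43) (kf xf31 yf42 zf33) (kf xf28 yf9 zf39) (kf xf29 yf25 zf3) (kf xf32 yf9 zf26) (kf xf21 yf12 zf50) (kf xf26 yf19 zf19) (kf xf29 yf24 zf59) (kf xf21 yf12 zf54) (kf xf23 yf27 zf19) (kf xf21 yf53 zf59) (kf xf25 yf18 zf52) (kf xf24 yf53 zf51) (kf xf32 yf9 zf31) (kf xf28 yf25 zf41) (kf xf27 yf54 zf26) (kf xf27 yf48 zf51) (kf xf26 yf5 zf19) (kf xf28 yf18 zf55) (kf xf29 yf8 zf40) (kf xf29 yf29 zf44) (kf xf22 yf42 zf20) (kf xf24 yf5 zf28) (kf xf24 yf8 zf16) (kf xf21 yf13 zf46) (kf xf21 yf13 zf45) (kf xf21 yf13 zf48) (kf xf21 yf13 zf47) (kf xf23 yf52 zf54) (kf xf21 yf13 zf40) (kf xf21 yf14 zf3) (kf xf32 yf48 zf41) (kf xf28 yf46 zf41) (kf xf30 yf49 zf47) (kf xf27 yf10 zf16) (kf xf26 yf56 zf1) (kf xf30 yf49 zf16) (kf xf28 yf56 zf5) (kf xf22 yf34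 zf12) (kf xf25 yf17 zf41) (kf xf22 yf24 zf5) (kf xf24 yf9 zf8) (kf xf32 yf22 zf0) (kf xf32 yf22 zf1)) (@D3.rec (fun _ => Pt) (kf xf30 yf25 zf18) (kf xf23 yf29 zf42) (kf xf23 yf29 zf43) (kf xf27 yf39 zf9) (kf xf24 yf22 zf41) (kf xf27 yf13 zf5) (kf xf31 yf15 zf40) (kf xf23 yf54 zf55) (kf xf23 yf14 zf47) (kf xf23 yf14 zf40) (kf xf22 yf38 zf1) (kf xf23 yf29 zf55) (kf xf30 yf10 zf18) (kf xf23 yf29 zf52) (kf xf29 yf49 zf50) (kf xf30 yf55 zf48) (kf xf23 yf29 zf50) (kf xf23 yf26 zf10) (kf xf30 yf12 zf50) (kf xf29 yf57 zf54) (kf xf23 yf26 zf13) (kf xf23 yf29 zf35) (kf xf22 yf44 zf33) (kf xf23 yf26 zf5) (kf xf23 yf26 zf4) (kf xf21 yf14 zf36) (kf xf27 yf47 zf52) (kf xf26 yf7 zf21) (kf xf23 yf26 zf2) (kf xf26 yf56 zf11) (kf xf23 yf50 zf40) (kf xf23 yf2 zf25) (kf xf23 yf21 zf28)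 (kf xf24 yf55 zf51) (kf xf28 yf26 zf23) (kf xf26 yf28 zf58) (kf xf30 yf45 zf38) (kf xf21 yf15 zf35) (kf xf30 yf35 zf11) (kf xf30 yf33 zf39) (kf xf30 yf33 zf50) (kf xf28 yf26 zf1) (kf xf23 yf57 zf5) (kf xf26 yf56 zf29) (kf xf26 yf56 zf59) (kf xf23 yf57 zf31) (kf xf26 yf56 zf60) (kf xf26 yf56 zf31) (kf xf28 yf46 zf15) (kf xf23 yf27 zf28) (kf xf31 yf22 zf11) (kf xf32 yf16 zf52) (kf xf21 yf15 zf60) (kf xf30 yf29 zf56) (kf xf24 yf5 zf51) (kf xf30 yf28 zf36) (kf xf27 yf11 zf11) (kf xf21 yf16 zf14) (kf xf21 yf16 zf17) (kf xf25 yf54 zf29) (kf xf27 yf17 zf23) (kf xf27 yf18 zf0)) (@D3.rec (fun _ => Pt) (kf xf25 yf54 zf14) (kf xf22 yf22 zf26) (kf xf27 yf7 zf44) (kf xf27 yf7 zf45) (kf xf27 yf7 zf46) (kf xf27 yf7 zf48) (kf xf27 yf7 zf49) (kf xf29 yf24 zf41) (kf xf32 yf48 zf36) (kf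 xf22 yf3 zf61) (kf xf21 yf16 zf53) (kf xf32 yf23 zf1) (kf xf30 yf6 zf30) (kf xf25 yf43 zf27) (kf xf29 yf52 zf30) (kf xf32 yf41 zf28) (kf xf28 yf15 zf57) (kf xf31 yf38 zf14) (kf xf28 yf49 zf46) (kf xf25 yf10 zf22) (kf xf27 yf11 zf36) (kf xf21 yf50 zf13) (kf xf29 yf52 zf29) (kf xf28 yf44 zf30) (kf xf25 yf27 zf30) (kf xf31 yf26 zf50) (kf xf32 yf48 zf50) (kf xf32 yf11 zf8) (kf xf27 yf43 zf59) (kf xf30 yf9 zf59) (kf xf21 yf17 zf10) (kf xf27 yf17 zf43) (kf xf27 yf17 zf47) (kf xf27 yf17 zf50) (kf xf30 yf19 zf32) (kf xf23 yf39 zf10) (kf xf29 yf27 zf61) (kf xf27 yf1 zf38) (kf xf27 yf17 zf18) (kf xf27 yf1 zf44) (kf xf25 yf58 zf55) (kf xf27 yf18 zf5) (kf xf27 yf18 zf6) (kf xf27 yf18 zf8) (kf xf27 yf18 zf9) (kf xf27 yf18 zf10) (kf xf27 yf18 zf14) (kf xf27 yf18 zf15) (kf xf27 yf18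 zf16) (kf xf27 yf18 zf18) (kf xf27 yf18 zf21) (kf xf27 yf18 zf22) (kf xf32 yf48 zf53) (kf xf27 yf18 zf25) (kf xf31 yf53 zf56) (kf xf25 yf29 zf61) (kf xf27 yf18 zf29) (kf xf27 yf18 zf30) (kf xf31 yf58 zf19) (kf xf32 yf42 zf31) (kf xf32 yf0 zf10) (kf xf21 yf17 zf38)) (@D3.rec (fun _ => Pt) (kf xf24 yf17 zf30) (kf xf23 yf28 zf7) (kf xf24 yf17 zf24) (kf xf27 yf18 zf35) (kf xf27 yf18 zf36) (kf xf29 yf4 zf56) (kf xf26 yf16 zf52) (kf xf21 yf49 zf56) (kf xf21 yf17 zf55) (kf xf28 yf42 zf18) (kf xf28 yf42 zf17) (kf xf21 yf17 zf53) (kf xf27 yf23 zf27) (kf xf27 yf23 zf28) (kf xf27 yf23 zf29) (kf xf27 yf23 zf30) (kf xf27 yf23 zf32) (kf xf27 yf23 zf33) (kf xf27 yf23 zf34) (kf xf25 yf54 zf32) (kf xf25 yf54 zf35) (kf xf27 yf23 zf39) (kf xf32 yf48 zf55) (kf xf25 yf54 zf23) (kf xf29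 yf43 zf43) (kf xf30 yf12 zf17) (kf xf21 yf54 zf9) (kf xf21 yf54 zf13) (kf xf29 yf50 zf51) (kf xf24 yf49 zf12) (kf xf29 yf50 zf52) (kf xf29 yf50 zf53) (kf xf21 yf27 zf46) (kf xf32 yf48 zf60) (kf xf21 yf27 zf47) (kf xf29 yf58 zf0) (kf xf24 yf30 zf46) (kf xf29 yf58 zf1) (kf xf29 yf58 zf2) (kf xf29 yf58 zf4) (kf xf29 yf58 zf5) (kf xf24 yf10 zf45) (kf xf31 yf38 zf0) (kf xf30 yf3 zf1) (kf xf25 yf39 zf17) (kf xf29 yf58 zf8) (kf xf30 yf4 zf33) (kf xf30 yf4 zf32) (kf xf21 yf18 zf26) (kf xf30 yf4 zf25) (kf xf30 yf0 zf38) (kf xf30 yf4 zf27) (kf xf30 yf0 zf39) (kf xf29 yf58 zf28) (kf xf29 yf55 zf19) (kf xf21 yf19 zf30) (kf xf21 yf19 zf29) (kf xf21 yf18 zf33) (kf xf27 yf4 zf15) (kf xf21 yf18 zf48) (kf xf31 yf49 zf4) (kf xf28 yf31 zf11)) (@D3.rec (fun _ => Pt) (kf xf29 yf57 zf35)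 (kf xf29 yf57 zf37) (kf xf29 yf57 zf38) (kf xf23 yf41 zf5) (kf xf29 yf57 zf39) (kf xf29 yf57 zf40) (kf xf23 yf24 zf30) (kf xf23 yf59 zf40) (kf xf29 yf57 zf45) (kf xf30 yf0 zf25) (kf xf24 yf23 zf51) (kf xf21 yf19 zf12) (kf xf30 yf4 zf29) (kf xf30 yf4 zf30) (kf xf30 yf4 zf35) (kf xf29 yf26 zf53) (kf xf21 yf19 zf17) (kf xf30 yf4 zf42) (kf xf30 yf4 zf43) (kf xf30 yf4 zf44) (kf xf25 yf42 zf23) (kf xf30 yf4 zf45) (kf xf30 yf4 zf46) (kf xf23 yf26 zf42) (kf xf30 yf14 zf34) (kf xf22 yf37 zf50) (kf xf23 yf59 zf28) (kf xf21 yf19 zf26) (kf xf29 yf57 zf53) (kf xf21 yf34 zf40) (kf xf21 yf34 zf39) (kf xf21 yf19 zf28) (kf xf31 yf4 zf59) (kf xf32 yf48 zf23) (kf xf31 yf37 zf51) (kf xf32 yf48 zf22) (kf xf24 yf14 zf53) (kf xf24 yf42 zf32) (kf xf27 yf40 zf58) (kf xf23 yf44 zf28) (kf xf25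 yf16 zf40) (kf xf27 yf4 zf18) (kf xf27 yf40 zf52) (kf xf23 yf44 zf27) (kf xf23 yf29 zf25) (kf xf24 yf36 zf39) (kf xf29 yf50 zf46) (kf xf23 yf43 zf55) (kf xf23 yf43 zf53) (kf xf23 yf43 zf54) (kf xf23 yf43 zf43) (kf xf21 yf20 zf2) (kf xf24 yf22 zf34) (kf xf29 yf2 zf38) (kf xf24 yf19 zf16) (kf xf25 yf6 zf22) (kf xf24 yf11 zf10) (kf xf29 yf17 zf5) (kf xf29 yf47 zf32) (kf xf22 yf3 zf21) (kf xf30 yf4 zf61) (kf xf32 yf13 zf11)) (@D3.rec (fun _ => Pt) (kf xf27 yf19 zf5) (kf xf24 yf30 zf43) (kf xf31 yf45 zf42) (kf xf23 yf41 zf31) (kf xf21 yf21 zf8) (kf xf21 yf27 zf36) (kf xf21 yf21 zf21) (kf xf29 yf43 zf26) (kf xf31 yf43 zf39) (kf xf25 yf8 zf21) (kf xf25 yf8 zf22) (kf xf29 yf15 zf58) (kf xf26 yf46 zf48) (kf xf32 yf2 zf42) (kf xf21 yf21 zf24) (kf xf29 yf16 zf16) (kf xf29 yf16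 zf17) (kf xf29 yf16 zf18) (kf xf25 yf14 zf6) (kf xf30 yf9 zf31) (kf xf30 yf9 zf30) (kf xf29 yf15 zf37) (kf xf26 yf4 zf40) (kf xf29 yf17 zf34) (kf xf31 yf55 zf8) (kf xf21 yf43 zf43) (kf xf21 yf53 zf17) (kf xf24 yf30 zf51) (kf xf31 yf4 zf60) (kf xf23 yf27 zf15) (kf xf32 yf32 zf34) (kf xf31 yf37 zf25) (kf xf23 yf27 zf35) (kf xf29 yf49 zf52) (kf xf30 yf42 zf6) (kf xf31 yf54 zf57) (kf xf30 yf10 zf50) (kf xf30 yf10 zf49) (kf xf21 yf21 zf56) (kf xf25 yf32 zf48) (kf xf31 yf18 zf20) (kf xf24 yf42 zf49) (kf xf27 yf27 zf23) (kf xf30 yf17 zf39) (kf xf25 yf15 zf4) (kf xf29 yf16 zf60) (kf xf32 yf0 zf44) (kf xf24 yf38 zf1) (kf xf31 yf28 zf56) (kf xf24 yf38 zf15) (kf xf21 yf46 zf30) (kf xf21 yf40 zf33) (kf xf25 yf37 zf41) (kf xf30 yf8 zf55) (kf xf28 yf57 zf49) (kf xf25 yf32 zf46) (kf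 xf27 yf29 zf55) (kf xf26 yf11 zf21) (kf xf25 yf55 zf40) (kf xf29 yf23 zf5) (kf xf24 yf37 zf47) (kf xf25 yf49 zf42))
def f_f_30 : D2 → D3 → Pt := @D2.rec (fun _ => D3 → Pt) (@D3.rec (fun _ => Pt) (kf xf27 yf23 zf31) (kf xf27 yf23 zf37) (kf xf28 yf57 zf43) (kf xf24 yf51 zf44) (kf xf31 yf39 zf46) (kf xf31 yf40 zf56) (kf xf21 yf46 zf50) (kf xf31 yf59 zf9) (kf xf31 yf26 zf19) (kf xf31 yf29 zf11) (kf xf31 yf50 zf38) (kf xf31 yf20 zf43) (kf xf32 yf15 zf36) (kf xf25 yf46 zf11) (kf xf29 yf13 zf17) (kf xf29 yf13 zf14) (kf xf26 yf53 zf34) (kf xf27 yf1 zf13) (kf xf32 yf19 zf47) (kf xf24 yf40 zf52) (kf xf30 yf0 zf40) (kf xf30 yf0 zf36) (kf xf32 yf30 zf45) (kf xf21 yf24 zf43) (kf xf21 yf24 zf22) (kf xf29 yf58 zf9) (kf xf25 yf42 zf59) (kf xf30 yf41 zf40) (kf xf24 yf20 zf15) (kf xf30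 yf12 zf55) (kf xf30 yf1 zf60) (kf xf30 yf12 zf56) (kf xf25 yf2 zf25) (kf xf30 yf8 zf59) (kf xf23 yf26 zf57) (kf xf30 yf51 zf49) (kf xf30 yf0 zf21) (kf xf22 yf46 zf11) (kf xf29 yf57 zf50) (kf xf29 yf57 zf52) (kf xf30 yf0 zf20) (kf xf29 yf11 zf3) (kf xf27 yf4 zf37) (kf xf27 yf4 zf36) (kf xf32 yf5 zf1) (kf xf21 yf24 zf41) (kf xf31 yf10 zf10) (kf xf32 yf48 zf20) (kf xf30 yf17 zf53) (kf xf21 yf24 zf50) (kf xf22 yf42 zf61) (kf xf31 yf14 zf34) (kf xf30 yf2 zf25) (kf xf21 yf25 zf10) (kf xf23 yf45 zf24) (kf xf23 yf45 zf15) (kf xf32 yf49 zf22) (kf xf23 yf44 zf1) (kf xf23 yf44 zf0) (kf xf21 yf25 zf14) (kf xf23 yf44 zf20) (kf xf23 yf44 zf19)) (@D3.rec (fun _ => Pt) (kf xf31 yf59 zf28) (kf xf32 yf24 zf52) (kf xf30 yf4 zf19) (kf xf23 yf42 zf47) (kf xf23 yf44 zf38) (kf xf28 yf2 zf58)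 (kf xf21 yf25 zf31) (kf xf23 yf43 zf23) (kf xf23 yf42 zf35) (kf xf32 yf7 zf16) (kf xf30 yf20 zf29) (kf xf31 yf46 zf36) (kf xf23 yf43 zf56) (kf xf21 yf26 zf15) (kf xf27 yf26 zf2) (kf xf30 yf4 zf14) (kf xf25 yf3 zf42) (kf xf30 yf4 zf16) (kf xf29 yf50 zf29) (kf xf27 yf30 zf50) (kf xf21 yf26 zf22) (kf xf28 yf27 zf34) (kf xf22 yf43 zf40) (kf xf21 yf31 zf39) (kf xf21 yf31 zf40) (kf xf21 yf28 zf17) (kf xf21 yf27 zf33) (kf xf31 yf1 zf54) (kf xf29 yf51 zf33) (kf xf30 yf1 zf34) (kf xf21 yf27 zf23) (kf xf23 yf27 zf9) (kf xf29 yf5 zf15) (kf xf21 yf27 zf16) (kf xf30 yf1 zf29) (kf xf23 yf28 zf39) (kf xf23 yf28 zf1) (kf xf23 yf40 zf61) (kf xf26 yf16 zf49) (kf xf30 yf20 zf14) (kf xf30 yf20 zf15) (kf xf31 yf9 zf20) (kf xf29 yf42 zf24) (kf xf26 yf51 zf14) (kf xf30 yf20 zf19) (kf xf31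 yf58 zf1) (kf xf25 yf28 zf32) (kf xf28 yf25 zf7) (kf xf31 yf33 zf42) (kf xf32 yf24 zf22) (kf xf29 yf51 zf19) (kf xf30 yf13 zf22) (kf xf23 yf21 zf10) (kf xf21 yf28 zf10) (kf xf30 yf2 zf19) (kf xf21 yf28 zf14) (kf xf24 yf30 zf44) (kf xf24 yf30 zf45) (kf xf27 yf24 zf31) (kf xf29 yf50 zf21) (kf xf30 yf0 zf30) (kf xf23 yf1 zf60)) (@D3.rec (fun _ => Pt) (kf xf31 yf59 zf2) (kf xf21 yf27 zf60) (kf xf28 yf4 zf2) (kf xf23 yf20 zf10) (kf xf23 yf20 zf11) (kf xf23 yf40 zf39) (kf xf23 yf20 zf16) (kf xf23 yf14 zf0) (kf xf21 yf28 zf3) (kf xf32 yf19 zf54) (kf xf30 yf58 zf13) (kf xf29 yf12 zf12) (kf xf30 yf12 zf47) (kf xf28 yf10 zf55) (kf xf27 yf58 zf14) (kf xf32 yf19 zf53) (kf xf23 yf16 zf20) (kf xf30 yf57 zf11) (kf xf30 yf59 zf31) (kf xf30 yf1 zf54) (kf xf21 yf28 zf11) (kf xf30 yf59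 zf24) (kf xf24 yf42 zf53) (kf xf30 yf59 zf22) (kf xf32 yf5 zf29) (kf xf30 yf0 zf52) (kf xf32 yf4 zf57) (kf xf29 yf51 zf30) (kf xf27 yf20 zf53) (kf xf21 yf49 zf6) (kf xf30 yf13 zf18) (kf xf32 yf3 zf9) (kf xf29 yf31 zf2) (kf xf27 yf46 zf42) (kf xf27 yf57 zf59) (kf xf30 yf24 zf23) (kf xf21 yf28 zf50) (kf xf21 yf28 zf56) (kf xf21 yf54 zf4) (kf xf31 yf2 zf29) (kf xf21 yf29 zf8) (kf xf26 yf7 zf28) (kf xf30 yf2 zf47) (kf xf27 yf41 zf12) (kf xf30 yf38 zf54) (kf xf24 yf33 zf48) (kf xf29 yf26 zf50) (kf xf30 yf2 zf42) (kf xf24 yf54 zf15) (kf xf27 yf3 zf22) (kf xf25 yf39 zf34) (kf xf22 yf38 zf11) (kf xf32 yf4 zf36) (kf xf24 yf54 zf29) (kf xf25 yf16 zf19) (kf xf26 yf15 zf39) (kf xf29 yf26 zf48) (kf xf32 yf8 zf17) (kf xf23 yf31 zf11) (kf xf23 yf40 zf54) (kf xf30 yf40 zf60) (kf xf21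 yf34 zf24)) (@D3.rec (fun _ => Pt) (kf xf23 yf40 zf59) (kf xf29 yf57 zf43) (kf xf26 yf25 zf2) (kf xf21 yf29 zf45) (kf xf31 yf33 zf41) (kf xf24 yf23 zf58) (kf xf21 yf29 zf53) (kf xf24 yf54 zf26) (kf xf24 yf54 zf24) (kf xf32 yf27 zf39) (kf xf29 yf5 zf8) (kf xf21 yf29 zf58) (kf xf32 yf32 zf46) (kf xf21 yf29 zf61) (kf xf23 yf43 zf13) (kf xf21 yf30 zf0) (kf xf26 yf26 zf37) (kf xf21 yf30 zf8) (kf xf29 yf2 zf34) (kf xf28 yf32 zf43) (kf xf31 yf28 zf17) (kf xf27 yf38 zf4) (kf xf27 yf39 zf6) (kf xf21 yf30 zf46) (kf xf24 yf18 zf7) (kf xf27 yf20 zf33) (kf xf28 yf25 zf2) (kf xf28 yf25 zf6) (kf xf25 yf57 zf31) (kf xf23 yf35 zf51) (kf xf26 yf18 zf1) (kf xf26 yf5 zf18) (kf xf23 yf35 zf1) (kf xf30 yf52 zf19) (kf xf30 yf52 zf8) (kf xf30 yf52 zf11) (kf xf30 yf52 zf12) (kf xf32 yf49 zf40)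 (kf xf21 yf41 zf59) (kf xf28 yf7 zf1) (kf xf27 yf43 zf35) (kf xf29 yf8 zf42) (kf xf23 yf47 zf31) (kf xf32 yf19 zf60) (kf xf27 yf25 zf56) (kf xf26 yf13 zf5) (kf xf30 yf3 zf55) (kf xf30 yf4 zf1) (kf xf24 yf23 zf27) (kf xf31 yf16 zf6) (kf xf26 yf49 zf28) (kf xf27 yf4 zf17) (kf xf30 yf16 zf57) (kf xf27 yf17 zf24) (kf xf29 yf23 zf28) (kf xf30 yf3 zf46) (kf xf30 yf23 zf38) (kf xf29 yf26 zf56) (kf xf25 yf47 zf60) (kf xf23 yf46 zf46) (kf xf31 yf32 zf6) (kf xf32 yf44 zf16)) (@D3.rec (fun _ => Pt) (kf xf26 yf15 zf13) (kf xf30 yf3 zf47) (kf xf26 yf16 zf35) (kf xf30 yf52 zf18) (kf xf30 yf40 zf21) (kf xf31 yf37 zf37) (kf xf31 yf29 zf4) (kf xf29 yf42 zf22) (kf xf21 yf45 zf34) (kf xf22 yf2 zf14) (kf xf26 yf2 zf30) (kf xf23 yf35 zf5) (kf xf24 yf45 zf6) (kf xf26 yf15 zf25) (kf xf30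 yf1 zf15) (kf xf28 yf3 zf8) (kf xf30 yf1 zf17) (kf xf27 yf30 zf35) (kf xf24 yf45 zf15) (kf xf30 yf1 zf2) (kf xf28 yf2 zf12) (kf xf26 yf32 zf60) (kf xf28 yf3 zf47) (kf xf25 yf55 zf38) (kf xf30 yf14 zf20) (kf xf29 yf57 zf49) (kf xf27 yf27 zf20) (kf xf29 yf57 zf51) (kf xf26 yf15 zf28) (kf xf29 yf58 zf12) (kf xf29 yf58 zf13) (kf xf32 yf3 zf16) (kf xf29 yf57 zf47) (kf xf29 yf57 zf46) (kf xf21 yf34 zf19) (kf xf29 yf58 zf14) (kf xf29 yf51 zf15) (kf xf21 yf34 zf26) (kf xf21 yf45 zf8) (kf xf29 yf51 zf13) (kf xf29 yf51 zf14) (kf xf23 yf39 zf56) (kf xf29 yf58 zf17) (kf xf29 yf58 zf18) (kf xf29 yf58 zf19) (kf xf29 yf58 zf21) (kf xf29 yf58 zf22) (kf xf22 yf43 zf31) (kf xf30 yf42 zf4) (kf xf30 yf42 zf5) (kf xf31 yf57 zf45) (kf xf32 yf32 zf44) (kf xf32 yf49 zf8) (kf xf30 yf52 zf35)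 (kf xf30 yf41 zf18) (kf xf30 yf41 zf17) (kf xf31 yf36 zf25) (kf xf23 yf41 zf30) (kf xf21 yf42 zf59) (kf xf28 yf27 zf42) (kf xf29 yf42 zf52) (kf xf29 yf58 zf60)) (@D3.rec (fun _ => Pt) (kf xf32 yf30 zf23) (kf xf27 yf50 zf25) (kf xf27 yf50 zf13) (kf xf32 yf30 zf37) (kf xf27 yf6 zf56) (kf xf27 yf8 zf61) (kf xf27 yf6 zf54) (kf xf27 yf6 zf53) (kf xf21 yf35 zf27) (kf xf27 yf20 zf23) (kf xf26 yf53 zf18) (kf xf27 yf20 zf24) (kf xf28 yf19 zf10) (kf xf29 yf0 zf19) (kf xf27 yf45 zf53) (kf xf27 yf48 zf20) (kf xf21 yf58 zf46) (kf xf21 yf49 zf12) (kf xf21 yf54 zf49) (kf xf21 yf36 zf25) (kf xf24 yf33 zf13) (kf xf26 yf53 zf27) (kf xf28 yf50 zf16) (kf xf26 yf12 zf33) (kf xf31 yf1 zf29) (kf xf26 yf13 zf4) (kf xf30 yf19 zf42) (kf xf29 yf14 zf31) (kf xf27 yf48 zf13) (kf xf27 yf25 zf53)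 (kf xf26 yf26 zf22) (kf xf22 yf38 zf35) (kf xf31 yf7 zf16) (kf xf31 yf12 zf18) (kf xf23 yf34 zf31) (kf xf27 yf5 zf37) (kf xf26 yf51 zf34) (kf xf27 yf7 zf61) (kf xf32 yf49 zf57) (kf xf27 yf15 zf19) (kf xf21 yf38 zf31) (kf xf24 yf19 zf52) (kf xf32 yf49 zf60) (kf xf32 yf50 zf1) (kf xf32 yf19 zf34) (kf xf21 yf38 zf34) (kf xf30 yf18 zf27) (kf xf32 yf20 zf15) (kf xf27 yf16 zf58) (kf xf32 yf20 zf40) (kf xf27 yf7 zf7) (kf xf30 yf38 zf44) (kf xf28 yf16 zf47) (kf xf21 yf38 zf38) (kf xf28 yf16 zf33) (kf xf28 yf16 zf34) (kf xf28 yf16 zf35) (kf xf27 yf7 zf5) (kf xf28 yf16 zf43) (kf xf30 yf18 zf40) (kf xf28 yf16 zf40) (kf xf27 yf21 zf18)) (@D3.rec (fun _ => Pt) (kf xf26 yf15 zf52) (kf xf31 yf25 zf50) (kf xf25 yf43 zf13) (kf xf21 yf48 zf50) (kf xf21 yf48 zf57) (kf xf21 yf48 zf58)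 (kf xf21 yf48 zf59) (kf xf30 yf6 zf14) (kf xf22 yf55 zf7) (kf xf32 yf47 zf10) (kf xf27 yf20 zf44) (kf xf30 yf10 zf16) (kf xf30 yf10 zf17) (kf xf30 yf10 zf3) (kf xf30 yf6 zf7) (kf xf21 yf39 zf5) (kf xf30 yf31 zf52) (kf xf26 yf2 zf4) (kf xf26 yf42 zf2) (kf xf30 yf20 zf22) (kf xf29 yf18 zf0) (kf xf31 yf27 zf34) (kf xf31 yf27 zf33) (kf xf31 yf37 zf22) (kf xf31 yf45 zf50) (kf xf31 yf22 zf18) (kf xf29 yf50 zf42) (kf xf31 yf25 zf58) (kf xf31 yf25 zf59) (kf xf31 yf17 zf36) (kf xf29 yf56 zf12) (kf xf24 yf45 zf10) (kf xf32 yf20 zf1) (kf xf31 yf49 zf33) (kf xf32 yf1 zf61) (kf xf31 yf35 zf40) (kf xf31 yf49 zf6) (kf xf32 yf48 zf18) (kf xf24 yf27 zf28) (kf xf25 yf13 zf9) (kf xf21 yf39 zf40) (kf xf29 yf49 zf16) (kf xf30 yf33 zf51) (kf xf29 yf51 zf1) (kf xf22 yf53 zf42) (kf xf31 yf56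 zf7) (kf xf32 yf20 zf2) (kf xf21 yf39 zf49) (kf xf27 yf21 zf56) (kf xf27 yf13 zf22) (kf xf27 yf13 zf15) (kf xf21 yf39 zf51) (kf xf23 yf47 zf6) (kf xf25 yf57 zf23) (kf xf32 yf19 zf24) (kf xf30 yf6 zf61) (kf xf23 yf53 zf8) (kf xf27 yf9 zf42) (kf xf29 yf19 zf13) (kf xf23 yf58 zf20) (kf xf28 yf17 zf17) (kf xf30 yf6 zf55)) (@D3.rec (fun _ => Pt) (kf xf22 yf22 zf57) (kf xf30 yf21 zf50) (kf xf32 yf22 zf41) (kf xf22 yf0 zf47) (kf xf26 yf40 zf35) (kf xf30 yf14 zf10) (kf xf23 yf49 zf8) (kf xf27 yf38 zf20) (kf xf27 yf37 zf36) (kf xf24 yf48 zf53) (kf xf24 yf19 zf20) (kf xf31 yf12 zf26) (kf xf32 yf2 zf44) (kf xf25 yf36 zf39) (kf xf30 yf25 zf0) (kf xf21 yf40 zf53) (kf xf32 yf1 zf23) (kf xf24 yf31 zf33) (kf xf24 yf31 zf43) (kf xf32 yf50 zf18) (kf xf24 yf31 zf46) (kf xf26 yf7 zf25)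 (kf xf24 yf31 zf31) (kf xf24 yf31 zf32) (kf xf30 yf59 zf40) (kf xf21 yf41 zf0) (kf xf32 yf3 zf7) (kf xf22 yf37 zf41) (kf xf31 yf3 zf24) (kf xf23 yf48 zf28) (kf xf28 yf15 zf27) (kf xf30 yf44 zf53) (kf xf28 yf22 zf47) (kf xf30 yf56 zf15) (kf xf28 yf25 zf10) (kf xf24 yf1 zf57) (kf xf23 yf37 zf21) (kf xf29 yf22 zf37) (kf xf31 yf14 zf20) (kf xf27 yf20 zf3) (kf xf21 yf57 zf30) (kf xf21 yf46 zf29) (kf xf21 yf46 zf51) (kf xf21 yf46 zf52) (kf xf21 yf46 zf53) (kf xf21 yf47 zf2) (kf xf21 yf47 zf1) (kf xf25 yf11 zf7) (kf xf21 yf47 zf61) (kf xf21 yf48 zf8) (kf xf21 yf48 zf36) (kf xf21 yf48 zf37) (kf xf31 yf36 zf15) (kf xf31 yf54 zf10) (kf xf21 yf48 zf47) (kf xf21 yf48 zf46) (kf xf21 yf49 zf4) (kf xf31 yf18 zf26) (kf xf24 yf20 zf55) (kf xf32 yf42 zf59) (kf xf30 yf37 zf11) (kf xf31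 yf55 zf4)) (@D3.rec (fun _ => Pt) (kf xf21 yf43 zf32) (kf xf29 yf53 zf33) (kf xf31 yf32 zf28) (kf xf30 yf54 zf23) (kf xf32 yf0 zf38) (kf xf21 yf43 zf46) (kf xf32 yf0 zf39) (kf xf32 yf0 zf37) (kf xf29 yf11 zf29) (kf xf31 yf27 zf2) (kf xf29 yf24 zf28) (kf xf21 yf43 zf57) (kf xf23 yf49 zf39) (kf xf29 yf13 zf43) (kf xf23 yf54 zf3) (kf xf21 yf52 zf52) (kf xf24 yf8 zf36) (kf xf30 yf51 zf45) (kf xf21 yf45 zf9) (kf xf29 yf36 zf20) (kf xf29 yf42 zf60) (kf xf31 yf29 zf34) (kf xf31 yf18 zf25) (kf xf31 yf32 zf24) (kf xf28 yf41 zf33) (kf xf24 yf41 zf26) (kf xf21 yf45 zf22) (kf xf29 yf23 zf8) (kf xf24 yf22 zf30) (kf xf24 yf7 zf26) (kf xf21 yf45 zf39) (kf xf24 yf2 zf23) (kf xf29 yf15 zf61) (kf xf28 yf1 zf16) (kf xf29 yf50 zf59) (kf xf25 yf7 zf29) (kf xf21 yf50 zf4) (kf xf21 yf57 zf24)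 (kf xf21 yf59 zf33) (kf xf30 yf11 zf10) (kf xf30 yf11 zf30) (kf xf29 yf36 zf21) (kf xf21 yf50 zf7) (kf xf31 yf37 zf27) (kf xf30 yf11 zf5) (kf xf24 yf43 zf31) (kf xf25 yf27 zf13) (kf xf25 yf29 zf51) (kf xf25 yf32 zf1) (kf xf25 yf58 zf7) (kf xf30 yf14 zf36) (kf xf22 yf10 zf17) (kf xf24 yf45 zf21) (kf xf21 yf46 zf55) (kf xf21 yf46 zf58) (kf xf29 yf59 zf53) (kf xf23 yf34 zf41) (kf xf27 yf24 zf30) (kf xf30 yf17 zf50) (kf xf30 yf0 zf33) (kf xf21 yf47 zf4) (kf xf24 yf41 zf24)) (@D3.rec (fun _ => Pt) (kf xf24 yf20 zf26) (kf xf31 yf11 zf28) (kf xf23 yf12 zf55) (kf xf24 yf3 zf57) (kf xf29 yf38 zf61) (kf xf21 yf47 zf42) (kf xf28 yf41 zf26) (kf xf29 yf38 zf58) (kf xf28 yf52 zf54) (kf xf31 yf59 zf38) (kf xf22 yf26 zf55) (kf xf23 yf48 zf9) (kf xf28 yf42 zf57) (kf xf30 yf11 zf16)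 (kf xf24 yf37 zf34) (kf xf30 yf11 zf15) (kf xf29 yf22 zf8) (kf xf28 yf59 zf34) (kf xf28 yf59 zf19) (kf xf30 yf12 zf29) (kf xf29 yf23 zf1) (kf xf32 yf50 zf29) (kf xf21 yf47 zf60) (kf xf23 yf56 zf49) (kf xf31 yf56 zf2) (kf xf21 yf48 zf1) (kf xf25 yf32 zf5) (kf xf26 yf59 zf45) (kf xf25 yf8 zf55) (kf xf31 yf21 zf6) (kf xf29 yf59 zf20) (kf xf29 yf59 zf19) (kf xf25 yf8 zf57) (kf xf25 yf30 zf41) (kf xf25 yf59 zf59) (kf xf27 yf36 zf10) (kf xf31 yf34 zf45) (kf xf26 yf34 zf31) (kf xf26 yf34 zf37) (kf xf27 yf19 zf46) (kf xf26 yf44 zf37) (kf xf29 yf3 zf49) (kf xf29 yf3 zf31) (kf xf25 yf4 zf21) (kf xf30 yf11 zf18) (kf xf30 yf11 zf19) (kf xf23 yf1 zf35) (kf xf30 yf11 zf20) (kf xf29 yf3 zf28) (kf xf21 yf48 zf34) (kf xf31 yf20 zf29) (kf xf25 yf13 zf10) (kf xf25 yf10 zf52) (kf xf31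 yf55 zf21) (kf xf32 yf50 zf25) (kf xf32 yf42 zf27) (kf xf30 yf56 zf32) (kf xf21 yf48 zf41) (kf xf21 yf48 zf39) (kf xf29 yf56 zf29) (kf xf31 yf3 zf27) (kf xf31 yf3 zf31)) (@D3.rec (fun _ => Pt) (kf xf24 yf40 zf8) (kf xf29 yf5 zf30) (kf xf31 yf47 zf17) (kf xf30 yf6 zf13) (kf xf29 yf5 zf23) (kf xf29 yf5 zf22) (kf xf21 yf48 zf45) (kf xf27 yf4 zf16) (kf xf31 yf47 zf7) (kf xf23 yf40 zf27) (kf xf32 yf50 zf6) (kf xf31 yf11 zf20) (kf xf21 yf48 zf56) (kf xf31 yf37 zf61) (kf xf30 yf10 zf24) (kf xf30 yf10 zf25) (kf xf30 yf6 zf11) (kf xf30 yf6 zf12) (kf xf29 yf55 zf12) (kf xf31 yf5 zf26) (kf xf24 yf22 zf9) (kf xf30 yf55 zf55) (kf xf28 yf56 zf55) (kf xf31 yf37 zf39) (kf xf30 yf10 zf14) (kf xf30 yf10 zf15) (kf xf32 yf49 zf46) (kf xf30 yf35 zf54) (kf xf24 yf27 zf5) (kf xf23 yf27 zf47)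 (kf xf31 yf36 zf18) (kf xf32 yf16 zf20) (kf xf31 yf3 zf17) (kf xf21 yf49 zf15) (kf xf25 yf38 zf29) (kf xf25 yf39 zf38) (kf xf30 yf33 zf35) (kf xf25 yf40 zf8) (kf xf25 yf40 zf9) (kf xf31 yf57 zf41) (kf xf25 yf40 zf12) (kf xf25 yf40 zf13) (kf xf31 yf57 zf40) (kf xf25 yf40 zf17) (kf xf25 yf30 zf20) (kf xf31 yf16 zf47) (kf xf30 yf33 zf26) (kf xf21 yf49 zf22) (kf xf30 yf42 zf3) (kf xf29 yf59 zf37) (kf xf29 yf59 zf36) (kf xf21 yf49 zf24) (kf xf23 yf27 zf33) (kf xf21 yf49 zf26) (kf xf29 yf5 zf26) (kf xf31 yf54 zf58) (kf xf31 yf54 zf36) (kf xf24 yf34 zf45) (kf xf21 yf49 zf32) (kf xf31 yf10 zf14) (kf xf31 yf9 zf1) (kf xf28 yf23 zf0)) (@D3.rec (fun _ => Pt) (kf xf23 yf5 zf61) (kf xf29 yf35 zf10) (kf xf21 yf58 zf37) (kf xf27 yf10 zf42) (kf xf32 yf3 zf21) (kf xf30 yf8 zf44) (kf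 xf27 yf37 zf54) (kf xf21 yf50 zf5) (kf xf27 yf26 zf37) (kf xf31 yf58 zf25) (kf xf30 yf8 zf39) (kf xf32 yf24 zf43) (kf xf29 yf6 zf47) (kf xf21 yf50 zf18) (kf xf32 yf3 zf6) (kf xf30 yf9 zf15) (kf xf30 yf9 zf13) (kf xf25 yf46 zf10) (kf xf30 yf9 zf44) (kf xf30 yf9 zf45) (kf xf30 yf9 zf47) (kf xf32 yf41 zf56) (kf xf25 yf13 zf39) (kf xf29 yf28 zf17) (kf xf26 yf46 zf56) (kf xf24 yf16 zf57) (kf xf32 yf42 zf10) (kf xf24 yf19 zf14) (kf xf27 yf37 zf39) (kf xf30 yf17 zf0) (kf xf30 yf8 zf40) (kf xf30 yf46 zf1) (kf xf30 yf38 zf52) (kf xf31 yf43 zf28) (kf xf29 yf1 zf2) (kf xf24 yf25 zf22) (kf xf27 yf46 zf30) (kf xf31 yf25 zf53) (kf xf27 yf16 zf3) (kf xf24 yf25 zf26) (kf xf24 yf1 zf7) (kf xf30 yf30 zf14) (kf xf24 yf21 zf25) (kf xf24 yf3 zf1) (kf xf28 yf39 zf8) (kf xf22 yf35 zf38) (kf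 xf22 yf58 zf51) (kf xf22 yf46 zf47) (kf xf21 yf52 zf37) (kf xf24 yf21 zf41) (kf xf32 yf50 zf39) (kf xf24 yf21 zf38) (kf xf22 yf19 zf20) (kf xf21 yf52 zf41) (kf xf24 yf9 zf51) (kf xf21 yf52 zf44) (kf xf24 yf21 zf37) (kf xf22 yf19 zf39) (kf xf24 yf21 zf45) (kf xf24 yf21 zf52) (kf xf24 yf40 zf33) (kf xf23 yf46 zf5)) (@D3.rec (fun _ => Pt) (kf xf22 yf40 zf56) (kf xf21 yf52 zf53) (kf xf31 yf33 zf14) (kf xf31 yf28 zf27) (kf xf21 yf52 zf56) (kf xf23 yf6 zf28) (kf xf24 yf27 zf33) (kf xf24 yf19 zf28) (kf xf24 yf19 zf25) (kf xf24 yf19 zf32) (kf xf24 yf19 zf33) (kf xf31 yf53 zf42) (kf xf23 yf12 zf28) (kf xf30 yf17 zf7) (kf xf29 yf21 zf60) (kf xf23 yf16 zf2) (kf xf24 yf47 zf41) (kf xf29 yf57 zf25) (kf xf26 yf25 zf34) (kf xf28 yf19 zf0) (kf xf32 yf9 zf19) (kf xf31 yf58 zf13) (kf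 xf31 yf13 zf16) (kf xf30 yf47 zf48) (kf xf31 yf52 zf53) (kf xf21 yf59 zf44) (kf xf31 yf49 zf25) (kf xf31 yf33 zf22) (kf xf21 yf54 zf14) (kf xf30 yf9 zf19) (kf xf29 yf53 zf54) (kf xf26 yf22 zf4) (kf xf27 yf43 zf20) (kf xf29 yf22 zf13) (kf xf29 yf53 zf44) (kf xf21 yf54 zf45) (kf xf27 yf11 zf32) (kf xf24 yf34 zf22) (kf xf26 yf12 zf25) (kf xf21 yf55 zf25) (kf xf28 yf28 zf50) (kf xf26 yf19 zf37) (kf xf23 yf13 zf1) (kf xf28 yf32 zf19) (kf xf24 yf20 zf0) (kf xf28 yf32 zf17) (kf xf23 yf13 zf61) (kf xf30 yf2 zf12) (kf xf31 yf7 zf9) (kf xf24 yf36 zf6) (kf xf29 yf55 zf18) (kf xf30 yf41 zf9) (kf xf23 yf41 zf2) (kf xf23 yf55 zf16) (kf xf28 yf53 zf54) (kf xf30 yf0 zf29) (kf xf30 yf0 zf31) (kf xf27 yf4 zf41) (kf xf23 yf3 zf11) (kf xf23 yf3 zf7) (kf xf30 yf42 zf22) (kf xf30 yf42 zf23))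 (@D3.rec (fun _ => Pt) (kf xf32 yf48 zf27) (kf xf31 yf45 zf21) (kf xf29 yf51 zf26) (kf xf31 yf4 zf32) (kf xf32 yf6 zf21) (kf xf28 yf4 zf0) (kf xf29 yf51 zf43) (kf xf25 yf2 zf24) (kf xf29 yf51 zf41) (kf xf27 yf57 zf60) (kf xf31 yf37 zf29) (kf xf30 yf20 zf0) (kf xf31 yf37 zf30) (kf xf23 yf32 zf10) (kf xf31 yf0 zf59) (kf xf21 yf56 zf40) (kf xf30 yf51 zf55) (kf xf31 yf0 zf60) (kf xf30 yf2 zf30) (kf xf31 yf0 zf61) (kf xf26 yf8 zf27) (kf xf30 yf37 zf38) (kf xf30 yf1 zf51) (kf xf29 yf0 zf11) (kf xf21 yf56 zf9) (kf xf23 yf33 zf0) (kf xf21 yf56 zf18) (kf xf23 yf25 zf1) (kf xf22 yf58 zf19) (kf xf26 yf0 zf55) (kf xf25 yf44 zf10) (kf xf28 yf40 zf59) (kf xf23 yf31 zf54) (kf xf23 yf30 zf58) (kf xf32 yf9 zf53) (kf xf32 yf48 zf28) (kf xf30 yf17 zf45) (kf xf31 yf5 zf31) (kf xf23 yf43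 zf38) (kf xf30 yf17 zf46) (kf xf31 yf6 zf38) (kf xf23 yf46 zf21) (kf xf23 yf46 zf22) (kf xf23 yf33 zf27) (kf xf32 yf49 zf49) (kf xf30 yf17 zf43) (kf xf31 yf1 zf10) (kf xf31 yf7 zf54) (kf xf29 yf10 zf50) (kf xf30 yf33 zf34) (kf xf30 yf42 zf28) (kf xf31 yf5 zf0) (kf xf30 yf33 zf18) (kf xf30 yf33 zf19) (kf xf26 yf8 zf56) (kf xf30 yf33 zf17) (kf xf30 yf33 zf11) (kf xf30 yf33 zf10) (kf xf21 yf56 zf54) (kf xf21 yf56 zf56) (kf xf32 yf5 zf13) (kf xf21 yf56 zf59)) (@D3.rec (fun _ => Pt) (kf xf22 yf42 zf21) (kf xf30 yf33 zf52) (kf xf30 yf33 zf43) (kf xf30 yf52 zf15) (kf xf21 yf57 zf5) (kf xf21 yf57 zf8) (kf xf27 yf48 zf12) (kf xf21 yf58 zf48) (kf xf29 yf27 zf14) (kf xf21 yf57 zf36) (kf xf30 yf7 zf5) (kf xf27 yf43 zf54) (kf xf25 yf50 zf36) (kf xf25 yf14 zf16) (kf xf25 yf14 zf18)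 (kf xf23 yf8 zf18) (kf xf25 yf18 zf18) (kf xf31 yf46 zf37) (kf xf25 yf11 zf21) (kf xf21 yf59 zf37) (kf xf30 yf4 zf24) (kf xf26 yf15 zf17) (kf xf32 yf5 zf27) (kf xf29 yf38 zf42) (kf xf21 yf58 zf51) (kf xf22 yf1 zf30) (kf xf30 yf14 zf27) (kf xf30 yf14 zf26) (kf xf25 yf11 zf11) (kf xf30 yf20 zf10) (kf xf29 yf13 zf16) (kf xf22 yf10 zf5) (kf xf25 yf11 zf61) (kf xf26 yf16 zf58) (kf xf29 yf58 zf24) (kf xf21 yf59 zf35) (kf xf30 yf8 zf50) (kf xf31 yf50 zf36) (kf xf32 yf45 zf21) (kf xf25 yf35 zf22) (kf xf28 yf2 zf4) (kf xf32 yf5 zf26) (kf xf31 yf48 zf27) (kf xf22 yf5 zf3) (kf xf28 yf46 zf42) (kf xf23 yf49 zf9) (kf xf31 yf33 zf33) (kf xf23 yf49 zf12) (kf xf31 yf12 zf37) (kf xf22 yf0 zf42) (kf xf28 yf24 zf4) (kf xf22 yf0 zf48) (kf xf22 yf0 zf51) (kf xf32 yf41 zf45) (kf xf22 yf1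 zf9) (kf xf22 yf1 zf20) (kf xf22 yf1 zf21) (kf xf30 yf29 zf59) (kf xf22 yf1 zf24) (kf xf22 yf1 zf27) (kf xf32 yf1 zf0) (kf xf22 yf25 zf21)) (@D3.rec (fun _ => Pt) (kf xf22 yf2 zf25) (kf xf31 yf21 zf4) (kf xf31 yf33 zf44) (kf xf32 yf23 zf29) (kf xf24 yf44 zf51) (kf xf31 yf45 zf24) (kf xf31 yf0 zf30) (kf xf28 yf25 zf1) (kf xf28 yf25 zf4) (kf xf27 yf6 zf52) (kf xf30 yf31 zf22) (kf xf27 yf2 zf54) (kf xf26 yf45 zf23) (kf xf32 yf32 zf51) (kf xf32 yf45 zf32) (kf xf32 yf37 zf16) (kf xf24 yf29 zf46) (kf xf24 yf29 zf45) (kf xf22 yf0 zf43) (kf xf24 yf29 zf43) (kf xf22 yf0 zf60) (kf xf22 yf0 zf45) (kf xf24 yf5 zf53) (kf xf32 yf45 zf36) (kf xf32 yf50 zf16) (kf xf24 yf25 zf23) (kf xf32 yf45 zf28) (kf xf31 yf46 zf56) (kf xf22 yf25 zf20) (kf xf32 yf41 zf11) (kf xf32 yf50 zf55) (kf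 xf24 yf26 zf46) (kf xf30 yf16 zf21) (kf xf24 yf30 zf15) (kf xf24 yf24 zf57) (kf xf28 yf48 zf52) (kf xf27 yf16 zf21) (kf xf27 yf16 zf22) (kf xf28 yf49 zf4) (kf xf22 yf1 zf1) (kf xf32 yf37 zf27) (kf xf30 yf16 zf32) (kf xf30 yf16 zf30) (kf xf32 yf45 zf42) (kf xf22 yf1 zf7) (kf xf31 yf31 zf17) (kf xf31 yf18 zf4) (kf xf32 yf22 zf55) (kf xf23 yf56 zf31) (kf xf30 yf28 zf55) (kf xf27 yf16 zf9) (kf xf31 yf53 zf43) (kf xf30 yf29 zf55) (kf xf22 yf1 zf19) (kf xf27 yf0 zf36) (kf xf32 yf11 zf26) (kf xf32 yf38 zf61) (kf xf32 yf50 zf56) (kf xf32 yf24 zf0) (kf xf22 yf1 zf22) (kf xf30 yf29 zf24) (kf xf28 yf53 zf3)) (@D3.rec (fun _ => Pt) (kf xf28 yf52 zf32) (kf xf28 yf52 zf42) (kf xf28 yf54 zf9) (kf xf30 yf25 zf48) (kf xf27 yf16 zf26) (kf xf27 yf16 zf29) (kf xf32 yf47 zf40) (kf xf32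 yf14 zf6) (kf xf27 yf0 zf18) (kf xf27 yf0 zf14) (kf xf22 yf1 zf31) (kf xf22 yf1 zf34) (kf xf22 yf1 zf33) (kf xf28 yf54 zf17) (kf xf26 yf38 zf39) (kf xf26 yf34 zf30) (kf xf22 yf1 zf32) (kf xf30 yf29 zf8) (kf xf29 yf44 zf24) (kf xf29 yf33 zf36) (kf xf29 yf44 zf26) (kf xf30 yf15 zf32) (kf xf31 yf24 zf30) (kf xf32 yf23 zf28) (kf xf28 yf24 zf5) (kf xf24 yf1 zf17) (kf xf32 yf23 zf27) (kf xf32 yf20 zf60) (kf xf32 yf20 zf61) (kf xf22 yf1 zf44) (kf xf30 yf15 zf42) (kf xf30 yf48 zf47) (kf xf30 yf15 zf41) (kf xf30 yf16 zf43) (kf xf31 yf7 zf30) (kf xf30 yf16 zf44) (kf xf24 yf4 zf56) (kf xf31 yf20 zf24) (kf xf31 yf20 zf27) (kf xf32 yf38 zf35) (kf xf31 yf1 zf56) (kf xf22 yf2 zf60) (kf xf31 yf24 zf48) (kf xf30 yf16 zf33) (kf xf30 yf16 zf35) (kf xf31 yf49 zf7) (kf xf31 yf37 zf53) (kf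 xf31 yf49 zf8) (kf xf32 yf14 zf37) (kf xf25 yf9 zf36) (kf xf31 yf37 zf28) (kf xf22 yf2 zf18) (kf xf32 yf24 zf23) (kf xf25 yf7 zf22) (kf xf22 yf2 zf19) (kf xf27 yf14 zf3) (kf xf32 yf22 zf31) (kf xf30 yf3 zf52) (kf xf31 yf37 zf24) (kf xf25 yf41 zf48) (kf xf31 yf3 zf5) (kf xf29 yf11 zf8)) (@D3.rec (fun _ => Pt) (kf xf30 yf11 zf29) (kf xf32 yf8 zf46) (kf xf28 yf47 zf24) (kf xf23 yf1 zf55) (kf xf29 yf49 zf18) (kf xf31 yf57 zf15) (kf xf26 yf23 zf44) (kf xf30 yf12 zf13) (kf xf22 yf3 zf10) (kf xf31 yf55 zf24) (kf xf32 yf13 zf13) (kf xf27 yf11 zf35) (kf xf26 yf58 zf19) (kf xf29 yf42 zf59) (kf xf28 yf44 zf57) (kf xf32 yf12 zf47) (kf xf31 yf55 zf46) (kf xf32 yf38 zf26) (kf xf32 yf11 zf18) (kf xf28 yf27 zf58) (kf xf29 yf45 zf38) (kf xf31 yf33 zf0) (kf xf31 yf19 zf44) (kf xf32 yf13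 zf16) (kf xf31 yf13 zf24) (kf xf32 yf12 zf56) (kf xf32 yf11 zf31) (kf xf29 yf34 zf35) (kf xf29 yf45 zf47) (kf xf22 yf4 zf19) (kf xf27 yf19 zf4) (kf xf32 yf13 zf1) (kf xf29 yf46 zf30) (kf xf29 yf46 zf27) (kf xf31 yf19 zf21) (kf xf32 yf46 zf47) (kf xf32 yf46 zf46) (kf xf31 yf26 zf0) (kf xf29 yf49 zf56) (kf xf29 yf59 zf43) (kf xf30 yf59 zf26) (kf xf22 yf4 zf44) (kf xf30 yf19 zf38) (kf xf30 yf13 zf45) (kf xf26 yf3 zf24) (kf xf30 yf13 zf36) (kf xf30 yf13 zf39) (kf xf22 yf4 zf40) (kf xf28 yf18 zf7) (kf xf27 yf43 zf16) (kf xf30 yf8 zf58) (kf xf29 yf20 zf21) (kf xf27 yf38 zf19) (kf xf30 yf0 zf48) (kf xf27 yf24 zf0) (kf xf25 yf52 zf61) (kf xf24 yf4 zf48) (kf xf28 yf55 zf49) (kf xf28 yf56 zf10) (kf xf22 yf10 zf21) (kf xf30 yf18 zf15) (kf xf32 yf4 zf58)) (@D3.rec (fun _ => Pt)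 (kf xf32 yf3 zf43) (kf xf22 yf5 zf27) (kf xf27 yf41 zf33) (kf xf27 yf24 zf11) (kf xf27 yf41 zf13) (kf xf27 yf41 zf31) (kf xf27 yf12 zf49) (kf xf29 yf0 zf57) (kf xf22 yf5 zf50) (kf xf31 yf43 zf46) (kf xf31 yf50 zf14) (kf xf23 yf42 zf39) (kf xf28 yf9 zf16) (kf xf27 yf36 zf44) (kf xf31 yf57 zf59) (kf xf30 yf17 zf60) (kf xf24 yf33 zf58) (kf xf26 yf5 zf60) (kf xf22 yf12 zf0) (kf xf28 yf37 zf38) (kf xf28 yf37 zf39) (kf xf22 yf11 zf53) (kf xf22 yf23 zf20) (kf xf22 yf7 zf11) (kf xf22 yf7 zf13) (kf xf32 yf51 zf11) (kf xf22 yf6 zf37) (kf xf30 yf5 zf46) (kf xf22 yf6 zf49) (kf xf30 yf47 zf22) (kf xf30 yf38 zf34) (kf xf32 yf24 zf20) (kf xf23 yf54 zf28) (kf xf30 yf23 zf47) (kf xf31 yf13 zf39) (kf xf32 yf8 zf30) (kf xf32 yf33 zf13) (kf xf22 yf6 zf51) (kf xf26 yf53 zf44) (kf xf26 yf53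 zf46) (kf xf30 yf5 zf59) (kf xf31 yf27 zf29) (kf xf23 yf12 zf29) (kf xf22 yf57 zf40) (kf xf31 yf53 zf35) (kf xf25 yf34 zf25) (kf xf22 yf52 zf56) (kf xf27 yf3 zf4) (kf xf22 yf52 zf50) (kf xf32 yf34 zf20) (kf xf27 yf15 zf55) (kf xf25 yf9 zf40) (kf xf25 yf43 zf60) (kf xf28 yf36 zf60) (kf xf23 yf52 zf50) (kf xf27 yf59 zf4) (kf xf32 yf20 zf16) (kf xf23 yf48 zf57) (kf xf30 yf26 zf47) (kf xf29 yf0 zf4) (kf xf32 yf51 zf9) (kf xf24 yf6 zf38)) (@D3.rec (fun _ => Pt) (kf xf32 yf48 zf3) (kf xf30 yf49 zf51) (kf xf32 yf49 zf61) (kf xf32 yf39 zf46) (kf xf32 yf51 zf10) (kf xf32 yf33 zf14) (kf xf32 yf43 zf32) (kf xf22 yf7 zf14) (kf xf27 yf8 zf19) (kf xf27 yf8 zf56) (kf xf27 yf7 zf25) (kf xf32 yf51 zf30) (kf xf32 yf21 zf29) (kf xf27 yf7 zf1) (kf xf32 yf23 zf24) (kf xf25 yf54 zf39) (kf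 xf25 yf54 zf46) (kf xf31 yf20 zf3) (kf xf32 yf35 zf21) (kf xf22 yf7 zf30) (kf xf29 yf5 zf49) (kf xf29 yf44 zf46) (kf xf31 yf19 zf41) (kf xf31 yf51 zf2) (kf xf25 yf20 zf3) (kf xf32 yf25 zf17) (kf xf31 yf10 zf50) (kf xf26 yf40 zf7) (kf xf30 yf19 zf47) (kf xf26 yf42 zf34) (kf xf26 yf42 zf1) (kf xf23 yf22 zf15) (kf xf29 yf56 zf34) (kf xf27 yf17 zf19) (kf xf31 yf43 zf45) (kf xf31 yf27 zf32) (kf xf23 yf55 zf59) (kf xf28 yf50 zf47) (kf xf30 yf17 zf42) (kf xf24 yf40 zf0) (kf xf29 yf39 zf15) (kf xf23 yf50 zf17) (kf xf30 yf5 zf26) (kf xf28 yf18 zf61) (kf xf24 yf42 zf44) (kf xf25 yf56 zf25) (kf xf31 yf45 zf49) (kf xf30 yf19 zf28) (kf xf29 yf50 zf56) (kf xf25 yf36 zf19) (kf xf25 yf36 zf16) (kf xf23 yf57 zf12) (kf xf24 yf13 zf35) (kf xf23 yf50 zf49) (kf xf22 yf54 zf61) (kf xf24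 yf35 zf0) (kf xf25 yf33 zf22) (kf xf31 yf23 zf19) (kf xf29 yf51 zf3) (kf xf31 yf48 zf41) (kf xf25 yf28 zf24) (kf xf25 yf28 zf26)) (@D3.rec (fun _ => Pt) (kf xf30 yf13 zf11) (kf xf25 yf35 zf8) (kf xf25 yf35 zf41) (kf xf25 yf35 zf29) (kf xf27 yf2 zf56) (kf xf28 yf50 zf36) (kf xf27 yf3 zf55) (kf xf24 yf20 zf39) (kf xf29 yf11 zf14) (kf xf30 yf42 zf34) (kf xf30 yf14 zf29) (kf xf29 yf49 zf34) (kf xf23 yf43 zf41) (kf xf31 yf56 zf41) (kf xf30 yf1 zf39) (kf xf30 yf1 zf40) (kf xf32 yf50 zf37) (kf xf24 yf43 zf35) (kf xf31 yf13 zf4) (kf xf30 yf1 zf44) (kf xf31 yf4 zf13) (kf xf25 yf34 zf8) (kf xf30 yf6 zf19) (kf xf27 yf16 zf4) (kf xf27 yf16 zf5) (kf xf29 yf13 zf38) (kf xf28 yf3 zf22) (kf xf27 yf56 zf2) (kf xf27 yf46 zf45) (kf xf30 yf1 zf10) (kf xf28 yf42 zf55) (kf xf24 yf14 zf17)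 (kf xf30 yf27 zf38) (kf xf23 yf35 zf34) (kf xf23 yf38 zf21) (kf xf31 yf6 zf18) (kf xf23 yf39 zf55) (kf xf23 yf16 zf24) (kf xf23 yf45 zf12) (kf xf23 yf16 zf25) (kf xf23 yf16 zf3) (kf xf28 yf40 zf61) (kf xf31 yf31 zf4) (kf xf23 yf48 zf49) (kf xf30 yf45 zf34) (kf xf30 yf32 zf15) (kf xf32 yf51 zf33) (kf xf30 yf32 zf17) (kf xf24 yf6 zf61) (kf xf22 yf12 zf33) (kf xf29 yf1 zf30) (kf xf22 yf13 zf15) (kf xf22 yf13 zf17) (kf xf22 yf13 zf19) (kf xf22 yf13 zf53) (kf xf22 yf25 zf54) (kf xf22 yf25 zf55) (kf xf22 yf25 zf53) (kf xf22 yf14 zf28) (kf xf22 yf14 zf18) (kf xf22 yf14 zf17) (kf xf30 yf22 zf1)) (@D3.rec (fun _ => Pt) (kf xf31 yf0 zf12) (kf xf30 yf24 zf30) (kf xf31 yf0 zf13) (kf xf22 yf17 zf3) (kf xf22 yf17 zf2) (kf xf22 yf12 zf53) (kf xf22 yf17 zf16) (kf xf32 yf42 zf39) (kf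 xf22 yf17 zf13) (kf xf22 yf12 zf58) (kf xf29 yf53 zf53) (kf xf30 yf28 zf28) (kf xf24 yf38 zf42) (kf xf30 yf28 zf12) (kf xf27 yf53 zf53) (kf xf32 yf34 zf29) (kf xf31 yf20 zf4) (kf xf30 yf56 zf53) (kf xf23 yf48 zf42) (kf xf31 yf20 zf12) (kf xf30 yf37 zf49) (kf xf31 yf36 zf36) (kf xf30 yf48 zf58) (kf xf30 yf28 zf26) (kf xf27 yf13 zf46) (kf xf32 yf43 zf58) (kf xf32 yf35 zf20) (kf xf32 yf47 zf28) (kf xf31 yf13 zf31) (kf xf31 yf26 zf6) (kf xf31 yf26 zf8) (kf xf32 yf20 zf48) (kf xf30 yf45 zf6) (kf xf32 yf51 zf34) (kf xf32 yf46 zf23) (kf xf31 yf41 zf60) (kf xf32 yf4 zf25) (kf xf32 yf35 zf61) (kf xf22 yf13 zf20) (kf xf23 yf19 zf27) (kf xf29 yf35 zf42) (kf xf32 yf37 zf9) (kf xf22 yf13 zf24) (kf xf30 yf22 zf42) (kf xf30 yf29 zf15) (kf xf30 yf29 zf18) (kf xf32 yf19 zf32) (kf xf31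 yf38 zf10) (kf xf24 yf15 zf46) (kf xf23 yf47 zf12) (kf xf30 yf7 zf1) (kf xf30 yf38 zf42) (kf xf27 yf13 zf42) (kf xf23 yf52 zf51) (kf xf30 yf28 zf10) (kf xf32 yf46 zf25) (kf xf22 yf33 zf18) (kf xf30 yf28 zf30) (kf xf30 yf28 zf25) (kf xf32 yf51 zf57) (kf xf32 yf33 zf58) (kf xf32 yf51 zf54)) (@D3.rec (fun _ => Pt) (kf xf22 yf13 zf42) (kf xf30 yf20 zf61) (kf xf30 yf28 zf23) (kf xf30 yf28 zf24) (kf xf30 yf28 zf9) (kf xf31 yf31 zf24) (kf xf31 yf31 zf23) (kf xf31 yf31 zf18) (kf xf28 yf52 zf8) (kf xf30 yf30 zf33) (kf xf23 yf48 zf15) (kf xf30 yf30 zf28) (kf xf23 yf48 zf13) (kf xf32 yf39 zf57) (kf xf32 yf36 zf31) (kf xf32 yf51 zf15) (kf xf31 yf13 zf38) (kf xf22 yf13 zf56) (kf xf22 yf13 zf55) (kf xf32 yf52 zf8) (kf xf31 yf15 zf15) (kf xf31 yf1 zf50) (kf xf30 yf23 zf41) (kf xf22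 yf13 zf54) (kf xf32 yf52 zf7) (kf xf30 yf49 zf61) (kf xf31 yf7 zf1) (kf xf22 yf19 zf41) (kf xf22 yf19 zf40) (kf xf32 yf46 zf31) (kf xf32 yf21 zf60) (kf xf29 yf35 zf17) (kf xf26 yf53 zf55) (kf xf29 yf36 zf42) (kf xf29 yf36 zf30) (kf xf28 yf37 zf46) (kf xf28 yf30 zf46) (kf xf30 yf32 zf23) (kf xf24 yf23 zf26) (kf xf29 yf39 zf28) (kf xf22 yf14 zf11) (kf xf29 yf37 zf1) (kf xf30 yf21 zf43) (kf xf22 yf14 zf14) (kf xf30 yf31 zf18) (kf xf30 yf31 zf19) (kf xf32 yf17 zf1) (kf xf32 yf45 zf57) (kf xf23 yf7 zf29) (kf xf30 yf36 zf59) (kf xf24 yf39 zf53) (kf xf31 yf15 zf45) (kf xf29 yf36 zf35) (kf xf27 yf36 zf0) (kf xf22 yf18 zf38) (kf xf22 yf18 zf34) (kf xf30 yf31 zf29) (kf xf30 yf31 zf30) (kf xf32 yf33 zf23) (kf xf31 yf13 zf35) (kf xf30 yf30 zf25) (kf xf30 yf39 zf42)) (@D3.rec (fun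 _ => Pt) (kf xf29 yf36 zf47) (kf xf30 yf37 zf43) (kf xf23 yf46 zf3) (kf xf28 yf15 zf4) (kf xf29 yf9 zf3) (kf xf23 yf2 zf58) (kf xf27 yf55 zf38) (kf xf22 yf18 zf11) (kf xf28 yf3 zf42) (kf xf28 yf3 zf41) (kf xf31 yf1 zf21) (kf xf28 yf44 zf7) (kf xf26 yf19 zf32) (kf xf28 yf29 zf54) (kf xf31 yf55 zf55) (kf xf27 yf30 zf0) (kf xf27 yf29 zf61) (kf xf22 yf15 zf14) (kf xf32 yf14 zf23) (kf xf32 yf25 zf0) (kf xf28 yf22 zf42) (kf xf25 yf1 zf34) (kf xf26 yf15 zf35) (kf xf28 yf2 zf23) (kf xf32 yf25 zf31) (kf xf23 yf51 zf56) (kf xf23 yf51 zf55) (kf xf22 yf15 zf40) (kf xf28 yf25 zf37) (kf xf30 yf51 zf24) (kf xf23 yf50 zf61) (kf xf24 yf59 zf3) (kf xf22 yf28 zf33) (kf xf23 yf47 zf27) (kf xf23 yf47 zf21) (kf xf27 yf8 zf27) (kf xf22 yf41 zf41) (kf xf32 yf51 zf8) (kf xf30 yf3 zf56) (kf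 xf32 yf52 zf11) (kf xf30 yf35 zf58) (kf xf30 yf22 zf22) (kf xf30 yf35 zf57) (kf xf24 yf19 zf50) (kf xf29 yf35 zf25) (kf xf22 yf27 zf1) (kf xf22 yf27 zf0) (kf xf30 yf18 zf33) (kf xf22 yf16 zf26) (kf xf28 yf23 zf43) (kf xf22 yf16 zf30) (kf xf32 yf41 zf23) (kf xf22 yf16 zf19) (kf xf31 yf29 zf48) (kf xf31 yf16 zf34) (kf xf28 yf23 zf51) (kf xf28 yf23 zf28) (kf xf30 yf51 zf0) (kf xf32 yf18 zf16) (kf xf28 yf36 zf33) (kf xf30 yf51 zf12) (kf xf28 yf35 zf32)) (@D3.rec (fun _ => Pt) (kf xf32 yf44 zf24) (kf xf28 yf35 zf45) (kf xf30 yf53 zf14) (kf xf30 yf27 zf57) (kf xf30 yf48 zf2) (kf xf30 yf53 zf13) (kf xf22 yf16 zf47) (kf xf31 yf7 zf14) (kf xf31 yf17 zf46) (kf xf30 yf56 zf26) (kf xf22 yf16 zf59) (kf xf26 yf56 zf23) (kf xf23 yf19 zf7) (kf xf29 yf21 zf18) (kf xf30 yf56 zf12) (kf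 xf27 yf55 zf47) (kf xf28 yf50 zf57) (kf xf22 yf17 zf12) (kf xf30 yf44 zf7) (kf xf32 yf9 zf13) (kf xf30 yf54 zf26) (kf xf24 yf56 zf18) (kf xf32 yf44 zf1) (kf xf30 yf2 zf35) (kf xf32 yf8 zf59) (kf xf29 yf20 zf0) (kf xf22 yf17 zf26) (kf xf30 yf47 zf61) (kf xf32 yf27 zf53) (kf xf28 yf27 zf54) (kf xf30 yf21 zf1) (kf xf27 yf15 zf28) (kf xf28 yf22 zf18) (kf xf28 yf34 zf36) (kf xf30 yf24 zf38) (kf xf23 yf5 zf54) (kf xf23 yf5 zf41) (kf xf24 yf53 zf27) (kf xf30 yf24 zf34) (kf xf25 yf42 zf41) (kf xf25 yf39 zf58) (kf xf31 yf10 zf21) (kf xf28 yf43 zf42) (kf xf27 yf55 zf31) (kf xf22 yf17 zf61) (kf xf27 yf53 zf47) (kf xf32 yf28 zf53) (kf xf32 yf30 zf20) (kf xf28 yf36 zf28) (kf xf30 yf35 zf20) (kf xf22 yf18 zf7) (kf xf27 yf55 zf24) (kf xf28 yf9 zf31) (kf xf28 yf10 zf11) (kf xf27 yf21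 zf15) (kf xf24 yf55 zf27) (kf xf29 yf38 zf48) (kf xf30 yf27 zf59) (kf xf27 yf31 zf19) (kf xf26 yf29 zf52) (kf xf26 yf29 zf53) (kf xf28 yf44 zf55)) (@D3.rec (fun _ => Pt) (kf xf30 yf7 zf14) (kf xf25 yf2 zf13) (kf xf26 yf33 zf1) (kf xf24 yf55 zf55) (kf xf26 yf17 zf48) (kf xf29 yf39 zf4) (kf xf25 yf3 zf25) (kf xf24 yf55 zf59) (kf xf22 yf35 zf15) (kf xf30 yf25 zf36) (kf xf30 yf25 zf32) (kf xf22 yf18 zf58) (kf xf29 yf42 zf20) (kf xf23 yf47 zf46) (kf xf23 yf22 zf5) (kf xf22 yf22 zf23) (kf xf22 yf23 zf59) (kf xf32 yf52 zf19) (kf xf29 yf55 zf0) (kf xf32 yf18 zf24) (kf xf28 yf52 zf26) (kf xf32 yf51 zf35) (kf xf22 yf19 zf6) (kf xf24 yf32 zf24) (kf xf32 yf18 zf22) (kf xf31 yf12 zf38) (kf xf30 yf25 zf56) (kf xf22 yf19 zf14) (kf xf24 yf1 zf12) (kf xf31 yf12 zf35) (kf xf31 yf12 zf36)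 (kf xf31 yf12 zf39) (kf xf30 yf25 zf10) (kf xf29 yf40 zf4) (kf xf30 yf28 zf6) (kf xf26 yf57 zf23) (kf xf30 yf25 zf9) (kf xf28 yf45 zf56) (kf xf22 yf19 zf21) (kf xf30 yf29 zf19) (kf xf29 yf39 zf55) (kf xf30 yf29 zf20) (kf xf22 yf24 zf23) (kf xf22 yf24 zf25) (kf xf22 yf25 zf26) (kf xf22 yf25 zf27) (kf xf32 yf0 zf61) (kf xf22 yf24 zf60) (kf xf30 yf16 zf3) (kf xf22 yf25 zf9) (kf xf22 yf25 zf10) (kf xf22 yf25 zf11) (kf xf22 yf25 zf40) (kf xf22 yf25 zf34) (kf xf22 yf25 zf35) (kf xf22 yf25 zf36) (kf xf30 yf25 zf26) (kf xf23 yf49 zf15) (kf xf30 yf35 zf46) (kf xf31 yf14 zf4) (kf xf22 yf27 zf37) (kf xf32 yf52 zf22)) (@D3.rec (fun _ => Pt) (kf xf22 yf27 zf35) (kf xf24 yf25 zf8) (kf xf22 yf26 zf40) (kf xf22 yf26 zf28) (kf xf22 yf26 zf29) (kf xf22 yf26 zf21) (kf xf30 yf31 zf27)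 (kf xf24 yf24 zf5) (kf xf31 yf36 zf46) (kf xf23 yf11 zf18) (kf xf26 yf57 zf21) (kf xf22 yf20 zf6) (kf xf32 yf15 zf37) (kf xf22 yf20 zf13) (kf xf24 yf1 zf37) (kf xf23 yf45 zf27) (kf xf28 yf35 zf36) (kf xf28 yf52 zf12) (kf xf28 yf17 zf60) (kf xf22 yf20 zf9) (kf xf24 yf13 zf17) (kf xf23 yf57 zf49) (kf xf28 yf46 zf36) (kf xf24 yf13 zf15) (kf xf28 yf8 zf47) (kf xf22 yf20 zf22) (kf xf30 yf56 zf25) (kf xf22 yf20 zf26) (kf xf32 yf8 zf28) (kf xf32 yf19 zf43) (kf xf22 yf20 zf29) (kf xf25 yf59 zf38) (kf xf31 yf15 zf56) (kf xf28 yf35 zf47) (kf xf28 yf32 zf47) (kf xf28 yf34 zf2) (kf xf23 yf0 zf18) (kf xf31 yf22 zf49) (kf xf30 yf56 zf13) (kf xf22 yf20 zf37) (kf xf30 yf46 zf10) (kf xf30 yf30 zf5) (kf xf30 yf27 zf44) (kf xf30 yf43 zf59) (kf xf23 yf57 zf51) (kf xf22 yf20 zf49) (kf xf22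 yf52 zf40) (kf xf30 yf18 zf58) (kf xf27 yf2 zf61) (kf xf28 yf47 zf17) (kf xf22 yf20 zf60) (kf xf30 yf47 zf35) (kf xf28 yf53 zf33) (kf xf30 yf27 zf46) (kf xf25 yf25 zf2) (kf xf27 yf43 zf12) (kf xf30 yf51 zf28) (kf xf30 yf51 zf29) (kf xf29 yf13 zf22) (kf xf25 yf37 zf33) (kf xf31 yf34 zf27) (kf xf31 yf4 zf24)) (@D3.rec (fun _ => Pt) (kf xf32 yf16 zf60) (kf xf29 yf27 zf24) (kf xf29 yf50 zf17) (kf xf32 yf12 zf59) (kf xf25 yf47 zf51) (kf xf31 yf15 zf30) (kf xf31 yf21 zf59) (kf xf32 yf41 zf50) (kf xf31 yf17 zf14) (kf xf22 yf21 zf36) (kf xf29 yf14 zf28) (kf xf32 yf39 zf33) (kf xf28 yf53 zf50) (kf xf29 yf27 zf28) (kf xf31 yf52 zf2) (kf xf29 yf27 zf19) (kf xf28 yf50 zf42) (kf xf32 yf32 zf38) (kf xf22 yf21 zf47) (kf xf24 yf25 zf30) (kf xf32 yf21 zf43) (kf xf31 yf28 zf32) (kf xf22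 yf21 zf58) (kf xf24 yf23 zf42) (kf xf22 yf22 zf3) (kf xf30 yf56 zf44) (kf xf31 yf18 zf48) (kf xf29 yf8 zf29) (kf xf29 yf8 zf31) (kf xf22 yf22 zf8) (kf xf23 yf13 zf13) (kf xf22 yf22 zf43) (kf xf31 yf51 zf48) (kf xf27 yf9 zf45) (kf xf22 yf22 zf38) (kf xf30 yf49 zf3) (kf xf22 yf22 zf44) (kf xf23 yf53 zf24) (kf xf30 yf20 zf32) (kf xf22 yf22 zf53) (kf xf28 yf35 zf61) (kf xf30 yf55 zf10) (kf xf22 yf22 zf56) (kf xf31 yf18 zf2) (kf xf30 yf26 zf42) (kf xf22 yf23 zf2) (kf xf30 yf26 zf53) (kf xf31 yf31 zf7) (kf xf31 yf31 zf8) (kf xf24 yf17 zf54) (kf xf31 yf17 zf56) (kf xf24 yf5 zf49) (kf xf27 yf42 zf58) (kf xf27 yf43 zf1) (kf xf23 yf8 zf26) (kf xf27 yf2 zf30) (kf xf24 yf56 zf52) (kf xf30 yf24 zf3) (kf xf22 yf23 zf33) (kf xf30 yf24 zf57) (kf xf30 yf29 zf42) (kf xf29 yf46 zf35))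 (@D3.rec (fun _ => Pt) (kf xf30 yf29 zf34) (kf xf30 yf29 zf43) (kf xf32 yf15 zf7) (kf xf29 yf26 zf22) (kf xf32 yf45 zf17) (kf xf24 yf9 zf59) (kf xf30 yf25 zf34) (kf xf28 yf48 zf48) (kf xf32 yf39 zf60) (kf xf30 yf22 zf4) (kf xf30 yf21 zf54) (kf xf32 yf43 zf3) (kf xf30 yf21 zf13) (kf xf28 yf54 zf29) (kf xf31 yf33 zf9) (kf xf31 yf33 zf7) (kf xf32 yf47 zf27) (kf xf30 yf29 zf4) (kf xf30 yf29 zf5) (kf xf30 yf29 zf7) (kf xf30 yf29 zf14) (kf xf30 yf29 zf16) (kf xf30 yf29 zf17) (kf xf30 yf22 zf2) (kf xf30 yf22 zf3) (kf xf30 yf21 zf58) (kf xf30 yf21 zf23) (kf xf23 yf52 zf21) (kf xf30 yf21 zf11) (kf xf27 yf9 zf29) (kf xf30 yf21 zf57) (kf xf29 yf42 zf56) (kf xf26 yf57 zf6) (kf xf22 yf24 zf12) (kf xf27 yf20 zf59) (kf xf22 yf24 zf14) (kf xf29 yf55 zf55) (kf xf31 yf1 zf25) (kf xf27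 yf8 zf32) (kf xf24 yf4 zf52) (kf xf29 yf40 zf41) (kf xf24 yf4 zf51) (kf xf24 yf24 zf53) (kf xf23 yf45 zf38) (kf xf24 yf24 zf50) (kf xf29 yf40 zf22) (kf xf32 yf40 zf16) (kf xf32 yf42 zf52) (kf xf27 yf7 zf16) (kf xf23 yf51 zf12) (kf xf32 yf22 zf13) (kf xf27 yf7 zf17) (kf xf27 yf14 zf45) (kf xf29 yf33 zf27) (kf xf29 yf33 zf22) (kf xf30 yf15 zf49) (kf xf31 yf31 zf10) (kf xf32 yf15 zf34) (kf xf31 yf31 zf13) (kf xf31 yf31 zf15) (kf xf31 yf31 zf16) (kf xf32 yf33 zf35)) (@D3.rec (fun _ => Pt) (kf xf31 yf13 zf61) (kf xf30 yf29 zf35) (kf xf30 yf29 zf36) (kf xf32 yf32 zf37) (kf xf30 yf28 zf17) (kf xf30 yf28 zf18) (kf xf29 yf45 zf37) (kf xf30 yf28 zf19) (kf xf30 yf16 zf17) (kf xf32 yf19 zf45) (kf xf22 yf24 zf41) (kf xf32 yf19 zf36) (kf xf25 yf8 zf9) (kf xf23 yf46 zf32) (kf xf30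 yf28 zf20) (kf xf30 yf21 zf44) (kf xf30 yf28 zf21) (kf xf30 yf28 zf22) (kf xf30 yf21 zf45) (kf xf30 yf25 zf39) (kf xf30 yf25 zf41) (kf xf29 yf50 zf4) (kf xf22 yf25 zf3) (kf xf22 yf25 zf2) (kf xf30 yf15 zf60) (kf xf28 yf40 zf16) (kf xf31 yf12 zf44) (kf xf26 yf57 zf32) (kf xf24 yf25 zf15) (kf xf29 yf40 zf47) (kf xf32 yf52 zf21) (kf xf32 yf34 zf15) (kf xf29 yf23 zf14) (kf xf32 yf45 zf49) (kf xf30 yf28 zf0) (kf xf30 yf29 zf1) (kf xf30 yf29 zf2) (kf xf31 yf19 zf45) (kf xf32 yf4 zf3) (kf xf25 yf8 zf49) (kf xf32 yf9 zf18) (kf xf31 yf31 zf2) (kf xf30 yf27 zf60) (kf xf30 yf28 zf1) (kf xf29 yf38 zf4) (kf xf32 yf39 zf48) (kf xf29 yf33 zf3) (kf xf32 yf18 zf46) (kf xf24 yf9 zf52) (kf xf30 yf48 zf57) (kf xf29 yf26 zf20) (kf xf32 yf44 zf9) (kf xf32 yf34 zf14) (kf xf22 yf25 zf41) (kf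 xf29 yf1 zf38) (kf xf30 yf15 zf52) (kf xf29 yf55 zf53) (kf xf29 yf3 zf9) (kf xf24 yf21 zf48) (kf xf30 yf14 zf57) (kf xf24 yf1 zf11) (kf xf27 yf11 zf16)) (@D3.rec (fun _ => Pt) (kf xf32 yf15 zf11) (kf xf32 yf39 zf61) (kf xf32 yf39 zf53) (kf xf24 yf9 zf32) (kf xf29 yf40 zf58) (kf xf30 yf26 zf41) (kf xf32 yf18 zf57) (kf xf31 yf53 zf36) (kf xf31 yf1 zf49) (kf xf32 yf46 zf43) (kf xf28 yf51 zf15) (kf xf29 yf40 zf42) (kf xf29 yf40 zf48) (kf xf29 yf40 zf49) (kf xf30 yf11 zf41) (kf xf32 yf46 zf37) (kf xf29 yf25 zf22) (kf xf24 yf26 zf27) (kf xf28 yf46 zf18) (kf xf23 yf48 zf61) (kf xf32 yf52 zf23) (kf xf29 yf25 zf52) (kf xf22 yf26 zf27) (kf xf28 yf51 zf54) (kf xf26 yf50 zf56) (kf xf30 yf22 zf60) (kf xf26 yf49 zf25) (kf xf29 yf28 zf52) (kf xf30 yf22 zf11) (kf xf32 yf46 zf38) (kf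 xf31 yf22 zf59) (kf xf29 yf41 zf5) (kf xf22 yf26 zf39) (kf xf30 yf22 zf9) (kf xf26 yf51 zf61) (kf xf31 yf27 zf61) (kf xf24 yf10 zf44) (kf xf22 yf41 zf47) (kf xf29 yf36 zf36) (kf xf30 yf31 zf34) (kf xf29 yf24 zf46) (kf xf32 yf52 zf58) (kf xf32 yf30 zf50) (kf xf28 yf33 zf13) (kf xf22 yf26 zf61) (kf xf22 yf39 zf47) (kf xf29 yf36 zf57) (kf xf31 yf15 zf48) (kf xf30 yf54 zf22) (kf xf24 yf43 zf53) (kf xf24 yf43 zf58) (kf xf22 yf27 zf29) (kf xf22 yf27 zf17) (kf xf23 yf54 zf27) (kf xf28 yf54 zf49) (kf xf31 yf19 zf18) (kf xf30 yf48 zf49) (kf xf22 yf27 zf22) (kf xf32 yf43 zf2) (kf xf28 yf31 zf0) (kf xf22 yf27 zf24) (kf xf27 yf16 zf31)) (@D3.rec (fun _ => Pt) (kf xf24 yf14 zf45) (kf xf32 yf41 zf2) (kf xf28 yf54 zf25) (kf xf22 yf27 zf28) (kf xf32 yf47 zf34) (kf xf32 yf47 zf33) (kf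 xf31 yf19 zf30) (kf xf32 yf47 zf31) (kf xf32 yf46 zf40) (kf xf31 yf33 zf38) (kf xf24 yf2 zf51) (kf xf28 yf8 zf44) (kf xf23 yf54 zf24) (kf xf30 yf50 zf9) (kf xf30 yf52 zf4) (kf xf26 yf30 zf50) (kf xf30 yf52 zf5) (kf xf31 yf19 zf26) (kf xf30 yf22 zf44) (kf xf30 yf22 zf45) (kf xf32 yf17 zf16) (kf xf24 yf6 zf48) (kf xf30 yf15 zf10) (kf xf31 yf1 zf51) (kf xf31 yf29 zf40) (kf xf24 yf24 zf22) (kf xf24 yf24 zf51) (kf xf30 yf26 zf6) (kf xf30 yf52 zf2) (kf xf30 yf22 zf56) (kf xf30 yf22 zf57) (kf xf32 yf53 zf3) (kf xf24 yf3 zf61) (kf xf32 yf35 zf52) (kf xf30 yf30 zf39) (kf xf23 yf14 zf7) (kf xf30 yf58 zf38) (kf xf28 yf40 zf55) (kf xf22 yf28 zf0) (kf xf28 yf13 zf18) (kf xf27 yf26 zf15) (kf xf30 yf36 zf11) (kf xf23 yf40 zf42) (kf xf23 yf44 zf23) (kf xf23 yf41 zf36) (kf xf23 yf44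 zf26) (kf xf23 yf31 zf15) (kf xf31 yf11 zf34) (kf xf31 yf11 zf33) (kf xf32 yf46 zf17) (kf xf31 yf11 zf35) (kf xf25 yf3 zf20) (kf xf30 yf6 zf16) (kf xf22 yf49 zf38) (kf xf23 yf42 zf56) (kf xf22 yf50 zf53) (kf xf28 yf3 zf49) (kf xf26 yf33 zf2) (kf xf23 yf46 zf15) (kf xf22 yf51 zf48) (kf xf22 yf51 zf56) (kf xf29 yf41 zf1)) (@D3.rec (fun _ => Pt) (kf xf24 yf12 zf32) (kf xf27 yf53 zf58) (kf xf23 yf15 zf15) (kf xf23 yf7 zf47) (kf xf22 yf52 zf14) (kf xf25 yf16 zf16) (kf xf30 yf58 zf36) (kf xf23 yf3 zf8) (kf xf30 yf58 zf35) (kf xf23 yf33 zf50) (kf xf28 yf13 zf17) (kf xf23 yf33 zf28) (kf xf22 yf29 zf45) (kf xf23 yf41 zf8) (kf xf28 yf55 zf0) (kf xf30 yf20 zf45) (kf xf30 yf54 zf9) (kf xf30 yf20 zf47) (kf xf26 yf55 zf61) (kf xf22 yf39 zf35) (kf xf22 yf39 zf36) (kf xf22 yf39 zf39)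 (kf xf32 yf22 zf34) (kf xf30 yf22 zf37) (kf xf22 yf39 zf42) (kf xf22 yf29 zf57) (kf xf22 yf39 zf22) (kf xf22 yf37 zf39) (kf xf22 yf41 zf48) (kf xf31 yf24 zf4) (kf xf22 yf41 zf51) (kf xf30 yf37 zf56) (kf xf22 yf41 zf54) (kf xf22 yf30 zf2) (kf xf32 yf18 zf47) (kf xf24 yf30 zf58) (kf xf31 yf12 zf14) (kf xf28 yf26 zf13) (kf xf22 yf30 zf9) (kf xf22 yf30 zf52) (kf xf31 yf1 zf35) (kf xf23 yf15 zf45) (kf xf22 yf30 zf36) (kf xf23 yf33 zf14) (kf xf28 yf11 zf47) (kf xf31 yf0 zf34) (kf xf23 yf25 zf60) (kf xf32 yf5 zf0) (kf xf22 yf30 zf40) (kf xf22 yf30 zf42) (kf xf23 yf2 zf11) (kf xf29 yf12 zf17) (kf xf30 yf49 zf24) (kf xf23 yf17 zf52) (kf xf23 yf17 zf51) (kf xf28 yf28 zf1) (kf xf25 yf59 zf48) (kf xf28 yf9 zf42) (kf xf23 yf47 zf40) (kf xf23 yf54 zf40) (kf xf23 yf54 zf42) (kf xf31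 yf49 zf20)) (@D3.rec (fun _ => Pt) (kf xf22 yf49 zf10) (kf xf23 yf54 zf46) (kf xf30 yf49 zf54) (kf xf23 yf54 zf48) (kf xf23 yf54 zf49) (kf xf31 yf49 zf13) (kf xf32 yf33 zf46) (kf xf32 yf2 zf12) (kf xf22 yf31 zf4) (kf xf29 yf10 zf19) (kf xf30 yf13 zf57) (kf xf30 yf13 zf56) (kf xf22 yf31 zf12) (kf xf32 yf48 zf44) (kf xf29 yf12 zf18) (kf xf31 yf38 zf6) (kf xf22 yf31 zf19) (kf xf30 yf13 zf55) (kf xf30 yf13 zf52) (kf xf30 yf13 zf53) (kf xf30 yf43 zf4) (kf xf30 yf43 zf5) (kf xf28 yf12 zf30) (kf xf30 yf43 zf6) (kf xf24 yf31 zf47) (kf xf31 yf1 zf9) (kf xf30 yf10 zf46) (kf xf22 yf31 zf38) (kf xf22 yf31 zf29) (kf xf26 yf32 zf52) (kf xf29 yf12 zf5) (kf xf28 yf13 zf19) (kf xf23 yf15 zf43) (kf xf31 yf1 zf12) (kf xf30 yf13 zf49) (kf xf30 yf10 zf36) (kf xf31 yf1 zf15) (kf xf31 yf3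 zf29) (kf xf31 yf1 zf8) (kf xf29 yf55 zf39) (kf xf23 yf42 zf40) (kf xf22 yf31 zf52) (kf xf28 yf17 zf40) (kf xf30 yf14 zf2) (kf xf29 yf26 zf44) (kf xf22 yf31 zf55) (kf xf23 yf7 zf38) (kf xf24 yf7 zf34) (kf xf22 yf56 zf7) (kf xf29 yf30 zf12) (kf xf29 yf55 zf40) (kf xf30 yf6 zf42) (kf xf30 yf14 zf1) (kf xf30 yf57 zf38) (kf xf22 yf31 zf60) (kf xf23 yf46 zf36) (kf xf29 yf28 zf42) (kf xf28 yf44 zf16) (kf xf25 yf53 zf6) (kf xf22 yf32 zf11) (kf xf22 yf38 zf27) (kf xf26 yf51 zf8)) (@D3.rec (fun _ => Pt) (kf xf27 yf41 zf2) (kf xf24 yf22 zf38) (kf xf22 yf35 zf31) (kf xf22 yf37 zf43) (kf xf22 yf37 zf54) (kf xf31 yf2 zf7) (kf xf22 yf39 zf20) (kf xf22 yf39 zf18) (kf xf32 yf5 zf11) (kf xf22 yf32 zf54) (kf xf22 yf40 zf49) (kf xf22 yf40 zf45) (kf xf24 yf27 zf49) (kf xf22 yf40 zf51)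 (kf xf22 yf33 zf0) (kf xf22 yf40 zf41) (kf xf22 yf33 zf5) (kf xf22 yf33 zf14) (kf xf22 yf33 zf12) (kf xf22 yf33 zf17) (kf xf22 yf33 zf10) (kf xf32 yf40 zf33) (kf xf32 yf36 zf50) (kf xf23 yf48 zf52) (kf xf31 yf19 zf29) (kf xf31 yf22 zf24) (kf xf32 yf52 zf40) (kf xf31 yf51 zf32) (kf xf26 yf21 zf55) (kf xf31 yf20 zf6) (kf xf32 yf52 zf9) (kf xf32 yf53 zf23) (kf xf31 yf15 zf11) (kf xf22 yf33 zf20) (kf xf23 yf48 zf44) (kf xf22 yf49 zf4) (kf xf28 yf25 zf31) (kf xf25 yf51 zf2) (kf xf22 yf33 zf30) (kf xf23 yf12 zf30) (kf xf32 yf44 zf31) (kf xf28 yf38 zf42) (kf xf23 yf54 zf17) (kf xf23 yf54 zf16) (kf xf22 yf33 zf40) (kf xf31 yf39 zf15) (kf xf22 yf33 zf42) (kf xf23 yf47 zf57) (kf xf23 yf54 zf29) (kf xf23 yf54 zf30) (kf xf23 yf54 zf31) (kf xf32 yf27 zf37) (kf xf22 yf33 zf45) (kf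 xf23 yf55 zf0) (kf xf23 yf55 zf3) (kf xf31 yf58 zf33) (kf xf23 yf54 zf56) (kf xf23 yf54 zf58) (kf xf23 yf54 zf59) (kf xf23 yf55 zf8) (kf xf29 yf29 zf47) (kf xf31 yf44 zf51)) (@D3.rec (fun _ => Pt) (kf xf31 yf44 zf52) (kf xf30 yf59 zf49) (kf xf30 yf59 zf50) (kf xf30 yf52 zf38) (kf xf23 yf52 zf47) (kf xf32 yf39 zf58) (kf xf23 yf52 zf49) (kf xf23 yf52 zf52) (kf xf32 yf37 zf6) (kf xf29 yf37 zf58) (kf xf28 yf0 zf49) (kf xf29 yf55 zf38) (kf xf23 yf50 zf47) (kf xf22 yf34 zf21) (kf xf23 yf50 zf1) (kf xf31 yf7 zf43) (kf xf23 yf49 zf54) (kf xf28 yf17 zf42) (kf xf23 yf50 zf54) (kf xf32 yf53 zf29) (kf xf30 yf24 zf49) (kf xf22 yf34 zf40) (kf xf23 yf51 zf1) (kf xf23 yf50 zf27) (kf xf32 yf53 zf31) (kf xf23 yf50 zf29) (kf xf23 yf50 zf33) (kf xf32 yf34 zf45) (kf xf32 yf50 zf28) (kf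 xf30 yf44 zf52) (kf xf22 yf34 zf52) (kf xf23 yf50 zf42) (kf xf23 yf50 zf43) (kf xf23 yf50 zf44) (kf xf22 yf34 zf56) (kf xf23 yf49 zf49) (kf xf23 yf51 zf37) (kf xf23 yf51 zf38) (kf xf27 yf49 zf61) (kf xf27 yf34 zf49) (kf xf22 yf34 zf61) (kf xf23 yf51 zf25) (kf xf22 yf35 zf1) (kf xf23 yf51 zf32) (kf xf23 yf51 zf31) (kf xf23 yf48 zf26) (kf xf30 yf25 zf58) (kf xf22 yf35 zf4) (kf xf28 yf46 zf23) (kf xf23 yf51 zf16) (kf xf28 yf6 zf61) (kf xf28 yf46 zf24) (kf xf23 yf51 zf21) (kf xf27 yf20 zf35) (kf xf30 yf10 zf27) (kf xf22 yf35 zf22) (kf xf30 yf50 zf0) (kf xf30 yf23 zf42) (kf xf30 yf23 zf40) (kf xf23 yf49 zf30) (kf xf32 yf42 zf29) (kf xf22 yf35 zf29)) (@D3.rec (fun _ => Pt) (kf xf23 yf29 zf10) (kf xf23 yf29 zf17) (kf xf30 yf49 zf2) (kf xf28 yf34 zf28) (kf xf31 yf0 zf48) (kf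 xf30 yf44 zf0) (kf xf29 yf21 zf38) (kf xf22 yf35 zf43) (kf xf28 yf17 zf15) (kf xf23 yf57 zf6) (kf xf27 yf15 zf7) (kf xf30 yf31 zf41) (kf xf27 yf14 zf20) (kf xf28 yf37 zf30) (kf xf22 yf35 zf50) (kf xf27 yf56 zf24) (kf xf29 yf21 zf32) (kf xf28 yf36 zf12) (kf xf26 yf49 zf18) (kf xf28 yf50 zf20) (kf xf32 yf22 zf28) (kf xf22 yf35 zf56) (kf xf29 yf8 zf0) (kf xf22 yf58 zf48) (kf xf24 yf18 zf51) (kf xf24 yf20 zf16) (kf xf22 yf49 zf31) (kf xf22 yf36 zf3) (kf xf28 yf5 zf54) (kf xf32 yf37 zf33) (kf xf31 yf24 zf15) (kf xf31 yf16 zf8) (kf xf23 yf20 zf20) (kf xf24 yf18 zf14) (kf xf28 yf46 zf30) (kf xf23 yf31 zf59) (kf xf30 yf50 zf27) (kf xf28 yf21 zf52) (kf xf23 yf52 zf22) (kf xf28 yf44 zf12) (kf xf30 yf50 zf47) (kf xf32 yf53 zf39) (kf xf25 yf57 zf35) (kf xf32 yf1 zf54) (kf xf30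 yf56 zf17) (kf xf30 yf56 zf18) (kf xf22 yf55 zf12) (kf xf22 yf55 zf10) (kf xf25 yf52 zf45) (kf xf28 yf17 zf3) (kf xf26 yf50 zf44) (kf xf22 yf38 zf20) (kf xf24 yf18 zf52) (kf xf22 yf39 zf6) (kf xf32 yf49 zf45) (kf xf22 yf37 zf22) (kf xf22 yf39 zf23) (kf xf24 yf40 zf41) (kf xf23 yf54 zf10) (kf xf30 yf22 zf49) (kf xf24 yf24 zf52) (kf xf22 yf37 zf29)) (@D3.rec (fun _ => Pt) (kf xf31 yf15 zf20) (kf xf24 yf19 zf54) (kf xf31 yf22 zf15) (kf xf31 yf13 zf7) (kf xf30 yf49 zf1) (kf xf32 yf53 zf41) (kf xf31 yf3 zf35) (kf xf31 yf3 zf36) (kf xf31 yf3 zf37) (kf xf22 yf48 zf0) (kf xf32 yf49 zf7) (kf xf30 yf7 zf60) (kf xf22 yf54 zf42) (kf xf26 yf25 zf38) (kf xf23 yf30 zf32) (kf xf27 yf40 zf53) (kf xf31 yf5 zf46) (kf xf22 yf38 zf3) (kf xf28 yf18 zf54) (kf xf30 yf38 zf55) (kf xf24 yf14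 zf0) (kf xf26 yf51 zf57) (kf xf31 yf29 zf54) (kf xf23 yf39 zf59) (kf xf22 yf38 zf14) (kf xf31 yf8 zf4) (kf xf30 yf37 zf42) (kf xf22 yf58 zf46) (kf xf24 yf25 zf10) (kf xf23 yf48 zf21) (kf xf26 yf49 zf29) (kf xf22 yf38 zf33) (kf xf27 yf40 zf48) (kf xf26 yf28 zf36) (kf xf31 yf12 zf25) (kf xf31 yf32 zf36) (kf xf24 yf31 zf44) (kf xf22 yf39 zf4) (kf xf30 yf13 zf21) (kf xf32 yf31 zf3) (kf xf24 yf24 zf18) (kf xf24 yf23 zf29) (kf xf30 yf37 zf26) (kf xf30 yf23 zf1) (kf xf31 yf28 zf8) (kf xf30 yf56 zf28) (kf xf24 yf5 zf22) (kf xf23 yf11 zf29) (kf xf26 yf51 zf58) (kf xf30 yf21 zf20) (kf xf32 yf52 zf15) (kf xf31 yf37 zf16) (kf xf31 yf37 zf15) (kf xf32 yf52 zf14) (kf xf22 yf40 zf0) (kf xf22 yf40 zf1) (kf xf30 yf32 zf31) (kf xf24 yf10 zf41) (kf xf28 yf43 zf18) (kf xf31 yf28 zf43)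 (kf xf22 yf39 zf27) (kf xf32 yf53 zf47)) (@D3.rec (fun _ => Pt) (kf xf24 yf5 zf21) (kf xf22 yf39 zf30) (kf xf30 yf39 zf27) (kf xf30 yf57 zf44) (kf xf23 yf47 zf60) (kf xf28 yf33 zf0) (kf xf28 yf32 zf60) (kf xf28 yf32 zf61) (kf xf28 yf17 zf22) (kf xf30 yf39 zf50) (kf xf30 yf39 zf48) (kf xf22 yf39 zf40) (kf xf31 yf22 zf19) (kf xf22 yf59 zf20) (kf xf31 yf13 zf41) (kf xf24 yf17 zf21) (kf xf22 yf39 zf58) (kf xf22 yf39 zf45) (kf xf28 yf47 zf9) (kf xf30 yf45 zf8) (kf xf31 yf43 zf22) (kf xf30 yf50 zf42) (kf xf23 yf11 zf55) (kf xf31 yf21 zf36) (kf xf32 yf52 zf36) (kf xf22 yf39 zf52) (kf xf28 yf17 zf20) (kf xf28 yf17 zf23) (kf xf32 yf53 zf52) (kf xf29 yf8 zf50) (kf xf22 yf39 zf54) (kf xf31 yf30 zf41) (kf xf30 yf50 zf4) (kf xf28 yf16 zf36) (kf xf30 yf18 zf30) (kf xf22 yf39 zf60)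 (kf xf32 yf38 zf24) (kf xf31 yf23 zf54) (kf xf28 yf16 zf26) (kf xf23 yf46 zf29) (kf xf28 yf52 zf57) (kf xf28 yf53 zf2) (kf xf30 yf21 zf51) (kf xf27 yf7 zf15) (kf xf30 yf5 zf51) (kf xf26 yf53 zf52) (kf xf32 yf24 zf7) (kf xf22 yf40 zf9) (kf xf27 yf2 zf17) (kf xf23 yf26 zf16) (kf xf23 yf27 zf26) (kf xf31 yf32 zf33) (kf xf30 yf11 zf32) (kf xf31 yf1 zf38) (kf xf30 yf2 zf44) (kf xf30 yf37 zf19) (kf xf24 yf8 zf42) (kf xf32 yf33 zf21) (kf xf29 yf39 zf40) (kf xf32 yf5 zf8) (kf xf22 yf40 zf43) (kf xf26 yf5 zf61)) (@D3.rec (fun _ => Pt) (kf xf24 yf29 zf56) (kf xf27 yf8 zf34) (kf xf31 yf23 zf61) (kf xf31 yf12 zf54) (kf xf28 yf49 zf3) (kf xf30 yf39 zf33) (kf xf26 yf49 zf13) (kf xf24 yf1 zf16) (kf xf24 yf25 zf20) (kf xf23 yf55 zf18) (kf xf24 yf0 zf30) (kf xf31 yf29 zf52) (kf xf28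 yf50 zf53) (kf xf24 yf5 zf46) (kf xf32 yf34 zf50) (kf xf28 yf47 zf53) (kf xf25 yf18 zf43) (kf xf32 yf42 zf41) (kf xf32 yf27 zf6) (kf xf22 yf41 zf25) (kf xf31 yf30 zf2) (kf xf30 yf49 zf36) (kf xf27 yf7 zf10) (kf xf31 yf31 zf55) (kf xf32 yf20 zf12) (kf xf22 yf41 zf34) (kf xf32 yf53 zf54) (kf xf30 yf38 zf2) (kf xf24 yf4 zf8) (kf xf22 yf41 zf37) (kf xf24 yf4 zf10) (kf xf31 yf32 zf29) (kf xf24 yf30 zf0) (kf xf30 yf39 zf5) (kf xf30 yf44 zf25) (kf xf27 yf33 zf10) (kf xf22 yf49 zf53) (kf xf22 yf41 zf46) (kf xf32 yf38 zf41) (kf xf32 yf21 zf15) (kf xf32 yf52 zf6) (kf xf31 yf22 zf47) (kf xf30 yf22 zf61) (kf xf22 yf41 zf49) (kf xf22 yf56 zf60) (kf xf30 yf44 zf59) (kf xf30 yf45 zf0) (kf xf31 yf24 zf1) (kf xf30 yf38 zf10) (kf xf32 yf40 zf48) (kf xf30 yf38 zf9) (kf xf22 yf41 zf55)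 (kf xf29 yf18 zf17) (kf xf23 yf20 zf31) (kf xf23 yf20 zf38) (kf xf24 yf59 zf16) (kf xf25 yf16 zf28) (kf xf29 yf29 zf45) (kf xf28 yf28 zf33) (kf xf23 yf20 zf27) (kf xf23 yf23 zf52) (kf xf25 yf52 zf27)) (@D3.rec (fun _ => Pt) (kf xf24 yf3 zf48) (kf xf23 yf7 zf37) (kf xf24 yf2 zf13) (kf xf22 yf42 zf50) (kf xf23 yf27 zf14) (kf xf29 yf9 zf46) (kf xf22 yf42 zf52) (kf xf30 yf41 zf19) (kf xf30 yf41 zf20) (kf xf23 yf24 zf35) (kf xf23 yf24 zf38) (kf xf32 yf30 zf29) (kf xf24 yf22 zf1) (kf xf30 yf41 zf25) (kf xf32 yf54 zf1) (kf xf30 yf41 zf27) (kf xf32 yf54 zf4) (kf xf30 yf41 zf29) (kf xf29 yf15 zf51) (kf xf30 yf41 zf30) (kf xf30 yf41 zf31) (kf xf30 yf4 zf4) (kf xf30 yf42 zf2) (kf xf28 yf31 zf19) (kf xf24 yf49 zf13) (kf xf31 yf2 zf61) (kf xf31 yf3 zf22) (kf xf32 yf48 zf14) (kf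 xf32 yf54 zf5) (kf xf22 yf43 zf10) (kf xf23 yf26 zf14) (kf xf22 yf43 zf12) (kf xf30 yf41 zf53) (kf xf30 yf41 zf54) (kf xf30 yf41 zf52) (kf xf29 yf11 zf28) (kf xf31 yf54 zf26) (kf xf24 yf33 zf60) (kf xf24 yf33 zf59) (kf xf22 yf43 zf18) (kf xf32 yf6 zf53) (kf xf23 yf30 zf6) (kf xf22 yf43 zf21) (kf xf24 yf17 zf28) (kf xf32 yf4 zf50) (kf xf22 yf43 zf24) (kf xf28 yf13 zf27) (kf xf30 yf41 zf8) (kf xf30 yf40 zf55) (kf xf32 yf49 zf16) (kf xf30 yf42 zf8) (kf xf30 yf42 zf9) (kf xf25 yf14 zf42) (kf xf30 yf42 zf7) (kf xf30 yf42 zf19) (kf xf30 yf40 zf48) (kf xf25 yf23 zf10) (kf xf23 yf38 zf32) (kf xf23 yf38 zf28) (kf xf31 yf49 zf38) (kf xf30 yf2 zf60) (kf xf30 yf42 zf11)) (@D3.rec (fun _ => Pt) (kf xf25 yf42 zf60) (kf xf30 yf42 zf12) (kf xf25 yf42 zf57) (kf xf30 yf41 zf4) (kf xf30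 yf41 zf3) (kf xf25 yf39 zf10) (kf xf30 yf42 zf13) (kf xf24 yf42 zf40) (kf xf30 yf40 zf47) (kf xf30 yf12 zf51) (kf xf23 yf40 zf2) (kf xf23 yf42 zf4) (kf xf23 yf40 zf4) (kf xf23 yf40 zf5) (kf xf31 yf10 zf13) (kf xf31 yf4 zf39) (kf xf22 yf44 zf7) (kf xf30 yf4 zf55) (kf xf30 yf4 zf54) (kf xf30 yf40 zf7) (kf xf30 yf40 zf8) (kf xf23 yf37 zf4) (kf xf23 yf37 zf5) (kf xf23 yf37 zf6) (kf xf32 yf27 zf45) (kf xf30 yf40 zf13) (kf xf32 yf50 zf48) (kf xf30 yf40 zf15) (kf xf32 yf5 zf9) (kf xf30 yf40 zf17) (kf xf30 yf40 zf19) (kf xf30 yf40 zf20) (kf xf32 yf26 zf46) (kf xf31 yf4 zf49) (kf xf31 yf4 zf48) (kf xf22 yf44 zf19) (kf xf23 yf37 zf15) (kf xf22 yf45 zf6) (kf xf22 yf45 zf2) (kf xf23 yf41 zf52) (kf xf30 yf0 zf27) (kf xf23 yf41 zf53) (kf xf23 yf41 zf55) (kf xf23 yf38 zf40) (kf xf29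 yf11 zf58) (kf xf23 yf41 zf59) (kf xf31 yf8 zf58) (kf xf31 yf8 zf57) (kf xf23 yf39 zf29) (kf xf23 yf42 zf5) (kf xf31 yf28 zf49) (kf xf22 yf44 zf35) (kf xf30 yf40 zf34) (kf xf30 yf40 zf32) (kf xf30 yf40 zf33) (kf xf31 yf49 zf52) (kf xf25 yf49 zf21) (kf xf30 yf51 zf25) (kf xf22 yf44 zf41) (kf xf31 yf4 zf54) (kf xf28 yf49 zf38) (kf xf31 yf8 zf1)) (@D3.rec (fun _ => Pt) (kf xf22 yf44 zf46) (kf xf26 yf47 zf35) (kf xf30 yf40 zf22) (kf xf30 yf10 zf48) (kf xf30 yf4 zf48) (kf xf30 yf4 zf49) (kf xf29 yf59 zf34) (kf xf30 yf40 zf53) (kf xf30 yf40 zf50) (kf xf30 yf40 zf51) (kf xf32 yf44 zf15) (kf xf30 yf40 zf61) (kf xf30 yf41 zf1) (kf xf30 yf41 zf6) (kf xf31 yf5 zf4) (kf xf31 yf57 zf29) (kf xf25 yf39 zf11) (kf xf27 yf41 zf9) (kf xf28 yf11 zf41) (kf xf30 yf40 zf54) (kf xf23 yf41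 zf54) (kf xf32 yf42 zf57) (kf xf30 yf12 zf60) (kf xf30 yf12 zf61) (kf xf23 yf16 zf58) (kf xf32 yf0 zf54) (kf xf26 yf3 zf3) (kf xf26 yf8 zf22) (kf xf30 yf13 zf50) (kf xf23 yf44 zf24) (kf xf23 yf44 zf25) (kf xf22 yf46 zf6) (kf xf23 yf44 zf50) (kf xf31 yf5 zf61) (kf xf30 yf20 zf9) (kf xf32 yf25 zf1) (kf xf23 yf43 zf40) (kf xf23 yf43 zf35) (kf xf23 yf43 zf42) (kf xf23 yf43 zf44) (kf xf23 yf43 zf61) (kf xf31 yf6 zf30) (kf xf27 yf28 zf45) (kf xf23 yf37 zf12) (kf xf23 yf44 zf2) (kf xf23 yf44 zf7) (kf xf26 yf9 zf39) (kf xf23 yf21 zf23) (kf xf26 yf9 zf42) (kf xf29 yf29 zf43) (kf xf23 yf48 zf31) (kf xf24 yf25 zf40) (kf xf23 yf19 zf29) (kf xf24 yf29 zf57) (kf xf24 yf29 zf58) (kf xf24 yf25 zf6) (kf xf22 yf46 zf51) (kf xf24 yf30 zf27) (kf xf29 yf21 zf16) (kf xf30 yf53 zf10) (kf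 xf30 yf53 zf8) (kf xf30 yf53 zf7)) (@D3.rec (fun _ => Pt) (kf xf30 yf53 zf11) (kf xf32 yf31 zf10) (kf xf29 yf21 zf19) (kf xf30 yf53 zf6) (kf xf30 yf33 zf20) (kf xf30 yf33 zf21) (kf xf30 yf33 zf23) (kf xf23 yf19 zf23) (kf xf24 yf0 zf50) (kf xf22 yf47 zf35) (kf xf30 yf45 zf13) (kf xf32 yf33 zf53) (kf xf22 yf52 zf25) (kf xf28 yf23 zf29) (kf xf22 yf52 zf49) (kf xf22 yf47 zf45) (kf xf22 yf48 zf19) (kf xf32 yf2 zf30) (kf xf22 yf47 zf51) (kf xf22 yf53 zf40) (kf xf22 yf52 zf61) (kf xf22 yf53 zf4) (kf xf22 yf53 zf6) (kf xf22 yf53 zf8) (kf xf22 yf53 zf9) (kf xf22 yf53 zf11) (kf xf22 yf54 zf24) (kf xf22 yf54 zf8) (kf xf22 yf54 zf10) (kf xf22 yf48 zf11) (kf xf22 yf54 zf43) (kf xf22 yf54 zf46) (kf xf27 yf22 zf31) (kf xf22 yf55 zf6) (kf xf22 yf55 zf5) (kf xf29 yf38 zf30) (kf xf22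 yf55 zf28) (kf xf22 yf55 zf27) (kf xf22 yf50 zf52) (kf xf26 yf31 zf52) (kf xf27 yf10 zf12) (kf xf22 yf56 zf4) (kf xf22 yf56 zf1) (kf xf29 yf19 zf25) (kf xf22 yf55 zf38) (kf xf22 yf55 zf42) (kf xf22 yf55 zf43) (kf xf32 yf10 zf0) (kf xf31 yf5 zf22) (kf xf24 yf9 zf0) (kf xf24 yf9 zf3) (kf xf29 yf7 zf51) (kf xf22 yf48 zf39) (kf xf22 yf57 zf30) (kf xf22 yf59 zf11) (kf xf23 yf12 zf34) (kf xf22 yf48 zf50) (kf xf22 yf58 zf47) (kf xf22 yf58 zf24) (kf xf30 yf26 zf43) (kf xf22 yf58 zf36) (kf xf24 yf6 zf43)) (@D3.rec (fun _ => Pt) (kf xf30 yf36 zf5) (kf xf22 yf48 zf59) (kf xf24 yf10 zf10) (kf xf26 yf56 zf26) (kf xf24 yf5 zf33) (kf xf22 yf49 zf15) (kf xf31 yf50 zf26) (kf xf30 yf24 zf18) (kf xf27 yf59 zf42) (kf xf30 yf50 zf52) (kf xf29 yf28 zf60) (kf xf26 yf55 zf49) (kf xf28 yf26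 zf19) (kf xf22 yf49 zf22) (kf xf29 yf21 zf33) (kf xf25 yf59 zf39) (kf xf22 yf58 zf57) (kf xf23 yf0 zf20) (kf xf30 yf50 zf19) (kf xf22 yf49 zf32) (kf xf22 yf49 zf37) (kf xf30 yf53 zf58) (kf xf28 yf5 zf27) (kf xf32 yf7 zf50) (kf xf27 yf46 zf21) (kf xf30 yf39 zf34) (kf xf30 yf45 zf56) (kf xf28 yf5 zf28) (kf xf31 yf42 zf29) (kf xf32 yf29 zf38) (kf xf32 yf29 zf37) (kf xf30 yf45 zf25) (kf xf32 yf7 zf51) (kf xf31 yf42 zf30) (kf xf27 yf34 zf48) (kf xf27 yf33 zf11) (kf xf22 yf49 zf49) (kf xf30 yf58 zf2) (kf xf30 yf57 zf54) (kf xf28 yf22 zf48) (kf xf30 yf54 zf1) (kf xf28 yf8 zf51) (kf xf30 yf54 zf2) (kf xf24 yf13 zf27) (kf xf22 yf50 zf10) (kf xf26 yf29 zf40) (kf xf29 yf21 zf1) (kf xf29 yf21 zf2) (kf xf31 yf42 zf34) (kf xf30 yf45 zf46) (kf xf28 yf45 zf27) (kf xf30 yf45 zf47) (kf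 xf30 yf35 zf29) (kf xf30 yf7 zf31) (kf xf23 yf34 zf16) (kf xf31 yf13 zf6) (kf xf22 yf50 zf25) (kf xf28 yf38 zf29) (kf xf32 yf29 zf47) (kf xf30 yf39 zf45) (kf xf22 yf50 zf24) (kf xf32 yf29 zf42)) (@D3.rec (fun _ => Pt) (kf xf30 yf39 zf46) (kf xf32 yf21 zf32) (kf xf30 yf54 zf7) (kf xf29 yf35 zf43) (kf xf32 yf40 zf7) (kf xf22 yf50 zf34) (kf xf30 yf21 zf32) (kf xf30 yf49 zf60) (kf xf30 yf38 zf19) (kf xf23 yf11 zf34) (kf xf30 yf49 zf59) (kf xf24 yf3 zf20) (kf xf24 yf26 zf12) (kf xf30 yf43 zf10) (kf xf30 yf53 zf55) (kf xf31 yf33 zf40) (kf xf31 yf26 zf17) (kf xf31 yf14 zf29) (kf xf29 yf53 zf52) (kf xf29 yf21 zf5) (kf xf29 yf21 zf6) (kf xf27 yf52 zf43) (kf xf28 yf26 zf27) (kf xf27 yf49 zf13) (kf xf29 yf20 zf59) (kf xf30 yf44 zf31) (kf xf29 yf20 zf56) (kf xf29 yf20 zf57) (kf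 xf31 yf42 zf35) (kf xf27 yf50 zf58) (kf xf29 yf20 zf61) (kf xf25 yf27 zf29) (kf xf25 yf34 zf12) (kf xf30 yf45 zf36) (kf xf30 yf20 zf44) (kf xf27 yf35 zf7) (kf xf30 yf45 zf33) (kf xf30 yf48 zf50) (kf xf29 yf55 zf36) (kf xf22 yf51 zf24) (kf xf24 yf55 zf46) (kf xf27 yf58 zf26) (kf xf24 yf55 zf33) (kf xf23 yf34 zf13) (kf xf27 yf30 zf34) (kf xf26 yf29 zf56) (kf xf30 yf44 zf49) (kf xf30 yf44 zf51) (kf xf22 yf51 zf43) (kf xf22 yf51 zf42) (kf xf23 yf9 zf6) (kf xf30 yf54 zf53) (kf xf30 yf54 zf54) (kf xf27 yf34 zf52) (kf xf27 yf58 zf17) (kf xf22 yf51 zf52) (kf xf30 yf44 zf26) (kf xf31 yf38 zf16) (kf xf31 yf43 zf31) (kf xf27 yf47 zf19) (kf xf24 yf55 zf26) (kf xf26 yf28 zf49)) (@D3.rec (fun _ => Pt) (kf xf23 yf21 zf59) (kf xf30 yf11 zf31) (kf xf28 yf28 zf31) (kf xf23 yf19 zf0)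 (kf xf30 yf55 zf36) (kf xf23 yf4 zf58) (kf xf27 yf14 zf58) (kf xf22 yf52 zf16) (kf xf26 yf23 zf17) (kf xf28 yf19 zf26) (kf xf30 yf26 zf40) (kf xf28 yf38 zf0) (kf xf22 yf52 zf27) (kf xf23 yf19 zf61) (kf xf29 yf28 zf37) (kf xf31 yf34 zf50) (kf xf22 yf56 zf35) (kf xf22 yf53 zf24) (kf xf31 yf36 zf20) (kf xf25 yf5 zf27) (kf xf32 yf33 zf48) (kf xf23 yf9 zf23) (kf xf22 yf54 zf26) (kf xf31 yf54 zf19) (kf xf25 yf24 zf49) (kf xf30 yf54 zf8) (kf xf32 yf51 zf21) (kf xf22 yf53 zf14) (kf xf22 yf53 zf13) (kf xf24 yf6 zf30) (kf xf24 yf6 zf33) (kf xf24 yf6 zf35) (kf xf22 yf53 zf3) (kf xf32 yf54 zf27) (kf xf26 yf56 zf8) (kf xf31 yf23 zf10) (kf xf30 yf54 zf47) (kf xf30 yf47 zf23) (kf xf32 yf43 zf61) (kf xf32 yf39 zf25) (kf xf30 yf47 zf24) (kf xf32 yf8 zf29) (kf xf24 yf5 zf36) (kf xf24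 yf6 zf60) (kf xf24 yf6 zf34) (kf xf31 yf59 zf24) (kf xf24 yf6 zf53) (kf xf23 yf16 zf36) (kf xf31 yf23 zf36) (kf xf25 yf35 zf57) (kf xf31 yf25 zf57) (kf xf30 yf51 zf20) (kf xf31 yf55 zf53) (kf xf31 yf13 zf21) (kf xf24 yf23 zf9) (kf xf23 yf7 zf44) (kf xf22 yf53 zf35) (kf xf23 yf18 zf22) (kf xf27 yf15 zf50) (kf xf31 yf53 zf27) (kf xf30 yf57 zf56) (kf xf23 yf8 zf30)) (@D3.rec (fun _ => Pt) (kf xf23 yf17 zf3) (kf xf23 yf17 zf4) (kf xf23 yf17 zf1) (kf xf23 yf16 zf60) (kf xf23 yf16 zf6) (kf xf26 yf22 zf0) (kf xf22 yf53 zf45) (kf xf24 yf40 zf2) (kf xf27 yf2 zf2) (kf xf26 yf45 zf20) (kf xf25 yf30 zf19) (kf xf30 yf48 zf35) (kf xf30 yf48 zf33) (kf xf29 yf5 zf34) (kf xf22 yf53 zf57) (kf xf29 yf28 zf18) (kf xf29 yf30 zf48) (kf xf25 yf36 zf3) (kf xf22 yf54 zf14) (kf xf22 yf54 zf13)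 (kf xf22 yf54 zf6) (kf xf31 yf6 zf42) (kf xf30 yf18 zf29) (kf xf30 yf46 zf37) (kf xf30 yf46 zf40) (kf xf29 yf30 zf49) (kf xf25 yf59 zf27) (kf xf28 yf11 zf8) (kf xf32 yf51 zf17) (kf xf22 yf55 zf11) (kf xf31 yf23 zf50) (kf xf32 yf7 zf40) (kf xf31 yf56 zf27) (kf xf23 yf20 zf56) (kf xf29 yf11 zf44) (kf xf30 yf26 zf51) (kf xf31 yf39 zf14) (kf xf24 yf14 zf7) (kf xf24 yf14 zf11) (kf xf31 yf45 zf53) (kf xf28 yf58 zf45) (kf xf22 yf54 zf47) (kf xf24 yf5 zf41) (kf xf28 yf33 zf59) (kf xf32 yf28 zf6) (kf xf31 yf56 zf34) (kf xf32 yf49 zf30) (kf xf31 yf57 zf57) (kf xf30 yf12 zf23) (kf xf31 yf56 zf28) (kf xf25 yf28 zf8) (kf xf29 yf18 zf40) (kf xf31 yf32 zf37) (kf xf32 yf0 zf17) (kf xf32 yf1 zf51) (kf xf30 yf54 zf28) (kf xf32 yf22 zf48) (kf xf32 yf3 zf12) (kf xf24 yf33 zf40) (kf xf24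 yf33 zf42) (kf xf30 yf55 zf34) (kf xf30 yf24 zf27)) (@D3.rec (fun _ => Pt) (kf xf26 yf24 zf26) (kf xf32 yf9 zf59) (kf xf30 yf24 zf4) (kf xf29 yf41 zf56) (kf xf30 yf54 zf58) (kf xf32 yf30 zf27) (kf xf32 yf10 zf1) (kf xf29 yf42 zf17) (kf xf31 yf44 zf14) (kf xf30 yf55 zf30) (kf xf25 yf12 zf58) (kf xf22 yf55 zf55) (kf xf28 yf22 zf40) (kf xf32 yf29 zf23) (kf xf28 yf22 zf33) (kf xf22 yf55 zf60) (kf xf27 yf10 zf13) (kf xf22 yf55 zf61) (kf xf29 yf19 zf24) (kf xf29 yf28 zf34) (kf xf23 yf16 zf8) (kf xf30 yf53 zf42) (kf xf32 yf22 zf45) (kf xf23 yf5 zf12) (kf xf31 yf44 zf13) (kf xf30 yf55 zf31) (kf xf23 yf10 zf31) (kf xf28 yf2 zf53) (kf xf23 yf16 zf13) (kf xf22 yf56 zf10) (kf xf23 yf17 zf5) (kf xf23 yf17 zf6) (kf xf23 yf17 zf7) (kf xf30 yf47 zf12) (kf xf31 yf33 zf25) (kf xf30 yf47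 zf11) (kf xf32 yf39 zf24) (kf xf24 yf0 zf52) (kf xf32 yf54 zf41) (kf xf29 yf49 zf5) (kf xf24 yf3 zf28) (kf xf26 yf39 zf28) (kf xf32 yf48 zf30) (kf xf32 yf54 zf40) (kf xf22 yf56 zf26) (kf xf24 yf2 zf9) (kf xf24 yf0 zf35) (kf xf30 yf16 zf31) (kf xf26 yf58 zf15) (kf xf30 yf30 zf56) (kf xf30 yf45 zf37) (kf xf28 yf50 zf58) (kf xf31 yf23 zf48) (kf xf28 yf51 zf39) (kf xf30 yf55 zf35) (kf xf29 yf32 zf21) (kf xf28 yf36 zf2) (kf xf30 yf29 zf49) (kf xf30 yf21 zf22) (kf xf24 yf8 zf26) (kf xf31 yf26 zf16) (kf xf29 yf21 zf24)) (@D3.rec (fun _ => Pt) (kf xf22 yf56 zf50) (kf xf30 yf37 zf4) (kf xf30 yf36 zf2) (kf xf30 yf27 zf35) (kf xf24 yf12 zf46) (kf xf31 yf22 zf61) (kf xf28 yf24 zf53) (kf xf23 yf56 zf57) (kf xf23 yf56 zf58) (kf xf23 yf57 zf1) (kf xf23 yf57 zf3) (kf xf28 yf5 zf52)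 (kf xf27 yf16 zf20) (kf xf26 yf45 zf17) (kf xf32 yf14 zf46) (kf xf22 yf57 zf17) (kf xf29 yf54 zf54) (kf xf31 yf30 zf42) (kf xf31 yf29 zf19) (kf xf25 yf34 zf47) (kf xf25 yf34 zf48) (kf xf24 yf12 zf10) (kf xf28 yf36 zf17) (kf xf28 yf50 zf46) (kf xf30 yf32 zf52) (kf xf23 yf53 zf25) (kf xf32 yf42 zf48) (kf xf29 yf7 zf53) (kf xf23 yf53 zf36) (kf xf23 yf53 zf44) (kf xf31 yf43 zf25) (kf xf31 yf19 zf12) (kf xf23 yf54 zf61) (kf xf22 yf57 zf53) (kf xf30 yf56 zf4) (kf xf32 yf36 zf25) (kf xf30 yf39 zf21) (kf xf22 yf57 zf56) (kf xf25 yf48 zf19) (kf xf31 yf22 zf46) (kf xf31 yf22 zf57) (kf xf31 yf22 zf55) (kf xf31 yf15 zf55) (kf xf30 yf50 zf43) (kf xf31 yf13 zf48) (kf xf28 yf35 zf50) (kf xf28 yf36 zf7) (kf xf29 yf54 zf51) (kf xf30 yf57 zf1) (kf xf30 yf57 zf2) (kf xf30 yf57 zf3) (kf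 xf30 yf19 zf1) (kf xf30 yf56 zf61) (kf xf30 yf57 zf5) (kf xf30 yf33 zf2) (kf xf29 yf30 zf43) (kf xf30 yf56 zf60) (kf xf29 yf30 zf45) (kf xf30 yf57 zf0) (kf xf30 yf45 zf10) (kf xf30 yf45 zf7) (kf xf30 yf22 zf25)) (@D3.rec (fun _ => Pt) (kf xf30 yf35 zf56) (kf xf32 yf51 zf13) (kf xf31 yf30 zf51) (kf xf22 yf58 zf13) (kf xf30 yf38 zf32) (kf xf24 yf10 zf37) (kf xf24 yf22 zf0) (kf xf31 yf45 zf1) (kf xf24 yf24 zf24) (kf xf30 yf31 zf13) (kf xf32 yf32 zf4) (kf xf23 yf12 zf26) (kf xf22 yf58 zf33) (kf xf32 yf40 zf9) (kf xf32 yf51 zf42) (kf xf32 yf52 zf26) (kf xf22 yf58 zf39) (kf xf24 yf24 zf39) (kf xf24 yf21 zf28) (kf xf30 yf44 zf18) (kf xf32 yf52 zf10) (kf xf27 yf14 zf61) (kf xf32 yf8 zf31) (kf xf29 yf6 zf40) (kf xf22 yf59 zf1) (kf xf31 yf23 zf5) (kf xf31 yf48 zf34) (kf xf30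 yf36 zf36) (kf xf31 yf56 zf36) (kf xf31 yf0 zf21) (kf xf31 yf23 zf6) (kf xf31 yf29 zf57) (kf xf32 yf54 zf55) (kf xf22 yf59 zf15) (kf xf29 yf35 zf39) (kf xf29 yf35 zf54) (kf xf30 yf51 zf21) (kf xf32 yf49 zf59) (kf xf29 yf30 zf17) (kf xf29 yf29 zf24) (kf xf31 yf28 zf9) (kf xf22 yf59 zf61) (kf xf30 yf38 zf21) (kf xf30 yf49 zf43) (kf xf31 yf22 zf53) (kf xf22 yf59 zf26) (kf xf29 yf42 zf12) (kf xf30 yf36 zf40) (kf xf31 yf0 zf20) (kf xf29 yf42 zf7) (kf xf29 yf34 zf40) (kf xf31 yf23 zf47) (kf xf30 yf44 zf9) (kf xf22 yf59 zf46) (kf xf25 yf57 zf34) (kf xf25 yf35 zf58) (kf xf29 yf32 zf2) (kf xf30 yf53 zf12) (kf xf29 yf32 zf34) (kf xf28 yf22 zf15) (kf xf22 yf59 zf53) (kf xf23 yf0 zf46)) (@D3.rec (fun _ => Pt) (kf xf30 yf23 zf57) (kf xf29 yf53 zf0) (kf xf29 yf19 zf26) (kf xf29 yf19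 zf23) (kf xf31 yf28 zf4) (kf xf32 yf34 zf7) (kf xf23 yf0 zf13) (kf xf26 yf22 zf18) (kf xf27 yf9 zf61) (kf xf24 yf13 zf40) (kf xf23 yf57 zf16) (kf xf24 yf13 zf43) (kf xf30 yf23 zf60) (kf xf24 yf18 zf43) (kf xf28 yf34 zf25) (kf xf23 yf0 zf35) (kf xf24 yf13 zf51) (kf xf31 yf30 zf27) (kf xf30 yf55 zf58) (kf xf25 yf52 zf5) (kf xf30 yf46 zf51) (kf xf30 yf50 zf36) (kf xf24 yf13 zf34) (kf xf30 yf51 zf34) (kf xf30 yf23 zf29) (kf xf30 yf41 zf57) (kf xf31 yf11 zf11) (kf xf29 yf11 zf61) (kf xf30 yf26 zf56) (kf xf30 yf26 zf57) (kf xf29 yf3 zf26) (kf xf29 yf4 zf7) (kf xf28 yf50 zf3) (kf xf29 yf32 zf20) (kf xf30 yf51 zf23) (kf xf29 yf37 zf13) (kf xf26 yf44 zf28) (kf xf29 yf4 zf38) (kf xf29 yf4 zf18) (kf xf29 yf4 zf19) (kf xf29 yf4 zf20) (kf xf29 yf4 zf21) (kf xf29 yf4 zf22) (kf xf29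 yf4 zf23) (kf xf31 yf27 zf36) (kf xf30 yf8 zf17) (kf xf24 yf38 zf51) (kf xf24 yf43 zf8) (kf xf27 yf24 zf49) (kf xf30 yf0 zf35) (kf xf23 yf37 zf31) (kf xf23 yf2 zf13) (kf xf23 yf2 zf7) (kf xf28 yf4 zf7) (kf xf23 yf43 zf34) (kf xf30 yf13 zf16) (kf xf23 yf42 zf46) (kf xf29 yf9 zf51) (kf xf27 yf57 zf48) (kf xf31 yf5 zf57) (kf xf23 yf44 zf29) (kf xf23 yf44 zf5)) (@D3.rec (fun _ => Pt) (kf xf23 yf2 zf14) (kf xf23 yf2 zf16) (kf xf30 yf31 zf28) (kf xf29 yf39 zf43) (kf xf30 yf31 zf14) (kf xf30 yf31 zf16) (kf xf32 yf9 zf10) (kf xf31 yf43 zf20) (kf xf30 yf3 zf34) (kf xf31 yf5 zf12) (kf xf23 yf39 zf46) (kf xf30 yf3 zf35) (kf xf30 yf3 zf36) (kf xf30 yf52 zf31) (kf xf30 yf52 zf30) (kf xf30 yf14 zf3) (kf xf30 yf52 zf33) (kf xf23 yf2 zf38) (kf xf30 yf4 zf3) (kf xf30 yf3 zf33) (kf xf28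 yf19 zf6) (kf xf23 yf3 zf12) (kf xf27 yf59 zf28) (kf xf23 yf21 zf18) (kf xf23 yf21 zf19) (kf xf30 yf59 zf33) (kf xf32 yf43 zf38) (kf xf28 yf24 zf43) (kf xf32 yf48 zf49) (kf xf23 yf3 zf2) (kf xf30 yf52 zf14) (kf xf30 yf52 zf13) (kf xf29 yf11 zf40) (kf xf30 yf52 zf16) (kf xf23 yf3 zf5) (kf xf30 yf4 zf53) (kf xf26 yf8 zf39) (kf xf32 yf30 zf42) (kf xf30 yf35 zf3) (kf xf23 yf3 zf13) (kf xf30 yf58 zf57) (kf xf30 yf58 zf58) (kf xf30 yf58 zf59) (kf xf23 yf38 zf30) (kf xf32 yf30 zf47) (kf xf28 yf11 zf55) (kf xf23 yf29 zf44) (kf xf23 yf29 zf47) (kf xf23 yf29 zf46) (kf xf23 yf38 zf44) (kf xf23 yf3 zf34) (kf xf23 yf13 zf50) (kf xf26 yf21 zf52) (kf xf32 yf11 zf37) (kf xf23 yf3 zf57) (kf xf24 yf38 zf43) (kf xf23 yf4 zf18) (kf xf23 yf4 zf16) (kf xf26 yf22 zf5) (kf xf26 yf22 zf8) (kf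 xf24 yf6 zf2) (kf xf24 yf29 zf4)) (@D3.rec (fun _ => Pt) (kf xf24 yf6 zf46) (kf xf24 yf6 zf47) (kf xf24 yf24 zf34) (kf xf24 yf24 zf33) (kf xf32 yf34 zf12) (kf xf26 yf31 zf42) (kf xf30 yf43 zf3) (kf xf30 yf42 zf61) (kf xf30 yf42 zf60) (kf xf28 yf51 zf3) (kf xf30 yf42 zf59) (kf xf30 yf43 zf0) (kf xf30 yf50 zf57) (kf xf30 yf24 zf5) (kf xf30 yf24 zf2) (kf xf29 yf9 zf12) (kf xf23 yf9 zf5) (kf xf23 yf4 zf50) (kf xf31 yf23 zf15) (kf xf23 yf9 zf28) (kf xf23 yf4 zf52) (kf xf26 yf30 zf34) (kf xf23 yf8 zf45) (kf xf28 yf32 zf8) (kf xf23 yf4 zf60) (kf xf23 yf5 zf2) (kf xf32 yf0 zf0) (kf xf23 yf5 zf7) (kf xf23 yf9 zf7) (kf xf31 yf33 zf50) (kf xf23 yf9 zf30) (kf xf23 yf9 zf26) (kf xf23 yf5 zf19) (kf xf31 yf57 zf58) (kf xf28 yf21 zf48) (kf xf23 yf11 zf16) (kf xf23 yf9 zf47) (kf xf23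 yf9 zf49) (kf xf31 yf5 zf47) (kf xf23 yf9 zf56) (kf xf23 yf9 zf52) (kf xf23 yf9 zf53) (kf xf30 yf48 zf21) (kf xf23 yf5 zf28) (kf xf23 yf5 zf29) (kf xf29 yf37 zf25) (kf xf23 yf5 zf34) (kf xf23 yf9 zf42) (kf xf32 yf41 zf15) (kf xf26 yf20 zf22) (kf xf29 yf30 zf26) (kf xf26 yf20 zf21) (kf xf32 yf33 zf47) (kf xf23 yf12 zf27) (kf xf23 yf12 zf33) (kf xf30 yf45 zf14) (kf xf23 yf18 zf30) (kf xf29 yf34 zf51) (kf xf30 yf44 zf21) (kf xf24 yf28 zf15) (kf xf23 yf17 zf57) (kf xf23 yf57 zf34)) (@D3.rec (fun _ => Pt) (kf xf27 yf58 zf38) (kf xf30 yf44 zf40) (kf xf30 yf44 zf42) (kf xf23 yf51 zf15) (kf xf23 yf51 zf18) (kf xf28 yf56 zf16) (kf xf32 yf17 zf17) (kf xf30 yf45 zf2) (kf xf30 yf46 zf25) (kf xf30 yf32 zf16) (kf xf31 yf23 zf1) (kf xf23 yf15 zf44) (kf xf27 yf9 zf17) (kf xf27 yf59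 zf47) (kf xf29 yf24 zf0) (kf xf28 yf11 zf9) (kf xf28 yf12 zf41) (kf xf23 yf7 zf14) (kf xf24 yf55 zf20) (kf xf30 yf55 zf6) (kf xf23 yf7 zf31) (kf xf28 yf45 zf29) (kf xf30 yf30 zf48) (kf xf30 yf8 zf3) (kf xf23 yf7 zf34) (kf xf26 yf25 zf21) (kf xf30 yf24 zf20) (kf xf26 yf25 zf25) (kf xf30 yf47 zf55) (kf xf32 yf44 zf59) (kf xf23 yf8 zf20) (kf xf23 yf7 zf52) (kf xf23 yf8 zf61) (kf xf25 yf24 zf47) (kf xf23 yf8 zf1) (kf xf23 yf9 zf8) (kf xf23 yf9 zf51) (kf xf26 yf29 zf0) (kf xf23 yf8 zf9) (kf xf23 yf8 zf8) (kf xf29 yf43 zf5) (kf xf29 yf43 zf4) (kf xf26 yf21 zf28) (kf xf29 yf43 zf2) (kf xf30 yf55 zf33) (kf xf25 yf29 zf8) (kf xf25 yf55 zf30) (kf xf30 yf46 zf36) (kf xf32 yf2 zf21) (kf xf27 yf15 zf33) (kf xf31 yf13 zf22) (kf xf24 yf38 zf61) (kf xf32 yf1 zf24) (kf xf30 yf45 zf51)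 (kf xf30 yf45 zf52) (kf xf27 yf44 zf23) (kf xf24 yf37 zf58) (kf xf32 yf42 zf53) (kf xf30 yf48 zf4) (kf xf29 yf41 zf58) (kf xf29 yf13 zf0) (kf xf32 yf15 zf53)) (@D3.rec (fun _ => Pt) (kf xf31 yf49 zf16) (kf xf31 yf49 zf15) (kf xf32 yf2 zf31) (kf xf24 yf2 zf60) (kf xf23 yf9 zf0) (kf xf31 yf47 zf11) (kf xf30 yf54 zf19) (kf xf32 yf10 zf11) (kf xf32 yf8 zf19) (kf xf32 yf27 zf58) (kf xf30 yf27 zf41) (kf xf31 yf53 zf31) (kf xf31 yf44 zf11) (kf xf29 yf7 zf7) (kf xf28 yf21 zf41) (kf xf30 yf58 zf20) (kf xf23 yf16 zf11) (kf xf23 yf9 zf33) (kf xf32 yf41 zf14) (kf xf24 yf15 zf43) (kf xf31 yf47 zf59) (kf xf32 yf23 zf39) (kf xf29 yf43 zf51) (kf xf28 yf28 zf17) (kf xf32 yf24 zf12) (kf xf24 yf5 zf27) (kf xf24 yf5 zf29) (kf xf29 yf29 zf48) (kf xf24 yf5 zf43) (kf xf32 yf8 zf22) (kf xf30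 yf48 zf9) (kf xf30 yf48 zf25) (kf xf26 yf17 zf52) (kf xf30 yf54 zf44) (kf xf30 yf47 zf60) (kf xf30 yf48 zf54) (kf xf30 yf46 zf4) (kf xf25 yf34 zf39) (kf xf25 yf36 zf32) (kf xf29 yf30 zf10) (kf xf32 yf22 zf40) (kf xf26 yf57 zf36) (kf xf25 yf48 zf57) (kf xf23 yf10 zf38) (kf xf26 yf17 zf26) (kf xf25 yf57 zf20) (kf xf24 yf5 zf30) (kf xf29 yf23 zf27) (kf xf29 yf55 zf15) (kf xf25 yf51 zf57) (kf xf24 yf38 zf33) (kf xf29 yf27 zf35) (kf xf29 yf47 zf2) (kf xf31 yf28 zf14) (kf xf31 yf4 zf19) (kf xf30 yf10 zf21) (kf xf23 yf11 zf21) (kf xf24 yf10 zf19) (kf xf30 yf51 zf18) (kf xf31 yf22 zf7) (kf xf31 yf54 zf34) (kf xf24 yf11 zf60)) (@D3.rec (fun _ => Pt) (kf xf23 yf11 zf26) (kf xf29 yf49 zf26) (kf xf31 yf22 zf6) (kf xf28 yf20 zf13) (kf xf30 yf49 zf34) (kf xf28 yf22 zf39) (kf xf32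 yf46 zf60) (kf xf28 yf23 zf15) (kf xf32 yf9 zf36) (kf xf24 yf27 zf10) (kf xf23 yf11 zf36) (kf xf28 yf21 zf0) (kf xf30 yf24 zf14) (kf xf30 yf26 zf38) (kf xf28 yf21 zf26) (kf xf30 yf7 zf33) (kf xf25 yf55 zf49) (kf xf30 yf36 zf44) (kf xf30 yf36 zf45) (kf xf29 yf5 zf41) (kf xf25 yf56 zf41) (kf xf23 yf12 zf19) (kf xf23 yf12 zf17) (kf xf32 yf15 zf25) (kf xf25 yf24 zf58) (kf xf30 yf26 zf26) (kf xf30 yf24 zf9) (kf xf24 yf6 zf21) (kf xf30 yf37 zf45) (kf xf32 yf24 zf15) (kf xf31 yf36 zf59) (kf xf24 yf2 zf38) (kf xf30 yf9 zf56) (kf xf31 yf35 zf43) (kf xf29 yf50 zf47) (kf xf31 yf22 zf8) (kf xf23 yf12 zf46) (kf xf24 yf22 zf8) (kf xf24 yf22 zf7) (kf xf24 yf33 zf44) (kf xf24 yf12 zf28) (kf xf25 yf53 zf1) (kf xf24 yf4 zf50) (kf xf24 yf4 zf49) (kf xf30 yf27 zf25) (kf xf30 yf56 zf51)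 (kf xf24 yf14 zf40) (kf xf32 yf32 zf55) (kf xf29 yf23 zf25) (kf xf29 yf51 zf48) (kf xf29 yf46 zf61) (kf xf30 yf56 zf45) (kf xf27 yf10 zf58) (kf xf30 yf21 zf17) (kf xf28 yf42 zf5) (kf xf24 yf15 zf47) (kf xf24 yf14 zf57) (kf xf32 yf46 zf36) (kf xf31 yf43 zf19) (kf xf25 yf34 zf24) (kf xf30 yf49 zf56) (kf xf30 yf49 zf52)) (@D3.rec (fun _ => Pt) (kf xf30 yf49 zf58) (kf xf30 yf49 zf48) (kf xf30 yf49 zf49) (kf xf30 yf49 zf50) (kf xf23 yf53 zf56) (kf xf30 yf49 zf53) (kf xf23 yf53 zf60) (kf xf23 yf16 zf33) (kf xf30 yf59 zf38) (kf xf30 yf59 zf39) (kf xf23 yf45 zf13) (kf xf30 yf2 zf17) (kf xf23 yf15 zf33) (kf xf23 yf15 zf46) (kf xf23 yf16 zf4) (kf xf23 yf16 zf5) (kf xf31 yf44 zf53) (kf xf23 yf16 zf30) (kf xf30 yf58 zf5) (kf xf23 yf16 zf40) (kf xf23 yf16 zf39) (kf xf23 yf14 zf13)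 (kf xf23 yf16 zf46) (kf xf23 yf16 zf47) (kf xf23 yf16 zf44) (kf xf23 yf17 zf12) (kf xf23 yf17 zf13) (kf xf23 yf15 zf24) (kf xf23 yf15 zf27) (kf xf23 yf14 zf18) (kf xf30 yf58 zf47) (kf xf30 yf59 zf36) (kf xf32 yf7 zf35) (kf xf23 yf15 zf57) (kf xf23 yf18 zf39) (kf xf31 yf45 zf7) (kf xf23 yf14 zf27) (kf xf23 yf18 zf27) (kf xf30 yf33 zf53) (kf xf23 yf18 zf18) (kf xf23 yf18 zf19) (kf xf23 yf18 zf20) (kf xf31 yf2 zf46) (kf xf23 yf14 zf34) (kf xf30 yf38 zf3) (kf xf28 yf18 zf46) (kf xf23 yf19 zf54) (kf xf23 yf15 zf30) (kf xf30 yf59 zf32) (kf xf31 yf44 zf10) (kf xf30 yf58 zf4) (kf xf26 yf22 zf1) (kf xf23 yf15 zf20) (kf xf32 yf44 zf60) (kf xf30 yf44 zf38) (kf xf23 yf15 zf5) (kf xf30 yf46 zf60) (kf xf23 yf16 zf15) (kf xf26 yf9 zf36) (kf xf26 yf9 zf37) (kf xf26 yf9 zf29) (kf xf28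 yf41 zf5)) (@D3.rec (fun _ => Pt) (kf xf28 yf41 zf6) (kf xf31 yf34 zf3) (kf xf30 yf44 zf37) (kf xf23 yf16 zf38) (kf xf30 yf57 zf50) (kf xf30 yf57 zf18) (kf xf28 yf10 zf47) (kf xf31 yf12 zf22) (kf xf31 yf6 zf50) (kf xf23 yf17 zf2) (kf xf23 yf16 zf41) (kf xf31 yf0 zf4) (kf xf26 yf23 zf31) (kf xf30 yf2 zf10) (kf xf28 yf2 zf60) (kf xf28 yf2 zf61) (kf xf31 yf7 zf28) (kf xf31 yf1 zf37) (kf xf23 yf17 zf19) (kf xf30 yf59 zf1) (kf xf30 yf55 zf15) (kf xf30 yf59 zf23) (kf xf30 yf59 zf18) (kf xf23 yf15 zf35) (kf xf23 yf17 zf17) (kf xf29 yf24 zf10) (kf xf23 yf15 zf49) (kf xf30 yf59 zf52) (kf xf28 yf10 zf43) (kf xf28 yf27 zf48) (kf xf23 yf15 zf48) (kf xf28 yf43 zf44) (kf xf31 yf12 zf55) (kf xf30 yf59 zf28) (kf xf30 yf59 zf45) (kf xf30 yf32 zf8) (kf xf30 yf32 zf6) (kf xf30 yf59 zf57)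 (kf xf30 yf31 zf36) (kf xf30 yf59 zf58) (kf xf29 yf6 zf22) (kf xf32 yf32 zf24) (kf xf32 yf32 zf25) (kf xf32 yf9 zf48) (kf xf32 yf55 zf10) (kf xf23 yf25 zf46) (kf xf32 yf53 zf16) (kf xf30 yf57 zf30) (kf xf27 yf58 zf12) (kf xf27 yf25 zf55) (kf xf28 yf41 zf8) (kf xf32 yf49 zf31) (kf xf32 yf50 zf17) (kf xf32 yf50 zf19) (kf xf30 yf59 zf6) (kf xf23 yf16 zf26) (kf xf31 yf45 zf4) (kf xf30 yf52 zf40) (kf xf30 yf52 zf41) (kf xf30 yf52 zf42) (kf xf31 yf34 zf1) (kf xf32 yf5 zf12)) (@D3.rec (fun _ => Pt) (kf xf31 yf58 zf50) (kf xf30 yf58 zf19) (kf xf31 yf32 zf49) (kf xf23 yf16 zf51) (kf xf23 yf28 zf52) (kf xf23 yf16 zf53) (kf xf30 yf58 zf54) (kf xf26 yf9 zf28) (kf xf31 yf2 zf47) (kf xf32 yf31 zf6) (kf xf24 yf59 zf42) (kf xf31 yf0 zf7) (kf xf31 yf6 zf24) (kf xf28 yf2 zf13) (kf xf28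 yf2 zf54) (kf xf28 yf2 zf6) (kf xf31 yf33 zf56) (kf xf23 yf17 zf9) (kf xf30 yf58 zf22) (kf xf32 yf50 zf21) (kf xf23 yf17 zf24) (kf xf23 yf17 zf23) (kf xf30 yf2 zf23) (kf xf30 yf58 zf21) (kf xf30 yf2 zf21) (kf xf32 yf5 zf3) (kf xf30 yf17 zf40) (kf xf23 yf17 zf18) (kf xf30 yf58 zf33) (kf xf31 yf58 zf31) (kf xf23 yf17 zf20) (kf xf30 yf2 zf18) (kf xf30 yf57 zf48) (kf xf30 yf52 zf25) (kf xf23 yf17 zf25) (kf xf26 yf9 zf35) (kf xf30 yf57 zf31) (kf xf26 yf9 zf31) (kf xf30 yf57 zf8) (kf xf30 yf57 zf9) (kf xf30 yf7 zf24) (kf xf31 yf2 zf9) (kf xf30 yf59 zf47) (kf xf30 yf59 zf48) (kf xf32 yf55 zf11) (kf xf30 yf58 zf34) (kf xf32 yf5 zf45) (kf xf30 yf59 zf42) (kf xf30 yf59 zf43) (kf xf30 yf35 zf1) (kf xf30 yf35 zf2) (kf xf23 yf17 zf50) (kf xf30 yf58 zf27) (kf xf28 yf31 zf60) (kf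 xf31 yf42 zf42) (kf xf28 yf26 zf3) (kf xf23 yf18 zf10) (kf xf30 yf58 zf37) (kf xf30 yf58 zf39) (kf xf24 yf31 zf39) (kf xf26 yf11 zf52) (kf xf23 yf18 zf15))
def f_f_31 : D2 → D3 → Pt := @D2.rec (fun _ => D3 → Pt) (@D3.rec (fun _ => Pt) (kf xf32 yf31 zf15) (kf xf32 yf31 zf14) (kf xf32 yf55 zf12) (kf xf24 yf59 zf44) (kf xf30 yf58 zf11) (kf xf23 yf18 zf28) (kf xf26 yf26 zf31) (kf xf30 yf59 zf11) (kf xf31 yf6 zf14) (kf xf23 yf18 zf40) (kf xf23 yf18 zf41) (kf xf29 yf24 zf11) (kf xf30 yf21 zf0) (kf xf30 yf21 zf2) (kf xf28 yf5 zf43) (kf xf23 yf19 zf3) (kf xf23 yf19 zf2) (kf xf32 yf8 zf4) (kf xf23 yf18 zf56) (kf xf23 yf19 zf6) (kf xf30 yf50 zf48) (kf xf30 yf50 zf29) (kf xf29 yf19 zf1) (kf xf32 yf27 zf40) (kf xf23 yf19 zf4) (kf xf28 yf33 zf49) (kf xf28 yf38 zf9) (kf xf29 yf39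 zf9) (kf xf24 yf15 zf61) (kf xf28 yf33 zf22) (kf xf30 yf15 zf6) (kf xf29 yf16 zf56) (kf xf25 yf33 zf15) (kf xf24 yf1 zf21) (kf xf30 yf32 zf45) (kf xf23 yf19 zf25) (kf xf23 yf19 zf31) (kf xf27 yf41 zf3) (kf xf24 yf30 zf40) (kf xf27 yf12 zf11) (kf xf26 yf57 zf40) (kf xf29 yf48 zf54) (kf xf31 yf2 zf5) (kf xf26 yf8 zf50) (kf xf26 yf8 zf49) (kf xf28 yf28 zf37) (kf xf23 yf23 zf3) (kf xf29 yf51 zf29) (kf xf30 yf36 zf4) (kf xf23 yf20 zf12) (kf xf31 yf44 zf46) (kf xf23 yf20 zf47) (kf xf28 yf2 zf15) (kf xf27 yf30 zf54) (kf xf31 yf6 zf4) (kf xf25 yf1 zf57) (kf xf29 yf11 zf47) (kf xf29 yf17 zf27) (kf xf29 yf52 zf16) (kf xf30 yf13 zf14) (kf xf30 yf13 zf17) (kf xf30 yf13 zf19)) (@D3.rec (fun _ => Pt) (kf xf32 yf6 zf40) (kf xf27 yf57 zf42) (kf xf32 yf54 zf58) (kf xf32 yf54 zf59) (kf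 xf23 yf21 zf25) (kf xf32 yf41 zf22) (kf xf24 yf57 zf44) (kf xf27 yf3 zf35) (kf xf30 yf33 zf38) (kf xf30 yf33 zf25) (kf xf30 yf13 zf46) (kf xf29 yf6 zf23) (kf xf30 yf33 zf33) (kf xf29 yf14 zf1) (kf xf26 yf32 zf58) (kf xf30 yf33 zf36) (kf xf31 yf32 zf39) (kf xf26 yf32 zf42) (kf xf26 yf17 zf8) (kf xf32 yf9 zf46) (kf xf26 yf13 zf23) (kf xf30 yf23 zf10) (kf xf32 yf29 zf41) (kf xf23 yf22 zf22) (kf xf23 yf46 zf10) (kf xf30 yf28 zf37) (kf xf31 yf7 zf21) (kf xf31 yf7 zf22) (kf xf27 yf46 zf43) (kf xf30 yf5 zf24) (kf xf28 yf2 zf18) (kf xf31 yf7 zf39) (kf xf26 yf12 zf27) (kf xf23 yf23 zf0) (kf xf32 yf2 zf55) (kf xf30 yf32 zf40) (kf xf31 yf7 zf27) (kf xf30 yf58 zf17) (kf xf30 yf38 zf53) (kf xf27 yf41 zf27) (kf xf23 yf23 zf11) (kf xf31 yf37 zf31) (kf xf27 yf23 zf9) (kf xf31 yf57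 zf50) (kf xf23 yf23 zf25) (kf xf31 yf7 zf29) (kf xf23 yf23 zf31) (kf xf28 yf58 zf52) (kf xf27 yf51 zf11) (kf xf30 yf30 zf8) (kf xf30 yf22 zf21) (kf xf30 yf31 zf23) (kf xf23 yf27 zf29) (kf xf25 yf31 zf28) (kf xf30 yf1 zf27) (kf xf28 yf56 zf54) (kf xf30 yf16 zf40) (kf xf31 yf59 zf37) (kf xf31 yf37 zf52) (kf xf23 yf38 zf36) (kf xf31 yf5 zf9) (kf xf32 yf30 zf24)) (@D3.rec (fun _ => Pt) (kf xf23 yf24 zf36) (kf xf31 yf3 zf4) (kf xf31 yf7 zf49) (kf xf32 yf53 zf58) (kf xf28 yf9 zf29) (kf xf31 yf0 zf42) (kf xf27 yf40 zf55) (kf xf30 yf34 zf5) (kf xf23 yf25 zf6) (kf xf30 yf59 zf41) (kf xf31 yf7 zf57) (kf xf26 yf9 zf24) (kf xf31 yf2 zf48) (kf xf31 yf7 zf59) (kf xf31 yf7 zf61) (kf xf31 yf8 zf0) (kf xf31 yf6 zf52) (kf xf23 yf24 zf61) (kf xf31 yf2 zf45) (kf xf31 yf7 zf60) (kf xf29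 yf12 zf20) (kf xf31 yf6 zf26) (kf xf31 yf6 zf27) (kf xf31 yf8 zf3) (kf xf31 yf8 zf2) (kf xf23 yf31 zf9) (kf xf23 yf30 zf59) (kf xf23 yf31 zf53) (kf xf23 yf31 zf23) (kf xf30 yf2 zf39) (kf xf23 yf31 zf52) (kf xf23 yf32 zf14) (kf xf23 yf32 zf11) (kf xf23 yf32 zf12) (kf xf23 yf32 zf37) (kf xf23 yf32 zf38) (kf xf23 yf32 zf39) (kf xf28 yf26 zf2) (kf xf27 yf57 zf17) (kf xf23 yf32 zf57) (kf xf23 yf33 zf11) (kf xf23 yf33 zf22) (kf xf28 yf11 zf37) (kf xf23 yf25 zf54) (kf xf23 yf33 zf48) (kf xf31 yf2 zf18) (kf xf30 yf57 zf42) (kf xf30 yf59 zf8) (kf xf31 yf2 zf12) (kf xf29 yf11 zf6) (kf xf24 yf54 zf17) (kf xf23 yf26 zf0) (kf xf29 yf26 zf47) (kf xf31 yf8 zf48) (kf xf31 yf37 zf47) (kf xf28 yf41 zf15) (kf xf23 yf26 zf3) (kf xf31 yf5 zf19) (kf xf32 yf4 zf35) (kf xf29 yf26 zf49) (kf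 xf31 yf5 zf18) (kf xf30 yf40 zf25)) (@D3.rec (fun _ => Pt) (kf xf31 yf8 zf35) (kf xf31 yf8 zf34) (kf xf32 yf48 zf45) (kf xf31 yf10 zf27) (kf xf31 yf2 zf1) (kf xf30 yf16 zf60) (kf xf24 yf10 zf14) (kf xf31 yf9 zf23) (kf xf24 yf10 zf18) (kf xf31 yf29 zf51) (kf xf25 yf39 zf60) (kf xf25 yf40 zf0) (kf xf25 yf39 zf61) (kf xf31 yf10 zf15) (kf xf31 yf10 zf17) (kf xf31 yf10 zf18) (kf xf31 yf58 zf20) (kf xf30 yf10 zf32) (kf xf31 yf10 zf16) (kf xf27 yf41 zf0) (kf xf27 yf43 zf33) (kf xf32 yf48 zf12) (kf xf30 yf40 zf26) (kf xf23 yf26 zf47) (kf xf30 yf7 zf28) (kf xf31 yf8 zf21) (kf xf32 yf53 zf57) (kf xf30 yf9 zf60) (kf xf31 yf57 zf10) (kf xf30 yf33 zf37) (kf xf29 yf15 zf33) (kf xf30 yf9 zf61) (kf xf23 yf27 zf24) (kf xf31 yf5 zf20) (kf xf32 yf42 zf34) (kf xf30 yf37 zf6) (kf xf30 yf37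 zf7) (kf xf30 yf37 zf8) (kf xf32 yf35 zf49) (kf xf31 yf9 zf24) (kf xf32 yf55 zf27) (kf xf23 yf27 zf4) (kf xf32 yf19 zf51) (kf xf23 yf27 zf34) (kf xf31 yf10 zf25) (kf xf23 yf29 zf57) (kf xf23 yf27 zf37) (kf xf23 yf27 zf36) (kf xf27 yf54 zf20) (kf xf24 yf8 zf60) (kf xf29 yf47 zf57) (kf xf23 yf41 zf44) (kf xf23 yf27 zf41) (kf xf32 yf2 zf32) (kf xf31 yf10 zf26) (kf xf31 yf9 zf28) (kf xf32 yf1 zf26) (kf xf32 yf49 zf33) (kf xf31 yf5 zf38) (kf xf31 yf9 zf3) (kf xf25 yf14 zf22) (kf xf31 yf7 zf20)) (@D3.rec (fun _ => Pt) (kf xf31 yf9 zf5) (kf xf27 yf3 zf42) (kf xf25 yf42 zf40) (kf xf31 yf8 zf59) (kf xf23 yf27 zf52) (kf xf31 yf5 zf35) (kf xf31 yf9 zf6) (kf xf31 yf9 zf10) (kf xf31 yf34 zf40) (kf xf31 yf54 zf6) (kf xf32 yf54 zf12) (kf xf24 yf34 zf52) (kf xf24 yf34 zf51) (kf xf30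 yf20 zf20) (kf xf31 yf9 zf21) (kf xf31 yf57 zf23) (kf xf32 yf43 zf27) (kf xf28 yf41 zf37) (kf xf31 yf56 zf47) (kf xf30 yf55 zf54) (kf xf29 yf3 zf34) (kf xf32 yf43 zf57) (kf xf23 yf28 zf22) (kf xf25 yf14 zf52) (kf xf30 yf26 zf61) (kf xf31 yf7 zf19) (kf xf31 yf8 zf40) (kf xf31 yf9 zf33) (kf xf31 yf5 zf42) (kf xf31 yf5 zf43) (kf xf31 yf16 zf51) (kf xf24 yf40 zf18) (kf xf30 yf13 zf3) (kf xf31 yf11 zf24) (kf xf23 yf29 zf5) (kf xf32 yf3 zf19) (kf xf23 yf28 zf34) (kf xf31 yf9 zf56) (kf xf31 yf9 zf55) (kf xf30 yf41 zf15) (kf xf31 yf5 zf51) (kf xf32 yf2 zf58) (kf xf31 yf9 zf58) (kf xf31 yf5 zf50) (kf xf31 yf49 zf42) (kf xf31 yf9 zf61) (kf xf31 yf10 zf0) (kf xf32 yf29 zf16) (kf xf30 yf41 zf34) (kf xf30 yf41 zf33) (kf xf23 yf28 zf43) (kf xf24 yf17 zf36) (kf xf24 yf17 zf41) (kf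 xf23 yf28 zf45) (kf xf30 yf41 zf59) (kf xf31 yf8 zf24) (kf xf31 yf11 zf48) (kf xf23 yf29 zf2) (kf xf23 yf28 zf60) (kf xf29 yf58 zf32) (kf xf29 yf59 zf28) (kf xf31 yf9 zf0)) (@D3.rec (fun _ => Pt) (kf xf30 yf13 zf51) (kf xf31 yf5 zf49) (kf xf31 yf30 zf18) (kf xf31 yf57 zf44) (kf xf30 yf42 zf14) (kf xf32 yf39 zf10) (kf xf31 yf11 zf23) (kf xf27 yf40 zf57) (kf xf32 yf49 zf11) (kf xf31 yf1 zf60) (kf xf31 yf11 zf5) (kf xf31 yf11 zf8) (kf xf30 yf52 zf9) (kf xf24 yf42 zf33) (kf xf29 yf49 zf55) (kf xf31 yf8 zf53) (kf xf32 yf16 zf18) (kf xf31 yf34 zf34) (kf xf31 yf2 zf60) (kf xf31 yf2 zf57) (kf xf31 yf3 zf33) (kf xf23 yf29 zf61) (kf xf30 yf43 zf48) (kf xf32 yf5 zf20) (kf xf31 yf37 zf1) (kf xf23 yf29 zf53) (kf xf30 yf10 zf19) (kf xf31 yf37 zf9) (kf xf31 yf53 zf12) (kf xf31 yf10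 zf39) (kf xf31 yf10 zf60) (kf xf30 yf13 zf37) (kf xf31 yf11 zf1) (kf xf31 yf10 zf61) (kf xf23 yf30 zf9) (kf xf31 yf4 zf5) (kf xf31 yf10 zf52) (kf xf32 yf43 zf56) (kf xf31 yf3 zf58) (kf xf23 yf30 zf12) (kf xf23 yf30 zf26) (kf xf31 yf11 zf6) (kf xf31 yf4 zf28) (kf xf31 yf4 zf29) (kf xf29 yf12 zf8) (kf xf32 yf42 zf11) (kf xf30 yf37 zf16) (kf xf30 yf53 zf38) (kf xf23 yf30 zf22) (kf xf31 yf5 zf1) (kf xf31 yf4 zf43) (kf xf31 yf4 zf40) (kf xf31 yf11 zf19) (kf xf29 yf9 zf49) (kf xf23 yf30 zf48) (kf xf24 yf33 zf2) (kf xf24 yf44 zf2) (kf xf30 yf51 zf59) (kf xf31 yf11 zf37) (kf xf23 yf31 zf42) (kf xf23 yf31 zf44) (kf xf30 yf42 zf33)) (@D3.rec (fun _ => Pt) (kf xf29 yf9 zf52) (kf xf31 yf6 zf5) (kf xf27 yf46 zf47) (kf xf31 yf59 zf21) (kf xf31 yf0 zf54) (kf xf31 yf6 zf1) (kf xf24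 yf43 zf59) (kf xf23 yf31 zf30) (kf xf28 yf21 zf21) (kf xf27 yf57 zf34) (kf xf32 yf28 zf29) (kf xf32 yf5 zf22) (kf xf32 yf6 zf54) (kf xf23 yf31 zf60) (kf xf31 yf0 zf8) (kf xf32 yf50 zf43) (kf xf24 yf40 zf20) (kf xf25 yf58 zf61) (kf xf30 yf20 zf35) (kf xf31 yf44 zf47) (kf xf24 yf23 zf35) (kf xf27 yf27 zf27) (kf xf25 yf18 zf13) (kf xf31 yf44 zf2) (kf xf30 yf59 zf12) (kf xf28 yf12 zf27) (kf xf31 yf2 zf21) (kf xf31 yf2 zf22) (kf xf28 yf21 zf18) (kf xf28 yf21 zf16) (kf xf30 yf42 zf41) (kf xf26 yf9 zf61) (kf xf26 yf47 zf23) (kf xf29 yf10 zf49) (kf xf31 yf8 zf23) (kf xf29 yf5 zf56) (kf xf31 yf8 zf25) (kf xf31 yf59 zf27) (kf xf30 yf13 zf40) (kf xf28 yf4 zf11) (kf xf29 yf11 zf42) (kf xf31 yf9 zf59) (kf xf30 yf47 zf21) (kf xf31 yf50 zf28) (kf xf27 yf14 zf22) (kf xf23 yf33 zf33)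 (kf xf26 yf26 zf1) (kf xf26 yf27 zf31) (kf xf31 yf59 zf20) (kf xf32 yf49 zf21) (kf xf30 yf58 zf8) (kf xf23 yf33 zf47) (kf xf31 yf2 zf16) (kf xf23 yf37 zf25) (kf xf31 yf6 zf60) (kf xf25 yf0 zf24) (kf xf31 yf6 zf61) (kf xf25 yf15 zf52) (kf xf24 yf13 zf11) (kf xf24 yf13 zf37) (kf xf31 yf6 zf54) (kf xf31 yf6 zf56)) (@D3.rec (fun _ => Pt) (kf xf26 yf12 zf48) (kf xf30 yf22 zf26) (kf xf23 yf34 zf24) (kf xf31 yf36 zf5) (kf xf32 yf1 zf43) (kf xf29 yf9 zf35) (kf xf23 yf34 zf46) (kf xf25 yf34 zf32) (kf xf27 yf24 zf57) (kf xf30 yf12 zf48) (kf xf26 yf16 zf38) (kf xf23 yf35 zf4) (kf xf23 yf35 zf3) (kf xf24 yf23 zf37) (kf xf30 yf24 zf7) (kf xf27 yf57 zf14) (kf xf30 yf5 zf32) (kf xf26 yf2 zf25) (kf xf23 yf35 zf37) (kf xf31 yf4 zf25) (kf xf31 yf3 zf61) (kf xf31 yf1 zf26) (kf xf31 yf1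 zf27) (kf xf27 yf47 zf58) (kf xf28 yf41 zf22) (kf xf31 yf55 zf48) (kf xf31 yf43 zf32) (kf xf31 yf1 zf36) (kf xf30 yf58 zf16) (kf xf31 yf1 zf45) (kf xf30 yf16 zf34) (kf xf23 yf57 zf19) (kf xf25 yf41 zf38) (kf xf29 yf0 zf14) (kf xf23 yf36 zf20) (kf xf25 yf38 zf7) (kf xf25 yf38 zf55) (kf xf28 yf49 zf55) (kf xf28 yf6 zf19) (kf xf31 yf1 zf31) (kf xf28 yf6 zf17) (kf xf27 yf33 zf17) (kf xf28 yf15 zf30) (kf xf30 yf35 zf15) (kf xf26 yf17 zf6) (kf xf27 yf50 zf9) (kf xf26 yf23 zf32) (kf xf29 yf7 zf60) (kf xf23 yf41 zf14) (kf xf31 yf2 zf2) (kf xf32 yf32 zf32) (kf xf28 yf6 zf7) (kf xf26 yf9 zf32) (kf xf32 yf28 zf16) (kf xf30 yf13 zf47) (kf xf27 yf44 zf54) (kf xf28 yf43 zf46) (kf xf31 yf2 zf10) (kf xf29 yf11 zf46) (kf xf31 yf2 zf13) (kf xf31 yf2 zf19) (kf xf31 yf2 zf14)) (@D3.rec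 (fun _ => Pt) (kf xf31 yf2 zf15) (kf xf30 yf41 zf61) (kf xf31 yf2 zf24) (kf xf31 yf2 zf23) (kf xf30 yf37 zf25) (kf xf23 yf37 zf36) (kf xf23 yf43 zf6) (kf xf23 yf43 zf7) (kf xf23 yf37 zf44) (kf xf28 yf27 zf41) (kf xf28 yf27 zf43) (kf xf29 yf41 zf31) (kf xf29 yf41 zf32) (kf xf29 yf41 zf30) (kf xf31 yf13 zf5) (kf xf32 yf24 zf56) (kf xf32 yf6 zf12) (kf xf27 yf25 zf50) (kf xf31 yf14 zf46) (kf xf32 yf28 zf37) (kf xf32 yf28 zf38) (kf xf31 yf3 zf25) (kf xf29 yf13 zf55) (kf xf31 yf6 zf34) (kf xf31 yf4 zf55) (kf xf31 yf6 zf36) (kf xf29 yf11 zf4) (kf xf28 yf11 zf56) (kf xf28 yf13 zf25) (kf xf31 yf36 zf61) (kf xf29 yf10 zf29) (kf xf32 yf53 zf42) (kf xf29 yf49 zf42) (kf xf23 yf38 zf29) (kf xf31 yf3 zf1) (kf xf31 yf3 zf0) (kf xf32 yf32 zf10) (kf xf32 yf43 zf9) (kf xf32 yf26 zf59)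 (kf xf29 yf9 zf58) (kf xf31 yf4 zf26) (kf xf32 yf15 zf60) (kf xf23 yf38 zf33) (kf xf26 yf47 zf12) (kf xf29 yf10 zf10) (kf xf29 yf10 zf12) (kf xf23 yf38 zf35) (kf xf31 yf11 zf22) (kf xf31 yf2 zf53) (kf xf29 yf10 zf25) (kf xf29 yf11 zf38) (kf xf26 yf47 zf46) (kf xf32 yf49 zf9) (kf xf31 yf5 zf15) (kf xf31 yf10 zf58) (kf xf31 yf10 zf57) (kf xf23 yf38 zf41) (kf xf30 yf41 zf47) (kf xf30 yf41 zf46) (kf xf31 yf4 zf3) (kf xf25 yf42 zf39) (kf xf25 yf42 zf38)) (@D3.rec (fun _ => Pt) (kf xf31 yf4 zf61) (kf xf30 yf10 zf60) (kf xf24 yf2 zf18) (kf xf31 yf3 zf59) (kf xf31 yf37 zf2) (kf xf31 yf4 zf0) (kf xf31 yf4 zf6) (kf xf29 yf10 zf23) (kf xf23 yf38 zf59) (kf xf32 yf41 zf60) (kf xf31 yf4 zf7) (kf xf23 yf39 zf42) (kf xf29 yf13 zf56) (kf xf31 yf58 zf41) (kf xf29 yf13 zf58) (kf xf29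 yf13 zf57) (kf xf32 yf50 zf50) (kf xf31 yf56 zf16) (kf xf32 yf4 zf38) (kf xf24 yf20 zf14) (kf xf30 yf1 zf41) (kf xf31 yf4 zf14) (kf xf23 yf39 zf18) (kf xf31 yf3 zf7) (kf xf31 yf3 zf39) (kf xf24 yf38 zf2) (kf xf23 yf39 zf21) (kf xf27 yf30 zf27) (kf xf31 yf3 zf55) (kf xf24 yf40 zf11) (kf xf24 yf40 zf10) (kf xf29 yf10 zf11) (kf xf31 yf44 zf60) (kf xf31 yf4 zf27) (kf xf32 yf54 zf21) (kf xf32 yf55 zf45) (kf xf24 yf17 zf44) (kf xf24 yf17 zf45) (kf xf24 yf17 zf43) (kf xf24 yf17 zf46) (kf xf32 yf55 zf47) (kf xf27 yf42 zf23) (kf xf23 yf39 zf34) (kf xf23 yf39 zf37) (kf xf29 yf47 zf60) (kf xf32 yf48 zf15) (kf xf24 yf17 zf25) (kf xf31 yf16 zf50) (kf xf23 yf39 zf36) (kf xf24 yf4 zf43) (kf xf24 yf4 zf40) (kf xf29 yf14 zf7) (kf xf24 yf39 zf57) (kf xf25 yf4 zf40) (kf xf31 yf10 zf32)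 (kf xf31 yf4 zf38) (kf xf31 yf4 zf37) (kf xf29 yf34 zf47) (kf xf31 yf4 zf42) (kf xf31 yf6 zf41) (kf xf31 yf10 zf11) (kf xf31 yf4 zf45)) (@D3.rec (fun _ => Pt) (kf xf31 yf4 zf46) (kf xf28 yf47 zf20) (kf xf28 yf47 zf6) (kf xf29 yf5 zf44) (kf xf31 yf47 zf29) (kf xf23 yf39 zf52) (kf xf24 yf39 zf47) (kf xf23 yf39 zf54) (kf xf26 yf47 zf55) (kf xf31 yf10 zf19) (kf xf30 yf0 zf46) (kf xf31 yf9 zf60) (kf xf31 yf57 zf22) (kf xf30 yf41 zf14) (kf xf30 yf10 zf59) (kf xf31 yf3 zf13) (kf xf31 yf3 zf18) (kf xf31 yf3 zf14) (kf xf31 yf3 zf15) (kf xf31 yf10 zf9) (kf xf32 yf4 zf30) (kf xf30 yf24 zf41) (kf xf31 yf57 zf61) (kf xf29 yf5 zf33) (kf xf32 yf53 zf14) (kf xf31 yf3 zf44) (kf xf31 yf3 zf54) (kf xf31 yf3 zf3) (kf xf27 yf4 zf34) (kf xf23 yf41 zf56) (kf xf31 yf57 zf49) (kf xf23 yf40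 zf60) (kf xf31 yf9 zf54) (kf xf23 yf40 zf43) (kf xf23 yf41 zf1) (kf xf23 yf41 zf15) (kf xf32 yf2 zf29) (kf xf23 yf41 zf12) (kf xf32 yf32 zf19) (kf xf31 yf5 zf29) (kf xf32 yf49 zf27) (kf xf32 yf38 zf13) (kf xf32 yf3 zf15) (kf xf32 yf54 zf57) (kf xf29 yf5 zf12) (kf xf28 yf19 zf20) (kf xf23 yf41 zf22) (kf xf23 yf58 zf25) (kf xf32 yf43 zf45) (kf xf32 yf24 zf32) (kf xf30 yf19 zf26) (kf xf31 yf48 zf12) (kf xf31 yf5 zf36) (kf xf23 yf41 zf13) (kf xf32 yf2 zf59) (kf xf31 yf57 zf20) (kf xf28 yf52 zf53) (kf xf31 yf8 zf55) (kf xf31 yf8 zf54) (kf xf27 yf40 zf54) (kf xf31 yf5 zf30) (kf xf31 yf5 zf33)) (@D3.rec (fun _ => Pt) (kf xf32 yf49 zf43) (kf xf31 yf5 zf32) (kf xf23 yf41 zf29) (kf xf27 yf44 zf9) (kf xf23 yf41 zf48) (kf xf31 yf5 zf10) (kf xf31 yf5 zf41) (kf xf31 yf16 zf57) (kf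 xf31 yf5 zf11) (kf xf24 yf40 zf17) (kf xf24 yf40 zf19) (kf xf30 yf51 zf26) (kf xf23 yf41 zf43) (kf xf29 yf5 zf7) (kf xf29 yf5 zf17) (kf xf24 yf17 zf15) (kf xf24 yf16 zf42) (kf xf26 yf44 zf15) (kf xf27 yf44 zf10) (kf xf31 yf5 zf52) (kf xf30 yf10 zf11) (kf xf32 yf54 zf23) (kf xf31 yf8 zf47) (kf xf31 yf5 zf6) (kf xf31 yf4 zf33) (kf xf32 yf54 zf13) (kf xf26 yf12 zf32) (kf xf32 yf5 zf23) (kf xf30 yf9 zf1) (kf xf25 yf58 zf25) (kf xf31 yf18 zf17) (kf xf31 yf35 zf59) (kf xf26 yf8 zf2) (kf xf30 yf31 zf48) (kf xf30 yf31 zf47) (kf xf30 yf31 zf50) (kf xf29 yf17 zf31) (kf xf31 yf5 zf58) (kf xf26 yf9 zf30) (kf xf28 yf2 zf10) (kf xf28 yf3 zf53) (kf xf32 yf31 zf29) (kf xf23 yf43 zf17) (kf xf27 yf28 zf42) (kf xf23 yf43 zf45) (kf xf32 yf31 zf4) (kf xf28 yf4 zf5) (kf xf28 yf4 zf6) (kf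 xf31 yf4 zf56) (kf xf26 yf7 zf44) (kf xf31 yf16 zf44) (kf xf29 yf9 zf47) (kf xf24 yf34 zf0) (kf xf32 yf48 zf57) (kf xf31 yf56 zf40) (kf xf31 yf57 zf37) (kf xf32 yf27 zf43) (kf xf31 yf16 zf30) (kf xf32 yf54 zf0) (kf xf24 yf34 zf4) (kf xf27 yf28 zf38) (kf xf28 yf4 zf12)) (@D3.rec (fun _ => Pt) (kf xf28 yf3 zf10) (kf xf31 yf12 zf20) (kf xf32 yf6 zf49) (kf xf31 yf57 zf52) (kf xf23 yf44 zf9) (kf xf32 yf49 zf12) (kf xf32 yf6 zf39) (kf xf32 yf6 zf38) (kf xf25 yf46 zf32) (kf xf27 yf44 zf42) (kf xf26 yf7 zf7) (kf xf23 yf44 zf51) (kf xf32 yf28 zf18) (kf xf32 yf3 zf29) (kf xf30 yf32 zf36) (kf xf32 yf3 zf46) (kf xf23 yf44 zf56) (kf xf23 yf44 zf60) (kf xf30 yf5 zf33) (kf xf23 yf45 zf5) (kf xf31 yf12 zf1) (kf xf23 yf45 zf17) (kf xf30 yf58 zf7) (kf xf32 yf49 zf23) (kf xf23 yf45 zf16)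 (kf xf30 yf37 zf34) (kf xf30 yf7 zf11) (kf xf23 yf57 zf50) (kf xf26 yf57 zf5) (kf xf32 yf45 zf34) (kf xf32 yf44 zf54) (kf xf23 yf48 zf51) (kf xf28 yf46 zf17) (kf xf28 yf46 zf5) (kf xf25 yf53 zf8) (kf xf30 yf25 zf29) (kf xf30 yf25 zf30) (kf xf30 yf14 zf48) (kf xf30 yf25 zf25) (kf xf30 yf25 zf31) (kf xf28 yf34 zf17) (kf xf23 yf45 zf57) (kf xf24 yf25 zf18) (kf xf28 yf55 zf38) (kf xf30 yf29 zf26) (kf xf23 yf45 zf61) (kf xf24 yf24 zf32) (kf xf24 yf24 zf31) (kf xf24 yf24 zf26) (kf xf24 yf24 zf27) (kf xf24 yf30 zf12) (kf xf24 yf30 zf13) (kf xf24 yf30 zf3) (kf xf24 yf29 zf61) (kf xf30 yf39 zf3) (kf xf30 yf58 zf32) (kf xf26 yf54 zf56) (kf xf31 yf13 zf42) (kf xf29 yf37 zf36) (kf xf28 yf21 zf54) (kf xf31 yf48 zf50) (kf xf29 yf53 zf25)) (@D3.rec (fun _ => Pt) (kf xf29 yf3 zf33)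 (kf xf26 yf59 zf55) (kf xf29 yf3 zf58) (kf xf31 yf36 zf47) (kf xf30 yf20 zf18) (kf xf31 yf8 zf14) (kf xf30 yf44 zf55) (kf xf30 yf37 zf3) (kf xf32 yf37 zf11) (kf xf31 yf13 zf47) (kf xf28 yf50 zf51) (kf xf27 yf2 zf12) (kf xf27 yf15 zf2) (kf xf29 yf36 zf46) (kf xf31 yf22 zf20) (kf xf23 yf51 zf34) (kf xf30 yf12 zf22) (kf xf24 yf6 zf13) (kf xf29 yf49 zf20) (kf xf24 yf2 zf32) (kf xf27 yf23 zf8) (kf xf30 yf46 zf53) (kf xf30 yf54 zf50) (kf xf32 yf53 zf8) (kf xf30 yf17 zf24) (kf xf27 yf10 zf40) (kf xf32 yf29 zf26) (kf xf32 yf53 zf26) (kf xf32 yf51 zf14) (kf xf23 yf48 zf17) (kf xf23 yf48 zf16) (kf xf30 yf21 zf28) (kf xf32 yf36 zf52) (kf xf32 yf21 zf14) (kf xf28 yf52 zf47) (kf xf30 yf22 zf59) (kf xf24 yf12 zf29) (kf xf23 yf48 zf8) (kf xf30 yf22 zf16) (kf xf30 yf18 zf34) (kf xf32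 yf52 zf5) (kf xf30 yf38 zf14) (kf xf31 yf12 zf57) (kf xf31 yf23 zf7) (kf xf31 yf58 zf27) (kf xf23 yf48 zf24) (kf xf31 yf30 zf36) (kf xf31 yf13 zf9) (kf xf30 yf49 zf44) (kf xf31 yf33 zf24) (kf xf31 yf15 zf17) (kf xf31 yf22 zf25) (kf xf29 yf1 zf61) (kf xf32 yf22 zf42) (kf xf27 yf10 zf19) (kf xf29 yf48 zf16) (kf xf32 yf20 zf18) (kf xf27 yf8 zf46) (kf xf32 yf46 zf26) (kf xf28 yf17 zf46) (kf xf23 yf49 zf1) (kf xf30 yf29 zf0)) (@D3.rec (fun _ => Pt) (kf xf29 yf30 zf40) (kf xf29 yf33 zf45) (kf xf29 yf45 zf26) (kf xf29 yf45 zf25) (kf xf30 yf25 zf59) (kf xf24 yf1 zf6) (kf xf32 yf22 zf60) (kf xf23 yf49 zf16) (kf xf24 yf1 zf15) (kf xf32 yf17 zf56) (kf xf29 yf35 zf3) (kf xf24 yf19 zf18) (kf xf32 yf49 zf19) (kf xf24 yf0 zf11) (kf xf24 yf22 zf19) (kf xf28 yf53 zf45) (kf xf31 yf14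 zf24) (kf xf24 yf1 zf58) (kf xf28 yf16 zf21) (kf xf23 yf51 zf5) (kf xf30 yf7 zf38) (kf xf28 yf19 zf1) (kf xf32 yf21 zf31) (kf xf32 yf29 zf29) (kf xf31 yf14 zf16) (kf xf27 yf29 zf13) (kf xf24 yf55 zf14) (kf xf28 yf41 zf41) (kf xf27 yf55 zf9) (kf xf30 yf45 zf17) (kf xf31 yf18 zf7) (kf xf27 yf20 zf54) (kf xf29 yf31 zf46) (kf xf25 yf1 zf4) (kf xf30 yf0 zf51) (kf xf23 yf50 zf37) (kf xf23 yf50 zf36) (kf xf23 yf50 zf28) (kf xf32 yf53 zf28) (kf xf27 yf40 zf3) (kf xf32 yf29 zf4) (kf xf32 yf31 zf7) (kf xf32 yf29 zf12) (kf xf28 yf25 zf45) (kf xf28 yf5 zf25) (kf xf32 yf5 zf59) (kf xf31 yf8 zf18) (kf xf31 yf38 zf33) (kf xf23 yf50 zf45) (kf xf32 yf55 zf40) (kf xf23 yf50 zf53) (kf xf28 yf25 zf51) (kf xf32 yf28 zf49) (kf xf28 yf6 zf3) (kf xf32 yf25 zf27) (kf xf29 yf30 zf58) (kf xf32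 yf44 zf5) (kf xf32 yf54 zf32) (kf xf32 yf32 zf31) (kf xf23 yf50 zf56) (kf xf32 yf30 zf11) (kf xf32 yf32 zf2)) (@D3.rec (fun _ => Pt) (kf xf26 yf52 zf5) (kf xf24 yf9 zf55) (kf xf31 yf15 zf19) (kf xf32 yf30 zf0) (kf xf32 yf53 zf48) (kf xf31 yf45 zf11) (kf xf31 yf42 zf23) (kf xf31 yf42 zf21) (kf xf31 yf38 zf8) (kf xf23 yf51 zf17) (kf xf31 yf53 zf60) (kf xf30 yf34 zf32) (kf xf32 yf41 zf0) (kf xf32 yf56 zf14) (kf xf23 yf51 zf19) (kf xf30 yf22 zf20) (kf xf32 yf53 zf34) (kf xf31 yf13 zf50) (kf xf32 yf48 zf5) (kf xf31 yf15 zf2) (kf xf30 yf37 zf0) (kf xf32 yf50 zf24) (kf xf28 yf46 zf34) (kf xf32 yf28 zf32) (kf xf28 yf6 zf8) (kf xf32 yf6 zf24) (kf xf32 yf8 zf27) (kf xf28 yf46 zf52) (kf xf28 yf46 zf53) (kf xf28 yf30 zf60) (kf xf30 yf27 zf5) (kf xf31 yf39 zf53) (kf xf31 yf39 zf17)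 (kf xf23 yf51 zf46) (kf xf27 yf40 zf10) (kf xf27 yf53 zf49) (kf xf28 yf21 zf24) (kf xf24 yf13 zf58) (kf xf28 yf35 zf56) (kf xf32 yf25 zf16) (kf xf29 yf55 zf6) (kf xf28 yf33 zf53) (kf xf32 yf4 zf45) (kf xf24 yf5 zf20) (kf xf32 yf36 zf29) (kf xf30 yf22 zf51) (kf xf32 yf21 zf22) (kf xf23 yf52 zf48) (kf xf30 yf30 zf47) (kf xf31 yf22 zf23) (kf xf28 yf0 zf43) (kf xf32 yf2 zf61) (kf xf29 yf38 zf53) (kf xf32 yf34 zf19) (kf xf31 yf16 zf4) (kf xf30 yf49 zf42) (kf xf30 yf26 zf32) (kf xf29 yf1 zf35) (kf xf23 yf53 zf18) (kf xf27 yf15 zf5) (kf xf24 yf28 zf52) (kf xf23 yf53 zf22)) (@D3.rec (fun _ => Pt) (kf xf31 yf16 zf7) (kf xf26 yf26 zf61) (kf xf31 yf25 zf54) (kf xf28 yf27 zf49) (kf xf31 yf15 zf54) (kf xf28 yf53 zf43) (kf xf30 yf3 zf49) (kf xf31 yf16 zf0) (kf xf30 yf36 zf31) (kf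 xf28 yf20 zf55) (kf xf32 yf34 zf16) (kf xf31 yf23 zf27) (kf xf32 yf24 zf27) (kf xf27 yf1 zf59) (kf xf32 yf34 zf31) (kf xf24 yf1 zf55) (kf xf31 yf50 zf44) (kf xf27 yf51 zf6) (kf xf27 yf15 zf4) (kf xf29 yf25 zf26) (kf xf31 yf50 zf49) (kf xf29 yf53 zf11) (kf xf32 yf29 zf54) (kf xf32 yf29 zf52) (kf xf23 yf54 zf15) (kf xf32 yf55 zf3) (kf xf32 yf34 zf40) (kf xf32 yf34 zf39) (kf xf23 yf54 zf20) (kf xf32 yf27 zf34) (kf xf31 yf11 zf57) (kf xf23 yf54 zf34) (kf xf23 yf54 zf33) (kf xf23 yf54 zf25) (kf xf30 yf23 zf54) (kf xf32 yf52 zf24) (kf xf32 yf52 zf59) (kf xf28 yf8 zf34) (kf xf28 yf47 zf10) (kf xf31 yf16 zf59) (kf xf31 yf25 zf26) (kf xf31 yf16 zf60) (kf xf32 yf32 zf18) (kf xf32 yf53 zf27) (kf xf31 yf11 zf50) (kf xf24 yf3 zf50) (kf xf31 yf59 zf33) (kf xf30 yf10 zf45) (kf xf23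 yf54 zf52) (kf xf32 yf2 zf27) (kf xf31 yf9 zf47) (kf xf31 yf4 zf30) (kf xf32 yf34 zf11) (kf xf31 yf49 zf23) (kf xf28 yf25 zf28) (kf xf27 yf14 zf23) (kf xf32 yf1 zf38) (kf xf31 yf11 zf7) (kf xf32 yf31 zf31) (kf xf31 yf16 zf39) (kf xf31 yf16 zf41) (kf xf31 yf58 zf44)) (@D3.rec (fun _ => Pt) (kf xf23 yf55 zf4) (kf xf32 yf2 zf5) (kf xf24 yf8 zf35) (kf xf23 yf55 zf13) (kf xf27 yf8 zf7) (kf xf24 yf2 zf47) (kf xf31 yf51 zf16) (kf xf24 yf2 zf58) (kf xf24 yf2 zf21) (kf xf28 yf25 zf26) (kf xf24 yf3 zf53) (kf xf24 yf3 zf54) (kf xf24 yf3 zf55) (kf xf24 yf4 zf33) (kf xf30 yf27 zf8) (kf xf27 yf37 zf22) (kf xf23 yf55 zf47) (kf xf32 yf47 zf57) (kf xf24 yf4 zf15) (kf xf31 yf22 zf26) (kf xf23 yf55 zf53) (kf xf28 yf44 zf60) (kf xf23 yf55 zf57) (kf xf24 yf5 zf14) (kf xf26 yf42 zf10) (kf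 xf24 yf7 zf21) (kf xf28 yf25 zf30) (kf xf32 yf33 zf22) (kf xf24 yf7 zf14) (kf xf24 yf7 zf42) (kf xf23 yf56 zf16) (kf xf25 yf36 zf15) (kf xf24 yf8 zf32) (kf xf25 yf4 zf44) (kf xf24 yf14 zf9) (kf xf27 yf43 zf52) (kf xf30 yf6 zf29) (kf xf32 yf35 zf34) (kf xf31 yf53 zf28) (kf xf24 yf28 zf44) (kf xf24 yf11 zf8) (kf xf25 yf24 zf30) (kf xf29 yf46 zf33) (kf xf24 yf27 zf9) (kf xf24 yf27 zf54) (kf xf32 yf8 zf12) (kf xf30 yf24 zf8) (kf xf26 yf36 zf49) (kf xf24 yf13 zf47) (kf xf23 yf57 zf4) (kf xf24 yf13 zf36) (kf xf25 yf19 zf59) (kf xf27 yf12 zf5) (kf xf26 yf54 zf38) (kf xf31 yf22 zf9) (kf xf28 yf38 zf22) (kf xf30 yf27 zf50) (kf xf28 yf39 zf31) (kf xf32 yf11 zf57) (kf xf28 yf39 zf47) (kf xf31 yf22 zf10) (kf xf28 yf55 zf48)) (@D3.rec (fun _ => Pt) (kf xf23 yf57 zf32) (kf xf23 yf58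 zf29) (kf xf30 yf27 zf43) (kf xf28 yf50 zf56) (kf xf30 yf15 zf46) (kf xf25 yf59 zf25) (kf xf28 yf54 zf61) (kf xf31 yf14 zf30) (kf xf27 yf8 zf33) (kf xf29 yf43 zf34) (kf xf28 yf38 zf50) (kf xf24 yf10 zf2) (kf xf29 yf17 zf58) (kf xf28 yf32 zf36) (kf xf25 yf19 zf52) (kf xf23 yf58 zf35) (kf xf24 yf18 zf56) (kf xf31 yf11 zf30) (kf xf23 yf59 zf19) (kf xf31 yf22 zf16) (kf xf29 yf59 zf40) (kf xf24 yf20 zf60) (kf xf26 yf41 zf0) (kf xf24 yf20 zf48) (kf xf26 yf47 zf54) (kf xf30 yf8 zf22) (kf xf30 yf7 zf57) (kf xf24 yf19 zf38) (kf xf24 yf22 zf18) (kf xf24 yf23 zf20) (kf xf24 yf23 zf18) (kf xf24 yf23 zf23) (kf xf24 yf23 zf45) (kf xf29 yf10 zf36) (kf xf27 yf42 zf50) (kf xf29 yf9 zf48) (kf xf23 yf59 zf39) (kf xf24 yf1 zf18) (kf xf24 yf26 zf17) (kf xf24 yf26 zf15) (kf xf24 yf28 zf33)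 (kf xf24 yf28 zf45) (kf xf24 yf27 zf7) (kf xf23 yf59 zf52) (kf xf24 yf28 zf50) (kf xf24 yf28 zf51) (kf xf24 yf28 zf53) (kf xf26 yf23 zf36) (kf xf30 yf27 zf26) (kf xf32 yf43 zf41) (kf xf28 yf29 zf3) (kf xf23 yf59 zf60) (kf xf24 yf26 zf29) (kf xf24 yf29 zf22) (kf xf31 yf28 zf29) (kf xf24 yf26 zf60) (kf xf32 yf41 zf33) (kf xf31 yf28 zf30) (kf xf24 yf0 zf4) (kf xf24 yf26 zf22) (kf xf24 yf26 zf23) (kf xf24 yf26 zf33)) (@D3.rec (fun _ => Pt) (kf xf24 yf0 zf17) (kf xf24 yf26 zf36) (kf xf24 yf26 zf37) (kf xf24 yf26 zf39) (kf xf32 yf36 zf4) (kf xf24 yf26 zf41) (kf xf24 yf26 zf44) (kf xf24 yf26 zf45) (kf xf24 yf27 zf35) (kf xf24 yf27 zf37) (kf xf26 yf39 zf34) (kf xf32 yf38 zf3) (kf xf30 yf49 zf31) (kf xf27 yf16 zf14) (kf xf29 yf21 zf34) (kf xf24 yf38 zf55) (kf xf24 yf38 zf48)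 (kf xf32 yf23 zf12) (kf xf30 yf30 zf55) (kf xf32 yf55 zf39) (kf xf32 yf18 zf23) (kf xf30 yf17 zf34) (kf xf29 yf34 zf28) (kf xf32 yf14 zf11) (kf xf29 yf10 zf38) (kf xf32 yf19 zf12) (kf xf30 yf31 zf17) (kf xf32 yf56 zf29) (kf xf24 yf0 zf60) (kf xf30 yf34 zf24) (kf xf30 yf31 zf6) (kf xf24 yf1 zf0) (kf xf28 yf52 zf31) (kf xf29 yf45 zf32) (kf xf29 yf32 zf22) (kf xf24 yf1 zf3) (kf xf32 yf9 zf12) (kf xf26 yf35 zf4) (kf xf31 yf24 zf29) (kf xf29 yf44 zf48) (kf xf24 yf39 zf58) (kf xf30 yf19 zf22) (kf xf24 yf23 zf55) (kf xf29 yf10 zf53) (kf xf30 yf17 zf22) (kf xf30 yf29 zf37) (kf xf32 yf11 zf43) (kf xf31 yf27 zf21) (kf xf31 yf27 zf22) (kf xf26 yf33 zf57) (kf xf28 yf46 zf28) (kf xf29 yf8 zf26) (kf xf29 yf8 zf27) (kf xf29 yf48 zf17) (kf xf24 yf1 zf60) (kf xf24 yf1 zf59) (kf xf32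 yf47 zf29) (kf xf24 yf1 zf53) (kf xf32 yf56 zf18) (kf xf32 yf56 zf16) (kf xf32 yf50 zf23) (kf xf32 yf50 zf13)) (@D3.rec (fun _ => Pt) (kf xf32 yf54 zf42) (kf xf32 yf50 zf12) (kf xf32 yf50 zf26) (kf xf30 yf19 zf17) (kf xf30 yf21 zf16) (kf xf24 yf1 zf61) (kf xf30 yf34 zf29) (kf xf24 yf2 zf4) (kf xf28 yf53 zf29) (kf xf32 yf16 zf35) (kf xf32 yf4 zf17) (kf xf24 yf2 zf12) (kf xf30 yf21 zf19) (kf xf32 yf14 zf14) (kf xf32 yf47 zf48) (kf xf29 yf9 zf21) (kf xf27 yf21 zf0) (kf xf32 yf43 zf0) (kf xf27 yf16 zf34) (kf xf32 yf14 zf28) (kf xf26 yf33 zf37) (kf xf32 yf53 zf10) (kf xf24 yf2 zf25) (kf xf26 yf11 zf3) (kf xf30 yf16 zf37) (kf xf26 yf37 zf19) (kf xf27 yf17 zf3) (kf xf30 yf16 zf38) (kf xf27 yf7 zf43) (kf xf30 yf9 zf50) (kf xf27 yf7 zf55) (kf xf28 yf51 zf30) (kf xf32 yf47 zf47)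 (kf xf29 yf26 zf7) (kf xf27 yf12 zf3) (kf xf27 yf11 zf61) (kf xf32 yf49 zf38) (kf xf24 yf49 zf37) (kf xf31 yf51 zf17) (kf xf24 yf3 zf49) (kf xf31 yf33 zf39) (kf xf24 yf2 zf48) (kf xf32 yf50 zf58) (kf xf30 yf0 zf11) (kf xf31 yf36 zf58) (kf xf31 yf24 zf28) (kf xf28 yf46 zf60) (kf xf31 yf24 zf21) (kf xf31 yf56 zf55) (kf xf31 yf50 zf52) (kf xf24 yf3 zf7) (kf xf28 yf20 zf33) (kf xf28 yf41 zf46) (kf xf24 yf3 zf9) (kf xf32 yf30 zf61) (kf xf32 yf41 zf17) (kf xf31 yf56 zf15) (kf xf29 yf17 zf12) (kf xf26 yf25 zf60) (kf xf28 yf40 zf4) (kf xf24 yf3 zf31) (kf xf24 yf3 zf22)) (@D3.rec (fun _ => Pt) (kf xf32 yf11 zf33) (kf xf32 yf19 zf0) (kf xf26 yf9 zf20) (kf xf29 yf49 zf3) (kf xf30 yf15 zf1) (kf xf32 yf45 zf55) (kf xf30 yf9 zf29) (kf xf25 yf10 zf16) (kf xf29 yf7 zf37) (kf xf31 yf41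 zf23) (kf xf29 yf15 zf19) (kf xf31 yf51 zf11) (kf xf24 yf3 zf58) (kf xf24 yf3 zf44) (kf xf24 yf33 zf24) (kf xf31 yf50 zf51) (kf xf32 yf3 zf27) (kf xf25 yf52 zf28) (kf xf29 yf27 zf21) (kf xf32 yf46 zf6) (kf xf25 yf21 zf53) (kf xf31 yf22 zf2) (kf xf25 yf21 zf61) (kf xf29 yf41 zf39) (kf xf31 yf39 zf52) (kf xf32 yf27 zf15) (kf xf28 yf45 zf20) (kf xf32 yf3 zf25) (kf xf31 yf51 zf60) (kf xf32 yf47 zf9) (kf xf32 yf14 zf0) (kf xf24 yf3 zf56) (kf xf29 yf36 zf59) (kf xf29 yf38 zf60) (kf xf31 yf41 zf33) (kf xf32 yf52 zf57) (kf xf30 yf38 zf23) (kf xf24 yf3 zf59) (kf xf31 yf37 zf23) (kf xf24 yf4 zf2) (kf xf24 yf20 zf31) (kf xf28 yf56 zf13) (kf xf31 yf26 zf13) (kf xf24 yf4 zf18) (kf xf24 yf4 zf17) (kf xf24 yf4 zf12) (kf xf29 yf31 zf32) (kf xf29 yf34 zf0) (kf xf31 yf24 zf42) (kf xf29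 yf9 zf29) (kf xf28 yf56 zf31) (kf xf31 yf40 zf52) (kf xf26 yf57 zf10) (kf xf28 yf46 zf26) (kf xf32 yf39 zf17) (kf xf24 yf4 zf22) (kf xf28 yf41 zf52) (kf xf31 yf24 zf37) (kf xf24 yf4 zf25) (kf xf30 yf27 zf6) (kf xf24 yf4 zf30) (kf xf31 yf24 zf31)) (@D3.rec (fun _ => Pt) (kf xf31 yf24 zf35) (kf xf31 yf39 zf41) (kf xf31 yf21 zf21) (kf xf31 yf41 zf50) (kf xf27 yf49 zf41) (kf xf32 yf39 zf20) (kf xf30 yf56 zf2) (kf xf30 yf55 zf59) (kf xf30 yf56 zf35) (kf xf31 yf17 zf54) (kf xf31 yf17 zf60) (kf xf29 yf55 zf50) (kf xf26 yf6 zf54) (kf xf25 yf5 zf7) (kf xf31 yf53 zf39) (kf xf30 yf37 zf2) (kf xf31 yf18 zf19) (kf xf25 yf51 zf10) (kf xf30 yf6 zf25) (kf xf30 yf38 zf12) (kf xf31 yf13 zf14) (kf xf26 yf19 zf18) (kf xf26 yf28 zf35) (kf xf31 yf15 zf49) (kf xf30 yf34 zf25) (kf xf31 yf13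 zf51) (kf xf31 yf17 zf19) (kf xf25 yf18 zf42) (kf xf29 yf30 zf33) (kf xf29 yf20 zf16) (kf xf32 yf16 zf51) (kf xf24 yf5 zf52) (kf xf32 yf19 zf37) (kf xf29 yf25 zf43) (kf xf24 yf6 zf28) (kf xf24 yf6 zf40) (kf xf24 yf6 zf51) (kf xf24 yf6 zf52) (kf xf32 yf18 zf21) (kf xf24 yf6 zf49) (kf xf32 yf2 zf14) (kf xf24 yf6 zf58) (kf xf32 yf42 zf43) (kf xf32 yf15 zf44) (kf xf24 yf6 zf16) (kf xf28 yf41 zf50) (kf xf30 yf49 zf39) (kf xf30 yf39 zf41) (kf xf32 yf36 zf27) (kf xf30 yf26 zf37) (kf xf28 yf22 zf36) (kf xf31 yf22 zf60) (kf xf32 yf33 zf55) (kf xf30 yf50 zf44) (kf xf32 yf8 zf13) (kf xf30 yf49 zf41) (kf xf28 yf37 zf41) (kf xf30 yf49 zf40) (kf xf29 yf3 zf8) (kf xf30 yf30 zf30) (kf xf31 yf22 zf51) (kf xf30 yf49 zf5)) (@D3.rec (fun _ => Pt) (kf xf32 yf21 zf16) (kf xf30 yf54 zf10)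 (kf xf28 yf8 zf33) (kf xf24 yf13 zf1) (kf xf32 yf56 zf44) (kf xf30 yf50 zf25) (kf xf30 yf50 zf30) (kf xf31 yf13 zf43) (kf xf32 yf54 zf56) (kf xf24 yf6 zf56) (kf xf30 yf46 zf35) (kf xf26 yf49 zf21) (kf xf28 yf56 zf8) (kf xf32 yf35 zf53) (kf xf29 yf16 zf14) (kf xf30 yf53 zf18) (kf xf26 yf20 zf15) (kf xf25 yf11 zf59) (kf xf29 yf28 zf28) (kf xf30 yf19 zf57) (kf xf32 yf23 zf54) (kf xf24 yf7 zf40) (kf xf32 yf14 zf53) (kf xf25 yf36 zf17) (kf xf24 yf7 zf45) (kf xf25 yf36 zf18) (kf xf31 yf26 zf36) (kf xf31 yf16 zf11) (kf xf28 yf23 zf32) (kf xf25 yf34 zf6) (kf xf25 yf34 zf13) (kf xf32 yf31 zf39) (kf xf28 yf59 zf11) (kf xf28 yf39 zf5) (kf xf32 yf30 zf48) (kf xf26 yf27 zf26) (kf xf30 yf46 zf48) (kf xf28 yf44 zf43) (kf xf24 yf13 zf20) (kf xf31 yf25 zf61) (kf xf25 yf12 zf47) (kf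 xf29 yf40 zf3) (kf xf26 yf56 zf51) (kf xf24 yf12 zf12) (kf xf28 yf32 zf13) (kf xf26 yf27 zf58) (kf xf24 yf16 zf19) (kf xf30 yf50 zf51) (kf xf30 yf48 zf52) (kf xf31 yf54 zf35) (kf xf30 yf47 zf30) (kf xf31 yf48 zf42) (kf xf28 yf30 zf12) (kf xf28 yf41 zf53) (kf xf30 yf38 zf37) (kf xf32 yf2 zf4) (kf xf31 yf28 zf16) (kf xf28 yf45 zf21) (kf xf26 yf9 zf15) (kf xf31 yf41 zf57) (kf xf32 yf14 zf51) (kf xf30 yf39 zf2)) (@D3.rec (fun _ => Pt) (kf xf24 yf50 zf13) (kf xf30 yf39 zf47) (kf xf26 yf9 zf26) (kf xf24 yf21 zf6) (kf xf30 yf32 zf29) (kf xf32 yf15 zf40) (kf xf32 yf40 zf4) (kf xf32 yf42 zf45) (kf xf31 yf30 zf7) (kf xf27 yf8 zf28) (kf xf27 yf8 zf30) (kf xf32 yf16 zf55) (kf xf24 yf10 zf61) (kf xf32 yf48 zf35) (kf xf24 yf11 zf2) (kf xf30 yf36 zf30) (kf xf24 yf40 zf38) (kf xf31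 yf26 zf22) (kf xf29 yf23 zf20) (kf xf27 yf27 zf38) (kf xf28 yf59 zf55) (kf xf31 yf20 zf47) (kf xf28 yf58 zf16) (kf xf29 yf44 zf35) (kf xf29 yf44 zf31) (kf xf29 yf16 zf50) (kf xf26 yf37 zf7) (kf xf24 yf11 zf23) (kf xf31 yf20 zf45) (kf xf31 yf19 zf38) (kf xf30 yf16 zf22) (kf xf31 yf21 zf61) (kf xf24 yf50 zf26) (kf xf29 yf41 zf15) (kf xf27 yf36 zf58) (kf xf31 yf22 zf0) (kf xf24 yf11 zf43) (kf xf31 yf21 zf57) (kf xf32 yf24 zf9) (kf xf24 yf11 zf44) (kf xf31 yf27 zf37) (kf xf28 yf58 zf31) (kf xf31 yf21 zf48) (kf xf31 yf27 zf25) (kf xf31 yf45 zf43) (kf xf24 yf11 zf49) (kf xf24 yf22 zf25) (kf xf24 yf11 zf50) (kf xf30 yf16 zf42) (kf xf31 yf30 zf54) (kf xf32 yf14 zf4) (kf xf32 yf38 zf25) (kf xf29 yf5 zf54) (kf xf28 yf30 zf9) (kf xf24 yf25 zf0) (kf xf24 yf24 zf61) (kf xf24 yf12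 zf5) (kf xf26 yf38 zf45) (kf xf27 yf51 zf1) (kf xf24 yf12 zf49) (kf xf28 yf7 zf10) (kf xf24 yf12 zf16)) (@D3.rec (fun _ => Pt) (kf xf28 yf8 zf46) (kf xf29 yf20 zf40) (kf xf32 yf9 zf14) (kf xf24 yf12 zf18) (kf xf27 yf24 zf25) (kf xf31 yf48 zf11) (kf xf32 yf53 zf19) (kf xf32 yf17 zf13) (kf xf32 yf35 zf48) (kf xf32 yf44 zf51) (kf xf24 yf12 zf39) (kf xf28 yf33 zf45) (kf xf24 yf12 zf42) (kf xf28 yf22 zf55) (kf xf29 yf20 zf53) (kf xf29 yf21 zf37) (kf xf32 yf0 zf31) (kf xf32 yf28 zf46) (kf xf31 yf39 zf29) (kf xf27 yf50 zf60) (kf xf24 yf12 zf58) (kf xf32 yf29 zf57) (kf xf28 yf50 zf9) (kf xf29 yf32 zf30) (kf xf32 yf56 zf43) (kf xf24 yf13 zf0) (kf xf31 yf16 zf40) (kf xf26 yf36 zf45) (kf xf24 yf13 zf5) (kf xf26 yf26 zf8) (kf xf32 yf38 zf50) (kf xf32 yf38 zf49) (kf xf32 yf52 zf25)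 (kf xf28 yf19 zf4) (kf xf27 yf51 zf54) (kf xf32 yf48 zf31) (kf xf32 yf8 zf32) (kf xf32 yf36 zf32) (kf xf24 yf13 zf18) (kf xf24 yf13 zf21) (kf xf32 yf34 zf3) (kf xf31 yf45 zf32) (kf xf27 yf52 zf58) (kf xf27 yf49 zf51) (kf xf32 yf27 zf55) (kf xf28 yf16 zf7) (kf xf29 yf51 zf4) (kf xf32 yf21 zf9) (kf xf24 yf13 zf41) (kf xf31 yf54 zf4) (kf xf30 yf6 zf1) (kf xf31 yf30 zf25) (kf xf27 yf53 zf7) (kf xf30 yf11 zf37) (kf xf31 yf16 zf2) (kf xf29 yf24 zf34) (kf xf32 yf48 zf42) (kf xf30 yf46 zf50) (kf xf30 yf6 zf27) (kf xf30 yf6 zf28) (kf xf28 yf29 zf50) (kf xf31 yf23 zf39)) (@D3.rec (fun _ => Pt) (kf xf30 yf17 zf37) (kf xf25 yf47 zf33) (kf xf26 yf37 zf30) (kf xf26 yf41 zf8) (kf xf32 yf19 zf1) (kf xf26 yf38 zf9) (kf xf30 yf21 zf29) (kf xf32 yf33 zf4) (kf xf30 yf21 zf30) (kf xf25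 yf8 zf7) (kf xf32 yf48 zf7) (kf xf27 yf0 zf37) (kf xf29 yf33 zf4) (kf xf31 yf21 zf42) (kf xf29 yf47 zf4) (kf xf32 yf13 zf52) (kf xf30 yf48 zf60) (kf xf30 yf45 zf16) (kf xf28 yf54 zf40) (kf xf30 yf0 zf8) (kf xf31 yf56 zf38) (kf xf24 yf14 zf55) (kf xf31 yf24 zf17) (kf xf24 yf16 zf3) (kf xf32 yf33 zf61) (kf xf24 yf16 zf43) (kf xf24 yf16 zf30) (kf xf24 yf17 zf9) (kf xf24 yf16 zf61) (kf xf24 yf16 zf49) (kf xf24 yf16 zf50) (kf xf31 yf47 zf18) (kf xf28 yf29 zf49) (kf xf24 yf15 zf12) (kf xf24 yf16 zf54) (kf xf24 yf16 zf56) (kf xf31 yf23 zf26) (kf xf24 yf17 zf23) (kf xf24 yf17 zf55) (kf xf32 yf50 zf34) (kf xf29 yf8 zf1) (kf xf32 yf55 zf8) (kf xf24 yf15 zf36) (kf xf31 yf56 zf18) (kf xf24 yf15 zf44) (kf xf28 yf44 zf50) (kf xf29 yf37 zf0) (kf xf28 yf50 zf27) (kf xf24 yf16 zf29)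 (kf xf24 yf15 zf52) (kf xf29 yf56 zf25) (kf xf28 yf21 zf15) (kf xf28 yf56 zf43) (kf xf31 yf52 zf45) (kf xf24 yf16 zf5) (kf xf24 yf16 zf7) (kf xf31 yf48 zf37) (kf xf32 yf44 zf29) (kf xf27 yf19 zf35) (kf xf24 yf16 zf16) (kf xf28 yf59 zf56) (kf xf25 yf25 zf61)) (@D3.rec (fun _ => Pt) (kf xf31 yf55 zf56) (kf xf29 yf4 zf25) (kf xf30 yf8 zf9) (kf xf25 yf12 zf12) (kf xf25 yf12 zf25) (kf xf28 yf39 zf3) (kf xf32 yf34 zf5) (kf xf32 yf10 zf41) (kf xf29 yf4 zf53) (kf xf32 yf55 zf54) (kf xf29 yf26 zf28) (kf xf31 yf31 zf31) (kf xf31 yf31 zf32) (kf xf28 yf32 zf26) (kf xf29 yf49 zf21) (kf xf28 yf19 zf40) (kf xf31 yf58 zf61) (kf xf24 yf16 zf51) (kf xf31 yf56 zf31) (kf xf27 yf12 zf60) (kf xf24 yf16 zf59) (kf xf31 yf19 zf47) (kf xf31 yf19 zf48) (kf xf24 yf17 zf11) (kf xf24 yf17 zf7) (kf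 xf31 yf24 zf43) (kf xf31 yf52 zf56) (kf xf32 yf47 zf16) (kf xf32 yf39 zf55) (kf xf30 yf18 zf41) (kf xf28 yf38 zf56) (kf xf28 yf21 zf6) (kf xf30 yf19 zf35) (kf xf30 yf6 zf22) (kf xf30 yf6 zf21) (kf xf27 yf13 zf2) (kf xf30 yf51 zf44) (kf xf31 yf24 zf40) (kf xf32 yf27 zf25) (kf xf27 yf18 zf24) (kf xf32 yf38 zf14) (kf xf27 yf39 zf37) (kf xf24 yf17 zf31) (kf xf31 yf42 zf12) (kf xf32 yf7 zf10) (kf xf29 yf47 zf56) (kf xf31 yf42 zf10) (kf xf31 yf53 zf0) (kf xf32 yf26 zf11) (kf xf31 yf42 zf14) (kf xf29 yf5 zf21) (kf xf31 yf42 zf13) (kf xf31 yf53 zf9) (kf xf32 yf49 zf36) (kf xf32 yf49 zf35) (kf xf32 yf15 zf47) (kf xf31 yf36 zf16) (kf xf31 yf34 zf46) (kf xf24 yf18 zf4) (kf xf27 yf9 zf16) (kf xf29 yf7 zf32) (kf xf30 yf30 zf35)) (@D3.rec (fun _ => Pt) (kf xf27 yf20 zf8) (kf xf32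 yf0 zf30) (kf xf32 yf17 zf37) (kf xf32 yf18 zf17) (kf xf30 yf51 zf4) (kf xf32 yf0 zf36) (kf xf28 yf35 zf33) (kf xf28 yf45 zf52) (kf xf30 yf37 zf44) (kf xf30 yf50 zf40) (kf xf26 yf56 zf40) (kf xf24 yf19 zf12) (kf xf27 yf35 zf26) (kf xf24 yf19 zf8) (kf xf30 yf55 zf53) (kf xf32 yf56 zf48) (kf xf31 yf23 zf56) (kf xf30 yf3 zf20) (kf xf31 yf32 zf16) (kf xf32 yf43 zf59) (kf xf24 yf19 zf17) (kf xf32 yf38 zf34) (kf xf28 yf30 zf19) (kf xf31 yf28 zf28) (kf xf32 yf0 zf27) (kf xf32 yf0 zf28) (kf xf32 yf57 zf8) (kf xf30 yf12 zf3) (kf xf31 yf28 zf23) (kf xf31 yf18 zf54) (kf xf31 yf18 zf57) (kf xf32 yf41 zf38) (kf xf30 yf27 zf21) (kf xf24 yf19 zf37) (kf xf24 yf19 zf36) (kf xf32 yf21 zf52) (kf xf24 yf19 zf35) (kf xf28 yf50 zf17) (kf xf31 yf51 zf23) (kf xf29 yf8 zf60) (kf xf28 yf53 zf55)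 (kf xf28 yf33 zf32) (kf xf28 yf47 zf35) (kf xf30 yf37 zf59) (kf xf24 yf39 zf19) (kf xf24 yf39 zf42) (kf xf29 yf32 zf50) (kf xf28 yf42 zf27) (kf xf26 yf23 zf39) (kf xf30 yf41 zf50) (kf xf32 yf38 zf23) (kf xf24 yf20 zf21) (kf xf24 yf20 zf24) (kf xf29 yf0 zf8) (kf xf31 yf45 zf31) (kf xf25 yf51 zf11) (kf xf29 yf59 zf48) (kf xf28 yf40 zf57) (kf xf28 yf40 zf60) (kf xf31 yf36 zf33) (kf xf31 yf57 zf3) (kf xf32 yf55 zf31)) (@D3.rec (fun _ => Pt) (kf xf26 yf40 zf32) (kf xf31 yf35 zf50) (kf xf32 yf36 zf36) (kf xf32 yf54 zf10) (kf xf30 yf4 zf6) (kf xf24 yf21 zf4) (kf xf27 yf20 zf49) (kf xf29 yf9 zf27) (kf xf31 yf41 zf4) (kf xf26 yf48 zf2) (kf xf31 yf57 zf4) (kf xf30 yf0 zf9) (kf xf26 yf47 zf52) (kf xf24 yf21 zf17) (kf xf27 yf11 zf42) (kf xf29 yf40 zf8) (kf xf32 yf40 zf25) (kf xf29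 yf26 zf9) (kf xf29 yf26 zf11) (kf xf30 yf49 zf18) (kf xf32 yf50 zf38) (kf xf29 yf26 zf24) (kf xf32 yf52 zf52) (kf xf24 yf21 zf40) (kf xf32 yf50 zf40) (kf xf32 yf47 zf50) (kf xf28 yf46 zf0) (kf xf26 yf20 zf38) (kf xf28 yf45 zf18) (kf xf24 yf33 zf55) (kf xf32 yf53 zf12) (kf xf24 yf31 zf59) (kf xf32 yf53 zf59) (kf xf32 yf48 zf26) (kf xf30 yf8 zf21) (kf xf32 yf51 zf48) (kf xf31 yf57 zf17) (kf xf24 yf22 zf24) (kf xf31 yf36 zf29) (kf xf24 yf34 zf29) (kf xf30 yf31 zf24) (kf xf24 yf22 zf50) (kf xf24 yf22 zf44) (kf xf24 yf22 zf48) (kf xf32 yf13 zf44) (kf xf32 yf38 zf32) (kf xf32 yf19 zf17) (kf xf31 yf30 zf47) (kf xf30 yf23 zf53) (kf xf28 yf48 zf57) (kf xf29 yf13 zf21) (kf xf31 yf3 zf9) (kf xf30 yf39 zf11) (kf xf28 yf57 zf4) (kf xf30 yf37 zf22) (kf xf24 yf24 zf16) (kf xf28 yf29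 zf51) (kf xf30 yf50 zf31) (kf xf28 yf33 zf4) (kf xf32 yf16 zf54) (kf xf28 yf33 zf5) (kf xf28 yf33 zf6)) (@D3.rec (fun _ => Pt) (kf xf28 yf33 zf8) (kf xf28 yf33 zf9) (kf xf30 yf39 zf20) (kf xf31 yf49 zf41) (kf xf32 yf42 zf6) (kf xf27 yf37 zf17) (kf xf24 yf24 zf3) (kf xf31 yf24 zf8) (kf xf32 yf31 zf56) (kf xf29 yf47 zf7) (kf xf32 yf14 zf48) (kf xf28 yf53 zf20) (kf xf29 yf11 zf51) (kf xf31 yf32 zf42) (kf xf31 yf32 zf43) (kf xf28 yf53 zf17) (kf xf24 yf23 zf46) (kf xf29 yf11 zf41) (kf xf31 yf5 zf2) (kf xf24 yf23 zf48) (kf xf32 yf50 zf54) (kf xf32 yf42 zf7) (kf xf31 yf54 zf23) (kf xf32 yf26 zf7) (kf xf29 yf12 zf4) (kf xf31 yf25 zf51) (kf xf28 yf39 zf28) (kf xf30 yf51 zf17) (kf xf32 yf45 zf13) (kf xf29 yf53 zf36) (kf xf32 yf34 zf21) (kf xf32 yf55 zf0) (kf xf24 yf25 zf33) (kf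 xf24 yf25 zf35) (kf xf32 yf23 zf10) (kf xf31 yf33 zf15) (kf xf31 yf13 zf46) (kf xf24 yf24 zf43) (kf xf29 yf30 zf23) (kf xf28 yf39 zf6) (kf xf32 yf49 zf41) (kf xf30 yf38 zf31) (kf xf30 yf49 zf17) (kf xf26 yf39 zf47) (kf xf26 yf39 zf49) (kf xf28 yf39 zf52) (kf xf28 yf39 zf50) (kf xf31 yf29 zf47) (kf xf24 yf24 zf60) (kf xf32 yf55 zf1) (kf xf28 yf39 zf59) (kf xf30 yf50 zf2) (kf xf24 yf25 zf4) (kf xf32 yf53 zf43) (kf xf31 yf24 zf49) (kf xf25 yf4 zf9) (kf xf28 yf57 zf0) (kf xf26 yf38 zf58) (kf xf32 yf51 zf1) (kf xf32 yf41 zf9) (kf xf32 yf46 zf27) (kf xf28 yf48 zf46)) (@D3.rec (fun _ => Pt) (kf xf26 yf36 zf58) (kf xf32 yf21 zf17) (kf xf30 yf29 zf41) (kf xf32 yf47 zf56) (kf xf30 yf20 zf42) (kf xf29 yf7 zf44) (kf xf27 yf16 zf6) (kf xf30 yf27 zf47) (kf xf30 yf27 zf48) (kf xf27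 yf16 zf11) (kf xf30 yf28 zf56) (kf xf32 yf34 zf27) (kf xf26 yf40 zf49) (kf xf30 yf28 zf58) (kf xf32 yf33 zf28) (kf xf30 yf28 zf59) (kf xf30 yf28 zf60) (kf xf30 yf15 zf45) (kf xf30 yf22 zf7) (kf xf32 yf57 zf16) (kf xf28 yf16 zf38) (kf xf24 yf25 zf61) (kf xf29 yf48 zf29) (kf xf30 yf22 zf6) (kf xf30 yf22 zf5) (kf xf28 yf16 zf27) (kf xf25 yf50 zf59) (kf xf25 yf27 zf31) (kf xf32 yf36 zf49) (kf xf32 yf41 zf26) (kf xf32 yf24 zf35) (kf xf31 yf27 zf11) (kf xf31 yf27 zf12) (kf xf32 yf0 zf9) (kf xf32 yf18 zf33) (kf xf27 yf17 zf10) (kf xf26 yf38 zf46) (kf xf26 yf38 zf19) (kf xf26 yf39 zf6) (kf xf24 yf26 zf52) (kf xf26 yf33 zf55) (kf xf32 yf56 zf27) (kf xf28 yf29 zf25) (kf xf32 yf38 zf1) (kf xf28 yf35 zf59) (kf xf24 yf26 zf32) (kf xf24 yf26 zf34) (kf xf26 yf33 zf19) (kf xf28 yf45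 zf14) (kf xf29 yf26 zf14) (kf xf32 yf38 zf2) (kf xf24 yf26 zf40) (kf xf32 yf47 zf13) (kf xf29 yf45 zf0) (kf xf32 yf45 zf22) (kf xf30 yf39 zf23) (kf xf28 yf58 zf29) (kf xf27 yf8 zf43) (kf xf28 yf19 zf42) (kf xf31 yf46 zf42) (kf xf24 yf27 zf1) (kf xf24 yf26 zf58)) (@D3.rec (fun _ => Pt) (kf xf31 yf46 zf34) (kf xf31 yf45 zf52) (kf xf31 yf46 zf41) (kf xf24 yf26 zf61) (kf xf27 yf24 zf10) (kf xf28 yf35 zf27) (kf xf30 yf3 zf60) (kf xf32 yf57 zf19) (kf xf28 yf53 zf24) (kf xf25 yf59 zf43) (kf xf32 yf41 zf34) (kf xf24 yf27 zf21) (kf xf24 yf27 zf14) (kf xf32 yf45 zf19) (kf xf32 yf49 zf17) (kf xf24 yf27 zf19) (kf xf31 yf28 zf18) (kf xf28 yf31 zf10) (kf xf31 yf57 zf13) (kf xf31 yf57 zf11) (kf xf24 yf27 zf26) (kf xf32 yf23 zf60) (kf xf24 yf27 zf36) (kf xf31 yf48 zf55) (kf xf30 yf8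 zf23) (kf xf32 yf45 zf60) (kf xf31 yf35 zf54) (kf xf28 yf46 zf44) (kf xf30 yf8 zf2) (kf xf30 yf39 zf31) (kf xf24 yf27 zf45) (kf xf31 yf33 zf23) (kf xf28 yf35 zf3) (kf xf30 yf38 zf51) (kf xf29 yf39 zf7) (kf xf25 yf48 zf23) (kf xf30 yf37 zf35) (kf xf30 yf47 zf52) (kf xf26 yf32 zf36) (kf xf31 yf1 zf16) (kf xf27 yf39 zf53) (kf xf24 yf29 zf5) (kf xf31 yf30 zf13) (kf xf31 yf30 zf14) (kf xf32 yf32 zf23) (kf xf24 yf28 zf58) (kf xf24 yf46 zf2) (kf xf29 yf23 zf61) (kf xf28 yf28 zf26) (kf xf30 yf59 zf2) (kf xf32 yf55 zf38) (kf xf24 yf29 zf17) (kf xf28 yf41 zf3) (kf xf27 yf25 zf48) (kf xf28 yf41 zf1) (kf xf25 yf1 zf44) (kf xf28 yf15 zf40) (kf xf26 yf12 zf7) (kf xf24 yf46 zf41) (kf xf32 yf56 zf28) (kf xf24 yf29 zf32) (kf xf26 yf28 zf14)) (@D3.rec (fun _ => Pt) (kf xf30 yf17 zf21)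 (kf xf32 yf45 zf40) (kf xf32 yf45 zf41) (kf xf27 yf0 zf26) (kf xf32 yf12 zf5) (kf xf32 yf47 zf38) (kf xf24 yf29 zf44) (kf xf30 yf28 zf15) (kf xf31 yf33 zf32) (kf xf30 yf28 zf14) (kf xf29 yf53 zf31) (kf xf32 yf51 zf12) (kf xf24 yf29 zf47) (kf xf27 yf13 zf34) (kf xf30 yf12 zf2) (kf xf31 yf30 zf35) (kf xf24 yf46 zf20) (kf xf32 yf12 zf12) (kf xf32 yf44 zf2) (kf xf32 yf18 zf60) (kf xf32 yf11 zf60) (kf xf32 yf53 zf55) (kf xf30 yf12 zf27) (kf xf31 yf32 zf31) (kf xf31 yf13 zf49) (kf xf30 yf48 zf34) (kf xf24 yf30 zf11) (kf xf32 yf46 zf49) (kf xf28 yf49 zf12) (kf xf29 yf32 zf31) (kf xf24 yf30 zf14) (kf xf28 yf48 zf47) (kf xf31 yf33 zf8) (kf xf30 yf14 zf46) (kf xf24 yf30 zf21) (kf xf29 yf1 zf33) (kf xf32 yf45 zf11) (kf xf24 yf30 zf22) (kf xf30 yf31 zf9) (kf xf31 yf20 zf40) (kf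 xf30 yf45 zf15) (kf xf30 yf3 zf4) (kf xf30 yf1 zf48) (kf xf32 yf38 zf48) (kf xf30 yf15 zf2) (kf xf29 yf6 zf6) (kf xf24 yf30 zf59) (kf xf28 yf12 zf10) (kf xf29 yf30 zf4) (kf xf25 yf58 zf15) (kf xf30 yf53 zf29) (kf xf25 yf59 zf46) (kf xf28 yf24 zf61) (kf xf24 yf31 zf35) (kf xf24 yf31 zf28) (kf xf32 yf50 zf20) (kf xf30 yf59 zf16) (kf xf32 yf5 zf56) (kf xf32 yf5 zf46) (kf xf24 yf31 zf34) (kf xf32 yf55 zf16) (kf xf32 yf25 zf6)) (@D3.rec (fun _ => Pt) (kf xf31 yf59 zf14) (kf xf30 yf58 zf60) (kf xf32 yf5 zf37) (kf xf30 yf58 zf1) (kf xf28 yf12 zf20) (kf xf32 yf31 zf5) (kf xf32 yf53 zf13) (kf xf29 yf34 zf12) (kf xf26 yf8 zf11) (kf xf28 yf29 zf28) (kf xf31 yf34 zf56) (kf xf29 yf33 zf57) (kf xf31 yf34 zf59) (kf xf24 yf34 zf13) (kf xf26 yf1 zf27) (kf xf32 yf57 zf25) (kf xf27 yf27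 zf17) (kf xf28 yf27 zf40) (kf xf24 yf33 zf35) (kf xf29 yf3 zf59) (kf xf24 yf34 zf21) (kf xf29 yf12 zf25) (kf xf24 yf49 zf50) (kf xf24 yf48 zf39) (kf xf29 yf27 zf25) (kf xf24 yf51 zf58) (kf xf24 yf51 zf59) (kf xf30 yf26 zf60) (kf xf32 yf17 zf59) (kf xf29 yf44 zf11) (kf xf29 yf33 zf55) (kf xf31 yf35 zf49) (kf xf27 yf43 zf45) (kf xf25 yf58 zf33) (kf xf31 yf5 zf17) (kf xf32 yf39 zf11) (kf xf24 yf33 zf46) (kf xf25 yf25 zf23) (kf xf32 yf18 zf50) (kf xf24 yf33 zf51) (kf xf31 yf4 zf8) (kf xf26 yf2 zf1) (kf xf31 yf52 zf3) (kf xf29 yf53 zf10) (kf xf24 yf34 zf24) (kf xf30 yf9 zf36) (kf xf31 yf27 zf57) (kf xf29 yf53 zf27) (kf xf32 yf53 zf4) (kf xf27 yf9 zf57) (kf xf30 yf46 zf15) (kf xf24 yf34 zf55) (kf xf24 yf34 zf58) (kf xf27 yf15 zf57) (kf xf25 yf58 zf18) (kf xf27 yf19 zf24)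 (kf xf31 yf34 zf10) (kf xf24 yf37 zf28) (kf xf28 yf37 zf15) (kf xf31 yf34 zf12) (kf xf26 yf34 zf56) (kf xf29 yf33 zf54)) (@D3.rec (fun _ => Pt) (kf xf32 yf3 zf59) (kf xf29 yf31 zf30) (kf xf32 yf34 zf23) (kf xf24 yf35 zf18) (kf xf29 yf34 zf11) (kf xf24 yf36 zf55) (kf xf24 yf36 zf57) (kf xf31 yf56 zf37) (kf xf25 yf6 zf11) (kf xf24 yf35 zf28) (kf xf24 yf36 zf34) (kf xf24 yf35 zf40) (kf xf24 yf37 zf29) (kf xf24 yf37 zf25) (kf xf24 yf37 zf39) (kf xf24 yf38 zf11) (kf xf25 yf58 zf45) (kf xf24 yf35 zf46) (kf xf24 yf38 zf27) (kf xf28 yf58 zf51) (kf xf29 yf18 zf1) (kf xf31 yf44 zf34) (kf xf26 yf21 zf3) (kf xf27 yf25 zf43) (kf xf27 yf2 zf19) (kf xf25 yf40 zf31) (kf xf24 yf36 zf20) (kf xf26 yf43 zf50) (kf xf29 yf19 zf35) (kf xf26 yf51 zf60) (kf xf29 yf37 zf21) (kf xf26 yf46 zf47)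 (kf xf26 yf46 zf49) (kf xf29 yf16 zf1) (kf xf27 yf15 zf56) (kf xf32 yf49 zf13) (kf xf27 yf30 zf23) (kf xf25 yf37 zf42) (kf xf31 yf35 zf41) (kf xf25 yf5 zf41) (kf xf30 yf6 zf35) (kf xf31 yf35 zf38) (kf xf32 yf42 zf12) (kf xf30 yf56 zf33) (kf xf25 yf49 zf6) (kf xf24 yf36 zf61) (kf xf25 yf35 zf53) (kf xf24 yf37 zf41) (kf xf28 yf54 zf14) (kf xf31 yf34 zf31) (kf xf31 yf29 zf1) (kf xf24 yf37 zf7) (kf xf31 yf36 zf19) (kf xf31 yf36 zf21) (kf xf31 yf32 zf26) (kf xf32 yf0 zf12) (kf xf31 yf36 zf12) (kf xf31 yf36 zf13) (kf xf31 yf36 zf14) (kf xf31 yf11 zf31) (kf xf31 yf36 zf32) (kf xf29 yf42 zf1)) (@D3.rec (fun _ => Pt) (kf xf25 yf12 zf2) (kf xf29 yf42 zf0) (kf xf25 yf49 zf14) (kf xf25 yf29 zf59) (kf xf28 yf39 zf22) (kf xf31 yf7 zf3) (kf xf29 yf41 zf51) (kf xf25 yf34 zf50) (kf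 xf24 yf42 zf51) (kf xf29 yf10 zf4) (kf xf29 yf9 zf44) (kf xf24 yf37 zf57) (kf xf31 yf35 zf56) (kf xf31 yf35 zf57) (kf xf31 yf35 zf58) (kf xf30 yf7 zf52) (kf xf31 yf27 zf56) (kf xf24 yf38 zf0) (kf xf30 yf10 zf30) (kf xf31 yf35 zf52) (kf xf30 yf46 zf18) (kf xf31 yf35 zf53) (kf xf26 yf45 zf59) (kf xf28 yf4 zf10) (kf xf29 yf13 zf51) (kf xf30 yf4 zf56) (kf xf24 yf38 zf19) (kf xf32 yf15 zf56) (kf xf24 yf38 zf22) (kf xf31 yf29 zf38) (kf xf29 yf42 zf54) (kf xf31 yf52 zf11) (kf xf31 yf35 zf60) (kf xf31 yf28 zf59) (kf xf25 yf14 zf58) (kf xf31 yf37 zf49) (kf xf30 yf21 zf21) (kf xf28 yf59 zf15) (kf xf32 yf30 zf10) (kf xf29 yf34 zf45) (kf xf25 yf30 zf56) (kf xf32 yf56 zf46) (kf xf24 yf39 zf1) (kf xf25 yf50 zf35) (kf xf29 yf35 zf27) (kf xf28 yf42 zf29) (kf xf30 yf26 zf8) (kf xf31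 yf13 zf3) (kf xf29 yf24 zf49) (kf xf24 yf39 zf44) (kf xf28 yf34 zf32) (kf xf28 yf44 zf46) (kf xf26 yf50 zf21) (kf xf28 yf45 zf15) (kf xf24 yf50 zf56) (kf xf29 yf17 zf15) (kf xf24 yf50 zf23) (kf xf32 yf23 zf30) (kf xf31 yf20 zf44) (kf xf30 yf56 zf30) (kf xf31 yf40 zf23) (kf xf31 yf8 zf29)) (@D3.rec (fun _ => Pt) (kf xf32 yf49 zf18) (kf xf31 yf5 zf24) (kf xf31 yf9 zf4) (kf xf31 yf49 zf31) (kf xf32 yf22 zf10) (kf xf25 yf53 zf43) (kf xf27 yf42 zf45) (kf xf27 yf42 zf46) (kf xf27 yf26 zf13) (kf xf31 yf5 zf27) (kf xf32 yf49 zf32) (kf xf32 yf9 zf54) (kf xf27 yf49 zf59) (kf xf28 yf18 zf57) (kf xf32 yf16 zf56) (kf xf30 yf37 zf52) (kf xf30 yf37 zf51) (kf xf27 yf47 zf55) (kf xf24 yf40 zf59) (kf xf27 yf25 zf44) (kf xf27 yf25 zf45) (kf xf26 yf48 zf19) (kf xf30 yf6 zf23) (kf xf31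 yf21 zf38) (kf xf30 yf16 zf58) (kf xf29 yf59 zf31) (kf xf27 yf46 zf59) (kf xf30 yf8 zf43) (kf xf30 yf16 zf50) (kf xf30 yf13 zf10) (kf xf30 yf13 zf12) (kf xf31 yf1 zf41) (kf xf24 yf42 zf42) (kf xf29 yf16 zf57) (kf xf29 yf52 zf7) (kf xf24 yf43 zf3) (kf xf31 yf37 zf44) (kf xf30 yf4 zf5) (kf xf32 yf55 zf25) (kf xf30 yf10 zf23) (kf xf31 yf38 zf1) (kf xf32 yf49 zf1) (kf xf31 yf38 zf3) (kf xf31 yf38 zf4) (kf xf31 yf37 zf36) (kf xf29 yf11 zf33) (kf xf29 yf10 zf15) (kf xf31 yf2 zf54) (kf xf29 yf11 zf31) (kf xf31 yf36 zf35) (kf xf25 yf49 zf12) (kf xf29 yf58 zf34) (kf xf31 yf1 zf58) (kf xf30 yf16 zf46) (kf xf28 yf57 zf3) (kf xf32 yf35 zf44) (kf xf26 yf12 zf30) (kf xf24 yf43 zf11) (kf xf31 yf49 zf60) (kf xf25 yf17 zf9) (kf xf26 yf0 zf2) (kf xf30 yf10 zf13)) (@D3.rec (fun _ => Pt)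 (kf xf29 yf57 zf42) (kf xf31 yf37 zf40) (kf xf32 yf27 zf49) (kf xf31 yf37 zf42) (kf xf31 yf37 zf43) (kf xf28 yf57 zf37) (kf xf30 yf33 zf15) (kf xf31 yf43 zf3) (kf xf31 yf15 zf8) (kf xf32 yf32 zf56) (kf xf30 yf21 zf47) (kf xf32 yf25 zf2) (kf xf26 yf12 zf9) (kf xf27 yf27 zf51) (kf xf29 yf56 zf17) (kf xf24 yf44 zf49) (kf xf30 yf45 zf57) (kf xf25 yf8 zf30) (kf xf24 yf44 zf56) (kf xf27 yf36 zf22) (kf xf26 yf14 zf28) (kf xf26 yf15 zf9) (kf xf32 yf6 zf17) (kf xf31 yf55 zf50) (kf xf26 yf20 zf45) (kf xf27 yf27 zf22) (kf xf24 yf45 zf24) (kf xf26 yf20 zf46) (kf xf26 yf20 zf48) (kf xf26 yf4 zf34) (kf xf26 yf16 zf32) (kf xf26 yf16 zf33) (kf xf26 yf16 zf30) (kf xf31 yf14 zf47) (kf xf26 yf18 zf6) (kf xf26 yf17 zf49) (kf xf25 yf28 zf33) (kf xf24 yf55 zf35) (kf xf25 yf28 zf31) (kf xf24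 yf45 zf55) (kf xf32 yf22 zf2) (kf xf32 yf57 zf36) (kf xf24 yf45 zf56) (kf xf27 yf42 zf8) (kf xf29 yf28 zf36) (kf xf29 yf53 zf23) (kf xf24 yf45 zf61) (kf xf28 yf14 zf42) (kf xf32 yf33 zf44) (kf xf32 yf44 zf58) (kf xf24 yf46 zf10) (kf xf26 yf20 zf27) (kf xf26 yf16 zf2) (kf xf28 yf50 zf40) (kf xf28 yf53 zf13) (kf xf28 yf55 zf47) (kf xf28 yf39 zf12) (kf xf32 yf34 zf52) (kf xf28 yf39 zf13) (kf xf26 yf20 zf30) (kf xf28 yf28 zf7) (kf xf28 yf32 zf3)) (@D3.rec (fun _ => Pt) (kf xf26 yf15 zf23) (kf xf26 yf21 zf22) (kf xf32 yf5 zf55) (kf xf26 yf9 zf34) (kf xf25 yf52 zf3) (kf xf24 yf47 zf33) (kf xf24 yf56 zf60) (kf xf25 yf32 zf25) (kf xf32 yf19 zf58) (kf xf32 yf46 zf39) (kf xf28 yf39 zf18) (kf xf26 yf29 zf50) (kf xf27 yf32 zf48) (kf xf28 yf16 zf49) (kf xf30 yf47 zf36) (kf xf30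 yf34 zf45) (kf xf27 yf47 zf44) (kf xf31 yf15 zf32) (kf xf27 yf47 zf51) (kf xf31 yf43 zf16) (kf xf27 yf55 zf35) (kf xf27 yf39 zf59) (kf xf24 yf48 zf4) (kf xf24 yf48 zf5) (kf xf29 yf53 zf22) (kf xf28 yf15 zf33) (kf xf28 yf15 zf37) (kf xf32 yf10 zf2) (kf xf31 yf39 zf35) (kf xf31 yf25 zf18) (kf xf25 yf3 zf55) (kf xf32 yf29 zf15) (kf xf28 yf32 zf51) (kf xf28 yf22 zf57) (kf xf28 yf32 zf50) (kf xf31 yf39 zf28) (kf xf31 yf51 zf9) (kf xf29 yf14 zf12) (kf xf29 yf14 zf13) (kf xf29 yf17 zf53) (kf xf29 yf17 zf56) (kf xf31 yf22 zf1) (kf xf24 yf50 zf25) (kf xf24 yf50 zf24) (kf xf32 yf13 zf5) (kf xf32 yf27 zf8) (kf xf30 yf0 zf4) (kf xf24 yf48 zf55) (kf xf24 yf49 zf1) (kf xf31 yf40 zf55) (kf xf31 yf40 zf54) (kf xf25 yf4 zf46) (kf xf31 yf21 zf24) (kf xf31 yf15 zf31) (kf xf25 yf4 zf45)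 (kf xf31 yf50 zf56) (kf xf29 yf5 zf61) (kf xf28 yf40 zf0) (kf xf28 yf39 zf61) (kf xf28 yf40 zf1) (kf xf31 yf57 zf42) (kf xf28 yf58 zf44)) (@D3.rec (fun _ => Pt) (kf xf32 yf24 zf26) (kf xf26 yf6 zf21) (kf xf26 yf6 zf20) (kf xf32 yf43 zf14) (kf xf26 yf6 zf15) (kf xf26 yf6 zf16) (kf xf26 yf6 zf13) (kf xf26 yf6 zf14) (kf xf26 yf6 zf10) (kf xf26 yf6 zf11) (kf xf32 yf57 zf41) (kf xf31 yf40 zf43) (kf xf32 yf57 zf40) (kf xf32 yf52 zf39) (kf xf24 yf49 zf29) (kf xf32 yf36 zf0) (kf xf25 yf19 zf18) (kf xf31 yf52 zf26) (kf xf24 yf49 zf31) (kf xf31 yf51 zf15) (kf xf32 yf14 zf30) (kf xf29 yf13 zf41) (kf xf25 yf19 zf58) (kf xf31 yf36 zf60) (kf xf28 yf51 zf29) (kf xf28 yf51 zf28) (kf xf32 yf40 zf52) (kf xf32 yf11 zf38) (kf xf32 yf56 zf12) (kf xf24 yf49 zf40) (kf xf24 yf49 zf43) (kf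 xf24 yf49 zf42) (kf xf31 yf52 zf0) (kf xf32 yf27 zf17) (kf xf31 yf52 zf31) (kf xf29 yf27 zf26) (kf xf25 yf20 zf48) (kf xf31 yf52 zf1) (kf xf24 yf49 zf56) (kf xf26 yf54 zf33) (kf xf25 yf29 zf1) (kf xf28 yf58 zf13) (kf xf31 yf56 zf17) (kf xf31 yf40 zf11) (kf xf31 yf47 zf52) (kf xf24 yf50 zf9) (kf xf32 yf11 zf3) (kf xf24 yf50 zf10) (kf xf25 yf11 zf22) (kf xf25 yf22 zf19) (kf xf31 yf41 zf29) (kf xf29 yf14 zf25) (kf xf31 yf21 zf51) (kf xf24 yf50 zf16) (kf xf31 yf39 zf50) (kf xf31 yf39 zf49) (kf xf30 yf0 zf5) (kf xf28 yf31 zf38) (kf xf29 yf2 zf50) (kf xf25 yf22 zf6) (kf xf24 yf50 zf20) (kf xf27 yf29 zf34)) (@D3.rec (fun _ => Pt) (kf xf31 yf50 zf60) (kf xf29 yf17 zf14) (kf xf32 yf43 zf23) (kf xf32 yf24 zf25) (kf xf31 yf29 zf8) (kf xf31 yf41 zf30) (kf xf25 yf47 zf49) (kf xf31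 yf51 zf20) (kf xf31 yf51 zf21) (kf xf31 yf51 zf22) (kf xf25 yf19 zf50) (kf xf27 yf37 zf1) (kf xf29 yf11 zf13) (kf xf32 yf57 zf50) (kf xf24 yf50 zf42) (kf xf31 yf41 zf37) (kf xf31 yf41 zf52) (kf xf32 yf57 zf11) (kf xf31 yf50 zf43) (kf xf24 yf51 zf0) (kf xf31 yf51 zf47) (kf xf26 yf37 zf8) (kf xf29 yf0 zf13) (kf xf31 yf21 zf9) (kf xf25 yf33 zf43) (kf xf26 yf38 zf42) (kf xf28 yf36 zf59) (kf xf29 yf47 zf28) (kf xf31 yf52 zf17) (kf xf31 yf40 zf50) (kf xf31 yf41 zf5) (kf xf32 yf27 zf22) (kf xf24 yf51 zf39) (kf xf31 yf21 zf34) (kf xf24 yf51 zf34) (kf xf31 yf50 zf53) (kf xf32 yf37 zf13) (kf xf31 yf41 zf15) (kf xf24 yf51 zf38) (kf xf29 yf43 zf41) (kf xf29 yf2 zf19) (kf xf24 yf51 zf41) (kf xf31 yf48 zf25) (kf xf31 yf48 zf26) (kf xf28 yf45 zf12) (kf xf31 yf48 zf28) (kf xf31 yf48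 zf29) (kf xf25 yf12 zf61) (kf xf31 yf47 zf46) (kf xf32 yf46 zf4) (kf xf31 yf22 zf3) (kf xf27 yf12 zf8) (kf xf31 yf41 zf16) (kf xf24 yf52 zf7) (kf xf28 yf59 zf47) (kf xf32 yf3 zf33) (kf xf31 yf52 zf60) (kf xf31 yf23 zf59) (kf xf27 yf25 zf13) (kf xf31 yf47 zf40) (kf xf30 yf21 zf35) (kf xf29 yf10 zf47)) (@D3.rec (fun _ => Pt) (kf xf26 yf22 zf9) (kf xf32 yf17 zf42) (kf xf27 yf40 zf36) (kf xf32 yf7 zf57) (kf xf26 yf56 zf34) (kf xf32 yf37 zf21) (kf xf29 yf54 zf10) (kf xf31 yf42 zf46) (kf xf28 yf8 zf49) (kf xf29 yf15 zf43) (kf xf31 yf27 zf46) (kf xf32 yf25 zf37) (kf xf31 yf27 zf43) (kf xf31 yf27 zf51) (kf xf31 yf27 zf49) (kf xf24 yf53 zf52) (kf xf24 yf53 zf54) (kf xf29 yf18 zf36) (kf xf32 yf2 zf47) (kf xf31 yf42 zf49) (kf xf28 yf46 zf51) (kf xf31 yf15 zf7) (kf xf31 yf42 zf50)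 (kf xf31 yf15 zf6) (kf xf27 yf33 zf28) (kf xf31 yf43 zf14) (kf xf25 yf3 zf61) (kf xf32 yf8 zf23) (kf xf29 yf54 zf3) (kf xf30 yf44 zf28) (kf xf30 yf44 zf33) (kf xf32 yf49 zf34) (kf xf32 yf32 zf0) (kf xf29 yf54 zf19) (kf xf30 yf44 zf48) (kf xf30 yf45 zf28) (kf xf31 yf43 zf35) (kf xf27 yf40 zf23) (kf xf32 yf6 zf23) (kf xf28 yf25 zf42) (kf xf32 yf3 zf55) (kf xf24 yf54 zf55) (kf xf30 yf59 zf54) (kf xf32 yf6 zf33) (kf xf27 yf30 zf51) (kf xf31 yf44 zf44) (kf xf31 yf42 zf7) (kf xf32 yf6 zf26) (kf xf24 yf55 zf15) (kf xf31 yf42 zf19) (kf xf31 yf42 zf22) (kf xf29 yf18 zf28) (kf xf31 yf45 zf18) (kf xf27 yf55 zf17) (kf xf24 yf55 zf13) (kf xf32 yf31 zf41) (kf xf32 yf44 zf3) (kf xf27 yf27 zf30) (kf xf27 yf31 zf27) (kf xf24 yf55 zf54) (kf xf27 yf31 zf24) (kf xf27 yf48 zf34)) (@D3.rec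 (fun _ => Pt) (kf xf31 yf43 zf5) (kf xf31 yf43 zf6) (kf xf29 yf19 zf2) (kf xf31 yf38 zf7) (kf xf24 yf55 zf60) (kf xf31 yf43 zf0) (kf xf31 yf43 zf1) (kf xf24 yf55 zf52) (kf xf24 yf55 zf57) (kf xf27 yf27 zf29) (kf xf26 yf21 zf39) (kf xf27 yf29 zf0) (kf xf29 yf39 zf48) (kf xf27 yf31 zf10) (kf xf31 yf42 zf25) (kf xf29 yf20 zf7) (kf xf31 yf39 zf19) (kf xf26 yf25 zf40) (kf xf29 yf39 zf33) (kf xf30 yf56 zf58) (kf xf30 yf52 zf7) (kf xf26 yf18 zf46) (kf xf30 yf38 zf20) (kf xf28 yf34 zf35) (kf xf32 yf44 zf26) (kf xf30 yf49 zf30) (kf xf29 yf19 zf59) (kf xf32 yf44 zf27) (kf xf30 yf11 zf33) (kf xf26 yf22 zf17) (kf xf24 yf57 zf25) (kf xf30 yf45 zf58) (kf xf31 yf7 zf26) (kf xf29 yf31 zf41) (kf xf29 yf20 zf60) (kf xf31 yf42 zf36) (kf xf29 yf20 zf37) (kf xf25 yf6 zf21) (kf xf25 yf9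 zf43) (kf xf29 yf59 zf8) (kf xf32 yf28 zf4) (kf xf29 yf12 zf47) (kf xf24 yf57 zf59) (kf xf32 yf0 zf2) (kf xf24 yf57 zf60) (kf xf30 yf19 zf34) (kf xf30 yf18 zf9) (kf xf25 yf50 zf14) (kf xf31 yf47 zf53) (kf xf25 yf10 zf38) (kf xf25 yf10 zf25) (kf xf25 yf10 zf28) (kf xf24 yf58 zf23) (kf xf26 yf39 zf46) (kf xf25 yf11 zf34) (kf xf31 yf46 zf2) (kf xf28 yf59 zf30) (kf xf25 yf5 zf28) (kf xf28 yf1 zf60) (kf xf28 yf1 zf52) (kf xf29 yf29 zf54) (kf xf27 yf30 zf31)) (@D3.rec (fun _ => Pt) (kf xf27 yf27 zf41) (kf xf26 yf11 zf37) (kf xf31 yf6 zf23) (kf xf31 yf50 zf1) (kf xf24 yf59 zf24) (kf xf29 yf28 zf32) (kf xf29 yf28 zf45) (kf xf29 yf28 zf30) (kf xf24 yf59 zf31) (kf xf24 yf59 zf38) (kf xf30 yf57 zf49) (kf xf30 yf55 zf12) (kf xf24 yf59 zf58) (kf xf30 yf48 zf24) (kf xf30 yf48 zf8)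 (kf xf26 yf15 zf40) (kf xf32 yf6 zf2) (kf xf25 yf0 zf23) (kf xf28 yf2 zf8) (kf xf28 yf3 zf60) (kf xf28 yf2 zf11) (kf xf28 yf3 zf57) (kf xf28 yf2 zf14) (kf xf32 yf57 zf24) (kf xf28 yf2 zf33) (kf xf25 yf0 zf25) (kf xf27 yf27 zf14) (kf xf32 yf6 zf45) (kf xf28 yf3 zf17) (kf xf28 yf3 zf12) (kf xf28 yf3 zf15) (kf xf27 yf46 zf7) (kf xf32 yf26 zf40) (kf xf28 yf3 zf24) (kf xf31 yf35 zf21) (kf xf25 yf1 zf3) (kf xf28 yf4 zf14) (kf xf28 yf4 zf13) (kf xf27 yf27 zf60) (kf xf25 yf1 zf24) (kf xf26 yf14 zf55) (kf xf26 yf10 zf49) (kf xf26 yf21 zf41) (kf xf32 yf6 zf9) (kf xf31 yf42 zf45) (kf xf25 yf1 zf43) (kf xf31 yf0 zf50) (kf xf31 yf6 zf19) (kf xf26 yf31 zf22) (kf xf28 yf12 zf23) (kf xf28 yf13 zf37) (kf xf30 yf34 zf61) (kf xf30 yf35 zf0) (kf xf30 yf57 zf16) (kf xf25 yf2 zf3) (kf xf25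 yf2 zf22) (kf xf25 yf2 zf14) (kf xf26 yf7 zf12) (kf xf27 yf48 zf31) (kf xf26 yf7 zf15) (kf xf31 yf9 zf32) (kf xf25 yf2 zf18)) (@D3.rec (fun _ => Pt) (kf xf25 yf2 zf23) (kf xf30 yf50 zf7) (kf xf27 yf46 zf44) (kf xf25 yf2 zf47) (kf xf30 yf58 zf56) (kf xf32 yf28 zf11) (kf xf28 yf4 zf4) (kf xf30 yf57 zf35) (kf xf28 yf3 zf58) (kf xf27 yf45 zf61) (kf xf27 yf34 zf47) (kf xf31 yf15 zf5) (kf xf27 yf47 zf31) (kf xf25 yf3 zf45) (kf xf32 yf31 zf22) (kf xf32 yf31 zf16) (kf xf32 yf32 zf26) (kf xf32 yf32 zf27) (kf xf31 yf42 zf52) (kf xf29 yf25 zf18) (kf xf26 yf10 zf61) (kf xf30 yf13 zf1) (kf xf32 yf2 zf33) (kf xf28 yf17 zf48) (kf xf30 yf15 zf5) (kf xf26 yf41 zf51) (kf xf26 yf44 zf31) (kf xf26 yf44 zf44) (kf xf27 yf14 zf31) (kf xf25 yf5 zf13) (kf xf26 yf44 zf38) (kf xf31 yf28 zf54)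 (kf xf31 yf25 zf41) (kf xf31 yf54 zf32) (kf xf32 yf7 zf60) (kf xf28 yf31 zf5) (kf xf27 yf43 zf51) (kf xf27 yf43 zf50) (kf xf25 yf4 zf53) (kf xf25 yf59 zf17) (kf xf25 yf33 zf6) (kf xf25 yf34 zf18) (kf xf29 yf59 zf2) (kf xf31 yf24 zf44) (kf xf29 yf47 zf59) (kf xf27 yf21 zf30) (kf xf25 yf5 zf10) (kf xf31 yf48 zf53) (kf xf25 yf5 zf24) (kf xf30 yf19 zf46) (kf xf30 yf6 zf24) (kf xf32 yf33 zf41) (kf xf31 yf32 zf1) (kf xf30 yf47 zf39) (kf xf31 yf53 zf52) (kf xf25 yf5 zf34) (kf xf25 yf33 zf25) (kf xf25 yf11 zf6) (kf xf28 yf56 zf52) (kf xf25 yf6 zf3) (kf xf32 yf18 zf51) (kf xf25 yf22 zf20)) (@D3.rec (fun _ => Pt) (kf xf25 yf6 zf20) (kf xf32 yf0 zf23) (kf xf31 yf43 zf55) (kf xf25 yf9 zf34) (kf xf25 yf9 zf35) (kf xf32 yf2 zf34) (kf xf32 yf23 zf32) (kf xf32 yf23 zf33) (kf xf32 yf24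 zf39) (kf xf32 yf27 zf28) (kf xf32 yf24 zf38) (kf xf32 yf7 zf7) (kf xf31 yf53 zf8) (kf xf31 yf53 zf6) (kf xf32 yf42 zf16) (kf xf25 yf8 zf37) (kf xf25 yf8 zf39) (kf xf29 yf16 zf24) (kf xf31 yf50 zf21) (kf xf31 yf50 zf22) (kf xf25 yf49 zf1) (kf xf31 yf50 zf17) (kf xf25 yf13 zf55) (kf xf29 yf16 zf11) (kf xf26 yf31 zf25) (kf xf28 yf32 zf9) (kf xf29 yf12 zf52) (kf xf25 yf6 zf60) (kf xf25 yf13 zf22) (kf xf25 yf7 zf0) (kf xf25 yf28 zf19) (kf xf25 yf28 zf25) (kf xf31 yf59 zf61) (kf xf32 yf1 zf58) (kf xf31 yf32 zf0) (kf xf31 yf59 zf58) (kf xf30 yf1 zf11) (kf xf30 yf14 zf17) (kf xf29 yf12 zf34) (kf xf29 yf12 zf33) (kf xf25 yf7 zf12) (kf xf31 yf32 zf2) (kf xf31 yf31 zf59) (kf xf25 yf7 zf18) (kf xf32 yf13 zf51) (kf xf27 yf24 zf33) (kf xf25 yf30 zf24) (kf xf31 yf47 zf9) (kf xf31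 yf53 zf1) (kf xf31 yf53 zf3) (kf xf31 yf53 zf2) (kf xf32 yf58 zf0) (kf xf25 yf7 zf38) (kf xf31 yf54 zf41) (kf xf32 yf22 zf22) (kf xf26 yf36 zf57) (kf xf30 yf15 zf27) (kf xf26 yf37 zf6) (kf xf29 yf45 zf60) (kf xf27 yf0 zf38) (kf xf26 yf35 zf58) (kf xf26 yf35 zf60)) (@D3.rec (fun _ => Pt) (kf xf26 yf35 zf57) (kf xf27 yf36 zf36) (kf xf26 yf36 zf1) (kf xf26 yf36 zf0) (kf xf32 yf23 zf3) (kf xf25 yf8 zf18) (kf xf32 yf18 zf61) (kf xf30 yf10 zf8) (kf xf29 yf16 zf42) (kf xf31 yf46 zf47) (kf xf25 yf33 zf40) (kf xf30 yf55 zf5) (kf xf25 yf8 zf23) (kf xf29 yf16 zf13) (kf xf28 yf54 zf59) (kf xf25 yf48 zf53) (kf xf29 yf16 zf34) (kf xf30 yf10 zf2) (kf xf31 yf26 zf31) (kf xf32 yf49 zf51) (kf xf29 yf16 zf36) (kf xf28 yf56 zf57) (kf xf32 yf48 zf8) (kf xf31 yf49 zf3) (kf xf27 yf24 zf1)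 (kf xf27 yf24 zf3) (kf xf32 yf55 zf50) (kf xf29 yf15 zf50) (kf xf29 yf15 zf49) (kf xf31 yf10 zf4) (kf xf26 yf33 zf60) (kf xf27 yf35 zf54) (kf xf32 yf4 zf6) (kf xf32 yf4 zf2) (kf xf32 yf4 zf1) (kf xf32 yf50 zf30) (kf xf32 yf34 zf22) (kf xf26 yf24 zf28) (kf xf25 yf28 zf20) (kf xf29 yf16 zf31) (kf xf31 yf41 zf59) (kf xf29 yf7 zf12) (kf xf32 yf42 zf32) (kf xf31 yf52 zf14) (kf xf25 yf9 zf17) (kf xf29 yf35 zf61) (kf xf31 yf41 zf48) (kf xf32 yf41 zf20) (kf xf25 yf9 zf21) (kf xf25 yf33 zf36) (kf xf32 yf21 zf53) (kf xf29 yf41 zf18) (kf xf31 yf40 zf44) (kf xf31 yf43 zf48) (kf xf29 yf7 zf22) (kf xf31 yf48 zf3) (kf xf29 yf44 zf49) (kf xf32 yf19 zf55) (kf xf25 yf27 zf2) (kf xf30 yf55 zf20) (kf xf31 yf47 zf61) (kf xf31 yf47 zf60)) (@D3.rec (fun _ => Pt) (kf xf31 yf56 zf3) (kf xf32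 yf20 zf46) (kf xf25 yf9 zf38) (kf xf31 yf47 zf55) (kf xf26 yf1 zf51) (kf xf32 yf17 zf5) (kf xf28 yf40 zf20) (kf xf32 yf40 zf30) (kf xf29 yf6 zf48) (kf xf29 yf43 zf13) (kf xf25 yf50 zf31) (kf xf31 yf25 zf5) (kf xf31 yf10 zf51) (kf xf32 yf0 zf40) (kf xf28 yf58 zf40) (kf xf28 yf58 zf41) (kf xf25 yf50 zf32) (kf xf27 yf48 zf58) (kf xf31 yf53 zf7) (kf xf25 yf10 zf58) (kf xf26 yf17 zf9) (kf xf28 yf59 zf52) (kf xf25 yf21 zf32) (kf xf32 yf47 zf18) (kf xf31 yf55 zf60) (kf xf31 yf41 zf42) (kf xf31 yf41 zf43) (kf xf30 yf14 zf42) (kf xf31 yf41 zf45) (kf xf31 yf41 zf46) (kf xf25 yf37 zf30) (kf xf32 yf24 zf42) (kf xf25 yf50 zf50) (kf xf25 yf47 zf57) (kf xf30 yf50 zf26) (kf xf25 yf51 zf13) (kf xf25 yf46 zf12) (kf xf31 yf26 zf56) (kf xf32 yf9 zf25) (kf xf25 yf50 zf51) (kf xf31 yf50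 zf30) (kf xf30 yf19 zf59) (kf xf31 yf23 zf51) (kf xf29 yf12 zf35) (kf xf31 yf54 zf42) (kf xf32 yf0 zf13) (kf xf32 yf25 zf9) (kf xf26 yf6 zf53) (kf xf32 yf42 zf18) (kf xf29 yf17 zf61) (kf xf31 yf12 zf60) (kf xf28 yf41 zf60) (kf xf25 yf12 zf30) (kf xf31 yf45 zf47) (kf xf25 yf12 zf39) (kf xf31 yf32 zf23) (kf xf29 yf26 zf27) (kf xf31 yf56 zf4) (kf xf29 yf7 zf2) (kf xf27 yf22 zf44) (kf xf32 yf41 zf37) (kf xf26 yf25 zf41)) (@D3.rec (fun _ => Pt) (kf xf27 yf20 zf4) (kf xf31 yf50 zf29) (kf xf25 yf51 zf1) (kf xf31 yf47 zf23) (kf xf29 yf57 zf60) (kf xf25 yf13 zf20) (kf xf30 yf6 zf36) (kf xf30 yf16 zf45) (kf xf30 yf16 zf47) (kf xf25 yf13 zf34) (kf xf25 yf49 zf24) (kf xf25 yf13 zf54) (kf xf25 yf13 zf53) (kf xf30 yf33 zf5) (kf xf25 yf13 zf52) (kf xf30 yf55 zf1) (kf xf30 yf55 zf0)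 (kf xf28 yf30 zf39) (kf xf25 yf49 zf2) (kf xf28 yf21 zf50) (kf xf30 yf32 zf61) (kf xf29 yf16 zf7) (kf xf29 yf37 zf27) (kf xf31 yf16 zf53) (kf xf25 yf14 zf5) (kf xf30 yf12 zf26) (kf xf32 yf49 zf14) (kf xf25 yf14 zf8) (kf xf29 yf5 zf10) (kf xf32 yf4 zf55) (kf xf29 yf15 zf54) (kf xf31 yf37 zf3) (kf xf25 yf14 zf20) (kf xf30 yf6 zf33) (kf xf32 yf48 zf16) (kf xf28 yf13 zf34) (kf xf28 yf13 zf35) (kf xf28 yf13 zf31) (kf xf30 yf40 zf59) (kf xf27 yf5 zf0) (kf xf25 yf14 zf47) (kf xf31 yf30 zf3) (kf xf31 yf4 zf44) (kf xf25 yf14 zf50) (kf xf32 yf36 zf56) (kf xf32 yf43 zf50) (kf xf32 yf22 zf26) (kf xf25 yf14 zf56) (kf xf29 yf47 zf51) (kf xf25 yf14 zf60) (kf xf25 yf15 zf7) (kf xf25 yf15 zf9) (kf xf30 yf41 zf55) (kf xf28 yf59 zf60) (kf xf25 yf50 zf30) (kf xf29 yf17 zf11) (kf xf27 yf46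 zf54) (kf xf27 yf46 zf53) (kf xf29 yf17 zf16) (kf xf29 yf17 zf22) (kf xf31 yf37 zf58) (kf xf27 yf28 zf10)) (@D3.rec (fun _ => Pt) (kf xf31 yf57 zf54) (kf xf31 yf44 zf3) (kf xf31 yf59 zf31) (kf xf27 yf59 zf19) (kf xf31 yf50 zf7) (kf xf31 yf53 zf24) (kf xf28 yf1 zf26) (kf xf31 yf50 zf4) (kf xf32 yf6 zf20) (kf xf25 yf25 zf27) (kf xf25 yf31 zf12) (kf xf28 yf52 zf0) (kf xf29 yf32 zf43) (kf xf25 yf19 zf22) (kf xf30 yf18 zf10) (kf xf29 yf27 zf20) (kf xf25 yf37 zf37) (kf xf31 yf46 zf21) (kf xf27 yf47 zf53) (kf xf27 yf29 zf11) (kf xf27 yf24 zf19) (kf xf31 yf46 zf18) (kf xf31 yf46 zf19) (kf xf28 yf58 zf37) (kf xf29 yf29 zf4) (kf xf25 yf18 zf25) (kf xf30 yf44 zf6) (kf xf29 yf3 zf15) (kf xf31 yf6 zf43) (kf xf31 yf49 zf1) (kf xf31 yf48 zf40) (kf xf32 yf0 zf35) (kf xf25 yf18 zf39)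 (kf xf32 yf9 zf30) (kf xf25 yf18 zf46) (kf xf28 yf48 zf51) (kf xf30 yf14 zf37) (kf xf25 yf18 zf58) (kf xf30 yf0 zf10) (kf xf25 yf19 zf7) (kf xf25 yf19 zf11) (kf xf32 yf2 zf9) (kf xf32 yf2 zf17) (kf xf31 yf41 zf18) (kf xf31 yf16 zf16) (kf xf32 yf58 zf9) (kf xf25 yf19 zf16) (kf xf25 yf20 zf61) (kf xf25 yf21 zf0) (kf xf31 yf16 zf20) (kf xf29 yf42 zf57) (kf xf31 yf21 zf15) (kf xf31 yf20 zf49) (kf xf31 yf41 zf35) (kf xf32 yf32 zf8) (kf xf25 yf19 zf30) (kf xf31 yf39 zf55) (kf xf32 yf10 zf58) (kf xf29 yf47 zf3) (kf xf31 yf51 zf36) (kf xf31 yf41 zf0) (kf xf26 yf35 zf20)) (@D3.rec (fun _ => Pt) (kf xf25 yf19 zf53) (kf xf32 yf14 zf44) (kf xf30 yf19 zf23) (kf xf26 yf35 zf21) (kf xf29 yf15 zf23) (kf xf28 yf55 zf7) (kf xf26 yf59 zf35) (kf xf32 yf27 zf3) (kf xf27 yf30 zf12) (kf xf31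 yf39 zf36) (kf xf32 yf27 zf13) (kf xf31 yf21 zf11) (kf xf32 yf12 zf55) (kf xf32 yf39 zf39) (kf xf32 yf10 zf61) (kf xf31 yf40 zf19) (kf xf31 yf17 zf6) (kf xf31 yf20 zf38) (kf xf25 yf52 zf29) (kf xf32 yf39 zf3) (kf xf31 yf41 zf7) (kf xf31 yf41 zf8) (kf xf31 yf41 zf9) (kf xf31 yf28 zf38) (kf xf25 yf20 zf49) (kf xf32 yf33 zf60) (kf xf25 yf20 zf47) (kf xf32 yf5 zf17) (kf xf32 yf57 zf49) (kf xf28 yf49 zf61) (kf xf32 yf58 zf13) (kf xf32 yf38 zf36) (kf xf30 yf34 zf27) (kf xf32 yf32 zf58) (kf xf25 yf20 zf51) (kf xf29 yf2 zf47) (kf xf31 yf50 zf59) (kf xf32 yf45 zf18) (kf xf32 yf47 zf36) (kf xf32 yf10 zf33) (kf xf32 yf47 zf35) (kf xf32 yf51 zf44) (kf xf32 yf57 zf46) (kf xf32 yf58 zf16) (kf xf25 yf20 zf57) (kf xf32 yf39 zf5) (kf xf32 yf57 zf44) (kf xf31 yf41 zf20) (kf xf30 yf27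 zf32) (kf xf29 yf11 zf19) (kf xf29 yf8 zf2) (kf xf32 yf51 zf50) (kf xf26 yf6 zf18) (kf xf25 yf21 zf3) (kf xf32 yf58 zf17) (kf xf29 yf27 zf22) (kf xf32 yf36 zf35) (kf xf29 yf27 zf32) (kf xf25 yf21 zf13) (kf xf32 yf13 zf8) (kf xf31 yf21 zf28) (kf xf32 yf27 zf19)) (@D3.rec (fun _ => Pt) (kf xf31 yf40 zf32) (kf xf31 yf40 zf37) (kf xf30 yf27 zf14) (kf xf31 yf34 zf42) (kf xf32 yf27 zf14) (kf xf32 yf46 zf13) (kf xf25 yf21 zf31) (kf xf32 yf58 zf21) (kf xf25 yf21 zf30) (kf xf28 yf59 zf58) (kf xf32 yf58 zf19) (kf xf31 yf36 zf31) (kf xf32 yf58 zf7) (kf xf32 yf58 zf20) (kf xf31 yf47 zf43) (kf xf32 yf51 zf28) (kf xf25 yf21 zf33) (kf xf31 yf41 zf28) (kf xf32 yf1 zf5) (kf xf32 yf37 zf60) (kf xf27 yf17 zf35) (kf xf32 yf37 zf59) (kf xf32 yf37 zf61) (kf xf32 yf10 zf59) (kf xf25 yf21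 zf39) (kf xf32 yf58 zf25) (kf xf31 yf40 zf17) (kf xf25 yf21 zf42) (kf xf32 yf58 zf24) (kf xf32 yf36 zf43) (kf xf32 yf50 zf41) (kf xf31 yf40 zf34) (kf xf26 yf37 zf42) (kf xf32 yf11 zf1) (kf xf32 yf11 zf2) (kf xf32 yf17 zf54) (kf xf25 yf21 zf46) (kf xf32 yf44 zf44) (kf xf32 yf40 zf45) (kf xf29 yf41 zf40) (kf xf32 yf2 zf16) (kf xf32 yf34 zf33) (kf xf25 yf21 zf55) (kf xf32 yf4 zf20) (kf xf32 yf40 zf46) (kf xf31 yf26 zf53) (kf xf25 yf47 zf53) (kf xf25 yf22 zf8) (kf xf25 yf22 zf11) (kf xf29 yf2 zf41) (kf xf25 yf22 zf14) (kf xf26 yf58 zf37) (kf xf29 yf13 zf8) (kf xf30 yf12 zf24) (kf xf25 yf22 zf17) (kf xf29 yf44 zf33) (kf xf31 yf27 zf26) (kf xf32 yf11 zf41) (kf xf32 yf40 zf27) (kf xf32 yf33 zf37) (kf xf31 yf41 zf56) (kf xf29 yf14 zf26)) (@D3.rec (fun _ => Pt) (kf xf31 yf27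 zf47) (kf xf31 yf46 zf48) (kf xf31 yf46 zf50) (kf xf31 yf46 zf49) (kf xf32 yf58 zf28) (kf xf25 yf22 zf61) (kf xf31 yf46 zf13) (kf xf31 yf48 zf18) (kf xf31 yf46 zf12) (kf xf31 yf27 zf52) (kf xf26 yf8 zf17) (kf xf32 yf4 zf33) (kf xf31 yf5 zf28) (kf xf26 yf54 zf27) (kf xf28 yf59 zf53) (kf xf32 yf4 zf22) (kf xf32 yf44 zf17) (kf xf32 yf40 zf31) (kf xf25 yf23 zf35) (kf xf28 yf34 zf44) (kf xf32 yf22 zf33) (kf xf31 yf53 zf59) (kf xf27 yf1 zf58) (kf xf27 yf2 zf6) (kf xf31 yf50 zf5) (kf xf29 yf47 zf54) (kf xf29 yf47 zf58) (kf xf30 yf46 zf59) (kf xf31 yf17 zf38) (kf xf29 yf4 zf13) (kf xf25 yf24 zf50) (kf xf30 yf55 zf11) (kf xf25 yf34 zf51) (kf xf28 yf37 zf31) (kf xf31 yf53 zf55) (kf xf30 yf18 zf44) (kf xf30 yf30 zf7) (kf xf31 yf54 zf3) (kf xf29 yf45 zf55) (kf xf31 yf22 zf14) (kf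 xf28 yf20 zf38) (kf xf25 yf25 zf28) (kf xf30 yf12 zf11) (kf xf30 yf15 zf51) (kf xf29 yf52 zf26) (kf xf26 yf41 zf54) (kf xf25 yf55 zf61) (kf xf28 yf32 zf12) (kf xf32 yf25 zf42) (kf xf32 yf20 zf3) (kf xf32 yf25 zf40) (kf xf25 yf26 zf23) (kf xf31 yf45 zf54) (kf xf28 yf9 zf15) (kf xf31 yf54 zf5) (kf xf31 yf53 zf34) (kf xf29 yf56 zf54) (kf xf27 yf53 zf13) (kf xf28 yf20 zf45) (kf xf31 yf53 zf21) (kf xf31 yf15 zf10) (kf xf32 yf15 zf39)) (@D3.rec (fun _ => Pt) (kf xf31 yf54 zf52) (kf xf28 yf9 zf0) (kf xf29 yf21 zf30) (kf xf31 yf53 zf37) (kf xf31 yf25 zf49) (kf xf31 yf53 zf54) (kf xf31 yf4 zf9) (kf xf25 yf27 zf7) (kf xf25 yf29 zf42) (kf xf25 yf29 zf45) (kf xf30 yf7 zf53) (kf xf25 yf33 zf38) (kf xf25 yf27 zf37) (kf xf25 yf33 zf0) (kf xf25 yf33 zf7) (kf xf25 yf34 zf37) (kf xf29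 yf6 zf32) (kf xf31 yf58 zf16) (kf xf32 yf2 zf26) (kf xf30 yf46 zf23) (kf xf31 yf55 zf15) (kf xf32 yf2 zf48) (kf xf32 yf57 zf60) (kf xf31 yf30 zf22) (kf xf27 yf53 zf12) (kf xf32 yf21 zf61) (kf xf30 yf40 zf36) (kf xf25 yf28 zf41) (kf xf31 yf57 zf8) (kf xf27 yf28 zf23) (kf xf32 yf23 zf35) (kf xf32 yf2 zf15) (kf xf31 yf45 zf33) (kf xf29 yf20 zf30) (kf xf30 yf55 zf60) (kf xf31 yf23 zf49) (kf xf30 yf10 zf56) (kf xf29 yf7 zf5) (kf xf25 yf29 zf39) (kf xf26 yf11 zf54) (kf xf27 yf27 zf61) (kf xf31 yf46 zf53) (kf xf31 yf48 zf44) (kf xf27 yf20 zf9) (kf xf28 yf58 zf25) (kf xf25 yf29 zf56) (kf xf25 yf30 zf7) (kf xf25 yf30 zf6) (kf xf32 yf42 zf35) (kf xf25 yf30 zf12) (kf xf26 yf24 zf37) (kf xf29 yf41 zf13) (kf xf31 yf54 zf0) (kf xf31 yf59 zf60) (kf xf32 yf54 zf8) (kf xf32 yf54 zf7)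 (kf xf25 yf30 zf8) (kf xf29 yf59 zf35) (kf xf30 yf10 zf55) (kf xf32 yf21 zf3) (kf xf32 yf21 zf4) (kf xf32 yf23 zf40)) (@D3.rec (fun _ => Pt) (kf xf27 yf24 zf32) (kf xf31 yf58 zf35) (kf xf32 yf42 zf17) (kf xf29 yf16 zf37) (kf xf30 yf7 zf61) (kf xf32 yf2 zf36) (kf xf32 yf50 zf8) (kf xf32 yf50 zf7) (kf xf29 yf59 zf24) (kf xf25 yf59 zf36) (kf xf26 yf16 zf48) (kf xf32 yf24 zf47) (kf xf28 yf16 zf8) (kf xf27 yf59 zf45) (kf xf26 yf50 zf1) (kf xf31 yf54 zf20) (kf xf32 yf41 zf29) (kf xf29 yf20 zf31) (kf xf31 yf56 zf10) (kf xf32 yf0 zf1) (kf xf25 yf31 zf43) (kf xf30 yf9 zf53) (kf xf25 yf32 zf8) (kf xf32 yf1 zf49) (kf xf30 yf17 zf9) (kf xf31 yf55 zf32) (kf xf31 yf55 zf31) (kf xf28 yf51 zf11) (kf xf28 yf51 zf19) (kf xf28 yf51 zf14) (kf xf28 yf56 zf58) (kf xf31 yf55 zf26) (kf xf31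 yf55 zf25) (kf xf26 yf46 zf10) (kf xf28 yf37 zf60) (kf xf28 yf18 zf38) (kf xf25 yf32 zf26) (kf xf28 yf46 zf13) (kf xf32 yf57 zf52) (kf xf32 yf46 zf44) (kf xf25 yf32 zf24) (kf xf28 yf55 zf19) (kf xf32 yf56 zf24) (kf xf32 yf39 zf6) (kf xf29 yf34 zf21) (kf xf25 yf32 zf27) (kf xf30 yf17 zf16) (kf xf32 yf41 zf4) (kf xf31 yf7 zf25) (kf xf25 yf45 zf22) (kf xf31 yf38 zf23) (kf xf27 yf56 zf11) (kf xf25 yf51 zf15) (kf xf30 yf46 zf52) (kf xf25 yf48 zf48) (kf xf30 yf23 zf14) (kf xf31 yf27 zf0) (kf xf25 yf35 zf55) (kf xf29 yf35 zf58) (kf xf32 yf38 zf11) (kf xf31 yf48 zf24) (kf xf25 yf33 zf27)) (@D3.rec (fun _ => Pt) (kf xf29 yf4 zf50) (kf xf27 yf17 zf30) (kf xf30 yf9 zf24) (kf xf31 yf48 zf0) (kf xf31 yf48 zf57) (kf xf28 yf59 zf48) (kf xf27 yf33 zf14) (kf xf30 yf6 zf45) (kf xf32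 yf57 zf32) (kf xf27 yf6 zf22) (kf xf31 yf55 zf18) (kf xf32 yf52 zf61) (kf xf25 yf36 zf45) (kf xf32 yf2 zf38) (kf xf26 yf0 zf37) (kf xf31 yf20 zf56) (kf xf31 yf9 zf17) (kf xf31 yf40 zf42) (kf xf31 yf26 zf43) (kf xf28 yf58 zf50) (kf xf31 yf59 zf44) (kf xf25 yf56 zf58) (kf xf25 yf35 zf24) (kf xf29 yf47 zf52) (kf xf25 yf51 zf3) (kf xf27 yf19 zf20) (kf xf25 yf35 zf60) (kf xf30 yf47 zf32) (kf xf30 yf47 zf49) (kf xf27 yf14 zf56) (kf xf28 yf23 zf37) (kf xf31 yf27 zf18) (kf xf32 yf23 zf37) (kf xf28 yf33 zf55) (kf xf30 yf47 zf45) (kf xf29 yf4 zf45) (kf xf30 yf50 zf28) (kf xf31 yf35 zf7) (kf xf31 yf26 zf20) (kf xf26 yf4 zf58) (kf xf31 yf11 zf54) (kf xf30 yf20 zf13) (kf xf25 yf38 zf47) (kf xf25 yf38 zf49) (kf xf25 yf38 zf45) (kf xf25 yf38 zf52) (kf xf25 yf38 zf51) (kf xf31 yf4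 zf18) (kf xf25 yf39 zf7) (kf xf25 yf39 zf8) (kf xf32 yf26 zf60) (kf xf25 yf39 zf5) (kf xf32 yf34 zf30) (kf xf29 yf6 zf18) (kf xf32 yf13 zf60) (kf xf31 yf20 zf48) (kf xf32 yf40 zf42) (kf xf25 yf37 zf29) (kf xf25 yf37 zf32) (kf xf29 yf37 zf33) (kf xf26 yf54 zf37) (kf xf32 yf36 zf38)) (@D3.rec (fun _ => Pt) (kf xf32 yf36 zf39) (kf xf32 yf58 zf39) (kf xf25 yf37 zf34) (kf xf31 yf28 zf60) (kf xf31 yf29 zf10) (kf xf32 yf42 zf33) (kf xf26 yf18 zf0) (kf xf31 yf57 zf19) (kf xf31 yf54 zf28) (kf xf26 yf51 zf4) (kf xf31 yf3 zf28) (kf xf31 yf32 zf19) (kf xf27 yf24 zf29) (kf xf31 yf32 zf18) (kf xf32 yf55 zf6) (kf xf30 yf17 zf5) (kf xf32 yf16 zf6) (kf xf31 yf29 zf36) (kf xf25 yf38 zf32) (kf xf31 yf57 zf7) (kf xf31 yf10 zf55) (kf xf32 yf55 zf41) (kf xf31 yf10 zf12) (kf xf31 yf4 zf15)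 (kf xf32 yf3 zf32) (kf xf29 yf10 zf57) (kf xf26 yf58 zf32) (kf xf25 yf38 zf50) (kf xf25 yf39 zf6) (kf xf30 yf42 zf15) (kf xf25 yf38 zf53) (kf xf31 yf58 zf43) (kf xf31 yf58 zf46) (kf xf31 yf58 zf36) (kf xf31 yf58 zf42) (kf xf31 yf58 zf47) (kf xf32 yf50 zf44) (kf xf31 yf11 zf55) (kf xf25 yf39 zf2) (kf xf31 yf59 zf1) (kf xf30 yf10 zf42) (kf xf30 yf10 zf39) (kf xf31 yf39 zf60) (kf xf29 yf13 zf53) (kf xf31 yf5 zf3) (kf xf30 yf4 zf50) (kf xf32 yf31 zf34) (kf xf27 yf51 zf36) (kf xf31 yf58 zf6) (kf xf31 yf10 zf30) (kf xf31 yf1 zf43) (kf xf25 yf39 zf9) (kf xf31 yf12 zf3) (kf xf32 yf6 zf50) (kf xf31 yf50 zf0) (kf xf25 yf39 zf24) (kf xf28 yf46 zf20) (kf xf30 yf47 zf47) (kf xf30 yf53 zf33) (kf xf30 yf18 zf14) (kf xf32 yf3 zf20) (kf xf31 yf10 zf22)) (@D3.rec (fun _ => Pt) (kf xf32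 yf55 zf22) (kf xf30 yf1 zf45) (kf xf29 yf14 zf2) (kf xf27 yf18 zf28) (kf xf25 yf40 zf1) (kf xf28 yf37 zf21) (kf xf31 yf57 zf48) (kf xf28 yf37 zf24) (kf xf27 yf18 zf32) (kf xf25 yf40 zf15) (kf xf27 yf35 zf60) (kf xf27 yf37 zf18) (kf xf28 yf37 zf19) (kf xf30 yf12 zf21) (kf xf28 yf38 zf45) (kf xf26 yf56 zf61) (kf xf31 yf54 zf17) (kf xf26 yf8 zf28) (kf xf32 yf3 zf30) (kf xf29 yf56 zf58) (kf xf31 yf3 zf16) (kf xf32 yf55 zf30) (kf xf25 yf41 zf29) (kf xf29 yf12 zf27) (kf xf26 yf2 zf15) (kf xf30 yf11 zf9) (kf xf29 yf6 zf27) (kf xf31 yf13 zf44) (kf xf27 yf37 zf20) (kf xf27 yf37 zf21) (kf xf27 yf37 zf19) (kf xf30 yf59 zf29) (kf xf25 yf42 zf46) (kf xf30 yf34 zf55) (kf xf25 yf54 zf22) (kf xf31 yf55 zf1) (kf xf31 yf57 zf33) (kf xf29 yf42 zf27) (kf xf32 yf3 zf38) (kf xf28 yf9 zf53)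 (kf xf28 yf1 zf3) (kf xf31 yf9 zf13) (kf xf31 yf57 zf34) (kf xf31 yf57 zf31) (kf xf31 yf16 zf61) (kf xf25 yf42 zf49) (kf xf31 yf57 zf32) (kf xf31 yf57 zf35) (kf xf26 yf15 zf29) (kf xf32 yf42 zf30) (kf xf30 yf59 zf0) (kf xf26 yf10 zf56) (kf xf27 yf3 zf8) (kf xf32 yf48 zf9) (kf xf28 yf24 zf6) (kf xf25 yf43 zf34) (kf xf26 yf3 zf50) (kf xf25 yf58 zf41) (kf xf25 yf59 zf9) (kf xf25 yf54 zf11) (kf xf25 yf59 zf20) (kf xf31 yf27 zf16)) (@D3.rec (fun _ => Pt) (kf xf32 yf3 zf47) (kf xf31 yf57 zf39) (kf xf30 yf2 zf0) (kf xf28 yf13 zf24) (kf xf28 yf13 zf22) (kf xf28 yf13 zf26) (kf xf28 yf42 zf61) (kf xf25 yf50 zf61) (kf xf32 yf4 zf15) (kf xf30 yf0 zf7) (kf xf26 yf11 zf6) (kf xf26 yf37 zf23) (kf xf32 yf3 zf52) (kf xf32 yf30 zf12) (kf xf31 yf34 zf0) (kf xf32 yf3 zf56) (kf xf32 yf3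 zf57) (kf xf27 yf47 zf45) (kf xf28 yf37 zf58) (kf xf28 yf38 zf1) (kf xf31 yf6 zf48) (kf xf31 yf6 zf3) (kf xf25 yf46 zf28) (kf xf29 yf5 zf55) (kf xf30 yf46 zf45) (kf xf26 yf27 zf43) (kf xf29 yf22 zf5) (kf xf31 yf6 zf37) (kf xf30 yf1 zf0) (kf xf32 yf55 zf59) (kf xf25 yf46 zf37) (kf xf31 yf50 zf2) (kf xf27 yf55 zf0) (kf xf31 yf16 zf46) (kf xf32 yf22 zf37) (kf xf28 yf48 zf56) (kf xf25 yf47 zf5) (kf xf31 yf1 zf57) (kf xf30 yf9 zf9) (kf xf25 yf50 zf44) (kf xf28 yf25 zf11) (kf xf25 yf52 zf47) (kf xf28 yf21 zf51) (kf xf32 yf0 zf60) (kf xf31 yf56 zf20) (kf xf29 yf2 zf30) (kf xf29 yf13 zf33) (kf xf26 yf21 zf31) (kf xf29 yf20 zf50) (kf xf25 yf54 zf43) (kf xf25 yf54 zf44) (kf xf27 yf16 zf46) (kf xf25 yf54 zf40) (kf xf25 yf54 zf41) (kf xf27 yf16 zf51) (kf xf32 yf22 zf21) (kf xf25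 yf59 zf45) (kf xf25 yf59 zf24) (kf xf31 yf46 zf35) (kf xf29 yf49 zf17) (kf xf31 yf54 zf53) (kf xf31 yf46 zf32))
def f_f_32 : D2 → D3 → Pt := @D2.rec (fun _ => D3 → Pt) (@D3.rec (fun _ => Pt) (kf xf30 yf53 zf26) (kf xf31 yf55 zf19) (kf xf31 yf43 zf43) (kf xf28 yf9 zf17) (kf xf32 yf3 zf2) (kf xf32 yf1 zf36) (kf xf25 yf57 zf18) (kf xf25 yf49 zf9) (kf xf32 yf56 zf59) (kf xf31 yf31 zf33) (kf xf29 yf56 zf60) (kf xf25 yf49 zf19) (kf xf31 yf35 zf55) (kf xf31 yf48 zf45) (kf xf26 yf41 zf33) (kf xf26 yf42 zf26) (kf xf25 yf49 zf53) (kf xf30 yf47 zf53) (kf xf29 yf51 zf2) (kf xf28 yf34 zf12) (kf xf28 yf59 zf20) (kf xf32 yf41 zf13) (kf xf32 yf48 zf10) (kf xf31 yf46 zf1) (kf xf25 yf50 zf16) (kf xf28 yf55 zf36) (kf xf32 yf34 zf44) (kf xf31 yf28 zf24) (kf xf31 yf28 zf25) (kf xf28 yf58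 zf46) (kf xf31 yf28 zf1) (kf xf31 yf25 zf16) (kf xf26 yf57 zf9) (kf xf29 yf37 zf28) (kf xf29 yf37 zf29) (kf xf31 yf50 zf31) (kf xf31 yf28 zf5) (kf xf30 yf8 zf7) (kf xf30 yf8 zf4) (kf xf30 yf8 zf6) (kf xf31 yf48 zf13) (kf xf27 yf38 zf57) (kf xf25 yf51 zf7) (kf xf32 yf41 zf18) (kf xf29 yf59 zf46) (kf xf28 yf58 zf34) (kf xf26 yf39 zf31) (kf xf28 yf47 zf45) (kf xf28 yf14 zf35) (kf xf26 yf45 zf19) (kf xf28 yf48 zf58) (kf xf28 yf48 zf39) (kf xf27 yf16 zf16) (kf xf27 yf16 zf19) (kf xf30 yf42 zf25) (kf xf27 yf19 zf36) (kf xf27 yf18 zf54) (kf xf29 yf43 zf40) (kf xf32 yf2 zf3) (kf xf29 yf48 zf20) (kf xf31 yf59 zf43) (kf xf30 yf25 zf46)) (@D3.rec (fun _ => Pt) (kf xf30 yf14 zf60) (kf xf32 yf39 zf56) (kf xf29 yf0 zf49) (kf xf28 yf33 zf51) (kf xf32 yf43 zf40) (kf xf31 yf52 zf18)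 (kf xf32 yf58 zf43) (kf xf25 yf53 zf3) (kf xf32 yf21 zf49) (kf xf32 yf11 zf30) (kf xf29 yf25 zf34) (kf xf25 yf56 zf37) (kf xf32 yf22 zf36) (kf xf25 yf56 zf39) (kf xf25 yf57 zf38) (kf xf32 yf21 zf59) (kf xf25 yf56 zf51) (kf xf27 yf18 zf2) (kf xf25 yf58 zf37) (kf xf25 yf58 zf42) (kf xf25 yf58 zf13) (kf xf32 yf43 zf51) (kf xf32 yf53 zf40) (kf xf30 yf7 zf16) (kf xf30 yf54 zf52) (kf xf32 yf41 zf57) (kf xf31 yf3 zf56) (kf xf32 yf48 zf46) (kf xf25 yf59 zf7) (kf xf25 yf54 zf31) (kf xf32 yf6 zf14) (kf xf32 yf44 zf19) (kf xf32 yf1 zf48) (kf xf32 yf2 zf20) (kf xf25 yf54 zf26) (kf xf25 yf54 zf34) (kf xf32 yf0 zf5) (kf xf29 yf19 zf60) (kf xf31 yf16 zf56) (kf xf32 yf42 zf26) (kf xf32 yf28 zf8) (kf xf32 yf44 zf14) (kf xf28 yf10 zf12) (kf xf31 yf7 zf4) (kf xf32 yf7 zf23) (kf xf32 yf7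 zf14) (kf xf26 yf18 zf58) (kf xf25 yf59 zf47) (kf xf32 yf1 zf32) (kf xf31 yf55 zf23) (kf xf32 yf2 zf19) (kf xf30 yf47 zf54) (kf xf32 yf2 zf25) (kf xf32 yf32 zf53) (kf xf30 yf36 zf43) (kf xf32 yf55 zf4) (kf xf27 yf14 zf26) (kf xf29 yf42 zf2) (kf xf31 yf46 zf33) (kf xf29 yf16 zf33) (kf xf29 yf37 zf18) (kf xf30 yf6 zf34)) (@D3.rec (fun _ => Pt) (kf xf29 yf16 zf28) (kf xf32 yf22 zf23) (kf xf28 yf50 zf32) (kf xf32 yf0 zf58) (kf xf31 yf23 zf55) (kf xf31 yf17 zf1) (kf xf29 yf31 zf61) (kf xf28 yf38 zf13) (kf xf25 yf56 zf31) (kf xf31 yf50 zf41) (kf xf28 yf20 zf20) (kf xf32 yf21 zf37) (kf xf30 yf33 zf7) (kf xf29 yf16 zf43) (kf xf31 yf22 zf40) (kf xf31 yf54 zf31) (kf xf31 yf52 zf40) (kf xf31 yf50 zf42) (kf xf28 yf14 zf55) (kf xf32 yf1 zf50) (kf xf32 yf1 zf33) (kf xf30 yf54 zf48)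 (kf xf32 yf22 zf27) (kf xf32 yf34 zf17) (kf xf25 yf57 zf15) (kf xf32 yf1 zf52) (kf xf31 yf54 zf18) (kf xf31 yf16 zf49) (kf xf32 yf23 zf47) (kf xf31 yf10 zf36) (kf xf30 yf43 zf17) (kf xf30 yf55 zf2) (kf xf31 yf3 zf53) (kf xf31 yf45 zf22) (kf xf31 yf46 zf5) (kf xf32 yf42 zf22) (kf xf31 yf55 zf5) (kf xf28 yf21 zf25) (kf xf31 yf56 zf13) (kf xf32 yf44 zf25) (kf xf25 yf58 zf0) (kf xf27 yf50 zf2) (kf xf29 yf59 zf13) (kf xf25 yf58 zf10) (kf xf30 yf7 zf12) (kf xf29 yf1 zf24) (kf xf32 yf14 zf13) (kf xf31 yf42 zf18) (kf xf31 yf54 zf21) (kf xf29 yf47 zf50) (kf xf25 yf58 zf59) (kf xf25 yf58 zf48) (kf xf25 yf59 zf4) (kf xf25 yf59 zf3) (kf xf25 yf58 zf51) (kf xf31 yf1 zf34) (kf xf32 yf42 zf2) (kf xf32 yf55 zf56) (kf xf31 yf4 zf41) (kf xf31 yf10 zf54) (kf xf25 yf59 zf5) (kf xf31 yf15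 zf51)) (@D3.rec (fun _ => Pt) (kf xf32 yf52 zf27) (kf xf32 yf18 zf10) (kf xf32 yf0 zf4) (kf xf28 yf53 zf15) (kf xf26 yf43 zf31) (kf xf28 yf23 zf54) (kf xf30 yf11 zf14) (kf xf30 yf7 zf26) (kf xf29 yf16 zf35) (kf xf30 yf2 zf31) (kf xf28 yf42 zf53) (kf xf27 yf57 zf57) (kf xf30 yf47 zf57) (kf xf29 yf22 zf48) (kf xf29 yf11 zf15) (kf xf31 yf10 zf42) (kf xf30 yf4 zf31) (kf xf26 yf1 zf29) (kf xf28 yf42 zf46) (kf xf31 yf4 zf35) (kf xf31 yf57 zf60) (kf xf30 yf11 zf4) (kf xf28 yf54 zf11) (kf xf28 yf14 zf24) (kf xf29 yf35 zf37) (kf xf31 yf21 zf27) (kf xf26 yf9 zf59) (kf xf31 yf21 zf16) (kf xf26 yf2 zf53) (kf xf31 yf12 zf13) (kf xf31 yf58 zf18) (kf xf29 yf52 zf32) (kf xf31 yf57 zf24) (kf xf31 yf41 zf55) (kf xf29 yf46 zf4) (kf xf32 yf12 zf0) (kf xf26 yf38 zf48) (kf xf26 yf37 zf29)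 (kf xf31 yf58 zf38) (kf xf26 yf3 zf18) (kf xf27 yf38 zf17) (kf xf26 yf10 zf5) (kf xf26 yf3 zf26) (kf xf30 yf18 zf0) (kf xf27 yf28 zf16) (kf xf32 yf21 zf39) (kf xf31 yf12 zf15) (kf xf31 yf59 zf0) (kf xf27 yf54 zf27) (kf xf28 yf4 zf57) (kf xf28 yf6 zf16) (kf xf32 yf29 zf13) (kf xf31 yf59 zf12) (kf xf28 yf5 zf13) (kf xf32 yf6 zf37) (kf xf31 yf42 zf40) (kf xf31 yf59 zf15) (kf xf31 yf59 zf16) (kf xf29 yf9 zf32) (kf xf31 yf35 zf0) (kf xf26 yf34 zf0) (kf xf26 yf39 zf56)) (@D3.rec (fun _ => Pt) (kf xf29 yf47 zf21) (kf xf31 yf47 zf34) (kf xf31 yf47 zf33) (kf xf30 yf29 zf38) (kf xf26 yf4 zf45) (kf xf26 yf33 zf59) (kf xf31 yf47 zf32) (kf xf26 yf4 zf52) (kf xf26 yf34 zf1) (kf xf32 yf10 zf47) (kf xf32 yf10 zf48) (kf xf28 yf58 zf32) (kf xf28 yf58 zf33) (kf xf28 yf59 zf33) (kf xf26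 yf23 zf21) (kf xf31 yf59 zf8) (kf xf29 yf29 zf41) (kf xf31 yf20 zf10) (kf xf32 yf53 zf1) (kf xf32 yf57 zf39) (kf xf31 yf52 zf43) (kf xf32 yf57 zf38) (kf xf31 yf53 zf15) (kf xf32 yf57 zf35) (kf xf32 yf57 zf31) (kf xf30 yf21 zf36) (kf xf26 yf6 zf19) (kf xf32 yf51 zf31) (kf xf32 yf32 zf7) (kf xf32 yf57 zf37) (kf xf31 yf10 zf20) (kf xf26 yf10 zf2) (kf xf27 yf39 zf11) (kf xf31 yf53 zf11) (kf xf26 yf6 zf60) (kf xf31 yf2 zf58) (kf xf30 yf2 zf52) (kf xf29 yf11 zf0) (kf xf31 yf9 zf18) (kf xf29 yf11 zf1) (kf xf32 yf49 zf20) (kf xf32 yf5 zf4) (kf xf27 yf48 zf30) (kf xf32 yf57 zf57) (kf xf26 yf7 zf24) (kf xf31 yf15 zf42) (kf xf26 yf59 zf24) (kf xf29 yf49 zf41) (kf xf29 yf49 zf51) (kf xf28 yf11 zf59) (kf xf30 yf40 zf44) (kf xf26 yf47 zf26) (kf xf32 yf55 zf42) (kf xf32 yf58 zf29)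 (kf xf32 yf55 zf44) (kf xf31 yf49 zf29) (kf xf26 yf8 zf18) (kf xf30 yf2 zf26) (kf xf30 yf17 zf61) (kf xf32 yf32 zf48) (kf xf28 yf11 zf58) (kf xf28 yf12 zf34)) (@D3.rec (fun _ => Pt) (kf xf30 yf32 zf47) (kf xf30 yf0 zf44) (kf xf32 yf38 zf6) (kf xf30 yf59 zf25) (kf xf32 yf4 zf41) (kf xf29 yf10 zf13) (kf xf26 yf9 zf2) (kf xf32 yf32 zf50) (kf xf30 yf38 zf59) (kf xf30 yf41 zf28) (kf xf32 yf49 zf0) (kf xf30 yf34 zf8) (kf xf30 yf58 zf61) (kf xf30 yf13 zf60) (kf xf32 yf23 zf55) (kf xf32 yf55 zf13) (kf xf29 yf17 zf17) (kf xf31 yf51 zf27) (kf xf32 yf17 zf45) (kf xf28 yf55 zf29) (kf xf31 yf5 zf23) (kf xf32 yf58 zf48) (kf xf31 yf6 zf11) (kf xf31 yf11 zf27) (kf xf27 yf25 zf4) (kf xf28 yf35 zf18) (kf xf30 yf14 zf41) (kf xf30 yf14 zf22) (kf xf27 yf27 zf35) (kf xf30 yf2 zf24) (kf xf27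 yf28 zf57) (kf xf27 yf27 zf37) (kf xf27 yf27 zf39) (kf xf27 yf27 zf44) (kf xf32 yf25 zf11) (kf xf26 yf11 zf50) (kf xf26 yf11 zf45) (kf xf31 yf34 zf2) (kf xf32 yf25 zf18) (kf xf32 yf8 zf18) (kf xf26 yf11 zf43) (kf xf26 yf11 zf55) (kf xf26 yf11 zf53) (kf xf26 yf11 zf57) (kf xf32 yf25 zf3) (kf xf30 yf59 zf46) (kf xf31 yf33 zf58) (kf xf26 yf11 zf51) (kf xf32 yf9 zf49) (kf xf32 yf5 zf52) (kf xf32 yf25 zf14) (kf xf32 yf38 zf10) (kf xf32 yf5 zf49) (kf xf32 yf38 zf4) (kf xf32 yf38 zf5) (kf xf31 yf39 zf2) (kf xf31 yf33 zf57) (kf xf26 yf11 zf60) (kf xf32 yf38 zf9) (kf xf31 yf14 zf45) (kf xf32 yf7 zf24) (kf xf26 yf21 zf32)) (@D3.rec (fun _ => Pt) (kf xf26 yf12 zf11) (kf xf26 yf12 zf39) (kf xf31 yf44 zf16) (kf xf29 yf19 zf43) (kf xf27 yf46 zf4) (kf xf32 yf6 zf46) (kf xf32 yf25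 zf26) (kf xf32 yf42 zf15) (kf xf26 yf13 zf33) (kf xf31 yf44 zf43) (kf xf32 yf56 zf54) (kf xf32 yf7 zf47) (kf xf31 yf8 zf16) (kf xf26 yf13 zf52) (kf xf32 yf1 zf30) (kf xf29 yf17 zf44) (kf xf29 yf37 zf41) (kf xf31 yf38 zf22) (kf xf27 yf11 zf5) (kf xf29 yf39 zf16) (kf xf31 yf50 zf8) (kf xf30 yf13 zf4) (kf xf26 yf14 zf61) (kf xf31 yf42 zf38) (kf xf31 yf15 zf25) (kf xf32 yf8 zf24) (kf xf31 yf42 zf47) (kf xf32 yf8 zf25) (kf xf32 yf28 zf24) (kf xf32 yf49 zf44) (kf xf29 yf20 zf48) (kf xf32 yf54 zf24) (kf xf32 yf43 zf18) (kf xf31 yf42 zf43) (kf xf32 yf31 zf44) (kf xf29 yf20 zf49) (kf xf32 yf28 zf31) (kf xf32 yf3 zf54) (kf xf31 yf12 zf7) (kf xf31 yf12 zf6) (kf xf31 yf1 zf0) (kf xf26 yf15 zf56) (kf xf32 yf25 zf19) (kf xf32 yf12 zf61) (kf xf32 yf26 zf3) (kf xf31 yf44 zf27) (kf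 xf32 yf6 zf5) (kf xf32 yf26 zf53) (kf xf26 yf16 zf23) (kf xf31 yf12 zf2) (kf xf31 yf57 zf53) (kf xf32 yf27 zf36) (kf xf26 yf30 zf46) (kf xf30 yf40 zf40) (kf xf31 yf6 zf12) (kf xf26 yf18 zf3) (kf xf32 yf27 zf35) (kf xf27 yf36 zf47) (kf xf32 yf53 zf37) (kf xf32 yf31 zf46) (kf xf29 yf20 zf8) (kf xf29 yf19 zf47)) (@D3.rec (fun _ => Pt) (kf xf29 yf19 zf49) (kf xf28 yf27 zf50) (kf xf27 yf54 zf29) (kf xf29 yf49 zf25) (kf xf32 yf26 zf28) (kf xf32 yf49 zf28) (kf xf32 yf7 zf43) (kf xf31 yf46 zf11) (kf xf32 yf7 zf41) (kf xf32 yf7 zf42) (kf xf31 yf27 zf44) (kf xf32 yf34 zf51) (kf xf32 yf27 zf30) (kf xf26 yf17 zf56) (kf xf32 yf1 zf45) (kf xf32 yf58 zf52) (kf xf30 yf1 zf9) (kf xf26 yf18 zf5) (kf xf32 yf26 zf8) (kf xf27 yf53 zf48) (kf xf28 yf45 zf42) (kf xf32 yf31 zf45) (kf xf32 yf34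 zf58) (kf xf32 yf1 zf44) (kf xf32 yf5 zf60) (kf xf27 yf53 zf11) (kf xf26 yf31 zf15) (kf xf32 yf29 zf1) (kf xf29 yf18 zf29) (kf xf29 yf18 zf30) (kf xf32 yf9 zf45) (kf xf28 yf4 zf59) (kf xf28 yf32 zf6) (kf xf27 yf32 zf26) (kf xf29 yf20 zf10) (kf xf30 yf57 zf32) (kf xf28 yf56 zf4) (kf xf27 yf52 zf48) (kf xf26 yf27 zf56) (kf xf26 yf27 zf61) (kf xf30 yf47 zf31) (kf xf32 yf7 zf8) (kf xf32 yf7 zf9) (kf xf32 yf7 zf6) (kf xf32 yf25 zf28) (kf xf28 yf46 zf33) (kf xf32 yf28 zf40) (kf xf32 yf6 zf11) (kf xf32 yf26 zf4) (kf xf26 yf20 zf58) (kf xf30 yf44 zf23) (kf xf30 yf44 zf32) (kf xf32 yf10 zf4) (kf xf32 yf10 zf3) (kf xf32 yf31 zf40) (kf xf32 yf44 zf4) (kf xf26 yf30 zf52) (kf xf31 yf42 zf3) (kf xf32 yf8 zf49) (kf xf32 yf10 zf22) (kf xf31 yf45 zf34) (kf xf32 yf10 zf21)) (@D3.rec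 (fun _ => Pt) (kf xf32 yf10 zf8) (kf xf32 yf10 zf7) (kf xf26 yf31 zf40) (kf xf26 yf31 zf41) (kf xf31 yf0 zf17) (kf xf27 yf36 zf21) (kf xf26 yf22 zf16) (kf xf32 yf54 zf61) (kf xf26 yf57 zf34) (kf xf32 yf38 zf42) (kf xf26 yf28 zf12) (kf xf27 yf14 zf28) (kf xf31 yf17 zf45) (kf xf31 yf22 zf54) (kf xf26 yf22 zf20) (kf xf27 yf14 zf21) (kf xf28 yf41 zf27) (kf xf30 yf2 zf57) (kf xf32 yf5 zf39) (kf xf30 yf55 zf8) (kf xf29 yf22 zf16) (kf xf26 yf56 zf2) (kf xf30 yf55 zf29) (kf xf31 yf42 zf27) (kf xf32 yf6 zf25) (kf xf32 yf6 zf27) (kf xf32 yf27 zf54) (kf xf31 yf15 zf26) (kf xf30 yf26 zf28) (kf xf30 yf46 zf41) (kf xf30 yf18 zf35) (kf xf30 yf50 zf22) (kf xf31 yf25 zf36) (kf xf26 yf29 zf5) (kf xf32 yf54 zf38) (kf xf29 yf53 zf50) (kf xf28 yf36 zf27) (kf xf28 yf36 zf30) (kf xf32 yf27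 zf57) (kf xf27 yf49 zf53) (kf xf29 yf28 zf35) (kf xf29 yf13 zf48) (kf xf32 yf9 zf57) (kf xf28 yf28 zf9) (kf xf29 yf12 zf23) (kf xf32 yf34 zf10) (kf xf30 yf17 zf1) (kf xf29 yf28 zf25) (kf xf26 yf26 zf0) (kf xf32 yf7 zf58) (kf xf32 yf48 zf17) (kf xf26 yf30 zf30) (kf xf32 yf56 zf53) (kf xf26 yf27 zf30) (kf xf32 yf40 zf41) (kf xf27 yf0 zf40) (kf xf26 yf57 zf18) (kf xf32 yf47 zf2) (kf xf28 yf51 zf43) (kf xf30 yf24 zf24) (kf xf28 yf55 zf3) (kf xf27 yf58 zf18)) (@D3.rec (fun _ => Pt) (kf xf26 yf27 zf37) (kf xf27 yf9 zf43) (kf xf32 yf39 zf9) (kf xf32 yf30 zf55) (kf xf26 yf38 zf33) (kf xf32 yf45 zf16) (kf xf32 yf40 zf35) (kf xf29 yf37 zf8) (kf xf28 yf32 zf58) (kf xf32 yf39 zf41) (kf xf30 yf52 zf6) (kf xf32 yf45 zf12) (kf xf31 yf19 zf36) (kf xf30 yf24 zf19) (kf xf31 yf25 zf2)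 (kf xf28 yf32 zf15) (kf xf28 yf34 zf18) (kf xf32 yf36 zf17) (kf xf30 yf29 zf40) (kf xf30 yf12 zf20) (kf xf29 yf54 zf5) (kf xf26 yf28 zf32) (kf xf28 yf56 zf3) (kf xf28 yf38 zf51) (kf xf32 yf34 zf4) (kf xf31 yf48 zf38) (kf xf29 yf54 zf22) (kf xf26 yf28 zf53) (kf xf32 yf9 zf55) (kf xf28 yf38 zf30) (kf xf31 yf50 zf33) (kf xf29 yf54 zf31) (kf xf32 yf19 zf21) (kf xf32 yf9 zf61) (kf xf26 yf29 zf17) (kf xf26 yf29 zf16) (kf xf30 yf56 zf8) (kf xf26 yf29 zf15) (kf xf32 yf35 zf12) (kf xf28 yf25 zf35) (kf xf26 yf31 zf49) (kf xf32 yf48 zf38) (kf xf32 yf29 zf31) (kf xf26 yf29 zf44) (kf xf29 yf25 zf0) (kf xf32 yf7 zf30) (kf xf31 yf1 zf19) (kf xf32 yf23 zf26) (kf xf30 yf58 zf43) (kf xf32 yf5 zf48) (kf xf26 yf30 zf1) (kf xf32 yf55 zf51) (kf xf26 yf30 zf7) (kf xf30 yf13 zf34) (kf xf31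 yf37 zf11) (kf xf32 yf9 zf28) (kf xf28 yf17 zf24) (kf xf32 yf8 zf42) (kf xf27 yf51 zf60) (kf xf30 yf48 zf1) (kf xf28 yf7 zf60) (kf xf32 yf9 zf33)) (@D3.rec (fun _ => Pt) (kf xf30 yf43 zf47) (kf xf30 yf48 zf6) (kf xf31 yf39 zf27) (kf xf32 yf7 zf53) (kf xf32 yf7 zf52) (kf xf28 yf4 zf42) (kf xf28 yf7 zf8) (kf xf32 yf8 zf1) (kf xf32 yf8 zf0) (kf xf28 yf8 zf29) (kf xf32 yf53 zf0) (kf xf30 yf55 zf7) (kf xf27 yf47 zf38) (kf xf28 yf4 zf35) (kf xf32 yf29 zf55) (kf xf28 yf7 zf26) (kf xf27 yf49 zf14) (kf xf29 yf25 zf8) (kf xf29 yf52 zf43) (kf xf32 yf41 zf42) (kf xf29 yf52 zf44) (kf xf32 yf7 zf61) (kf xf32 yf7 zf59) (kf xf28 yf15 zf32) (kf xf32 yf27 zf38) (kf xf28 yf32 zf14) (kf xf28 yf28 zf8) (kf xf28 yf18 zf50) (kf xf28 yf21 zf45) (kf xf29 yf22 zf47) (kf xf32 yf12 zf3) (kf xf26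 yf35 zf23) (kf xf26 yf38 zf57) (kf xf31 yf51 zf39) (kf xf29 yf44 zf60) (kf xf26 yf39 zf36) (kf xf26 yf39 zf27) (kf xf32 yf40 zf20) (kf xf26 yf39 zf45) (kf xf26 yf40 zf9) (kf xf32 yf47 zf49) (kf xf31 yf27 zf7) (kf xf32 yf38 zf57) (kf xf32 yf56 zf57) (kf xf32 yf38 zf59) (kf xf26 yf33 zf38) (kf xf26 yf39 zf51) (kf xf32 yf4 zf9) (kf xf32 yf4 zf10) (kf xf26 yf40 zf23) (kf xf26 yf40 zf45) (kf xf26 yf40 zf44) (kf xf26 yf40 zf48) (kf xf26 yf40 zf47) (kf xf32 yf12 zf22) (kf xf26 yf34 zf8) (kf xf26 yf41 zf5) (kf xf32 yf30 zf58) (kf xf31 yf50 zf57) (kf xf31 yf52 zf23) (kf xf26 yf34 zf17) (kf xf31 yf51 zf14)) (@D3.rec (fun _ => Pt) (kf xf29 yf36 zf18) (kf xf31 yf52 zf33) (kf xf31 yf52 zf34) (kf xf31 yf40 zf46) (kf xf29 yf31 zf31) (kf xf32 yf50 zf32) (kf xf26 yf34 zf33) (kf xf26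 yf34 zf32) (kf xf29 yf56 zf27) (kf xf32 yf50 zf31) (kf xf27 yf16 zf28) (kf xf28 yf38 zf7) (kf xf32 yf22 zf17) (kf xf28 yf54 zf30) (kf xf28 yf54 zf31) (kf xf28 yf54 zf44) (kf xf32 yf41 zf3) (kf xf28 yf39 zf56) (kf xf30 yf17 zf18) (kf xf32 yf12 zf36) (kf xf29 yf34 zf32) (kf xf29 yf44 zf10) (kf xf26 yf34 zf58) (kf xf32 yf13 zf6) (kf xf28 yf37 zf17) (kf xf32 yf13 zf18) (kf xf30 yf15 zf55) (kf xf26 yf35 zf1) (kf xf32 yf11 zf61) (kf xf29 yf21 zf25) (kf xf32 yf1 zf9) (kf xf30 yf17 zf26) (kf xf29 yf53 zf42) (kf xf31 yf21 zf0) (kf xf32 yf33 zf31) (kf xf28 yf54 zf53) (kf xf27 yf0 zf25) (kf xf30 yf52 zf53) (kf xf31 yf40 zf27) (kf xf27 yf0 zf27) (kf xf32 yf22 zf14) (kf xf31 yf52 zf57) (kf xf32 yf12 zf2) (kf xf31 yf19 zf46) (kf xf32 yf37 zf15) (kf xf26 yf35 zf45) (kf xf26 yf35 zf50)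 (kf xf26 yf35 zf49) (kf xf26 yf35 zf34) (kf xf29 yf33 zf31) (kf xf29 yf33 zf30) (kf xf26 yf56 zf50) (kf xf32 yf47 zf53) (kf xf32 yf47 zf19) (kf xf32 yf37 zf53) (kf xf32 yf52 zf45) (kf xf32 yf34 zf26) (kf xf31 yf17 zf58) (kf xf32 yf39 zf31) (kf xf32 yf36 zf13) (kf xf31 yf33 zf20) (kf xf32 yf11 zf28)) (@D3.rec (fun _ => Pt) (kf xf32 yf3 zf35) (kf xf32 yf19 zf8) (kf xf32 yf11 zf42) (kf xf32 yf10 zf30) (kf xf32 yf44 zf37) (kf xf31 yf33 zf4) (kf xf32 yf37 zf58) (kf xf29 yf42 zf38) (kf xf26 yf35 zf61) (kf xf26 yf36 zf16) (kf xf32 yf58 zf1) (kf xf29 yf46 zf17) (kf xf31 yf33 zf17) (kf xf26 yf36 zf2) (kf xf26 yf36 zf12) (kf xf29 yf33 zf48) (kf xf29 yf33 zf20) (kf xf29 yf33 zf18) (kf xf32 yf37 zf46) (kf xf32 yf37 zf24) (kf xf32 yf45 zf26) (kf xf32 yf58 zf55) (kf xf32 yf10 zf54)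 (kf xf32 yf45 zf27) (kf xf32 yf47 zf41) (kf xf32 yf40 zf28) (kf xf32 yf47 zf42) (kf xf26 yf36 zf19) (kf xf32 yf37 zf20) (kf xf32 yf36 zf54) (kf xf32 yf45 zf25) (kf xf26 yf36 zf22) (kf xf32 yf23 zf4) (kf xf28 yf55 zf56) (kf xf32 yf45 zf23) (kf xf27 yf35 zf58) (kf xf32 yf11 zf19) (kf xf29 yf31 zf33) (kf xf28 yf56 zf32) (kf xf32 yf45 zf53) (kf xf28 yf56 zf37) (kf xf28 yf34 zf27) (kf xf28 yf33 zf19) (kf xf28 yf34 zf23) (kf xf28 yf30 zf45) (kf xf28 yf34 zf19) (kf xf32 yf45 zf24) (kf xf30 yf17 zf15) (kf xf32 yf46 zf30) (kf xf32 yf47 zf25) (kf xf29 yf33 zf32) (kf xf26 yf37 zf10) (kf xf26 yf37 zf17) (kf xf26 yf37 zf1) (kf xf32 yf48 zf29) (kf xf31 yf51 zf12) (kf xf30 yf17 zf25) (kf xf26 yf48 zf38) (kf xf26 yf37 zf41) (kf xf30 yf27 zf3) (kf xf32 yf36 zf42) (kf xf32 yf6 zf43))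 (@D3.rec (fun _ => Pt) (kf xf32 yf57 zf28) (kf xf30 yf17 zf31) (kf xf32 yf51 zf4) (kf xf32 yf39 zf15) (kf xf32 yf15 zf45) (kf xf31 yf39 zf44) (kf xf32 yf11 zf23) (kf xf32 yf17 zf6) (kf xf31 yf51 zf59) (kf xf26 yf38 zf1) (kf xf29 yf33 zf40) (kf xf29 yf58 zf61) (kf xf26 yf38 zf3) (kf xf30 yf17 zf10) (kf xf26 yf38 zf6) (kf xf32 yf19 zf2) (kf xf30 yf17 zf23) (kf xf26 yf38 zf14) (kf xf32 yf11 zf25) (kf xf32 yf24 zf2) (kf xf26 yf38 zf15) (kf xf29 yf3 zf21) (kf xf26 yf38 zf21) (kf xf26 yf39 zf55) (kf xf29 yf47 zf25) (kf xf32 yf40 zf24) (kf xf26 yf41 zf14) (kf xf29 yf31 zf57) (kf xf26 yf38 zf49) (kf xf26 yf38 zf47) (kf xf29 yf5 zf16) (kf xf32 yf44 zf38) (kf xf32 yf37 zf38) (kf xf28 yf44 zf35) (kf xf32 yf45 zf43) (kf xf32 yf38 zf27) (kf xf32 yf18 zf41) (kf xf32 yf38 zf29) (kf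 xf32 yf45 zf29) (kf xf26 yf51 zf50) (kf xf26 yf51 zf49) (kf xf32 yf19 zf18) (kf xf29 yf33 zf8) (kf xf32 yf47 zf20) (kf xf31 yf29 zf44) (kf xf32 yf47 zf21) (kf xf29 yf26 zf16) (kf xf26 yf39 zf3) (kf xf32 yf44 zf35) (kf xf26 yf39 zf11) (kf xf29 yf21 zf42) (kf xf31 yf46 zf44) (kf xf31 yf26 zf15) (kf xf32 yf38 zf40) (kf xf27 yf36 zf45) (kf xf29 yf7 zf35) (kf xf32 yf57 zf13) (kf xf32 yf22 zf18) (kf xf26 yf40 zf5) (kf xf29 yf33 zf56) (kf xf31 yf56 zf54) (kf xf26 yf40 zf8)) (@D3.rec (fun _ => Pt) (kf xf31 yf21 zf30) (kf xf27 yf17 zf38) (kf xf29 yf47 zf13) (kf xf29 yf47 zf14) (kf xf31 yf24 zf50) (kf xf26 yf40 zf22) (kf xf30 yf16 zf7) (kf xf26 yf40 zf21) (kf xf32 yf47 zf55) (kf xf29 yf47 zf22) (kf xf29 yf34 zf8) (kf xf31 yf19 zf23) (kf xf26 yf40 zf24) (kf xf32 yf2 zf46) (kf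 xf31 yf20 zf13) (kf xf28 yf56 zf30) (kf xf29 yf34 zf13) (kf xf32 yf45 zf46) (kf xf32 yf33 zf33) (kf xf32 yf46 zf51) (kf xf32 yf27 zf5) (kf xf29 yf46 zf10) (kf xf26 yf40 zf58) (kf xf30 yf23 zf18) (kf xf32 yf21 zf1) (kf xf29 yf43 zf39) (kf xf32 yf47 zf14) (kf xf26 yf41 zf6) (kf xf31 yf20 zf19) (kf xf32 yf40 zf11) (kf xf31 yf40 zf20) (kf xf29 yf33 zf58) (kf xf26 yf41 zf17) (kf xf28 yf42 zf15) (kf xf29 yf33 zf43) (kf xf29 yf31 zf24) (kf xf26 yf41 zf34) (kf xf30 yf16 zf48) (kf xf26 yf41 zf59) (kf xf28 yf59 zf0) (kf xf29 yf33 zf7) (kf xf29 yf8 zf48) (kf xf26 yf42 zf41) (kf xf29 yf39 zf24) (kf xf31 yf51 zf1) (kf xf27 yf12 zf0) (kf xf30 yf49 zf14) (kf xf32 yf48 zf4) (kf xf31 yf30 zf10) (kf xf26 yf42 zf53) (kf xf29 yf15 zf38) (kf xf31 yf23 zf60) (kf xf32 yf15 zf58) (kf xf31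 yf23 zf22) (kf xf32 yf22 zf12) (kf xf26 yf42 zf59) (kf xf28 yf15 zf46) (kf xf28 yf15 zf44) (kf xf28 yf15 zf47) (kf xf28 yf15 zf50) (kf xf28 yf52 zf2) (kf xf32 yf41 zf43)) (@D3.rec (fun _ => Pt) (kf xf28 yf14 zf47) (kf xf32 yf48 zf0) (kf xf29 yf47 zf8) (kf xf32 yf36 zf61) (kf xf29 yf8 zf35) (kf xf27 yf8 zf31) (kf xf28 yf2 zf48) (kf xf30 yf28 zf2) (kf xf26 yf43 zf13) (kf xf32 yf38 zf46) (kf xf32 yf38 zf60) (kf xf30 yf30 zf0) (kf xf29 yf23 zf10) (kf xf28 yf52 zf24) (kf xf26 yf43 zf24) (kf xf28 yf53 zf38) (kf xf28 yf53 zf40) (kf xf32 yf19 zf59) (kf xf28 yf30 zf17) (kf xf32 yf48 zf6) (kf xf29 yf15 zf36) (kf xf32 yf35 zf51) (kf xf28 yf55 zf46) (kf xf26 yf43 zf56) (kf xf26 yf56 zf14) (kf xf30 yf56 zf23) (kf xf28 yf17 zf2) (kf xf32 yf36 zf5) (kf xf26 yf44 zf7) (kf xf28 yf44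 zf19) (kf xf29 yf4 zf24) (kf xf29 yf4 zf61) (kf xf29 yf4 zf0) (kf xf29 yf44 zf28) (kf xf30 yf28 zf57) (kf xf29 yf42 zf6) (kf xf30 yf0 zf12) (kf xf30 yf26 zf12) (kf xf29 yf3 zf57) (kf xf31 yf53 zf61) (kf xf31 yf24 zf5) (kf xf32 yf34 zf34) (kf xf29 yf2 zf59) (kf xf29 yf30 zf55) (kf xf31 yf22 zf43) (kf xf32 yf13 zf4) (kf xf32 yf16 zf38) (kf xf31 yf27 zf55) (kf xf29 yf3 zf48) (kf xf32 yf37 zf19) (kf xf32 yf47 zf3) (kf xf27 yf9 zf38) (kf xf29 yf9 zf30) (kf xf30 yf54 zf61) (kf xf32 yf48 zf37) (kf xf29 yf17 zf40) (kf xf31 yf36 zf27) (kf xf32 yf32 zf41) (kf xf32 yf14 zf52) (kf xf29 yf0 zf23) (kf xf31 yf8 zf41) (kf xf29 yf10 zf20)) (@D3.rec (fun _ => Pt) (kf xf32 yf32 zf42) (kf xf29 yf11 zf2) (kf xf29 yf10 zf5) (kf xf26 yf47 zf25) (kf xf26 yf47 zf21) (kf xf32 yf55 zf33) (kf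 xf31 yf57 zf16) (kf xf32 yf55 zf46) (kf xf32 yf30 zf38) (kf xf29 yf10 zf9) (kf xf29 yf10 zf14) (kf xf26 yf47 zf30) (kf xf32 yf48 zf13) (kf xf29 yf11 zf55) (kf xf29 yf11 zf54) (kf xf29 yf11 zf57) (kf xf29 yf11 zf56) (kf xf29 yf11 zf32) (kf xf31 yf5 zf16) (kf xf26 yf47 zf59) (kf xf30 yf10 zf31) (kf xf29 yf14 zf4) (kf xf29 yf14 zf5) (kf xf28 yf57 zf30) (kf xf28 yf28 zf23) (kf xf29 yf19 zf61) (kf xf26 yf49 zf20) (kf xf26 yf49 zf9) (kf xf28 yf54 zf34) (kf xf26 yf58 zf11) (kf xf28 yf22 zf21) (kf xf32 yf19 zf39) (kf xf32 yf34 zf49) (kf xf32 yf17 zf35) (kf xf28 yf51 zf51) (kf xf31 yf20 zf9) (kf xf26 yf51 zf59) (kf xf26 yf50 zf4) (kf xf32 yf15 zf46) (kf xf29 yf22 zf40) (kf xf27 yf43 zf15) (kf xf32 yf33 zf17) (kf xf26 yf50 zf53) (kf xf29 yf36 zf33) (kf xf32 yf56 zf15) (kf xf26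 yf50 zf54) (kf xf26 yf56 zf0) (kf xf26 yf51 zf38) (kf xf26 yf51 zf29) (kf xf26 yf56 zf49) (kf xf28 yf39 zf35) (kf xf31 yf22 zf30) (kf xf29 yf55 zf51) (kf xf26 yf51 zf40) (kf xf31 yf29 zf59) (kf xf31 yf24 zf11) (kf xf31 yf37 zf14) (kf xf32 yf53 zf45) (kf xf32 yf55 zf61) (kf xf32 yf57 zf30) (kf xf30 yf27 zf0) (kf xf28 yf23 zf52)) (@D3.rec (fun _ => Pt) (kf xf32 yf23 zf17) (kf xf30 yf22 zf46) (kf xf29 yf33 zf37) (kf xf29 yf33 zf33) (kf xf32 yf52 zf41) (kf xf31 yf48 zf5) (kf xf32 yf13 zf7) (kf xf29 yf33 zf26) (kf xf29 yf33 zf25) (kf xf26 yf52 zf27) (kf xf26 yf52 zf40) (kf xf26 yf52 zf39) (kf xf26 yf52 zf31) (kf xf31 yf25 zf7) (kf xf32 yf29 zf48) (kf xf32 yf29 zf45) (kf xf30 yf31 zf20) (kf xf30 yf54 zf6) (kf xf29 yf8 zf19) (kf xf29 yf8 zf18) (kf xf29 yf19 zf55) (kf xf29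 yf19 zf56) (kf xf29 yf27 zf23) (kf xf26 yf54 zf19) (kf xf26 yf53 zf30) (kf xf26 yf53 zf53) (kf xf26 yf53 zf35) (kf xf26 yf54 zf36) (kf xf26 yf54 zf45) (kf xf26 yf53 zf42) (kf xf32 yf17 zf36) (kf xf29 yf35 zf23) (kf xf29 yf50 zf20) (kf xf26 yf53 zf45) (kf xf28 yf38 zf34) (kf xf32 yf16 zf33) (kf xf32 yf17 zf30) (kf xf31 yf28 zf2) (kf xf29 yf8 zf61) (kf xf28 yf51 zf52) (kf xf28 yf33 zf7) (kf xf26 yf53 zf60) (kf xf31 yf42 zf1) (kf xf28 yf45 zf8) (kf xf32 yf43 zf29) (kf xf32 yf5 zf18) (kf xf32 yf45 zf58) (kf xf32 yf46 zf14) (kf xf32 yf59 zf3) (kf xf26 yf54 zf26) (kf xf32 yf35 zf22) (kf xf29 yf43 zf32) (kf xf29 yf43 zf31) (kf xf29 yf43 zf30) (kf xf31 yf52 zf35) (kf xf32 yf44 zf42) (kf xf31 yf14 zf9) (kf xf29 yf14 zf14) (kf xf26 yf54 zf41) (kf xf31 yf34 zf28) (kf xf32 yf43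 zf34) (kf xf32 yf44 zf48)) (@D3.rec (fun _ => Pt) (kf xf32 yf43 zf30) (kf xf32 yf59 zf6) (kf xf26 yf54 zf43) (kf xf32 yf43 zf28) (kf xf29 yf43 zf36) (kf xf27 yf43 zf56) (kf xf27 yf44 zf2) (kf xf28 yf19 zf34) (kf xf29 yf29 zf38) (kf xf26 yf57 zf20) (kf xf32 yf3 zf1) (kf xf26 yf56 zf48) (kf xf26 yf57 zf17) (kf xf29 yf29 zf31) (kf xf29 yf8 zf39) (kf xf32 yf45 zf59) (kf xf30 yf23 zf58) (kf xf31 yf28 zf3) (kf xf28 yf55 zf41) (kf xf29 yf53 zf37) (kf xf28 yf56 zf25) (kf xf31 yf22 zf38) (kf xf30 yf25 zf24) (kf xf31 yf19 zf20) (kf xf30 yf25 zf19) (kf xf32 yf33 zf34) (kf xf28 yf37 zf37) (kf xf29 yf8 zf57) (kf xf32 yf18 zf31) (kf xf32 yf54 zf44) (kf xf29 yf30 zf38) (kf xf32 yf18 zf28) (kf xf32 yf43 zf60) (kf xf31 yf31 zf34) (kf xf32 yf48 zf34) (kf xf32 yf37 zf28) (kf xf32 yf39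 zf51) (kf xf32 yf38 zf56) (kf xf29 yf53 zf39) (kf xf28 yf40 zf8) (kf xf29 yf33 zf21) (kf xf32 yf13 zf36) (kf xf27 yf0 zf41) (kf xf32 yf43 zf39) (kf xf27 yf15 zf18) (kf xf32 yf36 zf1) (kf xf30 yf29 zf47) (kf xf30 yf32 zf34) (kf xf27 yf35 zf49) (kf xf32 yf30 zf2) (kf xf31 yf34 zf38) (kf xf31 yf45 zf60) (kf xf32 yf35 zf25) (kf xf28 yf34 zf57) (kf xf28 yf35 zf25) (kf xf28 yf54 zf27) (kf xf29 yf44 zf29) (kf xf30 yf30 zf6) (kf xf32 yf37 zf51) (kf xf27 yf19 zf26) (kf xf31 yf33 zf19) (kf xf31 yf47 zf6)) (@D3.rec (fun _ => Pt) (kf xf31 yf21 zf1) (kf xf31 yf26 zf4) (kf xf32 yf13 zf15) (kf xf28 yf54 zf52) (kf xf32 yf44 zf10) (kf xf27 yf11 zf43) (kf xf32 yf42 zf51) (kf xf32 yf51 zf5) (kf xf32 yf12 zf1) (kf xf32 yf47 zf45) (kf xf29 yf45 zf58) (kf xf27 yf16 zf23) (kf xf31 yf19 zf25)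 (kf xf27 yf0 zf39) (kf xf29 yf31 zf18) (kf xf32 yf41 zf1) (kf xf32 yf41 zf47) (kf xf31 yf29 zf46) (kf xf32 yf13 zf41) (kf xf32 yf37 zf25) (kf xf32 yf40 zf57) (kf xf32 yf9 zf32) (kf xf27 yf1 zf43) (kf xf32 yf23 zf36) (kf xf30 yf6 zf54) (kf xf27 yf8 zf55) (kf xf27 yf8 zf54) (kf xf27 yf7 zf3) (kf xf27 yf7 zf2) (kf xf27 yf7 zf9) (kf xf27 yf7 zf11) (kf xf27 yf7 zf22) (kf xf30 yf21 zf46) (kf xf27 yf13 zf33) (kf xf30 yf5 zf44) (kf xf27 yf13 zf37) (kf xf30 yf29 zf11) (kf xf31 yf22 zf32) (kf xf27 yf16 zf15) (kf xf32 yf16 zf31) (kf xf27 yf2 zf59) (kf xf32 yf59 zf8) (kf xf27 yf3 zf0) (kf xf30 yf26 zf29) (kf xf28 yf53 zf9) (kf xf30 yf29 zf9) (kf xf28 yf13 zf9) (kf xf30 yf0 zf18) (kf xf27 yf46 zf49) (kf xf27 yf44 zf60) (kf xf29 yf51 zf32) (kf xf31 yf3 zf42) (kf xf27 yf4 zf38) (kf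 xf30 yf2 zf15) (kf xf30 yf2 zf9) (kf xf31 yf47 zf57) (kf xf29 yf28 zf21) (kf xf32 yf28 zf61) (kf xf31 yf39 zf8) (kf xf32 yf15 zf17) (kf xf30 yf3 zf43) (kf xf29 yf39 zf35)) (@D3.rec (fun _ => Pt) (kf xf27 yf9 zf6) (kf xf30 yf6 zf32) (kf xf30 yf6 zf46) (kf xf31 yf53 zf49) (kf xf27 yf15 zf47) (kf xf27 yf15 zf51) (kf xf27 yf8 zf22) (kf xf32 yf52 zf20) (kf xf27 yf8 zf25) (kf xf27 yf8 zf59) (kf xf27 yf8 zf60) (kf xf29 yf13 zf3) (kf xf30 yf39 zf24) (kf xf27 yf6 zf43) (kf xf32 yf20 zf39) (kf xf30 yf5 zf47) (kf xf30 yf18 zf56) (kf xf28 yf17 zf30) (kf xf31 yf13 zf56) (kf xf32 yf57 zf15) (kf xf27 yf6 zf49) (kf xf32 yf49 zf54) (kf xf32 yf49 zf55) (kf xf28 yf52 zf7) (kf xf27 yf6 zf57) (kf xf32 yf50 zf5) (kf xf28 yf37 zf32) (kf xf32 yf47 zf61) (kf xf28 yf26 zf43) (kf xf28 yf52 zf61)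 (kf xf32 yf39 zf42) (kf xf32 yf21 zf28) (kf xf32 yf39 zf59) (kf xf32 yf50 zf2) (kf xf32 yf50 zf4) (kf xf32 yf56 zf6) (kf xf27 yf7 zf8) (kf xf32 yf31 zf12) (kf xf32 yf33 zf16) (kf xf32 yf20 zf14) (kf xf30 yf5 zf49) (kf xf32 yf21 zf27) (kf xf29 yf37 zf6) (kf xf32 yf21 zf34) (kf xf32 yf54 zf54) (kf xf32 yf56 zf17) (kf xf31 yf48 zf1) (kf xf32 yf59 zf13) (kf xf30 yf21 zf31) (kf xf32 yf32 zf57) (kf xf27 yf7 zf23) (kf xf32 yf23 zf23) (kf xf32 yf51 zf29) (kf xf32 yf59 zf10) (kf xf27 yf7 zf26) (kf xf29 yf37 zf59) (kf xf29 yf37 zf60) (kf xf29 yf38 zf0) (kf xf29 yf37 zf61) (kf xf28 yf40 zf18) (kf xf30 yf16 zf27) (kf xf30 yf16 zf28)) (@D3.rec (fun _ => Pt) (kf xf29 yf46 zf48) (kf xf32 yf14 zf24) (kf xf32 yf48 zf47) (kf xf31 yf54 zf59) (kf xf31 yf54 zf60) (kf xf32 yf48 zf59) (kf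 xf32 yf23 zf52) (kf xf32 yf55 zf7) (kf xf32 yf23 zf53) (kf xf31 yf25 zf47) (kf xf32 yf23 zf50) (kf xf32 yf23 zf51) (kf xf28 yf51 zf53) (kf xf32 yf36 zf60) (kf xf31 yf13 zf33) (kf xf30 yf39 zf39) (kf xf31 yf23 zf0) (kf xf31 yf31 zf1) (kf xf28 yf56 zf6) (kf xf32 yf42 zf50) (kf xf27 yf8 zf26) (kf xf29 yf8 zf5) (kf xf31 yf15 zf46) (kf xf29 yf40 zf15) (kf xf27 yf8 zf38) (kf xf32 yf33 zf18) (kf xf28 yf17 zf33) (kf xf32 yf20 zf41) (kf xf32 yf20 zf31) (kf xf30 yf19 zf12) (kf xf29 yf7 zf31) (kf xf31 yf14 zf22) (kf xf30 yf45 zf1) (kf xf32 yf35 zf54) (kf xf32 yf20 zf43) (kf xf29 yf19 zf22) (kf xf27 yf14 zf24) (kf xf32 yf2 zf11) (kf xf28 yf9 zf49) (kf xf32 yf3 zf45) (kf xf32 yf48 zf43) (kf xf28 yf46 zf37) (kf xf29 yf33 zf52) (kf xf30 yf27 zf20) (kf xf29 yf26 zf15) (kf xf28 yf7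 zf9) (kf xf27 yf19 zf40) (kf xf32 yf27 zf11) (kf xf32 yf44 zf32) (kf xf32 yf1 zf8) (kf xf32 yf50 zf57) (kf xf29 yf2 zf26) (kf xf31 yf28 zf35) (kf xf31 yf47 zf50) (kf xf28 yf21 zf61) (kf xf28 yf0 zf4) (kf xf28 yf59 zf16) (kf xf29 yf38 zf44) (kf xf27 yf21 zf54) (kf xf32 yf1 zf15) (kf xf30 yf22 zf30) (kf xf31 yf54 zf25)) (@D3.rec (fun _ => Pt) (kf xf29 yf54 zf60) (kf xf29 yf54 zf61) (kf xf31 yf38 zf40) (kf xf27 yf13 zf1) (kf xf32 yf50 zf11) (kf xf32 yf34 zf47) (kf xf27 yf21 zf55) (kf xf27 yf13 zf17) (kf xf32 yf22 zf51) (kf xf32 yf22 zf52) (kf xf31 yf37 zf4) (kf xf32 yf23 zf22) (kf xf32 yf14 zf54) (kf xf30 yf28 zf50) (kf xf32 yf11 zf40) (kf xf32 yf57 zf29) (kf xf27 yf14 zf0) (kf xf32 yf11 zf12) (kf xf32 yf13 zf57) (kf xf28 yf49 zf57) (kf xf28 yf24 zf7) (kf xf31 yf59 zf55)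 (kf xf31 yf46 zf54) (kf xf32 yf2 zf1) (kf xf27 yf15 zf6) (kf xf32 yf23 zf21) (kf xf31 yf49 zf46) (kf xf32 yf2 zf22) (kf xf30 yf36 zf20) (kf xf27 yf16 zf1) (kf xf32 yf37 zf43) (kf xf30 yf16 zf56) (kf xf32 yf41 zf21) (kf xf31 yf53 zf20) (kf xf30 yf32 zf22) (kf xf27 yf15 zf8) (kf xf32 yf1 zf12) (kf xf31 yf59 zf34) (kf xf32 yf58 zf12) (kf xf27 yf15 zf15) (kf xf30 yf55 zf40) (kf xf30 yf7 zf2) (kf xf31 yf13 zf53) (kf xf27 yf15 zf20) (kf xf29 yf32 zf27) (kf xf30 yf48 zf22) (kf xf27 yf15 zf22) (kf xf27 yf15 zf34) (kf xf30 yf47 zf56) (kf xf28 yf22 zf38) (kf xf32 yf29 zf61) (kf xf32 yf22 zf8) (kf xf32 yf22 zf9) (kf xf28 yf51 zf2) (kf xf28 yf51 zf7) (kf xf30 yf15 zf47) (kf xf32 yf57 zf4) (kf xf27 yf16 zf32) (kf xf32 yf47 zf26) (kf xf32 yf45 zf37) (kf xf31 yf14 zf6) (kf xf32 yf50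 zf61)) (@D3.rec (fun _ => Pt) (kf xf28 yf56 zf36) (kf xf29 yf56 zf11) (kf xf29 yf47 zf26) (kf xf31 yf47 zf4) (kf xf32 yf12 zf32) (kf xf32 yf52 zf47) (kf xf32 yf45 zf38) (kf xf32 yf57 zf10) (kf xf32 yf56 zf50) (kf xf27 yf16 zf30) (kf xf31 yf30 zf34) (kf xf32 yf51 zf6) (kf xf31 yf19 zf17) (kf xf27 yf16 zf42) (kf xf32 yf30 zf21) (kf xf32 yf28 zf43) (kf xf32 yf29 zf32) (kf xf32 yf17 zf0) (kf xf28 yf47 zf14) (kf xf27 yf21 zf39) (kf xf32 yf41 zf40) (kf xf32 yf22 zf25) (kf xf32 yf22 zf11) (kf xf32 yf20 zf51) (kf xf30 yf19 zf14) (kf xf27 yf20 zf10) (kf xf32 yf9 zf47) (kf xf30 yf16 zf26) (kf xf30 yf16 zf23) (kf xf30 yf15 zf3) (kf xf31 yf36 zf57) (kf xf32 yf47 zf59) (kf xf31 yf46 zf6) (kf xf31 yf46 zf7) (kf xf29 yf4 zf46) (kf xf31 yf54 zf30) (kf xf32 yf19 zf23) (kf xf31 yf56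 zf32) (kf xf29 yf11 zf48) (kf xf30 yf55 zf21) (kf xf31 yf54 zf61) (kf xf32 yf32 zf47) (kf xf32 yf49 zf48) (kf xf29 yf16 zf20) (kf xf27 yf18 zf23) (kf xf29 yf51 zf6) (kf xf32 yf55 zf24) (kf xf32 yf2 zf28) (kf xf32 yf43 zf17) (kf xf32 yf24 zf29) (kf xf32 yf21 zf10) (kf xf32 yf21 zf11) (kf xf32 yf21 zf6) (kf xf32 yf21 zf8) (kf xf31 yf23 zf20) (kf xf32 yf5 zf14) (kf xf27 yf18 zf42) (kf xf27 yf18 zf45) (kf xf27 yf19 zf27) (kf xf27 yf18 zf60) (kf xf31 yf32 zf21) (kf xf29 yf1 zf16)) (@D3.rec (fun _ => Pt) (kf xf30 yf15 zf58) (kf xf29 yf33 zf38) (kf xf32 yf13 zf19) (kf xf32 yf50 zf33) (kf xf27 yf19 zf16) (kf xf32 yf58 zf41) (kf xf32 yf57 zf1) (kf xf30 yf38 zf46) (kf xf32 yf56 zf49) (kf xf31 yf24 zf38) (kf xf27 yf19 zf44) (kf xf32 yf31 zf8) (kf xf30 yf55 zf24) (kf xf32 yf54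 zf35) (kf xf29 yf40 zf38) (kf xf30 yf56 zf29) (kf xf32 yf52 zf16) (kf xf27 yf21 zf25) (kf xf29 yf23 zf6) (kf xf29 yf26 zf4) (kf xf30 yf18 zf31) (kf xf27 yf23 zf10) (kf xf30 yf1 zf49) (kf xf30 yf16 zf52) (kf xf32 yf27 zf10) (kf xf31 yf41 zf3) (kf xf31 yf40 zf0) (kf xf31 yf16 zf12) (kf xf28 yf41 zf45) (kf xf32 yf23 zf49) (kf xf29 yf11 zf23) (kf xf32 yf42 zf5) (kf xf31 yf10 zf49) (kf xf32 yf48 zf56) (kf xf27 yf23 zf40) (kf xf31 yf31 zf30) (kf xf28 yf37 zf48) (kf xf28 yf38 zf11) (kf xf31 yf46 zf10) (kf xf31 yf46 zf8) (kf xf32 yf26 zf20) (kf xf27 yf24 zf22) (kf xf31 yf48 zf31) (kf xf30 yf11 zf11) (kf xf27 yf24 zf12) (kf xf28 yf34 zf48) (kf xf32 yf46 zf61) (kf xf31 yf55 zf11) (kf xf27 yf26 zf22) (kf xf27 yf26 zf23) (kf xf27 yf28 zf50) (kf xf27 yf26 zf20) (kf xf30 yf1 zf1)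 (kf xf27 yf27 zf9) (kf xf32 yf25 zf8) (kf xf28 yf12 zf4) (kf xf31 yf8 zf15) (kf xf27 yf27 zf40) (kf xf29 yf48 zf32) (kf xf32 yf25 zf7) (kf xf32 yf57 zf22) (kf xf28 yf44 zf0)) (@D3.rec (fun _ => Pt) (kf xf30 yf23 zf19) (kf xf30 yf42 zf35) (kf xf31 yf38 zf11) (kf xf32 yf5 zf44) (kf xf32 yf31 zf27) (kf xf27 yf27 zf15) (kf xf31 yf33 zf61) (kf xf32 yf24 zf59) (kf xf32 yf24 zf54) (kf xf31 yf48 zf46) (kf xf27 yf38 zf33) (kf xf32 yf5 zf34) (kf xf27 yf38 zf48) (kf xf27 yf28 zf26) (kf xf32 yf5 zf50) (kf xf28 yf4 zf24) (kf xf31 yf15 zf39) (kf xf30 yf19 zf25) (kf xf32 yf5 zf38) (kf xf32 yf6 zf42) (kf xf32 yf59 zf12) (kf xf27 yf30 zf7) (kf xf27 yf30 zf10) (kf xf29 yf36 zf9) (kf xf28 yf56 zf46) (kf xf32 yf28 zf30) (kf xf32 yf6 zf6) (kf xf31 yf14 zf54) (kf xf32 yf7 zf44) (kf xf27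 yf31 zf21) (kf xf28 yf1 zf54) (kf xf30 yf23 zf24) (kf xf32 yf26 zf29) (kf xf29 yf25 zf12) (kf xf32 yf26 zf31) (kf xf32 yf29 zf53) (kf xf27 yf32 zf7) (kf xf31 yf42 zf11) (kf xf27 yf49 zf40) (kf xf32 yf30 zf36) (kf xf31 yf53 zf50) (kf xf32 yf26 zf35) (kf xf31 yf53 zf48) (kf xf28 yf7 zf35) (kf xf27 yf32 zf28) (kf xf27 yf32 zf27) (kf xf32 yf33 zf6) (kf xf28 yf7 zf30) (kf xf32 yf35 zf45) (kf xf32 yf31 zf30) (kf xf27 yf49 zf60) (kf xf32 yf30 zf28) (kf xf28 yf7 zf48) (kf xf28 yf6 zf11) (kf xf28 yf17 zf6) (kf xf27 yf54 zf9) (kf xf27 yf54 zf2) (kf xf32 yf26 zf34) (kf xf28 yf46 zf3) (kf xf32 yf26 zf41) (kf xf32 yf54 zf17) (kf xf29 yf24 zf51)) (@D3.rec (fun _ => Pt) (kf xf27 yf34 zf44) (kf xf27 yf52 zf14) (kf xf28 yf9 zf33) (kf xf32 yf6 zf44) (kf xf32 yf7 zf48) (kf xf27 yf33 zf4)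 (kf xf27 yf33 zf6) (kf xf31 yf30 zf23) (kf xf32 yf7 zf18) (kf xf29 yf27 zf43) (kf xf27 yf33 zf15) (kf xf31 yf27 zf48) (kf xf32 yf31 zf33) (kf xf28 yf31 zf52) (kf xf28 yf9 zf32) (kf xf27 yf33 zf22) (kf xf32 yf26 zf49) (kf xf32 yf26 zf52) (kf xf32 yf55 zf60) (kf xf32 yf26 zf50) (kf xf32 yf24 zf40) (kf xf32 yf26 zf56) (kf xf32 yf26 zf57) (kf xf32 yf26 zf54) (kf xf32 yf26 zf58) (kf xf27 yf37 zf56) (kf xf32 yf43 zf7) (kf xf32 yf27 zf1) (kf xf32 yf7 zf4) (kf xf32 yf25 zf32) (kf xf32 yf29 zf27) (kf xf32 yf25 zf34) (kf xf27 yf33 zf49) (kf xf28 yf5 zf33) (kf xf32 yf25 zf57) (kf xf32 yf25 zf41) (kf xf28 yf9 zf25) (kf xf32 yf30 zf19) (kf xf27 yf34 zf54) (kf xf32 yf28 zf35) (kf xf31 yf44 zf32) (kf xf32 yf25 zf59) (kf xf32 yf29 zf14) (kf xf28 yf36 zf9) (kf xf28 yf16 zf54) (kf xf32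 yf27 zf48) (kf xf30 yf41 zf32) (kf xf29 yf10 zf54) (kf xf27 yf35 zf11) (kf xf32 yf26 zf16) (kf xf32 yf26 zf19) (kf xf32 yf55 zf37) (kf xf32 yf26 zf17) (kf xf32 yf6 zf47) (kf xf32 yf26 zf23) (kf xf32 yf55 zf18) (kf xf32 yf26 zf21) (kf xf32 yf26 zf22) (kf xf32 yf26 zf24) (kf xf31 yf8 zf38) (kf xf31 yf56 zf50) (kf xf29 yf20 zf32)) (@D3.rec (fun _ => Pt) (kf xf29 yf10 zf59) (kf xf32 yf26 zf27) (kf xf27 yf36 zf39) (kf xf31 yf51 zf7) (kf xf28 yf17 zf56) (kf xf32 yf14 zf20) (kf xf30 yf39 zf18) (kf xf29 yf36 zf58) (kf xf31 yf39 zf45) (kf xf29 yf17 zf35) (kf xf32 yf24 zf24) (kf xf32 yf21 zf47) (kf xf32 yf27 zf27) (kf xf31 yf51 zf10) (kf xf31 yf52 zf4) (kf xf31 yf21 zf25) (kf xf27 yf37 zf3) (kf xf31 yf40 zf33) (kf xf27 yf37 zf4) (kf xf31 yf51 zf61) (kf xf27 yf37 zf7) (kf xf32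 yf59 zf18) (kf xf31 yf41 zf31) (kf xf32 yf59 zf15) (kf xf28 yf53 zf51) (kf xf31 yf27 zf38) (kf xf27 yf43 zf23) (kf xf32 yf27 zf12) (kf xf31 yf46 zf9) (kf xf28 yf38 zf21) (kf xf32 yf7 zf12) (kf xf27 yf39 zf41) (kf xf29 yf16 zf10) (kf xf27 yf39 zf49) (kf xf31 yf16 zf29) (kf xf32 yf6 zf56) (kf xf32 yf6 zf51) (kf xf30 yf34 zf51) (kf xf32 yf10 zf24) (kf xf30 yf3 zf9) (kf xf31 yf0 zf23) (kf xf28 yf36 zf23) (kf xf32 yf49 zf15) (kf xf31 yf11 zf56) (kf xf29 yf26 zf55) (kf xf30 yf41 zf24) (kf xf32 yf29 zf7) (kf xf29 yf26 zf51) (kf xf32 yf26 zf45) (kf xf31 yf38 zf2) (kf xf32 yf55 zf26) (kf xf32 yf30 zf41) (kf xf27 yf41 zf28) (kf xf30 yf24 zf28) (kf xf32 yf8 zf26) (kf xf31 yf25 zf44) (kf xf27 yf41 zf52) (kf xf32 yf8 zf38) (kf xf30 yf55 zf9) (kf xf32 yf38 zf12) (kf xf32 yf48 zf52)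 (kf xf29 yf30 zf53)) (@D3.rec (fun _ => Pt) (kf xf32 yf55 zf28) (kf xf32 yf55 zf32) (kf xf32 yf34 zf35) (kf xf28 yf11 zf43) (kf xf31 yf43 zf40) (kf xf28 yf38 zf16) (kf xf30 yf47 zf44) (kf xf29 yf53 zf28) (kf xf32 yf1 zf40) (kf xf28 yf43 zf41) (kf xf28 yf43 zf49) (kf xf31 yf45 zf5) (kf xf28 yf43 zf53) (kf xf28 yf41 zf7) (kf xf28 yf41 zf18) (kf xf27 yf44 zf39) (kf xf31 yf7 zf53) (kf xf29 yf9 zf61) (kf xf31 yf12 zf12) (kf xf27 yf44 zf57) (kf xf28 yf7 zf46) (kf xf32 yf31 zf20) (kf xf32 yf31 zf17) (kf xf32 yf31 zf18) (kf xf32 yf6 zf28) (kf xf27 yf46 zf25) (kf xf29 yf22 zf17) (kf xf28 yf35 zf41) (kf xf28 yf59 zf13) (kf xf31 yf6 zf10) (kf xf32 yf25 zf25) (kf xf32 yf6 zf36) (kf xf31 yf15 zf23) (kf xf28 yf7 zf32) (kf xf32 yf31 zf21) (kf xf32 yf26 zf39) (kf xf29 yf39 zf17) (kf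 xf31 yf8 zf19) (kf xf31 yf8 zf20) (kf xf28 yf31 zf48) (kf xf32 yf7 zf46) (kf xf27 yf49 zf12) (kf xf32 yf31 zf42) (kf xf32 yf23 zf15) (kf xf32 yf29 zf60) (kf xf27 yf49 zf28) (kf xf31 yf25 zf17) (kf xf27 yf49 zf27) (kf xf32 yf46 zf34) (kf xf31 yf14 zf52) (kf xf28 yf31 zf58) (kf xf32 yf38 zf17) (kf xf32 yf36 zf46) (kf xf30 yf24 zf46) (kf xf32 yf29 zf56) (kf xf32 yf29 zf59) (kf xf32 yf36 zf47) (kf xf32 yf29 zf46) (kf xf32 yf54 zf2) (kf xf27 yf49 zf57) (kf xf27 yf51 zf43) (kf xf32 yf19 zf57)) (@D3.rec (fun _ => Pt) (kf xf32 yf30 zf22) (kf xf32 yf7 zf27) (kf xf32 yf49 zf52) (kf xf28 yf8 zf40) (kf xf31 yf14 zf40) (kf xf32 yf32 zf3) (kf xf29 yf51 zf56) (kf xf32 yf27 zf46) (kf xf32 yf30 zf31) (kf xf27 yf52 zf44) (kf xf32 yf54 zf30) (kf xf28 yf21 zf32) (kf xf31 yf14 zf42) (kf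 xf32 yf3 zf51) (kf xf32 yf26 zf42) (kf xf31 yf39 zf31) (kf xf31 yf4 zf47) (kf xf28 yf36 zf31) (kf xf28 yf36 zf22) (kf xf28 yf47 zf13) (kf xf28 yf30 zf55) (kf xf32 yf30 zf18) (kf xf32 yf31 zf36) (kf xf30 yf48 zf13) (kf xf27 yf52 zf54) (kf xf28 yf23 zf20) (kf xf31 yf13 zf26) (kf xf32 yf26 zf30) (kf xf27 yf53 zf4) (kf xf31 yf14 zf23) (kf xf29 yf53 zf45) (kf xf32 yf9 zf42) (kf xf32 yf23 zf16) (kf xf28 yf9 zf1) (kf xf27 yf52 zf13) (kf xf27 yf52 zf12) (kf xf27 yf52 zf11) (kf xf30 yf44 zf30) (kf xf30 yf44 zf29) (kf xf32 yf54 zf19) (kf xf27 yf52 zf18) (kf xf31 yf1 zf22) (kf xf30 yf44 zf61) (kf xf28 yf32 zf1) (kf xf28 yf31 zf61) (kf xf32 yf17 zf15) (kf xf32 yf28 zf57) (kf xf30 yf44 zf58) (kf xf32 yf17 zf14) (kf xf28 yf8 zf37) (kf xf27 yf52 zf59) (kf xf32 yf44 zf13) (kf xf31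 yf16 zf23) (kf xf32 yf25 zf35) (kf xf31 yf16 zf22) (kf xf32 yf10 zf14) (kf xf32 yf28 zf54) (kf xf31 yf25 zf21) (kf xf32 yf36 zf44) (kf xf32 yf28 zf55) (kf xf32 yf28 zf44) (kf xf32 yf22 zf50)) (@D3.rec (fun _ => Pt) (kf xf31 yf15 zf3) (kf xf29 yf20 zf58) (kf xf32 yf18 zf49) (kf xf32 yf58 zf49) (kf xf32 yf51 zf39) (kf xf28 yf46 zf2) (kf xf32 yf32 zf12) (kf xf32 yf32 zf13) (kf xf32 yf32 zf14) (kf xf29 yf24 zf60) (kf xf31 yf36 zf38) (kf xf31 yf14 zf60) (kf xf31 yf59 zf13) (kf xf28 yf23 zf35) (kf xf27 yf55 zf6) (kf xf27 yf54 zf57) (kf xf27 yf54 zf55) (kf xf27 yf54 zf56) (kf xf32 yf29 zf21) (kf xf32 yf26 zf37) (kf xf30 yf24 zf47) (kf xf32 yf23 zf14) (kf xf32 yf29 zf0) (kf xf30 yf5 zf0) (kf xf31 yf1 zf61) (kf xf28 yf16 zf50) (kf xf28 yf9 zf8) (kf xf30 yf48 zf5) (kf xf32 yf25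 zf51) (kf xf30 yf40 zf11) (kf xf32 yf32 zf29) (kf xf32 yf29 zf8) (kf xf32 yf43 zf4) (kf xf32 yf56 zf56) (kf xf32 yf56 zf20) (kf xf27 yf56 zf32) (kf xf32 yf25 zf39) (kf xf30 yf5 zf3) (kf xf32 yf16 zf8) (kf xf29 yf10 zf56) (kf xf29 yf10 zf37) (kf xf32 yf27 zf51) (kf xf30 yf52 zf37) (kf xf27 yf58 zf0) (kf xf32 yf32 zf39) (kf xf30 yf0 zf22) (kf xf32 yf32 zf40) (kf xf30 yf52 zf44) (kf xf31 yf23 zf34) (kf xf28 yf36 zf1) (kf xf30 yf30 zf42) (kf xf32 yf51 zf18) (kf xf32 yf32 zf36) (kf xf29 yf26 zf8) (kf xf29 yf42 zf37) (kf xf32 yf9 zf3) (kf xf28 yf0 zf10) (kf xf28 yf0 zf20) (kf xf32 yf10 zf57) (kf xf28 yf29 zf7) (kf xf28 yf30 zf50) (kf xf31 yf20 zf54)) (@D3.rec (fun _ => Pt) (kf xf28 yf1 zf53) (kf xf28 yf3 zf59) (kf xf32 yf31 zf13) (kf xf30 yf37 zf39) (kf xf31 yf11 zf45) (kf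 xf31 yf34 zf5) (kf xf30 yf59 zf9) (kf xf31 yf14 zf41) (kf xf32 yf24 zf11) (kf xf28 yf46 zf4) (kf xf30 yf43 zf1) (kf xf28 yf16 zf46) (kf xf32 yf20 zf37) (kf xf32 yf31 zf2) (kf xf31 yf0 zf1) (kf xf31 yf0 zf0) (kf xf31 yf45 zf15) (kf xf32 yf28 zf22) (kf xf32 yf28 zf23) (kf xf32 yf43 zf48) (kf xf32 yf28 zf21) (kf xf32 yf28 zf34) (kf xf31 yf45 zf14) (kf xf32 yf43 zf52) (kf xf28 yf23 zf38) (kf xf32 yf54 zf29) (kf xf32 yf38 zf19) (kf xf32 yf25 zf4) (kf xf32 yf55 zf57) (kf xf31 yf11 zf41) (kf xf32 yf25 zf49) (kf xf31 yf16 zf58) (kf xf32 yf58 zf46) (kf xf32 yf26 zf12) (kf xf31 yf57 zf46) (kf xf28 yf4 zf38) (kf xf32 yf29 zf22) (kf xf28 yf20 zf53) (kf xf32 yf56 zf1) (kf xf31 yf23 zf31) (kf xf32 yf7 zf54) (kf xf31 yf42 zf55) (kf xf32 yf28 zf42) (kf xf32 yf53 zf33) (kf xf32 yf6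 zf34) (kf xf32 yf7 zf21) (kf xf32 yf6 zf59) (kf xf28 yf16 zf58) (kf xf28 yf5 zf47) (kf xf32 yf58 zf32) (kf xf28 yf36 zf15) (kf xf28 yf36 zf16) (kf xf28 yf36 zf13) (kf xf28 yf36 zf19) (kf xf28 yf36 zf18) (kf xf28 yf5 zf50) (kf xf31 yf30 zf8) (kf xf28 yf32 zf57) (kf xf28 yf36 zf6) (kf xf28 yf36 zf4) (kf xf28 yf6 zf22) (kf xf32 yf32 zf21)) (@D3.rec (fun _ => Pt) (kf xf31 yf42 zf32) (kf xf32 yf53 zf30) (kf xf31 yf14 zf61) (kf xf32 yf29 zf5) (kf xf30 yf50 zf10) (kf xf32 yf54 zf20) (kf xf28 yf8 zf52) (kf xf32 yf4 zf28) (kf xf31 yf50 zf54) (kf xf32 yf32 zf15) (kf xf31 yf8 zf36) (kf xf32 yf52 zf60) (kf xf32 yf30 zf6) (kf xf32 yf30 zf7) (kf xf32 yf30 zf8) (kf xf32 yf32 zf9) (kf xf28 yf8 zf42) (kf xf29 yf7 zf48) (kf xf31 yf16 zf42) (kf xf31 yf10 zf38) (kf xf29 yf51 zf10) (kf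 xf32 yf31 zf61) (kf xf28 yf46 zf32) (kf xf31 yf32 zf44) (kf xf30 yf58 zf41) (kf xf30 yf58 zf42) (kf xf31 yf45 zf16) (kf xf31 yf45 zf17) (kf xf32 yf38 zf38) (kf xf32 yf30 zf30) (kf xf29 yf10 zf45) (kf xf31 yf14 zf58) (kf xf31 yf7 zf50) (kf xf28 yf10 zf36) (kf xf29 yf59 zf30) (kf xf29 yf1 zf28) (kf xf32 yf30 zf52) (kf xf30 yf29 zf3) (kf xf30 yf27 zf17) (kf xf32 yf30 zf44) (kf xf32 yf30 zf46) (kf xf32 yf15 zf57) (kf xf32 yf16 zf0) (kf xf32 yf35 zf1) (kf xf30 yf4 zf51) (kf xf29 yf11 zf53) (kf xf30 yf3 zf12) (kf xf32 yf23 zf41) (kf xf32 yf4 zf59) (kf xf32 yf44 zf39) (kf xf32 yf5 zf7) (kf xf30 yf15 zf13) (kf xf28 yf20 zf21) (kf xf32 yf1 zf53) (kf xf28 yf46 zf7) (kf xf30 yf56 zf47) (kf xf31 yf38 zf9) (kf xf32 yf20 zf49) (kf xf31 yf51 zf33) (kf xf32 yf58 zf31) (kf xf28 yf14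 zf44) (kf xf32 yf56 zf5)) (@D3.rec (fun _ => Pt) (kf xf28 yf46 zf31) (kf xf32 yf58 zf35) (kf xf28 yf56 zf1) (kf xf32 yf51 zf41) (kf xf31 yf26 zf7) (kf xf29 yf2 zf27) (kf xf32 yf25 zf46) (kf xf29 yf5 zf32) (kf xf32 yf34 zf0) (kf xf32 yf34 zf1) (kf xf32 yf34 zf2) (kf xf29 yf46 zf15) (kf xf29 yf8 zf20) (kf xf30 yf18 zf36) (kf xf30 yf19 zf5) (kf xf32 yf51 zf22) (kf xf32 yf20 zf38) (kf xf32 yf16 zf41) (kf xf32 yf21 zf25) (kf xf32 yf51 zf27) (kf xf32 yf41 zf51) (kf xf30 yf38 zf57) (kf xf31 yf17 zf27) (kf xf30 yf22 zf58) (kf xf32 yf35 zf40) (kf xf28 yf17 zf53) (kf xf28 yf47 zf12) (kf xf28 yf40 zf3) (kf xf31 yf31 zf14) (kf xf32 yf34 zf25) (kf xf29 yf45 zf30) (kf xf32 yf11 zf34) (kf xf29 yf45 zf51) (kf xf32 yf14 zf18) (kf xf32 yf18 zf25) (kf xf30 yf28 zf61) (kf xf28 yf39 zf23)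 (kf xf31 yf52 zf59) (kf xf29 yf45 zf59) (kf xf28 yf33 zf3) (kf xf32 yf53 zf46) (kf xf31 yf45 zf51) (kf xf28 yf38 zf24) (kf xf28 yf21 zf49) (kf xf31 yf38 zf48) (kf xf29 yf42 zf47) (kf xf30 yf33 zf6) (kf xf30 yf53 zf52) (kf xf30 yf46 zf20) (kf xf28 yf37 zf57) (kf xf32 yf44 zf18) (kf xf32 yf42 zf13) (kf xf29 yf41 zf44) (kf xf30 yf43 zf11) (kf xf28 yf33 zf29) (kf xf31 yf22 zf52) (kf xf28 yf38 zf12) (kf xf28 yf21 zf37) (kf xf30 yf21 zf60) (kf xf28 yf21 zf38) (kf xf31 yf51 zf25) (kf xf31 yf26 zf24)) (@D3.rec (fun _ => Pt) (kf xf32 yf33 zf8) (kf xf32 yf33 zf9) (kf xf32 yf33 zf10) (kf xf31 yf25 zf40) (kf xf32 yf9 zf24) (kf xf31 yf27 zf6) (kf xf32 yf54 zf53) (kf xf30 yf51 zf5) (kf xf28 yf22 zf25) (kf xf28 yf22 zf28) (kf xf32 yf8 zf45) (kf xf31 yf16 zf52) (kf xf30 yf53 zf4) (kf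 xf28 yf22 zf56) (kf xf30 yf29 zf52) (kf xf30 yf29 zf31) (kf xf31 yf16 zf10) (kf xf32 yf2 zf23) (kf xf28 yf35 zf20) (kf xf31 yf15 zf53) (kf xf30 yf18 zf49) (kf xf31 yf30 zf30) (kf xf31 yf47 zf36) (kf xf31 yf35 zf2) (kf xf32 yf51 zf2) (kf xf32 yf33 zf29) (kf xf32 yf11 zf56) (kf xf31 yf31 zf11) (kf xf28 yf40 zf17) (kf xf30 yf21 zf15) (kf xf31 yf56 zf52) (kf xf31 yf16 zf14) (kf xf28 yf24 zf50) (kf xf31 yf52 zf41) (kf xf32 yf15 zf41) (kf xf32 yf28 zf2) (kf xf29 yf43 zf6) (kf xf28 yf25 zf16) (kf xf32 yf42 zf36) (kf xf31 yf16 zf27) (kf xf31 yf16 zf26) (kf xf28 yf25 zf24) (kf xf29 yf42 zf3) (kf xf28 yf25 zf25) (kf xf32 yf0 zf26) (kf xf30 yf35 zf27) (kf xf28 yf25 zf43) (kf xf32 yf22 zf5) (kf xf28 yf37 zf56) (kf xf32 yf16 zf32) (kf xf30 yf39 zf14) (kf xf32 yf7 zf11) (kf xf31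 yf38 zf57) (kf xf28 yf27 zf12) (kf xf32 yf51 zf36) (kf xf32 yf34 zf61) (kf xf32 yf49 zf53) (kf xf29 yf45 zf39) (kf xf32 yf7 zf22) (kf xf29 yf14 zf50) (kf xf32 yf46 zf20) (kf xf32 yf34 zf55)) (@D3.rec (fun _ => Pt) (kf xf32 yf53 zf36) (kf xf32 yf32 zf43) (kf xf32 yf59 zf20) (kf xf28 yf33 zf52) (kf xf28 yf33 zf48) (kf xf28 yf30 zf47) (kf xf28 yf33 zf50) (kf xf28 yf36 zf25) (kf xf32 yf36 zf45) (kf xf28 yf34 zf58) (kf xf28 yf45 zf33) (kf xf28 yf45 zf34) (kf xf32 yf9 zf38) (kf xf28 yf34 zf33) (kf xf28 yf35 zf13) (kf xf32 yf37 zf44) (kf xf28 yf29 zf20) (kf xf28 yf40 zf24) (kf xf28 yf36 zf26) (kf xf32 yf56 zf60) (kf xf30 yf21 zf26) (kf xf30 yf19 zf18) (kf xf32 yf17 zf50) (kf xf28 yf41 zf38) (kf xf28 yf41 zf44) (kf xf32 yf18 zf52) (kf xf28 yf39 zf26) (kf xf28 yf39 zf29) (kf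 xf28 yf39 zf39) (kf xf28 yf39 zf40) (kf xf28 yf39 zf43) (kf xf28 yf39 zf48) (kf xf28 yf40 zf9) (kf xf28 yf42 zf14) (kf xf31 yf17 zf37) (kf xf28 yf42 zf11) (kf xf28 yf42 zf26) (kf xf28 yf44 zf6) (kf xf28 yf43 zf1) (kf xf28 yf43 zf3) (kf xf32 yf33 zf24) (kf xf28 yf30 zf53) (kf xf32 yf47 zf60) (kf xf28 yf47 zf19) (kf xf31 yf37 zf55) (kf xf32 yf25 zf48) (kf xf28 yf51 zf34) (kf xf29 yf38 zf38) (kf xf31 yf25 zf8) (kf xf31 yf3 zf38) (kf xf29 yf1 zf42) (kf xf32 yf15 zf21) (kf xf30 yf31 zf33) (kf xf31 yf23 zf13) (kf xf32 yf21 zf33) (kf xf28 yf45 zf30) (kf xf32 yf38 zf43) (kf xf28 yf38 zf25) (kf xf28 yf38 zf37) (kf xf28 yf38 zf38) (kf xf28 yf38 zf39) (kf xf30 yf21 zf37)) (@D3.rec (fun _ => Pt) (kf xf31 yf40 zf15) (kf xf32 yf18 zf45) (kf xf32 yf46 zf21) (kf xf28 yf49 zf58) (kf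 xf31 yf19 zf4) (kf xf32 yf15 zf27) (kf xf29 yf45 zf6) (kf xf32 yf36 zf18) (kf xf32 yf58 zf58) (kf xf32 yf41 zf44) (kf xf28 yf35 zf9) (kf xf28 yf49 zf59) (kf xf28 yf35 zf0) (kf xf32 yf11 zf59) (kf xf28 yf40 zf25) (kf xf32 yf45 zf47) (kf xf32 yf54 zf25) (kf xf32 yf9 zf17) (kf xf32 yf36 zf7) (kf xf32 yf45 zf31) (kf xf28 yf35 zf15) (kf xf28 yf35 zf17) (kf xf32 yf56 zf38) (kf xf32 yf37 zf30) (kf xf32 yf57 zf20) (kf xf30 yf49 zf35) (kf xf28 yf35 zf55) (kf xf31 yf22 zf48) (kf xf28 yf53 zf19) (kf xf31 yf15 zf44) (kf xf32 yf44 zf0) (kf xf30 yf22 zf14) (kf xf31 yf25 zf37) (kf xf28 yf36 zf41) (kf xf29 yf36 zf7) (kf xf31 yf51 zf56) (kf xf31 yf29 zf2) (kf xf32 yf43 zf31) (kf xf31 yf56 zf61) (kf xf31 yf57 zf0) (kf xf28 yf37 zf2) (kf xf28 yf51 zf25) (kf xf32 yf12 zf60) (kf xf31 yf52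 zf29) (kf xf32 yf29 zf58) (kf xf32 yf35 zf8) (kf xf32 yf28 zf52) (kf xf32 yf28 zf56) (kf xf28 yf37 zf27) (kf xf31 yf31 zf28) (kf xf30 yf34 zf22) (kf xf32 yf38 zf44) (kf xf31 yf13 zf32) (kf xf32 yf38 zf53) (kf xf32 yf12 zf29) (kf xf28 yf38 zf8) (kf xf31 yf49 zf44) (kf xf29 yf16 zf3) (kf xf32 yf38 zf15) (kf xf28 yf38 zf28) (kf xf32 yf21 zf13) (kf xf32 yf15 zf3)) (@D3.rec (fun _ => Pt) (kf xf29 yf29 zf32) (kf xf32 yf47 zf4) (kf xf29 yf8 zf46) (kf xf32 yf39 zf34) (kf xf32 yf40 zf59) (kf xf29 yf36 zf44) (kf xf30 yf35 zf8) (kf xf32 yf39 zf38) (kf xf32 yf42 zf46) (kf xf30 yf21 zf41) (kf xf32 yf46 zf18) (kf xf31 yf13 zf8) (kf xf28 yf38 zf46) (kf xf31 yf41 zf36) (kf xf32 yf48 zf40) (kf xf32 yf11 zf44) (kf xf30 yf15 zf15) (kf xf32 yf43 zf20) (kf xf32 yf41 zf53) (kf xf32 yf15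 zf49) (kf xf32 yf12 zf28) (kf xf31 yf42 zf5) (kf xf32 yf59 zf24) (kf xf32 yf59 zf25) (kf xf32 yf12 zf19) (kf xf32 yf19 zf19) (kf xf32 yf59 zf26) (kf xf30 yf15 zf40) (kf xf32 yf18 zf35) (kf xf32 yf52 zf44) (kf xf32 yf36 zf23) (kf xf32 yf37 zf40) (kf xf32 yf38 zf30) (kf xf30 yf36 zf29) (kf xf32 yf45 zf7) (kf xf29 yf34 zf30) (kf xf32 yf47 zf43) (kf xf32 yf47 zf44) (kf xf32 yf13 zf32) (kf xf32 yf46 zf41) (kf xf32 yf37 zf31) (kf xf29 yf33 zf9) (kf xf29 yf26 zf10) (kf xf32 yf22 zf30) (kf xf32 yf35 zf15) (kf xf32 yf59 zf7) (kf xf32 yf12 zf18) (kf xf32 yf45 zf30) (kf xf32 yf59 zf27) (kf xf29 yf33 zf11) (kf xf29 yf31 zf22) (kf xf32 yf18 zf58) (kf xf32 yf40 zf21) (kf xf32 yf11 zf54) (kf xf32 yf59 zf29) (kf xf29 yf45 zf52) (kf xf32 yf47 zf39) (kf xf28 yf40 zf35) (kf xf32 yf12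 zf6) (kf xf31 yf52 zf21) (kf xf31 yf52 zf19) (kf xf31 yf52 zf22)) (@D3.rec (fun _ => Pt) (kf xf28 yf40 zf42) (kf xf31 yf31 zf43) (kf xf31 yf31 zf50) (kf xf31 yf19 zf11) (kf xf32 yf5 zf53) (kf xf32 yf5 zf54) (kf xf32 yf5 zf2) (kf xf32 yf49 zf24) (kf xf32 yf56 zf9) (kf xf32 yf5 zf58) (kf xf32 yf5 zf51) (kf xf31 yf55 zf59) (kf xf32 yf27 zf59) (kf xf31 yf10 zf41) (kf xf31 yf27 zf40) (kf xf32 yf36 zf58) (kf xf29 yf7 zf50) (kf xf32 yf28 zf51) (kf xf29 yf35 zf47) (kf xf32 yf31 zf26) (kf xf32 yf52 zf18) (kf xf32 yf59 zf19) (kf xf28 yf43 zf50) (kf xf31 yf28 zf50) (kf xf30 yf38 zf36) (kf xf31 yf24 zf51) (kf xf30 yf17 zf17) (kf xf32 yf13 zf35) (kf xf28 yf44 zf29) (kf xf32 yf13 zf37) (kf xf32 yf37 zf32) (kf xf28 yf44 zf39) (kf xf31 yf29 zf45) (kf xf28 yf45 zf16) (kf xf31 yf28 zf21)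 (kf xf30 yf16 zf39) (kf xf31 yf51 zf31) (kf xf28 yf45 zf36) (kf xf32 yf32 zf28) (kf xf29 yf48 zf8) (kf xf32 yf13 zf53) (kf xf30 yf39 zf38) (kf xf32 yf8 zf9) (kf xf32 yf35 zf56) (kf xf32 yf36 zf51) (kf xf28 yf46 zf55) (kf xf32 yf15 zf9) (kf xf29 yf16 zf41) (kf xf31 yf33 zf43) (kf xf31 yf25 zf31) (kf xf31 yf25 zf30) (kf xf32 yf48 zf39) (kf xf32 yf54 zf22) (kf xf32 yf36 zf53) (kf xf28 yf58 zf9) (kf xf29 yf0 zf21) (kf xf32 yf18 zf37) (kf xf32 yf10 zf42) (kf xf32 yf58 zf40) (kf xf32 yf10 zf44) (kf xf32 yf15 zf10) (kf xf30 yf15 zf56)) (@D3.rec (fun _ => Pt) (kf xf32 yf56 zf30) (kf xf32 yf56 zf25) (kf xf28 yf49 zf1) (kf xf31 yf51 zf19) (kf xf29 yf13 zf35) (kf xf31 yf51 zf45) (kf xf31 yf55 zf43) (kf xf28 yf55 zf20) (kf xf28 yf55 zf22) (kf xf32 yf9 zf2) (kf xf31 yf5 zf5) (kf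 xf31 yf34 zf35) (kf xf32 yf43 zf42) (kf xf28 yf49 zf51) (kf xf28 yf55 zf11) (kf xf32 yf13 zf3) (kf xf28 yf52 zf28) (kf xf31 yf21 zf54) (kf xf28 yf50 zf34) (kf xf32 yf58 zf11) (kf xf31 yf22 zf5) (kf xf28 yf52 zf52) (kf xf32 yf52 zf56) (kf xf28 yf50 zf45) (kf xf30 yf48 zf36) (kf xf30 yf46 zf39) (kf xf29 yf31 zf34) (kf xf32 yf41 zf46) (kf xf32 yf47 zf54) (kf xf32 yf45 zf44) (kf xf29 yf46 zf21) (kf xf32 yf11 zf58) (kf xf28 yf51 zf21) (kf xf30 yf27 zf11) (kf xf32 yf37 zf3) (kf xf32 yf56 zf47) (kf xf28 yf51 zf49) (kf xf28 yf51 zf41) (kf xf32 yf37 zf7) (kf xf31 yf51 zf13) (kf xf32 yf52 zf3) (kf xf32 yf9 zf9) (kf xf32 yf20 zf30) (kf xf32 yf53 zf53) (kf xf32 yf59 zf35) (kf xf28 yf51 zf59) (kf xf30 yf19 zf3) (kf xf32 yf58 zf10) (kf xf30 yf29 zf45) (kf xf28 yf52 zf15) (kf xf29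 yf40 zf14) (kf xf32 yf18 zf36) (kf xf32 yf48 zf1) (kf xf30 yf30 zf2) (kf xf28 yf52 zf39) (kf xf31 yf27 zf28) (kf xf32 yf1 zf1) (kf xf30 yf22 zf13) (kf xf30 yf35 zf5) (kf xf32 yf20 zf32) (kf xf30 yf28 zf8) (kf xf30 yf30 zf1)) (@D3.rec (fun _ => Pt) (kf xf32 yf57 zf12) (kf xf32 yf50 zf27) (kf xf32 yf52 zf12) (kf xf28 yf53 zf21) (kf xf31 yf24 zf6) (kf xf28 yf53 zf26) (kf xf29 yf36 zf31) (kf xf30 yf45 zf4) (kf xf28 yf53 zf30) (kf xf30 yf50 zf13) (kf xf32 yf53 zf7) (kf xf32 yf14 zf29) (kf xf32 yf44 zf34) (kf xf28 yf54 zf24) (kf xf29 yf47 zf23) (kf xf28 yf54 zf20) (kf xf30 yf28 zf46) (kf xf29 yf46 zf57) (kf xf29 yf47 zf0) (kf xf32 yf52 zf34) (kf xf32 yf10 zf37) (kf xf32 yf37 zf52) (kf xf29 yf46 zf7) (kf xf28 yf54 zf46) (kf xf32 yf13 zf25) (kf xf31 yf29 zf16) (kf xf32 yf45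 zf50) (kf xf31 yf52 zf58) (kf xf32 yf12 zf25) (kf xf28 yf54 zf51) (kf xf31 yf48 zf7) (kf xf31 yf53 zf17) (kf xf28 yf55 zf8) (kf xf30 yf34 zf21) (kf xf28 yf55 zf21) (kf xf32 yf9 zf6) (kf xf28 yf55 zf32) (kf xf28 yf55 zf30) (kf xf28 yf55 zf17) (kf xf32 yf43 zf22) (kf xf32 yf56 zf33) (kf xf32 yf8 zf54) (kf xf31 yf56 zf56) (kf xf32 yf51 zf45) (kf xf32 yf52 zf0) (kf xf31 yf52 zf38) (kf xf31 yf52 zf44) (kf xf32 yf56 zf45) (kf xf30 yf39 zf49) (kf xf28 yf55 zf24) (kf xf32 yf57 zf43) (kf xf29 yf17 zf36) (kf xf31 yf40 zf26) (kf xf29 yf11 zf17) (kf xf32 yf58 zf14) (kf xf29 yf32 zf18) (kf xf32 yf59 zf0) (kf xf32 yf19 zf20) (kf xf28 yf55 zf44) (kf xf32 yf37 zf4) (kf xf29 yf7 zf33) (kf xf32 yf42 zf44)) (@D3.rec (fun _ => Pt) (kf xf31 yf15 zf12) (kf xf32 yf19 zf15) (kf xf30 yf31 zf1)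 (kf xf32 yf11 zf16) (kf xf31 yf55 zf47) (kf xf32 yf51 zf3) (kf xf29 yf46 zf50) (kf xf28 yf56 zf33) (kf xf29 yf46 zf47) (kf xf31 yf30 zf59) (kf xf29 yf46 zf54) (kf xf30 yf15 zf29) (kf xf28 yf56 zf41) (kf xf32 yf0 zf21) (kf xf30 yf55 zf18) (kf xf30 yf53 zf48) (kf xf28 yf57 zf9) (kf xf31 yf20 zf55) (kf xf32 yf0 zf43) (kf xf28 yf59 zf41) (kf xf31 yf47 zf47) (kf xf32 yf22 zf32) (kf xf31 yf1 zf5) (kf xf30 yf23 zf51) (kf xf29 yf41 zf23) (kf xf28 yf58 zf57) (kf xf31 yf31 zf29) (kf xf32 yf55 zf52) (kf xf29 yf56 zf15) (kf xf31 yf55 zf16) (kf xf32 yf44 zf53) (kf xf32 yf58 zf8) (kf xf32 yf58 zf30) (kf xf31 yf18 zf56) (kf xf31 yf32 zf10) (kf xf29 yf36 zf8) (kf xf32 yf57 zf51) (kf xf31 yf48 zf60) (kf xf31 yf28 zf31) (kf xf29 yf8 zf54) (kf xf32 yf23 zf20) (kf xf32 yf45 zf0) (kf xf32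 yf10 zf19) (kf xf32 yf14 zf61) (kf xf32 yf36 zf9) (kf xf30 yf14 zf53) (kf xf32 yf39 zf27) (kf xf32 yf19 zf16) (kf xf32 yf59 zf38) (kf xf29 yf2 zf8) (kf xf30 yf27 zf7) (kf xf32 yf33 zf20) (kf xf29 yf2 zf39) (kf xf32 yf37 zf18) (kf xf32 yf56 zf35) (kf xf29 yf3 zf20) (kf xf30 yf11 zf21) (kf xf32 yf1 zf25) (kf xf29 yf5 zf3) (kf xf29 yf5 zf14) (kf xf31 yf9 zf9) (kf xf32 yf46 zf58)) (@D3.rec (fun _ => Pt) (kf xf29 yf4 zf5) (kf xf29 yf4 zf27) (kf xf32 yf2 zf56) (kf xf32 yf44 zf52) (kf xf32 yf46 zf57) (kf xf32 yf24 zf31) (kf xf31 yf30 zf4) (kf xf31 yf30 zf21) (kf xf32 yf49 zf25) (kf xf32 yf57 zf5) (kf xf30 yf11 zf26) (kf xf31 yf5 zf45) (kf xf31 yf35 zf42) (kf xf32 yf33 zf51) (kf xf29 yf6 zf59) (kf xf32 yf6 zf7) (kf xf31 yf46 zf14) (kf xf31 yf55 zf2) (kf xf31 yf48 zf48) (kf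 xf29 yf4 zf49) (kf xf32 yf56 zf58) (kf xf32 yf43 zf46) (kf xf32 yf2 zf35) (kf xf29 yf5 zf9) (kf xf32 yf49 zf37) (kf xf32 yf57 zf55) (kf xf32 yf1 zf39) (kf xf30 yf9 zf55) (kf xf32 yf55 zf23) (kf xf30 yf35 zf60) (kf xf31 yf58 zf49) (kf xf29 yf56 zf59) (kf xf31 yf47 zf42) (kf xf31 yf57 zf5) (kf xf31 yf3 zf34) (kf xf31 yf54 zf48) (kf xf32 yf34 zf38) (kf xf32 yf44 zf50) (kf xf32 yf53 zf38) (kf xf30 yf21 zf7) (kf xf29 yf8 zf30) (kf xf30 yf39 zf17) (kf xf32 yf44 zf61) (kf xf31 yf22 zf42) (kf xf32 yf40 zf61) (kf xf31 yf24 zf7) (kf xf32 yf37 zf8) (kf xf29 yf29 zf56) (kf xf30 yf49 zf26) (kf xf29 yf8 zf43) (kf xf32 yf21 zf19) (kf xf32 yf19 zf6) (kf xf30 yf28 zf47) (kf xf30 yf54 zf57) (kf xf29 yf9 zf53) (kf xf29 yf10 zf3) (kf xf29 yf13 zf49) (kf xf30 yf42 zf21) (kf xf32 yf49 zf47)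 (kf xf30 yf7 zf59) (kf xf29 yf12 zf0) (kf xf32 yf54 zf9)) (@D3.rec (fun _ => Pt) (kf xf31 yf20 zf17) (kf xf29 yf10 zf35) (kf xf30 yf30 zf58) (kf xf30 yf28 zf11) (kf xf32 yf30 zf32) (kf xf29 yf10 zf58) (kf xf32 yf50 zf51) (kf xf32 yf26 zf26) (kf xf29 yf10 zf51) (kf xf31 yf8 zf37) (kf xf32 yf57 zf6) (kf xf32 yf55 zf19) (kf xf32 yf56 zf36) (kf xf32 yf56 zf34) (kf xf31 yf40 zf3) (kf xf32 yf54 zf6) (kf xf29 yf11 zf34) (kf xf32 yf23 zf48) (kf xf32 yf6 zf32) (kf xf29 yf12 zf22) (kf xf32 yf37 zf17) (kf xf29 yf13 zf34) (kf xf32 yf40 zf39) (kf xf31 yf41 zf2) (kf xf29 yf13 zf18) (kf xf32 yf58 zf51) (kf xf29 yf13 zf47) (kf xf31 yf4 zf16) (kf xf32 yf18 zf3) (kf xf32 yf17 zf44) (kf xf32 yf18 zf0) (kf xf32 yf36 zf37) (kf xf30 yf19 zf6) (kf xf32 yf59 zf41) (kf xf32 yf17 zf60) (kf xf32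 yf56 zf39) (kf xf29 yf14 zf23) (kf xf32 yf56 zf41) (kf xf30 yf52 zf26) (kf xf32 yf18 zf43) (kf xf32 yf1 zf4) (kf xf31 yf18 zf49) (kf xf32 yf39 zf12) (kf xf29 yf15 zf17) (kf xf32 yf46 zf55) (kf xf31 yf10 zf48) (kf xf32 yf42 zf21) (kf xf32 yf58 zf53) (kf xf32 yf31 zf19) (kf xf29 yf15 zf59) (kf xf31 yf49 zf45) (kf xf32 yf1 zf21) (kf xf32 yf31 zf23) (kf xf32 yf57 zf59) (kf xf29 yf16 zf40) (kf xf32 yf47 zf8) (kf xf31 yf5 zf37) (kf xf31 yf4 zf21) (kf xf30 yf21 zf25) (kf xf31 yf28 zf19) (kf xf32 yf18 zf32) (kf xf30 yf46 zf38)) (@D3.rec (fun _ => Pt) (kf xf32 yf36 zf30) (kf xf30 yf24 zf22) (kf xf31 yf33 zf18) (kf xf31 yf42 zf56) (kf xf32 yf7 zf55) (kf xf31 yf14 zf56) (kf xf32 yf48 zf19) (kf xf32 yf46 zf53) (kf xf29 yf21 zf21) (kf xf30 yf29 zf51) (kf xf32 yf19 zf4) (kf xf32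 yf44 zf21) (kf xf32 yf44 zf22) (kf xf32 yf29 zf51) (kf xf32 yf1 zf41) (kf xf30 yf42 zf10) (kf xf30 yf3 zf61) (kf xf31 yf53 zf16) (kf xf32 yf33 zf50) (kf xf32 yf1 zf31) (kf xf32 yf55 zf2) (kf xf32 yf44 zf11) (kf xf32 yf44 zf12) (kf xf29 yf24 zf24) (kf xf30 yf24 zf0) (kf xf32 yf2 zf39) (kf xf31 yf43 zf24) (kf xf31 yf43 zf27) (kf xf29 yf25 zf32) (kf xf31 yf26 zf57) (kf xf29 yf26 zf18) (kf xf30 yf34 zf40) (kf xf32 yf21 zf48) (kf xf29 yf40 zf51) (kf xf32 yf40 zf12) (kf xf32 yf13 zf48) (kf xf29 yf26 zf29) (kf xf32 yf12 zf4) (kf xf32 yf13 zf31) (kf xf32 yf32 zf49) (kf xf32 yf58 zf50) (kf xf32 yf57 zf33) (kf xf32 yf17 zf55) (kf xf29 yf27 zf17) (kf xf31 yf52 zf37) (kf xf32 yf58 zf18) (kf xf32 yf51 zf24) (kf xf29 yf27 zf29) (kf xf32 yf17 zf61) (kf xf29 yf27 zf31) (kf xf32 yf42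 zf37) (kf xf31 yf25 zf9) (kf xf32 yf42 zf3) (kf xf32 yf41 zf30) (kf xf31 yf12 zf30) (kf xf29 yf28 zf39) (kf xf29 yf54 zf8) (kf xf32 yf52 zf53) (kf xf31 yf38 zf49) (kf xf30 yf54 zf29) (kf xf30 yf57 zf53) (kf xf32 yf42 zf42)) (@D3.rec (fun _ => Pt) (kf xf32 yf41 zf41) (kf xf29 yf30 zf21) (kf xf32 yf54 zf48) (kf xf29 yf31 zf58) (kf xf29 yf33 zf50) (kf xf29 yf34 zf5) (kf xf29 yf34 zf6) (kf xf32 yf37 zf34) (kf xf32 yf47 zf7) (kf xf29 yf34 zf19) (kf xf29 yf31 zf36) (kf xf31 yf33 zf36) (kf xf32 yf9 zf11) (kf xf31 yf30 zf28) (kf xf32 yf45 zf33) (kf xf29 yf32 zf15) (kf xf32 yf9 zf5) (kf xf30 yf28 zf4) (kf xf31 yf51 zf37) (kf xf31 yf32 zf13) (kf xf29 yf32 zf45) (kf xf30 yf14 zf38) (kf xf31 yf31 zf54) (kf xf32 yf12 zf34) (kf xf32 yf12 zf46) (kf xf32 yf12 zf30) (kf xf32 yf12 zf20)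 (kf xf32 yf12 zf23) (kf xf30 yf15 zf26) (kf xf32 yf13 zf38) (kf xf32 yf37 zf47) (kf xf32 yf36 zf19) (kf xf30 yf15 zf14) (kf xf32 yf45 zf14) (kf xf31 yf12 zf29) (kf xf29 yf45 zf48) (kf xf30 yf15 zf23) (kf xf32 yf22 zf59) (kf xf32 yf23 zf6) (kf xf29 yf45 zf54) (kf xf31 yf33 zf1) (kf xf31 yf33 zf2) (kf xf30 yf15 zf43) (kf xf32 yf13 zf34) (kf xf32 yf39 zf29) (kf xf29 yf33 zf51) (kf xf32 yf14 zf17) (kf xf32 yf36 zf15) (kf xf32 yf45 zf56) (kf xf30 yf29 zf33) (kf xf32 yf40 zf26) (kf xf32 yf47 zf6) (kf xf32 yf47 zf46) (kf xf32 yf12 zf39) (kf xf32 yf46 zf50) (kf xf31 yf21 zf5) (kf xf32 yf45 zf48) (kf xf30 yf22 zf47) (kf xf32 yf17 zf46) (kf xf32 yf18 zf15) (kf xf31 yf32 zf25) (kf xf32 yf59 zf21)) (@D3.rec (fun _ => Pt) (kf xf32 yf59 zf36) (kf xf29 yf36 zf11) (kf xf29 yf36 zf10)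 (kf xf32 yf59 zf14) (kf xf31 yf41 zf49) (kf xf32 yf59 zf48) (kf xf31 yf21 zf19) (kf xf32 yf50 zf0) (kf xf32 yf59 zf49) (kf xf32 yf59 zf40) (kf xf29 yf36 zf12) (kf xf32 yf59 zf46) (kf xf29 yf36 zf13) (kf xf31 yf52 zf5) (kf xf32 yf17 zf47) (kf xf32 yf55 zf9) (kf xf29 yf36 zf17) (kf xf30 yf31 zf49) (kf xf32 yf37 zf10) (kf xf32 yf53 zf51) (kf xf32 yf34 zf60) (kf xf32 yf36 zf2) (kf xf29 yf37 zf3) (kf xf30 yf21 zf34) (kf xf32 yf58 zf36) (kf xf30 yf21 zf55) (kf xf31 yf13 zf58) (kf xf31 yf30 zf60) (kf xf29 yf43 zf23) (kf xf29 yf45 zf10) (kf xf32 yf12 zf48) (kf xf30 yf22 zf29) (kf xf29 yf40 zf20) (kf xf29 yf38 zf26) (kf xf32 yf28 zf48) (kf xf32 yf57 zf56) (kf xf30 yf56 zf57) (kf xf30 yf30 zf15) (kf xf30 yf30 zf29) (kf xf31 yf39 zf9) (kf xf30 yf31 zf8) (kf xf32 yf37 zf39) (kf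 xf32 yf51 zf7) (kf xf30 yf30 zf9) (kf xf31 yf55 zf39) (kf xf29 yf40 zf31) (kf xf30 yf17 zf36) (kf xf30 yf17 zf35) (kf xf29 yf40 zf28) (kf xf31 yf33 zf27) (kf xf32 yf45 zf54) (kf xf32 yf14 zf19) (kf xf32 yf52 zf43) (kf xf32 yf44 zf7) (kf xf32 yf52 zf54) (kf xf32 yf43 zf44) (kf xf32 yf46 zf59) (kf xf32 yf42 zf4) (kf xf32 yf41 zf61) (kf xf32 yf46 zf56) (kf xf30 yf56 zf6) (kf xf32 yf24 zf46)) (@D3.rec (fun _ => Pt) (kf xf32 yf58 zf26) (kf xf29 yf41 zf45) (kf xf32 yf8 zf57) (kf xf32 yf15 zf50) (kf xf32 yf37 zf1) (kf xf29 yf45 zf33) (kf xf32 yf45 zf51) (kf xf32 yf45 zf8) (kf xf32 yf43 zf55) (kf xf31 yf21 zf29) (kf xf30 yf6 zf9) (kf xf32 yf48 zf58) (kf xf32 yf57 zf26) (kf xf31 yf31 zf52) (kf xf32 yf14 zf26) (kf xf29 yf47 zf12) (kf xf31 yf27 zf27) (kf xf29 yf47 zf17) (kf xf31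 yf48 zf23) (kf xf32 yf11 zf53) (kf xf32 yf13 zf43) (kf xf32 yf13 zf45) (kf xf29 yf45 zf16) (kf xf29 yf45 zf18) (kf xf29 yf45 zf17) (kf xf32 yf12 zf49) (kf xf32 yf22 zf58) (kf xf30 yf28 zf16) (kf xf30 yf21 zf27) (kf xf31 yf19 zf56) (kf xf32 yf59 zf2) (kf xf30 yf31 zf7) (kf xf32 yf59 zf33) (kf xf30 yf31 zf5) (kf xf30 yf31 zf4) (kf xf31 yf51 zf40) (kf xf31 yf51 zf38) (kf xf29 yf46 zf13) (kf xf31 yf33 zf5) (kf xf32 yf37 zf56) (kf xf30 yf16 zf6) (kf xf32 yf12 zf24) (kf xf32 yf12 zf26) (kf xf32 yf37 zf36) (kf xf32 yf37 zf37) (kf xf32 yf19 zf9) (kf xf32 yf45 zf52) (kf xf31 yf20 zf32) (kf xf31 yf20 zf14) (kf xf32 yf10 zf40) (kf xf31 yf29 zf25) (kf xf29 yf46 zf45) (kf xf29 yf46 zf52) (kf xf32 yf11 zf52) (kf xf32 yf39 zf28) (kf xf32 yf14 zf8) (kf xf31 yf31 zf3) (kf xf31 yf17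 zf17) (kf xf32 yf58 zf60) (kf xf32 yf23 zf31) (kf xf32 yf35 zf42) (kf xf32 yf20 zf27)) (@D3.rec (fun _ => Pt) (kf xf32 yf15 zf1) (kf xf32 yf39 zf52) (kf xf32 yf52 zf2) (kf xf30 yf19 zf0) (kf xf32 yf14 zf47) (kf xf31 yf15 zf18) (kf xf32 yf15 zf19) (kf xf31 yf26 zf10) (kf xf31 yf47 zf22) (kf xf31 yf58 zf53) (kf xf32 yf0 zf22) (kf xf32 yf54 zf60) (kf xf31 yf3 zf21) (kf xf32 yf16 zf12) (kf xf30 yf40 zf27) (kf xf31 yf9 zf45) (kf xf31 yf49 zf34) (kf xf32 yf8 zf50) (kf xf30 yf6 zf37) (kf xf32 yf44 zf6) (kf xf30 yf0 zf47) (kf xf29 yf51 zf9) (kf xf29 yf58 zf35) (kf xf29 yf58 zf33) (kf xf32 yf49 zf29) (kf xf32 yf49 zf6) (kf xf31 yf29 zf33) (kf xf30 yf13 zf0) (kf xf30 yf13 zf35) (kf xf32 yf12 zf54) (kf xf30 yf48 zf42) (kf xf31 yf25 zf35) (kf xf29 yf52 zf55) (kf xf32 yf51 zf37)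 (kf xf32 yf18 zf34) (kf xf31 yf24 zf13) (kf xf29 yf56 zf8) (kf xf32 yf15 zf54) (kf xf32 yf9 zf41) (kf xf32 yf38 zf51) (kf xf32 yf37 zf14) (kf xf29 yf54 zf49) (kf xf31 yf25 zf56) (kf xf32 yf21 zf40) (kf xf30 yf33 zf13) (kf xf31 yf3 zf2) (kf xf32 yf1 zf27) (kf xf32 yf21 zf2) (kf xf32 yf54 zf37) (kf xf30 yf52 zf28) (kf xf29 yf56 zf26) (kf xf32 yf52 zf32) (kf xf32 yf27 zf60) (kf xf29 yf56 zf52) (kf xf32 yf50 zf35) (kf xf29 yf57 zf22) (kf xf32 yf24 zf33) (kf xf31 yf11 zf53) (kf xf32 yf47 zf11) (kf xf32 yf21 zf5) (kf xf29 yf57 zf33) (kf xf32 yf49 zf2)) (@D3.rec (fun _ => Pt) (kf xf32 yf5 zf10) (kf xf31 yf37 zf41) (kf xf32 yf48 zf61) (kf xf32 yf53 zf17) (kf xf32 yf53 zf11) (kf xf32 yf50 zf36) (kf xf32 yf48 zf25) (kf xf30 yf37 zf10) (kf xf30 yf4 zf52) (kf xf31 yf8 zf52) (kf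 xf32 yf55 zf36) (kf xf31 yf5 zf8) (kf xf31 yf12 zf5) (kf xf31 yf35 zf35) (kf xf31 yf49 zf26) (kf xf32 yf27 zf42) (kf xf30 yf40 zf49) (kf xf31 yf32 zf14) (kf xf31 yf37 zf0) (kf xf31 yf14 zf12) (kf xf32 yf4 zf40) (kf xf31 yf6 zf49) (kf xf30 yf0 zf56) (kf xf31 yf12 zf23) (kf xf32 yf38 zf7) (kf xf32 yf42 zf8) (kf xf32 yf51 zf32) (kf xf31 yf10 zf40) (kf xf32 yf7 zf5) (kf xf32 yf48 zf24) (kf xf30 yf47 zf46) (kf xf30 yf58 zf51) (kf xf31 yf37 zf10) (kf xf31 yf3 zf57) (kf xf31 yf42 zf31) (kf xf31 yf27 zf54) (kf xf31 yf27 zf53) (kf xf32 yf42 zf24) (kf xf31 yf20 zf36) (kf xf32 yf50 zf47) (kf xf30 yf3 zf37) (kf xf31 yf30 zf40) (kf xf32 yf57 zf9) (kf xf31 yf11 zf0) (kf xf32 yf6 zf29) (kf xf30 yf36 zf54) (kf xf30 yf10 zf26) (kf xf32 yf42 zf58) (kf xf32 yf23 zf42) (kf xf30 yf13 zf44)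 (kf xf32 yf54 zf11) (kf xf31 yf47 zf19) (kf xf32 yf29 zf2) (kf xf32 yf34 zf56) (kf xf32 yf20 zf21) (kf xf32 yf20 zf22) (kf xf32 yf56 zf7) (kf xf30 yf5 zf38) (kf xf32 yf54 zf28) (kf xf30 yf50 zf37) (kf xf30 yf5 zf42) (kf xf30 yf19 zf2)) (@D3.rec (fun _ => Pt) (kf xf32 yf46 zf7) (kf xf30 yf5 zf43) (kf xf32 yf20 zf33) (kf xf32 yf50 zf15) (kf xf32 yf20 zf34) (kf xf32 yf20 zf25) (kf xf30 yf10 zf10) (kf xf31 yf55 zf7) (kf xf31 yf55 zf6) (kf xf32 yf56 zf23) (kf xf32 yf54 zf18) (kf xf32 yf22 zf4) (kf xf31 yf20 zf1) (kf xf31 yf19 zf61) (kf xf32 yf51 zf51) (kf xf32 yf50 zf3) (kf xf30 yf15 zf24) (kf xf30 yf58 zf52) (kf xf30 yf7 zf19) (kf xf30 yf58 zf53) (kf xf31 yf33 zf55) (kf xf30 yf59 zf19) (kf xf32 yf54 zf31) (kf xf31 yf19 zf60) (kf xf31 yf15 zf21) (kf xf30 yf9 zf54) (kf xf31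 yf20 zf2) (kf xf32 yf40 zf1) (kf xf30 yf35 zf28) (kf xf30 yf9 zf21) (kf xf31 yf47 zf35) (kf xf32 yf11 zf9) (kf xf32 yf11 zf5) (kf xf32 yf24 zf3) (kf xf31 yf26 zf39) (kf xf32 yf48 zf54) (kf xf32 yf49 zf5) (kf xf30 yf20 zf16) (kf xf31 yf29 zf20) (kf xf30 yf11 zf50) (kf xf31 yf29 zf24) (kf xf31 yf52 zf30) (kf xf32 yf57 zf21) (kf xf31 yf6 zf15) (kf xf31 yf57 zf36) (kf xf32 yf50 zf52) (kf xf32 yf55 zf17) (kf xf32 yf49 zf39) (kf xf30 yf41 zf26) (kf xf32 yf55 zf35) (kf xf31 yf9 zf16) (kf xf32 yf43 zf6) (kf xf32 yf50 zf45) (kf xf32 yf53 zf15) (kf xf31 yf30 zf20) (kf xf30 yf15 zf30) (kf xf30 yf15 zf57) (kf xf32 yf21 zf50) (kf xf31 yf20 zf42) (kf xf32 yf59 zf30) (kf xf32 yf52 zf51) (kf xf32 yf22 zf61)) (@D3.rec (fun _ => Pt) (kf xf32 yf52 zf49) (kf xf31 yf30 zf58) (kf xf32 yf34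 zf24) (kf xf32 yf41 zf5) (kf xf32 yf13 zf2) (kf xf32 yf19 zf7) (kf xf32 yf23 zf11) (kf xf32 yf46 zf42) (kf xf30 yf23 zf37) (kf xf30 yf18 zf60) (kf xf30 yf19 zf4) (kf xf30 yf18 zf25) (kf xf31 yf33 zf11) (kf xf30 yf50 zf1) (kf xf31 yf13 zf28) (kf xf30 yf22 zf15) (kf xf32 yf53 zf6) (kf xf30 yf47 zf28) (kf xf32 yf30 zf51) (kf xf32 yf58 zf37) (kf xf32 yf58 zf38) (kf xf30 yf46 zf26) (kf xf32 yf33 zf15) (kf xf32 yf59 zf47) (kf xf32 yf44 zf46) (kf xf32 yf59 zf55) (kf xf32 yf59 zf56) (kf xf32 yf33 zf19) (kf xf31 yf52 zf15) (kf xf32 yf20 zf52) (kf xf30 yf19 zf11) (kf xf32 yf4 zf27) (kf xf32 yf49 zf26) (kf xf30 yf20 zf46) (kf xf30 yf21 zf33) (kf xf30 yf25 zf21) (kf xf32 yf34 zf54) (kf xf32 yf48 zf33) (kf xf32 yf52 zf17) (kf xf32 yf30 zf4) (kf xf32 yf59 zf9) (kf xf32 yf33 zf3)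 (kf xf30 yf50 zf14) (kf xf32 yf58 zf4) (kf xf31 yf51 zf41) (kf xf32 yf40 zf43) (kf xf32 yf57 zf42) (kf xf32 yf56 zf26) (kf xf31 yf29 zf35) (kf xf32 yf52 zf50) (kf xf31 yf51 zf51) (kf xf32 yf50 zf14) (kf xf32 yf52 zf31) (kf xf32 yf59 zf1) (kf xf30 yf21 zf61) (kf xf32 yf52 zf38) (kf xf32 yf52 zf30) (kf xf30 yf21 zf59) (kf xf32 yf54 zf52) (kf xf32 yf59 zf43) (kf xf32 yf59 zf22) (kf xf32 yf59 zf59)) (@D3.rec (fun _ => Pt) (kf xf32 yf40 zf44) (kf xf32 yf52 zf37) (kf xf32 yf48 zf2) (kf xf32 yf39 zf40) (kf xf32 yf52 zf55) (kf xf31 yf13 zf40) (kf xf30 yf39 zf40) (kf xf30 yf22 zf24) (kf xf30 yf22 zf19) (kf xf30 yf34 zf30) (kf xf30 yf50 zf20) (kf xf30 yf23 zf39) (kf xf32 yf40 zf2) (kf xf32 yf53 zf35) (kf xf30 yf37 zf53) (kf xf30 yf37 zf50) (kf xf32 yf24 zf16) (kf xf32 yf51 zf38)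 (kf xf32 yf38 zf20) (kf xf30 yf25 zf17) (kf xf32 yf20 zf7) (kf xf30 yf29 zf30) (kf xf30 yf25 zf61) (kf xf30 yf30 zf20) (kf xf31 yf16 zf35) (kf xf31 yf25 zf32) (kf xf30 yf50 zf15) (kf xf32 yf3 zf0) (kf xf32 yf52 zf29) (kf xf32 yf52 zf28) (kf xf32 yf51 zf56) (kf xf32 yf51 zf52) (kf xf32 yf48 zf51) (kf xf32 yf52 zf48) (kf xf32 yf40 zf19) (kf xf32 yf52 zf46) (kf xf30 yf38 zf24) (kf xf32 yf52 zf1) (kf xf32 yf51 zf55) (kf xf31 yf40 zf13) (kf xf30 yf34 zf26) (kf xf32 yf17 zf4) (kf xf32 yf57 zf14) (kf xf32 yf46 zf52) (kf xf32 yf37 zf29) (kf xf32 yf11 zf55) (kf xf32 yf52 zf35) (kf xf32 yf23 zf5) (kf xf32 yf52 zf33) (kf xf32 yf51 zf0) (kf xf32 yf51 zf49) (kf xf32 yf50 zf60) (kf xf31 yf29 zf22) (kf xf32 yf44 zf57) (kf xf32 yf46 zf54) (kf xf32 yf52 zf4) (kf xf32 yf39 zf22) (kf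 xf31 yf21 zf35) (kf xf30 yf30 zf41) (kf xf31 yf16 zf36) (kf xf32 yf32 zf11) (kf xf31 yf56 zf11)) (@D3.rec (fun _ => Pt) (kf xf32 yf10 zf10) (kf xf32 yf4 zf18) (kf xf32 yf58 zf15) (kf xf30 yf31 zf31) (kf xf31 yf34 zf48) (kf xf32 yf55 zf55) (kf xf32 yf51 zf16) (kf xf32 yf40 zf10) (kf xf31 yf13 zf23) (kf xf32 yf53 zf50) (kf xf31 yf20 zf21) (kf xf32 yf49 zf4) (kf xf31 yf29 zf30) (kf xf31 yf34 zf6) (kf xf31 yf10 zf24) (kf xf32 yf50 zf53) (kf xf30 yf58 zf46) (kf xf32 yf49 zf3) (kf xf32 yf58 zf6) (kf xf31 yf25 zf6) (kf xf32 yf56 zf42) (kf xf32 yf54 zf51) (kf xf32 yf56 zf40) (kf xf30 yf34 zf31) (kf xf32 yf58 zf42) (kf xf32 yf56 zf37) (kf xf31 yf13 zf27) (kf xf31 yf16 zf43) (kf xf31 yf14 zf38) (kf xf30 yf35 zf19) (kf xf32 yf32 zf1) (kf xf30 yf35 zf24) (kf xf32 yf58 zf61) (kf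 xf32 yf31 zf43) (kf xf31 yf15 zf16) (kf xf32 yf52 zf13) (kf xf32 yf35 zf0) (kf xf32 yf6 zf58) (kf xf32 yf42 zf38) (kf xf30 yf36 zf41) (kf xf32 yf1 zf22) (kf xf30 yf37 zf5) (kf xf31 yf8 zf31) (kf xf31 yf30 zf53) (kf xf32 yf54 zf47) (kf xf32 yf16 zf57) (kf xf32 yf33 zf40) (kf xf30 yf37 zf61) (kf xf31 yf15 zf4) (kf xf32 yf53 zf56) (kf xf32 yf53 zf9) (kf xf32 yf46 zf19) (kf xf30 yf38 zf28) (kf xf32 yf39 zf43) (kf xf30 yf39 zf26) (kf xf31 yf33 zf21) (kf xf32 yf53 zf49) (kf xf31 yf3 zf26) (kf xf31 yf2 zf3) (kf xf31 yf29 zf32) (kf xf32 yf54 zf15) (kf xf32 yf57 zf53)) (@D3.rec (fun _ => Pt) (kf xf31 yf11 zf58) (kf xf30 yf40 zf14) (kf xf32 yf28 zf58) (kf xf32 yf56 zf2) (kf xf30 yf40 zf16) (kf xf30 yf40 zf28) (kf xf32 yf43 zf15) (kf xf31 yf54 zf55) (kf xf31 yf54 zf54) (kf xf32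 yf42 zf61) (kf xf31 yf29 zf3) (kf xf32 yf49 zf50) (kf xf31 yf4 zf10) (kf xf31 yf11 zf25) (kf xf32 yf55 zf29) (kf xf32 yf53 zf60) (kf xf32 yf59 zf23) (kf xf32 yf25 zf60) (kf xf32 yf50 zf10) (kf xf32 yf29 zf39) (kf xf32 yf32 zf5) (kf xf31 yf9 zf34) (kf xf32 yf38 zf52) (kf xf31 yf11 zf21) (kf xf32 yf6 zf31) (kf xf32 yf36 zf16) (kf xf32 yf54 zf33) (kf xf30 yf46 zf33) (kf xf32 yf49 zf58) (kf xf32 yf31 zf25) (kf xf32 yf29 zf10) (kf xf32 yf50 zf22) (kf xf31 yf14 zf57) (kf xf32 yf54 zf26) (kf xf32 yf54 zf36) (kf xf32 yf24 zf13) (kf xf32 yf54 zf34) (kf xf32 yf48 zf48) (kf xf32 yf8 zf34) (kf xf32 yf55 zf5) (kf xf30 yf48 zf43) (kf xf30 yf48 zf38) (kf xf31 yf20 zf0) (kf xf32 yf59 zf54) (kf xf32 yf18 zf29) (kf xf32 yf54 zf46) (kf xf32 yf54 zf45) (kf xf32 yf53 zf44) (kf xf32 yf45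 zf2) (kf xf32 yf54 zf50) (kf xf32 yf54 zf49) (kf xf32 yf53 zf21) (kf xf32 yf51 zf58) (kf xf32 yf34 zf6) (kf xf32 yf20 zf44) (kf xf30 yf50 zf32) (kf xf31 yf23 zf8) (kf xf31 yf10 zf43) (kf xf31 yf1 zf2) (kf xf31 yf1 zf3) (kf xf32 yf48 zf11) (kf xf32 yf8 zf7)) (@D3.rec (fun _ => Pt) (kf xf31 yf30 zf31) (kf xf31 yf30 zf49) (kf xf32 yf44 zf20) (kf xf31 yf16 zf25) (kf xf32 yf1 zf55) (kf xf32 yf54 zf39) (kf xf31 yf57 zf14) (kf xf32 yf21 zf7) (kf xf31 yf26 zf41) (kf xf32 yf46 zf15) (kf xf30 yf58 zf44) (kf xf30 yf59 zf44) (kf xf31 yf0 zf2) (kf xf32 yf5 zf15) (kf xf32 yf55 zf15) (kf xf32 yf55 zf14) (kf xf31 yf33 zf60) (kf xf32 yf50 zf46) (kf xf32 yf26 zf55) (kf xf32 yf43 zf11) (kf xf32 yf55 zf34) (kf xf32 yf56 zf10) (kf xf31 yf58 zf0) (kf xf32 yf42 zf28) (kf xf32 yf23 zf46) (kf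 xf31 yf37 zf38) (kf xf32 yf27 zf50) (kf xf31 yf3 zf40) (kf xf32 yf28 zf0) (kf xf32 yf54 zf14) (kf xf31 yf58 zf21) (kf xf31 yf28 zf61) (kf xf32 yf28 zf1) (kf xf32 yf16 zf5) (kf xf32 yf55 zf20) (kf xf32 yf50 zf49) (kf xf32 yf49 zf10) (kf xf32 yf26 zf51) (kf xf31 yf32 zf50) (kf xf31 yf19 zf19) (kf xf31 yf14 zf49) (kf xf31 yf57 zf21) (kf xf32 yf4 zf52) (kf xf32 yf56 zf11) (kf xf32 yf4 zf54) (kf xf31 yf9 zf35) (kf xf32 yf16 zf7) (kf xf31 yf9 zf40) (kf xf32 yf56 zf22) (kf xf32 yf58 zf27) (kf xf31 yf47 zf26) (kf xf32 yf9 zf51) (kf xf32 yf41 zf27) (kf xf32 yf59 zf16) (kf xf31 yf27 zf9) (kf xf32 yf53 zf5) (kf xf32 yf2 zf57) (kf xf32 yf31 zf28) (kf xf32 yf56 zf19) (kf xf31 yf59 zf29) (kf xf32 yf26 zf18) (kf xf32 yf16 zf58)) (@D3.rec (fun _ => Pt) (kf xf32 yf56 zf3) (kf xf32 yf31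 zf38) (kf xf32 yf54 zf3) (kf xf32 yf56 zf0) (kf xf32 yf58 zf22) (kf xf32 yf32 zf61) (kf xf32 yf20 zf35) (kf xf32 yf49 zf56) (kf xf32 yf59 zf52) (kf xf32 yf38 zf8) (kf xf32 yf55 zf21) (kf xf32 yf55 zf43) (kf xf31 yf40 zf28) (kf xf32 yf59 zf53) (kf xf31 yf15 zf13) (kf xf32 yf16 zf44) (kf xf31 yf19 zf59) (kf xf32 yf20 zf45) (kf xf31 yf19 zf58) (kf xf32 yf55 zf58) (kf xf32 yf30 zf34) (kf xf32 yf57 zf58) (kf xf32 yf55 zf48) (kf xf32 yf50 zf9) (kf xf31 yf55 zf42) (kf xf32 yf39 zf1) (kf xf32 yf51 zf47) (kf xf31 yf31 zf41) (kf xf31 yf32 zf59) (kf xf31 yf19 zf27) (kf xf32 yf39 zf0) (kf xf32 yf57 zf2) (kf xf32 yf57 zf47) (kf xf32 yf40 zf40) (kf xf32 yf43 zf13) (kf xf32 yf41 zf54) (kf xf32 yf43 zf12) (kf xf32 yf53 zf25) (kf xf32 yf36 zf22) (kf xf32 yf43 zf35) (kf xf32 yf53 zf22)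 (kf xf32 yf43 zf37) (kf xf32 yf53 zf20) (kf xf31 yf25 zf24) (kf xf31 yf23 zf4) (kf xf32 yf40 zf47) (kf xf31 yf36 zf41) (kf xf32 yf39 zf35) (kf xf31 yf28 zf15) (kf xf32 yf24 zf8) (kf xf32 yf23 zf8) (kf xf32 yf59 zf34) (kf xf32 yf57 zf0) (kf xf32 yf8 zf52) (kf xf32 yf6 zf10) (kf xf32 yf59 zf31) (kf xf32 yf30 zf33) (kf xf32 yf10 zf43) (kf xf32 yf42 zf20) (kf xf32 yf0 zf8) (kf xf32 yf35 zf19) (kf xf32 yf57 zf3)) (@D3.rec (fun _ => Pt) (kf xf32 yf56 zf52) (kf xf32 yf24 zf6) (kf xf32 yf56 zf31) (kf xf32 yf56 zf61) (kf xf32 yf22 zf56) (kf xf32 yf42 zf9) (kf xf32 yf43 zf10) (kf xf32 yf57 zf34) (kf xf31 yf28 zf26) (kf xf32 yf49 zf42) (kf xf32 yf23 zf7) (kf xf31 yf41 zf17) (kf xf32 yf40 zf0) (kf xf32 yf13 zf56) (kf xf32 yf52 zf42) (kf xf32 yf20 zf19) (kf xf31 yf31 zf19) (kf xf32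 yf59 zf45) (kf xf32 yf58 zf59) (kf xf31 yf32 zf7) (kf xf32 yf36 zf24) (kf xf32 yf50 zf42) (kf xf32 yf24 zf60) (kf xf32 yf57 zf27) (kf xf31 yf44 zf23) (kf xf31 yf34 zf15) (kf xf32 yf47 zf12) (kf xf32 yf57 zf23) (kf xf32 yf13 zf0) (kf xf32 yf22 zf15) (kf xf32 yf16 zf59) (kf xf32 yf4 zf24) (kf xf31 yf56 zf8) (kf xf32 yf44 zf41) (kf xf32 yf57 zf7) (kf xf32 yf4 zf23) (kf xf31 yf38 zf41) (kf xf32 yf4 zf29) (kf xf32 yf4 zf21) (kf xf32 yf4 zf19) (kf xf31 yf40 zf12) (kf xf31 yf40 zf10) (kf xf32 yf51 zf46) (kf xf32 yf40 zf50) (kf xf31 yf51 zf46) (kf xf32 yf59 zf5) (kf xf31 yf51 zf42) (kf xf32 yf56 zf32) (kf xf32 yf59 zf17) (kf xf31 yf51 zf28) (kf xf31 yf41 zf13) (kf xf32 yf41 zf36) (kf xf31 yf55 zf38) (kf xf32 yf53 zf61) (kf xf32 yf57 zf61) (kf xf32 yf42 zf25) (kf xf32 yf46 zf35)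 (kf xf32 yf4 zf43) (kf xf32 yf56 zf21) (kf xf32 yf43 zf53) (kf xf31 yf54 zf22) (kf xf32 yf57 zf54)) (@D3.rec (fun _ => Pt) (kf xf31 yf46 zf51) (kf xf32 yf12 zf10) (kf xf32 yf58 zf3) (kf xf32 yf58 zf2) (kf xf32 yf51 zf43) (kf xf32 yf59 zf11) (kf xf32 yf53 zf18) (kf xf31 yf52 zf12) (kf xf32 yf41 zf31) (kf xf31 yf50 zf45) (kf xf32 yf39 zf47) (kf xf32 yf39 zf19) (kf xf32 yf22 zf38) (kf xf31 yf51 zf30) (kf xf32 yf40 zf54) (kf xf32 yf53 zf2) (kf xf31 yf51 zf43) (kf xf31 yf51 zf54) (kf xf32 yf44 zf45) (kf xf31 yf52 zf10) (kf xf31 yf52 zf13) (kf xf31 yf52 zf7) (kf xf32 yf56 zf4) (kf xf32 yf59 zf57) (kf xf31 yf52 zf28) (kf xf31 yf52 zf25) (kf xf32 yf47 zf0) (kf xf32 yf55 zf49) (kf xf31 yf53 zf4) (kf xf32 yf4 zf53) (kf xf32 yf41 zf32) (kf xf32 yf32 zf59) (kf xf32 yf31 zf49) (kf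 xf32 yf58 zf44) (kf xf32 yf58 zf47) (kf xf32 yf33 zf1) (kf xf32 yf46 zf24) (kf xf32 yf51 zf19) (kf xf32 yf51 zf20) (kf xf31 yf57 zf1) (kf xf32 yf38 zf58) (kf xf32 yf24 zf5) (kf xf32 yf53 zf24) (kf xf32 yf1 zf6) (kf xf32 yf58 zf33) (kf xf32 yf59 zf39) (kf xf32 yf31 zf32) (kf xf32 yf58 zf34) (kf xf32 yf5 zf21) (kf xf32 yf30 zf3) (kf xf32 yf44 zf40) (kf xf32 yf43 zf25) (kf xf32 yf7 zf15) (kf xf32 yf43 zf47) (kf xf32 yf58 zf57) (kf xf32 yf12 zf21) (kf xf32 yf59 zf32) (kf xf32 yf58 zf54) (kf xf32 yf36 zf8) (kf xf32 yf57 zf18) (kf xf32 yf47 zf58) (kf xf32 yf53 zf32)) (@D3.rec (fun _ => Pt) (kf xf32 yf40 zf56) (kf xf32 yf51 zf53) (kf xf32 yf47 zf30) (kf xf32 yf17 zf48) (kf xf32 yf59 zf44) (kf xf32 yf57 zf45) (kf xf32 yf18 zf1) (kf xf32 yf37 zf45) (kf xf32 yf19 zf41) (kf xf32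 yf51 zf40) (kf xf32 yf20 zf53) (kf xf32 yf58 zf5) (kf xf32 yf25 zf20) (kf xf32 yf20 zf47) (kf xf32 yf46 zf3) (kf xf32 yf27 zf23) (kf xf32 yf55 zf53) (kf xf32 yf57 zf48) (kf xf32 yf27 zf21) (kf xf32 yf38 zf21) (kf xf32 yf35 zf2) (kf xf32 yf45 zf61) (kf xf32 yf51 zf60) (kf xf32 yf54 zf16) (kf xf32 yf37 zf22) (kf xf32 yf37 zf23) (kf xf32 yf37 zf26) (kf xf32 yf37 zf48) (kf xf32 yf59 zf37) (kf xf32 yf37 zf54) (kf xf32 yf50 zf59) (kf xf32 yf56 zf55) (kf xf32 yf58 zf56) (kf xf32 yf47 zf32) (kf xf32 yf56 zf51) (kf xf32 yf39 zf44) (kf xf32 yf46 zf0) (kf xf32 yf59 zf28) (kf xf32 yf41 zf48) (kf xf32 yf58 zf45) (kf xf32 yf46 zf9) (kf xf32 yf43 zf33) (kf xf32 yf59 zf61) (kf xf32 yf51 zf59) (kf xf32 yf59 zf4) (kf xf32 yf57 zf17) (kf xf32 yf46 zf11) (kf xf32 yf51 zf23) (kf xf32 yf46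 zf5) (kf xf32 yf46 zf8) (kf xf32 yf59 zf60) (kf xf32 yf59 zf58) (kf xf32 yf56 zf8) (kf xf32 yf56 zf13) (kf xf32 yf54 zf43) (kf xf32 yf51 zf25) (kf xf32 yf51 zf26) (kf xf32 yf58 zf23) (kf xf32 yf59 zf51) (kf xf32 yf51 zf61) (kf xf32 yf59 zf50) (kf xf32 yf59 zf42))
def f_f : Pt → Pt := @Pt.rec (fun _ => Pt) (@D1.rec (fun _ => D2 → D3 → Pt) f_f_0 f_f_1 f_f_2 f_f_3 f_f_4 f_f_5 f_f_6 f_f_7 f_f_8 f_f_9 f_f_10 f_f_11 f_f_12 f_f_13 f_f_14 f_f_15 f_f_16 f_f_17 f_f_18 f_f_19 f_f_20 f_f_21 f_f_22 f_f_23 f_f_24 f_f_25 f_f_26 f_f_27 f_f_28 f_f_29 f_f_30 f_f_31 f_f_32)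
def fi_f : Pt → Pt := f_f

theorem inv_chk_f : chkInv allPts beqPt f_f fi_f = true := by decide +kernel

end

end Cfsg.Agent.Helper28.S1692
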