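import Cfsg.Agent.Lib.Helper28.S1692.Defs

set_option autoImplicit false
set_option maxRecDepth 100000
set_option linter.all false

namespace Cfsg.Agent.Helper28.S1692

open Cfsg.Agent.Helper28
open Cfsg.Spor.ON (Gen)

noncomputable section

abbrev kg := Pt.mk
abbrev xg0 := D1.c0
abbrev xg1 := D1.c1
abbrev xg2 := D1.c2
abbrev xg3 := D1.c3
abbrev xg4 := D1.c4
abbrev xg5 := D1.c5
abbrev xg6 := D1.c6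
abbrev xg7 := D1.c7
abbrev xg8 := D1.c8
abbrev xg9 := D1.c9
abbrev xg10 := D1.c10
abbrev xg11 := D1.c11
abbrev xg12 := D1.c12
abbrev xg13 := D1.c13
abbrev xg14 := D1.c14
abbrev xg15 := D1.c15
abbrev xg16 := D1.c16
abbrev xg17 := D1.c17
abbrev xg18 := D1.c18
abbrev xg19 := D1.c19
abbrev xg20 := D1.c20
abbrev xg21 := D1.c21
abbrev xg22 := D1.c22
abbrev xg23 := D1.c23
abbrev xg24 := D1.c24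
abbrev xg25 := D1.c25
abbrev xg26 := D1.c26
abbrev xg27 := D1.c27
abbrev xg28 := D1.c28
abbrev xg29 := D1.c29
abbrev xg30 := D1.c30
abbrev xg31 := D1.c31
abbrev xg32 := D1.c32
abbrev yg0 := D2.c0
abbrev yg1 := D2.c1
abbrev yg2 := D2.c2
abbrev yg3 := D2.c3
abbrev yg4 := D2.c4
abbrev yg5 := D2.c5
abbrev yg6 := D2.c6
abbrev yg7 := D2.c7
abbrev yg8 := D2.c8
abbrev yg9 := D2.c9
abbrev yg10 := D2.c10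
abbrev yg11 := D2.c11
abbrev yg12 := D2.c12
abbrev yg13 := D2.c13
abbrev yg14 := D2.c14
abbrev yg15 := D2.c15
abbrev yg16 := D2.c16
abbrev yg17 := D2.c17
abbrev yg18 := D2.c18
abbrev yg19 := D2.c19
abbrev yg20 := D2.c20
abbrev yg21 := D2.c21
abbrev yg22 := D2.c22
abbrev yg23 := D2.c23
abbrev yg24 := D2.c24
abbrev yg25 := D2.c25
abbrev yg26 := D2.c26
abbrev yg27 := D2.c27
abbrev yg28 := D2.c28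
abbrev yg29 := D2.c29
abbrev yg30 := D2.c30
abbrev yg31 := D2.c31
abbrev yg32 := D2.c32
abbrev yg33 := D2.c33
abbrev yg34 := D2.c34
abbrev yg35 := D2.c35
abbrev yg36 := D2.c36
abbrev yg37 := D2.c37
abbrev yg38 := D2.c38
abbrev yg39 := D2.c39
abbrev yg40 := D2.c40
abbrev yg41 := D2.c41
abbrev yg42 := D2.c42
abbrev yg43 := D2.c43
abbrev yg44 := D2.c44
abbrev yg45 := D2.c45
abbrev yg46 := D2.c46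
abbrev yg47 := D2.c47
abbrev yg48 := D2.c48
abbrev yg49 := D2.c49
abbrev yg50 := D2.c50
abbrev yg51 := D2.c51
abbrev yg52 := D2.c52
abbrev yg53 := D2.c53
abbrev yg54 := D2.c54
abbrev yg55 := D2.c55
abbrev yg56 := D2.c56
abbrev yg57 := D2.c57
abbrev yg58 := D2.c58
abbrev yg59 := D2.c59
abbrev zg0 := D3.c0
abbrev zg1 := D3.c1
abbrev zg2 := D3.c2
abbrev zg3 := D3.c3
abbrev zg4 := D3.c4
abbrev zg5 := D3.c5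
abbrev zg6 := D3.c6
abbrev zg7 := D3.c7
abbrev zg8 := D3.c8
abbrev zg9 := D3.c9
abbrev zg10 := D3.c10
abbrev zg11 := D3.c11
abbrev zg12 := D3.c12
abbrev zg13 := D3.c13
abbrev zg14 := D3.c14
abbrev zg15 := D3.c15
abbrev zg16 := D3.c16
abbrev zg17 := D3.c17
abbrev zg18 := D3.c18
abbrev zg19 := D3.c19
abbrev zg20 := D3.c20
abbrev zg21 := D3.c21
abbrev zg22 := D3.c22
abbrev zg23 := D3.c23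
abbrev zg24 := D3.c24
abbrev zg25 := D3.c25
abbrev zg26 := D3.c26
abbrev zg27 := D3.c27
abbrev zg28 := D3.c28
abbrev zg29 := D3.c29
abbrev zg30 := D3.c30
abbrev zg31 := D3.c31
abbrev zg32 := D3.c32
abbrev zg33 := D3.c33
abbrev zg34 := D3.c34
abbrev zg35 := D3.c35
abbrev zg36 := D3.c36
abbrev zg37 := D3.c37
abbrev zg38 := D3.c38
abbrev zg39 := D3.c39
abbrev zg40 := D3.c40
abbrev zg41 := D3.c41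
abbrev zg42 := D3.c42
abbrev zg43 := D3.c43
abbrev zg44 := D3.c44
abbrev zg45 := D3.c45
abbrev zg46 := D3.c46
abbrev zg47 := D3.c47
abbrev zg48 := D3.c48
abbrev zg49 := D3.c49
abbrev zg50 := D3.c50
abbrev zg51 := D3.c51
abbrev zg52 := D3.c52
abbrev zg53 := D3.c53
abbrev zg54 := D3.c54
abbrev zg55 := D3.c55
abbrev zg56 := D3.c56
abbrev zg57 := D3.c57
abbrev zg58 := D3.c58
abbrev zg59 := D3.c59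
abbrev zg60 := D3.c60
abbrev zg61 := D3.c61
def f_g_0 : D2 → D3 → Pt := @D2.rec (fun _ => D3 → Pt) (@D3.rec (fun _ => Pt) (kg xg0 yg0 zg1) (kg xg0 yg0 zg0) (kg xg0 yg0 zg6) (kg xg0 yg0 zg12) (kg xg0 yg0 zg16) (kg xg0 yg0 zg18) (kg xg0 yg0 zg8) (kg xg0 yg0 zg2) (kg xg0 yg0 zg7) (kg xg0 yg0 zg27) (kg xg0 yg0 zg32) (kg xg0 yg0 zg36) (kg xg0 yg0 zg3) (kg xg0 yg0 zg41) (kg xg0 yg0 zg45) (kg xg0 yg0 zg47) (kg xg0 yg0 zg4) (kg xg0 yg0 zg52) (kg xg0 yg0 zg21) (kg xg0 yg0 zg5) (kg xg0 yg0 zg57) (kg xg0 yg0 zg19) (kg xg0 yg0 zg61) (kg xg0 yg0 zg29) (kg xg0 yg0 zg28) (kg xg0 yg0 zg33) (kg xg0 yg1 zg9) (kg xg0 yg0 zg24) (kg xg0 yg0 zg9) (kg xg0 yg0 zg22) (kg xg0 yg1 zg18) (kg xg0 yg1 zg22) (kg xg0 yg0 zg25) (kg xg0 yg0 zg10) (kg xg0 yg1 zg30) (kg xg0 yg1 zg35) (kg xg0 yg1 zg12)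 (kg xg0 yg0 zg11) (kg xg0 yg1 zg42) (kg xg0 yg1 zg10) (kg xg0 yg0 zg13) (kg xg0 yg0 zg42) (kg xg0 yg0 zg40) (kg xg0 yg1 zg48) (kg xg0 yg1 zg51) (kg xg0 yg0 zg14) (kg xg0 yg1 zg56) (kg xg0 yg0 zg50) (kg xg0 yg0 zg15) (kg xg0 yg2 zg0) (kg xg0 yg0 zg48) (kg xg0 yg0 zg17) (kg xg0 yg0 zg54) (kg xg0 yg0 zg55) (kg xg0 yg0 zg51) (kg xg0 yg2 zg5) (kg xg0 yg0 zg53) (kg xg0 yg0 zg60) (kg xg0 yg0 zg20) (kg xg0 yg2 zg13) (kg xg0 yg0 zg58) (kg xg0 yg0 zg23)) (@D3.rec (fun _ => Pt) (kg xg0 yg2 zg22) (kg xg0 yg2 zg26) (kg xg0 yg2 zg19) (kg xg0 yg2 zg27) (kg xg0 yg1 zg2) (kg xg0 yg1 zg19) (kg xg0 yg2 zg38) (kg xg0 yg1 zg31) (kg xg0 yg2 zg45) (kg xg0 yg0 zg39) (kg xg0 yg0 zg26) (kg xg0 yg2 zg52) (kg xg0 yg0 zg37) (kg xg0 yg2 zg43) (kg xg0 yg2 zg58) (kg xg0 yg1 zg33) (kg xg0 yg3 zg0)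 (kg xg0 yg1 zg38) (kg xg0 yg1 zg5) (kg xg0 yg0 zg30) (kg xg0 yg3 zg11) (kg xg0 yg3 zg16) (kg xg0 yg2 zg41) (kg xg0 yg0 zg31) (kg xg0 yg3 zg24) (kg xg0 yg2 zg39) (kg xg0 yg3 zg28) (kg xg0 yg1 zg8) (kg xg0 yg1 zg32) (kg xg0 yg0 zg35) (kg xg0 yg1 zg7) (kg xg0 yg0 zg34) (kg xg0 yg1 zg26) (kg xg0 yg1 zg13) (kg xg0 yg3 zg39) (kg xg0 yg2 zg47) (kg xg0 yg1 zg39) (kg xg0 yg1 zg27) (kg xg0 yg3 zg45) (kg xg0 yg3 zg48) (kg xg0 yg1 zg17) (kg xg0 yg1 zg36) (kg xg0 yg2 zg55) (kg xg0 yg0 zg38) (kg xg0 yg3 zg58) (kg xg0 yg2 zg53) (kg xg0 yg1 zg49) (kg xg0 yg1 zg59) (kg xg0 yg1 zg46) (kg xg0 yg0 zg43) (kg xg0 yg4 zg7) (kg xg0 yg4 zg4) (kg xg0 yg0 zg44) (kg xg0 yg4 zg12) (kg xg0 yg3 zg22) (kg xg0 yg0 zg46) (kg xg0 yg1 zg58) (kg xg0 yg1 zg60) (kg xg0 yg1 zg55) (kg xg0 yg1 zg54) (kg xg0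 yg4 zg18) (kg xg0 yg1 zg57)) (@D3.rec (fun _ => Pt) (kg xg0 yg2 zg3) (kg xg0 yg0 zg49) (kg xg0 yg2 zg10) (kg xg0 yg2 zg1) (kg xg0 yg4 zg20) (kg xg0 yg0 zg56) (kg xg0 yg4 zg34) (kg xg0 yg4 zg38) (kg xg0 yg4 zg17) (kg xg0 yg4 zg33) (kg xg0 yg4 zg28) (kg xg0 yg2 zg2) (kg xg0 yg4 zg50) (kg xg0 yg2 zg17) (kg xg0 yg0 zg59) (kg xg0 yg4 zg56) (kg xg0 yg4 zg61) (kg xg0 yg2 zg14) (kg xg0 yg2 zg9) (kg xg0 yg2 zg30) (kg xg0 yg3 zg1) (kg xg0 yg2 zg48) (kg xg0 yg2 zg24) (kg xg0 yg1 zg0) (kg xg0 yg2 zg23) (kg xg0 yg5 zg15) (kg xg0 yg1 zg3) (kg xg0 yg1 zg1) (kg xg0 yg3 zg14) (kg xg0 yg5 zg26) (kg xg0 yg1 zg4) (kg xg0 yg5 zg19) (kg xg0 yg3 zg37) (kg xg0 yg5 zg35) (kg xg0 yg5 zg38) (kg xg0 yg5 zg42) (kg xg0 yg3 zg12) (kg xg0 yg5 zg48) (kg xg0 yg1 zg25) (kg xg0 yg1 zg6) (kg xg0 yg5 zg55)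 (kg xg0 yg1 zg23) (kg xg0 yg3 zg31) (kg xg0 yg1 zg15) (kg xg0 yg6 zg1) (kg xg0 yg1 zg37) (kg xg0 yg2 zg49) (kg xg0 yg1 zg29) (kg xg0 yg3 zg5) (kg xg0 yg3 zg44) (kg xg0 yg2 zg21) (kg xg0 yg2 zg46) (kg xg0 yg1 zg45) (kg xg0 yg1 zg11) (kg xg0 yg6 zg16) (kg xg0 yg1 zg43) (kg xg0 yg5 zg22) (kg xg0 yg6 zg24) (kg xg0 yg1 zg14) (kg xg0 yg6 zg29) (kg xg0 yg5 zg20) (kg xg0 yg6 zg33)) (@D3.rec (fun _ => Pt) (kg xg0 yg2 zg20) (kg xg0 yg1 zg16) (kg xg0 yg3 zg9) (kg xg0 yg6 zg41) (kg xg0 yg6 zg45) (kg xg0 yg2 zg50) (kg xg0 yg3 zg2) (kg xg0 yg6 zg51) (kg xg0 yg6 zg27) (kg xg0 yg5 zg7) (kg xg0 yg6 zg58) (kg xg0 yg2 zg36) (kg xg0 yg1 zg20) (kg xg0 yg7 zg4) (kg xg0 yg2 zg32) (kg xg0 yg7 zg10) (kg xg0 yg5 zg51) (kg xg0 yg1 zg21) (kg xg0 yg7 zg21) (kg xg0 yg5 zg49) (kg xg0 yg7 zg25) (kg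 xg0 yg6 zg28) (kg xg0 yg1 zg47) (kg xg0 yg3 zg40) (kg xg0 yg5 zg58) (kg xg0 yg1 zg24) (kg xg0 yg7 zg37) (kg xg0 yg5 zg56) (kg xg0 yg1 zg28) (kg xg0 yg7 zg44) (kg xg0 yg7 zg43) (kg xg0 yg5 zg60) (kg xg0 yg3 zg36) (kg xg0 yg2 zg44) (kg xg0 yg7 zg52) (kg xg0 yg1 zg34) (kg xg0 yg3 zg42) (kg xg0 yg2 zg28) (kg xg0 yg7 zg57) (kg xg0 yg6 zg3) (kg xg0 yg3 zg20) (kg xg0 yg3 zg33) (kg xg0 yg7 zg50) (kg xg0 yg8 zg3) (kg xg0 yg2 zg51) (kg xg0 yg1 zg40) (kg xg0 yg8 zg11) (kg xg0 yg8 zg14) (kg xg0 yg1 zg41) (kg xg0 yg8 zg19) (kg xg0 yg8 zg24) (kg xg0 yg5 zg6) (kg xg0 yg7 zg54) (kg xg0 yg8 zg20) (kg xg0 yg8 zg8) (kg xg0 yg8 zg34) (kg xg0 yg4 zg14) (kg xg0 yg8 zg40) (kg xg0 yg6 zg20) (kg xg0 yg1 zg44) (kg xg0 yg8 zg48) (kg xg0 yg8 zg53)) (@D3.rec (fun _ => Pt) (kg xg0 yg6 zg17) (kg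 xg0 yg6 zg12) (kg xg0 yg4 zg16) (kg xg0 yg4 zg24) (kg xg0 yg1 zg52) (kg xg0 yg4 zg2) (kg xg0 yg1 zg50) (kg xg0 yg8 zg60) (kg xg0 yg4 zg10) (kg xg0 yg4 zg5) (kg xg0 yg9 zg2) (kg xg0 yg4 zg8) (kg xg0 yg9 zg0) (kg xg0 yg1 zg53) (kg xg0 yg3 zg55) (kg xg0 yg8 zg45) (kg xg0 yg4 zg9) (kg xg0 yg2 zg6) (kg xg0 yg1 zg61) (kg xg0 yg9 zg1) (kg xg0 yg4 zg32) (kg xg0 yg9 zg18) (kg xg0 yg2 zg4) (kg xg0 yg9 zg14) (kg xg0 yg4 zg15) (kg xg0 yg9 zg24) (kg xg0 yg9 zg25) (kg xg0 yg4 zg36) (kg xg0 yg2 zg11) (kg xg0 yg4 zg23) (kg xg0 yg9 zg32) (kg xg0 yg4 zg54) (kg xg0 yg4 zg22) (kg xg0 yg4 zg44) (kg xg0 yg2 zg8) (kg xg0 yg9 zg43) (kg xg0 yg5 zg1) (kg xg0 yg9 zg49) (kg xg0 yg4 zg40) (kg xg0 yg2 zg7) (kg xg0 yg4 zg39) (kg xg0 yg9 zg56) (kg xg0 yg4 zg27) (kg xg0 yg9 zg42) (kg xg0 yg2 zg18)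 (kg xg0 yg10 zg2) (kg xg0 yg9 zg13) (kg xg0 yg10 zg7) (kg xg0 yg9 zg37) (kg xg0 yg10 zg13) (kg xg0 yg2 zg12) (kg xg0 yg10 zg15) (kg xg0 yg4 zg31) (kg xg0 yg10 zg20) (kg xg0 yg9 zg39) (kg xg0 yg10 zg14) (kg xg0 yg10 zg27) (kg xg0 yg2 zg15) (kg xg0 yg10 zg28) (kg xg0 yg10 zg38) (kg xg0 yg10 zg32) (kg xg0 yg5 zg3)) (@D3.rec (fun _ => Pt) (kg xg0 yg2 zg16) (kg xg0 yg4 zg42) (kg xg0 yg10 zg50) (kg xg0 yg5 zg0) (kg xg0 yg9 zg22) (kg xg0 yg5 zg39) (kg xg0 yg10 zg58) (kg xg0 yg3 zg6) (kg xg0 yg11 zg0) (kg xg0 yg7 zg51) (kg xg0 yg11 zg5) (kg xg0 yg8 zg12) (kg xg0 yg6 zg36) (kg xg0 yg3 zg46) (kg xg0 yg5 zg16) (kg xg0 yg5 zg14) (kg xg0 yg2 zg25) (kg xg0 yg11 zg18) (kg xg0 yg11 zg23) (kg xg0 yg5 zg29) (kg xg0 yg2 zg56) (kg xg0 yg11 zg29) (kg xg0 yg2 zg60) (kg xg0 yg11 zg35) (kg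 xg0 yg11 zg39) (kg xg0 yg11 zg43) (kg xg0 yg5 zg37) (kg xg0 yg2 zg29) (kg xg0 yg5 zg36) (kg xg0 yg5 zg30) (kg xg0 yg2 zg31) (kg xg0 yg11 zg16) (kg xg0 yg11 zg47) (kg xg0 yg12 zg0) (kg xg0 yg12 zg4) (kg xg0 yg5 zg28) (kg xg0 yg2 zg33) (kg xg0 yg5 zg27) (kg xg0 yg5 zg5) (kg xg0 yg2 zg34) (kg xg0 yg12 zg19) (kg xg0 yg12 zg24) (kg xg0 yg8 zg9) (kg xg0 yg2 zg35) (kg xg0 yg12 zg30) (kg xg0 yg3 zg51) (kg xg0 yg12 zg34) (kg xg0 yg12 zg38) (kg xg0 yg3 zg19) (kg xg0 yg2 zg37) (kg xg0 yg12 zg49) (kg xg0 yg3 zg17) (kg xg0 yg7 zg28) (kg xg0 yg8 zg0) (kg xg0 yg6 zg2) (kg xg0 yg3 zg27) (kg xg0 yg2 zg40) (kg xg0 yg13 zg0) (kg xg0 yg3 zg25) (kg xg0 yg2 zg42) (kg xg0 yg5 zg59) (kg xg0 yg13 zg8)) (@D3.rec (fun _ => Pt) (kg xg0 yg13 zg11) (kg xg0 yg3 zg41) (kg xg0 yg5 zg53) (kg xg0 yg3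 zg35) (kg xg0 yg7 zg48) (kg xg0 yg9 zg3) (kg xg0 yg13 zg19) (kg xg0 yg13 zg23) (kg xg0 yg9 zg53) (kg xg0 yg5 zg11) (kg xg0 yg13 zg20) (kg xg0 yg13 zg24) (kg xg0 yg8 zg18) (kg xg0 yg9 zg10) (kg xg0 yg8 zg61) (kg xg0 yg8 zg41) (kg xg0 yg4 zg0) (kg xg0 yg2 zg54) (kg xg0 yg13 zg46) (kg xg0 yg13 zg51) (kg xg0 yg3 zg59) (kg xg0 yg3 zg54) (kg xg0 yg11 zg58) (kg xg0 yg12 zg8) (kg xg0 yg6 zg35) (kg xg0 yg2 zg57) (kg xg0 yg6 zg34) (kg xg0 yg3 zg8) (kg xg0 yg5 zg52) (kg xg0 yg2 zg59) (kg xg0 yg14 zg8) (kg xg0 yg12 zg15) (kg xg0 yg11 zg48) (kg xg0 yg6 zg26) (kg xg0 yg2 zg61) (kg xg0 yg6 zg25) (kg xg0 yg5 zg10) (kg xg0 yg14 zg19) (kg xg0 yg14 zg23) (kg xg0 yg14 zg27) (kg xg0 yg12 zg43) (kg xg0 yg11 zg3) (kg xg0 yg3 zg3) (kg xg0 yg14 zg39) (kg xg0 yg11 zg1) (kg xg0 yg8 zg10) (kg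 xg0 yg3 zg4) (kg xg0 yg12 zg59) (kg xg0 yg8 zg2) (kg xg0 yg14 zg50) (kg xg0 yg14 zg54) (kg xg0 yg6 zg61) (kg xg0 yg3 zg7) (kg xg0 yg15 zg2) (kg xg0 yg6 zg59) (kg xg0 yg15 zg6) (kg xg0 yg5 zg31) (kg xg0 yg15 zg11) (kg xg0 yg6 zg54) (kg xg0 yg3 zg10) (kg xg0 yg15 zg21) (kg xg0 yg6 zg52)) (@D3.rec (fun _ => Pt) (kg xg0 yg15 zg25) (kg xg0 yg14 zg59) (kg xg0 yg11 zg20) (kg xg0 yg15 zg15) (kg xg0 yg7 zg6) (kg xg0 yg3 zg13) (kg xg0 yg7 zg5) (kg xg0 yg15 zg44) (kg xg0 yg15 zg48) (kg xg0 yg15 zg52) (kg xg0 yg12 zg41) (kg xg0 yg3 zg15) (kg xg0 yg16 zg0) (kg xg0 yg12 zg39) (kg xg0 yg14 zg32) (kg xg0 yg16 zg7) (kg xg0 yg15 zg20) (kg xg0 yg14 zg5) (kg xg0 yg10 zg61) (kg xg0 yg16 zg8) (kg xg0 yg14 zg14) (kg xg0 yg12 zg52) (kg xg0 yg3 zg18) (kg xg0 yg16 zg30) (kg xg0 yg12 zg50) (kg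 xg0 yg3 zg23) (kg xg0 yg16 zg39) (kg xg0 yg16 zg44) (kg xg0 yg3 zg21) (kg xg0 yg16 zg48) (kg xg0 yg8 zg59) (kg xg0 yg16 zg40) (kg xg0 yg16 zg54) (kg xg0 yg14 zg48) (kg xg0 yg14 zg6) (kg xg0 yg11 zg4) (kg xg0 yg17 zg2) (kg xg0 yg13 zg4) (kg xg0 yg3 zg26) (kg xg0 yg17 zg11) (kg xg0 yg17 zg16) (kg xg0 yg13 zg1) (kg xg0 yg17 zg20) (kg xg0 yg6 zg4) (kg xg0 yg7 zg46) (kg xg0 yg3 zg29) (kg xg0 yg7 zg45) (kg xg0 yg17 zg22) (kg xg0 yg3 zg30) (kg xg0 yg13 zg7) (kg xg0 yg3 zg32) (kg xg0 yg6 zg48) (kg xg0 yg3 zg34) (kg xg0 yg17 zg27) (kg xg0 yg3 zg47) (kg xg0 yg17 zg30) (kg xg0 yg17 zg34) (kg xg0 yg13 zg14) (kg xg0 yg3 zg38) (kg xg0 yg17 zg45) (kg xg0 yg13 zg12) (kg xg0 yg8 zg15)) (@D3.rec (fun _ => Pt) (kg xg0 yg5 zg54) (kg xg0 yg17 zg53) (kg xg0 yg5 zg9) (kg xg0 yg8 zg17) (kg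 xg0 yg3 zg43) (kg xg0 yg17 zg61) (kg xg0 yg13 zg44) (kg xg0 yg9 zg5) (kg xg0 yg13 zg36) (kg xg0 yg5 zg43) (kg xg0 yg6 zg46) (kg xg0 yg11 zg10) (kg xg0 yg11 zg12) (kg xg0 yg18 zg13) (kg xg0 yg3 zg52) (kg xg0 yg16 zg37) (kg xg0 yg18 zg22) (kg xg0 yg8 zg4) (kg xg0 yg8 zg33) (kg xg0 yg3 zg53) (kg xg0 yg3 zg49) (kg xg0 yg18 zg33) (kg xg0 yg18 zg38) (kg xg0 yg18 zg40) (kg xg0 yg13 zg29) (kg xg0 yg3 zg50) (kg xg0 yg13 zg28) (kg xg0 yg18 zg46) (kg xg0 yg7 zg61) (kg xg0 yg18 zg51) (kg xg0 yg18 zg54) (kg xg0 yg9 zg9) (kg xg0 yg18 zg60) (kg xg0 yg4 zg1) (kg xg0 yg3 zg56) (kg xg0 yg19 zg3) (kg xg0 yg19 zg7) (kg xg0 yg19 zg10) (kg xg0 yg19 zg8) (kg xg0 yg19 zg15) (kg xg0 yg6 zg15) (kg xg0 yg3 zg57) (kg xg0 yg19 zg19) (kg xg0 yg13 zg18) (kg xg0 yg19 zg24) (kg xg0 yg4 zg3) (kg xg0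 yg18 zg6) (kg xg0 yg19 zg17) (kg xg0 yg19 zg32) (kg xg0 yg3 zg60) (kg xg0 yg19 zg33) (kg xg0 yg19 zg43) (kg xg0 yg19 zg37) (kg xg0 yg13 zg55) (kg xg0 yg3 zg61) (kg xg0 yg17 zg17) (kg xg0 yg19 zg55) (kg xg0 yg13 zg52) (kg xg0 yg19 zg59) (kg xg0 yg4 zg19) (kg xg0 yg4 zg6) (kg xg0 yg6 zg13)) (@D3.rec (fun _ => Pt) (kg xg0 yg4 zg13) (kg xg0 yg7 zg30) (kg xg0 yg4 zg11) (kg xg0 yg8 zg7) (kg xg0 yg20 zg7) (kg xg0 yg6 zg5) (kg xg0 yg20 zg3) (kg xg0 yg20 zg12) (kg xg0 yg20 zg14) (kg xg0 yg8 zg22) (kg xg0 yg6 zg14) (kg xg0 yg16 zg51) (kg xg0 yg20 zg23) (kg xg0 yg4 zg48) (kg xg0 yg9 zg23) (kg xg0 yg20 zg28) (kg xg0 yg20 zg31) (kg xg0 yg9 zg54) (kg xg0 yg9 zg20) (kg xg0 yg4 zg21) (kg xg0 yg9 zg19) (kg xg0 yg20 zg37) (kg xg0 yg9 zg40) (kg xg0 yg4 zg29) (kg xg0 yg4 zg25) (kg xg0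 yg20 zg42) (kg xg0 yg4 zg26) (kg xg0 yg20 zg43) (kg xg0 yg20 zg53) (kg xg0 yg20 zg47) (kg xg0 yg20 zg58) (kg xg0 yg4 zg43) (kg xg0 yg21 zg0) (kg xg0 yg4 zg30) (kg xg0 yg21 zg1) (kg xg0 yg21 zg10) (kg xg0 yg21 zg5) (kg xg0 yg4 zg46) (kg xg0 yg21 zg18) (kg xg0 yg4 zg52) (kg xg0 yg10 zg54) (kg xg0 yg21 zg23) (kg xg0 yg10 zg1) (kg xg0 yg9 zg58) (kg xg0 yg4 zg35) (kg xg0 yg9 zg57) (kg xg0 yg21 zg38) (kg xg0 yg21 zg42) (kg xg0 yg21 zg46) (kg xg0 yg9 zg52) (kg xg0 yg4 zg37) (kg xg0 yg21 zg28) (kg xg0 yg9 zg50) (kg xg0 yg8 zg26) (kg xg0 yg20 zg36) (kg xg0 yg9 zg17) (kg xg0 yg9 zg45) (kg xg0 yg4 zg41) (kg xg0 yg9 zg44) (kg xg0 yg22 zg6) (kg xg0 yg21 zg32) (kg xg0 yg22 zg13)) (@D3.rec (fun _ => Pt) (kg xg0 yg21 zg52) (kg xg0 yg9 zg31) (kg xg0 yg10 zg9) (kg xg0 yg4 zg45) (kg xg0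 yg10 zg8) (kg xg0 yg21 zg61) (kg xg0 yg22 zg17) (kg xg0 yg10 zg4) (kg xg0 yg4 zg47) (kg xg0 yg10 zg3) (kg xg0 yg21 zg31) (kg xg0 yg22 zg37) (kg xg0 yg20 zg41) (kg xg0 yg4 zg49) (kg xg0 yg4 zg55) (kg xg0 yg10 zg22) (kg xg0 yg4 zg51) (kg xg0 yg10 zg21) (kg xg0 yg22 zg49) (kg xg0 yg22 zg53) (kg xg0 yg10 zg17) (kg xg0 yg4 zg53) (kg xg0 yg10 zg16) (kg xg0 yg23 zg3) (kg xg0 yg23 zg7) (kg xg0 yg23 zg11) (kg xg0 yg10 zg0) (kg xg0 yg4 zg57) (kg xg0 yg4 zg60) (kg xg0 yg22 zg58) (kg xg0 yg23 zg22) (kg xg0 yg21 zg9) (kg xg0 yg4 zg58) (kg xg0 yg22 zg30) (kg xg0 yg23 zg23) (kg xg0 yg21 zg14) (kg xg0 yg22 zg39) (kg xg0 yg23 zg39) (kg xg0 yg23 zg13) (kg xg0 yg4 zg59) (kg xg0 yg23 zg49) (kg xg0 yg23 zg55) (kg xg0 yg23 zg40) (kg xg0 yg23 zg59) (kg xg0 yg22 zg43) (kg xg0 yg24 zg3) (kg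 xg0 yg22 zg57) (kg xg0 yg21 zg48) (kg xg0 yg24 zg12) (kg xg0 yg24 zg16) (kg xg0 yg10 zg52) (kg xg0 yg5 zg2) (kg xg0 yg10 zg51) (kg xg0 yg24 zg21) (kg xg0 yg5 zg4) (kg xg0 yg20 zg35) (kg xg0 yg12 zg20) (kg xg0 yg24 zg34) (kg xg0 yg5 zg45) (kg xg0 yg24 zg38) (kg xg0 yg24 zg40) (kg xg0 yg7 zg14)) (@D3.rec (fun _ => Pt) (kg xg0 yg6 zg44) (kg xg0 yg5 zg8) (kg xg0 yg24 zg51) (kg xg0 yg6 zg42) (kg xg0 yg7 zg33) (kg xg0 yg5 zg12) (kg xg0 yg24 zg58) (kg xg0 yg24 zg61) (kg xg0 yg12 zg17) (kg xg0 yg14 zg33) (kg xg0 yg5 zg13) (kg xg0 yg14 zg43) (kg xg0 yg6 zg9) (kg xg0 yg11 zg19) (kg xg0 yg25 zg12) (kg xg0 yg25 zg15) (kg xg0 yg11 zg54) (kg xg0 yg25 zg20) (kg xg0 yg11 zg13) (kg xg0 yg5 zg17) (kg xg0 yg15 zg32) (kg xg0 yg24 zg32) (kg xg0 yg25 zg29) (kg xg0 yg25 zg14) (kg xg0 yg5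 zg18) (kg xg0 yg25 zg13) (kg xg0 yg25 zg39) (kg xg0 yg25 zg43) (kg xg0 yg17 zg38) (kg xg0 yg11 zg38) (kg xg0 yg5 zg21) (kg xg0 yg25 zg54) (kg xg0 yg11 zg36) (kg xg0 yg25 zg58) (kg xg0 yg26 zg0) (kg xg0 yg11 zg32) (kg xg0 yg5 zg23) (kg xg0 yg26 zg8) (kg xg0 yg11 zg30) (kg xg0 yg11 zg41) (kg xg0 yg5 zg24) (kg xg0 yg11 zg40) (kg xg0 yg26 zg18) (kg xg0 yg12 zg7) (kg xg0 yg5 zg25) (kg xg0 yg26 zg28) (kg xg0 yg12 zg5) (kg xg0 yg26 zg32) (kg xg0 yg13 zg61) (kg xg0 yg26 zg38) (kg xg0 yg26 zg7) (kg xg0 yg6 zg32) (kg xg0 yg24 zg50) (kg xg0 yg26 zg48) (kg xg0 yg6 zg56) (kg xg0 yg14 zg0) (kg xg0 yg25 zg49) (kg xg0 yg26 zg56) (kg xg0 yg13 zg58) (kg xg0 yg27 zg0) (kg xg0 yg5 zg32) (kg xg0 yg12 zg11)) (@D3.rec (fun _ => Pt) (kg xg0 yg12 zg2) (kg xg0 yg5 zg33) (kg xg0 yg12 zg1) (kg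 xg0 yg27 zg9) (kg xg0 yg11 zg46) (kg xg0 yg5 zg34) (kg xg0 yg27 zg19) (kg xg0 yg11 zg44) (kg xg0 yg14 zg13) (kg xg0 yg27 zg26) (kg xg0 yg25 zg53) (kg xg0 yg11 zg55) (kg xg0 yg6 zg23) (kg xg0 yg14 zg38) (kg xg0 yg27 zg39) (kg xg0 yg11 zg8) (kg xg0 yg27 zg43) (kg xg0 yg6 zg31) (kg xg0 yg14 zg58) (kg xg0 yg10 zg56) (kg xg0 yg5 zg40) (kg xg0 yg27 zg56) (kg xg0 yg11 zg21) (kg xg0 yg27 zg61) (kg xg0 yg24 zg36) (kg xg0 yg5 zg41) (kg xg0 yg28 zg9) (kg xg0 yg14 zg36) (kg xg0 yg18 zg17) (kg xg0 yg13 zg9) (kg xg0 yg18 zg8) (kg xg0 yg5 zg44) (kg xg0 yg28 zg21) (kg xg0 yg14 zg44) (kg xg0 yg12 zg36) (kg xg0 yg5 zg46) (kg xg0 yg12 zg35) (kg xg0 yg28 zg31) (kg xg0 yg7 zg13) (kg xg0 yg5 zg47) (kg xg0 yg28 zg41) (kg xg0 yg7 zg11) (kg xg0 yg16 zg14) (kg xg0 yg24 zg45) (kg xg0 yg28 zg49)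 (kg xg0 yg15 zg1) (kg xg0 yg6 zg40) (kg xg0 yg28 zg50) (kg xg0 yg14 zg1) (kg xg0 yg7 zg24) (kg xg0 yg5 zg50) (kg xg0 yg29 zg4) (kg xg0 yg7 zg22) (kg xg0 yg16 zg49) (kg xg0 yg18 zg18) (kg xg0 yg29 zg15) (kg xg0 yg17 zg29) (kg xg0 yg29 zg21) (kg xg0 yg16 zg47) (kg xg0 yg18 zg9) (kg xg0 yg6 zg47) (kg xg0 yg29 zg30)) (@D3.rec (fun _ => Pt) (kg xg0 yg7 zg41) (kg xg0 yg5 zg57) (kg xg0 yg29 zg39) (kg xg0 yg29 zg44) (kg xg0 yg7 zg38) (kg xg0 yg29 zg48) (kg xg0 yg5 zg61) (kg xg0 yg28 zg19) (kg xg0 yg17 zg26) (kg xg0 yg12 zg28) (kg xg0 yg7 zg49) (kg xg0 yg7 zg60) (kg xg0 yg6 zg0) (kg xg0 yg16 zg21) (kg xg0 yg7 zg58) (kg xg0 yg17 zg28) (kg xg0 yg13 zg21) (kg xg0 yg29 zg59) (kg xg0 yg8 zg46) (kg xg0 yg6 zg10) (kg xg0 yg6 zg6) (kg xg0 yg17 zg51) (kg xg0 yg30 zg6) (kg xg0 yg6 zg11)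 (kg xg0 yg6 zg7) (kg xg0 yg30 zg10) (kg xg0 yg20 zg21) (kg xg0 yg30 zg16) (kg xg0 yg6 zg8) (kg xg0 yg8 zg25) (kg xg0 yg30 zg21) (kg xg0 yg13 zg16) (kg xg0 yg30 zg27) (kg xg0 yg30 zg30) (kg xg0 yg20 zg1) (kg xg0 yg18 zg30) (kg xg0 yg6 zg21) (kg xg0 yg30 zg38) (kg xg0 yg18 zg32) (kg xg0 yg30 zg43) (kg xg0 yg18 zg29) (kg xg0 yg19 zg16) (kg xg0 yg30 zg50) (kg xg0 yg8 zg6) (kg xg0 yg18 zg26) (kg xg0 yg19 zg18) (kg xg0 yg30 zg57) (kg xg0 yg6 zg18) (kg xg0 yg30 zg58) (kg xg0 yg31 zg6) (kg xg0 yg31 zg0) (kg xg0 yg8 zg57) (kg xg0 yg6 zg19) (kg xg0 yg29 zg45) (kg xg0 yg31 zg18) (kg xg0 yg8 zg54) (kg xg0 yg17 zg60) (kg xg0 yg6 zg22) (kg xg0 yg13 zg57) (kg xg0 yg31 zg27) (kg xg0 yg31 zg31) (kg xg0 yg11 zg51)) (@D3.rec (fun _ => Pt) (kg xg0 yg11 zg61) (kg xg0 yg16 zg22) (kg xg0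 yg17 zg44) (kg xg0 yg12 zg48) (kg xg0 yg16 zg24) (kg xg0 yg12 zg42) (kg xg0 yg12 zg58) (kg xg0 yg29 zg51) (kg xg0 yg14 zg10) (kg xg0 yg6 zg30) (kg xg0 yg14 zg9) (kg xg0 yg28 zg3) (kg xg0 yg31 zg53) (kg xg0 yg12 zg12) (kg xg0 yg28 zg59) (kg xg0 yg29 zg54) (kg xg0 yg7 zg20) (kg xg0 yg29 zg0) (kg xg0 yg32 zg0) (kg xg0 yg14 zg26) (kg xg0 yg6 zg37) (kg xg0 yg32 zg7) (kg xg0 yg14 zg24) (kg xg0 yg14 zg22) (kg xg0 yg6 zg38) (kg xg0 yg32 zg12) (kg xg0 yg14 zg20) (kg xg0 yg14 zg29) (kg xg0 yg6 zg39) (kg xg0 yg14 zg28) (kg xg0 yg32 zg20) (kg xg0 yg32 zg24) (kg xg0 yg7 zg18) (kg xg0 yg24 zg60) (kg xg0 yg27 zg40) (kg xg0 yg32 zg11) (kg xg0 yg10 zg57) (kg xg0 yg32 zg30) (kg xg0 yg12 zg9) (kg xg0 yg24 zg54) (kg xg0 yg6 zg43) (kg xg0 yg28 zg61) (kg xg0 yg24 zg52) (kg xg0 yg18 zg11)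 (kg xg0 yg10 zg59) (kg xg0 yg32 zg48) (kg xg0 yg32 zg51) (kg xg0 yg29 zg13) (kg xg0 yg7 zg35) (kg xg0 yg32 zg59) (kg xg0 yg14 zg52) (kg xg0 yg6 zg49) (kg xg0 yg14 zg51) (kg xg0 yg33 zg4) (kg xg0 yg15 zg14) (kg xg0 yg6 zg50) (kg xg0 yg33 zg13) (kg xg0 yg15 zg12) (kg xg0 yg27 zg45) (kg xg0 yg15 zg36) (kg xg0 yg33 zg21) (kg xg0 yg7 zg1)) (@D3.rec (fun _ => Pt) (kg xg0 yg33 zg22) (kg xg0 yg16 zg13) (kg xg0 yg15 zg24) (kg xg0 yg6 zg53) (kg xg0 yg33 zg34) (kg xg0 yg15 zg22) (kg xg0 yg15 zg9) (kg xg0 yg6 zg55) (kg xg0 yg33 zg43) (kg xg0 yg15 zg7) (kg xg0 yg33 zg47) (kg xg0 yg14 zg57) (kg xg0 yg6 zg57) (kg xg0 yg33 zg56) (kg xg0 yg14 zg55) (kg xg0 yg15 zg30) (kg xg0 yg34 zg0) (kg xg0 yg12 zg16) (kg xg0 yg7 zg3) (kg xg0 yg34 zg1) (kg xg0 yg28 zg54) (kg xg0 yg15 zg5) (kg xg0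 yg6 zg60) (kg xg0 yg34 zg16) (kg xg0 yg15 zg3) (kg xg0 yg15 zg27) (kg xg0 yg7 zg0) (kg xg0 yg15 zg26) (kg xg0 yg34 zg27) (kg xg0 yg34 zg31) (kg xg0 yg15 zg18) (kg xg0 yg7 zg2) (kg xg0 yg15 zg31) (kg xg0 yg34 zg39) (kg xg0 yg34 zg42) (kg xg0 yg34 zg46) (kg xg0 yg14 zg61) (kg xg0 yg34 zg35) (kg xg0 yg25 zg9) (kg xg0 yg34 zg52) (kg xg0 yg27 zg54) (kg xg0 yg33 zg60) (kg xg0 yg15 zg45) (kg xg0 yg34 zg60) (kg xg0 yg15 zg42) (kg xg0 yg7 zg7) (kg xg0 yg35 zg4) (kg xg0 yg35 zg6) (kg xg0 yg35 zg1) (kg xg0 yg7 zg8) (kg xg0 yg35 zg18) (kg xg0 yg34 zg61) (kg xg0 yg17 zg37) (kg xg0 yg7 zg9) (kg xg0 yg35 zg28) (kg xg0 yg17 zg35) (kg xg0 yg35 zg32) (kg xg0 yg35 zg36) (kg xg0 yg34 zg8) (kg xg0 yg25 zg27) (kg xg0 yg35 zg37) (kg xg0 yg31 zg57)) (@D3.rec (fun _ => Pt) (kg xg0 yg28 zg44)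 (kg xg0 yg7 zg12) (kg xg0 yg35 zg58) (kg xg0 yg28 zg42) (kg xg0 yg36 zg2) (kg xg0 yg36 zg6) (kg xg0 yg33 zg55) (kg xg0 yg7 zg19) (kg xg0 yg7 zg15) (kg xg0 yg36 zg16) (kg xg0 yg36 zg21) (kg xg0 yg7 zg16) (kg xg0 yg13 zg13) (kg xg0 yg28 zg53) (kg xg0 yg7 zg17) (kg xg0 yg36 zg26) (kg xg0 yg31 zg47) (kg xg0 yg11 zg59) (kg xg0 yg36 zg7) (kg xg0 yg26 zg39) (kg xg0 yg36 zg17) (kg xg0 yg17 zg48) (kg xg0 yg14 zg3) (kg xg0 yg32 zg44) (kg xg0 yg31 zg61) (kg xg0 yg36 zg45) (kg xg0 yg31 zg43) (kg xg0 yg24 zg53) (kg xg0 yg14 zg4) (kg xg0 yg36 zg56) (kg xg0 yg29 zg8) (kg xg0 yg7 zg23) (kg xg0 yg37 zg3) (kg xg0 yg37 zg8) (kg xg0 yg29 zg5) (kg xg0 yg29 zg49) (kg xg0 yg8 zg27) (kg xg0 yg8 zg28) (kg xg0 yg37 zg18) (kg xg0 yg7 zg31) (kg xg0 yg7 zg26) (kg xg0 yg37 zg25) (kg xg0 yg32 zg57)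 (kg xg0 yg37 zg31) (kg xg0 yg29 zg17) (kg xg0 yg7 zg27) (kg xg0 yg29 zg16) (kg xg0 yg7 zg34) (kg xg0 yg12 zg53) (kg xg0 yg7 zg29) (kg xg0 yg37 zg43) (kg xg0 yg20 zg4) (kg xg0 yg37 zg47) (kg xg0 yg24 zg56) (kg xg0 yg29 zg23) (kg xg0 yg7 zg32) (kg xg0 yg29 zg22) (kg xg0 yg37 zg54) (kg xg0 yg37 zg58) (kg xg0 yg31 zg44) (kg xg0 yg38 zg2) (kg xg0 yg38 zg5)) (@D3.rec (fun _ => Pt) (kg xg0 yg37 zg59) (kg xg0 yg38 zg11) (kg xg0 yg29 zg32) (kg xg0 yg7 zg36) (kg xg0 yg29 zg31) (kg xg0 yg38 zg18) (kg xg0 yg29 zg58) (kg xg0 yg33 zg30) (kg xg0 yg38 zg27) (kg xg0 yg30 zg1) (kg xg0 yg38 zg15) (kg xg0 yg38 zg36) (kg xg0 yg7 zg39) (kg xg0 yg38 zg37) (kg xg0 yg38 zg48) (kg xg0 yg38 zg42) (kg xg0 yg8 zg55) (kg xg0 yg7 zg40) (kg xg0 yg38 zg57) (kg xg0 yg38 zg60) (kg xg0 yg29 zg9) (kg xg0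 yg7 zg42) (kg xg0 yg17 zg54) (kg xg0 yg8 zg1) (kg xg0 yg17 zg23) (kg xg0 yg7 zg47) (kg xg0 yg13 zg6) (kg xg0 yg13 zg15) (kg xg0 yg7 zg53) (kg xg0 yg12 zg54) (kg xg0 yg17 zg32) (kg xg0 yg7 zg55) (kg xg0 yg17 zg31) (kg xg0 yg39 zg9) (kg xg0 yg15 zg55) (kg xg0 yg7 zg56) (kg xg0 yg39 zg19) (kg xg0 yg15 zg53) (kg xg0 yg26 zg3) (kg xg0 yg34 zg10) (kg xg0 yg14 zg17) (kg xg0 yg14 zg7) (kg xg0 yg11 zg28) (kg xg0 yg33 zg33) (kg xg0 yg31 zg59) (kg xg0 yg29 zg56) (kg xg0 yg7 zg59) (kg xg0 yg39 zg38) (kg xg0 yg16 zg12) (kg xg0 yg39 zg44) (kg xg0 yg29 zg37) (kg xg0 yg13 zg31) (kg xg0 yg39 zg51) (kg xg0 yg17 zg24) (kg xg0 yg17 zg25) (kg xg0 yg11 zg7) (kg xg0 yg39 zg55) (kg xg0 yg39 zg58) (kg xg0 yg18 zg44) (kg xg0 yg40 zg2) (kg xg0 yg18 zg7) (kg xg0 yg40 zg7)) (@D3.rec (fun _ => Pt)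 (kg xg0 yg8 zg5) (kg xg0 yg40 zg8) (kg xg0 yg40 zg17) (kg xg0 yg40 zg12) (kg xg0 yg29 zg34) (kg xg0 yg40 zg25) (kg xg0 yg8 zg43) (kg xg0 yg31 zg22) (kg xg0 yg12 zg31) (kg xg0 yg12 zg60) (kg xg0 yg40 zg34) (kg xg0 yg25 zg6) (kg xg0 yg30 zg22) (kg xg0 yg25 zg5) (kg xg0 yg8 zg13) (kg xg0 yg40 zg44) (kg xg0 yg40 zg48) (kg xg0 yg12 zg29) (kg xg0 yg12 zg56) (kg xg0 yg40 zg54) (kg xg0 yg40 zg57) (kg xg0 yg37 zg36) (kg xg0 yg30 zg8) (kg xg0 yg8 zg16) (kg xg0 yg30 zg7) (kg xg0 yg41 zg8) (kg xg0 yg13 zg43) (kg xg0 yg19 zg60) (kg xg0 yg41 zg15) (kg xg0 yg13 zg38) (kg xg0 yg19 zg1) (kg xg0 yg41 zg22) (kg xg0 yg13 zg40) (kg xg0 yg30 zg32) (kg xg0 yg8 zg21) (kg xg0 yg30 zg31) (kg xg0 yg41 zg36) (kg xg0 yg41 zg40) (kg xg0 yg8 zg31) (kg xg0 yg41 zg46) (kg xg0 yg30 zg19) (kg xg0 yg8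 zg23) (kg xg0 yg41 zg21) (kg xg0 yg30 zg17) (kg xg0 yg41 zg57) (kg xg0 yg17 zg58) (kg xg0 yg24 zg37) (kg xg0 yg40 zg43) (kg xg0 yg42 zg4) (kg xg0 yg42 zg6) (kg xg0 yg37 zg51) (kg xg0 yg30 zg29) (kg xg0 yg8 zg29) (kg xg0 yg30 zg28) (kg xg0 yg30 zg12) (kg xg0 yg8 zg30) (kg xg0 yg30 zg11) (kg xg0 yg42 zg27) (kg xg0 yg42 zg31) (kg xg0 yg42 zg35) (kg xg0 yg30 zg37) (kg xg0 yg8 zg32)) (@D3.rec (fun _ => Pt) (kg xg0 yg41 zg53) (kg xg0 yg20 zg22) (kg xg0 yg42 zg45) (kg xg0 yg30 zg45) (kg xg0 yg8 zg35) (kg xg0 yg30 zg44) (kg xg0 yg42 zg54) (kg xg0 yg8 zg38) (kg xg0 yg8 zg36) (kg xg0 yg43 zg0) (kg xg0 yg30 zg40) (kg xg0 yg8 zg37) (kg xg0 yg30 zg39) (kg xg0 yg43 zg6) (kg xg0 yg43 zg8) (kg xg0 yg13 zg41) (kg xg0 yg8 zg39) (kg xg0 yg13 zg45) (kg xg0 yg8 zg47) (kg xg0 yg23 zg0) (kg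 xg0 yg8 zg42) (kg xg0 yg23 zg4) (kg xg0 yg43 zg22) (kg xg0 yg43 zg26) (kg xg0 yg30 zg52) (kg xg0 yg8 zg44) (kg xg0 yg30 zg51) (kg xg0 yg43 zg36) (kg xg0 yg43 zg39) (kg xg0 yg20 zg13) (kg xg0 yg43 zg41) (kg xg0 yg43 zg13) (kg xg0 yg8 zg49) (kg xg0 yg8 zg52) (kg xg0 yg43 zg31) (kg xg0 yg43 zg52) (kg xg0 yg40 zg16) (kg xg0 yg8 zg50) (kg xg0 yg43 zg3) (kg xg0 yg22 zg22) (kg xg0 yg40 zg21) (kg xg0 yg43 zg12) (kg xg0 yg44 zg7) (kg xg0 yg43 zg45) (kg xg0 yg8 zg51) (kg xg0 yg44 zg17) (kg xg0 yg44 zg23) (kg xg0 yg44 zg8) (kg xg0 yg44 zg27) (kg xg0 yg43 zg17) (kg xg0 yg44 zg33) (kg xg0 yg43 zg30) (kg xg0 yg44 zg40) (kg xg0 yg44 zg44) (kg xg0 yg44 zg48) (kg xg0 yg31 zg20) (kg xg0 yg8 zg56) (kg xg0 yg31 zg19) (kg xg0 yg44 zg61) (kg xg0 yg18 zg27) (kg xg0 yg8 zg58) (kg xg0 yg40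 zg0)) (@D3.rec (fun _ => Pt) (kg xg0 yg45 zg8) (kg xg0 yg13 zg26) (kg xg0 yg9 zg6) (kg xg0 yg37 zg46) (kg xg0 yg20 zg11) (kg xg0 yg45 zg13) (kg xg0 yg21 zg55) (kg xg0 yg20 zg30) (kg xg0 yg9 zg4) (kg xg0 yg20 zg29) (kg xg0 yg45 zg18) (kg xg0 yg9 zg11) (kg xg0 yg19 zg29) (kg xg0 yg9 zg7) (kg xg0 yg45 zg21) (kg xg0 yg9 zg8) (kg xg0 yg23 zg19) (kg xg0 yg45 zg27) (kg xg0 yg23 zg33) (kg xg0 yg29 zg19) (kg xg0 yg45 zg35) (kg xg0 yg13 zg34) (kg xg0 yg13 zg35) (kg xg0 yg21 zg25) (kg xg0 yg9 zg12) (kg xg0 yg21 zg24) (kg xg0 yg45 zg46) (kg xg0 yg45 zg50) (kg xg0 yg20 zg9) (kg xg0 yg9 zg15) (kg xg0 yg20 zg8) (kg xg0 yg20 zg39) (kg xg0 yg9 zg16) (kg xg0 yg20 zg38) (kg xg0 yg45 zg57) (kg xg0 yg21 zg22) (kg xg0 yg9 zg55) (kg xg0 yg20 zg33) (kg xg0 yg9 zg21) (kg xg0 yg20 zg32) (kg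 xg0 yg45 zg54) (kg xg0 yg21 zg58) (kg xg0 yg9 zg26) (kg xg0 yg9 zg29) (kg xg0 yg22 zg31) (kg xg0 yg46 zg10) (kg xg0 yg45 zg45) (kg xg0 yg9 zg27) (kg xg0 yg46 zg17) (kg xg0 yg43 zg19) (kg xg0 yg21 zg16) (kg xg0 yg22 zg41) (kg xg0 yg24 zg13) (kg xg0 yg24 zg14) (kg xg0 yg9 zg28) (kg xg0 yg46 zg35) (kg xg0 yg46 zg39) (kg xg0 yg46 zg42) (kg xg0 yg20 zg60) (kg xg0 yg9 zg30) (kg xg0 yg20 zg59) (kg xg0 yg9 zg51)) (@D3.rec (fun _ => Pt) (kg xg0 yg9 zg33) (kg xg0 yg9 zg36) (kg xg0 yg46 zg1) (kg xg0 yg46 zg61) (kg xg0 yg47 zg5) (kg xg0 yg9 zg34) (kg xg0 yg21 zg60) (kg xg0 yg47 zg0) (kg xg0 yg21 zg15) (kg xg0 yg10 zg35) (kg xg0 yg46 zg51) (kg xg0 yg9 zg35) (kg xg0 yg47 zg22) (kg xg0 yg47 zg28) (kg xg0 yg10 zg31) (kg xg0 yg47 zg32) (kg xg0 yg20 zg46) (kg xg0 yg47 zg36) (kg xg0 yg21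 zg20) (kg xg0 yg9 zg38) (kg xg0 yg21 zg19) (kg xg0 yg47 zg40) (kg xg0 yg24 zg30) (kg xg0 yg20 zg25) (kg xg0 yg9 zg41) (kg xg0 yg20 zg24) (kg xg0 yg47 zg10) (kg xg0 yg47 zg54) (kg xg0 yg21 zg54) (kg xg0 yg45 zg42) (kg xg0 yg47 zg8) (kg xg0 yg22 zg24) (kg xg0 yg48 zg3) (kg xg0 yg40 zg10) (kg xg0 yg46 zg53) (kg xg0 yg10 zg10) (kg xg0 yg22 zg7) (kg xg0 yg48 zg13) (kg xg0 yg22 zg4) (kg xg0 yg9 zg46) (kg xg0 yg48 zg23) (kg xg0 yg48 zg27) (kg xg0 yg48 zg16) (kg xg0 yg9 zg47) (kg xg0 yg48 zg4) (kg xg0 yg48 zg14) (kg xg0 yg21 zg49) (kg xg0 yg9 zg48) (kg xg0 yg24 zg11) (kg xg0 yg21 zg47) (kg xg0 yg48 zg44) (kg xg0 yg45 zg41) (kg xg0 yg22 zg18) (kg xg0 yg46 zg49) (kg xg0 yg20 zg61) (kg xg0 yg40 zg1) (kg xg0 yg47 zg7) (kg xg0 yg21 zg4) (kg xg0 yg22 zg40) (kg xg0 yg47 zg49) (kg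 xg0 yg48 zg61) (kg xg0 yg22 zg33)) (@D3.rec (fun _ => Pt) (kg xg0 yg49 zg3) (kg xg0 yg21 zg6) (kg xg0 yg10 zg5) (kg xg0 yg22 zg12) (kg xg0 yg21 zg39) (kg xg0 yg22 zg3) (kg xg0 yg21 zg36) (kg xg0 yg9 zg59) (kg xg0 yg49 zg21) (kg xg0 yg49 zg25) (kg xg0 yg9 zg60) (kg xg0 yg49 zg31) (kg xg0 yg22 zg21) (kg xg0 yg22 zg16) (kg xg0 yg9 zg61) (kg xg0 yg47 zg46) (kg xg0 yg22 zg14) (kg xg0 yg22 zg28) (kg xg0 yg10 zg26) (kg xg0 yg20 zg48) (kg xg0 yg23 zg30) (kg xg0 yg22 zg5) (kg xg0 yg19 zg35) (kg xg0 yg23 zg15) (kg xg0 yg21 zg35) (kg xg0 yg49 zg51) (kg xg0 yg49 zg55) (kg xg0 yg10 zg6) (kg xg0 yg22 zg27) (kg xg0 yg46 zg7) (kg xg0 yg49 zg60) (kg xg0 yg43 zg55) (kg xg0 yg10 zg33) (kg xg0 yg22 zg2) (kg xg0 yg22 zg38) (kg xg0 yg50 zg3) (kg xg0 yg50 zg7) (kg xg0 yg22 zg34) (kg xg0 yg10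 zg11) (kg xg0 yg23 zg29) (kg xg0 yg10 zg12) (kg xg0 yg46 zg16) (kg xg0 yg46 zg19) (kg xg0 yg24 zg6) (kg xg0 yg46 zg4) (kg xg0 yg23 zg18) (kg xg0 yg50 zg15) (kg xg0 yg10 zg44) (kg xg0 yg23 zg8) (kg xg0 yg23 zg1) (kg xg0 yg10 zg18) (kg xg0 yg50 zg33) (kg xg0 yg50 zg37) (kg xg0 yg22 zg55) (kg xg0 yg10 zg19) (kg xg0 yg22 zg54) (kg xg0 yg50 zg45) (kg xg0 yg24 zg0) (kg xg0 yg50 zg50) (kg xg0 yg50 zg46) (kg xg0 yg10 zg46) (kg xg0 yg20 zg40)) (@D3.rec (fun _ => Pt) (kg xg0 yg19 zg20) (kg xg0 yg22 zg50) (kg xg0 yg23 zg12) (kg xg0 yg19 zg21) (kg xg0 yg10 zg23) (kg xg0 yg51 zg6) (kg xg0 yg51 zg10) (kg xg0 yg22 zg48) (kg xg0 yg10 zg24) (kg xg0 yg51 zg18) (kg xg0 yg51 zg22) (kg xg0 yg23 zg2) (kg xg0 yg10 zg25) (kg xg0 yg10 zg39) (kg xg0 yg21 zg8) (kg xg0 yg22 zg20) (kg xg0 yg43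 zg4) (kg xg0 yg10 zg29) (kg xg0 yg49 zg43) (kg xg0 yg20 zg18) (kg xg0 yg51 zg15) (kg xg0 yg22 zg45) (kg xg0 yg10 zg34) (kg xg0 yg10 zg30) (kg xg0 yg42 zg48) (kg xg0 yg51 zg45) (kg xg0 yg49 zg47) (kg xg0 yg51 zg51) (kg xg0 yg51 zg56) (kg xg0 yg23 zg38) (kg xg0 yg22 zg23) (kg xg0 yg47 zg61) (kg xg0 yg50 zg10) (kg xg0 yg20 zg16) (kg xg0 yg51 zg46) (kg xg0 yg52 zg4) (kg xg0 yg51 zg52) (kg xg0 yg22 zg11) (kg xg0 yg10 zg36) (kg xg0 yg10 zg42) (kg xg0 yg10 zg37) (kg xg0 yg52 zg17) (kg xg0 yg52 zg22) (kg xg0 yg50 zg51) (kg xg0 yg52 zg28) (kg xg0 yg52 zg33) (kg xg0 yg49 zg61) (kg xg0 yg52 zg29) (kg xg0 yg48 zg29) (kg xg0 yg51 zg28) (kg xg0 yg10 zg40) (kg xg0 yg52 zg53) (kg xg0 yg52 zg57) (kg xg0 yg53 zg0) (kg xg0 yg52 zg18) (kg xg0 yg52 zg24) (kg xg0 yg10 zg41) (kg xg0 yg52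 zg23) (kg xg0 yg53 zg14) (kg xg0 yg46 zg52) (kg xg0 yg10 zg43) (kg xg0 yg47 zg6)) (@D3.rec (fun _ => Pt) (kg xg0 yg22 zg60) (kg xg0 yg53 zg25) (kg xg0 yg53 zg29) (kg xg0 yg24 zg5) (kg xg0 yg10 zg45) (kg xg0 yg24 zg4) (kg xg0 yg22 zg47) (kg xg0 yg53 zg38) (kg xg0 yg53 zg42) (kg xg0 yg10 zg47) (kg xg0 yg53 zg48) (kg xg0 yg24 zg9) (kg xg0 yg20 zg52) (kg xg0 yg10 zg48) (kg xg0 yg20 zg54) (kg xg0 yg53 zg57) (kg xg0 yg24 zg19) (kg xg0 yg10 zg49) (kg xg0 yg54 zg2) (kg xg0 yg24 zg17) (kg xg0 yg54 zg4) (kg xg0 yg24 zg27) (kg xg0 yg48 zg52) (kg xg0 yg53 zg47) (kg xg0 yg50 zg49) (kg xg0 yg10 zg53) (kg xg0 yg50 zg41) (kg xg0 yg24 zg25) (kg xg0 yg54 zg15) (kg xg0 yg22 zg44) (kg xg0 yg10 zg55) (kg xg0 yg21 zg53) (kg xg0 yg25 zg10) (kg xg0 yg54 zg21) (kg xg0 yg12 zg27) (kg xg0 yg54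 zg28) (kg xg0 yg12 zg25) (kg xg0 yg16 zg36) (kg xg0 yg12 zg33) (kg xg0 yg54 zg34) (kg xg0 yg24 zg42) (kg xg0 yg10 zg60) (kg xg0 yg24 zg41) (kg xg0 yg54 zg41) (kg xg0 yg54 zg45) (kg xg0 yg12 zg46) (kg xg0 yg26 zg49) (kg xg0 yg32 zg6) (kg xg0 yg11 zg6) (kg xg0 yg42 zg17) (kg xg0 yg11 zg49) (kg xg0 yg14 zg42) (kg xg0 yg11 zg2) (kg xg0 yg16 zg23) (kg xg0 yg14 zg40) (kg xg0 yg54 zg61) (kg xg0 yg16 zg42) (kg xg0 yg55 zg4) (kg xg0 yg25 zg4) (kg xg0 yg55 zg9) (kg xg0 yg25 zg2) (kg xg0 yg25 zg8)) (@D3.rec (fun _ => Pt) (kg xg0 yg28 zg17) (kg xg0 yg54 zg25) (kg xg0 yg11 zg9) (kg xg0 yg32 zg38) (kg xg0 yg24 zg48) (kg xg0 yg18 zg14) (kg xg0 yg11 zg11) (kg xg0 yg54 zg33) (kg xg0 yg17 zg55) (kg xg0 yg15 zg37) (kg xg0 yg12 zg22) (kg xg0 yg31 zg35) (kg xg0 yg11 zg25) (kg xg0 yg11 zg14)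 (kg xg0 yg11 zg24) (kg xg0 yg25 zg23) (kg xg0 yg11 zg15) (kg xg0 yg55 zg42) (kg xg0 yg25 zg21) (kg xg0 yg55 zg46) (kg xg0 yg25 zg18) (kg xg0 yg11 zg17) (kg xg0 yg55 zg56) (kg xg0 yg25 zg16) (kg xg0 yg55 zg36) (kg xg0 yg27 zg51) (kg xg0 yg55 zg50) (kg xg0 yg56 zg3) (kg xg0 yg56 zg6) (kg xg0 yg55 zg31) (kg xg0 yg11 zg22) (kg xg0 yg56 zg16) (kg xg0 yg27 zg32) (kg xg0 yg27 zg2) (kg xg0 yg56 zg22) (kg xg0 yg55 zg55) (kg xg0 yg26 zg52) (kg xg0 yg54 zg53) (kg xg0 yg56 zg32) (kg xg0 yg26 zg55) (kg xg0 yg11 zg26) (kg xg0 yg56 zg39) (kg xg0 yg26 zg53) (kg xg0 yg25 zg45) (kg xg0 yg11 zg27) (kg xg0 yg25 zg44) (kg xg0 yg56 zg48) (kg xg0 yg56 zg52) (kg xg0 yg26 zg1) (kg xg0 yg25 zg42) (kg xg0 yg56 zg58) (kg xg0 yg11 zg53) (kg xg0 yg56 zg59) (kg xg0 yg26 zg43) (kg xg0 yg26 zg11) (kg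 xg0 yg11 zg31) (kg xg0 yg39 zg34) (kg xg0 yg26 zg9) (kg xg0 yg25 zg60) (kg xg0 yg11 zg33) (kg xg0 yg25 zg59) (kg xg0 yg57 zg14)) (@D3.rec (fun _ => Pt) (kg xg0 yg25 zg48) (kg xg0 yg11 zg34) (kg xg0 yg57 zg23) (kg xg0 yg17 zg42) (kg xg0 yg57 zg26) (kg xg0 yg12 zg14) (kg xg0 yg57 zg27) (kg xg0 yg27 zg31) (kg xg0 yg25 zg57) (kg xg0 yg11 zg37) (kg xg0 yg36 zg40) (kg xg0 yg25 zg55) (kg xg0 yg57 zg37) (kg xg0 yg57 zg39) (kg xg0 yg12 zg21) (kg xg0 yg32 zg61) (kg xg0 yg39 zg13) (kg xg0 yg57 zg47) (kg xg0 yg57 zg50) (kg xg0 yg11 zg42) (kg xg0 yg57 zg59) (kg xg0 yg57 zg48) (kg xg0 yg58 zg1) (kg xg0 yg35 zg49) (kg xg0 yg39 zg18) (kg xg0 yg39 zg6) (kg xg0 yg58 zg6) (kg xg0 yg35 zg53) (kg xg0 yg27 zg22) (kg xg0 yg11 zg45) (kg xg0 yg58 zg25) (kg xg0 yg27 zg20) (kg xg0 yg11 zg60)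 (kg xg0 yg58 zg31) (kg xg0 yg58 zg34) (kg xg0 yg58 zg38) (kg xg0 yg58 zg42) (kg xg0 yg57 zg22) (kg xg0 yg11 zg52) (kg xg0 yg58 zg49) (kg xg0 yg24 zg47) (kg xg0 yg11 zg50) (kg xg0 yg14 zg25) (kg xg0 yg27 zg29) (kg xg0 yg57 zg11) (kg xg0 yg58 zg43) (kg xg0 yg58 zg58) (kg xg0 yg16 zg19) (kg xg0 yg27 zg41) (kg xg0 yg24 zg49) (kg xg0 yg26 zg5) (kg xg0 yg32 zg15) (kg xg0 yg25 zg33) (kg xg0 yg11 zg56) (kg xg0 yg57 zg2) (kg xg0 yg25 zg40) (kg xg0 yg26 zg58) (kg xg0 yg11 zg57) (kg xg0 yg26 zg57) (kg xg0 yg34 zg21) (kg xg0 yg59 zg12) (kg xg0 yg59 zg16)) (@D3.rec (fun _ => Pt) (kg xg0 yg36 zg31) (kg xg0 yg59 zg21) (kg xg0 yg25 zg36) (kg xg0 yg32 zg36) (kg xg0 yg59 zg26) (kg xg0 yg59 zg28) (kg xg0 yg27 zg58) (kg xg0 yg35 zg22) (kg xg0 yg59 zg36) (kg xg0 yg59 zg39) (kg xg0 yg12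 zg3) (kg xg0 yg59 zg46) (kg xg0 yg59 zg37) (kg xg0 yg59 zg50) (kg xg0 yg59 zg54) (kg xg0 yg35 zg27) (kg xg0 yg35 zg2) (kg xg0 yg59 zg55) (kg xg1 yg0 zg4) (kg xg0 yg26 zg31) (kg xg0 yg12 zg6) (kg xg1 yg0 zg12) (kg xg0 yg26 zg29) (kg xg1 yg0 zg16) (kg xg0 yg36 zg36) (kg xg0 yg39 zg32) (kg xg0 yg12 zg13) (kg xg0 yg36 zg37) (kg xg0 yg14 zg35) (kg xg0 yg12 zg10) (kg xg0 yg14 zg21) (kg xg0 yg26 zg41) (kg xg0 yg25 zg11) (kg xg0 yg28 zg8) (kg xg1 yg0 zg33) (kg xg0 yg56 zg45) (kg xg1 yg0 zg20) (kg xg0 yg36 zg44) (kg xg0 yg28 zg57) (kg xg0 yg26 zg50) (kg xg0 yg14 zg37) (kg xg0 yg25 zg51) (kg xg1 yg0 zg46) (kg xg0 yg27 zg50) (kg xg1 yg0 zg51) (kg xg0 yg27 zg48) (kg xg0 yg57 zg10) (kg xg0 yg57 zg18) (kg xg0 yg12 zg18) (kg xg0 yg33 zg29) (kg xg0 yg15 zg17) (kg xg0 yg15 zg40) (kg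 xg1 yg0 zg49) (kg xg0 yg39 zg5) (kg xg0 yg25 zg25) (kg xg0 yg33 zg17) (kg xg0 yg27 zg57) (kg xg0 yg26 zg14) (kg xg0 yg27 zg53) (kg xg1 yg1 zg11) (kg xg0 yg57 zg51) (kg xg0 yg54 zg24)) (@D3.rec (fun _ => Pt) (kg xg0 yg12 zg23) (kg xg1 yg1 zg22) (kg xg0 yg54 zg22) (kg xg0 yg55 zg15) (kg xg1 yg0 zg34) (kg xg1 yg0 zg60) (kg xg0 yg14 zg11) (kg xg1 yg1 zg29) (kg xg0 yg31 zg36) (kg xg0 yg54 zg30) (kg xg0 yg12 zg26) (kg xg1 yg1 zg42) (kg xg0 yg32 zg40) (kg xg1 yg1 zg48) (kg xg0 yg41 zg1) (kg xg1 yg1 zg49) (kg xg1 yg1 zg58) (kg xg0 yg55 zg26) (kg xg0 yg25 zg0) (kg xg0 yg13 zg10) (kg xg1 yg2 zg3) (kg xg0 yg40 zg30) (kg xg0 yg12 zg32) (kg xg1 yg2 zg11) (kg xg0 yg40 zg46) (kg xg0 yg39 zg53) (kg xg1 yg2 zg21) (kg xg0 yg34 zg23) (kg xg1 yg2 zg24) (kg xg0 yg33 zg19) (kg xg0 yg56 zg10)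 (kg xg1 yg2 zg32) (kg xg0 yg12 zg37) (kg xg1 yg2 zg38) (kg xg1 yg2 zg30) (kg xg0 yg56 zg5) (kg xg0 yg58 zg17) (kg xg0 yg33 zg26) (kg xg0 yg34 zg22) (kg xg1 yg2 zg44) (kg xg0 yg31 zg38) (kg xg0 yg16 zg3) (kg xg0 yg12 zg40) (kg xg1 yg2 zg60) (kg xg0 yg16 zg1) (kg xg0 yg36 zg27) (kg xg0 yg33 zg42) (kg xg1 yg0 zg42) (kg xg0 yg33 zg12) (kg xg0 yg12 zg47) (kg xg0 yg12 zg44) (kg xg1 yg0 zg45) (kg xg1 yg3 zg18) (kg xg0 yg12 zg45) (kg xg0 yg16 zg11) (kg xg0 yg33 zg0) (kg xg1 yg3 zg8) (kg xg0 yg27 zg27) (kg xg1 yg3 zg14) (kg xg0 yg14 zg16) (kg xg0 yg36 zg25) (kg xg0 yg54 zg60)) (@D3.rec (fun _ => Pt) (kg xg0 yg31 zg42) (kg xg1 yg3 zg31) (kg xg0 yg14 zg41) (kg xg1 yg3 zg37) (kg xg0 yg16 zg34) (kg xg0 yg12 zg51) (kg xg1 yg3 zg45) (kg xg1 yg3 zg50) (kg xg0 yg16 zg31) (kg xg0 yg17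 zg21) (kg xg0 yg37 zg44) (kg xg1 yg3 zg57) (kg xg0 yg42 zg15) (kg xg0 yg20 zg19) (kg xg0 yg41 zg2) (kg xg0 yg16 zg46) (kg xg0 yg12 zg55) (kg xg0 yg16 zg45) (kg xg1 yg4 zg7) (kg xg0 yg14 zg47) (kg xg0 yg42 zg12) (kg xg0 yg16 zg56) (kg xg0 yg12 zg57) (kg xg0 yg16 zg55) (kg xg0 yg37 zg41) (kg xg1 yg4 zg15) (kg xg0 yg37 zg24) (kg xg1 yg4 zg20) (kg xg0 yg37 zg21) (kg xg1 yg4 zg26) (kg xg0 yg17 zg4) (kg xg0 yg12 zg61) (kg xg0 yg17 zg3) (kg xg1 yg4 zg32) (kg xg0 yg17 zg50) (kg xg0 yg34 zg11) (kg xg1 yg4 zg40) (kg xg0 yg18 zg4) (kg xg1 yg4 zg30) (kg xg1 yg4 zg49) (kg xg0 yg13 zg2) (kg xg1 yg4 zg50) (kg xg1 yg4 zg61) (kg xg1 yg4 zg55) (kg xg0 yg13 zg53) (kg xg0 yg13 zg3) (kg xg1 yg5 zg8) (kg xg1 yg5 zg11) (kg xg0 yg16 zg35) (kg xg0 yg13 zg5) (kg xg0 yg18 zg15) (kg xg0 yg31 zg46)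 (kg xg0 yg33 zg28) (kg xg0 yg34 zg15) (kg xg0 yg31 zg40) (kg xg0 yg57 zg3) (kg xg0 yg17 zg46) (kg xg1 yg5 zg26) (kg xg0 yg17 zg9) (kg xg0 yg41 zg10) (kg xg0 yg13 zg17) (kg xg0 yg41 zg9)) (@D3.rec (fun _ => Pt) (kg xg1 yg5 zg36) (kg xg0 yg17 zg6) (kg xg1 yg5 zg42) (kg xg1 yg5 zg45) (kg xg1 yg5 zg47) (kg xg1 yg4 zg2) (kg xg0 yg18 zg24) (kg xg0 yg13 zg22) (kg xg0 yg18 zg23) (kg xg1 yg5 zg58) (kg xg0 yg18 zg56) (kg xg0 yg13 zg25) (kg xg0 yg18 zg55) (kg xg1 yg6 zg3) (kg xg1 yg6 zg7) (kg xg1 yg6 zg11) (kg xg0 yg18 zg43) (kg xg0 yg13 zg27) (kg xg0 yg42 zg40) (kg xg0 yg18 zg41) (kg xg0 yg20 zg6) (kg xg0 yg18 zg12) (kg xg0 yg13 zg30) (kg xg0 yg42 zg0) (kg xg1 yg6 zg26) (kg xg1 yg6 zg29) (kg xg1 yg4 zg13) (kg xg0 yg18 zg53) (kg xg0 yg13 zg32) (kg xg0 yg18 zg52) (kg xg0 yg18 zg35)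 (kg xg0 yg13 zg33) (kg xg0 yg18 zg34) (kg xg1 yg6 zg44) (kg xg0 yg41 zg30) (kg xg1 yg6 zg51) (kg xg1 yg6 zg17) (kg xg0 yg18 zg61) (kg xg0 yg19 zg12) (kg xg0 yg13 zg37) (kg xg0 yg19 zg11) (kg xg0 yg42 zg20) (kg xg1 yg7 zg0) (kg xg0 yg19 zg5) (kg xg0 yg13 zg39) (kg xg0 yg19 zg4) (kg xg0 yg41 zg29) (kg xg1 yg7 zg9) (kg xg0 yg42 zg23) (kg xg0 yg43 zg9) (kg xg0 yg19 zg26) (kg xg0 yg13 zg42) (kg xg0 yg19 zg25) (kg xg1 yg7 zg17) (kg xg1 yg7 zg21) (kg xg1 yg7 zg24) (kg xg0 yg43 zg15) (kg xg0 yg13 zg47) (kg xg0 yg13 zg50) (kg xg0 yg51 zg3) (kg xg1 yg7 zg32) (kg xg1 yg5 zg35)) (@D3.rec (fun _ => Pt) (kg xg0 yg13 zg48) (kg xg1 yg7 zg3) (kg xg0 yg42 zg51) (kg xg0 yg41 zg11) (kg xg0 yg43 zg14) (kg xg1 yg7 zg42) (kg xg1 yg7 zg27) (kg xg0 yg13 zg49) (kg xg1 yg7 zg52) (kg xg1 yg7 zg58)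 (kg xg1 yg7 zg43) (kg xg1 yg8 zg0) (kg xg1 yg7 zg12) (kg xg1 yg8 zg6) (kg xg0 yg51 zg2) (kg xg1 yg8 zg13) (kg xg1 yg8 zg17) (kg xg1 yg8 zg21) (kg xg0 yg19 zg57) (kg xg0 yg13 zg54) (kg xg0 yg19 zg56) (kg xg1 yg8 zg32) (kg xg0 yg13 zg56) (kg xg0 yg45 zg17) (kg xg1 yg8 zg38) (kg xg0 yg39 zg23) (kg xg1 yg8 zg43) (kg xg1 yg8 zg46) (kg xg0 yg13 zg59) (kg xg1 yg8 zg55) (kg xg1 yg8 zg44) (kg xg0 yg31 zg56) (kg xg0 yg13 zg60) (kg xg0 yg58 zg20) (kg xg0 yg31 zg54) (kg xg0 yg25 zg32) (kg xg0 yg58 zg48) (kg xg0 yg56 zg38) (kg xg0 yg35 zg50) (kg xg0 yg14 zg2) (kg xg0 yg31 zg58) (kg xg0 yg28 zg40) (kg xg0 yg17 zg40) (kg xg0 yg28 zg60) (kg xg0 yg29 zg24) (kg xg0 yg36 zg29) (kg xg0 yg17 zg41) (kg xg0 yg36 zg30) (kg xg0 yg39 zg29) (kg xg0 yg16 zg16) (kg xg1 yg3 zg28) (kg xg1 yg9 zg18)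 (kg xg0 yg32 zg34) (kg xg0 yg31 zg34) (kg xg0 yg14 zg12) (kg xg1 yg0 zg7) (kg xg0 yg31 zg32) (kg xg1 yg0 zg26) (kg xg0 yg14 zg15) (kg xg0 yg31 zg39) (kg xg0 yg15 zg61) (kg xg0 yg16 zg28)) (@D3.rec (fun _ => Pt) (kg xg0 yg55 zg6) (kg xg0 yg14 zg18) (kg xg1 yg9 zg33) (kg xg0 yg33 zg40) (kg xg0 yg57 zg31) (kg xg0 yg58 zg51) (kg xg0 yg32 zg33) (kg xg0 yg32 zg13) (kg xg0 yg26 zg42) (kg xg0 yg57 zg1) (kg xg1 yg0 zg29) (kg xg0 yg54 zg51) (kg xg0 yg32 zg8) (kg xg0 yg27 zg30) (kg xg0 yg33 zg1) (kg xg0 yg58 zg61) (kg xg1 yg9 zg42) (kg xg0 yg26 zg51) (kg xg0 yg33 zg8) (kg xg1 yg9 zg49) (kg xg1 yg9 zg52) (kg xg0 yg14 zg30) (kg xg1 yg9 zg61) (kg xg1 yg9 zg50) (kg xg0 yg54 zg48) (kg xg0 yg14 zg31) (kg xg0 yg35 zg52) (kg xg0 yg54 zg46) (kg xg1 yg10 zg11) (kg xg1 yg10 zg15) (kg xg0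 yg14 zg34) (kg xg0 yg36 zg14) (kg xg0 yg41 zg4) (kg xg0 yg26 zg40) (kg xg0 yg25 zg1) (kg xg1 yg10 zg23) (kg xg0 yg26 zg33) (kg xg0 yg36 zg15) (kg xg0 yg55 zg11) (kg xg1 yg10 zg27) (kg xg0 yg24 zg35) (kg xg0 yg42 zg13) (kg xg1 yg10 zg33) (kg xg1 yg3 zg16) (kg xg0 yg16 zg27) (kg xg0 yg40 zg35) (kg xg0 yg25 zg7) (kg xg1 yg10 zg44) (kg xg0 yg39 zg57) (kg xg0 yg14 zg45) (kg xg0 yg39 zg56) (kg xg1 yg10 zg46) (kg xg0 yg14 zg46) (kg xg1 yg10 zg47) (kg xg1 yg10 zg58) (kg xg1 yg10 zg52) (kg xg1 yg11 zg2) (kg xg0 yg16 zg53) (kg xg1 yg5 zg15) (kg xg0 yg40 zg36) (kg xg0 yg14 zg49) (kg xg0 yg26 zg12)) (@D3.rec (fun _ => Pt) (kg xg0 yg36 zg3) (kg xg0 yg59 zg8) (kg xg0 yg16 zg4) (kg xg1 yg11 zg16) (kg xg1 yg11 zg19) (kg xg0 yg14 zg53) (kg xg1 yg11 zg28) (kg xg1 yg11 zg17) (kg xg1 yg9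 zg44) (kg xg1 yg11 zg33) (kg xg0 yg54 zg38) (kg xg1 yg11 zg34) (kg xg0 yg36 zg12) (kg xg0 yg33 zg59) (kg xg0 yg14 zg56) (kg xg1 yg11 zg50) (kg xg0 yg33 zg57) (kg xg1 yg1 zg3) (kg xg1 yg11 zg58) (kg xg1 yg2 zg26) (kg xg1 yg12 zg0) (kg xg0 yg15 zg0) (kg xg0 yg14 zg60) (kg xg1 yg12 zg7) (kg xg0 yg15 zg39) (kg xg1 yg12 zg1) (kg xg0 yg35 zg41) (kg xg1 yg12 zg8) (kg xg0 yg29 zg53) (kg xg1 yg0 zg53) (kg xg1 yg4 zg39) (kg xg0 yg16 zg29) (kg xg0 yg17 zg7) (kg xg0 yg17 zg39) (kg xg0 yg34 zg20) (kg xg0 yg15 zg4) (kg xg1 yg12 zg33) (kg xg1 yg12 zg38) (kg xg0 yg34 zg17) (kg xg1 yg12 zg4) (kg xg0 yg24 zg57) (kg xg1 yg12 zg43) (kg xg1 yg3 zg7) (kg xg0 yg33 zg46) (kg xg0 yg15 zg8) (kg xg1 yg12 zg45) (kg xg0 yg33 zg44) (kg xg0 yg55 zg49) (kg xg0 yg15 zg10) (kg xg1 yg12 zg54) (kg xg0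 yg55 zg47) (kg xg1 yg12 zg58) (kg xg1 yg13 zg0) (kg xg0 yg32 zg16) (kg xg1 yg13 zg1) (kg xg1 yg3 zg11) (kg xg0 yg33 zg16) (kg xg0 yg15 zg13) (kg xg1 yg13 zg15) (kg xg0 yg33 zg14) (kg xg0 yg34 zg54) (kg xg1 yg13 zg22)) (@D3.rec (fun _ => Pt) (kg xg0 yg15 zg19) (kg xg0 yg15 zg16) (kg xg1 yg13 zg28) (kg xg0 yg27 zg52) (kg xg1 yg13 zg35) (kg xg1 yg1 zg33) (kg xg0 yg28 zg28) (kg xg1 yg13 zg23) (kg xg1 yg2 zg48) (kg xg1 yg13 zg29) (kg xg0 yg17 zg43) (kg xg0 yg38 zg26) (kg xg0 yg29 zg3) (kg xg0 yg27 zg44) (kg xg0 yg29 zg35) (kg xg0 yg29 zg52) (kg xg0 yg33 zg38) (kg xg0 yg15 zg23) (kg xg1 yg13 zg61) (kg xg1 yg14 zg1) (kg xg0 yg33 zg35) (kg xg0 yg59 zg6) (kg xg0 yg35 zg33) (kg xg0 yg15 zg46) (kg xg0 yg26 zg59) (kg xg0 yg15 zg56) (kg xg1 yg14 zg11) (kg xg1 yg14 zg14) (kg xg0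 yg15 zg28) (kg xg1 yg14 zg23) (kg xg1 yg14 zg12) (kg xg0 yg34 zg49) (kg xg0 yg15 zg29) (kg xg1 yg13 zg10) (kg xg0 yg34 zg47) (kg xg0 yg15 zg38) (kg xg0 yg28 zg35) (kg xg0 yg34 zg40) (kg xg1 yg14 zg38) (kg xg0 yg34 zg37) (kg xg0 yg15 zg33) (kg xg1 yg14 zg44) (kg xg1 yg14 zg41) (kg xg0 yg15 zg34) (kg xg1 yg14 zg53) (kg xg1 yg14 zg39) (kg xg0 yg34 zg34) (kg xg0 yg15 zg35) (kg xg1 yg11 zg45) (kg xg0 yg34 zg32) (kg xg1 yg15 zg3) (kg xg1 yg15 zg7) (kg xg0 yg34 zg58) (kg xg1 yg15 zg12) (kg xg0 yg34 zg56) (kg xg1 yg11 zg21) (kg xg0 yg15 zg41) (kg xg1 yg14 zg57) (kg xg0 yg33 zg24) (kg xg1 yg12 zg60) (kg xg0 yg15 zg51) (kg xg0 yg15 zg43)) (@D3.rec (fun _ => Pt) (kg xg1 yg15 zg31) (kg xg0 yg15 zg49) (kg xg0 yg58 zg2) (kg xg0 yg26 zg22) (kg xg0 yg28 zg27) (kg xg1 yg15 zg38) (kg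 xg1 yg15 zg24) (kg xg0 yg15 zg47) (kg xg1 yg15 zg46) (kg xg1 yg15 zg22) (kg xg1 yg15 zg50) (kg xg1 yg15 zg53) (kg xg1 yg15 zg57) (kg xg1 yg15 zg18) (kg xg1 yg1 zg5) (kg xg1 yg14 zg35) (kg xg1 yg15 zg58) (kg xg1 yg9 zg28) (kg xg1 yg15 zg34) (kg xg0 yg15 zg50) (kg xg1 yg16 zg20) (kg xg1 yg15 zg32) (kg xg0 yg59 zg30) (kg xg1 yg12 zg15) (kg xg0 yg26 zg27) (kg xg0 yg26 zg13) (kg xg1 yg16 zg28) (kg xg0 yg58 zg10) (kg xg0 yg39 zg22) (kg xg0 yg15 zg54) (kg xg1 yg16 zg41) (kg xg0 yg39 zg20) (kg xg0 yg59 zg43) (kg xg1 yg2 zg49) (kg xg1 yg16 zg51) (kg xg1 yg16 zg55) (kg xg0 yg15 zg60) (kg xg0 yg15 zg57) (kg xg1 yg17 zg1) (kg xg1 yg17 zg6) (kg xg0 yg15 zg58) (kg xg1 yg2 zg47) (kg xg0 yg15 zg59) (kg xg0 yg34 zg36) (kg xg1 yg14 zg42) (kg xg1 yg17 zg17) (kg xg1 yg17 zg21) (kg xg1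 yg17 zg2) (kg xg1 yg17 zg28) (kg xg0 yg26 zg26) (kg xg0 yg31 zg41) (kg xg1 yg16 zg48) (kg xg1 yg17 zg37) (kg xg1 yg0 zg5) (kg xg1 yg17 zg41) (kg xg0 yg56 zg4) (kg xg0 yg32 zg26) (kg xg1 yg17 zg51) (kg xg1 yg3 zg2) (kg xg0 yg16 zg2) (kg xg1 yg17 zg60) (kg xg1 yg18 zg3)) (@D3.rec (fun _ => Pt) (kg xg1 yg2 zg61) (kg xg1 yg18 zg7) (kg xg0 yg56 zg28) (kg xg1 yg3 zg20) (kg xg1 yg18 zg14) (kg xg1 yg18 zg18) (kg xg0 yg16 zg18) (kg xg0 yg16 zg5) (kg xg1 yg16 zg59) (kg xg1 yg18 zg30) (kg xg0 yg16 zg6) (kg xg0 yg26 zg2) (kg xg1 yg0 zg28) (kg xg0 yg32 zg35) (kg xg0 yg32 zg37) (kg xg0 yg32 zg31) (kg xg0 yg16 zg20) (kg xg0 yg16 zg9) (kg xg1 yg18 zg45) (kg xg1 yg10 zg40) (kg xg1 yg18 zg51) (kg xg0 yg39 zg37) (kg xg0 yg16 zg10) (kg xg1 yg3 zg19) (kg xg0 yg26 zg10) (kg xg0 yg16 zg26)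 (kg xg0 yg28 zg45) (kg xg0 yg16 zg15) (kg xg0 yg37 zg45) (kg xg1 yg9 zg14) (kg xg0 yg31 zg49) (kg xg0 yg16 zg17) (kg xg1 yg19 zg5) (kg xg1 yg19 zg9) (kg xg1 yg16 zg61) (kg xg1 yg19 zg15) (kg xg0 yg27 zg36) (kg xg0 yg27 zg38) (kg xg0 yg40 zg53) (kg xg0 yg54 zg59) (kg xg0 yg57 zg8) (kg xg1 yg19 zg25) (kg xg1 yg19 zg29) (kg xg1 yg19 zg32) (kg xg0 yg58 zg59) (kg xg1 yg3 zg33) (kg xg0 yg16 zg25) (kg xg0 yg16 zg38) (kg xg1 yg3 zg32) (kg xg1 yg9 zg12) (kg xg0 yg31 zg50) (kg xg1 yg19 zg40) (kg xg1 yg19 zg33) (kg xg1 yg19 zg30) (kg xg1 yg19 zg44) (kg xg0 yg27 zg37) (kg xg1 yg3 zg38) (kg xg0 yg37 zg39) (kg xg0 yg34 zg12) (kg xg1 yg19 zg48) (kg xg1 yg19 zg54) (kg xg1 yg19 zg38)) (@D3.rec (fun _ => Pt) (kg xg1 yg19 zg59) (kg xg1 yg19 zg55) (kg xg1 yg19 zg47) (kg xg1 yg20 zg6) (kg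 xg0 yg16 zg32) (kg xg1 yg20 zg7) (kg xg1 yg20 zg17) (kg xg1 yg20 zg11) (kg xg1 yg3 zg54) (kg xg0 yg16 zg33) (kg xg1 yg18 zg4) (kg xg1 yg20 zg29) (kg xg1 yg3 zg51) (kg xg1 yg5 zg12) (kg xg0 yg30 zg23) (kg xg1 yg20 zg37) (kg xg1 yg20 zg40) (kg xg1 yg20 zg44) (kg xg0 yg39 zg43) (kg xg0 yg39 zg52) (kg xg1 yg20 zg48) (kg xg0 yg29 zg26) (kg xg1 yg3 zg15) (kg xg1 yg20 zg55) (kg xg0 yg29 zg28) (kg xg1 yg4 zg9) (kg xg0 yg16 zg41) (kg xg1 yg4 zg8) (kg xg1 yg21 zg8) (kg xg1 yg21 zg12) (kg xg1 yg21 zg14) (kg xg1 yg3 zg61) (kg xg0 yg16 zg43) (kg xg1 yg21 zg23) (kg xg0 yg41 zg5) (kg xg1 yg1 zg54) (kg xg1 yg5 zg52) (kg xg0 yg36 zg57) (kg xg0 yg18 zg21) (kg xg1 yg5 zg19) (kg xg0 yg39 zg2) (kg xg0 yg16 zg59) (kg xg1 yg5 zg14) (kg xg0 yg29 zg10) (kg xg0 yg16 zg50) (kg xg1 yg3 zg4) (kg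 xg0 yg20 zg2) (kg xg1 yg3 zg59) (kg xg0 yg16 zg52) (kg xg1 yg21 zg42) (kg xg1 yg21 zg46) (kg xg1 yg6 zg34) (kg xg0 yg18 zg48) (kg xg0 yg18 zg50) (kg xg1 yg4 zg22) (kg xg0 yg16 zg57) (kg xg1 yg4 zg21) (kg xg1 yg21 zg59) (kg xg0 yg17 zg0) (kg xg0 yg16 zg58) (kg xg1 yg22 zg5) (kg xg1 yg4 zg3)) (@D3.rec (fun _ => Pt) (kg xg1 yg12 zg46) (kg xg0 yg37 zg42) (kg xg0 yg38 zg4) (kg xg0 yg16 zg60) (kg xg0 yg38 zg3) (kg xg1 yg4 zg17) (kg xg0 yg16 zg61) (kg xg1 yg4 zg16) (kg xg1 yg22 zg16) (kg xg0 yg40 zg33) (kg xg1 yg22 zg21) (kg xg1 yg4 zg29) (kg xg0 yg17 zg1) (kg xg1 yg22 zg29) (kg xg1 yg4 zg27) (kg xg1 yg4 zg48) (kg xg0 yg32 zg47) (kg xg0 yg17 zg10) (kg xg1 yg4 zg42) (kg xg0 yg17 zg5) (kg xg1 yg4 zg41) (kg xg1 yg22 zg47) (kg xg1 yg22 zg51) (kg xg1 yg22 zg54) (kg xg1 yg22 zg58)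 (kg xg1 yg12 zg10) (kg xg0 yg34 zg14) (kg xg1 yg4 zg34) (kg xg0 yg17 zg8) (kg xg1 yg4 zg33) (kg xg1 yg23 zg10) (kg xg1 yg23 zg14) (kg xg1 yg5 zg3) (kg xg1 yg23 zg21) (kg xg1 yg23 zg25) (kg xg1 yg4 zg31) (kg xg0 yg17 zg12) (kg xg0 yg17 zg15) (kg xg1 yg23 zg3) (kg xg1 yg23 zg34) (kg xg1 yg23 zg40) (kg xg1 yg23 zg44) (kg xg0 yg17 zg13) (kg xg1 yg23 zg48) (kg xg1 yg23 zg35) (kg xg1 yg5 zg40) (kg xg1 yg22 zg32) (kg xg1 yg8 zg18) (kg xg1 yg8 zg19) (kg xg0 yg17 zg14) (kg xg1 yg24 zg5) (kg xg1 yg24 zg9) (kg xg1 yg24 zg12) (kg xg1 yg22 zg39) (kg xg1 yg24 zg18) (kg xg1 yg23 zg2) (kg xg1 yg24 zg25) (kg xg1 yg5 zg10) (kg xg0 yg17 zg18) (kg xg1 yg5 zg9) (kg xg1 yg3 zg55) (kg xg0 yg17 zg19)) (@D3.rec (fun _ => Pt) (kg xg1 yg24 zg40) (kg xg1 yg10 zg41) (kg xg1 yg24 zg45) (kg xg0 yg37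 zg40) (kg xg1 yg24 zg48) (kg xg0 yg27 zg6) (kg xg0 yg59 zg51) (kg xg0 yg27 zg13) (kg xg1 yg24 zg54) (kg xg1 yg24 zg57) (kg xg0 yg17 zg33) (kg xg1 yg25 zg4) (kg xg1 yg24 zg55) (kg xg0 yg57 zg41) (kg xg1 yg13 zg43) (kg xg0 yg27 zg18) (kg xg0 yg27 zg5) (kg xg1 yg17 zg9) (kg xg0 yg59 zg59) (kg xg0 yg35 zg31) (kg xg0 yg17 zg36) (kg xg1 yg25 zg23) (kg xg0 yg35 zg29) (kg xg0 yg59 zg18) (kg xg1 yg13 zg8) (kg xg0 yg26 zg46) (kg xg1 yg25 zg33) (kg xg1 yg4 zg5) (kg xg1 yg12 zg47) (kg xg1 yg9 zg16) (kg xg0 yg27 zg42) (kg xg1 yg18 zg35) (kg xg0 yg58 zg47) (kg xg1 yg12 zg32) (kg xg0 yg57 zg35) (kg xg0 yg31 zg45) (kg xg0 yg25 zg56) (kg xg0 yg36 zg22) (kg xg1 yg5 zg25) (kg xg0 yg17 zg47) (kg xg1 yg25 zg50) (kg xg1 yg25 zg55) (kg xg0 yg57 zg4) (kg xg0 yg36 zg47) (kg xg1 yg25 zg61) (kg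 xg0 yg17 zg49) (kg xg1 yg26 zg0) (kg xg1 yg23 zg43) (kg xg1 yg26 zg4) (kg xg1 yg26 zg11) (kg xg1 yg26 zg14) (kg xg0 yg37 zg19) (kg xg0 yg17 zg52) (kg xg0 yg24 zg39) (kg xg1 yg22 zg9) (kg xg0 yg32 zg50) (kg xg0 yg17 zg56) (kg xg0 yg32 zg49) (kg xg0 yg45 zg20) (kg xg0 yg17 zg57) (kg xg0 yg45 zg19) (kg xg1 yg26 zg27)) (@D3.rec (fun _ => Pt) (kg xg0 yg41 zg14) (kg xg0 yg30 zg20) (kg xg0 yg45 zg15) (kg xg0 yg17 zg59) (kg xg0 yg45 zg14) (kg xg1 yg26 zg36) (kg xg0 yg41 zg61) (kg xg0 yg18 zg0) (kg xg0 yg18 zg3) (kg xg1 yg26 zg33) (kg xg0 yg49 zg4) (kg xg1 yg26 zg48) (kg xg0 yg18 zg1) (kg xg0 yg42 zg19) (kg xg0 yg21 zg33) (kg xg0 yg40 zg22) (kg xg0 yg19 zg40) (kg xg1 yg26 zg39) (kg xg0 yg18 zg2) (kg xg1 yg27 zg1) (kg xg1 yg27 zg7) (kg xg0 yg19 zg36) (kg xg1 yg27 zg11) (kg xg1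 yg4 zg53) (kg xg1 yg27 zg15) (kg xg1 yg5 zg44) (kg xg0 yg18 zg5) (kg xg1 yg5 zg43) (kg xg1 yg27 zg28) (kg xg1 yg8 zg36) (kg xg0 yg28 zg22) (kg xg1 yg27 zg34) (kg xg1 yg27 zg36) (kg xg0 yg39 zg1) (kg xg0 yg32 zg45) (kg xg0 yg18 zg10) (kg xg0 yg32 zg60) (kg xg0 yg32 zg46) (kg xg1 yg27 zg49) (kg xg0 yg37 zg14) (kg xg1 yg27 zg54) (kg xg0 yg18 zg47) (kg xg1 yg27 zg60) (kg xg0 yg54 zg31) (kg xg0 yg55 zg21) (kg xg1 yg28 zg6) (kg xg1 yg2 zg17) (kg xg1 yg28 zg12) (kg xg1 yg27 zg56) (kg xg0 yg18 zg16) (kg xg1 yg27 zg55) (kg xg1 yg28 zg21) (kg xg1 yg28 zg24) (kg xg1 yg26 zg17) (kg xg0 yg57 zg36) (kg xg0 yg18 zg19) (kg xg1 yg5 zg46) (kg xg1 yg6 zg31) (kg xg0 yg18 zg20) (kg xg1 yg6 zg30) (kg xg1 yg28 zg40) (kg xg1 yg28 zg44)) (@D3.rec (fun _ => Pt) (kg xg1 yg4 zg4) (kg xg1 yg28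 zg48) (kg xg0 yg37 zg34) (kg xg0 yg56 zg61) (kg xg0 yg57 zg32) (kg xg0 yg29 zg14) (kg xg1 yg27 zg45) (kg xg1 yg11 zg8) (kg xg0 yg29 zg61) (kg xg0 yg18 zg25) (kg xg0 yg29 zg60) (kg xg0 yg30 zg61) (kg xg1 yg29 zg5) (kg xg1 yg29 zg7) (kg xg0 yg45 zg6) (kg xg1 yg5 zg60) (kg xg0 yg18 zg28) (kg xg1 yg5 zg59) (kg xg1 yg29 zg20) (kg xg1 yg29 zg23) (kg xg1 yg29 zg26) (kg xg1 yg6 zg19) (kg xg0 yg47 zg52) (kg xg0 yg18 zg31) (kg xg0 yg46 zg58) (kg xg0 yg52 zg0) (kg xg1 yg29 zg37) (kg xg1 yg29 zg32) (kg xg1 yg26 zg52) (kg xg0 yg42 zg53) (kg xg1 yg29 zg47) (kg xg1 yg5 zg30) (kg xg1 yg28 zg60) (kg xg0 yg30 zg46) (kg xg1 yg6 zg45) (kg xg1 yg29 zg55) (kg xg1 yg6 zg42) (kg xg0 yg18 zg36) (kg xg1 yg30 zg3) (kg xg1 yg30 zg7) (kg xg1 yg29 zg58) (kg xg0 yg18 zg37) (kg xg1 yg29 zg48) (kg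 xg1 yg29 zg56) (kg xg1 yg29 zg13) (kg xg1 yg24 zg30) (kg xg1 yg6 zg14) (kg xg0 yg18 zg39) (kg xg1 yg30 zg33) (kg xg1 yg6 zg12) (kg xg1 yg30 zg37) (kg xg0 yg19 zg0) (kg xg1 yg29 zg31) (kg xg1 yg6 zg56) (kg xg0 yg18 zg42) (kg xg1 yg29 zg11) (kg xg0 yg42 zg42) (kg xg0 yg18 zg45) (kg xg1 yg30 zg55) (kg xg0 yg40 zg6) (kg xg0 yg40 zg11) (kg xg1 yg8 zg35)) (@D3.rec (fun _ => Pt) (kg xg0 yg40 zg39) (kg xg1 yg31 zg4) (kg xg0 yg55 zg25) (kg xg1 yg31 zg10) (kg xg1 yg1 zg59) (kg xg0 yg42 zg14) (kg xg1 yg5 zg49) (kg xg0 yg18 zg49) (kg xg1 yg5 zg48) (kg xg0 yg29 zg57) (kg xg1 yg31 zg21) (kg xg1 yg4 zg14) (kg xg0 yg29 zg12) (kg xg1 yg31 zg26) (kg xg0 yg28 zg16) (kg xg0 yg29 zg20) (kg xg0 yg32 zg41) (kg xg0 yg24 zg46) (kg xg1 yg29 zg15) (kg xg1 yg31 zg33) (kg xg0 yg30 zg48) (kg xg0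 yg47 zg4) (kg xg0 yg40 zg13) (kg xg0 yg30 zg41) (kg xg0 yg42 zg34) (kg xg1 yg6 zg4) (kg xg0 yg42 zg24) (kg xg1 yg6 zg1) (kg xg0 yg18 zg57) (kg xg1 yg31 zg48) (kg xg0 yg45 zg38) (kg xg1 yg31 zg43) (kg xg0 yg18 zg58) (kg xg1 yg31 zg58) (kg xg1 yg6 zg58) (kg xg1 yg6 zg54) (kg xg0 yg18 zg59) (kg xg1 yg32 zg6) (kg xg1 yg6 zg52) (kg xg1 yg32 zg10) (kg xg0 yg41 zg56) (kg xg1 yg29 zg14) (kg xg0 yg30 zg18) (kg xg1 yg31 zg1) (kg xg1 yg6 zg15) (kg xg0 yg45 zg10) (kg xg0 yg19 zg2) (kg xg0 yg45 zg9) (kg xg0 yg45 zg23) (kg xg0 yg43 zg60) (kg xg1 yg6 zg43) (kg xg0 yg30 zg60) (kg xg1 yg7 zg29) (kg xg0 yg41 zg33) (kg xg1 yg7 zg6) (kg xg0 yg19 zg6) (kg xg1 yg32 zg40) (kg xg1 yg32 zg44) (kg xg1 yg32 zg22) (kg xg1 yg32 zg48) (kg xg0 yg45 zg22) (kg xg1 yg32 zg54)) (@D3.rec (fun _ => Pt)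 (kg xg1 yg6 zg61) (kg xg0 yg19 zg9) (kg xg1 yg7 zg1) (kg xg1 yg33 zg3) (kg xg0 yg23 zg26) (kg xg0 yg19 zg38) (kg xg1 yg6 zg59) (kg xg0 yg19 zg13) (kg xg0 yg30 zg49) (kg xg0 yg19 zg14) (kg xg0 yg52 zg1) (kg xg1 yg32 zg23) (kg xg0 yg43 zg58) (kg xg0 yg30 zg56) (kg xg1 yg7 zg37) (kg xg0 yg19 zg31) (kg xg0 yg46 zg18) (kg xg1 yg8 zg10) (kg xg1 yg33 zg23) (kg xg0 yg20 zg45) (kg xg0 yg19 zg49) (kg xg0 yg51 zg7) (kg xg0 yg50 zg59) (kg xg0 yg19 zg22) (kg xg1 yg33 zg36) (kg xg1 yg33 zg40) (kg xg1 yg7 zg23) (kg xg0 yg19 zg23) (kg xg1 yg7 zg22) (kg xg0 yg23 zg24) (kg xg1 yg8 zg3) (kg xg1 yg32 zg21) (kg xg0 yg19 zg51) (kg xg0 yg40 zg5) (kg xg1 yg7 zg18) (kg xg0 yg43 zg40) (kg xg1 yg7 zg16) (kg xg0 yg19 zg27) (kg xg1 yg34 zg2) (kg xg0 yg43 zg35) (kg xg0 yg19 zg28) (kg xg1 yg7 zg26)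 (kg xg0 yg19 zg30) (kg xg1 yg7 zg25) (kg xg1 yg33 zg13) (kg xg0 yg19 zg44) (kg xg0 yg40 zg15) (kg xg1 yg6 zg57) (kg xg0 yg19 zg34) (kg xg1 yg32 zg26) (kg xg1 yg33 zg61) (kg xg1 yg7 zg14) (kg xg0 yg19 zg39) (kg xg0 yg22 zg19) (kg xg1 yg34 zg24) (kg xg0 yg46 zg8) (kg xg1 yg34 zg29) (kg xg1 yg34 zg34) (kg xg0 yg44 zg5) (kg xg0 yg51 zg1) (kg xg0 yg42 zg52) (kg xg1 yg34 zg36)) (@D3.rec (fun _ => Pt) (kg xg1 yg33 zg12) (kg xg0 yg49 zg5) (kg xg0 yg50 zg11) (kg xg1 yg34 zg30) (kg xg1 yg34 zg10) (kg xg0 yg19 zg41) (kg xg1 yg33 zg17) (kg xg0 yg19 zg47) (kg xg0 yg19 zg42) (kg xg1 yg34 zg50) (kg xg1 yg34 zg55) (kg xg1 yg33 zg52) (kg xg1 yg34 zg61) (kg xg1 yg35 zg4) (kg xg1 yg33 zg4) (kg xg1 yg35 zg0) (kg xg1 yg35 zg14) (kg xg1 yg34 zg13) (kg xg0 yg19 zg45) (kg xg1 yg35 zg24) (kg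 xg1 yg35 zg29) (kg xg1 yg35 zg34) (kg xg1 yg34 zg51) (kg xg1 yg34 zg57) (kg xg0 yg19 zg46) (kg xg1 yg34 zg56) (kg xg1 yg35 zg47) (kg xg1 yg26 zg40) (kg xg0 yg19 zg48) (kg xg1 yg26 zg49) (kg xg0 yg51 zg4) (kg xg1 yg35 zg60) (kg xg1 yg36 zg2) (kg xg1 yg8 zg9) (kg xg0 yg19 zg50) (kg xg1 yg36 zg11) (kg xg1 yg8 zg7) (kg xg1 yg7 zg15) (kg xg1 yg36 zg17) (kg xg1 yg7 zg61) (kg xg1 yg8 zg16) (kg xg0 yg19 zg52) (kg xg1 yg36 zg28) (kg xg1 yg8 zg14) (kg xg1 yg4 zg60) (kg xg0 yg19 zg53) (kg xg1 yg5 zg0) (kg xg1 yg36 zg38) (kg xg1 yg8 zg24) (kg xg0 yg19 zg54) (kg xg1 yg36 zg48) (kg xg1 yg8 zg22) (kg xg1 yg36 zg52) (kg xg1 yg36 zg57) (kg xg1 yg36 zg61) (kg xg1 yg36 zg27) (kg xg1 yg33 zg51) (kg xg1 yg11 zg5) (kg xg1 yg37 zg0) (kg xg1 yg37 zg13) (kg xg1 yg8 zg33) (kg xg1 yg8 zg31))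 (@D3.rec (fun _ => Pt) (kg xg0 yg19 zg58) (kg xg1 yg37 zg20) (kg xg1 yg26 zg24) (kg xg1 yg6 zg21) (kg xg1 yg7 zg13) (kg xg0 yg48 zg54) (kg xg0 yg19 zg61) (kg xg0 yg41 zg55) (kg xg0 yg42 zg47) (kg xg0 yg20 zg0) (kg xg0 yg42 zg46) (kg xg1 yg37 zg34) (kg xg1 yg37 zg38) (kg xg0 yg40 zg4) (kg xg0 yg20 zg5) (kg xg0 yg40 zg3) (kg xg1 yg34 zg6) (kg xg0 yg40 zg29) (kg xg0 yg39 zg60) (kg xg0 yg20 zg10) (kg xg0 yg39 zg59) (kg xg0 yg20 zg15) (kg xg1 yg29 zg34) (kg xg0 yg43 zg29) (kg xg0 yg42 zg60) (kg xg0 yg43 zg10) (kg xg1 yg37 zg57) (kg xg1 yg37 zg48) (kg xg0 yg20 zg17) (kg xg1 yg38 zg5) (kg xg1 yg38 zg11) (kg xg1 yg37 zg58) (kg xg1 yg38 zg15) (kg xg1 yg38 zg17) (kg xg1 yg8 zg26) (kg xg1 yg37 zg40) (kg xg0 yg20 zg20) (kg xg1 yg37 zg39) (kg xg1 yg38 zg29) (kg xg0 yg22 zg0) (kg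 xg1 yg38 zg31) (kg xg0 yg48 zg45) (kg xg0 yg48 zg59) (kg xg1 yg26 zg25) (kg xg0 yg21 zg27) (kg xg0 yg20 zg50) (kg xg0 yg47 zg34) (kg xg0 yg20 zg26) (kg xg1 yg38 zg47) (kg xg1 yg38 zg50) (kg xg0 yg45 zg52) (kg xg0 yg20 zg27) (kg xg0 yg45 zg51) (kg xg1 yg31 zg31) (kg xg0 yg50 zg57) (kg xg0 yg46 zg57) (kg xg0 yg51 zg27) (kg xg1 yg39 zg1) (kg xg0 yg20 zg34) (kg xg1 yg38 zg60) (kg xg1 yg38 zg61) (kg xg0 yg24 zg26)) (@D3.rec (fun _ => Pt) (kg xg1 yg39 zg9) (kg xg1 yg39 zg12) (kg xg1 yg39 zg10) (kg xg0 yg24 zg29) (kg xg0 yg46 zg3) (kg xg1 yg39 zg16) (kg xg0 yg45 zg44) (kg xg0 yg43 zg16) (kg xg0 yg20 zg44) (kg xg0 yg48 zg7) (kg xg0 yg20 zg49) (kg xg1 yg7 zg5) (kg xg1 yg39 zg24) (kg xg0 yg50 zg21) (kg xg1 yg39 zg26) (kg xg1 yg39 zg31) (kg xg0 yg46 zg26) (kg xg0 yg43 zg53) (kg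 xg0 yg22 zg29) (kg xg0 yg22 zg46) (kg xg1 yg39 zg36) (kg xg1 yg39 zg39) (kg xg1 yg33 zg33) (kg xg1 yg39 zg41) (kg xg1 yg39 zg27) (kg xg0 yg46 zg5) (kg xg0 yg20 zg51) (kg xg0 yg52 zg26) (kg xg1 yg39 zg50) (kg xg0 yg49 zg18) (kg xg1 yg39 zg54) (kg xg1 yg39 zg59) (kg xg1 yg39 zg33) (kg xg1 yg39 zg55) (kg xg0 yg49 zg34) (kg xg0 yg52 zg54) (kg xg0 yg20 zg55) (kg xg1 yg40 zg14) (kg xg1 yg40 zg18) (kg xg1 yg39 zg52) (kg xg0 yg20 zg56) (kg xg1 yg39 zg51) (kg xg0 yg47 zg53) (kg xg0 yg20 zg57) (kg xg1 yg38 zg35) (kg xg1 yg40 zg35) (kg xg0 yg54 zg18) (kg xg0 yg49 zg36) (kg xg0 yg49 zg17) (kg xg0 yg48 zg51) (kg xg0 yg45 zg61) (kg xg0 yg21 zg11) (kg xg0 yg23 zg60) (kg xg0 yg21 zg30) (kg xg0 yg42 zg21) (kg xg0 yg21 zg56) (kg xg0 yg21 zg2) (kg xg0 yg47 zg60) (kg xg0 yg21 zg26) (kg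 xg1 yg40 zg55) (kg xg0 yg45 zg55) (kg xg0 yg21 zg7)) (@D3.rec (fun _ => Pt) (kg xg0 yg21 zg3) (kg xg0 yg41 zg27) (kg xg0 yg51 zg40) (kg xg1 yg41 zg4) (kg xg0 yg48 zg6) (kg xg0 yg48 zg55) (kg xg1 yg40 zg47) (kg xg0 yg48 zg56) (kg xg0 yg21 zg34) (kg xg0 yg48 zg0) (kg xg0 yg41 zg24) (kg xg0 yg51 zg42) (kg xg1 yg31 zg37) (kg xg0 yg48 zg57) (kg xg1 yg34 zg38) (kg xg1 yg41 zg18) (kg xg0 yg50 zg30) (kg xg1 yg41 zg24) (kg xg0 yg49 zg14) (kg xg0 yg49 zg0) (kg xg1 yg41 zg25) (kg xg0 yg50 zg40) (kg xg1 yg40 zg45) (kg xg0 yg21 zg12) (kg xg1 yg41 zg43) (kg xg0 yg52 zg47) (kg xg1 yg41 zg50) (kg xg1 yg34 zg25) (kg xg1 yg41 zg20) (kg xg0 yg21 zg13) (kg xg1 yg41 zg19) (kg xg1 yg42 zg2) (kg xg0 yg23 zg14) (kg xg1 yg41 zg9) (kg xg0 yg45 zg47) (kg xg1 yg42 zg9) (kg xg0 yg47 zg38) (kg xg0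 yg21 zg17) (kg xg0 yg47 zg37) (kg xg1 yg42 zg15) (kg xg0 yg47 zg47) (kg xg1 yg42 zg22) (kg xg0 yg50 zg44) (kg xg0 yg50 zg29) (kg xg0 yg21 zg21) (kg xg0 yg49 zg41) (kg xg0 yg49 zg39) (kg xg0 yg47 zg44) (kg xg1 yg31 zg34) (kg xg0 yg47 zg57) (kg xg1 yg37 zg46) (kg xg0 yg21 zg50) (kg xg0 yg41 zg23) (kg xg0 yg46 zg43) (kg xg0 yg46 zg6) (kg xg1 yg42 zg38) (kg xg0 yg21 zg29) (kg xg0 yg48 zg58) (kg xg1 yg38 zg44) (kg xg1 yg40 zg31) (kg xg0 yg46 zg60) (kg xg1 yg41 zg29)) (@D3.rec (fun _ => Pt) (kg xg1 yg42 zg48) (kg xg1 yg41 zg30) (kg xg1 yg42 zg54) (kg xg0 yg22 zg10) (kg xg1 yg42 zg57) (kg xg0 yg45 zg39) (kg xg0 yg46 zg54) (kg xg1 yg34 zg27) (kg xg0 yg23 zg31) (kg xg1 yg42 zg50) (kg xg1 yg38 zg53) (kg xg0 yg49 zg22) (kg xg1 yg43 zg7) (kg xg0 yg21 zg45) (kg xg0 yg21 zg37) (kg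 xg0 yg49 zg11) (kg xg0 yg21 zg43) (kg xg0 yg46 zg32) (kg xg0 yg52 zg37) (kg xg1 yg43 zg20) (kg xg0 yg52 zg46) (kg xg1 yg43 zg16) (kg xg0 yg46 zg45) (kg xg0 yg49 zg12) (kg xg0 yg21 zg40) (kg xg1 yg43 zg34) (kg xg1 yg43 zg38) (kg xg1 yg43 zg10) (kg xg0 yg21 zg41) (kg xg1 yg43 zg50) (kg xg1 yg43 zg8) (kg xg1 yg43 zg52) (kg xg1 yg43 zg55) (kg xg1 yg26 zg47) (kg xg1 yg40 zg48) (kg xg0 yg49 zg33) (kg xg0 yg21 zg44) (kg xg1 yg44 zg5) (kg xg0 yg49 zg46) (kg xg1 yg39 zg60) (kg xg1 yg44 zg13) (kg xg0 yg46 zg31) (kg xg0 yg50 zg42) (kg xg0 yg24 zg28) (kg xg0 yg48 zg48) (kg xg0 yg48 zg47) (kg xg1 yg44 zg21) (kg xg0 yg21 zg51) (kg xg0 yg47 zg51) (kg xg1 yg42 zg37) (kg xg1 yg44 zg26) (kg xg0 yg24 zg31) (kg xg0 yg24 zg23) (kg xg1 yg26 zg50) (kg xg0 yg45 zg3) (kg xg0 yg21 zg57) (kg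 xg0 yg46 zg55) (kg xg1 yg42 zg6) (kg xg0 yg21 zg59) (kg xg0 yg47 zg56) (kg xg0 yg46 zg20) (kg xg0 yg22 zg1)) (@D3.rec (fun _ => Pt) (kg xg0 yg51 zg58) (kg xg0 yg51 zg60) (kg xg1 yg44 zg46) (kg xg0 yg48 zg5) (kg xg0 yg40 zg14) (kg xg0 yg43 zg54) (kg xg1 yg44 zg51) (kg xg0 yg47 zg19) (kg xg0 yg53 zg19) (kg xg1 yg44 zg42) (kg xg1 yg42 zg12) (kg xg0 yg48 zg38) (kg xg0 yg48 zg24) (kg xg1 yg45 zg1) (kg xg0 yg48 zg35) (kg xg0 yg53 zg53) (kg xg1 yg45 zg7) (kg xg1 yg40 zg36) (kg xg1 yg44 zg48) (kg xg1 yg45 zg8) (kg xg0 yg53 zg61) (kg xg0 yg48 zg11) (kg xg0 yg22 zg8) (kg xg1 yg45 zg24) (kg xg1 yg45 zg27) (kg xg1 yg45 zg4) (kg xg0 yg22 zg9) (kg xg1 yg45 zg37) (kg xg1 yg45 zg2) (kg xg1 yg35 zg51) (kg xg0 yg47 zg9) (kg xg0 yg52 zg10) (kg xg1 yg45 zg44) (kg xg0 yg47 zg18) (kg xg1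 yg45 zg50) (kg xg0 yg53 zg52) (kg xg0 yg46 zg46) (kg xg0 yg22 zg15) (kg xg0 yg53 zg33) (kg xg0 yg49 zg37) (kg xg1 yg39 zg32) (kg xg0 yg47 zg41) (kg xg1 yg38 zg36) (kg xg0 yg23 zg21) (kg xg0 yg52 zg36) (kg xg1 yg41 zg10) (kg xg0 yg48 zg15) (kg xg0 yg23 zg16) (kg xg0 yg52 zg11) (kg xg0 yg50 zg4) (kg xg1 yg46 zg8) (kg xg0 yg50 zg1) (kg xg0 yg22 zg25) (kg xg1 yg43 zg29) (kg xg1 yg46 zg17) (kg xg1 yg46 zg10) (kg xg0 yg22 zg26) (kg xg1 yg46 zg9) (kg xg0 yg46 zg15) (kg xg1 yg46 zg33) (kg xg0 yg22 zg32) (kg xg1 yg44 zg39)) (@D3.rec (fun _ => Pt) (kg xg0 yg23 zg46) (kg xg0 yg49 zg52) (kg xg0 yg47 zg13) (kg xg0 yg49 zg49) (kg xg0 yg22 zg35) (kg xg1 yg45 zg19) (kg xg1 yg46 zg43) (kg xg1 yg44 zg35) (kg xg0 yg22 zg36) (kg xg0 yg46 zg21) (kg xg0 yg51 zg59) (kg xg1 yg34 zg28) (kg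 xg0 yg23 zg32) (kg xg1 yg38 zg43) (kg xg1 yg38 zg54) (kg xg0 yg22 zg42) (kg xg1 yg46 zg56) (kg xg1 yg46 zg59) (kg xg1 yg40 zg0) (kg xg1 yg47 zg4) (kg xg1 yg39 zg0) (kg xg0 yg30 zg59) (kg xg0 yg52 zg25) (kg xg1 yg46 zg57) (kg xg1 yg47 zg0) (kg xg0 yg24 zg20) (kg xg0 yg51 zg19) (kg xg1 yg47 zg18) (kg xg1 yg39 zg37) (kg xg1 yg42 zg16) (kg xg0 yg51 zg33) (kg xg1 yg47 zg21) (kg xg1 yg42 zg20) (kg xg0 yg50 zg61) (kg xg0 yg22 zg51) (kg xg1 yg47 zg38) (kg xg1 yg47 zg42) (kg xg1 yg47 zg20) (kg xg0 yg22 zg52) (kg xg1 yg47 zg19) (kg xg0 yg51 zg57) (kg xg0 yg46 zg50) (kg xg0 yg48 zg40) (kg xg0 yg23 zg28) (kg xg1 yg42 zg23) (kg xg0 yg22 zg59) (kg xg0 yg22 zg56) (kg xg1 yg48 zg0) (kg xg1 yg48 zg4) (kg xg0 yg54 zg5) (kg xg0 yg23 zg17) (kg xg1 yg48 zg10) (kg xg1 yg48 zg12) (kg xg1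 yg48 zg1) (kg xg1 yg48 zg15) (kg xg1 yg48 zg5) (kg xg0 yg54 zg9) (kg xg0 yg22 zg61) (kg xg0 yg45 zg59) (kg xg0 yg43 zg23) (kg xg0 yg51 zg11) (kg xg0 yg50 zg34)) (@D3.rec (fun _ => Pt) (kg xg1 yg38 zg39) (kg xg0 yg43 zg47) (kg xg0 yg44 zg30) (kg xg0 yg46 zg13) (kg xg0 yg31 zg14) (kg xg0 yg45 zg2) (kg xg0 yg43 zg21) (kg xg0 yg23 zg5) (kg xg1 yg48 zg44) (kg xg1 yg48 zg49) (kg xg0 yg50 zg60) (kg xg0 yg23 zg6) (kg xg1 yg39 zg42) (kg xg1 yg48 zg50) (kg xg1 yg48 zg55) (kg xg1 yg41 zg21) (kg xg1 yg48 zg51) (kg xg0 yg47 zg39) (kg xg0 yg50 zg26) (kg xg0 yg23 zg9) (kg xg1 yg49 zg6) (kg xg1 yg49 zg10) (kg xg1 yg44 zg24) (kg xg0 yg23 zg10) (kg xg1 yg37 zg56) (kg xg1 yg48 zg9) (kg xg1 yg47 zg61) (kg xg0 yg45 zg60) (kg xg0 yg23 zg50) (kg xg1 yg49 zg22) (kg xg1 yg40 zg50) (kg xg1 yg33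 zg9) (kg xg0 yg23 zg43) (kg xg1 yg40 zg51) (kg xg1 yg7 zg11) (kg xg0 yg41 zg25) (kg xg0 yg23 zg20) (kg xg0 yg45 zg48) (kg xg1 yg49 zg36) (kg xg0 yg51 zg25) (kg xg0 yg47 zg11) (kg xg0 yg47 zg12) (kg xg0 yg47 zg2) (kg xg1 yg32 zg34) (kg xg1 yg7 zg2) (kg xg0 yg23 zg34) (kg xg0 yg23 zg25) (kg xg1 yg26 zg56) (kg xg1 yg49 zg55) (kg xg1 yg40 zg59) (kg xg0 yg52 zg5) (kg xg0 yg23 zg36) (kg xg0 yg23 zg27) (kg xg1 yg34 zg4) (kg xg1 yg50 zg4) (kg xg1 yg50 zg7) (kg xg1 yg41 zg36) (kg xg1 yg41 zg35) (kg xg0 yg49 zg7) (kg xg0 yg50 zg12) (kg xg0 yg49 zg9) (kg xg1 yg50 zg18)) (@D3.rec (fun _ => Pt) (kg xg1 yg32 zg51) (kg xg1 yg33 zg15) (kg xg1 yg27 zg6) (kg xg0 yg41 zg18) (kg xg0 yg51 zg50) (kg xg0 yg23 zg35) (kg xg0 yg43 zg11) (kg xg1 yg50 zg24) (kg xg1 yg50 zg5) (kg xg1 yg50 zg30)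 (kg xg0 yg23 zg37) (kg xg0 yg49 zg44) (kg xg1 yg50 zg36) (kg xg0 yg53 zg32) (kg xg0 yg50 zg22) (kg xg1 yg43 zg23) (kg xg1 yg43 zg9) (kg xg0 yg23 zg54) (kg xg0 yg23 zg41) (kg xg1 yg50 zg51) (kg xg1 yg41 zg41) (kg xg1 yg50 zg57) (kg xg0 yg23 zg57) (kg xg0 yg23 zg42) (kg xg0 yg23 zg56) (kg xg1 yg45 zg60) (kg xg0 yg23 zg51) (kg xg1 yg51 zg9) (kg xg0 yg23 zg47) (kg xg0 yg23 zg44) (kg xg1 yg36 zg19) (kg xg1 yg51 zg20) (kg xg1 yg51 zg23) (kg xg1 yg45 zg35) (kg xg0 yg23 zg45) (kg xg1 yg50 zg40) (kg xg0 yg49 zg48) (kg xg0 yg48 zg21) (kg xg1 yg51 zg37) (kg xg1 yg51 zg41) (kg xg1 yg51 zg21) (kg xg1 yg51 zg47) (kg xg0 yg23 zg48) (kg xg1 yg51 zg53) (kg xg0 yg53 zg46) (kg xg1 yg51 zg57) (kg xg1 yg34 zg21) (kg xg1 yg52 zg2) (kg xg1 yg51 zg27) (kg xg1 yg52 zg6) (kg xg0 yg48 zg20) (kg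 xg0 yg47 zg25) (kg xg1 yg43 zg51) (kg xg0 yg46 zg27) (kg xg0 yg46 zg36) (kg xg1 yg52 zg21) (kg xg1 yg52 zg24) (kg xg1 yg35 zg31) (kg xg0 yg23 zg52) (kg xg1 yg35 zg30) (kg xg1 yg52 zg34) (kg xg1 yg41 zg38)) (@D3.rec (fun _ => Pt) (kg xg1 yg50 zg60) (kg xg0 yg23 zg53) (kg xg1 yg52 zg47) (kg xg1 yg50 zg58) (kg xg1 yg52 zg52) (kg xg1 yg52 zg55) (kg xg1 yg52 zg60) (kg xg1 yg53 zg2) (kg xg1 yg51 zg52) (kg xg1 yg46 zg34) (kg xg1 yg51 zg15) (kg xg1 yg53 zg3) (kg xg1 yg47 zg55) (kg xg1 yg42 zg55) (kg xg1 yg49 zg24) (kg xg0 yg23 zg58) (kg xg1 yg53 zg22) (kg xg1 yg39 zg13) (kg xg1 yg40 zg60) (kg xg0 yg49 zg45) (kg xg1 yg31 zg55) (kg xg0 yg23 zg61) (kg xg1 yg53 zg30) (kg xg0 yg53 zg39) (kg xg1 yg53 zg37) (kg xg0 yg53 zg36) (kg xg0 yg24 zg1) (kg xg1 yg49 zg1) (kg xg1 yg53 zg46)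 (kg xg1 yg53 zg39) (kg xg0 yg24 zg2) (kg xg1 yg53 zg38) (kg xg0 yg52 zg35) (kg xg1 yg42 zg30) (kg xg0 yg49 zg38) (kg xg0 yg24 zg18) (kg xg0 yg53 zg26) (kg xg1 yg54 zg1) (kg xg0 yg53 zg23) (kg xg0 yg24 zg7) (kg xg1 yg47 zg33) (kg xg1 yg54 zg11) (kg xg1 yg54 zg4) (kg xg0 yg24 zg8) (kg xg1 yg54 zg20) (kg xg1 yg54 zg2) (kg xg0 yg52 zg16) (kg xg0 yg24 zg22) (kg xg0 yg53 zg50) (kg xg0 yg24 zg10) (kg xg0 yg53 zg49) (kg xg1 yg47 zg9) (kg xg1 yg45 zg51) (kg xg1 yg33 zg19) (kg xg1 yg54 zg26) (kg xg0 yg48 zg39) (kg xg1 yg54 zg33) (kg xg1 yg54 zg35) (kg xg0 yg24 zg15) (kg xg1 yg54 zg41) (kg xg1 yg48 zg56) (kg xg1 yg43 zg22)) (@D3.rec (fun _ => Pt) (kg xg0 yg48 zg43) (kg xg0 yg48 zg19) (kg xg0 yg54 zg3) (kg xg0 yg53 zg35) (kg xg0 yg54 zg11) (kg xg0 yg54 zg10) (kg xg1 yg54 zg51)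 (kg xg1 yg54 zg55) (kg xg1 yg54 zg57) (kg xg1 yg47 zg6) (kg xg0 yg24 zg24) (kg xg0 yg50 zg25) (kg xg1 yg54 zg6) (kg xg1 yg47 zg48) (kg xg0 yg50 zg19) (kg xg0 yg54 zg0) (kg xg0 yg43 zg18) (kg xg0 yg50 zg20) (kg xg0 yg46 zg47) (kg xg1 yg43 zg45) (kg xg1 yg8 zg48) (kg xg0 yg28 zg2) (kg xg0 yg24 zg33) (kg xg1 yg55 zg17) (kg xg0 yg28 zg0) (kg xg0 yg31 zg52) (kg xg0 yg36 zg13) (kg xg0 yg34 zg5) (kg xg0 yg28 zg12) (kg xg1 yg55 zg29) (kg xg0 yg28 zg10) (kg xg0 yg40 zg41) (kg xg0 yg37 zg35) (kg xg0 yg40 zg37) (kg xg0 yg28 zg25) (kg xg1 yg55 zg42) (kg xg1 yg27 zg52) (kg xg0 yg57 zg9) (kg xg1 yg12 zg59) (kg xg0 yg33 zg51) (kg xg1 yg55 zg50) (kg xg1 yg55 zg53) (kg xg0 yg24 zg43) (kg xg1 yg55 zg61) (kg xg1 yg55 zg51) (kg xg0 yg32 zg27) (kg xg0 yg24 zg44) (kg xg1 yg2 zg55) (kg xg0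 yg32 zg25) (kg xg1 yg3 zg12) (kg xg1 yg5 zg54) (kg xg0 yg27 zg28) (kg xg1 yg19 zg1) (kg xg0 yg25 zg34) (kg xg1 yg3 zg13) (kg xg1 yg26 zg23) (kg xg0 yg24 zg59) (kg xg1 yg6 zg35) (kg xg1 yg56 zg14) (kg xg0 yg36 zg19) (kg xg0 yg29 zg2) (kg xg1 yg27 zg38)) (@D3.rec (fun _ => Pt) (kg xg0 yg24 zg55) (kg xg1 yg27 zg37) (kg xg1 yg56 zg31) (kg xg1 yg56 zg35) (kg xg0 yg32 zg3) (kg xg1 yg56 zg39) (kg xg0 yg32 zg1) (kg xg0 yg56 zg33) (kg xg1 yg9 zg32) (kg xg0 yg55 zg20) (kg xg1 yg1 zg38) (kg xg0 yg55 zg18) (kg xg1 yg56 zg49) (kg xg1 yg1 zg51) (kg xg1 yg56 zg54) (kg xg0 yg28 zg6) (kg xg1 yg10 zg12) (kg xg0 yg55 zg32) (kg xg0 yg25 zg3) (kg xg1 yg55 zg27) (kg xg0 yg54 zg56) (kg xg0 yg29 zg50) (kg xg1 yg57 zg4) (kg xg1 yg57 zg6) (kg xg1 yg57 zg8) (kg xg1 yg55 zg35) (kg xg0 yg28 zg18)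 (kg xg1 yg11 zg7) (kg xg0 yg35 zg10) (kg xg1 yg57 zg18) (kg xg1 yg57 zg21) (kg xg0 yg25 zg30) (kg xg1 yg0 zg25) (kg xg0 yg55 zg41) (kg xg0 yg55 zg17) (kg xg1 yg56 zg44) (kg xg0 yg56 zg2) (kg xg1 yg57 zg31) (kg xg0 yg25 zg38) (kg xg0 yg25 zg24) (kg xg1 yg57 zg32) (kg xg0 yg56 zg27) (kg xg0 yg55 zg59) (kg xg0 yg25 zg17) (kg xg1 yg57 zg42) (kg xg0 yg55 zg57) (kg xg0 yg33 zg50) (kg xg0 yg25 zg19) (kg xg1 yg57 zg51) (kg xg0 yg33 zg48) (kg xg0 yg55 zg61) (kg xg1 yg57 zg57) (kg xg0 yg55 zg35) (kg xg0 yg25 zg26) (kg xg1 yg57 zg58) (kg xg1 yg57 zg27) (kg xg0 yg55 zg45) (kg xg0 yg25 zg22) (kg xg1 yg58 zg6) (kg xg0 yg55 zg43) (kg xg1 yg58 zg12) (kg xg0 yg55 zg53)) (@D3.rec (fun _ => Pt) (kg xg1 yg14 zg15) (kg xg1 yg58 zg19) (kg xg0 yg55 zg39) (kg xg0 yg35 zg42) (kg xg1 yg58 zg26)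 (kg xg0 yg35 zg43) (kg xg1 yg57 zg20) (kg xg0 yg25 zg28) (kg xg1 yg58 zg34) (kg xg1 yg25 zg0) (kg xg0 yg28 zg34) (kg xg1 yg58 zg40) (kg xg1 yg58 zg0) (kg xg1 yg15 zg37) (kg xg1 yg58 zg41) (kg xg1 yg58 zg53) (kg xg1 yg57 zg24) (kg xg0 yg25 zg31) (kg xg1 yg59 zg0) (kg xg1 yg57 zg22) (kg xg1 yg59 zg6) (kg xg1 yg57 zg50) (kg xg0 yg25 zg37) (kg xg1 yg59 zg14) (kg xg0 yg55 zg8) (kg xg0 yg25 zg35) (kg xg0 yg55 zg5) (kg xg1 yg57 zg26) (kg xg0 yg33 zg2) (kg xg1 yg59 zg7) (kg xg1 yg59 zg22) (kg xg1 yg1 zg36) (kg xg1 yg57 zg28) (kg xg0 yg54 zg52) (kg xg0 yg55 zg52) (kg xg1 yg13 zg38) (kg xg0 yg27 zg4) (kg xg1 yg59 zg28) (kg xg0 yg58 zg37) (kg xg0 yg59 zg5) (kg xg0 yg25 zg41) (kg xg1 yg57 zg39) (kg xg0 yg59 zg3) (kg xg0 yg27 zg46) (kg xg0 yg32 zg14) (kg xg0 yg58 zg39) (kg xg0 yg26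 zg35) (kg xg1 yg59 zg40) (kg xg1 yg59 zg43) (kg xg0 yg25 zg46) (kg xg1 yg59 zg51) (kg xg1 yg59 zg41) (kg xg0 yg57 zg25) (kg xg0 yg25 zg47) (kg xg1 yg16 zg36) (kg xg0 yg36 zg11) (kg xg2 yg0 zg0) (kg xg0 yg27 zg34) (kg xg0 yg25 zg52) (kg xg0 yg25 zg50) (kg xg1 yg12 zg18) (kg xg0 yg41 zg6)) (@D3.rec (fun _ => Pt) (kg xg1 yg13 zg54) (kg xg0 yg32 zg10) (kg xg0 yg56 zg42) (kg xg0 yg39 zg42) (kg xg0 yg29 zg55) (kg xg1 yg26 zg22) (kg xg2 yg0 zg13) (kg xg1 yg25 zg34) (kg xg0 yg36 zg24) (kg xg0 yg31 zg24) (kg xg0 yg59 zg31) (kg xg1 yg0 zg17) (kg xg0 yg27 zg23) (kg xg2 yg0 zg25) (kg xg2 yg0 zg28) (kg xg0 yg25 zg61) (kg xg2 yg0 zg37) (kg xg2 yg0 zg26) (kg xg1 yg0 zg48) (kg xg1 yg11 zg43) (kg xg0 yg26 zg61) (kg xg2 yg0 zg42) (kg xg1 yg0 zg24) (kg xg0 yg56 zg55) (kg xg1 yg25 zg18)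 (kg xg0 yg56 zg53) (kg xg0 yg26 zg6) (kg xg0 yg26 zg4) (kg xg1 yg13 zg46) (kg xg1 yg5 zg56) (kg xg1 yg12 zg26) (kg xg0 yg32 zg5) (kg xg1 yg10 zg20) (kg xg2 yg0 zg58) (kg xg1 yg14 zg0) (kg xg0 yg39 zg36) (kg xg0 yg40 zg55) (kg xg0 yg26 zg15) (kg xg2 yg1 zg6) (kg xg0 yg57 zg46) (kg xg2 yg1 zg12) (kg xg0 yg57 zg44) (kg xg1 yg11 zg56) (kg xg1 yg11 zg20) (kg xg0 yg26 zg16) (kg xg1 yg25 zg17) (kg xg0 yg35 zg25) (kg xg0 yg26 zg21) (kg xg0 yg26 zg17) (kg xg2 yg1 zg32) (kg xg0 yg26 zg19) (kg xg1 yg55 zg11) (kg xg2 yg1 zg38) (kg xg2 yg1 zg41) (kg xg2 yg1 zg22) (kg xg0 yg27 zg59) (kg xg1 yg11 zg12) (kg xg2 yg1 zg42) (kg xg1 yg17 zg35) (kg xg2 yg1 zg35) (kg xg0 yg26 zg20) (kg xg2 yg2 zg6)) (@D3.rec (fun _ => Pt) (kg xg2 yg1 zg33) (kg xg0 yg59 zg61) (kg xg0 yg59 zg60) (kg xg2 yg2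 zg15) (kg xg2 yg2 zg18) (kg xg2 yg2 zg22) (kg xg0 yg26 zg23) (kg xg1 yg19 zg19) (kg xg2 yg2 zg30) (kg xg0 yg26 zg24) (kg xg0 yg59 zg58) (kg xg0 yg26 zg25) (kg xg0 yg39 zg7) (kg xg2 yg2 zg37) (kg xg1 yg16 zg14) (kg xg2 yg2 zg27) (kg xg2 yg2 zg44) (kg xg0 yg28 zg39) (kg xg0 yg39 zg15) (kg xg2 yg2 zg12) (kg xg1 yg9 zg2) (kg xg2 yg2 zg53) (kg xg1 yg24 zg52) (kg xg0 yg31 zg33) (kg xg2 yg3 zg0) (kg xg0 yg58 zg28) (kg xg0 yg26 zg30) (kg xg2 yg3 zg5) (kg xg0 yg58 zg26) (kg xg1 yg0 zg13) (kg xg2 yg3 zg12) (kg xg0 yg27 zg3) (kg xg1 yg59 zg13) (kg xg0 yg54 zg27) (kg xg1 yg9 zg9) (kg xg0 yg26 zg34) (kg xg0 yg27 zg49) (kg xg1 yg9 zg8) (kg xg1 yg0 zg37) (kg xg1 yg0 zg36) (kg xg2 yg3 zg23) (kg xg2 yg3 zg27) (kg xg0 yg26 zg45) (kg xg0 yg26 zg36) (kg xg1 yg17 zg32) (kg xg2 yg3 zg38)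 (kg xg0 yg26 zg37) (kg xg1 yg0 zg23) (kg xg0 yg27 zg33) (kg xg0 yg26 zg47) (kg xg2 yg3 zg42) (kg xg0 yg32 zg4) (kg xg0 yg26 zg44) (kg xg0 yg57 zg12) (kg xg2 yg3 zg48) (kg xg2 yg3 zg52) (kg xg2 yg2 zg25) (kg xg2 yg3 zg57) (kg xg1 yg0 zg43) (kg xg0 yg36 zg55) (kg xg2 yg3 zg59) (kg xg0 yg32 zg17)) (@D3.rec (fun _ => Pt) (kg xg1 yg9 zg54) (kg xg1 yg10 zg3) (kg xg1 yg13 zg51) (kg xg0 yg26 zg54) (kg xg1 yg58 zg3) (kg xg0 yg56 zg40) (kg xg0 yg34 zg24) (kg xg2 yg4 zg9) (kg xg0 yg56 zg44) (kg xg1 yg12 zg48) (kg xg2 yg4 zg16) (kg xg1 yg14 zg16) (kg xg2 yg4 zg18) (kg xg0 yg26 zg60) (kg xg2 yg4 zg28) (kg xg1 yg9 zg57) (kg xg1 yg8 zg42) (kg xg2 yg4 zg33) (kg xg1 yg8 zg40) (kg xg1 yg19 zg6) (kg xg1 yg12 zg53) (kg xg1 yg19 zg4) (kg xg0 yg27 zg1) (kg xg1 yg58 zg57) (kg xg1 yg59 zg26)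 (kg xg1 yg55 zg16) (kg xg1 yg0 zg35) (kg xg0 yg56 zg57) (kg xg0 yg59 zg35) (kg xg2 yg4 zg52) (kg xg0 yg59 zg33) (kg xg0 yg56 zg43) (kg xg1 yg24 zg59) (kg xg0 yg27 zg7) (kg xg1 yg16 zg35) (kg xg0 yg39 zg16) (kg xg0 yg27 zg12) (kg xg0 yg27 zg8) (kg xg2 yg5 zg6) (kg xg0 yg27 zg10) (kg xg2 yg5 zg10) (kg xg2 yg4 zg59) (kg xg1 yg1 zg10) (kg xg0 yg34 zg25) (kg xg2 yg5 zg11) (kg xg2 yg5 zg24) (kg xg2 yg5 zg9) (kg xg0 yg27 zg11) (kg xg2 yg5 zg31) (kg xg2 yg5 zg7) (kg xg0 yg58 zg12) (kg xg0 yg58 zg11) (kg xg2 yg5 zg41) (kg xg2 yg5 zg45) (kg xg0 yg27 zg17) (kg xg0 yg27 zg14) (kg xg2 yg3 zg31) (kg xg2 yg5 zg55) (kg xg0 yg27 zg15) (kg xg0 yg58 zg9) (kg xg0 yg27 zg16) (kg xg0 yg35 zg3))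
def f_g_1 : D2 → D3 → Pt := @D2.rec (fun _ => D3 → Pt) (@D3.rec (fun _ => Pt) (kg xg2 yg5 zg61) (kg xg2 yg6 zg3) (kg xg2 yg3 zg34) (kg xg2 yg6 zg8) (kg xg0 yg58 zg18) (kg xg0 yg35 zg24) (kg xg2 yg5 zg38) (kg xg1 yg9 zg3) (kg xg2 yg6 zg15) (kg xg1 yg15 zg35) (kg xg0 yg31 zg55) (kg xg2 yg6 zg23) (kg xg0 yg58 zg29) (kg xg0 yg27 zg21) (kg xg2 yg6 zg30) (kg xg2 yg6 zg33) (kg xg0 yg58 zg53) (kg xg0 yg58 zg52) (kg xg2 yg6 zg39) (kg xg2 yg6 zg43) (kg xg0 yg27 zg24) (kg xg2 yg5 zg49) (kg xg2 yg6 zg50) (kg xg0 yg27 zg25) (kg xg0 yg58 zg46) (kg xg0 yg55 zg34) (kg xg0 yg31 zg60) (kg xg2 yg6 zg56) (kg xg0 yg28 zg48) (kg xg0 yg32 zg9) (kg xg2 yg6 zg59) (kg xg2 yg7 zg1) (kg xg1 yg1 zg21) (kg xg0 yg59 zg27) (kg xg0 yg28 zg7) (kg xg0 yg56 zg36) (kg xg0 yg27 zg35) (kg xg0 yg56 zg46)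 (kg xg2 yg7 zg9) (kg xg2 yg7 zg13) (kg xg2 yg5 zg51) (kg xg2 yg7 zg19) (kg xg0 yg28 zg56) (kg xg0 yg39 zg25) (kg xg2 yg7 zg22) (kg xg0 yg28 zg58) (kg xg1 yg0 zg57) (kg xg2 yg7 zg27) (kg xg1 yg0 zg55) (kg xg1 yg1 zg7) (kg xg1 yg13 zg36) (kg xg1 yg1 zg0) (kg xg2 yg7 zg33) (kg xg0 yg58 zg36) (kg xg2 yg0 zg30) (kg xg0 yg27 zg47) (kg xg2 yg0 zg49) (kg xg0 yg39 zg30) (kg xg0 yg27 zg55) (kg xg1 yg11 zg59) (kg xg1 yg55 zg26) (kg xg2 yg7 zg46)) (@D3.rec (fun _ => Pt) (kg xg0 yg34 zg13) (kg xg1 yg15 zg25) (kg xg2 yg7 zg52) (kg xg1 yg0 zg58) (kg xg1 yg24 zg58) (kg xg1 yg15 zg54) (kg xg2 yg7 zg59) (kg xg0 yg34 zg3) (kg xg1 yg15 zg41) (kg xg2 yg1 zg26) (kg xg1 yg55 zg12) (kg xg2 yg1 zg48) (kg xg2 yg8 zg7) (kg xg2 yg1 zg49) (kg xg0 yg27 zg60) (kg xg2 yg1 zg60) (kg xg1 yg8 zg52) (kg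 xg2 yg7 zg2) (kg xg2 yg7 zg44) (kg xg1 yg24 zg51) (kg xg2 yg8 zg15) (kg xg1 yg9 zg7) (kg xg1 yg55 zg20) (kg xg0 yg28 zg1) (kg xg2 yg8 zg29) (kg xg1 yg55 zg18) (kg xg2 yg3 zg44) (kg xg1 yg59 zg23) (kg xg2 yg7 zg40) (kg xg0 yg28 zg4) (kg xg1 yg59 zg27) (kg xg1 yg28 zg50) (kg xg0 yg28 zg5) (kg xg0 yg58 zg33) (kg xg2 yg0 zg22) (kg xg2 yg3 zg33) (kg xg0 yg56 zg23) (kg xg2 yg8 zg41) (kg xg1 yg57 zg0) (kg xg2 yg8 zg55) (kg xg0 yg55 zg10) (kg xg2 yg8 zg61) (kg xg1 yg55 zg33) (kg xg0 yg28 zg11) (kg xg2 yg9 zg6) (kg xg2 yg9 zg11) (kg xg1 yg55 zg30) (kg xg1 yg11 zg9) (kg xg0 yg28 zg15) (kg xg0 yg28 zg13) (kg xg2 yg9 zg22) (kg xg1 yg57 zg13) (kg xg2 yg9 zg28) (kg xg0 yg28 zg14) (kg xg1 yg5 zg55) (kg xg2 yg9 zg34) (kg xg0 yg55 zg13) (kg xg2 yg9 zg20) (kg xg0 yg42 zg5) (kg xg0 yg37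 zg52) (kg xg2 yg9 zg44) (kg xg1 yg28 zg2)) (@D3.rec (fun _ => Pt) (kg xg2 yg9 zg49) (kg xg1 yg27 zg58) (kg xg2 yg9 zg55) (kg xg1 yg10 zg45) (kg xg0 yg28 zg20) (kg xg0 yg38 zg16) (kg xg1 yg31 zg3) (kg xg2 yg7 zg32) (kg xg2 yg10 zg2) (kg xg1 yg20 zg35) (kg xg2 yg9 zg59) (kg xg2 yg10 zg10) (kg xg0 yg28 zg23) (kg xg2 yg10 zg11) (kg xg2 yg10 zg22) (kg xg2 yg10 zg16) (kg xg0 yg28 zg24) (kg xg1 yg2 zg16) (kg xg2 yg10 zg32) (kg xg1 yg6 zg24) (kg xg2 yg10 zg36) (kg xg1 yg27 zg35) (kg xg0 yg28 zg26) (kg xg2 yg10 zg44) (kg xg1 yg2 zg29) (kg xg2 yg10 zg50) (kg xg1 yg2 zg27) (kg xg0 yg28 zg29) (kg xg1 yg14 zg27) (kg xg0 yg34 zg6) (kg xg0 yg28 zg30) (kg xg1 yg58 zg56) (kg xg0 yg28 zg32) (kg xg1 yg58 zg47) (kg xg2 yg11 zg3) (kg xg2 yg10 zg54) (kg xg2 yg11 zg4) (kg xg1 yg9 zg10) (kg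 xg2 yg11 zg0) (kg xg0 yg28 zg33) (kg xg2 yg11 zg18) (kg xg2 yg10 zg60) (kg xg2 yg11 zg24) (kg xg2 yg11 zg28) (kg xg0 yg28 zg36) (kg xg1 yg18 zg23) (kg xg2 yg11 zg35) (kg xg0 yg28 zg37) (kg xg0 yg35 zg40) (kg xg0 yg28 zg38) (kg xg2 yg11 zg40) (kg xg2 yg2 zg0) (kg xg1 yg18 zg26) (kg xg2 yg11 zg46) (kg xg1 yg58 zg28) (kg xg1 yg10 zg9) (kg xg2 yg11 zg53) (kg xg1 yg14 zg7) (kg xg0 yg54 zg47) (kg xg2 yg12 zg1) (kg xg0 yg36 zg0) (kg xg0 yg28 zg43)) (@D3.rec (fun _ => Pt) (kg xg2 yg12 zg10) (kg xg2 yg12 zg15) (kg xg0 yg35 zg59) (kg xg2 yg12 zg19) (kg xg1 yg19 zg2) (kg xg1 yg22 zg12) (kg xg0 yg28 zg46) (kg xg1 yg3 zg6) (kg xg0 yg28 zg47) (kg xg2 yg2 zg47) (kg xg2 yg12 zg25) (kg xg0 yg36 zg10) (kg xg0 yg54 zg54) (kg xg0 yg54 zg49) (kg xg0 yg28 zg51) (kg xg1 yg28 zg29) (kg xg1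 yg56 zg21) (kg xg1 yg28 zg53) (kg xg0 yg36 zg23) (kg xg0 yg28 zg52) (kg xg0 yg28 zg55) (kg xg2 yg12 zg38) (kg xg2 yg12 zg42) (kg xg2 yg11 zg31) (kg xg2 yg12 zg46) (kg xg2 yg12 zg49) (kg xg0 yg32 zg43) (kg xg1 yg18 zg61) (kg xg1 yg9 zg17) (kg xg2 yg12 zg54) (kg xg1 yg18 zg44) (kg xg0 yg36 zg48) (kg xg0 yg29 zg1) (kg xg0 yg36 zg46) (kg xg2 yg12 zg60) (kg xg1 yg18 zg42) (kg xg1 yg31 zg27) (kg xg0 yg36 zg58) (kg xg0 yg33 zg31) (kg xg2 yg13 zg7) (kg xg1 yg18 zg40) (kg xg2 yg12 zg58) (kg xg2 yg13 zg15) (kg xg1 yg18 zg38) (kg xg2 yg13 zg6) (kg xg2 yg13 zg24) (kg xg0 yg29 zg6) (kg xg2 yg13 zg11) (kg xg2 yg13 zg33) (kg xg2 yg13 zg28) (kg xg0 yg37 zg12) (kg xg0 yg29 zg7) (kg xg2 yg12 zg16) (kg xg2 yg13 zg45) (kg xg0 yg37 zg9) (kg xg0 yg38 zg61) (kg xg1 yg3 zg58) (kg xg1 yg3 zg56)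 (kg xg0 yg29 zg11) (kg xg0 yg37 zg48) (kg xg2 yg13 zg52) (kg xg0 yg37 zg32)) (@D3.rec (fun _ => Pt) (kg xg1 yg32 zg0) (kg xg2 yg13 zg59) (kg xg0 yg41 zg0) (kg xg0 yg39 zg27) (kg xg0 yg30 zg5) (kg xg0 yg37 zg61) (kg xg1 yg5 zg16) (kg xg0 yg37 zg27) (kg xg0 yg29 zg18) (kg xg0 yg37 zg26) (kg xg2 yg14 zg12) (kg xg1 yg30 zg26) (kg xg2 yg13 zg53) (kg xg0 yg42 zg11) (kg xg0 yg30 zg26) (kg xg0 yg38 zg7) (kg xg0 yg29 zg25) (kg xg0 yg38 zg6) (kg xg1 yg21 zg39) (kg xg1 yg33 zg7) (kg xg0 yg37 zg56) (kg xg0 yg29 zg27) (kg xg0 yg37 zg55) (kg xg1 yg21 zg1) (kg xg2 yg14 zg29) (kg xg1 yg32 zg58) (kg xg0 yg38 zg14) (kg xg0 yg29 zg29) (kg xg2 yg14 zg43) (kg xg0 yg38 zg12) (kg xg0 yg38 zg35) (kg xg0 yg29 zg38) (kg xg0 yg38 zg29) (kg xg0 yg29 zg33) (kg xg0 yg38 zg28) (kg xg1 yg31 zg16)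 (kg xg2 yg14 zg57) (kg xg2 yg14 zg61) (kg xg1 yg13 zg31) (kg xg0 yg33 zg32) (kg xg0 yg38 zg20) (kg xg0 yg29 zg36) (kg xg0 yg38 zg19) (kg xg2 yg15 zg14) (kg xg1 yg28 zg33) (kg xg2 yg15 zg20) (kg xg2 yg15 zg24) (kg xg2 yg15 zg28) (kg xg0 yg38 zg17) (kg xg0 yg29 zg40) (kg xg0 yg29 zg43) (kg xg2 yg15 zg7) (kg xg2 yg15 zg39) (kg xg2 yg15 zg45) (kg xg2 yg15 zg49) (kg xg0 yg29 zg41) (kg xg2 yg14 zg2) (kg xg2 yg15 zg40) (kg xg0 yg40 zg23) (kg xg2 yg14 zg45) (kg xg0 yg44 zg45) (kg xg0 yg44 zg46)) (@D3.rec (fun _ => Pt) (kg xg0 yg29 zg42) (kg xg2 yg16 zg8) (kg xg2 yg16 zg12) (kg xg2 yg16 zg15) (kg xg2 yg14 zg50) (kg xg2 yg16 zg20) (kg xg2 yg15 zg6) (kg xg2 yg16 zg27) (kg xg0 yg38 zg59) (kg xg0 yg29 zg46) (kg xg0 yg38 zg58) (kg xg0 yg37 zg13) (kg xg0 yg29 zg47) (kg xg2 yg16 zg39)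 (kg xg1 yg19 zg0) (kg xg1 yg27 zg41) (kg xg1 yg18 zg58) (kg xg0 yg32 zg58) (kg xg1 yg4 zg6) (kg xg0 yg37 zg37) (kg xg2 yg16 zg47) (kg xg1 yg26 zg18) (kg xg1 yg13 zg60) (kg xg2 yg16 zg53) (kg xg2 yg0 zg4) (kg xg0 yg39 zg39) (kg xg1 yg20 zg42) (kg xg1 yg20 zg41) (kg xg2 yg15 zg48) (kg xg2 yg17 zg4) (kg xg2 yg17 zg7) (kg xg1 yg30 zg56) (kg xg1 yg6 zg38) (kg xg0 yg41 zg31) (kg xg0 yg41 zg12) (kg xg0 yg31 zg3) (kg xg1 yg29 zg1) (kg xg0 yg30 zg0) (kg xg2 yg17 zg20) (kg xg2 yg17 zg25) (kg xg0 yg38 zg40) (kg xg2 yg17 zg30) (kg xg0 yg40 zg27) (kg xg0 yg30 zg2) (kg xg0 yg40 zg26) (kg xg0 yg40 zg56) (kg xg0 yg30 zg3) (kg xg0 yg42 zg8) (kg xg0 yg30 zg4) (kg xg0 yg42 zg7) (kg xg2 yg14 zg3) (kg xg2 yg17 zg51) (kg xg0 yg37 zg38) (kg xg0 yg57 zg29) (kg xg0 yg57 zg5) (kg xg0 yg54 zg32)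 (kg xg1 yg11 zg11) (kg xg1 yg27 zg42) (kg xg0 yg41 zg17) (kg xg0 yg30 zg9) (kg xg0 yg41 zg16) (kg xg1 yg26 zg51)) (@D3.rec (fun _ => Pt) (kg xg1 yg26 zg41) (kg xg0 yg42 zg28) (kg xg1 yg33 zg14) (kg xg0 yg42 zg25) (kg xg0 yg30 zg13) (kg xg2 yg18 zg6) (kg xg2 yg18 zg10) (kg xg2 yg18 zg2) (kg xg0 yg30 zg14) (kg xg1 yg31 zg54) (kg xg2 yg18 zg0) (kg xg0 yg41 zg49) (kg xg0 yg30 zg15) (kg xg2 yg18 zg24) (kg xg0 yg41 zg47) (kg xg0 yg30 zg36) (kg xg2 yg17 zg59) (kg xg0 yg42 zg44) (kg xg1 yg27 zg31) (kg xg0 yg41 zg54) (kg xg1 yg5 zg31) (kg xg0 yg45 zg5) (kg xg2 yg17 zg42) (kg xg2 yg18 zg43) (kg xg0 yg54 zg36) (kg xg1 yg31 zg13) (kg xg1 yg57 zg5) (kg xg0 yg30 zg24) (kg xg1 yg21 zg37) (kg xg0 yg40 zg59) (kg xg0 yg30 zg25) (kg xg0 yg40 zg58) (kg xg2 yg18 zg59) (kg xg2 yg19 zg0)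 (kg xg0 yg37 zg53) (kg xg1 yg10 zg32) (kg xg0 yg54 zg57) (kg xg1 yg40 zg53) (kg xg1 yg38 zg32) (kg xg1 yg28 zg59) (kg xg1 yg5 zg32) (kg xg1 yg6 zg50) (kg xg0 yg41 zg37) (kg xg1 yg6 zg41) (kg xg0 yg41 zg34) (kg xg0 yg30 zg33) (kg xg2 yg19 zg16) (kg xg2 yg19 zg15) (kg xg0 yg30 zg34) (kg xg2 yg19 zg25) (kg xg0 yg42 zg50) (kg xg0 yg42 zg38) (kg xg0 yg30 zg35) (kg xg2 yg19 zg32) (kg xg0 yg42 zg36) (kg xg2 yg18 zg40) (kg xg0 yg41 zg51) (kg xg0 yg43 zg59) (kg xg0 yg42 zg26) (kg xg0 yg43 zg7) (kg xg2 yg15 zg0) (kg xg0 yg43 zg1)) (@D3.rec (fun _ => Pt) (kg xg0 yg43 zg2) (kg xg0 yg30 zg42) (kg xg0 yg51 zg34) (kg xg0 yg46 zg11) (kg xg1 yg7 zg34) (kg xg0 yg31 zg1) (kg xg0 yg42 zg55) (kg xg1 yg7 zg10) (kg xg2 yg19 zg49) (kg xg1 yg7 zg7) (kg xg0 yg30 zg47) (kg xg0 yg51 zg44) (kg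 xg0 yg44 zg37) (kg xg1 yg26 zg35) (kg xg0 yg43 zg49) (kg xg0 yg31 zg12) (kg xg0 yg43 zg37) (kg xg0 yg43 zg34) (kg xg0 yg30 zg53) (kg xg2 yg20 zg6) (kg xg2 yg20 zg9) (kg xg0 yg43 zg28) (kg xg0 yg30 zg54) (kg xg0 yg43 zg27) (kg xg0 yg43 zg43) (kg xg0 yg30 zg55) (kg xg0 yg43 zg42) (kg xg0 yg31 zg7) (kg xg1 yg5 zg34) (kg xg0 yg42 zg49) (kg xg1 yg7 zg4) (kg xg1 yg48 zg41) (kg xg0 yg31 zg2) (kg xg2 yg20 zg25) (kg xg1 yg32 zg30) (kg xg2 yg20 zg30) (kg xg2 yg20 zg10) (kg xg1 yg7 zg41) (kg xg1 yg32 zg37) (kg xg2 yg19 zg52) (kg xg2 yg20 zg31) (kg xg0 yg31 zg4) (kg xg0 yg31 zg10) (kg xg0 yg31 zg5) (kg xg2 yg20 zg44) (kg xg1 yg37 zg7) (kg xg1 yg48 zg34) (kg xg2 yg20 zg53) (kg xg2 yg20 zg58) (kg xg2 yg19 zg46) (kg xg2 yg20 zg54) (kg xg2 yg19 zg56) (kg xg2 yg20 zg17) (kg xg0 yg31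 zg8) (kg xg2 yg21 zg14) (kg xg2 yg21 zg19) (kg xg2 yg21 zg24) (kg xg2 yg20 zg45) (kg xg2 yg20 zg50) (kg xg0 yg31 zg9) (kg xg2 yg20 zg49) (kg xg2 yg21 zg35)) (@D3.rec (fun _ => Pt) (kg xg1 yg29 zg2) (kg xg0 yg31 zg11) (kg xg2 yg17 zg10) (kg xg0 yg43 zg32) (kg xg2 yg21 zg46) (kg xg2 yg21 zg50) (kg xg0 yg44 zg36) (kg xg0 yg31 zg13) (kg xg2 yg21 zg58) (kg xg0 yg44 zg34) (kg xg0 yg43 zg20) (kg xg1 yg48 zg2) (kg xg2 yg22 zg4) (kg xg0 yg44 zg43) (kg xg0 yg31 zg15) (kg xg2 yg22 zg11) (kg xg0 yg44 zg41) (kg xg0 yg38 zg47) (kg xg0 yg31 zg16) (kg xg0 yg38 zg49) (kg xg2 yg22 zg22) (kg xg0 yg44 zg51) (kg xg0 yg31 zg17) (kg xg2 yg22 zg32) (kg xg0 yg44 zg49) (kg xg2 yg22 zg36) (kg xg2 yg22 zg38) (kg xg1 yg37 zg3) (kg xg1 yg48 zg33) (kg xg0 yg45 zg34) (kg xg1 yg33 zg44) (kg xg0 yg45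 zg0) (kg xg0 yg44 zg60) (kg xg0 yg31 zg21) (kg xg2 yg22 zg54) (kg xg0 yg41 zg59) (kg xg0 yg31 zg23) (kg xg1 yg6 zg18) (kg xg0 yg54 zg37) (kg xg2 yg23 zg2) (kg xg0 yg31 zg25) (kg xg1 yg59 zg55) (kg xg0 yg57 zg20) (kg xg0 yg31 zg30) (kg xg0 yg31 zg26) (kg xg2 yg23 zg16) (kg xg0 yg31 zg28) (kg xg1 yg16 zg47) (kg xg1 yg1 zg16) (kg xg2 yg23 zg24) (kg xg2 yg23 zg7) (kg xg2 yg23 zg1) (kg xg0 yg54 zg20) (kg xg2 yg6 zg46) (kg xg1 yg19 zg36) (kg xg2 yg23 zg19) (kg xg0 yg31 zg29) (kg xg2 yg23 zg43) (kg xg2 yg23 zg17) (kg xg2 yg6 zg36) (kg xg2 yg23 zg52) (kg xg1 yg59 zg38)) (@D3.rec (fun _ => Pt) (kg xg2 yg23 zg58) (kg xg2 yg23 zg61) (kg xg0 yg58 zg23) (kg xg1 yg0 zg10) (kg xg2 yg24 zg6) (kg xg2 yg6 zg60) (kg xg1 yg57 zg36) (kg xg2 yg6 zg54) (kg xg0 yg31 zg37) (kg xg0 yg58 zg35)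 (kg xg2 yg24 zg12) (kg xg1 yg15 zg30) (kg xg1 yg3 zg27) (kg xg1 yg57 zg34) (kg xg0 yg39 zg35) (kg xg0 yg31 zg48) (kg xg1 yg9 zg15) (kg xg0 yg36 zg50) (kg xg1 yg56 zg57) (kg xg0 yg31 zg51) (kg xg2 yg24 zg21) (kg xg1 yg56 zg55) (kg xg2 yg3 zg20) (kg xg2 yg24 zg30) (kg xg2 yg0 zg23) (kg xg2 yg24 zg36) (kg xg2 yg24 zg38) (kg xg2 yg24 zg41) (kg xg2 yg24 zg42) (kg xg2 yg10 zg59) (kg xg1 yg58 zg2) (kg xg1 yg59 zg16) (kg xg1 yg10 zg17) (kg xg1 yg56 zg40) (kg xg0 yg32 zg2) (kg xg0 yg56 zg26) (kg xg1 yg13 zg26) (kg xg1 yg13 zg27) (kg xg1 yg12 zg5) (kg xg1 yg12 zg6) (kg xg2 yg24 zg51) (kg xg2 yg24 zg55) (kg xg1 yg9 zg48) (kg xg2 yg24 zg59) (kg xg1 yg9 zg46) (kg xg1 yg57 zg47) (kg xg0 yg32 zg18) (kg xg1 yg11 zg44) (kg xg0 yg33 zg53) (kg xg0 yg32 zg23) (kg xg0 yg32 zg19) (kg xg2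 yg25 zg11) (kg xg0 yg32 zg21) (kg xg2 yg7 zg5) (kg xg2 yg25 zg17) (kg xg2 yg25 zg20) (kg xg2 yg25 zg4) (kg xg0 yg59 zg10) (kg xg0 yg59 zg0) (kg xg2 yg12 zg21) (kg xg1 yg0 zg27) (kg xg2 yg25 zg14)) (@D3.rec (fun _ => Pt) (kg xg0 yg32 zg22) (kg xg2 yg25 zg38) (kg xg2 yg25 zg12) (kg xg0 yg59 zg24) (kg xg2 yg25 zg45) (kg xg1 yg11 zg13) (kg xg2 yg25 zg52) (kg xg2 yg25 zg55) (kg xg1 yg17 zg4) (kg xg1 yg2 zg58) (kg xg2 yg26 zg0) (kg xg0 yg55 zg16) (kg xg0 yg32 zg28) (kg xg2 yg7 zg4) (kg xg1 yg28 zg17) (kg xg1 yg56 zg43) (kg xg0 yg32 zg29) (kg xg0 yg56 zg24) (kg xg2 yg26 zg8) (kg xg1 yg18 zg56) (kg xg0 yg32 zg32) (kg xg2 yg26 zg13) (kg xg1 yg57 zg25) (kg xg0 yg54 zg26) (kg xg2 yg26 zg3) (kg xg1 yg20 zg43) (kg xg2 yg26 zg21) (kg xg1 yg28 zg30) (kg xg0 yg32 zg39) (kg xg1 yg28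 zg54) (kg xg0 yg55 zg19) (kg xg1 yg31 zg14) (kg xg1 yg6 zg36) (kg xg2 yg26 zg27) (kg xg0 yg32 zg42) (kg xg2 yg26 zg28) (kg xg2 yg26 zg38) (kg xg2 yg26 zg32) (kg xg1 yg17 zg26) (kg xg2 yg26 zg46) (kg xg0 yg36 zg39) (kg xg0 yg38 zg9) (kg xg2 yg9 zg18) (kg xg2 yg26 zg52) (kg xg1 yg2 zg5) (kg xg1 yg2 zg4) (kg xg0 yg32 zg52) (kg xg0 yg32 zg55) (kg xg2 yg14 zg28) (kg xg2 yg27 zg4) (kg xg2 yg27 zg9) (kg xg2 yg27 zg13) (kg xg0 yg32 zg53) (kg xg2 yg27 zg17) (kg xg2 yg14 zg23) (kg xg1 yg20 zg51) (kg xg2 yg14 zg39) (kg xg2 yg27 zg29) (kg xg2 yg26 zg58) (kg xg0 yg32 zg54) (kg xg2 yg27 zg39) (kg xg2 yg27 zg44)) (@D3.rec (fun _ => Pt) (kg xg2 yg27 zg30) (kg xg2 yg27 zg48) (kg xg1 yg56 zg37) (kg xg0 yg32 zg56) (kg xg1 yg56 zg36) (kg xg0 yg44 zg53) (kg xg2 yg27 zg56) (kg xg1 yg27 zg50)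 (kg xg2 yg17 zg58) (kg xg0 yg40 zg31) (kg xg0 yg41 zg7) (kg xg1 yg5 zg53) (kg xg0 yg57 zg52) (kg xg2 yg4 zg40) (kg xg2 yg8 zg4) (kg xg1 yg56 zg3) (kg xg0 yg33 zg7) (kg xg0 yg33 zg3) (kg xg2 yg28 zg9) (kg xg0 yg33 zg5) (kg xg2 yg1 zg9) (kg xg1 yg58 zg18) (kg xg2 yg28 zg17) (kg xg1 yg59 zg19) (kg xg2 yg4 zg12) (kg xg0 yg34 zg55) (kg xg2 yg28 zg18) (kg xg1 yg18 zg21) (kg xg2 yg28 zg11) (kg xg0 yg33 zg6) (kg xg2 yg28 zg34) (kg xg2 yg23 zg27) (kg xg2 yg28 zg40) (kg xg0 yg33 zg11) (kg xg0 yg33 zg9) (kg xg2 yg28 zg49) (kg xg2 yg28 zg54) (kg xg0 yg33 zg10) (kg xg0 yg54 zg39) (kg xg2 yg28 zg60) (kg xg2 yg29 zg2) (kg xg2 yg28 zg50) (kg xg2 yg29 zg8) (kg xg0 yg57 zg21) (kg xg2 yg24 zg61) (kg xg1 yg14 zg33) (kg xg2 yg29 zg17) (kg xg1 yg55 zg48) (kg xg0 yg34 zg48) (kg xg2 yg29 zg26)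 (kg xg1 yg13 zg19) (kg xg0 yg33 zg15) (kg xg2 yg29 zg35) (kg xg2 yg29 zg40) (kg xg1 yg13 zg16) (kg xg2 yg29 zg44) (kg xg2 yg8 zg1) (kg xg2 yg29 zg46) (kg xg1 yg0 zg59) (kg xg0 yg33 zg18) (kg xg2 yg29 zg53) (kg xg2 yg29 zg57)) (@D3.rec (fun _ => Pt) (kg xg0 yg33 zg25) (kg xg0 yg33 zg20) (kg xg2 yg28 zg45) (kg xg2 yg30 zg6) (kg xg0 yg33 zg41) (kg xg1 yg9 zg39) (kg xg1 yg9 zg38) (kg xg0 yg33 zg27) (kg xg0 yg33 zg23) (kg xg2 yg30 zg16) (kg xg2 yg15 zg4) (kg xg2 yg30 zg20) (kg xg1 yg16 zg1) (kg xg2 yg28 zg47) (kg xg2 yg30 zg27) (kg xg0 yg35 zg26) (kg xg2 yg30 zg31) (kg xg0 yg38 zg25) (kg xg0 yg57 zg0) (kg xg2 yg10 zg1) (kg xg1 yg10 zg31) (kg xg2 yg15 zg51) (kg xg2 yg30 zg43) (kg xg0 yg37 zg2) (kg xg0 yg38 zg41) (kg xg2 yg30 zg44) (kg xg0 yg57 zg28) (kg xg2 yg27 zg15) (kg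 xg2 yg30 zg54) (kg xg0 yg36 zg54) (kg xg1 yg56 zg25) (kg xg2 yg30 zg55) (kg xg0 yg39 zg26) (kg xg2 yg16 zg52) (kg xg0 yg33 zg36) (kg xg2 yg31 zg2) (kg xg2 yg31 zg12) (kg xg2 yg31 zg7) (kg xg1 yg14 zg5) (kg xg0 yg33 zg37) (kg xg2 yg29 zg41) (kg xg2 yg31 zg23) (kg xg1 yg14 zg2) (kg xg0 yg33 zg39) (kg xg2 yg29 zg51) (kg xg0 yg39 zg28) (kg xg0 yg36 zg51) (kg xg0 yg33 zg45) (kg xg2 yg4 zg11) (kg xg2 yg31 zg29) (kg xg0 yg56 zg30) (kg xg1 yg9 zg41) (kg xg2 yg31 zg30) (kg xg1 yg59 zg12) (kg xg1 yg57 zg54) (kg xg0 yg33 zg49) (kg xg2 yg31 zg44) (kg xg1 yg57 zg52) (kg xg1 yg11 zg38) (kg xg1 yg11 zg37) (kg xg0 yg35 zg9) (kg xg2 yg31 zg54)) (@D3.rec (fun _ => Pt) (kg xg0 yg33 zg54) (kg xg0 yg33 zg52) (kg xg2 yg30 zg0) (kg xg2 yg32 zg3) (kg xg2 yg32 zg6) (kg xg2 yg25 zg24) (kg xg2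 yg30 zg3) (kg xg2 yg32 zg14) (kg xg0 yg39 zg31) (kg xg2 yg31 zg51) (kg xg1 yg15 zg1) (kg xg2 yg32 zg24) (kg xg1 yg9 zg43) (kg xg0 yg34 zg33) (kg xg2 yg32 zg32) (kg xg1 yg11 zg54) (kg xg0 yg33 zg58) (kg xg2 yg32 zg41) (kg xg2 yg32 zg46) (kg xg1 yg11 zg51) (kg xg2 yg32 zg50) (kg xg2 yg32 zg51) (kg xg0 yg34 zg7) (kg xg0 yg33 zg61) (kg xg2 yg31 zg59) (kg xg2 yg32 zg60) (kg xg1 yg9 zg37) (kg xg1 yg9 zg36) (kg xg0 yg34 zg9) (kg xg0 yg34 zg2) (kg xg2 yg33 zg4) (kg xg1 yg23 zg0) (kg xg1 yg1 zg8) (kg xg2 yg33 zg11) (kg xg2 yg8 zg19) (kg xg1 yg0 zg50) (kg xg0 yg34 zg4) (kg xg2 yg33 zg19) (kg xg0 yg56 zg37) (kg xg2 yg33 zg24) (kg xg2 yg11 zg9) (kg xg2 yg31 zg61) (kg xg2 yg33 zg31) (kg xg0 yg39 zg17) (kg xg2 yg33 zg35) (kg xg1 yg4 zg38) (kg xg0 yg57 zg30) (kg xg1 yg23 zg46) (kg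 xg2 yg30 zg15) (kg xg1 yg3 zg44) (kg xg1 yg2 zg7) (kg xg0 yg56 zg56) (kg xg1 yg4 zg54) (kg xg2 yg30 zg12) (kg xg0 yg56 zg60) (kg xg2 yg33 zg51) (kg xg2 yg30 zg11) (kg xg1 yg3 zg36) (kg xg1 yg10 zg51) (kg xg2 yg30 zg9) (kg xg0 yg34 zg18) (kg xg1 yg5 zg22)) (@D3.rec (fun _ => Pt) (kg xg2 yg0 zg20) (kg xg1 yg12 zg42) (kg xg0 yg34 zg19) (kg xg2 yg32 zg47) (kg xg2 yg34 zg12) (kg xg1 yg12 zg39) (kg xg2 yg4 zg21) (kg xg1 yg17 zg33) (kg xg0 yg58 zg3) (kg xg1 yg8 zg47) (kg xg0 yg35 zg51) (kg xg0 yg34 zg30) (kg xg0 yg34 zg26) (kg xg2 yg34 zg24) (kg xg0 yg34 zg28) (kg xg1 yg15 zg16) (kg xg2 yg34 zg29) (kg xg2 yg34 zg32) (kg xg2 yg5 zg21) (kg xg0 yg35 zg5) (kg xg0 yg59 zg11) (kg xg2 yg30 zg2) (kg xg1 yg16 zg57) (kg xg2 yg34 zg26) (kg xg0 yg34 zg29) (kg xg2 yg34 zg49) (kg xg2 yg1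 zg46) (kg xg2 yg10 zg52) (kg xg2 yg34 zg57) (kg xg0 yg34 zg53) (kg xg2 yg35 zg0) (kg xg2 yg35 zg3) (kg xg2 yg32 zg1) (kg xg1 yg11 zg48) (kg xg2 yg35 zg10) (kg xg0 yg35 zg11) (kg xg1 yg2 zg54) (kg xg2 yg28 zg12) (kg xg0 yg34 zg45) (kg xg0 yg34 zg38) (kg xg2 yg35 zg17) (kg xg0 yg34 zg43) (kg xg1 yg58 zg23) (kg xg1 yg1 zg26) (kg xg2 yg35 zg14) (kg xg0 yg34 zg41) (kg xg2 yg35 zg27) (kg xg2 yg0 zg33) (kg xg2 yg35 zg31) (kg xg1 yg17 zg13) (kg xg0 yg34 zg51) (kg xg2 yg32 zg57) (kg xg2 yg11 zg30) (kg xg2 yg35 zg19) (kg xg0 yg34 zg44) (kg xg2 yg35 zg44) (kg xg2 yg5 zg15) (kg xg1 yg15 zg14) (kg xg2 yg35 zg52) (kg xg1 yg2 zg25) (kg xg2 yg35 zg57) (kg xg2 yg35 zg60)) (@D3.rec (fun _ => Pt) (kg xg2 yg28 zg52) (kg xg1 yg13 zg13) (kg xg2 yg36 zg5) (kg xg1 yg15 zg9) (kg xg0 yg34 zg50)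 (kg xg2 yg36 zg10) (kg xg1 yg14 zg50) (kg xg1 yg15 zg6) (kg xg2 yg36 zg16) (kg xg1 yg15 zg4) (kg xg2 yg30 zg21) (kg xg0 yg35 zg17) (kg xg1 yg15 zg21) (kg xg2 yg36 zg24) (kg xg1 yg15 zg19) (kg xg2 yg36 zg30) (kg xg1 yg58 zg16) (kg xg2 yg32 zg52) (kg xg2 yg36 zg36) (kg xg0 yg34 zg57) (kg xg2 yg36 zg41) (kg xg1 yg14 zg29) (kg xg0 yg34 zg59) (kg xg2 yg36 zg48) (kg xg0 yg35 zg7) (kg xg1 yg18 zg10) (kg xg2 yg2 zg40) (kg xg1 yg12 zg12) (kg xg0 yg55 zg28) (kg xg2 yg36 zg53) (kg xg2 yg24 zg43) (kg xg0 yg35 zg21) (kg xg0 yg35 zg0) (kg xg2 yg37 zg5) (kg xg0 yg35 zg19) (kg xg2 yg2 zg48) (kg xg0 yg58 zg19) (kg xg1 yg2 zg33) (kg xg2 yg10 zg47) (kg xg2 yg37 zg16) (kg xg2 yg10 zg45) (kg xg2 yg1 zg17) (kg xg2 yg37 zg21) (kg xg2 yg5 zg60) (kg xg2 yg37 zg22) (kg xg2 yg2 zg24) (kg xg2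 yg36 zg50) (kg xg0 yg35 zg8) (kg xg2 yg37 zg32) (kg xg2 yg11 zg8) (kg xg1 yg15 zg28) (kg xg2 yg37 zg39) (kg xg2 yg35 zg35) (kg xg0 yg35 zg15) (kg xg1 yg16 zg2) (kg xg2 yg37 zg49) (kg xg2 yg36 zg9) (kg xg0 yg35 zg16) (kg xg0 yg35 zg12) (kg xg2 yg37 zg60) (kg xg2 yg38 zg3) (kg xg0 yg35 zg13)) (@D3.rec (fun _ => Pt) (kg xg1 yg24 zg56) (kg xg2 yg36 zg38) (kg xg0 yg35 zg14) (kg xg1 yg1 zg1) (kg xg2 yg38 zg12) (kg xg2 yg38 zg16) (kg xg2 yg37 zg50) (kg xg2 yg38 zg21) (kg xg2 yg37 zg61) (kg xg2 yg38 zg27) (kg xg0 yg58 zg13) (kg xg1 yg9 zg11) (kg xg2 yg37 zg38) (kg xg2 yg38 zg36) (kg xg2 yg38 zg41) (kg xg2 yg38 zg44) (kg xg2 yg7 zg58) (kg xg2 yg38 zg37) (kg xg0 yg58 zg14) (kg xg2 yg38 zg55) (kg xg2 yg37 zg9) (kg xg0 yg35 zg20) (kg xg2 yg39 zg5) (kg xg2 yg39 zg10) (kg xg2 yg37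 zg6) (kg xg2 yg39 zg16) (kg xg2 yg39 zg18) (kg xg2 yg5 zg5) (kg xg0 yg35 zg23) (kg xg2 yg32 zg17) (kg xg2 yg39 zg27) (kg xg2 yg39 zg30) (kg xg2 yg1 zg47) (kg xg2 yg39 zg23) (kg xg2 yg39 zg36) (kg xg2 yg4 zg54) (kg xg2 yg0 zg53) (kg xg2 yg39 zg43) (kg xg0 yg57 zg40) (kg xg0 yg56 zg54) (kg xg2 yg39 zg50) (kg xg1 yg25 zg27) (kg xg0 yg35 zg30) (kg xg2 yg39 zg58) (kg xg2 yg40 zg1) (kg xg1 yg25 zg24) (kg xg2 yg12 zg20) (kg xg2 yg25 zg25) (kg xg2 yg11 zg57) (kg xg2 yg1 zg58) (kg xg1 yg14 zg22) (kg xg2 yg5 zg20) (kg xg0 yg35 zg34) (kg xg2 yg40 zg16) (kg xg2 yg40 zg21) (kg xg2 yg40 zg10) (kg xg0 yg35 zg35) (kg xg2 yg40 zg9) (kg xg2 yg10 zg58) (kg xg0 yg36 zg34) (kg xg2 yg40 zg35) (kg xg0 yg36 zg8)) (@D3.rec (fun _ => Pt) (kg xg1 yg25 zg16) (kg xg0 yg35 zg47) (kg xg0 yg35 zg38)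 (kg xg2 yg40 zg47) (kg xg1 yg10 zg38) (kg xg1 yg4 zg28) (kg xg2 yg11 zg37) (kg xg0 yg35 zg39) (kg xg2 yg11 zg36) (kg xg0 yg39 zg14) (kg xg0 yg35 zg55) (kg xg1 yg14 zg43) (kg xg2 yg11 zg25) (kg xg2 yg40 zg61) (kg xg0 yg35 zg44) (kg xg2 yg41 zg3) (kg xg2 yg41 zg7) (kg xg1 yg58 zg24) (kg xg0 yg35 zg45) (kg xg2 yg41 zg16) (kg xg2 yg41 zg21) (kg xg2 yg41 zg0) (kg xg0 yg35 zg46) (kg xg2 yg5 zg4) (kg xg1 yg14 zg49) (kg xg2 yg41 zg27) (kg xg1 yg10 zg8) (kg xg2 yg41 zg33) (kg xg2 yg11 zg47) (kg xg0 yg35 zg48) (kg xg2 yg41 zg41) (kg xg2 yg2 zg55) (kg xg0 yg58 zg56) (kg xg2 yg11 zg39) (kg xg2 yg41 zg49) (kg xg2 yg41 zg53) (kg xg2 yg41 zg54) (kg xg0 yg35 zg56) (kg xg2 yg41 zg60) (kg xg2 yg42 zg3) (kg xg2 yg42 zg6) (kg xg2 yg11 zg56) (kg xg0 yg35 zg54) (kg xg1 yg12 zg14) (kg xg2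 yg11 zg54) (kg xg1 yg14 zg36) (kg xg2 yg42 zg19) (kg xg2 yg42 zg24) (kg xg2 yg42 zg27) (kg xg2 yg42 zg4) (kg xg2 yg42 zg33) (kg xg2 yg12 zg3) (kg xg0 yg35 zg57) (kg xg2 yg12 zg2) (kg xg2 yg42 zg40) (kg xg2 yg42 zg46) (kg xg2 yg42 zg11) (kg xg2 yg42 zg51) (kg xg2 yg42 zg47) (kg xg2 yg42 zg36) (kg xg2 yg42 zg59) (kg xg0 yg35 zg60)) (@D3.rec (fun _ => Pt) (kg xg2 yg42 zg60) (kg xg2 yg43 zg9) (kg xg2 yg43 zg3) (kg xg0 yg37 zg10) (kg xg0 yg35 zg61) (kg xg2 yg43 zg17) (kg xg2 yg43 zg20) (kg xg1 yg25 zg28) (kg xg0 yg36 zg1) (kg xg1 yg55 zg58) (kg xg1 yg16 zg3) (kg xg2 yg25 zg49) (kg xg2 yg12 zg39) (kg xg1 yg11 zg27) (kg xg1 yg59 zg18) (kg xg0 yg36 zg4) (kg xg2 yg43 zg45) (kg xg2 yg43 zg50) (kg xg2 yg43 zg38) (kg xg0 yg36 zg5) (kg xg0 yg59 zg17) (kg xg2 yg43 zg37) (kg xg2 yg25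 zg10) (kg xg1 yg2 zg52) (kg xg2 yg44 zg4) (kg xg1 yg55 zg56) (kg xg1 yg2 zg45) (kg xg1 yg25 zg38) (kg xg2 yg44 zg14) (kg xg0 yg38 zg34) (kg xg2 yg12 zg27) (kg xg0 yg36 zg9) (kg xg2 yg44 zg22) (kg xg2 yg12 zg26) (kg xg1 yg55 zg57) (kg xg0 yg39 zg24) (kg xg1 yg56 zg11) (kg xg2 yg44 zg30) (kg xg1 yg3 zg40) (kg xg2 yg44 zg35) (kg xg1 yg3 zg43) (kg xg2 yg44 zg40) (kg xg1 yg3 zg30) (kg xg2 yg44 zg45) (kg xg1 yg3 zg35) (kg xg2 yg12 zg51) (kg xg0 yg36 zg18) (kg xg2 yg12 zg50) (kg xg2 yg44 zg60) (kg xg2 yg45 zg2) (kg xg2 yg45 zg6) (kg xg1 yg25 zg44) (kg xg0 yg36 zg20) (kg xg2 yg14 zg40) (kg xg2 yg12 zg33) (kg xg1 yg59 zg32) (kg xg1 yg25 zg49) (kg xg1 yg10 zg19) (kg xg1 yg5 zg18) (kg xg2 yg14 zg9) (kg xg2 yg45 zg19) (kg xg0 yg36 zg49)) (@D3.rec (fun _ => Pt) (kg xg0 yg38 zg1)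 (kg xg0 yg55 zg7) (kg xg0 yg36 zg28) (kg xg2 yg1 zg53) (kg xg0 yg59 zg22) (kg xg0 yg59 zg19) (kg xg0 yg36 zg32) (kg xg2 yg45 zg29) (kg xg2 yg45 zg33) (kg xg1 yg59 zg24) (kg xg0 yg36 zg33) (kg xg1 yg10 zg21) (kg xg1 yg12 zg50) (kg xg2 yg45 zg40) (kg xg2 yg41 zg37) (kg xg2 yg12 zg48) (kg xg0 yg36 zg35) (kg xg2 yg45 zg51) (kg xg2 yg12 zg47) (kg xg0 yg58 zg15) (kg xg0 yg36 zg38) (kg xg0 yg37 zg22) (kg xg2 yg45 zg59) (kg xg2 yg46 zg1) (kg xg2 yg31 zg1) (kg xg2 yg13 zg0) (kg xg0 yg36 zg41) (kg xg2 yg12 zg61) (kg xg2 yg46 zg10) (kg xg0 yg36 zg53) (kg xg0 yg36 zg42) (kg xg2 yg46 zg18) (kg xg0 yg36 zg52) (kg xg0 yg36 zg43) (kg xg1 yg20 zg54) (kg xg2 yg12 zg55) (kg xg2 yg46 zg27) (kg xg2 yg8 zg57) (kg xg2 yg13 zg14) (kg xg0 yg36 zg61) (kg xg0 yg38 zg0) (kg xg2 yg46 zg24) (kg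 xg1 yg13 zg57) (kg xg2 yg46 zg36) (kg xg2 yg13 zg5) (kg xg1 yg21 zg21) (kg xg1 yg10 zg22) (kg xg2 yg13 zg23) (kg xg2 yg13 zg17) (kg xg0 yg36 zg59) (kg xg2 yg13 zg16) (kg xg2 yg46 zg51) (kg xg2 yg46 zg55) (kg xg2 yg46 zg59) (kg xg0 yg37 zg1) (kg xg0 yg36 zg60) (kg xg2 yg47 zg4) (kg xg1 yg20 zg46) (kg xg2 yg12 zg59) (kg xg2 yg13 zg9) (kg xg0 yg37 zg0) (kg xg2 yg13 zg8)) (@D3.rec (fun _ => Pt) (kg xg2 yg47 zg19) (kg xg2 yg47 zg23) (kg xg2 yg30 zg42) (kg xg2 yg47 zg29) (kg xg1 yg21 zg33) (kg xg1 yg13 zg49) (kg xg0 yg37 zg4) (kg xg0 yg37 zg7) (kg xg2 yg47 zg13) (kg xg2 yg47 zg40) (kg xg2 yg47 zg45) (kg xg0 yg37 zg5) (kg xg2 yg47 zg50) (kg xg2 yg47 zg41) (kg xg2 yg47 zg2) (kg xg2 yg46 zg41) (kg xg2 yg47 zg61) (kg xg2 yg47 zg35) (kg xg0 yg37 zg6) (kg xg2 yg48 zg9) (kg xg2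 yg48 zg15) (kg xg2 yg48 zg0) (kg xg1 yg23 zg53) (kg xg2 yg46 zg44) (kg xg2 yg48 zg24) (kg xg2 yg47 zg12) (kg xg2 yg47 zg33) (kg xg2 yg48 zg34) (kg xg2 yg48 zg38) (kg xg2 yg13 zg47) (kg xg0 yg37 zg11) (kg xg2 yg13 zg46) (kg xg2 yg48 zg51) (kg xg2 yg16 zg40) (kg xg2 yg48 zg55) (kg xg1 yg2 zg6) (kg xg2 yg48 zg61) (kg xg1 yg28 zg23) (kg xg0 yg37 zg15) (kg xg1 yg28 zg22) (kg xg1 yg5 zg27) (kg xg0 yg37 zg16) (kg xg0 yg42 zg9) (kg xg2 yg49 zg8) (kg xg1 yg25 zg60) (kg xg0 yg37 zg17) (kg xg2 yg49 zg14) (kg xg1 yg26 zg15) (kg xg1 yg24 zg50) (kg xg0 yg37 zg20) (kg xg1 yg24 zg49) (kg xg1 yg10 zg50) (kg xg2 yg49 zg26) (kg xg1 yg27 zg20) (kg xg1 yg19 zg41) (kg xg1 yg28 zg26) (kg xg0 yg37 zg23) (kg xg1 yg28 zg25) (kg xg2 yg49 zg39) (kg xg2 yg49 zg42) (kg xg2 yg49 zg46) (kg xg2 yg49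 zg34)) (@D3.rec (fun _ => Pt) (kg xg2 yg49 zg52) (kg xg1 yg21 zg58) (kg xg2 yg49 zg57) (kg xg2 yg49 zg53) (kg xg1 yg4 zg23) (kg xg1 yg25 zg40) (kg xg2 yg14 zg13) (kg xg2 yg50 zg7) (kg xg2 yg14 zg11) (kg xg0 yg37 zg28) (kg xg2 yg50 zg14) (kg xg2 yg50 zg18) (kg xg0 yg37 zg29) (kg xg2 yg50 zg25) (kg xg2 yg13 zg58) (kg xg0 yg37 zg30) (kg xg2 yg50 zg32) (kg xg1 yg32 zg3) (kg xg2 yg50 zg35) (kg xg1 yg19 zg45) (kg xg2 yg49 zg33) (kg xg2 yg50 zg38) (kg xg1 yg24 zg46) (kg xg2 yg13 zg56) (kg xg0 yg37 zg33) (kg xg2 yg50 zg52) (kg xg2 yg13 zg60) (kg xg1 yg28 zg15) (kg xg2 yg0 zg2) (kg xg2 yg17 zg47) (kg xg1 yg20 zg4) (kg xg2 yg0 zg5) (kg xg1 yg26 zg3) (kg xg2 yg50 zg60) (kg xg2 yg27 zg60) (kg xg2 yg15 zg53) (kg xg2 yg51 zg6) (kg xg0 yg55 zg22) (kg xg2 yg49 zg19) (kg xg1 yg22 zg15)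 (kg xg2 yg49 zg18) (kg xg1 yg4 zg18) (kg xg2 yg13 zg51) (kg xg0 yg37 zg49) (kg xg2 yg51 zg19) (kg xg2 yg51 zg22) (kg xg2 yg14 zg17) (kg xg0 yg37 zg50) (kg xg1 yg30 zg30) (kg xg1 yg26 zg1) (kg xg2 yg51 zg32) (kg xg1 yg6 zg25) (kg xg2 yg51 zg33) (kg xg1 yg56 zg26) (kg xg1 yg23 zg49) (kg xg2 yg14 zg36) (kg xg2 yg10 zg13) (kg xg1 yg23 zg28) (kg xg1 yg21 zg4) (kg xg2 yg14 zg30) (kg xg0 yg37 zg57) (kg xg2 yg51 zg56)) (@D3.rec (fun _ => Pt) (kg xg2 yg51 zg59) (kg xg2 yg27 zg12) (kg xg2 yg52 zg2) (kg xg1 yg56 zg24) (kg xg2 yg17 zg35) (kg xg2 yg14 zg26) (kg xg0 yg37 zg60) (kg xg1 yg33 zg10) (kg xg2 yg13 zg50) (kg xg1 yg57 zg7) (kg xg1 yg3 zg5) (kg xg0 yg55 zg23) (kg xg1 yg25 zg42) (kg xg2 yg26 zg60) (kg xg2 yg27 zg8) (kg xg1 yg21 zg41) (kg xg2 yg14 zg24) (kg xg0 yg38 zg8) (kg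 xg2 yg52 zg26) (kg xg2 yg52 zg30) (kg xg2 yg52 zg34) (kg xg2 yg14 zg38) (kg xg0 yg38 zg10) (kg xg2 yg52 zg41) (kg xg1 yg33 zg0) (kg xg2 yg52 zg44) (kg xg2 yg45 zg13) (kg xg2 yg27 zg16) (kg xg2 yg12 zg34) (kg xg2 yg14 zg44) (kg xg0 yg38 zg13) (kg xg1 yg17 zg5) (kg xg2 yg52 zg54) (kg xg2 yg52 zg57) (kg xg1 yg26 zg19) (kg xg2 yg15 zg52) (kg xg2 yg52 zg58) (kg xg0 yg38 zg43) (kg xg2 yg27 zg19) (kg xg2 yg16 zg24) (kg xg2 yg53 zg9) (kg xg2 yg15 zg34) (kg xg2 yg53 zg4) (kg xg0 yg38 zg53) (kg xg2 yg15 zg15) (kg xg1 yg28 zg37) (kg xg2 yg53 zg20) (kg xg2 yg15 zg11) (kg xg0 yg38 zg21) (kg xg2 yg53 zg29) (kg xg2 yg53 zg33) (kg xg2 yg15 zg12) (kg xg0 yg38 zg22) (kg xg2 yg53 zg42) (kg xg2 yg53 zg23) (kg xg0 yg38 zg23) (kg xg2 yg53 zg52) (kg xg2 yg53 zg21) (kg xg2 yg15 zg2) (kg xg0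 yg38 zg24) (kg xg2 yg54 zg0) (kg xg2 yg32 zg12)) (@D3.rec (fun _ => Pt) (kg xg1 yg13 zg45) (kg xg2 yg54 zg5) (kg xg2 yg16 zg17) (kg xg1 yg23 zg39) (kg xg2 yg10 zg17) (kg xg0 yg38 zg55) (kg xg2 yg16 zg0) (kg xg2 yg9 zg45) (kg xg1 yg31 zg19) (kg xg2 yg15 zg30) (kg xg2 yg9 zg46) (kg xg0 yg38 zg30) (kg xg2 yg54 zg26) (kg xg2 yg54 zg30) (kg xg2 yg14 zg53) (kg xg0 yg38 zg31) (kg xg2 yg54 zg39) (kg xg2 yg54 zg43) (kg xg0 yg38 zg32) (kg xg2 yg54 zg49) (kg xg2 yg13 zg38) (kg xg2 yg15 zg27) (kg xg0 yg38 zg33) (kg xg2 yg54 zg58) (kg xg2 yg15 zg25) (kg xg2 yg15 zg29) (kg xg2 yg12 zg24) (kg xg2 yg48 zg19) (kg xg1 yg21 zg54) (kg xg0 yg39 zg47) (kg xg1 yg13 zg47) (kg xg0 yg38 zg38) (kg xg2 yg54 zg36) (kg xg2 yg55 zg11) (kg xg0 yg38 zg44) (kg xg0 yg38 zg39) (kg xg1 yg22 zg37) (kg xg2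 yg51 zg31) (kg xg2 yg30 zg36) (kg xg1 yg23 zg31) (kg xg0 yg38 zg45) (kg xg2 yg55 zg28) (kg xg2 yg55 zg34) (kg xg2 yg17 zg28) (kg xg2 yg30 zg46) (kg xg2 yg55 zg39) (kg xg2 yg30 zg47) (kg xg2 yg52 zg55) (kg xg1 yg23 zg36) (kg xg1 yg21 zg57) (kg xg2 yg49 zg55) (kg xg2 yg53 zg3) (kg xg2 yg55 zg19) (kg xg1 yg23 zg27) (kg xg2 yg55 zg29) (kg xg2 yg54 zg53) (kg xg0 yg38 zg46) (kg xg2 yg54 zg61) (kg xg2 yg14 zg47) (kg xg2 yg21 zg15) (kg xg2 yg56 zg5) (kg xg2 yg54 zg9)) (@D3.rec (fun _ => Pt) (kg xg2 yg56 zg11) (kg xg2 yg56 zg16) (kg xg2 yg55 zg43) (kg xg2 yg56 zg12) (kg xg2 yg56 zg26) (kg xg2 yg21 zg16) (kg xg0 yg38 zg50) (kg xg2 yg56 zg38) (kg xg2 yg56 zg42) (kg xg2 yg56 zg7) (kg xg0 yg38 zg51) (kg xg2 yg56 zg6) (kg xg2 yg47 zg36) (kg xg0 yg38 zg52) (kg xg2 yg56 zg56) (kg xg2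 yg15 zg9) (kg xg2 yg56 zg61) (kg xg2 yg57 zg2) (kg xg2 yg16 zg23) (kg xg0 yg38 zg54) (kg xg2 yg57 zg10) (kg xg2 yg16 zg21) (kg xg2 yg14 zg52) (kg xg2 yg57 zg14) (kg xg2 yg57 zg18) (kg xg2 yg16 zg30) (kg xg0 yg38 zg56) (kg xg2 yg57 zg26) (kg xg2 yg16 zg28) (kg xg2 yg57 zg30) (kg xg1 yg38 zg28) (kg xg2 yg57 zg35) (kg xg2 yg57 zg25) (kg xg2 yg54 zg8) (kg xg0 yg41 zg45) (kg xg2 yg57 zg36) (kg xg2 yg18 zg7) (kg xg2 yg46 zg45) (kg xg2 yg57 zg52) (kg xg2 yg57 zg53) (kg xg2 yg13 zg49) (kg xg0 yg39 zg0) (kg xg2 yg58 zg2) (kg xg2 yg14 zg34) (kg xg2 yg52 zg35) (kg xg0 yg39 zg3) (kg xg2 yg58 zg11) (kg xg1 yg21 zg22) (kg xg1 yg20 zg50) (kg xg0 yg39 zg4) (kg xg1 yg20 zg49) (kg xg2 yg5 zg1) (kg xg2 yg6 zg10) (kg xg1 yg0 zg6) (kg xg0 yg39 zg12) (kg xg0 yg39 zg8) (kg xg2 yg58 zg25)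 (kg xg0 yg39 zg10) (kg xg2 yg4 zg57) (kg xg2 yg7 zg57) (kg xg2 yg36 zg37) (kg xg2 yg2 zg36)) (@D3.rec (fun _ => Pt) (kg xg0 yg55 zg29) (kg xg0 yg59 zg32) (kg xg2 yg38 zg7) (kg xg2 yg5 zg47) (kg xg2 yg58 zg27) (kg xg0 yg39 zg11) (kg xg2 yg58 zg45) (kg xg1 yg16 zg0) (kg xg2 yg40 zg25) (kg xg2 yg1 zg31) (kg xg2 yg29 zg11) (kg xg2 yg58 zg56) (kg xg0 yg59 zg7) (kg xg2 yg58 zg61) (kg xg2 yg5 zg16) (kg xg2 yg58 zg53) (kg xg2 yg59 zg5) (kg xg2 yg1 zg14) (kg xg1 yg59 zg60) (kg xg2 yg59 zg12) (kg xg0 yg59 zg29) (kg xg0 yg57 zg24) (kg xg2 yg59 zg19) (kg xg1 yg16 zg45) (kg xg0 yg39 zg21) (kg xg2 yg59 zg27) (kg xg2 yg59 zg32) (kg xg1 yg16 zg42) (kg xg1 yg18 zg8) (kg xg2 yg43 zg56) (kg xg2 yg23 zg15) (kg xg2 yg33 zg34) (kg xg2 yg59 zg40) (kg xg0 yg39 zg33) (kg xg2 yg1 zg4) (kg xg2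 yg59 zg45) (kg xg2 yg8 zg39) (kg xg2 yg40 zg54) (kg xg2 yg59 zg50) (kg xg0 yg57 zg7) (kg xg2 yg59 zg53) (kg xg2 yg34 zg1) (kg xg1 yg22 zg10) (kg xg2 yg34 zg3) (kg xg1 yg18 zg52) (kg xg2 yg59 zg57) (kg xg2 yg33 zg50) (kg xg1 yg13 zg44) (kg xg2 yg30 zg37) (kg xg1 yg18 zg57) (kg xg3 yg0 zg5) (kg xg0 yg39 zg40) (kg xg3 yg0 zg6) (kg xg2 yg55 zg12) (kg xg3 yg0 zg9) (kg xg2 yg16 zg60) (kg xg0 yg39 zg41) (kg xg2 yg59 zg33) (kg xg3 yg0 zg25) (kg xg2 yg0 zg7) (kg xg1 yg20 zg45) (kg xg0 yg39 zg45)) (@D3.rec (fun _ => Pt) (kg xg0 yg39 zg48) (kg xg1 yg31 zg17) (kg xg2 yg14 zg20) (kg xg3 yg0 zg33) (kg xg0 yg39 zg46) (kg xg2 yg14 zg8) (kg xg2 yg17 zg44) (kg xg1 yg21 zg49) (kg xg3 yg0 zg36) (kg xg3 yg0 zg40) (kg xg3 yg0 zg43) (kg xg2 yg17 zg6) (kg xg0 yg39 zg49) (kg xg2 yg17 zg5) (kg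 xg1 yg20 zg47) (kg xg0 yg39 zg50) (kg xg2 yg47 zg10) (kg xg1 yg19 zg20) (kg xg1 yg28 zg4) (kg xg2 yg26 zg56) (kg xg0 yg39 zg54) (kg xg1 yg22 zg11) (kg xg0 yg54 zg50) (kg xg1 yg10 zg29) (kg xg1 yg48 zg24) (kg xg0 yg45 zg40) (kg xg1 yg43 zg54) (kg xg3 yg1 zg5) (kg xg0 yg39 zg61) (kg xg3 yg1 zg2) (kg xg3 yg1 zg3) (kg xg1 yg32 zg13) (kg xg0 yg47 zg1) (kg xg1 yg29 zg12) (kg xg0 yg45 zg4) (kg xg1 yg26 zg34) (kg xg1 yg33 zg56) (kg xg3 yg1 zg18) (kg xg2 yg18 zg32) (kg xg0 yg40 zg18) (kg xg0 yg44 zg28) (kg xg1 yg5 zg61) (kg xg0 yg48 zg53) (kg xg0 yg40 zg9) (kg xg1 yg29 zg43) (kg xg3 yg1 zg28) (kg xg1 yg37 zg41) (kg xg3 yg1 zg32) (kg xg1 yg30 zg60) (kg xg3 yg1 zg24) (kg xg1 yg30 zg61) (kg xg1 yg6 zg0) (kg xg0 yg41 zg32) (kg xg1 yg31 zg53) (kg xg0 yg49 zg6) (kg xg1 yg31 zg0) (kg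 xg0 yg52 zg2) (kg xg3 yg1 zg45) (kg xg2 yg20 zg3) (kg xg1 yg49 zg51) (kg xg1 yg31 zg35) (kg xg1 yg49 zg49)) (@D3.rec (fun _ => Pt) (kg xg2 yg20 zg11) (kg xg3 yg1 zg22) (kg xg0 yg40 zg19) (kg xg3 yg2 zg3) (kg xg1 yg35 zg19) (kg xg3 yg2 zg10) (kg xg0 yg51 zg47) (kg xg3 yg1 zg47) (kg xg0 yg40 zg20) (kg xg3 yg1 zg46) (kg xg3 yg2 zg23) (kg xg0 yg43 zg46) (kg xg3 yg1 zg37) (kg xg2 yg15 zg32) (kg xg3 yg2 zg30) (kg xg2 yg17 zg33) (kg xg0 yg40 zg24) (kg xg3 yg2 zg39) (kg xg2 yg17 zg31) (kg xg3 yg2 zg43) (kg xg2 yg52 zg9) (kg xg3 yg2 zg51) (kg xg2 yg20 zg13) (kg xg2 yg20 zg2) (kg xg1 yg20 zg53) (kg xg2 yg20 zg16) (kg xg3 yg3 zg2) (kg xg1 yg29 zg8) (kg xg1 yg29 zg10) (kg xg0 yg40 zg28) (kg xg3 yg3 zg11) (kg xg1 yg30 zg52) (kg xg3 yg3 zg15) (kg xg3 yg3 zg18) (kg xg1 yg1 zg47) (kg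 xg1 yg2 zg22) (kg xg0 yg55 zg1) (kg xg0 yg40 zg32) (kg xg0 yg55 zg0) (kg xg3 yg3 zg28) (kg xg2 yg58 zg13) (kg xg1 yg5 zg17) (kg xg1 yg28 zg58) (kg xg0 yg40 zg38) (kg xg1 yg5 zg57) (kg xg0 yg41 zg3) (kg xg2 yg15 zg55) (kg xg0 yg42 zg2) (kg xg2 yg10 zg39) (kg xg1 yg57 zg1) (kg xg1 yg57 zg16) (kg xg3 yg3 zg42) (kg xg1 yg2 zg19) (kg xg1 yg21 zg27) (kg xg0 yg40 zg50) (kg xg0 yg40 zg40) (kg xg0 yg40 zg49) (kg xg0 yg42 zg3) (kg xg1 yg1 zg61) (kg xg2 yg49 zg3) (kg xg1 yg58 zg11) (kg xg0 yg40 zg42)) (@D3.rec (fun _ => Pt) (kg xg2 yg18 zg42) (kg xg3 yg3 zg57) (kg xg1 yg2 zg1) (kg xg2 yg18 zg47) (kg xg1 yg55 zg40) (kg xg3 yg3 zg53) (kg xg2 yg18 zg45) (kg xg0 yg40 zg45) (kg xg2 yg18 zg44) (kg xg2 yg53 zg25) (kg xg3 yg4 zg16) (kg xg3 yg4 zg20) (kg xg3 yg3 zg47) (kg xg0 yg40 zg47)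 (kg xg3 yg4 zg29) (kg xg2 yg17 zg55) (kg xg2 yg9 zg31) (kg xg1 yg58 zg5) (kg xg1 yg55 zg36) (kg xg2 yg24 zg15) (kg xg2 yg27 zg59) (kg xg1 yg20 zg39) (kg xg0 yg40 zg51) (kg xg1 yg20 zg38) (kg xg1 yg20 zg57) (kg xg0 yg40 zg52) (kg xg1 yg20 zg56) (kg xg3 yg4 zg47) (kg xg2 yg46 zg26) (kg xg1 yg19 zg21) (kg xg1 yg10 zg28) (kg xg1 yg26 zg5) (kg xg3 yg4 zg54) (kg xg1 yg22 zg45) (kg xg3 yg4 zg61) (kg xg2 yg18 zg61) (kg xg3 yg4 zg55) (kg xg1 yg4 zg44) (kg xg1 yg25 zg45) (kg xg3 yg5 zg12) (kg xg3 yg5 zg15) (kg xg0 yg40 zg60) (kg xg3 yg5 zg23) (kg xg3 yg5 zg13) (kg xg2 yg17 zg54) (kg xg0 yg40 zg61) (kg xg3 yg5 zg31) (kg xg2 yg17 zg52) (kg xg1 yg1 zg53) (kg xg1 yg59 zg30) (kg xg2 yg4 zg4) (kg xg3 yg5 zg38) (kg xg2 yg13 zg4) (kg xg1 yg18 zg54) (kg xg0 yg54 zg55) (kg xg2 yg58 zg17)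 (kg xg2 yg46 zg35) (kg xg2 yg16 zg44) (kg xg1 yg27 zg44) (kg xg1 yg29 zg49) (kg xg0 yg41 zg28) (kg xg1 yg6 zg39)) (@D3.rec (fun _ => Pt) (kg xg0 yg41 zg58) (kg xg1 yg5 zg37) (kg xg1 yg8 zg1) (kg xg2 yg20 zg26) (kg xg3 yg5 zg58) (kg xg1 yg7 zg28) (kg xg3 yg6 zg2) (kg xg1 yg27 zg27) (kg xg0 yg41 zg13) (kg xg3 yg6 zg9) (kg xg1 yg27 zg29) (kg xg1 yg37 zg31) (kg xg1 yg26 zg43) (kg xg1 yg37 zg33) (kg xg1 yg29 zg19) (kg xg0 yg45 zg53) (kg xg0 yg41 zg44) (kg xg0 yg41 zg50) (kg xg1 yg32 zg24) (kg xg1 yg32 zg15) (kg xg1 yg32 zg45) (kg xg3 yg6 zg27) (kg xg3 yg6 zg30) (kg xg1 yg32 zg16) (kg xg0 yg41 zg19) (kg xg3 yg6 zg37) (kg xg1 yg32 zg56) (kg xg0 yg41 zg20) (kg xg2 yg18 zg12) (kg xg1 yg32 zg55) (kg xg2 yg22 zg60) (kg xg1 yg44 zg20) (kg xg1 yg26 zg32) (kg xg0 yg42 zg39) (kg xg0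 yg45 zg24) (kg xg1 yg48 zg48) (kg xg3 yg6 zg56) (kg xg1 yg32 zg50) (kg xg0 yg41 zg26) (kg xg1 yg32 zg49) (kg xg1 yg41 zg1) (kg xg1 yg49 zg29) (kg xg3 yg7 zg1) (kg xg1 yg26 zg46) (kg xg3 yg7 zg4) (kg xg3 yg1 zg52) (kg xg3 yg7 zg8) (kg xg1 yg6 zg48) (kg xg2 yg6 zg29) (kg xg1 yg28 zg61) (kg xg2 yg20 zg28) (kg xg3 yg7 zg6) (kg xg3 yg6 zg59) (kg xg2 yg19 zg17) (kg xg3 yg7 zg20) (kg xg0 yg41 zg43) (kg xg0 yg41 zg35) (kg xg2 yg19 zg6) (kg xg0 yg41 zg41) (kg xg1 yg38 zg2) (kg xg1 yg35 zg9) (kg xg2 yg19 zg22)) (@D3.rec (fun _ => Pt) (kg xg2 yg17 zg8) (kg xg3 yg7 zg28) (kg xg1 yg38 zg22) (kg xg2 yg19 zg7) (kg xg0 yg41 zg38) (kg xg3 yg7 zg45) (kg xg3 yg7 zg48) (kg xg3 yg7 zg23) (kg xg0 yg41 zg39) (kg xg3 yg7 zg59) (kg xg3 yg7 zg21) (kg xg3 yg7 zg60) (kg xg3 yg8 zg1) (kg xg2 yg19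 zg9) (kg xg2 yg17 zg9) (kg xg3 yg5 zg49) (kg xg2 yg3 zg37) (kg xg0 yg41 zg42) (kg xg2 yg23 zg59) (kg xg1 yg32 zg29) (kg xg1 yg37 zg35) (kg xg3 yg8 zg14) (kg xg3 yg8 zg17) (kg xg3 yg8 zg20) (kg xg0 yg42 zg30) (kg xg3 yg8 zg24) (kg xg1 yg21 zg48) (kg xg3 yg8 zg32) (kg xg1 yg38 zg27) (kg xg1 yg38 zg1) (kg xg1 yg4 zg11) (kg xg3 yg8 zg33) (kg xg2 yg17 zg61) (kg xg2 yg18 zg27) (kg xg0 yg41 zg48) (kg xg3 yg8 zg53) (kg xg2 yg18 zg25) (kg xg2 yg18 zg30) (kg xg2 yg18 zg29) (kg xg3 yg6 zg18) (kg xg1 yg37 zg24) (kg xg0 yg42 zg33) (kg xg0 yg41 zg52) (kg xg1 yg40 zg54) (kg xg3 yg9 zg6) (kg xg1 yg37 zg26) (kg xg3 yg9 zg11) (kg xg3 yg6 zg49) (kg xg1 yg37 zg45) (kg xg3 yg9 zg19) (kg xg3 yg9 zg22) (kg xg1 yg44 zg31) (kg xg1 yg8 zg37) (kg xg3 yg9 zg29) (kg xg3 yg8 zg6) (kg xg2 yg18 zg38)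 (kg xg2 yg18 zg37) (kg xg2 yg21 zg38) (kg xg0 yg42 zg43) (kg xg3 yg9 zg38) (kg xg0 yg41 zg60) (kg xg1 yg26 zg42)) (@D3.rec (fun _ => Pt) (kg xg3 yg2 zg27) (kg xg2 yg18 zg35) (kg xg3 yg9 zg46) (kg xg1 yg2 zg9) (kg xg2 yg9 zg24) (kg xg0 yg42 zg1) (kg xg2 yg9 zg23) (kg xg2 yg54 zg22) (kg xg3 yg9 zg60) (kg xg3 yg10 zg0) (kg xg2 yg9 zg42) (kg xg3 yg10 zg5) (kg xg2 yg9 zg40) (kg xg2 yg51 zg36) (kg xg2 yg9 zg0) (kg xg3 yg10 zg10) (kg xg1 yg23 zg8) (kg xg1 yg26 zg7) (kg xg3 yg10 zg11) (kg xg1 yg4 zg35) (kg xg2 yg44 zg31) (kg xg2 yg19 zg3) (kg xg0 yg42 zg10) (kg xg3 yg10 zg21) (kg xg2 yg19 zg1) (kg xg2 yg58 zg16) (kg xg0 yg42 zg16) (kg xg1 yg19 zg42) (kg xg1 yg57 zg3) (kg xg1 yg1 zg41) (kg xg2 yg58 zg18) (kg xg0 yg42 zg18) (kg xg1 yg47 zg60) (kg xg0 yg42 zg22) (kg xg0 yg47 zg50)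 (kg xg1 yg34 zg35) (kg xg3 yg6 zg60) (kg xg1 yg42 zg5) (kg xg1 yg26 zg60) (kg xg1 yg35 zg53) (kg xg3 yg6 zg39) (kg xg2 yg18 zg19) (kg xg2 yg18 zg17) (kg xg0 yg42 zg32) (kg xg3 yg10 zg41) (kg xg1 yg38 zg24) (kg xg1 yg41 zg3) (kg xg3 yg10 zg42) (kg xg2 yg17 zg60) (kg xg0 yg42 zg29) (kg xg3 yg10 zg49) (kg xg3 yg10 zg52) (kg xg1 yg46 zg60) (kg xg3 yg10 zg55) (kg xg3 yg10 zg58) (kg xg0 yg53 zg18) (kg xg1 yg26 zg53) (kg xg1 yg6 zg9) (kg xg3 yg9 zg3) (kg xg3 yg11 zg3) (kg xg2 yg18 zg15) (kg xg3 yg11 zg7)) (@D3.rec (fun _ => Pt) (kg xg1 yg21 zg17) (kg xg3 yg11 zg12) (kg xg3 yg6 zg17) (kg xg1 yg4 zg0) (kg xg3 yg11 zg13) (kg xg1 yg38 zg25) (kg xg2 yg19 zg35) (kg xg0 yg42 zg37) (kg xg3 yg11 zg32) (kg xg2 yg19 zg33) (kg xg1 yg37 zg49) (kg xg1 yg38 zg16) (kg xg3 yg11 zg40) (kg xg1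 yg37 zg29) (kg xg3 yg11 zg46) (kg xg0 yg42 zg41) (kg xg1 yg29 zg24) (kg xg3 yg11 zg50) (kg xg1 yg26 zg31) (kg xg3 yg11 zg54) (kg xg3 yg8 zg46) (kg xg0 yg43 zg48) (kg xg1 yg29 zg18) (kg xg1 yg33 zg16) (kg xg0 yg42 zg58) (kg xg3 yg6 zg50) (kg xg0 yg43 zg51) (kg xg2 yg21 zg0) (kg xg3 yg1 zg39) (kg xg1 yg29 zg57) (kg xg1 yg7 zg30) (kg xg2 yg20 zg39) (kg xg2 yg19 zg50) (kg xg3 yg12 zg5) (kg xg1 yg37 zg52) (kg xg1 yg34 zg37) (kg xg3 yg12 zg11) (kg xg1 yg7 zg33) (kg xg3 yg12 zg7) (kg xg3 yg12 zg20) (kg xg2 yg19 zg48) (kg xg0 yg42 zg56) (kg xg3 yg7 zg40) (kg xg3 yg12 zg30) (kg xg0 yg42 zg57) (kg xg0 yg52 zg3) (kg xg1 yg34 zg43) (kg xg3 yg12 zg39) (kg xg1 yg29 zg39) (kg xg0 yg42 zg59) (kg xg1 yg29 zg38) (kg xg0 yg51 zg35) (kg xg1 yg39 zg25) (kg xg3 yg12 zg50) (kg xg1 yg29 zg29)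 (kg xg0 yg42 zg61) (kg xg1 yg29 zg27) (kg xg0 yg51 zg48) (kg xg1 yg22 zg24) (kg xg3 yg13 zg1) (kg xg3 yg12 zg56) (kg xg1 yg37 zg51)) (@D3.rec (fun _ => Pt) (kg xg1 yg4 zg25) (kg xg3 yg13 zg2) (kg xg3 yg13 zg15) (kg xg0 yg43 zg5) (kg xg3 yg10 zg31) (kg xg0 yg44 zg14) (kg xg1 yg46 zg55) (kg xg1 yg22 zg7) (kg xg3 yg12 zg45) (kg xg0 yg51 zg49) (kg xg1 yg4 zg19) (kg xg3 yg12 zg42) (kg xg0 yg43 zg44) (kg xg0 yg44 zg0) (kg xg1 yg6 zg10) (kg xg0 yg45 zg25) (kg xg0 yg52 zg6) (kg xg1 yg34 zg20) (kg xg3 yg13 zg29) (kg xg1 yg39 zg61) (kg xg1 yg42 zg44) (kg xg3 yg13 zg33) (kg xg3 yg13 zg38) (kg xg1 yg37 zg47) (kg xg3 yg1 zg4) (kg xg1 yg38 zg33) (kg xg3 yg13 zg34) (kg xg0 yg44 zg52) (kg xg1 yg48 zg45) (kg xg3 yg13 zg50) (kg xg0 yg43 zg61) (kg xg3 yg13 zg53) (kg xg3 yg2 zg44) (kg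 xg0 yg46 zg12) (kg xg3 yg13 zg54) (kg xg3 yg3 zg6) (kg xg1 yg48 zg27) (kg xg0 yg43 zg24) (kg xg3 yg14 zg10) (kg xg3 yg14 zg13) (kg xg2 yg20 zg22) (kg xg0 yg43 zg25) (kg xg3 yg13 zg51) (kg xg2 yg20 zg0) (kg xg1 yg37 zg14) (kg xg3 yg3 zg10) (kg xg0 yg43 zg57) (kg xg1 yg8 zg30) (kg xg3 yg2 zg55) (kg xg1 yg40 zg61) (kg xg3 yg14 zg36) (kg xg2 yg21 zg31) (kg xg3 yg6 zg14) (kg xg3 yg6 zg15) (kg xg3 yg14 zg37) (kg xg2 yg21 zg7) (kg xg0 yg43 zg33) (kg xg1 yg37 zg44) (kg xg1 yg51 zg18) (kg xg3 yg14 zg51) (kg xg3 yg14 zg54) (kg xg0 yg44 zg4)) (@D3.rec (fun _ => Pt) (kg xg3 yg14 zg52) (kg xg2 yg17 zg34) (kg xg2 yg19 zg61) (kg xg0 yg43 zg38) (kg xg3 yg15 zg3) (kg xg1 yg49 zg48) (kg xg3 yg9 zg31) (kg xg0 yg44 zg6) (kg xg1 yg37 zg53) (kg xg1 yg30 zg54) (kg xg0 yg43 zg50) (kg xg2 yg17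 zg41) (kg xg2 yg17 zg36) (kg xg0 yg44 zg18) (kg xg3 yg15 zg9) (kg xg3 yg1 zg26) (kg xg0 yg44 zg11) (kg xg2 yg20 zg15) (kg xg1 yg32 zg46) (kg xg3 yg1 zg57) (kg xg1 yg34 zg7) (kg xg0 yg52 zg50) (kg xg1 yg26 zg54) (kg xg0 yg48 zg60) (kg xg0 yg44 zg1) (kg xg0 yg47 zg14) (kg xg3 yg15 zg25) (kg xg1 yg39 zg20) (kg xg1 yg34 zg40) (kg xg0 yg44 zg3) (kg xg0 yg43 zg56) (kg xg2 yg54 zg41) (kg xg3 yg15 zg36) (kg xg3 yg15 zg39) (kg xg3 yg1 zg58) (kg xg1 yg31 zg38) (kg xg3 yg1 zg51) (kg xg1 yg32 zg38) (kg xg0 yg47 zg27) (kg xg1 yg41 zg11) (kg xg0 yg44 zg2) (kg xg3 yg15 zg50) (kg xg3 yg15 zg37) (kg xg3 yg6 zg23) (kg xg2 yg19 zg37) (kg xg1 yg49 zg39) (kg xg2 yg21 zg54) (kg xg2 yg19 zg58) (kg xg1 yg49 zg42) (kg xg3 yg14 zg40) (kg xg0 yg44 zg22) (kg xg0 yg44 zg9) (kg xg3 yg16 zg13) (kg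 xg3 yg2 zg1) (kg xg3 yg16 zg19) (kg xg0 yg44 zg25) (kg xg0 yg44 zg10) (kg xg0 yg44 zg24) (kg xg3 yg12 zg0) (kg xg1 yg30 zg21) (kg xg3 yg16 zg34) (kg xg0 yg44 zg15)) (@D3.rec (fun _ => Pt) (kg xg0 yg44 zg12) (kg xg2 yg57 zg16) (kg xg3 yg16 zg46) (kg xg3 yg16 zg49) (kg xg3 yg16 zg2) (kg xg0 yg44 zg13) (kg xg3 yg16 zg58) (kg xg3 yg16 zg0) (kg xg1 yg48 zg31) (kg xg1 yg30 zg1) (kg xg3 yg13 zg19) (kg xg3 yg17 zg8) (kg xg3 yg16 zg47) (kg xg3 yg17 zg14) (kg xg3 yg16 zg8) (kg xg0 yg44 zg16) (kg xg3 yg17 zg23) (kg xg2 yg22 zg9) (kg xg3 yg17 zg27) (kg xg1 yg41 zg47) (kg xg3 yg16 zg53) (kg xg3 yg17 zg3) (kg xg1 yg27 zg4) (kg xg3 yg17 zg18) (kg xg2 yg16 zg1) (kg xg0 yg44 zg19) (kg xg2 yg16 zg9) (kg xg3 yg17 zg50) (kg xg3 yg17 zg54) (kg xg0 yg52 zg59) (kg xg0 yg44 zg20) (kg xg0 yg52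 zg58) (kg xg3 yg18 zg1) (kg xg3 yg1 zg60) (kg xg3 yg16 zg22) (kg xg0 yg44 zg21) (kg xg3 yg18 zg14) (kg xg3 yg16 zg20) (kg xg3 yg18 zg19) (kg xg3 yg17 zg22) (kg xg3 yg18 zg23) (kg xg3 yg18 zg26) (kg xg3 yg13 zg18) (kg xg3 yg16 zg41) (kg xg3 yg18 zg27) (kg xg3 yg18 zg39) (kg xg3 yg15 zg10) (kg xg3 yg15 zg12) (kg xg0 yg44 zg26) (kg xg3 yg18 zg46) (kg xg3 yg1 zg13) (kg xg1 yg44 zg49) (kg xg3 yg9 zg41) (kg xg2 yg19 zg38) (kg xg0 yg49 zg29) (kg xg1 yg44 zg30) (kg xg0 yg44 zg29) (kg xg3 yg18 zg53) (kg xg1 yg48 zg14) (kg xg3 yg18 zg59) (kg xg2 yg22 zg0) (kg xg0 yg44 zg31)) (@D3.rec (fun _ => Pt) (kg xg3 yg19 zg5) (kg xg3 yg19 zg8) (kg xg3 yg19 zg0) (kg xg0 yg44 zg32) (kg xg3 yg19 zg19) (kg xg3 yg18 zg60) (kg xg2 yg20 zg61) (kg xg3 yg3 zg3) (kg xg0 yg44 zg59) (kg xg3 yg19 zg26)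 (kg xg3 yg19 zg31) (kg xg2 yg21 zg61) (kg xg0 yg44 zg35) (kg xg3 yg19 zg36) (kg xg2 yg21 zg59) (kg xg2 yg21 zg47) (kg xg2 yg20 zg18) (kg xg2 yg21 zg44) (kg xg0 yg44 zg38) (kg xg3 yg19 zg49) (kg xg3 yg19 zg51) (kg xg0 yg44 zg39) (kg xg3 yg19 zg57) (kg xg2 yg21 zg34) (kg xg3 yg19 zg61) (kg xg2 yg20 zg43) (kg xg3 yg20 zg0) (kg xg1 yg8 zg27) (kg xg2 yg22 zg14) (kg xg0 yg44 zg42) (kg xg3 yg20 zg9) (kg xg2 yg22 zg12) (kg xg2 yg53 zg12) (kg xg3 yg20 zg18) (kg xg3 yg20 zg22) (kg xg3 yg20 zg19) (kg xg2 yg57 zg6) (kg xg3 yg20 zg30) (kg xg3 yg20 zg32) (kg xg0 yg44 zg47) (kg xg2 yg59 zg29) (kg xg3 yg20 zg31) (kg xg3 yg20 zg42) (kg xg3 yg20 zg47) (kg xg2 yg57 zg9) (kg xg2 yg53 zg8) (kg xg3 yg20 zg48) (kg xg3 yg20 zg60) (kg xg2 yg22 zg35) (kg xg0 yg44 zg50) (kg xg3 yg21 zg7) (kg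 xg2 yg22 zg33) (kg xg2 yg22 zg43) (kg xg2 yg22 zg42) (kg xg3 yg21 zg16) (kg xg3 yg21 zg18) (kg xg3 yg21 zg22) (kg xg0 yg44 zg57) (kg xg2 yg39 zg41) (kg xg3 yg21 zg27) (kg xg2 yg50 zg31) (kg xg0 yg44 zg58)) (@D3.rec (fun _ => Pt) (kg xg0 yg44 zg54) (kg xg3 yg10 zg44) (kg xg1 yg36 zg8) (kg xg0 yg44 zg55) (kg xg0 yg44 zg56) (kg xg2 yg19 zg60) (kg xg3 yg19 zg47) (kg xg1 yg7 zg60) (kg xg3 yg19 zg25) (kg xg2 yg50 zg10) (kg xg3 yg21 zg28) (kg xg3 yg13 zg3) (kg xg3 yg11 zg22) (kg xg1 yg37 zg2) (kg xg1 yg33 zg47) (kg xg2 yg22 zg55) (kg xg3 yg13 zg40) (kg xg3 yg19 zg28) (kg xg2 yg21 zg57) (kg xg3 yg22 zg0) (kg xg2 yg22 zg49) (kg xg0 yg45 zg1) (kg xg3 yg22 zg9) (kg xg3 yg22 zg13) (kg xg1 yg30 zg45) (kg xg3 yg9 zg35) (kg xg1 yg30 zg40) (kg xg3 yg19 zg30) (kg xg2 yg19 zg57) (kg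 xg1 yg32 zg18) (kg xg3 yg22 zg27) (kg xg0 yg45 zg7) (kg xg3 yg22 zg32) (kg xg1 yg29 zg16) (kg xg1 yg30 zg20) (kg xg0 yg45 zg11) (kg xg3 yg16 zg28) (kg xg3 yg22 zg42) (kg xg0 yg45 zg37) (kg xg0 yg45 zg12) (kg xg0 yg45 zg36) (kg xg1 yg26 zg44) (kg xg1 yg34 zg9) (kg xg0 yg45 zg16) (kg xg3 yg1 zg17) (kg xg1 yg29 zg30) (kg xg0 yg47 zg48) (kg xg0 yg54 zg16) (kg xg0 yg45 zg28) (kg xg1 yg29 zg33) (kg xg2 yg55 zg35) (kg xg3 yg22 zg56) (kg xg1 yg49 zg44) (kg xg1 yg34 zg5) (kg xg3 yg22 zg54) (kg xg1 yg33 zg6) (kg xg0 yg51 zg26) (kg xg0 yg45 zg31) (kg xg0 yg45 zg26) (kg xg2 yg20 zg51) (kg xg3 yg23 zg8) (kg xg1 yg31 zg46)) (@D3.rec (fun _ => Pt) (kg xg3 yg23 zg12) (kg xg3 yg23 zg16) (kg xg1 yg33 zg49) (kg xg3 yg23 zg13) (kg xg1 yg31 zg61) (kg xg3 yg22 zg52) (kg xg0 yg45 zg29) (kg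 xg3 yg23 zg34) (kg xg3 yg23 zg39) (kg xg3 yg21 zg17) (kg xg3 yg23 zg5) (kg xg3 yg23 zg10) (kg xg0 yg45 zg30) (kg xg3 yg23 zg9) (kg xg3 yg23 zg56) (kg xg1 yg32 zg11) (kg xg0 yg45 zg32) (kg xg1 yg56 zg30) (kg xg0 yg45 zg33) (kg xg1 yg56 zg32) (kg xg3 yg24 zg4) (kg xg3 yg24 zg7) (kg xg3 yg24 zg10) (kg xg2 yg18 zg5) (kg xg1 yg32 zg5) (kg xg1 yg31 zg45) (kg xg2 yg19 zg31) (kg xg2 yg19 zg42) (kg xg1 yg24 zg34) (kg xg1 yg30 zg24) (kg xg1 yg43 zg11) (kg xg0 yg45 zg43) (kg xg1 yg6 zg40) (kg xg1 yg39 zg22) (kg xg3 yg24 zg20) (kg xg1 yg42 zg35) (kg xg1 yg42 zg42) (kg xg1 yg33 zg25) (kg xg3 yg22 zg50) (kg xg0 yg48 zg49) (kg xg1 yg41 zg22) (kg xg3 yg24 zg30) (kg xg1 yg47 zg25) (kg xg1 yg39 zg15) (kg xg1 yg44 zg37) (kg xg3 yg24 zg33) (kg xg0 yg49 zg40) (kg xg1 yg41 zg44) (kg xg1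 yg40 zg9) (kg xg3 yg24 zg45) (kg xg3 yg24 zg32) (kg xg0 yg45 zg49) (kg xg3 yg24 zg31) (kg xg1 yg44 zg47) (kg xg1 yg45 zg55) (kg xg0 yg49 zg59) (kg xg0 yg49 zg2) (kg xg0 yg50 zg14) (kg xg1 yg47 zg59) (kg xg1 yg48 zg16) (kg xg1 yg48 zg25) (kg xg0 yg45 zg56)) (@D3.rec (fun _ => Pt) (kg xg1 yg39 zg14) (kg xg0 yg45 zg58) (kg xg1 yg44 zg33) (kg xg3 yg25 zg5) (kg xg1 yg40 zg52) (kg xg3 yg6 zg19) (kg xg0 yg50 zg13) (kg xg3 yg25 zg10) (kg xg1 yg51 zg4) (kg xg0 yg46 zg2) (kg xg0 yg46 zg0) (kg xg1 yg37 zg55) (kg xg0 yg46 zg56) (kg xg3 yg11 zg38) (kg xg0 yg54 zg17) (kg xg1 yg39 zg6) (kg xg1 yg39 zg46) (kg xg3 yg25 zg20) (kg xg1 yg42 zg34) (kg xg0 yg46 zg29) (kg xg0 yg46 zg9) (kg xg3 yg25 zg26) (kg xg1 yg38 zg37) (kg xg1 yg38 zg38) (kg xg0 yg46 zg22) (kg xg3 yg6 zg52) (kg xg0 yg46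 zg24) (kg xg0 yg46 zg14) (kg xg3 yg25 zg39) (kg xg3 yg25 zg44) (kg xg3 yg25 zg47) (kg xg1 yg46 zg29) (kg xg1 yg46 zg30) (kg xg1 yg42 zg40) (kg xg0 yg47 zg58) (kg xg0 yg50 zg9) (kg xg1 yg34 zg23) (kg xg0 yg50 zg31) (kg xg3 yg25 zg60) (kg xg1 yg39 zg35) (kg xg1 yg32 zg52) (kg xg0 yg51 zg12) (kg xg0 yg46 zg23) (kg xg3 yg26 zg2) (kg xg3 yg25 zg45) (kg xg3 yg26 zg7) (kg xg0 yg46 zg25) (kg xg1 yg50 zg52) (kg xg1 yg49 zg34) (kg xg1 yg52 zg57) (kg xg0 yg46 zg41) (kg xg0 yg46 zg28) (kg xg0 yg46 zg40) (kg xg3 yg26 zg21) (kg xg0 yg46 zg33) (kg xg0 yg46 zg30) (kg xg3 yg26 zg27) (kg xg2 yg55 zg32) (kg xg3 yg26 zg33) (kg xg1 yg44 zg14) (kg xg1 yg44 zg15) (kg xg0 yg49 zg15)) (@D3.rec (fun _ => Pt) (kg xg0 yg50 zg24) (kg xg3 yg26 zg43) (kg xg3 yg26 zg47) (kg xg3 yg26 zg31) (kg xg3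 yg26 zg52) (kg xg0 yg46 zg34) (kg xg1 yg42 zg28) (kg xg0 yg49 zg35) (kg xg3 yg26 zg61) (kg xg3 yg27 zg5) (kg xg3 yg26 zg37) (kg xg3 yg27 zg9) (kg xg1 yg38 zg48) (kg xg1 yg45 zg52) (kg xg1 yg52 zg19) (kg xg0 yg46 zg37) (kg xg3 yg23 zg40) (kg xg2 yg56 zg4) (kg xg3 yg26 zg16) (kg xg0 yg46 zg38) (kg xg3 yg27 zg28) (kg xg3 yg26 zg14) (kg xg3 yg27 zg32) (kg xg3 yg27 zg35) (kg xg3 yg27 zg39) (kg xg3 yg26 zg57) (kg xg3 yg25 zg54) (kg xg3 yg26 zg26) (kg xg1 yg45 zg54) (kg xg1 yg44 zg29) (kg xg3 yg10 zg56) (kg xg1 yg33 zg20) (kg xg1 yg48 zg35) (kg xg0 yg46 zg44) (kg xg3 yg27 zg55) (kg xg1 yg40 zg41) (kg xg1 yg40 zg40) (kg xg3 yg28 zg1) (kg xg3 yg28 zg4) (kg xg3 yg28 zg6) (kg xg0 yg46 zg48) (kg xg0 yg48 zg22) (kg xg1 yg45 zg20) (kg xg1 yg46 zg23) (kg xg1 yg53 zg53) (kg xg0 yg47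 zg23) (kg xg3 yg28 zg17) (kg xg0 yg53 zg21) (kg xg0 yg48 zg32) (kg xg1 yg50 zg23) (kg xg0 yg47 zg33) (kg xg0 yg47 zg16) (kg xg1 yg43 zg56) (kg xg1 yg29 zg40) (kg xg0 yg48 zg46) (kg xg3 yg28 zg26) (kg xg0 yg46 zg59) (kg xg3 yg25 zg16) (kg xg1 yg39 zg4) (kg xg0 yg51 zg31) (kg xg0 yg53 zg20) (kg xg1 yg29 zg59)) (@D3.rec (fun _ => Pt) (kg xg1 yg30 zg11) (kg xg1 yg6 zg37) (kg xg3 yg28 zg39) (kg xg1 yg46 zg3) (kg xg1 yg44 zg34) (kg xg0 yg47 zg3) (kg xg3 yg28 zg33) (kg xg1 yg43 zg60) (kg xg3 yg28 zg47) (kg xg0 yg51 zg30) (kg xg0 yg49 zg8) (kg xg3 yg28 zg53) (kg xg1 yg30 zg22) (kg xg3 yg28 zg45) (kg xg3 yg28 zg59) (kg xg3 yg29 zg0) (kg xg1 yg50 zg46) (kg xg3 yg29 zg6) (kg xg0 yg47 zg30) (kg xg0 yg47 zg15) (kg xg0 yg47 zg29) (kg xg0 yg51 zg36) (kg xg0 yg47 zg24) (kg xg3 yg24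 zg23) (kg xg0 yg47 zg20) (kg xg0 yg47 zg17) (kg xg2 yg20 zg7) (kg xg3 yg29 zg25) (kg xg3 yg28 zg54) (kg xg0 yg48 zg8) (kg xg0 yg48 zg9) (kg xg3 yg29 zg34) (kg xg3 yg29 zg37) (kg xg3 yg29 zg26) (kg xg3 yg29 zg43) (kg xg0 yg47 zg21) (kg xg0 yg50 zg43) (kg xg3 yg29 zg49) (kg xg0 yg52 zg20) (kg xg1 yg45 zg5) (kg xg3 yg29 zg57) (kg xg0 yg52 zg61) (kg xg1 yg47 zg54) (kg xg1 yg38 zg40) (kg xg0 yg51 zg37) (kg xg1 yg52 zg17) (kg xg3 yg30 zg8) (kg xg1 yg35 zg22) (kg xg3 yg30 zg14) (kg xg1 yg50 zg49) (kg xg3 yg29 zg9) (kg xg0 yg47 zg26) (kg xg3 yg30 zg27) (kg xg3 yg29 zg7) (kg xg3 yg30 zg32) (kg xg3 yg30 zg35) (kg xg3 yg30 zg40) (kg xg3 yg30 zg44) (kg xg3 yg29 zg48) (kg xg1 yg44 zg41) (kg xg3 yg29 zg23) (kg xg1 yg45 zg49)) (@D3.rec (fun _ => Pt) (kg xg1 yg45 zg40) (kg xg3 yg28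 zg18) (kg xg3 yg28 zg19) (kg xg0 yg47 zg31) (kg xg0 yg50 zg52) (kg xg0 yg51 zg41) (kg xg0 yg50 zg2) (kg xg3 yg31 zg7) (kg xg3 yg31 zg10) (kg xg3 yg31 zg12) (kg xg0 yg47 zg35) (kg xg3 yg31 zg11) (kg xg1 yg42 zg56) (kg xg0 yg47 zg42) (kg xg0 yg48 zg2) (kg xg1 yg42 zg25) (kg xg1 yg42 zg24) (kg xg3 yg31 zg26) (kg xg3 yg31 zg30) (kg xg3 yg31 zg32) (kg xg1 yg48 zg57) (kg xg1 yg38 zg55) (kg xg0 yg47 zg45) (kg xg1 yg42 zg13) (kg xg0 yg47 zg43) (kg xg0 yg51 zg17) (kg xg1 yg47 zg34) (kg xg3 yg31 zg45) (kg xg3 yg31 zg48) (kg xg0 yg51 zg14) (kg xg0 yg53 zg34) (kg xg1 yg47 zg8) (kg xg1 yg43 zg53) (kg xg3 yg26 zg1) (kg xg0 yg47 zg55) (kg xg1 yg40 zg33) (kg xg1 yg39 zg23) (kg xg0 yg51 zg0) (kg xg1 yg39 zg18) (kg xg3 yg31 zg58) (kg xg0 yg48 zg17) (kg xg0 yg48 zg31) (kg xg1 yg45 zg58)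 (kg xg3 yg32 zg3) (kg xg0 yg47 zg59) (kg xg3 yg27 zg53) (kg xg1 yg42 zg4) (kg xg3 yg32 zg10) (kg xg0 yg49 zg30) (kg xg3 yg32 zg13) (kg xg0 yg48 zg1) (kg xg3 yg32 zg17) (kg xg1 yg51 zg35) (kg xg3 yg32 zg21) (kg xg1 yg44 zg59) (kg xg0 yg51 zg29) (kg xg1 yg44 zg58) (kg xg0 yg48 zg36) (kg xg3 yg32 zg30) (kg xg3 yg30 zg20) (kg xg3 yg29 zg10) (kg xg3 yg32 zg35)) (@D3.rec (fun _ => Pt) (kg xg3 yg32 zg20) (kg xg3 yg32 zg40) (kg xg0 yg48 zg10) (kg xg1 yg38 zg56) (kg xg3 yg32 zg45) (kg xg1 yg45 zg25) (kg xg3 yg32 zg49) (kg xg0 yg48 zg30) (kg xg0 yg48 zg12) (kg xg0 yg52 zg44) (kg xg0 yg48 zg28) (kg xg3 yg1 zg34) (kg xg1 yg42 zg32) (kg xg1 yg44 zg40) (kg xg3 yg32 zg57) (kg xg3 yg32 zg61) (kg xg0 yg48 zg18) (kg xg3 yg4 zg33) (kg xg1 yg50 zg16) (kg xg3 yg33 zg9) (kg xg1 yg45 zg17)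 (kg xg3 yg33 zg15) (kg xg1 yg45 zg16) (kg xg0 yg52 zg12) (kg xg1 yg52 zg40) (kg xg3 yg33 zg19) (kg xg3 yg33 zg7) (kg xg3 yg33 zg24) (kg xg3 yg33 zg26) (kg xg1 yg46 zg15) (kg xg3 yg33 zg13) (kg xg2 yg50 zg57) (kg xg0 yg49 zg53) (kg xg1 yg40 zg37) (kg xg1 yg43 zg36) (kg xg0 yg48 zg25) (kg xg1 yg43 zg35) (kg xg3 yg33 zg45) (kg xg3 yg32 zg52) (kg xg0 yg48 zg26) (kg xg3 yg33 zg57) (kg xg3 yg32 zg50) (kg xg3 yg33 zg61) (kg xg3 yg34 zg4) (kg xg3 yg34 zg8) (kg xg3 yg28 zg9) (kg xg1 yg52 zg1) (kg xg3 yg33 zg3) (kg xg1 yg47 zg56) (kg xg0 yg53 zg16) (kg xg0 yg52 zg42) (kg xg3 yg34 zg21) (kg xg3 yg31 zg61) (kg xg3 yg32 zg1) (kg xg1 yg26 zg30) (kg xg0 yg48 zg34) (kg xg1 yg40 zg58) (kg xg3 yg28 zg52) (kg xg0 yg48 zg33) (kg xg1 yg38 zg30) (kg xg1 yg40 zg49) (kg xg3 yg34 zg25)) (@D3.rec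 (fun _ => Pt) (kg xg1 yg46 zg49) (kg xg3 yg29 zg28) (kg xg3 yg1 zg33) (kg xg3 yg32 zg31) (kg xg1 yg54 zg46) (kg xg3 yg32 zg29) (kg xg0 yg48 zg37) (kg xg3 yg34 zg43) (kg xg3 yg29 zg56) (kg xg3 yg32 zg58) (kg xg0 yg53 zg8) (kg xg3 yg27 zg8) (kg xg3 yg34 zg54) (kg xg0 yg48 zg42) (kg xg0 yg48 zg41) (kg xg0 yg53 zg55) (kg xg1 yg40 zg10) (kg xg1 yg47 zg49) (kg xg1 yg47 zg5) (kg xg3 yg25 zg7) (kg xg1 yg30 zg42) (kg xg1 yg30 zg43) (kg xg3 yg23 zg58) (kg xg3 yg1 zg8) (kg xg0 yg51 zg23) (kg xg3 yg35 zg12) (kg xg3 yg25 zg52) (kg xg0 yg48 zg50) (kg xg1 yg40 zg29) (kg xg3 yg27 zg41) (kg xg1 yg35 zg52) (kg xg1 yg6 zg55) (kg xg3 yg35 zg23) (kg xg1 yg43 zg13) (kg xg1 yg41 zg5) (kg xg0 yg50 zg8) (kg xg3 yg35 zg28) (kg xg1 yg39 zg34) (kg xg3 yg35 zg32) (kg xg0 yg50 zg0) (kg xg1 yg39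 zg2) (kg xg3 yg35 zg37) (kg xg0 yg49 zg1) (kg xg3 yg35 zg41) (kg xg3 yg35 zg45) (kg xg3 yg35 zg48) (kg xg1 yg43 zg3) (kg xg1 yg43 zg2) (kg xg1 yg39 zg19) (kg xg1 yg35 zg54) (kg xg3 yg35 zg57) (kg xg1 yg34 zg22) (kg xg3 yg35 zg60) (kg xg3 yg35 zg61) (kg xg1 yg53 zg27) (kg xg3 yg36 zg3) (kg xg3 yg35 zg46) (kg xg3 yg36 zg8) (kg xg0 yg49 zg10) (kg xg1 yg42 zg14) (kg xg3 yg36 zg13) (kg xg3 yg36 zg17)) (@D3.rec (fun _ => Pt) (kg xg3 yg36 zg19) (kg xg0 yg49 zg28) (kg xg0 yg49 zg13) (kg xg1 yg42 zg0) (kg xg0 yg49 zg26) (kg xg3 yg34 zg27) (kg xg3 yg26 zg17) (kg xg0 yg49 zg19) (kg xg0 yg49 zg16) (kg xg3 yg36 zg35) (kg xg3 yg29 zg32) (kg xg3 yg36 zg39) (kg xg3 yg36 zg42) (kg xg3 yg36 zg44) (kg xg3 yg32 zg15) (kg xg3 yg36 zg49) (kg xg0 yg49 zg20) (kg xg0 yg54 zg1) (kg xg3 yg36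 zg54) (kg xg1 yg46 zg6) (kg xg3 yg27 zg60) (kg xg3 yg4 zg27) (kg xg0 yg50 zg5) (kg xg1 yg54 zg44) (kg xg1 yg43 zg5) (kg xg0 yg49 zg23) (kg xg3 yg37 zg4) (kg xg3 yg36 zg22) (kg xg0 yg49 zg24) (kg xg3 yg37 zg13) (kg xg3 yg36 zg20) (kg xg3 yg26 zg46) (kg xg3 yg37 zg18) (kg xg3 yg35 zg55) (kg xg3 yg36 zg34) (kg xg0 yg52 zg34) (kg xg1 yg40 zg38) (kg xg3 yg36 zg28) (kg xg0 yg49 zg27) (kg xg3 yg37 zg37) (kg xg3 yg36 zg26) (kg xg3 yg28 zg21) (kg xg1 yg49 zg16) (kg xg1 yg50 zg31) (kg xg1 yg50 zg33) (kg xg0 yg49 zg32) (kg xg3 yg37 zg52) (kg xg3 yg34 zg38) (kg xg1 yg41 zg39) (kg xg1 yg41 zg57) (kg xg1 yg40 zg5) (kg xg1 yg40 zg7) (kg xg3 yg37 zg60) (kg xg1 yg52 zg18) (kg xg1 yg40 zg24) (kg xg1 yg38 zg57) (kg xg1 yg49 zg15) (kg xg1 yg53 zg52) (kg xg0 yg49 zg42) (kg xg3 yg31 zg50)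 (kg xg0 yg52 zg14) (kg xg0 yg53 zg17)) (@D3.rec (fun _ => Pt) (kg xg3 yg38 zg6) (kg xg3 yg35 zg36) (kg xg3 yg36 zg14) (kg xg1 yg37 zg61) (kg xg1 yg50 zg61) (kg xg3 yg38 zg12) (kg xg1 yg45 zg22) (kg xg3 yg38 zg16) (kg xg0 yg49 zg57) (kg xg0 yg49 zg50) (kg xg0 yg49 zg56) (kg xg3 yg38 zg24) (kg xg3 yg35 zg52) (kg xg3 yg4 zg30) (kg xg3 yg31 zg20) (kg xg1 yg43 zg32) (kg xg3 yg38 zg34) (kg xg3 yg38 zg19) (kg xg0 yg49 zg54) (kg xg3 yg38 zg44) (kg xg3 yg38 zg17) (kg xg3 yg38 zg48) (kg xg3 yg38 zg53) (kg xg1 yg55 zg9) (kg xg1 yg51 zg28) (kg xg1 yg34 zg26) (kg xg3 yg35 zg40) (kg xg1 yg40 zg43) (kg xg3 yg39 zg2) (kg xg0 yg49 zg58) (kg xg1 yg38 zg46) (kg xg3 yg30 zg4) (kg xg3 yg39 zg10) (kg xg1 yg42 zg21) (kg xg3 yg39 zg12) (kg xg3 yg39 zg14) (kg xg3 yg39 zg17) (kg xg3 yg35 zg29)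 (kg xg3 yg39 zg20) (kg xg3 yg32 zg25) (kg xg3 yg39 zg26) (kg xg3 yg24 zg57) (kg xg3 yg39 zg31) (kg xg3 yg35 zg27) (kg xg0 yg50 zg6) (kg xg3 yg39 zg41) (kg xg3 yg25 zg8) (kg xg3 yg34 zg26) (kg xg3 yg32 zg44) (kg xg1 yg43 zg57) (kg xg3 yg32 zg16) (kg xg3 yg24 zg58) (kg xg0 yg51 zg39) (kg xg3 yg24 zg42) (kg xg3 yg24 zg51) (kg xg1 yg39 zg11) (kg xg0 yg50 zg23) (kg xg0 yg50 zg16) (kg xg3 yg23 zg27) (kg xg1 yg31 zg52) (kg xg0 yg50 zg17) (kg xg3 yg40 zg0)) (@D3.rec (fun _ => Pt) (kg xg0 yg50 zg18) (kg xg3 yg40 zg5) (kg xg3 yg25 zg58) (kg xg3 yg40 zg12) (kg xg1 yg48 zg23) (kg xg3 yg40 zg18) (kg xg1 yg48 zg21) (kg xg3 yg40 zg20) (kg xg1 yg7 zg46) (kg xg0 yg53 zg54) (kg xg1 yg52 zg56) (kg xg3 yg23 zg50) (kg xg3 yg40 zg29) (kg xg3 yg40 zg10) (kg xg3 yg40 zg34) (kg xg3 yg40 zg36)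 (kg xg1 yg49 zg7) (kg xg3 yg38 zg50) (kg xg0 yg50 zg39) (kg xg0 yg50 zg27) (kg xg0 yg50 zg38) (kg xg0 yg50 zg28) (kg xg3 yg40 zg47) (kg xg3 yg40 zg51) (kg xg3 yg40 zg54) (kg xg1 yg38 zg45) (kg xg3 yg40 zg59) (kg xg3 yg41 zg0) (kg xg3 yg40 zg52) (kg xg3 yg41 zg5) (kg xg0 yg50 zg32) (kg xg1 yg42 zg29) (kg xg3 yg41 zg10) (kg xg1 yg53 zg35) (kg xg3 yg31 zg23) (kg xg3 yg41 zg17) (kg xg0 yg53 zg40) (kg xg3 yg31 zg27) (kg xg1 yg48 zg29) (kg xg0 yg50 zg35) (kg xg3 yg14 zg11) (kg xg3 yg41 zg31) (kg xg3 yg40 zg42) (kg xg0 yg50 zg36) (kg xg3 yg41 zg41) (kg xg3 yg40 zg40) (kg xg3 yg29 zg36) (kg xg3 yg41 zg47) (kg xg3 yg28 zg14) (kg xg3 yg26 zg38) (kg xg1 yg49 zg28) (kg xg3 yg40 zg46) (kg xg0 yg54 zg13) (kg xg3 yg31 zg34) (kg xg3 yg37 zg49) (kg xg1 yg53 zg5) (kg xg1 yg43 zg44) (kg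 xg3 yg15 zg24) (kg xg3 yg30 zg49) (kg xg1 yg31 zg32) (kg xg1 yg38 zg58) (kg xg0 yg51 zg24)) (@D3.rec (fun _ => Pt) (kg xg0 yg50 zg53) (kg xg0 yg50 zg47) (kg xg1 yg35 zg58) (kg xg3 yg23 zg53) (kg xg0 yg50 zg55) (kg xg0 yg50 zg48) (kg xg3 yg42 zg13) (kg xg3 yg42 zg18) (kg xg3 yg42 zg22) (kg xg1 yg46 zg52) (kg xg0 yg51 zg32) (kg xg3 yg42 zg26) (kg xg1 yg42 zg46) (kg xg3 yg28 zg25) (kg xg1 yg8 zg11) (kg xg1 yg38 zg59) (kg xg0 yg50 zg54) (kg xg3 yg42 zg33) (kg xg3 yg42 zg36) (kg xg3 yg42 zg19) (kg xg3 yg42 zg41) (kg xg0 yg50 zg56) (kg xg1 yg55 zg4) (kg xg0 yg54 zg14) (kg xg0 yg51 zg5) (kg xg0 yg50 zg58) (kg xg3 yg42 zg49) (kg xg1 yg33 zg37) (kg xg3 yg42 zg54) (kg xg1 yg47 zg39) (kg xg3 yg35 zg13) (kg xg1 yg34 zg44) (kg xg3 yg39 zg56) (kg xg1 yg36 zg53) (kg xg1 yg42 zg31)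 (kg xg1 yg40 zg30) (kg xg3 yg39 zg55) (kg xg1 yg37 zg16) (kg xg1 yg26 zg29) (kg xg3 yg39 zg54) (kg xg3 yg43 zg13) (kg xg0 yg51 zg9) (kg xg3 yg22 zg61) (kg xg1 yg27 zg19) (kg xg1 yg33 zg28) (kg xg0 yg51 zg8) (kg xg2 yg51 zg34) (kg xg3 yg42 zg6) (kg xg3 yg12 zg46) (kg xg1 yg7 zg31) (kg xg0 yg51 zg16) (kg xg0 yg51 zg13) (kg xg3 yg43 zg33) (kg xg3 yg26 zg41) (kg xg3 yg43 zg39) (kg xg1 yg47 zg31) (kg xg0 yg53 zg56) (kg xg1 yg47 zg30) (kg xg3 yg30 zg36) (kg xg3 yg43 zg46) (kg xg3 yg40 zg3) (kg xg3 yg43 zg51)) (@D3.rec (fun _ => Pt) (kg xg3 yg43 zg54) (kg xg1 yg53 zg61) (kg xg3 yg43 zg43) (kg xg3 yg44 zg0) (kg xg0 yg53 zg27) (kg xg1 yg42 zg17) (kg xg1 yg47 zg16) (kg xg0 yg51 zg20) (kg xg3 yg42 zg20) (kg xg3 yg44 zg12) (kg xg3 yg35 zg11) (kg xg0 yg51 zg21) (kg xg3 yg44 zg22)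 (kg xg1 yg43 zg61) (kg xg3 yg44 zg26) (kg xg3 yg31 zg40) (kg xg3 yg29 zg17) (kg xg3 yg43 zg32) (kg xg1 yg42 zg18) (kg xg3 yg39 zg61) (kg xg3 yg44 zg34) (kg xg3 yg44 zg37) (kg xg0 yg53 zg13) (kg xg3 yg34 zg17) (kg xg0 yg53 zg15) (kg xg3 yg31 zg8) (kg xg2 yg19 zg44) (kg xg0 yg53 zg5) (kg xg3 yg44 zg46) (kg xg3 yg1 zg12) (kg xg3 yg25 zg31) (kg xg2 yg19 zg41) (kg xg3 yg30 zg60) (kg xg3 yg44 zg54) (kg xg0 yg52 zg55) (kg xg1 yg45 zg46) (kg xg3 yg44 zg47) (kg xg0 yg51 zg38) (kg xg1 yg47 zg50) (kg xg1 yg34 zg48) (kg xg3 yg11 zg15) (kg xg3 yg28 zg22) (kg xg1 yg34 zg45) (kg xg3 yg18 zg7) (kg xg0 yg51 zg43) (kg xg2 yg20 zg1) (kg xg3 yg12 zg31) (kg xg1 yg29 zg41) (kg xg1 yg34 zg8) (kg xg1 yg26 zg59) (kg xg3 yg45 zg20) (kg xg1 yg26 zg61) (kg xg3 yg45 zg25) (kg xg3 yg45 zg29) (kg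 xg3 yg15 zg42) (kg xg3 yg11 zg59) (kg xg3 yg12 zg57) (kg xg3 yg45 zg38) (kg xg1 yg50 zg38) (kg xg3 yg29 zg11) (kg xg1 yg39 zg43) (kg xg1 yg50 zg43)) (@D3.rec (fun _ => Pt) (kg xg3 yg30 zg61) (kg xg0 yg51 zg53) (kg xg3 yg14 zg50) (kg xg3 yg45 zg55) (kg xg0 yg52 zg8) (kg xg0 yg51 zg54) (kg xg3 yg46 zg1) (kg xg3 yg29 zg46) (kg xg0 yg51 zg55) (kg xg3 yg46 zg11) (kg xg3 yg29 zg44) (kg xg3 yg30 zg2) (kg xg1 yg53 zg15) (kg xg3 yg31 zg3) (kg xg1 yg49 zg13) (kg xg3 yg46 zg19) (kg xg1 yg43 zg26) (kg xg1 yg41 zg14) (kg xg3 yg34 zg23) (kg xg0 yg51 zg61) (kg xg3 yg13 zg58) (kg xg3 yg15 zg47) (kg xg3 yg15 zg5) (kg xg1 yg41 zg7) (kg xg3 yg29 zg39) (kg xg0 yg52 zg7) (kg xg3 yg29 zg38) (kg xg3 yg46 zg38) (kg xg3 yg46 zg42) (kg xg3 yg46 zg45) (kg xg1 yg45 zg43) (kg xg0 yg52 zg9) (kg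 xg3 yg46 zg55) (kg xg1 yg45 zg45) (kg xg3 yg29 zg12) (kg xg3 yg33 zg50) (kg xg0 yg52 zg15) (kg xg3 yg46 zg61) (kg xg1 yg49 zg61) (kg xg3 yg47 zg4) (kg xg0 yg52 zg13) (kg xg3 yg47 zg8) (kg xg2 yg21 zg48) (kg xg1 yg49 zg58) (kg xg3 yg47 zg12) (kg xg3 yg47 zg15) (kg xg1 yg41 zg49) (kg xg1 yg53 zg58) (kg xg3 yg47 zg22) (kg xg1 yg41 zg16) (kg xg3 yg32 zg56) (kg xg1 yg39 zg47) (kg xg0 yg52 zg19) (kg xg3 yg44 zg35) (kg xg3 yg47 zg39) (kg xg3 yg47 zg43) (kg xg3 yg47 zg47) (kg xg0 yg53 zg3) (kg xg0 yg52 zg21) (kg xg3 yg47 zg58) (kg xg0 yg53 zg1) (kg xg3 yg39 zg13)) (@D3.rec (fun _ => Pt) (kg xg3 yg48 zg1) (kg xg1 yg44 zg10) (kg xg1 yg47 zg10) (kg xg3 yg33 zg18) (kg xg1 yg50 zg12) (kg xg3 yg48 zg9) (kg xg3 yg48 zg11) (kg xg1 yg41 zg45) (kg xg1 yg44 zg11) (kg xg3 yg48 zg10) (kg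 xg0 yg52 zg27) (kg xg1 yg53 zg54) (kg xg3 yg48 zg20) (kg xg3 yg44 zg40) (kg xg1 yg40 zg2) (kg xg0 yg53 zg6) (kg xg0 yg52 zg30) (kg xg3 yg19 zg43) (kg xg1 yg7 zg19) (kg xg3 yg48 zg34) (kg xg0 yg52 zg40) (kg xg0 yg52 zg31) (kg xg3 yg48 zg42) (kg xg3 yg37 zg28) (kg xg0 yg52 zg32) (kg xg3 yg48 zg52) (kg xg3 yg34 zg10) (kg xg3 yg47 zg21) (kg xg3 yg30 zg59) (kg xg0 yg53 zg12) (kg xg0 yg52 zg48) (kg xg1 yg46 zg24) (kg xg1 yg43 zg21) (kg xg1 yg54 zg15) (kg xg3 yg49 zg4) (kg xg1 yg43 zg0) (kg xg3 yg36 zg24) (kg xg3 yg49 zg3) (kg xg0 yg52 zg38) (kg xg3 yg49 zg13) (kg xg3 yg49 zg1) (kg xg3 yg47 zg0) (kg xg0 yg52 zg39) (kg xg3 yg33 zg29) (kg xg3 yg49 zg22) (kg xg3 yg49 zg26) (kg xg3 yg49 zg30) (kg xg3 yg34 zg19) (kg xg0 yg52 zg41) (kg xg3 yg49 zg40) (kg xg3 yg47 zg13) (kg xg0 yg52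 zg52) (kg xg1 yg51 zg1) (kg xg3 yg34 zg20) (kg xg0 yg52 zg43) (kg xg3 yg49 zg50) (kg xg1 yg54 zg25) (kg xg3 yg47 zg24) (kg xg0 yg52 zg45) (kg xg3 yg47 zg23) (kg xg1 yg47 zg12) (kg xg3 yg45 zg13)) (@D3.rec (fun _ => Pt) (kg xg3 yg50 zg7) (kg xg3 yg50 zg11) (kg xg0 yg52 zg51) (kg xg3 yg50 zg15) (kg xg3 yg50 zg19) (kg xg3 yg47 zg6) (kg xg3 yg47 zg17) (kg xg0 yg52 zg49) (kg xg3 yg47 zg16) (kg xg2 yg50 zg16) (kg xg3 yg50 zg32) (kg xg3 yg50 zg35) (kg xg3 yg36 zg23) (kg xg3 yg50 zg39) (kg xg3 yg50 zg43) (kg xg1 yg54 zg24) (kg xg3 yg50 zg24) (kg xg3 yg24 zg28) (kg xg3 yg37 zg59) (kg xg1 yg40 zg15) (kg xg3 yg50 zg54) (kg xg1 yg39 zg48) (kg xg3 yg50 zg60) (kg xg3 yg51 zg1) (kg xg3 yg50 zg57) (kg xg0 yg52 zg56) (kg xg3 yg51 zg10) (kg xg3 yg50 zg55) (kg xg3 yg49 zg56) (kg xg3 yg51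 zg17) (kg xg2 yg56 zg21) (kg xg3 yg51 zg23) (kg xg3 yg51 zg27) (kg xg3 yg51 zg31) (kg xg3 yg47 zg50) (kg xg0 yg52 zg60) (kg xg3 yg51 zg43) (kg xg3 yg47 zg48) (kg xg3 yg51 zg48) (kg xg3 yg51 zg51) (kg xg3 yg51 zg56) (kg xg3 yg51 zg60) (kg xg3 yg49 zg46) (kg xg3 yg50 zg23) (kg xg1 yg43 zg24) (kg xg3 yg51 zg61) (kg xg3 yg42 zg0) (kg xg3 yg47 zg61) (kg xg0 yg53 zg2) (kg xg3 yg52 zg19) (kg xg3 yg47 zg59) (kg xg3 yg34 zg39) (kg xg3 yg44 zg39) (kg xg0 yg53 zg4) (kg xg3 yg52 zg31) (kg xg3 yg44 zg44) (kg xg3 yg44 zg45) (kg xg1 yg40 zg21) (kg xg3 yg52 zg39) (kg xg3 yg52 zg43) (kg xg0 yg53 zg10) (kg xg3 yg52 zg47)) (@D3.rec (fun _ => Pt) (kg xg3 yg52 zg51) (kg xg3 yg49 zg39) (kg xg0 yg53 zg11) (kg xg0 yg53 zg7) (kg xg3 yg52 zg59) (kg xg1 yg51 zg29) (kg xg0 yg53 zg9) (kg xg1 yg46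 zg4) (kg xg1 yg43 zg27) (kg xg3 yg53 zg7) (kg xg3 yg53 zg10) (kg xg3 yg49 zg18) (kg xg3 yg52 zg52) (kg xg3 yg53 zg19) (kg xg3 yg52 zg60) (kg xg1 yg39 zg8) (kg xg3 yg30 zg48) (kg xg3 yg42 zg28) (kg xg3 yg48 zg25) (kg xg3 yg34 zg35) (kg xg1 yg46 zg0) (kg xg3 yg46 zg60) (kg xg3 yg33 zg14) (kg xg3 yg53 zg33) (kg xg1 yg29 zg42) (kg xg3 yg34 zg24) (kg xg3 yg9 zg0) (kg xg1 yg46 zg1) (kg xg3 yg28 zg48) (kg xg1 yg40 zg39) (kg xg3 yg28 zg20) (kg xg0 yg53 zg22) (kg xg3 yg33 zg52) (kg xg3 yg39 zg36) (kg xg3 yg53 zg54) (kg xg1 yg47 zg36) (kg xg3 yg34 zg1) (kg xg0 yg53 zg31) (kg xg0 yg53 zg24) (kg xg0 yg53 zg30) (kg xg3 yg54 zg2) (kg xg3 yg40 zg16) (kg xg3 yg54 zg8) (kg xg0 yg54 zg6) (kg xg3 yg19 zg6) (kg xg3 yg54 zg15) (kg xg3 yg53 zg59) (kg xg0 yg53 zg28) (kg xg3 yg54 zg25) (kg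 xg3 yg53 zg57) (kg xg3 yg37 zg23) (kg xg3 yg54 zg30) (kg xg3 yg54 zg34) (kg xg1 yg54 zg61) (kg xg1 yg51 zg5) (kg xg3 yg40 zg4) (kg xg1 yg45 zg57) (kg xg0 yg53 zg59) (kg xg1 yg52 zg5) (kg xg3 yg37 zg32) (kg xg3 yg54 zg47) (kg xg1 yg49 zg4)) (@D3.rec (fun _ => Pt) (kg xg3 yg37 zg17) (kg xg0 yg53 zg45) (kg xg0 yg53 zg37) (kg xg3 yg24 zg56) (kg xg0 yg53 zg43) (kg xg3 yg54 zg58) (kg xg1 yg54 zg48) (kg xg3 yg55 zg1) (kg xg1 yg54 zg52) (kg xg3 yg14 zg8) (kg xg3 yg55 zg9) (kg xg3 yg54 zg53) (kg xg0 yg53 zg41) (kg xg3 yg55 zg18) (kg xg3 yg54 zg51) (kg xg1 yg51 zg40) (kg xg3 yg55 zg22) (kg xg3 yg42 zg25) (kg xg3 yg42 zg12) (kg xg0 yg54 zg7) (kg xg3 yg54 zg57) (kg xg0 yg53 zg44) (kg xg3 yg55 zg33) (kg xg3 yg41 zg52) (kg xg1 yg50 zg50) (kg xg1 yg46 zg48) (kg xg0 yg53 zg51) (kg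 xg3 yg25 zg35) (kg xg3 yg55 zg43) (kg xg3 yg34 zg0) (kg xg3 yg48 zg27) (kg xg3 yg25 zg37) (kg xg3 yg55 zg50) (kg xg0 yg53 zg60) (kg xg3 yg54 zg44) (kg xg0 yg53 zg58) (kg xg3 yg36 zg43) (kg xg3 yg55 zg55) (kg xg3 yg34 zg61) (kg xg3 yg13 zg31) (kg xg3 yg55 zg40) (kg xg3 yg40 zg17) (kg xg3 yg56 zg1) (kg xg3 yg54 zg1) (kg xg3 yg33 zg34) (kg xg1 yg43 zg30) (kg xg1 yg53 zg19) (kg xg3 yg27 zg44) (kg xg1 yg55 zg0) (kg xg1 yg54 zg58) (kg xg1 yg54 zg19) (kg xg1 yg54 zg60) (kg xg3 yg54 zg7) (kg xg3 yg56 zg17) (kg xg3 yg56 zg21) (kg xg1 yg54 zg50) (kg xg3 yg56 zg25) (kg xg1 yg54 zg49) (kg xg0 yg54 zg8) (kg xg3 yg42 zg23) (kg xg1 yg53 zg43) (kg xg3 yg28 zg13)) (@D3.rec (fun _ => Pt) (kg xg0 yg54 zg12) (kg xg1 yg53 zg41) (kg xg3 yg56 zg37) (kg xg3 yg56 zg41) (kg xg1 yg54 zg38) (kg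 xg3 yg1 zg7) (kg xg3 yg56 zg47) (kg xg1 yg40 zg25) (kg xg0 yg54 zg19) (kg xg1 yg46 zg27) (kg xg3 yg56 zg52) (kg xg1 yg1 zg14) (kg xg2 yg2 zg33) (kg xg1 yg58 zg54) (kg xg1 yg13 zg34) (kg xg3 yg56 zg58) (kg xg0 yg58 zg32) (kg xg1 yg1 zg25) (kg xg0 yg54 zg23) (kg xg3 yg57 zg5) (kg xg1 yg1 zg23) (kg xg2 yg6 zg35) (kg xg1 yg19 zg11) (kg xg1 yg25 zg36) (kg xg2 yg26 zg2) (kg xg1 yg18 zg55) (kg xg1 yg1 zg32) (kg xg1 yg56 zg48) (kg xg1 yg19 zg37) (kg xg1 yg1 zg46) (kg xg0 yg54 zg29) (kg xg2 yg46 zg54) (kg xg3 yg57 zg32) (kg xg1 yg1 zg43) (kg xg3 yg57 zg37) (kg xg1 yg27 zg47) (kg xg1 yg28 zg16) (kg xg3 yg57 zg41) (kg xg2 yg9 zg21) (kg xg3 yg57 zg46) (kg xg1 yg5 zg21) (kg xg1 yg12 zg19) (kg xg3 yg3 zg16) (kg xg0 yg54 zg35) (kg xg2 yg15 zg35) (kg xg3 yg57 zg58) (kg xg3 yg58 zg0)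 (kg xg2 yg0 zg29) (kg xg2 yg32 zg18) (kg xg1 yg13 zg9) (kg xg0 yg54 zg44) (kg xg0 yg54 zg40) (kg xg3 yg58 zg8) (kg xg0 yg54 zg42) (kg xg1 yg19 zg3) (kg xg2 yg6 zg34) (kg xg3 yg58 zg16) (kg xg2 yg28 zg59) (kg xg2 yg1 zg5) (kg xg1 yg18 zg25) (kg xg0 yg58 zg50) (kg xg3 yg58 zg11)) (@D3.rec (fun _ => Pt) (kg xg0 yg54 zg43) (kg xg3 yg58 zg30) (kg xg3 yg58 zg9) (kg xg1 yg18 zg11) (kg xg3 yg58 zg38) (kg xg3 yg58 zg41) (kg xg3 yg58 zg44) (kg xg2 yg11 zg34) (kg xg3 yg58 zg49) (kg xg2 yg49 zg10) (kg xg2 yg12 zg35) (kg xg2 yg26 zg16) (kg xg3 yg58 zg53) (kg xg2 yg18 zg51) (kg xg3 yg58 zg56) (kg xg0 yg54 zg58) (kg xg3 yg58 zg57) (kg xg3 yg59 zg6) (kg xg3 yg59 zg0) (kg xg2 yg11 zg44) (kg xg3 yg59 zg13) (kg xg1 yg3 zg26) (kg xg1 yg22 zg14) (kg xg3 yg59 zg19) (kg xg2 yg49 zg38) (kg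 xg2 yg33 zg53) (kg xg2 yg54 zg21) (kg xg3 yg59 zg20) (kg xg1 yg22 zg3) (kg xg1 yg22 zg25) (kg xg1 yg38 zg18) (kg xg1 yg38 zg19) (kg xg0 yg55 zg2) (kg xg3 yg59 zg47) (kg xg3 yg59 zg50) (kg xg1 yg11 zg4) (kg xg0 yg55 zg3) (kg xg1 yg11 zg3) (kg xg1 yg57 zg38) (kg xg1 yg9 zg35) (kg xg1 yg9 zg34) (kg xg1 yg18 zg36) (kg xg3 yg1 zg0) (kg xg1 yg10 zg16) (kg xg0 yg56 zg34) (kg xg3 yg1 zg1) (kg xg2 yg8 zg54) (kg xg2 yg8 zg43) (kg xg1 yg10 zg30) (kg xg3 yg3 zg36) (kg xg0 yg55 zg12) (kg xg3 yg3 zg35) (kg xg3 yg10 zg7) (kg xg4 yg0 zg11) (kg xg1 yg9 zg21) (kg xg0 yg55 zg14) (kg xg2 yg8 zg24) (kg xg1 yg9 zg19) (kg xg2 yg8 zg40) (kg xg4 yg0 zg23) (kg xg4 yg0 zg25) (kg xg3 yg57 zg18)) (@D3.rec (fun _ => Pt) (kg xg1 yg1 zg40) (kg xg1 yg27 zg43) (kg xg4 yg0 zg34) (kg xg2 yg9 zg43) (kg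 xg1 yg6 zg28) (kg xg1 yg6 zg27) (kg xg1 yg26 zg21) (kg xg1 yg26 zg20) (kg xg4 yg0 zg39) (kg xg0 yg55 zg24) (kg xg4 yg0 zg40) (kg xg4 yg0 zg49) (kg xg3 yg59 zg31) (kg xg1 yg1 zg56) (kg xg4 yg0 zg55) (kg xg3 yg3 zg22) (kg xg0 yg55 zg27) (kg xg1 yg16 zg12) (kg xg0 yg56 zg9) (kg xg4 yg1 zg1) (kg xg0 yg56 zg7) (kg xg0 yg56 zg19) (kg xg0 yg55 zg30) (kg xg2 yg4 zg41) (kg xg0 yg56 zg17) (kg xg2 yg3 zg13) (kg xg0 yg55 zg33) (kg xg0 yg56 zg25) (kg xg0 yg55 zg38) (kg xg2 yg33 zg15) (kg xg0 yg56 zg15) (kg xg0 yg55 zg40) (kg xg0 yg55 zg37) (kg xg2 yg33 zg23) (kg xg1 yg28 zg19) (kg xg4 yg1 zg11) (kg xg1 yg58 zg46) (kg xg4 yg1 zg16) (kg xg1 yg12 zg44) (kg xg2 yg4 zg7) (kg xg0 yg56 zg41) (kg xg2 yg52 zg17) (kg xg1 yg58 zg10) (kg xg0 yg55 zg44) (kg xg2 yg33 zg16) (kg xg4 yg1 zg34) (kg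 xg1 yg58 zg7) (kg xg2 yg24 zg57) (kg xg2 yg28 zg44) (kg xg4 yg1 zg40) (kg xg2 yg4 zg39) (kg xg1 yg12 zg57) (kg xg0 yg55 zg48) (kg xg4 yg1 zg52) (kg xg1 yg12 zg55) (kg xg4 yg1 zg58) (kg xg1 yg0 zg31) (kg xg0 yg55 zg54) (kg xg0 yg55 zg51) (kg xg4 yg2 zg2) (kg xg1 yg21 zg36) (kg xg4 yg1 zg59)) (@D3.rec (fun _ => Pt) (kg xg2 yg24 zg10) (kg xg2 yg33 zg45) (kg xg1 yg9 zg31) (kg xg1 yg59 zg35) (kg xg0 yg59 zg4) (kg xg2 yg26 zg6) (kg xg1 yg57 zg46) (kg xg0 yg55 zg58) (kg xg4 yg2 zg16) (kg xg4 yg2 zg21) (kg xg1 yg57 zg43) (kg xg1 yg27 zg61) (kg xg1 yg58 zg22) (kg xg0 yg55 zg60) (kg xg4 yg1 zg47) (kg xg1 yg58 zg20) (kg xg0 yg56 zg0) (kg xg2 yg34 zg43) (kg xg1 yg11 zg25) (kg xg1 yg58 zg15) (kg xg0 yg56 zg1) (kg xg2 yg31 zg39) (kg xg1 yg58 zg13) (kg xg1 yg17 zg14) (kg xg1 yg17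 zg18) (kg xg1 yg14 zg52) (kg xg1 yg17 zg10) (kg xg4 yg2 zg51) (kg xg1 yg17 zg45) (kg xg4 yg2 zg57) (kg xg2 yg8 zg11) (kg xg1 yg1 zg4) (kg xg4 yg2 zg58) (kg xg4 yg3 zg5) (kg xg4 yg1 zg3) (kg xg0 yg56 zg8) (kg xg4 yg3 zg13) (kg xg2 yg58 zg42) (kg xg1 yg16 zg58) (kg xg1 yg13 zg40) (kg xg0 yg56 zg14) (kg xg0 yg56 zg11) (kg xg2 yg45 zg27) (kg xg4 yg3 zg30) (kg xg0 yg56 zg12) (kg xg1 yg1 zg6) (kg xg2 yg24 zg9) (kg xg0 yg56 zg13) (kg xg1 yg14 zg8) (kg xg4 yg3 zg38) (kg xg4 yg3 zg42) (kg xg2 yg45 zg24) (kg xg4 yg3 zg48) (kg xg2 yg7 zg3) (kg xg1 yg55 zg15) (kg xg1 yg57 zg56) (kg xg1 yg2 zg41) (kg xg2 yg4 zg46) (kg xg4 yg3 zg57) (kg xg2 yg37 zg13) (kg xg0 yg59 zg23) (kg xg4 yg4 zg4)) (@D3.rec (fun _ => Pt) (kg xg1 yg59 zg3) (kg xg0 yg56 zg18) (kg xg4 yg4 zg11) (kg xg1 yg59 zg1)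 (kg xg2 yg4 zg43) (kg xg4 yg4 zg18) (kg xg0 yg56 zg29) (kg xg0 yg56 zg20) (kg xg4 yg3 zg24) (kg xg4 yg4 zg27) (kg xg0 yg56 zg21) (kg xg1 yg0 zg47) (kg xg2 yg3 zg16) (kg xg0 yg59 zg25) (kg xg0 yg56 zg31) (kg xg1 yg1 zg28) (kg xg1 yg9 zg30) (kg xg1 yg0 zg52) (kg xg1 yg18 zg15) (kg xg2 yg43 zg60) (kg xg4 yg3 zg26) (kg xg4 yg4 zg41) (kg xg1 yg19 zg12) (kg xg1 yg1 zg35) (kg xg1 yg19 zg10) (kg xg1 yg8 zg54) (kg xg0 yg59 zg1) (kg xg1 yg1 zg37) (kg xg0 yg56 zg35) (kg xg4 yg2 zg0) (kg xg2 yg9 zg32) (kg xg4 yg2 zg1) (kg xg2 yg26 zg57) (kg xg4 yg4 zg52) (kg xg4 yg1 zg17) (kg xg1 yg58 zg4) (kg xg1 yg55 zg21) (kg xg1 yg9 zg53) (kg xg2 yg24 zg27) (kg xg1 yg9 zg22) (kg xg0 yg56 zg51) (kg xg0 yg56 zg47) (kg xg4 yg5 zg4) (kg xg0 yg56 zg49) (kg xg2 yg7 zg38) (kg xg2 yg24 zg54) (kg xg4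 yg5 zg11) (kg xg2 yg7 zg8) (kg xg2 yg4 zg8) (kg xg2 yg44 zg27) (kg xg2 yg3 zg29) (kg xg4 yg5 zg6) (kg xg0 yg56 zg50) (kg xg4 yg5 zg23) (kg xg3 yg58 zg19) (kg xg2 yg4 zg35) (kg xg4 yg5 zg29) (kg xg4 yg5 zg32) (kg xg3 yg21 zg24) (kg xg2 yg39 zg25) (kg xg1 yg25 zg21) (kg xg3 yg58 zg50))
def f_g_2 : D2 → D3 → Pt := @D2.rec (fun _ => D3 → Pt) (@D3.rec (fun _ => Pt) (kg xg0 yg59 zg2) (kg xg4 yg1 zg14) (kg xg2 yg17 zg56) (kg xg1 yg12 zg21) (kg xg1 yg25 zg59) (kg xg1 yg21 zg35) (kg xg4 yg5 zg38) (kg xg1 yg5 zg24) (kg xg1 yg12 zg9) (kg xg2 yg30 zg51) (kg xg2 yg18 zg54) (kg xg2 yg33 zg38) (kg xg2 yg12 zg36) (kg xg4 yg5 zg47) (kg xg0 yg57 zg6) (kg xg4 yg5 zg48) (kg xg4 yg5 zg59) (kg xg4 yg5 zg53) (kg xg2 yg39 zg34) (kg xg4 yg6 zg4) (kg xg2 yg1 zg1) (kg xg2 yg23 zg11) (kg xg3 yg57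 zg11) (kg xg2 yg23 zg49) (kg xg1 yg8 zg59) (kg xg0 yg57 zg17) (kg xg0 yg57 zg13) (kg xg4 yg6 zg14) (kg xg0 yg57 zg15) (kg xg2 yg23 zg5) (kg xg4 yg6 zg19) (kg xg4 yg6 zg22) (kg xg2 yg3 zg47) (kg xg1 yg14 zg37) (kg xg1 yg0 zg54) (kg xg4 yg6 zg23) (kg xg2 yg6 zg45) (kg xg4 yg6 zg16) (kg xg0 yg57 zg16) (kg xg4 yg6 zg38) (kg xg2 yg25 zg23) (kg xg4 yg1 zg45) (kg xg0 yg57 zg19) (kg xg2 yg30 zg30) (kg xg2 yg44 zg19) (kg xg4 yg6 zg49) (kg xg2 yg23 zg28) (kg xg2 yg39 zg22) (kg xg2 yg44 zg13) (kg xg2 yg7 zg29) (kg xg4 yg6 zg56) (kg xg4 yg6 zg59) (kg xg2 yg58 zg55) (kg xg1 yg16 zg39) (kg xg2 yg26 zg1) (kg xg4 yg7 zg4) (kg xg2 yg14 zg6) (kg xg1 yg13 zg52) (kg xg4 yg7 zg6) (kg xg0 yg57 zg33) (kg xg4 yg7 zg7) (kg xg4 yg7 zg16)) (@D3.rec (fun _ => Pt) (kg xg4 yg7 zg10) (kg xg0 yg57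 zg34) (kg xg2 yg59 zg3) (kg xg4 yg7 zg25) (kg xg1 yg25 zg39) (kg xg2 yg1 zg27) (kg xg2 yg1 zg20) (kg xg0 yg57 zg38) (kg xg4 yg7 zg33) (kg xg2 yg1 zg18) (kg xg2 yg34 zg42) (kg xg0 yg57 zg58) (kg xg2 yg1 zg25) (kg xg4 yg7 zg41) (kg xg2 yg1 zg23) (kg xg0 yg57 zg42) (kg xg4 yg7 zg49) (kg xg1 yg13 zg32) (kg xg0 yg57 zg43) (kg xg2 yg28 zg28) (kg xg2 yg1 zg7) (kg xg2 yg40 zg28) (kg xg4 yg7 zg60) (kg xg0 yg57 zg45) (kg xg4 yg8 zg2) (kg xg1 yg16 zg38) (kg xg1 yg1 zg13) (kg xg1 yg18 zg9) (kg xg2 yg5 zg48) (kg xg1 yg16 zg32) (kg xg4 yg8 zg12) (kg xg2 yg41 zg47) (kg xg0 yg58 zg0) (kg xg0 yg57 zg49) (kg xg4 yg8 zg22) (kg xg0 yg57 zg60) (kg xg2 yg38 zg17) (kg xg2 yg58 zg34) (kg xg0 yg57 zg56) (kg xg4 yg8 zg32) (kg xg4 yg7 zg54) (kg xg0 yg57 zg57) (kg xg0 yg57 zg53) (kg xg4 yg8 zg42)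 (kg xg4 yg8 zg47) (kg xg0 yg57 zg54) (kg xg1 yg14 zg13) (kg xg4 yg7 zg61) (kg xg0 yg57 zg55) (kg xg1 yg1 zg9) (kg xg1 yg11 zg14) (kg xg4 yg8 zg57) (kg xg2 yg24 zg11) (kg xg2 yg4 zg0) (kg xg4 yg8 zg33) (kg xg4 yg9 zg4) (kg xg4 yg8 zg43) (kg xg4 yg9 zg10) (kg xg1 yg2 zg50) (kg xg1 yg25 zg9) (kg xg3 yg56 zg55) (kg xg4 yg9 zg18)) (@D3.rec (fun _ => Pt) (kg xg4 yg9 zg23) (kg xg4 yg9 zg25) (kg xg1 yg1 zg12) (kg xg4 yg9 zg19) (kg xg1 yg2 zg51) (kg xg4 yg9 zg36) (kg xg4 yg8 zg26) (kg xg0 yg57 zg61) (kg xg4 yg9 zg47) (kg xg4 yg9 zg52) (kg xg4 yg8 zg23) (kg xg4 yg9 zg58) (kg xg2 yg6 zg18) (kg xg2 yg6 zg0) (kg xg1 yg15 zg45) (kg xg1 yg58 zg48) (kg xg4 yg10 zg5) (kg xg4 yg10 zg8) (kg xg2 yg5 zg59) (kg xg0 yg58 zg4) (kg xg4 yg10 zg15) (kg xg4 yg10 zg20) (kg xg4 yg10 zg3) (kg xg0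 yg58 zg5) (kg xg4 yg10 zg2) (kg xg0 yg58 zg44) (kg xg0 yg58 zg16) (kg xg0 yg58 zg7) (kg xg4 yg10 zg27) (kg xg4 yg10 zg31) (kg xg2 yg5 zg57) (kg xg0 yg58 zg8) (kg xg2 yg5 zg56) (kg xg0 yg59 zg42) (kg xg0 yg58 zg22) (kg xg2 yg5 zg42) (kg xg2 yg37 zg0) (kg xg2 yg5 zg39) (kg xg4 yg10 zg44) (kg xg4 yg10 zg49) (kg xg1 yg15 zg29) (kg xg1 yg24 zg61) (kg xg4 yg10 zg53) (kg xg4 yg10 zg56) (kg xg2 yg6 zg9) (kg xg4 yg10 zg58) (kg xg2 yg5 zg52) (kg xg1 yg3 zg23) (kg xg2 yg5 zg58) (kg xg4 yg11 zg3) (kg xg4 yg11 zg8) (kg xg4 yg11 zg12) (kg xg4 yg11 zg16) (kg xg2 yg6 zg17) (kg xg0 yg58 zg21) (kg xg1 yg2 zg53) (kg xg2 yg6 zg16) (kg xg1 yg24 zg53) (kg xg4 yg11 zg26) (kg xg4 yg11 zg31) (kg xg4 yg11 zg34) (kg xg3 yg10 zg61)) (@D3.rec (fun _ => Pt) (kg xg2 yg6 zg25) (kg xg0 yg58 zg24) (kg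 xg2 yg6 zg24) (kg xg4 yg11 zg42) (kg xg3 yg7 zg9) (kg xg4 yg11 zg46) (kg xg0 yg58 zg27) (kg xg4 yg11 zg47) (kg xg4 yg11 zg58) (kg xg4 yg11 zg52) (kg xg4 yg12 zg1) (kg xg4 yg12 zg2) (kg xg0 yg58 zg30) (kg xg1 yg19 zg46) (kg xg2 yg6 zg5) (kg xg1 yg55 zg14) (kg xg0 yg59 zg20) (kg xg1 yg55 zg41) (kg xg1 yg1 zg34) (kg xg2 yg1 zg50) (kg xg2 yg23 zg55) (kg xg2 yg7 zg10) (kg xg1 yg59 zg50) (kg xg2 yg7 zg7) (kg xg0 yg58 zg40) (kg xg4 yg12 zg24) (kg xg4 yg12 zg29) (kg xg4 yg12 zg17) (kg xg0 yg58 zg41) (kg xg4 yg12 zg16) (kg xg2 yg23 zg14) (kg xg1 yg0 zg2) (kg xg4 yg12 zg39) (kg xg1 yg1 zg27) (kg xg0 yg59 zg56) (kg xg0 yg58 zg57) (kg xg4 yg12 zg46) (kg xg1 yg30 zg13) (kg xg2 yg6 zg52) (kg xg0 yg58 zg45) (kg xg2 yg6 zg51) (kg xg1 yg11 zg23) (kg xg2 yg7 zg24) (kg xg2 yg7 zg23) (kg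 xg1 yg17 zg11) (kg xg1 yg9 zg24) (kg xg2 yg6 zg40) (kg xg4 yg12 zg60) (kg xg2 yg6 zg37) (kg xg0 yg58 zg54) (kg xg4 yg13 zg6) (kg xg4 yg13 zg11) (kg xg4 yg12 zg61) (kg xg0 yg58 zg55) (kg xg2 yg0 zg32) (kg xg4 yg13 zg16) (kg xg4 yg10 zg57) (kg xg2 yg7 zg21) (kg xg2 yg6 zg47) (kg xg2 yg6 zg57) (kg xg0 yg58 zg60) (kg xg1 yg9 zg60)) (@D3.rec (fun _ => Pt) (kg xg1 yg55 zg54) (kg xg2 yg38 zg60) (kg xg4 yg1 zg5) (kg xg4 yg1 zg15) (kg xg2 yg8 zg45) (kg xg4 yg13 zg28) (kg xg4 yg2 zg3) (kg xg1 yg57 zg40) (kg xg2 yg34 zg21) (kg xg2 yg4 zg15) (kg xg4 yg13 zg39) (kg xg2 yg4 zg13) (kg xg1 yg59 zg45) (kg xg0 yg59 zg9) (kg xg2 yg31 zg38) (kg xg1 yg25 zg12) (kg xg0 yg59 zg15) (kg xg4 yg13 zg51) (kg xg0 yg59 zg13) (kg xg4 yg13 zg54) (kg xg1 yg59 zg48) (kg xg2 yg11 zg38) (kg xg4 yg13 zg60)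 (kg xg4 yg13 zg45) (kg xg1 yg59 zg37) (kg xg1 yg14 zg6) (kg xg2 yg45 zg23) (kg xg2 yg45 zg37) (kg xg4 yg13 zg53) (kg xg0 yg59 zg14) (kg xg1 yg17 zg34) (kg xg2 yg25 zg35) (kg xg2 yg28 zg27) (kg xg2 yg23 zg10) (kg xg4 yg3 zg8) (kg xg2 yg23 zg8) (kg xg2 yg45 zg30) (kg xg4 yg14 zg29) (kg xg1 yg0 zg56) (kg xg1 yg59 zg10) (kg xg2 yg12 zg37) (kg xg1 yg59 zg4) (kg xg4 yg14 zg38) (kg xg1 yg57 zg23) (kg xg4 yg14 zg43) (kg xg4 yg14 zg46) (kg xg1 yg58 zg60) (kg xg4 yg1 zg7) (kg xg4 yg14 zg53) (kg xg4 yg8 zg54) (kg xg2 yg35 zg38) (kg xg0 yg59 zg45) (kg xg2 yg5 zg0) (kg xg4 yg14 zg59) (kg xg2 yg4 zg60) (kg xg1 yg59 zg44) (kg xg4 yg15 zg4) (kg xg1 yg58 zg31) (kg xg2 yg39 zg19) (kg xg4 yg15 zg9) (kg xg0 yg59 zg34) (kg xg4 yg15 zg13)) (@D3.rec (fun _ => Pt) (kg xg1 yg25 zg20) (kg xg2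 yg5 zg37) (kg xg1 yg17 zg23) (kg xg1 yg25 zg14) (kg xg4 yg15 zg21) (kg xg4 yg2 zg49) (kg xg0 yg59 zg49) (kg xg0 yg59 zg38) (kg xg4 yg15 zg31) (kg xg0 yg59 zg47) (kg xg0 yg59 zg44) (kg xg0 yg59 zg40) (kg xg4 yg15 zg41) (kg xg4 yg15 zg46) (kg xg0 yg59 zg41) (kg xg1 yg14 zg40) (kg xg4 yg15 zg10) (kg xg1 yg59 zg36) (kg xg4 yg15 zg53) (kg xg2 yg38 zg42) (kg xg1 yg16 zg52) (kg xg2 yg40 zg29) (kg xg4 yg15 zg42) (kg xg4 yg16 zg0) (kg xg2 yg41 zg12) (kg xg1 yg16 zg27) (kg xg4 yg16 zg3) (kg xg4 yg16 zg8) (kg xg2 yg8 zg3) (kg xg4 yg16 zg4) (kg xg4 yg16 zg17) (kg xg4 yg15 zg35) (kg xg0 yg59 zg48) (kg xg4 yg16 zg29) (kg xg4 yg16 zg33) (kg xg4 yg15 zg32) (kg xg4 yg16 zg39) (kg xg1 yg1 zg19) (kg xg2 yg2 zg57) (kg xg1 yg16 zg10) (kg xg1 yg25 zg3) (kg xg2 yg2 zg35) (kg xg0 yg59 zg52)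 (kg xg4 yg16 zg51) (kg xg4 yg16 zg56) (kg xg2 yg36 zg22) (kg xg0 yg59 zg53) (kg xg2 yg38 zg43) (kg xg2 yg1 zg30) (kg xg1 yg0 zg40) (kg xg4 yg17 zg2) (kg xg1 yg0 zg21) (kg xg1 yg0 zg3) (kg xg4 yg17 zg7) (kg xg4 yg12 zg49) (kg xg2 yg2 zg32) (kg xg0 yg59 zg57) (kg xg2 yg2 zg31) (kg xg1 yg0 zg9) (kg xg2 yg2 zg19) (kg xg2 yg3 zg14) (kg xg2 yg2 zg13)) (@D3.rec (fun _ => Pt) (kg xg1 yg0 zg0) (kg xg4 yg17 zg22) (kg xg4 yg17 zg27) (kg xg4 yg17 zg16) (kg xg1 yg0 zg1) (kg xg1 yg15 zg43) (kg xg4 yg17 zg30) (kg xg4 yg13 zg21) (kg xg2 yg2 zg46) (kg xg2 yg2 zg26) (kg xg2 yg2 zg34) (kg xg4 yg17 zg39) (kg xg4 yg17 zg44) (kg xg4 yg17 zg47) (kg xg4 yg17 zg51) (kg xg2 yg2 zg56) (kg xg1 yg0 zg8) (kg xg2 yg2 zg54) (kg xg1 yg15 zg36) (kg xg4 yg18 zg0) (kg xg4 yg18 zg5) (kg xg4 yg18 zg8) (kg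 xg4 yg18 zg11) (kg xg2 yg3 zg2) (kg xg1 yg0 zg11) (kg xg2 yg3 zg1) (kg xg4 yg18 zg15) (kg xg3 yg12 zg22) (kg xg4 yg18 zg19) (kg xg1 yg30 zg17) (kg xg4 yg11 zg57) (kg xg1 yg0 zg14) (kg xg4 yg11 zg59) (kg xg1 yg0 zg15) (kg xg1 yg8 zg51) (kg xg2 yg5 zg17) (kg xg2 yg24 zg33) (kg xg2 yg3 zg49) (kg xg2 yg0 zg36) (kg xg2 yg3 zg46) (kg xg1 yg0 zg18) (kg xg4 yg18 zg47) (kg xg4 yg18 zg52) (kg xg4 yg18 zg41) (kg xg1 yg0 zg19) (kg xg4 yg13 zg15) (kg xg1 yg8 zg49) (kg xg1 yg0 zg41) (kg xg4 yg19 zg0) (kg xg2 yg19 zg26) (kg xg2 yg3 zg40) (kg xg1 yg0 zg22) (kg xg2 yg3 zg39) (kg xg1 yg8 zg50) (kg xg1 yg0 zg32) (kg xg1 yg14 zg18) (kg xg2 yg3 zg61) (kg xg2 yg3 zg60) (kg xg1 yg9 zg56) (kg xg1 yg9 zg5) (kg xg1 yg0 zg30) (kg xg4 yg4 zg23)) (@D3.rec (fun _ => Pt) (kg xg4 yg19 zg13) (kg xg1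 yg58 zg55) (kg xg1 yg1 zg20) (kg xg1 yg57 zg30) (kg xg1 yg56 zg58) (kg xg2 yg4 zg24) (kg xg1 yg8 zg61) (kg xg2 yg3 zg24) (kg xg4 yg12 zg34) (kg xg2 yg3 zg21) (kg xg1 yg0 zg38) (kg xg4 yg19 zg33) (kg xg4 yg19 zg38) (kg xg4 yg19 zg26) (kg xg1 yg0 zg39) (kg xg3 yg58 zg7) (kg xg1 yg59 zg47) (kg xg3 yg11 zg57) (kg xg4 yg17 zg36) (kg xg2 yg3 zg58) (kg xg4 yg19 zg46) (kg xg2 yg3 zg35) (kg xg2 yg3 zg43) (kg xg1 yg0 zg44) (kg xg1 yg55 zg60) (kg xg4 yg5 zg52) (kg xg2 yg31 zg37) (kg xg2 yg7 zg42) (kg xg4 yg19 zg58) (kg xg2 yg4 zg38) (kg xg2 yg33 zg12) (kg xg2 yg33 zg20) (kg xg2 yg33 zg42) (kg xg2 yg7 zg50) (kg xg4 yg20 zg10) (kg xg4 yg20 zg15) (kg xg2 yg7 zg47) (kg xg4 yg20 zg19) (kg xg2 yg34 zg37) (kg xg4 yg4 zg32) (kg xg3 yg57 zg16) (kg xg4 yg20 zg25) (kg xg1 yg59 zg11) (kg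 xg2 yg29 zg47) (kg xg3 yg56 zg61) (kg xg2 yg29 zg54) (kg xg2 yg7 zg36) (kg xg1 yg0 zg61) (kg xg3 yg46 zg24) (kg xg4 yg20 zg41) (kg xg1 yg59 zg17) (kg xg2 yg36 zg60) (kg xg2 yg7 zg61) (kg xg1 yg1 zg2) (kg xg4 yg6 zg54) (kg xg1 yg58 zg45) (kg xg2 yg58 zg39) (kg xg1 yg25 zg1) (kg xg4 yg20 zg55) (kg xg2 yg7 zg55) (kg xg4 yg19 zg56) (kg xg2 yg7 zg53)) (@D3.rec (fun _ => Pt) (kg xg2 yg37 zg27) (kg xg2 yg1 zg15) (kg xg4 yg8 zg17) (kg xg3 yg57 zg2) (kg xg2 yg3 zg19) (kg xg4 yg8 zg58) (kg xg4 yg7 zg48) (kg xg4 yg8 zg52) (kg xg4 yg21 zg13) (kg xg4 yg9 zg29) (kg xg4 yg8 zg28) (kg xg4 yg21 zg20) (kg xg1 yg1 zg15) (kg xg2 yg23 zg38) (kg xg3 yg56 zg53) (kg xg1 yg1 zg17) (kg xg2 yg45 zg39) (kg xg4 yg21 zg35) (kg xg1 yg1 zg18) (kg xg2 yg3 zg15) (kg xg4 yg10 zg41) (kg xg2 yg38 zg34)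 (kg xg4 yg21 zg31) (kg xg4 yg21 zg44) (kg xg2 yg24 zg25) (kg xg4 yg21 zg50) (kg xg2 yg58 zg20) (kg xg1 yg56 zg56) (kg xg4 yg21 zg59) (kg xg3 yg57 zg9) (kg xg1 yg1 zg24) (kg xg4 yg22 zg6) (kg xg4 yg22 zg11) (kg xg3 yg57 zg6) (kg xg4 yg22 zg15) (kg xg4 yg13 zg3) (kg xg4 yg6 zg27) (kg xg4 yg19 zg18) (kg xg4 yg22 zg24) (kg xg2 yg26 zg7) (kg xg1 yg10 zg13) (kg xg1 yg1 zg30) (kg xg4 yg22 zg29) (kg xg4 yg0 zg32) (kg xg4 yg22 zg35) (kg xg1 yg1 zg31) (kg xg4 yg22 zg39) (kg xg4 yg13 zg14) (kg xg4 yg21 zg29) (kg xg4 yg13 zg20) (kg xg4 yg22 zg46) (kg xg1 yg56 zg47) (kg xg4 yg22 zg51) (kg xg4 yg22 zg56) (kg xg4 yg22 zg59) (kg xg3 yg4 zg40) (kg xg1 yg1 zg39) (kg xg3 yg5 zg37) (kg xg4 yg23 zg2) (kg xg4 yg22 zg57) (kg xg4 yg23 zg6) (kg xg2 yg26 zg26)) (@D3.rec (fun _ => Pt) (kg xg1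 yg12 zg20) (kg xg4 yg23 zg8) (kg xg4 yg23 zg0) (kg xg4 yg23 zg12) (kg xg2 yg44 zg29) (kg xg4 yg23 zg7) (kg xg4 yg23 zg16) (kg xg1 yg1 zg44) (kg xg4 yg23 zg17) (kg xg4 yg23 zg28) (kg xg4 yg23 zg22) (kg xg3 yg57 zg36) (kg xg1 yg1 zg45) (kg xg4 yg22 zg12) (kg xg4 yg23 zg40) (kg xg3 yg57 zg33) (kg xg3 yg3 zg19) (kg xg4 yg23 zg45) (kg xg1 yg55 zg38) (kg xg3 yg4 zg39) (kg xg1 yg31 zg12) (kg xg1 yg10 zg42) (kg xg1 yg31 zg6) (kg xg1 yg1 zg50) (kg xg1 yg31 zg5) (kg xg4 yg23 zg59) (kg xg4 yg24 zg1) (kg xg4 yg24 zg4) (kg xg3 yg5 zg36) (kg xg1 yg1 zg52) (kg xg3 yg35 zg42) (kg xg1 yg28 zg18) (kg xg2 yg28 zg1) (kg xg2 yg10 zg40) (kg xg3 yg36 zg7) (kg xg1 yg1 zg55) (kg xg3 yg57 zg38) (kg xg4 yg24 zg19) (kg xg4 yg24 zg11) (kg xg4 yg24 zg24) (kg xg1 yg1 zg57) (kg xg1 yg56 zg52) (kg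 xg1 yg27 zg57) (kg xg2 yg18 zg50) (kg xg1 yg23 zg7) (kg xg1 yg1 zg60) (kg xg1 yg23 zg11) (kg xg3 yg9 zg52) (kg xg4 yg24 zg38) (kg xg3 yg57 zg43) (kg xg1 yg2 zg0) (kg xg3 yg57 zg42) (kg xg4 yg24 zg46) (kg xg4 yg24 zg50) (kg xg4 yg24 zg54) (kg xg2 yg26 zg55) (kg xg1 yg2 zg2) (kg xg4 yg24 zg61) (kg xg2 yg26 zg53) (kg xg3 yg0 zg61) (kg xg1 yg2 zg10) (kg xg4 yg25 zg7)) (@D3.rec (fun _ => Pt) (kg xg4 yg20 zg5) (kg xg2 yg3 zg17) (kg xg2 yg53 zg16) (kg xg1 yg2 zg8) (kg xg3 yg57 zg47) (kg xg4 yg25 zg22) (kg xg4 yg25 zg26) (kg xg4 yg25 zg30) (kg xg4 yg25 zg34) (kg xg1 yg22 zg34) (kg xg1 yg2 zg12) (kg xg1 yg2 zg15) (kg xg4 yg25 zg16) (kg xg4 yg25 zg46) (kg xg4 yg25 zg51) (kg xg4 yg25 zg55) (kg xg1 yg2 zg13) (kg xg1 yg23 zg1) (kg xg1 yg21 zg56) (kg xg2 yg48 zg58) (kg xg4 yg25 zg3)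 (kg xg4 yg26 zg6) (kg xg4 yg25 zg38) (kg xg1 yg2 zg14) (kg xg4 yg26 zg16) (kg xg4 yg26 zg22) (kg xg4 yg26 zg7) (kg xg4 yg26 zg26) (kg xg4 yg25 zg15) (kg xg4 yg26 zg31) (kg xg4 yg26 zg35) (kg xg4 yg26 zg39) (kg xg3 yg58 zg2) (kg xg1 yg2 zg18) (kg xg3 yg58 zg1) (kg xg4 yg26 zg52) (kg xg3 yg3 zg21) (kg xg1 yg2 zg20) (kg xg4 yg26 zg59) (kg xg4 yg0 zg33) (kg xg4 yg27 zg2) (kg xg1 yg27 zg48) (kg xg2 yg9 zg33) (kg xg1 yg21 zg28) (kg xg1 yg15 zg40) (kg xg1 yg2 zg23) (kg xg4 yg27 zg9) (kg xg1 yg14 zg19) (kg xg2 yg33 zg25) (kg xg1 yg2 zg37) (kg xg2 yg10 zg57) (kg xg4 yg27 zg16) (kg xg2 yg10 zg55) (kg xg2 yg29 zg58) (kg xg4 yg3 zg23) (kg xg1 yg2 zg28) (kg xg4 yg27 zg26) (kg xg1 yg14 zg59) (kg xg4 yg3 zg19) (kg xg2 yg24 zg13) (kg xg1 yg2 zg31) (kg xg4 yg27 zg36)) (@D3.rec (fun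 _ => Pt) (kg xg1 yg2 zg39) (kg xg4 yg3 zg39) (kg xg2 yg34 zg36) (kg xg1 yg2 zg36) (kg xg1 yg2 zg34) (kg xg4 yg27 zg50) (kg xg4 yg27 zg55) (kg xg1 yg2 zg35) (kg xg1 yg15 zg23) (kg xg4 yg3 zg22) (kg xg4 yg27 zg51) (kg xg4 yg28 zg1) (kg xg1 yg9 zg29) (kg xg4 yg3 zg35) (kg xg4 yg28 zg6) (kg xg4 yg28 zg11) (kg xg4 yg28 zg7) (kg xg4 yg28 zg18) (kg xg4 yg27 zg40) (kg xg1 yg2 zg40) (kg xg4 yg28 zg30) (kg xg4 yg28 zg35) (kg xg4 yg27 zg37) (kg xg4 yg28 zg41) (kg xg1 yg17 zg12) (kg xg1 yg2 zg42) (kg xg4 yg28 zg47) (kg xg4 yg28 zg52) (kg xg4 yg2 zg47) (kg xg1 yg2 zg43) (kg xg2 yg41 zg25) (kg xg1 yg3 zg9) (kg xg1 yg16 zg34) (kg xg4 yg28 zg57) (kg xg1 yg56 zg19) (kg xg1 yg17 zg8) (kg xg1 yg2 zg46) (kg xg1 yg17 zg7) (kg xg2 yg4 zg25) (kg xg1 yg2 zg57) (kg xg1 yg16 zg49) (kg xg4 yg29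 zg7) (kg xg4 yg29 zg12) (kg xg4 yg29 zg15) (kg xg1 yg56 zg7) (kg xg2 yg45 zg47) (kg xg1 yg17 zg31) (kg xg1 yg17 zg29) (kg xg4 yg29 zg24) (kg xg4 yg29 zg29) (kg xg4 yg29 zg33) (kg xg2 yg40 zg45) (kg xg4 yg29 zg39) (kg xg1 yg17 zg44) (kg xg1 yg2 zg56) (kg xg1 yg13 zg42) (kg xg1 yg17 zg42) (kg xg1 yg14 zg10) (kg xg4 yg13 zg52) (kg xg4 yg29 zg53) (kg xg4 yg29 zg56) (kg xg2 yg40 zg42)) (@D3.rec (fun _ => Pt) (kg xg3 yg21 zg54) (kg xg1 yg17 zg53) (kg xg1 yg2 zg59) (kg xg1 yg17 zg52) (kg xg4 yg30 zg4) (kg xg2 yg40 zg39) (kg xg2 yg48 zg26) (kg xg4 yg30 zg12) (kg xg2 yg40 zg33) (kg xg4 yg30 zg0) (kg xg4 yg30 zg19) (kg xg1 yg3 zg0) (kg xg4 yg30 zg20) (kg xg4 yg30 zg31) (kg xg4 yg30 zg25) (kg xg1 yg3 zg52) (kg xg1 yg3 zg1) (kg xg4 yg30 zg39) (kg xg4 yg30 zg42) (kg xg1 yg16 zg46)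 (kg xg1 yg3 zg3) (kg xg1 yg9 zg55) (kg xg2 yg0 zg48) (kg xg4 yg30 zg55) (kg xg1 yg4 zg47) (kg xg1 yg18 zg33) (kg xg1 yg3 zg10) (kg xg1 yg18 zg31) (kg xg3 yg0 zg8) (kg xg4 yg31 zg2) (kg xg4 yg31 zg3) (kg xg4 yg31 zg6) (kg xg4 yg31 zg10) (kg xg1 yg3 zg17) (kg xg1 yg22 zg26) (kg xg2 yg0 zg12) (kg xg1 yg56 zg10) (kg xg1 yg10 zg5) (kg xg1 yg18 zg12) (kg xg1 yg3 zg21) (kg xg4 yg31 zg23) (kg xg4 yg31 zg28) (kg xg4 yg4 zg38) (kg xg1 yg3 zg22) (kg xg4 yg31 zg31) (kg xg4 yg29 zg22) (kg xg1 yg19 zg18) (kg xg1 yg3 zg24) (kg xg1 yg19 zg16) (kg xg1 yg18 zg47) (kg xg1 yg3 zg25) (kg xg1 yg18 zg46) (kg xg4 yg31 zg44) (kg xg2 yg52 zg28) (kg xg1 yg19 zg35) (kg xg1 yg3 zg29) (kg xg1 yg28 zg28) (kg xg4 yg31 zg51) (kg xg1 yg19 zg58) (kg xg1 yg3 zg41) (kg xg1 yg19 zg27) (kg xg1 yg3 zg34))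 (@D3.rec (fun _ => Pt) (kg xg1 yg19 zg26) (kg xg2 yg44 zg53) (kg xg4 yg32 zg1) (kg xg4 yg32 zg3) (kg xg1 yg28 zg56) (kg xg1 yg12 zg29) (kg xg1 yg20 zg5) (kg xg1 yg19 zg61) (kg xg1 yg3 zg39) (kg xg1 yg19 zg60) (kg xg2 yg49 zg9) (kg xg1 yg3 zg49) (kg xg4 yg32 zg17) (kg xg1 yg26 zg16) (kg xg1 yg19 zg39) (kg xg1 yg19 zg50) (kg xg1 yg3 zg42) (kg xg1 yg19 zg49) (kg xg4 yg32 zg31) (kg xg4 yg32 zg35) (kg xg4 yg32 zg39) (kg xg4 yg32 zg43) (kg xg2 yg14 zg4) (kg xg1 yg12 zg23) (kg xg1 yg3 zg46) (kg xg4 yg32 zg24) (kg xg4 yg32 zg53) (kg xg3 yg10 zg19) (kg xg1 yg3 zg47) (kg xg4 yg32 zg54) (kg xg2 yg44 zg33) (kg xg4 yg32 zg7) (kg xg4 yg33 zg6) (kg xg4 yg32 zg48) (kg xg1 yg3 zg48) (kg xg4 yg33 zg15) (kg xg4 yg33 zg21) (kg xg4 yg33 zg7) (kg xg1 yg23 zg9) (kg xg4 yg32 zg9) (kg xg4 yg33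 zg29) (kg xg4 yg32 zg23) (kg xg4 yg32 zg47) (kg xg4 yg33 zg36) (kg xg4 yg33 zg40) (kg xg1 yg20 zg31) (kg xg1 yg3 zg53) (kg xg1 yg20 zg30) (kg xg4 yg33 zg53) (kg xg1 yg24 zg41) (kg xg2 yg16 zg42) (kg xg1 yg21 zg43) (kg xg1 yg4 zg12) (kg xg1 yg3 zg60) (kg xg2 yg46 zg3) (kg xg4 yg34 zg1) (kg xg1 yg21 zg24) (kg xg4 yg34 zg6) (kg xg1 yg21 zg15) (kg xg1 yg21 zg26) (kg xg1 yg4 zg1) (kg xg4 yg34 zg11)) (@D3.rec (fun _ => Pt) (kg xg3 yg0 zg31) (kg xg2 yg13 zg22) (kg xg2 yg0 zg56) (kg xg2 yg17 zg1) (kg xg2 yg47 zg34) (kg xg2 yg30 zg13) (kg xg1 yg4 zg56) (kg xg3 yg4 zg43) (kg xg3 yg0 zg32) (kg xg2 yg30 zg10) (kg xg4 yg34 zg23) (kg xg1 yg21 zg9) (kg xg1 yg21 zg6) (kg xg1 yg4 zg10) (kg xg4 yg34 zg31) (kg xg4 yg34 zg33) (kg xg4 yg34 zg36) (kg xg1 yg21 zg47) (kg xg4 yg33 zg61) (kg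 xg2 yg15 zg54) (kg xg1 yg26 zg6) (kg xg4 yg7 zg5) (kg xg1 yg10 zg53) (kg xg1 yg10 zg49) (kg xg1 yg22 zg17) (kg xg4 yg34 zg44) (kg xg1 yg22 zg6) (kg xg3 yg3 zg25) (kg xg4 yg25 zg50) (kg xg1 yg24 zg43) (kg xg1 yg21 zg60) (kg xg1 yg21 zg55) (kg xg4 yg34 zg52) (kg xg4 yg34 zg54) (kg xg1 yg4 zg24) (kg xg4 yg34 zg60) (kg xg4 yg31 zg58) (kg xg4 yg35 zg2) (kg xg1 yg22 zg22) (kg xg4 yg35 zg4) (kg xg2 yg59 zg56) (kg xg3 yg3 zg24) (kg xg1 yg18 zg53) (kg xg1 yg22 zg31) (kg xg1 yg22 zg30) (kg xg4 yg35 zg11) (kg xg3 yg0 zg4) (kg xg1 yg23 zg47) (kg xg2 yg26 zg12) (kg xg3 yg59 zg28) (kg xg1 yg24 zg22) (kg xg4 yg25 zg40) (kg xg1 yg5 zg4) (kg xg1 yg23 zg15) (kg xg4 yg35 zg23) (kg xg4 yg35 zg26) (kg xg4 yg35 zg29) (kg xg4 yg35 zg25) (kg xg1 yg4 zg36) (kg xg4 yg35 zg37) (kg xg2 yg33 zg48)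 (kg xg1 yg6 zg60)) (@D3.rec (fun _ => Pt) (kg xg1 yg4 zg37) (kg xg3 yg46 zg28) (kg xg1 yg22 zg59) (kg xg2 yg29 zg6) (kg xg1 yg12 zg17) (kg xg3 yg59 zg21) (kg xg1 yg24 zg15) (kg xg4 yg35 zg51) (kg xg4 yg0 zg44) (kg xg1 yg5 zg6) (kg xg1 yg24 zg37) (kg xg1 yg22 zg48) (kg xg1 yg22 zg52) (kg xg4 yg35 zg53) (kg xg1 yg22 zg44) (kg xg1 yg4 zg43) (kg xg3 yg4 zg8) (kg xg4 yg36 zg10) (kg xg4 yg36 zg14) (kg xg4 yg36 zg18) (kg xg4 yg36 zg4) (kg xg1 yg4 zg45) (kg xg4 yg36 zg25) (kg xg4 yg36 zg2) (kg xg1 yg23 zg24) (kg xg1 yg4 zg46) (kg xg4 yg36 zg33) (kg xg1 yg23 zg22) (kg xg1 yg23 zg26) (kg xg1 yg18 zg29) (kg xg1 yg23 zg20) (kg xg4 yg24 zg42) (kg xg1 yg5 zg28) (kg xg1 yg4 zg51) (kg xg2 yg51 zg42) (kg xg1 yg27 zg32) (kg xg3 yg5 zg3) (kg xg4 yg5 zg39) (kg xg1 yg22 zg41) (kg xg1 yg4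 zg57) (kg xg1 yg4 zg52) (kg xg4 yg24 zg33) (kg xg4 yg36 zg58) (kg xg4 yg37 zg1) (kg xg2 yg51 zg46) (kg xg1 yg4 zg58) (kg xg4 yg37 zg8) (kg xg4 yg37 zg14) (kg xg1 yg27 zg13) (kg xg2 yg0 zg57) (kg xg4 yg37 zg19) (kg xg2 yg33 zg46) (kg xg1 yg23 zg6) (kg xg1 yg21 zg31) (kg xg2 yg14 zg21) (kg xg1 yg56 zg51) (kg xg4 yg36 zg59) (kg xg4 yg24 zg34) (kg xg4 yg37 zg9) (kg xg4 yg36 zg29) (kg xg1 yg4 zg59) (kg xg4 yg36 zg35)) (@D3.rec (fun _ => Pt) (kg xg1 yg22 zg35) (kg xg1 yg35 zg25) (kg xg4 yg37 zg43) (kg xg4 yg35 zg52) (kg xg4 yg37 zg48) (kg xg4 yg37 zg51) (kg xg4 yg37 zg49) (kg xg4 yg37 zg58) (kg xg1 yg35 zg26) (kg xg1 yg5 zg1) (kg xg4 yg38 zg7) (kg xg4 yg38 zg11) (kg xg4 yg37 zg45) (kg xg1 yg5 zg2) (kg xg4 yg37 zg44) (kg xg1 yg23 zg18) (kg xg4 yg38 zg25) (kg xg1 yg23 zg5)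 (kg xg4 yg38 zg30) (kg xg4 yg38 zg34) (kg xg1 yg24 zg21) (kg xg1 yg5 zg5) (kg xg4 yg38 zg41) (kg xg1 yg24 zg19) (kg xg1 yg22 zg43) (kg xg4 yg38 zg45) (kg xg4 yg38 zg49) (kg xg1 yg24 zg28) (kg xg1 yg5 zg7) (kg xg4 yg38 zg57) (kg xg1 yg24 zg26) (kg xg4 yg38 zg61) (kg xg4 yg39 zg4) (kg xg4 yg38 zg56) (kg xg4 yg35 zg50) (kg xg4 yg39 zg5) (kg xg2 yg51 zg5) (kg xg1 yg22 zg40) (kg xg4 yg39 zg13) (kg xg1 yg20 zg33) (kg xg1 yg5 zg13) (kg xg4 yg39 zg26) (kg xg2 yg52 zg16) (kg xg2 yg50 zg45) (kg xg2 yg45 zg11) (kg xg4 yg39 zg29) (kg xg1 yg28 zg57) (kg xg2 yg48 zg57) (kg xg1 yg5 zg20) (kg xg2 yg48 zg56) (kg xg4 yg25 zg54) (kg xg4 yg39 zg38) (kg xg1 yg12 zg34) (kg xg4 yg39 zg41) (kg xg1 yg5 zg23) (kg xg2 yg33 zg3) (kg xg4 yg35 zg24) (kg xg4 yg39 zg45) (kg xg2 yg34 zg4) (kg xg4 yg39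 zg53) (kg xg1 yg25 zg56) (kg xg2 yg18 zg55)) (@D3.rec (fun _ => Pt) (kg xg3 yg4 zg56) (kg xg2 yg17 zg48) (kg xg4 yg39 zg58) (kg xg4 yg40 zg0) (kg xg1 yg26 zg13) (kg xg1 yg5 zg29) (kg xg1 yg26 zg12) (kg xg1 yg5 zg33) (kg xg2 yg20 zg23) (kg xg4 yg40 zg11) (kg xg3 yg5 zg55) (kg xg1 yg29 zg44) (kg xg1 yg30 zg0) (kg xg2 yg19 zg4) (kg xg2 yg18 zg39) (kg xg2 yg20 zg35) (kg xg4 yg40 zg20) (kg xg3 yg12 zg15) (kg xg4 yg40 zg23) (kg xg1 yg33 zg43) (kg xg3 yg5 zg53) (kg xg1 yg5 zg38) (kg xg3 yg30 zg7) (kg xg2 yg21 zg9) (kg xg4 yg40 zg41) (kg xg4 yg40 zg22) (kg xg1 yg5 zg39) (kg xg4 yg40 zg21) (kg xg1 yg23 zg29) (kg xg4 yg40 zg51) (kg xg1 yg27 zg18) (kg xg1 yg5 zg41) (kg xg4 yg40 zg60) (kg xg1 yg27 zg16) (kg xg4 yg41 zg1) (kg xg2 yg49 zg30) (kg xg3 yg21 zg35) (kg xg1 yg33 zg48)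 (kg xg1 yg33 zg32) (kg xg1 yg22 zg4) (kg xg1 yg34 zg12) (kg xg3 yg19 zg35) (kg xg1 yg28 zg0) (kg xg4 yg41 zg18) (kg xg1 yg26 zg2) (kg xg4 yg41 zg19) (kg xg2 yg0 zg8) (kg xg4 yg34 zg15) (kg xg1 yg5 zg50) (kg xg4 yg41 zg28) (kg xg1 yg21 zg29) (kg xg1 yg28 zg47) (kg xg1 yg5 zg51) (kg xg2 yg50 zg47) (kg xg1 yg28 zg45) (kg xg1 yg27 zg53) (kg xg2 yg10 zg43) (kg xg2 yg33 zg18) (kg xg1 yg11 zg10) (kg xg1 yg30 zg38) (kg xg1 yg31 zg49) (kg xg3 yg13 zg4)) (@D3.rec (fun _ => Pt) (kg xg1 yg6 zg2) (kg xg1 yg31 zg41) (kg xg1 yg6 zg8) (kg xg2 yg21 zg1) (kg xg4 yg41 zg44) (kg xg1 yg38 zg26) (kg xg1 yg24 zg36) (kg xg1 yg6 zg5) (kg xg2 yg53 zg57) (kg xg4 yg39 zg6) (kg xg3 yg24 zg16) (kg xg1 yg6 zg6) (kg xg3 yg11 zg48) (kg xg1 yg30 zg32) (kg xg4 yg11 zg38) (kg xg1 yg31 zg42) (kg xg3 yg1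 zg25) (kg xg1 yg31 zg60) (kg xg4 yg41 zg58) (kg xg2 yg19 zg39) (kg xg3 yg23 zg18) (kg xg4 yg42 zg2) (kg xg3 yg22 zg37) (kg xg4 yg42 zg3) (kg xg1 yg30 zg36) (kg xg1 yg6 zg13) (kg xg4 yg42 zg11) (kg xg1 yg30 zg34) (kg xg1 yg26 zg38) (kg xg1 yg6 zg16) (kg xg1 yg29 zg17) (kg xg3 yg6 zg35) (kg xg2 yg22 zg57) (kg xg4 yg42 zg22) (kg xg4 yg42 zg24) (kg xg1 yg30 zg58) (kg xg4 yg18 zg16) (kg xg1 yg6 zg20) (kg xg1 yg29 zg0) (kg xg3 yg6 zg1) (kg xg1 yg30 zg51) (kg xg4 yg42 zg32) (kg xg1 yg6 zg22) (kg xg1 yg28 zg8) (kg xg1 yg6 zg23) (kg xg1 yg28 zg7) (kg xg4 yg36 zg5) (kg xg2 yg49 zg37) (kg xg4 yg42 zg39) (kg xg4 yg42 zg43) (kg xg1 yg31 zg28) (kg xg4 yg0 zg24) (kg xg1 yg56 zg13) (kg xg4 yg42 zg46) (kg xg2 yg59 zg58) (kg xg1 yg6 zg32) (kg xg4 yg42 zg47) (kg xg3 yg0 zg52) (kg xg1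 yg28 zg35) (kg xg2 yg16 zg61) (kg xg4 yg36 zg41) (kg xg2 yg49 zg54)) (@D3.rec (fun _ => Pt) (kg xg1 yg31 zg24) (kg xg1 yg6 zg33) (kg xg2 yg51 zg16) (kg xg1 yg31 zg22) (kg xg3 yg6 zg0) (kg xg2 yg21 zg39) (kg xg1 yg30 zg19) (kg xg1 yg30 zg4) (kg xg1 yg29 zg61) (kg xg1 yg30 zg16) (kg xg3 yg23 zg0) (kg xg3 yg15 zg57) (kg xg3 yg24 zg11) (kg xg3 yg5 zg48) (kg xg3 yg17 zg0) (kg xg3 yg24 zg14) (kg xg1 yg29 zg53) (kg xg1 yg6 zg46) (kg xg3 yg12 zg25) (kg xg4 yg43 zg13) (kg xg1 yg6 zg47) (kg xg4 yg10 zg24) (kg xg4 yg43 zg4) (kg xg2 yg21 zg37) (kg xg2 yg17 zg11) (kg xg2 yg6 zg49) (kg xg1 yg6 zg49) (kg xg4 yg43 zg25) (kg xg4 yg43 zg27) (kg xg3 yg23 zg4) (kg xg4 yg43 zg28) (kg xg1 yg38 zg23) (kg xg1 yg32 zg9) (kg xg1 yg6 zg53) (kg xg4 yg43 zg35) (kg xg1 yg32 zg7) (kg xg4 yg43 zg40)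 (kg xg1 yg35 zg8) (kg xg3 yg1 zg38) (kg xg2 yg18 zg1) (kg xg4 yg35 zg44) (kg xg3 yg22 zg57) (kg xg3 yg8 zg36) (kg xg3 yg6 zg44) (kg xg1 yg49 zg56) (kg xg4 yg43 zg52) (kg xg3 yg24 zg18) (kg xg1 yg7 zg49) (kg xg1 yg32 zg41) (kg xg1 yg32 zg32) (kg xg1 yg7 zg8) (kg xg4 yg43 zg11) (kg xg2 yg20 zg29) (kg xg3 yg23 zg19) (kg xg1 yg53 zg24) (kg xg3 yg23 zg20) (kg xg4 yg43 zg61) (kg xg3 yg22 zg46) (kg xg1 yg34 zg58) (kg xg3 yg28 zg34) (kg xg1 yg8 zg25) (kg xg1 yg34 zg3)) (@D3.rec (fun _ => Pt) (kg xg4 yg40 zg29) (kg xg3 yg22 zg58) (kg xg4 yg40 zg47) (kg xg1 yg34 zg17) (kg xg1 yg49 zg45) (kg xg3 yg6 zg4) (kg xg1 yg33 zg58) (kg xg1 yg50 zg2) (kg xg4 yg44 zg17) (kg xg1 yg7 zg36) (kg xg1 yg7 zg20) (kg xg1 yg34 zg19) (kg xg3 yg6 zg8) (kg xg4 yg41 zg10) (kg xg1 yg27 zg26) (kg xg1 yg26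 zg58) (kg xg1 yg27 zg21) (kg xg1 yg7 zg53) (kg xg1 yg36 zg23) (kg xg3 yg5 zg52) (kg xg1 yg29 zg50) (kg xg1 yg29 zg35) (kg xg1 yg33 zg41) (kg xg2 yg17 zg12) (kg xg2 yg17 zg13) (kg xg1 yg7 zg38) (kg xg2 yg17 zg15) (kg xg3 yg45 zg16) (kg xg3 yg12 zg14) (kg xg2 yg20 zg36) (kg xg1 yg7 zg40) (kg xg1 yg7 zg35) (kg xg4 yg44 zg46) (kg xg4 yg44 zg51) (kg xg4 yg44 zg18) (kg xg1 yg29 zg3) (kg xg1 yg7 zg39) (kg xg4 yg44 zg56) (kg xg4 yg44 zg52) (kg xg1 yg32 zg27) (kg xg4 yg44 zg34) (kg xg1 yg36 zg6) (kg xg3 yg7 zg32) (kg xg1 yg33 zg55) (kg xg1 yg7 zg57) (kg xg1 yg7 zg44) (kg xg4 yg45 zg16) (kg xg4 yg40 zg33) (kg xg4 yg45 zg22) (kg xg1 yg7 zg45) (kg xg1 yg7 zg59) (kg xg1 yg38 zg10) (kg xg4 yg45 zg30) (kg xg1 yg7 zg50) (kg xg1 yg7 zg47) (kg xg4 yg45 zg38) (kg xg4 yg45 zg43) (kg xg4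 yg45 zg46) (kg xg4 yg45 zg5) (kg xg1 yg7 zg48) (kg xg4 yg45 zg56) (kg xg4 yg45 zg3)) (@D3.rec (fun _ => Pt) (kg xg1 yg32 zg31) (kg xg2 yg18 zg4) (kg xg4 yg45 zg61) (kg xg4 yg45 zg44) (kg xg4 yg46 zg5) (kg xg1 yg7 zg51) (kg xg4 yg46 zg11) (kg xg1 yg36 zg25) (kg xg4 yg46 zg15) (kg xg4 yg40 zg39) (kg xg4 yg45 zg50) (kg xg4 yg46 zg24) (kg xg2 yg17 zg23) (kg xg4 yg43 zg60) (kg xg1 yg23 zg59) (kg xg1 yg7 zg54) (kg xg1 yg24 zg6) (kg xg4 yg46 zg42) (kg xg4 yg46 zg46) (kg xg2 yg21 zg21) (kg xg1 yg7 zg55) (kg xg2 yg21 zg20) (kg xg4 yg46 zg56) (kg xg4 yg40 zg31) (kg xg4 yg45 zg25) (kg xg1 yg7 zg56) (kg xg4 yg47 zg7) (kg xg4 yg45 zg23) (kg xg4 yg47 zg12) (kg xg3 yg21 zg19) (kg xg4 yg47 zg16) (kg xg1 yg37 zg4) (kg xg4 yg45 zg37) (kg xg3 yg14 zg25) (kg xg1 yg36 zg16) (kg xg1 yg36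 zg21) (kg xg4 yg47 zg28) (kg xg4 yg40 zg9) (kg xg4 yg42 zg27) (kg xg1 yg32 zg28) (kg xg2 yg19 zg23) (kg xg1 yg30 zg57) (kg xg1 yg8 zg2) (kg xg4 yg47 zg39) (kg xg1 yg36 zg18) (kg xg4 yg47 zg45) (kg xg1 yg36 zg15) (kg xg1 yg8 zg4) (kg xg1 yg51 zg17) (kg xg4 yg47 zg50) (kg xg4 yg47 zg27) (kg xg1 yg8 zg5) (kg xg4 yg47 zg59) (kg xg4 yg45 zg55) (kg xg1 yg35 zg7) (kg xg4 yg41 zg16) (kg xg4 yg48 zg3) (kg xg4 yg44 zg61) (kg xg1 yg36 zg14) (kg xg1 yg8 zg8) (kg xg3 yg8 zg49) (kg xg1 yg36 zg12)) (@D3.rec (fun _ => Pt) (kg xg1 yg35 zg61) (kg xg3 yg43 zg1) (kg xg3 yg14 zg5) (kg xg4 yg48 zg17) (kg xg4 yg47 zg24) (kg xg1 yg8 zg12) (kg xg4 yg48 zg25) (kg xg4 yg48 zg14) (kg xg4 yg48 zg29) (kg xg1 yg34 zg49) (kg xg4 yg48 zg30) (kg xg1 yg36 zg31) (kg xg1 yg8 zg15) (kg xg3 yg11 zg26) (kg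 xg1 yg36 zg29) (kg xg2 yg55 zg16) (kg xg4 yg48 zg43) (kg xg4 yg48 zg48) (kg xg2 yg51 zg43) (kg xg4 yg48 zg44) (kg xg4 yg38 zg38) (kg xg4 yg48 zg59) (kg xg4 yg49 zg0) (kg xg1 yg8 zg20) (kg xg4 yg49 zg9) (kg xg4 yg48 zg60) (kg xg4 yg49 zg13) (kg xg4 yg49 zg17) (kg xg3 yg21 zg34) (kg xg4 yg35 zg17) (kg xg4 yg49 zg18) (kg xg3 yg14 zg27) (kg xg1 yg36 zg51) (kg xg1 yg8 zg23) (kg xg4 yg49 zg36) (kg xg1 yg36 zg49) (kg xg1 yg37 zg5) (kg xg4 yg49 zg43) (kg xg1 yg8 zg29) (kg xg4 yg49 zg48) (kg xg4 yg49 zg51) (kg xg3 yg21 zg31) (kg xg1 yg8 zg28) (kg xg1 yg33 zg27) (kg xg3 yg42 zg7) (kg xg3 yg14 zg19) (kg xg2 yg59 zg18) (kg xg4 yg49 zg52) (kg xg4 yg43 zg49) (kg xg1 yg37 zg21) (kg xg3 yg14 zg34) (kg xg1 yg36 zg10) (kg xg1 yg33 zg22) (kg xg4 yg50 zg4) (kg xg1 yg37 zg15) (kg xg1 yg8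 zg34) (kg xg4 yg50 zg15) (kg xg2 yg18 zg28) (kg xg4 yg48 zg6) (kg xg1 yg33 zg24) (kg xg1 yg30 zg48) (kg xg4 yg50 zg25)) (@D3.rec (fun _ => Pt) (kg xg4 yg50 zg27) (kg xg1 yg55 zg55) (kg xg2 yg31 zg50) (kg xg1 yg8 zg39) (kg xg4 yg50 zg34) (kg xg2 yg35 zg24) (kg xg2 yg43 zg59) (kg xg4 yg19 zg4) (kg xg1 yg8 zg41) (kg xg4 yg50 zg41) (kg xg1 yg18 zg20) (kg xg2 yg41 zg1) (kg xg2 yg3 zg30) (kg xg2 yg0 zg46) (kg xg4 yg18 zg59) (kg xg2 yg46 zg28) (kg xg1 yg8 zg58) (kg xg1 yg8 zg45) (kg xg4 yg9 zg15) (kg xg1 yg8 zg56) (kg xg4 yg19 zg30) (kg xg2 yg40 zg24) (kg xg4 yg51 zg4) (kg xg1 yg58 zg33) (kg xg1 yg8 zg53) (kg xg4 yg51 zg10) (kg xg4 yg51 zg15) (kg xg1 yg11 zg18) (kg xg4 yg19 zg5) (kg xg2 yg0 zg21) (kg xg4 yg51 zg20) (kg xg4 yg51 zg23) (kg xg4 yg16 zg48) (kg xg4 yg3 zg0) (kg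 xg4 yg51 zg11) (kg xg4 yg19 zg45) (kg xg1 yg25 zg30) (kg xg2 yg40 zg4) (kg xg4 yg51 zg32) (kg xg4 yg51 zg36) (kg xg4 yg50 zg30) (kg xg2 yg8 zg13) (kg xg4 yg51 zg45) (kg xg4 yg50 zg60) (kg xg1 yg8 zg57) (kg xg4 yg51 zg55) (kg xg4 yg51 zg60) (kg xg4 yg21 zg23) (kg xg4 yg52 zg4) (kg xg2 yg3 zg45) (kg xg4 yg52 zg8) (kg xg4 yg52 zg12) (kg xg2 yg24 zg32) (kg xg1 yg8 zg60) (kg xg2 yg24 zg31) (kg xg1 yg59 zg39) (kg xg2 yg8 zg8) (kg xg4 yg52 zg24) (kg xg1 yg30 zg18) (kg xg1 yg9 zg0) (kg xg2 yg24 zg37) (kg xg4 yg52 zg29)) (@D3.rec (fun _ => Pt) (kg xg1 yg9 zg1) (kg xg4 yg52 zg30) (kg xg4 yg52 zg38) (kg xg4 yg52 zg35) (kg xg4 yg18 zg32) (kg xg4 yg12 zg4) (kg xg1 yg9 zg4) (kg xg4 yg4 zg20) (kg xg4 yg52 zg48) (kg xg1 yg9 zg6) (kg xg1 yg58 zg44) (kg xg4 yg52 zg51) (kg xg2 yg10 zg49)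 (kg xg2 yg11 zg12) (kg xg1 yg56 zg45) (kg xg1 yg9 zg13) (kg xg1 yg57 zg60) (kg xg4 yg12 zg55) (kg xg4 yg52 zg55) (kg xg4 yg6 zg9) (kg xg4 yg53 zg0) (kg xg4 yg0 zg20) (kg xg1 yg9 zg20) (kg xg4 yg53 zg9) (kg xg4 yg53 zg13) (kg xg2 yg8 zg27) (kg xg4 yg53 zg17) (kg xg2 yg7 zg6) (kg xg4 yg21 zg16) (kg xg4 yg53 zg22) (kg xg2 yg23 zg54) (kg xg1 yg9 zg23) (kg xg2 yg23 zg53) (kg xg2 yg0 zg24) (kg xg4 yg21 zg3) (kg xg4 yg53 zg33) (kg xg2 yg23 zg60) (kg xg1 yg9 zg25) (kg xg4 yg52 zg37) (kg xg1 yg9 zg26) (kg xg4 yg52 zg39) (kg xg1 yg9 zg27) (kg xg1 yg15 zg11) (kg xg1 yg16 zg11) (kg xg2 yg29 zg50) (kg xg2 yg29 zg52) (kg xg1 yg56 zg59) (kg xg4 yg7 zg11) (kg xg4 yg7 zg9) (kg xg4 yg53 zg51) (kg xg4 yg53 zg53) (kg xg4 yg13 zg43) (kg xg1 yg9 zg40) (kg xg4 yg53 zg58) (kg xg1 yg11 zg24)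 (kg xg2 yg25 zg2) (kg xg4 yg54 zg2) (kg xg2 yg25 zg0) (kg xg2 yg32 zg7) (kg xg2 yg25 zg7) (kg xg4 yg54 zg9) (kg xg2 yg25 zg5)) (@D3.rec (fun _ => Pt) (kg xg1 yg9 zg45) (kg xg4 yg1 zg46) (kg xg1 yg12 zg51) (kg xg2 yg28 zg41) (kg xg4 yg13 zg23) (kg xg1 yg9 zg47) (kg xg4 yg54 zg24) (kg xg1 yg13 zg12) (kg xg1 yg18 zg22) (kg xg1 yg13 zg5) (kg xg4 yg30 zg52) (kg xg1 yg10 zg2) (kg xg1 yg9 zg51) (kg xg2 yg38 zg33) (kg xg1 yg10 zg0) (kg xg4 yg31 zg20) (kg xg2 yg28 zg22) (kg xg1 yg9 zg58) (kg xg4 yg54 zg49) (kg xg4 yg54 zg16) (kg xg1 yg9 zg59) (kg xg4 yg54 zg56) (kg xg4 yg54 zg61) (kg xg2 yg0 zg27) (kg xg4 yg19 zg8) (kg xg1 yg14 zg9) (kg xg4 yg55 zg5) (kg xg4 yg55 zg8) (kg xg4 yg4 zg22) (kg xg4 yg4 zg45) (kg xg4 yg54 zg57) (kg xg4 yg31 zg37) (kg xg4 yg19 zg21) (kg xg4 yg55 zg17)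 (kg xg4 yg55 zg21) (kg xg2 yg4 zg17) (kg xg4 yg0 zg60) (kg xg4 yg55 zg30) (kg xg4 yg54 zg41) (kg xg1 yg10 zg1) (kg xg4 yg55 zg40) (kg xg4 yg55 zg45) (kg xg4 yg54 zg38) (kg xg4 yg55 zg51) (kg xg4 yg55 zg53) (kg xg3 yg58 zg40) (kg xg1 yg10 zg4) (kg xg1 yg13 zg7) (kg xg3 yg58 zg39) (kg xg1 yg11 zg15) (kg xg4 yg20 zg56) (kg xg4 yg56 zg5) (kg xg3 yg58 zg43) (kg xg1 yg10 zg6) (kg xg3 yg58 zg42) (kg xg4 yg56 zg10) (kg xg1 yg10 zg7) (kg xg4 yg56 zg11) (kg xg2 yg50 zg44) (kg xg4 yg56 zg16) (kg xg4 yg56 zg24) (kg xg2 yg43 zg24)) (@D3.rec (fun _ => Pt) (kg xg2 yg0 zg54) (kg xg1 yg10 zg10) (kg xg1 yg10 zg24) (kg xg1 yg55 zg24) (kg xg4 yg56 zg34) (kg xg3 yg4 zg25) (kg xg1 yg10 zg14) (kg xg1 yg55 zg23) (kg xg3 yg58 zg55) (kg xg1 yg10 zg18) (kg xg3 yg58 zg54) (kg xg3 yg5 zg19) (kg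 xg2 yg14 zg46) (kg xg1 yg55 zg22) (kg xg4 yg56 zg45) (kg xg4 yg56 zg49) (kg xg1 yg56 zg41) (kg xg4 yg56 zg51) (kg xg1 yg56 zg61) (kg xg1 yg10 zg25) (kg xg2 yg49 zg7) (kg xg3 yg3 zg54) (kg xg1 yg10 zg26) (kg xg2 yg24 zg14) (kg xg4 yg4 zg49) (kg xg4 yg56 zg61) (kg xg1 yg31 zg29) (kg xg1 yg10 zg34) (kg xg1 yg10 zg37) (kg xg4 yg31 zg57) (kg xg4 yg57 zg7) (kg xg4 yg57 zg10) (kg xg1 yg10 zg35) (kg xg4 yg57 zg15) (kg xg4 yg31 zg48) (kg xg2 yg44 zg43) (kg xg3 yg10 zg26) (kg xg4 yg57 zg26) (kg xg4 yg57 zg1) (kg xg1 yg10 zg36) (kg xg4 yg57 zg34) (kg xg4 yg57 zg39) (kg xg4 yg57 zg27) (kg xg4 yg57 zg43) (kg xg4 yg57 zg46) (kg xg2 yg48 zg43) (kg xg3 yg59 zg15) (kg xg1 yg10 zg39) (kg xg3 yg59 zg14) (kg xg4 yg57 zg58) (kg xg2 yg58 zg14) (kg xg4 yg58 zg0) (kg xg2 yg9 zg58) (kg xg1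 yg10 zg43) (kg xg4 yg58 zg7) (kg xg2 yg9 zg56) (kg xg2 yg10 zg9) (kg xg1 yg55 zg25) (kg xg1 yg10 zg59) (kg xg4 yg57 zg44) (kg xg2 yg53 zg24) (kg xg1 yg22 zg1)) (@D3.rec (fun _ => Pt) (kg xg1 yg12 zg27) (kg xg1 yg10 zg48) (kg xg2 yg49 zg60) (kg xg4 yg58 zg24) (kg xg1 yg10 zg54) (kg xg1 yg21 zg53) (kg xg4 yg58 zg31) (kg xg4 yg58 zg33) (kg xg2 yg55 zg15) (kg xg1 yg10 zg55) (kg xg4 yg58 zg37) (kg xg4 yg58 zg43) (kg xg2 yg49 zg22) (kg xg2 yg33 zg58) (kg xg4 yg58 zg48) (kg xg2 yg33 zg59) (kg xg4 yg35 zg5) (kg xg4 yg25 zg47) (kg xg1 yg22 zg13) (kg xg1 yg22 zg42) (kg xg4 yg58 zg56) (kg xg3 yg3 zg27) (kg xg2 yg51 zg12) (kg xg1 yg11 zg1) (kg xg4 yg58 zg38) (kg xg3 yg12 zg61) (kg xg1 yg10 zg56) (kg xg4 yg35 zg9) (kg xg1 yg22 zg27) (kg xg1 yg11 zg0) (kg xg1 yg10 zg57) (kg xg2 yg56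 zg9) (kg xg4 yg59 zg18) (kg xg4 yg34 zg29) (kg xg4 yg59 zg22) (kg xg4 yg59 zg27) (kg xg4 yg58 zg52) (kg xg4 yg59 zg23) (kg xg3 yg8 zg29) (kg xg4 yg58 zg13) (kg xg1 yg10 zg60) (kg xg4 yg59 zg45) (kg xg4 yg59 zg49) (kg xg4 yg59 zg15) (kg xg4 yg59 zg20) (kg xg1 yg10 zg61) (kg xg4 yg59 zg19) (kg xg5 yg0 zg0) (kg xg4 yg57 zg2) (kg xg5 yg0 zg5) (kg xg5 yg0 zg8) (kg xg5 yg0 zg13) (kg xg3 yg8 zg44) (kg xg4 yg34 zg28) (kg xg5 yg0 zg14) (kg xg1 yg59 zg58) (kg xg3 yg3 zg33) (kg xg1 yg11 zg6) (kg xg2 yg57 zg59) (kg xg5 yg0 zg29) (kg xg2 yg58 zg10) (kg xg1 yg57 zg15)) (@D3.rec (fun _ => Pt) (kg xg2 yg17 zg57) (kg xg1 yg28 zg49) (kg xg1 yg21 zg34) (kg xg5 yg0 zg35) (kg xg5 yg0 zg37) (kg xg4 yg28 zg23) (kg xg5 yg0 zg42) (kg xg2 yg31 zg58) (kg xg5 yg0 zg45) (kg xg1 yg11 zg31) (kg xg5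 yg0 zg51) (kg xg1 yg11 zg29) (kg xg1 yg14 zg47) (kg xg5 yg0 zg58) (kg xg3 yg58 zg21) (kg xg4 yg3 zg6) (kg xg2 yg38 zg11) (kg xg1 yg11 zg26) (kg xg1 yg11 zg22) (kg xg5 yg1 zg7) (kg xg5 yg1 zg12) (kg xg5 yg1 zg15) (kg xg5 yg1 zg19) (kg xg5 yg1 zg0) (kg xg4 yg3 zg9) (kg xg5 yg1 zg8) (kg xg5 yg1 zg27) (kg xg2 yg0 zg45) (kg xg4 yg7 zg36) (kg xg5 yg1 zg33) (kg xg5 yg1 zg37) (kg xg4 yg13 zg42) (kg xg4 yg2 zg35) (kg xg5 yg1 zg44) (kg xg5 yg0 zg55) (kg xg1 yg11 zg30) (kg xg5 yg1 zg53) (kg xg5 yg1 zg58) (kg xg5 yg0 zg52) (kg xg5 yg2 zg2) (kg xg2 yg25 zg3) (kg xg1 yg11 zg32) (kg xg5 yg2 zg9) (kg xg5 yg2 zg14) (kg xg1 yg57 zg49) (kg xg1 yg12 zg13) (kg xg5 yg2 zg22) (kg xg1 yg12 zg2) (kg xg1 yg11 zg42) (kg xg1 yg11 zg41) (kg xg1 yg11 zg35) (kg xg5 yg2 zg33) (kg xg2 yg15 zg3) (kg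 xg5 yg2 zg39) (kg xg2 yg32 zg5) (kg xg1 yg11 zg36) (kg xg2 yg32 zg4) (kg xg1 yg11 zg47) (kg xg2 yg31 zg55) (kg xg2 yg44 zg25) (kg xg2 yg31 zg52) (kg xg1 yg11 zg39)) (@D3.rec (fun _ => Pt) (kg xg5 yg2 zg55) (kg xg5 yg2 zg60) (kg xg2 yg44 zg26) (kg xg1 yg11 zg40) (kg xg4 yg5 zg3) (kg xg5 yg3 zg4) (kg xg1 yg15 zg0) (kg xg5 yg3 zg10) (kg xg2 yg32 zg16) (kg xg5 yg3 zg14) (kg xg2 yg25 zg47) (kg xg1 yg25 zg15) (kg xg5 yg3 zg17) (kg xg5 yg3 zg21) (kg xg5 yg3 zg24) (kg xg5 yg3 zg29) (kg xg5 yg3 zg32) (kg xg2 yg32 zg26) (kg xg1 yg11 zg46) (kg xg2 yg32 zg25) (kg xg1 yg55 zg49) (kg xg2 yg37 zg17) (kg xg5 yg3 zg48) (kg xg5 yg3 zg51) (kg xg5 yg3 zg30) (kg xg5 yg3 zg57) (kg xg2 yg32 zg34) (kg xg1 yg11 zg49) (kg xg2 yg32 zg33) (kg xg3 yg2 zg12) (kg xg5 yg4 zg7) (kg xg5 yg3 zg37) (kg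 xg5 yg4 zg12) (kg xg5 yg4 zg8) (kg xg5 yg3 zg60) (kg xg5 yg4 zg21) (kg xg1 yg11 zg52) (kg xg5 yg4 zg22) (kg xg5 yg4 zg33) (kg xg5 yg4 zg27) (kg xg1 yg12 zg40) (kg xg1 yg11 zg53) (kg xg5 yg4 zg41) (kg xg5 yg4 zg44) (kg xg1 yg11 zg55) (kg xg5 yg4 zg49) (kg xg2 yg7 zg43) (kg xg1 yg11 zg57) (kg xg5 yg4 zg58) (kg xg5 yg5 zg1) (kg xg2 yg24 zg45) (kg xg1 yg56 zg38) (kg xg2 yg24 zg44) (kg xg2 yg7 zg45) (kg xg1 yg11 zg60) (kg xg5 yg5 zg11) (kg xg4 yg25 zg12) (kg xg2 yg10 zg53) (kg xg1 yg11 zg61) (kg xg5 yg5 zg22) (kg xg5 yg5 zg27) (kg xg2 yg35 zg16)) (@D3.rec (fun _ => Pt) (kg xg1 yg13 zg6) (kg xg5 yg5 zg34) (kg xg1 yg14 zg17) (kg xg1 yg13 zg2) (kg xg5 yg5 zg40) (kg xg5 yg2 zg43) (kg xg2 yg33 zg0) (kg xg1 yg12 zg3) (kg xg2 yg32 zg61) (kg xg1 yg13 zg56) (kg xg2 yg44 zg54) (kg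 xg1 yg13 zg59) (kg xg1 yg13 zg48) (kg xg2 yg45 zg17) (kg xg4 yg56 zg40) (kg xg1 yg13 zg53) (kg xg2 yg17 zg46) (kg xg1 yg25 zg47) (kg xg4 yg37 zg21) (kg xg5 yg6 zg0) (kg xg1 yg15 zg10) (kg xg1 yg12 zg11) (kg xg5 yg6 zg8) (kg xg5 yg6 zg13) (kg xg2 yg58 zg24) (kg xg5 yg6 zg17) (kg xg5 yg3 zg13) (kg xg2 yg33 zg33) (kg xg5 yg6 zg24) (kg xg2 yg11 zg55) (kg xg2 yg0 zg47) (kg xg2 yg33 zg6) (kg xg1 yg12 zg16) (kg xg2 yg33 zg5) (kg xg1 yg23 zg45) (kg xg5 yg6 zg36) (kg xg2 yg55 zg13) (kg xg1 yg25 zg46) (kg xg4 yg25 zg57) (kg xg5 yg6 zg44) (kg xg3 yg57 zg27) (kg xg5 yg6 zg48) (kg xg4 yg32 zg61) (kg xg1 yg12 zg25) (kg xg1 yg12 zg22) (kg xg5 yg6 zg55) (kg xg1 yg12 zg24) (kg xg1 yg23 zg30) (kg xg4 yg49 zg57) (kg xg1 yg23 zg33) (kg xg5 yg6 zg60) (kg xg2 yg0 zg11) (kg xg5 yg7 zg3) (kg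 xg4 yg57 zg14) (kg xg1 yg12 zg31) (kg xg1 yg12 zg28) (kg xg5 yg7 zg10) (kg xg1 yg12 zg30) (kg xg2 yg33 zg52) (kg xg3 yg57 zg53) (kg xg5 yg7 zg20) (kg xg4 yg58 zg17)) (@D3.rec (fun _ => Pt) (kg xg5 yg7 zg26) (kg xg1 yg18 zg60) (kg xg1 yg12 zg37) (kg xg5 yg7 zg12) (kg xg5 yg7 zg36) (kg xg2 yg59 zg54) (kg xg4 yg31 zg60) (kg xg1 yg12 zg35) (kg xg4 yg25 zg49) (kg xg2 yg55 zg3) (kg xg5 yg7 zg8) (kg xg5 yg7 zg49) (kg xg4 yg7 zg21) (kg xg1 yg12 zg36) (kg xg5 yg7 zg58) (kg xg5 yg8 zg2) (kg xg2 yg50 zg4) (kg xg4 yg58 zg50) (kg xg5 yg8 zg8) (kg xg3 yg59 zg26) (kg xg5 yg8 zg14) (kg xg5 yg8 zg17) (kg xg3 yg46 zg29) (kg xg2 yg34 zg14) (kg xg1 yg12 zg41) (kg xg2 yg34 zg13) (kg xg5 yg8 zg26) (kg xg5 yg8 zg28) (kg xg2 yg25 zg27) (kg xg1 yg12 zg52) (kg xg1 yg12 zg49) (kg xg5 yg8 zg35)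 (kg xg5 yg8 zg40) (kg xg5 yg8 zg43) (kg xg4 yg54 zg53) (kg xg5 yg8 zg36) (kg xg5 yg8 zg51) (kg xg1 yg25 zg35) (kg xg4 yg13 zg41) (kg xg4 yg2 zg31) (kg xg5 yg8 zg61) (kg xg2 yg24 zg56) (kg xg1 yg58 zg21) (kg xg5 yg9 zg6) (kg xg4 yg1 zg56) (kg xg1 yg12 zg56) (kg xg5 yg9 zg15) (kg xg5 yg9 zg20) (kg xg4 yg1 zg53) (kg xg5 yg9 zg24) (kg xg2 yg23 zg3) (kg xg2 yg29 zg20) (kg xg2 yg28 zg61) (kg xg2 yg33 zg28) (kg xg2 yg28 zg58) (kg xg1 yg12 zg61) (kg xg5 yg9 zg38) (kg xg5 yg9 zg43) (kg xg2 yg28 zg8) (kg xg1 yg13 zg41) (kg xg5 yg9 zg50) (kg xg1 yg13 zg24)) (@D3.rec (fun _ => Pt) (kg xg5 yg9 zg54) (kg xg1 yg22 zg61) (kg xg5 yg5 zg47) (kg xg2 yg28 zg56) (kg xg1 yg13 zg3) (kg xg2 yg28 zg55) (kg xg2 yg24 zg58) (kg xg1 yg13 zg4) (kg xg5 yg10 zg7) (kg xg5 yg10 zg12) (kg xg4 yg6 zg13)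 (kg xg5 yg10 zg16) (kg xg1 yg14 zg32) (kg xg5 yg6 zg23) (kg xg2 yg29 zg10) (kg xg5 yg10 zg24) (kg xg2 yg28 zg48) (kg xg1 yg16 zg33) (kg xg2 yg28 zg57) (kg xg5 yg10 zg30) (kg xg5 yg10 zg34) (kg xg5 yg10 zg37) (kg xg5 yg2 zg32) (kg xg5 yg10 zg43) (kg xg2 yg29 zg19) (kg xg1 yg13 zg11) (kg xg2 yg29 zg18) (kg xg2 yg36 zg17) (kg xg5 yg10 zg56) (kg xg5 yg10 zg59) (kg xg5 yg2 zg29) (kg xg5 yg11 zg3) (kg xg2 yg29 zg28) (kg xg1 yg13 zg14) (kg xg2 yg29 zg27) (kg xg5 yg11 zg10) (kg xg5 yg2 zg26) (kg xg5 yg10 zg48) (kg xg5 yg11 zg19) (kg xg5 yg2 zg20) (kg xg5 yg11 zg6) (kg xg5 yg11 zg28) (kg xg1 yg13 zg17) (kg xg5 yg11 zg29) (kg xg5 yg11 zg40) (kg xg5 yg11 zg34) (kg xg1 yg14 zg3) (kg xg1 yg13 zg18) (kg xg5 yg11 zg49) (kg xg5 yg11 zg52) (kg xg1 yg13 zg20) (kg xg1 yg15 zg17) (kg xg1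 yg13 zg21) (kg xg5 yg12 zg1) (kg xg5 yg12 zg6) (kg xg2 yg34 zg23) (kg xg5 yg12 zg11) (kg xg1 yg14 zg48) (kg xg5 yg12 zg16) (kg xg5 yg10 zg0) (kg xg2 yg30 zg8) (kg xg1 yg13 zg25)) (@D3.rec (fun _ => Pt) (kg xg2 yg30 zg7) (kg xg1 yg21 zg5) (kg xg4 yg42 zg58) (kg xg2 yg16 zg57) (kg xg2 yg30 zg33) (kg xg1 yg13 zg30) (kg xg2 yg30 zg32) (kg xg2 yg55 zg41) (kg xg5 yg12 zg31) (kg xg5 yg12 zg34) (kg xg4 yg21 zg10) (kg xg2 yg7 zg30) (kg xg1 yg13 zg33) (kg xg5 yg12 zg43) (kg xg5 yg12 zg47) (kg xg1 yg57 zg35) (kg xg3 yg59 zg58) (kg xg1 yg57 zg44) (kg xg2 yg58 zg9) (kg xg2 yg7 zg31) (kg xg1 yg13 zg37) (kg xg5 yg12 zg58) (kg xg2 yg10 zg0) (kg xg1 yg57 zg37) (kg xg2 yg10 zg48) (kg xg1 yg13 zg39) (kg xg5 yg13 zg7) (kg xg5 yg13 zg12) (kg xg2 yg36 zg47) (kg xg5 yg13 zg16) (kg xg5 yg10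 zg23) (kg xg2 yg30 zg29) (kg xg5 yg13 zg23) (kg xg1 yg17 zg43) (kg xg1 yg25 zg37) (kg xg2 yg30 zg17) (kg xg2 yg15 zg50) (kg xg5 yg13 zg30) (kg xg2 yg0 zg9) (kg xg3 yg13 zg47) (kg xg2 yg47 zg49) (kg xg5 yg13 zg35) (kg xg1 yg13 zg50) (kg xg2 yg10 zg15) (kg xg5 yg5 zg8) (kg xg1 yg57 zg59) (kg xg2 yg0 zg3) (kg xg5 yg5 zg58) (kg xg2 yg14 zg54) (kg xg5 yg13 zg49) (kg xg1 yg25 zg48) (kg xg2 yg30 zg58) (kg xg1 yg13 zg55) (kg xg2 yg30 zg57) (kg xg4 yg1 zg21) (kg xg5 yg14 zg1) (kg xg5 yg14 zg5) (kg xg5 yg14 zg7) (kg xg1 yg13 zg58) (kg xg2 yg27 zg0) (kg xg5 yg14 zg14) (kg xg2 yg27 zg7)) (@D3.rec (fun _ => Pt) (kg xg5 yg14 zg18) (kg xg1 yg25 zg43) (kg xg5 yg14 zg10) (kg xg1 yg25 zg41) (kg xg1 yg16 zg44) (kg xg5 yg14 zg29) (kg xg5 yg13 zg54) (kg xg5 yg14 zg34) (kg xg2 yg27 zg14)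 (kg xg5 yg14 zg40) (kg xg5 yg14 zg43) (kg xg1 yg50 zg21) (kg xg2 yg31 zg25) (kg xg1 yg14 zg4) (kg xg2 yg31 zg24) (kg xg5 yg14 zg52) (kg xg4 yg16 zg22) (kg xg4 yg14 zg9) (kg xg4 yg1 zg4) (kg xg2 yg23 zg37) (kg xg5 yg14 zg59) (kg xg2 yg4 zg20) (kg xg2 yg32 zg55) (kg xg5 yg5 zg37) (kg xg1 yg14 zg26) (kg xg5 yg8 zg56) (kg xg1 yg14 zg24) (kg xg5 yg6 zg5) (kg xg1 yg16 zg5) (kg xg1 yg14 zg20) (kg xg5 yg15 zg16) (kg xg4 yg55 zg4) (kg xg1 yg14 zg21) (kg xg5 yg15 zg23) (kg xg5 yg15 zg28) (kg xg5 yg15 zg30) (kg xg4 yg10 zg10) (kg xg2 yg4 zg55) (kg xg5 yg15 zg17) (kg xg4 yg51 zg3) (kg xg5 yg15 zg24) (kg xg5 yg6 zg22) (kg xg1 yg16 zg31) (kg xg2 yg36 zg33) (kg xg5 yg15 zg45) (kg xg5 yg15 zg49) (kg xg1 yg15 zg39) (kg xg4 yg13 zg47) (kg xg5 yg15 zg57) (kg xg5 yg15 zg9) (kg xg1 yg14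 zg25) (kg xg5 yg16 zg4) (kg xg5 yg16 zg9) (kg xg5 yg15 zg6) (kg xg5 yg16 zg15) (kg xg5 yg16 zg17) (kg xg5 yg16 zg20) (kg xg2 yg35 zg54) (kg xg1 yg14 zg28) (kg xg2 yg35 zg53) (kg xg4 yg54 zg3) (kg xg5 yg16 zg29)) (@D3.rec (fun _ => Pt) (kg xg2 yg35 zg59) (kg xg1 yg14 zg30) (kg xg2 yg35 zg58) (kg xg5 yg16 zg34) (kg xg1 yg14 zg31) (kg xg5 yg16 zg35) (kg xg5 yg16 zg46) (kg xg5 yg16 zg40) (kg xg5 yg16 zg51) (kg xg5 yg11 zg55) (kg xg1 yg14 zg34) (kg xg2 yg38 zg32) (kg xg5 yg16 zg56) (kg xg5 yg16 zg60) (kg xg1 yg14 zg45) (kg xg2 yg29 zg61) (kg xg5 yg12 zg14) (kg xg1 yg14 zg56) (kg xg5 yg1 zg31) (kg xg1 yg14 zg54) (kg xg4 yg9 zg41) (kg xg2 yg24 zg17) (kg xg5 yg17 zg13) (kg xg2 yg40 zg58) (kg xg1 yg55 zg47) (kg xg5 yg17 zg14) (kg xg4 yg22 zg21) (kg xg5 yg17 zg0) (kg xg1 yg14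 zg46) (kg xg2 yg59 zg7) (kg xg4 yg6 zg35) (kg xg1 yg14 zg51) (kg xg5 yg17 zg31) (kg xg5 yg17 zg36) (kg xg5 yg17 zg38) (kg xg2 yg37 zg55) (kg xg5 yg17 zg32) (kg xg5 yg13 zg22) (kg xg1 yg25 zg13) (kg xg5 yg17 zg49) (kg xg5 yg17 zg53) (kg xg1 yg15 zg8) (kg xg4 yg7 zg56) (kg xg5 yg17 zg60) (kg xg5 yg17 zg9) (kg xg1 yg14 zg55) (kg xg5 yg18 zg7) (kg xg5 yg18 zg12) (kg xg5 yg17 zg6) (kg xg5 yg18 zg18) (kg xg5 yg18 zg20) (kg xg5 yg18 zg23) (kg xg2 yg34 zg59) (kg xg1 yg14 zg58) (kg xg2 yg34 zg58) (kg xg5 yg18 zg29) (kg xg5 yg18 zg33) (kg xg2 yg35 zg2) (kg xg1 yg14 zg60) (kg xg2 yg35 zg1) (kg xg5 yg18 zg38) (kg xg1 yg14 zg61)) (@D3.rec (fun _ => Pt) (kg xg5 yg18 zg39) (kg xg5 yg18 zg50) (kg xg5 yg18 zg44) (kg xg5 yg18 zg55) (kg xg5 yg4 zg47) (kg xg1 yg15 zg2) (kg xg5 yg18 zg60)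 (kg xg2 yg36 zg57) (kg xg5 yg6 zg3) (kg xg2 yg37 zg45) (kg xg2 yg36 zg18) (kg xg1 yg15 zg5) (kg xg2 yg29 zg12) (kg xg2 yg35 zg41) (kg xg5 yg11 zg58) (kg xg1 yg16 zg7) (kg xg2 yg36 zg13) (kg xg4 yg54 zg7) (kg xg2 yg36 zg11) (kg xg5 yg6 zg9) (kg xg5 yg19 zg18) (kg xg5 yg16 zg26) (kg xg2 yg5 zg46) (kg xg5 yg19 zg24) (kg xg2 yg36 zg45) (kg xg1 yg15 zg13) (kg xg5 yg19 zg34) (kg xg5 yg19 zg37) (kg xg2 yg36 zg42) (kg xg5 yg19 zg42) (kg xg4 yg2 zg36) (kg xg1 yg15 zg15) (kg xg5 yg0 zg49) (kg xg4 yg2 zg34) (kg xg5 yg12 zg2) (kg xg5 yg19 zg51) (kg xg1 yg15 zg61) (kg xg1 yg25 zg2) (kg xg1 yg15 zg27) (kg xg4 yg54 zg18) (kg xg5 yg19 zg59) (kg xg2 yg36 zg28) (kg xg1 yg15 zg20) (kg xg5 yg20 zg6) (kg xg5 yg19 zg35) (kg xg2 yg36 zg25) (kg xg5 yg18 zg58) (kg xg5 yg9 zg31) (kg xg1 yg15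 zg49) (kg xg5 yg20 zg19) (kg xg1 yg15 zg47) (kg xg4 yg21 zg21) (kg xg2 yg43 zg55) (kg xg1 yg15 zg26) (kg xg5 yg20 zg28) (kg xg4 yg28 zg61) (kg xg2 yg37 zg40) (kg xg4 yg19 zg17) (kg xg5 yg20 zg29) (kg xg5 yg20 zg40) (kg xg2 yg43 zg32) (kg xg5 yg20 zg43)) (@D3.rec (fun _ => Pt) (kg xg2 yg2 zg41) (kg xg4 yg29 zg43) (kg xg2 yg35 zg11) (kg xg4 yg13 zg25) (kg xg5 yg20 zg53) (kg xg1 yg16 zg24) (kg xg1 yg15 zg33) (kg xg5 yg21 zg0) (kg xg5 yg21 zg5) (kg xg1 yg16 zg21) (kg xg5 yg21 zg9) (kg xg5 yg21 zg11) (kg xg5 yg21 zg15) (kg xg2 yg11 zg13) (kg xg5 yg5 zg17) (kg xg4 yg3 zg37) (kg xg4 yg27 zg11) (kg xg5 yg10 zg28) (kg xg4 yg21 zg9) (kg xg5 yg12 zg35) (kg xg2 yg1 zg52) (kg xg1 yg15 zg44) (kg xg1 yg15 zg42) (kg xg5 yg21 zg31) (kg xg5 yg21 zg36) (kg xg5 yg21 zg32) (kg xg5 yg21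 zg42) (kg xg4 yg7 zg52) (kg xg5 yg21 zg46) (kg xg5 yg21 zg51) (kg xg5 yg21 zg47) (kg xg5 yg21 zg57) (kg xg5 yg20 zg23) (kg xg1 yg15 zg48) (kg xg5 yg22 zg4) (kg xg5 yg22 zg9) (kg xg5 yg20 zg20) (kg xg5 yg21 zg10) (kg xg4 yg0 zg59) (kg xg2 yg36 zg56) (kg xg1 yg15 zg51) (kg xg2 yg44 zg0) (kg xg5 yg22 zg22) (kg xg1 yg15 zg52) (kg xg2 yg4 zg56) (kg xg2 yg37 zg53) (kg xg2 yg37 zg2) (kg xg2 yg38 zg13) (kg xg2 yg28 zg24) (kg xg1 yg16 zg6) (kg xg1 yg15 zg55) (kg xg4 yg54 zg54) (kg xg5 yg22 zg38) (kg xg1 yg15 zg56) (kg xg2 yg7 zg56) (kg xg2 yg37 zg43) (kg xg4 yg55 zg9) (kg xg5 yg22 zg48) (kg xg4 yg54 zg50) (kg xg5 yg20 zg16) (kg xg1 yg16 zg8) (kg xg1 yg15 zg59)) (@D3.rec (fun _ => Pt) (kg xg5 yg22 zg61) (kg xg5 yg23 zg4) (kg xg5 yg23 zg7) (kg xg5 yg20 zg34) (kg xg1 yg15 zg60)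 (kg xg5 yg23 zg15) (kg xg5 yg20 zg33) (kg xg1 yg24 zg60) (kg xg4 yg20 zg21) (kg xg1 yg16 zg16) (kg xg4 yg29 zg4) (kg xg4 yg9 zg16) (kg xg2 yg37 zg47) (kg xg1 yg16 zg4) (kg xg2 yg43 zg43) (kg xg5 yg23 zg30) (kg xg5 yg15 zg14) (kg xg2 yg8 zg10) (kg xg2 yg28 zg16) (kg xg4 yg30 zg53) (kg xg5 yg23 zg35) (kg xg4 yg53 zg47) (kg xg2 yg5 zg18) (kg xg2 yg36 zg7) (kg xg5 yg23 zg40) (kg xg5 yg23 zg5) (kg xg5 yg23 zg46) (kg xg5 yg20 zg41) (kg xg1 yg16 zg9) (kg xg5 yg23 zg53) (kg xg4 yg11 zg10) (kg xg5 yg23 zg57) (kg xg2 yg37 zg46) (kg xg2 yg25 zg42) (kg xg4 yg15 zg56) (kg xg5 yg24 zg3) (kg xg1 yg16 zg17) (kg xg1 yg16 zg13) (kg xg5 yg24 zg10) (kg xg5 yg24 zg15) (kg xg5 yg24 zg18) (kg xg1 yg16 zg18) (kg xg4 yg4 zg34) (kg xg2 yg5 zg40) (kg xg5 yg20 zg48) (kg xg1 yg16 zg15) (kg xg4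 yg27 zg23) (kg xg5 yg20 zg47) (kg xg2 yg7 zg51) (kg xg2 yg28 zg6) (kg xg5 yg24 zg33) (kg xg5 yg24 zg36) (kg xg5 yg24 zg16) (kg xg5 yg24 zg41) (kg xg2 yg5 zg19) (kg xg5 yg20 zg54) (kg xg1 yg16 zg19) (kg xg5 yg24 zg47) (kg xg4 yg30 zg2) (kg xg5 yg24 zg51) (kg xg4 yg54 zg48) (kg xg5 yg24 zg59)) (@D3.rec (fun _ => Pt) (kg xg5 yg24 zg23) (kg xg5 yg25 zg1) (kg xg2 yg4 zg1) (kg xg5 yg24 zg60) (kg xg5 yg24 zg44) (kg xg5 yg25 zg11) (kg xg1 yg16 zg22) (kg xg5 yg25 zg12) (kg xg5 yg25 zg23) (kg xg5 yg25 zg17) (kg xg4 yg55 zg47) (kg xg1 yg16 zg23) (kg xg4 yg55 zg46) (kg xg5 yg25 zg35) (kg xg5 yg21 zg6) (kg xg5 yg25 zg39) (kg xg5 yg20 zg24) (kg xg1 yg16 zg25) (kg xg2 yg4 zg58) (kg xg1 yg16 zg26) (kg xg5 yg25 zg53) (kg xg5 yg25 zg58) (kg xg2 yg0 zg43) (kg xg1 yg16 zg29) (kg xg5 yg26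 zg0) (kg xg2 yg0 zg18) (kg xg2 yg14 zg37) (kg xg2 yg58 zg58) (kg xg1 yg16 zg30) (kg xg2 yg58 zg57) (kg xg2 yg1 zg10) (kg xg5 yg26 zg7) (kg xg5 yg26 zg12) (kg xg5 yg26 zg14) (kg xg1 yg59 zg59) (kg xg5 yg26 zg19) (kg xg2 yg59 zg6) (kg xg1 yg17 zg0) (kg xg5 yg26 zg23) (kg xg5 yg26 zg27) (kg xg5 yg26 zg30) (kg xg4 yg49 zg61) (kg xg5 yg26 zg35) (kg xg2 yg59 zg14) (kg xg1 yg16 zg37) (kg xg2 yg59 zg13) (kg xg5 yg16 zg61) (kg xg5 yg26 zg46) (kg xg5 yg26 zg49) (kg xg1 yg36 zg58) (kg xg2 yg59 zg21) (kg xg1 yg16 zg40) (kg xg2 yg59 zg20) (kg xg5 yg26 zg54) (kg xg3 yg20 zg37) (kg xg5 yg26 zg39) (kg xg5 yg26 zg60) (kg xg5 yg7 zg2) (kg xg5 yg27 zg3) (kg xg1 yg16 zg43) (kg xg5 yg27 zg4) (kg xg5 yg27 zg15)) (@D3.rec (fun _ => Pt) (kg xg5 yg27 zg9) (kg xg2 yg16 zg58) (kg xg5 yg27 zg21)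 (kg xg4 yg30 zg43) (kg xg5 yg14 zg58) (kg xg4 yg55 zg25) (kg xg5 yg27 zg29) (kg xg4 yg29 zg8) (kg xg5 yg27 zg33) (kg xg1 yg16 zg50) (kg xg1 yg16 zg56) (kg xg4 yg55 zg6) (kg xg5 yg27 zg40) (kg xg2 yg2 zg16) (kg xg5 yg27 zg36) (kg xg2 yg59 zg1) (kg xg4 yg15 zg57) (kg xg1 yg16 zg53) (kg xg5 yg27 zg56) (kg xg4 yg16 zg35) (kg xg5 yg28 zg0) (kg xg5 yg27 zg35) (kg xg1 yg16 zg54) (kg xg5 yg27 zg34) (kg xg5 yg28 zg11) (kg xg2 yg1 zg21) (kg xg2 yg2 zg17) (kg xg2 yg23 zg21) (kg xg1 yg25 zg8) (kg xg2 yg6 zg55) (kg xg5 yg28 zg19) (kg xg5 yg28 zg23) (kg xg5 yg28 zg26) (kg xg2 yg12 zg5) (kg xg5 yg28 zg32) (kg xg4 yg10 zg61) (kg xg1 yg16 zg60) (kg xg4 yg10 zg59) (kg xg5 yg28 zg39) (kg xg2 yg12 zg8) (kg xg2 yg59 zg49) (kg xg5 yg28 zg47) (kg xg2 yg11 zg51) (kg xg5 yg28 zg37) (kg xg5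 yg28 zg56) (kg xg2 yg11 zg61) (kg xg2 yg59 zg4) (kg xg4 yg29 zg17) (kg xg1 yg17 zg3) (kg xg4 yg29 zg16) (kg xg5 yg29 zg12) (kg xg5 yg29 zg15) (kg xg4 yg27 zg58) (kg xg2 yg43 zg25) (kg xg1 yg25 zg31) (kg xg4 yg2 zg52) (kg xg4 yg30 zg45) (kg xg4 yg22 zg17) (kg xg5 yg29 zg23) (kg xg4 yg28 zg48) (kg xg5 yg29 zg28) (kg xg1 yg17 zg24)) (@D3.rec (fun _ => Pt) (kg xg1 yg17 zg22) (kg xg2 yg23 zg29) (kg xg4 yg0 zg16) (kg xg4 yg2 zg43) (kg xg1 yg17 zg15) (kg xg4 yg8 zg40) (kg xg5 yg29 zg40) (kg xg5 yg29 zg24) (kg xg1 yg17 zg16) (kg xg2 yg25 zg26) (kg xg2 yg35 zg23) (kg xg4 yg8 zg34) (kg xg2 yg4 zg51) (kg xg4 yg7 zg59) (kg xg4 yg9 zg2) (kg xg5 yg28 zg36) (kg xg4 yg2 zg45) (kg xg1 yg17 zg19) (kg xg5 yg29 zg60) (kg xg5 yg30 zg3) (kg xg5 yg30 zg6) (kg xg5 yg29 zg29) (kg xg1 yg17 zg20)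 (kg xg5 yg30 zg14) (kg xg4 yg9 zg27) (kg xg1 yg58 zg25) (kg xg5 yg30 zg18) (kg xg4 yg28 zg59) (kg xg1 yg17 zg25) (kg xg4 yg28 zg58) (kg xg5 yg30 zg31) (kg xg5 yg30 zg35) (kg xg2 yg25 zg58) (kg xg2 yg52 zg51) (kg xg1 yg17 zg27) (kg xg5 yg30 zg40) (kg xg2 yg45 zg50) (kg xg4 yg31 zg36) (kg xg5 yg6 zg25) (kg xg4 yg27 zg33) (kg xg1 yg19 zg14) (kg xg4 yg17 zg4) (kg xg1 yg17 zg30) (kg xg5 yg30 zg56) (kg xg4 yg17 zg3) (kg xg4 yg11 zg50) (kg xg4 yg14 zg17) (kg xg2 yg1 zg59) (kg xg5 yg31 zg1) (kg xg4 yg14 zg14) (kg xg5 yg31 zg6) (kg xg5 yg31 zg11) (kg xg5 yg31 zg14) (kg xg2 yg1 zg11) (kg xg5 yg31 zg3) (kg xg1 yg17 zg36) (kg xg5 yg17 zg3) (kg xg5 yg31 zg2) (kg xg5 yg31 zg27) (kg xg4 yg30 zg46) (kg xg4 yg29 zg58) (kg xg1 yg17 zg38)) (@D3.rec (fun _ => Pt) (kg xg4 yg29 zg57) (kg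 xg5 yg31 zg40) (kg xg5 yg31 zg44) (kg xg1 yg17 zg49) (kg xg1 yg17 zg39) (kg xg5 yg31 zg52) (kg xg4 yg29 zg42) (kg xg1 yg17 zg40) (kg xg5 yg31 zg58) (kg xg4 yg29 zg40) (kg xg4 yg28 zg14) (kg xg4 yg30 zg11) (kg xg5 yg16 zg32) (kg xg1 yg17 zg56) (kg xg5 yg16 zg25) (kg xg5 yg18 zg27) (kg xg2 yg32 zg13) (kg xg4 yg29 zg25) (kg xg5 yg32 zg11) (kg xg4 yg2 zg48) (kg xg1 yg17 zg46) (kg xg5 yg32 zg17) (kg xg5 yg32 zg22) (kg xg5 yg32 zg25) (kg xg5 yg32 zg13) (kg xg1 yg17 zg47) (kg xg5 yg32 zg12) (kg xg4 yg29 zg35) (kg xg1 yg17 zg48) (kg xg4 yg29 zg34) (kg xg5 yg32 zg41) (kg xg5 yg32 zg45) (kg xg2 yg13 zg57) (kg xg3 yg13 zg13) (kg xg1 yg17 zg50) (kg xg4 yg29 zg61) (kg xg2 yg54 zg56) (kg xg4 yg17 zg58) (kg xg4 yg27 zg35) (kg xg1 yg17 zg59) (kg xg4 yg30 zg14) (kg xg1 yg17 zg54) (kg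 xg4 yg30 zg13) (kg xg5 yg33 zg2) (kg xg5 yg33 zg6) (kg xg5 yg33 zg10) (kg xg1 yg17 zg58) (kg xg1 yg17 zg55) (kg xg5 yg33 zg18) (kg xg5 yg33 zg21) (kg xg4 yg29 zg45) (kg xg4 yg30 zg6) (kg xg1 yg17 zg57) (kg xg4 yg30 zg5) (kg xg5 yg33 zg35) (kg xg5 yg33 zg38) (kg xg5 yg33 zg42) (kg xg1 yg24 zg20) (kg xg4 yg30 zg3) (kg xg1 yg17 zg61) (kg xg1 yg18 zg2) (kg xg5 yg33 zg28)) (@D3.rec (fun _ => Pt) (kg xg5 yg33 zg56) (kg xg5 yg34 zg0) (kg xg5 yg34 zg4) (kg xg1 yg18 zg0) (kg xg5 yg34 zg8) (kg xg5 yg33 zg57) (kg xg5 yg33 zg16) (kg xg5 yg32 zg51) (kg xg4 yg33 zg37) (kg xg4 yg33 zg38) (kg xg1 yg18 zg1) (kg xg5 yg34 zg27) (kg xg5 yg34 zg31) (kg xg5 yg34 zg34) (kg xg5 yg32 zg57) (kg xg5 yg33 zg27) (kg xg5 yg34 zg42) (kg xg4 yg30 zg41) (kg xg1 yg18 zg5) (kg xg4 yg30 zg40) (kg xg2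 yg59 zg35) (kg xg1 yg18 zg6) (kg xg5 yg34 zg57) (kg xg4 yg15 zg2) (kg xg4 yg7 zg3) (kg xg5 yg35 zg3) (kg xg4 yg29 zg47) (kg xg4 yg2 zg56) (kg xg2 yg25 zg61) (kg xg2 yg40 zg53) (kg xg5 yg26 zg42) (kg xg3 yg58 zg27) (kg xg2 yg38 zg48) (kg xg2 yg38 zg49) (kg xg5 yg35 zg17) (kg xg4 yg31 zg24) (kg xg5 yg35 zg21) (kg xg1 yg18 zg13) (kg xg1 yg18 zg19) (kg xg3 yg58 zg20) (kg xg2 yg38 zg14) (kg xg5 yg35 zg28) (kg xg4 yg21 zg4) (kg xg5 yg22 zg28) (kg xg2 yg59 zg47) (kg xg4 yg4 zg36) (kg xg1 yg18 zg16) (kg xg5 yg35 zg44) (kg xg5 yg35 zg49) (kg xg5 yg35 zg53) (kg xg5 yg35 zg23) (kg xg1 yg18 zg17) (kg xg5 yg36 zg1) (kg xg5 yg35 zg22) (kg xg4 yg8 zg37) (kg xg5 yg22 zg31) (kg xg2 yg23 zg6) (kg xg4 yg21 zg5) (kg xg2 yg36 zg52) (kg xg1 yg25 zg29) (kg xg2 yg3 zg41) (kg xg4 yg1 zg2))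 (@D3.rec (fun _ => Pt) (kg xg5 yg20 zg35) (kg xg5 yg36 zg15) (kg xg5 yg36 zg18) (kg xg5 yg36 zg22) (kg xg4 yg19 zg48) (kg xg1 yg18 zg24) (kg xg4 yg19 zg47) (kg xg3 yg58 zg6) (kg xg4 yg10 zg6) (kg xg5 yg36 zg34) (kg xg5 yg36 zg37) (kg xg2 yg39 zg35) (kg xg1 yg18 zg27) (kg xg2 yg59 zg51) (kg xg4 yg31 zg33) (kg xg1 yg18 zg28) (kg xg4 yg31 zg32) (kg xg4 yg37 zg22) (kg xg4 yg55 zg1) (kg xg2 yg59 zg42) (kg xg3 yg58 zg18) (kg xg5 yg36 zg59) (kg xg2 yg53 zg0) (kg xg1 yg18 zg32) (kg xg2 yg45 zg12) (kg xg1 yg18 zg34) (kg xg2 yg29 zg3) (kg xg1 yg59 zg46) (kg xg5 yg37 zg5) (kg xg2 yg9 zg1) (kg xg1 yg31 zg20) (kg xg1 yg18 zg37) (kg xg3 yg0 zg55) (kg xg2 yg13 zg27) (kg xg2 yg57 zg48) (kg xg4 yg31 zg1) (kg xg1 yg18 zg39) (kg xg4 yg31 zg0) (kg xg2 yg47 zg48) (kg xg5 yg37 zg23) (kg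 xg4 yg31 zg5) (kg xg1 yg18 zg41) (kg xg4 yg31 zg4) (kg xg2 yg26 zg31) (kg xg5 yg37 zg33) (kg xg4 yg19 zg53) (kg xg1 yg18 zg43) (kg xg4 yg19 zg52) (kg xg5 yg37 zg41) (kg xg5 yg37 zg44) (kg xg5 yg37 zg47) (kg xg5 yg37 zg38) (kg xg5 yg37 zg54) (kg xg2 yg46 zg9) (kg xg1 yg18 zg59) (kg xg5 yg37 zg60) (kg xg5 yg37 zg55) (kg xg2 yg13 zg1) (kg xg4 yg31 zg45) (kg xg5 yg38 zg6) (kg xg4 yg31 zg43) (kg xg1 yg18 zg48)) (@D3.rec (fun _ => Pt) (kg xg5 yg38 zg14) (kg xg5 yg38 zg18) (kg xg2 yg58 zg12) (kg xg1 yg18 zg49) (kg xg4 yg34 zg48) (kg xg5 yg38 zg7) (kg xg4 yg31 zg12) (kg xg1 yg18 zg50) (kg xg4 yg31 zg11) (kg xg5 yg38 zg34) (kg xg5 yg37 zg37) (kg xg2 yg16 zg46) (kg xg1 yg59 zg57) (kg xg1 yg22 zg28) (kg xg4 yg1 zg27) (kg xg5 yg38 zg43) (kg xg5 yg37 zg19) (kg xg3 yg0 zg54) (kg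 xg5 yg7 zg30) (kg xg1 yg19 zg24) (kg xg5 yg26 zg20) (kg xg5 yg20 zg59) (kg xg4 yg56 zg28) (kg xg2 yg4 zg22) (kg xg1 yg58 zg42) (kg xg4 yg50 zg39) (kg xg4 yg9 zg0) (kg xg1 yg58 zg51) (kg xg5 yg36 zg26) (kg xg2 yg4 zg36) (kg xg1 yg19 zg7) (kg xg5 yg39 zg4) (kg xg5 yg39 zg8) (kg xg4 yg4 zg44) (kg xg1 yg19 zg8) (kg xg5 yg39 zg17) (kg xg4 yg4 zg42) (kg xg4 yg13 zg22) (kg xg4 yg9 zg1) (kg xg2 yg8 zg22) (kg xg4 yg30 zg57) (kg xg1 yg19 zg13) (kg xg4 yg30 zg56) (kg xg5 yg39 zg32) (kg xg5 yg39 zg36) (kg xg4 yg11 zg23) (kg xg5 yg39 zg39) (kg xg2 yg41 zg36) (kg xg5 yg3 zg15) (kg xg4 yg54 zg33) (kg xg2 yg11 zg45) (kg xg4 yg12 zg41) (kg xg1 yg19 zg17) (kg xg5 yg30 zg53) (kg xg4 yg12 zg40) (kg xg4 yg52 zg33) (kg xg5 yg37 zg27) (kg xg2 yg12 zg56) (kg xg4 yg31 zg7) (kg xg3 yg0 zg58)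 (kg xg1 yg19 zg22) (kg xg5 yg40 zg7)) (@D3.rec (fun _ => Pt) (kg xg5 yg40 zg11) (kg xg2 yg51 zg3) (kg xg1 yg19 zg23) (kg xg2 yg14 zg18) (kg xg4 yg31 zg46) (kg xg3 yg59 zg1) (kg xg2 yg47 zg51) (kg xg4 yg23 zg19) (kg xg2 yg47 zg37) (kg xg2 yg44 zg57) (kg xg4 yg31 zg59) (kg xg1 yg19 zg28) (kg xg5 yg40 zg29) (kg xg5 yg40 zg33) (kg xg4 yg57 zg13) (kg xg5 yg40 zg38) (kg xg3 yg58 zg60) (kg xg5 yg0 zg21) (kg xg4 yg31 zg53) (kg xg1 yg19 zg31) (kg xg5 yg40 zg50) (kg xg4 yg31 zg52) (kg xg4 yg57 zg9) (kg xg3 yg58 zg61) (kg xg1 yg19 zg34) (kg xg2 yg49 zg15) (kg xg2 yg45 zg57) (kg xg1 yg59 zg25) (kg xg2 yg23 zg36) (kg xg4 yg23 zg11) (kg xg3 yg0 zg56) (kg xg1 yg20 zg8) (kg xg3 yg0 zg53) (kg xg5 yg40 zg57) (kg xg5 yg41 zg3) (kg xg1 yg28 zg52) (kg xg4 yg32 zg6) (kg xg1 yg19 zg43) (kg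 xg5 yg41 zg12) (kg xg4 yg32 zg4) (kg xg4 yg57 zg19) (kg xg2 yg47 zg55) (kg xg1 yg20 zg12) (kg xg4 yg57 zg17) (kg xg4 yg33 zg32) (kg xg4 yg35 zg58) (kg xg1 yg19 zg53) (kg xg5 yg41 zg20) (kg xg1 yg20 zg23) (kg xg4 yg32 zg32) (kg xg4 yg32 zg36) (kg xg4 yg32 zg28) (kg xg1 yg19 zg51) (kg xg5 yg41 zg40) (kg xg5 yg41 zg44) (kg xg4 yg32 zg29) (kg xg1 yg19 zg52) (kg xg5 yg41 zg52) (kg xg5 yg41 zg56) (kg xg4 yg32 zg52) (kg xg3 yg5 zg0) (kg xg4 yg32 zg49)) (@D3.rec (fun _ => Pt) (kg xg4 yg32 zg60) (kg xg5 yg42 zg4) (kg xg1 yg20 zg10) (kg xg4 yg39 zg12) (kg xg4 yg32 zg20) (kg xg1 yg19 zg56) (kg xg5 yg42 zg17) (kg xg4 yg32 zg18) (kg xg1 yg19 zg57) (kg xg3 yg4 zg51) (kg xg2 yg49 zg16) (kg xg4 yg23 zg21) (kg xg4 yg33 zg26) (kg xg2 yg47 zg44) (kg xg4 yg23 zg23) (kg xg1 yg20 zg25) (kg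 xg4 yg22 zg52) (kg xg4 yg32 zg13) (kg xg4 yg33 zg4) (kg xg4 yg22 zg53) (kg xg1 yg20 zg0) (kg xg5 yg42 zg42) (kg xg5 yg42 zg46) (kg xg4 yg32 zg12) (kg xg1 yg20 zg1) (kg xg5 yg42 zg53) (kg xg5 yg42 zg57) (kg xg1 yg20 zg2) (kg xg2 yg50 zg59) (kg xg4 yg32 zg46) (kg xg1 yg20 zg3) (kg xg5 yg34 zg50) (kg xg4 yg32 zg44) (kg xg3 yg5 zg46) (kg xg2 yg14 zg1) (kg xg1 yg20 zg18) (kg xg1 yg24 zg13) (kg xg2 yg46 zg6) (kg xg2 yg44 zg38) (kg xg5 yg42 zg50) (kg xg1 yg20 zg13) (kg xg1 yg20 zg9) (kg xg2 yg46 zg42) (kg xg3 yg0 zg45) (kg xg2 yg46 zg31) (kg xg1 yg20 zg14) (kg xg5 yg43 zg28) (kg xg5 yg43 zg34) (kg xg5 yg42 zg7) (kg xg5 yg41 zg17) (kg xg2 yg47 zg42) (kg xg2 yg46 zg8) (kg xg5 yg37 zg56) (kg xg5 yg43 zg43) (kg xg5 yg43 zg22) (kg xg2 yg47 zg58) (kg xg5 yg43 zg29) (kg xg5 yg43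 zg2) (kg xg1 yg20 zg15) (kg xg2 yg51 zg1) (kg xg2 yg33 zg40) (kg xg1 yg20 zg21)) (@D3.rec (fun _ => Pt) (kg xg1 yg20 zg16) (kg xg5 yg44 zg2) (kg xg5 yg44 zg7) (kg xg5 yg42 zg30) (kg xg5 yg44 zg13) (kg xg5 yg44 zg18) (kg xg5 yg43 zg38) (kg xg5 yg44 zg14) (kg xg5 yg43 zg7) (kg xg5 yg43 zg10) (kg xg1 yg20 zg19) (kg xg5 yg44 zg37) (kg xg5 yg44 zg42) (kg xg5 yg44 zg47) (kg xg5 yg44 zg3) (kg xg5 yg44 zg9) (kg xg1 yg20 zg20) (kg xg5 yg44 zg8) (kg xg5 yg44 zg61) (kg xg1 yg20 zg22) (kg xg5 yg45 zg4) (kg xg4 yg32 zg26) (kg xg5 yg45 zg9) (kg xg5 yg45 zg13) (kg xg4 yg33 zg31) (kg xg1 yg20 zg24) (kg xg2 yg42 zg50) (kg xg4 yg33 zg30) (kg xg4 yg32 zg11) (kg xg5 yg45 zg24) (kg xg5 yg45 zg28) (kg xg1 yg20 zg26) (kg xg2 yg19 zg2) (kg xg4 yg33 zg35) (kg xg4 yg30 zg30) (kg xg1 yg20 zg27)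 (kg xg4 yg30 zg32) (kg xg5 yg45 zg39) (kg xg4 yg33 zg43) (kg xg1 yg20 zg28) (kg xg2 yg33 zg41) (kg xg4 yg33 zg41) (kg xg5 yg45 zg49) (kg xg5 yg45 zg54) (kg xg5 yg45 zg58) (kg xg5 yg45 zg34) (kg xg5 yg42 zg29) (kg xg2 yg26 zg45) (kg xg4 yg36 zg32) (kg xg5 yg46 zg7) (kg xg4 yg33 zg54) (kg xg4 yg33 zg52) (kg xg1 yg20 zg32) (kg xg5 yg46 zg18) (kg xg4 yg39 zg27) (kg xg2 yg16 zg49) (kg xg1 yg20 zg34) (kg xg2 yg16 zg48) (kg xg2 yg10 zg14) (kg xg5 yg46 zg28) (kg xg5 yg46 zg32) (kg xg3 yg4 zg6)) (@D3.rec (fun _ => Pt) (kg xg1 yg20 zg36) (kg xg5 yg46 zg40) (kg xg3 yg3 zg56) (kg xg4 yg2 zg26) (kg xg1 yg27 zg59) (kg xg2 yg49 zg59) (kg xg4 yg24 zg14) (kg xg1 yg56 zg9) (kg xg2 yg26 zg19) (kg xg2 yg47 zg17) (kg xg2 yg26 zg20) (kg xg4 yg31 zg54) (kg xg1 yg28 zg34) (kg xg4 yg31 zg55)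 (kg xg2 yg47 zg8) (kg xg2 yg46 zg33) (kg xg2 yg13 zg13) (kg xg1 yg21 zg2) (kg xg3 yg10 zg24) (kg xg3 yg4 zg7) (kg xg1 yg21 zg40) (kg xg1 yg21 zg18) (kg xg2 yg26 zg61) (kg xg5 yg37 zg28) (kg xg2 yg55 zg20) (kg xg5 yg47 zg5) (kg xg5 yg39 zg57) (kg xg1 yg20 zg52) (kg xg5 yg47 zg10) (kg xg3 yg21 zg37) (kg xg2 yg17 zg39) (kg xg5 yg42 zg25) (kg xg4 yg42 zg51) (kg xg3 yg5 zg39) (kg xg3 yg9 zg51) (kg xg4 yg23 zg56) (kg xg1 yg21 zg38) (kg xg3 yg4 zg0) (kg xg1 yg56 zg28) (kg xg3 yg4 zg1) (kg xg1 yg20 zg58) (kg xg5 yg47 zg23) (kg xg2 yg52 zg5) (kg xg1 yg20 zg59) (kg xg5 yg47 zg31) (kg xg5 yg47 zg34) (kg xg2 yg52 zg4) (kg xg1 yg20 zg60) (kg xg2 yg52 zg3) (kg xg1 yg20 zg61) (kg xg4 yg34 zg19) (kg xg5 yg47 zg28) (kg xg1 yg21 zg3) (kg xg1 yg21 zg0) (kg xg2 yg18 zg58) (kg xg2 yg55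 zg17) (kg xg5 yg47 zg49) (kg xg4 yg34 zg24) (kg xg2 yg58 zg15) (kg xg2 yg49 zg6) (kg xg5 yg47 zg55) (kg xg5 yg47 zg57)) (@D3.rec (fun _ => Pt) (kg xg1 yg23 zg50) (kg xg5 yg47 zg61) (kg xg3 yg50 zg33) (kg xg5 yg47 zg37) (kg xg2 yg31 zg11) (kg xg3 yg25 zg42) (kg xg5 yg48 zg8) (kg xg1 yg21 zg7) (kg xg5 yg7 zg43) (kg xg3 yg59 zg44) (kg xg4 yg49 zg49) (kg xg4 yg38 zg0) (kg xg3 yg50 zg25) (kg xg3 yg59 zg53) (kg xg4 yg34 zg25) (kg xg1 yg21 zg10) (kg xg3 yg26 zg29) (kg xg5 yg48 zg22) (kg xg5 yg48 zg11) (kg xg1 yg21 zg11) (kg xg5 yg48 zg34) (kg xg5 yg48 zg9) (kg xg5 yg47 zg51) (kg xg5 yg47 zg47) (kg xg5 yg48 zg42) (kg xg1 yg21 zg13) (kg xg5 yg48 zg48) (kg xg4 yg59 zg29) (kg xg5 yg48 zg51) (kg xg3 yg59 zg43) (kg xg5 yg48 zg52) (kg xg2 yg22 zg41) (kg xg4 yg34 zg7) (kg xg1 yg21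 zg16) (kg xg2 yg42 zg32) (kg xg3 yg5 zg43) (kg xg3 yg5 zg42) (kg xg5 yg49 zg4) (kg xg1 yg21 zg19) (kg xg1 yg21 zg20) (kg xg3 yg4 zg45) (kg xg3 yg4 zg19) (kg xg5 yg49 zg13) (kg xg5 yg49 zg17) (kg xg5 yg30 zg39) (kg xg2 yg16 zg45) (kg xg5 yg49 zg2) (kg xg3 yg5 zg34) (kg xg5 yg29 zg0) (kg xg5 yg47 zg17) (kg xg2 yg17 zg53) (kg xg5 yg49 zg31) (kg xg4 yg34 zg5) (kg xg1 yg21 zg25) (kg xg4 yg34 zg12) (kg xg5 yg49 zg36) (kg xg5 yg49 zg38) (kg xg3 yg36 zg61) (kg xg3 yg57 zg51) (kg xg5 yg49 zg42) (kg xg1 yg21 zg30) (kg xg1 yg21 zg32)) (@D3.rec (fun _ => Pt) (kg xg3 yg0 zg30) (kg xg5 yg43 zg47) (kg xg5 yg12 zg28) (kg xg2 yg46 zg2) (kg xg5 yg49 zg55) (kg xg2 yg16 zg38) (kg xg2 yg24 zg16) (kg xg3 yg10 zg29) (kg xg2 yg27 zg20) (kg xg4 yg37 zg23) (kg xg4 yg6 zg3) (kg xg2 yg58 zg19)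 (kg xg2 yg27 zg6) (kg xg5 yg50 zg0) (kg xg3 yg2 zg48) (kg xg4 yg59 zg10) (kg xg3 yg5 zg33) (kg xg5 yg0 zg9) (kg xg4 yg46 zg34) (kg xg4 yg33 zg56) (kg xg1 yg21 zg44) (kg xg5 yg50 zg16) (kg xg4 yg34 zg39) (kg xg1 yg21 zg45) (kg xg4 yg34 zg37) (kg xg5 yg50 zg27) (kg xg5 yg50 zg32) (kg xg1 yg37 zg11) (kg xg4 yg59 zg14) (kg xg5 yg50 zg33) (kg xg5 yg0 zg16) (kg xg1 yg23 zg52) (kg xg1 yg21 zg52) (kg xg1 yg21 zg50) (kg xg2 yg52 zg18) (kg xg3 yg0 zg24) (kg xg1 yg21 zg51) (kg xg5 yg50 zg49) (kg xg1 yg48 zg46) (kg xg5 yg50 zg55) (kg xg3 yg59 zg27) (kg xg5 yg50 zg58) (kg xg2 yg15 zg38) (kg xg2 yg56 zg20) (kg xg2 yg55 zg50) (kg xg5 yg38 zg28) (kg xg2 yg15 zg31) (kg xg2 yg22 zg18) (kg xg3 yg50 zg30) (kg xg5 yg51 zg4) (kg xg3 yg59 zg29) (kg xg2 yg55 zg46) (kg xg5 yg51 zg11) (kg xg4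 yg25 zg48) (kg xg5 yg51 zg9) (kg xg4 yg41 zg4) (kg xg4 yg34 zg49) (kg xg1 yg21 zg61) (kg xg3 yg25 zg41) (kg xg5 yg51 zg6) (kg xg1 yg22 zg0) (kg xg5 yg51 zg5)) (@D3.rec (fun _ => Pt) (kg xg5 yg51 zg33) (kg xg5 yg51 zg36) (kg xg2 yg49 zg48) (kg xg1 yg22 zg2) (kg xg2 yg49 zg47) (kg xg2 yg49 zg43) (kg xg5 yg51 zg44) (kg xg5 yg51 zg45) (kg xg4 yg49 zg56) (kg xg1 yg27 zg24) (kg xg4 yg58 zg45) (kg xg5 yg51 zg53) (kg xg4 yg41 zg15) (kg xg3 yg59 zg25) (kg xg5 yg51 zg54) (kg xg4 yg41 zg7) (kg xg1 yg22 zg8) (kg xg1 yg56 zg42) (kg xg2 yg51 zg38) (kg xg5 yg52 zg3) (kg xg4 yg58 zg16) (kg xg5 yg45 zg33) (kg xg5 yg52 zg9) (kg xg4 yg58 zg32) (kg xg5 yg43 zg8) (kg xg4 yg7 zg24) (kg xg3 yg43 zg25) (kg xg1 yg22 zg18) (kg xg2 yg46 zg4) (kg xg5 yg52 zg19) (kg xg5 yg52 zg5) (kg xg1 yg22 zg19)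 (kg xg5 yg52 zg31) (kg xg5 yg52 zg4) (kg xg1 yg24 zg44) (kg xg1 yg22 zg20) (kg xg5 yg52 zg40) (kg xg5 yg52 zg42) (kg xg5 yg51 zg41) (kg xg4 yg58 zg46) (kg xg4 yg57 zg53) (kg xg4 yg35 zg3) (kg xg1 yg22 zg23) (kg xg2 yg39 zg26) (kg xg3 yg59 zg36) (kg xg3 yg59 zg38) (kg xg2 yg57 zg50) (kg xg5 yg52 zg59) (kg xg5 yg53 zg0) (kg xg5 yg26 zg36) (kg xg5 yg52 zg56) (kg xg2 yg41 zg34) (kg xg4 yg58 zg51) (kg xg5 yg35 zg4) (kg xg1 yg23 zg56) (kg xg1 yg23 zg58) (kg xg5 yg53 zg10) (kg xg1 yg22 zg36) (kg xg1 yg22 zg33) (kg xg4 yg25 zg58) (kg xg4 yg56 zg37) (kg xg5 yg53 zg19)) (@D3.rec (fun _ => Pt) (kg xg2 yg44 zg23) (kg xg5 yg53 zg23) (kg xg1 yg24 zg2) (kg xg5 yg45 zg2) (kg xg1 yg22 zg38) (kg xg5 yg53 zg29) (kg xg5 yg52 zg55) (kg xg4 yg59 zg31) (kg xg4 yg49 zg14) (kg xg4 yg32 zg27)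 (kg xg5 yg53 zg39) (kg xg3 yg3 zg26) (kg xg4 yg37 zg46) (kg xg5 yg53 zg30) (kg xg5 yg53 zg34) (kg xg1 yg24 zg29) (kg xg2 yg10 zg3) (kg xg3 yg4 zg10) (kg xg5 yg14 zg24) (kg xg4 yg36 zg15) (kg xg1 yg22 zg57) (kg xg1 yg22 zg46) (kg xg5 yg53 zg61) (kg xg1 yg22 zg55) (kg xg2 yg27 zg18) (kg xg4 yg42 zg36) (kg xg5 yg53 zg37) (kg xg4 yg1 zg18) (kg xg1 yg28 zg9) (kg xg4 yg35 zg60) (kg xg1 yg22 zg49) (kg xg5 yg54 zg13) (kg xg5 yg54 zg16) (kg xg5 yg53 zg55) (kg xg1 yg22 zg50) (kg xg5 yg54 zg24) (kg xg5 yg53 zg53) (kg xg4 yg58 zg57) (kg xg5 yg54 zg29) (kg xg4 yg36 zg42) (kg xg5 yg54 zg27) (kg xg4 yg40 zg55) (kg xg4 yg36 zg0) (kg xg1 yg22 zg53) (kg xg5 yg54 zg46) (kg xg5 yg6 zg57) (kg xg5 yg54 zg50) (kg xg5 yg54 zg53) (kg xg4 yg32 zg30) (kg xg2 yg0 zg55) (kg xg5 yg53 zg28) (kg xg5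 yg6 zg53) (kg xg5 yg54 zg2) (kg xg1 yg22 zg56) (kg xg5 yg55 zg6) (kg xg5 yg54 zg0) (kg xg4 yg37 zg16) (kg xg2 yg57 zg49) (kg xg4 yg40 zg59) (kg xg1 yg23 zg42) (kg xg2 yg18 zg8) (kg xg4 yg49 zg31)) (@D3.rec (fun _ => Pt) (kg xg4 yg35 zg45) (kg xg1 yg22 zg60) (kg xg4 yg37 zg10) (kg xg5 yg55 zg24) (kg xg5 yg55 zg27) (kg xg1 yg23 zg4) (kg xg5 yg55 zg31) (kg xg5 yg55 zg34) (kg xg4 yg39 zg0) (kg xg3 yg0 zg35) (kg xg4 yg26 zg13) (kg xg4 yg26 zg5) (kg xg5 yg55 zg35) (kg xg1 yg36 zg42) (kg xg4 yg39 zg20) (kg xg3 yg9 zg55) (kg xg4 yg36 zg52) (kg xg3 yg16 zg44) (kg xg5 yg55 zg54) (kg xg5 yg55 zg58) (kg xg4 yg36 zg54) (kg xg2 yg27 zg5) (kg xg4 yg23 zg58) (kg xg3 yg3 zg23) (kg xg1 yg31 zg7) (kg xg4 yg27 zg0) (kg xg4 yg24 zg35) (kg xg1 yg23 zg12) (kg xg5 yg56 zg12) (kg xg5 yg56 zg17)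 (kg xg4 yg38 zg23) (kg xg1 yg23 zg13) (kg xg5 yg56 zg25) (kg xg5 yg55 zg49) (kg xg5 yg56 zg29) (kg xg5 yg56 zg32) (kg xg2 yg55 zg22) (kg xg5 yg56 zg30) (kg xg4 yg40 zg3) (kg xg4 yg35 zg21) (kg xg1 yg23 zg16) (kg xg5 yg56 zg44) (kg xg5 yg56 zg46) (kg xg5 yg55 zg57) (kg xg1 yg23 zg17) (kg xg5 yg56 zg57) (kg xg5 yg55 zg55) (kg xg4 yg25 zg60) (kg xg4 yg38 zg26) (kg xg4 yg38 zg24) (kg xg1 yg23 zg19) (kg xg5 yg57 zg9) (kg xg5 yg55 zg59) (kg xg5 yg57 zg14) (kg xg4 yg40 zg8) (kg xg4 yg37 zg17) (kg xg2 yg42 zg39) (kg xg4 yg33 zg46) (kg xg4 yg36 zg34) (kg xg1 yg23 zg23) (kg xg2 yg59 zg39) (kg xg5 yg53 zg8)) (@D3.rec (fun _ => Pt) (kg xg5 yg57 zg28) (kg xg5 yg45 zg5) (kg xg4 yg34 zg21) (kg xg2 yg31 zg4) (kg xg5 yg57 zg33) (kg xg3 yg23 zg14) (kg xg2 yg33 zg7) (kg xg1 yg23 zg61)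 (kg xg1 yg23 zg32) (kg xg2 yg52 zg0) (kg xg5 yg57 zg41) (kg xg2 yg55 zg25) (kg xg5 yg57 zg46) (kg xg2 yg55 zg23) (kg xg2 yg22 zg15) (kg xg1 yg56 zg22) (kg xg2 yg56 zg8) (kg xg2 yg50 zg0) (kg xg2 yg53 zg45) (kg xg1 yg23 zg37) (kg xg4 yg58 zg35) (kg xg5 yg57 zg59) (kg xg2 yg55 zg8) (kg xg1 yg23 zg38) (kg xg3 yg0 zg17) (kg xg2 yg30 zg49) (kg xg4 yg40 zg35) (kg xg5 yg58 zg7) (kg xg1 yg23 zg54) (kg xg1 yg23 zg41) (kg xg5 yg58 zg16) (kg xg5 yg58 zg22) (kg xg1 yg40 zg3) (kg xg5 yg50 zg4) (kg xg5 yg55 zg16) (kg xg1 yg37 zg54) (kg xg3 yg23 zg23) (kg xg5 yg57 zg15) (kg xg3 yg43 zg0) (kg xg5 yg6 zg33) (kg xg3 yg2 zg46) (kg xg5 yg6 zg32) (kg xg5 yg57 zg26) (kg xg4 yg48 zg50) (kg xg3 yg4 zg52) (kg xg2 yg51 zg44) (kg xg2 yg51 zg54) (kg xg5 yg58 zg42) (kg xg1 yg23 zg51) (kg xg5 yg58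 zg47) (kg xg5 yg41 zg19) (kg xg2 yg49 zg24) (kg xg5 yg58 zg53) (kg xg5 yg58 zg57) (kg xg3 yg49 zg24) (kg xg5 yg58 zg23) (kg xg5 yg59 zg1) (kg xg1 yg23 zg55) (kg xg5 yg57 zg23) (kg xg4 yg36 zg31) (kg xg5 yg53 zg11) (kg xg1 yg23 zg57)) (@D3.rec (fun _ => Pt) (kg xg5 yg59 zg15) (kg xg4 yg30 zg58) (kg xg4 yg45 zg17) (kg xg4 yg46 zg43) (kg xg5 yg59 zg24) (kg xg1 yg24 zg11) (kg xg1 yg23 zg60) (kg xg1 yg24 zg10) (kg xg2 yg55 zg14) (kg xg2 yg27 zg43) (kg xg5 yg59 zg39) (kg xg1 yg24 zg3) (kg xg1 yg24 zg0) (kg xg5 yg59 zg46) (kg xg5 yg59 zg51) (kg xg3 yg26 zg6) (kg xg4 yg48 zg58) (kg xg1 yg24 zg1) (kg xg5 yg59 zg61) (kg xg4 yg48 zg56) (kg xg2 yg51 zg47) (kg xg2 yg50 zg12) (kg xg6 yg0 zg5) (kg xg6 yg0 zg8) (kg xg5 yg59 zg52) (kg xg6 yg0 zg13) (kg xg4 yg48 zg49) (kg xg1 yg24 zg4)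 (kg xg6 yg0 zg23) (kg xg4 yg38 zg54) (kg xg6 yg0 zg27) (kg xg4 yg58 zg28) (kg xg6 yg0 zg33) (kg xg3 yg50 zg59) (kg xg6 yg0 zg37) (kg xg4 yg33 zg59) (kg xg3 yg0 zg38) (kg xg6 yg0 zg17) (kg xg4 yg46 zg40) (kg xg1 yg24 zg7) (kg xg4 yg59 zg46) (kg xg6 yg0 zg49) (kg xg5 yg59 zg26) (kg xg1 yg24 zg8) (kg xg6 yg0 zg58) (kg xg1 yg40 zg17) (kg xg6 yg1 zg0) (kg xg6 yg1 zg5) (kg xg6 yg1 zg9) (kg xg6 yg0 zg22) (kg xg5 yg58 zg36) (kg xg5 yg59 zg45) (kg xg6 yg1 zg10) (kg xg3 yg44 zg58) (kg xg5 yg57 zg6) (kg xg6 yg1 zg26) (kg xg5 yg43 zg12) (kg xg1 yg24 zg14) (kg xg6 yg1 zg36) (kg xg4 yg38 zg46) (kg xg6 yg1 zg42) (kg xg4 yg38 zg43)) (@D3.rec (fun _ => Pt) (kg xg1 yg24 zg16) (kg xg6 yg1 zg49) (kg xg6 yg1 zg45) (kg xg1 yg24 zg17) (kg xg6 yg1 zg59) (kg xg6 yg1 zg43) (kg xg4 yg37 zg54)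 (kg xg6 yg2 zg2) (kg xg6 yg2 zg3) (kg xg3 yg24 zg13) (kg xg4 yg38 zg42) (kg xg4 yg30 zg18) (kg xg4 yg38 zg31) (kg xg6 yg2 zg14) (kg xg4 yg38 zg28) (kg xg1 yg24 zg23) (kg xg6 yg2 zg20) (kg xg6 yg2 zg23) (kg xg6 yg2 zg16) (kg xg1 yg24 zg24) (kg xg6 yg2 zg15) (kg xg6 yg2 zg33) (kg xg1 yg36 zg47) (kg xg1 yg36 zg34) (kg xg6 yg2 zg34) (kg xg4 yg39 zg7) (kg xg4 yg38 zg60) (kg xg1 yg24 zg27) (kg xg6 yg2 zg44) (kg xg4 yg38 zg58) (kg xg4 yg39 zg9) (kg xg4 yg39 zg8) (kg xg6 yg2 zg53) (kg xg6 yg2 zg57) (kg xg3 yg13 zg16) (kg xg1 yg24 zg35) (kg xg1 yg24 zg31) (kg xg6 yg3 zg4) (kg xg1 yg28 zg46) (kg xg1 yg24 zg32) (kg xg2 yg16 zg59) (kg xg1 yg24 zg33) (kg xg4 yg35 zg20) (kg xg6 yg2 zg18) (kg xg6 yg3 zg13) (kg xg6 yg3 zg17) (kg xg6 yg2 zg60) (kg xg6 yg3 zg5) (kg xg5 yg42 zg11) (kg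 xg2 yg53 zg60) (kg xg5 yg41 zg37) (kg xg6 yg3 zg25) (kg xg1 yg24 zg39) (kg xg1 yg24 zg38) (kg xg5 yg49 zg20) (kg xg6 yg3 zg33) (kg xg6 yg3 zg30) (kg xg6 yg3 zg38) (kg xg5 yg41 zg25) (kg xg5 yg0 zg28) (kg xg6 yg3 zg45) (kg xg4 yg35 zg12)) (@D3.rec (fun _ => Pt) (kg xg2 yg27 zg58) (kg xg6 yg3 zg52) (kg xg2 yg58 zg5) (kg xg1 yg24 zg42) (kg xg6 yg3 zg59) (kg xg2 yg58 zg3) (kg xg4 yg34 zg61) (kg xg5 yg52 zg41) (kg xg6 yg4 zg6) (kg xg2 yg28 zg0) (kg xg2 yg28 zg2) (kg xg1 yg24 zg47) (kg xg2 yg45 zg3) (kg xg2 yg26 zg50) (kg xg1 yg27 zg40) (kg xg2 yg14 zg10) (kg xg2 yg51 zg11) (kg xg2 yg50 zg36) (kg xg2 yg51 zg7) (kg xg1 yg31 zg25) (kg xg4 yg15 zg26) (kg xg6 yg4 zg16) (kg xg6 yg4 zg20) (kg xg2 yg30 zg24) (kg xg5 yg19 zg55) (kg xg1 yg25 zg7) (kg xg6 yg4 zg28) (kg xg1 yg25 zg5)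 (kg xg5 yg17 zg41) (kg xg5 yg12 zg40) (kg xg2 yg8 zg21) (kg xg6 yg4 zg38) (kg xg6 yg4 zg42) (kg xg6 yg4 zg45) (kg xg4 yg51 zg7) (kg xg5 yg22 zg43) (kg xg5 yg19 zg3) (kg xg6 yg4 zg39) (kg xg6 yg4 zg53) (kg xg4 yg15 zg6) (kg xg6 yg4 zg58) (kg xg6 yg4 zg61) (kg xg1 yg57 zg19) (kg xg6 yg4 zg59) (kg xg6 yg5 zg6) (kg xg6 yg4 zg32) (kg xg1 yg25 zg6) (kg xg6 yg5 zg15) (kg xg6 yg5 zg20) (kg xg6 yg4 zg29) (kg xg6 yg5 zg26) (kg xg6 yg5 zg28) (kg xg6 yg5 zg33) (kg xg1 yg25 zg10) (kg xg6 yg5 zg37) (kg xg2 yg1 zg2) (kg xg2 yg39 zg29) (kg xg1 yg25 zg11) (kg xg2 yg39 zg28) (kg xg5 yg2 zg6) (kg xg4 yg14 zg1) (kg xg2 yg4 zg50)) (@D3.rec (fun _ => Pt) (kg xg6 yg5 zg46) (kg xg6 yg5 zg51) (kg xg6 yg5 zg53) (kg xg2 yg0 zg52) (kg xg5 yg36 zg43) (kg xg2 yg39 zg37) (kg xg2 yg11 zg32) (kg xg6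 yg5 zg59) (kg xg6 yg6 zg1) (kg xg6 yg6 zg4) (kg xg2 yg22 zg46) (kg xg6 yg6 zg10) (kg xg2 yg39 zg45) (kg xg1 yg25 zg19) (kg xg2 yg39 zg44) (kg xg6 yg6 zg16) (kg xg6 yg6 zg21) (kg xg6 yg6 zg24) (kg xg3 yg21 zg25) (kg xg2 yg39 zg52) (kg xg1 yg25 zg22) (kg xg2 yg39 zg51) (kg xg6 yg6 zg30) (kg xg5 yg6 zg40) (kg xg5 yg53 zg24) (kg xg6 yg6 zg38) (kg xg5 yg6 zg28) (kg xg6 yg6 zg40) (kg xg1 yg25 zg25) (kg xg6 yg6 zg41) (kg xg6 yg6 zg46) (kg xg1 yg36 zg40) (kg xg1 yg25 zg57) (kg xg1 yg25 zg26) (kg xg6 yg6 zg53) (kg xg2 yg43 zg21) (kg xg6 yg6 zg57) (kg xg6 yg7 zg0) (kg xg6 yg7 zg3) (kg xg2 yg15 zg26) (kg xg4 yg6 zg48) (kg xg1 yg25 zg32) (kg xg4 yg6 zg47) (kg xg4 yg58 zg34) (kg xg3 yg43 zg26) (kg xg2 yg7 zg26) (kg xg5 yg4 zg56) (kg xg6 yg7 zg15) (kg xg6 yg7 zg17) (kg xg6 yg5 zg58)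 (kg xg2 yg44 zg12) (kg xg2 yg12 zg22) (kg xg6 yg7 zg23) (kg xg2 yg33 zg1) (kg xg2 yg31 zg10) (kg xg6 yg5 zg57) (kg xg2 yg14 zg42) (kg xg3 yg5 zg9) (kg xg3 yg5 zg11) (kg xg6 yg7 zg34) (kg xg6 yg7 zg36) (kg xg1 yg31 zg23))
def f_g_3 : D2 → D3 → Pt := @D2.rec (fun _ => D3 → Pt) (@D3.rec (fun _ => Pt) (kg xg3 yg9 zg53) (kg xg2 yg30 zg41) (kg xg5 yg57 zg4) (kg xg6 yg7 zg46) (kg xg2 yg14 zg48) (kg xg1 yg25 zg51) (kg xg1 yg25 zg54) (kg xg5 yg58 zg2) (kg xg2 yg44 zg37) (kg xg1 yg25 zg52) (kg xg4 yg34 zg22) (kg xg5 yg6 zg39) (kg xg2 yg45 zg16) (kg xg2 yg55 zg24) (kg xg1 yg25 zg53) (kg xg4 yg58 zg49) (kg xg6 yg8 zg7) (kg xg5 yg57 zg48) (kg xg5 yg6 zg29) (kg xg6 yg7 zg31) (kg xg6 yg8 zg11) (kg xg2 yg33 zg36) (kg xg6 yg8 zg17) (kg xg6 yg8 zg19) (kg xg6 yg8 zg23) (kg xg4 yg39 zg54)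 (kg xg1 yg25 zg58) (kg xg2 yg57 zg40) (kg xg6 yg8 zg30) (kg xg5 yg37 zg18) (kg xg2 yg14 zg0) (kg xg2 yg51 zg0) (kg xg1 yg28 zg31) (kg xg2 yg50 zg61) (kg xg6 yg8 zg34) (kg xg2 yg55 zg7) (kg xg4 yg40 zg36) (kg xg1 yg26 zg8) (kg xg2 yg56 zg32) (kg xg6 yg8 zg39) (kg xg5 yg58 zg10) (kg xg1 yg26 zg9) (kg xg5 yg58 zg8) (kg xg4 yg56 zg57) (kg xg1 yg26 zg10) (kg xg2 yg47 zg54) (kg xg5 yg54 zg31) (kg xg6 yg2 zg40) (kg xg4 yg35 zg43) (kg xg3 yg10 zg14) (kg xg6 yg3 zg7) (kg xg5 yg57 zg19) (kg xg3 yg5 zg1) (kg xg2 yg46 zg30) (kg xg2 yg14 zg5) (kg xg2 yg12 zg29) (kg xg2 yg46 zg32) (kg xg5 yg40 zg9) (kg xg2 yg45 zg60) (kg xg6 yg9 zg11) (kg xg6 yg9 zg15) (kg xg2 yg9 zg60)) (@D3.rec (fun _ => Pt) (kg xg1 yg57 zg41) (kg xg2 yg26 zg23) (kg xg3 yg43 zg8) (kg xg1 yg26 zg26) (kg xg3 yg22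 zg51) (kg xg1 yg26 zg28) (kg xg3 yg9 zg40) (kg xg3 yg13 zg41) (kg xg1 yg38 zg34) (kg xg1 yg55 zg5) (kg xg6 yg9 zg25) (kg xg6 yg9 zg28) (kg xg1 yg49 zg47) (kg xg3 yg6 zg34) (kg xg1 yg37 zg28) (kg xg3 yg22 zg17) (kg xg3 yg11 zg60) (kg xg3 yg14 zg47) (kg xg3 yg14 zg46) (kg xg1 yg26 zg37) (kg xg6 yg9 zg41) (kg xg6 yg9 zg45) (kg xg1 yg27 zg2) (kg xg6 yg9 zg50) (kg xg1 yg35 zg56) (kg xg2 yg18 zg14) (kg xg1 yg27 zg12) (kg xg3 yg8 zg2) (kg xg3 yg8 zg58) (kg xg1 yg26 zg45) (kg xg6 yg9 zg32) (kg xg3 yg22 zg47) (kg xg1 yg43 zg58) (kg xg3 yg35 zg56) (kg xg1 yg43 zg59) (kg xg1 yg26 zg55) (kg xg6 yg10 zg0) (kg xg1 yg34 zg15) (kg xg1 yg31 zg39) (kg xg2 yg19 zg5) (kg xg4 yg10 zg32) (kg xg6 yg10 zg4) (kg xg6 yg10 zg8) (kg xg3 yg12 zg8) (kg xg5 yg11 zg47) (kg xg1 yg27 zg9) (kg xg1 yg26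 zg57) (kg xg1 yg27 zg8) (kg xg1 yg29 zg21) (kg xg4 yg35 zg27) (kg xg3 yg45 zg10) (kg xg1 yg33 zg30) (kg xg1 yg29 zg51) (kg xg6 yg10 zg28) (kg xg6 yg10 zg29) (kg xg3 yg45 zg5) (kg xg3 yg45 zg35) (kg xg1 yg27 zg0) (kg xg1 yg33 zg46) (kg xg6 yg10 zg39) (kg xg1 yg34 zg53) (kg xg4 yg44 zg8)) (@D3.rec (fun _ => Pt) (kg xg2 yg31 zg22) (kg xg1 yg35 zg33) (kg xg4 yg44 zg24) (kg xg4 yg37 zg6) (kg xg1 yg27 zg3) (kg xg4 yg39 zg59) (kg xg3 yg17 zg43) (kg xg6 yg10 zg59) (kg xg6 yg11 zg1) (kg xg3 yg16 zg11) (kg xg6 yg10 zg15) (kg xg1 yg27 zg5) (kg xg5 yg11 zg21) (kg xg6 yg10 zg14) (kg xg6 yg11 zg13) (kg xg6 yg11 zg16) (kg xg6 yg11 zg19) (kg xg6 yg10 zg38) (kg xg3 yg10 zg33) (kg xg3 yg45 zg19) (kg xg4 yg44 zg27) (kg xg6 yg11 zg33) (kg xg6 yg9 zg51) (kg xg6 yg9 zg53) (kg xg1 yg27 zg10)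 (kg xg3 yg16 zg36) (kg xg1 yg33 zg53) (kg xg3 yg1 zg35) (kg xg6 yg11 zg46) (kg xg6 yg11 zg50) (kg xg6 yg11 zg52) (kg xg1 yg27 zg14) (kg xg6 yg11 zg59) (kg xg6 yg11 zg51) (kg xg5 yg56 zg33) (kg xg6 yg2 zg7) (kg xg3 yg4 zg60) (kg xg6 yg12 zg3) (kg xg5 yg55 zg15) (kg xg4 yg41 zg0) (kg xg1 yg27 zg17) (kg xg6 yg12 zg14) (kg xg3 yg20 zg51) (kg xg3 yg43 zg19) (kg xg3 yg43 zg20) (kg xg6 yg12 zg20) (kg xg6 yg12 zg23) (kg xg6 yg12 zg25) (kg xg5 yg52 zg10) (kg xg5 yg48 zg59) (kg xg3 yg13 zg14) (kg xg1 yg27 zg25) (kg xg5 yg52 zg0) (kg xg1 yg33 zg45) (kg xg1 yg27 zg22) (kg xg4 yg41 zg9) (kg xg1 yg27 zg23) (kg xg1 yg34 zg1) (kg xg4 yg44 zg15) (kg xg3 yg5 zg61) (kg xg2 yg49 zg56) (kg xg6 yg12 zg30)) (@D3.rec (fun _ => Pt) (kg xg5 yg51 zg57) (kg xg3 yg13 zg28) (kg xg4 yg41 zg17) (kg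 xg1 yg36 zg9) (kg xg1 yg34 zg11) (kg xg3 yg6 zg10) (kg xg3 yg43 zg15) (kg xg4 yg48 zg7) (kg xg1 yg33 zg60) (kg xg4 yg48 zg37) (kg xg3 yg20 zg5) (kg xg3 yg6 zg12) (kg xg1 yg27 zg30) (kg xg6 yg12 zg59) (kg xg6 yg13 zg1) (kg xg1 yg55 zg44) (kg xg1 yg55 zg43) (kg xg4 yg36 zg13) (kg xg2 yg9 zg16) (kg xg1 yg27 zg33) (kg xg6 yg13 zg8) (kg xg2 yg10 zg37) (kg xg3 yg3 zg40) (kg xg2 yg53 zg11) (kg xg2 yg52 zg45) (kg xg2 yg51 zg40) (kg xg2 yg54 zg23) (kg xg6 yg13 zg17) (kg xg6 yg13 zg19) (kg xg1 yg27 zg39) (kg xg6 yg13 zg25) (kg xg2 yg27 zg21) (kg xg4 yg39 zg21) (kg xg2 yg27 zg57) (kg xg3 yg3 zg48) (kg xg1 yg27 zg46) (kg xg1 yg56 zg50) (kg xg1 yg31 zg11) (kg xg6 yg13 zg34) (kg xg6 yg13 zg38) (kg xg2 yg27 zg61) (kg xg3 yg4 zg38) (kg xg4 yg0 zg36) (kg xg1 yg27 zg51) (kg xg4 yg0 zg35)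 (kg xg6 yg13 zg49) (kg xg6 yg13 zg52) (kg xg1 yg28 zg13) (kg xg3 yg3 zg41) (kg xg4 yg0 zg6) (kg xg6 yg13 zg57) (kg xg6 yg13 zg61) (kg xg3 yg4 zg41) (kg xg2 yg49 zg2) (kg xg2 yg26 zg22) (kg xg1 yg28 zg20) (kg xg1 yg28 zg5) (kg xg4 yg23 zg47) (kg xg1 yg28 zg1) (kg xg4 yg23 zg46) (kg xg5 yg49 zg6) (kg xg6 yg14 zg12)) (@D3.rec (fun _ => Pt) (kg xg1 yg28 zg3) (kg xg2 yg49 zg40) (kg xg3 yg57 zg52) (kg xg2 yg26 zg4) (kg xg6 yg14 zg22) (kg xg6 yg14 zg26) (kg xg2 yg49 zg0) (kg xg2 yg49 zg36) (kg xg2 yg53 zg17) (kg xg6 yg14 zg30) (kg xg2 yg15 zg16) (kg xg2 yg59 zg59) (kg xg4 yg36 zg7) (kg xg2 yg50 zg41) (kg xg5 yg53 zg31) (kg xg6 yg14 zg42) (kg xg3 yg33 zg41) (kg xg1 yg28 zg10) (kg xg3 yg39 zg21) (kg xg6 yg14 zg39) (kg xg6 yg13 zg54) (kg xg1 yg28 zg11) (kg xg6 yg14 zg55) (kg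 xg6 yg13 zg53) (kg xg1 yg45 zg21) (kg xg4 yg2 zg11) (kg xg4 yg39 zg35) (kg xg3 yg33 zg36) (kg xg5 yg0 zg30) (kg xg1 yg46 zg13) (kg xg1 yg28 zg14) (kg xg3 yg43 zg34) (kg xg3 yg39 zg27) (kg xg3 yg36 zg37) (kg xg4 yg2 zg15) (kg xg6 yg14 zg9) (kg xg1 yg43 zg17) (kg xg5 yg12 zg55) (kg xg3 yg3 zg34) (kg xg3 yg3 zg52) (kg xg2 yg8 zg56) (kg xg2 yg9 zg19) (kg xg3 yg5 zg2) (kg xg2 yg49 zg50) (kg xg3 yg9 zg54) (kg xg1 yg28 zg51) (kg xg6 yg15 zg22) (kg xg6 yg15 zg25) (kg xg1 yg28 zg27) (kg xg4 yg57 zg18) (kg xg6 yg15 zg23) (kg xg5 yg46 zg56) (kg xg2 yg55 zg2) (kg xg6 yg15 zg36) (kg xg1 yg28 zg36) (kg xg1 yg28 zg32) (kg xg1 yg31 zg8) (kg xg6 yg15 zg39) (kg xg5 yg37 zg36) (kg xg6 yg15 zg45) (kg xg6 yg15 zg48) (kg xg4 yg42 zg56)) (@D3.rec (fun _ => Pt) (kg xg6 yg15 zg52) (kg xg4 yg42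 zg54) (kg xg3 yg4 zg44) (kg xg5 yg50 zg42) (kg xg2 yg30 zg14) (kg xg6 yg15 zg40) (kg xg6 yg15 zg61) (kg xg6 yg15 zg46) (kg xg3 yg0 zg46) (kg xg1 yg28 zg38) (kg xg3 yg0 zg19) (kg xg2 yg0 zg10) (kg xg1 yg28 zg43) (kg xg1 yg28 zg39) (kg xg6 yg16 zg18) (kg xg1 yg28 zg41) (kg xg5 yg49 zg46) (kg xg5 yg47 zg16) (kg xg6 yg16 zg24) (kg xg6 yg16 zg9) (kg xg5 yg49 zg8) (kg xg5 yg49 zg44) (kg xg5 yg0 zg31) (kg xg6 yg16 zg20) (kg xg1 yg28 zg42) (kg xg6 yg16 zg38) (kg xg5 yg54 zg56) (kg xg4 yg41 zg24) (kg xg5 yg33 zg15) (kg xg3 yg0 zg34) (kg xg6 yg3 zg1) (kg xg4 yg41 zg37) (kg xg6 yg16 zg51) (kg xg2 yg48 zg32) (kg xg2 yg50 zg50) (kg xg6 yg16 zg58) (kg xg2 yg9 zg29) (kg xg1 yg55 zg28) (kg xg2 yg50 zg40) (kg xg2 yg50 zg39) (kg xg6 yg17 zg2) (kg xg6 yg17 zg5) (kg xg1 yg28 zg55) (kg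 xg2 yg49 zg21) (kg xg6 yg17 zg10) (kg xg6 yg17 zg12) (kg xg2 yg48 zg31) (kg xg3 yg59 zg11) (kg xg3 yg7 zg31) (kg xg1 yg30 zg12) (kg xg2 yg19 zg13) (kg xg3 yg7 zg24) (kg xg1 yg29 zg6) (kg xg2 yg17 zg21) (kg xg3 yg2 zg59) (kg xg2 yg21 zg42) (kg xg4 yg45 zg14) (kg xg6 yg17 zg26) (kg xg6 yg17 zg23) (kg xg1 yg29 zg4) (kg xg4 yg47 zg46) (kg xg6 yg17 zg22)) (@D3.rec (fun _ => Pt) (kg xg2 yg20 zg24) (kg xg3 yg9 zg33) (kg xg2 yg20 zg19) (kg xg6 yg17 zg42) (kg xg3 yg14 zg56) (kg xg3 yg19 zg32) (kg xg1 yg48 zg40) (kg xg3 yg20 zg8) (kg xg3 yg14 zg29) (kg xg3 yg3 zg5) (kg xg1 yg29 zg9) (kg xg4 yg41 zg54) (kg xg3 yg3 zg12) (kg xg6 yg17 zg61) (kg xg1 yg34 zg16) (kg xg3 yg7 zg3) (kg xg4 yg44 zg2) (kg xg1 yg49 zg40) (kg xg4 yg42 zg17) (kg xg1 yg39 zg3) (kg xg6 yg18 zg3) (kg xg1 yg30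 zg25) (kg xg1 yg29 zg25) (kg xg1 yg34 zg18) (kg xg6 yg18 zg16) (kg xg3 yg11 zg51) (kg xg3 yg14 zg57) (kg xg3 yg12 zg35) (kg xg6 yg18 zg25) (kg xg6 yg11 zg31) (kg xg6 yg18 zg19) (kg xg1 yg29 zg22) (kg xg3 yg28 zg41) (kg xg6 yg18 zg17) (kg xg3 yg12 zg1) (kg xg3 yg8 zg59) (kg xg2 yg18 zg31) (kg xg3 yg11 zg49) (kg xg6 yg18 zg46) (kg xg3 yg13 zg24) (kg xg3 yg8 zg47) (kg xg1 yg31 zg36) (kg xg1 yg29 zg46) (kg xg3 yg11 zg31) (kg xg3 yg13 zg6) (kg xg1 yg29 zg28) (kg xg6 yg12 zg54) (kg xg3 yg11 zg47) (kg xg6 yg18 zg56) (kg xg3 yg11 zg39) (kg xg3 yg1 zg16) (kg xg1 yg30 zg44) (kg xg1 yg39 zg40) (kg xg5 yg58 zg30) (kg xg3 yg23 zg29) (kg xg4 yg7 zg20) (kg xg6 yg19 zg1) (kg xg1 yg29 zg36) (kg xg5 yg6 zg34) (kg xg3 yg12 zg13) (kg xg3 yg11 zg24) (kg xg2 yg19 zg45)) (@D3.rec (fun _ =>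 Pt) (kg xg6 yg19 zg9) (kg xg2 yg19 zg54) (kg xg6 yg19 zg14) (kg xg3 yg2 zg26) (kg xg2 yg19 zg24) (kg xg6 yg19 zg17) (kg xg1 yg29 zg45) (kg xg6 yg19 zg19) (kg xg3 yg12 zg23) (kg xg1 yg30 zg9) (kg xg3 yg12 zg21) (kg xg6 yg19 zg24) (kg xg6 yg11 zg5) (kg xg3 yg17 zg36) (kg xg6 yg19 zg30) (kg xg1 yg29 zg52) (kg xg3 yg12 zg12) (kg xg6 yg19 zg34) (kg xg3 yg12 zg28) (kg xg6 yg19 zg39) (kg xg1 yg30 zg10) (kg xg1 yg29 zg54) (kg xg4 yg17 zg57) (kg xg1 yg30 zg8) (kg xg3 yg9 zg32) (kg xg3 yg28 zg27) (kg xg3 yg13 zg30) (kg xg6 yg19 zg48) (kg xg1 yg29 zg60) (kg xg6 yg19 zg52) (kg xg6 yg19 zg54) (kg xg3 yg5 zg50) (kg xg2 yg20 zg40) (kg xg4 yg47 zg0) (kg xg6 yg19 zg61) (kg xg2 yg34 zg11) (kg xg6 yg20 zg2) (kg xg1 yg30 zg2) (kg xg3 yg22 zg45) (kg xg6 yg20 zg7) (kg xg4 yg43 zg45) (kg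 xg4 yg43 zg17) (kg xg6 yg20 zg15) (kg xg1 yg32 zg42) (kg xg3 yg24 zg12) (kg xg4 yg41 zg48) (kg xg1 yg30 zg5) (kg xg6 yg20 zg24) (kg xg6 yg19 zg42) (kg xg1 yg30 zg6) (kg xg6 yg20 zg33) (kg xg6 yg19 zg40) (kg xg6 yg20 zg36) (kg xg6 yg20 zg41) (kg xg5 yg39 zg52) (kg xg6 yg20 zg6) (kg xg4 yg40 zg10) (kg xg6 yg19 zg51) (kg xg5 yg39 zg49) (kg xg2 yg3 zg4) (kg xg3 yg28 zg36) (kg xg3 yg28 zg38)) (@D3.rec (fun _ => Pt) (kg xg6 yg18 zg60) (kg xg1 yg30 zg15) (kg xg3 yg1 zg31) (kg xg1 yg30 zg14) (kg xg3 yg5 zg51) (kg xg6 yg17 zg37) (kg xg1 yg37 zg42) (kg xg3 yg35 zg24) (kg xg6 yg20 zg58) (kg xg4 yg40 zg12) (kg xg6 yg20 zg61) (kg xg6 yg21 zg1) (kg xg3 yg16 zg3) (kg xg3 yg28 zg57) (kg xg3 yg16 zg30) (kg xg3 yg15 zg56) (kg xg3 yg17 zg17) (kg xg3 yg28 zg55) (kg xg6 yg21 zg14) (kg xg3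 yg28 zg43) (kg xg3 yg9 zg21) (kg xg1 yg30 zg23) (kg xg3 yg22 zg5) (kg xg3 yg9 zg20) (kg xg4 yg42 zg6) (kg xg4 yg42 zg5) (kg xg6 yg21 zg26) (kg xg6 yg21 zg30) (kg xg6 yg21 zg34) (kg xg6 yg21 zg36) (kg xg6 yg21 zg40) (kg xg2 yg22 zg48) (kg xg1 yg30 zg31) (kg xg1 yg30 zg27) (kg xg6 yg21 zg44) (kg xg1 yg31 zg51) (kg xg1 yg30 zg28) (kg xg1 yg30 zg29) (kg xg3 yg23 zg2) (kg xg3 yg23 zg30) (kg xg6 yg21 zg57) (kg xg3 yg39 zg57) (kg xg3 yg23 zg61) (kg xg6 yg21 zg41) (kg xg6 yg22 zg5) (kg xg6 yg21 zg45) (kg xg2 yg7 zg17) (kg xg3 yg6 zg43) (kg xg6 yg21 zg23) (kg xg3 yg19 zg40) (kg xg3 yg12 zg54) (kg xg3 yg23 zg17) (kg xg2 yg21 zg60) (kg xg4 yg42 zg15) (kg xg1 yg30 zg35) (kg xg6 yg22 zg23) (kg xg6 yg22 zg27) (kg xg4 yg42 zg12) (kg xg3 yg1 zg29) (kg xg3 yg6 zg36) (kg xg1 yg30 zg39)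 (kg xg6 yg22 zg35)) (@D3.rec (fun _ => Pt) (kg xg1 yg53 zg25) (kg xg6 yg22 zg39) (kg xg5 yg11 zg26) (kg xg1 yg30 zg41) (kg xg1 yg30 zg47) (kg xg3 yg23 zg59) (kg xg3 yg35 zg7) (kg xg6 yg22 zg51) (kg xg6 yg22 zg56) (kg xg6 yg22 zg59) (kg xg6 yg23 zg1) (kg xg4 yg41 zg57) (kg xg1 yg30 zg46) (kg xg4 yg42 zg23) (kg xg3 yg11 zg41) (kg xg6 yg23 zg10) (kg xg6 yg23 zg15) (kg xg6 yg23 zg18) (kg xg4 yg50 zg11) (kg xg3 yg8 zg23) (kg xg1 yg30 zg49) (kg xg3 yg8 zg21) (kg xg6 yg23 zg25) (kg xg1 yg30 zg50) (kg xg6 yg23 zg26) (kg xg6 yg23 zg37) (kg xg6 yg23 zg31) (kg xg6 yg23 zg41) (kg xg6 yg23 zg44) (kg xg4 yg18 zg17) (kg xg1 yg30 zg53) (kg xg1 yg37 zg43) (kg xg3 yg8 zg4) (kg xg2 yg17 zg14) (kg xg6 yg23 zg54) (kg xg3 yg1 zg15) (kg xg6 yg23 zg59) (kg xg1 yg31 zg59) (kg xg3 yg35 zg25)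 (kg xg1 yg30 zg59) (kg xg4 yg41 zg42) (kg xg1 yg35 zg55) (kg xg6 yg24 zg5) (kg xg6 yg24 zg9) (kg xg6 yg24 zg12) (kg xg6 yg23 zg5) (kg xg4 yg42 zg34) (kg xg1 yg31 zg2) (kg xg4 yg42 zg33) (kg xg6 yg24 zg21) (kg xg3 yg35 zg47) (kg xg2 yg49 zg49) (kg xg2 yg54 zg15) (kg xg5 yg13 zg27) (kg xg3 yg4 zg42) (kg xg2 yg9 zg47) (kg xg5 yg37 zg12) (kg xg4 yg23 zg60) (kg xg5 yg55 zg32) (kg xg6 yg24 zg41) (kg xg2 yg17 zg0) (kg xg4 yg36 zg53)) (@D3.rec (fun _ => Pt) (kg xg4 yg24 zg27) (kg xg1 yg31 zg9) (kg xg6 yg24 zg53) (kg xg4 yg24 zg25) (kg xg4 yg0 zg8) (kg xg4 yg24 zg31) (kg xg6 yg24 zg60) (kg xg4 yg24 zg29) (kg xg5 yg50 zg50) (kg xg3 yg33 zg37) (kg xg1 yg31 zg18) (kg xg1 yg31 zg15) (kg xg6 yg25 zg3) (kg xg6 yg25 zg7) (kg xg6 yg25 zg10) (kg xg6 yg25 zg4) (kg xg5 yg37 zg6) (kg xg6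 yg25 zg8) (kg xg3 yg2 zg34) (kg xg2 yg13 zg30) (kg xg6 yg25 zg22) (kg xg4 yg41 zg36) (kg xg6 yg25 zg24) (kg xg6 yg25 zg27) (kg xg2 yg49 zg20) (kg xg2 yg24 zg46) (kg xg6 yg25 zg30) (kg xg6 yg25 zg32) (kg xg2 yg9 zg5) (kg xg1 yg31 zg30) (kg xg6 yg19 zg2) (kg xg1 yg33 zg5) (kg xg3 yg1 zg6) (kg xg6 yg25 zg39) (kg xg3 yg12 zg44) (kg xg3 yg28 zg46) (kg xg6 yg25 zg41) (kg xg2 yg6 zg22) (kg xg1 yg31 zg40) (kg xg6 yg25 zg45) (kg xg6 yg20 zg57) (kg xg1 yg31 zg47) (kg xg1 yg31 zg44) (kg xg3 yg23 zg37) (kg xg1 yg37 zg12) (kg xg6 yg25 zg54) (kg xg6 yg25 zg57) (kg xg1 yg36 zg44) (kg xg5 yg59 zg34) (kg xg4 yg41 zg41) (kg xg1 yg31 zg50) (kg xg6 yg26 zg2) (kg xg3 yg24 zg15) (kg xg6 yg26 zg7) (kg xg3 yg40 zg1) (kg xg1 yg31 zg56) (kg xg1 yg40 zg32) (kg xg2 yg2 zg61) (kg xg1 yg31 zg57)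 (kg xg6 yg26 zg13) (kg xg1 yg41 zg6) (kg xg4 yg18 zg12)) (@D3.rec (fun _ => Pt) (kg xg5 yg12 zg20) (kg xg3 yg39 zg60) (kg xg6 yg22 zg43) (kg xg6 yg22 zg44) (kg xg6 yg26 zg22) (kg xg3 yg35 zg22) (kg xg4 yg13 zg17) (kg xg3 yg23 zg25) (kg xg3 yg21 zg59) (kg xg6 yg26 zg30) (kg xg6 yg26 zg33) (kg xg6 yg26 zg36) (kg xg1 yg32 zg4) (kg xg1 yg32 zg1) (kg xg6 yg26 zg39) (kg xg1 yg32 zg2) (kg xg3 yg22 zg39) (kg xg3 yg18 zg44) (kg xg6 yg26 zg50) (kg xg6 yg26 zg53) (kg xg2 yg27 zg35) (kg xg4 yg56 zg22) (kg xg1 yg37 zg1) (kg xg6 yg26 zg40) (kg xg3 yg6 zg41) (kg xg6 yg26 zg27) (kg xg3 yg20 zg13) (kg xg3 yg13 zg5) (kg xg2 yg6 zg48) (kg xg6 yg18 zg6) (kg xg2 yg22 zg13) (kg xg3 yg6 zg40) (kg xg4 yg43 zg39) (kg xg1 yg32 zg8) (kg xg6 yg27 zg20) (kg xg6 yg27 zg25) (kg xg4 yg43 zg36) (kg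 xg4 yg12 zg47) (kg xg1 yg45 zg61) (kg xg3 yg9 zg4) (kg xg3 yg9 zg14) (kg xg1 yg32 zg12) (kg xg6 yg27 zg36) (kg xg6 yg27 zg41) (kg xg6 yg27 zg44) (kg xg6 yg17 zg53) (kg xg3 yg6 zg47) (kg xg1 yg32 zg14) (kg xg3 yg6 zg45) (kg xg3 yg6 zg22) (kg xg3 yg6 zg25) (kg xg1 yg32 zg17) (kg xg6 yg27 zg55) (kg xg6 yg27 zg59) (kg xg6 yg23 zg36) (kg xg1 yg32 zg19) (kg xg6 yg23 zg38) (kg xg1 yg32 zg20) (kg xg4 yg44 zg26) (kg xg1 yg32 zg57) (kg xg1 yg32 zg25) (kg xg6 yg27 zg33)) (@D3.rec (fun _ => Pt) (kg xg1 yg34 zg47) (kg xg1 yg35 zg50) (kg xg6 yg12 zg55) (kg xg6 yg28 zg11) (kg xg6 yg28 zg13) (kg xg1 yg32 zg33) (kg xg6 yg28 zg17) (kg xg1 yg32 zg35) (kg xg3 yg2 zg9) (kg xg6 yg28 zg22) (kg xg6 yg28 zg25) (kg xg3 yg7 zg16) (kg xg1 yg32 zg36) (kg xg3 yg7 zg15) (kg xg2 yg20 zg20) (kg xg2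 yg17 zg18) (kg xg6 yg28 zg34) (kg xg6 yg28 zg38) (kg xg6 yg28 zg23) (kg xg6 yg28 zg43) (kg xg3 yg7 zg10) (kg xg1 yg32 zg39) (kg xg3 yg7 zg22) (kg xg3 yg6 zg42) (kg xg6 yg28 zg50) (kg xg3 yg7 zg18) (kg xg6 yg28 zg28) (kg xg6 yg28 zg59) (kg xg2 yg19 zg18) (kg xg6 yg28 zg47) (kg xg1 yg32 zg43) (kg xg2 yg20 zg27) (kg xg5 yg4 zg45) (kg xg6 yg29 zg13) (kg xg6 yg28 zg49) (kg xg3 yg1 zg48) (kg xg6 yg29 zg18) (kg xg6 yg29 zg21) (kg xg6 yg29 zg24) (kg xg6 yg29 zg20) (kg xg1 yg32 zg47) (kg xg6 yg29 zg19) (kg xg3 yg10 zg34) (kg xg1 yg33 zg2) (kg xg1 yg33 zg11) (kg xg3 yg8 zg50) (kg xg2 yg20 zg21) (kg xg6 yg29 zg36) (kg xg3 yg55 zg48) (kg xg6 yg29 zg40) (kg xg6 yg29 zg38) (kg xg1 yg32 zg53) (kg xg6 yg29 zg37) (kg xg4 yg41 zg53) (kg xg1 yg33 zg8) (kg xg4 yg41 zg52) (kg xg3 yg11 zg27)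 (kg xg1 yg49 zg26) (kg xg3 yg1 zg56) (kg xg6 yg29 zg57) (kg xg6 yg29 zg61) (kg xg6 yg30 zg2)) (@D3.rec (fun _ => Pt) (kg xg5 yg47 zg41) (kg xg1 yg33 zg1) (kg xg1 yg32 zg59) (kg xg3 yg21 zg38) (kg xg2 yg18 zg13) (kg xg1 yg32 zg60) (kg xg4 yg43 zg50) (kg xg1 yg32 zg61) (kg xg1 yg49 zg31) (kg xg3 yg14 zg16) (kg xg6 yg30 zg13) (kg xg6 yg30 zg16) (kg xg5 yg47 zg27) (kg xg2 yg42 zg34) (kg xg6 yg30 zg24) (kg xg4 yg43 zg53) (kg xg2 yg57 zg46) (kg xg3 yg6 zg61) (kg xg3 yg18 zg33) (kg xg4 yg17 zg34) (kg xg6 yg30 zg29) (kg xg5 yg47 zg32) (kg xg4 yg45 zg60) (kg xg3 yg3 zg0) (kg xg3 yg10 zg38) (kg xg6 yg11 zg7) (kg xg2 yg27 zg11) (kg xg6 yg30 zg34) (kg xg3 yg2 zg52) (kg xg3 yg7 zg26) (kg xg1 yg33 zg18) (kg xg6 yg30 zg42) (kg xg3 yg32 zg0) (kg xg1 yg33 zg26) (kg xg1 yg33 zg21) (kg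 xg4 yg26 zg19) (kg xg6 yg30 zg52) (kg xg6 yg26 zg26) (kg xg3 yg43 zg7) (kg xg6 yg30 zg59) (kg xg3 yg24 zg24) (kg xg3 yg1 zg9) (kg xg6 yg31 zg1) (kg xg3 yg23 zg1) (kg xg1 yg36 zg56) (kg xg6 yg31 zg8) (kg xg6 yg30 zg53) (kg xg5 yg6 zg58) (kg xg6 yg31 zg10) (kg xg3 yg13 zg9) (kg xg1 yg33 zg42) (kg xg1 yg33 zg29) (kg xg6 yg10 zg16) (kg xg1 yg33 zg34) (kg xg1 yg33 zg31) (kg xg6 yg31 zg21) (kg xg6 yg31 zg25) (kg xg6 yg31 zg28) (kg xg1 yg49 zg30) (kg xg4 yg41 zg12) (kg xg6 yg31 zg34) (kg xg6 yg31 zg26)) (@D3.rec (fun _ => Pt) (kg xg6 yg31 zg37) (kg xg1 yg33 zg35) (kg xg6 yg12 zg53) (kg xg3 yg6 zg6) (kg xg6 yg31 zg45) (kg xg1 yg54 zg9) (kg xg6 yg8 zg4) (kg xg6 yg31 zg52) (kg xg2 yg22 zg2) (kg xg4 yg7 zg19) (kg xg1 yg47 zg40) (kg xg1 yg33 zg38) (kg xg6 yg32 zg1) (kg xg4 yg44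 zg33) (kg xg1 yg33 zg39) (kg xg6 yg32 zg10) (kg xg6 yg31 zg13) (kg xg6 yg10 zg26) (kg xg3 yg22 zg55) (kg xg6 yg32 zg19) (kg xg6 yg31 zg42) (kg xg6 yg30 zg7) (kg xg2 yg22 zg45) (kg xg6 yg12 zg27) (kg xg6 yg32 zg29) (kg xg3 yg21 zg41) (kg xg6 yg32 zg33) (kg xg3 yg20 zg61) (kg xg2 yg22 zg51) (kg xg4 yg41 zg8) (kg xg1 yg49 zg54) (kg xg3 yg16 zg27) (kg xg6 yg11 zg24) (kg xg2 yg22 zg31) (kg xg2 yg22 zg53) (kg xg6 yg32 zg42) (kg xg1 yg33 zg54) (kg xg1 yg33 zg50) (kg xg4 yg47 zg2) (kg xg3 yg22 zg38) (kg xg1 yg35 zg17) (kg xg6 yg9 zg56) (kg xg6 yg32 zg53) (kg xg3 yg44 zg55) (kg xg4 yg46 zg32) (kg xg4 yg50 zg10) (kg xg3 yg1 zg19) (kg xg1 yg33 zg57) (kg xg6 yg33 zg3) (kg xg6 yg33 zg7) (kg xg1 yg41 zg26) (kg xg1 yg34 zg0) (kg xg1 yg33 zg59) (kg xg6 yg33 zg12) (kg xg4 yg44 zg14)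 (kg xg2 yg20 zg60) (kg xg4 yg44 zg12) (kg xg1 yg50 zg22) (kg xg6 yg10 zg18) (kg xg6 yg33 zg22) (kg xg3 yg27 zg10) (kg xg6 yg33 zg26)) (@D3.rec (fun _ => Pt) (kg xg3 yg49 zg23) (kg xg6 yg33 zg16) (kg xg4 yg41 zg2) (kg xg1 yg50 zg1) (kg xg6 yg33 zg34) (kg xg3 yg6 zg26) (kg xg6 yg10 zg22) (kg xg6 yg33 zg39) (kg xg6 yg26 zg43) (kg xg1 yg35 zg46) (kg xg1 yg34 zg14) (kg xg6 yg33 zg48) (kg xg1 yg35 zg48) (kg xg6 yg11 zg47) (kg xg3 yg22 zg36) (kg xg1 yg35 zg39) (kg xg6 yg33 zg55) (kg xg3 yg8 zg15) (kg xg3 yg12 zg58) (kg xg1 yg54 zg36) (kg xg3 yg24 zg17) (kg xg1 yg46 zg21) (kg xg3 yg24 zg49) (kg xg6 yg34 zg5) (kg xg1 yg50 zg11) (kg xg3 yg25 zg28) (kg xg3 yg25 zg27) (kg xg5 yg57 zg58) (kg xg3 yg15 zg60) (kg xg6 yg10 zg17) (kg xg4 yg37 zg30) (kg xg3 yg16 zg5) (kg xg6 yg11 zg37)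 (kg xg1 yg34 zg31) (kg xg5 yg55 zg52) (kg xg6 yg34 zg26) (kg xg1 yg34 zg42) (kg xg1 yg34 zg32) (kg xg6 yg34 zg32) (kg xg6 yg10 zg36) (kg xg1 yg34 zg33) (kg xg6 yg34 zg41) (kg xg6 yg10 zg50) (kg xg3 yg18 zg40) (kg xg6 yg11 zg42) (kg xg6 yg11 zg28) (kg xg6 yg34 zg50) (kg xg3 yg7 zg35) (kg xg5 yg58 zg40) (kg xg1 yg34 zg39) (kg xg6 yg10 zg31) (kg xg1 yg34 zg41) (kg xg6 yg10 zg30) (kg xg6 yg35 zg0) (kg xg6 yg35 zg4) (kg xg6 yg35 zg7) (kg xg6 yg21 zg8) (kg xg2 yg19 zg14) (kg xg6 yg20 zg29) (kg xg6 yg35 zg2) (kg xg3 yg15 zg31) (kg xg6 yg35 zg18)) (@D3.rec (fun _ => Pt) (kg xg1 yg34 zg46) (kg xg4 yg48 zg8) (kg xg1 yg35 zg5) (kg xg1 yg37 zg36) (kg xg4 yg38 zg32) (kg xg3 yg15 zg28) (kg xg3 yg8 zg16) (kg xg6 yg35 zg32) (kg xg1 yg35 zg15) (kg xg4 yg48 zg1) (kg xg6 yg35 zg37) (kg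 xg3 yg1 zg43) (kg xg6 yg32 zg50) (kg xg4 yg37 zg40) (kg xg1 yg34 zg52) (kg xg6 yg33 zg40) (kg xg6 yg35 zg52) (kg xg6 yg35 zg55) (kg xg6 yg35 zg59) (kg xg1 yg35 zg37) (kg xg1 yg34 zg54) (kg xg6 yg36 zg5) (kg xg1 yg35 zg35) (kg xg6 yg30 zg27) (kg xg6 yg36 zg9) (kg xg3 yg15 zg15) (kg xg3 yg45 zg11) (kg xg3 yg15 zg43) (kg xg3 yg8 zg12) (kg xg6 yg36 zg18) (kg xg1 yg34 zg59) (kg xg6 yg36 zg22) (kg xg3 yg6 zg28) (kg xg3 yg8 zg26) (kg xg6 yg33 zg45) (kg xg1 yg34 zg60) (kg xg6 yg36 zg34) (kg xg4 yg47 zg56) (kg xg6 yg36 zg37) (kg xg6 yg33 zg44) (kg xg4 yg37 zg55) (kg xg1 yg35 zg40) (kg xg1 yg35 zg1) (kg xg6 yg2 zg12) (kg xg2 yg14 zg55) (kg xg6 yg36 zg48) (kg xg1 yg35 zg12) (kg xg1 yg35 zg2) (kg xg6 yg36 zg56) (kg xg6 yg35 zg21) (kg xg1 yg35 zg3) (kg xg6 yg37 zg3) (kg xg6 yg35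 zg19) (kg xg6 yg35 zg36) (kg xg6 yg11 zg34) (kg xg1 yg35 zg45) (kg xg1 yg35 zg20) (kg xg6 yg37 zg10) (kg xg4 yg11 zg15) (kg xg1 yg35 zg6) (kg xg6 yg37 zg18) (kg xg6 yg35 zg24)) (@D3.rec (fun _ => Pt) (kg xg2 yg19 zg11) (kg xg4 yg43 zg43) (kg xg6 yg37 zg25) (kg xg3 yg7 zg13) (kg xg3 yg7 zg29) (kg xg1 yg35 zg10) (kg xg4 yg12 zg45) (kg xg6 yg30 zg28) (kg xg6 yg35 zg14) (kg xg1 yg35 zg11) (kg xg6 yg35 zg13) (kg xg6 yg37 zg40) (kg xg6 yg37 zg43) (kg xg6 yg37 zg47) (kg xg6 yg35 zg31) (kg xg1 yg35 zg13) (kg xg6 yg37 zg55) (kg xg6 yg35 zg29) (kg xg6 yg21 zg12) (kg xg6 yg37 zg60) (kg xg1 yg35 zg23) (kg xg6 yg37 zg61) (kg xg3 yg16 zg25) (kg xg6 yg35 zg34) (kg xg1 yg35 zg16) (kg xg6 yg38 zg8) (kg xg4 yg48 zg36) (kg xg6 yg28 zg40) (kg xg1 yg35 zg18) (kg xg6 yg35 zg38) (kg xg3 yg51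 zg14) (kg xg3 yg30 zg13) (kg xg6 yg38 zg25) (kg xg6 yg38 zg29) (kg xg6 yg38 zg33) (kg xg6 yg35 zg22) (kg xg1 yg35 zg21) (kg xg6 yg38 zg39) (kg xg6 yg38 zg43) (kg xg6 yg38 zg47) (kg xg4 yg48 zg32) (kg xg6 yg38 zg37) (kg xg4 yg58 zg21) (kg xg6 yg38 zg56) (kg xg6 yg38 zg59) (kg xg6 yg39 zg0) (kg xg3 yg2 zg6) (kg xg6 yg2 zg0) (kg xg4 yg38 zg8) (kg xg6 yg39 zg7) (kg xg4 yg37 zg41) (kg xg1 yg35 zg27) (kg xg3 yg42 zg60) (kg xg6 yg39 zg18) (kg xg6 yg39 zg10) (kg xg1 yg35 zg28) (kg xg6 yg39 zg30) (kg xg6 yg39 zg8) (kg xg6 yg38 zg15) (kg xg6 yg39 zg36) (kg xg6 yg39 zg40) (kg xg6 yg39 zg44)) (@D3.rec (fun _ => Pt) (kg xg6 yg39 zg47) (kg xg6 yg36 zg0) (kg xg1 yg35 zg32) (kg xg6 yg39 zg56) (kg xg6 yg35 zg60) (kg xg6 yg39 zg61) (kg xg6 yg40 zg2) (kg xg6 yg26 zg47) (kg xg6 yg40 zg8)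 (kg xg6 yg38 zg3) (kg xg6 yg37 zg30) (kg xg1 yg49 zg43) (kg xg6 yg40 zg9) (kg xg6 yg40 zg20) (kg xg6 yg36 zg8) (kg xg1 yg35 zg36) (kg xg6 yg40 zg29) (kg xg6 yg36 zg6) (kg xg6 yg18 zg5) (kg xg6 yg33 zg43) (kg xg1 yg35 zg38) (kg xg6 yg40 zg40) (kg xg6 yg37 zg54) (kg xg1 yg35 zg43) (kg xg6 yg40 zg47) (kg xg6 yg29 zg26) (kg xg1 yg35 zg44) (kg xg1 yg35 zg41) (kg xg3 yg22 zg41) (kg xg3 yg16 zg55) (kg xg1 yg35 zg42) (kg xg3 yg42 zg59) (kg xg3 yg7 zg36) (kg xg3 yg18 zg30) (kg xg6 yg41 zg1) (kg xg6 yg37 zg36) (kg xg6 yg40 zg50) (kg xg6 yg41 zg8) (kg xg6 yg40 zg56) (kg xg3 yg18 zg29) (kg xg3 yg14 zg31) (kg xg6 yg11 zg23) (kg xg3 yg11 zg17) (kg xg6 yg37 zg12) (kg xg3 yg45 zg6) (kg xg6 yg41 zg16) (kg xg6 yg33 zg50) (kg xg1 yg35 zg49) (kg xg6 yg41 zg25) (kg xg6 yg41 zg29) (kg xg6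 yg41 zg31) (kg xg6 yg41 zg32) (kg xg3 yg45 zg8) (kg xg6 yg9 zg54) (kg xg1 yg35 zg57) (kg xg6 yg41 zg43) (kg xg6 yg41 zg47) (kg xg6 yg41 zg51) (kg xg6 yg41 zg54) (kg xg1 yg36 zg5) (kg xg1 yg35 zg59) (kg xg6 yg41 zg61)) (@D3.rec (fun _ => Pt) (kg xg1 yg36 zg3) (kg xg6 yg42 zg2) (kg xg6 yg30 zg57) (kg xg6 yg42 zg8) (kg xg1 yg36 zg54) (kg xg1 yg53 zg44) (kg xg1 yg36 zg0) (kg xg6 yg42 zg14) (kg xg6 yg41 zg57) (kg xg1 yg36 zg1) (kg xg6 yg42 zg24) (kg xg6 yg41 zg55) (kg xg4 yg11 zg18) (kg xg6 yg42 zg27) (kg xg6 yg42 zg30) (kg xg4 yg49 zg59) (kg xg3 yg24 zg19) (kg xg6 yg30 zg49) (kg xg6 yg42 zg31) (kg xg4 yg52 zg34) (kg xg1 yg36 zg4) (kg xg6 yg42 zg44) (kg xg6 yg42 zg0) (kg xg4 yg46 zg23) (kg xg6 yg33 zg17) (kg xg4 yg45 zg27) (kg xg1 yg36 zg7) (kg xg6 yg21 zg42) (kg xg1 yg37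 zg19) (kg xg6 yg21 zg43) (kg xg4 yg48 zg41) (kg xg3 yg14 zg28) (kg xg3 yg6 zg7) (kg xg1 yg37 zg18) (kg xg4 yg45 zg58) (kg xg3 yg3 zg4) (kg xg4 yg48 zg11) (kg xg1 yg36 zg13) (kg xg6 yg43 zg0) (kg xg6 yg43 zg5) (kg xg3 yg8 zg52) (kg xg3 yg22 zg28) (kg xg6 yg43 zg10) (kg xg1 yg50 zg42) (kg xg4 yg45 zg35) (kg xg6 yg43 zg17) (kg xg6 yg43 zg19) (kg xg4 yg47 zg19) (kg xg4 yg46 zg8) (kg xg1 yg51 zg16) (kg xg6 yg43 zg25) (kg xg4 yg47 zg25) (kg xg1 yg36 zg20) (kg xg6 yg43 zg33) (kg xg6 yg43 zg15) (kg xg4 yg47 zg13) (kg xg4 yg47 zg29) (kg xg4 yg47 zg26) (kg xg1 yg36 zg22) (kg xg6 yg43 zg46) (kg xg6 yg42 zg51) (kg xg1 yg36 zg26)) (@D3.rec (fun _ => Pt) (kg xg1 yg36 zg24) (kg xg6 yg26 zg37) (kg xg4 yg45 zg15) (kg xg6 yg32 zg59) (kg xg6 yg26 zg38) (kg xg3 yg2 zg53) (kg xg6 yg24 zg2)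 (kg xg4 yg45 zg9) (kg xg3 yg6 zg5) (kg xg4 yg48 zg40) (kg xg1 yg36 zg30) (kg xg6 yg44 zg3) (kg xg6 yg44 zg8) (kg xg3 yg11 zg30) (kg xg4 yg50 zg21) (kg xg1 yg36 zg32) (kg xg1 yg56 zg33) (kg xg6 yg44 zg16) (kg xg1 yg36 zg35) (kg xg1 yg36 zg33) (kg xg6 yg44 zg23) (kg xg6 yg44 zg26) (kg xg4 yg37 zg60) (kg xg4 yg37 zg59) (kg xg6 yg36 zg41) (kg xg6 yg44 zg24) (kg xg6 yg44 zg36) (kg xg1 yg36 zg36) (kg xg6 yg2 zg8) (kg xg4 yg37 zg52) (kg xg1 yg36 zg41) (kg xg1 yg36 zg37) (kg xg1 yg36 zg39) (kg xg6 yg44 zg51) (kg xg6 yg44 zg54) (kg xg6 yg44 zg56) (kg xg6 yg44 zg41) (kg xg2 yg39 zg57) (kg xg6 yg44 zg22) (kg xg6 yg44 zg57) (kg xg6 yg45 zg5) (kg xg6 yg45 zg8) (kg xg4 yg49 zg22) (kg xg4 yg49 zg21) (kg xg6 yg45 zg16) (kg xg2 yg59 zg48) (kg xg6 yg45 zg21) (kg xg1 yg36 zg46) (kg xg1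 yg36 zg43) (kg xg6 yg45 zg30) (kg xg6 yg45 zg34) (kg xg2 yg17 zg32) (kg xg3 yg21 zg33) (kg xg1 yg36 zg45) (kg xg4 yg35 zg57) (kg xg6 yg1 zg47) (kg xg6 yg45 zg46) (kg xg6 yg45 zg50) (kg xg6 yg45 zg31) (kg xg4 yg31 zg35) (kg xg4 yg49 zg28) (kg xg3 yg14 zg33)) (@D3.rec (fun _ => Pt) (kg xg2 yg39 zg53) (kg xg6 yg45 zg56) (kg xg5 yg55 zg19) (kg xg6 yg45 zg59) (kg xg5 yg53 zg36) (kg xg3 yg24 zg9) (kg xg6 yg46 zg4) (kg xg4 yg49 zg40) (kg xg1 yg36 zg50) (kg xg6 yg46 zg8) (kg xg6 yg12 zg15) (kg xg4 yg49 zg37) (kg xg5 yg46 zg19) (kg xg2 yg33 zg39) (kg xg4 yg7 zg13) (kg xg3 yg13 zg44) (kg xg4 yg49 zg58) (kg xg6 yg46 zg18) (kg xg2 yg21 zg29) (kg xg1 yg36 zg55) (kg xg3 yg23 zg7) (kg xg3 yg19 zg15) (kg xg3 yg21 zg15) (kg xg6 yg46 zg25) (kg xg5 yg0 zg22) (kg xg2 yg59 zg10) (kg xg6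 yg46 zg33) (kg xg1 yg37 zg10) (kg xg1 yg36 zg59) (kg xg6 yg45 zg26) (kg xg6 yg46 zg41) (kg xg1 yg36 zg60) (kg xg2 yg52 zg8) (kg xg2 yg22 zg28) (kg xg3 yg20 zg52) (kg xg2 yg17 zg40) (kg xg6 yg46 zg51) (kg xg5 yg51 zg50) (kg xg2 yg51 zg27) (kg xg6 yg32 zg46) (kg xg4 yg47 zg48) (kg xg4 yg45 zg52) (kg xg1 yg37 zg6) (kg xg5 yg48 zg19) (kg xg6 yg47 zg6) (kg xg6 yg47 zg10) (kg xg6 yg47 zg13) (kg xg1 yg37 zg8) (kg xg1 yg37 zg9) (kg xg4 yg34 zg30) (kg xg6 yg47 zg20) (kg xg6 yg47 zg24) (kg xg6 yg45 zg28) (kg xg2 yg41 zg35) (kg xg2 yg42 zg35) (kg xg3 yg8 zg31) (kg xg6 yg47 zg32) (kg xg2 yg49 zg29) (kg xg4 yg50 zg16) (kg xg6 yg42 zg7) (kg xg6 yg42 zg33) (kg xg4 yg45 zg31)) (@D3.rec (fun _ => Pt) (kg xg1 yg37 zg17) (kg xg6 yg30 zg26) (kg xg4 yg48 zg35) (kg xg6 yg47 zg43) (kg xg6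 yg30 zg61) (kg xg6 yg23 zg23) (kg xg6 yg47 zg49) (kg xg4 yg44 zg0) (kg xg3 yg8 zg22) (kg xg4 yg50 zg3) (kg xg1 yg37 zg22) (kg xg6 yg47 zg59) (kg xg6 yg48 zg1) (kg xg3 yg42 zg47) (kg xg1 yg37 zg23) (kg xg6 yg48 zg6) (kg xg6 yg48 zg10) (kg xg1 yg37 zg25) (kg xg6 yg48 zg15) (kg xg6 yg48 zg20) (kg xg6 yg48 zg22) (kg xg6 yg48 zg26) (kg xg1 yg37 zg27) (kg xg6 yg48 zg28) (kg xg6 yg48 zg32) (kg xg6 yg48 zg35) (kg xg6 yg23 zg48) (kg xg3 yg19 zg41) (kg xg1 yg37 zg30) (kg xg4 yg50 zg26) (kg xg6 yg23 zg29) (kg xg6 yg48 zg41) (kg xg6 yg13 zg3) (kg xg1 yg37 zg32) (kg xg6 yg13 zg2) (kg xg6 yg40 zg17) (kg xg3 yg14 zg39) (kg xg3 yg8 zg25) (kg xg3 yg15 zg14) (kg xg2 yg19 zg27) (kg xg6 yg18 zg24) (kg xg3 yg18 zg38) (kg xg6 yg48 zg60) (kg xg1 yg37 zg37) (kg xg6 yg40 zg7) (kg xg2 yg19 zg12)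 (kg xg3 yg1 zg14) (kg xg3 yg1 zg27) (kg xg6 yg49 zg9) (kg xg6 yg49 zg12) (kg xg1 yg42 zg36) (kg xg2 yg22 zg59) (kg xg1 yg38 zg6) (kg xg6 yg49 zg17) (kg xg1 yg37 zg50) (kg xg3 yg14 zg21) (kg xg3 yg13 zg7) (kg xg3 yg13 zg8) (kg xg2 yg20 zg4) (kg xg6 yg49 zg27) (kg xg6 yg1 zg25) (kg xg1 yg48 zg39)) (@D3.rec (fun _ => Pt) (kg xg2 yg19 zg53) (kg xg3 yg25 zg29) (kg xg2 yg18 zg20) (kg xg3 yg13 zg43) (kg xg1 yg46 zg58) (kg xg1 yg37 zg59) (kg xg6 yg49 zg37) (kg xg4 yg47 zg15) (kg xg1 yg38 zg13) (kg xg1 yg37 zg60) (kg xg1 yg38 zg12) (kg xg6 yg29 zg60) (kg xg1 yg38 zg3) (kg xg1 yg38 zg0) (kg xg2 yg55 zg36) (kg xg6 yg49 zg50) (kg xg3 yg8 zg37) (kg xg6 yg49 zg56) (kg xg3 yg8 zg38) (kg xg2 yg19 zg10) (kg xg2 yg19 zg59) (kg xg4 yg44 zg35) (kg xg6 yg50 zg2) (kg xg2 yg55 zg5) (kg xg3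 yg13 zg37) (kg xg1 yg38 zg4) (kg xg3 yg11 zg25) (kg xg2 yg19 zg29) (kg xg6 yg50 zg14) (kg xg3 yg24 zg43) (kg xg6 yg49 zg54) (kg xg6 yg50 zg18) (kg xg3 yg6 zg54) (kg xg3 yg11 zg8) (kg xg3 yg59 zg39) (kg xg1 yg38 zg7) (kg xg3 yg20 zg16) (kg xg6 yg50 zg28) (kg xg6 yg50 zg31) (kg xg1 yg40 zg16) (kg xg1 yg38 zg8) (kg xg6 yg50 zg37) (kg xg3 yg43 zg28) (kg xg1 yg38 zg9) (kg xg6 yg7 zg60) (kg xg3 yg21 zg20) (kg xg4 yg48 zg20) (kg xg3 yg11 zg19) (kg xg6 yg46 zg20) (kg xg1 yg48 zg3) (kg xg3 yg42 zg8) (kg xg3 yg14 zg35) (kg xg6 yg46 zg19) (kg xg3 yg40 zg28) (kg xg4 yg43 zg47) (kg xg3 yg42 zg4) (kg xg6 yg49 zg18) (kg xg1 yg38 zg14) (kg xg3 yg9 zg5) (kg xg1 yg44 zg22) (kg xg5 yg53 zg42) (kg xg5 yg50 zg28)) (@D3.rec (fun _ => Pt) (kg xg5 yg48 zg14) (kg xg6 yg44 zg13) (kg xg3 yg11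 zg10) (kg xg6 yg46 zg26) (kg xg6 yg46 zg27) (kg xg1 yg38 zg20) (kg xg6 yg51 zg14) (kg xg4 yg49 zg47) (kg xg1 yg38 zg21) (kg xg3 yg21 zg1) (kg xg3 yg7 zg37) (kg xg3 yg7 zg38) (kg xg6 yg51 zg20) (kg xg3 yg10 zg47) (kg xg2 yg19 zg20) (kg xg3 yg8 zg35) (kg xg2 yg18 zg11) (kg xg1 yg44 zg52) (kg xg2 yg19 zg47) (kg xg6 yg32 zg21) (kg xg1 yg44 zg23) (kg xg6 yg26 zg11) (kg xg6 yg51 zg23) (kg xg3 yg37 zg43) (kg xg1 yg48 zg37) (kg xg6 yg9 zg22) (kg xg6 yg51 zg29) (kg xg3 yg29 zg1) (kg xg1 yg51 zg7) (kg xg3 yg30 zg37) (kg xg1 yg38 zg52) (kg xg1 yg38 zg41) (kg xg1 yg38 zg51) (kg xg1 yg38 zg42) (kg xg2 yg51 zg58) (kg xg3 yg40 zg25) (kg xg6 yg51 zg27) (kg xg3 yg38 zg49) (kg xg3 yg45 zg46) (kg xg3 yg55 zg39) (kg xg6 yg51 zg49) (kg xg6 yg51 zg51) (kg xg3 yg25 zg18) (kg xg3 yg23 zg32)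 (kg xg5 yg59 zg5) (kg xg6 yg51 zg37) (kg xg1 yg38 zg49) (kg xg6 yg52 zg2) (kg xg6 yg51 zg35) (kg xg3 yg32 zg34) (kg xg6 yg52 zg8) (kg xg6 yg52 zg12) (kg xg3 yg39 zg6) (kg xg3 yg35 zg31) (kg xg6 yg51 zg40) (kg xg1 yg46 zg54) (kg xg1 yg54 zg23) (kg xg3 yg38 zg28) (kg xg6 yg52 zg22) (kg xg3 yg38 zg23) (kg xg1 yg46 zg12) (kg xg3 yg31 zg6)) (@D3.rec (fun _ => Pt) (kg xg6 yg19 zg6) (kg xg3 yg42 zg34) (kg xg3 yg42 zg50) (kg xg3 yg25 zg14) (kg xg3 yg32 zg8) (kg xg1 yg39 zg5) (kg xg3 yg39 zg59) (kg xg1 yg42 zg33) (kg xg6 yg27 zg28) (kg xg6 yg51 zg44) (kg xg3 yg42 zg48) (kg xg1 yg39 zg7) (kg xg3 yg47 zg57) (kg xg6 yg51 zg54) (kg xg1 yg49 zg19) (kg xg6 yg52 zg44) (kg xg6 yg52 zg46) (kg xg3 yg40 zg21) (kg xg3 yg37 zg44) (kg xg3 yg26 zg8) (kg xg3 yg26 zg10) (kg xg1 yg39 zg17) (kg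 xg6 yg52 zg36) (kg xg3 yg28 zg30) (kg xg1 yg40 zg22) (kg xg3 yg31 zg13) (kg xg3 yg15 zg26) (kg xg1 yg39 zg21) (kg xg1 yg46 zg25) (kg xg3 yg23 zg3) (kg xg3 yg31 zg51) (kg xg1 yg50 zg20) (kg xg4 yg40 zg45) (kg xg2 yg34 zg5) (kg xg6 yg53 zg5) (kg xg1 yg54 zg31) (kg xg6 yg51 zg38) (kg xg1 yg54 zg27) (kg xg3 yg31 zg14) (kg xg6 yg51 zg41) (kg xg1 yg39 zg28) (kg xg5 yg51 zg23) (kg xg2 yg14 zg14) (kg xg6 yg53 zg18) (kg xg1 yg39 zg44) (kg xg1 yg39 zg29) (kg xg6 yg53 zg24) (kg xg3 yg39 zg4) (kg xg1 yg39 zg30) (kg xg6 yg53 zg33) (kg xg3 yg41 zg53) (kg xg3 yg39 zg7) (kg xg1 yg44 zg27) (kg xg3 yg31 zg19) (kg xg3 yg51 zg57) (kg xg1 yg46 zg46) (kg xg6 yg53 zg41) (kg xg6 yg53 zg44) (kg xg1 yg47 zg13) (kg xg3 yg24 zg26) (kg xg3 yg28 zg28) (kg xg1 yg39 zg38)) (@D3.rec (fun _ => Pt) (kg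 xg6 yg53 zg54) (kg xg1 yg44 zg19) (kg xg3 yg45 zg45) (kg xg3 yg29 zg22) (kg xg6 yg53 zg61) (kg xg6 yg54 zg2) (kg xg6 yg54 zg4) (kg xg3 yg25 zg19) (kg xg1 yg39 zg45) (kg xg6 yg54 zg13) (kg xg3 yg25 zg21) (kg xg3 yg54 zg43) (kg xg3 yg47 zg40) (kg xg6 yg54 zg20) (kg xg1 yg39 zg49) (kg xg6 yg54 zg26) (kg xg1 yg40 zg19) (kg xg3 yg56 zg14) (kg xg6 yg54 zg31) (kg xg1 yg55 zg7) (kg xg3 yg40 zg26) (kg xg3 yg50 zg12) (kg xg1 yg39 zg53) (kg xg1 yg43 zg46) (kg xg6 yg54 zg40) (kg xg3 yg55 zg52) (kg xg1 yg40 zg23) (kg xg3 yg50 zg27) (kg xg1 yg39 zg56) (kg xg3 yg50 zg29) (kg xg6 yg54 zg49) (kg xg1 yg39 zg57) (kg xg6 yg54 zg53) (kg xg3 yg34 zg58) (kg xg1 yg39 zg58) (kg xg6 yg55 zg0) (kg xg3 yg54 zg36) (kg xg3 yg35 zg0) (kg xg3 yg35 zg3) (kg xg1 yg45 zg31) (kg xg6 yg55 zg10) (kg xg1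 yg48 zg60) (kg xg3 yg54 zg54) (kg xg6 yg55 zg9) (kg xg1 yg40 zg1) (kg xg6 yg55 zg18) (kg xg6 yg55 zg7) (kg xg3 yg48 zg26) (kg xg3 yg46 zg59) (kg xg6 yg55 zg24) (kg xg6 yg55 zg26) (kg xg6 yg55 zg29) (kg xg3 yg37 zg58) (kg xg1 yg40 zg4) (kg xg6 yg55 zg38) (kg xg3 yg55 zg44) (kg xg1 yg40 zg13) (kg xg3 yg26 zg19) (kg xg1 yg40 zg6) (kg xg6 yg55 zg47) (kg xg1 yg45 zg56) (kg xg3 yg50 zg48)) (@D3.rec (fun _ => Pt) (kg xg1 yg40 zg8) (kg xg3 yg50 zg47) (kg xg1 yg43 zg25) (kg xg6 yg55 zg59) (kg xg6 yg56 zg1) (kg xg1 yg40 zg12) (kg xg6 yg56 zg6) (kg xg6 yg56 zg10) (kg xg3 yg34 zg59) (kg xg3 yg14 zg60) (kg xg1 yg40 zg11) (kg xg3 yg48 zg12) (kg xg6 yg56 zg17) (kg xg6 yg56 zg21) (kg xg6 yg56 zg25) (kg xg1 yg45 zg53) (kg xg6 yg32 zg54) (kg xg6 yg56 zg31) (kg xg6 yg0 zg36) (kg xg6 yg56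 zg36) (kg xg6 yg56 zg40) (kg xg6 yg56 zg43) (kg xg6 yg56 zg46) (kg xg6 yg56 zg51) (kg xg6 yg55 zg44) (kg xg6 yg56 zg14) (kg xg6 yg56 zg52) (kg xg3 yg34 zg47) (kg xg6 yg54 zg29) (kg xg1 yg40 zg20) (kg xg6 yg57 zg10) (kg xg6 yg54 zg27) (kg xg3 yg47 zg55) (kg xg3 yg53 zg40) (kg xg3 yg37 zg24) (kg xg1 yg40 zg27) (kg xg6 yg57 zg22) (kg xg6 yg57 zg26) (kg xg6 yg55 zg37) (kg xg1 yg40 zg28) (kg xg6 yg57 zg32) (kg xg1 yg44 zg28) (kg xg1 yg40 zg26) (kg xg1 yg45 zg6) (kg xg1 yg47 zg14) (kg xg6 yg57 zg42) (kg xg6 yg57 zg45) (kg xg6 yg55 zg22) (kg xg6 yg57 zg27) (kg xg6 yg57 zg52) (kg xg6 yg57 zg33) (kg xg6 yg52 zg32) (kg xg6 yg48 zg4) (kg xg3 yg13 zg32) (kg xg6 yg51 zg24) (kg xg3 yg31 zg53) (kg xg1 yg40 zg34) (kg xg3 yg54 zg21) (kg xg3 yg44 zg17) (kg xg1 yg53 zg8) (kg xg3 yg28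 zg10) (kg xg1 yg53 zg29)) (@D3.rec (fun _ => Pt) (kg xg1 yg45 zg36) (kg xg3 yg28 zg8) (kg xg6 yg58 zg16) (kg xg6 yg58 zg20) (kg xg3 yg28 zg0) (kg xg6 yg58 zg23) (kg xg3 yg27 zg61) (kg xg3 yg36 zg40) (kg xg1 yg43 zg33) (kg xg1 yg55 zg8) (kg xg1 yg40 zg42) (kg xg6 yg58 zg33) (kg xg6 yg58 zg37) (kg xg1 yg40 zg44) (kg xg1 yg47 zg52) (kg xg6 yg58 zg41) (kg xg6 yg58 zg44) (kg xg1 yg42 zg1) (kg xg1 yg40 zg46) (kg xg1 yg42 zg3) (kg xg1 yg53 zg31) (kg xg1 yg42 zg49) (kg xg3 yg10 zg35) (kg xg6 yg58 zg51) (kg xg1 yg41 zg55) (kg xg3 yg32 zg9) (kg xg1 yg40 zg56) (kg xg3 yg7 zg61) (kg xg3 yg25 zg61) (kg xg1 yg40 zg57) (kg xg1 yg42 zg39) (kg xg1 yg48 zg13) (kg xg6 yg29 zg33) (kg xg3 yg35 zg26) (kg xg2 yg19 zg55) (kg xg3 yg7 zg52) (kg xg1 yg41 zg0) (kg xg3 yg7 zg2) (kg xg3 yg7 zg25)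 (kg xg6 yg49 zg45) (kg xg1 yg41 zg2) (kg xg6 yg59 zg7) (kg xg6 yg37 zg1) (kg xg3 yg8 zg13) (kg xg1 yg41 zg13) (kg xg3 yg31 zg4) (kg xg1 yg49 zg41) (kg xg1 yg53 zg28) (kg xg1 yg41 zg8) (kg xg6 yg59 zg15) (kg xg3 yg46 zg25) (kg xg3 yg34 zg30) (kg xg1 yg44 zg0) (kg xg3 yg15 zg49) (kg xg1 yg44 zg1) (kg xg1 yg41 zg12) (kg xg6 yg59 zg26) (kg xg3 yg8 zg19) (kg xg3 yg9 zg42) (kg xg3 yg31 zg5) (kg xg6 yg59 zg34) (kg xg6 yg59 zg38)) (@D3.rec (fun _ => Pt) (kg xg3 yg24 zg27) (kg xg1 yg41 zg15) (kg xg6 yg58 zg42) (kg xg3 yg47 zg31) (kg xg6 yg59 zg51) (kg xg6 yg59 zg55) (kg xg1 yg41 zg53) (kg xg1 yg41 zg17) (kg xg7 yg0 zg2) (kg xg1 yg41 zg51) (kg xg3 yg35 zg38) (kg xg7 yg0 zg7) (kg xg3 yg31 zg36) (kg xg1 yg47 zg58) (kg xg1 yg48 zg58) (kg xg1 yg49 zg59) (kg xg1 yg50 zg34) (kg xg3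 yg32 zg7) (kg xg6 yg49 zg26) (kg xg1 yg41 zg23) (kg xg7 yg0 zg16) (kg xg6 yg58 zg48) (kg xg3 yg24 zg38) (kg xg1 yg41 zg56) (kg xg7 yg0 zg24) (kg xg1 yg41 zg33) (kg xg1 yg41 zg27) (kg xg7 yg0 zg31) (kg xg1 yg41 zg28) (kg xg7 yg0 zg37) (kg xg1 yg47 zg46) (kg xg7 yg0 zg40) (kg xg1 yg45 zg14) (kg xg3 yg38 zg20) (kg xg7 yg0 zg39) (kg xg1 yg41 zg31) (kg xg3 yg45 zg1) (kg xg1 yg50 zg26) (kg xg1 yg41 zg32) (kg xg1 yg50 zg25) (kg xg6 yg43 zg20) (kg xg7 yg0 zg54) (kg xg7 yg0 zg58) (kg xg1 yg50 zg10) (kg xg1 yg41 zg34) (kg xg7 yg1 zg6) (kg xg1 yg50 zg8) (kg xg1 yg41 zg42) (kg xg3 yg37 zg36) (kg xg6 yg34 zg7) (kg xg1 yg41 zg37) (kg xg6 yg34 zg6) (kg xg1 yg48 zg59) (kg xg3 yg17 zg30) (kg xg7 yg1 zg24) (kg xg7 yg1 zg27) (kg xg3 yg34 zg49) (kg xg6 yg34 zg55) (kg xg1 yg41 zg40) (kg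 xg6 yg34 zg54) (kg xg4 yg48 zg51) (kg xg7 yg1 zg37)) (@D3.rec (fun _ => Pt) (kg xg7 yg1 zg41) (kg xg7 yg1 zg45) (kg xg1 yg47 zg57) (kg xg7 yg1 zg33) (kg xg3 yg25 zg51) (kg xg7 yg1 zg53) (kg xg3 yg55 zg41) (kg xg2 yg55 zg26) (kg xg7 yg1 zg56) (kg xg1 yg41 zg46) (kg xg7 yg2 zg2) (kg xg7 yg1 zg54) (kg xg7 yg2 zg6) (kg xg3 yg12 zg17) (kg xg6 yg59 zg58) (kg xg1 yg41 zg48) (kg xg7 yg2 zg17) (kg xg6 yg59 zg56) (kg xg7 yg2 zg22) (kg xg7 yg2 zg25) (kg xg6 yg34 zg4) (kg xg7 yg2 zg33) (kg xg7 yg1 zg12) (kg xg7 yg1 zg32) (kg xg1 yg42 zg59) (kg xg7 yg2 zg34) (kg xg3 yg37 zg41) (kg xg7 yg0 zg4) (kg xg1 yg41 zg52) (kg xg7 yg2 zg55) (kg xg3 yg52 zg2) (kg xg6 yg58 zg45) (kg xg6 yg58 zg47) (kg xg1 yg41 zg54) (kg xg7 yg3 zg6) (kg xg6 yg58 zg54) (kg xg6 yg58 zg55) (kg xg3 yg24 zg48) (kg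 xg7 yg3 zg14) (kg xg3 yg41 zg55) (kg xg1 yg41 zg60) (kg xg6 yg33 zg36) (kg xg7 yg3 zg24) (kg xg7 yg1 zg5) (kg xg1 yg41 zg61) (kg xg7 yg3 zg32) (kg xg1 yg50 zg13) (kg xg1 yg41 zg58) (kg xg1 yg49 zg23) (kg xg3 yg32 zg26) (kg xg1 yg41 zg59) (kg xg1 yg42 zg60) (kg xg1 yg43 zg1) (kg xg7 yg3 zg42) (kg xg7 yg3 zg45) (kg xg7 yg0 zg50) (kg xg7 yg3 zg25) (kg xg7 yg3 zg53) (kg xg7 yg0 zg36) (kg xg1 yg51 zg31) (kg xg3 yg40 zg61) (kg xg7 yg0 zg21)) (@D3.rec (fun _ => Pt) (kg xg3 yg35 zg54) (kg xg1 yg42 zg47) (kg xg1 yg50 zg0) (kg xg3 yg34 zg57) (kg xg3 yg28 zg44) (kg xg1 yg50 zg17) (kg xg3 yg35 zg53) (kg xg1 yg49 zg25) (kg xg1 yg42 zg7) (kg xg7 yg4 zg9) (kg xg1 yg42 zg11) (kg xg1 yg42 zg8) (kg xg1 yg42 zg10) (kg xg3 yg35 zg59) (kg xg7 yg4 zg15) (kg xg3 yg31 zg25) (kg xg3 yg26 zg11)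 (kg xg3 yg25 zg56) (kg xg3 yg25 zg38) (kg xg3 yg31 zg49) (kg xg3 yg39 zg25) (kg xg1 yg46 zg39) (kg xg3 yg43 zg52) (kg xg3 yg31 zg41) (kg xg3 yg31 zg46) (kg xg1 yg47 zg53) (kg xg3 yg31 zg38) (kg xg3 yg43 zg61) (kg xg7 yg4 zg35) (kg xg7 yg4 zg39) (kg xg3 yg31 zg39) (kg xg7 yg4 zg44) (kg xg6 yg55 zg46) (kg xg1 yg42 zg19) (kg xg3 yg31 zg15) (kg xg3 yg24 zg52) (kg xg3 yg29 zg16) (kg xg3 yg40 zg55) (kg xg1 yg49 zg5) (kg xg1 yg49 zg18) (kg xg3 yg26 zg60) (kg xg1 yg42 zg26) (kg xg1 yg49 zg2) (kg xg7 yg4 zg60) (kg xg7 yg5 zg2) (kg xg3 yg31 zg24) (kg xg1 yg42 zg27) (kg xg7 yg5 zg7) (kg xg3 yg26 zg58) (kg xg3 yg54 zg0) (kg xg3 yg32 zg2) (kg xg6 yg42 zg43) (kg xg7 yg5 zg13) (kg xg3 yg27 zg56) (kg xg6 yg9 zg21) (kg xg3 yg25 zg59) (kg xg1 yg44 zg2) (kg xg3 yg42 zg29) (kg xg3 yg25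 zg23) (kg xg7 yg5 zg23) (kg xg1 yg43 zg42) (kg xg1 yg42 zg41)) (@D3.rec (fun _ => Pt) (kg xg1 yg42 zg45) (kg xg1 yg43 zg12) (kg xg3 yg38 zg4) (kg xg6 yg53 zg43) (kg xg1 yg42 zg43) (kg xg1 yg48 zg11) (kg xg3 yg31 zg17) (kg xg1 yg45 zg42) (kg xg1 yg55 zg6) (kg xg3 yg28 zg31) (kg xg3 yg36 zg2) (kg xg3 yg15 zg19) (kg xg3 yg36 zg0) (kg xg1 yg45 zg41) (kg xg1 yg42 zg61) (kg xg1 yg45 zg10) (kg xg1 yg46 zg47) (kg xg3 yg35 zg43) (kg xg1 yg42 zg51) (kg xg7 yg5 zg39) (kg xg1 yg42 zg52) (kg xg3 yg36 zg11) (kg xg1 yg42 zg53) (kg xg7 yg5 zg48) (kg xg3 yg36 zg9) (kg xg3 yg38 zg31) (kg xg3 yg29 zg13) (kg xg1 yg46 zg51) (kg xg1 yg51 zg13) (kg xg1 yg44 zg6) (kg xg1 yg44 zg3) (kg xg1 yg42 zg58) (kg xg7 yg5 zg61) (kg xg3 yg46 zg53) (kg xg6 yg34 zg3) (kg xg3 yg36 zg4) (kg xg3 yg35 zg39)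 (kg xg4 yg24 zg2) (kg xg7 yg6 zg6) (kg xg4 yg23 zg54) (kg xg3 yg35 zg51) (kg xg7 yg6 zg13) (kg xg3 yg35 zg49) (kg xg1 yg46 zg41) (kg xg1 yg51 zg56) (kg xg1 yg43 zg4) (kg xg7 yg6 zg24) (kg xg7 yg6 zg26) (kg xg7 yg6 zg30) (kg xg1 yg43 zg41) (kg xg1 yg43 zg6) (kg xg7 yg6 zg39) (kg xg1 yg43 zg39) (kg xg7 yg6 zg43) (kg xg1 yg54 zg29) (kg xg3 yg36 zg32) (kg xg1 yg52 zg15) (kg xg1 yg44 zg9) (kg xg1 yg43 zg14) (kg xg7 yg6 zg55) (kg xg3 yg37 zg51) (kg xg6 yg30 zg44)) (@D3.rec (fun _ => Pt) (kg xg1 yg43 zg15) (kg xg7 yg6 zg61) (kg xg1 yg54 zg39) (kg xg1 yg43 zg43) (kg xg3 yg36 zg36) (kg xg4 yg20 zg34) (kg xg7 yg7 zg2) (kg xg1 yg43 zg18) (kg xg7 yg7 zg8) (kg xg3 yg36 zg52) (kg xg1 yg43 zg19) (kg xg7 yg7 zg17) (kg xg3 yg36 zg50) (kg xg3 yg37 zg2) (kg xg1 yg43 zg49) (kg xg3 yg34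 zg36) (kg xg7 yg7 zg25) (kg xg7 yg7 zg28) (kg xg1 yg51 zg0) (kg xg3 yg36 zg45) (kg xg3 yg36 zg33) (kg xg7 yg7 zg35) (kg xg7 yg7 zg36) (kg xg7 yg7 zg38) (kg xg3 yg27 zg59) (kg xg7 yg7 zg44) (kg xg3 yg36 zg56) (kg xg1 yg43 zg28) (kg xg3 yg36 zg55) (kg xg1 yg50 zg37) (kg xg5 yg14 zg0) (kg xg7 yg7 zg53) (kg xg7 yg7 zg57) (kg xg7 yg7 zg60) (kg xg3 yg36 zg53) (kg xg1 yg43 zg31) (kg xg3 yg4 zg24) (kg xg2 yg30 zg40) (kg xg7 yg8 zg4) (kg xg7 yg8 zg7) (kg xg7 yg8 zg11) (kg xg3 yg4 zg17) (kg xg6 yg13 zg43) (kg xg7 yg8 zg15) (kg xg7 yg8 zg17) (kg xg7 yg6 zg33) (kg xg1 yg43 zg37) (kg xg7 yg8 zg27) (kg xg7 yg6 zg31) (kg xg7 yg8 zg31) (kg xg7 yg8 zg36) (kg xg7 yg8 zg39) (kg xg6 yg58 zg30) (kg xg5 yg49 zg40) (kg xg1 yg50 zg35) (kg xg7 yg8 zg40) (kg xg1 yg53 zg23) (kg xg7 yg6 zg42)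 (kg xg1 yg43 zg40) (kg xg7 yg9 zg1) (kg xg7 yg6 zg40) (kg xg6 yg54 zg37)) (@D3.rec (fun _ => Pt) (kg xg7 yg5 zg27) (kg xg1 yg53 zg49) (kg xg7 yg9 zg11) (kg xg3 yg27 zg46) (kg xg1 yg43 zg47) (kg xg7 yg9 zg16) (kg xg7 yg9 zg20) (kg xg3 yg53 zg6) (kg xg1 yg43 zg48) (kg xg7 yg9 zg27) (kg xg1 yg50 zg39) (kg xg7 yg0 zg47) (kg xg3 yg38 zg7) (kg xg7 yg7 zg33) (kg xg7 yg9 zg21) (kg xg6 yg59 zg14) (kg xg7 yg1 zg2) (kg xg1 yg53 zg16) (kg xg1 yg54 zg17) (kg xg1 yg51 zg48) (kg xg1 yg51 zg54) (kg xg1 yg51 zg51) (kg xg7 yg9 zg54) (kg xg1 yg50 zg19) (kg xg1 yg53 zg26) (kg xg1 yg50 zg14) (kg xg1 yg46 zg50) (kg xg1 yg45 zg48) (kg xg7 yg10 zg0) (kg xg7 yg0 zg38) (kg xg3 yg28 zg23) (kg xg7 yg10 zg7) (kg xg7 yg10 zg9) (kg xg3 yg46 zg50) (kg xg7 yg10 zg15) (kg xg1 yg44 zg4) (kg xg1 yg51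 zg32) (kg xg7 yg10 zg19) (kg xg3 yg37 zg54) (kg xg1 yg49 zg21) (kg xg7 yg10 zg27) (kg xg1 yg45 zg47) (kg xg3 yg56 zg6) (kg xg6 yg53 zg40) (kg xg1 yg44 zg7) (kg xg3 yg27 zg27) (kg xg7 yg1 zg52) (kg xg7 yg10 zg38) (kg xg1 yg44 zg8) (kg xg3 yg34 zg48) (kg xg7 yg10 zg50) (kg xg3 yg37 zg48) (kg xg1 yg52 zg42) (kg xg7 yg10 zg54) (kg xg3 yg34 zg60) (kg xg1 yg44 zg12) (kg xg7 yg10 zg60) (kg xg3 yg30 zg46) (kg xg3 yg26 zg34) (kg xg1 yg51 zg8) (kg xg3 yg34 zg55) (kg xg1 yg48 zg22)) (@D3.rec (fun _ => Pt) (kg xg1 yg44 zg16) (kg xg7 yg11 zg10) (kg xg7 yg11 zg14) (kg xg1 yg44 zg17) (kg xg3 yg41 zg37) (kg xg1 yg44 zg18) (kg xg3 yg25 zg30) (kg xg3 yg6 zg51) (kg xg6 yg57 zg56) (kg xg3 yg42 zg31) (kg xg3 yg43 zg2) (kg xg1 yg49 zg11) (kg xg1 yg48 zg30) (kg xg1 yg44 zg25) (kg xg6 yg58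 zg0) (kg xg3 yg56 zg50) (kg xg7 yg11 zg31) (kg xg7 yg9 zg8) (kg xg7 yg11 zg32) (kg xg3 yg53 zg36) (kg xg3 yg18 zg49) (kg xg7 yg11 zg41) (kg xg3 yg10 zg40) (kg xg3 yg8 zg7) (kg xg1 yg44 zg32) (kg xg3 yg9 zg39) (kg xg3 yg10 zg60) (kg xg1 yg46 zg44) (kg xg1 yg46 zg37) (kg xg1 yg44 zg36) (kg xg3 yg53 zg45) (kg xg7 yg2 zg30) (kg xg7 yg4 zg32) (kg xg1 yg44 zg38) (kg xg3 yg24 zg53) (kg xg1 yg53 zg50) (kg xg1 yg44 zg54) (kg xg3 yg30 zg50) (kg xg3 yg30 zg51) (kg xg1 yg44 zg55) (kg xg1 yg46 zg22) (kg xg2 yg9 zg30) (kg xg1 yg44 zg43) (kg xg3 yg32 zg18) (kg xg7 yg12 zg3) (kg xg1 yg44 zg56) (kg xg1 yg44 zg44) (kg xg7 yg12 zg10) (kg xg3 yg32 zg42) (kg xg1 yg44 zg45) (kg xg7 yg12 zg17) (kg xg3 yg30 zg52) (kg xg3 yg39 zg30) (kg xg3 yg37 zg29) (kg xg1 yg46 zg28) (kg xg3 yg49 zg35) (kg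 xg3 yg31 zg56) (kg xg6 yg53 zg0) (kg xg1 yg44 zg50) (kg xg6 yg52 zg61) (kg xg3 yg15 zg20) (kg xg3 yg32 zg12)) (@D3.rec (fun _ => Pt) (kg xg1 yg44 zg53) (kg xg1 yg45 zg12) (kg xg3 yg31 zg1) (kg xg3 yg32 zg36) (kg xg3 yg32 zg14) (kg xg5 yg48 zg39) (kg xg7 yg12 zg32) (kg xg2 yg9 zg35) (kg xg3 yg32 zg24) (kg xg1 yg44 zg57) (kg xg7 yg12 zg42) (kg xg3 yg32 zg22) (kg xg1 yg46 zg14) (kg xg1 yg46 zg2) (kg xg1 yg44 zg60) (kg xg7 yg12 zg50) (kg xg7 yg0 zg35) (kg xg1 yg44 zg61) (kg xg7 yg12 zg58) (kg xg1 yg45 zg30) (kg xg1 yg45 zg0) (kg xg7 yg13 zg4) (kg xg1 yg45 zg28) (kg xg7 yg9 zg52) (kg xg7 yg13 zg8) (kg xg1 yg51 zg36) (kg xg1 yg45 zg3) (kg xg3 yg30 zg26) (kg xg1 yg45 zg38) (kg xg7 yg13 zg18) (kg xg7 yg6 zg51) (kg xg7 yg13 zg22) (kg xg3 yg32 zg53) (kg xg1 yg45 zg13) (kg xg1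 yg45 zg32) (kg xg3 yg33 zg4) (kg xg1 yg45 zg9) (kg xg3 yg4 zg36) (kg xg7 yg13 zg33) (kg xg3 yg28 zg7) (kg xg1 yg45 zg11) (kg xg7 yg13 zg40) (kg xg6 yg34 zg0) (kg xg3 yg32 zg11) (kg xg3 yg33 zg20) (kg xg3 yg27 zg2) (kg xg5 yg42 zg47) (kg xg7 yg13 zg46) (kg xg5 yg42 zg38) (kg xg3 yg33 zg12) (kg xg1 yg45 zg15) (kg xg7 yg13 zg56) (kg xg3 yg33 zg10) (kg xg1 yg45 zg23) (kg xg3 yg33 zg28) (kg xg1 yg45 zg18) (kg xg3 yg33 zg27) (kg xg5 yg41 zg16) (kg xg7 yg14 zg9) (kg xg7 yg14 zg12) (kg xg7 yg14 zg16) (kg xg3 yg33 zg35)) (@D3.rec (fun _ => Pt) (kg xg7 yg14 zg20) (kg xg7 yg14 zg23) (kg xg1 yg54 zg45) (kg xg6 yg13 zg42) (kg xg7 yg8 zg20) (kg xg1 yg45 zg26) (kg xg7 yg14 zg35) (kg xg7 yg8 zg18) (kg xg7 yg14 zg39) (kg xg7 yg14 zg42) (kg xg6 yg15 zg1) (kg xg7 yg14 zg43) (kg xg3 yg28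 zg5) (kg xg7 yg13 zg7) (kg xg1 yg45 zg29) (kg xg7 yg15 zg0) (kg xg7 yg13 zg5) (kg xg1 yg54 zg14) (kg xg1 yg45 zg34) (kg xg7 yg15 zg10) (kg xg7 yg15 zg13) (kg xg1 yg45 zg33) (kg xg1 yg52 zg12) (kg xg3 yg48 zg17) (kg xg3 yg51 zg58) (kg xg7 yg13 zg44) (kg xg7 yg15 zg14) (kg xg7 yg15 zg24) (kg xg1 yg51 zg24) (kg xg3 yg24 zg61) (kg xg6 yg55 zg21) (kg xg7 yg15 zg30) (kg xg3 yg47 zg7) (kg xg3 yg46 zg26) (kg xg3 yg46 zg51) (kg xg1 yg53 zg59) (kg xg3 yg30 zg47) (kg xg7 yg13 zg17) (kg xg1 yg45 zg39) (kg xg7 yg15 zg45) (kg xg1 yg52 zg4) (kg xg7 yg13 zg14) (kg xg7 yg9 zg35) (kg xg3 yg29 zg19) (kg xg1 yg46 zg53) (kg xg7 yg15 zg53) (kg xg3 yg46 zg56) (kg xg7 yg15 zg58) (kg xg3 yg32 zg60) (kg xg3 yg29 zg47) (kg xg7 yg16 zg4) (kg xg3 yg34 zg51) (kg xg3 yg39 zg5) (kg xg7 yg10 zg37)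 (kg xg3 yg34 zg41) (kg xg7 yg16 zg14) (kg xg7 yg6 zg53) (kg xg3 yg52 zg13) (kg xg3 yg26 zg53) (kg xg3 yg27 zg15) (kg xg3 yg26 zg56) (kg xg7 yg16 zg25)) (@D3.rec (fun _ => Pt) (kg xg7 yg16 zg29) (kg xg6 yg56 zg56) (kg xg3 yg31 zg16) (kg xg3 yg44 zg18) (kg xg1 yg45 zg59) (kg xg1 yg53 zg17) (kg xg3 yg39 zg16) (kg xg7 yg16 zg38) (kg xg3 yg39 zg15) (kg xg7 yg16 zg39) (kg xg6 yg59 zg24) (kg xg3 yg23 zg47) (kg xg1 yg46 zg5) (kg xg7 yg6 zg22) (kg xg7 yg16 zg48) (kg xg5 yg13 zg37) (kg xg1 yg46 zg20) (kg xg1 yg46 zg7) (kg xg7 yg16 zg59) (kg xg1 yg46 zg18) (kg xg6 yg59 zg33) (kg xg3 yg24 zg37) (kg xg3 yg29 zg33) (kg xg3 yg49 zg49) (kg xg3 yg39 zg22) (kg xg1 yg46 zg11) (kg xg7 yg17 zg11) (kg xg7 yg17 zg14) (kg xg3 yg32 zg43) (kg xg7 yg17 zg17) (kg xg3 yg53 zg34) (kg xg3 yg31 zg21)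 (kg xg7 yg12 zg56) (kg xg4 yg2 zg6) (kg xg7 yg16 zg53) (kg xg1 yg46 zg16) (kg xg7 yg17 zg32) (kg xg5 yg53 zg50) (kg xg7 yg17 zg36) (kg xg7 yg17 zg40) (kg xg3 yg48 zg59) (kg xg6 yg15 zg5) (kg xg3 yg53 zg51) (kg xg7 yg17 zg50) (kg xg7 yg16 zg61) (kg xg1 yg46 zg19) (kg xg7 yg17 zg59) (kg xg7 yg8 zg43) (kg xg6 yg34 zg1) (kg xg6 yg34 zg2) (kg xg1 yg47 zg45) (kg xg3 yg35 zg17) (kg xg3 yg48 zg16) (kg xg1 yg46 zg26) (kg xg7 yg18 zg8) (kg xg7 yg18 zg12) (kg xg7 yg12 zg41) (kg xg7 yg18 zg18) (kg xg7 yg11 zg30) (kg xg7 yg18 zg21) (kg xg7 yg12 zg30) (kg xg7 yg18 zg13)) (@D3.rec (fun _ => Pt) (kg xg7 yg18 zg27) (kg xg7 yg13 zg39) (kg xg3 yg31 zg0) (kg xg3 yg24 zg59) (kg xg3 yg25 zg48) (kg xg1 yg49 zg35) (kg xg3 yg55 zg32) (kg xg1 yg46 zg31) (kg xg7 yg18 zg38) (kg xg7 yg18 zg41)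 (kg xg3 yg43 zg44) (kg xg1 yg46 zg32) (kg xg1 yg53 zg6) (kg xg1 yg53 zg7) (kg xg3 yg38 zg8) (kg xg1 yg46 zg35) (kg xg1 yg53 zg20) (kg xg1 yg46 zg36) (kg xg7 yg18 zg50) (kg xg3 yg53 zg47) (kg xg3 yg4 zg18) (kg xg1 yg46 zg38) (kg xg3 yg38 zg25) (kg xg7 yg18 zg58) (kg xg7 yg19 zg0) (kg xg3 yg36 zg12) (kg xg3 yg4 zg32) (kg xg1 yg46 zg40) (kg xg7 yg19 zg7) (kg xg6 yg58 zg24) (kg xg3 yg24 zg60) (kg xg7 yg17 zg27) (kg xg1 yg46 zg42) (kg xg7 yg19 zg18) (kg xg7 yg17 zg25) (kg xg7 yg19 zg22) (kg xg6 yg41 zg49) (kg xg7 yg6 zg19) (kg xg7 yg19 zg5) (kg xg1 yg53 zg33) (kg xg6 yg52 zg23) (kg xg7 yg11 zg48) (kg xg1 yg46 zg45) (kg xg7 yg19 zg39) (kg xg6 yg52 zg15) (kg xg7 yg19 zg43) (kg xg6 yg59 zg11) (kg xg7 yg3 zg41) (kg xg7 yg2 zg31) (kg xg7 yg6 zg4) (kg xg6 yg59 zg13) (kg xg7 yg19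 zg55) (kg xg7 yg19 zg57) (kg xg6 yg57 zg4) (kg xg1 yg48 zg42) (kg xg1 yg48 zg32) (kg xg1 yg48 zg36) (kg xg6 yg42 zg19) (kg xg7 yg20 zg3) (kg xg3 yg11 zg1) (kg xg3 yg25 zg6) (kg xg3 yg25 zg3)) (@D3.rec (fun _ => Pt) (kg xg3 yg10 zg54) (kg xg1 yg46 zg61) (kg xg6 yg9 zg19) (kg xg1 yg48 zg53) (kg xg1 yg53 zg51) (kg xg3 yg42 zg15) (kg xg1 yg47 zg1) (kg xg3 yg42 zg14) (kg xg6 yg13 zg55) (kg xg7 yg20 zg25) (kg xg1 yg47 zg2) (kg xg7 yg20 zg31) (kg xg3 yg42 zg44) (kg xg1 yg47 zg3) (kg xg7 yg20 zg40) (kg xg3 yg42 zg42) (kg xg3 yg55 zg6) (kg xg1 yg53 zg57) (kg xg3 yg35 zg5) (kg xg7 yg20 zg48) (kg xg3 yg25 zg17) (kg xg1 yg47 zg7) (kg xg7 yg20 zg53) (kg xg7 yg20 zg57) (kg xg7 yg20 zg61) (kg xg3 yg24 zg39) (kg xg3 yg26 zg18) (kg xg1 yg47 zg11) (kg xg3 yg23 zg49) (kg xg3 yg42 zg37)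 (kg xg3 yg42 zg11) (kg xg7 yg21 zg10) (kg xg7 yg21 zg12) (kg xg7 yg21 zg14) (kg xg1 yg54 zg47) (kg xg7 yg21 zg20) (kg xg1 yg47 zg15) (kg xg7 yg21 zg26) (kg xg7 yg21 zg28) (kg xg7 yg21 zg32) (kg xg1 yg47 zg17) (kg xg7 yg21 zg38) (kg xg1 yg47 zg43) (kg xg7 yg21 zg42) (kg xg3 yg43 zg31) (kg xg1 yg47 zg27) (kg xg1 yg47 zg47) (kg xg3 yg43 zg35) (kg xg1 yg47 zg22) (kg xg6 yg13 zg32) (kg xg7 yg21 zg52) (kg xg1 yg47 zg28) (kg xg1 yg47 zg23) (kg xg7 yg21 zg59) (kg xg3 yg31 zg37) (kg xg1 yg47 zg24) (kg xg7 yg22 zg6) (kg xg7 yg22 zg9) (kg xg7 yg4 zg12) (kg xg3 yg44 zg53) (kg xg1 yg47 zg26) (kg xg3 yg44 zg52)) (@D3.rec (fun _ => Pt) (kg xg3 yg43 zg47) (kg xg3 yg29 zg52) (kg xg7 yg22 zg17) (kg xg7 yg22 zg20) (kg xg7 yg22 zg23) (kg xg3 yg43 zg42) (kg xg1 yg47 zg29) (kg xg7 yg22 zg33)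 (kg xg3 yg43 zg40) (kg xg1 yg47 zg37) (kg xg3 yg43 zg56) (kg xg1 yg47 zg32) (kg xg3 yg43 zg55) (kg xg7 yg22 zg48) (kg xg7 yg22 zg52) (kg xg7 yg22 zg55) (kg xg7 yg22 zg59) (kg xg3 yg44 zg2) (kg xg1 yg47 zg35) (kg xg3 yg44 zg1) (kg xg7 yg23 zg5) (kg xg7 yg23 zg8) (kg xg7 yg23 zg12) (kg xg3 yg56 zg2) (kg xg3 yg31 zg42) (kg xg7 yg22 zg40) (kg xg2 yg26 zg40) (kg xg6 yg25 zg34) (kg xg7 yg23 zg26) (kg xg7 yg23 zg30) (kg xg7 yg23 zg34) (kg xg7 yg21 zg35) (kg xg1 yg47 zg41) (kg xg7 yg23 zg45) (kg xg7 yg21 zg33) (kg xg7 yg23 zg49) (kg xg7 yg23 zg53) (kg xg6 yg55 zg6) (kg xg7 yg23 zg0) (kg xg6 yg58 zg5) (kg xg7 yg4 zg42) (kg xg7 yg21 zg41) (kg xg1 yg47 zg44) (kg xg7 yg24 zg8) (kg xg7 yg21 zg39) (kg xg3 yg53 zg12) (kg xg6 yg54 zg36) (kg xg1 yg47 zg51) (kg xg7 yg24 zg16) (kg xg7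 yg24 zg20) (kg xg7 yg22 zg32) (kg xg7 yg11 zg35) (kg xg1 yg54 zg3) (kg xg3 yg24 zg40) (kg xg7 yg10 zg36) (kg xg7 yg24 zg33) (kg xg7 yg22 zg14) (kg xg7 yg24 zg21) (kg xg7 yg24 zg39) (kg xg7 yg24 zg26) (kg xg7 yg24 zg43) (kg xg7 yg24 zg47)) (@D3.rec (fun _ => Pt) (kg xg7 yg24 zg50) (kg xg7 yg24 zg51) (kg xg7 yg2 zg39) (kg xg4 yg41 zg50) (kg xg3 yg22 zg53) (kg xg7 yg24 zg56) (kg xg1 yg49 zg8) (kg xg3 yg21 zg14) (kg xg3 yg40 zg27) (kg xg7 yg24 zg61) (kg xg3 yg53 zg60) (kg xg1 yg48 zg18) (kg xg1 yg54 zg16) (kg xg3 yg40 zg7) (kg xg1 yg48 zg6) (kg xg3 yg40 zg6) (kg xg7 yg25 zg12) (kg xg7 yg25 zg15) (kg xg1 yg48 zg19) (kg xg1 yg48 zg7) (kg xg1 yg48 zg47) (kg xg7 yg25 zg23) (kg xg1 yg54 zg59) (kg xg1 yg48 zg8) (kg xg7 yg25 zg31) (kg xg3 yg49 zg11) (kg xg7 yg5 zg29) (kg xg7 yg25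 zg35) (kg xg6 yg53 zg42) (kg xg3 yg31 zg52) (kg xg7 yg25 zg39) (kg xg6 yg26 zg18) (kg xg3 yg35 zg9) (kg xg3 yg25 zg1) (kg xg1 yg48 zg17) (kg xg3 yg1 zg10) (kg xg3 yg40 zg30) (kg xg1 yg51 zg60) (kg xg7 yg25 zg52) (kg xg7 yg25 zg55) (kg xg7 yg25 zg58) (kg xg3 yg40 zg15) (kg xg1 yg48 zg20) (kg xg7 yg26 zg4) (kg xg3 yg40 zg13) (kg xg1 yg54 zg8) (kg xg7 yg26 zg9) (kg xg3 yg22 zg14) (kg xg3 yg25 zg11) (kg xg3 yg25 zg2) (kg xg1 yg48 zg26) (kg xg7 yg26 zg21) (kg xg6 yg54 zg8) (kg xg7 yg26 zg27) (kg xg1 yg48 zg28) (kg xg7 yg26 zg33) (kg xg7 yg26 zg35) (kg xg7 yg26 zg38) (kg xg6 yg58 zg2) (kg xg3 yg16 zg23) (kg xg7 yg26 zg42) (kg xg6 yg53 zg49)) (@D3.rec (fun _ => Pt) (kg xg2 yg30 zg48) (kg xg2 yg22 zg7) (kg xg3 yg24 zg21) (kg xg7 yg26 zg48) (kg xg6 yg49 zg30) (kg xg6 yg50 zg9)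 (kg xg3 yg22 zg4) (kg xg2 yg22 zg52) (kg xg1 yg48 zg38) (kg xg7 yg20 zg9) (kg xg7 yg26 zg59) (kg xg6 yg30 zg46) (kg xg5 yg6 zg35) (kg xg3 yg14 zg3) (kg xg4 yg45 zg32) (kg xg3 yg14 zg1) (kg xg7 yg27 zg8) (kg xg6 yg30 zg48) (kg xg7 yg27 zg13) (kg xg1 yg48 zg43) (kg xg2 yg17 zg38) (kg xg7 yg27 zg18) (kg xg7 yg27 zg4) (kg xg7 yg27 zg23) (kg xg3 yg2 zg45) (kg xg2 yg52 zg27) (kg xg5 yg14 zg30) (kg xg7 yg27 zg30) (kg xg1 yg52 zg22) (kg xg6 yg17 zg30) (kg xg7 yg27 zg35) (kg xg3 yg40 zg43) (kg xg1 yg49 zg14) (kg xg3 yg4 zg31) (kg xg1 yg48 zg52) (kg xg3 yg40 zg48) (kg xg4 yg0 zg9) (kg xg7 yg27 zg47) (kg xg7 yg27 zg51) (kg xg3 yg41 zg8) (kg xg1 yg48 zg54) (kg xg7 yg27 zg61) (kg xg3 yg41 zg6) (kg xg3 yg41 zg24) (kg xg3 yg39 zg11) (kg xg3 yg26 zg25) (kg xg3 yg41 zg1) (kg xg3 yg40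 zg45) (kg xg7 yg21 zg6) (kg xg7 yg28 zg13) (kg xg7 yg28 zg15) (kg xg3 yg31 zg22) (kg xg1 yg48 zg61) (kg xg7 yg28 zg24) (kg xg3 yg41 zg12) (kg xg1 yg49 zg0) (kg xg3 yg41 zg11) (kg xg7 yg28 zg35) (kg xg7 yg28 zg39) (kg xg7 yg28 zg43) (kg xg7 yg28 zg47) (kg xg3 yg41 zg9)) (@D3.rec (fun _ => Pt) (kg xg3 yg41 zg19) (kg xg1 yg49 zg3) (kg xg3 yg41 zg18) (kg xg7 yg28 zg55) (kg xg7 yg28 zg58) (kg xg3 yg56 zg26) (kg xg7 yg28 zg28) (kg xg7 yg29 zg5) (kg xg6 yg25 zg1) (kg xg4 yg57 zg28) (kg xg7 yg29 zg12) (kg xg7 yg29 zg15) (kg xg7 yg26 zg41) (kg xg1 yg49 zg9) (kg xg7 yg29 zg27) (kg xg7 yg26 zg39) (kg xg7 yg29 zg31) (kg xg7 yg5 zg17) (kg xg7 yg4 zg55) (kg xg7 yg28 zg52) (kg xg3 yg27 zg58) (kg xg3 yg31 zg31) (kg xg7 yg11 zg25) (kg xg1 yg49 zg12) (kg xg7 yg29 zg50) (kg xg3 yg30 zg54)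 (kg xg1 yg49 zg17) (kg xg7 yg29 zg55) (kg xg7 yg29 zg59) (kg xg7 yg28 zg23) (kg xg7 yg3 zg9) (kg xg7 yg28 zg9) (kg xg7 yg29 zg60) (kg xg7 yg30 zg9) (kg xg1 yg50 zg53) (kg xg1 yg49 zg20) (kg xg7 yg30 zg18) (kg xg1 yg52 zg51) (kg xg7 yg30 zg24) (kg xg1 yg52 zg53) (kg xg7 yg5 zg56) (kg xg7 yg8 zg54) (kg xg7 yg30 zg30) (kg xg7 yg4 zg10) (kg xg1 yg49 zg27) (kg xg1 yg51 zg2) (kg xg1 yg49 zg38) (kg xg1 yg49 zg37) (kg xg6 yg29 zg6) (kg xg7 yg30 zg36) (kg xg2 yg56 zg53) (kg xg6 yg31 zg18) (kg xg1 yg49 zg32) (kg xg3 yg40 zg60) (kg xg3 yg14 zg43) (kg xg1 yg49 zg33) (kg xg3 yg45 zg14) (kg xg7 yg30 zg47) (kg xg6 yg31 zg6) (kg xg7 yg30 zg50) (kg xg7 yg10 zg45) (kg xg7 yg30 zg55)) (@D3.rec (fun _ => Pt) (kg xg7 yg9 zg7) (kg xg3 yg29 zg30) (kg xg3 yg48 zg5) (kg xg7 yg3 zg19) (kg xg3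 yg20 zg24) (kg xg3 yg1 zg50) (kg xg3 yg18 zg42) (kg xg6 yg26 zg51) (kg xg3 yg1 zg36) (kg xg7 yg31 zg3) (kg xg3 yg1 zg55) (kg xg3 yg16 zg24) (kg xg7 yg31 zg10) (kg xg5 yg51 zg16) (kg xg3 yg29 zg18) (kg xg4 yg44 zg20) (kg xg1 yg49 zg46) (kg xg6 yg28 zg14) (kg xg7 yg31 zg20) (kg xg3 yg2 zg16) (kg xg6 yg26 zg54) (kg xg1 yg49 zg50) (kg xg6 yg11 zg9) (kg xg7 yg31 zg26) (kg xg7 yg31 zg29) (kg xg6 yg58 zg60) (kg xg1 yg49 zg52) (kg xg6 yg27 zg52) (kg xg6 yg58 zg58) (kg xg6 yg10 zg41) (kg xg1 yg49 zg53) (kg xg6 yg10 zg40) (kg xg7 yg31 zg42) (kg xg7 yg31 zg46) (kg xg6 yg10 zg37) (kg xg3 yg15 zg18) (kg xg6 yg29 zg58) (kg xg7 yg31 zg33) (kg xg7 yg0 zg18) (kg xg1 yg49 zg57) (kg xg7 yg0 zg17) (kg xg7 yg31 zg61) (kg xg7 yg32 zg3) (kg xg7 yg32 zg6) (kg xg7 yg32 zg9) (kg xg1 yg49 zg60)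 (kg xg3 yg26 zg3) (kg xg3 yg55 zg46) (kg xg7 yg32 zg15) (kg xg7 yg32 zg19) (kg xg7 yg7 zg27) (kg xg6 yg58 zg49) (kg xg7 yg32 zg26) (kg xg7 yg3 zg59) (kg xg7 yg32 zg32) (kg xg7 yg32 zg35) (kg xg1 yg50 zg3) (kg xg7 yg32 zg42) (kg xg7 yg32 zg33) (kg xg7 yg31 zg55) (kg xg6 yg39 zg51) (kg xg3 yg26 zg4)) (@D3.rec (fun _ => Pt) (kg xg7 yg32 zg53) (kg xg7 yg0 zg61) (kg xg1 yg50 zg6) (kg xg7 yg33 zg3) (kg xg7 yg0 zg59) (kg xg7 yg33 zg7) (kg xg3 yg53 zg20) (kg xg7 yg4 zg2) (kg xg3 yg26 zg5) (kg xg7 yg33 zg11) (kg xg7 yg3 zg30) (kg xg7 yg1 zg9) (kg xg1 yg50 zg9) (kg xg7 yg33 zg29) (kg xg7 yg1 zg7) (kg xg7 yg33 zg34) (kg xg3 yg52 zg9) (kg xg7 yg3 zg5) (kg xg3 yg52 zg10) (kg xg7 yg0 zg42) (kg xg1 yg50 zg15) (kg xg7 yg0 zg41) (kg xg7 yg33 zg46) (kg xg7 yg33 zg48) (kg xg7 yg17 zg28)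 (kg xg3 yg53 zg42) (kg xg7 yg3 zg38) (kg xg7 yg0 zg5) (kg xg2 yg19 zg40) (kg xg5 yg14 zg47) (kg xg7 yg33 zg54) (kg xg6 yg33 zg53) (kg xg7 yg22 zg10) (kg xg3 yg49 zg20) (kg xg7 yg33 zg61) (kg xg3 yg47 zg1) (kg xg7 yg0 zg8) (kg xg7 yg10 zg1) (kg xg4 yg47 zg47) (kg xg1 yg50 zg27) (kg xg6 yg0 zg9) (kg xg7 yg34 zg9) (kg xg7 yg10 zg2) (kg xg1 yg50 zg28) (kg xg7 yg34 zg18) (kg xg6 yg46 zg61) (kg xg1 yg50 zg29) (kg xg7 yg34 zg29) (kg xg7 yg0 zg32) (kg xg7 yg18 zg32) (kg xg3 yg32 zg33) (kg xg3 yg37 zg31) (kg xg7 yg31 zg56) (kg xg3 yg34 zg33) (kg xg7 yg0 zg11) (kg xg3 yg37 zg46) (kg xg1 yg50 zg32) (kg xg6 yg59 zg44) (kg xg7 yg34 zg47) (kg xg1 yg54 zg30) (kg xg1 yg53 zg18) (kg xg1 yg51 zg43)) (@D3.rec (fun _ => Pt) (kg xg1 yg51 zg42) (kg xg3 yg46 zg33) (kg xg7 yg34 zg54) (kg xg7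 yg34 zg57) (kg xg1 yg51 zg26) (kg xg7 yg35 zg1) (kg xg1 yg50 zg47) (kg xg3 yg37 zg35) (kg xg7 yg9 zg46) (kg xg1 yg50 zg41) (kg xg7 yg35 zg7) (kg xg7 yg35 zg10) (kg xg1 yg51 zg50) (kg xg1 yg50 zg44) (kg xg7 yg35 zg18) (kg xg1 yg52 zg8) (kg xg1 yg50 zg45) (kg xg1 yg52 zg7) (kg xg7 yg35 zg25) (kg xg7 yg35 zg29) (kg xg7 yg15 zg51) (kg xg1 yg51 zg30) (kg xg1 yg51 zg59) (kg xg1 yg50 zg48) (kg xg1 yg51 zg58) (kg xg6 yg10 zg42) (kg xg7 yg35 zg42) (kg xg7 yg35 zg45) (kg xg7 yg35 zg49) (kg xg7 yg35 zg36) (kg xg6 yg54 zg46) (kg xg6 yg51 zg32) (kg xg7 yg16 zg21) (kg xg7 yg35 zg59) (kg xg3 yg48 zg30) (kg xg3 yg29 zg3) (kg xg7 yg6 zg48) (kg xg6 yg39 zg45) (kg xg7 yg36 zg6) (kg xg3 yg26 zg12) (kg xg1 yg50 zg54) (kg xg7 yg36 zg16) (kg xg7 yg36 zg20) (kg xg7 yg36 zg9) (kg xg1 yg50 zg55)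 (kg xg7 yg36 zg31) (kg xg7 yg36 zg7) (kg xg1 yg52 zg37) (kg xg1 yg50 zg56) (kg xg7 yg36 zg43) (kg xg1 yg52 zg35) (kg xg7 yg36 zg47) (kg xg7 yg16 zg18) (kg xg3 yg52 zg58) (kg xg7 yg35 zg35) (kg xg3 yg25 zg24) (kg xg7 yg36 zg50) (kg xg3 yg46 zg18) (kg xg1 yg52 zg50) (kg xg1 yg50 zg59) (kg xg7 yg37 zg2) (kg xg1 yg52 zg48)) (@D3.rec (fun _ => Pt) (kg xg7 yg12 zg27) (kg xg1 yg51 zg3) (kg xg7 yg37 zg9) (kg xg7 yg37 zg12) (kg xg3 yg52 zg55) (kg xg3 yg44 zg61) (kg xg4 yg47 zg49) (kg xg7 yg37 zg13) (kg xg7 yg33 zg23) (kg xg1 yg51 zg11) (kg xg1 yg51 zg10) (kg xg3 yg27 zg11) (kg xg1 yg51 zg6) (kg xg7 yg37 zg26) (kg xg7 yg37 zg29) (kg xg7 yg37 zg33) (kg xg7 yg37 zg36) (kg xg3 yg35 zg35) (kg xg3 yg38 zg52) (kg xg3 yg33 zg1) (kg xg7 yg7 zg30) (kg xg1 yg51 zg12) (kg xg7 yg7 zg29)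 (kg xg7 yg37 zg47) (kg xg7 yg37 zg51) (kg xg1 yg53 zg21) (kg xg1 yg51 zg14) (kg xg3 yg26 zg48) (kg xg7 yg37 zg57) (kg xg7 yg3 zg34) (kg xg3 yg47 zg30) (kg xg1 yg52 zg61) (kg xg7 yg38 zg2) (kg xg6 yg17 zg46) (kg xg5 yg28 zg2) (kg xg1 yg51 zg19) (kg xg5 yg28 zg1) (kg xg7 yg38 zg3) (kg xg7 yg37 zg42) (kg xg7 yg38 zg18) (kg xg3 yg26 zg49) (kg xg6 yg28 zg32) (kg xg7 yg34 zg60) (kg xg1 yg51 zg22) (kg xg7 yg38 zg34) (kg xg7 yg34 zg58) (kg xg7 yg38 zg38) (kg xg7 yg3 zg54) (kg xg1 yg53 zg13) (kg xg3 yg26 zg50) (kg xg7 yg38 zg42) (kg xg3 yg33 zg16) (kg xg7 yg15 zg27) (kg xg1 yg51 zg25) (kg xg7 yg15 zg3) (kg xg7 yg35 zg2) (kg xg7 yg35 zg58) (kg xg7 yg2 zg48) (kg xg1 yg52 zg46) (kg xg7 yg39 zg4) (kg xg7 yg39 zg1) (kg xg7 yg6 zg54)) (@D3.rec (fun _ => Pt) (kg xg3 yg38 zg40) (kg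 xg1 yg51 zg33) (kg xg3 yg55 zg28) (kg xg1 yg51 zg38) (kg xg7 yg13 zg24) (kg xg1 yg51 zg34) (kg xg7 yg13 zg23) (kg xg6 yg15 zg20) (kg xg7 yg39 zg15) (kg xg7 yg8 zg22) (kg xg7 yg39 zg20) (kg xg3 yg34 zg18) (kg xg3 yg48 zg0) (kg xg7 yg39 zg10) (kg xg1 yg51 zg39) (kg xg3 yg30 zg57) (kg xg7 yg39 zg9) (kg xg7 yg21 zg0) (kg xg7 yg37 zg10) (kg xg7 yg30 zg27) (kg xg3 yg46 zg35) (kg xg7 yg8 zg33) (kg xg3 yg15 zg0) (kg xg1 yg51 zg44) (kg xg7 yg39 zg36) (kg xg7 yg39 zg41) (kg xg7 yg39 zg33) (kg xg1 yg51 zg45) (kg xg7 yg39 zg49) (kg xg7 yg39 zg31) (kg xg7 yg35 zg13) (kg xg1 yg51 zg46) (kg xg7 yg39 zg61) (kg xg7 yg35 zg11) (kg xg7 yg11 zg2) (kg xg3 yg37 zg21) (kg xg7 yg9 zg29) (kg xg7 yg37 zg43) (kg xg7 yg9 zg45) (kg xg3 yg48 zg4) (kg xg7 yg9 zg49) (kg xg1 yg51 zg49) (kg xg7 yg40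 zg20) (kg xg7 yg35 zg19) (kg xg7 yg30 zg14) (kg xg7 yg9 zg55) (kg xg6 yg57 zg17) (kg xg7 yg8 zg57) (kg xg7 yg8 zg61) (kg xg3 yg39 zg3) (kg xg7 yg9 zg50) (kg xg1 yg51 zg55) (kg xg7 yg40 zg37) (kg xg7 yg7 zg0) (kg xg7 yg19 zg48) (kg xg7 yg40 zg44) (kg xg7 yg1 zg18) (kg xg7 yg40 zg49) (kg xg7 yg35 zg52) (kg xg7 yg40 zg45) (kg xg1 yg52 zg28) (kg xg1 yg52 zg39)) (@D3.rec (fun _ => Pt) (kg xg7 yg31 zg13) (kg xg7 yg40 zg60) (kg xg3 yg43 zg48) (kg xg7 yg41 zg4) (kg xg1 yg51 zg61) (kg xg7 yg41 zg10) (kg xg7 yg41 zg12) (kg xg7 yg41 zg1) (kg xg1 yg52 zg0) (kg xg7 yg41 zg24) (kg xg7 yg40 zg61) (kg xg3 yg26 zg23) (kg xg3 yg26 zg22) (kg xg7 yg30 zg13) (kg xg7 yg41 zg30) (kg xg7 yg35 zg32) (kg xg1 yg52 zg3) (kg xg7 yg41 zg40) (kg xg7 yg35 zg30) (kg xg7 yg15 zg48) (kg xg7 yg41 zg46)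 (kg xg7 yg13 zg16) (kg xg7 yg14 zg3) (kg xg7 yg36 zg48) (kg xg3 yg27 zg1) (kg xg1 yg52 zg30) (kg xg7 yg30 zg22) (kg xg3 yg26 zg28) (kg xg7 yg41 zg61) (kg xg1 yg52 zg9) (kg xg2 yg14 zg32) (kg xg7 yg38 zg7) (kg xg2 yg50 zg2) (kg xg1 yg52 zg10) (kg xg7 yg42 zg10) (kg xg7 yg42 zg2) (kg xg1 yg52 zg11) (kg xg7 yg42 zg19) (kg xg7 yg42 zg0) (kg xg7 yg35 zg48) (kg xg1 yg52 zg13) (kg xg7 yg42 zg28) (kg xg7 yg35 zg46) (kg xg7 yg9 zg53) (kg xg1 yg52 zg14) (kg xg7 yg42 zg35) (kg xg7 yg24 zg49) (kg xg1 yg52 zg16) (kg xg3 yg27 zg0) (kg xg6 yg33 zg23) (kg xg7 yg42 zg45) (kg xg7 yg42 zg48) (kg xg7 yg42 zg51) (kg xg7 yg42 zg53) (kg xg1 yg52 zg27) (kg xg1 yg52 zg20) (kg xg7 yg42 zg61) (kg xg1 yg52 zg25) (kg xg7 yg41 zg54) (kg xg7 yg43 zg5) (kg xg3 yg23 zg42) (kg xg7 yg43 zg9)) (@D3.rec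 (fun _ => Pt) (kg xg7 yg43 zg13) (kg xg7 yg42 zg56) (kg xg1 yg52 zg23) (kg xg7 yg43 zg25) (kg xg7 yg42 zg54) (kg xg7 yg43 zg28) (kg xg7 yg43 zg32) (kg xg7 yg11 zg6) (kg xg7 yg37 zg24) (kg xg7 yg43 zg33) (kg xg7 yg43 zg2) (kg xg1 yg52 zg26) (kg xg7 yg43 zg48) (kg xg7 yg43 zg0) (kg xg7 yg1 zg22) (kg xg7 yg43 zg55) (kg xg7 yg43 zg59) (kg xg7 yg1 zg44) (kg xg1 yg52 zg29) (kg xg7 yg44 zg5) (kg xg7 yg1 zg42) (kg xg6 yg0 zg1) (kg xg7 yg44 zg10) (kg xg7 yg1 zg30) (kg xg1 yg52 zg31) (kg xg7 yg44 zg18) (kg xg7 yg1 zg28) (kg xg6 yg35 zg50) (kg xg1 yg52 zg32) (kg xg6 yg35 zg53) (kg xg7 yg44 zg27) (kg xg6 yg39 zg60) (kg xg1 yg52 zg33) (kg xg7 yg44 zg35) (kg xg6 yg40 zg0) (kg xg7 yg44 zg39) (kg xg7 yg44 zg44) (kg xg7 yg44 zg48) (kg xg7 yg44 zg17) (kg xg6 yg0 zg4) (kg xg6 yg34 zg30)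 (kg xg7 yg44 zg49) (kg xg7 yg45 zg1) (kg xg7 yg36 zg46) (kg xg1 yg52 zg36) (kg xg7 yg45 zg12) (kg xg7 yg36 zg44) (kg xg6 yg39 zg48) (kg xg6 yg39 zg50) (kg xg1 yg52 zg38) (kg xg7 yg45 zg27) (kg xg7 yg36 zg54) (kg xg7 yg36 zg53) (kg xg7 yg25 zg57) (kg xg7 yg45 zg36) (kg xg7 yg45 zg40) (kg xg1 yg52 zg44) (kg xg3 yg27 zg42) (kg xg6 yg57 zg19) (kg xg6 yg57 zg16) (kg xg1 yg52 zg45) (kg xg1 yg52 zg41)) (@D3.rec (fun _ => Pt) (kg xg7 yg45 zg51) (kg xg7 yg45 zg55) (kg xg3 yg29 zg8) (kg xg3 yg52 zg57) (kg xg1 yg52 zg43) (kg xg7 yg35 zg23) (kg xg5 yg48 zg21) (kg xg7 yg46 zg3) (kg xg7 yg45 zg52) (kg xg3 yg42 zg1) (kg xg3 yg25 zg12) (kg xg7 yg45 zg31) (kg xg7 yg46 zg10) (kg xg7 yg3 zg31) (kg xg7 yg46 zg14) (kg xg7 yg41 zg52) (kg xg7 yg46 zg11) (kg xg3 yg37 zg57) (kg xg7 yg46 zg24)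 (kg xg7 yg2 zg58) (kg xg1 yg52 zg49) (kg xg7 yg46 zg32) (kg xg7 yg2 zg56) (kg xg7 yg37 zg3) (kg xg7 yg46 zg39) (kg xg7 yg2 zg38) (kg xg7 yg40 zg51) (kg xg7 yg46 zg45) (kg xg7 yg10 zg18) (kg xg7 yg35 zg22) (kg xg7 yg46 zg46) (kg xg7 yg30 zg26) (kg xg1 yg52 zg54) (kg xg7 yg46 zg59) (kg xg3 yg52 zg44) (kg xg3 yg52 zg40) (kg xg7 yg47 zg1) (kg xg7 yg19 zg60) (kg xg3 yg38 zg1) (kg xg3 yg52 zg35) (kg xg1 yg52 zg58) (kg xg3 yg56 zg49) (kg xg3 yg41 zg54) (kg xg3 yg52 zg34) (kg xg1 yg52 zg59) (kg xg7 yg47 zg9) (kg xg7 yg3 zg56) (kg xg7 yg37 zg18) (kg xg7 yg37 zg17) (kg xg7 yg47 zg20) (kg xg7 yg47 zg24) (kg xg1 yg53 zg12) (kg xg1 yg53 zg0) (kg xg7 yg45 zg47) (kg xg7 yg47 zg36) (kg xg1 yg53 zg1) (kg xg3 yg45 zg44) (kg xg3 yg47 zg53) (kg xg3 yg52 zg3) (kg xg1 yg53 zg14) (kg xg1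 yg53 zg4) (kg xg7 yg47 zg50)) (@D3.rec (fun _ => Pt) (kg xg7 yg3 zg21) (kg xg3 yg48 zg48) (kg xg3 yg49 zg12) (kg xg3 yg41 zg45) (kg xg7 yg39 zg11) (kg xg7 yg47 zg61) (kg xg3 yg56 zg51) (kg xg7 yg18 zg46) (kg xg1 yg53 zg9) (kg xg3 yg37 zg27) (kg xg7 yg47 zg56) (kg xg1 yg53 zg10) (kg xg7 yg8 zg38) (kg xg1 yg53 zg11) (kg xg7 yg7 zg52) (kg xg7 yg48 zg8) (kg xg7 yg48 zg12) (kg xg7 yg45 zg49) (kg xg7 yg48 zg17) (kg xg3 yg53 zg1) (kg xg3 yg46 zg9) (kg xg7 yg33 zg27) (kg xg7 yg48 zg23) (kg xg7 yg0 zg23) (kg xg7 yg6 zg38) (kg xg3 yg54 zg38) (kg xg6 yg43 zg28) (kg xg7 yg48 zg30) (kg xg7 yg9 zg32) (kg xg7 yg34 zg50) (kg xg7 yg48 zg31) (kg xg7 yg6 zg60) (kg xg7 yg7 zg14) (kg xg7 yg7 zg23) (kg xg7 yg19 zg3) (kg xg4 yg43 zg22) (kg xg6 yg24 zg3) (kg xg7 yg48 zg49) (kg xg3 yg35 zg19)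 (kg xg7 yg48 zg52) (kg xg3 yg51 zg59) (kg xg7 yg48 zg55) (kg xg6 yg59 zg20) (kg xg7 yg7 zg43) (kg xg7 yg49 zg0) (kg xg3 yg39 zg19) (kg xg7 yg49 zg5) (kg xg3 yg35 zg30) (kg xg3 yg28 zg3) (kg xg1 yg53 zg32) (kg xg6 yg58 zg38) (kg xg3 yg38 zg39) (kg xg6 yg41 zg48) (kg xg7 yg49 zg18) (kg xg1 yg53 zg34) (kg xg7 yg49 zg23) (kg xg7 yg49 zg27) (kg xg1 yg53 zg36) (kg xg7 yg49 zg33) (kg xg1 yg53 zg47) (kg xg7 yg20 zg17) (kg xg3 yg42 zg10)) (@D3.rec (fun _ => Pt) (kg xg3 yg25 zg53) (kg xg1 yg54 zg34) (kg xg3 yg54 zg60) (kg xg1 yg53 zg40) (kg xg3 yg54 zg59) (kg xg7 yg49 zg45) (kg xg7 yg49 zg49) (kg xg3 yg42 zg45) (kg xg3 yg55 zg3) (kg xg1 yg53 zg42) (kg xg3 yg55 zg2) (kg xg7 yg49 zg55) (kg xg7 yg4 zg45) (kg xg7 yg49 zg60) (kg xg7 yg50 zg1) (kg xg7 yg49 zg30) (kg xg1 yg53 zg45)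 (kg xg7 yg50 zg10) (kg xg7 yg49 zg28) (kg xg7 yg50 zg14) (kg xg7 yg50 zg18) (kg xg3 yg56 zg33) (kg xg7 yg49 zg52) (kg xg7 yg16 zg36) (kg xg1 yg54 zg42) (kg xg7 yg49 zg35) (kg xg1 yg53 zg48) (kg xg7 yg50 zg34) (kg xg7 yg29 zg37) (kg xg7 yg3 zg46) (kg xg1 yg53 zg55) (kg xg7 yg50 zg42) (kg xg7 yg50 zg46) (kg xg6 yg57 zg41) (kg xg1 yg53 zg56) (kg xg7 yg50 zg53) (kg xg1 yg54 zg32) (kg xg7 yg18 zg3) (kg xg6 yg30 zg43) (kg xg7 yg21 zg7) (kg xg7 yg50 zg47) (kg xg7 yg51 zg4) (kg xg7 yg50 zg54) (kg xg3 yg38 zg2) (kg xg1 yg54 zg43) (kg xg7 yg15 zg41) (kg xg7 yg14 zg56) (kg xg1 yg53 zg60) (kg xg7 yg21 zg24) (kg xg7 yg51 zg16) (kg xg7 yg51 zg20) (kg xg1 yg54 zg0) (kg xg7 yg51 zg26) (kg xg1 yg54 zg12) (kg xg7 yg25 zg6) (kg xg3 yg26 zg42) (kg xg6 yg52 zg1) (kg xg1 yg54 zg21) (kg xg3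 yg54 zg4) (kg xg1 yg54 zg5) (kg xg3 yg54 zg3) (kg xg7 yg51 zg38)) (@D3.rec (fun _ => Pt) (kg xg7 yg51 zg41) (kg xg3 yg54 zg10) (kg xg1 yg54 zg7) (kg xg3 yg54 zg9) (kg xg7 yg51 zg47) (kg xg7 yg51 zg51) (kg xg1 yg55 zg1) (kg xg7 yg51 zg55) (kg xg7 yg51 zg59) (kg xg7 yg51 zg23) (kg xg1 yg54 zg10) (kg xg7 yg52 zg9) (kg xg7 yg51 zg21) (kg xg7 yg52 zg13) (kg xg7 yg52 zg15) (kg xg7 yg51 zg44) (kg xg7 yg11 zg19) (kg xg1 yg54 zg56) (kg xg7 yg51 zg28) (kg xg1 yg54 zg13) (kg xg7 yg52 zg28) (kg xg7 yg23 zg56) (kg xg1 yg54 zg18) (kg xg7 yg52 zg36) (kg xg7 yg52 zg39) (kg xg7 yg25 zg49) (kg xg7 yg52 zg40) (kg xg7 yg52 zg47) (kg xg3 yg49 zg16) (kg xg7 yg52 zg49) (kg xg6 yg53 zg52) (kg xg6 yg54 zg9) (kg xg3 yg31 zg35) (kg xg7 yg51 zg33) (kg xg1 yg54 zg22) (kg xg3 yg27 zg7) (kg xg7 yg51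 zg31) (kg xg7 yg52 zg61) (kg xg3 yg39 zg37) (kg xg3 yg24 zg35) (kg xg1 yg54 zg37) (kg xg3 yg12 zg48) (kg xg7 yg53 zg7) (kg xg3 yg26 zg55) (kg xg1 yg54 zg28) (kg xg7 yg53 zg14) (kg xg6 yg53 zg57) (kg xg7 yg40 zg3) (kg xg3 yg30 zg6) (kg xg7 yg53 zg19) (kg xg3 yg26 zg36) (kg xg7 yg53 zg24) (kg xg7 yg28 zg6) (kg xg7 yg48 zg38) (kg xg3 yg34 zg12) (kg xg1 yg54 zg40) (kg xg7 yg47 zg15) (kg xg7 yg53 zg34) (kg xg7 yg26 zg10) (kg xg7 yg37 zg56) (kg xg7 yg53 zg35) (kg xg7 yg10 zg8)) (@D3.rec (fun _ => Pt) (kg xg7 yg20 zg37) (kg xg7 yg20 zg46) (kg xg7 yg28 zg50) (kg xg7 yg49 zg32) (kg xg7 yg53 zg48) (kg xg7 yg53 zg52) (kg xg3 yg52 zg28) (kg xg7 yg53 zg56) (kg xg7 yg21 zg21) (kg xg7 yg54 zg0) (kg xg3 yg56 zg38) (kg xg3 yg55 zg17) (kg xg3 yg56 zg22) (kg xg7 yg54 zg4) (kg xg3 yg27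 zg43) (kg xg7 yg49 zg58) (kg xg7 yg54 zg10) (kg xg3 yg56 zg32) (kg xg1 yg54 zg53) (kg xg7 yg54 zg20) (kg xg7 yg54 zg24) (kg xg3 yg56 zg12) (kg xg1 yg54 zg54) (kg xg3 yg41 zg16) (kg xg6 yg57 zg44) (kg xg3 yg56 zg11) (kg xg7 yg4 zg33) (kg xg7 yg54 zg36) (kg xg7 yg21 zg19) (kg xg7 yg54 zg41) (kg xg7 yg25 zg32) (kg xg7 yg51 zg14) (kg xg3 yg56 zg18) (kg xg6 yg58 zg3) (kg xg7 yg54 zg50) (kg xg7 yg5 zg9) (kg xg7 yg54 zg56) (kg xg3 yg56 zg10) (kg xg1 yg55 zg2) (kg xg7 yg54 zg25) (kg xg7 yg55 zg6) (kg xg6 yg58 zg4) (kg xg1 yg55 zg3) (kg xg7 yg21 zg37) (kg xg3 yg51 zg7) (kg xg6 yg52 zg31) (kg xg2 yg45 zg55) (kg xg3 yg25 zg4) (kg xg6 yg52 zg54) (kg xg3 yg27 zg24) (kg xg7 yg45 zg45) (kg xg7 yg9 zg24) (kg xg2 yg8 zg14) (kg xg1 yg55 zg10) (kg xg4 yg50 zg54) (kg xg2 yg8 zg12) (kg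 xg2 yg38 zg22) (kg xg2 yg58 zg36) (kg xg1 yg55 zg13) (kg xg4 yg4 zg46) (kg xg7 yg55 zg35) (kg xg2 yg8 zg18)) (@D3.rec (fun _ => Pt) (kg xg4 yg12 zg42) (kg xg7 yg55 zg40) (kg xg4 yg10 zg36) (kg xg7 yg55 zg45) (kg xg7 yg55 zg48) (kg xg2 yg8 zg33) (kg xg1 yg55 zg19) (kg xg7 yg55 zg56) (kg xg4 yg56 zg55) (kg xg2 yg8 zg30) (kg xg7 yg56 zg1) (kg xg2 yg3 zg18) (kg xg7 yg56 zg5) (kg xg4 yg18 zg56) (kg xg4 yg3 zg52) (kg xg4 yg19 zg1) (kg xg1 yg59 zg15) (kg xg7 yg56 zg12) (kg xg4 yg0 zg5) (kg xg3 yg4 zg34) (kg xg7 yg7 zg39) (kg xg4 yg22 zg28) (kg xg4 yg0 zg2) (kg xg7 yg7 zg58) (kg xg4 yg22 zg27) (kg xg2 yg46 zg29) (kg xg4 yg19 zg20) (kg xg3 yg10 zg9) (kg xg1 yg55 zg31) (kg xg4 yg32 zg50) (kg xg7 yg56 zg25) (kg xg5 yg41 zg46) (kg xg2 yg9 zg15) (kg xg1 yg55 zg32) (kg xg4 yg56 zg47)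 (kg xg7 yg56 zg36) (kg xg2 yg9 zg12) (kg xg2 yg9 zg36) (kg xg1 yg55 zg34) (kg xg7 yg56 zg42) (kg xg7 yg56 zg45) (kg xg2 yg9 zg51) (kg xg1 yg55 zg37) (kg xg2 yg9 zg50) (kg xg4 yg24 zg12) (kg xg7 yg56 zg53) (kg xg2 yg10 zg4) (kg xg1 yg55 zg39) (kg xg7 yg56 zg59) (kg xg7 yg57 zg0) (kg xg2 yg29 zg56) (kg xg4 yg36 zg6) (kg xg5 yg47 zg19) (kg xg5 yg13 zg58) (kg xg4 yg25 zg14) (kg xg3 yg4 zg2) (kg xg2 yg52 zg46) (kg xg4 yg26 zg36) (kg xg4 yg26 zg37) (kg xg1 yg55 zg45) (kg xg7 yg57 zg19) (kg xg7 yg57 zg22)) (@D3.rec (fun _ => Pt) (kg xg2 yg10 zg34) (kg xg1 yg55 zg46) (kg xg2 yg10 zg33) (kg xg4 yg6 zg32) (kg xg7 yg57 zg31) (kg xg5 yg21 zg21) (kg xg2 yg7 zg15) (kg xg2 yg44 zg7) (kg xg1 yg56 zg2) (kg xg1 yg55 zg52) (kg xg4 yg28 zg4) (kg xg1 yg56 zg0) (kg xg2 yg45 zg26) (kg xg2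 yg31 zg34) (kg xg4 yg18 zg42) (kg xg4 yg18 zg55) (kg xg1 yg55 zg59) (kg xg7 yg57 zg56) (kg xg7 yg57 zg61) (kg xg1 yg59 zg42) (kg xg5 yg29 zg54) (kg xg5 yg29 zg44) (kg xg7 yg57 zg57) (kg xg2 yg45 zg46) (kg xg2 yg45 zg21) (kg xg7 yg58 zg11) (kg xg7 yg58 zg15) (kg xg4 yg7 zg29) (kg xg5 yg21 zg18) (kg xg7 yg58 zg22) (kg xg7 yg57 zg47) (kg xg1 yg56 zg1) (kg xg7 yg58 zg32) (kg xg7 yg58 zg36) (kg xg4 yg4 zg0) (kg xg7 yg58 zg42) (kg xg5 yg35 zg12) (kg xg7 yg58 zg46) (kg xg2 yg25 zg48) (kg xg1 yg56 zg4) (kg xg2 yg25 zg46) (kg xg2 yg25 zg54) (kg xg1 yg56 zg5) (kg xg2 yg25 zg53) (kg xg5 yg31 zg29) (kg xg1 yg56 zg6) (kg xg5 yg31 zg28) (kg xg5 yg48 zg44) (kg xg5 yg46 zg11) (kg xg1 yg59 zg61) (kg xg1 yg56 zg8) (kg xg4 yg34 zg17) (kg xg6 yg14 zg16) (kg xg2 yg26 zg10) (kg xg1 yg56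 zg12) (kg xg2 yg26 zg9) (kg xg1 yg56 zg15) (kg xg1 yg56 zg18) (kg xg2 yg46 zg22) (kg xg7 yg59 zg12) (kg xg5 yg37 zg40) (kg xg5 yg41 zg35)) (@D3.rec (fun _ => Pt) (kg xg1 yg56 zg16) (kg xg5 yg42 zg39) (kg xg7 yg59 zg13) (kg xg2 yg46 zg16) (kg xg2 yg46 zg40) (kg xg7 yg59 zg29) (kg xg7 yg59 zg8) (kg xg1 yg56 zg17) (kg xg7 yg59 zg35) (kg xg7 yg59 zg42) (kg xg7 yg59 zg30) (kg xg4 yg29 zg20) (kg xg4 yg33 zg45) (kg xg2 yg26 zg48) (kg xg1 yg56 zg20) (kg xg2 yg26 zg47) (kg xg7 yg59 zg51) (kg xg2 yg52 zg23) (kg xg2 yg59 zg43) (kg xg1 yg56 zg27) (kg xg1 yg56 zg23) (kg xg2 yg15 zg8) (kg xg6 yg15 zg55) (kg xg7 yg59 zg59) (kg xg6 yg15 zg57) (kg xg6 yg30 zg32) (kg xg5 yg14 zg31) (kg xg2 yg14 zg27) (kg xg2 yg14 zg51) (kg xg5 yg47 zg44) (kg xg5 yg56 zg21) (kg xg1 yg57 zg10) (kg xg6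 yg24 zg31) (kg xg2 yg53 zg6) (kg xg8 yg0 zg0) (kg xg2 yg52 zg37) (kg xg1 yg56 zg29) (kg xg2 yg52 zg50) (kg xg2 yg14 zg41) (kg xg3 yg23 zg35) (kg xg8 yg0 zg22) (kg xg2 yg51 zg18) (kg xg8 yg0 zg26) (kg xg6 yg26 zg34) (kg xg5 yg56 zg0) (kg xg8 yg0 zg27) (kg xg2 yg51 zg25) (kg xg3 yg23 zg36) (kg xg6 yg25 zg51) (kg xg8 yg0 zg40) (kg xg8 yg0 zg24) (kg xg1 yg56 zg34) (kg xg8 yg0 zg23) (kg xg8 yg0 zg51) (kg xg5 yg52 zg50) (kg xg2 yg51 zg30) (kg xg2 yg51 zg17) (kg xg8 yg0 zg56) (kg xg2 yg33 zg17) (kg xg8 yg0 zg61) (kg xg2 yg45 zg14) (kg xg1 yg56 zg46))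
def f_g_4 : D2 → D3 → Pt := @D2.rec (fun _ => D3 → Pt) (@D3.rec (fun _ => Pt) (kg xg3 yg57 zg22) (kg xg5 yg46 zg44) (kg xg4 yg22 zg61) (kg xg4 yg53 zg14) (kg xg8 yg1 zg10) (kg xg2 yg26 zg18) (kg xg3 yg10 zg4) (kg xg4 yg24 zg41) (kg xg3 yg3 zg49) (kg xg6 yg15 zg6) (kg xg8 yg1 zg18) (kg xg4 yg0 zg57) (kg xg1 yg56 zg53) (kg xg4 yg0 zg56) (kg xg4 yg18 zg36) (kg xg4 yg52 zg15) (kg xg2 yg35 zg20) (kg xg8 yg1 zg32) (kg xg8 yg1 zg34) (kg xg4 yg21 zg33) (kg xg2 yg24 zg22) (kg xg4 yg52 zg5) (kg xg8 yg1 zg41) (kg xg3 yg10 zg25) (kg xg2 yg18 zg52) (kg xg8 yg1 zg44) (kg xg1 yg56 zg60) (kg xg8 yg1 zg45) (kg xg8 yg1 zg53) (kg xg7 yg59 zg24) (kg xg4 yg21 zg42) (kg xg8 yg1 zg61) (kg xg2 yg8 zg51) (kg xg2 yg10 zg41) (kg xg3 yg3 zg44) (kg xg1 yg57 zg2) (kg xg3 yg3 zg43) (kg xg6 yg13 zg46)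 (kg xg5 yg49 zg41) (kg xg1 yg57 zg9) (kg xg1 yg57 zg12) (kg xg8 yg2 zg11) (kg xg5 yg43 zg56) (kg xg8 yg2 zg15) (kg xg2 yg15 zg5) (kg xg7 yg56 zg58) (kg xg4 yg23 zg48) (kg xg4 yg58 zg4) (kg xg8 yg2 zg22) (kg xg8 yg2 zg9) (kg xg1 yg57 zg11) (kg xg8 yg2 zg27) (kg xg5 yg49 zg22) (kg xg8 yg2 zg21) (kg xg4 yg26 zg44) (kg xg4 yg0 zg13) (kg xg1 yg57 zg14) (kg xg4 yg0 zg12) (kg xg8 yg2 zg40) (kg xg1 yg57 zg17) (kg xg2 yg25 zg33) (kg xg5 yg1 zg23)) (@D3.rec (fun _ => Pt) (kg xg2 yg23 zg33) (kg xg1 yg58 zg37) (kg xg4 yg14 zg21) (kg xg1 yg58 zg35) (kg xg4 yg10 zg4) (kg xg2 yg4 zg47) (kg xg8 yg2 zg56) (kg xg2 yg4 zg2) (kg xg8 yg3 zg0) (kg xg8 yg3 zg3) (kg xg8 yg3 zg6) (kg xg1 yg57 zg29) (kg xg5 yg8 zg32) (kg xg8 yg3 zg11) (kg xg2 yg4 zg3) (kg xg2 yg0 zg1) (kg xg1 yg57 zg33) (kg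 xg4 yg13 zg35) (kg xg4 yg24 zg10) (kg xg5 yg8 zg34) (kg xg8 yg3 zg20) (kg xg5 yg7 zg15) (kg xg1 yg59 zg34) (kg xg8 yg3 zg25) (kg xg5 yg13 zg44) (kg xg4 yg42 zg35) (kg xg8 yg3 zg28) (kg xg4 yg58 zg12) (kg xg6 yg24 zg30) (kg xg8 yg3 zg35) (kg xg4 yg24 zg13) (kg xg8 yg3 zg36) (kg xg4 yg22 zg36) (kg xg2 yg7 zg35) (kg xg4 yg2 zg25) (kg xg1 yg57 zg45) (kg xg5 yg9 zg21) (kg xg8 yg3 zg52) (kg xg4 yg2 zg22) (kg xg8 yg3 zg56) (kg xg1 yg57 zg48) (kg xg5 yg12 zg51) (kg xg5 yg2 zg42) (kg xg8 yg3 zg8) (kg xg8 yg4 zg6) (kg xg2 yg7 zg39) (kg xg4 yg54 zg4) (kg xg4 yg2 zg41) (kg xg5 yg3 zg36) (kg xg2 yg4 zg10) (kg xg1 yg58 zg14) (kg xg8 yg4 zg19) (kg xg2 yg31 zg48) (kg xg1 yg57 zg53) (kg xg8 yg4 zg27) (kg xg8 yg4 zg32) (kg xg2 yg31 zg45) (kg xg5 yg2 zg3) (kg xg1 yg57 zg61) (kg xg1 yg57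 zg55) (kg xg5 yg2 zg17) (kg xg8 yg4 zg39)) (@D3.rec (fun _ => Pt) (kg xg1 yg59 zg31) (kg xg1 yg59 zg29) (kg xg1 yg58 zg1) (kg xg4 yg4 zg59) (kg xg8 yg3 zg59) (kg xg8 yg4 zg46) (kg xg3 yg39 zg34) (kg xg2 yg4 zg6) (kg xg8 yg3 zg16) (kg xg8 yg2 zg4) (kg xg5 yg13 zg2) (kg xg4 yg22 zg38) (kg xg8 yg4 zg54) (kg xg8 yg3 zg15) (kg xg8 yg3 zg14) (kg xg4 yg56 zg38) (kg xg8 yg0 zg60) (kg xg1 yg58 zg8) (kg xg8 yg4 zg60) (kg xg8 yg5 zg9) (kg xg8 yg5 zg3) (kg xg4 yg1 zg38) (kg xg1 yg58 zg9) (kg xg8 yg4 zg33) (kg xg8 yg5 zg21) (kg xg4 yg1 zg35) (kg xg2 yg49 zg4) (kg xg8 yg5 zg26) (kg xg8 yg5 zg29) (kg xg8 yg5 zg32) (kg xg8 yg3 zg61) (kg xg2 yg31 zg42) (kg xg8 yg5 zg39) (kg xg5 yg15 zg11) (kg xg1 yg58 zg17) (kg xg2 yg28 zg29) (kg xg2 yg36 zg31) (kg xg8 yg5 zg48) (kg xg8 yg5 zg51) (kg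 xg8 yg5 zg54) (kg xg5 yg8 zg38) (kg xg4 yg1 zg50) (kg xg8 yg5 zg61) (kg xg2 yg41 zg4) (kg xg2 yg35 zg26) (kg xg2 yg41 zg17) (kg xg5 yg28 zg9) (kg xg2 yg11 zg29) (kg xg2 yg42 zg20) (kg xg2 yg5 zg25) (kg xg8 yg6 zg11) (kg xg2 yg40 zg55) (kg xg1 yg58 zg27) (kg xg8 yg6 zg20) (kg xg8 yg6 zg25) (kg xg5 yg16 zg57) (kg xg8 yg6 zg31) (kg xg1 yg58 zg32) (kg xg1 yg58 zg29) (kg xg5 yg1 zg30) (kg xg8 yg6 zg37) (kg xg1 yg58 zg30)) (@D3.rec (fun _ => Pt) (kg xg4 yg21 zg22) (kg xg5 yg4 zg55) (kg xg5 yg19 zg10) (kg xg8 yg6 zg33) (kg xg8 yg6 zg45) (kg xg4 yg16 zg59) (kg xg2 yg28 zg23) (kg xg2 yg1 zg37) (kg xg4 yg50 zg45) (kg xg5 yg22 zg30) (kg xg8 yg6 zg52) (kg xg2 yg4 zg34) (kg xg8 yg6 zg58) (kg xg8 yg2 zg51) (kg xg1 yg58 zg36) (kg xg8 yg7 zg4) (kg xg6 yg6 zg60) (kg xg2 yg43 zg61) (kg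 xg8 yg3 zg7) (kg xg1 yg58 zg38) (kg xg8 yg7 zg15) (kg xg2 yg40 zg52) (kg xg1 yg58 zg39) (kg xg2 yg11 zg7) (kg xg1 yg59 zg20) (kg xg8 yg7 zg23) (kg xg1 yg59 zg8) (kg xg6 yg4 zg47) (kg xg8 yg7 zg28) (kg xg8 yg7 zg32) (kg xg4 yg52 zg50) (kg xg1 yg58 zg43) (kg xg8 yg7 zg40) (kg xg4 yg52 zg49) (kg xg2 yg7 zg41) (kg xg1 yg58 zg59) (kg xg2 yg40 zg13) (kg xg5 yg28 zg15) (kg xg2 yg11 zg1) (kg xg1 yg58 zg49) (kg xg5 yg36 zg28) (kg xg8 yg7 zg52) (kg xg4 yg52 zg52) (kg xg1 yg58 zg50) (kg xg4 yg8 zg53) (kg xg2 yg37 zg15) (kg xg8 yg7 zg56) (kg xg5 yg39 zg13) (kg xg4 yg19 zg16) (kg xg1 yg58 zg52) (kg xg8 yg8 zg4) (kg xg4 yg19 zg14) (kg xg2 yg26 zg14) (kg xg8 yg8 zg10) (kg xg2 yg42 zg10) (kg xg8 yg8 zg16) (kg xg8 yg8 zg20) (kg xg8 yg2 zg59) (kg xg1 yg58 zg58) (kg xg8 yg5 zg42) (kg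 xg8 yg2 zg57) (kg xg2 yg34 zg18)) (@D3.rec (fun _ => Pt) (kg xg3 yg58 zg10) (kg xg8 yg8 zg37) (kg xg8 yg8 zg40) (kg xg8 yg8 zg44) (kg xg8 yg3 zg2) (kg xg1 yg58 zg61) (kg xg8 yg3 zg1) (kg xg8 yg8 zg54) (kg xg8 yg8 zg25) (kg xg8 yg8 zg60) (kg xg8 yg8 zg48) (kg xg8 yg9 zg5) (kg xg1 yg59 zg2) (kg xg8 yg9 zg6) (kg xg8 yg9 zg17) (kg xg8 yg9 zg11) (kg xg8 yg9 zg22) (kg xg8 yg9 zg25) (kg xg8 yg2 zg52) (kg xg1 yg59 zg5) (kg xg2 yg6 zg61) (kg xg8 yg9 zg37) (kg xg2 yg25 zg18) (kg xg2 yg24 zg7) (kg xg4 yg6 zg51) (kg xg8 yg9 zg45) (kg xg8 yg7 zg36) (kg xg4 yg14 zg32) (kg xg1 yg59 zg9) (kg xg8 yg9 zg56) (kg xg4 yg14 zg30) (kg xg2 yg25 zg19) (kg xg2 yg0 zg41) (kg xg2 yg7 zg60) (kg xg2 yg38 zg54) (kg xg5 yg5 zg4) (kg xg2 yg43 zg46) (kg xg8 yg10 zg3) (kg xg2 yg12 zg43) (kg xg8 yg10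 zg5) (kg xg8 yg8 zg0) (kg xg2 yg45 zg36) (kg xg1 yg59 zg21) (kg xg8 yg10 zg17) (kg xg2 yg45 zg34) (kg xg4 yg19 zg7) (kg xg3 yg57 zg0) (kg xg8 yg10 zg23) (kg xg8 yg5 zg2) (kg xg3 yg57 zg21) (kg xg7 yg0 zg45) (kg xg4 yg37 zg2) (kg xg8 yg10 zg31) (kg xg1 yg59 zg33) (kg xg8 yg10 zg32) (kg xg2 yg53 zg35) (kg xg5 yg5 zg7) (kg xg8 yg4 zg4) (kg xg8 yg10 zg42) (kg xg4 yg2 zg7) (kg xg4 yg0 zg14) (kg xg2 yg25 zg32)) (@D3.rec (fun _ => Pt) (kg xg8 yg10 zg46) (kg xg4 yg21 zg11) (kg xg2 yg29 zg4) (kg xg5 yg37 zg3) (kg xg1 yg59 zg54) (kg xg5 yg21 zg44) (kg xg1 yg59 zg52) (kg xg5 yg8 zg47) (kg xg2 yg8 zg47) (kg xg5 yg1 zg16) (kg xg4 yg8 zg56) (kg xg1 yg59 zg49) (kg xg8 yg11 zg9) (kg xg8 yg11 zg14) (kg xg8 yg11 zg16) (kg xg8 yg11 zg10) (kg xg6 yg7 zg22) (kg xg4 yg20 zg22) (kg xg8 yg11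 zg25) (kg xg8 yg11 zg29) (kg xg4 yg13 zg36) (kg xg4 yg21 zg0) (kg xg8 yg11 zg36) (kg xg8 yg10 zg60) (kg xg1 yg59 zg53) (kg xg8 yg11 zg45) (kg xg8 yg10 zg57) (kg xg8 yg11 zg51) (kg xg8 yg11 zg53) (kg xg4 yg6 zg58) (kg xg1 yg59 zg56) (kg xg4 yg6 zg57) (kg xg2 yg44 zg24) (kg xg5 yg52 zg26) (kg xg4 yg30 zg50) (kg xg8 yg12 zg1) (kg xg2 yg30 zg18) (kg xg8 yg12 zg2) (kg xg2 yg15 zg37) (kg xg2 yg0 zg6) (kg xg2 yg53 zg49) (kg xg4 yg42 zg50) (kg xg8 yg12 zg8) (kg xg2 yg33 zg47) (kg xg8 yg12 zg11) (kg xg6 yg16 zg27) (kg xg6 yg7 zg20) (kg xg2 yg0 zg14) (kg xg2 yg0 zg17) (kg xg2 yg24 zg49) (kg xg8 yg12 zg18) (kg xg6 yg46 zg16) (kg xg2 yg44 zg47) (kg xg2 yg0 zg15) (kg xg6 yg24 zg26) (kg xg8 yg12 zg19) (kg xg5 yg14 zg25) (kg xg2 yg45 zg10) (kg xg8 yg12 zg34) (kg xg8 yg12 zg15) (kg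 xg2 yg0 zg16) (kg xg2 yg53 zg54)) (@D3.rec (fun _ => Pt) (kg xg8 yg12 zg47) (kg xg8 yg12 zg35) (kg xg5 yg51 zg32) (kg xg5 yg52 zg14) (kg xg4 yg7 zg27) (kg xg2 yg0 zg19) (kg xg4 yg7 zg26) (kg xg8 yg12 zg56) (kg xg4 yg50 zg53) (kg xg8 yg1 zg27) (kg xg8 yg12 zg58) (kg xg7 yg55 zg43) (kg xg2 yg32 zg10) (kg xg8 yg13 zg1) (kg xg2 yg0 zg40) (kg xg6 yg4 zg56) (kg xg2 yg0 zg38) (kg xg5 yg1 zg20) (kg xg2 yg23 zg31) (kg xg2 yg0 zg34) (kg xg8 yg13 zg14) (kg xg4 yg15 zg52) (kg xg2 yg0 zg35) (kg xg2 yg0 zg31) (kg xg8 yg13 zg20) (kg xg8 yg13 zg25) (kg xg8 yg13 zg28) (kg xg8 yg6 zg3) (kg xg8 yg9 zg59) (kg xg7 yg56 zg7) (kg xg8 yg13 zg21) (kg xg5 yg36 zg36) (kg xg4 yg50 zg37) (kg xg8 yg13 zg37) (kg xg8 yg13 zg41) (kg xg2 yg35 zg13) (kg xg4 yg20 zg53) (kg xg5 yg36 zg61) (kg xg8 yg13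 zg8) (kg xg2 yg0 zg39) (kg xg8 yg13 zg55) (kg xg8 yg13 zg60) (kg xg5 yg22 zg44) (kg xg8 yg14 zg4) (kg xg5 yg12 zg41) (kg xg5 yg35 zg59) (kg xg6 yg45 zg14) (kg xg2 yg0 zg44) (kg xg2 yg59 zg41) (kg xg2 yg4 zg32) (kg xg8 yg14 zg11) (kg xg5 yg38 zg56) (kg xg8 yg14 zg16) (kg xg5 yg26 zg22) (kg xg4 yg20 zg60) (kg xg8 yg14 zg22) (kg xg4 yg5 zg31) (kg xg2 yg0 zg50) (kg xg4 yg5 zg30) (kg xg8 yg14 zg27) (kg xg2 yg0 zg51) (kg xg8 yg14 zg28)) (@D3.rec (fun _ => Pt) (kg xg8 yg14 zg36) (kg xg8 yg14 zg32) (kg xg8 yg14 zg41) (kg xg2 yg43 zg28) (kg xg4 yg5 zg40) (kg xg2 yg14 zg19) (kg xg2 yg0 zg59) (kg xg2 yg1 zg0) (kg xg5 yg37 zg53) (kg xg4 yg53 zg52) (kg xg2 yg0 zg60) (kg xg4 yg53 zg55) (kg xg2 yg24 zg48) (kg xg2 yg22 zg44) (kg xg4 yg31 zg13) (kg xg3 yg6 zg55) (kg xg8 yg14 zg46) (kg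 xg2 yg0 zg61) (kg xg3 yg25 zg32) (kg xg7 yg27 zg22) (kg xg8 yg14 zg50) (kg xg2 yg31 zg13) (kg xg8 yg14 zg55) (kg xg2 yg52 zg15) (kg xg5 yg50 zg2) (kg xg4 yg6 zg6) (kg xg2 yg1 zg3) (kg xg4 yg6 zg5) (kg xg8 yg14 zg61) (kg xg5 yg24 zg57) (kg xg5 yg15 zg36) (kg xg2 yg1 zg55) (kg xg5 yg9 zg35) (kg xg4 yg7 zg57) (kg xg2 yg1 zg8) (kg xg5 yg17 zg4) (kg xg4 yg7 zg55) (kg xg5 yg26 zg8) (kg xg8 yg15 zg14) (kg xg5 yg17 zg27) (kg xg5 yg32 zg33) (kg xg4 yg8 zg6) (kg xg2 yg1 zg13) (kg xg8 yg15 zg28) (kg xg8 yg15 zg33) (kg xg4 yg8 zg3) (kg xg5 yg29 zg20) (kg xg5 yg4 zg50) (kg xg8 yg15 zg41) (kg xg4 yg21 zg1) (kg xg2 yg1 zg16) (kg xg8 yg10 zg55) (kg xg4 yg10 zg9) (kg xg5 yg0 zg59) (kg xg8 yg15 zg49) (kg xg2 yg1 zg19) (kg xg2 yg35 zg39) (kg xg4 yg7 zg34) (kg xg6 yg5 zg29) (kg xg8 yg15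 zg59) (kg xg2 yg1 zg45) (kg xg2 yg1 zg29)) (@D3.rec (fun _ => Pt) (kg xg2 yg35 zg29) (kg xg8 yg16 zg2) (kg xg4 yg7 zg45) (kg xg2 yg1 zg24) (kg xg8 yg16 zg11) (kg xg8 yg16 zg16) (kg xg4 yg7 zg42) (kg xg2 yg43 zg27) (kg xg4 yg3 zg44) (kg xg2 yg33 zg10) (kg xg2 yg43 zg39) (kg xg2 yg43 zg54) (kg xg2 yg1 zg28) (kg xg5 yg29 zg36) (kg xg4 yg17 zg10) (kg xg5 yg29 zg33) (kg xg8 yg16 zg35) (kg xg2 yg8 zg9) (kg xg5 yg29 zg31) (kg xg4 yg17 zg55) (kg xg5 yg17 zg11) (kg xg8 yg16 zg46) (kg xg2 yg2 zg10) (kg xg2 yg1 zg34) (kg xg8 yg16 zg54) (kg xg8 yg16 zg59) (kg xg2 yg2 zg7) (kg xg4 yg16 zg40) (kg xg2 yg1 zg36) (kg xg4 yg12 zg35) (kg xg8 yg17 zg5) (kg xg5 yg0 zg36) (kg xg2 yg1 zg54) (kg xg2 yg1 zg39) (kg xg2 yg41 zg14) (kg xg8 yg17 zg14) (kg xg2 yg1 zg40) (kg xg8 yg15 zg50) (kg xg2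 yg41 zg5) (kg xg8 yg17 zg20) (kg xg8 yg6 zg1) (kg xg4 yg15 zg25) (kg xg2 yg1 zg56) (kg xg2 yg1 zg43) (kg xg8 yg17 zg32) (kg xg8 yg17 zg37) (kg xg8 yg17 zg40) (kg xg8 yg16 zg31) (kg xg2 yg1 zg44) (kg xg8 yg17 zg48) (kg xg8 yg16 zg30) (kg xg4 yg13 zg40) (kg xg2 yg2 zg2) (kg xg4 yg17 zg17) (kg xg4 yg17 zg29) (kg xg2 yg43 zg42) (kg xg5 yg36 zg9) (kg xg2 yg8 zg5) (kg xg2 yg1 zg51) (kg xg4 yg12 zg22) (kg xg8 yg18 zg2) (kg xg2 yg4 zg49)) (@D3.rec (fun _ => Pt) (kg xg5 yg22 zg58) (kg xg5 yg23 zg39) (kg xg2 yg41 zg11) (kg xg8 yg18 zg9) (kg xg4 yg19 zg50) (kg xg4 yg14 zg4) (kg xg2 yg28 zg14) (kg xg8 yg18 zg14) (kg xg8 yg17 zg38) (kg xg8 yg18 zg20) (kg xg8 yg16 zg36) (kg xg2 yg1 zg57) (kg xg8 yg18 zg26) (kg xg4 yg15 zg40) (kg xg4 yg14 zg6) (kg xg2 yg23 zg47) (kg xg2 yg38 zg18)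 (kg xg8 yg18 zg35) (kg xg2 yg2 zg3) (kg xg2 yg1 zg61) (kg xg8 yg18 zg40) (kg xg8 yg18 zg45) (kg xg8 yg18 zg48) (kg xg2 yg2 zg4) (kg xg8 yg18 zg52) (kg xg8 yg16 zg42) (kg xg2 yg2 zg1) (kg xg2 yg40 zg60) (kg xg8 yg16 zg41) (kg xg2 yg8 zg2) (kg xg4 yg5 zg1) (kg xg8 yg19 zg0) (kg xg8 yg19 zg4) (kg xg8 yg18 zg46) (kg xg8 yg19 zg10) (kg xg4 yg14 zg5) (kg xg8 yg16 zg47) (kg xg2 yg2 zg5) (kg xg5 yg12 zg22) (kg xg4 yg18 zg14) (kg xg8 yg19 zg20) (kg xg2 yg41 zg2) (kg xg8 yg19 zg27) (kg xg8 yg18 zg53) (kg xg8 yg19 zg32) (kg xg8 yg19 zg28) (kg xg8 yg19 zg14) (kg xg8 yg19 zg40) (kg xg2 yg2 zg8) (kg xg8 yg19 zg41) (kg xg8 yg19 zg48) (kg xg6 yg48 zg31) (kg xg8 yg6 zg27) (kg xg2 yg2 zg9) (kg xg8 yg6 zg26) (kg xg8 yg19 zg60) (kg xg8 yg16 zg60) (kg xg8 yg20 zg2) (kg xg4 yg15 zg36) (kg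 xg2 yg2 zg11) (kg xg4 yg51 zg40) (kg xg8 yg20 zg14)) (@D3.rec (fun _ => Pt) (kg xg4 yg17 zg23) (kg xg8 yg20 zg18) (kg xg2 yg2 zg14) (kg xg2 yg2 zg23) (kg xg4 yg3 zg61) (kg xg4 yg3 zg36) (kg xg7 yg57 zg54) (kg xg8 yg20 zg27) (kg xg4 yg27 zg45) (kg xg2 yg8 zg0) (kg xg4 yg27 zg44) (kg xg4 yg51 zg21) (kg xg8 yg20 zg33) (kg xg7 yg57 zg51) (kg xg2 yg2 zg39) (kg xg4 yg17 zg14) (kg xg2 yg2 zg20) (kg xg8 yg20 zg46) (kg xg8 yg20 zg51) (kg xg8 yg20 zg54) (kg xg8 yg20 zg20) (kg xg2 yg2 zg21) (kg xg8 yg20 zg19) (kg xg8 yg21 zg0) (kg xg2 yg3 zg56) (kg xg6 yg57 zg58) (kg xg2 yg2 zg43) (kg xg4 yg17 zg32) (kg xg2 yg2 zg28) (kg xg4 yg17 zg31) (kg xg3 yg35 zg20) (kg xg3 yg1 zg40) (kg xg2 yg2 zg29) (kg xg4 yg12 zg51) (kg xg4 yg15 zg49) (kg xg4 yg12 zg5) (kg xg2 yg5 zg28) (kg xg6 yg4 zg17)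 (kg xg4 yg18 zg31) (kg xg4 yg16 zg52) (kg xg8 yg20 zg39) (kg xg4 yg15 zg19) (kg xg5 yg23 zg58) (kg xg4 yg17 zg15) (kg xg4 yg16 zg44) (kg xg2 yg2 zg38) (kg xg8 yg21 zg24) (kg xg8 yg21 zg28) (kg xg8 yg21 zg32) (kg xg8 yg20 zg38) (kg xg8 yg21 zg36) (kg xg4 yg17 zg19) (kg xg8 yg18 zg5) (kg xg4 yg17 zg9) (kg xg2 yg2 zg42) (kg xg4 yg17 zg8) (kg xg4 yg17 zg35) (kg xg2 yg19 zg21) (kg xg2 yg40 zg37) (kg xg2 yg2 zg45) (kg xg8 yg21 zg47) (kg xg2 yg40 zg36)) (@D3.rec (fun _ => Pt) (kg xg8 yg21 zg52) (kg xg4 yg18 zg1) (kg xg8 yg21 zg58) (kg xg4 yg17 zg60) (kg xg2 yg2 zg49) (kg xg8 yg22 zg2) (kg xg8 yg22 zg7) (kg xg8 yg22 zg10) (kg xg8 yg21 zg60) (kg xg2 yg2 zg50) (kg xg2 yg36 zg59) (kg xg8 yg21 zg59) (kg xg4 yg18 zg10) (kg xg2 yg2 zg51) (kg xg4 yg18 zg9) (kg xg3 yg16 zg59) (kg xg4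 yg17 zg54) (kg xg2 yg2 zg52) (kg xg8 yg22 zg25) (kg xg4 yg17 zg52) (kg xg4 yg16 zg11) (kg xg4 yg30 zg1) (kg xg6 yg6 zg14) (kg xg2 yg12 zg45) (kg xg4 yg17 zg40) (kg xg8 yg22 zg34) (kg xg4 yg17 zg37) (kg xg2 yg2 zg58) (kg xg8 yg22 zg39) (kg xg8 yg22 zg43) (kg xg8 yg22 zg47) (kg xg8 yg22 zg35) (kg xg2 yg2 zg59) (kg xg8 yg22 zg17) (kg xg4 yg17 zg49) (kg xg2 yg2 zg60) (kg xg4 yg17 zg48) (kg xg6 yg9 zg58) (kg xg2 yg18 zg16) (kg xg3 yg10 zg37) (kg xg4 yg18 zg34) (kg xg4 yg15 zg30) (kg xg4 yg18 zg21) (kg xg2 yg3 zg3) (kg xg4 yg18 zg20) (kg xg8 yg23 zg3) (kg xg2 yg3 zg6) (kg xg2 yg3 zg9) (kg xg6 yg23 zg49) (kg xg8 yg23 zg15) (kg xg8 yg23 zg21) (kg xg8 yg23 zg25) (kg xg2 yg3 zg7) (kg xg8 yg23 zg27) (kg xg8 yg23 zg16) (kg xg2 yg41 zg45) (kg xg3 yg11 zg61) (kg xg2 yg6 zg31) (kg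 xg2 yg6 zg32) (kg xg2 yg3 zg8) (kg xg8 yg23 zg39) (kg xg8 yg23 zg43)) (@D3.rec (fun _ => Pt) (kg xg8 yg23 zg45) (kg xg2 yg3 zg10) (kg xg2 yg3 zg11) (kg xg4 yg16 zg43) (kg xg2 yg24 zg5) (kg xg4 yg10 zg35) (kg xg4 yg17 zg59) (kg xg4 yg6 zg21) (kg xg2 yg4 zg23) (kg xg5 yg6 zg45) (kg xg2 yg24 zg19) (kg xg4 yg28 zg27) (kg xg4 yg9 zg30) (kg xg8 yg24 zg2) (kg xg4 yg19 zg34) (kg xg8 yg24 zg6) (kg xg2 yg3 zg22) (kg xg2 yg3 zg28) (kg xg2 yg8 zg46) (kg xg4 yg8 zg59) (kg xg8 yg24 zg13) (kg xg4 yg13 zg58) (kg xg4 yg21 zg6) (kg xg2 yg3 zg51) (kg xg4 yg19 zg24) (kg xg2 yg3 zg25) (kg xg8 yg24 zg29) (kg xg8 yg24 zg32) (kg xg8 yg24 zg36) (kg xg8 yg24 zg8) (kg xg2 yg3 zg26) (kg xg8 yg24 zg7) (kg xg4 yg54 zg47) (kg xg4 yg13 zg59) (kg xg2 yg7 zg16) (kg xg4 yg21 zg18) (kg xg8 yg24 zg49)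 (kg xg4 yg53 zg39) (kg xg8 yg24 zg54) (kg xg2 yg45 zg54) (kg xg2 yg3 zg32) (kg xg2 yg45 zg52) (kg xg3 yg56 zg59) (kg xg4 yg50 zg52) (kg xg7 yg26 zg14) (kg xg2 yg6 zg7) (kg xg3 yg11 zg37) (kg xg2 yg3 zg36) (kg xg4 yg51 zg17) (kg xg4 yg10 zg33) (kg xg2 yg8 zg38) (kg xg2 yg5 zg54) (kg xg4 yg53 zg45) (kg xg2 yg45 zg38) (kg xg4 yg6 zg18) (kg xg5 yg17 zg12) (kg xg4 yg21 zg54) (kg xg4 yg52 zg43) (kg xg4 yg18 zg48) (kg xg8 yg24 zg22) (kg xg2 yg3 zg54) (kg xg2 yg3 zg53)) (@D3.rec (fun _ => Pt) (kg xg4 yg50 zg47) (kg xg8 yg25 zg14) (kg xg4 yg19 zg25) (kg xg2 yg40 zg57) (kg xg4 yg21 zg39) (kg xg8 yg24 zg57) (kg xg4 yg18 zg39) (kg xg2 yg3 zg50) (kg xg8 yg25 zg30) (kg xg8 yg25 zg34) (kg xg8 yg25 zg37) (kg xg8 yg24 zg21) (kg xg4 yg19 zg29) (kg xg4 yg19 zg51) (kg xg8 yg11 zg3) (kg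 xg2 yg6 zg38) (kg xg3 yg11 zg6) (kg xg2 yg3 zg55) (kg xg3 yg11 zg28) (kg xg4 yg17 zg6) (kg xg4 yg56 zg50) (kg xg3 yg17 zg6) (kg xg4 yg13 zg38) (kg xg2 yg6 zg58) (kg xg3 yg58 zg24) (kg xg2 yg36 zg61) (kg xg8 yg25 zg48) (kg xg8 yg25 zg51) (kg xg8 yg25 zg52) (kg xg2 yg4 zg5) (kg xg8 yg14 zg47) (kg xg8 yg25 zg59) (kg xg8 yg25 zg55) (kg xg5 yg8 zg49) (kg xg8 yg26 zg4) (kg xg4 yg1 zg22) (kg xg8 yg26 zg8) (kg xg5 yg17 zg21) (kg xg2 yg4 zg27) (kg xg4 yg13 zg48) (kg xg5 yg15 zg4) (kg xg4 yg13 zg46) (kg xg8 yg15 zg5) (kg xg2 yg24 zg52) (kg xg5 yg8 zg29) (kg xg8 yg23 zg55) (kg xg2 yg4 zg14) (kg xg2 yg34 zg44) (kg xg4 yg1 zg49) (kg xg2 yg41 zg9) (kg xg2 yg58 zg60) (kg xg2 yg4 zg31) (kg xg2 yg41 zg46) (kg xg2 yg4 zg29) (kg xg5 yg15 zg15) (kg xg2 yg4 zg19) (kg xg2 yg39 zg38) (kg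 xg4 yg5 zg20) (kg xg4 yg9 zg5) (kg xg2 yg34 zg39) (kg xg2 yg4 zg26) (kg xg4 yg9 zg14)) (@D3.rec (fun _ => Pt) (kg xg8 yg26 zg38) (kg xg8 yg23 zg56) (kg xg4 yg54 zg43) (kg xg4 yg19 zg42) (kg xg4 yg12 zg21) (kg xg4 yg9 zg24) (kg xg4 yg29 zg5) (kg xg5 yg39 zg12) (kg xg2 yg31 zg28) (kg xg4 yg29 zg2) (kg xg8 yg26 zg52) (kg xg4 yg4 zg61) (kg xg2 yg34 zg17) (kg xg8 yg26 zg60) (kg xg2 yg4 zg30) (kg xg8 yg27 zg5) (kg xg2 yg40 zg19) (kg xg2 yg11 zg58) (kg xg8 yg27 zg15) (kg xg8 yg14 zg12) (kg xg8 yg27 zg20) (kg xg4 yg3 zg17) (kg xg8 yg27 zg26) (kg xg8 yg27 zg29) (kg xg8 yg6 zg35) (kg xg4 yg50 zg42) (kg xg5 yg38 zg52) (kg xg8 yg27 zg36) (kg xg8 yg27 zg39) (kg xg4 yg4 zg30) (kg xg2 yg4 zg37) (kg xg8 yg27 zg45) (kg xg4 yg4 zg28) (kg xg2 yg7 zg54) (kg xg4 yg56 zg2) (kg xg8 yg27 zg54)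 (kg xg8 yg27 zg57) (kg xg8 yg27 zg61) (kg xg4 yg55 zg56) (kg xg2 yg4 zg42) (kg xg2 yg28 zg26) (kg xg4 yg55 zg54) (kg xg8 yg28 zg10) (kg xg8 yg10 zg25) (kg xg2 yg4 zg44) (kg xg8 yg10 zg24) (kg xg8 yg28 zg16) (kg xg2 yg4 zg45) (kg xg8 yg28 zg17) (kg xg8 yg28 zg28) (kg xg8 yg28 zg22) (kg xg8 yg28 zg32) (kg xg8 yg9 zg28) (kg xg4 yg50 zg46) (kg xg2 yg4 zg48) (kg xg6 yg5 zg47) (kg xg8 yg28 zg43) (kg xg6 yg6 zg17) (kg xg8 yg28 zg49) (kg xg4 yg15 zg17) (kg xg2 yg4 zg53) (kg xg8 yg28 zg58)) (@D3.rec (fun _ => Pt) (kg xg8 yg29 zg1) (kg xg4 yg15 zg14) (kg xg8 yg29 zg6) (kg xg4 yg5 zg17) (kg xg4 yg20 zg54) (kg xg8 yg13 zg4) (kg xg2 yg37 zg54) (kg xg5 yg25 zg54) (kg xg5 yg27 zg49) (kg xg2 yg5 zg14) (kg xg2 yg5 zg3) (kg xg4 yg13 zg56) (kg xg8 yg29 zg17) (kg xg4 yg15 zg1) (kg xg2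 yg4 zg61) (kg xg8 yg29 zg25) (kg xg8 yg29 zg30) (kg xg4 yg14 zg60) (kg xg4 yg30 zg49) (kg xg4 yg21 zg38) (kg xg4 yg3 zg2) (kg xg2 yg5 zg2) (kg xg8 yg18 zg13) (kg xg4 yg10 zg34) (kg xg8 yg24 zg16) (kg xg8 yg29 zg44) (kg xg4 yg16 zg41) (kg xg8 yg29 zg47) (kg xg4 yg11 zg20) (kg xg5 yg14 zg54) (kg xg8 yg29 zg56) (kg xg2 yg5 zg35) (kg xg2 yg5 zg8) (kg xg8 yg30 zg2) (kg xg8 yg30 zg7) (kg xg2 yg5 zg32) (kg xg4 yg9 zg59) (kg xg8 yg26 zg42) (kg xg8 yg30 zg14) (kg xg8 yg26 zg32) (kg xg4 yg8 zg16) (kg xg2 yg5 zg22) (kg xg2 yg5 zg12) (kg xg8 yg30 zg26) (kg xg8 yg30 zg31) (kg xg8 yg30 zg34) (kg xg8 yg29 zg40) (kg xg2 yg5 zg13) (kg xg8 yg30 zg41) (kg xg8 yg29 zg39) (kg xg4 yg7 zg35) (kg xg4 yg19 zg27) (kg xg4 yg19 zg41) (kg xg3 yg56 zg56) (kg xg4 yg18 zg45) (kg xg8 yg30 zg51) (kg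 xg2 yg58 zg30) (kg xg2 yg40 zg17) (kg xg8 yg30 zg56) (kg xg8 yg30 zg58) (kg xg8 yg30 zg32) (kg xg8 yg31 zg2)) (@D3.rec (fun _ => Pt) (kg xg8 yg29 zg45) (kg xg2 yg5 zg23) (kg xg4 yg8 zg41) (kg xg2 yg5 zg29) (kg xg2 yg5 zg26) (kg xg8 yg31 zg12) (kg xg8 yg31 zg17) (kg xg8 yg31 zg20) (kg xg8 yg29 zg52) (kg xg2 yg5 zg27) (kg xg4 yg15 zg58) (kg xg8 yg29 zg51) (kg xg4 yg6 zg11) (kg xg8 yg31 zg33) (kg xg8 yg31 zg36) (kg xg8 yg31 zg18) (kg xg8 yg31 zg42) (kg xg8 yg29 zg57) (kg xg2 yg5 zg30) (kg xg5 yg5 zg46) (kg xg4 yg11 zg41) (kg xg8 yg31 zg51) (kg xg4 yg29 zg1) (kg xg8 yg31 zg59) (kg xg8 yg31 zg24) (kg xg8 yg32 zg1) (kg xg2 yg34 zg16) (kg xg5 yg30 zg20) (kg xg8 yg31 zg46) (kg xg8 yg23 zg33) (kg xg2 yg5 zg33) (kg xg8 yg23 zg40) (kg xg8 yg32 zg16) (kg xg8 yg27 zg11) (kg xg2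 yg5 zg34) (kg xg8 yg27 zg10) (kg xg8 yg32 zg26) (kg xg8 yg30 zg8) (kg xg8 yg32 zg30) (kg xg4 yg8 zg27) (kg xg2 yg5 zg36) (kg xg2 yg8 zg26) (kg xg4 yg52 zg60) (kg xg8 yg32 zg44) (kg xg4 yg10 zg45) (kg xg8 yg32 zg47) (kg xg4 yg22 zg40) (kg xg8 yg32 zg54) (kg xg2 yg23 zg22) (kg xg8 yg32 zg50) (kg xg2 yg6 zg2) (kg xg4 yg10 zg39) (kg xg2 yg5 zg43) (kg xg8 yg33 zg5) (kg xg8 yg33 zg9) (kg xg8 yg33 zg12) (kg xg8 yg32 zg49) (kg xg2 yg5 zg44) (kg xg8 yg32 zg48) (kg xg2 yg23 zg23) (kg xg4 yg15 zg20) (kg xg5 yg29 zg21)) (@D3.rec (fun _ => Pt) (kg xg8 yg33 zg24) (kg xg4 yg18 zg25) (kg xg2 yg41 zg44) (kg xg2 yg5 zg50) (kg xg2 yg41 zg42) (kg xg8 yg23 zg24) (kg xg2 yg7 zg18) (kg xg4 yg10 zg55) (kg xg2 yg5 zg53) (kg xg4 yg10 zg54) (kg xg4 yg8 zg50) (kg xg4 yg18 zg33) (kg xg5 yg21 zg12)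 (kg xg4 yg12 zg3) (kg xg4 yg10 zg16) (kg xg8 yg33 zg0) (kg xg2 yg6 zg4) (kg xg4 yg8 zg8) (kg xg8 yg33 zg41) (kg xg4 yg10 zg40) (kg xg8 yg33 zg42) (kg xg8 yg33 zg27) (kg xg4 yg10 zg0) (kg xg2 yg6 zg1) (kg xg8 yg33 zg55) (kg xg8 yg33 zg60) (kg xg8 yg34 zg2) (kg xg8 yg32 zg61) (kg xg4 yg10 zg43) (kg xg4 yg8 zg61) (kg xg4 yg10 zg29) (kg xg2 yg6 zg6) (kg xg4 yg10 zg28) (kg xg6 yg32 zg39) (kg xg3 yg17 zg5) (kg xg4 yg10 zg26) (kg xg4 yg13 zg19) (kg xg4 yg11 zg27) (kg xg8 yg34 zg15) (kg xg4 yg11 zg24) (kg xg2 yg6 zg11) (kg xg8 yg34 zg21) (kg xg8 yg21 zg19) (kg xg8 yg34 zg28) (kg xg8 yg34 zg17) (kg xg2 yg6 zg12) (kg xg8 yg34 zg16) (kg xg4 yg11 zg36) (kg xg2 yg6 zg13) (kg xg4 yg11 zg35) (kg xg3 yg2 zg25) (kg xg4 yg11 zg19) (kg xg2 yg6 zg14) (kg xg5 yg39 zg54) (kg xg4 yg11 zg17)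 (kg xg4 yg9 zg28) (kg xg2 yg42 zg37) (kg xg2 yg6 zg27) (kg xg6 yg6 zg15) (kg xg5 yg26 zg40) (kg xg4 yg11 zg4) (kg xg8 yg34 zg54)) (@D3.rec (fun _ => Pt) (kg xg4 yg11 zg1) (kg xg2 yg6 zg19) (kg xg8 yg34 zg59) (kg xg8 yg20 zg41) (kg xg8 yg35 zg3) (kg xg8 yg34 zg55) (kg xg2 yg6 zg20) (kg xg8 yg34 zg35) (kg xg4 yg11 zg14) (kg xg2 yg6 zg21) (kg xg4 yg11 zg13) (kg xg4 yg11 zg39) (kg xg3 yg10 zg57) (kg xg4 yg12 zg6) (kg xg4 yg8 zg21) (kg xg2 yg18 zg36) (kg xg2 yg6 zg26) (kg xg3 yg9 zg30) (kg xg6 yg48 zg45) (kg xg4 yg11 zg44) (kg xg2 yg6 zg28) (kg xg4 yg11 zg43) (kg xg8 yg35 zg29) (kg xg8 yg35 zg25) (kg xg8 yg35 zg36) (kg xg8 yg21 zg2) (kg xg7 yg31 zg11) (kg xg8 yg35 zg43) (kg xg8 yg35 zg37) (kg xg4 yg17 zg1) (kg xg3 yg8 zg9) (kg xg4 yg9 zg61) (kg xg2 yg24 zg4) (kg xg4 yg17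 zg11) (kg xg4 yg11 zg22) (kg xg2 yg23 zg40) (kg xg4 yg52 zg59) (kg xg4 yg16 zg12) (kg xg8 yg35 zg59) (kg xg4 yg13 zg7) (kg xg8 yg36 zg0) (kg xg2 yg6 zg44) (kg xg2 yg23 zg30) (kg xg4 yg15 zg54) (kg xg8 yg36 zg7) (kg xg7 yg55 zg30) (kg xg2 yg7 zg12) (kg xg4 yg12 zg58) (kg xg2 yg6 zg41) (kg xg8 yg36 zg18) (kg xg8 yg36 zg20) (kg xg8 yg36 zg23) (kg xg8 yg36 zg2) (kg xg2 yg6 zg42) (kg xg8 yg36 zg1) (kg xg5 yg37 zg2) (kg xg8 yg36 zg33) (kg xg4 yg2 zg44) (kg xg3 yg57 zg13) (kg xg2 yg23 zg12) (kg xg4 yg51 zg5) (kg xg2 yg26 zg15)) (@D3.rec (fun _ => Pt) (kg xg4 yg13 zg18) (kg xg4 yg22 zg25) (kg xg2 yg23 zg26) (kg xg4 yg52 zg44) (kg xg2 yg6 zg53) (kg xg2 yg23 zg13) (kg xg4 yg19 zg43) (kg xg4 yg54 zg1) (kg xg2 yg25 zg9) (kg xg4 yg3 zg4) (kg xg8 yg36 zg44) (kg xg8 yg36 zg47) (kg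 xg8 yg10 zg12) (kg xg4 yg3 zg51) (kg xg2 yg7 zg0) (kg xg8 yg36 zg56) (kg xg4 yg3 zg49) (kg xg2 yg38 zg23) (kg xg2 yg8 zg48) (kg xg5 yg46 zg52) (kg xg3 yg57 zg24) (kg xg4 yg14 zg11) (kg xg8 yg10 zg47) (kg xg4 yg53 zg44) (kg xg4 yg12 zg25) (kg xg8 yg36 zg13) (kg xg2 yg7 zg14) (kg xg3 yg57 zg12) (kg xg8 yg16 zg22) (kg xg4 yg12 zg59) (kg xg4 yg55 zg3) (kg xg8 yg17 zg55) (kg xg5 yg39 zg48) (kg xg4 yg12 zg14) (kg xg2 yg7 zg11) (kg xg6 yg23 zg42) (kg xg4 yg21 zg15) (kg xg8 yg37 zg28) (kg xg8 yg36 zg12) (kg xg8 yg37 zg32) (kg xg4 yg13 zg2) (kg xg4 yg12 zg7) (kg xg4 yg19 zg6) (kg xg4 yg14 zg3) (kg xg4 yg3 zg40) (kg xg8 yg37 zg37) (kg xg2 yg44 zg6) (kg xg2 yg7 zg20) (kg xg2 yg44 zg5) (kg xg4 yg13 zg13) (kg xg4 yg7 zg31) (kg xg4 yg50 zg32) (kg xg2 yg7 zg25) (kg xg2 yg44 zg46)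 (kg xg5 yg4 zg53) (kg xg8 yg37 zg45) (kg xg4 yg20 zg51) (kg xg8 yg37 zg50) (kg xg4 yg20 zg28) (kg xg2 yg7 zg28) (kg xg8 yg37 zg56) (kg xg5 yg13 zg0)) (@D3.rec (fun _ => Pt) (kg xg4 yg3 zg34) (kg xg8 yg38 zg1) (kg xg5 yg8 zg55) (kg xg8 yg38 zg4) (kg xg4 yg1 zg25) (kg xg5 yg12 zg61) (kg xg5 yg5 zg10) (kg xg8 yg2 zg17) (kg xg5 yg5 zg6) (kg xg2 yg8 zg60) (kg xg8 yg38 zg13) (kg xg2 yg7 zg34) (kg xg5 yg7 zg32) (kg xg8 yg38 zg18) (kg xg8 yg38 zg15) (kg xg4 yg20 zg45) (kg xg5 yg12 zg45) (kg xg8 yg38 zg27) (kg xg4 yg20 zg42) (kg xg8 yg13 zg13) (kg xg2 yg7 zg37) (kg xg6 yg4 zg26) (kg xg4 yg54 zg52) (kg xg5 yg12 zg39) (kg xg5 yg35 zg37) (kg xg4 yg20 zg0) (kg xg8 yg38 zg41) (kg xg5 yg4 zg61) (kg xg4 yg19 zg59) (kg xg4 yg56 zg31) (kg xg5 yg4 zg59) (kg xg8 yg38 zg50) (kg xg3 yg57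 zg50) (kg xg5 yg12 zg52) (kg xg2 yg26 zg25) (kg xg4 yg0 zg43) (kg xg5 yg12 zg54) (kg xg2 yg7 zg48) (kg xg7 yg5 zg34) (kg xg8 yg38 zg60) (kg xg5 yg54 zg59) (kg xg4 yg20 zg18) (kg xg2 yg7 zg49) (kg xg5 yg5 zg15) (kg xg8 yg39 zg7) (kg xg4 yg1 zg33) (kg xg3 yg58 zg36) (kg xg8 yg39 zg12) (kg xg8 yg39 zg15) (kg xg8 yg39 zg18) (kg xg8 yg14 zg7) (kg xg4 yg4 zg33) (kg xg5 yg25 zg46) (kg xg4 yg6 zg33) (kg xg2 yg37 zg44) (kg xg2 yg38 zg9) (kg xg4 yg14 zg34) (kg xg8 yg39 zg33) (kg xg8 yg39 zg36) (kg xg8 yg3 zg44) (kg xg4 yg14 zg33) (kg xg8 yg39 zg43)) (@D3.rec (fun _ => Pt) (kg xg4 yg5 zg18) (kg xg4 yg7 zg50) (kg xg2 yg24 zg28) (kg xg4 yg52 zg6) (kg xg8 yg17 zg9) (kg xg4 yg12 zg32) (kg xg4 yg12 zg19) (kg xg8 yg20 zg58) (kg xg2 yg8 zg6) (kg xg2 yg10 zg46) (kg xg8 yg7 zg20) (kg xg4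 yg12 zg12) (kg xg8 yg22 zg14) (kg xg4 yg52 zg21) (kg xg8 yg40 zg5) (kg xg8 yg24 zg4) (kg xg4 yg52 zg19) (kg xg8 yg40 zg13) (kg xg8 yg17 zg1) (kg xg8 yg40 zg17) (kg xg4 yg2 zg61) (kg xg2 yg38 zg10) (kg xg4 yg1 zg0) (kg xg2 yg23 zg18) (kg xg8 yg40 zg23) (kg xg8 yg40 zg25) (kg xg4 yg51 zg13) (kg xg4 yg50 zg56) (kg xg7 yg56 zg2) (kg xg2 yg8 zg37) (kg xg4 yg51 zg25) (kg xg2 yg8 zg16) (kg xg8 yg40 zg38) (kg xg4 yg0 zg30) (kg xg8 yg36 zg37) (kg xg7 yg55 zg37) (kg xg2 yg8 zg17) (kg xg7 yg55 zg36) (kg xg2 yg8 zg20) (kg xg4 yg13 zg1) (kg xg8 yg21 zg34) (kg xg8 yg40 zg57) (kg xg4 yg0 zg19) (kg xg8 yg41 zg1) (kg xg7 yg55 zg42) (kg xg2 yg8 zg23) (kg xg7 yg55 zg41) (kg xg8 yg41 zg8) (kg xg8 yg10 zg28) (kg xg8 yg41 zg14) (kg xg7 yg55 zg47) (kg xg2 yg8 zg25) (kg xg2 yg38 zg15) (kg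 xg7 yg55 zg46) (kg xg4 yg6 zg10) (kg xg6 yg23 zg33) (kg xg8 yg41 zg30) (kg xg8 yg10 zg22) (kg xg8 yg41 zg36) (kg xg7 yg55 zg50) (kg xg2 yg8 zg28) (kg xg7 yg55 zg49)) (@D3.rec (fun _ => Pt) (kg xg8 yg41 zg45) (kg xg5 yg37 zg9) (kg xg8 yg41 zg18) (kg xg8 yg41 zg53) (kg xg8 yg8 zg9) (kg xg8 yg41 zg40) (kg xg8 yg42 zg0) (kg xg2 yg8 zg31) (kg xg8 yg42 zg1) (kg xg8 yg42 zg12) (kg xg8 yg42 zg6) (kg xg2 yg9 zg13) (kg xg2 yg8 zg32) (kg xg8 yg42 zg21) (kg xg8 yg42 zg24) (kg xg7 yg55 zg29) (kg xg2 yg8 zg34) (kg xg2 yg8 zg35) (kg xg4 yg16 zg61) (kg xg8 yg42 zg36) (kg xg2 yg8 zg36) (kg xg4 yg18 zg57) (kg xg8 yg42 zg39) (kg xg8 yg40 zg47) (kg xg7 yg56 zg11) (kg xg7 yg56 zg10) (kg xg8 yg42 zg47) (kg xg3 yg57 zg26) (kg xg2 yg26 zg24) (kg xg4 yg56 zg53) (kg xg2 yg8 zg42) (kg xg4 yg56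 zg52) (kg xg8 yg42 zg56) (kg xg8 yg42 zg60) (kg xg8 yg43 zg1) (kg xg4 yg1 zg32) (kg xg2 yg8 zg44) (kg xg4 yg58 zg5) (kg xg2 yg26 zg5) (kg xg7 yg56 zg3) (kg xg4 yg16 zg49) (kg xg8 yg43 zg13) (kg xg8 yg43 zg15) (kg xg8 yg41 zg4) (kg xg2 yg8 zg49) (kg xg4 yg18 zg61) (kg xg7 yg56 zg14) (kg xg2 yg8 zg50) (kg xg7 yg56 zg13) (kg xg8 yg43 zg27) (kg xg8 yg43 zg31) (kg xg2 yg47 zg16) (kg xg2 yg8 zg52) (kg xg2 yg47 zg20) (kg xg8 yg43 zg36) (kg xg8 yg43 zg40) (kg xg2 yg8 zg59) (kg xg2 yg8 zg53) (kg xg8 yg43 zg45) (kg xg3 yg59 zg61) (kg xg4 yg23 zg51) (kg xg4 yg0 zg0)) (@D3.rec (fun _ => Pt) (kg xg6 yg14 zg6) (kg xg2 yg9 zg2) (kg xg7 yg7 zg41) (kg xg2 yg8 zg58) (kg xg8 yg43 zg54) (kg xg8 yg43 zg57) (kg xg4 yg57 zg0) (kg xg6 yg25 zg29) (kg xg2 yg9 zg4) (kg xg8 yg44 zg0) (kg xg3 yg4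 zg5) (kg xg5 yg41 zg38) (kg xg5 yg41 zg31) (kg xg2 yg9 zg3) (kg xg8 yg44 zg9) (kg xg8 yg44 zg12) (kg xg2 yg9 zg7) (kg xg2 yg9 zg10) (kg xg8 yg44 zg6) (kg xg8 yg44 zg19) (kg xg6 yg25 zg14) (kg xg2 yg47 zg14) (kg xg2 yg9 zg8) (kg xg2 yg47 zg11) (kg xg2 yg46 zg7) (kg xg5 yg37 zg8) (kg xg8 yg43 zg60) (kg xg8 yg44 zg31) (kg xg8 yg44 zg15) (kg xg2 yg9 zg9) (kg xg8 yg44 zg41) (kg xg8 yg44 zg47) (kg xg8 yg44 zg32) (kg xg8 yg0 zg6) (kg xg5 yg41 zg36) (kg xg8 yg44 zg55) (kg xg8 yg44 zg5) (kg xg8 yg45 zg0) (kg xg8 yg45 zg3) (kg xg8 yg45 zg7) (kg xg7 yg56 zg38) (kg xg2 yg9 zg14) (kg xg7 yg56 zg37) (kg xg8 yg45 zg20) (kg xg6 yg13 zg9) (kg xg3 yg3 zg59) (kg xg2 yg9 zg17) (kg xg3 yg3 zg58) (kg xg4 yg0 zg42) (kg xg8 yg10 zg26) (kg xg8 yg45 zg29) (kg xg8 yg1 zg3) (kg xg4 yg37 zg25)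 (kg xg8 yg45 zg35) (kg xg2 yg9 zg38) (kg xg8 yg45 zg38) (kg xg2 yg49 zg32) (kg xg4 yg1 zg28) (kg xg2 yg54 zg24) (kg xg3 yg9 zg57) (kg xg2 yg9 zg25) (kg xg8 yg45 zg46)) (@D3.rec (fun _ => Pt) (kg xg8 yg45 zg50) (kg xg3 yg32 zg37) (kg xg2 yg9 zg26) (kg xg7 yg12 zg8) (kg xg7 yg56 zg47) (kg xg2 yg9 zg27) (kg xg8 yg45 zg60) (kg xg7 yg56 zg46) (kg xg8 yg45 zg25) (kg xg4 yg27 zg3) (kg xg4 yg52 zg53) (kg xg3 yg32 zg39) (kg xg4 yg24 zg44) (kg xg8 yg4 zg55) (kg xg2 yg49 zg5) (kg xg3 yg57 zg44) (kg xg6 yg15 zg14) (kg xg7 yg56 zg43) (kg xg3 yg9 zg50) (kg xg7 yg12 zg35) (kg xg2 yg9 zg37) (kg xg8 yg46 zg19) (kg xg8 yg46 zg21) (kg xg8 yg46 zg25) (kg xg3 yg10 zg3) (kg xg2 yg9 zg39) (kg xg8 yg46 zg27) (kg xg3 yg10 zg1) (kg xg6 yg13 zg31) (kg xg2 yg9 zg41) (kg xg7 yg23 zg6) (kg xg3 yg3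 zg37) (kg xg6 yg25 zg33) (kg xg4 yg0 zg7) (kg xg8 yg46 zg40) (kg xg2 yg54 zg27) (kg xg6 yg25 zg5) (kg xg8 yg46 zg46) (kg xg7 yg56 zg55) (kg xg2 yg9 zg48) (kg xg7 yg56 zg54) (kg xg2 yg15 zg41) (kg xg2 yg15 zg44) (kg xg6 yg13 zg12) (kg xg4 yg24 zg15) (kg xg8 yg46 zg39) (kg xg7 yg56 zg50) (kg xg2 yg9 zg52) (kg xg8 yg47 zg3) (kg xg8 yg47 zg6) (kg xg8 yg46 zg61) (kg xg2 yg9 zg53) (kg xg8 yg47 zg12) (kg xg8 yg46 zg59) (kg xg4 yg58 zg3) (kg xg2 yg9 zg54) (kg xg8 yg47 zg22) (kg xg4 yg58 zg1) (kg xg8 yg4 zg59) (kg xg8 yg0 zg10) (kg xg7 yg56 zg17) (kg xg4 yg58 zg10)) (@D3.rec (fun _ => Pt) (kg xg2 yg9 zg57) (kg xg8 yg47 zg37) (kg xg4 yg58 zg8) (kg xg8 yg47 zg43) (kg xg8 yg3 zg33) (kg xg4 yg39 zg16) (kg xg8 yg1 zg2) (kg xg7 yg57 zg3) (kg xg2 yg9 zg61) (kg xg8 yg47 zg56) (kg xg7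 yg57 zg1) (kg xg8 yg38 zg37) (kg xg4 yg20 zg32) (kg xg4 yg36 zg43) (kg xg7 yg19 zg17) (kg xg6 yg13 zg48) (kg xg8 yg0 zg5) (kg xg3 yg57 zg54) (kg xg2 yg10 zg28) (kg xg6 yg13 zg5) (kg xg7 yg56 zg60) (kg xg8 yg48 zg12) (kg xg5 yg53 zg49) (kg xg2 yg10 zg5) (kg xg6 yg40 zg28) (kg xg8 yg48 zg22) (kg xg7 yg17 zg30) (kg xg2 yg10 zg6) (kg xg7 yg8 zg30) (kg xg8 yg48 zg13) (kg xg6 yg9 zg14) (kg xg2 yg10 zg7) (kg xg8 yg48 zg36) (kg xg6 yg9 zg12) (kg xg6 yg9 zg17) (kg xg2 yg10 zg8) (kg xg8 yg48 zg44) (kg xg5 yg38 zg42) (kg xg2 yg10 zg23) (kg xg8 yg44 zg50) (kg xg2 yg14 zg49) (kg xg2 yg16 zg50) (kg xg2 yg30 zg38) (kg xg2 yg10 zg12) (kg xg8 yg48 zg16) (kg xg7 yg16 zg47) (kg xg2 yg10 zg18) (kg xg2 yg14 zg22) (kg xg5 yg47 zg52) (kg xg8 yg49 zg2) (kg xg2 yg27 zg1) (kg xg2 yg10 zg19)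 (kg xg8 yg49 zg7) (kg xg8 yg49 zg9) (kg xg5 yg46 zg24) (kg xg5 yg13 zg38) (kg xg8 yg49 zg13) (kg xg5 yg13 zg39) (kg xg2 yg54 zg11) (kg xg4 yg41 zg20) (kg xg2 yg10 zg27) (kg xg2 yg51 zg53)) (@D3.rec (fun _ => Pt) (kg xg2 yg51 zg41) (kg xg8 yg49 zg8) (kg xg8 yg48 zg31) (kg xg2 yg10 zg20) (kg xg8 yg48 zg40) (kg xg2 yg52 zg59) (kg xg2 yg10 zg26) (kg xg2 yg10 zg21) (kg xg6 yg31 zg23) (kg xg8 yg49 zg41) (kg xg8 yg48 zg4) (kg xg8 yg49 zg45) (kg xg8 yg49 zg48) (kg xg2 yg54 zg6) (kg xg8 yg49 zg46) (kg xg8 yg49 zg57) (kg xg8 yg48 zg50) (kg xg2 yg10 zg24) (kg xg8 yg50 zg1) (kg xg7 yg26 zg43) (kg xg8 yg50 zg5) (kg xg8 yg49 zg38) (kg xg8 yg49 zg42) (kg xg2 yg10 zg25) (kg xg5 yg40 zg32) (kg xg8 yg50 zg16) (kg xg2 yg54 zg47) (kg xg8 yg50 zg22) (kg xg6 yg13 zg50) (kg xg8 yg50 zg27)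 (kg xg8 yg50 zg31) (kg xg4 yg42 zg42) (kg xg2 yg10 zg29) (kg xg8 yg50 zg40) (kg xg4 yg42 zg40) (kg xg3 yg57 zg57) (kg xg2 yg10 zg30) (kg xg3 yg57 zg59) (kg xg8 yg50 zg47) (kg xg4 yg26 zg51) (kg xg2 yg10 zg31) (kg xg8 yg50 zg57) (kg xg4 yg26 zg53) (kg xg8 yg50 zg61) (kg xg6 yg13 zg37) (kg xg8 yg51 zg7) (kg xg8 yg50 zg39) (kg xg8 yg48 zg3) (kg xg4 yg0 zg54) (kg xg8 yg51 zg8) (kg xg8 yg51 zg23) (kg xg4 yg26 zg40) (kg xg4 yg26 zg42) (kg xg2 yg10 zg35) (kg xg8 yg51 zg33) (kg xg8 yg51 zg36) (kg xg7 yg56 zg57) (kg xg8 yg51 zg37) (kg xg2 yg50 zg58) (kg xg6 yg13 zg11) (kg xg2 yg10 zg38) (kg xg8 yg51 zg48)) (@D3.rec (fun _ => Pt) (kg xg8 yg43 zg34) (kg xg6 yg15 zg12) (kg xg2 yg10 zg42) (kg xg6 yg15 zg13) (kg xg7 yg56 zg49) (kg xg8 yg47 zg31) (kg xg4 yg24 zg9) (kg xg5 yg12 zg38)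 (kg xg5 yg13 zg3) (kg xg2 yg37 zg18) (kg xg2 yg32 zg19) (kg xg2 yg34 zg46) (kg xg5 yg13 zg8) (kg xg8 yg33 zg20) (kg xg5 yg18 zg30) (kg xg8 yg52 zg12) (kg xg4 yg27 zg30) (kg xg2 yg10 zg51) (kg xg8 yg52 zg21) (kg xg8 yg52 zg26) (kg xg4 yg27 zg27) (kg xg5 yg20 zg14) (kg xg5 yg5 zg23) (kg xg8 yg52 zg30) (kg xg4 yg53 zg60) (kg xg8 yg52 zg35) (kg xg4 yg27 zg20) (kg xg2 yg10 zg56) (kg xg8 yg52 zg44) (kg xg8 yg52 zg49) (kg xg4 yg27 zg17) (kg xg5 yg16 zg53) (kg xg5 yg35 zg31) (kg xg8 yg52 zg56) (kg xg5 yg0 zg41) (kg xg8 yg52 zg61) (kg xg2 yg11 zg22) (kg xg2 yg10 zg61) (kg xg8 yg53 zg7) (kg xg8 yg53 zg12) (kg xg2 yg11 zg19) (kg xg6 yg5 zg27) (kg xg4 yg19 zg44) (kg xg8 yg53 zg18) (kg xg2 yg11 zg2) (kg xg2 yg40 zg26) (kg xg8 yg17 zg57) (kg xg8 yg53 zg24) (kg xg8 yg39 zg51) (kg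 xg6 yg4 zg25) (kg xg2 yg11 zg10) (kg xg2 yg11 zg5) (kg xg8 yg53 zg36) (kg xg8 yg53 zg41) (kg xg8 yg53 zg44) (kg xg8 yg7 zg19) (kg xg2 yg11 zg6) (kg xg8 yg53 zg51) (kg xg5 yg23 zg12) (kg xg4 yg50 zg36) (kg xg8 yg53 zg57) (kg xg8 yg53 zg42)) (@D3.rec (fun _ => Pt) (kg xg8 yg54 zg1) (kg xg8 yg52 zg57) (kg xg2 yg11 zg11) (kg xg2 yg41 zg39) (kg xg3 yg58 zg34) (kg xg8 yg54 zg10) (kg xg2 yg11 zg16) (kg xg2 yg11 zg14) (kg xg8 yg54 zg17) (kg xg8 yg54 zg22) (kg xg8 yg54 zg25) (kg xg8 yg8 zg15) (kg xg2 yg11 zg15) (kg xg2 yg36 zg35) (kg xg8 yg8 zg14) (kg xg8 yg54 zg35) (kg xg8 yg54 zg23) (kg xg8 yg54 zg41) (kg xg8 yg53 zg0) (kg xg2 yg11 zg17) (kg xg6 yg5 zg41) (kg xg2 yg42 zg38) (kg xg8 yg54 zg49) (kg xg4 yg12 zg11) (kg xg8 yg54 zg55) (kg xg8 yg54 zg29) (kg xg8 yg54 zg57) (kg xg2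 yg28 zg5) (kg xg5 yg28 zg21) (kg xg8 yg54 zg45) (kg xg8 yg55 zg5) (kg xg2 yg11 zg20) (kg xg8 yg55 zg6) (kg xg8 yg55 zg17) (kg xg8 yg55 zg11) (kg xg8 yg40 zg10) (kg xg2 yg11 zg21) (kg xg4 yg19 zg36) (kg xg8 yg55 zg29) (kg xg8 yg53 zg13) (kg xg8 yg55 zg33) (kg xg6 yg4 zg33) (kg xg2 yg11 zg23) (kg xg7 yg58 zg3) (kg xg8 yg55 zg45) (kg xg8 yg16 zg24) (kg xg2 yg39 zg32) (kg xg2 yg40 zg59) (kg xg2 yg11 zg26) (kg xg8 yg55 zg54) (kg xg8 yg55 zg58) (kg xg8 yg55 zg61) (kg xg8 yg6 zg7) (kg xg2 yg11 zg27) (kg xg5 yg28 zg6) (kg xg8 yg56 zg6) (kg xg4 yg6 zg53) (kg xg2 yg41 zg29) (kg xg2 yg11 zg33) (kg xg2 yg41 zg28) (kg xg8 yg56 zg18) (kg xg2 yg38 zg6)) (@D3.rec (fun _ => Pt) (kg xg4 yg30 zg47) (kg xg4 yg16 zg26) (kg xg4 yg14 zg12) (kg xg2 yg43 zg23) (kg xg2 yg36 zg51) (kg xg4 yg13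 zg61) (kg xg4 yg15 zg8) (kg xg2 yg40 zg7) (kg xg2 yg11 zg41) (kg xg8 yg56 zg33) (kg xg8 yg26 zg25) (kg xg8 yg56 zg39) (kg xg8 yg30 zg57) (kg xg2 yg11 zg42) (kg xg4 yg16 zg10) (kg xg2 yg40 zg49) (kg xg2 yg11 zg43) (kg xg2 yg40 zg48) (kg xg8 yg56 zg51) (kg xg8 yg56 zg55) (kg xg4 yg56 zg21) (kg xg6 yg47 zg31) (kg xg2 yg45 zg45) (kg xg5 yg13 zg24) (kg xg2 yg42 zg17) (kg xg2 yg11 zg48) (kg xg8 yg57 zg2) (kg xg5 yg29 zg55) (kg xg8 yg57 zg8) (kg xg8 yg6 zg13) (kg xg2 yg11 zg49) (kg xg5 yg15 zg3) (kg xg8 yg6 zg12) (kg xg2 yg42 zg29) (kg xg2 yg11 zg50) (kg xg2 yg42 zg28) (kg xg5 yg30 zg23) (kg xg8 yg57 zg28) (kg xg5 yg41 zg8) (kg xg2 yg42 zg9) (kg xg2 yg11 zg52) (kg xg8 yg57 zg34) (kg xg2 yg42 zg7) (kg xg2 yg38 zg47) (kg xg5 yg18 zg36) (kg xg2 yg12 zg6) (kg xg5 yg18 zg28) (kg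 xg5 yg16 zg24) (kg xg2 yg29 zg7) (kg xg8 yg57 zg45) (kg xg8 yg57 zg48) (kg xg5 yg27 zg51) (kg xg8 yg57 zg54) (kg xg8 yg57 zg47) (kg xg2 yg11 zg59) (kg xg8 yg57 zg46) (kg xg2 yg42 zg0) (kg xg2 yg11 zg60) (kg xg2 yg41 zg61) (kg xg5 yg29 zg4) (kg xg8 yg58 zg7) (kg xg2 yg12 zg0)) (@D3.rec (fun _ => Pt) (kg xg2 yg42 zg58) (kg xg2 yg43 zg30) (kg xg2 yg37 zg4) (kg xg2 yg12 zg9) (kg xg2 yg42 zg53) (kg xg2 yg12 zg4) (kg xg2 yg42 zg52) (kg xg5 yg39 zg25) (kg xg5 yg44 zg20) (kg xg8 yg58 zg28) (kg xg8 yg58 zg31) (kg xg2 yg42 zg13) (kg xg2 yg42 zg42) (kg xg2 yg12 zg7) (kg xg2 yg42 zg41) (kg xg8 yg58 zg44) (kg xg5 yg36 zg47) (kg xg8 yg58 zg50) (kg xg2 yg16 zg22) (kg xg2 yg12 zg11) (kg xg2 yg12 zg14) (kg xg6 yg45 zg61) (kg xg8 yg58 zg59) (kg xg8 yg59 zg1) (kg xg8 yg59 zg5) (kg xg2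 yg12 zg12) (kg xg8 yg59 zg8) (kg xg8 yg58 zg60) (kg xg5 yg28 zg29) (kg xg8 yg58 zg10) (kg xg2 yg48 zg35) (kg xg2 yg48 zg36) (kg xg2 yg12 zg13) (kg xg8 yg59 zg25) (kg xg6 yg2 zg1) (kg xg8 yg59 zg30) (kg xg8 yg58 zg16) (kg xg8 yg58 zg37) (kg xg5 yg49 zg56) (kg xg2 yg43 zg19) (kg xg2 yg12 zg17) (kg xg2 yg43 zg18) (kg xg2 yg40 zg3) (kg xg2 yg12 zg18) (kg xg8 yg59 zg44) (kg xg4 yg7 zg46) (kg xg4 yg5 zg34) (kg xg5 yg26 zg5) (kg xg2 yg42 zg15) (kg xg2 yg40 zg6) (kg xg2 yg41 zg59) (kg xg4 yg29 zg0) (kg xg2 yg25 zg8) (kg xg2 yg37 zg51) (kg xg8 yg10 zg54) (kg xg2 yg45 zg42) (kg xg2 yg12 zg23) (kg xg2 yg45 zg41) (kg xg2 yg55 zg42) (kg xg7 yg58 zg1) (kg xg2 yg25 zg22) (kg xg4 yg56 zg29)) (@D3.rec (fun _ => Pt) (kg xg2 yg12 zg28) (kg xg2 yg44 zg36) (kg xg2 yg44 zg32) (kg xg2 yg44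 zg42) (kg xg2 yg12 zg30) (kg xg2 yg44 zg41) (kg xg2 yg45 zg58) (kg xg2 yg12 zg31) (kg xg9 yg0 zg16) (kg xg9 yg0 zg19) (kg xg2 yg45 zg8) (kg xg2 yg12 zg32) (kg xg2 yg45 zg7) (kg xg9 yg0 zg9) (kg xg6 yg7 zg53) (kg xg9 yg0 zg7) (kg xg5 yg0 zg38) (kg xg7 yg59 zg5) (kg xg5 yg20 zg25) (kg xg4 yg20 zg24) (kg xg4 yg14 zg2) (kg xg5 yg23 zg24) (kg xg8 yg37 zg40) (kg xg2 yg43 zg35) (kg xg2 yg12 zg40) (kg xg9 yg0 zg47) (kg xg8 yg39 zg32) (kg xg9 yg0 zg54) (kg xg8 yg10 zg4) (kg xg2 yg12 zg41) (kg xg4 yg52 zg57) (kg xg2 yg44 zg16) (kg xg2 yg12 zg44) (kg xg2 yg44 zg15) (kg xg9 yg1 zg6) (kg xg9 yg1 zg10) (kg xg2 yg41 zg40) (kg xg9 yg1 zg13) (kg xg5 yg10 zg25) (kg xg7 yg57 zg40) (kg xg8 yg37 zg41) (kg xg6 yg15 zg29) (kg xg5 yg37 zg20) (kg xg2 yg44 zg61) (kg xg2 yg44 zg58) (kg xg2 yg12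 zg52) (kg xg2 yg12 zg53) (kg xg2 yg26 zg33) (kg xg2 yg26 zg30) (kg xg3 yg0 zg57) (kg xg9 yg1 zg30) (kg xg2 yg46 zg21) (kg xg2 yg12 zg57) (kg xg2 yg46 zg19) (kg xg2 yg49 zg13) (kg xg2 yg49 zg11) (kg xg7 yg59 zg9) (kg xg8 yg44 zg21) (kg xg2 yg14 zg31) (kg xg2 yg46 zg11) (kg xg2 yg31 zg6) (kg xg9 yg1 zg43)) (@D3.rec (fun _ => Pt) (kg xg9 yg1 zg47) (kg xg2 yg13 zg2) (kg xg5 yg48 zg13) (kg xg2 yg46 zg39) (kg xg2 yg13 zg3) (kg xg9 yg1 zg54) (kg xg2 yg46 zg37) (kg xg2 yg47 zg18) (kg xg7 yg59 zg21) (kg xg2 yg48 zg28) (kg xg8 yg44 zg16) (kg xg2 yg13 zg39) (kg xg2 yg47 zg24) (kg xg2 yg13 zg10) (kg xg9 yg2 zg5) (kg xg9 yg2 zg9) (kg xg2 yg47 zg0) (kg xg2 yg47 zg7) (kg xg2 yg13 zg12) (kg xg9 yg2 zg19) (kg xg2 yg47 zg5) (kg xg2 yg49 zg31) (kg xg7 yg59 zg14) (kg xg2 yg48 zg21) (kg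 xg2 yg46 zg61) (kg xg8 yg1 zg48) (kg xg2 yg13 zg41) (kg xg2 yg16 zg37) (kg xg2 yg46 zg52) (kg xg2 yg46 zg56) (kg xg8 yg12 zg5) (kg xg2 yg46 zg49) (kg xg2 yg13 zg18) (kg xg9 yg2 zg36) (kg xg7 yg14 zg7) (kg xg2 yg46 zg50) (kg xg2 yg13 zg19) (kg xg9 yg2 zg43) (kg xg9 yg2 zg46) (kg xg7 yg14 zg8) (kg xg2 yg13 zg20) (kg xg6 yg16 zg16) (kg xg2 yg53 zg48) (kg xg2 yg47 zg32) (kg xg2 yg13 zg21) (kg xg8 yg59 zg39) (kg xg2 yg47 zg30) (kg xg2 yg48 zg33) (kg xg2 yg13 zg34) (kg xg2 yg13 zg25) (kg xg3 yg57 zg31) (kg xg4 yg42 zg55) (kg xg2 yg46 zg46) (kg xg2 yg13 zg29) (kg xg2 yg13 zg26) (kg xg7 yg7 zg9) (kg xg6 yg24 zg35) (kg xg5 yg40 zg19) (kg xg9 yg3 zg8) (kg xg9 yg3 zg14) (kg xg5 yg37 zg13) (kg xg2 yg47 zg27)) (@D3.rec (fun _ => Pt) (kg xg9 yg3 zg5) (kg xg7 yg7 zg6) (kg xg9 yg3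 zg9) (kg xg9 yg2 zg52) (kg xg2 yg13 zg31) (kg xg4 yg34 zg16) (kg xg2 yg13 zg37) (kg xg2 yg13 zg32) (kg xg9 yg3 zg31) (kg xg9 yg3 zg35) (kg xg9 yg2 zg26) (kg xg9 yg3 zg40) (kg xg9 yg3 zg45) (kg xg9 yg3 zg41) (kg xg9 yg2 zg57) (kg xg9 yg2 zg58) (kg xg2 yg13 zg35) (kg xg9 yg3 zg61) (kg xg5 yg24 zg21) (kg xg9 yg4 zg6) (kg xg9 yg3 zg32) (kg xg9 yg3 zg37) (kg xg2 yg13 zg36) (kg xg9 yg3 zg36) (kg xg9 yg4 zg20) (kg xg9 yg4 zg23) (kg xg2 yg47 zg15) (kg xg9 yg4 zg27) (kg xg9 yg4 zg31) (kg xg2 yg48 zg27) (kg xg2 yg13 zg40) (kg xg2 yg48 zg25) (kg xg2 yg46 zg48) (kg xg9 yg4 zg41) (kg xg6 yg14 zg17) (kg xg2 yg13 zg42) (kg xg2 yg43 zg8) (kg xg2 yg13 zg43) (kg xg2 yg43 zg10) (kg xg9 yg4 zg52) (kg xg2 yg48 zg41) (kg xg2 yg13 zg44) (kg xg2 yg30 zg45) (kg xg2 yg48 zg39) (kg xg9 yg4 zg60)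 (kg xg4 yg57 zg51) (kg xg6 yg3 zg3) (kg xg9 yg4 zg46) (kg xg9 yg2 zg25) (kg xg3 yg59 zg12) (kg xg2 yg54 zg57) (kg xg9 yg5 zg13) (kg xg2 yg48 zg52) (kg xg2 yg48 zg50) (kg xg2 yg13 zg48) (kg xg9 yg5 zg21) (kg xg2 yg51 zg20) (kg xg9 yg5 zg25) (kg xg2 yg27 zg36) (kg xg2 yg56 zg31) (kg xg2 yg27 zg50) (kg xg2 yg13 zg54)) (@D3.rec (fun _ => Pt) (kg xg9 yg5 zg29) (kg xg9 yg5 zg27) (kg xg2 yg13 zg55) (kg xg9 yg5 zg36) (kg xg9 yg5 zg26) (kg xg2 yg50 zg53) (kg xg2 yg50 zg34) (kg xg2 yg50 zg33) (kg xg6 yg16 zg61) (kg xg5 yg31 zg49) (kg xg6 yg4 zg15) (kg xg2 yg50 zg54) (kg xg2 yg13 zg61) (kg xg7 yg51 zg56) (kg xg5 yg43 zg37) (kg xg2 yg17 zg50) (kg xg5 yg42 zg37) (kg xg5 yg5 zg59) (kg xg5 yg34 zg43) (kg xg2 yg14 zg7) (kg xg8 yg12 zg16) (kg xg2 yg55 zg44) (kg xg5 yg12 zg29) (kg xg2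 yg49 zg58) (kg xg2 yg49 zg17) (kg xg2 yg50 zg15) (kg xg9 yg5 zg51) (kg xg3 yg24 zg0) (kg xg8 yg0 zg52) (kg xg3 yg17 zg42) (kg xg2 yg22 zg39) (kg xg2 yg50 zg5) (kg xg9 yg5 zg56) (kg xg9 yg5 zg52) (kg xg2 yg14 zg15) (kg xg7 yg44 zg57) (kg xg2 yg51 zg24) (kg xg2 yg14 zg16) (kg xg9 yg6 zg6) (kg xg2 yg51 zg23) (kg xg7 yg36 zg11) (kg xg4 yg39 zg52) (kg xg9 yg6 zg10) (kg xg5 yg50 zg38) (kg xg9 yg6 zg12) (kg xg2 yg14 zg25) (kg xg5 yg54 zg34) (kg xg8 yg0 zg9) (kg xg6 yg4 zg11) (kg xg2 yg51 zg57) (kg xg9 yg6 zg17) (kg xg5 yg38 zg26) (kg xg2 yg51 zg48) (kg xg9 yg6 zg23) (kg xg9 yg6 zg20) (kg xg2 yg14 zg33) (kg xg9 yg6 zg35) (kg xg9 yg6 zg18) (kg xg6 yg13 zg22) (kg xg2 yg45 zg4) (kg xg2 yg58 zg6) (kg xg2 yg14 zg35)) (@D3.rec (fun _ => Pt) (kg xg9 yg6 zg47) (kg xg5 yg38 zg23) (kg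 xg2 yg52 zg43) (kg xg2 yg52 zg42) (kg xg2 yg27 zg26) (kg xg2 yg27 zg28) (kg xg9 yg6 zg56) (kg xg9 yg6 zg59) (kg xg6 yg6 zg11) (kg xg9 yg6 zg54) (kg xg8 yg59 zg52) (kg xg2 yg15 zg60) (kg xg9 yg7 zg3) (kg xg9 yg7 zg5) (kg xg5 yg26 zg41) (kg xg8 yg49 zg51) (kg xg8 yg0 zg31) (kg xg3 yg20 zg43) (kg xg8 yg49 zg34) (kg xg9 yg7 zg9) (kg xg2 yg16 zg31) (kg xg2 yg54 zg40) (kg xg9 yg7 zg16) (kg xg2 yg14 zg60) (kg xg9 yg7 zg21) (kg xg2 yg14 zg58) (kg xg2 yg54 zg17) (kg xg3 yg15 zg34) (kg xg9 yg7 zg27) (kg xg9 yg7 zg19) (kg xg2 yg14 zg56) (kg xg9 yg7 zg33) (kg xg9 yg7 zg17) (kg xg8 yg50 zg21) (kg xg4 yg39 zg44) (kg xg8 yg48 zg53) (kg xg4 yg39 zg47) (kg xg9 yg7 zg23) (kg xg2 yg14 zg59) (kg xg9 yg7 zg46) (kg xg2 yg16 zg56) (kg xg3 yg2 zg38) (kg xg2 yg15 zg47) (kg xg3 yg21 zg2) (kg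 xg2 yg15 zg1) (kg xg2 yg54 zg1) (kg xg9 yg7 zg56) (kg xg5 yg34 zg55) (kg xg9 yg7 zg59) (kg xg9 yg8 zg0) (kg xg2 yg57 zg31) (kg xg2 yg15 zg33) (kg xg2 yg18 zg60) (kg xg2 yg15 zg23) (kg xg8 yg2 zg25) (kg xg8 yg0 zg13) (kg xg9 yg8 zg1) (kg xg2 yg22 zg26) (kg xg2 yg15 zg10) (kg xg2 yg57 zg58) (kg xg2 yg53 zg30) (kg xg3 yg3 zg17)) (@D3.rec (fun _ => Pt) (kg xg2 yg53 zg43) (kg xg5 yg34 zg19) (kg xg2 yg15 zg13) (kg xg9 yg8 zg20) (kg xg2 yg15 zg21) (kg xg3 yg4 zg12) (kg xg4 yg26 zg58) (kg xg2 yg18 zg46) (kg xg6 yg15 zg41) (kg xg9 yg8 zg28) (kg xg9 yg8 zg13) (kg xg2 yg15 zg17) (kg xg9 yg8 zg34) (kg xg5 yg56 zg61) (kg xg2 yg53 zg19) (kg xg2 yg15 zg18) (kg xg9 yg8 zg41) (kg xg9 yg8 zg16) (kg xg9 yg8 zg15) (kg xg2 yg15 zg19) (kg xg9 yg8 zg49) (kg xg6 yg13 zg20) (kg xg9 yg8 zg53)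 (kg xg6 yg13 zg23) (kg xg4 yg56 zg44) (kg xg9 yg8 zg22) (kg xg2 yg15 zg22) (kg xg9 yg9 zg0) (kg xg6 yg16 zg26) (kg xg9 yg9 zg5) (kg xg3 yg0 zg51) (kg xg2 yg55 zg37) (kg xg2 yg48 zg44) (kg xg2 yg54 zg60) (kg xg2 yg54 zg59) (kg xg9 yg7 zg2) (kg xg9 yg9 zg16) (kg xg6 yg7 zg45) (kg xg6 yg24 zg45) (kg xg9 yg9 zg20) (kg xg2 yg53 zg56) (kg xg2 yg16 zg3) (kg xg4 yg42 zg57) (kg xg7 yg56 zg56) (kg xg2 yg49 zg41) (kg xg2 yg33 zg54) (kg xg2 yg15 zg36) (kg xg2 yg49 zg44) (kg xg6 yg50 zg60) (kg xg2 yg53 zg39) (kg xg6 yg16 zg12) (kg xg3 yg9 zg61) (kg xg2 yg54 zg33) (kg xg4 yg39 zg56) (kg xg7 yg56 zg48) (kg xg6 yg24 zg24) (kg xg7 yg7 zg7) (kg xg2 yg54 zg20) (kg xg2 yg15 zg56) (kg xg2 yg15 zg42) (kg xg8 yg49 zg5) (kg xg5 yg38 zg12)) (@D3.rec (fun _ => Pt) (kg xg6 yg15 zg38) (kg xg4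 yg4 zg51) (kg xg2 yg15 zg43) (kg xg9 yg9 zg53) (kg xg5 yg7 zg44) (kg xg2 yg54 zg25) (kg xg3 yg2 zg4) (kg xg9 yg9 zg59) (kg xg2 yg15 zg58) (kg xg2 yg15 zg46) (kg xg2 yg19 zg51) (kg xg9 yg10 zg3) (kg xg9 yg10 zg6) (kg xg5 yg51 zg14) (kg xg9 yg7 zg52) (kg xg3 yg22 zg59) (kg xg6 yg50 zg4) (kg xg9 yg9 zg6) (kg xg4 yg5 zg43) (kg xg3 yg0 zg21) (kg xg7 yg39 zg53) (kg xg4 yg41 zg23) (kg xg9 yg9 zg14) (kg xg2 yg51 zg13) (kg xg9 yg10 zg24) (kg xg4 yg24 zg28) (kg xg5 yg46 zg26) (kg xg9 yg10 zg29) (kg xg2 yg15 zg57) (kg xg9 yg10 zg34) (kg xg7 yg31 zg22) (kg xg9 yg10 zg4) (kg xg9 yg10 zg40) (kg xg2 yg15 zg59) (kg xg9 yg9 zg12) (kg xg2 yg54 zg55) (kg xg2 yg57 zg61) (kg xg2 yg15 zg61) (kg xg9 yg10 zg53) (kg xg2 yg44 zg17) (kg xg3 yg16 zg14) (kg xg3 yg17 zg51) (kg xg9 yg10 zg59) (kg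 xg2 yg16 zg14) (kg xg2 yg16 zg2) (kg xg2 yg16 zg13) (kg xg3 yg20 zg15) (kg xg9 yg11 zg10) (kg xg2 yg16 zg6) (kg xg2 yg16 zg4) (kg xg9 yg11 zg17) (kg xg3 yg20 zg29) (kg xg2 yg16 zg5) (kg xg9 yg11 zg25) (kg xg3 yg20 zg27) (kg xg7 yg30 zg57) (kg xg6 yg28 zg60) (kg xg9 yg11 zg30) (kg xg3 yg20 zg23) (kg xg2 yg16 zg7) (kg xg2 yg57 zg23) (kg xg9 yg11 zg39)) (@D3.rec (fun _ => Pt) (kg xg6 yg44 zg21) (kg xg6 yg10 zg55) (kg xg9 yg11 zg21) (kg xg9 yg11 zg47) (kg xg2 yg50 zg11) (kg xg4 yg39 zg60) (kg xg9 yg11 zg34) (kg xg3 yg17 zg48) (kg xg2 yg16 zg10) (kg xg3 yg13 zg35) (kg xg9 yg11 zg58) (kg xg9 yg11 zg0) (kg xg2 yg16 zg11) (kg xg9 yg12 zg8) (kg xg9 yg10 zg60) (kg xg9 yg12 zg12) (kg xg9 yg12 zg17) (kg xg9 yg12 zg21) (kg xg9 yg11 zg38) (kg xg3 yg10 zg20) (kg xg9 yg11 zg16) (kg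 xg9 yg12 zg22) (kg xg3 yg10 zg46) (kg xg2 yg54 zg31) (kg xg2 yg54 zg50) (kg xg2 yg54 zg48) (kg xg2 yg16 zg16) (kg xg9 yg12 zg43) (kg xg2 yg57 zg15) (kg xg9 yg12 zg49) (kg xg2 yg57 zg12) (kg xg2 yg16 zg18) (kg xg3 yg16 zg43) (kg xg9 yg12 zg58) (kg xg9 yg12 zg52) (kg xg2 yg16 zg19) (kg xg9 yg13 zg4) (kg xg9 yg12 zg50) (kg xg2 yg56 zg19) (kg xg9 yg13 zg8) (kg xg9 yg13 zg9) (kg xg2 yg57 zg11) (kg xg2 yg42 zg57) (kg xg2 yg57 zg0) (kg xg9 yg13 zg17) (kg xg2 yg56 zg59) (kg xg2 yg16 zg25) (kg xg5 yg54 zg41) (kg xg9 yg13 zg23) (kg xg9 yg13 zg19) (kg xg2 yg16 zg26) (kg xg9 yg13 zg32) (kg xg9 yg13 zg18) (kg xg9 yg13 zg34) (kg xg2 yg22 zg17) (kg xg9 yg13 zg35) (kg xg2 yg18 zg9) (kg xg2 yg57 zg29) (kg xg2 yg16 zg29) (kg xg5 yg50 zg21) (kg xg2 yg57 zg27) (kg xg2 yg57 zg42)) (@D3.rec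 (fun _ => Pt) (kg xg2 yg57 zg41) (kg xg9 yg13 zg49) (kg xg9 yg13 zg52) (kg xg9 yg13 zg55) (kg xg2 yg16 zg35) (kg xg2 yg16 zg32) (kg xg2 yg16 zg33) (kg xg2 yg57 zg39) (kg xg2 yg16 zg34) (kg xg2 yg53 zg15) (kg xg9 yg14 zg2) (kg xg5 yg49 zg32) (kg xg5 yg37 zg17) (kg xg2 yg16 zg36) (kg xg5 yg52 zg39) (kg xg6 yg22 zg29) (kg xg2 yg53 zg26) (kg xg9 yg14 zg11) (kg xg5 yg52 zg36) (kg xg9 yg14 zg16) (kg xg2 yg52 zg61) (kg xg4 yg57 zg61) (kg xg9 yg14 zg23) (kg xg2 yg53 zg10) (kg xg3 yg3 zg32) (kg xg9 yg14 zg30) (kg xg2 yg48 zg54) (kg xg2 yg16 zg41) (kg xg9 yg14 zg37) (kg xg2 yg16 zg43) (kg xg5 yg49 zg58) (kg xg6 yg43 zg6) (kg xg9 yg14 zg7) (kg xg9 yg14 zg44) (kg xg8 yg2 zg5) (kg xg4 yg41 zg25) (kg xg9 yg9 zg47) (kg xg9 yg14 zg49) (kg xg6 yg24 zg23) (kg xg2 yg16 zg51) (kg xg6 yg24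 zg22) (kg xg2 yg16 zg54) (kg xg5 yg12 zg25) (kg xg9 yg14 zg58) (kg xg4 yg35 zg36) (kg xg2 yg16 zg55) (kg xg6 yg24 zg46) (kg xg4 yg35 zg34) (kg xg4 yg31 zg15) (kg xg9 yg15 zg6) (kg xg9 yg15 zg11) (kg xg9 yg7 zg54) (kg xg5 yg50 zg47) (kg xg3 yg0 zg27) (kg xg3 yg0 zg26) (kg xg9 yg15 zg20) (kg xg4 yg36 zg51) (kg xg4 yg41 zg29) (kg xg3 yg2 zg5) (kg xg2 yg17 zg2) (kg xg4 yg38 zg1) (kg xg9 yg15 zg27)) (@D3.rec (fun _ => Pt) (kg xg9 yg9 zg61) (kg xg2 yg17 zg3) (kg xg9 yg9 zg60) (kg xg6 yg25 zg11) (kg xg9 yg13 zg38) (kg xg2 yg53 zg61) (kg xg2 yg53 zg38) (kg xg9 yg13 zg61) (kg xg6 yg2 zg9) (kg xg2 yg21 zg40) (kg xg9 yg15 zg45) (kg xg3 yg8 zg3) (kg xg8 yg35 zg48) (kg xg9 yg15 zg47) (kg xg3 yg7 zg27) (kg xg3 yg8 zg5) (kg xg9 yg15 zg55) (kg xg9 yg15 zg59) (kg xg4 yg45 zg11) (kg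 xg9 yg16 zg3) (kg xg2 yg17 zg27) (kg xg2 yg17 zg16) (kg xg2 yg17 zg26) (kg xg2 yg17 zg17) (kg xg5 yg54 zg14) (kg xg6 yg19 zg58) (kg xg9 yg16 zg14) (kg xg9 yg16 zg12) (kg xg7 yg31 zg17) (kg xg2 yg17 zg19) (kg xg9 yg16 zg21) (kg xg2 yg20 zg47) (kg xg9 yg16 zg26) (kg xg2 yg21 zg23) (kg xg3 yg14 zg24) (kg xg2 yg17 zg22) (kg xg3 yg0 zg37) (kg xg4 yg46 zg35) (kg xg9 yg16 zg36) (kg xg2 yg21 zg12) (kg xg9 yg16 zg42) (kg xg9 yg16 zg6) (kg xg2 yg17 zg24) (kg xg9 yg16 zg52) (kg xg9 yg16 zg4) (kg xg5 yg58 zg33) (kg xg9 yg16 zg57) (kg xg3 yg2 zg56) (kg xg6 yg43 zg45) (kg xg9 yg16 zg10) (kg xg9 yg17 zg4) (kg xg9 yg17 zg7) (kg xg2 yg17 zg29) (kg xg9 yg17 zg14) (kg xg9 yg17 zg5) (kg xg6 yg15 zg50) (kg xg6 yg46 zg50) (kg xg2 yg54 zg35) (kg xg6 yg46 zg48) (kg xg6 yg2 zg41) (kg xg3 yg2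 zg42) (kg xg9 yg17 zg28)) (@D3.rec (fun _ => Pt) (kg xg3 yg2 zg40) (kg xg3 yg2 zg57) (kg xg9 yg17 zg32) (kg xg3 yg14 zg26) (kg xg5 yg47 zg50) (kg xg6 yg26 zg61) (kg xg2 yg52 zg40) (kg xg6 yg27 zg2) (kg xg2 yg20 zg12) (kg xg2 yg17 zg37) (kg xg3 yg2 zg54) (kg xg3 yg14 zg6) (kg xg6 yg42 zg40) (kg xg2 yg52 zg22) (kg xg6 yg25 zg53) (kg xg5 yg50 zg22) (kg xg2 yg21 zg56) (kg xg2 yg20 zg14) (kg xg2 yg17 zg45) (kg xg2 yg17 zg43) (kg xg5 yg55 zg29) (kg xg4 yg25 zg59) (kg xg5 yg5 zg12) (kg xg4 yg5 zg36) (kg xg9 yg3 zg24) (kg xg6 yg14 zg60) (kg xg4 yg33 zg5) (kg xg4 yg39 zg48) (kg xg4 yg39 zg57) (kg xg2 yg17 zg49) (kg xg9 yg17 zg55) (kg xg3 yg5 zg27) (kg xg6 yg8 zg33) (kg xg5 yg28 zg44) (kg xg9 yg13 zg59) (kg xg7 yg27 zg11) (kg xg2 yg59 zg61) (kg xg2 yg57 zg38) (kg xg9 yg18 zg5)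 (kg xg5 yg12 zg57) (kg xg7 yg44 zg22) (kg xg3 yg10 zg50) (kg xg3 yg10 zg32) (kg xg9 yg18 zg8) (kg xg2 yg18 zg3) (kg xg3 yg59 zg48) (kg xg9 yg18 zg10) (kg xg9 yg11 zg8) (kg xg3 yg7 zg46) (kg xg2 yg33 zg49) (kg xg6 yg50 zg54) (kg xg3 yg59 zg55) (kg xg3 yg12 zg53) (kg xg3 yg12 zg55) (kg xg6 yg12 zg46) (kg xg5 yg4 zg19) (kg xg6 yg24 zg1) (kg xg3 yg9 zg12) (kg xg6 yg26 zg12) (kg xg2 yg18 zg18) (kg xg9 yg18 zg25) (kg xg6 yg28 zg10)) (@D3.rec (fun _ => Pt) (kg xg6 yg47 zg39) (kg xg9 yg18 zg28) (kg xg2 yg18 zg23) (kg xg2 yg18 zg21) (kg xg6 yg12 zg45) (kg xg2 yg18 zg22) (kg xg3 yg6 zg21) (kg xg6 yg36 zg17) (kg xg9 yg18 zg37) (kg xg6 yg42 zg52) (kg xg6 yg49 zg58) (kg xg3 yg8 zg57) (kg xg2 yg18 zg26) (kg xg9 yg18 zg46) (kg xg9 yg18 zg50) (kg xg3 yg8 zg54) (kg xg9 yg18 zg52) (kg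 xg3 yg8 zg60) (kg xg8 yg20 zg50) (kg xg9 yg18 zg60) (kg xg9 yg19 zg0) (kg xg6 yg19 zg31) (kg xg3 yg9 zg13) (kg xg2 yg18 zg33) (kg xg6 yg48 zg47) (kg xg2 yg18 zg34) (kg xg6 yg23 zg34) (kg xg2 yg21 zg41) (kg xg9 yg19 zg14) (kg xg9 yg19 zg18) (kg xg6 yg48 zg54) (kg xg6 yg28 zg57) (kg xg3 yg9 zg48) (kg xg2 yg18 zg41) (kg xg3 yg9 zg47) (kg xg6 yg7 zg32) (kg xg2 yg53 zg28) (kg xg9 yg7 zg60) (kg xg9 yg19 zg29) (kg xg4 yg26 zg34) (kg xg2 yg18 zg48) (kg xg9 yg19 zg38) (kg xg4 yg26 zg32) (kg xg5 yg50 zg48) (kg xg2 yg18 zg49) (kg xg8 yg2 zg8) (kg xg2 yg18 zg56) (kg xg2 yg18 zg53) (kg xg4 yg58 zg54) (kg xg8 yg12 zg20) (kg xg4 yg36 zg50) (kg xg2 yg49 zg35) (kg xg5 yg53 zg27) (kg xg8 yg37 zg42) (kg xg2 yg18 zg57) (kg xg5 yg42 zg1) (kg xg2 yg49 zg12) (kg xg4 yg36 zg49) (kg xg4 yg39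 zg42) (kg xg9 yg11 zg1) (kg xg3 yg43 zg3) (kg xg5 yg34 zg46)) (@D3.rec (fun _ => Pt) (kg xg6 yg23 zg52) (kg xg4 yg47 zg36) (kg xg9 yg19 zg53) (kg xg3 yg7 zg41) (kg xg2 yg19 zg8) (kg xg6 yg49 zg41) (kg xg6 yg23 zg3) (kg xg6 yg50 zg1) (kg xg6 yg38 zg19) (kg xg6 yg37 zg33) (kg xg7 yg30 zg58) (kg xg2 yg54 zg2) (kg xg6 yg51 zg19) (kg xg6 yg51 zg21) (kg xg5 yg10 zg42) (kg xg2 yg19 zg19) (kg xg9 yg20 zg4) (kg xg9 yg19 zg55) (kg xg6 yg17 zg15) (kg xg6 yg37 zg24) (kg xg6 yg21 zg0) (kg xg6 yg17 zg16) (kg xg6 yg19 zg13) (kg xg8 yg23 zg47) (kg xg4 yg47 zg31) (kg xg3 yg11 zg16) (kg xg9 yg20 zg11) (kg xg2 yg19 zg30) (kg xg2 yg19 zg28) (kg xg6 yg43 zg53) (kg xg4 yg50 zg7) (kg xg7 yg20 zg4) (kg xg6 yg43 zg54) (kg xg9 yg20 zg10) (kg xg6 yg49 zg35) (kg xg3 yg11 zg36) (kg xg2 yg19 zg34)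 (kg xg8 yg25 zg26) (kg xg9 yg20 zg29) (kg xg3 yg11 zg33) (kg xg8 yg24 zg5) (kg xg2 yg19 zg36) (kg xg8 yg24 zg37) (kg xg3 yg17 zg7) (kg xg5 yg5 zg44) (kg xg3 yg7 zg43) (kg xg5 yg34 zg52) (kg xg6 yg50 zg46) (kg xg9 yg20 zg38) (kg xg3 yg21 zg55) (kg xg2 yg19 zg43) (kg xg9 yg20 zg41) (kg xg3 yg13 zg17) (kg xg3 yg12 zg43) (kg xg6 yg36 zg54) (kg xg6 yg19 zg23) (kg xg6 yg19 zg7) (kg xg5 yg18 zg56) (kg xg9 yg15 zg53) (kg xg3 yg28 zg37) (kg xg9 yg20 zg49) (kg xg2 yg21 zg5)) (@D3.rec (fun _ => Pt) (kg xg9 yg20 zg53) (kg xg9 yg20 zg55) (kg xg3 yg6 zg20) (kg xg7 yg42 zg40) (kg xg9 yg20 zg61) (kg xg9 yg21 zg1) (kg xg6 yg29 zg7) (kg xg9 yg21 zg5) (kg xg3 yg11 zg58) (kg xg3 yg2 zg21) (kg xg6 yg55 zg60) (kg xg9 yg16 zg51) (kg xg2 yg20 zg5) (kg xg4 yg45 zg4) (kg xg3 yg3 zg8) (kg xg9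 yg16 zg60) (kg xg9 yg21 zg19) (kg xg2 yg20 zg34) (kg xg2 yg20 zg8) (kg xg9 yg21 zg28) (kg xg4 yg44 zg39) (kg xg9 yg17 zg1) (kg xg3 yg45 zg15) (kg xg6 yg17 zg35) (kg xg3 yg45 zg34) (kg xg9 yg21 zg38) (kg xg3 yg1 zg61) (kg xg3 yg2 zg15) (kg xg9 yg21 zg42) (kg xg9 yg21 zg45) (kg xg9 yg21 zg47) (kg xg6 yg17 zg43) (kg xg9 yg21 zg51) (kg xg3 yg14 zg14) (kg xg2 yg20 zg42) (kg xg6 yg21 zg11) (kg xg6 yg17 zg18) (kg xg6 yg29 zg28) (kg xg9 yg21 zg60) (kg xg4 yg44 zg22) (kg xg3 yg45 zg43) (kg xg4 yg45 zg1) (kg xg9 yg16 zg7) (kg xg2 yg55 zg54) (kg xg4 yg45 zg7) (kg xg6 yg17 zg31) (kg xg9 yg16 zg11) (kg xg2 yg20 zg32) (kg xg5 yg54 zg48) (kg xg4 yg42 zg37) (kg xg9 yg22 zg16) (kg xg2 yg20 zg38) (kg xg2 yg20 zg33) (kg xg9 yg22 zg23) (kg xg9 yg21 zg29) (kg xg9 yg22 zg28) (kg xg9 yg16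 zg16) (kg xg2 yg20 zg37) (kg xg9 yg16 zg15) (kg xg9 yg22 zg37) (kg xg9 yg22 zg41) (kg xg3 yg19 zg33)) (@D3.rec (fun _ => Pt) (kg xg9 yg22 zg43) (kg xg4 yg44 zg44) (kg xg9 yg22 zg49) (kg xg2 yg20 zg41) (kg xg3 yg19 zg34) (kg xg2 yg20 zg59) (kg xg6 yg14 zg40) (kg xg4 yg44 zg41) (kg xg3 yg19 zg48) (kg xg9 yg22 zg59) (kg xg9 yg22 zg61) (kg xg3 yg5 zg56) (kg xg3 yg19 zg23) (kg xg9 yg23 zg5) (kg xg4 yg40 zg18) (kg xg3 yg14 zg44) (kg xg2 yg56 zg2) (kg xg2 yg20 zg46) (kg xg9 yg21 zg43) (kg xg9 yg23 zg21) (kg xg9 yg23 zg24) (kg xg9 yg23 zg28) (kg xg2 yg21 zg27) (kg xg2 yg20 zg48) (kg xg9 yg23 zg35) (kg xg2 yg21 zg25) (kg xg6 yg19 zg59) (kg xg3 yg21 zg47) (kg xg9 yg23 zg42) (kg xg4 yg42 zg0) (kg xg3 yg21 zg61) (kg xg2 yg20 zg52) (kg xg6 yg31 zg44) (kg xg3 yg19 zg16) (kg xg9 yg23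 zg48) (kg xg3 yg19 zg54) (kg xg2 yg56 zg23) (kg xg2 yg21 zg30) (kg xg9 yg22 zg54) (kg xg2 yg20 zg55) (kg xg6 yg1 zg50) (kg xg2 yg53 zg31) (kg xg9 yg24 zg0) (kg xg2 yg21 zg3) (kg xg2 yg20 zg56) (kg xg8 yg29 zg15) (kg xg9 yg22 zg50) (kg xg2 yg20 zg57) (kg xg8 yg30 zg55) (kg xg6 yg20 zg46) (kg xg9 yg23 zg4) (kg xg6 yg17 zg47) (kg xg2 yg21 zg33) (kg xg2 yg21 zg10) (kg xg9 yg21 zg16) (kg xg2 yg21 zg45) (kg xg6 yg12 zg56) (kg xg9 yg24 zg23) (kg xg4 yg44 zg13) (kg xg9 yg24 zg28) (kg xg3 yg13 zg27) (kg xg9 yg22 zg45)) (@D3.rec (fun _ => Pt) (kg xg2 yg21 zg2) (kg xg9 yg22 zg44) (kg xg9 yg24 zg39) (kg xg9 yg5 zg55) (kg xg5 yg15 zg61) (kg xg9 yg20 zg51) (kg xg2 yg21 zg4) (kg xg9 yg24 zg48) (kg xg9 yg22 zg57) (kg xg2 yg21 zg13) (kg xg3 yg22 zg7) (kg xg9 yg20 zg52) (kg xg2 yg21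 zg6) (kg xg9 yg24 zg58) (kg xg3 yg20 zg7) (kg xg9 yg23 zg7) (kg xg2 yg21 zg8) (kg xg9 yg23 zg6) (kg xg6 yg25 zg23) (kg xg9 yg25 zg16) (kg xg9 yg25 zg19) (kg xg8 yg28 zg56) (kg xg8 yg26 zg46) (kg xg9 yg22 zg51) (kg xg9 yg23 zg1) (kg xg2 yg21 zg11) (kg xg9 yg23 zg0) (kg xg9 yg25 zg32) (kg xg9 yg25 zg35) (kg xg7 yg43 zg54) (kg xg5 yg15 zg47) (kg xg9 yg25 zg41) (kg xg3 yg20 zg2) (kg xg7 yg45 zg22) (kg xg5 yg57 zg50) (kg xg5 yg58 zg5) (kg xg9 yg25 zg51) (kg xg9 yg25 zg54) (kg xg4 yg40 zg37) (kg xg3 yg27 zg18) (kg xg2 yg56 zg39) (kg xg9 yg25 zg61) (kg xg2 yg56 zg3) (kg xg2 yg21 zg17) (kg xg5 yg57 zg39) (kg xg9 yg26 zg9) (kg xg9 yg26 zg2) (kg xg2 yg21 zg18) (kg xg9 yg26 zg19) (kg xg9 yg26 zg0) (kg xg9 yg25 zg4) (kg xg9 yg26 zg26) (kg xg9 yg25 zg27) (kg xg9 yg26 zg31) (kg xg9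 yg26 zg34) (kg xg9 yg26 zg37) (kg xg9 yg23 zg30) (kg xg2 yg21 zg22) (kg xg9 yg26 zg48) (kg xg8 yg29 zg32) (kg xg9 yg26 zg53) (kg xg9 yg26 zg56)) (@D3.rec (fun _ => Pt) (kg xg9 yg26 zg59) (kg xg6 yg33 zg28) (kg xg3 yg21 zg39) (kg xg9 yg25 zg28) (kg xg3 yg7 zg33) (kg xg9 yg26 zg60) (kg xg6 yg32 zg32) (kg xg9 yg23 zg38) (kg xg2 yg21 zg26) (kg xg9 yg27 zg18) (kg xg9 yg23 zg36) (kg xg6 yg49 zg61) (kg xg3 yg19 zg55) (kg xg2 yg21 zg28) (kg xg9 yg27 zg29) (kg xg3 yg23 zg45) (kg xg2 yg21 zg32) (kg xg9 yg27 zg36) (kg xg6 yg33 zg32) (kg xg3 yg21 zg42) (kg xg9 yg24 zg35) (kg xg8 yg56 zg38) (kg xg9 yg27 zg47) (kg xg9 yg17 zg0) (kg xg2 yg22 zg5) (kg xg3 yg19 zg52) (kg xg3 yg19 zg58) (kg xg2 yg21 zg51) (kg xg3 yg19 zg56) (kg xg2 yg21 zg36) (kg xg9 yg28 zg0) (kg xg6 yg20 zg54) (kg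 xg6 yg20 zg55) (kg xg4 yg43 zg24) (kg xg9 yg28 zg5) (kg xg9 yg24 zg20) (kg xg3 yg12 zg2) (kg xg9 yg15 zg48) (kg xg9 yg28 zg14) (kg xg6 yg17 zg24) (kg xg2 yg21 zg43) (kg xg9 yg28 zg20) (kg xg9 yg28 zg24) (kg xg9 yg28 zg28) (kg xg6 yg20 zg38) (kg xg2 yg21 zg53) (kg xg6 yg43 zg40) (kg xg3 yg46 zg39) (kg xg2 yg22 zg37) (kg xg3 yg52 zg48) (kg xg9 yg27 zg54) (kg xg2 yg21 zg49) (kg xg9 yg28 zg40) (kg xg9 yg24 zg13) (kg xg9 yg27 zg27) (kg xg6 yg17 zg32) (kg xg3 yg16 zg29) (kg xg6 yg59 zg0) (kg xg6 yg17 zg34) (kg xg9 yg27 zg57) (kg xg2 yg21 zg52) (kg xg9 yg28 zg52)) (@D3.rec (fun _ => Pt) (kg xg3 yg5 zg60) (kg xg3 yg17 zg35) (kg xg9 yg28 zg57) (kg xg2 yg21 zg55) (kg xg9 yg18 zg31) (kg xg9 yg18 zg32) (kg xg3 yg20 zg14) (kg xg3 yg3 zg9) (kg xg3 yg16 zg61) (kg xg9 yg29 zg3) (kg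 xg6 yg21 zg47) (kg xg3 yg19 zg37) (kg xg7 yg36 zg14) (kg xg3 yg23 zg46) (kg xg2 yg22 zg1) (kg xg9 yg29 zg14) (kg xg9 yg29 zg16) (kg xg9 yg27 zg50) (kg xg2 yg22 zg3) (kg xg9 yg29 zg22) (kg xg9 yg29 zg11) (kg xg6 yg50 zg52) (kg xg9 yg27 zg58) (kg xg6 yg50 zg55) (kg xg9 yg29 zg27) (kg xg9 yg27 zg51) (kg xg2 yg22 zg6) (kg xg9 yg29 zg34) (kg xg6 yg32 zg22) (kg xg2 yg22 zg10) (kg xg2 yg22 zg8) (kg xg9 yg20 zg14) (kg xg3 yg16 zg12) (kg xg9 yg29 zg41) (kg xg9 yg20 zg15) (kg xg7 yg11 zg45) (kg xg3 yg16 zg7) (kg xg3 yg3 zg7) (kg xg9 yg29 zg47) (kg xg6 yg26 zg42) (kg xg3 yg20 zg10) (kg xg3 yg22 zg22) (kg xg9 yg29 zg54) (kg xg2 yg22 zg19) (kg xg2 yg22 zg16) (kg xg9 yg23 zg56) (kg xg5 yg58 zg12) (kg xg9 yg30 zg3) (kg xg2 yg56 zg29) (kg xg2 yg56 zg27) (kg xg2 yg53 zg2) (kg xg3 yg51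 zg21) (kg xg9 yg30 zg12) (kg xg3 yg46 zg40) (kg xg5 yg58 zg14) (kg xg6 yg51 zg43) (kg xg2 yg22 zg20) (kg xg9 yg13 zg12) (kg xg2 yg56 zg17) (kg xg2 yg22 zg25) (kg xg2 yg22 zg21) (kg xg9 yg30 zg33)) (@D3.rec (fun _ => Pt) (kg xg2 yg22 zg23) (kg xg9 yg30 zg37) (kg xg9 yg30 zg41) (kg xg9 yg30 zg44) (kg xg9 yg30 zg22) (kg xg5 yg50 zg60) (kg xg9 yg29 zg60) (kg xg9 yg30 zg45) (kg xg6 yg32 zg35) (kg xg9 yg30 zg36) (kg xg2 yg22 zg24) (kg xg9 yg31 zg6) (kg xg9 yg30 zg34) (kg xg3 yg20 zg54) (kg xg3 yg20 zg53) (kg xg9 yg31 zg15) (kg xg9 yg31 zg16) (kg xg2 yg22 zg30) (kg xg2 yg22 zg27) (kg xg6 yg46 zg36) (kg xg9 yg31 zg26) (kg xg2 yg22 zg29) (kg xg2 yg54 zg13) (kg xg9 yg12 zg54) (kg xg4 yg6 zg46) (kg xg9 yg31 zg36) (kg xg6 yg46 zg39) (kg xg2 yg45 zg44) (kg xg2 yg57 zg22) (kg xg9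 yg31 zg12) (kg xg6 yg46 zg30) (kg xg6 yg45 zg29) (kg xg4 yg30 zg21) (kg xg2 yg59 zg25) (kg xg5 yg0 zg23) (kg xg9 yg31 zg50) (kg xg3 yg21 zg11) (kg xg2 yg22 zg34) (kg xg9 yg31 zg54) (kg xg6 yg46 zg46) (kg xg3 yg21 zg8) (kg xg9 yg5 zg22) (kg xg6 yg50 zg48) (kg xg3 yg21 zg40) (kg xg9 yg32 zg2) (kg xg9 yg32 zg5) (kg xg9 yg32 zg7) (kg xg3 yg24 zg8) (kg xg3 yg21 zg49) (kg xg3 yg21 zg48) (kg xg9 yg32 zg14) (kg xg2 yg22 zg47) (kg xg2 yg22 zg40) (kg xg9 yg31 zg21) (kg xg9 yg32 zg23) (kg xg9 yg32 zg26) (kg xg5 yg47 zg13) (kg xg2 yg55 zg38) (kg xg3 yg19 zg4) (kg xg6 yg31 zg16) (kg xg9 yg32 zg32) (kg xg2 yg39 zg49)) (@D3.rec (fun _ => Pt) (kg xg9 yg32 zg34) (kg xg9 yg31 zg23) (kg xg4 yg29 zg21) (kg xg3 yg22 zg10) (kg xg2 yg22 zg50) (kg xg6 yg21 zg48) (kg xg3 yg20 zg6) (kg xg3 yg19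 zg2) (kg xg8 yg24 zg60) (kg xg6 yg26 zg6) (kg xg3 yg20 zg3) (kg xg6 yg21 zg21) (kg xg9 yg32 zg46) (kg xg3 yg13 zg39) (kg xg3 yg9 zg18) (kg xg3 yg21 zg58) (kg xg2 yg22 zg56) (kg xg9 yg32 zg54) (kg xg9 yg32 zg58) (kg xg9 yg32 zg59) (kg xg6 yg22 zg9) (kg xg2 yg22 zg58) (kg xg3 yg40 zg2) (kg xg9 yg33 zg3) (kg xg8 yg35 zg21) (kg xg3 yg22 zg29) (kg xg2 yg22 zg61) (kg xg6 yg18 zg1) (kg xg2 yg23 zg0) (kg xg6 yg18 zg0) (kg xg8 yg31 zg57) (kg xg8 yg24 zg45) (kg xg4 yg19 zg49) (kg xg5 yg36 zg8) (kg xg5 yg9 zg26) (kg xg2 yg23 zg4) (kg xg5 yg20 zg17) (kg xg5 yg17 zg23) (kg xg6 yg6 zg58) (kg xg8 yg9 zg44) (kg xg9 yg33 zg25) (kg xg4 yg14 zg25) (kg xg2 yg23 zg9) (kg xg9 yg33 zg34) (kg xg9 yg33 zg39) (kg xg4 yg3 zg11) (kg xg4 yg14 zg54) (kg xg5 yg29 zg35) (kg xg5 yg17 zg18) (kg xg9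 yg33 zg44) (kg xg4 yg12 zg48) (kg xg8 yg32 zg57) (kg xg8 yg37 zg38) (kg xg5 yg29 zg30) (kg xg4 yg21 zg27) (kg xg4 yg53 zg25) (kg xg3 yg56 zg54) (kg xg9 yg33 zg58) (kg xg9 yg33 zg60) (kg xg8 yg17 zg3) (kg xg2 yg23 zg44) (kg xg4 yg53 zg18)) (@D3.rec (fun _ => Pt) (kg xg2 yg23 zg20) (kg xg2 yg41 zg26) (kg xg9 yg34 zg7) (kg xg4 yg12 zg33) (kg xg2 yg23 zg32) (kg xg4 yg51 zg8) (kg xg9 yg34 zg13) (kg xg4 yg3 zg7) (kg xg4 yg51 zg24) (kg xg9 yg34 zg18) (kg xg2 yg23 zg34) (kg xg2 yg23 zg25) (kg xg9 yg34 zg27) (kg xg9 yg34 zg32) (kg xg9 yg34 zg34) (kg xg8 yg36 zg38) (kg xg9 yg34 zg39) (kg xg8 yg36 zg39) (kg xg2 yg36 zg32) (kg xg4 yg13 zg0) (kg xg3 yg58 zg14) (kg xg4 yg10 zg13) (kg xg9 yg34 zg49) (kg xg4 yg12 zg54) (kg xg4 yg18 zg60) (kg xg9 yg34 zg53) (kg xg9 yg34 zg55) (kg xg4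 yg21 zg26) (kg xg9 yg34 zg61) (kg xg2 yg23 zg35) (kg xg4 yg12 zg43) (kg xg9 yg35 zg3) (kg xg2 yg23 zg41) (kg xg9 yg35 zg8) (kg xg9 yg35 zg13) (kg xg9 yg35 zg16) (kg xg8 yg10 zg13) (kg xg2 yg23 zg39) (kg xg9 yg33 zg55) (kg xg4 yg6 zg8) (kg xg2 yg37 zg12) (kg xg9 yg35 zg28) (kg xg9 yg35 zg32) (kg xg9 yg35 zg14) (kg xg9 yg35 zg38) (kg xg9 yg33 zg59) (kg xg2 yg23 zg42) (kg xg5 yg9 zg61) (kg xg4 yg53 zg36) (kg xg9 yg35 zg46) (kg xg9 yg35 zg51) (kg xg9 yg35 zg20) (kg xg9 yg35 zg55) (kg xg8 yg24 zg47) (kg xg6 yg31 zg3) (kg xg9 yg36 zg1) (kg xg2 yg23 zg45) (kg xg8 yg35 zg34) (kg xg9 yg36 zg9) (kg xg9 yg36 zg5) (kg xg4 yg52 zg0) (kg xg2 yg23 zg46)) (@D3.rec (fun _ => Pt) (kg xg4 yg51 zg61) (kg xg9 yg36 zg21) (kg xg8 yg40 zg15) (kg xg8 yg42 zg30) (kg xg4 yg0 zg21) (kg xg2 yg23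 zg48) (kg xg4 yg53 zg31) (kg xg9 yg36 zg36) (kg xg4 yg53 zg29) (kg xg2 yg23 zg50) (kg xg8 yg25 zg25) (kg xg9 yg36 zg43) (kg xg9 yg36 zg38) (kg xg2 yg23 zg51) (kg xg9 yg36 zg37) (kg xg4 yg52 zg58) (kg xg4 yg56 zg8) (kg xg5 yg39 zg50) (kg xg8 yg11 zg57) (kg xg4 yg21 zg2) (kg xg9 yg36 zg59) (kg xg2 yg23 zg56) (kg xg8 yg24 zg24) (kg xg9 yg37 zg2) (kg xg9 yg36 zg60) (kg xg2 yg23 zg57) (kg xg9 yg36 zg49) (kg xg4 yg53 zg46) (kg xg4 yg0 zg17) (kg xg2 yg24 zg0) (kg xg2 yg24 zg3) (kg xg6 yg48 zg33) (kg xg9 yg37 zg12) (kg xg7 yg55 zg17) (kg xg3 yg19 zg20) (kg xg2 yg24 zg1) (kg xg9 yg37 zg13) (kg xg2 yg24 zg39) (kg xg2 yg24 zg40) (kg xg2 yg24 zg2) (kg xg9 yg37 zg24) (kg xg9 yg37 zg26) (kg xg9 yg37 zg28) (kg xg4 yg12 zg13) (kg xg4 yg19 zg3) (kg xg4 yg53 zg28) (kg xg9 yg37 zg32)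 (kg xg8 yg9 zg52) (kg xg4 yg3 zg33) (kg xg2 yg24 zg8) (kg xg4 yg3 zg31) (kg xg2 yg37 zg20) (kg xg4 yg3 zg43) (kg xg2 yg53 zg27) (kg xg9 yg37 zg42) (kg xg8 yg1 zg30) (kg xg2 yg24 zg18) (kg xg4 yg4 zg37) (kg xg8 yg1 zg29) (kg xg4 yg4 zg60) (kg xg2 yg58 zg22) (kg xg9 yg37 zg55)) (@D3.rec (fun _ => Pt) (kg xg8 yg1 zg33) (kg xg2 yg24 zg20) (kg xg4 yg52 zg28) (kg xg9 yg37 zg61) (kg xg8 yg40 zg36) (kg xg9 yg37 zg46) (kg xg9 yg38 zg8) (kg xg5 yg39 zg22) (kg xg9 yg37 zg58) (kg xg9 yg37 zg21) (kg xg2 yg24 zg23) (kg xg8 yg23 zg13) (kg xg9 yg38 zg22) (kg xg4 yg0 zg3) (kg xg2 yg24 zg24) (kg xg9 yg38 zg30) (kg xg9 yg38 zg33) (kg xg4 yg50 zg61) (kg xg2 yg24 zg26) (kg xg9 yg38 zg42) (kg xg8 yg37 zg21) (kg xg6 yg23 zg30) (kg xg9 yg38 zg44) (kg xg2 yg24 zg29) (kg xg9 yg38 zg43) (kg xg4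 yg51 zg38) (kg xg7 yg58 zg52) (kg xg8 yg11 zg58) (kg xg8 yg14 zg26) (kg xg4 yg52 zg9) (kg xg6 yg21 zg2) (kg xg2 yg24 zg34) (kg xg8 yg36 zg15) (kg xg6 yg21 zg3) (kg xg2 yg24 zg35) (kg xg4 yg52 zg45) (kg xg4 yg50 zg57) (kg xg8 yg35 zg12) (kg xg9 yg39 zg6) (kg xg8 yg21 zg4) (kg xg3 yg14 zg2) (kg xg6 yg48 zg46) (kg xg9 yg39 zg7) (kg xg4 yg12 zg37) (kg xg4 yg18 zg38) (kg xg4 yg12 zg52) (kg xg4 yg52 zg18) (kg xg2 yg36 zg15) (kg xg2 yg24 zg47) (kg xg4 yg53 zg54) (kg xg4 yg5 zg49) (kg xg4 yg53 zg50) (kg xg4 yg7 zg12) (kg xg4 yg53 zg49) (kg xg2 yg24 zg50) (kg xg4 yg53 zg48) (kg xg9 yg39 zg20) (kg xg5 yg10 zg3) (kg xg8 yg26 zg15) (kg xg2 yg24 zg53) (kg xg2 yg34 zg55) (kg xg2 yg28 zg31)) (@D3.rec (fun _ => Pt) (kg xg5 yg8 zg44) (kg xg2 yg25 zg29) (kg xg4 yg54 zg19) (kg xg2 yg36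 zg21) (kg xg4 yg54 zg17) (kg xg5 yg10 zg8) (kg xg8 yg24 zg43) (kg xg5 yg10 zg52) (kg xg9 yg39 zg42) (kg xg4 yg54 zg28) (kg xg2 yg24 zg60) (kg xg9 yg39 zg51) (kg xg9 yg39 zg56) (kg xg4 yg54 zg25) (kg xg9 yg40 zg0) (kg xg5 yg2 zg50) (kg xg5 yg3 zg1) (kg xg2 yg25 zg1) (kg xg2 yg35 zg50) (kg xg2 yg31 zg41) (kg xg5 yg2 zg10) (kg xg9 yg40 zg10) (kg xg2 yg36 zg12) (kg xg9 yg40 zg15) (kg xg4 yg54 zg13) (kg xg2 yg25 zg6) (kg xg9 yg40 zg24) (kg xg9 yg40 zg29) (kg xg4 yg54 zg10) (kg xg5 yg4 zg46) (kg xg5 yg22 zg32) (kg xg2 yg44 zg18) (kg xg5 yg22 zg34) (kg xg9 yg1 zg14) (kg xg5 yg22 zg26) (kg xg7 yg58 zg49) (kg xg5 yg16 zg55) (kg xg9 yg40 zg49) (kg xg2 yg25 zg13) (kg xg9 yg40 zg54) (kg xg5 yg22 zg20) (kg xg2 yg25 zg39) (kg xg8 yg11 zg52) (kg xg2 yg25 zg15) (kg xg2 yg40 zg30) (kg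 xg9 yg41 zg3) (kg xg2 yg25 zg16) (kg xg2 yg43 zg57) (kg xg2 yg39 zg2) (kg xg2 yg25 zg28) (kg xg2 yg37 zg56) (kg xg9 yg41 zg10) (kg xg4 yg15 zg3) (kg xg5 yg22 zg42) (kg xg2 yg38 zg19) (kg xg9 yg41 zg16) (kg xg2 yg25 zg30) (kg xg2 yg25 zg21) (kg xg9 yg41 zg25) (kg xg9 yg41 zg30) (kg xg9 yg41 zg32) (kg xg9 yg0 zg3)) (@D3.rec (fun _ => Pt) (kg xg9 yg41 zg37) (kg xg9 yg0 zg4) (kg xg4 yg15 zg5) (kg xg4 yg51 zg0) (kg xg5 yg28 zg17) (kg xg4 yg13 zg49) (kg xg2 yg40 zg14) (kg xg9 yg41 zg47) (kg xg4 yg14 zg8) (kg xg2 yg37 zg58) (kg xg8 yg10 zg11) (kg xg9 yg41 zg53) (kg xg8 yg2 zg45) (kg xg9 yg41 zg59) (kg xg2 yg25 zg31) (kg xg2 yg45 zg49) (kg xg9 yg42 zg2) (kg xg2 yg25 zg36) (kg xg9 yg42 zg8) (kg xg9 yg42 zg12) (kg xg9 yg42 zg15) (kg xg9 yg40 zg46) (kg xg2 yg25 zg34) (kg xg5 yg2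 zg49) (kg xg9 yg40 zg45) (kg xg2 yg34 zg20) (kg xg9 yg42 zg27) (kg xg9 yg42 zg30) (kg xg9 yg42 zg13) (kg xg9 yg42 zg36) (kg xg9 yg40 zg50) (kg xg2 yg25 zg37) (kg xg6 yg7 zg7) (kg xg7 yg58 zg53) (kg xg9 yg42 zg46) (kg xg9 yg42 zg52) (kg xg9 yg42 zg18) (kg xg9 yg42 zg56) (kg xg5 yg36 zg13) (kg xg9 yg42 zg40) (kg xg9 yg43 zg2) (kg xg2 yg25 zg40) (kg xg8 yg58 zg57) (kg xg9 yg43 zg8) (kg xg5 yg3 zg11) (kg xg2 yg39 zg12) (kg xg2 yg25 zg41) (kg xg2 yg39 zg11) (kg xg5 yg18 zg43) (kg xg9 yg40 zg59) (kg xg9 yg43 zg20) (kg xg8 yg10 zg61) (kg xg2 yg25 zg43) (kg xg4 yg14 zg41) (kg xg2 yg25 zg44) (kg xg5 yg0 zg48) (kg xg4 yg14 zg39) (kg xg7 yg58 zg17) (kg xg5 yg11 zg7) (kg xg5 yg10 zg51) (kg xg5 yg3 zg38) (kg xg2 yg33 zg30)) (@D3.rec (fun _ => Pt) (kg xg4 yg20 zg46) (kg xg9 yg43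 zg43) (kg xg2 yg25 zg50) (kg xg5 yg35 zg39) (kg xg9 yg43 zg49) (kg xg9 yg43 zg45) (kg xg2 yg25 zg51) (kg xg9 yg43 zg44) (kg xg4 yg52 zg17) (kg xg7 yg57 zg44) (kg xg2 yg25 zg56) (kg xg2 yg25 zg59) (kg xg5 yg32 zg36) (kg xg9 yg44 zg5) (kg xg9 yg44 zg8) (kg xg5 yg0 zg26) (kg xg2 yg25 zg57) (kg xg9 yg44 zg13) (kg xg9 yg31 zg44) (kg xg5 yg31 zg50) (kg xg5 yg32 zg48) (kg xg3 yg5 zg47) (kg xg3 yg11 zg11) (kg xg9 yg44 zg21) (kg xg7 yg59 zg4) (kg xg2 yg25 zg60) (kg xg5 yg46 zg15) (kg xg9 yg44 zg26) (kg xg4 yg14 zg26) (kg xg5 yg36 zg60) (kg xg7 yg58 zg51) (kg xg2 yg43 zg34) (kg xg4 yg30 zg61) (kg xg9 yg44 zg33) (kg xg6 yg14 zg19) (kg xg6 yg14 zg21) (kg xg6 yg14 zg47) (kg xg4 yg58 zg11) (kg xg3 yg57 zg19) (kg xg9 yg44 zg40) (kg xg5 yg12 zg26) (kg xg9 yg44 zg41) (kg xg6 yg16 zg14)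 (kg xg2 yg26 zg11) (kg xg4 yg36 zg22) (kg xg3 yg57 zg14) (kg xg9 yg44 zg49) (kg xg3 yg57 zg8) (kg xg9 yg44 zg55) (kg xg4 yg22 zg45) (kg xg4 yg22 zg44) (kg xg4 yg22 zg31) (kg xg2 yg26 zg17) (kg xg4 yg22 zg30) (kg xg5 yg42 zg40) (kg xg3 yg57 zg34) (kg xg9 yg45 zg1) (kg xg3 yg0 zg44) (kg xg5 yg46 zg29) (kg xg8 yg37 zg1) (kg xg9 yg45 zg7) (kg xg3 yg33 zg5)) (@D3.rec (fun _ => Pt) (kg xg4 yg20 zg9) (kg xg2 yg26 zg39) (kg xg2 yg27 zg23) (kg xg2 yg46 zg14) (kg xg2 yg26 zg29) (kg xg5 yg38 zg0) (kg xg2 yg46 zg5) (kg xg2 yg26 zg34) (kg xg5 yg47 zg2) (kg xg5 yg43 zg19) (kg xg2 yg26 zg35) (kg xg9 yg45 zg24) (kg xg3 yg54 zg14) (kg xg5 yg37 zg30) (kg xg6 yg25 zg31) (kg xg7 yg59 zg11) (kg xg2 yg46 zg23) (kg xg2 yg46 zg47) (kg xg9 yg45 zg35) (kg xg5 yg13 zg60) (kg xg5 yg39 zg58) (kg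 xg2 yg30 zg53) (kg xg9 yg45 zg25) (kg xg9 yg1 zg52) (kg xg2 yg26 zg36) (kg xg3 yg5 zg44) (kg xg2 yg26 zg42) (kg xg2 yg26 zg37) (kg xg5 yg44 zg11) (kg xg9 yg45 zg49) (kg xg9 yg1 zg25) (kg xg7 yg20 zg32) (kg xg9 yg45 zg55) (kg xg9 yg45 zg31) (kg xg7 yg23 zg22) (kg xg9 yg45 zg59) (kg xg9 yg46 zg2) (kg xg7 yg23 zg44) (kg xg3 yg44 zg9) (kg xg9 yg45 zg51) (kg xg2 yg26 zg41) (kg xg9 yg45 zg50) (kg xg9 yg46 zg18) (kg xg2 yg26 zg59) (kg xg2 yg26 zg43) (kg xg9 yg46 zg23) (kg xg7 yg59 zg0) (kg xg2 yg26 zg44) (kg xg7 yg59 zg1) (kg xg9 yg46 zg31) (kg xg2 yg30 zg56) (kg xg4 yg33 zg49) (kg xg9 yg46 zg36) (kg xg6 yg30 zg25) (kg xg9 yg1 zg28) (kg xg9 yg1 zg24) (kg xg9 yg46 zg44) (kg xg7 yg59 zg52) (kg xg7 yg59 zg50) (kg xg2 yg26 zg49) (kg xg9 yg46 zg51) (kg xg4 yg39 zg24)) (@D3.rec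 (fun _ => Pt) (kg xg4 yg24 zg57) (kg xg2 yg26 zg51) (kg xg9 yg46 zg61) (kg xg4 yg24 zg55) (kg xg9 yg47 zg3) (kg xg8 yg3 zg43) (kg xg4 yg22 zg37) (kg xg4 yg25 zg2) (kg xg2 yg26 zg54) (kg xg9 yg47 zg12) (kg xg4 yg25 zg0) (kg xg5 yg53 zg16) (kg xg3 yg59 zg60) (kg xg2 yg27 zg40) (kg xg9 yg32 zg8) (kg xg9 yg46 zg24) (kg xg5 yg49 zg59) (kg xg5 yg14 zg23) (kg xg5 yg50 zg40) (kg xg2 yg52 zg10) (kg xg2 yg31 zg17) (kg xg2 yg27 zg33) (kg xg2 yg27 zg2) (kg xg9 yg47 zg26) (kg xg8 yg49 zg4) (kg xg2 yg27 zg3) (kg xg9 yg47 zg33) (kg xg2 yg31 zg8) (kg xg2 yg56 zg35) (kg xg2 yg51 zg50) (kg xg2 yg31 zg3) (kg xg2 yg27 zg22) (kg xg5 yg50 zg3) (kg xg5 yg13 zg52) (kg xg5 yg14 zg13) (kg xg2 yg55 zg51) (kg xg6 yg21 zg56) (kg xg2 yg27 zg24) (kg xg2 yg27 zg10) (kg xg5 yg56 zg15) (kg xg9 yg47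 zg52) (kg xg9 yg47 zg55) (kg xg5 yg57 zg55) (kg xg6 yg30 zg37) (kg xg9 yg47 zg59) (kg xg6 yg30 zg38) (kg xg6 yg30 zg3) (kg xg5 yg14 zg15) (kg xg5 yg14 zg11) (kg xg9 yg17 zg42) (kg xg5 yg14 zg37) (kg xg9 yg7 zg0) (kg xg6 yg25 zg36) (kg xg2 yg52 zg20) (kg xg4 yg42 zg52) (kg xg7 yg59 zg54) (kg xg5 yg49 zg60) (kg xg2 yg53 zg40) (kg xg9 yg48 zg15) (kg xg9 yg48 zg19) (kg xg9 yg48 zg21) (kg xg9 yg14 zg40)) (@D3.rec (fun _ => Pt) (kg xg9 yg48 zg26) (kg xg9 yg47 zg53) (kg xg9 yg48 zg30) (kg xg2 yg27 zg25) (kg xg9 yg6 zg52) (kg xg2 yg52 zg39) (kg xg9 yg6 zg57) (kg xg2 yg27 zg27) (kg xg9 yg48 zg43) (kg xg2 yg52 zg52) (kg xg5 yg54 zg3) (kg xg5 yg57 zg49) (kg xg2 yg50 zg27) (kg xg5 yg57 zg51) (kg xg6 yg21 zg37) (kg xg2 yg27 zg31) (kg xg9 yg48 zg55) (kg xg6 yg1 zg2) (kg xg2 yg27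 zg46) (kg xg2 yg27 zg32) (kg xg2 yg27 zg45) (kg xg9 yg49 zg3) (kg xg2 yg27 zg37) (kg xg2 yg27 zg34) (kg xg6 yg24 zg39) (kg xg9 yg49 zg13) (kg xg9 yg49 zg16) (kg xg6 yg26 zg55) (kg xg9 yg49 zg22) (kg xg6 yg26 zg56) (kg xg2 yg51 zg15) (kg xg2 yg53 zg14) (kg xg9 yg49 zg27) (kg xg9 yg49 zg29) (kg xg9 yg49 zg14) (kg xg9 yg49 zg34) (kg xg2 yg27 zg38) (kg xg9 yg6 zg3) (kg xg2 yg51 zg28) (kg xg9 yg49 zg41) (kg xg6 yg8 zg37) (kg xg9 yg49 zg20) (kg xg9 yg49 zg49) (kg xg5 yg51 zg34) (kg xg6 yg21 zg27) (kg xg2 yg56 zg40) (kg xg2 yg27 zg41) (kg xg9 yg49 zg60) (kg xg9 yg26 zg6) (kg xg9 yg48 zg60) (kg xg2 yg27 zg42) (kg xg9 yg50 zg8) (kg xg9 yg48 zg58) (kg xg9 yg50 zg12) (kg xg9 yg50 zg15) (kg xg9 yg50 zg18) (kg xg9 yg50 zg22) (kg xg9 yg23 zg45) (kg xg6 yg1 zg53) (kg xg9 yg49 zg10)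 (kg xg9 yg50 zg23) (kg xg4 yg41 zg46))
def f_g_5 : D2 → D3 → Pt := @D2.rec (fun _ => D3 → Pt) (@D3.rec (fun _ => Pt) (kg xg9 yg32 zg9) (kg xg2 yg27 zg47) (kg xg9 yg50 zg38) (kg xg5 yg56 zg23) (kg xg9 yg48 zg24) (kg xg9 yg45 zg12) (kg xg2 yg27 zg49) (kg xg9 yg50 zg48) (kg xg8 yg0 zg57) (kg xg6 yg6 zg9) (kg xg2 yg59 zg55) (kg xg9 yg50 zg55) (kg xg6 yg8 zg57) (kg xg2 yg27 zg54) (kg xg2 yg27 zg51) (kg xg2 yg27 zg52) (kg xg4 yg41 zg51) (kg xg2 yg27 zg53) (kg xg2 yg50 zg13) (kg xg9 yg51 zg0) (kg xg9 yg13 zg60) (kg xg5 yg37 zg35) (kg xg2 yg27 zg55) (kg xg4 yg49 zg30) (kg xg9 yg51 zg8) (kg xg2 yg51 zg45) (kg xg9 yg51 zg13) (kg xg9 yg51 zg15) (kg xg2 yg58 zg0) (kg xg3 yg3 zg55) (kg xg8 yg51 zg55) (kg xg9 yg51 zg21) (kg xg9 yg51 zg23) (kg xg3 yg4 zg37) (kg xg2 yg45 zg15) (kg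 xg4 yg8 zg31) (kg xg2 yg28 zg3) (kg xg4 yg31 zg16) (kg xg2 yg28 zg4) (kg xg9 yg51 zg35) (kg xg9 yg51 zg39) (kg xg4 yg3 zg53) (kg xg2 yg43 zg33) (kg xg9 yg51 zg46) (kg xg9 yg51 zg50) (kg xg2 yg28 zg7) (kg xg8 yg6 zg48) (kg xg9 yg51 zg53) (kg xg8 yg28 zg9) (kg xg8 yg5 zg46) (kg xg5 yg10 zg47) (kg xg2 yg28 zg38) (kg xg2 yg28 zg10) (kg xg9 yg52 zg8) (kg xg9 yg52 zg13) (kg xg2 yg28 zg35) (kg xg5 yg9 zg25) (kg xg6 yg5 zg44) (kg xg4 yg7 zg53) (kg xg2 yg28 zg13) (kg xg5 yg5 zg30) (kg xg9 yg52 zg24)) (@D3.rec (fun _ => Pt) (kg xg2 yg28 zg15) (kg xg5 yg1 zg3) (kg xg8 yg40 zg50) (kg xg5 yg1 zg21) (kg xg9 yg52 zg33) (kg xg5 yg1 zg1) (kg xg4 yg1 zg44) (kg xg2 yg28 zg25) (kg xg2 yg28 zg19) (kg xg9 yg52 zg45) (kg xg9 yg52 zg50) (kg xg8 yg42 zg43) (kg xg9 yg35 zg45) (kg xg2 yg28 zg20)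 (kg xg8 yg42 zg46) (kg xg4 yg5 zg9) (kg xg2 yg28 zg21) (kg xg5 yg5 zg20) (kg xg9 yg52 zg59) (kg xg4 yg54 zg46) (kg xg5 yg17 zg17) (kg xg5 yg1 zg5) (kg xg8 yg8 zg32) (kg xg2 yg58 zg33) (kg xg9 yg53 zg4) (kg xg8 yg5 zg45) (kg xg9 yg53 zg9) (kg xg8 yg28 zg7) (kg xg9 yg53 zg13) (kg xg4 yg55 zg55) (kg xg4 yg3 zg3) (kg xg2 yg35 zg48) (kg xg9 yg53 zg20) (kg xg2 yg28 zg32) (kg xg9 yg53 zg25) (kg xg9 yg53 zg30) (kg xg9 yg53 zg33) (kg xg9 yg52 zg1) (kg xg2 yg28 zg30) (kg xg9 yg52 zg0) (kg xg9 yg53 zg42) (kg xg9 yg53 zg45) (kg xg9 yg53 zg31) (kg xg9 yg53 zg51) (kg xg9 yg34 zg41) (kg xg2 yg28 zg33) (kg xg5 yg11 zg8) (kg xg9 yg53 zg58) (kg xg9 yg54 zg2) (kg xg9 yg53 zg37) (kg xg9 yg54 zg7) (kg xg9 yg54 zg3) (kg xg9 yg53 zg55) (kg xg9 yg54 zg15) (kg xg2 yg28 zg36) (kg xg9 yg54 zg16)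 (kg xg9 yg54 zg27) (kg xg9 yg54 zg21) (kg xg5 yg1 zg60) (kg xg2 yg28 zg37) (kg xg5 yg1 zg59) (kg xg9 yg54 zg39)) (@D3.rec (fun _ => Pt) (kg xg9 yg52 zg14) (kg xg9 yg54 zg43) (kg xg4 yg1 zg57) (kg xg2 yg28 zg39) (kg xg5 yg17 zg39) (kg xg9 yg54 zg54) (kg xg4 yg13 zg37) (kg xg5 yg19 zg8) (kg xg2 yg29 zg1) (kg xg4 yg54 zg20) (kg xg2 yg28 zg42) (kg xg9 yg55 zg7) (kg xg5 yg20 zg11) (kg xg9 yg55 zg13) (kg xg9 yg39 zg38) (kg xg2 yg28 zg43) (kg xg8 yg24 zg40) (kg xg4 yg2 zg4) (kg xg9 yg55 zg25) (kg xg9 yg55 zg27) (kg xg2 yg32 zg36) (kg xg9 yg55 zg33) (kg xg5 yg9 zg52) (kg xg2 yg28 zg46) (kg xg5 yg9 zg51) (kg xg9 yg55 zg40) (kg xg2 yg32 zg39) (kg xg2 yg30 zg26) (kg xg9 yg55 zg46) (kg xg2 yg32 zg22) (kg xg9 yg55 zg38) (kg xg9 yg55 zg55) (kg xg2 yg32 zg30) (kg xg5 yg10 zg18) (kg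 xg2 yg28 zg51) (kg xg5 yg10 zg17) (kg xg9 yg56 zg8) (kg xg9 yg56 zg11) (kg xg9 yg56 zg13) (kg xg5 yg9 zg60) (kg xg2 yg28 zg53) (kg xg5 yg5 zg49) (kg xg5 yg8 zg42) (kg xg5 yg12 zg21) (kg xg2 yg30 zg5) (kg xg5 yg4 zg48) (kg xg7 yg57 zg32) (kg xg5 yg11 zg54) (kg xg5 yg9 zg39) (kg xg9 yg55 zg0) (kg xg4 yg1 zg39) (kg xg8 yg51 zg60) (kg xg4 yg54 zg21) (kg xg8 yg51 zg61) (kg xg9 yg55 zg37) (kg xg5 yg9 zg29) (kg xg2 yg29 zg0) (kg xg9 yg56 zg43) (kg xg5 yg21 zg24) (kg xg9 yg56 zg49) (kg xg9 yg54 zg61) (kg xg9 yg56 zg54)) (@D3.rec (fun _ => Pt) (kg xg4 yg55 zg23) (kg xg4 yg4 zg31) (kg xg5 yg28 zg14) (kg xg5 yg12 zg36) (kg xg5 yg9 zg56) (kg xg2 yg29 zg5) (kg xg5 yg9 zg55) (kg xg9 yg57 zg6) (kg xg9 yg57 zg10) (kg xg9 yg57 zg13) (kg xg5 yg10 zg22) (kg xg4 yg55 zg42) (kg xg2 yg42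 zg16) (kg xg5 yg13 zg21) (kg xg2 yg45 zg48) (kg xg2 yg29 zg9) (kg xg5 yg38 zg32) (kg xg4 yg54 zg22) (kg xg9 yg57 zg24) (kg xg9 yg57 zg29) (kg xg9 yg57 zg31) (kg xg9 yg39 zg44) (kg xg2 yg29 zg13) (kg xg9 yg39 zg43) (kg xg5 yg10 zg61) (kg xg2 yg29 zg14) (kg xg5 yg10 zg60) (kg xg9 yg57 zg50) (kg xg9 yg57 zg52) (kg xg2 yg29 zg24) (kg xg2 yg29 zg15) (kg xg9 yg20 zg1) (kg xg5 yg10 zg46) (kg xg2 yg29 zg16) (kg xg9 yg50 zg57) (kg xg5 yg10 zg44) (kg xg5 yg9 zg1) (kg xg5 yg11 zg18) (kg xg5 yg37 zg0) (kg xg2 yg29 zg31) (kg xg4 yg55 zg60) (kg xg7 yg58 zg50) (kg xg4 yg27 zg10) (kg xg9 yg58 zg16) (kg xg2 yg29 zg21) (kg xg9 yg58 zg20) (kg xg9 yg58 zg25) (kg xg9 yg58 zg28) (kg xg9 yg58 zg17) (kg xg2 yg29 zg22) (kg xg9 yg57 zg38) (kg xg5 yg10 zg39) (kg xg2 yg29 zg23) (kg xg5 yg10 zg38)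 (kg xg9 yg58 zg44) (kg xg9 yg58 zg48) (kg xg4 yg50 zg18) (kg xg5 yg11 zg5) (kg xg2 yg29 zg25) (kg xg5 yg11 zg4) (kg xg5 yg11 zg27) (kg xg5 yg11 zg57)) (@D3.rec (fun _ => Pt) (kg xg4 yg1 zg51) (kg xg2 yg29 zg34) (kg xg2 yg29 zg29) (kg xg5 yg11 zg20) (kg xg9 yg58 zg60) (kg xg6 yg40 zg54) (kg xg9 yg59 zg0) (kg xg2 yg29 zg33) (kg xg2 yg29 zg30) (kg xg9 yg59 zg8) (kg xg9 yg59 zg11) (kg xg5 yg10 zg50) (kg xg5 yg11 zg12) (kg xg2 yg29 zg32) (kg xg5 yg11 zg11) (kg xg9 yg59 zg23) (kg xg9 yg59 zg27) (kg xg9 yg59 zg30) (kg xg6 yg21 zg20) (kg xg4 yg41 zg56) (kg xg5 yg11 zg9) (kg xg2 yg29 zg36) (kg xg2 yg29 zg39) (kg xg9 yg59 zg18) (kg xg9 yg59 zg45) (kg xg9 yg59 zg51) (kg xg9 yg59 zg54) (kg xg2 yg29 zg37) (kg xg9 yg59 zg58) (kg xg9 yg59 zg46) (kg xg9 yg59 zg6) (kg xg9 yg58 zg53)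 (kg xg5 yg14 zg44) (kg xg5 yg14 zg45) (kg xg2 yg29 zg38) (kg xg10 yg0 zg15) (kg xg10 yg0 zg17) (kg xg10 yg0 zg20) (kg xg10 yg0 zg23) (kg xg9 yg59 zg17) (kg xg10 yg0 zg28) (kg xg5 yg11 zg51) (kg xg2 yg29 zg42) (kg xg5 yg11 zg50) (kg xg2 yg29 zg43) (kg xg3 yg12 zg32) (kg xg5 yg9 zg28) (kg xg2 yg36 zg4) (kg xg5 yg2 zg45) (kg xg4 yg7 zg47) (kg xg2 yg29 zg45) (kg xg8 yg11 zg7) (kg xg10 yg0 zg46) (kg xg2 yg59 zg46) (kg xg10 yg0 zg52) (kg xg2 yg58 zg28) (kg xg4 yg19 zg54) (kg xg5 yg23 zg25) (kg xg4 yg20 zg30) (kg xg2 yg29 zg48) (kg xg10 yg1 zg2) (kg xg4 yg20 zg43)) (@D3.rec (fun _ => Pt) (kg xg10 yg1 zg8) (kg xg8 yg38 zg6) (kg xg2 yg29 zg49) (kg xg8 yg38 zg5) (kg xg4 yg20 zg8) (kg xg10 yg1 zg17) (kg xg4 yg4 zg35) (kg xg4 yg4 zg54) (kg xg4 yg20 zg6) (kg xg10 yg1 zg22) (kg xg2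 yg33 zg44) (kg xg4 yg41 zg22) (kg xg2 yg29 zg55) (kg xg5 yg12 zg59) (kg xg8 yg49 zg15) (kg xg4 yg20 zg27) (kg xg10 yg1 zg35) (kg xg2 yg34 zg35) (kg xg5 yg1 zg17) (kg xg10 yg1 zg42) (kg xg8 yg11 zg4) (kg xg2 yg30 zg23) (kg xg4 yg27 zg22) (kg xg2 yg29 zg59) (kg xg10 yg1 zg54) (kg xg10 yg1 zg58) (kg xg10 yg1 zg60) (kg xg8 yg52 zg8) (kg xg2 yg29 zg60) (kg xg8 yg33 zg17) (kg xg8 yg15 zg47) (kg xg10 yg2 zg9) (kg xg10 yg2 zg12) (kg xg10 yg2 zg16) (kg xg5 yg12 zg13) (kg xg2 yg30 zg1) (kg xg5 yg12 zg12) (kg xg2 yg34 zg22) (kg xg8 yg26 zg9) (kg xg10 yg2 zg22) (kg xg5 yg13 zg18) (kg xg2 yg30 zg4) (kg xg5 yg13 zg17) (kg xg10 yg2 zg31) (kg xg3 yg10 zg39) (kg xg5 yg10 zg1) (kg xg5 yg17 zg37) (kg xg5 yg2 zg41) (kg xg2 yg34 zg34) (kg xg2 yg32 zg2) (kg xg5 yg16 zg54) (kg xg5 yg51 zg61)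 (kg xg5 yg7 zg42) (kg xg10 yg2 zg43) (kg xg5 yg55 zg18) (kg xg5 yg53 zg60) (kg xg10 yg2 zg49) (kg xg4 yg23 zg57) (kg xg4 yg37 zg18) (kg xg7 yg59 zg6) (kg xg10 yg2 zg55) (kg xg10 yg2 zg58)) (@D3.rec (fun _ => Pt) (kg xg5 yg12 zg33) (kg xg2 yg30 zg19) (kg xg5 yg12 zg32) (kg xg2 yg36 zg6) (kg xg8 yg3 zg57) (kg xg4 yg2 zg33) (kg xg9 yg40 zg1) (kg xg10 yg2 zg19) (kg xg2 yg36 zg19) (kg xg2 yg30 zg22) (kg xg10 yg3 zg18) (kg xg9 yg39 zg33) (kg xg10 yg3 zg24) (kg xg5 yg19 zg53) (kg xg10 yg3 zg29) (kg xg4 yg28 zg13) (kg xg10 yg3 zg32) (kg xg5 yg12 zg18) (kg xg2 yg30 zg25) (kg xg5 yg12 zg17) (kg xg10 yg3 zg44) (kg xg4 yg55 zg61) (kg xg10 yg3 zg46) (kg xg5 yg3 zg12) (kg xg2 yg41 zg38) (kg xg2 yg30 zg28) (kg xg5 yg45 zg20) (kg xg9 yg31 zg20) (kg xg2 yg59 zg23) (kg xg3 yg0 zg29)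 (kg xg2 yg50 zg1) (kg xg5 yg38 zg45) (kg xg2 yg55 zg6) (kg xg2 yg30 zg34) (kg xg3 yg6 zg53) (kg xg6 yg31 zg39) (kg xg5 yg13 zg32) (kg xg2 yg30 zg35) (kg xg5 yg13 zg31) (kg xg3 yg0 zg7) (kg xg2 yg59 zg26) (kg xg9 yg15 zg44) (kg xg10 yg4 zg7) (kg xg8 yg44 zg24) (kg xg4 yg12 zg9) (kg xg2 yg30 zg39) (kg xg10 yg4 zg15) (kg xg10 yg4 zg19) (kg xg5 yg13 zg45) (kg xg9 yg25 zg9) (kg xg10 yg4 zg24) (kg xg5 yg13 zg48) (kg xg7 yg20 zg1) (kg xg2 yg53 zg47) (kg xg6 yg26 zg0) (kg xg5 yg13 zg36) (kg xg2 yg48 zg40) (kg xg5 yg7 zg39) (kg xg3 yg21 zg13) (kg xg6 yg7 zg52) (kg xg5 yg13 zg51) (kg xg2 yg30 zg50)) (@D3.rec (fun _ => Pt) (kg xg10 yg4 zg40) (kg xg4 yg41 zg49) (kg xg2 yg39 zg54) (kg xg5 yg14 zg12) (kg xg2 yg30 zg52) (kg xg10 yg4 zg48) (kg xg10 yg4 zg50) (kg xg10 yg4 zg53) (kg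 xg2 yg31 zg5) (kg xg6 yg30 zg41) (kg xg5 yg14 zg9) (kg xg5 yg14 zg8) (kg xg9 yg47 zg31) (kg xg7 yg59 zg60) (kg xg2 yg31 zg19) (kg xg4 yg36 zg45) (kg xg5 yg14 zg2) (kg xg5 yg14 zg22) (kg xg2 yg30 zg59) (kg xg8 yg3 zg30) (kg xg5 yg13 zg59) (kg xg2 yg30 zg60) (kg xg8 yg12 zg12) (kg xg6 yg46 zg28) (kg xg2 yg30 zg61) (kg xg8 yg12 zg25) (kg xg5 yg14 zg21) (kg xg2 yg31 zg0) (kg xg10 yg5 zg19) (kg xg5 yg14 zg19) (kg xg5 yg5 zg52) (kg xg9 yg47 zg38) (kg xg4 yg20 zg14) (kg xg10 yg5 zg9) (kg xg7 yg59 zg23) (kg xg5 yg13 zg55) (kg xg2 yg31 zg9) (kg xg10 yg5 zg30) (kg xg5 yg43 zg40) (kg xg2 yg55 zg18) (kg xg6 yg20 zg17) (kg xg10 yg5 zg39) (kg xg2 yg45 zg18) (kg xg2 yg50 zg8) (kg xg4 yg5 zg35) (kg xg8 yg12 zg27) (kg xg6 yg46 zg15) (kg xg10 yg5 zg34) (kg xg10 yg5 zg16) (kg xg2 yg31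 zg16) (kg xg10 yg5 zg55) (kg xg10 yg5 zg60) (kg xg10 yg4 zg61) (kg xg10 yg6 zg4) (kg xg10 yg6 zg9) (kg xg8 yg49 zg3) (kg xg10 yg6 zg5) (kg xg10 yg6 zg16) (kg xg8 yg14 zg53) (kg xg2 yg31 zg14) (kg xg10 yg6 zg25) (kg xg10 yg6 zg29)) (@D3.rec (fun _ => Pt) (kg xg10 yg6 zg34) (kg xg10 yg5 zg56) (kg xg10 yg6 zg0) (kg xg2 yg31 zg15) (kg xg10 yg5 zg61) (kg xg10 yg6 zg43) (kg xg6 yg8 zg0) (kg xg10 yg6 zg46) (kg xg5 yg14 zg36) (kg xg2 yg31 zg18) (kg xg5 yg14 zg35) (kg xg5 yg13 zg57) (kg xg5 yg54 zg33) (kg xg10 yg6 zg58) (kg xg5 yg14 zg42) (kg xg2 yg31 zg20) (kg xg5 yg14 zg41) (kg xg5 yg11 zg39) (kg xg2 yg31 zg21) (kg xg5 yg11 zg41) (kg xg10 yg7 zg8) (kg xg9 yg47 zg61) (kg xg5 yg50 zg45) (kg xg2 yg52 zg6) (kg xg10 yg7 zg14) (kg xg5 yg14 zg53) (kg xg5 yg14 zg51) (kg xg2 yg31 zg26)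 (kg xg4 yg13 zg44) (kg xg2 yg31 zg27) (kg xg5 yg12 zg9) (kg xg10 yg7 zg24) (kg xg4 yg1 zg19) (kg xg10 yg7 zg30) (kg xg4 yg1 zg12) (kg xg2 yg31 zg35) (kg xg2 yg31 zg31) (kg xg10 yg7 zg41) (kg xg4 yg13 zg33) (kg xg10 yg7 zg47) (kg xg8 yg4 zg2) (kg xg2 yg31 zg32) (kg xg8 yg4 zg1) (kg xg4 yg54 zg0) (kg xg2 yg31 zg33) (kg xg5 yg11 zg61) (kg xg10 yg7 zg56) (kg xg5 yg15 zg33) (kg xg8 yg41 zg59) (kg xg4 yg2 zg40) (kg xg10 yg8 zg2) (kg xg8 yg4 zg8) (kg xg2 yg31 zg36) (kg xg10 yg8 zg9) (kg xg5 yg1 zg6) (kg xg2 yg33 zg13) (kg xg2 yg34 zg53) (kg xg10 yg8 zg17) (kg xg10 yg8 zg20) (kg xg10 yg8 zg25) (kg xg10 yg8 zg28) (kg xg8 yg4 zg14)) (@D3.rec (fun _ => Pt) (kg xg2 yg31 zg40) (kg xg8 yg4 zg13) (kg xg10 yg8 zg36) (kg xg10 yg8 zg39) (kg xg10 yg8 zg26) (kg xg9 yg35 zg40) (kg xg8 yg4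 zg20) (kg xg2 yg31 zg43) (kg xg5 yg4 zg0) (kg xg10 yg8 zg50) (kg xg10 yg8 zg54) (kg xg10 yg8 zg32) (kg xg10 yg8 zg57) (kg xg9 yg55 zg23) (kg xg10 yg8 zg47) (kg xg10 yg9 zg2) (kg xg2 yg31 zg46) (kg xg10 yg9 zg3) (kg xg10 yg9 zg14) (kg xg10 yg9 zg8) (kg xg4 yg1 zg36) (kg xg2 yg31 zg47) (kg xg10 yg9 zg23) (kg xg10 yg9 zg26) (kg xg5 yg0 zg56) (kg xg2 yg31 zg49) (kg xg4 yg50 zg35) (kg xg5 yg15 zg52) (kg xg9 yg40 zg35) (kg xg5 yg2 zg56) (kg xg8 yg36 zg31) (kg xg2 yg31 zg53) (kg xg10 yg9 zg45) (kg xg5 yg15 zg31) (kg xg10 yg9 zg51) (kg xg4 yg7 zg30) (kg xg5 yg21 zg19) (kg xg2 yg32 zg9) (kg xg5 yg2 zg48) (kg xg2 yg31 zg56) (kg xg10 yg10 zg1) (kg xg10 yg10 zg6) (kg xg10 yg10 zg9) (kg xg10 yg9 zg43) (kg xg2 yg31 zg57) (kg xg8 yg36 zg28) (kg xg8 yg5 zg41) (kg xg10 yg10 zg20) (kg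 xg10 yg10 zg22) (kg xg10 yg10 zg26) (kg xg5 yg2 zg24) (kg xg2 yg31 zg60) (kg xg5 yg2 zg23) (kg xg10 yg10 zg30) (kg xg5 yg3 zg6) (kg xg2 yg32 zg0) (kg xg5 yg3 zg5) (kg xg7 yg31 zg23) (kg xg10 yg10 zg44) (kg xg10 yg3 zg58) (kg xg5 yg2 zg40) (kg xg5 yg1 zg14)) (@D3.rec (fun _ => Pt) (kg xg5 yg5 zg45) (kg xg2 yg32 zg59) (kg xg5 yg11 zg56) (kg xg4 yg53 zg56) (kg xg5 yg18 zg61) (kg xg5 yg19 zg1) (kg xg10 yg10 zg29) (kg xg4 yg54 zg5) (kg xg2 yg32 zg8) (kg xg10 yg11 zg0) (kg xg5 yg19 zg13) (kg xg10 yg11 zg6) (kg xg9 yg40 zg11) (kg xg10 yg11 zg10) (kg xg5 yg2 zg52) (kg xg8 yg6 zg40) (kg xg5 yg2 zg35) (kg xg2 yg32 zg11) (kg xg5 yg2 zg34) (kg xg10 yg11 zg23) (kg xg10 yg11 zg25) (kg xg10 yg3 zg0) (kg xg4 yg29 zg48) (kg xg5 yg6 zg21) (kg xg4 yg31 zg38) (kg xg2 yg32 zg15) (kg xg9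 yg0 zg25) (kg xg6 yg47 zg21) (kg xg5 yg3 zg44) (kg xg10 yg11 zg35) (kg xg5 yg3 zg42) (kg xg10 yg11 zg40) (kg xg9 yg56 zg38) (kg xg10 yg11 zg46) (kg xg10 yg11 zg37) (kg xg2 yg32 zg20) (kg xg10 yg11 zg36) (kg xg5 yg3 zg53) (kg xg2 yg32 zg21) (kg xg5 yg3 zg52) (kg xg9 yg56 zg60) (kg xg10 yg12 zg1) (kg xg10 yg4 zg38) (kg xg5 yg3 zg35) (kg xg2 yg32 zg23) (kg xg9 yg55 zg53) (kg xg5 yg3 zg33) (kg xg5 yg1 zg39) (kg xg5 yg4 zg11) (kg xg8 yg11 zg59) (kg xg2 yg32 zg37) (kg xg4 yg55 zg58) (kg xg2 yg32 zg27) (kg xg10 yg12 zg21) (kg xg9 yg55 zg2) (kg xg10 yg12 zg27) (kg xg9 yg40 zg17) (kg xg2 yg32 zg28) (kg xg9 yg40 zg16) (kg xg5 yg3 zg26) (kg xg2 yg32 zg29) (kg xg5 yg3 zg25)) (@D3.rec (fun _ => Pt) (kg xg9 yg56 zg1) (kg xg10 yg12 zg43) (kg xg3 yg22 zg12) (kg xg5 yg3 zg59) (kg xg2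 yg32 zg31) (kg xg5 yg3 zg58) (kg xg5 yg4 zg20) (kg xg4 yg55 zg59) (kg xg4 yg51 zg16) (kg xg2 yg32 zg40) (kg xg5 yg4 zg14) (kg xg2 yg32 zg35) (kg xg5 yg4 zg13) (kg xg10 yg12 zg60) (kg xg10 yg3 zg37) (kg xg10 yg13 zg3) (kg xg6 yg40 zg13) (kg xg9 yg55 zg35) (kg xg5 yg3 zg39) (kg xg5 yg4 zg3) (kg xg2 yg32 zg38) (kg xg5 yg4 zg2) (kg xg10 yg13 zg17) (kg xg6 yg33 zg54) (kg xg10 yg13 zg21) (kg xg6 yg23 zg22) (kg xg3 yg11 zg2) (kg xg5 yg4 zg1) (kg xg2 yg32 zg42) (kg xg2 yg32 zg45) (kg xg10 yg13 zg12) (kg xg10 yg13 zg37) (kg xg10 yg13 zg43) (kg xg10 yg13 zg47) (kg xg2 yg32 zg43) (kg xg10 yg13 zg51) (kg xg10 yg13 zg38) (kg xg9 yg55 zg30) (kg xg10 yg12 zg47) (kg xg5 yg8 zg18) (kg xg5 yg8 zg19) (kg xg2 yg32 zg44) (kg xg10 yg14 zg10) (kg xg10 yg14 zg14) (kg xg10 yg14 zg16) (kg xg10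 yg12 zg53) (kg xg10 yg14 zg22) (kg xg3 yg2 zg13) (kg xg10 yg14 zg26) (kg xg5 yg4 zg43) (kg xg2 yg32 zg48) (kg xg5 yg4 zg42) (kg xg2 yg32 zg49) (kg xg6 yg28 zg15) (kg xg4 yg54 zg14) (kg xg2 yg35 zg9) (kg xg5 yg10 zg2) (kg xg5 yg3 zg41) (kg xg2 yg35 zg34) (kg xg5 yg8 zg45) (kg xg10 yg14 zg45) (kg xg9 yg39 zg29)) (@D3.rec (fun _ => Pt) (kg xg2 yg33 zg27) (kg xg2 yg36 zg34) (kg xg2 yg32 zg53) (kg xg10 yg14 zg53) (kg xg9 yg40 zg31) (kg xg10 yg14 zg59) (kg xg5 yg19 zg20) (kg xg2 yg32 zg54) (kg xg5 yg19 zg19) (kg xg8 yg26 zg16) (kg xg10 yg15 zg5) (kg xg5 yg5 zg36) (kg xg2 yg32 zg56) (kg xg5 yg5 zg35) (kg xg2 yg35 zg15) (kg xg8 yg15 zg1) (kg xg5 yg6 zg19) (kg xg2 yg32 zg58) (kg xg5 yg6 zg18) (kg xg10 yg15 zg17) (kg xg3 yg10 zg59) (kg xg5 yg2 zg44) (kg xg5 yg15 zg29) (kg xg2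 yg35 zg33) (kg xg5 yg18 zg59) (kg xg2 yg33 zg2) (kg xg3 yg5 zg4) (kg xg8 yg42 zg53) (kg xg10 yg15 zg24) (kg xg5 yg37 zg57) (kg xg10 yg15 zg25) (kg xg5 yg6 zg2) (kg xg2 yg33 zg8) (kg xg5 yg6 zg1) (kg xg2 yg37 zg19) (kg xg2 yg33 zg9) (kg xg10 yg15 zg34) (kg xg10 yg15 zg38) (kg xg4 yg27 zg8) (kg xg4 yg6 zg44) (kg xg2 yg58 zg35) (kg xg4 yg20 zg23) (kg xg10 yg15 zg46) (kg xg4 yg20 zg2) (kg xg10 yg15 zg50) (kg xg4 yg19 zg61) (kg xg10 yg15 zg56) (kg xg8 yg38 zg52) (kg xg2 yg33 zg14) (kg xg10 yg16 zg0) (kg xg8 yg38 zg51) (kg xg4 yg1 zg43) (kg xg4 yg20 zg36) (kg xg8 yg46 zg3) (kg xg4 yg20 zg33) (kg xg8 yg43 zg6) (kg xg10 yg16 zg10) (kg xg6 yg4 zg9) (kg xg5 yg5 zg13) (kg xg2 yg33 zg21) (kg xg4 yg25 zg56) (kg xg2 yg33 zg22)) (@D3.rec (fun _ => Pt) (kg xg4 yg20 zg16) (kg xg10 yg16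 zg21) (kg xg4 yg2 zg8) (kg xg4 yg27 zg7) (kg xg9 yg39 zg21) (kg xg9 yg39 zg22) (kg xg10 yg15 zg8) (kg xg4 yg27 zg12) (kg xg2 yg33 zg26) (kg xg10 yg16 zg38) (kg xg10 yg16 zg42) (kg xg9 yg3 zg7) (kg xg8 yg52 zg31) (kg xg10 yg16 zg46) (kg xg2 yg38 zg46) (kg xg10 yg16 zg49) (kg xg5 yg5 zg42) (kg xg2 yg33 zg29) (kg xg5 yg5 zg41) (kg xg10 yg16 zg59) (kg xg6 yg45 zg58) (kg xg5 yg2 zg27) (kg xg10 yg17 zg1) (kg xg4 yg29 zg23) (kg xg2 yg33 zg32) (kg xg9 yg4 zg37) (kg xg10 yg17 zg7) (kg xg6 yg7 zg40) (kg xg10 yg17 zg10) (kg xg10 yg17 zg14) (kg xg5 yg6 zg38) (kg xg2 yg33 zg37) (kg xg5 yg6 zg37) (kg xg6 yg9 zg0) (kg xg10 yg17 zg24) (kg xg5 yg6 zg56) (kg xg4 yg33 zg42) (kg xg3 yg38 zg37) (kg xg2 yg33 zg43) (kg xg4 yg25 zg42) (kg xg10 yg1 zg28) (kg xg5 yg55 zg30) (kg xg10 yg1 zg1)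 (kg xg10 yg17 zg35) (kg xg4 yg1 zg26) (kg xg3 yg0 zg1) (kg xg10 yg17 zg40) (kg xg10 yg17 zg44) (kg xg9 yg15 zg2) (kg xg5 yg7 zg1) (kg xg10 yg17 zg51) (kg xg5 yg6 zg61) (kg xg2 yg33 zg61) (kg xg5 yg54 zg57) (kg xg5 yg8 zg11) (kg xg5 yg7 zg31) (kg xg8 yg14 zg45) (kg xg2 yg34 zg6) (kg xg5 yg7 zg18) (kg xg5 yg7 zg21) (kg xg3 yg59 zg4) (kg xg6 yg7 zg35)) (@D3.rec (fun _ => Pt) (kg xg7 yg14 zg5) (kg xg5 yg7 zg16) (kg xg2 yg33 zg55) (kg xg6 yg7 zg38) (kg xg10 yg18 zg8) (kg xg5 yg41 zg15) (kg xg2 yg33 zg56) (kg xg5 yg7 zg11) (kg xg2 yg33 zg57) (kg xg4 yg57 zg50) (kg xg5 yg7 zg17) (kg xg2 yg34 zg8) (kg xg5 yg7 zg4) (kg xg3 yg59 zg18) (kg xg4 yg58 zg47) (kg xg2 yg33 zg60) (kg xg6 yg7 zg56) (kg xg6 yg31 zg51) (kg xg5 yg7 zg29) (kg xg2 yg34 zg0) (kg xg10 yg18 zg20) (kg xg5 yg7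 zg27) (kg xg2 yg34 zg2) (kg xg5 yg7 zg24) (kg xg2 yg53 zg36) (kg xg4 yg5 zg51) (kg xg10 yg18 zg27) (kg xg10 yg18 zg29) (kg xg6 yg8 zg13) (kg xg6 yg7 zg11) (kg xg6 yg7 zg10) (kg xg5 yg7 zg14) (kg xg8 yg12 zg6) (kg xg10 yg18 zg38) (kg xg5 yg8 zg10) (kg xg2 yg34 zg7) (kg xg5 yg8 zg9) (kg xg4 yg58 zg20) (kg xg5 yg58 zg3) (kg xg7 yg43 zg15) (kg xg5 yg8 zg16) (kg xg2 yg34 zg9) (kg xg5 yg8 zg15) (kg xg5 yg4 zg32) (kg xg2 yg34 zg10) (kg xg5 yg4 zg34) (kg xg4 yg58 zg41) (kg xg3 yg2 zg0) (kg xg10 yg18 zg53) (kg xg4 yg58 zg44) (kg xg10 yg19 zg5) (kg xg5 yg8 zg27) (kg xg5 yg8 zg25) (kg xg2 yg34 zg15) (kg xg4 yg15 zg27) (kg xg10 yg19 zg12) (kg xg8 yg26 zg36) (kg xg7 yg57 zg41) (kg xg2 yg34 zg19) (kg xg2 yg40 zg5) (kg xg10 yg19 zg22) (kg xg10 yg19 zg26)) (@D3.rec (fun _ => Pt) (kg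 xg5 yg36 zg5) (kg xg9 yg25 zg39) (kg xg9 yg54 zg57) (kg xg10 yg3 zg47) (kg xg8 yg17 zg51) (kg xg5 yg18 zg26) (kg xg2 yg34 zg25) (kg xg10 yg19 zg43) (kg xg10 yg7 zg22) (kg xg2 yg34 zg50) (kg xg5 yg18 zg19) (kg xg2 yg34 zg27) (kg xg5 yg9 zg46) (kg xg10 yg19 zg53) (kg xg2 yg34 zg28) (kg xg4 yg13 zg55) (kg xg2 yg34 zg38) (kg xg2 yg34 zg30) (kg xg5 yg17 zg48) (kg xg10 yg19 zg60) (kg xg2 yg34 zg31) (kg xg6 yg5 zg42) (kg xg10 yg20 zg2) (kg xg2 yg34 zg40) (kg xg2 yg34 zg33) (kg xg10 yg20 zg8) (kg xg10 yg20 zg12) (kg xg10 yg20 zg13) (kg xg8 yg19 zg19) (kg xg8 yg19 zg17) (kg xg2 yg37 zg14) (kg xg5 yg9 zg36) (kg xg10 yg20 zg21) (kg xg8 yg11 zg0) (kg xg6 yg5 zg45) (kg xg10 yg20 zg26) (kg xg4 yg7 zg32) (kg xg10 yg20 zg30) (kg xg8 yg26 zg20) (kg xg10 yg20 zg36) (kg xg2 yg34 zg41)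 (kg xg10 yg3 zg49) (kg xg4 yg29 zg31) (kg xg5 yg17 zg19) (kg xg10 yg20 zg46) (kg xg2 yg34 zg47) (kg xg10 yg20 zg50) (kg xg10 yg20 zg55) (kg xg10 yg20 zg57) (kg xg10 yg19 zg39) (kg xg2 yg34 zg45) (kg xg10 yg19 zg38) (kg xg3 yg58 zg5) (kg xg10 yg21 zg6) (kg xg10 yg21 zg9) (kg xg4 yg46 zg30) (kg xg10 yg21 zg15) (kg xg8 yg17 zg50) (kg xg2 yg34 zg48) (kg xg5 yg18 zg37) (kg xg10 yg21 zg22) (kg xg10 yg21 zg27)) (@D3.rec (fun _ => Pt) (kg xg10 yg20 zg61) (kg xg10 yg21 zg31) (kg xg4 yg46 zg4) (kg xg10 yg21 zg19) (kg xg10 yg21 zg39) (kg xg2 yg34 zg51) (kg xg9 yg59 zg41) (kg xg10 yg21 zg48) (kg xg10 yg21 zg43) (kg xg8 yg29 zg3) (kg xg2 yg34 zg52) (kg xg8 yg29 zg2) (kg xg10 yg21 zg58) (kg xg10 yg19 zg48) (kg xg10 yg22 zg0) (kg xg5 yg17 zg10) (kg xg2 yg34 zg54) (kg xg4 yg27 zg24)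 (kg xg10 yg16 zg33) (kg xg10 yg22 zg12) (kg xg8 yg52 zg14) (kg xg2 yg34 zg56) (kg xg8 yg52 zg13) (kg xg5 yg17 zg55) (kg xg5 yg26 zg53) (kg xg2 yg42 zg12) (kg xg2 yg34 zg60) (kg xg10 yg14 zg51) (kg xg10 yg22 zg27) (kg xg5 yg19 zg61) (kg xg2 yg34 zg61) (kg xg5 yg19 zg60) (kg xg2 yg42 zg14) (kg xg4 yg15 zg48) (kg xg2 yg35 zg4) (kg xg2 yg35 zg7) (kg xg10 yg12 zg37) (kg xg10 yg22 zg41) (kg xg10 yg22 zg47) (kg xg10 yg22 zg49) (kg xg2 yg35 zg5) (kg xg10 yg22 zg53) (kg xg10 yg22 zg42) (kg xg9 yg55 zg50) (kg xg9 yg43 zg19) (kg xg9 yg7 zg57) (kg xg9 yg7 zg58) (kg xg2 yg35 zg6) (kg xg10 yg23 zg8) (kg xg10 yg23 zg12) (kg xg10 yg23 zg14) (kg xg5 yg18 zg57) (kg xg2 yg35 zg8) (kg xg2 yg36 zg29) (kg xg5 yg5 zg50) (kg xg4 yg54 zg34) (kg xg4 yg2 zg55) (kg xg2 yg35 zg12) (kg xg10 yg23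 zg29) (kg xg10 yg23 zg33) (kg xg2 yg35 zg30) (kg xg4 yg7 zg39)) (@D3.rec (fun _ => Pt) (kg xg2 yg35 zg28) (kg xg10 yg20 zg29) (kg xg10 yg9 zg54) (kg xg10 yg17 zg2) (kg xg8 yg15 zg54) (kg xg5 yg16 zg23) (kg xg2 yg35 zg18) (kg xg10 yg23 zg52) (kg xg9 yg52 zg22) (kg xg2 yg35 zg45) (kg xg5 yg16 zg16) (kg xg4 yg8 zg18) (kg xg2 yg35 zg21) (kg xg2 yg35 zg25) (kg xg2 yg35 zg22) (kg xg5 yg15 zg43) (kg xg10 yg24 zg6) (kg xg8 yg13 zg10) (kg xg5 yg3 zg2) (kg xg5 yg26 zg6) (kg xg10 yg24 zg12) (kg xg2 yg58 zg59) (kg xg10 yg24 zg15) (kg xg3 yg58 zg3) (kg xg10 yg24 zg19) (kg xg10 yg24 zg22) (kg xg6 yg5 zg31) (kg xg2 yg39 zg46) (kg xg10 yg24 zg29) (kg xg8 yg15 zg3) (kg xg10 yg24 zg34) (kg xg2 yg35 zg36) (kg xg2 yg35 zg32) (kg xg10 yg24 zg43) (kg xg8 yg16 zg18) (kg xg10 yg24 zg49) (kg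 xg8 yg31 zg50) (kg xg8 yg17 zg45) (kg xg2 yg36 zg14) (kg xg5 yg2 zg7) (kg xg10 yg24 zg57) (kg xg4 yg3 zg1) (kg xg10 yg24 zg60) (kg xg8 yg15 zg53) (kg xg10 yg25 zg4) (kg xg2 yg35 zg37) (kg xg10 yg17 zg4) (kg xg2 yg41 zg56) (kg xg5 yg15 zg34) (kg xg2 yg35 zg42) (kg xg10 yg25 zg15) (kg xg10 yg25 zg20) (kg xg10 yg25 zg22) (kg xg10 yg23 zg48) (kg xg2 yg35 zg40) (kg xg10 yg23 zg47) (kg xg10 yg25 zg28) (kg xg10 yg25 zg31) (kg xg10 yg25 zg21) (kg xg10 yg25 zg37) (kg xg8 yg30 zg43) (kg xg2 yg35 zg43)) (@D3.rec (fun _ => Pt) (kg xg5 yg16 zg33) (kg xg10 yg25 zg44) (kg xg10 yg25 zg49) (kg xg10 yg25 zg24) (kg xg10 yg25 zg50) (kg xg10 yg2 zg7) (kg xg10 yg25 zg41) (kg xg10 yg25 zg53) (kg xg2 yg35 zg46) (kg xg10 yg13 zg33) (kg xg10 yg26 zg0) (kg xg10 yg25 zg57) (kg xg10 yg23 zg60)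 (kg xg2 yg35 zg47) (kg xg8 yg15 zg57) (kg xg10 yg26 zg12) (kg xg10 yg23 zg57) (kg xg10 yg26 zg16) (kg xg5 yg15 zg10) (kg xg2 yg35 zg49) (kg xg2 yg36 zg39) (kg xg10 yg3 zg14) (kg xg10 yg26 zg28) (kg xg5 yg19 zg27) (kg xg2 yg35 zg51) (kg xg5 yg19 zg25) (kg xg5 yg15 zg51) (kg xg6 yg6 zg28) (kg xg4 yg29 zg44) (kg xg4 yg27 zg14) (kg xg2 yg35 zg55) (kg xg10 yg1 zg49) (kg xg10 yg26 zg45) (kg xg8 yg52 zg37) (kg xg2 yg35 zg56) (kg xg8 yg52 zg36) (kg xg4 yg29 zg46) (kg xg4 yg8 zg49) (kg xg2 yg35 zg61) (kg xg2 yg36 zg2) (kg xg9 yg58 zg39) (kg xg10 yg26 zg59) (kg xg10 yg27 zg3) (kg xg10 yg27 zg7) (kg xg2 yg36 zg0) (kg xg10 yg27 zg11) (kg xg10 yg26 zg60) (kg xg9 yg57 zg58) (kg xg9 yg58 zg50) (kg xg5 yg55 zg25) (kg xg5 yg55 zg26) (kg xg2 yg36 zg1) (kg xg10 yg27 zg32) (kg xg10 yg27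 zg36) (kg xg10 yg27 zg39) (kg xg4 yg43 zg57) (kg xg2 yg36 zg3) (kg xg5 yg16 zg52) (kg xg4 yg27 zg21) (kg xg5 yg12 zg24) (kg xg2 yg36 zg8) (kg xg5 yg10 zg5)) (@D3.rec (fun _ => Pt) (kg xg10 yg27 zg53) (kg xg5 yg10 zg4) (kg xg10 yg3 zg27) (kg xg5 yg24 zg22) (kg xg10 yg27 zg59) (kg xg10 yg22 zg31) (kg xg5 yg2 zg12) (kg xg10 yg22 zg6) (kg xg5 yg2 zg4) (kg xg10 yg15 zg1) (kg xg4 yg16 zg60) (kg xg10 yg26 zg32) (kg xg10 yg28 zg9) (kg xg9 yg39 zg36) (kg xg10 yg28 zg13) (kg xg10 yg28 zg14) (kg xg9 yg39 zg58) (kg xg10 yg28 zg20) (kg xg5 yg12 zg8) (kg xg2 yg36 zg20) (kg xg5 yg12 zg7) (kg xg10 yg28 zg27) (kg xg8 yg43 zg39) (kg xg10 yg28 zg33) (kg xg5 yg18 zg25) (kg xg2 yg36 zg23) (kg xg2 yg37 zg26) (kg xg5 yg18 zg24) (kg xg10 yg28 zg44) (kg xg10 yg14 zg49) (kg xg10 yg28 zg37) (kg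 xg10 yg28 zg52) (kg xg10 yg14 zg43) (kg xg10 yg22 zg32) (kg xg2 yg36 zg44) (kg xg2 yg36 zg26) (kg xg5 yg19 zg38) (kg xg5 yg19 zg36) (kg xg2 yg36 zg27) (kg xg5 yg10 zg10) (kg xg10 yg29 zg7) (kg xg4 yg23 zg31) (kg xg4 yg27 zg31) (kg xg10 yg29 zg15) (kg xg10 yg29 zg17) (kg xg10 yg29 zg20) (kg xg9 yg51 zg55) (kg xg8 yg6 zg0) (kg xg10 yg29 zg25) (kg xg9 yg40 zg5) (kg xg10 yg29 zg31) (kg xg5 yg6 zg15) (kg xg10 yg29 zg35) (kg xg5 yg5 zg21) (kg xg8 yg13 zg31) (kg xg2 yg58 zg23) (kg xg10 yg29 zg42) (kg xg10 yg3 zg16) (kg xg10 yg29 zg48) (kg xg5 yg16 zg31) (kg xg2 yg36 zg40) (kg xg5 yg16 zg30)) (@D3.rec (fun _ => Pt) (kg xg10 yg29 zg55) (kg xg10 yg3 zg6) (kg xg10 yg26 zg33) (kg xg10 yg30 zg1) (kg xg10 yg3 zg9) (kg xg10 yg29 zg52) (kg xg5 yg20 zg9) (kg xg2 yg36 zg43) (kg xg10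 yg30 zg8) (kg xg5 yg20 zg7) (kg xg10 yg30 zg13) (kg xg9 yg40 zg8) (kg xg10 yg30 zg23) (kg xg8 yg44 zg34) (kg xg2 yg36 zg46) (kg xg10 yg9 zg46) (kg xg10 yg28 zg43) (kg xg8 yg53 zg54) (kg xg6 yg6 zg13) (kg xg2 yg37 zg36) (kg xg2 yg36 zg49) (kg xg10 yg30 zg43) (kg xg10 yg30 zg48) (kg xg2 yg37 zg33) (kg xg2 yg39 zg17) (kg xg4 yg31 zg21) (kg xg9 yg37 zg40) (kg xg7 yg57 zg49) (kg xg2 yg36 zg58) (kg xg2 yg36 zg54) (kg xg10 yg30 zg61) (kg xg10 yg31 zg3) (kg xg10 yg31 zg5) (kg xg2 yg36 zg55) (kg xg2 yg38 zg4) (kg xg5 yg22 zg18) (kg xg8 yg36 zg53) (kg xg10 yg31 zg14) (kg xg8 yg25 zg47) (kg xg10 yg31 zg20) (kg xg2 yg38 zg30) (kg xg2 yg38 zg28) (kg xg10 yg31 zg26) (kg xg2 yg37 zg3) (kg xg10 yg31 zg31) (kg xg5 yg22 zg59) (kg xg4 yg33 zg18) (kg xg2 yg37 zg1) (kg xg2 yg38 zg45) (kg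 xg10 yg31 zg42) (kg xg10 yg31 zg44) (kg xg5 yg22 zg55) (kg xg10 yg31 zg50) (kg xg2 yg38 zg58) (kg xg2 yg38 zg56) (kg xg10 yg31 zg55) (kg xg5 yg22 zg52) (kg xg8 yg57 zg38) (kg xg10 yg31 zg61) (kg xg4 yg13 zg24) (kg xg5 yg22 zg46) (kg xg10 yg31 zg53)) (@D3.rec (fun _ => Pt) (kg xg10 yg32 zg4) (kg xg2 yg37 zg7) (kg xg10 yg32 zg5) (kg xg10 yg32 zg14) (kg xg10 yg32 zg10) (kg xg2 yg39 zg14) (kg xg2 yg37 zg8) (kg xg10 yg32 zg21) (kg xg10 yg32 zg23) (kg xg2 yg37 zg37) (kg xg2 yg37 zg10) (kg xg4 yg17 zg12) (kg xg2 yg37 zg11) (kg xg10 yg32 zg38) (kg xg10 yg32 zg42) (kg xg4 yg9 zg60) (kg xg10 yg32 zg47) (kg xg10 yg32 zg51) (kg xg3 yg58 zg25) (kg xg5 yg9 zg33) (kg xg10 yg2 zg2) (kg xg5 yg9 zg27) (kg xg10 yg22 zg15) (kg xg10 yg33 zg3) (kg xg10 yg9 zg41) (kg xg10 yg28 zg2) (kg xg5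 yg3 zg3) (kg xg10 yg33 zg10) (kg xg9 yg33 zg16) (kg xg10 yg33 zg16) (kg xg9 yg33 zg14) (kg xg2 yg37 zg25) (kg xg2 yg37 zg23) (kg xg10 yg33 zg25) (kg xg10 yg33 zg28) (kg xg7 yg45 zg60) (kg xg7 yg46 zg19) (kg xg2 yg37 zg24) (kg xg8 yg54 zg48) (kg xg7 yg46 zg15) (kg xg10 yg33 zg29) (kg xg10 yg33 zg37) (kg xg10 yg28 zg41) (kg xg2 yg37 zg59) (kg xg4 yg5 zg26) (kg xg10 yg33 zg42) (kg xg2 yg37 zg30) (kg xg2 yg37 zg28) (kg xg10 yg33 zg48) (kg xg10 yg33 zg53) (kg xg10 yg33 zg56) (kg xg10 yg30 zg36) (kg xg2 yg37 zg29) (kg xg10 yg30 zg35) (kg xg10 yg34 zg2) (kg xg10 yg33 zg54) (kg xg10 yg34 zg8) (kg xg8 yg53 zg53) (kg xg2 yg37 zg31) (kg xg6 yg6 zg29) (kg xg10 yg34 zg15) (kg xg10 yg34 zg20)) (@D3.rec (fun _ => Pt) (kg xg10 yg33 zg60) (kg xg10 yg34 zg24) (kg xg10 yg16 zg51) (kg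 xg10 yg34 zg12) (kg xg10 yg34 zg32) (kg xg2 yg37 zg34) (kg xg10 yg34 zg33) (kg xg10 yg34 zg42) (kg xg10 yg34 zg38) (kg xg10 yg30 zg51) (kg xg2 yg37 zg35) (kg xg5 yg2 zg58) (kg xg10 yg34 zg54) (kg xg10 yg30 zg49) (kg xg10 yg32 zg24) (kg xg10 yg34 zg59) (kg xg10 yg34 zg60) (kg xg8 yg15 zg40) (kg xg2 yg37 zg41) (kg xg10 yg35 zg3) (kg xg4 yg55 zg49) (kg xg5 yg36 zg53) (kg xg5 yg22 zg41) (kg xg2 yg37 zg42) (kg xg10 yg35 zg13) (kg xg5 yg22 zg39) (kg xg4 yg54 zg36) (kg xg5 yg25 zg42) (kg xg2 yg43 zg40) (kg xg5 yg28 zg4) (kg xg2 yg37 zg48) (kg xg2 yg43 zg58) (kg xg4 yg54 zg32) (kg xg10 yg35 zg24) (kg xg4 yg54 zg30) (kg xg5 yg12 zg37) (kg xg10 yg35 zg31) (kg xg9 yg41 zg36) (kg xg5 yg22 zg25) (kg xg2 yg37 zg52) (kg xg10 yg35 zg40) (kg xg5 yg22 zg23) (kg xg3 yg58 zg13) (kg xg2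 yg58 zg29) (kg xg4 yg6 zg15) (kg xg10 yg35 zg47) (kg xg5 yg20 zg56) (kg xg10 yg35 zg51) (kg xg8 yg21 zg39) (kg xg2 yg37 zg57) (kg xg8 yg21 zg37) (kg xg10 yg35 zg58) (kg xg5 yg20 zg60) (kg xg10 yg36 zg2) (kg xg10 yg36 zg5) (kg xg5 yg20 zg45) (kg xg10 yg35 zg56) (kg xg10 yg36 zg13) (kg xg3 yg58 zg12) (kg xg5 yg20 zg51) (kg xg10 yg30 zg31) (kg xg10 yg31 zg16)) (@D3.rec (fun _ => Pt) (kg xg2 yg38 zg0) (kg xg10 yg31 zg15) (kg xg10 yg36 zg31) (kg xg10 yg36 zg34) (kg xg2 yg38 zg25) (kg xg2 yg38 zg1) (kg xg10 yg36 zg42) (kg xg10 yg31 zg8) (kg xg2 yg38 zg2) (kg xg10 yg36 zg52) (kg xg10 yg31 zg6) (kg xg10 yg36 zg56) (kg xg4 yg3 zg21) (kg xg9 yg41 zg9) (kg xg5 yg25 zg44) (kg xg6 yg5 zg8) (kg xg2 yg38 zg5) (kg xg10 yg37 zg4) (kg xg6 yg5 zg7) (kg xg8 yg13 zg15) (kg xg2 yg38 zg8)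 (kg xg10 yg37 zg13) (kg xg10 yg37 zg16) (kg xg8 yg39 zg44) (kg xg4 yg31 zg18) (kg xg8 yg41 zg25) (kg xg10 yg35 zg55) (kg xg10 yg37 zg23) (kg xg5 yg0 zg44) (kg xg10 yg37 zg29) (kg xg8 yg41 zg23) (kg xg10 yg37 zg32) (kg xg5 yg4 zg57) (kg xg10 yg37 zg35) (kg xg9 yg1 zg15) (kg xg10 yg31 zg13) (kg xg2 yg38 zg20) (kg xg10 yg37 zg45) (kg xg5 yg30 zg12) (kg xg4 yg12 zg53) (kg xg10 yg31 zg1) (kg xg2 yg38 zg24) (kg xg10 yg31 zg0) (kg xg10 yg37 zg57) (kg xg10 yg37 zg61) (kg xg10 yg38 zg3) (kg xg10 yg31 zg23) (kg xg2 yg38 zg26) (kg xg10 yg38 zg13) (kg xg10 yg31 zg21) (kg xg10 yg38 zg17) (kg xg10 yg33 zg17) (kg xg9 yg41 zg50) (kg xg8 yg32 zg56) (kg xg2 yg38 zg29) (kg xg10 yg38 zg25) (kg xg8 yg32 zg55) (kg xg4 yg10 zg42) (kg xg2 yg38 zg31) (kg xg10 yg38 zg36) (kg xg10 yg38 zg40)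 (kg xg8 yg8 zg24)) (@D3.rec (fun _ => Pt) (kg xg10 yg38 zg43) (kg xg8 yg57 zg44) (kg xg10 yg38 zg49) (kg xg10 yg38 zg42) (kg xg2 yg38 zg35) (kg xg5 yg15 zg32) (kg xg8 yg57 zg14) (kg xg10 yg38 zg58) (kg xg10 yg32 zg26) (kg xg10 yg39 zg1) (kg xg10 yg31 zg46) (kg xg2 yg38 zg38) (kg xg10 yg31 zg45) (kg xg10 yg39 zg11) (kg xg10 yg39 zg15) (kg xg2 yg38 zg52) (kg xg2 yg38 zg39) (kg xg10 yg39 zg23) (kg xg10 yg31 zg39) (kg xg2 yg38 zg40) (kg xg10 yg39 zg30) (kg xg10 yg31 zg37) (kg xg3 yg56 zg57) (kg xg9 yg3 zg11) (kg xg10 yg39 zg34) (kg xg2 yg39 zg0) (kg xg10 yg28 zg40) (kg xg10 yg26 zg34) (kg xg8 yg42 zg49) (kg xg8 yg8 zg49) (kg xg10 yg39 zg40) (kg xg9 yg0 zg37) (kg xg10 yg39 zg45) (kg xg10 yg39 zg39) (kg xg2 yg38 zg50) (kg xg8 yg8 zg53) (kg xg10 yg31 zg33) (kg xg2 yg38 zg51)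 (kg xg10 yg31 zg32) (kg xg10 yg39 zg56) (kg xg10 yg39 zg59) (kg xg10 yg31 zg52) (kg xg2 yg38 zg53) (kg xg10 yg31 zg51) (kg xg7 yg53 zg32) (kg xg10 yg32 zg31) (kg xg2 yg39 zg4) (kg xg6 yg4 zg44) (kg xg2 yg38 zg57) (kg xg10 yg40 zg14) (kg xg6 yg4 zg43) (kg xg7 yg53 zg41) (kg xg2 yg38 zg59) (kg xg10 yg32 zg0) (kg xg10 yg40 zg29) (kg xg10 yg40 zg33) (kg xg10 yg40 zg37) (kg xg2 yg43 zg31) (kg xg9 yg4 zg4) (kg xg2 yg39 zg3) (kg xg2 yg38 zg61) (kg xg10 yg2 zg21)) (@D3.rec (fun _ => Pt) (kg xg10 yg31 zg40) (kg xg10 yg31 zg57) (kg xg2 yg39 zg1) (kg xg10 yg31 zg56) (kg xg10 yg40 zg54) (kg xg10 yg40 zg58) (kg xg7 yg47 zg30) (kg xg10 yg41 zg2) (kg xg10 yg41 zg5) (kg xg7 yg42 zg3) (kg xg8 yg58 zg12) (kg xg2 yg39 zg6) (kg xg2 yg39 zg9) (kg xg10 yg40 zg48) (kg xg10 yg41 zg19) (kg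 xg10 yg41 zg24) (kg xg10 yg41 zg28) (kg xg2 yg39 zg7) (kg xg10 yg41 zg32) (kg xg8 yg57 zg22) (kg xg10 yg40 zg42) (kg xg10 yg40 zg6) (kg xg10 yg41 zg43) (kg xg10 yg41 zg9) (kg xg2 yg39 zg8) (kg xg10 yg41 zg53) (kg xg10 yg41 zg58) (kg xg10 yg41 zg44) (kg xg10 yg42 zg0) (kg xg10 yg40 zg21) (kg xg10 yg21 zg52) (kg xg10 yg40 zg47) (kg xg10 yg41 zg54) (kg xg10 yg42 zg15) (kg xg10 yg23 zg1) (kg xg10 yg32 zg22) (kg xg2 yg39 zg13) (kg xg10 yg21 zg46) (kg xg10 yg42 zg27) (kg xg10 yg30 zg52) (kg xg2 yg39 zg15) (kg xg10 yg42 zg38) (kg xg8 yg15 zg46) (kg xg10 yg33 zg46) (kg xg10 yg42 zg47) (kg xg10 yg31 zg41) (kg xg5 yg35 zg13) (kg xg10 yg31 zg30) (kg xg5 yg23 zg14) (kg xg10 yg34 zg1) (kg xg8 yg11 zg17) (kg xg10 yg42 zg57) (kg xg10 yg19 zg28) (kg xg4 yg15 zg7) (kg xg2 yg39 zg20)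 (kg xg9 yg31 zg18) (kg xg10 yg43 zg4) (kg xg10 yg43 zg5) (kg xg8 yg28 zg45) (kg xg2 yg39 zg21) (kg xg8 yg28 zg44) (kg xg10 yg43 zg13)) (@D3.rec (fun _ => Pt) (kg xg6 yg5 zg55) (kg xg2 yg39 zg24) (kg xg6 yg5 zg54) (kg xg10 yg43 zg25) (kg xg10 yg43 zg27) (kg xg4 yg30 zg51) (kg xg5 yg17 zg15) (kg xg4 yg7 zg37) (kg xg2 yg39 zg31) (kg xg9 yg30 zg58) (kg xg10 yg23 zg38) (kg xg10 yg43 zg40) (kg xg8 yg15 zg60) (kg xg2 yg41 zg13) (kg xg6 yg5 zg39) (kg xg2 yg39 zg33) (kg xg6 yg5 zg38) (kg xg10 yg43 zg50) (kg xg10 yg43 zg52) (kg xg5 yg36 zg41) (kg xg5 yg50 zg14) (kg xg2 yg40 zg46) (kg xg6 yg7 zg21) (kg xg4 yg15 zg11) (kg xg6 yg46 zg1) (kg xg4 yg45 zg45) (kg xg10 yg44 zg3) (kg xg8 yg28 zg51) (kg xg2 yg39 zg39) (kg xg8 yg28 zg50) (kg xg6 yg6 zg26) (kg xg2 yg39 zg40) (kg xg6 yg6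 zg25) (kg xg9 yg50 zg35) (kg xg10 yg44 zg19) (kg xg2 yg52 zg49) (kg xg2 yg39 zg42) (kg xg5 yg28 zg54) (kg xg6 yg5 zg1) (kg xg4 yg35 zg14) (kg xg4 yg18 zg13) (kg xg2 yg39 zg55) (kg xg4 yg11 zg21) (kg xg10 yg44 zg32) (kg xg10 yg44 zg36) (kg xg10 yg44 zg39) (kg xg8 yg16 zg4) (kg xg2 yg39 zg47) (kg xg8 yg16 zg3) (kg xg6 yg6 zg6) (kg xg2 yg39 zg48) (kg xg6 yg6 zg5) (kg xg9 yg26 zg13) (kg xg2 yg43 zg26) (kg xg5 yg55 zg45) (kg xg4 yg49 zg33) (kg xg10 yg44 zg54) (kg xg10 yg44 zg58) (kg xg4 yg38 zg19) (kg xg5 yg28 zg34) (kg xg6 yg6 zg32) (kg xg2 yg39 zg56)) (@D3.rec (fun _ => Pt) (kg xg6 yg6 zg31) (kg xg10 yg45 zg6) (kg xg4 yg49 zg1) (kg xg2 yg39 zg59) (kg xg2 yg40 zg0) (kg xg10 yg45 zg2) (kg xg10 yg45 zg19) (kg xg6 yg44 zg47) (kg xg10 yg45 zg27) (kg xg2 yg39 zg60) (kg xg4 yg49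 zg29) (kg xg10 yg45 zg20) (kg xg6 yg44 zg52) (kg xg5 yg53 zg13) (kg xg6 yg8 zg20) (kg xg6 yg8 zg21) (kg xg2 yg39 zg61) (kg xg10 yg45 zg40) (kg xg10 yg45 zg43) (kg xg10 yg45 zg46) (kg xg10 yg44 zg50) (kg xg6 yg6 zg55) (kg xg2 yg40 zg2) (kg xg6 yg6 zg54) (kg xg8 yg59 zg45) (kg xg10 yg45 zg54) (kg xg10 yg45 zg55) (kg xg9 yg41 zg45) (kg xg10 yg45 zg61) (kg xg4 yg15 zg18) (kg xg10 yg46 zg5) (kg xg8 yg27 zg13) (kg xg10 yg46 zg10) (kg xg2 yg40 zg23) (kg xg2 yg40 zg8) (kg xg2 yg40 zg22) (kg xg2 yg40 zg11) (kg xg10 yg46 zg17) (kg xg8 yg26 zg50) (kg xg10 yg46 zg23) (kg xg8 yg18 zg29) (kg xg2 yg40 zg12) (kg xg8 yg18 zg27) (kg xg7 yg57 zg37) (kg xg8 yg6 zg41) (kg xg10 yg46 zg36) (kg xg8 yg26 zg58) (kg xg10 yg20 zg25) (kg xg2 yg40 zg15) (kg xg6 yg5 zg52) (kg xg10 yg46 zg46) (kg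 xg5 yg30 zg61) (kg xg10 yg46 zg27) (kg xg10 yg46 zg54) (kg xg4 yg29 zg51) (kg xg6 yg5 zg50) (kg xg8 yg56 zg35) (kg xg2 yg40 zg18) (kg xg8 yg56 zg34) (kg xg10 yg47 zg9) (kg xg9 yg14 zg12) (kg xg10 yg47 zg15)) (@D3.rec (fun _ => Pt) (kg xg3 yg48 zg36) (kg xg2 yg40 zg20) (kg xg3 yg48 zg35) (kg xg10 yg46 zg11) (kg xg10 yg30 zg55) (kg xg6 yg56 zg19) (kg xg4 yg2 zg46) (kg xg4 yg10 zg7) (kg xg10 yg46 zg16) (kg xg4 yg28 zg54) (kg xg5 yg34 zg61) (kg xg2 yg40 zg27) (kg xg8 yg13 zg29) (kg xg10 yg47 zg39) (kg xg4 yg50 zg48) (kg xg4 yg3 zg45) (kg xg7 yg56 zg4) (kg xg5 yg15 zg20) (kg xg9 yg52 zg17) (kg xg8 yg7 zg14) (kg xg10 yg47 zg44) (kg xg4 yg28 zg24) (kg xg10 yg47 zg50) (kg xg8 yg53 zg26) (kg xg2 yg40 zg31) (kg xg8 yg53 zg25) (kg xg8 yg56 zg8) (kg xg2 yg40 zg32) (kg xg8 yg56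 zg7) (kg xg4 yg30 zg23) (kg xg10 yg48 zg5) (kg xg10 yg48 zg8) (kg xg8 yg21 zg51) (kg xg2 yg40 zg34) (kg xg9 yg1 zg38) (kg xg8 yg21 zg48) (kg xg8 yg55 zg46) (kg xg5 yg36 zg25) (kg xg2 yg40 zg43) (kg xg8 yg21 zg54) (kg xg2 yg40 zg38) (kg xg8 yg21 zg53) (kg xg5 yg34 zg3) (kg xg10 yg48 zg30) (kg xg6 yg16 zg47) (kg xg2 yg40 zg40) (kg xg10 yg48 zg35) (kg xg5 yg36 zg39) (kg xg2 yg40 zg41) (kg xg5 yg36 zg38) (kg xg10 yg48 zg46) (kg xg7 yg58 zg56) (kg xg10 yg48 zg52) (kg xg10 yg48 zg56) (kg xg5 yg40 zg6) (kg xg5 yg36 zg23) (kg xg5 yg36 zg20) (kg xg2 yg40 zg44) (kg xg5 yg36 zg19) (kg xg10 yg49 zg3) (kg xg9 yg44 zg10) (kg xg6 yg46 zg37)) (@D3.rec (fun _ => Pt) (kg xg6 yg3 zg22) (kg xg10 yg49 zg9) (kg xg10 yg49 zg0) (kg xg10 yg49 zg16) (kg xg5 yg31 zg38) (kg xg10 yg49 zg23) (kg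 xg10 yg49 zg26) (kg xg10 yg49 zg17) (kg xg4 yg29 zg59) (kg xg6 yg5 zg56) (kg xg8 yg56 zg52) (kg xg3 yg59 zg37) (kg xg8 yg56 zg49) (kg xg2 yg40 zg50) (kg xg10 yg49 zg46) (kg xg5 yg53 zg4) (kg xg2 yg40 zg51) (kg xg10 yg49 zg53) (kg xg10 yg49 zg55) (kg xg10 yg49 zg59) (kg xg2 yg40 zg56) (kg xg8 yg16 zg26) (kg xg10 yg50 zg5) (kg xg2 yg41 zg10) (kg xg2 yg41 zg8) (kg xg10 yg50 zg7) (kg xg8 yg55 zg59) (kg xg10 yg50 zg13) (kg xg2 yg41 zg24) (kg xg2 yg41 zg22) (kg xg4 yg51 zg39) (kg xg4 yg8 zg20) (kg xg9 yg38 zg36) (kg xg4 yg8 zg13) (kg xg9 yg41 zg42) (kg xg4 yg51 zg19) (kg xg4 yg8 zg15) (kg xg10 yg50 zg27) (kg xg10 yg50 zg30) (kg xg8 yg18 zg24) (kg xg10 yg50 zg6) (kg xg2 yg41 zg6) (kg xg10 yg50 zg40) (kg xg8 yg24 zg17) (kg xg4 yg9 zg6) (kg xg10 yg50 zg43) (kg xg10 yg23 zg27)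 (kg xg10 yg50 zg48) (kg xg10 yg50 zg50) (kg xg10 yg23 zg24) (kg xg10 yg50 zg55) (kg xg2 yg41 zg15) (kg xg8 yg21 zg46) (kg xg10 yg50 zg60) (kg xg4 yg8 zg10) (kg xg5 yg32 zg9) (kg xg8 yg15 zg58) (kg xg10 yg51 zg5) (kg xg4 yg29 zg27) (kg xg10 yg48 zg17) (kg xg8 yg55 zg56) (kg xg2 yg41 zg18)) (@D3.rec (fun _ => Pt) (kg xg8 yg55 zg55) (kg xg10 yg51 zg20) (kg xg10 yg51 zg24) (kg xg8 yg6 zg5) (kg xg2 yg41 zg19) (kg xg10 yg51 zg32) (kg xg10 yg50 zg15) (kg xg2 yg41 zg20) (kg xg10 yg51 zg42) (kg xg10 yg43 zg33) (kg xg10 yg51 zg46) (kg xg10 yg20 zg41) (kg xg5 yg20 zg36) (kg xg8 yg18 zg8) (kg xg8 yg30 zg16) (kg xg2 yg41 zg23) (kg xg10 yg51 zg57) (kg xg8 yg30 zg15) (kg xg8 yg29 zg35) (kg xg10 yg52 zg2) (kg xg4 yg16 zg23) (kg xg10 yg48 zg41) (kg xg10 yg52 zg11) (kg xg5 yg32 zg39)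 (kg xg6 yg50 zg22) (kg xg10 yg52 zg19) (kg xg10 yg52 zg12) (kg xg4 yg29 zg36) (kg xg10 yg48 zg18) (kg xg8 yg56 zg19) (kg xg10 yg52 zg34) (kg xg8 yg56 zg17) (kg xg2 yg41 zg30) (kg xg10 yg52 zg43) (kg xg10 yg52 zg46) (kg xg10 yg52 zg36) (kg xg2 yg41 zg31) (kg xg10 yg52 zg54) (kg xg10 yg43 zg47) (kg xg2 yg41 zg32) (kg xg5 yg52 zg37) (kg xg10 yg52 zg60) (kg xg9 yg0 zg22) (kg xg10 yg48 zg40) (kg xg10 yg52 zg61) (kg xg10 yg53 zg4) (kg xg4 yg50 zg2) (kg xg9 yg8 zg60) (kg xg10 yg53 zg9) (kg xg5 yg45 zg18) (kg xg10 yg47 zg43) (kg xg9 yg1 zg8) (kg xg10 yg53 zg10) (kg xg8 yg24 zg56) (kg xg4 yg10 zg12) (kg xg2 yg45 zg53) (kg xg6 yg19 zg45) (kg xg2 yg41 zg43) (kg xg10 yg53 zg22) (kg xg8 yg23 zg9) (kg xg10 yg53 zg25) (kg xg5 yg27 zg54)) (@D3.rec (fun _ => Pt) (kg xg10 yg53 zg31)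 (kg xg2 yg41 zg57) (kg xg2 yg41 zg48) (kg xg2 yg41 zg55) (kg xg10 yg53 zg39) (kg xg10 yg46 zg2) (kg xg8 yg57 zg50) (kg xg2 yg41 zg50) (kg xg8 yg57 zg49) (kg xg10 yg53 zg50) (kg xg10 yg53 zg54) (kg xg8 yg27 zg3) (kg xg2 yg41 zg51) (kg xg10 yg54 zg0) (kg xg10 yg53 zg34) (kg xg2 yg41 zg52) (kg xg10 yg25 zg8) (kg xg10 yg53 zg32) (kg xg10 yg31 zg28) (kg xg10 yg54 zg14) (kg xg10 yg54 zg18) (kg xg4 yg15 zg12) (kg xg8 yg2 zg53) (kg xg10 yg19 zg21) (kg xg10 yg21 zg2) (kg xg10 yg26 zg38) (kg xg10 yg54 zg11) (kg xg3 yg58 zg46) (kg xg2 yg41 zg58) (kg xg3 yg58 zg45) (kg xg10 yg54 zg38) (kg xg10 yg54 zg41) (kg xg10 yg54 zg44) (kg xg4 yg56 zg17) (kg xg5 yg34 zg10) (kg xg10 yg54 zg53) (kg xg8 yg55 zg8) (kg xg10 yg54 zg49) (kg xg5 yg29 zg8) (kg xg10 yg54 zg61) (kg xg8 yg58 zg4) (kg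 xg2 yg42 zg1) (kg xg10 yg55 zg9) (kg xg10 yg55 zg13) (kg xg10 yg55 zg2) (kg xg2 yg42 zg2) (kg xg10 yg55 zg20) (kg xg10 yg55 zg0) (kg xg10 yg54 zg31) (kg xg5 yg49 zg26) (kg xg4 yg56 zg14) (kg xg10 yg55 zg24) (kg xg5 yg41 zg11) (kg xg2 yg42 zg5) (kg xg5 yg41 zg10) (kg xg10 yg55 zg30) (kg xg4 yg56 zg15) (kg xg10 yg26 zg39) (kg xg8 yg57 zg37) (kg xg2 yg42 zg8) (kg xg8 yg57 zg35) (kg xg8 yg54 zg56)) (@D3.rec (fun _ => Pt) (kg xg10 yg22 zg33) (kg xg8 yg59 zg7) (kg xg9 yg58 zg54) (kg xg2 yg43 zg2) (kg xg10 yg12 zg16) (kg xg9 yg58 zg12) (kg xg10 yg55 zg48) (kg xg10 yg55 zg52) (kg xg10 yg55 zg55) (kg xg5 yg29 zg58) (kg xg10 yg55 zg61) (kg xg2 yg42 zg26) (kg xg2 yg42 zg18) (kg xg2 yg42 zg25) (kg xg10 yg56 zg5) (kg xg10 yg56 zg8) (kg xg8 yg59 zg47) (kg xg8 yg57 zg4) (kg xg2 yg42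 zg21) (kg xg8 yg57 zg3) (kg xg10 yg56 zg18) (kg xg10 yg56 zg22) (kg xg8 yg6 zg9) (kg xg2 yg42 zg22) (kg xg10 yg56 zg29) (kg xg10 yg56 zg2) (kg xg2 yg42 zg23) (kg xg10 yg56 zg41) (kg xg10 yg56 zg0) (kg xg10 yg56 zg45) (kg xg10 yg50 zg2) (kg xg8 yg2 zg43) (kg xg8 yg6 zg19) (kg xg6 yg6 zg3) (kg xg10 yg54 zg32) (kg xg10 yg56 zg55) (kg xg10 yg41 zg23) (kg xg10 yg56 zg56) (kg xg8 yg59 zg50) (kg xg5 yg30 zg27) (kg xg10 yg57 zg4) (kg xg8 yg57 zg24) (kg xg2 yg42 zg30) (kg xg10 yg57 zg11) (kg xg4 yg59 zg28) (kg xg9 yg48 zg35) (kg xg2 yg42 zg31) (kg xg10 yg57 zg5) (kg xg10 yg57 zg24) (kg xg8 yg34 zg50) (kg xg9 yg6 zg29) (kg xg10 yg57 zg27) (kg xg8 yg59 zg43) (kg xg8 yg53 zg6) (kg xg5 yg56 zg51) (kg xg2 yg43 zg4) (kg xg10 yg57 zg35) (kg xg8 yg59 zg24) (kg xg10 yg57 zg42) (kg xg10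 yg57 zg36) (kg xg2 yg43 zg14) (kg xg8 yg58 zg45)) (@D3.rec (fun _ => Pt) (kg xg5 yg36 zg51) (kg xg6 yg3 zg49) (kg xg8 yg58 zg41) (kg xg2 yg42 zg43) (kg xg10 yg57 zg61) (kg xg10 yg58 zg3) (kg xg8 yg58 zg42) (kg xg2 yg42 zg44) (kg xg10 yg58 zg12) (kg xg10 yg58 zg16) (kg xg10 yg57 zg55) (kg xg2 yg42 zg45) (kg xg10 yg58 zg24) (kg xg10 yg57 zg53) (kg xg8 yg59 zg4) (kg xg9 yg17 zg61) (kg xg2 yg43 zg1) (kg xg10 yg58 zg33) (kg xg8 yg58 zg30) (kg xg2 yg42 zg48) (kg xg8 yg58 zg29) (kg xg8 yg58 zg34) (kg xg2 yg42 zg49) (kg xg8 yg58 zg58) (kg xg8 yg58 zg32) (kg xg8 yg58 zg53) (kg xg10 yg58 zg47) (kg xg8 yg59 zg33) (kg xg10 yg58 zg53) (kg xg10 yg58 zg48) (kg xg2 yg43 zg15) (kg xg8 yg59 zg40) (kg xg8 yg8 zg55) (kg xg5 yg39 zg29) (kg xg9 yg30 zg60) (kg xg8 yg8 zg56) (kg xg2 yg42 zg54)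 (kg xg10 yg59 zg8) (kg xg8 yg58 zg21) (kg xg2 yg42 zg55) (kg xg10 yg59 zg18) (kg xg2 yg56 zg18) (kg xg5 yg59 zg6) (kg xg2 yg42 zg56) (kg xg10 yg59 zg4) (kg xg10 yg45 zg47) (kg xg10 yg53 zg45) (kg xg10 yg39 zg52) (kg xg5 yg28 zg42) (kg xg5 yg45 zg15) (kg xg2 yg42 zg61) (kg xg10 yg58 zg54) (kg xg5 yg31 zg30) (kg xg10 yg59 zg15) (kg xg10 yg59 zg49) (kg xg8 yg58 zg18) (kg xg2 yg43 zg5) (kg xg2 yg43 zg0) (kg xg10 yg39 zg4) (kg xg11 yg0 zg1) (kg xg11 yg0 zg6) (kg xg10 yg59 zg32)) (@D3.rec (fun _ => Pt) (kg xg2 yg43 zg6) (kg xg11 yg0 zg13) (kg xg11 yg0 zg19) (kg xg10 yg58 zg30) (kg xg10 yg55 zg43) (kg xg11 yg0 zg22) (kg xg10 yg55 zg44) (kg xg10 yg57 zg28) (kg xg10 yg57 zg32) (kg xg8 yg58 zg35) (kg xg5 yg31 zg37) (kg xg10 yg58 zg43) (kg xg11 yg0 zg34) (kg xg10 yg39 zg3) (kg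 xg11 yg0 zg2) (kg xg11 yg0 zg42) (kg xg11 yg0 zg14) (kg xg2 yg57 zg4) (kg xg2 yg43 zg7) (kg xg4 yg36 zg17) (kg xg8 yg58 zg13) (kg xg9 yg4 zg0) (kg xg11 yg0 zg55) (kg xg10 yg58 zg56) (kg xg11 yg0 zg59) (kg xg11 yg0 zg25) (kg xg11 yg0 zg60) (kg xg9 yg4 zg1) (kg xg2 yg43 zg11) (kg xg11 yg1 zg9) (kg xg11 yg1 zg13) (kg xg11 yg0 zg57) (kg xg2 yg43 zg12) (kg xg11 yg0 zg56) (kg xg10 yg45 zg10) (kg xg2 yg43 zg13) (kg xg11 yg1 zg31) (kg xg8 yg58 zg39) (kg xg11 yg1 zg35) (kg xg8 yg58 zg20) (kg xg11 yg1 zg39) (kg xg10 yg58 zg46) (kg xg4 yg34 zg18) (kg xg2 yg43 zg16) (kg xg11 yg1 zg46) (kg xg11 yg1 zg47) (kg xg6 yg2 zg49) (kg xg11 yg1 zg45) (kg xg10 yg58 zg52) (kg xg4 yg42 zg61) (kg xg9 yg2 zg56) (kg xg10 yg44 zg51) (kg xg4 yg35 zg47) (kg xg8 yg57 zg42) (kg xg8 yg58 zg17) (kg xg4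 yg43 zg46) (kg xg10 yg44 zg31) (kg xg6 yg6 zg56) (kg xg2 yg43 zg22) (kg xg10 yg23 zg16) (kg xg10 yg43 zg58) (kg xg11 yg2 zg17)) (@D3.rec (fun _ => Pt) (kg xg10 yg53 zg38) (kg xg10 yg44 zg13) (kg xg8 yg57 zg33) (kg xg2 yg43 zg29) (kg xg9 yg6 zg53) (kg xg8 yg57 zg0) (kg xg10 yg47 zg29) (kg xg10 yg51 zg53) (kg xg8 yg57 zg21) (kg xg10 yg44 zg24) (kg xg2 yg52 zg53) (kg xg11 yg2 zg31) (kg xg4 yg56 zg0) (kg xg8 yg39 zg25) (kg xg11 yg2 zg35) (kg xg5 yg23 zg28) (kg xg11 yg2 zg39) (kg xg4 yg20 zg29) (kg xg11 yg2 zg45) (kg xg9 yg0 zg52) (kg xg10 yg47 zg25) (kg xg2 yg43 zg53) (kg xg2 yg43 zg36) (kg xg2 yg43 zg51) (kg xg11 yg2 zg56) (kg xg11 yg2 zg59) (kg xg9 yg51 zg30) (kg xg11 yg3 zg3) (kg xg9 yg0 zg40) (kg xg2 yg43 zg41) (kg xg9 yg0 zg39) (kg xg4 yg3 zg20) (kg xg10 yg20 zg23)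 (kg xg11 yg3 zg15) (kg xg9 yg51 zg33) (kg xg5 yg12 zg46) (kg xg2 yg43 zg44) (kg xg6 yg7 zg16) (kg xg11 yg3 zg25) (kg xg8 yg27 zg52) (kg xg11 yg3 zg7) (kg xg11 yg3 zg34) (kg xg4 yg56 zg3) (kg xg6 yg7 zg14) (kg xg9 yg0 zg49) (kg xg2 yg43 zg47) (kg xg9 yg0 zg48) (kg xg10 yg57 zg57) (kg xg11 yg3 zg50) (kg xg5 yg35 zg51) (kg xg2 yg43 zg48) (kg xg5 yg35 zg50) (kg xg11 yg3 zg59) (kg xg11 yg2 zg52) (kg xg2 yg43 zg49) (kg xg11 yg4 zg6) (kg xg11 yg2 zg50) (kg xg8 yg17 zg16) (kg xg11 yg4 zg12) (kg xg8 yg37 zg47) (kg xg8 yg39 zg52) (kg xg10 yg35 zg20)) (@D3.rec (fun _ => Pt) (kg xg11 yg4 zg19) (kg xg9 yg33 zg27) (kg xg2 yg43 zg52) (kg xg11 yg4 zg26) (kg xg9 yg33 zg26) (kg xg4 yg5 zg14) (kg xg6 yg4 zg46) (kg xg11 yg4 zg34) (kg xg4 yg50 zg31) (kg xg8 yg11 zg6) (kg xg8 yg2 zg46) (kg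 xg11 yg4 zg37) (kg xg10 yg55 zg53) (kg xg4 yg55 zg35) (kg xg11 yg4 zg42) (kg xg9 yg41 zg18) (kg xg2 yg44 zg1) (kg xg9 yg41 zg17) (kg xg5 yg28 zg58) (kg xg2 yg44 zg2) (kg xg5 yg28 zg57) (kg xg11 yg4 zg55) (kg xg5 yg28 zg55) (kg xg2 yg44 zg3) (kg xg9 yg0 zg12) (kg xg5 yg28 zg38) (kg xg8 yg9 zg39) (kg xg2 yg44 zg21) (kg xg4 yg27 zg42) (kg xg4 yg6 zg31) (kg xg2 yg44 zg8) (kg xg11 yg5 zg7) (kg xg8 yg8 zg35) (kg xg11 yg5 zg13) (kg xg11 yg5 zg4) (kg xg2 yg44 zg9) (kg xg11 yg5 zg3) (kg xg5 yg28 zg49) (kg xg2 yg44 zg10) (kg xg5 yg28 zg48) (kg xg11 yg5 zg26) (kg xg2 yg44 zg11) (kg xg11 yg5 zg31) (kg xg5 yg26 zg21) (kg xg2 yg45 zg25) (kg xg10 yg48 zg24) (kg xg11 yg5 zg38) (kg xg5 yg33 zg0) (kg xg11 yg5 zg45) (kg xg5 yg49 zg57) (kg xg11 yg5 zg39) (kg xg4 yg30 zg16) (kg xg6 yg7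 zg19) (kg xg10 yg35 zg36) (kg xg8 yg11 zg15) (kg xg2 yg44 zg20) (kg xg7 yg57 zg38) (kg xg8 yg20 zg26) (kg xg11 yg6 zg3) (kg xg6 yg7 zg9) (kg xg4 yg56 zg32) (kg xg9 yg41 zg39)) (@D3.rec (fun _ => Pt) (kg xg5 yg3 zg40) (kg xg7 yg58 zg0) (kg xg7 yg57 zg53) (kg xg4 yg5 zg2) (kg xg5 yg4 zg51) (kg xg3 yg10 zg16) (kg xg2 yg44 zg28) (kg xg8 yg42 zg48) (kg xg4 yg23 zg20) (kg xg4 yg22 zg4) (kg xg11 yg6 zg14) (kg xg3 yg9 zg56) (kg xg8 yg43 zg23) (kg xg4 yg32 zg16) (kg xg10 yg39 zg32) (kg xg11 yg6 zg22) (kg xg2 yg44 zg34) (kg xg5 yg42 zg10) (kg xg3 yg0 zg18) (kg xg5 yg59 zg14) (kg xg3 yg4 zg53) (kg xg11 yg6 zg26) (kg xg11 yg6 zg30) (kg xg5 yg42 zg6) (kg xg2 yg44 zg39) (kg xg5 yg42 zg5) (kg xg2 yg44 zg55) (kg xg2 yg49 zg23) (kg xg2 yg45 zg56) (kg xg2 yg45 zg9) (kg xg4 yg57 zg3)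 (kg xg5 yg43 zg23) (kg xg11 yg6 zg40) (kg xg5 yg40 zg45) (kg xg2 yg44 zg44) (kg xg5 yg40 zg44) (kg xg9 yg19 zg49) (kg xg6 yg17 zg1) (kg xg9 yg1 zg19) (kg xg3 yg4 zg58) (kg xg3 yg59 zg3) (kg xg6 yg14 zg32) (kg xg2 yg44 zg48) (kg xg11 yg6 zg50) (kg xg5 yg40 zg41) (kg xg2 yg44 zg49) (kg xg11 yg6 zg58) (kg xg5 yg40 zg40) (kg xg2 yg44 zg50) (kg xg5 yg40 zg39) (kg xg2 yg44 zg51) (kg xg9 yg1 zg18) (kg xg11 yg6 zg55) (kg xg9 yg39 zg18) (kg xg2 yg44 zg56) (kg xg2 yg44 zg52) (kg xg5 yg43 zg21) (kg xg3 yg0 zg10) (kg xg11 yg7 zg9) (kg xg11 yg7 zg14) (kg xg9 yg1 zg20) (kg xg9 yg0 zg8)) (@D3.rec (fun _ => Pt) (kg xg10 yg39 zg31) (kg xg2 yg47 zg52) (kg xg11 yg7 zg10) (kg xg11 yg6 zg61) (kg xg8 yg47 zg53) (kg xg11 yg7 zg26) (kg xg2 yg45 zg5) (kg xg2 yg44 zg59) (kg xg7 yg59 zg36) (kg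 xg4 yg36 zg61) (kg xg11 yg7 zg37) (kg xg9 yg3 zg54) (kg xg11 yg7 zg33) (kg xg7 yg59 zg47) (kg xg8 yg48 zg55) (kg xg2 yg45 zg0) (kg xg11 yg7 zg49) (kg xg8 yg49 zg27) (kg xg8 yg49 zg26) (kg xg2 yg45 zg1) (kg xg11 yg7 zg27) (kg xg8 yg12 zg28) (kg xg10 yg3 zg54) (kg xg4 yg34 zg51) (kg xg11 yg7 zg16) (kg xg11 yg7 zg7) (kg xg4 yg35 zg1) (kg xg11 yg8 zg10) (kg xg9 yg1 zg40) (kg xg6 yg31 zg61) (kg xg5 yg3 zg16) (kg xg6 yg2 zg4) (kg xg5 yg39 zg45) (kg xg10 yg18 zg42) (kg xg9 yg0 zg27) (kg xg4 yg7 zg14) (kg xg6 yg17 zg6) (kg xg11 yg6 zg48) (kg xg6 yg15 zg28) (kg xg4 yg55 zg0) (kg xg8 yg59 zg51) (kg xg11 yg8 zg23) (kg xg3 yg0 zg60) (kg xg9 yg0 zg28) (kg xg6 yg7 zg59) (kg xg6 yg8 zg51) (kg xg11 yg8 zg27) (kg xg11 yg8 zg31) (kg xg10 yg4 zg59) (kg xg2 yg45 zg20) (kg xg5 yg0 zg10)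 (kg xg10 yg42 zg31) (kg xg2 yg45 zg22) (kg xg8 yg11 zg18) (kg xg11 yg8 zg39) (kg xg11 yg8 zg43) (kg xg8 yg9 zg43) (kg xg11 yg8 zg47) (kg xg8 yg28 zg20) (kg xg11 yg8 zg52) (kg xg2 yg45 zg28) (kg xg8 yg9 zg38)) (@D3.rec (fun _ => Pt) (kg xg11 yg8 zg58) (kg xg9 yg33 zg24) (kg xg11 yg9 zg2) (kg xg11 yg4 zg61) (kg xg8 yg9 zg47) (kg xg2 yg45 zg31) (kg xg8 yg9 zg46) (kg xg11 yg9 zg14) (kg xg8 yg10 zg10) (kg xg2 yg45 zg32) (kg xg11 yg9 zg22) (kg xg8 yg8 zg3) (kg xg9 yg41 zg48) (kg xg8 yg36 zg52) (kg xg9 yg53 zg14) (kg xg8 yg18 zg6) (kg xg4 yg3 zg47) (kg xg8 yg10 zg20) (kg xg2 yg45 zg35) (kg xg11 yg9 zg38) (kg xg8 yg10 zg18) (kg xg11 yg9 zg43) (kg xg4 yg53 zg4) (kg xg10 yg47 zg61) (kg xg11 yg9 zg50) (kg xg5 yg33 zg33) (kg xg11 yg9 zg57) (kg xg11 yg9 zg60) (kg xg11 yg9 zg51)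 (kg xg4 yg30 zg7) (kg xg10 yg48 zg12) (kg xg11 yg10 zg10) (kg xg11 yg10 zg13) (kg xg2 yg45 zg43) (kg xg11 yg10 zg14) (kg xg11 yg10 zg11) (kg xg9 yg1 zg12) (kg xg11 yg10 zg24) (kg xg3 yg20 zg59) (kg xg7 yg58 zg8) (kg xg7 yg58 zg9) (kg xg11 yg10 zg30) (kg xg11 yg10 zg34) (kg xg9 yg6 zg44) (kg xg11 yg2 zg29) (kg xg5 yg38 zg30) (kg xg10 yg31 zg12) (kg xg11 yg10 zg39) (kg xg8 yg24 zg15) (kg xg3 yg7 zg54) (kg xg4 yg52 zg16) (kg xg4 yg18 zg44) (kg xg3 yg7 zg58) (kg xg11 yg10 zg47) (kg xg3 yg15 zg58) (kg xg8 yg24 zg55) (kg xg7 yg55 zg18) (kg xg2 yg49 zg27) (kg xg4 yg57 zg8) (kg xg2 yg47 zg9) (kg xg11 yg6 zg42) (kg xg9 yg0 zg17)) (@D3.rec (fun _ => Pt) (kg xg11 yg10 zg56) (kg xg6 yg15 zg27) (kg xg5 yg42 zg24) (kg xg6 yg12 zg43) (kg xg11 yg6 zg36) (kg xg5 yg46 zg54) (kg xg9 yg46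 zg45) (kg xg6 yg9 zg9) (kg xg2 yg45 zg61) (kg xg5 yg46 zg59) (kg xg11 yg11 zg6) (kg xg8 yg49 zg24) (kg xg2 yg46 zg0) (kg xg10 yg19 zg0) (kg xg7 yg23 zg31) (kg xg9 yg46 zg50) (kg xg6 yg12 zg28) (kg xg7 yg59 zg20) (kg xg5 yg44 zg22) (kg xg4 yg22 zg55) (kg xg5 yg43 zg58) (kg xg9 yg1 zg44) (kg xg11 yg11 zg22) (kg xg7 yg59 zg22) (kg xg5 yg43 zg41) (kg xg9 yg32 zg28) (kg xg8 yg44 zg20) (kg xg11 yg11 zg27) (kg xg9 yg51 zg3) (kg xg9 yg1 zg41) (kg xg2 yg46 zg12) (kg xg11 yg7 zg45) (kg xg4 yg26 zg9) (kg xg11 yg11 zg24) (kg xg2 yg46 zg13) (kg xg11 yg11 zg23) (kg xg11 yg11 zg54) (kg xg11 yg11 zg57) (kg xg5 yg37 zg49) (kg xg2 yg46 zg15) (kg xg5 yg37 zg48) (kg xg5 yg37 zg45) (kg xg5 yg42 zg0) (kg xg8 yg0 zg42) (kg xg2 yg46 zg17) (kg xg5 yg37 zg34) (kg xg6 yg12 zg32) (kg xg7 yg59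 zg18) (kg xg11 yg12 zg5) (kg xg11 yg12 zg10) (kg xg9 yg1 zg32) (kg xg2 yg46 zg20) (kg xg11 yg12 zg17) (kg xg9 yg1 zg31) (kg xg7 yg59 zg19) (kg xg4 yg32 zg21) (kg xg11 yg12 zg24) (kg xg2 yg46 zg25) (kg xg11 yg12 zg28) (kg xg11 yg12 zg31) (kg xg6 yg14 zg7) (kg xg10 yg48 zg16)) (@D3.rec (fun _ => Pt) (kg xg2 yg48 zg3) (kg xg6 yg12 zg7) (kg xg11 yg12 zg37) (kg xg11 yg12 zg20) (kg xg2 yg46 zg34) (kg xg5 yg48 zg58) (kg xg11 yg12 zg32) (kg xg11 yg12 zg43) (kg xg5 yg31 zg54) (kg xg9 yg45 zg30) (kg xg4 yg29 zg38) (kg xg5 yg31 zg53) (kg xg9 yg1 zg56) (kg xg2 yg46 zg38) (kg xg9 yg1 zg55) (kg xg5 yg14 zg6) (kg xg4 yg32 zg34) (kg xg2 yg47 zg60) (kg xg2 yg48 zg6) (kg xg2 yg55 zg45) (kg xg2 yg46 zg43) (kg xg11 yg12 zg55) (kg xg6 yg13 zg15) (kg xg9 yg45 zg56) (kg xg11 yg13 zg0) (kg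 xg9 yg8 zg8) (kg xg7 yg59 zg10) (kg xg6 yg9 zg1) (kg xg11 yg12 zg56) (kg xg11 yg12 zg59) (kg xg2 yg48 zg42) (kg xg4 yg23 zg13) (kg xg6 yg14 zg20) (kg xg6 yg15 zg33) (kg xg11 yg13 zg18) (kg xg4 yg57 zg16) (kg xg11 yg13 zg22) (kg xg3 yg57 zg56) (kg xg3 yg57 zg25) (kg xg4 yg23 zg34) (kg xg9 yg2 zg31) (kg xg2 yg46 zg53) (kg xg10 yg29 zg29) (kg xg10 yg28 zg55) (kg xg3 yg57 zg28) (kg xg6 yg14 zg31) (kg xg3 yg57 zg29) (kg xg9 yg45 zg36) (kg xg10 yg18 zg6) (kg xg2 yg46 zg60) (kg xg11 yg13 zg43) (kg xg9 yg14 zg5) (kg xg9 yg2 zg32) (kg xg2 yg46 zg57) (kg xg11 yg14 zg1) (kg xg11 yg14 zg5) (kg xg11 yg13 zg20) (kg xg2 yg46 zg58) (kg xg11 yg14 zg14) (kg xg11 yg13 zg19) (kg xg7 yg59 zg16) (kg xg9 yg3 zg28)) (@D3.rec (fun _ => Pt) (kg xg10 yg55 zg1) (kg xg6 yg15 zg54) (kg xg5 yg24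 zg20) (kg xg11 yg14 zg24) (kg xg5 yg37 zg25) (kg xg2 yg47 zg1) (kg xg5 yg37 zg24) (kg xg2 yg47 zg38) (kg xg9 yg45 zg20) (kg xg11 yg14 zg33) (kg xg2 yg47 zg3) (kg xg5 yg37 zg16) (kg xg9 yg3 zg15) (kg xg5 yg46 zg8) (kg xg2 yg47 zg47) (kg xg11 yg14 zg39) (kg xg10 yg58 zg41) (kg xg9 yg2 zg21) (kg xg2 yg47 zg6) (kg xg11 yg14 zg51) (kg xg9 yg2 zg20) (kg xg2 yg47 zg39) (kg xg11 yg14 zg56) (kg xg11 yg14 zg58) (kg xg5 yg40 zg5) (kg xg5 yg40 zg55) (kg xg11 yg15 zg3) (kg xg11 yg15 zg5) (kg xg11 yg15 zg7) (kg xg9 yg4 zg61) (kg xg6 yg8 zg52) (kg xg8 yg44 zg38) (kg xg11 yg15 zg8) (kg xg9 yg5 zg15) (kg xg8 yg43 zg37) (kg xg9 yg2 zg6) (kg xg11 yg15 zg23) (kg xg4 yg41 zg26) (kg xg7 yg7 zg11) (kg xg4 yg57 zg6) (kg xg8 yg42 zg54) (kg xg4 yg56 zg54) (kg xg8 yg43 zg35) (kg xg2 yg47 zg21)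 (kg xg11 yg15 zg39) (kg xg11 yg15 zg44) (kg xg3 yg36 zg46) (kg xg2 yg47 zg22) (kg xg11 yg15 zg48) (kg xg11 yg15 zg53) (kg xg5 yg43 zg25) (kg xg11 yg15 zg49) (kg xg11 yg14 zg26) (kg xg9 yg2 zg1) (kg xg2 yg47 zg25) (kg xg11 yg16 zg3) (kg xg10 yg21 zg56) (kg xg11 yg15 zg26) (kg xg2 yg47 zg26) (kg xg11 yg16 zg14) (kg xg11 yg15 zg24) (kg xg8 yg44 zg26)) (@D3.rec (fun _ => Pt) (kg xg2 yg47 zg28) (kg xg11 yg16 zg19) (kg xg11 yg16 zg22) (kg xg9 yg3 zg16) (kg xg2 yg47 zg31) (kg xg9 yg5 zg20) (kg xg9 yg2 zg54) (kg xg7 yg26 zg50) (kg xg2 yg52 zg21) (kg xg6 yg2 zg6) (kg xg2 yg48 zg10) (kg xg11 yg16 zg34) (kg xg2 yg56 zg57) (kg xg6 yg15 zg37) (kg xg11 yg16 zg40) (kg xg9 yg2 zg14) (kg xg5 yg40 zg36) (kg xg11 yg16 zg44) (kg xg5 yg43 zg61) (kg xg3 yg58 zg58) (kg xg5 yg44 zg10) (kg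 xg5 yg38 zg1) (kg xg2 yg47 zg43) (kg xg9 yg45 zg22) (kg xg11 yg16 zg51) (kg xg5 yg42 zg21) (kg xg9 yg45 zg38) (kg xg11 yg16 zg58) (kg xg2 yg47 zg56) (kg xg2 yg47 zg46) (kg xg4 yg13 zg9) (kg xg11 yg17 zg6) (kg xg11 yg17 zg9) (kg xg11 yg10 zg49) (kg xg11 yg14 zg41) (kg xg11 yg14 zg42) (kg xg11 yg16 zg23) (kg xg5 yg49 zg48) (kg xg11 yg12 zg51) (kg xg9 yg1 zg21) (kg xg5 yg7 zg38) (kg xg5 yg40 zg27) (kg xg11 yg17 zg23) (kg xg2 yg47 zg53) (kg xg6 yg16 zg21) (kg xg5 yg37 zg31) (kg xg11 yg17 zg30) (kg xg5 yg43 zg55) (kg xg11 yg17 zg34) (kg xg11 yg17 zg7) (kg xg11 yg17 zg40) (kg xg2 yg47 zg57) (kg xg11 yg1 zg59) (kg xg9 yg2 zg53) (kg xg6 yg8 zg32) (kg xg2 yg47 zg59) (kg xg4 yg0 zg46) (kg xg4 yg34 zg14) (kg xg5 yg40 zg18) (kg xg11 yg17 zg54) (kg xg9 yg4 zg34) (kg xg5 yg43 zg20))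 (@D3.rec (fun _ => Pt) (kg xg11 yg17 zg55) (kg xg11 yg16 zg30) (kg xg2 yg48 zg14) (kg xg2 yg48 zg1) (kg xg11 yg18 zg7) (kg xg11 yg18 zg12) (kg xg11 yg18 zg15) (kg xg2 yg48 zg17) (kg xg2 yg48 zg2) (kg xg2 yg48 zg16) (kg xg5 yg43 zg18) (kg xg4 yg57 zg38) (kg xg11 yg18 zg27) (kg xg2 yg48 zg7) (kg xg2 yg48 zg4) (kg xg4 yg53 zg32) (kg xg11 yg18 zg35) (kg xg11 yg18 zg37) (kg xg11 yg17 zg61) (kg xg2 yg48 zg5) (kg xg11 yg18 zg47) (kg xg11 yg17 zg59) (kg xg5 yg40 zg20) (kg xg11 yg18 zg50) (kg xg11 yg18 zg36) (kg xg11 yg18 zg55) (kg xg2 yg48 zg8) (kg xg4 yg42 zg60) (kg xg9 yg4 zg45) (kg xg11 yg18 zg61) (kg xg9 yg45 zg19) (kg xg11 yg19 zg6) (kg xg11 yg18 zg41) (kg xg11 yg19 zg9) (kg xg9 yg0 zg13) (kg xg11 yg6 zg28) (kg xg11 yg16 zg21) (kg xg8 yg59 zg19) (kg xg2 yg48 zg11) (kg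 xg8 yg59 zg26) (kg xg11 yg19 zg24) (kg xg11 yg19 zg27) (kg xg9 yg46 zg3) (kg xg2 yg48 zg12) (kg xg8 yg32 zg41) (kg xg11 yg19 zg36) (kg xg11 yg18 zg13) (kg xg11 yg18 zg18) (kg xg2 yg48 zg13) (kg xg11 yg19 zg47) (kg xg11 yg18 zg16) (kg xg11 yg19 zg52) (kg xg11 yg19 zg55) (kg xg11 yg19 zg60) (kg xg11 yg20 zg2) (kg xg11 yg18 zg59) (kg xg11 yg17 zg17) (kg xg11 yg18 zg33) (kg xg9 yg9 zg11) (kg xg11 yg20 zg17) (kg xg11 yg16 zg35) (kg xg11 yg16 zg37)) (@D3.rec (fun _ => Pt) (kg xg2 yg48 zg18) (kg xg11 yg20 zg28) (kg xg2 yg55 zg48) (kg xg5 yg49 zg53) (kg xg2 yg55 zg1) (kg xg2 yg48 zg20) (kg xg11 yg20 zg38) (kg xg9 yg4 zg42) (kg xg11 yg20 zg45) (kg xg9 yg4 zg39) (kg xg2 yg48 zg22) (kg xg11 yg20 zg51) (kg xg11 yg20 zg55) (kg xg11 yg20 zg47) (kg xg2 yg48 zg23) (kg xg5 yg34 zg6)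 (kg xg11 yg20 zg46) (kg xg9 yg3 zg47) (kg xg5 yg6 zg26) (kg xg2 yg48 zg49) (kg xg5 yg30 zg49) (kg xg10 yg15 zg29) (kg xg9 yg4 zg28) (kg xg11 yg21 zg14) (kg xg9 yg4 zg25) (kg xg2 yg48 zg29) (kg xg11 yg21 zg20) (kg xg4 yg46 zg19) (kg xg11 yg21 zg16) (kg xg2 yg48 zg30) (kg xg9 yg25 zg10) (kg xg11 yg21 zg15) (kg xg9 yg3 zg30) (kg xg2 yg52 zg24) (kg xg9 yg5 zg6) (kg xg11 yg21 zg36) (kg xg11 yg1 zg43) (kg xg11 yg21 zg37) (kg xg11 yg21 zg42) (kg xg11 yg21 zg44) (kg xg2 yg48 zg37) (kg xg9 yg7 zg38) (kg xg11 yg1 zg50) (kg xg11 yg21 zg52) (kg xg10 yg15 zg30) (kg xg5 yg49 zg45) (kg xg10 yg57 zg41) (kg xg11 yg21 zg56) (kg xg5 yg3 zg56) (kg xg9 yg5 zg8) (kg xg9 yg5 zg7) (kg xg11 yg22 zg4) (kg xg11 yg22 zg8) (kg xg11 yg22 zg9) (kg xg2 yg48 zg47) (kg xg11 yg22 zg13) (kg xg10 yg6 zg50)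 (kg xg5 yg41 zg5) (kg xg2 yg48 zg48) (kg xg2 yg53 zg58) (kg xg2 yg48 zg45) (kg xg2 yg51 zg39)) (@D3.rec (fun _ => Pt) (kg xg9 yg5 zg5) (kg xg2 yg48 zg46) (kg xg9 yg2 zg0) (kg xg11 yg21 zg17) (kg xg11 yg22 zg29) (kg xg11 yg14 zg38) (kg xg10 yg49 zg42) (kg xg6 yg26 zg59) (kg xg5 yg42 zg15) (kg xg9 yg4 zg36) (kg xg11 yg13 zg2) (kg xg4 yg56 zg26) (kg xg11 yg22 zg43) (kg xg9 yg4 zg38) (kg xg9 yg1 zg59) (kg xg3 yg58 zg48) (kg xg11 yg22 zg44) (kg xg11 yg2 zg0) (kg xg3 yg21 zg12) (kg xg2 yg48 zg53) (kg xg11 yg22 zg56) (kg xg11 yg22 zg59) (kg xg6 yg13 zg45) (kg xg2 yg50 zg56) (kg xg4 yg25 zg41) (kg xg11 yg6 zg10) (kg xg4 yg36 zg60) (kg xg11 yg23 zg5) (kg xg4 yg56 zg58) (kg xg2 yg48 zg59) (kg xg11 yg23 zg11) (kg xg10 yg16 zg12) (kg xg6 yg14 zg25) (kg xg2 yg48 zg60) (kg xg11 yg23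 zg20) (kg xg6 yg14 zg23) (kg xg8 yg43 zg51) (kg xg4 yg41 zg39) (kg xg6 yg13 zg44) (kg xg8 yg43 zg52) (kg xg6 yg14 zg28) (kg xg2 yg49 zg1) (kg xg11 yg23 zg35) (kg xg4 yg23 zg10) (kg xg8 yg43 zg49) (kg xg7 yg56 zg40) (kg xg4 yg0 zg1) (kg xg5 yg51 zg1) (kg xg8 yg46 zg16) (kg xg5 yg57 zg8) (kg xg11 yg23 zg48) (kg xg11 yg14 zg46) (kg xg3 yg4 zg9) (kg xg9 yg2 zg60) (kg xg5 yg40 zg2) (kg xg11 yg21 zg26) (kg xg5 yg39 zg59) (kg xg11 yg24 zg1) (kg xg11 yg24 zg4) (kg xg4 yg31 zg49) (kg xg11 yg24 zg9) (kg xg2 yg50 zg46)) (@D3.rec (fun _ => Pt) (kg xg2 yg55 zg9) (kg xg11 yg24 zg14) (kg xg4 yg57 zg20) (kg xg9 yg30 zg18) (kg xg11 yg24 zg19) (kg xg11 yg24 zg17) (kg xg2 yg49 zg25) (kg xg11 yg24 zg31) (kg xg11 yg24 zg15) (kg xg6 yg17 zg9) (kg xg11 yg10 zg48) (kg xg2 yg49 zg28) (kg xg9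 yg17 zg26) (kg xg3 yg21 zg32) (kg xg11 yg24 zg37) (kg xg7 yg59 zg53) (kg xg3 yg5 zg20) (kg xg9 yg5 zg41) (kg xg7 yg59 zg55) (kg xg3 yg57 zg55) (kg xg5 yg8 zg23) (kg xg11 yg24 zg46) (kg xg7 yg14 zg27) (kg xg6 yg14 zg15) (kg xg9 yg4 zg40) (kg xg11 yg24 zg50) (kg xg5 yg54 zg32) (kg xg5 yg52 zg43) (kg xg5 yg51 zg7) (kg xg9 yg19 zg51) (kg xg3 yg13 zg21) (kg xg5 yg51 zg42) (kg xg5 yg51 zg59) (kg xg11 yg24 zg59) (kg xg11 yg24 zg48) (kg xg2 yg49 zg45) (kg xg11 yg24 zg47) (kg xg5 yg51 zg13) (kg xg5 yg50 zg39) (kg xg2 yg51 zg10) (kg xg9 yg18 zg17) (kg xg5 yg52 zg47) (kg xg2 yg50 zg9) (kg xg2 yg50 zg22) (kg xg4 yg58 zg29) (kg xg2 yg49 zg51) (kg xg11 yg25 zg15) (kg xg2 yg50 zg23) (kg xg11 yg25 zg19) (kg xg5 yg51 zg19) (kg xg5 yg51 zg18) (kg xg11 yg25 zg11) (kg xg4 yg25 zg61) (kg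 xg4 yg7 zg8) (kg xg5 yg12 zg27) (kg xg4 yg58 zg22) (kg xg11 yg25 zg28) (kg xg11 yg7 zg4) (kg xg2 yg49 zg61) (kg xg10 yg17 zg56) (kg xg11 yg25 zg33) (kg xg6 yg7 zg27)) (@D3.rec (fun _ => Pt) (kg xg5 yg57 zg54) (kg xg11 yg25 zg37) (kg xg2 yg50 zg3) (kg xg8 yg12 zg53) (kg xg5 yg51 zg12) (kg xg6 yg28 zg55) (kg xg9 yg28 zg29) (kg xg9 yg24 zg36) (kg xg2 yg50 zg21) (kg xg2 yg50 zg6) (kg xg11 yg25 zg57) (kg xg2 yg50 zg19) (kg xg6 yg15 zg18) (kg xg4 yg32 zg2) (kg xg8 yg0 zg30) (kg xg11 yg26 zg1) (kg xg9 yg12 zg1) (kg xg11 yg26 zg3) (kg xg3 yg45 zg61) (kg xg9 yg32 zg3) (kg xg8 yg0 zg53) (kg xg6 yg57 zg23) (kg xg11 yg25 zg52) (kg xg2 yg50 zg17) (kg xg11 yg26 zg14) (kg xg11 yg25 zg50) (kg xg11 yg26 zg18) (kg xg11 yg26 zg22) (kg xg11 yg26 zg25) (kg xg9 yg24 zg30) (kg xg9 yg11 zg43)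 (kg xg7 yg41 zg56) (kg xg11 yg26 zg26) (kg xg4 yg49 zg55) (kg xg11 yg25 zg59) (kg xg2 yg50 zg20) (kg xg11 yg26 zg44) (kg xg11 yg25 zg58) (kg xg6 yg4 zg14) (kg xg4 yg24 zg3) (kg xg11 yg26 zg49) (kg xg11 yg17 zg19) (kg xg2 yg50 zg24) (kg xg11 yg17 zg28) (kg xg4 yg57 zg48) (kg xg11 yg25 zg24) (kg xg11 yg26 zg57) (kg xg11 yg26 zg60) (kg xg2 yg50 zg26) (kg xg9 yg49 zg48) (kg xg11 yg27 zg4) (kg xg2 yg50 zg30) (kg xg2 yg50 zg28) (kg xg2 yg50 zg29) (kg xg3 yg24 zg2) (kg xg8 yg0 zg38) (kg xg11 yg27 zg13) (kg xg11 yg27 zg16) (kg xg11 yg22 zg17) (kg xg3 yg2 zg61) (kg xg9 yg49 zg24) (kg xg5 yg52 zg46)) (@D3.rec (fun _ => Pt) (kg xg8 yg0 zg29) (kg xg9 yg5 zg37) (kg xg9 yg5 zg44) (kg xg4 yg57 zg25) (kg xg6 yg17 zg8) (kg xg2 yg50 zg37) (kg xg8 yg45 zg26) (kg xg6 yg26 zg60) (kg xg3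 yg5 zg17) (kg xg2 yg50 zg49) (kg xg6 yg17 zg3) (kg xg9 yg39 zg19) (kg xg8 yg3 zg31) (kg xg6 yg17 zg0) (kg xg2 yg50 zg42) (kg xg9 yg2 zg51) (kg xg10 yg52 zg40) (kg xg11 yg8 zg21) (kg xg2 yg50 zg43) (kg xg4 yg58 zg59) (kg xg2 yg57 zg56) (kg xg6 yg17 zg7) (kg xg4 yg0 zg48) (kg xg10 yg52 zg17) (kg xg3 yg57 zg60) (kg xg2 yg50 zg48) (kg xg9 yg5 zg43) (kg xg6 yg15 zg21) (kg xg6 yg16 zg42) (kg xg11 yg27 zg50) (kg xg11 yg27 zg52) (kg xg4 yg39 zg11) (kg xg2 yg50 zg51) (kg xg11 yg27 zg54) (kg xg9 yg9 zg35) (kg xg11 yg11 zg60) (kg xg9 yg5 zg39) (kg xg2 yg50 zg55) (kg xg6 yg14 zg46) (kg xg6 yg55 zg55) (kg xg11 yg28 zg0) (kg xg4 yg42 zg45) (kg xg5 yg43 zg0) (kg xg11 yg28 zg6) (kg xg3 yg5 zg18) (kg xg9 yg13 zg11) (kg xg3 yg5 zg16) (kg xg3 yg5 zg29) (kg xg5 yg43 zg57) (kg xg5 yg6 zg31)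 (kg xg11 yg27 zg27) (kg xg11 yg28 zg16) (kg xg2 yg51 zg2) (kg xg2 yg55 zg53) (kg xg9 yg9 zg45) (kg xg4 yg30 zg38) (kg xg2 yg51 zg4) (kg xg10 yg58 zg44) (kg xg4 yg39 zg32) (kg xg4 yg58 zg53) (kg xg2 yg51 zg8) (kg xg11 yg28 zg25)) (@D3.rec (fun _ => Pt) (kg xg2 yg51 zg9) (kg xg11 yg28 zg28) (kg xg5 yg52 zg13) (kg xg3 yg59 zg17) (kg xg2 yg55 zg4) (kg xg11 yg28 zg33) (kg xg11 yg28 zg36) (kg xg11 yg28 zg39) (kg xg2 yg51 zg14) (kg xg4 yg41 zg13) (kg xg9 yg48 zg61) (kg xg8 yg50 zg3) (kg xg6 yg7 zg47) (kg xg10 yg2 zg44) (kg xg5 yg38 zg49) (kg xg11 yg28 zg44) (kg xg9 yg6 zg9) (kg xg2 yg51 zg21) (kg xg4 yg39 zg31) (kg xg9 yg6 zg7) (kg xg9 yg49 zg28) (kg xg6 yg2 zg48) (kg xg5 yg51 zg56) (kg xg9 yg32 zg33) (kg xg9 yg25 zg48) (kg xg4 yg38 zg59) (kg xg9 yg50 zg58) (kg xg6 yg22 zg2)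 (kg xg6 yg22 zg1) (kg xg11 yg28 zg55) (kg xg11 yg28 zg57) (kg xg11 yg28 zg59) (kg xg2 yg51 zg29) (kg xg2 yg51 zg26) (kg xg6 yg0 zg25) (kg xg11 yg29 zg2) (kg xg9 yg50 zg25) (kg xg8 yg12 zg9) (kg xg4 yg34 zg46) (kg xg5 yg47 zg40) (kg xg4 yg58 zg42) (kg xg6 yg8 zg43) (kg xg4 yg36 zg46) (kg xg5 yg56 zg49) (kg xg9 yg13 zg37) (kg xg10 yg19 zg1) (kg xg2 yg51 zg35) (kg xg6 yg8 zg25) (kg xg4 yg42 zg44) (kg xg3 yg10 zg8) (kg xg2 yg51 zg37) (kg xg3 yg44 zg8) (kg xg11 yg29 zg16) (kg xg11 yg29 zg19) (kg xg6 yg12 zg21) (kg xg9 yg6 zg11) (kg xg6 yg11 zg55) (kg xg8 yg49 zg23) (kg xg8 yg49 zg21) (kg xg11 yg29 zg26) (kg xg11 yg29 zg29) (kg xg11 yg29 zg30)) (@D3.rec (fun _ => Pt) (kg xg11 yg29 zg32) (kg xg5 yg46 zg48) (kg xg5 yg59 zg27) (kg xg9 yg21 zg2) (kg xg2 yg51 zg61) (kg xg2 yg51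 zg49) (kg xg2 yg51 zg60) (kg xg5 yg47 zg45) (kg xg11 yg29 zg43) (kg xg2 yg51 zg51) (kg xg11 yg29 zg47) (kg xg5 yg48 zg4) (kg xg2 yg51 zg52) (kg xg5 yg48 zg2) (kg xg4 yg36 zg39) (kg xg11 yg29 zg57) (kg xg3 yg50 zg4) (kg xg11 yg29 zg61) (kg xg2 yg51 zg55) (kg xg3 yg2 zg60) (kg xg3 yg45 zg47) (kg xg11 yg29 zg51) (kg xg9 yg17 zg33) (kg xg3 yg24 zg34) (kg xg11 yg30 zg12) (kg xg11 yg30 zg15) (kg xg11 yg30 zg18) (kg xg11 yg30 zg20) (kg xg11 yg30 zg5) (kg xg8 yg49 zg1) (kg xg11 yg29 zg46) (kg xg11 yg30 zg21) (kg xg8 yg14 zg35) (kg xg5 yg47 zg0) (kg xg4 yg59 zg40) (kg xg11 yg30 zg33) (kg xg9 yg47 zg44) (kg xg2 yg52 zg1) (kg xg9 yg47 zg43) (kg xg6 yg22 zg6) (kg xg9 yg50 zg54) (kg xg5 yg48 zg61) (kg xg4 yg36 zg47) (kg xg11 yg30 zg42) (kg xg5 yg47 zg20) (kg xg10 yg5 zg1) (kg xg2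 yg52 zg7) (kg xg11 yg30 zg50) (kg xg6 yg16 zg11) (kg xg6 yg12 zg9) (kg xg3 yg21 zg57) (kg xg11 yg30 zg55) (kg xg11 yg30 zg58) (kg xg2 yg52 zg14) (kg xg2 yg52 zg11) (kg xg10 yg4 zg60) (kg xg2 yg52 zg12) (kg xg6 yg30 zg36) (kg xg2 yg52 zg13) (kg xg5 yg47 zg30) (kg xg11 yg31 zg1) (kg xg10 yg4 zg58)) (@D3.rec (fun _ => Pt) (kg xg3 yg3 zg1) (kg xg7 yg26 zg28) (kg xg11 yg27 zg47) (kg xg2 yg52 zg33) (kg xg2 yg52 zg19) (kg xg2 yg52 zg31) (kg xg11 yg31 zg8) (kg xg11 yg24 zg49) (kg xg11 yg29 zg22) (kg xg5 yg50 zg9) (kg xg5 yg50 zg8) (kg xg11 yg31 zg15) (kg xg11 yg21 zg28) (kg xg2 yg52 zg25) (kg xg5 yg47 zg39) (kg xg5 yg14 zg48) (kg xg11 yg31 zg12) (kg xg11 yg31 zg20) (kg xg11 yg12 zg45) (kg xg11 yg31 zg6) (kg xg2 yg52 zg29) (kg xg11 yg22 zg12) (kg xg10 yg49 zg8) (kg xg9 yg48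 zg18) (kg xg11 yg1 zg54) (kg xg10 yg53 zg3) (kg xg8 yg14 zg43) (kg xg9 yg47 zg40) (kg xg11 yg16 zg31) (kg xg8 yg58 zg9) (kg xg9 yg46 zg38) (kg xg9 yg14 zg46) (kg xg2 yg52 zg32) (kg xg11 yg31 zg36) (kg xg9 yg14 zg45) (kg xg6 yg13 zg21) (kg xg4 yg39 zg14) (kg xg3 yg21 zg53) (kg xg9 yg46 zg21) (kg xg4 yg39 zg18) (kg xg2 yg58 zg7) (kg xg2 yg52 zg36) (kg xg6 yg30 zg21) (kg xg6 yg30 zg20) (kg xg11 yg31 zg50) (kg xg11 yg31 zg52) (kg xg2 yg52 zg38) (kg xg6 yg30 zg5) (kg xg11 yg30 zg31) (kg xg9 yg46 zg12) (kg xg3 yg59 zg57) (kg xg3 yg2 zg50) (kg xg11 yg31 zg47) (kg xg9 yg48 zg0) (kg xg8 yg59 zg56) (kg xg8 yg0 zg11) (kg xg5 yg29 zg11) (kg xg8 yg12 zg33) (kg xg8 yg51 zg43) (kg xg8 yg0 zg18) (kg xg2 yg52 zg47) (kg xg6 yg3 zg41)) (@D3.rec (fun _ => Pt) (kg xg9 yg6 zg55) (kg xg2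 yg52 zg48) (kg xg6 yg1 zg34) (kg xg11 yg32 zg16) (kg xg5 yg29 zg16) (kg xg6 yg3 zg27) (kg xg11 yg32 zg20) (kg xg6 yg1 zg29) (kg xg2 yg55 zg61) (kg xg6 yg7 zg58) (kg xg2 yg55 zg60) (kg xg2 yg52 zg56) (kg xg9 yg50 zg44) (kg xg9 yg8 zg19) (kg xg5 yg34 zg53) (kg xg11 yg32 zg33) (kg xg2 yg52 zg60) (kg xg8 yg43 zg7) (kg xg11 yg32 zg41) (kg xg2 yg54 zg14) (kg xg11 yg32 zg45) (kg xg11 yg32 zg50) (kg xg8 yg27 zg46) (kg xg2 yg59 zg24) (kg xg2 yg53 zg1) (kg xg9 yg30 zg25) (kg xg11 yg20 zg35) (kg xg4 yg42 zg48) (kg xg2 yg53 zg46) (kg xg2 yg53 zg13) (kg xg2 yg53 zg5) (kg xg9 yg19 zg26) (kg xg11 yg33 zg3) (kg xg11 yg33 zg7) (kg xg2 yg53 zg7) (kg xg11 yg33 zg10) (kg xg9 yg31 zg41) (kg xg4 yg25 zg5) (kg xg6 yg16 zg31) (kg xg9 yg2 zg30) (kg xg11 yg32 zg8) (kg xg6 yg15 zg19) (kg xg3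 yg24 zg1) (kg xg9 yg12 zg13) (kg xg3 yg4 zg14) (kg xg11 yg33 zg25) (kg xg11 yg33 zg28) (kg xg6 yg53 zg55) (kg xg11 yg33 zg30) (kg xg4 yg25 zg23) (kg xg3 yg38 zg15) (kg xg6 yg15 zg59) (kg xg11 yg33 zg36) (kg xg2 yg53 zg18) (kg xg8 yg10 zg39) (kg xg2 yg53 zg34) (kg xg8 yg0 zg1) (kg xg10 yg5 zg14) (kg xg5 yg5 zg55) (kg xg7 yg59 zg56) (kg xg10 yg4 zg30) (kg xg2 yg53 zg55)) (@D3.rec (fun _ => Pt) (kg xg2 yg53 zg22) (kg xg8 yg12 zg46) (kg xg2 yg53 zg53) (kg xg4 yg59 zg30) (kg xg11 yg33 zg55) (kg xg11 yg33 zg58) (kg xg11 yg33 zg61) (kg xg11 yg33 zg56) (kg xg4 yg26 zg43) (kg xg11 yg34 zg4) (kg xg11 yg34 zg7) (kg xg11 yg34 zg5) (kg xg11 yg23 zg14) (kg xg9 yg8 zg10) (kg xg4 yg44 zg48) (kg xg11 yg34 zg17) (kg xg11 yg33 zg39) (kg xg2 yg53 zg32) (kg xg11 yg34 zg29) (kg xg11 yg33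 zg37) (kg xg10 yg17 zg28) (kg xg11 yg34 zg34) (kg xg3 yg33 zg30) (kg xg10 yg1 zg20) (kg xg8 yg10 zg36) (kg xg11 yg34 zg42) (kg xg8 yg10 zg35) (kg xg2 yg53 zg37) (kg xg11 yg28 zg58) (kg xg6 yg16 zg7) (kg xg11 yg34 zg51) (kg xg6 yg16 zg5) (kg xg5 yg47 zg29) (kg xg10 yg18 zg34) (kg xg4 yg34 zg43) (kg xg9 yg23 zg43) (kg xg11 yg34 zg55) (kg xg2 yg53 zg41) (kg xg6 yg45 zg44) (kg xg3 yg2 zg36) (kg xg11 yg34 zg61) (kg xg6 yg1 zg41) (kg xg11 yg34 zg48) (kg xg9 yg9 zg24) (kg xg4 yg38 zg47) (kg xg9 yg17 zg18) (kg xg9 yg8 zg14) (kg xg2 yg53 zg44) (kg xg4 yg40 zg24) (kg xg7 yg26 zg45) (kg xg2 yg53 zg50) (kg xg8 yg12 zg21) (kg xg9 yg45 zg34) (kg xg2 yg53 zg51) (kg xg8 yg12 zg24) (kg xg11 yg35 zg17) (kg xg3 yg5 zg14) (kg xg5 yg13 zg56) (kg xg4 yg5 zg44) (kg xg4 yg20 zg38) (kg xg8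 yg12 zg29) (kg xg8 yg12 zg31)) (@D3.rec (fun _ => Pt) (kg xg10 yg4 zg37) (kg xg10 yg3 zg55) (kg xg11 yg35 zg30) (kg xg11 yg35 zg35) (kg xg11 yg35 zg31) (kg xg10 yg3 zg57) (kg xg8 yg12 zg42) (kg xg11 yg35 zg43) (kg xg11 yg35 zg47) (kg xg8 yg12 zg36) (kg xg11 yg35 zg53) (kg xg4 yg59 zg0) (kg xg6 yg50 zg3) (kg xg11 yg35 zg58) (kg xg10 yg4 zg36) (kg xg6 yg25 zg44) (kg xg2 yg53 zg59) (kg xg9 yg31 zg1) (kg xg10 yg4 zg34) (kg xg3 yg0 zg48) (kg xg7 yg30 zg37) (kg xg10 yg4 zg1) (kg xg11 yg36 zg3) (kg xg11 yg36 zg4) (kg xg5 yg18 zg49) (kg xg2 yg54 zg3) (kg xg5 yg18 zg51) (kg xg9 yg7 zg55) (kg xg2 yg54 zg4) (kg xg4 yg41 zg21) (kg xg5 yg54 zg20) (kg xg2 yg54 zg10) (kg xg8 yg45 zg40) (kg xg11 yg36 zg23) (kg xg2 yg54 zg12) (kg xg2 yg54 zg7) (kg xg11 yg36 zg28) (kg xg11 yg36 zg29)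 (kg xg9 yg30 zg38) (kg xg3 yg9 zg58) (kg xg11 yg36 zg32) (kg xg11 yg32 zg34) (kg xg11 yg36 zg37) (kg xg7 yg31 zg36) (kg xg11 yg36 zg40) (kg xg3 yg21 zg0) (kg xg11 yg32 zg46) (kg xg6 yg25 zg12) (kg xg11 yg36 zg46) (kg xg2 yg54 zg16) (kg xg11 yg36 zg52) (kg xg9 yg7 zg28) (kg xg3 yg1 zg49) (kg xg11 yg36 zg56) (kg xg2 yg54 zg46) (kg xg2 yg54 zg18) (kg xg11 yg37 zg0) (kg xg2 yg54 zg44) (kg xg2 yg54 zg52) (kg xg2 yg54 zg19) (kg xg11 yg37 zg6) (kg xg7 yg12 zg11)) (@D3.rec (fun _ => Pt) (kg xg5 yg47 zg42) (kg xg11 yg37 zg13) (kg xg11 yg37 zg16) (kg xg6 yg15 zg17) (kg xg11 yg37 zg14) (kg xg11 yg37 zg22) (kg xg11 yg37 zg26) (kg xg9 yg9 zg37) (kg xg11 yg37 zg30) (kg xg6 yg13 zg14) (kg xg11 yg37 zg31) (kg xg11 yg37 zg36) (kg xg8 yg46 zg42) (kg xg2 yg54 zg28) (kg xg11 yg37 zg42)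 (kg xg11 yg36 zg21) (kg xg11 yg37 zg46) (kg xg11 yg36 zg49) (kg xg2 yg54 zg29) (kg xg11 yg37 zg57) (kg xg11 yg36 zg47) (kg xg5 yg0 zg3) (kg xg11 yg38 zg0) (kg xg3 yg59 zg30) (kg xg8 yg43 zg0) (kg xg9 yg12 zg37) (kg xg2 yg54 zg32) (kg xg11 yg38 zg13) (kg xg11 yg36 zg53) (kg xg2 yg54 zg37) (kg xg2 yg54 zg34) (kg xg10 yg6 zg18) (kg xg6 yg25 zg20) (kg xg6 yg25 zg18) (kg xg11 yg38 zg25) (kg xg11 yg38 zg28) (kg xg9 yg11 zg48) (kg xg11 yg38 zg31) (kg xg2 yg54 zg38) (kg xg9 yg15 zg17) (kg xg3 yg0 zg49) (kg xg6 yg37 zg41) (kg xg11 yg38 zg23) (kg xg9 yg15 zg37) (kg xg3 yg15 zg33) (kg xg4 yg58 zg39) (kg xg11 yg36 zg55) (kg xg2 yg54 zg42) (kg xg11 yg36 zg57) (kg xg9 yg10 zg26) (kg xg11 yg38 zg55) (kg xg11 yg38 zg59) (kg xg11 yg38 zg37) (kg xg5 yg58 zg1) (kg xg11 yg38 zg19) (kg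 xg5 yg32 zg54) (kg xg9 yg5 zg1) (kg xg11 yg37 zg3) (kg xg2 yg54 zg45) (kg xg11 yg39 zg13) (kg xg11 yg37 zg1) (kg xg4 yg35 zg61)) (@D3.rec (fun _ => Pt) (kg xg8 yg50 zg23) (kg xg9 yg12 zg44) (kg xg11 yg32 zg51) (kg xg11 yg39 zg26) (kg xg5 yg46 zg49) (kg xg10 yg53 zg16) (kg xg2 yg56 zg55) (kg xg11 yg39 zg27) (kg xg3 yg0 zg2) (kg xg9 yg12 zg38) (kg xg2 yg54 zg51) (kg xg11 yg39 zg41) (kg xg11 yg37 zg7) (kg xg11 yg39 zg47) (kg xg2 yg55 zg57) (kg xg2 yg55 zg59) (kg xg3 yg24 zg44) (kg xg11 yg39 zg54) (kg xg2 yg54 zg54) (kg xg9 yg9 zg9) (kg xg9 yg15 zg24) (kg xg11 yg39 zg60) (kg xg9 yg4 zg13) (kg xg11 yg39 zg49) (kg xg9 yg10 zg12) (kg xg9 yg9 zg17) (kg xg2 yg56 zg1) (kg xg9 yg50 zg42) (kg xg9 yg9 zg13) (kg xg2 yg55 zg0) (kg xg11 yg20 zg39) (kg xg9 yg22 zg31) (kg xg10 yg6 zg19)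 (kg xg2 yg55 zg33) (kg xg7 yg34 zg52) (kg xg9 yg29 zg59) (kg xg2 yg56 zg46) (kg xg9 yg17 zg8) (kg xg11 yg40 zg14) (kg xg4 yg59 zg48) (kg xg3 yg45 zg23) (kg xg5 yg58 zg0) (kg xg2 yg55 zg10) (kg xg11 yg40 zg22) (kg xg5 yg57 zg60) (kg xg6 yg7 zg50) (kg xg3 yg0 zg14) (kg xg5 yg8 zg6) (kg xg3 yg0 zg13) (kg xg4 yg59 zg13) (kg xg3 yg59 zg41) (kg xg4 yg59 zg11) (kg xg6 yg1 zg1) (kg xg5 yg54 zg40) (kg xg5 yg55 zg1) (kg xg4 yg58 zg18) (kg xg11 yg40 zg36) (kg xg11 yg40 zg38) (kg xg7 yg31 zg27) (kg xg5 yg57 zg44) (kg xg2 yg55 zg21) (kg xg11 yg40 zg43)) (@D3.rec (fun _ => Pt) (kg xg5 yg57 zg42) (kg xg11 yg40 zg47) (kg xg3 yg0 zg11) (kg xg9 yg48 zg3) (kg xg9 yg15 zg60) (kg xg4 yg46 zg38) (kg xg11 yg40 zg52) (kg xg3 yg0 zg42) (kg xg2 yg55 zg27) (kg xg11 yg40 zg60) (kg xg3 yg0 zg41)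 (kg xg11 yg41 zg0) (kg xg4 yg48 zg54) (kg xg11 yg40 zg56) (kg xg4 yg48 zg46) (kg xg9 yg17 zg9) (kg xg11 yg41 zg9) (kg xg2 yg55 zg30) (kg xg11 yg41 zg10) (kg xg4 yg24 zg21) (kg xg7 yg31 zg40) (kg xg9 yg22 zg11) (kg xg2 yg55 zg55) (kg xg2 yg55 zg31) (kg xg7 yg26 zg12) (kg xg9 yg29 zg57) (kg xg11 yg41 zg26) (kg xg9 yg17 zg13) (kg xg11 yg40 zg0) (kg xg6 yg32 zg20) (kg xg3 yg6 zg58) (kg xg6 yg32 zg18) (kg xg2 yg55 zg40) (kg xg4 yg7 zg18) (kg xg6 yg29 zg47) (kg xg11 yg41 zg33) (kg xg11 yg41 zg37) (kg xg9 yg8 zg44) (kg xg9 yg8 zg58) (kg xg7 yg35 zg60) (kg xg3 yg29 zg59) (kg xg11 yg41 zg48) (kg xg11 yg41 zg41) (kg xg2 yg55 zg47) (kg xg11 yg41 zg57) (kg xg11 yg41 zg39) (kg xg11 yg32 zg28) (kg xg11 yg20 zg31) (kg xg2 yg55 zg49) (kg xg11 yg8 zg9) (kg xg11 yg8 zg3) (kg xg11 yg42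 zg5) (kg xg6 yg29 zg54) (kg xg11 yg40 zg46) (kg xg2 yg55 zg52) (kg xg11 yg42 zg15) (kg xg5 yg56 zg53) (kg xg5 yg45 zg3) (kg xg9 yg7 zg1) (kg xg7 yg39 zg29) (kg xg11 yg35 zg20) (kg xg11 yg42 zg25)) (@D3.rec (fun _ => Pt) (kg xg11 yg42 zg27) (kg xg6 yg53 zg9) (kg xg2 yg55 zg56) (kg xg11 yg42 zg37) (kg xg11 yg41 zg27) (kg xg9 yg16 zg32) (kg xg5 yg33 zg43) (kg xg11 yg18 zg21) (kg xg2 yg55 zg58) (kg xg11 yg42 zg46) (kg xg6 yg7 zg6) (kg xg9 yg50 zg46) (kg xg11 yg42 zg55) (kg xg9 yg48 zg25) (kg xg3 yg0 zg12) (kg xg11 yg32 zg23) (kg xg2 yg56 zg0) (kg xg11 yg43 zg4) (kg xg11 yg43 zg8) (kg xg11 yg41 zg34) (kg xg11 yg40 zg5) (kg xg9 yg23 zg22) (kg xg11 yg43 zg17) (kg xg11 yg43 zg21) (kg xg2 yg56 zg45) (kg xg11 yg43 zg27) (kg xg2 yg56 zg43) (kg xg11 yg41 zg38) (kg xg11 yg26 zg12)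 (kg xg9 yg13 zg58) (kg xg7 yg43 zg22) (kg xg5 yg57 zg52) (kg xg9 yg29 zg58) (kg xg11 yg17 zg46) (kg xg3 yg22 zg60) (kg xg11 yg43 zg44) (kg xg9 yg25 zg26) (kg xg5 yg47 zg3) (kg xg5 yg48 zg49) (kg xg11 yg43 zg45) (kg xg2 yg56 zg10) (kg xg11 yg43 zg56) (kg xg9 yg13 zg0) (kg xg11 yg43 zg59) (kg xg9 yg30 zg26) (kg xg2 yg56 zg47) (kg xg9 yg30 zg0) (kg xg2 yg56 zg13) (kg xg9 yg29 zg61) (kg xg7 yg56 zg51) (kg xg11 yg44 zg7) (kg xg2 yg56 zg24) (kg xg2 yg56 zg14) (kg xg11 yg44 zg13) (kg xg2 yg56 zg15) (kg xg11 yg44 zg19) (kg xg6 yg54 zg6) (kg xg11 yg44 zg23) (kg xg2 yg56 zg33) (kg xg11 yg44 zg24) (kg xg9 yg30 zg49) (kg xg9 yg30 zg24))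
def f_g_6 : D2 → D3 → Pt := @D2.rec (fun _ => D3 → Pt) (@D3.rec (fun _ => Pt) (kg xg9 yg30 zg23) (kg xg3 yg29 zg60) (kg xg9 yg13 zg25) (kg xg11 yg44 zg34) (kg xg10 yg42 zg45) (kg xg11 yg44 zg33) (kg xg2 yg56 zg22) (kg xg11 yg44 zg32) (kg xg9 yg23 zg53) (kg xg9 yg21 zg55) (kg xg6 yg16 zg25) (kg xg11 yg44 zg48) (kg xg11 yg44 zg51) (kg xg9 yg30 zg6) (kg xg2 yg56 zg25) (kg xg11 yg45 zg0) (kg xg9 yg30 zg4) (kg xg9 yg25 zg53) (kg xg11 yg45 zg5) (kg xg9 yg30 zg32) (kg xg2 yg56 zg37) (kg xg11 yg45 zg6) (kg xg11 yg43 zg38) (kg xg9 yg29 zg55) (kg xg2 yg56 zg28) (kg xg11 yg45 zg14) (kg xg9 yg13 zg40) (kg xg9 yg25 zg46) (kg xg2 yg56 zg30) (kg xg9 yg25 zg45) (kg xg3 yg7 zg34) (kg xg11 yg45 zg22) (kg xg7 yg43 zg8) (kg xg2 yg56 zg36) (kg xg11 yg45 zg28) (kg xg11 yg45 zg31) (kg xg7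 yg43 zg7) (kg xg9 yg25 zg55) (kg xg2 yg56 zg34) (kg xg9 yg25 zg2) (kg xg2 yg57 zg1) (kg xg11 yg32 zg56) (kg xg11 yg45 zg41) (kg xg11 yg45 zg45) (kg xg11 yg45 zg49) (kg xg7 yg43 zg24) (kg xg11 yg45 zg52) (kg xg11 yg45 zg56) (kg xg11 yg45 zg60) (kg xg11 yg43 zg24) (kg xg2 yg56 zg41) (kg xg11 yg46 zg9) (kg xg11 yg43 zg22) (kg xg11 yg46 zg13) (kg xg11 yg46 zg16) (kg xg11 yg45 zg36) (kg xg9 yg5 zg28) (kg xg11 yg46 zg17) (kg xg11 yg43 zg30) (kg xg2 yg56 zg44) (kg xg11 yg46 zg33) (kg xg11 yg43 zg28)) (@D3.rec (fun _ => Pt) (kg xg11 yg40 zg10) (kg xg11 yg40 zg11) (kg xg4 yg59 zg52) (kg xg11 yg46 zg42) (kg xg11 yg45 zg13) (kg xg2 yg56 zg51) (kg xg11 yg46 zg48) (kg xg11 yg46 zg52) (kg xg11 yg44 zg61) (kg xg2 yg56 zg52) (kg xg2 yg56 zg48) (kg xg11 yg47 zg0) (kg xg9 yg18 zg1) (kg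 xg2 yg56 zg49) (kg xg5 yg58 zg9) (kg xg7 yg43 zg18) (kg xg2 yg56 zg50) (kg xg5 yg51 zg2) (kg xg5 yg48 zg17) (kg xg11 yg47 zg14) (kg xg9 yg24 zg34) (kg xg11 yg44 zg44) (kg xg11 yg46 zg53) (kg xg11 yg47 zg1) (kg xg11 yg14 zg35) (kg xg3 yg10 zg48) (kg xg2 yg56 zg54) (kg xg5 yg53 zg7) (kg xg11 yg47 zg30) (kg xg11 yg47 zg26) (kg xg11 yg47 zg36) (kg xg5 yg53 zg2) (kg xg11 yg47 zg42) (kg xg5 yg50 zg61) (kg xg11 yg47 zg38) (kg xg11 yg47 zg49) (kg xg11 yg16 zg38) (kg xg2 yg56 zg58) (kg xg11 yg47 zg58) (kg xg11 yg48 zg0) (kg xg7 yg44 zg24) (kg xg5 yg54 zg44) (kg xg2 yg57 zg5) (kg xg2 yg56 zg60) (kg xg11 yg0 zg50) (kg xg2 yg57 zg3) (kg xg11 yg47 zg18) (kg xg9 yg31 zg13) (kg xg11 yg33 zg22) (kg xg9 yg13 zg15) (kg xg4 yg45 zg6) (kg xg11 yg48 zg16) (kg xg9 yg30 zg15) (kg xg11 yg48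 zg19) (kg xg11 yg48 zg21) (kg xg9 yg11 zg9) (kg xg4 yg59 zg58) (kg xg11 yg48 zg22) (kg xg3 yg20 zg55) (kg xg11 yg0 zg48) (kg xg11 yg48 zg32) (kg xg11 yg0 zg21)) (@D3.rec (fun _ => Pt) (kg xg9 yg11 zg46) (kg xg11 yg48 zg38) (kg xg2 yg57 zg8) (kg xg2 yg57 zg7) (kg xg11 yg27 zg7) (kg xg5 yg38 zg31) (kg xg11 yg28 zg11) (kg xg3 yg2 zg37) (kg xg9 yg11 zg27) (kg xg5 yg57 zg18) (kg xg9 yg18 zg6) (kg xg9 yg19 zg54) (kg xg3 yg16 zg4) (kg xg10 yg37 zg39) (kg xg2 yg57 zg20) (kg xg2 yg57 zg13) (kg xg2 yg57 zg19) (kg xg11 yg48 zg56) (kg xg9 yg13 zg46) (kg xg3 yg20 zg44) (kg xg3 yg16 zg42) (kg xg4 yg59 zg24) (kg xg11 yg49 zg3) (kg xg11 yg48 zg53) (kg xg2 yg57 zg17) (kg xg11 yg49 zg11) (kg xg11 yg48 zg51) (kg xg11 yg49 zg14) (kg xg11 yg49 zg17) (kg xg9 yg31 zg31) (kg xg11 yg36 zg27)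 (kg xg6 yg11 zg58) (kg xg9 yg13 zg57) (kg xg2 yg57 zg24) (kg xg2 yg57 zg21) (kg xg3 yg17 zg44) (kg xg11 yg49 zg25) (kg xg9 yg12 zg27) (kg xg6 yg7 zg24) (kg xg10 yg18 zg32) (kg xg3 yg0 zg50) (kg xg5 yg45 zg59) (kg xg10 yg4 zg4) (kg xg10 yg17 zg17) (kg xg9 yg13 zg43) (kg xg2 yg57 zg28) (kg xg11 yg49 zg35) (kg xg4 yg39 zg15) (kg xg5 yg50 zg25) (kg xg5 yg34 zg49) (kg xg9 yg50 zg27) (kg xg9 yg14 zg3) (kg xg9 yg13 zg24) (kg xg9 yg14 zg1) (kg xg2 yg57 zg32) (kg xg11 yg49 zg48) (kg xg4 yg26 zg18) (kg xg9 yg13 zg16) (kg xg2 yg57 zg33) (kg xg5 yg54 zg30) (kg xg2 yg57 zg34) (kg xg6 yg32 zg41)) (@D3.rec (fun _ => Pt) (kg xg9 yg11 zg7) (kg xg8 yg0 zg59) (kg xg3 yg5 zg30) (kg xg4 yg33 zg50) (kg xg2 yg57 zg47) (kg xg2 yg57 zg37) (kg xg11 yg49 zg60) (kg xg3 yg0 zg47) (kg xg6 yg35 zg54)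 (kg xg9 yg12 zg55) (kg xg9 yg13 zg53) (kg xg2 yg57 zg43) (kg xg11 yg50 zg8) (kg xg9 yg13 zg47) (kg xg2 yg57 zg44) (kg xg11 yg50 zg16) (kg xg11 yg15 zg54) (kg xg9 yg13 zg14) (kg xg2 yg57 zg45) (kg xg11 yg50 zg24) (kg xg9 yg32 zg37) (kg xg11 yg50 zg26) (kg xg5 yg49 zg25) (kg xg11 yg21 zg9) (kg xg11 yg50 zg31) (kg xg9 yg8 zg7) (kg xg2 yg57 zg51) (kg xg10 yg47 zg8) (kg xg11 yg50 zg39) (kg xg9 yg1 zg2) (kg xg2 yg57 zg54) (kg xg11 yg50 zg43) (kg xg3 yg19 zg39) (kg xg9 yg14 zg9) (kg xg2 yg57 zg55) (kg xg6 yg2 zg47) (kg xg7 yg50 zg29) (kg xg11 yg50 zg48) (kg xg9 yg14 zg18) (kg xg2 yg57 zg57) (kg xg9 yg14 zg17) (kg xg11 yg50 zg52) (kg xg11 yg50 zg54) (kg xg11 yg50 zg57) (kg xg11 yg50 zg61) (kg xg9 yg14 zg25) (kg xg2 yg57 zg60) (kg xg9 yg14 zg24) (kg xg11 yg51 zg6) (kg xg5 yg33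 zg13) (kg xg7 yg50 zg19) (kg xg11 yg51 zg13) (kg xg9 yg14 zg32) (kg xg2 yg58 zg1) (kg xg9 yg14 zg31) (kg xg11 yg51 zg19) (kg xg11 yg51 zg3) (kg xg11 yg51 zg26) (kg xg11 yg51 zg15) (kg xg11 yg22 zg61) (kg xg2 yg58 zg4) (kg xg11 yg22 zg60)) (@D3.rec (fun _ => Pt) (kg xg11 yg51 zg37) (kg xg11 yg51 zg41) (kg xg9 yg6 zg48) (kg xg11 yg51 zg46) (kg xg10 yg35 zg35) (kg xg4 yg42 zg14) (kg xg9 yg14 zg41) (kg xg2 yg58 zg8) (kg xg5 yg50 zg18) (kg xg5 yg46 zg37) (kg xg5 yg47 zg9) (kg xg4 yg34 zg59) (kg xg11 yg51 zg56) (kg xg9 yg44 zg12) (kg xg5 yg48 zg12) (kg xg5 yg49 zg21) (kg xg4 yg10 zg37) (kg xg2 yg58 zg21) (kg xg9 yg46 zg5) (kg xg10 yg38 zg34) (kg xg4 yg16 zg42) (kg xg11 yg52 zg6) (kg xg11 yg52 zg10) (kg xg11 yg52 zg12) (kg xg11 yg52 zg13) (kg xg11 yg52 zg18) (kg xg5 yg23 zg20)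 (kg xg5 yg26 zg38) (kg xg2 yg58 zg49) (kg xg2 yg58 zg26) (kg xg11 yg52 zg30) (kg xg11 yg52 zg35) (kg xg2 yg58 zg46) (kg xg4 yg28 zg42) (kg xg5 yg10 zg15) (kg xg11 yg52 zg42) (kg xg8 yg13 zg17) (kg xg11 yg52 zg46) (kg xg2 yg58 zg37) (kg xg2 yg58 zg31) (kg xg11 yg52 zg52) (kg xg11 yg52 zg55) (kg xg5 yg24 zg50) (kg xg2 yg58 zg32) (kg xg5 yg24 zg48) (kg xg4 yg0 zg61) (kg xg5 yg36 zg10) (kg xg8 yg36 zg43) (kg xg8 yg13 zg19) (kg xg10 yg46 zg35) (kg xg11 yg53 zg1) (kg xg11 yg52 zg53) (kg xg11 yg53 zg6) (kg xg11 yg52 zg19) (kg xg2 yg58 zg38) (kg xg4 yg27 zg49) (kg xg4 yg6 zg42) (kg xg11 yg53 zg12) (kg xg2 yg58 zg43) (kg xg2 yg58 zg40) (kg xg11 yg53 zg18) (kg xg11 yg52 zg23)) (@D3.rec (fun _ => Pt) (kg xg2 yg58 zg41) (kg xg11 yg52 zg22) (kg xg11 yg53 zg26) (kg xg11 yg53 zg29)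 (kg xg10 yg37 zg14) (kg xg11 yg53 zg35) (kg xg5 yg23 zg18) (kg xg2 yg58 zg44) (kg xg5 yg23 zg16) (kg xg11 yg53 zg42) (kg xg11 yg53 zg46) (kg xg11 yg53 zg22) (kg xg11 yg53 zg50) (kg xg10 yg3 zg34) (kg xg11 yg53 zg39) (kg xg11 yg53 zg59) (kg xg2 yg58 zg47) (kg xg11 yg53 zg60) (kg xg11 yg54 zg7) (kg xg11 yg54 zg3) (kg xg8 yg14 zg0) (kg xg2 yg58 zg48) (kg xg8 yg13 zg61) (kg xg11 yg54 zg19) (kg xg11 yg52 zg36) (kg xg11 yg54 zg23) (kg xg4 yg27 zg41) (kg xg2 yg58 zg50) (kg xg4 yg7 zg58) (kg xg2 yg58 zg51) (kg xg11 yg54 zg34) (kg xg5 yg18 zg14) (kg xg11 yg54 zg39) (kg xg8 yg15 zg16) (kg xg2 yg58 zg52) (kg xg8 yg15 zg15) (kg xg9 yg32 zg15) (kg xg5 yg26 zg16) (kg xg2 yg58 zg54) (kg xg5 yg26 zg15) (kg xg11 yg54 zg52) (kg xg5 yg21 zg38) (kg xg5 yg5 zg38) (kg xg11 yg54 zg57) (kg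 xg4 yg6 zg26) (kg xg5 yg15 zg18) (kg xg4 yg14 zg55) (kg xg2 yg59 zg0) (kg xg6 yg45 zg48) (kg xg11 yg55 zg5) (kg xg11 yg55 zg8) (kg xg5 yg27 zg48) (kg xg4 yg29 zg6) (kg xg5 yg26 zg2) (kg xg2 yg59 zg2) (kg xg5 yg26 zg1) (kg xg11 yg55 zg17) (kg xg5 yg38 zg50) (kg xg5 yg28 zg45) (kg xg4 yg8 zg0) (kg xg9 yg31 zg3) (kg xg10 yg43 zg32)) (@D3.rec (fun _ => Pt) (kg xg11 yg55 zg26) (kg xg8 yg15 zg21) (kg xg2 yg59 zg8) (kg xg8 yg15 zg20) (kg xg5 yg26 zg51) (kg xg2 yg59 zg9) (kg xg5 yg26 zg50) (kg xg10 yg43 zg46) (kg xg11 yg55 zg42) (kg xg3 yg59 zg56) (kg xg4 yg35 zg8) (kg xg2 yg59 zg11) (kg xg5 yg36 zg24) (kg xg5 yg21 zg53) (kg xg4 yg11 zg40) (kg xg4 yg17 zg56) (kg xg4 yg14 zg57) (kg xg2 yg59 zg15) (kg xg9 yg31 zg42) (kg xg9 yg24 zg7) (kg xg7 yg38 zg13) (kg xg8 yg29 zg18) (kg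 xg2 yg59 zg16) (kg xg5 yg31 zg21) (kg xg5 yg26 zg32) (kg xg2 yg59 zg17) (kg xg5 yg26 zg31) (kg xg10 yg43 zg18) (kg xg4 yg30 zg48) (kg xg4 yg27 zg57) (kg xg5 yg27 zg0) (kg xg2 yg59 zg22) (kg xg5 yg26 zg61) (kg xg11 yg56 zg13) (kg xg9 yg30 zg29) (kg xg11 yg42 zg56) (kg xg9 yg12 zg28) (kg xg8 yg21 zg50) (kg xg5 yg26 zg55) (kg xg11 yg56 zg21) (kg xg2 yg59 zg28) (kg xg2 yg59 zg31) (kg xg11 yg56 zg26) (kg xg11 yg39 zg24) (kg xg11 yg56 zg27) (kg xg9 yg15 zg14) (kg xg9 yg15 zg15) (kg xg2 yg59 zg30) (kg xg11 yg56 zg37) (kg xg9 yg9 zg8) (kg xg11 yg56 zg42) (kg xg11 yg56 zg20) (kg xg5 yg50 zg44) (kg xg5 yg27 zg23) (kg xg2 yg59 zg34) (kg xg5 yg27 zg22) (kg xg5 yg34 zg58) (kg xg4 yg50 zg38) (kg xg2 yg59 zg36) (kg xg11 yg56 zg51) (kg xg9 yg33 zg41) (kg xg11 yg56 zg57)) (@D3.rec (fun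 _ => Pt) (kg xg8 yg27 zg22) (kg xg2 yg59 zg37) (kg xg8 yg27 zg21) (kg xg8 yg14 zg18) (kg xg2 yg59 zg38) (kg xg8 yg14 zg17) (kg xg5 yg58 zg28) (kg xg8 yg13 zg27) (kg xg4 yg5 zg13) (kg xg5 yg36 zg27) (kg xg2 yg59 zg44) (kg xg3 yg25 zg33) (kg xg11 yg57 zg13) (kg xg4 yg20 zg59) (kg xg11 yg57 zg19) (kg xg5 yg35 zg36) (kg xg4 yg31 zg19) (kg xg6 yg45 zg18) (kg xg4 yg49 zg24) (kg xg11 yg57 zg25) (kg xg6 yg7 zg49) (kg xg4 yg28 zg56) (kg xg11 yg57 zg28) (kg xg6 yg2 zg38) (kg xg2 yg59 zg52) (kg xg8 yg14 zg56) (kg xg4 yg5 zg54) (kg xg5 yg6 zg30) (kg xg10 yg5 zg47) (kg xg5 yg35 zg2) (kg xg6 yg16 zg0) (kg xg6 yg16 zg10) (kg xg4 yg20 zg4) (kg xg5 yg54 zg58) (kg xg6 yg14 zg35) (kg xg10 yg5 zg3) (kg xg6 yg16 zg8) (kg xg2 yg59 zg60) (kg xg10 yg5 zg4) (kg xg7 yg57 zg20) (kg xg3 yg0 zg0)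 (kg xg11 yg57 zg45) (kg xg11 yg38 zg8) (kg xg11 yg57 zg49) (kg xg11 yg57 zg51) (kg xg4 yg33 zg25) (kg xg5 yg50 zg12) (kg xg3 yg0 zg3) (kg xg8 yg59 zg41) (kg xg8 yg12 zg14) (kg xg5 yg6 zg59) (kg xg5 yg14 zg16) (kg xg5 yg57 zg45) (kg xg5 yg38 zg44) (kg xg5 yg54 zg49) (kg xg11 yg7 zg30) (kg xg9 yg48 zg1) (kg xg11 yg57 zg56) (kg xg4 yg35 zg13) (kg xg4 yg31 zg14) (kg xg9 yg47 zg23) (kg xg9 yg5 zg48)) (@D3.rec (fun _ => Pt) (kg xg10 yg18 zg45) (kg xg11 yg58 zg5) (kg xg3 yg0 zg15) (kg xg11 yg58 zg8) (kg xg7 yg27 zg28) (kg xg10 yg18 zg15) (kg xg3 yg23 zg44) (kg xg11 yg40 zg61) (kg xg3 yg0 zg16) (kg xg6 yg1 zg14) (kg xg11 yg58 zg19) (kg xg8 yg12 zg4) (kg xg3 yg0 zg20) (kg xg6 yg2 zg39) (kg xg8 yg12 zg3) (kg xg9 yg10 zg17) (kg xg11 yg36 zg13) (kg xg6 yg22 zg4) (kg xg3 yg0 zg22)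 (kg xg5 yg27 zg14) (kg xg3 yg0 zg23) (kg xg5 yg27 zg16) (kg xg11 yg58 zg32) (kg xg5 yg50 zg46) (kg xg5 yg55 zg14) (kg xg4 yg34 zg41) (kg xg11 yg34 zg52) (kg xg11 yg28 zg40) (kg xg5 yg13 zg29) (kg xg9 yg15 zg21) (kg xg9 yg15 zg19) (kg xg3 yg0 zg28) (kg xg4 yg41 zg32) (kg xg5 yg43 zg54) (kg xg5 yg49 zg47) (kg xg11 yg39 zg50) (kg xg11 yg58 zg42) (kg xg4 yg59 zg43) (kg xg11 yg58 zg46) (kg xg11 yg40 zg55) (kg xg3 yg0 zg39) (kg xg3 yg51 zg3) (kg xg11 yg40 zg53) (kg xg11 yg38 zg27) (kg xg11 yg41 zg5) (kg xg11 yg45 zg10) (kg xg6 yg50 zg6) (kg xg9 yg5 zg47) (kg xg11 yg40 zg9) (kg xg11 yg47 zg5) (kg xg11 yg39 zg56) (kg xg5 yg49 zg49) (kg xg5 yg41 zg0) (kg xg9 yg45 zg29) (kg xg11 yg35 zg3) (kg xg8 yg0 zg35) (kg xg9 yg8 zg39) (kg xg10 yg6 zg61) (kg xg9 yg7 zg24) (kg xg11 yg59 zg10)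 (kg xg11 yg39 zg1) (kg xg5 yg0 zg12)) (@D3.rec (fun _ => Pt) (kg xg10 yg4 zg6) (kg xg5 yg41 zg61) (kg xg6 yg16 zg17) (kg xg9 yg0 zg11) (kg xg11 yg59 zg14) (kg xg4 yg23 zg55) (kg xg9 yg0 zg14) (kg xg11 yg59 zg19) (kg xg11 yg59 zg21) (kg xg5 yg40 zg8) (kg xg11 yg59 zg26) (kg xg4 yg25 zg33) (kg xg3 yg0 zg59) (kg xg11 yg59 zg34) (kg xg4 yg25 zg31) (kg xg4 yg25 zg37) (kg xg8 yg47 zg32) (kg xg4 yg25 zg35) (kg xg7 yg20 zg11) (kg xg6 yg26 zg10) (kg xg7 yg25 zg42) (kg xg3 yg24 zg25) (kg xg3 yg31 zg54) (kg xg7 yg25 zg43) (kg xg6 yg24 zg17) (kg xg7 yg25 zg46) (kg xg11 yg59 zg52) (kg xg11 yg59 zg56) (kg xg9 yg33 zg5) (kg xg3 yg1 zg11) (kg xg9 yg33 zg4) (kg xg12 yg0 zg3) (kg xg4 yg11 zg37) (kg xg8 yg23 zg31) (kg xg6 yg48 zg16) (kg xg4 yg11 zg56) (kg xg6 yg33 zg4) (kg xg12 yg0 zg12)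 (kg xg12 yg0 zg16) (kg xg6 yg18 zg2) (kg xg7 yg48 zg45) (kg xg6 yg32 zg61) (kg xg3 yg1 zg20) (kg xg12 yg0 zg24) (kg xg12 yg0 zg28) (kg xg6 yg48 zg24) (kg xg3 yg1 zg21) (kg xg6 yg48 zg23) (kg xg12 yg0 zg36) (kg xg10 yg14 zg33) (kg xg3 yg2 zg22) (kg xg3 yg1 zg23) (kg xg6 yg36 zg19) (kg xg3 yg2 zg24) (kg xg3 yg18 zg54) (kg xg6 yg58 zg61) (kg xg6 yg19 zg16) (kg xg6 yg11 zg44) (kg xg3 yg1 zg30) (kg xg3 yg6 zg38) (kg xg3 yg14 zg41) (kg xg3 yg28 zg58)) (@D3.rec (fun _ => Pt) (kg xg3 yg18 zg52) (kg xg12 yg0 zg52) (kg xg12 yg0 zg57) (kg xg6 yg26 zg15) (kg xg6 yg11 zg45) (kg xg3 yg1 zg41) (kg xg12 yg1 zg1) (kg xg12 yg1 zg5) (kg xg9 yg9 zg57) (kg xg3 yg1 zg42) (kg xg12 yg0 zg37) (kg xg6 yg35 zg44) (kg xg12 yg1 zg17) (kg xg6 yg29 zg10) (kg xg3 yg1 zg44) (kg xg3 yg2 zg11) (kg xg6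 yg25 zg40) (kg xg7 yg31 zg25) (kg xg6 yg40 zg55) (kg xg3 yg14 zg32) (kg xg3 yg14 zg58) (kg xg3 yg15 zg29) (kg xg6 yg37 zg16) (kg xg12 yg1 zg29) (kg xg3 yg22 zg40) (kg xg7 yg32 zg58) (kg xg3 yg14 zg17) (kg xg12 yg1 zg32) (kg xg3 yg1 zg53) (kg xg3 yg15 zg52) (kg xg3 yg1 zg54) (kg xg3 yg15 zg51) (kg xg11 yg48 zg57) (kg xg12 yg1 zg39) (kg xg7 yg34 zg22) (kg xg12 yg1 zg45) (kg xg3 yg15 zg40) (kg xg3 yg2 zg2) (kg xg12 yg1 zg26) (kg xg3 yg45 zg31) (kg xg3 yg1 zg59) (kg xg3 yg45 zg30) (kg xg3 yg50 zg0) (kg xg6 yg0 zg30) (kg xg11 yg37 zg43) (kg xg12 yg1 zg58) (kg xg9 yg20 zg59) (kg xg12 yg2 zg1) (kg xg12 yg2 zg3) (kg xg12 yg2 zg7) (kg xg3 yg14 zg30) (kg xg10 yg18 zg61) (kg xg9 yg10 zg11) (kg xg12 yg2 zg10) (kg xg9 yg9 zg7) (kg xg4 yg38 zg5) (kg xg12 yg2 zg14) (kg xg3 yg13 zg55)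 (kg xg12 yg2 zg18) (kg xg12 yg2 zg16) (kg xg3 yg2 zg7) (kg xg5 yg4 zg28)) (@D3.rec (fun _ => Pt) (kg xg10 yg18 zg57) (kg xg12 yg1 zg20) (kg xg3 yg2 zg8) (kg xg12 yg2 zg32) (kg xg12 yg1 zg19) (kg xg6 yg28 zg39) (kg xg10 yg12 zg57) (kg xg3 yg45 zg22) (kg xg12 yg1 zg51) (kg xg3 yg13 zg25) (kg xg12 yg2 zg40) (kg xg10 yg22 zg55) (kg xg12 yg0 zg39) (kg xg12 yg0 zg41) (kg xg3 yg2 zg14) (kg xg12 yg2 zg44) (kg xg3 yg2 zg20) (kg xg6 yg29 zg27) (kg xg3 yg15 zg44) (kg xg3 yg2 zg19) (kg xg12 yg2 zg54) (kg xg6 yg29 zg56) (kg xg3 yg2 zg17) (kg xg3 yg15 zg11) (kg xg12 yg1 zg25) (kg xg3 yg2 zg18) (kg xg3 yg13 zg52) (kg xg3 yg7 zg14) (kg xg6 yg25 zg43) (kg xg12 yg1 zg35) (kg xg10 yg10 zg33) (kg xg12 yg3 zg2) (kg xg6 yg29 zg17) (kg xg9 yg21 zg11) (kg xg3 yg16 zg57) (kg xg3 yg15 zg6) (kg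 xg6 yg36 zg36) (kg xg7 yg31 zg32) (kg xg8 yg34 zg10) (kg xg3 yg15 zg45) (kg xg3 yg15 zg32) (kg xg9 yg29 zg46) (kg xg6 yg38 zg6) (kg xg12 yg3 zg17) (kg xg6 yg9 zg39) (kg xg6 yg10 zg5) (kg xg3 yg15 zg13) (kg xg3 yg2 zg28) (kg xg12 yg3 zg26) (kg xg6 yg59 zg40) (kg xg3 yg2 zg33) (kg xg3 yg2 zg29) (kg xg3 yg2 zg31) (kg xg12 yg3 zg33) (kg xg9 yg10 zg46) (kg xg4 yg34 zg42) (kg xg9 yg10 zg1) (kg xg12 yg3 zg34) (kg xg6 yg2 zg28) (kg xg11 yg15 zg58) (kg xg3 yg2 zg32) (kg xg12 yg3 zg42)) (@D3.rec (fun _ => Pt) (kg xg6 yg44 zg60) (kg xg11 yg38 zg43) (kg xg12 yg3 zg48) (kg xg3 yg2 zg35) (kg xg12 yg3 zg52) (kg xg11 yg48 zg10) (kg xg12 yg3 zg53) (kg xg10 yg44 zg61) (kg xg11 yg14 zg25) (kg xg6 yg51 zg18) (kg xg11 yg14 zg50) (kg xg6 yg15 zg49) (kg xg5 yg51 zg49) (kg xg12 yg4 zg4) (kg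 xg3 yg21 zg10) (kg xg3 yg2 zg41) (kg xg12 yg4 zg10) (kg xg11 yg14 zg57) (kg xg7 yg27 zg14) (kg xg3 yg14 zg23) (kg xg7 yg27 zg17) (kg xg8 yg14 zg58) (kg xg10 yg52 zg18) (kg xg5 yg58 zg32) (kg xg3 yg14 zg20) (kg xg12 yg4 zg15) (kg xg3 yg2 zg47) (kg xg12 yg4 zg14) (kg xg12 yg4 zg23) (kg xg10 yg48 zg37) (kg xg3 yg2 zg49) (kg xg11 yg48 zg45) (kg xg5 yg40 zg48) (kg xg9 yg21 zg6) (kg xg3 yg15 zg2) (kg xg3 yg2 zg58) (kg xg9 yg6 zg22) (kg xg9 yg23 zg55) (kg xg9 yg22 zg10) (kg xg9 yg24 zg21) (kg xg12 yg4 zg37) (kg xg11 yg30 zg24) (kg xg12 yg3 zg51) (kg xg11 yg55 zg45) (kg xg8 yg14 zg37) (kg xg4 yg42 zg9) (kg xg6 yg17 zg57) (kg xg8 yg24 zg53) (kg xg6 yg22 zg10) (kg xg3 yg15 zg1) (kg xg3 yg19 zg24) (kg xg6 yg43 zg42) (kg xg6 yg27 zg14) (kg xg7 yg27 zg7) (kg xg6 yg27 zg49) (kg xg4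 yg43 zg1) (kg xg3 yg14 zg55) (kg xg3 yg6 zg46) (kg xg6 yg48 zg42) (kg xg6 yg17 zg60) (kg xg3 yg3 zg13) (kg xg12 yg4 zg54)) (@D3.rec (fun _ => Pt) (kg xg12 yg4 zg58) (kg xg3 yg22 zg34) (kg xg3 yg3 zg14) (kg xg3 yg22 zg33) (kg xg12 yg5 zg3) (kg xg8 yg48 zg28) (kg xg6 yg15 zg2) (kg xg12 yg5 zg6) (kg xg4 yg23 zg44) (kg xg3 yg3 zg20) (kg xg12 yg5 zg16) (kg xg4 yg26 zg60) (kg xg12 yg5 zg20) (kg xg8 yg46 zg1) (kg xg9 yg19 zg46) (kg xg4 yg35 zg55) (kg xg5 yg56 zg9) (kg xg3 yg3 zg31) (kg xg12 yg5 zg27) (kg xg3 yg3 zg29) (kg xg4 yg36 zg23) (kg xg11 yg27 zg33) (kg xg5 yg50 zg57) (kg xg4 yg36 zg21) (kg xg5 yg52 zg35) (kg xg12 yg5 zg30) (kg xg3 yg3 zg30) (kg xg11 yg32 zg31) (kg xg12 yg5 zg28) (kg xg12 yg5 zg47) (kg xg11 yg10 zg41) (kg xg4 yg23 zg52) (kg xg7 yg27 zg44) (kg xg12 yg5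 zg52) (kg xg8 yg2 zg33) (kg xg3 yg3 zg38) (kg xg12 yg5 zg60) (kg xg4 yg26 zg48) (kg xg8 yg2 zg3) (kg xg3 yg3 zg39) (kg xg12 yg5 zg12) (kg xg8 yg2 zg41) (kg xg5 yg47 zg22) (kg xg4 yg0 zg37) (kg xg12 yg6 zg10) (kg xg6 yg14 zg8) (kg xg3 yg33 zg42) (kg xg4 yg1 zg23) (kg xg4 yg25 zg18) (kg xg4 yg26 zg28) (kg xg3 yg3 zg45) (kg xg12 yg6 zg20) (kg xg3 yg4 zg23) (kg xg3 yg3 zg46) (kg xg3 yg4 zg21) (kg xg7 yg25 zg10) (kg xg12 yg6 zg26) (kg xg8 yg45 zg32) (kg xg3 yg3 zg50) (kg xg10 yg1 zg51) (kg xg8 yg45 zg30) (kg xg8 yg5 zg25)) (@D3.rec (fun _ => Pt) (kg xg3 yg3 zg51) (kg xg12 yg6 zg39) (kg xg4 yg22 zg60) (kg xg12 yg6 zg12) (kg xg5 yg40 zg60) (kg xg3 yg4 zg28) (kg xg4 yg23 zg1) (kg xg11 yg13 zg26) (kg xg11 yg23 zg0) (kg xg3 yg4 zg35) (kg xg3 yg3 zg60) (kg xg12 yg6 zg50) (kg xg8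 yg45 zg37) (kg xg3 yg3 zg61) (kg xg8 yg45 zg36) (kg xg4 yg36 zg44) (kg xg4 yg56 zg35) (kg xg7 yg59 zg57) (kg xg12 yg7 zg0) (kg xg3 yg4 zg3) (kg xg4 yg32 zg33) (kg xg3 yg58 zg52) (kg xg5 yg46 zg35) (kg xg3 yg4 zg4) (kg xg12 yg7 zg9) (kg xg5 yg46 zg33) (kg xg5 yg46 zg43) (kg xg12 yg7 zg13) (kg xg5 yg46 zg41) (kg xg6 yg40 zg31) (kg xg4 yg19 zg19) (kg xg7 yg56 zg23) (kg xg5 yg37 zg42) (kg xg9 yg48 zg9) (kg xg9 yg14 zg52) (kg xg3 yg4 zg11) (kg xg7 yg57 zg6) (kg xg4 yg44 zg49) (kg xg12 yg7 zg29) (kg xg3 yg4 zg13) (kg xg4 yg45 zg40) (kg xg12 yg7 zg34) (kg xg12 yg7 zg31) (kg xg3 yg4 zg15) (kg xg12 yg7 zg46) (kg xg12 yg7 zg30) (kg xg5 yg46 zg23) (kg xg7 yg8 zg21) (kg xg9 yg51 zg20) (kg xg12 yg7 zg51) (kg xg7 yg49 zg9) (kg xg4 yg26 zg50) (kg xg4 yg26 zg12) (kg xg12 yg7 zg55)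 (kg xg12 yg8 zg5) (kg xg7 yg19 zg9) (kg xg3 yg4 zg22) (kg xg12 yg8 zg14) (kg xg7 yg19 zg8) (kg xg7 yg6 zg34) (kg xg3 yg4 zg26) (kg xg7 yg6 zg20)) (@D3.rec (fun _ => Pt) (kg xg10 yg1 zg29) (kg xg12 yg8 zg23) (kg xg6 yg13 zg7) (kg xg7 yg11 zg51) (kg xg7 yg18 zg47) (kg xg12 yg8 zg29) (kg xg7 yg20 zg20) (kg xg12 yg8 zg32) (kg xg7 yg15 zg11) (kg xg7 yg6 zg21) (kg xg8 yg5 zg7) (kg xg3 yg34 zg5) (kg xg4 yg27 zg5) (kg xg4 yg27 zg6) (kg xg12 yg8 zg42) (kg xg8 yg1 zg7) (kg xg8 yg1 zg4) (kg xg5 yg53 zg41) (kg xg5 yg48 zg38) (kg xg5 yg56 zg3) (kg xg6 yg16 zg15) (kg xg4 yg34 zg8) (kg xg3 yg4 zg50) (kg xg3 yg4 zg46) (kg xg9 yg45 zg32) (kg xg3 yg4 zg48) (kg xg7 yg59 zg7) (kg xg11 yg13 zg21) (kg xg5 yg49 zg11) (kg xg5 yg37 zg61) (kg xg6 yg24 zg32) (kg xg5 yg40 zg1) (kg xg3 yg4 zg49)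 (kg xg4 yg32 zg37) (kg xg12 yg8 zg60) (kg xg12 yg9 zg1) (kg xg4 yg31 zg42) (kg xg5 yg43 zg39) (kg xg4 yg36 zg38) (kg xg3 yg5 zg5) (kg xg3 yg4 zg57) (kg xg5 yg53 zg51) (kg xg12 yg9 zg10) (kg xg12 yg9 zg14) (kg xg8 yg12 zg22) (kg xg3 yg5 zg7) (kg xg3 yg4 zg59) (kg xg10 yg43 zg26) (kg xg5 yg54 zg39) (kg xg12 yg9 zg21) (kg xg5 yg54 zg37) (kg xg3 yg5 zg22) (kg xg5 yg41 zg49) (kg xg11 yg6 zg53) (kg xg4 yg32 zg51) (kg xg3 yg59 zg32) (kg xg8 yg4 zg61) (kg xg3 yg59 zg34) (kg xg6 yg8 zg22) (kg xg4 yg36 zg8) (kg xg12 yg9 zg35) (kg xg6 yg7 zg30)) (@D3.rec (fun _ => Pt) (kg xg3 yg5 zg6) (kg xg10 yg17 zg57) (kg xg8 yg5 zg4) (kg xg6 yg50 zg19) (kg xg12 yg9 zg44) (kg xg3 yg5 zg8) (kg xg6 yg8 zg26) (kg xg4 yg40 zg6) (kg xg6 yg7 zg37) (kg xg4 yg56 zg43) (kg xg3 yg5 zg10) (kg xg5 yg51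 zg43) (kg xg4 yg5 zg41) (kg xg4 yg32 zg41) (kg xg4 yg5 zg45) (kg xg6 yg16 zg60) (kg xg11 yg28 zg3) (kg xg9 yg51 zg22) (kg xg3 yg5 zg26) (kg xg5 yg49 zg28) (kg xg3 yg5 zg24) (kg xg5 yg43 zg44) (kg xg6 yg7 zg55) (kg xg11 yg27 zg40) (kg xg3 yg5 zg21) (kg xg11 yg27 zg34) (kg xg4 yg36 zg3) (kg xg4 yg56 zg42) (kg xg8 yg12 zg30) (kg xg6 yg0 zg10) (kg xg11 yg28 zg21) (kg xg4 yg39 zg17) (kg xg6 yg9 zg2) (kg xg11 yg28 zg12) (kg xg11 yg24 zg41) (kg xg11 yg0 zg12) (kg xg11 yg27 zg31) (kg xg11 yg49 zg57) (kg xg12 yg9 zg58) (kg xg3 yg5 zg25) (kg xg12 yg10 zg23) (kg xg12 yg10 zg27) (kg xg12 yg9 zg57) (kg xg12 yg10 zg30) (kg xg9 yg49 zg56) (kg xg10 yg58 zg9) (kg xg3 yg5 zg28) (kg xg9 yg17 zg60) (kg xg11 yg27 zg25) (kg xg6 yg32 zg25) (kg xg12 yg10 zg35) (kg xg12 yg10 zg38) (kg xg3 yg5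 zg32) (kg xg12 yg10 zg39) (kg xg9 yg15 zg1) (kg xg9 yg12 zg24) (kg xg12 yg10 zg49) (kg xg11 yg14 zg28) (kg xg9 yg13 zg13) (kg xg3 yg5 zg35) (kg xg3 yg49 zg7) (kg xg5 yg49 zg27)) (@D3.rec (fun _ => Pt) (kg xg5 yg49 zg14) (kg xg4 yg5 zg57) (kg xg5 yg49 zg10) (kg xg3 yg5 zg40) (kg xg11 yg28 zg9) (kg xg5 yg38 zg36) (kg xg3 yg5 zg41) (kg xg4 yg34 zg10) (kg xg5 yg49 zg5) (kg xg8 yg14 zg49) (kg xg5 yg49 zg3) (kg xg12 yg11 zg2) (kg xg11 yg51 zg53) (kg xg3 yg5 zg45) (kg xg5 yg47 zg24) (kg xg4 yg43 zg58) (kg xg3 yg7 zg5) (kg xg6 yg19 zg43) (kg xg4 yg43 zg0) (kg xg12 yg11 zg6) (kg xg12 yg11 zg9) (kg xg12 yg11 zg12) (kg xg3 yg5 zg54) (kg xg3 yg5 zg59) (kg xg4 yg47 zg40) (kg xg12 yg11 zg19) (kg xg12 yg11 zg15) (kg xg3 yg5 zg57) (kg xg12 yg11 zg27) (kg xg12 yg11 zg13) (kg xg6 yg31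 zg33) (kg xg12 yg11 zg32) (kg xg4 yg47 zg58) (kg xg4 yg44 zg45) (kg xg4 yg47 zg55) (kg xg6 yg32 zg34) (kg xg12 yg11 zg38) (kg xg9 yg15 zg46) (kg xg9 yg15 zg56) (kg xg8 yg21 zg42) (kg xg6 yg20 zg59) (kg xg8 yg22 zg23) (kg xg4 yg44 zg31) (kg xg3 yg6 zg3) (kg xg8 yg31 zg40) (kg xg12 yg11 zg55) (kg xg6 yg33 zg31) (kg xg4 yg45 zg54) (kg xg9 yg18 zg18) (kg xg3 yg43 zg22) (kg xg12 yg12 zg1) (kg xg6 yg32 zg23) (kg xg6 yg44 zg2) (kg xg6 yg18 zg55) (kg xg3 yg43 zg14) (kg xg3 yg11 zg45) (kg xg9 yg33 zg7) (kg xg3 yg6 zg11) (kg xg12 yg12 zg7) (kg xg12 yg12 zg11) (kg xg6 yg12 zg60) (kg xg4 yg50 zg29)) (@D3.rec (fun _ => Pt) (kg xg3 yg6 zg13) (kg xg4 yg50 zg28) (kg xg6 yg9 zg57) (kg xg3 yg6 zg16) (kg xg6 yg33 zg20) (kg xg3 yg15 zg8) (kg xg9 yg20 zg20) (kg xg12 yg12 zg22) (kg xg12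 yg12 zg25) (kg xg6 yg33 zg37) (kg xg12 yg12 zg29) (kg xg3 yg8 zg48) (kg xg12 yg12 zg31) (kg xg12 yg12 zg34) (kg xg6 yg29 zg22) (kg xg12 yg1 zg28) (kg xg3 yg6 zg33) (kg xg3 yg6 zg24) (kg xg6 yg49 zg44) (kg xg3 yg6 zg31) (kg xg6 yg27 zg56) (kg xg8 yg48 zg20) (kg xg6 yg32 zg49) (kg xg12 yg12 zg46) (kg xg6 yg21 zg5) (kg xg6 yg18 zg26) (kg xg3 yg16 zg32) (kg xg12 yg12 zg55) (kg xg3 yg6 zg29) (kg xg6 yg35 zg20) (kg xg12 yg3 zg4) (kg xg6 yg28 zg37) (kg xg12 yg13 zg0) (kg xg12 yg13 zg3) (kg xg3 yg25 zg0) (kg xg6 yg33 zg38) (kg xg6 yg27 zg11) (kg xg6 yg30 zg1) (kg xg3 yg6 zg32) (kg xg6 yg35 zg25) (kg xg6 yg59 zg8) (kg xg12 yg0 zg17) (kg xg12 yg13 zg15) (kg xg12 yg0 zg45) (kg xg4 yg43 zg33) (kg xg6 yg32 zg52) (kg xg6 yg27 zg50) (kg xg12 yg13 zg23) (kg xg12 yg13 zg27) (kg xg6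 yg42 zg56) (kg xg4 yg43 zg55) (kg xg6 yg29 zg15) (kg xg6 yg27 zg19) (kg xg12 yg13 zg33) (kg xg12 yg4 zg45) (kg xg6 yg17 zg55) (kg xg6 yg27 zg61) (kg xg3 yg6 zg48) (kg xg6 yg27 zg60) (kg xg12 yg13 zg44) (kg xg6 yg59 zg4) (kg xg12 yg13 zg48)) (@D3.rec (fun _ => Pt) (kg xg10 yg6 zg39) (kg xg3 yg6 zg57) (kg xg6 yg52 zg45) (kg xg6 yg30 zg9) (kg xg6 yg9 zg31) (kg xg3 yg10 zg30) (kg xg6 yg30 zg31) (kg xg6 yg28 zg58) (kg xg6 yg28 zg16) (kg xg7 yg31 zg12) (kg xg3 yg7 zg0) (kg xg8 yg35 zg42) (kg xg6 yg29 zg46) (kg xg6 yg20 zg52) (kg xg4 yg43 zg59) (kg xg3 yg22 zg23) (kg xg6 yg9 zg60) (kg xg4 yg43 zg21) (kg xg5 yg56 zg35) (kg xg6 yg28 zg46) (kg xg3 yg7 zg7) (kg xg12 yg14 zg4) (kg xg6 yg28 zg44) (kg xg6 yg29 zg2) (kg xg9 yg21 zg59) (kg xg3 yg7 zg11) (kg xg9 yg21 zg58) (kg xg3 yg7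 zg12) (kg xg12 yg14 zg9) (kg xg6 yg27 zg48) (kg xg6 yg28 zg27) (kg xg6 yg23 zg4) (kg xg6 yg28 zg26) (kg xg4 yg43 zg56) (kg xg9 yg12 zg47) (kg xg3 yg7 zg17) (kg xg9 yg23 zg16) (kg xg12 yg14 zg21) (kg xg9 yg12 zg18) (kg xg3 yg7 zg51) (kg xg3 yg7 zg19) (kg xg12 yg14 zg28) (kg xg3 yg7 zg49) (kg xg8 yg35 zg41) (kg xg8 yg34 zg45) (kg xg5 yg30 zg57) (kg xg6 yg49 zg31) (kg xg6 yg35 zg12) (kg xg9 yg15 zg51) (kg xg12 yg14 zg31) (kg xg9 yg7 zg12) (kg xg3 yg7 zg53) (kg xg6 yg37 zg31) (kg xg12 yg14 zg36) (kg xg6 yg20 zg51) (kg xg3 yg7 zg30) (kg xg6 yg49 zg6) (kg xg12 yg14 zg38) (kg xg4 yg40 zg27) (kg xg3 yg21 zg46) (kg xg7 yg21 zg5) (kg xg6 yg10 zg43)) (@D3.rec (fun _ => Pt) (kg xg12 yg14 zg45) (kg xg12 yg14 zg48) (kg xg6 yg40 zg60) (kg xg12 yg14 zg51) (kg xg6 yg40 zg58) (kg xg3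 yg7 zg44) (kg xg3 yg7 zg55) (kg xg9 yg10 zg37) (kg xg3 yg7 zg39) (kg xg9 yg19 zg58) (kg xg6 yg51 zg1) (kg xg3 yg15 zg30) (kg xg12 yg15 zg0) (kg xg12 yg15 zg3) (kg xg12 yg4 zg8) (kg xg9 yg9 zg21) (kg xg3 yg7 zg42) (kg xg5 yg7 zg47) (kg xg12 yg15 zg12) (kg xg12 yg15 zg14) (kg xg6 yg49 zg7) (kg xg3 yg16 zg40) (kg xg12 yg15 zg18) (kg xg6 yg17 zg59) (kg xg12 yg14 zg25) (kg xg3 yg7 zg47) (kg xg12 yg15 zg25) (kg xg12 yg14 zg23) (kg xg12 yg15 zg27) (kg xg4 yg17 zg53) (kg xg12 yg14 zg55) (kg xg12 yg15 zg9) (kg xg9 yg32 zg35) (kg xg11 yg10 zg40) (kg xg3 yg7 zg50) (kg xg6 yg29 zg1) (kg xg6 yg59 zg1) (kg xg6 yg59 zg3) (kg xg4 yg47 zg53) (kg xg12 yg15 zg40) (kg xg6 yg50 zg49) (kg xg3 yg7 zg57) (kg xg12 yg15 zg44) (kg xg6 yg41 zg0) (kg xg3 yg7 zg56) (kg xg6 yg17 zg17) (kg xg4 yg45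 zg2) (kg xg12 yg15 zg48) (kg xg12 yg14 zg44) (kg xg6 yg45 zg53) (kg xg4 yg11 zg51) (kg xg6 yg19 zg55) (kg xg3 yg53 zg35) (kg xg3 yg8 zg0) (kg xg4 yg47 zg33) (kg xg4 yg47 zg34) (kg xg12 yg15 zg60) (kg xg3 yg11 zg5) (kg xg3 yg8 zg8) (kg xg6 yg17 zg19) (kg xg12 yg16 zg3) (kg xg4 yg43 zg20)) (@D3.rec (fun _ => Pt) (kg xg3 yg8 zg10) (kg xg4 yg53 zg30) (kg xg3 yg8 zg11) (kg xg4 yg53 zg34) (kg xg12 yg16 zg8) (kg xg6 yg10 zg24) (kg xg12 yg16 zg11) (kg xg12 yg16 zg14) (kg xg3 yg15 zg17) (kg xg12 yg16 zg18) (kg xg12 yg16 zg22) (kg xg6 yg43 zg31) (kg xg3 yg17 zg20) (kg xg6 yg59 zg27) (kg xg6 yg59 zg25) (kg xg3 yg8 zg18) (kg xg12 yg16 zg34) (kg xg12 yg16 zg12) (kg xg6 yg23 zg51) (kg xg12 yg16 zg39) (kg xg6 yg40 zg16) (kg xg4 yg50 zg14) (kg xg9 yg28 zg46) (kg xg6 yg58 zg59) (kg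 xg6 yg36 zg29) (kg xg9 yg18 zg38) (kg xg6 yg36 zg27) (kg xg11 yg45 zg17) (kg xg9 yg49 zg52) (kg xg6 yg41 zg10) (kg xg9 yg18 zg35) (kg xg3 yg8 zg27) (kg xg12 yg16 zg59) (kg xg3 yg53 zg37) (kg xg6 yg29 zg52) (kg xg3 yg8 zg28) (kg xg4 yg59 zg36) (kg xg4 yg59 zg38) (kg xg12 yg17 zg7) (kg xg10 yg57 zg18) (kg xg3 yg8 zg43) (kg xg3 yg8 zg30) (kg xg3 yg19 zg29) (kg xg3 yg19 zg27) (kg xg3 yg8 zg45) (kg xg3 yg8 zg34) (kg xg12 yg17 zg15) (kg xg6 yg43 zg8) (kg xg4 yg50 zg9) (kg xg6 yg49 zg51) (kg xg3 yg8 zg51) (kg xg4 yg45 zg29) (kg xg9 yg18 zg29) (kg xg3 yg42 zg3) (kg xg3 yg8 zg39) (kg xg6 yg50 zg24) (kg xg5 yg51 zg38) (kg xg6 yg49 zg55) (kg xg3 yg8 zg40) (kg xg12 yg12 zg2) (kg xg12 yg17 zg40) (kg xg3 yg8 zg41)) (@D3.rec (fun _ => Pt) (kg xg12 yg16 zg57) (kg xg3 yg8 zg42) (kg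 xg3 yg59 zg46) (kg xg6 yg50 zg30) (kg xg6 yg8 zg18) (kg xg5 yg0 zg15) (kg xg5 yg51 zg40) (kg xg12 yg17 zg49) (kg xg4 yg48 zg10) (kg xg6 yg44 zg12) (kg xg6 yg12 zg52) (kg xg7 yg31 zg34) (kg xg8 yg34 zg25) (kg xg5 yg44 zg45) (kg xg12 yg17 zg60) (kg xg6 yg27 zg35) (kg xg12 yg4 zg49) (kg xg12 yg18 zg1) (kg xg12 yg4 zg41) (kg xg12 yg18 zg5) (kg xg12 yg18 zg9) (kg xg6 yg48 zg55) (kg xg12 yg18 zg10) (kg xg9 yg36 zg35) (kg xg3 yg8 zg55) (kg xg9 yg36 zg44) (kg xg12 yg18 zg21) (kg xg9 yg18 zg51) (kg xg3 yg8 zg56) (kg xg6 yg3 zg35) (kg xg12 yg18 zg29) (kg xg6 yg4 zg5) (kg xg6 yg41 zg30) (kg xg7 yg11 zg40) (kg xg8 yg25 zg0) (kg xg9 yg18 zg55) (kg xg3 yg8 zg61) (kg xg12 yg18 zg42) (kg xg12 yg13 zg22) (kg xg9 yg19 zg2) (kg xg3 yg9 zg1) (kg xg9 yg19 zg1) (kg xg12 yg18 zg55) (kg xg3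 yg9 zg2) (kg xg3 yg9 zg37) (kg xg6 yg53 zg4) (kg xg8 yg35 zg20) (kg xg6 yg57 zg57) (kg xg12 yg19 zg2) (kg xg12 yg13 zg49) (kg xg12 yg17 zg26) (kg xg7 yg11 zg21) (kg xg3 yg9 zg7) (kg xg12 yg19 zg12) (kg xg12 yg19 zg17) (kg xg12 yg19 zg20) (kg xg12 yg19 zg3) (kg xg3 yg9 zg8) (kg xg12 yg17 zg33) (kg xg9 yg18 zg54) (kg xg3 yg9 zg9) (kg xg9 yg18 zg53)) (@D3.rec (fun _ => Pt) (kg xg12 yg19 zg35) (kg xg9 yg18 zg22) (kg xg3 yg9 zg10) (kg xg6 yg20 zg4) (kg xg6 yg24 zg20) (kg xg9 yg19 zg22) (kg xg8 yg22 zg61) (kg xg3 yg9 zg45) (kg xg6 yg27 zg37) (kg xg12 yg19 zg46) (kg xg6 yg27 zg29) (kg xg3 yg9 zg15) (kg xg12 yg19 zg50) (kg xg7 yg30 zg7) (kg xg12 yg19 zg56) (kg xg12 yg19 zg47) (kg xg3 yg9 zg16) (kg xg12 yg13 zg54) (kg xg6 yg27 zg46) (kg xg3 yg9 zg17) (kg xg6 yg27 zg45) (kg xg12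 yg20 zg5) (kg xg9 yg32 zg39) (kg xg3 yg22 zg8) (kg xg8 yg35 zg19) (kg xg3 yg9 zg23) (kg xg3 yg9 zg26) (kg xg6 yg48 zg56) (kg xg4 yg21 zg55) (kg xg4 yg42 zg26) (kg xg12 yg20 zg22) (kg xg3 yg9 zg24) (kg xg12 yg20 zg25) (kg xg8 yg31 zg35) (kg xg3 yg22 zg30) (kg xg6 yg47 zg54) (kg xg3 yg11 zg55) (kg xg3 yg11 zg56) (kg xg3 yg9 zg25) (kg xg12 yg20 zg39) (kg xg12 yg20 zg45) (kg xg4 yg19 zg35) (kg xg3 yg9 zg27) (kg xg8 yg24 zg30) (kg xg6 yg48 zg51) (kg xg3 yg9 zg28) (kg xg12 yg20 zg53) (kg xg8 yg23 zg36) (kg xg6 yg43 zg9) (kg xg6 yg27 zg32) (kg xg3 yg22 zg26) (kg xg6 yg23 zg6) (kg xg4 yg44 zg36) (kg xg9 yg15 zg54) (kg xg9 yg19 zg12) (kg xg3 yg9 zg34) (kg xg12 yg21 zg0) (kg xg12 yg11 zg48) (kg xg12 yg13 zg47) (kg xg9 yg19 zg20) (kg xg3 yg9 zg36) (kg xg6 yg48 zg58)) (@D3.rec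 (fun _ => Pt) (kg xg12 yg21 zg15) (kg xg4 yg41 zg55) (kg xg9 yg29 zg0) (kg xg3 yg53 zg38) (kg xg12 yg3 zg16) (kg xg6 yg9 zg61) (kg xg12 yg21 zg25) (kg xg6 yg41 zg38) (kg xg12 yg21 zg31) (kg xg12 yg21 zg22) (kg xg3 yg9 zg43) (kg xg12 yg21 zg21) (kg xg7 yg11 zg43) (kg xg3 yg9 zg44) (kg xg7 yg11 zg42) (kg xg12 yg21 zg45) (kg xg9 yg19 zg5) (kg xg12 yg21 zg47) (kg xg9 yg32 zg47) (kg xg6 yg9 zg38) (kg xg4 yg42 zg21) (kg xg4 yg39 zg40) (kg xg3 yg9 zg49) (kg xg4 yg39 zg39) (kg xg8 yg1 zg15) (kg xg5 yg5 zg5) (kg xg8 yg14 zg48) (kg xg8 yg49 zg17) (kg xg12 yg21 zg60) (kg xg4 yg37 zg3) (kg xg5 yg5 zg57) (kg xg3 yg59 zg22) (kg xg6 yg15 zg26) (kg xg11 yg36 zg16) (kg xg9 yg39 zg27) (kg xg4 yg33 zg0) (kg xg6 yg9 zg5) (kg xg8 yg45 zg47) (kg xg12 yg22 zg8) (kg xg11 yg49 zg0) (kg xg12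 yg22 zg12) (kg xg12 yg22 zg10) (kg xg3 yg9 zg59) (kg xg12 yg22 zg22) (kg xg12 yg22 zg9) (kg xg4 yg37 zg0) (kg xg4 yg39 zg43) (kg xg12 yg22 zg27) (kg xg12 yg22 zg30) (kg xg12 yg5 zg59) (kg xg3 yg10 zg2) (kg xg12 yg22 zg31) (kg xg12 yg22 zg41) (kg xg8 yg46 zg35) (kg xg12 yg22 zg47) (kg xg8 yg46 zg33) (kg xg3 yg40 zg8) (kg xg12 yg22 zg53) (kg xg3 yg40 zg49) (kg xg12 yg22 zg58) (kg xg7 yg23 zg3) (kg xg3 yg10 zg6)) (@D3.rec (fun _ => Pt) (kg xg12 yg23 zg3) (kg xg7 yg23 zg24) (kg xg12 yg23 zg6) (kg xg3 yg10 zg15) (kg xg3 yg10 zg12) (kg xg5 yg55 zg47) (kg xg12 yg23 zg13) (kg xg3 yg10 zg17) (kg xg3 yg10 zg13) (kg xg12 yg23 zg18) (kg xg5 yg56 zg40) (kg xg5 yg56 zg38) (kg xg4 yg24 zg36) (kg xg4 yg27 zg19) (kg xg4 yg23 zg25) (kg xg12 yg14 zg0) (kg xg6 yg38 zg13) (kg xg12 yg23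 zg27) (kg xg3 yg10 zg18) (kg xg6 yg12 zg8) (kg xg4 yg40 zg57) (kg xg10 yg31 zg38) (kg xg5 yg26 zg58) (kg xg12 yg23 zg38) (kg xg12 yg10 zg45) (kg xg3 yg10 zg22) (kg xg12 yg10 zg46) (kg xg9 yg13 zg44) (kg xg3 yg10 zg23) (kg xg3 yg10 zg28) (kg xg4 yg57 zg24) (kg xg4 yg57 zg21) (kg xg4 yg24 zg32) (kg xg3 yg10 zg27) (kg xg7 yg29 zg9) (kg xg12 yg23 zg51) (kg xg4 yg33 zg58) (kg xg6 yg29 zg31) (kg xg3 yg19 zg12) (kg xg6 yg11 zg25) (kg xg6 yg11 zg26) (kg xg6 yg34 zg49) (kg xg3 yg10 zg36) (kg xg6 yg11 zg39) (kg xg4 yg35 zg41) (kg xg4 yg43 zg44) (kg xg12 yg23 zg57) (kg xg12 yg23 zg60) (kg xg5 yg48 zg29) (kg xg9 yg8 zg5) (kg xg3 yg10 zg43) (kg xg6 yg50 zg26) (kg xg6 yg51 zg9) (kg xg4 yg41 zg5) (kg xg9 yg18 zg11) (kg xg3 yg10 zg45) (kg xg4 yg59 zg61) (kg xg7 yg30 zg39) (kg xg9 yg12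 zg36) (kg xg4 yg59 zg33) (kg xg3 yg20 zg36) (kg xg11 yg26 zg5)) (@D3.rec (fun _ => Pt) (kg xg10 yg2 zg47) (kg xg10 yg17 zg27) (kg xg10 yg17 zg50) (kg xg3 yg10 zg51) (kg xg11 yg50 zg30) (kg xg6 yg50 zg53) (kg xg4 yg50 zg5) (kg xg6 yg51 zg22) (kg xg3 yg10 zg53) (kg xg12 yg24 zg20) (kg xg4 yg50 zg22) (kg xg3 yg35 zg10) (kg xg4 yg41 zg59) (kg xg3 yg11 zg0) (kg xg12 yg24 zg27) (kg xg6 yg9 zg55) (kg xg8 yg35 zg53) (kg xg12 yg24 zg31) (kg xg3 yg42 zg32) (kg xg3 yg56 zg45) (kg xg12 yg24 zg35) (kg xg12 yg24 zg37) (kg xg12 yg20 zg36) (kg xg3 yg11 zg4) (kg xg12 yg20 zg43) (kg xg8 yg25 zg31) (kg xg6 yg50 zg7) (kg xg6 yg50 zg11) (kg xg12 yg24 zg50) (kg xg12 yg24 zg53) (kg xg6 yg50 zg10) (kg xg3 yg11 zg9) (kg xg6 yg47 zg46) (kg xg5 yg48 zg54) (kg xg5 yg48 zg53) (kg xg12 yg25 zg4)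 (kg xg3 yg11 zg21) (kg xg3 yg20 zg4) (kg xg3 yg20 zg1) (kg xg3 yg11 zg23) (kg xg3 yg11 zg14) (kg xg12 yg25 zg15) (kg xg6 yg44 zg11) (kg xg3 yg18 zg18) (kg xg3 yg11 zg29) (kg xg6 yg33 zg46) (kg xg9 yg20 zg12) (kg xg3 yg18 zg11) (kg xg4 yg59 zg41) (kg xg12 yg25 zg26) (kg xg3 yg45 zg7) (kg xg3 yg11 zg18) (kg xg6 yg41 zg24) (kg xg3 yg38 zg11) (kg xg3 yg45 zg21) (kg xg3 yg11 zg20) (kg xg4 yg59 zg12) (kg xg12 yg25 zg37) (kg xg12 yg25 zg41) (kg xg5 yg45 zg19) (kg xg11 yg12 zg42) (kg xg4 yg41 zg14)) (@D3.rec (fun _ => Pt) (kg xg7 yg54 zg12) (kg xg4 yg48 zg39) (kg xg4 yg7 zg23) (kg xg6 yg50 zg13) (kg xg6 yg47 zg41) (kg xg12 yg13 zg53) (kg xg7 yg20 zg8) (kg xg12 yg25 zg56) (kg xg12 yg18 zg58) (kg xg6 yg18 zg44) (kg xg6 yg41 zg20) (kg xg6 yg18 zg33) (kg xg12 yg18 zg50) (kg xg11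 yg14 zg52) (kg xg6 yg12 zg48) (kg xg12 yg26 zg4) (kg xg4 yg18 zg49) (kg xg12 yg21 zg10) (kg xg11 yg12 zg18) (kg xg6 yg18 zg49) (kg xg12 yg26 zg11) (kg xg3 yg11 zg34) (kg xg12 yg26 zg12) (kg xg12 yg26 zg22) (kg xg12 yg26 zg17) (kg xg9 yg20 zg31) (kg xg3 yg11 zg35) (kg xg9 yg20 zg30) (kg xg3 yg25 zg55) (kg xg6 yg23 zg11) (kg xg7 yg20 zg10) (kg xg7 yg26 zg47) (kg xg8 yg23 zg11) (kg xg6 yg9 zg35) (kg xg12 yg24 zg24) (kg xg4 yg42 zg10) (kg xg6 yg23 zg8) (kg xg3 yg11 zg42) (kg xg12 yg26 zg39) (kg xg12 yg19 zg8) (kg xg3 yg19 zg21) (kg xg12 yg26 zg33) (kg xg3 yg11 zg43) (kg xg12 yg26 zg32) (kg xg6 yg23 zg20) (kg xg3 yg11 zg44) (kg xg6 yg23 zg19) (kg xg12 yg26 zg56) (kg xg12 yg11 zg61) (kg xg6 yg12 zg57) (kg xg6 yg9 zg59) (kg xg12 yg0 zg5) (kg xg6 yg22 zg11) (kg xg12 yg0 zg46)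 (kg xg6 yg23 zg47) (kg xg6 yg18 zg20) (kg xg3 yg11 zg52) (kg xg12 yg27 zg11) (kg xg12 yg18 zg39) (kg xg6 yg18 zg58) (kg xg3 yg11 zg53) (kg xg6 yg18 zg57)) (@D3.rec (fun _ => Pt) (kg xg12 yg21 zg11) (kg xg12 yg27 zg23) (kg xg12 yg27 zg27) (kg xg12 yg27 zg28) (kg xg12 yg27 zg24) (kg xg6 yg18 zg42) (kg xg4 yg50 zg20) (kg xg12 yg27 zg34) (kg xg12 yg2 zg0) (kg xg3 yg22 zg48) (kg xg4 yg41 zg43) (kg xg9 yg7 zg15) (kg xg3 yg12 zg3) (kg xg3 yg12 zg4) (kg xg3 yg44 zg48) (kg xg5 yg11 zg53) (kg xg6 yg18 zg51) (kg xg12 yg0 zg4) (kg xg3 yg12 zg6) (kg xg6 yg19 zg4) (kg xg6 yg25 zg15) (kg xg12 yg27 zg51) (kg xg3 yg12 zg18) (kg xg3 yg12 zg9) (kg xg6 yg18 zg54) (kg xg6 yg19 zg32) (kg xg3 yg12 zg10) (kg xg6 yg11 zg27) (kg xg9 yg20 zg47) (kg xg3 yg12 zg34) (kg xg3 yg12 zg26) (kg xg6 yg18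 zg31) (kg xg7 yg32 zg8) (kg xg6 yg12 zg38) (kg xg12 yg27 zg61) (kg xg3 yg12 zg16) (kg xg8 yg23 zg26) (kg xg12 yg27 zg60) (kg xg3 yg17 zg31) (kg xg6 yg19 zg27) (kg xg3 yg17 zg28) (kg xg12 yg28 zg4) (kg xg12 yg28 zg8) (kg xg6 yg19 zg22) (kg xg3 yg12 zg19) (kg xg10 yg53 zg18) (kg xg6 yg19 zg20) (kg xg9 yg20 zg46) (kg xg3 yg12 zg29) (kg xg8 yg33 zg29) (kg xg6 yg44 zg32) (kg xg3 yg12 zg24) (kg xg9 yg20 zg44) (kg xg11 yg24 zg55) (kg xg3 yg45 zg4) (kg xg10 yg5 zg53) (kg xg6 yg13 zg0) (kg xg6 yg24 zg16) (kg xg6 yg19 zg33) (kg xg4 yg37 zg56) (kg xg3 yg12 zg27) (kg xg10 yg6 zg15)) (@D3.rec (fun _ => Pt) (kg xg12 yg28 zg26) (kg xg6 yg19 zg41) (kg xg6 yg18 zg50) (kg xg12 yg28 zg22) (kg xg10 yg2 zg40) (kg xg12 yg28 zg15) (kg xg3 yg45 zg17) (kg xg4 yg40 zg28) (kg xg12 yg28 zg37)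 (kg xg12 yg28 zg39) (kg xg6 yg11 zg4) (kg xg9 yg56 zg22) (kg xg12 yg28 zg13) (kg xg3 yg12 zg33) (kg xg12 yg28 zg46) (kg xg6 yg19 zg8) (kg xg12 yg28 zg48) (kg xg6 yg11 zg17) (kg xg3 yg12 zg41) (kg xg3 yg12 zg36) (kg xg3 yg12 zg40) (kg xg6 yg18 zg14) (kg xg3 yg12 zg37) (kg xg12 yg28 zg56) (kg xg12 yg28 zg52) (kg xg3 yg12 zg38) (kg xg3 yg18 zg36) (kg xg6 yg11 zg32) (kg xg6 yg19 zg26) (kg xg12 yg2 zg50) (kg xg3 yg45 zg37) (kg xg3 yg25 zg15) (kg xg9 yg21 zg41) (kg xg3 yg45 zg28) (kg xg12 yg29 zg7) (kg xg12 yg11 zg31) (kg xg3 yg12 zg52) (kg xg3 yg12 zg47) (kg xg3 yg12 zg51) (kg xg5 yg52 zg27) (kg xg12 yg29 zg12) (kg xg3 yg12 zg49) (kg xg3 yg19 zg10) (kg xg12 yg29 zg10) (kg xg5 yg58 zg34) (kg xg12 yg17 zg27) (kg xg3 yg45 zg12) (kg xg6 yg49 zg20) (kg xg9 yg18 zg15) (kg xg6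 yg27 zg5) (kg xg9 yg29 zg1) (kg xg9 yg20 zg25) (kg xg6 yg21 zg35) (kg xg6 yg18 zg37) (kg xg12 yg29 zg29) (kg xg12 yg29 zg33) (kg xg12 yg29 zg37) (kg xg3 yg45 zg36) (kg xg3 yg12 zg59) (kg xg3 yg18 zg37) (kg xg3 yg28 zg42) (kg xg12 yg29 zg28)) (@D3.rec (fun _ => Pt) (kg xg3 yg12 zg60) (kg xg12 yg2 zg36) (kg xg4 yg59 zg3) (kg xg4 yg59 zg5) (kg xg12 yg29 zg45) (kg xg3 yg13 zg0) (kg xg12 yg29 zg48) (kg xg3 yg14 zg18) (kg xg3 yg23 zg54) (kg xg12 yg29 zg51) (kg xg11 yg24 zg57) (kg xg5 yg49 zg23) (kg xg12 yg12 zg0) (kg xg6 yg49 zg23) (kg xg3 yg13 zg10) (kg xg6 yg46 zg23) (kg xg12 yg29 zg53) (kg xg3 yg13 zg11) (kg xg7 yg24 zg55) (kg xg6 yg19 zg3) (kg xg3 yg13 zg12) (kg xg3 yg59 zg35) (kg xg12 yg30 zg5) (kg xg12 yg30 zg8) (kg xg5 yg52 zg51) (kg xg4 yg41 zg6) (kg xg3 yg22 zg3)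 (kg xg3 yg18 zg31) (kg xg3 yg17 zg1) (kg xg6 yg52 zg26) (kg xg3 yg13 zg20) (kg xg6 yg18 zg34) (kg xg5 yg51 zg58) (kg xg12 yg9 zg49) (kg xg3 yg13 zg22) (kg xg10 yg18 zg13) (kg xg3 yg13 zg23) (kg xg3 yg13 zg26) (kg xg4 yg58 zg19) (kg xg12 yg30 zg18) (kg xg10 yg18 zg55) (kg xg10 yg2 zg42) (kg xg3 yg33 zg2) (kg xg7 yg37 zg41) (kg xg3 yg33 zg0) (kg xg5 yg5 zg56) (kg xg3 yg43 zg17) (kg xg6 yg49 zg47) (kg xg3 yg43 zg11) (kg xg3 yg19 zg13) (kg xg3 yg17 zg52) (kg xg12 yg30 zg25) (kg xg3 yg13 zg46) (kg xg3 yg13 zg36) (kg xg11 yg18 zg28) (kg xg11 yg47 zg43) (kg xg6 yg49 zg34) (kg xg4 yg43 zg30) (kg xg6 yg32 zg28) (kg xg7 yg26 zg56) (kg xg12 yg24 zg56) (kg xg7 yg26 zg54)) (@D3.rec (fun _ => Pt) (kg xg6 yg26 zg19) (kg xg6 yg49 zg15) (kg xg3 yg13 zg42) (kg xg12 yg30 zg44) (kg xg12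 yg30 zg47) (kg xg11 yg40 zg20) (kg xg3 yg44 zg50) (kg xg6 yg49 zg42) (kg xg7 yg26 zg49) (kg xg3 yg13 zg45) (kg xg7 yg26 zg29) (kg xg3 yg13 zg48) (kg xg12 yg30 zg58) (kg xg3 yg13 zg49) (kg xg12 yg29 zg61) (kg xg3 yg44 zg51) (kg xg3 yg21 zg21) (kg xg6 yg17 zg51) (kg xg6 yg49 zg22) (kg xg10 yg17 zg21) (kg xg5 yg50 zg6) (kg xg6 yg44 zg34) (kg xg7 yg26 zg60) (kg xg4 yg26 zg21) (kg xg12 yg31 zg7) (kg xg3 yg13 zg61) (kg xg3 yg13 zg56) (kg xg11 yg14 zg55) (kg xg7 yg27 zg16) (kg xg3 yg13 zg57) (kg xg11 yg40 zg44) (kg xg12 yg29 zg13) (kg xg3 yg13 zg59) (kg xg7 yg27 zg34) (kg xg7 yg27 zg10) (kg xg3 yg13 zg60) (kg xg7 yg27 zg9) (kg xg7 yg27 zg3) (kg xg3 yg14 zg0) (kg xg7 yg27 zg1) (kg xg3 yg14 zg9) (kg xg9 yg23 zg46) (kg xg12 yg4 zg20) (kg xg12 yg26 zg36) (kg xg6 yg17 zg54) (kg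 xg7 yg27 zg20) (kg xg3 yg14 zg4) (kg xg7 yg27 zg19) (kg xg12 yg31 zg32) (kg xg12 yg31 zg35) (kg xg11 yg6 zg38) (kg xg6 yg50 zg42) (kg xg7 yg27 zg25) (kg xg3 yg14 zg7) (kg xg7 yg27 zg24) (kg xg11 yg37 zg18) (kg xg10 yg6 zg54) (kg xg11 yg31 zg58) (kg xg5 yg50 zg36) (kg xg6 yg17 zg49) (kg xg12 yg31 zg26) (kg xg12 yg31 zg47)) (@D3.rec (fun _ => Pt) (kg xg12 yg22 zg2) (kg xg7 yg29 zg18) (kg xg3 yg14 zg12) (kg xg11 yg27 zg28) (kg xg7 yg29 zg16) (kg xg12 yg31 zg60) (kg xg11 yg27 zg44) (kg xg12 yg31 zg20) (kg xg11 yg27 zg46) (kg xg12 yg4 zg19) (kg xg9 yg21 zg54) (kg xg3 yg14 zg15) (kg xg12 yg22 zg29) (kg xg12 yg31 zg0) (kg xg6 yg40 zg59) (kg xg12 yg3 zg11) (kg xg12 yg32 zg14) (kg xg6 yg16 zg49) (kg xg10 yg15 zg27) (kg xg3 yg14 zg22) (kg xg10 yg17 zg25) (kg xg4 yg45 zg33) (kg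 xg4 yg48 zg15) (kg xg9 yg16 zg56) (kg xg12 yg31 zg18) (kg xg12 yg32 zg18) (kg xg12 yg29 zg24) (kg xg5 yg58 zg29) (kg xg4 yg50 zg8) (kg xg9 yg16 zg20) (kg xg12 yg32 zg33) (kg xg12 yg32 zg37) (kg xg12 yg32 zg41) (kg xg9 yg17 zg36) (kg xg9 yg16 zg61) (kg xg12 yg32 zg45) (kg xg12 yg32 zg47) (kg xg12 yg2 zg39) (kg xg6 yg36 zg4) (kg xg6 yg33 zg47) (kg xg6 yg44 zg50) (kg xg6 yg3 zg20) (kg xg6 yg47 zg0) (kg xg6 yg50 zg47) (kg xg7 yg36 zg10) (kg xg9 yg28 zg32) (kg xg3 yg14 zg38) (kg xg9 yg16 zg47) (kg xg12 yg32 zg60) (kg xg3 yg46 zg31) (kg xg3 yg17 zg40) (kg xg9 yg29 zg42) (kg xg6 yg18 zg12) (kg xg3 yg27 zg16) (kg xg3 yg14 zg42) (kg xg7 yg1 zg49) (kg xg12 yg33 zg10) (kg xg12 yg33 zg12) (kg xg10 yg25 zg23) (kg xg3 yg14 zg45) (kg xg12 yg33 zg15) (kg xg6 yg9 zg42)) (@D3.rec (fun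 _ => Pt) (kg xg8 yg34 zg8) (kg xg6 yg28 zg9) (kg xg8 yg34 zg42) (kg xg6 yg9 zg36) (kg xg3 yg14 zg48) (kg xg12 yg33 zg27) (kg xg12 yg33 zg31) (kg xg9 yg6 zg15) (kg xg3 yg14 zg49) (kg xg6 yg59 zg43) (kg xg3 yg30 zg41) (kg xg12 yg33 zg40) (kg xg9 yg21 zg15) (kg xg3 yg14 zg53) (kg xg4 yg46 zg22) (kg xg9 yg21 zg13) (kg xg7 yg38 zg6) (kg xg9 yg22 zg52) (kg xg9 yg28 zg17) (kg xg12 yg1 zg10) (kg xg6 yg18 zg9) (kg xg12 yg28 zg53) (kg xg3 yg50 zg49) (kg xg3 yg14 zg59) (kg xg12 yg33 zg57) (kg xg12 yg33 zg60) (kg xg9 yg17 zg31) (kg xg3 yg14 zg61) (kg xg4 yg47 zg5) (kg xg12 yg34 zg2) (kg xg4 yg45 zg48) (kg xg7 yg38 zg4) (kg xg4 yg47 zg21) (kg xg7 yg15 zg54) (kg xg12 yg33 zg39) (kg xg3 yg15 zg4) (kg xg12 yg33 zg38) (kg xg6 yg18 zg4) (kg xg6 yg18 zg32) (kg xg3 yg16 zg15) (kg xg3 yg15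 zg7) (kg xg12 yg34 zg19) (kg xg12 yg34 zg23) (kg xg3 yg18 zg20) (kg xg6 yg26 zg45) (kg xg3 yg16 zg35) (kg xg3 yg16 zg39) (kg xg8 yg33 zg33) (kg xg3 yg18 zg41) (kg xg12 yg25 zg31) (kg xg3 yg18 zg47) (kg xg12 yg34 zg33) (kg xg6 yg59 zg31) (kg xg6 yg18 zg22) (kg xg3 yg18 zg9) (kg xg11 yg37 zg20) (kg xg3 yg15 zg16) (kg xg12 yg1 zg30) (kg xg12 yg34 zg42) (kg xg12 yg34 zg44) (kg xg12 yg1 zg46) (kg xg3 yg55 zg61)) (@D3.rec (fun _ => Pt) (kg xg3 yg36 zg1) (kg xg3 yg15 zg21) (kg xg3 yg38 zg21) (kg xg3 yg15 zg22) (kg xg3 yg30 zg24) (kg xg3 yg29 zg51) (kg xg3 yg15 zg23) (kg xg3 yg29 zg50) (kg xg12 yg34 zg54) (kg xg7 yg33 zg41) (kg xg6 yg57 zg18) (kg xg3 yg54 zg29) (kg xg3 yg15 zg27) (kg xg5 yg57 zg40) (kg xg12 yg27 zg39) (kg xg11 yg36 zg7) (kg xg12 yg35 zg4) (kg xg10 yg22 zg54)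 (kg xg7 yg31 zg21) (kg xg9 yg15 zg10) (kg xg12 yg27 zg43) (kg xg6 yg36 zg28) (kg xg7 yg31 zg30) (kg xg11 yg36 zg5) (kg xg10 yg23 zg13) (kg xg12 yg34 zg43) (kg xg12 yg34 zg41) (kg xg3 yg15 zg35) (kg xg6 yg47 zg37) (kg xg11 yg40 zg40) (kg xg3 yg51 zg36) (kg xg12 yg35 zg24) (kg xg12 yg1 zg44) (kg xg3 yg15 zg38) (kg xg12 yg35 zg33) (kg xg7 yg34 zg26) (kg xg6 yg41 zg9) (kg xg12 yg3 zg14) (kg xg9 yg10 zg38) (kg xg12 yg35 zg37) (kg xg12 yg2 zg57) (kg xg12 yg1 zg48) (kg xg3 yg15 zg41) (kg xg12 yg35 zg51) (kg xg12 yg35 zg55) (kg xg6 yg40 zg21) (kg xg12 yg2 zg48) (kg xg6 yg40 zg22) (kg xg9 yg21 zg39) (kg xg6 yg25 zg42) (kg xg12 yg1 zg34) (kg xg3 yg15 zg46) (kg xg12 yg1 zg33) (kg xg12 yg1 zg11) (kg xg3 yg15 zg48) (kg xg3 yg29 zg58) (kg xg6 yg52 zg6) (kg xg6 yg37 zg38) (kg xg11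 yg45 zg16) (kg xg6 yg35 zg15) (kg xg12 yg1 zg22) (kg xg12 yg12 zg47)) (@D3.rec (fun _ => Pt) (kg xg9 yg12 zg53) (kg xg3 yg15 zg53) (kg xg3 yg17 zg10) (kg xg12 yg36 zg13) (kg xg12 yg12 zg48) (kg xg3 yg15 zg54) (kg xg12 yg36 zg19) (kg xg11 yg50 zg5) (kg xg3 yg15 zg55) (kg xg12 yg36 zg24) (kg xg7 yg33 zg0) (kg xg12 yg36 zg27) (kg xg6 yg19 zg44) (kg xg3 yg15 zg59) (kg xg3 yg17 zg9) (kg xg6 yg34 zg57) (kg xg12 yg36 zg34) (kg xg7 yg39 zg54) (kg xg3 yg16 zg52) (kg xg3 yg15 zg61) (kg xg12 yg36 zg43) (kg xg3 yg16 zg50) (kg xg3 yg16 zg9) (kg xg9 yg28 zg58) (kg xg3 yg16 zg1) (kg xg12 yg36 zg50) (kg xg12 yg36 zg52) (kg xg12 yg36 zg54) (kg xg7 yg38 zg27) (kg xg3 yg16 zg6) (kg xg12 yg37 zg0) (kg xg3 yg17 zg15) (kg xg3 yg17 zg26) (kg xg12 yg37 zg5) (kg xg3 yg17 zg24) (kg xg12 yg37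 zg10) (kg xg3 yg16 zg56) (kg xg3 yg17 zg29) (kg xg3 yg16 zg10) (kg xg12 yg37 zg17) (kg xg12 yg37 zg20) (kg xg12 yg37 zg24) (kg xg12 yg23 zg40) (kg xg11 yg44 zg3) (kg xg7 yg2 zg8) (kg xg12 yg37 zg30) (kg xg12 yg37 zg33) (kg xg9 yg23 zg58) (kg xg6 yg10 zg11) (kg xg12 yg33 zg1) (kg xg3 yg51 zg28) (kg xg12 yg37 zg43) (kg xg3 yg51 zg29) (kg xg3 yg16 zg16) (kg xg5 yg55 zg37) (kg xg12 yg37 zg46) (kg xg3 yg16 zg17) (kg xg12 yg37 zg60) (kg xg12 yg37 zg44) (kg xg3 yg18 zg4) (kg xg3 yg16 zg18) (kg xg12 yg38 zg4)) (@D3.rec (fun _ => Pt) (kg xg3 yg18 zg2) (kg xg12 yg38 zg8) (kg xg12 yg37 zg14) (kg xg12 yg38 zg9) (kg xg6 yg34 zg47) (kg xg3 yg18 zg17) (kg xg3 yg16 zg21) (kg xg12 yg38 zg21) (kg xg3 yg18 zg15) (kg xg3 yg16 zg26) (kg xg12 yg38 zg26) (kg xg12 yg28 zg51) (kg xg6 yg36 zg21)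 (kg xg9 yg12 zg57) (kg xg12 yg29 zg4) (kg xg6 yg21 zg29) (kg xg12 yg38 zg37) (kg xg6 yg21 zg24) (kg xg3 yg16 zg37) (kg xg6 yg11 zg36) (kg xg9 yg48 zg56) (kg xg3 yg18 zg22) (kg xg11 yg48 zg60) (kg xg3 yg16 zg31) (kg xg12 yg36 zg53) (kg xg12 yg38 zg45) (kg xg12 yg38 zg48) (kg xg3 yg16 zg33) (kg xg12 yg38 zg54) (kg xg4 yg42 zg7) (kg xg9 yg18 zg34) (kg xg10 yg53 zg21) (kg xg6 yg49 zg1) (kg xg12 yg0 zg42) (kg xg4 yg17 zg50) (kg xg6 yg22 zg12) (kg xg6 yg9 zg52) (kg xg7 yg31 zg5) (kg xg3 yg16 zg38) (kg xg7 yg31 zg4) (kg xg7 yg45 zg38) (kg xg6 yg28 zg54) (kg xg10 yg17 zg48) (kg xg12 yg2 zg51) (kg xg9 yg23 zg12) (kg xg3 yg18 zg24) (kg xg12 yg39 zg18) (kg xg6 yg12 zg1) (kg xg12 yg39 zg21) (kg xg3 yg16 zg45) (kg xg12 yg26 zg10) (kg xg12 yg39 zg19) (kg xg12 yg39 zg6) (kg xg7 yg2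 zg10) (kg xg6 yg28 zg52) (kg xg12 yg39 zg35) (kg xg12 yg36 zg39) (kg xg3 yg16 zg48) (kg xg12 yg39 zg44) (kg xg7 yg39 zg58) (kg xg9 yg50 zg5) (kg xg12 yg3 zg3)) (@D3.rec (fun _ => Pt) (kg xg9 yg11 zg28) (kg xg3 yg23 zg11) (kg xg12 yg12 zg60) (kg xg12 yg36 zg45) (kg xg3 yg16 zg51) (kg xg12 yg40 zg1) (kg xg6 yg18 zg29) (kg xg12 yg37 zg32) (kg xg12 yg2 zg41) (kg xg3 yg18 zg13) (kg xg3 yg16 zg54) (kg xg12 yg40 zg12) (kg xg3 yg18 zg45) (kg xg12 yg40 zg9) (kg xg12 yg40 zg13) (kg xg12 yg13 zg8) (kg xg6 yg11 zg35) (kg xg6 yg41 zg39) (kg xg8 yg22 zg6) (kg xg3 yg16 zg60) (kg xg12 yg40 zg27) (kg xg12 yg40 zg32) (kg xg6 yg18 zg39) (kg xg5 yg55 zg42) (kg xg4 yg43 zg9) (kg xg12 yg36 zg29) (kg xg3 yg17 zg2) (kg xg12 yg36 zg28) (kg xg12 yg34 zg16) (kg xg12 yg40 zg45) (kg xg5 yg11 zg16)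 (kg xg3 yg17 zg4) (kg xg11 yg11 zg0) (kg xg4 yg43 zg19) (kg xg11 yg55 zg52) (kg xg12 yg39 zg7) (kg xg12 yg38 zg27) (kg xg12 yg34 zg25) (kg xg6 yg34 zg59) (kg xg12 yg40 zg59) (kg xg5 yg56 zg41) (kg xg3 yg17 zg11) (kg xg12 yg41 zg2) (kg xg12 yg41 zg0) (kg xg3 yg17 zg12) (kg xg12 yg41 zg12) (kg xg12 yg40 zg60) (kg xg12 yg36 zg59) (kg xg3 yg17 zg13) (kg xg12 yg41 zg22) (kg xg7 yg38 zg31) (kg xg12 yg41 zg26) (kg xg12 yg41 zg28) (kg xg12 yg41 zg29) (kg xg6 yg36 zg12) (kg xg12 yg37 zg3) (kg xg3 yg17 zg16) (kg xg12 yg41 zg41) (kg xg12 yg37 zg1) (kg xg12 yg41 zg47) (kg xg3 yg17 zg21) (kg xg3 yg17 zg19)) (@D3.rec (fun _ => Pt) (kg xg12 yg16 zg31) (kg xg12 yg34 zg15) (kg xg12 yg41 zg48) (kg xg5 yg11 zg23) (kg xg12 yg16 zg33) (kg xg12 yg16 zg28) (kg xg6 yg11 zg18) (kg xg6 yg59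 zg28) (kg xg12 yg37 zg9) (kg xg3 yg17 zg25) (kg xg8 yg33 zg52) (kg xg12 yg42 zg7) (kg xg12 yg37 zg6) (kg xg3 yg17 zg45) (kg xg7 yg21 zg2) (kg xg4 yg43 zg8) (kg xg12 yg42 zg15) (kg xg10 yg6 zg36) (kg xg7 yg34 zg4) (kg xg3 yg17 zg58) (kg xg3 yg18 zg6) (kg xg12 yg42 zg21) (kg xg7 yg44 zg40) (kg xg3 yg48 zg41) (kg xg12 yg42 zg27) (kg xg12 yg42 zg23) (kg xg3 yg17 zg32) (kg xg12 yg42 zg38) (kg xg12 yg42 zg22) (kg xg12 yg27 zg53) (kg xg3 yg17 zg33) (kg xg12 yg42 zg47) (kg xg12 yg27 zg52) (kg xg12 yg11 zg60) (kg xg3 yg17 zg34) (kg xg12 yg42 zg51) (kg xg12 yg37 zg11) (kg xg9 yg11 zg41) (kg xg12 yg25 zg19) (kg xg12 yg28 zg10) (kg xg3 yg17 zg37) (kg xg6 yg3 zg44) (kg xg9 yg59 zg5) (kg xg12 yg37 zg23) (kg xg3 yg17 zg38) (kg xg12 yg43 zg9) (kg xg12 yg37 zg21) (kg xg12 yg16 zg27)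 (kg xg3 yg17 zg39) (kg xg12 yg43 zg16) (kg xg12 yg37 zg25) (kg xg3 yg17 zg41) (kg xg9 yg11 zg40) (kg xg6 yg19 zg18) (kg xg12 yg26 zg58) (kg xg12 yg43 zg29) (kg xg3 yg17 zg46) (kg xg10 yg6 zg40) (kg xg12 yg43 zg32) (kg xg9 yg11 zg54) (kg xg12 yg43 zg36) (kg xg9 yg11 zg36)) (@D3.rec (fun _ => Pt) (kg xg6 yg25 zg16) (kg xg11 yg49 zg2) (kg xg10 yg6 zg24) (kg xg3 yg17 zg47) (kg xg12 yg43 zg13) (kg xg9 yg11 zg23) (kg xg12 yg43 zg51) (kg xg3 yg17 zg57) (kg xg3 yg17 zg49) (kg xg12 yg44 zg0) (kg xg3 yg17 zg55) (kg xg6 yg19 zg50) (kg xg12 yg44 zg6) (kg xg11 yg8 zg28) (kg xg12 yg44 zg7) (kg xg12 yg44 zg9) (kg xg11 yg35 zg14) (kg xg9 yg29 zg26) (kg xg12 yg43 zg54) (kg xg3 yg17 zg53) (kg xg12 yg44 zg23) (kg xg12 yg43 zg52) (kg xg12 yg44 zg27) (kg xg12 yg44 zg29) (kg xg12 yg44 zg31)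 (kg xg12 yg43 zg47) (kg xg12 yg43 zg39) (kg xg9 yg5 zg54) (kg xg12 yg44 zg32) (kg xg12 yg44 zg44) (kg xg12 yg44 zg3) (kg xg3 yg17 zg56) (kg xg12 yg44 zg55) (kg xg12 yg44 zg1) (kg xg9 yg23 zg49) (kg xg12 yg45 zg0) (kg xg12 yg2 zg6) (kg xg3 yg17 zg59) (kg xg12 yg45 zg7) (kg xg12 yg2 zg4) (kg xg12 yg1 zg61) (kg xg3 yg17 zg60) (kg xg12 yg45 zg15) (kg xg12 yg1 zg59) (kg xg3 yg47 zg37) (kg xg3 yg17 zg61) (kg xg12 yg45 zg20) (kg xg3 yg51 zg47) (kg xg3 yg18 zg0) (kg xg12 yg45 zg28) (kg xg3 yg51 zg49) (kg xg12 yg45 zg32) (kg xg12 yg45 zg34) (kg xg3 yg45 zg60) (kg xg12 yg45 zg35) (kg xg12 yg45 zg1) (kg xg12 yg38 zg7) (kg xg3 yg18 zg3) (kg xg12 yg45 zg46) (kg xg12 yg38 zg5) (kg xg3 yg51 zg32) (kg xg3 yg51 zg34)) (@D3.rec (fun _ => Pt) (kg xg3 yg18 zg5) (kg xg12 yg45 zg58) (kg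 xg12 yg38 zg12) (kg xg12 yg38 zg11) (kg xg12 yg46 zg2) (kg xg12 yg46 zg4) (kg xg9 yg59 zg28) (kg xg3 yg22 zg35) (kg xg3 yg18 zg12) (kg xg3 yg18 zg8) (kg xg12 yg46 zg14) (kg xg7 yg19 zg11) (kg xg6 yg40 zg53) (kg xg3 yg18 zg10) (kg xg9 yg59 zg9) (kg xg12 yg26 zg3) (kg xg9 yg46 zg35) (kg xg3 yg22 zg44) (kg xg12 yg46 zg15) (kg xg12 yg46 zg23) (kg xg12 yg17 zg1) (kg xg6 yg32 zg36) (kg xg6 yg32 zg38) (kg xg12 yg45 zg61) (kg xg12 yg46 zg31) (kg xg12 yg46 zg34) (kg xg12 yg40 zg49) (kg xg12 yg46 zg32) (kg xg11 yg33 zg31) (kg xg11 yg23 zg17) (kg xg3 yg18 zg16) (kg xg11 yg34 zg14) (kg xg12 yg2 zg42) (kg xg12 yg38 zg22) (kg xg12 yg46 zg46) (kg xg12 yg2 zg38) (kg xg12 yg42 zg17) (kg xg12 yg46 zg50) (kg xg12 yg27 zg55) (kg xg12 yg46 zg51) (kg xg12 yg34 zg24) (kg xg3 yg18 zg21) (kg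 xg7 yg45 zg32) (kg xg9 yg57 zg56) (kg xg6 yg34 zg17) (kg xg12 yg46 zg61) (kg xg12 yg3 zg6) (kg xg12 yg38 zg33) (kg xg12 yg38 zg32) (kg xg10 yg58 zg15) (kg xg3 yg18 zg25) (kg xg12 yg46 zg9) (kg xg7 yg6 zg15) (kg xg5 yg4 zg5) (kg xg6 yg40 zg12) (kg xg6 yg10 zg20) (kg xg3 yg18 zg28) (kg xg6 yg29 zg59) (kg xg4 yg43 zg6) (kg xg6 yg32 zg14) (kg xg3 yg18 zg32) (kg xg12 yg40 zg40)) (@D3.rec (fun _ => Pt) (kg xg6 yg20 zg43) (kg xg3 yg18 zg34) (kg xg3 yg18 zg35) (kg xg12 yg36 zg31) (kg xg12 yg47 zg28) (kg xg12 yg47 zg32) (kg xg12 yg46 zg11) (kg xg11 yg17 zg36) (kg xg6 yg40 zg57) (kg xg6 yg34 zg39) (kg xg12 yg29 zg27) (kg xg12 yg47 zg41) (kg xg7 yg31 zg24) (kg xg12 yg25 zg30) (kg xg11 yg49 zg5) (kg xg12 yg29 zg38) (kg xg3 yg18 zg43) (kg xg6 yg27 zg10) (kg xg12 yg36 zg12) (kg xg12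 yg47 zg47) (kg xg12 yg47 zg51) (kg xg6 yg26 zg52) (kg xg8 yg35 zg14) (kg xg8 yg35 zg15) (kg xg7 yg31 zg0) (kg xg12 yg34 zg32) (kg xg3 yg18 zg48) (kg xg12 yg48 zg1) (kg xg12 yg48 zg4) (kg xg4 yg10 zg30) (kg xg4 yg42 zg18) (kg xg3 yg18 zg51) (kg xg3 yg18 zg50) (kg xg12 yg48 zg13) (kg xg12 yg0 zg51) (kg xg7 yg31 zg2) (kg xg12 yg0 zg58) (kg xg12 yg48 zg20) (kg xg7 yg11 zg52) (kg xg6 yg37 zg15) (kg xg12 yg48 zg28) (kg xg6 yg24 zg7) (kg xg8 yg35 zg11) (kg xg12 yg3 zg28) (kg xg3 yg18 zg55) (kg xg12 yg3 zg27) (kg xg12 yg48 zg43) (kg xg3 yg53 zg52) (kg xg3 yg18 zg56) (kg xg3 yg39 zg39) (kg xg12 yg48 zg53) (kg xg9 yg5 zg23) (kg xg3 yg18 zg57) (kg xg12 yg48 zg58) (kg xg3 yg19 zg11) (kg xg3 yg18 zg58) (kg xg12 yg29 zg21) (kg xg3 yg19 zg9) (kg xg12 yg17 zg41) (kg xg9 yg17 zg43)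 (kg xg7 yg20 zg2) (kg xg3 yg19 zg22)) (@D3.rec (fun _ => Pt) (kg xg3 yg18 zg61) (kg xg12 yg26 zg46) (kg xg7 yg24 zg58) (kg xg3 yg19 zg1) (kg xg7 yg24 zg57) (kg xg12 yg49 zg15) (kg xg12 yg49 zg19) (kg xg3 yg23 zg33) (kg xg7 yg25 zg41) (kg xg3 yg19 zg3) (kg xg7 yg25 zg40) (kg xg12 yg49 zg9) (kg xg12 yg49 zg24) (kg xg5 yg37 zg32) (kg xg7 yg52 zg0) (kg xg3 yg19 zg7) (kg xg12 yg49 zg39) (kg xg7 yg51 zg60) (kg xg12 yg49 zg42) (kg xg6 yg21 zg61) (kg xg12 yg49 zg47) (kg xg9 yg32 zg31) (kg xg12 yg49 zg25) (kg xg12 yg49 zg48) (kg xg12 yg29 zg19) (kg xg11 yg43 zg13) (kg xg12 yg29 zg11) (kg xg3 yg19 zg17) (kg xg12 yg49 zg60) (kg xg5 yg13 zg34) (kg xg3 yg19 zg18) (kg xg3 yg19 zg14) (kg xg12 yg29 zg22) (kg xg6 yg51 zg28) (kg xg6 yg49 zg33) (kg xg6 yg17 zg50) (kg xg12 yg30 zg52) (kg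 xg10 yg59 zg1) (kg xg12 yg29 zg25) (kg xg9 yg36 zg4) (kg xg6 yg31 zg32) (kg xg12 yg50 zg15) (kg xg12 yg50 zg12) (kg xg3 yg35 zg6) (kg xg9 yg37 zg16) (kg xg12 yg50 zg21) (kg xg12 yg50 zg26) (kg xg12 yg26 zg31) (kg xg12 yg33 zg44) (kg xg9 yg23 zg34) (kg xg12 yg50 zg34) (kg xg3 yg19 zg45) (kg xg4 yg42 zg4) (kg xg12 yg50 zg39) (kg xg12 yg50 zg42) (kg xg3 yg22 zg2) (kg xg6 yg18 zg52) (kg xg8 yg31 zg22) (kg xg12 yg50 zg47) (kg xg12 yg17 zg14) (kg xg11 yg19 zg38) (kg xg12 yg17 zg12)) (@D3.rec (fun _ => Pt) (kg xg12 yg50 zg53) (kg xg3 yg19 zg38) (kg xg12 yg50 zg54) (kg xg12 yg51 zg3) (kg xg12 yg50 zg59) (kg xg9 yg29 zg9) (kg xg6 yg4 zg8) (kg xg12 yg51 zg11) (kg xg6 yg22 zg8) (kg xg6 yg23 zg50) (kg xg9 yg5 zg49) (kg xg3 yg19 zg42) (kg xg7 yg30 zg12) (kg xg9 yg23 zg57) (kg xg3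 yg53 zg26) (kg xg3 yg19 zg44) (kg xg12 yg51 zg22) (kg xg3 yg19 zg60) (kg xg12 yg51 zg27) (kg xg3 yg29 zg40) (kg xg3 yg19 zg46) (kg xg12 yg51 zg35) (kg xg9 yg16 zg58) (kg xg10 yg25 zg26) (kg xg7 yg38 zg8) (kg xg7 yg47 zg16) (kg xg3 yg19 zg50) (kg xg12 yg51 zg44) (kg xg12 yg51 zg19) (kg xg11 yg43 zg34) (kg xg12 yg51 zg49) (kg xg3 yg23 zg21) (kg xg12 yg51 zg50) (kg xg9 yg27 zg53) (kg xg3 yg19 zg53) (kg xg12 yg52 zg0) (kg xg12 yg51 zg23) (kg xg11 yg43 zg18) (kg xg9 yg27 zg30) (kg xg9 yg28 zg1) (kg xg4 yg48 zg0) (kg xg12 yg52 zg12) (kg xg4 yg40 zg48) (kg xg6 yg17 zg39) (kg xg12 yg52 zg13) (kg xg6 yg12 zg51) (kg xg9 yg27 zg55) (kg xg3 yg19 zg59) (kg xg12 yg52 zg27) (kg xg12 yg52 zg32) (kg xg12 yg51 zg28) (kg xg9 yg24 zg55) (kg xg6 yg42 zg41) (kg xg4 yg43 zg32) (kg xg4 yg43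 zg29) (kg xg12 yg52 zg39) (kg xg12 yg33 zg16) (kg xg12 yg52 zg44) (kg xg12 yg20 zg60) (kg xg12 yg52 zg49) (kg xg11 yg12 zg13) (kg xg12 yg21 zg18)) (@D3.rec (fun _ => Pt) (kg xg11 yg19 zg54) (kg xg11 yg12 zg16) (kg xg6 yg17 zg48) (kg xg12 yg52 zg58) (kg xg3 yg20 zg11) (kg xg12 yg52 zg59) (kg xg12 yg53 zg5) (kg xg12 yg53 zg0) (kg xg9 yg29 zg52) (kg xg3 yg20 zg12) (kg xg11 yg19 zg10) (kg xg6 yg27 zg1) (kg xg6 yg28 zg6) (kg xg3 yg23 zg60) (kg xg3 yg20 zg33) (kg xg5 yg50 zg29) (kg xg9 yg13 zg33) (kg xg3 yg20 zg17) (kg xg9 yg13 zg29) (kg xg12 yg40 zg52) (kg xg9 yg11 zg2) (kg xg4 yg38 zg4) (kg xg3 yg20 zg34) (kg xg3 yg20 zg25) (kg xg3 yg20 zg20) (kg xg12 yg53 zg22) (kg xg9 yg11 zg33) (kg xg3 yg20 zg21) (kg xg12 yg53 zg30) (kg xg9 yg11 zg31) (kg xg11 yg49 zg26) (kg xg3 yg20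 zg40) (kg xg6 yg28 zg51) (kg xg9 yg48 zg57) (kg xg6 yg10 zg57) (kg xg11 yg25 zg44) (kg xg9 yg11 zg20) (kg xg3 yg20 zg26) (kg xg12 yg53 zg45) (kg xg9 yg11 zg18) (kg xg4 yg30 zg34) (kg xg12 yg24 zg11) (kg xg3 yg20 zg28) (kg xg12 yg53 zg53) (kg xg8 yg58 zg49) (kg xg12 yg47 zg23) (kg xg6 yg46 zg49) (kg xg5 yg27 zg12) (kg xg9 yg11 zg15) (kg xg10 yg3 zg52) (kg xg12 yg53 zg33) (kg xg10 yg4 zg3) (kg xg5 yg27 zg7) (kg xg10 yg43 zg14) (kg xg3 yg20 zg38) (kg xg12 yg54 zg6) (kg xg3 yg20 zg39) (kg xg3 yg20 zg35) (kg xg12 yg54 zg12) (kg xg12 yg54 zg17) (kg xg5 yg42 zg52) (kg xg12 yg24 zg8)) (@D3.rec (fun _ => Pt) (kg xg11 yg49 zg32) (kg xg12 yg39 zg11) (kg xg12 yg54 zg7) (kg xg12 yg54 zg26) (kg xg12 yg54 zg13) (kg xg12 yg53 zg32) (kg xg5 yg57 zg21) (kg xg6 yg32 zg40) (kg xg11 yg56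 zg25) (kg xg3 yg20 zg41) (kg xg12 yg54 zg36) (kg xg12 yg54 zg40) (kg xg11 yg36 zg41) (kg xg9 yg31 zg32) (kg xg6 yg7 zg18) (kg xg9 yg13 zg3) (kg xg9 yg31 zg30) (kg xg12 yg54 zg51) (kg xg3 yg20 zg45) (kg xg12 yg54 zg53) (kg xg12 yg54 zg57) (kg xg12 yg54 zg48) (kg xg3 yg20 zg46) (kg xg5 yg42 zg3) (kg xg11 yg50 zg23) (kg xg9 yg30 zg31) (kg xg3 yg21 zg52) (kg xg11 yg22 zg46) (kg xg3 yg21 zg29) (kg xg4 yg40 zg5) (kg xg3 yg20 zg58) (kg xg3 yg20 zg49) (kg xg12 yg55 zg11) (kg xg9 yg29 zg8) (kg xg9 yg31 zg28) (kg xg3 yg20 zg50) (kg xg11 yg51 zg16) (kg xg9 yg31 zg27) (kg xg5 yg47 zg12) (kg xg11 yg33 zg11) (kg xg3 yg21 zg4) (kg xg9 yg13 zg21) (kg xg9 yg31 zg17) (kg xg11 yg49 zg53) (kg xg12 yg9 zg23) (kg xg9 yg13 zg28) (kg xg9 yg31 zg14) (kg xg3 yg20 zg56) (kg xg10 yg43 zg1) (kg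 xg12 yg55 zg30) (kg xg11 yg0 zg51) (kg xg3 yg20 zg57) (kg xg12 yg55 zg34) (kg xg6 yg20 zg42) (kg xg12 yg55 zg37) (kg xg5 yg27 zg20) (kg xg3 yg21 zg5) (kg xg12 yg55 zg43) (kg xg9 yg43 zg61) (kg xg9 yg31 zg46) (kg xg3 yg21 zg3) (kg xg9 yg31 zg45)) (@D3.rec (fun _ => Pt) (kg xg5 yg27 zg10) (kg xg11 yg55 zg57) (kg xg12 yg55 zg52) (kg xg8 yg11 zg33) (kg xg9 yg31 zg52) (kg xg3 yg21 zg6) (kg xg9 yg31 zg51) (kg xg12 yg55 zg59) (kg xg12 yg56 zg1) (kg xg3 yg21 zg9) (kg xg12 yg56 zg2) (kg xg12 yg56 zg11) (kg xg12 yg56 zg6) (kg xg12 yg56 zg16) (kg xg11 yg22 zg57) (kg xg5 yg7 zg37) (kg xg4 yg5 zg56) (kg xg5 yg7 zg33) (kg xg3 yg23 zg43) (kg xg3 yg23 zg48) (kg xg3 yg23 zg52) (kg xg10 yg5 zg18) (kg xg10 yg18 zg18) (kg xg6 yg42 zg21) (kg xg6 yg49 zg43) (kg xg3 yg24 zg3) (kg xg3 yg21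 zg23) (kg xg3 yg24 zg5) (kg xg12 yg56 zg25) (kg xg10 yg44 zg47) (kg xg4 yg49 zg34) (kg xg9 yg46 zg52) (kg xg6 yg46 zg52) (kg xg6 yg46 zg53) (kg xg3 yg21 zg26) (kg xg11 yg54 zg49) (kg xg4 yg49 zg26) (kg xg12 yg56 zg35) (kg xg9 yg50 zg33) (kg xg4 yg49 zg19) (kg xg6 yg22 zg30) (kg xg9 yg32 zg25) (kg xg3 yg21 zg30) (kg xg12 yg56 zg43) (kg xg9 yg32 zg24) (kg xg9 yg50 zg34) (kg xg4 yg40 zg61) (kg xg4 yg49 zg4) (kg xg4 yg40 zg56) (kg xg6 yg44 zg61) (kg xg4 yg40 zg58) (kg xg6 yg46 zg32) (kg xg3 yg21 zg36) (kg xg6 yg46 zg34) (kg xg5 yg50 zg23) (kg xg10 yg48 zg21) (kg xg10 yg27 zg19) (kg xg9 yg16 zg50) (kg xg11 yg35 zg13) (kg xg9 yg32 zg6) (kg xg9 yg24 zg10) (kg xg3 yg46 zg46)) (@D3.rec (fun _ => Pt) (kg xg3 yg23 zg51) (kg xg9 yg17 zg3) (kg xg3 yg21 zg43) (kg xg6 yg53 zg17) (kg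 xg12 yg57 zg3) (kg xg12 yg57 zg7) (kg xg9 yg27 zg40) (kg xg3 yg21 zg44) (kg xg12 yg57 zg16) (kg xg12 yg57 zg20) (kg xg9 yg23 zg41) (kg xg3 yg21 zg45) (kg xg12 yg57 zg26) (kg xg4 yg45 zg26) (kg xg12 yg57 zg30) (kg xg9 yg21 zg18) (kg xg9 yg27 zg11) (kg xg12 yg43 zg59) (kg xg7 yg44 zg11) (kg xg12 yg57 zg39) (kg xg5 yg10 zg27) (kg xg3 yg21 zg50) (kg xg12 yg57 zg46) (kg xg11 yg5 zg24) (kg xg12 yg57 zg41) (kg xg3 yg21 zg51) (kg xg12 yg57 zg57) (kg xg9 yg6 zg0) (kg xg12 yg57 zg59) (kg xg9 yg1 zg11) (kg xg5 yg35 zg9) (kg xg5 yg30 zg46) (kg xg9 yg32 zg27) (kg xg3 yg21 zg56) (kg xg5 yg48 zg33) (kg xg5 yg38 zg3) (kg xg12 yg58 zg8) (kg xg12 yg58 zg10) (kg xg5 yg30 zg24) (kg xg6 yg21 zg51) (kg xg3 yg21 zg60) (kg xg12 yg58 zg15) (kg xg4 yg10 zg25) (kg xg3 yg22 zg1) (kg xg6 yg27 zg8)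 (kg xg12 yg58 zg19) (kg xg12 yg58 zg22) (kg xg4 yg52 zg42) (kg xg12 yg14 zg14) (kg xg9 yg19 zg23) (kg xg3 yg22 zg6) (kg xg12 yg58 zg26) (kg xg12 yg58 zg30) (kg xg12 yg2 zg2) (kg xg12 yg58 zg34) (kg xg12 yg58 zg37) (kg xg12 yg13 zg55) (kg xg12 yg20 zg21) (kg xg12 yg32 zg54) (kg xg12 yg58 zg11) (kg xg3 yg22 zg11) (kg xg6 yg34 zg28)) (@D3.rec (fun _ => Pt) (kg xg12 yg58 zg47) (kg xg9 yg4 zg59) (kg xg7 yg20 zg7) (kg xg12 yg21 zg48) (kg xg3 yg27 zg51) (kg xg7 yg20 zg6) (kg xg7 yg26 zg13) (kg xg3 yg22 zg15) (kg xg12 yg58 zg57) (kg xg7 yg26 zg25) (kg xg9 yg32 zg61) (kg xg3 yg22 zg16) (kg xg9 yg32 zg60) (kg xg12 yg15 zg56) (kg xg9 yg19 zg19) (kg xg6 yg9 zg34) (kg xg3 yg22 zg18) (kg xg12 yg59 zg13) (kg xg10 yg56 zg28) (kg xg10 yg52 zg4) (kg xg9 yg27 zg56) (kg xg3 yg22 zg19)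 (kg xg6 yg9 zg47) (kg xg3 yg22 zg20) (kg xg6 yg9 zg46) (kg xg8 yg37 zg15) (kg xg9 yg29 zg53) (kg xg3 yg22 zg21) (kg xg6 yg49 zg8) (kg xg12 yg59 zg32) (kg xg12 yg0 zg21) (kg xg4 yg9 zg49) (kg xg4 yg52 zg31) (kg xg3 yg22 zg24) (kg xg12 yg33 zg21) (kg xg6 yg49 zg14) (kg xg3 yg22 zg25) (kg xg6 yg49 zg13) (kg xg8 yg12 zg61) (kg xg5 yg44 zg33) (kg xg8 yg35 zg18) (kg xg4 yg18 zg18) (kg xg4 yg53 zg41) (kg xg6 yg17 zg56) (kg xg6 yg17 zg41) (kg xg3 yg22 zg31) (kg xg6 yg12 zg58) (kg xg4 yg42 zg25) (kg xg12 yg59 zg54) (kg xg12 yg59 zg57) (kg xg12 yg59 zg61) (kg xg6 yg23 zg45) (kg xg12 yg20 zg28) (kg xg13 yg0 zg5) (kg xg6 yg23 zg61) (kg xg13 yg0 zg12) (kg xg13 yg0 zg15) (kg xg13 yg0 zg6) (kg xg4 yg42 zg30) (kg xg12 yg59 zg49) (kg xg3 yg22 zg43) (kg xg8 yg50 zg29)) (@D3.rec (fun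 _ => Pt) (kg xg9 yg21 zg9) (kg xg6 yg36 zg30) (kg xg9 yg55 zg32) (kg xg9 yg21 zg40) (kg xg13 yg0 zg30) (kg xg12 yg1 zg23) (kg xg6 yg19 zg60) (kg xg4 yg43 zg12) (kg xg6 yg19 zg15) (kg xg6 yg33 zg1) (kg xg13 yg0 zg36) (kg xg12 yg59 zg10) (kg xg6 yg48 zg37) (kg xg3 yg22 zg49) (kg xg6 yg48 zg36) (kg xg6 yg31 zg2) (kg xg13 yg0 zg47) (kg xg3 yg23 zg55) (kg xg3 yg23 zg57) (kg xg8 yg0 zg14) (kg xg6 yg29 zg44) (kg xg12 yg32 zg29) (kg xg6 yg31 zg15) (kg xg6 yg30 zg14) (kg xg6 yg29 zg49) (kg xg7 yg35 zg53) (kg xg3 yg44 zg56) (kg xg7 yg30 zg38) (kg xg5 yg52 zg12) (kg xg9 yg30 zg28) (kg xg3 yg42 zg61) (kg xg6 yg20 zg37) (kg xg6 yg54 zg0) (kg xg12 yg32 zg24) (kg xg3 yg43 zg5) (kg xg6 yg27 zg3) (kg xg12 yg30 zg15) (kg xg8 yg0 zg20) (kg xg3 yg23 zg6) (kg xg13 yg0 zg48) (kg xg13 yg1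 zg1) (kg xg6 yg32 zg43) (kg xg6 yg46 zg24) (kg xg6 yg31 zg7) (kg xg6 yg18 zg40) (kg xg3 yg28 zg40) (kg xg11 yg40 zg42) (kg xg13 yg0 zg49) (kg xg8 yg0 zg33) (kg xg13 yg1 zg6) (kg xg6 yg21 zg49) (kg xg3 yg23 zg15) (kg xg11 yg46 zg45) (kg xg6 yg42 zg34) (kg xg6 yg21 zg54) (kg xg6 yg21 zg58) (kg xg6 yg21 zg50) (kg xg12 yg31 zg24) (kg xg6 yg22 zg15) (kg xg4 yg43 zg7) (kg xg12 yg45 zg18) (kg xg4 yg44 zg29)) (@D3.rec (fun _ => Pt) (kg xg12 yg52 zg22) (kg xg9 yg21 zg57) (kg xg5 yg55 zg12) (kg xg3 yg23 zg22) (kg xg4 yg36 zg40) (kg xg11 yg57 zg54) (kg xg13 yg1 zg21) (kg xg3 yg23 zg24) (kg xg13 yg1 zg23) (kg xg6 yg30 zg56) (kg xg6 yg26 zg31) (kg xg3 yg23 zg26) (kg xg13 yg1 zg26) (kg xg4 yg43 zg34) (kg xg11 yg34 zg53) (kg xg3 yg23 zg28) (kg xg13 yg0 zg57) (kg xg5 yg53 zg46) (kg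 xg6 yg16 zg3) (kg xg3 yg23 zg31) (kg xg12 yg48 zg57) (kg xg11 yg54 zg53) (kg xg12 yg58 zg12) (kg xg9 yg50 zg31) (kg xg11 yg28 zg52) (kg xg6 yg26 zg28) (kg xg4 yg41 zg45) (kg xg5 yg7 zg23) (kg xg6 yg25 zg50) (kg xg5 yg50 zg11) (kg xg13 yg1 zg42) (kg xg12 yg56 zg24) (kg xg3 yg23 zg38) (kg xg10 yg45 zg41) (kg xg6 yg25 zg49) (kg xg11 yg45 zg25) (kg xg13 yg1 zg47) (kg xg7 yg43 zg16) (kg xg3 yg23 zg41) (kg xg10 yg18 zg50) (kg xg7 yg43 zg14) (kg xg13 yg1 zg33) (kg xg10 yg4 zg45) (kg xg9 yg20 zg37) (kg xg13 yg1 zg57) (kg xg7 yg27 zg15) (kg xg6 yg30 zg8) (kg xg4 yg43 zg5) (kg xg4 yg44 zg4) (kg xg12 yg28 zg33) (kg xg10 yg17 zg45) (kg xg6 yg42 zg29) (kg xg4 yg48 zg23) (kg xg12 yg29 zg52) (kg xg6 yg21 zg53) (kg xg4 yg48 zg21) (kg xg6 yg26 zg5) (kg xg11 yg59 zg44) (kg xg11 yg59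 zg43) (kg xg6 yg21 zg60) (kg xg12 yg9 zg30) (kg xg9 yg15 zg41)) (@D3.rec (fun _ => Pt) (kg xg11 yg26 zg19) (kg xg13 yg1 zg5) (kg xg4 yg36 zg48) (kg xg13 yg2 zg11) (kg xg9 yg5 zg40) (kg xg12 yg56 zg26) (kg xg6 yg6 zg7) (kg xg12 yg54 zg1) (kg xg12 yg56 zg30) (kg xg10 yg18 zg3) (kg xg11 yg26 zg0) (kg xg12 yg53 zg13) (kg xg9 yg32 zg20) (kg xg9 yg20 zg40) (kg xg10 yg34 zg35) (kg xg3 yg24 zg6) (kg xg11 yg57 zg32) (kg xg13 yg2 zg26) (kg xg6 yg12 zg12) (kg xg6 yg20 zg20) (kg xg6 yg20 zg5) (kg xg4 yg43 zg15) (kg xg6 yg26 zg8) (kg xg3 yg27 zg54) (kg xg3 yg24 zg22) (kg xg13 yg2 zg35) (kg xg6 yg53 zg51) (kg xg3 yg25 zg9) (kg xg6 yg47 zg40) (kg xg3 yg31 zg55) (kg xg13 yg2 zg42) (kg xg13 yg2 zg45) (kg xg3 yg47 zg35) (kg xg13 yg2 zg49) (kg xg9 yg9 zg10) (kg xg3 yg24 zg29) (kg xg7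 yg47 zg8) (kg xg3 yg24 zg46) (kg xg13 yg2 zg58) (kg xg3 yg25 zg36) (kg xg3 yg24 zg50) (kg xg3 yg25 zg40) (kg xg7 yg32 zg36) (kg xg5 yg59 zg56) (kg xg3 yg24 zg36) (kg xg7 yg26 zg20) (kg xg7 yg32 zg50) (kg xg7 yg34 zg32) (kg xg13 yg3 zg7) (kg xg3 yg25 zg50) (kg xg13 yg3 zg12) (kg xg7 yg1 zg50) (kg xg3 yg24 zg41) (kg xg13 yg3 zg17) (kg xg7 yg26 zg16) (kg xg11 yg29 zg40) (kg xg9 yg48 zg22) (kg xg13 yg3 zg22) (kg xg13 yg3 zg25) (kg xg13 yg3 zg29) (kg xg7 yg18 zg36) (kg xg7 yg30 zg44)) (@D3.rec (fun _ => Pt) (kg xg7 yg55 zg22) (kg xg3 yg55 zg36) (kg xg13 yg2 zg57) (kg xg3 yg24 zg47) (kg xg13 yg3 zg43) (kg xg6 yg56 zg55) (kg xg7 yg15 zg17) (kg xg3 yg38 zg59) (kg xg3 yg24 zg54) (kg xg13 yg3 zg51) (kg xg13 yg3 zg55) (kg xg7 yg24 zg32) (kg xg3 yg24 zg55) (kg xg13 yg4 zg0) (kg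 xg12 yg26 zg29) (kg xg13 yg4 zg4) (kg xg7 yg32 zg12) (kg xg13 yg3 zg56) (kg xg13 yg4 zg9) (kg xg13 yg3 zg4) (kg xg13 yg4 zg13) (kg xg7 yg16 zg58) (kg xg3 yg32 zg27) (kg xg13 yg4 zg16) (kg xg13 yg4 zg17) (kg xg7 yg11 zg50) (kg xg6 yg30 zg30) (kg xg13 yg4 zg19) (kg xg6 yg54 zg11) (kg xg7 yg36 zg30) (kg xg6 yg52 zg56) (kg xg6 yg31 zg0) (kg xg3 yg27 zg52) (kg xg7 yg33 zg15) (kg xg7 yg26 zg18) (kg xg13 yg4 zg27) (kg xg6 yg54 zg17) (kg xg13 yg4 zg33) (kg xg3 yg25 zg22) (kg xg3 yg56 zg44) (kg xg6 yg34 zg9) (kg xg3 yg25 zg13) (kg xg11 yg59 zg57) (kg xg13 yg4 zg41) (kg xg6 yg25 zg37) (kg xg6 yg19 zg5) (kg xg3 yg28 zg29) (kg xg13 yg4 zg44) (kg xg7 yg20 zg58) (kg xg13 yg4 zg49) (kg xg7 yg5 zg31) (kg xg13 yg4 zg53) (kg xg6 yg54 zg14) (kg xg13 yg4 zg56) (kg xg6 yg52 zg30) (kg xg13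 yg4 zg61) (kg xg3 yg56 zg48) (kg xg7 yg25 zg48) (kg xg13 yg5 zg4) (kg xg13 yg5 zg6) (kg xg7 yg5 zg24) (kg xg3 yg25 zg25)) (@D3.rec (fun _ => Pt) (kg xg3 yg35 zg58) (kg xg7 yg8 zg37) (kg xg3 yg35 zg15) (kg xg7 yg18 zg43) (kg xg6 yg18 zg59) (kg xg7 yg0 zg49) (kg xg3 yg25 zg34) (kg xg12 yg1 zg55) (kg xg13 yg5 zg15) (kg xg5 yg59 zg2) (kg xg13 yg5 zg19) (kg xg7 yg20 zg50) (kg xg7 yg4 zg13) (kg xg13 yg3 zg52) (kg xg7 yg31 zg54) (kg xg7 yg4 zg16) (kg xg13 yg5 zg29) (kg xg4 yg49 zg44) (kg xg13 yg5 zg32) (kg xg3 yg25 zg43) (kg xg13 yg5 zg39) (kg xg13 yg5 zg30) (kg xg12 yg37 zg15) (kg xg13 yg1 zg50) (kg xg13 yg3 zg10) (kg xg3 yg25 zg46) (kg xg13 yg5 zg49) (kg xg13 yg3 zg8) (kg xg13 yg5 zg53) (kg xg6 yg57 zg53) (kg xg7 yg4 zg22) (kg xg13 yg5 zg56) (kg xg7 yg18 zg44) (kg xg7 yg18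 zg33) (kg xg3 yg25 zg49) (kg xg13 yg6 zg5) (kg xg13 yg3 zg13) (kg xg7 yg34 zg45) (kg xg6 yg57 zg1) (kg xg7 yg2 zg1) (kg xg3 yg34 zg44) (kg xg3 yg32 zg6) (kg xg3 yg38 zg5) (kg xg3 yg32 zg4) (kg xg7 yg27 zg37) (kg xg3 yg25 zg57) (kg xg7 yg27 zg36) (kg xg11 yg26 zg52) (kg xg13 yg6 zg26) (kg xg3 yg43 zg4) (kg xg12 yg31 zg50) (kg xg6 yg57 zg60) (kg xg7 yg11 zg57) (kg xg7 yg11 zg54) (kg xg5 yg53 zg47) (kg xg3 yg26 zg0) (kg xg9 yg21 zg52) (kg xg5 yg51 zg20) (kg xg13 yg6 zg37) (kg xg7 yg0 zg29) (kg xg7 yg1 zg0) (kg xg5 yg48 zg18)) (@D3.rec (fun _ => Pt) (kg xg6 yg25 zg61) (kg xg13 yg6 zg44) (kg xg7 yg33 zg14) (kg xg13 yg6 zg49) (kg xg5 yg59 zg54) (kg xg13 yg6 zg53) (kg xg4 yg48 zg55) (kg xg7 yg0 zg57) (kg xg6 yg52 zg28) (kg xg3 yg55 zg29) (kg xg13 yg5 zg12) (kg xg3 yg42 zg52)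 (kg xg7 yg51 zg9) (kg xg6 yg52 zg52) (kg xg3 yg26 zg9) (kg xg7 yg55 zg20) (kg xg6 yg59 zg47) (kg xg6 yg52 zg38) (kg xg7 yg3 zg15) (kg xg7 yg36 zg17) (kg xg7 yg30 zg21) (kg xg3 yg26 zg13) (kg xg13 yg7 zg21) (kg xg7 yg30 zg19) (kg xg7 yg41 zg55) (kg xg7 yg47 zg5) (kg xg3 yg27 zg31) (kg xg3 yg26 zg15) (kg xg13 yg7 zg36) (kg xg3 yg27 zg29) (kg xg7 yg54 zg33) (kg xg3 yg26 zg20) (kg xg13 yg7 zg41) (kg xg13 yg7 zg44) (kg xg6 yg57 zg29) (kg xg13 yg7 zg45) (kg xg7 yg39 zg22) (kg xg3 yg31 zg60) (kg xg3 yg41 zg46) (kg xg3 yg37 zg42) (kg xg7 yg21 zg1) (kg xg3 yg26 zg24) (kg xg13 yg7 zg54) (kg xg13 yg7 zg57) (kg xg13 yg4 zg2) (kg xg7 yg53 zg31) (kg xg3 yg47 zg34) (kg xg3 yg27 zg36) (kg xg13 yg8 zg1) (kg xg13 yg8 zg4) (kg xg3 yg26 zg30) (kg xg13 yg8 zg12) (kg xg13 yg8 zg2) (kg xg7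 yg53 zg22) (kg xg3 yg26 zg32) (kg xg13 yg8 zg20) (kg xg7 yg53 zg20) (kg xg13 yg8 zg24) (kg xg13 yg4 zg10) (kg xg3 yg27 zg49) (kg xg13 yg8 zg27) (kg xg3 yg40 zg19)) (@D3.rec (fun _ => Pt) (kg xg7 yg11 zg3) (kg xg3 yg26 zg35) (kg xg7 yg52 zg31) (kg xg7 yg53 zg25) (kg xg7 yg36 zg3) (kg xg7 yg11 zg11) (kg xg7 yg11 zg18) (kg xg3 yg26 zg39) (kg xg3 yg37 zg30) (kg xg3 yg26 zg44) (kg xg7 yg25 zg1) (kg xg3 yg26 zg40) (kg xg7 yg25 zg0) (kg xg11 yg26 zg58) (kg xg13 yg8 zg53) (kg xg12 yg49 zg33) (kg xg13 yg8 zg58) (kg xg6 yg54 zg30) (kg xg13 yg8 zg46) (kg xg3 yg26 zg45) (kg xg6 yg52 zg18) (kg xg13 yg8 zg45) (kg xg13 yg7 zg42) (kg xg7 yg34 zg61) (kg xg7 yg37 zg54) (kg xg13 yg9 zg3) (kg xg7 yg38 zg45) (kg xg13 yg9 zg6) (kg xg7 yg38 zg46) (kg xg7 yg53 zg10) (kg xg3 yg26 zg51) (kg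 xg6 yg0 zg15) (kg xg7 yg53 zg8) (kg xg7 yg15 zg26) (kg xg7 yg50 zg56) (kg xg13 yg7 zg52) (kg xg7 yg51 zg8) (kg xg6 yg54 zg34) (kg xg7 yg16 zg20) (kg xg3 yg26 zg54) (kg xg13 yg9 zg26) (kg xg7 yg53 zg15) (kg xg7 yg30 zg17) (kg xg7 yg16 zg26) (kg xg3 yg52 zg41) (kg xg7 yg5 zg3) (kg xg3 yg31 zg33) (kg xg7 yg5 zg11) (kg xg3 yg26 zg59) (kg xg13 yg9 zg40) (kg xg7 yg20 zg16) (kg xg7 yg30 zg1) (kg xg5 yg49 zg39) (kg xg7 yg43 zg29) (kg xg7 yg14 zg0) (kg xg7 yg7 zg49) (kg xg3 yg27 zg22) (kg xg13 yg9 zg52) (kg xg7 yg13 zg9) (kg xg4 yg44 zg10) (kg xg3 yg27 zg3) (kg xg7 yg32 zg1)) (@D3.rec (fun _ => Pt) (kg xg13 yg9 zg61) (kg xg13 yg9 zg54) (kg xg3 yg27 zg4) (kg xg13 yg10 zg10) (kg xg7 yg42 zg16) (kg xg7 yg30 zg16) (kg xg7 yg37 zg32) (kg xg3 yg27 zg6) (kg xg9 yg26 zg17) (kg xg7 yg37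 zg30) (kg xg7 yg11 zg9) (kg xg13 yg10 zg23) (kg xg7 yg37 zg34) (kg xg7 yg30 zg11) (kg xg7 yg47 zg2) (kg xg7 yg42 zg57) (kg xg7 yg41 zg16) (kg xg13 yg10 zg33) (kg xg3 yg27 zg12) (kg xg5 yg28 zg8) (kg xg13 yg10 zg31) (kg xg7 yg42 zg50) (kg xg3 yg27 zg13) (kg xg9 yg25 zg52) (kg xg7 yg41 zg37) (kg xg7 yg16 zg24) (kg xg3 yg27 zg14) (kg xg11 yg50 zg44) (kg xg7 yg15 zg47) (kg xg12 yg32 zg61) (kg xg10 yg27 zg4) (kg xg7 yg30 zg53) (kg xg3 yg27 zg17) (kg xg13 yg10 zg51) (kg xg7 yg30 zg51) (kg xg13 yg10 zg55) (kg xg7 yg43 zg11) (kg xg3 yg27 zg19) (kg xg7 yg43 zg10) (kg xg9 yg5 zg53) (kg xg8 yg0 zg44) (kg xg3 yg27 zg20) (kg xg13 yg11 zg2) (kg xg11 yg43 zg26) (kg xg3 yg27 zg21) (kg xg13 yg11 zg11) (kg xg13 yg7 zg26) (kg xg13 yg7 zg25) (kg xg7 yg13 zg48) (kg xg13 yg11 zg20) (kg xg13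 yg11 zg24) (kg xg3 yg27 zg26) (kg xg3 yg27 zg23) (kg xg13 yg11 zg33) (kg xg13 yg11 zg36) (kg xg6 yg51 zg36) (kg xg6 yg57 zg31) (kg xg3 yg27 zg25) (kg xg7 yg37 zg25) (kg xg13 yg11 zg42) (kg xg13 yg11 zg46) (kg xg13 yg11 zg34)) (@D3.rec (fun _ => Pt) (kg xg13 yg11 zg51) (kg xg3 yg39 zg8) (kg xg13 yg11 zg16) (kg xg13 yg11 zg59) (kg xg13 yg3 zg61) (kg xg13 yg12 zg0) (kg xg13 yg10 zg29) (kg xg13 yg11 zg60) (kg xg3 yg39 zg53) (kg xg11 yg46 zg4) (kg xg13 yg3 zg46) (kg xg3 yg27 zg30) (kg xg13 yg12 zg16) (kg xg13 yg3 zg44) (kg xg13 yg7 zg37) (kg xg13 yg12 zg23) (kg xg3 yg27 zg33) (kg xg3 yg34 zg52) (kg xg3 yg38 zg58) (kg xg3 yg27 zg34) (kg xg13 yg12 zg26) (kg xg13 yg4 zg12) (kg xg7 yg45 zg61) (kg xg7 yg46 zg1) (kg xg13 yg12 zg36) (kg xg13 yg12 zg39) (kg xg3 yg27 zg48) (kg xg3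 yg27 zg37) (kg xg13 yg11 zg29) (kg xg3 yg27 zg38) (kg xg6 yg53 zg10) (kg xg3 yg52 zg38) (kg xg3 yg27 zg50) (kg xg3 yg27 zg40) (kg xg13 yg12 zg56) (kg xg13 yg3 zg50) (kg xg6 yg54 zg59) (kg xg6 yg55 zg17) (kg xg3 yg38 zg51) (kg xg13 yg8 zg47) (kg xg13 yg13 zg4) (kg xg6 yg58 zg40) (kg xg7 yg45 zg44) (kg xg3 yg27 zg45) (kg xg3 yg55 zg27) (kg xg7 yg9 zg13) (kg xg3 yg27 zg47) (kg xg7 yg34 zg48) (kg xg13 yg13 zg13) (kg xg13 yg13 zg17) (kg xg13 yg11 zg31) (kg xg13 yg13 zg21) (kg xg6 yg57 zg36) (kg xg6 yg53 zg31) (kg xg13 yg13 zg25) (kg xg13 yg2 zg61) (kg xg6 yg22 zg47) (kg xg3 yg35 zg8) (kg xg8 yg24 zg52) (kg xg13 yg13 zg32) (kg xg13 yg2 zg39) (kg xg13 yg13 zg37)) (@D3.rec (fun _ => Pt) (kg xg3 yg42 zg58) (kg xg13 yg13 zg42) (kg xg3 yg35 zg14) (kg xg3 yg27 zg57) (kg xg3 yg56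 zg42) (kg xg3 yg41 zg36) (kg xg7 yg29 zg61) (kg xg13 yg13 zg53) (kg xg13 yg13 zg56) (kg xg7 yg7 zg45) (kg xg13 yg13 zg60) (kg xg6 yg58 zg34) (kg xg3 yg37 zg12) (kg xg3 yg53 zg48) (kg xg13 yg14 zg2) (kg xg7 yg8 zg12) (kg xg6 yg58 zg29) (kg xg3 yg28 zg2) (kg xg13 yg14 zg12) (kg xg10 yg13 zg13) (kg xg6 yg58 zg13) (kg xg3 yg38 zg27) (kg xg3 yg53 zg9) (kg xg6 yg58 zg12) (kg xg7 yg17 zg16) (kg xg7 yg37 zg6) (kg xg13 yg14 zg22) (kg xg7 yg13 zg41) (kg xg7 yg12 zg57) (kg xg6 yg58 zg17) (kg xg3 yg53 zg49) (kg xg13 yg14 zg31) (kg xg7 yg14 zg17) (kg xg6 yg58 zg11) (kg xg3 yg28 zg11) (kg xg13 yg14 zg39) (kg xg13 yg14 zg43) (kg xg3 yg53 zg50) (kg xg3 yg28 zg12) (kg xg7 yg16 zg57) (kg xg7 yg50 zg50) (kg xg3 yg29 zg2) (kg xg3 yg28 zg15) (kg xg13 yg14 zg52) (kg xg3 yg30 zg31) (kg xg3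 yg28 zg16) (kg xg7 yg10 zg33) (kg xg3 yg30 zg33) (kg xg3 yg45 zg51) (kg xg3 yg29 zg21) (kg xg13 yg15 zg3) (kg xg3 yg28 zg51) (kg xg13 yg15 zg5) (kg xg7 yg5 zg35) (kg xg3 yg28 zg24) (kg xg3 yg29 zg14) (kg xg3 yg53 zg31) (kg xg13 yg15 zg10) (kg xg3 yg28 zg32) (kg xg6 yg18 zg11) (kg xg3 yg45 zg26) (kg xg6 yg10 zg3)) (@D3.rec (fun _ => Pt) (kg xg4 yg47 zg54) (kg xg3 yg28 zg35) (kg xg6 yg20 zg50) (kg xg6 yg19 zg46) (kg xg6 yg20 zg53) (kg xg12 yg12 zg39) (kg xg12 yg12 zg41) (kg xg6 yg18 zg38) (kg xg6 yg18 zg18) (kg xg13 yg15 zg19) (kg xg13 yg15 zg20) (kg xg3 yg39 zg50) (kg xg7 yg18 zg30) (kg xg3 yg39 zg46) (kg xg3 yg53 zg32) (kg xg13 yg15 zg30) (kg xg3 yg28 zg49) (kg xg13 yg15 zg31) (kg xg8 yg38 zg54) (kg xg13 yg15 zg36) (kg xg3 yg28 zg50) (kg xg13 yg15 zg47) (kg xg7 yg9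 zg60) (kg xg13 yg15 zg51) (kg xg3 yg36 zg16) (kg xg6 yg21 zg15) (kg xg6 yg21 zg13) (kg xg3 yg28 zg56) (kg xg6 yg38 zg5) (kg xg6 yg21 zg33) (kg xg13 yg15 zg60) (kg xg6 yg11 zg49) (kg xg3 yg38 zg60) (kg xg3 yg38 zg22) (kg xg7 yg19 zg51) (kg xg3 yg28 zg60) (kg xg7 yg19 zg50) (kg xg13 yg16 zg11) (kg xg7 yg4 zg5) (kg xg3 yg28 zg61) (kg xg6 yg33 zg52) (kg xg13 yg16 zg21) (kg xg12 yg34 zg51) (kg xg7 yg32 zg27) (kg xg6 yg53 zg37) (kg xg13 yg16 zg27) (kg xg6 yg33 zg9) (kg xg3 yg46 zg15) (kg xg13 yg16 zg31) (kg xg12 yg33 zg33) (kg xg13 yg16 zg36) (kg xg13 yg16 zg34) (kg xg3 yg29 zg4) (kg xg13 yg16 zg47) (kg xg13 yg16 zg32) (kg xg3 yg30 zg17) (kg xg3 yg29 zg5) (kg xg7 yg22 zg18) (kg xg3 yg30 zg15) (kg xg13 yg16 zg53) (kg xg7 yg47 zg45) (kg xg3 yg42 zg2))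
def f_g_7 : D2 → D3 → Pt := @D2.rec (fun _ => D3 → Pt) (@D3.rec (fun _ => Pt) (kg xg12 yg34 zg50) (kg xg7 yg47 zg44) (kg xg3 yg30 zg30) (kg xg13 yg17 zg5) (kg xg3 yg30 zg28) (kg xg7 yg48 zg3) (kg xg7 yg30 zg56) (kg xg3 yg29 zg15) (kg xg13 yg17 zg9) (kg xg7 yg47 zg49) (kg xg3 yg46 zg10) (kg xg7 yg47 zg32) (kg xg3 yg44 zg30) (kg xg7 yg47 zg47) (kg xg3 yg46 zg54) (kg xg3 yg30 zg38) (kg xg3 yg45 zg40) (kg xg3 yg29 zg20) (kg xg3 yg45 zg39) (kg xg13 yg17 zg24) (kg xg7 yg10 zg16) (kg xg3 yg31 zg2) (kg xg13 yg17 zg30) (kg xg3 yg53 zg0) (kg xg7 yg15 zg55) (kg xg3 yg29 zg24) (kg xg13 yg17 zg39) (kg xg12 yg51 zg14) (kg xg12 yg45 zg54) (kg xg6 yg51 zg46) (kg xg9 yg23 zg51) (kg xg3 yg46 zg48) (kg xg3 yg29 zg27) (kg xg13 yg17 zg54) (kg xg6 yg51 zg47) (kg xg3 yg38 zg10) (kg xg3 yg30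 zg45) (kg xg3 yg34 zg29) (kg xg3 yg29 zg29) (kg xg3 yg29 zg35) (kg xg3 yg46 zg21) (kg xg3 yg29 zg31) (kg xg3 yg46 zg20) (kg xg7 yg59 zg26) (kg xg13 yg18 zg5) (kg xg7 yg19 zg13) (kg xg7 yg55 zg24) (kg xg7 yg12 zg29) (kg xg7 yg15 zg35) (kg xg6 yg53 zg6) (kg xg12 yg34 zg7) (kg xg13 yg15 zg0) (kg xg6 yg54 zg7) (kg xg13 yg18 zg18) (kg xg13 yg18 zg17) (kg xg3 yg29 zg41) (kg xg13 yg18 zg26) (kg xg13 yg18 zg15) (kg xg3 yg46 zg4) (kg xg3 yg29 zg42) (kg xg13 yg18 zg34) (kg xg3 yg46 zg2)) (@D3.rec (fun _ => Pt) (kg xg6 yg52 zg33) (kg xg7 yg37 zg23) (kg xg3 yg34 zg9) (kg xg13 yg17 zg21) (kg xg7 yg48 zg22) (kg xg7 yg15 zg38) (kg xg3 yg46 zg14) (kg xg3 yg29 zg45) (kg xg13 yg18 zg54) (kg xg3 yg46 zg12) (kg xg13 yg4 zg50) (kg xg7 yg24 zg44) (kg xg7 yg15 zg44) (kg xg7 yg28 zg51) (kg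 xg13 yg19 zg1) (kg xg7 yg22 zg39) (kg xg7 yg28 zg30) (kg xg3 yg30 zg19) (kg xg3 yg49 zg60) (kg xg7 yg15 zg59) (kg xg3 yg42 zg38) (kg xg7 yg21 zg43) (kg xg3 yg29 zg53) (kg xg6 yg40 zg4) (kg xg7 yg15 zg60) (kg xg3 yg29 zg54) (kg xg13 yg19 zg23) (kg xg3 yg51 zg26) (kg xg3 yg29 zg55) (kg xg13 yg19 zg30) (kg xg3 yg51 zg24) (kg xg7 yg17 zg9) (kg xg13 yg16 zg54) (kg xg6 yg32 zg55) (kg xg13 yg14 zg56) (kg xg13 yg19 zg37) (kg xg11 yg43 zg31) (kg xg13 yg19 zg40) (kg xg3 yg29 zg61) (kg xg13 yg19 zg47) (kg xg13 yg19 zg38) (kg xg3 yg51 zg20) (kg xg3 yg30 zg0) (kg xg13 yg19 zg55) (kg xg3 yg51 zg18) (kg xg7 yg16 zg3) (kg xg3 yg30 zg1) (kg xg7 yg33 zg22) (kg xg6 yg52 zg40) (kg xg3 yg30 zg3) (kg xg6 yg51 zg52) (kg xg13 yg20 zg6) (kg xg13 yg6 zg16) (kg xg3 yg30 zg11) (kg xg3 yg30 zg5)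 (kg xg13 yg4 zg37) (kg xg3 yg30 zg9) (kg xg5 yg51 zg25) (kg xg13 yg20 zg16) (kg xg13 yg20 zg20) (kg xg6 yg54 zg18) (kg xg13 yg0 zg54)) (@D3.rec (fun _ => Pt) (kg xg7 yg55 zg13) (kg xg7 yg5 zg12) (kg xg13 yg20 zg15) (kg xg3 yg30 zg10) (kg xg12 yg26 zg1) (kg xg7 yg43 zg36) (kg xg12 yg1 zg14) (kg xg3 yg30 zg12) (kg xg6 yg35 zg48) (kg xg4 yg40 zg32) (kg xg12 yg28 zg21) (kg xg11 yg45 zg21) (kg xg7 yg42 zg27) (kg xg7 yg42 zg8) (kg xg6 yg36 zg53) (kg xg9 yg25 zg47) (kg xg13 yg20 zg49) (kg xg13 yg16 zg52) (kg xg3 yg30 zg16) (kg xg13 yg20 zg55) (kg xg13 yg16 zg51) (kg xg7 yg41 zg31) (kg xg7 yg41 zg33) (kg xg3 yg30 zg18) (kg xg13 yg21 zg2) (kg xg13 yg16 zg60) (kg xg13 yg16 zg59) (kg xg7 yg22 zg22) (kg xg13 yg21 zg11) (kg xg13 yg21 zg15) (kg xg3 yg35 zg34) (kg xg12 yg36 zg6) (kg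 xg6 yg53 zg3) (kg xg3 yg30 zg25) (kg xg3 yg30 zg21) (kg xg13 yg21 zg24) (kg xg13 yg21 zg28) (kg xg3 yg30 zg22) (kg xg3 yg44 zg38) (kg xg7 yg5 zg55) (kg xg3 yg30 zg23) (kg xg12 yg36 zg5) (kg xg6 yg53 zg13) (kg xg13 yg21 zg39) (kg xg13 yg21 zg43) (kg xg3 yg39 zg48) (kg xg13 yg21 zg25) (kg xg13 yg21 zg48) (kg xg3 yg48 zg60) (kg xg13 yg21 zg6) (kg xg13 yg21 zg56) (kg xg13 yg21 zg58) (kg xg11 yg14 zg37) (kg xg7 yg32 zg10) (kg xg13 yg22 zg1) (kg xg3 yg52 zg22) (kg xg3 yg30 zg29) (kg xg7 yg52 zg1) (kg xg3 yg52 zg20) (kg xg7 yg47 zg42) (kg xg13 yg22 zg13) (kg xg7 yg46 zg49)) (@D3.rec (fun _ => Pt) (kg xg13 yg19 zg3) (kg xg13 yg22 zg19) (kg xg3 yg46 zg58) (kg xg11 yg41 zg47) (kg xg7 yg53 zg55) (kg xg7 yg11 zg1) (kg xg13 yg14 zg61) (kg xg3 yg30 zg34) (kg xg13 yg22 zg32) (kg xg7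 yg47 zg6) (kg xg3 yg45 zg3) (kg xg13 yg22 zg36) (kg xg7 yg16 zg33) (kg xg3 yg39 zg9) (kg xg7 yg22 zg13) (kg xg7 yg16 zg34) (kg xg3 yg45 zg0) (kg xg3 yg30 zg39) (kg xg3 yg42 zg27) (kg xg7 yg4 zg47) (kg xg13 yg22 zg43) (kg xg3 yg53 zg23) (kg xg13 yg22 zg49) (kg xg13 yg22 zg53) (kg xg3 yg30 zg56) (kg xg3 yg30 zg42) (kg xg13 yg21 zg20) (kg xg13 yg23 zg0) (kg xg3 yg30 zg43) (kg xg3 yg48 zg24) (kg xg13 yg17 zg13) (kg xg3 yg52 zg17) (kg xg3 yg30 zg58) (kg xg13 yg23 zg10) (kg xg3 yg52 zg46) (kg xg3 yg46 zg7) (kg xg7 yg10 zg6) (kg xg3 yg46 zg27) (kg xg7 yg5 zg10) (kg xg11 yg49 zg50) (kg xg7 yg48 zg61) (kg xg3 yg49 zg54) (kg xg7 yg11 zg58) (kg xg3 yg30 zg53) (kg xg3 yg39 zg51) (kg xg7 yg15 zg34) (kg xg7 yg37 zg37) (kg xg3 yg30 zg55) (kg xg3 yg46 zg36) (kg xg13 yg23 zg24) (kg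 xg13 yg23 zg27) (kg xg13 yg21 zg22) (kg xg13 yg23 zg31) (kg xg7 yg13 zg13) (kg xg3 yg48 zg50) (kg xg13 yg23 zg37) (kg xg3 yg48 zg29) (kg xg7 yg18 zg16) (kg xg7 yg11 zg55) (kg xg9 yg21 zg22) (kg xg13 yg23 zg45) (kg xg7 yg12 zg14)) (@D3.rec (fun _ => Pt) (kg xg3 yg46 zg34) (kg xg13 yg23 zg46) (kg xg7 yg40 zg15) (kg xg13 yg23 zg56) (kg xg7 yg11 zg61) (kg xg6 yg59 zg39) (kg xg13 yg17 zg7) (kg xg13 yg24 zg0) (kg xg13 yg24 zg3) (kg xg3 yg44 zg43) (kg xg3 yg31 zg9) (kg xg13 yg24 zg10) (kg xg6 yg53 zg12) (kg xg3 yg40 zg58) (kg xg7 yg0 zg6) (kg xg3 yg31 zg18) (kg xg11 yg30 zg14) (kg xg13 yg24 zg19) (kg xg6 yg54 zg12) (kg xg7 yg22 zg3) (kg xg6 yg53 zg58) (kg xg13 yg24 zg20) (kg xg13 yg9 zg21) (kg xg13 yg24 zg30) (kg xg7 yg48 zg42) (kg xg12 yg8 zg15) (kg xg7 yg28 zg25) (kg xg13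 yg24 zg39) (kg xg7 yg4 zg61) (kg xg3 yg41 zg40) (kg xg7 yg5 zg8) (kg xg13 yg24 zg46) (kg xg3 yg35 zg33) (kg xg7 yg29 zg0) (kg xg13 yg24 zg52) (kg xg7 yg4 zg54) (kg xg3 yg31 zg28) (kg xg13 yg25 zg0) (kg xg13 yg25 zg5) (kg xg13 yg9 zg36) (kg xg3 yg31 zg29) (kg xg3 yg54 zg6) (kg xg13 yg24 zg44) (kg xg7 yg27 zg57) (kg xg7 yg4 zg56) (kg xg3 yg56 zg15) (kg xg13 yg9 zg39) (kg xg7 yg3 zg10) (kg xg7 yg28 zg20) (kg xg6 yg51 zg60) (kg xg7 yg3 zg2) (kg xg13 yg25 zg18) (kg xg7 yg22 zg7) (kg xg7 yg21 zg25) (kg xg7 yg4 zg36) (kg xg7 yg16 zg35) (kg xg3 yg44 zg21) (kg xg13 yg25 zg29) (kg xg3 yg56 zg23) (kg xg7 yg53 zg45) (kg xg7 yg4 zg28) (kg xg3 yg31 zg43)) (@D3.rec (fun _ => Pt) (kg xg13 yg25 zg43) (kg xg13 yg25 zg48) (kg xg6 yg55 zg45) (kg xg3 yg31 zg44) (kg xg7 yg49 zg31) (kg xg13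 yg25 zg55) (kg xg7 yg22 zg29) (kg xg7 yg4 zg30) (kg xg3 yg31 zg47) (kg xg3 yg55 zg0) (kg xg3 yg37 zg33) (kg xg6 yg55 zg48) (kg xg13 yg6 zg14) (kg xg3 yg31 zg57) (kg xg13 yg26 zg2) (kg xg7 yg27 zg40) (kg xg13 yg26 zg7) (kg xg3 yg44 zg20) (kg xg7 yg21 zg48) (kg xg7 yg25 zg38) (kg xg13 yg26 zg15) (kg xg7 yg29 zg54) (kg xg13 yg26 zg20) (kg xg6 yg52 zg60) (kg xg3 yg31 zg59) (kg xg12 yg19 zg10) (kg xg13 yg26 zg29) (kg xg3 yg32 zg54) (kg xg7 yg15 zg29) (kg xg3 yg32 zg5) (kg xg13 yg26 zg32) (kg xg3 yg39 zg52) (kg xg6 yg52 zg7) (kg xg7 yg17 zg0) (kg xg4 yg20 zg40) (kg xg6 yg59 zg22) (kg xg7 yg18 zg9) (kg xg7 yg18 zg48) (kg xg3 yg39 zg45) (kg xg8 yg46 zg0) (kg xg3 yg32 zg19) (kg xg8 yg45 zg61) (kg xg10 yg16 zg8) (kg xg13 yg26 zg47) (kg xg7 yg9 zg42) (kg xg3 yg32 zg38) (kg xg7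 yg48 zg40) (kg xg7 yg15 zg33) (kg xg7 yg12 zg45) (kg xg3 yg32 zg23) (kg xg13 yg27 zg3) (kg xg7 yg12 zg43) (kg xg13 yg27 zg7) (kg xg7 yg8 zg53) (kg xg3 yg39 zg40) (kg xg6 yg59 zg61) (kg xg3 yg32 zg28) (kg xg13 yg27 zg14) (kg xg13 yg27 zg17) (kg xg13 yg27 zg19) (kg xg6 yg57 zg49) (kg xg7 yg16 zg41)) (@D3.rec (fun _ => Pt) (kg xg3 yg32 zg32) (kg xg7 yg16 zg40) (kg xg13 yg27 zg28) (kg xg13 yg27 zg31) (kg xg6 yg59 zg36) (kg xg7 yg12 zg36) (kg xg13 yg26 zg52) (kg xg11 yg11 zg37) (kg xg13 yg26 zg53) (kg xg8 yg45 zg41) (kg xg7 yg12 zg34) (kg xg13 yg14 zg21) (kg xg7 yg17 zg5) (kg xg7 yg12 zg20) (kg xg3 yg32 zg41) (kg xg13 yg14 zg18) (kg xg7 yg12 zg18) (kg xg7 yg16 zg46) (kg xg7 yg49 zg11) (kg xg7 yg53 zg3) (kg xg7 yg14 zg2) (kg xg6 yg15 zg9) (kg xg3 yg38 zg13) (kg xg6 yg58 zg10)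 (kg xg3 yg32 zg46) (kg xg13 yg27 zg57) (kg xg7 yg12 zg61) (kg xg3 yg32 zg47) (kg xg13 yg28 zg6) (kg xg7 yg12 zg59) (kg xg3 yg33 zg48) (kg xg3 yg32 zg48) (kg xg4 yg25 zg28) (kg xg3 yg33 zg46) (kg xg11 yg28 zg1) (kg xg7 yg40 zg28) (kg xg7 yg14 zg1) (kg xg7 yg40 zg30) (kg xg3 yg44 zg41) (kg xg3 yg33 zg60) (kg xg3 yg32 zg51) (kg xg13 yg28 zg30) (kg xg3 yg33 zg58) (kg xg3 yg32 zg55) (kg xg13 yg28 zg36) (kg xg7 yg40 zg33) (kg xg7 yg13 zg29) (kg xg7 yg40 zg35) (kg xg13 yg28 zg44) (kg xg7 yg53 zg0) (kg xg13 yg28 zg48) (kg xg3 yg37 zg56) (kg xg13 yg28 zg53) (kg xg3 yg36 zg30) (kg xg7 yg7 zg24) (kg xg13 yg6 zg15) (kg xg3 yg32 zg59) (kg xg13 yg27 zg18) (kg xg13 yg16 zg26) (kg xg13 yg29 zg8) (kg xg13 yg7 zg51) (kg xg7 yg25 zg34)) (@D3.rec (fun _ => Pt) (kg xg13 yg29 zg11) (kg xg13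 yg29 zg13) (kg xg13 yg29 zg14) (kg xg3 yg33 zg6) (kg xg13 yg29 zg18) (kg xg13 yg15 zg35) (kg xg3 yg33 zg21) (kg xg4 yg13 zg27) (kg xg4 yg32 zg55) (kg xg3 yg33 zg8) (kg xg13 yg29 zg25) (kg xg7 yg13 zg49) (kg xg13 yg29 zg26) (kg xg7 yg18 zg28) (kg xg3 yg34 zg15) (kg xg3 yg33 zg22) (kg xg13 yg23 zg50) (kg xg7 yg13 zg59) (kg xg3 yg33 zg11) (kg xg13 yg29 zg41) (kg xg7 yg13 zg57) (kg xg13 yg14 zg26) (kg xg7 yg17 zg51) (kg xg3 yg33 zg56) (kg xg7 yg10 zg34) (kg xg7 yg10 zg17) (kg xg13 yg29 zg53) (kg xg13 yg17 zg29) (kg xg3 yg48 zg22) (kg xg3 yg33 zg17) (kg xg3 yg48 zg21) (kg xg13 yg29 zg60) (kg xg13 yg17 zg16) (kg xg13 yg28 zg37) (kg xg7 yg13 zg51) (kg xg4 yg33 zg1) (kg xg13 yg14 zg23) (kg xg13 yg30 zg4) (kg xg3 yg57 zg20) (kg xg3 yg33 zg23) (kg xg8 yg43 zg24) (kg xg4 yg23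 zg3) (kg xg7 yg48 zg0) (kg xg6 yg58 zg25) (kg xg6 yg58 zg9) (kg xg3 yg33 zg25) (kg xg13 yg30 zg16) (kg xg7 yg35 zg21) (kg xg7 yg14 zg40) (kg xg6 yg55 zg52) (kg xg3 yg33 zg49) (kg xg13 yg30 zg23) (kg xg3 yg48 zg2) (kg xg13 yg30 zg25) (kg xg3 yg33 zg31) (kg xg13 yg30 zg32) (kg xg13 yg30 zg24) (kg xg3 yg57 zg23) (kg xg3 yg33 zg32) (kg xg13 yg30 zg39) (kg xg7 yg14 zg26) (kg xg3 yg33 zg33)) (@D3.rec (fun _ => Pt) (kg xg13 yg30 zg44) (kg xg7 yg14 zg24) (kg xg7 yg13 zg0) (kg xg13 yg14 zg32) (kg xg13 yg14 zg33) (kg xg3 yg33 zg38) (kg xg13 yg30 zg54) (kg xg7 yg14 zg15) (kg xg3 yg33 zg39) (kg xg13 yg30 zg60) (kg xg7 yg14 zg13) (kg xg6 yg58 zg15) (kg xg3 yg33 zg40) (kg xg13 yg31 zg3) (kg xg13 yg31 zg6) (kg xg3 yg33 zg43) (kg xg13 yg31 zg8) (kg xg3 yg37 zg7) (kg xg3 yg33 zg44)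 (kg xg8 yg51 zg40) (kg xg3 yg37 zg5) (kg xg9 yg44 zg36) (kg xg13 yg31 zg17) (kg xg8 yg48 zg29) (kg xg6 yg13 zg47) (kg xg3 yg49 zg9) (kg xg8 yg48 zg26) (kg xg13 yg28 zg14) (kg xg3 yg33 zg47) (kg xg13 yg31 zg29) (kg xg13 yg28 zg12) (kg xg13 yg28 zg19) (kg xg13 yg28 zg18) (kg xg3 yg49 zg29) (kg xg13 yg31 zg38) (kg xg13 yg31 zg42) (kg xg3 yg33 zg54) (kg xg12 yg34 zg58) (kg xg3 yg53 zg3) (kg xg3 yg33 zg55) (kg xg3 yg33 zg51) (kg xg13 yg31 zg50) (kg xg13 yg31 zg55) (kg xg3 yg38 zg18) (kg xg3 yg33 zg53) (kg xg6 yg14 zg59) (kg xg7 yg25 zg7) (kg xg13 yg32 zg4) (kg xg13 yg32 zg7) (kg xg6 yg53 zg1) (kg xg3 yg34 zg31) (kg xg13 yg31 zg51) (kg xg13 yg32 zg14) (kg xg7 yg4 zg24) (kg xg3 yg53 zg24) (kg xg13 yg31 zg34) (kg xg13 yg32 zg21) (kg xg3 yg49 zg48) (kg xg13 yg32 zg25) (kg xg11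 yg8 zg25) (kg xg13 yg32 zg22) (kg xg3 yg49 zg47)) (@D3.rec (fun _ => Pt) (kg xg13 yg32 zg35) (kg xg13 yg28 zg33) (kg xg3 yg33 zg59) (kg xg13 yg32 zg43) (kg xg13 yg32 zg47) (kg xg13 yg28 zg31) (kg xg13 yg32 zg51) (kg xg13 yg22 zg42) (kg xg6 yg57 zg38) (kg xg13 yg32 zg53) (kg xg7 yg5 zg4) (kg xg13 yg7 zg50) (kg xg3 yg34 zg2) (kg xg3 yg34 zg3) (kg xg13 yg32 zg58) (kg xg3 yg49 zg53) (kg xg12 yg8 zg38) (kg xg12 yg8 zg40) (kg xg13 yg33 zg6) (kg xg13 yg15 zg32) (kg xg3 yg34 zg14) (kg xg3 yg34 zg6) (kg xg13 yg31 zg46) (kg xg13 yg33 zg20) (kg xg3 yg34 zg7) (kg xg7 yg0 zg46) (kg xg7 yg24 zg48) (kg xg3 yg34 zg16) (kg xg13 yg33 zg27) (kg xg3 yg49 zg38) (kg xg13 yg29 zg57) (kg xg7 yg15 zg37) (kg xg3 yg34 zg34) (kg xg3 yg34 zg11) (kg xg7 yg15 zg39) (kg xg7 yg13 zg43) (kg xg3 yg34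 zg13) (kg xg7 yg13 zg27) (kg xg13 yg33 zg43) (kg xg13 yg33 zg47) (kg xg13 yg31 zg48) (kg xg13 yg33 zg52) (kg xg7 yg5 zg46) (kg xg7 yg13 zg53) (kg xg13 yg18 zg23) (kg xg3 yg49 zg36) (kg xg3 yg47 zg9) (kg xg3 yg55 zg30) (kg xg7 yg38 zg12) (kg xg3 yg49 zg41) (kg xg3 yg49 zg51) (kg xg13 yg34 zg1) (kg xg3 yg37 zg22) (kg xg3 yg50 zg44) (kg xg3 yg49 zg45) (kg xg3 yg34 zg22) (kg xg13 yg32 zg48) (kg xg13 yg34 zg12) (kg xg9 yg18 zg61) (kg xg13 yg34 zg15) (kg xg6 yg58 zg53) (kg xg13 yg34 zg20)) (@D3.rec (fun _ => Pt) (kg xg3 yg46 zg37) (kg xg3 yg34 zg28) (kg xg3 yg46 zg43) (kg xg13 yg34 zg28) (kg xg13 yg34 zg32) (kg xg13 yg34 zg35) (kg xg7 yg9 zg43) (kg xg7 yg16 zg37) (kg xg7 yg37 zg38) (kg xg7 yg12 zg52) (kg xg3 yg34 zg32) (kg xg7 yg12 zg51) (kg xg7 yg34 zg14) (kg xg13 yg34 zg44)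 (kg xg13 yg34 zg47) (kg xg3 yg53 zg28) (kg xg7 yg32 zg25) (kg xg3 yg48 zg51) (kg xg3 yg34 zg42) (kg xg13 yg28 zg55) (kg xg3 yg34 zg37) (kg xg13 yg28 zg54) (kg xg13 yg14 zg50) (kg xg13 yg35 zg1) (kg xg3 yg49 zg57) (kg xg13 yg35 zg7) (kg xg13 yg27 zg13) (kg xg13 yg28 zg50) (kg xg3 yg34 zg40) (kg xg13 yg28 zg49) (kg xg13 yg35 zg21) (kg xg13 yg35 zg25) (kg xg13 yg35 zg29) (kg xg7 yg2 zg61) (kg xg3 yg48 zg61) (kg xg13 yg35 zg15) (kg xg7 yg30 zg35) (kg xg7 yg18 zg35) (kg xg3 yg34 zg45) (kg xg13 yg35 zg40) (kg xg3 yg37 zg53) (kg xg3 yg44 zg60) (kg xg3 yg34 zg46) (kg xg6 yg53 zg35) (kg xg13 yg35 zg53) (kg xg7 yg16 zg9) (kg xg13 yg35 zg14) (kg xg13 yg35 zg60) (kg xg13 yg36 zg1) (kg xg13 yg36 zg5) (kg xg13 yg29 zg10) (kg xg3 yg34 zg50) (kg xg13 yg29 zg9) (kg xg13 yg36 zg18) (kg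 xg7 yg11 zg5) (kg xg3 yg34 zg53) (kg xg13 yg36 zg26) (kg xg13 yg36 zg29) (kg xg7 yg50 zg59) (kg xg7 yg27 zg60) (kg xg7 yg11 zg7) (kg xg3 yg34 zg56)) (@D3.rec (fun _ => Pt) (kg xg7 yg51 zg25) (kg xg7 yg33 zg39) (kg xg13 yg36 zg38) (kg xg6 yg55 zg1) (kg xg3 yg47 zg36) (kg xg7 yg10 zg55) (kg xg6 yg52 zg39) (kg xg7 yg10 zg61) (kg xg12 yg33 zg61) (kg xg3 yg55 zg35) (kg xg6 yg55 zg5) (kg xg3 yg35 zg1) (kg xg13 yg36 zg58) (kg xg13 yg37 zg1) (kg xg7 yg20 zg47) (kg xg3 yg35 zg2) (kg xg13 yg20 zg13) (kg xg7 yg24 zg24) (kg xg3 yg35 zg4) (kg xg3 yg55 zg14) (kg xg6 yg54 zg61) (kg xg6 yg22 zg52) (kg xg13 yg37 zg13) (kg xg7 yg29 zg51) (kg xg7 yg21 zg29) (kg xg3 yg44 zg23) (kg xg7 yg22 zg41) (kg xg13 yg37 zg22) (kg xg12 yg19 zg18) (kg xg13 yg37 zg26) (kg xg6 yg34 zg10) (kg xg3 yg35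 zg18) (kg xg3 yg35 zg16) (kg xg13 yg27 zg24) (kg xg7 yg24 zg31) (kg xg3 yg41 zg59) (kg xg13 yg27 zg23) (kg xg13 yg3 zg11) (kg xg13 yg37 zg40) (kg xg7 yg19 zg40) (kg xg6 yg18 zg7) (kg xg6 yg24 zg14) (kg xg3 yg35 zg21) (kg xg6 yg24 zg13) (kg xg13 yg37 zg54) (kg xg6 yg42 zg55) (kg xg8 yg35 zg23) (kg xg7 yg16 zg49) (kg xg3 yg39 zg42) (kg xg7 yg17 zg7) (kg xg7 yg12 zg24) (kg xg13 yg38 zg0) (kg xg6 yg41 zg41) (kg xg13 yg38 zg4) (kg xg13 yg13 zg8) (kg xg7 yg30 zg42) (kg xg6 yg53 zg53) (kg xg7 yg9 zg47) (kg xg7 yg3 zg43) (kg xg7 yg0 zg48) (kg xg7 yg18 zg20) (kg xg7 yg19 zg44)) (@D3.rec (fun _ => Pt) (kg xg7 yg16 zg45) (kg xg3 yg38 zg54) (kg xg13 yg38 zg12) (kg xg13 yg38 zg14) (kg xg3 yg35 zg44) (kg xg13 yg38 zg22) (kg xg13 yg38 zg13) (kg xg7 yg14 zg30) (kg xg3 yg36 zg5) (kg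 xg8 yg3 zg41) (kg xg4 yg24 zg18) (kg xg13 yg38 zg29) (kg xg13 yg38 zg31) (kg xg7 yg15 zg25) (kg xg3 yg39 zg0) (kg xg3 yg36 zg6) (kg xg13 yg14 zg16) (kg xg7 yg6 zg16) (kg xg3 yg35 zg50) (kg xg12 yg47 zg16) (kg xg7 yg6 zg14) (kg xg13 yg38 zg43) (kg xg7 yg14 zg53) (kg xg3 yg38 zg43) (kg xg7 yg19 zg32) (kg xg7 yg11 zg59) (kg xg6 yg34 zg56) (kg xg3 yg53 zg2) (kg xg7 yg2 zg32) (kg xg7 yg9 zg33) (kg xg13 yg16 zg3) (kg xg7 yg6 zg10) (kg xg13 yg38 zg35) (kg xg13 yg38 zg53) (kg xg13 yg38 zg36) (kg xg4 yg24 zg20) (kg xg7 yg6 zg8) (kg xg13 yg23 zg17) (kg xg7 yg4 zg6) (kg xg7 yg33 zg43) (kg xg13 yg33 zg57) (kg xg7 yg3 zg57) (kg xg7 yg5 zg51) (kg xg3 yg36 zg10) (kg xg7 yg48 zg43) (kg xg7 yg5 zg49) (kg xg7 yg18 zg49) (kg xg13 yg24 zg31) (kg xg7 yg11 zg36) (kg xg13 yg39 zg13) (kg xg7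 yg10 zg11) (kg xg3 yg36 zg15) (kg xg7 yg10 zg10) (kg xg13 yg34 zg25) (kg xg13 yg39 zg22) (kg xg7 yg13 zg30) (kg xg3 yg38 zg32) (kg xg7 yg7 zg21) (kg xg7 yg6 zg29) (kg xg3 yg36 zg18) (kg xg13 yg39 zg33) (kg xg7 yg6 zg27)) (@D3.rec (fun _ => Pt) (kg xg12 yg8 zg25) (kg xg7 yg51 zg12) (kg xg7 yg7 zg48) (kg xg13 yg39 zg38) (kg xg3 yg37 zg16) (kg xg3 yg36 zg21) (kg xg13 yg39 zg52) (kg xg3 yg37 zg14) (kg xg3 yg36 zg25) (kg xg13 yg39 zg59) (kg xg13 yg26 zg58) (kg xg6 yg15 zg8) (kg xg13 yg33 zg39) (kg xg3 yg49 zg15) (kg xg3 yg36 zg27) (kg xg13 yg40 zg9) (kg xg3 yg47 zg20) (kg xg3 yg37 zg38) (kg xg7 yg18 zg34) (kg xg3 yg36 zg29) (kg xg13 yg28 zg61) (kg xg13 yg40 zg21) (kg xg3 yg49 zg6) (kg xg3 yg36 zg31) (kg xg3 yg49 zg5) (kg xg13 yg40 zg27) (kg xg7 yg40 zg43) (kg xg7 yg6 zg44)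 (kg xg13 yg40 zg31) (kg xg7 yg9 zg17) (kg xg7 yg12 zg55) (kg xg3 yg37 zg19) (kg xg13 yg13 zg57) (kg xg13 yg13 zg58) (kg xg3 yg36 zg38) (kg xg13 yg40 zg43) (kg xg7 yg19 zg56) (kg xg3 yg36 zg47) (kg xg13 yg40 zg46) (kg xg3 yg38 zg57) (kg xg6 yg58 zg27) (kg xg3 yg36 zg41) (kg xg13 yg40 zg55) (kg xg6 yg54 zg39) (kg xg13 yg39 zg60) (kg xg6 yg56 zg48) (kg xg13 yg40 zg47) (kg xg13 yg40 zg59) (kg xg13 yg40 zg48) (kg xg3 yg36 zg48) (kg xg11 yg15 zg34) (kg xg6 yg58 zg26) (kg xg13 yg41 zg3) (kg xg7 yg3 zg36) (kg xg13 yg40 zg24) (kg xg13 yg41 zg4) (kg xg7 yg7 zg20) (kg xg3 yg36 zg51) (kg xg13 yg41 zg15) (kg xg7 yg7 zg18) (kg xg7 yg6 zg23) (kg xg7 yg53 zg49)) (@D3.rec (fun _ => Pt) (kg xg3 yg50 zg22) (kg xg7 yg8 zg32) (kg xg7 yg41 zg53) (kg xg6 yg55 zg54) (kg xg3 yg37 zg8) (kg xg5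 yg54 zg22) (kg xg13 yg14 zg3) (kg xg3 yg36 zg57) (kg xg4 yg32 zg40) (kg xg13 yg14 zg4) (kg xg3 yg36 zg58) (kg xg13 yg41 zg38) (kg xg7 yg8 zg10) (kg xg3 yg36 zg59) (kg xg13 yg41 zg43) (kg xg7 yg8 zg8) (kg xg6 yg58 zg32) (kg xg3 yg36 zg60) (kg xg13 yg30 zg11) (kg xg13 yg41 zg31) (kg xg13 yg41 zg52) (kg xg3 yg37 zg0) (kg xg13 yg41 zg51) (kg xg7 yg8 zg1) (kg xg3 yg37 zg1) (kg xg13 yg29 zg36) (kg xg7 yg7 zg61) (kg xg3 yg37 zg3) (kg xg8 yg48 zg6) (kg xg5 yg38 zg37) (kg xg13 yg26 zg46) (kg xg13 yg42 zg4) (kg xg10 yg1 zg23) (kg xg7 yg12 zg7) (kg xg13 yg42 zg5) (kg xg13 yg31 zg15) (kg xg3 yg37 zg6) (kg xg8 yg47 zg14) (kg xg13 yg31 zg13) (kg xg13 yg39 zg42) (kg xg13 yg39 zg41) (kg xg13 yg42 zg21) (kg xg3 yg37 zg11) (kg xg3 yg37 zg9) (kg xg13 yg42 zg28) (kg xg13 yg42 zg32) (kg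 xg3 yg37 zg10) (kg xg7 yg8 zg2) (kg xg7 yg20 zg18) (kg xg13 yg42 zg39) (kg xg12 yg6 zg21) (kg xg13 yg42 zg29) (kg xg13 yg42 zg45) (kg xg6 yg52 zg24) (kg xg13 yg42 zg19) (kg xg13 yg42 zg53) (kg xg7 yg35 zg6) (kg xg13 yg42 zg56) (kg xg12 yg8 zg24) (kg xg7 yg39 zg21) (kg xg3 yg54 zg46) (kg xg13 yg43 zg5)) (@D3.rec (fun _ => Pt) (kg xg13 yg39 zg56) (kg xg3 yg37 zg15) (kg xg13 yg43 zg15) (kg xg13 yg43 zg20) (kg xg13 yg39 zg53) (kg xg13 yg43 zg23) (kg xg11 yg4 zg4) (kg xg7 yg11 zg0) (kg xg13 yg43 zg27) (kg xg13 yg40 zg32) (kg xg13 yg40 zg3) (kg xg13 yg40 zg2) (kg xg13 yg43 zg35) (kg xg3 yg37 zg26) (kg xg3 yg37 zg20) (kg xg13 yg42 zg24) (kg xg13 yg43 zg47) (kg xg7 yg12 zg26) (kg xg3 yg37 zg25) (kg xg6 yg55 zg58) (kg xg13 yg43 zg53) (kg xg13 yg43 zg57) (kg xg13 yg42 zg26) (kg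 xg13 yg43 zg61) (kg xg6 yg58 zg22) (kg xg7 yg12 zg16) (kg xg13 yg44 zg5) (kg xg3 yg48 zg53) (kg xg7 yg12 zg38) (kg xg3 yg54 zg37) (kg xg3 yg37 zg34) (kg xg10 yg47 zg22) (kg xg7 yg9 zg31) (kg xg7 yg9 zg34) (kg xg3 yg44 zg25) (kg xg7 yg12 zg25) (kg xg7 yg34 zg15) (kg xg7 yg35 zg0) (kg xg7 yg3 zg28) (kg xg7 yg5 zg47) (kg xg13 yg44 zg13) (kg xg7 yg35 zg5) (kg xg13 yg44 zg18) (kg xg3 yg54 zg45) (kg xg7 yg2 zg37) (kg xg7 yg50 zg52) (kg xg3 yg37 zg39) (kg xg3 yg50 zg52) (kg xg3 yg37 zg40) (kg xg3 yg48 zg54) (kg xg13 yg44 zg33) (kg xg3 yg50 zg21) (kg xg12 yg33 zg13) (kg xg6 yg33 zg33) (kg xg3 yg37 zg45) (kg xg7 yg0 zg25) (kg xg13 yg44 zg40) (kg xg13 yg44 zg43) (kg xg7 yg1 zg19) (kg xg3 yg37 zg47) (kg xg7 yg1 zg25) (kg xg3 yg41 zg56)) (@D3.rec (fun _ => Pt) (kg xg13 yg44 zg55)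 (kg xg13 yg44 zg59) (kg xg13 yg45 zg0) (kg xg7 yg1 zg46) (kg xg13 yg34 zg22) (kg xg3 yg37 zg50) (kg xg13 yg34 zg21) (kg xg13 yg45 zg7) (kg xg13 yg45 zg5) (kg xg7 yg10 zg41) (kg xg13 yg37 zg33) (kg xg13 yg45 zg16) (kg xg13 yg45 zg19) (kg xg13 yg45 zg23) (kg xg13 yg40 zg23) (kg xg3 yg37 zg55) (kg xg13 yg40 zg22) (kg xg13 yg45 zg35) (kg xg3 yg47 zg56) (kg xg13 yg8 zg9) (kg xg6 yg55 zg39) (kg xg13 yg45 zg43) (kg xg7 yg16 zg30) (kg xg13 yg45 zg47) (kg xg6 yg56 zg26) (kg xg6 yg55 zg43) (kg xg3 yg37 zg61) (kg xg13 yg45 zg57) (kg xg13 yg45 zg61) (kg xg7 yg16 zg22) (kg xg3 yg38 zg0) (kg xg13 yg46 zg5) (kg xg13 yg46 zg8) (kg xg13 yg2 zg55) (kg xg7 yg1 zg60) (kg xg3 yg38 zg3) (kg xg3 yg54 zg20) (kg xg7 yg8 zg50) (kg xg3 yg55 zg54) (kg xg7 yg6 zg1) (kg xg3 yg38 zg9) (kg xg7 yg6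 zg0) (kg xg13 yg17 zg34) (kg xg13 yg46 zg21) (kg xg7 yg18 zg55) (kg xg7 yg12 zg0) (kg xg7 yg5 zg52) (kg xg13 yg46 zg27) (kg xg7 yg11 zg47) (kg xg3 yg38 zg14) (kg xg13 yg46 zg38) (kg xg7 yg18 zg51) (kg xg10 yg1 zg25) (kg xg3 yg38 zg35) (kg xg12 yg8 zg30) (kg xg6 yg58 zg39) (kg xg7 yg18 zg54) (kg xg7 yg49 zg13) (kg xg7 yg40 zg31) (kg xg3 yg38 zg47) (kg xg13 yg46 zg54) (kg xg3 yg38 zg45)) (@D3.rec (fun _ => Pt) (kg xg13 yg16 zg4) (kg xg13 yg40 zg50) (kg xg7 yg52 zg52) (kg xg7 yg5 zg36) (kg xg13 yg46 zg58) (kg xg7 yg40 zg36) (kg xg7 yg1 zg31) (kg xg7 yg19 zg23) (kg xg12 yg8 zg19) (kg xg7 yg33 zg42) (kg xg3 yg38 zg38) (kg xg12 yg7 zg48) (kg xg3 yg38 zg26) (kg xg12 yg7 zg47) (kg xg7 yg19 zg12) (kg xg12 yg46 zg17) (kg xg7 yg19 zg10) (kg xg12 yg8 zg18) (kg xg3 yg38 zg29) (kg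 xg13 yg47 zg22) (kg xg12 yg8 zg33) (kg xg3 yg38 zg30) (kg xg13 yg26 zg60) (kg xg7 yg19 zg1) (kg xg8 yg49 zg0) (kg xg3 yg38 zg33) (kg xg8 yg3 zg27) (kg xg3 yg39 zg32) (kg xg4 yg20 zg37) (kg xg13 yg47 zg33) (kg xg4 yg25 zg27) (kg xg13 yg47 zg34) (kg xg13 yg46 zg43) (kg xg3 yg38 zg36) (kg xg13 yg47 zg43) (kg xg13 yg42 zg8) (kg xg13 yg34 zg24) (kg xg13 yg46 zg46) (kg xg13 yg47 zg53) (kg xg13 yg47 zg57) (kg xg3 yg38 zg42) (kg xg13 yg48 zg0) (kg xg13 yg48 zg4) (kg xg3 yg38 zg41) (kg xg7 yg19 zg6) (kg xg7 yg27 zg41) (kg xg13 yg48 zg13) (kg xg13 yg48 zg17) (kg xg13 yg48 zg1) (kg xg13 yg48 zg22) (kg xg13 yg38 zg48) (kg xg3 yg56 zg5) (kg xg6 yg52 zg21) (kg xg13 yg47 zg50) (kg xg13 yg48 zg30) (kg xg13 yg48 zg33) (kg xg5 yg6 zg47) (kg xg13 yg18 zg9) (kg xg13 yg48 zg42) (kg xg7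 yg18 zg0) (kg xg3 yg38 zg46) (kg xg13 yg48 zg49)) (@D3.rec (fun _ => Pt) (kg xg7 yg17 zg60) (kg xg13 yg33 zg24) (kg xg13 yg48 zg56) (kg xg7 yg5 zg28) (kg xg13 yg48 zg58) (kg xg3 yg56 zg43) (kg xg13 yg48 zg60) (kg xg7 yg18 zg31) (kg xg13 yg38 zg9) (kg xg13 yg38 zg11) (kg xg13 yg49 zg5) (kg xg13 yg49 zg9) (kg xg3 yg38 zg61) (kg xg3 yg38 zg55) (kg xg13 yg47 zg60) (kg xg13 yg49 zg19) (kg xg3 yg38 zg56) (kg xg3 yg49 zg10) (kg xg3 yg39 zg1) (kg xg13 yg49 zg24) (kg xg7 yg18 zg7) (kg xg7 yg5 zg32) (kg xg7 yg5 zg33) (kg xg13 yg49 zg30) (kg xg13 yg49 zg33) (kg xg7 yg49 zg14) (kg xg13 yg49 zg37) (kg xg7 yg3 zg61) (kg xg7 yg7 zg16) (kg xg7 yg6 zg12) (kg xg13 yg49 zg43) (kg xg7 yg11 zg60) (kg xg13 yg17 zg57) (kg xg6 yg53 zg34) (kg xg7 yg13 zg19) (kg xg7 yg10 zg40) (kg xg7 yg52 zg58)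 (kg xg13 yg49 zg52) (kg xg6 yg53 zg38) (kg xg13 yg49 zg57) (kg xg13 yg49 zg59) (kg xg7 yg28 zg5) (kg xg7 yg42 zg60) (kg xg7 yg12 zg28) (kg xg13 yg25 zg17) (kg xg6 yg53 zg32) (kg xg3 yg53 zg8) (kg xg7 yg17 zg8) (kg xg7 yg5 zg37) (kg xg7 yg12 zg21) (kg xg7 yg16 zg51) (kg xg3 yg39 zg18) (kg xg13 yg50 zg16) (kg xg11 yg41 zg45) (kg xg7 yg17 zg37) (kg xg11 yg23 zg1) (kg xg3 yg39 zg35) (kg xg13 yg50 zg23) (kg xg13 yg50 zg25) (kg xg3 yg39 zg23) (kg xg6 yg14 zg49) (kg xg13 yg50 zg24)) (@D3.rec (fun _ => Pt) (kg xg7 yg17 zg23) (kg xg3 yg39 zg24) (kg xg13 yg39 zg3) (kg xg7 yg17 zg21) (kg xg7 yg16 zg44) (kg xg13 yg38 zg1) (kg xg7 yg16 zg54) (kg xg6 yg14 zg58) (kg xg3 yg39 zg28) (kg xg6 yg14 zg56) (kg xg3 yg39 zg29) (kg xg13 yg38 zg39) (kg xg6 yg58 zg21) (kg xg8 yg10 zg30) (kg xg12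 yg6 zg15) (kg xg8 yg44 zg8) (kg xg13 yg50 zg46) (kg xg4 yg25 zg17) (kg xg13 yg47 zg31) (kg xg3 yg39 zg33) (kg xg13 yg50 zg55) (kg xg13 yg31 zg21) (kg xg13 yg37 zg60) (kg xg13 yg37 zg59) (kg xg13 yg51 zg2) (kg xg13 yg51 zg6) (kg xg13 yg51 zg8) (kg xg3 yg39 zg38) (kg xg6 yg15 zg3) (kg xg13 yg51 zg14) (kg xg13 yg51 zg18) (kg xg13 yg51 zg21) (kg xg6 yg52 zg25) (kg xg13 yg50 zg61) (kg xg12 yg48 zg12) (kg xg13 yg51 zg29) (kg xg10 yg16 zg24) (kg xg7 yg33 zg52) (kg xg13 yg51 zg38) (kg xg7 yg11 zg39) (kg xg3 yg39 zg43) (kg xg13 yg51 zg45) (kg xg3 yg39 zg44) (kg xg13 yg23 zg58) (kg xg13 yg23 zg57) (kg xg13 yg15 zg34) (kg xg13 yg51 zg53) (kg xg13 yg51 zg56) (kg xg3 yg39 zg47) (kg xg7 yg13 zg26) (kg xg3 yg39 zg49) (kg xg6 yg59 zg35) (kg xg13 yg52 zg2) (kg xg13 yg52 zg6) (kg xg13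 yg52 zg8) (kg xg13 yg4 zg15) (kg xg7 yg13 zg38) (kg xg6 yg52 zg50) (kg xg7 yg20 zg59) (kg xg13 yg52 zg16) (kg xg6 yg54 zg25) (kg xg11 yg36 zg0)) (@D3.rec (fun _ => Pt) (kg xg5 yg45 zg30) (kg xg10 yg2 zg50) (kg xg6 yg41 zg58) (kg xg4 yg43 zg31) (kg xg3 yg39 zg58) (kg xg12 yg30 zg35) (kg xg6 yg48 zg2) (kg xg6 yg48 zg5) (kg xg13 yg52 zg32) (kg xg6 yg9 zg18) (kg xg6 yg27 zg43) (kg xg3 yg43 zg9) (kg xg8 yg35 zg32) (kg xg13 yg52 zg35) (kg xg7 yg19 zg58) (kg xg13 yg52 zg40) (kg xg13 yg26 zg1) (kg xg3 yg53 zg61) (kg xg7 yg52 zg37) (kg xg7 yg49 zg21) (kg xg3 yg43 zg36) (kg xg3 yg54 zg31) (kg xg7 yg25 zg13) (kg xg13 yg40 zg36) (kg xg13 yg52 zg49) (kg xg13 yg52 zg48) (kg xg3 yg40 zg9) (kg xg13 yg52 zg57) (kg xg13 yg40 zg40) (kg xg3 yg40 zg31) (kg xg13 yg53 zg1) (kg xg4 yg57 zg31)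 (kg xg3 yg40 zg11) (kg xg11 yg59 zg7) (kg xg7 yg25 zg59) (kg xg13 yg53 zg13) (kg xg7 yg24 zg40) (kg xg3 yg54 zg41) (kg xg3 yg40 zg32) (kg xg13 yg24 zg24) (kg xg7 yg26 zg6) (kg xg3 yg40 zg14) (kg xg12 yg25 zg61) (kg xg7 yg26 zg5) (kg xg7 yg54 zg46) (kg xg7 yg24 zg1) (kg xg3 yg54 zg24) (kg xg7 yg11 zg15) (kg xg7 yg11 zg20) (kg xg13 yg53 zg35) (kg xg11 yg41 zg24) (kg xg13 yg53 zg39) (kg xg7 yg48 zg14) (kg xg10 yg41 zg7) (kg xg3 yg40 zg22) (kg xg13 yg4 zg20) (kg xg10 yg41 zg6) (kg xg6 yg52 zg48) (kg xg3 yg40 zg23) (kg xg7 yg55 zg15) (kg xg11 yg44 zg15) (kg xg3 yg49 zg17)) (@D3.rec (fun _ => Pt) (kg xg3 yg40 zg24) (kg xg6 yg54 zg41) (kg xg6 yg38 zg18) (kg xg13 yg53 zg55) (kg xg13 yg53 zg58) (kg xg6 yg19 zg56) (kg xg7 yg22 zg15) (kg xg13 yg53 zg59) (kg xg7 yg1 zg20) (kg xg7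 yg25 zg61) (kg xg7 yg25 zg50) (kg xg13 yg54 zg4) (kg xg7 yg54 zg42) (kg xg13 yg54 zg9) (kg xg7 yg25 zg26) (kg xg3 yg40 zg33) (kg xg13 yg54 zg17) (kg xg7 yg25 zg24) (kg xg13 yg13 zg5) (kg xg3 yg56 zg27) (kg xg3 yg56 zg8) (kg xg3 yg40 zg35) (kg xg13 yg25 zg13) (kg xg7 yg21 zg49) (kg xg3 yg54 zg48) (kg xg7 yg28 zg3) (kg xg3 yg40 zg37) (kg xg13 yg54 zg32) (kg xg7 yg11 zg24) (kg xg3 yg40 zg38) (kg xg13 yg54 zg41) (kg xg7 yg26 zg36) (kg xg3 yg41 zg34) (kg xg3 yg40 zg39) (kg xg13 yg54 zg51) (kg xg3 yg41 zg32) (kg xg7 yg28 zg29) (kg xg13 yg13 zg48) (kg xg3 yg41 zg44) (kg xg3 yg40 zg41) (kg xg13 yg55 zg4) (kg xg3 yg41 zg42) (kg xg3 yg40 zg44) (kg xg13 yg44 zg50) (kg xg13 yg55 zg10) (kg xg13 yg37 zg36) (kg xg6 yg51 zg30) (kg xg7 yg24 zg28) (kg xg7 yg29 zg56) (kg xg7 yg21 zg23)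 (kg xg3 yg41 zg48) (kg xg13 yg55 zg20) (kg xg12 yg8 zg17) (kg xg3 yg40 zg50) (kg xg13 yg55 zg29) (kg xg13 yg6 zg17) (kg xg13 yg55 zg35) (kg xg3 yg41 zg2) (kg xg13 yg55 zg39) (kg xg7 yg28 zg18) (kg xg3 yg40 zg53) (kg xg13 yg55 zg51)) (@D3.rec (fun _ => Pt) (kg xg7 yg28 zg16) (kg xg13 yg55 zg55) (kg xg7 yg52 zg48) (kg xg3 yg41 zg58) (kg xg3 yg41 zg3) (kg xg7 yg54 zg31) (kg xg7 yg4 zg52) (kg xg3 yg40 zg56) (kg xg7 yg55 zg4) (kg xg3 yg46 zg32) (kg xg3 yg40 zg57) (kg xg13 yg56 zg13) (kg xg7 yg37 zg40) (kg xg7 yg0 zg15) (kg xg13 yg44 zg53) (kg xg3 yg50 zg2) (kg xg7 yg2 zg27) (kg xg7 yg28 zg10) (kg xg7 yg2 zg20) (kg xg13 yg56 zg21) (kg xg13 yg55 zg61) (kg xg13 yg56 zg26) (kg xg13 yg56 zg0) (kg xg7 yg27 zg54) (kg xg3 yg41 zg4) (kg xg13 yg56 zg35) (kg xg7 yg27 zg52) (kg xg7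 yg4 zg51) (kg xg13 yg56 zg41) (kg xg7 yg5 zg5) (kg xg13 yg6 zg18) (kg xg13 yg56 zg42) (kg xg7 yg11 zg17) (kg xg7 yg28 zg2) (kg xg3 yg41 zg7) (kg xg7 yg53 zg46) (kg xg7 yg28 zg0) (kg xg7 yg26 zg32) (kg xg13 yg24 zg53) (kg xg7 yg30 zg43) (kg xg7 yg29 zg2) (kg xg7 yg29 zg32) (kg xg12 yg34 zg49) (kg xg7 yg1 zg15) (kg xg3 yg41 zg25) (kg xg3 yg41 zg35) (kg xg7 yg28 zg36) (kg xg13 yg24 zg47) (kg xg7 yg28 zg33) (kg xg3 yg41 zg13) (kg xg9 yg10 zg8) (kg xg13 yg57 zg14) (kg xg13 yg24 zg48) (kg xg3 yg41 zg14) (kg xg13 yg57 zg25) (kg xg7 yg28 zg61) (kg xg3 yg41 zg15) (kg xg13 yg57 zg33) (kg xg7 yg28 zg59) (kg xg7 yg4 zg58) (kg xg13 yg57 zg39) (kg xg7 yg26 zg30)) (@D3.rec (fun _ => Pt) (kg xg11 yg3 zg61) (kg xg3 yg41 zg27) (kg xg7 yg11 zg27) (kg xg6 yg24 zg61) (kg xg12 yg8 zg8) (kg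 xg4 yg24 zg30) (kg xg3 yg41 zg20) (kg xg13 yg57 zg50) (kg xg13 yg57 zg46) (kg xg3 yg41 zg21) (kg xg13 yg57 zg58) (kg xg12 yg8 zg12) (kg xg7 yg28 zg46) (kg xg3 yg41 zg22) (kg xg13 yg58 zg4) (kg xg7 yg28 zg44) (kg xg3 yg41 zg23) (kg xg13 yg58 zg10) (kg xg7 yg28 zg48) (kg xg7 yg28 zg31) (kg xg13 yg58 zg16) (kg xg9 yg37 zg53) (kg xg3 yg41 zg26) (kg xg11 yg11 zg55) (kg xg5 yg50 zg51) (kg xg13 yg58 zg22) (kg xg7 yg29 zg8) (kg xg3 yg41 zg28) (kg xg13 yg58 zg31) (kg xg7 yg29 zg6) (kg xg5 yg40 zg14) (kg xg3 yg41 zg29) (kg xg7 yg29 zg13) (kg xg13 yg58 zg39) (kg xg7 yg27 zg33) (kg xg3 yg41 zg30) (kg xg7 yg27 zg31) (kg xg13 yg58 zg45) (kg xg13 yg58 zg50) (kg xg13 yg58 zg52) (kg xg13 yg58 zg30) (kg xg12 yg23 zg50) (kg xg12 yg30 zg29) (kg xg13 yg58 zg53) (kg xg13 yg59 zg5) (kg xg13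 yg54 zg54) (kg xg3 yg41 zg33) (kg xg13 yg59 zg16) (kg xg13 yg54 zg52) (kg xg13 yg54 zg56) (kg xg13 yg54 zg55) (kg xg13 yg59 zg24) (kg xg13 yg59 zg27) (kg xg3 yg41 zg39) (kg xg13 yg59 zg32) (kg xg13 yg59 zg36) (kg xg3 yg54 zg52) (kg xg3 yg41 zg38) (kg xg7 yg28 zg53) (kg xg11 yg3 zg60) (kg xg13 yg59 zg43) (kg xg13 yg59 zg33)) (@D3.rec (fun _ => Pt) (kg xg13 yg59 zg48) (kg xg3 yg56 zg36) (kg xg13 yg59 zg23) (kg xg13 yg59 zg56) (kg xg13 yg59 zg60) (kg xg13 yg57 zg42) (kg xg13 yg59 zg57) (kg xg14 yg0 zg7) (kg xg7 yg24 zg11) (kg xg3 yg41 zg43) (kg xg14 yg0 zg14) (kg xg7 yg24 zg9) (kg xg13 yg55 zg5) (kg xg14 yg0 zg21) (kg xg14 yg0 zg23) (kg xg7 yg24 zg42) (kg xg13 yg48 zg8) (kg xg13 yg48 zg11) (kg xg13 yg51 zg51) (kg xg14 yg0 zg34) (kg xg3 yg41 zg57) (kg xg3 yg41 zg49) (kg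 xg13 yg59 zg30) (kg xg14 yg0 zg45) (kg xg3 yg41 zg50) (kg xg6 yg55 zg16) (kg xg3 yg41 zg51) (kg xg13 yg15 zg38) (kg xg7 yg24 zg15) (kg xg6 yg55 zg20) (kg xg13 yg56 zg11) (kg xg7 yg11 zg37) (kg xg7 yg52 zg55) (kg xg7 yg3 zg17) (kg xg7 yg1 zg21) (kg xg14 yg0 zg61) (kg xg14 yg1 zg0) (kg xg13 yg13 zg49) (kg xg14 yg1 zg3) (kg xg7 yg4 zg19) (kg xg7 yg20 zg39) (kg xg13 yg34 zg58) (kg xg7 yg21 zg47) (kg xg7 yg1 zg11) (kg xg3 yg41 zg60) (kg xg14 yg1 zg13) (kg xg14 yg1 zg17) (kg xg7 yg9 zg26) (kg xg3 yg41 zg61) (kg xg3 yg47 zg28) (kg xg3 yg48 zg58) (kg xg3 yg46 zg16) (kg xg10 yg7 zg45) (kg xg14 yg1 zg29) (kg xg7 yg10 zg26) (kg xg12 yg24 zg15) (kg xg6 yg42 zg4) (kg xg3 yg42 zg5) (kg xg6 yg42 zg3) (kg xg14 yg1 zg39) (kg xg10 yg5 zg28) (kg xg6 yg55 zg12)) (@D3.rec (fun _ => Pt)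 (kg xg3 yg42 zg9) (kg xg6 yg55 zg11) (kg xg14 yg1 zg46) (kg xg13 yg9 zg46) (kg xg7 yg49 zg36) (kg xg13 yg36 zg32) (kg xg3 yg54 zg55) (kg xg7 yg50 zg43) (kg xg7 yg51 zg13) (kg xg3 yg55 zg23) (kg xg6 yg24 zg56) (kg xg7 yg53 zg57) (kg xg7 yg20 zg22) (kg xg3 yg42 zg16) (kg xg14 yg1 zg57) (kg xg7 yg53 zg58) (kg xg3 yg42 zg17) (kg xg14 yg2 zg3) (kg xg14 yg1 zg41) (kg xg14 yg2 zg8) (kg xg14 yg2 zg12) (kg xg11 yg37 zg32) (kg xg9 yg0 zg24) (kg xg7 yg21 zg17) (kg xg3 yg42 zg21) (kg xg8 yg32 zg45) (kg xg7 yg21 zg15) (kg xg14 yg2 zg24) (kg xg7 yg30 zg10) (kg xg3 yg42 zg39) (kg xg13 yg25 zg11) (kg xg3 yg56 zg30) (kg xg3 yg42 zg24) (kg xg13 yg25 zg46) (kg xg3 yg48 zg19) (kg xg12 yg30 zg20) (kg xg7 yg51 zg6) (kg xg14 yg2 zg35) (kg xg6 yg51 zg31) (kg xg6 yg42 zg10) (kg xg3 yg42 zg30)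 (kg xg6 yg42 zg9) (kg xg6 yg9 zg23) (kg xg6 yg9 zg20) (kg xg8 yg25 zg43) (kg xg8 yg23 zg0) (kg xg3 yg42 zg35) (kg xg14 yg2 zg48) (kg xg6 yg48 zg9) (kg xg14 yg2 zg53) (kg xg7 yg20 zg29) (kg xg3 yg51 zg53) (kg xg7 yg21 zg8) (kg xg6 yg0 zg31) (kg xg8 yg22 zg42) (kg xg14 yg2 zg28) (kg xg8 yg33 zg59) (kg xg14 yg2 zg29) (kg xg7 yg20 zg34) (kg xg3 yg42 zg40) (kg xg14 yg3 zg4) (kg xg3 yg56 zg29)) (@D3.rec (fun _ => Pt) (kg xg13 yg25 zg16) (kg xg7 yg49 zg39) (kg xg14 yg1 zg42) (kg xg12 yg25 zg33) (kg xg7 yg20 zg43) (kg xg3 yg42 zg43) (kg xg7 yg20 zg41) (kg xg7 yg49 zg22) (kg xg7 yg54 zg11) (kg xg3 yg55 zg58) (kg xg3 yg42 zg46) (kg xg14 yg3 zg24) (kg xg13 yg5 zg23) (kg xg6 yg48 zg7) (kg xg5 yg39 zg56) (kg xg14 yg3 zg31) (kg xg6 yg52 zg41) (kg xg3 yg53 zg16) (kg xg6 yg51 zg45)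 (kg xg14 yg3 zg38) (kg xg6 yg52 zg34) (kg xg13 yg4 zg46) (kg xg3 yg42 zg51) (kg xg13 yg4 zg45) (kg xg13 yg6 zg47) (kg xg6 yg52 zg57) (kg xg14 yg3 zg51) (kg xg5 yg52 zg1) (kg xg3 yg42 zg53) (kg xg6 yg31 zg11) (kg xg7 yg22 zg42) (kg xg7 yg27 zg42) (kg xg7 yg4 zg27) (kg xg3 yg42 zg55) (kg xg14 yg3 zg58) (kg xg7 yg21 zg31) (kg xg3 yg42 zg56) (kg xg14 yg4 zg7) (kg xg3 yg44 zg15) (kg xg3 yg42 zg57) (kg xg14 yg4 zg18) (kg xg3 yg44 zg13) (kg xg6 yg30 zg50) (kg xg4 yg38 zg9) (kg xg4 yg39 zg36) (kg xg10 yg5 zg33) (kg xg6 yg43 zg52) (kg xg6 yg27 zg34) (kg xg5 yg44 zg27) (kg xg6 yg31 zg9) (kg xg5 yg44 zg26) (kg xg11 yg58 zg0) (kg xg13 yg54 zg12) (kg xg14 yg4 zg28) (kg xg3 yg43 zg6) (kg xg13 yg52 zg22) (kg xg4 yg50 zg13) (kg xg14 yg4 zg34) (kg xg13 yg52 zg28) (kg xg6 yg31 zg22)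 (kg xg3 yg43 zg10) (kg xg11 yg25 zg35)) (@D3.rec (fun _ => Pt) (kg xg13 yg55 zg44) (kg xg3 yg43 zg12) (kg xg6 yg49 zg52) (kg xg6 yg31 zg38) (kg xg6 yg31 zg59) (kg xg6 yg42 zg35) (kg xg6 yg49 zg57) (kg xg4 yg53 zg40) (kg xg6 yg31 zg36) (kg xg3 yg43 zg16) (kg xg6 yg31 zg35) (kg xg12 yg30 zg51) (kg xg11 yg16 zg49) (kg xg6 yg12 zg18) (kg xg3 yg43 zg18) (kg xg5 yg7 zg5) (kg xg6 yg31 zg29) (kg xg3 yg43 zg24) (kg xg6 yg31 zg47) (kg xg3 yg43 zg21) (kg xg6 yg31 zg46) (kg xg11 yg25 zg30) (kg xg6 yg31 zg40) (kg xg6 yg31 zg54) (kg xg3 yg43 zg23) (kg xg6 yg31 zg53) (kg xg5 yg27 zg17) (kg xg6 yg46 zg22) (kg xg4 yg41 zg11) (kg xg6 yg50 zg17) (kg xg7 yg23 zg36) (kg xg3 yg43 zg27) (kg xg14 yg4 zg61) (kg xg7 yg23 zg35) (kg xg3 yg43 zg29) (kg xg6 yg53 zg46) (kg xg3 yg43 zg30) (kg xg6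 yg53 zg45) (kg xg14 yg5 zg4) (kg xg13 yg14 zg51) (kg xg7 yg5 zg21) (kg xg7 yg24 zg17) (kg xg7 yg26 zg31) (kg xg3 yg44 zg27) (kg xg6 yg24 zg58) (kg xg13 yg38 zg15) (kg xg14 yg5 zg13) (kg xg14 yg5 zg12) (kg xg3 yg43 zg37) (kg xg14 yg5 zg22) (kg xg13 yg38 zg19) (kg xg7 yg22 zg26) (kg xg3 yg43 zg38) (kg xg14 yg5 zg31) (kg xg7 yg22 zg24) (kg xg14 yg5 zg35) (kg xg7 yg51 zg5) (kg xg3 yg44 zg33) (kg xg3 yg43 zg49) (kg xg7 yg53 zg43) (kg xg7 yg10 zg58) (kg xg7 yg22 zg36)) (@D3.rec (fun _ => Pt) (kg xg3 yg43 zg41) (kg xg14 yg5 zg50) (kg xg7 yg22 zg34) (kg xg13 yg25 zg23) (kg xg7 yg50 zg27) (kg xg7 yg3 zg13) (kg xg3 yg43 zg45) (kg xg6 yg54 zg45) (kg xg14 yg6 zg0) (kg xg13 yg2 zg43) (kg xg7 yg21 zg57) (kg xg7 yg22 zg27) (kg xg14 yg6 zg5) (kg xg13 yg25 zg19) (kg xg14 yg6 zg9) (kg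 xg7 yg22 zg0) (kg xg3 yg43 zg50) (kg xg14 yg6 zg17) (kg xg7 yg21 zg60) (kg xg7 yg54 zg38) (kg xg7 yg4 zg46) (kg xg14 yg5 zg1) (kg xg7 yg54 zg40) (kg xg6 yg55 zg51) (kg xg7 yg4 zg26) (kg xg3 yg43 zg53) (kg xg7 yg54 zg34) (kg xg13 yg0 zg53) (kg xg7 yg23 zg19) (kg xg7 yg23 zg50) (kg xg7 yg1 zg13) (kg xg3 yg44 zg6) (kg xg3 yg44 zg16) (kg xg7 yg22 zg49) (kg xg14 yg6 zg43) (kg xg7 yg22 zg46) (kg xg3 yg43 zg57) (kg xg13 yg55 zg33) (kg xg14 yg6 zg51) (kg xg14 yg6 zg46) (kg xg3 yg43 zg58) (kg xg14 yg7 zg0) (kg xg14 yg6 zg44) (kg xg7 yg23 zg15) (kg xg3 yg43 zg59) (kg xg14 yg7 zg8) (kg xg7 yg23 zg13) (kg xg7 yg23 zg18) (kg xg3 yg43 zg60) (kg xg13 yg56 zg52) (kg xg7 yg23 zg16) (kg xg7 yg1 zg16) (kg xg13 yg37 zg23) (kg xg7 yg18 zg4) (kg xg13 yg25 zg30) (kg xg13 yg25 zg31) (kg xg3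 yg44 zg3) (kg xg14 yg7 zg28) (kg xg7 yg22 zg58) (kg xg3 yg44 zg4) (kg xg14 yg7 zg34) (kg xg7 yg22 zg56)) (@D3.rec (fun _ => Pt) (kg xg3 yg44 zg5) (kg xg13 yg56 zg5) (kg xg7 yg22 zg44) (kg xg13 yg6 zg24) (kg xg14 yg7 zg43) (kg xg7 yg23 zg29) (kg xg3 yg44 zg7) (kg xg14 yg7 zg50) (kg xg7 yg23 zg27) (kg xg7 yg23 zg1) (kg xg14 yg7 zg55) (kg xg14 yg7 zg58) (kg xg7 yg23 zg32) (kg xg3 yg44 zg10) (kg xg14 yg8 zg0) (kg xg6 yg32 zg4) (kg xg3 yg44 zg11) (kg xg9 yg45 zg44) (kg xg6 yg32 zg2) (kg xg14 yg8 zg11) (kg xg14 yg8 zg15) (kg xg14 yg8 zg18) (kg xg9 yg46 zg9) (kg xg12 yg23 zg5) (kg xg13 yg6 zg29) (kg xg14 yg8 zg19) (kg xg14 yg8 zg34) (kg xg14 yg4 zg20) (kg xg3 yg44 zg14) (kg xg14 yg8 zg44) (kg xg14 yg4 zg19) (kg xg13 yg37 zg21) (kg xg13 yg37 zg20) (kg xg14 yg8 zg53) (kg xg14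 yg8 zg57) (kg xg13 yg5 zg11) (kg xg14 yg9 zg0) (kg xg3 yg53 zg58) (kg xg3 yg44 zg19) (kg xg7 yg23 zg2) (kg xg13 yg48 zg15) (kg xg14 yg9 zg10) (kg xg14 yg2 zg39) (kg xg14 yg9 zg14) (kg xg14 yg8 zg50) (kg xg14 yg9 zg20) (kg xg14 yg9 zg21) (kg xg14 yg7 zg20) (kg xg13 yg6 zg32) (kg xg14 yg9 zg27) (kg xg7 yg11 zg23) (kg xg3 yg44 zg24) (kg xg14 yg9 zg34) (kg xg14 yg9 zg37) (kg xg7 yg5 zg15) (kg xg13 yg26 zg12) (kg xg13 yg26 zg11) (kg xg14 yg9 zg46) (kg xg14 yg9 zg49) (kg xg3 yg44 zg32) (kg xg3 yg44 zg28) (kg xg6 yg23 zg13)) (@D3.rec (fun _ => Pt) (kg xg14 yg9 zg58) (kg xg3 yg44 zg29) (kg xg7 yg25 zg3) (kg xg3 yg44 zg31) (kg xg7 yg21 zg46) (kg xg14 yg10 zg3) (kg xg14 yg10 zg7) (kg xg6 yg58 zg6) (kg xg12 yg48 zg16) (kg xg7 yg4 zg43) (kg xg7 yg25 zg30) (kg xg3 yg49 zg58) (kg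 xg7 yg37 zg61) (kg xg6 yg56 zg5) (kg xg6 yg55 zg4) (kg xg6 yg43 zg12) (kg xg3 yg50 zg13) (kg xg3 yg48 zg56) (kg xg6 yg54 zg23) (kg xg3 yg44 zg36) (kg xg14 yg10 zg26) (kg xg6 yg54 zg21) (kg xg14 yg10 zg30) (kg xg7 yg24 zg54) (kg xg3 yg52 zg25) (kg xg14 yg10 zg37) (kg xg3 yg52 zg32) (kg xg14 yg10 zg41) (kg xg7 yg33 zg20) (kg xg14 yg10 zg44) (kg xg13 yg14 zg28) (kg xg3 yg44 zg42) (kg xg13 yg15 zg4) (kg xg13 yg50 zg10) (kg xg13 yg50 zg50) (kg xg3 yg52 zg42) (kg xg5 yg55 zg20) (kg xg3 yg44 zg49) (kg xg4 yg37 zg15) (kg xg4 yg38 zg22) (kg xg11 yg31 zg27) (kg xg10 yg59 zg0) (kg xg13 yg23 zg43) (kg xg7 yg22 zg43) (kg xg12 yg34 zg8) (kg xg13 yg20 zg10) (kg xg13 yg19 zg17) (kg xg13 yg49 zg53) (kg xg3 yg44 zg57) (kg xg14 yg11 zg3) (kg xg6 yg56 zg34) (kg xg3 yg44 zg59) (kg xg14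 yg11 zg9) (kg xg6 yg56 zg32) (kg xg13 yg6 zg1) (kg xg3 yg45 zg2) (kg xg13 yg24 zg15) (kg xg6 yg20 zg21) (kg xg6 yg20 zg9) (kg xg14 yg11 zg16) (kg xg7 yg36 zg36) (kg xg12 yg25 zg27)) (@D3.rec (fun _ => Pt) (kg xg6 yg41 zg21) (kg xg14 yg11 zg22) (kg xg6 yg41 zg34) (kg xg6 yg36 zg39) (kg xg3 yg45 zg9) (kg xg6 yg36 zg38) (kg xg14 yg11 zg30) (kg xg14 yg11 zg33) (kg xg7 yg45 zg20) (kg xg12 yg28 zg61) (kg xg6 yg19 zg12) (kg xg12 yg11 zg5) (kg xg6 yg19 zg10) (kg xg3 yg47 zg25) (kg xg14 yg11 zg40) (kg xg7 yg3 zg11) (kg xg12 yg50 zg33) (kg xg4 yg44 zg6) (kg xg12 yg28 zg38) (kg xg12 yg28 zg1) (kg xg6 yg34 zg18) (kg xg3 yg45 zg18) (kg xg6 yg20 zg11) (kg xg9 yg57 zg4) (kg xg5 yg16 zg41) (kg xg6 yg10 zg21) (kg xg6 yg34 zg13) (kg xg6 yg34 zg12) (kg xg14 yg11 zg51) (kg xg6 yg34 zg22)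 (kg xg3 yg45 zg24) (kg xg12 yg38 zg41) (kg xg6 yg11 zg40) (kg xg9 yg20 zg43) (kg xg3 yg45 zg27) (kg xg12 yg27 zg8) (kg xg5 yg55 zg36) (kg xg5 yg58 zg20) (kg xg5 yg4 zg39) (kg xg14 yg4 zg52) (kg xg7 yg33 zg57) (kg xg14 yg11 zg61) (kg xg12 yg58 zg33) (kg xg3 yg45 zg32) (kg xg12 yg58 zg31) (kg xg14 yg12 zg0) (kg xg9 yg32 zg49) (kg xg3 yg45 zg33) (kg xg14 yg12 zg12) (kg xg12 yg0 zg2) (kg xg14 yg12 zg18) (kg xg12 yg29 zg34) (kg xg14 yg11 zg55) (kg xg9 yg20 zg42) (kg xg3 yg45 zg52) (kg xg13 yg17 zg42) (kg xg13 yg15 zg53) (kg xg3 yg45 zg59) (kg xg3 yg46 zg5) (kg xg7 yg37 zg44) (kg xg13 yg22 zg44) (kg xg7 yg38 zg15)) (@D3.rec (fun _ => Pt) (kg xg3 yg45 zg41) (kg xg9 yg21 zg8) (kg xg9 yg22 zg12) (kg xg13 yg22 zg45) (kg xg3 yg45 zg42) (kg xg14 yg12 zg40) (kg xg7 yg38 zg25) (kg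 xg12 yg10 zg10) (kg xg6 yg38 zg23) (kg xg7 yg47 zg41) (kg xg7 yg2 zg50) (kg xg3 yg46 zg49) (kg xg14 yg12 zg47) (kg xg14 yg12 zg50) (kg xg11 yg42 zg34) (kg xg14 yg12 zg49) (kg xg3 yg45 zg48) (kg xg14 yg12 zg60) (kg xg6 yg52 zg16) (kg xg7 yg38 zg21) (kg xg3 yg45 zg49) (kg xg14 yg13 zg6) (kg xg7 yg38 zg19) (kg xg3 yg45 zg50) (kg xg13 yg35 zg33) (kg xg7 yg48 zg34) (kg xg6 yg53 zg14) (kg xg6 yg59 zg46) (kg xg14 yg13 zg17) (kg xg3 yg45 zg53) (kg xg13 yg29 zg55) (kg xg9 yg21 zg20) (kg xg3 yg45 zg58) (kg xg3 yg45 zg54) (kg xg10 yg25 zg43) (kg xg3 yg45 zg56) (kg xg13 yg4 zg55) (kg xg14 yg13 zg28) (kg xg13 yg33 zg29) (kg xg14 yg13 zg15) (kg xg10 yg7 zg23) (kg xg13 yg22 zg55) (kg xg10 yg23 zg51) (kg xg3 yg45 zg57) (kg xg9 yg58 zg35) (kg xg13 yg17 zg22) (kg xg9 yg20 zg58) (kg xg14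 yg13 zg40) (kg xg14 yg13 zg44) (kg xg12 yg38 zg1) (kg xg6 yg53 zg59) (kg xg14 yg13 zg49) (kg xg11 yg59 zg11) (kg xg13 yg17 zg45) (kg xg3 yg46 zg0) (kg xg14 yg13 zg59) (kg xg9 yg28 zg38) (kg xg14 yg14 zg1) (kg xg6 yg35 zg10) (kg xg14 yg14 zg8) (kg xg14 yg13 zg58) (kg xg6 yg54 zg1)) (@D3.rec (fun _ => Pt) (kg xg6 yg10 zg25) (kg xg14 yg14 zg9) (kg xg6 yg19 zg57) (kg xg13 yg18 zg37) (kg xg3 yg46 zg3) (kg xg14 yg14 zg30) (kg xg13 yg18 zg35) (kg xg13 yg18 zg43) (kg xg13 yg18 zg42) (kg xg14 yg14 zg37) (kg xg14 yg14 zg41) (kg xg3 yg46 zg6) (kg xg14 yg1 zg10) (kg xg14 yg14 zg45) (kg xg3 yg46 zg8) (kg xg6 yg53 zg60) (kg xg7 yg26 zg24) (kg xg14 yg14 zg53) (kg xg14 yg1 zg11) (kg xg14 yg14 zg57) (kg xg7 yg5 zg57) (kg xg14 yg14 zg34) (kg xg13 yg20 zg1) (kg xg3 yg53 zg21) (kg xg14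 yg15 zg6) (kg xg6 yg54 zg3) (kg xg7 yg1 zg47) (kg xg3 yg48 zg8) (kg xg14 yg15 zg14) (kg xg7 yg33 zg32) (kg xg3 yg46 zg13) (kg xg9 yg53 zg52) (kg xg7 yg33 zg30) (kg xg13 yg18 zg55) (kg xg6 yg54 zg16) (kg xg14 yg15 zg25) (kg xg14 yg15 zg29) (kg xg7 yg48 zg21) (kg xg14 yg15 zg33) (kg xg3 yg46 zg17) (kg xg13 yg4 zg21) (kg xg7 yg1 zg48) (kg xg7 yg17 zg6) (kg xg13 yg26 zg48) (kg xg7 yg12 zg12) (kg xg13 yg34 zg16) (kg xg9 yg2 zg50) (kg xg3 yg46 zg22) (kg xg13 yg34 zg17) (kg xg3 yg46 zg23) (kg xg14 yg15 zg46) (kg xg14 yg15 zg49) (kg xg7 yg19 zg34) (kg xg11 yg29 zg5) (kg xg12 yg27 zg35) (kg xg3 yg46 zg30) (kg xg14 yg15 zg54) (kg xg7 yg31 zg37) (kg xg14 yg15 zg59) (kg xg12 yg10 zg28) (kg xg9 yg21 zg23) (kg xg13 yg18 zg14)) (@D3.rec (fun _ => Pt) (kg xg14 yg16 zg4) (kg xg13 yg18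 zg12) (kg xg11 yg48 zg30) (kg xg13 yg34 zg29) (kg xg6 yg38 zg14) (kg xg12 yg10 zg21) (kg xg9 yg28 zg36) (kg xg12 yg10 zg18) (kg xg14 yg16 zg12) (kg xg9 yg32 zg0) (kg xg3 yg46 zg41) (kg xg14 yg16 zg21) (kg xg12 yg51 zg36) (kg xg14 yg0 zg54) (kg xg13 yg39 zg19) (kg xg11 yg32 zg13) (kg xg7 yg10 zg12) (kg xg13 yg17 zg15) (kg xg13 yg34 zg27) (kg xg3 yg46 zg44) (kg xg14 yg16 zg36) (kg xg14 yg16 zg39) (kg xg6 yg34 zg35) (kg xg12 yg57 zg14) (kg xg9 yg27 zg34) (kg xg14 yg12 zg23) (kg xg6 yg10 zg34) (kg xg14 yg16 zg43) (kg xg14 yg16 zg57) (kg xg12 yg56 zg60) (kg xg3 yg46 zg47) (kg xg13 yg17 zg55) (kg xg13 yg17 zg56) (kg xg13 yg13 zg18) (kg xg13 yg24 zg26) (kg xg14 yg17 zg9) (kg xg3 yg46 zg52) (kg xg13 yg15 zg52) (kg xg14 yg17 zg16) (kg xg14 yg17 zg20) (kg xg13 yg45 zg27) (kg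 xg13 yg49 zg47) (kg xg14 yg17 zg25) (kg xg14 yg12 zg24) (kg xg14 yg17 zg31) (kg xg3 yg46 zg57) (kg xg14 yg17 zg37) (kg xg7 yg4 zg50) (kg xg6 yg54 zg32) (kg xg13 yg23 zg7) (kg xg12 yg51 zg39) (kg xg6 yg55 zg33) (kg xg5 yg58 zg59) (kg xg14 yg17 zg44) (kg xg10 yg47 zg14) (kg xg3 yg47 zg2) (kg xg10 yg47 zg13) (kg xg3 yg48 zg45) (kg xg3 yg47 zg3) (kg xg14 yg17 zg55) (kg xg3 yg48 zg43) (kg xg6 yg55 zg28)) (@D3.rec (fun _ => Pt) (kg xg7 yg15 zg32) (kg xg3 yg48 zg55) (kg xg3 yg47 zg5) (kg xg13 yg39 zg55) (kg xg3 yg47 zg32) (kg xg7 yg15 zg43) (kg xg7 yg14 zg60) (kg xg10 yg47 zg17) (kg xg3 yg47 zg10) (kg xg10 yg47 zg16) (kg xg3 yg49 zg33) (kg xg3 yg47 zg11) (kg xg14 yg18 zg15) (kg xg3 yg49 zg31) (kg xg14 yg18 zg18) (kg xg13 yg23 zg55) (kg xg3 yg55 zg47) (kg xg13 yg23 zg15) (kg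 xg3 yg49 zg43) (kg xg3 yg47 zg14) (kg xg14 yg18 zg29) (kg xg3 yg47 zg33) (kg xg14 yg10 zg31) (kg xg3 yg47 zg51) (kg xg14 yg18 zg34) (kg xg14 yg18 zg37) (kg xg3 yg47 zg18) (kg xg14 yg18 zg41) (kg xg14 yg18 zg35) (kg xg3 yg50 zg18) (kg xg3 yg47 zg19) (kg xg14 yg18 zg49) (kg xg3 yg50 zg16) (kg xg7 yg38 zg54) (kg xg7 yg51 zg43) (kg xg3 yg51 zg52) (kg xg7 yg49 zg41) (kg xg7 yg51 zg35) (kg xg3 yg52 zg26) (kg xg13 yg34 zg2) (kg xg11 yg40 zg17) (kg xg12 yg2 zg34) (kg xg13 yg34 zg3) (kg xg3 yg47 zg26) (kg xg14 yg19 zg8) (kg xg3 yg50 zg42) (kg xg3 yg47 zg27) (kg xg14 yg19 zg15) (kg xg3 yg50 zg40) (kg xg3 yg50 zg46) (kg xg7 yg40 zg14) (kg xg3 yg47 zg29) (kg xg6 yg56 zg13) (kg xg12 yg33 zg42) (kg xg14 yg19 zg23) (kg xg14 yg19 zg27) (kg xg11 yg35 zg38) (kg xg14 yg19 zg32) (kg xg6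 yg55 zg42) (kg xg7 yg7 zg47) (kg xg12 yg33 zg55) (kg xg14 yg19 zg37)) (@D3.rec (fun _ => Pt) (kg xg14 yg19 zg41) (kg xg14 yg19 zg11) (kg xg14 yg19 zg18) (kg xg3 yg49 zg44) (kg xg12 yg44 zg12) (kg xg14 yg19 zg51) (kg xg3 yg47 zg46) (kg xg3 yg47 zg38) (kg xg14 yg19 zg59) (kg xg3 yg47 zg44) (kg xg12 yg24 zg12) (kg xg4 yg48 zg12) (kg xg14 yg20 zg5) (kg xg11 yg44 zg36) (kg xg4 yg34 zg40) (kg xg11 yg33 zg46) (kg xg6 yg54 zg19) (kg xg3 yg47 zg41) (kg xg14 yg20 zg11) (kg xg10 yg59 zg28) (kg xg14 yg19 zg54) (kg xg3 yg47 zg42) (kg xg14 yg20 zg21) (kg xg14 yg19 zg52) (kg xg14 yg20 zg25) (kg xg14 yg20 zg29) (kg xg11 yg0 zg43) (kg xg13 yg36 zg44) (kg xg14 yg19 zg35) (kg xg7 yg38 zg0) (kg xg7 yg33 zg40) (kg xg14 yg20 zg0) (kg xg3 yg47 zg45) (kg xg14 yg20 zg43) (kg xg14 yg19 zg60)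 (kg xg11 yg44 zg39) (kg xg12 yg35 zg23) (kg xg14 yg20 zg48) (kg xg13 yg19 zg29) (kg xg6 yg38 zg22) (kg xg7 yg30 zg60) (kg xg10 yg39 zg54) (kg xg14 yg20 zg61) (kg xg3 yg51 zg46) (kg xg3 yg47 zg49) (kg xg14 yg21 zg8) (kg xg3 yg51 zg44) (kg xg3 yg52 zg5) (kg xg3 yg52 zg4) (kg xg14 yg21 zg16) (kg xg3 yg47 zg52) (kg xg7 yg47 zg28) (kg xg14 yg21 zg20) (kg xg3 yg47 zg54) (kg xg3 yg49 zg61) (kg xg6 yg40 zg42) (kg xg14 yg21 zg26) (kg xg7 yg47 zg31) (kg xg14 yg21 zg14) (kg xg7 yg47 zg13) (kg xg14 yg21 zg29) (kg xg14 yg18 zg56)) (@D3.rec (fun _ => Pt) (kg xg7 yg37 zg60) (kg xg14 yg21 zg34) (kg xg3 yg52 zg23) (kg xg3 yg47 zg60) (kg xg14 yg21 zg41) (kg xg14 yg21 zg44) (kg xg3 yg53 zg43) (kg xg3 yg55 zg59) (kg xg13 yg17 zg20) (kg xg3 yg53 zg14) (kg xg3 yg53 zg13) (kg xg14 yg21 zg54)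 (kg xg3 yg48 zg7) (kg xg3 yg48 zg3) (kg xg13 yg45 zg38) (kg xg14 yg22 zg2) (kg xg13 yg39 zg18) (kg xg3 yg48 zg6) (kg xg3 yg48 zg31) (kg xg14 yg22 zg10) (kg xg13 yg46 zg18) (kg xg14 yg21 zg17) (kg xg14 yg22 zg16) (kg xg7 yg1 zg4) (kg xg12 yg51 zg40) (kg xg3 yg52 zg36) (kg xg10 yg47 zg24) (kg xg3 yg48 zg13) (kg xg14 yg22 zg27) (kg xg6 yg56 zg9) (kg xg3 yg48 zg14) (kg xg14 yg22 zg30) (kg xg6 yg56 zg7) (kg xg6 yg56 zg12) (kg xg3 yg48 zg15) (kg xg13 yg8 zg34) (kg xg3 yg48 zg18) (kg xg6 yg34 zg11) (kg xg6 yg33 zg61) (kg xg13 yg4 zg3) (kg xg7 yg17 zg2) (kg xg3 yg53 zg25) (kg xg7 yg31 zg59) (kg xg14 yg18 zg19) (kg xg3 yg48 zg38) (kg xg3 yg48 zg46) (kg xg14 yg22 zg42) (kg xg14 yg22 zg45) (kg xg3 yg48 zg23) (kg xg14 yg22 zg51) (kg xg14 yg22 zg43) (kg xg13 yg23 zg5) (kg xg7 yg46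 zg54) (kg xg13 yg17 zg14) (kg xg3 yg48 zg40) (kg xg3 yg49 zg34) (kg xg14 yg21 zg47) (kg xg14 yg21 zg48) (kg xg3 yg48 zg28) (kg xg14 yg23 zg1) (kg xg7 yg36 zg59) (kg xg7 yg30 zg15)) (@D3.rec (fun _ => Pt) (kg xg7 yg36 zg25) (kg xg13 yg23 zg12) (kg xg3 yg48 zg37) (kg xg3 yg48 zg32) (kg xg3 yg48 zg33) (kg xg8 yg56 zg40) (kg xg6 yg12 zg49) (kg xg13 yg45 zg39) (kg xg7 yg9 zg48) (kg xg6 yg6 zg20) (kg xg14 yg22 zg9) (kg xg7 yg35 zg55) (kg xg6 yg43 zg24) (kg xg14 yg23 zg17) (kg xg7 yg7 zg26) (kg xg7 yg32 zg0) (kg xg6 yg33 zg19) (kg xg14 yg23 zg30) (kg xg7 yg32 zg22) (kg xg3 yg48 zg39) (kg xg14 yg23 zg39) (kg xg7 yg32 zg20) (kg xg13 yg6 zg33) (kg xg5 yg58 zg11) (kg xg12 yg14 zg39) (kg xg4 yg44 zg40) (kg xg14 yg23 zg49) (kg xg6 yg37 zg50) (kg xg14 yg23 zg56) (kg xg12 yg42 zg26)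 (kg xg6 yg55 zg25) (kg xg6 yg35 zg28) (kg xg14 yg23 zg57) (kg xg14 yg24 zg10) (kg xg14 yg17 zg57) (kg xg3 yg48 zg44) (kg xg14 yg24 zg19) (kg xg14 yg14 zg12) (kg xg13 yg33 zg33) (kg xg13 yg33 zg32) (kg xg14 yg24 zg25) (kg xg14 yg24 zg29) (kg xg3 yg48 zg47) (kg xg13 yg43 zg3) (kg xg14 yg24 zg35) (kg xg3 yg48 zg49) (kg xg6 yg55 zg23) (kg xg7 yg51 zg34) (kg xg14 yg24 zg44) (kg xg13 yg7 zg47) (kg xg13 yg42 zg54) (kg xg14 yg24 zg51) (kg xg13 yg15 zg2) (kg xg14 yg24 zg23) (kg xg7 yg41 zg49) (kg xg14 yg24 zg61) (kg xg6 yg55 zg27) (kg xg7 yg35 zg33) (kg xg14 yg25 zg7) (kg xg8 yg56 zg0) (kg xg13 yg40 zg13) (kg xg14 yg25 zg10)) (@D3.rec (fun _ => Pt) (kg xg14 yg3 zg32) (kg xg3 yg48 zg57) (kg xg13 yg23 zg36) (kg xg14 yg25 zg19) (kg xg3 yg49 zg0) (kg xg14 yg25 zg23) (kg xg14 yg24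 zg31) (kg xg14 yg25 zg26) (kg xg13 yg14 zg59) (kg xg3 yg49 zg2) (kg xg3 yg49 zg14) (kg xg13 yg40 zg44) (kg xg7 yg7 zg12) (kg xg13 yg43 zg28) (kg xg14 yg25 zg34) (kg xg13 yg43 zg29) (kg xg3 yg49 zg8) (kg xg14 yg25 zg39) (kg xg8 yg46 zg60) (kg xg13 yg28 zg10) (kg xg13 yg39 zg58) (kg xg7 yg14 zg55) (kg xg6 yg54 zg38) (kg xg14 yg25 zg46) (kg xg14 yg25 zg49) (kg xg14 yg25 zg52) (kg xg3 yg49 zg19) (kg xg14 yg22 zg55) (kg xg3 yg53 zg29) (kg xg5 yg57 zg34) (kg xg14 yg25 zg59) (kg xg3 yg49 zg21) (kg xg14 yg26 zg3) (kg xg3 yg49 zg27) (kg xg12 yg1 zg53) (kg xg11 yg27 zg38) (kg xg4 yg44 zg43) (kg xg14 yg26 zg6) (kg xg14 yg23 zg34) (kg xg11 yg44 zg45) (kg xg14 yg26 zg10) (kg xg14 yg26 zg0) (kg xg3 yg49 zg25) (kg xg14 yg26 zg20) (kg xg14 yg25 zg60) (kg xg14 yg26 zg24) (kg xg14 yg26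 zg26) (kg xg13 yg33 zg60) (kg xg7 yg37 zg16) (kg xg10 yg47 zg12) (kg xg3 yg49 zg28) (kg xg14 yg26 zg37) (kg xg14 yg26 zg4) (kg xg6 yg8 zg15) (kg xg6 yg36 zg59) (kg xg14 yg26 zg47) (kg xg14 yg23 zg38) (kg xg14 yg22 zg38) (kg xg6 yg35 zg17) (kg xg14 yg26 zg48) (kg xg14 yg27 zg1) (kg xg14 yg18 zg17)) (@D3.rec (fun _ => Pt) (kg xg3 yg49 zg32) (kg xg14 yg27 zg10) (kg xg14 yg16 zg46) (kg xg13 yg36 zg39) (kg xg14 yg27 zg17) (kg xg14 yg27 zg20) (kg xg14 yg27 zg23) (kg xg3 yg49 zg37) (kg xg13 yg29 zg58) (kg xg14 yg27 zg30) (kg xg14 yg27 zg33) (kg xg14 yg27 zg21) (kg xg14 yg27 zg36) (kg xg13 yg36 zg40) (kg xg7 yg42 zg38) (kg xg7 yg3 zg35) (kg xg14 yg27 zg43) (kg xg14 yg22 zg39) (kg xg7 yg35 zg50) (kg xg14 yg27 zg50) (kg xg13 yg32 zg41) (kg xg3 yg49 zg42) (kg xg14 yg27 zg59) (kg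 xg14 yg1 zg23) (kg xg14 yg28 zg2) (kg xg14 yg28 zg4) (kg xg14 yg20 zg32) (kg xg14 yg28 zg8) (kg xg7 yg6 zg37) (kg xg13 yg50 zg11) (kg xg7 yg6 zg35) (kg xg7 yg17 zg52) (kg xg13 yg23 zg42) (kg xg7 yg6 zg47) (kg xg14 yg15 zg42) (kg xg7 yg6 zg45) (kg xg7 yg18 zg29) (kg xg14 yg28 zg22) (kg xg3 yg49 zg52) (kg xg13 yg26 zg55) (kg xg13 yg30 zg1) (kg xg14 yg28 zg26) (kg xg14 yg28 zg32) (kg xg13 yg28 zg35) (kg xg3 yg49 zg59) (kg xg3 yg49 zg55) (kg xg12 yg23 zg49) (kg xg14 yg28 zg39) (kg xg14 yg28 zg43) (kg xg13 yg35 zg5) (kg xg14 yg28 zg48) (kg xg13 yg34 zg60) (kg xg13 yg1 zg15) (kg xg14 yg20 zg26) (kg xg11 yg45 zg23) (kg xg14 yg28 zg54) (kg xg3 yg51 zg35) (kg xg3 yg52 zg11) (kg xg14 yg15 zg57) (kg xg14 yg28 zg57) (kg xg3 yg50 zg10) (kg xg3 yg50 zg1)) (@D3.rec (fun _ => Pt) (kg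 xg14 yg29 zg3) (kg xg3 yg50 zg8) (kg xg9 yg22 zg19) (kg xg14 yg29 zg8) (kg xg14 yg2 zg55) (kg xg3 yg50 zg3) (kg xg14 yg29 zg4) (kg xg3 yg55 zg25) (kg xg12 yg33 zg41) (kg xg7 yg2 zg9) (kg xg11 yg29 zg56) (kg xg3 yg50 zg5) (kg xg14 yg28 zg59) (kg xg3 yg50 zg6) (kg xg14 yg29 zg23) (kg xg12 yg33 zg45) (kg xg6 yg56 zg20) (kg xg14 yg29 zg27) (kg xg14 yg29 zg30) (kg xg14 yg21 zg24) (kg xg14 yg19 zg21) (kg xg14 yg28 zg37) (kg xg14 yg25 zg14) (kg xg13 yg28 zg57) (kg xg14 yg29 zg5) (kg xg3 yg50 zg9) (kg xg14 yg29 zg16) (kg xg10 yg47 zg26) (kg xg14 yg29 zg48) (kg xg14 yg29 zg52) (kg xg7 yg2 zg21) (kg xg3 yg50 zg14) (kg xg14 yg29 zg60) (kg xg7 yg2 zg23) (kg xg14 yg19 zg31) (kg xg7 yg45 zg2) (kg xg7 yg2 zg16) (kg xg3 yg50 zg51) (kg xg14 yg30 zg2) (kg xg14 yg30 zg9) (kg xg14 yg18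 zg52) (kg xg3 yg50 zg17) (kg xg14 yg30 zg15) (kg xg14 yg18 zg50) (kg xg14 yg19 zg34) (kg xg10 yg38 zg1) (kg xg13 yg42 zg30) (kg xg3 yg50 zg20) (kg xg14 yg30 zg29) (kg xg7 yg38 zg57) (kg xg14 yg30 zg34) (kg xg14 yg19 zg55) (kg xg5 yg21 zg35) (kg xg6 yg14 zg61) (kg xg4 yg44 zg3) (kg xg6 yg56 zg47) (kg xg5 yg48 zg27) (kg xg3 yg50 zg26) (kg xg14 yg10 zg34) (kg xg3 yg52 zg29) (kg xg13 yg8 zg5) (kg xg3 yg50 zg38)) (@D3.rec (fun _ => Pt) (kg xg3 yg50 zg28) (kg xg14 yg30 zg50) (kg xg3 yg50 zg36) (kg xg3 yg55 zg56) (kg xg11 yg25 zg7) (kg xg3 yg50 zg31) (kg xg10 yg47 zg21) (kg xg13 yg41 zg27) (kg xg11 yg29 zg37) (kg xg9 yg6 zg28) (kg xg11 yg30 zg2) (kg xg3 yg50 zg34) (kg xg14 yg31 zg4) (kg xg11 yg30 zg0) (kg xg14 yg19 zg40) (kg xg14 yg31 zg9) (kg xg6 yg55 zg57) (kg xg13 yg34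 zg8) (kg xg13 yg12 zg25) (kg xg14 yg30 zg53) (kg xg3 yg50 zg37) (kg xg14 yg31 zg25) (kg xg14 yg30 zg51) (kg xg14 yg31 zg31) (kg xg14 yg29 zg59) (kg xg14 yg10 zg15) (kg xg14 yg31 zg32) (kg xg14 yg21 zg3) (kg xg14 yg19 zg17) (kg xg3 yg50 zg41) (kg xg14 yg31 zg47) (kg xg14 yg19 zg16) (kg xg14 yg31 zg52) (kg xg14 yg10 zg16) (kg xg14 yg31 zg58) (kg xg13 yg32 zg33) (kg xg3 yg50 zg45) (kg xg14 yg32 zg1) (kg xg7 yg40 zg18) (kg xg14 yg32 zg6) (kg xg3 yg50 zg58) (kg xg3 yg51 zg5) (kg xg13 yg45 zg48) (kg xg7 yg38 zg16) (kg xg14 yg32 zg15) (kg xg13 yg45 zg49) (kg xg3 yg50 zg50) (kg xg14 yg32 zg25) (kg xg6 yg56 zg24) (kg xg6 yg0 zg44) (kg xg6 yg56 zg22) (kg xg6 yg56 zg28) (kg xg6 yg3 zg31) (kg xg3 yg51 zg4) (kg xg3 yg50 zg53) (kg xg11 yg58 zg57) (kg xg3 yg51 zg2) (kg xg14 yg22 zg21)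 (kg xg7 yg18 zg42) (kg xg6 yg55 zg53) (kg xg14 yg5 zg60) (kg xg3 yg51 zg13)) (@D3.rec (fun _ => Pt) (kg xg3 yg50 zg56) (kg xg14 yg32 zg50) (kg xg3 yg51 zg11) (kg xg7 yg32 zg46) (kg xg14 yg32 zg57) (kg xg5 yg59 zg58) (kg xg14 yg33 zg0) (kg xg4 yg46 zg39) (kg xg12 yg25 zg0) (kg xg6 yg56 zg38) (kg xg3 yg50 zg61) (kg xg6 yg56 zg37) (kg xg14 yg33 zg8) (kg xg6 yg50 zg40) (kg xg3 yg51 zg0) (kg xg14 yg33 zg14) (kg xg6 yg50 zg38) (kg xg14 yg33 zg16) (kg xg5 yg59 zg30) (kg xg14 yg33 zg23) (kg xg14 yg11 zg8) (kg xg6 yg32 zg45) (kg xg6 yg1 zg15) (kg xg14 yg33 zg24) (kg xg4 yg46 zg36) (kg xg11 yg58 zg55) (kg xg14 yg33 zg38) (kg xg11 yg40 zg54) (kg xg14 yg32 zg10) (kg xg14 yg32 zg12) (kg xg10 yg40 zg4) (kg xg14 yg31 zg14) (kg xg3 yg51 zg9) (kg xg3 yg51 zg6) (kg xg14 yg33 zg57) (kg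 xg14 yg33 zg61) (kg xg7 yg1 zg55) (kg xg3 yg51 zg8) (kg xg6 yg56 zg15) (kg xg14 yg34 zg6) (kg xg14 yg33 zg58) (kg xg10 yg39 zg50) (kg xg14 yg33 zg45) (kg xg14 yg34 zg16) (kg xg14 yg34 zg20) (kg xg14 yg22 zg20) (kg xg13 yg7 zg58) (kg xg14 yg34 zg29) (kg xg14 yg32 zg53) (kg xg3 yg51 zg12) (kg xg14 yg34 zg38) (kg xg7 yg22 zg35) (kg xg14 yg32 zg51) (kg xg14 yg34 zg45) (kg xg14 yg34 zg47) (kg xg9 yg11 zg14) (kg xg3 yg51 zg15) (kg xg14 yg34 zg51) (kg xg14 yg34 zg53) (kg xg14 yg34 zg49) (kg xg3 yg51 zg16) (kg xg14 yg35 zg0)) (@D3.rec (fun _ => Pt) (kg xg4 yg46 zg29) (kg xg14 yg20 zg7) (kg xg14 yg35 zg7) (kg xg3 yg51 zg42) (kg xg14 yg35 zg8) (kg xg13 yg19 zg58) (kg xg3 yg51 zg19) (kg xg14 yg35 zg16) (kg xg13 yg19 zg56) (kg xg14 yg35 zg22) (kg xg6 yg47 zg18) (kg xg3 yg51 zg22)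 (kg xg14 yg35 zg30) (kg xg9 yg30 zg52) (kg xg14 yg35 zg34) (kg xg12 yg45 zg27) (kg xg14 yg35 zg35) (kg xg14 yg20 zg52) (kg xg13 yg19 zg32) (kg xg3 yg51 zg25) (kg xg13 yg19 zg31) (kg xg12 yg42 zg18) (kg xg6 yg1 zg40) (kg xg14 yg35 zg47) (kg xg4 yg41 zg40) (kg xg12 yg45 zg3) (kg xg14 yg35 zg53) (kg xg14 yg35 zg56) (kg xg3 yg51 zg30) (kg xg14 yg36 zg1) (kg xg14 yg35 zg54) (kg xg14 yg36 zg4) (kg xg12 yg45 zg6) (kg xg12 yg42 zg14) (kg xg14 yg36 zg5) (kg xg12 yg45 zg52) (kg xg3 yg51 zg33) (kg xg14 yg36 zg15) (kg xg12 yg28 zg6) (kg xg14 yg20 zg54) (kg xg14 yg20 zg53) (kg xg14 yg36 zg23) (kg xg14 yg36 zg26) (kg xg14 yg36 zg29) (kg xg3 yg51 zg40) (kg xg14 yg36 zg34) (kg xg14 yg36 zg37) (kg xg12 yg35 zg32) (kg xg3 yg51 zg41) (kg xg3 yg51 zg37) (kg xg14 yg36 zg46) (kg xg14 yg36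 zg51) (kg xg3 yg51 zg38) (kg xg7 yg41 zg32) (kg xg14 yg20 zg51) (kg xg3 yg51 zg39) (kg xg11 yg44 zg31) (kg xg4 yg34 zg26) (kg xg14 yg36 zg60) (kg xg14 yg36 zg38) (kg xg14 yg34 zg52) (kg xg14 yg36 zg47)) (@D3.rec (fun _ => Pt) (kg xg14 yg37 zg8) (kg xg14 yg21 zg1) (kg xg7 yg41 zg38) (kg xg13 yg19 zg52) (kg xg14 yg36 zg21) (kg xg14 yg37 zg17) (kg xg14 yg31 zg42) (kg xg14 yg37 zg23) (kg xg11 yg44 zg38) (kg xg14 yg37 zg18) (kg xg11 yg58 zg50) (kg xg14 yg37 zg30) (kg xg14 yg21 zg12) (kg xg3 yg51 zg45) (kg xg14 yg37 zg39) (kg xg14 yg37 zg44) (kg xg14 yg21 zg9) (kg xg14 yg21 zg45) (kg xg12 yg45 zg29) (kg xg14 yg28 zg45) (kg xg12 yg35 zg27) (kg xg14 yg37 zg53) (kg xg6 yg0 zg29) (kg xg9 yg30 zg11) (kg xg7 yg31 zg8) (kg xg14 yg37 zg54) (kg xg14 yg31 zg43) (kg xg12 yg45 zg31)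 (kg xg3 yg51 zg50) (kg xg14 yg38 zg7) (kg xg14 yg28 zg55) (kg xg12 yg47 zg48) (kg xg14 yg21 zg25) (kg xg14 yg19 zg7) (kg xg9 yg20 zg13) (kg xg7 yg51 zg1) (kg xg10 yg31 zg48) (kg xg3 yg51 zg54) (kg xg12 yg25 zg23) (kg xg10 yg39 zg16) (kg xg14 yg38 zg13) (kg xg3 yg51 zg55) (kg xg9 yg26 zg30) (kg xg13 yg34 zg55) (kg xg6 yg57 zg43) (kg xg6 yg53 zg2) (kg xg11 yg0 zg10) (kg xg3 yg53 zg17) (kg xg14 yg38 zg32) (kg xg3 yg52 zg53) (kg xg14 yg20 zg60) (kg xg3 yg52 zg8) (kg xg3 yg52 zg0) (kg xg14 yg38 zg42) (kg xg8 yg20 zg49) (kg xg10 yg31 zg35) (kg xg3 yg52 zg1) (kg xg14 yg38 zg53) (kg xg14 yg21 zg21) (kg xg13 yg17 zg33) (kg xg3 yg52 zg15) (kg xg6 yg54 zg47)) (@D3.rec (fun _ => Pt) (kg xg13 yg35 zg16) (kg xg3 yg52 zg6) (kg xg14 yg39 zg1) (kg xg14 yg38 zg60) (kg xg3 yg52 zg7) (kg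 xg13 yg35 zg13) (kg xg13 yg18 zg46) (kg xg14 yg21 zg23) (kg xg12 yg46 zg60) (kg xg14 yg39 zg8) (kg xg3 yg52 zg16) (kg xg3 yg52 zg12) (kg xg13 yg52 zg41) (kg xg14 yg39 zg15) (kg xg5 yg21 zg39) (kg xg3 yg52 zg14) (kg xg14 yg31 zg41) (kg xg14 yg21 zg30) (kg xg14 yg18 zg33) (kg xg5 yg21 zg37) (kg xg14 yg39 zg30) (kg xg5 yg22 zg60) (kg xg10 yg1 zg9) (kg xg14 yg39 zg34) (kg xg14 yg21 zg36) (kg xg3 yg52 zg18) (kg xg14 yg39 zg43) (kg xg14 yg21 zg35) (kg xg11 yg26 zg46) (kg xg14 yg39 zg20) (kg xg14 yg37 zg46) (kg xg14 yg39 zg38) (kg xg14 yg39 zg59) (kg xg3 yg52 zg21) (kg xg14 yg39 zg60) (kg xg14 yg40 zg9) (kg xg14 yg40 zg3) (kg xg14 yg40 zg14) (kg xg14 yg40 zg16) (kg xg14 yg21 zg13) (kg xg3 yg52 zg24) (kg xg14 yg40 zg24) (kg xg13 yg23 zg6) (kg xg14 yg40 zg28) (kg xg14 yg29 zg2)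 (kg xg3 yg52 zg30) (kg xg3 yg52 zg27) (kg xg14 yg14 zg61) (kg xg14 yg40 zg38) (kg xg6 yg58 zg46) (kg xg14 yg40 zg42) (kg xg14 yg40 zg37) (kg xg14 yg40 zg48) (kg xg14 yg28 zg50) (kg xg14 yg40 zg53) (kg xg14 yg40 zg54) (kg xg14 yg18 zg32) (kg xg7 yg37 zg52) (kg xg14 yg40 zg60) (kg xg14 yg10 zg39) (kg xg3 yg52 zg33) (kg xg14 yg41 zg6)) (@D3.rec (fun _ => Pt) (kg xg7 yg12 zg44) (kg xg6 yg56 zg58) (kg xg6 yg56 zg57) (kg xg14 yg41 zg15) (kg xg14 yg41 zg18) (kg xg3 yg52 zg37) (kg xg7 yg0 zg12) (kg xg14 yg41 zg23) (kg xg6 yg52 zg5) (kg xg13 yg29 zg59) (kg xg3 yg52 zg45) (kg xg13 yg29 zg61) (kg xg14 yg41 zg31) (kg xg7 yg37 zg0) (kg xg14 yg41 zg35) (kg xg5 yg25 zg9) (kg xg6 yg43 zg26) (kg xg14 yg23 zg7) (kg xg14 yg22 zg11) (kg xg7 yg47 zg51) (kg xg14 yg22 zg8) (kg xg3 yg52 zg49)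 (kg xg14 yg41 zg50) (kg xg14 yg41 zg55) (kg xg7 yg47 zg52) (kg xg3 yg52 zg50) (kg xg4 yg44 zg60) (kg xg14 yg41 zg28) (kg xg7 yg36 zg57) (kg xg14 yg42 zg6) (kg xg14 yg23 zg0) (kg xg7 yg36 zg51) (kg xg7 yg0 zg14) (kg xg14 yg42 zg15) (kg xg14 yg42 zg18) (kg xg14 yg38 zg48) (kg xg14 yg22 zg4) (kg xg3 yg52 zg54) (kg xg14 yg42 zg30) (kg xg14 yg22 zg3) (kg xg13 yg37 zg11) (kg xg3 yg52 zg56) (kg xg7 yg0 zg3) (kg xg7 yg36 zg27) (kg xg6 yg59 zg60) (kg xg7 yg0 zg1) (kg xg14 yg42 zg40) (kg xg7 yg0 zg9) (kg xg7 yg26 zg11) (kg xg7 yg0 zg13) (kg xg7 yg47 zg19) (kg xg3 yg52 zg61) (kg xg7 yg47 zg25) (kg xg9 yg22 zg42) (kg xg7 yg38 zg10) (kg xg14 yg42 zg53) (kg xg3 yg53 zg11) (kg xg3 yg53 zg4) (kg xg13 yg40 zg25) (kg xg14 yg42 zg58) (kg xg14 yg43 zg0) (kg xg7 yg7 zg42)) (@D3.rec (fun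 _ => Pt) (kg xg3 yg53 zg5) (kg xg9 yg59 zg1) (kg xg14 yg43 zg8) (kg xg7 yg3 zg37) (kg xg14 yg43 zg10) (kg xg13 yg23 zg40) (kg xg14 yg21 zg55) (kg xg7 yg20 zg52) (kg xg14 yg21 zg53) (kg xg3 yg53 zg15) (kg xg14 yg43 zg23) (kg xg14 yg43 zg27) (kg xg14 yg3 zg35) (kg xg14 yg43 zg31) (kg xg14 yg3 zg36) (kg xg14 yg43 zg34) (kg xg10 yg39 zg51) (kg xg14 yg22 zg19) (kg xg3 yg53 zg18) (kg xg14 yg43 zg46) (kg xg14 yg22 zg17) (kg xg7 yg24 zg52) (kg xg7 yg1 zg1) (kg xg14 yg22 zg5) (kg xg3 yg53 zg22) (kg xg7 yg39 zg48) (kg xg13 yg18 zg11) (kg xg14 yg43 zg56) (kg xg14 yg43 zg58) (kg xg14 yg23 zg11) (kg xg3 yg53 zg30) (kg xg3 yg53 zg27) (kg xg14 yg40 zg34) (kg xg14 yg44 zg8) (kg xg7 yg0 zg20) (kg xg14 yg44 zg12) (kg xg14 yg40 zg36) (kg xg14 yg44 zg18) (kg xg3 yg56 zg3) (kg xg8 yg45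 zg58) (kg xg7 yg5 zg44) (kg xg13 yg30 zg29) (kg xg7 yg5 zg53) (kg xg13 yg27 zg6) (kg xg14 yg44 zg30) (kg xg6 yg9 zg37) (kg xg8 yg21 zg3) (kg xg14 yg44 zg35) (kg xg12 yg37 zg4) (kg xg6 yg59 zg29) (kg xg14 yg44 zg40) (kg xg8 yg33 zg30) (kg xg12 yg16 zg29) (kg xg3 yg53 zg39) (kg xg8 yg25 zg42) (kg xg13 yg15 zg7) (kg xg3 yg53 zg41) (kg xg13 yg15 zg6) (kg xg13 yg16 zg8) (kg xg13 yg30 zg3) (kg xg14 yg44 zg52) (kg xg7 yg6 zg11)) (@D3.rec (fun _ => Pt) (kg xg13 yg24 zg2) (kg xg3 yg53 zg44) (kg xg13 yg24 zg1) (kg xg10 yg18 zg1) (kg xg14 yg45 zg2) (kg xg13 yg24 zg5) (kg xg3 yg53 zg46) (kg xg13 yg24 zg4) (kg xg14 yg45 zg10) (kg xg6 yg14 zg53) (kg xg14 yg45 zg12) (kg xg6 yg52 zg20) (kg xg14 yg45 zg16) (kg xg7 yg16 zg55) (kg xg7 yg18 zg14) (kg xg14 yg45 zg22) (kg xg14 yg45 zg25)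 (kg xg11 yg3 zg55) (kg xg14 yg10 zg53) (kg xg3 yg53 zg53) (kg xg14 yg10 zg52) (kg xg7 yg20 zg19) (kg xg3 yg56 zg9) (kg xg7 yg51 zg19) (kg xg3 yg53 zg55) (kg xg14 yg45 zg45) (kg xg7 yg51 zg17) (kg xg3 yg54 zg18) (kg xg3 yg53 zg56) (kg xg14 yg40 zg4) (kg xg3 yg54 zg16) (kg xg13 yg9 zg35) (kg xg3 yg55 zg53) (kg xg3 yg54 zg28) (kg xg14 yg45 zg57) (kg xg3 yg54 zg26) (kg xg13 yg53 zg61) (kg xg13 yg9 zg38) (kg xg11 yg51 zg8) (kg xg7 yg25 zg36) (kg xg6 yg53 zg30) (kg xg7 yg35 zg51) (kg xg7 yg52 zg14) (kg xg3 yg54 zg19) (kg xg14 yg46 zg8) (kg xg14 yg46 zg10) (kg xg3 yg54 zg5) (kg xg9 yg34 zg48) (kg xg14 yg46 zg9) (kg xg7 yg51 zg54) (kg xg14 yg3 zg16) (kg xg7 yg51 zg52) (kg xg13 yg32 zg54) (kg xg7 yg15 zg6) (kg xg7 yg54 zg51) (kg xg7 yg54 zg52) (kg xg3 yg54 zg11) (kg xg14 yg46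 zg24) (kg xg3 yg54 zg12) (kg xg14 yg2 zg32) (kg xg7 yg51 zg57) (kg xg3 yg54 zg13)) (@D3.rec (fun _ => Pt) (kg xg11 yg12 zg6) (kg xg9 yg1 zg35) (kg xg14 yg46 zg35) (kg xg9 yg29 zg17) (kg xg14 yg46 zg39) (kg xg11 yg16 zg52) (kg xg14 yg46 zg44) (kg xg11 yg12 zg46) (kg xg12 yg23 zg1) (kg xg14 yg46 zg45) (kg xg14 yg45 zg52) (kg xg3 yg54 zg17) (kg xg14 yg46 zg57) (kg xg13 yg58 zg57) (kg xg14 yg24 zg39) (kg xg14 yg24 zg41) (kg xg14 yg47 zg3) (kg xg14 yg47 zg6) (kg xg3 yg54 zg23) (kg xg14 yg47 zg11) (kg xg14 yg47 zg14) (kg xg3 yg54 zg22) (kg xg7 yg51 zg45) (kg xg14 yg47 zg20) (kg xg14 yg47 zg24) (kg xg6 yg3 zg50) (kg xg14 yg47 zg29) (kg xg7 yg4 zg59) (kg xg14 yg47 zg1) (kg xg14 yg47 zg36) (kg xg14 yg47 zg39) (kg xg14 yg40 zg13) (kg xg6 yg3 zg36) (kg xg14 yg47 zg47) (kg xg13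 yg45 zg59) (kg xg3 yg54 zg27) (kg xg14 yg47 zg52) (kg xg13 yg45 zg58) (kg xg10 yg35 zg34) (kg xg14 yg47 zg58) (kg xg14 yg47 zg60) (kg xg6 yg55 zg50) (kg xg13 yg31 zg61) (kg xg11 yg4 zg17) (kg xg14 yg48 zg3) (kg xg14 yg48 zg5) (kg xg3 yg54 zg40) (kg xg3 yg54 zg32) (kg xg14 yg47 zg9) (kg xg12 yg55 zg39) (kg xg3 yg54 zg33) (kg xg7 yg27 zg39) (kg xg7 yg15 zg46) (kg xg3 yg54 zg42) (kg xg3 yg54 zg35) (kg xg14 yg48 zg16) (kg xg6 yg55 zg36) (kg xg13 yg53 zg52) (kg xg7 yg52 zg54) (kg xg7 yg10 zg59) (kg xg3 yg54 zg39) (kg xg7 yg25 zg4)) (@D3.rec (fun _ => Pt) (kg xg14 yg48 zg29) (kg xg14 yg48 zg33) (kg xg13 yg46 zg14) (kg xg14 yg48 zg38) (kg xg3 yg56 zg0) (kg xg7 yg27 zg59) (kg xg7 yg26 zg1) (kg xg14 yg17 zg4) (kg xg6 yg55 zg34) (kg xg13 yg12 zg45) (kg xg13 yg43 zg13) (kg xg14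 yg48 zg46) (kg xg7 yg13 zg3) (kg xg7 yg25 zg8) (kg xg7 yg20 zg44) (kg xg14 yg48 zg53) (kg xg7 yg49 zg26) (kg xg3 yg54 zg49) (kg xg14 yg49 zg1) (kg xg7 yg49 zg24) (kg xg3 yg55 zg12) (kg xg3 yg54 zg50) (kg xg14 yg49 zg12) (kg xg3 yg55 zg10) (kg xg7 yg49 zg42) (kg xg13 yg36 zg48) (kg xg3 yg55 zg21) (kg xg14 yg49 zg19) (kg xg3 yg55 zg19) (kg xg14 yg5 zg45) (kg xg14 yg48 zg25) (kg xg3 yg54 zg56) (kg xg14 yg49 zg28) (kg xg3 yg55 zg34) (kg xg7 yg50 zg15) (kg xg7 yg35 zg34) (kg xg3 yg55 zg13) (kg xg7 yg54 zg5) (kg xg7 yg54 zg6) (kg xg3 yg54 zg61) (kg xg14 yg49 zg37) (kg xg3 yg56 zg35) (kg xg13 yg54 zg21) (kg xg7 yg35 zg37) (kg xg13 yg43 zg25) (kg xg7 yg9 zg9) (kg xg14 yg49 zg33) (kg xg14 yg49 zg47) (kg xg3 yg55 zg4) (kg xg14 yg49 zg49) (kg xg14 yg49 zg45) (kg xg7 yg49 zg51)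 (kg xg3 yg55 zg5) (kg xg13 yg53 zg23) (kg xg7 yg4 zg41) (kg xg4 yg34 zg13) (kg xg3 yg55 zg7) (kg xg7 yg49 zg61) (kg xg14 yg50 zg3) (kg xg6 yg42 zg17) (kg xg3 yg55 zg8) (kg xg14 yg50 zg12)) (@D3.rec (fun _ => Pt) (kg xg6 yg42 zg15) (kg xg14 yg50 zg16) (kg xg14 yg50 zg20) (kg xg14 yg50 zg22) (kg xg13 yg58 zg3) (kg xg13 yg57 zg48) (kg xg12 yg31 zg10) (kg xg14 yg50 zg23) (kg xg14 yg50 zg36) (kg xg14 yg49 zg14) (kg xg3 yg55 zg11) (kg xg14 yg50 zg43) (kg xg14 yg8 zg23) (kg xg11 yg32 zg48) (kg xg14 yg49 zg15) (kg xg3 yg55 zg16) (kg xg14 yg50 zg52) (kg xg14 yg50 zg55) (kg xg3 yg55 zg15) (kg xg7 yg49 zg53) (kg xg14 yg50 zg59) (kg xg14 yg51 zg0) (kg xg14 yg50 zg53) (kg xg14 yg51 zg4) (kg xg11 yg3 zg51) (kg xg14 yg51 zg8) (kg xg14 yg51 zg10) (kg xg13 yg8 zg59) (kg xg14 yg49 zg21)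 (kg xg3 yg55 zg20) (kg xg14 yg51 zg18) (kg xg13 yg36 zg41) (kg xg14 yg0 zg50) (kg xg14 yg51 zg24) (kg xg14 yg29 zg33) (kg xg13 yg36 zg34) (kg xg13 yg42 zg36) (kg xg13 yg33 zg2) (kg xg14 yg51 zg32) (kg xg3 yg55 zg26) (kg xg3 yg55 zg24) (kg xg13 yg36 zg61) (kg xg14 yg51 zg43) (kg xg14 yg51 zg46) (kg xg14 yg51 zg50) (kg xg13 yg37 zg9) (kg xg14 yg51 zg54) (kg xg3 yg56 zg24) (kg xg7 yg22 zg5) (kg xg3 yg55 zg31) (kg xg14 yg51 zg59) (kg xg7 yg50 zg58) (kg xg7 yg22 zg12) (kg xg13 yg6 zg48) (kg xg7 yg53 zg23) (kg xg13 yg3 zg59) (kg xg14 yg52 zg6) (kg xg14 yg52 zg9) (kg xg7 yg4 zg49) (kg xg6 yg55 zg2) (kg xg14 yg52 zg15) (kg xg7 yg6 zg49)) (@D3.rec (fun _ => Pt) (kg xg3 yg55 zg37) (kg xg14 yg52 zg21) (kg xg14 yg52 zg25) (kg xg3 yg55 zg38) (kg xg11 yg46 zg56) (kg xg13 yg50 zg4)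 (kg xg12 yg17 zg8) (kg xg6 yg55 zg32) (kg xg3 yg55 zg42) (kg xg9 yg30 zg5) (kg xg6 yg55 zg30) (kg xg14 yg52 zg37) (kg xg13 yg24 zg29) (kg xg14 yg46 zg4) (kg xg6 yg55 zg41) (kg xg3 yg55 zg45) (kg xg14 yg32 zg31) (kg xg14 yg26 zg42) (kg xg14 yg27 zg39) (kg xg6 yg54 zg56) (kg xg3 yg55 zg49) (kg xg9 yg30 zg56) (kg xg6 yg54 zg54) (kg xg7 yg52 zg51) (kg xg6 yg55 zg3) (kg xg3 yg55 zg51) (kg xg14 yg22 zg34) (kg xg13 yg5 zg61) (kg xg14 yg52 zg59) (kg xg14 yg25 zg50) (kg xg13 yg50 zg6) (kg xg13 yg12 zg32) (kg xg5 yg24 zg46) (kg xg14 yg41 zg59) (kg xg3 yg55 zg60) (kg xg3 yg55 zg57) (kg xg14 yg33 zg53) (kg xg14 yg53 zg12) (kg xg5 yg58 zg24) (kg xg14 yg42 zg9) (kg xg14 yg33 zg55) (kg xg5 yg24 zg52) (kg xg13 yg52 zg54) (kg xg7 yg27 zg56) (kg xg14 yg46 zg13) (kg xg7 yg28 zg4) (kg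 xg14 yg5 zg54) (kg xg14 yg53 zg27) (kg xg7 yg13 zg61) (kg xg3 yg56 zg4) (kg xg14 yg53 zg36) (kg xg14 yg53 zg40) (kg xg7 yg7 zg22) (kg xg14 yg53 zg45) (kg xg14 yg53 zg49) (kg xg7 yg3 zg1) (kg xg7 yg25 zg11) (kg xg3 yg56 zg7) (kg xg7 yg25 zg16) (kg xg14 yg53 zg58) (kg xg13 yg25 zg3) (kg xg14 yg54 zg2)) (@D3.rec (fun _ => Pt) (kg xg7 yg26 zg7) (kg xg6 yg41 zg27) (kg xg14 yg45 zg44) (kg xg14 yg54 zg9) (kg xg7 yg51 zg37) (kg xg3 yg56 zg13) (kg xg7 yg51 zg39) (kg xg14 yg54 zg15) (kg xg12 yg37 zg7) (kg xg14 yg54 zg21) (kg xg7 yg26 zg8) (kg xg3 yg56 zg16) (kg xg14 yg54 zg30) (kg xg14 yg54 zg33) (kg xg14 yg54 zg11) (kg xg14 yg2 zg30) (kg xg14 yg54 zg41) (kg xg14 yg46 zg21) (kg xg14 yg2 zg27) (kg xg14 yg54 zg48) (kg xg7 yg54 zg27) (kg xg3 yg56 zg19) (kg xg12 yg41 zg53) (kg xg7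 yg28 zg26) (kg xg3 yg56 zg39) (kg xg3 yg56 zg20) (kg xg7 yg22 zg8) (kg xg7 yg54 zg21) (kg xg14 yg55 zg0) (kg xg14 yg46 zg22) (kg xg14 yg2 zg0) (kg xg7 yg22 zg2) (kg xg14 yg49 zg35) (kg xg6 yg57 zg37) (kg xg13 yg24 zg37) (kg xg14 yg55 zg12) (kg xg3 yg56 zg28) (kg xg14 yg55 zg15) (kg xg7 yg28 zg22) (kg xg13 yg54 zg8) (kg xg7 yg28 zg19) (kg xg7 yg21 zg9) (kg xg7 yg20 zg38) (kg xg14 yg55 zg24) (kg xg13 yg25 zg60) (kg xg14 yg55 zg28) (kg xg3 yg56 zg31) (kg xg12 yg47 zg44) (kg xg13 yg5 zg7) (kg xg14 yg55 zg36) (kg xg7 yg49 zg54) (kg xg3 yg56 zg34) (kg xg7 yg49 zg56) (kg xg14 yg55 zg43) (kg xg13 yg54 zg24) (kg xg14 yg55 zg49) (kg xg7 yg20 zg45) (kg xg12 yg25 zg47) (kg xg14 yg55 zg57) (kg xg14 yg49 zg34) (kg xg13 yg54 zg20) (kg xg14 yg56 zg3)) (@D3.rec (fun _ => Pt) (kg xg14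 yg55 zg39) (kg xg13 yg13 zg6) (kg xg14 yg56 zg11) (kg xg14 yg56 zg13) (kg xg13 yg25 zg21) (kg xg7 yg55 zg7) (kg xg7 yg55 zg5) (kg xg3 yg56 zg40) (kg xg14 yg56 zg28) (kg xg14 yg55 zg37) (kg xg14 yg56 zg32) (kg xg14 yg55 zg40) (kg xg13 yg55 zg13) (kg xg7 yg1 zg59) (kg xg14 yg56 zg39) (kg xg7 yg20 zg14) (kg xg14 yg56 zg43) (kg xg3 yg56 zg46) (kg xg4 yg12 zg44) (kg xg14 yg32 zg21) (kg xg12 yg58 zg56) (kg xg14 yg56 zg51) (kg xg6 yg51 zg59) (kg xg13 yg15 zg26) (kg xg13 yg16 zg5) (kg xg14 yg56 zg57) (kg xg14 yg56 zg58) (kg xg14 yg56 zg60) (kg xg9 yg33 zg46) (kg xg4 yg22 zg16) (kg xg4 yg18 zg43) (kg xg8 yg33 zg15) (kg xg4 yg21 zg19) (kg xg14 yg57 zg8) (kg xg8 yg42 zg45) (kg xg4 yg21 zg37) (kg xg3 yg56 zg60) (kg xg4 yg21 zg36) (kg xg14 yg57 zg17) (kg xg8 yg25 zg45) (kg xg4 yg21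 zg46) (kg xg3 yg57 zg1) (kg xg4 yg21 zg45) (kg xg4 yg18 zg37) (kg xg8 yg34 zg32) (kg xg4 yg21 zg53) (kg xg3 yg57 zg3) (kg xg4 yg21 zg51) (kg xg4 yg21 zg61) (kg xg3 yg57 zg4) (kg xg4 yg21 zg60) (kg xg14 yg57 zg34) (kg xg14 yg57 zg26) (kg xg14 yg57 zg40) (kg xg8 yg36 zg61) (kg xg14 yg57 zg30) (kg xg14 yg57 zg48) (kg xg3 yg57 zg7) (kg xg14 yg57 zg49) (kg xg14 yg57 zg58) (kg xg14 yg57 zg53) (kg xg14 yg58 zg0)) (@D3.rec (fun _ => Pt) (kg xg9 yg36 zg31) (kg xg4 yg21 zg28) (kg xg3 yg57 zg10) (kg xg4 yg12 zg18) (kg xg4 yg6 zg29) (kg xg4 yg15 zg51) (kg xg14 yg58 zg11) (kg xg5 yg28 zg16) (kg xg14 yg58 zg14) (kg xg14 yg57 zg14) (kg xg3 yg57 zg15) (kg xg4 yg12 zg50) (kg xg4 yg22 zg48) (kg xg3 yg57 zg17) (kg xg4 yg22 zg47) (kg xg13 yg30 zg7) (kg xg14 yg58 zg24) (kg xg4 yg24 zg58)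 (kg xg8 yg43 zg22) (kg xg14 yg58 zg30) (kg xg10 yg39 zg13) (kg xg14 yg58 zg35) (kg xg14 yg58 zg38) (kg xg8 yg37 zg0) (kg xg12 yg7 zg18) (kg xg11 yg13 zg41) (kg xg3 yg57 zg30) (kg xg14 yg58 zg49) (kg xg14 yg58 zg55) (kg xg11 yg23 zg54) (kg xg13 yg30 zg38) (kg xg10 yg28 zg48) (kg xg9 yg2 zg34) (kg xg14 yg59 zg5) (kg xg14 yg59 zg8) (kg xg14 yg59 zg12) (kg xg4 yg23 zg42) (kg xg3 yg57 zg35) (kg xg4 yg23 zg41) (kg xg14 yg59 zg23) (kg xg12 yg8 zg43) (kg xg4 yg2 zg12) (kg xg4 yg24 zg17) (kg xg3 yg57 zg39) (kg xg11 yg41 zg16) (kg xg4 yg24 zg7) (kg xg3 yg57 zg40) (kg xg4 yg24 zg5) (kg xg4 yg36 zg57) (kg xg12 yg5 zg21) (kg xg4 yg24 zg47) (kg xg14 yg59 zg36) (kg xg14 yg59 zg38) (kg xg4 yg24 zg40) (kg xg3 yg57 zg45) (kg xg4 yg24 zg39) (kg xg7 yg57 zg7) (kg xg7 yg19 zg15) (kg xg4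 yg0 zg41) (kg xg4 yg25 zg20) (kg xg3 yg57 zg48) (kg xg14 yg59 zg45)) (@D3.rec (fun _ => Pt) (kg xg4 yg25 zg10) (kg xg3 yg57 zg49) (kg xg14 yg59 zg52) (kg xg4 yg25 zg8) (kg xg6 yg7 zg13) (kg xg11 yg21 zg2) (kg xg11 yg57 zg39) (kg xg4 yg25 zg13) (kg xg12 yg6 zg9) (kg xg4 yg25 zg19) (kg xg11 yg11 zg10) (kg xg9 yg2 zg24) (kg xg11 yg8 zg22) (kg xg6 yg2 zg56) (kg xg15 yg0 zg1) (kg xg12 yg7 zg52) (kg xg8 yg48 zg1) (kg xg11 yg33 zg19) (kg xg9 yg19 zg32) (kg xg8 yg50 zg2) (kg xg11 yg28 zg42) (kg xg15 yg0 zg9) (kg xg15 yg0 zg3) (kg xg3 yg57 zg61) (kg xg15 yg0 zg2) (kg xg15 yg0 zg20) (kg xg15 yg0 zg24) (kg xg9 yg19 zg37) (kg xg9 yg8 zg24) (kg xg15 yg0 zg25) (kg xg12 yg7 zg60) (kg xg5 yg2 zg46) (kg xg3 yg58 zg4) (kg xg15 yg0 zg41) (kg xg15 yg0 zg45) (kg xg15 yg0 zg48) (kg xg10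 yg32 zg57) (kg xg8 yg20 zg23) (kg xg4 yg30 zg59) (kg xg5 yg27 zg43) (kg xg5 yg39 zg40) (kg xg8 yg20 zg21) (kg xg4 yg55 zg57) (kg xg5 yg14 zg57) (kg xg15 yg1 zg5) (kg xg15 yg1 zg7) (kg xg8 yg34 zg0) (kg xg3 yg58 zg31) (kg xg8 yg14 zg5) (kg xg4 yg10 zg52) (kg xg8 yg27 zg43) (kg xg4 yg10 zg11) (kg xg8 yg36 zg26) (kg xg3 yg58 zg15) (kg xg5 yg36 zg30) (kg xg15 yg1 zg24) (kg xg3 yg58 zg22) (kg xg3 yg58 zg17) (kg xg15 yg1 zg33) (kg xg15 yg1 zg38) (kg xg15 yg1 zg40) (kg xg5 yg36 zg55)) (@D3.rec (fun _ => Pt) (kg xg15 yg1 zg45) (kg xg5 yg36 zg56) (kg xg4 yg7 zg51) (kg xg4 yg28 zg45) (kg xg10 yg51 zg37) (kg xg15 yg1 zg52) (kg xg10 yg32 zg55) (kg xg15 yg1 zg58) (kg xg3 yg58 zg23) (kg xg4 yg31 zg39) (kg xg8 yg28 zg3) (kg xg3 yg58 zg28) (kg xg15 yg2 zg4) (kg xg10 yg46 zg32) (kg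 xg15 yg2 zg11) (kg xg15 yg1 zg2) (kg xg3 yg58 zg26) (kg xg15 yg1 zg1) (kg xg10 yg56 zg34) (kg xg15 yg2 zg19) (kg xg15 yg2 zg9) (kg xg15 yg2 zg25) (kg xg15 yg1 zg6) (kg xg3 yg58 zg29) (kg xg5 yg36 zg54) (kg xg4 yg56 zg9) (kg xg15 yg2 zg33) (kg xg11 yg5 zg1) (kg xg15 yg2 zg14) (kg xg15 yg2 zg41) (kg xg8 yg37 zg36) (kg xg15 yg2 zg29) (kg xg10 yg54 zg36) (kg xg3 yg58 zg32) (kg xg5 yg33 zg52) (kg xg15 yg2 zg56) (kg xg10 yg32 zg52) (kg xg3 yg58 zg33) (kg xg9 yg34 zg47) (kg xg15 yg3 zg3) (kg xg8 yg7 zg50) (kg xg15 yg3 zg7) (kg xg8 yg13 zg9) (kg xg3 yg58 zg35) (kg xg9 yg0 zg42) (kg xg15 yg3 zg15) (kg xg8 yg27 zg56) (kg xg3 yg58 zg37) (kg xg8 yg27 zg55) (kg xg4 yg55 zg24) (kg xg5 yg3 zg61) (kg xg5 yg10 zg49) (kg xg4 yg53 zg27) (kg xg4 yg54 zg37) (kg xg8 yg58 zg1) (kg xg10 yg58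 zg55) (kg xg10 yg55 zg21) (kg xg9 yg51 zg12) (kg xg10 yg56 zg54) (kg xg10 yg59 zg38) (kg xg5 yg28 zg51) (kg xg6 yg47 zg26)) (@D3.rec (fun _ => Pt) (kg xg4 yg57 zg47) (kg xg3 yg58 zg47) (kg xg13 yg54 zg31) (kg xg11 yg25 zg54) (kg xg4 yg56 zg25) (kg xg4 yg20 zg1) (kg xg3 yg58 zg51) (kg xg6 yg15 zg30) (kg xg3 yg59 zg7) (kg xg5 yg40 zg17) (kg xg5 yg41 zg60) (kg xg4 yg31 zg47) (kg xg3 yg59 zg2) (kg xg3 yg58 zg59) (kg xg4 yg32 zg25) (kg xg9 yg19 zg48) (kg xg5 yg41 zg26) (kg xg9 yg19 zg50) (kg xg7 yg50 zg0) (kg xg6 yg15 zg24) (kg xg4 yg31 zg56) (kg xg4 yg32 zg10) (kg xg11 yg7 zg3) (kg xg11 yg15 zg47) (kg xg4 yg0 zg27) (kg xg12 yg9 zg17) (kg xg5 yg54 zg52) (kg xg12 yg9 zg25) (kg xg5 yg41 zg7) (kg xg3 yg59 zg10) (kg xg3 yg59 zg5) (kg xg9 yg3 zg38) (kg xg15 yg4 zg10) (kg xg5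 yg40 zg4) (kg xg15 yg4 zg14) (kg xg15 yg3 zg49) (kg xg11 yg15 zg29) (kg xg11 yg21 zg1) (kg xg3 yg59 zg8) (kg xg11 yg14 zg21) (kg xg15 yg4 zg21) (kg xg11 yg23 zg55) (kg xg15 yg4 zg12) (kg xg3 yg59 zg9) (kg xg15 yg4 zg11) (kg xg15 yg4 zg31) (kg xg11 yg31 zg5) (kg xg15 yg4 zg33) (kg xg5 yg40 zg16) (kg xg5 yg40 zg3) (kg xg4 yg57 zg59) (kg xg4 yg57 zg57) (kg xg3 yg59 zg16) (kg xg5 yg47 zg18) (kg xg12 yg5 zg26) (kg xg5 yg47 zg15) (kg xg5 yg53 zg57) (kg xg9 yg4 zg44) (kg xg11 yg20 zg56) (kg xg5 yg7 zg13) (kg xg3 yg59 zg23) (kg xg12 yg9 zg42))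
def f_g_8 : D2 → D3 → Pt := @D2.rec (fun _ => D3 → Pt) (@D3.rec (fun _ => Pt) (kg xg3 yg59 zg24) (kg xg4 yg36 zg16) (kg xg12 yg49 zg23) (kg xg5 yg50 zg1) (kg xg4 yg34 zg47) (kg xg4 yg25 zg43) (kg xg4 yg25 zg39) (kg xg11 yg38 zg47) (kg xg11 yg39 zg36) (kg xg11 yg36 zg50) (kg xg4 yg0 zg53) (kg xg3 yg59 zg33) (kg xg15 yg4 zg52) (kg xg5 yg41 zg22) (kg xg11 yg40 zg32) (kg xg12 yg49 zg26) (kg xg15 yg4 zg56) (kg xg5 yg52 zg52) (kg xg5 yg52 zg60) (kg xg15 yg4 zg59) (kg xg6 yg49 zg38) (kg xg9 yg12 zg14) (kg xg3 yg59 zg52) (kg xg3 yg59 zg40) (kg xg3 yg59 zg51) (kg xg6 yg50 zg35) (kg xg3 yg59 zg45) (kg xg3 yg59 zg42) (kg xg11 yg28 zg43) (kg xg15 yg5 zg9) (kg xg4 yg34 zg27) (kg xg4 yg35 zg19) (kg xg11 yg49 zg7) (kg xg12 yg14 zg59) (kg xg9 yg9 zg30) (kg xg12 yg9 zg47) (kg xg5 yg50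 zg20) (kg xg11 yg30 zg56) (kg xg12 yg24 zg51) (kg xg6 yg7 zg39) (kg xg15 yg5 zg1) (kg xg3 yg59 zg49) (kg xg15 yg5 zg20) (kg xg14 yg2 zg42) (kg xg6 yg56 zg41) (kg xg15 yg5 zg23) (kg xg15 yg5 zg27) (kg xg12 yg17 zg46) (kg xg11 yg37 zg12) (kg xg15 yg5 zg7) (kg xg15 yg5 zg28) (kg xg5 yg0 zg18) (kg xg5 yg0 zg17) (kg xg15 yg5 zg35) (kg xg15 yg5 zg38) (kg xg14 yg36 zg59) (kg xg3 yg59 zg54) (kg xg4 yg33 zg60) (kg xg9 yg59 zg13) (kg xg6 yg3 zg2) (kg xg4 yg2 zg17) (kg xg8 yg1 zg43)) (@D3.rec (fun _ => Pt) (kg xg3 yg59 zg59) (kg xg8 yg1 zg42) (kg xg4 yg25 zg4) (kg xg6 yg14 zg2) (kg xg6 yg15 zg15) (kg xg12 yg6 zg45) (kg xg15 yg5 zg49) (kg xg6 yg15 zg16) (kg xg15 yg5 zg53) (kg xg14 yg59 zg17) (kg xg8 yg2 zg1) (kg xg4 yg0 zg4) (kg xg8 yg2 zg0) (kg xg15 yg6 zg4) (kg xg15 yg6 zg6)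 (kg xg9 yg9 zg38) (kg xg8 yg47 zg16) (kg xg15 yg6 zg12) (kg xg12 yg22 zg61) (kg xg4 yg0 zg10) (kg xg12 yg22 zg59) (kg xg11 yg37 zg17) (kg xg15 yg6 zg25) (kg xg8 yg46 zg32) (kg xg8 yg46 zg15) (kg xg15 yg6 zg26) (kg xg15 yg6 zg36) (kg xg4 yg12 zg10) (kg xg15 yg6 zg40) (kg xg4 yg0 zg15) (kg xg4 yg52 zg56) (kg xg12 yg16 zg6) (kg xg4 yg53 zg2) (kg xg4 yg53 zg1) (kg xg15 yg6 zg46) (kg xg4 yg0 zg18) (kg xg15 yg6 zg47) (kg xg15 yg6 zg58) (kg xg15 yg6 zg52) (kg xg15 yg7 zg0) (kg xg8 yg42 zg27) (kg xg8 yg1 zg1) (kg xg4 yg0 zg22) (kg xg8 yg1 zg0) (kg xg4 yg0 zg26) (kg xg4 yg0 zg29) (kg xg13 yg30 zg58) (kg xg8 yg45 zg28) (kg xg4 yg32 zg22) (kg xg13 yg30 zg36) (kg xg8 yg10 zg27) (kg xg9 yg45 zg10) (kg xg15 yg7 zg14) (kg xg15 yg7 zg5) (kg xg4 yg0 zg28) (kg xg15 yg7 zg23) (kg xg15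 yg7 zg29) (kg xg15 yg7 zg15) (kg xg4 yg0 zg47) (kg xg15 yg7 zg34) (kg xg8 yg45 zg12) (kg xg8 yg1 zg12)) (@D3.rec (fun _ => Pt) (kg xg4 yg0 zg31) (kg xg8 yg1 zg11) (kg xg15 yg7 zg46) (kg xg6 yg13 zg39) (kg xg8 yg3 zg26) (kg xg8 yg45 zg24) (kg xg6 yg14 zg3) (kg xg8 yg48 zg0) (kg xg4 yg0 zg38) (kg xg4 yg0 zg50) (kg xg4 yg20 zg7) (kg xg4 yg0 zg45) (kg xg11 yg27 zg29) (kg xg7 yg17 zg24) (kg xg10 yg58 zg61) (kg xg8 yg38 zg55) (kg xg8 yg5 zg13) (kg xg8 yg4 zg42) (kg xg15 yg7 zg53) (kg xg9 yg46 zg55) (kg xg9 yg47 zg9) (kg xg4 yg24 zg59) (kg xg4 yg0 zg52) (kg xg15 yg8 zg4) (kg xg15 yg8 zg7) (kg xg4 yg35 zg48) (kg xg6 yg24 zg47) (kg xg15 yg8 zg6) (kg xg4 yg0 zg51) (kg xg15 yg8 zg5) (kg xg11 yg27 zg21) (kg xg15 yg8 zg21) (kg xg15 yg8 zg24) (kg xg6 yg13 zg35) (kg xg15 yg8 zg28)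 (kg xg15 yg8 zg33) (kg xg6 yg24 zg52) (kg xg5 yg56 zg2) (kg xg15 yg8 zg34) (kg xg15 yg8 zg46) (kg xg6 yg13 zg41) (kg xg4 yg0 zg58) (kg xg8 yg51 zg44) (kg xg15 yg8 zg54) (kg xg15 yg8 zg56) (kg xg4 yg54 zg59) (kg xg5 yg36 zg6) (kg xg9 yg37 zg39) (kg xg11 yg55 zg30) (kg xg15 yg9 zg4) (kg xg8 yg27 zg18) (kg xg4 yg3 zg14) (kg xg4 yg4 zg19) (kg xg15 yg9 zg9) (kg xg10 yg58 zg58) (kg xg9 yg43 zg30) (kg xg4 yg3 zg60) (kg xg4 yg1 zg6) (kg xg5 yg1 zg22) (kg xg4 yg3 zg58) (kg xg15 yg9 zg21) (kg xg15 yg9 zg25)) (@D3.rec (fun _ => Pt) (kg xg4 yg4 zg6) (kg xg4 yg1 zg8) (kg xg4 yg4 zg5) (kg xg8 yg9 zg16) (kg xg4 yg1 zg9) (kg xg8 yg9 zg18) (kg xg4 yg3 zg18) (kg xg4 yg1 zg10) (kg xg4 yg1 zg41) (kg xg15 yg9 zg42) (kg xg10 yg7 zg51) (kg xg8 yg4 zg41) (kg xg4 yg1 zg13) (kg xg8 yg4 zg40)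 (kg xg4 yg2 zg13) (kg xg4 yg2 zg14) (kg xg4 yg2 zg10) (kg xg15 yg9 zg54) (kg xg15 yg9 zg56) (kg xg10 yg8 zg6) (kg xg8 yg4 zg48) (kg xg4 yg1 zg20) (kg xg8 yg4 zg47) (kg xg9 yg19 zg25) (kg xg15 yg10 zg4) (kg xg7 yg8 zg24) (kg xg8 yg4 zg52) (kg xg7 yg19 zg21) (kg xg4 yg1 zg24) (kg xg15 yg10 zg9) (kg xg10 yg17 zg58) (kg xg12 yg7 zg50) (kg xg15 yg10 zg12) (kg xg4 yg25 zg6) (kg xg9 yg9 zg52) (kg xg4 yg1 zg31) (kg xg4 yg1 zg29) (kg xg15 yg10 zg19) (kg xg4 yg1 zg30) (kg xg7 yg56 zg41) (kg xg13 yg18 zg8) (kg xg7 yg39 zg19) (kg xg15 yg10 zg28) (kg xg4 yg58 zg6) (kg xg7 yg57 zg4) (kg xg15 yg10 zg34) (kg xg12 yg22 zg1) (kg xg15 yg10 zg39) (kg xg8 yg46 zg6) (kg xg15 yg10 zg44) (kg xg15 yg10 zg46) (kg xg15 yg10 zg50) (kg xg8 yg5 zg23) (kg xg4 yg1 zg37) (kg xg8 yg5 zg22) (kg xg15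 yg10 zg60) (kg xg4 yg54 zg15) (kg xg5 yg6 zg6) (kg xg15 yg11 zg2) (kg xg4 yg1 zg60) (kg xg15 yg11 zg6) (kg xg4 yg4 zg57)) (@D3.rec (fun _ => Pt) (kg xg15 yg9 zg49) (kg xg4 yg1 zg42) (kg xg5 yg8 zg41) (kg xg15 yg11 zg13) (kg xg4 yg2 zg30) (kg xg15 yg10 zg0) (kg xg5 yg8 zg54) (kg xg15 yg11 zg22) (kg xg5 yg8 zg52) (kg xg15 yg11 zg23) (kg xg15 yg11 zg26) (kg xg10 yg7 zg39) (kg xg15 yg11 zg32) (kg xg4 yg1 zg48) (kg xg5 yg9 zg0) (kg xg15 yg11 zg38) (kg xg15 yg11 zg41) (kg xg10 yg7 zg36) (kg xg15 yg11 zg47) (kg xg5 yg9 zg8) (kg xg5 yg9 zg7) (kg xg15 yg11 zg51) (kg xg10 yg7 zg34) (kg xg9 yg58 zg5) (kg xg15 yg11 zg59) (kg xg10 yg7 zg28) (kg xg9 yg35 zg61) (kg xg15 yg12 zg4) (kg xg4 yg1 zg54) (kg xg15 yg12 zg5) (kg xg15 yg12 zg16) (kg xg15 yg12 zg10) (kg xg4 yg2 zg23) (kg xg4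 yg1 zg55) (kg xg15 yg12 zg25) (kg xg9 yg54 zg44) (kg xg15 yg12 zg29) (kg xg15 yg12 zg32) (kg xg9 yg56 zg19) (kg xg8 yg3 zg13) (kg xg4 yg1 zg61) (kg xg8 yg3 zg12) (kg xg8 yg2 zg10) (kg xg15 yg12 zg39) (kg xg15 yg12 zg42) (kg xg15 yg11 zg21) (kg xg8 yg3 zg22) (kg xg4 yg2 zg5) (kg xg8 yg3 zg21) (kg xg15 yg7 zg49) (kg xg15 yg12 zg53) (kg xg15 yg12 zg56) (kg xg4 yg2 zg9) (kg xg15 yg12 zg60) (kg xg8 yg3 zg39) (kg xg8 yg3 zg38) (kg xg15 yg13 zg3) (kg xg15 yg13 zg5) (kg xg15 yg13 zg8) (kg xg4 yg24 zg60) (kg xg4 yg2 zg20) (kg xg9 yg44 zg43)) (@D3.rec (fun _ => Pt) (kg xg15 yg13 zg15) (kg xg8 yg38 zg56) (kg xg4 yg23 zg49) (kg xg4 yg2 zg18) (kg xg4 yg42 zg49) (kg xg12 yg6 zg13) (kg xg15 yg7 zg57) (kg xg9 yg44 zg39) (kg xg8 yg2 zg16) (kg xg8 yg38 zg23) (kg xg4 yg2 zg19) (kg xg14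 yg56 zg22) (kg xg15 yg13 zg38) (kg xg15 yg13 zg27) (kg xg9 yg44 zg34) (kg xg15 yg13 zg1) (kg xg15 yg13 zg45) (kg xg6 yg24 zg29) (kg xg15 yg13 zg49) (kg xg15 yg13 zg52) (kg xg15 yg13 zg56) (kg xg8 yg3 zg54) (kg xg4 yg2 zg24) (kg xg8 yg3 zg53) (kg xg15 yg14 zg5) (kg xg6 yg14 zg0) (kg xg8 yg5 zg50) (kg xg4 yg2 zg27) (kg xg8 yg5 zg49) (kg xg8 yg5 zg53) (kg xg4 yg2 zg28) (kg xg8 yg5 zg52) (kg xg15 yg14 zg12) (kg xg4 yg2 zg29) (kg xg15 yg14 zg13) (kg xg14 yg8 zg38) (kg xg15 yg14 zg17) (kg xg15 yg14 zg23) (kg xg8 yg45 zg6) (kg xg8 yg5 zg47) (kg xg4 yg2 zg32) (kg xg9 yg51 zg52) (kg xg15 yg9 zg20) (kg xg8 yg41 zg41) (kg xg15 yg14 zg33) (kg xg5 yg1 zg10) (kg xg4 yg51 zg18) (kg xg8 yg5 zg40) (kg xg8 yg5 zg28) (kg xg4 yg2 zg37) (kg xg8 yg5 zg27) (kg xg8 yg5 zg31) (kg xg4 yg2 zg38)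 (kg xg8 yg5 zg30) (kg xg15 yg14 zg44) (kg xg4 yg2 zg39) (kg xg15 yg14 zg45) (kg xg15 yg14 zg54) (kg xg10 yg13 zg56) (kg xg15 yg14 zg57) (kg xg10 yg9 zg30) (kg xg5 yg19 zg47)) (@D3.rec (fun _ => Pt) (kg xg4 yg2 zg42) (kg xg4 yg8 zg38) (kg xg15 yg15 zg3) (kg xg4 yg22 zg20) (kg xg15 yg15 zg5) (kg xg5 yg30 zg4) (kg xg11 yg4 zg10) (kg xg4 yg28 zg53) (kg xg15 yg15 zg11) (kg xg5 yg32 zg23) (kg xg15 yg15 zg17) (kg xg4 yg29 zg32) (kg xg4 yg2 zg50) (kg xg4 yg29 zg30) (kg xg15 yg15 zg25) (kg xg8 yg55 zg48) (kg xg15 yg15 zg21) (kg xg15 yg15 zg33) (kg xg8 yg55 zg43) (kg xg5 yg32 zg29) (kg xg15 yg15 zg38) (kg xg4 yg2 zg53) (kg xg15 yg15 zg39) (kg xg15 yg15 zg49) (kg xg15 yg15 zg44) (kg xg4 yg9 zg54) (kg xg4 yg2 zg54) (kg xg4 yg9 zg53) (kg xg15 yg15 zg59) (kg xg10 yg23 zg34) (kg xg15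 yg16 zg0) (kg xg4 yg8 zg7) (kg xg15 yg16 zg6) (kg xg4 yg2 zg59) (kg xg15 yg16 zg10) (kg xg9 yg33 zg42) (kg xg15 yg16 zg16) (kg xg15 yg9 zg2) (kg xg4 yg2 zg60) (kg xg15 yg9 zg1) (kg xg11 yg52 zg39) (kg xg15 yg16 zg23) (kg xg15 yg16 zg25) (kg xg4 yg14 zg24) (kg xg11 yg8 zg46) (kg xg8 yg36 zg42) (kg xg15 yg16 zg33) (kg xg4 yg3 zg27) (kg xg5 yg0 zg47) (kg xg15 yg16 zg36) (kg xg11 yg4 zg36) (kg xg15 yg16 zg39) (kg xg8 yg41 zg5) (kg xg4 yg3 zg10) (kg xg15 yg9 zg3) (kg xg15 yg16 zg48) (kg xg11 yg4 zg32) (kg xg11 yg4 zg22) (kg xg11 yg53 zg28) (kg xg4 yg3 zg12) (kg xg11 yg53 zg27) (kg xg15 yg16 zg60)) (@D3.rec (fun _ => Pt) (kg xg15 yg16 zg44) (kg xg15 yg17 zg3) (kg xg15 yg16 zg61) (kg xg15 yg16 zg56) (kg xg15 yg17 zg8) (kg xg4 yg3 zg15) (kg xg15 yg17 zg9) (kg xg15 yg17 zg20)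 (kg xg15 yg17 zg14) (kg xg4 yg3 zg16) (kg xg9 yg33 zg40) (kg xg15 yg17 zg28) (kg xg8 yg14 zg14) (kg xg8 yg9 zg23) (kg xg4 yg54 zg44) (kg xg4 yg27 zg32) (kg xg15 yg17 zg35) (kg xg15 yg17 zg40) (kg xg15 yg17 zg42) (kg xg4 yg27 zg56) (kg xg4 yg8 zg9) (kg xg8 yg9 zg9) (kg xg15 yg17 zg47) (kg xg8 yg36 zg46) (kg xg4 yg3 zg25) (kg xg8 yg36 zg45) (kg xg15 yg17 zg53) (kg xg8 yg14 zg15) (kg xg8 yg36 zg49) (kg xg4 yg3 zg28) (kg xg8 yg36 zg48) (kg xg14 yg49 zg20) (kg xg9 yg37 zg37) (kg xg4 yg3 zg29) (kg xg15 yg18 zg11) (kg xg8 yg9 zg54) (kg xg8 yg27 zg42) (kg xg5 yg22 zg29) (kg xg4 yg4 zg26) (kg xg8 yg9 zg29) (kg xg8 yg39 zg17) (kg xg4 yg3 zg32) (kg xg15 yg18 zg21) (kg xg8 yg39 zg16) (kg xg15 yg18 zg25) (kg xg15 yg9 zg36) (kg xg15 yg18 zg28) (kg xg6 yg4 zg49) (kg xg15 yg17 zg51)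 (kg xg15 yg18 zg32) (kg xg7 yg57 zg46) (kg xg11 yg10 zg28) (kg xg15 yg18 zg29) (kg xg4 yg3 zg41) (kg xg15 yg18 zg40) (kg xg10 yg0 zg55) (kg xg9 yg37 zg34) (kg xg4 yg3 zg46) (kg xg9 yg37 zg33) (kg xg15 yg18 zg48) (kg xg15 yg18 zg50) (kg xg8 yg10 zg16)) (@D3.rec (fun _ => Pt) (kg xg5 yg39 zg11) (kg xg8 yg34 zg36) (kg xg15 yg16 zg7) (kg xg4 yg4 zg40) (kg xg8 yg36 zg59) (kg xg4 yg3 zg50) (kg xg11 yg9 zg33) (kg xg8 yg36 zg57) (kg xg15 yg19 zg3) (kg xg4 yg22 zg1) (kg xg4 yg27 zg34) (kg xg15 yg19 zg9) (kg xg8 yg53 zg34) (kg xg15 yg19 zg15) (kg xg4 yg3 zg54) (kg xg4 yg28 zg12) (kg xg15 yg9 zg23) (kg xg4 yg3 zg55) (kg xg15 yg9 zg22) (kg xg8 yg57 zg10) (kg xg15 yg9 zg15) (kg xg4 yg3 zg56) (kg xg15 yg19 zg35) (kg xg9 yg43 zg32) (kg xg5 yg24 zg6) (kg xg8 yg28 zg2) (kg xg15 yg19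 zg43) (kg xg4 yg4 zg8) (kg xg15 yg14 zg10) (kg xg15 yg14 zg41) (kg xg4 yg3 zg59) (kg xg5 yg1 zg26) (kg xg15 yg9 zg19) (kg xg15 yg19 zg54) (kg xg15 yg19 zg57) (kg xg15 yg1 zg22) (kg xg15 yg20 zg1) (kg xg15 yg19 zg56) (kg xg4 yg4 zg1) (kg xg15 yg19 zg55) (kg xg15 yg9 zg12) (kg xg4 yg4 zg2) (kg xg15 yg9 zg11) (kg xg10 yg51 zg34) (kg xg15 yg9 zg28) (kg xg4 yg4 zg3) (kg xg15 yg20 zg18) (kg xg15 yg9 zg26) (kg xg8 yg28 zg13) (kg xg5 yg24 zg35) (kg xg15 yg9 zg40) (kg xg5 yg20 zg49) (kg xg4 yg4 zg10) (kg xg5 yg24 zg29) (kg xg5 yg33 zg32) (kg xg4 yg4 zg7) (kg xg5 yg33 zg36) (kg xg15 yg20 zg34) (kg xg15 yg20 zg38) (kg xg8 yg28 zg0) (kg xg8 yg27 zg59) (kg xg4 yg4 zg9)) (@D3.rec (fun _ => Pt) (kg xg8 yg27 zg58) (kg xg15 yg20 zg47) (kg xg15 yg20 zg49) (kg xg15 yg20 zg52) (kg xg8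 yg28 zg11) (kg xg4 yg4 zg12) (kg xg4 yg4 zg15) (kg xg15 yg20 zg44) (kg xg15 yg21 zg3) (kg xg11 yg8 zg60) (kg xg15 yg21 zg11) (kg xg4 yg4 zg13) (kg xg15 yg21 zg15) (kg xg15 yg21 zg4) (kg xg8 yg7 zg21) (kg xg15 yg20 zg21) (kg xg8 yg3 zg4) (kg xg8 yg3 zg5) (kg xg4 yg4 zg14) (kg xg9 yg44 zg18) (kg xg15 yg21 zg39) (kg xg15 yg21 zg42) (kg xg8 yg7 zg13) (kg xg4 yg4 zg16) (kg xg8 yg9 zg26) (kg xg8 yg9 zg24) (kg xg4 yg4 zg17) (kg xg15 yg21 zg56) (kg xg8 yg28 zg34) (kg xg15 yg22 zg0) (kg xg15 yg9 zg18) (kg xg8 yg20 zg22) (kg xg4 yg14 zg52) (kg xg8 yg7 zg39) (kg xg15 yg16 zg47) (kg xg15 yg22 zg10) (kg xg15 yg22 zg14) (kg xg5 yg38 zg61) (kg xg4 yg4 zg21) (kg xg5 yg38 zg60) (kg xg10 yg24 zg9) (kg xg15 yg22 zg21) (kg xg8 yg6 zg44) (kg xg4 yg4 zg24) (kg xg5 yg36 zg44) (kg xg5 yg39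 zg6) (kg xg4 yg4 zg25) (kg xg5 yg39 zg5) (kg xg15 yg22 zg32) (kg xg15 yg22 zg35) (kg xg8 yg27 zg40) (kg xg8 yg26 zg40) (kg xg8 yg7 zg35) (kg xg4 yg54 zg51) (kg xg4 yg52 zg47) (kg xg9 yg44 zg29) (kg xg8 yg27 zg48) (kg xg4 yg4 zg29) (kg xg14 yg50 zg60) (kg xg4 yg6 zg20) (kg xg10 yg4 zg11) (kg xg10 yg4 zg13)) (@D3.rec (fun _ => Pt) (kg xg15 yg22 zg46) (kg xg15 yg22 zg49) (kg xg15 yg22 zg53) (kg xg4 yg31 zg30) (kg xg4 yg31 zg29) (kg xg8 yg27 zg38) (kg xg4 yg4 zg39) (kg xg8 yg27 zg37) (kg xg15 yg23 zg2) (kg xg14 yg30 zg17) (kg xg5 yg39 zg9) (kg xg15 yg23 zg9) (kg xg8 yg7 zg61) (kg xg4 yg51 zg37) (kg xg10 yg11 zg30) (kg xg4 yg55 zg7) (kg xg4 yg19 zg12) (kg xg5 yg39 zg20) (kg xg4 yg4 zg43) (kg xg15 yg18 zg59) (kg xg5 yg39 zg18) (kg xg15 yg23 zg26) (kg xg4 yg21 zg48) (kg xg4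 yg14 zg45) (kg xg4 yg4 zg47) (kg xg4 yg14 zg44) (kg xg4 yg4 zg48) (kg xg8 yg1 zg47) (kg xg4 yg21 zg57) (kg xg15 yg6 zg35) (kg xg4 yg4 zg50) (kg xg4 yg4 zg53) (kg xg4 yg4 zg56) (kg xg11 yg33 zg40) (kg xg10 yg18 zg24) (kg xg5 yg53 zg54) (kg xg4 yg4 zg55) (kg xg15 yg23 zg46) (kg xg15 yg23 zg50) (kg xg5 yg54 zg26) (kg xg15 yg23 zg53) (kg xg15 yg13 zg61) (kg xg8 yg26 zg6) (kg xg4 yg4 zg58) (kg xg8 yg26 zg5) (kg xg13 yg51 zg17) (kg xg4 yg19 zg22) (kg xg4 yg5 zg0) (kg xg15 yg24 zg5) (kg xg15 yg24 zg9) (kg xg15 yg24 zg12) (kg xg8 yg39 zg54) (kg xg10 yg0 zg41) (kg xg10 yg0 zg43) (kg xg11 yg57 zg29) (kg xg8 yg39 zg47) (kg xg8 yg14 zg25) (kg xg4 yg5 zg5) (kg xg12 yg55 zg60) (kg xg10 yg16 zg44) (kg xg4 yg5 zg24) (kg xg4 yg55 zg52)) (@D3.rec (fun _ => Pt) (kg xg4 yg5 zg7) (kg xg5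 yg6 zg16) (kg xg15 yg24 zg32) (kg xg4 yg5 zg8) (kg xg5 yg5 zg18) (kg xg9 yg55 zg17) (kg xg4 yg5 zg10) (kg xg8 yg15 zg39) (kg xg15 yg24 zg42) (kg xg4 yg5 zg15) (kg xg4 yg5 zg12) (kg xg15 yg24 zg16) (kg xg15 yg24 zg53) (kg xg15 yg24 zg54) (kg xg11 yg57 zg9) (kg xg11 yg57 zg10) (kg xg5 yg15 zg0) (kg xg5 yg25 zg52) (kg xg15 yg24 zg60) (kg xg12 yg55 zg36) (kg xg8 yg39 zg46) (kg xg15 yg25 zg3) (kg xg4 yg5 zg16) (kg xg4 yg30 zg54) (kg xg15 yg25 zg6) (kg xg4 yg5 zg21) (kg xg15 yg25 zg11) (kg xg15 yg25 zg16) (kg xg15 yg25 zg19) (kg xg15 yg24 zg24) (kg xg4 yg5 zg19) (kg xg15 yg24 zg23) (kg xg14 yg23 zg24) (kg xg15 yg25 zg28) (kg xg15 yg25 zg17) (kg xg15 yg25 zg32) (kg xg15 yg1 zg47) (kg xg4 yg5 zg22) (kg xg5 yg37 zg1) (kg xg12 yg56 zg7) (kg xg15 yg25 zg40) (kg xg15 yg25 zg23)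 (kg xg15 yg25 zg43) (kg xg9 yg56 zg57) (kg xg9 yg14 zg33) (kg xg8 yg52 zg51) (kg xg4 yg5 zg25) (kg xg8 yg52 zg50) (kg xg15 yg25 zg52) (kg xg10 yg15 zg36) (kg xg15 yg25 zg56) (kg xg4 yg54 zg42) (kg xg4 yg5 zg27) (kg xg8 yg27 zg28) (kg xg4 yg5 zg28) (kg xg8 yg27 zg27) (kg xg8 yg13 zg43) (kg xg4 yg52 zg27) (kg xg4 yg53 zg26) (kg xg4 yg56 zg30) (kg xg4 yg5 zg33) (kg xg8 yg14 zg42)) (@D3.rec (fun _ => Pt) (kg xg10 yg54 zg45) (kg xg4 yg37 zg4) (kg xg6 yg8 zg14) (kg xg4 yg5 zg37) (kg xg6 yg8 zg12) (kg xg4 yg32 zg42) (kg xg10 yg6 zg53) (kg xg11 yg25 zg4) (kg xg5 yg50 zg37) (kg xg4 yg5 zg42) (kg xg15 yg26 zg13) (kg xg6 yg7 zg33) (kg xg10 yg17 zg59) (kg xg6 yg51 zg3) (kg xg4 yg5 zg46) (kg xg4 yg5 zg60) (kg xg11 yg57 zg34) (kg xg5 yg7 zg25) (kg xg4 yg5 zg55) (kg xg4 yg5 zg50)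 (kg xg6 yg16 zg2) (kg xg5 yg54 zg60) (kg xg4 yg42 zg53) (kg xg6 yg15 zg56) (kg xg5 yg54 zg61) (kg xg9 yg32 zg30) (kg xg4 yg34 zg20) (kg xg15 yg26 zg29) (kg xg15 yg26 zg31) (kg xg5 yg54 zg51) (kg xg15 yg26 zg35) (kg xg5 yg54 zg54) (kg xg11 yg34 zg54) (kg xg4 yg35 zg7) (kg xg4 yg6 zg1) (kg xg4 yg5 zg58) (kg xg5 yg54 zg1) (kg xg15 yg26 zg44) (kg xg11 yg33 zg48) (kg xg9 yg47 zg34) (kg xg11 yg33 zg49) (kg xg11 yg57 zg31) (kg xg4 yg5 zg61) (kg xg9 yg22 zg35) (kg xg15 yg26 zg58) (kg xg15 yg27 zg1) (kg xg5 yg55 zg9) (kg xg12 yg31 zg19) (kg xg4 yg6 zg0) (kg xg12 yg30 zg57) (kg xg15 yg27 zg7) (kg xg4 yg6 zg2) (kg xg5 yg51 zg55) (kg xg10 yg6 zg17) (kg xg9 yg17 zg41) (kg xg8 yg15 zg0) (kg xg8 yg14 zg60) (kg xg4 yg6 zg7) (kg xg4 yg12 zg56) (kg xg5 yg44 zg40) (kg xg15 yg27 zg20)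 (kg xg15 yg27 zg22)) (@D3.rec (fun _ => Pt) (kg xg14 yg57 zg4) (kg xg4 yg6 zg12) (kg xg10 yg15 zg42) (kg xg10 yg35 zg44) (kg xg8 yg39 zg28) (kg xg8 yg11 zg56) (kg xg15 yg27 zg35) (kg xg11 yg52 zg40) (kg xg4 yg6 zg39) (kg xg7 yg58 zg43) (kg xg4 yg6 zg17) (kg xg5 yg13 zg15) (kg xg14 yg38 zg58) (kg xg4 yg20 zg20) (kg xg4 yg6 zg28) (kg xg5 yg19 zg54) (kg xg15 yg27 zg49) (kg xg6 yg4 zg48) (kg xg11 yg10 zg35) (kg xg6 yg4 zg36) (kg xg4 yg6 zg30) (kg xg4 yg6 zg24) (kg xg15 yg28 zg0) (kg xg15 yg28 zg5) (kg xg15 yg28 zg7) (kg xg9 yg42 zg45) (kg xg4 yg6 zg25) (kg xg9 yg42 zg43) (kg xg5 yg0 zg57) (kg xg5 yg28 zg18) (kg xg15 yg28 zg14) (kg xg5 yg23 zg19) (kg xg11 yg3 zg14) (kg xg15 yg28 zg17) (kg xg8 yg39 zg27) (kg xg15 yg28 zg23) (kg xg15 yg28 zg25) (kg xg4 yg6 zg36) (kg xg15 yg28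 zg30) (kg xg15 yg28 zg35) (kg xg15 yg28 zg38) (kg xg15 yg27 zg34) (kg xg4 yg6 zg34) (kg xg15 yg27 zg33) (kg xg15 yg28 zg45) (kg xg15 yg28 zg48) (kg xg15 yg28 zg36) (kg xg15 yg28 zg54) (kg xg4 yg6 zg37) (kg xg5 yg38 zg39) (kg xg15 yg28 zg59) (kg xg15 yg29 zg1) (kg xg15 yg28 zg42) (kg xg10 yg11 zg14) (kg xg11 yg6 zg6) (kg xg15 yg29 zg8) (kg xg4 yg6 zg40) (kg xg10 yg45 zg15) (kg xg15 yg29 zg16) (kg xg15 yg29 zg12) (kg xg6 yg5 zg22) (kg xg4 yg6 zg41)) (@D3.rec (fun _ => Pt) (kg xg6 yg5 zg21) (kg xg15 yg29 zg27) (kg xg15 yg16 zg22) (kg xg15 yg22 zg3) (kg xg7 yg57 zg48) (kg xg4 yg6 zg43) (kg xg15 yg29 zg38) (kg xg4 yg25 zg11) (kg xg11 yg4 zg2) (kg xg4 yg6 zg45) (kg xg8 yg37 zg46) (kg xg4 yg14 zg19) (kg xg4 yg6 zg50) (kg xg15 yg29 zg48) (kg xg8 yg2 zg50) (kg xg11 yg9 zg1)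 (kg xg6 yg7 zg5) (kg xg4 yg6 zg52) (kg xg6 yg7 zg4) (kg xg11 yg9 zg59) (kg xg10 yg0 zg57) (kg xg15 yg29 zg60) (kg xg8 yg37 zg52) (kg xg4 yg6 zg55) (kg xg8 yg37 zg51) (kg xg8 yg11 zg31) (kg xg4 yg53 zg35) (kg xg4 yg6 zg60) (kg xg4 yg7 zg1) (kg xg11 yg56 zg5) (kg xg15 yg30 zg16) (kg xg15 yg30 zg19) (kg xg4 yg6 zg61) (kg xg15 yg30 zg22) (kg xg15 yg30 zg17) (kg xg8 yg12 zg51) (kg xg6 yg12 zg44) (kg xg4 yg7 zg0) (kg xg15 yg30 zg29) (kg xg11 yg26 zg43) (kg xg15 yg30 zg33) (kg xg8 yg11 zg61) (kg xg4 yg7 zg2) (kg xg8 yg11 zg60) (kg xg9 yg44 zg27) (kg xg5 yg13 zg53) (kg xg4 yg7 zg17) (kg xg4 yg13 zg32) (kg xg6 yg7 zg26) (kg xg6 yg4 zg10) (kg xg4 yg7 zg15) (kg xg5 yg7 zg52) (kg xg6 yg32 zg7) (kg xg5 yg7 zg59) (kg xg15 yg30 zg43) (kg xg6 yg7 zg25) (kg xg4 yg7 zg22) (kg xg6 yg30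 zg35) (kg xg11 yg28 zg41) (kg xg5 yg7 zg57) (kg xg8 yg12 zg57) (kg xg8 yg12 zg55)) (@D3.rec (fun _ => Pt) (kg xg4 yg7 zg28) (kg xg5 yg17 zg29) (kg xg15 yg30 zg51) (kg xg5 yg12 zg15) (kg xg15 yg30 zg55) (kg xg4 yg53 zg61) (kg xg15 yg30 zg58) (kg xg15 yg30 zg60) (kg xg15 yg31 zg0) (kg xg10 yg23 zg41) (kg xg15 yg31 zg5) (kg xg15 yg31 zg6) (kg xg10 yg23 zg58) (kg xg15 yg31 zg12) (kg xg6 yg5 zg35) (kg xg4 yg7 zg38) (kg xg6 yg5 zg34) (kg xg15 yg31 zg19) (kg xg10 yg44 zg37) (kg xg10 yg56 zg40) (kg xg4 yg7 zg40) (kg xg6 yg6 zg2) (kg xg15 yg31 zg29) (kg xg10 yg47 zg41) (kg xg10 yg56 zg51) (kg xg15 yg31 zg33) (kg xg10 yg47 zg37) (kg xg10 yg44 zg43) (kg xg15 yg31 zg40) (kg xg4 yg7 zg43) (kg xg15 yg31 zg41) (kg xg14 yg27 zg5) (kg xg15 yg31 zg45) (kg xg8 yg16 zg20) (kg xg4 yg7 zg44)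 (kg xg10 yg23 zg43) (kg xg15 yg31 zg57) (kg xg8 yg16 zg17) (kg xg10 yg49 zg60) (kg xg5 yg37 zg4) (kg xg10 yg35 zg30) (kg xg4 yg21 zg8) (kg xg15 yg16 zg43) (kg xg15 yg32 zg3) (kg xg15 yg32 zg5) (kg xg12 yg23 zg24) (kg xg10 yg35 zg18) (kg xg9 yg52 zg20) (kg xg15 yg32 zg11) (kg xg4 yg8 zg36) (kg xg4 yg8 zg11) (kg xg14 yg13 zg38) (kg xg15 yg32 zg12) (kg xg5 yg17 zg34) (kg xg4 yg15 zg50) (kg xg9 yg54 zg46) (kg xg15 yg32 zg20) (kg xg5 yg17 zg26) (kg xg15 yg32 zg26) (kg xg5 yg26 zg13) (kg xg4 yg28 zg46) (kg xg15 yg32 zg27)) (@D3.rec (fun _ => Pt) (kg xg10 yg43 zg35) (kg xg15 yg32 zg32) (kg xg5 yg26 zg48) (kg xg4 yg8 zg1) (kg xg5 yg26 zg47) (kg xg15 yg32 zg38) (kg xg10 yg43 zg30) (kg xg11 yg55 zg31) (kg xg15 yg32 zg46) (kg xg10 yg20 zg45) (kg xg15 yg32 zg35) (kg xg15 yg32 zg53)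 (kg xg4 yg8 zg4) (kg xg15 yg32 zg54) (kg xg15 yg32 zg61) (kg xg15 yg32 zg59) (kg xg8 yg15 zg37) (kg xg4 yg8 zg5) (kg xg5 yg17 zg43) (kg xg15 yg33 zg10) (kg xg8 yg15 zg34) (kg xg15 yg16 zg1) (kg xg4 yg19 zg31) (kg xg14 yg57 zg13) (kg xg4 yg28 zg43) (kg xg5 yg35 zg57) (kg xg4 yg22 zg18) (kg xg15 yg33 zg24) (kg xg10 yg50 zg19) (kg xg15 yg33 zg30) (kg xg4 yg8 zg14) (kg xg4 yg8 zg48) (kg xg15 yg33 zg36) (kg xg10 yg24 zg1) (kg xg10 yg50 zg36) (kg xg4 yg9 zg13) (kg xg4 yg9 zg11) (kg xg12 yg20 zg19) (kg xg15 yg33 zg46) (kg xg8 yg17 zg30) (kg xg15 yg33 zg52) (kg xg4 yg8 zg19) (kg xg4 yg9 zg26) (kg xg15 yg33 zg58) (kg xg8 yg17 zg27) (kg xg15 yg34 zg2) (kg xg4 yg9 zg39) (kg xg4 yg9 zg37) (kg xg15 yg34 zg8) (kg xg8 yg17 zg24) (kg xg8 yg34 zg46) (kg xg15 yg34 zg16) (kg xg8 yg17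 zg18) (kg xg15 yg34 zg6) (kg xg15 yg16 zg53) (kg xg4 yg8 zg24) (kg xg15 yg34 zg22) (kg xg15 yg34 zg33) (kg xg15 yg34 zg27) (kg xg4 yg9 zg56) (kg xg4 yg8 zg25) (kg xg8 yg55 zg60)) (@D3.rec (fun _ => Pt) (kg xg8 yg32 zg31) (kg xg4 yg8 zg29) (kg xg15 yg34 zg44) (kg xg4 yg52 zg2) (kg xg8 yg25 zg2) (kg xg9 yg34 zg14) (kg xg4 yg8 zg30) (kg xg8 yg33 zg18) (kg xg10 yg24 zg30) (kg xg4 yg8 zg55) (kg xg15 yg34 zg55) (kg xg8 yg13 zg30) (kg xg15 yg34 zg58) (kg xg10 yg47 zg35) (kg xg15 yg33 zg22) (kg xg4 yg8 zg35) (kg xg15 yg33 zg21) (kg xg15 yg35 zg5) (kg xg8 yg16 zg49) (kg xg15 yg35 zg10) (kg xg8 yg31 zg7) (kg xg4 yg8 zg39) (kg xg8 yg33 zg25) (kg xg9 yg28 zg10) (kg xg8 yg16 zg52) (kg xg10 yg52 zg1) (kg xg15 yg35 zg18) (kg xg8 yg16 zg39) (kg xg15 yg35 zg14) (kg xg15 yg35 zg23) (kg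 xg8 yg16 zg44) (kg xg8 yg29 zg43) (kg xg15 yg33 zg38) (kg xg4 yg8 zg44) (kg xg15 yg33 zg37) (kg xg15 yg35 zg38) (kg xg15 yg35 zg42) (kg xg4 yg9 zg8) (kg xg4 yg8 zg45) (kg xg15 yg35 zg50) (kg xg15 yg33 zg33) (kg xg4 yg8 zg46) (kg xg15 yg35 zg59) (kg xg15 yg33 zg31) (kg xg15 yg36 zg1) (kg xg4 yg16 zg19) (kg xg15 yg15 zg2) (kg xg8 yg20 zg6) (kg xg5 yg15 zg59) (kg xg15 yg36 zg10) (kg xg5 yg15 zg58) (kg xg4 yg8 zg51) (kg xg15 yg36 zg18) (kg xg9 yg23 zg10) (kg xg8 yg32 zg36) (kg xg4 yg19 zg28) (kg xg8 yg34 zg5) (kg xg4 yg27 zg48) (kg xg15 yg22 zg56) (kg xg4 yg21 zg40) (kg xg15 yg35 zg13) (kg xg15 yg36 zg30)) (@D3.rec (fun _ => Pt) (kg xg8 yg10 zg51) (kg xg15 yg36 zg36) (kg xg15 yg36 zg24) (kg xg4 yg8 zg60) (kg xg8 yg30 zg47) (kg xg5 yg20 zg27) (kg xg10 yg38 zg8) (kg xg15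 yg36 zg43) (kg xg5 yg30 zg10) (kg xg15 yg1 zg51) (kg xg4 yg9 zg3) (kg xg15 yg36 zg50) (kg xg9 yg37 zg44) (kg xg4 yg15 zg24) (kg xg15 yg33 zg26) (kg xg4 yg9 zg7) (kg xg15 yg33 zg25) (kg xg15 yg37 zg3) (kg xg15 yg37 zg7) (kg xg15 yg37 zg11) (kg xg15 yg33 zg43) (kg xg4 yg9 zg9) (kg xg15 yg37 zg19) (kg xg8 yg30 zg25) (kg xg15 yg37 zg23) (kg xg5 yg29 zg39) (kg xg5 yg27 zg42) (kg xg4 yg9 zg12) (kg xg15 yg37 zg29) (kg xg5 yg27 zg41) (kg xg15 yg37 zg34) (kg xg10 yg19 zg20) (kg xg15 yg37 zg39) (kg xg8 yg36 zg34) (kg xg9 yg38 zg56) (kg xg8 yg36 zg54) (kg xg4 yg9 zg17) (kg xg15 yg37 zg48) (kg xg8 yg32 zg37) (kg xg15 yg37 zg51) (kg xg15 yg33 zg60) (kg xg4 yg9 zg20) (kg xg15 yg33 zg59) (kg xg15 yg37 zg61) (kg xg15 yg38 zg3) (kg xg4 yg9 zg33) (kg xg4 yg9 zg21) (kg xg15 yg38 zg9)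 (kg xg15 yg33 zg55) (kg xg4 yg9 zg22) (kg xg15 yg38 zg18) (kg xg15 yg33 zg53) (kg xg4 yg9 zg35) (kg xg15 yg34 zg15) (kg xg10 yg51 zg56) (kg xg4 yg9 zg43) (kg xg11 yg55 zg32) (kg xg15 yg1 zg50) (kg xg8 yg35 zg7) (kg xg15 yg38 zg30) (kg xg8 yg37 zg16) (kg xg15 yg38 zg34)) (@D3.rec (fun _ => Pt) (kg xg15 yg38 zg29) (kg xg4 yg9 zg31) (kg xg15 yg9 zg48) (kg xg14 yg57 zg32) (kg xg15 yg33 zg48) (kg xg4 yg9 zg32) (kg xg15 yg33 zg47) (kg xg15 yg38 zg49) (kg xg15 yg38 zg53) (kg xg15 yg38 zg55) (kg xg15 yg34 zg5) (kg xg4 yg9 zg34) (kg xg15 yg39 zg1) (kg xg15 yg34 zg3) (kg xg15 yg34 zg21) (kg xg8 yg32 zg35) (kg xg4 yg9 zg46) (kg xg4 yg9 zg38) (kg xg15 yg39 zg9) (kg xg5 yg5 zg48) (kg xg15 yg34 zg18) (kg xg4 yg9 zg40) (kg xg15 yg34 zg17) (kg xg15 yg39 zg23) (kg xg15 yg39 zg27) (kg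 xg15 yg39 zg30) (kg xg15 yg39 zg34) (kg xg4 yg9 zg45) (kg xg4 yg9 zg42) (kg xg15 yg39 zg38) (kg xg15 yg39 zg42) (kg xg15 yg33 zg56) (kg xg15 yg34 zg10) (kg xg4 yg9 zg44) (kg xg15 yg34 zg9) (kg xg15 yg39 zg55) (kg xg15 yg39 zg59) (kg xg15 yg40 zg1) (kg xg15 yg40 zg5) (kg xg8 yg35 zg16) (kg xg4 yg9 zg48) (kg xg4 yg9 zg51) (kg xg15 yg39 zg49) (kg xg15 yg40 zg17) (kg xg15 yg40 zg20) (kg xg15 yg40 zg22) (kg xg15 yg39 zg37) (kg xg15 yg40 zg28) (kg xg15 yg40 zg9) (kg xg4 yg9 zg50) (kg xg15 yg40 zg36) (kg xg9 yg16 zg54) (kg xg15 yg32 zg25) (kg xg15 yg40 zg41) (kg xg15 yg39 zg15) (kg xg15 yg40 zg46) (kg xg15 yg39 zg48) (kg xg15 yg40 zg53) (kg xg15 yg40 zg56) (kg xg15 yg33 zg41) (kg xg15 yg34 zg42) (kg xg4 yg9 zg55)) (@D3.rec (fun _ => Pt) (kg xg15 yg34 zg41) (kg xg13 yg0 zg40)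 (kg xg8 yg30 zg10) (kg xg4 yg9 zg57) (kg xg15 yg16 zg37) (kg xg8 yg31 zg10) (kg xg15 yg41 zg17) (kg xg15 yg33 zg57) (kg xg4 yg21 zg17) (kg xg10 yg50 zg20) (kg xg8 yg17 zg47) (kg xg8 yg31 zg28) (kg xg15 yg41 zg26) (kg xg15 yg41 zg29) (kg xg4 yg10 zg38) (kg xg15 yg41 zg35) (kg xg8 yg33 zg61) (kg xg15 yg41 zg40) (kg xg4 yg10 zg22) (kg xg4 yg10 zg1) (kg xg4 yg10 zg21) (kg xg7 yg57 zg43) (kg xg8 yg55 zg36) (kg xg7 yg57 zg39) (kg xg10 yg47 zg54) (kg xg15 yg41 zg53) (kg xg15 yg1 zg44) (kg xg8 yg53 zg20) (kg xg15 yg41 zg60) (kg xg8 yg53 zg19) (kg xg14 yg46 zg17) (kg xg10 yg32 zg33) (kg xg15 yg42 zg5) (kg xg8 yg33 zg50) (kg xg8 yg33 zg49) (kg xg15 yg42 zg12) (kg xg10 yg32 zg36) (kg xg10 yg38 zg32) (kg xg4 yg10 zg14) (kg xg4 yg10 zg51) (kg xg15 yg42 zg21) (kg xg8 yg21 zg56) (kg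 xg15 yg42 zg9) (kg xg15 yg42 zg29) (kg xg4 yg18 zg3) (kg xg4 yg10 zg48) (kg xg8 yg33 zg57) (kg xg4 yg10 zg17) (kg xg8 yg33 zg56) (kg xg15 yg42 zg40) (kg xg6 yg22 zg32) (kg xg8 yg33 zg39) (kg xg4 yg10 zg18) (kg xg15 yg42 zg46) (kg xg15 yg41 zg43) (kg xg4 yg10 zg19) (kg xg15 yg42 zg57) (kg xg15 yg41 zg41) (kg xg15 yg33 zg18) (kg xg15 yg42 zg61) (kg xg15 yg1 zg18) (kg xg8 yg23 zg49)) (@D3.rec (fun _ => Pt) (kg xg8 yg33 zg26) (kg xg4 yg10 zg23) (kg xg4 yg18 zg29) (kg xg8 yg23 zg23) (kg xg4 yg53 zg43) (kg xg12 yg19 zg6) (kg xg12 yg23 zg54) (kg xg15 yg43 zg12) (kg xg12 yg18 zg36) (kg xg8 yg23 zg54) (kg xg15 yg43 zg17) (kg xg8 yg20 zg8) (kg xg15 yg43 zg19) (kg xg10 yg38 zg31) (kg xg15 yg41 zg30) (kg xg7 yg21 zg16) (kg xg8 yg33 zg10) (kg xg12 yg42 zg4) (kg xg15 yg43 zg27) (kg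 xg8 yg22 zg32) (kg xg8 yg33 zg40) (kg xg15 yg43 zg32) (kg xg4 yg17 zg42) (kg xg10 yg38 zg23) (kg xg8 yg33 zg7) (kg xg4 yg10 zg46) (kg xg8 yg33 zg6) (kg xg14 yg38 zg55) (kg xg8 yg25 zg35) (kg xg4 yg10 zg47) (kg xg5 yg43 zg30) (kg xg15 yg43 zg47) (kg xg12 yg42 zg5) (kg xg15 yg43 zg53) (kg xg8 yg30 zg53) (kg xg15 yg42 zg18) (kg xg5 yg22 zg50) (kg xg4 yg10 zg50) (kg xg15 yg44 zg2) (kg xg5 yg22 zg49) (kg xg15 yg44 zg7) (kg xg12 yg21 zg24) (kg xg9 yg25 zg1) (kg xg14 yg44 zg44) (kg xg12 yg23 zg55) (kg xg9 yg28 zg4) (kg xg4 yg28 zg44) (kg xg5 yg28 zg35) (kg xg4 yg10 zg60) (kg xg15 yg44 zg17) (kg xg5 yg40 zg61) (kg xg5 yg28 zg33) (kg xg5 yg28 zg41) (kg xg4 yg11 zg0) (kg xg5 yg28 zg40) (kg xg15 yg44 zg26) (kg xg8 yg20 zg44) (kg xg15 yg44 zg32) (kg xg4 yg11 zg11) (kg xg4 yg11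 zg2) (kg xg4 yg11 zg9) (kg xg15 yg44 zg38)) (@D3.rec (fun _ => Pt) (kg xg15 yg41 zg32) (kg xg15 yg44 zg43) (kg xg8 yg34 zg61) (kg xg4 yg11 zg5) (kg xg8 yg34 zg60) (kg xg15 yg44 zg49) (kg xg6 yg37 zg19) (kg xg8 yg34 zg52) (kg xg4 yg11 zg6) (kg xg15 yg44 zg58) (kg xg15 yg44 zg35) (kg xg4 yg11 zg7) (kg xg15 yg45 zg8) (kg xg15 yg44 zg33) (kg xg10 yg37 zg42) (kg xg15 yg45 zg13) (kg xg10 yg31 zg54) (kg xg4 yg11 zg25) (kg xg10 yg32 zg46) (kg xg11 yg55 zg51) (kg xg15 yg36 zg42) (kg xg8 yg23 zg28) (kg xg12 yg21 zg36) (kg xg8 yg32 zg12) (kg xg12 yg48 zg34) (kg xg6 yg25 zg38) (kg xg8 yg32 zg0) (kg xg8 yg57 zg59) (kg xg6 yg47 zg30) (kg xg15 yg44 zg24) (kg xg12 yg55 zg57) (kg xg15 yg45 zg34) (kg xg8 yg21 zg22) (kg xg15 yg45 zg38) (kg xg4 yg11 zg33) (kg xg4 yg11 zg32) (kg xg15 yg45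 zg42) (kg xg15 yg45 zg45) (kg xg8 yg35 zg49) (kg xg8 yg34 zg23) (kg xg4 yg11 zg28) (kg xg8 yg34 zg22) (kg xg15 yg45 zg53) (kg xg8 yg34 zg13) (kg xg4 yg11 zg29) (kg xg5 yg44 zg15) (kg xg15 yg45 zg59) (kg xg15 yg45 zg40) (kg xg4 yg11 zg30) (kg xg15 yg46 zg4) (kg xg15 yg45 zg3) (kg xg15 yg46 zg8) (kg xg15 yg41 zg34) (kg xg4 yg21 zg24) (kg xg11 yg52 zg3) (kg xg15 yg46 zg13) (kg xg12 yg27 zg4) (kg xg8 yg35 zg52) (kg xg8 yg30 zg1) (kg xg4 yg11 zg53) (kg xg9 yg39 zg12) (kg xg6 yg21 zg18)) (@D3.rec (fun _ => Pt) (kg xg8 yg35 zg33) (kg xg12 yg4 zg52) (kg xg8 yg35 zg30) (kg xg8 yg35 zg28) (kg xg4 yg11 zg45) (kg xg10 yg55 zg32) (kg xg8 yg23 zg44) (kg xg13 yg37 zg56) (kg xg15 yg38 zg44) (kg xg4 yg17 zg5) (kg xg6 yg28 zg36) (kg xg4 yg11 zg48) (kg xg12 yg18 zg61) (kg xg4 yg52 zg40)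 (kg xg8 yg25 zg1) (kg xg4 yg11 zg54) (kg xg4 yg11 zg49) (kg xg15 yg37 zg54) (kg xg15 yg46 zg40) (kg xg9 yg28 zg51) (kg xg15 yg46 zg26) (kg xg4 yg11 zg55) (kg xg12 yg59 zg19) (kg xg14 yg44 zg34) (kg xg5 yg30 zg59) (kg xg6 yg59 zg2) (kg xg12 yg15 zg53) (kg xg12 yg13 zg9) (kg xg8 yg22 zg24) (kg xg15 yg37 zg53) (kg xg15 yg46 zg41) (kg xg4 yg44 zg1) (kg xg12 yg59 zg18) (kg xg4 yg16 zg30) (kg xg8 yg23 zg46) (kg xg15 yg45 zg26) (kg xg12 yg27 zg5) (kg xg12 yg59 zg50) (kg xg6 yg19 zg11) (kg xg4 yg16 zg31) (kg xg4 yg11 zg60) (kg xg15 yg47 zg9) (kg xg15 yg47 zg13) (kg xg8 yg23 zg6) (kg xg4 yg11 zg61) (kg xg8 yg23 zg34) (kg xg4 yg12 zg0) (kg xg4 yg43 zg23) (kg xg8 yg34 zg19) (kg xg15 yg47 zg27) (kg xg15 yg43 zg60) (kg xg8 yg34 zg41) (kg xg8 yg25 zg5) (kg xg8 yg34 zg44) (kg xg8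 yg21 zg9) (kg xg4 yg12 zg8) (kg xg4 yg13 zg50) (kg xg10 yg4 zg16) (kg xg15 yg47 zg31) (kg xg9 yg36 zg30) (kg xg9 yg43 zg22) (kg xg15 yg47 zg36)) (@D3.rec (fun _ => Pt) (kg xg8 yg18 zg0) (kg xg15 yg47 zg42) (kg xg4 yg12 zg57) (kg xg15 yg47 zg48) (kg xg4 yg28 zg37) (kg xg4 yg43 zg41) (kg xg4 yg12 zg31) (kg xg4 yg12 zg15) (kg xg4 yg12 zg30) (kg xg15 yg23 zg18) (kg xg15 yg47 zg56) (kg xg15 yg24 zg0) (kg xg15 yg48 zg0) (kg xg8 yg37 zg19) (kg xg4 yg12 zg20) (kg xg8 yg37 zg18) (kg xg4 yg15 zg22) (kg xg5 yg29 zg22) (kg xg12 yg59 zg26) (kg xg15 yg24 zg3) (kg xg8 yg40 zg55) (kg xg4 yg12 zg23) (kg xg4 yg13 zg12) (kg xg15 yg48 zg15) (kg xg8 yg40 zg3) (kg xg15 yg48 zg4) (kg xg15 yg48 zg22) (kg xg4 yg52 zg22) (kg xg4 yg13 zg10) (kg xg6 yg23 zg43) (kg xg4 yg12 zg26) (kg xg12 yg56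 zg39) (kg xg8 yg37 zg8) (kg xg4 yg12 zg27) (kg xg9 yg51 zg43) (kg xg15 yg48 zg36) (kg xg4 yg43 zg42) (kg xg4 yg12 zg28) (kg xg14 yg58 zg13) (kg xg15 yg48 zg43) (kg xg4 yg54 zg6) (kg xg8 yg26 zg33) (kg xg8 yg39 zg55) (kg xg5 yg2 zg16) (kg xg9 yg39 zg16) (kg xg4 yg50 zg33) (kg xg15 yg48 zg53) (kg xg4 yg51 zg50) (kg xg15 yg48 zg58) (kg xg9 yg34 zg20) (kg xg4 yg12 zg36) (kg xg9 yg34 zg19) (kg xg6 yg47 zg42) (kg xg6 yg31 zg41) (kg xg5 yg39 zg55) (kg xg4 yg12 zg38) (kg xg5 yg30 zg55) (kg xg8 yg36 zg8) (kg xg13 yg52 zg31) (kg xg8 yg40 zg16) (kg xg6 yg30 zg58) (kg xg12 yg1 zg21)) (@D3.rec (fun _ => Pt) (kg xg12 yg13 zg16) (kg xg6 yg22 zg50) (kg xg15 yg49 zg9) (kg xg7 yg55 zg34) (kg xg9 yg38 zg37) (kg xg8 yg23 zg52) (kg xg15 yg41 zg8) (kg xg12 yg59 zg44) (kg xg8 yg40 zg54) (kg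 xg15 yg47 zg43) (kg xg15 yg49 zg15) (kg xg8 yg36 zg21) (kg xg15 yg43 zg56) (kg xg4 yg22 zg41) (kg xg4 yg13 zg4) (kg xg15 yg49 zg21) (kg xg8 yg31 zg31) (kg xg8 yg18 zg1) (kg xg15 yg49 zg27) (kg xg15 yg49 zg29) (kg xg14 yg57 zg23) (kg xg6 yg38 zg60) (kg xg4 yg13 zg5) (kg xg5 yg39 zg51) (kg xg15 yg49 zg36) (kg xg8 yg34 zg26) (kg xg8 yg37 zg9) (kg xg11 yg17 zg0) (kg xg4 yg52 zg10) (kg xg6 yg44 zg28) (kg xg6 yg26 zg25) (kg xg4 yg13 zg8) (kg xg6 yg27 zg16) (kg xg12 yg4 zg9) (kg xg8 yg21 zg30) (kg xg8 yg21 zg29) (kg xg12 yg47 zg11) (kg xg15 yg48 zg14) (kg xg12 yg47 zg39) (kg xg8 yg37 zg22) (kg xg9 yg34 zg50) (kg xg15 yg48 zg11) (kg xg7 yg4 zg3) (kg xg13 yg2 zg1) (kg xg9 yg32 zg40) (kg xg8 yg41 zg3) (kg xg15 yg49 zg59) (kg xg5 yg20 zg31) (kg xg8 yg28 zg27) (kg xg4 yg13 zg26)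 (kg xg8 yg28 zg29) (kg xg4 yg36 zg56) (kg xg4 yg13 zg29) (kg xg15 yg12 zg59) (kg xg9 yg7 zg39) (kg xg4 yg13 zg30) (kg xg9 yg7 zg37) (kg xg8 yg43 zg8) (kg xg15 yg50 zg11) (kg xg11 yg34 zg39) (kg xg4 yg13 zg31) (kg xg15 yg50 zg18)) (@D3.rec (fun _ => Pt) (kg xg15 yg50 zg24) (kg xg15 yg50 zg12) (kg xg15 yg50 zg28) (kg xg15 yg10 zg55) (kg xg8 yg10 zg44) (kg xg4 yg13 zg34) (kg xg8 yg10 zg43) (kg xg15 yg50 zg38) (kg xg4 yg13 zg57) (kg xg5 yg15 zg21) (kg xg15 yg50 zg42) (kg xg15 yg50 zg44) (kg xg15 yg50 zg46) (kg xg10 yg19 zg31) (kg xg15 yg32 zg19) (kg xg4 yg53 zg59) (kg xg10 yg2 zg20) (kg xg15 yg50 zg53) (kg xg15 yg50 zg55) (kg xg14 yg53 zg39) (kg xg5 yg15 zg26) (kg xg10 yg9 zg29) (kg xg8 yg9 zg51) (kg xg9 yg43 zg29) (kg xg15 yg51 zg2) (kg xg5 yg27 zg31) (kg xg15 yg51 zg7)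 (kg xg15 yg51 zg8) (kg xg11 yg4 zg21) (kg xg15 yg51 zg12) (kg xg5 yg25 zg56) (kg xg9 yg43 zg26) (kg xg4 yg15 zg37) (kg xg15 yg51 zg19) (kg xg15 yg51 zg21) (kg xg15 yg51 zg23) (kg xg8 yg56 zg24) (kg xg10 yg46 zg12) (kg xg15 yg50 zg61) (kg xg4 yg14 zg0) (kg xg15 yg35 zg3) (kg xg15 yg51 zg26) (kg xg4 yg15 zg39) (kg xg10 yg50 zg23) (kg xg10 yg49 zg31) (kg xg5 yg14 zg56) (kg xg8 yg56 zg41) (kg xg4 yg14 zg7) (kg xg8 yg10 zg15) (kg xg15 yg51 zg34) (kg xg5 yg27 zg46) (kg xg10 yg53 zg35) (kg xg15 yg51 zg1) (kg xg4 yg14 zg10) (kg xg8 yg15 zg48) (kg xg15 yg51 zg0) (kg xg15 yg51 zg43) (kg xg10 yg54 zg57) (kg xg5 yg27 zg38) (kg xg8 yg57 zg58) (kg xg9 yg42 zg29) (kg xg4 yg14 zg13)) (@D3.rec (fun _ => Pt) (kg xg11 yg4 zg11) (kg xg9 yg42 zg28) (kg xg15 yg51 zg58) (kg xg5 yg31 zg12)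 (kg xg15 yg51 zg52) (kg xg15 yg52 zg4) (kg xg4 yg14 zg15) (kg xg15 yg52 zg5) (kg xg15 yg52 zg15) (kg xg15 yg52 zg10) (kg xg4 yg14 zg16) (kg xg4 yg16 zg34) (kg xg15 yg52 zg23) (kg xg4 yg29 zg10) (kg xg5 yg34 zg60) (kg xg10 yg19 zg56) (kg xg4 yg14 zg18) (kg xg15 yg52 zg32) (kg xg8 yg7 zg12) (kg xg15 yg52 zg37) (kg xg6 yg7 zg2) (kg xg4 yg14 zg20) (kg xg6 yg7 zg1) (kg xg15 yg52 zg42) (kg xg11 yg4 zg38) (kg xg15 yg52 zg48) (kg xg8 yg11 zg55) (kg xg4 yg14 zg22) (kg xg8 yg11 zg54) (kg xg15 yg52 zg53) (kg xg4 yg14 zg23) (kg xg15 yg52 zg54) (kg xg15 yg53 zg3) (kg xg15 yg52 zg59) (kg xg15 yg53 zg6) (kg xg8 yg28 zg33) (kg xg8 yg10 zg7) (kg xg4 yg14 zg27) (kg xg8 yg10 zg6) (kg xg8 yg9 zg50) (kg xg4 yg14 zg28) (kg xg15 yg53 zg21) (kg xg8 yg7 zg38) (kg xg9 yg41 zg12) (kg xg8 yg28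 zg36) (kg xg5 yg53 zg22) (kg xg4 yg14 zg31) (kg xg15 yg53 zg27) (kg xg8 yg9 zg57) (kg xg15 yg53 zg29) (kg xg10 yg0 zg50) (kg xg15 yg53 zg31) (kg xg5 yg35 zg42) (kg xg10 yg54 zg12) (kg xg7 yg58 zg48) (kg xg4 yg14 zg35) (kg xg7 yg58 zg47) (kg xg8 yg9 zg0) (kg xg4 yg14 zg36) (kg xg8 yg8 zg61) (kg xg15 yg53 zg50) (kg xg8 yg8 zg59)) (@D3.rec (fun _ => Pt) (kg xg4 yg14 zg37) (kg xg15 yg53 zg59) (kg xg8 yg8 zg27) (kg xg10 yg40 zg40) (kg xg9 yg53 zg56) (kg xg15 yg11 zg37) (kg xg10 yg8 zg33) (kg xg4 yg14 zg40) (kg xg9 yg53 zg2) (kg xg5 yg1 zg29) (kg xg8 yg9 zg4) (kg xg4 yg14 zg42) (kg xg15 yg54 zg10) (kg xg8 yg8 zg52) (kg xg11 yg8 zg38) (kg xg10 yg32 zg2) (kg xg4 yg14 zg47) (kg xg4 yg14 zg50) (kg xg15 yg20 zg6) (kg xg10 yg54 zg50) (kg xg15 yg22 zg23) (kg xg15 yg54 zg27) (kg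 xg4 yg14 zg48) (kg xg15 yg54 zg31) (kg xg15 yg54 zg20) (kg xg5 yg38 zg58) (kg xg15 yg20 zg13) (kg xg8 yg25 zg49) (kg xg8 yg25 zg50) (kg xg4 yg14 zg49) (kg xg15 yg54 zg49) (kg xg15 yg54 zg52) (kg xg8 yg27 zg35) (kg xg4 yg14 zg51) (kg xg8 yg9 zg32) (kg xg15 yg54 zg59) (kg xg11 yg57 zg3) (kg xg9 yg43 zg33) (kg xg8 yg27 zg44) (kg xg11 yg9 zg34) (kg xg15 yg55 zg2) (kg xg11 yg55 zg6) (kg xg15 yg55 zg8) (kg xg5 yg25 zg60) (kg xg4 yg14 zg56) (kg xg5 yg25 zg59) (kg xg15 yg55 zg14) (kg xg9 yg22 zg48) (kg xg15 yg55 zg20) (kg xg5 yg26 zg29) (kg xg4 yg14 zg58) (kg xg5 yg26 zg28) (kg xg15 yg55 zg27) (kg xg4 yg46 zg21) (kg xg15 yg55 zg24) (kg xg15 yg55 zg35) (kg xg10 yg42 zg55) (kg xg11 yg56 zg0) (kg xg15 yg55 zg43) (kg xg4 yg14 zg61) (kg xg15 yg55 zg44) (kg xg15 yg55 zg53)) (@D3.rec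 (fun _ => Pt) (kg xg15 yg55 zg49) (kg xg5 yg16 zg11) (kg xg4 yg15 zg0) (kg xg5 yg16 zg10) (kg xg8 yg29 zg31) (kg xg15 yg56 zg1) (kg xg4 yg29 zg3) (kg xg15 yg56 zg5) (kg xg15 yg56 zg6) (kg xg15 yg27 zg27) (kg xg8 yg9 zg31) (kg xg14 yg24 zg15) (kg xg8 yg26 zg30) (kg xg10 yg46 zg61) (kg xg15 yg56 zg16) (kg xg10 yg44 zg1) (kg xg14 yg23 zg10) (kg xg6 yg6 zg23) (kg xg6 yg6 zg22) (kg xg15 yg56 zg19) (kg xg9 yg23 zg3) (kg xg10 yg44 zg7) (kg xg15 yg56 zg27) (kg xg9 yg25 zg23) (kg xg15 yg56 zg18) (kg xg15 yg56 zg29) (kg xg4 yg15 zg15) (kg xg15 yg56 zg30) (kg xg11 yg15 zg22) (kg xg15 yg56 zg35) (kg xg8 yg29 zg4) (kg xg4 yg15 zg16) (kg xg4 yg45 zg21) (kg xg10 yg46 zg0) (kg xg15 yg56 zg45) (kg xg4 yg51 zg1) (kg xg15 yg56 zg49) (kg xg10 yg19 zg16) (kg xg15 yg56 zg55) (kg xg4 yg15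 zg23) (kg xg4 yg15 zg47) (kg xg15 yg56 zg58) (kg xg10 yg19 zg11) (kg xg15 yg57 zg2) (kg xg4 yg16 zg2) (kg xg4 yg16 zg1) (kg xg15 yg57 zg4) (kg xg4 yg15 zg29) (kg xg15 yg57 zg9) (kg xg8 yg30 zg24) (kg xg15 yg57 zg14) (kg xg4 yg15 zg28) (kg xg4 yg16 zg9) (kg xg15 yg57 zg18) (kg xg8 yg30 zg21) (kg xg15 yg57 zg24) (kg xg4 yg16 zg20) (kg xg4 yg16 zg18) (kg xg15 yg57 zg29) (kg xg8 yg30 zg18) (kg xg8 yg22 zg26) (kg xg15 yg57 zg34)) (@D3.rec (fun _ => Pt) (kg xg8 yg30 zg12) (kg xg15 yg57 zg28) (kg xg15 yg46 zg60) (kg xg4 yg15 zg33) (kg xg15 yg57 zg42) (kg xg15 yg57 zg53) (kg xg15 yg57 zg47) (kg xg4 yg16 zg37) (kg xg4 yg15 zg34) (kg xg15 yg57 zg61) (kg xg8 yg20 zg3) (kg xg15 yg58 zg2) (kg xg8 yg29 zg59) (kg xg15 yg58 zg7) (kg xg5 yg30 zg17) (kg xg4 yg15 zg38) (kg xg5 yg30 zg15)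 (kg xg6 yg48 zg19) (kg xg8 yg30 zg0) (kg xg10 yg50 zg4) (kg xg15 yg58 zg17) (kg xg8 yg29 zg49) (kg xg15 yg58 zg10) (kg xg15 yg46 zg58) (kg xg8 yg29 zg54) (kg xg8 yg16 zg34) (kg xg15 yg56 zg60) (kg xg4 yg15 zg43) (kg xg15 yg56 zg59) (kg xg15 yg58 zg40) (kg xg15 yg58 zg44) (kg xg4 yg15 zg60) (kg xg4 yg15 zg44) (kg xg9 yg26 zg61) (kg xg15 yg56 zg56) (kg xg4 yg15 zg45) (kg xg15 yg58 zg54) (kg xg15 yg48 zg48) (kg xg15 yg58 zg56) (kg xg15 yg51 zg18) (kg xg8 yg32 zg34) (kg xg5 yg18 zg0) (kg xg15 yg58 zg59) (kg xg5 yg17 zg61) (kg xg15 yg58 zg61) (kg xg10 yg24 zg38) (kg xg8 yg37 zg30) (kg xg8 yg17 zg56) (kg xg15 yg59 zg1) (kg xg8 yg13 zg0) (kg xg15 yg48 zg13) (kg xg8 yg40 zg56) (kg xg4 yg15 zg55) (kg xg8 yg17 zg59) (kg xg15 yg59 zg7) (kg xg11 yg9 zg26) (kg xg4 yg29 zg14) (kg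 xg4 yg29 zg13) (kg xg15 yg56 zg51) (kg xg4 yg15 zg59) (kg xg15 yg56 zg50) (kg xg15 yg59 zg19)) (@D3.rec (fun _ => Pt) (kg xg15 yg59 zg23) (kg xg15 yg59 zg26) (kg xg15 yg32 zg44) (kg xg4 yg15 zg61) (kg xg11 yg55 zg34) (kg xg8 yg17 zg31) (kg xg15 yg31 zg26) (kg xg8 yg17 zg21) (kg xg15 yg51 zg29) (kg xg15 yg59 zg33) (kg xg8 yg20 zg9) (kg xg15 yg47 zg3) (kg xg15 yg57 zg20) (kg xg4 yg16 zg5) (kg xg15 yg57 zg19) (kg xg15 yg59 zg47) (kg xg15 yg59 zg51) (kg xg4 yg16 zg15) (kg xg4 yg16 zg6) (kg xg15 yg59 zg59) (kg xg15 yg57 zg16) (kg xg4 yg16 zg7) (kg xg9 yg21 zg17) (kg xg15 yg57 zg15) (kg xg9 yg24 zg26) (kg xg16 yg0 zg5) (kg xg4 yg16 zg24) (kg xg15 yg55 zg26) (kg xg10 yg44 zg8) (kg xg9 yg41 zg46) (kg xg16 yg0 zg7) (kg xg8 yg25 zg20) (kg xg12 yg16 zg7) (kg xg8 yg41 zg29) (kg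 xg4 yg16 zg13) (kg xg6 yg23 zg28) (kg xg15 yg57 zg11) (kg xg4 yg16 zg14) (kg xg15 yg57 zg10) (kg xg16 yg0 zg20) (kg xg9 yg28 zg22) (kg xg16 yg0 zg25) (kg xg15 yg57 zg27) (kg xg4 yg16 zg16) (kg xg15 yg35 zg57) (kg xg15 yg57 zg25) (kg xg15 yg57 zg41) (kg xg8 yg20 zg7) (kg xg4 yg16 zg28) (kg xg16 yg0 zg41) (kg xg5 yg12 zg23) (kg xg15 yg57 zg36) (kg xg4 yg16 zg21) (kg xg15 yg57 zg35) (kg xg16 yg0 zg56) (kg xg16 yg0 zg60) (kg xg16 yg1 zg2) (kg xg4 yg18 zg35) (kg xg16 yg1 zg7) (kg xg4 yg16 zg27) (kg xg16 yg1 zg11) (kg xg9 yg24 zg24)) (@D3.rec (fun _ => Pt) (kg xg15 yg57 zg17) (kg xg15 yg57 zg31) (kg xg4 yg16 zg25) (kg xg15 yg57 zg30) (kg xg16 yg1 zg22) (kg xg16 yg1 zg26) (kg xg16 yg1 zg29) (kg xg16 yg1 zg33) (kg xg16 yg1 zg36) (kg xg15 yg36 zg6) (kg xg8 yg22 zg58) (kg xg16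 yg1 zg15) (kg xg6 yg48 zg44) (kg xg16 yg1 zg43) (kg xg10 yg52 zg5) (kg xg15 yg47 zg10) (kg xg15 yg46 zg61) (kg xg4 yg16 zg32) (kg xg16 yg1 zg53) (kg xg12 yg34 zg1) (kg xg16 yg0 zg48) (kg xg12 yg57 zg34) (kg xg16 yg1 zg14) (kg xg16 yg1 zg60) (kg xg16 yg2 zg0) (kg xg16 yg2 zg4) (kg xg15 yg58 zg1) (kg xg4 yg16 zg36) (kg xg15 yg58 zg0) (kg xg16 yg2 zg16) (kg xg8 yg17 zg0) (kg xg4 yg16 zg38) (kg xg16 yg2 zg23) (kg xg8 yg18 zg38) (kg xg15 yg33 zg35) (kg xg10 yg46 zg28) (kg xg8 yg32 zg40) (kg xg15 yg57 zg8) (kg xg8 yg30 zg40) (kg xg8 yg18 zg56) (kg xg14 yg58 zg4) (kg xg4 yg57 zg36) (kg xg8 yg43 zg11) (kg xg16 yg2 zg38) (kg xg4 yg17 zg13) (kg xg13 yg54 zg19) (kg xg12 yg1 zg2) (kg xg4 yg16 zg58) (kg xg4 yg16 zg45) (kg xg4 yg16 zg57) (kg xg4 yg16 zg46) (kg xg11 yg6 zg39) (kg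 xg11 yg51 zg61) (kg xg16 yg2 zg50) (kg xg5 yg23 zg56) (kg xg4 yg16 zg47) (kg xg5 yg23 zg54) (kg xg4 yg50 zg49) (kg xg16 yg2 zg58) (kg xg11 yg52 zg2) (kg xg16 yg2 zg60) (kg xg4 yg16 zg50)) (@D3.rec (fun _ => Pt) (kg xg4 yg17 zg28) (kg xg16 yg3 zg1) (kg xg16 yg2 zg54) (kg xg16 yg3 zg5) (kg xg4 yg17 zg26) (kg xg8 yg21 zg26) (kg xg4 yg16 zg53) (kg xg8 yg21 zg25) (kg xg16 yg3 zg12) (kg xg8 yg21 zg16) (kg xg4 yg16 zg54) (kg xg16 yg3 zg18) (kg xg12 yg1 zg3) (kg xg4 yg16 zg55) (kg xg16 yg3 zg27) (kg xg15 yg56 zg47) (kg xg16 yg3 zg30) (kg xg4 yg27 zg13) (kg xg4 yg51 zg6) (kg xg16 yg2 zg48) (kg xg5 yg5 zg29) (kg xg8 yg35 zg50) (kg xg16 yg3 zg40) (kg xg16 yg3 zg42) (kg xg8 yg17 zg22) (kg xg4 yg17 zg0) (kg xg8 yg21 zg1) (kg xg8 yg20 zg34) (kg xg8 yg35 zg40) (kg xg6 yg28 zg29) (kg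 xg16 yg3 zg50) (kg xg4 yg47 zg35) (kg xg7 yg48 zg51) (kg xg4 yg17 zg33) (kg xg16 yg3 zg57) (kg xg16 yg3 zg59) (kg xg10 yg32 zg43) (kg xg16 yg2 zg39) (kg xg14 yg7 zg52) (kg xg8 yg20 zg52) (kg xg15 yg49 zg53) (kg xg4 yg17 zg20) (kg xg4 yg17 zg18) (kg xg16 yg4 zg11) (kg xg9 yg35 zg26) (kg xg8 yg43 zg12) (kg xg16 yg4 zg18) (kg xg10 yg32 zg45) (kg xg16 yg4 zg24) (kg xg4 yg17 zg21) (kg xg5 yg30 zg54) (kg xg16 yg4 zg30) (kg xg8 yg21 zg17) (kg xg16 yg4 zg35) (kg xg16 yg3 zg47) (kg xg8 yg20 zg48) (kg xg4 yg17 zg24) (kg xg8 yg20 zg47) (kg xg14 yg21 zg19) (kg xg12 yg25 zg59) (kg xg8 yg20 zg16) (kg xg4 yg17 zg25)) (@D3.rec (fun _ => Pt) (kg xg7 yg58 zg40) (kg xg16 yg4 zg49) (kg xg13 yg54 zg23) (kg xg16 yg4 zg54) (kg xg8 yg21 zg20) (kg xg8 yg18 zg4) (kg xg16 yg2 zg61) (kg xg12 yg13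 zg14) (kg xg6 yg43 zg51) (kg xg16 yg4 zg58) (kg xg6 yg11 zg41) (kg xg6 yg50 zg0) (kg xg16 yg5 zg2) (kg xg8 yg22 zg44) (kg xg16 yg5 zg5) (kg xg4 yg17 zg46) (kg xg4 yg17 zg38) (kg xg4 yg17 zg45) (kg xg16 yg5 zg12) (kg xg16 yg2 zg41) (kg xg16 yg5 zg17) (kg xg8 yg22 zg41) (kg xg4 yg17 zg41) (kg xg8 yg22 zg40) (kg xg14 yg2 zg56) (kg xg12 yg39 zg1) (kg xg8 yg25 zg28) (kg xg16 yg5 zg25) (kg xg16 yg5 zg8) (kg xg4 yg17 zg43) (kg xg15 yg42 zg27) (kg xg16 yg5 zg6) (kg xg15 yg57 zg6) (kg xg16 yg5 zg39) (kg xg16 yg4 zg29) (kg xg4 yg17 zg61) (kg xg7 yg55 zg25) (kg xg11 yg52 zg5) (kg xg11 yg53 zg25) (kg xg10 yg44 zg27) (kg xg8 yg35 zg44) (kg xg6 yg41 zg22) (kg xg6 yg48 zg34) (kg xg16 yg5 zg50) (kg xg6 yg41 zg23) (kg xg6 yg19 zg47) (kg xg8 yg19 zg31) (kg xg5 yg32 zg30) (kg xg5 yg32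 zg49) (kg xg4 yg18 zg26) (kg xg11 yg10 zg45) (kg xg16 yg5 zg60) (kg xg8 yg22 zg8) (kg xg16 yg6 zg4) (kg xg4 yg18 zg7) (kg xg4 yg18 zg6) (kg xg16 yg6 zg8) (kg xg16 yg6 zg11) (kg xg8 yg23 zg48) (kg xg8 yg22 zg4) (kg xg4 yg18 zg2) (kg xg8 yg22 zg3)) (@D3.rec (fun _ => Pt) (kg xg14 yg37 zg28) (kg xg5 yg36 zg32) (kg xg16 yg6 zg23) (kg xg16 yg6 zg6) (kg xg4 yg18 zg4) (kg xg16 yg6 zg30) (kg xg16 yg5 zg31) (kg xg8 yg19 zg3) (kg xg16 yg6 zg35) (kg xg16 yg2 zg42) (kg xg10 yg32 zg37) (kg xg15 yg46 zg25) (kg xg4 yg47 zg38) (kg xg6 yg41 zg42) (kg xg8 yg23 zg51) (kg xg8 yg23 zg53) (kg xg8 yg16 zg53) (kg xg4 yg18 zg27) (kg xg4 yg50 zg24) (kg xg9 yg19 zg4) (kg xg8 yg23 zg12) (kg xg6 yg48 zg40) (kg xg11 yg59 zg25) (kg xg8 yg23 zg7) (kg xg12 yg12 zg6) (kg xg7 yg20 zg12) (kg xg12 yg24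 zg26) (kg xg6 yg23 zg24) (kg xg8 yg23 zg4) (kg xg8 yg23 zg2) (kg xg4 yg18 zg22) (kg xg6 yg3 zg58) (kg xg4 yg18 zg23) (kg xg14 yg2 zg46) (kg xg4 yg51 zg59) (kg xg6 yg27 zg6) (kg xg4 yg18 zg28) (kg xg4 yg18 zg24) (kg xg15 yg59 zg40) (kg xg16 yg3 zg53) (kg xg14 yg11 zg47) (kg xg6 yg20 zg45) (kg xg14 yg11 zg38) (kg xg12 yg27 zg6) (kg xg8 yg34 zg43) (kg xg15 yg59 zg39) (kg xg15 yg59 zg60) (kg xg15 yg36 zg59) (kg xg4 yg18 zg30) (kg xg8 yg22 zg0) (kg xg15 yg41 zg46) (kg xg10 yg47 zg56) (kg xg8 yg22 zg22) (kg xg6 yg37 zg34) (kg xg9 yg38 zg39) (kg xg16 yg7 zg11) (kg xg8 yg59 zg27) (kg xg8 yg30 zg49) (kg xg15 yg41 zg19) (kg xg4 yg19 zg23) (kg xg16 yg7 zg18) (kg xg9 yg20 zg35)) (@D3.rec (fun _ => Pt) (kg xg4 yg18 zg54) (kg xg4 yg18 zg40) (kg xg4 yg18 zg53) (kg xg16 yg7 zg23) (kg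 xg16 yg7 zg26) (kg xg15 yg27 zg15) (kg xg9 yg11 zg53) (kg xg8 yg25 zg23) (kg xg8 yg25 zg22) (kg xg16 yg7 zg32) (kg xg8 yg41 zg27) (kg xg15 yg36 zg23) (kg xg4 yg18 zg46) (kg xg4 yg19 zg40) (kg xg16 yg7 zg38) (kg xg8 yg22 zg45) (kg xg9 yg11 zg32) (kg xg4 yg19 zg37) (kg xg8 yg25 zg32) (kg xg12 yg59 zg52) (kg xg8 yg25 zg11) (kg xg4 yg18 zg50) (kg xg16 yg7 zg47) (kg xg12 yg23 zg61) (kg xg4 yg18 zg51) (kg xg16 yg7 zg51) (kg xg16 yg7 zg54) (kg xg16 yg7 zg55) (kg xg5 yg9 zg30) (kg xg8 yg6 zg2) (kg xg14 yg57 zg5) (kg xg5 yg9 zg45) (kg xg9 yg37 zg30) (kg xg4 yg18 zg58) (kg xg8 yg40 zg21) (kg xg4 yg21 zg43) (kg xg6 yg47 zg44) (kg xg14 yg57 zg12) (kg xg4 yg19 zg2) (kg xg4 yg50 zg50) (kg xg9 yg34 zg12) (kg xg9 yg36 zg28) (kg xg4 yg19 zg9) (kg xg8 yg6 zg47) (kg xg8 yg7 zg25) (kg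 xg4 yg19 zg10) (kg xg8 yg7 zg24) (kg xg8 yg7 zg30) (kg xg4 yg19 zg11) (kg xg8 yg7 zg29) (kg xg16 yg8 zg17) (kg xg16 yg8 zg21) (kg xg5 yg39 zg16) (kg xg5 yg23 zg38) (kg xg8 yg18 zg36) (kg xg16 yg8 zg9) (kg xg8 yg8 zg7) (kg xg4 yg19 zg15) (kg xg15 yg23 zg19) (kg xg8 yg8 zg5) (kg xg16 yg8 zg30) (kg xg4 yg56 zg59)) (@D3.rec (fun _ => Pt) (kg xg5 yg41 zg45) (kg xg7 yg55 zg54) (kg xg8 yg51 zg22) (kg xg16 yg8 zg39) (kg xg16 yg8 zg40) (kg xg15 yg24 zg10) (kg xg16 yg7 zg15) (kg xg12 yg20 zg46) (kg xg8 yg24 zg33) (kg xg9 yg20 zg26) (kg xg4 yg51 zg22) (kg xg16 yg8 zg48) (kg xg8 yg18 zg60) (kg xg8 yg30 zg50) (kg xg16 yg8 zg56) (kg xg16 yg8 zg58) (kg xg8 yg39 zg60) (kg xg16 yg9 zg1) (kg xg4 yg19 zg32) (kg xg8 yg24 zg14) (kg xg16 yg9 zg7) (kg xg9 yg36 zg57) (kg xg8 yg25 zg12) (kg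 xg16 yg9 zg11) (kg xg4 yg53 zg20) (kg xg11 yg10 zg43) (kg xg6 yg46 zg40) (kg xg16 yg9 zg18) (kg xg9 yg20 zg27) (kg xg16 yg9 zg24) (kg xg8 yg43 zg14) (kg xg15 yg36 zg38) (kg xg15 yg1 zg26) (kg xg4 yg19 zg39) (kg xg16 yg9 zg34) (kg xg15 yg1 zg25) (kg xg7 yg58 zg27) (kg xg4 yg51 zg29) (kg xg4 yg51 zg30) (kg xg16 yg9 zg41) (kg xg5 yg35 zg30) (kg xg5 yg37 zg51) (kg xg6 yg15 zg44) (kg xg16 yg9 zg44) (kg xg10 yg1 zg12) (kg xg8 yg14 zg10) (kg xg4 yg19 zg55) (kg xg8 yg14 zg9) (kg xg14 yg50 zg56) (kg xg16 yg9 zg52) (kg xg8 yg14 zg24) (kg xg4 yg19 zg57) (kg xg8 yg14 zg23) (kg xg16 yg9 zg58) (kg xg16 yg9 zg55) (kg xg10 yg0 zg60) (kg xg16 yg10 zg2) (kg xg4 yg19 zg60) (kg xg16 yg10 zg3) (kg xg16 yg10 zg12) (kg xg16 yg10 zg8) (kg xg16 yg10 zg16)) (@D3.rec (fun _ => Pt) (kg xg10 yg42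 zg49) (kg xg4 yg31 zg17) (kg xg16 yg10 zg21) (kg xg16 yg9 zg49) (kg xg5 yg5 zg3) (kg xg4 yg20 zg3) (kg xg5 yg5 zg2) (kg xg8 yg3 zg23) (kg xg13 yg48 zg16) (kg xg13 yg46 zg51) (kg xg15 yg13 zg13) (kg xg13 yg27 zg54) (kg xg13 yg15 zg44) (kg xg4 yg20 zg11) (kg xg9 yg14 zg60) (kg xg4 yg20 zg12) (kg xg9 yg15 zg3) (kg xg16 yg10 zg35) (kg xg16 yg10 zg30) (kg xg4 yg20 zg13) (kg xg15 yg50 zg23) (kg xg16 yg10 zg43) (kg xg12 yg22 zg26) (kg xg8 yg5 zg10) (kg xg16 yg10 zg49) (kg xg16 yg10 zg52) (kg xg16 yg10 zg56) (kg xg8 yg39 zg9) (kg xg4 yg20 zg17) (kg xg8 yg39 zg8) (kg xg16 yg11 zg3) (kg xg16 yg11 zg5) (kg xg15 yg53 zg25) (kg xg16 yg11 zg9) (kg xg11 yg52 zg15) (kg xg15 yg47 zg35) (kg xg16 yg11 zg14) (kg xg4 yg20 zg50) (kg xg10 yg15 zg59) (kg xg16 yg11 zg20) (kg xg15 yg30 zg3)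 (kg xg16 yg11 zg26) (kg xg4 yg20 zg26) (kg xg16 yg11 zg27) (kg xg16 yg11 zg37) (kg xg16 yg11 zg31) (kg xg16 yg11 zg42) (kg xg11 yg2 zg40) (kg xg14 yg39 zg16) (kg xg11 yg3 zg23) (kg xg5 yg12 zg50) (kg xg4 yg20 zg31) (kg xg5 yg12 zg48) (kg xg16 yg11 zg48) (kg xg16 yg11 zg51) (kg xg4 yg20 zg35) (kg xg8 yg5 zg6) (kg xg16 yg11 zg52) (kg xg10 yg16 zg7) (kg xg16 yg11 zg57) (kg xg13 yg47 zg32) (kg xg4 yg20 zg39)) (@D3.rec (fun _ => Pt) (kg xg16 yg12 zg2) (kg xg16 yg12 zg6) (kg xg16 yg11 zg58) (kg xg16 yg12 zg9) (kg xg16 yg12 zg12) (kg xg16 yg12 zg15) (kg xg16 yg12 zg18) (kg xg8 yg38 zg29) (kg xg4 yg20 zg44) (kg xg8 yg38 zg28) (kg xg16 yg12 zg24) (kg xg16 yg12 zg26) (kg xg8 yg39 zg35) (kg xg4 yg20 zg47) (kg xg8 yg39 zg34) (kg xg8 yg7 zg43) (kg xg4 yg20 zg48) (kg xg8 yg7 zg41)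 (kg xg16 yg12 zg31) (kg xg4 yg20 zg49) (kg xg16 yg12 zg32) (kg xg16 yg12 zg42) (kg xg16 yg12 zg37) (kg xg16 yg12 zg46) (kg xg9 yg44 zg31) (kg xg4 yg20 zg52) (kg xg16 yg12 zg52) (kg xg8 yg13 zg23) (kg xg4 yg55 zg2) (kg xg11 yg54 zg26) (kg xg5 yg31 zg18) (kg xg16 yg4 zg2) (kg xg5 yg35 zg19) (kg xg8 yg39 zg14) (kg xg4 yg20 zg57) (kg xg8 yg39 zg13) (kg xg16 yg13 zg4) (kg xg4 yg20 zg58) (kg xg16 yg13 zg5) (kg xg16 yg13 zg14) (kg xg16 yg13 zg10) (kg xg16 yg13 zg19) (kg xg16 yg10 zg20) (kg xg5 yg23 zg23) (kg xg4 yg20 zg61) (kg xg12 yg55 zg41) (kg xg8 yg11 zg12) (kg xg7 yg58 zg2) (kg xg10 yg32 zg28) (kg xg16 yg13 zg32) (kg xg16 yg13 zg34) (kg xg4 yg27 zg46) (kg xg15 yg35 zg2) (kg xg12 yg17 zg53) (kg xg8 yg24 zg0) (kg xg8 yg24 zg39) (kg xg4 yg21 zg7) (kg xg10 yg26 zg49) (kg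 xg15 yg33 zg17) (kg xg16 yg6 zg50) (kg xg8 yg37 zg12) (kg xg9 yg38 zg50)) (@D3.rec (fun _ => Pt) (kg xg4 yg21 zg12) (kg xg15 yg33 zg45) (kg xg16 yg13 zg51) (kg xg8 yg24 zg27) (kg xg12 yg20 zg10) (kg xg16 yg13 zg57) (kg xg4 yg21 zg14) (kg xg16 yg13 zg58) (kg xg16 yg14 zg7) (kg xg16 yg14 zg1) (kg xg4 yg28 zg36) (kg xg16 yg14 zg13) (kg xg15 yg47 zg45) (kg xg8 yg21 zg11) (kg xg16 yg14 zg18) (kg xg4 yg50 zg59) (kg xg16 yg9 zg40) (kg xg9 yg34 zg54) (kg xg16 yg14 zg25) (kg xg4 yg21 zg30) (kg xg16 yg14 zg26) (kg xg9 yg34 zg16) (kg xg12 yg30 zg45) (kg xg14 yg56 zg59) (kg xg12 yg20 zg17) (kg xg16 yg14 zg33) (kg xg4 yg21 zg25) (kg xg16 yg14 zg34) (kg xg16 yg14 zg41) (kg xg9 yg37 zg19) (kg xg9 yg33 zg49) (kg xg16 yg14 zg48) (kg xg9 yg36 zg27) (kg xg14 yg56 zg42) (kg xg9 yg33 zg50)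 (kg xg16 yg14 zg55) (kg xg4 yg53 zg7) (kg xg9 yg34 zg52) (kg xg14 yg57 zg19) (kg xg4 yg21 zg32) (kg xg14 yg57 zg18) (kg xg16 yg15 zg8) (kg xg16 yg15 zg12) (kg xg9 yg54 zg13) (kg xg4 yg21 zg34) (kg xg12 yg30 zg46) (kg xg8 yg25 zg3) (kg xg14 yg58 zg19) (kg xg5 yg1 zg2) (kg xg4 yg22 zg23) (kg xg10 yg19 zg55) (kg xg8 yg42 zg28) (kg xg12 yg43 zg37) (kg xg12 yg25 zg58) (kg xg8 yg12 zg60) (kg xg8 yg25 zg41) (kg xg8 yg30 zg52) (kg xg14 yg57 zg10) (kg xg4 yg21 zg41) (kg xg14 yg57 zg9) (kg xg16 yg15 zg41) (kg xg16 yg15 zg45)) (@D3.rec (fun _ => Pt) (kg xg16 yg15 zg49) (kg xg14 yg57 zg22) (kg xg16 yg15 zg56) (kg xg8 yg43 zg21) (kg xg9 yg44 zg57) (kg xg8 yg6 zg53) (kg xg10 yg37 zg33) (kg xg4 yg22 zg43) (kg xg9 yg38 zg10) (kg xg4 yg21 zg47) (kg xg9 yg38 zg9) (kg xg14 yg4 zg38) (kg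 xg16 yg16 zg13) (kg xg16 yg16 zg17) (kg xg9 yg38 zg7) (kg xg4 yg21 zg49) (kg xg15 yg48 zg60) (kg xg9 yg37 zg48) (kg xg14 yg57 zg39) (kg xg10 yg39 zg49) (kg xg4 yg22 zg2) (kg xg16 yg12 zg29) (kg xg16 yg13 zg2) (kg xg4 yg21 zg52) (kg xg4 yg31 zg27) (kg xg5 yg23 zg32) (kg xg16 yg6 zg47) (kg xg8 yg36 zg5) (kg xg9 yg39 zg0) (kg xg8 yg31 zg34) (kg xg9 yg38 zg1) (kg xg4 yg21 zg56) (kg xg9 yg38 zg0) (kg xg16 yg16 zg47) (kg xg16 yg16 zg50) (kg xg16 yg16 zg53) (kg xg9 yg38 zg15) (kg xg4 yg21 zg58) (kg xg15 yg14 zg56) (kg xg9 yg37 zg60) (kg xg14 yg57 zg47) (kg xg10 yg29 zg19) (kg xg14 yg58 zg8) (kg xg4 yg22 zg5) (kg xg8 yg5 zg43) (kg xg14 yg57 zg42) (kg xg4 yg22 zg0) (kg xg14 yg57 zg41) (kg xg16 yg17 zg13) (kg xg16 yg17 zg17) (kg xg16 yg17 zg19) (kg xg16 yg17 zg23) (kg xg14 yg57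 zg28) (kg xg14 yg57 zg36) (kg xg4 yg22 zg3) (kg xg14 yg57 zg35) (kg xg16 yg17 zg35) (kg xg16 yg17 zg39) (kg xg16 yg17 zg43) (kg xg15 yg11 zg7) (kg xg16 yg17 zg47) (kg xg14 yg57 zg33)) (@D3.rec (fun _ => Pt) (kg xg4 yg22 zg7) (kg xg4 yg22 zg10) (kg xg16 yg17 zg29) (kg xg16 yg17 zg55) (kg xg16 yg17 zg59) (kg xg16 yg18 zg1) (kg xg4 yg22 zg8) (kg xg16 yg18 zg3) (kg xg16 yg17 zg56) (kg xg15 yg19 zg6) (kg xg16 yg17 zg0) (kg xg14 yg59 zg9) (kg xg14 yg59 zg10) (kg xg4 yg22 zg9) (kg xg7 yg33 zg28) (kg xg16 yg18 zg20) (kg xg16 yg18 zg23) (kg xg16 yg17 zg7) (kg xg9 yg53 zg53) (kg xg16 yg17 zg28) (kg xg16 yg18 zg33) (kg xg14 yg58 zg2) (kg xg4 yg22 zg13) (kg xg14 yg58 zg1) (kg xg9 yg35 zg7) (kg xg4 yg22 zg14) (kg xg16 yg18 zg49) (kg xg4 yg52 zg3) (kg xg16 yg3 zg36) (kg xg14 yg57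 zg29) (kg xg8 yg1 zg40) (kg xg8 yg40 zg51) (kg xg15 yg17 zg52) (kg xg8 yg26 zg43) (kg xg16 yg18 zg59) (kg xg8 yg33 zg34) (kg xg15 yg15 zg4) (kg xg4 yg22 zg19) (kg xg8 yg36 zg29) (kg xg9 yg44 zg51) (kg xg4 yg22 zg22) (kg xg9 yg44 zg50) (kg xg16 yg19 zg12) (kg xg16 yg19 zg16) (kg xg14 yg57 zg15) (kg xg8 yg40 zg46) (kg xg4 yg51 zg47) (kg xg5 yg37 zg7) (kg xg4 yg22 zg26) (kg xg8 yg44 zg22) (kg xg16 yg19 zg20) (kg xg16 yg19 zg23) (kg xg5 yg46 zg45) (kg xg9 yg14 zg61) (kg xg5 yg42 zg41) (kg xg11 yg8 zg1) (kg xg9 yg44 zg58) (kg xg4 yg22 zg32) (kg xg16 yg19 zg33) (kg xg10 yg3 zg23) (kg xg10 yg2 zg52) (kg xg4 yg22 zg33)) (@D3.rec (fun _ => Pt) (kg xg5 yg56 zg22) (kg xg14 yg58 zg27) (kg xg4 yg22 zg34) (kg xg16 yg19 zg49) (kg xg14 yg58 zg25) (kg xg15 yg13 zg21) (kg xg5 yg0 zg33)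 (kg xg9 yg47 zg16) (kg xg16 yg19 zg19) (kg xg9 yg34 zg44) (kg xg13 yg58 zg24) (kg xg6 yg4 zg22) (kg xg15 yg42 zg20) (kg xg15 yg49 zg18) (kg xg9 yg34 zg45) (kg xg14 yg58 zg16) (kg xg4 yg22 zg42) (kg xg14 yg58 zg15) (kg xg16 yg20 zg5) (kg xg16 yg20 zg9) (kg xg9 yg34 zg26) (kg xg7 yg55 zg39) (kg xg7 yg7 zg40) (kg xg5 yg37 zg11) (kg xg7 yg56 zg18) (kg xg5 yg12 zg53) (kg xg13 yg30 zg6) (kg xg14 yg58 zg21) (kg xg4 yg22 zg49) (kg xg16 yg20 zg23) (kg xg7 yg48 zg2) (kg xg9 yg45 zg3) (kg xg4 yg22 zg50) (kg xg9 yg45 zg2) (kg xg4 yg37 zg5) (kg xg5 yg42 zg43) (kg xg5 yg42 zg34) (kg xg4 yg22 zg54) (kg xg11 yg23 zg12) (kg xg5 yg16 zg27) (kg xg4 yg32 zg57) (kg xg5 yg13 zg11) (kg xg15 yg4 zg0) (kg xg16 yg20 zg44) (kg xg15 yg8 zg45) (kg xg14 yg58 zg32) (kg xg4 yg22 zg58) (kg xg16 yg20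 zg57) (kg xg14 yg58 zg31) (kg xg5 yg46 zg46) (kg xg6 yg14 zg27) (kg xg5 yg46 zg39) (kg xg5 yg46 zg36) (kg xg4 yg27 zg4) (kg xg13 yg30 zg9) (kg xg4 yg23 zg4) (kg xg16 yg21 zg5) (kg xg9 yg45 zg9) (kg xg4 yg23 zg5) (kg xg9 yg45 zg8) (kg xg13 yg27 zg51) (kg xg16 yg21 zg12)) (@D3.rec (fun _ => Pt) (kg xg14 yg58 zg37) (kg xg4 yg23 zg9) (kg xg16 yg21 zg19) (kg xg14 yg58 zg36) (kg xg6 yg14 zg1) (kg xg14 yg58 zg59) (kg xg13 yg27 zg55) (kg xg4 yg23 zg36) (kg xg4 yg26 zg56) (kg xg11 yg13 zg12) (kg xg4 yg23 zg14) (kg xg10 yg41 zg34) (kg xg14 yg58 zg40) (kg xg4 yg23 zg15) (kg xg14 yg58 zg39) (kg xg4 yg23 zg29) (kg xg4 yg32 zg8) (kg xg4 yg23 zg18) (kg xg16 yg21 zg28) (kg xg4 yg23 zg24) (kg xg11 yg7 zg17) (kg xg4 yg57 zg4) (kg xg10 yg39 zg37) (kg xg11 yg13 zg29) (kg xg5 yg42 zg61)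 (kg xg11 yg23 zg13) (kg xg5 yg6 zg43) (kg xg5 yg40 zg26) (kg xg5 yg7 zg34) (kg xg16 yg21 zg32) (kg xg4 yg23 zg26) (kg xg4 yg23 zg32) (kg xg4 yg23 zg27) (kg xg16 yg21 zg51) (kg xg8 yg52 zg28) (kg xg16 yg21 zg24) (kg xg8 yg57 zg39) (kg xg5 yg20 zg2) (kg xg5 yg42 zg27) (kg xg10 yg29 zg14) (kg xg16 yg22 zg2) (kg xg16 yg21 zg35) (kg xg4 yg23 zg30) (kg xg10 yg8 zg35) (kg xg5 yg24 zg58) (kg xg15 yg50 zg51) (kg xg16 yg21 zg52) (kg xg10 yg29 zg10) (kg xg5 yg20 zg13) (kg xg16 yg22 zg17) (kg xg4 yg23 zg33) (kg xg16 yg22 zg21) (kg xg9 yg2 zg35) (kg xg11 yg12 zg57) (kg xg16 yg22 zg27) (kg xg14 yg59 zg2) (kg xg4 yg23 zg35) (kg xg16 yg22 zg35) (kg xg14 yg59 zg0) (kg xg13 yg30 zg37) (kg xg16 yg22 zg41) (kg xg7 yg53 zg54)) (@D3.rec (fun _ => Pt) (kg xg14 yg59 zg7) (kg xg4 yg23 zg37)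 (kg xg14 yg59 zg6) (kg xg14 yg57 zg57) (kg xg4 yg23 zg38) (kg xg14 yg57 zg59) (kg xg15 yg14 zg40) (kg xg14 yg59 zg15) (kg xg4 yg23 zg39) (kg xg16 yg23 zg0) (kg xg14 yg59 zg13) (kg xg16 yg23 zg4) (kg xg15 yg5 zg58) (kg xg16 yg23 zg12) (kg xg16 yg22 zg51) (kg xg16 yg21 zg23) (kg xg8 yg1 zg60) (kg xg11 yg59 zg33) (kg xg5 yg20 zg3) (kg xg14 yg59 zg24) (kg xg14 yg59 zg22) (kg xg4 yg23 zg43) (kg xg16 yg23 zg28) (kg xg12 yg5 zg17) (kg xg9 yg14 zg47) (kg xg4 yg24 zg8) (kg xg6 yg14 zg10) (kg xg16 yg23 zg33) (kg xg8 yg1 zg50) (kg xg6 yg13 zg60) (kg xg4 yg23 zg50) (kg xg16 yg23 zg40) (kg xg6 yg13 zg58) (kg xg11 yg23 zg30) (kg xg16 yg23 zg44) (kg xg6 yg14 zg14) (kg xg4 yg23 zg53) (kg xg6 yg14 zg13) (kg xg6 yg24 zg36) (kg xg8 yg3 zg46) (kg xg5 yg55 zg39) (kg xg4 yg24 zg23) (kg xg8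 yg49 zg52) (kg xg16 yg23 zg54) (kg xg11 yg36 zg18) (kg xg8 yg1 zg21) (kg xg6 yg24 zg37) (kg xg4 yg23 zg61) (kg xg9 yg49 zg11) (kg xg16 yg23 zg61) (kg xg13 yg38 zg55) (kg xg4 yg24 zg0) (kg xg10 yg22 zg11) (kg xg8 yg51 zg56) (kg xg15 yg8 zg8) (kg xg7 yg48 zg39) (kg xg8 yg1 zg26) (kg xg6 yg25 zg0) (kg xg16 yg24 zg7) (kg xg16 yg24 zg10) (kg xg7 yg5 zg41) (kg xg4 yg24 zg6)) (@D3.rec (fun _ => Pt) (kg xg7 yg5 zg40) (kg xg5 yg0 zg32) (kg xg9 yg9 zg41) (kg xg9 yg14 zg59) (kg xg14 yg59 zg59) (kg xg16 yg24 zg19) (kg xg9 yg9 zg42) (kg xg16 yg24 zg17) (kg xg16 yg23 zg37) (kg xg4 yg24 zg16) (kg xg7 yg7 zg10) (kg xg11 yg41 zg19) (kg xg16 yg24 zg30) (kg xg5 yg55 zg61) (kg xg13 yg31 zg7) (kg xg15 yg8 zg29) (kg xg5 yg46 zg47) (kg xg13 yg20 zg52) (kg xg8 yg51 zg4) (kg xg11 yg41 zg17)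 (kg xg16 yg24 zg41) (kg xg13 yg39 zg9) (kg xg4 yg24 zg22) (kg xg16 yg24 zg53) (kg xg16 yg24 zg31) (kg xg7 yg6 zg9) (kg xg12 yg6 zg18) (kg xg6 yg24 zg55) (kg xg16 yg24 zg59) (kg xg8 yg51 zg20) (kg xg11 yg27 zg45) (kg xg16 yg24 zg60) (kg xg15 yg8 zg38) (kg xg4 yg24 zg26) (kg xg16 yg25 zg8) (kg xg6 yg24 zg50) (kg xg16 yg25 zg12) (kg xg16 yg25 zg14) (kg xg16 yg25 zg16) (kg xg4 yg24 zg53) (kg xg4 yg37 zg28) (kg xg16 yg25 zg20) (kg xg5 yg56 zg13) (kg xg16 yg25 zg24) (kg xg9 yg47 zg50) (kg xg16 yg25 zg28) (kg xg16 yg25 zg26) (kg xg4 yg24 zg37) (kg xg16 yg25 zg25) (kg xg10 yg52 zg45) (kg xg15 yg6 zg37) (kg xg12 yg6 zg32) (kg xg8 yg1 zg14) (kg xg16 yg25 zg40) (kg xg16 yg25 zg51) (kg xg4 yg24 zg43) (kg xg15 yg8 zg49) (kg xg5 yg59 zg49) (kg xg13 yg26 zg57) (kg xg4 yg24 zg45) (kg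 xg16 yg26 zg1) (kg xg4 yg24 zg51)) (@D3.rec (fun _ => Pt) (kg xg16 yg26 zg4) (kg xg9 yg25 zg36) (kg xg12 yg6 zg53) (kg xg11 yg41 zg14) (kg xg4 yg24 zg48) (kg xg16 yg26 zg13) (kg xg16 yg25 zg61) (kg xg4 yg24 zg49) (kg xg16 yg26 zg22) (kg xg16 yg25 zg59) (kg xg13 yg31 zg18) (kg xg13 yg31 zg22) (kg xg16 yg26 zg3) (kg xg4 yg24 zg52) (kg xg16 yg26 zg34) (kg xg7 yg39 zg18) (kg xg16 yg26 zg39) (kg xg16 yg26 zg43) (kg xg12 yg6 zg58) (kg xg8 yg56 zg20) (kg xg16 yg26 zg44) (kg xg15 yg7 zg41) (kg xg9 yg47 zg2) (kg xg4 yg24 zg56) (kg xg16 yg26 zg57) (kg xg9 yg47 zg0) (kg xg11 yg32 zg37) (kg xg15 yg54 zg12) (kg xg15 yg8 zg22) (kg xg9 yg44 zg38) (kg xg16 yg27 zg8) (kg xg4 yg27 zg1) (kg xg8 yg48 zg48) (kg xg16 yg27 zg15) (kg xg15 yg4 zg50) (kg xg6 yg9 zg16) (kg xg16 yg27 zg21) (kg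 xg8 yg47 zg40) (kg xg4 yg25 zg1) (kg xg16 yg27 zg25) (kg xg8 yg47 zg38) (kg xg9 yg47 zg13) (kg xg16 yg27 zg32) (kg xg4 yg26 zg3) (kg xg16 yg27 zg35) (kg xg15 yg13 zg12) (kg xg16 yg27 zg38) (kg xg11 yg34 zg0) (kg xg14 yg58 zg28) (kg xg16 yg27 zg43) (kg xg14 yg59 zg57) (kg xg8 yg51 zg24) (kg xg11 yg23 zg19) (kg xg4 yg25 zg53) (kg xg16 yg27 zg48) (kg xg16 yg27 zg56) (kg xg14 yg59 zg54) (kg xg4 yg25 zg9) (kg xg16 yg12 zg19) (kg xg12 yg7 zg59) (kg xg16 yg28 zg3) (kg xg16 yg28 zg6)) (@D3.rec (fun _ => Pt) (kg xg7 yg8 zg14) (kg xg7 yg14 zg28) (kg xg13 yg38 zg30) (kg xg15 yg0 zg21) (kg xg11 yg17 zg50) (kg xg15 yg7 zg61) (kg xg7 yg57 zg16) (kg xg16 yg24 zg33) (kg xg8 yg50 zg51) (kg xg12 yg5 zg11) (kg xg11 yg37 zg29) (kg xg13 yg27 zg50) (kg xg4 yg25 zg29) (kg xg4 yg25 zg21) (kg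 xg9 yg9 zg25) (kg xg16 yg28 zg22) (kg xg11 yg28 zg14) (kg xg16 yg28 zg23) (kg xg12 yg21 zg53) (kg xg4 yg25 zg24) (kg xg12 yg1 zg56) (kg xg11 yg10 zg58) (kg xg16 yg28 zg19) (kg xg4 yg25 zg25) (kg xg16 yg28 zg33) (kg xg16 yg28 zg18) (kg xg7 yg8 zg23) (kg xg15 yg4 zg46) (kg xg7 yg57 zg9) (kg xg7 yg8 zg26) (kg xg16 yg28 zg42) (kg xg5 yg38 zg17) (kg xg16 yg28 zg47) (kg xg12 yg21 zg57) (kg xg16 yg28 zg48) (kg xg14 yg59 zg18) (kg xg11 yg59 zg37) (kg xg4 yg25 zg32) (kg xg16 yg28 zg57) (kg xg11 yg59 zg35) (kg xg16 yg27 zg34) (kg xg16 yg29 zg0) (kg xg9 yg14 zg10) (kg xg13 yg28 zg24) (kg xg8 yg48 zg47) (kg xg4 yg25 zg36) (kg xg16 yg29 zg6) (kg xg8 yg48 zg45) (kg xg8 yg47 zg35) (kg xg16 yg29 zg9) (kg xg4 yg26 zg17) (kg xg16 yg29 zg12) (kg xg16 yg22 zg22) (kg xg4 yg35 zg33) (kg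 xg9 yg9 zg43) (kg xg5 yg38 zg15) (kg xg5 yg5 zg14) (kg xg4 yg26 zg10) (kg xg4 yg25 zg44) (kg xg16 yg29 zg19) (kg xg4 yg25 zg45) (kg xg16 yg29 zg23)) (@D3.rec (fun _ => Pt) (kg xg13 yg46 zg29) (kg xg16 yg29 zg26) (kg xg4 yg58 zg27) (kg xg16 yg29 zg27) (kg xg4 yg58 zg25) (kg xg4 yg37 zg26) (kg xg16 yg29 zg29) (kg xg4 yg26 zg1) (kg xg4 yg25 zg52) (kg xg5 yg38 zg4) (kg xg11 yg11 zg41) (kg xg11 yg13 zg9) (kg xg10 yg1 zg30) (kg xg10 yg16 zg14) (kg xg16 yg29 zg41) (kg xg9 yg17 zg46) (kg xg16 yg28 zg60) (kg xg6 yg24 zg33) (kg xg16 yg29 zg49) (kg xg16 yg29 zg53) (kg xg16 yg29 zg56) (kg xg4 yg26 zg0) (kg xg11 yg8 zg8) (kg xg4 yg34 zg58) (kg xg5 yg40 zg12) (kg xg11 yg28 zg45) (kg xg5 yg38 zg19) (kg xg4 yg26 zg2) (kg xg16 yg28 zg52) (kg xg11 yg59 zg31) (kg xg16 yg27 zg36) (kg xg4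 yg26 zg4) (kg xg16 yg30 zg10) (kg xg11 yg8 zg24) (kg xg4 yg35 zg15) (kg xg9 yg9 zg32) (kg xg11 yg11 zg45) (kg xg16 yg30 zg18) (kg xg4 yg26 zg8) (kg xg12 yg10 zg40) (kg xg16 yg30 zg20) (kg xg4 yg26 zg24) (kg xg4 yg26 zg23) (kg xg11 yg24 zg11) (kg xg13 yg47 zg13) (kg xg4 yg26 zg14) (kg xg4 yg26 zg11) (kg xg5 yg37 zg59) (kg xg12 yg7 zg61) (kg xg14 yg12 zg35) (kg xg12 yg8 zg0) (kg xg4 yg35 zg18) (kg xg8 yg45 zg44) (kg xg16 yg30 zg34) (kg xg11 yg12 zg14) (kg xg11 yg29 zg20) (kg xg9 yg51 zg1) (kg xg9 yg51 zg2) (kg xg4 yg26 zg15) (kg xg9 yg19 zg35) (kg xg9 yg18 zg2) (kg xg11 yg7 zg8)) (@D3.rec (fun _ => Pt) (kg xg11 yg47 zg15) (kg xg7 yg57 zg13) (kg xg5 yg49 zg24) (kg xg11 yg57 zg38) (kg xg16 yg30 zg42) (kg xg16 yg30 zg22) (kg xg4 yg26 zg20) (kg xg16 yg30 zg47) (kg xg11 yg16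 zg39) (kg xg16 yg30 zg51) (kg xg16 yg30 zg53) (kg xg16 yg30 zg56) (kg xg16 yg30 zg40) (kg xg5 yg55 zg33) (kg xg16 yg30 zg57) (kg xg16 yg29 zg13) (kg xg16 yg29 zg15) (kg xg4 yg26 zg25) (kg xg16 yg31 zg10) (kg xg15 yg7 zg59) (kg xg16 yg29 zg54) (kg xg4 yg35 zg35) (kg xg5 yg57 zg0) (kg xg4 yg26 zg27) (kg xg16 yg31 zg21) (kg xg11 yg37 zg10) (kg xg16 yg31 zg26) (kg xg12 yg6 zg16) (kg xg4 yg26 zg29) (kg xg9 yg25 zg31) (kg xg16 yg31 zg29) (kg xg13 yg47 zg16) (kg xg4 yg26 zg30) (kg xg16 yg31 zg33) (kg xg16 yg31 zg27) (kg xg16 yg31 zg42) (kg xg8 yg50 zg56) (kg xg8 yg50 zg44) (kg xg16 yg31 zg43) (kg xg15 yg0 zg29) (kg xg9 yg19 zg40) (kg xg4 yg26 zg33) (kg xg12 yg22 zg44) (kg xg9 yg19 zg39) (kg xg11 yg13 zg53) (kg xg12 yg49 zg27) (kg xg16 yg31 zg59) (kg xg11 yg14 zg11) (kg xg4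 yg26 zg38) (kg xg16 yg32 zg5) (kg xg16 yg31 zg60) (kg xg16 yg32 zg9) (kg xg16 yg27 zg57) (kg xg6 yg14 zg54) (kg xg5 yg54 zg5) (kg xg16 yg32 zg13) (kg xg11 yg13 zg44) (kg xg8 yg51 zg26) (kg xg4 yg26 zg41) (kg xg16 yg32 zg31) (kg xg8 yg51 zg34) (kg xg11 yg34 zg2)) (@D3.rec (fun _ => Pt) (kg xg11 yg34 zg3) (kg xg16 yg32 zg41) (kg xg16 yg32 zg45) (kg xg16 yg32 zg49) (kg xg16 yg32 zg52) (kg xg16 yg25 zg52) (kg xg8 yg45 zg59) (kg xg4 yg26 zg49) (kg xg4 yg26 zg45) (kg xg16 yg33 zg4) (kg xg16 yg21 zg17) (kg xg4 yg26 zg46) (kg xg15 yg0 zg28) (kg xg4 yg26 zg47) (kg xg12 yg6 zg19) (kg xg12 yg38 zg0) (kg xg13 yg30 zg43) (kg xg12 yg47 zg37) (kg xg8 yg45 zg43) (kg xg16 yg32 zg56) (kg xg12 yg22 zg35) (kg xg16 yg33 zg5) (kg xg11 yg6 zg16) (kg xg12 yg7 zg58) (kg xg8 yg47 zg54) (kg xg11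 yg11 zg43) (kg xg8 yg50 zg58) (kg xg11 yg33 zg60) (kg xg16 yg33 zg35) (kg xg12 yg6 zg24) (kg xg12 yg6 zg17) (kg xg16 yg33 zg36) (kg xg16 yg28 zg53) (kg xg8 yg50 zg60) (kg xg4 yg26 zg54) (kg xg16 yg33 zg49) (kg xg4 yg26 zg57) (kg xg4 yg26 zg55) (kg xg16 yg24 zg15) (kg xg16 yg33 zg58) (kg xg7 yg14 zg38) (kg xg16 yg33 zg55) (kg xg16 yg34 zg3) (kg xg11 yg13 zg25) (kg xg12 yg6 zg7) (kg xg16 yg34 zg9) (kg xg8 yg2 zg42) (kg xg16 yg34 zg14) (kg xg8 yg51 zg51) (kg xg4 yg26 zg61) (kg xg16 yg34 zg21) (kg xg8 yg51 zg49) (kg xg16 yg26 zg32) (kg xg16 yg33 zg53) (kg xg16 yg34 zg30) (kg xg6 yg14 zg5) (kg xg16 yg34 zg33) (kg xg16 yg34 zg34) (kg xg16 yg33 zg54) (kg xg16 yg26 zg51) (kg xg5 yg2 zg53) (kg xg5 yg2 zg51)) (@D3.rec (fun _ => Pt) (kg xg10 yg16 zg45) (kg xg15 yg14 zg8) (kg xg16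 yg34 zg45) (kg xg5 yg9 zg41) (kg xg10 yg26 zg22) (kg xg16 yg34 zg48) (kg xg10 yg16 zg43) (kg xg16 yg34 zg52) (kg xg5 yg5 zg28) (kg xg16 yg34 zg56) (kg xg10 yg1 zg52) (kg xg16 yg34 zg61) (kg xg5 yg16 zg22) (kg xg4 yg27 zg15) (kg xg5 yg16 zg21) (kg xg8 yg45 zg14) (kg xg10 yg1 zg46) (kg xg16 yg35 zg2) (kg xg12 yg46 zg44) (kg xg10 yg1 zg40) (kg xg8 yg44 zg40) (kg xg16 yg35 zg18) (kg xg4 yg27 zg18) (kg xg16 yg35 zg19) (kg xg11 yg23 zg8) (kg xg16 yg35 zg22) (kg xg8 yg52 zg53) (kg xg16 yg35 zg26) (kg xg8 yg44 zg48) (kg xg16 yg35 zg30) (kg xg5 yg13 zg14) (kg xg5 yg12 zg0) (kg xg16 yg35 zg33) (kg xg10 yg16 zg36) (kg xg16 yg35 zg39) (kg xg5 yg18 zg35) (kg xg4 yg27 zg25) (kg xg5 yg18 zg34) (kg xg16 yg35 zg43) (kg xg10 yg16 zg26) (kg xg10 yg22 zg16) (kg xg16 yg23 zg15) (kg xg10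 yg16 zg28) (kg xg16 yg21 zg50) (kg xg16 yg35 zg53) (kg xg4 yg27 zg28) (kg xg16 yg35 zg54) (kg xg16 yg36 zg1) (kg xg16 yg35 zg57) (kg xg8 yg11 zg47) (kg xg4 yg27 zg29) (kg xg8 yg11 zg46) (kg xg16 yg36 zg9) (kg xg6 yg25 zg13) (kg xg16 yg36 zg13) (kg xg16 yg36 zg17) (kg xg4 yg28 zg3) (kg xg4 yg28 zg2) (kg xg16 yg36 zg21) (kg xg8 yg53 zg31) (kg xg16 yg36 zg27) (kg xg4 yg28 zg21)) (@D3.rec (fun _ => Pt) (kg xg4 yg28 zg19) (kg xg16 yg36 zg32) (kg xg8 yg53 zg28) (kg xg5 yg31 zg61) (kg xg16 yg36 zg37) (kg xg8 yg53 zg22) (kg xg16 yg36 zg31) (kg xg16 yg36 zg44) (kg xg4 yg27 zg38) (kg xg16 yg36 zg45) (kg xg16 yg36 zg56) (kg xg16 yg36 zg50) (kg xg4 yg28 zg39) (kg xg4 yg27 zg39) (kg xg16 yg37 zg3) (kg xg11 yg54 zg24) (kg xg16 yg37 zg7) (kg xg9 yg0 zg2) (kg xg8 yg20 zg29) (kg xg4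 yg27 zg43) (kg xg5 yg28 zg7) (kg xg16 yg37 zg13) (kg xg8 yg53 zg2) (kg xg16 yg37 zg19) (kg xg5 yg28 zg25) (kg xg4 yg27 zg47) (kg xg5 yg28 zg24) (kg xg16 yg37 zg25) (kg xg8 yg53 zg5) (kg xg16 yg37 zg31) (kg xg16 yg37 zg34) (kg xg8 yg8 zg12) (kg xg16 yg37 zg23) (kg xg16 yg37 zg42) (kg xg8 yg52 zg59) (kg xg11 yg52 zg17) (kg xg16 yg36 zg15) (kg xg4 yg27 zg52) (kg xg16 yg36 zg14) (kg xg16 yg37 zg59) (kg xg16 yg38 zg0) (kg xg4 yg27 zg61) (kg xg4 yg27 zg53) (kg xg16 yg38 zg8) (kg xg15 yg17 zg44) (kg xg4 yg27 zg54) (kg xg16 yg38 zg17) (kg xg11 yg4 zg14) (kg xg16 yg38 zg21) (kg xg16 yg13 zg37) (kg xg8 yg55 zg38) (kg xg5 yg21 zg59) (kg xg16 yg38 zg28) (kg xg5 yg21 zg58) (kg xg4 yg27 zg59) (kg xg16 yg38 zg34) (kg xg10 yg33 zg21) (kg xg15 yg17 zg37) (kg xg4 yg27 zg60) (kg xg15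 yg17 zg36) (kg xg16 yg38 zg48) (kg xg16 yg38 zg52)) (@D3.rec (fun _ => Pt) (kg xg16 yg38 zg56) (kg xg16 yg36 zg19) (kg xg4 yg28 zg0) (kg xg16 yg39 zg3) (kg xg11 yg52 zg51) (kg xg16 yg39 zg7) (kg xg10 yg29 zg36) (kg xg15 yg36 zg26) (kg xg16 yg39 zg11) (kg xg9 yg43 zg35) (kg xg15 yg9 zg10) (kg xg4 yg28 zg5) (kg xg5 yg17 zg40) (kg xg5 yg31 zg22) (kg xg16 yg39 zg20) (kg xg11 yg54 zg29) (kg xg16 yg39 zg25) (kg xg16 yg36 zg23) (kg xg4 yg28 zg8) (kg xg16 yg36 zg22) (kg xg16 yg39 zg35) (kg xg16 yg39 zg37) (kg xg4 yg28 zg16) (kg xg4 yg28 zg9) (kg xg16 yg39 zg28) (kg xg15 yg19 zg18) (kg xg4 yg28 zg10) (kg xg16 yg39 zg51) (kg xg15 yg19 zg16) (kg xg16 yg36 zg36) (kg xg10 yg29 zg53) (kg xg4 yg28 zg25) (kg xg16 yg35 zg5) (kg xg10 yg22 zg17) (kg xg10 yg7 zg55) (kg xg15 yg19 zg11)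 (kg xg4 yg28 zg15) (kg xg15 yg19 zg10) (kg xg16 yg39 zg48) (kg xg16 yg40 zg10) (kg xg16 yg40 zg14) (kg xg16 yg36 zg30) (kg xg4 yg28 zg17) (kg xg14 yg30 zg45) (kg xg16 yg36 zg28) (kg xg16 yg36 zg43) (kg xg11 yg54 zg28) (kg xg4 yg28 zg29) (kg xg4 yg28 zg20) (kg xg16 yg36 zg39) (kg xg4 yg28 zg22) (kg xg16 yg36 zg38) (kg xg16 yg40 zg37) (kg xg16 yg40 zg41) (kg xg16 yg40 zg44) (kg xg4 yg28 zg28) (kg xg15 yg19 zg19) (kg xg16 yg36 zg34) (kg xg4 yg28 zg26) (kg xg16 yg36 zg33) (kg xg16 yg40 zg55) (kg xg16 yg40 zg42)) (@D3.rec (fun _ => Pt) (kg xg16 yg40 zg60) (kg xg16 yg41 zg1) (kg xg16 yg40 zg61) (kg xg16 yg41 zg5) (kg xg5 yg32 zg53) (kg xg4 yg28 zg31) (kg xg4 yg28 zg34) (kg xg16 yg40 zg49) (kg xg16 yg41 zg18) (kg xg16 yg41 zg23) (kg xg16 yg41 zg25) (kg xg4 yg28 zg32) (kg xg16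 yg41 zg28) (kg xg5 yg31 zg36) (kg xg10 yg47 zg47) (kg xg16 yg40 zg26) (kg xg16 yg41 zg39) (kg xg16 yg41 zg8) (kg xg4 yg28 zg33) (kg xg16 yg41 zg48) (kg xg16 yg41 zg54) (kg xg16 yg41 zg40) (kg xg16 yg41 zg58) (kg xg10 yg3 zg31) (kg xg16 yg42 zg1) (kg xg16 yg40 zg48) (kg xg16 yg42 zg8) (kg xg16 yg42 zg11) (kg xg12 yg15 zg34) (kg xg16 yg37 zg5) (kg xg4 yg28 zg38) (kg xg16 yg37 zg4) (kg xg15 yg28 zg15) (kg xg11 yg52 zg38) (kg xg4 yg28 zg40) (kg xg16 yg42 zg33) (kg xg8 yg29 zg10) (kg xg11 yg53 zg16) (kg xg10 yg40 zg13) (kg xg15 yg19 zg20) (kg xg15 yg19 zg8) (kg xg8 yg53 zg50) (kg xg16 yg42 zg45) (kg xg8 yg6 zg15) (kg xg16 yg42 zg50) (kg xg5 yg29 zg52) (kg xg5 yg29 zg51) (kg xg16 yg42 zg54) (kg xg8 yg6 zg18) (kg xg10 yg24 zg11) (kg xg16 yg42 zg60) (kg xg16 yg42 zg53) (kg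 xg16 yg43 zg2) (kg xg5 yg26 zg11) (kg xg5 yg30 zg0) (kg xg4 yg28 zg49) (kg xg5 yg29 zg61) (kg xg16 yg43 zg12) (kg xg5 yg29 zg26) (kg xg4 yg28 zg50) (kg xg8 yg20 zg0) (kg xg7 yg38 zg59)) (@D3.rec (fun _ => Pt) (kg xg4 yg28 zg51) (kg xg16 yg43 zg20) (kg xg15 yg15 zg9) (kg xg15 yg35 zg1) (kg xg15 yg33 zg20) (kg xg8 yg59 zg48) (kg xg5 yg28 zg28) (kg xg4 yg28 zg55) (kg xg5 yg28 zg27) (kg xg16 yg43 zg33) (kg xg11 yg58 zg26) (kg xg11 yg5 zg22) (kg xg16 yg43 zg38) (kg xg16 yg43 zg43) (kg xg16 yg43 zg46) (kg xg16 yg43 zg39) (kg xg5 yg26 zg18) (kg xg5 yg30 zg32) (kg xg5 yg30 zg29) (kg xg4 yg28 zg60) (kg xg16 yg43 zg58) (kg xg16 yg43 zg60) (kg xg9 yg36 zg26) (kg xg16 yg44 zg0) (kg xg8 yg26 zg45) (kg xg15 yg56 zg2) (kg xg16 yg44 zg7) (kg xg9 yg42 zg25) (kg xg15 yg24 zg59) (kg xg16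 yg44 zg15) (kg xg8 yg29 zg13) (kg xg16 yg44 zg20) (kg xg15 yg37 zg27) (kg xg5 yg27 zg58) (kg xg4 yg29 zg9) (kg xg5 yg27 zg57) (kg xg16 yg44 zg33) (kg xg16 yg44 zg37) (kg xg4 yg47 zg18) (kg xg7 yg38 zg5) (kg xg4 yg29 zg11) (kg xg6 yg33 zg14) (kg xg10 yg25 zg9) (kg xg11 yg4 zg54) (kg xg16 yg44 zg46) (kg xg11 yg55 zg16) (kg xg16 yg44 zg52) (kg xg16 yg44 zg47) (kg xg11 yg4 zg57) (kg xg5 yg29 zg13) (kg xg11 yg32 zg21) (kg xg5 yg29 zg10) (kg xg4 yg29 zg18) (kg xg16 yg45 zg8) (kg xg16 yg43 zg55) (kg xg11 yg32 zg17) (kg xg4 yg29 zg19) (kg xg16 yg45 zg18) (kg xg5 yg57 zg5) (kg xg11 yg2 zg10) (kg xg9 yg4 zg35) (kg xg15 yg21 zg20)) (@D3.rec (fun _ => Pt) (kg xg15 yg16 zg3) (kg xg16 yg45 zg27) (kg xg5 yg32 zg19) (kg xg4 yg29 zg26) (kg xg5 yg32 zg18) (kg xg10 yg51 zg13) (kg xg11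 yg47 zg48) (kg xg16 yg45 zg38) (kg xg15 yg15 zg20) (kg xg4 yg29 zg28) (kg xg16 yg45 zg47) (kg xg15 yg15 zg18) (kg xg15 yg15 zg32) (kg xg15 yg36 zg9) (kg xg5 yg23 zg61) (kg xg10 yg23 zg25) (kg xg10 yg25 zg27) (kg xg10 yg22 zg22) (kg xg10 yg32 zg8) (kg xg7 yg58 zg58) (kg xg8 yg59 zg10) (kg xg11 yg58 zg14) (kg xg5 yg25 zg14) (kg xg16 yg45 zg60) (kg xg5 yg32 zg42) (kg xg16 yg46 zg6) (kg xg16 yg46 zg9) (kg xg12 yg31 zg51) (kg xg16 yg46 zg8) (kg xg4 yg29 zg37) (kg xg16 yg46 zg17) (kg xg12 yg31 zg48) (kg xg7 yg58 zg57) (kg xg10 yg22 zg23) (kg xg5 yg31 zg60) (kg xg4 yg29 zg41) (kg xg9 yg44 zg0) (kg xg5 yg31 zg59) (kg xg5 yg25 zg0) (kg xg8 yg44 zg39) (kg xg10 yg12 zg48) (kg xg4 yg30 zg24) (kg xg9 yg58 zg9) (kg xg10 yg12 zg19) (kg xg9 yg40 zg52) (kg xg4 yg29 zg55) (kg xg4 yg29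 zg49) (kg xg4 yg29 zg54) (kg xg5 yg31 zg8) (kg xg4 yg29 zg50) (kg xg5 yg31 zg7) (kg xg10 yg47 zg2) (kg xg16 yg46 zg36) (kg xg16 yg46 zg39) (kg xg15 yg52 zg3) (kg xg4 yg29 zg52) (kg xg16 yg46 zg45) (kg xg15 yg51 zg54) (kg xg16 yg46 zg49) (kg xg15 yg56 zg4) (kg xg8 yg26 zg59) (kg xg9 yg43 zg60)) (@D3.rec (fun _ => Pt) (kg xg10 yg59 zg29) (kg xg16 yg41 zg22) (kg xg11 yg0 zg26) (kg xg5 yg35 zg1) (kg xg5 yg31 zg41) (kg xg12 yg30 zg6) (kg xg16 yg47 zg1) (kg xg12 yg30 zg3) (kg xg4 yg29 zg60) (kg xg5 yg52 zg25) (kg xg11 yg36 zg61) (kg xg5 yg34 zg56) (kg xg5 yg20 zg61) (kg xg5 yg34 zg7) (kg xg4 yg30 zg26) (kg xg9 yg44 zg15) (kg xg5 yg34 zg39) (kg xg16 yg47 zg15) (kg xg5 yg33 zg51) (kg xg15 yg54 zg47) (kg xg4 yg30 zg36) (kg xg5 yg33 zg39) (kg xg11 yg17 zg60) (kg xg16 yg47 zg23)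 (kg xg16 yg47 zg26) (kg xg4 yg30 zg8) (kg xg16 yg47 zg31) (kg xg11 yg18 zg49) (kg xg5 yg33 zg20) (kg xg4 yg30 zg9) (kg xg5 yg33 zg19) (kg xg5 yg33 zg24) (kg xg4 yg30 zg10) (kg xg10 yg55 zg34) (kg xg5 yg33 zg22) (kg xg5 yg33 zg46) (kg xg16 yg47 zg38) (kg xg5 yg34 zg37) (kg xg16 yg47 zg39) (kg xg4 yg30 zg37) (kg xg5 yg34 zg51) (kg xg5 yg33 zg3) (kg xg5 yg33 zg7) (kg xg6 yg45 zg6) (kg xg5 yg32 zg61) (kg xg4 yg30 zg15) (kg xg11 yg3 zg42) (kg xg16 yg47 zg55) (kg xg16 yg47 zg57) (kg xg4 yg37 zg53) (kg xg9 yg10 zg45) (kg xg4 yg30 zg17) (kg xg11 yg56 zg43) (kg xg16 yg45 zg31) (kg xg16 yg40 zg3) (kg xg5 yg33 zg14) (kg xg5 yg32 zg1) (kg xg4 yg55 zg44) (kg xg11 yg5 zg48) (kg xg4 yg30 zg27) (kg xg4 yg30 zg22) (kg xg16 yg39 zg46)) (@D3.rec (fun _ => Pt) (kg xg10 yg54 zg56) (kg xg4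 yg30 zg28) (kg xg16 yg48 zg13) (kg xg11 yg5 zg44) (kg xg10 yg48 zg1) (kg xg11 yg39 zg8) (kg xg12 yg54 zg19) (kg xg16 yg46 zg24) (kg xg12 yg55 zg47) (kg xg5 yg33 zg25) (kg xg8 yg57 zg23) (kg xg16 yg48 zg24) (kg xg16 yg48 zg27) (kg xg16 yg39 zg27) (kg xg16 yg48 zg8) (kg xg16 yg48 zg30) (kg xg16 yg48 zg14) (kg xg4 yg38 zg36) (kg xg4 yg30 zg29) (kg xg5 yg44 zg38) (kg xg9 yg11 zg22) (kg xg16 yg48 zg40) (kg xg11 yg28 zg17) (kg xg13 yg0 zg26) (kg xg5 yg32 zg60) (kg xg5 yg44 zg39) (kg xg4 yg30 zg33) (kg xg15 yg27 zg18) (kg xg16 yg48 zg49) (kg xg9 yg11 zg24) (kg xg11 yg56 zg24) (kg xg4 yg30 zg35) (kg xg11 yg49 zg39) (kg xg5 yg33 zg30) (kg xg16 yg48 zg57) (kg xg5 yg36 zg49) (kg xg16 yg48 zg59) (kg xg11 yg28 zg22) (kg xg16 yg47 zg43) (kg xg5 yg43 zg6) (kg xg6 yg42 zg37) (kg xg5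 yg32 zg4) (kg xg5 yg32 zg58) (kg xg11 yg32 zg53) (kg xg5 yg27 zg24) (kg xg4 yg30 zg44) (kg xg10 yg27 zg42) (kg xg11 yg55 zg21) (kg xg15 yg31 zg18) (kg xg15 yg15 zg24) (kg xg11 yg55 zg38) (kg xg5 yg31 zg57) (kg xg5 yg52 zg54) (kg xg5 yg31 zg5) (kg xg10 yg46 zg14) (kg xg5 yg31 zg35) (kg xg4 yg35 zg10) (kg xg10 yg15 zg37) (kg xg16 yg43 zg29) (kg xg16 yg49 zg19) (kg xg16 yg49 zg23) (kg xg16 yg49 zg25))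
def f_g_9 : D2 → D3 → Pt := @D2.rec (fun _ => D3 → Pt) (@D3.rec (fun _ => Pt) (kg xg15 yg54 zg34) (kg xg8 yg14 zg19) (kg xg15 yg41 zg58) (kg xg4 yg30 zg60) (kg xg4 yg54 zg31) (kg xg5 yg22 zg37) (kg xg9 yg43 zg24) (kg xg4 yg41 zg27) (kg xg4 yg31 zg41) (kg xg5 yg38 zg35) (kg xg4 yg57 zg33) (kg xg6 yg9 zg6) (kg xg10 yg48 zg59) (kg xg5 yg44 zg30) (kg xg6 yg9 zg3) (kg xg4 yg57 zg52) (kg xg5 yg39 zg61) (kg xg4 yg31 zg8) (kg xg6 yg23 zg46) (kg xg11 yg59 zg28) (kg xg4 yg31 zg9) (kg xg11 yg59 zg27) (kg xg5 yg10 zg26) (kg xg4 yg57 zg56) (kg xg4 yg57 zg32) (kg xg5 yg30 zg42) (kg xg10 yg6 zg49) (kg xg5 yg37 zg29) (kg xg5 yg0 zg34) (kg xg16 yg49 zg51) (kg xg9 yg51 zg40) (kg xg16 yg10 zg19) (kg xg16 yg49 zg56) (kg xg5 yg24 zg31) (kg xg8 yg38 zg49) (kg xg16 yg50 zg1) (kg xg16 yg50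 zg4) (kg xg9 yg51 zg44) (kg xg16 yg50 zg10) (kg xg4 yg31 zg22) (kg xg5 yg35 zg29) (kg xg16 yg50 zg16) (kg xg9 yg43 zg41) (kg xg8 yg38 zg38) (kg xg16 yg50 zg23) (kg xg7 yg58 zg44) (kg xg16 yg9 zg43) (kg xg5 yg35 zg46) (kg xg4 yg31 zg25) (kg xg5 yg35 zg45) (kg xg16 yg47 zg53) (kg xg16 yg50 zg37) (kg xg4 yg31 zg26) (kg xg16 yg50 zg41) (kg xg15 yg22 zg55) (kg xg16 yg50 zg45) (kg xg10 yg0 zg58) (kg xg10 yg37 zg31) (kg xg10 yg8 zg10) (kg xg8 yg26 zg41) (kg xg10 yg37 zg21) (kg xg12 yg10 zg7)) (@D3.rec (fun _ => Pt) (kg xg16 yg50 zg54) (kg xg11 yg57 zg24) (kg xg5 yg34 zg44) (kg xg16 yg50 zg55) (kg xg15 yg44 zg15) (kg xg16 yg51 zg3) (kg xg16 yg51 zg4) (kg xg4 yg31 zg34) (kg xg16 yg45 zg20) (kg xg11 yg57 zg23) (kg xg5 yg39 zg38) (kg xg10 yg52 zg59) (kg xg4 yg49 zg27) (kg xg4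 yg55 zg14) (kg xg4 yg55 zg15) (kg xg16 yg51 zg14) (kg xg15 yg24 zg43) (kg xg8 yg7 zg51) (kg xg4 yg31 zg40) (kg xg5 yg37 zg50) (kg xg5 yg37 zg26) (kg xg5 yg43 zg13) (kg xg15 yg4 zg6) (kg xg9 yg9 zg49) (kg xg12 yg4 zg38) (kg xg12 yg8 zg56) (kg xg9 yg9 zg19) (kg xg15 yg4 zg35) (kg xg11 yg31 zg13) (kg xg12 yg25 zg12) (kg xg5 yg40 zg53) (kg xg4 yg31 zg50) (kg xg5 yg40 zg51) (kg xg15 yg3 zg59) (kg xg9 yg17 zg40) (kg xg4 yg57 zg12) (kg xg11 yg48 zg42) (kg xg10 yg55 zg37) (kg xg10 yg45 zg0) (kg xg9 yg17 zg25) (kg xg5 yg0 zg25) (kg xg5 yg40 zg30) (kg xg16 yg51 zg36) (kg xg5 yg40 zg21) (kg xg4 yg31 zg61) (kg xg16 yg29 zg34) (kg xg16 yg51 zg41) (kg xg16 yg51 zg38) (kg xg4 yg32 zg0) (kg xg11 yg26 zg35) (kg xg16 yg51 zg37) (kg xg10 yg18 zg11) (kg xg16 yg51 zg50) (kg xg11 yg6 zg54)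 (kg xg5 yg41 zg14) (kg xg4 yg32 zg5) (kg xg5 yg41 zg13) (kg xg16 yg21 zg60) (kg xg15 yg4 zg16) (kg xg16 yg51 zg59) (kg xg16 yg21 zg48) (kg xg16 yg51 zg55)) (@D3.rec (fun _ => Pt) (kg xg4 yg33 zg44) (kg xg5 yg42 zg54) (kg xg16 yg52 zg4) (kg xg11 yg23 zg49) (kg xg6 yg3 zg16) (kg xg5 yg42 zg35) (kg xg4 yg32 zg14) (kg xg16 yg52 zg15) (kg xg9 yg26 zg25) (kg xg16 yg52 zg6) (kg xg4 yg32 zg15) (kg xg5 yg42 zg12) (kg xg16 yg52 zg5) (kg xg16 yg52 zg29) (kg xg5 yg43 zg35) (kg xg9 yg5 zg14) (kg xg4 yg32 zg59) (kg xg11 yg22 zg37) (kg xg11 yg27 zg60) (kg xg5 yg42 zg20) (kg xg4 yg32 zg19) (kg xg5 yg42 zg18) (kg xg16 yg52 zg36) (kg xg12 yg8 zg52) (kg xg12 yg8 zg54) (kg xg5 yg45 zg50) (kg xg5 yg46 zg53) (kg xg12 yg8 zg57) (kg xg7 yg57 zg11) (kg xg5 yg46 zg10) (kg xg4 yg39 zg23) (kg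 xg5 yg41 zg41) (kg xg5 yg41 zg53) (kg xg16 yg52 zg54) (kg xg8 yg44 zg52) (kg xg7 yg56 zg32) (kg xg5 yg41 zg32) (kg xg16 yg52 zg61) (kg xg16 yg53 zg4) (kg xg15 yg3 zg60) (kg xg16 yg53 zg8) (kg xg16 yg53 zg7) (kg xg11 yg6 zg33) (kg xg5 yg41 zg33) (kg xg16 yg53 zg14) (kg xg16 yg35 zg36) (kg xg16 yg52 zg56) (kg xg4 yg32 zg38) (kg xg16 yg53 zg24) (kg xg16 yg52 zg55) (kg xg7 yg33 zg47) (kg xg12 yg10 zg53) (kg xg16 yg53 zg29) (kg xg5 yg43 zg36) (kg xg4 yg32 zg45) (kg xg5 yg46 zg17) (kg xg5 yg43 zg4) (kg xg12 yg23 zg41) (kg xg4 yg33 zg16) (kg xg16 yg53 zg38) (kg xg4 yg33 zg10) (kg xg5 yg37 zg43)) (@D3.rec (fun _ => Pt) (kg xg5 yg31 zg46) (kg xg16 yg53 zg47) (kg xg11 yg59 zg16) (kg xg16 yg22 zg6) (kg xg8 yg46 zg10) (kg xg4 yg32 zg56) (kg xg9 yg39 zg23) (kg xg12 yg22 zg5) (kg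 xg4 yg33 zg2) (kg xg4 yg32 zg58) (kg xg16 yg53 zg54) (kg xg5 yg24 zg25) (kg xg13 yg5 zg27) (kg xg11 yg11 zg33) (kg xg16 yg52 zg28) (kg xg16 yg52 zg27) (kg xg16 yg53 zg30) (kg xg9 yg53 zg0) (kg xg13 yg30 zg10) (kg xg16 yg54 zg5) (kg xg5 yg16 zg7) (kg xg4 yg33 zg3) (kg xg16 yg49 zg1) (kg xg5 yg43 zg3) (kg xg4 yg41 zg31) (kg xg16 yg48 zg47) (kg xg16 yg54 zg20) (kg xg5 yg45 zg17) (kg xg5 yg41 zg27) (kg xg11 yg7 zg39) (kg xg16 yg53 zg35) (kg xg4 yg33 zg20) (kg xg4 yg33 zg8) (kg xg16 yg54 zg33) (kg xg16 yg54 zg37) (kg xg4 yg33 zg23) (kg xg4 yg33 zg9) (kg xg4 yg33 zg22) (kg xg7 yg59 zg41) (kg xg11 yg14 zg18) (kg xg4 yg33 zg13) (kg xg4 yg33 zg11) (kg xg16 yg54 zg51) (kg xg10 yg16 zg48) (kg xg16 yg54 zg56) (kg xg10 yg58 zg22) (kg xg4 yg33 zg12) (kg xg16 yg54 zg24) (kg xg16 yg55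 zg1) (kg xg16 yg54 zg55) (kg xg4 yg46 zg2) (kg xg4 yg33 zg14) (kg xg5 yg45 zg32) (kg xg16 yg26 zg19) (kg xg16 yg21 zg40) (kg xg10 yg33 zg22) (kg xg16 yg54 zg60) (kg xg14 yg38 zg51) (kg xg5 yg38 zg11) (kg xg10 yg38 zg10) (kg xg16 yg53 zg28) (kg xg5 yg34 zg21)) (@D3.rec (fun _ => Pt) (kg xg4 yg33 zg17) (kg xg5 yg34 zg28) (kg xg16 yg55 zg19) (kg xg16 yg55 zg22) (kg xg15 yg2 zg1) (kg xg8 yg53 zg52) (kg xg16 yg54 zg40) (kg xg4 yg33 zg19) (kg xg16 yg55 zg30) (kg xg16 yg54 zg38) (kg xg16 yg55 zg35) (kg xg16 yg55 zg38) (kg xg16 yg55 zg41) (kg xg16 yg55 zg45) (kg xg12 yg3 zg49) (kg xg5 yg41 zg1) (kg xg16 yg54 zg50) (kg xg5 yg57 zg22) (kg xg16 yg52 zg23) (kg xg16 yg53 zg39) (kg xg16 yg53 zg40) (kg xg4 yg33 zg24) (kg xg16 yg55 zg55) (kg xg4 yg36 zg37) (kg xg16 yg55 zg58) (kg xg5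 yg45 zg25) (kg xg16 yg56 zg2) (kg xg5 yg45 zg22) (kg xg4 yg33 zg27) (kg xg11 yg15 zg60) (kg xg16 yg56 zg11) (kg xg16 yg56 zg4) (kg xg4 yg33 zg28) (kg xg16 yg56 zg3) (kg xg5 yg44 zg21) (kg xg5 yg13 zg25) (kg xg4 yg33 zg51) (kg xg8 yg56 zg60) (kg xg10 yg3 zg1) (kg xg5 yg45 zg10) (kg xg12 yg6 zg59) (kg xg5 yg45 zg7) (kg xg4 yg33 zg33) (kg xg11 yg13 zg58) (kg xg4 yg33 zg34) (kg xg5 yg44 zg1) (kg xg5 yg46 zg0) (kg xg16 yg47 zg17) (kg xg16 yg56 zg31) (kg xg12 yg10 zg6) (kg xg16 yg56 zg32) (kg xg16 yg56 zg37) (kg xg16 yg56 zg39) (kg xg4 yg33 zg39) (kg xg5 yg54 zg55) (kg xg11 yg48 zg24) (kg xg16 yg56 zg47) (kg xg10 yg3 zg2) (kg xg5 yg43 zg9) (kg xg5 yg11 zg2) (kg xg5 yg46 zg2) (kg xg5 yg46 zg1)) (@D3.rec (fun _ => Pt) (kg xg16 yg56 zg57) (kg xg11 yg50 zg13) (kg xg16 yg56 zg61)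 (kg xg10 yg18 zg43) (kg xg5 yg49 zg7) (kg xg4 yg33 zg47) (kg xg5 yg45 zg60) (kg xg4 yg33 zg48) (kg xg5 yg41 zg30) (kg xg16 yg56 zg22) (kg xg11 yg49 zg44) (kg xg16 yg57 zg8) (kg xg16 yg43 zg54) (kg xg5 yg46 zg9) (kg xg9 yg2 zg17) (kg xg10 yg44 zg60) (kg xg11 yg14 zg47) (kg xg5 yg45 zg21) (kg xg5 yg41 zg24) (kg xg11 yg49 zg40) (kg xg16 yg49 zg2) (kg xg4 yg49 zg41) (kg xg4 yg33 zg55) (kg xg6 yg41 zg52) (kg xg11 yg1 zg51) (kg xg4 yg34 zg4) (kg xg4 yg33 zg57) (kg xg4 yg34 zg2) (kg xg6 yg0 zg53) (kg xg16 yg57 zg26) (kg xg4 yg34 zg0) (kg xg15 yg27 zg13) (kg xg11 yg1 zg60) (kg xg11 yg49 zg41) (kg xg6 yg0 zg32) (kg xg9 yg18 zg3) (kg xg5 yg49 zg1) (kg xg4 yg34 zg3) (kg xg11 yg7 zg0) (kg xg5 yg49 zg37) (kg xg12 yg25 zg2) (kg xg5 yg49 zg9) (kg xg10 yg55 zg5) (kg xg4 yg34 zg9) (kg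 xg5 yg46 zg61) (kg xg16 yg51 zg28) (kg xg9 yg49 zg44) (kg xg16 yg57 zg36) (kg xg5 yg57 zg32) (kg xg6 yg43 zg11) (kg xg10 yg42 zg32) (kg xg4 yg34 zg35) (kg xg4 yg34 zg34) (kg xg15 yg5 zg2) (kg xg6 yg39 zg23) (kg xg15 yg5 zg33) (kg xg16 yg57 zg41) (kg xg4 yg34 zg32) (kg xg16 yg57 zg45) (kg xg10 yg42 zg36) (kg xg12 yg17 zg43) (kg xg11 yg30 zg23)) (@D3.rec (fun _ => Pt) (kg xg6 yg47 zg19) (kg xg6 yg38 zg55) (kg xg12 yg17 zg48) (kg xg12 yg17 zg4) (kg xg4 yg50 zg0) (kg xg4 yg59 zg32) (kg xg5 yg50 zg19) (kg xg4 yg34 zg38) (kg xg14 yg20 zg16) (kg xg5 yg50 zg17) (kg xg5 yg50 zg56) (kg xg5 yg45 zg61) (kg xg4 yg34 zg45) (kg xg15 yg26 zg32) (kg xg16 yg57 zg57) (kg xg6 yg33 zg8) (kg xg16 yg57 zg60) (kg xg4 yg34 zg57) (kg xg4 yg34 zg50) (kg xg16 yg58 zg3) (kg xg4 yg34 zg55) (kg xg16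 yg58 zg6) (kg xg11 yg25 zg21) (kg xg16 yg58 zg1) (kg xg4 yg34 zg53) (kg xg16 yg58 zg17) (kg xg16 yg57 zg61) (kg xg12 yg30 zg1) (kg xg11 yg41 zg51) (kg xg12 yg57 zg40) (kg xg11 yg25 zg43) (kg xg11 yg25 zg27) (kg xg7 yg42 zg9) (kg xg5 yg32 zg50) (kg xg12 yg30 zg11) (kg xg16 yg58 zg5) (kg xg4 yg34 zg56) (kg xg16 yg58 zg37) (kg xg16 yg57 zg50) (kg xg12 yg5 zg39) (kg xg11 yg47 zg44) (kg xg11 yg55 zg47) (kg xg10 yg49 zg50) (kg xg11 yg42 zg3) (kg xg6 yg47 zg23) (kg xg12 yg5 zg34) (kg xg11 yg41 zg42) (kg xg6 yg4 zg2) (kg xg4 yg35 zg0) (kg xg16 yg58 zg58) (kg xg16 yg58 zg7) (kg xg16 yg59 zg1) (kg xg12 yg29 zg43) (kg xg5 yg35 zg10) (kg xg4 yg59 zg7) (kg xg5 yg53 zg1) (kg xg4 yg59 zg6) (kg xg4 yg35 zg6) (kg xg11 yg20 zg36) (kg xg5 yg52 zg57) (kg xg9 yg14 zg26) (kg xg16 yg59 zg10))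 (@D3.rec (fun _ => Pt) (kg xg4 yg59 zg9) (kg xg11 yg20 zg32) (kg xg4 yg37 zg37) (kg xg4 yg37 zg36) (kg xg16 yg59 zg16) (kg xg5 yg53 zg9) (kg xg16 yg59 zg18) (kg xg16 yg59 zg22) (kg xg16 yg59 zg23) (kg xg4 yg35 zg16) (kg xg16 yg59 zg25) (kg xg16 yg30 zg23) (kg xg12 yg40 zg37) (kg xg12 yg1 zg52) (kg xg12 yg37 zg51) (kg xg6 yg28 zg12) (kg xg4 yg35 zg32) (kg xg4 yg35 zg22) (kg xg14 yg35 zg49) (kg xg4 yg35 zg30) (kg xg5 yg6 zg51) (kg xg4 yg35 zg40) (kg xg10 yg6 zg2) (kg xg4 yg35 zg38) (kg xg12 yg23 zg22) (kg xg9 yg47 zg51) (kg xg16 yg59 zg40) (kg xg5 yg55 zg51) (kg xg4 yg35 zg28) (kg xg14 yg11 zg49) (kg xg11 yg48 zg3) (kg xg9 yg18 zg7) (kg xg6 yg45 zg55) (kg xg16 yg59 zg29) (kg xg4 yg35 zg31) (kg xg16 yg59 zg44) (kg xg14 yg35 zg46) (kg xg8 yg25 zg54) (kg xg16 yg59 zg49)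 (kg xg8 yg25 zg56) (kg xg12 yg38 zg24) (kg xg10 yg17 zg49) (kg xg16 yg59 zg52) (kg xg16 yg59 zg55) (kg xg12 yg28 zg50) (kg xg10 yg17 zg16) (kg xg16 yg59 zg34) (kg xg4 yg35 zg39) (kg xg17 yg0 zg3) (kg xg15 yg59 zg5) (kg xg16 yg59 zg31) (kg xg15 yg26 zg11) (kg xg4 yg35 zg42) (kg xg6 yg10 zg52) (kg xg6 yg6 zg45) (kg xg5 yg55 zg28) (kg xg5 yg16 zg45) (kg xg4 yg35 zg46) (kg xg5 yg16 zg47) (kg xg4 yg35 zg54) (kg xg6 yg14 zg37) (kg xg17 yg0 zg20)) (@D3.rec (fun _ => Pt) (kg xg4 yg35 zg56) (kg xg4 yg35 zg49) (kg xg17 yg0 zg23) (kg xg17 yg0 zg25) (kg xg15 yg26 zg36) (kg xg13 yg1 zg31) (kg xg17 yg0 zg31) (kg xg6 yg3 zg26) (kg xg4 yg35 zg59) (kg xg15 yg26 zg41) (kg xg4 yg45 zg41) (kg xg17 yg0 zg38) (kg xg17 yg0 zg42) (kg xg4 yg36 zg11) (kg xg5 yg54 zg47) (kg xg4 yg36 zg19) (kg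 xg4 yg36 zg1) (kg xg14 yg20 zg41) (kg xg4 yg58 zg55) (kg xg9 yg44 zg45) (kg xg4 yg36 zg28) (kg xg11 yg31 zg39) (kg xg4 yg36 zg26) (kg xg11 yg32 zg61) (kg xg8 yg51 zg0) (kg xg11 yg32 zg59) (kg xg8 yg51 zg27) (kg xg17 yg0 zg57) (kg xg17 yg0 zg41) (kg xg4 yg36 zg9) (kg xg17 yg1 zg6) (kg xg17 yg0 zg39) (kg xg13 yg31 zg16) (kg xg9 yg44 zg37) (kg xg17 yg0 zg44) (kg xg4 yg36 zg12) (kg xg17 yg1 zg17) (kg xg12 yg7 zg49) (kg xg5 yg57 zg31) (kg xg12 yg9 zg18) (kg xg6 yg8 zg54) (kg xg5 yg53 zg56) (kg xg11 yg1 zg25) (kg xg14 yg20 zg38) (kg xg5 yg58 zg45) (kg xg9 yg48 zg8) (kg xg12 yg9 zg48) (kg xg11 yg29 zg9) (kg xg5 yg45 zg52) (kg xg17 yg0 zg46) (kg xg4 yg36 zg20) (kg xg17 yg1 zg36) (kg xg17 yg1 zg38) (kg xg4 yg36 zg24) (kg xg12 yg5 zg38) (kg xg17 yg1 zg39) (kg xg12 yg5 zg40) (kg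 xg10 yg44 zg29) (kg xg5 yg58 zg50) (kg xg12 yg5 zg32) (kg xg15 yg45 zg31) (kg xg12 yg5 zg36)) (@D3.rec (fun _ => Pt) (kg xg17 yg0 zg54) (kg xg4 yg36 zg27) (kg xg17 yg2 zg1) (kg xg17 yg0 zg51) (kg xg17 yg2 zg7) (kg xg4 yg37 zg33) (kg xg4 yg37 zg35) (kg xg9 yg48 zg29) (kg xg17 yg2 zg13) (kg xg4 yg36 zg30) (kg xg6 yg8 zg35) (kg xg5 yg44 zg54) (kg xg17 yg2 zg9) (kg xg5 yg57 zg29) (kg xg4 yg37 zg39) (kg xg17 yg2 zg16) (kg xg5 yg57 zg25) (kg xg4 yg36 zg36) (kg xg16 yg55 zg59) (kg xg9 yg1 zg23) (kg xg4 yg37 zg13) (kg xg6 yg20 zg16) (kg xg13 yg58 zg18) (kg xg4 yg38 zg15) (kg xg8 yg0 zg34) (kg xg13 yg42 zg2) (kg xg12 yg9 zg27) (kg xg8 yg47 zg50) (kg xg8 yg38 zg7) (kg xg5 yg14 zg32) (kg xg5 yg54 zg43) (kg xg11 yg0 zg36) (kg xg5 yg49 zg34) (kg xg17 yg2 zg28) (kg xg11 yg57 zg48)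 (kg xg8 yg49 zg35) (kg xg16 yg30 zg45) (kg xg8 yg46 zg2) (kg xg4 yg36 zg55) (kg xg11 yg43 zg47) (kg xg16 yg25 zg32) (kg xg5 yg56 zg7) (kg xg15 yg10 zg22) (kg xg5 yg49 zg54) (kg xg17 yg2 zg42) (kg xg8 yg48 zg54) (kg xg17 yg2 zg46) (kg xg11 yg23 zg2) (kg xg11 yg7 zg21) (kg xg9 yg1 zg26) (kg xg11 yg7 zg59) (kg xg8 yg3 zg34) (kg xg10 yg2 zg51) (kg xg8 yg5 zg17) (kg xg16 yg29 zg39) (kg xg8 yg45 zg39) (kg xg16 yg34 zg26) (kg xg6 yg10 zg9) (kg xg17 yg3 zg1) (kg xg4 yg40 zg2) (kg xg4 yg37 zg7) (kg xg4 yg40 zg1)) (@D3.rec (fun _ => Pt) (kg xg17 yg3 zg5) (kg xg5 yg10 zg19) (kg xg17 yg3 zg9) (kg xg4 yg37 zg31) (kg xg4 yg37 zg11) (kg xg17 yg3 zg12) (kg xg17 yg0 zg11) (kg xg4 yg37 zg12) (kg xg14 yg6 zg41) (kg xg11 yg30 zg25) (kg xg17 yg3 zg17) (kg xg9 yg48 zg27) (kg xg17 yg2 zg15)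 (kg xg10 yg17 zg41) (kg xg11 yg59 zg12) (kg xg10 yg17 zg11) (kg xg17 yg3 zg24) (kg xg4 yg37 zg20) (kg xg14 yg27 zg4) (kg xg10 yg6 zg12) (kg xg12 yg29 zg23) (kg xg17 yg3 zg31) (kg xg12 yg10 zg41) (kg xg11 yg31 zg7) (kg xg11 yg29 zg11) (kg xg4 yg37 zg24) (kg xg11 yg29 zg10) (kg xg16 yg26 zg40) (kg xg16 yg28 zg44) (kg xg17 yg2 zg51) (kg xg4 yg37 zg27) (kg xg17 yg3 zg40) (kg xg11 yg7 zg55) (kg xg15 yg8 zg51) (kg xg14 yg52 zg46) (kg xg4 yg37 zg29) (kg xg14 yg18 zg27) (kg xg6 yg20 zg8) (kg xg14 yg12 zg19) (kg xg10 yg5 zg38) (kg xg12 yg58 zg40) (kg xg4 yg37 zg32) (kg xg12 yg58 zg38) (kg xg17 yg3 zg18) (kg xg6 yg10 zg54) (kg xg8 yg58 zg51) (kg xg16 yg54 zg42) (kg xg4 yg37 zg34) (kg xg17 yg4 zg2) (kg xg5 yg57 zg24) (kg xg16 yg59 zg17) (kg xg10 yg44 zg59) (kg xg14 yg46 zg6) (kg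 xg16 yg59 zg12) (kg xg4 yg37 zg38) (kg xg17 yg3 zg32) (kg xg17 yg2 zg18) (kg xg17 yg4 zg14) (kg xg11 yg49 zg15) (kg xg4 yg38 zg14) (kg xg4 yg37 zg42) (kg xg17 yg4 zg26)) (@D3.rec (fun _ => Pt) (kg xg4 yg38 zg12) (kg xg6 yg6 zg36) (kg xg17 yg4 zg30) (kg xg6 yg3 zg0) (kg xg6 yg2 zg37) (kg xg5 yg53 zg43) (kg xg6 yg44 zg20) (kg xg16 yg54 zg13) (kg xg6 yg25 zg58) (kg xg11 yg1 zg19) (kg xg17 yg4 zg39) (kg xg4 yg37 zg47) (kg xg17 yg4 zg41) (kg xg6 yg1 zg55) (kg xg7 yg43 zg56) (kg xg6 yg44 zg45) (kg xg4 yg38 zg16) (kg xg6 yg44 zg39) (kg xg4 yg37 zg50) (kg xg11 yg51 zg32) (kg xg6 yg44 zg37) (kg xg6 yg39 zg5) (kg xg8 yg59 zg29) (kg xg4 yg38 zg2) (kg xg8 yg59 zg20) (kg xg6 yg44 zg44) (kg xg17 yg4 zg59) (kg xg6 yg44 zg42) (kg xg17 yg5 zg2) (kg xg17 yg5 zg5) (kg xg6 yg44 zg29) (kg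 xg4 yg37 zg57) (kg xg15 yg49 zg44) (kg xg6 yg44 zg27) (kg xg6 yg38 zg61) (kg xg17 yg5 zg13) (kg xg4 yg38 zg6) (kg xg9 yg17 zg23) (kg xg17 yg4 zg34) (kg xg6 yg38 zg52) (kg xg4 yg37 zg61) (kg xg6 yg38 zg51) (kg xg6 yg28 zg20) (kg xg12 yg53 zg40) (kg xg17 yg5 zg25) (kg xg17 yg5 zg29) (kg xg6 yg39 zg3) (kg xg5 yg56 zg36) (kg xg4 yg38 zg3) (kg xg8 yg45 zg48) (kg xg17 yg5 zg37) (kg xg12 yg53 zg26) (kg xg15 yg49 zg14) (kg xg15 yg49 zg33) (kg xg6 yg2 zg35) (kg xg6 yg37 zg23) (kg xg17 yg5 zg45) (kg xg6 yg42 zg28) (kg xg17 yg4 zg20) (kg xg4 yg38 zg10) (kg xg17 yg5 zg55) (kg xg17 yg4 zg18)) (@D3.rec (fun _ => Pt) (kg xg9 yg49 zg17) (kg xg17 yg5 zg60) (kg xg17 yg6 zg1) (kg xg17 yg5 zg17) (kg xg17 yg5 zg34) (kg xg5 yg48 zg16) (kg xg17 yg6 zg2) (kg xg6 yg25 zg59) (kg xg17 yg4 zg28)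 (kg xg4 yg38 zg13) (kg xg16 yg36 zg26) (kg xg17 yg4 zg27) (kg xg17 yg2 zg23) (kg xg10 yg45 zg26) (kg xg8 yg0 zg43) (kg xg17 yg6 zg17) (kg xg17 yg6 zg19) (kg xg4 yg38 zg20) (kg xg6 yg20 zg27) (kg xg17 yg6 zg25) (kg xg17 yg5 zg11) (kg xg4 yg38 zg21) (kg xg4 yg38 zg17) (kg xg17 yg6 zg34) (kg xg6 yg16 zg53) (kg xg4 yg38 zg18) (kg xg9 yg7 zg45) (kg xg14 yg33 zg21) (kg xg4 yg42 zg59) (kg xg10 yg12 zg10) (kg xg15 yg26 zg9) (kg xg14 yg11 zg14) (kg xg17 yg6 zg26) (kg xg14 yg6 zg49) (kg xg17 yg6 zg35) (kg xg11 yg6 zg24) (kg xg4 yg41 zg47) (kg xg5 yg56 zg26) (kg xg5 yg57 zg10) (kg xg17 yg6 zg56) (kg xg17 yg6 zg58) (kg xg17 yg7 zg1) (kg xg17 yg6 zg59) (kg xg5 yg57 zg1) (kg xg4 yg38 zg27) (kg xg17 yg7 zg10) (kg xg17 yg7 zg13) (kg xg6 yg19 zg35) (kg xg11 yg26 zg20) (kg xg4 yg38 zg37)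 (kg xg4 yg38 zg29) (kg xg16 yg48 zg36) (kg xg4 yg38 zg35) (kg xg6 yg35 zg1) (kg xg6 yg45 zg13) (kg xg4 yg39 zg1) (kg xg9 yg11 zg49) (kg xg6 yg40 zg48) (kg xg17 yg7 zg19) (kg xg4 yg38 zg33) (kg xg17 yg7 zg28) (kg xg17 yg7 zg17)) (@D3.rec (fun _ => Pt) (kg xg5 yg59 zg35) (kg xg12 yg45 zg13) (kg xg10 yg57 zg47) (kg xg6 yg45 zg24) (kg xg16 yg48 zg35) (kg xg17 yg7 zg37) (kg xg11 yg39 zg0) (kg xg17 yg7 zg39) (kg xg4 yg38 zg40) (kg xg4 yg38 zg39) (kg xg9 yg0 zg23) (kg xg11 yg16 zg29) (kg xg6 yg0 zg0) (kg xg6 yg16 zg59) (kg xg6 yg3 zg18) (kg xg6 yg0 zg40) (kg xg6 yg2 zg58) (kg xg4 yg38 zg52) (kg xg4 yg38 zg44) (kg xg4 yg38 zg50) (kg xg6 yg1 zg20) (kg xg4 yg49 zg15) (kg xg11 yg33 zg47) (kg xg6 yg2 zg52) (kg xg4 yg38 zg48) (kg xg6 yg0 zg7) (kg xg17 yg7 zg51) (kg xg17 yg7 zg53)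 (kg xg6 yg45 zg43) (kg xg4 yg38 zg51) (kg xg15 yg5 zg15) (kg xg17 yg7 zg54) (kg xg6 yg44 zg18) (kg xg6 yg44 zg17) (kg xg4 yg38 zg55) (kg xg4 yg38 zg53) (kg xg17 yg7 zg57) (kg xg11 yg56 zg44) (kg xg4 yg40 zg7) (kg xg6 yg45 zg0) (kg xg4 yg48 zg42) (kg xg10 yg3 zg59) (kg xg12 yg49 zg2) (kg xg6 yg2 zg45) (kg xg6 yg25 zg28) (kg xg12 yg37 zg42) (kg xg6 yg3 zg11) (kg xg6 yg3 zg14) (kg xg6 yg2 zg32) (kg xg6 yg3 zg9) (kg xg17 yg8 zg8) (kg xg17 yg8 zg12) (kg xg6 yg3 zg10) (kg xg4 yg39 zg2) (kg xg9 yg26 zg41) (kg xg17 yg7 zg44) (kg xg4 yg39 zg3) (kg xg14 yg35 zg58) (kg xg5 yg59 zg33) (kg xg5 yg0 zg20) (kg xg4 yg41 zg34) (kg xg4 yg40 zg4)) (@D3.rec (fun _ => Pt) (kg xg9 yg48 zg49) (kg xg6 yg2 zg54) (kg xg6 yg2 zg51) (kg xg4 yg39 zg10) (kg xg16 yg24 zg4) (kg xg16 yg31 zg47) (kg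 xg17 yg8 zg26) (kg xg4 yg39 zg30) (kg xg14 yg9 zg4) (kg xg6 yg3 zg34) (kg xg17 yg8 zg30) (kg xg5 yg53 zg38) (kg xg7 yg34 zg56) (kg xg17 yg8 zg33) (kg xg6 yg56 zg27) (kg xg11 yg31 zg32) (kg xg6 yg3 zg40) (kg xg4 yg39 zg19) (kg xg6 yg3 zg39) (kg xg17 yg8 zg38) (kg xg11 yg2 zg3) (kg xg14 yg45 zg53) (kg xg12 yg43 zg4) (kg xg6 yg3 zg47) (kg xg4 yg39 zg22) (kg xg6 yg3 zg46) (kg xg11 yg32 zg4) (kg xg17 yg8 zg45) (kg xg13 yg46 zg4) (kg xg17 yg8 zg48) (kg xg6 yg3 zg54) (kg xg4 yg39 zg25) (kg xg6 yg3 zg53) (kg xg17 yg8 zg51) (kg xg17 yg8 zg43) (kg xg17 yg8 zg56) (kg xg8 yg23 zg5) (kg xg11 yg51 zg36) (kg xg4 yg39 zg28) (kg xg11 yg51 zg38) (kg xg5 yg0 zg4) (kg xg6 yg4 zg7) (kg xg13 yg9 zg28) (kg xg17 yg6 zg24) (kg xg5 yg52 zg34) (kg xg4 yg39 zg33) (kg xg5 yg52 zg32) (kg xg4 yg39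 zg34) (kg xg17 yg9 zg5) (kg xg16 yg29 zg31) (kg xg4 yg39 zg37) (kg xg16 yg29 zg30) (kg xg11 yg34 zg10) (kg xg16 yg31 zg52) (kg xg14 yg59 zg51) (kg xg14 yg59 zg43) (kg xg16 yg33 zg11) (kg xg13 yg50 zg41) (kg xg4 yg39 zg46) (kg xg8 yg43 zg25) (kg xg8 yg38 zg16) (kg xg5 yg47 zg54)) (@D3.rec (fun _ => Pt) (kg xg17 yg9 zg24) (kg xg6 yg25 zg26) (kg xg9 yg7 zg20) (kg xg8 yg38 zg14) (kg xg17 yg9 zg25) (kg xg11 yg57 zg26) (kg xg16 yg59 zg30) (kg xg4 yg39 zg49) (kg xg17 yg3 zg16) (kg xg13 yg58 zg47) (kg xg17 yg9 zg42) (kg xg16 yg59 zg58) (kg xg4 yg39 zg50) (kg xg9 yg12 zg26) (kg xg4 yg39 zg51) (kg xg6 yg6 zg47) (kg xg6 yg26 zg1) (kg xg10 yg17 zg15) (kg xg11 yg22 zg20) (kg xg6 yg8 zg31) (kg xg6 yg8 zg29) (kg xg4 yg39 zg55) (kg xg9 yg17 zg56) (kg xg5 yg14 zg46) (kg xg17 yg2 zg10)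 (kg xg5 yg55 zg11) (kg xg10 yg6 zg37) (kg xg17 yg3 zg4) (kg xg4 yg39 zg61) (kg xg17 yg0 zg2) (kg xg17 yg3 zg2) (kg xg12 yg9 zg33) (kg xg17 yg3 zg8) (kg xg17 yg5 zg18) (kg xg17 yg2 zg21) (kg xg17 yg6 zg39) (kg xg11 yg48 zg47) (kg xg16 yg59 zg37) (kg xg11 yg35 zg57) (kg xg6 yg6 zg51) (kg xg5 yg54 zg42) (kg xg12 yg17 zg44) (kg xg11 yg48 zg31) (kg xg9 yg50 zg53) (kg xg10 yg17 zg23) (kg xg6 yg20 zg44) (kg xg4 yg40 zg15) (kg xg4 yg47 zg37) (kg xg4 yg40 zg13) (kg xg17 yg10 zg15) (kg xg17 yg10 zg19) (kg xg4 yg40 zg14) (kg xg8 yg33 zg28) (kg xg4 yg43 zg18) (kg xg4 yg42 zg28) (kg xg6 yg17 zg38) (kg xg4 yg40 zg16) (kg xg17 yg10 zg24) (kg xg17 yg10 zg28) (kg xg5 yg58 zg4) (kg xg4 yg40 zg17) (kg xg12 yg11 zg10)) (@D3.rec (fun _ => Pt) (kg xg9 yg23 zg13) (kg xg10 yg27 zg30) (kg xg17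 yg10 zg35) (kg xg4 yg40 zg44) (kg xg4 yg40 zg19) (kg xg12 yg32 zg58) (kg xg4 yg40 zg42) (kg xg12 yg57 zg12) (kg xg4 yg44 zg21) (kg xg4 yg44 zg42) (kg xg4 yg40 zg46) (kg xg4 yg44 zg47) (kg xg4 yg40 zg25) (kg xg7 yg47 zg53) (kg xg4 yg44 zg58) (kg xg4 yg40 zg26) (kg xg4 yg44 zg57) (kg xg17 yg6 zg38) (kg xg11 yg55 zg7) (kg xg17 yg10 zg52) (kg xg4 yg40 zg34) (kg xg9 yg22 zg0) (kg xg4 yg40 zg30) (kg xg9 yg21 zg61) (kg xg17 yg10 zg60) (kg xg17 yg11 zg1) (kg xg7 yg41 zg9) (kg xg9 yg22 zg29) (kg xg16 yg58 zg27) (kg xg15 yg56 zg43) (kg xg12 yg32 zg43) (kg xg13 yg16 zg37) (kg xg5 yg57 zg16) (kg xg17 yg11 zg13) (kg xg5 yg59 zg37) (kg xg17 yg11 zg18) (kg xg17 yg11 zg15) (kg xg4 yg40 zg38) (kg xg13 yg10 zg49) (kg xg13 yg10 zg37) (kg xg17 yg11 zg25) (kg xg17 yg11 zg28) (kg xg17 yg10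 zg37) (kg xg4 yg40 zg40) (kg xg15 yg31 zg4) (kg xg16 yg56 zg5) (kg xg17 yg11 zg41) (kg xg6 yg46 zg57) (kg xg12 yg52 zg20) (kg xg17 yg11 zg3) (kg xg6 yg32 zg47) (kg xg6 yg33 zg15) (kg xg17 yg10 zg43) (kg xg4 yg40 zg43) (kg xg12 yg56 zg57) (kg xg9 yg27 zg1) (kg xg6 yg31 zg17) (kg xg4 yg40 zg49) (kg xg6 yg47 zg1) (kg xg12 yg28 zg36) (kg xg6 yg12 zg35) (kg xg4 yg44 zg23)) (@D3.rec (fun _ => Pt) (kg xg4 yg44 zg30) (kg xg12 yg51 zg26) (kg xg15 yg30 zg30) (kg xg6 yg43 zg22) (kg xg4 yg40 zg54) (kg xg4 yg40 zg50) (kg xg17 yg12 zg11) (kg xg4 yg40 zg52) (kg xg11 yg40 zg37) (kg xg17 yg12 zg16) (kg xg5 yg59 zg7) (kg xg5 yg47 zg48) (kg xg5 yg58 zg15) (kg xg11 yg45 zg11) (kg xg17 yg12 zg13) (kg xg4 yg40 zg53) (kg xg17 yg12 zg23) (kg xg9 yg30 zg48) (kg xg12 yg55 zg26) (kg xg17 yg12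 zg27) (kg xg11 yg27 zg20) (kg xg5 yg56 zg42) (kg xg11 yg21 zg34) (kg xg9 yg11 zg35) (kg xg12 yg4 zg25) (kg xg11 yg12 zg36) (kg xg9 yg51 zg7) (kg xg10 yg48 zg15) (kg xg4 yg49 zg39) (kg xg17 yg12 zg35) (kg xg11 yg24 zg10) (kg xg6 yg33 zg27) (kg xg6 yg12 zg34) (kg xg16 yg58 zg11) (kg xg12 yg57 zg29) (kg xg14 yg11 zg46) (kg xg4 yg41 zg3) (kg xg12 yg58 zg2) (kg xg16 yg58 zg2) (kg xg12 yg55 zg5) (kg xg9 yg1 zg36) (kg xg5 yg52 zg16) (kg xg6 yg8 zg2) (kg xg5 yg39 zg53) (kg xg12 yg55 zg8) (kg xg17 yg12 zg48) (kg xg8 yg48 zg56) (kg xg9 yg47 zg35) (kg xg11 yg26 zg55) (kg xg8 yg25 zg57) (kg xg16 yg57 zg35) (kg xg17 yg12 zg54) (kg xg16 yg48 zg12) (kg xg17 yg12 zg55) (kg xg11 yg5 zg54) (kg xg9 yg15 zg22) (kg xg4 yg41 zg30) (kg xg17 yg13 zg2) (kg xg12 yg33 zg0) (kg xg11 yg9 zg56)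 (kg xg4 yg41 zg33) (kg xg6 yg16 zg46)) (@D3.rec (fun _ => Pt) (kg xg4 yg41 zg35) (kg xg8 yg49 zg60) (kg xg6 yg1 zg12) (kg xg9 yg5 zg33) (kg xg11 yg6 zg35) (kg xg6 yg2 zg10) (kg xg4 yg41 zg38) (kg xg9 yg7 zg30) (kg xg4 yg41 zg61) (kg xg17 yg13 zg12) (kg xg6 yg25 zg56) (kg xg6 yg25 zg55) (kg xg9 yg48 zg50) (kg xg12 yg27 zg41) (kg xg5 yg3 zg31) (kg xg6 yg29 zg45) (kg xg8 yg0 zg47) (kg xg5 yg47 zg38) (kg xg6 yg17 zg52) (kg xg12 yg39 zg54) (kg xg17 yg13 zg21) (kg xg17 yg13 zg24) (kg xg6 yg23 zg2) (kg xg17 yg13 zg27) (kg xg17 yg13 zg30) (kg xg12 yg59 zg53) (kg xg4 yg41 zg60) (kg xg12 yg59 zg55) (kg xg6 yg21 zg52) (kg xg4 yg42 zg1) (kg xg12 yg4 zg43) (kg xg4 yg48 zg5) (kg xg4 yg48 zg4) (kg xg17 yg13 zg44) (kg xg6 yg36 zg32) (kg xg6 yg21 zg31) (kg xg12 yg3 zg13) (kg xg6 yg21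 zg25) (kg xg4 yg42 zg8) (kg xg12 yg3 zg15) (kg xg17 yg13 zg53) (kg xg12 yg12 zg4) (kg xg13 yg0 zg14) (kg xg12 yg15 zg36) (kg xg9 yg33 zg10) (kg xg12 yg17 zg10) (kg xg17 yg13 zg61) (kg xg4 yg42 zg13) (kg xg17 yg14 zg0) (kg xg17 yg13 zg35) (kg xg6 yg22 zg31) (kg xg6 yg22 zg28) (kg xg6 yg22 zg61) (kg xg4 yg42 zg16) (kg xg6 yg22 zg60) (kg xg6 yg22 zg36) (kg xg12 yg13 zg7) (kg xg17 yg14 zg15) (kg xg12 yg27 zg7) (kg xg12 yg21 zg37) (kg xg7 yg9 zg58) (kg xg4 yg42 zg19)) (@D3.rec (fun _ => Pt) (kg xg6 yg22 zg41) (kg xg4 yg42 zg20) (kg xg6 yg22 zg40) (kg xg17 yg14 zg28) (kg xg8 yg35 zg27) (kg xg4 yg42 zg31) (kg xg9 yg33 zg11) (kg xg17 yg14 zg31) (kg xg17 yg13 zg20) (kg xg13 yg0 zg2) (kg xg17 yg14 zg32) (kg xg9 yg32 zg51) (kg xg6 yg23 zg55) (kg xg6 yg24 zg19) (kg xg6 yg23 zg53)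 (kg xg15 yg33 zg28) (kg xg9 yg28 zg16) (kg xg17 yg14 zg49) (kg xg6 yg48 zg14) (kg xg4 yg42 zg29) (kg xg6 yg23 zg60) (kg xg11 yg38 zg42) (kg xg6 yg23 zg7) (kg xg6 yg47 zg50) (kg xg6 yg48 zg3) (kg xg9 yg9 zg28) (kg xg5 yg53 zg44) (kg xg17 yg15 zg0) (kg xg17 yg15 zg3) (kg xg17 yg15 zg2) (kg xg4 yg42 zg38) (kg xg17 yg15 zg1) (kg xg16 yg31 zg58) (kg xg17 yg15 zg14) (kg xg8 yg51 zg32) (kg xg8 yg49 zg37) (kg xg17 yg15 zg15) (kg xg8 yg51 zg12) (kg xg8 yg50 zg43) (kg xg4 yg42 zg41) (kg xg8 yg50 zg41) (kg xg17 yg15 zg26) (kg xg16 yg32 zg0) (kg xg17 yg15 zg31) (kg xg17 yg15 zg33) (kg xg7 yg59 zg61) (kg xg6 yg13 zg16) (kg xg17 yg15 zg38) (kg xg7 yg59 zg25) (kg xg5 yg37 zg39) (kg xg7 yg59 zg27) (kg xg5 yg47 zg26) (kg xg9 yg15 zg31) (kg xg6 yg2 zg11) (kg xg4 yg43 zg2) (kg xg4 yg43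 zg3) (kg xg11 yg11 zg4) (kg xg12 yg4 zg0) (kg xg4 yg43 zg10) (kg xg10 yg5 zg50) (kg xg17 yg12 zg34) (kg xg4 yg43 zg14)) (@D3.rec (fun _ => Pt) (kg xg17 yg15 zg53) (kg xg10 yg12 zg6) (kg xg14 yg14 zg18) (kg xg17 yg15 zg51) (kg xg13 yg2 zg32) (kg xg4 yg43 zg16) (kg xg11 yg56 zg18) (kg xg12 yg20 zg0) (kg xg17 yg15 zg49) (kg xg15 yg47 zg19) (kg xg6 yg27 zg9) (kg xg6 yg26 zg46) (kg xg4 yg43 zg26) (kg xg12 yg34 zg29) (kg xg4 yg48 zg34) (kg xg4 yg48 zg31) (kg xg7 yg54 zg57) (kg xg12 yg4 zg18) (kg xg9 yg32 zg48) (kg xg17 yg16 zg7) (kg xg6 yg26 zg44) (kg xg9 yg32 zg41) (kg xg17 yg16 zg11) (kg xg13 yg37 zg49) (kg xg12 yg25 zg10) (kg xg6 yg29 zg50) (kg xg4 yg43 zg37) (kg xg8 yg36 zg17) (kg xg17 yg16 zg21) (kg xg6 yg27 zg27) (kg xg4 yg43 zg38) (kg xg6 yg27 zg26) (kg xg13 yg37 zg50)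 (kg xg17 yg5 zg6) (kg xg17 yg16 zg28) (kg xg6 yg25 zg47) (kg xg17 yg16 zg32) (kg xg4 yg49 zg60) (kg xg12 yg25 zg51) (kg xg4 yg43 zg48) (kg xg17 yg16 zg37) (kg xg7 yg31 zg53) (kg xg4 yg43 zg51) (kg xg6 yg29 zg30) (kg xg4 yg43 zg54) (kg xg12 yg41 zg16) (kg xg6 yg28 zg48) (kg xg6 yg28 zg30) (kg xg15 yg47 zg23) (kg xg4 yg46 zg9) (kg xg17 yg16 zg45) (kg xg4 yg46 zg6) (kg xg4 yg46 zg12) (kg xg4 yg46 zg10) (kg xg17 yg16 zg50) (kg xg6 yg9 zg33) (kg xg15 yg38 zg54) (kg xg17 yg16 zg56) (kg xg14 yg32 zg55) (kg xg6 yg28 zg8) (kg xg17 yg16 zg59) (kg xg4 yg49 zg42)) (@D3.rec (fun _ => Pt) (kg xg17 yg10 zg39) (kg xg5 yg51 zg3) (kg xg4 yg44 zg5) (kg xg17 yg17 zg2) (kg xg17 yg10 zg53) (kg xg6 yg12 zg33) (kg xg4 yg44 zg7) (kg xg9 yg23 zg33) (kg xg13 yg9 zg58) (kg xg6 yg49 zg3) (kg xg6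 yg11 zg10) (kg xg4 yg44 zg9) (kg xg17 yg17 zg10) (kg xg4 yg44 zg11) (kg xg8 yg31 zg29) (kg xg6 yg33 zg13) (kg xg4 yg45 zg51) (kg xg12 yg11 zg51) (kg xg9 yg23 zg40) (kg xg7 yg32 zg31) (kg xg4 yg44 zg16) (kg xg17 yg17 zg23) (kg xg7 yg32 zg29) (kg xg5 yg58 zg61) (kg xg12 yg56 zg59) (kg xg14 yg23 zg14) (kg xg9 yg27 zg48) (kg xg12 yg11 zg36) (kg xg4 yg44 zg54) (kg xg4 yg44 zg19) (kg xg17 yg17 zg37) (kg xg17 yg17 zg40) (kg xg17 yg11 zg48) (kg xg13 yg9 zg57) (kg xg9 yg27 zg10) (kg xg12 yg11 zg26) (kg xg12 yg38 zg16) (kg xg17 yg16 zg39) (kg xg6 yg34 zg48) (kg xg4 yg44 zg25) (kg xg6 yg49 zg0) (kg xg6 yg29 zg29) (kg xg4 yg45 zg18) (kg xg4 yg44 zg28) (kg xg17 yg17 zg53) (kg xg4 yg47 zg11) (kg xg17 yg17 zg56) (kg xg4 yg47 zg23) (kg xg17 yg17 zg59) (kg xg17 yg18 zg1) (kg xg12 yg11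 zg56) (kg xg6 yg53 zg56) (kg xg4 yg44 zg32) (kg xg17 yg18 zg7) (kg xg6 yg32 zg11) (kg xg4 yg48 zg53) (kg xg12 yg16 zg30) (kg xg6 yg49 zg59) (kg xg4 yg44 zg37) (kg xg6 yg19 zg25) (kg xg9 yg16 zg23) (kg xg4 yg44 zg38)) (@D3.rec (fun _ => Pt) (kg xg9 yg16 zg22) (kg xg17 yg18 zg14) (kg xg12 yg57 zg37) (kg xg13 yg54 zg2) (kg xg14 yg23 zg61) (kg xg17 yg18 zg19) (kg xg9 yg30 zg16) (kg xg14 yg26 zg19) (kg xg17 yg18 zg25) (kg xg9 yg28 zg31) (kg xg12 yg11 zg16) (kg xg5 yg58 zg18) (kg xg17 yg18 zg29) (kg xg12 yg11 zg33) (kg xg17 yg17 zg3) (kg xg16 yg33 zg32) (kg xg16 yg57 zg59) (kg xg4 yg44 zg50) (kg xg17 yg18 zg42) (kg xg7 yg32 zg7) (kg xg9 yg26 zg42) (kg xg5 yg58 zg60) (kg xg17 yg18 zg49) (kg xg17 yg10 zg51) (kg xg4 yg44 zg53) (kg xg17 yg18 zg57) (kg xg14 yg42 zg0) (kg xg17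 yg17 zg38) (kg xg9 yg16 zg27) (kg xg4 yg44 zg55) (kg xg14 yg23 zg47) (kg xg11 yg40 zg33) (kg xg9 yg24 zg37) (kg xg10 yg34 zg58) (kg xg9 yg22 zg46) (kg xg15 yg30 zg25) (kg xg17 yg10 zg48) (kg xg11 yg33 zg1) (kg xg4 yg44 zg59) (kg xg6 yg31 zg48) (kg xg16 yg53 zg61) (kg xg14 yg41 zg61) (kg xg14 yg41 zg43) (kg xg4 yg46 zg1) (kg xg4 yg45 zg0) (kg xg4 yg46 zg0) (kg xg9 yg22 zg32) (kg xg17 yg19 zg13) (kg xg6 yg6 zg19) (kg xg4 yg45 zg49) (kg xg4 yg45 zg47) (kg xg4 yg45 zg12) (kg xg6 yg12 zg50) (kg xg17 yg19 zg17) (kg xg4 yg45 zg39) (kg xg17 yg19 zg20) (kg xg10 yg8 zg15) (kg xg4 yg45 zg8) (kg xg17 yg19 zg24) (kg xg4 yg46 zg14) (kg xg15 yg58 zg14) (kg xg4 yg46 zg26)) (@D3.rec (fun _ => Pt) (kg xg4 yg45 zg10) (kg xg4 yg46 zg25) (kg xg17 yg19 zg32) (kg xg8 yg29 zg23) (kg xg4 yg45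 zg53) (kg xg4 yg46 zg17) (kg xg4 yg45 zg13) (kg xg4 yg46 zg16) (kg xg11 yg21 zg13) (kg xg14 yg20 zg2) (kg xg10 yg19 zg36) (kg xg17 yg19 zg39) (kg xg6 yg19 zg36) (kg xg11 yg40 zg49) (kg xg17 yg19 zg41) (kg xg17 yg19 zg44) (kg xg6 yg36 zg44) (kg xg9 yg16 zg0) (kg xg6 yg32 zg56) (kg xg9 yg26 zg35) (kg xg17 yg19 zg51) (kg xg5 yg59 zg21) (kg xg4 yg45 zg19) (kg xg17 yg19 zg58) (kg xg17 yg19 zg54) (kg xg4 yg45 zg20) (kg xg17 yg20 zg6) (kg xg17 yg19 zg52) (kg xg4 yg46 zg59) (kg xg17 yg20 zg13) (kg xg4 yg46 zg57) (kg xg17 yg20 zg17) (kg xg9 yg21 zg7) (kg xg12 yg4 zg28) (kg xg6 yg47 zg16) (kg xg4 yg47 zg10) (kg xg4 yg45 zg24) (kg xg17 yg12 zg39) (kg xg4 yg47 zg8) (kg xg12 yg7 zg33) (kg xg12 yg4 zg31) (kg xg6 yg47 zg11) (kg xg5 yg54 zg35) (kg xg4 yg45 zg28) (kg xg11 yg25 zg5)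 (kg xg12 yg24 zg5) (kg xg6 yg12 zg47) (kg xg9 yg18 zg41) (kg xg6 yg39 zg34) (kg xg4 yg45 zg34) (kg xg7 yg33 zg2) (kg xg7 yg32 zg49) (kg xg17 yg20 zg46) (kg xg4 yg45 zg36) (kg xg17 yg20 zg49) (kg xg17 yg12 zg4) (kg xg5 yg59 zg48) (kg xg17 yg20 zg54) (kg xg6 yg35 zg43) (kg xg4 yg47 zg17) (kg xg17 yg20 zg59) (kg xg17 yg21 zg1)) (@D3.rec (fun _ => Pt) (kg xg17 yg21 zg0) (kg xg4 yg45 zg42) (kg xg17 yg21 zg11) (kg xg17 yg20 zg60) (kg xg14 yg2 zg57) (kg xg16 yg54 zg49) (kg xg17 yg21 zg17) (kg xg8 yg28 zg47) (kg xg7 yg32 zg60) (kg xg12 yg11 zg58) (kg xg4 yg47 zg22) (kg xg6 yg0 zg11) (kg xg14 yg23 zg13) (kg xg4 yg47 zg44) (kg xg17 yg19 zg43) (kg xg16 yg46 zg52) (kg xg4 yg47 zg6) (kg xg17 yg21 zg33) (kg xg17 yg17 zg15) (kg xg17 yg21 zg34) (kg xg9 yg39 zg5) (kg xg12 yg11 zg17)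 (kg xg12 yg33 zg51) (kg xg8 yg31 zg61) (kg xg4 yg45 zg57) (kg xg17 yg21 zg40) (kg xg8 yg31 zg26) (kg xg12 yg13 zg60) (kg xg12 yg24 zg1) (kg xg4 yg45 zg59) (kg xg12 yg24 zg0) (kg xg11 yg29 zg41) (kg xg12 yg15 zg22) (kg xg17 yg20 zg43) (kg xg17 yg7 zg46) (kg xg12 yg57 zg32) (kg xg5 yg48 zg25) (kg xg9 yg22 zg34) (kg xg5 yg48 zg20) (kg xg12 yg9 zg8) (kg xg6 yg31 zg60) (kg xg10 yg21 zg41) (kg xg4 yg46 zg3) (kg xg17 yg21 zg54) (kg xg10 yg19 zg41) (kg xg13 yg6 zg51) (kg xg17 yg21 zg57) (kg xg10 yg22 zg21) (kg xg17 yg16 zg48) (kg xg4 yg46 zg7) (kg xg17 yg19 zg25) (kg xg14 yg32 zg58) (kg xg17 yg16 zg46) (kg xg17 yg16 zg51) (kg xg16 yg7 zg1) (kg xg6 yg33 zg0) (kg xg17 yg10 zg22) (kg xg6 yg12 zg39) (kg xg10 yg43 zg41) (kg xg4 yg46 zg13) (kg xg17 yg22 zg13) (kg xg8 yg55 zg53))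 (@D3.rec (fun _ => Pt) (kg xg17 yg19 zg27) (kg xg6 yg43 zg43) (kg xg4 yg46 zg37) (kg xg17 yg22 zg18) (kg xg16 yg24 zg36) (kg xg17 yg22 zg23) (kg xg12 yg51 zg31) (kg xg12 yg49 zg11) (kg xg4 yg46 zg50) (kg xg4 yg46 zg61) (kg xg12 yg23 zg39) (kg xg11 yg21 zg25) (kg xg17 yg22 zg29) (kg xg4 yg46 zg18) (kg xg5 yg49 zg30) (kg xg11 yg49 zg33) (kg xg11 yg21 zg24) (kg xg17 yg22 zg20) (kg xg17 yg22 zg38) (kg xg17 yg22 zg32) (kg xg4 yg46 zg20) (kg xg17 yg22 zg49) (kg xg17 yg22 zg30) (kg xg8 yg29 zg20) (kg xg9 yg21 zg14) (kg xg17 yg17 zg51) (kg xg9 yg49 zg51) (kg xg14 yg59 zg27) (kg xg10 yg13 zg2) (kg xg5 yg59 zg36) (kg xg4 yg46 zg52) (kg xg11 yg44 zg1) (kg xg12 yg46 zg40) (kg xg4 yg46 zg27) (kg xg6 yg38 zg16) (kg xg8 yg47 zg1) (kg xg4 yg46 zg28) (kg xg17 yg23 zg2) (kg xg17 yg23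 zg6) (kg xg5 yg15 zg2) (kg xg8 yg17 zg53) (kg xg17 yg16 zg44) (kg xg4 yg46 zg31) (kg xg17 yg23 zg13) (kg xg12 yg32 zg39) (kg xg4 yg46 zg33) (kg xg6 yg0 zg28) (kg xg7 yg2 zg11) (kg xg11 yg44 zg56) (kg xg9 yg47 zg48) (kg xg17 yg23 zg19) (kg xg6 yg0 zg45) (kg xg14 yg32 zg30) (kg xg6 yg0 zg20) (kg xg6 yg0 zg39) (kg xg6 yg0 zg38) (kg xg12 yg45 zg19) (kg xg9 yg47 zg46) (kg xg10 yg20 zg53) (kg xg17 yg23 zg9) (kg xg17 yg23 zg32) (kg xg4 yg46 zg49)) (@D3.rec (fun _ => Pt) (kg xg4 yg46 zg41) (kg xg13 yg10 zg16) (kg xg4 yg46 zg47) (kg xg11 yg40 zg27) (kg xg17 yg23 zg39) (kg xg11 yg40 zg29) (kg xg4 yg46 zg44) (kg xg17 yg23 zg42) (kg xg17 yg23 zg45) (kg xg17 yg23 zg35) (kg xg4 yg46 zg45) (kg xg7 yg11 zg13) (kg xg17 yg23 zg33) (kg xg11 yg55 zg40) (kg xg6 yg56 zg8) (kg xg17 yg23 zg24)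 (kg xg5 yg26 zg52) (kg xg14 yg22 zg33) (kg xg12 yg32 zg42) (kg xg17 yg23 zg37) (kg xg4 yg46 zg48) (kg xg17 yg24 zg12) (kg xg13 yg10 zg18) (kg xg12 yg10 zg20) (kg xg17 yg24 zg19) (kg xg17 yg24 zg21) (kg xg17 yg11 zg8) (kg xg4 yg46 zg51) (kg xg17 yg24 zg28) (kg xg17 yg11 zg6) (kg xg13 yg21 zg53) (kg xg17 yg11 zg2) (kg xg4 yg46 zg53) (kg xg13 yg20 zg31) (kg xg9 yg23 zg19) (kg xg4 yg46 zg54) (kg xg17 yg24 zg39) (kg xg9 yg26 zg52) (kg xg4 yg46 zg55) (kg xg17 yg24 zg47) (kg xg9 yg26 zg54) (kg xg11 yg50 zg4) (kg xg17 yg24 zg54) (kg xg17 yg24 zg57) (kg xg17 yg24 zg34) (kg xg17 yg22 zg56) (kg xg9 yg22 zg20) (kg xg17 yg24 zg58) (kg xg17 yg20 zg16) (kg xg4 yg46 zg58) (kg xg17 yg25 zg13) (kg xg17 yg20 zg14) (kg xg9 yg26 zg38) (kg xg9 yg26 zg40) (kg xg4 yg46 zg60) (kg xg17 yg25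 zg24) (kg xg5 yg6 zg49) (kg xg17 yg25 zg28) (kg xg17 yg25 zg32) (kg xg4 yg47 zg4) (kg xg4 yg47 zg1) (kg xg17 yg17 zg18)) (@D3.rec (fun _ => Pt) (kg xg16 yg1 zg49) (kg xg9 yg16 zg5) (kg xg4 yg47 zg3) (kg xg17 yg19 zg30) (kg xg10 yg3 zg41) (kg xg17 yg25 zg44) (kg xg14 yg36 zg22) (kg xg6 yg20 zg40) (kg xg8 yg30 zg33) (kg xg17 yg25 zg50) (kg xg9 yg21 zg31) (kg xg6 yg42 zg49) (kg xg17 yg25 zg27) (kg xg17 yg25 zg57) (kg xg16 yg0 zg44) (kg xg17 yg22 zg57) (kg xg17 yg25 zg58) (kg xg17 yg26 zg5) (kg xg17 yg11 zg60) (kg xg4 yg47 zg9) (kg xg17 yg26 zg12) (kg xg8 yg19 zg51) (kg xg17 yg20 zg28) (kg xg15 yg37 zg38) (kg xg17 yg11 zg47) (kg xg17 yg22 zg25) (kg xg17 yg26 zg24) (kg xg4 yg47 zg57) (kg xg17 yg26 zg25) (kg xg6 yg43 zg38) (kg xg4 yg47 zg14) (kg xg17 yg26 zg36) (kg xg17 yg26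 zg40) (kg xg7 yg27 zg27) (kg xg17 yg26 zg41) (kg xg6 yg12 zg37) (kg xg17 yg20 zg32) (kg xg17 yg20 zg31) (kg xg17 yg26 zg49) (kg xg17 yg26 zg51) (kg xg6 yg47 zg7) (kg xg4 yg47 zg20) (kg xg12 yg57 zg31) (kg xg17 yg26 zg58) (kg xg16 yg57 zg43) (kg xg15 yg57 zg58) (kg xg17 yg27 zg3) (kg xg6 yg46 zg60) (kg xg9 yg21 zg24) (kg xg17 yg17 zg60) (kg xg4 yg48 zg18) (kg xg4 yg48 zg26) (kg xg17 yg20 zg56) (kg xg6 yg43 zg34) (kg xg4 yg47 zg51) (kg xg6 yg43 zg47) (kg xg6 yg48 zg21) (kg xg4 yg47 zg60) (kg xg4 yg48 zg24) (kg xg17 yg27 zg22) (kg xg16 yg6 zg40) (kg xg17 yg10 zg14)) (@D3.rec (fun _ => Pt) (kg xg6 yg43 zg39) (kg xg4 yg47 zg30) (kg xg17 yg27 zg32) (kg xg17 yg27 zg36) (kg xg15 yg46 zg47) (kg xg4 yg47 zg32) (kg xg17 yg27 zg42) (kg xg17 yg10 zg11) (kg xg17 yg27 zg47) (kg xg17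 yg10 zg13) (kg xg16 yg3 zg41) (kg xg6 yg48 zg43) (kg xg17 yg27 zg53) (kg xg17 yg10 zg20) (kg xg4 yg53 zg37) (kg xg17 yg27 zg58) (kg xg12 yg20 zg58) (kg xg9 yg24 zg22) (kg xg17 yg28 zg2) (kg xg9 yg19 zg16) (kg xg12 yg11 zg53) (kg xg4 yg47 zg41) (kg xg12 yg11 zg52) (kg xg17 yg28 zg13) (kg xg9 yg28 zg26) (kg xg4 yg47 zg42) (kg xg9 yg28 zg25) (kg xg17 yg28 zg23) (kg xg5 yg48 zg6) (kg xg4 yg47 zg43) (kg xg17 yg28 zg26) (kg xg17 yg28 zg28) (kg xg13 yg15 zg15) (kg xg12 yg15 zg54) (kg xg17 yg10 zg44) (kg xg17 yg28 zg34) (kg xg17 yg28 zg37) (kg xg12 yg11 zg34) (kg xg7 yg0 zg28) (kg xg10 yg32 zg16) (kg xg17 yg27 zg18) (kg xg4 yg47 zg52) (kg xg17 yg28 zg50) (kg xg9 yg22 zg9) (kg xg12 yg11 zg23) (kg xg17 yg28 zg58) (kg xg6 yg18 zg10) (kg xg14 yg32 zg9) (kg xg12 yg11 zg25) (kg xg17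 yg28 zg59) (kg xg8 yg23 zg19) (kg xg12 yg33 zg24) (kg xg15 yg40 zg12) (kg xg4 yg47 zg61) (kg xg17 yg29 zg13) (kg xg17 yg29 zg17) (kg xg12 yg13 zg2) (kg xg6 yg35 zg23) (kg xg4 yg48 zg2) (kg xg12 yg13 zg4) (kg xg17 yg29 zg24) (kg xg17 yg29 zg27)) (@D3.rec (fun _ => Pt) (kg xg4 yg50 zg6) (kg xg6 yg29 zg51) (kg xg12 yg48 zg27) (kg xg17 yg29 zg32) (kg xg4 yg48 zg9) (kg xg17 yg29 zg33) (kg xg17 yg29 zg42) (kg xg17 yg29 zg37) (kg xg16 yg6 zg51) (kg xg6 yg3 zg32) (kg xg17 yg20 zg37) (kg xg4 yg48 zg13) (kg xg17 yg29 zg52) (kg xg6 yg30 zg47) (kg xg4 yg48 zg28) (kg xg12 yg24 zg16) (kg xg7 yg50 zg3) (kg xg4 yg48 zg16) (kg xg17 yg29 zg60) (kg xg17 yg30 zg1) (kg xg17 yg30 zg3) (kg xg11 yg10 zg50) (kg xg17 yg27 zg12) (kg xg4 yg48 zg19) (kg xg17 yg30 zg11) (kg xg12 yg32 zg4) (kg xg16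 yg30 zg44) (kg xg4 yg48 zg22) (kg xg12 yg19 zg60) (kg xg14 yg4 zg25) (kg xg11 yg14 zg30) (kg xg12 yg20 zg1) (kg xg13 yg2 zg0) (kg xg13 yg2 zg4) (kg xg17 yg27 zg13) (kg xg4 yg48 zg27) (kg xg17 yg30 zg28) (kg xg17 yg30 zg32) (kg xg17 yg29 zg55) (kg xg17 yg30 zg37) (kg xg17 yg30 zg40) (kg xg6 yg32 zg51) (kg xg4 yg48 zg33) (kg xg17 yg30 zg44) (kg xg17 yg30 zg47) (kg xg7 yg48 zg48) (kg xg6 yg11 zg38) (kg xg17 yg30 zg52) (kg xg4 yg48 zg38) (kg xg17 yg30 zg53) (kg xg17 yg31 zg1) (kg xg17 yg30 zg58) (kg xg6 yg44 zg9) (kg xg6 yg48 zg27) (kg xg6 yg0 zg26) (kg xg6 yg0 zg24) (kg xg17 yg21 zg45) (kg xg5 yg57 zg35) (kg xg5 yg59 zg28) (kg xg5 yg58 zg25) (kg xg4 yg49 zg2) (kg xg4 yg48 zg45)) (@D3.rec (fun _ => Pt) (kg xg5 yg59 zg47) (kg xg17 yg21 zg4) (kg xg13 yg24 zg28) (kg xg6 yg0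 zg16) (kg xg4 yg48 zg47) (kg xg13 yg9 zg14) (kg xg6 yg0 zg14) (kg xg17 yg7 zg58) (kg xg4 yg49 zg8) (kg xg6 yg1 zg52) (kg xg7 yg36 zg13) (kg xg11 yg25 zg53) (kg xg17 yg31 zg28) (kg xg4 yg48 zg52) (kg xg17 yg31 zg32) (kg xg17 yg4 zg40) (kg xg7 yg39 zg39) (kg xg7 yg0 zg53) (kg xg9 yg16 zg34) (kg xg17 yg31 zg39) (kg xg17 yg31 zg42) (kg xg17 yg7 zg40) (kg xg12 yg56 zg49) (kg xg4 yg48 zg57) (kg xg5 yg33 zg41) (kg xg10 yg45 zg16) (kg xg17 yg26 zg53) (kg xg6 yg45 zg25) (kg xg5 yg59 zg60) (kg xg5 yg55 zg38) (kg xg5 yg59 zg44) (kg xg17 yg31 zg49) (kg xg12 yg32 zg46) (kg xg4 yg49 zg12) (kg xg4 yg48 zg61) (kg xg11 yg55 zg39) (kg xg4 yg49 zg10) (kg xg10 yg45 zg9) (kg xg6 yg6 zg34) (kg xg9 yg32 zg10) (kg xg17 yg7 zg31) (kg xg4 yg49 zg6) (kg xg17 yg26 zg45) (kg xg7 yg53 zg21) (kg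 xg4 yg49 zg7) (kg xg4 yg49 zg3) (kg xg5 yg26 zg9) (kg xg17 yg32 zg11) (kg xg9 yg17 zg6) (kg xg6 yg49 zg29) (kg xg4 yg49 zg5) (kg xg5 yg53 zg25) (kg xg7 yg44 zg9) (kg xg17 yg32 zg19) (kg xg17 yg32 zg23) (kg xg7 yg34 zg8) (kg xg13 yg8 zg23) (kg xg17 yg32 zg30) (kg xg11 yg54 zg36) (kg xg5 yg39 zg34) (kg xg5 yg33 zg44) (kg xg6 yg0 zg19)) (@D3.rec (fun _ => Pt) (kg xg6 yg5 zg60) (kg xg13 yg1 zg22) (kg xg10 yg45 zg18) (kg xg10 yg44 zg34) (kg xg5 yg55 zg17) (kg xg17 yg32 zg47) (kg xg17 yg31 zg57) (kg xg4 yg49 zg11) (kg xg17 yg32 zg54) (kg xg11 yg55 zg37) (kg xg17 yg32 zg60) (kg xg17 yg0 zg32) (kg xg6 yg46 zg0) (kg xg6 yg1 zg58) (kg xg6 yg45 zg47) (kg xg6 yg45 zg41) (kg xg6 yg45 zg42) (kg xg4 yg49 zg16) (kg xg11 yg55 zg2) (kg xg17 yg33 zg8) (kg xg6 yg44 zg49) (kg xg4 yg50 zg1)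 (kg xg16 yg57 zg16) (kg xg4 yg49 zg53) (kg xg8 yg11 zg19) (kg xg6 yg43 zg7) (kg xg6 yg45 zg37) (kg xg4 yg49 zg20) (kg xg6 yg45 zg35) (kg xg16 yg59 zg26) (kg xg6 yg2 zg19) (kg xg17 yg8 zg19) (kg xg4 yg49 zg23) (kg xg17 yg33 zg25) (kg xg17 yg33 zg28) (kg xg17 yg33 zg32) (kg xg16 yg48 zg37) (kg xg4 yg49 zg25) (kg xg6 yg2 zg29) (kg xg17 yg33 zg36) (kg xg5 yg30 zg45) (kg xg6 yg45 zg40) (kg xg10 yg43 zg60) (kg xg15 yg24 zg20) (kg xg4 yg56 zg13) (kg xg4 yg49 zg32) (kg xg6 yg45 zg60) (kg xg16 yg11 zg32) (kg xg8 yg59 zg42) (kg xg14 yg47 zg13) (kg xg6 yg46 zg6) (kg xg4 yg49 zg35) (kg xg6 yg46 zg5) (kg xg17 yg33 zg48) (kg xg15 yg32 zg56) (kg xg4 yg49 zg38) (kg xg17 yg33 zg50) (kg xg17 yg33 zg61) (kg xg17 yg33 zg55) (kg xg17 yg34 zg4) (kg xg11 yg51 zg42) (kg xg17 yg10 zg42)) (@D3.rec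 (fun _ => Pt) (kg xg7 yg34 zg10) (kg xg17 yg10 zg46) (kg xg6 yg47 zg3) (kg xg6 yg47 zg2) (kg xg17 yg34 zg10) (kg xg6 yg46 zg59) (kg xg4 yg49 zg45) (kg xg4 yg58 zg14) (kg xg4 yg49 zg46) (kg xg5 yg0 zg1) (kg xg17 yg34 zg20) (kg xg17 yg34 zg22) (kg xg11 yg55 zg46) (kg xg6 yg51 zg10) (kg xg6 yg5 zg36) (kg xg4 yg49 zg50) (kg xg17 yg34 zg29) (kg xg11 yg7 zg60) (kg xg17 yg34 zg17) (kg xg10 yg43 zg53) (kg xg6 yg51 zg8) (kg xg17 yg34 zg40) (kg xg8 yg24 zg31) (kg xg6 yg46 zg44) (kg xg4 yg49 zg54) (kg xg6 yg46 zg42) (kg xg6 yg47 zg34) (kg xg6 yg47 zg33) (kg xg11 yg7 zg23) (kg xg11 yg4 zg60) (kg xg8 yg12 zg17) (kg xg6 yg30 zg15) (kg xg6 yg50 zg43) (kg xg11 yg59 zg13) (kg xg12 yg56 zg53) (kg xg5 yg39 zg37) (kg xg17 yg34 zg49) (kg xg6 yg2 zg61) (kg xg14 yg12 zg6) (kg xg10 yg13 zg25)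 (kg xg6 yg43 zg61) (kg xg12 yg25 zg50) (kg xg9 yg21 zg36) (kg xg17 yg34 zg58) (kg xg17 yg27 zg25) (kg xg12 yg40 zg17) (kg xg6 yg24 zg18) (kg xg4 yg50 zg12) (kg xg7 yg20 zg5) (kg xg7 yg31 zg47) (kg xg12 yg14 zg49) (kg xg17 yg34 zg61) (kg xg12 yg20 zg24) (kg xg12 yg15 zg13) (kg xg17 yg34 zg51) (kg xg4 yg50 zg17) (kg xg17 yg34 zg50) (kg xg17 yg35 zg8) (kg xg5 yg45 zg48) (kg xg6 yg48 zg12) (kg xg4 yg50 zg19) (kg xg6 yg48 zg11)) (@D3.rec (fun _ => Pt) (kg xg17 yg35 zg14) (kg xg17 yg35 zg15) (kg xg6 yg54 zg15) (kg xg6 yg9 zg30) (kg xg4 yg50 zg23) (kg xg6 yg9 zg29) (kg xg17 yg35 zg21) (kg xg9 yg28 zg11) (kg xg12 yg20 zg9) (kg xg17 yg35 zg24) (kg xg12 yg18 zg6) (kg xg17 yg35 zg30) (kg xg17 yg35 zg25) (kg xg12 yg20 zg50) (kg xg5 yg21 zg28) (kg xg17 yg35 zg40) (kg xg5 yg21 zg30)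 (kg xg15 yg22 zg20) (kg xg17 yg35 zg44) (kg xg17 yg35 zg45) (kg xg17 yg35 zg47) (kg xg10 yg9 zg47) (kg xg17 yg35 zg52) (kg xg17 yg35 zg53) (kg xg15 yg16 zg32) (kg xg5 yg36 zg4) (kg xg4 yg50 zg40) (kg xg5 yg36 zg2) (kg xg17 yg35 zg61) (kg xg15 yg16 zg9) (kg xg15 yg26 zg1) (kg xg16 yg2 zg24) (kg xg9 yg53 zg17) (kg xg17 yg35 zg58) (kg xg17 yg36 zg6) (kg xg4 yg50 zg43) (kg xg17 yg36 zg7) (kg xg17 yg36 zg18) (kg xg17 yg36 zg12) (kg xg8 yg7 zg10) (kg xg4 yg50 zg44) (kg xg8 yg7 zg9) (kg xg8 yg6 zg43) (kg xg15 yg42 zg51) (kg xg4 yg50 zg51) (kg xg17 yg36 zg26) (kg xg8 yg40 zg30) (kg xg17 yg36 zg32) (kg xg17 yg36 zg34) (kg xg7 yg55 zg28) (kg xg17 yg36 zg40) (kg xg15 yg45 zg1) (kg xg17 yg36 zg42) (kg xg9 yg34 zg25) (kg xg17 yg36 zg48) (kg xg4 yg50 zg55) (kg xg9 yg34 zg22) (kg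 xg17 yg36 zg51) (kg xg4 yg51 zg48) (kg xg4 yg51 zg46) (kg xg17 yg36 zg53) (kg xg4 yg50 zg58)) (@D3.rec (fun _ => Pt) (kg xg17 yg36 zg54) (kg xg17 yg37 zg3) (kg xg17 yg36 zg59) (kg xg17 yg37 zg7) (kg xg9 yg38 zg34) (kg xg17 yg37 zg10) (kg xg8 yg21 zg10) (kg xg15 yg51 zg20) (kg xg4 yg51 zg2) (kg xg8 yg24 zg41) (kg xg16 yg3 zg44) (kg xg17 yg37 zg17) (kg xg9 yg34 zg38) (kg xg8 yg17 zg7) (kg xg8 yg17 zg6) (kg xg17 yg37 zg21) (kg xg8 yg18 zg33) (kg xg17 yg37 zg27) (kg xg8 yg24 zg51) (kg xg4 yg51 zg9) (kg xg8 yg24 zg50) (kg xg17 yg37 zg32) (kg xg9 yg33 zg53) (kg xg17 yg37 zg30) (kg xg17 yg37 zg39) (kg xg9 yg33 zg56) (kg xg4 yg56 zg48) (kg xg17 yg36 zg36) (kg xg4 yg51 zg12) (kg xg17 yg36 zg35) (kg xg17 yg37 zg56) (kg xg17 yg37 zg60) (kg xg4 yg51 zg27) (kg xg17 yg38 zg4) (kg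 xg16 yg8 zg5) (kg xg4 yg51 zg14) (kg xg17 yg38 zg11) (kg xg16 yg3 zg35) (kg xg15 yg34 zg52) (kg xg5 yg1 zg46) (kg xg16 yg22 zg55) (kg xg5 yg1 zg45) (kg xg17 yg38 zg18) (kg xg9 yg52 zg40) (kg xg8 yg25 zg40) (kg xg8 yg30 zg46) (kg xg17 yg38 zg22) (kg xg5 yg21 zg17) (kg xg16 yg3 zg0) (kg xg16 yg8 zg47) (kg xg8 yg43 zg9) (kg xg17 yg38 zg28) (kg xg8 yg37 zg39) (kg xg8 yg40 zg19) (kg xg7 yg55 zg32) (kg xg17 yg36 zg28) (kg xg4 yg51 zg26) (kg xg17 yg36 zg27) (kg xg17 yg38 zg40) (kg xg17 yg38 zg44) (kg xg17 yg38 zg48) (kg xg16 yg9 zg39)) (@D3.rec (fun _ => Pt) (kg xg4 yg51 zg28) (kg xg17 yg38 zg53) (kg xg8 yg40 zg34) (kg xg16 yg1 zg8) (kg xg4 yg51 zg31) (kg xg9 yg38 zg52) (kg xg17 yg38 zg58) (kg xg8 yg42 zg25) (kg xg16 yg1 zg19) (kg xg4 yg51 zg33) (kg xg16 yg1 zg23) (kg xg17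 yg39 zg8) (kg xg17 yg39 zg12) (kg xg4 yg51 zg43) (kg xg4 yg51 zg34) (kg xg17 yg39 zg18) (kg xg15 yg23 zg15) (kg xg4 yg51 zg35) (kg xg16 yg8 zg28) (kg xg16 yg5 zg44) (kg xg15 yg18 zg56) (kg xg11 yg9 zg37) (kg xg4 yg51 zg51) (kg xg15 yg26 zg2) (kg xg9 yg38 zg61) (kg xg17 yg39 zg36) (kg xg8 yg33 zg47) (kg xg16 yg6 zg7) (kg xg17 yg39 zg35) (kg xg4 yg51 zg41) (kg xg17 yg39 zg41) (kg xg17 yg39 zg34) (kg xg17 yg36 zg44) (kg xg4 yg51 zg42) (kg xg17 yg36 zg43) (kg xg15 yg37 zg44) (kg xg13 yg52 zg37) (kg xg15 yg11 zg19) (kg xg17 yg36 zg52) (kg xg4 yg51 zg44) (kg xg15 yg11 zg49) (kg xg9 yg52 zg53) (kg xg9 yg38 zg38) (kg xg4 yg51 zg54) (kg xg14 yg58 zg18) (kg xg5 yg1 zg13) (kg xg16 yg14 zg28) (kg xg4 yg51 zg49) (kg xg16 yg14 zg27) (kg xg17 yg40 zg5) (kg xg17 yg20 zg42) (kg xg4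 yg51 zg53) (kg xg17 yg36 zg45) (kg xg15 yg23 zg24) (kg xg15 yg37 zg45) (kg xg15 yg37 zg41) (kg xg4 yg51 zg52) (kg xg15 yg37 zg40) (kg xg17 yg39 zg11) (kg xg17 yg40 zg25) (kg xg15 yg9 zg60) (kg xg10 yg9 zg1)) (@D3.rec (fun _ => Pt) (kg xg9 yg39 zg4) (kg xg4 yg51 zg56) (kg xg17 yg40 zg18) (kg xg17 yg40 zg39) (kg xg6 yg42 zg42) (kg xg4 yg51 zg57) (kg xg16 yg1 zg13) (kg xg15 yg48 zg55) (kg xg17 yg40 zg47) (kg xg17 yg40 zg32) (kg xg4 yg51 zg58) (kg xg17 yg40 zg57) (kg xg17 yg41 zg1) (kg xg17 yg40 zg48) (kg xg17 yg41 zg5) (kg xg17 yg39 zg61) (kg xg17 yg41 zg11) (kg xg17 yg40 zg17) (kg xg17 yg41 zg15) (kg xg17 yg41 zg18) (kg xg17 yg41 zg22) (kg xg17 yg37 zg9) (kg xg4 yg52 zg1) (kg xg17 yg37 zg8) (kg xg17 yg41 zg33) (kg xg17 yg41 zg36) (kg xg8 yg25 zg6) (kg xg7 yg56 zg0) (kg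 xg14 yg58 zg20) (kg xg15 yg22 zg18) (kg xg10 yg50 zg17) (kg xg8 yg40 zg32) (kg xg8 yg36 zg41) (kg xg9 yg37 zg50) (kg xg12 yg59 zg58) (kg xg6 yg22 zg24) (kg xg4 yg52 zg14) (kg xg4 yg52 zg7) (kg xg4 yg52 zg13) (kg xg13 yg0 zg19) (kg xg16 yg7 zg16) (kg xg17 yg41 zg58) (kg xg17 yg41 zg60) (kg xg6 yg22 zg25) (kg xg4 yg52 zg11) (kg xg15 yg48 zg20) (kg xg15 yg23 zg10) (kg xg17 yg42 zg9) (kg xg16 yg9 zg6) (kg xg4 yg52 zg20) (kg xg8 yg19 zg26) (kg xg14 yg57 zg24) (kg xg11 yg10 zg44) (kg xg15 yg26 zg6) (kg xg9 yg43 zg55) (kg xg8 yg58 zg11) (kg xg17 yg42 zg20) (kg xg8 yg37 zg24) (kg xg16 yg6 zg33) (kg xg4 yg52 zg26) (kg xg4 yg52 zg25) (kg xg17 yg42 zg25)) (@D3.rec (fun _ => Pt) (kg xg9 yg39 zg15) (kg xg17 yg42 zg29) (kg xg17 yg13 zg13) (kg xg4 yg52 zg23) (kg xg17 yg42 zg34) (kg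 xg9 yg37 zg57) (kg xg15 yg38 zg37) (kg xg16 yg7 zg17) (kg xg10 yg19 zg19) (kg xg15 yg24 zg4) (kg xg9 yg37 zg27) (kg xg17 yg39 zg46) (kg xg4 yg52 zg36) (kg xg4 yg52 zg32) (kg xg17 yg39 zg1) (kg xg17 yg42 zg50) (kg xg6 yg27 zg40) (kg xg15 yg46 zg20) (kg xg12 yg25 zg55) (kg xg8 yg40 zg27) (kg xg17 yg40 zg8) (kg xg4 yg53 zg10) (kg xg6 yg47 zg47) (kg xg16 yg6 zg46) (kg xg4 yg53 zg11) (kg xg17 yg43 zg0) (kg xg9 yg37 zg10) (kg xg4 yg52 zg41) (kg xg9 yg37 zg22) (kg xg8 yg40 zg12) (kg xg15 yg47 zg53) (kg xg16 yg9 zg31) (kg xg8 yg7 zg58) (kg xg4 yg52 zg46) (kg xg8 yg7 zg57) (kg xg5 yg59 zg17) (kg xg17 yg43 zg15) (kg xg8 yg7 zg33) (kg xg5 yg20 zg26) (kg xg8 yg6 zg39) (kg xg10 yg35 zg21) (kg xg15 yg9 zg37) (kg xg15 yg39 zg35) (kg xg4 yg52 zg54) (kg xg7 yg58 zg4) (kg xg9 yg36 zg50)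 (kg xg8 yg41 zg17) (kg xg15 yg49 zg4) (kg xg4 yg53 zg5) (kg xg15 yg49 zg1) (kg xg15 yg30 zg4) (kg xg5 yg23 zg29) (kg xg9 yg37 zg5) (kg xg5 yg23 zg60) (kg xg15 yg45 zg41) (kg xg17 yg43 zg31) (kg xg4 yg52 zg61) (kg xg17 yg43 zg30) (kg xg8 yg41 zg39) (kg xg9 yg36 zg29) (kg xg4 yg53 zg8) (kg xg8 yg41 zg32)) (@D3.rec (fun _ => Pt) (kg xg4 yg53 zg3) (kg xg8 yg41 zg31) (kg xg12 yg20 zg55) (kg xg16 yg15 zg33) (kg xg17 yg43 zg50) (kg xg16 yg21 zg6) (kg xg17 yg37 zg29) (kg xg8 yg41 zg15) (kg xg8 yg41 zg10) (kg xg4 yg53 zg6) (kg xg8 yg41 zg9) (kg xg16 yg15 zg2) (kg xg17 yg44 zg5) (kg xg16 yg20 zg50) (kg xg16 yg8 zg7) (kg xg8 yg41 zg37) (kg xg17 yg43 zg61) (kg xg17 yg44 zg15) (kg xg6 yg31 zg43) (kg xg15 yg39 zg47) (kg xg11 yg9 zg46) (kg xg15 yg7 zg35) (kg xg15 yg7 zg36) (kg xg4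 yg53 zg12) (kg xg17 yg44 zg30) (kg xg17 yg44 zg25) (kg xg17 yg43 zg39) (kg xg16 yg20 zg27) (kg xg17 yg43 zg60) (kg xg16 yg19 zg42) (kg xg15 yg7 zg2) (kg xg4 yg53 zg15) (kg xg15 yg7 zg1) (kg xg9 yg34 zg4) (kg xg4 yg53 zg16) (kg xg17 yg44 zg51) (kg xg5 yg27 zg25) (kg xg16 yg8 zg6) (kg xg11 yg3 zg8) (kg xg8 yg35 zg55) (kg xg8 yg25 zg4) (kg xg9 yg35 zg23) (kg xg4 yg53 zg24) (kg xg4 yg53 zg19) (kg xg4 yg53 zg23) (kg xg17 yg6 zg23) (kg xg4 yg53 zg21) (kg xg16 yg7 zg42) (kg xg12 yg20 zg23) (kg xg15 yg6 zg42) (kg xg17 yg45 zg3) (kg xg15 yg49 zg35) (kg xg8 yg31 zg58) (kg xg8 yg39 zg61) (kg xg15 yg25 zg26) (kg xg15 yg30 zg9) (kg xg9 yg35 zg54) (kg xg8 yg28 zg14) (kg xg5 yg32 zg52) (kg xg17 yg45 zg12) (kg xg9 yg37 zg29) (kg xg9 yg35 zg31)) (@D3.rec (fun _ => Pt) (kg xg16 yg0 zg14)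 (kg xg15 yg47 zg47) (kg xg10 yg24 zg2) (kg xg8 yg41 zg28) (kg xg8 yg40 zg22) (kg xg8 yg33 zg31) (kg xg4 yg53 zg42) (kg xg4 yg53 zg38) (kg xg16 yg17 zg5) (kg xg17 yg45 zg23) (kg xg6 yg22 zg16) (kg xg15 yg49 zg8) (kg xg8 yg23 zg1) (kg xg17 yg45 zg24) (kg xg17 yg38 zg37) (kg xg9 yg36 zg40) (kg xg16 yg7 zg22) (kg xg11 yg4 zg48) (kg xg5 yg47 zg53) (kg xg5 yg38 zg38) (kg xg4 yg53 zg57) (kg xg5 yg13 zg5) (kg xg5 yg13 zg4) (kg xg9 yg3 zg17) (kg xg17 yg45 zg35) (kg xg10 yg12 zg31) (kg xg17 yg45 zg40) (kg xg5 yg5 zg25) (kg xg10 yg9 zg32) (kg xg5 yg11 zg59) (kg xg10 yg10 zg13) (kg xg10 yg11 zg50) (kg xg10 yg3 zg21) (kg xg5 yg19 zg16) (kg xg16 yg21 zg54) (kg xg17 yg45 zg51) (kg xg5 yg19 zg39) (kg xg17 yg45 zg57) (kg xg5 yg2 zg15) (kg xg17 yg45 zg61) (kg xg9 yg55 zg5) (kg xg17 yg46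 zg5) (kg xg5 yg3 zg23) (kg xg4 yg54 zg8) (kg xg5 yg3 zg22) (kg xg17 yg46 zg13) (kg xg9 yg54 zg59) (kg xg17 yg46 zg9) (kg xg17 yg46 zg21) (kg xg9 yg54 zg52) (kg xg10 yg12 zg32) (kg xg17 yg46 zg27) (kg xg4 yg54 zg11) (kg xg17 yg46 zg28) (kg xg9 yg40 zg18) (kg xg17 yg46 zg31) (kg xg9 yg40 zg33) (kg xg4 yg54 zg12) (kg xg5 yg6 zg11) (kg xg16 yg35 zg20) (kg xg9 yg40 zg30) (kg xg17 yg46 zg46)) (@D3.rec (fun _ => Pt) (kg xg5 yg2 zg47) (kg xg5 yg6 zg4) (kg xg9 yg56 zg52) (kg xg9 yg58 zg32) (kg xg17 yg46 zg57) (kg xg5 yg12 zg4) (kg xg8 yg44 zg45) (kg xg17 yg46 zg61) (kg xg5 yg19 zg6) (kg xg17 yg47 zg5) (kg xg5 yg10 zg14) (kg xg5 yg9 zg37) (kg xg17 yg47 zg9) (kg xg9 yg55 zg4) (kg xg17 yg47 zg15) (kg xg5 yg10 zg58) (kg xg4 yg54 zg23) (kg xg5 yg10 zg57) (kg xg17 yg47 zg22) (kg xg10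 yg10 zg53) (kg xg9 yg57 zg36) (kg xg17 yg47 zg29) (kg xg10 yg10 zg55) (kg xg17 yg47 zg19) (kg xg17 yg47 zg37) (kg xg4 yg54 zg26) (kg xg17 yg47 zg38) (kg xg17 yg47 zg48) (kg xg17 yg47 zg43) (kg xg9 yg39 zg60) (kg xg4 yg54 zg27) (kg xg5 yg19 zg49) (kg xg17 yg47 zg54) (kg xg9 yg39 zg57) (kg xg17 yg47 zg58) (kg xg4 yg54 zg29) (kg xg17 yg48 zg2) (kg xg10 yg35 zg16) (kg xg10 yg35 zg37) (kg xg17 yg48 zg8) (kg xg10 yg23 zg23) (kg xg10 yg37 zg41) (kg xg17 yg48 zg14) (kg xg9 yg41 zg23) (kg xg15 yg19 zg39) (kg xg4 yg54 zg35) (kg xg4 yg55 zg22) (kg xg9 yg41 zg20) (kg xg17 yg48 zg22) (kg xg4 yg55 zg33) (kg xg4 yg55 zg31) (kg xg17 yg48 zg26) (kg xg9 yg41 zg14) (kg xg17 yg48 zg25) (kg xg17 yg48 zg32) (kg xg4 yg54 zg39) (kg xg17 yg48 zg33) (kg xg10 yg35 zg8) (kg xg17 yg48 zg36) (kg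 xg4 yg54 zg40) (kg xg10 yg26 zg56) (kg xg10 yg42 zg41)) (@D3.rec (fun _ => Pt) (kg xg8 yg13 zg32) (kg xg17 yg48 zg48) (kg xg5 yg29 zg17) (kg xg16 yg13 zg38) (kg xg4 yg54 zg45) (kg xg5 yg35 zg60) (kg xg15 yg3 zg10) (kg xg16 yg9 zg29) (kg xg17 yg48 zg56) (kg xg5 yg23 zg11) (kg xg15 yg1 zg16) (kg xg17 yg48 zg61) (kg xg10 yg36 zg49) (kg xg17 yg49 zg1) (kg xg5 yg24 zg1) (kg xg17 yg49 zg7) (kg xg5 yg36 zg17) (kg xg4 yg54 zg55) (kg xg5 yg36 zg16) (kg xg17 yg49 zg12) (kg xg9 yg40 zg43) (kg xg11 yg19 zg29) (kg xg17 yg49 zg20) (kg xg9 yg40 zg47) (kg xg15 yg24 zg19) (kg xg17 yg48 zg10) (kg xg4 yg54 zg58) (kg xg17 yg48 zg9) (kg xg17 yg49 zg32) (kg xg17 yg49 zg36) (kg xg4 yg55 zg12) (kg xg17 yg49 zg42) (kg xg13 yg10 zg45) (kg xg4 yg54 zg60) (kg xg17 yg49 zg51) (kg xg10 yg35 zg38)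 (kg xg10 yg35 zg11) (kg xg8 yg13 zg49) (kg xg17 yg49 zg57) (kg xg8 yg13 zg48) (kg xg17 yg50 zg0) (kg xg15 yg27 zg57) (kg xg15 yg59 zg29) (kg xg5 yg15 zg35) (kg xg17 yg50 zg4) (kg xg5 yg14 zg61) (kg xg9 yg25 zg24) (kg xg8 yg26 zg48) (kg xg8 yg26 zg47) (kg xg17 yg50 zg9) (kg xg5 yg23 zg50) (kg xg4 yg55 zg10) (kg xg5 yg39 zg15) (kg xg17 yg48 zg4) (kg xg4 yg55 zg11) (kg xg17 yg48 zg3) (kg xg17 yg50 zg20) (kg xg17 yg50 zg22) (kg xg17 yg50 zg24) (kg xg16 yg51 zg12) (kg xg4 yg55 zg13) (kg xg17 yg50 zg32)) (@D3.rec (fun _ => Pt) (kg xg10 yg37 zg44) (kg xg5 yg23 zg34) (kg xg16 yg40 zg45) (kg xg4 yg55 zg16) (kg xg5 yg8 zg46) (kg xg15 yg3 zg22) (kg xg17 yg50 zg38) (kg xg15 yg25 zg60) (kg xg16 yg40 zg53) (kg xg4 yg55 zg18) (kg xg16 yg40 zg56) (kg xg17 yg50 zg47) (kg xg4 yg55 zg28)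 (kg xg4 yg55 zg19) (kg xg17 yg50 zg54) (kg xg17 yg48 zg19) (kg xg4 yg55 zg20) (kg xg16 yg45 zg53) (kg xg10 yg38 zg52) (kg xg17 yg51 zg0) (kg xg4 yg55 zg36) (kg xg17 yg46 zg12) (kg xg9 yg57 zg37) (kg xg10 yg20 zg20) (kg xg17 yg51 zg7) (kg xg8 yg18 zg31) (kg xg16 yg46 zg27) (kg xg8 yg27 zg1) (kg xg4 yg55 zg26) (kg xg8 yg26 zg61) (kg xg17 yg48 zg15) (kg xg4 yg55 zg27) (kg xg17 yg33 zg42) (kg xg17 yg51 zg19) (kg xg17 yg51 zg20) (kg xg10 yg15 zg13) (kg xg17 yg48 zg24) (kg xg4 yg55 zg29) (kg xg17 yg51 zg28) (kg xg15 yg20 zg27) (kg xg17 yg48 zg31) (kg xg15 yg25 zg59) (kg xg4 yg55 zg39) (kg xg4 yg55 zg32) (kg xg17 yg51 zg36) (kg xg8 yg13 zg26) (kg xg17 yg48 zg28) (kg xg4 yg55 zg34) (kg xg17 yg48 zg27) (kg xg16 yg47 zg44) (kg xg17 yg51 zg53) (kg xg16 yg9 zg14) (kg xg4 yg55 zg38)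 (kg xg17 yg51 zg59) (kg xg15 yg38 zg43) (kg xg10 yg38 zg50) (kg xg10 yg38 zg45) (kg xg4 yg55 zg37) (kg xg10 yg38 zg44) (kg xg8 yg43 zg56) (kg xg6 yg36 zg40) (kg xg5 yg5 zg39)) (@D3.rec (fun _ => Pt) (kg xg17 yg52 zg7) (kg xg15 yg3 zg26) (kg xg4 yg55 zg41) (kg xg17 yg52 zg3) (kg xg9 yg14 zg36) (kg xg12 yg56 zg5) (kg xg6 yg20 zg26) (kg xg9 yg43 zg37) (kg xg9 yg58 zg51) (kg xg4 yg55 zg43) (kg xg9 yg43 zg38) (kg xg17 yg51 zg42) (kg xg5 yg25 zg33) (kg xg14 yg58 zg22) (kg xg5 yg16 zg50) (kg xg17 yg52 zg22) (kg xg10 yg25 zg56) (kg xg4 yg55 zg48) (kg xg10 yg27 zg9) (kg xg17 yg52 zg28) (kg xg15 yg24 zg28) (kg xg4 yg55 zg50) (kg xg8 yg38 zg35) (kg xg15 yg25 zg10) (kg xg17 yg52 zg38) (kg xg17 yg48 zg20) (kg xg8 yg26 zg26) (kg xg10 yg35 zg17) (kg xg9 yg0 zg6) (kg xg8 yg26 zg55)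 (kg xg8 yg8 zg23) (kg xg16 yg22 zg10) (kg xg8 yg2 zg55) (kg xg9 yg58 zg6) (kg xg15 yg14 zg31) (kg xg15 yg2 zg40) (kg xg10 yg12 zg33) (kg xg9 yg43 zg10) (kg xg9 yg43 zg7) (kg xg9 yg42 zg33) (kg xg10 yg48 zg61) (kg xg9 yg0 zg45) (kg xg15 yg20 zg24) (kg xg4 yg56 zg7) (kg xg4 yg56 zg1) (kg xg4 yg56 zg6) (kg xg17 yg52 zg58) (kg xg15 yg3 zg46) (kg xg17 yg53 zg1) (kg xg14 yg50 zg30) (kg xg4 yg56 zg4) (kg xg14 yg50 zg27) (kg xg15 yg20 zg30) (kg xg15 yg2 zg18) (kg xg10 yg39 zg48) (kg xg15 yg6 zg43) (kg xg8 yg26 zg56) (kg xg9 yg51 zg34) (kg xg8 yg8 zg36) (kg xg11 yg57 zg33) (kg xg10 yg54 zg47) (kg xg10 yg17 zg0)) (@D3.rec (fun _ => Pt) (kg xg5 yg28 zg60) (kg xg6 yg4 zg13) (kg xg4 yg56 zg12) (kg xg10 yg57 zg9) (kg xg17 yg53 zg22) (kg xg4 yg56 zg18) (kg xg17 yg50 zg41) (kg xg6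 yg3 zg51) (kg xg4 yg56 zg19) (kg xg5 yg28 zg53) (kg xg8 yg57 zg36) (kg xg6 yg47 zg36) (kg xg9 yg51 zg14) (kg xg10 yg41 zg20) (kg xg8 yg57 zg61) (kg xg8 yg58 zg19) (kg xg17 yg53 zg35) (kg xg17 yg53 zg37) (kg xg15 yg8 zg58) (kg xg12 yg42 zg59) (kg xg4 yg56 zg20) (kg xg9 yg51 zg5) (kg xg4 yg56 zg23) (kg xg17 yg53 zg42) (kg xg10 yg52 zg58) (kg xg10 yg52 zg39) (kg xg8 yg14 zg44) (kg xg4 yg56 zg27) (kg xg10 yg14 zg31) (kg xg15 yg52 zg41) (kg xg8 yg28 zg6) (kg xg11 yg2 zg34) (kg xg11 yg2 zg55) (kg xg8 yg5 zg14) (kg xg4 yg56 zg33) (kg xg5 yg49 zg12) (kg xg4 yg56 zg36) (kg xg9 yg8 zg32) (kg xg8 yg47 zg26) (kg xg12 yg8 zg35) (kg xg4 yg56 zg41) (kg xg4 yg56 zg39) (kg xg15 yg3 zg53) (kg xg8 yg12 zg23) (kg xg15 yg7 zg10) (kg xg5 yg27 zg13) (kg xg11 yg27 zg41) (kg xg12 yg5 zg29)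 (kg xg17 yg53 zg56) (kg xg8 yg42 zg41) (kg xg4 yg56 zg46) (kg xg8 yg42 zg40) (kg xg17 yg54 zg3) (kg xg17 yg54 zg7) (kg xg15 yg11 zg30) (kg xg8 yg43 zg20) (kg xg17 yg54 zg15) (kg xg8 yg41 zg7) (kg xg8 yg42 zg57) (kg xg11 yg15 zg6) (kg xg17 yg54 zg24) (kg xg17 yg54 zg27)) (@D3.rec (fun _ => Pt) (kg xg13 yg18 zg56) (kg xg8 yg43 zg33) (kg xg4 yg56 zg56) (kg xg8 yg43 zg32) (kg xg10 yg39 zg38) (kg xg16 yg20 zg1) (kg xg17 yg54 zg39) (kg xg8 yg43 zg59) (kg xg4 yg56 zg60) (kg xg8 yg43 zg58) (kg xg8 yg1 zg51) (kg xg17 yg54 zg47) (kg xg5 yg0 zg6) (kg xg6 yg8 zg53) (kg xg4 yg57 zg30) (kg xg4 yg57 zg5) (kg xg5 yg42 zg2) (kg xg17 yg54 zg55) (kg xg5 yg40 zg23) (kg xg5 yg44 zg34) (kg xg5 yg43 zg26) (kg xg17 yg54 zg61) (kg xg5 yg43 zg45) (kg xg14 yg50 zg8) (kg xg4 yg57 zg22) (kg xg4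 yg57 zg11) (kg xg8 yg33 zg8) (kg xg13 yg53 zg9) (kg xg7 yg20 zg15) (kg xg11 yg16 zg48) (kg xg16 yg51 zg51) (kg xg12 yg8 zg51) (kg xg5 yg40 zg54) (kg xg15 yg3 zg48) (kg xg7 yg0 zg43) (kg xg6 yg15 zg32) (kg xg5 yg41 zg50) (kg xg17 yg55 zg12) (kg xg5 yg42 zg8) (kg xg17 yg55 zg15) (kg xg17 yg55 zg18) (kg xg13 yg53 zg6) (kg xg17 yg55 zg24) (kg xg4 yg57 zg23) (kg xg12 yg31 zg59) (kg xg5 yg41 zg9) (kg xg5 yg38 zg29) (kg xg6 yg4 zg18) (kg xg11 yg19 zg57) (kg xg4 yg57 zg41) (kg xg4 yg57 zg29) (kg xg4 yg57 zg40) (kg xg17 yg55 zg33) (kg xg8 yg34 zg24) (kg xg13 yg53 zg11) (kg xg7 yg25 zg22) (kg xg5 yg41 zg29) (kg xg17 yg55 zg38) (kg xg13 yg58 zg20) (kg xg13 yg58 zg28) (kg xg4 yg57 zg35) (kg xg15 yg3 zg43)) (@D3.rec (fun _ => Pt) (kg xg17 yg55 zg45) (kg xg17 yg55 zg47) (kg xg5 yg44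 zg44) (kg xg5 yg44 zg43) (kg xg17 yg55 zg52) (kg xg16 yg2 zg35) (kg xg4 yg57 zg37) (kg xg7 yg28 zg60) (kg xg13 yg59 zg7) (kg xg17 yg55 zg60) (kg xg17 yg55 zg61) (kg xg17 yg56 zg1) (kg xg17 yg56 zg4) (kg xg11 yg48 zg20) (kg xg13 yg53 zg7) (kg xg5 yg52 zg49) (kg xg17 yg56 zg15) (kg xg12 yg31 zg52) (kg xg17 yg54 zg49) (kg xg4 yg57 zg42) (kg xg14 yg50 zg10) (kg xg11 yg42 zg61) (kg xg5 yg52 zg38) (kg xg4 yg58 zg15) (kg xg4 yg57 zg45) (kg xg11 yg32 zg29) (kg xg10 yg49 zg43) (kg xg17 yg56 zg26) (kg xg17 yg56 zg28) (kg xg17 yg56 zg27) (kg xg17 yg56 zg32) (kg xg17 yg56 zg34) (kg xg4 yg57 zg49) (kg xg5 yg7 zg41) (kg xg11 yg26 zg28) (kg xg5 yg4 zg18) (kg xg12 yg4 zg39) (kg xg17 yg56 zg43) (kg xg15 yg30 zg38) (kg xg4 yg57 zg54) (kg xg4 yg57 zg55) (kg xg5 yg38 zg13) (kg xg16 yg29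 zg35) (kg xg17 yg56 zg48) (kg xg9 yg13 zg10) (kg xg5 yg26 zg37) (kg xg11 yg12 zg11) (kg xg5 yg38 zg33) (kg xg5 yg38 zg10) (kg xg11 yg27 zg57) (kg xg11 yg31 zg21) (kg xg6 yg46 zg31) (kg xg4 yg57 zg60) (kg xg11 yg22 zg52) (kg xg17 yg56 zg53) (kg xg5 yg30 zg33) (kg xg17 yg56 zg58) (kg xg14 yg44 zg23) (kg xg9 yg10 zg27) (kg xg17 yg56 zg59) (kg xg15 yg5 zg60) (kg xg8 yg47 zg25)) (@D3.rec (fun _ => Pt) (kg xg4 yg58 zg2) (kg xg17 yg57 zg11) (kg xg8 yg47 zg23) (kg xg8 yg1 zg58) (kg xg17 yg57 zg16) (kg xg15 yg10 zg16) (kg xg15 yg20 zg54) (kg xg15 yg5 zg44) (kg xg17 yg57 zg25) (kg xg17 yg57 zg15) (kg xg17 yg57 zg30) (kg xg17 yg57 zg34) (kg xg8 yg47 zg41) (kg xg4 yg58 zg9) (kg xg17 yg57 zg36) (kg xg17 yg57 zg39) (kg xg11 yg32 zg39) (kg xg13 yg32 zg6) (kg xg12 yg16 zg9) (kg xg9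 yg30 zg39) (kg xg11 yg56 zg3) (kg xg11 yg32 zg26) (kg xg5 yg8 zg21) (kg xg6 yg8 zg6) (kg xg4 yg59 zg54) (kg xg11 yg24 zg23) (kg xg9 yg48 zg13) (kg xg4 yg58 zg23) (kg xg7 yg38 zg22) (kg xg5 yg51 zg29) (kg xg15 yg26 zg18) (kg xg4 yg58 zg30) (kg xg10 yg18 zg16) (kg xg8 yg12 zg39) (kg xg4 yg58 zg26) (kg xg5 yg5 zg60) (kg xg5 yg7 zg55) (kg xg6 yg51 zg6) (kg xg5 yg7 zg35) (kg xg11 yg24 zg61) (kg xg11 yg42 zg31) (kg xg12 yg28 zg49) (kg xg11 yg58 zg58) (kg xg4 yg58 zg36) (kg xg5 yg51 zg37) (kg xg17 yg58 zg0) (kg xg9 yg25 zg49) (kg xg10 yg18 zg59) (kg xg9 yg25 zg57) (kg xg11 yg24 zg24) (kg xg9 yg7 zg25) (kg xg8 yg46 zg44) (kg xg4 yg59 zg1) (kg xg4 yg58 zg40) (kg xg17 yg58 zg9) (kg xg9 yg15 zg23) (kg xg10 yg18 zg60) (kg xg11 yg42 zg10) (kg xg11 yg24 zg30) (kg xg10 yg19 zg2) (kg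 xg10 yg7 zg10) (kg xg10 yg19 zg3)) (@D3.rec (fun _ => Pt) (kg xg16 yg59 zg3) (kg xg6 yg7 zg51) (kg xg17 yg58 zg15) (kg xg10 yg18 zg47) (kg xg17 yg58 zg18) (kg xg11 yg58 zg11) (kg xg11 yg58 zg15) (kg xg11 yg42 zg19) (kg xg5 yg52 zg23) (kg xg6 yg0 zg41) (kg xg16 yg26 zg17) (kg xg16 yg26 zg29) (kg xg17 yg58 zg26) (kg xg9 yg47 zg27) (kg xg9 yg48 zg16) (kg xg9 yg48 zg14) (kg xg4 yg58 zg58) (kg xg14 yg20 zg44) (kg xg9 yg8 zg45) (kg xg11 yg27 zg42) (kg xg17 yg0 zg50) (kg xg6 yg51 zg56) (kg xg4 yg58 zg60) (kg xg17 yg9 zg4) (kg xg4 yg58 zg61) (kg xg5 yg57 zg27) (kg xg9 yg15 zg25) (kg xg9 yg7 zg53) (kg xg17 yg13 zg0) (kg xg9 yg10 zg44) (kg xg12 yg29 zg42) (kg xg4 yg59 zg2) (kg xg6 yg21 zg19) (kg xg11 yg42 zg12) (kg xg5 yg58 zg52) (kg xg5 yg32 zg46) (kg xg17 yg55 zg30) (kg xg4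 yg59 zg4) (kg xg17 yg58 zg52) (kg xg5 yg52 zg53) (kg xg11 yg20 zg34) (kg xg11 yg55 zg43) (kg xg5 yg58 zg58) (kg xg16 yg59 zg5) (kg xg4 yg59 zg8) (kg xg17 yg58 zg61) (kg xg6 yg1 zg39) (kg xg11 yg28 zg20) (kg xg16 yg49 zg11) (kg xg9 yg8 zg2) (kg xg12 yg24 zg7) (kg xg12 yg42 zg57) (kg xg5 yg48 zg60) (kg xg17 yg31 zg6) (kg xg14 yg12 zg25) (kg xg6 yg36 zg20) (kg xg4 yg59 zg16) (kg xg17 yg59 zg16) (kg xg4 yg59 zg17) (kg xg17 yg59 zg20) (kg xg4 yg59 zg50) (kg xg11 yg48 zg6)) (@D3.rec (fun _ => Pt) (kg xg12 yg43 zg1) (kg xg11 yg40 zg30) (kg xg12 yg31 zg42) (kg xg17 yg5 zg24) (kg xg4 yg59 zg21) (kg xg17 yg59 zg30) (kg xg5 yg48 zg30) (kg xg17 yg59 zg34) (kg xg9 yg59 zg37) (kg xg6 yg49 zg2) (kg xg4 yg59 zg55) (kg xg9 yg12 zg56) (kg xg12 yg42 zg12) (kg xg4 yg59 zg34) (kg xg4 yg59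 zg25) (kg xg17 yg59 zg42) (kg xg9 yg12 zg0) (kg xg4 yg59 zg26) (kg xg17 yg59 zg44) (kg xg17 yg7 zg30) (kg xg11 yg43 zg52) (kg xg12 yg25 zg38) (kg xg10 yg57 zg15) (kg xg17 yg59 zg52) (kg xg10 yg57 zg3) (kg xg13 yg10 zg59) (kg xg17 yg7 zg45) (kg xg12 yg17 zg45) (kg xg11 yg49 zg51) (kg xg9 yg12 zg7) (kg xg9 yg18 zg12) (kg xg16 yg7 zg30) (kg xg17 yg59 zg61) (kg xg18 yg0 zg0) (kg xg12 yg17 zg3) (kg xg4 yg59 zg35) (kg xg5 yg11 zg43) (kg xg17 yg8 zg0) (kg xg4 yg59 zg44) (kg xg4 yg59 zg37) (kg xg5 yg50 zg24) (kg xg14 yg32 zg8) (kg xg4 yg59 zg39) (kg xg14 yg12 zg22) (kg xg9 yg17 zg50) (kg xg18 yg0 zg17) (kg xg18 yg0 zg21) (kg xg18 yg0 zg25) (kg xg11 yg43 zg50) (kg xg11 yg43 zg46) (kg xg4 yg59 zg42) (kg xg9 yg25 zg29) (kg xg12 yg38 zg53) (kg xg12 yg40 zg54) (kg xg12 yg36 zg7)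 (kg xg5 yg50 zg34) (kg xg16 yg54 zg17) (kg xg18 yg0 zg31) (kg xg8 yg46 zg26) (kg xg13 yg20 zg29) (kg xg17 yg23 zg48) (kg xg4 yg59 zg47)) (@D3.rec (fun _ => Pt) (kg xg18 yg0 zg41) (kg xg17 yg23 zg46) (kg xg18 yg0 zg46) (kg xg18 yg0 zg49) (kg xg18 yg0 zg52) (kg xg17 yg20 zg39) (kg xg17 yg4 zg48) (kg xg18 yg0 zg53) (kg xg17 yg59 zg23) (kg xg4 yg59 zg51) (kg xg14 yg46 zg54) (kg xg17 yg59 zg21) (kg xg17 yg34 zg18) (kg xg4 yg59 zg53) (kg xg18 yg1 zg13) (kg xg17 yg4 zg24) (kg xg18 yg1 zg16) (kg xg16 yg57 zg51) (kg xg4 yg59 zg59) (kg xg12 yg43 zg40) (kg xg18 yg1 zg25) (kg xg12 yg43 zg27) (kg xg4 yg59 zg60) (kg xg4 yg59 zg56) (kg xg4 yg59 zg57) (kg xg12 yg17 zg29) (kg xg5 yg50 zg10) (kg xg5 yg53 zg48) (kg xg18 yg1 zg31) (kg xg17 yg8 zg41) (kg xg11 yg6 zg41) (kg xg6 yg30 zg39)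 (kg xg6 yg47 zg17) (kg xg17 yg34 zg35) (kg xg12 yg25 zg36) (kg xg11 yg33 zg54) (kg xg6 yg46 zg38) (kg xg6 yg30 zg6) (kg xg17 yg34 zg19) (kg xg5 yg0 zg2) (kg xg11 yg56 zg11) (kg xg11 yg8 zg2) (kg xg5 yg59 zg13) (kg xg11 yg38 zg3) (kg xg5 yg59 zg11) (kg xg18 yg1 zg50) (kg xg5 yg53 zg12) (kg xg18 yg1 zg56) (kg xg17 yg54 zg50) (kg xg5 yg0 zg7) (kg xg18 yg2 zg2) (kg xg11 yg43 zg12) (kg xg11 yg31 zg29) (kg xg5 yg50 zg26) (kg xg5 yg51 zg39) (kg xg15 yg5 zg41) (kg xg5 yg0 zg11) (kg xg10 yg12 zg11) (kg xg9 yg15 zg43) (kg xg15 yg5 zg5) (kg xg11 yg47 zg7) (kg xg15 yg5 zg39)) (@D3.rec (fun _ => Pt) (kg xg8 yg49 zg56) (kg xg5 yg0 zg19) (kg xg8 yg49 zg58) (kg xg11 yg7 zg15) (kg xg12 yg31 zg3) (kg xg9 yg44 zg22) (kg xg16 yg13 zg27) (kg xg6 yg45 zg38) (kg xg11 yg51 zg58) (kg xg5 yg0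 zg24) (kg xg11 yg51 zg57) (kg xg11 yg29 zg31) (kg xg16 yg46 zg20) (kg xg5 yg31 zg56) (kg xg9 yg44 zg1) (kg xg17 yg56 zg55) (kg xg5 yg0 zg27) (kg xg17 yg56 zg54) (kg xg18 yg2 zg30) (kg xg16 yg57 zg21) (kg xg11 yg8 zg20) (kg xg6 yg15 zg51) (kg xg6 yg16 zg32) (kg xg6 yg13 zg13) (kg xg18 yg2 zg34) (kg xg18 yg2 zg37) (kg xg13 yg38 zg28) (kg xg16 yg45 zg42) (kg xg9 yg43 zg53) (kg xg14 yg43 zg44) (kg xg5 yg35 zg34) (kg xg15 yg53 zg39) (kg xg10 yg57 zg44) (kg xg5 yg35 zg26) (kg xg9 yg43 zg54) (kg xg11 yg2 zg37) (kg xg5 yg0 zg39) (kg xg11 yg2 zg36) (kg xg16 yg10 zg57) (kg xg9 yg0 zg30) (kg xg5 yg0 zg40) (kg xg18 yg2 zg59) (kg xg18 yg2 zg61) (kg xg8 yg7 zg17) (kg xg9 yg0 zg33) (kg xg15 yg3 zg20) (kg xg16 yg49 zg52) (kg xg5 yg0 zg43) (kg xg16 yg41 zg15) (kg xg18 yg3 zg11) (kg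 xg5 yg35 zg15) (kg xg18 yg3 zg15) (kg xg5 yg15 zg12) (kg xg5 yg0 zg46) (kg xg18 yg3 zg20) (kg xg15 yg14 zg38) (kg xg18 yg3 zg24) (kg xg5 yg19 zg46) (kg xg15 yg19 zg53) (kg xg16 yg22 zg59) (kg xg9 yg52 zg43) (kg xg18 yg3 zg35)) (@D3.rec (fun _ => Pt) (kg xg5 yg0 zg50) (kg xg5 yg1 zg38) (kg xg18 yg3 zg41) (kg xg9 yg52 zg37) (kg xg10 yg12 zg12) (kg xg18 yg3 zg49) (kg xg9 yg52 zg31) (kg xg17 yg38 zg16) (kg xg18 yg3 zg56) (kg xg5 yg0 zg53) (kg xg18 yg3 zg57) (kg xg18 yg4 zg4) (kg xg18 yg3 zg60) (kg xg5 yg2 zg0) (kg xg5 yg0 zg54) (kg xg18 yg4 zg11) (kg xg10 yg9 zg27) (kg xg5 yg28 zg12) (kg xg18 yg4 zg15) (kg xg6 yg5 zg43) (kg xg5 yg0 zg60) (kg xg18 yg4 zg19) (kg xg5 yg18 zg16) (kg xg10 yg2 zg35) (kg xg15 yg30 zg52) (kg xg5 yg0 zg61) (kg xg10 yg10 zg15) (kg xg18 yg4 zg26)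 (kg xg8 yg40 zg45) (kg xg10 yg19 zg54) (kg xg18 yg4 zg31) (kg xg9 yg52 zg3) (kg xg18 yg4 zg37) (kg xg10 yg8 zg7) (kg xg5 yg1 zg4) (kg xg10 yg10 zg21) (kg xg18 yg4 zg44) (kg xg9 yg52 zg6) (kg xg8 yg4 zg45) (kg xg18 yg4 zg51) (kg xg9 yg51 zg60) (kg xg18 yg4 zg42) (kg xg17 yg44 zg52) (kg xg9 yg34 zg43) (kg xg8 yg4 zg5) (kg xg18 yg3 zg26) (kg xg5 yg1 zg9) (kg xg18 yg3 zg25) (kg xg18 yg5 zg4) (kg xg14 yg15 zg32) (kg xg5 yg1 zg25) (kg xg18 yg5 zg10) (kg xg5 yg1 zg11) (kg xg9 yg33 zg57) (kg xg16 yg15 zg22) (kg xg9 yg52 zg28) (kg xg9 yg54 zg48) (kg xg9 yg40 zg2) (kg xg18 yg4 zg41) (kg xg17 yg45 zg34) (kg xg5 yg1 zg18) (kg xg16 yg22 zg7)) (@D3.rec (fun _ => Pt) (kg xg9 yg3 zg6) (kg xg18 yg5 zg17) (kg xg9 yg53 zg11) (kg xg15 yg22 zg2) (kg xg18 yg3 zg22) (kg xg5 yg1 zg24) (kg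 xg18 yg3 zg21) (kg xg18 yg5 zg27) (kg xg18 yg5 zg30) (kg xg15 yg19 zg51) (kg xg10 yg7 zg40) (kg xg15 yg54 zg1) (kg xg10 yg7 zg31) (kg xg5 yg39 zg14) (kg xg5 yg1 zg28) (kg xg18 yg5 zg39) (kg xg18 yg5 zg42) (kg xg9 yg33 zg29) (kg xg18 yg5 zg47) (kg xg10 yg15 zg9) (kg xg15 yg30 zg59) (kg xg5 yg1 zg32) (kg xg10 yg11 zg53) (kg xg18 yg5 zg52) (kg xg10 yg9 zg33) (kg xg14 yg15 zg21) (kg xg5 yg1 zg34) (kg xg17 yg38 zg19) (kg xg18 yg6 zg0) (kg xg18 yg6 zg2) (kg xg5 yg1 zg42) (kg xg5 yg1 zg35) (kg xg18 yg6 zg5) (kg xg18 yg3 zg38) (kg xg5 yg1 zg36) (kg xg18 yg6 zg14) (kg xg18 yg3 zg36) (kg xg18 yg3 zg48) (kg xg15 yg53 zg26) (kg xg5 yg1 zg49) (kg xg15 yg53 zg43) (kg xg15 yg3 zg21) (kg xg17 yg45 zg39) (kg xg5 yg1 zg40) (kg xg17 yg45 zg38) (kg xg18 yg3 zg31) (kg xg5 yg1 zg41) (kg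 xg18 yg3 zg30) (kg xg18 yg6 zg26) (kg xg9 yg45 zg0) (kg xg17 yg54 zg41) (kg xg7 yg33 zg31) (kg xg5 yg1 zg43) (kg xg17 yg54 zg31) (kg xg17 yg38 zg17) (kg xg18 yg3 zg55) (kg xg8 yg28 zg5) (kg xg5 yg1 zg52) (kg xg18 yg3 zg51) (kg xg5 yg1 zg47) (kg xg18 yg3 zg50) (kg xg18 yg6 zg52)) (@D3.rec (fun _ => Pt) (kg xg18 yg6 zg55) (kg xg16 yg15 zg61) (kg xg5 yg1 zg51) (kg xg5 yg1 zg48) (kg xg18 yg7 zg2) (kg xg18 yg7 zg6) (kg xg18 yg3 zg39) (kg xg18 yg3 zg43) (kg xg5 yg1 zg50) (kg xg18 yg3 zg42) (kg xg18 yg7 zg19) (kg xg16 yg15 zg11) (kg xg17 yg43 zg54) (kg xg17 yg44 zg37) (kg xg10 yg12 zg49) (kg xg5 yg1 zg54) (kg xg5 yg1 zg57) (kg xg18 yg7 zg13) (kg xg12 yg35 zg3) (kg xg18 yg7 zg38) (kg xg17 yg30 zg27) (kg xg5 yg1 zg55) (kg xg18 yg7 zg44) (kg xg10 yg11 zg59) (kg xg18 yg7 zg0)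 (kg xg18 yg6 zg37) (kg xg18 yg7 zg51) (kg xg18 yg7 zg29) (kg xg5 yg1 zg56) (kg xg18 yg7 zg60) (kg xg13 yg13 zg30) (kg xg18 yg7 zg52) (kg xg18 yg8 zg6) (kg xg18 yg6 zg44) (kg xg18 yg8 zg12) (kg xg18 yg7 zg12) (kg xg18 yg8 zg17) (kg xg18 yg8 zg21) (kg xg18 yg8 zg24) (kg xg18 yg4 zg13) (kg xg5 yg1 zg61) (kg xg18 yg4 zg12) (kg xg18 yg8 zg36) (kg xg8 yg4 zg35) (kg xg5 yg2 zg1) (kg xg16 yg18 zg32) (kg xg8 yg26 zg14) (kg xg8 yg5 zg38) (kg xg15 yg11 zg12) (kg xg18 yg3 zg40) (kg xg9 yg52 zg56) (kg xg12 yg7 zg11) (kg xg9 yg39 zg46) (kg xg18 yg8 zg57) (kg xg10 yg10 zg58) (kg xg5 yg2 zg5) (kg xg10 yg10 zg57) (kg xg5 yg15 zg1) (kg xg18 yg9 zg3) (kg xg9 yg39 zg49) (kg xg16 yg34 zg42) (kg xg5 yg2 zg8)) (@D3.rec (fun _ => Pt) (kg xg5 yg3 zg0) (kg xg18 yg9 zg12) (kg xg9 yg39 zg40) (kg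 xg18 yg8 zg61) (kg xg5 yg3 zg19) (kg xg5 yg10 zg54) (kg xg5 yg2 zg59) (kg xg10 yg11 zg2) (kg xg5 yg2 zg11) (kg xg10 yg11 zg1) (kg xg18 yg9 zg30) (kg xg18 yg9 zg34) (kg xg18 yg9 zg37) (kg xg17 yg45 zg60) (kg xg5 yg2 zg13) (kg xg18 yg9 zg46) (kg xg17 yg45 zg58) (kg xg17 yg39 zg43) (kg xg18 yg9 zg50) (kg xg8 yg26 zg10) (kg xg10 yg28 zg4) (kg xg10 yg0 zg38) (kg xg18 yg9 zg57) (kg xg5 yg9 zg10) (kg xg16 yg20 zg7) (kg xg10 yg7 zg32) (kg xg5 yg2 zg18) (kg xg10 yg10 zg32) (kg xg5 yg2 zg19) (kg xg10 yg10 zg31) (kg xg5 yg11 zg32) (kg xg18 yg10 zg10) (kg xg12 yg12 zg26) (kg xg10 yg10 zg28) (kg xg5 yg2 zg21) (kg xg9 yg59 zg14) (kg xg10 yg10 zg27) (kg xg10 yg9 zg53) (kg xg10 yg2 zg18) (kg xg5 yg2 zg30) (kg xg10 yg10 zg24) (kg xg5 yg2 zg25) (kg xg10 yg10 zg23) (kg xg9 yg59 zg53)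 (kg xg18 yg10 zg5) (kg xg10 yg55 zg42) (kg xg10 yg2 zg23) (kg xg5 yg2 zg28) (kg xg9 yg42 zg61) (kg xg10 yg31 zg60) (kg xg5 yg16 zg38) (kg xg18 yg10 zg26) (kg xg18 yg10 zg29) (kg xg9 yg58 zg4) (kg xg10 yg2 zg17) (kg xg10 yg2 zg14) (kg xg5 yg2 zg31) (kg xg10 yg2 zg13) (kg xg18 yg10 zg36) (kg xg10 yg27 zg6) (kg xg6 yg29 zg0) (kg xg18 yg10 zg33)) (@D3.rec (fun _ => Pt) (kg xg18 yg10 zg42) (kg xg9 yg57 zg48) (kg xg18 yg10 zg45) (kg xg12 yg2 zg60) (kg xg18 yg10 zg43) (kg xg5 yg11 zg0) (kg xg5 yg3 zg8) (kg xg17 yg16 zg31) (kg xg10 yg11 zg21) (kg xg5 yg2 zg36) (kg xg18 yg10 zg57) (kg xg17 yg42 zg24) (kg xg5 yg2 zg37) (kg xg10 yg10 zg47) (kg xg5 yg2 zg38) (kg xg10 yg3 zg61) (kg xg9 yg42 zg53) (kg xg18 yg10 zg32) (kg xg10 yg0 zg40) (kg xg15 yg9 zg47) (kg xg18 yg11 zg9) (kg xg18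 yg10 zg18) (kg xg6 yg29 zg11) (kg xg18 yg11 zg14) (kg xg15 yg0 zg46) (kg xg17 yg46 zg47) (kg xg18 yg11 zg21) (kg xg8 yg52 zg3) (kg xg18 yg9 zg20) (kg xg18 yg11 zg28) (kg xg10 yg21 zg4) (kg xg10 yg24 zg56) (kg xg18 yg11 zg35) (kg xg10 yg32 zg61) (kg xg18 yg11 zg41) (kg xg5 yg2 zg54) (kg xg10 yg9 zg52) (kg xg18 yg11 zg47) (kg xg9 yg58 zg14) (kg xg9 yg40 zg9) (kg xg18 yg11 zg54) (kg xg5 yg10 zg32) (kg xg18 yg10 zg14) (kg xg10 yg10 zg3) (kg xg5 yg2 zg57) (kg xg10 yg10 zg2) (kg xg18 yg12 zg9) (kg xg18 yg12 zg13) (kg xg18 yg12 zg16) (kg xg18 yg9 zg11) (kg xg18 yg12 zg22) (kg xg10 yg10 zg60) (kg xg10 yg7 zg58) (kg xg18 yg9 zg8) (kg xg15 yg24 zg44) (kg xg5 yg2 zg61) (kg xg18 yg12 zg32) (kg xg8 yg11 zg40) (kg xg12 yg1 zg27) (kg xg18 yg12 zg36) (kg xg9 yg58 zg42) (kg xg10 yg11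 zg22)) (@D3.rec (fun _ => Pt) (kg xg18 yg12 zg42) (kg xg18 yg12 zg37) (kg xg5 yg10 zg40) (kg xg18 yg10 zg15) (kg xg10 yg10 zg41) (kg xg18 yg10 zg54) (kg xg10 yg10 zg39) (kg xg5 yg3 zg7) (kg xg18 yg12 zg52) (kg xg12 yg35 zg43) (kg xg18 yg10 zg52) (kg xg17 yg33 zg54) (kg xg10 yg11 zg17) (kg xg10 yg11 zg27) (kg xg5 yg3 zg9) (kg xg12 yg14 zg24) (kg xg10 yg3 zg4) (kg xg18 yg13 zg1) (kg xg10 yg49 zg4) (kg xg17 yg48 zg16) (kg xg10 yg55 zg47) (kg xg8 yg4 zg7) (kg xg18 yg13 zg4) (kg xg17 yg46 zg49) (kg xg10 yg12 zg23) (kg xg5 yg3 zg18) (kg xg10 yg12 zg22) (kg xg18 yg13 zg13) (kg xg18 yg13 zg17) (kg xg9 yg40 zg13) (kg xg18 yg13 zg22) (kg xg17 yg46 zg8) (kg xg5 yg3 zg20) (kg xg18 yg13 zg30) (kg xg17 yg46 zg6) (kg xg17 yg45 zg37) (kg xg17 yg46 zg20) (kg xg18 yg11 zg46) (kg xg5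 yg3 zg43) (kg xg8 yg26 zg11) (kg xg9 yg40 zg20) (kg xg9 yg42 zg22) (kg xg15 yg3 zg25) (kg xg5 yg18 zg45) (kg xg9 yg59 zg60) (kg xg18 yg13 zg49) (kg xg10 yg9 zg5) (kg xg18 yg13 zg47) (kg xg9 yg56 zg5) (kg xg18 yg13 zg51) (kg xg10 yg12 zg40) (kg xg5 yg3 zg27) (kg xg18 yg13 zg54) (kg xg5 yg3 zg28) (kg xg18 yg14 zg2) (kg xg18 yg13 zg52) (kg xg10 yg22 zg48) (kg xg6 yg20 zg22) (kg xg5 yg18 zg42) (kg xg18 yg14 zg7) (kg xg5 yg41 zg2) (kg xg10 yg22 zg51)) (@D3.rec (fun _ => Pt) (kg xg11 yg11 zg2) (kg xg17 yg15 zg61) (kg xg5 yg3 zg34) (kg xg17 yg4 zg29) (kg xg10 yg12 zg9) (kg xg10 yg8 zg56) (kg xg11 yg4 zg23) (kg xg10 yg13 zg49) (kg xg16 yg49 zg41) (kg xg5 yg53 zg14) (kg xg5 yg4 zg26) (kg xg17 yg56 zg42) (kg xg5 yg32 zg2) (kg xg18 yg14 zg18) (kg xg9 yg56 zg41) (kg xg18 yg14 zg24)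 (kg xg5 yg3 zg50) (kg xg5 yg3 zg49) (kg xg18 yg14 zg28) (kg xg10 yg14 zg37) (kg xg10 yg11 zg42) (kg xg5 yg3 zg45) (kg xg10 yg11 zg41) (kg xg18 yg14 zg38) (kg xg18 yg14 zg42) (kg xg10 yg11 zg33) (kg xg5 yg3 zg46) (kg xg18 yg14 zg49) (kg xg18 yg14 zg26) (kg xg5 yg3 zg47) (kg xg18 yg14 zg56) (kg xg18 yg13 zg27) (kg xg10 yg8 zg38) (kg xg18 yg14 zg61) (kg xg17 yg46 zg51) (kg xg8 yg15 zg51) (kg xg15 yg0 zg40) (kg xg6 yg40 zg44) (kg xg18 yg15 zg5) (kg xg18 yg1 zg11) (kg xg18 yg15 zg6) (kg xg10 yg14 zg40) (kg xg9 yg57 zg2) (kg xg16 yg7 zg52) (kg xg10 yg11 zg61) (kg xg5 yg3 zg54) (kg xg10 yg4 zg39) (kg xg18 yg15 zg15) (kg xg16 yg7 zg19) (kg xg5 yg3 zg55) (kg xg13 yg19 zg49) (kg xg9 yg43 zg9) (kg xg10 yg22 zg52) (kg xg18 yg15 zg22) (kg xg5 yg32 zg5) (kg xg8 yg4 zg26) (kg xg10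 yg13 zg50) (kg xg10 yg13 zg32) (kg xg10 yg13 zg18) (kg xg13 yg14 zg7) (kg xg10 yg13 zg15) (kg xg5 yg4 zg4)) (@D3.rec (fun _ => Pt) (kg xg7 yg48 zg1) (kg xg5 yg4 zg6) (kg xg7 yg17 zg15) (kg xg13 yg14 zg10) (kg xg10 yg13 zg46) (kg xg6 yg28 zg42) (kg xg5 yg4 zg25) (kg xg6 yg18 zg8) (kg xg6 yg40 zg14) (kg xg5 yg4 zg9) (kg xg11 yg24 zg0) (kg xg10 yg13 zg9) (kg xg5 yg4 zg10) (kg xg9 yg50 zg52) (kg xg10 yg13 zg8) (kg xg10 yg13 zg27) (kg xg18 yg15 zg41) (kg xg10 yg14 zg19) (kg xg18 yg15 zg43) (kg xg10 yg30 zg14) (kg xg10 yg14 zg36) (kg xg10 yg12 zg61) (kg xg18 yg15 zg49) (kg xg10 yg12 zg58) (kg xg5 yg4 zg15) (kg xg13 yg29 zg45) (kg xg18 yg15 zg57) (kg xg6 yg40 zg6) (kg xg5 yg4 zg16) (kg xg18 yg16 zg2) (kg xg18 yg15 zg51) (kg xg5 yg4 zg17) (kg xg16 yg7 zg61) (kg xg18 yg15 zg28)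 (kg xg10 yg14 zg17) (kg xg12 yg2 zg15) (kg xg18 yg6 zg24) (kg xg9 yg55 zg43) (kg xg10 yg12 zg14) (kg xg5 yg4 zg23) (kg xg18 yg15 zg44) (kg xg5 yg16 zg8) (kg xg18 yg15 zg61) (kg xg18 yg16 zg20) (kg xg10 yg12 zg55) (kg xg5 yg4 zg29) (kg xg5 yg4 zg24) (kg xg18 yg5 zg56) (kg xg17 yg40 zg20) (kg xg18 yg16 zg37) (kg xg18 yg16 zg10) (kg xg5 yg4 zg30) (kg xg18 yg16 zg41) (kg xg9 yg49 zg8) (kg xg18 yg14 zg15) (kg xg18 yg16 zg45) (kg xg18 yg14 zg16) (kg xg18 yg15 zg23) (kg xg12 yg2 zg27) (kg xg10 yg13 zg10) (kg xg9 yg57 zg47) (kg xg18 yg16 zg51))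
def f_g_10 : D2 → D3 → Pt := @D2.rec (fun _ => D3 → Pt) (@D3.rec (fun _ => Pt) (kg xg17 yg14 zg34) (kg xg15 yg14 zg35) (kg xg16 yg16 zg6) (kg xg16 yg18 zg28) (kg xg12 yg16 zg41) (kg xg5 yg4 zg31) (kg xg9 yg18 zg21) (kg xg10 yg12 zg50) (kg xg10 yg18 zg30) (kg xg18 yg17 zg2) (kg xg14 yg11 zg57) (kg xg12 yg30 zg17) (kg xg17 yg58 zg3) (kg xg12 yg25 zg49) (kg xg17 yg58 zg43) (kg xg10 yg18 zg31) (kg xg5 yg4 zg35) (kg xg11 yg45 zg9) (kg xg5 yg4 zg36) (kg xg18 yg17 zg3) (kg xg10 yg13 zg26) (kg xg5 yg4 zg37) (kg xg18 yg17 zg19) (kg xg10 yg14 zg24) (kg xg5 yg4 zg38) (kg xg10 yg14 zg23) (kg xg14 yg19 zg1) (kg xg14 yg12 zg7) (kg xg10 yg14 zg29) (kg xg5 yg4 zg40) (kg xg10 yg14 zg27) (kg xg15 yg26 zg8) (kg xg11 yg51 zg0) (kg xg12 yg2 zg43) (kg xg10 yg54 zg46) (kg xg14 yg15 zg53)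 (kg xg10 yg12 zg54) (kg xg10 yg11 zg39) (kg xg16 yg7 zg59) (kg xg10 yg11 zg58) (kg xg9 yg56 zg18) (kg xg8 yg10 zg53) (kg xg18 yg17 zg40) (kg xg8 yg10 zg52) (kg xg18 yg17 zg43) (kg xg15 yg24 zg57) (kg xg10 yg33 zg12) (kg xg5 yg4 zg52) (kg xg10 yg33 zg11) (kg xg18 yg17 zg52) (kg xg8 yg14 zg20) (kg xg18 yg17 zg58) (kg xg10 yg15 zg48) (kg xg5 yg4 zg54) (kg xg10 yg15 zg47) (kg xg8 yg7 zg46) (kg xg18 yg18 zg1) (kg xg8 yg27 zg50) (kg xg8 yg10 zg2) (kg xg18 yg18 zg8) (kg xg5 yg13 zg42) (kg xg18 yg17 zg61)) (@D3.rec (fun _ => Pt) (kg xg18 yg18 zg15) (kg xg8 yg37 zg55) (kg xg10 yg15 zg52) (kg xg5 yg4 zg60) (kg xg10 yg15 zg51) (kg xg18 yg18 zg27) (kg xg13 yg55 zg37) (kg xg18 yg18 zg34) (kg xg7 yg46 zg22) (kg xg5 yg5 zg0) (kg xg17 yg53 zg12) (kg xg16 yg9 zg50) (kg xg15 yg29 zg44)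 (kg xg6 yg4 zg35) (kg xg8 yg37 zg44) (kg xg16 yg13 zg23) (kg xg18 yg18 zg47) (kg xg10 yg16 zg6) (kg xg11 yg35 zg22) (kg xg18 yg18 zg51) (kg xg5 yg54 zg21) (kg xg18 yg18 zg56) (kg xg7 yg14 zg32) (kg xg5 yg5 zg9) (kg xg10 yg16 zg11) (kg xg7 yg17 zg35) (kg xg18 yg18 zg61) (kg xg15 yg50 zg5) (kg xg8 yg49 zg12) (kg xg15 yg3 zg47) (kg xg5 yg13 zg40) (kg xg17 yg2 zg61) (kg xg18 yg19 zg10) (kg xg18 yg19 zg13) (kg xg18 yg19 zg17) (kg xg16 yg10 zg28) (kg xg5 yg5 zg16) (kg xg16 yg10 zg27) (kg xg18 yg19 zg27) (kg xg11 yg23 zg7) (kg xg8 yg52 zg16) (kg xg18 yg19 zg33) (kg xg10 yg16 zg31) (kg xg5 yg5 zg19) (kg xg10 yg16 zg30) (kg xg18 yg19 zg39) (kg xg8 yg52 zg19) (kg xg17 yg46 zg53) (kg xg16 yg24 zg25) (kg xg8 yg52 zg10) (kg xg18 yg19 zg37) (kg xg16 yg23 zg42) (kg xg5 yg18 zg31)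 (kg xg5 yg6 zg12) (kg xg10 yg16 zg40) (kg xg5 yg5 zg24) (kg xg10 yg16 zg39) (kg xg18 yg19 zg59) (kg xg6 yg24 zg34) (kg xg11 yg37 zg37) (kg xg16 yg34 zg55) (kg xg5 yg5 zg26)) (@D3.rec (fun _ => Pt) (kg xg18 yg20 zg6) (kg xg16 yg34 zg53) (kg xg15 yg38 zg41) (kg xg11 yg6 zg12) (kg xg15 yg24 zg36) (kg xg10 yg23 zg21) (kg xg18 yg20 zg14) (kg xg5 yg18 zg2) (kg xg18 yg20 zg20) (kg xg10 yg24 zg36) (kg xg5 yg5 zg31) (kg xg10 yg24 zg35) (kg xg9 yg55 zg57) (kg xg5 yg5 zg32) (kg xg9 yg55 zg56) (kg xg18 yg20 zg30) (kg xg9 yg55 zg54) (kg xg5 yg5 zg33) (kg xg9 yg55 zg39) (kg xg10 yg14 zg47) (kg xg5 yg8 zg30) (kg xg18 yg20 zg35) (kg xg9 yg55 zg48) (kg xg9 yg55 zg47) (kg xg12 yg2 zg22) (kg xg12 yg2 zg55) (kg xg18 yg20 zg41) (kg xg18 yg20 zg43) (kg xg12 yg3 zg0) (kg xg5 yg6 zg20) (kg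 xg18 yg20 zg48) (kg xg18 yg20 zg51) (kg xg5 yg5 zg43) (kg xg17 yg42 zg40) (kg xg18 yg20 zg49) (kg xg10 yg54 zg2) (kg xg18 yg20 zg60) (kg xg15 yg50 zg41) (kg xg10 yg22 zg4) (kg xg17 yg51 zg61) (kg xg6 yg29 zg4) (kg xg5 yg5 zg51) (kg xg10 yg4 zg57) (kg xg5 yg50 zg13) (kg xg5 yg5 zg53) (kg xg10 yg4 zg54) (kg xg5 yg5 zg54) (kg xg10 yg4 zg33) (kg xg9 yg27 zg39) (kg xg10 yg4 zg29) (kg xg10 yg4 zg28) (kg xg9 yg9 zg51) (kg xg8 yg42 zg61) (kg xg15 yg26 zg14) (kg xg6 yg50 zg5) (kg xg9 yg17 zg47) (kg xg18 yg21 zg14) (kg xg18 yg21 zg18) (kg xg17 yg3 zg26) (kg xg5 yg5 zg61) (kg xg17 yg3 zg25) (kg xg16 yg59 zg56)) (@D3.rec (fun _ => Pt) (kg xg9 yg57 zg16) (kg xg11 yg21 zg10) (kg xg5 yg55 zg22) (kg xg5 yg55 zg3) (kg xg5 yg10 zg21) (kg xg11 yg51 zg4) (kg xg5 yg20 zg4) (kg xg18 yg21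 zg37) (kg xg18 yg21 zg39) (kg xg5 yg20 zg1) (kg xg16 yg21 zg47) (kg xg5 yg6 zg7) (kg xg10 yg14 zg46) (kg xg9 yg59 zg25) (kg xg5 yg19 zg57) (kg xg18 yg21 zg47) (kg xg5 yg18 zg21) (kg xg13 yg40 zg53) (kg xg10 yg14 zg55) (kg xg5 yg6 zg10) (kg xg10 yg14 zg54) (kg xg18 yg15 zg53) (kg xg18 yg21 zg56) (kg xg18 yg21 zg59) (kg xg10 yg29 zg33) (kg xg18 yg22 zg2) (kg xg10 yg16 zg34) (kg xg10 yg24 zg59) (kg xg18 yg19 zg45) (kg xg10 yg29 zg38) (kg xg5 yg6 zg14) (kg xg18 yg22 zg11) (kg xg10 yg29 zg41) (kg xg18 yg22 zg13) (kg xg6 yg5 zg10) (kg xg18 yg10 zg6) (kg xg18 yg22 zg17) (kg xg9 yg27 zg4) (kg xg10 yg16 zg58) (kg xg17 yg48 zg21) (kg xg18 yg22 zg18) (kg xg5 yg11 zg14) (kg xg13 yg31 zg4) (kg xg17 yg50 zg52) (kg xg18 yg20 zg47) (kg xg10 yg16 zg54) (kg xg5 yg15 zg40) (kg xg5 yg15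 zg42) (kg xg18 yg22 zg25) (kg xg5 yg30 zg11) (kg xg5 yg25 zg51) (kg xg17 yg33 zg18) (kg xg5 yg6 zg27) (kg xg11 yg1 zg61) (kg xg5 yg38 zg25) (kg xg5 yg48 zg0) (kg xg11 yg2 zg7) (kg xg18 yg22 zg31) (kg xg9 yg56 zg15) (kg xg11 yg30 zg40) (kg xg11 yg2 zg4) (kg xg5 yg9 zg59)) (@D3.rec (fun _ => Pt) (kg xg9 yg13 zg41) (kg xg7 yg19 zg61) (kg xg18 yg22 zg39) (kg xg6 yg44 zg14) (kg xg17 yg7 zg61) (kg xg5 yg6 zg41) (kg xg10 yg17 zg22) (kg xg10 yg17 zg29) (kg xg5 yg6 zg42) (kg xg18 yg22 zg46) (kg xg18 yg22 zg48) (kg xg8 yg9 zg61) (kg xg18 yg22 zg53) (kg xg8 yg9 zg60) (kg xg16 yg27 zg55) (kg xg8 yg23 zg57) (kg xg5 yg6 zg46) (kg xg13 yg51 zg37) (kg xg13 yg55 zg19) (kg xg13 yg48 zg7) (kg xg13 yg48 zg37) (kg xg10 yg5 zg45) (kg xg17 yg25 zg29) (kg xg18 yg23 zg10) (kg xg13 yg1 zg61)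 (kg xg5 yg6 zg50) (kg xg17 yg3 zg22) (kg xg12 yg37 zg52) (kg xg5 yg6 zg52) (kg xg6 yg30 zg45) (kg xg5 yg53 zg58) (kg xg6 yg46 zg58) (kg xg11 yg48 zg13) (kg xg5 yg6 zg54) (kg xg10 yg2 zg46) (kg xg16 yg59 zg50) (kg xg11 yg58 zg35) (kg xg13 yg2 zg18) (kg xg9 yg19 zg61) (kg xg10 yg17 zg46) (kg xg10 yg17 zg53) (kg xg5 yg7 zg0) (kg xg12 yg23 zg44) (kg xg10 yg17 zg52) (kg xg5 yg7 zg45) (kg xg5 yg14 zg17) (kg xg12 yg49 zg22) (kg xg12 yg30 zg19) (kg xg6 yg50 zg45) (kg xg18 yg22 zg40) (kg xg13 yg1 zg56) (kg xg5 yg7 zg6) (kg xg17 yg58 zg16) (kg xg10 yg2 zg45) (kg xg5 yg7 zg7) (kg xg10 yg5 zg31) (kg xg18 yg23 zg36) (kg xg5 yg7 zg9) (kg xg10 yg2 zg41) (kg xg10 yg18 zg28) (kg xg12 yg30 zg16) (kg xg11 yg25 zg26)) (@D3.rec (fun _ => Pt) (kg xg9 yg19 zg45) (kg xg5 yg51 zg46) (kg xg10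 yg19 zg6) (kg xg10 yg17 zg61) (kg xg10 yg18 zg5) (kg xg6 yg14 zg36) (kg xg5 yg7 zg19) (kg xg18 yg23 zg48) (kg xg18 yg23 zg53) (kg xg12 yg56 zg18) (kg xg11 yg27 zg17) (kg xg5 yg7 zg22) (kg xg9 yg2 zg42) (kg xg13 yg1 zg54) (kg xg5 yg53 zg59) (kg xg10 yg4 zg31) (kg xg18 yg23 zg59) (kg xg18 yg23 zg34) (kg xg5 yg7 zg28) (kg xg6 yg46 zg21) (kg xg10 yg18 zg23) (kg xg9 yg10 zg39) (kg xg10 yg18 zg12) (kg xg7 yg24 zg60) (kg xg12 yg23 zg45) (kg xg10 yg15 zg23) (kg xg10 yg4 zg27) (kg xg18 yg24 zg7) (kg xg10 yg18 zg2) (kg xg12 yg8 zg50) (kg xg5 yg7 zg46) (kg xg6 yg7 zg28) (kg xg18 yg24 zg11) (kg xg6 yg7 zg54) (kg xg5 yg7 zg40) (kg xg12 yg1 zg38) (kg xg12 yg19 zg43) (kg xg12 yg15 zg30) (kg xg12 yg15 zg11) (kg xg17 yg56 zg40) (kg xg10 yg55 zg23) (kg xg17 yg56 zg33) (kg xg18 yg23 zg60)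 (kg xg12 yg22 zg56) (kg xg6 yg7 zg41) (kg xg6 yg7 zg43) (kg xg18 yg24 zg31) (kg xg10 yg4 zg55) (kg xg12 yg56 zg21) (kg xg14 yg37 zg59) (kg xg18 yg24 zg14) (kg xg5 yg7 zg48) (kg xg10 yg18 zg22) (kg xg11 yg25 zg46) (kg xg10 yg18 zg41) (kg xg5 yg8 zg1) (kg xg5 yg7 zg50) (kg xg18 yg24 zg45) (kg xg18 yg24 zg48) (kg xg9 yg15 zg26) (kg xg5 yg8 zg4) (kg xg5 yg7 zg51)) (@D3.rec (fun _ => Pt) (kg xg5 yg8 zg3) (kg xg11 yg25 zg32) (kg xg9 yg7 zg50) (kg xg18 yg24 zg56) (kg xg5 yg7 zg56) (kg xg5 yg7 zg53) (kg xg18 yg24 zg59) (kg xg18 yg25 zg1) (kg xg18 yg25 zg2) (kg xg18 yg24 zg41) (kg xg5 yg7 zg54) (kg xg15 yg30 zg47) (kg xg7 yg53 zg17) (kg xg18 yg25 zg14) (kg xg17 yg3 zg51) (kg xg12 yg53 zg39) (kg xg11 yg25 zg45) (kg xg10 yg18 zg52) (kg xg12 yg23 zg30) (kg xg6 yg7 zg61) (kg xg11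 yg8 zg29) (kg xg18 yg25 zg6) (kg xg6 yg38 zg24) (kg xg12 yg44 zg8) (kg xg17 yg5 zg28) (kg xg10 yg14 zg2) (kg xg5 yg7 zg60) (kg xg10 yg14 zg11) (kg xg17 yg13 zg26) (kg xg10 yg6 zg31) (kg xg5 yg7 zg61) (kg xg10 yg6 zg30) (kg xg18 yg25 zg37) (kg xg18 yg24 zg49) (kg xg13 yg20 zg39) (kg xg5 yg8 zg0) (kg xg17 yg5 zg33) (kg xg12 yg23 zg16) (kg xg18 yg25 zg43) (kg xg11 yg24 zg44) (kg xg5 yg52 zg17) (kg xg18 yg25 zg46) (kg xg15 yg30 zg44) (kg xg11 yg49 zg29) (kg xg5 yg8 zg5) (kg xg16 yg49 zg31) (kg xg17 yg58 zg20) (kg xg5 yg8 zg7) (kg xg17 yg58 zg19) (kg xg11 yg8 zg19) (kg xg5 yg8 zg24) (kg xg9 yg0 zg26) (kg xg18 yg26 zg0) (kg xg9 yg9 zg29) (kg xg17 yg59 zg58) (kg xg5 yg8 zg12) (kg xg11 yg57 zg44) (kg xg11 yg58 zg31) (kg xg18 yg26 zg2) (kg xg5 yg8 zg13) (kg xg6 yg31 zg56) (kg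 xg6 yg8 zg61)) (@D3.rec (fun _ => Pt) (kg xg10 yg19 zg9) (kg xg12 yg1 zg18) (kg xg18 yg26 zg7) (kg xg18 yg26 zg11) (kg xg18 yg26 zg13) (kg xg12 yg36 zg33) (kg xg18 yg17 zg21) (kg xg12 yg36 zg4) (kg xg12 yg36 zg1) (kg xg5 yg8 zg20) (kg xg18 yg26 zg21) (kg xg5 yg8 zg22) (kg xg5 yg52 zg15) (kg xg5 yg52 zg44) (kg xg5 yg45 zg56) (kg xg11 yg58 zg13) (kg xg10 yg18 zg44) (kg xg10 yg17 zg55) (kg xg18 yg24 zg0) (kg xg17 yg21 zg59) (kg xg8 yg15 zg4) (kg xg18 yg26 zg25) (kg xg5 yg16 zg13) (kg xg7 yg32 zg37) (kg xg15 yg50 zg43) (kg xg5 yg8 zg31) (kg xg9 yg55 zg19) (kg xg18 yg26 zg28) (kg xg8 yg4 zg22) (kg xg18 yg26 zg34) (kg xg9 yg53 zg12) (kg xg5 yg8 zg33) (kg xg9 yg55 zg26) (kg xg18 yg26 zg40) (kg xg8 yg4 zg25) (kg xg18 yg26 zg45) (kg xg8 yg4 zg11) (kg xg18 yg26 zg38) (kg xg18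 yg26 zg52) (kg xg8 yg4 zg17) (kg xg9 yg51 zg58) (kg xg15 yg11 zg15) (kg xg5 yg8 zg37) (kg xg15 yg11 zg14) (kg xg18 yg27 zg3) (kg xg7 yg33 zg37) (kg xg18 yg27 zg6) (kg xg15 yg11 zg10) (kg xg5 yg8 zg39) (kg xg18 yg27 zg12) (kg xg15 yg9 zg50) (kg xg15 yg12 zg37) (kg xg8 yg3 zg10) (kg xg10 yg9 zg31) (kg xg18 yg26 zg37) (kg xg10 yg29 zg34) (kg xg17 yg46 zg54) (kg xg18 yg27 zg20) (kg xg9 yg52 zg57) (kg xg5 yg8 zg48) (kg xg14 yg57 zg45) (kg xg18 yg27 zg7)) (@D3.rec (fun _ => Pt) (kg xg18 yg27 zg26) (kg xg18 yg27 zg30) (kg xg15 yg11 zg20) (kg xg5 yg8 zg50) (kg xg17 yg39 zg55) (kg xg9 yg52 zg44) (kg xg15 yg12 zg47) (kg xg9 yg52 zg34) (kg xg8 yg3 zg19) (kg xg9 yg0 zg58) (kg xg5 yg8 zg53) (kg xg18 yg27 zg42) (kg xg9 yg57 zg21) (kg xg18 yg27 zg47) (kg xg18 yg27 zg50) (kg xg9 yg24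 zg44) (kg xg10 yg26 zg37) (kg xg15 yg50 zg45) (kg xg5 yg8 zg57) (kg xg9 yg57 zg39) (kg xg15 yg11 zg43) (kg xg5 yg8 zg58) (kg xg15 yg11 zg42) (kg xg18 yg28 zg7) (kg xg14 yg15 zg18) (kg xg5 yg9 zg4) (kg xg5 yg8 zg59) (kg xg18 yg28 zg18) (kg xg15 yg11 zg35) (kg xg5 yg8 zg60) (kg xg18 yg4 zg54) (kg xg15 yg11 zg33) (kg xg15 yg11 zg58) (kg xg17 yg35 zg59) (kg xg5 yg9 zg11) (kg xg9 yg43 zg31) (kg xg17 yg46 zg56) (kg xg5 yg9 zg2) (kg xg17 yg46 zg55) (kg xg15 yg11 zg28) (kg xg5 yg9 zg3) (kg xg15 yg11 zg27) (kg xg18 yg28 zg39) (kg xg18 yg28 zg43) (kg xg8 yg41 zg60) (kg xg5 yg9 zg5) (kg xg15 yg11 zg48) (kg xg15 yg12 zg3) (kg xg9 yg54 zg49) (kg xg5 yg9 zg14) (kg xg15 yg11 zg61) (kg xg5 yg9 zg9) (kg xg15 yg11 zg60) (kg xg18 yg28 zg59) (kg xg5 yg9 zg13) (kg xg18 yg4 zg39) (kg xg15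 yg11 zg36) (kg xg15 yg11 zg53) (kg xg5 yg9 zg12) (kg xg15 yg11 zg52) (kg xg18 yg29 zg11) (kg xg13 yg7 zg7)) (@D3.rec (fun _ => Pt) (kg xg8 yg41 zg38) (kg xg9 yg58 zg55) (kg xg5 yg9 zg16) (kg xg5 yg9 zg19) (kg xg18 yg29 zg6) (kg xg18 yg29 zg20) (kg xg18 yg29 zg23) (kg xg18 yg29 zg27) (kg xg5 yg9 zg17) (kg xg18 yg29 zg31) (kg xg9 yg57 zg46) (kg xg13 yg26 zg28) (kg xg18 yg28 zg49) (kg xg15 yg13 zg53) (kg xg15 yg13 zg54) (kg xg5 yg9 zg18) (kg xg14 yg8 zg39) (kg xg14 yg9 zg30) (kg xg18 yg29 zg54) (kg xg18 yg28 zg54) (kg xg18 yg29 zg59) (kg xg18 yg29 zg5) (kg xg17 yg41 zg13) (kg xg15 yg12 zg27) (kg xg5 yg9 zg22) (kg xg15 yg12 zg26) (kg xg9 yg52 zg16) (kg xg5 yg9 zg23) (kg xg18 yg30 zg17) (kg xg8 yg15 zg10) (kg xg9 yg53 zg24) (kg xg16 yg19 zg18) (kg xg9 yg39 zg34) (kg xg8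 yg5 zg60) (kg xg10 yg7 zg53) (kg xg9 yg53 zg41) (kg xg10 yg42 zg35) (kg xg18 yg30 zg29) (kg xg10 yg20 zg19) (kg xg17 yg47 zg59) (kg xg18 yg30 zg36) (kg xg5 yg22 zg11) (kg xg18 yg20 zg10) (kg xg5 yg9 zg44) (kg xg8 yg13 zg11) (kg xg5 yg20 zg15) (kg xg5 yg9 zg32) (kg xg15 yg0 zg52) (kg xg18 yg30 zg48) (kg xg15 yg0 zg36) (kg xg18 yg30 zg54) (kg xg9 yg56 zg36) (kg xg5 yg9 zg34) (kg xg9 yg56 zg35) (kg xg5 yg17 zg1) (kg xg8 yg26 zg17) (kg xg18 yg30 zg61) (kg xg15 yg0 zg39) (kg xg10 yg27 zg57) (kg xg18 yg31 zg7) (kg xg18 yg30 zg58) (kg xg18 yg31 zg12)) (@D3.rec (fun _ => Pt) (kg xg5 yg10 zg11) (kg xg9 yg56 zg45) (kg xg5 yg9 zg40) (kg xg9 yg56 zg44) (kg xg18 yg31 zg23) (kg xg18 yg14 zg57) (kg xg9 yg56 zg27) (kg xg9 yg33 zg21) (kg xg18 yg31 zg31) (kg xg18 yg30 zg44) (kg xg5 yg9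 zg42) (kg xg18 yg31 zg40) (kg xg18 yg30 zg42) (kg xg15 yg11 zg4) (kg xg18 yg31 zg43) (kg xg8 yg15 zg2) (kg xg10 yg32 zg58) (kg xg10 yg14 zg38) (kg xg18 yg31 zg50) (kg xg18 yg31 zg54) (kg xg9 yg52 zg35) (kg xg5 yg9 zg47) (kg xg9 yg55 zg42) (kg xg5 yg9 zg48) (kg xg9 yg55 zg41) (kg xg18 yg32 zg4) (kg xg9 yg55 zg36) (kg xg5 yg9 zg49) (kg xg9 yg55 zg34) (kg xg9 yg54 zg56) (kg xg9 yg55 zg29) (kg xg5 yg9 zg53) (kg xg9 yg55 zg28) (kg xg6 yg11 zg20) (kg xg18 yg32 zg17) (kg xg18 yg32 zg22) (kg xg18 yg1 zg14) (kg xg18 yg32 zg18) (kg xg5 yg10 zg20) (kg xg9 yg57 zg7) (kg xg12 yg24 zg46) (kg xg5 yg9 zg57) (kg xg18 yg32 zg35) (kg xg17 yg9 zg36) (kg xg18 yg14 zg58) (kg xg5 yg9 zg58) (kg xg12 yg24 zg42) (kg xg9 yg56 zg14) (kg xg18 yg4 zg30) (kg xg18 yg32 zg42) (kg xg18 yg32 zg12) (kg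 xg10 yg27 zg49) (kg xg17 yg47 zg24) (kg xg9 yg40 zg22) (kg xg18 yg16 zg49) (kg xg9 yg40 zg19) (kg xg18 yg32 zg52) (kg xg5 yg10 zg6) (kg xg9 yg54 zg55) (kg xg18 yg32 zg57) (kg xg9 yg56 zg28) (kg xg18 yg32 zg9)) (@D3.rec (fun _ => Pt) (kg xg9 yg55 zg9) (kg xg5 yg10 zg9) (kg xg9 yg55 zg8) (kg xg18 yg33 zg8) (kg xg18 yg33 zg11) (kg xg18 yg33 zg14) (kg xg17 yg47 zg7) (kg xg18 yg33 zg20) (kg xg9 yg56 zg39) (kg xg18 yg31 zg5) (kg xg11 yg10 zg29) (kg xg5 yg10 zg13) (kg xg18 yg33 zg30) (kg xg12 yg57 zg47) (kg xg8 yg13 zg51) (kg xg18 yg20 zg26) (kg xg17 yg47 zg41) (kg xg9 yg57 zg5) (kg xg18 yg33 zg38) (kg xg17 yg47 zg46) (kg xg18 yg20 zg32) (kg xg9 yg56 zg9) (kg xg18 yg32 zg30) (kg xg6 yg11 zg56) (kg xg17 yg3 zg58) (kg xg18 yg32 zg28) (kg xg9 yg56 zg61) (kg xg9 yg57 zg14) (kg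 xg18 yg33 zg51) (kg xg10 yg49 zg1) (kg xg5 yg36 zg7) (kg xg18 yg33 zg55) (kg xg18 yg33 zg57) (kg xg9 yg58 zg26) (kg xg18 yg34 zg1) (kg xg5 yg10 zg36) (kg xg5 yg10 zg29) (kg xg5 yg10 zg35) (kg xg18 yg34 zg8) (kg xg17 yg47 zg61) (kg xg9 yg58 zg22) (kg xg5 yg10 zg31) (kg xg9 yg58 zg21) (kg xg18 yg12 zg2) (kg xg18 yg34 zg20) (kg xg18 yg34 zg24) (kg xg18 yg34 zg4) (kg xg5 yg10 zg33) (kg xg18 yg9 zg15) (kg xg18 yg34 zg2) (kg xg15 yg11 zg25) (kg xg18 yg34 zg37) (kg xg17 yg49 zg56) (kg xg8 yg15 zg6) (kg xg10 yg33 zg0) (kg xg15 yg2 zg17) (kg xg9 yg43 zg36) (kg xg10 yg13 zg53) (kg xg18 yg34 zg50) (kg xg9 yg54 zg18) (kg xg18 yg34 zg47) (kg xg9 yg58 zg45)) (@D3.rec (fun _ => Pt) (kg xg18 yg34 zg53) (kg xg18 yg34 zg56) (kg xg5 yg10 zg41) (kg xg13 yg38 zg41) (kg xg18 yg34 zg54) (kg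 xg11 yg11 zg5) (kg xg9 yg18 zg14) (kg xg16 yg49 zg44) (kg xg5 yg16 zg39) (kg xg5 yg10 zg45) (kg xg12 yg23 zg37) (kg xg9 yg58 zg2) (kg xg9 yg54 zg6) (kg xg15 yg22 zg43) (kg xg9 yg59 zg56) (kg xg11 yg10 zg59) (kg xg6 yg7 zg48) (kg xg5 yg11 zg33) (kg xg18 yg32 zg8) (kg xg8 yg57 zg40) (kg xg10 yg0 zg37) (kg xg9 yg57 zg26) (kg xg5 yg10 zg53) (kg xg9 yg57 zg25) (kg xg18 yg9 zg23) (kg xg18 yg9 zg47) (kg xg18 yg35 zg22) (kg xg17 yg47 zg18) (kg xg5 yg10 zg55) (kg xg18 yg35 zg27) (kg xg17 yg47 zg16) (kg xg9 yg53 zg44) (kg xg17 yg47 zg36) (kg xg17 yg48 zg1) (kg xg8 yg26 zg18) (kg xg9 yg39 zg50) (kg xg10 yg26 zg53) (kg xg18 yg29 zg22) (kg xg17 yg47 zg44) (kg xg10 yg0 zg39) (kg xg9 yg57 zg51) (kg xg18 yg35 zg37) (kg xg12 yg53 zg27) (kg xg18 yg9 zg48) (kg xg5 yg11 zg1) (kg xg18 yg34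 zg59) (kg xg10 yg27 zg10) (kg xg18 yg35 zg41) (kg xg8 yg57 zg43) (kg xg9 yg52 zg7) (kg xg9 yg59 zg57) (kg xg5 yg11 zg35) (kg xg10 yg27 zg13) (kg xg6 yg11 zg6) (kg xg18 yg35 zg53) (kg xg9 yg59 zg40) (kg xg18 yg35 zg48) (kg xg5 yg11 zg45) (kg xg9 yg59 zg24) (kg xg18 yg35 zg60) (kg xg9 yg59 zg21) (kg xg5 yg11 zg13)) (@D3.rec (fun _ => Pt) (kg xg18 yg21 zg46) (kg xg18 yg36 zg2) (kg xg9 yg27 zg2) (kg xg14 yg43 zg6) (kg xg5 yg11 zg15) (kg xg12 yg34 zg38) (kg xg18 yg35 zg61) (kg xg11 yg15 zg2) (kg xg5 yg11 zg17) (kg xg9 yg59 zg12) (kg xg9 yg59 zg35) (kg xg6 yg58 zg19) (kg xg18 yg36 zg21) (kg xg16 yg35 zg58) (kg xg10 yg0 zg36) (kg xg9 yg58 zg61) (kg xg18 yg36 zg25) (kg xg9 yg58 zg58) (kg xg5 yg11 zg22) (kg xg12 yg47 zg12) (kg xg8 yg43 zg30) (kg xg14 yg43 zg7) (kg xg5 yg11 zg24)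 (kg xg18 yg36 zg37) (kg xg18 yg36 zg10) (kg xg5 yg11 zg25) (kg xg10 yg0 zg21) (kg xg18 yg34 zg13) (kg xg18 yg28 zg36) (kg xg9 yg59 zg4) (kg xg9 yg58 zg7) (kg xg5 yg11 zg30) (kg xg18 yg36 zg22) (kg xg5 yg18 zg11) (kg xg12 yg41 zg55) (kg xg18 yg36 zg50) (kg xg9 yg58 zg57) (kg xg5 yg11 zg36) (kg xg5 yg11 zg31) (kg xg18 yg28 zg0) (kg xg18 yg37 zg1) (kg xg18 yg37 zg4) (kg xg18 yg13 zg50) (kg xg5 yg11 zg37) (kg xg18 yg37 zg7) (kg xg18 yg37 zg11) (kg xg17 yg59 zg35) (kg xg18 yg35 zg11) (kg xg17 yg58 zg7) (kg xg18 yg35 zg12) (kg xg18 yg35 zg42) (kg xg18 yg35 zg45) (kg xg9 yg59 zg15) (kg xg10 yg11 zg60) (kg xg18 yg23 zg24) (kg xg18 yg37 zg24) (kg xg8 yg5 zg56) (kg xg18 yg37 zg2) (kg xg18 yg37 zg31) (kg xg18 yg37 zg8) (kg xg12 yg20 zg7) (kg xg5 yg11 zg38)) (@D3.rec (fun _ =>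 Pt) (kg xg6 yg26 zg20) (kg xg9 yg58 zg56) (kg xg10 yg6 zg26) (kg xg18 yg0 zg9) (kg xg6 yg10 zg12) (kg xg11 yg38 zg41) (kg xg18 yg37 zg47) (kg xg18 yg37 zg16) (kg xg18 yg37 zg45) (kg xg18 yg37 zg52) (kg xg10 yg6 zg27) (kg xg5 yg11 zg42) (kg xg9 yg19 zg3) (kg xg12 yg28 zg12) (kg xg18 yg0 zg7) (kg xg17 yg59 zg11) (kg xg9 yg59 zg34) (kg xg5 yg11 zg44) (kg xg11 yg39 zg4) (kg xg7 yg31 zg38) (kg xg7 yg35 zg41) (kg xg18 yg38 zg14) (kg xg10 yg0 zg25) (kg xg5 yg11 zg46) (kg xg10 yg0 zg24) (kg xg6 yg32 zg37) (kg xg10 yg0 zg30) (kg xg5 yg11 zg48) (kg xg18 yg38 zg21) (kg xg10 yg0 zg29) (kg xg6 yg11 zg15) (kg xg15 yg30 zg39) (kg xg17 yg8 zg42) (kg xg6 yg11 zg12) (kg xg9 yg44 zg28) (kg xg18 yg38 zg29) (kg xg6 yg11 zg3) (kg xg9 yg57 zg23) (kg xg15 yg48 zg47) (kg xg18 yg33 zg27) (kg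 xg9 yg57 zg45) (kg xg12 yg28 zg45) (kg xg18 yg38 zg37) (kg xg5 yg19 zg29) (kg xg18 yg38 zg41) (kg xg10 yg3 zg12) (kg xg5 yg11 zg60) (kg xg10 yg3 zg11) (kg xg10 yg30 zg16) (kg xg5 yg19 zg32) (kg xg10 yg13 zg0) (kg xg5 yg19 zg22) (kg xg16 yg54 zg4) (kg xg10 yg3 zg20) (kg xg5 yg12 zg3) (kg xg10 yg3 zg19) (kg xg17 yg45 zg49) (kg xg18 yg38 zg48) (kg xg18 yg38 zg52) (kg xg10 yg28 zg23) (kg xg5 yg12 zg5) (kg xg17 yg9 zg22)) (@D3.rec (fun _ => Pt) (kg xg10 yg28 zg21) (kg xg10 yg27 zg55) (kg xg18 yg39 zg2) (kg xg17 yg45 zg44) (kg xg10 yg27 zg48) (kg xg10 yg20 zg4) (kg xg5 yg12 zg10) (kg xg10 yg20 zg3) (kg xg10 yg1 zg44) (kg xg10 yg23 zg50) (kg xg18 yg32 zg13) (kg xg18 yg39 zg12) (kg xg13 yg30 zg14) (kg xg18 yg39 zg15) (kg xg18 yg39 zg13) (kg xg5 yg13 zg19) (kg xg18 yg39 zg21)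 (kg xg18 yg39 zg24) (kg xg5 yg12 zg19) (kg xg18 yg36 zg33) (kg xg18 yg39 zg22) (kg xg15 yg30 zg50) (kg xg10 yg26 zg20) (kg xg16 yg10 zg32) (kg xg5 yg49 zg52) (kg xg11 yg41 zg32) (kg xg5 yg12 zg30) (kg xg11 yg41 zg31) (kg xg11 yg35 zg36) (kg xg16 yg56 zg20) (kg xg5 yg45 zg47) (kg xg9 yg7 zg43) (kg xg17 yg8 zg44) (kg xg18 yg39 zg44) (kg xg5 yg21 zg26) (kg xg18 yg39 zg46) (kg xg8 yg10 zg59) (kg xg18 yg39 zg49) (kg xg10 yg35 zg29) (kg xg18 yg39 zg51) (kg xg5 yg22 zg17) (kg xg18 yg39 zg53) (kg xg8 yg13 zg3) (kg xg18 yg22 zg8) (kg xg18 yg39 zg57) (kg xg18 yg39 zg60) (kg xg10 yg0 zg54) (kg xg5 yg12 zg42) (kg xg10 yg0 zg53) (kg xg18 yg40 zg0) (kg xg10 yg1 zg4) (kg xg5 yg12 zg44) (kg xg10 yg1 zg3) (kg xg18 yg40 zg9) (kg xg18 yg40 zg13) (kg xg18 yg40 zg16) (kg xg11 yg3 zg21)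 (kg xg18 yg40 zg22) (kg xg9 yg0 zg34) (kg xg11 yg57 zg21) (kg xg10 yg26 zg35) (kg xg15 yg43 zg61)) (@D3.rec (fun _ => Pt) (kg xg15 yg12 zg31) (kg xg5 yg12 zg49) (kg xg18 yg10 zg0) (kg xg15 yg12 zg30) (kg xg18 yg40 zg31) (kg xg18 yg40 zg34) (kg xg6 yg24 zg25) (kg xg7 yg33 zg51) (kg xg13 yg38 zg27) (kg xg16 yg25 zg50) (kg xg10 yg1 zg24) (kg xg5 yg12 zg56) (kg xg5 yg46 zg25) (kg xg11 yg39 zg31) (kg xg5 yg12 zg60) (kg xg9 yg9 zg54) (kg xg18 yg40 zg46) (kg xg18 yg40 zg42) (kg xg18 yg40 zg51) (kg xg18 yg40 zg54) (kg xg18 yg40 zg57) (kg xg16 yg11 zg50) (kg xg5 yg13 zg1) (kg xg16 yg11 zg49) (kg xg14 yg45 zg8) (kg xg18 yg41 zg6) (kg xg8 yg52 zg42) (kg xg18 yg41 zg10) (kg xg8 yg52 zg39) (kg xg18 yg41 zg15) (kg xg5 yg13 zg6) (kg xg10 yg1 zg43) (kg xg18 yg41 zg20) (kg xg8 yg52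 zg33) (kg xg5 yg19 zg50) (kg xg8 yg45 zg31) (kg xg5 yg16 zg18) (kg xg18 yg39 zg8) (kg xg10 yg1 zg56) (kg xg5 yg13 zg9) (kg xg10 yg1 zg55) (kg xg12 yg39 zg14) (kg xg8 yg52 zg6) (kg xg5 yg13 zg10) (kg xg8 yg11 zg49) (kg xg10 yg20 zg22) (kg xg10 yg31 zg25) (kg xg5 yg13 zg13) (kg xg9 yg3 zg49) (kg xg10 yg9 zg44) (kg xg18 yg41 zg36) (kg xg5 yg21 zg61) (kg xg18 yg32 zg0) (kg xg18 yg41 zg41) (kg xg10 yg3 zg43) (kg xg18 yg41 zg44) (kg xg18 yg41 zg42) (kg xg18 yg32 zg7) (kg xg13 yg41 zg44) (kg xg16 yg21 zg3) (kg xg10 yg39 zg8) (kg xg10 yg3 zg38)) (@D3.rec (fun _ => Pt) (kg xg5 yg13 zg20) (kg xg5 yg17 zg45) (kg xg5 yg17 zg47) (kg xg5 yg31 zg16) (kg xg8 yg56 zg42) (kg xg5 yg28 zg13) (kg xg18 yg41 zg57) (kg xg10 yg43 zg15) (kg xg5 yg13 zg26) (kg xg10 yg5 zg44) (kg xg9 yg10 zg15)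 (kg xg5 yg13 zg28) (kg xg17 yg22 zg27) (kg xg18 yg42 zg7) (kg xg11 yg38 zg40) (kg xg11 yg38 zg38) (kg xg9 yg15 zg13) (kg xg11 yg25 zg9) (kg xg11 yg36 zg15) (kg xg11 yg33 zg50) (kg xg6 yg2 zg43) (kg xg11 yg36 zg2) (kg xg5 yg13 zg33) (kg xg10 yg4 zg5) (kg xg6 yg50 zg51) (kg xg6 yg32 zg27) (kg xg11 yg35 zg19) (kg xg11 yg35 zg60) (kg xg5 yg13 zg41) (kg xg10 yg4 zg8) (kg xg18 yg21 zg7) (kg xg18 yg42 zg24) (kg xg15 yg50 zg9) (kg xg18 yg42 zg29) (kg xg18 yg42 zg32) (kg xg15 yg47 zg33) (kg xg5 yg13 zg43) (kg xg18 yg42 zg42) (kg xg15 yg47 zg32) (kg xg18 yg42 zg45) (kg xg9 yg10 zg13) (kg xg5 yg13 zg46) (kg xg18 yg42 zg2) (kg xg18 yg42 zg51) (kg xg6 yg50 zg50) (kg xg5 yg13 zg47) (kg xg18 yg15 zg14) (kg xg18 yg42 zg46) (kg xg18 yg42 zg54) (kg xg18 yg15 zg11) (kg xg6 yg26 zg3) (kg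 xg10 yg4 zg43) (kg xg5 yg13 zg50) (kg xg10 yg4 zg41) (kg xg6 yg16 zg1) (kg xg18 yg42 zg60) (kg xg10 yg6 zg1) (kg xg11 yg57 zg36) (kg xg10 yg5 zg6) (kg xg10 yg5 zg11) (kg xg18 yg43 zg3) (kg xg5 yg13 zg61)) (@D3.rec (fun _ => Pt) (kg xg18 yg43 zg5) (kg xg13 yg51 zg24) (kg xg10 yg5 zg23) (kg xg12 yg24 zg2) (kg xg6 yg50 zg25) (kg xg5 yg14 zg3) (kg xg15 yg26 zg10) (kg xg12 yg53 zg15) (kg xg18 yg43 zg4) (kg xg5 yg14 zg4) (kg xg17 yg16 zg35) (kg xg10 yg5 zg24) (kg xg10 yg5 zg41) (kg xg11 yg30 zg61) (kg xg5 yg14 zg26) (kg xg10 yg7 zg15) (kg xg9 yg47 zg30) (kg xg15 yg5 zg16) (kg xg9 yg27 zg33) (kg xg18 yg21 zg4) (kg xg10 yg5 zg20) (kg xg12 yg15 zg23) (kg xg10 yg5 zg42) (kg xg5 yg14 zg20) (kg xg8 yg10 zg33) (kg xg10 yg2 zg48) (kg xg18 yg43 zg24) (kg xg11 yg8 zg35) (kg xg11 yg8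 zg34) (kg xg10 yg0 zg8) (kg xg5 yg14 zg27) (kg xg10 yg0 zg16) (kg xg5 yg14 zg28) (kg xg15 yg5 zg6) (kg xg10 yg6 zg55) (kg xg18 yg43 zg31) (kg xg11 yg22 zg10) (kg xg17 yg1 zg32) (kg xg18 yg43 zg33) (kg xg5 yg14 zg33) (kg xg18 yg43 zg32) (kg xg10 yg6 zg11) (kg xg16 yg49 zg50) (kg xg5 yg14 zg50) (kg xg18 yg2 zg18) (kg xg5 yg57 zg47) (kg xg6 yg50 zg39) (kg xg5 yg14 zg38) (kg xg6 yg8 zg1) (kg xg5 yg14 zg39) (kg xg14 yg33 zg15) (kg xg10 yg7 zg18) (kg xg5 yg48 zg3) (kg xg10 yg7 zg12) (kg xg18 yg35 zg55) (kg xg18 yg43 zg46) (kg xg18 yg43 zg49) (kg xg6 yg10 zg56) (kg xg6 yg30 zg40) (kg xg18 yg38 zg17) (kg xg6 yg10 zg51) (kg xg9 yg47 zg56)) (@D3.rec (fun _ => Pt) (kg xg5 yg40 zg0) (kg xg10 yg7 zg11) (kg xg5 yg14 zg49) (kg xg9 yg47 zg22) (kg xg18 yg43 zg55) (kg xg9 yg5 zg3) (kg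 xg5 yg47 zg33) (kg xg10 yg6 zg52) (kg xg9 yg48 zg6) (kg xg11 yg31 zg19) (kg xg18 yg43 zg58) (kg xg8 yg29 zg37) (kg xg10 yg45 zg57) (kg xg5 yg14 zg55) (kg xg10 yg45 zg56) (kg xg18 yg44 zg9) (kg xg8 yg29 zg42) (kg xg18 yg44 zg13) (kg xg15 yg0 zg55) (kg xg16 yg0 zg30) (kg xg8 yg56 zg27) (kg xg5 yg31 zg19) (kg xg16 yg44 zg2) (kg xg5 yg14 zg60) (kg xg16 yg44 zg1) (kg xg16 yg30 zg6) (kg xg5 yg27 zg27) (kg xg18 yg44 zg33) (kg xg5 yg25 zg50) (kg xg11 yg56 zg61) (kg xg18 yg44 zg39) (kg xg15 yg36 zg16) (kg xg18 yg44 zg43) (kg xg8 yg26 zg13) (kg xg18 yg44 zg47) (kg xg18 yg44 zg48) (kg xg9 yg25 zg40) (kg xg18 yg44 zg54) (kg xg5 yg15 zg5) (kg xg5 yg15 zg50) (kg xg18 yg44 zg58) (kg xg9 yg22 zg56) (kg xg15 yg36 zg8) (kg xg18 yg45 zg4) (kg xg5 yg15 zg7) (kg xg18 yg45 zg5) (kg xg16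 yg32 zg44) (kg xg18 yg45 zg9) (kg xg5 yg15 zg8) (kg xg15 yg55 zg7) (kg xg10 yg26 zg17) (kg xg18 yg45 zg23) (kg xg10 yg10 zg48) (kg xg9 yg52 zg29) (kg xg5 yg15 zg13) (kg xg8 yg40 zg48) (kg xg8 yg27 zg16) (kg xg18 yg45 zg27) (kg xg18 yg45 zg28) (kg xg15 yg55 zg12) (kg xg18 yg44 zg38) (kg xg5 yg15 zg19)) (@D3.rec (fun _ => Pt) (kg xg18 yg44 zg37) (kg xg18 yg45 zg33) (kg xg10 yg15 zg7) (kg xg5 yg15 zg22) (kg xg10 yg15 zg6) (kg xg18 yg45 zg36) (kg xg18 yg45 zg38) (kg xg10 yg23 zg44) (kg xg18 yg44 zg44) (kg xg5 yg15 zg25) (kg xg17 yg23 zg28) (kg xg18 yg45 zg46) (kg xg5 yg15 zg38) (kg xg15 yg39 zg12) (kg xg5 yg15 zg27) (kg xg15 yg39 zg10) (kg xg14 yg22 zg13) (kg xg5 yg19 zg2) (kg xg18 yg45 zg54) (kg xg7 yg57 zg36) (kg xg18 yg9 zg10) (kg xg10 yg38 zg57) (kg xg10 yg24 zg54)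 (kg xg17 yg48 zg47) (kg xg18 yg46 zg0) (kg xg11 yg55 zg11) (kg xg15 yg24 zg61) (kg xg18 yg31 zg57) (kg xg5 yg38 zg53) (kg xg5 yg17 zg2) (kg xg18 yg44 zg41) (kg xg5 yg15 zg37) (kg xg18 yg44 zg40) (kg xg18 yg46 zg15) (kg xg18 yg46 zg18) (kg xg17 yg20 zg12) (kg xg18 yg22 zg23) (kg xg5 yg15 zg39) (kg xg18 yg46 zg23) (kg xg10 yg24 zg42) (kg xg11 yg54 zg56) (kg xg5 yg15 zg41) (kg xg18 yg46 zg27) (kg xg10 yg17 zg5) (kg xg18 yg46 zg32) (kg xg8 yg16 zg6) (kg xg10 yg29 zg16) (kg xg5 yg15 zg44) (kg xg18 yg46 zg37) (kg xg10 yg26 zg23) (kg xg15 yg36 zg20) (kg xg5 yg15 zg46) (kg xg15 yg36 zg19) (kg xg11 yg45 zg30) (kg xg7 yg55 zg21) (kg xg5 yg15 zg55) (kg xg18 yg46 zg53) (kg xg18 yg44 zg56) (kg xg5 yg15 zg48) (kg xg18 yg46 zg60) (kg xg18 yg13 zg39) (kg xg18 yg27 zg57)) (@D3.rec (fun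 _ => Pt) (kg xg10 yg54 zg27) (kg xg5 yg16 zg0) (kg xg5 yg31 zg20) (kg xg18 yg47 zg5) (kg xg9 yg56 zg33) (kg xg18 yg14 zg27) (kg xg16 yg13 zg43) (kg xg5 yg15 zg53) (kg xg12 yg20 zg18) (kg xg18 yg44 zg50) (kg xg5 yg15 zg54) (kg xg18 yg44 zg49) (kg xg18 yg47 zg19) (kg xg18 yg47 zg23) (kg xg18 yg47 zg27) (kg xg15 yg36 zg14) (kg xg5 yg15 zg56) (kg xg18 yg47 zg33) (kg xg15 yg36 zg11) (kg xg18 yg45 zg3) (kg xg10 yg26 zg21) (kg xg5 yg16 zg3) (kg xg18 yg44 zg60) (kg xg5 yg15 zg60) (kg xg18 yg44 zg59) (kg xg18 yg47 zg46) (kg xg18 yg47 zg48) (kg xg5 yg16 zg2) (kg xg18 yg47 zg53) (kg xg18 yg47 zg56) (kg xg18 yg27 zg55) (kg xg18 yg27 zg52) (kg xg5 yg16 zg1) (kg xg18 yg27 zg51) (kg xg18 yg48 zg5) (kg xg18 yg48 zg9) (kg xg18 yg48 zg12) (kg xg18 yg39 zg30) (kg xg10 yg26 zg51) (kg xg5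 yg16 zg5) (kg xg18 yg48 zg0) (kg xg18 yg48 zg21) (kg xg18 yg48 zg25) (kg xg5 yg16 zg6) (kg xg18 yg7 zg11) (kg xg9 yg24 zg41) (kg xg5 yg21 zg7) (kg xg16 yg54 zg10) (kg xg16 yg54 zg9) (kg xg18 yg48 zg35) (kg xg18 yg48 zg41) (kg xg16 yg54 zg0) (kg xg18 yg48 zg44) (kg xg18 yg47 zg39) (kg xg18 yg47 zg61) (kg xg16 yg53 zg52) (kg xg18 yg48 zg50) (kg xg10 yg20 zg35) (kg xg18 yg45 zg21) (kg xg5 yg16 zg12) (kg xg17 yg18 zg56) (kg xg17 yg10 zg47)) (@D3.rec (fun _ => Pt) (kg xg10 yg23 zg61) (kg xg5 yg16 zg14) (kg xg18 yg49 zg3) (kg xg10 yg25 zg14) (kg xg15 yg36 zg5) (kg xg18 yg44 zg57) (kg xg5 yg21 zg25) (kg xg15 yg36 zg17) (kg xg10 yg2 zg38) (kg xg18 yg49 zg14) (kg xg10 yg30 zg27) (kg xg7 yg12 zg33) (kg xg16 yg35 zg1) (kg xg5 yg16 zg19) (kg xg16 yg35 zg0) (kg xg16 yg34 zg44) (kg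 xg16 yg35 zg10) (kg xg10 yg37 zg2) (kg xg8 yg52 zg40) (kg xg8 yg54 zg33) (kg xg5 yg32 zg0) (kg xg9 yg24 zg46) (kg xg10 yg44 zg44) (kg xg6 yg7 zg29) (kg xg16 yg20 zg51) (kg xg10 yg27 zg47) (kg xg18 yg49 zg33) (kg xg10 yg29 zg51) (kg xg5 yg16 zg28) (kg xg18 yg49 zg40) (kg xg10 yg29 zg49) (kg xg10 yg25 zg30) (kg xg10 yg30 zg7) (kg xg10 yg30 zg29) (kg xg5 yg19 zg33) (kg xg10 yg27 zg40) (kg xg18 yg47 zg15) (kg xg9 yg57 zg61) (kg xg5 yg16 zg36) (kg xg12 yg41 zg11) (kg xg18 yg49 zg50) (kg xg5 yg16 zg42) (kg xg5 yg16 zg37) (kg xg18 yg46 zg41) (kg xg18 yg49 zg60) (kg xg18 yg50 zg1) (kg xg18 yg35 zg54) (kg xg5 yg16 zg43) (kg xg12 yg38 zg43) (kg xg13 yg14 zg41) (kg xg18 yg50 zg8) (kg xg17 yg48 zg43) (kg xg5 yg25 zg34) (kg xg6 yg41 zg12) (kg xg9 yg58 zg37) (kg xg6 yg40 zg32) (kg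 xg16 yg20 zg24) (kg xg15 yg50 zg58) (kg xg18 yg49 zg61) (kg xg15 yg50 zg1) (kg xg6 yg48 zg0) (kg xg5 yg16 zg44)) (@D3.rec (fun _ => Pt) (kg xg6 yg26 zg21) (kg xg9 yg58 zg52) (kg xg17 yg0 zg4) (kg xg14 yg11 zg54) (kg xg6 yg34 zg60) (kg xg18 yg50 zg29) (kg xg18 yg50 zg33) (kg xg18 yg50 zg30) (kg xg16 yg25 zg27) (kg xg5 yg16 zg48) (kg xg18 yg50 zg40) (kg xg18 yg50 zg42) (kg xg6 yg34 zg24) (kg xg5 yg16 zg49) (kg xg10 yg26 zg52) (kg xg6 yg34 zg19) (kg xg11 yg2 zg13) (kg xg17 yg8 zg54) (kg xg5 yg34 zg59) (kg xg11 yg12 zg38) (kg xg10 yg26 zg26) (kg xg10 yg28 zg26) (kg xg18 yg50 zg57) (kg xg9 yg40 zg37) (kg xg5 yg29 zg46) (kg xg8 yg57 zg12) (kg xg18 yg51 zg2) (kg xg5 yg29 zg49) (kg xg10 yg56 zg3) (kg xg10 yg49 zg57) (kg xg5 yg16 zg58) (kg xg10 yg49 zg56) (kg xg18 yg51 zg15)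 (kg xg8 yg6 zg29) (kg xg5 yg16 zg59) (kg xg18 yg51 zg23) (kg xg15 yg30 zg2) (kg xg12 yg52 zg35) (kg xg8 yg15 zg12) (kg xg11 yg2 zg32) (kg xg18 yg51 zg31) (kg xg8 yg15 zg35) (kg xg18 yg51 zg35) (kg xg8 yg15 zg9) (kg xg18 yg51 zg41) (kg xg18 yg51 zg42) (kg xg10 yg24 zg41) (kg xg5 yg17 zg5) (kg xg5 yg17 zg54) (kg xg18 yg51 zg47) (kg xg10 yg24 zg32) (kg xg7 yg32 zg43) (kg xg18 yg51 zg52) (kg xg5 yg17 zg7) (kg xg18 yg51 zg53) (kg xg18 yg52 zg2) (kg xg18 yg51 zg58) (kg xg5 yg17 zg8) (kg xg5 yg26 zg10) (kg xg18 yg52 zg11) (kg xg5 yg18 zg13) (kg xg10 yg22 zg1)) (@D3.rec (fun _ => Pt) (kg xg18 yg52 zg15) (kg xg8 yg16 zg28) (kg xg15 yg38 zg59) (kg xg18 yg52 zg21) (kg xg18 yg52 zg23) (kg xg15 yg31 zg16) (kg xg15 yg51 zg57) (kg xg5 yg17 zg16) (kg xg15 yg51 zg56) (kg xg18 yg52 zg30)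 (kg xg18 yg52 zg32) (kg xg10 yg43 zg43) (kg xg11 yg5 zg18) (kg xg5 yg17 zg20) (kg xg8 yg17 zg11) (kg xg18 yg51 zg27) (kg xg5 yg17 zg22) (kg xg18 yg51 zg26) (kg xg18 yg52 zg38) (kg xg15 yg28 zg47) (kg xg5 yg17 zg24) (kg xg15 yg28 zg46) (kg xg18 yg52 zg41) (kg xg5 yg17 zg25) (kg xg18 yg52 zg42) (kg xg18 yg52 zg52) (kg xg18 yg52 zg47) (kg xg18 yg52 zg55) (kg xg5 yg35 zg5) (kg xg8 yg17 zg8) (kg xg5 yg17 zg28) (kg xg18 yg52 zg60) (kg xg9 yg53 zg19) (kg xg18 yg53 zg4) (kg xg10 yg2 zg11) (kg xg5 yg17 zg30) (kg xg10 yg2 zg10) (kg xg18 yg53 zg9) (kg xg10 yg23 zg46) (kg xg18 yg53 zg7) (kg xg18 yg53 zg16) (kg xg8 yg30 zg45) (kg xg10 yg19 zg34) (kg xg18 yg51 zg37) (kg xg5 yg17 zg33) (kg xg18 yg51 zg36) (kg xg18 yg53 zg32) (kg xg6 yg52 zg58) (kg xg17 yg25 zg37) (kg xg16 yg0 zg45)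 (kg xg5 yg17 zg35) (kg xg17 yg25 zg61) (kg xg16 yg0 zg42) (kg xg18 yg4 zg24) (kg xg8 yg52 zg0) (kg xg18 yg53 zg44) (kg xg17 yg47 zg8) (kg xg10 yg27 zg58) (kg xg18 yg53 zg48) (kg xg10 yg20 zg17) (kg xg18 yg51 zg33) (kg xg5 yg17 zg42)) (@D3.rec (fun _ => Pt) (kg xg18 yg51 zg32) (kg xg18 yg53 zg60) (kg xg18 yg54 zg2) (kg xg18 yg54 zg6) (kg xg15 yg51 zg39) (kg xg5 yg17 zg44) (kg xg10 yg53 zg37) (kg xg10 yg20 zg7) (kg xg15 yg30 zg54) (kg xg5 yg17 zg46) (kg xg18 yg54 zg12) (kg xg10 yg3 zg50) (kg xg18 yg54 zg15) (kg xg18 yg54 zg17) (kg xg10 yg22 zg7) (kg xg13 yg4 zg60) (kg xg5 yg17 zg50) (kg xg15 yg59 zg0) (kg xg18 yg54 zg28) (kg xg14 yg33 zg1) (kg xg5 yg17 zg58) (kg xg5 yg17 zg51) (kg xg6 yg32 zg58) (kg xg5 yg17 zg52) (kg xg6 yg43 zg23) (kg xg15 yg32 zg36) (kg xg5 yg18 zg3)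 (kg xg8 yg57 zg13) (kg xg10 yg28 zg1) (kg xg5 yg17 zg56) (kg xg10 yg28 zg0) (kg xg18 yg51 zg44) (kg xg5 yg17 zg57) (kg xg18 yg51 zg43) (kg xg18 yg54 zg44) (kg xg18 yg54 zg48) (kg xg14 yg11 zg4) (kg xg13 yg5 zg1) (kg xg5 yg17 zg59) (kg xg13 yg5 zg0) (kg xg15 yg58 zg60) (kg xg7 yg32 zg34) (kg xg10 yg22 zg5) (kg xg5 yg18 zg6) (kg xg18 yg51 zg49) (kg xg5 yg18 zg1) (kg xg18 yg51 zg48) (kg xg18 yg55 zg0) (kg xg18 yg55 zg3) (kg xg5 yg18 zg5) (kg xg18 yg5 zg49) (kg xg5 yg18 zg4) (kg xg18 yg5 zg48) (kg xg5 yg18 zg8) (kg xg18 yg55 zg9) (kg xg18 yg55 zg18) (kg xg10 yg42 zg26) (kg xg5 yg18 zg9) (kg xg18 yg29 zg4) (kg xg18 yg20 zg17) (kg xg13 yg53 zg42) (kg xg18 yg55 zg23)) (@D3.rec (fun _ => Pt) (kg xg18 yg55 zg12) (kg xg5 yg18 zg10) (kg xg18 yg55 zg33) (kg xg16 yg54 zg58) (kg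 xg18 yg55 zg24) (kg xg10 yg32 zg18) (kg xg18 yg54 zg55) (kg xg15 yg40 zg29) (kg xg18 yg55 zg8) (kg xg16 yg46 zg46) (kg xg15 yg34 zg40) (kg xg18 yg55 zg46) (kg xg18 yg52 zg12) (kg xg5 yg18 zg15) (kg xg17 yg21 zg19) (kg xg18 yg55 zg54) (kg xg10 yg19 zg50) (kg xg5 yg18 zg17) (kg xg12 yg51 zg58) (kg xg10 yg20 zg49) (kg xg15 yg39 zg8) (kg xg18 yg51 zg46) (kg xg5 yg19 zg14) (kg xg15 yg32 zg18) (kg xg10 yg15 zg22) (kg xg10 yg14 zg56) (kg xg10 yg29 zg12) (kg xg18 yg56 zg10) (kg xg10 yg28 zg36) (kg xg5 yg18 zg22) (kg xg18 yg19 zg50) (kg xg10 yg28 zg34) (kg xg10 yg27 zg61) (kg xg10 yg28 zg51) (kg xg16 yg38 zg27) (kg xg5 yg19 zg43) (kg xg5 yg24 zg27) (kg xg10 yg21 zg30) (kg xg11 yg56 zg1) (kg xg5 yg38 zg40) (kg xg13 yg41 zg6) (kg xg18 yg56 zg30) (kg xg10 yg23 zg20) (kg xg11 yg6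 zg8) (kg xg18 yg56 zg34) (kg xg16 yg35 zg42) (kg xg5 yg18 zg32) (kg xg18 yg56 zg37) (kg xg16 yg35 zg40) (kg xg10 yg21 zg8) (kg xg8 yg52 zg20) (kg xg10 yg19 zg42) (kg xg9 yg43 zg14) (kg xg18 yg13 zg45) (kg xg18 yg54 zg41) (kg xg9 yg55 zg59) (kg xg9 yg43 zg18) (kg xg5 yg18 zg40) (kg xg18 yg56 zg47) (kg xg5 yg18 zg46) (kg xg5 yg18 zg41) (kg xg18 yg54 zg22)) (@D3.rec (fun _ => Pt) (kg xg18 yg56 zg55) (kg xg18 yg56 zg58) (kg xg18 yg15 zg25) (kg xg5 yg18 zg47) (kg xg6 yg46 zg56) (kg xg18 yg56 zg60) (kg xg18 yg0 zg12) (kg xg9 yg43 zg17) (kg xg18 yg57 zg2) (kg xg9 yg40 zg60) (kg xg10 yg42 zg17) (kg xg18 yg7 zg36) (kg xg10 yg12 zg36) (kg xg10 yg12 zg56) (kg xg18 yg0 zg29) (kg xg18 yg57 zg11) (kg xg15 yg32 zg14) (kg xg18 yg56 zg56) (kg xg13 yg19 zg48) (kg xg6 yg56 zg30) (kg xg9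 yg32 zg57) (kg xg5 yg18 zg48) (kg xg12 yg16 zg0) (kg xg10 yg12 zg46) (kg xg11 yg35 zg44) (kg xg18 yg57 zg28) (kg xg12 yg34 zg60) (kg xg9 yg16 zg1) (kg xg18 yg57 zg33) (kg xg18 yg57 zg4) (kg xg18 yg57 zg30) (kg xg18 yg12 zg61) (kg xg11 yg35 zg45) (kg xg5 yg18 zg52) (kg xg18 yg57 zg46) (kg xg18 yg57 zg49) (kg xg12 yg35 zg12) (kg xg5 yg18 zg53) (kg xg18 yg57 zg29) (kg xg10 yg22 zg35) (kg xg5 yg18 zg54) (kg xg9 yg10 zg0) (kg xg10 yg45 zg53) (kg xg11 yg51 zg24) (kg xg12 yg35 zg8) (kg xg8 yg59 zg46) (kg xg18 yg58 zg3) (kg xg10 yg22 zg10) (kg xg16 yg3 zg34) (kg xg10 yg10 zg51) (kg xg18 yg58 zg7) (kg xg18 yg58 zg8) (kg xg15 yg48 zg51) (kg xg10 yg28 zg6) (kg xg5 yg19 zg0) (kg xg10 yg28 zg5) (kg xg18 yg10 zg49) (kg xg10 yg11 zg9) (kg xg8 yg54 zg12) (kg xg10 yg28 zg8) (kg xg5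 yg19 zg4) (kg xg10 yg28 zg7)) (@D3.rec (fun _ => Pt) (kg xg5 yg19 zg5) (kg xg10 yg25 zg29) (kg xg5 yg19 zg7) (kg xg18 yg33 zg42) (kg xg9 yg55 zg18) (kg xg5 yg19 zg9) (kg xg10 yg27 zg54) (kg xg5 yg19 zg11) (kg xg10 yg27 zg60) (kg xg10 yg30 zg21) (kg xg5 yg19 zg12) (kg xg18 yg13 zg5) (kg xg18 yg14 zg29) (kg xg8 yg52 zg4) (kg xg10 yg29 zg27) (kg xg5 yg19 zg15) (kg xg10 yg29 zg26) (kg xg18 yg47 zg42) (kg xg18 yg58 zg40) (kg xg18 yg58 zg44) (kg xg10 yg15 zg0) (kg xg5 yg19 zg17) (kg xg18 yg39 zg33) (kg xg10 yg14 zg60) (kg xg18 yg58 zg54) (kg xg15 yg11 zg1) (kg xg10 yg29 zg13) (kg xg10 yg29 zg44) (kg xg5 yg19 zg21) (kg xg10 yg29 zg43) (kg xg15 yg3 zg55) (kg xg18 yg59 zg7) (kg xg18 yg59 zg11) (kg xg10 yg26 zg31) (kg xg5 yg19 zg23) (kg xg18 yg41 zg27) (kg xg10 yg26 zg29) (kg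 xg10 yg30 zg0) (kg xg10 yg34 zg13) (kg xg5 yg19 zg30) (kg xg5 yg24 zg24) (kg xg5 yg19 zg26) (kg xg17 yg35 zg43) (kg xg5 yg21 zg43) (kg xg10 yg30 zg2) (kg xg5 yg19 zg28) (kg xg8 yg45 zg18) (kg xg8 yg44 zg2) (kg xg8 yg44 zg58) (kg xg18 yg59 zg37) (kg xg18 yg41 zg17) (kg xg8 yg44 zg37) (kg xg10 yg29 zg57) (kg xg5 yg19 zg31) (kg xg10 yg29 zg56) (kg xg18 yg59 zg51) (kg xg18 yg59 zg54) (kg xg18 yg39 zg3) (kg xg18 yg59 zg61) (kg xg10 yg29 zg54) (kg xg18 yg59 zg45) (kg xg19 yg0 zg5)) (@D3.rec (fun _ => Pt) (kg xg19 yg0 zg8) (kg xg18 yg49 zg43) (kg xg18 yg59 zg33) (kg xg19 yg0 zg16) (kg xg18 yg59 zg44) (kg xg18 yg56 zg21) (kg xg19 yg0 zg25) (kg xg10 yg30 zg25) (kg xg5 yg19 zg40) (kg xg10 yg30 zg24) (kg xg5 yg19 zg41) (kg xg19 yg0 zg33) (kg xg10 yg26 zg42) (kg xg10 yg2 zg5) (kg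 xg8 yg44 zg36) (kg xg10 yg15 zg60) (kg xg10 yg20 zg47) (kg xg15 yg14 zg32) (kg xg5 yg19 zg44) (kg xg8 yg41 zg44) (kg xg10 yg30 zg18) (kg xg5 yg19 zg45) (kg xg18 yg5 zg53) (kg xg19 yg0 zg43) (kg xg19 yg0 zg45) (kg xg10 yg28 zg16) (kg xg5 yg19 zg48) (kg xg10 yg28 zg15) (kg xg18 yg58 zg59) (kg xg16 yg52 zg50) (kg xg16 yg19 zg39) (kg xg10 yg3 zg26) (kg xg19 yg0 zg60) (kg xg10 yg1 zg53) (kg xg16 yg40 zg0) (kg xg8 yg54 zg6) (kg xg5 yg19 zg52) (kg xg16 yg37 zg1) (kg xg10 yg3 zg30) (kg xg19 yg1 zg7) (kg xg11 yg52 zg25) (kg xg8 yg11 zg1) (kg xg10 yg28 zg29) (kg xg5 yg19 zg56) (kg xg10 yg28 zg28) (kg xg18 yg58 zg31) (kg xg19 yg1 zg18) (kg xg19 yg1 zg22) (kg xg10 yg22 zg30) (kg xg5 yg19 zg58) (kg xg18 yg20 zg4) (kg xg10 yg22 zg28) (kg xg10 yg28 zg59) (kg xg8 yg54 zg32) (kg xg5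 yg20 zg5) (kg xg10 yg28 zg54) (kg xg5 yg20 zg0) (kg xg10 yg28 zg53) (kg xg11 yg13 zg14) (kg xg19 yg1 zg34) (kg xg18 yg22 zg6) (kg xg18 yg19 zg35)) (@D3.rec (fun _ => Pt) (kg xg10 yg28 zg39) (kg xg10 yg28 zg46) (kg xg10 yg28 zg45) (kg xg16 yg21 zg21) (kg xg16 yg23 zg26) (kg xg19 yg1 zg48) (kg xg11 yg11 zg47) (kg xg10 yg22 zg34) (kg xg5 yg20 zg10) (kg xg16 yg23 zg18) (kg xg19 yg1 zg58) (kg xg10 yg14 zg48) (kg xg19 yg2 zg2) (kg xg5 yg20 zg8) (kg xg9 yg59 zg16) (kg xg12 yg19 zg22) (kg xg18 yg21 zg41) (kg xg19 yg1 zg31) (kg xg10 yg29 zg21) (kg xg19 yg2 zg16) (kg xg19 yg2 zg19) (kg xg10 yg28 zg10) (kg xg19 yg2 zg22) (kg xg10 yg29 zg9) (kg xg5 yg20 zg12) (kg xg10 yg29 zg8) (kg xg16 yg30 zg4) (kg xg10 yg22 zg25) (kg xg10 yg15 zg4) (kg xg10 yg22 zg20) (kg xg14 yg39 zg9) (kg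 xg14 yg39 zg32) (kg xg19 yg2 zg36) (kg xg10 yg33 zg24) (kg xg19 yg2 zg42) (kg xg5 yg20 zg18) (kg xg5 yg21 zg52) (kg xg19 yg2 zg47) (kg xg10 yg33 zg19) (kg xg11 yg55 zg50) (kg xg19 yg2 zg55) (kg xg10 yg33 zg14) (kg xg16 yg38 zg26) (kg xg19 yg3 zg1) (kg xg5 yg20 zg21) (kg xg19 yg3 zg2) (kg xg19 yg3 zg11) (kg xg19 yg3 zg6) (kg xg5 yg22 zg13) (kg xg5 yg20 zg22) (kg xg19 yg3 zg18) (kg xg5 yg22 zg10) (kg xg5 yg25 zg40) (kg xg19 yg3 zg21) (kg xg11 yg2 zg53) (kg xg8 yg7 zg37) (kg xg19 yg3 zg24) (kg xg19 yg3 zg27) (kg xg15 yg43 zg59) (kg xg19 yg3 zg33) (kg xg5 yg21 zg41) (kg xg5 yg23 zg42)) (@D3.rec (fun _ => Pt) (kg xg5 yg20 zg30) (kg xg5 yg23 zg41) (kg xg19 yg3 zg42) (kg xg5 yg20 zg38) (kg xg18 yg49 zg54) (kg xg5 yg23 zg10) (kg xg5 yg20 zg32) (kg xg19 yg3 zg54) (kg xg5 yg23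 zg8) (kg xg15 yg1 zg15) (kg xg10 yg32 zg27) (kg xg19 yg3 zg59) (kg xg16 yg51 zg13) (kg xg5 yg23 zg36) (kg xg5 yg23 zg1) (kg xg5 yg20 zg37) (kg xg5 yg23 zg0) (kg xg19 yg4 zg4) (kg xg19 yg4 zg7) (kg xg19 yg4 zg10) (kg xg5 yg23 zg49) (kg xg5 yg20 zg39) (kg xg19 yg4 zg17) (kg xg5 yg23 zg47) (kg xg15 yg45 zg21) (kg xg10 yg16 zg47) (kg xg15 yg12 zg48) (kg xg5 yg20 zg42) (kg xg16 yg12 zg59) (kg xg5 yg34 zg13) (kg xg5 yg25 zg43) (kg xg5 yg24 zg38) (kg xg5 yg20 zg44) (kg xg5 yg24 zg37) (kg xg10 yg37 zg50) (kg xg7 yg45 zg56) (kg xg18 yg39 zg17) (kg xg5 yg20 zg46) (kg xg5 yg37 zg14) (kg xg5 yg24 zg19) (kg xg5 yg20 zg57) (kg xg10 yg28 zg38) (kg xg15 yg8 zg55) (kg xg5 yg32 zg31) (kg xg5 yg24 zg12) (kg xg5 yg20 zg50) (kg xg5 yg24 zg11) (kg xg10 yg36 zg23) (kg xg7 yg45 zg37) (kg xg13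 yg19 zg45) (kg xg5 yg24 zg43) (kg xg5 yg20 zg52) (kg xg5 yg24 zg42) (kg xg5 yg25 zg10) (kg xg5 yg25 zg49) (kg xg5 yg25 zg3) (kg xg5 yg20 zg55) (kg xg5 yg25 zg2) (kg xg19 yg4 zg54) (kg xg14 yg42 zg27) (kg xg18 yg20 zg36) (kg xg5 yg24 zg53)) (@D3.rec (fun _ => Pt) (kg xg5 yg20 zg58) (kg xg17 yg44 zg4) (kg xg10 yg40 zg1) (kg xg18 yg21 zg0) (kg xg5 yg21 zg1) (kg xg5 yg21 zg4) (kg xg14 yg43 zg28) (kg xg19 yg5 zg6) (kg xg18 yg22 zg24) (kg xg14 yg41 zg56) (kg xg5 yg21 zg2) (kg xg16 yg39 zg31) (kg xg8 yg57 zg18) (kg xg17 yg52 zg23) (kg xg17 yg52 zg24) (kg xg5 yg21 zg3) (kg xg9 yg28 zg37) (kg xg19 yg4 zg48) (kg xg18 yg48 zg18) (kg xg16 yg15 zg10) (kg xg19 yg5 zg22) (kg xg5 yg25 zg37) (kg xg5 yg25 zg36) (kg xg5 yg22 zg14) (kg xg5 yg21 zg8) (kg xg9 yg22 zg33) (kg xg16 yg38 zg33)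 (kg xg10 yg33 zg34) (kg xg5 yg22 zg15) (kg xg5 yg24 zg8) (kg xg10 yg31 zg10) (kg xg16 yg2 zg55) (kg xg15 yg53 zg37) (kg xg8 yg20 zg36) (kg xg15 yg44 zg36) (kg xg15 yg45 zg27) (kg xg8 yg20 zg31) (kg xg8 yg35 zg8) (kg xg15 yg41 zg28) (kg xg5 yg21 zg13) (kg xg15 yg41 zg27) (kg xg19 yg5 zg53) (kg xg8 yg33 zg36) (kg xg5 yg21 zg14) (kg xg19 yg5 zg57) (kg xg8 yg33 zg44) (kg xg8 yg22 zg15) (kg xg16 yg3 zg61) (kg xg5 yg21 zg16) (kg xg16 yg3 zg60) (kg xg19 yg6 zg4) (kg xg7 yg58 zg38) (kg xg7 yg58 zg37) (kg xg19 yg6 zg11) (kg xg18 yg44 zg17) (kg xg7 yg57 zg59) (kg xg18 yg12 zg44) (kg xg10 yg9 zg38) (kg xg10 yg10 zg14) (kg xg5 yg21 zg20) (kg xg15 yg38 zg39) (kg xg9 yg56 zg30)) (@D3.rec (fun _ => Pt) (kg xg10 yg11 zg51) (kg xg5 yg21 zg22) (kg xg16 yg34 zg43) (kg xg18 yg34 zg10)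 (kg xg5 yg21 zg23) (kg xg18 yg34 zg9) (kg xg19 yg6 zg39) (kg xg19 yg6 zg42) (kg xg19 yg6 zg45) (kg xg11 yg5 zg58) (kg xg10 yg0 zg48) (kg xg5 yg21 zg27) (kg xg10 yg0 zg47) (kg xg19 yg6 zg49) (kg xg10 yg30 zg38) (kg xg16 yg54 zg26) (kg xg5 yg23 zg51) (kg xg5 yg21 zg29) (kg xg19 yg6 zg55) (kg xg10 yg30 zg41) (kg xg19 yg6 zg59) (kg xg10 yg30 zg33) (kg xg9 yg3 zg59) (kg xg19 yg7 zg2) (kg xg8 yg53 zg56) (kg xg14 yg39 zg11) (kg xg5 yg21 zg33) (kg xg19 yg7 zg14) (kg xg5 yg21 zg40) (kg xg5 yg21 zg34) (kg xg14 yg30 zg48) (kg xg14 yg39 zg31) (kg xg19 yg7 zg23) (kg xg17 yg35 zg39) (kg xg10 yg32 zg30) (kg xg14 yg39 zg25) (kg xg19 yg7 zg26) (kg xg14 yg39 zg29) (kg xg19 yg7 zg32) (kg xg18 yg59 zg27) (kg xg19 yg7 zg37) (kg xg15 yg30 zg8) (kg xg15 yg32 zg2) (kg xg5 yg21 zg45) (kg xg11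 yg55 zg33) (kg xg19 yg7 zg45) (kg xg5 yg25 zg47) (kg xg19 yg7 zg49) (kg xg16 yg38 zg36) (kg xg5 yg21 zg48) (kg xg16 yg38 zg35) (kg xg19 yg7 zg57) (kg xg19 yg7 zg61) (kg xg5 yg21 zg55) (kg xg5 yg21 zg49) (kg xg19 yg8 zg7) (kg xg19 yg2 zg45) (kg xg5 yg21 zg50) (kg xg10 yg36 zg11) (kg xg19 yg2 zg43) (kg xg19 yg2 zg54) (kg xg15 yg44 zg1)) (@D3.rec (fun _ => Pt) (kg xg5 yg22 zg0) (kg xg8 yg22 zg16) (kg xg19 yg2 zg38) (kg xg5 yg21 zg54) (kg xg19 yg2 zg37) (kg xg19 yg8 zg29) (kg xg19 yg8 zg32) (kg xg14 yg31 zg20) (kg xg16 yg38 zg31) (kg xg5 yg21 zg56) (kg xg10 yg36 zg50) (kg xg9 yg4 zg5) (kg xg19 yg3 zg0) (kg xg5 yg25 zg45) (kg xg5 yg22 zg3) (kg xg19 yg2 zg57) (kg xg5 yg21 zg60) (kg xg19 yg2 zg56) (kg xg19 yg8 zg56) (kg xg14 yg53 zg7) (kg xg5 yg22 zg2) (kg xg19 yg9 zg1) (kg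 xg10 yg35 zg53) (kg xg19 yg2 zg46) (kg xg19 yg2 zg49) (kg xg5 yg22 zg1) (kg xg19 yg2 zg48) (kg xg19 yg9 zg16) (kg xg19 yg9 zg20) (kg xg19 yg9 zg24) (kg xg10 yg36 zg61) (kg xg11 yg56 zg8) (kg xg5 yg22 zg5) (kg xg5 yg22 zg8) (kg xg19 yg9 zg10) (kg xg6 yg51 zg15) (kg xg16 yg2 zg3) (kg xg19 yg9 zg42) (kg xg5 yg22 zg6) (kg xg19 yg9 zg45) (kg xg18 yg41 zg37) (kg xg19 yg9 zg48) (kg xg19 yg9 zg30) (kg xg5 yg22 zg7) (kg xg19 yg9 zg58) (kg xg19 yg10 zg2) (kg xg19 yg9 zg49) (kg xg19 yg10 zg4) (kg xg19 yg8 zg50) (kg xg13 yg8 zg6) (kg xg19 yg9 zg9) (kg xg19 yg10 zg11) (kg xg19 yg6 zg43) (kg xg19 yg10 zg16) (kg xg19 yg3 zg20) (kg xg5 yg22 zg12) (kg xg19 yg3 zg19) (kg xg19 yg10 zg27) (kg xg19 yg5 zg32) (kg xg8 yg39 zg48) (kg xg10 yg35 zg26) (kg xg5 yg22 zg16)) (@D3.rec (fun _ => Pt)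 (kg xg10 yg35 zg25) (kg xg19 yg10 zg31) (kg xg15 yg32 zg1) (kg xg10 yg37 zg37) (kg xg5 yg22 zg19) (kg xg10 yg37 zg36) (kg xg8 yg43 zg29) (kg xg19 yg10 zg41) (kg xg10 yg42 zg16) (kg xg5 yg22 zg21) (kg xg9 yg14 zg42) (kg xg9 yg0 zg5) (kg xg10 yg42 zg42) (kg xg10 yg35 zg43) (kg xg5 yg22 zg24) (kg xg10 yg35 zg41) (kg xg9 yg40 zg40) (kg xg9 yg43 zg23) (kg xg5 yg22 zg27) (kg xg16 yg50 zg60) (kg xg5 yg35 zg58) (kg xg9 yg37 zg38) (kg xg19 yg10 zg49) (kg xg11 yg4 zg47) (kg xg10 yg35 zg0) (kg xg5 yg22 zg33) (kg xg10 yg34 zg61) (kg xg19 yg10 zg55) (kg xg8 yg11 zg21) (kg xg5 yg22 zg35) (kg xg10 yg15 zg40) (kg xg19 yg3 zg61) (kg xg5 yg22 zg36) (kg xg19 yg3 zg60) (kg xg7 yg49 zg34) (kg xg17 yg9 zg2) (kg xg10 yg35 zg9) (kg xg9 yg41 zg35) (kg xg9 yg40 zg38) (kg xg19 yg10 zg29) (kg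 xg10 yg35 zg15) (kg xg5 yg22 zg40) (kg xg17 yg49 zg55) (kg xg10 yg35 zg14) (kg xg8 yg13 zg2) (kg xg19 yg11 zg15) (kg xg15 yg27 zg53) (kg xg19 yg3 zg26) (kg xg5 yg22 zg45) (kg xg19 yg3 zg25) (kg xg17 yg28 zg47) (kg xg15 yg44 zg6) (kg xg5 yg22 zg47) (kg xg19 yg11 zg32) (kg xg15 yg44 zg3) (kg xg16 yg11 zg47) (kg xg19 yg3 zg32) (kg xg5 yg22 zg56) (kg xg15 yg44 zg9) (kg xg5 yg22 zg51) (kg xg15 yg44 zg8) (kg xg10 yg41 zg27)) (@D3.rec (fun _ => Pt) (kg xg19 yg11 zg42) (kg xg19 yg11 zg45) (kg xg18 yg59 zg30) (kg xg5 yg22 zg53) (kg xg19 yg11 zg53) (kg xg19 yg3 zg35) (kg xg5 yg22 zg54) (kg xg19 yg3 zg34) (kg xg10 yg20 zg34) (kg xg19 yg12 zg5) (kg xg18 yg10 zg31) (kg xg19 yg12 zg10) (kg xg15 yg44 zg0) (kg xg19 yg3 zg29) (kg xg5 yg22 zg57) (kg xg19 yg3 zg28) (kg xg11 yg0 zg38)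 (kg xg19 yg12 zg24) (kg xg9 yg33 zg17) (kg xg19 yg12 zg27) (kg xg19 yg12 zg31) (kg xg19 yg12 zg15) (kg xg14 yg36 zg7) (kg xg10 yg39 zg9) (kg xg14 yg37 zg16) (kg xg19 yg12 zg44) (kg xg19 yg12 zg39) (kg xg10 yg31 zg47) (kg xg19 yg2 zg34) (kg xg19 yg4 zg5) (kg xg14 yg38 zg11) (kg xg16 yg21 zg25) (kg xg5 yg23 zg2) (kg xg19 yg12 zg56) (kg xg14 yg40 zg18) (kg xg5 yg23 zg3) (kg xg19 yg13 zg3) (kg xg19 yg12 zg52) (kg xg19 yg11 zg58) (kg xg10 yg27 zg1) (kg xg19 yg12 zg14) (kg xg18 yg50 zg20) (kg xg18 yg50 zg50) (kg xg5 yg23 zg6) (kg xg19 yg13 zg18) (kg xg19 yg3 zg48) (kg xg19 yg13 zg22) (kg xg10 yg34 zg10) (kg xg17 yg1 zg56) (kg xg7 yg57 zg50) (kg xg19 yg13 zg25) (kg xg10 yg42 zg48) (kg xg19 yg3 zg57) (kg xg5 yg23 zg9) (kg xg19 yg13 zg39) (kg xg19 yg3 zg55) (kg xg5 yg23 zg13)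 (kg xg19 yg13 zg47) (kg xg10 yg34 zg30) (kg xg9 yg41 zg2) (kg xg11 yg54 zg30) (kg xg19 yg13 zg49)) (@D3.rec (fun _ => Pt) (kg xg16 yg55 zg4) (kg xg11 yg53 zg58) (kg xg10 yg22 zg19) (kg xg11 yg52 zg29) (kg xg11 yg53 zg38) (kg xg5 yg23 zg17) (kg xg19 yg14 zg1) (kg xg19 yg14 zg6) (kg xg11 yg53 zg36) (kg xg11 yg52 zg28) (kg xg11 yg56 zg31) (kg xg11 yg52 zg16) (kg xg11 yg54 zg27) (kg xg6 yg5 zg4) (kg xg5 yg23 zg21) (kg xg10 yg37 zg17) (kg xg10 yg37 zg15) (kg xg5 yg23 zg22) (kg xg15 yg27 zg55) (kg xg19 yg14 zg24) (kg xg11 yg5 zg50) (kg xg9 yg0 zg57) (kg xg5 yg23 zg26) (kg xg19 yg3 zg23) (kg xg5 yg23 zg27) (kg xg19 yg3 zg22) (kg xg19 yg14 zg39) (kg xg19 yg14 zg43) (kg xg19 yg14 zg47) (kg xg16 yg16 zg36) (kg xg19 yg14 zg53) (kg xg9 yg0 zg60) (kg xg8 yg41 zg6) (kg xg5 yg23 zg31)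 (kg xg15 yg18 zg61) (kg xg10 yg35 zg5) (kg xg5 yg23 zg33) (kg xg10 yg35 zg4) (kg xg19 yg15 zg0) (kg xg6 yg2 zg26) (kg xg5 yg39 zg46) (kg xg9 yg42 zg0) (kg xg8 yg40 zg0) (kg xg18 yg17 zg41) (kg xg9 yg40 zg41) (kg xg15 yg36 zg40) (kg xg5 yg23 zg37) (kg xg10 yg51 zg54) (kg xg19 yg11 zg60) (kg xg19 yg15 zg11) (kg xg10 yg39 zg55) (kg xg15 yg44 zg23) (kg xg19 yg15 zg12) (kg xg10 yg31 zg34) (kg xg14 yg21 zg4) (kg xg19 yg3 zg43) (kg xg19 yg15 zg25) (kg xg19 yg3 zg41) (kg xg5 yg23 zg43) (kg xg19 yg15 zg30) (kg xg13 yg4 zg38) (kg xg14 yg40 zg21)) (@D3.rec (fun _ => Pt) (kg xg5 yg23 zg44) (kg xg19 yg15 zg42) (kg xg14 yg39 zg24) (kg xg19 yg4 zg13) (kg xg5 yg23 zg45) (kg xg19 yg15 zg51) (kg xg19 yg4 zg11) (kg xg19 yg15 zg55) (kg xg9 yg41 zg52) (kg xg19 yg15 zg61) (kg xg9 yg3 zg55)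 (kg xg19 yg11 zg59) (kg xg19 yg16 zg0) (kg xg19 yg4 zg20) (kg xg5 yg23 zg48) (kg xg19 yg16 zg14) (kg xg19 yg4 zg18) (kg xg5 yg23 zg52) (kg xg17 yg1 zg60) (kg xg19 yg16 zg25) (kg xg16 yg54 zg22) (kg xg19 yg11 zg21) (kg xg19 yg16 zg26) (kg xg16 yg3 zg4) (kg xg8 yg21 zg23) (kg xg16 yg2 zg53) (kg xg5 yg23 zg55) (kg xg19 yg16 zg36) (kg xg19 yg16 zg41) (kg xg16 yg2 zg51) (kg xg16 yg3 zg54) (kg xg6 yg4 zg19) (kg xg8 yg21 zg35) (kg xg19 yg16 zg51) (kg xg8 yg21 zg13) (kg xg16 yg2 zg45) (kg xg14 yg7 zg57) (kg xg5 yg23 zg59) (kg xg16 yg2 zg59) (kg xg14 yg7 zg56) (kg xg7 yg23 zg21) (kg xg14 yg7 zg44) (kg xg5 yg24 zg4) (kg xg9 yg42 zg58) (kg xg5 yg24 zg0) (kg xg9 yg42 zg57) (kg xg14 yg58 zg29) (kg xg19 yg17 zg9) (kg xg10 yg2 zg39) (kg xg9 yg42 zg55) (kg xg5 yg24 zg2) (kg xg16 yg6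 zg52) (kg xg9 yg42 zg20) (kg xg18 yg47 zg12) (kg xg8 yg20 zg28) (kg xg18 yg58 zg17) (kg xg18 yg56 zg20) (kg xg5 yg24 zg5) (kg xg15 yg49 zg61) (kg xg5 yg24 zg7) (kg xg15 yg49 zg60) (kg xg19 yg17 zg25)) (@D3.rec (fun _ => Pt) (kg xg11 yg30 zg19) (kg xg19 yg4 zg24) (kg xg5 yg24 zg9) (kg xg19 yg4 zg23) (kg xg19 yg17 zg30) (kg xg10 yg16 zg60) (kg xg7 yg44 zg42) (kg xg16 yg36 zg47) (kg xg17 yg53 zg28) (kg xg10 yg36 zg27) (kg xg19 yg17 zg41) (kg xg19 yg4 zg39) (kg xg5 yg24 zg13) (kg xg7 yg7 zg59) (kg xg18 yg45 zg40) (kg xg7 yg45 zg39) (kg xg5 yg24 zg14) (kg xg19 yg17 zg54) (kg xg19 yg17 zg42) (kg xg18 yg46 zg19) (kg xg19 yg17 zg60) (kg xg19 yg17 zg29) (kg xg18 yg20 zg27) (kg xg18 yg20 zg38) (kg xg5 yg24 zg17) (kg xg18 yg49 zg55) (kg xg18 yg46 zg12) (kg xg19 yg18 zg10) (kg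 xg7 yg58 zg10) (kg xg18 yg56 zg23) (kg xg9 yg45 zg16) (kg xg9 yg45 zg15) (kg xg6 yg25 zg21) (kg xg14 yg41 zg42) (kg xg5 yg24 zg26) (kg xg5 yg25 zg16) (kg xg19 yg18 zg18) (kg xg5 yg24 zg28) (kg xg5 yg46 zg30) (kg xg5 yg24 zg34) (kg xg18 yg2 zg41) (kg xg5 yg24 zg30) (kg xg14 yg43 zg40) (kg xg19 yg18 zg24) (kg xg19 yg18 zg28) (kg xg18 yg2 zg51) (kg xg5 yg24 zg32) (kg xg18 yg18 zg39) (kg xg9 yg43 zg57) (kg xg8 yg41 zg21) (kg xg19 yg17 zg22) (kg xg19 yg18 zg39) (kg xg5 yg33 zg61) (kg xg7 yg48 zg16) (kg xg7 yg36 zg37) (kg xg10 yg37 zg53) (kg xg19 yg4 zg29) (kg xg5 yg24 zg39) (kg xg19 yg18 zg50) (kg xg19 yg4 zg41) (kg xg5 yg24 zg40) (kg xg13 yg19 zg43)) (@D3.rec (fun _ => Pt) (kg xg19 yg18 zg58) (kg xg10 yg41 zg4) (kg xg14 yg39 zg28) (kg xg19 yg5 zg36) (kg xg19 yg17 zg21)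 (kg xg14 yg17 zg39) (kg xg19 yg19 zg5) (kg xg13 yg3 zg54) (kg xg19 yg5 zg31) (kg xg5 yg24 zg45) (kg xg19 yg19 zg8) (kg xg19 yg19 zg14) (kg xg15 yg24 zg31) (kg xg8 yg55 zg41) (kg xg11 yg52 zg58) (kg xg5 yg24 zg49) (kg xg19 yg19 zg22) (kg xg16 yg40 zg19) (kg xg11 yg52 zg56) (kg xg5 yg25 zg18) (kg xg19 yg19 zg31) (kg xg19 yg5 zg19) (kg xg19 yg19 zg37) (kg xg14 yg43 zg30) (kg xg19 yg19 zg32) (kg xg5 yg25 zg29) (kg xg15 yg15 zg34) (kg xg19 yg5 zg0) (kg xg14 yg53 zg13) (kg xg14 yg53 zg17) (kg xg5 yg24 zg54) (kg xg19 yg19 zg47) (kg xg19 yg19 zg50) (kg xg13 yg4 zg48) (kg xg5 yg24 zg55) (kg xg19 yg19 zg56) (kg xg14 yg3 zg52) (kg xg14 yg52 zg58) (kg xg5 yg24 zg56) (kg xg15 yg3 zg19) (kg xg10 yg39 zg28) (kg xg19 yg20 zg4) (kg xg5 yg25 zg15) (kg xg18 yg20 zg15) (kg xg5 yg24 zg61)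 (kg xg9 yg55 zg49) (kg xg18 yg33 zg33) (kg xg19 yg5 zg15) (kg xg15 yg54 zg45) (kg xg15 yg2 zg52) (kg xg5 yg25 zg31) (kg xg19 yg5 zg28) (kg xg15 yg2 zg5) (kg xg19 yg4 zg55) (kg xg15 yg2 zg6) (kg xg5 yg25 zg4) (kg xg19 yg20 zg21) (kg xg19 yg20 zg23) (kg xg19 yg4 zg52) (kg xg5 yg25 zg5) (kg xg18 yg31 zg3) (kg xg7 yg33 zg16)) (@D3.rec (fun _ => Pt) (kg xg5 yg25 zg6) (kg xg14 yg21 zg58) (kg xg14 yg53 zg2) (kg xg5 yg25 zg7) (kg xg8 yg28 zg15) (kg xg7 yg20 zg56) (kg xg5 yg25 zg8) (kg xg7 yg20 zg54) (kg xg19 yg5 zg1) (kg xg5 yg25 zg24) (kg xg19 yg10 zg5) (kg xg19 yg17 zg5) (kg xg10 yg35 zg61) (kg xg11 yg21 zg5) (kg xg5 yg25 zg13) (kg xg14 yg43 zg43) (kg xg19 yg20 zg29) (kg xg19 yg20 zg54) (kg xg19 yg4 zg50) (kg xg5 yg25 zg19) (kg xg5 yg31 zg33) (kg xg19 yg20 zg59) (kg xg12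 yg5 zg41) (kg xg9 yg44 zg2) (kg xg5 yg25 zg20) (kg xg19 yg21 zg5) (kg xg18 yg20 zg34) (kg xg18 yg46 zg25) (kg xg19 yg18 zg15) (kg xg19 yg21 zg13) (kg xg19 yg18 zg16) (kg xg14 yg41 zg46) (kg xg19 yg19 zg29) (kg xg16 yg22 zg43) (kg xg19 yg21 zg18) (kg xg12 yg39 zg10) (kg xg10 yg52 zg22) (kg xg19 yg21 zg22) (kg xg19 yg21 zg6) (kg xg19 yg20 zg38) (kg xg5 yg25 zg21) (kg xg14 yg23 zg5) (kg xg16 yg47 zg11) (kg xg5 yg25 zg27) (kg xg5 yg25 zg22) (kg xg19 yg21 zg34) (kg xg19 yg21 zg35) (kg xg19 yg20 zg11) (kg xg19 yg21 zg39) (kg xg18 yg45 zg18) (kg xg16 yg22 zg39) (kg xg19 yg21 zg40) (kg xg5 yg25 zg25) (kg xg19 yg20 zg40) (kg xg19 yg5 zg24) (kg xg19 yg21 zg57) (kg xg19 yg21 zg61) (kg xg19 yg21 zg33) (kg xg18 yg47 zg37) (kg xg5 yg25 zg26) (kg xg18 yg45 zg13) (kg xg19 yg22 zg12))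 (@D3.rec (fun _ => Pt) (kg xg19 yg9 zg31) (kg xg5 yg25 zg28) (kg xg9 yg22 zg13) (kg xg19 yg4 zg61) (kg xg16 yg18 zg14) (kg xg19 yg22 zg26) (kg xg5 yg25 zg30) (kg xg19 yg22 zg31) (kg xg10 yg26 zg5) (kg xg19 yg4 zg51) (kg xg19 yg22 zg37) (kg xg14 yg15 zg11) (kg xg5 yg25 zg32) (kg xg19 yg22 zg43) (kg xg17 yg48 zg42) (kg xg17 yg48 zg40) (kg xg17 yg48 zg41) (kg xg10 yg27 zg23) (kg xg19 yg22 zg49) (kg xg19 yg22 zg52) (kg xg18 yg16 zg6) (kg xg19 yg22 zg58) (kg xg18 yg35 zg3) (kg xg19 yg20 zg9) (kg xg17 yg49 zg41) (kg xg19 yg22 zg59) (kg xg11 yg26 zg8) (kg xg17 yg52 zg26) (kg xg5 yg25 zg38) (kg xg19 yg23 zg11) (kg xg11 yg58 zg60) (kg xg10 yg9 zg36) (kg xg9 yg5 zg59) (kg xg19 yg4 zg35) (kg xg19 yg4 zg49) (kg xg5 yg38 zg51) (kg xg9 yg5 zg50) (kg xg19 yg8 zg23) (kg xg12 yg4 zg33)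 (kg xg5 yg25 zg41) (kg xg11 yg29 zg39) (kg xg8 yg11 zg50) (kg xg18 yg17 zg51) (kg xg16 yg45 zg55) (kg xg19 yg7 zg53) (kg xg7 yg44 zg55) (kg xg19 yg4 zg34) (kg xg5 yg25 zg48) (kg xg19 yg23 zg30) (kg xg9 yg0 zg31) (kg xg15 yg18 zg16) (kg xg16 yg13 zg3) (kg xg19 yg8 zg15) (kg xg10 yg36 zg51) (kg xg19 yg23 zg38) (kg xg8 yg28 zg53) (kg xg19 yg23 zg43) (kg xg10 yg25 zg11) (kg xg19 yg23 zg46) (kg xg19 yg23 zg49) (kg xg19 yg23 zg45) (kg xg19 yg23 zg53)) (@D3.rec (fun _ => Pt) (kg xg5 yg25 zg55) (kg xg11 yg55 zg1) (kg xg12 yg55 zg50) (kg xg17 yg8 zg32) (kg xg8 yg29 zg12) (kg xg15 yg55 zg11) (kg xg5 yg25 zg57) (kg xg16 yg46 zg42) (kg xg15 yg55 zg9) (kg xg18 yg45 zg31) (kg xg6 yg4 zg37) (kg xg18 yg44 zg36) (kg xg8 yg59 zg54) (kg xg6 yg44 zg53) (kg xg5 yg25 zg61) (kg xg10 yg17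 zg8) (kg xg9 yg32 zg18) (kg xg12 yg55 zg28) (kg xg10 yg44 zg16) (kg xg15 yg4 zg8) (kg xg19 yg24 zg19) (kg xg12 yg55 zg25) (kg xg6 yg6 zg27) (kg xg11 yg34 zg56) (kg xg8 yg0 zg17) (kg xg6 yg15 zg47) (kg xg5 yg26 zg3) (kg xg11 yg31 zg60) (kg xg5 yg26 zg4) (kg xg19 yg24 zg29) (kg xg8 yg16 zg9) (kg xg19 yg24 zg34) (kg xg8 yg16 zg0) (kg xg5 yg29 zg27) (kg xg19 yg24 zg40) (kg xg6 yg5 zg61) (kg xg18 yg22 zg26) (kg xg11 yg54 zg35) (kg xg19 yg24 zg46) (kg xg19 yg24 zg49) (kg xg9 yg24 zg61) (kg xg9 yg24 zg59) (kg xg5 yg29 zg56) (kg xg16 yg42 zg59) (kg xg12 yg57 zg42) (kg xg19 yg24 zg55) (kg xg9 yg47 zg37) (kg xg5 yg30 zg30) (kg xg12 yg55 zg2) (kg xg16 yg49 zg48) (kg xg11 yg54 zg51) (kg xg5 yg26 zg17) (kg xg12 yg30 zg33) (kg xg11 yg31 zg33) (kg xg11 yg2 zg20) (kg xg17 yg1 zg34)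 (kg xg11 yg2 zg5) (kg xg19 yg25 zg12) (kg xg15 yg52 zg27) (kg xg5 yg26 zg24) (kg xg11 yg55 zg56) (kg xg11 yg44 zg47)) (@D3.rec (fun _ => Pt) (kg xg19 yg25 zg23) (kg xg5 yg26 zg25) (kg xg19 yg25 zg27) (kg xg15 yg55 zg23) (kg xg5 yg26 zg26) (kg xg10 yg46 zg52) (kg xg15 yg55 zg21) (kg xg15 yg55 zg34) (kg xg15 yg34 zg7) (kg xg8 yg29 zg7) (kg xg8 yg29 zg21) (kg xg8 yg22 zg27) (kg xg10 yg45 zg30) (kg xg16 yg46 zg60) (kg xg11 yg54 zg0) (kg xg17 yg33 zg0) (kg xg10 yg43 zg22) (kg xg16 yg47 zg9) (kg xg5 yg26 zg33) (kg xg15 yg4 zg58) (kg xg5 yg26 zg34) (kg xg10 yg49 zg24) (kg xg15 yg30 zg21) (kg xg11 yg4 zg58) (kg xg8 yg22 zg28) (kg xg6 yg37 zg32) (kg xg11 yg53 zg49) (kg xg8 yg35 zg9) (kg xg9 yg4 zg22) (kg xg5 yg27 zg8) (kg xg12 yg4 zg1) (kg xg9 yg36 zg55) (kg xg11 yg55 zg22)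 (kg xg5 yg26 zg43) (kg xg9 yg31 zg0) (kg xg19 yg25 zg61) (kg xg8 yg15 zg18) (kg xg5 yg26 zg44) (kg xg17 yg12 zg8) (kg xg15 yg32 zg34) (kg xg5 yg26 zg45) (kg xg19 yg26 zg10) (kg xg15 yg32 zg33) (kg xg15 yg32 zg52) (kg xg15 yg16 zg5) (kg xg8 yg15 zg27) (kg xg15 yg30 zg11) (kg xg6 yg51 zg5) (kg xg5 yg35 zg8) (kg xg12 yg55 zg38) (kg xg9 yg7 zg32) (kg xg16 yg47 zg49) (kg xg11 yg56 zg22) (kg xg11 yg22 zg53) (kg xg11 yg36 zg43) (kg xg5 yg26 zg56) (kg xg19 yg26 zg29) (kg xg19 yg26 zg33) (kg xg9 yg10 zg51) (kg xg5 yg26 zg57) (kg xg11 yg5 zg46) (kg xg9 yg4 zg15)) (@D3.rec (fun _ => Pt) (kg xg5 yg26 zg59) (kg xg17 yg34 zg23) (kg xg11 yg32 zg55) (kg xg17 yg36 zg13) (kg xg5 yg34 zg54) (kg xg11 yg56 zg14) (kg xg11 yg56 zg12) (kg xg5 yg27 zg1) (kg xg15 yg41 zg14) (kg xg5 yg27 zg2)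 (kg xg5 yg34 zg35) (kg xg13 yg2 zg24) (kg xg11 yg32 zg54) (kg xg5 yg27 zg5) (kg xg9 yg31 zg2) (kg xg8 yg13 zg59) (kg xg9 yg30 zg51) (kg xg19 yg26 zg61) (kg xg11 yg56 zg10) (kg xg5 yg27 zg11) (kg xg5 yg27 zg6) (kg xg19 yg7 zg52) (kg xg19 yg27 zg11) (kg xg19 yg27 zg15) (kg xg13 yg2 zg22) (kg xg12 yg56 zg22) (kg xg9 yg11 zg5) (kg xg9 yg8 zg57) (kg xg19 yg27 zg23) (kg xg19 yg25 zg55) (kg xg10 yg44 zg15) (kg xg19 yg7 zg51) (kg xg19 yg27 zg12) (kg xg19 yg27 zg30) (kg xg11 yg57 zg42) (kg xg11 yg58 zg9) (kg xg19 yg27 zg34) (kg xg18 yg43 zg29) (kg xg19 yg27 zg38) (kg xg19 yg27 zg39) (kg xg11 yg58 zg10) (kg xg12 yg30 zg55) (kg xg19 yg27 zg41) (kg xg19 yg27 zg36) (kg xg5 yg27 zg18) (kg xg19 yg27 zg35) (kg xg5 yg33 zg45) (kg xg5 yg27 zg19) (kg xg7 yg36 zg19) (kg xg9 yg15 zg39)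 (kg xg19 yg27 zg54) (kg xg18 yg43 zg28) (kg xg16 yg57 zg55) (kg xg10 yg27 zg45) (kg xg5 yg29 zg32) (kg xg10 yg19 zg14) (kg xg5 yg27 zg26) (kg xg10 yg19 zg13) (kg xg19 yg28 zg7) (kg xg19 yg28 zg10) (kg xg19 yg28 zg12) (kg xg8 yg29 zg33)) (@D3.rec (fun _ => Pt) (kg xg5 yg27 zg28) (kg xg19 yg28 zg19) (kg xg11 yg55 zg55) (kg xg10 yg43 zg12) (kg xg5 yg31 zg25) (kg xg15 yg59 zg9) (kg xg5 yg27 zg30) (kg xg15 yg59 zg8) (kg xg19 yg28 zg34) (kg xg14 yg13 zg29) (kg xg5 yg28 zg3) (kg xg5 yg27 zg32) (kg xg13 yg10 zg32) (kg xg8 yg26 zg37) (kg xg10 yg46 zg3) (kg xg16 yg44 zg56) (kg xg5 yg28 zg5) (kg xg16 yg44 zg9) (kg xg5 yg27 zg37) (kg xg16 yg44 zg8) (kg xg18 yg44 zg2) (kg xg19 yg28 zg55) (kg xg17 yg25 zg18) (kg xg15 yg37 zg33) (kg xg5 yg27 zg39) (kg xg19 yg29 zg2) (kg xg15 yg37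 zg30) (kg xg16 yg44 zg25) (kg xg15 yg39 zg5) (kg xg5 yg28 zg10) (kg xg5 yg27 zg52) (kg xg19 yg29 zg11) (kg xg7 yg58 zg20) (kg xg8 yg13 zg35) (kg xg5 yg27 zg44) (kg xg15 yg16 zg24) (kg xg15 yg37 zg36) (kg xg5 yg27 zg45) (kg xg15 yg37 zg35) (kg xg19 yg29 zg27) (kg xg19 yg29 zg31) (kg xg19 yg29 zg35) (kg xg5 yg27 zg47) (kg xg19 yg29 zg41) (kg xg16 yg44 zg13) (kg xg5 yg27 zg55) (kg xg16 yg44 zg17) (kg xg5 yg27 zg50) (kg xg16 yg44 zg16) (kg xg19 yg29 zg54) (kg xg19 yg29 zg58) (kg xg19 yg30 zg0) (kg xg19 yg30 zg4) (kg xg15 yg37 zg28) (kg xg16 yg44 zg22) (kg xg5 yg27 zg53) (kg xg16 yg44 zg21) (kg xg19 yg30 zg14) (kg xg19 yg30 zg16) (kg xg19 yg30 zg20) (kg xg17 yg17 zg34) (kg xg11 yg55 zg10)) (@D3.rec (fun _ => Pt) (kg xg19 yg30 zg10) (kg xg16 yg50 zg52) (kg xg10 yg53 zg48)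 (kg xg19 yg30 zg32) (kg xg19 yg30 zg35) (kg xg8 yg57 zg51) (kg xg11 yg55 zg4) (kg xg16 yg44 zg34) (kg xg11 yg32 zg18) (kg xg16 yg44 zg31) (kg xg5 yg27 zg59) (kg xg19 yg30 zg49) (kg xg7 yg39 zg50) (kg xg5 yg27 zg60) (kg xg7 yg34 zg55) (kg xg7 yg35 zg9) (kg xg5 yg27 zg61) (kg xg7 yg35 zg8) (kg xg19 yg28 zg37) (kg xg14 yg19 zg28) (kg xg7 yg15 zg31) (kg xg19 yg30 zg9) (kg xg19 yg30 zg59) (kg xg11 yg2 zg18) (kg xg7 yg37 zg27) (kg xg5 yg35 zg56) (kg xg7 yg41 zg0) (kg xg13 yg20 zg26) (kg xg8 yg17 zg13) (kg xg15 yg16 zg4) (kg xg15 yg0 zg56) (kg xg19 yg31 zg11) (kg xg19 yg29 zg22) (kg xg19 yg31 zg3) (kg xg19 yg31 zg19) (kg xg19 yg31 zg5) (kg xg19 yg31 zg22) (kg xg8 yg15 zg23) (kg xg19 yg31 zg28) (kg xg10 yg20 zg43) (kg xg19 yg31 zg32) (kg xg8 yg15 zg26) (kg xg10 yg55 zg39) (kg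 xg16 yg36 zg20) (kg xg16 yg37 zg27) (kg xg5 yg28 zg20) (kg xg16 yg37 zg26) (kg xg8 yg55 zg9) (kg xg19 yg31 zg48) (kg xg19 yg31 zg52) (kg xg16 yg37 zg22) (kg xg5 yg28 zg22) (kg xg19 yg31 zg60) (kg xg16 yg37 zg20) (kg xg15 yg18 zg31) (kg xg16 yg37 zg41) (kg xg11 yg53 zg23) (kg xg10 yg36 zg60) (kg xg15 yg17 zg34) (kg xg8 yg35 zg51) (kg xg10 yg49 zg28) (kg xg16 yg43 zg7)) (@D3.rec (fun _ => Pt) (kg xg16 yg38 zg43) (kg xg8 yg58 zg55) (kg xg19 yg32 zg14) (kg xg19 yg32 zg16) (kg xg10 yg58 zg18) (kg xg16 yg55 zg51) (kg xg5 yg28 zg30) (kg xg19 yg32 zg15) (kg xg10 yg58 zg36) (kg xg5 yg28 zg31) (kg xg11 yg48 zg44) (kg xg10 yg58 zg34) (kg xg16 yg49 zg24) (kg xg9 yg17 zg27) (kg xg5 yg36 zg48) (kg xg11 yg32 zg52) (kg xg6 yg6 zg37) (kg xg15 yg59 zg30) (kg xg16 yg43 zg45) (kg xg6 yg46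 zg55) (kg xg5 yg29 zg5) (kg xg11 yg55 zg48) (kg xg5 yg39 zg27) (kg xg10 yg52 zg21) (kg xg16 yg44 zg27) (kg xg19 yg3 zg40) (kg xg5 yg30 zg47) (kg xg15 yg5 zg8) (kg xg19 yg32 zg33) (kg xg12 yg10 zg14) (kg xg19 yg25 zg10) (kg xg5 yg28 zg43) (kg xg19 yg32 zg40) (kg xg9 yg10 zg23) (kg xg5 yg39 zg26) (kg xg11 yg55 zg19) (kg xg5 yg28 zg46) (kg xg11 yg28 zg61) (kg xg5 yg29 zg6) (kg xg16 yg49 zg27) (kg xg11 yg10 zg36) (kg xg11 yg3 zg41) (kg xg19 yg32 zg45) (kg xg11 yg5 zg8) (kg xg10 yg54 zg34) (kg xg19 yg32 zg55) (kg xg11 yg5 zg9) (kg xg5 yg28 zg50) (kg xg15 yg2 zg50) (kg xg19 yg33 zg2) (kg xg19 yg33 zg6) (kg xg16 yg51 zg47) (kg xg19 yg32 zg57) (kg xg5 yg28 zg52) (kg xg9 yg1 zg27) (kg xg19 yg32 zg56) (kg xg10 yg55 zg27) (kg xg12 yg25 zg45) (kg xg10 yg55 zg25) (kg xg6 yg6 zg12)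 (kg xg5 yg30 zg25) (kg xg10 yg11 zg29)) (@D3.rec (fun _ => Pt) (kg xg11 yg9 zg9) (kg xg9 yg43 zg40) (kg xg9 yg32 zg19) (kg xg9 yg57 zg18) (kg xg5 yg28 zg59) (kg xg12 yg55 zg6) (kg xg5 yg28 zg61) (kg xg10 yg19 zg7) (kg xg5 yg52 zg2) (kg xg11 yg5 zg33) (kg xg5 yg29 zg1) (kg xg11 yg49 zg23) (kg xg5 yg29 zg2) (kg xg16 yg44 zg44) (kg xg17 yg53 zg17) (kg xg6 yg42 zg16) (kg xg5 yg29 zg7) (kg xg5 yg29 zg3) (kg xg19 yg28 zg47) (kg xg19 yg33 zg33) (kg xg19 yg33 zg37) (kg xg18 yg48 zg55) (kg xg19 yg33 zg44) (kg xg16 yg44 zg61) (kg xg19 yg33 zg48) (kg xg16 yg44 zg59) (kg xg16 yg44 zg53) (kg xg11 yg5 zg20) (kg xg10 yg48 zg0) (kg xg19 yg33 zg56) (kg xg19 yg33 zg58) (kg xg19 yg28 zg45) (kg xg19 yg33 zg34) (kg xg19 yg34 zg4) (kg xg19 yg33 zg41) (kg xg11 yg50 zg29) (kg xg5 yg29 zg9)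 (kg xg19 yg33 zg24) (kg xg11 yg5 zg30) (kg xg16 yg45 zg9) (kg xg5 yg30 zg34) (kg xg11 yg1 zg1) (kg xg16 yg57 zg0) (kg xg16 yg48 zg46) (kg xg14 yg26 zg9) (kg xg9 yg44 zg23) (kg xg16 yg45 zg0) (kg xg5 yg29 zg14) (kg xg19 yg34 zg29) (kg xg11 yg50 zg35) (kg xg19 yg33 zg51) (kg xg11 yg50 zg34) (kg xg11 yg2 zg22) (kg xg10 yg36 zg59) (kg xg19 yg34 zg41) (kg xg10 yg23 zg31) (kg xg5 yg29 zg18) (kg xg10 yg23 zg30) (kg xg19 yg34 zg51) (kg xg8 yg15 zg38) (kg xg5 yg29 zg19) (kg xg19 yg34 zg59)) (@D3.rec (fun _ => Pt) (kg xg5 yg32 zg16) (kg xg8 yg56 zg5) (kg xg11 yg55 zg35) (kg xg19 yg35 zg4) (kg xg15 yg33 zg44) (kg xg5 yg29 zg43) (kg xg5 yg29 zg41) (kg xg15 yg15 zg7) (kg xg5 yg29 zg25) (kg xg15 yg15 zg6) (kg xg19 yg28 zg36) (kg xg19 yg35 zg23) (kg xg19 yg35 zg26) (kg xg5 yg30 zg9)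 (kg xg19 yg35 zg30) (kg xg5 yg30 zg7) (kg xg15 yg36 zg48) (kg xg15 yg47 zg34) (kg xg8 yg23 zg29) (kg xg8 yg16 zg33) (kg xg8 yg20 zg5) (kg xg19 yg35 zg42) (kg xg5 yg29 zg34) (kg xg16 yg18 zg58) (kg xg19 yg35 zg45) (kg xg19 yg35 zg46) (kg xg16 yg3 zg45) (kg xg15 yg49 zg28) (kg xg5 yg29 zg37) (kg xg15 yg23 zg21) (kg xg16 yg18 zg61) (kg xg5 yg29 zg38) (kg xg16 yg18 zg60) (kg xg19 yg35 zg60) (kg xg19 yg24 zg51) (kg xg8 yg30 zg19) (kg xg8 yg18 zg23) (kg xg19 yg36 zg7) (kg xg15 yg36 zg51) (kg xg15 yg26 zg0) (kg xg15 yg51 zg22) (kg xg5 yg29 zg42) (kg xg11 yg4 zg50) (kg xg16 yg42 zg47) (kg xg5 yg29 zg45) (kg xg16 yg42 zg46) (kg xg19 yg36 zg19) (kg xg19 yg36 zg22) (kg xg12 yg52 zg43) (kg xg5 yg29 zg47) (kg xg16 yg42 zg56) (kg xg5 yg29 zg48) (kg xg16 yg42 zg55) (kg xg18 yg51 zg10)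 (kg xg19 yg36 zg34) (kg xg16 yg42 zg52) (kg xg5 yg29 zg50) (kg xg16 yg42 zg51) (kg xg5 yg29 zg59) (kg xg8 yg32 zg39) (kg xg16 yg43 zg0) (kg xg5 yg29 zg53)) (@D3.rec (fun _ => Pt) (kg xg16 yg42 zg61) (kg xg19 yg36 zg51) (kg xg19 yg35 zg8) (kg xg6 yg9 zg44) (kg xg9 yg32 zg43) (kg xg16 yg43 zg4) (kg xg5 yg29 zg57) (kg xg16 yg43 zg3) (kg xg17 yg56 zg60) (kg xg19 yg36 zg61) (kg xg15 yg44 zg14) (kg xg19 yg36 zg56) (kg xg11 yg28 zg18) (kg xg10 yg56 zg16) (kg xg13 yg1 zg36) (kg xg19 yg37 zg12) (kg xg8 yg57 zg5) (kg xg19 yg32 zg27) (kg xg16 yg43 zg13) (kg xg19 yg37 zg22) (kg xg16 yg43 zg11) (kg xg5 yg30 zg1) (kg xg19 yg37 zg31) (kg xg19 yg37 zg35) (kg xg19 yg37 zg24) (kg xg5 yg30 zg2) (kg xg19 yg37 zg43) (kg xg17 yg32 zg34) (kg xg17 yg11 zg39) (kg xg12 yg59 zg38) (kg xg16 yg26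 zg55) (kg xg8 yg19 zg57) (kg xg19 yg35 zg29) (kg xg5 yg30 zg5) (kg xg19 yg37 zg61) (kg xg19 yg35 zg27) (kg xg19 yg38 zg2) (kg xg8 yg18 zg12) (kg xg19 yg38 zg4) (kg xg18 yg46 zg26) (kg xg16 yg8 zg22) (kg xg19 yg38 zg5) (kg xg19 yg35 zg33) (kg xg5 yg30 zg8) (kg xg19 yg38 zg15) (kg xg19 yg35 zg31) (kg xg5 yg30 zg13) (kg xg19 yg38 zg23) (kg xg19 yg38 zg27) (kg xg18 yg46 zg28) (kg xg19 yg36 zg29) (kg xg19 yg38 zg28) (kg xg15 yg58 zg23) (kg xg8 yg18 zg54) (kg xg8 yg40 zg52) (kg xg15 yg36 zg52) (kg xg5 yg35 zg7) (kg xg15 yg58 zg9) (kg xg5 yg30 zg16) (kg xg12 yg11 zg37) (kg xg15 yg39 zg45) (kg xg15 yg58 zg8)) (@D3.rec (fun _ => Pt) (kg xg19 yg38 zg50) (kg xg15 yg57 zg3) (kg xg15 yg46 zg46) (kg xg5 yg30 zg19) (kg xg15 yg58 zg12) (kg xg8 yg31 zg60) (kg xg19 yg38 zg59) (kg xg5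 yg30 zg21) (kg xg16 yg43 zg36) (kg xg15 yg3 zg35) (kg xg19 yg39 zg6) (kg xg5 yg30 zg26) (kg xg5 yg30 zg22) (kg xg19 yg36 zg11) (kg xg16 yg48 zg22) (kg xg13 yg1 zg24) (kg xg16 yg48 zg25) (kg xg12 yg29 zg56) (kg xg12 yg29 zg18) (kg xg16 yg43 zg47) (kg xg11 yg4 zg53) (kg xg10 yg48 zg25) (kg xg10 yg41 zg21) (kg xg14 yg50 zg4) (kg xg15 yg36 zg45) (kg xg19 yg39 zg16) (kg xg19 yg39 zg35) (kg xg19 yg39 zg20) (kg xg19 yg33 zg18) (kg xg5 yg30 zg28) (kg xg11 yg10 zg60) (kg xg11 yg4 zg59) (kg xg8 yg47 zg19) (kg xg12 yg11 zg3) (kg xg5 yg30 zg38) (kg xg16 yg45 zg12) (kg xg5 yg30 zg36) (kg xg9 yg46 zg28) (kg xg11 yg21 zg39) (kg xg14 yg33 zg4) (kg xg16 yg45 zg1) (kg xg11 yg1 zg42) (kg xg5 yg45 zg55) (kg xg8 yg2 zg19) (kg xg19 yg40 zg1) (kg xg16 yg47 zg18) (kg xg12 yg10 zg61) (kg xg19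 yg40 zg5) (kg xg19 yg40 zg10) (kg xg19 yg40 zg11) (kg xg17 yg55 zg36) (kg xg16 yg45 zg2) (kg xg11 yg10 zg21) (kg xg19 yg40 zg12) (kg xg19 yg39 zg53) (kg xg5 yg30 zg37) (kg xg19 yg40 zg22) (kg xg19 yg39 zg52) (kg xg5 yg52 zg21) (kg xg11 yg10 zg26) (kg xg5 yg30 zg44) (kg xg5 yg30 zg41)) (@D3.rec (fun _ => Pt) (kg xg5 yg30 zg43) (kg xg19 yg32 zg59) (kg xg19 yg40 zg28) (kg xg5 yg52 zg29) (kg xg11 yg31 zg42) (kg xg12 yg43 zg5) (kg xg15 yg45 zg30) (kg xg19 yg40 zg35) (kg xg11 yg20 zg61) (kg xg5 yg30 zg52) (kg xg5 yg30 zg48) (kg xg6 yg28 zg45) (kg xg5 yg30 zg50) (kg xg19 yg31 zg42) (kg xg11 yg39 zg38) (kg xg5 yg30 zg51) (kg xg16 yg43 zg31) (kg xg16 yg49 zg5) (kg xg12 yg14 zg6) (kg xg11 yg51 zg17) (kg xg8 yg20 zg42) (kg xg6 yg36 zg33) (kg xg12 yg15 zg38) (kg xg5 yg30 zg58)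 (kg xg12 yg15 zg41) (kg xg15 yg51 zg60) (kg xg5 yg30 zg60) (kg xg15 yg51 zg59) (kg xg19 yg40 zg58) (kg xg7 yg38 zg44) (kg xg17 yg12 zg40) (kg xg5 yg31 zg17) (kg xg5 yg31 zg0) (kg xg5 yg31 zg26) (kg xg5 yg31 zg15) (kg xg10 yg25 zg6) (kg xg10 yg25 zg42) (kg xg8 yg26 zg51) (kg xg10 yg21 zg0) (kg xg15 yg51 zg4) (kg xg5 yg31 zg4) (kg xg15 yg51 zg3) (kg xg19 yg41 zg17) (kg xg19 yg41 zg20) (kg xg15 yg52 zg11) (kg xg5 yg34 zg9) (kg xg19 yg41 zg26) (kg xg19 yg41 zg28) (kg xg10 yg47 zg5) (kg xg19 yg41 zg31) (kg xg16 yg46 zg32) (kg xg5 yg31 zg9) (kg xg19 yg41 zg40) (kg xg14 yg16 zg7) (kg xg19 yg41 zg33) (kg xg5 yg31 zg10) (kg xg19 yg41 zg47) (kg xg19 yg41 zg32) (kg xg19 yg41 zg12) (kg xg19 yg41 zg52) (kg xg15 yg52 zg8) (kg xg19 yg41 zg59)) (@D3.rec (fun _ => Pt) (kg xg18 yg4 zg23)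 (kg xg5 yg31 zg13) (kg xg15 yg36 zg4) (kg xg19 yg41 zg2) (kg xg19 yg42 zg1) (kg xg18 yg55 zg60) (kg xg8 yg29 zg16) (kg xg15 yg52 zg9) (kg xg19 yg42 zg3) (kg xg18 yg56 zg26) (kg xg10 yg7 zg20) (kg xg18 yg41 zg53) (kg xg15 yg3 zg18) (kg xg15 yg14 zg11) (kg xg5 yg31 zg23) (kg xg19 yg42 zg12) (kg xg18 yg49 zg8) (kg xg8 yg29 zg24) (kg xg5 yg31 zg24) (kg xg19 yg41 zg7) (kg xg15 yg1 zg0) (kg xg19 yg6 zg29) (kg xg19 yg42 zg20) (kg xg18 yg44 zg23) (kg xg19 yg41 zg8) (kg xg17 yg21 zg32) (kg xg18 yg46 zg59) (kg xg5 yg35 zg0) (kg xg19 yg42 zg28) (kg xg18 yg41 zg55) (kg xg16 yg47 zg16) (kg xg10 yg48 zg44) (kg xg10 yg57 zg56) (kg xg19 yg42 zg31) (kg xg5 yg31 zg48) (kg xg5 yg31 zg55) (kg xg7 yg58 zg33) (kg xg15 yg30 zg34) (kg xg7 yg58 zg34) (kg xg19 yg32 zg58) (kg xg19 yg42 zg46)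 (kg xg15 yg30 zg10) (kg xg5 yg31 zg31) (kg xg19 yg42 zg54) (kg xg8 yg12 zg0) (kg xg5 yg31 zg32) (kg xg10 yg0 zg31) (kg xg9 yg44 zg14) (kg xg12 yg29 zg15) (kg xg5 yg31 zg34) (kg xg8 yg28 zg24) (kg xg19 yg33 zg26) (kg xg19 yg42 zg60) (kg xg11 yg56 zg7) (kg xg15 yg5 zg19) (kg xg7 yg58 zg54) (kg xg8 yg58 zg54) (kg xg16 yg40 zg36) (kg xg19 yg33 zg28) (kg xg16 yg47 zg2) (kg xg19 yg43 zg8) (kg xg5 yg31 zg47)) (@D3.rec (fun _ => Pt) (kg xg5 yg31 zg39) (kg xg11 yg12 zg1) (kg xg5 yg31 zg45) (kg xg9 yg44 zg16) (kg xg11 yg0 zg32) (kg xg19 yg43 zg20) (kg xg16 yg41 zg20) (kg xg19 yg43 zg16) (kg xg19 yg43 zg28) (kg xg16 yg47 zg0) (kg xg5 yg31 zg42) (kg xg19 yg34 zg24) (kg xg19 yg25 zg44) (kg xg19 yg43 zg10) (kg xg5 yg31 zg43) (kg xg19 yg43 zg9) (kg xg19 yg43 zg44) (kg xg16 yg41 zg21)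 (kg xg19 yg42 zg59) (kg xg18 yg56 zg27) (kg xg11 yg11 zg61) (kg xg7 yg58 zg60) (kg xg19 yg43 zg53) (kg xg11 yg27 zg0) (kg xg10 yg48 zg58) (kg xg5 yg31 zg51) (kg xg11 yg27 zg19) (kg xg9 yg44 zg9) (kg xg11 yg26 zg40) (kg xg5 yg40 zg15) (kg xg16 yg30 zg1) (kg xg19 yg43 zg60) (kg xg9 yg43 zg4) (kg xg19 yg43 zg59) (kg xg10 yg58 zg45) (kg xg9 yg44 zg11) (kg xg8 yg58 zg33) (kg xg9 yg5 zg38) (kg xg16 yg41 zg26) (kg xg19 yg44 zg2) (kg xg18 yg49 zg38) (kg xg18 yg16 zg5) (kg xg9 yg57 zg20) (kg xg5 yg32 zg3) (kg xg5 yg33 zg49) (kg xg19 yg44 zg10) (kg xg19 yg17 zg40) (kg xg9 yg55 zg45) (kg xg17 yg49 zg4) (kg xg5 yg32 zg6) (kg xg18 yg10 zg35) (kg xg17 yg49 zg2) (kg xg5 yg36 zg12) (kg xg5 yg32 zg7) (kg xg17 yg33 zg12) (kg xg15 yg15 zg13) (kg xg5 yg32 zg8) (kg xg15 yg15 zg12) (kg xg19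 yg44 zg26) (kg xg19 yg44 zg30) (kg xg19 yg44 zg34) (kg xg5 yg32 zg28)) (@D3.rec (fun _ => Pt) (kg xg5 yg32 zg10) (kg xg19 yg44 zg42) (kg xg5 yg32 zg26) (kg xg14 yg53 zg10) (kg xg10 yg23 zg28) (kg xg16 yg45 zg24) (kg xg5 yg32 zg14) (kg xg16 yg45 zg23) (kg xg16 yg45 zg29) (kg xg5 yg32 zg15) (kg xg16 yg45 zg28) (kg xg19 yg44 zg61) (kg xg19 yg45 zg2) (kg xg19 yg44 zg58) (kg xg15 yg21 zg8) (kg xg16 yg49 zg7) (kg xg10 yg51 zg16) (kg xg19 yg45 zg13) (kg xg16 yg45 zg33) (kg xg5 yg32 zg20) (kg xg19 yg45 zg21) (kg xg19 yg45 zg23) (kg xg17 yg58 zg50) (kg xg5 yg32 zg21) (kg xg19 yg45 zg32) (kg xg19 yg45 zg14) (kg xg19 yg44 zg51) (kg xg16 yg26 zg49) (kg xg12 yg0 zg9) (kg xg19 yg44 zg37) (kg xg5 yg32 zg24) (kg xg19 yg45 zg48) (kg xg19 yg44 zg35) (kg xg19 yg45 zg52) (kg xg18 yg2 zg40)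 (kg xg17 yg10 zg29) (kg xg19 yg35 zg2) (kg xg19 yg44 zg57) (kg xg7 yg58 zg18) (kg xg11 yg54 zg41) (kg xg11 yg55 zg29) (kg xg19 yg44 zg45) (kg xg5 yg32 zg27) (kg xg19 yg46 zg8) (kg xg19 yg44 zg43) (kg xg5 yg32 zg32) (kg xg19 yg46 zg16) (kg xg19 yg46 zg20) (kg xg19 yg34 zg58) (kg xg19 yg34 zg47) (kg xg19 yg46 zg21) (kg xg15 yg32 zg45) (kg xg8 yg31 zg47) (kg xg5 yg32 zg34) (kg xg16 yg41 zg19) (kg xg5 yg32 zg37) (kg xg5 yg32 zg35) (kg xg15 yg15 zg40) (kg xg19 yg39 zg10) (kg xg19 yg22 zg16) (kg xg19 yg39 zg11) (kg xg19 yg46 zg41)) (@D3.rec (fun _ => Pt) (kg xg5 yg32 zg38) (kg xg19 yg42 zg56) (kg xg16 yg46 zg10) (kg xg9 yg48 zg52) (kg xg5 yg32 zg47) (kg xg5 yg32 zg40) (kg xg19 yg42 zg33) (kg xg19 yg46 zg52) (kg xg19 yg46 zg57) (kg xg19 yg21 zg0) (kg xg19 yg46 zg53) (kg xg16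 yg46 zg4) (kg xg5 yg32 zg43) (kg xg19 yg39 zg61) (kg xg15 yg7 zg52) (kg xg5 yg32 zg44) (kg xg16 yg58 zg25) (kg xg19 yg47 zg8) (kg xg12 yg29 zg49) (kg xg19 yg46 zg44) (kg xg17 yg58 zg29) (kg xg19 yg46 zg38) (kg xg6 yg21 zg39) (kg xg5 yg53 zg3) (kg xg9 yg44 zg20) (kg xg7 yg58 zg61) (kg xg19 yg42 zg43) (kg xg5 yg34 zg18) (kg xg5 yg34 zg20) (kg xg19 yg27 zg50) (kg xg16 yg41 zg27) (kg xg19 yg47 zg23) (kg xg5 yg32 zg55) (kg xg5 yg34 zg25) (kg xg12 yg55 zg53) (kg xg5 yg32 zg59) (kg xg5 yg32 zg56) (kg xg18 yg44 zg5) (kg xg19 yg47 zg35) (kg xg19 yg47 zg39) (kg xg16 yg48 zg48) (kg xg16 yg56 zg48) (kg xg9 yg31 zg48) (kg xg17 yg22 zg35) (kg xg17 yg51 zg47) (kg xg19 yg47 zg36) (kg xg19 yg47 zg42) (kg xg5 yg34 zg45) (kg xg15 yg20 zg48) (kg xg11 yg3 zg45) (kg xg19 yg47 zg56) (kg xg16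 yg47 zg58) (kg xg10 yg48 zg4) (kg xg5 yg33 zg1) (kg xg12 yg54 zg59) (kg xg5 yg33 zg11) (kg xg10 yg56 zg53) (kg xg16 yg50 zg35) (kg xg19 yg47 zg45) (kg xg19 yg48 zg9) (kg xg5 yg35 zg47) (kg xg16 yg47 zg50)) (@D3.rec (fun _ => Pt) (kg xg5 yg33 zg4) (kg xg19 yg48 zg19) (kg xg19 yg48 zg24) (kg xg19 yg47 zg59) (kg xg5 yg33 zg5) (kg xg15 yg46 zg51) (kg xg19 yg47 zg57) (kg xg5 yg34 zg11) (kg xg19 yg48 zg37) (kg xg17 yg12 zg60) (kg xg16 yg25 zg30) (kg xg16 yg48 zg16) (kg xg16 yg47 zg51) (kg xg5 yg33 zg8) (kg xg19 yg48 zg44) (kg xg19 yg48 zg46) (kg xg16 yg54 zg12) (kg xg5 yg33 zg9) (kg xg19 yg48 zg1) (kg xg19 yg44 zg7) (kg xg16 yg4 zg43) (kg xg19 yg47 zg31) (kg xg9 yg3 zg46) (kg xg18 yg35 zg10) (kg xg17 yg6 zg32) (kg xg5 yg33 zg12) (kg xg19 yg48 zg53) (kg xg19 yg48 zg4) (kg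 xg19 yg48 zg56) (kg xg15 yg5 zg42) (kg xg5 yg33 zg48) (kg xg19 yg20 zg60) (kg xg19 yg48 zg59) (kg xg10 yg48 zg11) (kg xg5 yg33 zg17) (kg xg12 yg56 zg51) (kg xg10 yg48 zg9) (kg xg5 yg34 zg2) (kg xg9 yg2 zg55) (kg xg16 yg48 zg18) (kg xg5 yg34 zg5) (kg xg6 yg16 zg57) (kg xg5 yg33 zg23) (kg xg19 yg47 zg25) (kg xg8 yg59 zg35) (kg xg10 yg55 zg36) (kg xg5 yg45 zg36) (kg xg5 yg33 zg29) (kg xg5 yg33 zg26) (kg xg8 yg28 zg18) (kg xg15 yg54 zg32) (kg xg8 yg2 zg14) (kg xg11 yg43 zg53) (kg xg5 yg33 zg50) (kg xg5 yg33 zg55) (kg xg7 yg58 zg59) (kg xg16 yg56 zg30) (kg xg19 yg49 zg25) (kg xg8 yg8 zg42) (kg xg15 yg54 zg15) (kg xg19 yg49 zg28) (kg xg19 yg39 zg49)) (@D3.rec (fun _ => Pt) (kg xg5 yg45 zg43) (kg xg5 yg33 zg31) (kg xg19 yg49 zg34) (kg xg16 yg47 zg24) (kg xg5 yg33 zg34) (kg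 xg15 yg20 zg57) (kg xg19 yg49 zg40) (kg xg15 yg21 zg50) (kg xg11 yg42 zg44) (kg xg5 yg33 zg37) (kg xg19 yg49 zg50) (kg xg19 yg49 zg35) (kg xg16 yg48 zg0) (kg xg19 yg49 zg53) (kg xg19 yg49 zg55) (kg xg19 yg49 zg18) (kg xg15 yg8 zg17) (kg xg17 yg13 zg7) (kg xg16 yg47 zg20) (kg xg5 yg33 zg40) (kg xg19 yg50 zg2) (kg xg19 yg50 zg5) (kg xg11 yg39 zg2) (kg xg19 yg50 zg9) (kg xg19 yg49 zg33) (kg xg11 yg41 zg53) (kg xg19 yg49 zg11) (kg xg9 yg7 zg7) (kg xg19 yg27 zg53) (kg xg8 yg58 zg2) (kg xg19 yg43 zg32) (kg xg9 yg14 zg27) (kg xg5 yg33 zg47) (kg xg19 yg18 zg47) (kg xg19 yg50 zg19) (kg xg19 yg50 zg22) (kg xg16 yg47 zg34) (kg xg16 yg47 zg36) (kg xg7 yg58 zg55) (kg xg5 yg34 zg23) (kg xg19 yg49 zg57) (kg xg11 yg47 zg45) (kg xg19 yg4 zg47) (kg xg11 yg5 zg10) (kg xg10 yg55 zg31)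 (kg xg5 yg33 zg53) (kg xg10 yg55 zg22) (kg xg19 yg50 zg34) (kg xg11 yg10 zg1) (kg xg19 yg50 zg27) (kg xg5 yg33 zg54) (kg xg19 yg50 zg40) (kg xg16 yg47 zg28) (kg xg17 yg32 zg24) (kg xg7 yg43 zg41) (kg xg19 yg21 zg50) (kg xg19 yg27 zg51) (kg xg19 yg21 zg53) (kg xg5 yg33 zg58) (kg xg19 yg17 zg34) (kg xg19 yg17 zg44) (kg xg19 yg17 zg47))
def f_g_11 : D2 → D3 → Pt := @D2.rec (fun _ => D3 → Pt) (@D3.rec (fun _ => Pt) (kg xg19 yg4 zg37) (kg xg5 yg34 zg14) (kg xg5 yg33 zg59) (kg xg19 yg21 zg3) (kg xg18 yg45 zg43) (kg xg19 yg39 zg26) (kg xg19 yg44 zg8) (kg xg5 yg33 zg60) (kg xg19 yg51 zg7) (kg xg19 yg50 zg20) (kg xg19 yg51 zg11) (kg xg19 yg21 zg21) (kg xg19 yg51 zg15) (kg xg5 yg34 zg16) (kg xg5 yg34 zg1) (kg xg14 yg42 zg31) (kg xg19 yg51 zg21) (kg xg18 yg47 zg43) (kg xg19 yg39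 zg28) (kg xg16 yg53 zg23) (kg xg19 yg49 zg2) (kg xg6 yg1 zg44) (kg xg17 yg8 zg24) (kg xg19 yg51 zg25) (kg xg19 yg49 zg6) (kg xg12 yg9 zg55) (kg xg8 yg58 zg0) (kg xg11 yg5 zg36) (kg xg16 yg47 zg60) (kg xg19 yg19 zg38) (kg xg16 yg44 zg57) (kg xg19 yg51 zg34) (kg xg10 yg55 zg7) (kg xg6 yg16 zg43) (kg xg19 yg51 zg28) (kg xg5 yg34 zg12) (kg xg19 yg51 zg39) (kg xg19 yg51 zg27) (kg xg19 yg18 zg2) (kg xg19 yg18 zg59) (kg xg19 yg20 zg7) (kg xg13 yg18 zg57) (kg xg7 yg36 zg26) (kg xg5 yg34 zg15) (kg xg7 yg45 zg46) (kg xg18 yg48 zg49) (kg xg19 yg20 zg0) (kg xg7 yg34 zg2) (kg xg5 yg34 zg17) (kg xg9 yg15 zg42) (kg xg6 yg1 zg61) (kg xg6 yg45 zg51) (kg xg16 yg54 zg34) (kg xg16 yg55 zg20) (kg xg12 yg25 zg6) (kg xg5 yg34 zg33) (kg xg5 yg34 zg22) (kg xg5 yg34 zg32) (kg xg16 yg56 zg29)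 (kg xg5 yg34 zg26) (kg xg5 yg34 zg24) (kg xg14 yg42 zg28)) (@D3.rec (fun _ => Pt) (kg xg19 yg51 zg61) (kg xg10 yg49 zg44) (kg xg17 yg11 zg35) (kg xg19 yg52 zg0) (kg xg19 yg52 zg4) (kg xg16 yg45 zg11) (kg xg19 yg52 zg8) (kg xg12 yg9 zg61) (kg xg19 yg32 zg34) (kg xg16 yg55 zg17) (kg xg5 yg34 zg29) (kg xg19 yg21 zg58) (kg xg19 yg52 zg14) (kg xg19 yg51 zg54) (kg xg5 yg34 zg30) (kg xg19 yg52 zg24) (kg xg19 yg51 zg52) (kg xg19 yg52 zg28) (kg xg19 yg52 zg31) (kg xg9 yg11 zg13) (kg xg19 yg47 zg26) (kg xg19 yg51 zg59) (kg xg16 yg53 zg27) (kg xg19 yg26 zg44) (kg xg19 yg27 zg4) (kg xg11 yg33 zg53) (kg xg19 yg44 zg9) (kg xg12 yg55 zg54) (kg xg19 yg18 zg42) (kg xg9 yg8 zg42) (kg xg19 yg25 zg56) (kg xg19 yg26 zg52) (kg xg5 yg34 zg36) (kg xg17 yg27 zg15) (kg xg16 yg48 zg58) (kg xg16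 yg48 zg44) (kg xg5 yg34 zg38) (kg xg19 yg52 zg55) (kg xg16 yg29 zg20) (kg xg15 yg7 zg54) (kg xg5 yg34 zg40) (kg xg19 yg52 zg59) (kg xg10 yg52 zg38) (kg xg5 yg34 zg41) (kg xg5 yg39 zg23) (kg xg16 yg49 zg0) (kg xg6 yg3 zg29) (kg xg9 yg13 zg2) (kg xg11 yg48 zg40) (kg xg19 yg53 zg5) (kg xg5 yg45 zg38) (kg xg9 yg5 zg32) (kg xg9 yg12 zg30) (kg xg5 yg34 zg47) (kg xg5 yg52 zg28) (kg xg11 yg48 zg41) (kg xg5 yg34 zg48) (kg xg16 yg47 zg19) (kg xg19 yg52 zg57) (kg xg19 yg53 zg14) (kg xg9 yg5 zg24) (kg xg11 yg6 zg34)) (@D3.rec (fun _ => Pt) (kg xg10 yg58 zg38) (kg xg19 yg26 zg26) (kg xg9 yg10 zg20) (kg xg19 yg48 zg3) (kg xg18 yg42 zg14) (kg xg8 yg56 zg10) (kg xg12 yg49 zg49) (kg xg6 yg31 zg31) (kg xg19 yg50 zg11) (kg xg10 yg3 zg5) (kg xg8 yg22 zg30) (kg xg17 yg22 zg34) (kg xg18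 yg50 zg46) (kg xg10 yg23 zg18) (kg xg12 yg55 zg51) (kg xg14 yg41 zg49) (kg xg19 yg41 zg5) (kg xg10 yg46 zg29) (kg xg19 yg53 zg33) (kg xg19 yg43 zg14) (kg xg5 yg36 zg42) (kg xg10 yg47 zg57) (kg xg11 yg24 zg60) (kg xg16 yg45 zg32) (kg xg19 yg53 zg39) (kg xg19 yg38 zg10) (kg xg5 yg35 zg6) (kg xg19 yg53 zg44) (kg xg19 yg40 zg19) (kg xg5 yg39 zg47) (kg xg16 yg59 zg6) (kg xg10 yg23 zg39) (kg xg5 yg35 zg11) (kg xg19 yg53 zg51) (kg xg11 yg2 zg42) (kg xg9 yg51 zg37) (kg xg5 yg35 zg14) (kg xg9 yg51 zg36) (kg xg19 yg53 zg60) (kg xg8 yg38 zg47) (kg xg5 yg35 zg16) (kg xg19 yg54 zg4) (kg xg8 yg39 zg24) (kg xg11 yg4 zg20) (kg xg15 yg3 zg24) (kg xg15 yg22 zg51) (kg xg5 yg35 zg18) (kg xg15 yg22 zg50) (kg xg19 yg54 zg15) (kg xg19 yg54 zg18) (kg xg5 yg35 zg20) (kg xg19 yg54 zg21) (kg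 xg5 yg35 zg54) (kg xg19 yg10 zg48) (kg xg10 yg30 zg54) (kg xg11 yg2 zg43) (kg xg15 yg34 zg57) (kg xg5 yg35 zg24) (kg xg15 yg34 zg56) (kg xg16 yg49 zg58) (kg xg5 yg35 zg25) (kg xg16 yg49 zg57)) (@D3.rec (fun _ => Pt) (kg xg16 yg27 zg54) (kg xg19 yg54 zg32) (kg xg19 yg54 zg36) (kg xg16 yg50 zg13) (kg xg5 yg35 zg27) (kg xg19 yg54 zg44) (kg xg16 yg50 zg11) (kg xg16 yg50 zg30) (kg xg16 yg9 zg56) (kg xg5 yg36 zg0) (kg xg5 yg35 zg40) (kg xg19 yg54 zg51) (kg xg6 yg4 zg52) (kg xg5 yg35 zg32) (kg xg17 yg48 zg46) (kg xg16 yg50 zg6) (kg xg5 yg35 zg33) (kg xg16 yg50 zg5) (kg xg19 yg55 zg2) (kg xg19 yg55 zg6) (kg xg19 yg55 zg10) (kg xg5 yg35 zg35) (kg xg19 yg55 zg15) (kg xg10 yg15 zg58) (kg xg5 yg35 zg43) (kg xg16 yg50 zg18) (kg xg5 yg35 zg38) (kg xg16 yg50 zg17) (kg xg19 yg55 zg29)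 (kg xg19 yg55 zg33) (kg xg19 yg55 zg37) (kg xg19 yg55 zg40) (kg xg19 yg55 zg44) (kg xg16 yg50 zg14) (kg xg16 yg50 zg25) (kg xg5 yg35 zg41) (kg xg16 yg50 zg24) (kg xg19 yg55 zg53) (kg xg19 yg55 zg57) (kg xg19 yg55 zg59) (kg xg19 yg56 zg1) (kg xg10 yg52 zg7) (kg xg10 yg57 zg49) (kg xg19 yg56 zg5) (kg xg14 yg47 zg44) (kg xg8 yg58 zg46) (kg xg11 yg57 zg17) (kg xg16 yg27 zg61) (kg xg19 yg47 zg37) (kg xg19 yg56 zg16) (kg xg7 yg52 zg24) (kg xg5 yg35 zg48) (kg xg14 yg6 zg61) (kg xg19 yg55 zg23) (kg xg19 yg56 zg23) (kg xg19 yg55 zg48) (kg xg19 yg56 zg28) (kg xg13 yg59 zg37) (kg xg12 yg48 zg49) (kg xg7 yg23 zg59) (kg xg5 yg35 zg52) (kg xg7 yg23 zg57)) (@D3.rec (fun _ => Pt) (kg xg19 yg54 zg19) (kg xg14 yg47 zg33) (kg xg16 yg9 zg48) (kg xg19 yg55 zg49) (kg xg7 yg52 zg19) (kg xg19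 yg56 zg38) (kg xg13 yg37 zg8) (kg xg5 yg35 zg55) (kg xg13 yg26 zg43) (kg xg19 yg54 zg22) (kg xg8 yg56 zg2) (kg xg10 yg24 zg8) (kg xg5 yg35 zg61) (kg xg14 yg29 zg46) (kg xg8 yg7 zg18) (kg xg19 yg56 zg49) (kg xg19 yg54 zg60) (kg xg7 yg8 zg46) (kg xg19 yg56 zg55) (kg xg16 yg9 zg51) (kg xg9 yg44 zg32) (kg xg15 yg25 zg27) (kg xg17 yg36 zg5) (kg xg8 yg28 zg37) (kg xg10 yg24 zg18) (kg xg8 yg6 zg57) (kg xg14 yg51 zg2) (kg xg5 yg36 zg3) (kg xg15 yg53 zg19) (kg xg15 yg16 zg59) (kg xg19 yg57 zg4) (kg xg19 yg57 zg5) (kg xg8 yg6 zg50) (kg xg19 yg57 zg11) (kg xg8 yg10 zg14) (kg xg19 yg57 zg15) (kg xg8 yg6 zg56) (kg xg8 yg27 zg24) (kg xg5 yg36 zg11) (kg xg19 yg57 zg24) (kg xg12 yg18 zg31) (kg xg19 yg57 zg26) (kg xg17 yg49 zg10) (kg xg5 yg36 zg14) (kg xg19 yg57 zg33) (kg xg17 yg49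 zg8) (kg xg16 yg50 zg3) (kg xg17 yg49 zg19) (kg xg15 yg25 zg24) (kg xg16 yg49 zg34) (kg xg8 yg26 zg34) (kg xg10 yg35 zg23) (kg xg9 yg39 zg17) (kg xg8 yg56 zg14) (kg xg10 yg49 zg13) (kg xg15 yg4 zg36) (kg xg5 yg36 zg21) (kg xg10 yg49 zg25) (kg xg9 yg32 zg29) (kg xg8 yg56 zg13) (kg xg10 yg44 zg23) (kg xg15 yg17 zg50)) (@D3.rec (fun _ => Pt) (kg xg19 yg57 zg47) (kg xg7 yg58 zg30) (kg xg11 yg53 zg0) (kg xg5 yg36 zg29) (kg xg5 yg36 zg35) (kg xg19 yg57 zg55) (kg xg5 yg39 zg41) (kg xg10 yg48 zg43) (kg xg5 yg36 zg31) (kg xg10 yg48 zg47) (kg xg19 yg42 zg42) (kg xg19 yg58 zg5) (kg xg19 yg58 zg9) (kg xg19 yg57 zg54) (kg xg5 yg36 zg33) (kg xg19 yg58 zg18) (kg xg19 yg57 zg52) (kg xg19 yg29 zg19) (kg xg10 yg24 zg13) (kg xg15 yg1 zg32) (kg xg8 yg56 zg46) (kg xg11 yg10 zg0) (kg xg10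 yg52 zg8) (kg xg19 yg58 zg26) (kg xg5 yg39 zg43) (kg xg17 yg34 zg27) (kg xg19 yg58 zg33) (kg xg5 yg36 zg40) (kg xg19 yg58 zg38) (kg xg16 yg58 zg34) (kg xg8 yg56 zg45) (kg xg10 yg43 zg54) (kg xg17 yg7 zg56) (kg xg10 yg49 zg10) (kg xg5 yg39 zg1) (kg xg5 yg36 zg45) (kg xg10 yg59 zg30) (kg xg19 yg58 zg44) (kg xg5 yg36 zg50) (kg xg5 yg36 zg46) (kg xg19 yg54 zg27) (kg xg19 yg58 zg52) (kg xg19 yg58 zg56) (kg xg19 yg58 zg60) (kg xg11 yg16 zg13) (kg xg16 yg51 zg2) (kg xg5 yg42 zg33) (kg xg16 yg51 zg1) (kg xg10 yg58 zg42) (kg xg6 yg45 zg27) (kg xg13 yg9 zg45) (kg xg19 yg58 zg53) (kg xg19 yg59 zg10) (kg xg19 yg58 zg61) (kg xg12 yg10 zg33) (kg xg5 yg36 zg52) (kg xg19 yg32 zg43) (kg xg11 yg57 zg27) (kg xg18 yg17 zg48) (kg xg15 yg1 zg41) (kg xg8 yg53 zg17) (kg xg15 yg29 zg37)) (@D3.rec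 (fun _ => Pt) (kg xg5 yg36 zg57) (kg xg19 yg59 zg26) (kg xg19 yg59 zg28) (kg xg17 yg51 zg35) (kg xg5 yg36 zg58) (kg xg15 yg29 zg34) (kg xg19 yg11 zg13) (kg xg15 yg3 zg12) (kg xg15 yg24 zg25) (kg xg15 yg5 zg43) (kg xg5 yg46 zg31) (kg xg5 yg38 zg41) (kg xg10 yg2 zg4) (kg xg19 yg59 zg38) (kg xg16 yg8 zg38) (kg xg5 yg37 zg10) (kg xg16 yg8 zg37) (kg xg11 yg11 zg18) (kg xg16 yg20 zg20) (kg xg9 yg12 zg35) (kg xg16 yg54 zg31) (kg xg19 yg59 zg49) (kg xg19 yg59 zg48) (kg xg5 yg37 zg15) (kg xg12 yg10 zg42) (kg xg9 yg2 zg40) (kg xg11 yg14 zg29) (kg xg5 yg37 zg21) (kg xg5 yg44 zg31) (kg xg19 yg59 zg58) (kg xg11 yg16 zg60) (kg xg5 yg37 zg22) (kg xg11 yg16 zg59) (kg xg11 yg13 zg48) (kg xg11 yg21 zg35) (kg xg9 yg2 zg18) (kg xg11 yg16 zg46) (kg xg5 yg43 zg16) (kg xg9 yg50 zg30) (kg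 xg7 yg29 zg11) (kg xg12 yg49 zg30) (kg xg6 yg31 zg50) (kg xg11 yg12 zg25) (kg xg11 yg8 zg18) (kg xg15 yg3 zg51) (kg xg6 yg16 zg28) (kg xg15 yg3 zg52) (kg xg20 yg0 zg6) (kg xg12 yg7 zg32) (kg xg8 yg2 zg6) (kg xg12 yg7 zg21) (kg xg19 yg41 zg48) (kg xg20 yg0 zg11) (kg xg11 yg13 zg49) (kg xg11 yg12 zg44) (kg xg11 yg11 zg25) (kg xg6 yg15 zg53) (kg xg9 yg1 zg33) (kg xg20 yg0 zg7) (kg xg5 yg37 zg46) (kg xg19 yg43 zg51) (kg xg11 yg11 zg32)) (@D3.rec (fun _ => Pt) (kg xg9 yg1 zg37) (kg xg5 yg38 zg8) (kg xg5 yg38 zg21) (kg xg9 yg45 zg18) (kg xg5 yg47 zg58) (kg xg5 yg37 zg52) (kg xg20 yg0 zg23) (kg xg5 yg38 zg22) (kg xg20 yg0 zg26) (kg xg5 yg38 zg2) (kg xg5 yg37 zg58) (kg xg15 yg6 zg33) (kg xg9 yg9 zg48) (kg xg13 yg27 zg37) (kg xg11 yg11 zg39) (kg xg11 yg11 zg38) (kg xg20 yg0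 zg36) (kg xg8 yg44 zg27) (kg xg20 yg0 zg38) (kg xg20 yg0 zg41) (kg xg19 yg51 zg9) (kg xg20 yg0 zg35) (kg xg20 yg0 zg48) (kg xg11 yg11 zg31) (kg xg20 yg0 zg52) (kg xg11 yg11 zg44) (kg xg5 yg38 zg20) (kg xg5 yg38 zg5) (kg xg17 yg45 zg33) (kg xg12 yg10 zg58) (kg xg11 yg28 zg19) (kg xg15 yg4 zg15) (kg xg20 yg0 zg56) (kg xg5 yg38 zg9) (kg xg7 yg56 zg52) (kg xg11 yg17 zg21) (kg xg20 yg1 zg3) (kg xg15 yg30 zg20) (kg xg10 yg48 zg54) (kg xg9 yg3 zg26) (kg xg16 yg55 zg27) (kg xg20 yg1 zg10) (kg xg20 yg1 zg1) (kg xg20 yg1 zg15) (kg xg9 yg9 zg27) (kg xg11 yg11 zg46) (kg xg20 yg1 zg7) (kg xg5 yg40 zg31) (kg xg15 yg4 zg34) (kg xg11 yg7 zg51) (kg xg5 yg38 zg16) (kg xg11 yg7 zg50) (kg xg17 yg2 zg57) (kg xg16 yg30 zg5) (kg xg15 yg4 zg18) (kg xg9 yg9 zg50) (kg xg9 yg32 zg17) (kg xg17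 yg56 zg46) (kg xg16 yg55 zg10) (kg xg9 yg10 zg32) (kg xg11 yg10 zg38) (kg xg18 yg43 zg41)) (@D3.rec (fun _ => Pt) (kg xg12 yg11 zg4) (kg xg6 yg7 zg42) (kg xg8 yg0 zg8) (kg xg5 yg58 zg38) (kg xg5 yg58 zg49) (kg xg5 yg38 zg24) (kg xg16 yg49 zg35) (kg xg9 yg51 zg26) (kg xg11 yg29 zg25) (kg xg20 yg1 zg41) (kg xg11 yg51 zg54) (kg xg5 yg38 zg27) (kg xg10 yg35 zg42) (kg xg20 yg1 zg50) (kg xg18 yg2 zg19) (kg xg19 yg42 zg51) (kg xg11 yg54 zg48) (kg xg17 yg55 zg32) (kg xg10 yg5 zg17) (kg xg10 yg6 zg51) (kg xg12 yg7 zg19) (kg xg5 yg49 zg18) (kg xg6 yg3 zg24) (kg xg16 yg19 zg54) (kg xg8 yg49 zg16) (kg xg20 yg1 zg60) (kg xg11 yg8 zg7) (kg xg6 yg39 zg13) (kg xg5 yg38 zg46) (kg xg10 yg6 zg23) (kg xg17 yg5 zg46) (kg xg16 yg30 zg0) (kg xg5 yg38 zg47) (kg xg18 yg23 zg37) (kg xg5 yg38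 zg48) (kg xg10 yg18 zg14) (kg xg13 yg1 zg35) (kg xg8 yg9 zg55) (kg xg15 yg23 zg20) (kg xg15 yg22 zg12) (kg xg5 yg38 zg54) (kg xg15 yg22 zg11) (kg xg20 yg2 zg15) (kg xg15 yg22 zg27) (kg xg5 yg38 zg55) (kg xg20 yg2 zg24) (kg xg15 yg22 zg25) (kg xg17 yg48 zg55) (kg xg5 yg38 zg57) (kg xg17 yg48 zg54) (kg xg15 yg22 zg22) (kg xg20 yg2 zg31) (kg xg15 yg22 zg17) (kg xg5 yg38 zg59) (kg xg20 yg2 zg39) (kg xg15 yg22 zg15) (kg xg5 yg39 zg3) (kg xg9 yg38 zg41) (kg xg15 yg17 zg45) (kg xg5 yg39 zg0) (kg xg8 yg9 zg14) (kg xg20 yg2 zg48)) (@D3.rec (fun _ => Pt) (kg xg20 yg2 zg52) (kg xg15 yg17 zg57) (kg xg15 yg17 zg55) (kg xg5 yg39 zg2) (kg xg15 yg17 zg54) (kg xg20 yg2 zg61) (kg xg20 yg3 zg3) (kg xg15 yg17 zg48) (kg xg20 yg2 zg58) (kg xg10 yg49 zg12) (kg xg20 yg3 zg9) (kg xg20 yg3 zg12)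 (kg xg19 yg32 zg24) (kg xg20 yg3 zg18) (kg xg19 yg40 zg16) (kg xg5 yg39 zg7) (kg xg20 yg3 zg19) (kg xg20 yg3 zg25) (kg xg20 yg3 zg29) (kg xg18 yg5 zg38) (kg xg20 yg2 zg57) (kg xg20 yg3 zg30) (kg xg15 yg23 zg8) (kg xg5 yg39 zg10) (kg xg20 yg3 zg40) (kg xg15 yg23 zg6) (kg xg6 yg33 zg30) (kg xg18 yg12 zg30) (kg xg20 yg3 zg45) (kg xg20 yg3 zg49) (kg xg18 yg5 zg40) (kg xg15 yg54 zg26) (kg xg20 yg3 zg50) (kg xg16 yg8 zg29) (kg xg9 yg35 zg21) (kg xg14 yg58 zg10) (kg xg8 yg8 zg6) (kg xg8 yg28 zg39) (kg xg15 yg23 zg25) (kg xg5 yg39 zg19) (kg xg20 yg4 zg6) (kg xg17 yg40 zg15) (kg xg15 yg18 zg60) (kg xg14 yg56 zg46) (kg xg5 yg39 zg21) (kg xg15 yg49 zg5) (kg xg9 yg38 zg17) (kg xg20 yg4 zg16) (kg xg8 yg59 zg11) (kg xg6 yg50 zg8) (kg xg5 yg39 zg28) (kg xg5 yg39 zg24) (kg xg20 yg2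 zg10) (kg xg17 yg53 zg33) (kg xg20 yg4 zg25) (kg xg17 yg53 zg36) (kg xg18 yg23 zg30) (kg xg16 yg49 zg32) (kg xg18 yg25 zg54) (kg xg16 yg49 zg30) (kg xg16 yg49 zg26) (kg xg15 yg44 zg22)) (@D3.rec (fun _ => Pt) (kg xg11 yg5 zg23) (kg xg10 yg59 zg40) (kg xg16 yg30 zg52) (kg xg20 yg2 zg12) (kg xg14 yg50 zg14) (kg xg20 yg4 zg29) (kg xg19 yg32 zg22) (kg xg5 yg39 zg30) (kg xg11 yg16 zg45) (kg xg15 yg44 zg16) (kg xg5 yg39 zg35) (kg xg5 yg39 zg31) (kg xg17 yg32 zg36) (kg xg5 yg39 zg33) (kg xg11 yg42 zg20) (kg xg19 yg37 zg42) (kg xg20 yg4 zg58) (kg xg11 yg18 zg42) (kg xg20 yg4 zg32) (kg xg19 yg37 zg39) (kg xg19 yg40 zg39) (kg xg10 yg52 zg48) (kg xg17 yg31 zg54) (kg xg17 yg1 zg55) (kg xg6 yg20 zg32) (kg xg18 yg25 zg17) (kg xg6 yg47 zg29) (kg xg15 yg1 zg59) (kg xg16 yg51 zg16)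 (kg xg10 yg11 zg11) (kg xg15 yg2 zg0) (kg xg16 yg58 zg55) (kg xg20 yg5 zg14) (kg xg20 yg5 zg18) (kg xg8 yg13 zg18) (kg xg5 yg39 zg42) (kg xg10 yg53 zg0) (kg xg20 yg5 zg23) (kg xg11 yg7 zg56) (kg xg5 yg39 zg44) (kg xg6 yg20 zg34) (kg xg9 yg32 zg12) (kg xg16 yg59 zg41) (kg xg15 yg48 zg21) (kg xg9 yg36 zg48) (kg xg8 yg34 zg48) (kg xg8 yg36 zg16) (kg xg6 yg41 zg59) (kg xg5 yg47 zg11) (kg xg5 yg43 zg14) (kg xg9 yg29 zg20) (kg xg20 yg5 zg34) (kg xg18 yg15 zg37) (kg xg5 yg39 zg60) (kg xg11 yg12 zg4) (kg xg20 yg5 zg38) (kg xg5 yg40 zg13) (kg xg17 yg55 zg28) (kg xg20 yg5 zg41) (kg xg10 yg12 zg18) (kg xg17 yg30 zg8) (kg xg17 yg17 zg50)) (@D3.rec (fun _ => Pt) (kg xg12 yg14 zg35) (kg xg15 yg49 zg40) (kg xg9 yg58 zg1) (kg xg20 yg5 zg48) (kg xg9 yg20 zg6) (kg xg17 yg15 zg52) (kg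 xg16 yg29 zg47) (kg xg5 yg40 zg10) (kg xg9 yg10 zg2) (kg xg20 yg5 zg39) (kg xg7 yg25 zg21) (kg xg17 yg59 zg40) (kg xg10 yg48 zg57) (kg xg18 yg23 zg26) (kg xg11 yg23 zg58) (kg xg17 yg12 zg28) (kg xg11 yg12 zg49) (kg xg20 yg5 zg55) (kg xg11 yg6 zg18) (kg xg11 yg18 zg19) (kg xg16 yg35 zg51) (kg xg16 yg27 zg52) (kg xg5 yg40 zg35) (kg xg5 yg40 zg22) (kg xg5 yg40 zg34) (kg xg11 yg7 zg5) (kg xg20 yg5 zg58) (kg xg5 yg40 zg24) (kg xg20 yg6 zg0) (kg xg17 yg2 zg50) (kg xg20 yg6 zg6) (kg xg5 yg40 zg25) (kg xg6 yg47 zg35) (kg xg9 yg2 zg13) (kg xg20 yg6 zg13) (kg xg20 yg6 zg15) (kg xg15 yg10 zg38) (kg xg20 yg6 zg20) (kg xg5 yg40 zg28) (kg xg8 yg49 zg47) (kg xg20 yg6 zg22) (kg xg11 yg7 zg25) (kg xg17 yg34 zg45) (kg xg7 yg57 zg30) (kg xg8 yg49 zg10) (kg xg8 yg49 zg50) (kg xg11 yg7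 zg47) (kg xg19 yg0 zg2) (kg xg20 yg6 zg31) (kg xg20 yg6 zg33) (kg xg11 yg48 zg43) (kg xg16 yg21 zg41) (kg xg16 yg30 zg46) (kg xg20 yg6 zg38) (kg xg11 yg6 zg37) (kg xg9 yg45 zg58) (kg xg13 yg59 zg14) (kg xg17 yg55 zg1) (kg xg5 yg40 zg37) (kg xg17 yg55 zg0) (kg xg5 yg40 zg49) (kg xg9 yg3 zg0)) (@D3.rec (fun _ => Pt) (kg xg15 yg5 zg0) (kg xg5 yg40 zg42) (kg xg5 yg40 zg43) (kg xg14 yg50 zg1) (kg xg5 yg40 zg56) (kg xg5 yg40 zg46) (kg xg5 yg40 zg47) (kg xg11 yg6 zg57) (kg xg11 yg14 zg15) (kg xg17 yg56 zg10) (kg xg5 yg49 zg35) (kg xg9 yg46 zg49) (kg xg17 yg29 zg59) (kg xg6 yg44 zg1) (kg xg5 yg49 zg33) (kg xg15 yg3 zg58) (kg xg6 yg43 zg60) (kg xg6 yg27 zg18) (kg xg5 yg40 zg52) (kg xg16 yg23 zg58) (kg xg5 yg41 zg4) (kg xg18 yg1 zg33) (kg xg20 yg6 zg58) (kg xg18 yg36 zg19) (kg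 xg11 yg10 zg54) (kg xg11 yg10 zg53) (kg xg20 yg6 zg61) (kg xg17 yg34 zg5) (kg xg19 yg47 zg60) (kg xg5 yg40 zg58) (kg xg18 yg56 zg33) (kg xg5 yg41 zg6) (kg xg5 yg40 zg59) (kg xg12 yg8 zg47) (kg xg20 yg7 zg7) (kg xg5 yg44 zg52) (kg xg12 yg3 zg58) (kg xg17 yg16 zg18) (kg xg18 yg58 zg5) (kg xg10 yg12 zg5) (kg xg17 yg55 zg14) (kg xg11 yg24 zg34) (kg xg9 yg5 zg4) (kg xg15 yg4 zg4) (kg xg15 yg4 zg5) (kg xg11 yg11 zg16) (kg xg20 yg6 zg40) (kg xg14 yg8 zg6) (kg xg15 yg3 zg33) (kg xg5 yg52 zg18) (kg xg20 yg7 zg12) (kg xg5 yg41 zg18) (kg xg20 yg7 zg18) (kg xg6 yg1 zg33) (kg xg12 yg22 zg4) (kg xg5 yg41 zg28) (kg xg5 yg41 zg21) (kg xg20 yg7 zg25) (kg xg17 yg0 zg29) (kg xg5 yg41 zg23) (kg xg17 yg55 zg10) (kg xg20 yg7 zg32)) (@D3.rec (fun _ => Pt) (kg xg16 yg52 zg48) (kg xg20 yg7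 zg37) (kg xg16 yg52 zg46) (kg xg16 yg59 zg8) (kg xg15 yg7 zg18) (kg xg9 yg3 zg39) (kg xg12 yg3 zg56) (kg xg8 yg44 zg53) (kg xg20 yg7 zg47) (kg xg8 yg49 zg29) (kg xg20 yg7 zg29) (kg xg14 yg44 zg27) (kg xg8 yg44 zg10) (kg xg16 yg53 zg0) (kg xg18 yg59 zg49) (kg xg20 yg7 zg51) (kg xg16 yg53 zg15) (kg xg15 yg4 zg37) (kg xg5 yg41 zg59) (kg xg5 yg41 zg34) (kg xg5 yg41 zg57) (kg xg6 yg15 zg31) (kg xg5 yg41 zg39) (kg xg16 yg23 zg24) (kg xg20 yg7 zg22) (kg xg11 yg32 zg5) (kg xg6 yg14 zg4) (kg xg20 yg7 zg60) (kg xg8 yg45 zg11) (kg xg8 yg44 zg25) (kg xg20 yg8 zg5) (kg xg19 yg0 zg48) (kg xg20 yg8 zg6) (kg xg19 yg59 zg41) (kg xg5 yg41 zg42) (kg xg20 yg8 zg17) (kg xg20 yg7 zg26) (kg xg8 yg52 zg5) (kg xg5 yg41 zg43) (kg xg17 yg45 zg43) (kg xg10 yg29 zg58) (kg xg7 yg56 zg26) (kg xg12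 yg9 zg16) (kg xg5 yg41 zg47) (kg xg16 yg31 zg46) (kg xg20 yg8 zg28) (kg xg15 yg0 zg15) (kg xg5 yg41 zg48) (kg xg10 yg5 zg12) (kg xg11 yg6 zg56) (kg xg20 yg8 zg33) (kg xg16 yg31 zg9) (kg xg14 yg59 zg61) (kg xg15 yg0 zg7) (kg xg5 yg41 zg51) (kg xg10 yg15 zg28) (kg xg11 yg6 zg25) (kg xg18 yg19 zg53) (kg xg11 yg20 zg43) (kg xg18 yg43 zg13) (kg xg20 yg8 zg47) (kg xg9 yg4 zg43)) (@D3.rec (fun _ => Pt) (kg xg17 yg8 zg25) (kg xg16 yg52 zg52) (kg xg5 yg41 zg54) (kg xg20 yg7 zg30) (kg xg20 yg8 zg57) (kg xg20 yg7 zg57) (kg xg5 yg41 zg55) (kg xg20 yg9 zg2) (kg xg20 yg7 zg55) (kg xg20 yg9 zg5) (kg xg5 yg41 zg58) (kg xg8 yg50 zg48) (kg xg20 yg9 zg6) (kg xg15 yg0 zg10) (kg xg16 yg53 zg49) (kg xg7 yg51 zg58) (kg xg16 yg53 zg48) (kg xg15 yg26 zg25) (kg xg15 yg4 zg7) (kg xg16 yg55 zg49)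 (kg xg20 yg9 zg16) (kg xg20 yg9 zg20) (kg xg11 yg34 zg59) (kg xg20 yg9 zg22) (kg xg12 yg23 zg34) (kg xg12 yg23 zg32) (kg xg6 yg12 zg0) (kg xg16 yg56 zg28) (kg xg5 yg42 zg16) (kg xg11 yg6 zg27) (kg xg6 yg1 zg24) (kg xg11 yg18 zg5) (kg xg17 yg30 zg4) (kg xg20 yg9 zg31) (kg xg5 yg42 zg9) (kg xg9 yg29 zg30) (kg xg5 yg42 zg49) (kg xg20 yg9 zg34) (kg xg12 yg3 zg36) (kg xg5 yg42 zg13) (kg xg11 yg58 zg39) (kg xg5 yg42 zg14) (kg xg5 yg43 zg15) (kg xg17 yg54 zg60) (kg xg20 yg9 zg44) (kg xg20 yg9 zg45) (kg xg11 yg19 zg11) (kg xg9 yg5 zg19) (kg xg20 yg9 zg49) (kg xg5 yg43 zg17) (kg xg10 yg44 zg30) (kg xg6 yg27 zg13) (kg xg5 yg42 zg19) (kg xg12 yg53 zg55) (kg xg11 yg24 zg2) (kg xg14 yg4 zg49) (kg xg6 yg12 zg17) (kg xg5 yg42 zg22) (kg xg20 yg9 zg56) (kg xg5 yg42 zg23) (kg xg20 yg9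 zg57) (kg xg20 yg9 zg61)) (@D3.rec (fun _ => Pt) (kg xg19 yg59 zg14) (kg xg6 yg48 zg39) (kg xg6 yg40 zg15) (kg xg11 yg24 zg3) (kg xg5 yg42 zg26) (kg xg5 yg42 zg31) (kg xg16 yg19 zg26) (kg xg5 yg42 zg32) (kg xg5 yg42 zg28) (kg xg20 yg10 zg6) (kg xg20 yg10 zg11) (kg xg20 yg10 zg15) (kg xg20 yg4 zg50) (kg xg9 yg44 zg59) (kg xg20 yg10 zg20) (kg xg17 yg18 zg18) (kg xg20 yg10 zg12) (kg xg20 yg10 zg23) (kg xg5 yg46 zg14) (kg xg16 yg20 zg40) (kg xg20 yg10 zg25) (kg xg16 yg52 zg16) (kg xg18 yg48 zg51) (kg xg5 yg42 zg60) (kg xg5 yg42 zg36) (kg xg12 yg53 zg50) (kg xg5 yg42 zg58) (kg xg13 yg9 zg59) (kg xg12 yg8 zg44) (kg xg11 yg7 zg1) (kg xg20 yg10 zg38) (kg xg20 yg10 zg42) (kg xg20 yg10 zg39) (kg xg20 yg10 zg47) (kg xg12 yg6 zg37) (kg xg18 yg9 zg17) (kg xg20 yg10 zg55) (kg xg20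 yg10 zg51) (kg xg20 yg10 zg60) (kg xg16 yg20 zg35) (kg xg5 yg42 zg44) (kg xg20 yg11 zg6) (kg xg20 yg10 zg3) (kg xg20 yg11 zg12) (kg xg13 yg14 zg24) (kg xg5 yg42 zg45) (kg xg13 yg29 zg38) (kg xg8 yg44 zg28) (kg xg5 yg42 zg51) (kg xg5 yg42 zg48) (kg xg20 yg11 zg24) (kg xg20 yg11 zg29) (kg xg20 yg11 zg32) (kg xg16 yg52 zg12) (kg xg16 yg52 zg10) (kg xg20 yg11 zg38) (kg xg20 yg11 zg30) (kg xg20 yg11 zg43) (kg xg6 yg11 zg60) (kg xg20 yg11 zg47) (kg xg11 yg21 zg12) (kg xg20 yg11 zg36)) (@D3.rec (fun _ => Pt) (kg xg20 yg11 zg51) (kg xg9 yg4 zg29) (kg xg20 yg9 zg27) (kg xg16 yg52 zg2) (kg xg5 yg42 zg55) (kg xg20 yg10 zg13) (kg xg20 yg12 zg0) (kg xg5 yg42 zg56) (kg xg10 yg25 zg12) (kg xg8 yg29 zg28) (kg xg20 yg12 zg6) (kg xg11 yg16 zg54) (kg xg20 yg11 zg23) (kg xg16 yg47 zg35)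 (kg xg20 yg10 zg33) (kg xg5 yg42 zg59) (kg xg20 yg12 zg15) (kg xg16 yg56 zg51) (kg xg11 yg28 zg7) (kg xg11 yg28 zg4) (kg xg5 yg43 zg1) (kg xg17 yg59 zg38) (kg xg5 yg43 zg51) (kg xg5 yg43 zg53) (kg xg20 yg12 zg24) (kg xg10 yg39 zg25) (kg xg11 yg28 zg5) (kg xg5 yg43 zg5) (kg xg14 yg8 zg16) (kg xg5 yg45 zg45) (kg xg5 yg44 zg28) (kg xg5 yg52 zg24) (kg xg20 yg12 zg29) (kg xg12 yg25 zg18) (kg xg5 yg44 zg60) (kg xg5 yg43 zg11) (kg xg17 yg32 zg61) (kg xg5 yg45 zg0) (kg xg6 yg1 zg37) (kg xg8 yg49 zg40) (kg xg5 yg43 zg33) (kg xg6 yg41 zg7) (kg xg17 yg41 zg59) (kg xg20 yg12 zg42) (kg xg11 yg16 zg53) (kg xg11 yg20 zg20) (kg xg7 yg59 zg33) (kg xg11 yg19 zg56) (kg xg9 yg45 zg13) (kg xg12 yg31 zg12) (kg xg19 yg17 zg1) (kg xg7 yg50 zg5) (kg xg5 yg43 zg24) (kg xg11 yg14 zg49) (kg xg20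 yg12 zg47) (kg xg20 yg12 zg48) (kg xg11 yg18 zg2) (kg xg20 yg12 zg52) (kg xg11 yg6 zg32) (kg xg5 yg43 zg27) (kg xg11 yg6 zg31) (kg xg20 yg12 zg57)) (@D3.rec (fun _ => Pt) (kg xg11 yg17 zg57) (kg xg20 yg12 zg54) (kg xg16 yg48 zg33) (kg xg8 yg25 zg27) (kg xg20 yg9 zg32) (kg xg17 yg3 zg14) (kg xg5 yg43 zg49) (kg xg5 yg43 zg31) (kg xg20 yg13 zg11) (kg xg20 yg9 zg38) (kg xg5 yg43 zg32) (kg xg20 yg13 zg15) (kg xg20 yg12 zg43) (kg xg20 yg13 zg18) (kg xg20 yg9 zg42) (kg xg11 yg20 zg18) (kg xg19 yg53 zg11) (kg xg20 yg13 zg22) (kg xg16 yg53 zg19) (kg xg5 yg48 zg41) (kg xg13 yg27 zg43) (kg xg11 yg7 zg42) (kg xg20 yg13 zg31) (kg xg20 yg13 zg26) (kg xg5 yg43 zg42) (kg xg20 yg13 zg35) (kg xg20 yg13 zg24) (kg xg11 yg25 zg18) (kg xg5 yg48 zg43) (kg xg16 yg51 zg52) (kg xg20 yg12 zg46)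 (kg xg5 yg43 zg46) (kg xg16 yg36 zg3) (kg xg11 yg16 zg11) (kg xg16 yg7 zg44) (kg xg5 yg43 zg48) (kg xg20 yg12 zg40) (kg xg17 yg41 zg55) (kg xg20 yg13 zg44) (kg xg17 yg42 zg26) (kg xg20 yg12 zg22) (kg xg5 yg43 zg50) (kg xg10 yg15 zg35) (kg xg20 yg13 zg19) (kg xg12 yg4 zg2) (kg xg12 yg32 zg20) (kg xg5 yg59 zg29) (kg xg5 yg43 zg52) (kg xg20 yg13 zg59) (kg xg16 yg53 zg33) (kg xg8 yg48 zg57) (kg xg12 yg31 zg4) (kg xg11 yg44 zg27) (kg xg16 yg30 zg2) (kg xg5 yg44 zg0) (kg xg5 yg43 zg59) (kg xg20 yg14 zg4) (kg xg11 yg17 zg3) (kg xg20 yg14 zg7) (kg xg5 yg43 zg60) (kg xg8 yg58 zg27) (kg xg5 yg44 zg19)) (@D3.rec (fun _ => Pt) (kg xg12 yg12 zg51) (kg xg6 yg44 zg10) (kg xg11 yg14 zg31) (kg xg16 yg56 zg17) (kg xg17 yg43 zg48) (kg xg11 yg16 zg56) (kg xg20 yg12 zg21) (kg xg16 yg48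 zg38) (kg xg5 yg44 zg4) (kg xg20 yg12 zg30) (kg xg18 yg25 zg22) (kg xg20 yg14 zg30) (kg xg5 yg44 zg46) (kg xg5 yg44 zg5) (kg xg6 yg42 zg60) (kg xg5 yg44 zg50) (kg xg5 yg44 zg6) (kg xg20 yg14 zg43) (kg xg5 yg44 zg48) (kg xg20 yg13 zg23) (kg xg20 yg14 zg50) (kg xg11 yg46 zg61) (kg xg16 yg56 zg27) (kg xg11 yg16 zg47) (kg xg20 yg14 zg3) (kg xg20 yg12 zg44) (kg xg13 yg54 zg15) (kg xg6 yg30 zg54) (kg xg5 yg44 zg12) (kg xg20 yg14 zg59) (kg xg12 yg12 zg38) (kg xg20 yg12 zg34) (kg xg16 yg48 zg42) (kg xg5 yg44 zg53) (kg xg16 yg49 zg42) (kg xg5 yg44 zg24) (kg xg5 yg44 zg16) (kg xg20 yg14 zg10) (kg xg5 yg44 zg17) (kg xg20 yg15 zg14) (kg xg20 yg14 zg8) (kg xg11 yg23 zg57) (kg xg15 yg29 zg58) (kg xg5 yg44 zg59) (kg xg5 yg44 zg32) (kg xg11 yg10 zg17) (kg xg18 yg39 zg34) (kg xg8 yg58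 zg25) (kg xg20 yg15 zg24) (kg xg8 yg58 zg22) (kg xg15 yg49 zg38) (kg xg5 yg44 zg23) (kg xg20 yg14 zg5) (kg xg12 yg47 zg38) (kg xg20 yg15 zg34) (kg xg12 yg36 zg17) (kg xg5 yg44 zg25) (kg xg11 yg37 zg34) (kg xg5 yg44 zg36) (kg xg20 yg14 zg53) (kg xg11 yg40 zg41) (kg xg17 yg59 zg41)) (@D3.rec (fun _ => Pt) (kg xg5 yg44 zg29) (kg xg20 yg14 zg15) (kg xg19 yg34 zg21) (kg xg14 yg57 zg3) (kg xg20 yg15 zg17) (kg xg20 yg15 zg48) (kg xg5 yg44 zg35) (kg xg20 yg9 zg60) (kg xg20 yg14 zg11) (kg xg11 yg15 zg1) (kg xg12 yg59 zg48) (kg xg11 yg23 zg52) (kg xg18 yg43 zg53) (kg xg20 yg5 zg40) (kg xg20 yg15 zg55) (kg xg12 yg35 zg0) (kg xg16 yg54 zg19) (kg xg12 yg59 zg46) (kg xg19 yg34 zg19) (kg xg16 yg7 zg27) (kg xg16 yg47 zg42) (kg xg16 yg45 zg5) (kg xg8 yg35 zg56) (kg xg20 yg16 zg0) (kg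 xg15 yg27 zg17) (kg xg15 yg45 zg24) (kg xg17 yg29 zg38) (kg xg20 yg16 zg2) (kg xg5 yg44 zg41) (kg xg19 yg10 zg53) (kg xg20 yg16 zg1) (kg xg8 yg41 zg26) (kg xg20 yg16 zg19) (kg xg20 yg16 zg21) (kg xg20 yg16 zg23) (kg xg16 yg5 zg40) (kg xg12 yg13 zg43) (kg xg20 yg16 zg28) (kg xg12 yg17 zg58) (kg xg20 yg16 zg31) (kg xg20 yg16 zg35) (kg xg20 yg16 zg39) (kg xg20 yg15 zg40) (kg xg20 yg15 zg54) (kg xg16 yg49 zg39) (kg xg20 yg16 zg40) (kg xg20 yg16 zg48) (kg xg20 yg14 zg46) (kg xg5 yg44 zg49) (kg xg20 yg16 zg55) (kg xg20 yg14 zg44) (kg xg20 yg12 zg32) (kg xg20 yg12 zg33) (kg xg5 yg44 zg51) (kg xg12 yg25 zg57) (kg xg20 yg7 zg10) (kg xg20 yg7 zg11) (kg xg9 yg46 zg8) (kg xg20 yg17 zg3) (kg xg13 yg0 zg55) (kg xg5 yg44 zg57) (kg xg17 yg42 zg1)) (@D3.rec (fun _ => Pt) (kg xg20 yg17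 zg9) (kg xg20 yg15 zg38) (kg xg5 yg44 zg58) (kg xg20 yg17 zg15) (kg xg5 yg58 zg27) (kg xg5 yg44 zg55) (kg xg5 yg57 zg56) (kg xg20 yg14 zg52) (kg xg5 yg44 zg56) (kg xg11 yg11 zg19) (kg xg11 yg7 zg43) (kg xg20 yg17 zg23) (kg xg8 yg50 zg7) (kg xg20 yg15 zg30) (kg xg20 yg17 zg10) (kg xg14 yg46 zg37) (kg xg20 yg17 zg16) (kg xg20 yg14 zg56) (kg xg11 yg14 zg44) (kg xg16 yg56 zg19) (kg xg20 yg4 zg49) (kg xg20 yg15 zg1) (kg xg19 yg32 zg19) (kg xg20 yg14 zg13) (kg xg11 yg11 zg17) (kg xg20 yg14 zg2) (kg xg20 yg17 zg41) (kg xg19 yg53 zg15) (kg xg17 yg31 zg58) (kg xg5 yg45 zg1) (kg xg20 yg17 zg51) (kg xg5 yg58 zg48) (kg xg9 yg48 zg42) (kg xg12 yg18 zg28) (kg xg9 yg6 zg58) (kg xg5 yg58 zg46) (kg xg9 yg48 zg40) (kg xg14 yg4 zg29) (kg xg5 yg57 zg30) (kg xg5 yg45 zg6) (kg xg19 yg26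 zg15) (kg xg17 yg58 zg23) (kg xg20 yg18 zg11) (kg xg11 yg13 zg61) (kg xg20 yg18 zg15) (kg xg5 yg45 zg16) (kg xg5 yg45 zg8) (kg xg5 yg45 zg14) (kg xg20 yg7 zg35) (kg xg20 yg18 zg21) (kg xg5 yg45 zg51) (kg xg16 yg56 zg21) (kg xg5 yg45 zg11) (kg xg20 yg18 zg27) (kg xg20 yg18 zg31) (kg xg7 yg59 zg58) (kg xg5 yg45 zg12) (kg xg20 yg18 zg41) (kg xg20 yg18 zg16) (kg xg17 yg2 zg49) (kg xg7 yg57 zg5) (kg xg12 yg54 zg3)) (@D3.rec (fun _ => Pt) (kg xg16 yg57 zg4) (kg xg7 yg59 zg34) (kg xg17 yg2 zg25) (kg xg10 yg53 zg8) (kg xg18 yg39 zg38) (kg xg10 yg41 zg30) (kg xg16 yg55 zg12) (kg xg12 yg54 zg47) (kg xg16 yg54 zg45) (kg xg6 yg26 zg4) (kg xg5 yg46 zg13) (kg xg17 yg1 zg0) (kg xg11 yg16 zg1) (kg xg9 yg25 zg11) (kg xg5 yg45 zg31) (kg xg5 yg45 zg23) (kg xg5 yg45 zg29) (kg xg16 yg56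 zg55) (kg xg20 yg18 zg61) (kg xg16 yg57 zg13) (kg xg16 yg56 zg0) (kg xg5 yg45 zg26) (kg xg20 yg19 zg5) (kg xg17 yg11 zg54) (kg xg5 yg45 zg27) (kg xg9 yg23 zg8) (kg xg11 yg59 zg20) (kg xg17 yg19 zg2) (kg xg11 yg28 zg37) (kg xg19 yg59 zg3) (kg xg11 yg44 zg11) (kg xg12 yg3 zg31) (kg xg16 yg54 zg32) (kg xg14 yg11 zg60) (kg xg11 yg38 zg24) (kg xg10 yg3 zg53) (kg xg5 yg45 zg37) (kg xg5 yg45 zg35) (kg xg20 yg19 zg18) (kg xg10 yg52 zg41) (kg xg11 yg37 zg51) (kg xg20 yg19 zg19) (kg xg5 yg45 zg42) (kg xg15 yg49 zg52) (kg xg5 yg45 zg40) (kg xg20 yg19 zg27) (kg xg20 yg19 zg29) (kg xg19 yg53 zg2) (kg xg20 yg19 zg17) (kg xg19 yg59 zg17) (kg xg5 yg45 zg41) (kg xg15 yg59 zg6) (kg xg7 yg30 zg41) (kg xg12 yg32 zg23) (kg xg12 yg32 zg8) (kg xg11 yg17 zg32) (kg xg5 yg45 zg44) (kg xg10 yg58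 zg35) (kg xg5 yg45 zg46) (kg xg16 yg47 zg48) (kg xg19 yg52 zg53) (kg xg20 yg19 zg40)) (@D3.rec (fun _ => Pt) (kg xg18 yg50 zg6) (kg xg17 yg56 zg8) (kg xg13 yg38 zg33) (kg xg11 yg49 zg47) (kg xg16 yg57 zg3) (kg xg20 yg19 zg45) (kg xg14 yg43 zg12) (kg xg11 yg37 zg33) (kg xg12 yg9 zg20) (kg xg10 yg18 zg36) (kg xg5 yg45 zg53) (kg xg18 yg26 zg3) (kg xg9 yg44 zg24) (kg xg16 yg57 zg12) (kg xg16 yg57 zg11) (kg xg18 yg25 zg57) (kg xg12 yg11 zg1) (kg xg5 yg45 zg57) (kg xg10 yg55 zg26) (kg xg6 yg11 zg54) (kg xg5 yg52 zg8) (kg xg20 yg10 zg16) (kg xg16 yg56 zg8) (kg xg5 yg56 zg56) (kg xg16 yg54 zg2) (kg xg5 yg46 zg3) (kg xg19 yg34 zg25) (kg xg17 yg24 zg52) (kg xg20 yg20 zg13) (kg xg16 yg56 zg56) (kg xg5 yg46 zg4) (kg xg20 yg20 zg19) (kg xg5 yg46 zg5) (kg xg11 yg21 zg8) (kg xg16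 yg52 zg34) (kg xg5 yg46 zg6) (kg xg16 yg45 zg7) (kg xg9 yg2 zg15) (kg xg20 yg18 zg20) (kg xg19 yg58 zg45) (kg xg20 yg18 zg18) (kg xg19 yg39 zg58) (kg xg7 yg59 zg46) (kg xg5 yg46 zg16) (kg xg5 yg46 zg12) (kg xg20 yg6 zg50) (kg xg17 yg8 zg36) (kg xg16 yg56 zg6) (kg xg20 yg12 zg12) (kg xg16 yg45 zg4) (kg xg17 yg29 zg47) (kg xg17 yg33 zg1) (kg xg12 yg56 zg29) (kg xg5 yg53 zg21) (kg xg9 yg46 zg53) (kg xg17 yg3 zg33) (kg xg6 yg46 zg14) (kg xg5 yg46 zg20) (kg xg20 yg20 zg40) (kg xg6 yg3 zg61) (kg xg5 yg46 zg21) (kg xg6 yg3 zg60)) (@D3.rec (fun _ => Pt) (kg xg5 yg46 zg22) (kg xg7 yg19 zg4) (kg xg7 yg26 zg44) (kg xg8 yg52 zg24) (kg xg20 yg20 zg49) (kg xg20 yg20 zg48) (kg xg5 yg46 zg27) (kg xg18 yg41 zg8) (kg xg20 yg20 zg47) (kg xg19 yg59 zg37) (kg xg11 yg39 zg34) (kg xg9 yg45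 zg4) (kg xg11 yg15 zg19) (kg xg8 yg44 zg23) (kg xg12 yg7 zg17) (kg xg17 yg46 zg29) (kg xg8 yg48 zg35) (kg xg6 yg40 zg30) (kg xg17 yg46 zg33) (kg xg16 yg31 zg53) (kg xg12 yg7 zg12) (kg xg5 yg46 zg34) (kg xg10 yg10 zg52) (kg xg12 yg7 zg10) (kg xg15 yg5 zg48) (kg xg20 yg21 zg7) (kg xg5 yg46 zg38) (kg xg13 yg30 zg57) (kg xg15 yg5 zg45) (kg xg20 yg21 zg12) (kg xg12 yg6 zg42) (kg xg20 yg21 zg17) (kg xg12 yg6 zg11) (kg xg8 yg45 zg33) (kg xg10 yg30 zg3) (kg xg11 yg23 zg38) (kg xg5 yg46 zg42) (kg xg20 yg21 zg22) (kg xg11 yg23 zg36) (kg xg8 yg43 zg50) (kg xg20 yg21 zg29) (kg xg16 yg20 zg60) (kg xg20 yg21 zg33) (kg xg13 yg29 zg23) (kg xg16 yg21 zg0) (kg xg16 yg20 zg26) (kg xg18 yg2 zg11) (kg xg11 yg7 zg13) (kg xg9 yg2 zg3) (kg xg5 yg46 zg50) (kg xg20 yg21 zg43) (kg xg20 yg10 zg4)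 (kg xg5 yg46 zg51) (kg xg11 yg59 zg15) (kg xg7 yg56 zg24) (kg xg7 yg59 zg31) (kg xg14 yg29 zg50) (kg xg11 yg18 zg44) (kg xg11 yg11 zg11) (kg xg5 yg46 zg55) (kg xg11 yg36 zg1) (kg xg20 yg9 zg58)) (@D3.rec (fun _ => Pt) (kg xg12 yg46 zg19) (kg xg11 yg14 zg54) (kg xg5 yg46 zg57) (kg xg11 yg15 zg4) (kg xg20 yg21 zg52) (kg xg5 yg46 zg58) (kg xg20 yg21 zg53) (kg xg20 yg21 zg57) (kg xg12 yg56 zg17) (kg xg9 yg17 zg30) (kg xg5 yg46 zg60) (kg xg6 yg16 zg48) (kg xg12 yg12 zg35) (kg xg17 yg12 zg14) (kg xg5 yg47 zg8) (kg xg5 yg47 zg1) (kg xg20 yg0 zg16) (kg xg5 yg47 zg6) (kg xg19 yg52 zg52) (kg xg20 yg22 zg0) (kg xg5 yg47 zg4) (kg xg20 yg12 zg39) (kg xg20 yg21 zg61) (kg xg11 yg29 zg59) (kg xg20 yg22 zg12) (kg xg20 yg22 zg14) (kg xg9 yg48 zg36) (kg xg9 yg48 zg12) (kg xg9 yg47 zg49)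 (kg xg12 yg4 zg24) (kg xg11 yg30 zg60) (kg xg20 yg22 zg3) (kg xg5 yg47 zg7) (kg xg18 yg1 zg40) (kg xg20 yg13 zg49) (kg xg11 yg12 zg12) (kg xg20 yg22 zg18) (kg xg20 yg5 zg35) (kg xg5 yg47 zg14) (kg xg16 yg28 zg28) (kg xg13 yg38 zg38) (kg xg6 yg16 zg36) (kg xg16 yg53 zg13) (kg xg20 yg22 zg25) (kg xg12 yg13 zg52) (kg xg10 yg7 zg17) (kg xg5 yg47 zg36) (kg xg5 yg47 zg21) (kg xg5 yg47 zg35) (kg xg11 yg28 zg29) (kg xg20 yg19 zg52) (kg xg5 yg47 zg25) (kg xg20 yg22 zg26) (kg xg19 yg32 zg36) (kg xg11 yg30 zg16) (kg xg12 yg53 zg34) (kg xg11 yg48 zg11) (kg xg11 yg31 zg48) (kg xg5 yg52 zg7) (kg xg10 yg5 zg2) (kg xg19 yg33 zg47) (kg xg11 yg31 zg17)) (@D3.rec (fun _ => Pt) (kg xg8 yg12 zg7) (kg xg9 yg23 zg44) (kg xg11 yg31 zg0) (kg xg11 yg29 zg42) (kg xg17 yg15 zg46) (kg xg17 yg13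 zg19) (kg xg11 yg31 zg54) (kg xg11 yg30 zg8) (kg xg20 yg22 zg39) (kg xg10 yg17 zg20) (kg xg5 yg48 zg26) (kg xg5 yg47 zg43) (kg xg5 yg48 zg45) (kg xg20 yg22 zg42) (kg xg9 yg6 zg27) (kg xg20 yg22 zg43) (kg xg5 yg47 zg46) (kg xg11 yg30 zg47) (kg xg11 yg17 zg27) (kg xg12 yg9 zg4) (kg xg12 yg9 zg2) (kg xg11 yg30 zg10) (kg xg11 yg26 zg36) (kg xg9 yg6 zg34) (kg xg18 yg24 zg4) (kg xg11 yg30 zg37) (kg xg8 yg14 zg51) (kg xg17 yg3 zg53) (kg xg20 yg22 zg51) (kg xg5 yg47 zg56) (kg xg20 yg22 zg57) (kg xg20 yg22 zg49) (kg xg5 yg47 zg59) (kg xg16 yg57 zg38) (kg xg5 yg47 zg60) (kg xg20 yg23 zg0) (kg xg6 yg8 zg47) (kg xg11 yg29 zg50) (kg xg5 yg48 zg1) (kg xg20 yg23 zg6) (kg xg11 yg29 zg48) (kg xg7 yg42 zg4) (kg xg20 yg2 zg7) (kg xg20 yg23 zg13) (kg xg12 yg28 zg25) (kg xg8 yg14 zg59)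 (kg xg5 yg48 zg5) (kg xg20 yg23 zg17) (kg xg12 yg15 zg10) (kg xg11 yg48 zg15) (kg xg5 yg48 zg7) (kg xg20 yg23 zg22) (kg xg5 yg48 zg23) (kg xg14 yg30 zg42) (kg xg12 yg25 zg7) (kg xg6 yg51 zg0) (kg xg7 yg59 zg3) (kg xg5 yg48 zg37) (kg xg5 yg48 zg10) (kg xg5 yg48 zg35) (kg xg12 yg10 zg55) (kg xg14 yg1 zg55)) (@D3.rec (fun _ => Pt) (kg xg17 yg23 zg60) (kg xg12 yg54 zg49) (kg xg5 yg48 zg15) (kg xg11 yg47 zg10) (kg xg10 yg36 zg39) (kg xg6 yg49 zg32) (kg xg7 yg34 zg21) (kg xg15 yg30 zg31) (kg xg9 yg43 zg16) (kg xg20 yg23 zg40) (kg xg20 yg23 zg42) (kg xg20 yg23 zg44) (kg xg5 yg59 zg32) (kg xg20 yg23 zg45) (kg xg19 yg13 zg55) (kg xg5 yg48 zg24) (kg xg20 yg23 zg56) (kg xg20 yg23 zg23) (kg xg17 yg59 zg27) (kg xg20 yg22 zg41) (kg xg9 yg12 zg61) (kg xg20 yg24 zg2) (kg xg5 yg48 zg31)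 (kg xg20 yg24 zg4) (kg xg11 yg47 zg13) (kg xg5 yg48 zg32) (kg xg5 yg48 zg28) (kg xg20 yg24 zg10) (kg xg9 yg46 zg30) (kg xg19 yg34 zg20) (kg xg18 yg16 zg52) (kg xg13 yg19 zg13) (kg xg20 yg24 zg5) (kg xg17 yg20 zg2) (kg xg20 yg24 zg11) (kg xg20 yg19 zg59) (kg xg6 yg12 zg40) (kg xg20 yg23 zg61) (kg xg20 yg24 zg30) (kg xg8 yg14 zg39) (kg xg19 yg33 zg11) (kg xg17 yg5 zg23) (kg xg20 yg24 zg31) (kg xg11 yg29 zg55) (kg xg14 yg48 zg56) (kg xg5 yg48 zg36) (kg xg20 yg24 zg43) (kg xg14 yg48 zg54) (kg xg12 yg11 zg0) (kg xg20 yg12 zg20) (kg xg5 yg48 zg40) (kg xg20 yg23 zg29) (kg xg14 yg2 zg6) (kg xg19 yg49 zg23) (kg xg11 yg51 zg59) (kg xg9 yg17 zg58) (kg xg19 yg33 zg57) (kg xg5 yg48 zg46) (kg xg13 yg55 zg32) (kg xg20 yg24 zg53) (kg xg18 yg24 zg27) (kg xg5 yg48 zg47)) (@D3.rec (fun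 _ => Pt) (kg xg11 yg49 zg59) (kg xg7 yg2 zg19) (kg xg13 yg57 zg28) (kg xg20 yg24 zg60) (kg xg12 yg25 zg35) (kg xg5 yg48 zg50) (kg xg19 yg53 zg9) (kg xg6 yg2 zg5) (kg xg12 yg9 zg50) (kg xg5 yg49 zg0) (kg xg12 yg25 zg5) (kg xg5 yg48 zg55) (kg xg19 yg27 zg43) (kg xg12 yg25 zg3) (kg xg5 yg48 zg56) (kg xg20 yg25 zg16) (kg xg10 yg5 zg10) (kg xg5 yg48 zg57) (kg xg12 yg9 zg52) (kg xg19 yg33 zg19) (kg xg9 yg17 zg24) (kg xg20 yg25 zg19) (kg xg18 yg43 zg48) (kg xg6 yg51 zg4) (kg xg12 yg10 zg29) (kg xg8 yg49 zg43) (kg xg20 yg25 zg25) (kg xg8 yg2 zg12) (kg xg14 yg8 zg10) (kg xg5 yg49 zg50) (kg xg12 yg25 zg40) (kg xg6 yg16 zg34) (kg xg16 yg57 zg29) (kg xg6 yg13 zg24) (kg xg6 yg16 zg29) (kg xg20 yg25 zg8) (kg xg11 yg12 zg50) (kg xg5 yg49 zg15) (kg xg7 yg39 zg37) (kg xg5 yg49 zg16)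 (kg xg9 yg44 zg46) (kg xg6 yg16 zg23) (kg xg5 yg49 zg19) (kg xg18 yg2 zg24) (kg xg6 yg32 zg8) (kg xg12 yg22 zg28) (kg xg6 yg32 zg6) (kg xg5 yg52 zg22) (kg xg11 yg50 zg27) (kg xg19 yg32 zg35) (kg xg11 yg50 zg28) (kg xg5 yg49 zg29) (kg xg12 yg10 zg37) (kg xg12 yg10 zg36) (kg xg8 yg49 zg54) (kg xg14 yg15 zg56) (kg xg17 yg3 zg10) (kg xg9 yg46 zg46) (kg xg17 yg59 zg56) (kg xg12 yg10 zg52) (kg xg9 yg18 zg4) (kg xg13 yg39 zg27)) (@D3.rec (fun _ => Pt) (kg xg7 yg8 zg44) (kg xg7 yg8 zg45) (kg xg15 yg0 zg13) (kg xg6 yg16 zg13) (kg xg11 yg16 zg20) (kg xg17 yg7 zg34) (kg xg11 yg16 zg18) (kg xg5 yg49 zg43) (kg xg5 yg57 zg57) (kg xg11 yg1 zg7) (kg xg20 yg25 zg49) (kg xg9 yg4 zg58) (kg xg6 yg16 zg33) (kg xg17 yg13 zg10) (kg xg8 yg48 zg58) (kg xg16 yg43 zg53) (kg xg8 yg59 zg22) (kg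 xg5 yg49 zg51) (kg xg8 yg59 zg58) (kg xg6 yg16 zg22) (kg xg9 yg48 zg7) (kg xg9 yg4 zg49) (kg xg11 yg1 zg55) (kg xg17 yg8 zg61) (kg xg20 yg22 zg53) (kg xg20 yg25 zg56) (kg xg5 yg49 zg61) (kg xg11 yg28 zg56) (kg xg11 yg31 zg11) (kg xg11 yg24 zg58) (kg xg11 yg30 zg44) (kg xg13 yg6 zg36) (kg xg17 yg12 zg10) (kg xg20 yg25 zg58) (kg xg5 yg50 zg5) (kg xg13 yg58 zg44) (kg xg11 yg31 zg18) (kg xg6 yg49 zg28) (kg xg20 yg26 zg1) (kg xg6 yg8 zg27) (kg xg5 yg50 zg7) (kg xg5 yg50 zg54) (kg xg8 yg0 zg39) (kg xg11 yg27 zg8) (kg xg8 yg49 zg25) (kg xg5 yg50 zg15) (kg xg19 yg42 zg55) (kg xg20 yg26 zg4) (kg xg18 yg1 zg41) (kg xg20 yg26 zg6) (kg xg16 yg49 zg6) (kg xg6 yg8 zg55) (kg xg12 yg17 zg30) (kg xg12 yg9 zg45) (kg xg6 yg51 zg13) (kg xg12 yg17 zg31) (kg xg11 yg28 zg24) (kg xg5 yg54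 zg28) (kg xg5 yg50 zg30) (kg xg17 yg16 zg38) (kg xg5 yg50 zg31) (kg xg11 yg31 zg30)) (@D3.rec (fun _ => Pt) (kg xg20 yg26 zg14) (kg xg14 yg11 zg27) (kg xg12 yg17 zg5) (kg xg5 yg50 zg35) (kg xg11 yg2 zg2) (kg xg6 yg28 zg7) (kg xg10 yg0 zg12) (kg xg5 yg50 zg41) (kg xg11 yg38 zg26) (kg xg11 yg41 zg52) (kg xg5 yg50 zg43) (kg xg9 yg10 zg25) (kg xg16 yg31 zg51) (kg xg8 yg48 zg14) (kg xg20 yg26 zg21) (kg xg13 yg54 zg45) (kg xg12 yg23 zg53) (kg xg5 yg50 zg52) (kg xg12 yg23 zg52) (kg xg8 yg49 zg55) (kg xg5 yg50 zg53) (kg xg20 yg26 zg27) (kg xg9 yg15 zg18) (kg xg10 yg49 zg11) (kg xg16 yg58 zg42) (kg xg16 yg29 zg60) (kg xg16 yg29 zg59) (kg xg5 yg50 zg59) (kg xg9 yg14 zg19) (kg xg9 yg30 zg50) (kg xg11 yg12 zg53) (kg xg11 yg8 zg14) (kg xg16 yg51 zg33) (kg xg5 yg51 zg0) (kg xg20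 yg26 zg40) (kg xg20 yg26 zg43) (kg xg15 yg6 zg16) (kg xg13 yg20 zg45) (kg xg9 yg24 zg31) (kg xg6 yg12 zg41) (kg xg11 yg24 zg54) (kg xg13 yg1 zg30) (kg xg20 yg26 zg46) (kg xg20 yg26 zg47) (kg xg5 yg51 zg8) (kg xg11 yg25 zg3) (kg xg5 yg51 zg26) (kg xg11 yg25 zg40) (kg xg5 yg51 zg10) (kg xg20 yg26 zg57) (kg xg11 yg25 zg38) (kg xg14 yg30 zg55) (kg xg11 yg30 zg22) (kg xg5 yg51 zg21) (kg xg20 yg26 zg61) (kg xg11 yg26 zg39) (kg xg7 yg41 zg11) (kg xg17 yg57 zg47) (kg xg5 yg51 zg15) (kg xg17 yg57 zg45) (kg xg10 yg0 zg26) (kg xg7 yg42 zg13)) (@D3.rec (fun _ => Pt) (kg xg5 yg51 zg17) (kg xg20 yg27 zg13) (kg xg7 yg42 zg11) (kg xg5 yg51 zg22) (kg xg12 yg58 zg5) (kg xg9 yg5 zg61) (kg xg14 yg17 zg49) (kg xg20 yg27 zg19) (kg xg11 yg25 zg41) (kg xg9 yg27 zg43) (kg xg6 yg12 zg36) (kg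 xg6 yg52 zg9) (kg xg13 yg5 zg28) (kg xg5 yg51 zg24) (kg xg13 yg5 zg26) (kg xg12 yg27 zg40) (kg xg6 yg51 zg55) (kg xg20 yg27 zg29) (kg xg5 yg51 zg30) (kg xg20 yg27 zg12) (kg xg5 yg51 zg31) (kg xg5 yg51 zg27) (kg xg11 yg29 zg54) (kg xg5 yg51 zg28) (kg xg10 yg42 zg40) (kg xg9 yg9 zg22) (kg xg13 yg1 zg32) (kg xg19 yg24 zg23) (kg xg16 yg55 zg5) (kg xg20 yg27 zg33) (kg xg14 yg12 zg31) (kg xg12 yg29 zg30) (kg xg20 yg27 zg37) (kg xg17 yg57 zg60) (kg xg5 yg51 zg35) (kg xg20 yg27 zg45) (kg xg17 yg57 zg58) (kg xg11 yg25 zg31) (kg xg11 yg29 zg6) (kg xg11 yg27 zg22) (kg xg10 yg4 zg0) (kg xg12 yg29 zg8) (kg xg5 yg51 zg48) (kg xg20 yg27 zg48) (kg xg11 yg28 zg35) (kg xg18 yg43 zg10) (kg xg12 yg30 zg4) (kg xg11 yg25 zg13) (kg xg12 yg24 zg3) (kg xg11 yg28 zg47) (kg xg18 yg23 zg41) (kg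 xg5 yg51 zg47) (kg xg18 yg23 zg51) (kg xg13 yg2 zg14) (kg xg20 yg27 zg56) (kg xg8 yg0 zg37) (kg xg5 yg51 zg51) (kg xg18 yg23 zg32) (kg xg17 yg58 zg12) (kg xg5 yg51 zg52) (kg xg17 yg56 zg6) (kg xg8 yg14 zg57)) (@D3.rec (fun _ => Pt) (kg xg20 yg27 zg59) (kg xg19 yg27 zg40) (kg xg5 yg51 zg60) (kg xg11 yg25 zg2) (kg xg17 yg18 zg8) (kg xg12 yg25 zg8) (kg xg5 yg52 zg20) (kg xg11 yg58 zg22) (kg xg17 yg58 zg27) (kg xg5 yg52 zg6) (kg xg11 yg24 zg27) (kg xg8 yg0 zg3) (kg xg8 yg12 zg54) (kg xg9 yg46 zg39) (kg xg5 yg52 zg30) (kg xg17 yg57 zg56) (kg xg5 yg52 zg11) (kg xg17 yg57 zg55) (kg xg6 yg31 zg20) (kg xg18 yg26 zg5) (kg xg6 yg38 zg57) (kg xg10 yg55 zg29) (kg xg18 yg25 zg47) (kg xg20 yg26 zg9) (kg xg8 yg0 zg16) (kg xg20 yg28 zg7) (kg xg20 yg16 zg37) (kg xg16 yg56 zg50) (kg xg18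 yg38 zg22) (kg xg8 yg0 zg58) (kg xg6 yg12 zg29) (kg xg14 yg19 zg61) (kg xg11 yg50 zg50) (kg xg10 yg49 zg2) (kg xg17 yg56 zg21) (kg xg9 yg14 zg15) (kg xg12 yg18 zg26) (kg xg5 yg52 zg33) (kg xg17 yg8 zg37) (kg xg9 yg9 zg3) (kg xg10 yg52 zg51) (kg xg19 yg13 zg1) (kg xg9 yg31 zg40) (kg xg20 yg28 zg17) (kg xg20 yg28 zg19) (kg xg11 yg51 zg31) (kg xg11 yg31 zg24) (kg xg10 yg43 zg24) (kg xg12 yg29 zg54) (kg xg11 yg25 zg6) (kg xg12 yg29 zg55) (kg xg19 yg27 zg44) (kg xg20 yg28 zg28) (kg xg5 yg52 zg45) (kg xg20 yg25 zg13) (kg xg5 yg52 zg48) (kg xg20 yg15 zg7) (kg xg18 yg1 zg1) (kg xg9 yg49 zg2) (kg xg11 yg24 zg26) (kg xg10 yg43 zg28) (kg xg20 yg28 zg36)) (@D3.rec (fun _ => Pt) (kg xg11 yg47 zg35) (kg xg12 yg10 zg3) (kg xg12 yg10 zg8) (kg xg19 yg53 zg37) (kg xg11 yg33 zg15) (kg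 xg5 yg52 zg58) (kg xg20 yg28 zg46) (kg xg16 yg33 zg45) (kg xg16 yg52 zg49) (kg xg19 yg43 zg0) (kg xg11 yg37 zg61) (kg xg5 yg53 zg40) (kg xg5 yg52 zg61) (kg xg11 yg50 zg37) (kg xg11 yg47 zg34) (kg xg20 yg28 zg59) (kg xg11 yg55 zg41) (kg xg8 yg56 zg56) (kg xg5 yg53 zg5) (kg xg11 yg44 zg49) (kg xg8 yg56 zg50) (kg xg5 yg53 zg6) (kg xg20 yg18 zg1) (kg xg5 yg59 zg16) (kg xg20 yg29 zg13) (kg xg16 yg59 zg19) (kg xg9 yg46 zg25) (kg xg18 yg25 zg53) (kg xg5 yg53 zg26) (kg xg9 yg47 zg21) (kg xg17 yg59 zg4) (kg xg20 yg29 zg20) (kg xg11 yg1 zg26) (kg xg5 yg55 zg41) (kg xg5 yg53 zg15) (kg xg20 yg29 zg28) (kg xg16 yg28 zg21) (kg xg8 yg47 zg29) (kg xg20 yg29 zg34) (kg xg5 yg53 zg17) (kg xg20 yg29 zg39) (kg xg16 yg27 zg45) (kg xg5 yg53 zg18) (kg xg16 yg27 zg44) (kg xg11 yg29 zg28) (kg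 xg5 yg55 zg46) (kg xg5 yg53 zg20) (kg xg15 yg53 zg28) (kg xg7 yg51 zg36) (kg xg20 yg29 zg51) (kg xg10 yg44 zg53) (kg xg6 yg6 zg43) (kg xg10 yg48 zg13) (kg xg9 yg38 zg58) (kg xg10 yg45 zg29) (kg xg10 yg45 zg13) (kg xg6 yg14 zg33) (kg xg11 yg7 zg41) (kg xg17 yg2 zg56) (kg xg9 yg8 zg23) (kg xg16 yg24 zg45) (kg xg9 yg8 zg25)) (@D3.rec (fun _ => Pt) (kg xg20 yg6 zg19) (kg xg9 yg22 zg38) (kg xg20 yg30 zg8) (kg xg17 yg0 zg28) (kg xg5 yg53 zg32) (kg xg20 yg30 zg16) (kg xg17 yg0 zg26) (kg xg15 yg4 zg51) (kg xg5 yg53 zg33) (kg xg7 yg14 zg41) (kg xg6 yg45 zg39) (kg xg5 yg53 zg35) (kg xg11 yg56 zg4) (kg xg8 yg48 zg42) (kg xg20 yg30 zg25) (kg xg9 yg6 zg60) (kg xg20 yg30 zg30) (kg xg20 yg30 zg33) (kg xg20 yg28 zg43) (kg xg6 yg31 zg55) (kg xg15 yg8 zg11) (kg xg11 yg56 zg45) (kg xg11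 yg24 zg56) (kg xg15 yg5 zg3) (kg xg8 yg51 zg1) (kg xg17 yg0 zg21) (kg xg5 yg53 zg45) (kg xg15 yg8 zg14) (kg xg7 yg27 zg29) (kg xg12 yg30 zg59) (kg xg6 yg2 zg50) (kg xg8 yg48 zg19) (kg xg20 yg30 zg45) (kg xg18 yg40 zg43) (kg xg20 yg30 zg49) (kg xg19 yg21 zg12) (kg xg5 yg54 zg19) (kg xg5 yg53 zg52) (kg xg20 yg30 zg57) (kg xg5 yg54 zg17) (kg xg8 yg10 zg34) (kg xg20 yg30 zg61) (kg xg15 yg13 zg14) (kg xg7 yg36 zg15) (kg xg10 yg17 zg26) (kg xg15 yg26 zg24) (kg xg15 yg26 zg28) (kg xg17 yg26 zg46) (kg xg8 yg12 zg40) (kg xg8 yg12 zg38) (kg xg17 yg9 zg45) (kg xg20 yg31 zg11) (kg xg18 yg43 zg22) (kg xg11 yg1 zg29) (kg xg10 yg44 zg18) (kg xg5 yg54 zg7) (kg xg5 yg54 zg4) (kg xg20 yg31 zg17) (kg xg16 yg32 zg18) (kg xg20 yg31 zg23) (kg xg16 yg32 zg19) (kg xg8 yg47 zg47)) (@D3.rec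 (fun _ => Pt) (kg xg5 yg54 zg6) (kg xg20 yg31 zg28) (kg xg5 yg54 zg8) (kg xg7 yg57 zg28) (kg xg5 yg54 zg11) (kg xg5 yg54 zg9) (kg xg20 yg31 zg32) (kg xg12 yg7 zg25) (kg xg5 yg54 zg10) (kg xg20 yg31 zg43) (kg xg12 yg7 zg23) (kg xg7 yg25 zg53) (kg xg20 yg31 zg46) (kg xg5 yg54 zg12) (kg xg12 yg7 zg6) (kg xg20 yg31 zg37) (kg xg19 yg10 zg6) (kg xg20 yg30 zg52) (kg xg5 yg54 zg15) (kg xg19 yg16 zg24) (kg xg16 yg54 zg47) (kg xg11 yg7 zg24) (kg xg16 yg55 zg13) (kg xg20 yg32 zg0) (kg xg20 yg31 zg50) (kg xg12 yg23 zg47) (kg xg19 yg52 zg6) (kg xg20 yg32 zg1) (kg xg20 yg32 zg8) (kg xg20 yg30 zg60) (kg xg5 yg54 zg18) (kg xg20 yg32 zg17) (kg xg20 yg30 zg58) (kg xg15 yg30 zg41) (kg xg5 yg54 zg23) (kg xg20 yg32 zg25) (kg xg7 yg17 zg53) (kg xg20 yg32 zg26) (kg xg18 yg42 zg36) (kg xg8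 yg25 zg60) (kg xg15 yg23 zg47) (kg xg20 yg32 zg39) (kg xg15 yg23 zg44) (kg xg5 yg54 zg25) (kg xg20 yg32 zg46) (kg xg20 yg32 zg50) (kg xg20 yg31 zg0) (kg xg20 yg32 zg54) (kg xg12 yg53 zg14) (kg xg6 yg50 zg61) (kg xg5 yg54 zg45) (kg xg11 yg49 zg54) (kg xg11 yg49 zg43) (kg xg6 yg50 zg15) (kg xg14 yg20 zg4) (kg xg10 yg43 zg23) (kg xg5 yg54 zg36) (kg xg17 yg7 zg47) (kg xg5 yg54 zg38) (kg xg20 yg32 zg59) (kg xg6 yg12 zg11) (kg xg11 yg40 zg31)) (@D3.rec (fun _ => Pt) (kg xg6 yg20 zg10) (kg xg17 yg12 zg19) (kg xg17 yg21 zg5) (kg xg12 yg9 zg46) (kg xg18 yg23 zg20) (kg xg6 yg8 zg56) (kg xg6 yg49 zg19) (kg xg20 yg33 zg2) (kg xg12 yg1 zg9) (kg xg12 yg32 zg22) (kg xg12 yg9 zg29) (kg xg20 yg32 zg23) (kg xg20 yg33 zg10) (kg xg10 yg5 zg15) (kg xg7 yg36 zg4) (kg xg20 yg33 zg14) (kg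 xg20 yg33 zg17) (kg xg16 yg56 zg45) (kg xg19 yg48 zg36) (kg xg16 yg56 zg38) (kg xg12 yg10 zg51) (kg xg15 yg13 zg22) (kg xg18 yg40 zg37) (kg xg18 yg18 zg54) (kg xg20 yg33 zg28) (kg xg20 yg33 zg15) (kg xg20 yg33 zg32) (kg xg5 yg55 zg0) (kg xg9 yg13 zg22) (kg xg12 yg32 zg17) (kg xg5 yg55 zg4) (kg xg5 yg55 zg2) (kg xg13 yg20 zg51) (kg xg20 yg33 zg39) (kg xg20 yg33 zg41) (kg xg18 yg21 zg31) (kg xg18 yg21 zg32) (kg xg14 yg20 zg9) (kg xg20 yg33 zg48) (kg xg5 yg55 zg5) (kg xg10 yg17 zg19) (kg xg15 yg26 zg59) (kg xg20 yg33 zg45) (kg xg10 yg27 zg24) (kg xg5 yg55 zg7) (kg xg10 yg27 zg33) (kg xg20 yg33 zg57) (kg xg15 yg26 zg54) (kg xg5 yg55 zg8) (kg xg20 yg32 zg51) (kg xg18 yg52 zg5) (kg xg17 yg26 zg52) (kg xg19 yg20 zg42) (kg xg17 yg0 zg45) (kg xg5 yg55 zg10) (kg xg14 yg6 zg38)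 (kg xg18 yg43 zg51) (kg xg11 yg38 zg36) (kg xg11 yg48 zg54) (kg xg5 yg55 zg13) (kg xg9 yg15 zg16) (kg xg6 yg8 zg46)) (@D3.rec (fun _ => Pt) (kg xg5 yg55 zg21) (kg xg6 yg9 zg7) (kg xg12 yg31 zg5) (kg xg9 yg4 zg57) (kg xg6 yg34 zg23) (kg xg5 yg55 zg23) (kg xg14 yg29 zg18) (kg xg18 yg32 zg33) (kg xg17 yg10 zg34) (kg xg20 yg34 zg17) (kg xg14 yg18 zg61) (kg xg17 yg10 zg31) (kg xg18 yg22 zg34) (kg xg14 yg10 zg54) (kg xg10 yg15 zg32) (kg xg18 yg22 zg37) (kg xg6 yg24 zg27) (kg xg11 yg34 zg21) (kg xg8 yg45 zg42) (kg xg12 yg7 zg38) (kg xg17 yg13 zg15) (kg xg5 yg56 zg45) (kg xg20 yg34 zg32) (kg xg16 yg30 zg60) (kg xg16 yg30 zg61) (kg xg12 yg37 zg47) (kg xg12 yg37 zg49) (kg xg6 yg2 zg27) (kg xg5 yg55 zg43) (kg xg6 yg3 zg8) (kg xg20 yg34 zg41) (kg xg20 yg34 zg42) (kg xg16 yg59 zg24)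 (kg xg5 yg55 zg40) (kg xg20 yg34 zg49) (kg xg16 yg31 zg6) (kg xg14 yg27 zg18) (kg xg9 yg11 zg55) (kg xg18 yg49 zg49) (kg xg12 yg35 zg16) (kg xg6 yg45 zg12) (kg xg5 yg55 zg44) (kg xg20 yg16 zg3) (kg xg10 yg44 zg55) (kg xg20 yg10 zg34) (kg xg20 yg15 zg41) (kg xg5 yg56 zg20) (kg xg5 yg55 zg48) (kg xg20 yg8 zg43) (kg xg5 yg56 zg18) (kg xg8 yg0 zg4) (kg xg16 yg19 zg28) (kg xg5 yg56 zg28) (kg xg5 yg55 zg50) (kg xg20 yg35 zg11) (kg xg5 yg56 zg47) (kg xg5 yg56 zg48) (kg xg5 yg55 zg53) (kg xg12 yg1 zg16) (kg xg6 yg8 zg60) (kg xg12 yg23 zg17) (kg xg8 yg59 zg18)) (@D3.rec (fun _ => Pt) (kg xg5 yg56 zg60) (kg xg5 yg55 zg56) (kg xg20 yg35 zg26) (kg xg5 yg56 zg58) (kg xg18 yg1 zg44) (kg xg15 yg4 zg49) (kg xg5 yg57 zg12) (kg xg5 yg55 zg60) (kg xg20 yg35 zg38) (kg xg20 yg35 zg41) (kg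 xg6 yg13 zg51) (kg xg20 yg35 zg45) (kg xg11 yg46 zg14) (kg xg5 yg56 zg4) (kg xg5 yg56 zg1) (kg xg17 yg16 zg16) (kg xg15 yg8 zg39) (kg xg15 yg8 zg40) (kg xg7 yg57 zg17) (kg xg14 yg4 zg48) (kg xg6 yg33 zg56) (kg xg20 yg35 zg52) (kg xg16 yg23 zg56) (kg xg5 yg56 zg5) (kg xg20 yg35 zg55) (kg xg8 yg51 zg18) (kg xg16 yg20 zg34) (kg xg5 yg56 zg6) (kg xg20 yg35 zg59) (kg xg5 yg56 zg14) (kg xg5 yg56 zg10) (kg xg5 yg56 zg8) (kg xg7 yg57 zg10) (kg xg18 yg43 zg34) (kg xg11 yg18 zg0) (kg xg20 yg36 zg1) (kg xg10 yg1 zg59) (kg xg5 yg56 zg11) (kg xg15 yg10 zg54) (kg xg12 yg6 zg56) (kg xg17 yg0 zg12) (kg xg6 yg35 zg57) (kg xg8 yg48 zg10) (kg xg12 yg12 zg44) (kg xg20 yg15 zg53) (kg xg18 yg50 zg43) (kg xg20 yg14 zg17) (kg xg5 yg56 zg16) (kg xg8 yg30 zg48) (kg xg16 yg0 zg10) (kg xg20 yg36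 zg22) (kg xg20 yg36 zg23) (kg xg20 yg36 zg26) (kg xg20 yg36 zg8) (kg xg11 yg21 zg40) (kg xg20 yg36 zg27) (kg xg20 yg36 zg33) (kg xg20 yg35 zg5) (kg xg5 yg56 zg19) (kg xg20 yg36 zg41) (kg xg20 yg35 zg3) (kg xg9 yg50 zg43)) (@D3.rec (fun _ => Pt) (kg xg5 yg56 zg24) (kg xg20 yg36 zg48) (kg xg13 yg43 zg56) (kg xg11 yg32 zg10) (kg xg20 yg36 zg49) (kg xg19 yg0 zg59) (kg xg12 yg5 zg22) (kg xg20 yg37 zg0) (kg xg8 yg42 zg55) (kg xg20 yg37 zg5) (kg xg12 yg5 zg25) (kg xg20 yg37 zg1) (kg xg20 yg37 zg12) (kg xg17 yg6 zg51) (kg xg5 yg56 zg27) (kg xg20 yg37 zg20) (kg xg16 yg31 zg23) (kg xg20 yg35 zg12) (kg xg20 yg37 zg26) (kg xg5 yg56 zg50) (kg xg5 yg56 zg31) (kg xg18 yg25 zg34) (kg xg12 yg23 zg28) (kg xg12 yg39 zg23) (kg xg17 yg7 zg35) (kg xg11 yg29 zg8) (kg xg5 yg56 zg34) (kg xg11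 yg29 zg7) (kg xg6 yg38 zg53) (kg xg18 yg25 zg31) (kg xg16 yg23 zg60) (kg xg12 yg23 zg21) (kg xg5 yg56 zg37) (kg xg7 yg44 zg29) (kg xg12 yg23 zg19) (kg xg5 yg56 zg43) (kg xg12 yg17 zg21) (kg xg20 yg20 zg18) (kg xg5 yg56 zg39) (kg xg20 yg37 zg48) (kg xg6 yg8 zg28) (kg xg10 yg14 zg8) (kg xg20 yg37 zg52) (kg xg12 yg23 zg31) (kg xg12 yg14 zg22) (kg xg6 yg8 zg58) (kg xg20 yg37 zg57) (kg xg13 yg3 zg20) (kg xg20 yg38 zg1) (kg xg20 yg37 zg47) (kg xg6 yg34 zg16) (kg xg8 yg0 zg7) (kg xg18 yg21 zg2) (kg xg16 yg56 zg60) (kg xg10 yg53 zg19) (kg xg5 yg56 zg54) (kg xg12 yg2 zg21) (kg xg20 yg38 zg12) (kg xg20 yg37 zg43) (kg xg5 yg56 zg55) (kg xg20 yg38 zg20) (kg xg5 yg56 zg52)) (@D3.rec (fun _ => Pt) (kg xg9 yg12 zg51) (kg xg20 yg35 zg21) (kg xg20 yg17 zg50) (kg xg20 yg17 zg0) (kg xg18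 yg16 zg8) (kg xg20 yg38 zg13) (kg xg20 yg38 zg29) (kg xg20 yg38 zg21) (kg xg8 yg57 zg41) (kg xg20 yg38 zg34) (kg xg16 yg43 zg32) (kg xg6 yg1 zg30) (kg xg20 yg38 zg35) (kg xg20 yg35 zg30) (kg xg5 yg56 zg59) (kg xg20 yg38 zg44) (kg xg20 yg35 zg27) (kg xg11 yg49 zg38) (kg xg12 yg5 zg4) (kg xg16 yg19 zg40) (kg xg18 yg22 zg7) (kg xg20 yg38 zg54) (kg xg17 yg7 zg14) (kg xg20 yg38 zg60) (kg xg5 yg57 zg2) (kg xg10 yg44 zg28) (kg xg5 yg57 zg7) (kg xg5 yg57 zg3) (kg xg20 yg39 zg6) (kg xg20 yg39 zg11) (kg xg20 yg39 zg14) (kg xg11 yg23 zg10) (kg xg20 yg39 zg16) (kg xg20 yg39 zg12) (kg xg10 yg16 zg13) (kg xg20 yg39 zg20) (kg xg9 yg50 zg41) (kg xg20 yg39 zg25) (kg xg19 yg40 zg43) (kg xg20 yg39 zg29) (kg xg20 yg39 zg26) (kg xg17 yg6 zg54) (kg xg5 yg57 zg11) (kg xg17 yg7 zg15) (kg xg20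 yg39 zg40) (kg xg20 yg35 zg42) (kg xg20 yg39 zg44) (kg xg17 yg6 zg57) (kg xg5 yg57 zg13) (kg xg5 yg59 zg8) (kg xg6 yg51 zg34) (kg xg6 yg8 zg50) (kg xg20 yg39 zg52) (kg xg20 yg39 zg56) (kg xg11 yg44 zg30) (kg xg5 yg57 zg17) (kg xg17 yg32 zg40) (kg xg5 yg57 zg20) (kg xg20 yg39 zg61) (kg xg17 yg6 zg11) (kg xg8 yg58 zg43) (kg xg14 yg38 zg29)) (@D3.rec (fun _ => Pt) (kg xg5 yg59 zg10) (kg xg20 yg40 zg4) (kg xg13 yg22 zg9) (kg xg15 yg22 zg33) (kg xg19 yg19 zg49) (kg xg12 yg31 zg16) (kg xg16 yg59 zg13) (kg xg20 yg40 zg10) (kg xg17 yg59 zg6) (kg xg6 yg8 zg44) (kg xg5 yg57 zg36) (kg xg5 yg59 zg31) (kg xg5 yg57 zg37) (kg xg11 yg20 zg6) (kg xg11 yg42 zg7) (kg xg5 yg57 zg38) (kg xg11 yg42 zg6) (kg xg7 yg40 zg58) (kg xg20 yg40 zg19) (kg xg7 yg31 zg6) (kg xg13 yg1 zg3) (kg xg6 yg31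 zg5) (kg xg11 yg40 zg45) (kg xg5 yg57 zg43) (kg xg11 yg59 zg5) (kg xg20 yg40 zg22) (kg xg18 yg43 zg43) (kg xg9 yg26 zg5) (kg xg20 yg40 zg25) (kg xg9 yg26 zg3) (kg xg9 yg49 zg0) (kg xg5 yg57 zg53) (kg xg11 yg35 zg6) (kg xg9 yg8 zg38) (kg xg20 yg15 zg57) (kg xg20 yg22 zg1) (kg xg11 yg40 zg13) (kg xg11 yg40 zg12) (kg xg13 yg9 zg56) (kg xg14 yg12 zg29) (kg xg14 yg11 zg28) (kg xg6 yg49 zg46) (kg xg11 yg18 zg60) (kg xg6 yg31 zg30) (kg xg5 yg57 zg61) (kg xg11 yg40 zg23) (kg xg5 yg58 zg54) (kg xg5 yg58 zg56) (kg xg20 yg40 zg32) (kg xg9 yg23 zg17) (kg xg20 yg40 zg34) (kg xg20 yg31 zg60) (kg xg6 yg8 zg42) (kg xg5 yg58 zg6) (kg xg7 yg42 zg55) (kg xg6 yg8 zg40) (kg xg20 yg40 zg16) (kg xg14 yg33 zg31) (kg xg5 yg58 zg13) (kg xg14 yg33 zg22) (kg xg6 yg8 zg9) (kg xg6 yg8 zg8)) (@D3.rec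 (fun _ => Pt) (kg xg14 yg23 zg45) (kg xg20 yg18 zg59) (kg xg17 yg3 zg28) (kg xg20 yg40 zg48) (kg xg14 yg52 zg29) (kg xg6 yg8 zg48) (kg xg20 yg15 zg45) (kg xg20 yg40 zg53) (kg xg14 yg52 zg33) (kg xg5 yg58 zg17) (kg xg5 yg58 zg21) (kg xg6 yg18 zg21) (kg xg20 yg40 zg61) (kg xg7 yg32 zg2) (kg xg8 yg47 zg4) (kg xg17 yg12 zg17) (kg xg8 yg46 zg11) (kg xg5 yg58 zg19) (kg xg16 yg32 zg42) (kg xg7 yg56 zg44) (kg xg14 yg12 zg5) (kg xg20 yg25 zg36) (kg xg18 yg0 zg36) (kg xg14 yg44 zg28) (kg xg13 yg5 zg21) (kg xg20 yg41 zg18) (kg xg5 yg59 zg4) (kg xg5 yg58 zg26) (kg xg20 yg41 zg25) (kg xg13 yg1 zg7) (kg xg20 yg41 zg28) (kg xg5 yg58 zg31) (kg xg10 yg15 zg26) (kg xg5 yg59 zg19) (kg xg5 yg58 zg35) (kg xg20 yg41 zg35) (kg xg9 yg50 zg51) (kg xg6 yg1 zg16) (kg xg6 yg1 zg17) (kg xg5 yg58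 zg37) (kg xg17 yg1 zg33) (kg xg5 yg58 zg43) (kg xg9 yg6 zg43) (kg xg5 yg58 zg39) (kg xg13 yg41 zg23) (kg xg6 yg59 zg45) (kg xg20 yg41 zg47) (kg xg20 yg27 zg25) (kg xg14 yg30 zg60) (kg xg5 yg58 zg41) (kg xg20 yg41 zg55) (kg xg9 yg6 zg32) (kg xg17 yg1 zg30) (kg xg20 yg41 zg59) (kg xg20 yg22 zg61) (kg xg10 yg59 zg25) (kg xg20 yg14 zg48) (kg xg20 yg41 zg41) (kg xg5 yg58 zg44) (kg xg20 yg42 zg1) (kg xg20 yg41 zg39) (kg xg20 yg42 zg7)) (@D3.rec (fun _ => Pt) (kg xg17 yg32 zg22) (kg xg20 yg42 zg8) (kg xg11 yg29 zg35) (kg xg9 yg6 zg46) (kg xg20 yg42 zg17) (kg xg11 yg40 zg16) (kg xg5 yg58 zg51) (kg xg11 yg40 zg15) (kg xg17 yg3 zg56) (kg xg20 yg42 zg23) (kg xg9 yg48 zg33) (kg xg19 yg27 zg55) (kg xg9 yg47 zg57) (kg xg16 yg48 zg28) (kg xg11 yg19 zg58) (kg xg11 yg47 zg37) (kg xg5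 yg58 zg55) (kg xg16 yg59 zg4) (kg xg11 yg39 zg11) (kg xg9 yg48 zg47) (kg xg9 yg30 zg59) (kg xg20 yg42 zg35) (kg xg16 yg59 zg7) (kg xg14 yg11 zg45) (kg xg20 yg42 zg40) (kg xg7 yg33 zg60) (kg xg20 yg42 zg44) (kg xg20 yg41 zg17) (kg xg5 yg59 zg0) (kg xg20 yg42 zg52) (kg xg20 yg41 zg19) (kg xg6 yg29 zg39) (kg xg20 yg42 zg57) (kg xg20 yg39 zg58) (kg xg20 yg40 zg44) (kg xg20 yg42 zg58) (kg xg14 yg52 zg35) (kg xg13 yg5 zg18) (kg xg5 yg59 zg3) (kg xg20 yg43 zg9) (kg xg20 yg41 zg26) (kg xg17 yg10 zg30) (kg xg20 yg39 zg53) (kg xg13 yg10 zg40) (kg xg10 yg59 zg9) (kg xg17 yg58 zg38) (kg xg20 yg39 zg49) (kg xg5 yg59 zg9) (kg xg19 yg37 zg56) (kg xg20 yg43 zg28) (kg xg20 yg41 zg29) (kg xg13 yg52 zg21) (kg xg14 yg51 zg39) (kg xg17 yg58 zg40) (kg xg20 yg43 zg36) (kg xg6 yg6 zg35) (kg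 xg5 yg59 zg12) (kg xg10 yg59 zg27) (kg xg14 yg1 zg49) (kg xg20 yg40 zg7) (kg xg15 yg22 zg40) (kg xg9 yg46 zg22)) (@D3.rec (fun _ => Pt) (kg xg18 yg2 zg1) (kg xg19 yg40 zg23) (kg xg7 yg52 zg30) (kg xg18 yg1 zg60) (kg xg17 yg43 zg12) (kg xg17 yg43 zg14) (kg xg15 yg40 zg40) (kg xg17 yg43 zg11) (kg xg20 yg29 zg11) (kg xg5 yg59 zg18) (kg xg13 yg43 zg9) (kg xg20 yg44 zg1) (kg xg11 yg48 zg1) (kg xg20 yg44 zg4) (kg xg5 yg59 zg20) (kg xg11 yg45 zg57) (kg xg20 yg44 zg8) (kg xg6 yg43 zg37) (kg xg5 yg59 zg22) (kg xg20 yg44 zg15) (kg xg14 yg30 zg39) (kg xg6 yg0 zg52) (kg xg5 yg59 zg23) (kg xg20 yg44 zg23) (kg xg6 yg0 zg50) (kg xg12 yg45 zg21) (kg xg6 yg56 zg44) (kg xg6 yg0 zg61) (kg xg5 yg59 zg25) (kg xg11 yg46 zg28) (kg xg6 yg0 zg59) (kg xg9 yg50 zg60) (kg xg20 yg44 zg40) (kg xg20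 yg44 zg41) (kg xg20 yg44 zg43) (kg xg13 yg12 zg13) (kg xg13 yg1 zg53) (kg xg20 yg44 zg49) (kg xg6 yg1 zg13) (kg xg13 yg55 zg48) (kg xg12 yg43 zg22) (kg xg17 yg20 zg53) (kg xg20 yg44 zg46) (kg xg20 yg13 zg52) (kg xg5 yg59 zg42) (kg xg5 yg59 zg40) (kg xg9 yg49 zg50) (kg xg15 yg6 zg8) (kg xg12 yg53 zg17) (kg xg20 yg44 zg59) (kg xg5 yg59 zg38) (kg xg20 yg45 zg2) (kg xg6 yg26 zg48) (kg xg11 yg1 zg56) (kg xg12 yg39 zg5) (kg xg17 yg32 zg0) (kg xg17 yg31 zg46) (kg xg5 yg59 zg41) (kg xg16 yg48 zg26) (kg xg17 yg19 zg10) (kg xg5 yg59 zg43) (kg xg14 yg52 zg47)) (@D3.rec (fun _ => Pt) (kg xg20 yg17 zg18) (kg xg6 yg48 zg61) (kg xg17 yg32 zg2) (kg xg6 yg35 zg47) (kg xg6 yg1 zg6) (kg xg12 yg42 zg13) (kg xg20 yg45 zg16) (kg xg20 yg45 zg15) (kg xg5 yg59 zg50) (kg xg20 yg45 zg23) (kg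 xg20 yg45 zg13) (kg xg11 yg21 zg27) (kg xg20 yg45 zg28) (kg xg17 yg31 zg41) (kg xg5 yg59 zg53) (kg xg14 yg3 zg53) (kg xg17 yg31 zg40) (kg xg8 yg0 zg25) (kg xg13 yg6 zg54) (kg xg13 yg6 zg52) (kg xg5 yg59 zg55) (kg xg20 yg45 zg43) (kg xg17 yg31 zg43) (kg xg5 yg59 zg59) (kg xg5 yg59 zg57) (kg xg20 yg45 zg52) (kg xg19 yg39 zg57) (kg xg20 yg13 zg41) (kg xg11 yg19 zg59) (kg xg19 yg50 zg6) (kg xg11 yg39 zg55) (kg xg7 yg36 zg35) (kg xg6 yg0 zg2) (kg xg6 yg0 zg6) (kg xg12 yg33 zg7) (kg xg6 yg0 zg3) (kg xg13 yg47 zg3) (kg xg20 yg45 zg59) (kg xg19 yg5 zg37) (kg xg7 yg44 zg56) (kg xg20 yg46 zg2) (kg xg17 yg32 zg15) (kg xg20 yg46 zg3) (kg xg20 yg44 zg42) (kg xg20 yg44 zg44) (kg xg9 yg22 zg6) (kg xg17 yg19 zg14) (kg xg13 yg23 zg26) (kg xg17 yg21 zg24) (kg xg16 yg44 zg32) (kg xg17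 yg21 zg25) (kg xg17 yg31 zg21) (kg xg6 yg0 zg12) (kg xg20 yg46 zg11) (kg xg17 yg31 zg19) (kg xg15 yg5 zg37) (kg xg9 yg49 zg40) (kg xg14 yg52 zg32) (kg xg17 yg31 zg53) (kg xg20 yg45 zg7) (kg xg14 yg52 zg34) (kg xg7 yg53 zg4)) (@D3.rec (fun _ => Pt) (kg xg13 yg9 zg12) (kg xg9 yg41 zg57) (kg xg7 yg53 zg9) (kg xg13 yg10 zg36) (kg xg14 yg33 zg27) (kg xg6 yg0 zg21) (kg xg6 yg0 zg18) (kg xg17 yg17 zg52) (kg xg13 yg10 zg39) (kg xg10 yg0 zg18) (kg xg6 yg8 zg49) (kg xg11 yg20 zg4) (kg xg17 yg31 zg51) (kg xg14 yg4 zg44) (kg xg9 yg49 zg55) (kg xg19 yg53 zg24) (kg xg20 yg46 zg32) (kg xg9 yg49 zg38) (kg xg12 yg15 zg8) (kg xg13 yg19 zg27) (kg xg12 yg36 zg9) (kg xg7 yg2 zg15) (kg xg11 yg34 zg11) (kg xg7 yg40 zg46) (kg xg20 yg46 zg37) (kg xg11 yg44 zg17) (kg xg17 yg11 zg26) (kg xg20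 yg15 zg42) (kg xg17 yg23 zg29) (kg xg6 yg0 zg34) (kg xg17 yg23 zg27) (kg xg14 yg32 zg61) (kg xg6 yg0 zg35) (kg xg20 yg46 zg49) (kg xg17 yg23 zg30) (kg xg12 yg51 zg34) (kg xg12 yg45 zg23) (kg xg11 yg35 zg26) (kg xg17 yg22 zg41) (kg xg18 yg42 zg18) (kg xg20 yg46 zg58) (kg xg14 yg35 zg6) (kg xg6 yg0 zg42) (kg xg20 yg47 zg4) (kg xg14 yg20 zg20) (kg xg17 yg23 zg21) (kg xg6 yg0 zg43) (kg xg10 yg19 zg58) (kg xg15 yg55 zg30) (kg xg14 yg30 zg13) (kg xg20 yg47 zg12) (kg xg6 yg56 zg23) (kg xg13 yg20 zg38) (kg xg6 yg0 zg46) (kg xg20 yg47 zg19) (kg xg17 yg23 zg40) (kg xg11 yg43 zg15) (kg xg6 yg0 zg47) (kg xg17 yg23 zg43) (kg xg18 yg14 zg5) (kg xg18 yg0 zg45) (kg xg6 yg0 zg48)) (@D3.rec (fun _ => Pt) (kg xg20 yg47 zg26) (kg xg18 yg0 zg47) (kg xg20 yg47 zg30) (kg xg18 yg36 zg18) (kg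 xg20 yg47 zg36) (kg xg20 yg47 zg18) (kg xg20 yg31 zg15) (kg xg6 yg57 zg9) (kg xg18 yg44 zg45) (kg xg20 yg44 zg26) (kg xg6 yg0 zg51) (kg xg13 yg11 zg30) (kg xg20 yg44 zg24) (kg xg6 yg0 zg56) (kg xg11 yg50 zg6) (kg xg20 yg47 zg60) (kg xg6 yg0 zg57) (kg xg6 yg0 zg54) (kg xg20 yg48 zg3) (kg xg20 yg48 zg6) (kg xg6 yg0 zg55) (kg xg6 yg1 zg51) (kg xg20 yg48 zg9) (kg xg18 yg2 zg7) (kg xg20 yg48 zg4) (kg xg12 yg45 zg26) (kg xg20 yg48 zg15) (kg xg13 yg11 zg7) (kg xg11 yg46 zg37) (kg xg20 yg46 zg56) (kg xg20 yg48 zg16) (kg xg13 yg11 zg10) (kg xg6 yg57 zg0) (kg xg20 yg16 zg57) (kg xg6 yg0 zg60) (kg xg20 yg48 zg28) (kg xg20 yg16 zg56) (kg xg20 yg44 zg34) (kg xg20 yg48 zg35) (kg xg12 yg53 zg43) (kg xg12 yg41 zg38) (kg xg11 yg29 zg1) (kg xg14 yg4 zg43) (kg xg6 yg1 zg3) (kg xg6 yg1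 zg4) (kg xg12 yg17 zg22) (kg xg13 yg6 zg42) (kg xg20 yg17 zg35) (kg xg20 yg44 zg53) (kg xg20 yg44 zg52) (kg xg20 yg48 zg48) (kg xg12 yg42 zg35) (kg xg6 yg1 zg22) (kg xg6 yg1 zg7) (kg xg13 yg7 zg32) (kg xg20 yg48 zg58) (kg xg6 yg1 zg8) (kg xg11 yg41 zg4) (kg xg20 yg16 zg54) (kg xg16 yg47 zg32) (kg xg20 yg16 zg52) (kg xg9 yg17 zg10)) (@D3.rec (fun _ => Pt) (kg xg6 yg1 zg23) (kg xg6 yg1 zg11) (kg xg20 yg7 zg2) (kg xg20 yg17 zg6) (kg xg6 yg35 zg6) (kg xg6 yg8 zg45) (kg xg10 yg18 zg48) (kg xg7 yg1 zg36) (kg xg17 yg8 zg23) (kg xg6 yg1 zg46) (kg xg6 yg1 zg18) (kg xg20 yg45 zg56) (kg xg20 yg49 zg17) (kg xg9 yg25 zg25) (kg xg8 yg50 zg0) (kg xg6 yg1 zg19) (kg xg12 yg22 zg23) (kg xg20 yg0 zg27) (kg xg15 yg4 zg55) (kg xg6 yg1 zg21) (kg xg6 yg43 zg29) (kg xg20 yg49 zg21) (kg xg13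 yg12 zg3) (kg xg18 yg0 zg38) (kg xg20 yg15 zg3) (kg xg18 yg56 zg49) (kg xg6 yg1 zg27) (kg xg20 yg49 zg27) (kg xg11 yg32 zg14) (kg xg20 yg49 zg32) (kg xg20 yg17 zg58) (kg xg6 yg1 zg28) (kg xg20 yg17 zg57) (kg xg20 yg49 zg39) (kg xg20 yg49 zg31) (kg xg20 yg49 zg45) (kg xg11 yg42 zg18) (kg xg11 yg42 zg16) (kg xg6 yg1 zg31) (kg xg16 yg26 zg36) (kg xg16 yg59 zg11) (kg xg20 yg49 zg53) (kg xg6 yg30 zg55) (kg xg6 yg1 zg32) (kg xg9 yg6 zg14) (kg xg10 yg59 zg52) (kg xg20 yg49 zg61) (kg xg13 yg43 zg45) (kg xg20 yg50 zg5) (kg xg14 yg4 zg27) (kg xg6 yg1 zg35) (kg xg17 yg8 zg50) (kg xg20 yg50 zg10) (kg xg20 yg42 zg34) (kg xg20 yg49 zg56) (kg xg20 yg50 zg15) (kg xg20 yg25 zg53) (kg xg20 yg50 zg8) (kg xg20 yg18 zg8) (kg xg6 yg1 zg38) (kg xg20 yg18 zg7) (kg xg20 yg50 zg30)) (@D3.rec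 (fun _ => Pt) (kg xg17 yg59 zg3) (kg xg11 yg41 zg36) (kg xg20 yg50 zg38) (kg xg9 yg7 zg31) (kg xg15 yg5 zg24) (kg xg17 yg7 zg42) (kg xg9 yg50 zg26) (kg xg20 yg50 zg41) (kg xg20 yg50 zg43) (kg xg17 yg31 zg48) (kg xg12 yg9 zg19) (kg xg6 yg1 zg48) (kg xg6 yg49 zg48) (kg xg14 yg20 zg10) (kg xg12 yg34 zg14) (kg xg9 yg27 zg52) (kg xg20 yg8 zg38) (kg xg12 yg44 zg13) (kg xg20 yg45 zg49) (kg xg6 yg1 zg56) (kg xg20 yg27 zg51) (kg xg6 yg1 zg57) (kg xg6 yg1 zg54) (kg xg14 yg43 zg54) (kg xg9 yg4 zg51) (kg xg9 yg46 zg13) (kg xg14 yg43 zg55) (kg xg20 yg25 zg50) (kg xg6 yg12 zg5) (kg xg17 yg31 zg35) (kg xg19 yg51 zg46) (kg xg19 yg51 zg48) (kg xg19 yg51 zg47) (kg xg6 yg1 zg60) (kg xg20 yg51 zg3) (kg xg20 yg50 zg44) (kg xg17 yg4 zg42) (kg xg20 yg51 zg6) (kg xg6 yg44 zg40) (kg xg20 yg51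 zg11) (kg xg8 yg59 zg38) (kg xg8 yg59 zg37) (kg xg9 yg1 zg34) (kg xg11 yg7 zg57) (kg xg19 yg49 zg1) (kg xg6 yg12 zg42) (kg xg20 yg51 zg15) (kg xg11 yg56 zg34) (kg xg12 yg27 zg44) (kg xg17 yg8 zg13) (kg xg6 yg41 zg14) (kg xg6 yg2 zg13) (kg xg17 yg52 zg32) (kg xg6 yg2 zg24) (kg xg11 yg35 zg59) (kg xg15 yg5 zg12) (kg xg6 yg10 zg32) (kg xg6 yg2 zg17) (kg xg20 yg51 zg25) (kg xg20 yg51 zg26) (kg xg6 yg36 zg23) (kg xg20 yg51 zg29)) (@D3.rec (fun _ => Pt) (kg xg6 yg2 zg21) (kg xg13 yg0 zg61) (kg xg9 yg50 zg19) (kg xg17 yg51 zg33) (kg xg6 yg2 zg22) (kg xg18 yg17 zg47) (kg xg20 yg51 zg36) (kg xg20 yg51 zg38) (kg xg17 yg33 zg23) (kg xg8 yg0 zg32) (kg xg6 yg19 zg37) (kg xg20 yg51 zg21) (kg xg6 yg2 zg25) (kg xg20 yg51 zg20) (kg xg6 yg2 zg30) (kg xg9 yg11 zg61) (kg xg20 yg34 zg57)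 (kg xg6 yg2 zg31) (kg xg16 yg13 zg47) (kg xg20 yg34 zg53) (kg xg12 yg2 zg26) (kg xg6 yg8 zg59) (kg xg15 yg5 zg14) (kg xg11 yg56 zg47) (kg xg9 yg49 zg32) (kg xg6 yg44 zg30) (kg xg6 yg2 zg36) (kg xg19 yg15 zg3) (kg xg17 yg3 zg7) (kg xg10 yg6 zg44) (kg xg13 yg1 zg46) (kg xg6 yg2 zg42) (kg xg17 yg7 zg60) (kg xg11 yg2 zg11) (kg xg15 yg0 zg8) (kg xg20 yg51 zg56) (kg xg6 yg2 zg46) (kg xg8 yg59 zg32) (kg xg9 yg12 zg39) (kg xg17 yg10 zg3) (kg xg9 yg5 zg16) (kg xg9 yg5 zg35) (kg xg10 yg49 zg45) (kg xg6 yg16 zg6) (kg xg11 yg22 zg3) (kg xg17 yg6 zg15) (kg xg7 yg18 zg60) (kg xg9 yg5 zg10) (kg xg17 yg8 zg22) (kg xg6 yg2 zg55) (kg xg13 yg38 zg32) (kg xg8 yg0 zg36) (kg xg17 yg6 zg16) (kg xg6 yg45 zg45) (kg xg6 yg2 zg59) (kg xg17 yg3 zg57) (kg xg20 yg52 zg7) (kg xg20 yg33 zg22) (kg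 xg6 yg16 zg45) (kg xg10 yg5 zg40) (kg xg17 yg8 zg28) (kg xg6 yg3 zg6)) (@D3.rec (fun _ => Pt) (kg xg17 yg8 zg27) (kg xg12 yg40 zg43) (kg xg16 yg33 zg14) (kg xg17 yg8 zg9) (kg xg17 yg8 zg17) (kg xg6 yg35 zg8) (kg xg8 yg0 zg48) (kg xg20 yg20 zg21) (kg xg17 yg8 zg3) (kg xg6 yg3 zg12) (kg xg20 yg52 zg20) (kg xg18 yg39 zg48) (kg xg20 yg52 zg23) (kg xg11 yg22 zg23) (kg xg20 yg52 zg24) (kg xg16 yg47 zg37) (kg xg17 yg8 zg5) (kg xg6 yg3 zg15) (kg xg20 yg52 zg35) (kg xg20 yg18 zg60) (kg xg17 yg24 zg45) (kg xg20 yg51 zg60) (kg xg17 yg6 zg43) (kg xg6 yg45 zg15) (kg xg17 yg7 zg43) (kg xg6 yg3 zg19) (kg xg11 yg27 zg48) (kg xg6 yg3 zg21) (kg xg11 yg27 zg51) (kg xg19 yg43 zg21) (kg xg6 yg3 zg23) (kg xg7 yg57 zg12) (kg xg13 yg41 zg29) (kg xg20 yg52 zg48) (kg xg10 yg49 zg49) (kg xg10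 yg49 zg51) (kg xg6 yg45 zg49) (kg xg7 yg15 zg36) (kg xg20 yg52 zg53) (kg xg20 yg30 zg27) (kg xg6 yg3 zg28) (kg xg20 yg30 zg26) (kg xg20 yg52 zg59) (kg xg13 yg9 zg24) (kg xg13 yg45 zg51) (kg xg20 yg16 zg30) (kg xg14 yg32 zg34) (kg xg14 yg46 zg53) (kg xg12 yg17 zg20) (kg xg6 yg3 zg37) (kg xg11 yg31 zg35) (kg xg17 yg33 zg13) (kg xg11 yg32 zg12) (kg xg20 yg53 zg3) (kg xg20 yg30 zg32) (kg xg6 yg3 zg42) (kg xg20 yg30 zg31) (kg xg14 yg52 zg39) (kg xg6 yg3 zg43) (kg xg13 yg46 zg3) (kg xg20 yg53 zg14) (kg xg12 yg43 zg3)) (@D3.rec (fun _ => Pt) (kg xg18 yg38 zg27) (kg xg12 yg28 zg9) (kg xg17 yg7 zg3) (kg xg17 yg8 zg55) (kg xg18 yg39 zg43) (kg xg6 yg3 zg56) (kg xg16 yg59 zg14) (kg xg6 yg3 zg48) (kg xg7 yg49 zg37) (kg xg20 yg53 zg25) (kg xg20 yg53 zg28) (kg xg13 yg32 zg56) (kg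 xg19 yg5 zg54) (kg xg12 yg59 zg30) (kg xg17 yg8 zg49) (kg xg15 yg48 zg29) (kg xg12 yg4 zg6) (kg xg16 yg57 zg24) (kg xg6 yg45 zg36) (kg xg17 yg8 zg57) (kg xg6 yg3 zg55) (kg xg15 yg25 zg48) (kg xg20 yg53 zg39) (kg xg20 yg53 zg43) (kg xg18 yg50 zg54) (kg xg12 yg15 zg19) (kg xg17 yg8 zg52) (kg xg6 yg3 zg57) (kg xg8 yg11 zg44) (kg xg20 yg53 zg46) (kg xg20 yg53 zg50) (kg xg20 yg53 zg55) (kg xg12 yg53 zg48) (kg xg20 yg53 zg51) (kg xg11 yg31 zg45) (kg xg20 yg53 zg32) (kg xg9 yg14 zg38) (kg xg9 yg14 zg39) (kg xg6 yg4 zg0) (kg xg16 yg39 zg40) (kg xg20 yg54 zg9) (kg xg9 yg31 zg60) (kg xg6 yg4 zg1) (kg xg17 yg49 zg53) (kg xg16 yg58 zg59) (kg xg20 yg54 zg17) (kg xg16 yg58 zg41) (kg xg6 yg4 zg3) (kg xg16 yg59 zg2) (kg xg6 yg4 zg4) (kg xg10 yg35 zg10) (kg xg17 yg35 zg29) (kg xg12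 yg5 zg33) (kg xg6 yg17 zg13) (kg xg11 yg8 zg11) (kg xg20 yg54 zg33) (kg xg9 yg51 zg10) (kg xg6 yg4 zg12) (kg xg9 yg51 zg9) (kg xg10 yg5 zg29) (kg xg20 yg54 zg37) (kg xg8 yg32 zg59)) (@D3.rec (fun _ => Pt) (kg xg16 yg5 zg9) (kg xg16 yg5 zg54) (kg xg8 yg32 zg52) (kg xg8 yg22 zg51) (kg xg13 yg57 zg12) (kg xg8 yg34 zg33) (kg xg15 yg43 zg21) (kg xg6 yg4 zg21) (kg xg15 yg43 zg20) (kg xg20 yg54 zg55) (kg xg8 yg32 zg42) (kg xg14 yg6 zg47) (kg xg6 yg4 zg24) (kg xg6 yg4 zg23) (kg xg20 yg54 zg61) (kg xg10 yg37 zg11) (kg xg8 yg38 zg34) (kg xg19 yg54 zg57) (kg xg6 yg4 zg55) (kg xg6 yg4 zg54) (kg xg20 yg55 zg6) (kg xg20 yg55 zg9) (kg xg6 yg4 zg27) (kg xg6 yg5 zg0) (kg xg20 yg55 zg14) (kg xg10 yg37 zg9) (kg xg10 yg44 zg26) (kg xg12 yg54 zg29) (kg xg10 yg29 zg40) (kg xg10 yg37 zg1)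 (kg xg20 yg55 zg24) (kg xg6 yg4 zg30) (kg xg20 yg55 zg25) (kg xg20 yg55 zg36) (kg xg20 yg55 zg30) (kg xg6 yg5 zg24) (kg xg6 yg4 zg31) (kg xg20 yg55 zg44) (kg xg8 yg55 zg34) (kg xg6 yg4 zg34) (kg xg8 yg14 zg2) (kg xg11 yg57 zg8) (kg xg11 yg52 zg47) (kg xg10 yg43 zg10) (kg xg20 yg55 zg51) (kg xg15 yg28 zg11) (kg xg11 yg52 zg43) (kg xg10 yg1 zg13) (kg xg20 yg55 zg57) (kg xg19 yg1 zg4) (kg xg20 yg55 zg61) (kg xg8 yg52 zg55) (kg xg6 yg4 zg51) (kg xg6 yg4 zg40) (kg xg20 yg56 zg5) (kg xg10 yg40 zg18) (kg xg6 yg4 zg41) (kg xg20 yg56 zg12) (kg xg10 yg40 zg15) (kg xg20 yg56 zg14) (kg xg15 yg27 zg48) (kg xg15 yg41 zg12)) (@D3.rec (fun _ => Pt) (kg xg11 yg5 zg16) (kg xg20 yg55 zg1) (kg xg6 yg4 zg50) (kg xg20 yg55 zg0) (kg xg20 yg56 zg22) (kg xg20 yg56 zg26) (kg xg19 yg54 zg55)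 (kg xg20 yg56 zg33) (kg xg8 yg53 zg35) (kg xg20 yg56 zg36) (kg xg15 yg28 zg16) (kg xg15 yg26 zg5) (kg xg15 yg36 zg39) (kg xg6 yg4 zg57) (kg xg10 yg44 zg9) (kg xg20 yg56 zg47) (kg xg8 yg55 zg40) (kg xg20 yg56 zg49) (kg xg20 yg55 zg12) (kg xg6 yg4 zg60) (kg xg16 yg37 zg40) (kg xg20 yg55 zg10) (kg xg20 yg55 zg20) (kg xg10 yg47 zg59) (kg xg6 yg5 zg11) (kg xg8 yg34 zg34) (kg xg8 yg6 zg60) (kg xg6 yg5 zg2) (kg xg8 yg6 zg59) (kg xg11 yg53 zg32) (kg xg6 yg5 zg3) (kg xg20 yg55 zg7) (kg xg11 yg53 zg30) (kg xg20 yg57 zg8) (kg xg20 yg57 zg11) (kg xg10 yg37 zg8) (kg xg6 yg5 zg5) (kg xg16 yg38 zg15) (kg xg10 yg37 zg5) (kg xg20 yg55 zg23) (kg xg8 yg55 zg39) (kg xg6 yg5 zg14) (kg xg11 yg54 zg1) (kg xg6 yg5 zg9) (kg xg12 yg54 zg15) (kg xg20 yg57 zg30) (kg xg6 yg5 zg13) (kg xg20 yg57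 zg35) (kg xg16 yg37 zg21) (kg xg20 yg55 zg13) (kg xg20 yg55 zg16) (kg xg6 yg5 zg12) (kg xg20 yg55 zg15) (kg xg20 yg57 zg44) (kg xg20 yg57 zg48) (kg xg17 yg8 zg60) (kg xg20 yg57 zg53) (kg xg16 yg38 zg24) (kg xg10 yg37 zg3) (kg xg6 yg5 zg16) (kg xg6 yg5 zg19) (kg xg16 yg42 zg27)) (@D3.rec (fun _ => Pt) (kg xg12 yg54 zg33) (kg xg11 yg53 zg43) (kg xg20 yg39 zg2) (kg xg6 yg5 zg17) (kg xg10 yg44 zg14) (kg xg11 yg57 zg55) (kg xg15 yg27 zg47) (kg xg20 yg57 zg58) (kg xg6 yg5 zg18) (kg xg20 yg58 zg12) (kg xg16 yg42 zg21) (kg xg20 yg58 zg6) (kg xg20 yg58 zg20) (kg xg10 yg3 zg33) (kg xg20 yg58 zg22) (kg xg20 yg57 zg41) (kg xg20 yg58 zg28) (kg xg20 yg58 zg32) (kg xg19 yg57 zg58) (kg xg20 yg55 zg46) (kg xg6 yg5 zg23) (kg xg20 yg55 zg45) (kg xg20 yg58 zg44) (kg xg8 yg53 zg15) (kg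 xg6 yg5 zg25) (kg xg20 yg58 zg51) (kg xg8 yg7 zg45) (kg xg8 yg54 zg15) (kg xg15 yg42 zg10) (kg xg10 yg37 zg12) (kg xg11 yg2 zg21) (kg xg20 yg58 zg61) (kg xg19 yg31 zg31) (kg xg20 yg59 zg3) (kg xg10 yg43 zg37) (kg xg6 yg5 zg30) (kg xg9 yg30 zg46) (kg xg17 yg32 zg45) (kg xg20 yg59 zg12) (kg xg15 yg31 zg15) (kg xg6 yg5 zg32) (kg xg10 yg56 zg35) (kg xg15 yg31 zg13) (kg xg18 yg52 zg28) (kg xg14 yg34 zg32) (kg xg17 yg34 zg30) (kg xg17 yg34 zg25) (kg xg17 yg32 zg6) (kg xg20 yg59 zg28) (kg xg17 yg34 zg38) (kg xg17 yg32 zg7) (kg xg10 yg43 zg51) (kg xg6 yg50 zg21) (kg xg6 yg5 zg40) (kg xg20 yg59 zg32) (kg xg20 yg59 zg33) (kg xg10 yg3 zg48) (kg xg15 yg50 zg54) (kg xg20 yg5 zg21) (kg xg10 yg9 zg55) (kg xg20 yg59 zg36) (kg xg20 yg59 zg39)) (@D3.rec (fun _ => Pt) (kg xg20 yg59 zg42)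 (kg xg6 yg5 zg48) (kg xg10 yg43 zg0) (kg xg17 yg33 zg41) (kg xg20 yg59 zg51) (kg xg8 yg28 zg41) (kg xg6 yg5 zg49) (kg xg9 yg22 zg26) (kg xg10 yg46 zg45) (kg xg20 yg59 zg59) (kg xg8 yg56 zg30) (kg xg10 yg46 zg42) (kg xg17 yg33 zg4) (kg xg21 yg0 zg4) (kg xg17 yg33 zg2) (kg xg7 yg59 zg39) (kg xg10 yg49 zg38) (kg xg10 yg49 zg36) (kg xg11 yg39 zg10) (kg xg10 yg48 zg36) (kg xg21 yg0 zg13) (kg xg10 yg50 zg0) (kg xg10 yg44 zg33) (kg xg17 yg32 zg33) (kg xg20 yg17 zg49) (kg xg16 yg6 zg43) (kg xg15 yg31 zg27) (kg xg6 yg6 zg0) (kg xg8 yg17 zg25) (kg xg15 yg31 zg25) (kg xg8 yg6 zg54) (kg xg8 yg31 zg4) (kg xg10 yg50 zg59) (kg xg8 yg15 zg42) (kg xg8 yg16 zg7) (kg xg8 yg34 zg47) (kg xg8 yg14 zg33) (kg xg9 yg30 zg35) (kg xg10 yg57 zg0) (kg xg9 yg31 zg9) (kg xg9 yg26 zg16) (kg xg10 yg57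 zg23) (kg xg9 yg48 zg41) (kg xg6 yg6 zg8) (kg xg16 yg43 zg44) (kg xg7 yg59 zg49) (kg xg6 yg13 zg30) (kg xg8 yg14 zg31) (kg xg10 yg48 zg19) (kg xg12 yg40 zg39) (kg xg10 yg34 zg23) (kg xg8 yg22 zg52) (kg xg6 yg26 zg16) (kg xg21 yg0 zg44) (kg xg21 yg0 zg47) (kg xg8 yg59 zg53) (kg xg6 yg6 zg18) (kg xg10 yg43 zg59) (kg xg17 yg33 zg6) (kg xg13 yg22 zg50) (kg xg19 yg28 zg39) (kg xg10 yg54 zg6)) (@D3.rec (fun _ => Pt) (kg xg13 yg45 zg55) (kg xg10 yg46 zg4) (kg xg8 yg28 zg57) (kg xg9 yg32 zg11) (kg xg12 yg55 zg20) (kg xg20 yg36 zg46) (kg xg11 yg33 zg12) (kg xg8 yg59 zg55) (kg xg10 yg30 zg42) (kg xg9 yg50 zg40) (kg xg10 yg45 zg14) (kg xg21 yg0 zg60) (kg xg10 yg45 zg7) (kg xg10 yg45 zg5) (kg xg6 yg6 zg33) (kg xg16 yg2 zg25) (kg xg20 yg43 zg37) (kg xg14 yg8 zg17) (kg xg9 yg19 zg56)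 (kg xg17 yg33 zg43) (kg xg10 yg45 zg49) (kg xg10 yg44 zg52) (kg xg6 yg6 zg39) (kg xg21 yg1 zg13) (kg xg8 yg59 zg31) (kg xg6 yg45 zg9) (kg xg6 yg6 zg44) (kg xg6 yg6 zg42) (kg xg19 yg14 zg20) (kg xg12 yg54 zg31) (kg xg20 yg38 zg61) (kg xg20 yg56 zg51) (kg xg21 yg1 zg23) (kg xg17 yg9 zg37) (kg xg12 yg53 zg52) (kg xg17 yg9 zg57) (kg xg18 yg50 zg38) (kg xg17 yg9 zg38) (kg xg6 yg6 zg48) (kg xg21 yg1 zg33) (kg xg17 yg3 zg55) (kg xg6 yg6 zg49) (kg xg8 yg58 zg52) (kg xg6 yg6 zg50) (kg xg6 yg6 zg52) (kg xg13 yg1 zg19) (kg xg20 yg37 zg35) (kg xg11 yg29 zg23) (kg xg21 yg1 zg41) (kg xg19 yg57 zg14) (kg xg21 yg1 zg45) (kg xg15 yg29 zg50) (kg xg6 yg6 zg59) (kg xg15 yg29 zg49) (kg xg18 yg7 zg61) (kg xg21 yg1 zg50) (kg xg21 yg1 zg53) (kg xg15 yg52 zg40) (kg xg6 yg6 zg61) (kg xg15 yg54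 zg6) (kg xg15 yg52 zg38) (kg xg10 yg20 zg0)) (@D3.rec (fun _ => Pt) (kg xg15 yg16 zg19) (kg xg9 yg33 zg15) (kg xg15 yg9 zg0) (kg xg8 yg28 zg38) (kg xg17 yg34 zg36) (kg xg20 yg14 zg12) (kg xg12 yg55 zg24) (kg xg21 yg2 zg5) (kg xg20 yg55 zg56) (kg xg6 yg7 zg8) (kg xg7 yg58 zg24) (kg xg10 yg0 zg45) (kg xg11 yg4 zg49) (kg xg12 yg54 zg52) (kg xg6 yg7 zg12) (kg xg15 yg29 zg39) (kg xg21 yg1 zg11) (kg xg21 yg2 zg19) (kg xg18 yg19 zg22) (kg xg11 yg3 zg24) (kg xg21 yg2 zg26) (kg xg9 yg0 zg43) (kg xg12 yg54 zg54) (kg xg9 yg1 zg5) (kg xg11 yg5 zg57) (kg xg11 yg5 zg55) (kg xg12 yg23 zg42) (kg xg9 yg1 zg1) (kg xg8 yg11 zg22) (kg xg8 yg11 zg23) (kg xg18 yg0 zg61) (kg xg17 yg18 zg6) (kg xg9 yg43 zg59) (kg xg6 yg51 zg16) (kg xg8 yg12 zg26) (kg xg18 yg24 zg42) (kg xg10 yg17 zg54) (kg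 xg18 yg21 zg22) (kg xg6 yg50 zg29) (kg xg10 yg5 zg5) (kg xg21 yg2 zg40) (kg xg21 yg2 zg43) (kg xg10 yg45 zg25) (kg xg17 yg10 zg9) (kg xg11 yg22 zg11) (kg xg10 yg17 zg9) (kg xg10 yg4 zg9) (kg xg20 yg1 zg2) (kg xg11 yg36 zg51) (kg xg10 yg4 zg21) (kg xg17 yg3 zg27) (kg xg18 yg21 zg11) (kg xg6 yg7 zg44) (kg xg11 yg51 zg2) (kg xg18 yg21 zg5) (kg xg21 yg3 zg0) (kg xg7 yg26 zg51) (kg xg17 yg9 zg28) (kg xg20 yg4 zg31) (kg xg12 yg30 zg26) (kg xg18 yg24 zg35) (kg xg12 yg30 zg53)) (@D3.rec (fun _ => Pt) (kg xg6 yg7 zg57) (kg xg16 yg49 zg3) (kg xg15 yg26 zg16) (kg xg20 yg34 zg7) (kg xg12 yg31 zg8) (kg xg11 yg47 zg6) (kg xg15 yg26 zg12) (kg xg21 yg3 zg9) (kg xg10 yg45 zg35) (kg xg6 yg8 zg3) (kg xg7 yg27 zg26) (kg xg13 yg1 zg40) (kg xg6 yg32 zg9) (kg xg6 yg8 zg5) (kg xg10 yg44 zg48)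 (kg xg18 yg43 zg17) (kg xg18 yg25 zg56) (kg xg16 yg57 zg37) (kg xg20 yg40 zg23) (kg xg20 yg40 zg24) (kg xg6 yg8 zg10) (kg xg17 yg6 zg41) (kg xg10 yg48 zg33) (kg xg17 yg3 zg29) (kg xg14 yg24 zg1) (kg xg6 yg8 zg16) (kg xg10 yg43 zg56) (kg xg16 yg59 zg35) (kg xg18 yg17 zg8) (kg xg20 yg27 zg60) (kg xg20 yg27 zg61) (kg xg11 yg49 zg22) (kg xg12 yg9 zg32) (kg xg11 yg35 zg2) (kg xg9 yg19 zg52) (kg xg6 yg8 zg24) (kg xg6 yg20 zg23) (kg xg20 yg32 zg57) (kg xg11 yg14 zg40) (kg xg21 yg3 zg22) (kg xg10 yg59 zg17) (kg xg14 yg33 zg28) (kg xg13 yg16 zg38) (kg xg6 yg8 zg36) (kg xg21 yg3 zg25) (kg xg21 yg3 zg28) (kg xg20 yg40 zg40) (kg xg6 yg8 zg38) (kg xg21 yg3 zg34) (kg xg20 yg40 zg38) (kg xg7 yg45 zg6) (kg xg14 yg32 zg37) (kg xg21 yg3 zg24) (kg xg14 yg32 zg35) (kg xg20 yg39 zg57) (kg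 xg6 yg8 zg41) (kg xg21 yg3 zg44) (kg xg7 yg43 zg27) (kg xg11 yg30 zg36) (kg xg20 yg41 zg0) (kg xg20 yg46 zg20) (kg xg21 yg3 zg51)) (@D3.rec (fun _ => Pt) (kg xg20 yg41 zg61) (kg xg14 yg17 zg43) (kg xg10 yg42 zg30) (kg xg20 yg42 zg61) (kg xg12 yg50 zg6) (kg xg17 yg58 zg14) (kg xg21 yg3 zg55) (kg xg9 yg45 zg54) (kg xg21 yg3 zg58) (kg xg20 yg38 zg4) (kg xg12 yg23 zg23) (kg xg21 yg3 zg61) (kg xg10 yg4 zg26) (kg xg6 yg46 zg54) (kg xg11 yg23 zg53) (kg xg6 yg9 zg4) (kg xg9 yg3 zg3) (kg xg20 yg15 zg20) (kg xg12 yg12 zg27) (kg xg11 yg23 zg60) (kg xg11 yg23 zg59) (kg xg20 yg7 zg1) (kg xg6 yg9 zg8) (kg xg20 yg7 zg0) (kg xg16 yg25 zg36) (kg xg6 yg48 zg50) (kg xg9 yg0 zg21) (kg xg6 yg9 zg10) (kg xg9 yg0 zg20) (kg xg16 yg33 zg44) (kg xg9 yg14 zg57) (kg xg8 yg49 zg11) (kg xg21 yg4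 zg10) (kg xg8 yg45 zg13) (kg xg8 yg48 zg39) (kg xg6 yg9 zg13) (kg xg16 yg26 zg52) (kg xg8 yg48 zg37) (kg xg21 yg4 zg20) (kg xg15 yg40 zg3) (kg xg21 yg4 zg24) (kg xg13 yg52 zg30) (kg xg21 yg4 zg26) (kg xg6 yg50 zg57) (kg xg6 yg50 zg58) (kg xg9 yg19 zg24) (kg xg18 yg8 zg29) (kg xg13 yg7 zg4) (kg xg12 yg19 zg26) (kg xg6 yg9 zg24) (kg xg9 yg35 zg36) (kg xg9 yg23 zg47) (kg xg16 yg14 zg39) (kg xg6 yg9 zg26) (kg xg12 yg20 zg13) (kg xg21 yg4 zg34) (kg xg6 yg52 zg42) (kg xg6 yg9 zg27) (kg xg21 yg4 zg39) (kg xg12 yg27 zg18) (kg xg13 yg0 zg17) (kg xg21 yg4 zg46))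
def f_g_12 : D2 → D3 → Pt := @D2.rec (fun _ => D3 → Pt) (@D3.rec (fun _ => Pt) (kg xg17 yg28 zg7) (kg xg21 yg4 zg42) (kg xg6 yg10 zg49) (kg xg6 yg28 zg19) (kg xg6 yg28 zg18) (kg xg6 yg27 zg53) (kg xg21 yg4 zg56) (kg xg17 yg16 zg57) (kg xg21 yg4 zg60) (kg xg12 yg13 zg61) (kg xg8 yg19 zg8) (kg xg12 yg33 zg32) (kg xg6 yg9 zg40) (kg xg15 yg56 zg53) (kg xg17 yg16 zg54) (kg xg21 yg5 zg12) (kg xg9 yg19 zg13) (kg xg6 yg18 zg43) (kg xg21 yg5 zg18) (kg xg15 yg46 zg57) (kg xg21 yg5 zg22) (kg xg12 yg59 zg37) (kg xg21 yg5 zg15) (kg xg6 yg48 zg30) (kg xg12 yg59 zg14) (kg xg6 yg9 zg43) (kg xg12 yg27 zg21) (kg xg21 yg5 zg31) (kg xg12 yg0 zg29) (kg xg10 yg51 zg3) (kg xg21 yg5 zg35) (kg xg21 yg5 zg37) (kg xg6 yg38 zg31) (kg xg21 yg5 zg42) (kg xg21 yg5 zg38) (kg xg9 yg59 zg32) (kg xg6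 yg10 zg10) (kg xg6 yg9 zg48) (kg xg21 yg5 zg50) (kg xg6 yg9 zg49) (kg xg10 yg0 zg33) (kg xg6 yg11 zg14) (kg xg6 yg36 zg31) (kg xg12 yg12 zg30) (kg xg21 yg5 zg55) (kg xg6 yg18 zg41) (kg xg6 yg27 zg51) (kg xg21 yg5 zg61) (kg xg6 yg22 zg38) (kg xg21 yg6 zg3) (kg xg21 yg6 zg6) (kg xg6 yg41 zg35) (kg xg16 yg6 zg2) (kg xg6 yg10 zg1) (kg xg21 yg6 zg10) (kg xg21 yg6 zg18) (kg xg21 yg6 zg15) (kg xg6 yg41 zg36) (kg xg6 yg10 zg2) (kg xg21 yg6 zg26) (kg xg21 yg6 zg29) (kg xg12 yg21 zg35)) (@D3.rec (fun _ => Pt) (kg xg21 yg6 zg34) (kg xg8 yg32 zg46) (kg xg6 yg10 zg6) (kg xg8 yg33 zg13) (kg xg21 yg6 zg40) (kg xg12 yg3 zg22) (kg xg6 yg10 zg7) (kg xg21 yg6 zg46) (kg xg7 yg31 zg39) (kg xg12 yg35 zg11) (kg xg7 yg42 zg43) (kg xg10 yg7 zg7) (kg xg11 yg35 zg8) (kg xg6 yg34 zg44) (kg xg7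 yg2 zg7) (kg xg10 yg7 zg1) (kg xg11 yg36 zg60) (kg xg18 yg36 zg46) (kg xg18 yg37 zg44) (kg xg6 yg10 zg13) (kg xg6 yg11 zg2) (kg xg6 yg32 zg15) (kg xg18 yg49 zg47) (kg xg9 yg56 zg58) (kg xg6 yg34 zg40) (kg xg6 yg10 zg19) (kg xg6 yg11 zg22) (kg xg6 yg49 zg5) (kg xg6 yg18 zg30) (kg xg6 yg33 zg57) (kg xg6 yg10 zg23) (kg xg21 yg6 zg60) (kg xg6 yg34 zg52) (kg xg6 yg10 zg27) (kg xg6 yg34 zg51) (kg xg17 yg0 zg14) (kg xg9 yg49 zg54) (kg xg17 yg3 zg52) (kg xg18 yg37 zg10) (kg xg21 yg7 zg1) (kg xg6 yg10 zg33) (kg xg21 yg7 zg7) (kg xg21 yg7 zg0) (kg xg17 yg41 zg57) (kg xg6 yg34 zg33) (kg xg6 yg33 zg60) (kg xg6 yg10 zg35) (kg xg21 yg7 zg12) (kg xg6 yg34 zg42) (kg xg21 yg5 zg49) (kg xg9 yg32 zg42) (kg xg12 yg13 zg5) (kg xg6 yg10 zg53) (kg xg6 yg53 zg7) (kg xg12 yg31 zg25) (kg xg7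 yg39 zg34) (kg xg11 yg41 zg11) (kg xg6 yg10 zg44) (kg xg6 yg39 zg43) (kg xg6 yg10 zg45) (kg xg21 yg7 zg21) (kg xg6 yg39 zg41)) (@D3.rec (fun _ => Pt) (kg xg6 yg10 zg46) (kg xg6 yg47 zg53) (kg xg6 yg10 zg47) (kg xg6 yg39 zg39) (kg xg6 yg10 zg48) (kg xg21 yg7 zg29) (kg xg6 yg39 zg37) (kg xg7 yg31 zg49) (kg xg12 yg35 zg48) (kg xg20 yg24 zg49) (kg xg9 yg7 zg13) (kg xg21 yg7 zg33) (kg xg21 yg7 zg32) (kg xg11 yg38 zg56) (kg xg6 yg11 zg0) (kg xg9 yg59 zg59) (kg xg6 yg10 zg60) (kg xg6 yg32 zg16) (kg xg21 yg7 zg40) (kg xg6 yg10 zg58) (kg xg18 yg38 zg7) (kg xg21 yg7 zg38) (kg xg18 yg33 zg2) (kg xg17 yg4 zg0) (kg xg18 yg43 zg44) (kg xg10 yg2 zg24) (kg xg11 yg49 zg18) (kg xg6 yg10 zg61) (kg xg18 yg39 zg29) (kg xg12 yg43 zg8) (kg xg21 yg7 zg49) (kg xg21 yg7 zg52) (kg xg9 yg59 zg20)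 (kg xg21 yg7 zg57) (kg xg18 yg38 zg12) (kg xg21 yg7 zg61) (kg xg6 yg29 zg53) (kg xg6 yg11 zg8) (kg xg6 yg33 zg42) (kg xg18 yg38 zg19) (kg xg12 yg12 zg40) (kg xg6 yg37 zg13) (kg xg6 yg11 zg11) (kg xg12 yg16 zg44) (kg xg18 yg35 zg58) (kg xg17 yg29 zg1) (kg xg6 yg33 zg21) (kg xg12 yg42 zg37) (kg xg12 yg41 zg59) (kg xg12 yg38 zg55) (kg xg6 yg29 zg32) (kg xg6 yg40 zg46) (kg xg6 yg34 zg37) (kg xg10 yg27 zg26) (kg xg6 yg11 zg30) (kg xg10 yg2 zg28) (kg xg6 yg11 zg21) (kg xg12 yg29 zg39) (kg xg6 yg47 zg48) (kg xg6 yg11 zg29) (kg xg18 yg33 zg39) (kg xg21 yg8 zg11)) (@D3.rec (fun _ => Pt) (kg xg10 yg2 zg25) (kg xg18 yg32 zg37) (kg xg6 yg18 zg28) (kg xg6 yg37 zg2) (kg xg6 yg18 zg15) (kg xg21 yg8 zg21) (kg xg6 yg36 zg43) (kg xg16 yg3 zg10) (kg xg12 yg16 zg45) (kg xg9 yg18 zg36)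 (kg xg9 yg18 zg39) (kg xg8 yg24 zg61) (kg xg6 yg34 zg58) (kg xg12 yg16 zg47) (kg xg12 yg41 zg36) (kg xg12 yg16 zg48) (kg xg6 yg24 zg11) (kg xg12 yg39 zg0) (kg xg6 yg11 zg43) (kg xg21 yg8 zg33) (kg xg21 yg8 zg37) (kg xg21 yg8 zg39) (kg xg12 yg1 zg6) (kg xg14 yg54 zg38) (kg xg16 yg6 zg37) (kg xg9 yg29 zg2) (kg xg6 yg41 zg45) (kg xg6 yg11 zg48) (kg xg6 yg41 zg44) (kg xg21 yg8 zg56) (kg xg19 yg56 zg27) (kg xg12 yg56 zg50) (kg xg11 yg21 zg31) (kg xg6 yg11 zg57) (kg xg6 yg11 zg53) (kg xg21 yg9 zg3) (kg xg11 yg22 zg32) (kg xg17 yg45 zg1) (kg xg17 yg19 zg36) (kg xg20 yg11 zg57) (kg xg16 yg52 zg26) (kg xg15 yg50 zg49) (kg xg20 yg11 zg46) (kg xg6 yg11 zg61) (kg xg21 yg9 zg17) (kg xg10 yg21 zg40) (kg xg20 yg11 zg44) (kg xg21 yg9 zg23) (kg xg9 yg4 zg14) (kg xg6 yg12 zg2) (kg xg19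 yg25 zg26) (kg xg6 yg12 zg31) (kg xg6 yg12 zg6) (kg xg6 yg12 zg4) (kg xg15 yg25 zg0) (kg xg7 yg29 zg14) (kg xg19 yg27 zg21) (kg xg20 yg12 zg17) (kg xg9 yg1 zg39) (kg xg15 yg51 zg15) (kg xg16 yg52 zg35) (kg xg15 yg25 zg30)) (@D3.rec (fun _ => Pt) (kg xg9 yg20 zg8) (kg xg6 yg12 zg10) (kg xg11 yg16 zg24) (kg xg18 yg15 zg39) (kg xg12 yg55 zg17) (kg xg6 yg12 zg13) (kg xg11 yg51 zg18) (kg xg21 yg9 zg39) (kg xg17 yg15 zg48) (kg xg12 yg24 zg47) (kg xg17 yg33 zg60) (kg xg6 yg12 zg16) (kg xg17 yg34 zg0) (kg xg20 yg40 zg33) (kg xg6 yg12 zg19) (kg xg6 yg12 zg26) (kg xg18 yg26 zg15) (kg xg6 yg12 zg22) (kg xg6 yg42 zg6) (kg xg19 yg25 zg8) (kg xg6 yg12 zg24) (kg xg17 yg16 zg36) (kg xg14 yg4 zg51) (kg xg7 yg59 zg48) (kg xg11 yg24 zg25) (kg xg9 yg17 zg20) (kg xg21 yg9 zg50) (kg xg13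 yg10 zg0) (kg xg9 yg23 zg32) (kg xg17 yg17 zg0) (kg xg12 yg14 zg42) (kg xg6 yg47 zg15) (kg xg17 yg21 zg47) (kg xg10 yg42 zg39) (kg xg21 yg9 zg55) (kg xg17 yg21 zg28) (kg xg19 yg38 zg47) (kg xg11 yg25 zg22) (kg xg9 yg46 zg40) (kg xg9 yg0 zg15) (kg xg16 yg8 zg61) (kg xg6 yg22 zg14) (kg xg21 yg9 zg61) (kg xg12 yg17 zg25) (kg xg12 yg42 zg39) (kg xg12 yg26 zg60) (kg xg15 yg45 zg28) (kg xg12 yg51 zg57) (kg xg21 yg10 zg3) (kg xg13 yg1 zg12) (kg xg12 yg42 zg36) (kg xg9 yg28 zg56) (kg xg8 yg22 zg60) (kg xg9 yg19 zg8) (kg xg21 yg10 zg0) (kg xg6 yg12 zg61) (kg xg20 yg34 zg25) (kg xg18 yg0 zg51) (kg xg12 yg12 zg12) (kg xg9 yg19 zg9) (kg xg21 yg10 zg13) (kg xg21 yg10 zg16)) (@D3.rec (fun _ => Pt) (kg xg12 yg20 zg12) (kg xg16 yg6 zg29) (kg xg9 yg18 zg42) (kg xg11 yg39 zg18) (kg xg6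 yg13 zg4) (kg xg21 yg10 zg24) (kg xg6 yg13 zg6) (kg xg12 yg8 zg41) (kg xg21 yg10 zg30) (kg xg16 yg27 zg11) (kg xg21 yg10 zg35) (kg xg16 yg28 zg39) (kg xg12 yg6 zg6) (kg xg21 yg10 zg42) (kg xg6 yg13 zg40) (kg xg21 yg10 zg47) (kg xg8 yg45 zg23) (kg xg6 yg13 zg10) (kg xg21 yg10 zg54) (kg xg21 yg10 zg57) (kg xg8 yg46 zg55) (kg xg8 yg43 zg53) (kg xg13 yg38 zg26) (kg xg12 yg8 zg26) (kg xg21 yg11 zg3) (kg xg21 yg11 zg6) (kg xg9 yg8 zg18) (kg xg6 yg13 zg28) (kg xg6 yg13 zg18) (kg xg17 yg1 zg42) (kg xg6 yg13 zg26) (kg xg14 yg25 zg35) (kg xg9 yg8 zg61) (kg xg21 yg11 zg15) (kg xg17 yg4 zg8) (kg xg21 yg11 zg11) (kg xg9 yg8 zg59) (kg xg11 yg31 zg31) (kg xg9 yg8 zg56) (kg xg11 yg29 zg24) (kg xg9 yg8 zg54) (kg xg17 yg53 zg25) (kg xg6 yg13 zg27) (kg xg21 yg11 zg27) (kg xg17 yg2 zg5)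 (kg xg9 yg44 zg47) (kg xg20 yg9 zg13) (kg xg18 yg2 zg29) (kg xg6 yg13 zg29) (kg xg18 yg2 zg31) (kg xg12 yg22 zg40) (kg xg10 yg39 zg47) (kg xg16 yg25 zg15) (kg xg6 yg13 zg33) (kg xg14 yg50 zg29) (kg xg21 yg11 zg45) (kg xg14 yg59 zg33) (kg xg14 yg59 zg26) (kg xg21 yg11 zg46) (kg xg16 yg25 zg2) (kg xg15 yg8 zg27) (kg xg6 yg13 zg36)) (@D3.rec (fun _ => Pt) (kg xg16 yg32 zg26) (kg xg15 yg8 zg25) (kg xg21 yg11 zg61) (kg xg14 yg59 zg34) (kg xg21 yg12 zg4) (kg xg21 yg12 zg7) (kg xg12 yg5 zg14) (kg xg8 yg51 zg46) (kg xg21 yg12 zg14) (kg xg12 yg23 zg46) (kg xg11 yg23 zg26) (kg xg7 yg14 zg14) (kg xg11 yg6 zg49) (kg xg8 yg5 zg0) (kg xg7 yg57 zg8) (kg xg7 yg19 zg16) (kg xg8 yg50 zg28) (kg xg16 yg32 zg10) (kg xg13 yg27 zg38) (kg xg7 yg57 zg25) (kg xg8 yg50 zg25) (kg xg14 yg45 zg9)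 (kg xg7 yg57 zg15) (kg xg7 yg14 zg50) (kg xg16 yg32 zg17) (kg xg21 yg12 zg25) (kg xg16 yg25 zg13) (kg xg6 yg13 zg56) (kg xg13 yg58 zg61) (kg xg8 yg47 zg21) (kg xg8 yg47 zg0) (kg xg17 yg45 zg41) (kg xg16 yg24 zg57) (kg xg6 yg13 zg59) (kg xg18 yg9 zg25) (kg xg10 yg16 zg35) (kg xg21 yg12 zg39) (kg xg13 yg41 zg0) (kg xg18 yg21 zg48) (kg xg12 yg6 zg41) (kg xg21 yg12 zg41) (kg xg8 yg44 zg4) (kg xg11 yg23 zg33) (kg xg18 yg20 zg3) (kg xg13 yg41 zg42) (kg xg16 yg20 zg58) (kg xg19 yg0 zg4) (kg xg8 yg1 zg5) (kg xg21 yg12 zg55) (kg xg8 yg46 zg49) (kg xg20 yg13 zg61) (kg xg6 yg14 zg11) (kg xg20 yg13 zg60) (kg xg16 yg24 zg21) (kg xg12 yg22 zg42) (kg xg8 yg46 zg54) (kg xg6 yg24 zg28) (kg xg21 yg13 zg0) (kg xg16 yg24 zg14) (kg xg6 yg17 zg14) (kg xg21 yg13 zg8) (kg xg19 yg51 zg23))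 (@D3.rec (fun _ => Pt) (kg xg21 yg13 zg10) (kg xg6 yg14 zg18) (kg xg18 yg58 zg34) (kg xg21 yg13 zg9) (kg xg17 yg55 zg6) (kg xg12 yg8 zg6) (kg xg6 yg14 zg29) (kg xg21 yg13 zg16) (kg xg16 yg27 zg51) (kg xg11 yg23 zg23) (kg xg6 yg14 zg24) (kg xg18 yg32 zg47) (kg xg11 yg23 zg21) (kg xg11 yg23 zg39) (kg xg21 yg13 zg24) (kg xg21 yg13 zg26) (kg xg18 yg20 zg44) (kg xg11 yg34 zg13) (kg xg7 yg56 zg29) (kg xg6 yg14 zg48) (kg xg15 yg4 zg1) (kg xg9 yg2 zg61) (kg xg21 yg9 zg4) (kg xg6 yg14 zg34) (kg xg15 yg50 zg33) (kg xg11 yg34 zg8) (kg xg15 yg4 zg44) (kg xg20 yg47 zg23) (kg xg21 yg13 zg38) (kg xg6 yg14 zg45) (kg xg6 yg14 zg38) (kg xg6 yg14 zg43) (kg xg7 yg14 zg29) (kg xg9 yg27 zg37) (kg xg21 yg13 zg41) (kg xg6 yg14 zg41) (kg xg21 yg13 zg47) (kg xg21 yg13 zg39) (kg xg21 yg13 zg51)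 (kg xg21 yg13 zg55) (kg xg13 yg14 zg17) (kg xg20 yg31 zg31) (kg xg7 yg17 zg19) (kg xg20 yg31 zg16) (kg xg21 yg13 zg57) (kg xg21 yg14 zg4) (kg xg7 yg17 zg13) (kg xg6 yg14 zg44) (kg xg7 yg17 zg12) (kg xg9 yg8 zg12) (kg xg9 yg44 zg35) (kg xg11 yg49 zg46) (kg xg13 yg50 zg31) (kg xg14 yg44 zg26) (kg xg20 yg6 zg23) (kg xg6 yg14 zg50) (kg xg14 yg44 zg21) (kg xg13 yg14 zg48) (kg xg6 yg14 zg51) (kg xg7 yg57 zg2) (kg xg8 yg51 zg25) (kg xg6 yg14 zg52)) (@D3.rec (fun _ => Pt) (kg xg8 yg49 zg36) (kg xg8 yg49 zg61) (kg xg21 yg14 zg18) (kg xg20 yg6 zg10) (kg xg14 yg47 zg19) (kg xg16 yg32 zg16) (kg xg12 yg7 zg7) (kg xg8 yg51 zg29) (kg xg7 yg23 zg11) (kg xg13 yg42 zg42) (kg xg7 yg17 zg47) (kg xg8 yg49 zg49) (kg xg7 yg23 zg4) (kg xg21 yg14 zg28) (kg xg7 yg4 zg25) (kg xg6 yg14 zg57) (kg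 xg21 yg14 zg33) (kg xg7 yg21 zg53) (kg xg7 yg17 zg18) (kg xg6 yg15 zg4) (kg xg13 yg27 zg61) (kg xg6 yg15 zg0) (kg xg15 yg4 zg47) (kg xg7 yg14 zg46) (kg xg21 yg14 zg41) (kg xg7 yg14 zg47) (kg xg9 yg51 zg24) (kg xg7 yg49 zg8) (kg xg13 yg50 zg8) (kg xg7 yg17 zg43) (kg xg7 yg17 zg44) (kg xg21 yg14 zg49) (kg xg7 yg17 zg20) (kg xg6 yg15 zg7) (kg xg13 yg28 zg0) (kg xg6 yg15 zg10) (kg xg8 yg2 zg20) (kg xg15 yg13 zg26) (kg xg6 yg15 zg11) (kg xg21 yg14 zg58) (kg xg7 yg6 zg46) (kg xg12 yg5 zg9) (kg xg8 yg46 zg9) (kg xg8 yg42 zg52) (kg xg13 yg40 zg61) (kg xg11 yg12 zg33) (kg xg21 yg15 zg4) (kg xg20 yg8 zg1) (kg xg21 yg15 zg7) (kg xg11 yg14 zg0) (kg xg11 yg26 zg54) (kg xg9 yg0 zg10) (kg xg9 yg2 zg27) (kg xg7 yg39 zg14) (kg xg9 yg2 zg28) (kg xg20 yg18 zg35) (kg xg9 yg45 zg14) (kg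 xg9 yg2 zg23) (kg xg16 yg51 zg27) (kg xg21 yg15 zg13) (kg xg20 yg6 zg59) (kg xg6 yg15 zg34)) (@D3.rec (fun _ => Pt) (kg xg12 yg46 zg10) (kg xg11 yg25 zg20) (kg xg6 yg15 zg35) (kg xg21 yg15 zg19) (kg xg9 yg17 zg11) (kg xg21 yg12 zg29) (kg xg20 yg1 zg11) (kg xg20 yg1 zg36) (kg xg9 yg3 zg50) (kg xg12 yg44 zg57) (kg xg17 yg15 zg41) (kg xg6 yg15 zg42) (kg xg21 yg15 zg28) (kg xg17 yg15 zg39) (kg xg17 yg15 zg43) (kg xg6 yg15 zg43) (kg xg14 yg58 zg41) (kg xg7 yg59 zg15) (kg xg11 yg35 zg5) (kg xg11 yg48 zg28) (kg xg9 yg8 zg48) (kg xg11 yg34 zg60) (kg xg20 yg0 zg17) (kg xg11 yg34 zg58) (kg xg12 yg9 zg22) (kg xg7 yg59 zg17) (kg xg15 yg5 zg32) (kg xg6 yg32 zg0) (kg xg20 yg19 zg50) (kg xg11 yg32 zg58) (kg xg6 yg51 zg2) (kg xg20 yg22 zg28) (kg xg6 yg15 zg58) (kg xg11 yg58 zg34) (kg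 xg17 yg9 zg15) (kg xg17 yg15 zg36) (kg xg6 yg15 zg60) (kg xg21 yg15 zg39) (kg xg17 yg15 zg34) (kg xg15 yg4 zg43) (kg xg15 yg4 zg42) (kg xg14 yg59 zg58) (kg xg10 yg5 zg0) (kg xg20 yg22 zg30) (kg xg11 yg28 zg53) (kg xg6 yg16 zg4) (kg xg9 yg8 zg40) (kg xg11 yg28 zg51) (kg xg19 yg27 zg46) (kg xg17 yg59 zg59) (kg xg8 yg0 zg28) (kg xg19 yg52 zg46) (kg xg18 yg23 zg56) (kg xg11 yg58 zg37) (kg xg12 yg10 zg57) (kg xg10 yg57 zg33) (kg xg10 yg48 zg29) (kg xg6 yg16 zg19) (kg xg6 yg16 zg39) (kg xg9 yg48 zg11) (kg xg12 yg8 zg53) (kg xg6 yg17 zg4)) (@D3.rec (fun _ => Pt) (kg xg11 yg1 zg22) (kg xg13 yg52 zg61) (kg xg9 yg48 zg20) (kg xg8 yg0 zg12) (kg xg12 yg10 zg59) (kg xg16 yg45 zg6) (kg xg6 yg16 zg30) (kg xg10 yg47 zg1) (kg xg8 yg0 zg19) (kg xg19 yg49 zg59) (kg xg7 yg41 zg2) (kg xg19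 yg51 zg19) (kg xg6 yg16 zg35) (kg xg18 yg23 zg13) (kg xg19 yg51 zg16) (kg xg19 yg34 zg10) (kg xg6 yg16 zg37) (kg xg17 yg8 zg21) (kg xg7 yg34 zg5) (kg xg19 yg51 zg14) (kg xg9 yg16 zg24) (kg xg7 yg34 zg7) (kg xg19 yg43 zg34) (kg xg17 yg24 zg36) (kg xg6 yg16 zg40) (kg xg12 yg31 zg33) (kg xg21 yg16 zg6) (kg xg7 yg33 zg59) (kg xg6 yg16 zg41) (kg xg21 yg16 zg10) (kg xg17 yg4 zg44) (kg xg6 yg16 zg44) (kg xg15 yg25 zg41) (kg xg17 yg12 zg59) (kg xg19 yg39 zg23) (kg xg11 yg27 zg53) (kg xg6 yg16 zg50) (kg xg9 yg25 zg14) (kg xg6 yg16 zg52) (kg xg6 yg16 zg55) (kg xg14 yg19 zg50) (kg xg12 yg14 zg61) (kg xg11 yg6 zg19) (kg xg12 yg30 zg21) (kg xg9 yg10 zg22) (kg xg6 yg25 zg25) (kg xg6 yg16 zg54) (kg xg20 yg11 zg37) (kg xg20 yg9 zg26) (kg xg17 yg8 zg1) (kg xg6 yg16 zg56) (kg xg9 yg22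 zg21) (kg xg20 yg50 zg60) (kg xg11 yg27 zg37) (kg xg20 yg7 zg16) (kg xg11 yg26 zg48) (kg xg11 yg27 zg15) (kg xg12 yg10 zg4) (kg xg11 yg8 zg0) (kg xg12 yg9 zg54) (kg xg11 yg27 zg58) (kg xg10 yg49 zg40)) (@D3.rec (fun _ => Pt) (kg xg11 yg25 zg60) (kg xg21 yg16 zg18) (kg xg10 yg52 zg33) (kg xg6 yg17 zg11) (kg xg11 yg7 zg29) (kg xg8 yg34 zg49) (kg xg6 yg17 zg40) (kg xg21 yg16 zg21) (kg xg17 yg27 zg41) (kg xg9 yg15 zg61) (kg xg6 yg17 zg20) (kg xg18 yg57 zg55) (kg xg6 yg17 zg29) (kg xg6 yg17 zg21) (kg xg13 yg15 zg14) (kg xg6 yg17 zg27) (kg xg6 yg28 zg33) (kg xg9 yg24 zg57) (kg xg21 yg16 zg34) (kg xg17 yg11 zg31) (kg xg6 yg17 zg25) (kg xg18 yg48 zg54) (kg xg17 yg11 zg29) (kg xg9 yg28 zg48) (kg xg17 yg19 zg0) (kg xg9 yg28 zg44) (kg xg12 yg32 zg40) (kg xg21 yg16 zg32) (kg xg6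 yg17 zg28) (kg xg17 yg28 zg29) (kg xg17 yg26 zg28) (kg xg6 yg29 zg43) (kg xg6 yg17 zg33) (kg xg15 yg26 zg55) (kg xg9 yg28 zg39) (kg xg10 yg51 zg59) (kg xg17 yg21 zg60) (kg xg21 yg16 zg56) (kg xg12 yg52 zg11) (kg xg6 yg17 zg36) (kg xg21 yg17 zg3) (kg xg21 yg17 zg7) (kg xg21 yg17 zg11) (kg xg12 yg16 zg1) (kg xg8 yg33 zg22) (kg xg21 yg17 zg17) (kg xg12 yg15 zg58) (kg xg21 yg17 zg22) (kg xg12 yg21 zg5) (kg xg21 yg17 zg27) (kg xg6 yg23 zg57) (kg xg6 yg42 zg57) (kg xg6 yg17 zg44) (kg xg9 yg28 zg21) (kg xg21 yg17 zg35) (kg xg9 yg21 zg50) (kg xg6 yg17 zg45) (kg xg21 yg17 zg42) (kg xg9 yg24 zg12) (kg xg16 yg0 zg4) (kg xg6 yg38 zg34) (kg xg12 yg13 zg38)) (@D3.rec (fun _ => Pt) (kg xg12 yg32 zg5) (kg xg7 yg27 zg5) (kg xg13 yg1 zg11) (kg xg21 yg17 zg48) (kg xg11 yg59 zg51) (kg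 xg11 yg59 zg61) (kg xg8 yg35 zg26) (kg xg12 yg39 zg27) (kg xg6 yg17 zg58) (kg xg21 yg17 zg51) (kg xg21 yg17 zg54) (kg xg11 yg58 zg36) (kg xg6 yg28 zg56) (kg xg6 yg23 zg32) (kg xg21 yg4 zg48) (kg xg16 yg0 zg17) (kg xg12 yg39 zg50) (kg xg21 yg17 zg57) (kg xg6 yg22 zg19) (kg xg21 yg18 zg5) (kg xg21 yg18 zg8) (kg xg16 yg3 zg56) (kg xg6 yg22 zg33) (kg xg21 yg18 zg14) (kg xg21 yg4 zg55) (kg xg13 yg0 zg28) (kg xg9 yg49 zg9) (kg xg11 yg19 zg12) (kg xg12 yg42 zg20) (kg xg6 yg21 zg22) (kg xg12 yg3 zg8) (kg xg6 yg18 zg45) (kg xg15 yg46 zg11) (kg xg13 yg37 zg46) (kg xg11 yg24 zg12) (kg xg6 yg18 zg13) (kg xg21 yg3 zg26) (kg xg18 yg32 zg32) (kg xg20 yg36 zg24) (kg xg6 yg59 zg6) (kg xg9 yg21 zg10) (kg xg6 yg59 zg5) (kg xg21 yg18 zg29) (kg xg12 yg18 zg41) (kg xg12 yg1 zg57) (kg xg17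 yg30 zg61) (kg xg6 yg34 zg61) (kg xg6 yg18 zg23) (kg xg6 yg35 zg5) (kg xg17 yg13 zg8) (kg xg21 yg18 zg37) (kg xg11 yg18 zg57) (kg xg21 yg18 zg41) (kg xg17 yg59 zg14) (kg xg21 yg18 zg44) (kg xg21 yg18 zg28) (kg xg6 yg18 zg27) (kg xg20 yg12 zg60) (kg xg11 yg18 zg30) (kg xg18 yg22 zg38) (kg xg6 yg36 zg61) (kg xg6 yg38 zg35)) (@D3.rec (fun _ => Pt) (kg xg6 yg18 zg35) (kg xg21 yg18 zg54) (kg xg12 yg36 zg47) (kg xg6 yg18 zg36) (kg xg12 yg36 zg48) (kg xg12 yg2 zg37) (kg xg9 yg28 zg59) (kg xg6 yg59 zg9) (kg xg6 yg37 zg17) (kg xg8 yg22 zg59) (kg xg21 yg18 zg60) (kg xg21 yg8 zg22) (kg xg21 yg19 zg2) (kg xg12 yg33 zg6) (kg xg8 yg34 zg9) (kg xg12 yg18 zg38) (kg xg12 yg18 zg37) (kg xg15 yg43 zg2) (kg xg21 yg18 zg22) (kg xg12 yg47 zg50) (kg xg21 yg19 zg13) (kg xg21 yg18 zg12) (kg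 xg12 yg18 zg46) (kg xg12 yg27 zg13) (kg xg6 yg18 zg47) (kg xg12 yg27 zg12) (kg xg21 yg19 zg25) (kg xg12 yg13 zg29) (kg xg6 yg18 zg48) (kg xg12 yg13 zg28) (kg xg21 yg19 zg29) (kg xg12 yg39 zg60) (kg xg12 yg28 zg32) (kg xg21 yg19 zg33) (kg xg6 yg18 zg53) (kg xg18 yg26 zg18) (kg xg21 yg19 zg39) (kg xg21 yg19 zg36) (kg xg6 yg19 zg29) (kg xg13 yg0 zg42) (kg xg12 yg20 zg27) (kg xg17 yg13 zg34) (kg xg21 yg19 zg44) (kg xg6 yg22 zg13) (kg xg6 yg22 zg45) (kg xg21 yg19 zg54) (kg xg14 yg9 zg41) (kg xg6 yg48 zg13) (kg xg6 yg22 zg49) (kg xg6 yg18 zg61) (kg xg21 yg19 zg60) (kg xg14 yg9 zg54) (kg xg6 yg19 zg0) (kg xg6 yg49 zg24) (kg xg6 yg23 zg9) (kg xg12 yg15 zg16) (kg xg12 yg27 zg47) (kg xg12 yg15 zg45) (kg xg12 yg14 zg29) (kg xg12 yg28 zg41) (kg xg9 yg22 zg53) (kg xg6 yg48 zg18))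 (@D3.rec (fun _ => Pt) (kg xg9 yg11 zg42) (kg xg18 yg37 zg43) (kg xg11 yg38 zg29) (kg xg12 yg28 zg44) (kg xg12 yg28 zg14) (kg xg6 yg19 zg21) (kg xg10 yg53 zg11) (kg xg20 yg51 zg44) (kg xg12 yg28 zg34) (kg xg12 yg42 zg29) (kg xg6 yg19 zg28) (kg xg12 yg45 zg5) (kg xg10 yg6 zg22) (kg xg21 yg20 zg12) (kg xg12 yg14 zg53) (kg xg12 yg27 zg49) (kg xg12 yg27 zg42) (kg xg6 yg47 zg56) (kg xg7 yg43 zg57) (kg xg6 yg45 zg17) (kg xg18 yg0 zg20) (kg xg17 yg8 zg4) (kg xg21 yg20 zg21) (kg xg6 yg19 zg38) (kg xg15 yg46 zg24) (kg xg6 yg20 zg25) (kg xg21 yg20 zg23) (kg xg14 yg11 zg15) (kg xg6 yg20 zg35) (kg xg12 yg13 zg57) (kg xg12 yg45 zg12) (kg xg17 yg10 zg21) (kg xg6 yg19 zg49) (kg xg17 yg50 zg23) (kg xg17 yg7 zg32) (kg xg10 yg44 zg25) (kg xg12 yg40 zg50) (kg xg6 yg19 zg53) (kg xg9 yg23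 zg50) (kg xg13 yg56 zg18) (kg xg13 yg17 zg50) (kg xg17 yg25 zg20) (kg xg9 yg17 zg34) (kg xg12 yg40 zg41) (kg xg12 yg45 zg53) (kg xg12 yg38 zg3) (kg xg6 yg20 zg0) (kg xg15 yg49 zg12) (kg xg9 yg32 zg50) (kg xg6 yg20 zg1) (kg xg17 yg33 zg19) (kg xg12 yg21 zg50) (kg xg6 yg20 zg3) (kg xg12 yg2 zg58) (kg xg17 yg15 zg47) (kg xg6 yg20 zg30) (kg xg17 yg2 zg22) (kg xg11 yg40 zg19) (kg xg6 yg20 zg28) (kg xg11 yg48 zg12) (kg xg17 yg15 zg56) (kg xg12 yg10 zg44)) (@D3.rec (fun _ => Pt) (kg xg17 yg15 zg57) (kg xg6 yg20 zg12) (kg xg21 yg9 zg43) (kg xg12 yg58 zg41) (kg xg6 yg20 zg13) (kg xg16 yg57 zg34) (kg xg11 yg11 zg8) (kg xg6 yg20 zg14) (kg xg11 yg45 zg20) (kg xg21 yg20 zg24) (kg xg18 yg24 zg39) (kg xg10 yg5 zg21) (kg xg9 yg32 zg53) (kg xg6 yg20 zg18) (kg xg12 yg19 zg42) (kg xg6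 yg20 zg19) (kg xg12 yg14 zg17) (kg xg6 yg37 zg51) (kg xg12 yg28 zg27) (kg xg9 yg14 zg34) (kg xg9 yg55 zg60) (kg xg12 yg25 zg22) (kg xg10 yg18 zg21) (kg xg9 yg24 zg32) (kg xg9 yg55 zg52) (kg xg17 yg52 zg15) (kg xg9 yg57 zg15) (kg xg21 yg20 zg26) (kg xg21 yg20 zg25) (kg xg21 yg20 zg51) (kg xg21 yg20 zg52) (kg xg6 yg20 zg31) (kg xg17 yg3 zg11) (kg xg14 yg4 zg21) (kg xg21 yg20 zg55) (kg xg21 yg20 zg49) (kg xg9 yg18 zg45) (kg xg21 yg20 zg45) (kg xg10 yg53 zg23) (kg xg12 yg4 zg35) (kg xg10 yg53 zg24) (kg xg6 yg20 zg39) (kg xg12 yg4 zg36) (kg xg14 yg35 zg61) (kg xg6 yg20 zg49) (kg xg12 yg13 zg58) (kg xg14 yg14 zg13) (kg xg12 yg4 zg46) (kg xg17 yg10 zg10) (kg xg6 yg20 zg47) (kg xg12 yg4 zg48) (kg xg6 yg20 zg48) (kg xg21 yg21 zg4) (kg xg8 yg23 zg10) (kg xg8 yg19 zg44) (kg xg12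 yg24 zg57) (kg xg6 yg23 zg58) (kg xg15 yg47 zg22) (kg xg12 yg11 zg8) (kg xg12 yg21 zg51) (kg xg13 yg15 zg16) (kg xg6 yg20 zg56)) (@D3.rec (fun _ => Pt) (kg xg21 yg21 zg9) (kg xg9 yg15 zg58) (kg xg17 yg17 zg58) (kg xg17 yg18 zg10) (kg xg6 yg20 zg60) (kg xg8 yg31 zg32) (kg xg18 yg52 zg20) (kg xg12 yg26 zg52) (kg xg9 yg47 zg18) (kg xg6 yg21 zg4) (kg xg21 yg21 zg13) (kg xg6 yg21 zg17) (kg xg6 yg21 zg6) (kg xg12 yg41 zg51) (kg xg12 yg38 zg39) (kg xg6 yg21 zg7) (kg xg12 yg38 zg38) (kg xg21 yg21 zg16) (kg xg21 yg21 zg14) (kg xg6 yg21 zg9) (kg xg21 yg21 zg22) (kg xg18 yg36 zg16) (kg xg12 yg36 zg61) (kg xg6 yg21 zg10) (kg xg21 yg21 zg32) (kg xg8 yg34 zg11) (kg xg18 yg16 zg1) (kg xg6 yg38 zg48) (kg xg6 yg38 zg7) (kg xg7 yg48 zg53) (kg xg12 yg15 zg55) (kg xg6 yg38 zg4) (kg xg21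 yg21 zg46) (kg xg6 yg38 zg0) (kg xg13 yg15 zg56) (kg xg6 yg21 zg16) (kg xg21 yg21 zg51) (kg xg12 yg42 zg11) (kg xg12 yg41 zg52) (kg xg17 yg58 zg47) (kg xg17 yg58 zg48) (kg xg21 yg21 zg58) (kg xg14 yg54 zg32) (kg xg12 yg38 zg58) (kg xg12 yg0 zg40) (kg xg12 yg0 zg43) (kg xg17 yg10 zg4) (kg xg12 yg3 zg9) (kg xg12 yg3 zg10) (kg xg12 yg16 zg51) (kg xg6 yg34 zg21) (kg xg21 yg22 zg4) (kg xg21 yg22 zg7) (kg xg6 yg21 zg28) (kg xg9 yg23 zg2) (kg xg21 yg22 zg13) (kg xg16 yg5 zg1) (kg xg12 yg49 zg46) (kg xg17 yg30 zg51) (kg xg15 yg42 zg37) (kg xg6 yg21 zg32) (kg xg21 yg22 zg19)) (@D3.rec (fun _ => Pt) (kg xg16 yg5 zg23) (kg xg6 yg37 zg9) (kg xg9 yg6 zg1) (kg xg9 yg49 zg35) (kg xg9 yg49 zg39) (kg xg11 yg29 zg3) (kg xg9 yg50 zg37) (kg xg7 yg53 zg6) (kg xg6 yg21 zg38) (kg xg21 yg22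 zg26) (kg xg9 yg18 zg43) (kg xg21 yg22 zg30) (kg xg6 yg42 zg59) (kg xg21 yg22 zg34) (kg xg6 yg42 zg61) (kg xg17 yg13 zg55) (kg xg6 yg21 zg46) (kg xg17 yg13 zg54) (kg xg11 yg19 zg37) (kg xg21 yg22 zg46) (kg xg11 yg50 zg49) (kg xg9 yg15 zg38) (kg xg7 yg27 zg2) (kg xg7 yg27 zg6) (kg xg13 yg0 zg59) (kg xg12 yg31 zg21) (kg xg8 yg23 zg14) (kg xg6 yg29 zg48) (kg xg20 yg22 zg29) (kg xg6 yg31 zg58) (kg xg6 yg21 zg55) (kg xg6 yg44 zg15) (kg xg17 yg20 zg40) (kg xg6 yg22 zg48) (kg xg15 yg48 zg56) (kg xg6 yg22 zg0) (kg xg6 yg21 zg59) (kg xg18 yg8 zg16) (kg xg21 yg10 zg4) (kg xg12 yg58 zg17) (kg xg13 yg2 zg8) (kg xg6 yg41 zg60) (kg xg12 yg50 zg2) (kg xg20 yg51 zg19) (kg xg11 yg34 zg49) (kg xg9 yg6 zg5) (kg xg13 yg1 zg39) (kg xg6 yg22 zg3) (kg xg12 yg57 zg54) (kg xg17 yg13 zg46) (kg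 xg6 yg22 zg7) (kg xg17 yg13 zg45) (kg xg21 yg23 zg13) (kg xg21 yg23 zg15) (kg xg21 yg23 zg16) (kg xg12 yg39 zg4) (kg xg21 yg23 zg18) (kg xg21 yg8 zg28) (kg xg11 yg18 zg14) (kg xg17 yg52 zg41) (kg xg6 yg22 zg18) (kg xg21 yg23 zg24)) (@D3.rec (fun _ => Pt) (kg xg21 yg10 zg2) (kg xg12 yg50 zg48) (kg xg6 yg22 zg17) (kg xg12 yg26 zg54) (kg xg18 yg1 zg27) (kg xg17 yg13 zg59) (kg xg17 yg13 zg58) (kg xg15 yg57 zg13) (kg xg21 yg23 zg39) (kg xg6 yg22 zg22) (kg xg6 yg22 zg20) (kg xg6 yg22 zg21) (kg xg12 yg5 zg2) (kg xg12 yg48 zg38) (kg xg21 yg23 zg44) (kg xg7 yg55 zg44) (kg xg21 yg23 zg54) (kg xg21 yg23 zg56) (kg xg21 yg23 zg57) (kg xg21 yg23 zg43) (kg xg17 yg42 zg6) (kg xg17 yg41 zg51) (kg xg6 yg22 zg26) (kg xg21 yg24 zg5) (kg xg21 yg24 zg10) (kg xg21 yg23 zg35) (kg xg11 yg31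 zg37) (kg xg13 yg0 zg13) (kg xg11 yg47 zg32) (kg xg8 yg37 zg26) (kg xg9 yg32 zg22) (kg xg21 yg24 zg17) (kg xg21 yg24 zg18) (kg xg12 yg27 zg10) (kg xg21 yg24 zg23) (kg xg21 yg5 zg60) (kg xg8 yg21 zg7) (kg xg6 yg22 zg34) (kg xg6 yg28 zg5) (kg xg12 yg12 zg43) (kg xg21 yg24 zg29) (kg xg6 yg27 zg58) (kg xg17 yg14 zg16) (kg xg6 yg22 zg37) (kg xg14 yg3 zg20) (kg xg21 yg19 zg20) (kg xg12 yg0 zg48) (kg xg21 yg24 zg42) (kg xg12 yg59 zg23) (kg xg21 yg24 zg46) (kg xg7 yg20 zg42) (kg xg15 yg48 zg45) (kg xg21 yg24 zg47) (kg xg12 yg59 zg28) (kg xg10 yg0 zg6) (kg xg17 yg13 zg25) (kg xg6 yg22 zg42) (kg xg12 yg59 zg22) (kg xg8 yg36 zg36) (kg xg21 yg24 zg59) (kg xg14 yg5 zg7) (kg xg6 yg22 zg46)) (@D3.rec (fun _ => Pt) (kg xg17 yg36 zg30) (kg xg18 yg7 zg54) (kg xg6 yg22 zg58) (kg xg6 yg22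 zg57) (kg xg21 yg25 zg6) (kg xg14 yg4 zg24) (kg xg15 yg48 zg54) (kg xg21 yg25 zg11) (kg xg7 yg5 zg25) (kg xg18 yg7 zg53) (kg xg6 yg27 zg39) (kg xg6 yg27 zg4) (kg xg13 yg37 zg15) (kg xg6 yg22 zg53) (kg xg13 yg37 zg14) (kg xg21 yg25 zg24) (kg xg18 yg4 zg8) (kg xg7 yg11 zg28) (kg xg6 yg22 zg54) (kg xg21 yg25 zg32) (kg xg12 yg58 zg54) (kg xg6 yg22 zg55) (kg xg10 yg30 zg10) (kg xg12 yg21 zg49) (kg xg11 yg59 zg48) (kg xg21 yg25 zg39) (kg xg19 yg0 zg42) (kg xg12 yg20 zg54) (kg xg12 yg59 zg3) (kg xg12 yg27 zg30) (kg xg21 yg23 zg12) (kg xg15 yg47 zg52) (kg xg21 yg25 zg44) (kg xg6 yg27 zg7) (kg xg21 yg25 zg50) (kg xg21 yg25 zg52) (kg xg6 yg23 zg0) (kg xg21 yg25 zg56) (kg xg21 yg23 zg7) (kg xg21 yg5 zg41) (kg xg12 yg59 zg2) (kg xg17 yg16 zg27) (kg xg12 yg15 zg15) (kg xg6 yg28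 zg2) (kg xg16 yg17 zg45) (kg xg17 yg27 zg21) (kg xg6 yg23 zg17) (kg xg6 yg23 zg16) (kg xg16 yg18 zg9) (kg xg21 yg25 zg61) (kg xg12 yg26 zg41) (kg xg6 yg23 zg12) (kg xg12 yg26 zg40) (kg xg21 yg26 zg4) (kg xg18 yg7 zg22) (kg xg18 yg29 zg16) (kg xg12 yg50 zg20) (kg xg6 yg23 zg14) (kg xg17 yg30 zg36) (kg xg17 yg30 zg16) (kg xg9 yg29 zg31) (kg xg21 yg25 zg2)) (@D3.rec (fun _ => Pt) (kg xg9 yg20 zg48) (kg xg9 yg29 zg28) (kg xg17 yg35 zg19) (kg xg16 yg16 zg51) (kg xg21 yg26 zg18) (kg xg21 yg26 zg21) (kg xg6 yg23 zg21) (kg xg21 yg26 zg27) (kg xg21 yg26 zg19) (kg xg20 yg13 zg8) (kg xg9 yg38 zg48) (kg xg6 yg23 zg27) (kg xg13 yg0 zg16) (kg xg9 yg33 zg1) (kg xg12 yg12 zg16) (kg xg21 yg26 zg32) (kg xg12 yg5 zg0) (kg xg7 yg55 zg26) (kg xg8 yg39 zg57) (kg xg8 yg40 zg1) (kg xg21 yg19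 zg47) (kg xg9 yg10 zg42) (kg xg9 yg38 zg46) (kg xg8 yg40 zg4) (kg xg12 yg58 zg35) (kg xg21 yg17 zg56) (kg xg9 yg33 zg8) (kg xg12 yg13 zg42) (kg xg21 yg10 zg11) (kg xg20 yg28 zg31) (kg xg16 yg2 zg30) (kg xg21 yg26 zg35) (kg xg9 yg18 zg19) (kg xg6 yg23 zg35) (kg xg8 yg25 zg38) (kg xg9 yg32 zg52) (kg xg6 yg26 zg23) (kg xg13 yg0 zg18) (kg xg21 yg26 zg46) (kg xg6 yg26 zg24) (kg xg21 yg25 zg17) (kg xg21 yg24 zg58) (kg xg12 yg28 zg20) (kg xg6 yg23 zg39) (kg xg15 yg49 zg16) (kg xg8 yg37 zg7) (kg xg6 yg23 zg40) (kg xg15 yg47 zg49) (kg xg21 yg26 zg59) (kg xg13 yg0 zg11) (kg xg20 yg13 zg9) (kg xg12 yg4 zg61) (kg xg8 yg25 zg33) (kg xg13 yg0 zg0) (kg xg12 yg19 zg25) (kg xg12 yg26 zg51) (kg xg17 yg34 zg55) (kg xg21 yg27 zg1) (kg xg9 yg28 zg19) (kg xg21 yg27 zg6) (kg xg17 yg19 zg26)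 (kg xg21 yg27 zg10)) (@D3.rec (fun _ => Pt) (kg xg17 yg14 zg45) (kg xg6 yg23 zg56) (kg xg17 yg14 zg44) (kg xg16 yg0 zg24) (kg xg21 yg27 zg17) (kg xg12 yg11 zg50) (kg xg21 yg27 zg22) (kg xg12 yg33 zg26) (kg xg15 yg48 zg40) (kg xg21 yg27 zg25) (kg xg17 yg16 zg12) (kg xg21 yg26 zg44) (kg xg21 yg27 zg26) (kg xg15 yg36 zg60) (kg xg10 yg27 zg22) (kg xg21 yg21 zg10) (kg xg6 yg24 zg0) (kg xg12 yg27 zg31) (kg xg8 yg25 zg44) (kg xg21 yg27 zg43) (kg xg17 yg14 zg22) (kg xg6 yg24 zg4) (kg xg6 yg24 zg10) (kg xg21 yg27 zg49) (kg xg8 yg21 zg43) (kg xg13 yg37 zg42) (kg xg6 yg24 zg6) (kg xg13 yg37 zg41) (kg xg12 yg48 zg37) (kg xg21 yg27 zg61) (kg xg21 yg28 zg2) (kg xg21 yg18 zg13) (kg xg6 yg24 zg8) (kg xg21 yg28 zg9) (kg xg17 yg14 zg21) (kg xg9 yg18 zg59) (kg xg8 yg22 zg57) (kg xg12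 yg0 zg61) (kg xg6 yg28 zg3) (kg xg21 yg5 zg43) (kg xg21 yg26 zg60) (kg xg17 yg16 zg26) (kg xg16 yg3 zg24) (kg xg6 yg27 zg15) (kg xg17 yg33 zg26) (kg xg17 yg33 zg22) (kg xg6 yg24 zg15) (kg xg11 yg59 zg49) (kg xg11 yg59 zg45) (kg xg12 yg19 zg1) (kg xg12 yg14 zg52) (kg xg12 yg0 zg22) (kg xg12 yg0 zg32) (kg xg21 yg28 zg34) (kg xg17 yg15 zg21) (kg xg8 yg47 zg55) (kg xg18 yg29 zg58) (kg xg12 yg8 zg9) (kg xg21 yg28 zg41) (kg xg11 yg50 zg11) (kg xg11 yg37 zg39) (kg xg21 yg28 zg45)) (@D3.rec (fun _ => Pt) (kg xg11 yg7 zg52) (kg xg9 yg9 zg55) (kg xg9 yg9 zg26) (kg xg21 yg15 zg25) (kg xg9 yg45 zg33) (kg xg8 yg43 zg41) (kg xg17 yg9 zg54) (kg xg21 yg28 zg51) (kg xg6 yg24 zg44) (kg xg6 yg24 zg38) (kg xg6 yg24 zg42) (kg xg18 yg16 zg14) (kg xg21 yg28 zg54) (kg xg6 yg24 zg40) (kg xg21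 yg28 zg59) (kg xg21 yg28 zg52) (kg xg13 yg38 zg42) (kg xg18 yg14 zg9) (kg xg11 yg20 zg10) (kg xg20 yg8 zg40) (kg xg12 yg8 zg49) (kg xg21 yg29 zg2) (kg xg11 yg47 zg16) (kg xg6 yg24 zg43) (kg xg16 yg24 zg49) (kg xg21 yg29 zg6) (kg xg8 yg38 zg17) (kg xg12 yg32 zg19) (kg xg15 yg8 zg10) (kg xg12 yg32 zg12) (kg xg6 yg24 zg51) (kg xg6 yg24 zg48) (kg xg21 yg29 zg14) (kg xg21 yg29 zg18) (kg xg6 yg24 zg49) (kg xg16 yg25 zg1) (kg xg8 yg50 zg42) (kg xg16 yg23 zg39) (kg xg21 yg29 zg23) (kg xg21 yg29 zg15) (kg xg15 yg6 zg7) (kg xg15 yg8 zg37) (kg xg12 yg6 zg57) (kg xg8 yg1 zg23) (kg xg14 yg5 zg16) (kg xg21 yg12 zg34) (kg xg21 yg11 zg44) (kg xg16 yg25 zg11) (kg xg6 yg24 zg54) (kg xg21 yg29 zg42) (kg xg16 yg25 zg9) (kg xg13 yg38 zg23) (kg xg18 yg18 zg36) (kg xg16 yg23 zg46) (kg xg6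 yg24 zg57) (kg xg16 yg23 zg45) (kg xg10 yg5 zg43) (kg xg21 yg29 zg51) (kg xg8 yg1 zg20) (kg xg6 yg24 zg59) (kg xg21 yg12 zg33) (kg xg8 yg1 zg19)) (@D3.rec (fun _ => Pt) (kg xg13 yg19 zg5) (kg xg21 yg29 zg55) (kg xg14 yg49 zg5) (kg xg13 yg38 zg25) (kg xg13 yg54 zg30) (kg xg21 yg29 zg47) (kg xg16 yg25 zg18) (kg xg6 yg25 zg2) (kg xg16 yg25 zg17) (kg xg17 yg0 zg61) (kg xg20 yg31 zg57) (kg xg11 yg35 zg55) (kg xg12 yg37 zg45) (kg xg16 yg36 zg6) (kg xg6 yg25 zg6) (kg xg17 yg12 zg49) (kg xg10 yg5 zg59) (kg xg11 yg36 zg58) (kg xg11 yg38 zg34) (kg xg6 yg25 zg9) (kg xg14 yg35 zg55) (kg xg11 yg38 zg32) (kg xg11 yg38 zg45) (kg xg11 yg49 zg21) (kg xg16 yg13 zg30) (kg xg18 yg37 zg57) (kg xg12 yg42 zg30) (kg xg11 yg38 zg22) (kg xg6 yg25 zg17) (kg xg21 yg30 zg27) (kg xg11 yg38 zg20)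 (kg xg6 yg36 zg47) (kg xg6 yg25 zg19) (kg xg21 yg30 zg33) (kg xg6 yg45 zg23) (kg xg18 yg46 zg17) (kg xg16 yg54 zg28) (kg xg17 yg6 zg42) (kg xg9 yg25 zg13) (kg xg7 yg20 zg0) (kg xg12 yg49 zg8) (kg xg9 yg3 zg51) (kg xg17 yg9 zg34) (kg xg6 yg35 zg42) (kg xg11 yg14 zg27) (kg xg9 yg1 zg51) (kg xg12 yg6 zg14) (kg xg17 yg15 zg20) (kg xg21 yg30 zg44) (kg xg7 yg40 zg54) (kg xg21 yg30 zg47) (kg xg11 yg29 zg18) (kg xg6 yg25 zg35) (kg xg11 yg29 zg17) (kg xg8 yg21 zg44) (kg xg8 yg21 zg6) (kg xg17 yg14 zg38) (kg xg12 yg24 zg33) (kg xg6 yg25 zg46) (kg xg12 yg24 zg32) (kg xg8 yg35 zg61) (kg xg8 yg36 zg24)) (@D3.rec (fun _ => Pt) (kg xg6 yg25 zg48) (kg xg9 yg24 zg29) (kg xg6 yg25 zg52) (kg xg11 yg30 zg45) (kg xg14 yg23 zg43) (kg xg9 yg50 zg24) (kg xg17 yg4 zg50) (kg xg9 yg49 zg30) (kg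 xg6 yg44 zg46) (kg xg9 yg48 zg28) (kg xg6 yg39 zg25) (kg xg6 yg25 zg60) (kg xg12 yg32 zg55) (kg xg18 yg42 zg53) (kg xg12 yg42 zg60) (kg xg12 yg30 zg0) (kg xg9 yg29 zg38) (kg xg21 yg30 zg60) (kg xg21 yg31 zg0) (kg xg21 yg27 zg37) (kg xg12 yg54 zg27) (kg xg6 yg26 zg9) (kg xg17 yg3 zg54) (kg xg21 yg31 zg8) (kg xg6 yg27 zg31) (kg xg21 yg31 zg11) (kg xg8 yg35 zg24) (kg xg17 yg16 zg34) (kg xg6 yg26 zg14) (kg xg17 yg16 zg33) (kg xg21 yg31 zg18) (kg xg12 yg23 zg59) (kg xg6 yg26 zg17) (kg xg12 yg23 zg58) (kg xg21 yg31 zg23) (kg xg17 yg13 zg23) (kg xg17 yg13 zg22) (kg xg13 yg37 zg53) (kg xg13 yg37 zg55) (kg xg21 yg24 zg51) (kg xg21 yg27 zg38) (kg xg21 yg24 zg49) (kg xg10 yg10 zg40) (kg xg20 yg23 zg15) (kg xg21 yg31 zg39) (kg xg16 yg16 zg40) (kg xg10 yg10 zg46) (kg xg12 yg20 zg52)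 (kg xg11 yg9 zg49) (kg xg12 yg32 zg30) (kg xg10 yg18 zg4) (kg xg11 yg27 zg11) (kg xg21 yg31 zg44) (kg xg12 yg49 zg21) (kg xg6 yg26 zg29) (kg xg20 yg49 zg57) (kg xg14 yg4 zg33) (kg xg9 yg21 zg56) (kg xg6 yg30 zg60) (kg xg6 yg26 zg32) (kg xg21 yg31 zg54) (kg xg12 yg58 zg16)) (@D3.rec (fun _ => Pt) (kg xg9 yg5 zg34) (kg xg8 yg12 zg13) (kg xg11 yg27 zg23) (kg xg11 yg27 zg14) (kg xg11 yg27 zg10) (kg xg6 yg26 zg35) (kg xg11 yg1 zg16) (kg xg11 yg25 zg56) (kg xg11 yg22 zg42) (kg xg12 yg18 zg17) (kg xg9 yg1 zg29) (kg xg21 yg32 zg3) (kg xg9 yg20 zg24) (kg xg17 yg29 zg36) (kg xg21 yg32 zg11) (kg xg17 yg16 zg9) (kg xg6 yg26 zg41) (kg xg17 yg16 zg8) (kg xg11 yg19 zg51) (kg xg18 yg15 zg34) (kg xg12 yg32 zg50) (kg xg12 yg32 zg52) (kg xg9 yg12 zg31) (kg xg9 yg42 zg60) (kg xg7 yg45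 zg34) (kg xg21 yg32 zg27) (kg xg7 yg30 zg61) (kg xg6 yg26 zg49) (kg xg19 yg21 zg17) (kg xg21 yg32 zg33) (kg xg6 yg33 zg49) (kg xg6 yg41 zg13) (kg xg15 yg46 zg18) (kg xg7 yg26 zg0) (kg xg12 yg47 zg55) (kg xg11 yg27 zg5) (kg xg12 yg56 zg46) (kg xg9 yg49 zg21) (kg xg6 yg26 zg57) (kg xg21 yg32 zg39) (kg xg21 yg16 zg19) (kg xg12 yg56 zg47) (kg xg6 yg26 zg58) (kg xg20 yg16 zg38) (kg xg11 yg21 zg0) (kg xg19 yg43 zg56) (kg xg6 yg27 zg0) (kg xg13 yg20 zg36) (kg xg21 yg24 zg48) (kg xg10 yg0 zg11) (kg xg12 yg30 zg34) (kg xg9 yg20 zg39) (kg xg7 yg25 zg44) (kg xg21 yg32 zg49) (kg xg14 yg12 zg14) (kg xg7 yg55 zg16) (kg xg12 yg52 zg53) (kg xg12 yg52 zg52) (kg xg21 yg31 zg28) (kg xg12 yg34 zg28) (kg xg12 yg3 zg7) (kg xg6 yg27 zg12)) (@D3.rec (fun _ => Pt) (kg xg12 yg52 zg50) (kg xg14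 yg55 zg55) (kg xg21 yg22 zg41) (kg xg10 yg13 zg7) (kg xg17 yg16 zg14) (kg xg17 yg16 zg13) (kg xg21 yg33 zg2) (kg xg6 yg27 zg17) (kg xg13 yg0 zg24) (kg xg15 yg37 zg10) (kg xg21 yg33 zg9) (kg xg6 yg27 zg21) (kg xg6 yg27 zg24) (kg xg21 yg33 zg4) (kg xg12 yg44 zg45) (kg xg21 yg33 zg20) (kg xg8 yg35 zg60) (kg xg6 yg27 zg22) (kg xg20 yg15 zg0) (kg xg20 yg6 zg54) (kg xg12 yg13 zg31) (kg xg20 yg17 zg38) (kg xg21 yg33 zg10) (kg xg6 yg27 zg23) (kg xg21 yg33 zg34) (kg xg21 yg33 zg31) (kg xg21 yg33 zg0) (kg xg20 yg19 zg16) (kg xg20 yg20 zg39) (kg xg7 yg37 zg39) (kg xg8 yg41 zg58) (kg xg6 yg42 zg1) (kg xg6 yg27 zg30) (kg xg6 yg27 zg42) (kg xg21 yg33 zg42) (kg xg21 yg33 zg45) (kg xg14 yg4 zg46) (kg xg21 yg33 zg48) (kg xg21 yg33 zg50) (kg xg12 yg19 zg52) (kg xg6 yg27 zg38) (kg xg12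 yg19 zg51) (kg xg21 yg25 zg18) (kg xg21 yg33 zg57) (kg xg21 yg33 zg59) (kg xg21 yg33 zg61) (kg xg6 yg42 zg47) (kg xg12 yg49 zg4) (kg xg12 yg49 zg5) (kg xg12 yg0 zg0) (kg xg17 yg14 zg36) (kg xg17 yg43 zg47) (kg xg12 yg16 zg5) (kg xg21 yg34 zg5) (kg xg6 yg42 zg58) (kg xg18 yg43 zg52) (kg xg21 yg34 zg10) (kg xg6 yg27 zg47) (kg xg9 yg50 zg21) (kg xg21 yg23 zg0) (kg xg6 yg28 zg24) (kg xg21 yg34 zg12)) (@D3.rec (fun _ => Pt) (kg xg21 yg34 zg15) (kg xg21 yg5 zg17) (kg xg21 yg34 zg20) (kg xg21 yg5 zg58) (kg xg8 yg22 zg55) (kg xg6 yg27 zg54) (kg xg8 yg35 zg17) (kg xg12 yg18 zg33) (kg xg12 yg17 zg55) (kg xg14 yg56 zg10) (kg xg9 yg18 zg58) (kg xg12 yg13 zg25) (kg xg6 yg27 zg57) (kg xg12 yg13 zg24) (kg xg14 yg6 zg22) (kg xg21 yg34 zg39) (kg xg12 yg59 zg42) (kg xg17 yg55 zg53) (kg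 xg21 yg21 zg12) (kg xg6 yg28 zg0) (kg xg21 yg26 zg29) (kg xg6 yg48 zg17) (kg xg6 yg36 zg58) (kg xg6 yg28 zg4) (kg xg6 yg28 zg1) (kg xg21 yg31 zg26) (kg xg21 yg34 zg55) (kg xg10 yg5 zg36) (kg xg21 yg26 zg49) (kg xg13 yg37 zg47) (kg xg12 yg19 zg32) (kg xg18 yg36 zg26) (kg xg21 yg34 zg56) (kg xg17 yg14 zg26) (kg xg7 yg33 zg53) (kg xg7 yg33 zg55) (kg xg21 yg18 zg19) (kg xg21 yg34 zg60) (kg xg19 yg22 zg50) (kg xg12 yg39 zg31) (kg xg7 yg1 zg57) (kg xg11 yg48 zg48) (kg xg20 yg37 zg32) (kg xg12 yg39 zg33) (kg xg9 yg18 zg13) (kg xg12 yg14 zg7) (kg xg12 yg39 zg34) (kg xg12 yg13 zg32) (kg xg21 yg20 zg28) (kg xg12 yg14 zg3) (kg xg7 yg31 zg19) (kg xg6 yg38 zg32) (kg xg6 yg28 zg21) (kg xg6 yg38 zg30) (kg xg6 yg35 zg46) (kg xg12 yg24 zg14) (kg xg6 yg29 zg12) (kg xg12 yg23 zg25) (kg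 xg21 yg35 zg1) (kg xg6 yg29 zg5) (kg xg6 yg28 zg31) (kg xg6 yg28 zg35)) (@D3.rec (fun _ => Pt) (kg xg7 yg39 zg60) (kg xg16 yg3 zg48) (kg xg20 yg37 zg40) (kg xg17 yg22 zg59) (kg xg21 yg35 zg8) (kg xg6 yg28 zg41) (kg xg6 yg40 zg1) (kg xg21 yg35 zg7) (kg xg6 yg38 zg42) (kg xg9 yg14 zg22) (kg xg6 yg38 zg40) (kg xg20 yg37 zg37) (kg xg12 yg36 zg2) (kg xg16 yg3 zg49) (kg xg12 yg14 zg5) (kg xg15 yg43 zg11) (kg xg12 yg39 zg8) (kg xg6 yg29 zg3) (kg xg6 yg28 zg53) (kg xg12 yg36 zg40) (kg xg12 yg24 zg43) (kg xg7 yg2 zg14) (kg xg21 yg35 zg3) (kg xg6 yg28 zg61) (kg xg21 yg35 zg15) (kg xg12 yg53 zg37) (kg xg12 yg15 zg20) (kg xg9 yg57 zg57) (kg xg12 yg53 zg21) (kg xg14 yg4 zg39) (kg xg21 yg35 zg21) (kg xg21 yg35 zg23) (kg xg12 yg13 zg56) (kg xg9 yg27 zg7) (kg xg12 yg13 zg59) (kg xg6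 yg47 zg12) (kg xg12 yg4 zg47) (kg xg7 yg31 zg18) (kg xg6 yg29 zg8) (kg xg21 yg35 zg25) (kg xg6 yg29 zg9) (kg xg12 yg14 zg8) (kg xg21 yg35 zg29) (kg xg21 yg35 zg30) (kg xg12 yg14 zg15) (kg xg10 yg14 zg41) (kg xg6 yg29 zg14) (kg xg21 yg35 zg33) (kg xg9 yg47 zg41) (kg xg6 yg29 zg16) (kg xg9 yg7 zg42) (kg xg6 yg36 zg14) (kg xg6 yg29 zg25) (kg xg12 yg46 zg12) (kg xg21 yg35 zg34) (kg xg21 yg35 zg37) (kg xg21 yg18 zg45) (kg xg6 yg29 zg23) (kg xg21 yg35 zg43) (kg xg20 yg15 zg8) (kg xg21 yg35 zg45) (kg xg12 yg38 zg25)) (@D3.rec (fun _ => Pt) (kg xg7 yg31 zg52) (kg xg12 yg34 zg39) (kg xg7 yg31 zg9) (kg xg10 yg13 zg19) (kg xg6 yg36 zg11) (kg xg18 yg50 zg25) (kg xg6 yg34 zg46) (kg xg11 yg30 zg41) (kg xg6 yg29 zg34) (kg xg21 yg35 zg54) (kg xg6 yg29 zg35) (kg xg6 yg41 zg56) (kg xg6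 yg29 zg41) (kg xg10 yg3 zg56) (kg xg11 yg31 zg34) (kg xg12 yg49 zg0) (kg xg13 yg6 zg34) (kg xg10 yg54 zg48) (kg xg12 yg4 zg17) (kg xg6 yg29 zg42) (kg xg21 yg36 zg2) (kg xg6 yg42 zg26) (kg xg6 yg42 zg38) (kg xg11 yg29 zg4) (kg xg18 yg39 zg37) (kg xg6 yg42 zg32) (kg xg21 yg33 zg23) (kg xg6 yg36 zg15) (kg xg6 yg30 zg0) (kg xg9 yg48 zg34) (kg xg11 yg31 zg55) (kg xg21 yg36 zg11) (kg xg21 yg36 zg14) (kg xg7 yg31 zg51) (kg xg6 yg29 zg55) (kg xg21 yg36 zg21) (kg xg21 yg36 zg23) (kg xg12 yg2 zg56) (kg xg6 yg41 zg19) (kg xg12 yg1 zg24) (kg xg21 yg36 zg29) (kg xg9 yg6 zg31) (kg xg9 yg48 zg31) (kg xg9 yg48 zg37) (kg xg11 yg30 zg39) (kg xg17 yg59 zg51) (kg xg6 yg30 zg4) (kg xg9 yg6 zg30) (kg xg12 yg17 zg6) (kg xg10 yg57 zg22) (kg xg20 yg19 zg41) (kg xg6 yg30 zg19) (kg xg6 yg50 zg56)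 (kg xg6 yg30 zg17) (kg xg6 yg30 zg10) (kg xg10 yg7 zg13) (kg xg6 yg30 zg11) (kg xg12 yg10 zg34) (kg xg19 yg43 zg55) (kg xg6 yg30 zg12) (kg xg8 yg14 zg52) (kg xg6 yg32 zg13)) (@D3.rec (fun _ => Pt) (kg xg6 yg30 zg18) (kg xg20 yg22 zg44) (kg xg20 yg22 zg32) (kg xg8 yg58 zg8) (kg xg21 yg36 zg40) (kg xg8 yg58 zg5) (kg xg6 yg30 zg22) (kg xg21 yg36 zg43) (kg xg18 yg43 zg38) (kg xg6 yg30 zg23) (kg xg11 yg30 zg46) (kg xg18 yg2 zg10) (kg xg21 yg36 zg46) (kg xg11 yg30 zg49) (kg xg6 yg30 zg33) (kg xg6 yg50 zg16) (kg xg8 yg12 zg52) (kg xg10 yg0 zg13) (kg xg6 yg50 zg23) (kg xg18 yg43 zg19) (kg xg7 yg3 zg18) (kg xg20 yg21 zg60) (kg xg11 yg20 zg23) (kg xg14 yg49 zg6) (kg xg21 yg36 zg50) (kg xg11 yg57 zg59) (kg xg6 yg30 zg51) (kg xg21 yg36 zg54) (kg xg13 yg2 zg10) (kg xg7 yg23 zg38)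 (kg xg14 yg4 zg11) (kg xg20 yg49 zg54) (kg xg8 yg12 zg32) (kg xg8 yg56 zg16) (kg xg9 yg20 zg21) (kg xg9 yg20 zg18) (kg xg17 yg44 zg49) (kg xg17 yg38 zg31) (kg xg13 yg52 zg24) (kg xg21 yg37 zg2) (kg xg21 yg37 zg5) (kg xg12 yg58 zg52) (kg xg21 yg4 zg50) (kg xg12 yg58 zg49) (kg xg9 yg35 zg43) (kg xg9 yg36 zg0) (kg xg9 yg52 zg55) (kg xg13 yg0 zg46) (kg xg6 yg31 zg4) (kg xg9 yg38 zg11) (kg xg11 yg43 zg54) (kg xg9 yg18 zg0) (kg xg11 yg59 zg4) (kg xg13 yg1 zg4) (kg xg14 yg4 zg54) (kg xg13 yg1 zg44) (kg xg18 yg26 zg22) (kg xg8 yg12 zg37) (kg xg11 yg33 zg29) (kg xg6 yg31 zg12) (kg xg20 yg25 zg15) (kg xg14 yg4 zg53)) (@D3.rec (fun _ => Pt) (kg xg6 yg31 zg14) (kg xg20 yg19 zg35) (kg xg20 yg19 zg32) (kg xg11 yg17 zg51) (kg xg9 yg51 zg4) (kg xg6 yg31 zg19) (kg xg16 yg51 zg18) (kg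 xg11 yg58 zg4) (kg xg6 yg31 zg24) (kg xg18 yg42 zg15) (kg xg7 yg52 zg2) (kg xg6 yg31 zg27) (kg xg13 yg56 zg32) (kg xg10 yg3 zg60) (kg xg6 yg32 zg26) (kg xg11 yg28 zg38) (kg xg11 yg43 zg14) (kg xg20 yg19 zg14) (kg xg21 yg37 zg25) (kg xg8 yg12 zg48) (kg xg12 yg29 zg60) (kg xg9 yg18 zg30) (kg xg21 yg37 zg30) (kg xg21 yg22 zg55) (kg xg12 yg17 zg23) (kg xg14 yg11 zg59) (kg xg14 yg1 zg38) (kg xg17 yg18 zg11) (kg xg12 yg1 zg54) (kg xg6 yg32 zg5) (kg xg12 yg49 zg12) (kg xg21 yg9 zg47) (kg xg12 yg49 zg28) (kg xg12 yg10 zg26) (kg xg11 yg11 zg34) (kg xg18 yg32 zg34) (kg xg6 yg31 zg49) (kg xg18 yg24 zg33) (kg xg21 yg3 zg1) (kg xg9 yg47 zg60) (kg xg20 yg52 zg2) (kg xg13 yg1 zg38) (kg xg6 yg31 zg57) (kg xg13 yg1 zg9) (kg xg14 yg1 zg40) (kg xg11 yg21 zg32) (kg xg11 yg7 zg58) (kg xg9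 yg45 zg46) (kg xg8 yg57 zg25) (kg xg21 yg37 zg50) (kg xg14 yg2 zg15) (kg xg17 yg55 zg27) (kg xg9 yg45 zg11) (kg xg21 yg28 zg48) (kg xg6 yg53 zg50) (kg xg8 yg57 zg27) (kg xg21 yg37 zg60) (kg xg6 yg32 zg3) (kg xg16 yg23 zg32) (kg xg14 yg8 zg8) (kg xg20 yg28 zg27) (kg xg21 yg20 zg4)) (@D3.rec (fun _ => Pt) (kg xg18 yg24 zg8) (kg xg18 yg24 zg58) (kg xg20 yg14 zg1) (kg xg19 yg39 zg42) (kg xg9 yg29 zg12) (kg xg12 yg29 zg59) (kg xg18 yg2 zg13) (kg xg20 yg16 zg14) (kg xg14 yg10 zg56) (kg xg11 yg21 zg54) (kg xg6 yg32 zg12) (kg xg21 yg38 zg9) (kg xg12 yg32 zg10) (kg xg16 yg25 zg3) (kg xg21 yg7 zg41) (kg xg21 yg7 zg42) (kg xg12 yg10 zg9) (kg xg21 yg38 zg17) (kg xg6 yg32 zg17) (kg xg8 yg2 zg26) (kg xg8 yg58 zg24) (kg xg12 yg30 zg22) (kg xg18 yg24 zg12) (kg xg6 yg49 zg21) (kg xg6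 yg49 zg53) (kg xg14 yg1 zg34) (kg xg6 yg32 zg24) (kg xg14 yg4 zg47) (kg xg11 yg40 zg24) (kg xg11 yg21 zg53) (kg xg6 yg50 zg12) (kg xg21 yg38 zg25) (kg xg17 yg11 zg9) (kg xg17 yg10 zg56) (kg xg6 yg32 zg30) (kg xg21 yg38 zg35) (kg xg21 yg38 zg39) (kg xg17 yg12 zg42) (kg xg6 yg32 zg31) (kg xg9 yg23 zg11) (kg xg17 yg17 zg6) (kg xg9 yg24 zg16) (kg xg13 yg10 zg50) (kg xg12 yg32 zg32) (kg xg17 yg12 zg41) (kg xg9 yg30 zg8) (kg xg9 yg30 zg61) (kg xg6 yg34 zg45) (kg xg21 yg38 zg49) (kg xg21 yg22 zg31) (kg xg12 yg12 zg20) (kg xg12 yg43 zg61) (kg xg12 yg12 zg21) (kg xg21 yg38 zg51) (kg xg6 yg47 zg55) (kg xg6 yg32 zg44) (kg xg14 yg20 zg15) (kg xg13 yg19 zg8) (kg xg9 yg16 zg55) (kg xg17 yg12 zg0) (kg xg6 yg56 zg29) (kg xg6 yg32 zg48)) (@D3.rec (fun _ => Pt) (kg xg9 yg17 zg48) (kg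 xg21 yg38 zg58) (kg xg20 yg5 zg36) (kg xg17 yg30 zg41) (kg xg17 yg30 zg45) (kg xg21 yg39 zg2) (kg xg12 yg13 zg18) (kg xg11 yg44 zg35) (kg xg14 yg33 zg17) (kg xg13 yg4 zg57) (kg xg14 yg32 zg60) (kg xg21 yg39 zg9) (kg xg7 yg15 zg52) (kg xg6 yg32 zg57) (kg xg10 yg51 zg4) (kg xg6 yg43 zg56) (kg xg6 yg32 zg60) (kg xg21 yg39 zg17) (kg xg21 yg39 zg20) (kg xg21 yg39 zg23) (kg xg12 yg59 zg11) (kg xg6 yg33 zg2) (kg xg21 yg39 zg27) (kg xg12 yg21 zg7) (kg xg9 yg28 zg50) (kg xg21 yg39 zg33) (kg xg12 yg59 zg7) (kg xg21 yg4 zg58) (kg xg6 yg33 zg5) (kg xg21 yg4 zg57) (kg xg21 yg39 zg45) (kg xg12 yg0 zg11) (kg xg6 yg33 zg6) (kg xg13 yg2 zg47) (kg xg8 yg12 zg45) (kg xg6 yg59 zg49) (kg xg17 yg12 zg3) (kg xg13 yg16 zg40) (kg xg6 yg33 zg10) (kg xg6 yg33 zg35) (kg xg7 yg41 zg8) (kg xg6 yg33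 zg11) (kg xg13 yg0 zg52) (kg xg18 yg42 zg4) (kg xg17 yg19 zg16) (kg xg7 yg40 zg59) (kg xg6 yg42 zg48) (kg xg12 yg52 zg17) (kg xg21 yg39 zg53) (kg xg12 yg15 zg47) (kg xg12 yg15 zg50) (kg xg6 yg33 zg18) (kg xg17 yg28 zg9) (kg xg16 yg59 zg59) (kg xg16 yg49 zg40) (kg xg11 yg41 zg43) (kg xg17 yg10 zg55) (kg xg13 yg10 zg2) (kg xg6 yg33 zg24) (kg xg21 yg40 zg8) (kg xg7 yg11 zg8) (kg xg6 yg33 zg25)) (@D3.rec (fun _ => Pt) (kg xg21 yg40 zg14) (kg xg9 yg27 zg45) (kg xg14 yg17 zg47) (kg xg6 yg33 zg29) (kg xg14 yg17 zg45) (kg xg17 yg20 zg21) (kg xg13 yg44 zg41) (kg xg7 yg3 zg47) (kg xg13 yg3 zg32) (kg xg14 yg42 zg51) (kg xg7 yg32 zg41) (kg xg14 yg42 zg49) (kg xg20 yg15 zg58) (kg xg6 yg38 zg17) (kg xg12 yg39 zg15) (kg xg14 yg32 zg56) (kg xg17 yg5 zg21) (kg xg11 yg48 zg14) (kg xg6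 yg37 zg7) (kg xg17 yg4 zg17) (kg xg6 yg33 zg41) (kg xg21 yg40 zg41) (kg xg17 yg4 zg15) (kg xg6 yg40 zg35) (kg xg6 yg40 zg41) (kg xg21 yg40 zg47) (kg xg12 yg35 zg46) (kg xg21 yg36 zg28) (kg xg7 yg25 zg56) (kg xg12 yg25 zg24) (kg xg21 yg40 zg50) (kg xg21 yg32 zg22) (kg xg6 yg41 zg26) (kg xg21 yg5 zg57) (kg xg6 yg33 zg51) (kg xg21 yg5 zg56) (kg xg21 yg40 zg59) (kg xg19 yg56 zg32) (kg xg21 yg41 zg3) (kg xg17 yg0 zg15) (kg xg17 yg0 zg17) (kg xg6 yg34 zg27) (kg xg6 yg34 zg25) (kg xg6 yg33 zg58) (kg xg21 yg18 zg39) (kg xg6 yg33 zg59) (kg xg21 yg41 zg10) (kg xg21 yg18 zg38) (kg xg21 yg4 zg52) (kg xg7 yg22 zg61) (kg xg7 yg2 zg26) (kg xg7 yg28 zg27) (kg xg7 yg3 zg0) (kg xg13 yg44 zg60) (kg xg13 yg44 zg52) (kg xg6 yg34 zg8) (kg xg21 yg41 zg24) (kg xg13 yg18 zg49) (kg xg7 yg8 zg49)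 (kg xg6 yg34 zg29) (kg xg18 yg43 zg27) (kg xg6 yg34 zg14)) (@D3.rec (fun _ => Pt) (kg xg11 yg40 zg34) (kg xg20 yg35 zg17) (kg xg6 yg34 zg15) (kg xg9 yg54 zg23) (kg xg12 yg39 zg38) (kg xg21 yg41 zg32) (kg xg12 yg39 zg36) (kg xg10 yg27 zg44) (kg xg17 yg9 zg44) (kg xg6 yg34 zg20) (kg xg12 yg38 zg56) (kg xg12 yg1 zg12) (kg xg10 yg27 zg37) (kg xg11 yg36 zg39) (kg xg18 yg50 zg47) (kg xg20 yg34 zg13) (kg xg20 yg34 zg31) (kg xg18 yg50 zg22) (kg xg17 yg52 zg10) (kg xg21 yg41 zg40) (kg xg11 yg40 zg28) (kg xg21 yg20 zg19) (kg xg21 yg41 zg44) (kg xg7 yg36 zg40) (kg xg14 yg11 zg37) (kg xg6 yg34 zg31) (kg xg21 yg41 zg50) (kg xg7 yg45 zg24) (kg xg21 yg41 zg54) (kg xg21 yg41 zg49) (kg xg17 yg3 zg50) (kg xg21 yg28 zg30) (kg xg21 yg41 zg58) (kg xg21 yg7 zg10) (kg xg6 yg34 zg34) (kg xg18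 yg5 zg0) (kg xg21 yg7 zg9) (kg xg6 yg34 zg36) (kg xg21 yg42 zg2) (kg xg15 yg48 zg16) (kg xg12 yg29 zg0) (kg xg6 yg34 zg38) (kg xg12 yg58 zg36) (kg xg21 yg42 zg5) (kg xg17 yg34 zg56) (kg xg21 yg42 zg7) (kg xg12 yg34 zg27) (kg xg20 yg27 zg36) (kg xg14 yg12 zg16) (kg xg21 yg26 zg33) (kg xg12 yg2 zg8) (kg xg12 yg35 zg54) (kg xg6 yg34 zg43) (kg xg21 yg42 zg14) (kg xg12 yg35 zg52) (kg xg17 yg3 zg60) (kg xg14 yg23 zg29) (kg xg15 yg59 zg4) (kg xg21 yg42 zg22) (kg xg12 yg47 zg40) (kg xg9 yg33 zg0) (kg xg17 yg16 zg40)) (@D3.rec (fun _ => Pt) (kg xg21 yg42 zg28) (kg xg10 yg7 zg9) (kg xg18 yg37 zg61) (kg xg12 yg27 zg54) (kg xg6 yg34 zg53) (kg xg6 yg59 zg59) (kg xg7 yg2 zg45) (kg xg18 yg50 zg45) (kg xg20 yg37 zg58) (kg xg11 yg45 zg18) (kg xg17 yg7 zg24) (kg xg7 yg44 zg45) (kg xg20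 yg51 zg35) (kg xg17 yg8 zg6) (kg xg6 yg35 zg3) (kg xg14 yg11 zg32) (kg xg18 yg50 zg28) (kg xg11 yg18 zg56) (kg xg12 yg28 zg60) (kg xg16 yg23 zg57) (kg xg21 yg42 zg36) (kg xg20 yg52 zg17) (kg xg7 yg44 zg60) (kg xg17 yg31 zg3) (kg xg20 yg52 zg14) (kg xg6 yg35 zg9) (kg xg21 yg6 zg61) (kg xg6 yg37 zg27) (kg xg6 yg35 zg11) (kg xg6 yg37 zg26) (kg xg21 yg42 zg45) (kg xg6 yg36 zg10) (kg xg17 yg5 zg8) (kg xg10 yg7 zg2) (kg xg21 yg42 zg47) (kg xg6 yg35 zg16) (kg xg20 yg15 zg36) (kg xg21 yg22 zg6) (kg xg21 yg31 zg37) (kg xg6 yg36 zg57) (kg xg17 yg5 zg4) (kg xg21 yg6 zg59) (kg xg21 yg8 zg20) (kg xg6 yg37 zg6) (kg xg21 yg42 zg55) (kg xg6 yg37 zg4) (kg xg6 yg35 zg45) (kg xg12 yg4 zg51) (kg xg12 yg13 zg6) (kg xg12 yg3 zg25) (kg xg6 yg37 zg22) (kg xg21 yg43 zg3) (kg xg6 yg36 zg24)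 (kg xg6 yg35 zg26) (kg xg20 yg51 zg31) (kg xg6 yg35 zg27) (kg xg11 yg51 zg23) (kg xg18 yg14 zg6) (kg xg21 yg43 zg11) (kg xg6 yg37 zg48) (kg xg6 yg44 zg33) (kg xg12 yg16 zg23)) (@D3.rec (fun _ => Pt) (kg xg6 yg37 zg58) (kg xg6 yg35 zg30) (kg xg21 yg43 zg18) (kg xg6 yg37 zg56) (kg xg13 yg15 zg59) (kg xg6 yg38 zg12) (kg xg6 yg35 zg33) (kg xg7 yg49 zg59) (kg xg12 yg16 zg37) (kg xg6 yg38 zg9) (kg xg6 yg38 zg36) (kg xg6 yg35 zg35) (kg xg12 yg39 zg58) (kg xg6 yg53 zg22) (kg xg6 yg40 zg3) (kg xg12 yg51 zg33) (kg xg6 yg40 zg36) (kg xg21 yg21 zg37) (kg xg6 yg35 zg39) (kg xg21 yg43 zg41) (kg xg6 yg38 zg46) (kg xg6 yg35 zg40) (kg xg21 yg43 zg44) (kg xg6 yg38 zg44) (kg xg6 yg38 zg50) (kg xg6 yg35 zg41) (kg xg12 yg41 zg35) (kg xg20 yg51 zg57) (kg xg16 yg25 zg57) (kg xg21 yg43 zg53)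 (kg xg21 yg40 zg34) (kg xg21 yg43 zg56) (kg xg17 yg5 zg15) (kg xg12 yg36 zg3) (kg xg6 yg37 zg28) (kg xg20 yg40 zg27) (kg xg17 yg0 zg36) (kg xg21 yg44 zg2) (kg xg17 yg50 zg28) (kg xg6 yg35 zg49) (kg xg21 yg43 zg48) (kg xg6 yg38 zg1) (kg xg9 yg7 zg14) (kg xg6 yg35 zg58) (kg xg6 yg35 zg51) (kg xg15 yg25 zg2) (kg xg6 yg35 zg56) (kg xg12 yg14 zg43) (kg xg20 yg2 zg1) (kg xg21 yg7 zg18) (kg xg21 yg44 zg12) (kg xg9 yg13 zg45) (kg xg17 yg9 zg27) (kg xg21 yg44 zg16) (kg xg21 yg44 zg19) (kg xg21 yg44 zg5) (kg xg21 yg43 zg59) (kg xg17 yg20 zg57) (kg xg21 yg44 zg20) (kg xg12 yg36 zg0) (kg xg20 yg36 zg6) (kg xg12 yg23 zg12)) (@D3.rec (fun _ => Pt) (kg xg21 yg44 zg31) (kg xg7 yg0 zg30) (kg xg8 yg51 zg15) (kg xg12 yg14 zg46) (kg xg6 yg39 zg59) (kg xg6 yg35 zg61) (kg xg21 yg44 zg37)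 (kg xg6 yg39 zg57) (kg xg6 yg36 zg3) (kg xg6 yg36 zg1) (kg xg12 yg29 zg3) (kg xg6 yg36 zg2) (kg xg6 yg38 zg20) (kg xg21 yg44 zg44) (kg xg18 yg16 zg3) (kg xg21 yg44 zg46) (kg xg12 yg1 zg50) (kg xg18 yg15 zg33) (kg xg12 yg47 zg3) (kg xg21 yg44 zg52) (kg xg21 yg43 zg37) (kg xg6 yg40 zg33) (kg xg6 yg36 zg7) (kg xg21 yg44 zg54) (kg xg6 yg45 zg1) (kg xg12 yg29 zg2) (kg xg6 yg41 zg3) (kg xg6 yg41 zg2) (kg xg21 yg44 zg59) (kg xg18 yg20 zg45) (kg xg7 yg12 zg19) (kg xg18 yg49 zg48) (kg xg6 yg36 zg13) (kg xg6 yg36 zg45) (kg xg19 yg48 zg47) (kg xg11 yg22 zg0) (kg xg16 yg32 zg12) (kg xg12 yg16 zg16) (kg xg6 yg36 zg16) (kg xg12 yg16 zg15) (kg xg11 yg29 zg0) (kg xg12 yg35 zg10) (kg xg17 yg59 zg12) (kg xg6 yg40 zg43) (kg xg21 yg45 zg0) (kg xg18 yg57 zg53) (kg xg6 yg36 zg25) (kg xg19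 yg53 zg25) (kg xg21 yg35 zg36) (kg xg6 yg36 zg26) (kg xg20 yg40 zg18) (kg xg21 yg35 zg35) (kg xg17 yg59 zg15) (kg xg12 yg16 zg53) (kg xg12 yg16 zg50) (kg xg21 yg45 zg7) (kg xg7 yg31 zg31) (kg xg21 yg40 zg38) (kg xg18 yg38 zg28) (kg xg17 yg13 zg50) (kg xg12 yg16 zg43) (kg xg17 yg13 zg49)) (@D3.rec (fun _ => Pt) (kg xg12 yg3 zg18) (kg xg6 yg36 zg35) (kg xg21 yg45 zg19) (kg xg12 yg17 zg0) (kg xg7 yg31 zg35) (kg xg17 yg5 zg19) (kg xg12 yg28 zg16) (kg xg6 yg44 zg19) (kg xg6 yg36 zg52) (kg xg6 yg36 zg60) (kg xg12 yg46 zg57) (kg xg9 yg7 zg40) (kg xg6 yg36 zg42) (kg xg16 yg59 zg53) (kg xg12 yg38 zg18) (kg xg12 yg34 zg17) (kg xg17 yg20 zg0) (kg xg18 yg50 zg35) (kg xg6 yg36 zg51) (kg xg6 yg36 zg46) (kg xg21 yg33 zg7) (kg xg6 yg36 zg49) (kg xg17 yg14 zg58) (kg xg9 yg17 zg21) (kg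 xg21 yg22 zg25) (kg xg17 yg19 zg40) (kg xg20 yg51 zg32) (kg xg12 yg12 zg8) (kg xg6 yg36 zg50) (kg xg21 yg45 zg39) (kg xg17 yg29 zg30) (kg xg12 yg34 zg61) (kg xg9 yg47 zg45) (kg xg12 yg35 zg9) (kg xg12 yg28 zg28) (kg xg12 yg35 zg6) (kg xg6 yg36 zg55) (kg xg18 yg57 zg58) (kg xg11 yg38 zg50) (kg xg20 yg23 zg18) (kg xg21 yg45 zg50) (kg xg21 yg45 zg46) (kg xg21 yg45 zg51) (kg xg21 yg45 zg58) (kg xg21 yg34 zg49) (kg xg21 yg46 zg0) (kg xg21 yg34 zg45) (kg xg11 yg46 zg41) (kg xg20 yg27 zg41) (kg xg21 yg18 zg55) (kg xg17 yg35 zg31) (kg xg6 yg37 zg0) (kg xg12 yg28 zg19) (kg xg14 yg1 zg35) (kg xg16 yg13 zg54) (kg xg16 yg1 zg4) (kg xg17 yg35 zg4) (kg xg18 yg0 zg55) (kg xg12 yg42 zg54) (kg xg21 yg33 zg12) (kg xg17 yg5 zg3) (kg xg12 yg37 zg12)) (@D3.rec (fun _ => Pt) (kg xg21 yg46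 zg19) (kg xg21 yg42 zg58) (kg xg6 yg37 zg5) (kg xg21 yg46 zg22) (kg xg21 yg46 zg26) (kg xg21 yg42 zg56) (kg xg21 yg46 zg29) (kg xg21 yg46 zg31) (kg xg21 yg44 zg10) (kg xg6 yg37 zg8) (kg xg21 yg8 zg19) (kg xg12 yg25 zg60) (kg xg6 yg37 zg14) (kg xg6 yg37 zg11) (kg xg21 yg18 zg59) (kg xg12 yg13 zg19) (kg xg21 yg18 zg51) (kg xg12 yg58 zg32) (kg xg21 yg46 zg40) (kg xg12 yg48 zg26) (kg xg21 yg46 zg36) (kg xg21 yg18 zg57) (kg xg16 yg0 zg59) (kg xg21 yg46 zg44) (kg xg21 yg46 zg47) (kg xg21 yg46 zg50) (kg xg21 yg46 zg48) (kg xg15 yg44 zg30) (kg xg6 yg37 zg20) (kg xg14 yg56 zg2) (kg xg13 yg53 zg27) (kg xg21 yg46 zg56) (kg xg15 yg44 zg53) (kg xg6 yg37 zg21) (kg xg17 yg21 zg35) (kg xg21 yg47 zg1) (kg xg21 yg43 zg4) (kg xg6 yg39 zg11) (kg xg21 yg42 zg43) (kg xg16 yg49 zg38) (kg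 xg21 yg25 zg51) (kg xg11 yg36 zg25) (kg xg12 yg14 zg34) (kg xg17 yg5 zg44) (kg xg10 yg13 zg45) (kg xg21 yg47 zg8) (kg xg6 yg37 zg29) (kg xg21 yg47 zg10) (kg xg11 yg50 zg1) (kg xg21 yg9 zg31) (kg xg12 yg14 zg37) (kg xg11 yg55 zg49) (kg xg6 yg37 zg35) (kg xg21 yg47 zg14) (kg xg21 yg47 zg16) (kg xg6 yg37 zg37) (kg xg14 yg38 zg19) (kg xg6 yg41 zg18) (kg xg18 yg0 zg8) (kg xg6 yg37 zg46) (kg xg6 yg37 zg39) (kg xg13 yg46 zg7)) (@D3.rec (fun _ => Pt) (kg xg6 yg37 zg44) (kg xg11 yg38 zg46) (kg xg21 yg47 zg19) (kg xg6 yg37 zg42) (kg xg20 yg25 zg1) (kg xg18 yg38 zg3) (kg xg11 yg46 zg39) (kg xg14 yg14 zg5) (kg xg21 yg47 zg29) (kg xg20 yg51 zg23) (kg xg21 yg47 zg30) (kg xg12 yg38 zg31) (kg xg21 yg47 zg23) (kg xg6 yg37 zg45) (kg xg13 yg9 zg20) (kg xg21 yg47 zg21) (kg xg20 yg23 zg16)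 (kg xg14 yg37 zg4) (kg xg13 yg20 zg47) (kg xg21 yg45 zg28) (kg xg21 yg47 zg43) (kg xg21 yg47 zg53) (kg xg21 yg43 zg13) (kg xg6 yg37 zg49) (kg xg21 yg47 zg61) (kg xg21 yg42 zg40) (kg xg17 yg59 zg18) (kg xg21 yg48 zg6) (kg xg6 yg37 zg53) (kg xg6 yg37 zg52) (kg xg21 yg48 zg13) (kg xg21 yg48 zg18) (kg xg21 yg48 zg14) (kg xg20 yg2 zg45) (kg xg21 yg48 zg5) (kg xg12 yg43 zg20) (kg xg12 yg2 zg52) (kg xg21 yg48 zg28) (kg xg17 yg59 zg19) (kg xg12 yg37 zg26) (kg xg16 yg14 zg4) (kg xg21 yg43 zg22) (kg xg6 yg37 zg57) (kg xg21 yg48 zg39) (kg xg21 yg48 zg44) (kg xg21 yg43 zg19) (kg xg21 yg48 zg46) (kg xg6 yg38 zg2) (kg xg6 yg37 zg59) (kg xg20 yg2 zg49) (kg xg21 yg48 zg50) (kg xg12 yg16 zg38) (kg xg12 yg16 zg13) (kg xg14 yg56 zg15) (kg xg21 yg21 zg42) (kg xg21 yg44 zg22) (kg xg21 yg48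 zg57) (kg xg13 yg15 zg58) (kg xg21 yg48 zg61) (kg xg12 yg29 zg6) (kg xg21 yg49 zg2) (kg xg21 yg49 zg0)) (@D3.rec (fun _ => Pt) (kg xg21 yg49 zg6) (kg xg21 yg21 zg50) (kg xg21 yg49 zg11) (kg xg21 yg21 zg49) (kg xg6 yg38 zg10) (kg xg8 yg20 zg45) (kg xg21 yg49 zg19) (kg xg21 yg43 zg33) (kg xg6 yg38 zg11) (kg xg20 yg2 zg50) (kg xg21 yg49 zg29) (kg xg21 yg43 zg30) (kg xg17 yg4 zg21) (kg xg11 yg44 zg10) (kg xg12 yg14 zg30) (kg xg17 yg22 zg60) (kg xg20 yg28 zg9) (kg xg14 yg34 zg60) (kg xg20 yg27 zg32) (kg xg14 yg16 zg15) (kg xg6 yg40 zg23) (kg xg6 yg38 zg28) (kg xg6 yg38 zg21) (kg xg6 yg38 zg26) (kg xg14 yg37 zg13) (kg xg13 yg19 zg10) (kg xg14 yg16 zg61) (kg xg12 yg14 zg12) (kg xg21 yg7 zg27) (kg xg12 yg14 zg10) (kg xg17 yg5 zg40) (kg xg11 yg46 zg51) (kg xg12 yg4 zg50) (kg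 xg17 yg34 zg54) (kg xg18 yg25 zg39) (kg xg14 yg16 zg8) (kg xg21 yg17 zg50) (kg xg12 yg2 zg45) (kg xg12 yg4 zg44) (kg xg6 yg38 zg27) (kg xg21 yg49 zg55) (kg xg21 yg17 zg49) (kg xg10 yg45 zg50) (kg xg12 yg45 zg39) (kg xg12 yg2 zg31) (kg xg6 yg38 zg58) (kg xg12 yg45 zg2) (kg xg12 yg21 zg52) (kg xg21 yg50 zg0) (kg xg12 yg59 zg25) (kg xg21 yg43 zg58) (kg xg21 yg17 zg45) (kg xg21 yg50 zg4) (kg xg21 yg50 zg9) (kg xg12 yg39 zg61) (kg xg21 yg22 zg35) (kg xg11 yg43 zg40) (kg xg9 yg49 zg19) (kg xg6 yg38 zg38) (kg xg18 yg38 zg23) (kg xg6 yg40 zg38) (kg xg21 yg44 zg0)) (@D3.rec (fun _ => Pt) (kg xg18 yg38 zg26) (kg xg9 yg49 zg1) (kg xg12 yg55 zg10) (kg xg6 yg38 zg41) (kg xg11 yg51 zg1) (kg xg14 yg36 zg9) (kg xg11 yg49 zg27) (kg xg10 yg53 zg5) (kg xg21 yg35 zg31) (kg xg21 yg43 zg47)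 (kg xg6 yg38 zg45) (kg xg21 yg50 zg22) (kg xg21 yg43 zg45) (kg xg17 yg5 zg32) (kg xg18 yg13 zg38) (kg xg21 yg50 zg27) (kg xg21 yg21 zg39) (kg xg6 yg38 zg49) (kg xg18 yg1 zg61) (kg xg21 yg21 zg35) (kg xg12 yg41 zg39) (kg xg17 yg29 zg35) (kg xg14 yg11 zg26) (kg xg6 yg39 zg22) (kg xg21 yg22 zg47) (kg xg12 yg39 zg32) (kg xg12 yg14 zg13) (kg xg6 yg38 zg54) (kg xg12 yg52 zg56) (kg xg12 yg17 zg2) (kg xg12 yg53 zg28) (kg xg21 yg37 zg40) (kg xg17 yg5 zg42) (kg xg21 yg50 zg46) (kg xg15 yg47 zg44) (kg xg6 yg39 zg29) (kg xg15 yg49 zg32) (kg xg10 yg37 zg47) (kg xg8 yg36 zg6) (kg xg18 yg16 zg19) (kg xg6 yg39 zg1) (kg xg21 yg50 zg50) (kg xg20 yg37 zg38) (kg xg6 yg39 zg2) (kg xg21 yg50 zg19) (kg xg17 yg5 zg26) (kg xg20 yg51 zg7) (kg xg18 yg16 zg46) (kg xg6 yg39 zg4) (kg xg20 yg53 zg54)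 (kg xg17 yg5 zg30) (kg xg6 yg39 zg21) (kg xg6 yg39 zg6) (kg xg21 yg51 zg4) (kg xg6 yg39 zg19) (kg xg17 yg9 zg31) (kg xg21 yg44 zg40) (kg xg12 yg47 zg18) (kg xg17 yg5 zg20) (kg xg12 yg53 zg19) (kg xg21 yg51 zg8) (kg xg21 yg50 zg47)) (@D3.rec (fun _ => Pt) (kg xg6 yg39 zg33) (kg xg6 yg39 zg9) (kg xg21 yg1 zg34) (kg xg6 yg39 zg31) (kg xg12 yg35 zg20) (kg xg12 yg14 zg50) (kg xg6 yg39 zg14) (kg xg6 yg39 zg12) (kg xg10 yg6 zg20) (kg xg17 yg5 zg48) (kg xg6 yg39 zg15) (kg xg21 yg51 zg25) (kg xg6 yg39 zg16) (kg xg11 yg48 zg4) (kg xg6 yg39 zg17) (kg xg21 yg51 zg27) (kg xg16 yg30 zg41) (kg xg21 yg51 zg31) (kg xg21 yg51 zg32) (kg xg11 yg36 zg26) (kg xg21 yg51 zg21) (kg xg21 yg51 zg33) (kg xg21 yg51 zg37) (kg xg21 yg51 zg6) (kg xg6 yg39 zg20) (kg xg21 yg51 zg41) (kg xg21 yg51 zg5)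 (kg xg18 yg16 zg43) (kg xg17 yg58 zg4) (kg xg6 yg39 zg27) (kg xg17 yg59 zg29) (kg xg6 yg39 zg28) (kg xg6 yg39 zg24) (kg xg15 yg56 zg40) (kg xg21 yg28 zg50) (kg xg6 yg39 zg26) (kg xg17 yg5 zg35) (kg xg12 yg22 zg11) (kg xg10 yg23 zg10) (kg xg12 yg58 zg48) (kg xg17 yg34 zg28) (kg xg21 yg51 zg58) (kg xg21 yg51 zg47) (kg xg21 yg51 zg59) (kg xg18 yg16 zg53) (kg xg11 yg39 zg58) (kg xg12 yg32 zg51) (kg xg20 yg14 zg38) (kg xg15 yg56 zg22) (kg xg17 yg9 zg48) (kg xg15 yg32 zg8) (kg xg21 yg50 zg48) (kg xg21 yg52 zg2) (kg xg17 yg0 zg13) (kg xg20 yg14 zg24) (kg xg21 yg51 zg17) (kg xg6 yg39 zg32) (kg xg17 yg21 zg3) (kg xg21 yg52 zg11) (kg xg20 yg58 zg15) (kg xg20 yg14 zg33) (kg xg7 yg34 zg24)) (@D3.rec (fun _ => Pt) (kg xg6 yg39 zg55) (kg xg6 yg39 zg35) (kg xg12 yg42 zg43) (kg xg12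 yg54 zg61) (kg xg12 yg14 zg11) (kg xg21 yg25 zg59) (kg xg21 yg7 zg55) (kg xg21 yg7 zg31) (kg xg6 yg39 zg38) (kg xg16 yg14 zg46) (kg xg21 yg7 zg30) (kg xg21 yg44 zg36) (kg xg7 yg44 zg33) (kg xg7 yg44 zg23) (kg xg20 yg5 zg45) (kg xg21 yg7 zg23) (kg xg6 yg39 zg42) (kg xg21 yg7 zg22) (kg xg7 yg40 zg52) (kg xg7 yg44 zg1) (kg xg11 yg43 zg25) (kg xg6 yg39 zg46) (kg xg21 yg52 zg28) (kg xg11 yg46 zg20) (kg xg11 yg46 zg25) (kg xg7 yg40 zg48) (kg xg21 yg52 zg31) (kg xg21 yg52 zg14) (kg xg7 yg45 zg18) (kg xg6 yg39 zg49) (kg xg21 yg52 zg45) (kg xg7 yg45 zg28) (kg xg6 yg39 zg53) (kg xg14 yg24 zg11) (kg xg6 yg39 zg54) (kg xg6 yg39 zg52) (kg xg21 yg52 zg51) (kg xg20 yg35 zg46) (kg xg12 yg52 zg61) (kg xg12 yg42 zg46) (kg xg21 yg7 zg19) (kg xg21 yg52 zg59) (kg xg16 yg33 zg15) (kg xg8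 yg48 zg21) (kg xg21 yg52 zg60) (kg xg18 yg15 zg27) (kg xg21 yg44 zg38) (kg xg6 yg39 zg58) (kg xg17 yg1 zg5) (kg xg21 yg12 zg23) (kg xg13 yg38 zg47) (kg xg21 yg44 zg55) (kg xg7 yg44 zg36) (kg xg12 yg15 zg51) (kg xg7 yg32 zg56) (kg xg21 yg53 zg11) (kg xg21 yg7 zg28) (kg xg21 yg53 zg12) (kg xg7 yg44 zg38) (kg xg21 yg53 zg18) (kg xg21 yg49 zg35) (kg xg12 yg12 zg28)) (@D3.rec (fun _ => Pt) (kg xg13 yg19 zg16) (kg xg20 yg22 zg22) (kg xg13 yg19 zg14) (kg xg21 yg53 zg24) (kg xg21 yg44 zg43) (kg xg6 yg40 zg5) (kg xg21 yg53 zg29) (kg xg17 yg16 zg58) (kg xg21 yg44 zg9) (kg xg6 yg41 zg6) (kg xg11 yg12 zg22) (kg xg6 yg40 zg51) (kg xg12 yg2 zg46) (kg xg21 yg44 zg33) (kg xg6 yg40 zg18) (kg xg6 yg40 zg10) (kg xg6 yg40 zg11) (kg xg13 yg41 zg50) (kg xg6 yg40 zg26) (kg xg12 yg52 zg57)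 (kg xg12 yg55 zg16) (kg xg16 yg53 zg18) (kg xg11 yg17 zg20) (kg xg21 yg44 zg49) (kg xg6 yg40 zg19) (kg xg17 yg30 zg57) (kg xg21 yg44 zg47) (kg xg12 yg29 zg35) (kg xg21 yg44 zg42) (kg xg21 yg18 zg42) (kg xg21 yg53 zg22) (kg xg6 yg40 zg27) (kg xg6 yg40 zg24) (kg xg21 yg53 zg44) (kg xg20 yg36 zg12) (kg xg6 yg40 zg25) (kg xg15 yg24 zg48) (kg xg21 yg28 zg35) (kg xg18 yg15 zg35) (kg xg21 yg53 zg52) (kg xg9 yg25 zg33) (kg xg16 yg36 zg5) (kg xg9 yg14 zg55) (kg xg21 yg53 zg56) (kg xg16 yg35 zg45) (kg xg21 yg38 zg8) (kg xg21 yg44 zg39) (kg xg6 yg40 zg34) (kg xg21 yg54 zg4) (kg xg21 yg54 zg6) (kg xg6 yg40 zg39) (kg xg6 yg40 zg37) (kg xg13 yg7 zg56) (kg xg21 yg54 zg15) (kg xg21 yg54 zg11) (kg xg21 yg54 zg20) (kg xg21 yg49 zg34) (kg xg14 yg53 zg5) (kg xg21 yg54 zg24) (kg xg14 yg32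 zg39) (kg xg21 yg54 zg27) (kg xg14 yg11 zg29)) (@D3.rec (fun _ => Pt) (kg xg6 yg40 zg45) (kg xg14 yg11 zg34) (kg xg20 yg36 zg0) (kg xg10 yg16 zg41) (kg xg21 yg54 zg29) (kg xg12 yg44 zg37) (kg xg18 yg50 zg32) (kg xg19 yg48 zg0) (kg xg6 yg40 zg49) (kg xg21 yg54 zg33) (kg xg17 yg12 zg56) (kg xg18 yg42 zg55) (kg xg12 yg38 zg10) (kg xg21 yg54 zg40) (kg xg18 yg19 zg42) (kg xg6 yg40 zg52) (kg xg13 yg27 zg45) (kg xg12 yg37 zg55) (kg xg9 yg59 zg61) (kg xg11 yg36 zg38) (kg xg6 yg40 zg61) (kg xg21 yg25 zg57) (kg xg18 yg38 zg6) (kg xg6 yg44 zg48) (kg xg10 yg5 zg35) (kg xg9 yg49 zg53) (kg xg18 yg45 zg48) (kg xg21 yg54 zg48) (kg xg20 yg47 zg25) (kg xg6 yg41 zg4) (kg xg14 yg3 zg28) (kg xg21 yg54 zg54) (kg xg21 yg54 zg50) (kg xg6 yg41 zg5) (kg xg21 yg54 zg58) (kg xg21 yg42 zg50) (kg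 xg21 yg54 zg61) (kg xg21 yg53 zg38) (kg xg8 yg25 zg24) (kg xg18 yg15 zg12) (kg xg12 yg32 zg48) (kg xg18 yg29 zg36) (kg xg6 yg41 zg11) (kg xg13 yg14 zg40) (kg xg13 yg53 zg28) (kg xg21 yg18 zg10) (kg xg11 yg57 zg11) (kg xg6 yg41 zg15) (kg xg7 yg40 zg57) (kg xg19 yg14 zg59) (kg xg17 yg16 zg1) (kg xg6 yg41 zg17) (kg xg12 yg25 zg34) (kg xg7 yg50 zg12) (kg xg21 yg55 zg13) (kg xg14 yg0 zg60) (kg xg16 yg6 zg18) (kg xg16 yg6 zg28) (kg xg7 yg54 zg59) (kg xg14 yg18 zg55) (kg xg16 yg6 zg42) (kg xg21 yg55 zg20)) (@D3.rec (fun _ => Pt) (kg xg14 yg21 zg22) (kg xg14 yg54 zg7) (kg xg7 yg54 zg47) (kg xg21 yg55 zg24) (kg xg21 yg40 zg55) (kg xg6 yg41 zg28) (kg xg7 yg46 zg8) (kg xg14 yg6 zg37) (kg xg21 yg55 zg30) (kg xg21 yg55 zg32) (kg xg21 yg8 zg29) (kg xg21 yg28 zg23) (kg xg7 yg19 zg37)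 (kg xg16 yg2 zg43) (kg xg6 yg41 zg33) (kg xg21 yg8 zg40) (kg xg21 yg6 zg13) (kg xg21 yg55 zg51) (kg xg18 yg40 zg56) (kg xg10 yg17 zg33) (kg xg21 yg8 zg44) (kg xg6 yg41 zg37) (kg xg21 yg8 zg43) (kg xg21 yg56 zg2) (kg xg15 yg45 zg15) (kg xg21 yg56 zg7) (kg xg12 yg40 zg14) (kg xg12 yg36 zg49) (kg xg21 yg8 zg46) (kg xg6 yg41 zg40) (kg xg21 yg8 zg45) (kg xg14 yg0 zg3) (kg xg21 yg56 zg19) (kg xg15 yg43 zg14) (kg xg8 yg22 zg21) (kg xg21 yg56 zg14) (kg xg21 yg19 zg43) (kg xg21 yg56 zg28) (kg xg21 yg23 zg48) (kg xg7 yg55 zg2) (kg xg12 yg21 zg28) (kg xg16 yg6 zg39) (kg xg21 yg8 zg57) (kg xg21 yg8 zg55) (kg xg6 yg41 zg46) (kg xg21 yg56 zg43) (kg xg21 yg56 zg48) (kg xg21 yg55 zg57) (kg xg21 yg56 zg52) (kg xg13 yg59 zg41) (kg xg21 yg56 zg57) (kg xg13 yg46 zg36) (kg xg21 yg57 zg0)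 (kg xg21 yg41 zg2) (kg xg6 yg41 zg50) (kg xg21 yg41 zg1) (kg xg14 yg1 zg36) (kg xg11 yg8 zg36) (kg xg16 yg57 zg54) (kg xg6 yg41 zg53) (kg xg15 yg26 zg52) (kg xg14 yg20 zg19)) (@D3.rec (fun _ => Pt) (kg xg12 yg29 zg17) (kg xg20 yg29 zg12) (kg xg20 yg49 zg37) (kg xg20 yg4 zg7) (kg xg12 yg26 zg48) (kg xg12 yg26 zg47) (kg xg21 yg57 zg15) (kg xg21 yg22 zg54) (kg xg12 yg23 zg43) (kg xg12 yg31 zg30) (kg xg15 yg4 zg61) (kg xg9 yg25 zg3) (kg xg6 yg42 zg11) (kg xg6 yg42 zg18) (kg xg21 yg57 zg27) (kg xg18 yg43 zg9) (kg xg6 yg42 zg5) (kg xg21 yg57 zg35) (kg xg21 yg57 zg28) (kg xg9 yg20 zg17) (kg xg21 yg57 zg40) (kg xg12 yg24 zg54) (kg xg14 yg20 zg3) (kg xg8 yg0 zg15) (kg xg8 yg50 zg45) (kg xg16 yg46 zg61) (kg xg8 yg0 zg2) (kg xg6 yg42 zg12) (kg xg9 yg22 zg39) (kg xg17 yg55 zg8)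 (kg xg6 yg42 zg13) (kg xg21 yg57 zg45) (kg xg20 yg6 zg37) (kg xg13 yg55 zg42) (kg xg17 yg54 zg48) (kg xg19 yg33 zg46) (kg xg6 yg55 zg15) (kg xg17 yg34 zg24) (kg xg8 yg57 zg30) (kg xg14 yg50 zg15) (kg xg20 yg4 zg44) (kg xg14 yg50 zg13) (kg xg21 yg46 zg4) (kg xg21 yg46 zg5) (kg xg19 yg42 zg49) (kg xg10 yg5 zg27) (kg xg12 yg17 zg35) (kg xg6 yg42 zg23) (kg xg6 yg42 zg20) (kg xg21 yg58 zg2) (kg xg6 yg42 zg22) (kg xg14 yg2 zg43) (kg xg11 yg2 zg6) (kg xg21 yg57 zg59) (kg xg21 yg36 zg3) (kg xg6 yg42 zg25) (kg xg21 yg58 zg9) (kg xg19 yg49 zg30) (kg xg20 yg43 zg33) (kg xg19 yg40 zg20) (kg xg17 yg5 zg49) (kg xg17 yg5 zg51)) (@D3.rec (fun _ => Pt) (kg xg10 yg5 zg32) (kg xg12 yg17 zg42) (kg xg21 yg58 zg1) (kg xg17 yg40 zg42) (kg xg13 yg0 zg56) (kg xg17 yg13 zg40) (kg xg6 yg42 zg36)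 (kg xg9 yg13 zg42) (kg xg16 yg48 zg54) (kg xg19 yg49 zg29) (kg xg16 yg16 zg29) (kg xg21 yg58 zg20) (kg xg6 yg42 zg39) (kg xg21 yg58 zg25) (kg xg21 yg20 zg5) (kg xg7 yg26 zg46) (kg xg21 yg58 zg28) (kg xg21 yg58 zg26) (kg xg17 yg36 zg46) (kg xg21 yg34 zg0) (kg xg12 yg19 zg57) (kg xg21 yg58 zg35) (kg xg6 yg42 zg45) (kg xg17 yg39 zg23) (kg xg21 yg58 zg42) (kg xg21 yg58 zg39) (kg xg17 yg42 zg54) (kg xg6 yg42 zg46) (kg xg21 yg58 zg13) (kg xg21 yg58 zg48) (kg xg21 yg57 zg19) (kg xg17 yg51 zg14) (kg xg19 yg42 zg26) (kg xg9 yg22 zg2) (kg xg16 yg0 zg0) (kg xg6 yg42 zg50) (kg xg21 yg58 zg55) (kg xg13 yg1 zg18) (kg xg12 yg32 zg49) (kg xg17 yg29 zg29) (kg xg6 yg42 zg53) (kg xg17 yg29 zg28) (kg xg17 yg29 zg26) (kg xg6 yg42 zg54) (kg xg17 yg29 zg25) (kg xg21 yg28 zg29) (kg xg15 yg35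 zg15) (kg xg12 yg18 zg3) (kg xg12 yg18 zg2) (kg xg21 yg59 zg12) (kg xg21 yg23 zg6) (kg xg21 yg34 zg33) (kg xg21 yg22 zg40) (kg xg6 yg43 zg1) (kg xg6 yg43 zg4) (kg xg20 yg14 zg29) (kg xg21 yg59 zg25) (kg xg21 yg53 zg17) (kg xg14 yg12 zg17) (kg xg6 yg43 zg2) (kg xg21 yg59 zg32) (kg xg21 yg59 zg26)) (@D3.rec (fun _ => Pt) (kg xg21 yg22 zg33) (kg xg12 yg23 zg56) (kg xg21 yg54 zg10) (kg xg21 yg59 zg17) (kg xg6 yg43 zg3) (kg xg21 yg59 zg46) (kg xg16 yg8 zg42) (kg xg21 yg59 zg40) (kg xg21 yg59 zg50) (kg xg21 yg59 zg9) (kg xg21 yg11 zg16) (kg xg12 yg56 zg42) (kg xg6 yg45 zg33) (kg xg16 yg57 zg15) (kg xg7 yg32 zg45) (kg xg17 yg16 zg47) (kg xg14 yg10 zg21) (kg xg6 yg43 zg13) (kg xg21 yg59 zg59) (kg xg6 yg43 zg14) (kg xg22 yg0 zg1) (kg xg17 yg12 zg2) (kg xg6 yg43 zg36) (kg xg6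 yg43 zg16) (kg xg22 yg0 zg9) (kg xg21 yg21 zg36) (kg xg9 yg16 zg8) (kg xg6 yg43 zg50) (kg xg6 yg43 zg18) (kg xg22 yg0 zg18) (kg xg21 yg0 zg21) (kg xg11 yg45 zg35) (kg xg17 yg28 zg38) (kg xg12 yg37 zg13) (kg xg9 yg25 zg6) (kg xg7 yg34 zg12) (kg xg6 yg43 zg21) (kg xg22 yg0 zg32) (kg xg22 yg0 zg35) (kg xg7 yg39 zg28) (kg xg7 yg43 zg37) (kg xg14 yg13 zg35) (kg xg7 yg38 zg14) (kg xg22 yg0 zg41) (kg xg14 yg41 zg39) (kg xg6 yg43 zg27) (kg xg22 yg0 zg50) (kg xg21 yg40 zg27) (kg xg22 yg0 zg55) (kg xg6 yg43 zg32) (kg xg6 yg43 zg30) (kg xg22 yg0 zg61) (kg xg22 yg1 zg2) (kg xg22 yg1 zg0) (kg xg22 yg1 zg8) (kg xg20 yg44 zg45) (kg xg22 yg1 zg14) (kg xg9 yg16 zg59) (kg xg18 yg45 zg22) (kg xg7 yg32 zg48) (kg xg22 yg1 zg15) (kg xg22 yg1 zg23)) (@D3.rec (fun _ => Pt) (kg xg17 yg27 zg16)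 (kg xg6 yg43 zg35) (kg xg22 yg1 zg32) (kg xg17 yg26 zg39) (kg xg22 yg0 zg10) (kg xg22 yg1 zg39) (kg xg20 yg44 zg16) (kg xg17 yg26 zg37) (kg xg22 yg1 zg45) (kg xg22 yg1 zg48) (kg xg17 yg27 zg37) (kg xg12 yg11 zg39) (kg xg6 yg43 zg44) (kg xg6 yg43 zg41) (kg xg8 yg31 zg0) (kg xg22 yg1 zg59) (kg xg15 yg43 zg5) (kg xg9 yg16 zg48) (kg xg22 yg2 zg1) (kg xg22 yg1 zg60) (kg xg12 yg33 zg47) (kg xg22 yg2 zg7) (kg xg12 yg16 zg25) (kg xg22 yg2 zg10) (kg xg12 yg11 zg44) (kg xg22 yg2 zg11) (kg xg12 yg11 zg59) (kg xg22 yg2 zg12) (kg xg6 yg43 zg48) (kg xg21 yg33 zg14) (kg xg22 yg2 zg17) (kg xg21 yg46 zg14) (kg xg17 yg27 zg20) (kg xg6 yg43 zg49) (kg xg17 yg27 zg38) (kg xg19 yg37 zg52) (kg xg22 yg0 zg22) (kg xg12 yg50 zg58) (kg xg22 yg2 zg28) (kg xg17 yg30 zg49) (kg xg6 yg43 zg55) (kg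 xg17 yg30 zg48) (kg xg22 yg2 zg35) (kg xg10 yg50 zg49) (kg xg17 yg30 zg39) (kg xg6 yg43 zg57) (kg xg17 yg30 zg38) (kg xg6 yg43 zg58) (kg xg22 yg2 zg46) (kg xg12 yg26 zg0) (kg xg6 yg43 zg59) (kg xg13 yg20 zg14) (kg xg6 yg44 zg0) (kg xg12 yg19 zg33) (kg xg22 yg2 zg55) (kg xg20 yg9 zg43) (kg xg18 yg1 zg28) (kg xg9 yg59 zg10) (kg xg6 yg44 zg4) (kg xg6 yg44 zg7) (kg xg22 yg2 zg59) (kg xg16 yg31 zg28)) (@D3.rec (fun _ => Pt) (kg xg6 yg44 zg5) (kg xg22 yg3 zg0) (kg xg22 yg2 zg60) (kg xg12 yg45 zg38) (kg xg22 yg3 zg4) (kg xg21 yg54 zg1) (kg xg6 yg44 zg6) (kg xg13 yg44 zg1) (kg xg20 yg14 zg21) (kg xg21 yg53 zg48) (kg xg8 yg24 zg18) (kg xg22 yg2 zg49) (kg xg20 yg16 zg45) (kg xg6 yg51 zg7) (kg xg9 yg15 zg40) (kg xg18 yg22 zg41) (kg xg17 yg6 zg21) (kg xg21 yg22 zg11) (kg xg16 yg13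 zg55) (kg xg9 yg50 zg32) (kg xg21 yg1 zg29) (kg xg12 yg27 zg46) (kg xg17 yg5 zg7) (kg xg6 yg44 zg25) (kg xg16 yg14 zg15) (kg xg21 yg22 zg14) (kg xg12 yg43 zg30) (kg xg6 yg45 zg3) (kg xg9 yg11 zg51) (kg xg17 yg6 zg30) (kg xg15 yg49 zg34) (kg xg12 yg43 zg6) (kg xg6 yg44 zg31) (kg xg6 yg45 zg7) (kg xg12 yg28 zg18) (kg xg16 yg42 zg16) (kg xg20 yg54 zg5) (kg xg6 yg44 zg35) (kg xg21 yg20 zg41) (kg xg12 yg28 zg23) (kg xg9 yg49 zg6) (kg xg22 yg3 zg23) (kg xg17 yg4 zg37) (kg xg18 yg0 zg57) (kg xg21 yg1 zg36) (kg xg17 yg4 zg54) (kg xg6 yg44 zg38) (kg xg21 yg50 zg26) (kg xg17 yg4 zg52) (kg xg20 yg51 zg12) (kg xg11 yg16 zg17) (kg xg17 yg59 zg32) (kg xg9 yg15 zg36) (kg xg17 yg5 zg1) (kg xg6 yg44 zg43) (kg xg22 yg2 zg53) (kg xg22 yg3 zg39) (kg xg17 yg4 zg60) (kg xg21 yg54 zg51) (kg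 xg20 yg52 zg5) (kg xg22 yg3 zg43) (kg xg22 yg3 zg15)) (@D3.rec (fun _ => Pt) (kg xg11 yg54 zg13) (kg xg6 yg51 zg11) (kg xg12 yg56 zg31) (kg xg11 yg21 zg3) (kg xg21 yg47 zg15) (kg xg17 yg9 zg39) (kg xg6 yg45 zg2) (kg xg6 yg44 zg55) (kg xg21 yg51 zg43) (kg xg21 yg51 zg56) (kg xg11 yg55 zg18) (kg xg21 yg0 zg5) (kg xg6 yg45 zg4) (kg xg6 yg44 zg58) (kg xg22 yg3 zg58) (kg xg11 yg52 zg27) (kg xg22 yg4 zg1) (kg xg16 yg45 zg22) (kg xg6 yg44 zg59) (kg xg11 yg50 zg15) (kg xg18 yg22 zg28) (kg xg11 yg16 zg2) (kg xg21 yg33 zg28) (kg xg18 yg15 zg16) (kg xg21 yg51 zg45) (kg xg21 yg9 zg46) (kg xg10 yg12 zg42) (kg xg12 yg24 zg21) (kg xg17 yg5 zg9) (kg xg11 yg53 zg44) (kg xg22 yg4 zg11) (kg xg11 yg56 zg32) (kg xg22 yg4 zg12) (kg xg11 yg54 zg4) (kg xg22 yg4 zg13) (kg xg21 yg1 zg38) (kg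 xg21 yg1 zg21) (kg xg6 yg45 zg10) (kg xg21 yg1 zg20) (kg xg11 yg53 zg15) (kg xg21 yg1 zg17) (kg xg6 yg45 zg11) (kg xg21 yg52 zg12) (kg xg22 yg4 zg22) (kg xg15 yg47 zg40) (kg xg17 yg7 zg27) (kg xg17 yg33 zg33) (kg xg22 yg4 zg30) (kg xg6 yg45 zg22) (kg xg11 yg26 zg2) (kg xg20 yg51 zg27) (kg xg17 yg33 zg21) (kg xg11 yg57 zg14) (kg xg11 yg57 zg22) (kg xg6 yg45 zg19) (kg xg22 yg4 zg37) (kg xg22 yg4 zg41) (kg xg16 yg51 zg8) (kg xg6 yg45 zg20) (kg xg10 yg58 zg27) (kg xg11 yg21 zg7) (kg xg14 yg35 zg50)) (@D3.rec (fun _ => Pt) (kg xg17 yg31 zg59) (kg xg20 yg59 zg54) (kg xg10 yg43 zg45) (kg xg20 yg4 zg19) (kg xg21 yg9 zg42) (kg xg9 yg17 zg44) (kg xg19 yg44 zg19) (kg xg8 yg40 zg11) (kg xg9 yg17 zg39) (kg xg22 yg4 zg57) (kg xg12 yg43 zg0) (kg xg17 yg33 zg38) (kg xg6 yg45 zg32)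 (kg xg17 yg33 zg37) (kg xg22 yg5 zg4) (kg xg17 yg32 zg14) (kg xg18 yg36 zg20) (kg xg12 yg4 zg5) (kg xg22 yg5 zg8) (kg xg13 yg58 zg40) (kg xg11 yg56 zg6) (kg xg16 yg57 zg22) (kg xg19 yg32 zg31) (kg xg20 yg9 zg7) (kg xg17 yg31 zg47) (kg xg10 yg43 zg17) (kg xg11 yg34 zg50) (kg xg17 yg0 zg33) (kg xg10 yg43 zg21) (kg xg20 yg20 zg30) (kg xg16 yg51 zg5) (kg xg17 yg32 zg25) (kg xg19 yg24 zg22) (kg xg19 yg47 zg12) (kg xg17 yg33 zg16) (kg xg6 yg45 zg52) (kg xg17 yg33 zg15) (kg xg10 yg44 zg49) (kg xg6 yg45 zg54) (kg xg16 yg11 zg22) (kg xg22 yg5 zg24) (kg xg21 yg53 zg47) (kg xg16 yg57 zg23) (kg xg17 yg33 zg47) (kg xg6 yg45 zg57) (kg xg17 yg33 zg46) (kg xg22 yg5 zg33) (kg xg8 yg58 zg14) (kg xg11 yg1 zg27) (kg xg14 yg48 zg20) (kg xg20 yg59 zg47) (kg xg22 yg5 zg37) (kg xg10 yg57 zg34)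 (kg xg6 yg46 zg2) (kg xg20 yg53 zg10) (kg xg6 yg46 zg3) (kg xg15 yg25 zg29) (kg xg8 yg56 zg59) (kg xg12 yg50 zg8) (kg xg8 yg10 zg58) (kg xg6 yg46 zg7) (kg xg17 yg33 zg49)) (@D3.rec (fun _ => Pt) (kg xg15 yg27 zg36) (kg xg6 yg46 zg9) (kg xg6 yg46 zg12) (kg xg22 yg5 zg43) (kg xg22 yg5 zg55) (kg xg17 yg42 zg23) (kg xg6 yg46 zg10) (kg xg20 yg13 zg51) (kg xg20 yg51 zg14) (kg xg21 yg23 zg42) (kg xg16 yg7 zg46) (kg xg17 yg12 zg36) (kg xg6 yg46 zg11) (kg xg15 yg43 zg44) (kg xg20 yg49 zg9) (kg xg22 yg6 zg6) (kg xg11 yg24 zg8) (kg xg6 yg46 zg13) (kg xg6 yg46 zg17) (kg xg18 yg37 zg22) (kg xg18 yg24 zg13) (kg xg13 yg2 zg17) (kg xg10 yg45 zg34) (kg xg6 yg46 zg35) (kg xg6 yg50 zg32) (kg xg6 yg50 zg27) (kg xg6 yg46 zg29) (kg xg19 yg47 zg13) (kg xg21 yg59 zg29) (kg xg11 yg22 zg54)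 (kg xg6 yg51 zg12) (kg xg10 yg33 zg18) (kg xg22 yg6 zg15) (kg xg19 yg7 zg12) (kg xg21 yg35 zg12) (kg xg10 yg49 zg6) (kg xg10 yg43 zg16) (kg xg15 yg29 zg57) (kg xg21 yg53 zg49) (kg xg12 yg18 zg30) (kg xg22 yg6 zg20) (kg xg18 yg1 zg39) (kg xg9 yg31 zg25) (kg xg12 yg58 zg9) (kg xg6 yg46 zg43) (kg xg8 yg36 zg19) (kg xg6 yg46 zg45) (kg xg12 yg25 zg42) (kg xg22 yg6 zg26) (kg xg6 yg46 zg47) (kg xg12 yg3 zg32) (kg xg19 yg32 zg23) (kg xg13 yg1 zg48) (kg xg9 yg6 zg4) (kg xg14 yg35 zg27) (kg xg20 yg34 zg23) (kg xg17 yg21 zg7) (kg xg9 yg27 zg21) (kg xg22 yg6 zg35) (kg xg9 yg21 zg26) (kg xg7 yg34 zg30) (kg xg22 yg0 zg36)) (@D3.rec (fun _ => Pt) (kg xg17 yg12 zg7) (kg xg17 yg34 zg11) (kg xg17 yg26 zg61) (kg xg17 yg34 zg9) (kg xg6 yg47 zg4) (kg xg15 yg31 zg51) (kg xg22 yg6 zg49) (kg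 xg17 yg26 zg57) (kg xg6 yg47 zg5) (kg xg22 yg6 zg54) (kg xg22 yg0 zg27) (kg xg17 yg11 zg57) (kg xg9 yg16 zg9) (kg xg22 yg6 zg61) (kg xg7 yg34 zg27) (kg xg17 yg11 zg55) (kg xg15 yg40 zg30) (kg xg6 yg47 zg8) (kg xg8 yg32 zg21) (kg xg20 yg43 zg53) (kg xg22 yg6 zg38) (kg xg6 yg47 zg9) (kg xg22 yg7 zg12) (kg xg22 yg6 zg36) (kg xg17 yg32 zg27) (kg xg7 yg34 zg28) (kg xg17 yg20 zg36) (kg xg12 yg32 zg35) (kg xg9 yg30 zg55) (kg xg12 yg4 zg30) (kg xg9 yg27 zg42) (kg xg6 yg47 zg14) (kg xg9 yg27 zg41) (kg xg16 yg58 zg10) (kg xg17 yg17 zg8) (kg xg22 yg7 zg26) (kg xg18 yg57 zg20) (kg xg7 yg31 zg16) (kg xg14 yg35 zg31) (kg xg6 yg47 zg27) (kg xg9 yg6 zg33) (kg xg6 yg47 zg25) (kg xg20 yg23 zg33) (kg xg22 yg7 zg34) (kg xg10 yg43 zg20) (kg xg21 yg2 zg8) (kg xg10 yg11 zg13) (kg xg6 yg47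 zg22) (kg xg22 yg7 zg39) (kg xg15 yg29 zg14) (kg xg19 yg58 zg0) (kg xg20 yg5 zg24) (kg xg20 yg26 zg13) (kg xg22 yg7 zg45) (kg xg15 yg5 zg34) (kg xg21 yg51 zg11) (kg xg14 yg35 zg29) (kg xg10 yg57 zg25) (kg xg22 yg7 zg49) (kg xg15 yg24 zg39) (kg xg6 yg47 zg28) (kg xg17 yg34 zg41)) (@D3.rec (fun _ => Pt) (kg xg21 yg30 zg54) (kg xg22 yg7 zg55) (kg xg11 yg30 zg4) (kg xg12 yg44 zg30) (kg xg22 yg7 zg56) (kg xg9 yg17 zg37) (kg xg16 yg51 zg40) (kg xg18 yg2 zg12) (kg xg10 yg55 zg35) (kg xg12 yg56 zg44) (kg xg6 yg47 zg61) (kg xg6 yg47 zg60) (kg xg6 yg47 zg38) (kg xg10 yg51 zg14) (kg xg13 yg1 zg29) (kg xg12 yg19 zg11) (kg xg22 yg8 zg10) (kg xg17 yg30 zg25) (kg xg19 yg59 zg57) (kg xg17 yg34 zg53) (kg xg6 yg47 zg45) (kg xg14 yg12 zg2) (kg xg12 yg24 zg59) (kg xg21 yg32 zg47) (kg xg22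 yg8 zg19) (kg xg17 yg14 zg53) (kg xg17 yg16 zg49) (kg xg6 yg47 zg51) (kg xg22 yg8 zg22) (kg xg16 yg45 zg46) (kg xg7 yg31 zg44) (kg xg6 yg47 zg52) (kg xg13 yg0 zg44) (kg xg7 yg31 zg43) (kg xg12 yg20 zg33) (kg xg12 yg20 zg35) (kg xg7 yg31 zg50) (kg xg6 yg47 zg58) (kg xg6 yg47 zg57) (kg xg9 yg19 zg11) (kg xg9 yg10 zg41) (kg xg12 yg15 zg4) (kg xg22 yg8 zg29) (kg xg22 yg8 zg33) (kg xg22 yg8 zg36) (kg xg22 yg8 zg34) (kg xg12 yg38 zg35) (kg xg18 yg50 zg21) (kg xg21 yg51 zg52) (kg xg12 yg30 zg41) (kg xg19 yg0 zg44) (kg xg22 yg8 zg41) (kg xg12 yg30 zg43) (kg xg14 yg58 zg17) (kg xg12 yg19 zg21) (kg xg22 yg8 zg47) (kg xg9 yg33 zg2) (kg xg14 yg56 zg41) (kg xg6 yg48 zg8) (kg xg14 yg56 zg40) (kg xg18 yg5 zg3) (kg xg22 yg8 zg53)) (@D3.rec (fun _ => Pt) (kg xg12 yg18 zg51) (kg xg22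 yg8 zg56) (kg xg12 yg42 zg28) (kg xg21 yg27 zg12) (kg xg22 yg8 zg57) (kg xg10 yg13 zg23) (kg xg22 yg9 zg4) (kg xg12 yg33 zg23) (kg xg17 yg14 zg50) (kg xg22 yg9 zg11) (kg xg12 yg33 zg20) (kg xg6 yg49 zg11) (kg xg17 yg14 zg54) (kg xg12 yg0 zg26) (kg xg12 yg0 zg25) (kg xg22 yg9 zg20) (kg xg22 yg9 zg24) (kg xg22 yg9 zg26) (kg xg8 yg23 zg22) (kg xg8 yg23 zg32) (kg xg12 yg19 zg31) (kg xg22 yg9 zg28) (kg xg18 yg15 zg50) (kg xg21 yg27 zg54) (kg xg22 yg9 zg29) (kg xg12 yg19 zg39) (kg xg16 yg8 zg59) (kg xg6 yg48 zg25) (kg xg22 yg2 zg50) (kg xg12 yg19 zg30) (kg xg9 yg44 zg7) (kg xg22 yg9 zg39) (kg xg13 yg0 zg38) (kg xg6 yg48 zg29) (kg xg13 yg0 zg37) (kg xg21 yg5 zg26) (kg xg22 yg9 zg45) (kg xg12 yg0 zg23) (kg xg16 yg29 zg7) (kg xg22 yg9 zg49) (kg xg17 yg14 zg55) (kg xg21 yg17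 zg61) (kg xg21 yg8 zg50) (kg xg21 yg39 zg41) (kg xg15 yg27 zg23) (kg xg6 yg48 zg38) (kg xg12 yg34 zg12) (kg xg8 yg25 zg7) (kg xg11 yg18 zg1) (kg xg21 yg10 zg17) (kg xg8 yg23 zg35) (kg xg12 yg12 zg15) (kg xg15 yg49 zg47) (kg xg9 yg18 zg26) (kg xg9 yg18 zg27) (kg xg6 yg48 zg48) (kg xg16 yg13 zg52) (kg xg9 yg36 zg34) (kg xg6 yg48 zg49) (kg xg21 yg18 zg27) (kg xg17 yg45 zg13) (kg xg8 yg35 zg22))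
def f_g_13 : D2 → D3 → Pt := @D2.rec (fun _ => D3 → Pt) (@D3.rec (fun _ => Pt) (kg xg9 yg0 zg18) (kg xg6 yg48 zg52) (kg xg21 yg10 zg10) (kg xg9 yg20 zg34) (kg xg22 yg10 zg7) (kg xg6 yg48 zg57) (kg xg6 yg48 zg53) (kg xg21 yg6 zg11) (kg xg22 yg10 zg18) (kg xg22 yg10 zg22) (kg xg22 yg8 zg61) (kg xg17 yg50 zg61) (kg xg12 yg18 zg11) (kg xg22 yg10 zg31) (kg xg12 yg18 zg12) (kg xg12 yg20 zg11) (kg xg12 yg20 zg16) (kg xg12 yg0 zg1) (kg xg12 yg27 zg20) (kg xg11 yg17 zg37) (kg xg14 yg11 zg24) (kg xg22 yg10 zg19) (kg xg8 yg22 zg1) (kg xg22 yg10 zg26) (kg xg9 yg20 zg22) (kg xg6 yg48 zg59) (kg xg8 yg59 zg21) (kg xg12 yg20 zg51) (kg xg9 yg59 zg7) (kg xg21 yg49 zg37) (kg xg21 yg21 zg18) (kg xg6 yg49 zg4) (kg xg22 yg10 zg43) (kg xg21 yg21 zg17) (kg xg22 yg10 zg46) (kg xg15 yg34 zg31)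 (kg xg12 yg59 zg34) (kg xg6 yg49 zg10) (kg xg12 yg59 zg33) (kg xg22 yg9 zg17) (kg xg22 yg10 zg55) (kg xg17 yg35 zg32) (kg xg12 yg48 zg36) (kg xg22 yg10 zg57) (kg xg9 yg32 zg45) (kg xg17 yg37 zg1) (kg xg12 yg30 zg48) (kg xg6 yg49 zg39) (kg xg6 yg49 zg16) (kg xg9 yg29 zg13) (kg xg21 yg3 zg6) (kg xg21 yg36 zg35) (kg xg6 yg49 zg25) (kg xg6 yg59 zg42) (kg xg17 yg17 zg19) (kg xg13 yg54 zg46) (kg xg12 yg58 zg14) (kg xg6 yg49 zg36) (kg xg11 yg49 zg1) (kg xg20 yg26 zg8) (kg xg14 yg13 zg50) (kg xg20 yg45 zg10)) (@D3.rec (fun _ => Pt) (kg xg22 yg6 zg8) (kg xg18 yg15 zg13) (kg xg6 yg49 zg40) (kg xg11 yg40 zg21) (kg xg21 yg3 zg2) (kg xg11 yg35 zg0) (kg xg11 yg41 zg29) (kg xg6 yg49 zg49) (kg xg15 yg5 zg13) (kg xg12 yg43 zg24) (kg xg21 yg57 zg31) (kg xg12 yg17 zg36) (kg xg9 yg39 zg10)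 (kg xg22 yg11 zg12) (kg xg22 yg11 zg16) (kg xg6 yg49 zg60) (kg xg9 yg25 zg5) (kg xg22 yg11 zg20) (kg xg12 yg51 zg25) (kg xg17 yg7 zg59) (kg xg21 yg30 zg56) (kg xg11 yg35 zg61) (kg xg9 yg31 zg4) (kg xg12 yg24 zg48) (kg xg22 yg8 zg4) (kg xg19 yg37 zg8) (kg xg12 yg24 zg49) (kg xg21 yg42 zg24) (kg xg12 yg30 zg37) (kg xg12 yg50 zg4) (kg xg11 yg29 zg38) (kg xg6 yg50 zg34) (kg xg14 yg13 zg47) (kg xg10 yg5 zg13) (kg xg17 yg27 zg11) (kg xg6 yg50 zg20) (kg xg22 yg8 zg5) (kg xg20 yg28 zg4) (kg xg9 yg49 zg26) (kg xg9 yg18 zg16) (kg xg17 yg58 zg21) (kg xg11 yg28 zg49) (kg xg12 yg17 zg47) (kg xg17 yg20 zg38) (kg xg6 yg50 zg33) (kg xg14 yg19 zg44) (kg xg10 yg18 zg33) (kg xg12 yg56 zg52) (kg xg6 yg50 zg36) (kg xg14 yg5 zg0) (kg xg11 yg43 zg36) (kg xg20 yg28 zg3) (kg xg22 yg11 zg36)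 (kg xg6 yg53 zg23) (kg xg6 yg50 zg41) (kg xg18 yg43 zg25) (kg xg10 yg4 zg51) (kg xg17 yg29 zg51) (kg xg6 yg50 zg44) (kg xg9 yg59 zg55) (kg xg15 yg26 zg26) (kg xg10 yg4 zg25)) (@D3.rec (fun _ => Pt) (kg xg9 yg29 zg33) (kg xg12 yg25 zg52) (kg xg13 yg6 zg43) (kg xg18 yg39 zg36) (kg xg9 yg29 zg32) (kg xg22 yg11 zg45) (kg xg22 yg11 zg48) (kg xg8 yg24 zg46) (kg xg6 yg50 zg59) (kg xg20 yg24 zg26) (kg xg12 yg30 zg24) (kg xg12 yg25 zg1) (kg xg19 yg24 zg14) (kg xg22 yg6 zg21) (kg xg11 yg30 zg43) (kg xg20 yg59 zg24) (kg xg22 yg7 zg44) (kg xg18 yg23 zg29) (kg xg11 yg35 zg27) (kg xg21 yg2 zg46) (kg xg14 yg20 zg39) (kg xg8 yg56 zg57) (kg xg10 yg45 zg11) (kg xg15 yg30 zg23) (kg xg10 yg45 zg24) (kg xg19 yg22 zg19) (kg xg22 yg6 zg12) (kg xg6 yg51 zg17) (kg xg22 yg6 zg11) (kg xg22 yg12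 zg2) (kg xg20 yg6 zg60) (kg xg12 yg35 zg30) (kg xg9 yg20 zg5) (kg xg22 yg12 zg6) (kg xg7 yg24 zg41) (kg xg13 yg26 zg17) (kg xg6 yg51 zg25) (kg xg13 yg26 zg16) (kg xg13 yg55 zg17) (kg xg6 yg51 zg26) (kg xg22 yg12 zg15) (kg xg22 yg12 zg18) (kg xg7 yg30 zg4) (kg xg7 yg30 zg3) (kg xg22 yg12 zg21) (kg xg7 yg5 zg19) (kg xg22 yg12 zg25) (kg xg12 yg33 zg35) (kg xg21 yg37 zg21) (kg xg13 yg14 zg55) (kg xg6 yg51 zg33) (kg xg22 yg12 zg31) (kg xg13 yg14 zg53) (kg xg20 yg46 zg24) (kg xg13 yg19 zg33) (kg xg13 yg12 zg51) (kg xg22 yg12 zg39) (kg xg6 yg52 zg3) (kg xg6 yg51 zg39) (kg xg13 yg12 zg55) (kg xg13 yg12 zg53) (kg xg6 yg57 zg35)) (@D3.rec (fun _ => Pt) (kg xg13 yg4 zg54) (kg xg6 yg51 zg42) (kg xg14 yg13 zg36) (kg xg19 yg19 zg36) (kg xg6 yg52 zg13) (kg xg14 yg16 zg40) (kg xg14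 yg17 zg23) (kg xg6 yg53 zg27) (kg xg6 yg51 zg48) (kg xg22 yg12 zg48) (kg xg6 yg53 zg25) (kg xg7 yg11 zg34) (kg xg6 yg53 zg36) (kg xg6 yg51 zg50) (kg xg13 yg35 zg52) (kg xg13 yg20 zg17) (kg xg6 yg51 zg58) (kg xg13 yg4 zg58) (kg xg6 yg51 zg53) (kg xg18 yg54 zg49) (kg xg11 yg38 zg51) (kg xg17 yg58 zg37) (kg xg17 yg11 zg12) (kg xg6 yg51 zg57) (kg xg22 yg13 zg9) (kg xg22 yg12 zg37) (kg xg22 yg12 zg36) (kg xg22 yg13 zg17) (kg xg19 yg19 zg4) (kg xg6 yg52 zg0) (kg xg22 yg13 zg25) (kg xg22 yg13 zg29) (kg xg6 yg51 zg61) (kg xg7 yg31 zg15) (kg xg22 yg13 zg34) (kg xg19 yg31 zg17) (kg xg22 yg13 zg26) (kg xg22 yg13 zg38) (kg xg22 yg13 zg14) (kg xg22 yg13 zg43) (kg xg22 yg13 zg46) (kg xg14 yg10 zg58) (kg xg13 yg5 zg20) (kg xg6 yg57 zg13) (kg xg6 yg52 zg4) (kg xg22 yg13 zg54) (kg xg6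 yg57 zg11) (kg xg13 yg12 zg49) (kg xg20 yg47 zg20) (kg xg14 yg15 zg60) (kg xg6 yg57 zg55) (kg xg13 yg21 zg34) (kg xg13 yg21 zg37) (kg xg22 yg14 zg5) (kg xg10 yg40 zg10) (kg xg6 yg52 zg17) (kg xg6 yg52 zg10) (kg xg22 yg13 zg23) (kg xg22 yg14 zg17) (kg xg6 yg52 zg11) (kg xg6 yg54 zg43) (kg xg6 yg57 zg8)) (@D3.rec (fun _ => Pt) (kg xg6 yg52 zg19) (kg xg19 yg19 zg9) (kg xg6 yg57 zg21) (kg xg6 yg52 zg14) (kg xg7 yg19 zg42) (kg xg22 yg14 zg24) (kg xg22 yg14 zg27) (kg xg14 yg56 zg54) (kg xg22 yg14 zg29) (kg xg7 yg24 zg29) (kg xg6 yg54 zg60) (kg xg14 yg14 zg50) (kg xg6 yg54 zg44) (kg xg7 yg6 zg18) (kg xg22 yg14 zg34) (kg xg7 yg3 zg44) (kg xg7 yg5 zg54) (kg xg7 yg12 zg22) (kg xg22 yg14 zg39) (kg xg7 yg20 zg55) (kg xg6 yg52 zg27) (kg xg6 yg52 zg29) (kg xg13 yg16 zg30) (kg xg22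 yg14 zg45) (kg xg22 yg14 zg48) (kg xg14 yg3 zg45) (kg xg22 yg14 zg53) (kg xg14 yg56 zg48) (kg xg6 yg52 zg35) (kg xg14 yg56 zg47) (kg xg7 yg55 zg23) (kg xg22 yg14 zg60) (kg xg18 yg53 zg29) (kg xg13 yg26 zg34) (kg xg6 yg52 zg37) (kg xg13 yg26 zg33) (kg xg22 yg15 zg4) (kg xg7 yg2 zg5) (kg xg22 yg15 zg6) (kg xg22 yg15 zg8) (kg xg22 yg15 zg12) (kg xg22 yg14 zg47) (kg xg6 yg52 zg43) (kg xg22 yg14 zg46) (kg xg7 yg26 zg23) (kg xg6 yg52 zg47) (kg xg7 yg26 zg22) (kg xg14 yg14 zg49) (kg xg10 yg40 zg34) (kg xg7 yg1 zg10) (kg xg6 yg52 zg49) (kg xg11 yg0 zg41) (kg xg18 yg53 zg38) (kg xg13 yg3 zg0) (kg xg6 yg52 zg51) (kg xg13 yg3 zg1) (kg xg12 yg33 zg9) (kg xg6 yg52 zg53) (kg xg13 yg3 zg18) (kg xg22 yg15 zg29) (kg xg10 yg25 zg16) (kg xg10 yg25 zg39)) (@D3.rec (fun _ => Pt) (kg xg6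 yg52 zg55) (kg xg10 yg25 zg38) (kg xg22 yg15 zg34) (kg xg22 yg15 zg38) (kg xg18 yg53 zg36) (kg xg18 yg53 zg31) (kg xg7 yg54 zg48) (kg xg6 yg52 zg59) (kg xg13 yg26 zg8) (kg xg14 yg4 zg1) (kg xg14 yg8 zg33) (kg xg7 yg29 zg42) (kg xg13 yg18 zg21) (kg xg6 yg53 zg28) (kg xg22 yg15 zg54) (kg xg14 yg16 zg0) (kg xg6 yg53 zg8) (kg xg22 yg16 zg1) (kg xg11 yg42 zg38) (kg xg13 yg12 zg48) (kg xg13 yg3 zg39) (kg xg6 yg53 zg11) (kg xg22 yg15 zg5) (kg xg7 yg53 zg38) (kg xg22 yg16 zg9) (kg xg14 yg12 zg34) (kg xg6 yg53 zg15) (kg xg13 yg53 zg37) (kg xg11 yg30 zg13) (kg xg6 yg53 zg21) (kg xg6 yg53 zg16) (kg xg22 yg16 zg17) (kg xg6 yg53 zg19) (kg xg22 yg16 zg21) (kg xg22 yg16 zg23) (kg xg14 yg48 zg18) (kg xg13 yg40 zg18) (kg xg22 yg16 zg24) (kg xg13 yg50 zg3) (kg xg22 yg16 zg20) (kg xg6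 yg53 zg20) (kg xg22 yg16 zg33) (kg xg22 yg16 zg18) (kg xg21 yg49 zg38) (kg xg20 yg40 zg51) (kg xg21 yg44 zg41) (kg xg20 yg25 zg60) (kg xg20 yg40 zg56) (kg xg11 yg44 zg58) (kg xg22 yg12 zg51) (kg xg6 yg53 zg26) (kg xg22 yg16 zg48) (kg xg22 yg12 zg49) (kg xg13 yg34 zg23) (kg xg22 yg16 zg56) (kg xg22 yg16 zg60) (kg xg6 yg53 zg29) (kg xg13 yg35 zg38) (kg xg22 yg17 zg2) (kg xg13 yg35 zg43) (kg xg22 yg17 zg7) (kg xg7 yg28 zg8)) (@D3.rec (fun _ => Pt) (kg xg22 yg16 zg55) (kg xg13 yg45 zg12) (kg xg22 yg17 zg15) (kg xg7 yg30 zg54) (kg xg22 yg17 zg20) (kg xg13 yg6 zg7) (kg xg22 yg17 zg24) (kg xg7 yg10 zg43) (kg xg13 yg35 zg45) (kg xg22 yg17 zg31) (kg xg13 yg45 zg20) (kg xg13 yg16 zg46) (kg xg13 yg13 zg24) (kg xg22 yg17 zg38) (kg xg6 yg53 zg39) (kg xg7 yg6 zg56) (kg xg7 yg10 zg42)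 (kg xg13 yg8 zg49) (kg xg14 yg5 zg36) (kg xg7 yg21 zg55) (kg xg7 yg22 zg1) (kg xg14 yg1 zg43) (kg xg14 yg9 zg38) (kg xg6 yg53 zg47) (kg xg13 yg58 zg15) (kg xg22 yg17 zg47) (kg xg14 yg9 zg39) (kg xg6 yg53 zg48) (kg xg22 yg17 zg53) (kg xg7 yg29 zg20) (kg xg22 yg17 zg55) (kg xg14 yg2 zg13) (kg xg7 yg29 zg45) (kg xg13 yg9 zg1) (kg xg15 yg30 zg45) (kg xg14 yg12 zg51) (kg xg9 yg22 zg30) (kg xg13 yg17 zg8) (kg xg21 yg9 zg13) (kg xg13 yg17 zg31) (kg xg13 yg18 zg30) (kg xg13 yg18 zg48) (kg xg11 yg26 zg10) (kg xg12 yg24 zg13) (kg xg14 yg14 zg14) (kg xg19 yg20 zg14) (kg xg14 yg14 zg15) (kg xg10 yg40 zg61) (kg xg14 yg12 zg59) (kg xg14 yg14 zg48) (kg xg22 yg18 zg11) (kg xg13 yg18 zg20) (kg xg11 yg44 zg20) (kg xg11 yg44 zg18) (kg xg6 yg54 zg5) (kg xg22 yg18 zg22) (kg xg22 yg12 zg45)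 (kg xg7 yg48 zg13) (kg xg13 yg23 zg52) (kg xg22 yg18 zg28) (kg xg6 yg54 zg10) (kg xg13 yg56 zg12)) (@D3.rec (fun _ => Pt) (kg xg22 yg18 zg35) (kg xg22 yg18 zg37) (kg xg22 yg18 zg39) (kg xg13 yg18 zg29) (kg xg10 yg8 zg61) (kg xg19 yg22 zg56) (kg xg22 yg15 zg52) (kg xg11 yg59 zg47) (kg xg22 yg18 zg52) (kg xg22 yg18 zg54) (kg xg14 yg15 zg26) (kg xg22 yg18 zg59) (kg xg22 yg18 zg60) (kg xg14 yg20 zg12) (kg xg22 yg19 zg0) (kg xg14 yg41 zg38) (kg xg14 yg40 zg33) (kg xg13 yg34 zg52) (kg xg14 yg18 zg57) (kg xg13 yg7 zg61) (kg xg14 yg41 zg20) (kg xg14 yg10 zg29) (kg xg6 yg54 zg22) (kg xg22 yg19 zg18) (kg xg14 yg10 zg27) (kg xg6 yg54 zg24) (kg xg6 yg55 zg56) (kg xg22 yg19 zg25) (kg xg13 yg11 zg37) (kg xg20 yg48 zg25) (kg xg14 yg41 zg12) (kg xg13 yg12 zg30) (kg xg11 yg47 zg22)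 (kg xg14 yg30 zg40) (kg xg13 yg7 zg59) (kg xg20 yg44 zg19) (kg xg6 yg57 zg14) (kg xg6 yg54 zg28) (kg xg22 yg19 zg39) (kg xg20 yg48 zg7) (kg xg13 yg24 zg22) (kg xg6 yg57 zg47) (kg xg6 yg57 zg46) (kg xg22 yg19 zg44) (kg xg6 yg54 zg35) (kg xg6 yg54 zg33) (kg xg13 yg52 zg20) (kg xg22 yg15 zg22) (kg xg14 yg41 zg21) (kg xg20 yg48 zg23) (kg xg7 yg9 zg12) (kg xg6 yg58 zg56) (kg xg14 yg17 zg48) (kg xg6 yg54 zg57) (kg xg14 yg21 zg51) (kg xg6 yg54 zg42) (kg xg12 yg46 zg54) (kg xg14 yg5 zg61) (kg xg7 yg43 zg43) (kg xg13 yg7 zg31) (kg xg15 yg27 zg43) (kg xg13 yg7 zg15)) (@D3.rec (fun _ => Pt) (kg xg22 yg14 zg23) (kg xg6 yg54 zg52) (kg xg6 yg54 zg48) (kg xg22 yg20 zg0) (kg xg6 yg54 zg50) (kg xg7 yg16 zg19) (kg xg22 yg20 zg3) (kg xg13 yg37 zg31) (kg xg7 yg36 zg0) (kg xg7 yg41 zg60)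 (kg xg10 yg34 zg49) (kg xg7 yg20 zg49) (kg xg17 yg3 zg49) (kg xg6 yg54 zg51) (kg xg14 yg31 zg18) (kg xg22 yg20 zg1) (kg xg18 yg15 zg42) (kg xg17 yg32 zg1) (kg xg20 yg41 zg23) (kg xg17 yg31 zg13) (kg xg14 yg52 zg52) (kg xg6 yg54 zg55) (kg xg17 yg24 zg4) (kg xg9 yg30 zg43) (kg xg14 yg26 zg1) (kg xg22 yg20 zg34) (kg xg22 yg20 zg38) (kg xg6 yg54 zg58) (kg xg13 yg36 zg21) (kg xg19 yg45 zg19) (kg xg13 yg36 zg24) (kg xg22 yg20 zg44) (kg xg13 yg24 zg14) (kg xg22 yg20 zg33) (kg xg13 yg10 zg26) (kg xg22 yg20 zg51) (kg xg7 yg37 zg35) (kg xg22 yg20 zg56) (kg xg22 yg20 zg59) (kg xg14 yg22 zg36) (kg xg22 yg21 zg2) (kg xg14 yg28 zg5) (kg xg13 yg36 zg59) (kg xg19 yg45 zg22) (kg xg22 yg21 zg7) (kg xg6 yg55 zg8) (kg xg6 yg55 zg19) (kg xg14 yg2 zg25) (kg xg7 yg20 zg35) (kg xg13 yg6 zg19)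 (kg xg14 yg51 zg26) (kg xg6 yg55 zg13) (kg xg20 yg24 zg32) (kg xg14 yg24 zg37) (kg xg6 yg55 zg14) (kg xg22 yg21 zg14) (kg xg22 yg21 zg16) (kg xg13 yg55 zg40) (kg xg14 yg0 zg49) (kg xg7 yg52 zg25) (kg xg22 yg21 zg21) (kg xg22 yg21 zg24)) (@D3.rec (fun _ => Pt) (kg xg14 yg17 zg60) (kg xg9 yg47 zg28) (kg xg16 yg58 zg12) (kg xg14 yg24 zg0) (kg xg22 yg21 zg30) (kg xg14 yg24 zg45) (kg xg14 yg24 zg38) (kg xg22 yg21 zg37) (kg xg14 yg25 zg2) (kg xg17 yg31 zg25) (kg xg12 yg2 zg49) (kg xg17 yg31 zg23) (kg xg6 yg55 zg31) (kg xg17 yg23 zg23) (kg xg11 yg45 zg2) (kg xg22 yg21 zg51) (kg xg6 yg55 zg35) (kg xg13 yg53 zg53) (kg xg22 yg21 zg56) (kg xg22 yg21 zg59) (kg xg22 yg21 zg61) (kg xg7 yg49 zg40) (kg xg22 yg22 zg1) (kg xg22 yg19 zg52) (kg xg7 yg42 zg52) (kg xg22 yg22 zg4) (kg xg13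 yg45 zg41) (kg xg6 yg55 zg40) (kg xg11 yg51 zg50) (kg xg13 yg44 zg27) (kg xg10 yg47 zg0) (kg xg14 yg25 zg11) (kg xg13 yg29 zg3) (kg xg22 yg22 zg9) (kg xg14 yg4 zg2) (kg xg7 yg9 zg10) (kg xg7 yg4 zg40) (kg xg13 yg37 zg7) (kg xg7 yg49 zg38) (kg xg7 yg4 zg48) (kg xg22 yg22 zg17) (kg xg6 yg55 zg49) (kg xg14 yg5 zg42) (kg xg13 yg53 zg60) (kg xg22 yg22 zg21) (kg xg19 yg14 zg27) (kg xg13 yg52 zg43) (kg xg13 yg30 zg50) (kg xg14 yg34 zg13) (kg xg13 yg41 zg32) (kg xg14 yg22 zg46) (kg xg6 yg57 zg2) (kg xg6 yg56 zg4) (kg xg20 yg37 zg19) (kg xg6 yg56 zg2) (kg xg14 yg25 zg43) (kg xg11 yg28 zg8) (kg xg11 yg42 zg41) (kg xg6 yg55 zg61) (kg xg9 yg3 zg25) (kg xg22 yg22 zg27) (kg xg12 yg4 zg27)) (@D3.rec (fun _ => Pt) (kg xg6 yg56 zg0) (kg xg17 yg20 zg4) (kg xg12 yg33 zg58) (kg xg14 yg27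 zg26) (kg xg13 yg43 zg55) (kg xg13 yg35 zg35) (kg xg13 yg41 zg24) (kg xg13 yg30 zg21) (kg xg13 yg36 zg52) (kg xg13 yg37 zg4) (kg xg22 yg22 zg25) (kg xg6 yg56 zg3) (kg xg13 yg9 zg55) (kg xg14 yg31 zg21) (kg xg14 yg29 zg49) (kg xg14 yg19 zg46) (kg xg9 yg26 zg22) (kg xg11 yg39 zg53) (kg xg9 yg26 zg1) (kg xg17 yg32 zg28) (kg xg14 yg22 zg31) (kg xg14 yg19 zg49) (kg xg20 yg37 zg21) (kg xg13 yg36 zg50) (kg xg6 yg56 zg11) (kg xg15 yg53 zg17) (kg xg13 yg8 zg36) (kg xg22 yg23 zg4) (kg xg14 yg10 zg20) (kg xg22 yg19 zg29) (kg xg14 yg32 zg44) (kg xg6 yg56 zg16) (kg xg10 yg46 zg13) (kg xg6 yg56 zg18) (kg xg14 yg19 zg26) (kg xg7 yg47 zg7) (kg xg11 yg45 zg8) (kg xg9 yg16 zg33) (kg xg14 yg10 zg18) (kg xg11 yg45 zg3) (kg xg20 yg48 zg1) (kg xg17 yg31 zg26) (kg xg22 yg23 zg13) (kg xg14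 yg10 zg19) (kg xg22 yg23 zg17) (kg xg9 yg41 zg33) (kg xg10 yg13 zg34) (kg xg20 yg34 zg15) (kg xg9 yg16 zg38) (kg xg22 yg23 zg21) (kg xg14 yg33 zg29) (kg xg14 yg11 zg12) (kg xg6 yg56 zg33) (kg xg22 yg23 zg26) (kg xg14 yg11 zg10) (kg xg14 yg33 zg3) (kg xg6 yg56 zg35) (kg xg17 yg44 zg39) (kg xg20 yg23 zg34) (kg xg12 yg24 zg4) (kg xg6 yg56 zg39) (kg xg18 yg2 zg9)) (@D3.rec (fun _ => Pt) (kg xg15 yg4 zg25) (kg xg20 yg14 zg40) (kg xg15 yg5 zg22) (kg xg6 yg56 zg42) (kg xg20 yg13 zg55) (kg xg20 yg44 zg12) (kg xg13 yg12 zg1) (kg xg11 yg46 zg31) (kg xg20 yg47 zg46) (kg xg13 yg1 zg17) (kg xg11 yg46 zg27) (kg xg20 yg44 zg28) (kg xg6 yg56 zg45) (kg xg22 yg23 zg47) (kg xg22 yg23 zg50) (kg xg14 yg22 zg49) (kg xg22 yg19 zg31) (kg xg22 yg19 zg26) (kg xg14 yg32 zg24) (kg xg7 yg9 zg39)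 (kg xg22 yg19 zg24) (kg xg6 yg56 zg49) (kg xg22 yg23 zg61) (kg xg22 yg24 zg2) (kg xg22 yg23 zg55) (kg xg6 yg56 zg50) (kg xg22 yg24 zg8) (kg xg22 yg14 zg57) (kg xg14 yg10 zg25) (kg xg6 yg57 zg50) (kg xg22 yg24 zg15) (kg xg6 yg57 zg28) (kg xg20 yg44 zg36) (kg xg6 yg56 zg61) (kg xg6 yg56 zg53) (kg xg22 yg24 zg23) (kg xg13 yg7 zg28) (kg xg6 yg56 zg54) (kg xg22 yg12 zg43) (kg xg6 yg57 zg6) (kg xg14 yg41 zg16) (kg xg13 yg34 zg53) (kg xg14 yg41 zg13) (kg xg6 yg56 zg59) (kg xg22 yg24 zg37) (kg xg22 yg24 zg42) (kg xg13 yg35 zg41) (kg xg6 yg56 zg60) (kg xg22 yg24 zg46) (kg xg22 yg24 zg48) (kg xg11 yg46 zg32) (kg xg13 yg11 zg50) (kg xg22 yg24 zg53) (kg xg20 yg44 zg33) (kg xg14 yg0 zg57) (kg xg22 yg19 zg23) (kg xg22 yg24 zg58) (kg xg22 yg25 zg1) (kg xg22 yg25 zg2) (kg xg6 yg57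 zg7) (kg xg6 yg57 zg3) (kg xg22 yg25 zg9)) (@D3.rec (fun _ => Pt) (kg xg13 yg11 zg6) (kg xg6 yg57 zg5) (kg xg20 yg17 zg31) (kg xg11 yg46 zg54) (kg xg14 yg22 zg22) (kg xg22 yg0 zg2) (kg xg21 yg39 zg12) (kg xg17 yg25 zg21) (kg xg22 yg25 zg25) (kg xg22 yg25 zg29) (kg xg21 yg3 zg32) (kg xg20 yg44 zg22) (kg xg22 yg25 zg34) (kg xg11 yg43 zg42) (kg xg22 yg25 zg38) (kg xg20 yg47 zg37) (kg xg22 yg25 zg43) (kg xg6 yg57 zg12) (kg xg22 yg25 zg44) (kg xg22 yg25 zg54) (kg xg22 yg25 zg49) (kg xg22 yg25 zg59) (kg xg22 yg25 zg60) (kg xg20 yg44 zg29) (kg xg6 yg57 zg15) (kg xg22 yg26 zg8) (kg xg13 yg53 zg54) (kg xg6 yg57 zg20) (kg xg13 yg53 zg56) (kg xg22 yg26 zg13) (kg xg13 yg7 zg34) (kg xg22 yg26 zg19) (kg xg7 yg28 zg7) (kg xg16 yg40 zg24) (kg xg14 yg39 zg2) (kg xg13 yg12 zg57) (kg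 xg14 yg38 zg59) (kg xg6 yg57 zg24) (kg xg22 yg26 zg28) (kg xg13 yg12 zg58) (kg xg6 yg57 zg25) (kg xg13 yg5 zg24) (kg xg22 yg26 zg10) (kg xg22 yg26 zg36) (kg xg14 yg10 zg42) (kg xg7 yg4 zg18) (kg xg22 yg26 zg40) (kg xg13 yg34 zg46) (kg xg6 yg57 zg30) (kg xg13 yg2 zg56) (kg xg13 yg7 zg17) (kg xg7 yg3 zg12) (kg xg22 yg26 zg48) (kg xg13 yg2 zg59) (kg xg7 yg10 zg13) (kg xg13 yg2 zg60) (kg xg13 yg12 zg35) (kg xg6 yg57 zg34) (kg xg13 yg12 zg40) (kg xg22 yg14 zg2) (kg xg13 yg8 zg7) (kg xg22 yg27 zg0)) (@D3.rec (fun _ => Pt) (kg xg6 yg57 zg39) (kg xg14 yg1 zg44) (kg xg16 yg5 zg34) (kg xg22 yg27 zg4) (kg xg7 yg21 zg18) (kg xg6 yg57 zg40) (kg xg7 yg54 zg60) (kg xg22 yg27 zg11) (kg xg7 yg11 zg56) (kg xg22 yg27 zg13) (kg xg19 yg32 zg0) (kg xg14 yg44 zg4) (kg xg7 yg12 zg48) (kg xg22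 yg19 zg43) (kg xg6 yg57 zg48) (kg xg22 yg27 zg25) (kg xg22 yg27 zg29) (kg xg13 yg27 zg22) (kg xg22 yg27 zg33) (kg xg22 yg27 zg35) (kg xg22 yg19 zg51) (kg xg22 yg19 zg50) (kg xg6 yg57 zg51) (kg xg22 yg27 zg43) (kg xg7 yg18 zg39) (kg xg22 yg19 zg48) (kg xg6 yg57 zg54) (kg xg7 yg38 zg49) (kg xg14 yg12 zg48) (kg xg22 yg27 zg52) (kg xg22 yg27 zg54) (kg xg12 yg17 zg39) (kg xg13 yg26 zg4) (kg xg6 yg57 zg59) (kg xg13 yg26 zg3) (kg xg22 yg12 zg19) (kg xg22 yg28 zg1) (kg xg13 yg26 zg22) (kg xg6 yg57 zg61) (kg xg13 yg26 zg21) (kg xg13 yg57 zg3) (kg xg22 yg28 zg8) (kg xg13 yg15 zg12) (kg xg6 yg58 zg1) (kg xg13 yg15 zg11) (kg xg13 yg48 zg38) (kg xg22 yg28 zg14) (kg xg14 yg45 zg6) (kg xg7 yg18 zg5) (kg xg7 yg24 zg22) (kg xg22 yg28 zg22) (kg xg22 yg28 zg25) (kg xg22 yg28 zg29) (kg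 xg22 yg15 zg50) (kg xg6 yg58 zg7) (kg xg22 yg15 zg49) (kg xg7 yg13 zg32) (kg xg6 yg58 zg8) (kg xg7 yg13 zg34) (kg xg13 yg30 zg17) (kg xg7 yg13 zg60) (kg xg22 yg28 zg40)) (@D3.rec (fun _ => Pt) (kg xg13 yg28 zg5) (kg xg22 yg28 zg42) (kg xg7 yg14 zg6) (kg xg6 yg58 zg14) (kg xg7 yg14 zg10) (kg xg16 yg21 zg34) (kg xg22 yg28 zg44) (kg xg9 yg59 zg3) (kg xg19 yg2 zg7) (kg xg13 yg30 zg51) (kg xg9 yg58 zg59) (kg xg22 yg28 zg56) (kg xg13 yg14 zg29) (kg xg6 yg58 zg18) (kg xg21 yg13 zg43) (kg xg13 yg40 zg38) (kg xg7 yg12 zg13) (kg xg12 yg7 zg44) (kg xg12 yg47 zg15) (kg xg16 yg33 zg13) (kg xg22 yg29 zg3) (kg xg7 yg3 zg40) (kg xg7 yg7 zg34) (kg xg7 yg7 zg15) (kg xg11 yg15 zg45) (kg xg13 yg40 zg56) (kg xg6 yg58 zg28) (kg xg18 yg49 zg25) (kg xg7 yg30 zg31) (kg xg13 yg14 zg13) (kg xg22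 yg29 zg15) (kg xg7 yg8 zg3) (kg xg6 yg58 zg31) (kg xg7 yg8 zg5) (kg xg20 yg21 zg18) (kg xg13 yg41 zg33) (kg xg22 yg29 zg26) (kg xg22 yg29 zg19) (kg xg18 yg57 zg8) (kg xg12 yg47 zg43) (kg xg6 yg58 zg35) (kg xg10 yg12 zg8) (kg xg22 yg29 zg34) (kg xg22 yg29 zg17) (kg xg6 yg58 zg36) (kg xg22 yg29 zg39) (kg xg22 yg29 zg16) (kg xg22 yg29 zg43) (kg xg22 yg29 zg20) (kg xg13 yg47 zg1) (kg xg22 yg12 zg10) (kg xg13 yg55 zg8) (kg xg13 yg2 zg52) (kg xg6 yg58 zg43) (kg xg22 yg29 zg50) (kg xg13 yg2 zg50) (kg xg20 yg41 zg51) (kg xg7 yg39 zg8) (kg xg7 yg1 zg14) (kg xg13 yg29 zg50) (kg xg13 yg34 zg51) (kg xg7 yg3 zg7)) (@D3.rec (fun _ => Pt) (kg xg7 yg34 zg1) (kg xg7 yg38 zg52) (kg xg13 yg29 zg52) (kg xg7 yg30 zg32) (kg xg6 yg58 zg50) (kg xg7 yg48 zg57) (kg xg6 yg58 zg52) (kg xg7 yg48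 zg56) (kg xg13 yg27 zg34) (kg xg18 yg42 zg21) (kg xg13 yg13 zg44) (kg xg6 yg58 zg57) (kg xg13 yg13 zg43) (kg xg13 yg0 zg20) (kg xg12 yg11 zg30) (kg xg7 yg43 zg21) (kg xg12 yg15 zg61) (kg xg17 yg29 zg20) (kg xg17 yg29 zg21) (kg xg9 yg18 zg56) (kg xg13 yg34 zg37) (kg xg6 yg59 zg10) (kg xg13 yg34 zg36) (kg xg22 yg30 zg21) (kg xg21 yg57 zg3) (kg xg6 yg59 zg12) (kg xg13 yg49 zg44) (kg xg13 yg46 zg57) (kg xg7 yg48 zg59) (kg xg8 yg39 zg1) (kg xg6 yg59 zg16) (kg xg6 yg59 zg19) (kg xg13 yg49 zg25) (kg xg7 yg24 zg27) (kg xg22 yg30 zg32) (kg xg7 yg7 zg1) (kg xg6 yg59 zg17) (kg xg14 yg10 zg46) (kg xg14 yg48 zg2) (kg xg7 yg19 zg45) (kg xg8 yg38 zg12) (kg xg6 yg59 zg18) (kg xg10 yg4 zg18) (kg xg22 yg30 zg43) (kg xg13 yg51 zg48) (kg xg13 yg49 zg45) (kg xg22 yg30 zg48) (kg xg22 yg30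 zg11) (kg xg6 yg59 zg21) (kg xg22 yg30 zg10) (kg xg22 yg30 zg57) (kg xg7 yg34 zg37) (kg xg6 yg59 zg23) (kg xg7 yg34 zg36) (kg xg22 yg31 zg1) (kg xg22 yg31 zg5) (kg xg12 yg16 zg35) (kg xg15 yg42 zg16) (kg xg12 yg41 zg54) (kg xg9 yg29 zg45) (kg xg14 yg44 zg42) (kg xg6 yg59 zg30)) (@D3.rec (fun _ => Pt) (kg xg14 yg44 zg41) (kg xg9 yg0 zg53) (kg xg22 yg31 zg20) (kg xg6 yg59 zg32) (kg xg7 yg18 zg22) (kg xg7 yg9 zg25) (kg xg13 yg18 zg6) (kg xg13 yg20 zg7) (kg xg22 yg30 zg7) (kg xg7 yg48 zg58) (kg xg13 yg52 zg3) (kg xg13 yg52 zg0) (kg xg6 yg59 zg37) (kg xg22 yg31 zg33) (kg xg22 yg31 zg37) (kg xg7 yg18 zg23) (kg xg22 yg31 zg43) (kg xg14 yg15 zg41) (kg xg16 yg11 zg60) (kg xg22 yg31 zg49) (kg xg22 yg31 zg53) (kg xg13 yg51 zg59) (kg xg6 yg59 zg41) (kg xg13 yg51 zg57) (kg xg13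 yg44 zg48) (kg xg22 yg16 zg14) (kg xg13 yg36 zg3) (kg xg7 yg18 zg53) (kg xg22 yg15 zg28) (kg xg14 yg13 zg25) (kg xg14 yg15 zg37) (kg xg6 yg59 zg54) (kg xg6 yg59 zg48) (kg xg20 yg30 zg41) (kg xg6 yg59 zg52) (kg xg14 yg7 zg60) (kg xg9 yg16 zg31) (kg xg6 yg59 zg50) (kg xg11 yg58 zg43) (kg xg22 yg32 zg9) (kg xg22 yg16 zg12) (kg xg22 yg32 zg14) (kg xg13 yg7 zg11) (kg xg20 yg50 zg45) (kg xg12 yg33 zg37) (kg xg14 yg42 zg38) (kg xg13 yg40 zg12) (kg xg16 yg32 zg37) (kg xg6 yg59 zg53) (kg xg14 yg20 zg31) (kg xg11 yg35 zg32) (kg xg6 yg59 zg57) (kg xg7 yg2 zg18) (kg xg7 yg2 zg41) (kg xg7 yg2 zg40) (kg xg22 yg32 zg25) (kg xg22 yg32 zg28) (kg xg13 yg22 zg57) (kg xg22 yg32 zg32) (kg xg7 yg0 zg0) (kg xg7 yg1 zg17) (kg xg22 yg32 zg37)) (@D3.rec (fun _ => Pt) (kg xg13 yg22 zg59) (kg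 xg22 yg32 zg41) (kg xg16 yg52 zg33) (kg xg13 yg22 zg47) (kg xg22 yg32 zg44) (kg xg7 yg2 zg59) (kg xg22 yg32 zg48) (kg xg7 yg15 zg28) (kg xg7 yg4 zg20) (kg xg7 yg3 zg48) (kg xg22 yg32 zg52) (kg xg14 yg38 zg30) (kg xg22 yg32 zg55) (kg xg7 yg0 zg10) (kg xg7 yg34 zg49) (kg xg14 yg43 zg19) (kg xg7 yg37 zg8) (kg xg14 yg38 zg36) (kg xg22 yg33 zg3) (kg xg13 yg44 zg37) (kg xg7 yg7 zg32) (kg xg7 yg33 zg8) (kg xg7 yg0 zg27) (kg xg22 yg33 zg8) (kg xg22 yg33 zg11) (kg xg7 yg0 zg19) (kg xg22 yg33 zg16) (kg xg22 yg33 zg9) (kg xg13 yg22 zg27) (kg xg7 yg32 zg23) (kg xg13 yg6 zg39) (kg xg7 yg0 zg22) (kg xg14 yg3 zg26) (kg xg13 yg17 zg3) (kg xg13 yg27 zg27) (kg xg11 yg55 zg60) (kg xg13 yg16 zg25) (kg xg7 yg16 zg42) (kg xg7 yg3 zg33) (kg xg13 yg44 zg39) (kg xg7 yg0 zg26) (kg xg15 yg38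 zg60) (kg xg7 yg31 zg57) (kg xg19 yg52 zg51) (kg xg22 yg33 zg32) (kg xg7 yg32 zg54) (kg xg17 yg31 zg9) (kg xg22 yg0 zg5) (kg xg18 yg10 zg39) (kg xg21 yg49 zg41) (kg xg17 yg26 zg42) (kg xg13 yg3 zg5) (kg xg17 yg34 zg14) (kg xg17 yg21 zg22) (kg xg7 yg34 zg31) (kg xg7 yg0 zg33) (kg xg7 yg0 zg34) (kg xg7 yg32 zg11) (kg xg13 yg37 zg37) (kg xg14 yg52 zg4) (kg xg22 yg33 zg47) (kg xg22 yg30 zg60)) (@D3.rec (fun _ => Pt) (kg xg13 yg36 zg10) (kg xg13 yg3 zg6) (kg xg22 yg33 zg57) (kg xg7 yg5 zg43) (kg xg13 yg48 zg61) (kg xg13 yg16 zg6) (kg xg7 yg0 zg44) (kg xg22 yg34 zg2) (kg xg15 yg13 zg2) (kg xg7 yg17 zg54) (kg xg22 yg34 zg7) (kg xg17 yg19 zg9) (kg xg7 yg0 zg51) (kg xg13 yg34 zg45) (kg xg7 yg4 zg0) (kg xg7 yg0 zg52) (kg xg13 yg7 zg3) (kg xg7 yg0 zg55) (kg xg17 yg19 zg23) (kg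 xg18 yg55 zg4) (kg xg17 yg20 zg48) (kg xg13 yg6 zg60) (kg xg14 yg43 zg17) (kg xg22 yg34 zg10) (kg xg14 yg43 zg33) (kg xg13 yg44 zg10) (kg xg18 yg51 zg51) (kg xg7 yg0 zg56) (kg xg22 yg34 zg25) (kg xg22 yg34 zg13) (kg xg13 yg6 zg46) (kg xg17 yg22 zg0) (kg xg12 yg15 zg46) (kg xg22 yg34 zg29) (kg xg7 yg33 zg6) (kg xg7 yg0 zg60) (kg xg18 yg6 zg3) (kg xg7 yg33 zg4) (kg xg13 yg4 zg47) (kg xg13 yg4 zg6) (kg xg7 yg46 zg6) (kg xg22 yg34 zg43) (kg xg7 yg1 zg3) (kg xg7 yg31 zg58) (kg xg22 yg34 zg49) (kg xg22 yg34 zg53) (kg xg14 yg1 zg26) (kg xg22 yg34 zg57) (kg xg13 yg4 zg25) (kg xg13 yg20 zg2) (kg xg22 yg35 zg2) (kg xg22 yg33 zg6) (kg xg12 yg34 zg57) (kg xg14 yg58 zg51) (kg xg7 yg33 zg33) (kg xg7 yg1 zg8) (kg xg16 yg18 zg29) (kg xg22 yg14 zg44) (kg xg22 yg32 zg17) (kg xg14 yg1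 zg14) (kg xg22 yg35 zg18) (kg xg12 yg23 zg0)) (@D3.rec (fun _ => Pt) (kg xg14 yg7 zg23) (kg xg21 yg41 zg16) (kg xg22 yg35 zg25) (kg xg21 yg41 zg14) (kg xg13 yg57 zg18) (kg xg13 yg20 zg56) (kg xg22 yg35 zg30) (kg xg7 yg2 zg49) (kg xg12 yg46 zg0) (kg xg13 yg44 zg56) (kg xg9 yg24 zg4) (kg xg13 yg21 zg47) (kg xg22 yg29 zg44) (kg xg7 yg45 zg19) (kg xg7 yg1 zg23) (kg xg22 yg35 zg41) (kg xg12 yg32 zg57) (kg xg7 yg18 zg37) (kg xg21 yg55 zg29) (kg xg13 yg34 zg59) (kg xg13 yg44 zg15) (kg xg13 yg57 zg1) (kg xg13 yg28 zg56) (kg xg13 yg44 zg51) (kg xg7 yg1 zg26) (kg xg22 yg17 zg11) (kg xg13 yg20 zg50) (kg xg7 yg45 zg26) (kg xg22 yg35 zg59) (kg xg7 yg44 zg54) (kg xg7 yg44 zg20) (kg xg7 yg1 zg29) (kg xg7 yg44 zg19) (kg xg13 yg3 zg26) (kg xg7 yg1 zg34) (kg xg13 yg35 zg27) (kg xg7 yg3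 zg3) (kg xg7 yg1 zg40) (kg xg7 yg1 zg35) (kg xg22 yg36 zg9) (kg xg7 yg1 zg38) (kg xg19 yg3 zg47) (kg xg22 yg15 zg24) (kg xg10 yg31 zg49) (kg xg22 yg36 zg5) (kg xg10 yg39 zg61) (kg xg13 yg44 zg23) (kg xg10 yg27 zg18) (kg xg7 yg1 zg39) (kg xg10 yg27 zg21) (kg xg19 yg15 zg47) (kg xg22 yg36 zg17) (kg xg7 yg36 zg42) (kg xg7 yg36 zg12) (kg xg22 yg36 zg18) (kg xg7 yg44 zg8) (kg xg7 yg1 zg43) (kg xg14 yg14 zg24) (kg xg7 yg44 zg6) (kg xg22 yg36 zg22) (kg xg19 yg22 zg5) (kg xg19 yg15 zg35)) (@D3.rec (fun _ => Pt) (kg xg18 yg35 zg44) (kg xg7 yg33 zg26) (kg xg13 yg18 zg52) (kg xg18 yg5 zg60) (kg xg7 yg1 zg58) (kg xg13 yg45 zg10) (kg xg13 yg16 zg7) (kg xg7 yg1 zg51) (kg xg22 yg36 zg37) (kg xg22 yg12 zg54) (kg xg22 yg11 zg6) (kg xg7 yg11 zg16) (kg xg13 yg3 zg15) (kg xg13 yg53 zg32)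 (kg xg14 yg3 zg27) (kg xg7 yg2 zg3) (kg xg22 yg36 zg28) (kg xg22 yg36 zg29) (kg xg22 yg36 zg48) (kg xg22 yg15 zg27) (kg xg7 yg2 zg0) (kg xg22 yg20 zg47) (kg xg20 yg47 zg52) (kg xg7 yg1 zg61) (kg xg7 yg30 zg45) (kg xg22 yg36 zg54) (kg xg10 yg47 zg33) (kg xg22 yg36 zg52) (kg xg22 yg36 zg45) (kg xg22 yg16 zg8) (kg xg11 yg46 zg8) (kg xg9 yg16 zg25) (kg xg9 yg49 zg59) (kg xg22 yg36 zg59) (kg xg7 yg2 zg4) (kg xg22 yg37 zg0) (kg xg9 yg20 zg16) (kg xg12 yg52 zg51) (kg xg11 yg45 zg53) (kg xg10 yg6 zg35) (kg xg12 yg42 zg42) (kg xg21 yg16 zg29) (kg xg12 yg39 zg43) (kg xg22 yg37 zg7) (kg xg7 yg2 zg12) (kg xg7 yg2 zg13) (kg xg22 yg37 zg10) (kg xg18 yg26 zg8) (kg xg22 yg37 zg14) (kg xg14 yg30 zg5) (kg xg13 yg19 zg28) (kg xg14 yg18 zg45) (kg xg8 yg46 zg14) (kg xg22 yg37 zg17) (kg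 xg11 yg46 zg2) (kg xg13 yg57 zg47) (kg xg13 yg18 zg61) (kg xg22 yg32 zg49) (kg xg7 yg44 zg53) (kg xg9 yg16 zg28) (kg xg14 yg35 zg41) (kg xg14 yg18 zg48)) (@D3.rec (fun _ => Pt) (kg xg14 yg36 zg55) (kg xg14 yg31 zg36) (kg xg14 yg30 zg0) (kg xg7 yg2 zg24) (kg xg22 yg37 zg37) (kg xg21 yg14 zg26) (kg xg14 yg38 zg12) (kg xg22 yg32 zg38) (kg xg21 yg41 zg23) (kg xg14 yg48 zg34) (kg xg7 yg30 zg6) (kg xg22 yg32 zg36) (kg xg7 yg2 zg28) (kg xg22 yg37 zg54) (kg xg13 yg39 zg2) (kg xg22 yg37 zg47) (kg xg7 yg2 zg29) (kg xg7 yg40 zg50) (kg xg22 yg37 zg45) (kg xg22 yg32 zg7) (kg xg7 yg3 zg51) (kg xg22 yg38 zg4) (kg xg7 yg3 zg26) (kg xg20 yg46 zg35) (kg xg7 yg2 zg46) (kg xg7 yg2 zg35) (kg xg17 yg53 zg15) (kg xg22 yg38 zg12) (kg xg22 yg32 zg34) (kg xg7 yg2 zg36) (kg xg22 yg38 zg21) (kg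 xg22 yg32 zg33) (kg xg14 yg17 zg41) (kg xg7 yg2 zg52) (kg xg11 yg30 zg11) (kg xg22 yg32 zg26) (kg xg13 yg44 zg19) (kg xg7 yg2 zg42) (kg xg22 yg26 zg56) (kg xg22 yg32 zg23) (kg xg7 yg2 zg43) (kg xg22 yg38 zg34) (kg xg21 yg9 zg25) (kg xg13 yg44 zg20) (kg xg7 yg2 zg44) (kg xg20 yg28 zg51) (kg xg14 yg2 zg20) (kg xg22 yg38 zg42) (kg xg22 yg32 zg42) (kg xg7 yg2 zg47) (kg xg22 yg38 zg47) (kg xg17 yg23 zg17) (kg xg13 yg33 zg36) (kg xg14 yg38 zg25) (kg xg22 yg38 zg52) (kg xg22 yg38 zg56) (kg xg7 yg2 zg53) (kg xg22 yg38 zg59) (kg xg22 yg32 zg46) (kg xg7 yg2 zg51) (kg xg18 yg26 zg59) (kg xg22 yg32 zg45)) (@D3.rec (fun _ => Pt) (kg xg16 yg54 zg1) (kg xg14 yg38 zg56) (kg xg7 yg2 zg54) (kg xg14 yg38 zg54) (kg xg7 yg46 zg37) (kg xg22 yg39 zg1) (kg xg21 yg27 zg53) (kg xg7 yg2 zg57)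 (kg xg14 yg50 zg17) (kg xg14 yg50 zg39) (kg xg14 yg49 zg8) (kg xg22 yg39 zg13) (kg xg14 yg42 zg36) (kg xg22 yg32 zg22) (kg xg7 yg2 zg60) (kg xg22 yg37 zg39) (kg xg13 yg41 zg18) (kg xg22 yg39 zg25) (kg xg13 yg44 zg47) (kg xg7 yg3 zg4) (kg xg14 yg24 zg55) (kg xg22 yg39 zg32) (kg xg22 yg39 zg35) (kg xg14 yg31 zg19) (kg xg22 yg39 zg31) (kg xg22 yg39 zg41) (kg xg22 yg35 zg27) (kg xg14 yg13 zg13) (kg xg22 yg39 zg48) (kg xg20 yg41 zg50) (kg xg13 yg17 zg28) (kg xg22 yg16 zg6) (kg xg14 yg53 zg47) (kg xg7 yg3 zg8) (kg xg22 yg39 zg61) (kg xg13 yg49 zg42) (kg xg13 yg3 zg33) (kg xg22 yg40 zg6) (kg xg22 yg40 zg10) (kg xg22 yg14 zg10) (kg xg22 yg40 zg13) (kg xg22 yg24 zg34) (kg xg7 yg3 zg16) (kg xg7 yg31 zg60) (kg xg7 yg3 zg20) (kg xg7 yg32 zg4) (kg xg22 yg40 zg19) (kg xg7 yg45 zg59)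 (kg xg22 yg40 zg25) (kg xg11 yg55 zg59) (kg xg7 yg3 zg22) (kg xg18 yg47 zg54) (kg xg19 yg25 zg28) (kg xg21 yg40 zg28) (kg xg7 yg3 zg23) (kg xg21 yg40 zg26) (kg xg12 yg44 zg25) (kg xg13 yg17 zg0) (kg xg22 yg40 zg37) (kg xg13 yg16 zg57) (kg xg22 yg40 zg39) (kg xg22 yg38 zg17)) (@D3.rec (fun _ => Pt) (kg xg22 yg32 zg58) (kg xg7 yg3 zg27) (kg xg22 yg40 zg51) (kg xg22 yg32 zg56) (kg xg13 yg4 zg11) (kg xg7 yg3 zg29) (kg xg7 yg30 zg25) (kg xg7 yg37 zg53) (kg xg22 yg29 zg48) (kg xg22 yg33 zg13) (kg xg17 yg17 zg21) (kg xg14 yg41 zg48) (kg xg7 yg47 zg17) (kg xg7 yg32 zg38) (kg xg22 yg41 zg4) (kg xg7 yg35 zg15) (kg xg14 yg59 zg29) (kg xg7 yg12 zg40) (kg xg7 yg3 zg39) (kg xg7 yg33 zg44) (kg xg22 yg41 zg10) (kg xg22 yg14 zg38) (kg xg22 yg41 zg12) (kg xg7 yg48 zg26) (kg xg20 yg50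 zg42) (kg xg7 yg3 zg49) (kg xg19 yg25 zg20) (kg xg13 yg44 zg9) (kg xg7 yg3 zg50) (kg xg20 yg24 zg9) (kg xg22 yg38 zg45) (kg xg15 yg55 zg17) (kg xg7 yg3 zg52) (kg xg15 yg55 zg15) (kg xg22 yg33 zg4) (kg xg7 yg51 zg7) (kg xg7 yg39 zg6) (kg xg22 yg32 zg60) (kg xg7 yg3 zg55) (kg xg7 yg34 zg17) (kg xg7 yg39 zg25) (kg xg22 yg41 zg26) (kg xg22 yg41 zg29) (kg xg7 yg3 zg58) (kg xg22 yg41 zg31) (kg xg7 yg4 zg1) (kg xg7 yg3 zg60) (kg xg22 yg39 zg29) (kg xg22 yg41 zg40) (kg xg13 yg38 zg17) (kg xg7 yg7 zg13) (kg xg22 yg41 zg47) (kg xg14 yg26 zg33) (kg xg14 yg53 zg51) (kg xg22 yg41 zg53) (kg xg7 yg35 zg17) (kg xg7 yg48 zg54) (kg xg7 yg4 zg4) (kg xg7 yg5 zg38) (kg xg16 yg11 zg1) (kg xg16 yg21 zg7) (kg xg22 yg41 zg59)) (@D3.rec (fun _ => Pt) (kg xg7 yg49 zg2) (kg xg7 yg4 zg7) (kg xg7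 yg49 zg1) (kg xg7 yg49 zg7) (kg xg7 yg4 zg8) (kg xg7 yg49 zg6) (kg xg22 yg42 zg1) (kg xg22 yg42 zg11) (kg xg22 yg42 zg5) (kg xg22 yg42 zg17) (kg xg21 yg57 zg2) (kg xg7 yg4 zg11) (kg xg21 yg57 zg1) (kg xg13 yg8 zg32) (kg xg13 yg53 zg34) (kg xg7 yg4 zg14) (kg xg22 yg34 zg8) (kg xg22 yg40 zg27) (kg xg22 yg15 zg25) (kg xg7 yg4 zg21) (kg xg7 yg4 zg17) (kg xg22 yg42 zg30) (kg xg7 yg21 zg4) (kg xg13 yg55 zg25) (kg xg7 yg20 zg36) (kg xg16 yg51 zg58) (kg xg22 yg21 zg35) (kg xg14 yg56 zg37) (kg xg11 yg44 zg54) (kg xg7 yg53 zg13) (kg xg7 yg12 zg47) (kg xg7 yg4 zg23) (kg xg22 yg41 zg8) (kg xg22 yg42 zg45) (kg xg14 yg41 zg4) (kg xg16 yg55 zg7) (kg xg21 yg14 zg34) (kg xg7 yg54 zg23) (kg xg22 yg42 zg53) (kg xg7 yg22 zg37) (kg xg22 yg42 zg58) (kg xg14 yg4 zg6) (kg xg13 yg25 zg44) (kg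 xg22 yg43 zg2) (kg xg7 yg4 zg29) (kg xg21 yg55 zg6) (kg xg7 yg22 zg47) (kg xg7 yg4 zg31) (kg xg7 yg22 zg53) (kg xg22 yg43 zg7) (kg xg13 yg56 zg8) (kg xg22 yg43 zg13) (kg xg7 yg22 zg38) (kg xg7 yg4 zg34) (kg xg22 yg43 zg22) (kg xg22 yg43 zg25) (kg xg22 yg43 zg3) (kg xg13 yg56 zg2) (kg xg22 yg43 zg32) (kg xg14 yg7 zg24) (kg xg13 yg55 zg59) (kg xg22 yg43 zg38)) (@D3.rec (fun _ => Pt) (kg xg13 yg25 zg26) (kg xg7 yg4 zg37) (kg xg22 yg43 zg42) (kg xg7 yg21 zg22) (kg xg13 yg25 zg39) (kg xg21 yg24 zg52) (kg xg7 yg4 zg38) (kg xg21 yg26 zg39) (kg xg17 yg38 zg26) (kg xg14 yg7 zg25) (kg xg14 yg5 zg18) (kg xg7 yg25 zg28) (kg xg14 yg6 zg57) (kg xg7 yg53 zg60) (kg xg13 yg54 zg18) (kg xg22 yg44 zg0) (kg xg7 yg26 zg3) (kg xg7 yg18 zg45) (kg xg7 yg28 zg11) (kg xg7 yg27 zg58) (kg xg22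 yg44 zg5) (kg xg7 yg54 zg26) (kg xg22 yg44 zg10) (kg xg7 yg4 zg53) (kg xg22 yg44 zg16) (kg xg22 yg44 zg20) (kg xg13 yg25 zg1) (kg xg22 yg44 zg22) (kg xg12 yg48 zg3) (kg xg7 yg28 zg54) (kg xg7 yg4 zg57) (kg xg7 yg28 zg56) (kg xg22 yg44 zg30) (kg xg13 yg56 zg9) (kg xg22 yg44 zg36) (kg xg14 yg34 zg36) (kg xg22 yg44 zg42) (kg xg13 yg57 zg19) (kg xg14 yg6 zg21) (kg xg22 yg44 zg48) (kg xg22 yg44 zg26) (kg xg14 yg6 zg27) (kg xg22 yg44 zg53) (kg xg13 yg24 zg42) (kg xg7 yg5 zg0) (kg xg22 yg44 zg59) (kg xg7 yg54 zg44) (kg xg20 yg17 zg2) (kg xg22 yg44 zg24) (kg xg7 yg5 zg1) (kg xg18 yg1 zg26) (kg xg22 yg44 zg23) (kg xg22 yg45 zg9) (kg xg22 yg44 zg27) (kg xg14 yg46 zg1) (kg xg7 yg5 zg6) (kg xg22 yg45 zg13) (kg xg13 yg56 zg25) (kg xg22 yg45 zg16) (kg xg13 yg57 zg56) (kg xg7 yg25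 zg33) (kg xg22 yg45 zg21)) (@D3.rec (fun _ => Pt) (kg xg22 yg45 zg24) (kg xg7 yg50 zg41) (kg xg13 yg13 zg34) (kg xg7 yg5 zg14) (kg xg13 yg13 zg33) (kg xg14 yg6 zg2) (kg xg22 yg45 zg29) (kg xg13 yg5 zg8) (kg xg7 yg5 zg16) (kg xg12 yg48 zg46) (kg xg22 yg45 zg38) (kg xg7 yg5 zg18) (kg xg7 yg27 zg43) (kg xg22 yg31 zg18) (kg xg21 yg55 zg48) (kg xg13 yg2 zg37) (kg xg7 yg5 zg20) (kg xg13 yg2 zg36) (kg xg14 yg9 zg43) (kg xg22 yg45 zg50) (kg xg13 yg13 zg39) (kg xg7 yg5 zg22) (kg xg13 yg13 zg38) (kg xg22 yg45 zg54) (kg xg22 yg45 zg60) (kg xg22 yg30 zg13) (kg xg22 yg46 zg1) (kg xg22 yg46 zg4) (kg xg10 yg9 zg6) (kg xg22 yg45 zg40) (kg xg7 yg5 zg26) (kg xg22 yg45 zg39) (kg xg13 yg4 zg35) (kg xg7 yg5 zg30) (kg xg13 yg4 zg34) (kg xg19 yg18 zg46) (kg xg14 yg56 zg55) (kg xg10 yg1 zg18)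 (kg xg21 yg13 zg5) (kg xg13 yg50 zg9) (kg xg17 yg57 zg0) (kg xg22 yg41 zg58) (kg xg13 yg50 zg7) (kg xg13 yg44 zg8) (kg xg7 yg5 zg42) (kg xg8 yg51 zg57) (kg xg7 yg14 zg33) (kg xg13 yg38 zg61) (kg xg13 yg38 zg60) (kg xg22 yg46 zg19) (kg xg22 yg37 zg44) (kg xg22 yg46 zg24) (kg xg7 yg5 zg45) (kg xg7 yg6 zg5) (kg xg14 yg44 zg51) (kg xg7 yg40 zg41) (kg xg22 yg37 zg57) (kg xg8 yg47 zg9) (kg xg7 yg13 zg12) (kg xg20 yg30 zg6) (kg xg13 yg50 zg37) (kg xg20 yg6 zg1)) (@D3.rec (fun _ => Pt) (kg xg7 yg6 zg7) (kg xg7 yg17 zg22) (kg xg22 yg46 zg33) (kg xg13 yg39 zg8) (kg xg7 yg5 zg50) (kg xg14 yg1 zg33) (kg xg7 yg47 zg0) (kg xg7 yg6 zg17) (kg xg22 yg46 zg38) (kg xg13 yg46 zg37) (kg xg13 yg33 zg56) (kg xg22 yg46 zg43) (kg xg13 yg16 zg42) (kg xg7 yg30 zg23) (kg xg7 yg30 zg28) (kg xg22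 yg42 zg47) (kg xg22 yg46 zg52) (kg xg7 yg6 zg57) (kg xg7 yg5 zg58) (kg xg13 yg39 zg15) (kg xg7 yg5 zg59) (kg xg13 yg39 zg14) (kg xg7 yg5 zg60) (kg xg13 yg13 zg12) (kg xg22 yg26 zg59) (kg xg7 yg47 zg54) (kg xg13 yg28 zg60) (kg xg13 yg17 zg37) (kg xg13 yg46 zg19) (kg xg7 yg6 zg2) (kg xg10 yg26 zg15) (kg xg13 yg39 zg24) (kg xg7 yg6 zg3) (kg xg13 yg39 zg23) (kg xg14 yg44 zg47) (kg xg22 yg46 zg27) (kg xg13 yg49 zg29) (kg xg20 yg6 zg21) (kg xg9 yg49 zg58) (kg xg13 yg33 zg48) (kg xg7 yg19 zg53) (kg xg13 yg42 zg49) (kg xg21 yg41 zg52) (kg xg21 yg53 zg36) (kg xg11 yg17 zg4) (kg xg12 yg38 zg30) (kg xg16 yg24 zg54) (kg xg22 yg46 zg39) (kg xg22 yg47 zg16) (kg xg14 yg44 zg56) (kg xg8 yg48 zg25) (kg xg8 yg44 zg30) (kg xg22 yg47 zg19) (kg xg22 yg28 zg35) (kg xg8 yg38 zg11) (kg xg8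 yg44 zg17) (kg xg13 yg41 zg46) (kg xg13 yg31 zg11) (kg xg7 yg6 zg25) (kg xg22 yg47 zg21) (kg xg13 yg31 zg9) (kg xg22 yg47 zg25)) (@D3.rec (fun _ => Pt) (kg xg22 yg47 zg27) (kg xg13 yg42 zg23) (kg xg13 yg41 zg26) (kg xg12 yg8 zg34) (kg xg14 yg28 zg12) (kg xg7 yg30 zg29) (kg xg13 yg39 zg36) (kg xg7 yg6 zg28) (kg xg22 yg47 zg38) (kg xg13 yg39 zg34) (kg xg7 yg12 zg9) (kg xg16 yg28 zg20) (kg xg7 yg6 zg32) (kg xg22 yg47 zg46) (kg xg7 yg8 zg28) (kg xg16 yg28 zg50) (kg xg13 yg33 zg13) (kg xg22 yg47 zg52) (kg xg7 yg6 zg36) (kg xg7 yg7 zg50) (kg xg22 yg47 zg57) (kg xg12 yg7 zg53) (kg xg13 yg33 zg16) (kg xg22 yg48 zg1) (kg xg20 yg1 zg61) (kg xg13 yg33 zg0) (kg xg22 yg48 zg4) (kg xg13 yg41 zg25) (kg xg13 yg29 zg12) (kg xg22 yg48 zg12) (kg xg7 yg9 zg5) (kg xg7 yg6 zg41) (kg xg11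 yg59 zg39) (kg xg7 yg9 zg2) (kg xg22 yg48 zg20) (kg xg7 yg19 zg49) (kg xg7 yg9 zg37) (kg xg7 yg9 zg36) (kg xg14 yg28 zg25) (kg xg14 yg27 zg57) (kg xg22 yg48 zg27) (kg xg22 yg48 zg30) (kg xg14 yg27 zg54) (kg xg22 yg48 zg35) (kg xg7 yg11 zg4) (kg xg22 yg48 zg36) (kg xg14 yg52 zg22) (kg xg22 yg48 zg42) (kg xg7 yg10 zg29) (kg xg7 yg6 zg50) (kg xg7 yg10 zg28) (kg xg22 yg48 zg47) (kg xg22 yg48 zg51) (kg xg7 yg10 zg21) (kg xg7 yg6 zg52) (kg xg7 yg10 zg20) (kg xg13 yg19 zg19) (kg xg22 yg48 zg60) (kg xg14 yg35 zg40) (kg xg22 yg48 zg55) (kg xg22 yg49 zg3) (kg xg13 yg45 zg21)) (@D3.rec (fun _ => Pt) (kg xg22 yg49 zg7) (kg xg13 yg27 zg26) (kg xg7 yg13 zg20) (kg xg13 yg29 zg49) (kg xg13 yg36 zg2) (kg xg7 yg6 zg58) (kg xg22 yg49 zg19) (kg xg22 yg49 zg23) (kg xg7 yg10 zg52) (kg xg7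 yg6 zg59) (kg xg7 yg10 zg51) (kg xg7 yg9 zg15) (kg xg13 yg28 zg25) (kg xg7 yg7 zg5) (kg xg7 yg7 zg3) (kg xg22 yg49 zg35) (kg xg13 yg27 zg53) (kg xg22 yg41 zg45) (kg xg18 yg21 zg50) (kg xg7 yg7 zg4) (kg xg22 yg49 zg46) (kg xg17 yg54 zg46) (kg xg8 yg4 zg56) (kg xg21 yg15 zg1) (kg xg11 yg23 zg43) (kg xg9 yg3 zg4) (kg xg13 yg41 zg8) (kg xg13 yg41 zg7) (kg xg22 yg49 zg58) (kg xg22 yg50 zg0) (kg xg14 yg53 zg31) (kg xg10 yg22 zg9) (kg xg14 yg43 zg2) (kg xg14 yg53 zg34) (kg xg22 yg50 zg6) (kg xg22 yg49 zg55) (kg xg13 yg30 zg47) (kg xg17 yg23 zg8) (kg xg7 yg7 zg37) (kg xg7 yg14 zg25) (kg xg22 yg50 zg19) (kg xg13 yg41 zg19) (kg xg7 yg7 zg19) (kg xg22 yg50 zg24) (kg xg13 yg41 zg16) (kg xg18 yg21 zg45) (kg xg22 yg29 zg11) (kg xg13 yg39 zg32) (kg xg22 yg50 zg30) (kg xg14 yg10 zg23)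 (kg xg13 yg14 zg57) (kg xg14 yg22 zg48) (kg xg13 yg15 zg1) (kg xg12 yg51 zg42) (kg xg14 yg23 zg27) (kg xg17 yg17 zg25) (kg xg22 yg50 zg40) (kg xg7 yg38 zg39) (kg xg7 yg35 zg14) (kg xg7 yg47 zg10) (kg xg7 yg47 zg11) (kg xg7 yg7 zg31)) (@D3.rec (fun _ => Pt) (kg xg22 yg50 zg49) (kg xg22 yg50 zg51) (kg xg22 yg50 zg2) (kg xg13 yg43 zg52) (kg xg11 yg15 zg46) (kg xg22 yg50 zg57) (kg xg7 yg56 zg15) (kg xg8 yg43 zg26) (kg xg10 yg38 zg46) (kg xg8 yg43 zg55) (kg xg10 yg14 zg52) (kg xg10 yg15 zg12) (kg xg18 yg19 zg55) (kg xg14 yg25 zg31) (kg xg7 yg14 zg18) (kg xg22 yg51 zg6) (kg xg13 yg13 zg59) (kg xg7 yg7 zg46) (kg xg18 yg33 zg44) (kg xg14 yg18 zg38) (kg xg13 yg42 zg50) (kg xg13 yg10 zg3) (kg xg7 yg8 zg55) (kg xg7 yg7 zg56) (kg xg7 yg7 zg51) (kg xg7 yg7 zg54) (kg xg22 yg32 zg61)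 (kg xg14 yg20 zg33) (kg xg22 yg51 zg13) (kg xg14 yg43 zg53) (kg xg13 yg9 zg47) (kg xg14 yg53 zg43) (kg xg16 yg53 zg6) (kg xg7 yg7 zg55) (kg xg22 yg51 zg22) (kg xg16 yg53 zg5) (kg xg8 yg1 zg46) (kg xg7 yg56 zg30) (kg xg8 yg44 zg59) (kg xg7 yg56 zg20) (kg xg19 yg21 zg16) (kg xg22 yg29 zg10) (kg xg20 yg45 zg25) (kg xg22 yg51 zg36) (kg xg13 yg42 zg0) (kg xg7 yg8 zg0) (kg xg22 yg51 zg41) (kg xg13 yg29 zg39) (kg xg22 yg51 zg46) (kg xg13 yg39 zg46) (kg xg22 yg29 zg8) (kg xg22 yg29 zg29) (kg xg13 yg14 zg9) (kg xg7 yg49 zg12) (kg xg20 yg21 zg19) (kg xg7 yg8 zg6) (kg xg22 yg51 zg53) (kg xg21 yg12 zg17) (kg xg8 yg1 zg49) (kg xg11 yg23 zg27) (kg xg13 yg41 zg45) (kg xg7 yg8 zg9)) (@D3.rec (fun _ => Pt) (kg xg18 yg41 zg49) (kg xg13 yg39 zg26) (kg xg22 yg52 zg3) (kg xg10 yg3 zg42)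 (kg xg7 yg8 zg13) (kg xg22 yg52 zg6) (kg xg8 yg2 zg7) (kg xg8 yg46 zg17) (kg xg13 yg27 zg60) (kg xg7 yg8 zg16) (kg xg15 yg7 zg60) (kg xg13 yg27 zg58) (kg xg8 yg48 zg9) (kg xg7 yg8 zg19) (kg xg16 yg26 zg2) (kg xg7 yg14 zg36) (kg xg9 yg8 zg33) (kg xg7 yg8 zg25) (kg xg8 yg47 zg11) (kg xg22 yg52 zg23) (kg xg22 yg52 zg28) (kg xg7 yg17 zg26) (kg xg8 yg47 zg10) (kg xg22 yg52 zg24) (kg xg22 yg52 zg37) (kg xg20 yg36 zg60) (kg xg22 yg52 zg43) (kg xg22 yg52 zg39) (kg xg22 yg52 zg49) (kg xg22 yg47 zg47) (kg xg7 yg8 zg29) (kg xg21 yg10 zg61) (kg xg22 yg48 zg21) (kg xg14 yg19 zg38) (kg xg22 yg48 zg7) (kg xg22 yg47 zg58) (kg xg13 yg41 zg37) (kg xg22 yg41 zg50) (kg xg22 yg47 zg56) (kg xg7 yg8 zg34) (kg xg22 yg53 zg8) (kg xg22 yg53 zg13) (kg xg13 yg39 zg17) (kg xg7 yg8 zg35) (kg xg13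 yg50 zg20) (kg xg13 yg39 zg31) (kg xg7 yg9 zg40) (kg xg22 yg53 zg21) (kg xg7 yg9 zg22) (kg xg22 yg47 zg43) (kg xg7 yg8 zg51) (kg xg7 yg8 zg41) (kg xg22 yg53 zg27) (kg xg14 yg18 zg21) (kg xg22 yg53 zg33) (kg xg22 yg47 zg54) (kg xg7 yg8 zg42) (kg xg22 yg53 zg43) (kg xg22 yg47 zg53) (kg xg13 yg38 zg7) (kg xg7 yg8 zg59) (kg xg7 yg20 zg21)) (@D3.rec (fun _ => Pt) (kg xg22 yg47 zg49) (kg xg22 yg42 zg7) (kg xg15 yg18 zg22) (kg xg22 yg45 zg45) (kg xg20 yg25 zg40) (kg xg7 yg8 zg47) (kg xg16 yg27 zg40) (kg xg22 yg53 zg50) (kg xg7 yg8 zg48) (kg xg21 yg14 zg53) (kg xg13 yg41 zg55) (kg xg15 yg38 zg57) (kg xg14 yg18 zg23) (kg xg22 yg53 zg58) (kg xg22 yg48 zg2) (kg xg7 yg8 zg52) (kg xg16 yg28 zg37) (kg xg22 yg47 zg55) (kg xg22 yg54 zg7) (kg xg22 yg54 zg12) (kg xg22 yg54 zg13) (kg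 xg7 yg8 zg60) (kg xg7 yg8 zg56) (kg xg22 yg54 zg16) (kg xg22 yg54 zg18) (kg xg22 yg48 zg6) (kg xg7 yg8 zg58) (kg xg22 yg48 zg5) (kg xg8 yg48 zg43) (kg xg15 yg18 zg7) (kg xg12 yg8 zg13) (kg xg22 yg54 zg32) (kg xg18 yg51 zg24) (kg xg7 yg42 zg36) (kg xg22 yg54 zg36) (kg xg22 yg48 zg14) (kg xg7 yg9 zg0) (kg xg22 yg48 zg13) (kg xg22 yg54 zg44) (kg xg22 yg54 zg22) (kg xg22 yg54 zg50) (kg xg7 yg40 zg21) (kg xg22 yg54 zg40) (kg xg20 yg44 zg2) (kg xg7 yg9 zg3) (kg xg22 yg48 zg25) (kg xg14 yg18 zg30) (kg xg7 yg9 zg56) (kg xg7 yg9 zg4) (kg xg22 yg55 zg2) (kg xg22 yg55 zg5) (kg xg22 yg47 zg48) (kg xg7 yg9 zg6) (kg xg7 yg50 zg22) (kg xg7 yg50 zg21) (kg xg22 yg55 zg17) (kg xg9 yg14 zg21) (kg xg22 yg55 zg22) (kg xg13 yg40 zg26) (kg xg7 yg9 zg14) (kg xg13 yg40 zg28) (kg xg20 yg28 zg41))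 (@D3.rec (fun _ => Pt) (kg xg13 yg28 zg28) (kg xg22 yg55 zg27) (kg xg7 yg14 zg48) (kg xg21 yg14 zg59) (kg xg22 yg48 zg31) (kg xg13 yg40 zg42) (kg xg21 yg11 zg54) (kg xg7 yg9 zg18) (kg xg22 yg55 zg40) (kg xg22 yg55 zg45) (kg xg7 yg9 zg19) (kg xg13 yg26 zg38) (kg xg20 yg31 zg29) (kg xg13 yg28 zg22) (kg xg22 yg55 zg51) (kg xg13 yg39 zg61) (kg xg13 yg28 zg16) (kg xg21 yg12 zg3) (kg xg22 yg55 zg58) (kg xg22 yg53 zg38) (kg xg22 yg48 zg29) (kg xg7 yg9 zg23) (kg xg22 yg56 zg8) (kg xg22 yg48 zg28) (kg xg7 yg16 zg60) (kg xg14 yg49 zg29) (kg xg22 yg56 zg13) (kg xg22 yg41 zg1) (kg xg7 yg9 zg28) (kg xg19 yg31 zg0) (kg xg14 yg23 zg23) (kg xg22 yg56 zg18) (kg xg7 yg9 zg30) (kg xg7 yg37 zg45) (kg xg22 yg56 zg23) (kg xg22 yg46 zg59) (kg xg14 yg25 zg15) (kg xg22 yg56 zg29) (kg xg22 yg33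 zg61) (kg xg7 yg13 zg10) (kg xg7 yg40 zg40) (kg xg13 yg43 zg42) (kg xg13 yg44 zg3) (kg xg22 yg48 zg24) (kg xg7 yg9 zg38) (kg xg22 yg56 zg43) (kg xg20 yg35 zg57) (kg xg22 yg23 zg56) (kg xg20 yg34 zg61) (kg xg13 yg40 zg58) (kg xg20 yg43 zg31) (kg xg22 yg54 zg0) (kg xg21 yg11 zg55) (kg xg7 yg9 zg41) (kg xg22 yg56 zg55) (kg xg16 yg24 zg38) (kg xg13 yg24 zg34) (kg xg7 yg12 zg37) (kg xg7 yg9 zg44) (kg xg13 yg6 zg58) (kg xg7 yg39 zg46) (kg xg22 yg57 zg0)) (@D3.rec (fun _ => Pt) (kg xg22 yg57 zg3) (kg xg7 yg35 zg39) (kg xg7 yg9 zg51) (kg xg7 yg35 zg43) (kg xg22 yg57 zg10) (kg xg22 yg57 zg13) (kg xg22 yg57 zg6) (kg xg22 yg57 zg18) (kg xg7 yg42 zg15) (kg xg22 yg57 zg21) (kg xg19 yg45 zg47) (kg xg22 yg57 zg24) (kg xg22 yg48 zg44) (kg xg7 yg9 zg57) (kg xg22 yg48 zg43) (kg xg7 yg33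 zg45) (kg xg7 yg9 zg59) (kg xg7 yg33 zg49) (kg xg20 yg33 zg11) (kg xg22 yg57 zg35) (kg xg7 yg16 zg6) (kg xg7 yg9 zg61) (kg xg7 yg16 zg5) (kg xg13 yg5 zg13) (kg xg7 yg17 zg10) (kg xg13 yg34 zg40) (kg xg7 yg12 zg53) (kg xg7 yg34 zg19) (kg xg7 yg34 zg3) (kg xg7 yg10 zg3) (kg xg10 yg53 zg53) (kg xg18 yg55 zg1) (kg xg13 yg44 zg45) (kg xg7 yg10 zg4) (kg xg13 yg44 zg44) (kg xg13 yg15 zg22) (kg xg7 yg10 zg5) (kg xg13 yg15 zg21) (kg xg22 yg57 zg59) (kg xg22 yg46 zg60) (kg xg13 yg34 zg26) (kg xg13 yg12 zg47) (kg xg22 yg58 zg0) (kg xg22 yg58 zg2) (kg xg22 yg0 zg39) (kg xg14 yg16 zg6) (kg xg22 yg26 zg53) (kg xg13 yg46 zg23) (kg xg7 yg10 zg14) (kg xg22 yg58 zg11) (kg xg13 yg46 zg22) (kg xg13 yg22 zg16) (kg xg22 yg26 zg45) (kg xg7 yg10 zg39) (kg xg22 yg58 zg17) (kg xg7 yg45 zg33)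 (kg xg22 yg28 zg4) (kg xg22 yg45 zg56) (kg xg22 yg12 zg9) (kg xg13 yg19 zg22) (kg xg7 yg35 zg38) (kg xg7 yg10 zg22)) (@D3.rec (fun _ => Pt) (kg xg7 yg24 zg35) (kg xg22 yg48 zg56) (kg xg7 yg10 zg23) (kg xg22 yg58 zg34) (kg xg14 yg19 zg10) (kg xg7 yg10 zg24) (kg xg22 yg58 zg42) (kg xg22 yg48 zg53) (kg xg7 yg10 zg25) (kg xg22 yg58 zg49) (kg xg22 yg48 zg52) (kg xg14 yg44 zg5) (kg xg22 yg46 zg56) (kg xg7 yg46 zg0) (kg xg13 yg45 zg6) (kg xg14 yg44 zg46) (kg xg7 yg46 zg5) (kg xg7 yg10 zg46) (kg xg7 yg36 zg49) (kg xg22 yg48 zg48) (kg xg22 yg58 zg61) (kg xg22 yg48 zg46) (kg xg7 yg10 zg30) (kg xg22 yg59 zg12) (kg xg14 yg26 zg39) (kg xg22 yg59 zg6) (kg xg7 yg10 zg31) (kg xg22 yg59 zg18) (kg xg22 yg59 zg4) (kg xg22 yg49 zg0) (kg xg7 yg10 zg32) (kg xg22 yg59 zg24) (kg xg22 yg48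 zg61) (kg xg22 yg33 zg21) (kg xg7 yg10 zg35) (kg xg22 yg58 zg58) (kg xg22 yg59 zg10) (kg xg13 yg10 zg5) (kg xg13 yg5 zg59) (kg xg22 yg47 zg39) (kg xg13 yg11 zg41) (kg xg13 yg11 zg47) (kg xg14 yg10 zg61) (kg xg13 yg5 zg57) (kg xg22 yg23 zg23) (kg xg13 yg3 zg14) (kg xg22 yg59 zg38) (kg xg22 yg59 zg33) (kg xg22 yg12 zg57) (kg xg18 yg53 zg24) (kg xg22 yg59 zg43) (kg xg16 yg26 zg47) (kg xg13 yg6 zg8) (kg xg22 yg59 zg40) (kg xg7 yg10 zg44) (kg xg22 yg59 zg39) (kg xg22 yg59 zg56) (kg xg13 yg45 zg8) (kg xg22 yg16 zg31) (kg xg22 yg59 zg60) (kg xg13 yg45 zg3) (kg xg7 yg10 zg47)) (@D3.rec (fun _ => Pt) (kg xg13 yg45 zg1) (kg xg13 yg29 zg4) (kg xg7 yg10 zg48) (kg xg13 yg29 zg5) (kg xg20 yg10 zg27) (kg xg13 yg36 zg17) (kg xg7 yg10 zg49) (kg xg13 yg20 zg48) (kg xg13 yg36 zg19) (kg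 xg23 yg0 zg17) (kg xg14 yg17 zg27) (kg xg23 yg0 zg25) (kg xg19 yg15 zg22) (kg xg22 yg58 zg57) (kg xg13 yg18 zg0) (kg xg23 yg0 zg26) (kg xg23 yg0 zg38) (kg xg13 yg36 zg6) (kg xg13 yg36 zg8) (kg xg7 yg10 zg53) (kg xg14 yg31 zg13) (kg xg13 yg8 zg30) (kg xg20 yg43 zg12) (kg xg14 yg22 zg24) (kg xg13 yg8 zg28) (kg xg22 yg22 zg55) (kg xg13 yg36 zg45) (kg xg7 yg10 zg56) (kg xg14 yg49 zg23) (kg xg19 yg45 zg11) (kg xg7 yg10 zg57) (kg xg23 yg0 zg61) (kg xg7 yg52 zg35) (kg xg22 yg22 zg15) (kg xg7 yg25 zg5) (kg xg19 yg56 zg20) (kg xg14 yg49 zg25) (kg xg23 yg1 zg5) (kg xg7 yg37 zg55) (kg xg7 yg35 zg16) (kg xg22 yg18 zg8) (kg xg7 yg52 zg59) (kg xg19 yg30 zg45) (kg xg22 yg48 zg37) (kg xg14 yg42 zg37) (kg xg13 yg36 zg27) (kg xg17 yg23 zg59) (kg xg13 yg54 zg39) (kg xg7 yg15 zg7) (kg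 xg21 yg40 zg15) (kg xg13 yg10 zg24) (kg xg15 yg40 zg51) (kg xg13 yg10 zg4) (kg xg14 yg52 zg53) (kg xg17 yg24 zg11) (kg xg17 yg25 zg8) (kg xg14 yg48 zg22) (kg xg23 yg1 zg26) (kg xg13 yg8 zg42) (kg xg7 yg11 zg12) (kg xg23 yg1 zg32) (kg xg7 yg52 zg45)) (@D3.rec (fun _ => Pt) (kg xg23 yg1 zg36) (kg xg17 yg23 zg57) (kg xg23 yg1 zg42) (kg xg17 yg23 zg34) (kg xg22 yg58 zg60) (kg xg21 yg40 zg13) (kg xg12 yg25 zg48) (kg xg23 yg1 zg46) (kg xg11 yg4 zg7) (kg xg7 yg52 zg41) (kg xg23 yg1 zg49) (kg xg14 yg42 zg46) (kg xg23 yg1 zg51) (kg xg12 yg19 zg14) (kg xg7 yg11 zg22) (kg xg12 yg19 zg13) (kg xg18 yg30 zg8) (kg xg23 yg1 zg57) (kg xg13 yg54 zg42) (kg xg23 yg1 zg61) (kg xg7 yg11 zg26) (kg xg7 yg28 zg32) (kg xg7 yg29 zg39) (kg xg7 yg29 zg38) (kg xg16 yg17 zg44) (kg xg23 yg2 zg4) (kg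 xg23 yg2 zg1) (kg xg7 yg11 zg29) (kg xg23 yg2 zg0) (kg xg22 yg57 zg61) (kg xg7 yg11 zg33) (kg xg22 yg14 zg41) (kg xg22 yg16 zg16) (kg xg13 yg49 zg50) (kg xg23 yg2 zg18) (kg xg22 yg58 zg21) (kg xg7 yg21 zg44) (kg xg14 yg17 zg3) (kg xg7 yg16 zg10) (kg xg22 yg16 zg42) (kg xg12 yg21 zg27) (kg xg7 yg11 zg38) (kg xg12 yg21 zg26) (kg xg21 yg8 zg51) (kg xg23 yg2 zg33) (kg xg23 yg2 zg36) (kg xg12 yg13 zg21) (kg xg12 yg20 zg40) (kg xg22 yg9 zg32) (kg xg12 yg26 zg5) (kg xg23 yg2 zg44) (kg xg21 yg6 zg38) (kg xg12 yg20 zg48) (kg xg10 yg23 zg0) (kg xg12 yg24 zg38) (kg xg7 yg11 zg44) (kg xg7 yg11 zg46) (kg xg13 yg46 zg39) (kg xg23 yg2 zg55) (kg xg7 yg11 zg49) (kg xg7 yg18 zg56) (kg xg23 yg2 zg59)) (@D3.rec (fun _ => Pt) (kg xg7 yg19 zg28) (kg xg7 yg19 zg27) (kg xg23 yg2 zg61) (kg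 xg23 yg3 zg3) (kg xg23 yg2 zg57) (kg xg7 yg11 zg53) (kg xg23 yg2 zg56) (kg xg13 yg46 zg52) (kg xg13 yg46 zg31) (kg xg7 yg12 zg1) (kg xg13 yg49 zg26) (kg xg7 yg17 zg3) (kg xg7 yg12 zg6) (kg xg7 yg12 zg2) (kg xg7 yg12 zg4) (kg xg7 yg27 zg50) (kg xg23 yg3 zg23) (kg xg23 yg3 zg18) (kg xg13 yg46 zg25) (kg xg7 yg27 zg45) (kg xg22 yg29 zg1) (kg xg13 yg34 zg0) (kg xg12 yg22 zg51) (kg xg7 yg12 zg5) (kg xg23 yg3 zg33) (kg xg8 yg45 zg57) (kg xg16 yg25 zg54) (kg xg13 yg26 zg44) (kg xg11 yg8 zg26) (kg xg8 yg46 zg13) (kg xg8 yg48 zg7) (kg xg13 yg23 zg19) (kg xg13 yg23 zg18) (kg xg9 yg5 zg9) (kg xg23 yg3 zg39) (kg xg7 yg12 zg15) (kg xg7 yg12 zg31) (kg xg14 yg45 zg15) (kg xg9 yg14 zg4) (kg xg12 yg46 zg16) (kg xg20 yg0 zg28) (kg xg15 yg43 zg46) (kg xg23 yg3 zg44) (kg xg7 yg12 zg46)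 (kg xg20 yg19 zg31) (kg xg13 yg50 zg15) (kg xg13 yg44 zg4) (kg xg12 yg38 zg6) (kg xg7 yg12 zg23) (kg xg23 yg3 zg49) (kg xg22 yg30 zg26) (kg xg20 yg36 zg29) (kg xg13 yg52 zg1) (kg xg8 yg45 zg52) (kg xg21 yg13 zg53) (kg xg8 yg45 zg51) (kg xg13 yg43 zg58) (kg xg7 yg18 zg24) (kg xg13 yg21 zg14) (kg xg23 yg4 zg2) (kg xg7 yg12 zg39) (kg xg13 yg18 zg3)) (@D3.rec (fun _ => Pt) (kg xg23 yg4 zg7) (kg xg23 yg4 zg10) (kg xg14 yg40 zg58) (kg xg13 yg47 zg27) (kg xg11 yg33 zg0) (kg xg7 yg19 zg2) (kg xg18 yg41 zg22) (kg xg23 yg4 zg16) (kg xg13 yg27 zg4) (kg xg8 yg46 zg22) (kg xg23 yg3 zg47) (kg xg22 yg40 zg58) (kg xg23 yg4 zg21) (kg xg13 yg27 zg21) (kg xg7 yg12 zg49) (kg xg13 yg27 zg20) (kg xg22 yg20 zg39) (kg xg13 yg31 zg43) (kg xg7 yg48 zg25) (kg xg7 yg34 zg16) (kg xg23 yg4 zg27)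 (kg xg23 yg4 zg31) (kg xg13 yg27 zg33) (kg xg7 yg12 zg54) (kg xg13 yg27 zg32) (kg xg22 yg49 zg33) (kg xg13 yg30 zg41) (kg xg14 yg24 zg22) (kg xg21 yg14 zg56) (kg xg13 yg31 zg45) (kg xg13 yg40 zg35) (kg xg23 yg4 zg43) (kg xg13 yg14 zg1) (kg xg13 yg28 zg9) (kg xg7 yg12 zg60) (kg xg22 yg24 zg54) (kg xg13 yg28 zg7) (kg xg23 yg4 zg54) (kg xg7 yg13 zg1) (kg xg13 yg43 zg40) (kg xg23 yg4 zg61) (kg xg7 yg13 zg2) (kg xg7 yg14 zg4) (kg xg17 yg0 zg30) (kg xg13 yg43 zg43) (kg xg23 yg5 zg3) (kg xg21 yg14 zg43) (kg xg13 yg43 zg31) (kg xg23 yg5 zg8) (kg xg13 yg30 zg20) (kg xg13 yg40 zg33) (kg xg23 yg5 zg13) (kg xg7 yg15 zg4) (kg xg7 yg13 zg6) (kg xg23 yg5 zg17) (kg xg7 yg38 zg60) (kg xg7 yg15 zg1) (kg xg23 yg5 zg24) (kg xg7 yg18 zg17) (kg xg7 yg15 zg19) (kg xg7 yg15 zg18) (kg xg23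 yg5 zg27)) (@D3.rec (fun _ => Pt) (kg xg14 yg48 zg49) (kg xg23 yg5 zg30) (kg xg7 yg13 zg11) (kg xg7 yg13 zg31) (kg xg23 yg5 zg33) (kg xg14 yg48 zg44) (kg xg23 yg5 zg35) (kg xg13 yg17 zg35) (kg xg13 yg19 zg20) (kg xg14 yg48 zg14) (kg xg7 yg13 zg15) (kg xg7 yg35 zg57) (kg xg22 yg17 zg35) (kg xg7 yg35 zg3) (kg xg23 yg5 zg46) (kg xg13 yg19 zg21) (kg xg13 yg5 zg36) (kg xg14 yg15 zg40) (kg xg13 yg44 zg38) (kg xg23 yg5 zg51) (kg xg23 yg5 zg54) (kg xg7 yg16 zg16) (kg xg7 yg13 zg21) (kg xg7 yg16 zg15) (kg xg13 yg29 zg27) (kg xg7 yg13 zg35) (kg xg13 yg32 zg59) (kg xg13 yg32 zg60) (kg xg7 yg13 zg25) (kg xg21 yg11 zg7) (kg xg14 yg28 zg31) (kg xg7 yg15 zg9) (kg xg7 yg13 zg28) (kg xg13 yg39 zg47) (kg xg23 yg6 zg6) (kg xg13 yg39 zg28) (kg xg7 yg20 zg28) (kg xg23 yg6 zg8) (kg xg22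 yg29 zg4) (kg xg13 yg39 zg25) (kg xg7 yg20 zg23) (kg xg23 yg6 zg9) (kg xg7 yg18 zg19) (kg xg7 yg47 zg58) (kg xg7 yg47 zg57) (kg xg23 yg6 zg17) (kg xg7 yg13 zg36) (kg xg7 yg13 zg37) (kg xg7 yg13 zg45) (kg xg16 yg20 zg25) (kg xg7 yg17 zg4) (kg xg19 yg0 zg51) (kg xg18 yg41 zg31) (kg xg7 yg13 zg47) (kg xg15 yg8 zg31) (kg xg13 yg14 zg25) (kg xg7 yg13 zg42) (kg xg17 yg30 zg34) (kg xg13 yg33 zg42) (kg xg10 yg3 zg17) (kg xg18 yg27 zg17) (kg xg16 yg24 zg27)) (@D3.rec (fun _ => Pt) (kg xg7 yg13 zg50) (kg xg13 yg52 zg7) (kg xg7 yg15 zg21) (kg xg7 yg13 zg55) (kg xg7 yg13 zg52) (kg xg13 yg48 zg26) (kg xg18 yg49 zg15) (kg xg7 yg13 zg54) (kg xg7 yg39 zg12) (kg xg23 yg6 zg40) (kg xg14 yg53 zg44) (kg xg23 yg6 zg46) (kg xg23 yg6 zg48) (kg xg15 yg4 zg2) (kg xg23 yg6 zg53) (kg xg13 yg29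 zg44) (kg xg7 yg13 zg58) (kg xg18 yg53 zg8) (kg xg13 yg14 zg60) (kg xg13 yg29 zg42) (kg xg22 yg28 zg41) (kg xg14 yg53 zg37) (kg xg16 yg22 zg46) (kg xg7 yg42 zg7) (kg xg7 yg42 zg14) (kg xg13 yg32 zg17) (kg xg14 yg32 zg19) (kg xg11 yg41 zg44) (kg xg20 yg28 zg55) (kg xg7 yg14 zg54) (kg xg22 yg28 zg46) (kg xg7 yg14 zg22) (kg xg23 yg6 zg37) (kg xg22 yg28 zg47) (kg xg14 yg30 zg38) (kg xg13 yg9 zg49) (kg xg13 yg14 zg35) (kg xg13 yg14 zg47) (kg xg22 yg28 zg45) (kg xg7 yg14 zg11) (kg xg22 yg50 zg9) (kg xg12 yg6 zg44) (kg xg14 yg58 zg46) (kg xg11 yg23 zg32) (kg xg10 yg16 zg61) (kg xg13 yg30 zg61) (kg xg18 yg21 zg42) (kg xg18 yg20 zg40) (kg xg23 yg7 zg17) (kg xg23 yg7 zg20) (kg xg9 yg59 zg2) (kg xg7 yg14 zg19) (kg xg7 yg14 zg21) (kg xg18 yg21 zg44) (kg xg23 yg7 zg23) (kg xg13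 yg32 zg1) (kg xg14 yg53 zg33) (kg xg23 yg7 zg24) (kg xg13 yg27 zg56) (kg xg15 yg0 zg22) (kg xg23 yg7 zg29) (kg xg7 yg32 zg24)) (@D3.rec (fun _ => Pt) (kg xg13 yg30 zg45) (kg xg23 yg7 zg36) (kg xg11 yg29 zg13) (kg xg16 yg21 zg2) (kg xg7 yg14 zg34) (kg xg7 yg14 zg31) (kg xg16 yg26 zg27) (kg xg23 yg7 zg45) (kg xg7 yg16 zg52) (kg xg16 yg26 zg26) (kg xg23 yg7 zg53) (kg xg23 yg7 zg55) (kg xg23 yg7 zg58) (kg xg14 yg25 zg42) (kg xg23 yg8 zg2) (kg xg7 yg14 zg37) (kg xg16 yg26 zg37) (kg xg23 yg5 zg25) (kg xg20 yg28 zg52) (kg xg11 yg50 zg32) (kg xg20 yg7 zg27) (kg xg20 yg30 zg22) (kg xg23 yg8 zg8) (kg xg13 yg28 zg4) (kg xg7 yg15 zg22) (kg xg23 yg8 zg14) (kg xg7 yg15 zg15) (kg xg22 yg52 zg14) (kg xg7 yg14 zg51) (kg xg7 yg14 zg44) (kg xg7 yg41 zg47) (kg xg23 yg8 zg22) (kg xg23 yg5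 zg0) (kg xg7 yg14 zg45) (kg xg22 yg23 zg28) (kg xg7 yg14 zg58) (kg xg7 yg25 zg9) (kg xg23 yg4 zg55) (kg xg23 yg8 zg34) (kg xg21 yg14 zg40) (kg xg7 yg14 zg49) (kg xg22 yg55 zg39) (kg xg8 yg48 zg33) (kg xg23 yg8 zg44) (kg xg23 yg8 zg47) (kg xg23 yg5 zg4) (kg xg7 yg14 zg52) (kg xg23 yg8 zg54) (kg xg21 yg12 zg21) (kg xg13 yg23 zg21) (kg xg23 yg5 zg1) (kg xg23 yg8 zg58) (kg xg20 yg18 zg25) (kg xg7 yg14 zg59) (kg xg7 yg38 zg43) (kg xg23 yg9 zg1) (kg xg23 yg5 zg10) (kg xg7 yg14 zg57) (kg xg16 yg21 zg26) (kg xg23 yg5 zg9) (kg xg13 yg30 zg49) (kg xg21 yg14 zg60)) (@D3.rec (fun _ => Pt) (kg xg21 yg14 zg54) (kg xg23 yg9 zg15) (kg xg20 yg50 zg34) (kg xg7 yg38 zg50) (kg xg23 yg9 zg22) (kg xg23 yg5 zg15) (kg xg7 yg14 zg61) (kg xg23 yg9 zg31) (kg xg23 yg5 zg14) (kg xg11 yg42 zg22)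 (kg xg7 yg51 zg10) (kg xg16 yg0 zg52) (kg xg16 yg1 zg61) (kg xg14 yg18 zg3) (kg xg23 yg9 zg25) (kg xg23 yg9 zg36) (kg xg7 yg15 zg2) (kg xg16 yg26 zg35) (kg xg23 yg9 zg42) (kg xg23 yg9 zg38) (kg xg7 yg15 zg49) (kg xg23 yg9 zg46) (kg xg23 yg9 zg49) (kg xg22 yg52 zg18) (kg xg7 yg15 zg5) (kg xg7 yg52 zg18) (kg xg14 yg51 zg36) (kg xg7 yg39 zg13) (kg xg7 yg15 zg8) (kg xg7 yg39 zg16) (kg xg23 yg9 zg61) (kg xg13 yg39 zg50) (kg xg23 yg10 zg3) (kg xg16 yg27 zg22) (kg xg17 yg56 zg61) (kg xg15 yg53 zg23) (kg xg7 yg15 zg12) (kg xg15 yg53 zg22) (kg xg23 yg10 zg9) (kg xg23 yg9 zg58) (kg xg13 yg39 zg44) (kg xg23 yg10 zg15) (kg xg13 yg28 zg38) (kg xg13 yg39 zg39) (kg xg22 yg52 zg34) (kg xg11 yg47 zg40) (kg xg23 yg8 zg26) (kg xg23 yg5 zg32) (kg xg7 yg15 zg16) (kg xg23 yg5 zg31) (kg xg20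 yg37 zg13) (kg xg13 yg33 zg15) (kg xg13 yg15 zg28) (kg xg23 yg1 zg20) (kg xg7 yg15 zg20) (kg xg13 yg10 zg8) (kg xg23 yg10 zg35) (kg xg14 yg44 zg48) (kg xg20 yg1 zg38) (kg xg16 yg43 zg21) (kg xg23 yg8 zg51) (kg xg23 yg5 zg37)) (@D3.rec (fun _ => Pt) (kg xg7 yg15 zg23) (kg xg23 yg10 zg46) (kg xg23 yg5 zg36) (kg xg13 yg33 zg49) (kg xg13 yg4 zg18) (kg xg7 yg34 zg51) (kg xg13 yg38 zg52) (kg xg23 yg10 zg49) (kg xg19 yg56 zg41) (kg xg13 yg23 zg28) (kg xg23 yg10 zg52) (kg xg14 yg24 zg9) (kg xg14 yg28 zg16) (kg xg23 yg5 zg39) (kg xg7 yg15 zg40) (kg xg23 yg5 zg38) (kg xg14 yg29 zg1) (kg xg23 yg10 zg59) (kg xg13 yg21 zg36) (kg xg7 yg15 zg42) (kg xg13 yg21 zg44) (kg xg14 yg13 zg27) (kg xg14 yg18 zg39) (kg xg19 yg19 zg1) (kg xg14 yg30 zg8) (kg xg23 yg11 zg0) (kg xg14 yg11 zg0) (kg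 xg7 yg53 zg16) (kg xg23 yg11 zg11) (kg xg19 yg34 zg33) (kg xg19 yg35 zg15) (kg xg23 yg11 zg15) (kg xg23 yg11 zg19) (kg xg23 yg5 zg48) (kg xg7 yg15 zg50) (kg xg23 yg5 zg47) (kg xg19 yg15 zg26) (kg xg13 yg23 zg11) (kg xg13 yg40 zg16) (kg xg13 yg17 zg40) (kg xg12 yg34 zg6) (kg xg7 yg15 zg56) (kg xg15 yg58 zg55) (kg xg13 yg34 zg34) (kg xg7 yg15 zg57) (kg xg13 yg34 zg33) (kg xg13 yg57 zg41) (kg xg14 yg39 zg7) (kg xg14 yg8 zg49) (kg xg22 yg16 zg54) (kg xg7 yg24 zg34) (kg xg13 yg19 zg24) (kg xg12 yg34 zg55) (kg xg7 yg15 zg61) (kg xg14 yg1 zg7) (kg xg13 yg19 zg9) (kg xg7 yg16 zg0) (kg xg23 yg11 zg44) (kg xg18 yg54 zg33) (kg xg12 yg34 zg53) (kg xg7 yg16 zg1) (kg xg14 yg29 zg32)) (@D3.rec (fun _ => Pt) (kg xg13 yg36 zg0) (kg xg7 yg16 zg2) (kg xg18 yg56 zg54) (kg xg13 yg35 zg61)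 (kg xg14 yg17 zg35) (kg xg13 yg20 zg5) (kg xg13 yg35 zg17) (kg xg13 yg35 zg57) (kg xg7 yg16 zg7) (kg xg23 yg11 zg61) (kg xg7 yg16 zg8) (kg xg22 yg22 zg39) (kg xg13 yg6 zg3) (kg xg18 yg54 zg29) (kg xg23 yg12 zg4) (kg xg23 yg12 zg7) (kg xg22 yg17 zg40) (kg xg7 yg16 zg11) (kg xg22 yg17 zg39) (kg xg13 yg6 zg10) (kg xg7 yg16 zg12) (kg xg13 yg29 zg2) (kg xg23 yg12 zg18) (kg xg13 yg45 zg34) (kg xg7 yg16 zg13) (kg xg13 yg45 zg36) (kg xg23 yg12 zg25) (kg xg22 yg33 zg49) (kg xg14 yg30 zg4) (kg xg22 yg59 zg23) (kg xg22 yg59 zg9) (kg xg7 yg34 zg40) (kg xg23 yg12 zg32) (kg xg22 yg35 zg60) (kg xg13 yg45 zg24) (kg xg13 yg45 zg25) (kg xg7 yg16 zg17) (kg xg23 yg12 zg45) (kg xg7 yg37 zg21) (kg xg7 yg42 zg5) (kg xg19 yg28 zg38) (kg xg13 yg9 zg27) (kg xg19 yg30 zg27) (kg xg7 yg35 zg4)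 (kg xg17 yg0 zg34) (kg xg13 yg46 zg6) (kg xg19 yg42 zg11) (kg xg7 yg42 zg42) (kg xg7 yg16 zg23) (kg xg7 yg42 zg46) (kg xg23 yg12 zg59) (kg xg9 yg14 zg14) (kg xg17 yg50 zg5) (kg xg23 yg12 zg58) (kg xg15 yg55 zg28) (kg xg11 yg56 zg2) (kg xg20 yg48 zg19) (kg xg7 yg50 zg37) (kg xg7 yg16 zg27) (kg xg7 yg50 zg35) (kg xg23 yg13 zg2) (kg xg23 yg12 zg57)) (@D3.rec (fun _ => Pt) (kg xg7 yg16 zg28) (kg xg23 yg12 zg56) (kg xg14 yg32 zg20) (kg xg9 yg14 zg28) (kg xg11 yg50 zg59) (kg xg13 yg45 zg45) (kg xg7 yg16 zg31) (kg xg12 yg41 zg15) (kg xg22 yg22 zg11) (kg xg7 yg16 zg32) (kg xg23 yg13 zg18) (kg xg22 yg22 zg10) (kg xg20 yg43 zg3) (kg xg23 yg13 zg23) (kg xg7 yg50 zg48) (kg xg10 yg32 zg41) (kg xg7 yg37 zg20) (kg xg22 yg46 zg55) (kg xg14 yg42 zg52) (kg xg13 yg27 zg29) (kg xg23 yg13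 zg31) (kg xg13 yg34 zg50) (kg xg7 yg16 zg43) (kg xg13 yg34 zg48) (kg xg21 yg14 zg6) (kg xg16 yg24 zg13) (kg xg13 yg50 zg32) (kg xg8 yg48 zg60) (kg xg15 yg50 zg6) (kg xg8 yg2 zg13) (kg xg22 yg30 zg59) (kg xg22 yg41 zg57) (kg xg12 yg48 zg51) (kg xg13 yg27 zg48) (kg xg13 yg50 zg21) (kg xg13 yg38 zg8) (kg xg14 yg10 zg49) (kg xg14 yg28 zg13) (kg xg13 yg37 zg57) (kg xg7 yg16 zg50) (kg xg18 yg40 zg12) (kg xg13 yg50 zg17) (kg xg23 yg13 zg60) (kg xg7 yg17 zg33) (kg xg23 yg14 zg3) (kg xg13 yg49 zg13) (kg xg7 yg16 zg56) (kg xg20 yg32 zg16) (kg xg22 yg51 zg17) (kg xg13 yg49 zg15) (kg xg23 yg14 zg8) (kg xg10 yg4 zg20) (kg xg13 yg49 zg1) (kg xg23 yg14 zg14) (kg xg7 yg18 zg1) (kg xg23 yg14 zg19) (kg xg18 yg42 zg40) (kg xg22 yg31 zg40) (kg xg7 yg17 zg1) (kg xg13 yg14 zg49) (kg xg23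 yg14 zg28) (kg xg23 yg14 zg31)) (@D3.rec (fun _ => Pt) (kg xg22 yg49 zg40) (kg xg14 yg45 zg18) (kg xg23 yg14 zg35) (kg xg9 yg30 zg10) (kg xg13 yg19 zg42) (kg xg22 yg36 zg31) (kg xg23 yg4 zg4) (kg xg23 yg14 zg42) (kg xg22 yg41 zg21) (kg xg21 yg14 zg38) (kg xg14 yg15 zg39) (kg xg21 yg13 zg33) (kg xg13 yg32 zg19) (kg xg23 yg3 zg46) (kg xg8 yg51 zg17) (kg xg21 yg51 zg49) (kg xg8 yg50 zg32) (kg xg23 yg3 zg45) (kg xg22 yg53 zg49) (kg xg13 yg51 zg13) (kg xg22 yg42 zg41) (kg xg14 yg25 zg22) (kg xg17 yg15 zg25) (kg xg17 yg15 zg32) (kg xg8 yg49 zg44) (kg xg21 yg55 zg0) (kg xg20 yg47 zg31) (kg xg13 yg39 zg5) (kg xg23 yg14 zg54) (kg xg15 yg13 zg16) (kg xg15 yg12 zg50) (kg xg7 yg19 zg19) (kg xg8 yg38 zg61) (kg xg7 yg17 zg31) (kg xg7 yg17 zg29) (kg xg23 yg15 zg1) (kg xg23 yg15 zg6)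 (kg xg23 yg15 zg2) (kg xg14 yg45 zg24) (kg xg23 yg15 zg12) (kg xg23 yg15 zg16) (kg xg22 yg34 zg5) (kg xg23 yg9 zg26) (kg xg23 yg14 zg1) (kg xg7 yg17 zg34) (kg xg23 yg15 zg28) (kg xg23 yg15 zg32) (kg xg15 yg10 zg25) (kg xg23 yg14 zg22) (kg xg14 yg15 zg43) (kg xg20 yg32 zg29) (kg xg23 yg7 zg6) (kg xg13 yg50 zg29) (kg xg22 yg57 zg38) (kg xg7 yg17 zg38) (kg xg22 yg30 zg23) (kg xg23 yg15 zg49) (kg xg22 yg41 zg17) (kg xg7 yg17 zg39) (kg xg13 yg50 zg14) (kg xg7 yg18 zg25) (kg xg23 yg15 zg58)) (@D3.rec (fun _ => Pt) (kg xg7 yg17 zg48) (kg xg7 yg17 zg41) (kg xg23 yg16 zg3) (kg xg23 yg16 zg7) (kg xg23 yg9 zg34) (kg xg7 yg17 zg42) (kg xg23 yg9 zg32) (kg xg7 yg17 zg56) (kg xg7 yg21 zg50) (kg xg14 yg0 zg32) (kg xg21 yg14 zg24) (kg xg7 yg17 zg45) (kg xg22 yg30 zg37) (kg xg21 yg14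 zg47) (kg xg7 yg17 zg46) (kg xg22 yg30 zg38) (kg xg10 yg1 zg37) (kg xg21 yg14 zg23) (kg xg16 yg22 zg48) (kg xg13 yg50 zg42) (kg xg22 yg12 zg22) (kg xg22 yg53 zg47) (kg xg23 yg14 zg10) (kg xg7 yg17 zg49) (kg xg23 yg16 zg35) (kg xg23 yg14 zg9) (kg xg13 yg41 zg10) (kg xg20 yg32 zg30) (kg xg22 yg57 zg34) (kg xg15 yg10 zg2) (kg xg7 yg17 zg57) (kg xg23 yg14 zg7) (kg xg23 yg16 zg39) (kg xg23 yg14 zg16) (kg xg7 yg17 zg55) (kg xg23 yg7 zg37) (kg xg23 yg14 zg15) (kg xg8 yg38 zg9) (kg xg14 yg9 zg24) (kg xg23 yg16 zg54) (kg xg22 yg45 zg27) (kg xg23 yg16 zg6) (kg xg22 yg53 zg46) (kg xg7 yg17 zg58) (kg xg22 yg53 zg44) (kg xg23 yg17 zg5) (kg xg23 yg16 zg44) (kg xg23 yg17 zg12) (kg xg23 yg17 zg1) (kg xg23 yg17 zg15) (kg xg7 yg17 zg61) (kg xg23 yg17 zg16) (kg xg23 yg17 zg27) (kg xg23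 yg17 zg21) (kg xg23 yg17 zg31) (kg xg23 yg17 zg34) (kg xg23 yg14 zg2) (kg xg7 yg18 zg2) (kg xg7 yg23 zg58) (kg xg14 yg0 zg38) (kg xg13 yg18 zg4) (kg xg7 yg18 zg6)) (@D3.rec (fun _ => Pt) (kg xg23 yg17 zg45) (kg xg13 yg31 zg59) (kg xg23 yg17 zg51) (kg xg22 yg55 zg36) (kg xg23 yg6 zg15) (kg xg23 yg3 zg17) (kg xg7 yg18 zg10) (kg xg23 yg17 zg59) (kg xg23 yg18 zg2) (kg xg19 yg56 zg42) (kg xg7 yg18 zg11) (kg xg9 yg47 zg11) (kg xg23 yg17 zg43) (kg xg13 yg46 zg49) (kg xg23 yg18 zg11) (kg xg13 yg46 zg45) (kg xg15 yg13 zg44) (kg xg23 yg18 zg18) (kg xg23 yg16 zg11) (kg xg23 yg14 zg30) (kg xg7 yg18 zg15) (kg xg23 yg18 zg29) (kg xg23 yg14 zg29) (kg xg23 yg6 zg0) (kg xg13 yg33 zg5) (kg xg13 yg33 zg10) (kg xg13 yg49 zg3) (kg xg23 yg18 zg33) (kg xg13 yg15 zg27) (kg xg13 yg52 zg12)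 (kg xg22 yg31 zg23) (kg xg20 yg0 zg47) (kg xg16 yg34 zg54) (kg xg18 yg49 zg19) (kg xg13 yg27 zg36) (kg xg23 yg18 zg38) (kg xg23 yg16 zg30) (kg xg23 yg14 zg37) (kg xg7 yg18 zg26) (kg xg18 yg38 zg47) (kg xg23 yg14 zg36) (kg xg13 yg44 zg6) (kg xg7 yg53 zg53) (kg xg13 yg15 zg25) (kg xg13 yg4 zg30) (kg xg13 yg38 zg50) (kg xg23 yg18 zg48) (kg xg22 yg33 zg54) (kg xg23 yg18 zg53) (kg xg22 yg40 zg60) (kg xg13 yg37 zg38) (kg xg23 yg18 zg57) (kg xg7 yg30 zg46) (kg xg7 yg30 zg48) (kg xg22 yg36 zg32) (kg xg22 yg12 zg52) (kg xg23 yg19 zg1) (kg xg13 yg6 zg12) (kg xg23 yg19 zg2) (kg xg23 yg18 zg59) (kg xg7 yg18 zg40) (kg xg23 yg19 zg11)) (@D3.rec (fun _ => Pt) (kg xg23 yg18 zg58) (kg xg23 yg19 zg15) (kg xg14 yg6 zg1) (kg xg19 yg4 zg45) (kg xg7 yg53 zg30) (kg xg19 yg20 zg35) (kg xg7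 yg53 zg5) (kg xg23 yg3 zg19) (kg xg14 yg14 zg33) (kg xg23 yg3 zg16) (kg xg13 yg47 zg59) (kg xg7 yg39 zg5) (kg xg13 yg47 zg5) (kg xg13 yg26 zg39) (kg xg7 yg30 zg33) (kg xg13 yg38 zg49) (kg xg13 yg46 zg41) (kg xg7 yg18 zg52) (kg xg23 yg19 zg35) (kg xg13 yg45 zg4) (kg xg13 yg48 zg27) (kg xg22 yg12 zg61) (kg xg7 yg19 zg33) (kg xg7 yg18 zg61) (kg xg7 yg18 zg57) (kg xg7 yg18 zg59) (kg xg20 yg51 zg4) (kg xg23 yg2 zg58) (kg xg16 yg30 zg17) (kg xg13 yg42 zg51) (kg xg18 yg1 zg32) (kg xg12 yg6 zg22) (kg xg16 yg30 zg26) (kg xg23 yg19 zg43) (kg xg23 yg19 zg46) (kg xg17 yg6 zg31) (kg xg14 yg44 zg2) (kg xg13 yg27 zg1) (kg xg16 yg31 zg40) (kg xg13 yg46 zg30) (kg xg16 yg30 zg31) (kg xg21 yg4 zg12) (kg xg13 yg48 zg10) (kg xg14 yg52 zg28) (kg xg13 yg46 zg26) (kg xg14 yg59 zg25) (kg xg7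 yg19 zg14) (kg xg16 yg12 zg0) (kg xg23 yg19 zg55) (kg xg16 yg11 zg61) (kg xg7 yg49 zg20) (kg xg16 yg11 zg55) (kg xg23 yg20 zg0) (kg xg14 yg15 zg50) (kg xg22 yg54 zg41) (kg xg21 yg28 zg4) (kg xg7 yg19 zg20) (kg xg23 yg20 zg8) (kg xg23 yg20 zg15) (kg xg18 yg40 zg38) (kg xg22 yg32 zg3) (kg xg14 yg44 zg60)) (@D3.rec (fun _ => Pt) (kg xg22 yg42 zg3) (kg xg13 yg47 zg12) (kg xg22 yg42 zg8) (kg xg7 yg19 zg24) (kg xg23 yg18 zg7) (kg xg15 yg26 zg33) (kg xg22 yg54 zg5) (kg xg7 yg19 zg25) (kg xg22 yg42 zg19) (kg xg7 yg19 zg26) (kg xg22 yg42 zg18) (kg xg7 yg19 zg36) (kg xg22 yg42 zg6) (kg xg23 yg20 zg29) (kg xg22 yg42 zg14) (kg xg7 yg19 zg29) (kg xg23 yg17 zg58) (kg xg15 yg50 zg37) (kg xg23 yg20 zg30) (kg xg7 yg19 zg30) (kg xg13 yg47 zg19) (kg xg22 yg42 zg13) (kg xg7 yg19 zg31)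 (kg xg22 yg42 zg12) (kg xg14 yg44 zg61) (kg xg23 yg17 zg47) (kg xg23 yg20 zg44) (kg xg16 yg3 zg23) (kg xg23 yg20 zg48) (kg xg14 yg45 zg14) (kg xg7 yg19 zg35) (kg xg8 yg48 zg18) (kg xg14 yg45 zg13) (kg xg12 yg8 zg27) (kg xg18 yg26 zg44) (kg xg23 yg20 zg61) (kg xg21 yg55 zg43) (kg xg18 yg42 zg30) (kg xg14 yg45 zg4) (kg xg7 yg19 zg38) (kg xg14 yg45 zg3) (kg xg23 yg21 zg6) (kg xg23 yg20 zg52) (kg xg23 yg21 zg12) (kg xg23 yg21 zg2) (kg xg23 yg3 zg1) (kg xg7 yg19 zg41) (kg xg23 yg3 zg0) (kg xg13 yg15 zg40) (kg xg22 yg30 zg29) (kg xg13 yg38 zg21) (kg xg23 yg16 zg16) (kg xg23 yg21 zg23) (kg xg22 yg57 zg4) (kg xg7 yg19 zg46) (kg xg13 yg40 zg34) (kg xg13 yg16 zg23) (kg xg7 yg19 zg47) (kg xg23 yg21 zg36) (kg xg13 yg16 zg22) (kg xg13 yg44 zg12) (kg xg13 yg15 zg8)) (@D3.rec (fun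 _ => Pt) (kg xg13 yg16 zg12) (kg xg13 yg49 zg41) (kg xg13 yg16 zg10) (kg xg7 yg19 zg52) (kg xg23 yg21 zg45) (kg xg23 yg21 zg48) (kg xg22 yg47 zg13) (kg xg22 yg29 zg7) (kg xg22 yg41 zg61) (kg xg7 yg19 zg54) (kg xg9 yg59 zg26) (kg xg22 yg41 zg60) (kg xg13 yg49 zg34) (kg xg19 yg18 zg55) (kg xg23 yg21 zg56) (kg xg23 yg21 zg60) (kg xg22 yg18 zg61) (kg xg7 yg19 zg59) (kg xg20 yg47 zg57) (kg xg20 yg46 zg47) (kg xg13 yg7 zg48) (kg xg11 yg32 zg24) (kg xg12 yg30 zg38) (kg xg16 yg6 zg49) (kg xg7 yg26 zg55) (kg xg23 yg22 zg12) (kg xg21 yg36 zg59) (kg xg23 yg22 zg18) (kg xg11 yg59 zg41) (kg xg23 yg22 zg23) (kg xg7 yg26 zg58) (kg xg11 yg9 zg45) (kg xg8 yg35 zg35) (kg xg23 yg22 zg28) (kg xg23 yg22 zg31) (kg xg21 yg4 zg31) (kg xg7 yg20 zg13) (kg xg21 yg4 zg30) (kg xg18 yg5 zg11) (kg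 xg19 yg19 zg57) (kg xg13 yg55 zg38) (kg xg18 yg18 zg33) (kg xg13 yg55 zg36) (kg xg7 yg30 zg2) (kg xg14 yg45 zg40) (kg xg18 yg2 zg50) (kg xg23 yg22 zg43) (kg xg23 yg22 zg45) (kg xg7 yg20 zg26) (kg xg23 yg22 zg44) (kg xg7 yg20 zg24) (kg xg23 yg22 zg50) (kg xg17 yg57 zg1) (kg xg14 yg11 zg21) (kg xg22 yg53 zg48) (kg xg14 yg45 zg38) (kg xg22 yg42 zg36) (kg xg21 yg32 zg56) (kg xg7 yg20 zg27) (kg xg17 yg38 zg39) (kg xg23 yg22 zg46) (kg xg9 yg22 zg3)) (@D3.rec (fun _ => Pt) (kg xg21 yg37 zg54) (kg xg14 yg2 zg11) (kg xg7 yg20 zg30) (kg xg23 yg23 zg6) (kg xg14 yg2 zg9) (kg xg15 yg43 zg36) (kg xg9 yg45 zg27) (kg xg9 yg46 zg11) (kg xg7 yg21 zg11) (kg xg9 yg45 zg41) (kg xg23 yg23 zg15) (kg xg7 yg20 zg33) (kg xg14 yg3 zg5) (kg xg14 yg3 zg11) (kg xg14 yg3 zg10) (kg xg23 yg23 zg22)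 (kg xg23 yg23 zg26) (kg xg14 yg54 zg25) (kg xg12 yg16 zg36) (kg xg22 yg27 zg6) (kg xg14 yg54 zg28) (kg xg23 yg23 zg33) (kg xg23 yg23 zg19) (kg xg14 yg46 zg18) (kg xg15 yg42 zg38) (kg xg7 yg21 zg13) (kg xg7 yg51 zg53) (kg xg23 yg23 zg40) (kg xg12 yg48 zg2) (kg xg14 yg49 zg0) (kg xg23 yg23 zg42) (kg xg14 yg19 zg57) (kg xg13 yg20 zg11) (kg xg22 yg19 zg54) (kg xg13 yg24 zg13) (kg xg14 yg53 zg1) (kg xg14 yg53 zg3) (kg xg16 yg53 zg60) (kg xg21 yg44 zg60) (kg xg14 yg3 zg40) (kg xg7 yg20 zg51) (kg xg14 yg3 zg39) (kg xg19 yg23 zg10) (kg xg23 yg23 zg50) (kg xg10 yg25 zg60) (kg xg17 yg50 zg55) (kg xg19 yg21 zg19) (kg xg23 yg23 zg53) (kg xg23 yg23 zg56) (kg xg23 yg23 zg58) (kg xg18 yg4 zg56) (kg xg7 yg20 zg60) (kg xg7 yg39 zg45) (kg xg7 yg53 zg11) (kg xg13 yg12 zg27) (kg xg13 yg12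 zg28) (kg xg7 yg21 zg3) (kg xg23 yg24 zg8) (kg xg13 yg7 zg40) (kg xg7 yg50 zg60) (kg xg19 yg56 zg45) (kg xg7 yg50 zg61)) (@D3.rec (fun _ => Pt) (kg xg14 yg2 zg60) (kg xg14 yg3 zg15) (kg xg12 yg10 zg1) (kg xg22 yg32 zg40) (kg xg23 yg23 zg13) (kg xg23 yg24 zg17) (kg xg22 yg38 zg10) (kg xg23 yg23 zg30) (kg xg14 yg29 zg14) (kg xg14 yg55 zg23) (kg xg19 yg38 zg53) (kg xg9 yg45 zg53) (kg xg11 yg18 zg26) (kg xg16 yg5 zg3) (kg xg21 yg37 zg59) (kg xg7 yg26 zg52) (kg xg22 yg32 zg30) (kg xg14 yg2 zg23) (kg xg23 yg24 zg29) (kg xg14 yg2 zg21) (kg xg7 yg55 zg1) (kg xg7 yg54 zg54) (kg xg13 yg58 zg33) (kg xg8 yg33 zg4) (kg xg7 yg51 zg42) (kg xg21 yg24 zg30) (kg xg23 yg24 zg33) (kg xg23 yg3 zg21) (kg xg14 yg7 zg4) (kg xg14 yg7 zg12) (kg xg14 yg6 zg36) (kg xg9 yg45 zg61) (kg xg14 yg3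 zg61) (kg xg7 yg21 zg27) (kg xg23 yg24 zg47) (kg xg14 yg3 zg59) (kg xg23 yg24 zg51) (kg xg22 yg45 zg41) (kg xg13 yg26 zg9) (kg xg13 yg25 zg25) (kg xg13 yg55 zg18) (kg xg13 yg37 zg18) (kg xg7 yg21 zg30) (kg xg21 yg56 zg51) (kg xg14 yg4 zg8) (kg xg21 yg30 zg49) (kg xg11 yg44 zg28) (kg xg23 yg25 zg9) (kg xg14 yg7 zg49) (kg xg14 yg6 zg34) (kg xg20 yg6 zg42) (kg xg7 yg23 zg48) (kg xg7 yg21 zg34) (kg xg15 yg13 zg33) (kg xg7 yg23 zg46) (kg xg7 yg21 zg36) (kg xg7 yg22 zg45) (kg xg19 yg56 zg17) (kg xg14 yg0 zg41) (kg xg21 yg56 zg38) (kg xg23 yg17 zg41) (kg xg14 yg0 zg27)) (@D3.rec (fun _ => Pt) (kg xg23 yg25 zg30) (kg xg14 yg6 zg35) (kg xg13 yg55 zg16) (kg xg23 yg25 zg37) (kg xg7 yg24 zg12) (kg xg7 yg21 zg40) (kg xg23 yg25 zg41) (kg xg23 yg25 zg44) (kg xg7 yg50 zg51) (kg xg22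 yg58 zg23) (kg xg7 yg21 zg45) (kg xg7 yg55 zg12) (kg xg23 yg25 zg51) (kg xg22 yg28 zg18) (kg xg23 yg25 zg55) (kg xg13 yg13 zg35) (kg xg13 yg54 zg61) (kg xg22 yg45 zg47) (kg xg13 yg54 zg37) (kg xg14 yg0 zg52) (kg xg21 yg14 zg50) (kg xg7 yg21 zg51) (kg xg23 yg26 zg4) (kg xg16 yg24 zg8) (kg xg23 yg26 zg8) (kg xg22 yg44 zg1) (kg xg13 yg54 zg27) (kg xg14 yg55 zg6) (kg xg13 yg26 zg0) (kg xg21 yg14 zg37) (kg xg7 yg21 zg54) (kg xg21 yg29 zg43) (kg xg13 yg8 zg51) (kg xg13 yg57 zg8) (kg xg23 yg26 zg17) (kg xg13 yg52 zg42) (kg xg7 yg21 zg56) (kg xg14 yg21 zg32) (kg xg9 yg45 zg28) (kg xg13 yg8 zg57) (kg xg7 yg21 zg58) (kg xg23 yg26 zg26) (kg xg12 yg49 zg36) (kg xg23 yg26 zg29) (kg xg11 yg43 zg39) (kg xg17 yg56 zg3) (kg xg23 yg26 zg25) (kg xg7 yg22 zg19) (kg xg7 yg27 zg0) (kg xg17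 yg56 zg12) (kg xg9 yg45 zg42) (kg xg14 yg6 zg20) (kg xg7 yg21 zg61) (kg xg23 yg26 zg45) (kg xg14 yg6 zg18) (kg xg14 yg6 zg24) (kg xg14 yg6 zg23) (kg xg23 yg26 zg54) (kg xg23 yg26 zg58) (kg xg13 yg24 zg57) (kg xg12 yg13 zg26) (kg xg7 yg22 zg4)) (@D3.rec (fun _ => Pt) (kg xg7 yg22 zg16) (kg xg23 yg27 zg1) (kg xg13 yg24 zg60) (kg xg18 yg40 zg15) (kg xg23 yg26 zg51) (kg xg13 yg24 zg50) (kg xg21 yg24 zg39) (kg xg7 yg22 zg21) (kg xg7 yg29 zg1) (kg xg7 yg22 zg60) (kg xg23 yg27 zg14) (kg xg7 yg34 zg13) (kg xg13 yg2 zg41) (kg xg22 yg32 zg51) (kg xg7 yg22 zg11) (kg xg23 yg11 zg40) (kg xg14 yg6 zg11) (kg xg14 yg6 zg29) (kg xg14 yg23 zg48) (kg xg23 yg27 zg25) (kg xg17 yg23 zg49) (kg xg23 yg26 zg32) (kg xg23 yg27 zg29) (kg xg23 yg26 zg33) (kg xg23 yg27 zg2) (kg xg14 yg10 zg2) (kg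 xg23 yg26 zg61) (kg xg23 yg27 zg36) (kg xg23 yg27 zg11) (kg xg14 yg6 zg7) (kg xg23 yg27 zg44) (kg xg22 yg17 zg42) (kg xg7 yg27 zg12) (kg xg23 yg27 zg45) (kg xg23 yg27 zg53) (kg xg14 yg5 zg34) (kg xg7 yg22 zg25) (kg xg23 yg27 zg61) (kg xg14 yg5 zg32) (kg xg14 yg51 zg51) (kg xg7 yg24 zg36) (kg xg7 yg22 zg31) (kg xg7 yg22 zg28) (kg xg14 yg34 zg18) (kg xg23 yg28 zg10) (kg xg7 yg22 zg30) (kg xg14 yg5 zg2) (kg xg23 yg28 zg15) (kg xg23 yg28 zg19) (kg xg14 yg34 zg27) (kg xg23 yg28 zg23) (kg xg13 yg25 zg20) (kg xg13 yg58 zg13) (kg xg23 yg28 zg29) (kg xg22 yg17 zg43) (kg xg7 yg28 zg49) (kg xg21 yg49 zg14) (kg xg20 yg59 zg20) (kg xg14 yg5 zg51) (kg xg23 yg28 zg40) (kg xg22 yg42 zg59) (kg xg22 yg43 zg23)) (@D3.rec (fun _ => Pt) (kg xg23 yg28 zg46) (kg xg14 yg10 zg60) (kg xg14 yg8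 zg12) (kg xg14 yg9 zg17) (kg xg21 yg41 zg18) (kg xg22 yg17 zg49) (kg xg7 yg23 zg37) (kg xg7 yg24 zg2) (kg xg14 yg6 zg48) (kg xg23 yg28 zg54) (kg xg22 yg43 zg8) (kg xg12 yg24 zg9) (kg xg14 yg46 zg40) (kg xg7 yg22 zg50) (kg xg23 yg28 zg57) (kg xg7 yg22 zg51) (kg xg23 yg29 zg4) (kg xg23 yg28 zg55) (kg xg23 yg28 zg12) (kg xg22 yg43 zg28) (kg xg22 yg43 zg53) (kg xg21 yg41 zg12) (kg xg13 yg19 zg4) (kg xg13 yg25 zg37) (kg xg13 yg25 zg52) (kg xg22 yg43 zg6) (kg xg7 yg22 zg54) (kg xg23 yg29 zg19) (kg xg23 yg24 zg37) (kg xg13 yg59 zg6) (kg xg7 yg52 zg8) (kg xg17 yg55 zg57) (kg xg11 yg17 zg29) (kg xg14 yg7 zg36) (kg xg7 yg22 zg57) (kg xg23 yg29 zg26) (kg xg9 yg46 zg7) (kg xg22 yg42 zg57) (kg xg23 yg29 zg32) (kg xg13 yg25 zg33) (kg xg23 yg29 zg35) (kg xg13 yg44 zg49) (kg xg23 yg25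 zg27) (kg xg14 yg4 zg10) (kg xg13 yg13 zg45) (kg xg21 yg14 zg15) (kg xg7 yg23 zg9) (kg xg11 yg27 zg1) (kg xg9 yg43 zg51) (kg xg14 yg40 zg10) (kg xg23 yg3 zg35) (kg xg7 yg23 zg7) (kg xg23 yg29 zg46) (kg xg21 yg13 zg60) (kg xg22 yg32 zg35) (kg xg23 yg29 zg52) (kg xg14 yg9 zg7) (kg xg22 yg43 zg19) (kg xg23 yg29 zg41) (kg xg7 yg23 zg10) (kg xg23 yg29 zg58) (kg xg21 yg14 zg21)) (@D3.rec (fun _ => Pt) (kg xg23 yg30 zg0) (kg xg11 yg27 zg2) (kg xg23 yg30 zg1) (kg xg17 yg12 zg21) (kg xg14 yg7 zg11) (kg xg7 yg23 zg14) (kg xg23 yg30 zg10) (kg xg14 yg7 zg9) (kg xg14 yg3 zg57) (kg xg23 yg30 zg17) (kg xg14 yg7 zg17) (kg xg7 yg23 zg17) (kg xg23 yg30 zg22) (kg xg13 yg56 zg55) (kg xg23 yg30 zg27) (kg xg14 yg7 zg41) (kg xg14 yg7 zg39) (kg xg7 yg23 zg20) (kg xg9 yg10 zg9) (kg xg14 yg8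 zg24) (kg xg7 yg23 zg23) (kg xg16 yg17 zg37) (kg xg19 yg17 zg2) (kg xg7 yg23 zg25) (kg xg19 yg16 zg53) (kg xg23 yg30 zg30) (kg xg23 yg30 zg34) (kg xg14 yg4 zg17) (kg xg9 yg45 zg60) (kg xg14 yg56 zg27) (kg xg23 yg25 zg13) (kg xg14 yg7 zg53) (kg xg7 yg23 zg28) (kg xg8 yg20 zg15) (kg xg14 yg7 zg51) (kg xg9 yg25 zg17) (kg xg16 yg56 zg26) (kg xg11 yg11 zg13) (kg xg20 yg28 zg1) (kg xg12 yg55 zg19) (kg xg7 yg23 zg33) (kg xg20 yg28 zg2) (kg xg11 yg8 zg17) (kg xg21 yg9 zg59) (kg xg11 yg28 zg30) (kg xg23 yg25 zg15) (kg xg23 yg25 zg14) (kg xg23 yg30 zg49) (kg xg18 yg24 zg5) (kg xg23 yg30 zg52) (kg xg7 yg23 zg42) (kg xg20 yg9 zg40) (kg xg7 yg23 zg43) (kg xg7 yg23 zg39) (kg xg23 yg17 zg3) (kg xg23 yg31 zg0) (kg xg7 yg23 zg40) (kg xg7 yg49 zg29) (kg xg23 yg25 zg12) (kg xg7 yg23 zg41)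 (kg xg11 yg29 zg15) (kg xg8 yg46 zg36)) (@D3.rec (fun _ => Pt) (kg xg21 yg56 zg56) (kg xg17 yg15 zg16) (kg xg11 yg23 zg4) (kg xg23 yg30 zg60) (kg xg22 yg28 zg24) (kg xg9 yg46 zg6) (kg xg13 yg57 zg31) (kg xg9 yg45 zg48) (kg xg16 yg10 zg39) (kg xg23 yg31 zg20) (kg xg11 yg11 zg56) (kg xg15 yg13 zg28) (kg xg21 yg30 zg48) (kg xg23 yg31 zg21) (kg xg14 yg7 zg7) (kg xg19 yg54 zg10) (kg xg22 yg16 zg51) (kg xg7 yg23 zg47) (kg xg8 yg3 zg49) (kg xg22 yg16 zg49) (kg xg23 yg25 zg20) (kg xg23 yg25 zg45) (kg xg21 yg39 zg11) (kg xg23 yg25 zg33) (kg xg19 yg56 zg18) (kg xg7 yg23 zg51) (kg xg23 yg31 zg32) (kg xg17 yg2 zg17) (kg xg7 yg23 zg52) (kg xg14 yg4 zg5) (kg xg7 yg24 zg37) (kg xg23 yg31 zg36) (kg xg7 yg23 zg61) (kg xg7 yg23 zg54) (kg xg18 yg42 zg20) (kg xg23 yg31 zg38) (kg xg11 yg3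 zg57) (kg xg7 yg23 zg55) (kg xg19 yg54 zg16) (kg xg7 yg24 zg5) (kg xg22 yg43 zg54) (kg xg19 yg56 zg30) (kg xg13 yg16 zg1) (kg xg19 yg56 zg43) (kg xg7 yg23 zg60) (kg xg21 yg32 zg34) (kg xg21 yg6 zg42) (kg xg19 yg2 zg12) (kg xg23 yg25 zg26) (kg xg7 yg24 zg0) (kg xg21 yg31 zg22) (kg xg23 yg25 zg25) (kg xg14 yg3 zg13) (kg xg23 yg25 zg22) (kg xg23 yg31 zg58) (kg xg19 yg56 zg10) (kg xg7 yg24 zg6) (kg xg7 yg24 zg3) (kg xg23 yg32 zg3) (kg xg23 yg32 zg7) (kg xg23 yg25 zg32) (kg xg7 yg24 zg4))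
def f_g_14 : D2 → D3 → Pt := @D2.rec (fun _ => D3 → Pt) (@D3.rec (fun _ => Pt) (kg xg23 yg30 zg6) (kg xg23 yg25 zg31) (kg xg14 yg7 zg21) (kg xg23 yg21 zg8) (kg xg21 yg56 zg18) (kg xg23 yg20 zg41) (kg xg23 yg32 zg24) (kg xg23 yg25 zg38) (kg xg7 yg24 zg7) (kg xg15 yg13 zg36) (kg xg23 yg32 zg30) (kg xg23 yg32 zg11) (kg xg23 yg32 zg36) (kg xg15 yg13 zg40) (kg xg23 yg32 zg41) (kg xg7 yg24 zg10) (kg xg23 yg32 zg42) (kg xg23 yg32 zg49) (kg xg15 yg14 zg0) (kg xg20 yg33 zg26) (kg xg23 yg32 zg54) (kg xg23 yg25 zg21) (kg xg7 yg24 zg13) (kg xg14 yg5 zg3) (kg xg7 yg24 zg14) (kg xg14 yg5 zg5) (kg xg23 yg33 zg4) (kg xg13 yg55 zg2) (kg xg23 yg33 zg10) (kg xg22 yg30 zg31) (kg xg14 yg5 zg21) (kg xg7 yg24 zg18) (kg xg13 yg46 zg44) (kg xg8 yg39 zg6) (kg xg23 yg1 zg0) (kg xg7 yg24 zg19)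 (kg xg11 yg4 zg13) (kg xg23 yg33 zg1) (kg xg13 yg54 zg58) (kg xg15 yg13 zg24) (kg xg13 yg2 zg44) (kg xg13 yg48 zg59) (kg xg23 yg19 zg36) (kg xg20 yg31 zg7) (kg xg16 yg25 zg39) (kg xg23 yg25 zg53) (kg xg7 yg24 zg23) (kg xg15 yg53 zg11) (kg xg23 yg25 zg52) (kg xg7 yg24 zg25) (kg xg7 yg51 zg27) (kg xg14 yg48 zg6) (kg xg13 yg15 zg42) (kg xg23 yg33 zg27) (kg xg7 yg24 zg30) (kg xg23 yg33 zg31) (kg xg21 yg54 zg18) (kg xg13 yg49 zg55) (kg xg23 yg33 zg36) (kg xg14 yg9 zg53) (kg xg12 yg47 zg52) (kg xg22 yg58 zg27)) (@D3.rec (fun _ => Pt) (kg xg21 yg32 zg26) (kg xg23 yg33 zg41) (kg xg23 yg31 zg52) (kg xg23 yg25 zg57) (kg xg7 yg24 zg38) (kg xg23 yg25 zg56) (kg xg13 yg25 zg57) (kg xg13 yg56 zg15) (kg xg18 yg40 zg6) (kg xg18 yg45 zg51) (kg xg7 yg33 zg18) (kg xg7 yg33 zg12) (kg xg14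 yg35 zg12) (kg xg13 yg18 zg59) (kg xg7 yg24 zg45) (kg xg23 yg33 zg57) (kg xg18 yg5 zg9) (kg xg14 yg15 zg35) (kg xg7 yg24 zg46) (kg xg23 yg34 zg3) (kg xg14 yg15 zg34) (kg xg23 yg34 zg5) (kg xg13 yg19 zg44) (kg xg7 yg35 zg20) (kg xg7 yg41 zg19) (kg xg21 yg41 zg19) (kg xg13 yg18 zg40) (kg xg23 yg34 zg10) (kg xg23 yg34 zg14) (kg xg22 yg35 zg20) (kg xg7 yg24 zg53) (kg xg23 yg34 zg22) (kg xg22 yg35 zg19) (kg xg13 yg27 zg15) (kg xg17 yg29 zg54) (kg xg12 yg49 zg43) (kg xg17 yg19 zg33) (kg xg9 yg29 zg19) (kg xg9 yg24 zg40) (kg xg12 yg31 zg44) (kg xg7 yg24 zg59) (kg xg13 yg6 zg21) (kg xg13 yg53 zg14) (kg xg7 yg25 zg18) (kg xg7 yg25 zg27) (kg xg14 yg47 zg61) (kg xg14 yg48 zg0) (kg xg7 yg25 zg2) (kg xg14 yg40 zg19) (kg xg14 yg49 zg17) (kg xg14 yg48 zg58) (kg xg23 yg1 zg1) (kg xg23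 yg34 zg40) (kg xg14 yg53 zg59) (kg xg18 yg40 zg59) (kg xg11 yg25 zg61) (kg xg20 yg26 zg23) (kg xg23 yg34 zg42) (kg xg7 yg25 zg14) (kg xg23 yg34 zg50) (kg xg16 yg25 zg46) (kg xg23 yg34 zg54)) (@D3.rec (fun _ => Pt) (kg xg14 yg55 zg16) (kg xg14 yg48 zg51) (kg xg22 yg43 zg57) (kg xg14 yg53 zg57) (kg xg7 yg25 zg17) (kg xg22 yg11 zg39) (kg xg13 yg6 zg23) (kg xg23 yg35 zg4) (kg xg13 yg53 zg4) (kg xg7 yg25 zg19) (kg xg23 yg35 zg10) (kg xg13 yg53 zg2) (kg xg13 yg6 zg31) (kg xg7 yg25 zg20) (kg xg17 yg55 zg25) (kg xg12 yg31 zg54) (kg xg23 yg35 zg19) (kg xg23 yg35 zg16) (kg xg7 yg25 zg54) (kg xg15 yg45 zg35) (kg xg17 yg56 zg13) (kg xg7 yg25 zg25) (kg xg22 yg43 zg61) (kg xg8 yg21 zg15) (kg xg13 yg13 zg1) (kg xg13 yg13 zg0) (kg xg23 yg35 zg26) (kg xg7 yg54 zg15) (kg xg7 yg25 zg29)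 (kg xg7 yg25 zg51) (kg xg7 yg54 zg18) (kg xg14 yg56 zg25) (kg xg7 yg54 zg8) (kg xg23 yg35 zg29) (kg xg23 yg35 zg32) (kg xg22 yg12 zg8) (kg xg7 yg25 zg37) (kg xg22 yg12 zg7) (kg xg22 yg17 zg50) (kg xg7 yg29 zg35) (kg xg23 yg35 zg40) (kg xg10 yg18 zg19) (kg xg8 yg0 zg21) (kg xg10 yg54 zg54) (kg xg23 yg35 zg44) (kg xg22 yg9 zg1) (kg xg7 yg25 zg45) (kg xg21 yg32 zg53) (kg xg21 yg31 zg10) (kg xg7 yg25 zg47) (kg xg21 yg31 zg9) (kg xg23 yg35 zg57) (kg xg16 yg18 zg4) (kg xg7 yg41 zg7) (kg xg7 yg41 zg26) (kg xg7 yg41 zg5) (kg xg13 yg54 zg11) (kg xg12 yg42 zg25) (kg xg23 yg35 zg60) (kg xg14 yg48 zg28) (kg xg13 yg54 zg6) (kg xg17 yg54 zg52)) (@D3.rec (fun _ => Pt) (kg xg17 yg55 zg29) (kg xg17 yg56 zg31) (kg xg15 yg45 zg51) (kg xg17 yg56 zg17) (kg xg13 yg53 zg12) (kg xg7 yg25 zg60)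 (kg xg14 yg10 zg8) (kg xg7 yg52 zg44) (kg xg13 yg59 zg52) (kg xg21 yg21 zg52) (kg xg7 yg26 zg2) (kg xg13 yg8 zg48) (kg xg23 yg36 zg13) (kg xg14 yg55 zg53) (kg xg23 yg36 zg18) (kg xg7 yg54 zg43) (kg xg14 yg49 zg57) (kg xg23 yg36 zg22) (kg xg23 yg34 zg35) (kg xg7 yg49 zg50) (kg xg9 yg18 zg57) (kg xg21 yg46 zg59) (kg xg23 yg36 zg27) (kg xg23 yg36 zg29) (kg xg14 yg42 zg45) (kg xg7 yg47 zg40) (kg xg22 yg17 zg59) (kg xg13 yg20 zg37) (kg xg23 yg36 zg33) (kg xg23 yg36 zg34) (kg xg15 yg49 zg56) (kg xg7 yg39 zg0) (kg xg7 yg26 zg15) (kg xg19 yg22 zg9) (kg xg18 yg46 zg51) (kg xg7 yg26 zg17) (kg xg7 yg48 zg7) (kg xg23 yg36 zg41) (kg xg13 yg53 zg41) (kg xg7 yg26 zg19) (kg xg13 yg53 zg40) (kg xg23 yg36 zg45) (kg xg23 yg36 zg46) (kg xg22 yg50 zg48) (kg xg14 yg49 zg36) (kg xg13 yg6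 zg41) (kg xg13 yg18 zg38) (kg xg23 yg36 zg53) (kg xg23 yg36 zg56) (kg xg23 yg36 zg58) (kg xg18 yg45 zg42) (kg xg10 yg40 zg36) (kg xg7 yg26 zg26) (kg xg13 yg53 zg51) (kg xg12 yg31 zg27) (kg xg22 yg15 zg57) (kg xg21 yg14 zg29) (kg xg13 yg57 zg37) (kg xg13 yg54 zg35) (kg xg7 yg26 zg34) (kg xg23 yg37 zg10) (kg xg13 yg54 zg33)) (@D3.rec (fun _ => Pt) (kg xg23 yg16 zg17) (kg xg13 yg59 zg29) (kg xg13 yg8 zg44) (kg xg13 yg57 zg4) (kg xg14 yg5 zg9) (kg xg13 yg5 zg9) (kg xg13 yg24 zg45) (kg xg13 yg54 zg44) (kg xg7 yg26 zg37) (kg xg23 yg37 zg29) (kg xg21 yg30 zg1) (kg xg20 yg45 zg53) (kg xg23 yg29 zg23) (kg xg13 yg58 zg19) (kg xg13 yg57 zg2) (kg xg12 yg30 zg30) (kg xg23 yg37 zg33) (kg xg23 yg37 zg39) (kg xg7 yg29 zg30) (kg xg7 yg26 zg40) (kg xg7 yg29 zg28) (kg xg12 yg49 zg61)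 (kg xg21 yg25 zg60) (kg xg23 yg37 zg47) (kg xg12 yg13 zg51) (kg xg21 yg3 zg3) (kg xg21 yg3 zg5) (kg xg11 yg47 zg50) (kg xg11 yg20 zg37) (kg xg7 yg26 zg53) (kg xg21 yg31 zg46) (kg xg18 yg3 zg34) (kg xg22 yg11 zg32) (kg xg12 yg24 zg58) (kg xg17 yg39 zg58) (kg xg7 yg26 zg57) (kg xg22 yg11 zg1) (kg xg23 yg37 zg58) (kg xg17 yg44 zg2) (kg xg12 yg32 zg15) (kg xg7 yg26 zg61) (kg xg11 yg44 zg43) (kg xg20 yg23 zg1) (kg xg11 yg46 zg43) (kg xg11 yg46 zg44) (kg xg23 yg38 zg3) (kg xg9 yg38 zg18) (kg xg12 yg31 zg2) (kg xg12 yg12 zg49) (kg xg12 yg31 zg11) (kg xg17 yg9 zg50) (kg xg12 yg4 zg21) (kg xg21 yg6 zg49) (kg xg12 yg31 zg61) (kg xg17 yg10 zg57) (kg xg20 yg22 zg50) (kg xg7 yg27 zg21) (kg xg20 yg22 zg58) (kg xg12 yg30 zg56) (kg xg22 yg7 zg54) (kg xg17 yg55 zg37) (kg xg13 yg1 zg49))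 (@D3.rec (fun _ => Pt) (kg xg7 yg27 zg32) (kg xg13 yg55 zg56) (kg xg7 yg27 zg55) (kg xg14 yg0 zg24) (kg xg14 yg0 zg25) (kg xg7 yg27 zg38) (kg xg23 yg38 zg18) (kg xg12 yg13 zg46) (kg xg18 yg23 zg5) (kg xg14 yg4 zg0) (kg xg13 yg26 zg18) (kg xg23 yg38 zg22) (kg xg7 yg27 zg48) (kg xg16 yg31 zg57) (kg xg7 yg27 zg46) (kg xg23 yg29 zg59) (kg xg12 yg22 zg36) (kg xg23 yg38 zg27) (kg xg22 yg45 zg15) (kg xg14 yg3 zg56) (kg xg14 yg53 zg20) (kg xg13 yg36 zg31) (kg xg23 yg38 zg23) (kg xg7 yg27 zg49) (kg xg23 yg38 zg39) (kg xg23 yg22 zg55) (kg xg23 yg38 zg45) (kg xg23 yg38 zg48) (kg xg7 yg28 zg12) (kg xg23 yg38 zg49) (kg xg17 yg12 zg24) (kg xg13 yg56 zg38) (kg xg7 yg27 zg53) (kg xg23 yg38 zg60) (kg xg13 yg56 zg36) (kg xg13 yg56 zg46) (kg xg13 yg56 zg45) (kg xg23 yg39 zg6) (kg xg16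 yg4 zg55) (kg xg22 yg43 zg17) (kg xg23 yg39 zg11) (kg xg14 yg55 zg20) (kg xg13 yg9 zg44) (kg xg22 yg43 zg20) (kg xg23 yg39 zg19) (kg xg7 yg51 zg30) (kg xg23 yg39 zg4) (kg xg23 yg39 zg25) (kg xg7 yg28 zg14) (kg xg23 yg39 zg30) (kg xg13 yg56 zg58) (kg xg7 yg28 zg1) (kg xg23 yg39 zg36) (kg xg13 yg50 zg2) (kg xg7 yg43 zg51) (kg xg23 yg39 zg43) (kg xg22 yg44 zg17) (kg xg14 yg34 zg33) (kg xg23 yg39 zg49) (kg xg14 yg17 zg38) (kg xg7 yg42 zg58) (kg xg13 yg3 zg60)) (@D3.rec (fun _ => Pt) (kg xg7 yg53 zg27) (kg xg22 yg44 zg40) (kg xg22 yg27 zg60) (kg xg13 yg56 zg29) (kg xg13 yg56 zg51) (kg xg23 yg38 zg51) (kg xg23 yg39 zg61) (kg xg23 yg38 zg52) (kg xg23 yg39 zg14) (kg xg22 yg44 zg4) (kg xg23 yg40 zg4) (kg xg13 yg56 zg23) (kg xg22 yg45 zg3) (kg xg21 yg57 zg52) (kg xg15 yg43 zg48)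 (kg xg22 yg45 zg7) (kg xg17 yg55 zg4) (kg xg13 yg55 zg54) (kg xg7 yg28 zg17) (kg xg18 yg1 zg8) (kg xg13 yg55 zg52) (kg xg13 yg25 zg41) (kg xg21 yg19 zg24) (kg xg7 yg28 zg21) (kg xg13 yg6 zg20) (kg xg23 yg40 zg22) (kg xg17 yg4 zg9) (kg xg13 yg25 zg38) (kg xg23 yg31 zg16) (kg xg13 yg56 zg28) (kg xg23 yg40 zg28) (kg xg23 yg38 zg11) (kg xg23 yg40 zg32) (kg xg22 yg15 zg32) (kg xg13 yg58 zg46) (kg xg13 yg59 zg53) (kg xg14 yg18 zg54) (kg xg13 yg19 zg18) (kg xg17 yg58 zg41) (kg xg7 yg29 zg19) (kg xg7 yg29 zg44) (kg xg13 yg57 zg13) (kg xg19 yg16 zg49) (kg xg7 yg28 zg42) (kg xg7 yg28 zg34) (kg xg23 yg40 zg48) (kg xg7 yg28 zg40) (kg xg7 yg50 zg4) (kg xg7 yg28 zg37) (kg xg12 yg24 zg6) (kg xg8 yg36 zg22) (kg xg23 yg40 zg44) (kg xg7 yg28 zg38) (kg xg23 yg40 zg59) (kg xg21 yg29 zg39)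 (kg xg22 yg40 zg4) (kg xg23 yg41 zg3) (kg xg22 yg45 zg18) (kg xg13 yg19 zg0) (kg xg21 yg41 zg13) (kg xg14 yg53 zg24) (kg xg13 yg36 zg35)) (@D3.rec (fun _ => Pt) (kg xg23 yg40 zg51) (kg xg7 yg28 zg41) (kg xg23 yg27 zg8) (kg xg23 yg40 zg49) (kg xg20 yg24 zg59) (kg xg14 yg8 zg35) (kg xg23 yg41 zg24) (kg xg13 yg59 zg10) (kg xg13 yg58 zg7) (kg xg7 yg28 zg45) (kg xg23 yg27 zg56) (kg xg13 yg58 zg5) (kg xg22 yg44 zg15) (kg xg23 yg41 zg37) (kg xg23 yg41 zg40) (kg xg23 yg41 zg42) (kg xg14 yg53 zg6) (kg xg13 yg58 zg11) (kg xg23 yg41 zg49) (kg xg13 yg54 zg36) (kg xg22 yg28 zg12) (kg xg13 yg54 zg60) (kg xg22 yg44 zg31) (kg xg22 yg44 zg13) (kg xg22 yg44 zg50) (kg xg13 yg59 zg40) (kg xg13 yg24 zg59) (kg xg13 yg46 zg13) (kg xg22 yg44 zg29) (kg xg7 yg28 zg57) (kg xg23 yg41 zg57) (kg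 xg14 yg49 zg11) (kg xg13 yg54 zg28) (kg xg22 yg45 zg1) (kg xg13 yg57 zg36) (kg xg23 yg26 zg41) (kg xg13 yg57 zg34) (kg xg13 yg54 zg29) (kg xg23 yg42 zg4) (kg xg13 yg58 zg17) (kg xg23 yg42 zg6) (kg xg7 yg29 zg3) (kg xg11 yg11 zg1) (kg xg10 yg38 zg41) (kg xg7 yg29 zg4) (kg xg23 yg42 zg17) (kg xg23 yg42 zg7) (kg xg14 yg50 zg37) (kg xg7 yg29 zg26) (kg xg13 yg58 zg58) (kg xg13 yg58 zg34) (kg xg7 yg29 zg7) (kg xg15 yg41 zg36) (kg xg13 yg58 zg32) (kg xg17 yg55 zg39) (kg xg10 yg38 zg39) (kg xg7 yg29 zg10) (kg xg10 yg38 zg37) (kg xg8 yg32 zg51) (kg xg17 yg19 zg35) (kg xg21 yg13 zg6) (kg xg13 yg16 zg35)) (@D3.rec (fun _ => Pt) (kg xg20 yg5 zg54) (kg xg11 yg27 zg36) (kg xg19 yg43 zg43) (kg xg23 yg42 zg28) (kg xg11 yg12 zg47) (kg xg23 yg34 zg33) (kg xg16 yg46 zg5) (kg xg23 yg42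 zg32) (kg xg7 yg29 zg17) (kg xg8 yg45 zg27) (kg xg12 yg31 zg57) (kg xg22 yg5 zg56) (kg xg23 yg37 zg34) (kg xg23 yg42 zg40) (kg xg20 yg54 zg41) (kg xg7 yg29 zg24) (kg xg23 yg42 zg44) (kg xg11 yg15 zg12) (kg xg7 yg29 zg25) (kg xg7 yg29 zg21) (kg xg23 yg42 zg49) (kg xg23 yg42 zg51) (kg xg7 yg29 zg22) (kg xg7 yg51 zg22) (kg xg17 yg55 zg59) (kg xg7 yg29 zg23) (kg xg13 yg57 zg43) (kg xg18 yg41 zg3) (kg xg23 yg42 zg58) (kg xg9 yg14 zg48) (kg xg19 yg49 zg0) (kg xg21 yg37 zg18) (kg xg18 yg26 zg48) (kg xg13 yg13 zg55) (kg xg23 yg37 zg40) (kg xg14 yg7 zg6) (kg xg13 yg58 zg27) (kg xg23 yg42 zg38) (kg xg15 yg50 zg30) (kg xg23 yg43 zg11) (kg xg21 yg30 zg0) (kg xg8 yg5 zg35) (kg xg13 yg57 zg32) (kg xg23 yg43 zg18) (kg xg21 yg25 zg35) (kg xg7 yg29 zg29) (kg xg10 yg9 zg20) (kg xg10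 yg9 zg4) (kg xg21 yg25 zg33) (kg xg22 yg31 zg61) (kg xg21 yg1 zg16) (kg xg22 yg45 zg57) (kg xg13 yg57 zg24) (kg xg22 yg45 zg58) (kg xg7 yg29 zg33) (kg xg23 yg33 zg18) (kg xg11 yg3 zg53) (kg xg22 yg45 zg10) (kg xg7 yg29 zg34) (kg xg11 yg4 zg1) (kg xg23 yg43 zg53) (kg xg23 yg43 zg57)) (@D3.rec (fun _ => Pt) (kg xg22 yg46 zg3) (kg xg7 yg29 zg36) (kg xg19 yg10 zg61) (kg xg22 yg46 zg2) (kg xg11 yg50 zg46) (kg xg7 yg29 zg47) (kg xg22 yg30 zg14) (kg xg22 yg45 zg19) (kg xg7 yg29 zg40) (kg xg23 yg44 zg8) (kg xg22 yg45 zg20) (kg xg7 yg29 zg41) (kg xg13 yg51 zg16) (kg xg23 yg44 zg15) (kg xg22 yg46 zg0) (kg xg7 yg29 zg43) (kg xg22 yg45 zg61) (kg xg22 yg28 zg6) (kg xg23 yg33 zg6) (kg xg23 yg44 zg24) (kg xg7 yg29 zg48) (kg xg22 yg28 zg16) (kg xg7 yg29 zg46) (kg xg22 yg28 zg15) (kg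 xg13 yg57 zg44) (kg xg14 yg45 zg11) (kg xg23 yg44 zg30) (kg xg22 yg28 zg10) (kg xg7 yg29 zg49) (kg xg22 yg28 zg9) (kg xg23 yg44 zg34) (kg xg21 yg25 zg46) (kg xg23 yg17 zg8) (kg xg23 yg44 zg32) (kg xg23 yg2 zg3) (kg xg7 yg29 zg52) (kg xg23 yg2 zg2) (kg xg13 yg6 zg22) (kg xg7 yg29 zg53) (kg xg13 yg6 zg27) (kg xg23 yg35 zg35) (kg xg12 yg18 zg60) (kg xg23 yg44 zg45) (kg xg22 yg12 zg12) (kg xg22 yg45 zg43) (kg xg13 yg55 zg28) (kg xg22 yg45 zg42) (kg xg7 yg29 zg57) (kg xg23 yg44 zg52) (kg xg19 yg56 zg46) (kg xg7 yg29 zg58) (kg xg23 yg44 zg41) (kg xg23 yg44 zg57) (kg xg13 yg55 zg9) (kg xg12 yg19 zg5) (kg xg23 yg45 zg0) (kg xg23 yg44 zg20) (kg xg23 yg44 zg0) (kg xg22 yg12 zg26) (kg xg7 yg30 zg0) (kg xg19 yg47 zg48) (kg xg13 yg36 zg33)) (@D3.rec (fun _ => Pt) (kg xg13 yg26 zg5)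 (kg xg14 yg0 zg40) (kg xg14 yg1 zg6) (kg xg22 yg12 zg20) (kg xg7 yg30 zg5) (kg xg23 yg16 zg25) (kg xg23 yg45 zg17) (kg xg22 yg37 zg51) (kg xg14 yg55 zg22) (kg xg23 yg45 zg22) (kg xg23 yg44 zg19) (kg xg7 yg30 zg8) (kg xg21 yg8 zg41) (kg xg22 yg57 zg7) (kg xg22 yg19 zg59) (kg xg13 yg10 zg15) (kg xg13 yg10 zg21) (kg xg14 yg23 zg9) (kg xg7 yg41 zg34) (kg xg7 yg41 zg44) (kg xg22 yg58 zg41) (kg xg14 yg38 zg61) (kg xg13 yg11 zg28) (kg xg13 yg9 zg32) (kg xg12 yg51 zg16) (kg xg22 yg46 zg46) (kg xg13 yg7 zg24) (kg xg7 yg30 zg20) (kg xg23 yg45 zg48) (kg xg13 yg7 zg22) (kg xg7 yg41 zg57) (kg xg7 yg41 zg59) (kg xg23 yg45 zg54) (kg xg22 yg24 zg20) (kg xg23 yg45 zg52) (kg xg14 yg22 zg58) (kg xg20 yg49 zg23) (kg xg7 yg46 zg42) (kg xg22 yg14 zg32) (kg xg7 yg46 zg60) (kg xg19 yg8 zg34)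 (kg xg7 yg39 zg26) (kg xg23 yg46 zg8) (kg xg23 yg46 zg11) (kg xg13 yg14 zg0) (kg xg22 yg42 zg2) (kg xg23 yg6 zg13) (kg xg22 yg46 zg58) (kg xg13 yg15 zg37) (kg xg13 yg46 zg32) (kg xg23 yg46 zg20) (kg xg16 yg29 zg21) (kg xg7 yg30 zg34) (kg xg7 yg49 zg19) (kg xg11 yg58 zg25) (kg xg7 yg30 zg40) (kg xg12 yg32 zg9) (kg xg22 yg29 zg46) (kg xg23 yg46 zg30) (kg xg22 yg35 zg51) (kg xg13 yg40 zg15) (kg xg15 yg40 zg7)) (@D3.rec (fun _ => Pt) (kg xg15 yg55 zg41) (kg xg13 yg35 zg42) (kg xg14 yg52 zg12) (kg xg10 yg25 zg36) (kg xg7 yg30 zg49) (kg xg21 yg0 zg20) (kg xg17 yg11 zg14) (kg xg17 yg11 zg24) (kg xg11 yg45 zg4) (kg xg13 yg10 zg54) (kg xg7 yg30 zg52) (kg xg22 yg16 zg44) (kg xg13 yg10 zg52) (kg xg21 yg39 zg47) (kg xg12 yg15 zg21) (kg xg12 yg15 zg28) (kg xg20 yg45 zg1) (kg xg7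 yg30 zg59) (kg xg23 yg46 zg51) (kg xg23 yg46 zg53) (kg xg19 yg21 zg20) (kg xg13 yg52 zg56) (kg xg22 yg30 zg16) (kg xg7 yg31 zg1) (kg xg22 yg30 zg15) (kg xg23 yg46 zg59) (kg xg12 yg42 zg56) (kg xg12 yg39 zg47) (kg xg12 yg34 zg59) (kg xg12 yg47 zg0) (kg xg12 yg14 zg57) (kg xg9 yg49 zg7) (kg xg11 yg48 zg58) (kg xg12 yg47 zg1) (kg xg7 yg31 zg7) (kg xg20 yg17 zg13) (kg xg23 yg47 zg2) (kg xg12 yg35 zg25) (kg xg8 yg23 zg38) (kg xg13 yg20 zg59) (kg xg17 yg11 zg4) (kg xg7 yg31 zg14) (kg xg23 yg47 zg10) (kg xg14 yg41 zg25) (kg xg23 yg47 zg13) (kg xg7 yg39 zg38) (kg xg12 yg32 zg44) (kg xg9 yg15 zg52) (kg xg21 yg4 zg53) (kg xg11 yg36 zg6) (kg xg20 yg22 zg9) (kg xg23 yg47 zg17) (kg xg7 yg31 zg28) (kg xg18 yg57 zg51) (kg xg9 yg7 zg26) (kg xg12 yg35 zg40) (kg xg21 yg22 zg16) (kg xg18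 yg43 zg45) (kg xg13 yg8 zg16) (kg xg12 yg31 zg28) (kg xg12 yg31 zg17) (kg xg7 yg31 zg45)) (@D3.rec (fun _ => Pt) (kg xg7 yg31 zg41) (kg xg11 yg41 zg20) (kg xg9 yg32 zg38) (kg xg18 yg38 zg24) (kg xg23 yg38 zg7) (kg xg14 yg15 zg58) (kg xg12 yg58 zg21) (kg xg21 yg8 zg2) (kg xg21 yg46 zg10) (kg xg21 yg42 zg18) (kg xg12 yg12 zg5) (kg xg17 yg9 zg55) (kg xg14 yg12 zg15) (kg xg7 yg31 zg48) (kg xg22 yg8 zg9) (kg xg14 yg12 zg13) (kg xg12 yg35 zg50) (kg xg22 yg2 zg27) (kg xg12 yg35 zg42) (kg xg12 yg35 zg41) (kg xg23 yg47 zg37) (kg xg12 yg46 zg27) (kg xg9 yg48 zg54) (kg xg21 yg44 zg18) (kg xg22 yg33 zg50) (kg xg9 yg49 zg43) (kg xg7 yg32 zg57) (kg xg7 yg33 zg21) (kg xg22 yg40 zg20) (kg xg11 yg30 zg30) (kg xg14 yg23 zg50) (kg xg11 yg40 zg39) (kg xg14 yg18 zg10) (kg xg12 yg7 zg27)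 (kg xg21 yg39 zg56) (kg xg21 yg14 zg16) (kg xg22 yg40 zg32) (kg xg22 yg34 zg48) (kg xg14 yg42 zg43) (kg xg13 yg44 zg7) (kg xg22 yg40 zg18) (kg xg7 yg32 zg5) (kg xg23 yg47 zg54) (kg xg14 yg18 zg14) (kg xg18 yg48 zg1) (kg xg23 yg47 zg56) (kg xg7 yg34 zg41) (kg xg7 yg32 zg18) (kg xg23 yg47 zg59) (kg xg7 yg32 zg16) (kg xg13 yg6 zg35) (kg xg7 yg32 zg13) (kg xg17 yg0 zg22) (kg xg23 yg48 zg0) (kg xg7 yg32 zg14) (kg xg20 yg43 zg6) (kg xg20 yg41 zg21) (kg xg22 yg27 zg49) (kg xg22 yg27 zg50) (kg xg14 yg27 zg40) (kg xg23 yg47 zg61) (kg xg7 yg32 zg17)) (@D3.rec (fun _ => Pt) (kg xg23 yg48 zg16) (kg xg13 yg13 zg28) (kg xg14 yg16 zg58) (kg xg14 yg17 zg54) (kg xg23 yg48 zg22) (kg xg14 yg26 zg52) (kg xg14 yg23 zg42) (kg xg7 yg32 zg21) (kg xg23 yg48 zg29) (kg xg14 yg23 zg40) (kg xg7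 yg34 zg0) (kg xg23 yg48 zg35) (kg xg23 yg48 zg38) (kg xg13 yg22 zg30) (kg xg23 yg48 zg43) (kg xg22 yg15 zg26) (kg xg22 yg12 zg28) (kg xg22 yg38 zg30) (kg xg7 yg32 zg28) (kg xg23 yg48 zg51) (kg xg22 yg12 zg29) (kg xg22 yg41 zg32) (kg xg7 yg32 zg30) (kg xg23 yg48 zg58) (kg xg14 yg44 zg0) (kg xg14 yg15 zg23) (kg xg15 yg30 zg61) (kg xg14 yg51 zg61) (kg xg7 yg32 zg40) (kg xg10 yg47 zg18) (kg xg7 yg32 zg39) (kg xg13 yg16 zg29) (kg xg19 yg21 zg27) (kg xg23 yg49 zg2) (kg xg23 yg49 zg4) (kg xg12 yg51 zg43) (kg xg18 yg55 zg21) (kg xg23 yg48 zg45) (kg xg7 yg32 zg44) (kg xg20 yg45 zg12) (kg xg21 yg40 zg36) (kg xg7 yg32 zg47) (kg xg23 yg49 zg12) (kg xg21 yg59 zg57) (kg xg21 yg52 zg50) (kg xg14 yg38 zg2) (kg xg22 yg1 zg18) (kg xg14 yg20 zg1) (kg xg16 yg57 zg42) (kg xg13 yg0 zg60)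 (kg xg7 yg32 zg51) (kg xg20 yg22 zg34) (kg xg7 yg32 zg52) (kg xg23 yg49 zg24) (kg xg17 yg10 zg8) (kg xg14 yg27 zg2) (kg xg7 yg34 zg6) (kg xg23 yg49 zg28) (kg xg17 yg20 zg44) (kg xg22 yg33 zg33) (kg xg7 yg32 zg55) (kg xg14 yg21 zg2)) (@D3.rec (fun _ => Pt) (kg xg17 yg28 zg48) (kg xg21 yg40 zg30) (kg xg20 yg45 zg21) (kg xg23 yg49 zg39) (kg xg17 yg21 zg8) (kg xg12 yg41 zg9) (kg xg23 yg49 zg45) (kg xg14 yg20 zg58) (kg xg7 yg33 zg1) (kg xg7 yg32 zg59) (kg xg23 yg49 zg52) (kg xg23 yg49 zg56) (kg xg7 yg34 zg59) (kg xg17 yg21 zg21) (kg xg7 yg32 zg61) (kg xg13 yg6 zg40) (kg xg23 yg49 zg21) (kg xg20 yg45 zg37) (kg xg12 yg14 zg60) (kg xg21 yg35 zg42) (kg xg12 yg14 zg18) (kg xg23 yg49 zg53) (kg xg11 yg54 zg55) (kg xg23 yg49 zg37) (kg xg14 yg35 zg20) (kg xg14 yg26 zg51) (kg xg16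 yg18 zg19) (kg xg13 yg6 zg45) (kg xg13 yg19 zg57) (kg xg10 yg21 zg35) (kg xg18 yg5 zg61) (kg xg7 yg33 zg5) (kg xg23 yg50 zg23) (kg xg21 yg14 zg45) (kg xg22 yg35 zg6) (kg xg22 yg34 zg50) (kg xg22 yg33 zg15) (kg xg22 yg34 zg47) (kg xg7 yg33 zg9) (kg xg23 yg50 zg32) (kg xg23 yg50 zg36) (kg xg22 yg56 zg14) (kg xg7 yg33 zg10) (kg xg23 yg50 zg42) (kg xg21 yg4 zg51) (kg xg22 yg34 zg45) (kg xg7 yg33 zg13) (kg xg22 yg34 zg44) (kg xg7 yg33 zg25) (kg xg14 yg3 zg46) (kg xg16 yg4 zg56) (kg xg18 yg13 zg16) (kg xg23 yg50 zg57) (kg xg22 yg27 zg21) (kg xg7 yg33 zg17) (kg xg23 yg50 zg61) (kg xg23 yg51 zg3) (kg xg22 yg34 zg59) (kg xg7 yg33 zg19) (kg xg23 yg51 zg10) (kg xg22 yg34 zg58) (kg xg7 yg46 zg51)) (@D3.rec (fun _ => Pt) (kg xg22 yg34 zg46) (kg xg17 yg47 zg33) (kg xg23 yg36 zg49)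 (kg xg23 yg51 zg18) (kg xg23 yg51 zg21) (kg xg23 yg51 zg25) (kg xg22 yg35 zg5) (kg xg7 yg33 zg24) (kg xg23 yg48 zg26) (kg xg22 yg35 zg3) (kg xg23 yg51 zg36) (kg xg23 yg51 zg41) (kg xg23 yg51 zg44) (kg xg23 yg51 zg47) (kg xg16 yg18 zg17) (kg xg19 yg41 zg1) (kg xg16 yg18 zg12) (kg xg23 yg51 zg53) (kg xg23 yg51 zg30) (kg xg23 yg51 zg55) (kg xg8 yg42 zg18) (kg xg9 yg53 zg26) (kg xg21 yg41 zg21) (kg xg14 yg13 zg31) (kg xg13 yg4 zg22) (kg xg13 yg7 zg10) (kg xg7 yg33 zg35) (kg xg19 yg21 zg25) (kg xg23 yg52 zg3) (kg xg14 yg49 zg30) (kg xg7 yg33 zg36) (kg xg23 yg52 zg7) (kg xg23 yg50 zg48) (kg xg14 yg1 zg20) (kg xg7 yg33 zg38) (kg xg14 yg1 zg18) (kg xg21 yg41 zg20) (kg xg14 yg15 zg24) (kg xg23 yg52 zg19) (kg xg13 yg47 zg6) (kg xg13 yg47 zg49) (kg xg22 yg30 zg20) (kg xg20 yg28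 zg57) (kg xg13 yg40 zg17) (kg xg13 yg16 zg17) (kg xg22 yg32 zg50) (kg xg20 yg33 zg12) (kg xg7 yg33 zg50) (kg xg21 yg2 zg37) (kg xg8 yg38 zg58) (kg xg13 yg50 zg51) (kg xg23 yg52 zg35) (kg xg18 yg15 zg31) (kg xg18 yg38 zg30) (kg xg20 yg9 zg52) (kg xg7 yg33 zg56) (kg xg9 yg5 zg45) (kg xg7 yg35 zg40) (kg xg14 yg12 zg1) (kg xg13 yg3 zg49) (kg xg7 yg33 zg58) (kg xg23 yg52 zg42)) (@D3.rec (fun _ => Pt) (kg xg13 yg5 zg16) (kg xg20 yg41 zg48) (kg xg17 yg17 zg32) (kg xg22 yg26 zg54) (kg xg22 yg26 zg43) (kg xg23 yg52 zg51) (kg xg22 yg34 zg11) (kg xg22 yg57 zg48) (kg xg12 yg42 zg31) (kg xg23 yg52 zg59) (kg xg17 yg28 zg45) (kg xg17 yg21 zg26) (kg xg12 yg57 zg28) (kg xg14 yg16 zg23) (kg xg17 yg20 zg50) (kg xg12 yg45 zg60) (kg xg18 yg42 zg47) (kg xg17 yg34 zg12) (kg xg21 yg16 zg1)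 (kg xg22 yg6 zg57) (kg xg20 yg46 zg6) (kg xg17 yg34 zg6) (kg xg7 yg34 zg11) (kg xg22 yg7 zg22) (kg xg22 yg0 zg33) (kg xg23 yg33 zg32) (kg xg23 yg27 zg22) (kg xg23 yg53 zg24) (kg xg16 yg46 zg38) (kg xg23 yg53 zg25) (kg xg23 yg12 zg29) (kg xg23 yg33 zg30) (kg xg23 yg53 zg36) (kg xg23 yg53 zg41) (kg xg23 yg53 zg37) (kg xg19 yg30 zg39) (kg xg22 yg57 zg43) (kg xg7 yg34 zg20) (kg xg18 yg45 zg0) (kg xg20 yg23 zg37) (kg xg17 yg34 zg7) (kg xg23 yg53 zg54) (kg xg22 yg37 zg12) (kg xg7 yg34 zg23) (kg xg18 yg4 zg22) (kg xg23 yg53 zg58) (kg xg7 yg35 zg12) (kg xg12 yg14 zg40) (kg xg7 yg34 zg25) (kg xg22 yg33 zg7) (kg xg12 yg47 zg17) (kg xg10 yg27 zg34) (kg xg17 yg35 zg9) (kg xg21 yg55 zg5) (kg xg18 yg5 zg6) (kg xg14 yg36 zg42) (kg xg18 yg55 zg44) (kg xg22 yg7 zg16) (kg xg14 yg13 zg4)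 (kg xg21 yg53 zg10) (kg xg23 yg53 zg52) (kg xg14 yg23 zg60)) (@D3.rec (fun _ => Pt) (kg xg23 yg54 zg16) (kg xg23 yg47 zg39) (kg xg23 yg54 zg21) (kg xg22 yg27 zg18) (kg xg22 yg33 zg23) (kg xg7 yg34 zg33) (kg xg23 yg54 zg29) (kg xg23 yg54 zg33) (kg xg7 yg34 zg34) (kg xg22 yg31 zg6) (kg xg7 yg34 zg35) (kg xg18 yg55 zg45) (kg xg13 yg50 zg12) (kg xg7 yg34 zg43) (kg xg22 yg31 zg2) (kg xg22 yg40 zg61) (kg xg22 yg31 zg0) (kg xg7 yg34 zg38) (kg xg23 yg54 zg48) (kg xg23 yg54 zg51) (kg xg22 yg41 zg0) (kg xg7 yg34 zg39) (kg xg22 yg33 zg48) (kg xg22 yg33 zg43) (kg xg23 yg54 zg57) (kg xg22 yg33 zg53) (kg xg7 yg34 zg42) (kg xg13 yg36 zg14) (kg xg22 yg30 zg61) (kg xg23 yg55 zg2) (kg xg23 yg55 zg5) (kg xg22 yg33 zg59) (kg xg7 yg34 zg44) (kg xg23 yg55 zg11) (kg xg22 yg33 zg58) (kg xg22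 yg36 zg34) (kg xg13 yg17 zg36) (kg xg14 yg5 zg59) (kg xg7 yg34 zg46) (kg xg10 yg40 zg2) (kg xg23 yg24 zg9) (kg xg14 yg10 zg35) (kg xg22 yg0 zg46) (kg xg23 yg55 zg21) (kg xg12 yg34 zg4) (kg xg7 yg34 zg53) (kg xg16 yg44 zg38) (kg xg12 yg34 zg3) (kg xg13 yg9 zg16) (kg xg11 yg58 zg24) (kg xg21 yg21 zg3) (kg xg9 yg22 zg4) (kg xg14 yg12 zg30) (kg xg23 yg55 zg30) (kg xg21 yg53 zg0) (kg xg7 yg38 zg37) (kg xg19 yg35 zg24) (kg xg7 yg38 zg35) (kg xg22 yg42 zg38) (kg xg13 yg21 zg52) (kg xg13 yg9 zg8) (kg xg23 yg55 zg48)) (@D3.rec (fun _ => Pt) (kg xg22 yg50 zg43) (kg xg23 yg55 zg54) (kg xg23 yg12 zg51) (kg xg13 yg43 zg10) (kg xg23 yg55 zg60) (kg xg13 yg46 zg33) (kg xg22 yg56 zg16) (kg xg14 yg10 zg14) (kg xg22 yg41 zg3) (kg xg15 yg59 zg27) (kg xg23 yg56 zg7) (kg xg23 yg56 zg11)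 (kg xg14 yg13 zg5) (kg xg21 yg20 zg31) (kg xg21 yg16 zg54) (kg xg7 yg40 zg2) (kg xg23 yg56 zg17) (kg xg7 yg40 zg0) (kg xg7 yg40 zg8) (kg xg7 yg40 zg7) (kg xg23 yg50 zg39) (kg xg13 yg32 zg12) (kg xg14 yg52 zg3) (kg xg13 yg31 zg53) (kg xg23 yg56 zg23) (kg xg23 yg56 zg20) (kg xg23 yg56 zg26) (kg xg7 yg53 zg18) (kg xg18 yg48 zg10) (kg xg7 yg40 zg23) (kg xg11 yg43 zg11) (kg xg13 yg7 zg14) (kg xg23 yg45 zg60) (kg xg7 yg36 zg58) (kg xg7 yg35 zg28) (kg xg7 yg35 zg24) (kg xg19 yg16 zg13) (kg xg7 yg35 zg26) (kg xg21 yg15 zg55) (kg xg22 yg38 zg29) (kg xg13 yg44 zg22) (kg xg23 yg11 zg13) (kg xg7 yg35 zg27) (kg xg23 yg56 zg38) (kg xg14 yg21 zg0) (kg xg13 yg16 zg50) (kg xg7 yg35 zg56) (kg xg14 yg37 zg12) (kg xg21 yg52 zg40) (kg xg7 yg41 zg43) (kg xg7 yg35 zg31) (kg xg14 yg24 zg14)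 (kg xg7 yg41 zg41) (kg xg19 yg31 zg6) (kg xg12 yg23 zg4) (kg xg12 yg48 zg0) (kg xg7 yg46 zg7) (kg xg14 yg46 zg11) (kg xg23 yg24 zg5) (kg xg7 yg46 zg53) (kg xg22 yg57 zg11) (kg xg18 yg57 zg35)) (@D3.rec (fun _ => Pt) (kg xg9 yg27 zg5) (kg xg17 yg17 zg7) (kg xg22 yg55 zg14) (kg xg22 yg57 zg15) (kg xg14 yg46 zg5) (kg xg14 yg49 zg31) (kg xg14 yg52 zg18) (kg xg7 yg45 zg43) (kg xg22 yg57 zg9) (kg xg7 yg35 zg44) (kg xg22 yg20 zg48) (kg xg13 yg1 zg45) (kg xg14 yg38 zg0) (kg xg13 yg21 zg1) (kg xg20 yg46 zg33) (kg xg7 yg42 zg31) (kg xg7 yg35 zg47) (kg xg7 yg42 zg29) (kg xg16 yg30 zg12) (kg xg23 yg0 zg37) (kg xg7 yg36 zg24) (kg xg13 yg10 zg34) (kg xg19 yg53 zg18) (kg xg14 yg47 zg0) (kg xg7 yg35 zg54) (kg xg19 yg31 zg14) (kg xg7 yg41 zg20) (kg xg14 yg23 zg19) (kg xg23 yg57 zg23)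 (kg xg14 yg23 zg20) (kg xg11 yg45 zg43) (kg xg13 yg10 zg38) (kg xg21 yg15 zg54) (kg xg10 yg36 zg48) (kg xg13 yg10 zg43) (kg xg13 yg30 zg27) (kg xg21 yg40 zg5) (kg xg13 yg31 zg33) (kg xg7 yg35 zg61) (kg xg23 yg57 zg40) (kg xg13 yg10 zg6) (kg xg22 yg20 zg5) (kg xg23 yg57 zg44) (kg xg14 yg18 zg7) (kg xg7 yg36 zg1) (kg xg23 yg57 zg15) (kg xg7 yg42 zg25) (kg xg7 yg36 zg2) (kg xg23 yg57 zg49) (kg xg7 yg42 zg33) (kg xg14 yg50 zg0) (kg xg7 yg36 zg23) (kg xg7 yg36 zg5) (kg xg23 yg57 zg55) (kg xg7 yg36 zg21) (kg xg23 yg6 zg16) (kg xg14 yg22 zg6) (kg xg7 yg40 zg26) (kg xg7 yg40 zg53) (kg xg7 yg36 zg34) (kg xg7 yg36 zg8) (kg xg21 yg11 zg20)) (@D3.rec (fun _ => Pt) (kg xg7 yg36 zg32) (kg xg11 yg30 zg26) (kg xg21 yg30 zg57) (kg xg18 yg23 zg25) (kg xg12 yg30 zg32) (kg xg15 yg26 zg39)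 (kg xg19 yg50 zg46) (kg xg9 yg25 zg56) (kg xg23 yg53 zg2) (kg xg11 yg35 zg33) (kg xg18 yg23 zg19) (kg xg13 yg7 zg13) (kg xg7 yg36 zg18) (kg xg19 yg27 zg22) (kg xg17 yg0 zg55) (kg xg21 yg3 zg60) (kg xg12 yg48 zg61) (kg xg20 yg31 zg5) (kg xg20 yg45 zg58) (kg xg9 yg6 zg8) (kg xg11 yg45 zg38) (kg xg21 yg3 zg41) (kg xg7 yg36 zg22) (kg xg11 yg51 zg52) (kg xg23 yg57 zg56) (kg xg14 yg54 zg10) (kg xg23 yg36 zg11) (kg xg23 yg58 zg17) (kg xg23 yg56 zg60) (kg xg7 yg36 zg29) (kg xg22 yg20 zg7) (kg xg13 yg16 zg33) (kg xg13 yg53 zg31) (kg xg7 yg36 zg28) (kg xg7 yg41 zg51) (kg xg23 yg58 zg24) (kg xg22 yg46 zg61) (kg xg23 yg58 zg14) (kg xg9 yg8 zg17) (kg xg13 yg2 zg12) (kg xg23 yg57 zg34) (kg xg9 yg8 zg43) (kg xg23 yg58 zg33) (kg xg9 yg48 zg17) (kg xg7 yg36 zg33) (kg xg23 yg58 zg37)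 (kg xg17 yg32 zg18) (kg xg14 yg16 zg55) (kg xg7 yg36 zg41) (kg xg23 yg58 zg41) (kg xg23 yg58 zg43) (kg xg7 yg36 zg38) (kg xg7 yg44 zg52) (kg xg7 yg36 zg39) (kg xg7 yg40 zg56) (kg xg19 yg4 zg38) (kg xg20 yg51 zg24) (kg xg19 yg15 zg1) (kg xg21 yg20 zg44) (kg xg19 yg18 zg22) (kg xg23 yg58 zg55) (kg xg7 yg45 zg3)) (@D3.rec (fun _ => Pt) (kg xg14 yg18 zg47) (kg xg7 yg44 zg3) (kg xg23 yg58 zg59) (kg xg13 yg20 zg44) (kg xg23 yg58 zg61) (kg xg12 yg42 zg24) (kg xg14 yg13 zg61) (kg xg23 yg59 zg4) (kg xg7 yg45 zg16) (kg xg7 yg36 zg45) (kg xg23 yg59 zg11) (kg xg23 yg59 zg6) (kg xg7 yg45 zg13) (kg xg7 yg46 zg40) (kg xg7 yg46 zg18) (kg xg7 yg42 zg18) (kg xg22 yg26 zg9) (kg xg7 yg37 zg14) (kg xg7 yg45 zg0) (kg xg14 yg42 zg24) (kg xg7 yg45 zg58) (kg xg7 yg36 zg52) (kg xg12 yg47 zg59)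 (kg xg7 yg36 zg61) (kg xg23 yg34 zg6) (kg xg7 yg36 zg55) (kg xg22 yg27 zg59) (kg xg7 yg36 zg56) (kg xg23 yg35 zg24) (kg xg7 yg46 zg17) (kg xg7 yg36 zg60) (kg xg10 yg36 zg28) (kg xg18 yg18 zg31) (kg xg23 yg59 zg26) (kg xg7 yg46 zg27) (kg xg7 yg37 zg1) (kg xg7 yg46 zg25) (kg xg18 yg18 zg43) (kg xg21 yg56 zg21) (kg xg20 yg24 zg45) (kg xg23 yg59 zg30) (kg xg22 yg39 zg12) (kg xg7 yg37 zg4) (kg xg11 yg40 zg2) (kg xg7 yg45 zg17) (kg xg7 yg37 zg5) (kg xg11 yg22 zg6) (kg xg7 yg37 zg7) (kg xg7 yg37 zg58) (kg xg23 yg19 zg18) (kg xg23 yg59 zg48) (kg xg13 yg7 zg55) (kg xg22 yg41 zg23) (kg xg7 yg48 zg9) (kg xg7 yg48 zg6) (kg xg7 yg37 zg11) (kg xg23 yg59 zg54) (kg xg23 yg59 zg57) (kg xg7 yg53 zg39) (kg xg23 yg59 zg61) (kg xg22 yg50 zg46) (kg xg23 yg49 zg33)) (@D3.rec (fun _ => Pt)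 (kg xg17 yg53 zg8) (kg xg21 yg24 zg28) (kg xg7 yg47 zg39) (kg xg7 yg37 zg15) (kg xg7 yg47 zg37) (kg xg7 yg48 zg24) (kg xg10 yg41 zg41) (kg xg17 yg28 zg35) (kg xg7 yg47 zg21) (kg xg13 yg27 zg25) (kg xg7 yg47 zg18) (kg xg7 yg37 zg19) (kg xg24 yg0 zg18) (kg xg10 yg2 zg37) (kg xg24 yg0 zg22) (kg xg16 yg47 zg52) (kg xg7 yg48 zg20) (kg xg7 yg37 zg22) (kg xg24 yg0 zg27) (kg xg7 yg48 zg18) (kg xg24 yg0 zg29) (kg xg7 yg43 zg38) (kg xg13 yg7 zg30) (kg xg16 yg30 zg13) (kg xg23 yg1 zg25) (kg xg13 yg36 zg23) (kg xg13 yg4 zg36) (kg xg18 yg44 zg32) (kg xg7 yg37 zg28) (kg xg20 yg39 zg51) (kg xg13 yg10 zg20) (kg xg7 yg37 zg31) (kg xg22 yg20 zg25) (kg xg9 yg26 zg14) (kg xg13 yg8 zg39) (kg xg11 yg38 zg15) (kg xg7 yg53 zg26) (kg xg24 yg0 zg46) (kg xg23 yg56 zg8) (kg xg20 yg37 zg11) (kg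 xg7 yg38 zg26) (kg xg7 yg38 zg53) (kg xg7 yg37 zg50) (kg xg7 yg37 zg46) (kg xg24 yg0 zg55) (kg xg7 yg37 zg48) (kg xg13 yg11 zg15) (kg xg24 yg0 zg58) (kg xg22 yg27 zg47) (kg xg13 yg9 zg50) (kg xg22 yg46 zg48) (kg xg24 yg0 zg56) (kg xg7 yg37 zg49) (kg xg22 yg24 zg55) (kg xg23 yg47 zg50) (kg xg23 yg46 zg7) (kg xg14 yg28 zg49) (kg xg24 yg1 zg11) (kg xg13 yg21 zg32) (kg xg24 yg1 zg16) (kg xg7 yg40 zg13) (kg xg23 yg59 zg45)) (@D3.rec (fun _ => Pt) (kg xg10 yg41 zg0) (kg xg23 yg59 zg44) (kg xg7 yg37 zg59) (kg xg24 yg1 zg24) (kg xg24 yg1 zg28) (kg xg14 yg19 zg56) (kg xg17 yg1 zg37) (kg xg7 yg38 zg1) (kg xg24 yg1 zg33) (kg xg14 yg19 zg29) (kg xg11 yg55 zg61) (kg xg13 yg29 zg54) (kg xg12 yg33 zg34) (kg xg9 yg24 zg9) (kg xg21 yg35 zg28) (kg xg24 yg1 zg37) (kg xg13 yg33 zg30) (kg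 xg7 yg38 zg9) (kg xg8 yg11 zg32) (kg xg7 yg38 zg11) (kg xg14 yg10 zg17) (kg xg24 yg1 zg42) (kg xg24 yg1 zg45) (kg xg24 yg1 zg40) (kg xg15 yg51 zg11) (kg xg19 yg28 zg24) (kg xg17 yg17 zg22) (kg xg7 yg48 zg29) (kg xg21 yg41 zg37) (kg xg12 yg1 zg49) (kg xg24 yg1 zg54) (kg xg7 yg38 zg17) (kg xg24 yg1 zg59) (kg xg24 yg1 zg52) (kg xg11 yg42 zg23) (kg xg22 yg33 zg39) (kg xg7 yg38 zg33) (kg xg23 yg54 zg11) (kg xg14 yg14 zg25) (kg xg14 yg13 zg9) (kg xg7 yg38 zg20) (kg xg22 yg37 zg33) (kg xg14 yg13 zg7) (kg xg9 yg49 zg25) (kg xg14 yg3 zg54) (kg xg7 yg38 zg23) (kg xg11 yg41 zg21) (kg xg11 yg28 zg31) (kg xg7 yg38 zg24) (kg xg23 yg55 zg34) (kg xg23 yg55 zg33) (kg xg21 yg18 zg53) (kg xg24 yg2 zg22) (kg xg24 yg2 zg26) (kg xg23 yg58 zg51) (kg xg21 yg41 zg34) (kg xg7 yg38 zg32) (kg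 xg7 yg38 zg28) (kg xg23 yg58 zg58) (kg xg23 yg54 zg38) (kg xg7 yg38 zg29) (kg xg21 yg49 zg42)) (@D3.rec (fun _ => Pt) (kg xg7 yg38 zg30) (kg xg11 yg30 zg6) (kg xg22 yg17 zg57) (kg xg24 yg2 zg45) (kg xg24 yg2 zg49) (kg xg12 yg53 zg35) (kg xg24 yg2 zg28) (kg xg24 yg2 zg55) (kg xg24 yg2 zg35) (kg xg15 yg55 zg18) (kg xg23 yg55 zg41) (kg xg12 yg45 zg36) (kg xg14 yg13 zg3) (kg xg24 yg2 zg19) (kg xg14 yg30 zg19) (kg xg15 yg55 zg4) (kg xg13 yg9 zg4) (kg xg14 yg18 zg51) (kg xg23 yg51 zg51) (kg xg19 yg35 zg19) (kg xg7 yg38 zg36) (kg xg24 yg3 zg16) (kg xg20 yg25 zg38) (kg xg23 yg55 zg51) (kg xg22 yg56 zg24) (kg xg22 yg56 zg22) (kg xg7 yg38 zg40) (kg xg20 yg55 zg21) (kg xg24 yg3 zg30) (kg xg22 yg15 zg21) (kg xg7 yg38 zg41) (kg xg7 yg39 zg2) (kg xg23 yg55 zg39) (kg xg20 yg40 zg12)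 (kg xg24 yg3 zg35) (kg xg19 yg40 zg61) (kg xg19 yg40 zg57) (kg xg13 yg8 zg54) (kg xg7 yg38 zg56) (kg xg7 yg49 zg43) (kg xg23 yg54 zg37) (kg xg7 yg38 zg47) (kg xg17 yg38 zg25) (kg xg22 yg45 zg55) (kg xg13 yg9 zg5) (kg xg7 yg38 zg48) (kg xg24 yg3 zg52) (kg xg24 yg3 zg57) (kg xg13 yg4 zg5) (kg xg24 yg4 zg0) (kg xg24 yg4 zg3) (kg xg22 yg56 zg31) (kg xg7 yg38 zg51) (kg xg24 yg4 zg7) (kg xg22 yg56 zg30) (kg xg13 yg22 zg24) (kg xg22 yg56 zg21) (kg xg24 yg4 zg13) (kg xg24 yg4 zg17) (kg xg24 yg4 zg20) (kg xg24 yg4 zg23) (kg xg23 yg55 zg50)) (@D3.rec (fun _ => Pt) (kg xg7 yg38 zg55) (kg xg23 yg55 zg49) (kg xg13 yg9 zg0) (kg xg16 yg58 zg53) (kg xg24 yg4 zg35) (kg xg24 yg4 zg38) (kg xg24 yg4 zg41) (kg xg23 yg55 zg55) (kg xg7 yg38 zg58) (kg xg15 yg55 zg6) (kg xg13 yg9 zg31) (kg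 xg7 yg38 zg61) (kg xg24 yg4 zg49) (kg xg19 yg21 zg8) (kg xg7 yg41 zg18) (kg xg14 yg17 zg59) (kg xg23 yg56 zg44) (kg xg24 yg4 zg59) (kg xg24 yg3 zg39) (kg xg14 yg48 zg48) (kg xg7 yg39 zg3) (kg xg14 yg48 zg47) (kg xg23 yg8 zg39) (kg xg7 yg40 zg29) (kg xg24 yg5 zg10) (kg xg22 yg8 zg24) (kg xg23 yg56 zg0) (kg xg7 yg39 zg7) (kg xg24 yg5 zg21) (kg xg23 yg55 zg61) (kg xg22 yg30 zg1) (kg xg23 yg6 zg21) (kg xg13 yg29 zg35) (kg xg23 yg10 zg0) (kg xg12 yg9 zg60) (kg xg12 yg5 zg35) (kg xg23 yg10 zg11) (kg xg22 yg56 zg34) (kg xg14 yg21 zg46) (kg xg23 yg9 zg60) (kg xg7 yg39 zg17) (kg xg22 yg54 zg4) (kg xg13 yg42 zg11) (kg xg20 yg37 zg14) (kg xg24 yg5 zg39) (kg xg24 yg5 zg41) (kg xg23 yg10 zg50) (kg xg7 yg39 zg23) (kg xg14 yg12 zg39) (kg xg7 yg53 zg29) (kg xg7 yg39 zg24) (kg xg21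 yg18 zg9) (kg xg7 yg48 zg5) (kg xg24 yg5 zg48) (kg xg13 yg12 zg44) (kg xg7 yg39 zg27) (kg xg12 yg51 zg55) (kg xg22 yg32 zg53) (kg xg24 yg5 zg57) (kg xg7 yg39 zg44) (kg xg7 yg39 zg30) (kg xg17 yg32 zg26)) (@D3.rec (fun _ => Pt) (kg xg7 yg39 zg42) (kg xg13 yg7 zg53) (kg xg22 yg53 zg1) (kg xg7 yg39 zg52) (kg xg7 yg39 zg32) (kg xg24 yg6 zg3) (kg xg7 yg39 zg35) (kg xg24 yg6 zg7) (kg xg24 yg2 zg7) (kg xg10 yg49 zg41) (kg xg22 yg6 zg58) (kg xg7 yg39 zg40) (kg xg22 yg0 zg30) (kg xg23 yg55 zg25) (kg xg18 yg35 zg57) (kg xg24 yg6 zg14) (kg xg23 yg47 zg16) (kg xg20 yg33 zg37) (kg xg14 yg16 zg13) (kg xg23 yg55 zg22) (kg xg16 yg44 zg36) (kg xg7 yg39 zg43) (kg xg24 yg6 zg23) (kg xg23 yg53 zg3) (kg xg7 yg50 zg57) (kg xg24 yg6 zg26) (kg xg7 yg39 zg47) (kg xg24 yg6 zg32) (kg xg23 yg53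 zg48) (kg xg24 yg6 zg33) (kg xg24 yg6 zg39) (kg xg24 yg6 zg25) (kg xg24 yg6 zg44) (kg xg13 yg33 zg59) (kg xg24 yg6 zg46) (kg xg23 yg53 zg14) (kg xg23 yg4 zg28) (kg xg19 yg30 zg52) (kg xg7 yg39 zg51) (kg xg24 yg6 zg54) (kg xg24 yg6 zg58) (kg xg24 yg6 zg4) (kg xg9 yg10 zg19) (kg xg11 yg57 zg50) (kg xg24 yg7 zg4) (kg xg24 yg7 zg7) (kg xg20 yg38 zg6) (kg xg7 yg39 zg59) (kg xg7 yg39 zg55) (kg xg24 yg7 zg15) (kg xg23 yg50 zg50) (kg xg7 yg39 zg56) (kg xg23 yg49 zg51) (kg xg7 yg39 zg57) (kg xg14 yg12 zg32) (kg xg12 yg33 zg53) (kg xg24 yg7 zg25) (kg xg10 yg27 zg35) (kg xg18 yg24 zg60) (kg xg24 yg7 zg8) (kg xg14 yg37 zg22) (kg xg19 yg31 zg25)) (@D3.rec (fun _ => Pt) (kg xg22 yg57 zg2) (kg xg21 yg35 zg6) (kg xg14 yg13 zg57) (kg xg14 yg12 zg43) (kg xg11 yg58 zg23) (kg xg14 yg31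 zg50) (kg xg24 yg7 zg41) (kg xg24 yg0 zg49) (kg xg8 yg15 zg31) (kg xg23 yg55 zg8) (kg xg23 yg56 zg19) (kg xg7 yg40 zg1) (kg xg22 yg6 zg45) (kg xg22 yg2 zg20) (kg xg23 yg56 zg18) (kg xg19 yg28 zg35) (kg xg23 yg48 zg11) (kg xg11 yg36 zg36) (kg xg7 yg40 zg4) (kg xg24 yg7 zg60) (kg xg7 yg40 zg11) (kg xg7 yg40 zg5) (kg xg24 yg8 zg4) (kg xg23 yg55 zg14) (kg xg7 yg40 zg6) (kg xg23 yg55 zg12) (kg xg13 yg10 zg7) (kg xg7 yg40 zg17) (kg xg23 yg50 zg41) (kg xg14 yg42 zg41) (kg xg23 yg56 zg21) (kg xg7 yg40 zg9) (kg xg24 yg8 zg16) (kg xg14 yg42 zg42) (kg xg7 yg40 zg10) (kg xg15 yg21 zg26) (kg xg23 yg56 zg25) (kg xg7 yg40 zg12) (kg xg23 yg56 zg24) (kg xg9 yg10 zg36) (kg xg7 yg52 zg53) (kg xg24 yg8 zg25) (kg xg24 yg8 zg28) (kg xg20 yg37 zg2) (kg xg7 yg40 zg16) (kg xg21 yg52 zg56) (kg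 xg23 yg56 zg27) (kg xg22 yg50 zg44) (kg xg24 yg8 zg39) (kg xg21 yg5 zg39) (kg xg23 yg56 zg30) (kg xg7 yg40 zg19) (kg xg23 yg56 zg29) (kg xg8 yg48 zg46) (kg xg13 yg28 zg39) (kg xg18 yg2 zg5) (kg xg13 yg32 zg40) (kg xg13 yg28 zg42) (kg xg21 yg34 zg47) (kg xg24 yg8 zg49) (kg xg7 yg40 zg22) (kg xg16 yg27 zg20)) (@D3.rec (fun _ => Pt) (kg xg24 yg8 zg53) (kg xg15 yg15 zg8) (kg xg15 yg52 zg20) (kg xg7 yg40 zg24) (kg xg13 yg8 zg41) (kg xg7 yg40 zg25) (kg xg24 yg9 zg3) (kg xg24 yg9 zg7) (kg xg14 yg52 zg27) (kg xg7 yg40 zg27) (kg xg14 yg52 zg26) (kg xg24 yg9 zg15) (kg xg13 yg28 zg1) (kg xg22 yg46 zg40) (kg xg13 yg31 zg24) (kg xg7 yg40 zg32) (kg xg22 yg41 zg30) (kg xg24 yg9 zg22) (kg xg7 yg40 zg34) (kg xg22 yg41 zg11) (kg xg24 yg9 zg25) (kg xg24 yg9 zg26) (kg xg7 yg40 zg38) (kg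 xg22 yg56 zg32) (kg xg24 yg9 zg29) (kg xg13 yg33 zg41) (kg xg7 yg40 zg39) (kg xg22 yg36 zg33) (kg xg13 yg40 zg30) (kg xg20 yg37 zg9) (kg xg20 yg32 zg49) (kg xg22 yg48 zg23) (kg xg23 yg21 zg38) (kg xg7 yg40 zg42) (kg xg23 yg21 zg37) (kg xg24 yg9 zg43) (kg xg14 yg48 zg57) (kg xg7 yg41 zg17) (kg xg23 yg30 zg31) (kg xg14 yg55 zg31) (kg xg7 yg40 zg47) (kg xg24 yg9 zg49) (kg xg14 yg55 zg38) (kg xg21 yg52 zg34) (kg xg24 yg9 zg51) (kg xg11 yg26 zg31) (kg xg22 yg58 zg43) (kg xg7 yg41 zg23) (kg xg22 yg37 zg61) (kg xg24 yg9 zg58) (kg xg22 yg37 zg46) (kg xg23 yg58 zg7) (kg xg23 yg58 zg25) (kg xg16 yg7 zg3) (kg xg7 yg45 zg30) (kg xg7 yg40 zg55) (kg xg7 yg45 zg4) (kg xg7 yg41 zg15) (kg xg24 yg10 zg6) (kg xg7 yg41 zg13) (kg xg24 yg3 zg45) (kg xg13 yg44 zg16)) (@D3.rec (fun _ => Pt)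 (kg xg14 yg49 zg43) (kg xg14 yg51 zg48) (kg xg22 yg48 zg57) (kg xg7 yg41 zg27) (kg xg23 yg35 zg59) (kg xg7 yg41 zg25) (kg xg17 yg31 zg8) (kg xg17 yg18 zg52) (kg xg22 yg40 zg24) (kg xg7 yg41 zg3) (kg xg24 yg10 zg18) (kg xg23 yg26 zg23) (kg xg24 yg10 zg21) (kg xg14 yg48 zg9) (kg xg14 yg48 zg42) (kg xg7 yg41 zg6) (kg xg23 yg1 zg3) (kg xg23 yg47 zg4) (kg xg9 yg7 zg29) (kg xg24 yg10 zg25) (kg xg21 yg39 zg57) (kg xg24 yg10 zg26) (kg xg24 yg10 zg30) (kg xg19 yg28 zg49) (kg xg7 yg41 zg14) (kg xg21 yg22 zg18) (kg xg16 yg44 zg42) (kg xg7 yg41 zg21) (kg xg24 yg10 zg11) (kg xg22 yg30 zg12) (kg xg7 yg41 zg22) (kg xg24 yg10 zg7) (kg xg21 yg41 zg17) (kg xg13 yg8 zg50) (kg xg20 yg7 zg39) (kg xg24 yg10 zg40) (kg xg24 yg10 zg8) (kg xg24 yg10 zg44) (kg xg24 yg10 zg9) (kg xg24 yg5 zg14)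 (kg xg22 yg29 zg55) (kg xg7 yg46 zg44) (kg xg19 yg4 zg9) (kg xg19 yg31 zg13) (kg xg19 yg56 zg36) (kg xg23 yg11 zg23) (kg xg22 yg55 zg31) (kg xg14 yg9 zg61) (kg xg13 yg10 zg14) (kg xg7 yg41 zg28) (kg xg13 yg58 zg36) (kg xg20 yg33 zg3) (kg xg17 yg11 zg11) (kg xg7 yg41 zg29) (kg xg24 yg10 zg59) (kg xg21 yg37 zg23) (kg xg22 yg36 zg1) (kg xg7 yg41 zg39) (kg xg23 yg58 zg46) (kg xg14 yg35 zg14) (kg xg13 yg20 zg58) (kg xg24 yg2 zg8)) (@D3.rec (fun _ => Pt) (kg xg13 yg21 zg3) (kg xg20 yg47 zg3) (kg xg7 yg41 zg35) (kg xg24 yg2 zg32) (kg xg13 yg45 zg32) (kg xg7 yg41 zg36) (kg xg17 yg23 zg22) (kg xg24 yg2 zg34) (kg xg24 yg4 zg58) (kg xg20 yg33 zg38) (kg xg13 yg20 zg61) (kg xg23 yg57 zg27) (kg xg23 yg11 zg29) (kg xg7 yg42 zg49) (kg xg24 yg11 zg16) (kg xg23 yg56 zg50) (kg xg7 yg41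 zg42) (kg xg11 yg9 zg25) (kg xg24 yg11 zg25) (kg xg14 yg24 zg17) (kg xg19 yg35 zg11) (kg xg24 yg11 zg30) (kg xg24 yg11 zg34) (kg xg7 yg41 zg45) (kg xg19 yg15 zg44) (kg xg24 yg11 zg39) (kg xg19 yg15 zg43) (kg xg24 yg11 zg46) (kg xg23 yg11 zg24) (kg xg23 yg33 zg16) (kg xg7 yg41 zg48) (kg xg24 yg11 zg52) (kg xg17 yg58 zg22) (kg xg24 yg11 zg55) (kg xg23 yg11 zg14) (kg xg7 yg41 zg50) (kg xg23 yg57 zg59) (kg xg8 yg13 zg12) (kg xg13 yg41 zg53) (kg xg9 yg21 zg44) (kg xg13 yg11 zg55) (kg xg21 yg52 zg38) (kg xg7 yg45 zg23) (kg xg23 yg45 zg55) (kg xg7 yg41 zg58) (kg xg24 yg12 zg6) (kg xg7 yg46 zg56) (kg xg19 yg30 zg60) (kg xg14 yg52 zg19) (kg xg10 yg33 zg30) (kg xg7 yg42 zg22) (kg xg7 yg42 zg1) (kg xg22 yg20 zg11) (kg xg7 yg42 zg20) (kg xg16 yg44 zg41) (kg xg11 yg29 zg53) (kg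 xg24 yg1 zg38) (kg xg7 yg42 zg6) (kg xg23 yg56 zg35) (kg xg22 yg7 zg46) (kg xg11 yg41 zg49) (kg xg23 yg57 zg36)) (@D3.rec (fun _ => Pt) (kg xg20 yg24 zg21) (kg xg16 yg58 zg29) (kg xg24 yg12 zg33) (kg xg19 yg23 zg37) (kg xg20 yg27 zg16) (kg xg7 yg42 zg12) (kg xg18 yg14 zg47) (kg xg20 yg27 zg14) (kg xg24 yg9 zg0) (kg xg7 yg42 zg17) (kg xg21 yg10 zg52) (kg xg24 yg12 zg52) (kg xg12 yg8 zg20) (kg xg23 yg1 zg19) (kg xg23 yg1 zg44) (kg xg18 yg45 zg59) (kg xg24 yg9 zg10) (kg xg23 yg57 zg42) (kg xg18 yg2 zg35) (kg xg19 yg7 zg21) (kg xg24 yg13 zg4) (kg xg13 yg9 zg53) (kg xg13 yg8 zg14) (kg xg13 yg22 zg23) (kg xg24 yg13 zg11) (kg xg24 yg12 zg19) (kg xg7 yg42 zg21) (kg xg24 yg13 zg19) (kg xg24 yg13 zg24) (kg xg22 yg20 zg14) (kg xg19 yg7 zg6) (kg xg7 yg42 zg26) (kg xg7 yg42 zg23)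 (kg xg24 yg7 zg12) (kg xg22 yg57 zg29) (kg xg7 yg42 zg24) (kg xg23 yg57 zg13) (kg xg19 yg27 zg19) (kg xg20 yg46 zg57) (kg xg20 yg33 zg36) (kg xg24 yg7 zg14) (kg xg10 yg33 zg35) (kg xg7 yg45 zg10) (kg xg11 yg45 zg19) (kg xg24 yg13 zg36) (kg xg23 yg45 zg28) (kg xg22 yg49 zg27) (kg xg15 yg31 zg49) (kg xg7 yg42 zg30) (kg xg24 yg13 zg44) (kg xg14 yg27 zg8) (kg xg19 yg35 zg21) (kg xg23 yg57 zg18) (kg xg7 yg42 zg32) (kg xg21 yg52 zg37) (kg xg23 yg57 zg17) (kg xg19 yg27 zg29) (kg xg24 yg13 zg58) (kg xg22 yg10 zg53) (kg xg7 yg42 zg34) (kg xg23 yg34 zg4) (kg xg24 yg13 zg48)) (@D3.rec (fun _ => Pt) (kg xg22 yg9 zg34) (kg xg24 yg14 zg5) (kg xg7 yg42 zg37) (kg xg24 yg14 zg6) (kg xg24 yg14 zg10) (kg xg24 yg14 zg15) (kg xg22 yg57 zg14) (kg xg7 yg42 zg39) (kg xg9 yg49 zg42) (kg xg7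 yg43 zg17) (kg xg7 yg42 zg41) (kg xg7 yg43 zg42) (kg xg7 yg42 zg59) (kg xg19 yg34 zg36) (kg xg14 yg23 zg51) (kg xg17 yg17 zg13) (kg xg7 yg42 zg44) (kg xg24 yg14 zg30) (kg xg17 yg17 zg11) (kg xg20 yg25 zg39) (kg xg15 yg55 zg39) (kg xg13 yg4 zg29) (kg xg13 yg30 zg19) (kg xg13 yg46 zg2) (kg xg13 yg11 zg27) (kg xg19 yg28 zg46) (kg xg7 yg42 zg47) (kg xg14 yg24 zg57) (kg xg14 yg33 zg34) (kg xg11 yg45 zg1) (kg xg11 yg45 zg51) (kg xg13 yg9 zg29) (kg xg24 yg14 zg49) (kg xg17 yg49 zg37) (kg xg9 yg14 zg8) (kg xg11 yg58 zg51) (kg xg12 yg33 zg8) (kg xg11 yg58 zg53) (kg xg24 yg14 zg58) (kg xg24 yg14 zg61) (kg xg23 yg59 zg20) (kg xg19 yg4 zg42) (kg xg14 yg53 zg8) (kg xg19 yg18 zg38) (kg xg24 yg0 zg31) (kg xg14 yg52 zg61) (kg xg23 yg59 zg22) (kg xg13 yg9 zg48) (kg xg14 yg52 zg30) (kg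 xg24 yg15 zg15) (kg xg7 yg43 zg52) (kg xg7 yg43 zg1) (kg xg20 yg42 zg31) (kg xg7 yg43 zg49) (kg xg24 yg15 zg19) (kg xg7 yg43 zg3) (kg xg12 yg37 zg41) (kg xg9 yg24 zg51) (kg xg7 yg43 zg4) (kg xg19 yg13 zg8) (kg xg9 yg23 zg18) (kg xg11 yg45 zg32)) (@D3.rec (fun _ => Pt) (kg xg10 yg25 zg19) (kg xg7 yg43 zg6) (kg xg22 yg18 zg19) (kg xg13 yg10 zg56) (kg xg17 yg53 zg45) (kg xg17 yg13 zg14) (kg xg21 yg52 zg16) (kg xg21 yg20 zg20) (kg xg21 yg23 zg3) (kg xg7 yg43 zg12) (kg xg18 yg25 zg16) (kg xg20 yg51 zg41) (kg xg20 yg22 zg33) (kg xg23 yg38 zg10) (kg xg10 yg18 zg49) (kg xg10 yg18 zg46) (kg xg9 yg28 zg47) (kg xg24 yg14 zg20) (kg xg24 yg15 zg34) (kg xg19 yg7 zg48) (kg xg24 yg15 zg37) (kg xg9 yg11 zg4) (kg xg11 yg40 zg57) (kg xg7 yg43 zg23) (kg xg7 yg43 zg19) (kg xg19 yg45 zg10)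 (kg xg24 yg15 zg45) (kg xg7 yg43 zg20) (kg xg13 yg2 zg53) (kg xg9 yg26 zg18) (kg xg21 yg16 zg31) (kg xg11 yg40 zg59) (kg xg19 yg19 zg35) (kg xg24 yg15 zg53) (kg xg14 yg30 zg6) (kg xg24 yg15 zg33) (kg xg20 yg49 zg34) (kg xg24 yg16 zg0) (kg xg21 yg3 zg42) (kg xg7 yg43 zg26) (kg xg24 yg16 zg6) (kg xg24 yg16 zg10) (kg xg24 yg14 zg59) (kg xg24 yg15 zg20) (kg xg22 yg29 zg18) (kg xg24 yg14 zg21) (kg xg19 yg19 zg3) (kg xg13 yg10 zg9) (kg xg7 yg43 zg30) (kg xg14 yg42 zg2) (kg xg19 yg4 zg33) (kg xg7 yg43 zg31) (kg xg17 yg19 zg57) (kg xg7 yg53 zg40) (kg xg24 yg16 zg22) (kg xg7 yg53 zg36) (kg xg24 yg14 zg57) (kg xg7 yg43 zg40) (kg xg7 yg43 zg34) (kg xg24 yg16 zg30) (kg xg19 yg20 zg1) (kg xg24 yg15 zg2)) (@D3.rec (fun _ => Pt) (kg xg7 yg43 zg35) (kg xg24 yg16 zg37) (kg xg19 yg51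 zg5) (kg xg13 yg5 zg22) (kg xg7 yg43 zg45) (kg xg12 yg46 zg59) (kg xg22 yg0 zg40) (kg xg7 yg43 zg39) (kg xg14 yg41 zg47) (kg xg18 yg46 zg24) (kg xg10 yg56 zg33) (kg xg19 yg4 zg59) (kg xg19 yg4 zg27) (kg xg24 yg14 zg23) (kg xg14 yg41 zg33) (kg xg10 yg33 zg20) (kg xg7 yg43 zg46) (kg xg24 yg16 zg54) (kg xg13 yg56 zg49) (kg xg24 yg16 zg60) (kg xg24 yg15 zg10) (kg xg7 yg43 zg44) (kg xg24 yg15 zg9) (kg xg13 yg10 zg30) (kg xg14 yg23 zg8) (kg xg24 yg17 zg11) (kg xg24 yg17 zg14) (kg xg13 yg56 zg43) (kg xg24 yg17 zg18) (kg xg24 yg15 zg16) (kg xg7 yg43 zg47) (kg xg23 yg59 zg32) (kg xg11 yg54 zg43) (kg xg13 yg25 zg35) (kg xg19 yg24 zg61) (kg xg24 yg17 zg25) (kg xg14 yg5 zg57) (kg xg24 yg17 zg20) (kg xg24 yg17 zg33) (kg xg7 yg43 zg50) (kg xg24 yg17 zg34) (kg xg24 yg17 zg44) (kg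 xg24 yg17 zg38) (kg xg24 yg17 zg47) (kg xg24 yg17 zg50) (kg xg21 yg3 zg43) (kg xg7 yg43 zg53) (kg xg7 yg44 zg0) (kg xg19 yg12 zg55) (kg xg7 yg43 zg60) (kg xg7 yg44 zg41) (kg xg14 yg14 zg20) (kg xg21 yg42 zg39) (kg xg17 yg6 zg22) (kg xg7 yg43 zg58) (kg xg24 yg18 zg2) (kg xg11 yg43 zg48) (kg xg23 yg6 zg56) (kg xg21 yg22 zg0) (kg xg22 yg11 zg18) (kg xg12 yg37 zg16) (kg xg24 yg18 zg6)) (@D3.rec (fun _ => Pt) (kg xg24 yg17 zg61) (kg xg7 yg43 zg61) (kg xg14 yg58 zg61) (kg xg24 yg17 zg59) (kg xg18 yg23 zg17) (kg xg24 yg18 zg14) (kg xg11 yg45 zg42) (kg xg7 yg44 zg4) (kg xg7 yg44 zg2) (kg xg23 yg49 zg48) (kg xg23 yg52 zg12) (kg xg23 yg49 zg50) (kg xg22 yg39 zg5) (kg xg23 yg58 zg4) (kg xg14 yg31 zg35) (kg xg24 yg18 zg23) (kg xg22 yg36 zg21) (kg xg7 yg44 zg7) (kg xg24 yg18 zg28)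 (kg xg24 yg18 zg31) (kg xg14 yg14 zg28) (kg xg18 yg5 zg57) (kg xg7 yg44 zg13) (kg xg24 yg18 zg34) (kg xg15 yg26 zg37) (kg xg20 yg27 zg34) (kg xg11 yg26 zg33) (kg xg9 yg20 zg60) (kg xg24 yg18 zg37) (kg xg12 yg57 zg53) (kg xg12 yg57 zg38) (kg xg7 yg44 zg12) (kg xg24 yg18 zg46) (kg xg24 yg18 zg35) (kg xg7 yg44 zg16) (kg xg7 yg44 zg14) (kg xg22 yg7 zg1) (kg xg13 yg45 zg29) (kg xg7 yg44 zg15) (kg xg23 yg5 zg61) (kg xg13 yg35 zg32) (kg xg13 yg21 zg0) (kg xg22 yg49 zg31) (kg xg15 yg26 zg27) (kg xg24 yg18 zg59) (kg xg7 yg44 zg21) (kg xg9 yg7 zg18) (kg xg9 yg13 zg1) (kg xg20 yg24 zg27) (kg xg9 yg7 zg36) (kg xg7 yg44 zg25) (kg xg21 yg30 zg24) (kg xg21 yg7 zg26) (kg xg7 yg44 zg30) (kg xg7 yg44 zg26) (kg xg20 yg37 zg46) (kg xg7 yg44 zg28) (kg xg21 yg51 zg23) (kg xg9 yg13 zg48)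 (kg xg21 yg30 zg17) (kg xg24 yg19 zg0) (kg xg21 yg42 zg44)) (@D3.rec (fun _ => Pt) (kg xg21 yg30 zg18) (kg xg20 yg37 zg44) (kg xg24 yg19 zg15) (kg xg12 yg23 zg20) (kg xg7 yg44 zg34) (kg xg7 yg44 zg31) (kg xg24 yg19 zg23) (kg xg10 yg36 zg26) (kg xg7 yg44 zg32) (kg xg12 yg43 zg7) (kg xg24 yg19 zg24) (kg xg18 yg2 zg27) (kg xg24 yg19 zg30) (kg xg21 yg59 zg30) (kg xg23 yg46 zg54) (kg xg21 yg53 zg8) (kg xg7 yg44 zg37) (kg xg24 yg19 zg35) (kg xg24 yg19 zg40) (kg xg21 yg53 zg19) (kg xg21 yg54 zg5) (kg xg19 yg23 zg31) (kg xg22 yg35 zg40) (kg xg17 yg5 zg10) (kg xg24 yg19 zg46) (kg xg24 yg19 zg47) (kg xg19 yg5 zg35) (kg xg21 yg23 zg51) (kg xg19 yg17 zg53) (kg xg24 yg19 zg44) (kg xg7 yg44 zg43) (kg xg14 yg11 zg42) (kg xg9 yg27 zg6) (kg xg20 yg51 zg45) (kg xg20 yg51 zg18) (kg xg24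 yg2 zg27) (kg xg24 yg19 zg59) (kg xg7 yg44 zg59) (kg xg7 yg44 zg46) (kg xg24 yg19 zg21) (kg xg7 yg44 zg47) (kg xg12 yg39 zg37) (kg xg21 yg41 zg60) (kg xg19 yg27 zg49) (kg xg23 yg49 zg32) (kg xg23 yg49 zg29) (kg xg7 yg44 zg61) (kg xg7 yg44 zg50) (kg xg24 yg20 zg6) (kg xg24 yg20 zg9) (kg xg15 yg42 zg41) (kg xg23 yg58 zg45) (kg xg7 yg44 zg51) (kg xg23 yg59 zg31) (kg xg23 yg58 zg44) (kg xg13 yg20 zg60) (kg xg14 yg13 zg8) (kg xg7 yg45 zg8) (kg xg24 yg20 zg18) (kg xg18 yg25 zg18) (kg xg24 yg20 zg20) (kg xg7 yg44 zg58)) (@D3.rec (fun _ => Pt) (kg xg20 yg23 zg4) (kg xg20 yg44 zg39) (kg xg24 yg19 zg22) (kg xg24 yg14 zg47) (kg xg12 yg41 zg20) (kg xg14 yg14 zg7) (kg xg24 yg20 zg10) (kg xg24 yg20 zg25) (kg xg23 yg58 zg57) (kg xg24 yg20 zg29) (kg xg7 yg45 zg50) (kg xg23 yg55 zg38)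 (kg xg14 yg18 zg44) (kg xg21 yg59 zg45) (kg xg24 yg20 zg38) (kg xg12 yg11 zg24) (kg xg24 yg20 zg43) (kg xg7 yg45 zg9) (kg xg7 yg45 zg5) (kg xg23 yg22 zg42) (kg xg24 yg20 zg50) (kg xg24 yg20 zg53) (kg xg21 yg45 zg59) (kg xg23 yg12 zg22) (kg xg7 yg45 zg7) (kg xg10 yg37 zg54) (kg xg18 yg18 zg40) (kg xg24 yg20 zg51) (kg xg15 yg44 zg48) (kg xg14 yg26 zg60) (kg xg23 yg59 zg5) (kg xg7 yg45 zg11) (kg xg21 yg56 zg23) (kg xg24 yg21 zg0) (kg xg24 yg21 zg5) (kg xg24 yg20 zg58) (kg xg7 yg45 zg15) (kg xg17 yg52 zg61) (kg xg21 yg56 zg24) (kg xg24 yg21 zg11) (kg xg7 yg45 zg14) (kg xg19 yg54 zg7) (kg xg17 yg53 zg51) (kg xg17 yg53 zg50) (kg xg23 yg59 zg18) (kg xg24 yg19 zg41) (kg xg23 yg59 zg34) (kg xg23 yg59 zg16) (kg xg22 yg39 zg14) (kg xg23 yg46 zg6) (kg xg21 yg52 zg46) (kg xg24 yg21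 zg21) (kg xg24 yg2 zg56) (kg xg7 yg45 zg25) (kg xg7 yg45 zg21) (kg xg24 yg3 zg1) (kg xg24 yg21 zg29) (kg xg24 yg21 zg31) (kg xg20 yg12 zg41) (kg xg21 yg41 zg56) (kg xg24 yg21 zg25) (kg xg24 yg13 zg54)) (@D3.rec (fun _ => Pt) (kg xg14 yg19 zg14) (kg xg24 yg9 zg53) (kg xg24 yg21 zg36) (kg xg22 yg19 zg20) (kg xg17 yg31 zg30) (kg xg14 yg13 zg45) (kg xg22 yg25 zg6) (kg xg21 yg52 zg48) (kg xg7 yg45 zg29) (kg xg22 yg25 zg52) (kg xg24 yg21 zg51) (kg xg10 yg36 zg37) (kg xg13 yg19 zg7) (kg xg7 yg45 zg41) (kg xg7 yg45 zg35) (kg xg14 yg48 zg35) (kg xg19 yg8 zg2) (kg xg23 yg58 zg15) (kg xg13 yg22 zg18) (kg xg24 yg21 zg56) (kg xg19 yg17 zg10) (kg xg19 yg17 zg55) (kg xg24 yg21 zg61) (kg xg23 yg58 zg16) (kg xg24 yg10 zg4) (kg xg7 yg45 zg42) (kg xg16 yg28 zg11) (kg xg10 yg41 zg37) (kg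 xg19 yg27 zg18) (kg xg14 yg50 zg18) (kg xg13 yg17 zg17) (kg xg24 yg22 zg7) (kg xg23 yg12 zg42) (kg xg7 yg45 zg48) (kg xg19 yg2 zg40) (kg xg19 yg6 zg6) (kg xg13 yg17 zg11) (kg xg24 yg22 zg18) (kg xg24 yg22 zg21) (kg xg24 yg22 zg11) (kg xg21 yg57 zg51) (kg xg23 yg58 zg54) (kg xg18 yg2 zg48) (kg xg7 yg45 zg53) (kg xg23 yg59 zg21) (kg xg24 yg22 zg36) (kg xg7 yg45 zg54) (kg xg8 yg33 zg58) (kg xg16 yg6 zg41) (kg xg9 yg3 zg57) (kg xg7 yg47 zg35) (kg xg22 yg37 zg9) (kg xg19 yg8 zg28) (kg xg13 yg22 zg3) (kg xg7 yg45 zg57) (kg xg16 yg3 zg11) (kg xg13 yg22 zg2) (kg xg13 yg52 zg45) (kg xg17 yg35 zg41) (kg xg13 yg12 zg37) (kg xg7 yg46 zg4) (kg xg14 yg10 zg24)) (@D3.rec (fun _ => Pt) (kg xg20 yg23 zg41) (kg xg13 yg12 zg34) (kg xg7 yg46 zg2) (kg xg16 yg40 zg22) (kg xg24 yg22 zg49)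 (kg xg14 yg44 zg59) (kg xg18 yg27 zg15) (kg xg14 yg38 zg18) (kg xg10 yg30 zg30) (kg xg7 yg46 zg9) (kg xg17 yg26 zg2) (kg xg10 yg33 zg26) (kg xg24 yg22 zg59) (kg xg22 yg21 zg17) (kg xg7 yg46 zg12) (kg xg8 yg38 zg48) (kg xg7 yg46 zg13) (kg xg18 yg19 zg14) (kg xg16 yg10 zg22) (kg xg18 yg41 zg60) (kg xg23 yg59 zg37) (kg xg19 yg2 zg39) (kg xg7 yg46 zg29) (kg xg19 yg8 zg27) (kg xg10 yg37 zg56) (kg xg7 yg46 zg16) (kg xg24 yg23 zg9) (kg xg22 yg57 zg22) (kg xg10 yg40 zg5) (kg xg10 yg30 zg60) (kg xg10 yg33 zg31) (kg xg7 yg46 zg20) (kg xg7 yg46 zg21) (kg xg24 yg23 zg15) (kg xg23 yg59 zg29) (kg xg7 yg46 zg23) (kg xg23 yg39 zg16) (kg xg23 yg59 zg27) (kg xg23 yg59 zg41) (kg xg22 yg16 zg3) (kg xg23 yg57 zg61) (kg xg7 yg46 zg31) (kg xg22 yg37 zg36) (kg xg22 yg39 zg34) (kg xg7 yg46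 zg26) (kg xg23 yg52 zg40) (kg xg22 yg39 zg33) (kg xg7 yg46 zg28) (kg xg14 yg48 zg55) (kg xg24 yg23 zg33) (kg xg24 yg23 zg35) (kg xg24 yg23 zg39) (kg xg21 yg2 zg11) (kg xg7 yg46 zg30) (kg xg22 yg39 zg16) (kg xg24 yg23 zg44) (kg xg11 yg3 zg38) (kg xg24 yg23 zg50) (kg xg23 yg59 zg33) (kg xg7 yg46 zg33) (kg xg7 yg46 zg36) (kg xg23 yg40 zg52)) (@D3.rec (fun _ => Pt) (kg xg24 yg23 zg57) (kg xg23 yg30 zg32) (kg xg21 yg2 zg13) (kg xg7 yg46 zg34) (kg xg7 yg50 zg13) (kg xg24 yg23 zg58) (kg xg22 yg38 zg2) (kg xg24 yg23 zg23) (kg xg7 yg50 zg8) (kg xg13 yg57 zg49) (kg xg7 yg46 zg35) (kg xg20 yg25 zg42) (kg xg14 yg50 zg28) (kg xg24 yg24 zg13) (kg xg22 yg37 zg23) (kg xg20 yg24 zg40) (kg xg22 yg39 zg15) (kg xg7 yg46 zg38) (kg xg10 yg36 zg35) (kg xg23 yg24 zg10) (kg xg24 yg24 zg22)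 (kg xg10 yg38 zg0) (kg xg14 yg1 zg48) (kg xg24 yg24 zg23) (kg xg21 yg52 zg49) (kg xg7 yg46 zg41) (kg xg24 yg24 zg31) (kg xg24 yg24 zg35) (kg xg22 yg58 zg26) (kg xg7 yg46 zg43) (kg xg22 yg26 zg34) (kg xg23 yg51 zg12) (kg xg13 yg19 zg2) (kg xg13 yg7 zg20) (kg xg7 yg48 zg36) (kg xg24 yg24 zg25) (kg xg7 yg48 zg32) (kg xg7 yg46 zg47) (kg xg23 yg45 zg59) (kg xg7 yg46 zg48) (kg xg24 yg24 zg54) (kg xg23 yg45 zg58) (kg xg23 yg45 zg53) (kg xg7 yg46 zg50) (kg xg10 yg57 zg31) (kg xg24 yg24 zg61) (kg xg16 yg54 zg39) (kg xg24 yg24 zg40) (kg xg22 yg58 zg52) (kg xg7 yg46 zg52) (kg xg22 yg58 zg50) (kg xg22 yg26 zg15) (kg xg24 yg25 zg9) (kg xg7 yg46 zg57) (kg xg23 yg46 zg1) (kg xg7 yg46 zg55) (kg xg20 yg52 zg8) (kg xg24 yg25 zg16) (kg xg13 yg38 zg58) (kg xg24 yg25 zg10) (kg xg22 yg38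 zg24) (kg xg7 yg46 zg58)) (@D3.rec (fun _ => Pt) (kg xg22 yg38 zg22) (kg xg24 yg25 zg20) (kg xg13 yg53 zg57) (kg xg24 yg25 zg24) (kg xg13 yg27 zg10) (kg xg24 yg25 zg19) (kg xg24 yg24 zg37) (kg xg7 yg46 zg61) (kg xg24 yg24 zg36) (kg xg12 yg10 zg15) (kg xg24 yg25 zg39) (kg xg13 yg7 zg18) (kg xg13 yg12 zg4) (kg xg13 yg11 zg43) (kg xg13 yg10 zg35) (kg xg13 yg11 zg40) (kg xg7 yg47 zg3) (kg xg23 yg49 zg7) (kg xg14 yg41 zg24) (kg xg7 yg47 zg4) (kg xg13 yg7 zg16) (kg xg13 yg7 zg46) (kg xg11 yg46 zg38) (kg xg14 yg41 zg14) (kg xg14 yg41 zg19) (kg xg22 yg40 zg5) (kg xg22 yg14 zg0) (kg xg24 yg26 zg2) (kg xg24 yg0 zg2) (kg xg7 yg47 zg27) (kg xg21 yg54 zg12) (kg xg22 yg50 zg45) (kg xg7 yg47 zg12) (kg xg24 yg26 zg11) (kg xg17 yg1 zg58) (kg xg23 yg49 zg36) (kg xg7 yg47 zg14) (kg xg23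 yg59 zg49) (kg xg13 yg7 zg19) (kg xg12 yg51 zg45) (kg xg14 yg34 zg24) (kg xg24 yg0 zg19) (kg xg24 yg26 zg25) (kg xg9 yg16 zg13) (kg xg14 yg34 zg8) (kg xg24 yg26 zg28) (kg xg10 yg41 zg42) (kg xg24 yg26 zg26) (kg xg13 yg17 zg19) (kg xg17 yg28 zg44) (kg xg24 yg0 zg14) (kg xg7 yg47 zg22) (kg xg24 yg26 zg41) (kg xg24 yg26 zg44) (kg xg24 yg26 zg48) (kg xg10 yg32 zg9) (kg xg7 yg47 zg23) (kg xg20 yg59 zg55) (kg xg10 yg39 zg33) (kg xg13 yg53 zg36) (kg xg14 yg20 zg30) (kg xg7 yg47 zg26)) (@D3.rec (fun _ => Pt) (kg xg9 yg16 zg18) (kg xg22 yg50 zg47) (kg xg24 yg26 zg59) (kg xg24 yg27 zg0) (kg xg23 yg26 zg21) (kg xg14 yg48 zg32) (kg xg24 yg0 zg1) (kg xg7 yg47 zg29) (kg xg24 yg0 zg0) (kg xg10 yg41 zg1) (kg xg24 yg27 zg15) (kg xg13 yg50 zg5) (kg xg24 yg27 zg21) (kg xg16 yg4 zg44)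 (kg xg14 yg37 zg7) (kg xg24 yg0 zg6) (kg xg7 yg47 zg33) (kg xg24 yg0 zg5) (kg xg20 yg24 zg41) (kg xg7 yg47 zg34) (kg xg24 yg0 zg23) (kg xg19 yg31 zg46) (kg xg19 yg48 zg28) (kg xg10 yg41 zg17) (kg xg14 yg38 zg47) (kg xg11 yg0 zg61) (kg xg24 yg27 zg33) (kg xg24 yg1 zg20) (kg xg24 yg27 zg48) (kg xg24 yg27 zg54) (kg xg11 yg0 zg15) (kg xg7 yg47 zg38) (kg xg14 yg44 zg43) (kg xg14 yg43 zg57) (kg xg22 yg16 zg7) (kg xg24 yg26 zg55) (kg xg14 yg40 zg15) (kg xg7 yg47 zg43) (kg xg13 yg16 zg41) (kg xg24 yg27 zg60) (kg xg14 yg27 zg29) (kg xg7 yg47 zg46) (kg xg14 yg27 zg34) (kg xg14 yg12 zg36) (kg xg21 yg49 zg40) (kg xg7 yg47 zg48) (kg xg14 yg3 zg25) (kg xg13 yg24 zg25) (kg xg24 yg28 zg4) (kg xg12 yg34 zg9) (kg xg16 yg32 zg43) (kg xg12 yg34 zg11) (kg xg13 yg46 zg16) (kg xg18 yg48 zg47)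 (kg xg7 yg47 zg55) (kg xg13 yg30 zg13) (kg xg23 yg6 zg18) (kg xg22 yg57 zg57) (kg xg16 yg34 zg60) (kg xg7 yg47 zg59) (kg xg18 yg59 zg8) (kg xg24 yg28 zg22)) (@D3.rec (fun _ => Pt) (kg xg14 yg44 zg45) (kg xg7 yg47 zg60) (kg xg13 yg30 zg2) (kg xg16 yg20 zg22) (kg xg16 yg20 zg29) (kg xg18 yg15 zg48) (kg xg10 yg13 zg4) (kg xg10 yg13 zg22) (kg xg10 yg13 zg20) (kg xg16 yg20 zg17) (kg xg20 yg52 zg3) (kg xg7 yg48 zg4) (kg xg14 yg25 zg38) (kg xg24 yg5 zg49) (kg xg23 yg57 zg24) (kg xg16 yg46 zg41) (kg xg10 yg40 zg23) (kg xg13 yg18 zg24) (kg xg24 yg28 zg38) (kg xg13 yg23 zg39) (kg xg24 yg28 zg41) (kg xg24 yg28 zg39) (kg xg24 yg27 zg7) (kg xg23 yg59 zg50) (kg xg7 yg48 zg10) (kg xg24 yg28 zg49) (kg xg24 yg28 zg53) (kg xg10 yg32 zg6) (kg xg7 yg48 zg11) (kg xg24 yg28 zg61) (kg xg24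 yg28 zg35) (kg xg22 yg18 zg25) (kg xg24 yg29 zg5) (kg xg13 yg18 zg22) (kg xg24 yg0 zg8) (kg xg7 yg48 zg15) (kg xg24 yg0 zg7) (kg xg8 yg39 zg11) (kg xg24 yg29 zg16) (kg xg19 yg4 zg28) (kg xg9 yg51 zg29) (kg xg23 yg50 zg12) (kg xg24 yg27 zg11) (kg xg10 yg41 zg18) (kg xg10 yg39 zg42) (kg xg21 yg53 zg9) (kg xg20 yg59 zg35) (kg xg7 yg48 zg19) (kg xg18 yg5 zg1) (kg xg24 yg0 zg28) (kg xg18 yg6 zg36) (kg xg14 yg14 zg22) (kg xg23 yg23 zg46) (kg xg14 yg44 zg25) (kg xg11 yg48 zg26) (kg xg11 yg48 zg23) (kg xg14 yg42 zg33) (kg xg7 yg48 zg27) (kg xg22 yg0 zg0) (kg xg7 yg48 zg28) (kg xg24 yg25 zg47) (kg xg24 yg29 zg45)) (@D3.rec (fun _ => Pt) (kg xg9 yg21 zg21) (kg xg24 yg0 zg54) (kg xg13 yg35 zg11) (kg xg24 yg29 zg53) (kg xg13 yg7 zg43) (kg xg13 yg50 zg36) (kg xg24 yg29 zg56) (kg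 xg24 yg24 zg51) (kg xg23 yg46 zg13) (kg xg7 yg48 zg33) (kg xg24 yg30 zg5) (kg xg23 yg46 zg12) (kg xg22 yg0 zg38) (kg xg7 yg48 zg35) (kg xg24 yg30 zg12) (kg xg24 yg30 zg15) (kg xg24 yg30 zg18) (kg xg24 yg25 zg6) (kg xg22 yg46 zg54) (kg xg7 yg48 zg37) (kg xg22 yg46 zg53) (kg xg12 yg8 zg4) (kg xg14 yg59 zg32) (kg xg13 yg26 zg40) (kg xg8 yg46 zg5) (kg xg7 yg48 zg41) (kg xg20 yg52 zg1) (kg xg11 yg22 zg1) (kg xg24 yg30 zg31) (kg xg24 yg30 zg34) (kg xg23 yg19 zg45) (kg xg7 yg48 zg44) (kg xg23 yg19 zg44) (kg xg22 yg9 zg33) (kg xg7 yg48 zg46) (kg xg21 yg27 zg51) (kg xg7 yg48 zg47) (kg xg21 yg27 zg50) (kg xg13 yg54 zg26) (kg xg21 yg39 zg1) (kg xg13 yg16 zg0) (kg xg7 yg48 zg50) (kg xg13 yg15 zg61) (kg xg16 yg5 zg52) (kg xg8 yg21 zg41) (kg xg14 yg43 zg1) (kg xg13 yg35 zg34) (kg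 xg13 yg51 zg61) (kg xg13 yg41 zg2) (kg xg21 yg6 zg43) (kg xg24 yg30 zg60) (kg xg13 yg27 zg35) (kg xg22 yg30 zg56) (kg xg7 yg48 zg60) (kg xg12 yg21 zg58) (kg xg22 yg30 zg58) (kg xg13 yg4 zg14) (kg xg14 yg39 zg5) (kg xg23 yg46 zg16) (kg xg22 yg14 zg58) (kg xg13 yg50 zg22) (kg xg7 yg49 zg3)) (@D3.rec (fun _ => Pt) (kg xg22 yg34 zg4) (kg xg24 yg31 zg14) (kg xg13 yg51 zg40) (kg xg7 yg49 zg4) (kg xg13 yg51 zg39) (kg xg22 yg30 zg5) (kg xg14 yg56 zg35) (kg xg13 yg13 zg47) (kg xg13 yg51 zg11) (kg xg12 yg6 zg23) (kg xg13 yg51 zg33) (kg xg22 yg28 zg28) (kg xg13 yg51 zg32) (kg xg7 yg49 zg10) (kg xg13 yg51 zg30) (kg xg12 yg45 zg45) (kg xg20 yg25 zg41) (kg xg12 yg7 zg57) (kg xg13 yg46 zg59) (kg xg13 yg47 zg38) (kg xg24 yg31 zg31) (kg xg24 yg31 zg35) (kg xg24 yg31 zg30) (kg xg7 yg49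 zg15) (kg xg24 yg31 zg29) (kg xg21 yg40 zg58) (kg xg7 yg49 zg16) (kg xg21 yg40 zg60) (kg xg19 yg18 zg41) (kg xg7 yg49 zg17) (kg xg16 yg50 zg39) (kg xg16 yg27 zg59) (kg xg24 yg31 zg50) (kg xg19 yg52 zg58) (kg xg15 yg12 zg40) (kg xg21 yg6 zg9) (kg xg24 yg31 zg51) (kg xg23 yg19 zg56) (kg xg14 yg53 zg54) (kg xg14 yg49 zg40) (kg xg22 yg55 zg30) (kg xg14 yg50 zg50) (kg xg13 yg52 zg44) (kg xg22 yg22 zg12) (kg xg7 yg53 zg28) (kg xg14 yg49 zg4) (kg xg7 yg49 zg25) (kg xg20 yg39 zg21) (kg xg14 yg49 zg2) (kg xg23 yg42 zg22) (kg xg24 yg27 zg34) (kg xg21 yg40 zg48) (kg xg7 yg50 zg11) (kg xg11 yg51 zg11) (kg xg24 yg32 zg9) (kg xg22 yg55 zg15) (kg xg24 yg32 zg13) (kg xg7 yg50 zg38) (kg xg17 yg8 zg29) (kg xg24 yg21 zg14) (kg xg22 yg22 zg20) (kg xg13 yg25 zg54)) (@D3.rec (fun _ => Pt)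 (kg xg16 yg11 zg21) (kg xg17 yg9 zg0) (kg xg24 yg32 zg18) (kg xg13 yg5 zg35) (kg xg7 yg53 zg12) (kg xg14 yg22 zg23) (kg xg9 yg9 zg15) (kg xg7 yg50 zg28) (kg xg7 yg49 zg48) (kg xg7 yg49 zg44) (kg xg7 yg49 zg46) (kg xg14 yg41 zg11) (kg xg19 yg32 zg9) (kg xg22 yg27 zg48) (kg xg14 yg55 zg52) (kg xg7 yg49 zg47) (kg xg14 yg55 zg33) (kg xg16 yg4 zg12) (kg xg13 yg53 zg26) (kg xg24 yg32 zg32) (kg xg14 yg55 zg44) (kg xg14 yg56 zg6) (kg xg14 yg50 zg58) (kg xg7 yg54 zg17) (kg xg14 yg55 zg42) (kg xg7 yg49 zg57) (kg xg24 yg32 zg37) (kg xg14 yg48 zg52) (kg xg21 yg55 zg42) (kg xg17 yg38 zg54) (kg xg17 yg10 zg61) (kg xg12 yg36 zg20) (kg xg20 yg6 zg48) (kg xg20 yg6 zg51) (kg xg16 yg51 zg29) (kg xg16 yg51 zg32) (kg xg7 yg50 zg2) (kg xg21 yg42 zg35) (kg xg17 yg29 zg61) (kg xg11 yg52 zg11)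 (kg xg20 yg54 zg50) (kg xg24 yg32 zg49) (kg xg17 yg53 zg5) (kg xg24 yg32 zg52) (kg xg7 yg50 zg9) (kg xg7 yg50 zg6) (kg xg24 yg32 zg55) (kg xg24 yg32 zg58) (kg xg7 yg50 zg7) (kg xg23 yg12 zg47) (kg xg24 yg32 zg56) (kg xg23 yg13 zg28) (kg xg18 yg18 zg45) (kg xg24 yg33 zg4) (kg xg24 yg33 zg7) (kg xg11 yg50 zg47) (kg xg20 yg13 zg53) (kg xg21 yg55 zg12) (kg xg21 yg21 zg28) (kg xg24 yg33 zg13) (kg xg18 yg17 zg46) (kg xg24 yg32 zg16)) (@D3.rec (fun _ => Pt) (kg xg14 yg19 zg24) (kg xg23 yg43 zg37) (kg xg23 yg29 zg14) (kg xg24 yg3 zg42) (kg xg7 yg50 zg16) (kg xg24 yg33 zg23) (kg xg14 yg56 zg33) (kg xg7 yg50 zg17) (kg xg14 yg48 zg61) (kg xg7 yg51 zg2) (kg xg24 yg33 zg27) (kg xg7 yg50 zg25) (kg xg19 yg11 zg6) (kg xg12 yg55 zg45) (kg xg22 yg55 zg23) (kg xg7 yg50 zg20) (kg xg22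 yg5 zg61) (kg xg7 yg50 zg31) (kg xg22 yg55 zg18) (kg xg12 yg7 zg56) (kg xg22 yg55 zg16) (kg xg7 yg50 zg23) (kg xg24 yg33 zg40) (kg xg24 yg33 zg44) (kg xg24 yg30 zg29) (kg xg7 yg50 zg24) (kg xg21 yg14 zg27) (kg xg24 yg33 zg49) (kg xg24 yg33 zg52) (kg xg24 yg32 zg11) (kg xg7 yg50 zg26) (kg xg24 yg33 zg59) (kg xg24 yg32 zg10) (kg xg23 yg43 zg51) (kg xg24 yg34 zg2) (kg xg18 yg18 zg5) (kg xg7 yg50 zg32) (kg xg17 yg49 zg52) (kg xg24 yg34 zg7) (kg xg24 yg32 zg15) (kg xg7 yg50 zg30) (kg xg24 yg32 zg14) (kg xg14 yg49 zg44) (kg xg23 yg34 zg39) (kg xg24 yg34 zg14) (kg xg17 yg49 zg46) (kg xg18 yg33 zg53) (kg xg23 yg44 zg4) (kg xg7 yg50 zg33) (kg xg19 yg11 zg2) (kg xg24 yg19 zg57) (kg xg21 yg48 zg30) (kg xg24 yg34 zg20) (kg xg7 yg50 zg36) (kg xg20 yg54 zg27) (kg xg14 yg48 zg36)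 (kg xg23 yg12 zg49) (kg xg22 yg10 zg9) (kg xg24 yg32 zg7) (kg xg7 yg50 zg39) (kg xg14 yg1 zg45) (kg xg7 yg50 zg40)) (@D3.rec (fun _ => Pt) (kg xg14 yg1 zg47) (kg xg23 yg59 zg2) (kg xg13 yg15 zg33) (kg xg15 yg18 zg24) (kg xg7 yg50 zg44) (kg xg14 yg0 zg51) (kg xg7 yg50 zg45) (kg xg14 yg5 zg8) (kg xg20 yg48 zg39) (kg xg14 yg29 zg12) (kg xg24 yg22 zg35) (kg xg22 yg5 zg47) (kg xg7 yg50 zg49) (kg xg18 yg18 zg21) (kg xg13 yg40 zg10) (kg xg23 yg53 zg23) (kg xg23 yg54 zg36) (kg xg7 yg50 zg55) (kg xg19 yg19 zg10) (kg xg22 yg20 zg8) (kg xg24 yg34 zg33) (kg xg24 yg6 zg27) (kg xg13 yg36 zg53) (kg xg24 yg34 zg39) (kg xg23 yg38 zg15) (kg xg7 yg51 zg29) (kg xg13 yg9 zg43) (kg xg14 yg51 zg38) (kg xg14 yg38 zg15) (kg xg15 yg18 zg23) (kg xg7 yg51 zg0) (kg xg19 yg8 zg33) (kg xg24 yg22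 zg26) (kg xg14 yg38 zg14) (kg xg23 yg27 zg0) (kg xg14 yg2 zg59) (kg xg20 yg20 zg42) (kg xg24 yg33 zg55) (kg xg16 yg11 zg23) (kg xg7 yg51 zg3) (kg xg24 yg34 zg51) (kg xg24 yg22 zg32) (kg xg7 yg54 zg39) (kg xg20 yg16 zg47) (kg xg13 yg40 zg0) (kg xg24 yg34 zg56) (kg xg14 yg25 zg21) (kg xg7 yg51 zg11) (kg xg14 yg25 zg20) (kg xg13 yg40 zg5) (kg xg24 yg35 zg1) (kg xg22 yg8 zg38) (kg xg14 yg46 zg16) (kg xg11 yg26 zg47) (kg xg7 yg51 zg15) (kg xg14 yg21 zg39) (kg xg11 yg26 zg45) (kg xg22 yg20 zg32) (kg xg19 yg56 zg53) (kg xg14 yg47 zg8) (kg xg14 yg1 zg50) (kg xg23 yg1 zg15)) (@D3.rec (fun _ => Pt) (kg xg7 yg54 zg3) (kg xg14 yg45 zg48) (kg xg7 yg51 zg18) (kg xg11 yg39 zg35) (kg xg14 yg45 zg46) (kg xg14 yg40 zg12) (kg xg20 yg9 zg50) (kg xg23 yg30 zg29) (kg xg13 yg22 zg8) (kg xg12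 yg30 zg23) (kg xg24 yg35 zg23) (kg xg16 yg46 zg18) (kg xg7 yg52 zg12) (kg xg24 yg35 zg26) (kg xg7 yg52 zg10) (kg xg7 yg51 zg24) (kg xg24 yg35 zg32) (kg xg14 yg51 zg28) (kg xg24 yg35 zg35) (kg xg7 yg52 zg32) (kg xg20 yg43 zg51) (kg xg7 yg52 zg29) (kg xg24 yg35 zg41) (kg xg13 yg36 zg36) (kg xg24 yg35 zg43) (kg xg13 yg36 zg28) (kg xg24 yg35 zg47) (kg xg22 yg13 zg0) (kg xg13 yg33 zg25) (kg xg7 yg51 zg32) (kg xg14 yg15 zg30) (kg xg14 yg19 zg2) (kg xg14 yg54 zg16) (kg xg7 yg51 zg50) (kg xg14 yg54 zg36) (kg xg14 yg55 zg1) (kg xg7 yg55 zg10) (kg xg14 yg54 zg14) (kg xg7 yg51 zg40) (kg xg23 yg23 zg37) (kg xg14 yg54 zg6) (kg xg14 yg2 zg22) (kg xg24 yg36 zg2) (kg xg14 yg28 zg60) (kg xg14 yg45 zg55) (kg xg7 yg51 zg46) (kg xg24 yg35 zg55) (kg xg7 yg51 zg48) (kg xg14 yg54 zg27) (kg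 xg24 yg36 zg5) (kg xg7 yg51 zg49) (kg xg24 yg36 zg8) (kg xg21 yg19 zg11) (kg xg8 yg33 zg43) (kg xg14 yg45 zg39) (kg xg24 yg36 zg13) (kg xg24 yg36 zg14) (kg xg14 yg3 zg19) (kg xg24 yg36 zg15) (kg xg9 yg26 zg24) (kg xg9 yg50 zg59) (kg xg21 yg18 zg35)) (@D3.rec (fun _ => Pt) (kg xg8 yg49 zg39) (kg xg11 yg12 zg0) (kg xg20 yg0 zg18) (kg xg11 yg12 zg8) (kg xg24 yg36 zg19) (kg xg16 yg53 zg46) (kg xg24 yg36 zg22) (kg xg9 yg46 zg20) (kg xg11 yg11 zg59) (kg xg21 yg37 zg37) (kg xg24 yg36 zg24) (kg xg16 yg46 zg7) (kg xg12 yg49 zg41) (kg xg7 yg51 zg61) (kg xg24 yg36 zg32) (kg xg10 yg49 zg15) (kg xg13 yg22 zg7) (kg xg13 yg22 zg10) (kg xg19 yg47 zg6) (kg xg24 yg36 zg37) (kg xg7 yg52 zg6) (kg xg20 yg9 zg41) (kg xg7 yg52 zg7) (kg xg7 yg52 zg3) (kg xg24 yg22 zg27) (kg xg15 yg53 zg32)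 (kg xg7 yg52 zg4) (kg xg7 yg52 zg5) (kg xg12 yg23 zg2) (kg xg8 yg46 zg37) (kg xg9 yg43 zg50) (kg xg24 yg36 zg45) (kg xg8 yg50 zg9) (kg xg21 yg9 zg38) (kg xg24 yg36 zg41) (kg xg23 yg1 zg50) (kg xg23 yg29 zg22) (kg xg11 yg19 zg34) (kg xg14 yg7 zg31) (kg xg14 yg21 zg43) (kg xg24 yg23 zg0) (kg xg19 yg54 zg14) (kg xg22 yg21 zg18) (kg xg24 yg35 zg30) (kg xg7 yg52 zg11) (kg xg21 yg54 zg8) (kg xg20 yg43 zg50) (kg xg24 yg35 zg27) (kg xg24 yg35 zg42) (kg xg21 yg40 zg12) (kg xg14 yg45 zg43) (kg xg24 yg37 zg8) (kg xg7 yg52 zg22) (kg xg7 yg52 zg16) (kg xg15 yg52 zg43) (kg xg8 yg37 zg48) (kg xg7 yg52 zg17) (kg xg15 yg53 zg30) (kg xg14 yg55 zg2) (kg xg8 yg9 zg58) (kg xg7 yg52 zg20) (kg xg15 yg29 zg61)) (@D3.rec (fun _ => Pt) (kg xg14 yg55 zg3) (kg xg7 yg52 zg21) (kg xg11 yg4 zg27)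 (kg xg24 yg37 zg22) (kg xg24 yg35 zg34) (kg xg7 yg52 zg23) (kg xg24 yg35 zg33) (kg xg16 yg50 zg38) (kg xg7 yg52 zg27) (kg xg15 yg23 zg3) (kg xg15 yg22 zg52) (kg xg7 yg52 zg26) (kg xg17 yg55 zg55) (kg xg24 yg35 zg36) (kg xg20 yg29 zg10) (kg xg24 yg37 zg33) (kg xg15 yg22 zg37) (kg xg16 yg49 zg21) (kg xg20 yg43 zg47) (kg xg20 yg41 zg32) (kg xg24 yg37 zg38) (kg xg20 yg43 zg48) (kg xg22 yg48 zg15) (kg xg24 yg37 zg39) (kg xg24 yg35 zg31) (kg xg7 yg52 zg33) (kg xg7 yg52 zg34) (kg xg24 yg37 zg48) (kg xg11 yg42 zg58) (kg xg24 yg37 zg53) (kg xg23 yg33 zg13) (kg xg23 yg8 zg35) (kg xg23 yg8 zg33) (kg xg7 yg52 zg38) (kg xg20 yg50 zg12) (kg xg16 yg4 zg50) (kg xg11 yg42 zg52) (kg xg24 yg38 zg1) (kg xg14 yg45 zg60) (kg xg13 yg43 zg26) (kg xg24 yg38 zg6) (kg xg20 yg29 zg14) (kg xg19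 yg49 zg27) (kg xg24 yg35 zg45) (kg xg7 yg52 zg42) (kg xg24 yg35 zg44) (kg xg23 yg10 zg58) (kg xg7 yg52 zg43) (kg xg14 yg28 zg61) (kg xg24 yg38 zg17) (kg xg14 yg55 zg19) (kg xg22 yg44 zg3) (kg xg24 yg1 zg39) (kg xg24 yg37 zg25) (kg xg24 yg35 zg48) (kg xg7 yg52 zg46) (kg xg24 yg38 zg29) (kg xg24 yg27 zg4) (kg xg24 yg38 zg32) (kg xg23 yg11 zg2) (kg xg7 yg52 zg50) (kg xg23 yg11 zg5)) (@D3.rec (fun _ => Pt) (kg xg22 yg19 zg61) (kg xg24 yg38 zg36) (kg xg13 yg18 zg39) (kg xg14 yg27 zg16) (kg xg24 yg27 zg13) (kg xg22 yg20 zg23) (kg xg24 yg35 zg50) (kg xg7 yg52 zg56) (kg xg24 yg35 zg49) (kg xg21 yg0 zg51) (kg xg7 yg52 zg57) (kg xg19 yg31 zg4) (kg xg19 yg31 zg18) (kg xg15 yg41 zg4) (kg xg24 yg38 zg46) (kg xg24 yg0 zg48) (kg xg7 yg52 zg60) (kg xg24 yg0 zg47) (kg xg14 yg19 zg3)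 (kg xg14 yg30 zg49) (kg xg24 yg38 zg58) (kg xg13 yg28 zg46) (kg xg7 yg53 zg1) (kg xg15 yg40 zg2) (kg xg24 yg39 zg2) (kg xg14 yg28 zg10) (kg xg7 yg53 zg2) (kg xg14 yg28 zg9) (kg xg19 yg56 zg40) (kg xg20 yg48 zg61) (kg xg14 yg32 zg45) (kg xg21 yg8 zg3) (kg xg11 yg44 zg60) (kg xg11 yg28 zg32) (kg xg11 yg44 zg57) (kg xg20 yg48 zg54) (kg xg11 yg45 zg50) (kg xg13 yg9 zg17) (kg xg24 yg10 zg36) (kg xg11 yg50 zg58) (kg xg24 yg39 zg16) (kg xg21 yg47 zg41) (kg xg24 yg39 zg13) (kg xg24 yg39 zg20) (kg xg24 yg39 zg23) (kg xg21 yg2 zg55) (kg xg9 yg10 zg35) (kg xg24 yg39 zg26) (kg xg11 yg42 zg33) (kg xg18 yg35 zg52) (kg xg11 yg43 zg61) (kg xg15 yg41 zg1) (kg xg13 yg8 zg21) (kg xg13 yg36 zg56) (kg xg19 yg37 zg9) (kg xg24 yg39 zg33) (kg xg23 yg24 zg2) (kg xg24 yg39 zg35) (kg xg10 yg40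 zg38) (kg xg7 yg54 zg2) (kg xg21 yg32 zg20) (kg xg14 yg32 zg48)) (@D3.rec (fun _ => Pt) (kg xg24 yg39 zg41) (kg xg13 yg8 zg11) (kg xg10 yg41 zg3) (kg xg7 yg53 zg33) (kg xg9 yg22 zg40) (kg xg10 yg41 zg35) (kg xg14 yg32 zg42) (kg xg24 yg39 zg45) (kg xg14 yg7 zg16) (kg xg24 yg39 zg47) (kg xg10 yg56 zg4) (kg xg24 yg16 zg34) (kg xg10 yg40 zg28) (kg xg7 yg53 zg37) (kg xg24 yg39 zg54) (kg xg24 yg21 zg54) (kg xg24 yg39 zg59) (kg xg10 yg40 zg30) (kg xg7 yg53 zg42) (kg xg22 yg53 zg51) (kg xg14 yg5 zg17) (kg xg23 yg27 zg52) (kg xg7 yg53 zg44) (kg xg23 yg41 zg16) (kg xg14 yg6 zg56) (kg xg24 yg17 zg48) (kg xg24 yg40 zg10) (kg xg23 yg41 zg39) (kg xg7 yg53 zg47) (kg xg23 yg41 zg38) (kg xg22 yg51 zg11) (kg xg13 yg29 zg33) (kg xg23 yg11 zg53) (kg xg13 yg41 zg54) (kg xg13 yg29 zg30)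 (kg xg22 yg51 zg28) (kg xg13 yg41 zg21) (kg xg7 yg53 zg50) (kg xg24 yg40 zg30) (kg xg24 yg40 zg32) (kg xg22 yg50 zg32) (kg xg7 yg53 zg51) (kg xg22 yg50 zg31) (kg xg13 yg30 zg28) (kg xg13 yg41 zg5) (kg xg13 yg22 zg35) (kg xg18 yg50 zg2) (kg xg13 yg22 zg33) (kg xg24 yg18 zg10) (kg xg16 yg22 zg45) (kg xg16 yg22 zg40) (kg xg13 yg23 zg47) (kg xg24 yg5 zg24) (kg xg24 yg40 zg44) (kg xg14 yg54 zg5) (kg xg22 yg27 zg8) (kg xg7 yg54 zg37) (kg xg14 yg2 zg4) (kg xg14 yg1 zg53) (kg xg7 yg53 zg59) (kg xg23 yg34 zg27) (kg xg24 yg40 zg59)) (@D3.rec (fun _ => Pt) (kg xg24 yg41 zg0) (kg xg24 yg34 zg11) (kg xg14 yg55 zg30) (kg xg7 yg53 zg61) (kg xg14 yg55 zg29) (kg xg13 yg52 zg55) (kg xg14 yg49 zg54) (kg xg7 yg54 zg1) (kg xg22 yg10 zg59) (kg xg13 yg53 zg29) (kg xg14 yg19 zg20) (kg xg14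 yg55 zg60) (kg xg7 yg54 zg14) (kg xg7 yg54 zg28) (kg xg14 yg49 zg38) (kg xg14 yg49 zg32) (kg xg7 yg54 zg7) (kg xg23 yg36 zg25) (kg xg19 yg5 zg41) (kg xg24 yg41 zg21) (kg xg21 yg8 zg25) (kg xg14 yg55 zg51) (kg xg7 yg54 zg9) (kg xg14 yg55 zg50) (kg xg24 yg32 zg23) (kg xg13 yg53 zg20) (kg xg12 yg48 zg35) (kg xg12 yg47 zg61) (kg xg13 yg53 zg17) (kg xg11 yg19 zg35) (kg xg12 yg25 zg46) (kg xg24 yg41 zg38) (kg xg12 yg16 zg40) (kg xg23 yg23 zg44) (kg xg7 yg54 zg13) (kg xg23 yg23 zg43) (kg xg12 yg47 zg58) (kg xg23 yg36 zg15) (kg xg12 yg48 zg22) (kg xg24 yg41 zg47) (kg xg12 yg0 zg47) (kg xg14 yg56 zg12) (kg xg7 yg54 zg16) (kg xg12 yg48 zg39) (kg xg14 yg55 zg41) (kg xg18 yg6 zg7) (kg xg24 yg41 zg55) (kg xg23 yg34 zg56) (kg xg14 yg56 zg5) (kg xg7 yg54 zg19) (kg xg14 yg56 zg4) (kg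 xg24 yg42 zg4) (kg xg21 yg34 zg42) (kg xg24 yg35 zg54) (kg xg24 yg41 zg60) (kg xg7 yg54 zg22) (kg xg14 yg56 zg14) (kg xg24 yg42 zg11) (kg xg24 yg42 zg14) (kg xg24 yg42 zg3) (kg xg24 yg32 zg34) (kg xg24 yg42 zg21)) (@D3.rec (fun _ => Pt) (kg xg14 yg55 zg9) (kg xg14 yg55 zg8) (kg xg7 yg54 zg29) (kg xg14 yg51 zg1) (kg xg7 yg54 zg30) (kg xg14 yg53 zg56) (kg xg13 yg55 zg24) (kg xg23 yg40 zg11) (kg xg7 yg54 zg32) (kg xg14 yg54 zg13) (kg xg19 yg45 zg34) (kg xg23 yg29 zg33) (kg xg14 yg56 zg18) (kg xg7 yg54 zg35) (kg xg24 yg42 zg34) (kg xg14 yg55 zg5) (kg xg14 yg55 zg4) (kg xg21 yg14 zg32) (kg xg24 yg42 zg37) (kg xg14 yg3 zg7) (kg xg14 yg6 zg8) (kg xg23 yg26 zg38) (kg xg23 yg36 zg7) (kg xg13 yg53 zg25) (kg xg13 yg54 zg1) (kg xg24 yg42 zg45) (kg xg24 yg30 zg49) (kg xg24 yg41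 zg28) (kg xg14 yg54 zg4) (kg xg7 yg54 zg45) (kg xg14 yg54 zg3) (kg xg14 yg28 zg40) (kg xg14 yg2 zg1) (kg xg14 yg46 zg27) (kg xg22 yg8 zg26) (kg xg24 yg42 zg58) (kg xg7 yg55 zg9) (kg xg7 yg54 zg49) (kg xg14 yg18 zg58) (kg xg14 yg54 zg44) (kg xg22 yg28 zg17) (kg xg7 yg55 zg0) (kg xg14 yg46 zg25) (kg xg14 yg46 zg20) (kg xg7 yg54 zg53) (kg xg23 yg22 zg60) (kg xg24 yg43 zg12) (kg xg24 yg43 zg15) (kg xg24 yg41 zg5) (kg xg14 yg54 zg23) (kg xg7 yg54 zg55) (kg xg14 yg54 zg22) (kg xg14 yg46 zg12) (kg xg14 yg3 zg8) (kg xg24 yg43 zg23) (kg xg13 yg20 zg34) (kg xg18 yg25 zg30) (kg xg23 yg36 zg28) (kg xg7 yg54 zg58) (kg xg16 yg2 zg36) (kg xg14 yg54 zg12) (kg xg23 yg23 zg24)) (@D3.rec (fun _ => Pt) (kg xg24 yg43 zg32) (kg xg23 yg24 zg20) (kg xg12 yg40 zg31) (kg xg14 yg54 zg50) (kg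 xg7 yg54 zg61) (kg xg14 yg54 zg49) (kg xg14 yg46 zg23) (kg xg12 yg35 zg53) (kg xg21 yg40 zg56) (kg xg24 yg43 zg37) (kg xg21 yg6 zg0) (kg xg14 yg54 zg43) (kg xg14 yg54 zg42) (kg xg14 yg54 zg56) (kg xg7 yg55 zg3) (kg xg14 yg54 zg55) (kg xg21 yg33 zg3) (kg xg24 yg43 zg48) (kg xg14 yg55 zg13) (kg xg14 yg56 zg29) (kg xg24 yg43 zg51) (kg xg14 yg2 zg31) (kg xg16 yg10 zg47) (kg xg21 yg56 zg32) (kg xg24 yg43 zg3) (kg xg22 yg27 zg10) (kg xg8 yg5 zg11) (kg xg13 yg58 zg26) (kg xg14 yg56 zg19) (kg xg7 yg55 zg8) (kg xg15 yg13 zg20) (kg xg23 yg31 zg37) (kg xg14 yg3 zg44) (kg xg14 yg47 zg7) (kg xg7 yg55 zg11) (kg xg14 yg45 zg7) (kg xg24 yg44 zg4) (kg xg12 yg53 zg11) (kg xg11 yg45 zg27) (kg xg12 yg58 zg59) (kg xg7 yg55 zg14) (kg xg12 yg58 zg58) (kg xg15 yg19 zg5) (kg xg9 yg37 zg18)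 (kg xg24 yg44 zg7) (kg xg21 yg32 zg48) (kg xg11 yg9 zg44) (kg xg7 yg55 zg19) (kg xg13 yg4 zg28) (kg xg24 yg44 zg9) (kg xg24 yg44 zg13) (kg xg18 yg46 zg49) (kg xg24 yg44 zg20) (kg xg18 yg46 zg46) (kg xg13 yg3 zg57) (kg xg22 yg30 zg47) (kg xg24 yg44 zg24) (kg xg8 yg8 zg1) (kg xg8 yg40 zg24) (kg xg8 yg22 zg53) (kg xg17 yg38 zg60) (kg xg7 yg55 zg27)) (@D3.rec (fun _ => Pt) (kg xg17 yg38 zg59) (kg xg17 yg38 zg49) (kg xg24 yg44 zg35) (kg xg15 yg49 zg57) (kg xg8 yg35 zg57) (kg xg8 yg36 zg27) (kg xg7 yg55 zg31) (kg xg15 yg56 zg46) (kg xg8 yg40 zg59) (kg xg7 yg55 zg33) (kg xg8 yg40 zg58) (kg xg24 yg44 zg42) (kg xg8 yg40 zg44) (kg xg8 yg39 zg58) (kg xg8 yg42 zg44) (kg xg7 yg56 zg9) (kg xg14 yg58 zg5) (kg xg8 yg40 zg40) (kg xg7 yg55 zg38) (kg xg8 yg40 zg39) (kg xg24 yg44 zg50)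 (kg xg24 yg44 zg54) (kg xg8 yg36 zg35) (kg xg8 yg25 zg16) (kg xg9 yg36 zg47) (kg xg15 yg57 zg5) (kg xg8 yg41 zg52) (kg xg15 yg20 zg25) (kg xg7 yg55 zg52) (kg xg16 yg12 zg28) (kg xg8 yg41 zg61) (kg xg8 yg42 zg32) (kg xg8 yg18 zg58) (kg xg7 yg55 zg55) (kg xg8 yg41 zg55) (kg xg7 yg55 zg51) (kg xg8 yg41 zg54) (kg xg24 yg45 zg4) (kg xg17 yg36 zg58) (kg xg8 yg41 zg20) (kg xg8 yg41 zg47) (kg xg7 yg55 zg53) (kg xg8 yg41 zg46) (kg xg16 yg19 zg5) (kg xg24 yg45 zg9) (kg xg8 yg3 zg60) (kg xg18 yg28 zg47) (kg xg8 yg41 zg43) (kg xg7 yg55 zg57) (kg xg7 yg55 zg60) (kg xg18 yg4 zg36) (kg xg24 yg45 zg18) (kg xg24 yg45 zg23) (kg xg7 yg55 zg58) (kg xg24 yg45 zg27) (kg xg24 yg45 zg19) (kg xg21 yg56 zg13) (kg xg8 yg45 zg4) (kg xg8 yg45 zg5) (kg xg7 yg55 zg59) (kg xg17 yg39 zg54) (kg xg9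 yg54 zg0)) (@D3.rec (fun _ => Pt) (kg xg8 yg42 zg23) (kg xg7 yg55 zg61) (kg xg8 yg42 zg22) (kg xg24 yg45 zg40) (kg xg8 yg17 zg54) (kg xg15 yg34 zg53) (kg xg8 yg41 zg22) (kg xg14 yg57 zg16) (kg xg16 yg5 zg45) (kg xg8 yg24 zg38) (kg xg19 yg16 zg32) (kg xg24 yg45 zg46) (kg xg7 yg56 zg6) (kg xg17 yg37 zg15) (kg xg8 yg43 zg17) (kg xg7 yg56 zg8) (kg xg8 yg43 zg16) (kg xg22 yg14 zg50) (kg xg9 yg52 zg54) (kg xg8 yg40 zg49) (kg xg9 yg36 zg32) (kg xg8 yg43 zg28) (kg xg19 yg10 zg38) (kg xg18 yg35 zg59) (kg xg8 yg43 zg4) (kg xg7 yg56 zg16) (kg xg17 yg57 zg5) (kg xg8 yg43 zg2) (kg xg8 yg47 zg45) (kg xg17 yg52 zg5) (kg xg8 yg43 zg48) (kg xg7 yg56 zg19) (kg xg8 yg43 zg46) (kg xg19 yg20 zg43) (kg xg18 yg57 zg7) (kg xg8 yg44 zg3) (kg xg7 yg56 zg21) (kg xg8 yg44 zg1) (kg xg8 yg44 zg14)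 (kg xg7 yg56 zg22) (kg xg8 yg44 zg13) (kg xg19 yg21 zg23) (kg xg24 yg46 zg5) (kg xg24 yg46 zg8) (kg xg20 yg9 zg14) (kg xg10 yg29 zg59) (kg xg13 yg41 zg41) (kg xg20 yg7 zg41) (kg xg13 yg18 zg28) (kg xg20 yg8 zg24) (kg xg7 yg56 zg27) (kg xg14 yg15 zg16) (kg xg20 yg59 zg46) (kg xg24 yg46 zg19) (kg xg24 yg46 zg6) (kg xg19 yg0 zg31) (kg xg7 yg56 zg28) (kg xg18 yg59 zg48) (kg xg24 yg46 zg26) (kg xg8 yg44 zg7) (kg xg10 yg41 zg50) (kg xg24 yg46 zg30)) (@D3.rec (fun _ => Pt) (kg xg7 yg56 zg31) (kg xg21 yg4 zg15) (kg xg8 yg44 zg56) (kg xg16 yg52 zg38) (kg xg22 yg51 zg15) (kg xg8 yg45 zg2) (kg xg7 yg56 zg33) (kg xg8 yg45 zg1) (kg xg8 yg42 zg11) (kg xg7 yg56 zg34) (kg xg8 yg42 zg13) (kg xg24 yg46 zg40) (kg xg8 yg45 zg10) (kg xg7 yg56 zg35) (kg xg24 yg46 zg47) (kg xg8 yg45 zg8)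 (kg xg21 yg53 zg3) (kg xg15 yg7 zg39) (kg xg16 yg33 zg3) (kg xg8 yg52 zg41) (kg xg16 yg52 zg58) (kg xg8 yg1 zg9) (kg xg8 yg45 zg21) (kg xg8 yg45 zg19) (kg xg7 yg56 zg39) (kg xg8 yg5 zg15) (kg xg16 yg32 zg53) (kg xg9 yg25 zg30) (kg xg8 yg2 zg34) (kg xg14 yg44 zg22) (kg xg8 yg2 zg39) (kg xg8 yg2 zg24) (kg xg13 yg23 zg16) (kg xg16 yg32 zg60) (kg xg13 yg42 zg3) (kg xg16 yg51 zg20) (kg xg8 yg46 zg57) (kg xg19 yg34 zg16) (kg xg20 yg0 zg59) (kg xg20 yg0 zg60) (kg xg15 yg8 zg47) (kg xg24 yg47 zg6) (kg xg16 yg23 zg13) (kg xg20 yg31 zg36) (kg xg9 yg9 zg39) (kg xg20 yg30 zg47) (kg xg7 yg56 zg61) (kg xg20 yg30 zg46) (kg xg15 yg0 zg34) (kg xg12 yg7 zg8) (kg xg16 yg33 zg30) (kg xg16 yg32 zg27) (kg xg8 yg47 zg59) (kg xg16 yg10 zg60) (kg xg8 yg47 zg57) (kg xg24 yg47 zg16) (kg xg20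 yg6 zg24) (kg xg11 yg7 zg44) (kg xg21 yg2 zg36) (kg xg8 yg46 zg7) (kg xg13 yg39 zg12) (kg xg11 yg13 zg45))
def f_g_15 : D2 → D3 → Pt := @D2.rec (fun _ => D3 → Pt) (@D3.rec (fun _ => Pt) (kg xg20 yg0 zg0) (kg xg7 yg57 zg24) (kg xg7 yg57 zg14) (kg xg7 yg57 zg23) (kg xg21 yg38 zg7) (kg xg11 yg12 zg21) (kg xg7 yg57 zg18) (kg xg8 yg50 zg37) (kg xg19 yg47 zg27) (kg xg11 yg14 zg13) (kg xg7 yg57 zg21) (kg xg19 yg58 zg46) (kg xg24 yg47 zg19) (kg xg14 yg40 zg11) (kg xg24 yg47 zg31) (kg xg24 yg47 zg25) (kg xg16 yg28 zg9) (kg xg19 yg57 zg43) (kg xg24 yg47 zg32) (kg xg11 yg0 zg23) (kg xg8 yg51 zg14) (kg xg8 yg51 zg13) (kg xg22 yg51 zg37) (kg xg23 yg20 zg55) (kg xg7 yg57 zg29) (kg xg7 yg57 zg26) (kg xg24 yg47 zg47) (kg xg24 yg46 zg1) (kg xg7 yg57 zg27) (kg xg8 yg51 zg11) (kg xg17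 yg0 zg19) (kg xg22 yg51 zg21) (kg xg20 yg32 zg12) (kg xg24 yg47 zg48) (kg xg14 yg59 zg50) (kg xg24 yg47 zg56) (kg xg10 yg9 zg57) (kg xg18 yg34 zg5) (kg xg18 yg34 zg51) (kg xg10 yg9 zg49) (kg xg9 yg58 zg33) (kg xg18 yg30 zg31) (kg xg7 yg57 zg33) (kg xg18 yg30 zg30) (kg xg24 yg48 zg13) (kg xg9 yg56 zg24) (kg xg7 yg57 zg34) (kg xg24 yg48 zg18) (kg xg18 yg11 zg16) (kg xg7 yg57 zg35) (kg xg18 yg11 zg15) (kg xg24 yg48 zg26) (kg xg10 yg10 zg7) (kg xg24 yg48 zg30) (kg xg24 yg48 zg32) (kg xg15 yg41 zg48) (kg xg15 yg41 zg59) (kg xg24 yg48 zg37) (kg xg10 yg19 zg18) (kg xg24 yg48 zg40) (kg xg24 yg48 zg42) (kg xg15 yg1 zg31)) (@D3.rec (fun _ => Pt) (kg xg15 yg1 zg36) (kg xg7 yg57 zg42) (kg xg7 yg58 zg16) (kg xg15 yg1 zg28) (kg xg24 yg48 zg48) (kg xg7 yg58 zg25) (kg xg7 yg58 zg23)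 (kg xg19 yg42 zg39) (kg xg7 yg57 zg45) (kg xg24 yg48 zg52) (kg xg24 yg48 zg60) (kg xg24 yg48 zg54) (kg xg24 yg49 zg3) (kg xg15 yg29 zg31) (kg xg19 yg20 zg27) (kg xg8 yg56 zg21) (kg xg8 yg9 zg53) (kg xg16 yg5 zg0) (kg xg8 yg20 zg59) (kg xg7 yg57 zg52) (kg xg15 yg42 zg54) (kg xg24 yg49 zg15) (kg xg8 yg35 zg1) (kg xg19 yg32 zg2) (kg xg8 yg37 zg35) (kg xg7 yg57 zg55) (kg xg8 yg37 zg33) (kg xg24 yg49 zg25) (kg xg15 yg0 zg61) (kg xg24 yg49 zg23) (kg xg19 yg32 zg49) (kg xg15 yg1 zg3) (kg xg11 yg5 zg17) (kg xg19 yg42 zg17) (kg xg7 yg57 zg58) (kg xg19 yg12 zg36) (kg xg15 yg2 zg13) (kg xg24 yg49 zg43) (kg xg7 yg58 zg6) (kg xg11 yg29 zg34) (kg xg11 yg5 zg59) (kg xg7 yg57 zg60) (kg xg24 yg49 zg54) (kg xg10 yg47 zg30) (kg xg11 yg6 zg0) (kg xg8 yg11 zg38) (kg xg24 yg49 zg60) (kg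 xg8 yg11 zg37) (kg xg15 yg24 zg46) (kg xg24 yg50 zg1) (kg xg10 yg50 zg16) (kg xg8 yg18 zg10) (kg xg24 yg48 zg33) (kg xg7 yg58 zg5) (kg xg19 yg37 zg4) (kg xg24 yg50 zg11) (kg xg24 yg50 zg14) (kg xg24 yg50 zg18) (kg xg11 yg10 zg27) (kg xg7 yg58 zg7) (kg xg24 yg50 zg24) (kg xg15 yg27 zg61)) (@D3.rec (fun _ => Pt) (kg xg11 yg5 zg6) (kg xg8 yg44 zg44) (kg xg24 yg50 zg30) (kg xg15 yg29 zg36) (kg xg10 yg40 zg52) (kg xg7 yg58 zg12) (kg xg10 yg40 zg55) (kg xg18 yg33 zg26) (kg xg24 yg50 zg39) (kg xg7 yg58 zg13) (kg xg24 yg50 zg43) (kg xg19 yg20 zg19) (kg xg7 yg58 zg14) (kg xg10 yg54 zg20) (kg xg16 yg39 zg16) (kg xg17 yg47 zg20) (kg xg7 yg58 zg28) (kg xg10 yg11 zg52) (kg xg15 yg51 zg55) (kg xg24 yg48 zg43) (kg xg7 yg58 zg19) (kg xg19 yg45 zg7) (kg xg24 yg50 zg52) (kg xg24 yg50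 zg56) (kg xg24 yg50 zg60) (kg xg24 yg48 zg51) (kg xg7 yg58 zg21) (kg xg24 yg51 zg7) (kg xg24 yg48 zg49) (kg xg15 yg20 zg3) (kg xg15 yg29 zg35) (kg xg7 yg58 zg31) (kg xg18 yg17 zg49) (kg xg15 yg19 zg59) (kg xg7 yg58 zg26) (kg xg15 yg19 zg58) (kg xg24 yg51 zg19) (kg xg24 yg51 zg23) (kg xg24 yg51 zg24) (kg xg10 yg59 zg42) (kg xg16 yg39 zg15) (kg xg16 yg39 zg13) (kg xg7 yg58 zg29) (kg xg16 yg39 zg12) (kg xg24 yg51 zg35) (kg xg24 yg51 zg39) (kg xg24 yg34 zg5) (kg xg24 yg51 zg46) (kg xg9 yg43 zg58) (kg xg24 yg51 zg30) (kg xg19 yg58 zg1) (kg xg18 yg2 zg21) (kg xg10 yg40 zg46) (kg xg10 yg48 zg48) (kg xg12 yg57 zg58) (kg xg19 yg32 zg61) (kg xg19 yg42 zg40) (kg xg7 yg58 zg35) (kg xg24 yg51 zg55) (kg xg24 yg51 zg15) (kg xg24 yg33 zg19) (kg xg24 yg51 zg29)) (@D3.rec (fun _ => Pt)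 (kg xg24 yg52 zg0) (kg xg22 yg22 zg13) (kg xg11 yg2 zg33) (kg xg24 yg49 zg5) (kg xg7 yg58 zg39) (kg xg24 yg49 zg4) (kg xg24 yg52 zg9) (kg xg15 yg27 zg41) (kg xg7 yg58 zg41) (kg xg19 yg38 zg17) (kg xg9 yg33 zg22) (kg xg15 yg28 zg29) (kg xg18 yg9 zg0) (kg xg15 yg41 zg49) (kg xg24 yg52 zg21) (kg xg15 yg53 zg38) (kg xg7 yg58 zg45) (kg xg9 yg35 zg25) (kg xg15 yg53 zg36) (kg xg18 yg2 zg39) (kg xg18 yg2 zg44) (kg xg15 yg11 zg50) (kg xg8 yg54 zg54) (kg xg9 yg51 zg45) (kg xg10 yg12 zg13) (kg xg9 yg58 zg34) (kg xg9 yg40 zg53) (kg xg10 yg49 zg29) (kg xg19 yg43 zg11) (kg xg24 yg50 zg35) (kg xg24 yg52 zg41) (kg xg19 yg50 zg38) (kg xg19 yg49 zg58) (kg xg10 yg48 zg51) (kg xg12 yg58 zg7) (kg xg19 yg46 zg50) (kg xg19 yg47 zg5) (kg xg19 yg6 zg14) (kg xg24 yg52 zg42) (kg xg24 yg52 zg50)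 (kg xg19 yg50 zg33) (kg xg19 yg39 zg54) (kg xg19 yg50 zg24) (kg xg7 yg59 zg2) (kg xg24 yg52 zg53) (kg xg20 yg50 zg50) (kg xg8 yg39 zg42) (kg xg12 yg8 zg21) (kg xg11 yg12 zg54) (kg xg7 yg59 zg38) (kg xg24 yg52 zg57) (kg xg11 yg6 zg46) (kg xg11 yg6 zg44) (kg xg9 yg44 zg44) (kg xg12 yg7 zg20) (kg xg19 yg1 zg14) (kg xg24 yg53 zg2) (kg xg14 yg20 zg13) (kg xg20 yg8 zg60) (kg xg11 yg12 zg7) (kg xg9 yg2 zg41) (kg xg18 yg48 zg37)) (@D3.rec (fun _ => Pt) (kg xg15 yg13 zg42) (kg xg16 yg8 zg33) (kg xg22 yg50 zg8) (kg xg20 yg18 zg49) (kg xg7 yg59 zg28) (kg xg9 yg1 zg53) (kg xg11 yg7 zg31) (kg xg11 yg13 zg5) (kg xg16 yg53 zg45) (kg xg16 yg55 zg39) (kg xg7 yg59 zg44) (kg xg7 yg59 zg32) (kg xg7 yg59 zg43) (kg xg20 yg15 zg9) (kg xg7 yg59 zg37) (kg xg9 yg1 zg22) (kg xg9 yg1 zg61) (kg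 xg10 yg59 zg31) (kg xg24 yg53 zg12) (kg xg24 yg46 zg16) (kg xg10 yg43 zg19) (kg xg23 yg35 zg43) (kg xg7 yg59 zg40) (kg xg24 yg53 zg7) (kg xg24 yg53 zg11) (kg xg13 yg11 zg1) (kg xg15 yg5 zg31) (kg xg20 yg10 zg37) (kg xg15 yg5 zg25) (kg xg20 yg25 zg5) (kg xg19 yg39 zg30) (kg xg24 yg52 zg58) (kg xg7 yg59 zg45) (kg xg9 yg46 zg41) (kg xg24 yg53 zg19) (kg xg11 yg7 zg38) (kg xg11 yg4 zg56) (kg xg11 yg14 zg8) (kg xg24 yg5 zg26) (kg xg24 yg47 zg26) (kg xg15 yg26 zg19) (kg xg20 yg18 zg42) (kg xg12 yg9 zg39) (kg xg12 yg9 zg40) (kg xg21 yg2 zg38) (kg xg9 yg6 zg42) (kg xg8 yg48 zg5) (kg xg17 yg1 zg13) (kg xg20 yg38 zg40) (kg xg11 yg37 zg4) (kg xg17 yg57 zg28) (kg xg11 yg33 zg8) (kg xg11 yg32 zg1) (kg xg13 yg32 zg61) (kg xg11 yg38 zg10) (kg xg11 yg47 zg9) (kg xg11 yg31 zg46) (kg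 xg24 yg53 zg28) (kg xg10 yg44 zg20) (kg xg11 yg32 zg2) (kg xg11 yg33 zg18) (kg xg23 yg34 zg32)) (@D3.rec (fun _ => Pt) (kg xg11 yg12 zg3) (kg xg8 yg0 zg41) (kg xg13 yg10 zg60) (kg xg19 yg27 zg20) (kg xg11 yg33 zg23) (kg xg21 yg37 zg44) (kg xg11 yg49 zg30) (kg xg8 yg0 zg45) (kg xg10 yg43 zg55) (kg xg11 yg27 zg9) (kg xg20 yg59 zg50) (kg xg9 yg5 zg60) (kg xg9 yg41 zg61) (kg xg11 yg58 zg61) (kg xg10 yg6 zg57) (kg xg9 yg13 zg26) (kg xg18 yg23 zg28) (kg xg24 yg23 zg24) (kg xg12 yg49 zg31) (kg xg12 yg49 zg51) (kg xg11 yg12 zg2) (kg xg17 yg6 zg18) (kg xg13 yg11 zg3) (kg xg8 yg0 zg49) (kg xg11 yg48 zg17) (kg xg15 yg4 zg26) (kg xg11 yg49 zg34) (kg xg8 yg0 zg50) (kg xg8 yg0 zg46) (kg xg12 yg9 zg26) (kg xg20 yg52 zg30) (kg xg15 yg4 zg28) (kg xg20 yg8 zg35) (kg xg9 yg24 zg42) (kg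 xg9 yg6 zg2) (kg xg9 yg24 zg38) (kg xg24 yg53 zg41) (kg xg19 yg23 zg23) (kg xg9 yg50 zg61) (kg xg8 yg0 zg54) (kg xg8 yg0 zg55) (kg xg9 yg50 zg56) (kg xg23 yg46 zg27) (kg xg11 yg23 zg9) (kg xg9 yg47 zg5) (kg xg11 yg23 zg24) (kg xg24 yg53 zg46) (kg xg24 yg53 zg50) (kg xg11 yg23 zg28) (kg xg21 yg29 zg59) (kg xg8 yg1 zg6) (kg xg18 yg49 zg31) (kg xg24 yg53 zg58) (kg xg15 yg6 zg57) (kg xg8 yg1 zg8) (kg xg15 yg6 zg59) (kg xg18 yg28 zg28) (kg xg24 yg47 zg50) (kg xg8 yg45 zg16) (kg xg20 yg10 zg43) (kg xg16 yg26 zg50) (kg xg16 yg20 zg33)) (@D3.rec (fun _ => Pt) (kg xg16 yg20 zg19) (kg xg9 yg46 zg60) (kg xg24 yg54 zg7) (kg xg15 yg7 zg47) (kg xg15 yg7 zg45) (kg xg8 yg1 zg13) (kg xg16 yg25 zg44) (kg xg16 yg25 zg45) (kg xg14 yg59 zg44) (kg xg11 yg20 zg49) (kg xg8 yg1 zg16) (kg xg9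 yg46 zg58) (kg xg21 yg29 zg54) (kg xg8 yg1 zg17) (kg xg24 yg54 zg18) (kg xg21 yg29 zg52) (kg xg17 yg2 zg34) (kg xg24 yg54 zg22) (kg xg16 yg25 zg7) (kg xg16 yg24 zg56) (kg xg24 yg54 zg23) (kg xg24 yg54 zg28) (kg xg20 yg34 zg34) (kg xg24 yg54 zg31) (kg xg21 yg28 zg55) (kg xg8 yg1 zg25) (kg xg8 yg1 zg22) (kg xg16 yg33 zg0) (kg xg16 yg20 zg52) (kg xg8 yg1 zg24) (kg xg14 yg59 zg28) (kg xg16 yg24 zg40) (kg xg13 yg30 zg15) (kg xg20 yg6 zg2) (kg xg16 yg33 zg2) (kg xg16 yg20 zg48) (kg xg15 yg8 zg48) (kg xg8 yg46 zg53) (kg xg14 yg59 zg30) (kg xg9 yg38 zg49) (kg xg24 yg54 zg44) (kg xg8 yg1 zg28) (kg xg17 yg38 zg56) (kg xg15 yg30 zg7) (kg xg8 yg1 zg31) (kg xg9 yg39 zg2) (kg xg8 yg1 zg35) (kg xg8 yg1 zg38) (kg xg16 yg16 zg43) (kg xg18 yg4 zg49) (kg xg24 yg54 zg54) (kg xg12 yg31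 zg22) (kg xg8 yg1 zg36) (kg xg24 yg54 zg58) (kg xg17 yg39 zg4) (kg xg15 yg23 zg29) (kg xg16 yg16 zg57) (kg xg15 yg5 zg54) (kg xg15 yg5 zg55) (kg xg8 yg1 zg37) (kg xg24 yg55 zg10) (kg xg24 yg55 zg14)) (@D3.rec (fun _ => Pt) (kg xg9 yg38 zg32) (kg xg8 yg1 zg39) (kg xg9 yg38 zg31) (kg xg17 yg41 zg37) (kg xg15 yg13 zg17) (kg xg8 yg1 zg54) (kg xg8 yg43 zg42) (kg xg22 yg51 zg60) (kg xg24 yg55 zg25) (kg xg24 yg55 zg30) (kg xg9 yg44 zg42) (kg xg22 yg51 zg29) (kg xg24 yg55 zg26) (kg xg17 yg54 zg43) (kg xg8 yg1 zg57) (kg xg8 yg1 zg52) (kg xg16 yg21 zg56) (kg xg24 yg55 zg42) (kg xg11 yg14 zg17) (kg xg24 yg55 zg46) (kg xg24 yg55 zg51) (kg xg24 yg55 zg47) (kg xg17 yg54 zg32) (kg xg24 yg55 zg21) (kg xg8 yg1 zg55) (kg xg24 yg56 zg3) (kg xg17 yg41 zg4) (kg xg24 yg56 zg11) (kg xg24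 yg55 zg38) (kg xg24 yg55 zg44) (kg xg8 yg1 zg56) (kg xg24 yg55 zg43) (kg xg24 yg56 zg17) (kg xg17 yg57 zg17) (kg xg9 yg38 zg21) (kg xg8 yg1 zg59) (kg xg9 yg38 zg23) (kg xg18 yg4 zg7) (kg xg16 yg33 zg7) (kg xg14 yg59 zg21) (kg xg21 yg7 zg54) (kg xg17 yg57 zg6) (kg xg17 yg54 zg36) (kg xg11 yg15 zg31) (kg xg24 yg56 zg34) (kg xg15 yg6 zg5) (kg xg15 yg6 zg3) (kg xg8 yg2 zg2) (kg xg24 yg56 zg42) (kg xg13 yg47 zg30) (kg xg15 yg23 zg31) (kg xg19 yg18 zg37) (kg xg17 yg59 zg50) (kg xg8 yg50 zg19) (kg xg11 yg1 zg40) (kg xg24 yg56 zg47) (kg xg20 yg4 zg46) (kg xg8 yg5 zg1) (kg xg24 yg56 zg49) (kg xg8 yg2 zg18) (kg xg22 yg47 zg24) (kg xg8 yg48 zg27)) (@D3.rec (fun _ => Pt) (kg xg17 yg57 zg7) (kg xg13 yg49 zg56) (kg xg8 yg47 zg34) (kg xg8 yg45 zg54) (kg xg8 yg2 zg29) (kg xg8 yg2 zg23)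 (kg xg8 yg2 zg28) (kg xg24 yg46 zg59) (kg xg23 yg3 zg31) (kg xg24 yg56 zg57) (kg xg8 yg46 zg30) (kg xg24 yg53 zg22) (kg xg24 yg56 zg61) (kg xg21 yg38 zg20) (kg xg9 yg7 zg61) (kg xg12 yg10 zg60) (kg xg24 yg57 zg0) (kg xg10 yg59 zg13) (kg xg10 yg57 zg14) (kg xg8 yg2 zg30) (kg xg20 yg25 zg4) (kg xg8 yg47 zg28) (kg xg8 yg2 zg31) (kg xg24 yg57 zg12) (kg xg12 yg6 zg1) (kg xg8 yg2 zg32) (kg xg16 yg33 zg46) (kg xg12 yg5 zg61) (kg xg15 yg6 zg30) (kg xg15 yg6 zg29) (kg xg24 yg57 zg23) (kg xg22 yg51 zg7) (kg xg15 yg55 zg55) (kg xg8 yg2 zg38) (kg xg8 yg2 zg35) (kg xg24 yg47 zg44) (kg xg24 yg45 zg59) (kg xg8 yg2 zg36) (kg xg12 yg22 zg43) (kg xg8 yg2 zg37) (kg xg8 yg45 zg45) (kg xg11 yg36 zg22) (kg xg22 yg50 zg16) (kg xg10 yg26 zg44) (kg xg24 yg47 zg46) (kg xg15 yg23 zg37) (kg xg15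 yg6 zg38) (kg xg14 yg59 zg41) (kg xg8 yg45 zg56) (kg xg21 yg10 zg59) (kg xg24 yg57 zg45) (kg xg8 yg46 zg41) (kg xg24 yg57 zg48) (kg xg24 yg57 zg51) (kg xg10 yg31 zg43) (kg xg8 yg8 zg51) (kg xg15 yg21 zg28) (kg xg8 yg2 zg44) (kg xg15 yg21 zg36) (kg xg10 yg55 zg41) (kg xg18 yg36 zg47) (kg xg24 yg57 zg53)) (@D3.rec (fun _ => Pt) (kg xg11 yg57 zg0) (kg xg8 yg2 zg47) (kg xg8 yg6 zg38) (kg xg8 yg2 zg48) (kg xg24 yg57 zg55) (kg xg8 yg2 zg49) (kg xg24 yg57 zg56) (kg xg24 yg58 zg5) (kg xg24 yg57 zg61) (kg xg8 yg54 zg13) (kg xg8 yg54 zg11) (kg xg8 yg2 zg54) (kg xg8 yg8 zg41) (kg xg24 yg58 zg10) (kg xg19 yg57 zg13) (kg xg8 yg8 zg21) (kg xg16 yg22 zg54) (kg xg15 yg14 zg42) (kg xg15 yg14 zg9) (kg xg8 yg2 zg58) (kg xg8 yg8 zg30) (kg xg8 yg8 zg18) (kg xg8 yg2 zg60) (kg xg8 yg8 zg17)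 (kg xg24 yg58 zg22) (kg xg8 yg8 zg47) (kg xg8 yg2 zg61) (kg xg21 yg2 zg3) (kg xg8 yg8 zg45) (kg xg8 yg9 zg34) (kg xg10 yg59 zg6) (kg xg24 yg58 zg33) (kg xg24 yg58 zg36) (kg xg24 yg58 zg38) (kg xg17 yg51 zg44) (kg xg15 yg54 zg5) (kg xg8 yg39 zg29) (kg xg15 yg16 zg20) (kg xg8 yg8 zg29) (kg xg9 yg37 zg41) (kg xg16 yg8 zg26) (kg xg23 yg43 zg9) (kg xg15 yg12 zg44) (kg xg8 yg3 zg9) (kg xg15 yg12 zg43) (kg xg22 yg34 zg41) (kg xg24 yg58 zg50) (kg xg15 yg11 zg11) (kg xg10 yg32 zg60) (kg xg10 yg7 zg50) (kg xg8 yg4 zg0) (kg xg15 yg14 zg27) (kg xg24 yg58 zg55) (kg xg23 yg3 zg10) (kg xg15 yg12 zg41) (kg xg8 yg3 zg17) (kg xg15 yg12 zg34) (kg xg8 yg3 zg18) (kg xg15 yg12 zg33) (kg xg24 yg59 zg4) (kg xg24 yg59 zg7) (kg xg9 yg52 zg38)) (@D3.rec (fun _ => Pt) (kg xg10 yg8 zg5) (kg xg15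 yg16 zg34) (kg xg17 yg15 zg37) (kg xg24 yg59 zg10) (kg xg15 yg12 zg55) (kg xg8 yg3 zg24) (kg xg15 yg12 zg54) (kg xg20 yg33 zg24) (kg xg24 yg31 zg20) (kg xg15 yg12 zg58) (kg xg8 yg3 zg29) (kg xg15 yg12 zg57) (kg xg15 yg13 zg0) (kg xg8 yg3 zg32) (kg xg24 yg59 zg29) (kg xg15 yg12 zg61) (kg xg9 yg47 zg7) (kg xg10 yg17 zg30) (kg xg18 yg22 zg47) (kg xg15 yg13 zg7) (kg xg8 yg3 zg37) (kg xg15 yg13 zg6) (kg xg8 yg3 zg48) (kg xg13 yg29 zg22) (kg xg8 yg3 zg40) (kg xg13 yg46 zg42) (kg xg20 yg31 zg1) (kg xg16 yg26 zg0) (kg xg15 yg13 zg11) (kg xg8 yg3 zg42) (kg xg24 yg59 zg49) (kg xg15 yg13 zg9) (kg xg24 yg37 zg18) (kg xg24 yg59 zg52) (kg xg16 yg12 zg14) (kg xg8 yg3 zg45) (kg xg16 yg12 zg13) (kg xg10 yg1 zg31) (kg xg11 yg11 zg29) (kg xg15 yg13 zg47) (kg xg8 yg3 zg47) (kg xg15 yg13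 zg46) (kg xg23 yg14 zg60) (kg xg23 yg18 zg25) (kg xg15 yg13 zg51) (kg xg15 yg13 zg50) (kg xg15 yg12 zg15) (kg xg8 yg3 zg50) (kg xg15 yg12 zg17) (kg xg18 yg28 zg14) (kg xg15 yg13 zg59) (kg xg8 yg3 zg51) (kg xg18 yg36 zg54) (kg xg15 yg13 zg57) (kg xg18 yg20 zg0) (kg xg15 yg12 zg0) (kg xg16 yg24 zg20) (kg xg8 yg26 zg3) (kg xg16 yg20 zg28) (kg xg15 yg14 zg6) (kg xg15 yg14 zg4) (kg xg8 yg3 zg55)) (@D3.rec (fun _ => Pt) (kg xg25 yg0 zg11) (kg xg10 yg28 zg24) (kg xg17 yg45 zg46) (kg xg8 yg3 zg58) (kg xg17 yg45 zg45) (kg xg25 yg0 zg14) (kg xg10 yg7 zg60) (kg xg10 yg7 zg59) (kg xg24 yg59 zg14) (kg xg18 yg6 zg34) (kg xg10 yg7 zg48) (kg xg8 yg4 zg38) (kg xg9 yg54 zg50) (kg xg10 yg7 zg43) (kg xg8 yg4 zg3) (kg xg10 yg7 zg42) (kg xg25 yg0 zg20) (kg xg19 yg18 zg48) (kg xg17 yg38 zg6)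 (kg xg25 yg0 zg27) (kg xg10 yg8 zg3) (kg xg15 yg9 zg61) (kg xg10 yg8 zg12) (kg xg17 yg45 zg47) (kg xg8 yg4 zg9) (kg xg16 yg22 zg8) (kg xg10 yg8 zg41) (kg xg8 yg4 zg10) (kg xg10 yg8 zg40) (kg xg16 yg17 zg46) (kg xg16 yg18 zg36) (kg xg24 yg59 zg25) (kg xg10 yg8 zg31) (kg xg8 yg4 zg12) (kg xg15 yg5 zg56) (kg xg10 yg8 zg29) (kg xg8 yg4 zg23) (kg xg8 yg28 zg4) (kg xg15 yg50 zg56) (kg xg8 yg4 zg15) (kg xg10 yg12 zg34) (kg xg10 yg8 zg22) (kg xg8 yg4 zg16) (kg xg10 yg8 zg21) (kg xg18 yg26 zg60) (kg xg17 yg35 zg16) (kg xg14 yg57 zg46) (kg xg10 yg8 zg46) (kg xg8 yg4 zg18) (kg xg10 yg8 zg45) (kg xg10 yg9 zg35) (kg xg10 yg8 zg59) (kg xg8 yg4 zg21) (kg xg10 yg8 zg58) (kg xg23 yg2 zg12) (kg xg22 yg18 zg21) (kg xg15 yg14 zg55) (kg xg18 yg31 zg56) (kg xg10 yg8 zg34) (kg xg10 yg8 zg52)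 (kg xg8 yg4 zg24) (kg xg10 yg8 zg51)) (@D3.rec (fun _ => Pt) (kg xg15 yg10 zg57) (kg xg23 yg37 zg56) (kg xg9 yg38 zg14) (kg xg10 yg8 zg49) (kg xg8 yg4 zg28) (kg xg8 yg4 zg31) (kg xg25 yg0 zg36) (kg xg25 yg1 zg1) (kg xg21 yg25 zg1) (kg xg25 yg1 zg7) (kg xg8 yg4 zg29) (kg xg19 yg1 zg43) (kg xg18 yg5 zg59) (kg xg18 yg26 zg31) (kg xg17 yg40 zg27) (kg xg15 yg10 zg47) (kg xg15 yg10 zg48) (kg xg8 yg4 zg30) (kg xg23 yg42 zg52) (kg xg23 yg35 zg39) (kg xg24 yg56 zg26) (kg xg25 yg0 zg50) (kg xg23 yg43 zg28) (kg xg25 yg0 zg56) (kg xg25 yg1 zg22) (kg xg10 yg9 zg25) (kg xg8 yg4 zg34) (kg xg10 yg9 zg24) (kg xg18 yg8 zg44) (kg xg10 yg16 zg3) (kg xg8 yg4 zg36) (kg xg10 yg16 zg1) (kg xg15 yg9 zg58) (kg xg8 yg4 zg37) (kg xg15 yg9 zg57) (kg xg23 yg22 zg27) (kg xg18 yg6 zg38) (kg xg10 yg7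 zg52) (kg xg15 yg14 zg60) (kg xg14 yg45 zg34) (kg xg8 yg4 zg43) (kg xg15 yg9 zg55) (kg xg15 yg9 zg44) (kg xg8 yg4 zg44) (kg xg15 yg9 zg43) (kg xg25 yg1 zg44) (kg xg17 yg40 zg31) (kg xg10 yg8 zg8) (kg xg10 yg31 zg27) (kg xg18 yg21 zg38) (kg xg8 yg4 zg49) (kg xg25 yg1 zg49) (kg xg23 yg8 zg29) (kg xg15 yg10 zg6) (kg xg8 yg4 zg50) (kg xg15 yg10 zg5) (kg xg15 yg10 zg11) (kg xg8 yg4 zg51) (kg xg15 yg10 zg10) (kg xg10 yg1 zg27) (kg xg15 yg10 zg15) (kg xg8 yg4 zg53)) (@D3.rec (fun _ => Pt) (kg xg15 yg10 zg13) (kg xg13 yg50 zg45) (kg xg15 yg10 zg24) (kg xg15 yg10 zg23) (kg xg25 yg1 zg61) (kg xg15 yg10 zg21) (kg xg8 yg4 zg57) (kg xg15 yg10 zg20) (kg xg15 yg10 zg31) (kg xg8 yg4 zg58) (kg xg25 yg2 zg7) (kg xg15 yg10 zg29) (kg xg8 yg47 zg48) (kg xg14 yg56 zg30) (kg xg11 yg33 zg45)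 (kg xg8 yg5 zg5) (kg xg23 yg13 zg40) (kg xg15 yg7 zg50) (kg xg14 yg0 zg39) (kg xg25 yg2 zg20) (kg xg8 yg38 zg10) (kg xg12 yg8 zg37) (kg xg15 yg30 zg40) (kg xg13 yg47 zg29) (kg xg23 yg13 zg39) (kg xg25 yg2 zg4) (kg xg8 yg43 zg5) (kg xg8 yg5 zg8) (kg xg24 yg42 zg61) (kg xg14 yg0 zg13) (kg xg25 yg2 zg33) (kg xg16 yg10 zg59) (kg xg25 yg2 zg34) (kg xg13 yg59 zg20) (kg xg23 yg43 zg12) (kg xg25 yg2 zg39) (kg xg13 yg55 zg3) (kg xg13 yg59 zg11) (kg xg25 yg2 zg32) (kg xg8 yg5 zg12) (kg xg18 yg23 zg50) (kg xg25 yg2 zg46) (kg xg15 yg7 zg6) (kg xg25 yg2 zg49) (kg xg21 yg53 zg37) (kg xg15 yg10 zg41) (kg xg8 yg5 zg16) (kg xg15 yg10 zg40) (kg xg10 yg16 zg15) (kg xg15 yg10 zg45) (kg xg8 yg5 zg18) (kg xg13 yg59 zg18) (kg xg10 yg9 zg13) (kg xg8 yg5 zg19) (kg xg10 yg9 zg15) (kg xg21 yg25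 zg31) (kg xg15 yg10 zg53) (kg xg8 yg5 zg20) (kg xg25 yg0 zg32) (kg xg15 yg10 zg51) (kg xg25 yg3 zg0) (kg xg15 yg50 zg32)) (@D3.rec (fun _ => Pt) (kg xg14 yg0 zg16) (kg xg12 yg21 zg61) (kg xg8 yg10 zg41) (kg xg17 yg54 zg33) (kg xg15 yg10 zg61) (kg xg15 yg10 zg59) (kg xg8 yg5 zg24) (kg xg24 yg54 zg27) (kg xg10 yg33 zg2) (kg xg15 yg16 zg57) (kg xg8 yg8 zg26) (kg xg15 yg15 zg0) (kg xg8 yg5 zg33) (kg xg8 yg5 zg36) (kg xg25 yg0 zg47) (kg xg23 yg42 zg35) (kg xg25 yg3 zg20) (kg xg8 yg5 zg34) (kg xg25 yg2 zg59) (kg xg23 yg43 zg30) (kg xg24 yg56 zg2) (kg xg15 yg50 zg29) (kg xg24 yg56 zg12) (kg xg15 yg14 zg59) (kg xg8 yg5 zg37) (kg xg15 yg14 zg58) (kg xg25 yg3 zg32) (kg xg18 yg45 zg26) (kg xg15 yg9 zg51) (kg xg16 yg21 zg58) (kg xg25 yg3 zg37) (kg xg15 yg54 zg4) (kg xg10 yg29 zg18)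 (kg xg19 yg2 zg14) (kg xg8 yg5 zg44) (kg xg17 yg44 zg48) (kg xg24 yg45 zg45) (kg xg10 yg0 zg1) (kg xg9 yg51 zg57) (kg xg25 yg3 zg46) (kg xg9 yg54 zg47) (kg xg20 yg57 zg2) (kg xg15 yg9 zg16) (kg xg15 yg14 zg29) (kg xg8 yg5 zg55) (kg xg8 yg5 zg58) (kg xg25 yg3 zg50) (kg xg18 yg30 zg10) (kg xg25 yg3 zg54) (kg xg18 yg36 zg58) (kg xg25 yg3 zg51) (kg xg18 yg28 zg16) (kg xg17 yg39 zg52) (kg xg15 yg23 zg54) (kg xg15 yg11 zg56) (kg xg8 yg5 zg57) (kg xg17 yg44 zg11) (kg xg15 yg14 zg25) (kg xg8 yg5 zg59) (kg xg15 yg14 zg24) (kg xg16 yg15 zg23) (kg xg15 yg12 zg38)) (@D3.rec (fun _ => Pt) (kg xg18 yg39 zg61) (kg xg25 yg4 zg4) (kg xg8 yg17 zg44) (kg xg8 yg42 zg38) (kg xg8 yg42 zg37) (kg xg10 yg50 zg9) (kg xg8 yg6 zg4) (kg xg10 yg50 zg8) (kg xg25 yg4 zg13) (kg xg8 yg6 zg6) (kg xg23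 yg56 zg1) (kg xg10 yg55 zg57) (kg xg8 yg6 zg8) (kg xg10 yg55 zg56) (kg xg19 yg35 zg12) (kg xg14 yg25 zg18) (kg xg15 yg18 zg4) (kg xg8 yg57 zg11) (kg xg8 yg6 zg10) (kg xg15 yg19 zg29) (kg xg8 yg57 zg9) (kg xg18 yg51 zg1) (kg xg10 yg21 zg20) (kg xg8 yg6 zg16) (kg xg10 yg25 zg25) (kg xg18 yg51 zg4) (kg xg8 yg6 zg14) (kg xg18 yg51 zg3) (kg xg25 yg4 zg41) (kg xg25 yg4 zg45) (kg xg25 yg4 zg49) (kg xg18 yg46 zg30) (kg xg8 yg57 zg15) (kg xg10 yg40 zg26) (kg xg8 yg6 zg17) (kg xg19 yg39 zg32) (kg xg25 yg4 zg60) (kg xg25 yg5 zg2) (kg xg8 yg6 zg21) (kg xg8 yg6 zg24) (kg xg25 yg4 zg56) (kg xg16 yg47 zg13) (kg xg19 yg36 zg17) (kg xg25 yg5 zg13) (kg xg8 yg6 zg22) (kg xg25 yg5 zg16) (kg xg19 yg49 zg13) (kg xg16 yg42 zg48) (kg xg10 yg56 zg46) (kg xg22 yg54 zg20) (kg xg8 yg6 zg23) (kg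 xg22 yg54 zg19) (kg xg25 yg5 zg29) (kg xg25 yg4 zg35) (kg xg25 yg5 zg35) (kg xg25 yg4 zg55) (kg xg25 yg5 zg40) (kg xg25 yg5 zg43) (kg xg14 yg52 zg13) (kg xg18 yg51 zg25) (kg xg8 yg6 zg28) (kg xg8 yg18 zg19)) (@D3.rec (fun _ => Pt) (kg xg8 yg16 zg21) (kg xg8 yg6 zg30) (kg xg25 yg5 zg55) (kg xg10 yg24 zg28) (kg xg11 yg2 zg26) (kg xg8 yg57 zg17) (kg xg8 yg8 zg2) (kg xg8 yg6 zg32) (kg xg25 yg5 zg61) (kg xg9 yg33 zg32) (kg xg20 yg56 zg15) (kg xg8 yg6 zg34) (kg xg15 yg41 zg9) (kg xg25 yg6 zg10) (kg xg24 yg35 zg28) (kg xg22 yg9 zg12) (kg xg20 yg2 zg23) (kg xg8 yg6 zg36) (kg xg24 yg58 zg27) (kg xg11 yg57 zg2) (kg xg15 yg9 zg39) (kg xg25 yg6 zg19) (kg xg8 yg13 zg7) (kg xg10 yg46 zg34) (kg xg8 yg7 zg47) (kg xg22 yg9 zg15) (kg xg8 yg6 zg42) (kg xg24 yg57 zg54) (kg xg17 yg14 zg52)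 (kg xg25 yg6 zg26) (kg xg21 yg27 zg31) (kg xg25 yg6 zg30) (kg xg11 yg5 zg34) (kg xg15 yg10 zg1) (kg xg8 yg6 zg46) (kg xg18 yg31 zg58) (kg xg8 yg20 zg4) (kg xg8 yg6 zg49) (kg xg17 yg25 zg16) (kg xg16 yg16 zg1) (kg xg8 yg6 zg51) (kg xg11 yg8 zg54) (kg xg15 yg26 zg4) (kg xg10 yg33 zg44) (kg xg15 yg52 zg51) (kg xg8 yg41 zg42) (kg xg8 yg7 zg0) (kg xg15 yg37 zg47) (kg xg15 yg47 zg15) (kg xg8 yg6 zg55) (kg xg17 yg36 zg0) (kg xg15 yg47 zg14) (kg xg18 yg1 zg59) (kg xg8 yg16 zg55) (kg xg15 yg18 zg9) (kg xg17 yg35 zg60) (kg xg11 yg4 zg29) (kg xg8 yg9 zg30) (kg xg8 yg15 zg43) (kg xg8 yg7 zg3) (kg xg8 yg7 zg2) (kg xg8 yg6 zg61)) (@D3.rec (fun _ => Pt) (kg xg25 yg7 zg1) (kg xg15 yg17 zg49) (kg xg15 yg52 zg49) (kg xg15 yg52 zg44) (kg xg8 yg7 zg1) (kg xg25 yg7 zg10) (kg xg15 yg57 zg49)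 (kg xg15 yg18 zg18) (kg xg8 yg7 zg5) (kg xg8 yg7 zg8) (kg xg25 yg7 zg7) (kg xg24 yg7 zg57) (kg xg25 yg7 zg21) (kg xg25 yg7 zg22) (kg xg8 yg7 zg6) (kg xg20 yg57 zg3) (kg xg17 yg32 zg38) (kg xg25 yg6 zg61) (kg xg25 yg6 zg57) (kg xg21 yg5 zg40) (kg xg21 yg42 zg51) (kg xg8 yg7 zg7) (kg xg25 yg7 zg32) (kg xg25 yg7 zg33) (kg xg25 yg7 zg6) (kg xg25 yg7 zg36) (kg xg25 yg7 zg40) (kg xg25 yg7 zg43) (kg xg15 yg17 zg31) (kg xg8 yg7 zg11) (kg xg15 yg21 zg57) (kg xg15 yg17 zg29) (kg xg25 yg7 zg53) (kg xg25 yg7 zg56) (kg xg10 yg47 zg55) (kg xg8 yg53 zg59) (kg xg8 yg7 zg16) (kg xg8 yg53 zg58) (kg xg25 yg8 zg3) (kg xg25 yg8 zg7) (kg xg8 yg24 zg34) (kg xg25 yg8 zg13) (kg xg8 yg53 zg47) (kg xg20 yg57 zg15) (kg xg8 yg53 zg45) (kg xg11 yg8 zg59) (kg xg25 yg8 zg21) (kg xg11 yg9 zg7) (kg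 xg8 yg7 zg22) (kg xg25 yg8 zg29) (kg xg11 yg8 zg56) (kg xg15 yg41 zg52) (kg xg21 yg0 zg25) (kg xg11 yg9 zg4) (kg xg8 yg7 zg26) (kg xg11 yg9 zg3) (kg xg25 yg8 zg37) (kg xg8 yg7 zg27) (kg xg25 yg8 zg42) (kg xg25 yg8 zg45) (kg xg25 yg8 zg50) (kg xg20 yg4 zg20)) (@D3.rec (fun _ => Pt) (kg xg25 yg8 zg46) (kg xg20 yg2 zg19) (kg xg24 yg35 zg38) (kg xg8 yg7 zg31) (kg xg13 yg36 zg60) (kg xg24 yg35 zg39) (kg xg20 yg43 zg45) (kg xg15 yg16 zg54) (kg xg20 yg2 zg11) (kg xg13 yg32 zg29) (kg xg15 yg22 zg1) (kg xg17 yg43 zg17) (kg xg8 yg7 zg34) (kg xg17 yg43 zg16) (kg xg24 yg12 zg27) (kg xg15 yg17 zg7) (kg xg16 yg12 zg50) (kg xg25 yg8 zg33) (kg xg19 yg57 zg3) (kg xg17 yg53 zg49) (kg xg16 yg12 zg51) (kg xg13 yg32 zg2) (kg xg8 yg7 zg42) (kg xg14 yg48 zg30) (kg xg14 yg48 zg4) (kg xg16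 yg9 zg60) (kg xg8 yg7 zg44) (kg xg16 yg9 zg59) (kg xg8 yg7 zg55) (kg xg8 yg7 zg53) (kg xg8 yg7 zg48) (kg xg15 yg41 zg51) (kg xg15 yg41 zg55) (kg xg8 yg7 zg49) (kg xg15 yg41 zg54) (kg xg15 yg2 zg37) (kg xg25 yg9 zg22) (kg xg25 yg9 zg24) (kg xg25 yg9 zg27) (kg xg18 yg53 zg49) (kg xg15 yg36 zg29) (kg xg8 yg7 zg54) (kg xg15 yg36 zg28) (kg xg25 yg9 zg31) (kg xg25 yg6 zg25) (kg xg20 yg4 zg21) (kg xg25 yg9 zg32) (kg xg20 yg2 zg35) (kg xg19 yg24 zg39) (kg xg8 yg7 zg59) (kg xg16 yg8 zg24) (kg xg8 yg7 zg60) (kg xg24 yg10 zg35) (kg xg24 yg11 zg19) (kg xg25 yg9 zg51) (kg xg18 yg33 zg54) (kg xg9 yg35 zg22) (kg xg15 yg21 zg10) (kg xg25 yg9 zg52) (kg xg11 yg9 zg42) (kg xg8 yg10 zg19) (kg xg9 yg34 zg10)) (@D3.rec (fun _ => Pt) (kg xg21 yg58 zg18) (kg xg17 yg39 zg28) (kg xg15 yg23 zg22)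 (kg xg16 yg14 zg53) (kg xg8 yg8 zg8) (kg xg16 yg14 zg52) (kg xg8 yg42 zg4) (kg xg8 yg59 zg13) (kg xg8 yg55 zg37) (kg xg8 yg54 zg37) (kg xg8 yg8 zg11) (kg xg8 yg54 zg36) (kg xg16 yg38 zg41) (kg xg25 yg4 zg53) (kg xg17 yg50 zg42) (kg xg8 yg54 zg28) (kg xg8 yg8 zg13) (kg xg25 yg10 zg8) (kg xg8 yg54 zg26) (kg xg8 yg53 zg3) (kg xg16 yg35 zg3) (kg xg8 yg28 zg23) (kg xg15 yg21 zg17) (kg xg17 yg29 zg12) (kg xg19 yg49 zg8) (kg xg25 yg10 zg23) (kg xg15 yg15 zg19) (kg xg8 yg8 zg19) (kg xg18 yg41 zg56) (kg xg16 yg45 zg49) (kg xg25 yg10 zg29) (kg xg25 yg10 zg32) (kg xg8 yg28 zg21) (kg xg16 yg45 zg44) (kg xg25 yg3 zg48) (kg xg24 yg58 zg16) (kg xg8 yg8 zg22) (kg xg25 yg10 zg43) (kg xg24 yg58 zg14) (kg xg9 yg42 zg17) (kg xg16 yg22 zg1) (kg xg24 yg58 zg37) (kg xg25 yg10 zg46) (kg xg8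 yg8 zg28) (kg xg17 yg44 zg24) (kg xg15 yg14 zg43) (kg xg8 yg9 zg10) (kg xg25 yg10 zg47) (kg xg18 yg14 zg12) (kg xg18 yg28 zg34) (kg xg9 yg43 zg34) (kg xg8 yg8 zg31) (kg xg25 yg10 zg56) (kg xg9 yg53 zg10) (kg xg8 yg8 zg39) (kg xg8 yg8 zg33) (kg xg8 yg8 zg38) (kg xg15 yg2 zg35) (kg xg8 yg8 zg34) (kg xg15 yg2 zg34) (kg xg25 yg11 zg1) (kg xg25 yg11 zg5)) (@D3.rec (fun _ => Pt) (kg xg25 yg11 zg9) (kg xg15 yg2 zg48) (kg xg25 yg11 zg16) (kg xg15 yg2 zg31) (kg xg20 yg58 zg54) (kg xg25 yg11 zg18) (kg xg19 yg49 zg12) (kg xg25 yg11 zg19) (kg xg15 yg38 zg23) (kg xg19 yg35 zg28) (kg xg8 yg8 zg43) (kg xg15 yg34 zg13) (kg xg19 yg38 zg1) (kg xg25 yg11 zg27) (kg xg25 yg6 zg18) (kg xg15 yg54 zg58) (kg xg15 yg54 zg46) (kg xg19 yg37 zg58) (kg xg24 yg58 zg30) (kg xg8 yg8 zg46) (kg xg17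 yg57 zg21) (kg xg24 yg16 zg18) (kg xg21 yg1 zg61) (kg xg15 yg21 zg49) (kg xg9 yg43 zg52) (kg xg10 yg42 zg51) (kg xg8 yg8 zg50) (kg xg9 yg40 zg48) (kg xg15 yg21 zg32) (kg xg15 yg52 zg39) (kg xg9 yg43 zg42) (kg xg8 yg9 zg12) (kg xg15 yg52 zg7) (kg xg18 yg1 zg55) (kg xg20 yg15 zg23) (kg xg8 yg8 zg57) (kg xg25 yg11 zg51) (kg xg24 yg39 zg50) (kg xg15 yg54 zg0) (kg xg8 yg8 zg58) (kg xg15 yg42 zg15) (kg xg15 yg53 zg60) (kg xg15 yg21 zg33) (kg xg25 yg11 zg57) (kg xg19 yg17 zg20) (kg xg18 yg2 zg55) (kg xg15 yg21 zg45) (kg xg10 yg57 zg48) (kg xg8 yg9 zg1) (kg xg20 yg43 zg18) (kg xg8 yg9 zg2) (kg xg15 yg38 zg2) (kg xg15 yg54 zg13) (kg xg8 yg9 zg3) (kg xg16 yg27 zg3) (kg xg15 yg54 zg11) (kg xg25 yg7 zg34) (kg xg25 yg10 zg9) (kg xg10 yg56 zg14) (kg xg15 yg53 zg54) (kg xg8 yg9 zg7)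 (kg xg19 yg20 zg10)) (@D3.rec (fun _ => Pt) (kg xg15 yg22 zg30) (kg xg25 yg12 zg15) (kg xg15 yg53 zg47) (kg xg8 yg9 zg13) (kg xg8 yg9 zg8) (kg xg19 yg4 zg60) (kg xg25 yg12 zg21) (kg xg25 yg12 zg25) (kg xg22 yg54 zg48) (kg xg21 yg43 zg16) (kg xg20 yg3 zg26) (kg xg25 yg10 zg50) (kg xg25 yg12 zg29) (kg xg25 yg10 zg51) (kg xg25 yg11 zg40) (kg xg25 yg11 zg48) (kg xg10 yg59 zg5) (kg xg15 yg19 zg25) (kg xg25 yg12 zg37) (kg xg25 yg12 zg39) (kg xg10 yg56 zg7) (kg xg19 yg37 zg14) (kg xg24 yg16 zg31) (kg xg21 yg48 zg22) (kg xg15 yg18 zg14) (kg xg8 yg9 zg15) (kg xg25 yg12 zg6) (kg xg15 yg54 zg8) (kg xg15 yg8 zg57) (kg xg25 yg12 zg49) (kg xg15 yg20 zg32) (kg xg22 yg5 zg53) (kg xg25 yg12 zg57) (kg xg24 yg51 zg14) (kg xg25 yg12 zg53) (kg xg15 yg19 zg41) (kg xg8 yg9 zg19) (kg xg16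 yg46 zg26) (kg xg12 yg43 zg21) (kg xg25 yg12 zg51) (kg xg8 yg9 zg20) (kg xg25 yg12 zg50) (kg xg25 yg7 zg14) (kg xg8 yg9 zg21) (kg xg25 yg13 zg12) (kg xg25 yg13 zg14) (kg xg25 yg9 zg9) (kg xg15 yg19 zg48) (kg xg25 yg13 zg18) (kg xg20 yg3 zg39) (kg xg21 yg1 zg1) (kg xg25 yg13 zg25) (kg xg15 yg53 zg58) (kg xg15 yg53 zg46) (kg xg25 yg13 zg26) (kg xg24 yg11 zg24) (kg xg15 yg17 zg30) (kg xg8 yg9 zg27) (kg xg25 yg13 zg37) (kg xg21 yg16 zg58) (kg xg25 yg13 zg40) (kg xg17 yg52 zg49)) (@D3.rec (fun _ => Pt) (kg xg8 yg9 zg33) (kg xg21 yg2 zg4) (kg xg8 yg36 zg55) (kg xg15 yg1 zg13) (kg xg16 yg37 zg12) (kg xg20 yg56 zg46) (kg xg19 yg49 zg26) (kg xg15 yg34 zg26) (kg xg20 yg3 zg60) (kg xg15 yg18 zg10) (kg xg11 yg8 zg41) (kg xg8 yg9 zg35) (kg xg11 yg8 zg40) (kg xg25 yg13 zg53) (kg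 xg11 yg8 zg55) (kg xg8 yg9 zg36) (kg xg25 yg6 zg45) (kg xg11 yg8 zg53) (kg xg15 yg52 zg52) (kg xg8 yg9 zg40) (kg xg18 yg52 zg31) (kg xg11 yg8 zg50) (kg xg8 yg9 zg41) (kg xg8 yg28 zg25) (kg xg25 yg14 zg6) (kg xg8 yg9 zg42) (kg xg25 yg14 zg12) (kg xg11 yg8 zg44) (kg xg25 yg8 zg34) (kg xg25 yg14 zg17) (kg xg19 yg30 zg8) (kg xg15 yg29 zg52) (kg xg11 yg40 zg3) (kg xg8 yg9 zg48) (kg xg18 yg1 zg48) (kg xg15 yg53 zg24) (kg xg8 yg9 zg49) (kg xg14 yg18 zg43) (kg xg17 yg36 zg4) (kg xg19 yg23 zg16) (kg xg25 yg14 zg2) (kg xg22 yg54 zg27) (kg xg24 yg58 zg45) (kg xg11 yg2 zg44) (kg xg9 yg41 zg11) (kg xg25 yg14 zg33) (kg xg16 yg11 zg54) (kg xg8 yg10 zg0) (kg xg16 yg11 zg53) (kg xg11 yg2 zg47) (kg xg8 yg10 zg1) (kg xg11 yg2 zg46) (kg xg14 yg51 zg11) (kg xg9 yg0 zg56) (kg xg21 yg18 zg20)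 (kg xg8 yg41 zg24) (kg xg15 yg51 zg27) (kg xg15 yg21 zg18) (kg xg23 yg1 zg4) (kg xg25 yg14 zg51) (kg xg19 yg11 zg57) (kg xg23 yg33 zg24)) (@D3.rec (fun _ => Pt) (kg xg25 yg8 zg25) (kg xg25 yg15 zg0) (kg xg14 yg51 zg9) (kg xg8 yg10 zg8) (kg xg25 yg15 zg10) (kg xg25 yg15 zg1) (kg xg8 yg10 zg9) (kg xg25 yg15 zg15) (kg xg11 yg9 zg23) (kg xg9 yg41 zg51) (kg xg17 yg43 zg20) (kg xg25 yg15 zg20) (kg xg25 yg15 zg21) (kg xg25 yg13 zg48) (kg xg19 yg57 zg12) (kg xg9 yg35 zg17) (kg xg25 yg13 zg50) (kg xg25 yg15 zg25) (kg xg17 yg38 zg27) (kg xg15 yg19 zg2) (kg xg9 yg38 zg57) (kg xg8 yg25 zg18) (kg xg8 yg36 zg58) (kg xg9 yg52 zg51) (kg xg25 yg9 zg56) (kg xg11 yg9 zg39) (kg xg16 yg14 zg57) (kg xg8 yg10 zg21) (kg xg16 yg14 zg56) (kg xg15 yg6 zg50) (kg xg25 yg15 zg47) (kg xg15 yg7 zg4)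 (kg xg24 yg55 zg24) (kg xg25 yg15 zg53) (kg xg15 yg54 zg2) (kg xg19 yg59 zg42) (kg xg8 yg10 zg29) (kg xg16 yg20 zg47) (kg xg20 yg31 zg6) (kg xg25 yg16 zg0) (kg xg20 yg31 zg3) (kg xg20 yg32 zg7) (kg xg20 yg30 zg1) (kg xg21 yg2 zg41) (kg xg11 yg34 zg43) (kg xg24 yg59 zg13) (kg xg11 yg34 zg40) (kg xg8 yg10 zg37) (kg xg25 yg16 zg12) (kg xg20 yg33 zg6) (kg xg18 yg23 zg46) (kg xg8 yg10 zg38) (kg xg18 yg19 zg21) (kg xg15 yg14 zg53) (kg xg8 yg10 zg40) (kg xg23 yg20 zg37) (kg xg24 yg59 zg19) (kg xg11 yg34 zg9) (kg xg23 yg20 zg34) (kg xg15 yg50 zg39) (kg xg8 yg10 zg45) (kg xg25 yg16 zg32)) (@D3.rec (fun _ => Pt) (kg xg8 yg24 zg19) (kg xg17 yg5 zg12) (kg xg15 yg46 zg21) (kg xg8 yg24 zg11) (kg xg9 yg37 zg6) (kg xg15 yg47 zg38) (kg xg8 yg10 zg48) (kg xg15 yg47 zg37) (kg xg19 yg58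 zg3) (kg xg8 yg37 zg5) (kg xg8 yg10 zg49) (kg xg15 yg24 zg17) (kg xg16 yg8 zg41) (kg xg8 yg10 zg50) (kg xg16 yg1 zg42) (kg xg21 yg59 zg42) (kg xg22 yg5 zg19) (kg xg25 yg16 zg46) (kg xg8 yg15 zg45) (kg xg19 yg10 zg59) (kg xg12 yg55 zg56) (kg xg15 yg24 zg49) (kg xg20 yg16 zg11) (kg xg8 yg10 zg56) (kg xg8 yg11 zg30) (kg xg15 yg24 zg40) (kg xg20 yg25 zg46) (kg xg20 yg52 zg19) (kg xg9 yg43 zg21) (kg xg8 yg17 zg58) (kg xg16 yg14 zg12) (kg xg10 yg40 zg11) (kg xg15 yg27 zg51) (kg xg8 yg11 zg2) (kg xg15 yg27 zg50) (kg xg18 yg41 zg48) (kg xg10 yg2 zg3) (kg xg8 yg11 zg5) (kg xg15 yg48 zg42) (kg xg12 yg57 zg60) (kg xg10 yg26 zg43) (kg xg21 yg27 zg34) (kg xg9 yg1 zg16) (kg xg8 yg11 zg8) (kg xg9 yg56 zg55) (kg xg25 yg16 zg60) (kg xg15 yg24 zg21) (kg xg25 yg16 zg59) (kg xg12 yg56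 zg38) (kg xg15 yg1 zg48) (kg xg8 yg11 zg11) (kg xg15 yg24 zg11) (kg xg25 yg17 zg6) (kg xg8 yg11 zg20) (kg xg21 yg2 zg10) (kg xg8 yg11 zg13) (kg xg18 yg17 zg50) (kg xg12 yg47 zg46) (kg xg17 yg23 zg20) (kg xg10 yg46 zg44) (kg xg10 yg20 zg28) (kg xg9 yg41 zg43)) (@D3.rec (fun _ => Pt) (kg xg20 yg46 zg8) (kg xg20 yg16 zg53) (kg xg12 yg37 zg61) (kg xg19 yg10 zg58) (kg xg12 yg35 zg58) (kg xg9 yg41 zg24) (kg xg16 yg11 zg6) (kg xg8 yg11 zg24) (kg xg15 yg30 zg5) (kg xg25 yg17 zg22) (kg xg9 yg43 zg27) (kg xg20 yg57 zg42) (kg xg8 yg11 zg26) (kg xg20 yg57 zg45) (kg xg25 yg17 zg29) (kg xg17 yg6 zg14) (kg xg8 yg11 zg34) (kg xg8 yg11 zg27) (kg xg25 yg17 zg37) (kg xg25 yg16 zg49) (kg xg8 yg11 zg28) (kg xg17 yg49 zg18) (kg xg20 yg16 zg15) (kg xg19 yg7 zg42) (kg xg11 yg4 zg52) (kg xg8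 yg11 zg41) (kg xg9 yg38 zg51) (kg xg15 yg51 zg10) (kg xg12 yg55 zg55) (kg xg9 yg31 zg43) (kg xg22 yg5 zg10) (kg xg8 yg45 zg49) (kg xg24 yg50 zg0) (kg xg8 yg11 zg35) (kg xg17 yg49 zg49) (kg xg18 yg2 zg25) (kg xg9 yg43 zg25) (kg xg8 yg11 zg39) (kg xg22 yg5 zg60) (kg xg24 yg33 zg58) (kg xg8 yg11 zg43) (kg xg17 yg49 zg9) (kg xg19 yg7 zg40) (kg xg19 yg7 zg38) (kg xg8 yg11 zg42) (kg xg17 yg33 zg51) (kg xg14 yg47 zg55) (kg xg20 yg35 zg48) (kg xg9 yg14 zg35) (kg xg22 yg6 zg0) (kg xg20 yg36 zg2) (kg xg16 yg30 zg37) (kg xg18 yg57 zg1) (kg xg8 yg11 zg48) (kg xg25 yg16 zg51) (kg xg20 yg36 zg30) (kg xg9 yg40 zg61) (kg xg8 yg37 zg3) (kg xg9 yg42 zg7) (kg xg16 yg7 zg31) (kg xg16 yg13 zg31) (kg xg11 yg57 zg12)) (@D3.rec (fun _ => Pt) (kg xg10 yg50 zg37) (kg xg15 yg16 zg42) (kg xg11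 yg8 zg57) (kg xg9 yg33 zg18) (kg xg9 yg33 zg30) (kg xg15 yg29 zg4) (kg xg9 yg37 zg7) (kg xg19 yg25 zg5) (kg xg10 yg0 zg34) (kg xg18 yg22 zg36) (kg xg11 yg13 zg47) (kg xg25 yg18 zg6) (kg xg11 yg40 zg26) (kg xg10 yg2 zg53) (kg xg8 yg12 zg10) (kg xg24 yg7 zg1) (kg xg11 yg57 zg58) (kg xg21 yg37 zg22) (kg xg9 yg47 zg32) (kg xg18 yg23 zg58) (kg xg15 yg4 zg40) (kg xg11 yg35 zg21) (kg xg13 yg51 zg5) (kg xg23 yg32 zg39) (kg xg11 yg33 zg42) (kg xg11 yg13 zg4) (kg xg10 yg17 zg43) (kg xg20 yg31 zg10) (kg xg11 yg33 zg43) (kg xg10 yg4 zg44) (kg xg21 yg57 zg32) (kg xg11 yg7 zg2) (kg xg20 yg35 zg6) (kg xg18 yg43 zg21) (kg xg25 yg18 zg23) (kg xg11 yg6 zg45) (kg xg11 yg12 zg58) (kg xg18 yg57 zg18) (kg xg14 yg35 zg43) (kg xg13 yg19 zg53) (kg xg11 yg2 zg19) (kg xg11 yg13 zg3) (kg xg12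 yg29 zg16) (kg xg20 yg33 zg13) (kg xg8 yg12 zg49) (kg xg17 yg11 zg42) (kg xg20 yg31 zg4) (kg xg24 yg2 zg41) (kg xg20 yg34 zg22) (kg xg20 yg31 zg8) (kg xg20 yg34 zg8) (kg xg8 yg12 zg41) (kg xg12 yg51 zg10) (kg xg20 yg41 zg3) (kg xg11 yg35 zg48) (kg xg10 yg42 zg2) (kg xg8 yg12 zg43) (kg xg13 yg5 zg33) (kg xg11 yg35 zg41) (kg xg8 yg12 zg44) (kg xg25 yg16 zg13) (kg xg25 yg18 zg42)) (@D3.rec (fun _ => Pt) (kg xg18 yg23 zg18) (kg xg14 yg23 zg12) (kg xg17 yg21 zg9) (kg xg17 yg17 zg1) (kg xg17 yg18 zg41) (kg xg17 yg57 zg53) (kg xg18 yg25 zg58) (kg xg21 yg37 zg28) (kg xg8 yg12 zg50) (kg xg20 yg26 zg49) (kg xg20 yg26 zg54) (kg xg18 yg25 zg51) (kg xg9 yg5 zg31) (kg xg21 yg4 zg9) (kg xg25 yg18 zg54) (kg xg8 yg36 zg10) (kg xg17 yg41 zg52) (kg xg8 yg12 zg59) (kg xg11 yg19 zg22) (kg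 xg10 yg58 zg28) (kg xg8 yg25 zg8) (kg xg15 yg25 zg14) (kg xg12 yg59 zg45) (kg xg12 yg59 zg47) (kg xg25 yg19 zg2) (kg xg25 yg17 zg27) (kg xg25 yg19 zg4) (kg xg16 yg12 zg57) (kg xg25 yg19 zg8) (kg xg8 yg29 zg9) (kg xg25 yg19 zg12) (kg xg15 yg27 zg60) (kg xg25 yg19 zg17) (kg xg8 yg13 zg5) (kg xg8 yg13 zg42) (kg xg12 yg56 zg0) (kg xg8 yg13 zg6) (kg xg25 yg19 zg20) (kg xg25 yg19 zg28) (kg xg25 yg19 zg23) (kg xg25 yg19 zg32) (kg xg15 yg3 zg8) (kg xg25 yg19 zg36) (kg xg11 yg54 zg54) (kg xg11 yg57 zg1) (kg xg15 yg25 zg57) (kg xg18 yg12 zg28) (kg xg11 yg54 zg11) (kg xg11 yg52 zg59) (kg xg15 yg24 zg34) (kg xg8 yg13 zg16) (kg xg15 yg24 zg33) (kg xg22 yg7 zg40) (kg xg10 yg37 zg18) (kg xg20 yg5 zg19) (kg xg10 yg35 zg46) (kg xg25 yg19 zg43) (kg xg15 yg27 zg31) (kg xg19 yg20 zg22)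 (kg xg22 yg7 zg35) (kg xg9 yg41 zg41) (kg xg15 yg0 zg59)) (@D3.rec (fun _ => Pt) (kg xg25 yg19 zg10) (kg xg8 yg13 zg22) (kg xg25 yg19 zg9) (kg xg15 yg27 zg59) (kg xg25 yg19 zg59) (kg xg8 yg13 zg34) (kg xg25 yg20 zg1) (kg xg17 yg51 zg40) (kg xg8 yg13 zg24) (kg xg19 yg57 zg50) (kg xg17 yg51 zg37) (kg xg19 yg58 zg17) (kg xg11 yg52 zg45) (kg xg25 yg20 zg12) (kg xg10 yg24 zg14) (kg xg25 yg20 zg14) (kg xg11 yg53 zg9) (kg xg25 yg19 zg6) (kg xg8 yg13 zg33) (kg xg25 yg19 zg5) (kg xg25 yg20 zg22) (kg xg25 yg20 zg23) (kg xg25 yg20 zg25) (kg xg19 yg29 zg17) (kg xg25 yg20 zg32) (kg xg16 yg19 zg60) (kg xg8 yg13 zg36) (kg xg15 yg26 zg3) (kg xg25 yg20 zg38) (kg xg15 yg3 zg13) (kg xg17 yg50 zg2) (kg xg8 yg13 zg38) (kg xg17 yg50 zg1) (kg xg16 yg12 zg55) (kg xg25 yg20 zg49) (kg xg8 yg13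 zg46) (kg xg8 yg13 zg39) (kg xg25 yg20 zg55) (kg xg25 yg19 zg19) (kg xg8 yg13 zg40) (kg xg24 yg49 zg31) (kg xg19 yg25 zg41) (kg xg20 yg56 zg43) (kg xg16 yg9 zg33) (kg xg8 yg13 zg52) (kg xg10 yg24 zg21) (kg xg8 yg13 zg44) (kg xg10 yg24 zg20) (kg xg25 yg19 zg14) (kg xg8 yg13 zg45) (kg xg25 yg19 zg13) (kg xg21 yg1 zg0) (kg xg25 yg21 zg12) (kg xg25 yg21 zg15) (kg xg17 yg49 zg61) (kg xg8 yg13 zg47) (kg xg24 yg49 zg52) (kg xg17 yg49 zg58) (kg xg8 yg13 zg54) (kg xg19 yg11 zg17) (kg xg8 yg13 zg50) (kg xg19 yg11 zg16)) (@D3.rec (fun _ => Pt) (kg xg25 yg21 zg31) (kg xg8 yg13 zg53) (kg xg25 yg21 zg37) (kg xg24 yg49 zg21) (kg xg20 yg56 zg41) (kg xg25 yg21 zg44) (kg xg11 yg6 zg1) (kg xg11 yg8 zg12) (kg xg8 yg13 zg56) (kg xg25 yg21 zg35) (kg xg12 yg57 zg49) (kg xg25 yg21 zg56) (kg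 xg8 yg13 zg57) (kg xg19 yg9 zg8) (kg xg18 yg33 zg34) (kg xg22 yg7 zg37) (kg xg25 yg21 zg50) (kg xg8 yg13 zg58) (kg xg15 yg28 zg13) (kg xg25 yg22 zg9) (kg xg22 yg7 zg38) (kg xg25 yg22 zg12) (kg xg20 yg55 zg52) (kg xg25 yg22 zg15) (kg xg25 yg22 zg19) (kg xg25 yg22 zg23) (kg xg25 yg22 zg26) (kg xg25 yg19 zg34) (kg xg8 yg14 zg1) (kg xg25 yg19 zg33) (kg xg25 yg22 zg36) (kg xg8 yg14 zg3) (kg xg25 yg22 zg42) (kg xg15 yg2 zg3) (kg xg11 yg5 zg61) (kg xg15 yg48 zg5) (kg xg16 yg12 zg58) (kg xg11 yg6 zg5) (kg xg11 yg57 zg15) (kg xg8 yg14 zg6) (kg xg19 yg26 zg25) (kg xg18 yg40 zg61) (kg xg8 yg14 zg8) (kg xg17 yg53 zg6) (kg xg10 yg1 zg14) (kg xg25 yg22 zg50) (kg xg25 yg22 zg53) (kg xg18 yg5 zg37) (kg xg11 yg56 zg53) (kg xg8 yg14 zg13) (kg xg11 yg56 zg52) (kg xg19 yg26 zg48) (kg xg20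 yg3 zg11) (kg xg25 yg22 zg59) (kg xg25 yg23 zg1) (kg xg12 yg56 zg37) (kg xg17 yg32 zg20) (kg xg25 yg23 zg4) (kg xg11 yg18 zg45) (kg xg18 yg42 zg37) (kg xg14 yg50 zg61) (kg xg8 yg14 zg21)) (@D3.rec (fun _ => Pt) (kg xg11 yg3 zg32) (kg xg16 yg9 zg53) (kg xg10 yg24 zg17) (kg xg16 yg10 zg1) (kg xg16 yg50 zg15) (kg xg8 yg38 zg31) (kg xg8 yg38 zg40) (kg xg9 yg36 zg54) (kg xg15 yg25 zg42) (kg xg9 yg39 zg1) (kg xg10 yg54 zg42) (kg xg13 yg2 zg23) (kg xg17 yg32 zg41) (kg xg10 yg44 zg22) (kg xg8 yg14 zg29) (kg xg25 yg23 zg29) (kg xg8 yg14 zg34) (kg xg8 yg14 zg30) (kg xg25 yg23 zg33) (kg xg9 yg6 zg41) (kg xg9 yg46 zg48) (kg xg20 yg5 zg26) (kg xg20 yg58 zg1) (kg xg10 yg44 zg46) (kg xg16 yg12 zg54) (kg xg15 yg26 zg56) (kg xg20 yg22 zg55) (kg xg18 yg57 zg31) (kg xg25 yg23 zg38) (kg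 xg9 yg17 zg2) (kg xg8 yg14 zg38) (kg xg12 yg57 zg0) (kg xg20 yg23 zg55) (kg xg10 yg54 zg37) (kg xg8 yg14 zg40) (kg xg20 yg54 zg26) (kg xg25 yg23 zg46) (kg xg20 yg32 zg58) (kg xg11 yg31 zg14) (kg xg10 yg14 zg34) (kg xg15 yg26 zg21) (kg xg10 yg17 zg32) (kg xg25 yg23 zg48) (kg xg10 yg6 zg42) (kg xg8 yg14 zg54) (kg xg15 yg26 zg42) (kg xg16 yg51 zg31) (kg xg10 yg5 zg54) (kg xg16 yg49 zg47) (kg xg25 yg23 zg51) (kg xg10 yg24 zg53) (kg xg9 yg52 zg26) (kg xg9 yg52 zg25) (kg xg22 yg57 zg55) (kg xg10 yg17 zg3) (kg xg10 yg54 zg10) (kg xg8 yg26 zg54) (kg xg9 yg57 zg35) (kg xg9 yg53 zg22) (kg xg9 yg53 zg21) (kg xg14 yg13 zg26) (kg xg8 yg15 zg7)) (@D3.rec (fun _ => Pt) (kg xg18 yg54 zg19) (kg xg8 yg15 zg8) (kg xg18 yg54 zg18) (kg xg25 yg24 zg3) (kg xg25 yg24 zg6) (kg xg8 yg26 zg21)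 (kg xg15 yg32 zg22) (kg xg8 yg15 zg11) (kg xg15 yg32 zg21) (kg xg22 yg54 zg54) (kg xg23 yg5 zg45) (kg xg25 yg24 zg14) (kg xg11 yg54 zg42) (kg xg8 yg15 zg13) (kg xg19 yg44 zg39) (kg xg11 yg54 zg40) (kg xg19 yg36 zg26) (kg xg10 yg24 zg5) (kg xg10 yg50 zg1) (kg xg15 yg32 zg29) (kg xg8 yg15 zg17) (kg xg15 yg32 zg28) (kg xg25 yg24 zg27) (kg xg25 yg24 zg30) (kg xg15 yg39 zg7) (kg xg8 yg15 zg19) (kg xg8 yg31 zg8) (kg xg11 yg55 zg27) (kg xg8 yg15 zg24) (kg xg15 yg32 zg48) (kg xg8 yg15 zg22) (kg xg15 yg32 zg47) (kg xg25 yg24 zg38) (kg xg15 yg32 zg40) (kg xg8 yg15 zg25) (kg xg15 yg32 zg39) (kg xg25 yg24 zg44) (kg xg20 yg18 zg5) (kg xg17 yg11 zg53) (kg xg15 yg32 zg37) (kg xg8 yg15 zg29) (kg xg8 yg15 zg32) (kg xg25 yg24 zg41) (kg xg21 yg0 zg61) (kg xg25 yg24 zg50) (kg xg8 yg15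 zg30) (kg xg22 yg54 zg38) (kg xg24 yg7 zg56) (kg xg19 yg26 zg12) (kg xg14 yg31 zg48) (kg xg25 yg24 zg54) (kg xg25 yg24 zg34) (kg xg25 yg24 zg59) (kg xg25 yg24 zg40) (kg xg25 yg25 zg3) (kg xg25 yg25 zg6) (kg xg22 yg47 zg40) (kg xg15 yg33 zg12) (kg xg8 yg15 zg36) (kg xg15 yg33 zg11) (kg xg25 yg25 zg14) (kg xg19 yg34 zg60)) (@D3.rec (fun _ => Pt) (kg xg21 yg55 zg14) (kg xg11 yg57 zg30) (kg xg10 yg33 zg43) (kg xg15 yg41 zg61) (kg xg10 yg38 zg54) (kg xg25 yg17 zg24) (kg xg8 yg15 zg44) (kg xg25 yg17 zg23) (kg xg25 yg25 zg26) (kg xg25 yg25 zg29) (kg xg25 yg25 zg32) (kg xg15 yg30 zg56) (kg xg25 yg25 zg34) (kg xg8 yg15 zg52) (kg xg19 yg1 zg55) (kg xg25 yg25 zg37) (kg xg10 yg27 zg16) (kg xg17 yg11 zg40) (kg xg10 yg26 zg19) (kg xg8 yg15 zg55) (kg xg15 yg31 zg8) (kg xg8 yg15 zg56)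 (kg xg15 yg31 zg7) (kg xg13 yg32 zg42) (kg xg25 yg25 zg48) (kg xg8 yg19 zg47) (kg xg10 yg43 zg42) (kg xg15 yg31 zg21) (kg xg8 yg15 zg61) (kg xg15 yg31 zg20) (kg xg25 yg24 zg8) (kg xg25 yg25 zg52) (kg xg10 yg44 zg42) (kg xg8 yg16 zg1) (kg xg10 yg44 zg40) (kg xg15 yg31 zg39) (kg xg8 yg59 zg49) (kg xg8 yg16 zg10) (kg xg15 yg31 zg35) (kg xg8 yg16 zg5) (kg xg15 yg31 zg34) (kg xg23 yg0 zg51) (kg xg24 yg16 zg21) (kg xg15 yg39 zg0) (kg xg8 yg31 zg3) (kg xg15 yg31 zg28) (kg xg15 yg31 zg31) (kg xg8 yg16 zg8) (kg xg15 yg31 zg30) (kg xg25 yg18 zg38) (kg xg14 yg24 zg49) (kg xg16 yg43 zg26) (kg xg10 yg44 zg45) (kg xg8 yg16 zg12) (kg xg8 yg16 zg15) (kg xg15 yg40 zg60) (kg xg9 yg31 zg55) (kg xg25 yg26 zg17) (kg xg25 yg26 zg20) (kg xg8 yg16 zg13) (kg xg18 yg46 zg35) (kg xg24 yg13 zg45))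 (@D3.rec (fun _ => Pt) (kg xg8 yg16 zg14) (kg xg25 yg26 zg27) (kg xg15 yg37 zg6) (kg xg25 yg26 zg33) (kg xg19 yg46 zg40) (kg xg25 yg26 zg38) (kg xg22 yg6 zg41) (kg xg15 yg46 zg34) (kg xg25 yg26 zg41) (kg xg25 yg26 zg45) (kg xg15 yg31 zg59) (kg xg8 yg16 zg19) (kg xg15 yg31 zg58) (kg xg18 yg55 zg49) (kg xg25 yg5 zg56) (kg xg17 yg50 zg58) (kg xg12 yg59 zg20) (kg xg8 yg16 zg23) (kg xg8 yg39 zg56) (kg xg10 yg52 zg24) (kg xg8 yg56 zg3) (kg xg8 yg16 zg25) (kg xg8 yg17 zg15) (kg xg25 yg26 zg56) (kg xg8 yg18 zg16) (kg xg8 yg16 zg27) (kg xg8 yg18 zg15) (kg xg18 yg12 zg24) (kg xg12 yg21 zg2) (kg xg19 yg37 zg55) (kg xg8 yg17 zg43) (kg xg8 yg16 zg29) (kg xg16 yg0 zg31) (kg xg8 yg17 zg41) (kg xg8 yg42 zg35) (kg xg8 yg32 zg38) (kg xg8 yg17 zg34) (kg xg8 yg16 zg32) (kg xg8 yg17 zg33)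 (kg xg25 yg27 zg16) (kg xg21 yg31 zg49) (kg xg22 yg54 zg34) (kg xg22 yg2 zg5) (kg xg8 yg18 zg21) (kg xg10 yg50 zg35) (kg xg8 yg16 zg37) (kg xg8 yg19 zg6) (kg xg8 yg16 zg38) (kg xg8 yg19 zg5) (kg xg15 yg36 zg57) (kg xg21 yg17 zg5) (kg xg19 yg45 zg41) (kg xg8 yg18 zg51) (kg xg8 yg16 zg40) (kg xg25 yg27 zg35) (kg xg8 yg18 zg49) (kg xg8 yg16 zg50) (kg xg10 yg56 zg52) (kg xg8 yg18 zg42) (kg xg8 yg16 zg43) (kg xg8 yg18 zg41) (kg xg15 yg35 zg30)) (@D3.rec (fun _ => Pt) (kg xg25 yg27 zg43) (kg xg13 yg32 zg11) (kg xg8 yg19 zg13) (kg xg8 yg16 zg45) (kg xg23 yg13 zg32) (kg xg8 yg19 zg11) (kg xg8 yg19 zg39) (kg xg8 yg20 zg11) (kg xg8 yg19 zg34) (kg xg8 yg16 zg48) (kg xg8 yg19 zg33) (kg xg19 yg35 zg53) (kg xg25 yg27 zg57) (kg xg25 yg27 zg59) (kg xg10 yg51 zg60) (kg xg8 yg18 zg55)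 (kg xg8 yg19 zg22) (kg xg8 yg16 zg51) (kg xg8 yg19 zg21) (kg xg25 yg28 zg7) (kg xg22 yg33 zg25) (kg xg8 yg19 zg16) (kg xg8 yg16 zg58) (kg xg25 yg28 zg3) (kg xg15 yg52 zg47) (kg xg25 yg28 zg21) (kg xg15 yg21 zg60) (kg xg8 yg16 zg56) (kg xg25 yg28 zg22) (kg xg15 yg59 zg43) (kg xg15 yg35 zg8) (kg xg22 yg9 zg41) (kg xg25 yg5 zg44) (kg xg25 yg5 zg45) (kg xg8 yg16 zg57) (kg xg25 yg28 zg35) (kg xg25 yg28 zg38) (kg xg22 yg21 zg1) (kg xg19 yg37 zg57) (kg xg25 yg28 zg2) (kg xg19 yg37 zg53) (kg xg8 yg16 zg61) (kg xg8 yg19 zg61) (kg xg25 yg28 zg45) (kg xg17 yg38 zg30) (kg xg8 yg17 zg2) (kg xg17 yg38 zg29) (kg xg25 yg28 zg52) (kg xg25 yg28 zg56) (kg xg25 yg28 zg58) (kg xg8 yg17 zg4) (kg xg17 yg43 zg35) (kg xg8 yg36 zg40) (kg xg14 yg58 zg7) (kg xg11 yg4 zg46) (kg xg11 yg2 zg58) (kg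 xg8 yg17 zg10) (kg xg11 yg2 zg57) (kg xg24 yg50 zg3) (kg xg8 yg17 zg12) (kg xg24 yg50 zg2) (kg xg14 yg25 zg5)) (@D3.rec (fun _ => Pt) (kg xg25 yg25 zg55) (kg xg8 yg56 zg4) (kg xg9 yg41 zg5) (kg xg8 yg26 zg22) (kg xg19 yg53 zg49) (kg xg22 yg2 zg9) (kg xg8 yg17 zg17) (kg xg25 yg26 zg57) (kg xg15 yg34 zg25) (kg xg15 yg21 zg58) (kg xg15 yg59 zg31) (kg xg8 yg17 zg19) (kg xg16 yg3 zg43) (kg xg15 yg18 zg42) (kg xg12 yg50 zg46) (kg xg8 yg17 zg28) (kg xg8 yg17 zg23) (kg xg12 yg59 zg39) (kg xg19 yg35 zg44) (kg xg8 yg17 zg26) (kg xg19 yg35 zg43) (kg xg25 yg29 zg27) (kg xg16 yg3 zg46) (kg xg19 yg35 zg48) (kg xg8 yg17 zg29) (kg xg19 yg35 zg47) (kg xg15 yg46 zg53) (kg xg25 yg29 zg35) (kg xg25 yg29 zg29) (kg xg17 yg45 zg28) (kg xg15 yg37 zg59) (kg xg25 yg29 zg45) (kg xg25 yg29 zg48)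 (kg xg25 yg29 zg40) (kg xg15 yg33 zg61) (kg xg15 yg57 zg0) (kg xg20 yg29 zg19) (kg xg25 yg29 zg60) (kg xg25 yg27 zg14) (kg xg8 yg17 zg35) (kg xg20 yg18 zg10) (kg xg25 yg30 zg6) (kg xg25 yg30 zg0) (kg xg8 yg17 zg36) (kg xg22 yg43 zg24) (kg xg18 yg8 zg1) (kg xg25 yg29 zg21) (kg xg21 yg39 zg31) (kg xg25 yg29 zg28) (kg xg18 yg51 zg20) (kg xg25 yg27 zg3) (kg xg8 yg17 zg39) (kg xg25 yg30 zg19) (kg xg19 yg37 zg59) (kg xg25 yg30 zg23) (kg xg8 yg31 zg44) (kg xg12 yg20 zg61) (kg xg17 yg28 zg1) (kg xg15 yg41 zg18) (kg xg25 yg27 zg8) (kg xg8 yg17 zg42) (kg xg25 yg30 zg39)) (@D3.rec (fun _ => Pt) (kg xg16 yg0 zg34) (kg xg8 yg17 zg46) (kg xg25 yg6 zg28) (kg xg8 yg32 zg9) (kg xg9 yg52 zg23) (kg xg10 yg22 zg8) (kg xg21 yg16 zg25) (kg xg19 yg38 zg44) (kg xg10 yg21 zg38) (kg xg8 yg57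 zg16) (kg xg10 yg21 zg18) (kg xg8 yg17 zg49) (kg xg25 yg30 zg54) (kg xg25 yg30 zg55) (kg xg10 yg21 zg16) (kg xg10 yg22 zg57) (kg xg10 yg19 zg33) (kg xg10 yg22 zg3) (kg xg10 yg20 zg52) (kg xg8 yg17 zg52) (kg xg10 yg20 zg51) (kg xg17 yg25 zg7) (kg xg12 yg59 zg29) (kg xg8 yg37 zg31) (kg xg8 yg18 zg3) (kg xg25 yg8 zg53) (kg xg8 yg54 zg5) (kg xg9 yg0 zg59) (kg xg8 yg17 zg60) (kg xg15 yg18 zg41) (kg xg21 yg25 zg43) (kg xg8 yg17 zg61) (kg xg17 yg50 zg59) (kg xg15 yg24 zg47) (kg xg25 yg31 zg6) (kg xg17 yg49 zg25) (kg xg15 yg49 zg25) (kg xg25 yg31 zg11) (kg xg8 yg36 zg11) (kg xg11 yg53 zg13) (kg xg10 yg37 zg46) (kg xg19 yg19 zg52) (kg xg10 yg31 zg24) (kg xg25 yg26 zg53) (kg xg8 yg18 zg7) (kg xg19 yg15 zg9) (kg xg25 yg15 zg2) (kg xg25 yg31 zg20) (kg xg8 yg18 zg57) (kg xg18 yg33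 zg28) (kg xg10 yg50 zg38) (kg xg8 yg18 zg11) (kg xg10 yg51 zg52) (kg xg16 yg8 zg57) (kg xg25 yg31 zg25) (kg xg25 yg29 zg23) (kg xg12 yg21 zg13) (kg xg15 yg38 zg47) (kg xg15 yg59 zg18) (kg xg8 yg35 zg39) (kg xg22 yg10 zg30) (kg xg15 yg33 zg49)) (@D3.rec (fun _ => Pt) (kg xg25 yg29 zg16) (kg xg25 yg26 zg61) (kg xg12 yg26 zg9) (kg xg25 yg26 zg60) (kg xg8 yg18 zg17) (kg xg25 yg31 zg44) (kg xg14 yg31 zg49) (kg xg25 yg31 zg40) (kg xg8 yg18 zg18) (kg xg20 yg51 zg8) (kg xg15 yg59 zg13) (kg xg25 yg5 zg49) (kg xg20 yg55 zg38) (kg xg8 yg19 zg59) (kg xg24 yg35 zg58) (kg xg25 yg31 zg55) (kg xg15 yg58 zg11) (kg xg25 yg29 zg22) (kg xg25 yg31 zg56) (kg xg25 yg27 zg23) (kg xg8 yg18 zg22) (kg xg20 yg56 zg30) (kg xg25 yg27 zg21) (kg xg8 yg18 zg25) (kg xg25 yg32 zg11) (kg xg25 yg29 zg13)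 (kg xg25 yg32 zg12) (kg xg10 yg46 zg53) (kg xg8 yg56 zg32) (kg xg10 yg46 zg26) (kg xg8 yg18 zg28) (kg xg25 yg32 zg24) (kg xg25 yg32 zg29) (kg xg10 yg46 zg24) (kg xg10 yg46 zg38) (kg xg8 yg18 zg30) (kg xg10 yg46 zg37) (kg xg18 yg44 zg22) (kg xg25 yg32 zg37) (kg xg9 yg35 zg57) (kg xg8 yg18 zg32) (kg xg9 yg35 zg56) (kg xg25 yg32 zg43) (kg xg25 yg32 zg46) (kg xg25 yg1 zg48) (kg xg8 yg18 zg34) (kg xg11 yg9 zg41) (kg xg15 yg9 zg29) (kg xg18 yg52 zg17) (kg xg8 yg18 zg37) (kg xg18 yg52 zg16) (kg xg19 yg35 zg37) (kg xg8 yg18 zg39) (kg xg19 yg35 zg36) (kg xg25 yg32 zg55) (kg xg15 yg40 zg24) (kg xg21 yg1 zg3) (kg xg15 yg57 zg44) (kg xg17 yg42 zg47) (kg xg15 yg35 zg34) (kg xg25 yg13 zg16) (kg xg25 yg27 zg39)) (@D3.rec (fun _ => Pt) (kg xg8 yg18 zg43) (kg xg25 yg33 zg7) (kg xg25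 yg33 zg10) (kg xg25 yg33 zg4) (kg xg8 yg18 zg44) (kg xg25 yg33 zg16) (kg xg25 yg33 zg2) (kg xg22 yg55 zg50) (kg xg25 yg32 zg54) (kg xg25 yg27 zg32) (kg xg8 yg18 zg47) (kg xg25 yg33 zg25) (kg xg19 yg45 zg45) (kg xg25 yg33 zg29) (kg xg19 yg38 zg41) (kg xg21 yg17 zg1) (kg xg19 yg38 zg38) (kg xg19 yg36 zg38) (kg xg25 yg27 zg38) (kg xg8 yg18 zg50) (kg xg25 yg33 zg44) (kg xg25 yg27 zg36) (kg xg25 yg9 zg0) (kg xg19 yg38 zg46) (kg xg19 yg38 zg13) (kg xg15 yg20 zg8) (kg xg25 yg33 zg50) (kg xg25 yg15 zg13) (kg xg25 yg33 zg52) (kg xg8 yg19 zg1) (kg xg25 yg16 zg34) (kg xg8 yg18 zg59) (kg xg25 yg16 zg33) (kg xg21 yg26 zg36) (kg xg21 yg31 zg16) (kg xg8 yg18 zg61) (kg xg16 yg8 zg0) (kg xg9 yg37 zg9) (kg xg20 yg56 zg45) (kg xg8 yg19 zg2) (kg xg16 yg8 zg2) (kg xg10 yg32 zg59) (kg xg25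 yg32 zg50) (kg xg19 yg17 zg16) (kg xg8 yg23 zg20) (kg xg9 yg42 zg54) (kg xg16 yg2 zg31) (kg xg15 yg36 zg61) (kg xg9 yg20 zg56) (kg xg25 yg27 zg28) (kg xg8 yg19 zg7) (kg xg25 yg34 zg10) (kg xg24 yg8 zg1) (kg xg21 yg5 zg3) (kg xg21 yg5 zg4) (kg xg25 yg26 zg48) (kg xg8 yg19 zg9) (kg xg25 yg27 zg47) (kg xg12 yg33 zg22) (kg xg15 yg6 zg45) (kg xg15 yg32 zg43) (kg xg16 yg2 zg27)) (@D3.rec (fun _ => Pt) (kg xg13 yg17 zg41) (kg xg23 yg13 zg30) (kg xg8 yg19 zg12) (kg xg15 yg31 zg24) (kg xg16 yg2 zg20) (kg xg8 yg19 zg15) (kg xg22 yg9 zg40) (kg xg17 yg37 zg14) (kg xg10 yg26 zg24) (kg xg10 yg20 zg15) (kg xg8 yg19 zg18) (kg xg22 yg14 zg61) (kg xg10 yg20 zg14) (kg xg8 yg19 zg45) (kg xg23 yg36 zg1) (kg xg24 yg7 zg51) (kg xg25 yg34 zg35) (kg xg25 yg28 zg14) (kg xg25 yg34 zg31) (kg xg8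 yg19 zg54) (kg xg20 yg54 zg43) (kg xg22 yg57 zg25) (kg xg25 yg34 zg40) (kg xg20 yg54 zg44) (kg xg8 yg19 zg23) (kg xg14 yg28 zg38) (kg xg21 yg5 zg54) (kg xg22 yg48 zg41) (kg xg8 yg19 zg24) (kg xg22 yg55 zg3) (kg xg25 yg34 zg42) (kg xg8 yg19 zg25) (kg xg25 yg34 zg57) (kg xg25 yg34 zg41) (kg xg9 yg37 zg45) (kg xg9 yg37 zg43) (kg xg16 yg27 zg7) (kg xg8 yg19 zg43) (kg xg20 yg43 zg26) (kg xg8 yg19 zg29) (kg xg19 yg37 zg60) (kg xg15 yg20 zg11) (kg xg20 yg43 zg57) (kg xg8 yg19 zg30) (kg xg25 yg35 zg3) (kg xg25 yg27 zg60) (kg xg25 yg28 zg10) (kg xg21 yg58 zg33) (kg xg25 yg28 zg39) (kg xg22 yg9 zg44) (kg xg9 yg38 zg19) (kg xg8 yg19 zg56) (kg xg16 yg2 zg21) (kg xg19 yg35 zg57) (kg xg22 yg9 zg42) (kg xg25 yg27 zg55) (kg xg8 yg19 zg35) (kg xg25 yg35 zg20) (kg xg22 yg54 zg57) (kg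 xg25 yg35 zg14) (kg xg8 yg19 zg36) (kg xg25 yg35 zg26)) (@D3.rec (fun _ => Pt) (kg xg25 yg35 zg13) (kg xg14 yg52 zg23) (kg xg8 yg19 zg37) (kg xg18 yg51 zg30) (kg xg22 yg57 zg23) (kg xg22 yg59 zg35) (kg xg8 yg19 zg38) (kg xg14 yg11 zg1) (kg xg15 yg43 zg18) (kg xg8 yg19 zg49) (kg xg25 yg32 zg39) (kg xg15 yg35 zg17) (kg xg9 yg28 zg53) (kg xg8 yg19 zg42) (kg xg22 yg9 zg46) (kg xg25 yg35 zg18) (kg xg25 yg35 zg43) (kg xg8 yg19 zg46) (kg xg25 yg35 zg46) (kg xg19 yg24 zg44) (kg xg9 yg28 zg33) (kg xg25 yg35 zg50) (kg xg25 yg34 zg30) (kg xg25 yg28 zg0) (kg xg15 yg37 zg58) (kg xg25 yg35 zg55) (kg xg23 yg46 zg38) (kg xg25 yg35 zg29) (kg xg8 yg19 zg52) (kg xg25 yg36 zg2) (kg xg12 yg57 zg17) (kg xg25 yg35 zg8) (kg xg25 yg36 zg6) (kg xg20 yg59 zg13) (kg xg25 yg35 zg52) (kg xg17 yg11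 zg58) (kg xg25 yg35 zg32) (kg xg8 yg19 zg50) (kg xg25 yg36 zg11) (kg xg10 yg26 zg7) (kg xg25 yg36 zg14) (kg xg15 yg47 zg0) (kg xg8 yg19 zg53) (kg xg25 yg28 zg5) (kg xg22 yg49 zg30) (kg xg25 yg36 zg16) (kg xg25 yg28 zg42) (kg xg8 yg19 zg55) (kg xg25 yg36 zg20) (kg xg22 yg9 zg14) (kg xg25 yg27 zg54) (kg xg22 yg22 zg59) (kg xg25 yg36 zg24) (kg xg15 yg41 zg2) (kg xg10 yg43 zg31) (kg xg10 yg26 zg10) (kg xg18 yg51 zg14) (kg xg8 yg19 zg58) (kg xg18 yg51 zg16) (kg xg15 yg33 zg6) (kg xg17 yg31 zg55) (kg xg25 yg36 zg32)) (@D3.rec (fun _ => Pt) (kg xg17 yg26 zg11) (kg xg22 yg20 zg30) (kg xg10 yg51 zg31) (kg xg17 yg26 zg9) (kg xg22 yg10 zg56) (kg xg8 yg20 zg1) (kg xg25 yg36 zg36) (kg xg16 yg0 zg49) (kg xg8 yg56 zg22) (kg xg11 yg52 zg61) (kg xg21 yg0 zg23) (kg xg25 yg27 zg53) (kg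 xg15 yg16 zg12) (kg xg16 yg0 zg6) (kg xg15 yg59 zg42) (kg xg25 yg36 zg50) (kg xg25 yg24 zg32) (kg xg8 yg20 zg10) (kg xg25 yg36 zg53) (kg xg8 yg37 zg6) (kg xg16 yg13 zg42) (kg xg21 yg23 zg53) (kg xg25 yg27 zg27) (kg xg25 yg36 zg51) (kg xg16 yg0 zg2) (kg xg15 yg35 zg58) (kg xg10 yg32 zg40) (kg xg8 yg20 zg12) (kg xg10 yg32 zg39) (kg xg8 yg21 zg14) (kg xg8 yg20 zg13) (kg xg25 yg37 zg3) (kg xg8 yg22 zg38) (kg xg8 yg33 zg21) (kg xg8 yg22 zg19) (kg xg13 yg54 zg22) (kg xg16 yg4 zg4) (kg xg24 yg38 zg7) (kg xg21 yg55 zg31) (kg xg25 yg37 zg11) (kg xg8 yg20 zg57) (kg xg8 yg20 zg17) (kg xg25 yg37 zg16) (kg xg8 yg20 zg55) (kg xg24 yg32 zg29) (kg xg16 yg4 zg9) (kg xg15 yg41 zg33) (kg xg15 yg3 zg37) (kg xg15 yg0 zg58) (kg xg15 yg3 zg11) (kg xg16 yg9 zg30) (kg xg8 yg20 zg24) (kg xg15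 yg18 zg30) (kg xg15 yg18 zg34) (kg xg8 yg20 zg25) (kg xg15 yg18 zg33) (kg xg25 yg37 zg32) (kg xg25 yg37 zg36) (kg xg11 yg5 zg60) (kg xg15 yg1 zg43) (kg xg15 yg32 zg4) (kg xg15 yg16 zg58)) (@D3.rec (fun _ => Pt) (kg xg8 yg20 zg30) (kg xg14 yg49 zg53) (kg xg16 yg41 zg50) (kg xg21 yg22 zg42) (kg xg25 yg37 zg44) (kg xg16 yg4 zg27) (kg xg8 yg20 zg32) (kg xg25 yg37 zg50) (kg xg16 yg4 zg25) (kg xg16 yg4 zg40) (kg xg16 yg5 zg10) (kg xg8 yg20 zg61) (kg xg16 yg4 zg20) (kg xg8 yg20 zg35) (kg xg16 yg4 zg19) (kg xg25 yg37 zg57) (kg xg19 yg16 zg61) (kg xg19 yg55 zg28) (kg xg8 yg20 zg37) (kg xg23 yg41 zg17) (kg xg16 yg4 zg16) (kg xg16 yg4 zg32) (kg xg8 yg20 zg40) (kg xg16 yg4 zg31) (kg xg22 yg4 zg42) (kg xg25 yg38 zg10) (kg xg25 yg38 zg13) (kg xg25 yg38 zg16) (kg xg16 yg4 zg28) (kg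 xg16 yg4 zg37) (kg xg8 yg20 zg43) (kg xg16 yg4 zg36) (kg xg25 yg38 zg26) (kg xg21 yg32 zg61) (kg xg25 yg38 zg30) (kg xg25 yg38 zg34) (kg xg25 yg38 zg21) (kg xg12 yg16 zg60) (kg xg23 yg36 zg23) (kg xg8 yg35 zg0) (kg xg14 yg38 zg46) (kg xg25 yg38 zg39) (kg xg11 yg51 zg10) (kg xg24 yg52 zg5) (kg xg25 yg38 zg20) (kg xg14 yg38 zg38) (kg xg24 yg37 zg60) (kg xg8 yg20 zg53) (kg xg25 yg38 zg51) (kg xg25 yg37 zg12) (kg xg23 yg36 zg26) (kg xg15 yg1 zg20) (kg xg15 yg45 zg39) (kg xg21 yg31 zg30) (kg xg9 yg33 zg43) (kg xg15 yg46 zg7) (kg xg15 yg47 zg28) (kg xg23 yg39 zg8) (kg xg8 yg20 zg56) (kg xg25 yg39 zg10) (kg xg25 yg37 zg17) (kg xg8 yg20 zg60)) (@D3.rec (fun _ => Pt) (kg xg14 yg49 zg55) (kg xg17 yg43 zg33) (kg xg21 yg24 zg25) (kg xg25 yg39 zg15) (kg xg19 yg16 zg33) (kg xg15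 yg44 zg11) (kg xg12 yg52 zg16) (kg xg8 yg21 zg45) (kg xg13 yg2 zg7) (kg xg8 yg21 zg5) (kg xg17 yg40 zg41) (kg xg12 yg27 zg59) (kg xg8 yg21 zg8) (kg xg24 yg32 zg30) (kg xg25 yg39 zg27) (kg xg24 yg49 zg11) (kg xg12 yg48 zg33) (kg xg15 yg56 zg57) (kg xg15 yg34 zg20) (kg xg11 yg52 zg8) (kg xg8 yg21 zg12) (kg xg11 yg52 zg7) (kg xg19 yg16 zg60) (kg xg24 yg36 zg7) (kg xg24 yg32 zg53) (kg xg25 yg37 zg4) (kg xg21 yg49 zg20) (kg xg16 yg3 zg3) (kg xg8 yg21 zg18) (kg xg16 yg3 zg2) (kg xg13 yg53 zg5) (kg xg13 yg53 zg22) (kg xg16 yg3 zg7) (kg xg8 yg21 zg21) (kg xg16 yg3 zg6) (kg xg21 yg59 zg5) (kg xg23 yg36 zg3) (kg xg15 yg45 zg11) (kg xg16 yg2 zg56) (kg xg25 yg39 zg46) (kg xg9 yg45 zg26) (kg xg8 yg21 zg27) (kg xg11 yg59 zg6) (kg xg13 yg8 zg52) (kg xg25 yg39 zg53) (kg xg22 yg9 zg61)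 (kg xg18 yg35 zg2) (kg xg14 yg6 zg14) (kg xg8 yg21 zg31) (kg xg25 yg39 zg61) (kg xg22 yg17 zg44) (kg xg25 yg40 zg3) (kg xg23 yg29 zg34) (kg xg21 yg49 zg18) (kg xg8 yg21 zg33) (kg xg25 yg40 zg16) (kg xg8 yg25 zg39) (kg xg25 yg40 zg19) (kg xg25 yg38 zg1) (kg xg10 yg36 zg12) (kg xg10 yg33 zg61) (kg xg8 yg40 zg18)) (@D3.rec (fun _ => Pt) (kg xg10 yg30 zg58) (kg xg8 yg23 zg50) (kg xg10 yg35 zg54) (kg xg8 yg21 zg38) (kg xg24 yg36 zg20) (kg xg19 yg9 zg7) (kg xg10 yg35 zg52) (kg xg10 yg35 zg60) (kg xg8 yg21 zg40) (kg xg10 yg35 zg59) (kg xg19 yg33 zg8) (kg xg15 yg43 zg6) (kg xg19 yg16 zg46) (kg xg24 yg10 zg3) (kg xg8 yg55 zg51) (kg xg11 yg5 zg47) (kg xg8 yg59 zg60) (kg xg25 yg40 zg39) (kg xg8 yg21 zg49) (kg xg25 yg40 zg40) (kg xg11 yg14 zg19) (kg xg20 yg18 zg48) (kg xg8 yg59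 zg61) (kg xg16 yg43 zg48) (kg xg10 yg53 zg6) (kg xg10 yg37 zg51) (kg xg16 yg6 zg0) (kg xg8 yg21 zg55) (kg xg16 yg5 zg61) (kg xg23 yg42 zg24) (kg xg12 yg40 zg28) (kg xg25 yg40 zg51) (kg xg8 yg22 zg13) (kg xg8 yg21 zg57) (kg xg15 yg43 zg37) (kg xg8 yg22 zg11) (kg xg19 yg5 zg61) (kg xg10 yg32 zg34) (kg xg16 yg6 zg10) (kg xg8 yg21 zg61) (kg xg16 yg6 zg9) (kg xg25 yg41 zg8) (kg xg25 yg41 zg11) (kg xg16 yg6 zg13) (kg xg16 yg6 zg12) (kg xg18 yg27 zg45) (kg xg21 yg28 zg15) (kg xg25 yg41 zg17) (kg xg15 yg42 zg39) (kg xg16 yg6 zg19) (kg xg8 yg22 zg5) (kg xg25 yg41 zg21) (kg xg19 yg14 zg46) (kg xg12 yg40 zg33) (kg xg12 yg54 zg56) (kg xg25 yg41 zg27) (kg xg25 yg41 zg14) (kg xg23 yg49 zg34) (kg xg25 yg40 zg54) (kg xg8 yg22 zg9) (kg xg15 yg42 zg25) (kg xg25 yg40 zg52)) (@D3.rec (fun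 _ => Pt) (kg xg25 yg41 zg43) (kg xg19 yg15 zg59) (kg xg19 yg16 zg31) (kg xg8 yg22 zg33) (kg xg22 yg10 zg25) (kg xg9 yg33 zg51) (kg xg19 yg16 zg30) (kg xg21 yg0 zg43) (kg xg25 yg40 zg58) (kg xg8 yg22 zg12) (kg xg25 yg41 zg54) (kg xg25 yg40 zg56) (kg xg19 yg4 zg36) (kg xg8 yg22 zg18) (kg xg21 yg56 zg26) (kg xg19 yg16 zg35) (kg xg9 yg37 zg54) (kg xg19 yg4 zg43) (kg xg19 yg6 zg1) (kg xg12 yg48 zg24) (kg xg25 yg42 zg1) (kg xg8 yg22 zg20) (kg xg25 yg40 zg35) (kg xg25 yg42 zg5) (kg xg21 yg8 zg52) (kg xg21 yg21 zg45) (kg xg8 yg23 zg37) (kg xg16 yg0 zg53) (kg xg12 yg33 zg49) (kg xg16 yg47 zg6) (kg xg8 yg22 zg29) (kg xg10 yg48 zg26) (kg xg22 yg5 zg40) (kg xg17 yg3 zg34) (kg xg14 yg2 zg19) (kg xg8 yg22 zg31) (kg xg14 yg54 zg40) (kg xg25 yg42 zg13) (kg xg8 yg22 zg50) (kg xg15 yg42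 zg55) (kg xg8 yg22 zg48) (kg xg20 yg54 zg49) (kg xg16 yg5 zg14) (kg xg8 yg22 zg36) (kg xg16 yg5 zg13) (kg xg16 yg5 zg19) (kg xg8 yg22 zg37) (kg xg16 yg5 zg18) (kg xg22 yg8 zg35) (kg xg25 yg41 zg12) (kg xg23 yg22 zg48) (kg xg14 yg2 zg61) (kg xg16 yg7 zg7) (kg xg14 yg2 zg18) (kg xg16 yg56 zg33) (kg xg22 yg38 zg15) (kg xg14 yg3 zg1) (kg xg22 yg10 zg0) (kg xg11 yg19 zg61) (kg xg25 yg42 zg15) (kg xg8 yg22 zg46) (kg xg25 yg42 zg40)) (@D3.rec (fun _ => Pt) (kg xg25 yg42 zg14) (kg xg21 yg19 zg21) (kg xg22 yg27 zg9) (kg xg25 yg42 zg25) (kg xg25 yg42 zg18) (kg xg8 yg22 zg49) (kg xg25 yg42 zg52) (kg xg15 yg42 zg52) (kg xg8 yg22 zg54) (kg xg23 yg29 zg9) (kg xg25 yg37 zg1) (kg xg21 yg34 zg22) (kg xg24 yg49 zg13) (kg xg8 yg22 zg56) (kg xg15 yg3 zg44) (kg xg22 yg39 zg8) (kg xg21 yg32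 zg35) (kg xg25 yg4 zg7) (kg xg12 yg16 zg32) (kg xg19 yg5 zg50) (kg xg9 yg37 zg11) (kg xg16 yg13 zg45) (kg xg17 yg42 zg21) (kg xg25 yg43 zg4) (kg xg12 yg15 zg26) (kg xg8 yg35 zg13) (kg xg8 yg23 zg8) (kg xg22 yg2 zg0) (kg xg17 yg22 zg6) (kg xg25 yg27 zg52) (kg xg15 yg23 zg34) (kg xg24 yg8 zg6) (kg xg15 yg33 zg7) (kg xg15 yg47 zg17) (kg xg25 yg25 zg5) (kg xg8 yg23 zg17) (kg xg16 yg17 zg6) (kg xg19 yg39 zg34) (kg xg25 yg33 zg13) (kg xg16 yg17 zg10) (kg xg8 yg23 zg30) (kg xg8 yg23 zg18) (kg xg25 yg35 zg45) (kg xg19 yg31 zg27) (kg xg25 yg34 zg23) (kg xg17 yg29 zg6) (kg xg10 yg52 zg3) (kg xg15 yg43 zg7) (kg xg17 yg37 zg51) (kg xg17 yg25 zg36) (kg xg16 yg4 zg61) (kg xg25 yg34 zg36) (kg xg14 yg37 zg38) (kg xg25 yg33 zg19) (kg xg22 yg10 zg60) (kg xg23 yg11 zg30) (kg xg25 yg34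 zg17) (kg xg12 yg0 zg14) (kg xg25 yg31 zg27) (kg xg22 yg9 zg54) (kg xg8 yg30 zg3) (kg xg8 yg32 zg17)) (@D3.rec (fun _ => Pt) (kg xg15 yg40 zg42) (kg xg17 yg39 zg5) (kg xg25 yg43 zg41) (kg xg25 yg43 zg44) (kg xg25 yg43 zg42) (kg xg25 yg43 zg47) (kg xg19 yg38 zg56) (kg xg16 yg16 zg5) (kg xg15 yg58 zg13) (kg xg8 yg32 zg15) (kg xg8 yg23 zg41) (kg xg22 yg7 zg27) (kg xg25 yg9 zg40) (kg xg15 yg16 zg51) (kg xg8 yg23 zg42) (kg xg15 yg16 zg49) (kg xg15 yg46 zg33) (kg xg22 yg8 zg20) (kg xg16 yg6 zg58) (kg xg12 yg15 zg57) (kg xg23 yg2 zg54) (kg xg25 yg34 zg3) (kg xg9 yg20 zg9) (kg xg9 yg20 zg7) (kg xg16 yg5 zg21) (kg xg25 yg44 zg7) (kg xg25 yg40 zg10) (kg xg15 yg42 zg11) (kg xg21 yg6 zg37) (kg xg18 yg40 zg3) (kg xg25 yg44 zg14) (kg xg10 yg17 zg38) (kg xg8 yg23 zg58) (kg xg10 yg17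 zg36) (kg xg8 yg23 zg59) (kg xg8 yg23 zg60) (kg xg15 yg24 zg7) (kg xg8 yg23 zg61) (kg xg15 yg24 zg6) (kg xg19 yg33 zg0) (kg xg11 yg36 zg42) (kg xg16 yg42 zg18) (kg xg8 yg25 zg9) (kg xg8 yg24 zg1) (kg xg9 yg11 zg52) (kg xg9 yg38 zg60) (kg xg8 yg36 zg32) (kg xg9 yg38 zg55) (kg xg12 yg20 zg47) (kg xg8 yg24 zg3) (kg xg25 yg44 zg29) (kg xg25 yg44 zg32) (kg xg15 yg33 zg16) (kg xg15 yg47 zg46) (kg xg8 yg24 zg9) (kg xg11 yg9 zg35) (kg xg16 yg8 zg50) (kg xg8 yg24 zg10) (kg xg16 yg8 zg49) (kg xg19 yg42 zg44) (kg xg17 yg52 zg42) (kg xg20 yg57 zg47)) (@D3.rec (fun _ => Pt) (kg xg16 yg9 zg4) (kg xg8 yg24 zg12) (kg xg25 yg44 zg43) (kg xg16 yg9 zg2) (kg xg16 yg9 zg16) (kg xg17 yg41 zg53) (kg xg8 yg24 zg44) (kg xg8 yg24 zg25) (kg xg25 yg44 zg49) (kg xg21 yg54 zg25) (kg xg25 yg44 zg51)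 (kg xg8 yg24 zg20) (kg xg21 yg38 zg0) (kg xg16 yg8 zg54) (kg xg8 yg24 zg28) (kg xg12 yg35 zg39) (kg xg8 yg24 zg23) (kg xg16 yg9 zg8) (kg xg16 yg13 zg61) (kg xg21 yg36 zg24) (kg xg12 yg18 zg20) (kg xg16 yg9 zg5) (kg xg16 yg9 zg13) (kg xg8 yg24 zg26) (kg xg16 yg9 zg12) (kg xg17 yg51 zg49) (kg xg20 yg13 zg0) (kg xg21 yg20 zg47) (kg xg12 yg21 zg40) (kg xg8 yg35 zg31) (kg xg25 yg44 zg58) (kg xg21 yg20 zg54) (kg xg25 yg45 zg3) (kg xg17 yg33 zg11) (kg xg25 yg45 zg7) (kg xg25 yg45 zg9) (kg xg25 yg44 zg34) (kg xg8 yg24 zg35) (kg xg25 yg44 zg33) (kg xg12 yg21 zg41) (kg xg22 yg10 zg4) (kg xg12 yg19 zg41) (kg xg9 yg35 zg30) (kg xg8 yg24 zg42) (kg xg12 yg18 zg48) (kg xg16 yg0 zg13) (kg xg10 yg27 zg52) (kg xg17 yg46 zg50) (kg xg8 yg29 zg38) (kg xg19 yg27 zg59) (kg xg12 yg43 zg33)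 (kg xg18 yg58 zg22) (kg xg18 yg33 zg25) (kg xg15 yg43 zg8) (kg xg15 yg43 zg9) (kg xg9 yg36 zg3) (kg xg12 yg17 zg32) (kg xg25 yg45 zg23) (kg xg16 yg15 zg55) (kg xg8 yg24 zg48) (kg xg17 yg43 zg58) (kg xg17 yg37 zg28)) (@D3.rec (fun _ => Pt) (kg xg17 yg37 zg38) (kg xg9 yg37 zg47) (kg xg10 yg50 zg24) (kg xg17 yg36 zg25) (kg xg9 yg37 zg49) (kg xg8 yg24 zg58) (kg xg8 yg24 zg59) (kg xg25 yg45 zg31) (kg xg9 yg39 zg14) (kg xg15 yg34 zg50) (kg xg24 yg45 zg44) (kg xg21 yg44 zg45) (kg xg21 yg44 zg34) (kg xg17 yg5 zg47) (kg xg12 yg43 zg34) (kg xg12 yg20 zg44) (kg xg8 yg25 zg10) (kg xg12 yg26 zg16) (kg xg8 yg25 zg13) (kg xg20 yg34 zg59) (kg xg16 yg7 zg20) (kg xg16 yg7 zg28) (kg xg8 yg25 zg15) (kg xg22 yg2 zg48) (kg xg25 yg45 zg39) (kg xg8 yg25 zg17) (kg xg17 yg4 zg61) (kg xg10 yg50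 zg29) (kg xg10 yg50 zg28) (kg xg16 yg7 zg34) (kg xg8 yg25 zg19) (kg xg16 yg7 zg33) (kg xg8 yg25 zg21) (kg xg12 yg43 zg38) (kg xg8 yg25 zg29) (kg xg9 yg38 zg54) (kg xg11 yg18 zg53) (kg xg16 yg7 zg39) (kg xg11 yg18 zg51) (kg xg25 yg44 zg59) (kg xg23 yg42 zg9) (kg xg25 yg45 zg51) (kg xg12 yg36 zg36) (kg xg9 yg56 zg10) (kg xg11 yg10 zg46) (kg xg20 yg13 zg3) (kg xg25 yg45 zg55) (kg xg12 yg56 zg45) (kg xg23 yg40 zg8) (kg xg25 yg45 zg56) (kg xg8 yg25 zg36) (kg xg21 yg4 zg4) (kg xg10 yg4 zg35) (kg xg8 yg34 zg4) (kg xg24 yg32 zg40) (kg xg21 yg37 zg35) (kg xg14 yg56 zg45) (kg xg16 yg15 zg26) (kg xg25 yg45 zg60) (kg xg10 yg38 zg60) (kg xg8 yg25 zg46) (kg xg10 yg38 zg59)) (@D3.rec (fun _ => Pt) (kg xg25 yg46 zg4) (kg xg25 yg46 zg8) (kg xg24 yg58 zg19) (kg xg25 yg10 zg30) (kg xg24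 yg58 zg26) (kg xg8 yg25 zg53) (kg xg16 yg29 zg22) (kg xg23 yg30 zg51) (kg xg25 yg46 zg15) (kg xg11 yg34 zg33) (kg xg25 yg1 zg58) (kg xg8 yg26 zg1) (kg xg8 yg25 zg58) (kg xg8 yg38 zg20) (kg xg25 yg46 zg24) (kg xg16 yg10 zg37) (kg xg19 yg58 zg54) (kg xg25 yg1 zg52) (kg xg20 yg32 zg35) (kg xg8 yg25 zg61) (kg xg23 yg35 zg17) (kg xg25 yg46 zg30) (kg xg25 yg46 zg32) (kg xg25 yg46 zg20) (kg xg25 yg46 zg25) (kg xg8 yg26 zg0) (kg xg16 yg30 zg59) (kg xg23 yg31 zg56) (kg xg15 yg14 zg21) (kg xg8 yg26 zg2) (kg xg14 yg8 zg41) (kg xg18 yg29 zg12) (kg xg15 yg14 zg2) (kg xg20 yg31 zg45) (kg xg25 yg1 zg56) (kg xg24 yg47 zg8) (kg xg16 yg22 zg47) (kg xg15 yg23 zg60) (kg xg15 yg23 zg59) (kg xg8 yg26 zg7) (kg xg23 yg37 zg1) (kg xg10 yg20 zg16) (kg xg10 yg7 zg26) (kg xg10 yg7 zg25) (kg xg10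 yg8 zg19) (kg xg10 yg8 zg18) (kg xg18 yg46 zg38) (kg xg8 yg26 zg12) (kg xg18 yg9 zg32) (kg xg12 yg3 zg39) (kg xg15 yg56 zg41) (kg xg17 yg46 zg60) (kg xg23 yg24 zg0) (kg xg11 yg54 zg59) (kg xg9 yg52 zg19) (kg xg15 yg11 zg40) (kg xg15 yg11 zg39) (kg xg8 yg26 zg19) (kg xg22 yg40 zg3) (kg xg22 yg38 zg51) (kg xg15 yg55 zg59) (kg xg8 yg26 zg39)) (@D3.rec (fun _ => Pt) (kg xg8 yg26 zg23) (kg xg8 yg26 zg53) (kg xg10 yg53 zg41) (kg xg8 yg26 zg24) (kg xg10 yg53 zg40) (kg xg25 yg46 zg58) (kg xg25 yg46 zg60) (kg xg8 yg26 zg31) (kg xg19 yg35 zg9) (kg xg8 yg26 zg27) (kg xg8 yg26 zg28) (kg xg14 yg23 zg18) (kg xg19 yg16 zg28) (kg xg8 yg26 zg29) (kg xg21 yg0 zg48) (kg xg21 yg30 zg32) (kg xg9 yg22 zg22) (kg xg25 yg47 zg9) (kg xg8 yg30 zg38) (kg xg9 yg34 zg9) (kg xg9 yg34 zg8) (kg xg10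 yg50 zg42) (kg xg10 yg50 zg41) (kg xg17 yg50 zg6) (kg xg8 yg26 zg35) (kg xg15 yg52 zg28) (kg xg15 yg36 zg27) (kg xg15 yg24 zg29) (kg xg25 yg47 zg17) (kg xg8 yg31 zg6) (kg xg8 yg26 zg44) (kg xg19 yg28 zg44) (kg xg19 yg43 zg3) (kg xg24 yg14 zg31) (kg xg17 yg51 zg9) (kg xg8 yg26 zg49) (kg xg17 yg51 zg8) (kg xg25 yg27 zg56) (kg xg9 yg27 zg14) (kg xg10 yg25 zg5) (kg xg19 yg42 zg15) (kg xg18 yg13 zg40) (kg xg18 yg27 zg58) (kg xg16 yg41 zg3) (kg xg16 yg41 zg2) (kg xg8 yg26 zg57) (kg xg16 yg40 zg38) (kg xg20 yg38 zg52) (kg xg25 yg47 zg32) (kg xg25 yg47 zg36) (kg xg25 yg47 zg38) (kg xg16 yg46 zg28) (kg xg8 yg57 zg57) (kg xg17 yg21 zg36) (kg xg8 yg27 zg4) (kg xg9 yg51 zg28) (kg xg8 yg27 zg0) (kg xg10 yg24 zg7) (kg xg10 yg53 zg27) (kg xg8 yg27 zg2) (kg xg10 yg53 zg26) (kg xg19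 yg28 zg28)) (@D3.rec (fun _ => Pt) (kg xg14 yg23 zg59) (kg xg23 yg56 zg2) (kg xg19 yg24 zg6) (kg xg8 yg57 zg55) (kg xg8 yg27 zg6) (kg xg8 yg27 zg9) (kg xg25 yg47 zg41) (kg xg19 yg49 zg41) (kg xg19 yg30 zg12) (kg xg19 yg21 zg55) (kg xg8 yg27 zg7) (kg xg17 yg51 zg16) (kg xg10 yg53 zg60) (kg xg25 yg11 zg29) (kg xg22 yg20 zg19) (kg xg19 yg6 zg58) (kg xg8 yg27 zg8) (kg xg24 yg13 zg29) (kg xg25 yg48 zg13) (kg xg25 yg48 zg4) (kg xg14 yg28 zg3) (kg xg25 yg48 zg15) (kg xg25 yg8 zg51) (kg xg25 yg47 zg0) (kg xg8 yg27 zg12) (kg xg25 yg46 zg61) (kg xg25 yg48 zg25) (kg xg8 yg27 zg14) (kg xg25 yg48 zg27) (kg xg25 yg46 zg54) (kg xg15 yg51 zg25) (kg xg19 yg35 zg50) (kg xg17 yg35 zg55) (kg xg8 yg27 zg17) (kg xg17 yg35 zg54) (kg xg25 yg48 zg32) (kg xg25 yg48 zg35) (kg xg11 yg56 zg60)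 (kg xg8 yg27 zg19) (kg xg15 yg20 zg22) (kg xg11 yg56 zg58) (kg xg11 yg8 zg37) (kg xg14 yg50 zg54) (kg xg8 yg27 zg23) (kg xg15 yg17 zg4) (kg xg25 yg43 zg61) (kg xg24 yg38 zg28) (kg xg15 yg34 zg29) (kg xg15 yg17 zg2) (kg xg8 yg27 zg25) (kg xg11 yg9 zg6) (kg xg15 yg16 zg46) (kg xg9 yg37 zg59) (kg xg8 yg27 zg30) (kg xg8 yg27 zg33) (kg xg25 yg6 zg50) (kg xg19 yg16 zg2) (kg xg25 yg48 zg60) (kg xg25 yg49 zg1) (kg xg8 yg27 zg31) (kg xg25 yg49 zg4) (kg xg25 yg48 zg58)) (@D3.rec (fun _ => Pt) (kg xg19 yg57 zg8) (kg xg19 yg56 zg58) (kg xg25 yg7 zg41) (kg xg25 yg7 zg42) (kg xg8 yg27 zg32) (kg xg25 yg49 zg7) (kg xg15 yg53 zg9) (kg xg8 yg27 zg34) (kg xg15 yg54 zg60) (kg xg15 yg53 zg7) (kg xg19 yg38 zg30) (kg xg25 yg49 zg10) (kg xg25 yg49 zg13) (kg xg25 yg49 zg16) (kg xg14 yg0 zg47)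 (kg xg17 yg35 zg56) (kg xg22 yg52 zg26) (kg xg11 yg4 zg28) (kg xg20 yg2 zg46) (kg xg13 yg10 zg25) (kg xg15 yg55 zg0) (kg xg13 yg43 zg37) (kg xg8 yg27 zg41) (kg xg13 yg43 zg36) (kg xg15 yg22 zg36) (kg xg17 yg49 zg0) (kg xg9 yg53 zg40) (kg xg11 yg32 zg47) (kg xg8 yg27 zg47) (kg xg14 yg50 zg57) (kg xg8 yg27 zg49) (kg xg14 yg50 zg25) (kg xg8 yg27 zg51) (kg xg25 yg14 zg38) (kg xg13 yg37 zg10) (kg xg23 yg21 zg9) (kg xg8 yg27 zg53) (kg xg17 yg39 zg37) (kg xg15 yg3 zg16) (kg xg18 yg3 zg6) (kg xg10 yg8 zg48) (kg xg9 yg51 zg27) (kg xg9 yg51 zg31) (kg xg9 yg53 zg38) (kg xg15 yg9 zg33) (kg xg15 yg54 zg33) (kg xg25 yg13 zg15) (kg xg15 yg20 zg61) (kg xg19 yg53 zg57) (kg xg24 yg38 zg5) (kg xg25 yg49 zg44) (kg xg8 yg27 zg60) (kg xg25 yg49 zg46) (kg xg25 yg37 zg10) (kg xg15 yg21 zg13)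 (kg xg25 yg49 zg47) (kg xg15 yg9 zg32) (kg xg25 yg49 zg48) (kg xg18 yg28 zg31) (kg xg15 yg20 zg41) (kg xg8 yg28 zg1) (kg xg25 yg10 zg39)) (@D3.rec (fun _ => Pt) (kg xg15 yg20 zg39) (kg xg8 yg28 zg8) (kg xg20 yg4 zg13) (kg xg16 yg16 zg7) (kg xg15 yg19 zg50) (kg xg25 yg12 zg59) (kg xg25 yg48 zg41) (kg xg15 yg21 zg55) (kg xg15 yg21 zg14) (kg xg11 yg56 zg59) (kg xg15 yg20 zg55) (kg xg8 yg28 zg12) (kg xg17 yg57 zg23) (kg xg15 yg20 zg53) (kg xg25 yg49 zg8) (kg xg10 yg58 zg50) (kg xg19 yg16 zg7) (kg xg17 yg52 zg45) (kg xg15 yg17 zg61) (kg xg25 yg50 zg14) (kg xg8 yg28 zg19) (kg xg19 yg44 zg22) (kg xg25 yg50 zg19) (kg xg19 yg15 zg46) (kg xg16 yg46 zg55) (kg xg25 yg49 zg18) (kg xg25 yg15 zg22) (kg xg25 yg10 zg34) (kg xg25 yg50 zg32) (kg xg25 yg10 zg35) (kg xg25 yg11 zg28) (kg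 xg25 yg5 zg8) (kg xg10 yg58 zg59) (kg xg15 yg53 zg48) (kg xg8 yg59 zg59) (kg xg25 yg50 zg38) (kg xg25 yg50 zg20) (kg xg25 yg50 zg44) (kg xg25 yg50 zg26) (kg xg15 yg18 zg6) (kg xg8 yg28 zg26) (kg xg25 yg11 zg37) (kg xg24 yg58 zg28) (kg xg25 yg50 zg54) (kg xg15 yg19 zg24) (kg xg10 yg41 zg14) (kg xg24 yg16 zg15) (kg xg8 yg58 zg15) (kg xg15 yg19 zg30) (kg xg25 yg50 zg56) (kg xg8 yg28 zg30) (kg xg25 yg50 zg55) (kg xg19 yg16 zg27) (kg xg8 yg28 zg31) (kg xg19 yg16 zg17) (kg xg15 yg19 zg34) (kg xg15 yg19 zg23) (kg xg25 yg28 zg12) (kg xg25 yg15 zg35) (kg xg15 yg53 zg8) (kg xg8 yg28 zg35) (kg xg25 yg7 zg48)) (@D3.rec (fun _ => Pt) (kg xg21 yg1 zg59) (kg xg15 yg53 zg20) (kg xg15 yg56 zg12) (kg xg8 yg28 zg40) (kg xg15 yg56 zg11) (kg xg22 yg4 zg7) (kg xg14 yg18 zg1) (kg xg10 yg21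 zg60) (kg xg10 yg43 zg8) (kg xg8 yg28 zg42) (kg xg17 yg12 zg9) (kg xg10 yg43 zg6) (kg xg25 yg51 zg28) (kg xg10 yg19 zg59) (kg xg13 yg23 zg33) (kg xg8 yg28 zg46) (kg xg15 yg56 zg17) (kg xg13 yg23 zg32) (kg xg23 yg10 zg53) (kg xg25 yg51 zg33) (kg xg10 yg44 zg6) (kg xg8 yg28 zg48) (kg xg16 yg44 zg24) (kg xg10 yg44 zg4) (kg xg15 yg56 zg26) (kg xg8 yg28 zg54) (kg xg8 yg31 zg25) (kg xg13 yg45 zg54) (kg xg8 yg28 zg52) (kg xg15 yg56 zg28) (kg xg9 yg25 zg50) (kg xg20 yg17 zg11) (kg xg25 yg51 zg47) (kg xg15 yg37 zg32) (kg xg10 yg44 zg10) (kg xg15 yg56 zg21) (kg xg8 yg28 zg55) (kg xg15 yg56 zg20) (kg xg21 yg51 zg13) (kg xg14 yg32 zg23) (kg xg17 yg11 zg37) (kg xg19 yg28 zg42) (kg xg10 yg54 zg17) (kg xg8 yg28 zg59) (kg xg8 yg29 zg0) (kg xg21 yg30 zg36) (kg xg19 yg26 zg19) (kg xg16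 yg26 zg7) (kg xg25 yg51 zg61) (kg xg8 yg28 zg60) (kg xg25 yg51 zg58) (kg xg19 yg23 zg41) (kg xg25 yg52 zg1) (kg xg25 yg51 zg53) (kg xg8 yg28 zg61) (kg xg25 yg52 zg8) (kg xg25 yg52 zg2) (kg xg25 yg52 zg11) (kg xg25 yg51 zg44) (kg xg11 yg15 zg59) (kg xg21 yg51 zg9) (kg xg25 yg52 zg15)) (@D3.rec (fun _ => Pt) (kg xg17 yg24 zg61) (kg xg8 yg56 zg25) (kg xg8 yg29 zg5) (kg xg25 yg52 zg22) (kg xg10 yg44 zg11) (kg xg11 yg53 zg14) (kg xg25 yg20 zg40) (kg xg8 yg29 zg8) (kg xg25 yg20 zg39) (kg xg25 yg52 zg31) (kg xg25 yg52 zg33) (kg xg8 yg29 zg11) (kg xg15 yg55 zg3) (kg xg25 yg52 zg38) (kg xg25 yg52 zg39) (kg xg19 yg42 zg7) (kg xg15 yg55 zg16) (kg xg8 yg29 zg14) (kg xg15 yg55 zg42) (kg xg15 yg55 zg37) (kg xg8 yg29 zg19) (kg xg15 yg55 zg36) (kg xg12 yg44 zg52) (kg xg25 yg52 zg46)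 (kg xg22 yg46 zg22) (kg xg10 yg46 zg25) (kg xg15 yg55 zg25) (kg xg15 yg55 zg29) (kg xg8 yg29 zg22) (kg xg8 yg29 zg26) (kg xg8 yg29 zg29) (kg xg25 yg52 zg55) (kg xg22 yg7 zg41) (kg xg17 yg22 zg28) (kg xg25 yg53 zg7) (kg xg8 yg29 zg27) (kg xg25 yg19 zg41) (kg xg17 yg22 zg40) (kg xg20 yg0 zg22) (kg xg25 yg53 zg11) (kg xg12 yg44 zg42) (kg xg17 yg24 zg44) (kg xg25 yg52 zg54) (kg xg9 yg26 zg29) (kg xg19 yg28 zg20) (kg xg14 yg57 zg7) (kg xg8 yg29 zg34) (kg xg14 yg57 zg6) (kg xg25 yg53 zg20) (kg xg8 yg30 zg60) (kg xg8 yg29 zg36) (kg xg8 yg30 zg59) (kg xg25 yg53 zg24) (kg xg21 yg27 zg14) (kg xg17 yg20 zg19) (kg xg8 yg30 zg37) (kg xg8 yg30 zg35) (kg xg9 yg34 zg6) (kg xg8 yg30 zg28) (kg xg8 yg29 zg41) (kg xg8 yg30 zg27) (kg xg25 yg53 zg30)) (@D3.rec (fun _ => Pt) (kg xg25 yg53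 zg32) (kg xg16 yg43 zg24) (kg xg8 yg31 zg5) (kg xg11 yg55 zg28) (kg xg14 yg57 zg25) (kg xg8 yg29 zg46) (kg xg12 yg18 zg15) (kg xg8 yg35 zg45) (kg xg8 yg32 zg33) (kg xg8 yg31 zg38) (kg xg8 yg29 zg48) (kg xg8 yg31 zg37) (kg xg15 yg59 zg12) (kg xg21 yg40 zg3) (kg xg8 yg31 zg23) (kg xg8 yg29 zg50) (kg xg8 yg31 zg21) (kg xg8 yg29 zg60) (kg xg8 yg31 zg14) (kg xg8 yg29 zg53) (kg xg8 yg31 zg13) (kg xg15 yg58 zg32) (kg xg25 yg53 zg44) (kg xg17 yg25 zg60) (kg xg8 yg31 zg45) (kg xg8 yg29 zg55) (kg xg25 yg27 zg6) (kg xg8 yg31 zg43) (kg xg8 yg32 zg10) (kg xg8 yg32 zg3) (kg xg8 yg29 zg58) (kg xg8 yg32 zg2) (kg xg25 yg35 zg56) (kg xg25 yg53 zg61) (kg xg8 yg31 zg53) (kg xg8 yg29 zg61) (kg xg8 yg31 zg52) (kg xg25 yg54 zg8) (kg xg25 yg54 zg12) (kg xg25 yg54 zg16) (kg xg25 yg27 zg9) (kg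 xg8 yg31 zg48) (kg xg8 yg30 zg6) (kg xg25 yg54 zg3) (kg xg15 yg17 zg6) (kg xg25 yg54 zg25) (kg xg17 yg21 zg39) (kg xg8 yg30 zg4) (kg xg25 yg54 zg30) (kg xg15 yg37 zg57) (kg xg15 yg58 zg5) (kg xg25 yg53 zg52) (kg xg25 yg48 zg16) (kg xg25 yg43 zg38) (kg xg8 yg30 zg5) (kg xg25 yg54 zg43) (kg xg25 yg54 zg46) (kg xg25 yg53 zg55) (kg xg8 yg32 zg19) (kg xg25 yg54 zg2) (kg xg19 yg26 zg11) (kg xg8 yg32 zg28)) (@D3.rec (fun _ => Pt) (kg xg8 yg30 zg9) (kg xg8 yg32 zg27) (kg xg25 yg43 zg28) (kg xg8 yg30 zg11) (kg xg25 yg53 zg21) (kg xg15 yg57 zg45) (kg xg25 yg36 zg34) (kg xg10 yg51 zg61) (kg xg8 yg30 zg13) (kg xg10 yg51 zg58) (kg xg15 yg37 zg16) (kg xg8 yg30 zg22) (kg xg8 yg30 zg17) (kg xg15 yg47 zg6) (kg xg9 yg25 zg0) (kg xg25 yg55 zg5) (kg xg25 yg55 zg7) (kg xg22 yg9 zg35) (kg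 xg8 yg30 zg20) (kg xg25 yg44 zg50) (kg xg25 yg55 zg16) (kg xg15 yg17 zg22) (kg xg25 yg55 zg21) (kg xg10 yg51 zg55) (kg xg8 yg30 zg23) (kg xg25 yg31 zg26) (kg xg16 yg7 zg4) (kg xg22 yg2 zg45) (kg xg25 yg55 zg32) (kg xg25 yg55 zg36) (kg xg25 yg43 zg29) (kg xg17 yg42 zg55) (kg xg15 yg59 zg45) (kg xg25 yg11 zg61) (kg xg25 yg55 zg43) (kg xg25 yg10 zg3) (kg xg15 yg57 zg21) (kg xg15 yg33 zg40) (kg xg25 yg53 zg31) (kg xg25 yg55 zg47) (kg xg25 yg53 zg28) (kg xg8 yg30 zg29) (kg xg25 yg55 zg55) (kg xg25 yg55 zg57) (kg xg25 yg55 zg50) (kg xg8 yg30 zg30) (kg xg25 yg55 zg61) (kg xg25 yg55 zg48) (kg xg25 yg55 zg11) (kg xg25 yg48 zg20) (kg xg25 yg43 zg36) (kg xg25 yg56 zg6) (kg xg21 yg21 zg7) (kg xg16 yg2 zg28) (kg xg13 yg44 zg42) (kg xg8 yg30 zg36) (kg xg8 yg30 zg39) (kg xg21 yg5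 zg23) (kg xg25 yg56 zg11) (kg xg10 yg25 zg40) (kg xg8 yg30 zg42) (kg xg10 yg25 zg17)) (@D3.rec (fun _ => Pt) (kg xg8 yg30 zg44) (kg xg20 yg36 zg19) (kg xg20 yg36 zg21) (kg xg25 yg17 zg2) (kg xg25 yg56 zg19) (kg xg21 yg53 zg27) (kg xg25 yg56 zg20) (kg xg10 yg46 zg7) (kg xg8 yg30 zg54) (kg xg10 yg46 zg6) (kg xg25 yg55 zg12) (kg xg21 yg27 zg40) (kg xg16 yg0 zg19) (kg xg15 yg37 zg2) (kg xg20 yg15 zg6) (kg xg15 yg57 zg12) (kg xg25 yg55 zg0) (kg xg25 yg53 zg25) (kg xg21 yg31 zg4) (kg xg25 yg53 zg23) (kg xg8 yg30 zg61) (kg xg25 yg56 zg41) (kg xg23 yg10 zg1) (kg xg22 yg1 zg57) (kg xg25 yg56 zg45) (kg xg15 yg36 zg58) (kg xg14 yg18 zg9) (kg xg8 yg31 zg1) (kg xg22 yg1 zg56) (kg xg10 yg50 zg22) (kg xg10 yg50 zg58) (kg xg15 yg35 zg11) (kg xg25 yg54 zg54) (kg xg18 yg43 zg60) (kg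 xg8 yg31 zg9) (kg xg18 yg43 zg59) (kg xg19 yg57 zg22) (kg xg25 yg36 zg60) (kg xg8 yg31 zg11) (kg xg25 yg43 zg45) (kg xg25 yg43 zg40) (kg xg16 yg1 zg45) (kg xg18 yg16 zg34) (kg xg15 yg34 zg24) (kg xg16 yg17 zg50) (kg xg15 yg58 zg36) (kg xg25 yg56 zg59) (kg xg25 yg53 zg41) (kg xg8 yg31 zg15) (kg xg25 yg57 zg3) (kg xg25 yg27 zg41) (kg xg25 yg57 zg0) (kg xg8 yg31 zg16) (kg xg25 yg29 zg46) (kg xg25 yg56 zg60) (kg xg25 yg56 zg50) (kg xg25 yg57 zg11) (kg xg25 yg43 zg46) (kg xg25 yg57 zg16) (kg xg8 yg35 zg46) (kg xg8 yg31 zg19) (kg xg25 yg57 zg21))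
def f_g_16 : D2 → D3 → Pt := @D2.rec (fun _ => D3 → Pt) (@D3.rec (fun _ => Pt) (kg xg12 yg50 zg35) (kg xg21 yg40 zg1) (kg xg19 yg25 zg40) (kg xg25 yg54 zg28) (kg xg17 yg17 zg16) (kg xg8 yg31 zg27) (kg xg25 yg57 zg26) (kg xg25 yg18 zg56) (kg xg8 yg31 zg30) (kg xg25 yg18 zg55) (kg xg11 yg36 zg45) (kg xg21 yg4 zg47) (kg xg25 yg57 zg29) (kg xg12 yg59 zg0) (kg xg9 yg39 zg3) (kg xg16 yg14 zg17) (kg xg25 yg56 zg52) (kg xg17 yg35 zg37) (kg xg15 yg41 zg22) (kg xg15 yg59 zg15) (kg xg25 yg53 zg38) (kg xg8 yg31 zg39) (kg xg22 yg59 zg50) (kg xg23 yg47 zg40) (kg xg25 yg57 zg41) (kg xg25 yg43 zg43) (kg xg8 yg31 zg41) (kg xg25 yg57 zg45) (kg xg25 yg53 zg48) (kg xg12 yg11 zg49) (kg xg16 yg1 zg35) (kg xg15 yg36 zg0) (kg xg15 yg41 zg16) (kg xg25 yg56 zg51) (kg xg15 yg33 zg32) (kg xg25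 yg30 zg49) (kg xg25 yg27 zg5) (kg xg25 yg57 zg54) (kg xg15 yg41 zg10) (kg xg25 yg54 zg29) (kg xg16 yg19 zg1) (kg xg10 yg24 zg52) (kg xg8 yg31 zg49) (kg xg25 yg58 zg0) (kg xg18 yg47 zg30) (kg xg10 yg24 zg50) (kg xg8 yg32 zg13) (kg xg25 yg58 zg7) (kg xg13 yg43 zg11) (kg xg25 yg58 zg11) (kg xg25 yg42 zg20) (kg xg25 yg41 zg4) (kg xg8 yg32 zg20) (kg xg19 yg5 zg42) (kg xg25 yg54 zg9) (kg xg21 yg46 zg17) (kg xg19 yg5 zg43) (kg xg8 yg31 zg54) (kg xg25 yg39 zg29) (kg xg12 yg40 zg21) (kg xg25 yg54 zg6) (kg xg8 yg31 zg55)) (@D3.rec (fun _ => Pt) (kg xg16 yg26 zg28) (kg xg24 yg35 zg0) (kg xg25 yg58 zg19) (kg xg8 yg31 zg56) (kg xg12 yg39 zg49) (kg xg21 yg46 zg13) (kg xg9 yg36 zg46) (kg xg9 yg35 zg5) (kg xg9 yg35 zg4) (kg xg25 yg54 zg27) (kg xg25 yg58 zg34) (kg xg8 yg32 zg14) (kg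 xg25 yg54 zg18) (kg xg25 yg58 zg38) (kg xg25 yg30 zg2) (kg xg25 yg43 zg49) (kg xg9 yg36 zg6) (kg xg8 yg32 zg22) (kg xg15 yg41 zg11) (kg xg9 yg35 zg9) (kg xg25 yg53 zg60) (kg xg25 yg58 zg49) (kg xg9 yg35 zg10) (kg xg8 yg32 zg4) (kg xg17 yg37 zg48) (kg xg25 yg58 zg54) (kg xg25 yg29 zg54) (kg xg8 yg32 zg5) (kg xg25 yg58 zg58) (kg xg25 yg58 zg52) (kg xg8 yg32 zg6) (kg xg25 yg59 zg3) (kg xg25 yg58 zg50) (kg xg18 yg44 zg18) (kg xg8 yg32 zg7) (kg xg9 yg37 zg8) (kg xg25 yg43 zg51) (kg xg8 yg32 zg8) (kg xg25 yg54 zg17) (kg xg16 yg3 zg58) (kg xg8 yg32 zg11) (kg xg25 yg43 zg48) (kg xg8 yg37 zg4) (kg xg25 yg43 zg52) (kg xg16 yg16 zg8) (kg xg15 yg59 zg44) (kg xg25 yg59 zg12) (kg xg25 yg47 zg37) (kg xg25 yg58 zg41) (kg xg25 yg59 zg15) (kg xg25 yg59 zg10) (kg xg9 yg27 zg0) (kg xg25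 yg59 zg19) (kg xg22 yg7 zg28) (kg xg8 yg32 zg18) (kg xg25 yg59 zg25) (kg xg25 yg54 zg4) (kg xg25 yg59 zg30) (kg xg25 yg59 zg34) (kg xg25 yg53 zg58) (kg xg13 yg43 zg12) (kg xg8 yg32 zg23)) (@D3.rec (fun _ => Pt) (kg xg25 yg46 zg57) (kg xg8 yg32 zg24) (kg xg25 yg46 zg59) (kg xg10 yg34 zg40) (kg xg19 yg6 zg52) (kg xg8 yg32 zg25) (kg xg19 yg6 zg50) (kg xg25 yg48 zg26) (kg xg25 yg59 zg46) (kg xg19 yg28 zg14) (kg xg25 yg59 zg52) (kg xg25 yg59 zg20) (kg xg19 yg24 zg48) (kg xg16 yg44 zg5) (kg xg25 yg59 zg53) (kg xg25 yg48 zg17) (kg xg25 yg48 zg18) (kg xg8 yg32 zg29) (kg xg25 yg59 zg61) (kg xg15 yg39 zg16) (kg xg19 yg29 zg8) (kg xg25 yg53 zg56) (kg xg15 yg38 zg26) (kg xg9 yg33 zg31) (kg xg8 yg32 zg32) (kg xg15 yg37 zg56) (kg xg26 yg0 zg8) (kg xg25 yg53 zg40) (kg xg25 yg7 zg30)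 (kg xg24 yg44 zg38) (kg xg16 yg13 zg50) (kg xg25 yg53 zg37) (kg xg25 yg30 zg33) (kg xg15 yg38 zg17) (kg xg15 yg58 zg53) (kg xg9 yg45 zg47) (kg xg14 yg3 zg22) (kg xg25 yg17 zg30) (kg xg8 yg33 zg37) (kg xg8 yg32 zg43) (kg xg26 yg0 zg14) (kg xg8 yg34 zg58) (kg xg8 yg34 zg39) (kg xg12 yg48 zg14) (kg xg21 yg6 zg41) (kg xg26 yg0 zg16) (kg xg10 yg38 zg35) (kg xg15 yg44 zg12) (kg xg8 yg33 zg16) (kg xg24 yg36 zg16) (kg xg10 yg38 zg29) (kg xg8 yg32 zg53) (kg xg25 yg41 zg57) (kg xg10 yg38 zg26) (kg xg15 yg43 zg38) (kg xg10 yg40 zg9) (kg xg8 yg33 zg2) (kg xg26 yg0 zg24) (kg xg10 yg38 zg38) (kg xg8 yg32 zg58) (kg xg8 yg34 zg6) (kg xg8 yg32 zg60)) (@D3.rec (fun _ => Pt) (kg xg14 yg46 zg15) (kg xg15 yg43 zg29) (kg xg8 yg33 zg1) (kg xg15 yg43 zg28) (kg xg10 yg38 zg24) (kg xg15 yg43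 zg34) (kg xg8 yg33 zg3) (kg xg15 yg43 zg33) (kg xg24 yg40 zg53) (kg xg23 yg22 zg51) (kg xg12 yg40 zg11) (kg xg15 yg43 zg41) (kg xg15 yg43 zg40) (kg xg26 yg0 zg37) (kg xg17 yg55 zg3) (kg xg17 yg12 zg25) (kg xg20 yg4 zg36) (kg xg14 yg12 zg45) (kg xg23 yg40 zg10) (kg xg8 yg33 zg11) (kg xg17 yg9 zg29) (kg xg25 yg45 zg57) (kg xg26 yg0 zg42) (kg xg16 yg6 zg5) (kg xg12 yg21 zg39) (kg xg13 yg51 zg27) (kg xg16 yg7 zg10) (kg xg21 yg6 zg39) (kg xg8 yg33 zg14) (kg xg23 yg31 zg47) (kg xg8 yg33 zg19) (kg xg18 yg17 zg1) (kg xg17 yg39 zg39) (kg xg17 yg39 zg42) (kg xg10 yg30 zg28) (kg xg9 yg33 zg47) (kg xg8 yg42 zg31) (kg xg26 yg0 zg56) (kg xg26 yg0 zg60) (kg xg19 yg18 zg20) (kg xg12 yg52 zg24) (kg xg15 yg35 zg16) (kg xg15 yg35 zg12) (kg xg8 yg33 zg23) (kg xg10 yg37 zg34) (kg xg15 yg35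 zg22) (kg xg10 yg50 zg26) (kg xg15 yg42 zg28) (kg xg12 yg27 zg50) (kg xg12 yg27 zg56) (kg xg8 yg33 zg32) (kg xg19 yg43 zg54) (kg xg23 yg42 zg13) (kg xg8 yg35 zg47) (kg xg26 yg0 zg20) (kg xg21 yg34 zg25) (kg xg12 yg25 zg21) (kg xg15 yg33 zg34) (kg xg15 yg57 zg40) (kg xg10 yg32 zg49) (kg xg8 yg33 zg35) (kg xg10 yg32 zg48)) (@D3.rec (fun _ => Pt) (kg xg26 yg1 zg8) (kg xg26 yg1 zg10) (kg xg19 yg53 zg52) (kg xg21 yg56 zg5) (kg xg8 yg33 zg38) (kg xg26 yg1 zg15) (kg xg22 yg21 zg12) (kg xg26 yg1 zg17) (kg xg26 yg1 zg18) (kg xg15 yg41 zg44) (kg xg15 yg43 zg15) (kg xg15 yg42 zg1) (kg xg15 yg42 zg0) (kg xg25 yg36 zg61) (kg xg20 yg0 zg1) (kg xg11 yg3 zg30) (kg xg8 yg33 zg45) (kg xg26 yg1 zg33) (kg xg15 yg42 zg14) (kg xg8 yg33 zg46) (kg xg15 yg42 zg13) (kg xg15 yg53 zg61) (kg xg18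 yg18 zg7) (kg xg23 yg59 zg14) (kg xg15 yg42 zg8) (kg xg8 yg33 zg48) (kg xg26 yg1 zg39) (kg xg15 yg42 zg6) (kg xg8 yg33 zg54) (kg xg8 yg34 zg38) (kg xg15 yg42 zg23) (kg xg8 yg33 zg51) (kg xg15 yg42 zg22) (kg xg26 yg0 zg29) (kg xg23 yg27 zg13) (kg xg15 yg42 zg31) (kg xg8 yg33 zg53) (kg xg15 yg42 zg30) (kg xg26 yg1 zg50) (kg xg16 yg5 zg37) (kg xg10 yg53 zg20) (kg xg24 yg52 zg32) (kg xg14 yg3 zg17) (kg xg10 yg58 zg21) (kg xg24 yg22 zg22) (kg xg26 yg1 zg48) (kg xg19 yg18 zg21) (kg xg26 yg1 zg59) (kg xg14 yg47 zg5) (kg xg14 yg51 zg35) (kg xg8 yg34 zg1) (kg xg23 yg28 zg20) (kg xg20 yg53 zg22) (kg xg14 yg3 zg18) (kg xg14 yg5 zg38) (kg xg8 yg34 zg3) (kg xg13 yg23 zg4) (kg xg22 yg17 zg52) (kg xg8 yg34 zg7) (kg xg26 yg1 zg24) (kg xg15 yg46 zg52) (kg xg15 yg46 zg28)) (@D3.rec (fun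 _ => Pt) (kg xg26 yg1 zg23) (kg xg12 yg16 zg58) (kg xg13 yg54 zg13) (kg xg8 yg34 zg12) (kg xg21 yg45 zg20) (kg xg8 yg34 zg31) (kg xg8 yg34 zg14) (kg xg16 yg4 zg39) (kg xg8 yg34 zg29) (kg xg20 yg54 zg52) (kg xg8 yg54 zg46) (kg xg11 yg52 zg0) (kg xg15 yg45 zg44) (kg xg8 yg34 zg18) (kg xg15 yg45 zg43) (kg xg23 yg36 zg16) (kg xg26 yg2 zg18) (kg xg15 yg45 zg47) (kg xg8 yg34 zg20) (kg xg15 yg45 zg46) (kg xg26 yg2 zg20) (kg xg12 yg47 zg56) (kg xg26 yg2 zg25) (kg xg21 yg45 zg24) (kg xg26 yg2 zg29) (kg xg21 yg33 zg36) (kg xg8 yg34 zg27) (kg xg26 yg1 zg56) (kg xg21 yg33 zg35) (kg xg26 yg2 zg35) (kg xg26 yg1 zg41) (kg xg8 yg34 zg53) (kg xg26 yg2 zg19) (kg xg21 yg2 zg32) (kg xg12 yg47 zg57) (kg xg8 yg34 zg30) (kg xg25 yg37 zg51) (kg xg25 yg38 zg18) (kg xg25 yg9 zg30) (kg xg8 yg34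 zg37) (kg xg21 yg19 zg51) (kg xg19 yg40 zg7) (kg xg9 yg35 zg27) (kg xg26 yg2 zg47) (kg xg9 yg33 zg54) (kg xg15 yg16 zg45) (kg xg20 yg54 zg54) (kg xg21 yg2 zg12) (kg xg24 yg32 zg22) (kg xg20 yg56 zg56) (kg xg8 yg34 zg40) (kg xg9 yg46 zg0) (kg xg24 yg22 zg42) (kg xg12 yg47 zg60) (kg xg15 yg39 zg20) (kg xg11 yg49 zg19) (kg xg25 yg6 zg52) (kg xg10 yg56 zg36) (kg xg10 yg57 zg19) (kg xg26 yg2 zg61) (kg xg15 yg44 zg28) (kg xg8 yg34 zg51)) (@D3.rec (fun _ => Pt) (kg xg15 yg44 zg27) (kg xg25 yg37 zg9) (kg xg12 yg0 zg53) (kg xg25 yg19 zg57) (kg xg8 yg35 zg6) (kg xg16 yg3 zg25) (kg xg8 yg35 zg4) (kg xg19 yg5 zg46) (kg xg15 yg44 zg40) (kg xg8 yg34 zg56) (kg xg15 yg44 zg39) (kg xg15 yg44 zg44) (kg xg8 yg34 zg57) (kg xg13 yg0 zg22) (kg xg22 yg4 zg31) (kg xg25 yg44 zg13) (kg xg26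 yg3 zg8) (kg xg26 yg3 zg11) (kg xg15 yg47 zg24) (kg xg15 yg44 zg50) (kg xg25 yg39 zg28) (kg xg26 yg3 zg15) (kg xg26 yg3 zg19) (kg xg26 yg3 zg4) (kg xg8 yg35 zg2) (kg xg26 yg3 zg24) (kg xg22 yg4 zg35) (kg xg26 yg3 zg28) (kg xg13 yg13 zg2) (kg xg12 yg4 zg60) (kg xg23 yg20 zg46) (kg xg8 yg35 zg5) (kg xg23 yg32 zg23) (kg xg9 yg18 zg9) (kg xg15 yg41 zg21) (kg xg8 yg35 zg10) (kg xg26 yg0 zg54) (kg xg12 yg48 zg30) (kg xg26 yg0 zg21) (kg xg16 yg41 zg51) (kg xg9 yg32 zg44) (kg xg14 yg38 zg50) (kg xg26 yg2 zg56) (kg xg14 yg11 zg5) (kg xg15 yg47 zg20) (kg xg12 yg46 zg20) (kg xg8 yg42 zg2) (kg xg17 yg43 zg44) (kg xg20 yg54 zg12) (kg xg12 yg19 zg61) (kg xg21 yg31 zg15) (kg xg12 yg51 zg12) (kg xg17 yg52 zg1) (kg xg25 yg42 zg24) (kg xg25 yg53 zg54) (kg xg15 yg43 zg10) (kg xg25 yg57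 zg33) (kg xg25 yg43 zg8) (kg xg15 yg47 zg21) (kg xg25 yg43 zg33) (kg xg8 yg35 zg38) (kg xg17 yg39 zg2)) (@D3.rec (fun _ => Pt) (kg xg16 yg19 zg8) (kg xg9 yg24 zg56) (kg xg25 yg58 zg12) (kg xg15 yg44 zg13) (kg xg25 yg57 zg13) (kg xg19 yg38 zg57) (kg xg25 yg25 zg4) (kg xg15 yg44 zg46) (kg xg26 yg3 zg52) (kg xg23 yg35 zg27) (kg xg25 yg37 zg15) (kg xg8 yg35 zg54) (kg xg10 yg48 zg3) (kg xg17 yg33 zg20) (kg xg12 yg44 zg11) (kg xg8 yg35 zg58) (kg xg9 yg37 zg0) (kg xg9 yg36 zg53) (kg xg15 yg49 zg17) (kg xg9 yg58 zg49) (kg xg18 yg37 zg26) (kg xg15 yg49 zg20) (kg xg15 yg48 zg6) (kg xg16 yg19 zg61) (kg xg8 yg36 zg3) (kg xg15 yg49 zg2) (kg xg11 yg19 zg19) (kg xg8 yg36 zg4) (kg xg15 yg49 zg22) (kg xg21 yg40 zg33) (kg xg11 yg37 zg40) (kg xg17 yg44 zg60) (kg xg15 yg49 zg31) (kg xg8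 yg36 zg9) (kg xg15 yg49 zg30) (kg xg21 yg35 zg41) (kg xg23 yg42 zg14) (kg xg26 yg4 zg4) (kg xg15 yg49 zg37) (kg xg8 yg36 zg14) (kg xg21 yg53 zg41) (kg xg24 yg18 zg0) (kg xg12 yg3 zg37) (kg xg20 yg6 zg52) (kg xg11 yg17 zg35) (kg xg23 yg40 zg53) (kg xg9 yg17 zg29) (kg xg18 yg34 zg55) (kg xg18 yg50 zg13) (kg xg20 yg15 zg5) (kg xg17 yg14 zg29) (kg xg9 yg58 zg43) (kg xg8 yg36 zg25) (kg xg26 yg4 zg21) (kg xg15 yg1 zg19) (kg xg8 yg36 zg30) (kg xg21 yg24 zg56) (kg xg15 yg38 zg36) (kg xg15 yg38 zg40) (kg xg17 yg48 zg0) (kg xg25 yg36 zg40) (kg xg21 yg5 zg48)) (@D3.rec (fun _ => Pt) (kg xg26 yg4 zg25) (kg xg21 yg25 zg53) (kg xg19 yg6 zg23) (kg xg26 yg4 zg32) (kg xg26 yg4 zg36) (kg xg9 yg34 zg35) (kg xg9 yg38 zg40) (kg xg16 yg16 zg61) (kg xg16 yg18 zg57) (kg xg9 yg53 zg3) (kg xg14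 yg51 zg17) (kg xg26 yg4 zg41) (kg xg26 yg4 zg46) (kg xg25 yg5 zg9) (kg xg26 yg4 zg42) (kg xg25 yg13 zg57) (kg xg26 yg4 zg55) (kg xg26 yg4 zg56) (kg xg8 yg36 zg50) (kg xg26 yg5 zg1) (kg xg25 yg36 zg47) (kg xg10 yg51 zg40) (kg xg8 yg36 zg51) (kg xg20 yg3 zg38) (kg xg15 yg18 zg51) (kg xg18 yg39 zg45) (kg xg15 yg20 zg26) (kg xg18 yg8 zg11) (kg xg25 yg15 zg27) (kg xg11 yg9 zg36) (kg xg17 yg53 zg58) (kg xg8 yg36 zg60) (kg xg17 yg53 zg57) (kg xg15 yg3 zg54) (kg xg26 yg5 zg19) (kg xg16 yg18 zg0) (kg xg24 yg54 zg42) (kg xg8 yg37 zg2) (kg xg11 yg6 zg15) (kg xg15 yg27 zg45) (kg xg15 yg24 zg14) (kg xg15 yg24 zg13) (kg xg26 yg5 zg28) (kg xg24 yg14 zg46) (kg xg21 yg24 zg11) (kg xg26 yg5 zg33) (kg xg17 yg16 zg22) (kg xg8 yg37 zg10) (kg xg15 yg47 zg58) (kg xg8 yg37 zg11) (kg xg15 yg47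 zg57) (kg xg15 yg2 zg58) (kg xg24 yg36 zg0) (kg xg26 yg5 zg41) (kg xg8 yg37 zg13) (kg xg21 yg42 zg17) (kg xg15 yg36 zg53) (kg xg8 yg37 zg14) (kg xg12 yg59 zg27) (kg xg12 yg53 zg10) (kg xg12 yg46 zg58) (kg xg21 yg22 zg36)) (@D3.rec (fun _ => Pt) (kg xg20 yg53 zg12) (kg xg15 yg48 zg3) (kg xg8 yg37 zg17) (kg xg26 yg5 zg50) (kg xg15 yg48 zg1) (kg xg8 yg37 zg25) (kg xg9 yg36 zg52) (kg xg15 yg48 zg17) (kg xg8 yg37 zg20) (kg xg25 yg13 zg0) (kg xg12 yg53 zg36) (kg xg15 yg48 zg24) (kg xg8 yg37 zg23) (kg xg15 yg48 zg23) (kg xg24 yg21 zg58) (kg xg26 yg5 zg56) (kg xg15 yg48 zg7) (kg xg11 yg4 zg40) (kg xg26 yg5 zg35) (kg xg8 yg37 zg27) (kg xg26 yg5 zg59) (kg xg21 yg48 zg9) (kg xg21 yg28 zg22) (kg xg26 yg4 zg12) (kg xg17 yg16 zg20) (kg xg8 yg37 zg29) (kg xg26 yg6 zg6) (kg xg21 yg24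 zg45) (kg xg21 yg51 zg36) (kg xg11 yg8 zg49) (kg xg24 yg49 zg32) (kg xg15 yg28 zg43) (kg xg15 yg41 zg50) (kg xg9 yg37 zg31) (kg xg24 yg49 zg22) (kg xg8 yg37 zg34) (kg xg25 yg21 zg43) (kg xg24 yg49 zg20) (kg xg26 yg6 zg20) (kg xg9 yg35 zg0) (kg xg15 yg49 zg6) (kg xg8 yg40 zg37) (kg xg26 yg6 zg26) (kg xg11 yg3 zg33) (kg xg16 yg11 zg16) (kg xg8 yg37 zg43) (kg xg16 yg11 zg15) (kg xg25 yg11 zg42) (kg xg15 yg29 zg42) (kg xg10 yg1 zg11) (kg xg8 yg38 zg3) (kg xg11 yg3 zg9) (kg xg15 yg30 zg1) (kg xg8 yg37 zg49) (kg xg16 yg50 zg29) (kg xg16 yg11 zg25) (kg xg9 yg35 zg42) (kg xg8 yg37 zg54) (kg xg15 yg18 zg27) (kg xg8 yg37 zg53) (kg xg15 yg18 zg26) (kg xg14 yg42 zg5)) (@D3.rec (fun _ => Pt) (kg xg16 yg50 zg12) (kg xg15 yg30 zg6) (kg xg8 yg37 zg57) (kg xg8 yg37 zg60) (kg xg24 yg34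 zg30) (kg xg21 yg0 zg31) (kg xg26 yg6 zg56) (kg xg26 yg6 zg60) (kg xg8 yg37 zg58) (kg xg25 yg25 zg58) (kg xg18 yg18 zg11) (kg xg16 yg12 zg16) (kg xg16 yg12 zg17) (kg xg8 yg37 zg59) (kg xg26 yg7 zg8) (kg xg18 yg3 zg16) (kg xg16 yg11 zg44) (kg xg8 yg37 zg61) (kg xg16 yg11 zg43) (kg xg8 yg38 zg0) (kg xg9 yg43 zg47) (kg xg14 yg39 zg18) (kg xg8 yg38 zg2) (kg xg19 yg18 zg33) (kg xg10 yg42 zg50) (kg xg18 yg42 zg58) (kg xg23 yg15 zg39) (kg xg8 yg38 zg8) (kg xg10 yg1 zg36) (kg xg26 yg7 zg22) (kg xg8 yg38 zg19) (kg xg23 yg25 zg16) (kg xg17 yg9 zg23) (kg xg23 yg30 zg47) (kg xg25 yg14 zg36) (kg xg8 yg38 zg22) (kg xg19 yg48 zg17) (kg xg13 yg59 zg8) (kg xg13 yg52 zg5) (kg xg15 yg50 zg15) (kg xg24 yg59 zg54) (kg xg23 yg35 zg6) (kg xg16 yg50 zg61) (kg xg26 yg7 zg27) (kg xg8 yg38 zg21)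 (kg xg19 yg48 zg14) (kg xg26 yg7 zg37) (kg xg14 yg56 zg26) (kg xg26 yg7 zg39) (kg xg16 yg12 zg11) (kg xg8 yg38 zg24) (kg xg16 yg12 zg10) (kg xg16 yg11 zg36) (kg xg8 yg38 zg25) (kg xg16 yg11 zg38) (kg xg18 yg3 zg12) (kg xg9 yg51 zg38) (kg xg8 yg38 zg26) (kg xg14 yg0 zg33) (kg xg19 yg40 zg4) (kg xg16 yg28 zg1) (kg xg24 yg59 zg56)) (@D3.rec (fun _ => Pt) (kg xg14 yg59 zg53) (kg xg13 yg51 zg49) (kg xg16 yg12 zg25) (kg xg16 yg12 zg23) (kg xg8 yg38 zg30) (kg xg15 yg25 zg8) (kg xg15 yg25 zg7) (kg xg8 yg38 zg32) (kg xg15 yg22 zg44) (kg xg20 yg56 zg48) (kg xg8 yg38 zg33) (kg xg12 yg54 zg39) (kg xg26 yg7 zg55) (kg xg26 yg7 zg58) (kg xg16 yg9 zg46) (kg xg8 yg38 zg36) (kg xg16 yg9 zg45) (kg xg18 yg1 zg7) (kg xg23 yg16 zg21) (kg xg26 yg8 zg3) (kg xg14 yg46 zg0) (kg xg8 yg38 zg39)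 (kg xg14 yg48 zg12) (kg xg14 yg48 zg39) (kg xg11 yg3 zg5) (kg xg16 yg9 zg57) (kg xg8 yg38 zg42) (kg xg8 yg38 zg45) (kg xg25 yg9 zg12) (kg xg26 yg8 zg15) (kg xg26 yg8 zg17) (kg xg8 yg38 zg43) (kg xg11 yg56 zg19) (kg xg20 yg57 zg49) (kg xg18 yg22 zg60) (kg xg25 yg9 zg10) (kg xg16 yg10 zg53) (kg xg16 yg10 zg54) (kg xg8 yg38 zg44) (kg xg26 yg8 zg25) (kg xg26 yg8 zg27) (kg xg26 yg8 zg29) (kg xg16 yg10 zg18) (kg xg8 yg38 zg46) (kg xg16 yg10 zg17) (kg xg19 yg54 zg5) (kg xg26 yg8 zg35) (kg xg10 yg37 zg22) (kg xg10 yg16 zg23) (kg xg8 yg38 zg53) (kg xg10 yg16 zg22) (kg xg13 yg15 zg41) (kg xg15 yg22 zg48) (kg xg8 yg38 zg57) (kg xg15 yg22 zg47) (kg xg13 yg50 zg53) (kg xg22 yg57 zg36) (kg xg8 yg39 zg2) (kg xg8 yg38 zg59) (kg xg23 yg19 zg52) (kg xg20 yg6 zg3) (kg xg13 yg50 zg47))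 (@D3.rec (fun _ => Pt) (kg xg13 yg50 zg49) (kg xg26 yg8 zg52) (kg xg23 yg14 zg57) (kg xg8 yg39 zg0) (kg xg21 yg28 zg3) (kg xg21 yg12 zg19) (kg xg22 yg30 zg27) (kg xg13 yg16 zg18) (kg xg23 yg21 zg31) (kg xg16 yg10 zg51) (kg xg8 yg39 zg3) (kg xg16 yg10 zg50) (kg xg15 yg10 zg36) (kg xg8 yg39 zg4) (kg xg15 yg10 zg35) (kg xg16 yg10 zg11) (kg xg8 yg39 zg5) (kg xg16 yg10 zg13) (kg xg16 yg10 zg58) (kg xg24 yg47 zg15) (kg xg26 yg9 zg0) (kg xg15 yg7 zg56) (kg xg8 yg47 zg58) (kg xg16 yg11 zg4) (kg xg16 yg11 zg2) (kg xg8 yg39 zg10) (kg xg17 yg52 zg60) (kg xg17 yg52 zg59) (kg xg16 yg14 zg32) (kg xg8 yg41 zg19) (kg xg16 yg13 zg25) (kg xg8 yg39 zg19) (kg xg8 yg39 zg22) (kg xg25 yg49 zg31) (kg xg26 yg9 zg18) (kg xg26 yg9 zg22) (kg xg24 yg29 zg14) (kg xg8 yg39 zg20) (kg xg19 yg8 zg25)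 (kg xg19 yg25 zg17) (kg xg18 yg17 zg55) (kg xg24 yg47 zg17) (kg xg24 yg47 zg18) (kg xg8 yg39 zg21) (kg xg26 yg9 zg36) (kg xg23 yg59 zg10) (kg xg16 yg13 zg21) (kg xg8 yg39 zg23) (kg xg16 yg13 zg20) (kg xg26 yg9 zg43) (kg xg16 yg10 zg24) (kg xg18 yg40 zg28) (kg xg25 yg19 zg55) (kg xg8 yg39 zg26) (kg xg15 yg28 zg33) (kg xg15 yg30 zg24) (kg xg24 yg49 zg35) (kg xg15 yg27 zg29) (kg xg15 yg29 zg33) (kg xg8 yg39 zg30) (kg xg8 yg39 zg31) (kg xg15 yg3 zg2)) (@D3.rec (fun _ => Pt) (kg xg23 yg43 zg36) (kg xg26 yg7 zg9) (kg xg24 yg44 zg27) (kg xg14 yg57 zg27) (kg xg8 yg39 zg37) (kg xg8 yg39 zg40) (kg xg19 yg56 zg25) (kg xg26 yg9 zg58) (kg xg26 yg9 zg60) (kg xg26 yg10 zg2) (kg xg8 yg39 zg38) (kg xg25 yg21 zg29) (kg xg18 yg22 zg51) (kg xg16 yg28 zg4) (kg xg16 yg28 zg5) (kg xg8 yg39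 zg39) (kg xg17 yg9 zg30) (kg xg26 yg10 zg11) (kg xg26 yg10 zg13) (kg xg16 yg12 zg48) (kg xg8 yg39 zg41) (kg xg16 yg12 zg47) (kg xg26 yg10 zg17) (kg xg17 yg43 zg18) (kg xg10 yg1 zg15) (kg xg25 yg1 zg28) (kg xg8 yg39 zg45) (kg xg22 yg5 zg28) (kg xg9 yg51 zg6) (kg xg26 yg10 zg23) (kg xg15 yg24 zg18) (kg xg15 yg25 zg58) (kg xg17 yg42 zg27) (kg xg8 yg39 zg49) (kg xg17 yg41 zg56) (kg xg8 yg39 zg50) (kg xg16 yg39 zg59) (kg xg8 yg53 zg48) (kg xg9 yg41 zg4) (kg xg8 yg39 zg53) (kg xg26 yg3 zg39) (kg xg26 yg10 zg35) (kg xg16 yg14 zg16) (kg xg10 yg21 zg7) (kg xg8 yg39 zg59) (kg xg25 yg16 zg36) (kg xg22 yg9 zg38) (kg xg11 yg49 zg20) (kg xg17 yg5 zg16) (kg xg19 yg7 zg44) (kg xg21 yg26 zg42) (kg xg12 yg59 zg56) (kg xg8 yg40 zg2) (kg xg20 yg54 zg0) (kg xg12 yg20 zg32) (kg xg26 yg10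 zg42) (kg xg15 yg49 zg43) (kg xg8 yg40 zg6) (kg xg8 yg40 zg9) (kg xg16 yg6 zg53) (kg xg26 yg10 zg47) (kg xg12 yg41 zg40)) (@D3.rec (fun _ => Pt) (kg xg14 yg36 zg24) (kg xg8 yg40 zg7) (kg xg26 yg10 zg55) (kg xg17 yg43 zg41) (kg xg15 yg48 zg18) (kg xg17 yg42 zg31) (kg xg25 yg45 zg0) (kg xg24 yg2 zg30) (kg xg8 yg40 zg8) (kg xg26 yg11 zg8) (kg xg21 yg21 zg31) (kg xg26 yg11 zg11) (kg xg25 yg20 zg15) (kg xg22 yg4 zg55) (kg xg17 yg6 zg46) (kg xg9 yg11 zg29) (kg xg25 yg36 zg55) (kg xg19 yg10 zg54) (kg xg17 yg37 zg19) (kg xg8 yg40 zg14) (kg xg17 yg37 zg18) (kg xg26 yg11 zg23) (kg xg26 yg11 zg27) (kg xg26 yg11 zg29) (kg xg24 yg43 zg9) (kg xg10 yg15 zg61) (kg xg9 yg35 zg48) (kg xg8 yg40 zg20) (kg xg9 yg35 zg47) (kg xg26 yg11 zg35) (kg xg26 yg11 zg38) (kg xg15 yg12 zg46) (kg xg8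 yg42 zg29) (kg xg8 yg40 zg26) (kg xg8 yg40 zg29) (kg xg26 yg11 zg41) (kg xg17 yg42 zg46) (kg xg21 yg59 zg51) (kg xg17 yg39 zg17) (kg xg11 yg59 zg53) (kg xg26 yg11 zg48) (kg xg26 yg11 zg39) (kg xg8 yg40 zg28) (kg xg26 yg11 zg56) (kg xg26 yg11 zg61) (kg xg26 yg11 zg49) (kg xg26 yg12 zg3) (kg xg26 yg12 zg5) (kg xg24 yg44 zg37) (kg xg8 yg40 zg31) (kg xg24 yg44 zg36) (kg xg24 yg45 zg41) (kg xg8 yg40 zg33) (kg xg15 yg19 zg4) (kg xg26 yg12 zg17) (kg xg15 yg23 zg28) (kg xg8 yg40 zg35) (kg xg15 yg23 zg27) (kg xg24 yg54 zg56) (kg xg21 yg55 zg3) (kg xg16 yg33 zg27) (kg xg21 yg31 zg50)) (@D3.rec (fun _ => Pt) (kg xg26 yg12 zg21) (kg xg26 yg12 zg31) (kg xg16 yg16 zg9) (kg xg21 yg23 zg27) (kg xg25 yg37 zg55) (kg xg19 yg38 zg55) (kg xg17 yg44 zg0) (kg xg25 yg1 zg14) (kg xg17 yg44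 zg38) (kg xg8 yg40 zg41) (kg xg10 yg42 zg3) (kg xg26 yg12 zg45) (kg xg26 yg12 zg40) (kg xg8 yg40 zg42) (kg xg26 yg12 zg48) (kg xg26 yg12 zg38) (kg xg8 yg40 zg43) (kg xg16 yg20 zg31) (kg xg22 yg8 zg42) (kg xg16 yg18 zg54) (kg xg10 yg19 zg52) (kg xg26 yg12 zg54) (kg xg9 yg35 zg44) (kg xg15 yg14 zg61) (kg xg17 yg44 zg56) (kg xg8 yg40 zg53) (kg xg11 yg19 zg3) (kg xg22 yg5 zg7) (kg xg12 yg30 zg12) (kg xg17 yg0 zg8) (kg xg18 yg23 zg21) (kg xg20 yg4 zg12) (kg xg26 yg13 zg1) (kg xg16 yg16 zg46) (kg xg21 yg32 zg55) (kg xg25 yg44 zg57) (kg xg21 yg54 zg56) (kg xg9 yg38 zg3) (kg xg20 yg4 zg2) (kg xg17 yg43 zg43) (kg xg26 yg13 zg12) (kg xg17 yg44 zg34) (kg xg8 yg40 zg60) (kg xg15 yg7 zg32) (kg xg18 yg29 zg19) (kg xg26 yg13 zg14) (kg xg8 yg40 zg61) (kg xg17 yg45 zg26) (kg xg26 yg11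 zg19) (kg xg17 yg44 zg41) (kg xg8 yg41 zg0) (kg xg24 yg54 zg35) (kg xg16 yg19 zg46) (kg xg26 yg13 zg35) (kg xg26 yg4 zg37) (kg xg15 yg48 zg59) (kg xg24 yg44 zg57) (kg xg8 yg41 zg2) (kg xg26 yg13 zg40) (kg xg24 yg44 zg55) (kg xg9 yg29 zg36) (kg xg26 yg13 zg46)) (@D3.rec (fun _ => Pt) (kg xg17 yg37 zg31) (kg xg15 yg16 zg40) (kg xg23 yg34 zg59) (kg xg9 yg54 zg1) (kg xg15 yg6 zg53) (kg xg16 yg1 zg44) (kg xg9 yg59 zg48) (kg xg17 yg44 zg13) (kg xg15 yg47 zg7) (kg xg12 yg30 zg49) (kg xg26 yg13 zg60) (kg xg8 yg41 zg11) (kg xg26 yg14 zg2) (kg xg26 yg14 zg1) (kg xg8 yg41 zg12) (kg xg9 yg35 zg12) (kg xg26 yg13 zg61) (kg xg17 yg43 zg55) (kg xg8 yg41 zg13) (kg xg18 yg7 zg28) (kg xg16 yg21 zg10) (kg xg26 yg14 zg17) (kg xg15 yg6 zg51) (kg xg26 yg14 zg18) (kg xg21 yg36 zg60) (kg xg8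 yg41 zg16) (kg xg24 yg45 zg17) (kg xg17 yg43 zg56) (kg xg24 yg45 zg25) (kg xg25 yg15 zg38) (kg xg19 yg18 zg34) (kg xg15 yg18 zg20) (kg xg8 yg42 zg5) (kg xg12 yg50 zg10) (kg xg25 yg23 zg22) (kg xg25 yg45 zg28) (kg xg9 yg37 zg51) (kg xg12 yg3 zg20) (kg xg26 yg1 zg37) (kg xg26 yg14 zg39) (kg xg12 yg24 zg41) (kg xg15 yg46 zg29) (kg xg26 yg14 zg41) (kg xg26 yg10 zg51) (kg xg26 yg10 zg29) (kg xg17 yg44 zg47) (kg xg16 yg15 zg37) (kg xg17 yg43 zg45) (kg xg8 yg41 zg33) (kg xg23 yg43 zg22) (kg xg12 yg20 zg3) (kg xg8 yg41 zg34) (kg xg26 yg14 zg52) (kg xg17 yg44 zg10) (kg xg8 yg41 zg35) (kg xg26 yg14 zg56) (kg xg16 yg20 zg54) (kg xg25 yg4 zg1) (kg xg23 yg44 zg14) (kg xg17 yg44 zg50) (kg xg17 yg37 zg20) (kg xg15 yg12 zg2)) (@D3.rec (fun _ => Pt) (kg xg12 yg19 zg48) (kg xg17 yg38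 zg14) (kg xg17 yg41 zg43) (kg xg24 yg45 zg26) (kg xg17 yg36 zg33) (kg xg8 yg42 zg7) (kg xg15 yg46 zg39) (kg xg17 yg54 zg1) (kg xg26 yg15 zg0) (kg xg17 yg36 zg56) (kg xg15 yg46 zg36) (kg xg8 yg42 zg17) (kg xg16 yg19 zg9) (kg xg24 yg45 zg5) (kg xg8 yg41 zg48) (kg xg26 yg15 zg8) (kg xg22 yg11 zg44) (kg xg21 yg57 zg14) (kg xg8 yg41 zg49) (kg xg17 yg54 zg42) (kg xg8 yg41 zg50) (kg xg18 yg6 zg32) (kg xg17 yg54 zg40) (kg xg17 yg39 zg29) (kg xg8 yg41 zg51) (kg xg24 yg54 zg50) (kg xg24 yg45 zg13) (kg xg26 yg2 zg22) (kg xg17 yg54 zg29) (kg xg9 yg37 zg23) (kg xg8 yg42 zg19) (kg xg17 yg41 zg47) (kg xg20 yg54 zg38) (kg xg16 yg20 zg2) (kg xg12 yg19 zg44) (kg xg20 yg54 zg39) (kg xg8 yg41 zg56) (kg xg13 yg58 zg25) (kg xg24 yg42 zg6) (kg xg17 yg54 zg38) (kg xg8 yg41 zg57) (kg xg26 yg15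 zg36) (kg xg26 yg15 zg39) (kg xg21 yg33 zg38) (kg xg14 yg9 zg36) (kg xg21 yg33 zg39) (kg xg18 yg28 zg37) (kg xg18 yg28 zg46) (kg xg15 yg11 zg46) (kg xg12 yg45 zg9) (kg xg15 yg59 zg41) (kg xg25 yg33 zg55) (kg xg16 yg8 zg35) (kg xg21 yg26 zg30) (kg xg26 yg15 zg33) (kg xg8 yg42 zg8) (kg xg8 yg42 zg3) (kg xg21 yg43 zg49) (kg xg26 yg15 zg45) (kg xg8 yg42 zg9) (kg xg23 yg33 zg61) (kg xg26 yg15 zg51)) (@D3.rec (fun _ => Pt) (kg xg18 yg3 zg28) (kg xg21 yg59 zg38) (kg xg21 yg42 zg10) (kg xg9 yg39 zg8) (kg xg19 yg19 zg44) (kg xg21 yg33 zg51) (kg xg18 yg2 zg28) (kg xg18 yg36 zg36) (kg xg24 yg5 zg5) (kg xg8 yg42 zg10) (kg xg26 yg15 zg41) (kg xg21 yg33 zg49) (kg xg13 yg18 zg53) (kg xg26 yg15 zg59) (kg xg26 yg15 zg53) (kg xg10 yg37 zg60) (kg xg18 yg28 zg6) (kg xg8 yg42 zg14) (kg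 xg14 yg24 zg18) (kg xg14 yg43 zg41) (kg xg26 yg15 zg61) (kg xg8 yg42 zg15) (kg xg26 yg15 zg60) (kg xg21 yg41 zg61) (kg xg8 yg42 zg16) (kg xg26 yg16 zg7) (kg xg17 yg54 zg4) (kg xg26 yg16 zg11) (kg xg26 yg16 zg14) (kg xg9 yg53 zg49) (kg xg17 yg54 zg28) (kg xg26 yg16 zg17) (kg xg15 yg12 zg28) (kg xg17 yg54 zg12) (kg xg8 yg42 zg20) (kg xg23 yg51 zg2) (kg xg17 yg54 zg10) (kg xg26 yg16 zg25) (kg xg18 yg27 zg28) (kg xg18 yg28 zg45) (kg xg26 yg15 zg20) (kg xg26 yg16 zg29) (kg xg26 yg16 zg34) (kg xg17 yg39 zg3) (kg xg26 yg16 zg36) (kg xg24 yg45 zg1) (kg xg24 yg45 zg3) (kg xg26 yg16 zg37) (kg xg17 yg39 zg25) (kg xg17 yg39 zg0) (kg xg8 yg42 zg26) (kg xg26 yg16 zg41) (kg xg25 yg32 zg40) (kg xg17 yg43 zg26) (kg xg16 yg8 zg8) (kg xg17 yg43 zg40) (kg xg25 yg14 zg0) (kg xg16 yg15 zg19)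 (kg xg8 yg42 zg33) (kg xg10 yg50 zg32) (kg xg8 yg42 zg34) (kg xg10 yg50 zg31)) (@D3.rec (fun _ => Pt) (kg xg26 yg16 zg49) (kg xg16 yg0 zg37) (kg xg17 yg44 zg54) (kg xg26 yg12 zg15) (kg xg16 yg7 zg0) (kg xg16 yg17 zg12) (kg xg26 yg16 zg57) (kg xg26 yg16 zg60) (kg xg26 yg16 zg54) (kg xg14 yg57 zg43) (kg xg17 yg36 zg38) (kg xg25 yg3 zg26) (kg xg26 yg17 zg7) (kg xg8 yg42 zg42) (kg xg26 yg17 zg8) (kg xg26 yg17 zg5) (kg xg9 yg52 zg52) (kg xg18 yg8 zg32) (kg xg10 yg9 zg34) (kg xg9 yg17 zg49) (kg xg16 yg21 zg14) (kg xg8 yg42 zg50) (kg xg16 yg21 zg13) (kg xg16 yg20 zg46) (kg xg8 yg42 zg51) (kg xg16 yg20 zg45) (kg xg11 yg15 zg13) (kg xg10 yg29 zg30) (kg xg9 yg9 zg34) (kg xg16 yg21 zg61) (kg xg26 yg17 zg25) (kg xg20 yg10 zg1) (kg xg15 yg5 zg59) (kg xg17 yg54 zg19) (kg xg8 yg42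 zg58) (kg xg20 yg11 zg1) (kg xg17 yg46 zg40) (kg xg8 yg42 zg59) (kg xg26 yg17 zg39) (kg xg18 yg21 zg61) (kg xg8 yg50 zg24) (kg xg24 yg55 zg53) (kg xg16 yg15 zg52) (kg xg26 yg17 zg43) (kg xg15 yg6 zg2) (kg xg11 yg23 zg42) (kg xg9 yg38 zg29) (kg xg26 yg17 zg44) (kg xg26 yg8 zg59) (kg xg24 yg45 zg57) (kg xg8 yg43 zg3) (kg xg26 yg17 zg55) (kg xg23 yg10 zg7) (kg xg26 yg17 zg58) (kg xg11 yg6 zg11) (kg xg8 yg43 zg10) (kg xg19 yg16 zg52) (kg xg14 yg50 zg31) (kg xg14 yg54 zg0) (kg xg25 yg42 zg2) (kg xg15 yg28 zg26) (kg xg16 yg7 zg24)) (@D3.rec (fun _ => Pt) (kg xg26 yg5 zg17) (kg xg16 yg17 zg33) (kg xg9 yg45 zg5) (kg xg25 yg15 zg33) (kg xg18 yg35 zg7) (kg xg26 yg18 zg9) (kg xg8 yg43 zg18) (kg xg18 yg26 zg36) (kg xg17 yg38 zg36) (kg xg17 yg54 zg18) (kg xg8 yg43 zg19) (kg xg26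 yg18 zg14) (kg xg17 yg54 zg16) (kg xg25 yg15 zg44) (kg xg25 yg45 zg61) (kg xg24 yg54 zg40) (kg xg9 yg43 zg13) (kg xg13 yg40 zg49) (kg xg18 yg36 zg14) (kg xg18 yg36 zg29) (kg xg11 yg6 zg17) (kg xg18 yg36 zg34) (kg xg24 yg56 zg36) (kg xg19 yg10 zg39) (kg xg22 yg29 zg14) (kg xg14 yg43 zg9) (kg xg18 yg56 zg36) (kg xg16 yg15 zg17) (kg xg25 yg3 zg9) (kg xg24 yg56 zg41) (kg xg24 yg55 zg37) (kg xg9 yg38 zg27) (kg xg15 yg10 zg58) (kg xg18 yg36 zg27) (kg xg11 yg37 zg27) (kg xg11 yg15 zg40) (kg xg16 yg21 zg44) (kg xg18 yg19 zg56) (kg xg16 yg21 zg43) (kg xg24 yg57 zg38) (kg xg8 yg43 zg38) (kg xg26 yg17 zg31) (kg xg26 yg18 zg38) (kg xg26 yg18 zg40) (kg xg16 yg19 zg25) (kg xg8 yg43 zg43) (kg xg16 yg19 zg24) (kg xg8 yg43 zg44) (kg xg15 yg23 zg36) (kg xg24 yg55 zg31) (kg xg16 yg16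 zg56) (kg xg17 yg46 zg59) (kg xg24 yg57 zg33) (kg xg8 yg43 zg47) (kg xg9 yg38 zg13) (kg xg10 yg22 zg24) (kg xg26 yg18 zg53) (kg xg18 yg21 zg49) (kg xg12 yg6 zg47) (kg xg26 yg18 zg59) (kg xg11 yg23 zg44) (kg xg25 yg28 zg37)) (@D3.rec (fun _ => Pt) (kg xg11 yg23 zg41) (kg xg21 yg13 zg20) (kg xg12 yg6 zg3) (kg xg10 yg15 zg15) (kg xg18 yg19 zg60) (kg xg17 yg52 zg6) (kg xg16 yg16 zg20) (kg xg26 yg19 zg8) (kg xg26 yg18 zg44) (kg xg23 yg4 zg39) (kg xg9 yg38 zg5) (kg xg13 yg23 zg60) (kg xg16 yg19 zg22) (kg xg8 yg43 zg61) (kg xg16 yg19 zg21) (kg xg20 yg8 zg23) (kg xg16 yg23 zg22) (kg xg19 yg59 zg47) (kg xg26 yg19 zg20) (kg xg18 yg39 zg14) (kg xg26 yg19 zg24) (kg xg18 yg59 zg34) (kg xg26 yg19 zg28) (kg xg21 yg53 zg5) (kg xg25 yg2 zg15) (kg xg10 yg36 zg32) (kg xg24 yg40 zg27)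 (kg xg26 yg19 zg33) (kg xg20 yg20 zg53) (kg xg26 yg19 zg14) (kg xg8 yg44 zg11) (kg xg25 yg40 zg36) (kg xg10 yg3 zg10) (kg xg26 yg19 zg18) (kg xg13 yg41 zg30) (kg xg8 yg44 zg42) (kg xg18 yg49 zg44) (kg xg8 yg44 zg35) (kg xg8 yg44 zg18) (kg xg16 yg20 zg42) (kg xg9 yg3 zg58) (kg xg17 yg19 zg8) (kg xg18 yg38 zg42) (kg xg16 yg20 zg36) (kg xg16 yg20 zg38) (kg xg22 yg51 zg50) (kg xg18 yg48 zg33) (kg xg8 yg44 zg29) (kg xg9 yg1 zg57) (kg xg22 yg51 zg27) (kg xg16 yg35 zg17) (kg xg8 yg44 zg46) (kg xg8 yg44 zg33) (kg xg18 yg27 zg61) (kg xg9 yg39 zg28) (kg xg22 yg51 zg58) (kg xg15 yg7 zg28) (kg xg10 yg30 zg12) (kg xg15 yg19 zg45) (kg xg26 yg19 zg56) (kg xg9 yg1 zg60) (kg xg16 yg19 zg31)) (@D3.rec (fun _ => Pt) (kg xg26 yg20 zg1) (kg xg16 yg45 zg54) (kg xg10 yg26 zg50) (kg xg24 yg59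 zg21) (kg xg8 yg52 zg43) (kg xg19 yg5 zg13) (kg xg9 yg3 zg2) (kg xg19 yg15 zg60) (kg xg9 yg39 zg31) (kg xg9 yg52 zg61) (kg xg8 yg44 zg43) (kg xg25 yg0 zg31) (kg xg25 yg16 zg55) (kg xg18 yg28 zg35) (kg xg19 yg2 zg17) (kg xg16 yg30 zg48) (kg xg18 yg49 zg27) (kg xg19 yg0 zg32) (kg xg8 yg44 zg49) (kg xg19 yg1 zg3) (kg xg12 yg8 zg22) (kg xg8 yg48 zg52) (kg xg8 yg44 zg51) (kg xg26 yg17 zg21) (kg xg16 yg52 zg43) (kg xg26 yg20 zg19) (kg xg20 yg18 zg28) (kg xg24 yg28 zg17) (kg xg8 yg44 zg54) (kg xg26 yg20 zg24) (kg xg26 yg20 zg20) (kg xg24 yg46 zg12) (kg xg26 yg20 zg28) (kg xg26 yg20 zg29) (kg xg18 yg19 zg23) (kg xg24 yg46 zg35) (kg xg8 yg44 zg57) (kg xg26 yg20 zg34) (kg xg24 yg46 zg34) (kg xg20 yg10 zg35) (kg xg13 yg41 zg22) (kg xg24 yg46 zg27) (kg xg8 yg44 zg60) (kg xg10 yg41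 zg11) (kg xg23 yg6 zg45) (kg xg8 yg44 zg61) (kg xg14 yg53 zg50) (kg xg25 yg16 zg29) (kg xg24 yg40 zg24) (kg xg20 yg21 zg49) (kg xg15 yg50 zg36) (kg xg16 yg35 zg6) (kg xg26 yg15 zg2) (kg xg26 yg20 zg47) (kg xg15 yg9 zg17) (kg xg9 yg53 zg54) (kg xg26 yg20 zg50) (kg xg26 yg20 zg53) (kg xg24 yg54 zg0) (kg xg9 yg53 zg47) (kg xg18 yg38 zg5) (kg xg26 yg20 zg56)) (@D3.rec (fun _ => Pt) (kg xg24 yg46 zg50) (kg xg8 yg45 zg9) (kg xg26 yg21 zg4) (kg xg24 yg46 zg48) (kg xg20 yg8 zg3) (kg xg20 yg8 zg4) (kg xg16 yg52 zg39) (kg xg21 yg53 zg1) (kg xg16 yg35 zg23) (kg xg26 yg21 zg8) (kg xg18 yg28 zg24) (kg xg26 yg12 zg52) (kg xg8 yg45 zg17) (kg xg16 yg25 zg53) (kg xg8 yg47 zg52) (kg xg16 yg35 zg7) (kg xg8 yg45 zg15) (kg xg24 yg21 zg52) (kg xg18 yg57 zg6) (kg xg26 yg12 zg43) (kg xg15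 yg12 zg11) (kg xg14 yg59 zg42) (kg xg10 yg28 zg60) (kg xg21 yg10 zg58) (kg xg11 yg13 zg27) (kg xg26 yg21 zg18) (kg xg24 yg46 zg33) (kg xg26 yg21 zg19) (kg xg16 yg32 zg36) (kg xg8 yg45 zg22) (kg xg26 yg21 zg29) (kg xg26 yg21 zg33) (kg xg23 yg42 zg36) (kg xg23 yg42 zg34) (kg xg20 yg8 zg21) (kg xg12 yg31 zg58) (kg xg24 yg55 zg32) (kg xg16 yg26 zg6) (kg xg16 yg24 zg11) (kg xg12 yg22 zg45) (kg xg12 yg6 zg35) (kg xg20 yg21 zg0) (kg xg12 yg6 zg33) (kg xg26 yg21 zg43) (kg xg12 yg22 zg55) (kg xg8 yg45 zg34) (kg xg12 yg22 zg54) (kg xg16 yg25 zg6) (kg xg21 yg29 zg31) (kg xg8 yg45 zg53) (kg xg8 yg49 zg14) (kg xg17 yg12 zg53) (kg xg21 yg54 zg39) (kg xg19 yg59 zg36) (kg xg11 yg37 zg25) (kg xg13 yg33 zg46) (kg xg11 yg37 zg23) (kg xg11 yg47 zg4) (kg xg20 yg34 zg35) (kg xg15 yg6 zg22)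 (kg xg12 yg43 zg42) (kg xg23 yg3 zg58)) (@D3.rec (fun _ => Pt) (kg xg26 yg21 zg53) (kg xg23 yg3 zg55) (kg xg26 yg21 zg57) (kg xg24 yg57 zg36) (kg xg11 yg24 zg40) (kg xg20 yg34 zg28) (kg xg20 yg19 zg47) (kg xg8 yg45 zg55) (kg xg12 yg8 zg31) (kg xg26 yg17 zg15) (kg xg16 yg32 zg59) (kg xg10 yg26 zg41) (kg xg12 yg5 zg56) (kg xg22 yg46 zg37) (kg xg16 yg26 zg46) (kg xg8 yg51 zg41) (kg xg21 yg53 zg45) (kg xg8 yg46 zg4) (kg xg25 yg51 zg60) (kg xg16 yg26 zg10) (kg xg25 yg3 zg1) (kg xg16 yg26 zg8) (kg xg20 yg30 zg48) (kg xg26 yg22 zg2) (kg xg8 yg46 zg8) (kg xg18 yg41 zg21) (kg xg12 yg6 zg30) (kg xg11 yg15 zg28) (kg xg21 yg6 zg52) (kg xg26 yg22 zg6) (kg xg8 yg46 zg24) (kg xg8 yg46 zg12) (kg xg12 yg22 zg16) (kg xg8 yg48 zg2) (kg xg26 yg22 zg10) (kg xg26 yg22 zg11) (kg xg9 yg25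 zg8) (kg xg8 yg46 zg18) (kg xg13 yg28 zg43) (kg xg12 yg5 zg57) (kg xg24 yg57 zg21) (kg xg23 yg4 zg20) (kg xg8 yg46 zg20) (kg xg26 yg22 zg18) (kg xg26 yg22 zg7) (kg xg24 yg56 zg59) (kg xg23 yg19 zg48) (kg xg20 yg17 zg22) (kg xg26 yg22 zg14) (kg xg11 yg23 zg46) (kg xg16 yg31 zg41) (kg xg21 yg53 zg43) (kg xg24 yg57 zg28) (kg xg13 yg27 zg46) (kg xg8 yg46 zg23) (kg xg20 yg49 zg24) (kg xg26 yg22 zg35) (kg xg16 yg25 zg43) (kg xg24 yg36 zg44) (kg xg8 yg46 zg31) (kg xg8 yg46 zg28) (kg xg26 yg22 zg38)) (@D3.rec (fun _ => Pt) (kg xg26 yg6 zg30) (kg xg8 yg46 zg29) (kg xg12 yg22 zg34) (kg xg12 yg31 zg1) (kg xg24 yg57 zg4) (kg xg26 yg22 zg39) (kg xg16 yg23 zg48) (kg xg26 yg8 zg60) (kg xg12 yg22 zg50) (kg xg8 yg46 zg34) (kg xg26 yg22 zg48) (kg xg12 yg22 zg48) (kg xg12 yg6 zg28) (kg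 xg12 yg6 zg27) (kg xg12 yg5 zg54) (kg xg12 yg5 zg53) (kg xg12 yg23 zg8) (kg xg8 yg46 zg38) (kg xg12 yg23 zg7) (kg xg15 yg10 zg27) (kg xg9 yg10 zg33) (kg xg20 yg29 zg26) (kg xg12 yg44 zg54) (kg xg20 yg31 zg58) (kg xg8 yg46 zg48) (kg xg8 yg46 zg43) (kg xg8 yg46 zg47) (kg xg10 yg23 zg9) (kg xg26 yg22 zg56) (kg xg8 yg46 zg45) (kg xg10 yg58 zg8) (kg xg26 yg22 zg55) (kg xg25 yg45 zg48) (kg xg11 yg59 zg24) (kg xg26 yg23 zg0) (kg xg18 yg19 zg61) (kg xg19 yg47 zg61) (kg xg26 yg23 zg1) (kg xg26 yg23 zg3) (kg xg26 yg23 zg6) (kg xg8 yg46 zg50) (kg xg19 yg48 zg16) (kg xg22 yg30 zg46) (kg xg8 yg46 zg51) (kg xg8 yg46 zg52) (kg xg12 yg5 zg50) (kg xg14 yg1 zg52) (kg xg26 yg23 zg12) (kg xg21 yg29 zg19) (kg xg26 yg23 zg9) (kg xg18 yg18 zg49) (kg xg21 yg13 zg2) (kg xg8 yg51 zg19) (kg xg16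 yg23 zg21) (kg xg11 yg38 zg6) (kg xg8 yg46 zg56) (kg xg20 yg29 zg31) (kg xg12 yg37 zg36) (kg xg22 yg42 zg48) (kg xg8 yg46 zg58) (kg xg26 yg23 zg23) (kg xg8 yg47 zg7)) (@D3.rec (fun _ => Pt) (kg xg22 yg47 zg41) (kg xg8 yg47 zg15) (kg xg13 yg42 zg16) (kg xg8 yg47 zg13) (kg xg16 yg24 zg26) (kg xg10 yg16 zg32) (kg xg16 yg24 zg24) (kg xg15 yg55 zg51) (kg xg8 yg47 zg2) (kg xg15 yg13 zg60) (kg xg14 yg44 zg24) (kg xg26 yg23 zg28) (kg xg21 yg12 zg59) (kg xg26 yg23 zg22) (kg xg8 yg47 zg5) (kg xg26 yg23 zg38) (kg xg26 yg23 zg20) (kg xg19 yg39 zg47) (kg xg9 yg3 zg53) (kg xg17 yg23 zg1) (kg xg23 yg10 zg16) (kg xg22 yg46 zg25) (kg xg25 yg59 zg14) (kg xg8 yg47 zg8) (kg xg25 yg59 zg9) (kg xg26 yg22 zg28) (kg xg13 yg42 zg6) (kg xg13 yg42 zg9) (kg xg26 yg23 zg46) (kg xg21 yg11 zg8) (kg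 xg22 yg52 zg15) (kg xg26 yg23 zg49) (kg xg9 yg9 zg56) (kg xg16 yg33 zg61) (kg xg13 yg42 zg15) (kg xg13 yg43 zg19) (kg xg26 yg23 zg53) (kg xg13 yg31 zg14) (kg xg22 yg30 zg52) (kg xg15 yg6 zg10) (kg xg15 yg6 zg11) (kg xg26 yg23 zg58) (kg xg21 yg29 zg50) (kg xg8 yg47 zg20) (kg xg8 yg47 zg17) (kg xg10 yg56 zg27) (kg xg8 yg47 zg18) (kg xg16 yg46 zg11) (kg xg20 yg20 zg27) (kg xg19 yg36 zg59) (kg xg15 yg6 zg1) (kg xg18 yg2 zg38) (kg xg10 yg51 zg30) (kg xg26 yg24 zg8) (kg xg16 yg43 zg59) (kg xg11 yg59 zg36) (kg xg26 yg22 zg50) (kg xg17 yg57 zg13) (kg xg8 yg47 zg24) (kg xg18 yg51 zg19) (kg xg18 yg2 zg53) (kg xg17 yg57 zg12)) (@D3.rec (fun _ => Pt) (kg xg17 yg57 zg40) (kg xg13 yg33 zg18) (kg xg8 yg47 zg27) (kg xg17 yg57 zg22) (kg xg24 yg57 zg13) (kg xg22 yg17 zg23) (kg xg24 yg39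 zg0) (kg xg20 yg29 zg43) (kg xg17 yg57 zg27) (kg xg8 yg47 zg30) (kg xg17 yg57 zg26) (kg xg12 yg5 zg7) (kg xg16 yg33 zg24) (kg xg22 yg48 zg17) (kg xg21 yg5 zg24) (kg xg17 yg57 zg33) (kg xg8 yg47 zg33) (kg xg17 yg57 zg31) (kg xg23 yg2 zg26) (kg xg26 yg24 zg35) (kg xg14 yg28 zg0) (kg xg13 yg43 zg33) (kg xg8 yg47 zg36) (kg xg13 yg49 zg11) (kg xg21 yg1 zg55) (kg xg26 yg24 zg38) (kg xg8 yg47 zg39) (kg xg26 yg24 zg39) (kg xg22 yg23 zg0) (kg xg25 yg5 zg46) (kg xg26 yg24 zg44) (kg xg24 yg7 zg39) (kg xg17 yg57 zg14) (kg xg8 yg47 zg42) (kg xg8 yg49 zg31) (kg xg8 yg49 zg30) (kg xg8 yg47 zg44) (kg xg20 yg52 zg39) (kg xg17 yg57 zg42) (kg xg8 yg47 zg46) (kg xg17 yg57 zg41) (kg xg26 yg21 zg23) (kg xg25 yg33 zg5) (kg xg11 yg32 zg43) (kg xg8 yg47 zg49) (kg xg11 yg32 zg42) (kg xg20 yg32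 zg14) (kg xg26 yg24 zg60) (kg xg8 yg47 zg51) (kg xg11 yg3 zg0) (kg xg23 yg14 zg11) (kg xg20 yg20 zg61) (kg xg9 yg1 zg45) (kg xg24 yg53 zg20) (kg xg26 yg23 zg8) (kg xg18 yg18 zg58) (kg xg21 yg28 zg39) (kg xg8 yg50 zg55) (kg xg9 yg14 zg54) (kg xg20 yg32 zg6) (kg xg18 yg41 zg5) (kg xg9 yg0 zg50)) (@D3.rec (fun _ => Pt) (kg xg19 yg44 zg56) (kg xg16 yg11 zg0) (kg xg18 yg40 zg52) (kg xg16 yg13 zg13) (kg xg8 yg47 zg60) (kg xg16 yg13 zg15) (kg xg18 yg40 zg53) (kg xg8 yg47 zg61) (kg xg24 yg47 zg20) (kg xg26 yg25 zg19) (kg xg22 yg52 zg9) (kg xg22 yg38 zg50) (kg xg21 yg35 zg51) (kg xg8 yg48 zg8) (kg xg8 yg51 zg30) (kg xg22 yg52 zg21) (kg xg20 yg15 zg39) (kg xg20 yg5 zg42) (kg xg8 yg48 zg11) (kg xg8 yg48 zg23) (kg xg11 yg32 zg36) (kg xg13 yg28 zg11) (kg xg8 yg48 zg17) (kg xg8 yg48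 zg15) (kg xg21 yg30 zg12) (kg xg26 yg25 zg32) (kg xg15 yg23 zg55) (kg xg21 yg35 zg52) (kg xg11 yg10 zg51) (kg xg16 yg49 zg37) (kg xg25 yg45 zg49) (kg xg26 yg25 zg29) (kg xg24 yg9 zg16) (kg xg22 yg52 zg45) (kg xg8 yg48 zg24) (kg xg22 yg52 zg44) (kg xg24 yg57 zg43) (kg xg13 yg28 zg23) (kg xg22 yg52 zg10) (kg xg13 yg31 zg12) (kg xg23 yg1 zg30) (kg xg19 yg36 zg21) (kg xg22 yg47 zg44) (kg xg8 yg48 zg30) (kg xg11 yg17 zg53) (kg xg26 yg25 zg45) (kg xg26 yg25 zg49) (kg xg8 yg48 zg34) (kg xg8 yg48 zg32) (kg xg19 yg39 zg14) (kg xg13 yg32 zg0) (kg xg26 yg24 zg0) (kg xg11 yg7 zg53) (kg xg16 yg32 zg25) (kg xg22 yg54 zg29) (kg xg17 yg8 zg31) (kg xg26 yg25 zg57) (kg xg19 yg37 zg50) (kg xg8 yg48 zg38) (kg xg21 yg4 zg25) (kg xg8 yg49 zg33) (kg xg26 yg25 zg61)) (@D3.rec (fun _ => Pt)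 (kg xg21 yg4 zg23) (kg xg8 yg48 zg41) (kg xg16 yg32 zg24) (kg xg21 yg4 zg21) (kg xg25 yg6 zg14) (kg xg13 yg32 zg38) (kg xg19 yg37 zg49) (kg xg19 yg37 zg48) (kg xg26 yg26 zg11) (kg xg21 yg4 zg19) (kg xg8 yg48 zg49) (kg xg24 yg35 zg22) (kg xg8 yg50 zg15) (kg xg8 yg48 zg51) (kg xg26 yg26 zg15) (kg xg8 yg50 zg17) (kg xg21 yg2 zg53) (kg xg8 yg50 zg10) (kg xg16 yg36 zg0) (kg xg11 yg1 zg38) (kg xg8 yg48 zg59) (kg xg19 yg50 zg1) (kg xg18 yg19 zg2) (kg xg23 yg13 zg38) (kg xg8 yg48 zg61) (kg xg23 yg14 zg59) (kg xg9 yg47 zg29) (kg xg9 yg47 zg36) (kg xg23 yg37 zg32) (kg xg9 yg14 zg51) (kg xg8 yg49 zg6) (kg xg9 yg14 zg50) (kg xg14 yg7 zg59) (kg xg19 yg33 zg10) (kg xg11 yg11 zg21) (kg xg20 yg20 zg51) (kg xg26 yg25 zg54) (kg xg15 yg10 zg17) (kg xg26 yg26 zg29) (kg xg15 yg13 zg48)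 (kg xg19 yg1 zg33) (kg xg16 yg29 zg45) (kg xg24 yg59 zg17) (kg xg26 yg26 zg35) (kg xg12 yg22 zg0) (kg xg16 yg23 zg50) (kg xg17 yg3 zg46) (kg xg11 yg11 zg7) (kg xg11 yg18 zg32) (kg xg21 yg30 zg9) (kg xg8 yg49 zg18) (kg xg26 yg26 zg40) (kg xg21 yg30 zg7) (kg xg8 yg50 zg20) (kg xg8 yg49 zg19) (kg xg20 yg35 zg8) (kg xg17 yg58 zg28) (kg xg8 yg49 zg20) (kg xg23 yg58 zg38) (kg xg11 yg29 zg27) (kg xg8 yg49 zg22) (kg xg9 yg6 zg45)) (@D3.rec (fun _ => Pt) (kg xg11 yg8 zg32) (kg xg10 yg54 zg35) (kg xg9 yg10 zg28) (kg xg26 yg25 zg46) (kg xg16 yg35 zg29) (kg xg8 yg49 zg28) (kg xg26 yg26 zg54) (kg xg21 yg4 zg17) (kg xg26 yg26 zg56) (kg xg26 yg26 zg59) (kg xg24 yg32 zg20) (kg xg8 yg49 zg32) (kg xg14 yg19 zg47) (kg xg14 yg19 zg4) (kg xg17 yg3 zg48) (kg xg24 yg7 zg37) (kg xg21 yg13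 zg52) (kg xg13 yg50 zg40) (kg xg8 yg49 zg59) (kg xg17 yg15 zg7) (kg xg8 yg50 zg8) (kg xg20 yg17 zg26) (kg xg8 yg50 zg6) (kg xg11 yg36 zg24) (kg xg20 yg6 zg32) (kg xg16 yg51 zg42) (kg xg13 yg50 zg44) (kg xg14 yg49 zg59) (kg xg17 yg34 zg46) (kg xg20 yg26 zg3) (kg xg21 yg14 zg19) (kg xg13 yg50 zg28) (kg xg20 yg6 zg53) (kg xg18 yg57 zg3) (kg xg18 yg2 zg14) (kg xg8 yg49 zg53) (kg xg17 yg15 zg23) (kg xg23 yg46 zg28) (kg xg26 yg26 zg14) (kg xg15 yg25 zg51) (kg xg16 yg51 zg35) (kg xg8 yg50 zg4) (kg xg12 yg44 zg16) (kg xg26 yg27 zg10) (kg xg12 yg44 zg14) (kg xg11 yg11 zg52) (kg xg9 yg9 zg36) (kg xg20 yg17 zg25) (kg xg10 yg29 zg11) (kg xg20 yg17 zg21) (kg xg24 yg36 zg48) (kg xg24 yg36 zg47) (kg xg26 yg27 zg14) (kg xg17 yg31 zg45) (kg xg26 yg27 zg15) (kg xg21 yg38 zg4) (kg xg8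 yg50 zg14) (kg xg8 yg50 zg11) (kg xg8 yg50 zg12) (kg xg15 yg50 zg14) (kg xg8 yg50 zg13) (kg xg9 yg7 zg11)) (@D3.rec (fun _ => Pt) (kg xg26 yg27 zg20) (kg xg26 yg26 zg16) (kg xg17 yg59 zg55) (kg xg19 yg33 zg16) (kg xg20 yg1 zg19) (kg xg20 yg6 zg27) (kg xg9 yg7 zg8) (kg xg17 yg2 zg27) (kg xg26 yg27 zg25) (kg xg19 yg50 zg42) (kg xg26 yg26 zg18) (kg xg8 yg50 zg18) (kg xg23 yg10 zg34) (kg xg13 yg31 zg10) (kg xg20 yg35 zg10) (kg xg26 yg27 zg43) (kg xg23 yg7 zg39) (kg xg20 yg35 zg7) (kg xg26 yg27 zg50) (kg xg17 yg2 zg32) (kg xg26 yg27 zg55) (kg xg11 yg39 zg19) (kg xg26 yg27 zg58) (kg xg11 yg39 zg43) (kg xg17 yg19 zg56) (kg xg21 yg28 zg61) (kg xg8 yg50 zg34) (kg xg8 yg50 zg26) (kg xg12 yg53 zg3) (kg xg21 yg53 zg34) (kg xg8 yg50 zg30) (kg xg26 yg28 zg6) (kg xg26 yg28 zg2) (kg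 xg13 yg50 zg38) (kg xg20 yg49 zg25) (kg xg21 yg53 zg59) (kg xg26 yg25 zg24) (kg xg20 yg44 zg50) (kg xg26 yg28 zg11) (kg xg24 yg47 zg43) (kg xg8 yg50 zg33) (kg xg16 yg24 zg46) (kg xg8 yg50 zg38) (kg xg8 yg50 zg35) (kg xg23 yg31 zg12) (kg xg18 yg18 zg41) (kg xg8 yg50 zg36) (kg xg11 yg13 zg54) (kg xg21 yg13 zg18) (kg xg22 yg11 zg55) (kg xg23 yg31 zg7) (kg xg21 yg30 zg43) (kg xg9 yg14 zg56) (kg xg16 yg23 zg14) (kg xg24 yg53 zg3) (kg xg26 yg8 zg38) (kg xg21 yg29 zg17) (kg xg14 yg5 zg14) (kg xg15 yg0 zg6) (kg xg8 yg50 zg50) (kg xg8 yg50 zg46) (kg xg22 yg47 zg60)) (@D3.rec (fun _ => Pt) (kg xg24 yg24 zg12) (kg xg26 yg28 zg32) (kg xg16 yg53 zg22) (kg xg22 yg38 zg53) (kg xg26 yg28 zg33) (kg xg20 yg9 zg9) (kg xg8 yg50 zg49) (kg xg26 yg28 zg42) (kg xg26 yg28 zg29) (kg xg16 yg28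 zg13) (kg xg16 yg28 zg14) (kg xg23 yg9 zg27) (kg xg12 yg38 zg29) (kg xg8 yg50 zg52) (kg xg26 yg28 zg51) (kg xg26 yg28 zg54) (kg xg8 yg50 zg53) (kg xg12 yg8 zg7) (kg xg8 yg50 zg54) (kg xg9 yg8 zg26) (kg xg11 yg33 zg2) (kg xg20 yg8 zg36) (kg xg26 yg29 zg1) (kg xg26 yg28 zg52) (kg xg23 yg8 zg32) (kg xg9 yg19 zg34) (kg xg24 yg57 zg20) (kg xg16 yg27 zg58) (kg xg11 yg33 zg59) (kg xg12 yg6 zg0) (kg xg24 yg59 zg15) (kg xg16 yg33 zg31) (kg xg8 yg50 zg59) (kg xg26 yg29 zg15) (kg xg26 yg21 zg5) (kg xg16 yg33 zg50) (kg xg16 yg23 zg29) (kg xg13 yg16 zg48) (kg xg20 yg30 zg40) (kg xg24 yg47 zg52) (kg xg17 yg15 zg12) (kg xg20 yg30 zg39) (kg xg26 yg29 zg24) (kg xg24 yg26 zg54) (kg xg25 yg52 zg17) (kg xg20 yg31 zg30) (kg xg8 yg51 zg2) (kg xg26 yg29 zg29) (kg xg18 yg59 zg53) (kg xg26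 yg29 zg23) (kg xg8 yg51 zg3) (kg xg26 yg29 zg22) (kg xg16 yg24 zg37) (kg xg16 yg24 zg39) (kg xg26 yg29 zg37) (kg xg13 yg39 zg6) (kg xg8 yg51 zg5) (kg xg26 yg25 zg9) (kg xg26 yg17 zg46) (kg xg8 yg51 zg6) (kg xg16 yg24 zg12) (kg xg24 yg47 zg23)) (@D3.rec (fun _ => Pt) (kg xg15 yg6 zg34) (kg xg26 yg19 zg38) (kg xg15 yg6 zg27) (kg xg11 yg23 zg16) (kg xg8 yg51 zg21) (kg xg8 yg51 zg9) (kg xg26 yg29 zg52) (kg xg24 yg54 zg4) (kg xg15 yg9 zg46) (kg xg8 yg51 zg10) (kg xg24 yg29 zg7) (kg xg9 yg14 zg53) (kg xg13 yg41 zg59) (kg xg19 yg50 zg0) (kg xg11 yg36 zg30) (kg xg12 yg28 zg43) (kg xg8 yg51 zg16) (kg xg22 yg51 zg40) (kg xg23 yg16 zg31) (kg xg26 yg29 zg61) (kg xg13 yg14 zg19) (kg xg26 yg30 zg3) (kg xg20 yg8 zg41) (kg xg26 yg28 zg50) (kg xg22 yg27 zg46) (kg xg23 yg22 zg3) (kg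 xg15 yg7 zg38) (kg xg25 yg15 zg57) (kg xg26 yg20 zg33) (kg xg24 yg47 zg7) (kg xg14 yg59 zg48) (kg xg16 yg32 zg32) (kg xg20 yg30 zg10) (kg xg26 yg30 zg16) (kg xg16 yg35 zg46) (kg xg8 yg51 zg31) (kg xg8 yg51 zg28) (kg xg26 yg23 zg15) (kg xg26 yg30 zg24) (kg xg20 yg9 zg51) (kg xg26 yg30 zg27) (kg xg26 yg25 zg37) (kg xg26 yg29 zg42) (kg xg26 yg26 zg9) (kg xg11 yg59 zg32) (kg xg20 yg31 zg25) (kg xg21 yg11 zg59) (kg xg15 yg8 zg26) (kg xg25 yg1 zg53) (kg xg16 yg32 zg35) (kg xg8 yg51 zg35) (kg xg26 yg30 zg41) (kg xg26 yg30 zg44) (kg xg8 yg51 zg58) (kg xg8 yg51 zg53) (kg xg8 yg51 zg38) (kg xg23 yg6 zg7) (kg xg26 yg19 zg26) (kg xg21 yg10 zg32) (kg xg8 yg51 zg39) (kg xg21 yg10 zg31) (kg xg16 yg26 zg30)) (@D3.rec (fun _ => Pt) (kg xg26 yg25 zg35) (kg xg24 yg13 zg16) (kg xg26 yg31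 zg3) (kg xg21 yg10 zg37) (kg xg8 yg51 zg42) (kg xg21 yg10 zg36) (kg xg26 yg31 zg9) (kg xg22 yg55 zg37) (kg xg26 yg31 zg13) (kg xg21 yg10 zg44) (kg xg8 yg51 zg45) (kg xg21 yg10 zg43) (kg xg26 yg31 zg23) (kg xg26 yg31 zg26) (kg xg21 yg10 zg49) (kg xg8 yg51 zg47) (kg xg21 yg10 zg48) (kg xg24 yg12 zg9) (kg xg26 yg31 zg18) (kg xg26 yg31 zg35) (kg xg26 yg31 zg30) (kg xg26 yg21 zg35) (kg xg8 yg51 zg50) (kg xg26 yg21 zg34) (kg xg26 yg31 zg46) (kg xg26 yg31 zg50) (kg xg8 yg51 zg52) (kg xg18 yg42 zg22) (kg xg24 yg12 zg13) (kg xg26 yg30 zg57) (kg xg21 yg11 zg5) (kg xg8 yg51 zg54) (kg xg21 yg11 zg4) (kg xg16 yg23 zg49) (kg xg21 yg10 zg60) (kg xg20 yg18 zg24) (kg xg24 yg13 zg9) (kg xg26 yg31 zg6) (kg xg8 yg51 zg59) (kg xg17 yg57 zg9) (kg xg26 yg32 zg5) (kg xg18 yg32 zg25) (kg xg9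 yg56 zg53) (kg xg8 yg52 zg1) (kg xg10 yg33 zg1) (kg xg18 yg14 zg30) (kg xg8 yg52 zg2) (kg xg26 yg32 zg14) (kg xg16 yg35 zg32) (kg xg16 yg35 zg31) (kg xg21 yg53 zg53) (kg xg26 yg32 zg19) (kg xg10 yg2 zg1) (kg xg8 yg52 zg7) (kg xg19 yg1 zg27) (kg xg10 yg1 zg61) (kg xg16 yg35 zg35) (kg xg8 yg52 zg9) (kg xg16 yg35 zg34) (kg xg16 yg52 zg53) (kg xg14 yg42 zg59) (kg xg10 yg22 zg14)) (@D3.rec (fun _ => Pt) (kg xg8 yg52 zg11) (kg xg10 yg22 zg13) (kg xg16 yg35 zg49) (kg xg11 yg53 zg40) (kg xg8 yg52 zg17) (kg xg8 yg54 zg30) (kg xg8 yg52 zg15) (kg xg14 yg59 zg19) (kg xg26 yg17 zg10) (kg xg11 yg36 zg19) (kg xg10 yg22 zg18) (kg xg8 yg52 zg18) (kg xg16 yg35 zg44) (kg xg20 yg31 zg22) (kg xg14 yg58 zg48) (kg xg16 yg51 zg34) (kg xg18 yg58 zg58) (kg xg16 yg22 zg4) (kg xg8 yg52 zg22) (kg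 xg8 yg52 zg25) (kg xg17 yg47 zg56) (kg xg26 yg32 zg37) (kg xg8 yg52 zg23) (kg xg19 yg1 zg12) (kg xg9 yg39 zg59) (kg xg16 yg22 zg0) (kg xg16 yg36 zg11) (kg xg8 yg52 zg27) (kg xg16 yg36 zg10) (kg xg19 yg2 zg30) (kg xg16 yg34 zg49) (kg xg8 yg52 zg29) (kg xg11 yg13 zg37) (kg xg16 yg34 zg58) (kg xg8 yg52 zg32) (kg xg16 yg34 zg57) (kg xg26 yg32 zg17) (kg xg20 yg7 zg23) (kg xg24 yg57 zg40) (kg xg10 yg26 zg48) (kg xg8 yg52 zg34) (kg xg18 yg38 zg59) (kg xg10 yg26 zg46) (kg xg16 yg35 zg12) (kg xg8 yg52 zg38) (kg xg16 yg35 zg11) (kg xg26 yg32 zg53) (kg xg13 yg14 zg6) (kg xg16 yg30 zg16) (kg xg16 yg35 zg4) (kg xg26 yg19 zg17) (kg xg26 yg32 zg56) (kg xg18 yg39 zg6) (kg xg8 yg52 zg45) (kg xg8 yg52 zg48) (kg xg23 yg43 zg31) (kg xg26 yg32 zg61) (kg xg8 yg52 zg46) (kg xg10 yg13 zg11)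 (kg xg21 yg25 zg34) (kg xg18 yg41 zg13) (kg xg26 yg19 zg49)) (@D3.rec (fun _ => Pt) (kg xg12 yg46 zg41) (kg xg20 yg19 zg37) (kg xg8 yg52 zg47) (kg xg20 yg14 zg0) (kg xg26 yg33 zg5) (kg xg16 yg29 zg18) (kg xg12 yg23 zg14) (kg xg22 yg7 zg53) (kg xg21 yg28 zg26) (kg xg16 yg35 zg28) (kg xg8 yg52 zg52) (kg xg16 yg35 zg27) (kg xg26 yg27 zg2) (kg xg8 yg53 zg38) (kg xg8 yg52 zg54) (kg xg8 yg53 zg37) (kg xg26 yg7 zg60) (kg xg8 yg54 zg4) (kg xg26 yg33 zg13) (kg xg8 yg54 zg2) (kg xg10 yg53 zg12) (kg xg8 yg54 zg19) (kg xg8 yg52 zg58) (kg xg8 yg54 zg18) (kg xg16 yg37 zg51) (kg xg26 yg33 zg20) (kg xg26 yg33 zg23) (kg xg8 yg54 zg44) (kg xg8 yg52 zg60) (kg xg19 yg19 zg20) (kg xg8 yg54 zg42) (kg xg8 yg55 zg4) (kg xg8 yg54 zg59) (kg xg8 yg53 zg1) (kg xg8 yg54 zg58) (kg xg24 yg3 zg29)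 (kg xg8 yg54 zg31) (kg xg8 yg54 zg51) (kg xg8 yg53 zg4) (kg xg8 yg54 zg50) (kg xg26 yg33 zg36) (kg xg26 yg33 zg40) (kg xg19 yg19 zg16) (kg xg8 yg54 zg47) (kg xg8 yg53 zg8) (kg xg8 yg53 zg11) (kg xg26 yg33 zg33) (kg xg26 yg33 zg49) (kg xg16 yg45 zg48) (kg xg24 yg26 zg52) (kg xg8 yg53 zg9) (kg xg24 yg58 zg18) (kg xg10 yg39 zg7) (kg xg16 yg37 zg16) (kg xg24 yg0 zg15) (kg xg26 yg11 zg12) (kg xg26 yg11 zg13) (kg xg8 yg53 zg10) (kg xg25 yg4 zg25) (kg xg26 yg34 zg0) (kg xg17 yg28 zg56) (kg xg26 yg33 zg26)) (@D3.rec (fun _ => Pt) (kg xg26 yg34 zg6) (kg xg16 yg39 zg8) (kg xg25 yg45 zg13) (kg xg8 yg55 zg31) (kg xg8 yg53 zg14) (kg xg8 yg55 zg30) (kg xg20 yg58 zg52) (kg xg19 yg57 zg57) (kg xg8 yg53 zg16) (kg xg19 yg57 zg56) (kg xg26 yg34 zg21) (kg xg19 yg59 zg34) (kg xg16 yg42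 zg36) (kg xg25 yg7 zg55) (kg xg8 yg53 zg21) (kg xg25 yg7 zg54) (kg xg16 yg36 zg48) (kg xg26 yg34 zg32) (kg xg26 yg34 zg35) (kg xg10 yg47 zg53) (kg xg8 yg53 zg23) (kg xg26 yg34 zg40) (kg xg10 yg47 zg51) (kg xg20 yg56 zg32) (kg xg8 yg53 zg32) (kg xg10 yg47 zg46) (kg xg8 yg53 zg27) (kg xg10 yg47 zg45) (kg xg16 yg41 zg24) (kg xg26 yg34 zg48) (kg xg11 yg53 zg55) (kg xg20 yg55 zg5) (kg xg8 yg53 zg29) (kg xg20 yg39 zg27) (kg xg19 yg54 zg53) (kg xg8 yg53 zg30) (kg xg19 yg54 zg52) (kg xg16 yg39 zg34) (kg xg26 yg34 zg61) (kg xg22 yg3 zg18) (kg xg23 yg55 zg20) (kg xg10 yg47 zg58) (kg xg25 yg7 zg58) (kg xg8 yg53 zg33) (kg xg25 yg7 zg57) (kg xg14 yg41 zg54) (kg xg25 yg27 zg22) (kg xg9 yg12 zg45) (kg xg20 yg39 zg13) (kg xg26 yg35 zg8) (kg xg19 yg32 zg46) (kg xg16 yg39 zg33) (kg xg26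 yg35 zg23) (kg xg26 yg35 zg26) (kg xg26 yg35 zg18) (kg xg16 yg36 zg24) (kg xg20 yg55 zg3) (kg xg25 yg45 zg8) (kg xg26 yg35 zg32) (kg xg22 yg4 zg5) (kg xg8 yg53 zg39) (kg xg26 yg35 zg39)) (@D3.rec (fun _ => Pt) (kg xg26 yg35 zg35) (kg xg8 yg53 zg40) (kg xg26 yg35 zg49) (kg xg26 yg35 zg33) (kg xg25 yg22 zg29) (kg xg26 yg11 zg14) (kg xg26 yg35 zg7) (kg xg20 yg39 zg10) (kg xg25 yg8 zg16) (kg xg8 yg53 zg43) (kg xg26 yg36 zg0) (kg xg25 yg8 zg14) (kg xg24 yg35 zg14) (kg xg11 yg53 zg37) (kg xg11 yg39 zg32) (kg xg19 yg14 zg10) (kg xg16 yg42 zg41) (kg xg25 yg8 zg19) (kg xg8 yg53 zg46) (kg xg26 yg36 zg20) (kg xg20 yg57 zg18) (kg xg8 yg53 zg49) (kg xg26 yg36 zg27) (kg xg11 yg53 zg57) (kg xg26 yg36 zg29) (kg xg26 yg36 zg32) (kg xg10 yg34 zg31) (kg xg10 yg26 zg36) (kg xg10 yg34 zg11)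 (kg xg26 yg36 zg39) (kg xg19 yg3 zg53) (kg xg10 yg34 zg9) (kg xg10 yg45 zg31) (kg xg10 yg32 zg29) (kg xg10 yg33 zg50) (kg xg8 yg53 zg55) (kg xg10 yg33 zg49) (kg xg19 yg7 zg9) (kg xg24 yg12 zg14) (kg xg26 yg34 zg57) (kg xg25 yg14 zg15) (kg xg16 yg40 zg5) (kg xg20 yg56 zg21) (kg xg10 yg47 zg60) (kg xg15 yg19 zg12) (kg xg26 yg34 zg42) (kg xg25 yg8 zg4) (kg xg26 yg37 zg0) (kg xg25 yg8 zg1) (kg xg8 yg53 zg60) (kg xg26 yg37 zg6) (kg xg26 yg37 zg9) (kg xg26 yg37 zg2) (kg xg8 yg53 zg61) (kg xg26 yg37 zg17) (kg xg20 yg56 zg18) (kg xg25 yg45 zg11) (kg xg8 yg54 zg0) (kg xg21 yg57 zg61) (kg xg25 yg45 zg10) (kg xg26 yg37 zg25) (kg xg16 yg51 zg10)) (@D3.rec (fun _ => Pt) (kg xg19 yg1 zg5) (kg xg26 yg34 zg56) (kg xg19 yg40 zg46) (kg xg26 yg33 zg15) (kg xg8 yg54 zg3) (kg xg20 yg29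 zg58) (kg xg26 yg33 zg14) (kg xg8 yg54 zg7) (kg xg16 yg41 zg61) (kg xg26 yg34 zg26) (kg xg19 yg40 zg42) (kg xg15 yg2 zg43) (kg xg8 yg54 zg8) (kg xg15 yg2 zg42) (kg xg26 yg37 zg41) (kg xg8 yg54 zg9) (kg xg15 yg2 zg16) (kg xg18 yg54 zg38) (kg xg26 yg32 zg10) (kg xg18 yg49 zg21) (kg xg18 yg3 zg1) (kg xg8 yg54 zg14) (kg xg18 yg3 zg0) (kg xg26 yg37 zg47) (kg xg26 yg37 zg49) (kg xg25 yg10 zg5) (kg xg8 yg54 zg16) (kg xg25 yg10 zg4) (kg xg25 yg10 zg17) (kg xg16 yg41 zg30) (kg xg26 yg37 zg56) (kg xg10 yg32 zg7) (kg xg24 yg52 zg38) (kg xg16 yg37 zg55) (kg xg26 yg37 zg57) (kg xg20 yg38 zg33) (kg xg8 yg54 zg20) (kg xg26 yg37 zg46) (kg xg8 yg54 zg21) (kg xg16 yg37 zg37) (kg xg17 yg7 zg11) (kg xg24 yg26 zg49) (kg xg26 yg38 zg4) (kg xg8 yg54 zg24) (kg xg26 yg37 zg58) (kg xg17 yg50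 zg45) (kg xg8 yg59 zg14) (kg xg26 yg38 zg12) (kg xg25 yg10 zg11) (kg xg26 yg38 zg13) (kg xg18 yg49 zg24) (kg xg25 yg10 zg21) (kg xg8 yg54 zg27) (kg xg19 yg40 zg51) (kg xg19 yg43 zg1) (kg xg26 yg33 zg53) (kg xg16 yg13 zg36) (kg xg19 yg1 zg28) (kg xg8 yg55 zg10) (kg xg19 yg31 zg38) (kg xg26 yg38 zg28) (kg xg26 yg32 zg26)) (@D3.rec (fun _ => Pt) (kg xg8 yg54 zg34) (kg xg10 yg28 zg49) (kg xg16 yg22 zg19) (kg xg8 yg59 zg0) (kg xg20 yg58 zg58) (kg xg16 yg38 zg44) (kg xg26 yg38 zg37) (kg xg8 yg54 zg38) (kg xg25 yg31 zg58) (kg xg26 yg33 zg25) (kg xg26 yg38 zg40) (kg xg8 yg54 zg39) (kg xg26 yg38 zg51) (kg xg26 yg38 zg38) (kg xg20 yg38 zg22) (kg xg8 yg54 zg40) (kg xg26 yg38 zg58) (kg xg9 yg12 zg10) (kg xg20 yg38 zg31) (kg xg14 yg39 zg3) (kg xg20 yg58 zg57) (kg xg24 yg0 zg20)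 (kg xg10 yg40 zg17) (kg xg8 yg54 zg43) (kg xg13 yg8 zg0) (kg xg19 yg19 zg18) (kg xg26 yg39 zg7) (kg xg24 yg12 zg4) (kg xg20 yg58 zg47) (kg xg23 yg45 zg56) (kg xg8 yg55 zg12) (kg xg26 yg38 zg18) (kg xg26 yg39 zg17) (kg xg19 yg44 zg50) (kg xg19 yg41 zg13) (kg xg8 yg55 zg23) (kg xg15 yg51 zg45) (kg xg15 yg51 zg46) (kg xg8 yg54 zg52) (kg xg19 yg34 zg0) (kg xg26 yg39 zg25) (kg xg8 yg54 zg61) (kg xg8 yg54 zg53) (kg xg26 yg33 zg30) (kg xg9 yg42 zg5) (kg xg9 yg42 zg3) (kg xg26 yg33 zg52) (kg xg20 yg57 zg43) (kg xg26 yg34 zg3) (kg xg26 yg39 zg33) (kg xg9 yg43 zg5) (kg xg8 yg55 zg25) (kg xg20 yg58 zg48) (kg xg9 yg42 zg9) (kg xg26 yg33 zg41) (kg xg9 yg42 zg10) (kg xg8 yg54 zg60) (kg xg17 yg49 zg24) (kg xg26 yg39 zg26) (kg xg26 yg33 zg37) (kg xg8 yg55 zg2) (kg xg8 yg55 zg0)) (@D3.rec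 (fun _ => Pt) (kg xg26 yg39 zg51) (kg xg15 yg51 zg44) (kg xg8 yg55 zg1) (kg xg9 yg43 zg56) (kg xg26 yg39 zg52) (kg xg26 yg33 zg43) (kg xg8 yg55 zg3) (kg xg19 yg19 zg15) (kg xg8 yg55 zg18) (kg xg20 yg58 zg21) (kg xg22 yg4 zg3) (kg xg16 yg37 zg28) (kg xg10 yg55 zg38) (kg xg8 yg55 zg7) (kg xg25 yg10 zg24) (kg xg9 yg0 zg29) (kg xg26 yg39 zg27) (kg xg26 yg33 zg28) (kg xg8 yg55 zg13) (kg xg8 yg57 zg19) (kg xg19 yg33 zg53) (kg xg26 yg35 zg30) (kg xg10 yg54 zg55) (kg xg8 yg55 zg14) (kg xg19 yg31 zg44) (kg xg26 yg38 zg22) (kg xg26 yg38 zg23) (kg xg20 yg38 zg18) (kg xg26 yg39 zg12) (kg xg19 yg14 zg11) (kg xg16 yg39 zg32) (kg xg26 yg40 zg8) (kg xg10 yg55 zg6) (kg xg21 yg36 zg41) (kg xg24 yg52 zg31) (kg xg24 yg27 zg35) (kg xg8 yg55 zg15) (kg xg20 yg38 zg47) (kg xg10 yg57 zg30)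 (kg xg8 yg55 zg21) (kg xg8 yg55 zg16) (kg xg26 yg2 zg7) (kg xg20 yg39 zg23) (kg xg11 yg54 zg22) (kg xg26 yg40 zg22) (kg xg22 yg4 zg4) (kg xg25 yg38 zg27) (kg xg26 yg40 zg28) (kg xg21 yg56 zg36) (kg xg8 yg55 zg19) (kg xg26 yg1 zg25) (kg xg21 yg56 zg35) (kg xg24 yg32 zg0) (kg xg26 yg40 zg16) (kg xg26 yg40 zg20) (kg xg8 yg55 zg20) (kg xg26 yg40 zg19) (kg xg11 yg54 zg15) (kg xg20 yg57 zg59) (kg xg8 yg55 zg22) (kg xg16 yg42 zg31) (kg xg10 yg29 zg37)) (@D3.rec (fun _ => Pt) (kg xg10 yg7 zg57) (kg xg26 yg34 zg9) (kg xg8 yg55 zg24) (kg xg26 yg40 zg47) (kg xg26 yg34 zg7) (kg xg26 yg33 zg29) (kg xg26 yg40 zg53) (kg xg26 yg40 zg57) (kg xg26 yg34 zg11) (kg xg8 yg55 zg26) (kg xg20 yg39 zg46) (kg xg20 yg13 zg48) (kg xg8 yg55 zg27) (kg xg25 yg45 zg4) (kg xg23 yg58 zg48) (kg xg8 yg55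 zg28) (kg xg17 yg16 zg42) (kg xg16 yg51 zg11) (kg xg26 yg5 zg30) (kg xg26 yg41 zg4) (kg xg26 yg40 zg61) (kg xg26 yg39 zg32) (kg xg15 yg47 zg41) (kg xg26 yg41 zg5) (kg xg17 yg48 zg49) (kg xg15 yg24 zg30) (kg xg8 yg55 zg32) (kg xg20 yg55 zg17) (kg xg20 yg57 zg26) (kg xg26 yg40 zg29) (kg xg22 yg24 zg61) (kg xg26 yg33 zg27) (kg xg20 yg57 zg1) (kg xg20 yg55 zg47) (kg xg8 yg55 zg35) (kg xg26 yg41 zg18) (kg xg19 yg24 zg11) (kg xg10 yg54 zg22) (kg xg19 yg14 zg21) (kg xg26 yg41 zg25) (kg xg25 yg10 zg20) (kg xg19 yg19 zg21) (kg xg25 yg10 zg10) (kg xg26 yg41 zg26) (kg xg16 yg38 zg16) (kg xg10 yg50 zg45) (kg xg8 yg55 zg42) (kg xg10 yg50 zg44) (kg xg15 yg15 zg42) (kg xg26 yg41 zg33) (kg xg10 yg50 zg57) (kg xg8 yg55 zg44) (kg xg10 yg50 zg56) (kg xg10 yg51 zg10) (kg xg10 yg50 zg52)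 (kg xg8 yg55 zg47) (kg xg10 yg50 zg51) (kg xg19 yg34 zg46) (kg xg15 yg37 zg9) (kg xg8 yg55 zg49) (kg xg10 yg51 zg0) (kg xg8 yg55 zg50)) (@D3.rec (fun _ => Pt) (kg xg10 yg50 zg61) (kg xg17 yg27 zg27) (kg xg10 yg51 zg7) (kg xg8 yg55 zg52) (kg xg10 yg51 zg6) (kg xg26 yg41 zg55) (kg xg26 yg41 zg53) (kg xg11 yg1 zg44) (kg xg26 yg41 zg60) (kg xg25 yg8 zg32) (kg xg10 yg43 zg39) (kg xg10 yg51 zg21) (kg xg10 yg51 zg18) (kg xg8 yg55 zg57) (kg xg22 yg59 zg52) (kg xg13 yg8 zg22) (kg xg26 yg42 zg5) (kg xg26 yg42 zg6) (kg xg14 yg47 zg43) (kg xg16 yg49 zg10) (kg xg13 yg43 zg59) (kg xg8 yg56 zg1) (kg xg23 yg56 zg4) (kg xg23 yg7 zg51) (kg xg15 yg32 zg51) (kg xg26 yg41 zg42) (kg xg15 yg57 zg1) (kg xg26 yg42 zg15) (kg xg16 yg44 zg54) (kg xg10 yg51 zg12) (kg xg19 yg33 zg52) (kg xg8 yg56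 zg58) (kg xg12 yg54 zg10) (kg xg21 yg0 zg12) (kg xg8 yg56 zg9) (kg xg20 yg34 zg27) (kg xg8 yg56 zg11) (kg xg26 yg42 zg20) (kg xg8 yg56 zg15) (kg xg8 yg56 zg12) (kg xg25 yg15 zg14) (kg xg19 yg46 zg35) (kg xg26 yg42 zg28) (kg xg10 yg52 zg31) (kg xg17 yg54 zg58) (kg xg10 yg52 zg29) (kg xg10 yg52 zg20) (kg xg10 yg48 zg60) (kg xg15 yg44 zg25) (kg xg15 yg5 zg17) (kg xg19 yg46 zg37) (kg xg22 yg4 zg50) (kg xg15 yg3 zg41) (kg xg16 yg48 zg41) (kg xg11 yg22 zg14) (kg xg11 yg1 zg5) (kg xg11 yg28 zg15) (kg xg11 yg22 zg41) (kg xg10 yg52 zg32) (kg xg19 yg47 zg0) (kg xg10 yg31 zg9) (kg xg19 yg2 zg61)) (@D3.rec (fun _ => Pt) (kg xg10 yg19 zg24) (kg xg8 yg56 zg23) (kg xg10 yg19 zg23) (kg xg25 yg32 zg34) (kg xg26 yg42 zg45) (kg xg16 yg2 zg9) (kg xg25 yg52 zg23) (kg xg10 yg46 zg19) (kg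 xg8 yg56 zg26) (kg xg10 yg46 zg18) (kg xg19 yg28 zg0) (kg xg26 yg42 zg54) (kg xg26 yg42 zg57) (kg xg8 yg56 zg28) (kg xg21 yg58 zg52) (kg xg10 yg46 zg48) (kg xg8 yg56 zg29) (kg xg10 yg46 zg47) (kg xg26 yg43 zg7) (kg xg26 yg43 zg10) (kg xg10 yg46 zg56) (kg xg8 yg56 zg31) (kg xg10 yg46 zg55) (kg xg26 yg43 zg14) (kg xg19 yg25 zg37) (kg xg10 yg46 zg30) (kg xg13 yg45 zg42) (kg xg11 yg5 zg35) (kg xg20 yg59 zg48) (kg xg26 yg43 zg22) (kg xg19 yg57 zg42) (kg xg10 yg47 zg10) (kg xg20 yg29 zg2) (kg xg10 yg47 zg7) (kg xg8 yg56 zg36) (kg xg26 yg43 zg32) (kg xg14 yg26 zg21) (kg xg14 yg17 zg46) (kg xg8 yg56 zg37) (kg xg21 yg39 zg52) (kg xg18 yg54 zg11) (kg xg20 yg27 zg20) (kg xg14 yg28 zg58) (kg xg18 yg54 zg13) (kg xg8 yg56 zg43) (kg xg17 yg34 zg37) (kg xg8 yg56 zg47) (kg xg8 yg56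 zg44) (kg xg25 yg13 zg51) (kg xg11 yg0 zg30) (kg xg22 yg5 zg17) (kg xg21 yg35 zg60) (kg xg10 yg49 zg27) (kg xg10 yg48 zg38) (kg xg16 yg43 zg30) (kg xg26 yg43 zg50) (kg xg15 yg51 zg31) (kg xg19 yg42 zg58) (kg xg24 yg47 zg28) (kg xg8 yg56 zg48) (kg xg16 yg49 zg36) (kg xg10 yg48 zg20)) (@D3.rec (fun _ => Pt) (kg xg10 yg49 zg47) (kg xg11 yg27 zg39) (kg xg20 yg28 zg16) (kg xg12 yg10 zg5) (kg xg17 yg0 zg24) (kg xg11 yg19 zg18) (kg xg16 yg56 zg35) (kg xg9 yg5 zg2) (kg xg10 yg49 zg39) (kg xg8 yg56 zg53) (kg xg19 yg43 zg33) (kg xg8 yg56 zg54) (kg xg10 yg52 zg57) (kg xg20 yg52 zg52) (kg xg26 yg44 zg10) (kg xg26 yg43 zg49) (kg xg22 yg5 zg18) (kg xg20 yg5 zg27) (kg xg17 yg58 zg33) (kg xg10 yg38 zg18) (kg xg10 yg53 zg15) (kg xg17 yg42 zg19) (kg xg12 yg54 zg18) (kg xg8 yg56 zg61)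 (kg xg10 yg56 zg6) (kg xg19 yg45 zg3) (kg xg26 yg44 zg16) (kg xg10 yg56 zg10) (kg xg8 yg57 zg1) (kg xg10 yg56 zg9) (kg xg26 yg44 zg18) (kg xg8 yg59 zg9) (kg xg21 yg3 zg14) (kg xg10 yg56 zg19) (kg xg20 yg14 zg60) (kg xg8 yg57 zg6) (kg xg26 yg44 zg23) (kg xg20 yg50 zg7) (kg xg23 yg1 zg33) (kg xg8 yg57 zg7) (kg xg15 yg41 zg6) (kg xg26 yg44 zg29) (kg xg19 yg20 zg3) (kg xg25 yg36 zg43) (kg xg15 yg19 zg31) (kg xg26 yg4 zg60) (kg xg18 yg49 zg29) (kg xg15 yg19 zg27) (kg xg16 yg36 zg53) (kg xg15 yg19 zg26) (kg xg25 yg5 zg14) (kg xg26 yg0 zg11) (kg xg25 yg30 zg52) (kg xg9 yg40 zg44) (kg xg18 yg58 zg25) (kg xg18 yg58 zg16) (kg xg18 yg51 zg11) (kg xg26 yg44 zg39) (kg xg18 yg54 zg36) (kg xg25 yg23 zg44) (kg xg8 yg57 zg20) (kg xg18 yg2 zg56)) (@D3.rec (fun _ => Pt) (kg xg26 yg42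 zg24) (kg xg24 yg16 zg2) (kg xg20 yg49 zg12) (kg xg25 yg36 zg29) (kg xg10 yg57 zg12) (kg xg14 yg8 zg4) (kg xg8 yg57 zg31) (kg xg19 yg25 zg2) (kg xg8 yg57 zg29) (kg xg10 yg57 zg2) (kg xg8 yg57 zg26) (kg xg22 yg59 zg47) (kg xg20 yg4 zg47) (kg xg26 yg1 zg55) (kg xg26 yg44 zg49) (kg xg10 yg41 zg22) (kg xg26 yg44 zg46) (kg xg18 yg1 zg29) (kg xg14 yg50 zg38) (kg xg14 yg50 zg11) (kg xg8 yg57 zg32) (kg xg15 yg2 zg51) (kg xg20 yg54 zg34) (kg xg15 yg3 zg34) (kg xg8 yg58 zg56) (kg xg17 yg7 zg2) (kg xg22 yg28 zg55) (kg xg15 yg51 zg51) (kg xg9 yg42 zg26) (kg xg25 yg47 zg46) (kg xg26 yg44 zg58) (kg xg11 yg2 zg14) (kg xg10 yg53 zg51) (kg xg21 yg36 zg44) (kg xg19 yg33 zg35) (kg xg22 yg53 zg3) (kg xg21 yg36 zg39) (kg xg8 yg57 zg52) (kg xg26 yg45 zg5) (kg xg24 yg8 zg8) (kg xg8 yg57 zg53)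 (kg xg14 yg21 zg56) (kg xg25 yg51 zg27) (kg xg25 yg47 zg57) (kg xg10 yg43 zg7) (kg xg10 yg26 zg9) (kg xg8 yg57 zg56) (kg xg25 yg24 zg60) (kg xg19 yg24 zg4) (kg xg8 yg57 zg60) (kg xg26 yg45 zg15) (kg xg26 yg45 zg18) (kg xg9 yg24 zg18) (kg xg26 yg42 zg41) (kg xg26 yg45 zg19) (kg xg15 yg54 zg16) (kg xg26 yg43 zg41) (kg xg26 yg40 zg40) (kg xg26 yg43 zg42) (kg xg26 yg45 zg28) (kg xg8 yg58 zg3) (kg xg12 yg49 zg50)) (@D3.rec (fun _ => Pt) (kg xg10 yg55 zg10) (kg xg10 yg54 zg59) (kg xg8 yg58 zg6) (kg xg26 yg44 zg2) (kg xg11 yg31 zg25) (kg xg19 yg51 zg37) (kg xg26 yg3 zg0) (kg xg20 yg37 zg61) (kg xg19 yg51 zg26) (kg xg9 yg6 zg61) (kg xg21 yg1 zg39) (kg xg10 yg41 zg31) (kg xg17 yg32 zg48) (kg xg15 yg15 zg46) (kg xg21 yg35 zg58) (kg xg10 yg45 zg4) (kg xg10 yg54 zg33) (kg xg11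 yg0 zg58) (kg xg12 yg6 zg49) (kg xg8 yg59 zg36) (kg xg10 yg59 zg19) (kg xg20 yg17 zg46) (kg xg19 yg59 zg61) (kg xg10 yg59 zg3) (kg xg8 yg58 zg23) (kg xg19 yg46 zg56) (kg xg11 yg17 zg45) (kg xg21 yg37 zg26) (kg xg10 yg59 zg41) (kg xg20 yg15 zg25) (kg xg18 yg14 zg14) (kg xg11 yg46 zg59) (kg xg8 yg58 zg26) (kg xg20 yg4 zg60) (kg xg11 yg0 zg20) (kg xg8 yg59 zg3) (kg xg11 yg0 zg24) (kg xg8 yg59 zg6) (kg xg8 yg58 zg38) (kg xg8 yg58 zg36) (kg xg18 yg2 zg52) (kg xg26 yg45 zg54) (kg xg17 yg56 zg30) (kg xg11 yg1 zg48) (kg xg18 yg2 zg46) (kg xg26 yg0 zg52) (kg xg26 yg45 zg60) (kg xg11 yg19 zg20) (kg xg9 yg4 zg56) (kg xg8 yg58 zg40) (kg xg10 yg58 zg0) (kg xg10 yg58 zg13) (kg xg14 yg43 zg39) (kg xg11 yg3 zg47) (kg xg11 yg2 zg1) (kg xg17 yg4 zg1) (kg xg8 yg58 zg47) (kg xg10 yg57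 zg51) (kg xg8 yg58 zg48) (kg xg22 yg2 zg40) (kg xg11 yg0 zg37) (kg xg26 yg2 zg34)) (@D3.rec (fun _ => Pt) (kg xg19 yg37 zg7) (kg xg26 yg38 zg11) (kg xg26 yg46 zg7) (kg xg10 yg58 zg11) (kg xg10 yg58 zg39) (kg xg26 yg40 zg33) (kg xg21 yg1 zg40) (kg xg26 yg40 zg31) (kg xg8 yg58 zg61) (kg xg24 yg27 zg40) (kg xg25 yg10 zg18) (kg xg16 yg7 zg12) (kg xg21 yg38 zg19) (kg xg8 yg59 zg16) (kg xg8 yg59 zg2) (kg xg19 yg43 zg23) (kg xg19 yg59 zg4) (kg xg16 yg53 zg59) (kg xg22 yg4 zg6) (kg xg10 yg59 zg12) (kg xg10 yg59 zg22) (kg xg26 yg39 zg18) (kg xg10 yg52 zg25) (kg xg19 yg46 zg47) (kg xg19 yg44 zg0) (kg xg10 yg52 zg27) (kg xg11 yg28 zg13) (kg xg11 yg42 zg13) (kg xg8 yg59 zg12) (kg xg26 yg38 zg44) (kg xg20 yg35 zg23) (kg xg8 yg59 zg15) (kg xg26 yg46 zg23) (kg xg26 yg46 zg25) (kg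 xg20 yg24 zg1) (kg xg8 yg59 zg17) (kg xg9 yg13 zg6) (kg xg9 yg31 zg37) (kg xg11 yg18 zg8) (kg xg26 yg46 zg30) (kg xg8 yg59 zg23) (kg xg16 yg43 zg56) (kg xg17 yg35 zg36) (kg xg23 yg2 zg53) (kg xg11 yg1 zg36) (kg xg21 yg35 zg39) (kg xg17 yg56 zg25) (kg xg11 yg15 zg27) (kg xg10 yg57 zg46) (kg xg20 yg51 zg10) (kg xg8 yg59 zg28) (kg xg25 yg31 zg7) (kg xg26 yg46 zg31) (kg xg21 yg1 zg19) (kg xg17 yg32 zg49) (kg xg16 yg59 zg46) (kg xg21 yg43 zg52) (kg xg11 yg1 zg34) (kg xg8 yg59 zg34) (kg xg11 yg1 zg57) (kg xg20 yg25 zg2) (kg xg20 yg25 zg52)) (@D3.rec (fun _ => Pt) (kg xg11 yg1 zg53) (kg xg20 yg25 zg45) (kg xg11 yg16 zg27) (kg xg14 yg4 zg26) (kg xg10 yg57 zg58) (kg xg20 yg29 zg56) (kg xg10 yg57 zg43) (kg xg17 yg32 zg46) (kg xg26 yg46 zg40) (kg xg17 yg22 zg12) (kg xg25 yg24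 zg17) (kg xg21 yg3 zg13) (kg xg10 yg53 zg46) (kg xg24 yg26 zg35) (kg xg19 yg28 zg40) (kg xg11 yg32 zg3) (kg xg8 yg59 zg57) (kg xg17 yg19 zg46) (kg xg26 yg46 zg46) (kg xg9 yg0 zg0) (kg xg19 yg36 zg15) (kg xg19 yg49 zg9) (kg xg12 yg49 zg40) (kg xg11 yg10 zg9) (kg xg11 yg10 zg7) (kg xg11 yg9 zg61) (kg xg10 yg48 zg22) (kg xg10 yg48 zg42) (kg xg21 yg36 zg53) (kg xg26 yg46 zg54) (kg xg9 yg0 zg1) (kg xg21 yg3 zg8) (kg xg10 yg48 zg34) (kg xg19 yg11 zg12) (kg xg15 yg25 zg61) (kg xg11 yg7 zg28) (kg xg19 yg33 zg50) (kg xg16 yg28 zg17) (kg xg12 yg40 zg51) (kg xg11 yg19 zg40) (kg xg26 yg4 zg2) (kg xg9 yg58 zg11) (kg xg20 yg21 zg56) (kg xg26 yg47 zg0) (kg xg9 yg46 zg37) (kg xg14 yg2 zg16) (kg xg11 yg19 zg5) (kg xg15 yg30 zg46) (kg xg10 yg52 zg50) (kg xg14 yg8 zg7) (kg xg9 yg46 zg47)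 (kg xg9 yg51 zg48) (kg xg9 yg51 zg47) (kg xg19 yg55 zg35) (kg xg26 yg47 zg6) (kg xg19 yg53 zg61) (kg xg11 yg2 zg61) (kg xg9 yg0 zg32) (kg xg11 yg2 zg60) (kg xg19 yg53 zg55) (kg xg26 yg47 zg9) (kg xg26 yg6 zg58)) (@D3.rec (fun _ => Pt) (kg xg26 yg47 zg14) (kg xg25 yg28 zg61) (kg xg9 yg0 zg35) (kg xg19 yg36 zg8) (kg xg11 yg3 zg17) (kg xg9 yg0 zg36) (kg xg11 yg3 zg16) (kg xg18 yg3 zg7) (kg xg26 yg47 zg24) (kg xg26 yg47 zg28) (kg xg11 yg3 zg6) (kg xg9 yg0 zg38) (kg xg26 yg8 zg8) (kg xg11 yg3 zg4) (kg xg9 yg0 zg46) (kg xg9 yg36 zg33) (kg xg11 yg3 zg27) (kg xg9 yg0 zg41) (kg xg11 yg3 zg26) (kg xg26 yg23 zg10) (kg xg26 yg47 zg42) (kg xg26 yg47 zg44) (kg xg26 yg47 zg48) (kg xg11 yg3 zg36) (kg xg9 yg0 zg44) (kg xg11 yg3 zg35) (kg xg26 yg9 zg9) (kg xg24 yg21 zg17) (kg xg26 yg47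 zg57) (kg xg25 yg23 zg18) (kg xg11 yg3 zg10) (kg xg24 yg24 zg19) (kg xg21 yg2 zg16) (kg xg19 yg36 zg55) (kg xg25 yg40 zg38) (kg xg10 yg57 zg60) (kg xg20 yg31 zg59) (kg xg14 yg51 zg7) (kg xg9 yg0 zg51) (kg xg12 yg3 zg30) (kg xg26 yg25 zg13) (kg xg13 yg59 zg42) (kg xg24 yg34 zg1) (kg xg26 yg1 zg36) (kg xg18 yg17 zg59) (kg xg24 yg41 zg34) (kg xg9 yg0 zg55) (kg xg26 yg14 zg21) (kg xg26 yg48 zg17) (kg xg18 yg27 zg43) (kg xg25 yg41 zg36) (kg xg24 yg43 zg18) (kg xg9 yg0 zg61) (kg xg12 yg55 zg29) (kg xg9 yg1 zg3) (kg xg9 yg1 zg0) (kg xg19 yg28 zg50) (kg xg16 yg10 zg42) (kg xg26 yg48 zg25) (kg xg26 yg46 zg38) (kg xg19 yg14 zg28) (kg xg19 yg47 zg30)) (@D3.rec (fun _ => Pt) (kg xg26 yg48 zg30) (kg xg9 yg1 zg4) (kg xg10 yg48 zg14) (kg xg9 yg1 zg9) (kg xg9 yg1 zg7) (kg xg11 yg50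 zg36) (kg xg25 yg41 zg33) (kg xg26 yg37 zg33) (kg xg12 yg54 zg58) (kg xg26 yg2 zg12) (kg xg16 yg39 zg2) (kg xg15 yg48 zg31) (kg xg9 yg41 zg60) (kg xg10 yg37 zg40) (kg xg9 yg42 zg1) (kg xg25 yg16 zg57) (kg xg9 yg1 zg17) (kg xg26 yg48 zg37) (kg xg11 yg47 zg17) (kg xg24 yg53 zg8) (kg xg14 yg59 zg39) (kg xg20 yg0 zg29) (kg xg20 yg14 zg47) (kg xg26 yg48 zg41) (kg xg12 yg9 zg6) (kg xg20 yg0 zg32) (kg xg26 yg48 zg45) (kg xg14 yg46 zg33) (kg xg11 yg27 zg55) (kg xg9 yg45 zg21) (kg xg20 yg27 zg49) (kg xg15 yg30 zg48) (kg xg14 yg46 zg36) (kg xg11 yg29 zg33) (kg xg26 yg32 zg57) (kg xg16 yg30 zg58) (kg xg9 yg1 zg50) (kg xg9 yg1 zg42) (kg xg9 yg1 zg48) (kg xg15 yg0 zg19) (kg xg16 yg31 zg5) (kg xg16 yg30 zg25) (kg xg9 yg1 zg46) (kg xg24 yg53 zg5) (kg xg20 yg13 zg34) (kg xg18 yg48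 zg36) (kg xg20 yg0 zg33) (kg xg11 yg12 zg48) (kg xg9 yg1 zg49) (kg xg20 yg24 zg25) (kg xg9 yg45 zg43) (kg xg9 yg45 zg45) (kg xg14 yg8 zg42) (kg xg12 yg10 zg54) (kg xg26 yg48 zg60) (kg xg9 yg1 zg58) (kg xg26 yg48 zg61) (kg xg20 yg21 zg38) (kg xg22 yg17 zg58) (kg xg11 yg15 zg18) (kg xg24 yg28 zg3) (kg xg20 yg21 zg41)) (@D3.rec (fun _ => Pt) (kg xg26 yg49 zg4) (kg xg26 yg49 zg6) (kg xg11 yg16 zg4) (kg xg17 yg24 zg18) (kg xg9 yg2 zg12) (kg xg9 yg2 zg2) (kg xg9 yg2 zg10) (kg xg18 yg48 zg57) (kg xg20 yg10 zg5) (kg xg26 yg49 zg12) (kg xg9 yg2 zg4) (kg xg10 yg2 zg61) (kg xg11 yg14 zg36) (kg xg26 yg49 zg16) (kg xg11 yg50 zg20) (kg xg11 yg15 zg21) (kg xg9 yg2 zg7) (kg xg26 yg17 zg34) (kg xg26 yg49 zg19) (kg xg9 yg2 zg8) (kg xg26 yg49 zg24) (kg xg17 yg24 zg23) (kg xg26 yg49 zg27)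 (kg xg20 yg20 zg4) (kg xg20 yg21 zg42) (kg xg9 yg4 zg18) (kg xg19 yg26 zg39) (kg xg9 yg2 zg11) (kg xg9 yg2 zg16) (kg xg9 yg3 zg13) (kg xg26 yg49 zg31) (kg xg13 yg58 zg51) (kg xg17 yg9 zg53) (kg xg13 yg22 zg0) (kg xg11 yg22 zg24) (kg xg26 yg49 zg34) (kg xg20 yg15 zg52) (kg xg9 yg2 zg22) (kg xg16 yg22 zg24) (kg xg26 yg32 zg24) (kg xg24 yg53 zg4) (kg xg24 yg30 zg30) (kg xg19 yg26 zg41) (kg xg14 yg59 zg3) (kg xg26 yg49 zg37) (kg xg26 yg49 zg39) (kg xg9 yg2 zg29) (kg xg11 yg22 zg51) (kg xg9 yg5 zg18) (kg xg11 yg32 zg11) (kg xg11 yg13 zg34) (kg xg26 yg22 zg24) (kg xg11 yg14 zg2) (kg xg12 yg46 zg21) (kg xg9 yg2 zg49) (kg xg9 yg2 zg33) (kg xg9 yg2 zg47) (kg xg20 yg7 zg24) (kg xg16 yg23 zg5) (kg xg20 yg7 zg21) (kg xg26 yg49 zg47) (kg xg11 yg13 zg13)) (@D3.rec (fun _ => Pt) (kg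 xg9 yg2 zg37) (kg xg26 yg49 zg49) (kg xg26 yg49 zg36) (kg xg26 yg49 zg52) (kg xg13 yg30 zg35) (kg xg9 yg2 zg38) (kg xg13 yg30 zg33) (kg xg9 yg2 zg39) (kg xg11 yg13 zg56) (kg xg22 yg7 zg61) (kg xg20 yg7 zg28) (kg xg24 yg47 zg22) (kg xg16 yg33 zg22) (kg xg21 yg15 zg8) (kg xg11 yg13 zg16) (kg xg9 yg2 zg44) (kg xg24 yg53 zg26) (kg xg9 yg2 zg45) (kg xg16 yg34 zg59) (kg xg11 yg17 zg26) (kg xg16 yg32 zg2) (kg xg11 yg14 zg22) (kg xg26 yg49 zg54) (kg xg10 yg58 zg37) (kg xg21 yg15 zg50) (kg xg9 yg2 zg48) (kg xg26 yg49 zg59) (kg xg21 yg13 zg11) (kg xg11 yg30 zg28) (kg xg9 yg3 zg21) (kg xg9 yg3 zg23) (kg xg19 yg18 zg9) (kg xg19 yg59 zg55) (kg xg11 yg17 zg16) (kg xg18 yg48 zg22) (kg xg9 yg3 zg52) (kg xg17 yg11 zg27) (kg xg26 yg50 zg2) (kg xg9 yg4 zg19) (kg xg9 yg2 zg59) (kg xg9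 yg4 zg21) (kg xg9 yg4 zg11) (kg xg17 yg15 zg42) (kg xg16 yg21 zg15) (kg xg26 yg39 zg61) (kg xg15 yg4 zg20) (kg xg14 yg50 zg2) (kg xg11 yg14 zg16) (kg xg9 yg3 zg1) (kg xg11 yg14 zg10) (kg xg10 yg41 zg29) (kg xg12 yg3 zg59) (kg xg11 yg0 zg45) (kg xg19 yg59 zg52) (kg xg21 yg9 zg16) (kg xg9 yg3 zg10) (kg xg16 yg48 zg17) (kg xg24 yg0 zg10) (kg xg13 yg17 zg32) (kg xg20 yg52 zg29) (kg xg9 yg3 zg12) (kg xg20 yg6 zg36)) (@D3.rec (fun _ => Pt) (kg xg10 yg21 zg47) (kg xg13 yg17 zg2) (kg xg11 yg22 zg34) (kg xg18 yg10 zg1) (kg xg9 yg3 zg18) (kg xg20 yg15 zg51) (kg xg9 yg3 zg19) (kg xg24 yg39 zg55) (kg xg12 yg47 zg30) (kg xg9 yg3 zg20) (kg xg10 yg21 zg51) (kg xg19 yg4 zg32) (kg xg10 yg58 zg17) (kg xg9 yg11 zg3) (kg xg9 yg3 zg22) (kg xg26 yg50 zg28) (kg xg11 yg16 zg26) (kg xg12 yg10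 zg31) (kg xg10 yg58 zg29) (kg xg11 yg18 zg6) (kg xg9 yg3 zg29) (kg xg20 yg40 zg49) (kg xg10 yg33 zg15) (kg xg26 yg50 zg34) (kg xg9 yg3 zg27) (kg xg16 yg56 zg15) (kg xg10 yg38 zg20) (kg xg22 yg37 zg8) (kg xg11 yg6 zg20) (kg xg11 yg21 zg6) (kg xg19 yg17 zg49) (kg xg12 yg23 zg36) (kg xg17 yg19 zg45) (kg xg11 yg0 zg52) (kg xg9 yg3 zg33) (kg xg26 yg50 zg0) (kg xg25 yg52 zg45) (kg xg9 yg4 zg9) (kg xg9 yg3 zg34) (kg xg20 yg24 zg7) (kg xg9 yg4 zg7) (kg xg26 yg50 zg49) (kg xg11 yg22 zg19) (kg xg11 yg13 zg6) (kg xg20 yg1 zg9) (kg xg20 yg20 zg23) (kg xg20 yg1 zg27) (kg xg11 yg33 zg35) (kg xg26 yg50 zg6) (kg xg11 yg1 zg2) (kg xg9 yg4 zg12) (kg xg20 yg40 zg45) (kg xg9 yg3 zg42) (kg xg16 yg56 zg14) (kg xg26 yg3 zg14) (kg xg9 yg3 zg43) (kg xg17 yg19 zg5) (kg xg9 yg3 zg44) (kg xg26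 yg51 zg3) (kg xg20 yg1 zg33) (kg xg21 yg37 zg46) (kg xg9 yg3 zg56)) (@D3.rec (fun _ => Pt) (kg xg18 yg21 zg24) (kg xg20 yg15 zg47) (kg xg9 yg3 zg48) (kg xg26 yg51 zg10) (kg xg9 yg5 zg58) (kg xg9 yg3 zg60) (kg xg19 yg17 zg52) (kg xg23 yg4 zg22) (kg xg19 yg7 zg10) (kg xg11 yg21 zg18) (kg xg21 yg37 zg47) (kg xg26 yg51 zg16) (kg xg26 yg50 zg36) (kg xg11 yg34 zg26) (kg xg19 yg51 zg13) (kg xg21 yg16 zg37) (kg xg19 yg15 zg58) (kg xg11 yg1 zg10) (kg xg26 yg51 zg27) (kg xg11 yg0 zg53) (kg xg9 yg4 zg2) (kg xg19 yg27 zg28) (kg xg26 yg51 zg30) (kg xg9 yg4 zg3) (kg xg26 yg51 zg38) (kg xg26 yg51 zg28) (kg xg9 yg33 zg19) (kg xg26 yg51 zg42) (kg xg21 yg9 zg27) (kg xg11 yg7 zg40) (kg xg26 yg50 zg48) (kg xg9 yg4 zg8) (kg xg26 yg51 zg49) (kg xg14 yg40 zg46) (kg xg26 yg50 zg3) (kg xg26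 yg50 zg5) (kg xg9 yg4 zg10) (kg xg26 yg51 zg59) (kg xg21 yg9 zg32) (kg xg15 yg4 zg23) (kg xg19 yg27 zg47) (kg xg9 yg4 zg16) (kg xg22 yg40 zg47) (kg xg26 yg52 zg7) (kg xg21 yg9 zg28) (kg xg9 yg4 zg17) (kg xg26 yg52 zg11) (kg xg26 yg52 zg8) (kg xg26 yg52 zg12) (kg xg19 yg26 zg55) (kg xg26 yg50 zg55) (kg xg10 yg48 zg6) (kg xg26 yg50 zg37) (kg xg26 yg50 zg32) (kg xg21 yg9 zg26) (kg xg11 yg39 zg25) (kg xg26 yg52 zg19) (kg xg11 yg54 zg5) (kg xg9 yg9 zg18) (kg xg9 yg4 zg24) (kg xg24 yg53 zg25) (kg xg26 yg52 zg28)) (@D3.rec (fun _ => Pt) (kg xg11 yg21 zg21) (kg xg20 yg1 zg28) (kg xg9 yg4 zg33) (kg xg9 yg4 zg26) (kg xg9 yg4 zg32) (kg xg9 yg16 zg2) (kg xg22 yg32 zg10) (kg xg24 yg31 zg52) (kg xg9 yg5 zg0) (kg xg20 yg11 zg4) (kg xg26 yg52 zg39) (kg xg17 yg22 zg36) (kg xg9 yg4 zg30)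 (kg xg26 yg52 zg44) (kg xg16 yg54 zg25) (kg xg16 yg54 zg53) (kg xg18 yg21 zg29) (kg xg11 yg19 zg8) (kg xg11 yg57 zg5) (kg xg11 yg18 zg25) (kg xg9 yg5 zg17) (kg xg11 yg20 zg52) (kg xg11 yg22 zg2) (kg xg17 yg2 zg39) (kg xg11 yg22 zg38) (kg xg20 yg8 zg15) (kg xg11 yg23 zg56) (kg xg11 yg20 zg7) (kg xg10 yg4 zg42) (kg xg9 yg4 zg47) (kg xg10 yg59 zg39) (kg xg9 yg4 zg50) (kg xg9 yg4 zg48) (kg xg23 yg35 zg22) (kg xg19 yg51 zg18) (kg xg16 yg45 zg3) (kg xg19 yg51 zg20) (kg xg9 yg4 zg55) (kg xg11 yg33 zg44) (kg xg9 yg4 zg53) (kg xg21 yg38 zg22) (kg xg22 yg46 zg41) (kg xg20 yg25 zg44) (kg xg20 yg25 zg54) (kg xg26 yg52 zg53) (kg xg9 yg4 zg54) (kg xg12 yg56 zg56) (kg xg11 yg21 zg59) (kg xg11 yg21 zg58) (kg xg26 yg53 zg2) (kg xg14 yg10 zg55) (kg xg11 yg15 zg25) (kg xg10 yg48 zg10)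 (kg xg18 yg57 zg0) (kg xg24 yg53 zg16) (kg xg11 yg22 zg25) (kg xg11 yg22 zg30) (kg xg11 yg22 zg22) (kg xg26 yg53 zg7) (kg xg18 yg44 zg30) (kg xg20 yg52 zg16) (kg xg11 yg22 zg36)) (@D3.rec (fun _ => Pt) (kg xg11 yg22 zg35) (kg xg11 yg27 zg35) (kg xg22 yg42 zg40) (kg xg11 yg20 zg50) (kg xg21 yg32 zg46) (kg xg23 yg3 zg26) (kg xg24 yg32 zg44) (kg xg9 yg8 zg46) (kg xg18 yg43 zg35) (kg xg9 yg5 zg11) (kg xg20 yg7 zg58) (kg xg9 yg5 zg12) (kg xg10 yg52 zg42) (kg xg26 yg52 zg34) (kg xg26 yg52 zg33) (kg xg19 yg57 zg41) (kg xg11 yg50 zg51) (kg xg11 yg20 zg48) (kg xg15 yg0 zg11) (kg xg21 yg13 zg12) (kg xg12 yg51 zg13) (kg xg12 yg55 zg42) (kg xg11 yg13 zg1) (kg xg9 yg51 zg19) (kg xg11 yg38 zg54) (kg xg13 yg1 zg34) (kg xg9 yg5 zg30) (kg xg11 yg19 zg43) (kg xg20 yg52 zg46) (kg xg19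 yg47 zg2) (kg xg11 yg27 zg26) (kg xg20 yg51 zg5) (kg xg10 yg49 zg35) (kg xg9 yg5 zg42) (kg xg21 yg32 zg7) (kg xg9 yg5 zg46) (kg xg11 yg25 zg36) (kg xg14 yg4 zg42) (kg xg11 yg25 zg34) (kg xg11 yg1 zg33) (kg xg25 yg40 zg27) (kg xg9 yg5 zg57) (kg xg14 yg13 zg54) (kg xg12 yg57 zg2) (kg xg9 yg22 zg47) (kg xg10 yg37 zg0) (kg xg17 yg19 zg4) (kg xg21 yg15 zg44) (kg xg13 yg2 zg16) (kg xg10 yg39 zg0) (kg xg9 yg6 zg19) (kg xg17 yg59 zg57) (kg xg19 yg24 zg59) (kg xg20 yg54 zg23) (kg xg12 yg48 zg59) (kg xg11 yg5 zg32) (kg xg9 yg6 zg13) (kg xg9 yg6 zg40) (kg xg20 yg42 zg14) (kg xg9 yg22 zg17) (kg xg9 yg6 zg26) (kg xg9 yg6 zg16)) (@D3.rec (fun _ => Pt) (kg xg26 yg53 zg29) (kg xg9 yg6 zg24) (kg xg19 yg23 zg13) (kg xg9 yg6 zg38) (kg xg26 yg53 zg32) (kg xg9 yg6 zg36) (kg xg9 yg6 zg50)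 (kg xg9 yg6 zg21) (kg xg26 yg53 zg39) (kg xg20 yg26 zg34) (kg xg17 yg26 zg56) (kg xg11 yg30 zg3) (kg xg14 yg12 zg56) (kg xg22 yg6 zg43) (kg xg20 yg23 zg11) (kg xg17 yg27 zg0) (kg xg17 yg52 zg25) (kg xg26 yg53 zg31) (kg xg9 yg6 zg25) (kg xg26 yg53 zg50) (kg xg26 yg53 zg21) (kg xg20 yg22 zg35) (kg xg26 yg53 zg57) (kg xg20 yg23 zg5) (kg xg26 yg54 zg0) (kg xg24 yg22 zg5) (kg xg26 yg51 zg43) (kg xg14 yg11 zg39) (kg xg26 yg53 zg58) (kg xg19 yg13 zg9) (kg xg26 yg54 zg1) (kg xg9 yg17 zg38) (kg xg19 yg24 zg26) (kg xg20 yg42 zg5) (kg xg11 yg5 zg25) (kg xg20 yg22 zg52) (kg xg20 yg41 zg40) (kg xg26 yg53 zg36) (kg xg9 yg6 zg37) (kg xg26 yg54 zg17) (kg xg26 yg53 zg33) (kg xg11 yg51 zg47) (kg xg9 yg6 zg39) (kg xg26 yg54 zg23) (kg xg24 yg33 zg22) (kg xg20 yg41 zg43) (kg xg25 yg23 zg34)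 (kg xg16 yg45 zg15) (kg xg26 yg35 zg46) (kg xg20 yg26 zg39) (kg xg20 yg4 zg61) (kg xg24 yg32 zg21) (kg xg20 yg26 zg36) (kg xg22 yg21 zg34) (kg xg18 yg2 zg20) (kg xg12 yg57 zg50) (kg xg26 yg54 zg36) (kg xg20 yg1 zg54) (kg xg11 yg51 zg44) (kg xg9 yg6 zg49) (kg xg26 yg54 zg44) (kg xg20 yg26 zg44)) (@D3.rec (fun _ => Pt) (kg xg26 yg54 zg47) (kg xg11 yg51 zg48) (kg xg9 yg6 zg51) (kg xg9 yg48 zg39) (kg xg20 yg49 zg47) (kg xg9 yg48 zg44) (kg xg26 yg46 zg43) (kg xg11 yg43 zg10) (kg xg9 yg8 zg9) (kg xg20 yg20 zg34) (kg xg10 yg44 zg17) (kg xg11 yg47 zg47) (kg xg9 yg10 zg54) (kg xg26 yg54 zg57) (kg xg11 yg51 zg7) (kg xg19 yg47 zg46) (kg xg9 yg10 zg50) (kg xg9 yg7 zg4) (kg xg11 yg32 zg25) (kg xg9 yg7 zg6) (kg xg25 yg14 zg25) (kg xg24 yg36 zg30) (kg xg11 yg42 zg57) (kg xg11 yg36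 zg35) (kg xg11 yg36 zg33) (kg xg9 yg31 zg29) (kg xg9 yg7 zg10) (kg xg16 yg7 zg13) (kg xg18 yg25 zg45) (kg xg9 yg7 zg34) (kg xg9 yg15 zg7) (kg xg9 yg7 zg22) (kg xg12 yg29 zg5) (kg xg16 yg15 zg29) (kg xg9 yg7 zg47) (kg xg16 yg48 zg55) (kg xg20 yg51 zg17) (kg xg11 yg38 zg35) (kg xg21 yg20 zg3) (kg xg18 yg17 zg4) (kg xg10 yg23 zg3) (kg xg20 yg51 zg54) (kg xg12 yg27 zg58) (kg xg17 yg9 zg35) (kg xg20 yg40 zg59) (kg xg9 yg7 zg35) (kg xg11 yg58 zg27) (kg xg17 yg9 zg21) (kg xg23 yg13 zg53) (kg xg11 yg21 zg50) (kg xg11 yg21 zg43) (kg xg9 yg7 zg41) (kg xg9 yg7 zg44) (kg xg20 yg17 zg8) (kg xg23 yg47 zg36) (kg xg18 yg39 zg39) (kg xg18 yg39 zg40) (kg xg12 yg39 zg13) (kg xg9 yg15 zg12) (kg xg22 yg22 zg28) (kg xg26 yg55 zg13) (kg xg25 yg44 zg53))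
def f_g_17 : D2 → D3 → Pt := @D2.rec (fun _ => D3 → Pt) (@D3.rec (fun _ => Pt) (kg xg21 yg50 zg41) (kg xg18 yg23 zg16) (kg xg18 yg42 zg12) (kg xg10 yg23 zg2) (kg xg9 yg7 zg48) (kg xg19 yg32 zg17) (kg xg9 yg7 zg49) (kg xg26 yg55 zg19) (kg xg21 yg44 zg14) (kg xg26 yg55 zg22) (kg xg9 yg7 zg51) (kg xg9 yg10 zg7) (kg xg9 yg49 zg31) (kg xg12 yg44 zg49) (kg xg12 yg2 zg59) (kg xg21 yg35 zg49) (kg xg12 yg35 zg18) (kg xg18 yg11 zg1) (kg xg13 yg26 zg59) (kg xg16 yg32 zg38) (kg xg11 yg33 zg27) (kg xg11 yg33 zg26) (kg xg14 yg33 zg5) (kg xg9 yg14 zg0) (kg xg19 yg34 zg23) (kg xg11 yg33 zg6) (kg xg9 yg8 zg3) (kg xg26 yg55 zg32) (kg xg11 yg33 zg4) (kg xg9 yg8 zg4) (kg xg13 yg42 zg20) (kg xg9 yg31 zg11) (kg xg9 yg8 zg6) (kg xg23 yg58 zg32) (kg xg14 yg18 zg2) (kg xg19 yg34 zg37) (kg xg12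 yg37 zg28) (kg xg26 yg23 zg41) (kg xg9 yg8 zg31) (kg xg9 yg8 zg11) (kg xg26 yg55 zg40) (kg xg9 yg8 zg29) (kg xg9 yg8 zg37) (kg xg26 yg23 zg47) (kg xg9 yg8 zg35) (kg xg11 yg35 zg54) (kg xg9 yg8 zg50) (kg xg20 yg28 zg10) (kg xg21 yg15 zg10) (kg xg19 yg27 zg31) (kg xg20 yg25 zg30) (kg xg9 yg8 zg21) (kg xg26 yg55 zg54) (kg xg12 yg5 zg44) (kg xg9 yg9 zg1) (kg xg20 yg18 zg52) (kg xg20 yg30 zg11) (kg xg26 yg55 zg38) (kg xg9 yg8 zg27) (kg xg26 yg56 zg3) (kg xg26 yg51 zg0) (kg xg16 yg29 zg52)) (@D3.rec (fun _ => Pt) (kg xg26 yg43 zg58) (kg xg26 yg56 zg8) (kg xg11 yg29 zg14) (kg xg11 yg21 zg11) (kg xg26 yg56 zg9) (kg xg16 yg23 zg7) (kg xg26 yg55 zg42) (kg xg9 yg8 zg30) (kg xg17 yg0 zg59) (kg xg26 yg55 zg41) (kg xg20 yg33 zg40) (kg xg26 yg56 zg17) (kg xg20 yg29 zg42) (kg xg16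 yg22 zg20) (kg xg22 yg58 zg45) (kg xg26 yg28 zg38) (kg xg17 yg58 zg25) (kg xg26 yg55 zg45) (kg xg9 yg8 zg36) (kg xg13 yg27 zg30) (kg xg26 yg56 zg33) (kg xg21 yg15 zg48) (kg xg26 yg56 zg35) (kg xg19 yg26 zg56) (kg xg17 yg18 zg36) (kg xg14 yg20 zg14) (kg xg26 yg55 zg47) (kg xg11 yg59 zg0) (kg xg14 yg38 zg27) (kg xg21 yg15 zg45) (kg xg9 yg8 zg47) (kg xg9 yg9 zg31) (kg xg20 yg51 zg52) (kg xg11 yg41 zg60) (kg xg10 yg48 zg27) (kg xg9 yg14 zg13) (kg xg14 yg23 zg6) (kg xg9 yg8 zg51) (kg xg9 yg8 zg55) (kg xg9 yg8 zg52) (kg xg22 yg52 zg19) (kg xg24 yg5 zg30) (kg xg12 yg5 zg45) (kg xg19 yg27 zg52) (kg xg26 yg56 zg47) (kg xg21 yg11 zg14) (kg xg17 yg53 zg52) (kg xg22 yg49 zg22) (kg xg26 yg51 zg26) (kg xg21 yg11 zg19) (kg xg19 yg27 zg16) (kg xg11 yg10 zg18) (kg xg26 yg56 zg58) (kg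 xg26 yg57 zg0) (kg xg19 yg40 zg14) (kg xg12 yg55 zg22) (kg xg23 yg57 zg30) (kg xg26 yg57 zg1) (kg xg26 yg57 zg7) (kg xg21 yg11 zg26) (kg xg19 yg41 zg19) (kg xg26 yg57 zg13)) (@D3.rec (fun _ => Pt) (kg xg20 yg29 zg21) (kg xg26 yg55 zg59) (kg xg9 yg9 zg2) (kg xg26 yg56 zg34) (kg xg26 yg57 zg22) (kg xg26 yg55 zg57) (kg xg17 yg18 zg31) (kg xg26 yg55 zg46) (kg xg9 yg9 zg4) (kg xg9 yg10 zg47) (kg xg11 yg39 zg57) (kg xg21 yg51 zg12) (kg xg26 yg57 zg27) (kg xg11 yg56 zg41) (kg xg22 yg23 zg24) (kg xg9 yg10 zg49) (kg xg9 yg10 zg52) (kg xg13 yg59 zg28) (kg xg23 yg46 zg26) (kg xg26 yg57 zg29) (kg xg26 yg52 zg26) (kg xg9 yg15 zg32) (kg xg20 yg2 zg6) (kg xg9 yg9 zg23) (kg xg20 yg18 zg38) (kg xg11 yg20 zg60) (kg xg13 yg48 zg29) (kg xg16 yg31 zg3) (kg xg26 yg22 zg12) (kg xg9 yg9 zg33)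 (kg xg23 yg10 zg32) (kg xg24 yg36 zg43) (kg xg16 yg31 zg17) (kg xg14 yg46 zg30) (kg xg20 yg0 zg30) (kg xg20 yg18 zg37) (kg xg9 yg9 zg40) (kg xg23 yg18 zg17) (kg xg26 yg22 zg57) (kg xg11 yg37 zg50) (kg xg23 yg15 zg0) (kg xg17 yg9 zg9) (kg xg21 yg29 zg9) (kg xg9 yg9 zg44) (kg xg21 yg29 zg7) (kg xg13 yg58 zg35) (kg xg21 yg15 zg22) (kg xg9 yg9 zg46) (kg xg21 yg15 zg21) (kg xg20 yg7 zg43) (kg xg11 yg11 zg36) (kg xg9 yg10 zg30) (kg xg26 yg57 zg43) (kg xg18 yg22 zg42) (kg xg18 yg22 zg44) (kg xg26 yg57 zg44) (kg xg11 yg35 zg10) (kg xg16 yg29 zg44) (kg xg18 yg20 zg7) (kg xg24 yg59 zg59) (kg xg18 yg42 zg49) (kg xg17 yg12 zg51)) (@D3.rec (fun _ => Pt) (kg xg24 yg7 zg24) (kg xg9 yg15 zg30) (kg xg9 yg9 zg58) (kg xg26 yg55 zg6) (kg xg9 yg15 zg28) (kg xg18 yg10 zg56) (kg xg11 yg49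 zg28) (kg xg24 yg15 zg41) (kg xg9 yg15 zg34) (kg xg12 yg15 zg6) (kg xg16 yg30 zg32) (kg xg12 yg14 zg26) (kg xg18 yg24 zg16) (kg xg9 yg10 zg5) (kg xg24 yg32 zg47) (kg xg12 yg14 zg56) (kg xg11 yg56 zg33) (kg xg9 yg10 zg43) (kg xg9 yg10 zg10) (kg xg26 yg2 zg31) (kg xg18 yg42 zg3) (kg xg23 yg58 zg8) (kg xg9 yg10 zg14) (kg xg26 yg57 zg59) (kg xg10 yg2 zg60) (kg xg9 yg10 zg16) (kg xg10 yg2 zg59) (kg xg18 yg23 zg7) (kg xg18 yg42 zg10) (kg xg9 yg10 zg18) (kg xg18 yg24 zg30) (kg xg9 yg10 zg55) (kg xg9 yg10 zg21) (kg xg15 yg45 zg33) (kg xg11 yg22 zg55) (kg xg11 yg20 zg59) (kg xg26 yg58 zg3) (kg xg9 yg48 zg10) (kg xg26 yg58 zg4) (kg xg18 yg56 zg31) (kg xg26 yg57 zg42) (kg xg9 yg10 zg31) (kg xg24 yg8 zg56) (kg xg18 yg44 zg29) (kg xg20 yg29 zg25) (kg xg26 yg58 zg12) (kg xg16 yg30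 zg14) (kg xg26 yg58 zg16) (kg xg16 yg29 zg46) (kg xg13 yg8 zg13) (kg xg18 yg24 zg24) (kg xg10 yg6 zg7) (kg xg12 yg1 zg42) (kg xg12 yg29 zg41) (kg xg11 yg49 zg55) (kg xg18 yg57 zg61) (kg xg23 yg52 zg38) (kg xg12 yg24 zg22) (kg xg26 yg10 zg43) (kg xg21 yg32 zg4) (kg xg12 yg1 zg13) (kg xg21 yg52 zg1)) (@D3.rec (fun _ => Pt) (kg xg26 yg58 zg26) (kg xg16 yg47 zg56) (kg xg26 yg57 zg26) (kg xg9 yg10 zg48) (kg xg26 yg2 zg33) (kg xg11 yg40 zg6) (kg xg19 yg26 zg34) (kg xg11 yg4 zg16) (kg xg16 yg29 zg61) (kg xg20 yg29 zg48) (kg xg13 yg8 zg55) (kg xg14 yg6 zg26) (kg xg26 yg58 zg32) (kg xg9 yg10 zg56) (kg xg12 yg34 zg22) (kg xg9 yg10 zg57) (kg xg26 yg58 zg35) (kg xg12 yg34 zg20) (kg xg9 yg10 zg58) (kg xg25 yg23 zg49) (kg xg9 yg11 zg59) (kg xg17 yg51 zg27) (kg xg20 yg40 zg1) (kg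 xg11 yg49 zg24) (kg xg9 yg47 zg24) (kg xg26 yg58 zg42) (kg xg9 yg12 zg11) (kg xg9 yg10 zg61) (kg xg9 yg12 zg9) (kg xg18 yg35 zg5) (kg xg9 yg11 zg6) (kg xg26 yg58 zg47) (kg xg12 yg53 zg29) (kg xg17 yg24 zg55) (kg xg9 yg12 zg25) (kg xg11 yg49 zg45) (kg xg20 yg53 zg57) (kg xg17 yg22 zg54) (kg xg26 yg50 zg26) (kg xg9 yg11 zg11) (kg xg9 yg30 zg9) (kg xg11 yg48 zg36) (kg xg9 yg11 zg12) (kg xg16 yg57 zg31) (kg xg11 yg0 zg33) (kg xg23 yg53 zg6) (kg xg11 yg56 zg39) (kg xg9 yg38 zg45) (kg xg20 yg48 zg36) (kg xg26 yg58 zg54) (kg xg9 yg12 zg33) (kg xg22 yg4 zg53) (kg xg9 yg11 zg19) (kg xg20 yg50 zg24) (kg xg12 yg53 zg46) (kg xg26 yg58 zg59) (kg xg21 yg33 zg6) (kg xg26 yg58 zg60) (kg xg22 yg2 zg43) (kg xg12 yg53 zg57) (kg xg9 yg11 zg26) (kg xg21 yg51 zg46)) (@D3.rec (fun _ => Pt)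 (kg xg26 yg59 zg1) (kg xg12 yg53 zg54) (kg xg12 yg39 zg51) (kg xg12 yg26 zg20) (kg xg12 yg39 zg52) (kg xg12 yg53 zg24) (kg xg16 yg7 zg50) (kg xg12 yg53 zg23) (kg xg12 yg36 zg37) (kg xg12 yg53 zg61) (kg xg14 yg34 zg50) (kg xg17 yg9 zg43) (kg xg16 yg13 zg48) (kg xg9 yg11 zg37) (kg xg17 yg50 zg31) (kg xg12 yg34 zg18) (kg xg15 yg24 zg1) (kg xg17 yg59 zg60) (kg xg9 yg15 zg35) (kg xg12 yg30 zg50) (kg xg9 yg59 zg52) (kg xg12 yg37 zg34) (kg xg12 yg28 zg11) (kg xg22 yg3 zg36) (kg xg9 yg49 zg4) (kg xg12 yg43 zg45) (kg xg9 yg11 zg44) (kg xg26 yg59 zg8) (kg xg12 yg43 zg43) (kg xg12 yg43 zg50) (kg xg9 yg11 zg45) (kg xg22 yg3 zg26) (kg xg12 yg43 zg48) (kg xg12 yg34 zg13) (kg xg17 yg59 zg37) (kg xg12 yg43 zg55) (kg xg21 yg45 zg32) (kg xg18 yg1 zg24) (kg xg9 yg11 zg50) (kg xg18 yg50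 zg44) (kg xg21 yg30 zg22) (kg xg16 yg8 zg1) (kg xg12 yg42 zg45) (kg xg14 yg11 zg31) (kg xg12 yg40 zg48) (kg xg11 yg8 zg30) (kg xg9 yg11 zg56) (kg xg26 yg3 zg56) (kg xg12 yg44 zg10) (kg xg9 yg11 zg57) (kg xg11 yg42 zg4) (kg xg12 yg15 zg33) (kg xg16 yg5 zg55) (kg xg18 yg24 zg10) (kg xg21 yg20 zg34) (kg xg26 yg58 zg40) (kg xg9 yg11 zg60) (kg xg26 yg33 zg11) (kg xg26 yg58 zg39) (kg xg17 yg59 zg45) (kg xg9 yg12 zg5) (kg xg26 yg59 zg29)) (@D3.rec (fun _ => Pt) (kg xg22 yg3 zg16) (kg xg9 yg12 zg6) (kg xg9 yg12 zg2) (kg xg26 yg40 zg60) (kg xg17 yg49 zg29) (kg xg9 yg12 zg3) (kg xg17 yg3 zg3) (kg xg9 yg12 zg4) (kg xg24 yg53 zg43) (kg xg26 yg59 zg33) (kg xg17 yg51 zg21) (kg xg26 yg52 zg10) (kg xg11 yg39 zg59) (kg xg26 yg51 zg50) (kg xg26 yg59 zg40) (kg xg20 yg8 zg32) (kg xg12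 yg53 zg16) (kg xg15 yg5 zg21) (kg xg9 yg12 zg15) (kg xg18 yg22 zg32) (kg xg9 yg12 zg16) (kg xg11 yg49 zg52) (kg xg14 yg34 zg54) (kg xg26 yg10 zg44) (kg xg11 yg31 zg38) (kg xg9 yg12 zg32) (kg xg9 yg12 zg19) (kg xg26 yg59 zg31) (kg xg21 yg43 zg14) (kg xg9 yg12 zg20) (kg xg21 yg45 zg5) (kg xg26 yg51 zg47) (kg xg10 yg58 zg25) (kg xg13 yg50 zg35) (kg xg9 yg12 zg34) (kg xg9 yg12 zg23) (kg xg16 yg52 zg9) (kg xg26 yg52 zg3) (kg xg9 yg22 zg36) (kg xg9 yg15 zg33) (kg xg9 yg58 zg3) (kg xg11 yg50 zg22) (kg xg9 yg12 zg29) (kg xg11 yg58 zg21) (kg xg26 yg59 zg54) (kg xg26 yg59 zg32) (kg xg15 yg48 zg33) (kg xg12 yg53 zg42) (kg xg22 yg46 zg34) (kg xg26 yg50 zg56) (kg xg25 yg47 zg8) (kg xg11 yg38 zg14) (kg xg27 yg0 zg0) (kg xg26 yg34 zg28) (kg xg11 yg39 zg42) (kg xg27 yg0 zg6) (kg xg11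 yg39 zg17) (kg xg11 yg39 zg48) (kg xg9 yg12 zg42) (kg xg9 yg12 zg40) (kg xg27 yg0 zg11) (kg xg20 yg35 zg35)) (@D3.rec (fun _ => Pt) (kg xg27 yg0 zg16) (kg xg16 yg46 zg25) (kg xg9 yg12 zg41) (kg xg21 yg2 zg60) (kg xg20 yg35 zg37) (kg xg27 yg0 zg22) (kg xg20 yg35 zg32) (kg xg27 yg0 zg20) (kg xg11 yg53 zg33) (kg xg20 yg35 zg33) (kg xg20 yg54 zg1) (kg xg20 yg54 zg6) (kg xg27 yg0 zg33) (kg xg11 yg39 zg22) (kg xg9 yg12 zg46) (kg xg11 yg38 zg16) (kg xg27 yg0 zg41) (kg xg9 yg12 zg48) (kg xg19 yg52 zg54) (kg xg9 yg12 zg59) (kg xg18 yg24 zg20) (kg xg21 yg52 zg8) (kg xg9 yg59 zg42) (kg xg26 yg55 zg23) (kg xg23 yg49 zg43) (kg xg26 yg46 zg28) (kg xg20 yg38 zg24) (kg xg12 yg14 zg54) (kg xg19 yg53 zg4) (kg xg9 yg12 zg60) (kg xg9 yg48 zg51) (kg xg20 yg12 zg55) (kg xg21 yg47 zg5) (kg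 xg21 yg52 zg22) (kg xg16 yg54 zg16) (kg xg9 yg17 zg22) (kg xg26 yg46 zg26) (kg xg21 yg51 zg34) (kg xg9 yg13 zg5) (kg xg9 yg30 zg21) (kg xg9 yg13 zg7) (kg xg23 yg3 zg48) (kg xg11 yg48 zg7) (kg xg11 yg50 zg25) (kg xg9 yg13 zg56) (kg xg12 yg31 zg41) (kg xg9 yg13 zg20) (kg xg9 yg17 zg19) (kg xg11 yg43 zg33) (kg xg19 yg17 zg27) (kg xg9 yg30 zg54) (kg xg9 yg13 zg30) (kg xg20 yg26 zg5) (kg xg9 yg13 zg31) (kg xg9 yg13 zg27) (kg xg12 yg53 zg59) (kg xg10 yg45 zg52) (kg xg9 yg30 zg7) (kg xg9 yg13 zg36) (kg xg11 yg33 zg21) (kg xg9 yg13 zg39) (kg xg11 yg49 zg31)) (@D3.rec (fun _ => Pt) (kg xg9 yg48 zg53) (kg xg12 yg10 zg50) (kg xg20 yg34 zg43) (kg xg11 yg50 zg9) (kg xg11 yg49 zg10) (kg xg11 yg50 zg17) (kg xg12 yg36 zg14) (kg xg20 yg34 zg46) (kg xg11 yg50 zg3) (kg xg9 yg13 zg50)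 (kg xg26 yg27 zg8) (kg xg20 yg15 zg2) (kg xg11 yg48 zg49) (kg xg9 yg13 zg51) (kg xg16 yg59 zg36) (kg xg24 yg53 zg38) (kg xg20 yg41 zg12) (kg xg9 yg13 zg54) (kg xg17 yg25 zg5) (kg xg9 yg31 zg38) (kg xg13 yg11 zg4) (kg xg11 yg35 zg18) (kg xg11 yg49 zg49) (kg xg11 yg43 zg32) (kg xg10 yg58 zg40) (kg xg12 yg22 zg20) (kg xg11 yg50 zg0) (kg xg9 yg14 zg6) (kg xg11 yg49 zg61) (kg xg20 yg20 zg44) (kg xg11 yg33 zg13) (kg xg16 yg53 zg10) (kg xg20 yg28 zg35) (kg xg26 yg55 zg37) (kg xg12 yg55 zg27) (kg xg17 yg59 zg47) (kg xg11 yg5 zg49) (kg xg9 yg14 zg43) (kg xg11 yg32 zg44) (kg xg27 yg1 zg2) (kg xg9 yg14 zg20) (kg xg9 yg50 zg20) (kg xg18 yg17 zg30) (kg xg11 yg51 zg25) (kg xg18 yg21 zg36) (kg xg15 yg4 zg17) (kg xg17 yg15 zg45) (kg xg26 yg10 zg38) (kg xg11 yg51 zg14) (kg xg9 yg14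 zg29) (kg xg11 yg18 zg29) (kg xg11 yg51 zg28) (kg xg11 yg51 zg27) (kg xg17 yg52 zg30) (kg xg18 yg58 zg2) (kg xg11 yg51 zg5) (kg xg11 yg51 zg21) (kg xg11 yg51 zg20) (kg xg25 yg19 zg26) (kg xg27 yg1 zg9) (kg xg26 yg34 zg51) (kg xg20 yg28 zg21)) (@D3.rec (fun _ => Pt) (kg xg14 yg45 zg61) (kg xg11 yg28 zg23) (kg xg11 yg51 zg49) (kg xg27 yg1 zg12) (kg xg13 yg3 zg21) (kg xg23 yg43 zg0) (kg xg11 yg17 zg25) (kg xg23 yg43 zg1) (kg xg21 yg53 zg54) (kg xg20 yg24 zg24) (kg xg26 yg27 zg9) (kg xg11 yg7 zg46) (kg xg17 yg2 zg41) (kg xg26 yg27 zg17) (kg xg21 yg51 zg29) (kg xg20 yg31 zg51) (kg xg23 yg20 zg45) (kg xg20 yg30 zg56) (kg xg21 yg29 zg30) (kg xg23 yg21 zg0) (kg xg25 yg16 zg21) (kg xg16 yg3 zg20) (kg xg18 yg58 zg53) (kg xg10 yg5 zg25) (kg xg9 yg15 zg4) (kg xg9 yg15 zg0) (kg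 xg18 yg24 zg54) (kg xg10 yg5 zg26) (kg xg16 yg59 zg43) (kg xg16 yg59 zg47) (kg xg20 yg32 zg48) (kg xg12 yg44 zg36) (kg xg21 yg30 zg10) (kg xg21 yg57 zg33) (kg xg9 yg15 zg5) (kg xg11 yg57 zg57) (kg xg25 yg18 zg7) (kg xg9 yg15 zg8) (kg xg11 yg56 zg38) (kg xg12 yg53 zg20) (kg xg9 yg15 zg9) (kg xg25 yg46 zg31) (kg xg10 yg23 zg15) (kg xg17 yg6 zg29) (kg xg12 yg35 zg7) (kg xg11 yg35 zg40) (kg xg17 yg6 zg6) (kg xg10 yg10 zg42) (kg xg12 yg44 zg53) (kg xg19 yg20 zg16) (kg xg19 yg53 zg19) (kg xg16 yg52 zg32) (kg xg11 yg57 zg37) (kg xg20 yg9 zg37) (kg xg16 yg31 zg24) (kg xg27 yg1 zg30) (kg xg17 yg10 zg6) (kg xg11 yg56 zg36) (kg xg20 yg34 zg39) (kg xg17 yg10 zg2) (kg xg20 yg51 zg16) (kg xg9 yg15 zg29)) (@D3.rec (fun _ => Pt) (kg xg11 yg45 zg39) (kg xg12 yg16 zg46) (kg xg17 yg9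 zg56) (kg xg11 yg49 zg37) (kg xg18 yg0 zg10) (kg xg22 yg3 zg27) (kg xg17 yg9 zg59) (kg xg22 yg21 zg48) (kg xg14 yg13 zg48) (kg xg13 yg2 zg19) (kg xg12 yg15 zg49) (kg xg9 yg28 zg9) (kg xg21 yg18 zg1) (kg xg9 yg28 zg7) (kg xg9 yg27 zg59) (kg xg21 yg17 zg19) (kg xg9 yg15 zg49) (kg xg21 yg17 zg18) (kg xg27 yg1 zg45) (kg xg9 yg28 zg13) (kg xg9 yg15 zg50) (kg xg12 yg14 zg32) (kg xg9 yg24 zg54) (kg xg25 yg30 zg27) (kg xg17 yg27 zg49) (kg xg9 yg15 zg57) (kg xg17 yg27 zg48) (kg xg27 yg1 zg51) (kg xg12 yg11 zg43) (kg xg10 yg56 zg39) (kg xg9 yg21 zg33) (kg xg11 yg36 zg8) (kg xg26 yg44 zg3) (kg xg18 yg57 zg19) (kg xg11 yg36 zg11) (kg xg9 yg16 zg45) (kg xg15 yg32 zg17) (kg xg9 yg16 zg43) (kg xg25 yg23 zg39) (kg xg9 yg31 zg61) (kg xg9 yg21 zg32) (kg xg15 yg26 zg45) (kg xg9 yg21 zg0)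 (kg xg9 yg16 zg53) (kg xg9 yg32 zg1) (kg xg9 yg21 zg25) (kg xg9 yg28 zg34) (kg xg17 yg20 zg10) (kg xg9 yg16 zg17) (kg xg27 yg2 zg8) (kg xg27 yg2 zg10) (kg xg9 yg22 zg24) (kg xg9 yg21 zg4) (kg xg9 yg16 zg19) (kg xg21 yg38 zg44) (kg xg21 yg16 zg26) (kg xg12 yg32 zg34) (kg xg20 yg28 zg6) (kg xg10 yg17 zg13) (kg xg9 yg16 zg46) (kg xg9 yg26 zg23) (kg xg20 yg41 zg11)) (@D3.rec (fun _ => Pt) (kg xg21 yg9 zg9) (kg xg9 yg26 zg33) (kg xg9 yg26 zg32) (kg xg27 yg2 zg0) (kg xg14 yg11 zg41) (kg xg24 yg19 zg43) (kg xg9 yg16 zg29) (kg xg27 yg2 zg22) (kg xg9 yg26 zg27) (kg xg9 yg16 zg30) (kg xg17 yg17 zg35) (kg xg14 yg29 zg53) (kg xg13 yg3 zg23) (kg xg9 yg16 zg39) (kg xg14 yg11 zg7) (kg xg9 yg16 zg37) (kg xg17 yg59 zg13) (kg xg20 yg15 zg29) (kg xg20 yg46 zg42) (kg xg9 yg16 zg35) (kg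 xg27 yg2 zg32) (kg xg14 yg56 zg38) (kg xg11 yg42 zg43) (kg xg26 yg27 zg39) (kg xg14 yg11 zg6) (kg xg11 yg45 zg26) (kg xg9 yg16 zg40) (kg xg16 yg54 zg35) (kg xg12 yg11 zg22) (kg xg9 yg16 zg41) (kg xg25 yg52 zg18) (kg xg12 yg11 zg20) (kg xg27 yg2 zg41) (kg xg10 yg21 zg14) (kg xg17 yg23 zg0) (kg xg9 yg24 zg5) (kg xg25 yg52 zg14) (kg xg22 yg36 zg41) (kg xg9 yg16 zg44) (kg xg18 yg52 zg10) (kg xg20 yg11 zg48) (kg xg27 yg2 zg4) (kg xg27 yg2 zg3) (kg xg27 yg2 zg47) (kg xg27 yg2 zg50) (kg xg15 yg31 zg38) (kg xg25 yg35 zg60) (kg xg9 yg21 zg46) (kg xg22 yg0 zg15) (kg xg9 yg16 zg49) (kg xg17 yg19 zg1) (kg xg16 yg28 zg27) (kg xg22 yg35 zg32) (kg xg17 yg28 zg33) (kg xg27 yg2 zg45) (kg xg12 yg57 zg11) (kg xg20 yg43 zg55) (kg xg12 yg57 zg15) (kg xg15 yg40 zg32) (kg xg22 yg52 zg56)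 (kg xg9 yg27 zg19) (kg xg27 yg3 zg6)) (@D3.rec (fun _ => Pt) (kg xg10 yg44 zg38) (kg xg25 yg43 zg34) (kg xg9 yg23 zg52) (kg xg27 yg3 zg12) (kg xg9 yg27 zg35) (kg xg9 yg21 zg27) (kg xg12 yg16 zg2) (kg xg11 yg26 zg7) (kg xg12 yg32 zg59) (kg xg19 yg24 zg9) (kg xg11 yg41 zg8) (kg xg9 yg17 zg17) (kg xg23 yg26 zg22) (kg xg9 yg17 zg15) (kg xg11 yg24 zg22) (kg xg11 yg39 zg3) (kg xg9 yg17 zg12) (kg xg15 yg26 zg53) (kg xg11 yg42 zg36) (kg xg17 yg7 zg49) (kg xg11 yg7 zg19) (kg xg14 yg50 zg26) (kg xg20 yg50 zg9) (kg xg14 yg5 zg30) (kg xg9 yg17 zg16) (kg xg25 yg39 zg55) (kg xg23 yg35 zg8) (kg xg11 yg34 zg57) (kg xg14 yg8 zg2) (kg xg22 yg4 zg61) (kg xg17 yg35 zg3) (kg xg17 yg19 zg12) (kg xg9 yg49 zg15) (kg xg16 yg53 zg32) (kg xg9 yg20 zg3) (kg xg12 yg56 zg10) (kg xg12 yg56 zg12)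 (kg xg19 yg10 zg28) (kg xg19 yg23 zg12) (kg xg9 yg27 zg22) (kg xg10 yg54 zg3) (kg xg9 yg17 zg35) (kg xg12 yg32 zg38) (kg xg17 yg56 zg49) (kg xg10 yg18 zg51) (kg xg27 yg3 zg29) (kg xg21 yg22 zg51) (kg xg18 yg0 zg16) (kg xg12 yg23 zg15) (kg xg9 yg17 zg45) (kg xg27 yg3 zg33) (kg xg15 yg10 zg37) (kg xg18 yg21 zg15) (kg xg21 yg12 zg20) (kg xg9 yg17 zg53) (kg xg9 yg17 zg51) (kg xg18 yg50 zg10) (kg xg9 yg17 zg52) (kg xg19 yg7 zg41) (kg xg9 yg17 zg54) (kg xg11 yg49 zg58) (kg xg26 yg46 zg11)) (@D3.rec (fun _ => Pt) (kg xg13 yg57 zg11) (kg xg19 yg59 zg16) (kg xg21 yg37 zg16) (kg xg9 yg17 zg57) (kg xg21 yg51 zg18) (kg xg20 yg40 zg26) (kg xg9 yg17 zg59) (kg xg20 yg4 zg30) (kg xg11 yg37 zg19) (kg xg14 yg50 zg21) (kg xg11 yg43 zg58) (kg xg17 yg51 zg60) (kg xg9 yg36 zg58) (kg xg9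 yg37 zg3) (kg xg14 yg12 zg52) (kg xg12 yg2 zg9) (kg xg10 yg27 zg5) (kg xg22 yg4 zg54) (kg xg17 yg12 zg46) (kg xg11 yg25 zg1) (kg xg21 yg10 zg5) (kg xg12 yg24 zg36) (kg xg9 yg18 zg20) (kg xg10 yg14 zg0) (kg xg12 yg18 zg54) (kg xg12 yg18 zg56) (kg xg18 yg37 zg42) (kg xg18 yg50 zg23) (kg xg9 yg18 zg23) (kg xg17 yg55 zg46) (kg xg19 yg22 zg48) (kg xg9 yg18 zg24) (kg xg27 yg3 zg40) (kg xg27 yg3 zg51) (kg xg21 yg34 zg44) (kg xg9 yg18 zg48) (kg xg23 yg35 zg52) (kg xg12 yg13 zg41) (kg xg17 yg16 zg2) (kg xg12 yg50 zg5) (kg xg21 yg17 zg46) (kg xg27 yg3 zg58) (kg xg17 yg40 zg9) (kg xg25 yg45 zg14) (kg xg12 yg17 zg51) (kg xg9 yg18 zg33) (kg xg12 yg17 zg50) (kg xg14 yg34 zg58) (kg xg27 yg4 zg2) (kg xg12 yg38 zg59) (kg xg12 yg38 zg61) (kg xg27 yg4 zg5) (kg xg21 yg34 zg27) (kg xg12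 yg17 zg17) (kg xg9 yg18 zg40) (kg xg12 yg17 zg16) (kg xg16 yg15 zg38) (kg xg21 yg56 zg30) (kg xg9 yg18 zg44) (kg xg12 yg12 zg18) (kg xg21 yg59 zg1) (kg xg9 yg18 zg47)) (@D3.rec (fun _ => Pt) (kg xg9 yg18 zg49) (kg xg27 yg4 zg12) (kg xg27 yg4 zg18) (kg xg27 yg4 zg21) (kg xg21 yg32 zg5) (kg xg22 yg10 zg5) (kg xg27 yg4 zg19) (kg xg21 yg22 zg29) (kg xg19 yg57 zg30) (kg xg17 yg56 zg50) (kg xg17 yg35 zg11) (kg xg21 yg26 zg50) (kg xg21 yg34 zg58) (kg xg27 yg4 zg25) (kg xg21 yg27 zg48) (kg xg12 yg18 zg44) (kg xg12 yg18 zg43) (kg xg21 yg34 zg32) (kg xg21 yg46 zg58) (kg xg27 yg4 zg36) (kg xg26 yg3 zg51) (kg xg12 yg21 zg20) (kg xg12 yg21 zg34) (kg xg16 yg6 zg44) (kg xg12 yg0 zg33) (kg xg15 yg43 zg0) (kg xg22 yg9 zg36) (kg xg10 yg6 zg28) (kg xg18 yg37 zg59) (kg xg9 yg20 zg33) (kg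 xg9 yg19 zg6) (kg xg9 yg19 zg10) (kg xg9 yg19 zg7) (kg xg21 yg31 zg13) (kg xg21 yg34 zg51) (kg xg21 yg59 zg22) (kg xg12 yg26 zg53) (kg xg12 yg1 zg41) (kg xg18 yg39 zg23) (kg xg10 yg0 zg0) (kg xg21 yg7 zg37) (kg xg27 yg4 zg51) (kg xg21 yg5 zg13) (kg xg25 yg30 zg10) (kg xg9 yg19 zg15) (kg xg12 yg21 zg1) (kg xg17 yg28 zg8) (kg xg20 yg37 zg30) (kg xg27 yg4 zg61) (kg xg12 yg59 zg8) (kg xg9 yg19 zg17) (kg xg25 yg44 zg0) (kg xg12 yg59 zg12) (kg xg12 yg59 zg40) (kg xg15 yg16 zg28) (kg xg12 yg58 zg25) (kg xg12 yg39 zg22) (kg xg9 yg19 zg21) (kg xg20 yg37 zg53) (kg xg18 yg42 zg61) (kg xg21 yg6 zg50) (kg xg26 yg22 zg22)) (@D3.rec (fun _ => Pt) (kg xg9 yg19 zg31) (kg xg9 yg19 zg27) (kg xg9 yg19 zg30) (kg xg27 yg5 zg7) (kg xg9 yg19 zg28) (kg xg27 yg5 zg11) (kg xg27 yg5 zg5) (kg xg16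 yg30 zg36) (kg xg27 yg5 zg14) (kg xg26 yg24 zg61) (kg xg26 yg28 zg58) (kg xg20 yg30 zg2) (kg xg16 yg32 zg51) (kg xg20 yg32 zg2) (kg xg9 yg19 zg36) (kg xg9 yg19 zg33) (kg xg21 yg29 zg12) (kg xg21 yg30 zg4) (kg xg16 yg36 zg12) (kg xg13 yg59 zg1) (kg xg20 yg26 zg19) (kg xg12 yg21 zg56) (kg xg27 yg5 zg22) (kg xg16 yg30 zg19) (kg xg18 yg41 zg0) (kg xg12 yg7 zg42) (kg xg20 yg25 zg43) (kg xg9 yg19 zg41) (kg xg20 yg20 zg60) (kg xg9 yg19 zg42) (kg xg24 yg56 zg44) (kg xg13 yg47 zg23) (kg xg9 yg19 zg43) (kg xg12 yg9 zg38) (kg xg9 yg19 zg44) (kg xg27 yg5 zg33) (kg xg12 yg9 zg36) (kg xg17 yg2 zg26) (kg xg12 yg9 zg13) (kg xg9 yg19 zg47) (kg xg27 yg5 zg38) (kg xg12 yg9 zg11) (kg xg20 yg0 zg8) (kg xg12 yg9 zg15) (kg xg27 yg3 zg20) (kg xg10 yg58 zg19) (kg xg11 yg25 zg0) (kg xg12 yg54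 zg45) (kg xg12 yg15 zg7) (kg xg9 yg19 zg57) (kg xg9 yg19 zg59) (kg xg9 yg19 zg60) (kg xg11 yg12 zg39) (kg xg18 yg23 zg23) (kg xg9 yg20 zg0) (kg xg18 yg58 zg4) (kg xg9 yg20 zg2) (kg xg12 yg15 zg1) (kg xg23 yg47 zg55) (kg xg26 yg57 zg56) (kg xg23 yg50 zg3) (kg xg9 yg58 zg0)) (@D3.rec (fun _ => Pt) (kg xg16 yg6 zg48) (kg xg12 yg40 zg15) (kg xg17 yg14 zg4) (kg xg17 yg42 zg32) (kg xg21 yg57 zg41) (kg xg27 yg5 zg45) (kg xg17 yg34 zg57) (kg xg12 yg25 zg17) (kg xg9 yg20 zg19) (kg xg12 yg25 zg16) (kg xg12 yg58 zg23) (kg xg12 yg26 zg8) (kg xg12 yg26 zg7) (kg xg9 yg20 zg23) (kg xg12 yg21 zg43) (kg xg23 yg2 zg27) (kg xg22 yg2 zg33) (kg xg27 yg5 zg57) (kg xg9 yg57 zg60) (kg xg21 yg32 zg2) (kg xg16 yg9 zg25) (kg xg16 yg8 zg46) (kg xg9 yg20 zg28) (kg xg27 yg6 zg0) (kg xg17 yg16 zg0)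 (kg xg9 yg20 zg32) (kg xg23 yg2 zg45) (kg xg25 yg44 zg47) (kg xg22 yg10 zg6) (kg xg12 yg21 zg8) (kg xg27 yg6 zg4) (kg xg9 yg37 zg4) (kg xg12 yg24 zg29) (kg xg9 yg20 zg36) (kg xg12 yg24 zg28) (kg xg10 yg17 zg60) (kg xg12 yg4 zg22) (kg xg11 yg28 zg54) (kg xg11 yg28 zg60) (kg xg12 yg35 zg61) (kg xg9 yg21 zg37) (kg xg9 yg20 zg45) (kg xg14 yg24 zg5) (kg xg23 yg58 zg2) (kg xg9 yg25 zg42) (kg xg9 yg24 zg52) (kg xg9 yg20 zg50) (kg xg27 yg6 zg10) (kg xg9 yg24 zg49) (kg xg12 yg58 zg27) (kg xg9 yg24 zg53) (kg xg9 yg20 zg54) (kg xg22 yg3 zg33) (kg xg27 yg6 zg14) (kg xg12 yg0 zg19) (kg xg13 yg45 zg9) (kg xg12 yg0 zg7) (kg xg9 yg20 zg57) (kg xg18 yg36 zg17) (kg xg12 yg56 zg54) (kg xg18 yg57 zg37) (kg xg25 yg25 zg53)) (@D3.rec (fun _ => Pt) (kg xg19 yg9 zg61) (kg xg12 yg33 zg48) (kg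 xg9 yg22 zg14) (kg xg9 yg21 zg3) (kg xg27 yg6 zg29) (kg xg21 yg38 zg37) (kg xg9 yg21 zg35) (kg xg11 yg29 zg60) (kg xg12 yg57 zg18) (kg xg24 yg2 zg20) (kg xg14 yg32 zg18) (kg xg9 yg21 zg12) (kg xg17 yg19 zg42) (kg xg14 yg32 zg16) (kg xg14 yg19 zg22) (kg xg9 yg24 zg15) (kg xg12 yg52 zg26) (kg xg27 yg6 zg38) (kg xg9 yg27 zg8) (kg xg13 yg20 zg23) (kg xg14 yg23 zg26) (kg xg13 yg17 zg38) (kg xg22 yg50 zg38) (kg xg14 yg13 zg24) (kg xg24 yg25 zg60) (kg xg14 yg13 zg22) (kg xg23 yg53 zg15) (kg xg23 yg55 zg27) (kg xg21 yg38 zg33) (kg xg27 yg6 zg53) (kg xg21 yg38 zg30) (kg xg18 yg47 zg4) (kg xg11 yg42 zg26) (kg xg17 yg11 zg10) (kg xg20 yg59 zg58) (kg xg21 yg38 zg28) (kg xg27 yg7 zg2) (kg xg9 yg22 zg27) (kg xg9 yg21 zg30) (kg xg27 yg7 zg9) (kg xg9 yg21 zg34) (kg xg22 yg6 zg39) (kg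 xg27 yg7 zg16) (kg xg12 yg33 zg56) (kg xg27 yg7 zg20) (kg xg27 yg7 zg24) (kg xg17 yg27 zg8) (kg xg18 yg46 zg58) (kg xg21 yg36 zg20) (kg xg17 yg35 zg13) (kg xg26 yg46 zg60) (kg xg11 yg26 zg24) (kg xg9 yg24 zg14) (kg xg11 yg43 zg20) (kg xg27 yg7 zg30) (kg xg13 yg11 zg9) (kg xg9 yg27 zg24) (kg xg27 yg7 zg34) (kg xg17 yg29 zg11) (kg xg9 yg27 zg49) (kg xg9 yg21 zg48) (kg xg24 yg42 zg41)) (@D3.rec (fun _ => Pt) (kg xg27 yg7 zg41) (kg xg21 yg16 zg36) (kg xg9 yg21 zg49) (kg xg21 yg16 zg35) (kg xg27 yg7 zg52) (kg xg27 yg7 zg56) (kg xg15 yg26 zg51) (kg xg11 yg31 zg4) (kg xg9 yg21 zg53) (kg xg26 yg44 zg8) (kg xg12 yg16 zg4) (kg xg14 yg23 zg44) (kg xg11 yg38 zg39) (kg xg21 yg38 zg26) (kg xg20 yg19 zg42) (kg xg9 yg22 zg1) (kg xg27 yg8 zg1) (kg xg23 yg47 zg14) (kg xg23 yg24 zg14)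 (kg xg17 yg21 zg20) (kg xg9 yg22 zg5) (kg xg17 yg21 zg18) (kg xg9 yg22 zg7) (kg xg22 yg0 zg25) (kg xg11 yg59 zg1) (kg xg17 yg21 zg16) (kg xg9 yg22 zg8) (kg xg27 yg8 zg10) (kg xg22 yg30 zg17) (kg xg11 yg41 zg13) (kg xg24 yg7 zg22) (kg xg17 yg28 zg27) (kg xg26 yg53 zg0) (kg xg9 yg22 zg15) (kg xg27 yg8 zg17) (kg xg16 yg32 zg20) (kg xg20 yg28 zg24) (kg xg27 yg8 zg21) (kg xg19 yg22 zg14) (kg xg17 yg1 zg24) (kg xg22 yg6 zg33) (kg xg20 yg33 zg52) (kg xg26 yg53 zg28) (kg xg9 yg22 zg18) (kg xg27 yg8 zg32) (kg xg23 yg39 zg58) (kg xg27 yg8 zg36) (kg xg10 yg21 zg61) (kg xg20 yg52 zg45) (kg xg21 yg20 zg33) (kg xg23 yg56 zg5) (kg xg17 yg25 zg22) (kg xg13 yg22 zg48) (kg xg27 yg8 zg44) (kg xg11 yg42 zg24) (kg xg27 yg8 zg45) (kg xg10 yg19 zg49) (kg xg27 yg2 zg13) (kg xg9 yg22 zg25)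 (kg xg27 yg8 zg54) (kg xg27 yg2 zg11) (kg xg27 yg8 zg59)) (@D3.rec (fun _ => Pt) (kg xg18 yg38 zg13) (kg xg17 yg10 zg38) (kg xg11 yg21 zg30) (kg xg18 yg25 zg13) (kg xg16 yg57 zg40) (kg xg16 yg54 zg57) (kg xg14 yg29 zg6) (kg xg20 yg6 zg12) (kg xg17 yg29 zg58) (kg xg13 yg23 zg23) (kg xg11 yg43 zg60) (kg xg11 yg44 zg55) (kg xg20 yg37 zg34) (kg xg24 yg53 zg40) (kg xg11 yg44 zg50) (kg xg9 yg23 zg14) (kg xg12 yg33 zg46) (kg xg9 yg24 zg27) (kg xg21 yg42 zg53) (kg xg12 yg51 zg15) (kg xg20 yg2 zg8) (kg xg9 yg22 zg55) (kg xg27 yg9 zg5) (kg xg9 yg30 zg17) (kg xg9 yg24 zg50) (kg xg9 yg22 zg58) (kg xg12 yg52 zg47) (kg xg9 yg22 zg60) (kg xg23 yg37 zg53) (kg xg9 yg23 zg15) (kg xg9 yg23 zg31) (kg xg17 yg13 zg47) (kg xg21 yg8 zg4) (kg xg20 yg26 zg2) (kg xg9 yg27 zg25) (kg xg20 yg45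 zg27) (kg xg12 yg3 zg35) (kg xg9 yg23 zg9) (kg xg27 yg9 zg16) (kg xg9 yg25 zg44) (kg xg12 yg4 zg57) (kg xg24 yg15 zg23) (kg xg24 yg14 zg33) (kg xg11 yg45 zg7) (kg xg20 yg19 zg12) (kg xg12 yg31 zg45) (kg xg23 yg47 zg41) (kg xg16 yg25 zg22) (kg xg18 yg44 zg51) (kg xg27 yg9 zg18) (kg xg27 yg9 zg23) (kg xg9 yg23 zg27) (kg xg9 yg23 zg20) (kg xg22 yg22 zg29) (kg xg9 yg23 zg25) (kg xg26 yg6 zg1) (kg xg12 yg22 zg6) (kg xg22 yg36 zg56) (kg xg27 yg9 zg26) (kg xg9 yg23 zg23) (kg xg22 yg22 zg44) (kg xg27 yg9 zg24)) (@D3.rec (fun _ => Pt) (kg xg18 yg23 zg22) (kg xg13 yg10 zg1) (kg xg17 yg34 zg44) (kg xg12 yg39 zg16) (kg xg21 yg9 zg51) (kg xg12 yg57 zg36) (kg xg27 yg9 zg28) (kg xg9 yg23 zg26) (kg xg27 yg9 zg49) (kg xg22 yg22 zg32) (kg xg17 yg18 zg47) (kg xg18 yg44 zg34) (kg xg18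 yg48 zg53) (kg xg9 yg26 zg51) (kg xg9 yg23 zg29) (kg xg26 yg42 zg11) (kg xg9 yg26 zg49) (kg xg9 yg27 zg3) (kg xg20 yg27 zg7) (kg xg12 yg34 zg5) (kg xg25 yg35 zg47) (kg xg15 yg56 zg54) (kg xg27 yg10 zg3) (kg xg27 yg9 zg59) (kg xg17 yg26 zg43) (kg xg10 yg24 zg51) (kg xg17 yg20 zg52) (kg xg27 yg10 zg10) (kg xg9 yg23 zg37) (kg xg27 yg10 zg12) (kg xg10 yg46 zg22) (kg xg9 yg23 zg39) (kg xg9 yg23 zg59) (kg xg25 yg59 zg40) (kg xg26 yg52 zg58) (kg xg27 yg10 zg18) (kg xg12 yg28 zg35) (kg xg26 yg53 zg17) (kg xg9 yg27 zg32) (kg xg12 yg39 zg9) (kg xg12 yg17 zg34) (kg xg25 yg57 zg7) (kg xg17 yg13 zg42) (kg xg9 yg29 zg56) (kg xg9 yg24 zg8) (kg xg23 yg55 zg40) (kg xg12 yg51 zg21) (kg xg17 yg26 zg31) (kg xg9 yg24 zg45) (kg xg14 yg16 zg14) (kg xg9 yg23 zg54) (kg xg22 yg0 zg34) (kg xg17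 yg20 zg24) (kg xg11 yg46 zg49) (kg xg12 yg51 zg17) (kg xg27 yg10 zg33) (kg xg11 yg25 zg49) (kg xg12 yg37 zg53) (kg xg19 yg9 zg50) (kg xg9 yg24 zg3) (kg xg9 yg23 zg60) (kg xg25 yg18 zg45)) (@D3.rec (fun _ => Pt) (kg xg9 yg24 zg1) (kg xg21 yg15 zg24) (kg xg9 yg23 zg61) (kg xg21 yg13 zg17) (kg xg21 yg22 zg10) (kg xg20 yg26 zg7) (kg xg15 yg27 zg2) (kg xg26 yg52 zg60) (kg xg12 yg37 zg29) (kg xg24 yg1 zg35) (kg xg9 yg28 zg30) (kg xg26 yg43 zg37) (kg xg9 yg24 zg2) (kg xg27 yg10 zg49) (kg xg15 yg45 zg54) (kg xg26 yg50 zg61) (kg xg17 yg18 zg26) (kg xg17 yg18 zg21) (kg xg9 yg24 zg6) (kg xg10 yg23 zg59) (kg xg17 yg18 zg20) (kg xg13 yg18 zg32) (kg xg14 yg16 zg59) (kg xg19 yg42 zg8) (kg xg9 yg24 zg11) (kg xg11 yg44 zg46) (kg xg12 yg51 zg32) (kg xg19 yg40 zg37) (kg xg19 yg5 zg2)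 (kg xg27 yg6 zg33) (kg xg24 yg15 zg38) (kg xg15 yg51 zg53) (kg xg21 yg0 zg52) (kg xg9 yg24 zg19) (kg xg9 yg24 zg17) (kg xg12 yg40 zg4) (kg xg24 yg1 zg36) (kg xg19 yg40 zg49) (kg xg27 yg11 zg1) (kg xg27 yg11 zg3) (kg xg27 yg11 zg4) (kg xg9 yg24 zg25) (kg xg26 yg14 zg7) (kg xg27 yg11 zg9) (kg xg26 yg14 zg5) (kg xg9 yg24 zg33) (kg xg20 yg26 zg31) (kg xg19 yg9 zg60) (kg xg27 yg10 zg26) (kg xg18 yg16 zg17) (kg xg24 yg53 zg42) (kg xg20 yg18 zg58) (kg xg12 yg31 zg49) (kg xg18 yg48 zg24) (kg xg24 yg53 zg39) (kg xg9 yg24 zg43) (kg xg22 yg18 zg18) (kg xg9 yg24 zg47) (kg xg22 yg18 zg15) (kg xg17 yg23 zg16) (kg xg17 yg12 zg5) (kg xg14 yg13 zg34)) (@D3.rec (fun _ => Pt) (kg xg13 yg18 zg33) (kg xg10 yg7 zg19) (kg xg10 yg2 zg8) (kg xg24 yg15 zg25) (kg xg27 yg11 zg20) (kg xg19 yg34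 zg55) (kg xg15 yg46 zg50) (kg xg27 yg11 zg23) (kg xg21 yg39 zg15) (kg xg19 yg40 zg50) (kg xg27 yg11 zg28) (kg xg16 yg49 zg9) (kg xg17 yg34 zg60) (kg xg27 yg11 zg31) (kg xg9 yg24 zg60) (kg xg24 yg5 zg12) (kg xg19 yg35 zg13) (kg xg27 yg11 zg34) (kg xg9 yg25 zg7) (kg xg14 yg2 zg41) (kg xg17 yg2 zg45) (kg xg25 yg18 zg19) (kg xg16 yg52 zg14) (kg xg18 yg42 zg48) (kg xg27 yg11 zg42) (kg xg21 yg2 zg59) (kg xg22 yg0 zg26) (kg xg9 yg27 zg12) (kg xg15 yg56 zg37) (kg xg9 yg25 zg22) (kg xg9 yg25 zg12) (kg xg19 yg29 zg24) (kg xg9 yg25 zg20) (kg xg20 yg9 zg28) (kg xg9 yg25 zg15) (kg xg11 yg28 zg50) (kg xg16 yg56 zg12) (kg xg27 yg11 zg52) (kg xg27 yg11 zg46) (kg xg9 yg25 zg18) (kg xg15 yg56 zg33) (kg xg11 yg45 zg44) (kg xg27 yg11 zg58) (kg xg27 yg11 zg60) (kg xg10 yg4 zg23) (kg xg22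 yg0 zg24) (kg xg21 yg57 zg24) (kg xg27 yg6 zg37) (kg xg12 yg32 zg56) (kg xg24 yg10 zg33) (kg xg9 yg25 zg21) (kg xg27 yg12 zg6) (kg xg23 yg57 zg20) (kg xg19 yg23 zg44) (kg xg17 yg6 zg47) (kg xg18 yg56 zg43) (kg xg20 yg52 zg31) (kg xg18 yg17 zg23) (kg xg22 yg11 zg3) (kg xg12 yg16 zg26) (kg xg9 yg25 zg34) (kg xg27 yg12 zg14)) (@D3.rec (fun _ => Pt) (kg xg16 yg56 zg7) (kg xg16 yg26 zg18) (kg xg26 yg22 zg3) (kg xg9 yg25 zg37) (kg xg10 yg39 zg14) (kg xg18 yg50 zg14) (kg xg24 yg17 zg58) (kg xg9 yg25 zg38) (kg xg23 yg6 zg50) (kg xg11 yg45 zg34) (kg xg25 yg34 zg29) (kg xg24 yg15 zg24) (kg xg18 yg46 zg6) (kg xg18 yg26 zg24) (kg xg9 yg25 zg43) (kg xg27 yg12 zg25) (kg xg17 yg22 zg1) (kg xg13 yg17 zg1) (kg xg12 yg3 zg54) (kg xg11 yg45 zg48) (kg xg18 yg45 zg29) (kg xg11 yg45 zg46)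 (kg xg14 yg32 zg28) (kg xg20 yg46 zg21) (kg xg20 yg31 zg9) (kg xg24 yg18 zg15) (kg xg20 yg45 zg32) (kg xg9 yg25 zg58) (kg xg10 yg19 zg32) (kg xg11 yg45 zg29) (kg xg9 yg25 zg59) (kg xg20 yg45 zg38) (kg xg9 yg26 zg12) (kg xg9 yg25 zg60) (kg xg13 yg36 zg46) (kg xg9 yg26 zg10) (kg xg22 yg0 zg37) (kg xg9 yg26 zg20) (kg xg20 yg42 zg47) (kg xg11 yg45 zg55) (kg xg9 yg26 zg4) (kg xg27 yg12 zg43) (kg xg11 yg45 zg58) (kg xg9 yg26 zg7) (kg xg20 yg21 zg59) (kg xg9 yg50 zg1) (kg xg9 yg26 zg8) (kg xg26 yg41 zg1) (kg xg9 yg49 zg61) (kg xg22 yg37 zg19) (kg xg27 yg12 zg53) (kg xg24 yg38 zg51) (kg xg14 yg34 zg1) (kg xg20 yg30 zg5) (kg xg20 yg40 zg28) (kg xg27 yg12 zg55) (kg xg15 yg55 zg58) (kg xg9 yg26 zg11) (kg xg24 yg34 zg38) (kg xg13 yg37 zg3) (kg xg9 yg32 zg13) (kg xg9 yg26 zg15))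 (@D3.rec (fun _ => Pt) (kg xg11 yg45 zg37) (kg xg23 yg57 zg47) (kg xg20 yg33 zg18) (kg xg13 yg1 zg52) (kg xg24 yg39 zg30) (kg xg24 yg38 zg55) (kg xg17 yg2 zg14) (kg xg27 yg13 zg12) (kg xg23 yg0 zg59) (kg xg19 yg9 zg56) (kg xg20 yg45 zg8) (kg xg23 yg0 zg53) (kg xg27 yg12 zg38) (kg xg9 yg26 zg21) (kg xg27 yg13 zg14) (kg xg27 yg13 zg19) (kg xg24 yg39 zg28) (kg xg25 yg35 zg21) (kg xg16 yg52 zg21) (kg xg16 yg30 zg27) (kg xg27 yg13 zg26) (kg xg16 yg52 zg19) (kg xg27 yg13 zg28) (kg xg16 yg52 zg3) (kg xg27 yg9 zg30) (kg xg27 yg13 zg31) (kg xg27 yg13 zg32) (kg xg15 yg50 zg50) (kg xg27 yg2 zg25) (kg xg9 yg26 zg28) (kg xg27 yg13 zg40) (kg xg27 yg2 zg23) (kg xg17 yg24 zg35) (kg xg14 yg22 zg26) (kg xg15 yg56 zg0) (kg xg13 yg20 zg28) (kg xg12 yg10 zg24) (kg xg16 yg23 zg51) (kg xg17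 yg24 zg24) (kg xg20 yg44 zg11) (kg xg9 yg26 zg36) (kg xg27 yg13 zg51) (kg xg20 yg44 zg9) (kg xg22 yg25 zg24) (kg xg17 yg24 zg27) (kg xg17 yg22 zg22) (kg xg22 yg25 zg18) (kg xg17 yg25 zg19) (kg xg9 yg26 zg39) (kg xg27 yg14 zg1) (kg xg17 yg25 zg25) (kg xg13 yg10 zg61) (kg xg26 yg53 zg5) (kg xg27 yg14 zg9) (kg xg9 yg26 zg46) (kg xg17 yg4 zg38) (kg xg19 yg25 zg29) (kg xg9 yg26 zg47) (kg xg9 yg26 zg43) (kg xg27 yg14 zg13) (kg xg19 yg28 zg13) (kg xg9 yg26 zg44)) (@D3.rec (fun _ => Pt) (kg xg17 yg11 zg30) (kg xg9 yg26 zg45) (kg xg27 yg14 zg20) (kg xg22 yg0 zg49) (kg xg27 yg14 zg14) (kg xg20 yg52 zg13) (kg xg27 yg14 zg25) (kg xg18 yg47 zg28) (kg xg23 yg0 zg49) (kg xg27 yg12 zg11) (kg xg27 yg14 zg26) (kg xg15 yg36 zg21) (kg xg17 yg51 zg12) (kg xg27 yg9 zg58) (kg xg9 yg26 zg50)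 (kg xg20 yg50 zg4) (kg xg25 yg59 zg58) (kg xg19 yg38 zg58) (kg xg25 yg32 zg38) (kg xg17 yg24 zg48) (kg xg17 yg18 zg51) (kg xg25 yg52 zg50) (kg xg12 yg14 zg41) (kg xg13 yg12 zg7) (kg xg17 yg24 zg50) (kg xg9 yg26 zg55) (kg xg27 yg14 zg46) (kg xg10 yg17 zg12) (kg xg10 yg4 zg22) (kg xg9 yg26 zg57) (kg xg24 yg39 zg25) (kg xg27 yg14 zg54) (kg xg18 yg42 zg52) (kg xg9 yg26 zg58) (kg xg20 yg18 zg57) (kg xg23 yg8 zg1) (kg xg15 yg46 zg59) (kg xg25 yg36 zg1) (kg xg25 yg35 zg59) (kg xg17 yg34 zg13) (kg xg18 yg1 zg10) (kg xg9 yg27 zg15) (kg xg23 yg56 zg56) (kg xg12 yg42 zg33) (kg xg18 yg36 zg6) (kg xg27 yg15 zg2) (kg xg27 yg15 zg6) (kg xg23 yg47 zg5) (kg xg27 yg15 zg10) (kg xg27 yg15 zg13) (kg xg27 yg10 zg5) (kg xg9 yg27 zg9) (kg xg22 yg13 zg37) (kg xg27 yg10 zg4) (kg xg21 yg35 zg26)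 (kg xg21 yg2 zg57) (kg xg27 yg15 zg23) (kg xg9 yg27 zg16) (kg xg9 yg27 zg13) (kg xg23 yg4 zg60) (kg xg16 yg0 zg28) (kg xg18 yg44 zg19)) (@D3.rec (fun _ => Pt) (kg xg27 yg9 zg11) (kg xg27 yg15 zg28) (kg xg18 yg31 zg29) (kg xg27 yg15 zg31) (kg xg27 yg15 zg35) (kg xg27 yg10 zg11) (kg xg9 yg27 zg17) (kg xg27 yg15 zg41) (kg xg23 yg0 zg50) (kg xg15 yg41 zg0) (kg xg27 yg15 zg43) (kg xg15 yg41 zg3) (kg xg27 yg15 zg45) (kg xg9 yg27 zg20) (kg xg27 yg15 zg46) (kg xg27 yg15 zg54) (kg xg27 yg15 zg48) (kg xg25 yg35 zg30) (kg xg15 yg58 zg15) (kg xg9 yg27 zg23) (kg xg27 yg16 zg0) (kg xg27 yg3 zg11) (kg xg27 yg16 zg3) (kg xg23 yg57 zg54) (kg xg9 yg27 zg28) (kg xg9 yg27 zg26) (kg xg22 yg0 zg7) (kg xg27 yg16 zg12) (kg xg12 yg11 zg14) (kg xg22 yg0 zg6) (kg xg27 yg11 zg44) (kg xg22 yg0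 zg3) (kg xg25 yg32 zg22) (kg xg23 yg19 zg47) (kg xg17 yg20 zg47) (kg xg13 yg11 zg45) (kg xg12 yg52 zg7) (kg xg9 yg27 zg31) (kg xg27 yg16 zg31) (kg xg12 yg52 zg34) (kg xg13 yg1 zg43) (kg xg12 yg44 zg61) (kg xg14 yg16 zg47) (kg xg17 yg20 zg26) (kg xg10 yg53 zg61) (kg xg18 yg57 zg9) (kg xg11 yg35 zg28) (kg xg19 yg10 zg1) (kg xg21 yg39 zg55) (kg xg27 yg10 zg15) (kg xg9 yg27 zg38) (kg xg10 yg18 zg25) (kg xg11 yg33 zg52) (kg xg9 yg30 zg30) (kg xg22 yg6 zg29) (kg xg12 yg4 zg32) (kg xg20 yg27 zg23) (kg xg12 yg57 zg8) (kg xg20 yg27 zg21) (kg xg24 yg12 zg43) (kg xg27 yg16 zg46) (kg xg9 yg27 zg44)) (@D3.rec (fun _ => Pt) (kg xg16 yg58 zg13) (kg xg25 yg54 zg39) (kg xg25 yg43 zg59) (kg xg25 yg43 zg58) (kg xg9 yg27 zg46) (kg xg23 yg48 zg55) (kg xg25 yg48 zg22) (kg xg14 yg16 zg20)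 (kg xg17 yg17 zg41) (kg xg27 yg17 zg0) (kg xg22 yg11 zg22) (kg xg21 yg52 zg26) (kg xg9 yg29 zg23) (kg xg9 yg29 zg35) (kg xg27 yg17 zg7) (kg xg19 yg22 zg20) (kg xg12 yg52 zg1) (kg xg27 yg17 zg11) (kg xg9 yg28 zg41) (kg xg27 yg17 zg13) (kg xg12 yg52 zg33) (kg xg12 yg19 zg59) (kg xg9 yg27 zg61) (kg xg27 yg17 zg18) (kg xg16 yg43 zg1) (kg xg9 yg27 zg60) (kg xg27 yg17 zg22) (kg xg22 yg0 zg17) (kg xg27 yg17 zg26) (kg xg22 yg0 zg14) (kg xg27 yg17 zg30) (kg xg21 yg58 zg58) (kg xg27 yg17 zg2) (kg xg9 yg28 zg2) (kg xg27 yg17 zg1) (kg xg15 yg59 zg24) (kg xg12 yg52 zg10) (kg xg9 yg28 zg3) (kg xg12 yg52 zg3) (kg xg26 yg46 zg16) (kg xg22 yg10 zg38) (kg xg12 yg11 zg46) (kg xg21 yg17 zg13) (kg xg9 yg28 zg6) (kg xg21 yg17 zg12) (kg xg27 yg1 zg40) (kg xg19 yg44 zg41) (kg xg17 yg10 zg26)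 (kg xg9 yg28 zg8) (kg xg17 yg10 zg25) (kg xg27 yg17 zg56) (kg xg19 yg35 zg55) (kg xg19 yg46 zg1) (kg xg21 yg16 zg23) (kg xg9 yg28 zg12) (kg xg21 yg16 zg22) (kg xg27 yg1 zg48) (kg xg19 yg46 zg7) (kg xg21 yg17 zg24) (kg xg9 yg28 zg15) (kg xg21 yg17 zg23) (kg xg27 yg18 zg8)) (@D3.rec (fun _ => Pt) (kg xg26 yg14 zg9) (kg xg15 yg35 zg55) (kg xg21 yg17 zg28) (kg xg9 yg28 zg18) (kg xg16 yg0 zg29) (kg xg27 yg18 zg16) (kg xg25 yg30 zg25) (kg xg21 yg34 zg4) (kg xg21 yg27 zg13) (kg xg21 yg23 zg36) (kg xg27 yg18 zg20) (kg xg17 yg14 zg46) (kg xg21 yg17 zg36) (kg xg21 yg17 zg34) (kg xg9 yg28 zg23) (kg xg27 yg18 zg29) (kg xg27 yg18 zg33) (kg xg27 yg18 zg3) (kg xg19 yg44 zg49) (kg xg27 yg18 zg14) (kg xg27 yg18 zg37) (kg xg27 yg18 zg39) (kg xg27 yg18 zg43) (kg xg27 yg7 zg57) (kg xg9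 yg28 zg27) (kg xg25 yg30 zg44) (kg xg26 yg53 zg20) (kg xg20 yg54 zg31) (kg xg9 yg28 zg43) (kg xg27 yg18 zg52) (kg xg21 yg16 zg30) (kg xg27 yg18 zg55) (kg xg21 yg21 zg0) (kg xg17 yg11 zg45) (kg xg14 yg22 zg7) (kg xg9 yg28 zg35) (kg xg24 yg15 zg5) (kg xg14 yg13 zg56) (kg xg14 yg16 zg11) (kg xg24 yg6 zg19) (kg xg26 yg38 zg35) (kg xg27 yg19 zg7) (kg xg14 yg43 zg45) (kg xg27 yg19 zg3) (kg xg19 yg53 zg28) (kg xg24 yg11 zg33) (kg xg21 yg16 zg51) (kg xg27 yg19 zg17) (kg xg13 yg17 zg44) (kg xg21 yg16 zg50) (kg xg27 yg0 zg4) (kg xg9 yg28 zg42) (kg xg26 yg34 zg38) (kg xg27 yg19 zg23) (kg xg12 yg11 zg29) (kg xg26 yg55 zg55) (kg xg21 yg16 zg55) (kg xg27 yg19 zg27) (kg xg9 yg28 zg49) (kg xg9 yg28 zg45) (kg xg19 yg38 zg40) (kg xg15 yg46 zg45)) (@D3.rec (fun _ => Pt) (kg xg24 yg15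 zg21) (kg xg12 yg2 zg47) (kg xg19 yg17 zg24) (kg xg16 yg36 zg60) (kg xg27 yg19 zg37) (kg xg15 yg21 zg44) (kg xg21 yg39 zg32) (kg xg15 yg33 zg50) (kg xg21 yg58 zg3) (kg xg21 yg39 zg40) (kg xg27 yg19 zg43) (kg xg17 yg12 zg6) (kg xg21 yg9 zg58) (kg xg25 yg35 zg40) (kg xg9 yg28 zg54) (kg xg25 yg35 zg44) (kg xg17 yg29 zg44) (kg xg25 yg35 zg37) (kg xg9 yg28 zg55) (kg xg27 yg19 zg20) (kg xg13 yg15 zg18) (kg xg13 yg15 zg17) (kg xg27 yg19 zg50) (kg xg21 yg56 zg12) (kg xg12 yg50 zg44) (kg xg9 yg28 zg60) (kg xg12 yg50 zg43) (kg xg12 yg50 zg41) (kg xg9 yg28 zg61) (kg xg12 yg50 zg40) (kg xg12 yg39 zg20) (kg xg21 yg46 zg37) (kg xg9 yg29 zg4) (kg xg9 yg29 zg7) (kg xg27 yg19 zg59) (kg xg25 yg13 zg3) (kg xg22 yg2 zg30) (kg xg9 yg29 zg5) (kg xg21 yg56 zg27) (kg xg27 yg19 zg60) (kg xg12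 yg24 zg25) (kg xg27 yg20 zg1) (kg xg27 yg19 zg57) (kg xg9 yg29 zg6) (kg xg27 yg20 zg5) (kg xg21 yg50 zg18) (kg xg26 yg5 zg46) (kg xg11 yg22 zg45) (kg xg9 yg29 zg10) (kg xg25 yg18 zg52) (kg xg12 yg49 zg10) (kg xg13 yg1 zg58) (kg xg9 yg29 zg25) (kg xg20 yg17 zg40) (kg xg21 yg36 zg38) (kg xg9 yg29 zg15) (kg xg25 yg29 zg53) (kg xg12 yg19 zg58) (kg xg11 yg11 zg51) (kg xg20 yg13 zg13) (kg xg14 yg46 zg38) (kg xg9 yg29 zg18)) (@D3.rec (fun _ => Pt) (kg xg20 yg17 zg33) (kg xg23 yg34 zg30) (kg xg20 yg0 zg25) (kg xg9 yg29 zg21) (kg xg18 yg16 zg12) (kg xg11 yg14 zg32) (kg xg27 yg20 zg15) (kg xg27 yg20 zg20) (kg xg19 yg39 zg45) (kg xg21 yg36 zg49) (kg xg20 yg19 zg58) (kg xg20 yg15 zg13) (kg xg9 yg29 zg24) (kg xg27 yg20 zg23) (kg xg13 yg40 zg57) (kg xg21 yg38 zg21) (kg xg12 yg19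 zg45) (kg xg16 yg18 zg56) (kg xg22 yg11 zg40) (kg xg9 yg29 zg29) (kg xg20 yg5 zg33) (kg xg18 yg16 zg11) (kg xg26 yg15 zg14) (kg xg18 yg16 zg39) (kg xg9 yg54 zg20) (kg xg13 yg13 zg31) (kg xg27 yg20 zg32) (kg xg21 yg26 zg11) (kg xg26 yg12 zg16) (kg xg17 yg37 zg43) (kg xg22 yg34 zg32) (kg xg24 yg18 zg26) (kg xg27 yg17 zg6) (kg xg9 yg29 zg37) (kg xg18 yg33 zg41) (kg xg18 yg31 zg53) (kg xg21 yg58 zg34) (kg xg12 yg52 zg46) (kg xg9 yg29 zg39) (kg xg12 yg52 zg45) (kg xg12 yg33 zg3) (kg xg9 yg29 zg40) (kg xg21 yg21 zg30) (kg xg19 yg10 zg50) (kg xg12 yg33 zg4) (kg xg9 yg29 zg43) (kg xg14 yg44 zg39) (kg xg12 yg52 zg41) (kg xg9 yg29 zg44) (kg xg12 yg52 zg40) (kg xg21 yg21 zg44) (kg xg12 yg16 zg56) (kg xg9 yg29 zg48) (kg xg9 yg29 zg51) (kg xg21 yg32 zg57) (kg xg27 yg20 zg53) (kg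 xg12 yg12 zg45) (kg xg26 yg4 zg0) (kg xg9 yg29 zg49) (kg xg25 yg31 zg8) (kg xg27 yg20 zg54) (kg xg20 yg9 zg53)) (@D3.rec (fun _ => Pt) (kg xg26 yg46 zg34) (kg xg27 yg20 zg51) (kg xg9 yg29 zg50) (kg xg12 yg36 zg21) (kg xg21 yg59 zg31) (kg xg17 yg17 zg49) (kg xg9 yg49 zg37) (kg xg19 yg26 zg51) (kg xg21 yg16 zg13) (kg xg22 yg18 zg0) (kg xg24 yg30 zg32) (kg xg20 yg48 zg18) (kg xg26 yg50 zg24) (kg xg13 yg8 zg17) (kg xg9 yg30 zg42) (kg xg27 yg10 zg41) (kg xg9 yg30 zg1) (kg xg27 yg10 zg46) (kg xg21 yg49 zg50) (kg xg9 yg30 zg2) (kg xg27 yg21 zg2) (kg xg11 yg44 zg52) (kg xg22 yg18 zg3) (kg xg13 yg9 zg9) (kg xg9 yg30 zg57) (kg xg13 yg9 zg11) (kg xg17 yg50 zg19) (kg xg11 yg48 zg29) (kg xg9 yg30 zg13) (kg xg20 yg46 zg55) (kg xg27 yg21 zg9) (kg xg19 yg50 zg25) (kg xg27 yg21 zg6)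 (kg xg9 yg30 zg14) (kg xg20 yg23 zg30) (kg xg20 yg41 zg60) (kg xg18 yg47 zg44) (kg xg26 yg19 zg39) (kg xg18 yg46 zg47) (kg xg11 yg44 zg16) (kg xg9 yg30 zg19) (kg xg11 yg44 zg14) (kg xg11 yg44 zg22) (kg xg9 yg30 zg20) (kg xg27 yg12 zg21) (kg xg16 yg29 zg17) (kg xg11 yg43 zg57) (kg xg18 yg41 zg59) (kg xg18 yg43 zg12) (kg xg9 yg30 zg27) (kg xg12 yg55 zg15) (kg xg20 yg42 zg30) (kg xg11 yg44 zg2) (kg xg22 yg11 zg37) (kg xg11 yg10 zg12) (kg xg25 yg26 zg13) (kg xg19 yg25 zg0) (kg xg9 yg31 zg7) (kg xg11 yg20 zg29) (kg xg11 yg43 zg55) (kg xg18 yg13 zg55) (kg xg9 yg30 zg40)) (@D3.rec (fun _ => Pt) (kg xg12 yg55 zg0) (kg xg13 yg8 zg19) (kg xg18 yg16 zg0) (kg xg27 yg16 zg39) (kg xg13 yg10 zg19) (kg xg19 yg37 zg29) (kg xg11 yg54 zg50) (kg xg11 yg54 zg47) (kg xg24 yg7 zg50) (kg xg11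 yg55 zg23) (kg xg26 yg47 zg3) (kg xg24 yg36 zg49) (kg xg9 yg30 zg47) (kg xg20 yg48 zg41) (kg xg20 yg14 zg57) (kg xg12 yg55 zg31) (kg xg14 yg20 zg8) (kg xg25 yg23 zg40) (kg xg22 yg7 zg32) (kg xg15 yg29 zg56) (kg xg9 yg30 zg53) (kg xg15 yg28 zg20) (kg xg25 yg40 zg43) (kg xg27 yg0 zg52) (kg xg20 yg41 zg38) (kg xg11 yg44 zg41) (kg xg14 yg26 zg23) (kg xg27 yg16 zg60) (kg xg24 yg0 zg41) (kg xg27 yg21 zg42) (kg xg21 yg38 zg48) (kg xg20 yg41 zg24) (kg xg25 yg22 zg5) (kg xg19 yg25 zg60) (kg xg10 yg51 zg19) (kg xg11 yg2 zg8) (kg xg11 yg10 zg22) (kg xg27 yg21 zg48) (kg xg15 yg17 zg11) (kg xg11 yg54 zg37) (kg xg11 yg39 zg51) (kg xg15 yg28 zg51) (kg xg11 yg58 zg28) (kg xg19 yg27 zg48) (kg xg18 yg52 zg48) (kg xg19 yg24 zg45) (kg xg19 yg45 zg9) (kg xg16 yg47 zg12) (kg xg9 yg31 zg5)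 (kg xg12 yg55 zg58) (kg xg15 yg31 zg42) (kg xg27 yg21 zg53) (kg xg22 yg4 zg49) (kg xg24 yg16 zg4) (kg xg27 yg13 zg21) (kg xg9 yg31 zg8) (kg xg27 yg13 zg20) (kg xg27 yg13 zg16) (kg xg19 yg24 zg57) (kg xg21 yg0 zg37) (kg xg11 yg16 zg36) (kg xg9 yg31 zg10)) (@D3.rec (fun _ => Pt) (kg xg10 yg44 zg12) (kg xg19 yg26 zg36) (kg xg11 yg55 zg12) (kg xg21 yg2 zg33) (kg xg11 yg55 zg14) (kg xg27 yg21 zg3) (kg xg19 yg25 zg18) (kg xg24 yg46 zg18) (kg xg20 yg0 zg14) (kg xg9 yg31 zg19) (kg xg19 yg24 zg20) (kg xg16 yg14 zg14) (kg xg19 yg25 zg9) (kg xg9 yg31 zg22) (kg xg27 yg22 zg2) (kg xg9 yg31 zg24) (kg xg12 yg55 zg35) (kg xg21 yg25 zg47) (kg xg12 yg54 zg20) (kg xg21 yg51 zg19) (kg xg25 yg44 zg23) (kg xg12 yg14 zg19) (kg xg12 yg21 zg46) (kg xg18 yg57 zg59) (kg xg21 yg20 zg16) (kg xg12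 yg21 zg44) (kg xg9 yg31 zg33) (kg xg27 yg22 zg8) (kg xg26 yg46 zg29) (kg xg9 yg31 zg34) (kg xg20 yg35 zg18) (kg xg11 yg49 zg8) (kg xg12 yg54 zg46) (kg xg9 yg31 zg35) (kg xg26 yg8 zg20) (kg xg24 yg19 zg10) (kg xg12 yg55 zg13) (kg xg9 yg31 zg39) (kg xg12 yg55 zg12) (kg xg24 yg34 zg8) (kg xg24 yg34 zg34) (kg xg19 yg23 zg58) (kg xg9 yg40 zg42) (kg xg9 yg31 zg47) (kg xg22 yg4 zg34) (kg xg19 yg47 zg40) (kg xg9 yg31 zg49) (kg xg12 yg55 zg44) (kg xg12 yg55 zg61) (kg xg9 yg31 zg53) (kg xg9 yg31 zg58) (kg xg10 yg33 zg40) (kg xg18 yg52 zg43) (kg xg27 yg22 zg27) (kg xg17 yg52 zg12) (kg xg9 yg31 zg56) (kg xg23 yg13 zg0) (kg xg27 yg22 zg22) (kg xg22 yg4 zg52) (kg xg20 yg5 zg29) (kg xg12 yg4 zg11) (kg xg12 yg4 zg12)) (@D3.rec (fun _ => Pt) (kg xg9 yg31 zg57) (kg xg27 yg22 zg34) (kg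 xg20 yg44 zg7) (kg xg27 yg22 zg36) (kg xg11 yg12 zg27) (kg xg9 yg31 zg59) (kg xg14 yg16 zg22) (kg xg13 yg17 zg51) (kg xg15 yg26 zg57) (kg xg12 yg57 zg4) (kg xg12 yg57 zg1) (kg xg9 yg32 zg4) (kg xg14 yg16 zg19) (kg xg21 yg38 zg53) (kg xg13 yg17 zg49) (kg xg17 yg25 zg39) (kg xg22 yg47 zg2) (kg xg12 yg56 zg36) (kg xg9 yg50 zg13) (kg xg9 yg50 zg39) (kg xg9 yg47 zg19) (kg xg18 yg10 zg30) (kg xg9 yg47 zg20) (kg xg10 yg45 zg3) (kg xg12 yg49 zg34) (kg xg13 yg2 zg15) (kg xg17 yg32 zg21) (kg xg11 yg5 zg29) (kg xg11 yg55 zg13) (kg xg11 yg54 zg45) (kg xg9 yg32 zg16) (kg xg25 yg22 zg1) (kg xg19 yg26 zg59) (kg xg27 yg22 zg53) (kg xg18 yg33 zg56) (kg xg9 yg50 zg36) (kg xg11 yg57 zg7) (kg xg21 yg57 zg55) (kg xg12 yg56 zg23) (kg xg10 yg16 zg50) (kg xg12 yg57 zg61) (kg xg9 yg32 zg21)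 (kg xg21 yg28 zg20) (kg xg13 yg2 zg13) (kg xg14 yg35 zg26) (kg xg12 yg8 zg3) (kg xg11 yg11 zg53) (kg xg20 yg22 zg37) (kg xg18 yg24 zg9) (kg xg9 yg32 zg56) (kg xg9 yg32 zg36) (kg xg9 yg32 zg55) (kg xg27 yg23 zg3) (kg xg12 yg58 zg20) (kg xg21 yg45 zg12) (kg xg12 yg4 zg3) (kg xg12 yg35 zg38) (kg xg13 yg52 zg26) (kg xg12 yg33 zg14) (kg xg27 yg23 zg5) (kg xg17 yg22 zg11) (kg xg12 yg58 zg39)) (@D3.rec (fun _ => Pt) (kg xg20 yg42 zg24) (kg xg23 yg47 zg33) (kg xg21 yg41 zg5) (kg xg20 yg37 zg33) (kg xg24 yg19 zg48) (kg xg27 yg23 zg8) (kg xg21 yg20 zg46) (kg xg18 yg57 zg23) (kg xg18 yg57 zg21) (kg xg27 yg23 zg16) (kg xg21 yg28 zg21) (kg xg21 yg25 zg42) (kg xg27 yg23 zg17) (kg xg21 yg42 zg27) (kg xg21 yg42 zg26) (kg xg11 yg59 zg54) (kg xg22 yg8 zg50) (kg xg27 yg23 zg21) (kg xg21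 yg10 zg18) (kg xg16 yg0 zg11) (kg xg22 yg10 zg32) (kg xg21 yg59 zg18) (kg xg9 yg33 zg6) (kg xg17 yg42 zg4) (kg xg9 yg33 zg12) (kg xg9 yg33 zg9) (kg xg27 yg1 zg38) (kg xg27 yg23 zg32) (kg xg27 yg23 zg35) (kg xg21 yg24 zg13) (kg xg17 yg14 zg30) (kg xg12 yg20 zg14) (kg xg13 yg0 zg43) (kg xg26 yg14 zg42) (kg xg27 yg23 zg33) (kg xg9 yg33 zg13) (kg xg16 yg29 zg48) (kg xg12 yg59 zg51) (kg xg27 yg23 zg41) (kg xg10 yg33 zg32) (kg xg15 yg27 zg44) (kg xg14 yg30 zg37) (kg xg27 yg23 zg43) (kg xg10 yg33 zg39) (kg xg15 yg28 zg27) (kg xg18 yg52 zg39) (kg xg11 yg4 zg24) (kg xg19 yg7 zg47) (kg xg9 yg33 zg20) (kg xg19 yg7 zg46) (kg xg27 yg15 zg39) (kg xg25 yg50 zg22) (kg xg9 yg41 zg6) (kg xg15 yg52 zg34) (kg xg9 yg33 zg23) (kg xg15 yg52 zg33) (kg xg25 yg14 zg53) (kg xg25 yg10 zg55) (kg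 xg15 yg16 zg55) (kg xg9 yg44 zg30) (kg xg9 yg33 zg33) (kg xg15 yg16 zg50)) (@D3.rec (fun _ => Pt) (kg xg9 yg33 zg28) (kg xg27 yg24 zg5) (kg xg15 yg22 zg16) (kg xg23 yg1 zg34) (kg xg15 yg22 zg41) (kg xg11 yg4 zg25) (kg xg9 yg33 zg35) (kg xg9 yg33 zg38) (kg xg26 yg0 zg4) (kg xg27 yg24 zg13) (kg xg27 yg24 zg18) (kg xg27 yg24 zg19) (kg xg9 yg33 zg36) (kg xg10 yg45 zg1) (kg xg27 yg24 zg14) (kg xg18 yg5 zg45) (kg xg27 yg24 zg4) (kg xg27 yg24 zg27) (kg xg27 yg24 zg8) (kg xg9 yg33 zg37) (kg xg27 yg24 zg32) (kg xg27 yg24 zg28) (kg xg25 yg54 zg60) (kg xg27 yg17 zg40) (kg xg27 yg24 zg36) (kg xg15 yg49 zg0) (kg xg9 yg34 zg57) (kg xg9 yg33 zg45) (kg xg9 yg34 zg56) (kg xg17 yg41 zg31) (kg xg23 yg1 zg53) (kg xg27 yg24 zg41) (kg xg9 yg34 zg37) (kg xg16 yg17 zg1) (kg xg9 yg34 zg29)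 (kg xg9 yg33 zg48) (kg xg9 yg34 zg28) (kg xg25 yg28 zg54) (kg xg27 yg5 zg48) (kg xg14 yg57 zg1) (kg xg9 yg35 zg2) (kg xg27 yg24 zg52) (kg xg9 yg35 zg34) (kg xg9 yg33 zg52) (kg xg9 yg35 zg33) (kg xg17 yg38 zg35) (kg xg22 yg11 zg15) (kg xg25 yg0 zg28) (kg xg9 yg35 zg19) (kg xg15 yg19 zg1) (kg xg10 yg8 zg4) (kg xg9 yg35 zg41) (kg xg9 yg35 zg39) (kg xg9 yg33 zg61) (kg xg9 yg34 zg2) (kg xg26 yg11 zg32) (kg xg18 yg7 zg1) (kg xg27 yg25 zg10) (kg xg12 yg50 zg16) (kg xg9 yg34 zg0) (kg xg27 yg25 zg12) (kg xg16 yg17 zg9)) (@D3.rec (fun _ => Pt) (kg xg17 yg37 zg24) (kg xg14 yg4 zg36) (kg xg17 yg41 zg19) (kg xg17 yg41 zg20) (kg xg9 yg34 zg1) (kg xg26 yg12 zg12) (kg xg26 yg12 zg8) (kg xg9 yg36 zg23) (kg xg9 yg34 zg3) (kg xg9 yg36 zg22) (kg xg25 yg47 zg18) (kg xg9 yg34 zg5) (kg xg21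 yg58 zg14) (kg xg27 yg25 zg27) (kg xg15 yg39 zg3) (kg xg14 yg58 zg9) (kg xg17 yg41 zg39) (kg xg16 yg14 zg20) (kg xg9 yg34 zg11) (kg xg16 yg14 zg19) (kg xg16 yg16 zg58) (kg xg25 yg28 zg47) (kg xg9 yg34 zg15) (kg xg25 yg28 zg46) (kg xg17 yg36 zg57) (kg xg18 yg3 zg29) (kg xg27 yg25 zg38) (kg xg15 yg48 zg61) (kg xg9 yg34 zg17) (kg xg16 yg16 zg27) (kg xg16 yg16 zg0) (kg xg9 yg34 zg23) (kg xg23 yg42 zg25) (kg xg9 yg34 zg21) (kg xg26 yg0 zg25) (kg xg24 yg44 zg30) (kg xg27 yg25 zg44) (kg xg17 yg40 zg11) (kg xg15 yg49 zg3) (kg xg20 yg15 zg32) (kg xg9 yg34 zg24) (kg xg26 yg4 zg10) (kg xg17 yg42 zg57) (kg xg17 yg30 zg31) (kg xg27 yg25 zg49) (kg xg18 yg6 zg51) (kg xg22 yg8 zg12) (kg xg15 yg46 zg48) (kg xg17 yg39 zg6) (kg xg20 yg4 zg8) (kg xg26 yg12 zg20) (kg xg27 yg25 zg54) (kg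 xg16 yg1 zg24) (kg xg9 yg44 zg53) (kg xg25 yg58 zg53) (kg xg27 yg26 zg0) (kg xg27 yg24 zg47) (kg xg9 yg34 zg30) (kg xg26 yg11 zg54) (kg xg27 yg26 zg8) (kg xg27 yg26 zg3) (kg xg9 yg34 zg31)) (@D3.rec (fun _ => Pt) (kg xg27 yg26 zg13) (kg xg27 yg26 zg1) (kg xg9 yg34 zg60) (kg xg17 yg37 zg6) (kg xg27 yg24 zg43) (kg xg9 yg34 zg33) (kg xg18 yg27 zg25) (kg xg27 yg24 zg42) (kg xg27 yg26 zg24) (kg xg12 yg19 zg7) (kg xg17 yg41 zg44) (kg xg26 yg4 zg39) (kg xg9 yg34 zg36) (kg xg15 yg23 zg58) (kg xg16 yg17 zg4) (kg xg19 yg0 zg46) (kg xg9 yg54 zg14) (kg xg9 yg34 zg40) (kg xg9 yg53 zg27) (kg xg9 yg34 zg42) (kg xg18 yg4 zg58) (kg xg16 yg17 zg21) (kg xg24 yg52 zg26) (kg xg9 yg34 zg46) (kg xg26 yg1 zg19) (kg xg14 yg47 zg2) (kg xg26 yg2 zg52) (kg xg15 yg47 zg54) (kg xg15 yg34 zg46) (kg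 xg9 yg34 zg51) (kg xg15 yg34 zg45) (kg xg22 yg11 zg29) (kg xg27 yg26 zg38) (kg xg23 yg1 zg55) (kg xg25 yg38 zg36) (kg xg17 yg39 zg48) (kg xg16 yg20 zg4) (kg xg9 yg39 zg11) (kg xg27 yg24 zg39) (kg xg22 yg8 zg8) (kg xg27 yg24 zg38) (kg xg9 yg34 zg58) (kg xg18 yg4 zg50) (kg xg27 yg26 zg4) (kg xg24 yg43 zg7) (kg xg9 yg34 zg59) (kg xg27 yg26 zg51) (kg xg13 yg52 zg59) (kg xg27 yg24 zg51) (kg xg27 yg24 zg50) (kg xg26 yg16 zg39) (kg xg9 yg35 zg1) (kg xg18 yg6 zg57) (kg xg26 yg6 zg24) (kg xg24 yg43 zg17) (kg xg21 yg42 zg3) (kg xg15 yg6 zg39) (kg xg25 yg17 zg60) (kg xg14 yg57 zg0) (kg xg9 yg35 zg6) (kg xg14 yg56 zg61) (kg xg18 yg3 zg52)) (@D3.rec (fun _ => Pt) (kg xg16 yg18 zg50) (kg xg16 yg14 zg36) (kg xg15 yg47 zg1) (kg xg18 yg4 zg1) (kg xg15 yg6 zg49) (kg xg16 yg6 zg61) (kg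 xg17 yg37 zg52) (kg xg26 yg14 zg10) (kg xg25 yg58 zg47) (kg xg9 yg35 zg11) (kg xg27 yg27 zg3) (kg xg25 yg32 zg42) (kg xg26 yg14 zg8) (kg xg26 yg16 zg58) (kg xg26 yg14 zg0) (kg xg27 yg26 zg59) (kg xg27 yg27 zg10) (kg xg16 yg14 zg35) (kg xg27 yg24 zg61) (kg xg9 yg35 zg15) (kg xg27 yg27 zg16) (kg xg27 yg24 zg59) (kg xg20 yg4 zg0) (kg xg12 yg50 zg25) (kg xg20 yg3 zg59) (kg xg25 yg18 zg1) (kg xg9 yg35 zg18) (kg xg25 yg15 zg39) (kg xg26 yg5 zg15) (kg xg16 yg17 zg24) (kg xg20 yg4 zg5) (kg xg15 yg20 zg23) (kg xg20 yg4 zg3) (kg xg25 yg6 zg48) (kg xg9 yg35 zg24) (kg xg9 yg35 zg29) (kg xg19 yg5 zg39) (kg xg19 yg5 zg38) (kg xg14 yg56 zg8) (kg xg16 yg3 zg37) (kg xg24 yg32 zg28) (kg xg15 yg24 zg38) (kg xg16 yg3 zg39) (kg xg15 yg24 zg37) (kg xg27 yg26 zg61) (kg xg24 yg45 zg20) (kg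 xg9 yg37 zg17) (kg xg16 yg18 zg46) (kg xg9 yg35 zg52) (kg xg9 yg35 zg35) (kg xg16 yg14 zg31) (kg xg26 yg16 zg30) (kg xg22 yg18 zg56) (kg xg9 yg35 zg37) (kg xg18 yg8 zg50) (kg xg25 yg0 zg29) (kg xg16 yg18 zg45) (kg xg27 yg26 zg60) (kg xg14 yg4 zg35) (kg xg25 yg15 zg58) (kg xg26 yg10 zg56) (kg xg26 yg11 zg22)) (@D3.rec (fun _ => Pt) (kg xg26 yg14 zg43) (kg xg26 yg10 zg28) (kg xg26 yg10 zg45) (kg xg9 yg36 zg15) (kg xg26 yg11 zg36) (kg xg26 yg11 zg34) (kg xg9 yg35 zg49) (kg xg27 yg27 zg46) (kg xg9 yg37 zg15) (kg xg9 yg35 zg50) (kg xg17 yg45 zg27) (kg xg27 yg25 zg11) (kg xg27 yg27 zg49) (kg xg9 yg35 zg53) (kg xg25 yg10 zg2) (kg xg25 yg15 zg41) (kg xg27 yg25 zg3) (kg xg25 yg28 zg51) (kg xg25 yg39 zg33) (kg xg9 yg36 zg17) (kg xg10 yg0 zg2) (kg xg25 yg32 zg44) (kg xg27 yg27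 zg57) (kg xg9 yg35 zg58) (kg xg27 yg28 zg0) (kg xg27 yg27 zg59) (kg xg9 yg35 zg59) (kg xg27 yg28 zg2) (kg xg26 yg14 zg6) (kg xg9 yg35 zg60) (kg xg18 yg30 zg16) (kg xg17 yg39 zg50) (kg xg9 yg36 zg10) (kg xg17 yg43 zg1) (kg xg9 yg36 zg2) (kg xg27 yg27 zg53) (kg xg27 yg27 zg60) (kg xg19 yg14 zg55) (kg xg25 yg32 zg41) (kg xg9 yg36 zg7) (kg xg27 yg28 zg12) (kg xg25 yg45 zg20) (kg xg12 yg50 zg11) (kg xg25 yg53 zg57) (kg xg27 yg28 zg16) (kg xg27 yg28 zg13) (kg xg24 yg59 zg5) (kg xg9 yg36 zg13) (kg xg9 yg36 zg8) (kg xg27 yg28 zg19) (kg xg17 yg40 zg52) (kg xg26 yg11 zg30) (kg xg17 yg41 zg3) (kg xg17 yg37 zg59) (kg xg25 yg58 zg40) (kg xg17 yg40 zg50) (kg xg25 yg28 zg53) (kg xg24 yg56 zg5) (kg xg9 yg36 zg11) (kg xg27 yg28 zg30) (kg xg22 yg15 zg11) (kg xg22 yg27 zg57)) (@D3.rec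 (fun _ => Pt) (kg xg27 yg28 zg20) (kg xg27 yg28 zg21) (kg xg9 yg36 zg12) (kg xg17 yg40 zg55) (kg xg24 yg56 zg8) (kg xg17 yg42 zg60) (kg xg9 yg36 zg14) (kg xg18 yg4 zg52) (kg xg26 yg11 zg24) (kg xg17 yg41 zg28) (kg xg23 yg45 zg5) (kg xg25 yg28 zg60) (kg xg9 yg36 zg16) (kg xg25 yg1 zg25) (kg xg25 yg28 zg59) (kg xg26 yg11 zg31) (kg xg9 yg36 zg18) (kg xg25 yg28 zg49) (kg xg17 yg37 zg2) (kg xg9 yg36 zg19) (kg xg17 yg37 zg4) (kg xg27 yg26 zg53) (kg xg17 yg41 zg32) (kg xg9 yg36 zg20) (kg xg27 yg28 zg55) (kg xg17 yg41 zg34) (kg xg27 yg28 zg57) (kg xg27 yg28 zg59) (kg xg27 yg27 zg52) (kg xg17 yg38 zg3) (kg xg26 yg14 zg55) (kg xg17 yg38 zg38) (kg xg17 yg41 zg23) (kg xg17 yg41 zg25) (kg xg9 yg36 zg24) (kg xg27 yg29 zg9) (kg xg15 yg7 zg3) (kg xg9 yg36 zg25) (kg xg18 yg9 zg13) (kg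 xg16 yg7 zg60) (kg xg17 yg45 zg6) (kg xg16 yg17 zg8) (kg xg18 yg6 zg46) (kg xg26 yg2 zg51) (kg xg24 yg44 zg44) (kg xg24 yg49 zg14) (kg xg26 yg47 zg17) (kg xg27 yg24 zg55) (kg xg26 yg12 zg57) (kg xg16 yg16 zg34) (kg xg17 yg38 zg10) (kg xg12 yg18 zg22) (kg xg21 yg34 zg7) (kg xg15 yg2 zg30) (kg xg15 yg27 zg16) (kg xg9 yg36 zg39) (kg xg16 yg13 zg35) (kg xg12 yg35 zg36) (kg xg11 yg16 zg42) (kg xg9 yg36 zg41) (kg xg25 yg42 zg35) (kg xg9 yg36 zg42)) (@D3.rec (fun _ => Pt) (kg xg26 yg58 zg56) (kg xg25 yg42 zg33) (kg xg21 yg10 zg19) (kg xg22 yg3 zg35) (kg xg27 yg29 zg18) (kg xg17 yg16 zg3) (kg xg9 yg36 zg45) (kg xg25 yg44 zg44) (kg xg19 yg20 zg37) (kg xg9 yg36 zg51) (kg xg20 yg16 zg8) (kg xg21 yg51 zg1) (kg xg27 yg29 zg31) (kg xg26 yg5 zg44) (kg xg18 yg52 zg36) (kg xg26 yg5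 zg48) (kg xg21 yg32 zg17) (kg xg25 yg21 zg1) (kg xg17 yg53 zg7) (kg xg16 yg5 zg36) (kg xg15 yg46 zg22) (kg xg9 yg36 zg56) (kg xg11 yg51 zg35) (kg xg16 yg40 zg50) (kg xg9 yg56 zg12) (kg xg11 yg17 zg39) (kg xg9 yg36 zg61) (kg xg16 yg13 zg33) (kg xg27 yg29 zg39) (kg xg17 yg52 zg14) (kg xg9 yg37 zg1) (kg xg27 yg3 zg46) (kg xg21 yg32 zg1) (kg xg27 yg29 zg37) (kg xg9 yg56 zg7) (kg xg27 yg29 zg45) (kg xg17 yg44 zg58) (kg xg21 yg31 zg21) (kg xg18 yg37 zg18) (kg xg25 yg36 zg54) (kg xg21 yg31 zg12) (kg xg18 yg37 zg27) (kg xg27 yg20 zg31) (kg xg26 yg10 zg57) (kg xg22 yg8 zg13) (kg xg17 yg43 zg4) (kg xg9 yg37 zg14) (kg xg15 yg37 zg55) (kg xg25 yg29 zg52) (kg xg27 yg27 zg4) (kg xg9 yg37 zg20) (kg xg27 yg28 zg10) (kg xg26 yg3 zg41) (kg xg21 yg23 zg1) (kg xg12 yg50 zg27) (kg xg15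 yg58 zg35) (kg xg17 yg44 zg32) (kg xg27 yg27 zg12) (kg xg25 yg45 zg21) (kg xg27 yg29 zg61) (kg xg17 yg41 zg6) (kg xg25 yg45 zg59)) (@D3.rec (fun _ => Pt) (kg xg17 yg40 zg33) (kg xg9 yg37 zg25) (kg xg27 yg30 zg3) (kg xg17 yg42 zg45) (kg xg26 yg15 zg21) (kg xg17 yg45 zg19) (kg xg27 yg30 zg4) (kg xg19 yg38 zg49) (kg xg19 yg36 zg12) (kg xg27 yg30 zg5) (kg xg15 yg16 zg29) (kg xg11 yg43 zg5) (kg xg9 yg37 zg35) (kg xg27 yg30 zg18) (kg xg11 yg43 zg7) (kg xg15 yg18 zg13) (kg xg9 yg37 zg36) (kg xg15 yg18 zg12) (kg xg16 yg13 zg24) (kg xg19 yg45 zg56) (kg xg16 yg1 zg6) (kg xg18 yg52 zg37) (kg xg25 yg23 zg19) (kg xg24 yg54 zg57) (kg xg25 yg11 zg43) (kg xg18 yg8 zg13) (kg xg26 yg9 zg11) (kg xg26 yg6 zg38) (kg xg19 yg54 zg28) (kg xg26 yg14 zg29) (kg xg9 yg37 zg52) (kg xg9 yg37 zg56)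 (kg xg27 yg29 zg19) (kg xg15 yg43 zg3) (kg xg25 yg20 zg36) (kg xg25 yg45 zg32) (kg xg23 yg37 zg48) (kg xg15 yg34 zg51) (kg xg21 yg10 zg12) (kg xg16 yg15 zg39) (kg xg18 yg16 zg31) (kg xg16 yg13 zg60) (kg xg27 yg29 zg17) (kg xg9 yg38 zg26) (kg xg11 yg19 zg31) (kg xg16 yg16 zg48) (kg xg27 yg4 zg22) (kg xg9 yg38 zg2) (kg xg11 yg19 zg1) (kg xg27 yg20 zg10) (kg xg21 yg23 zg30) (kg xg9 yg38 zg4) (kg xg17 yg42 zg49) (kg xg27 yg30 zg32) (kg xg27 yg30 zg40) (kg xg16 yg16 zg18) (kg xg9 yg38 zg6) (kg xg27 yg25 zg8) (kg xg16 yg16 zg25) (kg xg24 yg54 zg48) (kg xg16 yg15 zg6) (kg xg17 yg52 zg51)) (@D3.rec (fun _ => Pt) (kg xg9 yg38 zg28) (kg xg16 yg18 zg52) (kg xg16 yg16 zg11) (kg xg27 yg1 zg42) (kg xg10 yg40 zg27) (kg xg21 yg26 zg16) (kg xg9 yg38 zg12) (kg xg27 yg30 zg54) (kg xg27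 yg1 zg39) (kg xg23 yg20 zg60) (kg xg16 yg16 zg54) (kg xg10 yg9 zg0) (kg xg9 yg38 zg16) (kg xg25 yg49 zg60) (kg xg27 yg30 zg58) (kg xg9 yg38 zg20) (kg xg27 yg30 zg61) (kg xg27 yg31 zg2) (kg xg21 yg33 zg58) (kg xg16 yg16 zg41) (kg xg27 yg31 zg4) (kg xg27 yg31 zg0) (kg xg18 yg26 zg29) (kg xg24 yg56 zg24) (kg xg15 yg19 zg49) (kg xg27 yg31 zg6) (kg xg27 yg31 zg7) (kg xg25 yg35 zg7) (kg xg9 yg38 zg25) (kg xg25 yg0 zg60) (kg xg24 yg56 zg4) (kg xg9 yg38 zg24) (kg xg14 yg56 zg44) (kg xg24 yg56 zg21) (kg xg16 yg15 zg42) (kg xg24 yg56 zg16) (kg xg27 yg31 zg17) (kg xg16 yg15 zg16) (kg xg16 yg15 zg9) (kg xg24 yg15 zg32) (kg xg27 yg31 zg20) (kg xg16 yg15 zg50) (kg xg27 yg31 zg23) (kg xg26 yg17 zg48) (kg xg27 yg30 zg47) (kg xg27 yg27 zg30) (kg xg27 yg31 zg28) (kg xg17 yg40 zg0) (kg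 xg15 yg14 zg37) (kg xg16 yg16 zg24) (kg xg17 yg39 zg33) (kg xg9 yg52 zg42) (kg xg9 yg38 zg35) (kg xg18 yg32 zg58) (kg xg15 yg48 zg49) (kg xg17 yg42 zg14) (kg xg26 yg0 zg59) (kg xg27 yg25 zg29) (kg xg20 yg2 zg28) (kg xg16 yg15 zg24) (kg xg9 yg42 zg41) (kg xg12 yg53 zg18)) (@D3.rec (fun _ => Pt) (kg xg26 yg10 zg26) (kg xg9 yg38 zg47) (kg xg25 yg45 zg29) (kg xg9 yg38 zg53) (kg xg21 yg19 zg34) (kg xg24 yg53 zg35) (kg xg25 yg47 zg2) (kg xg21 yg26 zg24) (kg xg21 yg50 zg20) (kg xg22 yg11 zg10) (kg xg15 yg54 zg7) (kg xg10 yg59 zg24) (kg xg12 yg59 zg60) (kg xg9 yg38 zg59) (kg xg17 yg41 zg46) (kg xg12 yg27 zg16) (kg xg25 yg44 zg25) (kg xg21 yg33 zg53) (kg xg24 yg44 zg8) (kg xg12 yg58 zg24) (kg xg23 yg36 zg37) (kg xg14 yg2 zg52) (kg xg26 yg15 zg10) (kg xg9 yg39 zg13) (kg xg9 yg39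 zg9) (kg xg27 yg30 zg60) (kg xg27 yg31 zg50) (kg xg12 yg17 zg38) (kg xg15 yg35 zg33) (kg xg25 yg43 zg3) (kg xg20 yg4 zg14) (kg xg27 yg31 zg56) (kg xg27 yg26 zg47) (kg xg11 yg8 zg6) (kg xg9 yg52 zg60) (kg xg25 yg23 zg55) (kg xg9 yg39 zg24) (kg xg18 yg27 zg59) (kg xg9 yg39 zg25) (kg xg9 yg53 zg43) (kg xg12 yg6 zg31) (kg xg9 yg39 zg26) (kg xg20 yg35 zg2) (kg xg18 yg22 zg19) (kg xg10 yg15 zg2) (kg xg9 yg39 zg30) (kg xg15 yg11 zg3) (kg xg15 yg11 zg24) (kg xg9 yg39 zg32) (kg xg18 yg21 zg52) (kg xg16 yg19 zg32) (kg xg17 yg47 zg1) (kg xg9 yg39 zg35) (kg xg17 yg47 zg0) (kg xg27 yg32 zg10) (kg xg18 yg31 zg36) (kg xg27 yg32 zg12) (kg xg9 yg55 zg16) (kg xg9 yg39 zg37) (kg xg27 yg32 zg17) (kg xg9 yg55 zg14) (kg xg17 yg47 zg11)) (@D3.rec (fun _ => Pt) (kg xg9 yg39 zg39) (kg xg17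 yg47 zg10) (kg xg27 yg32 zg24) (kg xg27 yg32 zg27) (kg xg27 yg32 zg14) (kg xg9 yg57 zg34) (kg xg9 yg39 zg41) (kg xg18 yg11 zg60) (kg xg9 yg57 zg32) (kg xg17 yg47 zg28) (kg xg15 yg25 zg36) (kg xg9 yg39 zg47) (kg xg9 yg42 zg19) (kg xg17 yg47 zg31) (kg xg9 yg39 zg45) (kg xg17 yg47 zg30) (kg xg27 yg32 zg53) (kg xg27 yg32 zg57) (kg xg27 yg32 zg58) (kg xg18 yg11 zg43) (kg xg9 yg57 zg40) (kg xg17 yg47 zg23) (kg xg9 yg39 zg48) (kg xg9 yg39 zg54) (kg xg27 yg33 zg3) (kg xg26 yg4 zg27) (kg xg17 yg47 zg21) (kg xg9 yg39 zg52) (kg xg9 yg39 zg55) (kg xg11 yg23 zg18) (kg xg27 yg33 zg10) (kg xg9 yg39 zg53) (kg xg27 yg32 zg50) (kg xg11 yg23 zg15) (kg xg18 yg8 zg55) (kg xg18 yg35 zg30) (kg xg15 yg10 zg52) (kg xg9 yg53 zg61) (kg xg27 yg33 zg19) (kg xg27 yg32 zg46) (kg xg27 yg33 zg23) (kg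 xg27 yg33 zg26) (kg xg16 yg19 zg44) (kg xg23 yg6 zg31) (kg xg17 yg47 zg55) (kg xg19 yg0 zg28) (kg xg9 yg56 zg25) (kg xg9 yg39 zg61) (kg xg27 yg33 zg33) (kg xg9 yg58 zg19) (kg xg10 yg10 zg17) (kg xg9 yg57 zg42) (kg xg16 yg53 zg43) (kg xg10 yg3 zg28) (kg xg9 yg42 zg4) (kg xg9 yg40 zg3) (kg xg10 yg8 zg37) (kg xg18 yg49 zg30) (kg xg9 yg40 zg4) (kg xg16 yg20 zg55) (kg xg9 yg40 zg6) (kg xg17 yg45 zg53)) (@D3.rec (fun _ => Pt) (kg xg9 yg40 zg7) (kg xg17 yg45 zg52) (kg xg18 yg54 zg40) (kg xg27 yg33 zg54) (kg xg27 yg33 zg56) (kg xg10 yg11 zg8) (kg xg27 yg33 zg61) (kg xg10 yg10 zg0) (kg xg18 yg11 zg33) (kg xg17 yg46 zg1) (kg xg9 yg40 zg12) (kg xg17 yg46 zg0) (kg xg18 yg53 zg52) (kg xg27 yg34 zg9) (kg xg27 yg33 zg59) (kg xg10 yg12 zg30) (kg xg9 yg40 zg14) (kg xg18 yg31 zg38) (kg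 xg10 yg12 zg28) (kg xg17 yg46 zg26) (kg xg10 yg14 zg39) (kg xg9 yg40 zg23) (kg xg17 yg46 zg23) (kg xg17 yg46 zg22) (kg xg18 yg8 zg54) (kg xg27 yg34 zg25) (kg xg23 yg50 zg34) (kg xg18 yg30 zg56) (kg xg17 yg46 zg11) (kg xg17 yg46 zg15) (kg xg9 yg40 zg21) (kg xg17 yg46 zg14) (kg xg27 yg34 zg36) (kg xg27 yg34 zg39) (kg xg27 yg34 zg40) (kg xg18 yg31 zg48) (kg xg10 yg12 zg35) (kg xg9 yg40 zg25) (kg xg9 yg40 zg28) (kg xg27 yg34 zg32) (kg xg21 yg9 zg22) (kg xg10 yg11 zg19) (kg xg27 yg34 zg51) (kg xg9 yg40 zg26) (kg xg9 yg40 zg27) (kg xg20 yg11 zg45) (kg xg10 yg11 zg16) (kg xg27 yg34 zg18) (kg xg10 yg12 zg38) (kg xg27 yg34 zg61) (kg xg26 yg17 zg36) (kg xg27 yg34 zg30) (kg xg27 yg35 zg4) (kg xg22 yg50 zg54) (kg xg17 yg46 zg44) (kg xg9 yg40 zg32) (kg xg16 yg35 zg24) (kg xg19 yg2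 zg26) (kg xg10 yg9 zg39) (kg xg9 yg40 zg34) (kg xg27 yg35 zg16) (kg xg10 yg12 zg20)) (@D3.rec (fun _ => Pt) (kg xg9 yg55 zg21) (kg xg10 yg11 zg56) (kg xg9 yg41 zg55) (kg xg9 yg40 zg36) (kg xg9 yg41 zg54) (kg xg27 yg35 zg24) (kg xg19 yg15 zg45) (kg xg25 yg17 zg42) (kg xg9 yg41 zg27) (kg xg9 yg40 zg39) (kg xg9 yg41 zg26) (kg xg26 yg39 zg39) (kg xg16 yg8 zg43) (kg xg19 yg13 zg14) (kg xg9 yg42 zg32) (kg xg9 yg42 zg31) (kg xg17 yg50 zg16) (kg xg24 yg39 zg15) (kg xg18 yg39 zg26) (kg xg9 yg42 zg16) (kg xg17 yg46 zg10) (kg xg18 yg39 zg16) (kg xg9 yg42 zg39) (kg xg21 yg41 zg36) (kg xg9 yg42 zg37) (kg xg9 yg43 zg1) (kg xg9 yg42 zg48) (kg xg9 yg40 zg51) (kg xg9 yg42 zg47) (kg xg19 yg11 zg0) (kg xg12 yg40 zg56) (kg xg9 yg42 zg42) (kg xg9 yg40 zg55) (kg xg9 yg40 zg58) (kg xg26 yg37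 zg53) (kg xg17 yg8 zg59) (kg xg9 yg40 zg56) (kg xg27 yg35 zg47) (kg xg24 yg50 zg37) (kg xg27 yg35 zg37) (kg xg9 yg43 zg12) (kg xg9 yg40 zg57) (kg xg10 yg32 zg20) (kg xg10 yg22 zg37) (kg xg21 yg23 zg40) (kg xg27 yg35 zg38) (kg xg9 yg41 zg0) (kg xg11 yg3 zg13) (kg xg16 yg42 zg24) (kg xg9 yg41 zg1) (kg xg25 yg31 zg1) (kg xg20 yg53 zg56) (kg xg20 yg57 zg21) (kg xg17 yg52 zg33) (kg xg9 yg41 zg7) (kg xg11 yg8 zg48) (kg xg25 yg31 zg15) (kg xg9 yg41 zg8) (kg xg19 yg19 zg54) (kg xg14 yg53 zg0) (kg xg26 yg36 zg35) (kg xg16 yg11 zg8)) (@D3.rec (fun _ => Pt) (kg xg16 yg11 zg7) (kg xg10 yg55 zg51) (kg xg9 yg41 zg13) (kg xg19 yg10 zg32) (kg xg10 yg55 zg49) (kg xg27 yg36 zg10) (kg xg18 yg20 zg31) (kg xg11 yg4 zg45) (kg xg9 yg41 zg15) (kg xg21 yg16 zg12) (kg xg11 yg4 zg43) (kg xg9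 yg41 zg21) (kg xg19 yg10 zg57) (kg xg9 yg41 zg19) (kg xg19 yg10 zg56) (kg xg27 yg36 zg18) (kg xg27 yg36 zg21) (kg xg27 yg36 zg24) (kg xg20 yg49 zg3) (kg xg11 yg4 zg51) (kg xg18 yg22 zg22) (kg xg9 yg41 zg22) (kg xg21 yg53 zg14) (kg xg19 yg32 zg10) (kg xg17 yg50 zg46) (kg xg20 yg14 zg32) (kg xg27 yg35 zg26) (kg xg27 yg36 zg29) (kg xg16 yg40 zg57) (kg xg25 yg16 zg47) (kg xg26 yg39 zg41) (kg xg27 yg36 zg40) (kg xg27 yg35 zg31) (kg xg9 yg41 zg28) (kg xg27 yg36 zg44) (kg xg27 yg29 zg51) (kg xg14 yg32 zg33) (kg xg9 yg41 zg29) (kg xg27 yg36 zg48) (kg xg27 yg36 zg41) (kg xg27 yg36 zg15) (kg xg10 yg42 zg20) (kg xg27 yg35 zg27) (kg xg9 yg41 zg31) (kg xg27 yg35 zg30) (kg xg19 yg15 zg49) (kg xg27 yg36 zg50) (kg xg15 yg25 zg34) (kg xg11 yg31 zg43) (kg xg24 yg33 zg30) (kg xg17 yg52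 zg39) (kg xg14 yg47 zg37) (kg xg9 yg41 zg34) (kg xg24 yg49 zg58) (kg xg25 yg17 zg43) (kg xg15 yg29 zg7) (kg xg10 yg11 zg55) (kg xg15 yg28 zg57) (kg xg9 yg41 zg38) (kg xg27 yg37 zg1) (kg xg19 yg31 zg9) (kg xg15 yg28 zg55)) (@D3.rec (fun _ => Pt) (kg xg15 yg28 zg32) (kg xg9 yg41 zg40) (kg xg15 yg28 zg31) (kg xg27 yg37 zg11) (kg xg13 yg45 zg52) (kg xg9 yg41 zg44) (kg xg15 yg51 zg24) (kg xg22 yg23 zg5) (kg xg19 yg36 zg10) (kg xg24 yg49 zg7) (kg xg9 yg41 zg49) (kg xg19 yg20 zg30) (kg xg27 yg37 zg20) (kg xg27 yg37 zg23) (kg xg14 yg47 zg46) (kg xg13 yg9 zg30) (kg xg17 yg51 zg17) (kg xg22 yg5 zg21) (kg xg18 yg35 zg14) (kg xg19 yg40 zg31) (kg xg26 yg15 zg4) (kg xg9 yg41 zg56) (kg xg14 yg32 zg29) (kg xg26 yg2 zg58) (kg xg24 yg19 zg11) (kg xg9 yg41 zg58) (kg xg18 yg36 zg23) (kg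 xg12 yg15 zg52) (kg xg17 yg5 zg14) (kg xg15 yg36 zg33) (kg xg24 yg19 zg7) (kg xg12 yg37 zg38) (kg xg11 yg48 zg55) (kg xg27 yg0 zg58) (kg xg12 yg27 zg45) (kg xg10 yg40 zg39) (kg xg26 yg20 zg8) (kg xg18 yg13 zg34) (kg xg18 yg50 zg59) (kg xg9 yg42 zg6) (kg xg18 yg50 zg58) (kg xg18 yg41 zg52) (kg xg16 yg39 zg45) (kg xg27 yg37 zg40) (kg xg24 yg48 zg53) (kg xg15 yg19 zg14) (kg xg17 yg49 zg28) (kg xg21 yg7 zg46) (kg xg9 yg42 zg11) (kg xg18 yg12 zg40) (kg xg27 yg37 zg35) (kg xg18 yg32 zg10) (kg xg10 yg3 zg45) (kg xg27 yg37 zg47) (kg xg13 yg53 zg45) (kg xg9 yg42 zg14) (kg xg19 yg18 zg56) (kg xg27 yg37 zg51) (kg xg15 yg36 zg32) (kg xg15 yg33 zg15) (kg xg26 yg10 zg46) (kg xg21 yg26 zg61)) (@D3.rec (fun _ => Pt) (kg xg9 yg42 zg21) (kg xg26 yg19 zg60) (kg xg27 yg9 zg21) (kg xg27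 yg32 zg37) (kg xg9 yg42 zg23) (kg xg20 yg11 zg3) (kg xg25 yg34 zg11) (kg xg15 yg51 zg36) (kg xg9 yg42 zg24) (kg xg15 yg51 zg35) (kg xg15 yg39 zg57) (kg xg22 yg23 zg10) (kg xg24 yg0 zg34) (kg xg18 yg54 zg7) (kg xg15 yg52 zg31) (kg xg27 yg37 zg37) (kg xg19 yg41 zg23) (kg xg9 yg57 zg19) (kg xg21 yg50 zg14) (kg xg17 yg52 zg56) (kg xg17 yg6 zg10) (kg xg9 yg42 zg34) (kg xg20 yg16 zg42) (kg xg9 yg42 zg35) (kg xg10 yg3 zg39) (kg xg25 yg17 zg58) (kg xg27 yg37 zg36) (kg xg9 yg49 zg12) (kg xg27 yg35 zg36) (kg xg9 yg42 zg38) (kg xg27 yg38 zg7) (kg xg27 yg35 zg35) (kg xg18 yg57 zg40) (kg xg11 yg49 zg4) (kg xg11 yg52 zg41) (kg xg11 yg6 zg4) (kg xg15 yg28 zg10) (kg xg9 yg42 zg44) (kg xg27 yg38 zg15) (kg xg24 yg51 zg3) (kg xg15 yg28 zg8) (kg xg23 yg43 zg20) (kg xg26 yg18 zg24) (kg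 xg20 yg48 zg40) (kg xg15 yg9 zg31) (kg xg24 yg32 zg60) (kg xg9 yg43 zg11) (kg xg18 yg2 zg45) (kg xg19 yg11 zg3) (kg xg23 yg13 zg26) (kg xg9 yg42 zg49) (kg xg19 yg59 zg6) (kg xg20 yg53 zg24) (kg xg27 yg35 zg40) (kg xg9 yg42 zg50) (kg xg18 yg4 zg48) (kg xg18 yg10 zg60) (kg xg9 yg42 zg51) (kg xg15 yg48 zg25) (kg xg18 yg10 zg24) (kg xg17 yg13 zg32) (kg xg18 yg11 zg4)) (@D3.rec (fun _ => Pt) (kg xg15 yg39 zg46) (kg xg19 yg17 zg15) (kg xg27 yg35 zg42) (kg xg18 yg12 zg51) (kg xg19 yg23 zg25) (kg xg13 yg30 zg8) (kg xg9 yg42 zg59) (kg xg26 yg55 zg25) (kg xg9 yg43 zg0) (kg xg12 yg35 zg14) (kg xg18 yg13 zg0) (kg xg9 yg43 zg3) (kg xg18 yg12 zg60) (kg xg20 yg20 zg45) (kg xg17 yg42 zg30) (kg xg9 yg43 zg6) (kg xg18 yg15 zg19) (kg xg22 yg5 zg59) (kg xg26 yg16 zg27) (kg xg27 yg38 zg47)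 (kg xg26 yg16 zg9) (kg xg12 yg35 zg5) (kg xg10 yg32 zg13) (kg xg9 yg43 zg15) (kg xg10 yg32 zg15) (kg xg27 yg11 zg13) (kg xg10 yg42 zg28) (kg xg24 yg45 zg50) (kg xg10 yg22 zg61) (kg xg22 yg6 zg1) (kg xg19 yg17 zg14) (kg xg19 yg17 zg6) (kg xg11 yg49 zg13) (kg xg19 yg56 zg51) (kg xg24 yg52 zg30) (kg xg21 yg59 zg23) (kg xg15 yg47 zg60) (kg xg21 yg44 zg6) (kg xg9 yg43 zg28) (kg xg27 yg38 zg54) (kg xg25 yg29 zg10) (kg xg20 yg16 zg27) (kg xg27 yg38 zg53) (kg xg17 yg49 zg50) (kg xg25 yg23 zg57) (kg xg15 yg54 zg29) (kg xg25 yg4 zg24) (kg xg15 yg50 zg3) (kg xg26 yg44 zg32) (kg xg25 yg3 zg14) (kg xg26 yg14 zg44) (kg xg17 yg44 zg12) (kg xg25 yg37 zg28) (kg xg18 yg35 zg26) (kg xg18 yg35 zg39) (kg xg27 yg22 zg29) (kg xg9 yg43 zg39) (kg xg12 yg56 zg34) (kg xg16 yg12 zg27) (kg xg9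 yg43 zg46) (kg xg14 yg43 zg37) (kg xg14 yg37 zg34)) (@D3.rec (fun _ => Pt) (kg xg26 yg10 zg18) (kg xg23 yg25 zg17) (kg xg9 yg43 zg48) (kg xg23 yg29 zg45) (kg xg23 yg31 zg5) (kg xg10 yg32 zg53) (kg xg26 yg6 zg31) (kg xg24 yg54 zg47) (kg xg14 yg43 zg36) (kg xg15 yg29 zg43) (kg xg17 yg42 zg13) (kg xg27 yg39 zg12) (kg xg13 yg21 zg26) (kg xg19 yg23 zg34) (kg xg20 yg24 zg33) (kg xg10 yg1 zg10) (kg xg20 yg55 zg55) (kg xg19 yg43 zg15) (kg xg17 yg56 zg22) (kg xg9 yg44 zg3) (kg xg10 yg48 zg28) (kg xg10 yg49 zg22) (kg xg19 yg21 zg2) (kg xg9 yg44 zg4) (kg xg22 yg11 zg54) (kg xg16 yg46 zg15) (kg xg24 yg32 zg57) (kg xg9 yg44 zg6) (kg xg10 yg39 zg5) (kg xg16 yg8 zg60) (kg xg10 yg49 zg14) (kg xg16 yg47 zg4) (kg xg25 yg10 zg27) (kg xg11 yg10 zg3) (kg xg17 yg32 zg37) (kg xg19 yg20 zg58)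 (kg xg11 yg10 zg5) (kg xg17 yg58 zg35) (kg xg9 yg44 zg17) (kg xg21 yg43 zg38) (kg xg9 yg44 zg19) (kg xg19 yg26 zg17) (kg xg11 yg49 zg42) (kg xg27 yg0 zg51) (kg xg19 yg39 zg59) (kg xg9 yg44 zg25) (kg xg16 yg43 zg57) (kg xg19 yg40 zg0) (kg xg16 yg46 zg2) (kg xg25 yg13 zg42) (kg xg14 yg37 zg41) (kg xg19 yg54 zg20) (kg xg17 yg1 zg40) (kg xg25 yg35 zg61) (kg xg27 yg39 zg22) (kg xg26 yg55 zg53) (kg xg16 yg8 zg32) (kg xg9 yg44 zg48) (kg xg16 yg8 zg31) (kg xg25 yg29 zg37) (kg xg27 yg24 zg48) (kg xg27 yg25 zg33)) (@D3.rec (fun _ => Pt) (kg xg20 yg3 zg58) (kg xg16 yg17 zg11) (kg xg27 yg25 zg60) (kg xg16 yg18 zg26) (kg xg9 yg44 zg52) (kg xg17 yg52 zg20) (kg xg10 yg13 zg41) (kg xg27 yg25 zg58) (kg xg26 yg13 zg59) (kg xg27 yg24 zg45) (kg xg9 yg44 zg54) (kg xg27 yg39 zg39) (kg xg16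 yg18 zg34) (kg xg24 yg36 zg9) (kg xg18 yg6 zg59) (kg xg16 yg20 zg12) (kg xg9 yg44 zg56) (kg xg20 yg11 zg10) (kg xg16 yg20 zg10) (kg xg16 yg19 zg34) (kg xg27 yg39 zg54) (kg xg27 yg39 zg56) (kg xg20 yg19 zg6) (kg xg27 yg39 zg61) (kg xg24 yg28 zg28) (kg xg9 yg44 zg60) (kg xg27 yg39 zg55) (kg xg16 yg18 zg30) (kg xg9 yg44 zg61) (kg xg16 yg17 zg30) (kg xg27 yg40 zg9) (kg xg14 yg15 zg20) (kg xg27 yg40 zg12) (kg xg23 yg32 zg45) (kg xg12 yg8 zg48) (kg xg15 yg14 zg3) (kg xg18 yg6 zg23) (kg xg23 yg31 zg33) (kg xg16 yg17 zg40) (kg xg16 yg17 zg22) (kg xg9 yg45 zg6) (kg xg27 yg26 zg28) (kg xg16 yg17 zg20) (kg xg27 yg40 zg19) (kg xg22 yg14 zg36) (kg xg26 yg17 zg17) (kg xg12 yg6 zg36) (kg xg9 yg46 zg17) (kg xg12 yg49 zg37) (kg xg9 yg46 zg19) (kg xg9 yg50 zg49) (kg xg27 yg40 zg26) (kg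 xg14 yg3 zg2) (kg xg9 yg46 zg10) (kg xg20 yg0 zg2) (kg xg26 yg19 zg44) (kg xg9 yg45 zg17) (kg xg11 yg11 zg49) (kg xg19 yg39 zg46) (kg xg16 yg15 zg27) (kg xg11 yg17 zg14) (kg xg14 yg46 zg34)) (@D3.rec (fun _ => Pt) (kg xg9 yg45 zg23) (kg xg11 yg11 zg58) (kg xg27 yg40 zg30) (kg xg24 yg52 zg52) (kg xg20 yg13 zg39) (kg xg11 yg12 zg40) (kg xg16 yg52 zg59) (kg xg13 yg40 zg51) (kg xg24 yg47 zg24) (kg xg17 yg15 zg22) (kg xg11 yg13 zg10) (kg xg20 yg6 zg25) (kg xg27 yg40 zg32) (kg xg9 yg45 zg37) (kg xg26 yg32 zg25) (kg xg20 yg22 zg17) (kg xg9 yg45 zg39) (kg xg11 yg12 zg41) (kg xg24 yg22 zg43) (kg xg9 yg45 zg40) (kg xg21 yg29 zg34) (kg xg23 yg22 zg47) (kg xg27 yg40 zg41) (kg xg14 yg3 zg14) (kg xg23 yg26 zg20) (kg xg15 yg50 zg20) (kg xg14 yg6 zg16) (kg xg12 yg31 zg55) (kg xg20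 yg19 zg44) (kg xg23 yg23 zg12) (kg xg11 yg31 zg59) (kg xg14 yg3 zg0) (kg xg23 yg30 zg45) (kg xg21 yg37 zg45) (kg xg9 yg45 zg52) (kg xg12 yg40 zg30) (kg xg10 yg43 zg49) (kg xg9 yg46 zg16) (kg xg14 yg7 zg54) (kg xg9 yg45 zg57) (kg xg24 yg32 zg33) (kg xg15 yg39 zg25) (kg xg23 yg30 zg38) (kg xg15 yg46 zg14) (kg xg23 yg24 zg46) (kg xg23 yg30 zg35) (kg xg24 yg43 zg43) (kg xg27 yg40 zg51) (kg xg9 yg46 zg1) (kg xg23 yg24 zg36) (kg xg27 yg40 zg50) (kg xg25 yg57 zg27) (kg xg12 yg27 zg17) (kg xg9 yg46 zg4) (kg xg27 yg40 zg58) (kg xg24 yg41 zg37) (kg xg17 yg43 zg32) (kg xg13 yg57 zg29) (kg xg14 yg6 zg19) (kg xg14 yg4 zg13) (kg xg14 yg8 zg22) (kg xg26 yg50 zg47)) (@D3.rec (fun _ => Pt) (kg xg26 yg54 zg3) (kg xg9 yg46 zg14) (kg xg22 yg38 zg13) (kg xg13 yg55 zg49) (kg xg9 yg46 zg15)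 (kg xg27 yg41 zg5) (kg xg9 yg47 zg58) (kg xg11 yg10 zg57) (kg xg11 yg13 zg11) (kg xg17 yg1 zg29) (kg xg14 yg46 zg32) (kg xg21 yg29 zg27) (kg xg13 yg55 zg45) (kg xg22 yg38 zg41) (kg xg20 yg42 zg27) (kg xg14 yg4 zg60) (kg xg25 yg23 zg30) (kg xg22 yg38 zg7) (kg xg21 yg37 zg48) (kg xg14 yg3 zg3) (kg xg20 yg43 zg40) (kg xg20 yg43 zg23) (kg xg27 yg41 zg15) (kg xg20 yg54 zg36) (kg xg23 yg1 zg47) (kg xg9 yg46 zg26) (kg xg9 yg46 zg29) (kg xg9 yg46 zg27) (kg xg19 yg39 zg0) (kg xg16 yg43 zg52) (kg xg16 yg47 zg47) (kg xg23 yg23 zg10) (kg xg9 yg46 zg34) (kg xg10 yg5 zg22) (kg xg9 yg46 zg32) (kg xg20 yg20 zg25) (kg xg21 yg29 zg16) (kg xg18 yg25 zg8) (kg xg27 yg41 zg21) (kg xg27 yg41 zg20) (kg xg9 yg46 zg33) (kg xg18 yg37 zg13) (kg xg9 yg58 zg8) (kg xg10 yg12 zg7) (kg xg20 yg17 zg19)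 (kg xg11 yg7 zg48) (kg xg11 yg11 zg50) (kg xg9 yg46 zg42) (kg xg17 yg12 zg43) (kg xg9 yg46 zg43) (kg xg20 yg9 zg48) (kg xg17 yg14 zg9) (kg xg27 yg41 zg31) (kg xg9 yg51 zg17) (kg xg9 yg46 zg54) (kg xg9 yg51 zg16) (kg xg10 yg57 zg13) (kg xg11 yg22 zg5) (kg xg9 yg46 zg59) (kg xg9 yg46 zg56) (kg xg19 yg45 zg38) (kg xg13 yg40 zg4)) (@D3.rec (fun _ => Pt) (kg xg9 yg46 zg57) (kg xg13 yg52 zg46) (kg xg27 yg41 zg41) (kg xg24 yg24 zg8) (kg xg10 yg51 zg8) (kg xg16 yg19 zg52) (kg xg12 yg6 zg29) (kg xg10 yg52 zg44) (kg xg23 yg18 zg4) (kg xg9 yg51 zg25) (kg xg21 yg11 zg40) (kg xg16 yg26 zg61) (kg xg9 yg47 zg1) (kg xg16 yg26 zg58) (kg xg16 yg27 zg33) (kg xg12 yg8 zg36) (kg xg15 yg7 zg33) (kg xg9 yg47 zg4) (kg xg26 yg27 zg46) (kg xg27 yg41 zg57) (kg xg22 yg54 zg60) (kg xg15 yg9 zg27)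 (kg xg9 yg47 zg6) (kg xg16 yg27 zg2) (kg xg22 yg48 zg33) (kg xg16 yg27 zg10) (kg xg9 yg47 zg8) (kg xg16 yg27 zg9) (kg xg15 yg8 zg2) (kg xg26 yg27 zg38) (kg xg16 yg27 zg17) (kg xg9 yg47 zg10) (kg xg21 yg11 zg53) (kg xg16 yg27 zg16) (kg xg16 yg27 zg23) (kg xg25 yg48 zg37) (kg xg26 yg24 zg42) (kg xg9 yg47 zg14) (kg xg26 yg24 zg43) (kg xg16 yg27 zg0) (kg xg9 yg47 zg15) (kg xg9 yg47 zg17) (kg xg16 yg27 zg39) (kg xg14 yg4 zg58) (kg xg27 yg42 zg13) (kg xg9 yg47 zg25) (kg xg20 yg22 zg15) (kg xg11 yg29 zg58) (kg xg20 yg26 zg11) (kg xg18 yg43 zg47) (kg xg27 yg42 zg16) (kg xg12 yg31 zg37) (kg xg27 yg42 zg17) (kg xg14 yg33 zg10) (kg xg14 yg24 zg2) (kg xg9 yg47 zg39) (kg xg11 yg31 zg16) (kg xg10 yg10 zg43) (kg xg9 yg47 zg42) (kg xg21 yg45 zg29) (kg xg11 yg30 zg34) (kg xg9 yg47 zg47))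 (@D3.rec (fun _ => Pt) (kg xg12 yg43 zg25) (kg xg10 yg7 zg6) (kg xg12 yg43 zg28) (kg xg11 yg30 zg38) (kg xg11 yg6 zg29) (kg xg18 yg50 zg36) (kg xg21 yg7 zg34) (kg xg11 yg46 zg3) (kg xg27 yg12 zg32) (kg xg21 yg47 zg9) (kg xg9 yg47 zg54) (kg xg20 yg42 zg50) (kg xg11 yg30 zg59) (kg xg20 yg42 zg29) (kg xg12 yg32 zg28) (kg xg10 yg4 zg52) (kg xg9 yg48 zg2) (kg xg11 yg9 zg58) (kg xg10 yg6 zg48) (kg xg9 yg48 zg4) (kg xg10 yg6 zg47) (kg xg9 yg48 zg5) (kg xg14 yg30 zg31) (kg xg11 yg40 zg8) (kg xg20 yg34 zg2) (kg xg17 yg1 zg14) (kg xg11 yg31 zg10) (kg xg11 yg31 zg9) (kg xg16 yg29 zg57) (kg xg19 yg51 zg44) (kg xg20 yg25 zg57) (kg xg10 yg57 zg20) (kg xg20 yg26 zg10) (kg xg13 yg2 zg21) (kg xg19 yg27 zg32) (kg xg17 yg53 zg38) (kg xg20 yg26 zg17) (kg xg9 yg48 zg23) (kg xg11 yg40 zg1)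 (kg xg24 yg12 zg8) (kg xg11 yg32 zg30) (kg xg12 yg23 zg11) (kg xg21 yg7 zg36) (kg xg18 yg43 zg50) (kg xg21 yg26 zg26) (kg xg20 yg12 zg51) (kg xg27 yg40 zg46) (kg xg9 yg48 zg32) (kg xg12 yg16 zg42) (kg xg20 yg17 zg4) (kg xg10 yg56 zg23) (kg xg11 yg42 zg17) (kg xg21 yg36 zg31) (kg xg9 yg48 zg38) (kg xg11 yg2 zg30) (kg xg20 yg17 zg47) (kg xg16 yg43 zg25) (kg xg20 yg18 zg4) (kg xg19 yg24 zg58) (kg xg14 yg30 zg27) (kg xg20 yg18 zg6) (kg xg24 yg16 zg12)) (@D3.rec (fun _ => Pt) (kg xg9 yg48 zg45) (kg xg22 yg54 zg56) (kg xg24 yg17 zg51) (kg xg9 yg48 zg46) (kg xg11 yg42 zg53) (kg xg27 yg42 zg45) (kg xg11 yg20 zg41) (kg xg21 yg24 zg7) (kg xg9 yg48 zg48) (kg xg17 yg8 zg35) (kg xg16 yg31 zg2) (kg xg10 yg14 zg3) (kg xg9 yg57 zg59) (kg xg12 yg12 zg53) (kg xg17 yg11 zg16) (kg xg20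 yg46 zg29) (kg xg12 yg36 zg60) (kg xg17 yg6 zg28) (kg xg12 yg15 zg17) (kg xg20 yg48 zg38) (kg xg9 yg50 zg11) (kg xg9 yg48 zg59) (kg xg22 yg45 zg8) (kg xg9 yg50 zg9) (kg xg21 yg50 zg17) (kg xg24 yg33 zg29) (kg xg27 yg42 zg51) (kg xg11 yg25 zg10) (kg xg21 yg32 zg38) (kg xg21 yg32 zg44) (kg xg26 yg59 zg5) (kg xg9 yg49 zg5) (kg xg11 yg48 zg46) (kg xg11 yg26 zg41) (kg xg17 yg5 zg43) (kg xg10 yg13 zg29) (kg xg24 yg33 zg6) (kg xg17 yg6 zg7) (kg xg11 yg18 zg58) (kg xg20 yg10 zg0) (kg xg11 yg11 zg14) (kg xg11 yg19 zg0) (kg xg22 yg5 zg20) (kg xg27 yg42 zg57) (kg xg17 yg5 zg59) (kg xg9 yg49 zg18) (kg xg13 yg44 zg28) (kg xg27 yg42 zg47) (kg xg21 yg32 zg28) (kg xg21 yg32 zg40) (kg xg15 yg8 zg18) (kg xg12 yg29 zg46) (kg xg19 yg47 zg3) (kg xg9 yg49 zg23) (kg xg22 yg47 zg33) (kg xg20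 yg34 zg45) (kg xg15 yg8 zg15) (kg xg18 yg1 zg19) (kg xg10 yg6 zg60) (kg xg12 yg30 zg14) (kg xg17 yg6 zg5) (kg xg17 yg4 zg23))
def f_g_18 : D2 → D3 → Pt := @D2.rec (fun _ => D3 → Pt) (@D3.rec (fun _ => Pt) (kg xg25 yg17 zg15) (kg xg9 yg49 zg33) (kg xg20 yg45 zg35) (kg xg21 yg41 zg42) (kg xg18 yg16 zg44) (kg xg18 yg17 zg12) (kg xg27 yg43 zg3) (kg xg9 yg49 zg36) (kg xg12 yg41 zg5) (kg xg10 yg14 zg15) (kg xg17 yg10 zg1) (kg xg12 yg16 zg49) (kg xg10 yg26 zg55) (kg xg12 yg15 zg24) (kg xg9 yg50 zg3) (kg xg12 yg14 zg20) (kg xg16 yg36 zg7) (kg xg27 yg7 zg28) (kg xg9 yg49 zg45) (kg xg25 yg17 zg12) (kg xg23 yg49 zg10) (kg xg20 yg45 zg0) (kg xg9 yg49 zg46) (kg xg27 yg43 zg7) (kg xg20 yg44 zg60) (kg xg20 yg45 zg5) (kg xg9 yg49 zg47) (kg xg14 yg52 zg44) (kg xg20 yg45 zg3) (kg xg17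 yg31 zg60) (kg xg21 yg44 zg58) (kg xg20 yg40 zg21) (kg xg9 yg49 zg57) (kg xg20 yg40 zg20) (kg xg12 yg47 zg13) (kg xg14 yg34 zg3) (kg xg26 yg59 zg59) (kg xg11 yg18 zg39) (kg xg16 yg24 zg55) (kg xg11 yg41 zg22) (kg xg27 yg43 zg17) (kg xg19 yg11 zg1) (kg xg9 yg50 zg0) (kg xg26 yg1 zg27) (kg xg19 yg57 zg28) (kg xg11 yg45 zg61) (kg xg11 yg46 zg1) (kg xg9 yg50 zg2) (kg xg27 yg43 zg22) (kg xg21 yg35 zg2) (kg xg16 yg49 zg17) (kg xg12 yg39 zg25) (kg xg9 yg50 zg7) (kg xg9 yg50 zg4) (kg xg24 yg34 zg28) (kg xg17 yg57 zg59) (kg xg9 yg50 zg6) (kg xg12 yg41 zg6) (kg xg20 yg53 zg49) (kg xg22 yg22 zg16) (kg xg27 yg43 zg26) (kg xg10 yg35 zg2)) (@D3.rec (fun _ => Pt) (kg xg19 yg59 zg7) (kg xg27 yg41 zg4) (kg xg21 yg55 zg10) (kg xg27 yg43 zg29) (kg xg11 yg31 zg57) (kg xg18 yg17 zg44) (kg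 xg9 yg50 zg10) (kg xg14 yg50 zg41) (kg xg23 yg26 zg49) (kg xg22 yg45 zg4) (kg xg17 yg22 zg55) (kg xg10 yg26 zg57) (kg xg12 yg29 zg40) (kg xg10 yg10 zg36) (kg xg9 yg50 zg14) (kg xg18 yg31 zg61) (kg xg26 yg58 zg45) (kg xg9 yg50 zg16) (kg xg11 yg49 zg56) (kg xg9 yg50 zg17) (kg xg24 yg53 zg44) (kg xg21 yg43 zg60) (kg xg27 yg22 zg15) (kg xg21 yg50 zg51) (kg xg17 yg5 zg38) (kg xg9 yg50 zg29) (kg xg24 yg33 zg28) (kg xg21 yg59 zg11) (kg xg17 yg58 zg2) (kg xg12 yg49 zg38) (kg xg18 yg15 zg38) (kg xg13 yg50 zg30) (kg xg9 yg50 zg28) (kg xg21 yg29 zg1) (kg xg13 yg25 zg50) (kg xg19 yg40 zg48) (kg xg21 yg3 zg4) (kg xg12 yg57 zg44) (kg xg11 yg26 zg30) (kg xg21 yg36 zg1) (kg xg11 yg24 zg16) (kg xg17 yg7 zg52) (kg xg27 yg24 zg11) (kg xg25 yg23 zg8) (kg xg11 yg37 zg5) (kg xg27 yg43 zg50)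 (kg xg27 yg43 zg53) (kg xg27 yg43 zg55) (kg xg20 yg29 zg8) (kg xg27 yg43 zg61) (kg xg27 yg41 zg18) (kg xg9 yg50 zg45) (kg xg27 yg41 zg17) (kg xg27 yg44 zg2) (kg xg15 yg22 zg34) (kg xg15 yg20 zg37) (kg xg27 yg41 zg16) (kg xg9 yg50 zg47) (kg xg17 yg53 zg18) (kg xg22 yg7 zg6) (kg xg11 yg43 zg0) (kg xg27 yg44 zg1)) (@D3.rec (fun _ => Pt) (kg xg22 yg52 zg53) (kg xg11 yg43 zg3) (kg xg27 yg41 zg19) (kg xg9 yg50 zg50) (kg xg21 yg48 zg27) (kg xg24 yg0 zg44) (kg xg15 yg40 zg34) (kg xg11 yg46 zg15) (kg xg19 yg13 zg10) (kg xg24 yg36 zg17) (kg xg11 yg25 zg23) (kg xg12 yg22 zg24) (kg xg16 yg46 zg23) (kg xg12 yg32 zg2) (kg xg16 yg30 zg35) (kg xg21 yg53 zg39) (kg xg20 yg5 zg37) (kg xg12 yg24 zg52) (kg xg18 yg26 zg1) (kg xg9 yg51 zg11) (kg xg16 yg58 zg57) (kg xg19 yg50 zg32) (kg xg14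 yg47 zg27) (kg xg27 yg44 zg17) (kg xg14 yg36 zg11) (kg xg15 yg1 zg46) (kg xg27 yg44 zg18) (kg xg11 yg27 zg43) (kg xg16 yg17 zg57) (kg xg12 yg5 zg48) (kg xg12 yg5 zg49) (kg xg9 yg51 zg18) (kg xg27 yg44 zg20) (kg xg21 yg53 zg7) (kg xg12 yg5 zg23) (kg xg14 yg31 zg22) (kg xg26 yg16 zg19) (kg xg16 yg34 zg39) (kg xg16 yg34 zg38) (kg xg17 yg50 zg35) (kg xg10 yg56 zg38) (kg xg10 yg39 zg41) (kg xg19 yg14 zg32) (kg xg27 yg39 zg5) (kg xg15 yg3 zg23) (kg xg9 yg51 zg32) (kg xg17 yg51 zg50) (kg xg26 yg48 zg28) (kg xg14 yg38 zg43) (kg xg21 yg12 zg27) (kg xg21 yg11 zg39) (kg xg10 yg39 zg46) (kg xg19 yg47 zg32) (kg xg16 yg45 zg61) (kg xg24 yg37 zg59) (kg xg15 yg20 zg43) (kg xg16 yg26 zg60) (kg xg17 yg53 zg11) (kg xg24 yg29 zg26) (kg xg18 yg3 zg17) (kg xg9 yg51 zg41) (kg xg16 yg39 zg22))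 (@D3.rec (fun _ => Pt) (kg xg9 yg51 zg42) (kg xg16 yg39 zg21) (kg xg27 yg44 zg46) (kg xg27 yg44 zg48) (kg xg27 yg44 zg49) (kg xg18 yg18 zg14) (kg xg15 yg53 zg42) (kg xg19 yg55 zg0) (kg xg16 yg50 zg7) (kg xg19 yg18 zg32) (kg xg26 yg47 zg4) (kg xg16 yg10 zg55) (kg xg9 yg51 zg49) (kg xg27 yg44 zg53) (kg xg26 yg8 zg28) (kg xg16 yg10 zg15) (kg xg9 yg51 zg51) (kg xg18 yg2 zg60) (kg xg27 yg44 zg61) (kg xg26 yg18 zg45) (kg xg9 yg53 zg6) (kg xg9 yg51 zg54) (kg xg9 yg53 zg5) (kg xg26 yg20 zg59) (kg xg9 yg52 zg47) (kg xg9 yg51 zg56) (kg xg9 yg52 zg46) (kg xg21 yg52 zg18) (kg xg16 yg17 zg52) (kg xg27 yg10 zg21) (kg xg9 yg51 zg59) (kg xg9 yg53 zg46) (kg xg18 yg5 zg22) (kg xg26 yg13 zg36) (kg xg24 yg43 zg10) (kg xg9 yg53 zg36) (kg xg9 yg51 zg61) (kg xg18 yg40 zg30) (kg xg9 yg53 zg34)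 (kg xg9 yg52 zg4) (kg xg15 yg53 zg40) (kg xg9 yg54 zg9) (kg xg9 yg52 zg2) (kg xg9 yg54 zg8) (kg xg27 yg45 zg19) (kg xg21 yg37 zg9) (kg xg26 yg14 zg16) (kg xg18 yg9 zg61) (kg xg9 yg53 zg39) (kg xg9 yg53 zg60) (kg xg9 yg52 zg5) (kg xg9 yg53 zg59) (kg xg24 yg45 zg12) (kg xg14 yg15 zg12) (kg xg16 yg16 zg19) (kg xg9 yg53 zg57) (kg xg9 yg52 zg9) (kg xg9 yg52 zg12) (kg xg27 yg45 zg37) (kg xg27 yg20 zg34) (kg xg9 yg52 zg10) (kg xg26 yg21 zg12)) (@D3.rec (fun _ => Pt) (kg xg18 yg28 zg3) (kg xg18 yg4 zg34) (kg xg17 yg44 zg26) (kg xg18 yg8 zg22) (kg xg18 yg8 zg23) (kg xg9 yg52 zg11) (kg xg25 yg7 zg8) (kg xg27 yg45 zg46) (kg xg27 yg45 zg15) (kg xg27 yg45 zg29) (kg xg27 yg45 zg51) (kg xg9 yg54 zg41) (kg xg9 yg52 zg15) (kg xg9 yg54 zg40) (kg xg18 yg30 zg18) (kg xg18 yg46 zg7) (kg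 xg9 yg52 zg18) (kg xg18 yg46 zg5) (kg xg27 yg45 zg57) (kg xg25 yg23 zg54) (kg xg9 yg52 zg21) (kg xg22 yg57 zg52) (kg xg14 yg16 zg56) (kg xg10 yg54 zg1) (kg xg10 yg15 zg21) (kg xg18 yg8 zg46) (kg xg25 yg3 zg38) (kg xg9 yg52 zg27) (kg xg24 yg45 zg34) (kg xg23 yg37 zg59) (kg xg16 yg15 zg20) (kg xg27 yg27 zg1) (kg xg9 yg52 zg30) (kg xg20 yg4 zg15) (kg xg16 yg18 zg43) (kg xg26 yg13 zg26) (kg xg27 yg25 zg9) (kg xg18 yg27 zg39) (kg xg9 yg52 zg32) (kg xg25 yg0 zg53) (kg xg18 yg31 zg55) (kg xg18 yg27 zg19) (kg xg18 yg27 zg35) (kg xg9 yg52 zg41) (kg xg18 yg31 zg52) (kg xg9 yg52 zg36) (kg xg18 yg31 zg51) (kg xg18 yg7 zg41) (kg xg27 yg46 zg15) (kg xg15 yg6 zg54) (kg xg27 yg46 zg17) (kg xg17 yg41 zg7) (kg xg9 yg52 zg39) (kg xg26 yg19 zg10) (kg xg25 yg0 zg44) (kg xg18 yg31 zg60)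 (kg xg23 yg37 zg0) (kg xg23 yg12 zg41) (kg xg12 yg35 zg35) (kg xg23 yg51 zg5) (kg xg27 yg46 zg27) (kg xg23 yg52 zg15)) (@D3.rec (fun _ => Pt) (kg xg17 yg38 zg20) (kg xg15 yg11 zg17) (kg xg21 yg52 zg17) (kg xg14 yg1 zg16) (kg xg27 yg45 zg7) (kg xg9 yg52 zg48) (kg xg14 yg16 zg42) (kg xg21 yg38 zg50) (kg xg9 yg52 zg49) (kg xg12 yg58 zg60) (kg xg24 yg45 zg0) (kg xg23 yg36 zg60) (kg xg18 yg8 zg51) (kg xg27 yg46 zg13) (kg xg25 yg4 zg3) (kg xg9 yg52 zg58) (kg xg18 yg31 zg59) (kg xg18 yg45 zg25) (kg xg9 yg53 zg1) (kg xg18 yg45 zg24) (kg xg26 yg1 zg35) (kg xg27 yg46 zg20) (kg xg18 yg6 zg25) (kg xg18 yg27 zg24) (kg xg18 yg3 zg32) (kg xg27 yg46 zg8) (kg xg27 yg45 zg3) (kg xg27 yg45 zg2) (kg xg9 yg53 zg7) (kg xg27 yg4 zg28) (kg xg26 yg14 zg32) (kg xg9 yg53 zg8) (kg xg17 yg37 zg25)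 (kg xg26 yg17 zg1) (kg xg18 yg26 zg39) (kg xg26 yg12 zg61) (kg xg18 yg26 zg35) (kg xg11 yg9 zg19) (kg xg15 yg29 zg47) (kg xg11 yg9 zg30) (kg xg9 yg53 zg15) (kg xg27 yg46 zg52) (kg xg19 yg57 zg17) (kg xg9 yg53 zg16) (kg xg19 yg57 zg16) (kg xg17 yg36 zg10) (kg xg25 yg51 zg17) (kg xg10 yg25 zg52) (kg xg9 yg53 zg18) (kg xg10 yg25 zg51) (kg xg25 yg21 zg8) (kg xg25 yg49 zg39) (kg xg10 yg29 zg22) (kg xg9 yg53 zg23) (kg xg15 yg7 zg27) (kg xg18 yg28 zg60) (kg xg25 yg3 zg43) (kg xg13 yg20 zg3) (kg xg24 yg46 zg42) (kg xg15 yg12 zg7) (kg xg14 yg35 zg21) (kg xg14 yg14 zg31)) (@D3.rec (fun _ => Pt) (kg xg21 yg42 zg1) (kg xg9 yg53 zg28) (kg xg13 yg18 zg36) (kg xg9 yg53 zg29) (kg xg27 yg47 zg13) (kg xg27 yg45 zg10) (kg xg9 yg53 zg32) (kg xg24 yg43 zg34) (kg xg14 yg4 zg31) (kg xg27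 yg47 zg14) (kg xg27 yg47 zg16) (kg xg25 yg3 zg42) (kg xg27 yg47 zg17) (kg xg24 yg45 zg29) (kg xg18 yg6 zg29) (kg xg9 yg53 zg35) (kg xg27 yg47 zg22) (kg xg27 yg45 zg12) (kg xg27 yg45 zg39) (kg xg25 yg49 zg30) (kg xg25 yg10 zg49) (kg xg25 yg49 zg37) (kg xg27 yg47 zg5) (kg xg24 yg56 zg32) (kg xg9 yg59 zg50) (kg xg18 yg5 zg24) (kg xg21 yg42 zg0) (kg xg9 yg53 zg48) (kg xg26 yg2 zg23) (kg xg18 yg6 zg15) (kg xg9 yg53 zg50) (kg xg16 yg18 zg42) (kg xg26 yg14 zg60) (kg xg27 yg47 zg30) (kg xg14 yg43 zg50) (kg xg27 yg47 zg4) (kg xg15 yg11 zg9) (kg xg22 yg36 zg26) (kg xg24 yg58 zg51) (kg xg18 yg30 zg13) (kg xg27 yg45 zg40) (kg xg15 yg12 zg36) (kg xg9 yg54 zg22) (kg xg27 yg47 zg38) (kg xg27 yg45 zg49) (kg xg27 yg47 zg43) (kg xg17 yg41 zg48) (kg xg27 yg47 zg39) (kg xg9 yg54 zg33)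 (kg xg24 yg48 zg1) (kg xg17 yg38 zg61) (kg xg17 yg54 zg14) (kg xg24 yg48 zg2) (kg xg27 yg47 zg49) (kg xg25 yg46 zg0) (kg xg24 yg45 zg33) (kg xg27 yg47 zg55) (kg xg17 yg38 zg50) (kg xg16 yg17 zg2) (kg xg17 yg37 zg45) (kg xg17 yg41 zg41) (kg xg24 yg54 zg53)) (@D3.rec (fun _ => Pt) (kg xg9 yg54 zg19) (kg xg17 yg36 zg61) (kg xg27 yg45 zg24) (kg xg9 yg54 zg4) (kg xg23 yg22 zg14) (kg xg23 yg22 zg61) (kg xg27 yg45 zg26) (kg xg9 yg54 zg5) (kg xg14 yg54 zg51) (kg xg27 yg45 zg25) (kg xg26 yg21 zg11) (kg xg20 yg45 zg33) (kg xg21 yg37 zg32) (kg xg19 yg1 zg61) (kg xg10 yg21 zg44) (kg xg9 yg54 zg35) (kg xg18 yg30 zg14) (kg xg27 yg31 zg40) (kg xg26 yg12 zg37) (kg xg27 yg45 zg17) (kg xg9 yg54 zg10) (kg xg21 yg45 zg48) (kg xg27 yg31 zg3) (kg xg9 yg54 zg11) (kg xg18 yg6 zg40) (kg xg26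 yg12 zg46) (kg xg9 yg54 zg12) (kg xg24 yg55 zg20) (kg xg27 yg30 zg41) (kg xg9 yg54 zg28) (kg xg18 yg29 zg55) (kg xg27 yg47 zg0) (kg xg18 yg4 zg47) (kg xg18 yg35 zg6) (kg xg9 yg54 zg17) (kg xg24 yg18 zg29) (kg xg9 yg57 zg43) (kg xg22 yg28 zg59) (kg xg9 yg54 zg24) (kg xg27 yg24 zg23) (kg xg17 yg16 zg10) (kg xg21 yg1 zg4) (kg xg21 yg30 zg59) (kg xg22 yg36 zg25) (kg xg19 yg1 zg59) (kg xg27 yg45 zg27) (kg xg26 yg4 zg18) (kg xg25 yg58 zg6) (kg xg27 yg30 zg35) (kg xg9 yg54 zg25) (kg xg27 yg31 zg18) (kg xg9 yg54 zg31) (kg xg9 yg54 zg26) (kg xg22 yg27 zg55) (kg xg12 yg19 zg23) (kg xg27 yg48 zg17) (kg xg27 yg5 zg49) (kg xg21 yg41 zg57) (kg xg27 yg22 zg56) (kg xg27 yg48 zg19) (kg xg11 yg56 zg54) (kg xg9 yg54 zg29)) (@D3.rec (fun _ => Pt) (kg xg25 yg48 zg33) (kg xg15 yg35 zg37)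 (kg xg19 yg26 zg50) (kg xg9 yg54 zg30) (kg xg12 yg19 zg9) (kg xg14 yg3 zg29) (kg xg18 yg29 zg14) (kg xg9 yg54 zg32) (kg xg27 yg29 zg57) (kg xg27 yg45 zg31) (kg xg27 yg48 zg30) (kg xg27 yg26 zg56) (kg xg17 yg43 zg25) (kg xg9 yg54 zg34) (kg xg12 yg19 zg16) (kg xg27 yg48 zg32) (kg xg27 yg3 zg59) (kg xg26 yg14 zg20) (kg xg9 yg54 zg36) (kg xg27 yg48 zg35) (kg xg27 yg45 zg52) (kg xg18 yg4 zg3) (kg xg9 yg54 zg37) (kg xg18 yg4 zg5) (kg xg18 yg8 zg35) (kg xg9 yg54 zg38) (kg xg25 yg46 zg1) (kg xg18 yg8 zg37) (kg xg22 yg31 zg17) (kg xg16 yg19 zg17) (kg xg27 yg48 zg47) (kg xg27 yg24 zg46) (kg xg11 yg59 zg46) (kg xg26 yg14 zg61) (kg xg23 yg22 zg15) (kg xg18 yg8 zg25) (kg xg18 yg8 zg27) (kg xg9 yg54 zg42) (kg xg26 yg13 zg38) (kg xg18 yg28 zg55) (kg xg27 yg48 zg59) (kg xg27 yg28 zg4)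 (kg xg24 yg46 zg51) (kg xg27 yg48 zg60) (kg xg9 yg54 zg45) (kg xg27 yg49 zg4) (kg xg18 yg9 zg53) (kg xg18 yg34 zg42) (kg xg18 yg28 zg2) (kg xg26 yg20 zg51) (kg xg24 yg45 zg32) (kg xg24 yg58 zg54) (kg xg18 yg5 zg12) (kg xg9 yg54 zg51) (kg xg11 yg23 zg22) (kg xg10 yg28 zg3) (kg xg27 yg49 zg13) (kg xg18 yg32 zg55) (kg xg9 yg54 zg53) (kg xg27 yg49 zg20) (kg xg18 yg32 zg53) (kg xg18 yg33 zg0)) (@D3.rec (fun _ => Pt) (kg xg18 yg34 zg6) (kg xg9 yg55 zg3) (kg xg21 yg9 zg8) (kg xg18 yg10 zg50) (kg xg9 yg54 zg58) (kg xg18 yg32 zg50) (kg xg27 yg49 zg28) (kg xg20 yg11 zg13) (kg xg9 yg54 zg60) (kg xg27 yg49 zg35) (kg xg17 yg51 zg4) (kg xg9 yg55 zg6) (kg xg17 yg41 zg38) (kg xg9 yg55 zg1) (kg xg26 yg21 zg0) (kg xg18 yg31 zg26) (kg xg18 yg32 zg56) (kg xg11 yg15 zg37) (kg xg20 yg11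 zg18) (kg xg25 yg31 zg33) (kg xg9 yg56 zg51) (kg xg17 yg47 zg12) (kg xg18 yg41 zg39) (kg xg18 yg13 zg11) (kg xg27 yg49 zg50) (kg xg26 yg21 zg42) (kg xg10 yg12 zg24) (kg xg9 yg56 zg47) (kg xg18 yg33 zg9) (kg xg27 yg29 zg46) (kg xg18 yg33 zg6) (kg xg9 yg55 zg10) (kg xg10 yg20 zg48) (kg xg27 yg49 zg60) (kg xg27 yg29 zg35) (kg xg9 yg55 zg11) (kg xg27 yg34 zg10) (kg xg18 yg13 zg19) (kg xg9 yg55 zg12) (kg xg18 yg13 zg18) (kg xg27 yg32 zg13) (kg xg27 yg50 zg8) (kg xg18 yg14 zg25) (kg xg9 yg57 zg30) (kg xg18 yg14 zg59) (kg xg18 yg17 zg36) (kg xg10 yg12 zg25) (kg xg9 yg55 zg15) (kg xg10 yg12 zg44) (kg xg27 yg32 zg18) (kg xg9 yg55 zg20) (kg xg20 yg21 zg27) (kg xg18 yg47 zg11) (kg xg25 yg25 zg41) (kg xg14 yg3 zg47) (kg xg27 yg50 zg21) (kg xg27 yg50 zg26) (kg xg18 yg26 zg42) (kg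 xg9 yg55 zg22) (kg xg18 yg26 zg41) (kg xg9 yg55 zg24) (kg xg18 yg7 zg9)) (@D3.rec (fun _ => Pt) (kg xg18 yg26 zg51) (kg xg15 yg11 zg0) (kg xg10 yg16 zg2) (kg xg10 yg2 zg27) (kg xg18 yg10 zg47) (kg xg18 yg33 zg52) (kg xg18 yg31 zg18) (kg xg18 yg27 zg22) (kg xg9 yg56 zg20) (kg xg27 yg50 zg35) (kg xg27 yg20 zg17) (kg xg9 yg55 zg31) (kg xg27 yg50 zg36) (kg xg10 yg2 zg26) (kg xg18 yg31 zg11) (kg xg18 yg32 zg23) (kg xg9 yg56 zg2) (kg xg18 yg12 zg43) (kg xg18 yg32 zg43) (kg xg27 yg22 zg46) (kg xg18 yg32 zg15) (kg xg9 yg55 zg44) (kg xg23 yg44 zg3) (kg xg9 yg56 zg3) (kg xg9 yg56 zg16) (kg xg20 yg38 zg10) (kg xg27 yg36 zg9) (kg xg9 yg55 zg51) (kg xg27 yg20 zg36) (kg xg18 yg0 zg13) (kg xg9 yg57 zg0) (kg xg18 yg41 zg46) (kg xg18 yg20 zg61) (kg xg18 yg21 zg51) (kg xg10 yg36 zg10)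 (kg xg9 yg57 zg17) (kg xg18 yg20 zg16) (kg xg9 yg55 zg58) (kg xg18 yg55 zg20) (kg xg14 yg16 zg49) (kg xg9 yg55 zg61) (kg xg18 yg33 zg35) (kg xg9 yg56 zg4) (kg xg9 yg56 zg0) (kg xg27 yg50 zg56) (kg xg18 yg33 zg45) (kg xg18 yg20 zg37) (kg xg18 yg10 zg7) (kg xg26 yg15 zg9) (kg xg18 yg58 zg19) (kg xg18 yg9 zg4) (kg xg27 yg50 zg61) (kg xg9 yg56 zg6) (kg xg19 yg33 zg21) (kg xg9 yg57 zg12) (kg xg10 yg27 zg29) (kg xg10 yg27 zg41) (kg xg16 yg13 zg56) (kg xg27 yg51 zg5) (kg xg27 yg51 zg8) (kg xg21 yg8 zg10) (kg xg27 yg50 zg55)) (@D3.rec (fun _ => Pt) (kg xg18 yg17 zg37) (kg xg18 yg50 zg34) (kg xg10 yg27 zg46) (kg xg10 yg27 zg28) (kg xg10 yg38 zg48) (kg xg9 yg56 zg17) (kg xg18 yg20 zg28) (kg xg19 yg10 zg25) (kg xg24 yg22 zg53) (kg xg18 yg32 zg45) (kg xg18 yg32 zg44) (kg xg9 yg56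 zg21) (kg xg18 yg32 zg2) (kg xg27 yg50 zg38) (kg xg15 yg0 zg50) (kg xg9 yg56 zg23) (kg xg15 yg0 zg49) (kg xg27 yg51 zg29) (kg xg27 yg51 zg31) (kg xg27 yg51 zg34) (kg xg27 yg33 zg34) (kg xg18 yg30 zg38) (kg xg9 yg56 zg26) (kg xg18 yg30 zg37) (kg xg27 yg51 zg46) (kg xg27 yg51 zg50) (kg xg27 yg51 zg52) (kg xg27 yg51 zg55) (kg xg18 yg30 zg50) (kg xg9 yg56 zg29) (kg xg18 yg30 zg49) (kg xg26 yg31 zg54) (kg xg27 yg51 zg61) (kg xg9 yg56 zg31) (kg xg10 yg42 zg10) (kg xg18 yg31 zg1) (kg xg9 yg56 zg32) (kg xg18 yg31 zg0) (kg xg24 yg48 zg22) (kg xg27 yg52 zg12) (kg xg27 yg52 zg16) (kg xg18 yg30 zg57) (kg xg9 yg56 zg34) (kg xg27 yg32 zg52) (kg xg18 yg30 zg55) (kg xg9 yg56 zg42) (kg xg9 yg57 zg41) (kg xg18 yg31 zg9) (kg xg9 yg56 zg37) (kg xg18 yg31 zg8) (kg xg27 yg52 zg29) (kg xg12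 yg6 zg40) (kg xg27 yg52 zg34) (kg xg27 yg52 zg37) (kg xg18 yg31 zg14) (kg xg9 yg56 zg40) (kg xg18 yg31 zg13) (kg xg20 yg27 zg15) (kg xg27 yg52 zg43) (kg xg25 yg48 zg9) (kg xg18 yg13 zg33) (kg xg18 yg30 zg59)) (@D3.rec (fun _ => Pt) (kg xg27 yg52 zg40) (kg xg18 yg39 zg10) (kg xg18 yg14 zg36) (kg xg18 yg33 zg7) (kg xg26 yg19 zg25) (kg xg10 yg11 zg43) (kg xg27 yg50 zg39) (kg xg18 yg31 zg24) (kg xg27 yg49 zg55) (kg xg18 yg31 zg22) (kg xg9 yg56 zg46) (kg xg27 yg52 zg56) (kg xg27 yg52 zg58) (kg xg18 yg14 zg51) (kg xg18 yg14 zg50) (kg xg18 yg33 zg3) (kg xg24 yg38 zg57) (kg xg9 yg56 zg48) (kg xg24 yg13 zg17) (kg xg27 yg51 zg53) (kg xg27 yg53 zg9) (kg xg25 yg31 zg34) (kg xg27 yg49 zg38) (kg xg9 yg56 zg50) (kg xg15 yg37 zg1) (kg xg27 yg51 zg56) (kg xg26 yg18 zg36) (kg xg27 yg49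 zg36) (kg xg18 yg27 zg21) (kg xg19 yg15 zg4) (kg xg10 yg19 zg57) (kg xg18 yg17 zg39) (kg xg25 yg16 zg58) (kg xg9 yg56 zg56) (kg xg11 yg17 zg2) (kg xg24 yg58 zg42) (kg xg9 yg57 zg1) (kg xg9 yg56 zg59) (kg xg27 yg51 zg57) (kg xg18 yg37 zg20) (kg xg27 yg50 zg54) (kg xg27 yg53 zg23) (kg xg17 yg34 zg21) (kg xg18 yg10 zg19) (kg xg26 yg32 zg9) (kg xg27 yg53 zg20) (kg xg27 yg53 zg25) (kg xg9 yg57 zg3) (kg xg18 yg20 zg33) (kg xg17 yg9 zg47) (kg xg21 yg42 zg4) (kg xg17 yg52 zg11) (kg xg18 yg32 zg31) (kg xg9 yg57 zg8) (kg xg11 yg5 zg56) (kg xg9 yg57 zg9) (kg xg14 yg11 zg18) (kg xg21 yg8 zg9) (kg xg27 yg51 zg0) (kg xg19 yg36 zg28) (kg xg9 yg57 zg11) (kg xg20 yg34 zg18)) (@D3.rec (fun _ => Pt) (kg xg17 yg0 zg16) (kg xg10 yg55 zg50) (kg xg25 yg47 zg55) (kg xg10 yg15 zg45) (kg xg10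 yg28 zg11) (kg xg9 yg57 zg22) (kg xg27 yg53 zg38) (kg xg27 yg53 zg39) (kg xg17 yg47 zg2) (kg xg27 yg53 zg43) (kg xg27 yg31 zg60) (kg xg18 yg9 zg26) (kg xg27 yg53 zg46) (kg xg18 yg35 zg19) (kg xg9 yg57 zg27) (kg xg10 yg20 zg5) (kg xg22 yg18 zg6) (kg xg18 yg9 zg39) (kg xg9 yg57 zg28) (kg xg18 yg9 zg38) (kg xg27 yg52 zg45) (kg xg22 yg50 zg15) (kg xg27 yg32 zg33) (kg xg27 yg53 zg55) (kg xg27 yg32 zg31) (kg xg27 yg53 zg56) (kg xg27 yg52 zg23) (kg xg9 yg58 zg15) (kg xg27 yg50 zg40) (kg xg24 yg52 zg34) (kg xg27 yg32 zg40) (kg xg9 yg57 zg33) (kg xg14 yg14 zg23) (kg xg27 yg32 zg38) (kg xg25 yg49 zg29) (kg xg22 yg51 zg49) (kg xg27 yg12 zg23) (kg xg10 yg21 zg5) (kg xg26 yg59 zg11) (kg xg10 yg19 zg37) (kg xg15 yg51 zg40) (kg xg17 yg47 zg42) (kg xg27 yg52 zg21) (kg xg25 yg10 zg45)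 (kg xg12 yg43 zg14) (kg xg10 yg27 zg12) (kg xg17 yg52 zg21) (kg xg9 yg57 zg44) (kg xg27 yg54 zg13) (kg xg9 yg58 zg41) (kg xg10 yg13 zg28) (kg xg9 yg57 zg55) (kg xg9 yg57 zg49) (kg xg11 yg45 zg59) (kg xg9 yg57 zg53) (kg xg10 yg27 zg14) (kg xg18 yg1 zg38) (kg xg17 yg52 zg27) (kg xg27 yg35 zg2) (kg xg27 yg53 zg28) (kg xg18 yg29 zg21) (kg xg27 yg54 zg12)) (@D3.rec (fun _ => Pt) (kg xg27 yg5 zg43) (kg xg17 yg52 zg16) (kg xg25 yg39 zg56) (kg xg9 yg57 zg54) (kg xg26 yg22 zg5) (kg xg27 yg54 zg19) (kg xg11 yg48 zg61) (kg xg12 yg38 zg42) (kg xg18 yg48 zg27) (kg xg10 yg27 zg8) (kg xg18 yg29 zg29) (kg xg27 yg46 zg6) (kg xg19 yg57 zg0) (kg xg27 yg54 zg31) (kg xg11 yg32 zg27) (kg xg9 yg58 zg10) (kg xg9 yg59 zg38) (kg xg27 yg35 zg25) (kg xg18 yg33 zg59) (kg xg9 yg58 zg13) (kg xg18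 yg33 zg58) (kg xg27 yg54 zg38) (kg xg27 yg34 zg17) (kg xg27 yg54 zg40) (kg xg9 yg58 zg31) (kg xg18 yg9 zg44) (kg xg9 yg58 zg29) (kg xg24 yg48 zg7) (kg xg10 yg28 zg12) (kg xg9 yg58 zg18) (kg xg16 yg34 zg46) (kg xg19 yg2 zg23) (kg xg27 yg53 zg40) (kg xg27 yg54 zg44) (kg xg26 yg18 zg47) (kg xg18 yg38 zg32) (kg xg18 yg12 zg5) (kg xg26 yg4 zg22) (kg xg18 yg34 zg16) (kg xg9 yg58 zg23) (kg xg11 yg21 zg23) (kg xg27 yg54 zg57) (kg xg26 yg3 zg60) (kg xg9 yg58 zg24) (kg xg27 yg55 zg1) (kg xg19 yg6 zg32) (kg xg27 yg55 zg4) (kg xg27 yg54 zg43) (kg xg27 yg55 zg7) (kg xg18 yg12 zg14) (kg xg9 yg58 zg27) (kg xg18 yg9 zg27) (kg xg27 yg54 zg41) (kg xg27 yg55 zg15) (kg xg27 yg33 zg38) (kg xg27 yg40 zg3) (kg xg10 yg10 zg5) (kg xg9 yg58 zg30) (kg xg10 yg10 zg45) (kg xg18 yg9 zg42) (kg xg18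 yg30 zg25) (kg xg9 yg58 zg36)) (@D3.rec (fun _ => Pt) (kg xg27 yg55 zg23) (kg xg27 yg34 zg55) (kg xg26 yg44 zg41) (kg xg22 yg14 zg51) (kg xg18 yg58 zg21) (kg xg9 yg58 zg40) (kg xg9 yg58 zg38) (kg xg27 yg53 zg18) (kg xg24 yg19 zg60) (kg xg23 yg54 zg13) (kg xg27 yg54 zg14) (kg xg16 yg59 zg51) (kg xg12 yg20 zg34) (kg xg13 yg1 zg2) (kg xg9 yg58 zg46) (kg xg12 yg54 zg23) (kg xg9 yg58 zg47) (kg xg13 yg14 zg42) (kg xg27 yg55 zg33) (kg xg27 yg39 zg2) (kg xg27 yg43 zg34) (kg xg27 yg55 zg31) (kg xg10 yg0 zg5) (kg xg10 yg0 zg7) (kg xg18 yg29 zg30) (kg xg10 yg26 zg54) (kg xg27 yg54 zg33) (kg xg13 yg38 zg37) (kg xg9 yg59 zg22) (kg xg12 yg47 zg19) (kg xg12 yg37 zg35) (kg xg12 yg27 zg36) (kg xg12 yg37 zg56) (kg xg12 yg46 zg38) (kg xg12 yg42 zg58) (kg xg12 yg38 zg17) (kg xg18 yg37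 zg15) (kg xg18 yg2 zg16) (kg xg12 yg31 zg40) (kg xg12 yg20 zg56) (kg xg10 yg7 zg4) (kg xg9 yg59 zg19) (kg xg20 yg34 zg20) (kg xg9 yg59 zg39) (kg xg9 yg59 zg44) (kg xg10 yg30 zg9) (kg xg21 yg7 zg58) (kg xg10 yg14 zg50) (kg xg23 yg21 zg54) (kg xg9 yg59 zg33) (kg xg18 yg20 zg56) (kg xg9 yg59 zg31) (kg xg24 yg45 zg52) (kg xg17 yg45 zg48) (kg xg18 yg38 zg31) (kg xg23 yg7 zg35) (kg xg27 yg55 zg48) (kg xg23 yg21 zg53) (kg xg27 yg55 zg51) (kg xg14 yg43 zg5) (kg xg18 yg36 zg39) (kg xg21 yg51 zg50)) (@D3.rec (fun _ => Pt) (kg xg17 yg31 zg52) (kg xg12 yg28 zg3) (kg xg12 yg38 zg14) (kg xg9 yg59 zg29) (kg xg22 yg28 zg50) (kg xg21 yg7 zg56) (kg xg10 yg42 zg24) (kg xg10 yg2 zg33) (kg xg18 yg38 zg11) (kg xg27 yg29 zg50) (kg xg9 yg59 zg36) (kg xg17 yg30 zg23) (kg xg17 yg30 zg5) (kg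 xg10 yg0 zg10) (kg xg12 yg47 zg5) (kg xg27 yg55 zg59) (kg xg27 yg45 zg14) (kg xg17 yg21 zg53) (kg xg18 yg14 zg8) (kg xg12 yg44 zg35) (kg xg27 yg55 zg61) (kg xg9 yg59 zg43) (kg xg17 yg12 zg61) (kg xg18 yg36 zg11) (kg xg19 yg10 zg46) (kg xg27 yg47 zg24) (kg xg26 yg16 zg44) (kg xg18 yg38 zg8) (kg xg27 yg48 zg22) (kg xg9 yg59 zg47) (kg xg18 yg46 zg42) (kg xg26 yg11 zg33) (kg xg11 yg59 zg58) (kg xg18 yg46 zg45) (kg xg10 yg45 zg8) (kg xg21 yg58 zg22) (kg xg17 yg44 zg1) (kg xg21 yg26 zg14) (kg xg9 yg59 zg49) (kg xg17 yg30 zg21) (kg xg26 yg16 zg10) (kg xg12 yg43 zg58) (kg xg20 yg12 zg53) (kg xg12 yg43 zg23) (kg xg21 yg21 zg57) (kg xg20 yg9 zg30) (kg xg12 yg24 zg10) (kg xg18 yg36 zg32) (kg xg27 yg34 zg47) (kg xg18 yg9 zg5) (kg xg27 yg54 zg5) (kg xg12 yg43 zg57) (kg xg18 yg13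 zg56) (kg xg12 yg43 zg35) (kg xg21 yg26 zg37) (kg xg27 yg47 zg31) (kg xg27 yg56 zg10) (kg xg10 yg0 zg3) (kg xg18 yg6 zg35) (kg xg26 yg16 zg15) (kg xg10 yg0 zg4) (kg xg12 yg58 zg18)) (@D3.rec (fun _ => Pt) (kg xg18 yg0 zg4) (kg xg24 yg30 zg52) (kg xg10 yg0 zg19) (kg xg10 yg0 zg9) (kg xg18 yg50 zg27) (kg xg11 yg30 zg27) (kg xg10 yg0 zg14) (kg xg18 yg38 zg20) (kg xg19 yg27 zg37) (kg xg11 yg56 zg46) (kg xg21 yg5 zg51) (kg xg18 yg0 zg5) (kg xg19 yg42 zg57) (kg xg18 yg36 zg56) (kg xg21 yg54 zg43) (kg xg27 yg37 zg27) (kg xg21 yg7 zg39) (kg xg24 yg46 zg43) (kg xg21 yg35 zg32) (kg xg18 yg36 zg38) (kg xg10 yg0 zg22) (kg xg18 yg37 zg49) (kg xg10 yg0 zg35) (kg xg17 yg25 zg41) (kg xg23 yg47 zg9) (kg xg10 yg0 zg27) (kg xg21 yg8 zg0) (kg xg10 yg7 zg3) (kg xg10 yg0 zg32) (kg xg17 yg52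 zg57) (kg xg18 yg38 zg25) (kg xg16 yg59 zg32) (kg xg18 yg38 zg18) (kg xg15 yg6 zg0) (kg xg18 yg34 zg14) (kg xg27 yg56 zg29) (kg xg27 yg56 zg33) (kg xg21 yg31 zg38) (kg xg12 yg55 zg9) (kg xg18 yg12 zg29) (kg xg10 yg37 zg43) (kg xg10 yg0 zg42) (kg xg27 yg56 zg37) (kg xg18 yg1 zg5) (kg xg10 yg0 zg44) (kg xg11 yg17 zg42) (kg xg14 yg45 zg51) (kg xg11 yg48 zg50) (kg xg19 yg6 zg47) (kg xg15 yg24 zg56) (kg xg15 yg2 zg32) (kg xg19 yg10 zg30) (kg xg18 yg39 zg55) (kg xg10 yg0 zg49) (kg xg18 yg39 zg54) (kg xg16 yg12 zg35) (kg xg25 yg58 zg23) (kg xg27 yg56 zg45) (kg xg16 yg50 zg44) (kg xg10 yg0 zg51) (kg xg18 yg13 zg3) (kg xg18 yg27 zg46)) (@D3.rec (fun _ => Pt) (kg xg10 yg0 zg61) (kg xg18 yg39 zg59) (kg xg10 yg0 zg56) (kg xg18 yg39 zg58) (kg xg26 yg10 zg1) (kg xg19 yg55 zg24) (kg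 xg26 yg23 zg13) (kg xg27 yg30 zg24) (kg xg18 yg40 zg2) (kg xg10 yg0 zg59) (kg xg18 yg40 zg1) (kg xg16 yg10 zg6) (kg xg25 yg49 zg55) (kg xg21 yg6 zg24) (kg xg16 yg6 zg16) (kg xg18 yg27 zg49) (kg xg10 yg1 zg0) (kg xg18 yg27 zg48) (kg xg24 yg23 zg34) (kg xg26 yg8 zg16) (kg xg25 yg2 zg35) (kg xg23 yg33 zg51) (kg xg25 yg41 zg20) (kg xg27 yg57 zg7) (kg xg14 yg48 zg13) (kg xg19 yg14 zg29) (kg xg18 yg40 zg10) (kg xg18 yg40 zg8) (kg xg10 yg1 zg5) (kg xg26 yg23 zg7) (kg xg23 yg27 zg54) (kg xg10 yg1 zg6) (kg xg13 yg54 zg16) (kg xg14 yg39 zg14) (kg xg18 yg40 zg60) (kg xg10 yg1 zg7) (kg xg23 yg34 zg45) (kg xg18 yg40 zg58) (kg xg27 yg56 zg61) (kg xg21 yg11 zg38) (kg xg26 yg10 zg20) (kg xg20 yg32 zg4) (kg xg19 yg18 zg36) (kg xg14 yg39 zg54) (kg xg19 yg31 zg12) (kg xg14 yg39 zg61)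 (kg xg19 yg54 zg49) (kg xg18 yg40 zg41) (kg xg10 yg1 zg16) (kg xg18 yg40 zg40) (kg xg23 yg33 zg50) (kg xg18 yg40 zg36) (kg xg10 yg1 zg19) (kg xg18 yg40 zg35) (kg xg11 yg35 zg11) (kg xg27 yg57 zg37) (kg xg18 yg22 zg59) (kg xg10 yg1 zg21) (kg xg18 yg22 zg58) (kg xg25 yg1 zg60) (kg xg27 yg57 zg43) (kg xg18 yg22 zg55)) (@D3.rec (fun _ => Pt) (kg xg10 yg1 zg26) (kg xg18 yg22 zg54) (kg xg13 yg46 zg28) (kg xg21 yg2 zg47) (kg xg20 yg1 zg18) (kg xg18 yg24 zg28) (kg xg22 yg46 zg14) (kg xg16 yg12 zg8) (kg xg25 yg18 zg9) (kg xg23 yg18 zg36) (kg xg25 yg16 zg54) (kg xg10 yg1 zg32) (kg xg19 yg1 zg32) (kg xg14 yg39 zg17) (kg xg10 yg1 zg33) (kg xg18 yg40 zg55) (kg xg23 yg44 zg60) (kg xg18 yg40 zg19) (kg xg10 yg1 zg34) (kg xg27 yg58 zg6) (kg xg18 yg40 zg17) (kg xg20 yg32 zg41) (kg xg23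 yg42 zg57) (kg xg19 yg1 zg44) (kg xg11 yg57 zg18) (kg xg16 yg22 zg34) (kg xg27 yg58 zg15) (kg xg18 yg39 zg52) (kg xg10 yg1 zg38) (kg xg18 yg39 zg7) (kg xg10 yg1 zg39) (kg xg18 yg41 zg7) (kg xg27 yg58 zg17) (kg xg18 yg41 zg18) (kg xg10 yg1 zg41) (kg xg18 yg59 zg42) (kg xg18 yg41 zg16) (kg xg18 yg41 zg28) (kg xg10 yg1 zg50) (kg xg18 yg41 zg12) (kg xg10 yg1 zg45) (kg xg18 yg41 zg11) (kg xg23 yg42 zg29) (kg xg26 yg13 zg9) (kg xg27 yg5 zg13) (kg xg10 yg1 zg47) (kg xg11 yg39 zg20) (kg xg10 yg1 zg48) (kg xg16 yg26 zg5) (kg xg13 yg27 zg2) (kg xg18 yg59 zg21) (kg xg18 yg41 zg19) (kg xg27 yg58 zg36) (kg xg12 yg22 zg19) (kg xg19 yg44 zg5) (kg xg23 yg6 zg23) (kg xg20 yg10 zg61) (kg xg10 yg3 zg22) (kg xg26 yg18 zg21) (kg xg16 yg21 zg4) (kg xg10 yg1 zg57) (kg xg25 yg17 zg52)) (@D3.rec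 (fun _ => Pt) (kg xg20 yg36 zg9) (kg xg20 yg10 zg50) (kg xg10 yg29 zg50) (kg xg25 yg3 zg10) (kg xg18 yg42 zg23) (kg xg18 yg50 zg56) (kg xg17 yg2 zg58) (kg xg10 yg2 zg0) (kg xg23 yg25 zg35) (kg xg13 yg49 zg32) (kg xg10 yg10 zg12) (kg xg20 yg20 zg56) (kg xg10 yg30 zg6) (kg xg27 yg58 zg26) (kg xg10 yg40 zg43) (kg xg10 yg2 zg6) (kg xg18 yg10 zg37) (kg xg10 yg25 zg55) (kg xg19 yg11 zg46) (kg xg27 yg59 zg2) (kg xg18 yg53 zg6) (kg xg18 yg47 zg59) (kg xg18 yg53 zg5) (kg xg18 yg53 zg15) (kg xg10 yg27 zg50) (kg xg10 yg39 zg22) (kg xg18 yg10 zg41) (kg xg18 yg53 zg55) (kg xg10 yg2 zg36) (kg xg19 yg57 zg27) (kg xg17 yg49 zg6) (kg xg10 yg2 zg15) (kg xg13 yg30 zg18) (kg xg10 yg10 zg35) (kg xg26 yg29 zg26) (kg xg10 yg40 zg44) (kg xg10 yg40 zg45) (kg xg10 yg11 zg18) (kg xg10 yg39 zg24)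 (kg xg27 yg59 zg16) (kg xg22 yg52 zg0) (kg xg18 yg41 zg51) (kg xg18 yg41 zg50) (kg xg18 yg41 zg45) (kg xg20 yg0 zg12) (kg xg12 yg38 zg36) (kg xg27 yg59 zg20) (kg xg10 yg2 zg29) (kg xg10 yg2 zg34) (kg xg10 yg2 zg30) (kg xg17 yg29 zg40) (kg xg10 yg2 zg32) (kg xg25 yg16 zg38) (kg xg22 yg51 zg59) (kg xg27 yg59 zg19) (kg xg21 yg8 zg15) (kg xg12 yg18 zg57) (kg xg12 yg28 zg42) (kg xg27 yg59 zg30) (kg xg18 yg45 zg2) (kg xg18 yg11 zg6) (kg xg18 yg11 zg5)) (@D3.rec (fun _ => Pt) (kg xg10 yg41 zg8) (kg xg27 yg11 zg18) (kg xg11 yg38 zg48) (kg xg10 yg18 zg17) (kg xg17 yg22 zg19) (kg xg10 yg2 zg54) (kg xg12 yg10 zg43) (kg xg16 yg29 zg37) (kg xg26 yg48 zg44) (kg xg18 yg25 zg12) (kg xg13 yg17 zg46) (kg xg11 yg57 zg52) (kg xg20 yg27 zg10) (kg xg17 yg17 zg14) (kg xg17 yg12 zg52) (kg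 xg10 yg2 zg56) (kg xg24 yg59 zg34) (kg xg27 yg59 zg43) (kg xg21 yg38 zg42) (kg xg10 yg2 zg57) (kg xg27 yg59 zg50) (kg xg26 yg57 zg60) (kg xg20 yg52 zg6) (kg xg24 yg7 zg6) (kg xg22 yg11 zg41) (kg xg24 yg7 zg2) (kg xg16 yg55 zg0) (kg xg20 yg53 zg20) (kg xg26 yg55 zg14) (kg xg20 yg9 zg36) (kg xg19 yg53 zg7) (kg xg10 yg3 zg3) (kg xg11 yg13 zg55) (kg xg11 yg35 zg42) (kg xg20 yg53 zg9) (kg xg11 yg36 zg9) (kg xg11 yg36 zg14) (kg xg15 yg12 zg49) (kg xg10 yg3 zg7) (kg xg18 yg38 zg43) (kg xg10 yg3 zg8) (kg xg10 yg30 zg11) (kg xg13 yg41 zg58) (kg xg22 yg51 zg19) (kg xg13 yg41 zg34) (kg xg10 yg3 zg13) (kg xg18 yg15 zg47) (kg xg12 yg6 zg38) (kg xg10 yg3 zg15) (kg xg16 yg20 zg53) (kg xg13 yg29 zg19) (kg xg18 yg10 zg40) (kg xg10 yg26 zg25) (kg xg27 yg58 zg40) (kg xg26 yg21 zg14) (kg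 xg24 yg18 zg9) (kg xg20 yg8 zg14) (kg xg22 yg49 zg32) (kg xg18 yg41 zg29) (kg xg16 yg19 zg37) (kg xg28 yg0 zg8) (kg xg16 yg19 zg27)) (@D3.rec (fun _ => Pt) (kg xg28 yg0 zg12) (kg xg20 yg36 zg59) (kg xg19 yg1 zg1) (kg xg10 yg3 zg25) (kg xg25 yg59 zg41) (kg xg19 yg0 zg61) (kg xg18 yg59 zg39) (kg xg26 yg20 zg9) (kg xg18 yg53 zg50) (kg xg20 yg55 zg60) (kg xg20 yg54 zg60) (kg xg16 yg40 zg35) (kg xg16 yg41 zg45) (kg xg12 yg54 zg0) (kg xg26 yg40 zg42) (kg xg10 yg3 zg35) (kg xg10 yg13 zg54) (kg xg10 yg3 zg40) (kg xg10 yg3 zg36) (kg xg20 yg8 zg22) (kg xg27 yg37 zg38) (kg xg27 yg59 zg21) (kg xg17 yg49 zg21) (kg xg10 yg20 zg37) (kg xg10 yg32 zg12) (kg xg10 yg20 zg40) (kg xg10 yg51 zg39) (kg xg10 yg42 zg60) (kg xg10 yg3 zg51) (kg xg20 yg56 zg19) (kg xg20 yg22 zg36) (kg xg11 yg35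 zg39) (kg xg17 yg6 zg20) (kg xg14 yg31 zg37) (kg xg18 yg57 zg34) (kg xg10 yg23 zg19) (kg xg11 yg1 zg52) (kg xg18 yg42 zg13) (kg xg10 yg23 zg6) (kg xg10 yg4 zg49) (kg xg10 yg4 zg2) (kg xg18 yg43 zg14) (kg xg17 yg2 zg54) (kg xg23 yg3 zg51) (kg xg17 yg2 zg53) (kg xg26 yg25 zg4) (kg xg18 yg42 zg19) (kg xg24 yg44 zg23) (kg xg23 yg50 zg25) (kg xg10 yg4 zg10) (kg xg23 yg13 zg55) (kg xg16 yg13 zg8) (kg xg27 yg57 zg30) (kg xg18 yg19 zg1) (kg xg10 yg4 zg12) (kg xg18 yg19 zg0) (kg xg26 yg9 zg25) (kg xg26 yg1 zg12) (kg xg10 yg4 zg14) (kg xg18 yg18 zg57) (kg xg16 yg11 zg29) (kg xg28 yg0 zg33)) (@D3.rec (fun _ => Pt) (kg xg26 yg6 zg59) (kg xg26 yg25 zg8) (kg xg10 yg4 zg17) (kg xg12 yg48 zg19) (kg xg13 yg19 zg12) (kg xg22 yg30 zg39) (kg xg26 yg25 zg3) (kg xg14 yg26 zg43) (kg xg24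 yg59 zg57) (kg xg28 yg0 zg42) (kg xg21 yg38 zg43) (kg xg27 yg7 zg61) (kg xg26 yg57 zg58) (kg xg20 yg26 zg12) (kg xg22 yg33 zg38) (kg xg21 yg2 zg56) (kg xg16 yg59 zg60) (kg xg11 yg35 zg4) (kg xg15 yg26 zg43) (kg xg10 yg4 zg32) (kg xg14 yg35 zg4) (kg xg25 yg44 zg56) (kg xg17 yg20 zg3) (kg xg17 yg15 zg54) (kg xg21 yg44 zg15) (kg xg10 yg4 zg46) (kg xg20 yg15 zg37) (kg xg10 yg4 zg47) (kg xg18 yg21 zg3) (kg xg10 yg5 zg48) (kg xg17 yg13 zg6) (kg xg27 yg41 zg29) (kg xg14 yg33 zg12) (kg xg17 yg34 zg47) (kg xg11 yg6 zg43) (kg xg18 yg24 zg44) (kg xg11 yg8 zg33) (kg xg10 yg4 zg56) (kg xg21 yg35 zg55) (kg xg12 yg7 zg26) (kg xg27 yg57 zg36) (kg xg11 yg30 zg51) (kg xg18 yg43 zg6) (kg xg28 yg0 zg50) (kg xg12 yg9 zg41) (kg xg25 yg18 zg22) (kg xg15 yg23 zg51) (kg xg28 yg0 zg32) (kg xg18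 yg43 zg1) (kg xg10 yg5 zg7) (kg xg15 yg13 zg29) (kg xg20 yg8 zg46) (kg xg28 yg0 zg56) (kg xg24 yg31 zg11) (kg xg10 yg5 zg8) (kg xg28 yg0 zg51) (kg xg20 yg25 zg18) (kg xg11 yg30 zg52) (kg xg15 yg26 zg20) (kg xg10 yg5 zg51) (kg xg10 yg5 zg52) (kg xg20 yg34 zg55)) (@D3.rec (fun _ => Pt) (kg xg17 yg12 zg44) (kg xg21 yg20 zg17) (kg xg21 yg20 zg50) (kg xg17 yg34 zg48) (kg xg11 yg25 zg12) (kg xg15 yg50 zg7) (kg xg12 yg40 zg44) (kg xg21 yg58 zg0) (kg xg20 yg52 zg44) (kg xg18 yg43 zg15) (kg xg18 yg24 zg25) (kg xg20 yg33 zg5) (kg xg20 yg33 zg4) (kg xg11 yg57 zg60) (kg xg17 yg15 zg50) (kg xg11 yg25 zg48) (kg xg17 yg3 zg13) (kg xg17 yg7 zg20) (kg xg18 yg8 zg15) (kg xg21 yg54 zg57) (kg xg21 yg7 zg2) (kg xg10 yg5 zg37) (kg xg12 yg28 zg30) (kg xg18 yg38 zg36) (kg xg13 yg2 zg31) (kg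 xg26 yg59 zg19) (kg xg21 yg29 zg32) (kg xg11 yg26 zg61) (kg xg18 yg19 zg3) (kg xg28 yg1 zg6) (kg xg14 yg52 zg45) (kg xg22 yg11 zg9) (kg xg10 yg5 zg46) (kg xg22 yg11 zg33) (kg xg18 yg23 zg61) (kg xg12 yg56 zg20) (kg xg10 yg5 zg49) (kg xg18 yg24 zg34) (kg xg20 yg26 zg28) (kg xg18 yg24 zg15) (kg xg28 yg1 zg8) (kg xg10 yg6 zg10) (kg xg18 yg23 zg35) (kg xg18 yg43 zg40) (kg xg11 yg57 zg35) (kg xg18 yg37 zg41) (kg xg10 yg5 zg57) (kg xg20 yg34 zg56) (kg xg10 yg6 zg33) (kg xg10 yg5 zg58) (kg xg28 yg1 zg9) (kg xg11 yg31 zg22) (kg xg12 yg32 zg1) (kg xg27 yg56 zg22) (kg xg17 yg9 zg32) (kg xg18 yg21 zg28) (kg xg23 yg38 zg9) (kg xg10 yg6 zg3) (kg xg18 yg43 zg37) (kg xg14 yg26 zg58) (kg xg10 yg6 zg6) (kg xg27 yg45 zg20)) (@D3.rec (fun _ => Pt) (kg xg28 yg1 zg16) (kg xg10 yg6 zg14)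 (kg xg22 yg3 zg20) (kg xg10 yg6 zg8) (kg xg12 yg15 zg2) (kg xg25 yg39 zg25) (kg xg26 yg59 zg7) (kg xg20 yg1 zg40) (kg xg10 yg6 zg41) (kg xg10 yg6 zg21) (kg xg20 yg0 zg54) (kg xg19 yg58 zg39) (kg xg15 yg26 zg15) (kg xg17 yg9 zg49) (kg xg23 yg38 zg8) (kg xg10 yg6 zg13) (kg xg15 yg27 zg5) (kg xg28 yg1 zg23) (kg xg15 yg5 zg40) (kg xg24 yg19 zg2) (kg xg11 yg39 zg6) (kg xg21 yg38 zg14) (kg xg25 yg18 zg60) (kg xg21 yg51 zg2) (kg xg25 yg23 zg50) (kg xg28 yg1 zg25) (kg xg27 yg37 zg32) (kg xg14 yg55 zg56) (kg xg27 yg56 zg20) (kg xg12 yg43 zg26) (kg xg21 yg51 zg20) (kg xg21 yg20 zg6) (kg xg28 yg1 zg29) (kg xg12 yg26 zg2) (kg xg21 yg30 zg30) (kg xg26 yg55 zg5) (kg xg20 yg40 zg0) (kg xg28 yg1 zg11) (kg xg10 yg6 zg32) (kg xg16 yg48 zg56) (kg xg28 yg1 zg10) (kg xg26 yg58 zg25) (kg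 xg21 yg30 zg16) (kg xg20 yg51 zg55) (kg xg10 yg6 zg38) (kg xg16 yg59 zg38) (kg xg17 yg56 zg37) (kg xg18 yg43 zg42) (kg xg20 yg22 zg27) (kg xg19 yg58 zg41) (kg xg15 yg26 zg47) (kg xg12 yg43 zg31) (kg xg10 yg6 zg45) (kg xg16 yg47 zg30) (kg xg21 yg3 zg17) (kg xg27 yg42 zg19) (kg xg18 yg26 zg23) (kg xg18 yg43 zg54) (kg xg15 yg26 zg17) (kg xg11 yg58 zg16) (kg xg16 yg49 zg49) (kg xg17 yg12 zg45)) (@D3.rec (fun _ => Pt) (kg xg10 yg49 zg7) (kg xg10 yg7 zg16) (kg xg10 yg6 zg59) (kg xg10 yg6 zg56) (kg xg12 yg9 zg28) (kg xg10 yg7 zg0) (kg xg21 yg7 zg15) (kg xg10 yg7 zg5) (kg xg21 yg47 zg45) (kg xg23 yg36 zg17) (kg xg24 yg32 zg46) (kg xg18 yg37 zg55) (kg xg18 yg37 zg53) (kg xg18 yg37 zg50) (kg xg18 yg35 zg46) (kg xg12 yg31 zg31) (kg xg17 yg0 zg9) (kg xg21 yg47 zg47) (kg xg12 yg13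 zg37) (kg xg18 yg37 zg48) (kg xg21 yg7 zg25) (kg xg12 yg31 zg39) (kg xg17 yg57 zg43) (kg xg18 yg25 zg59) (kg xg17 yg23 zg14) (kg xg20 yg59 zg34) (kg xg10 yg7 zg21) (kg xg18 yg30 zg20) (kg xg17 yg44 zg22) (kg xg10 yg7 zg27) (kg xg25 yg0 zg15) (kg xg15 yg12 zg8) (kg xg28 yg1 zg47) (kg xg22 yg28 zg26) (kg xg18 yg5 zg36) (kg xg10 yg7 zg29) (kg xg18 yg9 zg60) (kg xg13 yg40 zg60) (kg xg18 yg5 zg34) (kg xg10 yg7 zg37) (kg xg18 yg9 zg59) (kg xg10 yg7 zg33) (kg xg18 yg9 zg58) (kg xg18 yg29 zg26) (kg xg24 yg31 zg21) (kg xg24 yg58 zg47) (kg xg10 yg7 zg35) (kg xg23 yg43 zg16) (kg xg14 yg8 zg20) (kg xg28 yg1 zg54) (kg xg28 yg1 zg57) (kg xg18 yg10 zg2) (kg xg18 yg40 zg33) (kg xg10 yg7 zg38) (kg xg18 yg40 zg32) (kg xg18 yg37 zg28) (kg xg26 yg15 zg7) (kg xg23 yg18 zg32) (kg xg28 yg1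 zg61) (kg xg19 yg4 zg31) (kg xg18 yg28 zg5) (kg xg26 yg15 zg16)) (@D3.rec (fun _ => Pt) (kg xg13 yg21 zg60) (kg xg15 yg11 zg44) (kg xg25 yg0 zg21) (kg xg25 yg0 zg19) (kg xg10 yg7 zg44) (kg xg28 yg2 zg13) (kg xg10 yg7 zg61) (kg xg10 yg7 zg46) (kg xg24 yg59 zg18) (kg xg25 yg15 zg52) (kg xg28 yg1 zg60) (kg xg18 yg30 zg23) (kg xg24 yg29 zg34) (kg xg10 yg7 zg49) (kg xg28 yg2 zg23) (kg xg28 yg1 zg50) (kg xg25 yg3 zg35) (kg xg10 yg7 zg54) (kg xg28 yg2 zg27) (kg xg18 yg5 zg15) (kg xg25 yg19 zg39) (kg xg25 yg19 zg38) (kg xg18 yg10 zg4) (kg xg15 yg11 zg29) (kg xg26 yg12 zg10) (kg xg24 yg58 zg59) (kg xg24 yg29 zg31) (kg xg10 yg8 zg0) (kg xg16 yg18 zg41) (kg xg18 yg5 zg23) (kg xg25 yg0 zg26) (kg xg10 yg8 zg1) (kg xg28 yg2 zg33) (kg xg27 yg29 zg10) (kg xg27 yg49 zg9) (kg xg18 yg4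 zg43) (kg xg24 yg44 zg34) (kg xg27 yg38 zg25) (kg xg27 yg26 zg42) (kg xg18 yg4 zg38) (kg xg27 yg31 zg47) (kg xg27 yg24 zg40) (kg xg16 yg50 zg49) (kg xg10 yg8 zg11) (kg xg15 yg44 zg56) (kg xg17 yg39 zg45) (kg xg18 yg18 zg0) (kg xg18 yg18 zg17) (kg xg10 yg8 zg13) (kg xg18 yg18 zg16) (kg xg10 yg21 zg33) (kg xg10 yg8 zg14) (kg xg10 yg21 zg32) (kg xg28 yg2 zg41) (kg xg27 yg8 zg9) (kg xg10 yg8 zg16) (kg xg18 yg20 zg21) (kg xg10 yg21 zg1) (kg xg24 yg1 zg49) (kg xg15 yg30 zg57) (kg xg15 yg51 zg42) (kg xg17 yg52 zg44)) (@D3.rec (fun _ => Pt) (kg xg15 yg14 zg49) (kg xg18 yg29 zg33) (kg xg14 yg59 zg11) (kg xg18 yg3 zg58) (kg xg18 yg49 zg57) (kg xg18 yg27 zg1) (kg xg22 yg35 zg12) (kg xg25 yg0 zg49) (kg xg10 yg8 zg23) (kg xg28 yg2 zg59) (kg xg23 yg43 zg23) (kg xg10 yg8 zg24) (kg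 xg27 yg46 zg25) (kg xg16 yg18 zg16) (kg xg23 yg37 zg38) (kg xg28 yg3 zg4) (kg xg15 yg14 zg47) (kg xg28 yg3 zg6) (kg xg25 yg0 zg37) (kg xg10 yg8 zg27) (kg xg19 yg6 zg35) (kg xg24 yg59 zg28) (kg xg25 yg3 zg21) (kg xg28 yg3 zg13) (kg xg15 yg14 zg48) (kg xg28 yg3 zg14) (kg xg10 yg8 zg30) (kg xg27 yg46 zg7) (kg xg25 yg0 zg42) (kg xg25 yg1 zg8) (kg xg28 yg3 zg23) (kg xg25 yg6 zg58) (kg xg10 yg9 zg7) (kg xg28 yg2 zg20) (kg xg15 yg19 zg44) (kg xg17 yg50 zg36) (kg xg10 yg13 zg42) (kg xg18 yg27 zg23) (kg xg16 yg18 zg39) (kg xg25 yg0 zg33) (kg xg10 yg8 zg42) (kg xg26 yg31 zg57) (kg xg18 yg26 zg57) (kg xg27 yg39 zg38) (kg xg10 yg8 zg43) (kg xg28 yg3 zg29) (kg xg10 yg8 zg44) (kg xg16 yg17 zg48) (kg xg25 yg3 zg22) (kg xg28 yg3 zg31) (kg xg18 yg8 zg41) (kg xg25 yg1 zg9) (kg xg10 yg9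 zg9) (kg xg25 yg3 zg23) (kg xg25 yg1 zg20) (kg xg27 yg46 zg40) (kg xg19 yg6 zg31) (kg xg25 yg2 zg60) (kg xg10 yg9 zg19) (kg xg18 yg5 zg55) (kg xg10 yg8 zg53) (kg xg25 yg3 zg33)) (@D3.rec (fun _ => Pt) (kg xg10 yg8 zg55) (kg xg24 yg53 zg49) (kg xg25 yg0 zg51) (kg xg25 yg0 zg59) (kg xg22 yg14 zg55) (kg xg25 yg1 zg17) (kg xg23 yg43 zg29) (kg xg10 yg25 zg58) (kg xg10 yg9 zg21) (kg xg18 yg8 zg42) (kg xg23 yg2 zg8) (kg xg15 yg50 zg31) (kg xg10 yg8 zg60) (kg xg28 yg3 zg45) (kg xg18 yg8 zg7) (kg xg28 yg2 zg38) (kg xg18 yg26 zg43) (kg xg18 yg14 zg10) (kg xg23 yg42 zg46) (kg xg28 yg3 zg48) (kg xg10 yg9 zg10) (kg xg28 yg3 zg50) (kg xg10 yg22 zg38) (kg xg10 yg9 zg11) (kg xg23 yg44 zg59) (kg xg28 yg3 zg53) (kg xg12 yg19 zg55) (kg xg28 yg3 zg26) (kg xg19 yg22 zg25) (kg xg27 yg31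 zg9) (kg xg28 yg3 zg32) (kg xg26 yg32 zg59) (kg xg25 yg0 zg54) (kg xg18 yg28 zg4) (kg xg28 yg3 zg58) (kg xg22 yg10 zg34) (kg xg12 yg47 zg42) (kg xg27 yg38 zg23) (kg xg22 yg12 zg24) (kg xg16 yg16 zg52) (kg xg10 yg9 zg12) (kg xg18 yg37 zg40) (kg xg18 yg15 zg24) (kg xg23 yg37 zg42) (kg xg23 yg44 zg35) (kg xg28 yg4 zg3) (kg xg28 yg3 zg0) (kg xg21 yg6 zg21) (kg xg27 yg28 zg42) (kg xg10 yg9 zg16) (kg xg22 yg46 zg7) (kg xg28 yg4 zg7) (kg xg10 yg9 zg17) (kg xg21 yg25 zg30) (kg xg18 yg7 zg30) (kg xg10 yg9 zg18) (kg xg28 yg4 zg9) (kg xg25 yg0 zg34) (kg xg12 yg21 zg54) (kg xg23 yg43 zg26) (kg xg23 yg43 zg27) (kg xg21 yg25 zg27)) (@D3.rec (fun _ => Pt) (kg xg27 yg44 zg55) (kg xg21 yg25 zg10) (kg xg10 yg9 zg22) (kg xg28 yg4 zg13) (kg xg25 yg1 zg23) (kg xg22 yg55 zg49) (kg xg26 yg14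 zg27) (kg xg21 yg25 zg9) (kg xg21 yg25 zg23) (kg xg28 yg4 zg17) (kg xg15 yg14 zg51) (kg xg18 yg6 zg45) (kg xg28 yg4 zg20) (kg xg24 yg56 zg20) (kg xg16 yg23 zg19) (kg xg26 yg13 zg45) (kg xg18 yg6 zg20) (kg xg18 yg4 zg14) (kg xg10 yg9 zg28) (kg xg28 yg3 zg35) (kg xg18 yg31 zg46) (kg xg18 yg5 zg58) (kg xg28 yg4 zg27) (kg xg26 yg12 zg56) (kg xg27 yg32 zg1) (kg xg28 yg2 zg29) (kg xg26 yg18 zg18) (kg xg18 yg6 zg13) (kg xg18 yg27 zg11) (kg xg15 yg0 zg43) (kg xg10 yg9 zg37) (kg xg15 yg0 zg42) (kg xg28 yg4 zg34) (kg xg27 yg5 zg29) (kg xg19 yg10 zg20) (kg xg27 yg35 zg17) (kg xg18 yg11 zg23) (kg xg10 yg9 zg40) (kg xg18 yg11 zg22) (kg xg28 yg4 zg45) (kg xg27 yg55 zg2) (kg xg28 yg4 zg49) (kg xg10 yg9 zg42) (kg xg27 yg34 zg14) (kg xg10 yg10 zg10) (kg xg27 yg18 zg58) (kg xg28 yg4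 zg54) (kg xg24 yg16 zg47) (kg xg18 yg11 zg30) (kg xg10 yg9 zg48) (kg xg18 yg11 zg29) (kg xg16 yg34 zg29) (kg xg22 yg49 zg47) (kg xg25 yg48 zg8) (kg xg18 yg11 zg44) (kg xg10 yg9 zg50) (kg xg17 yg46 zg17) (kg xg18 yg11 zg42) (kg xg18 yg11 zg61) (kg xg10 yg9 zg60) (kg xg28 yg5 zg8) (kg xg18 yg11 zg37)) (@D3.rec (fun _ => Pt) (kg xg10 yg9 zg56) (kg xg18 yg11 zg36) (kg xg27 yg51 zg24) (kg xg27 yg52 zg4) (kg xg26 yg30 zg6) (kg xg10 yg9 zg58) (kg xg19 yg22 zg35) (kg xg18 yg11 zg49) (kg xg10 yg9 zg59) (kg xg18 yg11 zg48) (kg xg28 yg5 zg27) (kg xg18 yg11 zg45) (kg xg18 yg11 zg56) (kg xg10 yg9 zg61) (kg xg18 yg11 zg55) (kg xg10 yg12 zg26) (kg xg27 yg39 zg0) (kg xg28 yg5 zg32) (kg xg18 yg22 zg15) (kg xg28 yg5 zg38) (kg xg26 yg18 zg56) (kg xg10 yg11 zg4) (kg xg18 yg12 zg10) (kg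 xg18 yg12 zg7) (kg xg10 yg10 zg4) (kg xg27 yg2 zg48) (kg xg18 yg34 zg33) (kg xg28 yg5 zg20) (kg xg28 yg5 zg48) (kg xg24 yg22 zg57) (kg xg26 yg27 zg36) (kg xg28 yg4 zg52) (kg xg10 yg10 zg8) (kg xg28 yg6 zg0) (kg xg28 yg4 zg50) (kg xg28 yg6 zg2) (kg xg17 yg47 zg17) (kg xg28 yg5 zg31) (kg xg17 yg45 zg55) (kg xg18 yg38 zg35) (kg xg27 yg54 zg37) (kg xg10 yg10 zg11) (kg xg28 yg6 zg12) (kg xg10 yg10 zg16) (kg xg28 yg6 zg15) (kg xg17 yg47 zg35) (kg xg25 yg24 zg7) (kg xg28 yg5 zg13) (kg xg27 yg33 zg7) (kg xg28 yg6 zg23) (kg xg18 yg4 zg46) (kg xg10 yg10 zg18) (kg xg18 yg4 zg45) (kg xg28 yg6 zg27) (kg xg18 yg4 zg40) (kg xg10 yg10 zg19) (kg xg18 yg29 zg2) (kg xg18 yg4 zg17) (kg xg18 yg4 zg55) (kg xg17 yg23 zg15) (kg xg15 yg16 zg35) (kg xg18 yg32 zg24)) (@D3.rec (fun _ => Pt) (kg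 xg18 yg9 zg22) (kg xg18 yg1 zg15) (kg xg10 yg10 zg49) (kg xg28 yg6 zg33) (kg xg28 yg6 zg35) (kg xg10 yg10 zg25) (kg xg28 yg6 zg34) (kg xg18 yg20 zg42) (kg xg10 yg12 zg15) (kg xg18 yg9 zg16) (kg xg10 yg16 zg55) (kg xg18 yg33 zg40) (kg xg18 yg11 zg10) (kg xg18 yg12 zg1) (kg xg24 yg45 zg8) (kg xg10 yg11 zg28) (kg xg28 yg6 zg45) (kg xg10 yg10 zg37) (kg xg10 yg10 zg34) (kg xg20 yg11 zg5) (kg xg27 yg55 zg29) (kg xg28 yg6 zg55) (kg xg18 yg12 zg48) (kg xg18 yg12 zg47) (kg xg18 yg32 zg1) (kg xg19 yg6 zg18) (kg xg23 yg53 zg55) (kg xg26 yg39 zg43) (kg xg10 yg10 zg38) (kg xg19 yg44 zg17) (kg xg10 yg11 zg26) (kg xg18 yg12 zg53) (kg xg21 yg33 zg29) (kg xg12 yg35 zg2) (kg xg12 yg31 zg36) (kg xg18 yg12 zg49) (kg xg12 yg12 zg37) (kg xg19 yg17 zg8) (kg xg24 yg48 zg6) (kg xg27 yg43 zg35)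 (kg xg27 yg55 zg22) (kg xg28 yg7 zg3) (kg xg18 yg11 zg12) (kg xg18 yg11 zg11) (kg xg10 yg10 zg50) (kg xg18 yg10 zg8) (kg xg20 yg38 zg25) (kg xg18 yg8 zg53) (kg xg10 yg27 zg56) (kg xg22 yg50 zg58) (kg xg10 yg10 zg54) (kg xg28 yg7 zg8) (kg xg18 yg8 zg60) (kg xg10 yg10 zg56) (kg xg28 yg7 zg15) (kg xg18 yg8 zg58) (kg xg10 yg10 zg61) (kg xg17 yg44 zg53) (kg xg10 yg10 zg59) (kg xg28 yg5 zg21) (kg xg25 yg34 zg9) (kg xg18 yg34 zg35)) (@D3.rec (fun _ => Pt) (kg xg18 yg9 zg1) (kg xg17 yg46 zg2) (kg xg12 yg2 zg25) (kg xg18 yg12 zg8) (kg xg16 yg23 zg41) (kg xg27 yg59 zg13) (kg xg18 yg9 zg31) (kg xg21 yg12 zg40) (kg xg18 yg9 zg28) (kg xg10 yg11 zg3) (kg xg28 yg7 zg33) (kg xg28 yg5 zg40) (kg xg26 yg19 zg30) (kg xg18 yg12 zg3) (kg xg27 yg33 zg58) (kg xg10 yg11 zg5) (kg xg14 yg14 zg51)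 (kg xg23 yg51 zg39) (kg xg21 yg12 zg44) (kg xg28 yg5 zg34) (kg xg18 yg35 zg21) (kg xg10 yg11 zg7) (kg xg19 yg12 zg37) (kg xg27 yg34 zg0) (kg xg19 yg5 zg16) (kg xg15 yg23 zg11) (kg xg19 yg20 zg17) (kg xg15 yg2 zg15) (kg xg10 yg24 zg3) (kg xg15 yg2 zg7) (kg xg20 yg5 zg10) (kg xg10 yg11 zg12) (kg xg28 yg7 zg54) (kg xg10 yg40 zg49) (kg xg15 yg29 zg10) (kg xg10 yg11 zg15) (kg xg28 yg6 zg49) (kg xg26 yg41 zg41) (kg xg18 yg10 zg46) (kg xg18 yg10 zg23) (kg xg18 yg32 zg14) (kg xg17 yg30 zg14) (kg xg17 yg46 zg34) (kg xg28 yg7 zg58) (kg xg10 yg11 zg20) (kg xg18 yg10 zg16) (kg xg11 yg36 zg10) (kg xg10 yg11 zg24) (kg xg19 yg44 zg13) (kg xg27 yg37 zg43) (kg xg26 yg41 zg3) (kg xg18 yg10 zg20) (kg xg18 yg10 zg21) (kg xg27 yg37 zg24) (kg xg11 yg56 zg49) (kg xg17 yg34 zg34) (kg xg10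 yg11 zg31) (kg xg18 yg14 zg20) (kg xg10 yg11 zg32) (kg xg18 yg14 zg19) (kg xg27 yg51 zg39) (kg xg28 yg8 zg10)) (@D3.rec (fun _ => Pt) (kg xg24 yg13 zg14) (kg xg10 yg11 zg49) (kg xg10 yg11 zg34) (kg xg18 yg32 zg61) (kg xg10 yg11 zg47) (kg xg19 yg6 zg27) (kg xg11 yg6 zg7) (kg xg15 yg0 zg37) (kg xg10 yg33 zg5) (kg xg10 yg11 zg38) (kg xg10 yg33 zg4) (kg xg28 yg8 zg21) (kg xg26 yg32 zg12) (kg xg10 yg13 zg52) (kg xg28 yg8 zg26) (kg xg26 yg30 zg54) (kg xg18 yg14 zg39) (kg xg27 yg50 zg16) (kg xg20 yg19 zg8) (kg xg28 yg8 zg34) (kg xg28 yg8 zg32) (kg xg10 yg11 zg44) (kg xg27 yg49 zg51) (kg xg28 yg8 zg30) (kg xg27 yg52 zg60) (kg xg10 yg11 zg45) (kg xg27 yg52 zg59) (kg xg28 yg8 zg12) (kg xg26 yg20 zg57) (kg xg28 yg7 zg18) (kg xg22 yg50 zg53) (kg xg28 yg6 zg41) (kg xg17 yg52 zg53)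 (kg xg10 yg11 zg48) (kg xg20 yg10 zg29) (kg xg24 yg57 zg18) (kg xg26 yg20 zg7) (kg xg10 yg11 zg54) (kg xg28 yg8 zg59) (kg xg28 yg7 zg14) (kg xg27 yg37 zg0) (kg xg27 yg11 zg17) (kg xg25 yg47 zg26) (kg xg24 yg48 zg23) (kg xg28 yg7 zg12) (kg xg28 yg9 zg6) (kg xg24 yg50 zg46) (kg xg10 yg11 zg57) (kg xg28 yg6 zg48) (kg xg27 yg56 zg19) (kg xg10 yg12 zg39) (kg xg18 yg6 zg49) (kg xg28 yg6 zg50) (kg xg10 yg12 zg4) (kg xg10 yg12 zg0) (kg xg14 yg6 zg50) (kg xg10 yg12 zg2) (kg xg28 yg9 zg14) (kg xg28 yg8 zg0) (kg xg10 yg12 zg41) (kg xg18 yg7 zg37) (kg xg28 yg9 zg8)) (@D3.rec (fun _ => Pt) (kg xg27 yg41 zg30) (kg xg17 yg52 zg54) (kg xg10 yg12 zg3) (kg xg10 yg21 zg42) (kg xg10 yg22 zg50) (kg xg17 yg6 zg40) (kg xg18 yg7 zg42) (kg xg16 yg20 zg8) (kg xg24 yg37 zg20) (kg xg20 yg15 zg21)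 (kg xg16 yg59 zg15) (kg xg10 yg12 zg17) (kg xg10 yg13 zg30) (kg xg28 yg6 zg37) (kg xg17 yg48 zg5) (kg xg27 yg56 zg35) (kg xg17 yg45 zg54) (kg xg28 yg9 zg23) (kg xg18 yg17 zg34) (kg xg18 yg13 zg14) (kg xg18 yg9 zg2) (kg xg18 yg33 zg21) (kg xg27 yg34 zg13) (kg xg27 yg51 zg40) (kg xg27 yg34 zg11) (kg xg28 yg9 zg27) (kg xg27 yg35 zg21) (kg xg27 yg32 zg9) (kg xg10 yg12 zg29) (kg xg27 yg50 zg5) (kg xg28 yg9 zg30) (kg xg28 yg6 zg14) (kg xg19 yg42 zg19) (kg xg27 yg34 zg54) (kg xg19 yg6 zg22) (kg xg28 yg4 zg8) (kg xg28 yg9 zg10) (kg xg10 yg12 zg45) (kg xg18 yg57 zg14) (kg xg27 yg38 zg44) (kg xg28 yg3 zg51) (kg xg10 yg13 zg61) (kg xg10 yg14 zg1) (kg xg18 yg17 zg15) (kg xg18 yg7 zg43) (kg xg10 yg12 zg51) (kg xg10 yg14 zg7) (kg xg18 yg17 zg16) (kg xg10 yg12 zg52) (kg xg10 yg29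 zg2) (kg xg19 yg1 zg54) (kg xg22 yg51 zg57) (kg xg14 yg26 zg14) (kg xg10 yg13 zg14) (kg xg10 yg22 zg36) (kg xg12 yg2 zg24) (kg xg19 yg1 zg57) (kg xg14 yg52 zg49) (kg xg10 yg14 zg30) (kg xg24 yg28 zg30) (kg xg10 yg13 zg6) (kg xg10 yg12 zg59)) (@D3.rec (fun _ => Pt) (kg xg24 yg46 zg0) (kg xg28 yg0 zg13) (kg xg24 yg28 zg19) (kg xg10 yg13 zg1) (kg xg27 yg58 zg38) (kg xg14 yg58 zg23) (kg xg14 yg19 zg0) (kg xg28 yg9 zg20) (kg xg27 yg38 zg50) (kg xg23 yg3 zg41) (kg xg10 yg13 zg16) (kg xg18 yg16 zg15) (kg xg28 yg9 zg39) (kg xg28 yg6 zg40) (kg xg16 yg20 zg21) (kg xg10 yg13 zg5) (kg xg12 yg16 zg10) (kg xg21 yg41 zg4) (kg xg10 yg13 zg48) (kg xg13 yg2 zg30) (kg xg16 yg6 zg45) (kg xg10 yg13 zg31) (kg xg10 yg13 zg36) (kg xg17 yg48 zg13) (kg xg28 yg9 zg40) (kg xg10 yg13 zg24) (kg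 xg18 yg39 zg28) (kg xg23 yg6 zg11) (kg xg20 yg0 zg50) (kg xg18 yg17 zg33) (kg xg20 yg13 zg27) (kg xg23 yg18 zg12) (kg xg18 yg16 zg54) (kg xg16 yg18 zg7) (kg xg16 yg20 zg18) (kg xg28 yg9 zg56) (kg xg10 yg15 zg19) (kg xg21 yg27 zg41) (kg xg18 yg17 zg20) (kg xg18 yg42 zg56) (kg xg28 yg8 zg38) (kg xg28 yg3 zg30) (kg xg27 yg39 zg35) (kg xg21 yg55 zg4) (kg xg18 yg15 zg32) (kg xg18 yg15 zg36) (kg xg10 yg14 zg4) (kg xg28 yg10 zg1) (kg xg22 yg14 zg54) (kg xg18 yg10 zg38) (kg xg19 yg23 zg9) (kg xg10 yg13 zg35) (kg xg15 yg8 zg60) (kg xg28 yg9 zg57) (kg xg25 yg2 zg61) (kg xg25 yg16 zg18) (kg xg18 yg17 zg17) (kg xg23 yg43 zg10) (kg xg10 yg13 zg39) (kg xg18 yg54 zg23) (kg xg23 yg2 zg5) (kg xg22 yg18 zg23)) (@D3.rec (fun _ => Pt) (kg xg18 yg54 zg26) (kg xg10 yg13 zg57) (kg xg10 yg13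 zg40) (kg xg22 yg15 zg51) (kg xg27 yg39 zg34) (kg xg27 yg39 zg30) (kg xg28 yg10 zg7) (kg xg10 yg13 zg59) (kg xg10 yg13 zg44) (kg xg20 yg37 zg51) (kg xg12 yg47 zg24) (kg xg18 yg24 zg6) (kg xg28 yg10 zg9) (kg xg21 yg26 zg20) (kg xg28 yg6 zg39) (kg xg27 yg20 zg16) (kg xg18 yg26 zg14) (kg xg18 yg15 zg60) (kg xg17 yg42 zg41) (kg xg28 yg3 zg34) (kg xg18 yg12 zg45) (kg xg26 yg4 zg19) (kg xg13 yg1 zg0) (kg xg11 yg21 zg51) (kg xg25 yg45 zg38) (kg xg10 yg13 zg55) (kg xg16 yg7 zg21) (kg xg17 yg42 zg38) (kg xg28 yg3 zg5) (kg xg22 yg18 zg55) (kg xg21 yg25 zg25) (kg xg21 yg4 zg37) (kg xg10 yg13 zg58) (kg xg21 yg31 zg24) (kg xg27 yg20 zg29) (kg xg28 yg10 zg8) (kg xg14 yg36 zg36) (kg xg10 yg13 zg60) (kg xg12 yg24 zg17) (kg xg17 yg56 zg41) (kg xg28 yg10 zg15) (kg xg18 yg24 zg46) (kg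 xg17 yg14 zg27) (kg xg21 yg35 zg13) (kg xg12 yg1 zg15) (kg xg10 yg14 zg5) (kg xg20 yg13 zg12) (kg xg18 yg26 zg19) (kg xg10 yg14 zg6) (kg xg17 yg58 zg1) (kg xg18 yg15 zg40) (kg xg19 yg59 zg18) (kg xg18 yg26 zg12) (kg xg10 yg14 zg9) (kg xg24 yg22 zg33) (kg xg18 yg17 zg27) (kg xg20 yg16 zg20) (kg xg21 yg25 zg55) (kg xg28 yg10 zg20) (kg xg10 yg14 zg12) (kg xg22 yg46 zg10) (kg xg10 yg14 zg13)) (@D3.rec (fun _ => Pt) (kg xg19 yg40 zg40) (kg xg12 yg14 zg1) (kg xg12 yg0 zg38) (kg xg12 yg40 zg58) (kg xg28 yg10 zg22) (kg xg18 yg16 zg27) (kg xg28 yg10 zg27) (kg xg28 yg8 zg25) (kg xg16 yg22 zg60) (kg xg12 yg47 zg22) (kg xg18 yg14 zg17) (kg xg10 yg14 zg18) (kg xg10 yg14 zg20) (kg xg14 yg37 zg15) (kg xg21 yg16 zg46) (kg xg10 yg14 zg21) (kg xg20 yg40 zg60) (kg xg17 yg57 zg61) (kg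 xg10 yg14 zg35) (kg xg10 yg14 zg25) (kg xg10 yg18 zg56) (kg xg11 yg31 zg28) (kg xg10 yg14 zg28) (kg xg17 yg53 zg40) (kg xg28 yg10 zg31) (kg xg10 yg14 zg32) (kg xg12 yg43 zg2) (kg xg18 yg17 zg28) (kg xg12 yg38 zg60) (kg xg18 yg17 zg32) (kg xg18 yg17 zg22) (kg xg15 yg7 zg40) (kg xg18 yg13 zg9) (kg xg28 yg10 zg34) (kg xg28 yg7 zg45) (kg xg27 yg32 zg16) (kg xg18 yg24 zg2) (kg xg18 yg45 zg61) (kg xg10 yg14 zg42) (kg xg18 yg20 zg24) (kg xg28 yg10 zg37) (kg xg16 yg21 zg42) (kg xg10 yg14 zg44) (kg xg18 yg21 zg40) (kg xg27 yg50 zg45) (kg xg27 yg51 zg7) (kg xg28 yg3 zg40) (kg xg28 yg10 zg42) (kg xg28 yg10 zg41) (kg xg10 yg14 zg57) (kg xg15 yg13 zg4) (kg xg24 yg57 zg26) (kg xg18 yg58 zg47) (kg xg10 yg14 zg58) (kg xg28 yg10 zg49) (kg xg18 yg58 zg45) (kg xg27 yg55 zg50) (kg xg16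 yg35 zg41) (kg xg26 yg18 zg57) (kg xg18 yg56 zg40) (kg xg18 yg58 zg6) (kg xg10 yg14 zg61)) (@D3.rec (fun _ => Pt) (kg xg26 yg20 zg5) (kg xg18 yg58 zg51) (kg xg10 yg15 zg3) (kg xg19 yg1 zg50) (kg xg16 yg35 zg52) (kg xg19 yg2 zg10) (kg xg26 yg32 zg32) (kg xg10 yg15 zg39) (kg xg18 yg19 zg51) (kg xg28 yg11 zg3) (kg xg10 yg15 zg10) (kg xg28 yg11 zg6) (kg xg10 yg15 zg14) (kg xg10 yg15 zg11) (kg xg10 yg28 zg47) (kg xg17 yg51 zg23) (kg xg17 yg51 zg24) (kg xg10 yg39 zg26) (kg xg28 yg11 zg9) (kg xg19 yg2 zg6) (kg xg19 yg33 zg20) (kg xg10 yg15 zg20) (kg xg10 yg15 zg16) (kg xg12 yg51 zg1) (kg xg10 yg15 zg18) (kg xg28 yg11 zg12) (kg xg17 yg50 zg56) (kg xg28 yg11 zg8) (kg xg12 yg21 zg17) (kg xg12 yg2 zg30) (kg xg27 yg16 zg54) (kg xg17 yg21 zg61) (kg xg18 yg42 zg28) (kg xg18 yg39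 zg1) (kg xg13 yg2 zg3) (kg xg18 yg25 zg21) (kg xg11 yg18 zg46) (kg xg12 yg31 zg14) (kg xg21 yg51 zg26) (kg xg10 yg15 zg31) (kg xg16 yg52 zg11) (kg xg16 yg59 zg61) (kg xg19 yg53 zg20) (kg xg11 yg2 zg9) (kg xg16 yg8 zg25) (kg xg10 yg15 zg33) (kg xg18 yg17 zg45) (kg xg27 yg20 zg22) (kg xg21 yg28 zg42) (kg xg16 yg49 zg16) (kg xg28 yg11 zg21) (kg xg18 yg19 zg29) (kg xg18 yg19 zg28) (kg xg18 yg17 zg54) (kg xg10 yg15 zg41) (kg xg18 yg17 zg53) (kg xg10 yg15 zg43) (kg xg18 yg18 zg3) (kg xg10 yg15 zg44) (kg xg18 yg18 zg2) (kg xg18 yg17 zg60) (kg xg10 yg54 zg13)) (@D3.rec (fun _ => Pt) (kg xg18 yg18 zg10) (kg xg10 yg15 zg49) (kg xg18 yg18 zg9) (kg xg14 yg1 zg8) (kg xg24 yg19 zg58) (kg xg28 yg11 zg30) (kg xg15 yg47 zg29) (kg xg26 yg41 zg2) (kg xg18 yg18 zg28) (kg xg18 yg18 zg26)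 (kg xg10 yg15 zg53) (kg xg28 yg11 zg40) (kg xg23 yg2 zg23) (kg xg23 yg59 zg25) (kg xg10 yg15 zg54) (kg xg23 yg26 zg37) (kg xg18 yg19 zg20) (kg xg10 yg15 zg55) (kg xg28 yg11 zg48) (kg xg18 yg19 zg18) (kg xg28 yg11 zg51) (kg xg19 yg55 zg16) (kg xg19 yg55 zg14) (kg xg10 yg15 zg57) (kg xg28 yg11 zg60) (kg xg26 yg8 zg36) (kg xg24 yg23 zg43) (kg xg26 yg47 zg49) (kg xg16 yg16 zg31) (kg xg28 yg12 zg2) (kg xg18 yg6 zg17) (kg xg18 yg26 zg54) (kg xg10 yg16 zg4) (kg xg18 yg26 zg53) (kg xg18 yg18 zg53) (kg xg10 yg16 zg5) (kg xg18 yg18 zg52) (kg xg13 yg26 zg37) (kg xg12 yg21 zg30) (kg xg28 yg12 zg12) (kg xg10 yg16 zg9) (kg xg18 yg18 zg48) (kg xg11 yg33 zg33) (kg xg10 yg16 zg17) (kg xg26 yg8 zg58) (kg xg27 yg58 zg50) (kg xg26 yg33 zg6) (kg xg10 yg16 zg16) (kg xg27 yg3 zg34) (kg xg16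 yg24 zg22) (kg xg22 yg53 zg41) (kg xg16 yg28 zg2) (kg xg10 yg16 zg18) (kg xg16 yg28 zg7) (kg xg18 yg19 zg15) (kg xg10 yg16 zg19) (kg xg28 yg12 zg25) (kg xg18 yg18 zg37) (kg xg10 yg16 zg20) (kg xg21 yg29 zg46) (kg xg18 yg18 zg35) (kg xg14 yg8 zg27)) (@D3.rec (fun _ => Pt) (kg xg26 yg28 zg25) (kg xg28 yg12 zg23) (kg xg28 yg12 zg14) (kg xg15 yg29 zg41) (kg xg17 yg15 zg24) (kg xg23 yg46 zg61) (kg xg18 yg19 zg31) (kg xg10 yg16 zg25) (kg xg18 yg19 zg30) (kg xg26 yg27 zg6) (kg xg18 yg19 zg41) (kg xg10 yg16 zg27) (kg xg18 yg19 zg40) (kg xg16 yg35 zg56) (kg xg28 yg12 zg42) (kg xg18 yg19 zg36) (kg xg10 yg16 zg29) (kg xg19 yg1 zg42) (kg xg18 yg19 zg34) (kg xg10 yg16 zg37) (kg xg18 yg19 zg48) (kg xg18 yg19 zg47) (kg xg20 yg6 zg4) (kg xg18 yg36 zg1) (kg xg16 yg53 zg12) (kg xg11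 yg38 zg5) (kg xg28 yg12 zg51) (kg xg18 yg56 zg19) (kg xg18 yg19 zg38) (kg xg18 yg21 zg53) (kg xg11 yg15 zg38) (kg xg22 yg51 zg2) (kg xg11 yg37 zg56) (kg xg21 yg29 zg3) (kg xg20 yg30 zg51) (kg xg28 yg12 zg58) (kg xg19 yg6 zg56) (kg xg10 yg34 zg36) (kg xg25 yg48 zg14) (kg xg10 yg16 zg52) (kg xg27 yg36 zg19) (kg xg10 yg16 zg56) (kg xg10 yg16 zg53) (kg xg22 yg54 zg25) (kg xg17 yg50 zg51) (kg xg18 yg10 zg3) (kg xg18 yg10 zg34) (kg xg20 yg38 zg15) (kg xg11 yg6 zg52) (kg xg23 yg7 zg16) (kg xg10 yg16 zg57) (kg xg18 yg10 zg13) (kg xg17 yg53 zg27) (kg xg10 yg53 zg33) (kg xg18 yg22 zg27) (kg xg16 yg44 zg40) (kg xg11 yg54 zg32) (kg xg19 yg40 zg34) (kg xg10 yg17 zg6) (kg xg11 yg57 zg6) (kg xg20 yg59 zg29) (kg xg14 yg39 zg19)) (@D3.rec (fun _ => Pt) (kg xg26 yg26 zg28) (kg xg14 yg30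 zg61) (kg xg17 yg3 zg20) (kg xg10 yg17 zg42) (kg xg14 yg29 zg20) (kg xg21 yg2 zg49) (kg xg28 yg13 zg8) (kg xg20 yg37 zg50) (kg xg27 yg12 zg4) (kg xg17 yg18 zg12) (kg xg20 yg40 zg46) (kg xg12 yg31 zg15) (kg xg17 yg9 zg61) (kg xg10 yg17 zg18) (kg xg12 yg31 zg13) (kg xg11 yg14 zg48) (kg xg12 yg10 zg13) (kg xg17 yg20 zg34) (kg xg20 yg33 zg1) (kg xg11 yg57 zg46) (kg xg27 yg58 zg55) (kg xg13 yg15 zg49) (kg xg17 yg2 zg60) (kg xg18 yg20 zg2) (kg xg19 yg1 zg29) (kg xg10 yg17 zg31) (kg xg13 yg59 zg46) (kg xg13 yg59 zg34) (kg xg27 yg1 zg24) (kg xg18 yg23 zg3) (kg xg18 yg23 zg2) (kg xg28 yg13 zg18) (kg xg23 yg33 zg26) (kg xg10 yg17 zg34) (kg xg28 yg13 zg25) (kg xg25 yg44 zg15) (kg xg22 yg42 zg9) (kg xg22 yg28 zg13) (kg xg25 yg16 zg25) (kg xg26 yg30 zg11) (kg xg13 yg47 zg48) (kg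 xg15 yg29 zg59) (kg xg23 yg20 zg28) (kg xg10 yg17 zg37) (kg xg24 yg58 zg57) (kg xg10 yg17 zg47) (kg xg10 yg17 zg39) (kg xg14 yg16 zg18) (kg xg13 yg1 zg16) (kg xg16 yg34 zg27) (kg xg28 yg13 zg42) (kg xg13 yg1 zg60) (kg xg17 yg25 zg33) (kg xg13 yg2 zg2) (kg xg12 yg39 zg12) (kg xg15 yg49 zg50) (kg xg18 yg37 zg17) (kg xg12 yg10 zg47) (kg xg17 yg14 zg59) (kg xg25 yg16 zg3) (kg xg11 yg24 zg45) (kg xg16 yg10 zg25)) (@D3.rec (fun _ => Pt) (kg xg28 yg13 zg50) (kg xg18 yg23 zg49) (kg xg17 yg7 zg55) (kg xg10 yg18 zg10) (kg xg10 yg18 zg9) (kg xg18 yg23 zg42) (kg xg10 yg18 zg0) (kg xg11 yg13 zg59) (kg xg28 yg13 zg52) (kg xg12 yg49 zg16) (kg xg11 yg30 zg48) (kg xg18 yg2 zg17) (kg xg20 yg50 zg46) (kg xg20 yg27 zg55) (kg xg10 yg18 zg7) (kg xg18 yg24 zg3) (kg xg28 yg0 zg60) (kg xg10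 yg19 zg8) (kg xg20 yg2 zg5) (kg xg18 yg23 zg27) (kg xg20 yg2 zg2) (kg xg15 yg26 zg22) (kg xg11 yg35 zg51) (kg xg18 yg42 zg17) (kg xg13 yg1 zg55) (kg xg10 yg18 zg26) (kg xg18 yg23 zg33) (kg xg12 yg2 zg53) (kg xg11 yg42 zg11) (kg xg17 yg1 zg23) (kg xg26 yg52 zg1) (kg xg10 yg18 zg40) (kg xg10 yg18 zg35) (kg xg10 yg18 zg39) (kg xg20 yg19 zg49) (kg xg16 yg57 zg9) (kg xg10 yg18 zg37) (kg xg18 yg24 zg52) (kg xg12 yg30 zg9) (kg xg19 yg27 zg33) (kg xg18 yg25 zg24) (kg xg23 yg3 zg60) (kg xg18 yg24 zg51) (kg xg11 yg58 zg6) (kg xg10 yg18 zg54) (kg xg18 yg16 zg13) (kg xg10 yg18 zg58) (kg xg15 yg30 zg26) (kg xg12 yg29 zg44) (kg xg18 yg17 zg7) (kg xg18 yg17 zg6) (kg xg20 yg51 zg22) (kg xg12 yg26 zg59) (kg xg11 yg59 zg18) (kg xg20 yg19 zg56) (kg xg20 yg19 zg54) (kg xg10 yg19 zg4) (kg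 xg19 yg27 zg42) (kg xg15 yg59 zg35) (kg xg10 yg19 zg10) (kg xg15 yg59 zg34) (kg xg28 yg13 zg61)) (@D3.rec (fun _ => Pt) (kg xg28 yg14 zg0) (kg xg10 yg57 zg37) (kg xg26 yg42 zg50) (kg xg19 yg42 zg13) (kg xg19 yg44 zg20) (kg xg26 yg45 zg53) (kg xg10 yg46 zg20) (kg xg16 yg46 zg50) (kg xg19 yg28 zg8) (kg xg19 yg28 zg5) (kg xg10 yg19 zg15) (kg xg24 yg30 zg36) (kg xg28 yg14 zg15) (kg xg24 yg50 zg32) (kg xg10 yg19 zg17) (kg xg24 yg50 zg31) (kg xg20 yg49 zg60) (kg xg25 yg37 zg22) (kg xg16 yg1 zg34) (kg xg17 yg20 zg25) (kg xg19 yg51 zg29) (kg xg28 yg14 zg23) (kg xg19 yg29 zg25) (kg xg28 yg14 zg25) (kg xg19 yg50 zg31) (kg xg15 yg37 zg37) (kg xg26 yg44 zg54) (kg xg25 yg32 zg35) (kg xg10 yg19 zg25) (kg xg17 yg2 zg52) (kg xg20 yg20 zg1) (kg xg26 yg39 zg21) (kg xg14 yg22 zg28) (kg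 xg17 yg20 zg11) (kg xg10 yg19 zg27) (kg xg21 yg0 zg7) (kg xg10 yg43 zg9) (kg xg10 yg19 zg29) (kg xg10 yg19 zg61) (kg xg10 yg20 zg32) (kg xg10 yg19 zg30) (kg xg10 yg20 zg31) (kg xg28 yg14 zg37) (kg xg10 yg20 zg10) (kg xg10 yg20 zg9) (kg xg22 yg36 zg57) (kg xg19 yg15 zg10) (kg xg10 yg20 zg39) (kg xg10 yg21 zg11) (kg xg10 yg19 zg35) (kg xg10 yg21 zg10) (kg xg18 yg46 zg10) (kg xg28 yg14 zg42) (kg xg21 yg16 zg40) (kg xg10 yg20 zg60) (kg xg22 yg39 zg57) (kg xg10 yg20 zg58) (kg xg10 yg53 zg36) (kg xg10 yg21 zg24) (kg xg10 yg19 zg40) (kg xg10 yg21 zg23) (kg xg17 yg31 zg36)) (@D3.rec (fun _ => Pt) (kg xg28 yg14 zg53) (kg xg24 yg28 zg8) (kg xg25 yg30 zg48) (kg xg10 yg21 zg21) (kg xg10 yg19 zg44) (kg xg10 yg19 zg47) (kg xg24 yg21 zg53) (kg xg27 yg47 zg8) (kg xg28 yg15 zg0) (kg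 xg10 yg19 zg45) (kg xg21 yg9 zg20) (kg xg18 yg54 zg25) (kg xg12 yg9 zg34) (kg xg10 yg41 zg46) (kg xg25 yg52 zg16) (kg xg10 yg19 zg46) (kg xg20 yg30 zg43) (kg xg28 yg15 zg8) (kg xg28 yg15 zg9) (kg xg19 yg43 zg27) (kg xg24 yg26 zg53) (kg xg10 yg21 zg59) (kg xg18 yg55 zg61) (kg xg18 yg5 zg19) (kg xg10 yg19 zg51) (kg xg18 yg5 zg18) (kg xg15 yg14 zg28) (kg xg11 yg9 zg27) (kg xg20 yg47 zg9) (kg xg20 yg47 zg11) (kg xg26 yg44 zg55) (kg xg10 yg43 zg11) (kg xg17 yg52 zg40) (kg xg27 yg59 zg15) (kg xg10 yg20 zg1) (kg xg10 yg41 zg26) (kg xg27 yg49 zg26) (kg xg18 yg35 zg20) (kg xg24 yg18 zg8) (kg xg10 yg20 zg6) (kg xg22 yg38 zg57) (kg xg28 yg15 zg19) (kg xg19 yg19 zg58) (kg xg23 yg52 zg0) (kg xg14 yg3 zg50) (kg xg18 yg51 zg39) (kg xg22 yg36 zg58) (kg xg10 yg20 zg11) (kg xg12 yg38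 zg28) (kg xg12 yg54 zg21) (kg xg23 yg51 zg58) (kg xg23 yg34 zg7) (kg xg18 yg49 zg9) (kg xg10 yg41 zg39) (kg xg26 yg32 zg7) (kg xg10 yg20 zg18) (kg xg26 yg32 zg6) (kg xg28 yg15 zg35) (kg xg28 yg15 zg39) (kg xg14 yg31 zg10) (kg xg15 yg37 zg5) (kg xg18 yg38 zg38)) (@D3.rec (fun _ => Pt) (kg xg20 yg58 zg9) (kg xg10 yg20 zg24) (kg xg28 yg14 zg34) (kg xg28 yg15 zg45) (kg xg28 yg15 zg48) (kg xg10 yg20 zg27) (kg xg18 yg20 zg23) (kg xg18 yg4 zg16) (kg xg19 yg1 zg16) (kg xg28 yg5 zg35) (kg xg18 yg47 zg17) (kg xg18 yg53 zg59) (kg xg10 yg31 zg36) (kg xg28 yg14 zg38) (kg xg10 yg39 zg19) (kg xg21 yg9 zg41) (kg xg10 yg20 zg33) (kg xg19 yg51 zg12) (kg xg19 yg12 zg3) (kg xg18 yg53 zg54) (kg xg26 yg35 zg12) (kg xg10 yg59 zg60) (kg xg19 yg11 zg56) (kg xg14 yg34 zg9) (kg xg10 yg20 zg38)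 (kg xg10 yg41 zg12) (kg xg10 yg43 zg36) (kg xg10 yg51 zg49) (kg xg10 yg20 zg42) (kg xg25 yg44 zg31) (kg xg28 yg16 zg2) (kg xg19 yg31 zg29) (kg xg19 yg31 zg34) (kg xg10 yg20 zg44) (kg xg19 yg31 zg33) (kg xg15 yg32 zg57) (kg xg25 yg43 zg25) (kg xg15 yg50 zg48) (kg xg15 yg50 zg47) (kg xg28 yg16 zg10) (kg xg28 yg16 zg13) (kg xg25 yg46 zg52) (kg xg18 yg16 zg33) (kg xg20 yg47 zg56) (kg xg18 yg51 zg55) (kg xg18 yg16 zg30) (kg xg14 yg3 zg34) (kg xg18 yg0 zg30) (kg xg28 yg16 zg22) (kg xg10 yg20 zg54) (kg xg28 yg16 zg26) (kg xg14 yg56 zg53) (kg xg21 yg8 zg61) (kg xg27 yg13 zg38) (kg xg10 yg20 zg56) (kg xg22 yg40 zg28) (kg xg28 yg16 zg32) (kg xg17 yg17 zg47) (kg xg21 yg38 zg41) (kg xg10 yg54 zg19) (kg xg28 yg14 zg48) (kg xg10 yg20 zg59)) (@D3.rec (fun _ => Pt) (kg xg28 yg16 zg41)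 (kg xg28 yg14 zg46) (kg xg23 yg6 zg44) (kg xg17 yg17 zg31) (kg xg27 yg59 zg7) (kg xg24 yg47 zg58) (kg xg10 yg21 zg3) (kg xg24 yg47 zg57) (kg xg25 yg31 zg45) (kg xg28 yg9 zg33) (kg xg26 yg52 zg37) (kg xg18 yg9 zg55) (kg xg10 yg38 zg55) (kg xg19 yg0 zg54) (kg xg25 yg26 zg30) (kg xg10 yg22 zg46) (kg xg18 yg56 zg5) (kg xg17 yg19 zg48) (kg xg25 yg46 zg7) (kg xg20 yg46 zg43) (kg xg10 yg21 zg12) (kg xg21 yg9 zg29) (kg xg28 yg17 zg2) (kg xg28 yg17 zg1) (kg xg10 yg21 zg13) (kg xg28 yg17 zg9) (kg xg28 yg17 zg0) (kg xg25 yg30 zg61) (kg xg17 yg25 zg11) (kg xg14 yg53 zg48) (kg xg15 yg51 zg38) (kg xg18 yg56 zg3) (kg xg28 yg16 zg8) (kg xg24 yg38 zg52) (kg xg10 yg21 zg17) (kg xg28 yg11 zg15) (kg xg24 yg0 zg36) (kg xg10 yg41 zg59) (kg xg10 yg28 zg17) (kg xg11 yg0 zg17) (kg xg14 yg58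 zg53) (kg xg23 yg6 zg36) (kg xg19 yg0 zg52) (kg xg10 yg21 zg53) (kg xg28 yg14 zg51) (kg xg22 yg34 zg24) (kg xg28 yg14 zg49) (kg xg10 yg21 zg25) (kg xg23 yg51 zg29) (kg xg10 yg21 zg26) (kg xg28 yg17 zg23) (kg xg28 yg17 zg19) (kg xg20 yg31 zg40) (kg xg13 yg22 zg51) (kg xg10 yg21 zg28) (kg xg28 yg2 zg44) (kg xg28 yg2 zg49) (kg xg10 yg21 zg29) (kg xg28 yg17 zg31) (kg xg28 yg2 zg47) (kg xg28 yg14 zg57) (kg xg14 yg12 zg44)) (@D3.rec (fun _ => Pt) (kg xg21 yg9 zg21) (kg xg10 yg21 zg54) (kg xg18 yg55 zg58) (kg xg23 yg23 zg1) (kg xg23 yg50 zg19) (kg xg28 yg2 zg40) (kg xg10 yg21 zg34) (kg xg21 yg29 zg61) (kg xg13 yg22 zg58) (kg xg23 yg50 zg18) (kg xg14 yg27 zg52) (kg xg22 yg34 zg36) (kg xg25 yg48 zg21) (kg xg10 yg21 zg36) (kg xg27 yg8 zg5) (kg xg10 yg21 zg37) (kg xg28 yg17 zg47)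 (kg xg18 yg20 zg59) (kg xg10 yg42 zg8) (kg xg21 yg9 zg0) (kg xg22 yg34 zg61) (kg xg10 yg21 zg45) (kg xg27 yg0 zg48) (kg xg16 yg54 zg48) (kg xg17 yg21 zg49) (kg xg10 yg42 zg22) (kg xg28 yg17 zg57) (kg xg27 yg35 zg52) (kg xg27 yg45 zg16) (kg xg26 yg12 zg44) (kg xg16 yg53 zg34) (kg xg28 yg17 zg44) (kg xg27 yg51 zg19) (kg xg28 yg18 zg0) (kg xg22 yg4 zg45) (kg xg16 yg51 zg45) (kg xg10 yg21 zg49) (kg xg28 yg18 zg2) (kg xg21 yg37 zg52) (kg xg26 yg44 zg52) (kg xg16 yg21 zg46) (kg xg26 yg59 zg51) (kg xg10 yg21 zg50) (kg xg20 yg11 zg20) (kg xg10 yg42 zg6) (kg xg28 yg18 zg10) (kg xg24 yg25 zg38) (kg xg14 yg42 zg54) (kg xg28 yg18 zg13) (kg xg10 yg21 zg55) (kg xg11 yg16 zg7) (kg xg11 yg16 zg9) (kg xg19 yg50 zg53) (kg xg10 yg21 zg57) (kg xg27 yg2 zg40) (kg xg10 yg49 zg34) (kg xg27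 yg10 zg53) (kg xg20 yg11 zg40) (kg xg19 yg36 zg53) (kg xg24 yg25 zg32) (kg xg18 yg54 zg56) (kg xg23 yg49 zg5)) (@D3.rec (fun _ => Pt) (kg xg19 yg41 zg4) (kg xg28 yg2 zg39) (kg xg28 yg11 zg17) (kg xg18 yg52 zg14) (kg xg10 yg22 zg2) (kg xg28 yg18 zg29) (kg xg18 yg54 zg24) (kg xg24 yg25 zg48) (kg xg10 yg54 zg24) (kg xg25 yg57 zg61) (kg xg19 yg6 zg24) (kg xg28 yg14 zg40) (kg xg28 yg18 zg33) (kg xg18 yg45 zg52) (kg xg18 yg56 zg29) (kg xg18 yg56 zg28) (kg xg28 yg18 zg43) (kg xg20 yg6 zg35) (kg xg22 yg49 zg34) (kg xg13 yg38 zg57) (kg xg10 yg55 zg40) (kg xg19 yg10 zg45) (kg xg26 yg32 zg38) (kg xg23 yg16 zg22) (kg xg19 yg13 zg61) (kg xg13 yg29 zg46) (kg xg23 yg47 zg48) (kg xg16 yg21 zg36) (kg xg16 yg39 zg50) (kg xg19 yg26 zg8) (kg xg17 yg46 zg58) (kg xg12 yg22 zg60) (kg xg20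 yg1 zg31) (kg xg19 yg1 zg25) (kg xg10 yg22 zg26) (kg xg18 yg42 zg0) (kg xg19 yg1 zg23) (kg xg28 yg10 zg44) (kg xg19 yg2 zg32) (kg xg26 yg18 zg48) (kg xg19 yg1 zg30) (kg xg10 yg22 zg29) (kg xg10 yg54 zg21) (kg xg19 yg0 zg19) (kg xg16 yg22 zg16) (kg xg19 yg2 zg5) (kg xg19 yg18 zg5) (kg xg10 yg23 zg4) (kg xg10 yg22 zg39) (kg xg18 yg15 zg29) (kg xg20 yg47 zg24) (kg xg10 yg22 zg40) (kg xg18 yg13 zg60) (kg xg28 yg16 zg57) (kg xg10 yg36 zg45) (kg xg20 yg12 zg25) (kg xg10 yg22 zg43) (kg xg18 yg28 zg1) (kg xg20 yg46 zg39) (kg xg13 yg19 zg59) (kg xg10 yg22 zg58) (kg xg10 yg22 zg44)) (@D3.rec (fun _ => Pt) (kg xg19 yg18 zg8) (kg xg14 yg53 zg46) (kg xg10 yg22 zg45) (kg xg28 yg18 zg58) (kg xg24 yg40 zg31) (kg xg10 yg36 zg41) (kg xg12 yg58 zg46) (kg xg22 yg47 zg17) (kg xg21 yg54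 zg36) (kg xg20 yg24 zg48) (kg xg21 yg54 zg35) (kg xg18 yg15 zg17) (kg xg10 yg22 zg56) (kg xg23 yg54 zg7) (kg xg16 yg24 zg23) (kg xg28 yg17 zg12) (kg xg17 yg21 zg52) (kg xg22 yg38 zg33) (kg xg10 yg22 zg59) (kg xg24 yg13 zg13) (kg xg25 yg46 zg9) (kg xg10 yg22 zg60) (kg xg12 yg24 zg18) (kg xg17 yg13 zg28) (kg xg15 yg42 zg53) (kg xg18 yg17 zg31) (kg xg21 yg51 zg7) (kg xg26 yg55 zg9) (kg xg27 yg31 zg34) (kg xg10 yg23 zg7) (kg xg10 yg23 zg5) (kg xg12 yg36 zg18) (kg xg12 yg39 zg17) (kg xg12 yg12 zg59) (kg xg12 yg34 zg40) (kg xg12 yg47 zg6) (kg xg11 yg40 zg35) (kg xg27 yg1 zg31) (kg xg11 yg56 zg35) (kg xg26 yg50 zg29) (kg xg21 yg51 zg53) (kg xg21 yg54 zg31) (kg xg11 yg37 zg45) (kg xg10 yg23 zg11) (kg xg27 yg43 zg39) (kg xg12 yg1 zg36) (kg xg21 yg45 zg1) (kg xg27 yg38 zg41)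 (kg xg11 yg2 zg12) (kg xg18 yg15 zg8) (kg xg10 yg36 zg43) (kg xg21 yg48 zg24) (kg xg10 yg23 zg17) (kg xg10 yg49 zg5) (kg xg18 yg58 zg0) (kg xg18 yg11 zg2) (kg xg18 yg58 zg50) (kg xg17 yg50 zg40) (kg xg10 yg23 zg22) (kg xg17 yg50 zg39) (kg xg17 yg49 zg35) (kg xg22 yg52 zg35)) (@D3.rec (fun _ => Pt) (kg xg19 yg31 zg30) (kg xg15 yg15 zg23) (kg xg15 yg15 zg27) (kg xg10 yg23 zg26) (kg xg15 yg15 zg26) (kg xg25 yg29 zg2) (kg xg28 yg19 zg21) (kg xg28 yg19 zg23) (kg xg20 yg59 zg22) (kg xg25 yg26 zg50) (kg xg26 yg41 zg43) (kg xg20 yg50 zg28) (kg xg10 yg50 zg53) (kg xg19 yg44 zg46) (kg xg15 yg40 zg57) (kg xg15 yg40 zg58) (kg xg10 yg23 zg32) (kg xg18 yg55 zg29) (kg xg22 yg59 zg13) (kg xg19 yg19 zg45) (kg xg28 yg19 zg35) (kg xg24 yg14 zg14) (kg xg28 yg19 zg41) (kg xg13 yg32 zg32)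 (kg xg10 yg23 zg35) (kg xg15 yg15 zg60) (kg xg10 yg23 zg36) (kg xg10 yg24 zg16) (kg xg10 yg23 zg37) (kg xg21 yg0 zg14) (kg xg13 yg28 zg32) (kg xg10 yg25 zg0) (kg xg10 yg23 zg40) (kg xg10 yg24 zg61) (kg xg28 yg19 zg50) (kg xg10 yg24 zg45) (kg xg10 yg23 zg42) (kg xg10 yg24 zg44) (kg xg25 yg56 zg13) (kg xg20 yg46 zg54) (kg xg23 yg46 zg34) (kg xg10 yg25 zg7) (kg xg10 yg25 zg33) (kg xg10 yg23 zg45) (kg xg10 yg25 zg32) (kg xg18 yg53 zg53) (kg xg15 yg15 zg22) (kg xg10 yg25 zg46) (kg xg10 yg23 zg49) (kg xg10 yg25 zg45) (kg xg28 yg20 zg2) (kg xg13 yg18 zg27) (kg xg10 yg23 zg53) (kg xg10 yg23 zg56) (kg xg28 yg9 zg41) (kg xg28 yg2 zg51) (kg xg28 yg20 zg11) (kg xg19 yg22 zg11) (kg xg10 yg23 zg54) (kg xg27 yg34 zg31) (kg xg18 yg46 zg44) (kg xg18 yg53 zg1)) (@D3.rec (fun _ => Pt)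 (kg xg14 yg13 zg37) (kg xg28 yg20 zg16) (kg xg28 yg20 zg5) (kg xg10 yg23 zg55) (kg xg28 yg20 zg23) (kg xg26 yg56 zg5) (kg xg28 yg20 zg17) (kg xg19 yg21 zg30) (kg xg28 yg20 zg0) (kg xg25 yg28 zg34) (kg xg19 yg36 zg48) (kg xg10 yg26 zg14) (kg xg10 yg26 zg13) (kg xg22 yg47 zg4) (kg xg18 yg49 zg4) (kg xg15 yg37 zg50) (kg xg10 yg24 zg0) (kg xg15 yg37 zg49) (kg xg28 yg20 zg30) (kg xg15 yg15 zg54) (kg xg15 yg6 zg44) (kg xg15 yg36 zg49) (kg xg19 yg54 zg26) (kg xg25 yg20 zg13) (kg xg10 yg24 zg4) (kg xg15 yg29 zg18) (kg xg24 yg4 zg40) (kg xg19 yg44 zg47) (kg xg11 yg54 zg44) (kg xg18 yg52 zg58) (kg xg15 yg22 zg19) (kg xg10 yg36 zg18) (kg xg24 yg15 zg18) (kg xg10 yg24 zg10) (kg xg24 yg17 zg3) (kg xg24 yg17 zg22) (kg xg19 yg54 zg25) (kg xg17 yg43 zg19) (kg xg17 yg35 zg46) (kg xg16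 yg55 zg26) (kg xg18 yg34 zg41) (kg xg10 yg24 zg23) (kg xg10 yg24 zg26) (kg xg17 yg33 zg57) (kg xg26 yg48 zg10) (kg xg25 yg9 zg4) (kg xg22 yg2 zg22) (kg xg10 yg24 zg24) (kg xg24 yg7 zg53) (kg xg19 yg26 zg27) (kg xg19 yg24 zg43) (kg xg24 yg33 zg41) (kg xg19 yg37 zg51) (kg xg10 yg24 zg25) (kg xg20 yg3 zg52) (kg xg19 yg37 zg47) (kg xg10 yg24 zg27) (kg xg19 yg53 zg47) (kg xg25 yg26 zg55) (kg xg18 yg52 zg29) (kg xg19 yg20 zg8) (kg xg10 yg24 zg31)) (@D3.rec (fun _ => Pt) (kg xg19 yg51 zg0) (kg xg18 yg51 zg56) (kg xg22 yg51 zg39) (kg xg28 yg18 zg20) (kg xg18 yg20 zg22) (kg xg10 yg24 zg33) (kg xg17 yg22 zg2) (kg xg13 yg41 zg17) (kg xg10 yg24 zg39) (kg xg28 yg5 zg10) (kg xg10 yg24 zg37) (kg xg28 yg5 zg9) (kg xg25 yg23 zg60) (kg xg22 yg50 zg25) (kg xg28 yg20 zg59) (kg xg17 yg23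 zg12) (kg xg22 yg50 zg28) (kg xg10 yg24 zg40) (kg xg28 yg10 zg39) (kg xg18 yg57 zg15) (kg xg28 yg21 zg4) (kg xg26 yg34 zg25) (kg xg28 yg21 zg1) (kg xg27 yg50 zg31) (kg xg18 yg54 zg27) (kg xg23 yg22 zg4) (kg xg28 yg21 zg12) (kg xg28 yg12 zg6) (kg xg13 yg35 zg49) (kg xg18 yg44 zg46) (kg xg25 yg56 zg15) (kg xg13 yg4 zg52) (kg xg28 yg19 zg56) (kg xg10 yg24 zg46) (kg xg23 yg4 zg52) (kg xg23 yg46 zg41) (kg xg10 yg24 zg47) (kg xg27 yg13 zg13) (kg xg13 yg5 zg5) (kg xg10 yg24 zg48) (kg xg28 yg21 zg24) (kg xg28 yg21 zg0) (kg xg17 yg23 zg10) (kg xg19 yg51 zg43) (kg xg18 yg58 zg10) (kg xg10 yg24 zg55) (kg xg18 yg58 zg9) (kg xg28 yg21 zg33) (kg xg15 yg18 zg39) (kg xg10 yg24 zg58) (kg xg18 yg39 zg56) (kg xg28 yg20 zg54) (kg xg27 yg32 zg22) (kg xg18 yg54 zg43) (kg xg18 yg46 zg14)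 (kg xg18 yg20 zg25) (kg xg18 yg51 zg45) (kg xg28 yg20 zg52) (kg xg28 yg19 zg51) (kg xg28 yg21 zg43) (kg xg28 yg19 zg49) (kg xg10 yg25 zg1)) (@D3.rec (fun _ => Pt) (kg xg28 yg21 zg48) (kg xg28 yg21 zg51) (kg xg28 yg21 zg44) (kg xg10 yg25 zg2) (kg xg19 yg43 zg48) (kg xg18 yg46 zg11) (kg xg17 yg51 zg13) (kg xg10 yg25 zg3) (kg xg28 yg14 zg4) (kg xg19 yg21 zg7) (kg xg19 yg50 zg17) (kg xg10 yg54 zg29) (kg xg16 yg44 zg43) (kg xg10 yg25 zg10) (kg xg28 yg21 zg60) (kg xg19 yg23 zg48) (kg xg19 yg23 zg47) (kg xg15 yg31 zg2) (kg xg10 yg25 zg13) (kg xg15 yg31 zg1) (kg xg28 yg22 zg6) (kg xg28 yg18 zg40) (kg xg13 yg45 zg2) (kg xg18 yg37 zg0) (kg xg28 yg22 zg11) (kg xg18 yg45 zg7) (kg xg18 yg36 zg59) (kg xg18 yg53 zg28) (kg xg13 yg45 zg13) (kg xg10 yg25 zg18) (kg xg28 yg22 zg17) (kg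 xg28 yg22 zg3) (kg xg28 yg22 zg22) (kg xg25 yg25 zg35) (kg xg28 yg22 zg26) (kg xg23 yg58 zg1) (kg xg16 yg45 zg52) (kg xg19 yg22 zg13) (kg xg16 yg39 zg18) (kg xg28 yg22 zg4) (kg xg27 yg32 zg8) (kg xg10 yg27 zg2) (kg xg18 yg49 zg11) (kg xg18 yg53 zg56) (kg xg28 yg19 zg60) (kg xg10 yg25 zg34) (kg xg28 yg22 zg38) (kg xg22 yg36 zg38) (kg xg13 yg3 zg19) (kg xg10 yg25 zg35) (kg xg22 yg15 zg30) (kg xg23 yg51 zg57) (kg xg18 yg49 zg0) (kg xg19 yg22 zg0) (kg xg28 yg22 zg48) (kg xg28 yg20 zg25) (kg xg24 yg46 zg21) (kg xg18 yg21 zg54) (kg xg22 yg49 zg61) (kg xg10 yg26 zg6) (kg xg28 yg20 zg3) (kg xg23 yg53 zg51)) (@D3.rec (fun _ => Pt) (kg xg13 yg34 zg31) (kg xg10 yg25 zg47) (kg xg28 yg22 zg59) (kg xg13 yg18 zg19) (kg xg10 yg25 zg48) (kg xg28 yg20 zg12) (kg xg28 yg23 zg4) (kg xg28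 yg20 zg6) (kg xg24 yg18 zg49) (kg xg22 yg14 zg52) (kg xg10 yg26 zg8) (kg xg18 yg49 zg1) (kg xg10 yg26 zg1) (kg xg10 yg25 zg54) (kg xg28 yg23 zg8) (kg xg23 yg11 zg35) (kg xg14 yg14 zg27) (kg xg27 yg47 zg2) (kg xg10 yg25 zg59) (kg xg28 yg23 zg18) (kg xg27 yg58 zg60) (kg xg19 yg21 zg56) (kg xg28 yg23 zg19) (kg xg10 yg26 zg4) (kg xg10 yg25 zg61) (kg xg25 yg36 zg31) (kg xg26 yg50 zg35) (kg xg28 yg23 zg9) (kg xg28 yg23 zg33) (kg xg25 yg36 zg13) (kg xg28 yg3 zg41) (kg xg28 yg23 zg34) (kg xg22 yg16 zg25) (kg xg28 yg23 zg12) (kg xg10 yg26 zg2) (kg xg27 yg6 zg41) (kg xg27 yg22 zg43) (kg xg10 yg26 zg3) (kg xg26 yg51 zg5) (kg xg28 yg23 zg51) (kg xg20 yg23 zg53) (kg xg28 yg20 zg1) (kg xg28 yg23 zg54) (kg xg28 yg23 zg56) (kg xg14 yg16 zg44) (kg xg13 yg15 zg55) (kg xg19 yg37 zg46)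 (kg xg10 yg26 zg11) (kg xg19 yg34 zg9) (kg xg25 yg25 zg13) (kg xg26 yg45 zg13) (kg xg28 yg23 zg7) (kg xg15 yg33 zg13) (kg xg22 yg47 zg1) (kg xg17 yg1 zg19) (kg xg28 yg24 zg5) (kg xg18 yg47 zg40) (kg xg28 yg24 zg9) (kg xg27 yg47 zg1) (kg xg24 yg29 zg40) (kg xg10 yg54 zg8) (kg xg10 yg26 zg18)) (@D3.rec (fun _ => Pt) (kg xg22 yg1 zg28) (kg xg18 yg46 zg43) (kg xg28 yg24 zg16) (kg xg27 yg6 zg9) (kg xg18 yg58 zg23) (kg xg28 yg19 zg59) (kg xg22 yg24 zg36) (kg xg18 yg53 zg42) (kg xg20 yg10 zg36) (kg xg17 yg3 zg39) (kg xg18 yg59 zg14) (kg xg10 yg26 zg27) (kg xg24 yg9 zg35) (kg xg18 yg59 zg12) (kg xg28 yg0 zg5) (kg xg22 yg56 zg41) (kg xg28 yg11 zg2) (kg xg10 yg26 zg30) (kg xg27 yg58 zg24) (kg xg18 yg59 zg19) (kg xg25 yg25 zg19) (kg xg19 yg0 zg7) (kg xg26 yg19 zg57) (kg xg26 yg36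 zg38) (kg xg10 yg39 zg29) (kg xg22 yg7 zg19) (kg xg14 yg23 zg25) (kg xg11 yg32 zg9) (kg xg10 yg26 zg40) (kg xg13 yg29 zg31) (kg xg16 yg23 zg38) (kg xg23 yg3 zg61) (kg xg28 yg24 zg35) (kg xg11 yg1 zg37) (kg xg23 yg3 zg54) (kg xg13 yg29 zg34) (kg xg20 yg21 zg36) (kg xg22 yg31 zg32) (kg xg10 yg26 zg47) (kg xg28 yg24 zg41) (kg xg18 yg38 zg57) (kg xg26 yg20 zg42) (kg xg26 yg20 zg4) (kg xg17 yg25 zg40) (kg xg27 yg54 zg21) (kg xg19 yg12 zg9) (kg xg16 yg30 zg33) (kg xg27 yg48 zg9) (kg xg10 yg26 zg58) (kg xg17 yg30 zg20) (kg xg18 yg34 zg60) (kg xg28 yg22 zg30) (kg xg27 yg50 zg46) (kg xg27 yg50 zg44) (kg xg10 yg26 zg61) (kg xg10 yg27 zg17) (kg xg10 yg27 zg0) (kg xg28 yg23 zg17) (kg xg11 yg26 zg4) (kg xg17 yg10 zg33) (kg xg27 yg3 zg43) (kg xg28 yg24 zg59)) (@D3.rec (fun _ => Pt)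 (kg xg17 yg35 zg7) (kg xg15 yg25 zg53) (kg xg12 yg22 zg17) (kg xg27 yg44 zg13) (kg xg20 yg34 zg19) (kg xg18 yg35 zg38) (kg xg18 yg15 zg45) (kg xg13 yg30 zg48) (kg xg22 yg28 zg51) (kg xg17 yg31 zg14) (kg xg14 yg36 zg25) (kg xg28 yg24 zg60) (kg xg10 yg27 zg15) (kg xg21 yg31 zg35) (kg xg22 yg28 zg60) (kg xg28 yg22 zg24) (kg xg21 yg41 zg25) (kg xg27 yg58 zg61) (kg xg20 yg45 zg57) (kg xg28 yg24 zg57) (kg xg24 yg15 zg40) (kg xg10 yg27 zg20) (kg xg17 yg34 zg52) (kg xg16 yg56 zg53) (kg xg21 yg34 zg46) (kg xg20 yg31 zg12) (kg xg20 yg33 zg58) (kg xg24 yg7 zg30) (kg xg10 yg27 zg38) (kg xg10 yg27 zg25) (kg xg10 yg27 zg27) (kg xg13 yg20 zg46) (kg xg17 yg16 zg60) (kg xg20 yg34 zg26) (kg xg20 yg34 zg24) (kg xg18 yg33 zg46) (kg xg28 yg25 zg13) (kg xg22 yg6 zg31) (kg xg20 yg43 zg15)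 (kg xg10 yg27 zg31) (kg xg21 yg20 zg18) (kg xg18 yg21 zg35) (kg xg24 yg2 zg16) (kg xg28 yg25 zg23) (kg xg27 yg50 zg52) (kg xg24 yg1 zg56) (kg xg20 yg33 zg56) (kg xg28 yg23 zg46) (kg xg23 yg54 zg43) (kg xg21 yg41 zg35) (kg xg28 yg25 zg31) (kg xg14 yg11 zg50) (kg xg12 yg11 zg11) (kg xg12 yg38 zg46) (kg xg28 yg25 zg19) (kg xg20 yg40 zg37) (kg xg20 yg25 zg47) (kg xg18 yg35 zg35) (kg xg21 yg41 zg33) (kg xg17 yg33 zg31) (kg xg12 yg38 zg52) (kg xg20 yg53 zg58)) (@D3.rec (fun _ => Pt) (kg xg10 yg27 zg43) (kg xg10 yg55 zg54) (kg xg18 yg50 zg52) (kg xg18 yg50 zg55) (kg xg17 yg13 zg17) (kg xg18 yg22 zg35) (kg xg26 yg32 zg22) (kg xg18 yg38 zg39) (kg xg18 yg53 zg46) (kg xg10 yg27 zg51) (kg xg18 yg53 zg45) (kg xg28 yg25 zg38) (kg xg27 yg54 zg42) (kg xg18 yg49 zg10) (kg xg28 yg25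 zg40) (kg xg20 yg21 zg21) (kg xg19 yg17 zg19) (kg xg10 yg38 zg53) (kg xg18 yg58 zg13) (kg xg18 yg32 zg48) (kg xg28 yg25 zg44) (kg xg18 yg15 zg1) (kg xg15 yg48 zg46) (kg xg18 yg58 zg30) (kg xg10 yg38 zg56) (kg xg15 yg19 zg40) (kg xg18 yg35 zg17) (kg xg22 yg51 zg56) (kg xg25 yg0 zg55) (kg xg18 yg35 zg25) (kg xg25 yg33 zg60) (kg xg18 yg59 zg2) (kg xg12 yg7 zg2) (kg xg16 yg20 zg49) (kg xg20 yg8 zg9) (kg xg10 yg29 zg45) (kg xg19 yg0 zg53) (kg xg28 yg25 zg55) (kg xg18 yg59 zg43) (kg xg28 yg25 zg59) (kg xg20 yg8 zg16) (kg xg10 yg28 zg18) (kg xg25 yg18 zg11) (kg xg28 yg25 zg56) (kg xg18 yg38 zg55) (kg xg10 yg28 zg19) (kg xg28 yg26 zg6) (kg xg18 yg38 zg53) (kg xg28 yg12 zg8) (kg xg18 yg15 zg56) (kg xg19 yg0 zg34) (kg xg10 yg28 zg22) (kg xg25 yg46 zg14) (kg xg18 yg38 zg61) (kg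 xg10 yg28 zg25) (kg xg28 yg26 zg14) (kg xg16 yg35 zg16) (kg xg10 yg30 zg5) (kg xg26 yg20 zg3) (kg xg18 yg58 zg36) (kg xg19 yg0 zg10) (kg xg11 yg13 zg8)) (@D3.rec (fun _ => Pt) (kg xg19 yg0 zg37) (kg xg26 yg32 zg33) (kg xg18 yg58 zg35) (kg xg28 yg26 zg17) (kg xg10 yg28 zg30) (kg xg26 yg50 zg8) (kg xg26 yg49 zg42) (kg xg14 yg42 zg60) (kg xg10 yg28 zg31) (kg xg28 yg26 zg25) (kg xg21 yg15 zg9) (kg xg18 yg56 zg13) (kg xg10 yg28 zg32) (kg xg28 yg26 zg28) (kg xg18 yg56 zg11) (kg xg21 yg15 zg5) (kg xg23 yg10 zg19) (kg xg18 yg21 zg55) (kg xg26 yg58 zg7) (kg xg10 yg28 zg35) (kg xg20 yg20 zg12) (kg xg18 yg56 zg17) (kg xg19 yg2 zg4) (kg xg27 yg58 zg23) (kg xg19 yg8 zg40) (kg xg10 yg28 zg61) (kg xg27 yg58 zg21) (kg xg10 yg28 zg42) (kg xg28 yg26 zg42) (kg xg28 yg26 zg45) (kg xg10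 yg36 zg3) (kg xg10 yg29 zg0) (kg xg25 yg1 zg10) (kg xg19 yg0 zg3) (kg xg11 yg23 zg34) (kg xg20 yg29 zg44) (kg xg28 yg26 zg49) (kg xg19 yg1 zg39) (kg xg28 yg26 zg53) (kg xg19 yg1 zg37) (kg xg10 yg28 zg50) (kg xg27 yg58 zg35) (kg xg19 yg1 zg40) (kg xg28 yg20 zg8) (kg xg19 yg0 zg9) (kg xg16 yg21 zg16) (kg xg18 yg58 zg38) (kg xg10 yg29 zg4) (kg xg14 yg58 zg43) (kg xg11 yg13 zg40) (kg xg28 yg27 zg0) (kg xg11 yg13 zg38) (kg xg19 yg0 zg50) (kg xg28 yg27 zg3) (kg xg28 yg27 zg2) (kg xg10 yg28 zg56) (kg xg23 yg15 zg44) (kg xg22 yg28 zg49) (kg xg10 yg28 zg57) (kg xg18 yg19 zg6) (kg xg18 yg58 zg57) (kg xg19 yg1 zg52))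
def f_g_19 : D2 → D3 → Pt := @D2.rec (fun _ => D3 → Pt) (@D3.rec (fun _ => Pt) (kg xg10 yg28 zg58) (kg xg26 yg57 zg45) (kg xg18 yg20 zg12) (kg xg18 yg35 zg49) (kg xg20 yg21 zg9) (kg xg19 yg0 zg24) (kg xg26 yg27 zg27) (kg xg19 yg0 zg22) (kg xg19 yg0 zg20) (kg xg18 yg59 zg47) (kg xg18 yg59 zg1) (kg xg28 yg27 zg11) (kg xg10 yg29 zg1) (kg xg13 yg59 zg26) (kg xg19 yg0 zg17) (kg xg25 yg16 zg30) (kg xg19 yg0 zg14) (kg xg10 yg29 zg3) (kg xg19 yg56 zg15) (kg xg19 yg0 zg12) (kg xg18 yg59 zg31) (kg xg16 yg23 zg8) (kg xg10 yg29 zg5) (kg xg27 yg58 zg19) (kg xg18 yg59 zg25) (kg xg19 yg2 zg25) (kg xg10 yg29 zg6) (kg xg28 yg27 zg26) (kg xg27 yg35 zg10) (kg xg17 yg46 zg45) (kg xg26 yg20 zg12) (kg xg14 yg58 zg56) (kg xg16 yg22 zg18) (kg xg16 yg22 zg15) (kg xg18 yg20 zg5) (kg xg16 yg12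 zg30) (kg xg27 yg26 zg27) (kg xg27 yg47 zg60) (kg xg27 yg47 zg15) (kg xg27 yg47 zg25) (kg xg18 yg59 zg0) (kg xg26 yg20 zg49) (kg xg12 yg19 zg24) (kg xg12 yg58 zg50) (kg xg10 yg29 zg23) (kg xg17 yg38 zg15) (kg xg10 yg29 zg24) (kg xg25 yg3 zg47) (kg xg18 yg59 zg52) (kg xg24 yg45 zg60) (kg xg11 yg13 zg31) (kg xg22 yg51 zg3) (kg xg18 yg47 zg38) (kg xg10 yg29 zg28) (kg xg18 yg49 zg53) (kg xg28 yg26 zg22) (kg xg16 yg56 zg25) (kg xg28 yg27 zg51) (kg xg28 yg27 zg53) (kg xg26 yg38 zg29) (kg xg18 yg22 zg5) (kg xg10 yg29 zg32)) (@D3.rec (fun _ => Pt) (kg xg24 yg8 zg13) (kg xg18 yg22 zg3) (kg xg26 yg14 zg46) (kg xg20 yg38 zg53) (kg xg16 yg39 zg0) (kg xg11 yg52 zg49) (kg xg21 yg16 zg42) (kg xg22 yg3 zg46) (kg xg10 yg29 zg39) (kg xg20 yg55 zg28) (kg xg22 yg3 zg59) (kg xg26 yg41 zg10)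 (kg xg19 yg0 zg21) (kg xg27 yg47 zg3) (kg xg18 yg59 zg4) (kg xg24 yg46 zg36) (kg xg19 yg18 zg7) (kg xg22 yg34 zg18) (kg xg24 yg28 zg21) (kg xg10 yg29 zg46) (kg xg28 yg28 zg8) (kg xg24 yg28 zg18) (kg xg18 yg49 zg36) (kg xg10 yg29 zg47) (kg xg15 yg10 zg18) (kg xg18 yg49 zg34) (kg xg28 yg28 zg11) (kg xg18 yg20 zg9) (kg xg16 yg39 zg61) (kg xg18 yg42 zg25) (kg xg18 yg49 zg41) (kg xg27 yg48 zg14) (kg xg16 yg29 zg40) (kg xg18 yg19 zg12) (kg xg24 yg46 zg11) (kg xg28 yg28 zg17) (kg xg21 yg13 zg29) (kg xg10 yg29 zg60) (kg xg28 yg28 zg19) (kg xg16 yg40 zg1) (kg xg10 yg29 zg61) (kg xg28 yg12 zg53) (kg xg18 yg59 zg40) (kg xg26 yg13 zg28) (kg xg18 yg19 zg25) (kg xg28 yg28 zg26) (kg xg10 yg30 zg4) (kg xg19 yg59 zg43) (kg xg18 yg59 zg60) (kg xg18 yg22 zg43) (kg xg18 yg59 zg58) (kg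 xg20 yg13 zg30) (kg xg19 yg0 zg0) (kg xg18 yg59 zg22) (kg xg18 yg35 zg56) (kg xg15 yg32 zg16) (kg xg24 yg46 zg31) (kg xg18 yg35 zg50) (kg xg10 yg30 zg15) (kg xg18 yg6 zg42) (kg xg28 yg28 zg29) (kg xg18 yg7 zg34)) (@D3.rec (fun _ => Pt) (kg xg24 yg55 zg29) (kg xg19 yg1 zg2) (kg xg26 yg19 zg54) (kg xg28 yg28 zg32) (kg xg26 yg19 zg51) (kg xg28 yg27 zg16) (kg xg13 yg42 zg1) (kg xg18 yg16 zg4) (kg xg27 yg31 zg14) (kg xg28 yg27 zg46) (kg xg23 yg32 zg8) (kg xg10 yg30 zg17) (kg xg19 yg50 zg4) (kg xg18 yg49 zg45) (kg xg15 yg14 zg34) (kg xg24 yg55 zg41) (kg xg16 yg22 zg14) (kg xg10 yg30 zg19) (kg xg19 yg2 zg20) (kg xg19 yg2 zg18) (kg xg10 yg30 zg20) (kg xg28 yg3 zg38) (kg xg18 yg14 zg31) (kg xg10 yg30 zg22) (kg xg28 yg28 zg44) (kg xg19 yg0 zg26) (kg xg24 yg54 zg5) (kg xg27 yg5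 zg28) (kg xg17 yg47 zg57) (kg xg20 yg10 zg21) (kg xg10 yg30 zg26) (kg xg18 yg58 zg61) (kg xg18 yg49 zg20) (kg xg18 yg38 zg60) (kg xg23 yg59 zg23) (kg xg24 yg23 zg16) (kg xg10 yg34 zg4) (kg xg10 yg30 zg32) (kg xg10 yg34 zg3) (kg xg14 yg39 zg23) (kg xg13 yg45 zg37) (kg xg28 yg28 zg54) (kg xg10 yg33 zg59) (kg xg10 yg30 zg34) (kg xg19 yg3 zg31) (kg xg10 yg33 zg57) (kg xg10 yg30 zg39) (kg xg10 yg34 zg26) (kg xg10 yg30 zg37) (kg xg10 yg34 zg25) (kg xg28 yg29 zg4) (kg xg23 yg59 zg60) (kg xg28 yg29 zg11) (kg xg15 yg44 zg5) (kg xg10 yg34 zg0) (kg xg10 yg34 zg17) (kg xg10 yg30 zg40) (kg xg10 yg34 zg16) (kg xg28 yg29 zg17) (kg xg28 yg29 zg18) (kg xg22 yg20 zg12) (kg xg19 yg3 zg58)) (@D3.rec (fun _ => Pt) (kg xg10 yg34 zg14) (kg xg10 yg30 zg44) (kg xg10 yg30 zg47) (kg xg28 yg22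 zg61) (kg xg22 yg4 zg17) (kg xg24 yg0 zg17) (kg xg10 yg30 zg45) (kg xg24 yg0 zg26) (kg xg19 yg14 zg22) (kg xg26 yg36 zg34) (kg xg21 yg9 zg56) (kg xg21 yg9 zg54) (kg xg10 yg30 zg46) (kg xg16 yg43 zg16) (kg xg28 yg1 zg21) (kg xg22 yg19 zg60) (kg xg24 yg38 zg40) (kg xg28 yg5 zg56) (kg xg10 yg34 zg56) (kg xg10 yg30 zg50) (kg xg10 yg34 zg55) (kg xg10 yg37 zg25) (kg xg10 yg30 zg53) (kg xg10 yg37 zg24) (kg xg10 yg35 zg49) (kg xg10 yg30 zg56) (kg xg10 yg35 zg48) (kg xg10 yg36 zg15) (kg xg10 yg30 zg57) (kg xg10 yg36 zg14) (kg xg28 yg29 zg42) (kg xg19 yg8 zg18) (kg xg10 yg35 zg57) (kg xg10 yg36 zg7) (kg xg10 yg30 zg59) (kg xg10 yg36 zg6) (kg xg28 yg29 zg50) (kg xg28 yg26 zg40) (kg xg28 yg29 zg47) (kg xg26 yg48 zg0) (kg xg10 yg48 zg23) (kg xg10 yg37 zg58) (kg xg10 yg37 zg55) (kg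 xg10 yg31 zg2) (kg xg23 yg50 zg11) (kg xg28 yg16 zg15) (kg xg28 yg29 zg39) (kg xg18 yg2 zg8) (kg xg10 yg31 zg4) (kg xg28 yg29 zg58) (kg xg23 yg45 zg32) (kg xg16 yg38 zg30) (kg xg28 yg29 zg46) (kg xg19 yg8 zg43) (kg xg10 yg36 zg55) (kg xg10 yg31 zg7) (kg xg28 yg30 zg7) (kg xg10 yg36 zg53) (kg xg19 yg9 zg29) (kg xg10 yg35 zg33) (kg xg10 yg31 zg11) (kg xg10 yg35 zg32)) (@D3.rec (fun _ => Pt) (kg xg16 yg42 zg14) (kg xg27 yg38 zg60) (kg xg23 yg59 zg24) (kg xg24 yg20 zg37) (kg xg10 yg36 zg29) (kg xg10 yg31 zg17) (kg xg28 yg30 zg16) (kg xg23 yg58 zg49) (kg xg10 yg31 zg18) (kg xg23 yg59 zg17) (kg xg10 yg38 zg6) (kg xg10 yg31 zg19) (kg xg28 yg30 zg24) (kg xg10 yg38 zg4) (kg xg28 yg30 zg28) (kg xg19 yg23 zg36) (kg xg25 yg41 zg58) (kg xg10 yg38 zg16) (kg xg10 yg31 zg22) (kg xg28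 yg30 zg35) (kg xg10 yg38 zg14) (kg xg19 yg41 zg21) (kg xg19 yg23 zg24) (kg xg10 yg31 zg29) (kg xg10 yg39 zg2) (kg xg28 yg30 zg41) (kg xg19 yg23 zg32) (kg xg14 yg32 zg43) (kg xg14 yg22 zg15) (kg xg10 yg39 zg57) (kg xg24 yg29 zg29) (kg xg18 yg27 zg0) (kg xg16 yg53 zg31) (kg xg25 yg46 zg2) (kg xg18 yg59 zg24) (kg xg28 yg8 zg57) (kg xg16 yg13 zg49) (kg xg10 yg59 zg59) (kg xg10 yg42 zg44) (kg xg10 yg39 zg12) (kg xg21 yg41 zg22) (kg xg10 yg39 zg60) (kg xg14 yg33 zg46) (kg xg10 yg42 zg52) (kg xg11 yg0 zg39) (kg xg22 yg14 zg4) (kg xg10 yg42 zg37) (kg xg20 yg5 zg20) (kg xg10 yg42 zg9) (kg xg21 yg4 zg0) (kg xg10 yg41 zg15) (kg xg10 yg32 zg17) (kg xg10 yg40 zg59) (kg xg24 yg27 zg52) (kg xg10 yg40 zg53) (kg xg10 yg31 zg58) (kg xg27 yg34 zg2) (kg xg23 yg36 zg57) (kg xg10 yg31 zg59)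 (kg xg15 yg21 zg5) (kg xg14 yg34 zg11) (kg xg10 yg32 zg19)) (@D3.rec (fun _ => Pt) (kg xg10 yg32 zg1) (kg xg10 yg32 zg3) (kg xg12 yg15 zg39) (kg xg26 yg33 zg17) (kg xg24 yg29 zg0) (kg xg23 yg59 zg58) (kg xg10 yg32 zg11) (kg xg16 yg37 zg45) (kg xg19 yg17 zg39) (kg xg25 yg10 zg14) (kg xg24 yg28 zg60) (kg xg16 yg22 zg5) (kg xg23 yg50 zg13) (kg xg25 yg0 zg46) (kg xg18 yg54 zg52) (kg xg10 yg40 zg50) (kg xg18 yg31 zg6) (kg xg28 yg17 zg36) (kg xg28 yg31 zg1) (kg xg10 yg40 zg25) (kg xg24 yg46 zg39) (kg xg13 yg7 zg8) (kg xg10 yg42 zg14) (kg xg27 yg53 zg35) (kg xg10 yg42 zg12) (kg xg23 yg50 zg16) (kg xg27 yg29 zg49) (kg xg22 yg20 zg15) (kg xg28 yg1 zg22) (kg xg10 yg39 zg36) (kg xg10 yg40 zg22) (kg xg26 yg0 zg23) (kg xg10 yg32 zg25) (kg xg10 yg35 zg39) (kg xg19 yg15 zg5) (kg xg10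 yg39 zg6) (kg xg28 yg28 zg59) (kg xg14 yg36 zg57) (kg xg10 yg32 zg32) (kg xg15 yg3 zg17) (kg xg28 yg31 zg12) (kg xg10 yg38 zg28) (kg xg10 yg32 zg35) (kg xg16 yg0 zg57) (kg xg24 yg21 zg9) (kg xg26 yg0 zg19) (kg xg16 yg5 zg42) (kg xg15 yg46 zg19) (kg xg24 yg42 zg22) (kg xg24 yg43 zg54) (kg xg20 yg14 zg34) (kg xg15 yg42 zg2) (kg xg14 yg54 zg26) (kg xg23 yg13 zg27) (kg xg27 yg43 zg42) (kg xg28 yg31 zg18) (kg xg24 yg0 zg9) (kg xg19 yg6 zg12) (kg xg10 yg32 zg44) (kg xg14 yg47 zg35) (kg xg16 yg2 zg52) (kg xg15 yg44 zg37)) (@D3.rec (fun _ => Pt) (kg xg10 yg58 zg5) (kg xg28 yg31 zg24) (kg xg16 yg4 zg21) (kg xg26 yg1 zg9) (kg xg25 yg10 zg33) (kg xg10 yg32 zg50) (kg xg26 yg46 zg3) (kg xg25 yg58 zg20) (kg xg28 yg31 zg31) (kg xg28 yg31 zg35) (kg xg24 yg22 zg23) (kg xg14 yg46 zg42)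 (kg xg19 yg5 zg58) (kg xg10 yg32 zg54) (kg xg19 yg6 zg16) (kg xg26 yg37 zg60) (kg xg15 yg41 zg47) (kg xg10 yg32 zg56) (kg xg26 yg32 zg8) (kg xg27 yg47 zg47) (kg xg27 yg50 zg20) (kg xg16 yg33 zg51) (kg xg18 yg35 zg31) (kg xg16 yg7 zg58) (kg xg18 yg58 zg18) (kg xg21 yg14 zg44) (kg xg18 yg8 zg59) (kg xg18 yg34 zg7) (kg xg16 yg39 zg19) (kg xg24 yg58 zg8) (kg xg18 yg14 zg34) (kg xg18 yg28 zg20) (kg xg27 yg16 zg44) (kg xg28 yg8 zg49) (kg xg27 yg45 zg28) (kg xg18 yg28 zg56) (kg xg18 yg14 zg45) (kg xg18 yg14 zg53) (kg xg28 yg5 zg24) (kg xg28 yg5 zg45) (kg xg10 yg33 zg6) (kg xg28 yg32 zg10) (kg xg10 yg34 zg52) (kg xg10 yg33 zg7) (kg xg26 yg32 zg15) (kg xg21 yg55 zg15) (kg xg10 yg33 zg8) (kg xg10 yg33 zg9) (kg xg19 yg5 zg33) (kg xg16 yg2 zg6) (kg xg10 yg33 zg13) (kg xg28 yg4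 zg53) (kg xg16 yg2 zg5) (kg xg17 yg18 zg27) (kg xg19 yg23 zg6) (kg xg12 yg54 zg2) (kg xg17 yg34 zg39) (kg xg19 yg9 zg41) (kg xg15 yg52 zg16) (kg xg24 yg16 zg52) (kg xg24 yg16 zg53) (kg xg27 yg23 zg49)) (@D3.rec (fun _ => Pt) (kg xg27 yg2 zg37) (kg xg28 yg32 zg33) (kg xg28 yg4 zg56) (kg xg10 yg33 zg23) (kg xg28 yg4 zg55) (kg xg19 yg27 zg27) (kg xg28 yg32 zg40) (kg xg28 yg32 zg36) (kg xg12 yg56 zg33) (kg xg19 yg7 zg55) (kg xg23 yg59 zg1) (kg xg24 yg15 zg6) (kg xg21 yg18 zg7) (kg xg16 yg38 zg37) (kg xg24 yg22 zg58) (kg xg10 yg33 zg27) (kg xg22 yg35 zg44) (kg xg22 yg57 zg8) (kg xg28 yg32 zg27) (kg xg28 yg22 zg57) (kg xg28 yg32 zg53) (kg xg14 yg31 zg23) (kg xg22 yg26 zg26) (kg xg10 yg33 zg33) (kg xg24 yg23 zg10) (kg xg22 yg57 zg19) (kg xg24 yg12 zg48) (kg xg10 yg33 zg36)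 (kg xg28 yg32 zg60) (kg xg28 yg5 zg53) (kg xg23 yg58 zg31) (kg xg19 yg23 zg29) (kg xg24 yg23 zg12) (kg xg10 yg33 zg38) (kg xg28 yg33 zg8) (kg xg26 yg56 zg38) (kg xg19 yg23 zg18) (kg xg15 yg25 zg45) (kg xg15 yg25 zg44) (kg xg12 yg25 zg29) (kg xg10 yg33 zg41) (kg xg11 yg4 zg44) (kg xg15 yg25 zg25) (kg xg16 yg0 zg15) (kg xg15 yg45 zg12) (kg xg17 yg35 zg49) (kg xg10 yg33 zg45) (kg xg17 yg35 zg48) (kg xg17 yg29 zg2) (kg xg26 yg36 zg46) (kg xg10 yg33 zg47) (kg xg25 yg53 zg0) (kg xg28 yg33 zg24) (kg xg14 yg20 zg55) (kg xg20 yg55 zg27) (kg xg19 yg7 zg13) (kg xg14 yg38 zg16) (kg xg26 yg36 zg48) (kg xg10 yg33 zg51) (kg xg24 yg18 zg48) (kg xg28 yg33 zg30) (kg xg28 yg33 zg26)) (@D3.rec (fun _ => Pt) (kg xg10 yg33 zg52) (kg xg19 yg12 zg42) (kg xg24 yg19 zg42) (kg xg25 yg59 zg50)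 (kg xg24 yg12 zg44) (kg xg28 yg22 zg53) (kg xg28 yg19 zg2) (kg xg23 yg0 zg33) (kg xg10 yg33 zg55) (kg xg23 yg0 zg31) (kg xg24 yg12 zg41) (kg xg28 yg33 zg47) (kg xg23 yg12 zg21) (kg xg28 yg33 zg23) (kg xg25 yg40 zg22) (kg xg15 yg45 zg17) (kg xg10 yg33 zg58) (kg xg19 yg11 zg33) (kg xg19 yg12 zg12) (kg xg25 yg40 zg29) (kg xg25 yg40 zg14) (kg xg10 yg34 zg37) (kg xg25 yg40 zg26) (kg xg28 yg30 zg49) (kg xg28 yg33 zg20) (kg xg28 yg34 zg8) (kg xg16 yg12 zg38) (kg xg14 yg39 zg21) (kg xg28 yg34 zg10) (kg xg23 yg0 zg28) (kg xg10 yg34 zg5) (kg xg28 yg34 zg11) (kg xg14 yg48 zg31) (kg xg10 yg34 zg6) (kg xg14 yg37 zg49) (kg xg14 yg38 zg52) (kg xg10 yg34 zg7) (kg xg28 yg34 zg18) (kg xg24 yg13 zg6) (kg xg17 yg1 zg48) (kg xg10 yg42 zg46) (kg xg28 yg33 zg19) (kg xg19 yg13 zg54) (kg xg19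 yg3 zg51) (kg xg26 yg42 zg38) (kg xg10 yg42 zg33) (kg xg28 yg29 zg27) (kg xg24 yg49 zg9) (kg xg10 yg34 zg39) (kg xg28 yg34 zg29) (kg xg24 yg38 zg41) (kg xg28 yg29 zg23) (kg xg28 yg34 zg30) (kg xg10 yg34 zg48) (kg xg25 yg25 zg1) (kg xg22 yg17 zg9) (kg xg28 yg29 zg15) (kg xg10 yg34 zg18) (kg xg24 yg7 zg49) (kg xg27 yg21 zg26) (kg xg10 yg34 zg19) (kg xg28 yg34 zg35)) (@D3.rec (fun _ => Pt) (kg xg24 yg39 zg46) (kg xg28 yg29 zg13) (kg xg10 yg34 zg21) (kg xg19 yg36 zg33) (kg xg22 yg7 zg24) (kg xg10 yg34 zg22) (kg xg28 yg29 zg45) (kg xg19 yg11 zg34) (kg xg25 yg53 zg2) (kg xg24 yg38 zg39) (kg xg27 yg24 zg17) (kg xg15 yg29 zg13) (kg xg10 yg34 zg50) (kg xg10 yg42 zg34) (kg xg28 yg29 zg5) (kg xg28 yg34 zg52) (kg xg28 yg29 zg2) (kg xg10 yg34 zg27) (kg xg28 yg34 zg60) (kg xg14 yg27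 zg41) (kg xg28 yg34 zg54) (kg xg10 yg34 zg28) (kg xg28 yg35 zg8) (kg xg24 yg27 zg53) (kg xg28 yg29 zg21) (kg xg10 yg34 zg29) (kg xg28 yg35 zg13) (kg xg28 yg8 zg45) (kg xg28 yg30 zg1) (kg xg16 yg43 zg61) (kg xg10 yg34 zg43) (kg xg10 yg42 zg1) (kg xg28 yg33 zg14) (kg xg19 yg6 zg57) (kg xg20 yg29 zg59) (kg xg10 yg34 zg34) (kg xg28 yg34 zg57) (kg xg24 yg26 zg58) (kg xg21 yg11 zg34) (kg xg20 yg33 zg33) (kg xg25 yg43 zg57) (kg xg22 yg3 zg47) (kg xg21 yg11 zg33) (kg xg28 yg23 zg3) (kg xg28 yg34 zg3) (kg xg27 yg24 zg15) (kg xg26 yg20 zg39) (kg xg28 yg35 zg33) (kg xg10 yg34 zg46) (kg xg10 yg34 zg41) (kg xg17 yg26 zg47) (kg xg28 yg35 zg39) (kg xg28 yg34 zg48) (kg xg17 yg24 zg9) (kg xg23 yg57 zg43) (kg xg22 yg35 zg43) (kg xg23 yg57 zg9) (kg xg28 yg35 zg49) (kg xg21 yg9 zg53) (kg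 xg10 yg34 zg44) (kg xg17 yg26 zg55) (kg xg21 yg9 zg52)) (@D3.rec (fun _ => Pt) (kg xg28 yg35 zg40) (kg xg17 yg20 zg58) (kg xg19 yg42 zg0) (kg xg10 yg34 zg45) (kg xg10 yg41 zg10) (kg xg10 yg34 zg47) (kg xg11 yg35 zg52) (kg xg24 yg13 zg34) (kg xg28 yg29 zg1) (kg xg28 yg36 zg0) (kg xg28 yg36 zg1) (kg xg24 yg38 zg35) (kg xg10 yg34 zg51) (kg xg28 yg36 zg7) (kg xg28 yg5 zg60) (kg xg28 yg5 zg49) (kg xg28 yg5 zg51) (kg xg10 yg34 zg53) (kg xg28 yg36 zg18) (kg xg22 yg20 zg22) (kg xg27 yg51 zg37) (kg xg18 yg11 zg7) (kg xg10 yg46 zg57) (kg xg28 yg34 zg46) (kg xg18 yg30 zg34) (kg xg27 yg59 zg31) (kg xg28 yg36 zg33) (kg xg17 yg12 zg37) (kg xg10 yg34 zg57) (kg xg19 yg6 zg48) (kg xg10 yg35 zg12) (kg xg17 yg49 zg3) (kg xg10 yg35 zg1) (kg xg21 yg21 zg29) (kg xg28 yg36 zg38) (kg xg25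 yg50 zg27) (kg xg24 yg20 zg41) (kg xg21 yg55 zg11) (kg xg16 yg20 zg16) (kg xg10 yg35 zg6) (kg xg28 yg25 zg3) (kg xg23 yg58 zg50) (kg xg10 yg35 zg7) (kg xg19 yg23 zg27) (kg xg27 yg36 zg55) (kg xg19 yg6 zg28) (kg xg19 yg5 zg26) (kg xg10 yg35 zg19) (kg xg11 yg2 zg54) (kg xg17 yg30 zg43) (kg xg10 yg35 zg22) (kg xg21 yg48 zg51) (kg xg25 yg17 zg39) (kg xg17 yg49 zg11) (kg xg19 yg7 zg43) (kg xg17 yg49 zg14) (kg xg10 yg35 zg27) (kg xg17 yg49 zg13) (kg xg10 yg35 zg28) (kg xg15 yg25 zg5) (kg xg19 yg33 zg22) (kg xg14 yg47 zg49)) (@D3.rec (fun _ => Pt) (kg xg17 yg51 zg48) (kg xg18 yg0 zg42) (kg xg14 yg9 zg2) (kg xg17 yg48 zg29) (kg xg28 yg36 zg53) (kg xg11 yg50 zg42) (kg xg24 yg49 zg61) (kg xg17 yg49 zg38) (kg xg14 yg47 zg12) (kg xg25 yg17 zg59) (kg xg16 yg42 zg37) (kg xg28 yg36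 zg59) (kg xg19 yg59 zg22) (kg xg15 yg28 zg58) (kg xg28 yg37 zg3) (kg xg15 yg28 zg61) (kg xg10 yg35 zg45) (kg xg15 yg28 zg60) (kg xg28 yg37 zg9) (kg xg27 yg35 zg61) (kg xg19 yg12 zg46) (kg xg19 yg25 zg16) (kg xg28 yg29 zg36) (kg xg26 yg33 zg9) (kg xg10 yg36 zg57) (kg xg27 yg18 zg51) (kg xg10 yg35 zg50) (kg xg27 yg19 zg18) (kg xg28 yg37 zg18) (kg xg21 yg0 zg42) (kg xg27 yg35 zg60) (kg xg28 yg28 zg61) (kg xg19 yg9 zg5) (kg xg28 yg37 zg28) (kg xg19 yg2 zg53) (kg xg28 yg28 zg56) (kg xg10 yg36 zg24) (kg xg28 yg28 zg58) (kg xg19 yg14 zg58) (kg xg22 yg6 zg14) (kg xg19 yg51 zg1) (kg xg28 yg20 zg51) (kg xg28 yg33 zg11) (kg xg10 yg36 zg0) (kg xg28 yg37 zg40) (kg xg18 yg20 zg18) (kg xg10 yg36 zg1) (kg xg27 yg56 zg0) (kg xg19 yg20 zg5) (kg xg28 yg37 zg44) (kg xg28 yg30 zg46) (kg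 xg27 yg37 zg17) (kg xg28 yg34 zg26) (kg xg28 yg26 zg47) (kg xg10 yg36 zg4) (kg xg28 yg37 zg54) (kg xg10 yg36 zg25) (kg xg25 yg49 zg17) (kg xg25 yg46 zg3) (kg xg28 yg30 zg29) (kg xg19 yg39 zg25) (kg xg15 yg22 zg60)) (@D3.rec (fun _ => Pt) (kg xg10 yg36 zg38) (kg xg10 yg36 zg46) (kg xg24 yg15 zg59) (kg xg10 yg36 zg8) (kg xg26 yg18 zg29) (kg xg28 yg38 zg4) (kg xg10 yg36 zg9) (kg xg28 yg38 zg11) (kg xg28 yg38 zg3) (kg xg13 yg35 zg59) (kg xg19 yg8 zg16) (kg xg28 yg34 zg43) (kg xg19 yg2 zg44) (kg xg24 yg11 zg57) (kg xg28 yg29 zg56) (kg xg28 yg30 zg14) (kg xg25 yg47 zg14) (kg xg10 yg36 zg40) (kg xg10 yg38 zg7) (kg xg19 yg17 zg32) (kg xg28 yg32 zg37) (kg xg10 yg36 zg16) (kg xg24 yg29 zg1) (kg xg28 yg38 zg28) (kg xg28 yg33 zg1) (kg xg10 yg36 zg17) (kg xg28 yg38 zg37) (kg xg19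 yg18 zg1) (kg xg10 yg36 zg19) (kg xg22 yg29 zg58) (kg xg19 yg17 zg61) (kg xg24 yg23 zg14) (kg xg10 yg36 zg20) (kg xg22 yg14 zg26) (kg xg10 yg36 zg21) (kg xg25 yg40 zg44) (kg xg15 yg0 zg57) (kg xg19 yg50 zg50) (kg xg28 yg38 zg49) (kg xg10 yg36 zg22) (kg xg24 yg19 zg9) (kg xg21 yg54 zg3) (kg xg28 yg38 zg54) (kg xg24 yg20 zg44) (kg xg18 yg46 zg22) (kg xg26 yg34 zg27) (kg xg19 yg11 zg23) (kg xg24 yg17 zg13) (kg xg21 yg54 zg17) (kg xg28 yg38 zg43) (kg xg21 yg55 zg9) (kg xg25 yg30 zg57) (kg xg10 yg36 zg30) (kg xg28 yg38 zg60) (kg xg28 yg38 zg21) (kg xg14 yg35 zg3) (kg xg24 yg21 zg27) (kg xg10 yg36 zg33) (kg xg28 yg38 zg58) (kg xg23 yg57 zg31) (kg xg11 yg31 zg41) (kg xg24 yg24 zg26)) (@D3.rec (fun _ => Pt) (kg xg24 yg17 zg55) (kg xg20 yg25 zg31) (kg xg28 yg39 zg1) (kg xg24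 yg24 zg20) (kg xg10 yg36 zg36) (kg xg24 yg24 zg49) (kg xg25 yg46 zg5) (kg xg26 yg17 zg22) (kg xg17 yg22 zg3) (kg xg24 yg12 zg36) (kg xg13 yg19 zg41) (kg xg28 yg29 zg40) (kg xg24 yg46 zg25) (kg xg28 yg39 zg10) (kg xg17 yg50 zg26) (kg xg28 yg39 zg11) (kg xg28 yg38 zg20) (kg xg24 yg21 zg41) (kg xg28 yg19 zg13) (kg xg10 yg36 zg44) (kg xg26 yg40 zg13) (kg xg24 yg24 zg58) (kg xg28 yg29 zg61) (kg xg24 yg17 zg53) (kg xg20 yg39 zg39) (kg xg10 yg36 zg47) (kg xg28 yg29 zg22) (kg xg23 yg57 zg33) (kg xg23 yg57 zg25) (kg xg26 yg56 zg55) (kg xg19 yg52 zg9) (kg xg19 yg59 zg31) (kg xg28 yg35 zg19) (kg xg24 yg12 zg1) (kg xg28 yg39 zg23) (kg xg28 yg39 zg41) (kg xg23 yg45 zg57) (kg xg26 yg57 zg5) (kg xg28 yg39 zg42) (kg xg28 yg30 zg11) (kg xg10 yg36 zg54) (kg xg28 yg39 zg51) (kg xg19 yg34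 zg43) (kg xg28 yg30 zg8) (kg xg28 yg39 zg58) (kg xg28 yg39 zg60) (kg xg21 yg0 zg59) (kg xg26 yg55 zg56) (kg xg27 yg17 zg12) (kg xg10 yg36 zg58) (kg xg19 yg8 zg42) (kg xg20 yg35 zg39) (kg xg19 yg34 zg42) (kg xg26 yg34 zg10) (kg xg28 yg39 zg27) (kg xg11 yg26 zg15) (kg xg28 yg40 zg14) (kg xg26 yg36 zg26) (kg xg20 yg58 zg50) (kg xg26 yg10 zg31) (kg xg24 yg31 zg58) (kg xg18 yg49 zg28)) (@D3.rec (fun _ => Pt) (kg xg17 yg2 zg19) (kg xg28 yg40 zg21) (kg xg10 yg37 zg6) (kg xg28 yg40 zg22) (kg xg28 yg40 zg26) (kg xg26 yg37 zg61) (kg xg20 yg57 zg20) (kg xg10 yg37 zg7) (kg xg28 yg39 zg55) (kg xg26 yg35 zg24) (kg xg16 yg38 zg13) (kg xg16 yg41 zg10) (kg xg10 yg37 zg10) (kg xg20 yg56 zg50) (kg xg28 yg32 zg22) (kg xg26 yg37 zg11) (kg xg27 yg44 zg47) (kg xg26 yg37 zg50) (kg xg28 yg29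 zg26) (kg xg20 yg58 zg55) (kg xg12 yg54 zg38) (kg xg28 yg40 zg39) (kg xg19 yg3 zg4) (kg xg28 yg40 zg40) (kg xg20 yg57 zg14) (kg xg10 yg37 zg19) (kg xg20 yg57 zg12) (kg xg10 yg37 zg20) (kg xg19 yg10 zg47) (kg xg28 yg11 zg29) (kg xg28 yg40 zg51) (kg xg28 yg37 zg14) (kg xg19 yg18 zg23) (kg xg19 yg58 zg47) (kg xg28 yg29 zg38) (kg xg18 yg2 zg42) (kg xg19 yg54 zg40) (kg xg24 yg29 zg20) (kg xg15 yg44 zg52) (kg xg22 yg12 zg23) (kg xg10 yg37 zg26) (kg xg28 yg41 zg5) (kg xg23 yg45 zg18) (kg xg24 yg24 zg21) (kg xg10 yg37 zg27) (kg xg28 yg41 zg13) (kg xg24 yg23 zg4) (kg xg22 yg45 zg44) (kg xg10 yg37 zg28) (kg xg21 yg10 zg14) (kg xg23 yg44 zg53) (kg xg26 yg40 zg36) (kg xg26 yg14 zg34) (kg xg26 yg14 zg35) (kg xg10 yg37 zg30) (kg xg26 yg48 zg15) (kg xg28 yg40 zg52) (kg xg22 yg22 zg6)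 (kg xg28 yg38 zg53) (kg xg18 yg1 zg2) (kg xg19 yg11 zg38) (kg xg27 yg36 zg13)) (@D3.rec (fun _ => Pt) (kg xg14 yg20 zg57) (kg xg10 yg37 zg38) (kg xg26 yg59 zg20) (kg xg12 yg53 zg31) (kg xg18 yg12 zg31) (kg xg21 yg26 zg34) (kg xg19 yg5 zg34) (kg xg10 yg37 zg48) (kg xg24 yg17 zg57) (kg xg15 yg33 zg19) (kg xg13 yg4 zg32) (kg xg10 yg37 zg52) (kg xg10 yg37 zg49) (kg xg19 yg36 zg57) (kg xg24 yg0 zg25) (kg xg23 yg33 zg56) (kg xg22 yg50 zg21) (kg xg23 yg58 zg12) (kg xg24 yg29 zg18) (kg xg23 yg59 zg8) (kg xg24 yg29 zg33) (kg xg23 yg34 zg2) (kg xg24 yg22 zg12) (kg xg24 yg29 zg21) (kg xg13 yg19 zg61) (kg xg10 yg38 zg2) (kg xg14 yg30 zg24) (kg xg26 yg12 zg42) (kg xg24 yg14 zg1) (kg xg25 yg40 zg45) (kg xg28 yg29 zg53) (kg xg10 yg37 zg59) (kg xg28 yg41 zg42) (kg xg22 yg35 zg10) (kg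 xg14 yg30 zg14) (kg xg22 yg15 zg7) (kg xg24 yg17 zg54) (kg xg24 yg24 zg16) (kg xg23 yg58 zg56) (kg xg25 yg40 zg46) (kg xg28 yg41 zg33) (kg xg24 yg20 zg32) (kg xg14 yg30 zg23) (kg xg24 yg4 zg26) (kg xg13 yg44 zg36) (kg xg17 yg49 zg45) (kg xg28 yg41 zg54) (kg xg13 yg19 zg39) (kg xg28 yg37 zg59) (kg xg17 yg48 zg6) (kg xg15 yg54 zg23) (kg xg28 yg30 zg27) (kg xg10 yg38 zg5) (kg xg28 yg41 zg59) (kg xg28 yg30 zg25) (kg xg26 yg45 zg29) (kg xg23 yg57 zg26) (kg xg19 yg52 zg45) (kg xg16 yg55 zg14) (kg xg15 yg45 zg5) (kg xg16 yg22 zg9) (kg xg10 yg38 zg12)) (@D3.rec (fun _ => Pt) (kg xg10 yg38 zg9) (kg xg25 yg33 zg34) (kg xg15 yg52 zg61) (kg xg10 yg38 zg11) (kg xg28 yg29 zg48) (kg xg25 yg52 zg19) (kg xg25 yg13 zg5) (kg xg15 yg54 zg24) (kg xg20 yg52 zg58) (kg xg28 yg42 zg7) (kg xg28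 yg42 zg11) (kg xg28 yg37 zg60) (kg xg28 yg42 zg8) (kg xg13 yg44 zg29) (kg xg28 yg30 zg38) (kg xg10 yg38 zg15) (kg xg15 yg39 zg32) (kg xg25 yg40 zg57) (kg xg28 yg30 zg36) (kg xg28 yg42 zg25) (kg xg28 yg42 zg27) (kg xg19 yg30 zg61) (kg xg20 yg28 zg15) (kg xg19 yg41 zg18) (kg xg28 yg42 zg34) (kg xg10 yg38 zg22) (kg xg10 yg38 zg19) (kg xg15 yg54 zg53) (kg xg15 yg51 zg13) (kg xg10 yg38 zg21) (kg xg15 yg45 zg2) (kg xg15 yg45 zg6) (kg xg15 yg47 zg55) (kg xg25 yg44 zg12) (kg xg24 yg43 zg14) (kg xg15 yg45 zg19) (kg xg24 yg36 zg11) (kg xg10 yg38 zg27) (kg xg21 yg18 zg56) (kg xg24 yg43 zg13) (kg xg26 yg48 zg13) (kg xg14 yg54 zg18) (kg xg15 yg54 zg54) (kg xg23 yg42 zg18) (kg xg19 yg5 zg60) (kg xg10 yg38 zg30) (kg xg25 yg31 zg30) (kg xg24 yg27 zg58) (kg xg12 yg41 zg60) (kg xg14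 yg6 zg54) (kg xg28 yg42 zg48) (kg xg16 yg19 zg56) (kg xg10 yg38 zg33) (kg xg16 yg19 zg55) (kg xg24 yg36 zg46) (kg xg28 yg42 zg53) (kg xg21 yg54 zg37) (kg xg23 yg31 zg45) (kg xg23 yg42 zg8) (kg xg23 yg34 zg52) (kg xg11 yg16 zg50) (kg xg22 yg31 zg8)) (@D3.rec (fun _ => Pt) (kg xg27 yg26 zg35) (kg xg15 yg43 zg22) (kg xg13 yg58 zg23) (kg xg23 yg42 zg43) (kg xg17 yg48 zg37) (kg xg10 yg41 zg33) (kg xg14 yg36 zg27) (kg xg28 yg42 zg59) (kg xg21 yg8 zg16) (kg xg14 yg38 zg20) (kg xg10 yg38 zg47) (kg xg28 yg43 zg0) (kg xg28 yg42 zg60) (kg xg17 yg48 zg35) (kg xg20 yg51 zg46) (kg xg10 yg38 zg51) (kg xg15 yg38 zg45) (kg xg27 yg37 zg55) (kg xg27 yg32 zg45) (kg xg10 yg42 zg43) (kg xg15 yg20 zg60) (kg xg14 yg33 zg48) (kg xg10 yg59 zg54) (kg xg10 yg39 zg27) (kg xg14 yg33 zg19) (kg xg28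 yg25 zg33) (kg xg10 yg38 zg61) (kg xg11 yg35 zg1) (kg xg24 yg28 zg59) (kg xg19 yg12 zg19) (kg xg10 yg59 zg58) (kg xg24 yg28 zg56) (kg xg10 yg39 zg21) (kg xg10 yg40 zg0) (kg xg11 yg0 zg0) (kg xg28 yg43 zg7) (kg xg24 yg48 zg56) (kg xg10 yg55 zg46) (kg xg13 yg20 zg41) (kg xg19 yg5 zg3) (kg xg22 yg50 zg61) (kg xg10 yg39 zg18) (kg xg10 yg39 zg10) (kg xg26 yg22 zg26) (kg xg27 yg34 zg1) (kg xg28 yg27 zg45) (kg xg20 yg11 zg55) (kg xg19 yg52 zg11) (kg xg21 yg40 zg45) (kg xg16 yg55 zg6) (kg xg26 yg36 zg41) (kg xg26 yg33 zg50) (kg xg16 yg54 zg30) (kg xg24 yg19 zg34) (kg xg14 yg38 zg21) (kg xg10 yg39 zg17) (kg xg19 yg46 zg59) (kg xg28 yg43 zg11) (kg xg20 yg10 zg52) (kg xg27 yg12 zg24) (kg xg19 yg12 zg30) (kg xg10 yg39 zg20)) (@D3.rec (fun _ => Pt) (kg xg18 yg50 zg3) (kg xg19 yg12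 zg28) (kg xg19 yg12 zg21) (kg xg28 yg43 zg31) (kg xg28 yg43 zg32) (kg xg18 yg50 zg0) (kg xg19 yg44 zg12) (kg xg28 yg15 zg51) (kg xg18 yg49 zg46) (kg xg16 yg54 zg11) (kg xg19 yg51 zg49) (kg xg14 yg33 zg50) (kg xg18 yg34 zg36) (kg xg27 yg13 zg43) (kg xg28 yg43 zg34) (kg xg10 yg39 zg35) (kg xg10 yg41 zg13) (kg xg28 yg43 zg37) (kg xg26 yg36 zg36) (kg xg22 yg14 zg8) (kg xg16 yg3 zg33) (kg xg19 yg47 zg28) (kg xg14 yg20 zg49) (kg xg19 yg14 zg35) (kg xg27 yg44 zg27) (kg xg10 yg39 zg43) (kg xg28 yg43 zg47) (kg xg23 yg23 zg3) (kg xg27 yg40 zg42) (kg xg10 yg39 zg44) (kg xg23 yg26 zg3) (kg xg27 yg44 zg34) (kg xg25 yg38 zg42) (kg xg18 yg18 zg42) (kg xg16 yg16 zg35) (kg xg19 yg53 zg56) (kg xg16 yg10 zg23) (kg xg17 yg15 zg30) (kg xg14 yg34 zg12) (kg xg10 yg39 zg53) (kg xg19 yg44 zg59)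 (kg xg28 yg41 zg32) (kg xg11 yg1 zg24) (kg xg14 yg45 zg28) (kg xg28 yg43 zg60) (kg xg24 yg29 zg27) (kg xg22 yg15 zg1) (kg xg11 yg0 zg5) (kg xg14 yg43 zg48) (kg xg24 yg18 zg16) (kg xg28 yg30 zg43) (kg xg10 yg39 zg58) (kg xg28 yg41 zg41) (kg xg23 yg51 zg60) (kg xg28 yg43 zg27) (kg xg22 yg14 zg59) (kg xg17 yg48 zg18) (kg xg23 yg52 zg9) (kg xg28 yg30 zg48) (kg xg19 yg52 zg12) (kg xg23 yg55 zg18) (kg xg28 yg44 zg14)) (@D3.rec (fun _ => Pt) (kg xg19 yg23 zg22) (kg xg22 yg32 zg24) (kg xg10 yg40 zg3) (kg xg14 yg32 zg41) (kg xg23 yg19 zg16) (kg xg10 yg41 zg40) (kg xg23 yg55 zg19) (kg xg28 yg35 zg59) (kg xg10 yg40 zg7) (kg xg20 yg27 zg27) (kg xg14 yg46 zg3) (kg xg10 yg40 zg8) (kg xg25 yg31 zg17) (kg xg13 yg4 zg1) (kg xg10 yg40 zg12) (kg xg16 yg36 zg42) (kg xg16 yg41 zg7) (kg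 xg28 yg44 zg21) (kg xg16 yg36 zg29) (kg xg14 yg39 zg49) (kg xg16 yg40 zg25) (kg xg16 yg42 zg44) (kg xg28 yg44 zg27) (kg xg10 yg40 zg16) (kg xg28 yg44 zg28) (kg xg26 yg38 zg47) (kg xg28 yg44 zg32) (kg xg26 yg59 zg39) (kg xg20 yg56 zg13) (kg xg10 yg40 zg19) (kg xg28 yg35 zg60) (kg xg10 yg40 zg24) (kg xg10 yg40 zg20) (kg xg19 yg44 zg55) (kg xg28 yg44 zg44) (kg xg14 yg33 zg25) (kg xg13 yg6 zg56) (kg xg20 yg40 zg42) (kg xg18 yg44 zg20) (kg xg28 yg30 zg59) (kg xg28 yg23 zg60) (kg xg10 yg42 zg19) (kg xg25 yg4 zg58) (kg xg24 yg16 zg35) (kg xg17 yg45 zg21) (kg xg25 yg5 zg38) (kg xg28 yg44 zg45) (kg xg24 yg39 zg61) (kg xg10 yg40 zg31) (kg xg11 yg42 zg59) (kg xg23 yg39 zg41) (kg xg10 yg40 zg32) (kg xg17 yg48 zg58) (kg xg24 yg29 zg2) (kg xg15 yg36 zg41) (kg xg27 yg58 zg58) (kg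 xg13 yg52 zg39) (kg xg10 yg40 zg35) (kg xg18 yg45 zg44) (kg xg28 yg43 zg35) (kg xg14 yg33 zg60) (kg xg28 yg29 zg16)) (@D3.rec (fun _ => Pt) (kg xg11 yg0 zg16) (kg xg28 yg44 zg42) (kg xg28 yg43 zg39) (kg xg15 yg53 zg41) (kg xg19 yg11 zg48) (kg xg10 yg40 zg41) (kg xg18 yg48 zg26) (kg xg11 yg0 zg3) (kg xg18 yg52 zg61) (kg xg28 yg31 zg7) (kg xg15 yg21 zg2) (kg xg25 yg50 zg28) (kg xg25 yg51 zg2) (kg xg28 yg45 zg7) (kg xg18 yg55 zg16) (kg xg10 yg40 zg51) (kg xg17 yg19 zg3) (kg xg18 yg33 zg29) (kg xg27 yg35 zg46) (kg xg15 yg2 zg12) (kg xg24 yg52 zg19) (kg xg15 yg27 zg58) (kg xg10 yg40 zg56) (kg xg24 yg1 zg19) (kg xg10 yg40 zg57) (kg xg28 yg45 zg20) (kg xg24 yg39 zg56) (kg xg17 yg50 zg11) (kg xg28 yg5 zg12) (kg xg25 yg50 zg58) (kg xg15 yg1 zg14) (kg xg28 yg45 zg1) (kg xg10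 yg40 zg60) (kg xg18 yg9 zg54) (kg xg24 yg27 zg16) (kg xg24 yg27 zg20) (kg xg28 yg29 zg10) (kg xg27 yg23 zg59) (kg xg28 yg15 zg17) (kg xg28 yg45 zg4) (kg xg10 yg41 zg52) (kg xg18 yg51 zg57) (kg xg11 yg34 zg16) (kg xg13 yg30 zg40) (kg xg26 yg23 zg36) (kg xg19 yg50 zg57) (kg xg20 yg6 zg11) (kg xg10 yg41 zg47) (kg xg24 yg29 zg28) (kg xg24 yg0 zg12) (kg xg10 yg41 zg16) (kg xg19 yg17 zg58) (kg xg28 yg15 zg30) (kg xg28 yg30 zg54) (kg xg24 yg26 zg5) (kg xg26 yg50 zg16) (kg xg24 yg27 zg42) (kg xg17 yg53 zg41) (kg xg10 yg55 zg3) (kg xg10 yg41 zg36) (kg xg11 yg0 zg11) (kg xg10 yg55 zg8)) (@D3.rec (fun _ => Pt) (kg xg17 yg53 zg19) (kg xg20 yg27 zg53) (kg xg17 yg53 zg23) (kg xg11 yg0 zg40) (kg xg22 yg50 zg11) (kg xg10 yg41 zg38) (kg xg10 yg41 zg25) (kg xg28 yg45 zg49) (kg xg28 yg45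 zg50) (kg xg18 yg53 zg26) (kg xg19 yg50 zg59) (kg xg14 yg13 zg32) (kg xg11 yg34 zg20) (kg xg24 yg47 zg51) (kg xg20 yg32 zg15) (kg xg26 yg50 zg14) (kg xg14 yg58 zg33) (kg xg14 yg11 zg20) (kg xg16 yg21 zg30) (kg xg22 yg18 zg33) (kg xg12 yg25 zg28) (kg xg10 yg58 zg31) (kg xg17 yg1 zg28) (kg xg11 yg13 zg42) (kg xg14 yg25 zg13) (kg xg22 yg18 zg57) (kg xg13 yg53 zg43) (kg xg28 yg15 zg29) (kg xg23 yg55 zg17) (kg xg19 yg50 zg45) (kg xg28 yg14 zg56) (kg xg28 yg30 zg51) (kg xg19 yg50 zg47) (kg xg10 yg41 zg45) (kg xg10 yg41 zg57) (kg xg10 yg41 zg60) (kg xg23 yg50 zg9) (kg xg19 yg13 zg7) (kg xg28 yg46 zg3) (kg xg10 yg41 zg51) (kg xg10 yg41 zg48) (kg xg28 yg46 zg7) (kg xg28 yg46 zg11) (kg xg28 yg46 zg14) (kg xg10 yg41 zg49) (kg xg28 yg46 zg17) (kg xg18 yg52 zg7) (kg xg28 yg46 zg19)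 (kg xg20 yg21 zg48) (kg xg28 yg46 zg12) (kg xg10 yg59 zg57) (kg xg28 yg37 zg33) (kg xg28 yg46 zg23) (kg xg10 yg59 zg55) (kg xg19 yg23 zg52) (kg xg19 yg42 zg4) (kg xg13 yg3 zg2) (kg xg11 yg1 zg11) (kg xg10 yg41 zg55) (kg xg24 yg1 zg43) (kg xg19 yg41 zg15) (kg xg18 yg54 zg53)) (@D3.rec (fun _ => Pt) (kg xg10 yg41 zg56) (kg xg14 yg20 zg36) (kg xg18 yg52 zg0) (kg xg28 yg14 zg58) (kg xg28 yg46 zg32) (kg xg14 yg3 zg33) (kg xg28 yg17 zg46) (kg xg28 yg2 zg45) (kg xg22 yg35 zg58) (kg xg13 yg19 zg60) (kg xg28 yg46 zg36) (kg xg21 yg59 zg55) (kg xg18 yg54 zg37) (kg xg10 yg41 zg61) (kg xg27 yg59 zg58) (kg xg28 yg34 zg49) (kg xg13 yg2 zg25) (kg xg28 yg43 zg36) (kg xg28 yg42 zg58) (kg xg10 yg56 zg59) (kg xg16 yg57 zg39) (kg xg28 yg34 zg5) (kg xg26 yg16 zg0) (kg xg27 yg47 zg61) (kg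 xg10 yg42 zg4) (kg xg27 yg47 zg7) (kg xg28 yg46 zg47) (kg xg10 yg42 zg5) (kg xg20 yg47 zg51) (kg xg26 yg21 zg13) (kg xg28 yg18 zg11) (kg xg28 yg18 zg9) (kg xg10 yg42 zg7) (kg xg26 yg46 zg22) (kg xg22 yg26 zg24) (kg xg18 yg33 zg24) (kg xg23 yg36 zg51) (kg xg27 yg52 zg5) (kg xg27 yg34 zg20) (kg xg28 yg46 zg54) (kg xg10 yg42 zg11) (kg xg24 yg3 zg7) (kg xg23 yg51 zg43) (kg xg28 yg31 zg6) (kg xg10 yg42 zg13) (kg xg28 yg47 zg0) (kg xg28 yg31 zg4) (kg xg22 yg29 zg33) (kg xg17 yg13 zg31) (kg xg12 yg27 zg38) (kg xg10 yg42 zg18) (kg xg27 yg40 zg49) (kg xg28 yg17 zg59) (kg xg27 yg48 zg3) (kg xg14 yg15 zg17) (kg xg14 yg52 zg57) (kg xg23 yg36 zg48) (kg xg21 yg5 zg44) (kg xg10 yg42 zg25) (kg xg10 yg42 zg21) (kg xg28 yg47 zg10) (kg xg27 yg16 zg49)) (@D3.rec (fun _ => Pt) (kg xg19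 yg20 zg6) (kg xg10 yg42 zg23) (kg xg28 yg30 zg52) (kg xg28 yg47 zg18) (kg xg25 yg38 zg59) (kg xg28 yg47 zg11) (kg xg25 yg48 zg6) (kg xg16 yg58 zg16) (kg xg22 yg34 zg33) (kg xg18 yg36 zg51) (kg xg13 yg53 zg44) (kg xg17 yg12 zg38) (kg xg10 yg42 zg29) (kg xg16 yg58 zg31) (kg xg19 yg46 zg43) (kg xg24 yg39 zg53) (kg xg20 yg46 zg1) (kg xg19 yg18 zg12) (kg xg18 yg59 zg29) (kg xg24 yg50 zg36) (kg xg24 yg27 zg23) (kg xg15 yg22 zg39) (kg xg25 yg15 zg32) (kg xg17 yg19 zg11) (kg xg15 yg45 zg23) (kg xg28 yg33 zg15) (kg xg17 yg51 zg2) (kg xg17 yg14 zg8) (kg xg28 yg43 zg10) (kg xg19 yg3 zg37) (kg xg10 yg42 zg53) (kg xg14 yg28 zg56) (kg xg14 yg31 zg3) (kg xg27 yg57 zg23) (kg xg25 yg23 zg26) (kg xg11 yg4 zg18) (kg xg19 yg4 zg16) (kg xg19 yg4 zg26) (kg xg20 yg59 zg38) (kg xg10 yg42 zg54)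 (kg xg20 yg59 zg37) (kg xg15 yg55 zg47) (kg xg28 yg30 zg17) (kg xg17 yg22 zg53) (kg xg10 yg42 zg56) (kg xg18 yg41 zg54) (kg xg18 yg54 zg16) (kg xg10 yg42 zg58) (kg xg11 yg16 zg8) (kg xg20 yg59 zg41) (kg xg10 yg42 zg59) (kg xg20 yg59 zg40) (kg xg19 yg21 zg51) (kg xg20 yg59 zg44) (kg xg10 yg42 zg61) (kg xg20 yg59 zg43) (kg xg28 yg11 zg22) (kg xg11 yg55 zg58) (kg xg19 yg43 zg41) (kg xg20 yg28 zg37) (kg xg10 yg43 zg2) (kg xg10 yg58 zg32)) (@D3.rec (fun _ => Pt) (kg xg10 yg43 zg3) (kg xg23 yg53 zg20) (kg xg26 yg30 zg15) (kg xg22 yg41 zg24) (kg xg15 yg52 zg2) (kg xg28 yg47 zg45) (kg xg16 yg46 zg48) (kg xg16 yg49 zg14) (kg xg26 yg45 zg20) (kg xg25 yg47 zg39) (kg xg28 yg47 zg60) (kg xg15 yg22 zg4) (kg xg28 yg47 zg38) (kg xg25 yg32 zg23) (kg xg13 yg2 zg20) (kg xg12 yg49 zg59)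 (kg xg28 yg47 zg32) (kg xg22 yg5 zg12) (kg xg28 yg46 zg21) (kg xg18 yg1 zg37) (kg xg18 yg22 zg29) (kg xg20 yg7 zg17) (kg xg12 yg55 zg33) (kg xg21 yg1 zg32) (kg xg11 yg31 zg23) (kg xg28 yg48 zg7) (kg xg28 yg48 zg5) (kg xg22 yg5 zg14) (kg xg16 yg49 zg15) (kg xg19 yg31 zg24) (kg xg10 yg43 zg29) (kg xg19 yg31 zg23) (kg xg23 yg56 zg14) (kg xg28 yg48 zg18) (kg xg20 yg59 zg1) (kg xg20 yg59 zg0) (kg xg21 yg5 zg36) (kg xg26 yg5 zg2) (kg xg26 yg25 zg42) (kg xg15 yg18 zg49) (kg xg20 yg59 zg5) (kg xg10 yg43 zg34) (kg xg20 yg59 zg4) (kg xg18 yg52 zg45) (kg xg28 yg48 zg24) (kg xg17 yg32 zg39) (kg xg20 yg59 zg9) (kg xg10 yg43 zg38) (kg xg23 yg9 zg40) (kg xg21 yg36 zg58) (kg xg21 yg36 zg57) (kg xg25 yg32 zg10) (kg xg28 yg48 zg29) (kg xg10 yg43 zg44) (kg xg19 yg58 zg29) (kg xg10 yg43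 zg48) (kg xg27 yg56 zg56) (kg xg17 yg31 zg56) (kg xg20 yg4 zg54) (kg xg14 yg33 zg13) (kg xg21 yg36 zg0) (kg xg18 yg52 zg34)) (@D3.rec (fun _ => Pt) (kg xg17 yg32 zg58) (kg xg22 yg5 zg6) (kg xg16 yg46 zg19) (kg xg11 yg8 zg16) (kg xg15 yg27 zg9) (kg xg20 yg42 zg56) (kg xg19 yg58 zg36) (kg xg22 yg11 zg24) (kg xg11 yg58 zg12) (kg xg18 yg58 zg1) (kg xg10 yg48 zg31) (kg xg19 yg52 zg44) (kg xg21 yg0 zg46) (kg xg10 yg43 zg57) (kg xg21 yg0 zg45) (kg xg28 yg46 zg46) (kg xg19 yg16 zg29) (kg xg16 yg12 zg34) (kg xg19 yg23 zg57) (kg xg26 yg45 zg4) (kg xg10 yg43 zg61) (kg xg11 yg28 zg10) (kg xg28 yg48 zg43) (kg xg20 yg53 zg2) (kg xg10 yg44 zg0) (kg xg19 yg30 zg33) (kg xg16 yg55 zg44) (kg xg13 yg22 zg52) (kg xg10 yg44 zg2) (kg xg17 yg25 zg3) (kg xg25 yg51 zg34) (kg xg28 yg48 zg50)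 (kg xg25 yg32 zg20) (kg xg25 yg47 zg5) (kg xg25 yg32 zg18) (kg xg10 yg44 zg5) (kg xg19 yg29 zg3) (kg xg19 yg30 zg6) (kg xg24 yg38 zg16) (kg xg20 yg44 zg35) (kg xg25 yg27 zg48) (kg xg15 yg27 zg32) (kg xg25 yg11 zg17) (kg xg15 yg56 zg34) (kg xg22 yg5 zg16) (kg xg10 yg55 zg12) (kg xg16 yg44 zg60) (kg xg26 yg49 zg41) (kg xg20 yg58 zg2) (kg xg27 yg21 zg58) (kg xg15 yg45 zg29) (kg xg10 yg44 zg21) (kg xg16 yg57 zg17) (kg xg25 yg21 zg58) (kg xg20 yg58 zg5) (kg xg10 yg45 zg12) (kg xg28 yg49 zg18) (kg xg28 yg20 zg35) (kg xg24 yg7 zg55) (kg xg11 yg2 zg23) (kg xg17 yg32 zg9) (kg xg21 yg0 zg15)) (@D3.rec (fun _ => Pt) (kg xg10 yg44 zg35) (kg xg27 yg13 zg7) (kg xg27 yg15 zg47) (kg xg12 yg0 zg30) (kg xg25 yg35 zg49) (kg xg28 yg20 zg41) (kg xg28 yg49 zg23) (kg xg22 yg2 zg26) (kg xg12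 yg58 zg29) (kg xg22 yg55 zg19) (kg xg15 yg57 zg60) (kg xg10 yg44 zg41) (kg xg26 yg30 zg60) (kg xg25 yg29 zg9) (kg xg22 yg2 zg47) (kg xg11 yg47 zg60) (kg xg25 yg26 zg54) (kg xg21 yg35 zg59) (kg xg17 yg53 zg48) (kg xg15 yg55 zg50) (kg xg22 yg5 zg25) (kg xg25 yg38 zg14) (kg xg16 yg59 zg42) (kg xg21 yg1 zg14) (kg xg20 yg29 zg52) (kg xg21 yg2 zg15) (kg xg25 yg37 zg46) (kg xg18 yg52 zg44) (kg xg15 yg29 zg40) (kg xg20 yg34 zg58) (kg xg10 yg44 zg56) (kg xg21 yg28 zg1) (kg xg23 yg44 zg25) (kg xg17 yg4 zg6) (kg xg10 yg44 zg57) (kg xg19 yg56 zg6) (kg xg16 yg52 zg47) (kg xg20 yg53 zg23) (kg xg22 yg5 zg22) (kg xg21 yg9 zg10) (kg xg20 yg10 zg24) (kg xg10 yg45 zg28) (kg xg15 yg52 zg55) (kg xg22 yg6 zg19) (kg xg22 yg5 zg39) (kg xg27 yg17 zg46) (kg xg21 yg35 zg61) (kg xg15 yg59 zg37)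 (kg xg18 yg8 zg2) (kg xg25 yg34 zg5) (kg xg15 yg29 zg51) (kg xg20 yg46 zg28) (kg xg11 yg1 zg32) (kg xg22 yg11 zg57) (kg xg14 yg38 zg28) (kg xg15 yg44 zg20) (kg xg10 yg45 zg37) (kg xg20 yg17 zg48) (kg xg28 yg29 zg0) (kg xg20 yg59 zg23) (kg xg19 yg25 zg53) (kg xg20 yg7 zg19)) (@D3.rec (fun _ => Pt) (kg xg10 yg45 zg17) (kg xg20 yg4 zg39) (kg xg28 yg34 zg7) (kg xg28 yg35 zg53) (kg xg11 yg1 zg28) (kg xg23 yg58 zg28) (kg xg10 yg45 zg21) (kg xg25 yg20 zg43) (kg xg28 yg33 zg27) (kg xg28 yg33 zg32) (kg xg25 yg20 zg46) (kg xg10 yg45 zg32) (kg xg10 yg45 zg22) (kg xg28 yg50 zg5) (kg xg22 yg11 zg52) (kg xg17 yg1 zg50) (kg xg10 yg45 zg23) (kg xg28 yg50 zg7) (kg xg28 yg49 zg48) (kg xg22 yg22 zg49) (kg xg15 yg5 zg4) (kg xg16 yg54 zg43) (kg xg20 yg9 zg8) (kg xg16 yg52 zg42) (kg xg16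 yg57 zg10) (kg xg25 yg52 zg61) (kg xg21 yg0 zg8) (kg xg28 yg33 zg38) (kg xg28 yg34 zg21) (kg xg22 yg22 zg60) (kg xg17 yg0 zg49) (kg xg10 yg45 zg33) (kg xg28 yg50 zg13) (kg xg11 yg31 zg51) (kg xg10 yg45 zg45) (kg xg10 yg45 zg36) (kg xg10 yg45 zg44) (kg xg17 yg32 zg42) (kg xg10 yg45 zg39) (kg xg10 yg45 zg38) (kg xg11 yg31 zg2) (kg xg18 yg43 zg57) (kg xg10 yg45 zg42) (kg xg21 yg31 zg43) (kg xg18 yg43 zg39) (kg xg20 yg28 zg29) (kg xg16 yg57 zg7) (kg xg18 yg43 zg30) (kg xg10 yg58 zg57) (kg xg10 yg59 zg56) (kg xg26 yg48 zg33) (kg xg14 yg36 zg43) (kg xg10 yg55 zg45) (kg xg10 yg45 zg48) (kg xg13 yg20 zg40) (kg xg10 yg45 zg51) (kg xg18 yg17 zg9) (kg xg17 yg12 zg15) (kg xg11 yg45 zg15) (kg xg16 yg19 zg2) (kg xg17 yg38 zg57) (kg xg16 yg47 zg40)) (@D3.rec (fun _ => Pt) (kg xg19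 yg28 zg51) (kg xg26 yg45 zg16) (kg xg25 yg4 zg15) (kg xg16 yg44 zg10) (kg xg10 yg54 zg15) (kg xg18 yg44 zg10) (kg xg25 yg52 zg12) (kg xg18 yg44 zg8) (kg xg10 yg45 zg58) (kg xg28 yg50 zg22) (kg xg25 yg51 zg54) (kg xg10 yg45 zg59) (kg xg17 yg24 zg60) (kg xg10 yg45 zg60) (kg xg16 yg2 zg13) (kg xg25 yg51 zg45) (kg xg19 yg31 zg20) (kg xg10 yg54 zg25) (kg xg26 yg39 zg22) (kg xg15 yg56 zg44) (kg xg10 yg46 zg1) (kg xg28 yg50 zg28) (kg xg25 yg51 zg31) (kg xg19 yg31 zg1) (kg xg10 yg54 zg9) (kg xg19 yg24 zg7) (kg xg26 yg43 zg5) (kg xg24 yg11 zg29) (kg xg19 yg40 zg56) (kg xg28 yg50 zg40) (kg xg22 yg21 zg42) (kg xg23 yg8 zg21) (kg xg15 yg51 zg61) (kg xg15 yg56 zg14) (kg xg14 yg27 zg15) (kg xg10 yg46 zg8) (kg xg25 yg4 zg12) (kg xg10 yg46 zg9) (kg xg14 yg30 zg47) (kg xg13 yg40 zg7)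 (kg xg19 yg28 zg25) (kg xg14 yg19 zg25) (kg xg13 yg44 zg26) (kg xg25 yg48 zg28) (kg xg10 yg46 zg15) (kg xg15 yg51 zg30) (kg xg14 yg32 zg26) (kg xg26 yg43 zg43) (kg xg16 yg50 zg56) (kg xg14 yg29 zg24) (kg xg19 yg58 zg49) (kg xg19 yg28 zg3) (kg xg28 yg50 zg59) (kg xg22 yg17 zg12) (kg xg24 yg25 zg4) (kg xg28 yg50 zg61) (kg xg10 yg46 zg21) (kg xg24 yg9 zg57) (kg xg28 yg50 zg60) (kg xg28 yg51 zg6) (kg xg25 yg51 zg41) (kg xg10 yg47 zg34)) (@D3.rec (fun _ => Pt) (kg xg26 yg43 zg54) (kg xg25 yg51 zg43) (kg xg25 yg32 zg32) (kg xg28 yg51 zg13) (kg xg15 yg55 zg33) (kg xg28 yg50 zg41) (kg xg25 yg51 zg37) (kg xg10 yg47 zg23) (kg xg25 yg34 zg26) (kg xg10 yg47 zg3) (kg xg22 yg0 zg59) (kg xg24 yg49 zg27) (kg xg10 yg46 zg31) (kg xg24 yg49 zg26) (kg xg28 yg51 zg22) (kg xg28 yg51 zg24)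 (kg xg28 yg51 zg28) (kg xg10 yg46 zg33) (kg xg28 yg51 zg33) (kg xg11 yg5 zg19) (kg xg27 yg37 zg14) (kg xg28 yg51 zg37) (kg xg14 yg29 zg43) (kg xg26 yg34 zg18) (kg xg17 yg22 zg52) (kg xg18 yg44 zg25) (kg xg28 yg47 zg39) (kg xg25 yg32 zg36) (kg xg10 yg46 zg39) (kg xg28 yg51 zg44) (kg xg28 yg24 zg32) (kg xg28 yg51 zg42) (kg xg10 yg46 zg40) (kg xg28 yg51 zg52) (kg xg28 yg51 zg40) (kg xg26 yg42 zg60) (kg xg10 yg46 zg41) (kg xg28 yg51 zg57) (kg xg26 yg42 zg58) (kg xg21 yg47 zg32) (kg xg28 yg15 zg49) (kg xg21 yg0 zg2) (kg xg10 yg46 zg43) (kg xg27 yg7 zg0) (kg xg26 yg43 zg1) (kg xg25 yg56 zg22) (kg xg20 yg59 zg60) (kg xg10 yg47 zg4) (kg xg28 yg41 zg25) (kg xg26 yg38 zg26) (kg xg28 yg44 zg53) (kg xg10 yg47 zg19) (kg xg19 yg41 zg14) (kg xg28 yg52 zg13) (kg xg19 yg41 zg49) (kg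 xg10 yg46 zg49) (kg xg28 yg35 zg58) (kg xg24 yg9 zg1) (kg xg28 yg52 zg16) (kg xg10 yg46 zg50) (kg xg28 yg52 zg30) (kg xg28 yg52 zg14)) (@D3.rec (fun _ => Pt) (kg xg19 yg41 zg61) (kg xg10 yg46 zg51) (kg xg28 yg52 zg37) (kg xg17 yg26 zg44) (kg xg19 yg25 zg35) (kg xg28 yg52 zg41) (kg xg15 yg55 zg22) (kg xg25 yg56 zg23) (kg xg20 yg3 zg13) (kg xg14 yg30 zg57) (kg xg17 yg50 zg15) (kg xg20 yg3 zg44) (kg xg15 yg52 zg12) (kg xg28 yg47 zg47) (kg xg19 yg41 zg56) (kg xg28 yg52 zg51) (kg xg28 yg52 zg48) (kg xg10 yg46 zg58) (kg xg23 yg48 zg7) (kg xg28 yg52 zg46) (kg xg19 yg41 zg55) (kg xg10 yg46 zg59) (kg xg27 yg16 zg53) (kg xg19 yg41 zg53) (kg xg10 yg46 zg60) (kg xg27 yg7 zg6) (kg xg19 yg53 zg31) (kg xg22 yg21 zg50) (kg xg25 yg35 zg16) (kg xg28 yg53 zg7) (kg xg14 yg16 zg35) (kg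 xg28 yg53 zg10) (kg xg26 yg43 zg26) (kg xg24 yg1 zg8) (kg xg24 yg46 zg17) (kg xg26 yg43 zg23) (kg xg26 yg43 zg3) (kg xg28 yg53 zg18) (kg xg28 yg53 zg20) (kg xg19 yg51 zg32) (kg xg28 yg52 zg59) (kg xg10 yg47 zg6) (kg xg27 yg6 zg60) (kg xg19 yg58 zg42) (kg xg26 yg43 zg33) (kg xg22 yg20 zg31) (kg xg28 yg53 zg15) (kg xg28 yg23 zg57) (kg xg25 yg48 zg19) (kg xg26 yg43 zg27) (kg xg10 yg47 zg11) (kg xg28 yg53 zg41) (kg xg14 yg26 zg38) (kg xg22 yg21 zg54) (kg xg19 yg53 zg34) (kg xg23 yg45 zg27) (kg xg25 yg59 zg24) (kg xg23 yg45 zg30) (kg xg23 yg5 zg41) (kg xg10 yg47 zg20) (kg xg13 yg45 zg40) (kg xg17 yg50 zg13)) (@D3.rec (fun _ => Pt) (kg xg13 yg23 zg13) (kg xg16 yg49 zg13) (kg xg24 yg31 zg60) (kg xg10 yg47 zg27) (kg xg13 yg3 zg35) (kg xg10 yg47 zg28) (kg xg19 yg36 zg13) (kg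 xg28 yg53 zg49) (kg xg22 yg21 zg41) (kg xg25 yg21 zg24) (kg xg25 yg22 zg46) (kg xg18 yg18 zg44) (kg xg10 yg47 zg31) (kg xg10 yg47 zg32) (kg xg20 yg52 zg51) (kg xg23 yg43 zg49) (kg xg28 yg53 zg55) (kg xg14 yg52 zg11) (kg xg21 yg40 zg25) (kg xg19 yg53 zg32) (kg xg17 yg29 zg4) (kg xg27 yg42 zg37) (kg xg19 yg24 zg31) (kg xg10 yg47 zg36) (kg xg19 yg24 zg30) (kg xg14 yg26 zg49) (kg xg25 yg11 zg55) (kg xg28 yg54 zg0) (kg xg18 yg46 zg31) (kg xg10 yg47 zg38) (kg xg25 yg4 zg54) (kg xg15 yg19 zg28) (kg xg18 yg46 zg34) (kg xg10 yg47 zg40) (kg xg18 yg46 zg33) (kg xg25 yg26 zg19) (kg xg24 yg39 zg31) (kg xg10 yg47 zg42) (kg xg16 yg39 zg56) (kg xg20 yg58 zg19) (kg xg26 yg48 zg34) (kg xg27 yg35 zg54) (kg xg16 yg39 zg10) (kg xg26 yg34 zg16) (kg xg16 yg41 zg11) (kg xg28 yg54 zg15) (kg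 xg16 yg48 zg9) (kg xg28 yg54 zg19) (kg xg26 yg52 zg16) (kg xg10 yg47 zg48) (kg xg28 yg54 zg26) (kg xg28 yg54 zg16) (kg xg21 yg48 zg23) (kg xg10 yg47 zg49) (kg xg28 yg54 zg32) (kg xg26 yg34 zg36) (kg xg28 yg54 zg36) (kg xg20 yg56 zg61) (kg xg19 yg13 zg53) (kg xg20 yg57 zg0) (kg xg26 yg34 zg41) (kg xg10 yg47 zg52)) (@D3.rec (fun _ => Pt) (kg xg13 yg8 zg61) (kg xg11 yg53 zg48) (kg xg16 yg9 zg37) (kg xg20 yg56 zg44) (kg xg26 yg35 zg25) (kg xg20 yg56 zg53) (kg xg19 yg56 zg48) (kg xg25 yg8 zg0) (kg xg20 yg56 zg55) (kg xg14 yg46 zg14) (kg xg17 yg49 zg27) (kg xg19 yg43 zg2) (kg xg26 yg37 zg3) (kg xg15 yg27 zg19) (kg xg10 yg48 zg7) (kg xg10 yg48 zg2) (kg xg16 yg48 zg11) (kg xg18 yg50 zg26) (kg xg28 yg54 zg57) (kg xg11 yg20 zg26) (kg xg26 yg36 zg54) (kg xg19 yg48 zg52) (kg xg19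 yg49 zg56) (kg xg11 yg21 zg57) (kg xg21 yg57 zg54) (kg xg11 yg3 zg43) (kg xg20 yg29 zg55) (kg xg26 yg41 zg61) (kg xg16 yg0 zg38) (kg xg20 yg22 zg16) (kg xg12 yg49 zg35) (kg xg11 yg10 zg23) (kg xg26 yg57 zg3) (kg xg19 yg48 zg58) (kg xg11 yg1 zg6) (kg xg20 yg52 zg36) (kg xg12 yg30 zg2) (kg xg26 yg46 zg53) (kg xg23 yg58 zg34) (kg xg26 yg43 zg20) (kg xg28 yg48 zg36) (kg xg10 yg48 zg32) (kg xg11 yg9 zg10) (kg xg21 yg2 zg35) (kg xg20 yg29 zg5) (kg xg10 yg48 zg39) (kg xg16 yg37 zg54) (kg xg26 yg45 zg43) (kg xg24 yg52 zg12) (kg xg19 yg55 zg26) (kg xg28 yg55 zg5) (kg xg19 yg57 zg48) (kg xg10 yg59 zg43) (kg xg28 yg55 zg9) (kg xg10 yg59 zg46) (kg xg10 yg48 zg55) (kg xg10 yg48 zg45) (kg xg10 yg48 zg53) (kg xg15 yg2 zg55) (kg xg20 yg5 zg12) (kg xg28 yg7 zg53) (kg xg10 yg54 zg39))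 (@D3.rec (fun _ => Pt) (kg xg24 yg52 zg43) (kg xg28 yg55 zg7) (kg xg28 yg55 zg12) (kg xg10 yg48 zg49) (kg xg28 yg55 zg23) (kg xg28 yg55 zg10) (kg xg19 yg43 zg52) (kg xg10 yg48 zg50) (kg xg17 yg55 zg42) (kg xg24 yg35 zg5) (kg xg22 yg7 zg58) (kg xg19 yg42 zg37) (kg xg26 yg43 zg53) (kg xg28 yg55 zg28) (kg xg19 yg56 zg4) (kg xg28 yg55 zg3) (kg xg16 yg31 zg7) (kg xg16 yg27 zg53) (kg xg12 yg32 zg3) (kg xg11 yg22 zg18) (kg xg17 yg49 zg22) (kg xg18 yg12 zg59) (kg xg18 yg12 zg41) (kg xg20 yg3 zg8) (kg xg21 yg0 zg11) (kg xg28 yg51 zg36) (kg xg10 yg54 zg58) (kg xg20 yg29 zg6) (kg xg10 yg54 zg51) (kg xg10 yg49 zg18) (kg xg25 yg13 zg49) (kg xg25 yg50 zg9) (kg xg28 yg30 zg39) (kg xg10 yg49 zg32) (kg xg10 yg49 zg19) (kg xg19 yg41 zg30) (kg xg28 yg55 zg42) (kg xg26 yg43 zg57) (kg xg10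 yg49 zg20) (kg xg28 yg55 zg49) (kg xg26 yg43 zg55) (kg xg10 yg49 zg21) (kg xg24 yg30 zg35) (kg xg18 yg55 zg48) (kg xg19 yg43 zg30) (kg xg19 yg20 zg61) (kg xg24 yg36 zg23) (kg xg10 yg49 zg52) (kg xg19 yg25 zg51) (kg xg16 yg52 zg45) (kg xg19 yg25 zg46) (kg xg15 yg4 zg45) (kg xg16 yg43 zg28) (kg xg16 yg41 zg32) (kg xg19 yg58 zg34) (kg xg22 yg3 zg53) (kg xg19 yg43 zg22) (kg xg28 yg55 zg58) (kg xg28 yg55 zg55) (kg xg10 yg49 zg30) (kg xg28 yg55 zg59) (kg xg28 yg55 zg53)) (@D3.rec (fun _ => Pt) (kg xg25 yg47 zg28) (kg xg28 yg15 zg44) (kg xg16 yg46 zg34) (kg xg28 yg56 zg4) (kg xg21 yg0 zg10) (kg xg10 yg49 zg33) (kg xg28 yg56 zg11) (kg xg26 yg43 zg46) (kg xg28 yg18 zg6) (kg xg24 yg6 zg11) (kg xg24 yg25 zg37) (kg xg10 yg49 zg37) (kg xg24 yg18 zg22) (kg xg19 yg53 zg35) (kg xg26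 yg52 zg29) (kg xg19 yg43 zg36) (kg xg28 yg14 zg14) (kg xg19 yg51 zg38) (kg xg28 yg14 zg52) (kg xg11 yg19 zg21) (kg xg22 yg3 zg22) (kg xg11 yg41 zg6) (kg xg23 yg0 zg22) (kg xg11 yg22 zg49) (kg xg26 yg45 zg31) (kg xg26 yg53 zg8) (kg xg20 yg46 zg40) (kg xg10 yg55 zg11) (kg xg17 yg53 zg43) (kg xg26 yg43 zg59) (kg xg10 yg49 zg48) (kg xg28 yg53 zg42) (kg xg14 yg26 zg22) (kg xg14 yg18 zg36) (kg xg17 yg0 zg35) (kg xg28 yg56 zg28) (kg xg13 yg45 zg50) (kg xg20 yg7 zg40) (kg xg20 yg52 zg57) (kg xg24 yg4 zg11) (kg xg20 yg57 zg24) (kg xg19 yg13 zg52) (kg xg10 yg49 zg54) (kg xg19 yg14 zg8) (kg xg20 yg57 zg19) (kg xg25 yg4 zg37) (kg xg19 yg36 zg31) (kg xg28 yg56 zg40) (kg xg16 yg42 zg57) (kg xg25 yg4 zg28) (kg xg25 yg26 zg34) (kg xg25 yg26 zg10) (kg xg10 yg49 zg58) (kg xg19 yg34 zg56)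 (kg xg24 yg4 zg22) (kg xg17 yg22 zg8) (kg xg25 yg4 zg36) (kg xg28 yg56 zg44) (kg xg21 yg0 zg29) (kg xg15 yg31 zg61) (kg xg10 yg49 zg61) (kg xg28 yg56 zg47)) (@D3.rec (fun _ => Pt) (kg xg25 yg4 zg16) (kg xg26 yg46 zg41) (kg xg21 yg0 zg24) (kg xg16 yg43 zg19) (kg xg25 yg4 zg5) (kg xg10 yg50 zg3) (kg xg23 yg24 zg18) (kg xg28 yg56 zg56) (kg xg28 yg48 zg28) (kg xg15 yg51 zg9) (kg xg26 yg41 zg49) (kg xg13 yg44 zg30) (kg xg19 yg44 zg24) (kg xg22 yg11 zg34) (kg xg27 yg36 zg14) (kg xg14 yg30 zg20) (kg xg15 yg15 zg14) (kg xg26 yg41 zg39) (kg xg14 yg28 zg1) (kg xg14 yg24 zg20) (kg xg10 yg50 zg10) (kg xg13 yg34 zg5) (kg xg28 yg57 zg8) (kg xg14 yg17 zg56) (kg xg10 yg50 zg11) (kg xg28 yg57 zg17) (kg xg10 yg51 zg35) (kg xg10 yg50 zg12) (kg xg15 yg20 zg12) (kg xg10 yg51 zg33) (kg xg10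 yg51 zg45) (kg xg10 yg50 zg14) (kg xg28 yg57 zg28) (kg xg10 yg51 zg43) (kg xg28 yg57 zg32) (kg xg25 yg15 zg3) (kg xg10 yg50 zg18) (kg xg15 yg37 zg52) (kg xg25 yg26 zg40) (kg xg25 yg44 zg1) (kg xg27 yg6 zg18) (kg xg19 yg26 zg47) (kg xg15 yg35 zg20) (kg xg10 yg50 zg21) (kg xg15 yg35 zg19) (kg xg16 yg7 zg25) (kg xg15 yg35 zg25) (kg xg10 yg50 zg25) (kg xg15 yg35 zg24) (kg xg21 yg58 zg54) (kg xg12 yg50 zg31) (kg xg21 yg27 zg33) (kg xg28 yg57 zg46) (kg xg15 yg39 zg53) (kg xg27 yg42 zg35) (kg xg25 yg45 zg45) (kg xg25 yg45 zg30) (kg xg15 yg34 zg11) (kg xg25 yg29 zg15) (kg xg28 yg57 zg52) (kg xg28 yg57 zg55) (kg xg10 yg50 zg33)) (@D3.rec (fun _ => Pt) (kg xg28 yg57 zg59) (kg xg28 yg57 zg53) (kg xg10 yg50 zg34) (kg xg28 yg57 zg60) (kg xg10 yg51 zg2) (kg xg28 yg58 zg0) (kg xg22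 yg3 zg32) (kg xg10 yg50 zg39) (kg xg15 yg34 zg54) (kg xg17 yg41 zg40) (kg xg11 yg4 zg30) (kg xg25 yg31 zg19) (kg xg16 yg49 zg20) (kg xg23 yg56 zg51) (kg xg24 yg11 zg56) (kg xg17 yg43 zg8) (kg xg10 yg51 zg47) (kg xg15 yg15 zg47) (kg xg28 yg48 zg16) (kg xg26 yg41 zg31) (kg xg10 yg50 zg46) (kg xg22 yg54 zg1) (kg xg28 yg48 zg30) (kg xg10 yg50 zg47) (kg xg28 yg58 zg13) (kg xg25 yg31 zg18) (kg xg15 yg31 zg17) (kg xg25 yg29 zg4) (kg xg18 yg10 zg53) (kg xg28 yg1 zg27) (kg xg19 yg31 zg21) (kg xg19 yg34 zg48) (kg xg27 yg29 zg22) (kg xg28 yg58 zg22) (kg xg28 yg58 zg21) (kg xg10 yg50 zg54) (kg xg28 yg58 zg20) (kg xg28 yg58 zg24) (kg xg21 yg0 zg27) (kg xg19 yg31 zg7) (kg xg25 yg29 zg3) (kg xg25 yg4 zg9) (kg xg16 yg2 zg22) (kg xg10 yg51 zg15) (kg xg28 yg58 zg29) (kg xg26 yg42 zg7)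 (kg xg28 yg44 zg51) (kg xg26 yg38 zg20) (kg xg10 yg51 zg28) (kg xg10 yg51 zg36) (kg xg19 yg44 zg54) (kg xg19 yg45 zg36) (kg xg10 yg51 zg1) (kg xg18 yg48 zg56) (kg xg25 yg4 zg10) (kg xg19 yg15 zg13) (kg xg26 yg41 zg58) (kg xg16 yg50 zg33) (kg xg19 yg56 zg44) (kg xg16 yg26 zg45) (kg xg28 yg58 zg38) (kg xg28 yg58 zg39)) (@D3.rec (fun _ => Pt) (kg xg10 yg51 zg9) (kg xg25 yg10 zg40) (kg xg10 yg51 zg11) (kg xg26 yg41 zg57) (kg xg15 yg0 zg54) (kg xg27 yg41 zg44) (kg xg28 yg58 zg51) (kg xg16 yg48 zg19) (kg xg12 yg55 zg3) (kg xg22 yg20 zg41) (kg xg28 yg58 zg53) (kg xg23 yg47 zg30) (kg xg26 yg42 zg0) (kg xg25 yg8 zg35) (kg xg15 yg21 zg6) (kg xg28 yg58 zg57) (kg xg14 yg52 zg54) (kg xg10 yg51 zg17) (kg xg20 yg28 zg60) (kg xg19 yg57 zg44) (kg xg22 yg59 zg54) (kg xg28 yg59 zg3) (kg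 xg10 yg51 zg27) (kg xg28 yg59 zg6) (kg xg10 yg51 zg25) (kg xg26 yg24 zg6) (kg xg17 yg32 zg5) (kg xg14 yg27 zg56) (kg xg22 yg54 zg24) (kg xg28 yg59 zg10) (kg xg15 yg40 zg52) (kg xg24 yg0 zg39) (kg xg10 yg51 zg22) (kg xg23 yg0 zg58) (kg xg27 yg13 zg9) (kg xg27 yg13 zg8) (kg xg10 yg51 zg23) (kg xg28 yg59 zg4) (kg xg26 yg5 zg5) (kg xg11 yg10 zg15) (kg xg27 yg21 zg32) (kg xg28 yg58 zg54) (kg xg11 yg10 zg19) (kg xg28 yg59 zg8) (kg xg10 yg51 zg26) (kg xg28 yg59 zg7) (kg xg18 yg55 zg47) (kg xg18 yg52 zg56) (kg xg10 yg51 zg29) (kg xg14 yg27 zg53) (kg xg16 yg28 zg58) (kg xg18 yg52 zg53) (kg xg18 yg51 zg28) (kg xg15 yg40 zg55) (kg xg22 yg7 zg3) (kg xg15 yg35 zg53) (kg xg15 yg39 zg40) (kg xg15 yg40 zg49) (kg xg15 yg20 zg14) (kg xg15 yg33 zg29) (kg xg11 yg42 zg48) (kg xg15 yg20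 zg10)) (@D3.rec (fun _ => Pt) (kg xg28 yg59 zg30) (kg xg15 yg20 zg9) (kg xg26 yg5 zg4) (kg xg28 yg59 zg35) (kg xg10 yg51 zg41) (kg xg10 yg51 zg38) (kg xg25 yg11 zg4) (kg xg28 yg59 zg40) (kg xg28 yg59 zg34) (kg xg28 yg59 zg42) (kg xg15 yg38 zg24) (kg xg15 yg20 zg15) (kg xg28 yg59 zg43) (kg xg11 yg2 zg25) (kg xg27 yg44 zg9) (kg xg28 yg57 zg31) (kg xg10 yg51 zg44) (kg xg25 yg19 zg35) (kg xg25 yg27 zg37) (kg xg28 yg57 zg29) (kg xg25 yg43 zg60) (kg xg24 yg11 zg18) (kg xg25 yg31 zg21) (kg xg25 yg33 zg51) (kg xg23 yg56 zg48) (kg xg11 yg9 zg17) (kg xg25 yg49 zg51) (kg xg10 yg51 zg51) (kg xg10 yg51 zg48) (kg xg28 yg59 zg37) (kg xg25 yg9 zg14) (kg xg15 yg15 zg31) (kg xg10 yg51 zg50) (kg xg20 yg5 zg2) (kg xg29 yg0 zg1) (kg xg28 yg59 zg39) (kg xg24 yg37 zg51) (kg xg25 yg55 zg42)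 (kg xg15 yg38 zg14) (kg xg27 yg30 zg22) (kg xg21 yg45 zg38) (kg xg15 yg38 zg16) (kg xg25 yg5 zg54) (kg xg29 yg0 zg8) (kg xg15 yg16 zg13) (kg xg21 yg57 zg12) (kg xg15 yg38 zg25) (kg xg21 yg16 zg33) (kg xg25 yg33 zg47) (kg xg25 yg9 zg41) (kg xg25 yg47 zg11) (kg xg10 yg52 zg0) (kg xg25 yg47 zg10) (kg xg24 yg42 zg43) (kg xg27 yg11 zg33) (kg xg16 yg15 zg1) (kg xg15 yg47 zg8) (kg xg15 yg52 zg1) (kg xg17 yg20 zg15) (kg xg25 yg54 zg59) (kg xg10 yg52 zg6) (kg xg23 yg10 zg37)) (@D3.rec (fun _ => Pt) (kg xg10 yg52 zg37) (kg xg10 yg52 zg47) (kg xg19 yg46 zg32) (kg xg21 yg57 zg34) (kg xg10 yg52 zg9) (kg xg27 yg36 zg27) (kg xg28 yg48 zg34) (kg xg10 yg52 zg10) (kg xg28 yg1 zg35) (kg xg28 yg50 zg35) (kg xg10 yg56 zg60) (kg xg10 yg56 zg58) (kg xg10 yg52 zg13) (kg xg24 yg11 zg54) (kg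 xg16 yg28 zg51) (kg xg28 yg58 zg6) (kg xg10 yg52 zg14) (kg xg25 yg26 zg1) (kg xg10 yg52 zg15) (kg xg26 yg0 zg7) (kg xg10 yg52 zg16) (kg xg16 yg33 zg41) (kg xg20 yg19 zg20) (kg xg21 yg36 zg34) (kg xg19 yg57 zg40) (kg xg19 yg15 zg7) (kg xg10 yg59 zg33) (kg xg29 yg0 zg30) (kg xg10 yg59 zg35) (kg xg10 yg52 zg23) (kg xg15 yg3 zg50) (kg xg24 yg36 zg21) (kg xg19 yg19 zg42) (kg xg28 yg58 zg25) (kg xg29 yg0 zg34) (kg xg26 yg42 zg31) (kg xg10 yg52 zg26) (kg xg20 yg17 zg53) (kg xg26 yg42 zg29) (kg xg28 yg43 zg12) (kg xg19 yg53 zg1) (kg xg16 yg30 zg55) (kg xg10 yg52 zg28) (kg xg21 yg32 zg43) (kg xg20 yg9 zg12) (kg xg10 yg52 zg30) (kg xg11 yg55 zg44) (kg xg17 yg3 zg37) (kg xg16 yg26 zg54) (kg xg10 yg58 zg51) (kg xg17 yg58 zg58) (kg xg19 yg53 zg48) (kg xg10 yg52 zg35) (kg xg10 yg52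 zg55) (kg xg17 yg56 zg29) (kg xg11 yg26 zg21) (kg xg29 yg0 zg39) (kg xg11 yg44 zg25) (kg xg17 yg53 zg46) (kg xg12 yg30 zg60) (kg xg22 yg17 zg19) (kg xg22 yg59 zg48)) (@D3.rec (fun _ => Pt) (kg xg21 yg38 zg12) (kg xg15 yg8 zg0) (kg xg23 yg0 zg60) (kg xg29 yg0 zg42) (kg xg19 yg49 zg61) (kg xg22 yg11 zg56) (kg xg26 yg2 zg41) (kg xg16 yg5 zg47) (kg xg29 yg0 zg44) (kg xg25 yg41 zg25) (kg xg10 yg52 zg52) (kg xg10 yg52 zg53) (kg xg10 yg52 zg49) (kg xg29 yg0 zg46) (kg xg19 yg32 zg32) (kg xg25 yg15 zg11) (kg xg11 yg9 zg15) (kg xg19 yg53 zg22) (kg xg16 yg58 zg47) (kg xg21 yg57 zg39) (kg xg22 yg6 zg22) (kg xg11 yg2 zg28) (kg xg11 yg43 zg1) (kg xg10 yg52 zg56) (kg xg24 yg2 zg29) (kg xg20 yg29 zg4) (kg xg24 yg52 zg15) (kg xg10 yg53 zg1) (kg xg20 yg5 zg22) (kg xg10 yg53 zg2) (kg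 xg25 yg20 zg42) (kg xg13 yg10 zg41) (kg xg17 yg50 zg27) (kg xg19 yg52 zg50) (kg xg18 yg41 zg58) (kg xg25 yg42 zg11) (kg xg10 yg53 zg7) (kg xg20 yg46 zg5) (kg xg20 yg38 zg19) (kg xg11 yg10 zg16) (kg xg20 yg46 zg23) (kg xg26 yg39 zg9) (kg xg10 yg53 zg13) (kg xg19 yg40 zg44) (kg xg10 yg53 zg14) (kg xg22 yg4 zg2) (kg xg16 yg38 zg61) (kg xg10 yg53 zg17) (kg xg29 yg1 zg0) (kg xg17 yg22 zg9) (kg xg17 yg21 zg37) (kg xg25 yg46 zg56) (kg xg25 yg5 zg17) (kg xg24 yg27 zg32) (kg xg25 yg47 zg49) (kg xg25 yg5 zg6) (kg xg19 yg28 zg32) (kg xg14 yg15 zg15) (kg xg24 yg8 zg11) (kg xg10 yg53 zg28) (kg xg23 yg56 zg13) (kg xg10 yg53 zg29)) (@D3.rec (fun _ => Pt) (kg xg23 yg49 zg59) (kg xg14 yg24 zg36) (kg xg10 yg53 zg30) (kg xg25 yg47 zg56) (kg xg19 yg5 zg14) (kg xg17 yg21 zg23) (kg xg28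 yg14 zg27) (kg xg10 yg54 zg26) (kg xg10 yg54 zg16) (kg xg18 yg44 zg3) (kg xg12 yg50 zg32) (kg xg10 yg53 zg47) (kg xg19 yg29 zg52) (kg xg16 yg40 zg31) (kg xg10 yg53 zg58) (kg xg10 yg54 zg4) (kg xg27 yg19 zg1) (kg xg19 yg16 zg23) (kg xg10 yg53 zg42) (kg xg16 yg45 zg19) (kg xg19 yg4 zg21) (kg xg10 yg53 zg43) (kg xg29 yg1 zg18) (kg xg10 yg53 zg44) (kg xg25 yg47 zg58) (kg xg29 yg1 zg21) (kg xg21 yg0 zg50) (kg xg27 yg10 zg47) (kg xg26 yg44 zg59) (kg xg25 yg46 zg55) (kg xg19 yg34 zg2) (kg xg10 yg53 zg57) (kg xg10 yg53 zg49) (kg xg10 yg53 zg55) (kg xg25 yg47 zg59) (kg xg23 yg53 zg45) (kg xg29 yg1 zg29) (kg xg29 yg1 zg23) (kg xg22 yg57 zg46) (kg xg29 yg1 zg36) (kg xg26 yg44 zg61) (kg xg10 yg53 zg52) (kg xg28 yg53 zg39) (kg xg23 yg19 zg38) (kg xg29 yg1 zg45) (kg xg29 yg1 zg24)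 (kg xg20 yg53 zg4) (kg xg11 yg6 zg51) (kg xg10 yg53 zg56) (kg xg19 yg29 zg55) (kg xg29 yg1 zg11) (kg xg19 yg9 zg57) (kg xg19 yg30 zg23) (kg xg10 yg53 zg59) (kg xg29 yg1 zg59) (kg xg19 yg30 zg21) (kg xg19 yg10 zg22) (kg xg25 yg50 zg21) (kg xg26 yg31 zg43) (kg xg19 yg30 zg3) (kg xg29 yg2 zg6) (kg xg19 yg30 zg1)) (@D3.rec (fun _ => Pt) (kg xg19 yg10 zg3) (kg xg19 yg21 zg60) (kg xg28 yg48 zg38) (kg xg10 yg54 zg5) (kg xg10 yg54 zg7) (kg xg25 yg47 zg47) (kg xg29 yg2 zg13) (kg xg21 yg0 zg0) (kg xg11 yg2 zg16) (kg xg25 yg58 zg22) (kg xg18 yg28 zg50) (kg xg13 yg46 zg1) (kg xg28 yg31 zg29) (kg xg24 yg34 zg60) (kg xg28 yg30 zg18) (kg xg15 yg51 zg41) (kg xg28 yg14 zg19) (kg xg15 yg1 zg34) (kg xg28 yg8 zg17) (kg xg18 yg34 zg45) (kg xg19 yg11 zg10) (kg xg10 yg54 zg23) (kg xg26 yg42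 zg42) (kg xg28 yg45 zg59) (kg xg27 yg12 zg0) (kg xg26 yg43 zg0) (kg xg25 yg52 zg21) (kg xg24 yg46 zg9) (kg xg27 yg36 zg8) (kg xg10 yg54 zg28) (kg xg27 yg50 zg50) (kg xg10 yg54 zg30) (kg xg20 yg4 zg34) (kg xg19 yg39 zg2) (kg xg19 yg48 zg29) (kg xg29 yg2 zg33) (kg xg26 yg0 zg33) (kg xg10 yg55 zg28) (kg xg10 yg55 zg33) (kg xg15 yg1 zg8) (kg xg15 yg2 zg57) (kg xg19 yg52 zg39) (kg xg19 yg32 zg52) (kg xg22 yg7 zg33) (kg xg26 yg5 zg39) (kg xg29 yg2 zg38) (kg xg25 yg21 zg51) (kg xg10 yg54 zg40) (kg xg29 yg2 zg45) (kg xg21 yg0 zg56) (kg xg25 yg23 zg32) (kg xg20 yg54 zg35) (kg xg19 yg48 zg6) (kg xg29 yg2 zg32) (kg xg11 yg28 zg46) (kg xg10 yg54 zg43) (kg xg21 yg0 zg34) (kg xg18 yg17 zg11) (kg xg16 yg44 zg49) (kg xg10 yg55 zg16) (kg xg21 yg0 zg58) (kg xg10 yg54 zg52)) (@D3.rec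 (fun _ => Pt) (kg xg10 yg55 zg19) (kg xg15 yg19 zg17) (kg xg19 yg32 zg12) (kg xg22 yg22 zg48) (kg xg20 yg20 zg9) (kg xg26 yg49 zg7) (kg xg26 yg44 zg4) (kg xg21 yg0 zg57) (kg xg10 yg55 zg15) (kg xg10 yg54 zg60) (kg xg10 yg55 zg14) (kg xg26 yg40 zg0) (kg xg21 yg15 zg33) (kg xg19 yg50 zg15) (kg xg21 yg57 zg38) (kg xg17 yg53 zg30) (kg xg10 yg55 zg4) (kg xg28 yg51 zg1) (kg xg21 yg15 zg53) (kg xg21 yg15 zg61) (kg xg16 yg57 zg33) (kg xg16 yg57 zg32) (kg xg15 yg3 zg27) (kg xg16 yg48 zg2) (kg xg21 yg54 zg34) (kg xg29 yg3 zg3) (kg xg26 yg52 zg56) (kg xg18 yg48 zg46) (kg xg19 yg33 zg45) (kg xg20 yg25 zg17) (kg xg17 yg53 zg21) (kg xg29 yg3 zg5) (kg xg11 yg0 zg27) (kg xg19 yg34 zg15) (kg xg29 yg3 zg2) (kg xg20 yg21 zg55) (kg xg16 yg45 zg10) (kg xg28 yg28 zg2) (kg xg19 yg51 zg33)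 (kg xg26 yg45 zg36) (kg xg21 yg0 zg55) (kg xg11 yg55 zg3) (kg xg26 yg39 zg60) (kg xg11 yg11 zg15) (kg xg10 yg55 zg18) (kg xg10 yg55 zg17) (kg xg15 yg3 zg28) (kg xg27 yg43 zg54) (kg xg26 yg33 zg31) (kg xg29 yg3 zg14) (kg xg22 yg8 zg1) (kg xg11 yg6 zg47) (kg xg19 yg33 zg7) (kg xg19 yg32 zg54) (kg xg23 yg24 zg40) (kg xg10 yg57 zg8) (kg xg11 yg11 zg12) (kg xg20 yg24 zg42) (kg xg26 yg45 zg45) (kg xg22 yg8 zg0) (kg xg19 yg50 zg30) (kg xg11 yg13 zg51)) (@D3.rec (fun _ => Pt) (kg xg11 yg9 zg48) (kg xg19 yg31 zg43) (kg xg19 yg31 zg37) (kg xg28 yg50 zg32) (kg xg29 yg3 zg21) (kg xg18 yg22 zg1) (kg xg15 yg21 zg37) (kg xg17 yg8 zg46) (kg xg11 yg0 zg7) (kg xg20 yg29 zg23) (kg xg17 yg1 zg43) (kg xg26 yg15 zg6) (kg xg24 yg46 zg4) (kg xg21 yg8 zg8) (kg xg19 yg18 zg6) (kg xg24 yg49 zg16)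 (kg xg27 yg22 zg58) (kg xg18 yg33 zg50) (kg xg18 yg33 zg37) (kg xg18 yg50 zg53) (kg xg15 yg54 zg21) (kg xg27 yg37 zg34) (kg xg18 yg44 zg4) (kg xg25 yg5 zg58) (kg xg19 yg35 zg16) (kg xg29 yg3 zg27) (kg xg25 yg4 zg19) (kg xg10 yg55 zg58) (kg xg28 yg14 zg5) (kg xg29 yg3 zg30) (kg xg27 yg42 zg30) (kg xg10 yg55 zg59) (kg xg23 yg28 zg35) (kg xg24 yg16 zg27) (kg xg10 yg56 zg32) (kg xg10 yg55 zg60) (kg xg27 yg17 zg42) (kg xg10 yg56 zg30) (kg xg24 yg32 zg61) (kg xg17 yg27 zg46) (kg xg24 yg16 zg44) (kg xg15 yg31 zg14) (kg xg10 yg56 zg44) (kg xg10 yg56 zg1) (kg xg29 yg3 zg46) (kg xg10 yg56 zg42) (kg xg28 yg56 zg42) (kg xg17 yg28 zg18) (kg xg25 yg5 zg15) (kg xg18 yg52 zg27) (kg xg29 yg3 zg53) (kg xg19 yg36 zg50) (kg xg26 yg38 zg41) (kg xg16 yg40 zg33) (kg xg10 yg56 zg26) (kg xg25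 yg4 zg17) (kg xg19 yg18 zg40) (kg xg29 yg3 zg40) (kg xg25 yg12 zg18) (kg xg16 yg28 zg0) (kg xg28 yg20 zg46) (kg xg19 yg45 zg1)) (@D3.rec (fun _ => Pt) (kg xg10 yg56 zg11) (kg xg19 yg45 zg0) (kg xg16 yg45 zg25) (kg xg10 yg56 zg12) (kg xg29 yg4 zg2) (kg xg10 yg56 zg13) (kg xg26 yg44 zg20) (kg xg15 yg0 zg60) (kg xg24 yg15 zg43) (kg xg10 yg56 zg15) (kg xg14 yg33 zg32) (kg xg13 yg36 zg30) (kg xg23 yg1 zg37) (kg xg10 yg56 zg25) (kg xg10 yg56 zg17) (kg xg23 yg28 zg36) (kg xg26 yg24 zg1) (kg xg13 yg8 zg29) (kg xg25 yg12 zg24) (kg xg24 yg39 zg32) (kg xg21 yg5 zg1) (kg xg13 yg8 zg43) (kg xg10 yg56 zg20) (kg xg23 yg1 zg14) (kg xg10 yg56 zg21) (kg xg29 yg4 zg21) (kg xg29 yg4 zg24) (kg xg29 yg4 zg29) (kg xg20 yg4 zg56) (kg xg24 yg15 zg4) (kg xg20 yg28 zg40) (kg xg11 yg32 zg15) (kg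 xg27 yg42 zg31) (kg xg10 yg56 zg24) (kg xg13 yg58 zg9) (kg xg20 yg49 zg46) (kg xg19 yg36 zg52) (kg xg27 yg8 zg49) (kg xg17 yg57 zg4) (kg xg22 yg16 zg35) (kg xg29 yg4 zg41) (kg xg15 yg38 zg12) (kg xg25 yg36 zg23) (kg xg12 yg59 zg17) (kg xg26 yg17 zg53) (kg xg15 yg33 zg51) (kg xg25 yg28 zg41) (kg xg15 yg40 zg4) (kg xg29 yg3 zg39) (kg xg10 yg56 zg31) (kg xg17 yg14 zg48) (kg xg28 yg59 zg27) (kg xg22 yg2 zg23) (kg xg23 yg41 zg45) (kg xg29 yg4 zg56) (kg xg29 yg4 zg59) (kg xg17 yg43 zg21) (kg xg17 yg27 zg52) (kg xg25 yg30 zg21) (kg xg10 yg56 zg37) (kg xg26 yg44 zg19) (kg xg29 yg5 zg1)) (@D3.rec (fun _ => Pt) (kg xg24 yg33 zg43) (kg xg20 yg59 zg14) (kg xg25 yg30 zg46) (kg xg23 yg41 zg44) (kg xg23 yg27 zg38) (kg xg29 yg3 zg59) (kg xg28 yg19 zg25) (kg xg16 yg0 zg35) (kg xg28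 yg47 zg58) (kg xg10 yg56 zg43) (kg xg29 yg5 zg15) (kg xg26 yg45 zg23) (kg xg29 yg3 zg47) (kg xg29 yg5 zg6) (kg xg24 yg39 zg60) (kg xg25 yg5 zg3) (kg xg25 yg5 zg23) (kg xg25 yg5 zg25) (kg xg29 yg5 zg22) (kg xg20 yg3 zg27) (kg xg10 yg56 zg50) (kg xg10 yg56 zg47) (kg xg21 yg17 zg40) (kg xg29 yg5 zg26) (kg xg10 yg56 zg48) (kg xg24 yg50 zg5) (kg xg10 yg56 zg49) (kg xg18 yg51 zg13) (kg xg29 yg5 zg31) (kg xg25 yg26 zg21) (kg xg20 yg59 zg18) (kg xg16 yg0 zg32) (kg xg10 yg57 zg6) (kg xg10 yg57 zg16) (kg xg25 yg25 zg16) (kg xg16 yg43 zg50) (kg xg11 yg47 zg57) (kg xg16 yg43 zg41) (kg xg10 yg57 zg17) (kg xg10 yg56 zg57) (kg xg25 yg25 zg0) (kg xg21 yg0 zg33) (kg xg10 yg56 zg61) (kg xg29 yg5 zg38) (kg xg21 yg0 zg39) (kg xg10 yg57 zg1) (kg xg26 yg49 zg43) (kg xg20 yg42 zg28) (kg xg15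 yg3 zg36) (kg xg16 yg48 zg23) (kg xg19 yg39 zg4) (kg xg20 yg24 zg29) (kg xg10 yg57 zg10) (kg xg10 yg57 zg7) (kg xg21 yg53 zg31) (kg xg26 yg46 zg32) (kg xg20 yg13 zg56) (kg xg12 yg29 zg58) (kg xg27 yg20 zg21) (kg xg24 yg21 zg60) (kg xg20 yg25 zg51) (kg xg26 yg22 zg36)) (@D3.rec (fun _ => Pt) (kg xg19 yg39 zg48) (kg xg24 yg56 zg54) (kg xg20 yg25 zg27) (kg xg17 yg59 zg53) (kg xg16 yg57 zg30) (kg xg26 yg26 zg46) (kg xg11 yg39 zg61) (kg xg25 yg38 zg17) (kg xg10 yg57 zg21) (kg xg25 yg10 zg54) (kg xg29 yg5 zg45) (kg xg20 yg3 zg21) (kg xg12 yg55 zg32) (kg xg21 yg11 zg10) (kg xg29 yg5 zg46) (kg xg11 yg20 zg30) (kg xg19 yg57 zg45) (kg xg15 yg2 zg54) (kg xg10 yg57 zg26) (kg xg28 yg37 zg49) (kg xg11 yg1 zg30) (kg xg10 yg57 zg29) (kg xg28 yg39 zg20) (kg xg22 yg26 zg23) (kg xg28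 yg39 zg52) (kg xg10 yg58 zg7) (kg xg20 yg28 zg25) (kg xg15 yg5 zg26) (kg xg25 yg11 zg58) (kg xg12 yg54 zg30) (kg xg16 yg50 zg57) (kg xg10 yg58 zg20) (kg xg19 yg27 zg61) (kg xg21 yg6 zg45) (kg xg23 yg58 zg60) (kg xg10 yg57 zg45) (kg xg10 yg57 zg38) (kg xg20 yg6 zg30) (kg xg26 yg3 zg21) (kg xg17 yg33 zg45) (kg xg10 yg57 zg39) (kg xg29 yg5 zg60) (kg xg10 yg57 zg40) (kg xg29 yg6 zg0) (kg xg27 yg56 zg1) (kg xg21 yg1 zg12) (kg xg10 yg58 zg23) (kg xg20 yg46 zg15) (kg xg13 yg2 zg46) (kg xg11 yg3 zg48) (kg xg24 yg30 zg59) (kg xg29 yg6 zg8) (kg xg19 yg54 zg13) (kg xg23 yg1 zg16) (kg xg19 yg59 zg8) (kg xg29 yg6 zg10) (kg xg10 yg58 zg6) (kg xg10 yg57 zg50) (kg xg25 yg32 zg56) (kg xg10 yg58 zg4) (kg xg11 yg12 zg29) (kg xg16 yg25 zg33)) (@D3.rec (fun _ => Pt) (kg xg12 yg38 zg34)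 (kg xg10 yg57 zg52) (kg xg15 yg42 zg42) (kg xg17 yg8 zg40) (kg xg10 yg57 zg54) (kg xg29 yg3 zg6) (kg xg29 yg6 zg14) (kg xg28 yg24 zg38) (kg xg29 yg6 zg16) (kg xg24 yg47 zg14) (kg xg10 yg57 zg59) (kg xg24 yg57 zg39) (kg xg29 yg6 zg20) (kg xg14 yg43 zg38) (kg xg16 yg10 zg36) (kg xg23 yg31 zg61) (kg xg16 yg25 zg49) (kg xg16 yg10 zg45) (kg xg28 yg11 zg1) (kg xg20 yg1 zg25) (kg xg10 yg58 zg1) (kg xg14 yg10 zg51) (kg xg20 yg30 zg54) (kg xg25 yg46 zg26) (kg xg23 yg31 zg19) (kg xg10 yg58 zg2) (kg xg29 yg6 zg28) (kg xg29 yg6 zg11) (kg xg14 yg22 zg1) (kg xg29 yg6 zg30) (kg xg23 yg24 zg30) (kg xg19 yg42 zg34) (kg xg27 yg26 zg30) (kg xg28 yg9 zg19) (kg xg25 yg28 zg17) (kg xg25 yg32 zg53) (kg xg12 yg10 zg17) (kg xg10 yg58 zg10) (kg xg26 yg4 zg3) (kg xg20 yg19 zg25) (kg xg20 yg15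 zg60) (kg xg27 yg0 zg49) (kg xg12 yg28 zg58) (kg xg12 yg4 zg7) (kg xg21 yg4 zg8) (kg xg10 yg58 zg14) (kg xg12 yg47 zg8) (kg xg12 yg47 zg7) (kg xg20 yg59 zg49) (kg xg29 yg6 zg37) (kg xg24 yg22 zg37) (kg xg26 yg2 zg44) (kg xg12 yg10 zg48) (kg xg26 yg59 zg47) (kg xg10 yg58 zg26) (kg xg16 yg55 zg11) (kg xg19 yg32 zg13) (kg xg27 yg3 zg38) (kg xg17 yg53 zg20) (kg xg28 yg47 zg50) (kg xg20 yg50 zg57) (kg xg20 yg32 zg60)) (@D3.rec (fun _ => Pt) (kg xg10 yg59 zg14) (kg xg16 yg56 zg52) (kg xg10 yg59 zg36) (kg xg28 yg45 zg44) (kg xg12 yg6 zg61) (kg xg17 yg24 zg53) (kg xg10 yg59 zg37) (kg xg26 yg32 zg51) (kg xg19 yg49 zg14) (kg xg16 yg8 zg10) (kg xg20 yg14 zg14) (kg xg10 yg59 zg23) (kg xg10 yg58 zg49) (kg xg15 yg15 zg41) (kg xg15 yg54 zg44) (kg xg29 yg6 zg48) (kg xg23 yg25 zg50)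 (kg xg11 yg27 zg6) (kg xg10 yg59 zg45) (kg xg11 yg1 zg23) (kg xg24 yg58 zg40) (kg xg19 yg58 zg30) (kg xg25 yg23 zg45) (kg xg15 yg3 zg42) (kg xg23 yg38 zg0) (kg xg17 yg32 zg43) (kg xg16 yg5 zg56) (kg xg25 yg48 zg54) (kg xg12 yg50 zg9) (kg xg10 yg58 zg60) (kg xg12 yg50 zg28) (kg xg23 yg33 zg21) (kg xg10 yg59 zg7) (kg xg20 yg43 zg41) (kg xg10 yg59 zg11) (kg xg10 yg59 zg2) (kg xg29 yg6 zg57) (kg xg16 yg35 zg15) (kg xg23 yg31 zg39) (kg xg17 yg53 zg34) (kg xg24 yg58 zg31) (kg xg15 yg21 zg30) (kg xg28 yg42 zg37) (kg xg25 yg13 zg33) (kg xg25 yg12 zg42) (kg xg29 yg7 zg0) (kg xg29 yg6 zg55) (kg xg29 yg6 zg59) (kg xg21 yg1 zg52) (kg xg16 yg59 zg21) (kg xg20 yg43 zg19) (kg xg10 yg59 zg10) (kg xg29 yg6 zg58) (kg xg10 yg59 zg16) (kg xg20 yg7 zg14) (kg xg14 yg8 zg30) (kg xg20 yg4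 zg48) (kg xg10 yg59 zg48) (kg xg15 yg3 zg40) (kg xg21 yg38 zg15) (kg xg15 yg6 zg21) (kg xg15 yg13 zg31)) (@D3.rec (fun _ => Pt) (kg xg16 yg33 zg20) (kg xg19 yg48 zg21) (kg xg19 yg54 zg17) (kg xg10 yg59 zg20) (kg xg23 yg31 zg49) (kg xg11 yg44 zg29) (kg xg10 yg59 zg21) (kg xg23 yg7 zg28) (kg xg26 yg37 zg32) (kg xg10 yg59 zg26) (kg xg29 yg7 zg11) (kg xg27 yg21 zg47) (kg xg10 yg59 zg53) (kg xg15 yg3 zg39) (kg xg27 yg40 zg25) (kg xg19 yg43 zg12) (kg xg25 yg40 zg47) (kg xg19 yg11 zg40) (kg xg28 yg15 zg22) (kg xg11 yg0 zg9) (kg xg10 yg59 zg34) (kg xg22 yg39 zg7) (kg xg11 yg0 zg18) (kg xg19 yg58 zg28) (kg xg11 yg26 zg53) (kg xg11 yg1 zg17) (kg xg20 yg4 zg37) (kg xg10 yg59 zg50) (kg xg16 yg4 zg47) (kg xg23 yg2 zg48) (kg xg10 yg59 zg44) (kg xg18 yg44 zg21) (kg xg16 yg46 zg21)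 (kg xg15 yg3 zg32) (kg xg27 yg21 zg11) (kg xg19 yg43 zg57) (kg xg10 yg59 zg47) (kg xg21 yg38 zg16) (kg xg24 yg49 zg47) (kg xg15 yg3 zg31) (kg xg20 yg8 zg31) (kg xg10 yg59 zg51) (kg xg19 yg43 zg61) (kg xg26 yg45 zg47) (kg xg22 yg15 zg20) (kg xg19 yg21 zg32) (kg xg25 yg18 zg31) (kg xg19 yg21 zg29) (kg xg28 yg46 zg29) (kg xg28 yg38 zg45) (kg xg28 yg7 zg49) (kg xg28 yg43 zg13) (kg xg10 yg59 zg61) (kg xg20 yg52 zg34) (kg xg28 yg43 zg9) (kg xg14 yg38 zg17) (kg xg13 yg26 zg35) (kg xg19 yg21 zg10) (kg xg29 yg7 zg31) (kg xg19 yg20 zg45) (kg xg28 yg15 zg16) (kg xg29 yg7 zg35)) (@D3.rec (fun _ => Pt) (kg xg18 yg4 zg18) (kg xg18 yg54 zg10) (kg xg11 yg0 zg4) (kg xg28 yg15 zg25) (kg xg20 yg31 zg34) (kg xg14 yg32 zg40) (kg xg29 yg3 zg24) (kg xg22 yg32 zg20) (kg xg11 yg0 zg8) (kg xg20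 yg6 zg17) (kg xg29 yg7 zg16) (kg xg11 yg0 zg44) (kg xg21 yg30 zg38) (kg xg16 yg55 zg16) (kg xg11 yg50 zg18) (kg xg12 yg10 zg12) (kg xg12 yg9 zg56) (kg xg29 yg7 zg44) (kg xg16 yg56 zg36) (kg xg27 yg8 zg40) (kg xg16 yg56 zg34) (kg xg11 yg0 zg46) (kg xg24 yg53 zg1) (kg xg19 yg52 zg38) (kg xg23 yg3 zg42) (kg xg16 yg51 zg39) (kg xg16 yg47 zg5) (kg xg11 yg0 zg28) (kg xg11 yg0 zg35) (kg xg11 yg0 zg29) (kg xg29 yg7 zg50) (kg xg23 yg59 zg53) (kg xg19 yg30 zg30) (kg xg19 yg41 zg42) (kg xg29 yg7 zg49) (kg xg11 yg0 zg31) (kg xg28 yg48 zg11) (kg xg16 yg47 zg8) (kg xg19 yg34 zg22) (kg xg17 yg1 zg31) (kg xg28 yg26 zg19) (kg xg28 yg44 zg7) (kg xg24 yg53 zg0) (kg xg28 yg45 zg35) (kg xg17 yg58 zg31) (kg xg28 yg50 zg17) (kg xg11 yg0 zg47) (kg xg11 yg48 zg33) (kg xg11 yg0 zg49) (kg xg19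 yg17 zg23) (kg xg27 yg5 zg60) (kg xg29 yg8 zg3) (kg xg11 yg0 zg54) (kg xg20 yg25 zg24) (kg xg11 yg1 zg14) (kg xg20 yg25 zg14) (kg xg20 yg50 zg49) (kg xg20 yg25 zg12) (kg xg19 yg25 zg22) (kg xg11 yg1 zg18) (kg xg15 yg44 zg51) (kg xg11 yg1 zg3)) (@D3.rec (fun _ => Pt) (kg xg11 yg1 zg0) (kg xg14 yg16 zg10) (kg xg27 yg10 zg50) (kg xg29 yg8 zg18) (kg xg26 yg51 zg19) (kg xg11 yg1 zg4) (kg xg11 yg34 zg22) (kg xg29 yg7 zg40) (kg xg11 yg1 zg8) (kg xg29 yg8 zg22) (kg xg19 yg3 zg30) (kg xg19 yg50 zg52) (kg xg19 yg4 zg44) (kg xg27 yg10 zg44) (kg xg29 yg8 zg6) (kg xg11 yg1 zg12) (kg xg29 yg8 zg33) (kg xg29 yg8 zg4) (kg xg29 yg8 zg37) (kg xg29 yg8 zg41) (kg xg26 yg44 zg5) (kg xg26 yg52 zg43) (kg xg21 yg16 zg11) (kg xg26 yg49 zg60) (kg xg29 yg8 zg10) (kg xg11 yg1 zg15) (kg xg28 yg33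 zg12) (kg xg29 yg8 zg9) (kg xg17 yg31 zg31) (kg xg20 yg24 zg8) (kg xg26 yg52 zg52) (kg xg11 yg1 zg21) (kg xg22 yg40 zg50) (kg xg23 yg52 zg56) (kg xg19 yg34 zg18) (kg xg11 yg1 zg20) (kg xg20 yg50 zg53) (kg xg20 yg42 zg41) (kg xg19 yg49 zg4) (kg xg15 yg29 zg21) (kg xg18 yg22 zg30) (kg xg21 yg36 zg51) (kg xg18 yg42 zg8) (kg xg21 yg31 zg45) (kg xg19 yg27 zg45) (kg xg16 yg46 zg59) (kg xg12 yg9 zg31) (kg xg28 yg30 zg40) (kg xg28 yg50 zg6) (kg xg18 yg21 zg34) (kg xg15 yg45 zg32) (kg xg29 yg9 zg2) (kg xg21 yg3 zg31) (kg xg25 yg16 zg50) (kg xg11 yg1 zg49) (kg xg11 yg12 zg30) (kg xg27 yg9 zg41) (kg xg20 yg45 zg6) (kg xg14 yg45 zg36) (kg xg24 yg56 zg46) (kg xg11 yg1 zg41) (kg xg25 yg14 zg41)) (@D3.rec (fun _ => Pt) (kg xg23 yg23 zg8) (kg xg19 yg39 zg22) (kg xg23 yg38 zg5) (kg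 xg20 yg34 zg38) (kg xg17 yg7 zg29) (kg xg17 yg7 zg18) (kg xg19 yg57 zg29) (kg xg19 yg48 zg39) (kg xg20 yg1 zg39) (kg xg21 yg32 zg37) (kg xg20 yg25 zg3) (kg xg11 yg17 zg49) (kg xg11 yg1 zg58) (kg xg17 yg59 zg54) (kg xg11 yg17 zg47) (kg xg23 yg37 zg37) (kg xg25 yg37 zg45) (kg xg29 yg6 zg12) (kg xg18 yg21 zg13) (kg xg20 yg26 zg0) (kg xg16 yg50 zg59) (kg xg15 yg46 zg38) (kg xg19 yg40 zg13) (kg xg19 yg50 zg8) (kg xg21 yg22 zg9) (kg xg12 yg38 zg44) (kg xg20 yg52 zg55) (kg xg20 yg53 zg6) (kg xg11 yg2 zg15) (kg xg24 yg26 zg40) (kg xg29 yg9 zg23) (kg xg16 yg44 zg19) (kg xg19 yg28 zg61) (kg xg19 yg29 zg7) (kg xg20 yg52 zg56) (kg xg16 yg44 zg51) (kg xg19 yg31 zg58) (kg xg19 yg24 zg28) (kg xg28 yg59 zg22) (kg xg25 yg5 zg59) (kg xg11 yg2 zg24) (kg xg29 yg9 zg29) (kg xg19 yg38 zg3)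 (kg xg19 yg36 zg39) (kg xg25 yg5 zg60) (kg xg11 yg2 zg27) (kg xg20 yg17 zg56) (kg xg16 yg45 zg26) (kg xg19 yg24 zg60) (kg xg25 yg47 zg40) (kg xg15 yg35 zg4) (kg xg16 yg12 zg61) (kg xg16 yg12 zg60) (kg xg29 yg6 zg17) (kg xg26 yg9 zg44) (kg xg19 yg54 zg29) (kg xg27 yg39 zg13) (kg xg15 yg53 zg45) (kg xg16 yg49 zg59) (kg xg24 yg52 zg29) (kg xg16 yg49 zg55) (kg xg11 yg2 zg38)) (@D3.rec (fun _ => Pt) (kg xg19 yg56 zg56) (kg xg24 yg52 zg33) (kg xg21 yg23 zg33) (kg xg29 yg9 zg40) (kg xg16 yg11 zg45) (kg xg11 yg2 zg41) (kg xg24 yg37 zg19) (kg xg14 yg37 zg43) (kg xg24 yg52 zg27) (kg xg14 yg37 zg42) (kg xg19 yg47 zg52) (kg xg29 yg9 zg46) (kg xg24 yg32 zg2) (kg xg13 yg59 zg15) (kg xg16 yg11 zg17) (kg xg13 yg59 zg38) (kg xg11 yg2 zg48) (kg xg19 yg50 zg3) (kg xg11 yg4 zg0) (kg xg11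 yg2 zg49) (kg xg19 yg54 zg9) (kg xg11 yg4 zg9) (kg xg11 yg2 zg51) (kg xg26 yg58 zg30) (kg xg14 yg37 zg26) (kg xg17 yg44 zg55) (kg xg11 yg54 zg58) (kg xg26 yg48 zg22) (kg xg16 yg8 zg23) (kg xg19 yg53 zg58) (kg xg29 yg9 zg56) (kg xg29 yg9 zg60) (kg xg29 yg9 zg59) (kg xg11 yg3 zg1) (kg xg29 yg10 zg6) (kg xg29 yg9 zg57) (kg xg26 yg47 zg31) (kg xg11 yg3 zg2) (kg xg29 yg10 zg13) (kg xg26 yg47 zg29) (kg xg29 yg10 zg17) (kg xg26 yg6 zg41) (kg xg26 yg48 zg29) (kg xg26 yg6 zg44) (kg xg26 yg8 zg6) (kg xg29 yg10 zg28) (kg xg16 yg10 zg0) (kg xg27 yg43 zg21) (kg xg26 yg6 zg35) (kg xg11 yg4 zg5) (kg xg26 yg6 zg37) (kg xg16 yg37 zg36) (kg xg11 yg3 zg11) (kg xg16 yg37 zg35) (kg xg29 yg10 zg36) (kg xg11 yg3 zg12) (kg xg29 yg10 zg42) (kg xg11 yg53 zg8) (kg xg19 yg14 zg33) (kg xg25 yg8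 zg47) (kg xg23 yg34 zg38) (kg xg19 yg14 zg51)) (@D3.rec (fun _ => Pt) (kg xg18 yg3 zg8) (kg xg27 yg57 zg0) (kg xg26 yg47 zg20) (kg xg11 yg3 zg18) (kg xg29 yg10 zg48) (kg xg29 yg10 zg50) (kg xg29 yg10 zg46) (kg xg11 yg3 zg19) (kg xg29 yg10 zg57) (kg xg29 yg10 zg44) (kg xg26 yg47 zg13) (kg xg11 yg3 zg20) (kg xg29 yg11 zg2) (kg xg22 yg45 zg49) (kg xg18 yg40 zg23) (kg xg18 yg40 zg21) (kg xg11 yg3 zg22) (kg xg29 yg10 zg25) (kg xg26 yg47 zg15) (kg xg25 yg14 zg39) (kg xg21 yg2 zg27) (kg xg11 yg3 zg44) (kg xg29 yg11 zg10) (kg xg23 yg43 zg46) (kg xg19 yg5 zg59) (kg xg25 yg9 zg16) (kg xg24 yg49 zg33) (kg xg24 yg52 zg4) (kg xg26 yg1 zg30) (kg xg24 yg49 zg34) (kg xg11 yg3 zg28) (kg xg15 yg56 zg10) (kg xg29 yg11 zg18) (kg xg26 yg47 zg40) (kg xg11 yg3 zg29) (kg xg18 yg3 zg10) (kg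 xg29 yg11 zg21) (kg xg26 yg1 zg28) (kg xg29 yg11 zg27) (kg xg15 yg42 zg17) (kg xg26 yg47 zg60) (kg xg11 yg3 zg31) (kg xg29 yg11 zg32) (kg xg26 yg47 zg58) (kg xg25 yg23 zg17) (kg xg29 yg11 zg36) (kg xg16 yg9 zg54) (kg xg25 yg14 zg40) (kg xg14 yg45 zg29) (kg xg14 yg29 zg44) (kg xg25 yg14 zg43) (kg xg24 yg29 zg15) (kg xg24 yg23 zg49) (kg xg26 yg47 zg51) (kg xg11 yg3 zg37) (kg xg29 yg11 zg45) (kg xg29 yg11 zg46) (kg xg24 yg23 zg47) (kg xg27 yg20 zg49) (kg xg26 yg47 zg47) (kg xg11 yg3 zg39) (kg xg29 yg11 zg56)) (@D3.rec (fun _ => Pt) (kg xg26 yg47 zg45) (kg xg21 yg2 zg25) (kg xg11 yg3 zg40) (kg xg22 yg44 zg8) (kg xg29 yg12 zg1) (kg xg26 yg48 zg5) (kg xg22 yg43 zg29) (kg xg26 yg48 zg3) (kg xg23 yg43 zg15) (kg xg24 yg24 zg10) (kg xg26 yg10 zg0) (kg xg11 yg3 zg46) (kg xg29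 yg11 zg60) (kg xg21 yg2 zg21) (kg xg26 yg45 zg58) (kg xg28 yg27 zg14) (kg xg13 yg54 zg57) (kg xg11 yg3 zg49) (kg xg13 yg59 zg25) (kg xg23 yg59 zg12) (kg xg11 yg3 zg52) (kg xg23 yg43 zg47) (kg xg11 yg57 zg16) (kg xg26 yg7 zg10) (kg xg11 yg3 zg54) (kg xg22 yg55 zg20) (kg xg26 yg48 zg9) (kg xg14 yg45 zg30) (kg xg26 yg7 zg3) (kg xg11 yg3 zg56) (kg xg11 yg3 zg58) (kg xg29 yg12 zg19) (kg xg12 yg48 zg55) (kg xg29 yg12 zg23) (kg xg20 yg1 zg44) (kg xg24 yg23 zg56) (kg xg11 yg4 zg3) (kg xg24 yg24 zg17) (kg xg18 yg18 zg46) (kg xg23 yg10 zg57) (kg xg22 yg54 zg28) (kg xg11 yg4 zg8) (kg xg13 yg49 zg10) (kg xg13 yg59 zg44) (kg xg24 yg32 zg12) (kg xg14 yg48 zg26) (kg xg14 yg9 zg50) (kg xg24 yg32 zg1) (kg xg20 yg58 zg60) (kg xg25 yg16 zg52) (kg xg11 yg4 zg15) (kg xg25 yg44 zg18) (kg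 xg26 yg47 zg19) (kg xg14 yg48 zg60) (kg xg25 yg41 zg31) (kg xg26 yg6 zg33) (kg xg19 yg54 zg3) (kg xg15 yg52 zg29) (kg xg23 yg11 zg6) (kg xg15 yg21 zg61) (kg xg27 yg24 zg22) (kg xg29 yg12 zg32)) (@D3.rec (fun _ => Pt) (kg xg15 yg21 zg47) (kg xg22 yg52 zg41) (kg xg29 yg12 zg33) (kg xg15 yg18 zg15) (kg xg17 yg50 zg8) (kg xg25 yg6 zg1) (kg xg11 yg4 zg31) (kg xg25 yg6 zg0) (kg xg15 yg52 zg57) (kg xg19 yg15 zg53) (kg xg25 yg13 zg47) (kg xg15 yg23 zg14) (kg xg11 yg4 zg33) (kg xg15 yg19 zg38) (kg xg15 yg18 zg55) (kg xg18 yg5 zg44) (kg xg11 yg4 zg35) (kg xg18 yg5 zg43) (kg xg24 yg43 zg52) (kg xg27 yg23 zg4) (kg xg24 yg57 zg59) (kg xg25 yg13 zg22) (kg xg21 yg49 zg59) (kg xg29 yg12 zg51) (kg xg25 yg7 zg13) (kg xg11 yg4 zg39) (kg xg18 yg20 zg29) (kg xg11 yg4 zg41) (kg xg17 yg23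 zg47) (kg xg20 yg19 zg24) (kg xg19 yg10 zg43) (kg xg19 yg10 zg36) (kg xg19 yg53 zg6) (kg xg17 yg12 zg58) (kg xg24 yg32 zg26) (kg xg26 yg35 zg59) (kg xg19 yg11 zg9) (kg xg28 yg33 zg17) (kg xg19 yg27 zg60) (kg xg26 yg3 zg58) (kg xg19 yg39 zg31) (kg xg16 yg57 zg20) (kg xg19 yg30 zg34) (kg xg14 yg50 zg6) (kg xg16 yg43 zg8) (kg xg20 yg29 zg0) (kg xg25 yg6 zg47) (kg xg19 yg32 zg51) (kg xg11 yg5 zg0) (kg xg25 yg22 zg10) (kg xg27 yg38 zg21) (kg xg29 yg13 zg1) (kg xg11 yg5 zg2) (kg xg29 yg13 zg6) (kg xg11 yg5 zg14) (kg xg16 yg37 zg9) (kg xg11 yg5 zg5) (kg xg16 yg37 zg8) (kg xg25 yg22 zg35) (kg xg29 yg13 zg10) (kg xg29 yg13 zg7) (kg xg27 yg37 zg16)) (@D3.rec (fun _ => Pt) (kg xg11 yg10 zg31) (kg xg15 yg2 zg53) (kg xg27 yg22 zg50) (kg xg25 yg44 zg22) (kg xg21 yg24 zg14) (kg xg29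 yg13 zg15) (kg xg11 yg5 zg11) (kg xg25 yg37 zg25) (kg xg26 yg54 zg15) (kg xg29 yg9 zg13) (kg xg11 yg5 zg12) (kg xg29 yg13 zg25) (kg xg29 yg13 zg2) (kg xg29 yg13 zg28) (kg xg27 yg38 zg13) (kg xg25 yg22 zg16) (kg xg29 yg13 zg30) (kg xg15 yg28 zg12) (kg xg24 yg51 zg5) (kg xg11 yg5 zg15) (kg xg26 yg45 zg21) (kg xg28 yg14 zg21) (kg xg29 yg5 zg49) (kg xg29 yg2 zg21) (kg xg24 yg50 zg7) (kg xg24 yg4 zg34) (kg xg11 yg5 zg21) (kg xg24 yg49 zg39) (kg xg19 yg49 zg21) (kg xg19 yg40 zg6) (kg xg19 yg50 zg23) (kg xg25 yg22 zg40) (kg xg18 yg25 zg49) (kg xg11 yg5 zg27) (kg xg19 yg33 zg61) (kg xg29 yg13 zg40) (kg xg19 yg39 zg3) (kg xg29 yg13 zg38) (kg xg18 yg25 zg11) (kg xg11 yg5 zg28) (kg xg29 yg13 zg42) (kg xg29 yg2 zg49) (kg xg16 yg44 zg28) (kg xg27 yg24 zg2) (kg xg11 yg22 zg39) (kg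 xg11 yg5 zg37) (kg xg20 yg9 zg10) (kg xg25 yg14 zg48) (kg xg11 yg5 zg40) (kg xg19 yg28 zg48) (kg xg26 yg25 zg7) (kg xg29 yg10 zg1) (kg xg11 yg5 zg51) (kg xg11 yg5 zg41) (kg xg19 yg47 zg54) (kg xg28 yg10 zg53) (kg xg26 yg48 zg32) (kg xg11 yg5 zg42) (kg xg29 yg13 zg57) (kg xg25 yg41 zg26) (kg xg11 yg5 zg53) (kg xg11 yg5 zg43)) (@D3.rec (fun _ => Pt) (kg xg21 yg15 zg16) (kg xg26 yg46 zg33) (kg xg29 yg13 zg61) (kg xg21 yg9 zg1) (kg xg16 yg48 zg3) (kg xg11 yg21 zg19) (kg xg27 yg44 zg31) (kg xg18 yg1 zg3) (kg xg15 yg50 zg16) (kg xg13 yg16 zg13) (kg xg21 yg2 zg34) (kg xg11 yg5 zg52) (kg xg29 yg14 zg5) (kg xg26 yg48 zg26) (kg xg11 yg14 zg60) (kg xg21 yg53 zg30) (kg xg19 yg10 zg52) (kg xg11 yg21 zg46) (kg xg29 yg14 zg9) (kg xg29 yg14 zg10) (kg xg24 yg49 zg55) (kg xg26 yg53 zg40)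 (kg xg25 yg21 zg49) (kg xg26 yg41 zg22) (kg xg29 yg14 zg16) (kg xg20 yg1 zg49) (kg xg24 yg49 zg59) (kg xg29 yg14 zg24) (kg xg27 yg38 zg11) (kg xg11 yg6 zg2) (kg xg25 yg13 zg45) (kg xg21 yg2 zg1) (kg xg27 yg38 zg14) (kg xg24 yg49 zg53) (kg xg25 yg37 zg38) (kg xg24 yg52 zg13) (kg xg17 yg8 zg7) (kg xg11 yg6 zg9) (kg xg26 yg5 zg23) (kg xg11 yg6 zg13) (kg xg29 yg14 zg29) (kg xg26 yg49 zg48) (kg xg26 yg12 zg26) (kg xg29 yg14 zg32) (kg xg16 yg21 zg27) (kg xg15 yg23 zg35) (kg xg19 yg1 zg47) (kg xg16 yg33 zg9) (kg xg11 yg6 zg23) (kg xg27 yg9 zg33) (kg xg11 yg6 zg21) (kg xg21 yg16 zg5) (kg xg29 yg14 zg37) (kg xg16 yg53 zg53) (kg xg20 yg47 zg35) (kg xg20 yg12 zg23) (kg xg16 yg52 zg30) (kg xg20 yg42 zg26) (kg xg12 yg44 zg28) (kg xg20 yg13 zg1) (kg xg12 yg9 zg3) (kg xg16 yg47 zg33))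
def f_g_20 : D2 → D3 → Pt := @D2.rec (fun _ => D3 → Pt) (@D3.rec (fun _ => Pt) (kg xg15 yg0 zg12) (kg xg21 yg36 zg12) (kg xg20 yg6 zg14) (kg xg15 yg5 zg18) (kg xg28 yg27 zg48) (kg xg29 yg14 zg39) (kg xg11 yg6 zg60) (kg xg11 yg6 zg59) (kg xg21 yg15 zg34) (kg xg22 yg34 zg31) (kg xg25 yg23 zg52) (kg xg15 yg24 zg35) (kg xg21 yg13 zg21) (kg xg17 yg24 zg20) (kg xg17 yg33 zg9) (kg xg20 yg9 zg11) (kg xg11 yg24 zg33) (kg xg20 yg32 zg61) (kg xg14 yg50 zg5) (kg xg17 yg57 zg46) (kg xg11 yg7 zg54) (kg xg17 yg30 zg2) (kg xg16 yg51 zg43) (kg xg27 yg13 zg56) (kg xg11 yg7 zg6) (kg xg20 yg6 zg45) (kg xg12 yg8 zg1) (kg xg12 yg31 zg6) (kg xg18 yg36 zg30) (kg xg16 yg51 zg25) (kg xg11 yg29 zg36) (kg xg19 yg49 zg60) (kg xg16 yg51 zg21) (kg xg16 yg51 zg44) (kg xg11 yg7 zg11) (kg xg11 yg7 zg12)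 (kg xg11 yg8 zg5) (kg xg20 yg6 zg43) (kg xg25 yg47 zg7) (kg xg11 yg7 zg18) (kg xg20 yg27 zg52) (kg xg21 yg15 zg20) (kg xg19 yg59 zg60) (kg xg11 yg7 zg20) (kg xg20 yg6 zg16) (kg xg29 yg14 zg43) (kg xg20 yg30 zg13) (kg xg25 yg3 zg7) (kg xg20 yg6 zg9) (kg xg11 yg7 zg22) (kg xg17 yg46 zg43) (kg xg20 yg6 zg7) (kg xg11 yg36 zg17) (kg xg16 yg54 zg46) (kg xg18 yg25 zg7) (kg xg27 yg20 zg19) (kg xg29 yg14 zg48) (kg xg11 yg7 zg32) (kg xg24 yg53 zg18) (kg xg11 yg7 zg34) (kg xg14 yg59 zg35) (kg xg26 yg47 zg53)) (@D3.rec (fun _ => Pt) (kg xg22 yg41 zg9) (kg xg11 yg7 zg35) (kg xg27 yg9 zg51) (kg xg25 yg23 zg37) (kg xg11 yg7 zg36) (kg xg26 yg57 zg34) (kg xg20 yg17 zg42) (kg xg26 yg25 zg6) (kg xg11 yg7 zg61) (kg xg16 yg54 zg41) (kg xg20 yg29 zg60) (kg xg20 yg30 zg0) (kg xg29 yg14 zg54)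 (kg xg27 yg5 zg37) (kg xg21 yg13 zg3) (kg xg12 yg22 zg18) (kg xg20 yg32 zg11) (kg xg29 yg14 zg55) (kg xg28 yg0 zg29) (kg xg16 yg31 zg8) (kg xg19 yg33 zg17) (kg xg27 yg3 zg31) (kg xg14 yg45 zg31) (kg xg29 yg14 zg60) (kg xg28 yg27 zg6) (kg xg19 yg48 zg20) (kg xg26 yg27 zg1) (kg xg24 yg53 zg13) (kg xg16 yg55 zg15) (kg xg21 yg0 zg6) (kg xg24 yg53 zg17) (kg xg18 yg49 zg17) (kg xg28 yg51 zg23) (kg xg16 yg54 zg23) (kg xg29 yg0 zg43) (kg xg28 yg19 zg1) (kg xg11 yg20 zg42) (kg xg28 yg51 zg45) (kg xg23 yg3 zg59) (kg xg16 yg30 zg29) (kg xg18 yg25 zg10) (kg xg11 yg8 zg4) (kg xg29 yg15 zg5) (kg xg26 yg53 zg26) (kg xg29 yg15 zg9) (kg xg20 yg49 zg59) (kg xg24 yg3 zg43) (kg xg26 yg1 zg61) (kg xg21 yg0 zg40) (kg xg15 yg41 zg57) (kg xg20 yg1 zg52) (kg xg11 yg8 zg13) (kg xg20 yg1 zg51)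 (kg xg24 yg3 zg55) (kg xg16 yg58 zg54) (kg xg29 yg2 zg43) (kg xg11 yg8 zg15) (kg xg20 yg59 zg7) (kg xg26 yg29 zg0) (kg xg23 yg4 zg49) (kg xg13 yg31 zg60) (kg xg13 yg32 zg28)) (@D3.rec (fun _ => Pt) (kg xg18 yg43 zg16) (kg xg14 yg35 zg52) (kg xg12 yg44 zg22) (kg xg21 yg59 zg24) (kg xg15 yg49 zg13) (kg xg21 yg57 zg9) (kg xg17 yg3 zg15) (kg xg11 yg25 zg8) (kg xg17 yg19 zg21) (kg xg15 yg18 zg19) (kg xg15 yg18 zg45) (kg xg24 yg12 zg25) (kg xg11 yg9 zg53) (kg xg11 yg9 zg28) (kg xg29 yg15 zg31) (kg xg29 yg15 zg34) (kg xg11 yg8 zg42) (kg xg29 yg15 zg40) (kg xg29 yg15 zg32) (kg xg26 yg4 zg48) (kg xg27 yg38 zg58) (kg xg15 yg18 zg44) (kg xg29 yg12 zg31) (kg xg15 yg16 zg17) (kg xg25 yg14 zg14) (kg xg11 yg8 zg45) (kg xg29 yg15 zg49) (kg xg25 yg13 zg41) (kg xg27 yg23 zg48) (kg xg19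 yg13 zg31) (kg xg24 yg36 zg33) (kg xg29 yg15 zg57) (kg xg11 yg8 zg51) (kg xg29 yg16 zg2) (kg xg29 yg15 zg55) (kg xg27 yg30 zg9) (kg xg25 yg18 zg0) (kg xg15 yg17 zg60) (kg xg25 yg18 zg3) (kg xg25 yg6 zg43) (kg xg29 yg16 zg9) (kg xg17 yg36 zg2) (kg xg15 yg53 zg12) (kg xg23 yg8 zg46) (kg xg11 yg9 zg11) (kg xg26 yg4 zg49) (kg xg24 yg14 zg2) (kg xg12 yg41 zg33) (kg xg12 yg41 zg49) (kg xg11 yg8 zg61) (kg xg12 yg41 zg44) (kg xg21 yg21 zg27) (kg xg25 yg6 zg34) (kg xg11 yg9 zg0) (kg xg29 yg16 zg21) (kg xg25 yg8 zg43) (kg xg15 yg53 zg13) (kg xg24 yg20 zg34) (kg xg25 yg7 zg61) (kg xg15 yg53 zg16) (kg xg29 yg16 zg26) (kg xg29 yg16 zg29)) (@D3.rec (fun _ => Pt) (kg xg11 yg9 zg5) (kg xg29 yg16 zg32) (kg xg29 yg16 zg27) (kg xg25 yg8 zg31) (kg xg27 yg52 zg31) (kg xg15 yg17 zg1) (kg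 xg11 yg9 zg8) (kg xg29 yg16 zg36) (kg xg24 yg53 zg36) (kg xg25 yg14 zg23) (kg xg23 yg30 zg2) (kg xg25 yg14 zg21) (kg xg25 yg14 zg19) (kg xg15 yg21 zg0) (kg xg29 yg16 zg41) (kg xg11 yg9 zg12) (kg xg26 yg55 zg3) (kg xg25 yg8 zg27) (kg xg11 yg9 zg16) (kg xg11 yg9 zg13) (kg xg29 yg16 zg50) (kg xg29 yg16 zg51) (kg xg20 yg15 zg19) (kg xg28 yg57 zg33) (kg xg19 yg47 zg11) (kg xg25 yg9 zg57) (kg xg24 yg20 zg23) (kg xg29 yg16 zg53) (kg xg26 yg11 zg7) (kg xg11 yg9 zg21) (kg xg11 yg9 zg18) (kg xg29 yg16 zg58) (kg xg26 yg9 zg45) (kg xg11 yg9 zg20) (kg xg24 yg11 zg22) (kg xg23 yg55 zg31) (kg xg29 yg16 zg59) (kg xg20 yg50 zg14) (kg xg17 yg43 zg28) (kg xg17 yg39 zg31) (kg xg25 yg15 zg18) (kg xg11 yg9 zg24) (kg xg27 yg25 zg1) (kg xg25 yg15 zg16) (kg xg11 yg30 zg7) (kg xg25 yg15 zg28)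 (kg xg20 yg23 zg8) (kg xg24 yg11 zg10) (kg xg28 yg42 zg0) (kg xg11 yg9 zg32) (kg xg11 yg9 zg29) (kg xg29 yg16 zg55) (kg xg19 yg44 zg60) (kg xg11 yg9 zg31) (kg xg25 yg14 zg4) (kg xg29 yg17 zg12) (kg xg29 yg16 zg57) (kg xg27 yg11 zg30) (kg xg26 yg16 zg59) (kg xg17 yg39 zg22) (kg xg25 yg32 zg49) (kg xg24 yg45 zg49)) (@D3.rec (fun _ => Pt) (kg xg17 yg39 zg24) (kg xg15 yg22 zg8) (kg xg21 yg22 zg57) (kg xg17 yg39 zg30) (kg xg16 yg15 zg3) (kg xg17 yg39 zg32) (kg xg12 yg49 zg3) (kg xg11 yg9 zg40) (kg xg21 yg34 zg2) (kg xg27 yg27 zg24) (kg xg21 yg25 zg5) (kg xg16 yg15 zg4) (kg xg26 yg16 zg46) (kg xg15 yg46 zg30) (kg xg17 yg45 zg25) (kg xg18 yg3 zg18) (kg xg25 yg15 zg49) (kg xg11 yg9 zg47) (kg xg25 yg15 zg48) (kg xg13 yg1 zg25) (kg xg25 yg50 zg12) (kg xg11 yg9 zg52) (kg xg25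 yg5 zg21) (kg xg29 yg15 zg35) (kg xg29 yg17 zg33) (kg xg26 yg46 zg57) (kg xg11 yg9 zg54) (kg xg21 yg50 zg36) (kg xg26 yg46 zg55) (kg xg11 yg9 zg55) (kg xg11 yg58 zg40) (kg xg11 yg58 zg2) (kg xg26 yg56 zg57) (kg xg25 yg40 zg41) (kg xg19 yg42 zg35) (kg xg28 yg55 zg13) (kg xg19 yg42 zg36) (kg xg19 yg50 zg37) (kg xg11 yg10 zg2) (kg xg11 yg12 zg52) (kg xg26 yg27 zg13) (kg xg29 yg17 zg39) (kg xg11 yg10 zg4) (kg xg29 yg17 zg44) (kg xg24 yg36 zg35) (kg xg24 yg54 zg30) (kg xg25 yg2 zg37) (kg xg27 yg40 zg44) (kg xg11 yg10 zg6) (kg xg11 yg10 zg8) (kg xg11 yg56 zg17) (kg xg11 yg42 zg0) (kg xg19 yg53 zg23) (kg xg16 yg56 zg18) (kg xg19 yg39 zg50) (kg xg28 yg57 zg16) (kg xg20 yg4 zg59) (kg xg22 yg6 zg23) (kg xg11 yg10 zg20) (kg xg20 yg5 zg1) (kg xg16 yg47 zg22) (kg xg19 yg58 zg31))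 (@D3.rec (fun _ => Pt) (kg xg28 yg50 zg16) (kg xg19 yg45 zg28) (kg xg19 yg35 zg34) (kg xg11 yg10 zg25) (kg xg20 yg23 zg14) (kg xg22 yg3 zg19) (kg xg29 yg17 zg53) (kg xg24 yg50 zg25) (kg xg24 yg19 zg12) (kg xg25 yg21 zg10) (kg xg18 yg33 zg31) (kg xg29 yg13 zg11) (kg xg19 yg40 zg27) (kg xg27 yg22 zg54) (kg xg24 yg50 zg29) (kg xg11 yg10 zg32) (kg xg25 yg24 zg35) (kg xg29 yg18 zg1) (kg xg15 yg27 zg54) (kg xg11 yg10 zg33) (kg xg15 yg2 zg39) (kg xg18 yg52 zg22) (kg xg19 yg40 zg29) (kg xg12 yg57 zg51) (kg xg11 yg10 zg37) (kg xg24 yg50 zg34) (kg xg15 yg30 zg13) (kg xg16 yg45 zg14) (kg xg11 yg10 zg42) (kg xg17 yg42 zg3) (kg xg28 yg59 zg46) (kg xg17 yg13 zg18) (kg xg29 yg18 zg8) (kg xg11 yg47 zg25) (kg xg11 yg24 zg39) (kg xg11 yg24 zg38) (kg xg29 yg18 zg12) (kg xg11 yg10 zg52)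 (kg xg11 yg11 zg9) (kg xg11 yg10 zg55) (kg xg23 yg30 zg41) (kg xg12 yg45 zg43) (kg xg16 yg28 zg29) (kg xg11 yg10 zg61) (kg xg12 yg33 zg54) (kg xg12 yg45 zg11) (kg xg11 yg18 zg34) (kg xg22 yg5 zg57) (kg xg26 yg47 zg1) (kg xg11 yg11 zg3) (kg xg21 yg3 zg27) (kg xg21 yg20 zg42) (kg xg14 yg8 zg3) (kg xg11 yg19 zg13) (kg xg12 yg3 zg55) (kg xg20 yg7 zg20) (kg xg11 yg11 zg20) (kg xg20 yg0 zg13) (kg xg27 yg42 zg15) (kg xg11 yg11 zg26) (kg xg20 yg0 zg19) (kg xg20 yg4 zg45)) (@D3.rec (fun _ => Pt) (kg xg13 yg26 zg61) (kg xg11 yg11 zg28) (kg xg20 yg0 zg34) (kg xg16 yg12 zg7) (kg xg16 yg32 zg55) (kg xg23 yg14 zg23) (kg xg20 yg0 zg51) (kg xg11 yg11 zg30) (kg xg17 yg47 zg53) (kg xg20 yg0 zg49) (kg xg11 yg11 zg42) (kg xg19 yg21 zg15) (kg xg17 yg6 zg50) (kg xg21 yg37 zg38) (kg xg21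 yg37 zg36) (kg xg20 yg0 zg44) (kg xg11 yg11 zg35) (kg xg20 yg0 zg43) (kg xg21 yg15 zg23) (kg xg23 yg4 zg5) (kg xg13 yg27 zg0) (kg xg11 yg23 zg47) (kg xg12 yg7 zg54) (kg xg11 yg11 zg40) (kg xg23 yg46 zg24) (kg xg26 yg28 zg27) (kg xg28 yg12 zg18) (kg xg12 yg58 zg6) (kg xg23 yg19 zg20) (kg xg23 yg46 zg14) (kg xg19 yg47 zg49) (kg xg16 yg30 zg24) (kg xg11 yg11 zg48) (kg xg27 yg13 zg27) (kg xg22 yg38 zg27) (kg xg18 yg49 zg32) (kg xg14 yg53 zg4) (kg xg24 yg36 zg26) (kg xg16 yg30 zg28) (kg xg20 yg54 zg56) (kg xg14 yg46 zg48) (kg xg22 yg31 zg16) (kg xg13 yg54 zg47) (kg xg20 yg0 zg40) (kg xg27 yg14 zg6) (kg xg20 yg0 zg21) (kg xg11 yg12 zg15) (kg xg26 yg48 zg47) (kg xg11 yg12 zg9) (kg xg16 yg57 zg6) (kg xg11 yg22 zg50) (kg xg12 yg8 zg58) (kg xg16 yg9 zg23) (kg xg11 yg27 zg56)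 (kg xg12 yg26 zg15) (kg xg11 yg12 zg19) (kg xg11 yg37 zg15) (kg xg12 yg49 zg29) (kg xg12 yg9 zg0) (kg xg12 yg8 zg61) (kg xg11 yg12 zg23) (kg xg11 yg59 zg23)) (@D3.rec (fun _ => Pt) (kg xg11 yg12 zg26) (kg xg11 yg59 zg22) (kg xg26 yg4 zg14) (kg xg21 yg3 zg30) (kg xg29 yg18 zg27) (kg xg29 yg18 zg28) (kg xg27 yg55 zg26) (kg xg26 yg19 zg1) (kg xg11 yg12 zg34) (kg xg26 yg19 zg0) (kg xg11 yg12 zg35) (kg xg11 yg18 zg23) (kg xg14 yg8 zg1) (kg xg28 yg55 zg26) (kg xg23 yg43 zg2) (kg xg16 yg29 zg33) (kg xg20 yg25 zg28) (kg xg19 yg24 zg17) (kg xg19 yg27 zg1) (kg xg19 yg27 zg0) (kg xg11 yg20 zg24) (kg xg12 yg7 zg4) (kg xg16 yg52 zg57) (kg xg14 yg42 zg61) (kg xg11 yg13 zg24) (kg xg11 yg13 zg7) (kg xg11 yg14 zg3) (kg xg13 yg39 zg43) (kg xg16 yg28 zg55) (kg xg11 yg12 zg60) (kg xg11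 yg13 zg36) (kg xg26 yg29 zg8) (kg xg26 yg27 zg12) (kg xg11 yg12 zg61) (kg xg19 yg33 zg49) (kg xg19 yg25 zg52) (kg xg11 yg21 zg4) (kg xg12 yg55 zg21) (kg xg26 yg54 zg54) (kg xg21 yg0 zg53) (kg xg19 yg34 zg34) (kg xg14 yg58 zg44) (kg xg20 yg20 zg28) (kg xg17 yg3 zg35) (kg xg24 yg53 zg9) (kg xg14 yg43 zg3) (kg xg16 yg23 zg6) (kg xg19 yg2 zg31) (kg xg26 yg27 zg32) (kg xg17 yg9 zg14) (kg xg28 yg26 zg16) (kg xg26 yg44 zg47) (kg xg11 yg13 zg15) (kg xg29 yg18 zg51) (kg xg29 yg18 zg52) (kg xg11 yg13 zg17) (kg xg29 yg18 zg54) (kg xg11 yg14 zg6) (kg xg26 yg50 zg51) (kg xg29 yg18 zg56) (kg xg11 yg13 zg23) (kg xg27 yg40 zg34)) (@D3.rec (fun _ => Pt) (kg xg20 yg28 zg47) (kg xg12 yg8 zg45) (kg xg26 yg24 zg53) (kg xg11 yg13 zg28) (kg xg14 yg59 zg20) (kg xg11 yg13 zg32) (kg xg11 yg13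 zg30) (kg xg26 yg24 zg55) (kg xg23 yg8 zg57) (kg xg18 yg58 zg32) (kg xg23 yg8 zg59) (kg xg26 yg29 zg21) (kg xg11 yg13 zg33) (kg xg26 yg5 zg24) (kg xg18 yg19 zg57) (kg xg20 yg18 zg13) (kg xg18 yg58 zg41) (kg xg26 yg49 zg51) (kg xg11 yg13 zg35) (kg xg26 yg49 zg50) (kg xg24 yg56 zg18) (kg xg26 yg18 zg42) (kg xg11 yg13 zg39) (kg xg17 yg46 zg52) (kg xg14 yg58 zg50) (kg xg19 yg13 zg12) (kg xg27 yg22 zg0) (kg xg19 yg39 zg39) (kg xg11 yg13 zg52) (kg xg20 yg52 zg47) (kg xg11 yg13 zg46) (kg xg19 yg50 zg41) (kg xg17 yg4 zg35) (kg xg20 yg52 zg0) (kg xg11 yg13 zg50) (kg xg15 yg5 zg29) (kg xg20 yg31 zg21) (kg xg26 yg28 zg21) (kg xg11 yg46 zg21) (kg xg29 yg19 zg9) (kg xg11 yg13 zg57) (kg xg18 yg41 zg24) (kg xg25 yg16 zg56) (kg xg11 yg37 zg60) (kg xg15 yg6 zg24) (kg xg29 yg19 zg14)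 (kg xg18 yg23 zg57) (kg xg21 yg15 zg15) (kg xg11 yg13 zg60) (kg xg21 yg15 zg14) (kg xg26 yg23 zg16) (kg xg26 yg55 zg29) (kg xg21 yg38 zg11) (kg xg11 yg24 zg42) (kg xg29 yg19 zg20) (kg xg26 yg56 zg54) (kg xg20 yg8 zg58) (kg xg20 yg8 zg56) (kg xg11 yg14 zg4) (kg xg29 yg18 zg53) (kg xg20 yg6 zg46) (kg xg26 yg21 zg48)) (@D3.rec (fun _ => Pt) (kg xg26 yg56 zg42) (kg xg24 yg47 zg27) (kg xg29 yg18 zg55) (kg xg11 yg14 zg7) (kg xg20 yg32 zg52) (kg xg11 yg14 zg12) (kg xg11 yg14 zg9) (kg xg20 yg0 zg15) (kg xg15 yg3 zg57) (kg xg16 yg32 zg6) (kg xg16 yg57 zg18) (kg xg12 yg55 zg23) (kg xg19 yg32 zg29) (kg xg19 yg9 zg38) (kg xg14 yg58 zg47) (kg xg29 yg18 zg37) (kg xg27 yg43 zg49) (kg xg11 yg14 zg20) (kg xg27 yg44 zg7) (kg xg12 yg56 zg41) (kg xg11 yg55 zg15) (kg xg27 yg22 zg1) (kg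 xg21 yg30 zg37) (kg xg11 yg14 zg23) (kg xg21 yg30 zg34) (kg xg22 yg4 zg47) (kg xg19 yg32 zg21) (kg xg18 yg45 zg49) (kg xg19 yg32 zg26) (kg xg21 yg51 zg60) (kg xg13 yg1 zg59) (kg xg11 yg14 zg34) (kg xg22 yg11 zg38) (kg xg11 yg15 zg61) (kg xg13 yg21 zg33) (kg xg28 yg17 zg51) (kg xg26 yg49 zg2) (kg xg17 yg9 zg51) (kg xg11 yg17 zg10) (kg xg19 yg59 zg56) (kg xg20 yg17 zg36) (kg xg26 yg45 zg49) (kg xg11 yg14 zg43) (kg xg20 yg9 zg55) (kg xg11 yg17 zg15) (kg xg21 yg37 zg17) (kg xg11 yg14 zg45) (kg xg16 yg49 zg18) (kg xg17 yg56 zg51) (kg xg12 yg31 zg9) (kg xg14 yg49 zg9) (kg xg12 yg46 zg13) (kg xg14 yg15 zg55) (kg xg17 yg30 zg56) (kg xg11 yg14 zg53) (kg xg21 yg32 zg19) (kg xg11 yg14 zg59) (kg xg11 yg15 zg0) (kg xg11 yg19 zg7) (kg xg25 yg45 zg41) (kg xg11 yg23 zg61) (kg xg17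 yg59 zg39)) (@D3.rec (fun _ => Pt) (kg xg11 yg14 zg61) (kg xg16 yg19 zg29) (kg xg29 yg19 zg46) (kg xg11 yg16 zg5) (kg xg16 yg52 zg8) (kg xg11 yg23 zg51) (kg xg24 yg28 zg2) (kg xg11 yg15 zg9) (kg xg26 yg49 zg0) (kg xg25 yg55 zg29) (kg xg29 yg19 zg55) (kg xg11 yg15 zg16) (kg xg11 yg15 zg10) (kg xg11 yg15 zg42) (kg xg29 yg19 zg61) (kg xg11 yg22 zg21) (kg xg11 yg15 zg11) (kg xg28 yg0 zg40) (kg xg29 yg20 zg5) (kg xg29 yg20 zg7) (kg xg19 yg2 zg29) (kg xg11 yg15 zg14) (kg xg11 yg15 zg15) (kg xg19 yg26 zg40) (kg xg11 yg15 zg17) (kg xg26 yg45 zg30) (kg xg11 yg15 zg20) (kg xg26 yg56 zg7) (kg xg26 yg32 zg31) (kg xg28 yg5 zg44) (kg xg29 yg20 zg18) (kg xg20 yg21 zg39) (kg xg26 yg46 zg36) (kg xg11 yg16 zg15) (kg xg16 yg28 zg16) (kg xg14 yg58 zg60) (kg xg28 yg18 zg42) (kg xg20 yg16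 zg36) (kg xg11 yg15 zg32) (kg xg11 yg15 zg30) (kg xg27 yg53 zg59) (kg xg27 yg49 zg42) (kg xg24 yg56 zg33) (kg xg17 yg45 zg50) (kg xg29 yg20 zg27) (kg xg29 yg20 zg26) (kg xg28 yg7 zg41) (kg xg26 yg17 zg27) (kg xg11 yg15 zg33) (kg xg24 yg56 zg39) (kg xg29 yg20 zg33) (kg xg11 yg15 zg35) (kg xg28 yg21 zg36) (kg xg26 yg19 zg61) (kg xg18 yg31 zg37) (kg xg26 yg18 zg35) (kg xg11 yg15 zg36) (kg xg26 yg18 zg34) (kg xg29 yg20 zg38) (kg xg27 yg52 zg50) (kg xg26 yg18 zg31) (kg xg26 yg18 zg30)) (@D3.rec (fun _ => Pt) (kg xg29 yg20 zg41) (kg xg16 yg56 zg9) (kg xg27 yg50 zg23) (kg xg27 yg53 zg14) (kg xg16 yg19 zg35) (kg xg27 yg53 zg19) (kg xg26 yg15 zg26) (kg xg11 yg15 zg41) (kg xg26 yg15 zg37) (kg xg29 yg20 zg49) (kg xg26 yg18 zg17) (kg xg29 yg20 zg52) (kg xg18 yg9 zg7) (kg xg11 yg15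 zg43) (kg xg29 yg20 zg61) (kg xg18 yg9 zg18) (kg xg28 yg12 zg55) (kg xg14 yg25 zg32) (kg xg27 yg53 zg52) (kg xg15 yg6 zg23) (kg xg18 yg48 zg34) (kg xg24 yg10 zg13) (kg xg19 yg34 zg8) (kg xg11 yg16 zg10) (kg xg20 yg21 zg45) (kg xg11 yg15 zg50) (kg xg20 yg21 zg44) (kg xg25 yg56 zg5) (kg xg23 yg4 zg19) (kg xg11 yg15 zg56) (kg xg11 yg15 zg51) (kg xg29 yg21 zg19) (kg xg26 yg49 zg14) (kg xg11 yg15 zg52) (kg xg26 yg52 zg5) (kg xg17 yg6 zg36) (kg xg22 yg46 zg31) (kg xg26 yg52 zg47) (kg xg26 yg49 zg11) (kg xg11 yg15 zg55) (kg xg23 yg0 zg23) (kg xg28 yg20 zg27) (kg xg28 yg23 zg30) (kg xg12 yg3 zg46) (kg xg11 yg15 zg57) (kg xg17 yg47 zg40) (kg xg12 yg3 zg43) (kg xg15 yg50 zg60) (kg xg17 yg10 zg36) (kg xg29 yg21 zg28) (kg xg24 yg1 zg12) (kg xg22 yg46 zg30) (kg xg11 yg16 zg0) (kg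 xg25 yg52 zg4) (kg xg28 yg53 zg34) (kg xg13 yg21 zg55) (kg xg25 yg26 zg42) (kg xg12 yg3 zg41) (kg xg29 yg21 zg33) (kg xg23 yg0 zg41) (kg xg23 yg43 zg32) (kg xg29 yg21 zg36)) (@D3.rec (fun _ => Pt) (kg xg29 yg20 zg17) (kg xg11 yg16 zg6) (kg xg25 yg51 zg29) (kg xg18 yg34 zg34) (kg xg15 yg3 zg61) (kg xg15 yg27 zg38) (kg xg11 yg16 zg12) (kg xg29 yg21 zg41) (kg xg24 yg3 zg51) (kg xg15 yg55 zg5) (kg xg25 yg52 zg27) (kg xg22 yg6 zg27) (kg xg25 yg53 zg5) (kg xg11 yg17 zg52) (kg xg11 yg22 zg48) (kg xg28 yg19 zg8) (kg xg11 yg16 zg16) (kg xg27 yg3 zg24) (kg xg28 yg32 zg43) (kg xg29 yg20 zg20) (kg xg11 yg26 zg50) (kg xg11 yg19 zg16) (kg xg11 yg17 zg41) (kg xg17 yg12 zg33) (kg xg11 yg17 zg44) (kg xg11 yg16 zg25) (kg xg11 yg21 zg29) (kg xg11 yg16 zg28) (kg xg11 yg20 zg27) (kg xg11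 yg18 zg9) (kg xg11 yg16 zg32) (kg xg25 yg31 zg12) (kg xg11 yg16 zg33) (kg xg11 yg19 zg53) (kg xg29 yg0 zg37) (kg xg20 yg9 zg47) (kg xg11 yg18 zg31) (kg xg21 yg0 zg38) (kg xg14 yg24 zg33) (kg xg19 yg59 zg59) (kg xg11 yg16 zg41) (kg xg14 yg37 zg52) (kg xg11 yg17 zg12) (kg xg11 yg16 zg43) (kg xg11 yg20 zg19) (kg xg25 yg34 zg38) (kg xg11 yg17 zg31) (kg xg11 yg17 zg33) (kg xg21 yg52 zg0) (kg xg11 yg16 zg55) (kg xg20 yg14 zg19) (kg xg12 yg17 zg19) (kg xg18 yg16 zg42) (kg xg11 yg16 zg57) (kg xg23 yg47 zg0) (kg xg17 yg31 zg61) (kg xg11 yg17 zg1) (kg xg29 yg18 zg10) (kg xg11 yg16 zg61) (kg xg29 yg18 zg9) (kg xg21 yg33 zg16) (kg xg29 yg21 zg54)) (@D3.rec (fun _ => Pt) (kg xg12 yg29 zg31) (kg xg11 yg24 zg21) (kg xg22 yg9 zg55) (kg xg20 yg19 zg21) (kg xg17 yg16 zg30) (kg xg11 yg17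 zg5) (kg xg12 yg28 zg31) (kg xg22 yg9 zg58) (kg xg12 yg20 zg26) (kg xg17 yg35 zg35) (kg xg12 yg18 zg18) (kg xg18 yg37 zg46) (kg xg11 yg17 zg8) (kg xg11 yg24 zg35) (kg xg29 yg19 zg42) (kg xg21 yg47 zg50) (kg xg11 yg17 zg11) (kg xg24 yg33 zg14) (kg xg11 yg17 zg43) (kg xg11 yg17 zg13) (kg xg18 yg18 zg32) (kg xg21 yg3 zg18) (kg xg11 yg20 zg8) (kg xg11 yg20 zg9) (kg xg11 yg17 zg18) (kg xg23 yg24 zg42) (kg xg11 yg17 zg24) (kg xg13 yg38 zg40) (kg xg26 yg22 zg61) (kg xg24 yg31 zg2) (kg xg18 yg24 zg29) (kg xg24 yg54 zg21) (kg xg11 yg17 zg22) (kg xg26 yg7 zg32) (kg xg16 yg51 zg46) (kg xg27 yg1 zg14) (kg xg29 yg22 zg3) (kg xg23 yg24 zg44) (kg xg21 yg35 zg20) (kg xg17 yg55 zg26) (kg xg17 yg12 zg22) (kg xg20 yg12 zg13) (kg xg27 yg30 zg28) (kg xg29 yg6 zg36) (kg xg27 yg3 zg26) (kg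 xg11 yg17 zg38) (kg xg21 yg48 zg12) (kg xg27 yg43 zg14) (kg xg16 yg42 zg12) (kg xg17 yg55 zg17) (kg xg27 yg22 zg33) (kg xg15 yg25 zg37) (kg xg11 yg43 zg37) (kg xg22 yg4 zg60) (kg xg25 yg17 zg0) (kg xg24 yg53 zg37) (kg xg21 yg36 zg36) (kg xg20 yg25 zg26) (kg xg20 yg45 zg51) (kg xg12 yg6 zg52) (kg xg11 yg17 zg48) (kg xg12 yg6 zg51)) (@D3.rec (fun _ => Pt) (kg xg11 yg21 zg55) (kg xg12 yg32 zg6) (kg xg11 yg20 zg21) (kg xg11 yg18 zg20) (kg xg11 yg18 zg52) (kg xg11 yg17 zg56) (kg xg26 yg25 zg27) (kg xg11 yg18 zg40) (kg xg11 yg17 zg58) (kg xg26 yg46 zg5) (kg xg11 yg18 zg38) (kg xg11 yg18 zg3) (kg xg20 yg4 zg53) (kg xg12 yg32 zg21) (kg xg29 yg22 zg15) (kg xg11 yg18 zg4) (kg xg18 yg25 zg33) (kg xg11 yg37 zg47) (kg xg24 yg27 zg44) (kg xg21 yg34 zg52) (kg xg26 yg45 zg56) (kg xg26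 yg22 zg60) (kg xg26 yg50 zg57) (kg xg20 yg12 zg50) (kg xg17 yg19 zg47) (kg xg26 yg10 zg40) (kg xg12 yg44 zg60) (kg xg11 yg18 zg10) (kg xg18 yg25 zg25) (kg xg17 yg14 zg35) (kg xg25 yg31 zg10) (kg xg11 yg18 zg11) (kg xg25 yg31 zg9) (kg xg29 yg22 zg19) (kg xg19 yg5 zg47) (kg xg11 yg50 zg45) (kg xg12 yg53 zg12) (kg xg20 yg49 zg4) (kg xg26 yg50 zg30) (kg xg27 yg30 zg33) (kg xg13 yg11 zg0) (kg xg20 yg49 zg2) (kg xg29 yg21 zg50) (kg xg11 yg19 zg50) (kg xg11 yg18 zg17) (kg xg22 yg25 zg13) (kg xg11 yg19 zg48) (kg xg17 yg56 zg44) (kg xg20 yg49 zg19) (kg xg20 yg20 zg46) (kg xg11 yg18 zg24) (kg xg20 yg49 zg7) (kg xg11 yg18 zg22) (kg xg11 yg20 zg5) (kg xg20 yg49 zg5) (kg xg17 yg30 zg0) (kg xg11 yg18 zg43) (kg xg17 yg31 zg50) (kg xg21 yg3 zg16) (kg xg11 yg47 zg51) (kg xg16 yg45 zg37)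 (kg xg23 yg49 zg46)) (@D3.rec (fun _ => Pt) (kg xg26 yg13 zg2) (kg xg11 yg20 zg25) (kg xg29 yg22 zg32) (kg xg11 yg47 zg3) (kg xg12 yg40 zg0) (kg xg27 yg6 zg3) (kg xg15 yg59 zg11) (kg xg21 yg36 zg9) (kg xg12 yg12 zg54) (kg xg20 yg15 zg49) (kg xg11 yg24 zg18) (kg xg11 yg20 zg15) (kg xg15 yg4 zg13) (kg xg17 yg30 zg12) (kg xg27 yg43 zg13) (kg xg26 yg50 zg22) (kg xg26 yg22 zg54) (kg xg11 yg59 zg17) (kg xg11 yg19 zg46) (kg xg25 yg22 zg58) (kg xg11 yg19 zg4) (kg xg21 yg38 zg6) (kg xg20 yg3 zg22) (kg xg15 yg20 zg35) (kg xg16 yg47 zg29) (kg xg11 yg18 zg48) (kg xg25 yg50 zg17) (kg xg24 yg5 zg0) (kg xg19 yg49 zg10) (kg xg20 yg27 zg40) (kg xg21 yg44 zg56) (kg xg23 yg10 zg47) (kg xg17 yg37 zg40) (kg xg29 yg22 zg43) (kg xg24 yg32 zg31) (kg xg11 yg18 zg54) (kg xg25 yg45 zg52) (kg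 xg13 yg58 zg37) (kg xg14 yg11 zg35) (kg xg11 yg36 zg44) (kg xg26 yg59 zg4) (kg xg11 yg37 zg49) (kg xg17 yg11 zg21) (kg xg11 yg19 zg39) (kg xg20 yg45 zg29) (kg xg11 yg19 zg2) (kg xg28 yg56 zg15) (kg xg16 yg55 zg2) (kg xg20 yg21 zg50) (kg xg20 yg15 zg12) (kg xg21 yg26 zg56) (kg xg16 yg54 zg6) (kg xg16 yg52 zg37) (kg xg27 yg20 zg56) (kg xg20 yg20 zg37) (kg xg21 yg32 zg58) (kg xg11 yg19 zg14) (kg xg11 yg19 zg15) (kg xg11 yg19 zg17) (kg xg26 yg5 zg38) (kg xg15 yg25 zg18) (kg xg17 yg42 zg10)) (@D3.rec (fun _ => Pt) (kg xg11 yg19 zg30) (kg xg11 yg19 zg23) (kg xg11 yg19 zg28) (kg xg12 yg54 zg44) (kg xg11 yg19 zg25) (kg xg24 yg43 zg0) (kg xg12 yg18 zg13) (kg xg11 yg19 zg26) (kg xg26 yg10 zg25) (kg xg26 yg53 zg18) (kg xg12 yg32 zg7) (kg xg15 yg25 zg22) (kg xg12 yg44 zg51) (kg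 xg25 yg18 zg58) (kg xg26 yg43 zg61) (kg xg15 yg24 zg22) (kg xg20 yg51 zg13) (kg xg14 yg57 zg54) (kg xg21 yg54 zg42) (kg xg18 yg37 zg56) (kg xg11 yg19 zg32) (kg xg25 yg43 zg1) (kg xg11 yg19 zg33) (kg xg14 yg7 zg47) (kg xg25 yg37 zg42) (kg xg14 yg51 zg12) (kg xg21 yg19 zg23) (kg xg21 yg23 zg22) (kg xg21 yg19 zg52) (kg xg13 yg10 zg42) (kg xg21 yg22 zg44) (kg xg29 yg22 zg23) (kg xg29 yg22 zg22) (kg xg22 yg20 zg45) (kg xg14 yg47 zg28) (kg xg11 yg19 zg44) (kg xg20 yg20 zg6) (kg xg22 yg23 zg36) (kg xg21 yg9 zg49) (kg xg11 yg19 zg45) (kg xg11 yg19 zg41) (kg xg14 yg48 zg43) (kg xg17 yg51 zg18) (kg xg11 yg19 zg42) (kg xg12 yg44 zg47) (kg xg22 yg9 zg53) (kg xg11 yg31 zg26) (kg xg22 yg23 zg44) (kg xg27 yg20 zg13) (kg xg26 yg52 zg48) (kg xg29 yg23 zg5) (kg xg28 yg53 zg8) (kg xg11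 yg46 zg58) (kg xg26 yg59 zg28) (kg xg11 yg46 zg60) (kg xg11 yg46 zg36) (kg xg11 yg19 zg49) (kg xg11 yg46 zg34) (kg xg22 yg25 zg14) (kg xg26 yg10 zg33) (kg xg13 yg37 zg6) (kg xg24 yg44 zg41)) (@D3.rec (fun _ => Pt) (kg xg19 yg27 zg57) (kg xg27 yg30 zg26) (kg xg14 yg7 zg33) (kg xg20 yg40 zg31) (kg xg20 yg28 zg34) (kg xg21 yg42 zg38) (kg xg11 yg47 zg24) (kg xg11 yg22 zg58) (kg xg16 yg59 zg57) (kg xg11 yg20 zg14) (kg xg11 yg20 zg0) (kg xg13 yg12 zg2) (kg xg20 yg24 zg61) (kg xg11 yg20 zg1) (kg xg21 yg32 zg45) (kg xg11 yg20 zg16) (kg xg11 yg20 zg3) (kg xg29 yg23 zg22) (kg xg11 yg46 zg47) (kg xg16 yg51 zg22) (kg xg11 yg41 zg56) (kg xg16 yg30 zg21) (kg xg16 yg24 zg51) (kg xg28 yg39 zg9) (kg xg11 yg20 zg11) (kg xg11 yg20 zg12) (kg xg16 yg30 zg49) (kg xg11 yg20 zg13) (kg xg21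 yg54 zg30) (kg xg26 yg28 zg10) (kg xg21 yg41 zg51) (kg xg15 yg55 zg31) (kg xg21 yg47 zg18) (kg xg20 yg52 zg15) (kg xg24 yg2 zg2) (kg xg11 yg44 zg0) (kg xg16 yg52 zg31) (kg xg23 yg24 zg25) (kg xg12 yg26 zg25) (kg xg29 yg23 zg26) (kg xg17 yg30 zg15) (kg xg11 yg20 zg22) (kg xg16 yg51 zg26) (kg xg29 yg22 zg13) (kg xg27 yg20 zg45) (kg xg18 yg39 zg47) (kg xg16 yg47 zg27) (kg xg11 yg55 zg24) (kg xg11 yg41 zg61) (kg xg17 yg58 zg55) (kg xg16 yg48 zg20) (kg xg27 yg21 zg20) (kg xg21 yg0 zg28) (kg xg29 yg23 zg35) (kg xg26 yg57 zg25) (kg xg28 yg58 zg36) (kg xg29 yg23 zg39) (kg xg11 yg20 zg33) (kg xg11 yg47 zg31) (kg xg26 yg23 zg56) (kg xg11 yg32 zg22) (kg xg19 yg52 zg41)) (@D3.rec (fun _ => Pt) (kg xg29 yg23 zg43) (kg xg20 yg49 zg26) (kg xg21 yg31 zg47) (kg xg14 yg51 zg34) (kg xg17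 yg58 zg60) (kg xg29 yg23 zg49) (kg xg17 yg58 zg57) (kg xg11 yg20 zg40) (kg xg11 yg47 zg59) (kg xg25 yg56 zg47) (kg xg26 yg3 zg46) (kg xg12 yg9 zg7) (kg xg29 yg23 zg56) (kg xg19 yg0 zg56) (kg xg29 yg18 zg60) (kg xg11 yg20 zg58) (kg xg11 yg20 zg44) (kg xg28 yg13 zg51) (kg xg20 yg33 zg46) (kg xg29 yg23 zg61) (kg xg26 yg49 zg40) (kg xg20 yg35 zg0) (kg xg13 yg42 zg52) (kg xg20 yg30 zg12) (kg xg29 yg24 zg1) (kg xg26 yg21 zg16) (kg xg29 yg24 zg4) (kg xg16 yg22 zg26) (kg xg11 yg20 zg53) (kg xg29 yg24 zg7) (kg xg20 yg18 zg26) (kg xg20 yg28 zg42) (kg xg11 yg20 zg54) (kg xg28 yg13 zg47) (kg xg29 yg23 zg59) (kg xg17 yg2 zg24) (kg xg26 yg53 zg11) (kg xg17 yg2 zg38) (kg xg12 yg8 zg55) (kg xg20 yg32 zg18) (kg xg12 yg32 zg11) (kg xg15 yg4 zg41) (kg xg11 yg20 zg57) (kg xg23 yg33 zg20)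 (kg xg25 yg23 zg7) (kg xg29 yg7 zg47) (kg xg26 yg28 zg40) (kg xg22 yg11 zg53) (kg xg15 yg44 zg19) (kg xg15 yg3 zg56) (kg xg24 yg47 zg40) (kg xg21 yg13 zg15) (kg xg17 yg1 zg25) (kg xg11 yg22 zg40) (kg xg29 yg6 zg40) (kg xg25 yg22 zg47) (kg xg29 yg23 zg57) (kg xg18 yg34 zg18) (kg xg11 yg41 zg1) (kg xg17 yg21 zg51) (kg xg27 yg0 zg54) (kg xg24 yg47 zg4)) (@D3.rec (fun _ => Pt) (kg xg11 yg22 zg47) (kg xg29 yg20 zg24) (kg xg29 yg24 zg20) (kg xg27 yg54 zg53) (kg xg29 yg24 zg23) (kg xg17 yg54 zg22) (kg xg11 yg21 zg22) (kg xg24 yg48 zg5) (kg xg17 yg25 zg34) (kg xg21 yg8 zg60) (kg xg29 yg20 zg13) (kg xg20 yg45 zg31) (kg xg17 yg19 zg29) (kg xg22 yg38 zg28) (kg xg11 yg21 zg33) (kg xg17 yg11 zg17) (kg xg17 yg4 zg56) (kg xg11 yg21 zg45) (kg xg11 yg21 zg41) (kg xg11 yg21 zg38) (kg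 xg19 yg39 zg40) (kg xg25 yg45 zg54) (kg xg24 yg36 zg1) (kg xg27 yg5 zg58) (kg xg19 yg57 zg32) (kg xg18 yg21 zg30) (kg xg16 yg15 zg30) (kg xg11 yg21 zg48) (kg xg12 yg26 zg28) (kg xg11 yg21 zg49) (kg xg11 yg21 zg47) (kg xg13 yg39 zg10) (kg xg12 yg32 zg27) (kg xg20 yg36 zg25) (kg xg21 yg51 zg51) (kg xg12 yg32 zg13) (kg xg21 yg36 zg37) (kg xg16 yg36 zg2) (kg xg26 yg46 zg35) (kg xg11 yg21 zg60) (kg xg12 yg29 zg50) (kg xg11 yg21 zg61) (kg xg17 yg18 zg15) (kg xg13 yg26 zg49) (kg xg17 yg56 zg7) (kg xg26 yg53 zg12) (kg xg26 yg21 zg61) (kg xg29 yg24 zg32) (kg xg20 yg51 zg2) (kg xg11 yg22 zg7) (kg xg20 yg35 zg61) (kg xg19 yg24 zg24) (kg xg11 yg24 zg51) (kg xg17 yg56 zg38) (kg xg18 yg43 zg56) (kg xg11 yg27 zg30) (kg xg11 yg22 zg15) (kg xg11 yg22 zg16) (kg xg19 yg46 zg58) (kg xg16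 yg51 zg48) (kg xg12 yg2 zg23) (kg xg22 yg56 zg47)) (@D3.rec (fun _ => Pt) (kg xg23 yg14 zg47) (kg xg20 yg52 zg33) (kg xg29 yg8 zg45) (kg xg11 yg38 zg53) (kg xg16 yg52 zg25) (kg xg29 yg24 zg35) (kg xg15 yg4 zg27) (kg xg11 yg50 zg19) (kg xg11 yg22 zg26) (kg xg28 yg33 zg40) (kg xg11 yg22 zg27) (kg xg29 yg24 zg38) (kg xg26 yg57 zg57) (kg xg21 yg9 zg5) (kg xg11 yg22 zg28) (kg xg27 yg13 zg30) (kg xg27 yg37 zg33) (kg xg21 yg30 zg25) (kg xg11 yg38 zg61) (kg xg26 yg53 zg6) (kg xg11 yg22 zg31) (kg xg11 yg37 zg21) (kg xg29 yg19 zg39) (kg xg11 yg22 zg33) (kg xg23 yg23 zg48) (kg xg29 yg22 zg56) (kg xg19 yg52 zg34) (kg xg20 yg45 zg50) (kg xg29 yg24 zg47) (kg xg29 yg23 zg60) (kg xg24 yg18 zg13) (kg xg20 yg50 zg54) (kg xg22 yg11 zg5) (kg xg29 yg22 zg48) (kg xg19 yg25 zg19) (kg xg27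 yg1 zg1) (kg xg24 yg32 zg8) (kg xg16 yg57 zg27) (kg xg27 yg22 zg21) (kg xg22 yg10 zg3) (kg xg25 yg26 zg16) (kg xg27 yg22 zg37) (kg xg15 yg25 zg46) (kg xg24 yg5 zg11) (kg xg20 yg28 zg22) (kg xg16 yg13 zg53) (kg xg21 yg15 zg18) (kg xg11 yg23 zg3) (kg xg11 yg23 zg6) (kg xg23 yg31 zg13) (kg xg20 yg14 zg49) (kg xg17 yg56 zg47) (kg xg18 yg12 zg38) (kg xg16 yg21 zg38) (kg xg26 yg49 zg53) (kg xg29 yg24 zg52) (kg xg29 yg12 zg10) (kg xg26 yg29 zg27) (kg xg18 yg58 zg26) (kg xg26 yg28 zg8) (kg xg19 yg2 zg27) (kg xg14 yg59 zg49)) (@D3.rec (fun _ => Pt) (kg xg21 yg12 zg37) (kg xg20 yg8 zg7) (kg xg26 yg31 zg31) (kg xg27 yg32 zg54) (kg xg21 yg13 zg27) (kg xg29 yg24 zg58) (kg xg28 yg31 zg59) (kg xg21 yg12 zg52) (kg xg11 yg23 zg25) (kg xg21 yg12 zg51) (kg xg27 yg38 zg45) (kg xg29 yg25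 zg4) (kg xg21 yg12 zg57) (kg xg11 yg23 zg29) (kg xg21 yg12 zg56) (kg xg18 yg33 zg12) (kg xg22 yg49 zg39) (kg xg13 yg14 zg34) (kg xg11 yg23 zg31) (kg xg13 yg30 zg55) (kg xg29 yg25 zg6) (kg xg19 yg4 zg56) (kg xg27 yg34 zg42) (kg xg11 yg23 zg37) (kg xg29 yg25 zg10) (kg xg27 yg34 zg41) (kg xg29 yg25 zg13) (kg xg29 yg25 zg14) (kg xg25 yg45 zg17) (kg xg21 yg13 zg23) (kg xg11 yg23 zg40) (kg xg19 yg22 zg38) (kg xg24 yg48 zg8) (kg xg21 yg15 zg6) (kg xg13 yg41 zg11) (kg xg27 yg33 zg18) (kg xg11 yg23 zg45) (kg xg17 yg54 zg34) (kg xg16 yg51 zg61) (kg xg20 yg10 zg30) (kg xg19 yg43 zg25) (kg xg16 yg51 zg57) (kg xg16 yg52 zg22) (kg xg20 yg11 zg26) (kg xg11 yg23 zg50) (kg xg20 yg11 zg25) (kg xg28 yg14 zg13) (kg xg18 yg55 zg27) (kg xg24 yg52 zg60) (kg xg22 yg34 zg14) (kg xg16 yg49 zg46)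 (kg xg21 yg44 zg23) (kg xg11 yg24 zg5) (kg xg11 yg24 zg7) (kg xg20 yg7 zg4) (kg xg29 yg19 zg44) (kg xg20 yg5 zg46) (kg xg11 yg24 zg6) (kg xg19 yg43 zg35) (kg xg26 yg5 zg58) (kg xg18 yg21 zg6) (kg xg11 yg24 zg13)) (@D3.rec (fun _ => Pt) (kg xg11 yg24 zg20) (kg xg17 yg58 zg5) (kg xg12 yg25 zg43) (kg xg11 yg24 zg32) (kg xg29 yg9 zg5) (kg xg21 yg3 zg29) (kg xg24 yg7 zg19) (kg xg17 yg58 zg49) (kg xg20 yg42 zg18) (kg xg14 yg11 zg53) (kg xg20 yg24 zg17) (kg xg16 yg58 zg26) (kg xg11 yg24 zg28) (kg xg17 yg58 zg46) (kg xg11 yg24 zg29) (kg xg20 yg5 zg60) (kg xg19 yg39 zg44) (kg xg17 yg55 zg16) (kg xg22 yg12 zg1) (kg xg11 yg24 zg36) (kg xg22 yg12 zg3) (kg xg26 yg49 zg35) (kg xg12 yg38 zg13) (kg xg25 yg19 zg3) (kg xg12 yg27 zg37) (kg xg11 yg24 zg52) (kg xg11 yg24 zg43) (kg xg21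 yg37 zg43) (kg xg12 yg9 zg51) (kg xg12 yg9 zg43) (kg xg12 yg17 zg28) (kg xg20 yg1 zg17) (kg xg11 yg24 zg53) (kg xg11 yg30 zg57) (kg xg29 yg25 zg35) (kg xg29 yg25 zg36) (kg xg21 yg3 zg7) (kg xg18 yg43 zg26) (kg xg28 yg47 zg27) (kg xg11 yg25 zg42) (kg xg11 yg26 zg37) (kg xg11 yg25 zg55) (kg xg11 yg25 zg17) (kg xg11 yg25 zg16) (kg xg11 yg25 zg14) (kg xg16 yg58 zg32) (kg xg23 yg30 zg46) (kg xg27 yg14 zg5) (kg xg20 yg27 zg31) (kg xg11 yg25 zg25) (kg xg14 yg4 zg57) (kg xg11 yg25 zg29) (kg xg26 yg58 zg28) (kg xg11 yg28 zg27) (kg xg22 yg11 zg4) (kg xg17 yg57 zg49) (kg xg27 yg42 zg55) (kg xg14 yg4 zg56) (kg xg14 yg4 zg55) (kg xg18 yg25 zg48) (kg xg20 yg33 zg0) (kg xg20 yg50 zg58)) (@D3.rec (fun _ => Pt) (kg xg14 yg4 zg40) (kg xg11 yg58 zg17) (kg xg14 yg37 zg0) (kg xg23 yg7 zg2)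 (kg xg29 yg25 zg41) (kg xg29 yg25 zg45) (kg xg20 yg26 zg59) (kg xg11 yg25 zg39) (kg xg15 yg23 zg16) (kg xg20 yg26 zg58) (kg xg20 yg46 zg13) (kg xg28 yg47 zg23) (kg xg20 yg51 zg47) (kg xg12 yg29 zg47) (kg xg20 yg5 zg5) (kg xg12 yg20 zg42) (kg xg17 yg16 zg41) (kg xg12 yg39 zg39) (kg xg11 yg25 zg47) (kg xg18 yg7 zg21) (kg xg27 yg17 zg8) (kg xg25 yg23 zg42) (kg xg11 yg26 zg17) (kg xg11 yg25 zg51) (kg xg29 yg25 zg56) (kg xg24 yg21 zg32) (kg xg27 yg39 zg17) (kg xg21 yg31 zg59) (kg xg29 yg7 zg17) (kg xg16 yg51 zg49) (kg xg27 yg57 zg21) (kg xg13 yg2 zg9) (kg xg17 yg31 zg34) (kg xg19 yg24 zg53) (kg xg22 yg4 zg32) (kg xg12 yg57 zg52) (kg xg20 yg49 zg18) (kg xg11 yg26 zg6) (kg xg14 yg16 zg60) (kg xg27 yg21 zg45) (kg xg14 yg39 zg0) (kg xg11 yg26 zg9) (kg xg11 yg46 zg46) (kg xg24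 yg2 zg51) (kg xg11 yg26 zg13) (kg xg11 yg26 zg11) (kg xg29 yg26 zg13) (kg xg22 yg27 zg42) (kg xg26 yg39 zg2) (kg xg28 yg35 zg12) (kg xg29 yg26 zg6) (kg xg29 yg26 zg21) (kg xg15 yg30 zg32) (kg xg28 yg17 zg50) (kg xg27 yg21 zg10) (kg xg20 yg27 zg2) (kg xg28 yg40 zg13) (kg xg11 yg26 zg16) (kg xg29 yg26 zg27) (kg xg29 yg26 zg31) (kg xg24 yg21 zg39) (kg xg27 yg42 zg56)) (@D3.rec (fun _ => Pt) (kg xg27 yg0 zg46) (kg xg17 yg7 zg36) (kg xg27 yg42 zg52) (kg xg21 yg52 zg25) (kg xg11 yg26 zg32) (kg xg11 yg26 zg23) (kg xg29 yg26 zg9) (kg xg16 yg55 zg33) (kg xg13 yg23 zg29) (kg xg19 yg52 zg29) (kg xg11 yg26 zg34) (kg xg11 yg26 zg27) (kg xg22 yg40 zg35) (kg xg27 yg57 zg20) (kg xg26 yg22 zg41) (kg xg11 yg26 zg29) (kg xg29 yg26 zg39) (kg xg27 yg42 zg14) (kg xg24 yg21 zg22) (kg xg29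 yg26 zg11) (kg xg28 yg34 zg17) (kg xg14 yg31 zg2) (kg xg26 yg6 zg32) (kg xg29 yg22 zg6) (kg xg17 yg9 zg12) (kg xg11 yg26 zg51) (kg xg27 yg0 zg44) (kg xg17 yg7 zg33) (kg xg20 yg28 zg30) (kg xg19 yg43 zg42) (kg xg11 yg26 zg42) (kg xg11 yg26 zg38) (kg xg22 yg40 zg23) (kg xg28 yg43 zg56) (kg xg29 yg26 zg43) (kg xg29 yg25 zg46) (kg xg29 yg25 zg40) (kg xg23 yg26 zg16) (kg xg17 yg53 zg14) (kg xg20 yg26 zg56) (kg xg13 yg22 zg12) (kg xg14 yg42 zg19) (kg xg23 yg30 zg4) (kg xg14 yg39 zg47) (kg xg29 yg26 zg32) (kg xg14 yg39 zg48) (kg xg27 yg42 zg53) (kg xg29 yg25 zg60) (kg xg20 yg52 zg9) (kg xg11 yg36 zg20) (kg xg19 yg48 zg57) (kg xg11 yg26 zg56) (kg xg18 yg50 zg9) (kg xg28 yg1 zg4) (kg xg11 yg26 zg59) (kg xg29 yg26 zg49) (kg xg23 yg26 zg1) (kg xg20 yg47 zg32) (kg xg23 yg29 zg24)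 (kg xg14 yg7 zg32) (kg xg20 yg17 zg12) (kg xg11 yg27 zg3)) (@D3.rec (fun _ => Pt) (kg xg23 yg12 zg14) (kg xg20 yg46 zg18) (kg xg19 yg53 zg10) (kg xg16 yg48 zg60) (kg xg27 yg41 zg58) (kg xg24 yg32 zg45) (kg xg24 yg53 zg33) (kg xg11 yg27 zg59) (kg xg21 yg16 zg16) (kg xg16 yg43 zg49) (kg xg11 yg27 zg12) (kg xg28 yg50 zg18) (kg xg19 yg51 zg55) (kg xg11 yg31 zg49) (kg xg19 yg51 zg57) (kg xg17 yg53 zg44) (kg xg21 yg16 zg15) (kg xg12 yg31 zg53) (kg xg11 yg27 zg18) (kg xg15 yg8 zg19) (kg xg29 yg27 zg4) (kg xg20 yg34 zg14) (kg xg17 yg4 zg43) (kg xg11 yg27 zg24) (kg xg19 yg52 zg27) (kg xg19 yg47 zg4) (kg xg17 yg9 zg8) (kg xg11 yg27 zg32) (kg xg16 yg51 zg53) (kg xg21 yg40 zg16) (kg xg12 yg10 zg2) (kg xg19 yg12 zg60) (kg xg11 yg27 zg49) (kg xg29 yg27 zg6) (kg xg28 yg0 zg59) (kg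 xg12 yg10 zg11) (kg xg24 yg2 zg17) (kg xg12 yg15 zg5) (kg xg11 yg27 zg61) (kg xg13 yg28 zg2) (kg xg13 yg32 zg5) (kg xg13 yg30 zg53) (kg xg11 yg28 zg2) (kg xg17 yg15 zg27) (kg xg11 yg48 zg27) (kg xg16 yg54 zg14) (kg xg12 yg4 zg26) (kg xg20 yg22 zg6) (kg xg19 yg27 zg26) (kg xg28 yg48 zg42) (kg xg16 yg56 zg42) (kg xg19 yg46 zg55) (kg xg20 yg13 zg58) (kg xg11 yg47 zg53) (kg xg19 yg52 zg36) (kg xg20 yg28 zg20) (kg xg11 yg28 zg26) (kg xg15 yg30 zg37) (kg xg11 yg28 zg34) (kg xg20 yg33 zg53) (kg xg13 yg5 zg47) (kg xg17 yg58 zg36)) (@D3.rec (fun _ => Pt) (kg xg14 yg4 zg50) (kg xg18 yg42 zg11) (kg xg12 yg48 zg56) (kg xg19 yg53 zg8) (kg xg12 yg30 zg13) (kg xg11 yg28 zg48) (kg xg20 yg32 zg56) (kg xg11 yg58 zg33) (kg xg21 yg22 zg50) (kg xg20 yg19 zg51) (kg xg20 yg50 zg59) (kg xg20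 yg51 zg39) (kg xg18 yg42 zg16) (kg xg20 yg51 zg40) (kg xg20 yg46 zg30) (kg xg21 yg41 zg43) (kg xg27 yg42 zg20) (kg xg20 yg28 zg8) (kg xg11 yg29 zg12) (kg xg11 yg34 zg25) (kg xg13 yg24 zg35) (kg xg21 yg15 zg11) (kg xg21 yg30 zg45) (kg xg21 yg12 zg28) (kg xg26 yg56 zg11) (kg xg12 yg46 zg43) (kg xg14 yg1 zg56) (kg xg18 yg24 zg38) (kg xg11 yg29 zg21) (kg xg29 yg27 zg14) (kg xg21 yg57 zg36) (kg xg17 yg26 zg54) (kg xg20 yg53 zg7) (kg xg28 yg35 zg2) (kg xg16 yg58 zg61) (kg xg25 yg21 zg14) (kg xg16 yg58 zg49) (kg xg29 yg2 zg48) (kg xg29 yg27 zg20) (kg xg16 yg58 zg52) (kg xg24 yg49 zg49) (kg xg24 yg33 zg20) (kg xg29 yg27 zg27) (kg xg20 yg42 zg13) (kg xg16 yg58 zg9) (kg xg29 yg14 zg21) (kg xg11 yg29 zg45) (kg xg11 yg29 zg44) (kg xg23 yg49 zg19) (kg xg21 yg34 zg61) (kg xg23 yg49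 zg23) (kg xg20 yg24 zg28) (kg xg28 yg55 zg34) (kg xg24 yg20 zg19) (kg xg11 yg30 zg29) (kg xg24 yg20 zg22) (kg xg20 yg24 zg35) (kg xg20 yg23 zg9) (kg xg11 yg29 zg49) (kg xg20 yg23 zg7) (kg xg26 yg53 zg22) (kg xg11 yg29 zg52)) (@D3.rec (fun _ => Pt) (kg xg24 yg18 zg61) (kg xg27 yg9 zg2) (kg xg20 yg23 zg52) (kg xg27 yg42 zg54) (kg xg26 yg26 zg47) (kg xg22 yg7 zg59) (kg xg16 yg57 zg47) (kg xg17 yg25 zg42) (kg xg22 yg7 zg57) (kg xg20 yg41 zg54) (kg xg14 yg19 zg36) (kg xg22 yg7 zg60) (kg xg16 yg57 zg49) (kg xg14 yg31 zg7) (kg xg11 yg30 zg1) (kg xg17 yg26 zg59) (kg xg14 yg31 zg5) (kg xg12 yg33 zg36) (kg xg23 yg55 zg42) (kg xg19 yg30 zg11) (kg xg24 yg12 zg21) (kg xg11 yg30 zg9) (kg xg24 yg12 zg38) (kg xg12 yg57 zg33) (kg xg13 yg12 zg59) (kg xg13 yg19 zg36) (kg xg22 yg20 zg10)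 (kg xg19 yg19 zg13) (kg xg20 yg22 zg48) (kg xg21 yg50 zg43) (kg xg11 yg30 zg17) (kg xg21 yg36 zg48) (kg xg14 yg35 zg45) (kg xg15 yg27 zg10) (kg xg14 yg35 zg28) (kg xg12 yg35 zg15) (kg xg12 yg20 zg29) (kg xg27 yg2 zg31) (kg xg11 yg30 zg32) (kg xg29 yg27 zg44) (kg xg20 yg19 zg15) (kg xg27 yg10 zg20) (kg xg20 yg40 zg17) (kg xg12 yg39 zg48) (kg xg20 yg25 zg21) (kg xg21 yg33 zg27) (kg xg11 yg30 zg35) (kg xg12 yg18 zg0) (kg xg11 yg30 zg53) (kg xg20 yg6 zg47) (kg xg23 yg34 zg34) (kg xg11 yg48 zg25) (kg xg20 yg0 zg37) (kg xg22 yg6 zg25) (kg xg29 yg22 zg2) (kg xg18 yg43 zg7) (kg xg26 yg10 zg22) (kg xg11 yg30 zg54) (kg xg21 yg52 zg54) (kg xg11 yg31 zg3) (kg xg11 yg58 zg30) (kg xg11 yg58 zg29)) (@D3.rec (fun _ => Pt) (kg xg21 yg31 zg58) (kg xg13 yg58 zg41) (kg xg13 yg58 zg38)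 (kg xg13 yg1 zg37) (kg xg13 yg1 zg51) (kg xg15 yg26 zg7) (kg xg12 yg30 zg54) (kg xg17 yg53 zg31) (kg xg20 yg25 zg61) (kg xg27 yg12 zg13) (kg xg17 yg1 zg26) (kg xg21 yg54 zg7) (kg xg21 yg24 zg2) (kg xg29 yg27 zg48) (kg xg17 yg53 zg55) (kg xg15 yg45 zg22) (kg xg11 yg31 zg40) (kg xg20 yg52 zg60) (kg xg19 yg11 zg5) (kg xg20 yg25 zg55) (kg xg11 yg31 zg44) (kg xg17 yg9 zg1) (kg xg14 yg45 zg58) (kg xg26 yg35 zg42) (kg xg17 yg18 zg39) (kg xg19 yg52 zg35) (kg xg24 yg53 zg29) (kg xg12 yg31 zg29) (kg xg11 yg31 zg53) (kg xg19 yg25 zg11) (kg xg20 yg38 zg0) (kg xg12 yg35 zg47) (kg xg11 yg31 zg56) (kg xg22 yg45 zg0) (kg xg20 yg22 zg7) (kg xg19 yg24 zg0) (kg xg19 yg23 zg59) (kg xg11 yg31 zg61) (kg xg29 yg27 zg59) (kg xg11 yg32 zg0) (kg xg19 yg45 zg27) (kg xg20 yg37 zg8) (kg xg20 yg18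 zg32) (kg xg23 yg5 zg42) (kg xg29 yg28 zg1) (kg xg20 yg7 zg31) (kg xg20 yg8 zg0) (kg xg11 yg32 zg6) (kg xg20 yg30 zg21) (kg xg11 yg32 zg7) (kg xg16 yg32 zg28) (kg xg23 yg11 zg3) (kg xg13 yg41 zg28) (kg xg29 yg2 zg54) (kg xg13 yg45 zg53) (kg xg13 yg42 zg18) (kg xg22 yg21 zg57) (kg xg14 yg28 zg18) (kg xg25 yg14 zg26) (kg xg21 yg0 zg16) (kg xg28 yg57 zg47) (kg xg25 yg23 zg27)) (@D3.rec (fun _ => Pt) (kg xg26 yg42 zg32) (kg xg23 yg24 zg3) (kg xg11 yg32 zg19) (kg xg19 yg33 zg27) (kg xg29 yg18 zg7) (kg xg20 yg39 zg24) (kg xg24 yg53 zg31) (kg xg19 yg40 zg25) (kg xg18 yg1 zg54) (kg xg19 yg26 zg1) (kg xg29 yg15 zg29) (kg xg11 yg43 zg9) (kg xg12 yg49 zg58) (kg xg11 yg42 zg51) (kg xg29 yg28 zg15) (kg xg20 yg41 zg33) (kg xg21 yg50 zg37) (kg xg25 yg6 zg53) (kg xg20 yg41 zg34) (kg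 xg15 yg33 zg39) (kg xg12 yg5 zg42) (kg xg17 yg1 zg59) (kg xg19 yg22 zg17) (kg xg11 yg32 zg32) (kg xg24 yg56 zg45) (kg xg16 yg25 zg21) (kg xg17 yg3 zg44) (kg xg29 yg28 zg23) (kg xg26 yg26 zg58) (kg xg11 yg32 zg35) (kg xg26 yg26 zg57) (kg xg25 yg5 zg12) (kg xg23 yg20 zg26) (kg xg28 yg20 zg43) (kg xg24 yg59 zg32) (kg xg11 yg32 zg38) (kg xg24 yg59 zg30) (kg xg25 yg27 zg42) (kg xg29 yg28 zg32) (kg xg25 yg50 zg5) (kg xg11 yg32 zg40) (kg xg26 yg24 zg24) (kg xg29 yg19 zg31) (kg xg25 yg28 zg11) (kg xg26 yg49 zg46) (kg xg29 yg28 zg35) (kg xg25 yg12 zg22) (kg xg18 yg59 zg35) (kg xg17 yg4 zg11) (kg xg23 yg56 zg57) (kg xg19 yg53 zg17) (kg xg19 yg26 zg24) (kg xg11 yg32 zg49) (kg xg23 yg28 zg17) (kg xg27 yg22 zg17) (kg xg17 yg22 zg33) (kg xg19 yg40 zg47) (kg xg11 yg54 zg2) (kg xg19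 yg40 zg38) (kg xg19 yg9 zg44) (kg xg11 yg32 zg57) (kg xg20 yg0 zg45)) (@D3.rec (fun _ => Pt) (kg xg16 yg51 zg24) (kg xg15 yg23 zg49) (kg xg17 yg15 zg8) (kg xg11 yg32 zg60) (kg xg24 yg56 zg58) (kg xg21 yg13 zg42) (kg xg23 yg4 zg13) (kg xg20 yg42 zg46) (kg xg17 yg18 zg35) (kg xg29 yg28 zg56) (kg xg17 yg18 zg33) (kg xg20 yg31 zg20) (kg xg29 yg19 zg19) (kg xg23 yg4 zg14) (kg xg17 yg0 zg56) (kg xg20 yg18 zg23) (kg xg26 yg55 zg35) (kg xg11 yg33 zg5) (kg xg20 yg28 zg45) (kg xg26 yg55 zg33) (kg xg29 yg29 zg3) (kg xg20 yg8 zg54) (kg xg11 yg33 zg9) (kg xg24 yg14 zg34) (kg xg29 yg29 zg7) (kg xg11 yg50 zg41) (kg xg11 yg33 zg14) (kg xg11 yg50 zg40) (kg xg24 yg3 zg24) (kg xg19 yg53 zg27) (kg xg11 yg50 zg56) (kg xg11 yg33 zg16) (kg xg11 yg50 zg55) (kg xg29 yg18 zg44) (kg xg11 yg33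 zg17) (kg xg14 yg29 zg34) (kg xg19 yg31 zg15) (kg xg11 yg48 zg34) (kg xg11 yg33 zg20) (kg xg11 yg33 zg24) (kg xg15 yg0 zg30) (kg xg13 yg16 zg49) (kg xg28 yg27 zg32) (kg xg26 yg48 zg54) (kg xg22 yg51 zg5) (kg xg14 yg59 zg47) (kg xg11 yg33 zg32) (kg xg14 yg59 zg46) (kg xg24 yg59 zg39) (kg xg20 yg41 zg1) (kg xg11 yg33 zg34) (kg xg28 yg42 zg32) (kg xg11 yg34 zg18) (kg xg24 yg47 zg53) (kg xg12 yg23 zg10) (kg xg28 yg45 zg54) (kg xg29 yg29 zg16) (kg xg11 yg34 zg32) (kg xg11 yg33 zg38) (kg xg29 yg29 zg17) (kg xg11 yg34 zg30) (kg xg11 yg34 zg46)) (@D3.rec (fun _ => Pt) (kg xg11 yg33 zg41) (kg xg29 yg29 zg18) (kg xg29 yg29 zg20) (kg xg15 yg23 zg38) (kg xg15 yg26 zg49) (kg xg20 yg47 zg2) (kg xg15 yg23 zg40) (kg xg29 yg29 zg23) (kg xg15 yg26 zg46) (kg xg17 yg23 zg61) (kg xg15 yg26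 zg38) (kg xg18 yg57 zg25) (kg xg11 yg33 zg51) (kg xg28 yg35 zg34) (kg xg24 yg5 zg34) (kg xg27 yg5 zg8) (kg xg12 yg7 zg39) (kg xg22 yg32 zg21) (kg xg11 yg33 zg57) (kg xg29 yg8 zg39) (kg xg20 yg30 zg14) (kg xg20 yg32 zg9) (kg xg12 yg7 zg45) (kg xg20 yg28 zg50) (kg xg26 yg55 zg36) (kg xg20 yg28 zg49) (kg xg29 yg29 zg35) (kg xg26 yg49 zg38) (kg xg13 yg33 zg12) (kg xg11 yg34 zg1) (kg xg16 yg32 zg46) (kg xg29 yg7 zg39) (kg xg21 yg13 zg32) (kg xg11 yg34 zg6) (kg xg19 yg50 zg18) (kg xg21 yg13 zg31) (kg xg12 yg46 zg42) (kg xg18 yg47 zg52) (kg xg26 yg24 zg59) (kg xg11 yg34 zg28) (kg xg11 yg34 zg15) (kg xg29 yg29 zg42) (kg xg21 yg14 zg8) (kg xg21 yg13 zg36) (kg xg29 yg29 zg46) (kg xg21 yg13 zg34) (kg xg20 yg46 zg61) (kg xg11 yg34 zg12) (kg xg28 yg47 zg37) (kg xg20 yg46 zg59) (kg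 xg17 yg15 zg13) (kg xg18 yg45 zg12) (kg xg26 yg53 zg19) (kg xg27 yg10 zg40) (kg xg29 yg29 zg51) (kg xg11 yg34 zg19) (kg xg18 yg41 zg34) (kg xg19 yg48 zg22) (kg xg16 yg25 zg31) (kg xg19 yg56 zg14) (kg xg11 yg58 zg49) (kg xg26 yg51 zg34)) (@D3.rec (fun _ => Pt) (kg xg11 yg34 zg27) (kg xg11 yg34 zg23) (kg xg11 yg34 zg24) (kg xg28 yg13 zg37) (kg xg22 yg37 zg56) (kg xg29 yg8 zg38) (kg xg20 yg1 zg22) (kg xg27 yg57 zg38) (kg xg29 yg19 zg7) (kg xg16 yg32 zg21) (kg xg17 yg9 zg17) (kg xg16 yg27 zg46) (kg xg19 yg21 zg14) (kg xg25 yg16 zg16) (kg xg20 yg1 zg16) (kg xg15 yg0 zg32) (kg xg13 yg47 zg51) (kg xg20 yg18 zg39) (kg xg11 yg34 zg31) (kg xg29 yg18 zg16) (kg xg23 yg20 zg43) (kg xg18 yg39 zg32) (kg xg27 yg1 zg17) (kg xg11 yg35 zg23) (kg xg24 yg29 zg8) (kg xg11 yg34 zg37) (kg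 xg11 yg34 zg35) (kg xg25 yg16 zg11) (kg xg16 yg10 zg26) (kg xg11 yg34 zg36) (kg xg13 yg31 zg44) (kg xg24 yg59 zg16) (kg xg25 yg16 zg10) (kg xg11 yg34 zg38) (kg xg23 yg20 zg19) (kg xg15 yg50 zg19) (kg xg13 yg59 zg54) (kg xg22 yg54 zg43) (kg xg21 yg2 zg44) (kg xg21 yg2 zg42) (kg xg11 yg34 zg41) (kg xg25 yg16 zg17) (kg xg25 yg18 zg24) (kg xg25 yg16 zg2) (kg xg28 yg25 zg57) (kg xg25 yg15 zg60) (kg xg26 yg10 zg6) (kg xg11 yg34 zg44) (kg xg26 yg10 zg9) (kg xg28 yg29 zg6) (kg xg11 yg35 zg49) (kg xg11 yg34 zg45) (kg xg20 yg7 zg56) (kg xg27 yg5 zg4) (kg xg25 yg16 zg9) (kg xg11 yg34 zg47) (kg xg13 yg1 zg41) (kg xg21 yg15 zg46) (kg xg17 yg58 zg30) (kg xg16 yg53 zg21) (kg xg19 yg48 zg48) (kg xg12 yg9 zg24)) (@D3.rec (fun _ => Pt) (kg xg12 yg15 zg29) (kg xg17 yg10 zg0) (kg xg14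 yg29 zg51) (kg xg11 yg35 zg7) (kg xg11 yg35 zg9) (kg xg12 yg50 zg0) (kg xg15 yg23 zg42) (kg xg29 yg30 zg10) (kg xg22 yg31 zg58) (kg xg13 yg48 zg28) (kg xg13 yg34 zg18) (kg xg11 yg35 zg12) (kg xg14 yg15 zg47) (kg xg15 yg27 zg0) (kg xg11 yg35 zg25) (kg xg11 yg35 zg15) (kg xg23 yg7 zg1) (kg xg17 yg24 zg2) (kg xg11 yg35 zg16) (kg xg29 yg30 zg19) (kg xg14 yg20 zg17) (kg xg19 yg43 zg19) (kg xg12 yg10 zg16) (kg xg14 yg1 zg1) (kg xg22 yg52 zg32) (kg xg22 yg30 zg49) (kg xg23 yg31 zg26) (kg xg22 yg31 zg30) (kg xg28 yg27 zg7) (kg xg11 yg35 zg24) (kg xg14 yg0 zg43) (kg xg28 yg53 zg40) (kg xg17 yg24 zg0) (kg xg14 yg19 zg45) (kg xg11 yg35 zg29) (kg xg18 yg39 zg35) (kg xg11 yg58 zg52) (kg xg14 yg26 zg15) (kg xg14 yg29 zg57) (kg xg11 yg35 zg37) (kg xg17 yg1 zg11) (kg xg22 yg23 zg12)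 (kg xg11 yg35 zg34) (kg xg21 yg52 zg24) (kg xg28 yg1 zg36) (kg xg25 yg18 zg48) (kg xg20 yg18 zg53) (kg xg29 yg30 zg33) (kg xg14 yg18 zg46) (kg xg23 yg58 zg10) (kg xg26 yg55 zg48) (kg xg17 yg20 zg55) (kg xg25 yg18 zg49) (kg xg25 yg18 zg37) (kg xg23 yg53 zg61) (kg xg29 yg30 zg39) (kg xg14 yg16 zg51) (kg xg18 yg57 zg26) (kg xg11 yg35 zg46) (kg xg29 yg30 zg46) (kg xg20 yg21 zg46) (kg xg22 yg54 zg8)) (@D3.rec (fun _ => Pt) (kg xg29 yg30 zg49) (kg xg23 yg6 zg4) (kg xg29 yg0 zg38) (kg xg11 yg35 zg50) (kg xg17 yg1 zg8) (kg xg28 yg35 zg30) (kg xg26 yg55 zg60) (kg xg13 yg0 zg50) (kg xg22 yg32 zg8) (kg xg27 yg59 zg56) (kg xg15 yg26 zg50) (kg xg21 yg39 zg54) (kg xg11 yg35 zg56) (kg xg22 yg8 zg28) (kg xg21 yg36 zg10) (kg xg12 yg56 zg55) (kg xg22 yg2 zg6) (kg xg18 yg57 zg41) (kg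 xg18 yg57 zg39) (kg xg18 yg10 zg55) (kg xg14 yg11 zg58) (kg xg24 yg20 zg42) (kg xg21 yg16 zg9) (kg xg13 yg10 zg47) (kg xg11 yg36 zg12) (kg xg12 yg4 zg42) (kg xg18 yg11 zg3) (kg xg26 yg58 zg0) (kg xg16 yg24 zg2) (kg xg16 yg35 zg48) (kg xg29 yg30 zg56) (kg xg12 yg35 zg13) (kg xg20 yg52 zg10) (kg xg24 yg43 zg24) (kg xg24 yg57 zg34) (kg xg20 yg6 zg55) (kg xg26 yg27 zg21) (kg xg26 yg27 zg7) (kg xg19 yg47 zg51) (kg xg18 yg50 zg37) (kg xg20 yg38 zg30) (kg xg11 yg50 zg2) (kg xg17 yg8 zg2) (kg xg11 yg36 zg31) (kg xg29 yg30 zg60) (kg xg17 yg59 zg10) (kg xg16 yg23 zg53) (kg xg26 yg26 zg53) (kg xg28 yg12 zg39) (kg xg26 yg24 zg50) (kg xg11 yg36 zg34) (kg xg29 yg31 zg1) (kg xg20 yg52 zg22) (kg xg17 yg5 zg52) (kg xg18 yg24 zg47) (kg xg18 yg24 zg37) (kg xg27 yg38 zg55) (kg xg24 yg19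 zg4) (kg xg19 yg26 zg30) (kg xg15 yg59 zg2) (kg xg26 yg23 zg61) (kg xg21 yg13 zg4)) (@D3.rec (fun _ => Pt) (kg xg15 yg6 zg9) (kg xg28 yg12 zg50) (kg xg28 yg12 zg57) (kg xg11 yg36 zg48) (kg xg27 yg9 zg40) (kg xg11 yg37 zg58) (kg xg16 yg57 zg56) (kg xg16 yg31 zg19) (kg xg16 yg31 zg14) (kg xg26 yg24 zg29) (kg xg16 yg29 zg55) (kg xg11 yg38 zg17) (kg xg11 yg36 zg54) (kg xg28 yg17 zg17) (kg xg26 yg26 zg20) (kg xg17 yg33 zg30) (kg xg11 yg59 zg9) (kg xg12 yg36 zg8) (kg xg27 yg38 zg36) (kg xg27 yg59 zg27) (kg xg21 yg30 zg19) (kg xg11 yg36 zg59) (kg xg27 yg37 zg49) (kg xg16 yg48 zg31) (kg xg28 yg44 zg33) (kg xg24 yg53 zg24) (kg xg11 yg39 zg16) (kg xg11 yg37 zg2) (kg xg24 yg17 zg6) (kg xg16 yg41 zg37) (kg xg11 yg39 zg14) (kg xg26 yg36 zg8) (kg xg17 yg7 zg9) (kg xg17 yg7 zg6) (kg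 xg29 yg31 zg25) (kg xg17 yg7 zg4) (kg xg14 yg45 zg47) (kg xg17 yg6 zg61) (kg xg19 yg13 zg51) (kg xg11 yg37 zg8) (kg xg27 yg17 zg10) (kg xg11 yg39 zg45) (kg xg11 yg37 zg9) (kg xg26 yg20 zg17) (kg xg29 yg31 zg37) (kg xg12 yg45 zg37) (kg xg11 yg37 zg11) (kg xg15 yg6 zg19) (kg xg23 yg3 zg53) (kg xg20 yg36 zg34) (kg xg12 yg22 zg21) (kg xg14 yg49 zg61) (kg xg11 yg50 zg7) (kg xg27 yg14 zg7) (kg xg26 yg58 zg10) (kg xg23 yg10 zg40) (kg xg11 yg37 zg24) (kg xg24 yg57 zg16) (kg xg27 yg57 zg56) (kg xg24 yg0 zg33) (kg xg11 yg37 zg28) (kg xg18 yg26 zg4)) (@D3.rec (fun _ => Pt) (kg xg20 yg17 zg14) (kg xg15 yg25 zg50) (kg xg11 yg37 zg35) (kg xg23 yg47 zg43) (kg xg26 yg48 zg40) (kg xg26 yg22 zg58) (kg xg11 yg37 zg41) (kg xg28 yg13 zg45) (kg xg13 yg38 zg51) (kg xg11 yg37 zg38) (kg xg27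 yg57 zg59) (kg xg15 yg14 zg1) (kg xg12 yg46 zg35) (kg xg11 yg37 zg44) (kg xg12 yg46 zg25) (kg xg12 yg53 zg8) (kg xg17 yg5 zg39) (kg xg29 yg22 zg20) (kg xg29 yg31 zg50) (kg xg11 yg37 zg48) (kg xg29 yg31 zg52) (kg xg15 yg49 zg19) (kg xg16 yg56 zg23) (kg xg11 yg37 zg54) (kg xg12 yg12 zg58) (kg xg27 yg0 zg57) (kg xg11 yg37 zg55) (kg xg11 yg37 zg52) (kg xg29 yg31 zg57) (kg xg11 yg37 zg53) (kg xg21 yg33 zg37) (kg xg29 yg31 zg58) (kg xg26 yg17 zg40) (kg xg22 yg47 zg12) (kg xg15 yg8 zg42) (kg xg17 yg45 zg42) (kg xg26 yg32 zg0) (kg xg28 yg35 zg26) (kg xg21 yg40 zg10) (kg xg29 yg31 zg61) (kg xg26 yg57 zg33) (kg xg25 yg59 zg16) (kg xg11 yg37 zg59) (kg xg25 yg57 zg34) (kg xg28 yg33 zg43) (kg xg27 yg0 zg1) (kg xg15 yg30 zg14) (kg xg29 yg32 zg4) (kg xg11 yg38 zg4) (kg xg11 yg38 zg1)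 (kg xg29 yg32 zg9) (kg xg29 yg32 zg13) (kg xg29 yg32 zg16) (kg xg11 yg38 zg2) (kg xg23 yg10 zg36) (kg xg19 yg25 zg48) (kg xg22 yg56 zg38) (kg xg29 yg32 zg14) (kg xg26 yg38 zg17) (kg xg18 yg19 zg54) (kg xg13 yg31 zg27) (kg xg22 yg55 zg28)) (@D3.rec (fun _ => Pt) (kg xg11 yg38 zg11) (kg xg11 yg38 zg7) (kg xg14 yg27 zg44) (kg xg26 yg27 zg54) (kg xg28 yg46 zg35) (kg xg29 yg31 zg12) (kg xg11 yg38 zg9) (kg xg28 yg17 zg10) (kg xg15 yg4 zg53) (kg xg28 yg35 zg1) (kg xg26 yg27 zg49) (kg xg14 yg27 zg27) (kg xg13 yg43 zg50) (kg xg11 yg38 zg12) (kg xg13 yg10 zg12) (kg xg29 yg32 zg28) (kg xg28 yg17 zg11) (kg xg29 yg32 zg30) (kg xg29 yg32 zg29) (kg xg13 yg10 zg13) (kg xg24 yg0 zg42) (kg xg24 yg0 zg43) (kg xg22 yg26 zg18) (kg xg13 yg10 zg22) (kg xg29 yg32 zg35) (kg xg19 yg6 zg61) (kg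 xg27 yg0 zg2) (kg xg11 yg38 zg18) (kg xg21 yg44 zg11) (kg xg11 yg38 zg21) (kg xg29 yg32 zg39) (kg xg21 yg30 zg28) (kg xg21 yg20 zg15) (kg xg22 yg2 zg44) (kg xg27 yg3 zg25) (kg xg19 yg27 zg56) (kg xg29 yg1 zg1) (kg xg21 yg20 zg7) (kg xg11 yg38 zg30) (kg xg28 yg36 zg57) (kg xg12 yg28 zg7) (kg xg24 yg19 zg5) (kg xg24 yg19 zg3) (kg xg29 yg6 zg9) (kg xg11 yg38 zg33) (kg xg21 yg20 zg22) (kg xg14 yg36 zg3) (kg xg29 yg9 zg4) (kg xg18 yg42 zg9) (kg xg28 yg43 zg8) (kg xg17 yg10 zg58) (kg xg18 yg37 zg35) (kg xg17 yg14 zg57) (kg xg17 yg14 zg56) (kg xg11 yg38 zg44) (kg xg24 yg19 zg6) (kg xg17 yg8 zg14) (kg xg21 yg45 zg44) (kg xg12 yg35 zg1) (kg xg28 yg1 zg0) (kg xg21 yg47 zg25) (kg xg26 yg46 zg20)) (@D3.rec (fun _ => Pt) (kg xg20 yg26 zg51) (kg xg11 yg38 zg52) (kg xg28 yg44 zg9)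 (kg xg11 yg38 zg49) (kg xg26 yg46 zg27) (kg xg24 yg20 zg2) (kg xg21 yg45 zg55) (kg xg16 yg47 zg7) (kg xg29 yg25 zg39) (kg xg22 yg36 zg13) (kg xg18 yg10 zg28) (kg xg29 yg15 zg28) (kg xg11 yg39 zg5) (kg xg11 yg38 zg57) (kg xg28 yg45 zg37) (kg xg17 yg49 zg17) (kg xg11 yg38 zg58) (kg xg27 yg0 zg50) (kg xg16 yg41 zg38) (kg xg16 yg39 zg5) (kg xg11 yg39 zg7) (kg xg11 yg38 zg60) (kg xg16 yg40 zg15) (kg xg29 yg32 zg59) (kg xg17 yg7 zg25) (kg xg27 yg51 zg22) (kg xg27 yg42 zg21) (kg xg27 yg59 zg34) (kg xg13 yg41 zg49) (kg xg20 yg52 zg26) (kg xg12 yg37 zg50) (kg xg29 yg33 zg1) (kg xg29 yg32 zg60) (kg xg16 yg39 zg36) (kg xg11 yg39 zg12) (kg xg11 yg39 zg9) (kg xg19 yg33 zg55) (kg xg28 yg44 zg22) (kg xg26 yg39 zg1) (kg xg29 yg25 zg58) (kg xg22 yg13 zg5) (kg xg26 yg34 zg45) (kg xg15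 yg4 zg48) (kg xg26 yg39 zg8) (kg xg28 yg18 zg12) (kg xg11 yg39 zg15) (kg xg29 yg33 zg10) (kg xg29 yg26 zg23) (kg xg27 yg0 zg7) (kg xg21 yg10 zg25) (kg xg28 yg38 zg26) (kg xg29 yg33 zg12) (kg xg26 yg39 zg20) (kg xg16 yg40 zg2) (kg xg26 yg57 zg30) (kg xg11 yg39 zg21) (kg xg19 yg14 zg0) (kg xg29 yg33 zg20) (kg xg27 yg10 zg28) (kg xg29 yg33 zg25) (kg xg11 yg56 zg30) (kg xg11 yg39 zg23)) (@D3.rec (fun _ => Pt) (kg xg29 yg33 zg32) (kg xg26 yg52 zg20) (kg xg27 yg0 zg10) (kg xg24 yg3 zg20) (kg xg27 yg0 zg9) (kg xg25 yg8 zg10) (kg xg29 yg27 zg52) (kg xg11 yg39 zg28) (kg xg29 yg27 zg53) (kg xg26 yg38 zg2) (kg xg26 yg7 zg57) (kg xg11 yg39 zg33) (kg xg11 yg39 zg29) (kg xg24 yg0 zg59) (kg xg26 yg2 zg54) (kg xg11 yg39 zg30) (kg xg26 yg36 zg7) (kg xg25 yg8 zg17) (kg xg29 yg33 zg49)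 (kg xg27 yg10 zg27) (kg xg24 yg35 zg17) (kg xg24 yg35 zg20) (kg xg29 yg33 zg55) (kg xg16 yg41 zg56) (kg xg21 yg51 zg57) (kg xg11 yg39 zg40) (kg xg11 yg39 zg37) (kg xg13 yg11 zg22) (kg xg26 yg1 zg42) (kg xg20 yg58 zg42) (kg xg11 yg39 zg39) (kg xg29 yg31 zg26) (kg xg29 yg34 zg5) (kg xg29 yg34 zg8) (kg xg26 yg36 zg31) (kg xg22 yg25 zg0) (kg xg29 yg34 zg1) (kg xg29 yg34 zg19) (kg xg19 yg28 zg59) (kg xg29 yg34 zg26) (kg xg29 yg31 zg38) (kg xg11 yg39 zg44) (kg xg28 yg40 zg31) (kg xg28 yg56 zg34) (kg xg27 yg0 zg8) (kg xg11 yg39 zg46) (kg xg16 yg37 zg2) (kg xg29 yg33 zg5) (kg xg21 yg58 zg6) (kg xg11 yg42 zg47) (kg xg17 yg24 zg6) (kg xg11 yg58 zg54) (kg xg11 yg42 zg42) (kg xg11 yg39 zg52) (kg xg29 yg34 zg39) (kg xg24 yg44 zg21) (kg xg20 yg45 zg55) (kg xg14 yg22 zg29) (kg xg20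 yg45 zg39) (kg xg11 yg41 zg54) (kg xg14 yg12 zg11) (kg xg12 yg26 zg14)) (@D3.rec (fun _ => Pt) (kg xg27 yg4 zg10) (kg xg17 yg4 zg25) (kg xg19 yg47 zg29) (kg xg21 yg1 zg51) (kg xg11 yg42 zg45) (kg xg27 yg21 zg41) (kg xg19 yg17 zg3) (kg xg11 yg40 zg4) (kg xg21 yg35 zg57) (kg xg23 yg59 zg15) (kg xg29 yg21 zg49) (kg xg11 yg40 zg7) (kg xg25 yg55 zg34) (kg xg23 yg6 zg5) (kg xg29 yg34 zg53) (kg xg13 yg5 zg44) (kg xg11 yg40 zg58) (kg xg20 yg34 zg21) (kg xg27 yg3 zg17) (kg xg18 yg0 zg33) (kg xg11 yg40 zg18) (kg xg18 yg0 zg32) (kg xg11 yg58 zg18) (kg xg11 yg40 zg25) (kg xg11 yg58 zg20) (kg xg12 yg44 zg4) (kg xg17 yg13 zg4) (kg xg27 yg55 zg39) (kg xg17 yg23 zg50) (kg xg29 yg34 zg56) (kg xg18 yg24 zg53) (kg xg11 yg42 zg14) (kg xg12 yg4 zg13) (kg xg11 yg40 zg48) (kg xg21 yg16 zg28)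 (kg xg11 yg40 zg50) (kg xg21 yg39 zg6) (kg xg18 yg57 zg52) (kg xg11 yg40 zg51) (kg xg29 yg34 zg60) (kg xg11 yg58 zg47) (kg xg24 yg39 zg8) (kg xg19 yg5 zg30) (kg xg11 yg41 zg12) (kg xg14 yg12 zg54) (kg xg16 yg54 zg52) (kg xg11 yg41 zg2) (kg xg23 yg49 zg20) (kg xg16 yg54 zg21) (kg xg11 yg41 zg3) (kg xg26 yg50 zg25) (kg xg20 yg44 zg48) (kg xg29 yg22 zg51) (kg xg27 yg3 zg18) (kg xg11 yg41 zg7) (kg xg23 yg46 zg42) (kg xg13 yg5 zg46) (kg xg22 yg15 zg55) (kg xg11 yg58 zg59) (kg xg16 yg59 zg45) (kg xg12 yg13 zg1) (kg xg28 yg25 zg9)) (@D3.rec (fun _ => Pt) (kg xg27 yg8 zg6) (kg xg20 yg30 zg50) (kg xg28 yg56 zg20) (kg xg11 yg41 zg15) (kg xg29 yg35 zg7) (kg xg26 yg29 zg25) (kg xg14 yg12 zg33) (kg xg11 yg41 zg18) (kg xg21 yg11 zg49) (kg xg15 yg8 zg30) (kg xg27 yg8 zg27) (kg xg17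 yg2 zg33) (kg xg17 yg8 zg15) (kg xg13 yg8 zg31) (kg xg27 yg12 zg48) (kg xg11 yg41 zg23) (kg xg22 yg24 zg14) (kg xg11 yg42 zg28) (kg xg11 yg42 zg30) (kg xg11 yg41 zg25) (kg xg29 yg35 zg15) (kg xg13 yg9 zg2) (kg xg17 yg32 zg31) (kg xg11 yg59 zg3) (kg xg29 yg35 zg19) (kg xg11 yg42 zg40) (kg xg11 yg41 zg28) (kg xg24 yg15 zg49) (kg xg11 yg42 zg50) (kg xg11 yg41 zg30) (kg xg29 yg35 zg27) (kg xg23 yg1 zg31) (kg xg14 yg51 zg21) (kg xg20 yg29 zg18) (kg xg20 yg29 zg15) (kg xg27 yg30 zg16) (kg xg11 yg41 zg35) (kg xg14 yg51 zg14) (kg xg19 yg50 zg12) (kg xg11 yg41 zg40) (kg xg16 yg58 zg33) (kg xg11 yg41 zg58) (kg xg19 yg59 zg19) (kg xg16 yg57 zg58) (kg xg20 yg26 zg52) (kg xg24 yg6 zg8) (kg xg21 yg14 zg7) (kg xg14 yg16 zg1) (kg xg11 yg41 zg46) (kg xg29 yg35 zg42) (kg xg22 yg59 zg5)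 (kg xg13 yg19 zg34) (kg xg24 yg18 zg40) (kg xg29 yg35 zg45) (kg xg24 yg12 zg37) (kg xg24 yg12 zg30) (kg xg11 yg41 zg50) (kg xg23 yg48 zg8) (kg xg22 yg7 zg47) (kg xg11 yg41 zg55) (kg xg17 yg31 zg27) (kg xg26 yg56 zg37)) (@D3.rec (fun _ => Pt) (kg xg26 yg46 zg50) (kg xg29 yg35 zg33) (kg xg11 yg41 zg59) (kg xg29 yg35 zg58) (kg xg24 yg52 zg51) (kg xg16 yg58 zg36) (kg xg23 yg37 zg45) (kg xg19 yg26 zg57) (kg xg27 yg30 zg17) (kg xg11 yg42 zg1) (kg xg29 yg0 zg3) (kg xg29 yg36 zg10) (kg xg28 yg36 zg44) (kg xg11 yg42 zg2) (kg xg16 yg58 zg45) (kg xg29 yg15 zg18) (kg xg20 yg54 zg22) (kg xg26 yg59 zg18) (kg xg21 yg45 zg4) (kg xg21 yg3 zg47) (kg xg23 yg47 zg7) (kg xg11 yg42 zg8) (kg xg21 yg26 zg31) (kg xg17 yg35 zg0) (kg xg11 yg42 zg9) (kg xg18 yg26 zg20) (kg xg18 yg16 zg61) (kg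 xg17 yg56 zg5) (kg xg19 yg46 zg49) (kg xg14 yg32 zg52) (kg xg20 yg46 zg27) (kg xg17 yg58 zg13) (kg xg24 yg15 zg13) (kg xg14 yg24 zg59) (kg xg11 yg47 zg56) (kg xg20 yg49 zg29) (kg xg11 yg42 zg21) (kg xg20 yg49 zg28) (kg xg29 yg36 zg26) (kg xg24 yg6 zg10) (kg xg21 yg31 zg57) (kg xg19 yg52 zg33) (kg xg27 yg6 zg52) (kg xg24 yg6 zg18) (kg xg14 yg16 zg2) (kg xg22 yg39 zg28) (kg xg26 yg50 zg18) (kg xg17 yg58 zg11) (kg xg29 yg36 zg34) (kg xg27 yg43 zg16) (kg xg17 yg23 zg38) (kg xg29 yg36 zg35) (kg xg22 yg14 zg1) (kg xg11 yg42 zg29) (kg xg23 yg13 zg17) (kg xg29 yg35 zg16) (kg xg20 yg28 zg5) (kg xg11 yg42 zg35) (kg xg11 yg42 zg32) (kg xg27 yg13 zg11) (kg xg29 yg36 zg51) (kg xg13 yg8 zg18)) (@D3.rec (fun _ => Pt) (kg xg29 yg36 zg53) (kg xg24 yg2 zg43) (kg xg29 yg36 zg48) (kg xg22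 yg24 zg18) (kg xg22 yg12 zg35) (kg xg29 yg36 zg57) (kg xg29 yg35 zg1) (kg xg21 yg3 zg23) (kg xg13 yg12 zg21) (kg xg22 yg16 zg4) (kg xg11 yg42 zg39) (kg xg29 yg37 zg1) (kg xg23 yg1 zg28) (kg xg29 yg35 zg24) (kg xg27 yg7 zg21) (kg xg27 yg6 zg35) (kg xg29 yg34 zg41) (kg xg22 yg14 zg13) (kg xg15 yg20 zg50) (kg xg19 yg49 zg51) (kg xg23 yg26 zg28) (kg xg29 yg0 zg20) (kg xg21 yg2 zg2) (kg xg12 yg29 zg14) (kg xg14 yg50 zg45) (kg xg28 yg57 zg21) (kg xg15 yg39 zg39) (kg xg28 yg57 zg22) (kg xg29 yg34 zg37) (kg xg11 yg42 zg49) (kg xg13 yg36 zg22) (kg xg29 yg37 zg16) (kg xg29 yg35 zg29) (kg xg12 yg49 zg1) (kg xg24 yg38 zg24) (kg xg29 yg37 zg18) (kg xg11 yg56 zg16) (kg xg11 yg42 zg54) (kg xg29 yg16 zg47) (kg xg19 yg49 zg49) (kg xg29 yg37 zg24) (kg xg17 yg45 zg11) (kg xg17 yg56 zg20)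 (kg xg25 yg33 zg1) (kg xg11 yg42 zg60) (kg xg25 yg14 zg29) (kg xg27 yg30 zg21) (kg xg11 yg43 zg2) (kg xg14 yg51 zg19) (kg xg23 yg1 zg13) (kg xg29 yg37 zg31) (kg xg15 yg18 zg3) (kg xg25 yg37 zg33) (kg xg25 yg6 zg55) (kg xg11 yg43 zg6) (kg xg28 yg21 zg23) (kg xg12 yg57 zg19) (kg xg15 yg39 zg43) (kg xg25 yg14 zg30) (kg xg25 yg36 zg7) (kg xg14 yg51 zg20) (kg xg17 yg26 zg15)) (@D3.rec (fun _ => Pt) (kg xg29 yg37 zg43) (kg xg13 yg32 zg46) (kg xg13 yg32 zg44) (kg xg29 yg37 zg46) (kg xg12 yg49 zg55) (kg xg29 yg37 zg49) (kg xg21 yg36 zg5) (kg xg29 yg25 zg29) (kg xg17 yg24 zg42) (kg xg11 yg43 zg16) (kg xg29 yg37 zg53) (kg xg17 yg24 zg40) (kg xg27 yg16 zg8) (kg xg21 yg16 zg3) (kg xg13 yg11 zg5) (kg xg12 yg52 zg6) (kg xg11 yg43 zg19) (kg xg29 yg37 zg61) (kg xg27 yg7 zg31) (kg xg13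 yg12 zg11) (kg xg27 yg12 zg42) (kg xg13 yg47 zg26) (kg xg13 yg7 zg35) (kg xg11 yg46 zg12) (kg xg11 yg43 zg23) (kg xg13 yg52 zg18) (kg xg11 yg46 zg10) (kg xg21 yg52 zg29) (kg xg13 yg11 zg12) (kg xg13 yg12 zg24) (kg xg21 yg52 zg27) (kg xg20 yg48 zg43) (kg xg20 yg45 zg9) (kg xg13 yg7 zg29) (kg xg11 yg43 zg29) (kg xg17 yg26 zg32) (kg xg24 yg25 zg58) (kg xg25 yg18 zg29) (kg xg26 yg54 zg8) (kg xg14 yg36 zg58) (kg xg11 yg47 zg8) (kg xg23 yg38 zg2) (kg xg23 yg38 zg1) (kg xg11 yg47 zg20) (kg xg11 yg47 zg19) (kg xg22 yg25 zg48) (kg xg11 yg43 zg35) (kg xg22 yg26 zg20) (kg xg20 yg40 zg15) (kg xg11 yg43 zg43) (kg xg16 yg31 zg34) (kg xg29 yg22 zg27) (kg xg11 yg43 zg41) (kg xg11 yg44 zg4) (kg xg24 yg21 zg47) (kg xg12 yg56 zg14) (kg xg29 yg22 zg12) (kg xg29 yg38 zg17) (kg xg24 yg33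 zg10) (kg xg18 yg0 zg24) (kg xg11 yg43 zg49) (kg xg28 yg32 zg16)) (@D3.rec (fun _ => Pt) (kg xg18 yg0 zg22) (kg xg14 yg11 zg17) (kg xg18 yg0 zg28) (kg xg11 yg43 zg51) (kg xg13 yg9 zg25) (kg xg18 yg0 zg26) (kg xg19 yg53 zg12) (kg xg19 yg47 zg47) (kg xg17 yg24 zg7) (kg xg20 yg44 zg31) (kg xg13 yg0 zg58) (kg xg23 yg11 zg47) (kg xg14 yg13 zg43) (kg xg11 yg44 zg5) (kg xg29 yg38 zg24) (kg xg11 yg44 zg8) (kg xg26 yg23 zg33) (kg xg11 yg44 zg6) (kg xg26 yg23 zg29) (kg xg21 yg12 zg31) (kg xg28 yg23 zg0) (kg xg12 yg37 zg37) (kg xg22 yg18 zg20) (kg xg29 yg38 zg25) (kg xg11 yg44 zg9) (kg xg23 yg7 zg26) (kg xg22 yg50 zg12) (kg xg16 yg29 zg32) (kg xg20 yg15 zg44) (kg xg11 yg44 zg12) (kg xg29 yg3 zg4) (kg xg22 yg6 zg30) (kg xg18 yg0 zg2) (kg xg18 yg7 zg14) (kg xg26 yg51 zg9) (kg xg17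 yg23 zg26) (kg xg22 yg42 zg28) (kg xg22 yg18 zg2) (kg xg20 yg46 zg53) (kg xg14 yg52 zg48) (kg xg13 yg53 zg48) (kg xg17 yg23 zg31) (kg xg23 yg7 zg33) (kg xg22 yg18 zg16) (kg xg11 yg44 zg21) (kg xg29 yg38 zg45) (kg xg18 yg5 zg54) (kg xg27 yg12 zg30) (kg xg29 yg38 zg48) (kg xg19 yg51 zg56) (kg xg24 yg56 zg15) (kg xg16 yg48 zg61) (kg xg11 yg44 zg26) (kg xg14 yg4 zg15) (kg xg29 yg7 zg8) (kg xg13 yg10 zg17) (kg xg21 yg39 zg7) (kg xg14 yg35 zg24) (kg xg29 yg38 zg54) (kg xg27 yg10 zg54) (kg xg11 yg44 zg37) (kg xg29 yg8 zg23)) (@D3.rec (fun _ => Pt) (kg xg14 yg20 zg18) (kg xg19 yg23 zg21) (kg xg11 yg44 zg42) (kg xg11 yg44 zg40) (kg xg24 yg30 zg10) (kg xg23 yg55 zg24) (kg xg27 yg10 zg30) (kg xg20 yg19 zg10) (kg xg17 yg23 zg18) (kg xg12 yg55 zg49) (kg xg22 yg42 zg31) (kg xg27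 yg21 zg4) (kg xg11 yg44 zg53) (kg xg20 yg22 zg38) (kg xg17 yg24 zg3) (kg xg11 yg44 zg59) (kg xg27 yg10 zg24) (kg xg24 yg2 zg42) (kg xg21 yg47 zg26) (kg xg19 yg41 zg25) (kg xg11 yg59 zg2) (kg xg20 yg47 zg13) (kg xg29 yg39 zg3) (kg xg24 yg39 zg11) (kg xg11 yg58 zg41) (kg xg27 yg6 zg34) (kg xg27 yg38 zg1) (kg xg11 yg45 zg12) (kg xg21 yg38 zg47) (kg xg18 yg57 zg60) (kg xg12 yg38 zg40) (kg xg18 yg1 zg12) (kg xg12 yg3 zg12) (kg xg14 yg19 zg12) (kg xg18 yg49 zg58) (kg xg23 yg0 zg16) (kg xg28 yg2 zg42) (kg xg29 yg39 zg6) (kg xg11 yg45 zg24) (kg xg27 yg12 zg17) (kg xg29 yg39 zg8) (kg xg28 yg21 zg19) (kg xg17 yg11 zg19) (kg xg18 yg47 zg20) (kg xg21 yg3 zg33) (kg xg13 yg37 zg2) (kg xg24 yg15 zg22) (kg xg13 yg7 zg12) (kg xg18 yg53 zg25) (kg xg24 yg15 zg27) (kg xg11 yg45 zg33) (kg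 xg29 yg39 zg16) (kg xg26 yg21 zg9) (kg xg20 yg45 zg41) (kg xg22 yg15 zg45) (kg xg22 yg34 zg15) (kg xg24 yg21 zg23) (kg xg22 yg22 zg50) (kg xg20 yg31 zg49) (kg xg11 yg45 zg40) (kg xg27 yg21 zg59) (kg xg20 yg31 zg47)) (@D3.rec (fun _ => Pt) (kg xg23 yg52 zg61) (kg xg14 yg30 zg1) (kg xg20 yg33 zg20) (kg xg22 yg23 zg11) (kg xg23 yg56 zg46) (kg xg28 yg37 zg12) (kg xg23 yg45 zg31) (kg xg21 yg51 zg15) (kg xg22 yg25 zg31) (kg xg11 yg45 zg47) (kg xg18 yg0 zg23) (kg xg15 yg24 zg58) (kg xg24 yg11 zg14) (kg xg13 yg9 zg13) (kg xg28 yg21 zg59) (kg xg29 yg39 zg28) (kg xg17 yg24 zg38) (kg xg29 yg39 zg29) (kg xg28 yg15 zg26) (kg xg13 yg3 zg48) (kg xg11 yg45 zg54) (kg xg21 yg47 zg40) (kg xg27 yg12 zg44) (kg xg20 yg41 zg6) (kg xg18 yg49 zg51) (kg xg12 yg47 zg29) (kg xg27 yg38 zg31) (kg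 xg11 yg46 zg0) (kg xg29 yg39 zg37) (kg xg23 yg6 zg25) (kg xg22 yg37 zg20) (kg xg22 yg37 zg21) (kg xg29 yg39 zg39) (kg xg22 yg39 zg19) (kg xg29 yg39 zg41) (kg xg21 yg27 zg0) (kg xg11 yg46 zg7) (kg xg20 yg48 zg55) (kg xg29 yg39 zg44) (kg xg11 yg46 zg5) (kg xg20 yg46 zg41) (kg xg29 yg25 zg31) (kg xg11 yg46 zg6) (kg xg23 yg45 zg47) (kg xg29 yg7 zg15) (kg xg13 yg12 zg15) (kg xg22 yg19 zg35) (kg xg22 yg58 zg53) (kg xg19 yg22 zg28) (kg xg13 yg20 zg22) (kg xg27 yg10 zg34) (kg xg29 yg39 zg52) (kg xg22 yg25 zg33) (kg xg24 yg17 zg56) (kg xg11 yg46 zg11) (kg xg22 yg23 zg58) (kg xg25 yg56 zg16) (kg xg22 yg24 zg16) (kg xg13 yg11 zg32) (kg xg20 yg52 zg32) (kg xg11 yg46 zg23) (kg xg20 yg35 zg51)) (@D3.rec (fun _ => Pt) (kg xg24 yg12 zg0) (kg xg17 yg11 zg22) (kg xg22 yg25 zg30) (kg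 xg11 yg46 zg24) (kg xg11 yg46 zg18) (kg xg29 yg39 zg61) (kg xg13 yg7 zg39) (kg xg11 yg46 zg19) (kg xg11 yg46 zg29) (kg xg21 yg52 zg30) (kg xg11 yg46 zg22) (kg xg22 yg19 zg17) (kg xg14 yg41 zg5) (kg xg21 yg52 zg55) (kg xg22 yg58 zg44) (kg xg11 yg46 zg30) (kg xg11 yg46 zg26) (kg xg28 yg53 zg13) (kg xg20 yg23 zg47) (kg xg22 yg25 zg16) (kg xg29 yg28 zg51) (kg xg23 yg45 zg41) (kg xg29 yg40 zg14) (kg xg13 yg13 zg20) (kg xg22 yg53 zg19) (kg xg13 yg11 zg53) (kg xg29 yg40 zg20) (kg xg14 yg40 zg30) (kg xg29 yg40 zg25) (kg xg11 yg46 zg35) (kg xg29 yg40 zg26) (kg xg25 yg47 zg20) (kg xg29 yg40 zg29) (kg xg28 yg15 zg24) (kg xg20 yg47 zg53) (kg xg24 yg25 zg57) (kg xg18 yg0 zg56) (kg xg22 yg3 zg28) (kg xg11 yg46 zg40) (kg xg27 yg43 zg41) (kg xg29 yg40 zg36) (kg xg14 yg50 zg33) (kg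 xg29 yg26 zg7) (kg xg20 yg44 zg32) (kg xg22 yg26 zg42) (kg xg24 yg24 zg53) (kg xg29 yg38 zg16) (kg xg21 yg49 zg39) (kg xg24 yg5 zg54) (kg xg11 yg46 zg50) (kg xg24 yg21 zg44) (kg xg26 yg57 zg19) (kg xg12 yg51 zg5) (kg xg22 yg17 zg61) (kg xg17 yg12 zg18) (kg xg20 yg47 zg45) (kg xg22 yg19 zg14) (kg xg29 yg32 zg32) (kg xg22 yg19 zg42) (kg xg11 yg46 zg55) (kg xg27 yg36 zg1) (kg xg11 yg46 zg57)) (@D3.rec (fun _ => Pt) (kg xg20 yg40 zg41) (kg xg29 yg40 zg59) (kg xg20 yg14 zg37) (kg xg21 yg38 zg57) (kg xg20 yg14 zg41) (kg xg20 yg14 zg51) (kg xg26 yg45 zg48) (kg xg20 yg14 zg54) (kg xg11 yg47 zg2) (kg xg29 yg18 zg25) (kg xg27 yg29 zg23) (kg xg21 yg21 zg26) (kg xg19 yg26 zg18) (kg xg27 yg50 zg42) (kg xg11 yg47 zg11) (kg xg23 yg14 zg38) (kg xg23 yg6 zg51) (kg xg20 yg23 zg36) (kg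 xg11 yg47 zg12) (kg xg20 yg17 zg20) (kg xg24 yg30 zg9) (kg xg24 yg5 zg55) (kg xg11 yg47 zg21) (kg xg14 yg40 zg51) (kg xg11 yg47 zg23) (kg xg16 yg31 zg37) (kg xg20 yg17 zg60) (kg xg20 yg42 zg37) (kg xg11 yg47 zg27) (kg xg20 yg42 zg36) (kg xg29 yg35 zg0) (kg xg11 yg47 zg28) (kg xg29 yg23 zg40) (kg xg11 yg47 zg29) (kg xg11 yg58 zg56) (kg xg19 yg53 zg46) (kg xg24 yg14 zg60) (kg xg12 yg50 zg7) (kg xg24 yg16 zg11) (kg xg29 yg23 zg37) (kg xg11 yg47 zg33) (kg xg29 yg23 zg36) (kg xg29 yg41 zg19) (kg xg29 yg41 zg22) (kg xg29 yg41 zg26) (kg xg20 yg28 zg39) (kg xg19 yg45 zg15) (kg xg17 yg58 zg51) (kg xg11 yg47 zg39) (kg xg26 yg23 zg27) (kg xg22 yg52 zg33) (kg xg29 yg41 zg31) (kg xg16 yg1 zg46) (kg xg12 yg30 zg31) (kg xg11 yg47 zg41) (kg xg19 yg24 zg50) (kg xg12 yg24 zg55) (kg xg11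 yg47 zg54) (kg xg15 yg28 zg52) (kg xg20 yg1 zg43) (kg xg19 yg43 zg58) (kg xg29 yg23 zg45)) (@D3.rec (fun _ => Pt) (kg xg11 yg47 zg46) (kg xg29 yg23 zg44) (kg xg29 yg41 zg42) (kg xg25 yg10 zg36) (kg xg29 yg41 zg47) (kg xg16 yg45 zg35) (kg xg29 yg41 zg51) (kg xg16 yg45 zg34) (kg xg21 yg37 zg49) (kg xg24 yg35 zg24) (kg xg24 yg33 zg38) (kg xg11 yg47 zg52) (kg xg24 yg4 zg55) (kg xg23 yg7 zg50) (kg xg29 yg41 zg57) (kg xg29 yg23 zg50) (kg xg11 yg47 zg55) (kg xg15 yg31 zg37) (kg xg29 yg40 zg2) (kg xg29 yg41 zg59) (kg xg29 yg42 zg0) (kg xg27 yg24 zg0) (kg xg24 yg33 zg50) (kg xg29 yg42 zg2) (kg xg22 yg3 zg34) (kg xg15 yg31 zg48) (kg xg22 yg55 zg21) (kg xg28 yg58 zg18) (kg xg26 yg44 zg42) (kg xg24 yg5 zg37) (kg xg29 yg23 zg52) (kg xg11 yg47 zg61) (kg xg29 yg42 zg12) (kg xg17 yg25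 zg48) (kg xg26 yg30 zg59) (kg xg22 yg54 zg55) (kg xg25 yg8 zg59) (kg xg27 yg15 zg53) (kg xg29 yg34 zg54) (kg xg11 yg48 zg2) (kg xg25 yg55 zg54) (kg xg11 yg48 zg5) (kg xg13 yg23 zg25) (kg xg11 yg48 zg35) (kg xg11 yg48 zg8) (kg xg13 yg50 zg26) (kg xg11 yg48 zg9) (kg xg19 yg48 zg60) (kg xg22 yg0 zg58) (kg xg11 yg48 zg18) (kg xg21 yg31 zg61) (kg xg19 yg49 zg24) (kg xg20 yg20 zg31) (kg xg16 yg56 zg43) (kg xg26 yg55 zg28) (kg xg19 yg51 zg58) (kg xg23 yg30 zg44) (kg xg29 yg27 zg47) (kg xg20 yg39 zg59) (kg xg27 yg41 zg7) (kg xg20 yg25 zg7) (kg xg20 yg19 zg48)) (@D3.rec (fun _ => Pt) (kg xg28 yg26 zg59) (kg xg17 yg11 zg0) (kg xg23 yg57 zg39) (kg xg23 yg3 zg37) (kg xg13 yg16 zg43) (kg xg20 yg25 zg22) (kg xg12 yg43 zg46) (kg xg11 yg48 zg37) (kg xg26 yg41 zg46) (kg xg27 yg36 zg22)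 (kg xg16 yg48 zg50) (kg xg12 yg53 zg49) (kg xg11 yg48 zg39) (kg xg21 yg52 zg21) (kg xg12 yg56 zg4) (kg xg12 yg53 zg51) (kg xg21 yg52 zg4) (kg xg20 yg37 zg56) (kg xg12 yg36 zg11) (kg xg15 yg5 zg11) (kg xg11 yg48 zg52) (kg xg11 yg49 zg12) (kg xg20 yg34 zg12) (kg xg12 yg41 zg7) (kg xg11 yg49 zg6) (kg xg12 yg36 zg15) (kg xg12 yg54 zg50) (kg xg11 yg48 zg59) (kg xg16 yg6 zg14) (kg xg12 yg36 zg57) (kg xg20 yg53 zg38) (kg xg12 yg36 zg55) (kg xg12 yg39 zg24) (kg xg29 yg42 zg28) (kg xg27 yg38 zg19) (kg xg12 yg40 zg57) (kg xg14 yg20 zg56) (kg xg18 yg24 zg19) (kg xg11 yg49 zg9) (kg xg27 yg41 zg1) (kg xg20 yg23 zg35) (kg xg14 yg33 zg7) (kg xg11 yg59 zg8) (kg xg27 yg43 zg27) (kg xg17 yg50 zg34) (kg xg12 yg35 zg22) (kg xg17 yg8 zg53) (kg xg17 yg5 zg54) (kg xg21 yg44 zg4) (kg xg20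 yg2 zg0) (kg xg11 yg49 zg16) (kg xg12 yg14 zg33) (kg xg18 yg43 zg36) (kg xg26 yg57 zg53) (kg xg20 yg5 zg28) (kg xg18 yg25 zg44) (kg xg11 yg49 zg36) (kg xg21 yg57 zg58) (kg xg12 yg37 zg27) (kg xg20 yg39 zg4) (kg xg26 yg49 zg15) (kg xg19 yg34 zg28)) (@D3.rec (fun _ => Pt) (kg xg20 yg8 zg34) (kg xg13 yg28 zg21) (kg xg18 yg1 zg30) (kg xg14 yg43 zg11) (kg xg29 yg6 zg43) (kg xg18 yg43 zg2) (kg xg17 yg9 zg52) (kg xg26 yg50 zg27) (kg xg14 yg40 zg57) (kg xg20 yg24 zg52) (kg xg15 yg8 zg41) (kg xg27 yg0 zg55) (kg xg17 yg23 zg53) (kg xg26 yg52 zg36) (kg xg12 yg36 zg25) (kg xg20 yg14 zg55) (kg xg20 yg20 zg3) (kg xg12 yg36 zg23) (kg xg21 yg28 zg44) (kg xg15 yg25 zg54) (kg xg27 yg0 zg53) (kg xg11 yg50 zg10) (kg xg16 yg27 zg37) (kg xg11 yg50 zg14) (kg xg11 yg50 zg12) (kg xg29 yg31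 zg42) (kg xg18 yg25 zg20) (kg xg29 yg42 zg34) (kg xg29 yg31 zg43) (kg xg16 yg53 zg56) (kg xg20 yg47 zg59) (kg xg17 yg25 zg1) (kg xg15 yg5 zg30) (kg xg16 yg56 zg59) (kg xg26 yg45 zg52) (kg xg12 yg10 zg19) (kg xg20 yg25 zg32) (kg xg28 yg56 zg22) (kg xg26 yg59 zg48) (kg xg20 yg34 zg52) (kg xg23 yg10 zg18) (kg xg27 yg13 zg60) (kg xg11 yg50 zg21) (kg xg17 yg18 zg48) (kg xg21 yg38 zg1) (kg xg21 yg15 zg59) (kg xg13 yg1 zg20) (kg xg29 yg42 zg40) (kg xg29 yg18 zg39) (kg xg11 yg50 zg33) (kg xg29 yg18 zg58) (kg xg19 yg28 zg41) (kg xg16 yg45 zg16) (kg xg28 yg47 zg51) (kg xg11 yg50 zg38) (kg xg29 yg42 zg43) (kg xg28 yg53 zg14) (kg xg19 yg16 zg8) (kg xg19 yg34 zg38) (kg xg20 yg28 zg18) (kg xg17 yg49 zg48) (kg xg24 yg24 zg4)) (@D3.rec (fun _ => Pt) (kg xg23 yg31 zg4) (kg xg23 yg47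 zg29) (kg xg19 yg25 zg24) (kg xg19 yg41 zg46) (kg xg11 yg50 zg53) (kg xg29 yg42 zg46) (kg xg24 yg4 zg6) (kg xg12 yg30 zg27) (kg xg29 yg2 zg61) (kg xg26 yg48 zg20) (kg xg12 yg55 zg48) (kg xg25 yg18 zg32) (kg xg25 yg44 zg39) (kg xg23 yg13 zg14) (kg xg27 yg43 zg40) (kg xg11 yg50 zg60) (kg xg25 yg17 zg17) (kg xg21 yg43 zg61) (kg xg21 yg43 zg42) (kg xg26 yg35 zg22) (kg xg26 yg42 zg17) (kg xg16 yg9 zg10) (kg xg16 yg4 zg6) (kg xg19 yg26 zg38) (kg xg14 yg38 zg45) (kg xg23 yg40 zg21) (kg xg11 yg51 zg9) (kg xg29 yg42 zg55) (kg xg19 yg48 zg2) (kg xg24 yg33 zg1) (kg xg11 yg51 zg12) (kg xg24 yg51 zg56) (kg xg22 yg3 zg31) (kg xg27 yg36 zg54) (kg xg28 yg33 zg16) (kg xg21 yg43 zg17) (kg xg27 yg36 zg53) (kg xg25 yg17 zg44) (kg xg21 yg43 zg10) (kg xg25 yg21 zg25) (kg xg11 yg51 zg22)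 (kg xg25 yg21 zg23) (kg xg24 yg48 zg50) (kg xg21 yg43 zg8) (kg xg26 yg55 zg24) (kg xg20 yg51 zg30) (kg xg23 yg12 zg54) (kg xg11 yg51 zg29) (kg xg18 yg2 zg32) (kg xg28 yg47 zg28) (kg xg11 yg51 zg33) (kg xg11 yg51 zg30) (kg xg24 yg4 zg60) (kg xg29 yg43 zg4) (kg xg26 yg59 zg13) (kg xg11 yg51 zg34) (kg xg24 yg14 zg44) (kg xg17 yg4 zg31) (kg xg11 yg56 zg40) (kg xg29 yg43 zg5) (kg xg29 yg43 zg13) (kg xg17 yg48 zg51)) (@D3.rec (fun _ => Pt) (kg xg17 yg52 zg13) (kg xg16 yg37 zg47) (kg xg22 yg6 zg7) (kg xg20 yg53 zg35) (kg xg20 yg57 zg52) (kg xg20 yg53 zg21) (kg xg11 yg51 zg39) (kg xg29 yg43 zg20) (kg xg29 yg43 zg24) (kg xg22 yg5 zg46) (kg xg11 yg51 zg40) (kg xg20 yg53 zg34) (kg xg17 yg16 zg24) (kg xg11 yg51 zg43) (kg xg29 yg14 zg13) (kg xg29 yg13 zg14) (kg xg29 yg43 zg31) (kg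 xg26 yg54 zg22) (kg xg11 yg51 zg45) (kg xg25 yg20 zg0) (kg xg26 yg54 zg48) (kg xg23 yg58 zg13) (kg xg29 yg13 zg9) (kg xg15 yg30 zg35) (kg xg19 yg34 zg35) (kg xg20 yg42 zg16) (kg xg16 yg57 zg53) (kg xg14 yg47 zg56) (kg xg28 yg36 zg54) (kg xg21 yg18 zg4) (kg xg11 yg51 zg51) (kg xg17 yg2 zg6) (kg xg29 yg8 zg59) (kg xg16 yg46 zg22) (kg xg11 yg51 zg55) (kg xg20 yg1 zg56) (kg xg18 yg1 zg52) (kg xg16 yg17 zg32) (kg xg11 yg51 zg60) (kg xg16 yg17 zg36) (kg xg24 yg41 zg57) (kg xg21 yg33 zg33) (kg xg16 yg4 zg26) (kg xg11 yg52 zg1) (kg xg15 yg39 zg24) (kg xg24 yg9 zg45) (kg xg12 yg33 zg5) (kg xg20 yg17 zg1) (kg xg25 yg37 zg20) (kg xg15 yg45 zg16) (kg xg11 yg52 zg4) (kg xg15 yg42 zg7) (kg xg16 yg5 zg11) (kg xg26 yg3 zg48) (kg xg15 yg22 zg54) (kg xg20 yg6 zg39) (kg xg11 yg52 zg9)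 (kg xg25 yg34 zg43) (kg xg14 yg50 zg19) (kg xg22 yg3 zg51) (kg xg18 yg22 zg9) (kg xg11 yg53 zg3)) (@D3.rec (fun _ => Pt) (kg xg11 yg52 zg14) (kg xg11 yg53 zg2) (kg xg29 yg43 zg58) (kg xg29 yg43 zg61) (kg xg24 yg1 zg2) (kg xg16 yg37 zg32) (kg xg11 yg53 zg31) (kg xg11 yg52 zg20) (kg xg29 yg44 zg2) (kg xg11 yg53 zg21) (kg xg11 yg52 zg21) (kg xg25 yg7 zg60) (kg xg11 yg53 zg19) (kg xg11 yg52 zg26) (kg xg11 yg53 zg52) (kg xg11 yg52 zg24) (kg xg11 yg53 zg51) (kg xg20 yg57 zg61) (kg xg29 yg44 zg12) (kg xg29 yg44 zg15) (kg xg11 yg53 zg24) (kg xg29 yg44 zg18) (kg xg27 yg17 zg37) (kg xg11 yg53 zg41) (kg xg11 yg52 zg31) (kg xg11 yg52 zg34) (kg xg22 yg3 zg60) (kg xg21 yg16 zg45) (kg xg20 yg57 zg27) (kg xg29 yg33 zg36) (kg xg11 yg52 zg32) (kg xg26 yg0 zg6) (kg xg19 yg7 zg54) (kg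 xg19 yg1 zg9) (kg xg19 yg13 zg56) (kg xg25 yg22 zg24) (kg xg25 yg22 zg25) (kg xg11 yg52 zg33) (kg xg28 yg48 zg32) (kg xg28 yg58 zg33) (kg xg24 yg15 zg50) (kg xg26 yg39 zg53) (kg xg29 yg44 zg38) (kg xg29 yg38 zg2) (kg xg11 yg54 zg21) (kg xg11 yg52 zg37) (kg xg11 yg54 zg20) (kg xg16 yg42 zg34) (kg xg27 yg22 zg51) (kg xg29 yg44 zg44) (kg xg24 yg51 zg10) (kg xg15 yg29 zg22) (kg xg11 yg52 zg44) (kg xg24 yg51 zg22) (kg xg29 yg44 zg48) (kg xg25 yg11 zg14) (kg xg17 yg51 zg34) (kg xg27 yg57 zg1) (kg xg11 yg52 zg48) (kg xg27 yg57 zg2) (kg xg18 yg22 zg10) (kg xg26 yg37 zg5)) (@D3.rec (fun _ => Pt) (kg xg11 yg52 zg50) (kg xg29 yg43 zg57) (kg xg29 yg44 zg54) (kg xg29 yg44 zg53) (kg xg16 yg36 zg16) (kg xg29 yg43 zg60) (kg xg11 yg52 zg54) (kg xg29 yg45 zg2) (kg xg29 yg43 zg59) (kg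 xg23 yg59 zg38) (kg xg20 yg38 zg37) (kg xg19 yg32 zg6) (kg xg19 yg19 zg28) (kg xg11 yg52 zg57) (kg xg11 yg52 zg60) (kg xg15 yg16 zg11) (kg xg29 yg45 zg7) (kg xg22 yg3 zg55) (kg xg16 yg38 zg47) (kg xg17 yg33 zg10) (kg xg26 yg44 zg34) (kg xg29 yg45 zg9) (kg xg29 yg45 zg11) (kg xg11 yg53 zg4) (kg xg29 yg45 zg17) (kg xg16 yg38 zg42) (kg xg29 yg10 zg40) (kg xg11 yg53 zg5) (kg xg29 yg45 zg25) (kg xg16 yg37 zg56) (kg xg29 yg45 zg27) (kg xg26 yg41 zg28) (kg xg16 yg37 zg24) (kg xg29 yg10 zg41) (kg xg11 yg53 zg7) (kg xg24 yg1 zg4) (kg xg11 yg53 zg10) (kg xg20 yg38 zg41) (kg xg26 yg41 zg16) (kg xg28 yg27 zg57) (kg xg29 yg31 zg28) (kg xg11 yg53 zg11) (kg xg16 yg9 zg36) (kg xg15 yg28 zg44) (kg xg15 yg38 zg38) (kg xg19 yg32 zg3) (kg xg16 yg5 zg38) (kg xg16 yg11 zg11) (kg xg16 yg11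 zg10) (kg xg19 yg14 zg13) (kg xg11 yg53 zg17) (kg xg19 yg14 zg12) (kg xg29 yg45 zg46) (kg xg19 yg32 zg8) (kg xg29 yg33 zg24) (kg xg19 yg32 zg5) (kg xg16 yg5 zg43) (kg xg11 yg53 zg20) (kg xg23 yg50 zg60) (kg xg26 yg35 zg6) (kg xg22 yg1 zg35) (kg xg19 yg31 zg59)) (@D3.rec (fun _ => Pt) (kg xg19 yg31 zg57) (kg xg20 yg39 zg28) (kg xg15 yg9 zg38) (kg xg25 yg53 zg35) (kg xg15 yg17 zg15) (kg xg16 yg42 zg42) (kg xg26 yg52 zg24) (kg xg26 yg38 zg50) (kg xg27 yg0 zg28) (kg xg29 yg45 zg60) (kg xg27 yg0 zg29) (kg xg19 yg14 zg26) (kg xg11 yg53 zg34) (kg xg29 yg46 zg5) (kg xg19 yg14 zg25) (kg xg16 yg38 zg20) (kg xg16 yg42 zg40) (kg xg24 yg35 zg8) (kg xg15 yg17 zg43) (kg xg26 yg36 zg30) (kg xg19 yg14 zg7) (kg xg19 yg34 zg40) (kg xg16 yg42 zg30) (kg xg27 yg0 zg12) (kg xg17 yg48 zg52)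 (kg xg21 yg1 zg24) (kg xg29 yg46 zg23) (kg xg20 yg55 zg33) (kg xg21 yg1 zg27) (kg xg29 yg46 zg24) (kg xg29 yg46 zg26) (kg xg11 yg53 zg45) (kg xg29 yg46 zg32) (kg xg29 yg46 zg25) (kg xg20 yg55 zg26) (kg xg29 yg44 zg17) (kg xg11 yg53 zg47) (kg xg28 yg35 zg10) (kg xg29 yg44 zg16) (kg xg29 yg46 zg37) (kg xg29 yg44 zg22) (kg xg22 yg3 zg57) (kg xg15 yg25 zg12) (kg xg20 yg54 zg4) (kg xg15 yg25 zg13) (kg xg11 yg53 zg53) (kg xg15 yg27 zg25) (kg xg21 yg11 zg35) (kg xg16 yg11 zg33) (kg xg11 yg53 zg54) (kg xg29 yg46 zg43) (kg xg27 yg0 zg5) (kg xg16 yg40 zg47) (kg xg29 yg44 zg21) (kg xg11 yg53 zg56) (kg xg29 yg46 zg50) (kg xg29 yg44 zg20) (kg xg28 yg39 zg38) (kg xg11 yg54 zg8) (kg xg16 yg41 zg59) (kg xg19 yg25 zg54) (kg xg11 yg53 zg61)) (@D3.rec (fun _ => Pt) (kg xg29 yg46 zg55)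 (kg xg11 yg55 zg36) (kg xg21 yg57 zg48) (kg xg22 yg56 zg25) (kg xg28 yg54 zg17) (kg xg26 yg52 zg18) (kg xg11 yg54 zg6) (kg xg28 yg47 zg41) (kg xg19 yg31 zg39) (kg xg18 yg46 zg1) (kg xg29 yg47 zg3) (kg xg29 yg3 zg23) (kg xg25 yg51 zg19) (kg xg11 yg54 zg9) (kg xg28 yg47 zg43) (kg xg12 yg44 zg2) (kg xg29 yg47 zg9) (kg xg29 yg47 zg1) (kg xg11 yg54 zg10) (kg xg24 yg14 zg32) (kg xg16 yg41 zg9) (kg xg11 yg54 zg12) (kg xg29 yg44 zg41) (kg xg11 yg54 zg14) (kg xg29 yg47 zg16) (kg xg29 yg44 zg39) (kg xg26 yg40 zg39) (kg xg29 yg47 zg21) (kg xg29 yg44 zg43) (kg xg11 yg54 zg16) (kg xg29 yg47 zg26) (kg xg29 yg3 zg18) (kg xg25 yg19 zg27) (kg xg11 yg54 zg17) (kg xg20 yg12 zg5) (kg xg27 yg12 zg5) (kg xg11 yg54 zg18) (kg xg25 yg22 zg37) (kg xg29 yg2 zg42) (kg xg29 yg47 zg31) (kg xg26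 yg40 zg3) (kg xg29 yg47 zg32) (kg xg20 yg39 zg30) (kg xg25 yg22 zg27) (kg xg25 yg22 zg28) (kg xg16 yg40 zg32) (kg xg27 yg19 zg22) (kg xg25 yg37 zg54) (kg xg26 yg39 zg54) (kg xg26 yg36 zg33) (kg xg16 yg39 zg60) (kg xg16 yg37 zg6) (kg xg11 yg54 zg25) (kg xg24 yg21 zg3) (kg xg19 yg25 zg42) (kg xg16 yg39 zg30) (kg xg28 yg44 zg26) (kg xg29 yg44 zg7) (kg xg29 yg44 zg1) (kg xg26 yg36 zg13) (kg xg20 yg56 zg11) (kg xg19 yg24 zg35)) (@D3.rec (fun _ => Pt) (kg xg11 yg54 zg31) (kg xg15 yg40 zg54) (kg xg28 yg56 zg53) (kg xg19 yg24 zg42) (kg xg11 yg54 zg33) (kg xg19 yg24 zg41) (kg xg29 yg47 zg43) (kg xg29 yg47 zg48) (kg xg24 yg16 zg58) (kg xg19 yg24 zg47) (kg xg25 yg59 zg56) (kg xg29 yg47 zg51) (kg xg15 yg40 zg33) (kg xg11 yg54 zg38) (kg xg19 yg45 zg57) (kg xg25 yg24 zg15) (kg xg24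 yg17 zg16) (kg xg24 yg23 zg53) (kg xg19 yg46 zg22) (kg xg24 yg17 zg39) (kg xg18 yg51 zg8) (kg xg26 yg59 zg55) (kg xg13 yg56 zg57) (kg xg25 yg19 zg24) (kg xg11 yg54 zg46) (kg xg20 yg1 zg34) (kg xg28 yg11 zg27) (kg xg27 yg21 zg35) (kg xg19 yg25 zg3) (kg xg18 yg41 zg61) (kg xg15 yg30 zg28) (kg xg15 yg30 zg36) (kg xg13 yg7 zg60) (kg xg14 yg43 zg51) (kg xg18 yg26 zg26) (kg xg14 yg43 zg47) (kg xg19 yg23 zg40) (kg xg11 yg54 zg60) (kg xg19 yg23 zg39) (kg xg19 yg23 zg51) (kg xg11 yg54 zg61) (kg xg19 yg23 zg50) (kg xg19 yg23 zg55) (kg xg11 yg55 zg0) (kg xg19 yg23 zg54) (kg xg27 yg56 zg42) (kg xg15 yg4 zg19) (kg xg19 yg23 zg60) (kg xg19 yg30 zg43) (kg xg19 yg48 zg61) (kg xg20 yg25 zg6) (kg xg19 yg30 zg41) (kg xg29 yg42 zg48) (kg xg29 yg48 zg4) (kg xg20 yg9 zg25) (kg xg18 yg45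 zg20) (kg xg28 yg17 zg26) (kg xg29 yg48 zg12) (kg xg19 yg30 zg24) (kg xg19 yg29 zg46) (kg xg11 yg55 zg9) (kg xg29 yg48 zg20))
def f_g_21 : D2 → D3 → Pt := @D2.rec (fun _ => D3 → Pt) (@D3.rec (fun _ => Pt) (kg xg24 yg1 zg50) (kg xg29 yg48 zg25) (kg xg19 yg29 zg42) (kg xg29 yg12 zg37) (kg xg12 yg44 zg40) (kg xg12 yg54 zg9) (kg xg26 yg40 zg26) (kg xg18 yg46 zg2) (kg xg26 yg48 zg59) (kg xg19 yg33 zg23) (kg xg19 yg34 zg5) (kg xg19 yg34 zg11) (kg xg16 yg43 zg34) (kg xg18 yg51 zg29) (kg xg11 yg55 zg20) (kg xg19 yg26 zg0) (kg xg19 yg45 zg31) (kg xg23 yg10 zg24) (kg xg29 yg48 zg34) (kg xg19 yg35 zg54) (kg xg11 yg55 zg25) (kg xg12 yg52 zg36) (kg xg18 yg52 zg46) (kg xg19 yg32 zg28) (kg xg16 yg5 zg57) (kg xg14 yg57 zg31) (kg xg25 yg24 zg52) (kg xg16 yg2 zg33) (kg xg15 yg32 zg58)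 (kg xg19 yg46 zg24) (kg xg19 yg42 zg52) (kg xg16 yg10 zg9) (kg xg25 yg27 zg18) (kg xg19 yg46 zg42) (kg xg19 yg46 zg45) (kg xg27 yg21 zg27) (kg xg16 yg58 zg43) (kg xg20 yg12 zg37) (kg xg17 yg32 zg59) (kg xg16 yg5 zg58) (kg xg15 yg29 zg11) (kg xg21 yg7 zg20) (kg xg19 yg11 zg31) (kg xg15 yg46 zg2) (kg xg19 yg25 zg14) (kg xg11 yg55 zg53) (kg xg19 yg25 zg13) (kg xg15 yg51 zg14) (kg xg11 yg55 zg54) (kg xg26 yg9 zg21) (kg xg16 yg49 zg12) (kg xg14 yg52 zg10) (kg xg19 yg28 zg17) (kg xg20 yg30 zg35) (kg xg15 yg55 zg45) (kg xg19 yg43 zg7) (kg xg21 yg57 zg60) (kg xg19 yg43 zg40) (kg xg19 yg42 zg61) (kg xg17 yg48 zg60) (kg xg11 yg56 zg9) (kg xg15 yg31 zg47)) (@D3.rec (fun _ => Pt) (kg xg15 yg30 zg12) (kg xg19 yg49 zg32) (kg xg25 yg47 zg4) (kg xg11 yg56 zg15) (kg xg18 yg7 zg32) (kg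 xg25 yg14 zg18) (kg xg21 yg37 zg56) (kg xg21 yg20 zg39) (kg xg16 yg10 zg4) (kg xg22 yg4 zg36) (kg xg26 yg9 zg12) (kg xg22 yg4 zg33) (kg xg16 yg49 zg4) (kg xg19 yg26 zg23) (kg xg11 yg56 zg23) (kg xg27 yg22 zg10) (kg xg14 yg6 zg40) (kg xg12 yg54 zg41) (kg xg22 yg3 zg52) (kg xg16 yg38 zg58) (kg xg11 yg56 zg28) (kg xg12 yg54 zg37) (kg xg28 yg40 zg44) (kg xg11 yg56 zg29) (kg xg20 yg57 zg28) (kg xg17 yg7 zg5) (kg xg29 yg33 zg33) (kg xg20 yg57 zg25) (kg xg29 yg49 zg6) (kg xg12 yg54 zg5) (kg xg22 yg3 zg30) (kg xg12 yg3 zg5) (kg xg18 yg17 zg5) (kg xg26 yg58 zg53) (kg xg12 yg44 zg59) (kg xg18 yg47 zg21) (kg xg12 yg53 zg41) (kg xg26 yg57 zg28) (kg xg16 yg48 zg6) (kg xg16 yg51 zg7) (kg xg12 yg54 zg35) (kg xg25 yg22 zg52) (kg xg11 yg56 zg48) (kg xg25 yg22 zg51) (kg xg29 yg49 zg12)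 (kg xg25 yg22 zg55) (kg xg11 yg56 zg50) (kg xg25 yg22 zg54) (kg xg29 yg22 zg14) (kg xg28 yg47 zg44) (kg xg20 yg40 zg3) (kg xg11 yg56 zg55) (kg xg19 yg49 zg45) (kg xg25 yg48 zg38) (kg xg11 yg56 zg56) (kg xg25 yg9 zg8) (kg xg25 yg48 zg36) (kg xg29 yg49 zg19) (kg xg24 yg16 zg49) (kg xg15 yg55 zg1) (kg xg16 yg26 zg56) (kg xg15 yg20 zg29)) (@D3.rec (fun _ => Pt) (kg xg29 yg49 zg26) (kg xg20 yg2 zg29) (kg xg24 yg26 zg9) (kg xg15 yg20 zg20) (kg xg15 yg22 zg9) (kg xg11 yg57 zg4) (kg xg28 yg48 zg15) (kg xg21 yg58 zg15) (kg xg12 yg57 zg43) (kg xg15 yg20 zg2) (kg xg15 yg24 zg55) (kg xg14 yg21 zg38) (kg xg16 yg5 zg41) (kg xg28 yg48 zg23) (kg xg22 yg4 zg43) (kg xg19 yg26 zg28) (kg xg19 yg56 zg13) (kg xg29 yg48 zg53) (kg xg23 yg43 zg41) (kg xg19 yg56 zg11) (kg xg29 yg49 zg38) (kg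 xg16 yg50 zg32) (kg xg29 yg49 zg40) (kg xg26 yg7 zg20) (kg xg29 yg49 zg44) (kg xg19 yg56 zg2) (kg xg19 yg55 zg20) (kg xg11 yg57 zg20) (kg xg28 yg11 zg56) (kg xg23 yg29 zg54) (kg xg28 yg11 zg25) (kg xg22 yg4 zg38) (kg xg16 yg5 zg30) (kg xg19 yg32 zg39) (kg xg19 yg59 zg11) (kg xg18 yg12 zg54) (kg xg18 yg23 zg44) (kg xg29 yg30 zg14) (kg xg18 yg23 zg39) (kg xg22 yg42 zg10) (kg xg15 yg23 zg43) (kg xg11 yg57 zg40) (kg xg20 yg32 zg40) (kg xg20 yg32 zg38) (kg xg11 yg57 zg41) (kg xg28 yg0 zg53) (kg xg11 yg57 zg43) (kg xg18 yg19 zg5) (kg xg24 yg59 zg37) (kg xg17 yg25 zg55) (kg xg11 yg57 zg47) (kg xg24 yg7 zg27) (kg xg27 yg59 zg35) (kg xg16 yg22 zg23) (kg xg21 yg45 zg31) (kg xg17 yg3 zg30) (kg xg18 yg23 zg14) (kg xg18 yg42 zg5) (kg xg20 yg36 zg56) (kg xg17 yg19 zg34) (kg xg11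 yg57 zg53) (kg xg26 yg40 zg41)) (@D3.rec (fun _ => Pt) (kg xg16 yg55 zg57) (kg xg18 yg1 zg36) (kg xg11 yg57 zg61) (kg xg17 yg30 zg19) (kg xg12 yg31 zg38) (kg xg11 yg58 zg1) (kg xg11 yg58 zg3) (kg xg19 yg52 zg40) (kg xg18 yg25 zg52) (kg xg21 yg37 zg19) (kg xg11 yg58 zg7) (kg xg21 yg37 zg42) (kg xg18 yg25 zg50) (kg xg17 yg59 zg8) (kg xg19 yg25 zg59) (kg xg18 yg25 zg61) (kg xg20 yg13 zg21) (kg xg17 yg58 zg17) (kg xg20 yg14 zg58) (kg xg26 yg26 zg52) (kg xg24 yg3 zg5) (kg xg21 yg35 zg0) (kg xg11 yg58 zg38) (kg xg20 yg43 zg4) (kg xg14 yg31 zg39) (kg xg12 yg12 zg36) (kg xg11 yg58 zg44) (kg xg16 yg49 zg43) (kg xg20 yg22 zg5) (kg xg11 yg58 zg45) (kg xg20 yg49 zg6) (kg xg20 yg15 zg10) (kg xg20 yg47 zg8) (kg xg28 yg16 zg24) (kg xg29 yg34 zg61) (kg xg11 yg58 zg48) (kg xg29 yg22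 zg40) (kg xg27 yg12 zg58) (kg xg25 yg5 zg52) (kg xg27 yg23 zg51) (kg xg28 yg56 zg18) (kg xg14 yg20 zg22) (kg xg14 yg33 zg39) (kg xg14 yg34 zg46) (kg xg14 yg33 zg36) (kg xg20 yg49 zg0) (kg xg29 yg50 zg16) (kg xg27 yg51 zg4) (kg xg20 yg26 zg16) (kg xg19 yg22 zg18) (kg xg24 yg14 zg56) (kg xg13 yg1 zg8) (kg xg27 yg19 zg0) (kg xg24 yg6 zg17) (kg xg24 yg14 zg54) (kg xg25 yg39 zg43) (kg xg16 yg3 zg14) (kg xg12 yg1 zg0) (kg xg21 yg30 zg21) (kg xg24 yg19 zg8) (kg xg17 yg22 zg48) (kg xg14 yg13 zg52)) (@D3.rec (fun _ => Pt) (kg xg19 yg9 zg13) (kg xg29 yg26 zg2) (kg xg26 yg46 zg6) (kg xg29 yg50 zg21) (kg xg12 yg54 zg22) (kg xg29 yg18 zg26) (kg xg29 yg43 zg54) (kg xg21 yg32 zg6) (kg xg19 yg48 zg45) (kg xg15 yg27 zg12) (kg xg11 yg59 zg29) (kg xg27 yg41 zg38) (kg xg11 yg59 zg30) (kg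 xg28 yg14 zg29) (kg xg26 yg42 zg25) (kg xg16 yg22 zg38) (kg xg13 yg32 zg31) (kg xg16 yg29 zg36) (kg xg26 yg28 zg31) (kg xg16 yg29 zg10) (kg xg16 yg29 zg3) (kg xg11 yg59 zg38) (kg xg16 yg33 zg43) (kg xg16 yg29 zg1) (kg xg16 yg28 zg59) (kg xg11 yg59 zg40) (kg xg23 yg35 zg50) (kg xg11 yg59 zg42) (kg xg23 yg35 zg49) (kg xg23 yg37 zg55) (kg xg11 yg59 zg50) (kg xg13 yg52 zg36) (kg xg23 yg35 zg53) (kg xg15 yg11 zg45) (kg xg26 yg11 zg47) (kg xg11 yg59 zg55) (kg xg24 yg13 zg61) (kg xg18 yg37 zg32) (kg xg24 yg15 zg29) (kg xg24 yg44 zg15) (kg xg24 yg44 zg14) (kg xg11 yg59 zg59) (kg xg11 yg59 zg60) (kg xg16 yg14 zg30) (kg xg14 yg14 zg44) (kg xg21 yg58 zg40) (kg xg14 yg12 zg10) (kg xg12 yg20 zg2) (kg xg12 yg12 zg17) (kg xg27 yg17 zg32) (kg xg23 yg22 zg30) (kg xg29 yg50 zg30) (kg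 xg12 yg1 zg47) (kg xg12 yg27 zg48) (kg xg29 yg43 zg49) (kg xg12 yg18 zg35) (kg xg12 yg33 zg29) (kg xg12 yg0 zg6) (kg xg12 yg33 zg28) (kg xg29 yg50 zg39) (kg xg21 yg39 zg22) (kg xg12 yg0 zg8)) (@D3.rec (fun _ => Pt) (kg xg21 yg39 zg21) (kg xg25 yg35 zg17) (kg xg19 yg24 zg36) (kg xg12 yg0 zg10) (kg xg15 yg38 zg48) (kg xg13 yg35 zg58) (kg xg25 yg55 zg58) (kg xg12 yg0 zg13) (kg xg21 yg27 zg18) (kg xg22 yg48 zg49) (kg xg25 yg36 zg59) (kg xg15 yg15 zg56) (kg xg17 yg14 zg42) (kg xg12 yg0 zg15) (kg xg25 yg44 zg3) (kg xg12 yg15 zg59) (kg xg29 yg50 zg51) (kg xg12 yg27 zg3) (kg xg22 yg9 zg6) (kg xg12 yg0 zg18) (kg xg22 yg9 zg5) (kg xg22 yg55 zg26) (kg xg15 yg58 zg57) (kg xg12 yg0 zg20) (kg xg25 yg14 zg32) (kg xg17 yg37 zg13) (kg xg22 yg10 zg52) (kg xg12 yg42 zg48) (kg xg21 yg27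 zg36) (kg xg12 yg59 zg35) (kg xg22 yg9 zg21) (kg xg22 yg9 zg18) (kg xg12 yg0 zg27) (kg xg29 yg50 zg55) (kg xg19 yg37 zg10) (kg xg25 yg59 zg54) (kg xg25 yg34 zg61) (kg xg12 yg0 zg34) (kg xg12 yg0 zg31) (kg xg24 yg14 zg4) (kg xg12 yg39 zg45) (kg xg12 yg42 zg49) (kg xg22 yg9 zg31) (kg xg12 yg21 zg42) (kg xg19 yg23 zg4) (kg xg24 yg30 zg43) (kg xg14 yg27 zg49) (kg xg29 yg51 zg5) (kg xg12 yg0 zg35) (kg xg12 yg35 zg56) (kg xg26 yg57 zg51) (kg xg26 yg55 zg17) (kg xg26 yg57 zg50) (kg xg14 yg52 zg31) (kg xg29 yg51 zg7) (kg xg12 yg34 zg35) (kg xg12 yg0 zg44) (kg xg12 yg34 zg34) (kg xg12 yg27 zg1) (kg xg21 yg19 zg49) (kg xg12 yg12 zg24) (kg xg15 yg45 zg36)) (@D3.rec (fun _ => Pt) (kg xg21 yg34 zg28) (kg xg29 yg51 zg13) (kg xg29 yg51 zg15) (kg xg21 yg27 zg45) (kg xg12 yg0 zg49)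 (kg xg21 yg27 zg44) (kg xg21 yg31 zg20) (kg xg12 yg0 zg50) (kg xg21 yg31 zg19) (kg xg14 yg45 zg32) (kg xg12 yg0 zg56) (kg xg23 yg46 zg57) (kg xg21 yg19 zg45) (kg xg14 yg10 zg11) (kg xg21 yg45 zg21) (kg xg12 yg0 zg54) (kg xg27 yg7 zg45) (kg xg21 yg55 zg47) (kg xg23 yg21 zg1) (kg xg12 yg0 zg55) (kg xg27 yg30 zg55) (kg xg18 yg29 zg45) (kg xg28 yg11 zg35) (kg xg23 yg3 zg7) (kg xg23 yg46 zg56) (kg xg15 yg10 zg7) (kg xg23 yg20 zg50) (kg xg12 yg0 zg59) (kg xg23 yg20 zg49) (kg xg21 yg55 zg38) (kg xg12 yg0 zg60) (kg xg21 yg55 zg37) (kg xg27 yg46 zg42) (kg xg27 yg4 zg40) (kg xg21 yg55 zg34) (kg xg21 yg55 zg33) (kg xg25 yg39 zg40) (kg xg25 yg37 zg53) (kg xg13 yg37 zg48) (kg xg16 yg3 zg28) (kg xg16 yg2 zg44) (kg xg12 yg1 zg4) (kg xg28 yg13 zg15) (kg xg29 yg51 zg39) (kg xg27 yg57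 zg19) (kg xg23 yg19 zg59) (kg xg21 yg55 zg53) (kg xg12 yg1 zg7) (kg xg21 yg55 zg52) (kg xg12 yg1 zg8) (kg xg16 yg24 zg28) (kg xg17 yg58 zg44) (kg xg17 yg14 zg60) (kg xg14 yg12 zg9) (kg xg26 yg58 zg24) (kg xg18 yg20 zg57) (kg xg21 yg35 zg10) (kg xg24 yg33 zg15) (kg xg27 yg58 zg41) (kg xg12 yg36 zg42) (kg xg12 yg36 zg26) (kg xg12 yg1 zg31)) (@D3.rec (fun _ => Pt) (kg xg12 yg1 zg37) (kg xg12 yg1 zg40) (kg xg18 yg24 zg17) (kg xg21 yg54 zg49) (kg xg28 yg19 zg10) (kg xg21 yg36 zg16) (kg xg21 yg36 zg27) (kg xg22 yg8 zg2) (kg xg22 yg8 zg30) (kg xg12 yg1 zg43) (kg xg12 yg35 zg34) (kg xg16 yg14 zg0) (kg xg12 yg34 zg48) (kg xg27 yg29 zg41) (kg xg25 yg44 zg55) (kg xg29 yg51 zg46) (kg xg21 yg36 zg17) (kg xg12 yg17 zg11) (kg xg12 yg44 zg19) (kg xg21 yg0 zg41) (kg xg12 yg45 zg40)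 (kg xg12 yg45 zg17) (kg xg12 yg1 zg60) (kg xg12 yg45 zg16) (kg xg29 yg18 zg11) (kg xg21 yg41 zg28) (kg xg12 yg37 zg48) (kg xg12 yg19 zg40) (kg xg12 yg28 zg47) (kg xg12 yg45 zg10) (kg xg12 yg2 zg5) (kg xg12 yg45 zg8) (kg xg17 yg58 zg42) (kg xg17 yg58 zg6) (kg xg12 yg2 zg11) (kg xg22 yg8 zg40) (kg xg12 yg2 zg12) (kg xg27 yg23 zg7) (kg xg12 yg2 zg13) (kg xg28 yg1 zg2) (kg xg12 yg2 zg19) (kg xg12 yg2 zg17) (kg xg12 yg28 zg29) (kg xg21 yg34 zg57) (kg xg26 yg4 zg29) (kg xg12 yg2 zg20) (kg xg17 yg50 zg48) (kg xg18 yg20 zg52) (kg xg18 yg15 zg26) (kg xg12 yg2 zg28) (kg xg12 yg2 zg29) (kg xg15 yg6 zg32) (kg xg21 yg49 zg60) (kg xg21 yg35 zg4) (kg xg18 yg15 zg54) (kg xg14 yg36 zg8) (kg xg15 yg8 zg59) (kg xg18 yg15 zg46) (kg xg12 yg2 zg33) (kg xg13 yg24 zg33) (kg xg26 yg54 zg5)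 (kg xg18 yg17 zg26)) (@D3.rec (fun _ => Pt) (kg xg12 yg2 zg35) (kg xg12 yg42 zg16) (kg xg18 yg17 zg25) (kg xg21 yg40 zg18) (kg xg12 yg16 zg54) (kg xg26 yg43 zg36) (kg xg21 yg30 zg11) (kg xg24 yg31 zg6) (kg xg25 yg12 zg55) (kg xg18 yg12 zg50) (kg xg27 yg38 zg34) (kg xg28 yg19 zg7) (kg xg12 yg2 zg61) (kg xg21 yg42 zg9) (kg xg12 yg36 zg16) (kg xg18 yg20 zg53) (kg xg12 yg3 zg1) (kg xg17 yg13 zg33) (kg xg21 yg31 zg36) (kg xg12 yg40 zg16) (kg xg12 yg36 zg41) (kg xg21 yg35 zg46) (kg xg21 yg43 zg2) (kg xg24 yg52 zg54) (kg xg26 yg14 zg36) (kg xg24 yg43 zg20) (kg xg12 yg17 zg57) (kg xg21 yg47 zg35) (kg xg21 yg45 zg18) (kg xg17 yg14 zg14) (kg xg14 yg56 zg0) (kg xg21 yg45 zg11) (kg xg21 yg45 zg14) (kg xg24 yg41 zg9) (kg xg12 yg3 zg19) (kg xg24 yg42 zg0) (kg xg26 yg40 zg18) (kg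 xg21 yg45 zg16) (kg xg22 yg21 zg46) (kg xg12 yg48 zg15) (kg xg12 yg3 zg21) (kg xg13 yg26 zg14) (kg xg22 yg38 zg43) (kg xg12 yg3 zg23) (kg xg12 yg48 zg21) (kg xg12 yg3 zg24) (kg xg12 yg48 zg29) (kg xg15 yg45 zg18) (kg xg17 yg29 zg23) (kg xg13 yg59 zg50) (kg xg17 yg45 zg15) (kg xg21 yg27 zg57) (kg xg20 yg16 zg4) (kg xg13 yg37 zg43) (kg xg17 yg13 zg57) (kg xg12 yg48 zg44) (kg xg12 yg48 zg42) (kg xg12 yg3 zg29) (kg xg29 yg52 zg17) (kg xg29 yg9 zg50) (kg xg18 yg46 zg52) (kg xg20 yg19 zg9)) (@D3.rec (fun _ => Pt) (kg xg27 yg21 zg13) (kg xg20 yg12 zg26) (kg xg18 yg48 zg19) (kg xg12 yg3 zg38) (kg xg20 yg31 zg35) (kg xg20 yg20 zg14) (kg xg16 yg53 zg26) (kg xg20 yg47 zg44) (kg xg18 yg45 zg37) (kg xg24 yg22 zg2) (kg xg12 yg3 zg40) (kg xg26 yg45 zg32) (kg xg23 yg50 zg2) (kg xg14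 yg42 zg34) (kg xg21 yg54 zg46) (kg xg27 yg49 zg48) (kg xg16 yg53 zg55) (kg xg24 yg28 zg9) (kg xg12 yg3 zg44) (kg xg23 yg47 zg52) (kg xg29 yg52 zg24) (kg xg12 yg3 zg45) (kg xg17 yg47 zg45) (kg xg21 yg30 zg31) (kg xg12 yg3 zg47) (kg xg16 yg55 zg28) (kg xg27 yg59 zg54) (kg xg13 yg21 zg42) (kg xg12 yg3 zg50) (kg xg26 yg6 zg3) (kg xg21 yg18 zg6) (kg xg12 yg46 zg18) (kg xg16 yg53 zg41) (kg xg12 yg3 zg57) (kg xg22 yg5 zg2) (kg xg12 yg3 zg60) (kg xg12 yg3 zg61) (kg xg22 yg5 zg9) (kg xg17 yg32 zg13) (kg xg22 yg6 zg28) (kg xg12 yg46 zg6) (kg xg18 yg46 zg16) (kg xg26 yg59 zg56) (kg xg22 yg40 zg21) (kg xg27 yg43 zg18) (kg xg12 yg55 zg4) (kg xg21 yg26 zg54) (kg xg12 yg4 zg16) (kg xg28 yg55 zg1) (kg xg20 yg22 zg2) (kg xg15 yg24 zg26) (kg xg17 yg20 zg1) (kg xg12 yg4 zg29) (kg xg19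 yg9 zg59) (kg xg19 yg3 zg12) (kg xg19 yg3 zg10) (kg xg12 yg4 zg34) (kg xg21 yg58 zg12) (kg xg15 yg54 zg56) (kg xg20 yg22 zg46) (kg xg12 yg4 zg40) (kg xg12 yg4 zg56)) (@D3.rec (fun _ => Pt) (kg xg12 yg4 zg55) (kg xg21 yg49 zg56) (kg xg22 yg11 zg11) (kg xg12 yg33 zg50) (kg xg17 yg40 zg10) (kg xg12 yg4 zg53) (kg xg26 yg2 zg38) (kg xg26 yg2 zg11) (kg xg27 yg9 zg19) (kg xg21 yg43 zg54) (kg xg12 yg4 zg59) (kg xg13 yg0 zg1) (kg xg17 yg43 zg42) (kg xg12 yg5 zg1) (kg xg29 yg51 zg22) (kg xg29 yg52 zg35) (kg xg13 yg0 zg27) (kg xg13 yg0 zg25) (kg xg17 yg35 zg20) (kg xg21 yg23 zg50) (kg xg26 yg3 zg33) (kg xg15 yg45 zg4) (kg xg24 yg53 zg21) (kg xg26 yg56 zg12) (kg xg20 yg38 zg49) (kg xg12 yg5 zg5) (kg xg27 yg52 zg57) (kg xg29 yg52 zg45) (kg xg29 yg52 zg47) (kg xg26 yg31 zg56) (kg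 xg16 yg33 zg60) (kg xg12 yg5 zg8) (kg xg16 yg33 zg59) (kg xg22 yg55 zg32) (kg xg26 yg24 zg4) (kg xg16 yg34 zg5) (kg xg12 yg5 zg10) (kg xg16 yg34 zg4) (kg xg26 yg23 zg24) (kg xg23 yg16 zg14) (kg xg27 yg53 zg1) (kg xg29 yg52 zg59) (kg xg16 yg34 zg11) (kg xg12 yg5 zg13) (kg xg16 yg34 zg10) (kg xg29 yg53 zg1) (kg xg29 yg53 zg3) (kg xg16 yg34 zg16) (kg xg12 yg5 zg15) (kg xg16 yg34 zg15) (kg xg24 yg12 zg57) (kg xg24 yg48 zg15) (kg xg14 yg31 zg15) (kg xg27 yg49 zg15) (kg xg26 yg31 zg45) (kg xg12 yg5 zg18) (kg xg26 yg31 zg47) (kg xg16 yg23 zg23) (kg xg12 yg5 zg19) (kg xg16 yg25 zg55) (kg xg13 yg26 zg45) (kg xg13 yg28 zg13)) (@D3.rec (fun _ => Pt) (kg xg29 yg24 zg11) (kg xg29 yg53 zg20) (kg xg18 yg11 zg31) (kg xg16 yg34 zg32) (kg xg12 yg5 zg24) (kg xg16 yg34 zg31) (kg xg15 yg4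 zg54) (kg xg22 yg55 zg24) (kg xg12 yg9 zg59) (kg xg29 yg53 zg26) (kg xg22 yg6 zg10) (kg xg12 yg5 zg31) (kg xg21 yg14 zg12) (kg xg28 yg20 zg21) (kg xg17 yg1 zg49) (kg xg14 yg20 zg23) (kg xg12 yg48 zg60) (kg xg22 yg49 zg6) (kg xg26 yg56 zg4) (kg xg17 yg1 zg45) (kg xg12 yg5 zg37) (kg xg22 yg26 zg6) (kg xg26 yg55 zg52) (kg xg21 yg15 zg52) (kg xg16 yg49 zg45) (kg xg19 yg3 zg9) (kg xg17 yg2 zg0) (kg xg27 yg44 zg19) (kg xg12 yg5 zg43) (kg xg20 yg53 zg48) (kg xg29 yg40 zg42) (kg xg29 yg52 zg46) (kg xg29 yg53 zg39) (kg xg19 yg8 zg21) (kg xg12 yg5 zg46) (kg xg23 yg13 zg10) (kg xg26 yg36 zg43) (kg xg21 yg21 zg38) (kg xg12 yg5 zg51) (kg xg14 yg38 zg57) (kg xg26 yg24 zg12) (kg xg23 yg3 zg32) (kg xg23 yg3 zg36) (kg xg17 yg57 zg10) (kg xg26 yg22 zg37) (kg xg12 yg5 zg58) (kg xg12 yg5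 zg55) (kg xg26 yg30 zg19) (kg xg26 yg31 zg58) (kg xg20 yg41 zg5) (kg xg29 yg19 zg17) (kg xg26 yg22 zg29) (kg xg26 yg30 zg21) (kg xg22 yg55 zg33) (kg xg13 yg33 zg7) (kg xg13 yg33 zg53) (kg xg24 yg59 zg61) (kg xg24 yg13 zg27) (kg xg26 yg21 zg2) (kg xg16 yg33 zg47) (kg xg24 yg56 zg43) (kg xg24 yg57 zg47)) (@D3.rec (fun _ => Pt) (kg xg12 yg6 zg2) (kg xg24 yg57 zg46) (kg xg26 yg25 zg28) (kg xg24 yg9 zg28) (kg xg24 yg57 zg50) (kg xg12 yg6 zg4) (kg xg24 yg57 zg49) (kg xg29 yg53 zg58) (kg xg12 yg6 zg5) (kg xg27 yg51 zg49) (kg xg29 yg53 zg60) (kg xg28 yg8 zg35) (kg xg26 yg21 zg24) (kg xg29 yg53 zg13) (kg xg24 yg56 zg35) (kg xg12 yg6 zg8) (kg xg21 yg30 zg50) (kg xg13 yg30 zg59) (kg xg23 yg16 zg50) (kg xg16 yg11 zg59) (kg xg17 yg24 zg37) (kg xg13 yg39 zg45) (kg xg21 yg47 zg54)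 (kg xg14 yg59 zg16) (kg xg17 yg55 zg11) (kg xg23 yg34 zg47) (kg xg12 yg6 zg25) (kg xg19 yg18 zg31) (kg xg20 yg26 zg26) (kg xg17 yg2 zg48) (kg xg24 yg54 zg14) (kg xg16 yg26 zg11) (kg xg26 yg22 zg31) (kg xg15 yg5 zg51) (kg xg12 yg22 zg37) (kg xg29 yg53 zg55) (kg xg12 yg6 zg34) (kg xg18 yg33 zg4) (kg xg25 yg3 zg13) (kg xg13 yg29 zg21) (kg xg18 yg33 zg13) (kg xg27 yg52 zg32) (kg xg18 yg33 zg18) (kg xg29 yg54 zg13) (kg xg27 yg52 zg28) (kg xg29 yg25 zg15) (kg xg27 yg50 zg4) (kg xg12 yg6 zg43) (kg xg27 yg55 zg41) (kg xg27 yg38 zg61) (kg xg26 yg31 zg28) (kg xg12 yg6 zg46) (kg xg20 yg21 zg8) (kg xg28 yg46 zg25) (kg xg26 yg18 zg25) (kg xg20 yg21 zg14) (kg xg12 yg6 zg48) (kg xg20 yg21 zg13) (kg xg27 yg57 zg13) (kg xg28 yg48 zg41) (kg xg24 yg44 zg25) (kg xg22 yg56 zg56)) (@D3.rec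 (fun _ => Pt) (kg xg12 yg6 zg54) (kg xg25 yg2 zg1) (kg xg12 yg6 zg55) (kg xg24 yg31 zg1) (kg xg13 yg27 zg39) (kg xg22 yg55 zg48) (kg xg14 yg7 zg61) (kg xg16 yg57 zg19) (kg xg12 yg7 zg3) (kg xg12 yg6 zg60) (kg xg12 yg7 zg1) (kg xg12 yg10 zg0) (kg xg29 yg6 zg42) (kg xg21 yg12 zg16) (kg xg20 yg5 zg52) (kg xg26 yg25 zg0) (kg xg12 yg7 zg5) (kg xg12 yg9 zg9) (kg xg20 yg8 zg37) (kg xg27 yg31 zg61) (kg xg24 yg24 zg11) (kg xg12 yg7 zg16) (kg xg29 yg53 zg5) (kg xg20 yg21 zg30) (kg xg27 yg34 zg43) (kg xg12 yg7 zg14) (kg xg20 yg21 zg4) (kg xg12 yg7 zg15) (kg xg19 yg21 zg48) (kg xg16 yg22 zg31) (kg xg24 yg47 zg39) (kg xg12 yg7 zg22) (kg xg20 yg31 zg33) (kg xg13 yg47 zg7) (kg xg12 yg7 zg24) (kg xg26 yg26 zg27) (kg xg15 yg23 zg57) (kg xg27 yg0 zg60) (kg xg12 yg7 zg37) (kg xg12 yg7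 zg28) (kg xg29 yg54 zg44) (kg xg12 yg7 zg35) (kg xg20 yg52 zg12) (kg xg22 yg29 zg2) (kg xg13 yg14 zg14) (kg xg29 yg54 zg49) (kg xg29 yg54 zg50) (kg xg29 yg54 zg47) (kg xg12 yg7 zg36) (kg xg29 yg54 zg54) (kg xg29 yg54 zg45) (kg xg16 yg35 zg9) (kg xg20 yg34 zg29) (kg xg16 yg24 zg1) (kg xg29 yg54 zg58) (kg xg12 yg7 zg43) (kg xg29 yg54 zg60) (kg xg12 yg7 zg40) (kg xg22 yg24 zg6) (kg xg12 yg7 zg41) (kg xg13 yg38 zg24) (kg xg26 yg19 zg15)) (@D3.rec (fun _ => Pt) (kg xg13 yg56 zg20) (kg xg29 yg24 zg34) (kg xg20 yg10 zg28) (kg xg29 yg28 zg5) (kg xg16 yg35 zg13) (kg xg16 yg33 zg34) (kg xg22 yg13 zg13) (kg xg22 yg46 zg17) (kg xg22 yg14 zg33) (kg xg13 yg46 zg48) (kg xg20 yg41 zg46) (kg xg20 yg31 zg42) (kg xg21 yg11 zg17) (kg xg24 yg28 zg31) (kg xg14 yg59 zg56) (kg xg13 yg57 zg61)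 (kg xg12 yg8 zg11) (kg xg24 yg12 zg55) (kg xg16 yg30 zg30) (kg xg12 yg8 zg2) (kg xg23 yg57 zg0) (kg xg13 yg57 zg45) (kg xg14 yg47 zg26) (kg xg12 yg8 zg10) (kg xg13 yg48 zg19) (kg xg24 yg5 zg8) (kg xg13 yg19 zg6) (kg xg29 yg55 zg13) (kg xg22 yg54 zg31) (kg xg22 yg42 zg56) (kg xg14 yg55 zg17) (kg xg13 yg25 zg15) (kg xg24 yg42 zg26) (kg xg13 yg24 zg36) (kg xg12 yg8 zg16) (kg xg26 yg22 zg49) (kg xg29 yg55 zg23) (kg xg13 yg55 zg30) (kg xg13 yg47 zg17) (kg xg22 yg47 zg34) (kg xg13 yg42 zg40) (kg xg13 yg42 zg35) (kg xg29 yg55 zg26) (kg xg13 yg42 zg60) (kg xg29 yg53 zg9) (kg xg12 yg8 zg28) (kg xg13 yg46 zg34) (kg xg13 yg48 zg14) (kg xg13 yg47 zg21) (kg xg13 yg55 zg23) (kg xg13 yg55 zg21) (kg xg13 yg32 zg9) (kg xg13 yg46 zg24) (kg xg21 yg30 zg6) (kg xg24 yg5 zg7) (kg xg24 yg5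 zg31) (kg xg13 yg39 zg30) (kg xg24 yg56 zg51) (kg xg13 yg33 zg3) (kg xg12 yg8 zg39) (kg xg21 yg10 zg33) (kg xg13 yg51 zg55)) (@D3.rec (fun _ => Pt) (kg xg28 yg8 zg36) (kg xg13 yg29 zg24) (kg xg28 yg0 zg3) (kg xg28 yg4 zg32) (kg xg18 yg59 zg15) (kg xg12 yg8 zg46) (kg xg16 yg19 zg45) (kg xg20 yg21 zg37) (kg xg20 yg8 zg53) (kg xg18 yg59 zg3) (kg xg15 yg4 zg38) (kg xg17 yg1 zg2) (kg xg24 yg28 zg14) (kg xg20 yg8 zg49) (kg xg12 yg8 zg59) (kg xg20 yg8 zg48) (kg xg20 yg9 zg59) (kg xg19 yg39 zg21) (kg xg20 yg20 zg50) (kg xg20 yg0 zg42) (kg xg17 yg12 zg20) (kg xg12 yg9 zg5) (kg xg17 yg2 zg47) (kg xg26 yg8 zg57) (kg xg17 yg21 zg2) (kg xg21 yg44 zg50) (kg xg29 yg23 zg55) (kg xg26 yg49 zg56) (kg xg27 yg5 zg40) (kg xg12 yg9 zg12) (kg xg19 yg18 zg4) (kg xg26 yg32 zg16) (kg xg28 yg19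 zg58) (kg xg19 yg43 zg13) (kg xg16 yg53 zg42) (kg xg29 yg55 zg38) (kg xg29 yg29 zg61) (kg xg26 yg48 zg43) (kg xg25 yg16 zg7) (kg xg27 yg5 zg35) (kg xg12 yg9 zg37) (kg xg25 yg46 zg38) (kg xg25 yg2 zg43) (kg xg28 yg26 zg5) (kg xg25 yg45 zg53) (kg xg25 yg23 zg47) (kg xg12 yg9 zg53) (kg xg26 yg45 zg34) (kg xg17 yg0 zg43) (kg xg19 yg52 zg23) (kg xg16 yg53 zg25) (kg xg19 yg12 zg59) (kg xg21 yg11 zg22) (kg xg19 yg43 zg26) (kg xg13 yg40 zg11) (kg xg14 yg32 zg22) (kg xg21 yg38 zg13) (kg xg20 yg52 zg27) (kg xg24 yg6 zg1) (kg xg20 yg52 zg43) (kg xg29 yg55 zg50) (kg xg24 yg25 zg36)) (@D3.rec (fun _ => Pt) (kg xg12 yg10 zg22) (kg xg14 yg16 zg16) (kg xg29 yg24 zg36) (kg xg20 yg24 zg3) (kg xg26 yg51 zg41) (kg xg19 yg18 zg14) (kg xg12 yg10 zg25) (kg xg29 yg19 zg35) (kg xg23 yg55 zg23)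 (kg xg24 yg5 zg58) (kg xg20 yg25 zg23) (kg xg19 yg52 zg19) (kg xg12 yg10 zg32) (kg xg17 yg19 zg6) (kg xg29 yg55 zg56) (kg xg12 yg10 zg56) (kg xg16 yg57 zg1) (kg xg20 yg24 zg16) (kg xg20 yg19 zg57) (kg xg20 yg19 zg55) (kg xg15 yg57 zg51) (kg xg17 yg27 zg55) (kg xg12 yg11 zg7) (kg xg17 yg27 zg54) (kg xg27 yg17 zg53) (kg xg15 yg36 zg3) (kg xg17 yg17 zg43) (kg xg24 yg14 zg19) (kg xg20 yg40 zg35) (kg xg24 yg20 zg36) (kg xg14 yg33 zg30) (kg xg17 yg28 zg30) (kg xg12 yg11 zg28) (kg xg12 yg15 zg42) (kg xg17 yg18 zg3) (kg xg12 yg11 zg18) (kg xg17 yg18 zg2) (kg xg16 yg56 zg1) (kg xg27 yg13 zg44) (kg xg15 yg56 zg24) (kg xg18 yg46 zg55) (kg xg12 yg11 zg21) (kg xg29 yg56 zg9) (kg xg17 yg25 zg0) (kg xg27 yg10 zg56) (kg xg20 yg55 zg32) (kg xg18 yg38 zg15) (kg xg27 yg12 zg19) (kg xg21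 yg20 zg60) (kg xg23 yg58 zg11) (kg xg17 yg28 zg46) (kg xg17 yg28 zg49) (kg xg29 yg56 zg14) (kg xg29 yg56 zg16) (kg xg14 yg27 zg3) (kg xg17 yg29 zg3) (kg xg12 yg11 zg35) (kg xg26 yg12 zg33) (kg xg21 yg21 zg6) (kg xg27 yg20 zg6) (kg xg15 yg21 zg59) (kg xg26 yg15 zg12)) (@D3.rec (fun _ => Pt) (kg xg27 yg11 zg27) (kg xg25 yg41 zg50) (kg xg27 yg11 zg0) (kg xg21 yg45 zg37) (kg xg12 yg11 zg40) (kg xg27 yg19 zg42) (kg xg29 yg0 zg6) (kg xg22 yg1 zg54) (kg xg12 yg11 zg41) (kg xg26 yg34 zg2) (kg xg29 yg56 zg28) (kg xg17 yg27 zg44) (kg xg12 yg11 zg42) (kg xg17 yg27 zg43) (kg xg23 yg28 zg9) (kg xg25 yg28 zg48) (kg xg29 yg3 zg43) (kg xg17 yg10 zg17) (kg xg12 yg11 zg45) (kg xg17 yg10 zg16) (kg xg27 yg17 zg45) (kg xg26 yg1 zg5) (kg xg17 yg27 zg60) (kg xg12 yg11 zg47) (kg xg17 yg27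 zg59) (kg xg29 yg56 zg43) (kg xg25 yg57 zg46) (kg xg17 yg28 zg4) (kg xg17 yg28 zg3) (kg xg29 yg56 zg48) (kg xg25 yg57 zg24) (kg xg25 yg53 zg45) (kg xg12 yg21 zg3) (kg xg12 yg18 zg7) (kg xg17 yg28 zg14) (kg xg17 yg28 zg12) (kg xg12 yg11 zg54) (kg xg29 yg56 zg56) (kg xg29 yg56 zg59) (kg xg29 yg5 zg47) (kg xg19 yg46 zg30) (kg xg29 yg56 zg46) (kg xg27 yg18 zg46) (kg xg12 yg11 zg57) (kg xg27 yg18 zg44) (kg xg12 yg12 zg61) (kg xg17 yg13 zg39) (kg xg29 yg57 zg7) (kg xg12 yg42 zg41) (kg xg12 yg12 zg3) (kg xg12 yg42 zg32) (kg xg12 yg12 zg10) (kg xg17 yg45 zg0) (kg xg25 yg51 zg6) (kg xg12 yg12 zg9) (kg xg25 yg51 zg3) (kg xg12 yg12 zg13) (kg xg12 yg12 zg14) (kg xg29 yg56 zg37) (kg xg29 yg57 zg16) (kg xg16 yg1 zg12) (kg xg12 yg59 zg43)) (@D3.rec (fun _ => Pt) (kg xg27 yg4 zg16)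 (kg xg16 yg0 zg39) (kg xg29 yg57 zg17) (kg xg21 yg46 zg8) (kg xg12 yg18 zg25) (kg xg21 yg9 zg30) (kg xg12 yg12 zg19) (kg xg19 yg7 zg8) (kg xg12 yg25 zg20) (kg xg14 yg52 zg60) (kg xg12 yg34 zg31) (kg xg29 yg57 zg28) (kg xg12 yg12 zg33) (kg xg12 yg21 zg32) (kg xg21 yg19 zg4) (kg xg12 yg12 zg23) (kg xg21 yg19 zg3) (kg xg27 yg18 zg36) (kg xg24 yg23 zg51) (kg xg14 yg15 zg52) (kg xg16 yg5 zg46) (kg xg27 yg20 zg50) (kg xg12 yg13 zg13) (kg xg12 yg12 zg32) (kg xg21 yg34 zg21) (kg xg29 yg57 zg44) (kg xg29 yg57 zg46) (kg xg15 yg45 zg57) (kg xg12 yg12 zg56) (kg xg21 yg34 zg14) (kg xg12 yg12 zg42) (kg xg21 yg34 zg13) (kg xg29 yg57 zg54) (kg xg29 yg57 zg55) (kg xg20 yg22 zg24) (kg xg20 yg47 zg61) (kg xg29 yg19 zg43) (kg xg12 yg34 zg47) (kg xg12 yg12 zg50) (kg xg12 yg34 zg45) (kg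 xg20 yg17 zg45) (kg xg12 yg46 zg29) (kg xg12 yg12 zg52) (kg xg21 yg35 zg38) (kg xg12 yg28 zg59) (kg xg12 yg28 zg57) (kg xg24 yg7 zg10) (kg xg21 yg45 zg2) (kg xg21 yg42 zg37) (kg xg12 yg12 zg57) (kg xg20 yg15 zg4) (kg xg12 yg40 zg10) (kg xg24 yg7 zg33) (kg xg24 yg14 zg24) (kg xg18 yg38 zg16) (kg xg12 yg39 zg55) (kg xg19 yg16 zg40) (kg xg12 yg40 zg22) (kg xg25 yg40 zg59) (kg xg12 yg40 zg19) (kg xg21 yg46 zg46) (kg xg12 yg13 zg10)) (@D3.rec (fun _ => Pt) (kg xg21 yg46 zg45) (kg xg12 yg13 zg11) (kg xg21 yg18 zg16) (kg xg12 yg13 zg12) (kg xg21 yg18 zg15) (kg xg29 yg57 zg4) (kg xg29 yg58 zg6) (kg xg14 yg39 zg57) (kg xg12 yg13 zg17) (kg xg21 yg24 zg24) (kg xg25 yg42 zg59) (kg xg14 yg49 zg46) (kg xg24 yg10 zg45) (kg xg21 yg34 zg17) (kg xg12 yg13 zg20) (kg xg21 yg34 zg16) (kg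 xg27 yg18 zg18) (kg xg29 yg58 zg14) (kg xg23 yg39 zg56) (kg xg24 yg41 zg49) (kg xg27 yg4 zg31) (kg xg25 yg41 zg51) (kg xg12 yg18 zg45) (kg xg12 yg17 zg56) (kg xg21 yg24 zg35) (kg xg21 yg34 zg36) (kg xg14 yg39 zg36) (kg xg29 yg55 zg19) (kg xg29 yg58 zg29) (kg xg29 yg57 zg57) (kg xg12 yg13 zg30) (kg xg29 yg57 zg56) (kg xg21 yg33 zg30) (kg xg12 yg13 zg34) (kg xg21 yg42 zg60) (kg xg25 yg40 zg61) (kg xg12 yg13 zg35) (kg xg26 yg46 zg39) (kg xg29 yg22 zg53) (kg xg21 yg50 zg42) (kg xg12 yg13 zg36) (kg xg12 yg15 zg43) (kg xg21 yg40 zg31) (kg xg12 yg13 zg39) (kg xg12 yg13 zg40) (kg xg14 yg54 zg59) (kg xg29 yg58 zg37) (kg xg12 yg20 zg31) (kg xg21 yg46 zg7) (kg xg19 yg22 zg51) (kg xg29 yg58 zg38) (kg xg14 yg54 zg29) (kg xg12 yg17 zg18) (kg xg15 yg6 zg56) (kg xg21 yg33 zg44) (kg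 xg12 yg13 zg45) (kg xg21 yg33 zg43) (kg xg13 yg51 zg34) (kg xg21 yg26 zg5) (kg xg27 yg26 zg12) (kg xg22 yg11 zg50) (kg xg12 yg13 zg50)) (@D3.rec (fun _ => Pt) (kg xg22 yg11 zg49) (kg xg29 yg58 zg48) (kg xg21 yg55 zg49) (kg xg16 yg59 zg28) (kg xg12 yg30 zg61) (kg xg14 yg4 zg22) (kg xg12 yg14 zg2) (kg xg17 yg5 zg22) (kg xg28 yg10 zg21) (kg xg24 yg15 zg56) (kg xg20 yg37 zg36) (kg xg23 yg54 zg6) (kg xg18 yg25 zg29) (kg xg21 yg32 zg16) (kg xg20 yg38 zg26) (kg xg12 yg14 zg16) (kg xg12 yg58 zg44) (kg xg12 yg35 zg29) (kg xg27 yg35 zg51) (kg xg29 yg42 zg26) (kg xg14 yg33 zg11) (kg xg20 yg37 zg54) (kg xg24 yg19 zg13) (kg xg12 yg15 zg32) (kg xg12 yg15 zg31) (kg xg12 yg14 zg27) (kg xg12 yg14 zg58) (kg xg29 yg43 zg28) (kg xg14 yg11 zg48) (kg xg21 yg47 zg6) (kg xg23 yg27 zg28) (kg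 xg14 yg18 zg11) (kg xg24 yg1 zg48) (kg xg15 yg51 zg16) (kg xg20 yg23 zg12) (kg xg12 yg14 zg47) (kg xg21 yg45 zg52) (kg xg21 yg6 zg51) (kg xg21 yg26 zg23) (kg xg27 yg5 zg42) (kg xg20 yg26 zg15) (kg xg12 yg15 zg35) (kg xg22 yg40 zg33) (kg xg20 yg5 zg51) (kg xg14 yg37 zg5) (kg xg29 yg25 zg50) (kg xg17 yg35 zg2) (kg xg12 yg41 zg34) (kg xg21 yg32 zg23) (kg xg12 yg53 zg38) (kg xg18 yg24 zg23) (kg xg20 yg22 zg60) (kg xg18 yg24 zg21) (kg xg12 yg15 zg37) (kg xg16 yg42 zg17) (kg xg16 yg42 zg15) (kg xg21 yg35 zg16) (kg xg29 yg48 zg39) (kg xg26 yg57 zg55) (kg xg26 yg38 zg57) (kg xg21 yg16 zg44) (kg xg24 yg26 zg51)) (@D3.rec (fun _ => Pt) (kg xg15 yg40 zg21) (kg xg21 yg42 zg46) (kg xg14 yg47 zg38) (kg xg14 yg17 zg53) (kg xg19 yg40 zg32) (kg xg21 yg47 zg51) (kg xg21 yg16 zg60) (kg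 xg21 yg5 zg45) (kg xg29 yg59 zg2) (kg xg12 yg21 zg14) (kg xg12 yg21 zg16) (kg xg29 yg57 zg5) (kg xg21 yg4 zg41) (kg xg12 yg16 zg21) (kg xg12 yg16 zg19) (kg xg27 yg47 zg23) (kg xg13 yg0 zg33) (kg xg12 yg16 zg17) (kg xg13 yg0 zg31) (kg xg29 yg59 zg7) (kg xg21 yg41 zg9) (kg xg21 yg47 zg60) (kg xg21 yg48 zg20) (kg xg12 yg16 zg20) (kg xg29 yg59 zg11) (kg xg21 yg48 zg19) (kg xg21 yg47 zg20) (kg xg17 yg30 zg42) (kg xg26 yg59 zg42) (kg xg21 yg43 zg7) (kg xg20 yg2 zg51) (kg xg21 yg47 zg52) (kg xg21 yg43 zg15) (kg xg12 yg16 zg24) (kg xg24 yg36 zg58) (kg xg22 yg31 zg11) (kg xg12 yg50 zg37) (kg xg12 yg37 zg18) (kg xg23 yg47 zg24) (kg xg12 yg43 zg17) (kg xg25 yg13 zg4) (kg xg14 yg55 zg26) (kg xg12 yg41 zg57) (kg xg14 yg54 zg53) (kg xg21 yg43 zg25) (kg xg15 yg46 zg16) (kg xg12 yg25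 zg32) (kg xg27 yg26 zg55) (kg xg17 yg30 zg50) (kg xg12 yg42 zg1) (kg xg12 yg42 zg3) (kg xg23 yg23 zg28) (kg xg23 yg23 zg29) (kg xg23 yg27 zg47) (kg xg14 yg3 zg9) (kg xg12 yg43 zg19) (kg xg29 yg59 zg36) (kg xg18 yg17 zg0) (kg xg18 yg16 zg60) (kg xg23 yg47 zg25) (kg xg21 yg55 zg58) (kg xg24 yg21 zg10)) (@D3.rec (fun _ => Pt) (kg xg17 yg19 zg31) (kg xg26 yg5 zg9) (kg xg21 yg45 zg27) (kg xg29 yg42 zg60) (kg xg18 yg0 zg11) (kg xg12 yg35 zg21) (kg xg12 yg36 zg32) (kg xg21 yg26 zg41) (kg xg12 yg16 zg52) (kg xg19 yg27 zg58) (kg xg17 yg31 zg16) (kg xg14 yg34 zg56) (kg xg21 yg39 zg59) (kg xg12 yg53 zg25) (kg xg12 yg16 zg55) (kg xg29 yg59 zg41) (kg xg14 yg29 zg25) (kg xg14 yg55 zg48) (kg xg14 yg11 zg56) (kg xg27 yg4 zg7) (kg xg12 yg16 zg61) (kg xg27 yg4 zg6) (kg xg24 yg22 zg28)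 (kg xg24 yg10 zg5) (kg xg29 yg59 zg48) (kg xg12 yg39 zg26) (kg xg25 yg44 zg46) (kg xg12 yg17 zg9) (kg xg25 yg44 zg27) (kg xg17 yg14 zg3) (kg xg21 yg58 zg60) (kg xg21 yg58 zg59) (kg xg25 yg10 zg1) (kg xg12 yg50 zg57) (kg xg12 yg42 zg55) (kg xg12 yg17 zg13) (kg xg21 yg9 zg60) (kg xg25 yg12 zg48) (kg xg25 yg44 zg37) (kg xg15 yg42 zg3) (kg xg21 yg23 zg21) (kg xg20 yg14 zg16) (kg xg29 yg59 zg52) (kg xg12 yg50 zg52) (kg xg20 yg14 zg35) (kg xg24 yg39 zg21) (kg xg17 yg58 zg45) (kg xg12 yg31 zg43) (kg xg21 yg58 zg19) (kg xg22 yg11 zg17) (kg xg12 yg17 zg24) (kg xg20 yg5 zg31) (kg xg29 yg59 zg53) (kg xg12 yg31 zg23) (kg xg12 yg50 zg30) (kg xg23 yg38 zg4) (kg xg27 yg25 zg53) (kg xg17 yg13 zg56) (kg xg12 yg17 zg37) (kg xg26 yg12 zg34) (kg xg27 yg30 zg53) (kg xg27 yg26 zg39)) (@D3.rec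 (fun _ => Pt) (kg xg12 yg26 zg55) (kg xg17 yg42 zg42) (kg xg14 yg4 zg45) (kg xg14 yg33 zg9) (kg xg29 yg51 zg52) (kg xg29 yg59 zg57) (kg xg21 yg23 zg31) (kg xg12 yg19 zg34) (kg xg27 yg25 zg32) (kg xg12 yg50 zg50) (kg xg12 yg17 zg54) (kg xg21 yg34 zg9) (kg xg15 yg36 zg22) (kg xg21 yg59 zg52) (kg xg12 yg17 zg52) (kg xg16 yg13 zg39) (kg xg22 yg2 zg54) (kg xg27 yg27 zg20) (kg xg20 yg16 zg26) (kg xg21 yg59 zg15) (kg xg25 yg15 zg8) (kg xg21 yg22 zg43) (kg xg12 yg17 zg59) (kg xg27 yg21 zg5) (kg xg21 yg59 zg10) (kg xg12 yg17 zg61) (kg xg21 yg33 zg56) (kg xg29 yg17 zg23) (kg xg27 yg46 zg29) (kg xg21 yg59 zg19) (kg xg17 yg43 zg51) (kg xg21 yg23 zg9) (kg xg12 yg18 zg4) (kg xg14 yg36 zg48) (kg xg21 yg59 zg34) (kg xg20 yg54 zg29) (kg xg21 yg40 zg2) (kg xg21 yg59 zg3) (kg xg27 yg10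 zg59) (kg xg17 yg48 zg44) (kg xg12 yg18 zg8) (kg xg30 yg0 zg4) (kg xg27 yg3 zg54) (kg xg12 yg18 zg16) (kg xg27 yg29 zg24) (kg xg22 yg10 zg23) (kg xg12 yg18 zg27) (kg xg21 yg8 zg54) (kg xg20 yg16 zg6) (kg xg12 yg18 zg14) (kg xg24 yg20 zg40) (kg xg17 yg52 zg31) (kg xg12 yg34 zg46) (kg xg25 yg52 zg25) (kg xg12 yg18 zg19) (kg xg29 yg17 zg6) (kg xg21 yg32 zg0) (kg xg24 yg41 zg36) (kg xg17 yg35 zg23) (kg xg21 yg47 zg42) (kg xg30 yg0 zg7) (kg xg27 yg29 zg29)) (@D3.rec (fun _ => Pt) (kg xg24 yg20 zg35) (kg xg30 yg0 zg9) (kg xg17 yg6 zg44) (kg xg30 yg0 zg8) (kg xg30 yg0 zg10) (kg xg27 yg29 zg14) (kg xg12 yg18 zg23) (kg xg14 yg33 zg41) (kg xg25 yg26 zg35) (kg xg28 yg16 zg1) (kg xg16 yg8 zg44) (kg xg12 yg18 zg24) (kg xg25 yg44 zg30) (kg xg20 yg54 zg30) (kg xg30 yg0 zg15) (kg xg18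 yg0 zg19) (kg xg29 yg7 zg18) (kg xg16 yg9 zg17) (kg xg27 yg4 zg27) (kg xg12 yg18 zg32) (kg xg27 yg4 zg26) (kg xg29 yg57 zg50) (kg xg30 yg0 zg23) (kg xg21 yg19 zg9) (kg xg12 yg18 zg34) (kg xg21 yg19 zg8) (kg xg30 yg0 zg26) (kg xg23 yg59 zg40) (kg xg14 yg42 zg22) (kg xg13 yg54 zg25) (kg xg12 yg18 zg40) (kg xg23 yg39 zg12) (kg xg23 yg59 zg28) (kg xg30 yg0 zg31) (kg xg25 yg38 zg55) (kg xg12 yg27 zg14) (kg xg16 yg4 zg42) (kg xg21 yg34 zg35) (kg xg29 yg58 zg39) (kg xg23 yg13 zg59) (kg xg30 yg0 zg38) (kg xg30 yg0 zg42) (kg xg30 yg0 zg24) (kg xg12 yg18 zg47) (kg xg23 yg40 zg3) (kg xg20 yg15 zg59) (kg xg12 yg18 zg52) (kg xg12 yg18 zg49) (kg xg20 yg16 zg60) (kg xg12 yg24 zg45) (kg xg25 yg45 zg36) (kg xg23 yg2 zg30) (kg xg13 yg25 zg6) (kg xg12 yg18 zg53) (kg xg21 yg59 zg54) (kg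 xg12 yg27 zg33) (kg xg27 yg59 zg26) (kg xg26 yg0 zg18) (kg xg12 yg20 zg38) (kg xg21 yg33 zg47) (kg xg12 yg18 zg59) (kg xg21 yg33 zg46)) (@D3.rec (fun _ => Pt) (kg xg22 yg28 zg30) (kg xg15 yg12 zg13) (kg xg13 yg52 zg23) (kg xg12 yg19 zg0) (kg xg23 yg1 zg52) (kg xg27 yg31 zg33) (kg xg22 yg11 zg47) (kg xg12 yg19 zg4) (kg xg22 yg11 zg46) (kg xg22 yg42 zg15) (kg xg23 yg45 zg6) (kg xg22 yg27 zg53) (kg xg22 yg8 zg51) (kg xg23 yg17 zg61) (kg xg30 yg0 zg57) (kg xg30 yg0 zg60) (kg xg12 yg24 zg61) (kg xg12 yg27 zg29) (kg xg21 yg26 zg2) (kg xg27 yg24 zg37) (kg xg22 yg31 zg14) (kg xg12 yg26 zg42) (kg xg12 yg25 zg53) (kg xg21 yg33 zg55) (kg xg18 yg37 zg30) (kg xg12 yg19 zg15) (kg xg30 yg1 zg3) (kg xg15 yg12 zg21) (kg xg26 yg15 zg55) (kg xg27 yg4 zg24) (kg xg18 yg29 zg44) (kg xg27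 yg45 zg41) (kg xg14 yg8 zg48) (kg xg12 yg19 zg19) (kg xg16 yg35 zg55) (kg xg14 yg8 zg45) (kg xg21 yg41 zg55) (kg xg27 yg33 zg42) (kg xg27 yg56 zg2) (kg xg12 yg19 zg27) (kg xg27 yg46 zg30) (kg xg12 yg19 zg28) (kg xg22 yg8 zg60) (kg xg15 yg36 zg31) (kg xg12 yg19 zg29) (kg xg27 yg17 zg48) (kg xg27 yg4 zg48) (kg xg27 yg37 zg30) (kg xg14 yg9 zg31) (kg xg16 yg15 zg34) (kg xg12 yg19 zg38) (kg xg12 yg47 zg20) (kg xg12 yg19 zg36) (kg xg25 yg44 zg35) (kg xg27 yg56 zg3) (kg xg12 yg27 zg57) (kg xg12 yg47 zg21) (kg xg12 yg19 zg37) (kg xg21 yg45 zg61) (kg xg12 yg45 zg4) (kg xg12 yg50 zg14) (kg xg21 yg33 zg52)) (@D3.rec (fun _ => Pt) (kg xg12 yg19 zg49) (kg xg27 yg30 zg44) (kg xg21 yg25 zg21) (kg xg22 yg8 zg31) (kg xg21 yg19 zg58) (kg xg12 yg19 zg53) (kg xg23 yg44 zg31) (kg xg12 yg19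 zg54) (kg xg26 yg19 zg12) (kg xg27 yg48 zg1) (kg xg21 yg58 zg38) (kg xg17 yg30 zg24) (kg xg27 yg48 zg12) (kg xg30 yg1 zg15) (kg xg18 yg16 zg38) (kg xg30 yg0 zg51) (kg xg17 yg44 zg6) (kg xg18 yg29 zg39) (kg xg12 yg20 zg8) (kg xg12 yg20 zg4) (kg xg18 yg37 zg39) (kg xg12 yg20 zg6) (kg xg27 yg27 zg48) (kg xg20 yg16 zg18) (kg xg17 yg45 zg16) (kg xg26 yg14 zg50) (kg xg21 yg20 zg37) (kg xg18 yg37 zg37) (kg xg21 yg8 zg13) (kg xg12 yg20 zg37) (kg xg16 yg18 zg2) (kg xg27 yg23 zg1) (kg xg12 yg35 zg49) (kg xg12 yg20 zg15) (kg xg19 yg15 zg6) (kg xg12 yg20 zg20) (kg xg23 yg23 zg51) (kg xg18 yg16 zg47) (kg xg20 yg2 zg3) (kg xg13 yg24 zg43) (kg xg21 yg3 zg48) (kg xg21 yg22 zg8) (kg xg12 yg20 zg30) (kg xg21 yg19 zg48) (kg xg12 yg27 zg19) (kg xg18 yg57 zg13) (kg xg12 yg20 zg41) (kg xg27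 yg3 zg44) (kg xg27 yg4 zg45) (kg xg12 yg21 zg38) (kg xg17 yg14 zg12) (kg xg27 yg45 zg48) (kg xg27 yg4 zg46) (kg xg30 yg1 zg23) (kg xg22 yg4 zg9) (kg xg25 yg55 zg10) (kg xg21 yg51 zg61) (kg xg25 yg44 zg60) (kg xg20 yg15 zg50) (kg xg23 yg2 zg47) (kg xg23 yg2 zg49) (kg xg12 yg20 zg49)) (@D3.rec (fun _ => Pt) (kg xg26 yg12 zg58) (kg xg27 yg4 zg53) (kg xg12 yg20 zg57) (kg xg27 yg4 zg52) (kg xg29 yg56 zg4) (kg xg30 yg1 zg30) (kg xg27 yg4 zg55) (kg xg12 yg20 zg59) (kg xg25 yg7 zg35) (kg xg27 yg25 zg56) (kg xg25 yg30 zg26) (kg xg25 yg27 zg4) (kg xg21 yg25 zg41) (kg xg17 yg28 zg11) (kg xg21 yg5 zg7) (kg xg29 yg57 zg18) (kg xg19 yg46 zg10) (kg xg21 yg5 zg8) (kg xg12 yg21 zg4) (kg xg13 yg35 zg23) (kg xg27 yg7 zg46) (kg xg29 yg4 zg51) (kg xg25 yg30 zg17) (kg xg12 yg21 zg6) (kg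 xg25 yg5 zg0) (kg xg12 yg21 zg12) (kg xg12 yg21 zg9) (kg xg27 yg17 zg43) (kg xg27 yg23 zg25) (kg xg29 yg43 zg8) (kg xg28 yg42 zg61) (kg xg15 yg36 zg2) (kg xg27 yg23 zg27) (kg xg27 yg37 zg53) (kg xg16 yg51 zg15) (kg xg16 yg7 zg49) (kg xg30 yg1 zg47) (kg xg25 yg31 zg32) (kg xg27 yg17 zg52) (kg xg21 yg5 zg28) (kg xg15 yg59 zg14) (kg xg12 yg59 zg5) (kg xg21 yg49 zg54) (kg xg21 yg6 zg5) (kg xg12 yg21 zg19) (kg xg21 yg6 zg4) (kg xg30 yg1 zg52) (kg xg30 yg1 zg53) (kg xg12 yg48 zg10) (kg xg14 yg44 zg37) (kg xg12 yg21 zg23) (kg xg14 yg44 zg36) (kg xg23 yg42 zg20) (kg xg15 yg46 zg15) (kg xg15 yg48 zg44) (kg xg30 yg1 zg60) (kg xg12 yg26 zg6) (kg xg21 yg8 zg53) (kg xg27 yg22 zg9) (kg xg22 yg10 zg20) (kg xg23 yg25 zg6) (kg xg27 yg22 zg4)) (@D3.rec (fun _ => Pt) (kg xg12 yg21 zg29)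 (kg xg29 yg31 zg3) (kg xg13 yg50 zg59) (kg xg30 yg2 zg6) (kg xg13 yg50 zg56) (kg xg29 yg57 zg36) (kg xg26 yg3 zg38) (kg xg22 yg31 zg15) (kg xg26 yg2 zg57) (kg xg29 yg57 zg34) (kg xg12 yg21 zg33) (kg xg23 yg13 zg61) (kg xg21 yg55 zg19) (kg xg25 yg2 zg17) (kg xg26 yg3 zg13) (kg xg15 yg45 zg52) (kg xg26 yg2 zg24) (kg xg23 yg13 zg4) (kg xg29 yg52 zg8) (kg xg29 yg52 zg34) (kg xg24 yg51 zg51) (kg xg17 yg35 zg12) (kg xg14 yg49 zg56) (kg xg21 yg6 zg31) (kg xg26 yg0 zg50) (kg xg15 yg42 zg33) (kg xg12 yg26 zg26) (kg xg18 yg24 zg18) (kg xg30 yg2 zg32) (kg xg27 yg5 zg54) (kg xg12 yg35 zg28) (kg xg26 yg0 zg47) (kg xg28 yg25 zg53) (kg xg21 yg5 zg27) (kg xg13 yg51 zg31) (kg xg12 yg38 zg19) (kg xg29 yg29 zg12) (kg xg26 yg22 zg42) (kg xg24 yg59 zg22) (kg xg12 yg21 zg55) (kg xg25 yg3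 zg59) (kg xg21 yg44 zg51) (kg xg12 yg21 zg59) (kg xg20 yg1 zg14) (kg xg16 yg25 zg38) (kg xg20 yg36 zg11) (kg xg28 yg28 zg14) (kg xg27 yg57 zg52) (kg xg19 yg43 zg29) (kg xg12 yg22 zg3) (kg xg27 yg9 zg31) (kg xg12 yg22 zg15) (kg xg12 yg22 zg7) (kg xg20 yg38 zg28) (kg xg12 yg22 zg13) (kg xg28 yg24 zg39) (kg xg25 yg39 zg57) (kg xg29 yg19 zg10) (kg xg12 yg46 zg8) (kg xg23 yg7 zg21) (kg xg12 yg22 zg14) (kg xg16 yg31 zg32)) (@D3.rec (fun _ => Pt) (kg xg29 yg54 zg6) (kg xg15 yg0 zg5) (kg xg29 yg19 zg11) (kg xg27 yg58 zg44) (kg xg26 yg57 zg35) (kg xg18 yg41 zg33) (kg xg17 yg2 zg44) (kg xg12 yg22 zg25) (kg xg20 yg13 zg33) (kg xg17 yg2 zg43) (kg xg23 yg25 zg19) (kg xg21 yg54 zg2) (kg xg17 yg15 zg19) (kg xg23 yg3 zg25) (kg xg12 yg22 zg39) (kg xg12 yg22 zg32) (kg xg17 yg56 zg39)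 (kg xg23 yg29 zg40) (kg xg16 yg25 zg48) (kg xg12 yg22 zg33) (kg xg25 yg12 zg7) (kg xg24 yg33 zg48) (kg xg30 yg2 zg48) (kg xg26 yg22 zg43) (kg xg12 yg22 zg38) (kg xg21 yg29 zg49) (kg xg15 yg6 zg18) (kg xg30 yg2 zg51) (kg xg16 yg31 zg56) (kg xg29 yg14 zg49) (kg xg17 yg9 zg20) (kg xg16 yg23 zg47) (kg xg20 yg24 zg56) (kg xg30 yg2 zg47) (kg xg17 yg54 zg51) (kg xg12 yg22 zg46) (kg xg29 yg26 zg54) (kg xg24 yg42 zg27) (kg xg24 yg36 zg42) (kg xg14 yg6 zg42) (kg xg30 yg2 zg58) (kg xg29 yg18 zg22) (kg xg13 yg55 zg31) (kg xg12 yg22 zg49) (kg xg12 yg22 zg52) (kg xg30 yg3 zg2) (kg xg21 yg30 zg5) (kg xg14 yg8 zg25) (kg xg21 yg29 zg25) (kg xg26 yg23 zg11) (kg xg23 yg3 zg20) (kg xg15 yg6 zg15) (kg xg12 yg22 zg57) (kg xg24 yg17 zg40) (kg xg15 yg6 zg13) (kg xg14 yg40 zg8) (kg xg24 yg57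 zg29) (kg xg22 yg49 zg45) (kg xg29 yg54 zg30) (kg xg15 yg5 zg50) (kg xg13 yg14 zg15) (kg xg23 yg24 zg41)) (@D3.rec (fun _ => Pt) (kg xg30 yg3 zg14) (kg xg14 yg8 zg26) (kg xg23 yg16 zg49) (kg xg24 yg47 zg11) (kg xg26 yg28 zg20) (kg xg14 yg1 zg54) (kg xg21 yg14 zg51) (kg xg12 yg23 zg9) (kg xg26 yg56 zg13) (kg xg16 yg29 zg50) (kg xg17 yg9 zg26) (kg xg13 yg9 zg60) (kg xg26 yg33 zg4) (kg xg26 yg26 zg26) (kg xg29 yg14 zg59) (kg xg23 yg14 zg48) (kg xg15 yg30 zg42) (kg xg14 yg36 zg0) (kg xg14 yg35 zg59) (kg xg20 yg38 zg17) (kg xg29 yg42 zg25) (kg xg20 yg51 zg42) (kg xg12 yg23 zg26) (kg xg21 yg49 zg52) (kg xg22 yg4 zg46) (kg xg20 yg20 zg16) (kg xg14 yg35 zg51) (kg xg20 yg37 zg31) (kg xg12 yg23 zg29) (kg xg21 yg5 zg10) (kg xg20 yg37 zg29) (kg xg21 yg9 zg24) (kg xg16 yg53 zg51)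 (kg xg20 yg9 zg24) (kg xg12 yg23 zg33) (kg xg15 yg55 zg60) (kg xg22 yg38 zg37) (kg xg20 yg9 zg23) (kg xg12 yg23 zg35) (kg xg28 yg15 zg54) (kg xg26 yg50 zg41) (kg xg21 yg57 zg30) (kg xg24 yg47 zg9) (kg xg20 yg26 zg18) (kg xg20 yg26 zg22) (kg xg12 yg23 zg48) (kg xg13 yg23 zg30) (kg xg13 yg58 zg59) (kg xg17 yg53 zg4) (kg xg13 yg58 zg60) (kg xg21 yg44 zg53) (kg xg26 yg32 zg45) (kg xg27 yg29 zg48) (kg xg22 yg29 zg35) (kg xg14 yg33 zg6) (kg xg20 yg47 zg34) (kg xg16 yg57 zg28) (kg xg17 yg19 zg37) (kg xg21 yg54 zg60) (kg xg18 yg7 zg33) (kg xg21 yg36 zg47) (kg xg16 yg15 zg28)) (@D3.rec (fun _ => Pt) (kg xg12 yg35 zg17) (kg xg21 yg36 zg19) (kg xg12 yg24 zg19) (kg xg18 yg57 zg22) (kg xg15 yg59 zg25) (kg xg30 yg3 zg26) (kg xg30 yg3 zg28) (kg xg22 yg2 zg51) (kg xg14 yg2 zg50) (kg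 xg12 yg24 zg23) (kg xg14 yg2 zg49) (kg xg18 yg20 zg50) (kg xg18 yg16 zg7) (kg xg28 yg9 zg60) (kg xg27 yg3 zg56) (kg xg16 yg13 zg44) (kg xg15 yg38 zg35) (kg xg27 yg30 zg37) (kg xg21 yg6 zg8) (kg xg12 yg24 zg30) (kg xg21 yg6 zg7) (kg xg27 yg20 zg0) (kg xg24 yg41 zg31) (kg xg18 yg37 zg33) (kg xg12 yg24 zg34) (kg xg22 yg8 zg48) (kg xg22 yg9 zg0) (kg xg18 yg29 zg41) (kg xg16 yg15 zg25) (kg xg12 yg24 zg44) (kg xg28 yg19 zg5) (kg xg23 yg2 zg34) (kg xg12 yg24 zg39) (kg xg29 yg58 zg42) (kg xg12 yg24 zg40) (kg xg29 yg22 zg34) (kg xg21 yg6 zg58) (kg xg12 yg39 zg46) (kg xg21 yg35 zg18) (kg xg30 yg1 zg24) (kg xg23 yg2 zg50) (kg xg30 yg3 zg40) (kg xg22 yg6 zg16) (kg xg20 yg25 zg10) (kg xg18 yg43 zg11) (kg xg29 yg8 zg28) (kg xg20 yg18 zg2) (kg xg14 yg4 zg30) (kg xg30 yg3 zg43) (kg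 xg22 yg11 zg30) (kg xg16 yg9 zg42) (kg xg22 yg8 zg7) (kg xg29 yg50 zg35) (kg xg12 yg25 zg54) (kg xg27 yg5 zg47) (kg xg12 yg24 zg60) (kg xg27 yg5 zg46) (kg xg17 yg18 zg54) (kg xg17 yg18 zg9) (kg xg20 yg24 zg0) (kg xg29 yg42 zg21) (kg xg22 yg41 zg18)) (@D3.rec (fun _ => Pt) (kg xg12 yg25 zg9) (kg xg17 yg42 zg5) (kg xg15 yg49 zg41) (kg xg17 yg3 zg59) (kg xg12 yg25 zg11) (kg xg17 yg13 zg38) (kg xg21 yg33 zg21) (kg xg20 yg25 zg37) (kg xg12 yg25 zg13) (kg xg22 yg2 zg29) (kg xg27 yg19 zg48) (kg xg21 yg52 zg19) (kg xg12 yg25 zg14) (kg xg24 yg18 zg32) (kg xg26 yg59 zg2) (kg xg27 yg30 zg39) (kg xg28 yg1 zg28) (kg xg17 yg42 zg39) (kg xg30 yg3 zg54) (kg xg12 yg52 zg55) (kg xg14 yg25 zg51) (kg xg19 yg12 zg48) (kg xg12 yg47 zg45) (kg xg27 yg53 zg29) (kg xg26 yg28 zg13) (kg xg22 yg8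 zg37) (kg xg13 yg56 zg40) (kg xg17 yg59 zg48) (kg xg12 yg25 zg25) (kg xg17 yg51 zg11) (kg xg21 yg42 zg32) (kg xg29 yg57 zg27) (kg xg30 yg3 zg60) (kg xg24 yg19 zg56) (kg xg24 yg41 zg32) (kg xg15 yg45 zg25) (kg xg22 yg15 zg59) (kg xg19 yg49 zg17) (kg xg17 yg59 zg26) (kg xg17 yg59 zg49) (kg xg12 yg25 zg39) (kg xg20 yg18 zg36) (kg xg17 yg57 zg19) (kg xg21 yg38 zg5) (kg xg12 yg58 zg3) (kg xg12 yg47 zg2) (kg xg12 yg25 zg44) (kg xg18 yg7 zg40) (kg xg14 yg3 zg30) (kg xg22 yg2 zg52) (kg xg22 yg2 zg56) (kg xg30 yg4 zg1) (kg xg30 yg3 zg30) (kg xg21 yg4 zg28) (kg xg17 yg30 zg59) (kg xg21 yg33 zg25) (kg xg13 yg52 zg58) (kg xg26 yg58 zg22) (kg xg20 yg15 zg56) (kg xg18 yg37 zg12) (kg xg12 yg26 zg18) (kg xg22 yg3 zg1)) (@D3.rec (fun _ => Pt) (kg xg16 yg36 zg8) (kg xg22 yg43 zg59) (kg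 xg27 yg5 zg53) (kg xg23 yg30 zg16) (kg xg12 yg39 zg59) (kg xg27 yg11 zg35) (kg xg12 yg26 zg27) (kg xg12 yg39 zg30) (kg xg12 yg53 zg47) (kg xg12 yg39 zg28) (kg xg12 yg26 zg23) (kg xg29 yg22 zg31) (kg xg12 yg26 zg13) (kg xg23 yg36 zg21) (kg xg12 yg52 zg31) (kg xg16 yg28 zg12) (kg xg21 yg18 zg49) (kg xg22 yg10 zg36) (kg xg21 yg44 zg28) (kg xg25 yg44 zg36) (kg xg12 yg26 zg19) (kg xg26 yg58 zg23) (kg xg16 yg5 zg24) (kg xg21 yg19 zg32) (kg xg23 yg2 zg40) (kg xg21 yg25 zg49) (kg xg29 yg12 zg60) (kg xg20 yg27 zg46) (kg xg15 yg49 zg51) (kg xg18 yg32 zg36) (kg xg12 yg29 zg26) (kg xg12 yg26 zg21) (kg xg29 yg22 zg42) (kg xg23 yg42 zg42) (kg xg16 yg5 zg28) (kg xg12 yg26 zg24) (kg xg16 yg5 zg26) (kg xg25 yg17 zg54) (kg xg12 yg26 zg30) (kg xg16 yg17 zg34) (kg xg23 yg22 zg35) (kg xg21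 yg58 zg17) (kg xg21 yg19 zg56) (kg xg12 yg26 zg34) (kg xg21 yg19 zg55) (kg xg21 yg24 zg61) (kg xg12 yg26 zg35) (kg xg21 yg24 zg60) (kg xg16 yg18 zg11) (kg xg12 yg26 zg37) (kg xg16 yg18 zg5) (kg xg12 yg26 zg38) (kg xg21 yg26 zg0) (kg xg16 yg17 zg26) (kg xg16 yg17 zg3) (kg xg13 yg37 zg16) (kg xg12 yg50 zg49) (kg xg17 yg44 zg18) (kg xg12 yg26 zg43) (kg xg22 yg28 zg31) (kg xg12 yg26 zg44) (kg xg12 yg50 zg19)) (@D3.rec (fun _ => Pt) (kg xg12 yg26 zg45) (kg xg28 yg41 zg24) (kg xg21 yg57 zg13) (kg xg21 yg59 zg37) (kg xg12 yg26 zg49) (kg xg12 yg26 zg50) (kg xg28 yg4 zg1) (kg xg17 yg41 zg54) (kg xg28 yg3 zg55) (kg xg12 yg51 zg9) (kg xg12 yg26 zg57) (kg xg23 yg47 zg34) (kg xg21 yg18 zg31) (kg xg12 yg26 zg61) (kg xg21 yg18 zg30) (kg xg21 yg19 zg15) (kg xg12 yg27 zg0) (kg xg21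 yg19 zg14) (kg xg29 yg56 zg49) (kg xg30 yg4 zg32) (kg xg21 yg18 zg24) (kg xg12 yg27 zg2) (kg xg21 yg18 zg23) (kg xg25 yg39 zg17) (kg xg29 yg26 zg53) (kg xg16 yg3 zg52) (kg xg23 yg40 zg0) (kg xg21 yg22 zg2) (kg xg12 yg27 zg9) (kg xg30 yg4 zg39) (kg xg14 yg6 zg6) (kg xg21 yg46 zg49) (kg xg21 yg24 zg37) (kg xg21 yg23 zg19) (kg xg25 yg42 zg43) (kg xg17 yg14 zg17) (kg xg13 yg55 zg60) (kg xg13 yg25 zg4) (kg xg30 yg4 zg48) (kg xg29 yg58 zg31) (kg xg12 yg27 zg15) (kg xg29 yg58 zg30) (kg xg24 yg42 zg17) (kg xg24 yg42 zg32) (kg xg17 yg13 zg37) (kg xg12 yg36 zg38) (kg xg29 yg59 zg5) (kg xg13 yg0 zg39) (kg xg21 yg25 zg58) (kg xg12 yg27 zg22) (kg xg16 yg7 zg56) (kg xg17 yg14 zg39) (kg xg20 yg14 zg23) (kg xg12 yg27 zg25) (kg xg25 yg45 zg37) (kg xg12 yg27 zg32) (kg xg12 yg27 zg26)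 (kg xg21 yg7 zg44) (kg xg17 yg14 zg11) (kg xg28 yg18 zg61) (kg xg21 yg18 zg34) (kg xg19 yg25 zg4)) (@D3.rec (fun _ => Pt) (kg xg21 yg10 zg8) (kg xg19 yg26 zg22) (kg xg18 yg0 zg14) (kg xg12 yg28 zg17) (kg xg21 yg6 zg56) (kg xg21 yg42 zg33) (kg xg12 yg28 zg0) (kg xg12 yg28 zg2) (kg xg12 yg28 zg5) (kg xg21 yg11 zg37) (kg xg21 yg7 zg53) (kg xg21 yg41 zg45) (kg xg18 yg17 zg29) (kg xg18 yg38 zg1) (kg xg29 yg24 zg44) (kg xg21 yg20 zg56) (kg xg12 yg28 zg24) (kg xg29 yg0 zg7) (kg xg18 yg11 zg0) (kg xg24 yg32 zg50) (kg xg21 yg15 zg56) (kg xg27 yg56 zg36) (kg xg30 yg5 zg2) (kg xg28 yg1 zg18) (kg xg22 yg3 zg13) (kg xg12 yg28 zg40) (kg xg27 yg7 zg13) (kg xg30 yg5 zg6) (kg xg17 yg10 zg45) (kg xg21 yg6 zg55) (kg xg12 yg45 zg42) (kg xg21 yg7 zg50) (kg xg18 yg17 zg14) (kg xg12 yg45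 zg56) (kg xg12 yg38 zg51) (kg xg12 yg28 zg54) (kg xg12 yg38 zg49) (kg xg21 yg18 zg43) (kg xg12 yg28 zg55) (kg xg16 yg7 zg35) (kg xg30 yg5 zg9) (kg xg16 yg48 zg45) (kg xg14 yg14 zg6) (kg xg29 yg6 zg34) (kg xg29 yg6 zg35) (kg xg18 yg50 zg31) (kg xg21 yg1 zg31) (kg xg21 yg7 zg4) (kg xg22 yg5 zg52) (kg xg12 yg29 zg1) (kg xg17 yg7 zg23) (kg xg26 yg28 zg46) (kg xg21 yg53 zg28) (kg xg14 yg12 zg3) (kg xg18 yg23 zg38) (kg xg12 yg29 zg9) (kg xg20 yg54 zg24) (kg xg20 yg44 zg6) (kg xg19 yg26 zg46) (kg xg19 yg20 zg57) (kg xg19 yg34 zg13) (kg xg16 yg47 zg14)) (@D3.rec (fun _ => Pt) (kg xg19 yg39 zg51) (kg xg20 yg9 zg19) (kg xg12 yg49 zg54) (kg xg12 yg29 zg20) (kg xg25 yg13 zg23) (kg xg20 yg40 zg8) (kg xg18 yg8 zg19) (kg xg18 yg21 zg27) (kg xg30 yg5 zg15) (kg xg20 yg28 zg32) (kg xg20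 yg27 zg44) (kg xg15 yg48 zg26) (kg xg22 yg43 zg45) (kg xg21 yg58 zg61) (kg xg27 yg42 zg61) (kg xg12 yg29 zg32) (kg xg21 yg7 zg3) (kg xg17 yg17 zg48) (kg xg21 yg30 zg53) (kg xg12 yg32 zg53) (kg xg21 yg7 zg16) (kg xg14 yg12 zg21) (kg xg25 yg10 zg0) (kg xg15 yg48 zg19) (kg xg12 yg29 zg36) (kg xg14 yg37 zg14) (kg xg21 yg42 zg8) (kg xg14 yg46 zg59) (kg xg12 yg34 zg26) (kg xg20 yg46 zg31) (kg xg16 yg58 zg35) (kg xg17 yg58 zg53) (kg xg16 yg58 zg14) (kg xg12 yg57 zg55) (kg xg12 yg29 zg57) (kg xg20 yg19 zg36) (kg xg16 yg47 zg25) (kg xg13 yg0 zg51) (kg xg12 yg32 zg25) (kg xg16 yg46 zg37) (kg xg12 yg30 zg10) (kg xg29 yg25 zg38) (kg xg16 yg5 zg59) (kg xg16 yg46 zg33) (kg xg12 yg30 zg7) (kg xg22 yg57 zg42) (kg xg21 yg30 zg61) (kg xg18 yg37 zg38) (kg xg20 yg27 zg28) (kg xg17 yg30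 zg7) (kg xg12 yg30 zg28) (kg xg29 yg23 zg42) (kg xg16 yg49 zg28) (kg xg22 yg11 zg23) (kg xg20 yg26 zg32) (kg xg24 yg52 zg10) (kg xg29 yg17 zg15) (kg xg27 yg9 zg10) (kg xg16 yg43 zg10) (kg xg17 yg16 zg6) (kg xg12 yg30 zg36) (kg xg16 yg18 zg53)) (@D3.rec (fun _ => Pt) (kg xg16 yg14 zg24) (kg xg22 yg11 zg8) (kg xg23 yg36 zg35) (kg xg12 yg30 zg39) (kg xg18 yg8 zg5) (kg xg23 yg22 zg33) (kg xg12 yg30 zg40) (kg xg23 yg22 zg32) (kg xg25 yg1 zg11) (kg xg24 yg44 zg17) (kg xg12 yg30 zg42) (kg xg23 yg22 zg29) (kg xg30 yg5 zg26) (kg xg27 yg28 zg39) (kg xg26 yg14 zg47) (kg xg25 yg1 zg35) (kg xg17 yg13 zg3) (kg xg20 yg9 zg46) (kg xg20 yg17 zg37) (kg xg21 yg3 zg10) (kg xg22 yg21 zg26) (kg xg14 yg29 zg55) (kg xg15 yg27 zg6) (kg xg13 yg2 zg48) (kg xg17 yg56 zg35) (kg xg12 yg32 zg26)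 (kg xg16 yg47 zg21) (kg xg26 yg46 zg52) (kg xg15 yg27 zg8) (kg xg30 yg5 zg29) (kg xg16 yg16 zg22) (kg xg26 yg5 zg13) (kg xg18 yg7 zg15) (kg xg21 yg23 zg2) (kg xg23 yg48 zg1) (kg xg15 yg48 zg12) (kg xg17 yg54 zg54) (kg xg21 yg57 zg46) (kg xg12 yg31 zg34) (kg xg14 yg14 zg16) (kg xg15 yg27 zg11) (kg xg28 yg50 zg15) (kg xg17 yg57 zg44) (kg xg20 yg22 zg59) (kg xg14 yg49 zg60) (kg xg17 yg55 zg34) (kg xg16 yg54 zg61) (kg xg12 yg31 zg46) (kg xg12 yg31 zg56) (kg xg19 yg46 zg36) (kg xg18 yg50 zg16) (kg xg23 yg42 zg30) (kg xg18 yg50 zg41) (kg xg16 yg51 zg23) (kg xg23 yg36 zg0) (kg xg23 yg26 zg39) (kg xg13 yg53 zg10) (kg xg17 yg29 zg49) (kg xg23 yg45 zg26) (kg xg23 yg35 zg21) (kg xg17 yg56 zg18) (kg xg25 yg3 zg19)) (@D3.rec (fun _ => Pt) (kg xg15 yg49 zg55) (kg xg12 yg32 zg0) (kg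 xg24 yg52 zg35) (kg xg21 yg57 zg23) (kg xg26 yg45 zg44) (kg xg25 yg17 zg50) (kg xg22 yg11 zg42) (kg xg13 yg47 zg28) (kg xg29 yg24 zg55) (kg xg29 yg18 zg42) (kg xg26 yg22 zg23) (kg xg20 yg1 zg13) (kg xg26 yg24 zg2) (kg xg20 yg13 zg38) (kg xg20 yg33 zg35) (kg xg12 yg32 zg16) (kg xg19 yg50 zg26) (kg xg20 yg33 zg34) (kg xg16 yg30 zg43) (kg xg17 yg12 zg57) (kg xg23 yg32 zg40) (kg xg17 yg29 zg53) (kg xg19 yg52 zg30) (kg xg26 yg12 zg25) (kg xg23 yg22 zg9) (kg xg17 yg18 zg13) (kg xg12 yg32 zg31) (kg xg27 yg12 zg1) (kg xg17 yg17 zg33) (kg xg28 yg18 zg59) (kg xg17 yg17 zg28) (kg xg30 yg5 zg39) (kg xg26 yg54 zg4) (kg xg17 yg17 zg30) (kg xg27 yg13 zg35) (kg xg22 yg7 zg20) (kg xg30 yg5 zg47) (kg xg17 yg10 zg54) (kg xg30 yg5 zg52) (kg xg27 yg7 zg27) (kg xg12 yg32 zg36) (kg xg18 yg46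 zg57) (kg xg18 yg21 zg19) (kg xg17 yg22 zg44) (kg xg17 yg17 zg5) (kg xg30 yg5 zg59) (kg xg27 yg8 zg24) (kg xg17 yg31 zg7) (kg xg17 yg31 zg24) (kg xg12 yg35 zg59) (kg xg30 yg6 zg0) (kg xg21 yg31 zg1) (kg xg28 yg33 zg28) (kg xg17 yg34 zg15) (kg xg29 yg37 zg34) (kg xg22 yg48 zg26) (kg xg12 yg38 zg57) (kg xg15 yg25 zg21) (kg xg12 yg37 zg39) (kg xg12 yg33 zg2) (kg xg29 yg12 zg58) (kg xg22 yg12 zg5)) (@D3.rec (fun _ => Pt) (kg xg30 yg6 zg4) (kg xg22 yg31 zg13) (kg xg27 yg19 zg56) (kg xg29 yg43 zg52) (kg xg30 yg6 zg11) (kg xg29 yg58 zg33) (kg xg24 yg15 zg57) (kg xg20 yg49 zg14) (kg xg27 yg9 zg22) (kg xg24 yg15 zg26) (kg xg12 yg33 zg11) (kg xg13 yg57 zg5) (kg xg22 yg40 zg16) (kg xg19 yg37 zg11) (kg xg30 yg6 zg19) (kg xg17 yg22 zg5) (kg xg30 yg6 zg21) (kg xg27 yg11 zg22) (kg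 xg12 yg33 zg17) (kg xg27 yg11 zg21) (kg xg21 yg5 zg0) (kg xg12 yg33 zg18) (kg xg21 yg4 zg61) (kg xg22 yg10 zg48) (kg xg12 yg33 zg19) (kg xg22 yg10 zg47) (kg xg28 yg47 zg8) (kg xg25 yg32 zg58) (kg xg25 yg27 zg49) (kg xg29 yg51 zg3) (kg xg25 yg33 zg33) (kg xg28 yg57 zg38) (kg xg17 yg28 zg61) (kg xg27 yg6 zg16) (kg xg12 yg33 zg25) (kg xg27 yg6 zg15) (kg xg30 yg6 zg34) (kg xg30 yg6 zg32) (kg xg29 yg58 zg17) (kg xg29 yg50 zg54) (kg xg30 yg6 zg39) (kg xg12 yg59 zg41) (kg xg22 yg9 zg7) (kg xg25 yg34 zg1) (kg xg29 yg50 zg40) (kg xg29 yg50 zg38) (kg xg12 yg33 zg30) (kg xg30 yg6 zg44) (kg xg25 yg34 zg8) (kg xg29 yg44 zg34) (kg xg28 yg44 zg48) (kg xg25 yg34 zg18) (kg xg17 yg20 zg61) (kg xg15 yg27 zg3) (kg xg23 yg57 zg8) (kg xg17 yg20 zg33) (kg xg22 yg16 zg11) (kg xg12 yg33 zg43)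 (kg xg27 yg11 zg49) (kg xg21 yg22 zg23) (kg xg30 yg6 zg52) (kg xg27 yg10 zg38)) (@D3.rec (fun _ => Pt) (kg xg21 yg50 zg5) (kg xg21 yg46 zg35) (kg xg12 yg33 zg52) (kg xg21 yg17 zg33) (kg xg27 yg2 zg26) (kg xg18 yg21 zg12) (kg xg28 yg0 zg25) (kg xg27 yg7 zg19) (kg xg22 yg22 zg34) (kg xg12 yg33 zg59) (kg xg30 yg6 zg58) (kg xg13 yg36 zg55) (kg xg14 yg10 zg13) (kg xg22 yg15 zg3) (kg xg13 yg36 zg49) (kg xg12 yg34 zg0) (kg xg25 yg18 zg34) (kg xg24 yg2 zg31) (kg xg21 yg5 zg53) (kg xg20 yg25 zg29) (kg xg25 yg42 zg8) (kg xg22 yg1 zg12) (kg xg24 yg0 zg40) (kg xg13 yg18 zg25) (kg xg22 yg13 zg35) (kg xg14 yg11 zg2) (kg xg12 yg34 zg10) (kg xg12 yg51 zg20) (kg xg13 yg22 zg54) (kg xg27 yg12 zg12) (kg xg14 yg12 zg26) (kg xg21 yg19 zg38) (kg xg21 yg10 zg9) (kg xg12 yg42 zg50) (kg xg12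 yg36 zg46) (kg xg27 yg1 zg25) (kg xg14 yg13 zg41) (kg xg26 yg59 zg30) (kg xg21 yg45 zg35) (kg xg17 yg59 zg43) (kg xg29 yg57 zg26) (kg xg26 yg58 zg38) (kg xg12 yg34 zg21) (kg xg29 yg6 zg53) (kg xg26 yg58 zg36) (kg xg15 yg48 zg9) (kg xg18 yg2 zg33) (kg xg12 yg40 zg55) (kg xg14 yg46 zg60) (kg xg19 yg10 zg37) (kg xg24 yg41 zg8) (kg xg12 yg34 zg30) (kg xg24 yg9 zg48) (kg xg23 yg44 zg11) (kg xg24 yg9 zg46) (kg xg12 yg48 zg5) (kg xg27 yg27 zg26) (kg xg25 yg54 zg13) (kg xg14 yg45 zg26) (kg xg14 yg45 zg27) (kg xg12 yg34 zg36) (kg xg30 yg7 zg22)) (@D3.rec (fun _ => Pt) (kg xg23 yg16 zg20) (kg xg12 yg34 zg37) (kg xg12 yg48 zg54) (kg xg18 yg36 zg15) (kg xg12 yg46 zg7) (kg xg17 yg35 zg6) (kg xg23 yg47 zg18) (kg xg25 yg45 zg50) (kg xg22 yg12 zg4) (kg xg28 yg24 zg37) (kg xg29 yg51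 zg50) (kg xg24 yg41 zg35) (kg xg13 yg57 zg54) (kg xg14 yg6 zg55) (kg xg12 yg34 zg52) (kg xg13 yg22 zg26) (kg xg13 yg14 zg58) (kg xg23 yg11 zg52) (kg xg22 yg18 zg31) (kg xg19 yg4 zg40) (kg xg22 yg22 zg19) (kg xg14 yg6 zg33) (kg xg14 yg1 zg25) (kg xg13 yg21 zg18) (kg xg18 yg57 zg16) (kg xg12 yg34 zg56) (kg xg13 yg48 zg24) (kg xg14 yg23 zg53) (kg xg20 yg42 zg25) (kg xg18 yg57 zg57) (kg xg21 yg41 zg59) (kg xg14 yg24 zg7) (kg xg18 yg13 zg46) (kg xg14 yg36 zg41) (kg xg21 yg47 zg46) (kg xg14 yg26 zg57) (kg xg17 yg51 zg31) (kg xg14 yg23 zg33) (kg xg21 yg51 zg54) (kg xg27 yg1 zg32) (kg xg22 yg8 zg3) (kg xg12 yg35 zg19) (kg xg18 yg0 zg6) (kg xg22 yg21 zg49) (kg xg14 yg36 zg33) (kg xg21 yg53 zg16) (kg xg22 yg37 zg6) (kg xg12 yg36 zg10) (kg xg24 yg54 zg25) (kg xg18 yg24 zg1) (kg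 xg20 yg17 zg30) (kg xg12 yg35 zg26) (kg xg21 yg44 zg35) (kg xg23 yg3 zg50) (kg xg12 yg35 zg31) (kg xg18 yg7 zg57) (kg xg18 yg24 zg36) (kg xg21 yg25 zg36) (kg xg14 yg36 zg40) (kg xg20 yg38 zg5) (kg xg14 yg20 zg47) (kg xg16 yg18 zg24)) (@D3.rec (fun _ => Pt) (kg xg18 yg6 zg27) (kg xg18 yg6 zg1) (kg xg12 yg35 zg44) (kg xg17 yg36 zg41) (kg xg18 yg12 zg57) (kg xg18 yg12 zg55) (kg xg21 yg22 zg32) (kg xg21 yg36 zg26) (kg xg12 yg35 zg45) (kg xg27 yg29 zg38) (kg xg16 yg17 zg53) (kg xg30 yg3 zg46) (kg xg21 yg58 zg37) (kg xg27 yg5 zg51) (kg xg23 yg22 zg53) (kg xg14 yg54 zg45) (kg xg23 yg50 zg24) (kg xg14 yg12 zg4) (kg xg29 yg50 zg32) (kg xg25 yg17 zg20) (kg xg12 yg35 zg57) (kg xg30 yg3 zg27) (kg xg25 yg17 zg19) (kg xg25 yg16 zg48) (kg xg26 yg11 zg28) (kg xg25 yg44 zg61) (kg xg12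 yg35 zg60) (kg xg17 yg31 zg5) (kg xg21 yg43 zg55) (kg xg21 yg44 zg29) (kg xg27 yg0 zg45) (kg xg27 yg43 zg28) (kg xg24 yg21 zg57) (kg xg27 yg0 zg47) (kg xg21 yg35 zg5) (kg xg20 yg15 zg11) (kg xg21 yg57 zg44) (kg xg29 yg22 zg30) (kg xg29 yg31 zg54) (kg xg12 yg36 zg22) (kg xg12 yg36 zg58) (kg xg21 yg18 zg48) (kg xg21 yg45 zg54) (kg xg21 yg20 zg29) (kg xg21 yg19 zg41) (kg xg21 yg21 zg1) (kg xg12 yg36 zg30) (kg xg12 yg36 zg35) (kg xg23 yg54 zg4) (kg xg21 yg17 zg52) (kg xg12 yg47 zg27) (kg xg15 yg17 zg21) (kg xg17 yg19 zg18) (kg xg21 yg46 zg34) (kg xg20 yg42 zg22) (kg xg12 yg40 zg5) (kg xg12 yg36 zg44) (kg xg25 yg57 zg22) (kg xg12 yg40 zg2) (kg xg29 yg59 zg50) (kg xg25 yg44 zg21) (kg xg25 yg56 zg54)) (@D3.rec (fun _ => Pt) (kg xg21 yg8 zg48) (kg xg30 yg0 zg6) (kg xg21 yg19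 zg1) (kg xg12 yg40 zg36) (kg xg12 yg36 zg51) (kg xg27 yg10 zg61) (kg xg30 yg7 zg45) (kg xg28 yg19 zg11) (kg xg12 yg36 zg56) (kg xg24 yg51 zg47) (kg xg20 yg53 zg45) (kg xg12 yg41 zg25) (kg xg25 yg50 zg0) (kg xg12 yg41 zg23) (kg xg26 yg11 zg16) (kg xg21 yg21 zg33) (kg xg15 yg21 zg23) (kg xg23 yg13 zg11) (kg xg12 yg41 zg45) (kg xg12 yg37 zg2) (kg xg29 yg4 zg50) (kg xg27 yg20 zg43) (kg xg12 yg41 zg42) (kg xg30 yg7 zg54) (kg xg28 yg42 zg43) (kg xg21 yg21 zg48) (kg xg23 yg23 zg17) (kg xg21 yg48 zg54) (kg xg30 yg2 zg29) (kg xg21 yg48 zg53) (kg xg12 yg37 zg8) (kg xg27 yg20 zg41) (kg xg27 yg17 zg58) (kg xg12 yg42 zg8) (kg xg12 yg37 zg31) (kg xg21 yg46 zg3) (kg xg13 yg5 zg45) (kg xg12 yg46 zg28) (kg xg12 yg46 zg56) (kg xg21 yg32 zg21) (kg xg21 yg57 zg22) (kg xg20 yg53 zg18) (kg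 xg12 yg37 zg19) (kg xg29 yg42 zg59) (kg xg12 yg43 zg12) (kg xg12 yg37 zg22) (kg xg21 yg47 zg56) (kg xg12 yg43 zg10) (kg xg17 yg52 zg37) (kg xg16 yg18 zg6) (kg xg30 yg8 zg6) (kg xg21 yg48 zg16) (kg xg12 yg42 zg34) (kg xg14 yg14 zg4) (kg xg21 yg45 zg36) (kg xg12 yg37 zg59) (kg xg29 yg59 zg51) (kg xg30 yg8 zg10) (kg xg16 yg7 zg29) (kg xg18 yg36 zg44) (kg xg12 yg42 zg61) (kg xg20 yg53 zg13)) (@D3.rec (fun _ => Pt) (kg xg18 yg1 zg21) (kg xg29 yg29 zg40) (kg xg14 yg14 zg2) (kg xg30 yg8 zg12) (kg xg17 yg51 zg25) (kg xg14 yg16 zg50) (kg xg12 yg37 zg40) (kg xg26 yg22 zg59) (kg xg27 yg10 zg14) (kg xg29 yg30 zg57) (kg xg21 yg42 zg29) (kg xg18 yg25 zg19) (kg xg20 yg34 zg40) (kg xg29 yg24 zg43) (kg xg16 yg59 zg33) (kg xg18 yg22 zg16) (kg xg12 yg37 zg57) (kg xg23 yg47 zg44) (kg xg14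 yg16 zg48) (kg xg12 yg37 zg58) (kg xg12 yg37 zg54) (kg xg28 yg12 zg16) (kg xg13 yg10 zg46) (kg xg23 yg36 zg32) (kg xg27 yg16 zg40) (kg xg26 yg52 zg61) (kg xg26 yg27 zg4) (kg xg25 yg17 zg36) (kg xg21 yg7 zg14) (kg xg12 yg40 zg8) (kg xg29 yg31 zg49) (kg xg12 yg38 zg2) (kg xg24 yg3 zg2) (kg xg16 yg33 zg39) (kg xg21 yg20 zg35) (kg xg22 yg47 zg15) (kg xg12 yg45 zg14) (kg xg12 yg45 zg50) (kg xg12 yg45 zg47) (kg xg12 yg46 zg47) (kg xg12 yg43 zg60) (kg xg22 yg0 zg28) (kg xg12 yg38 zg20) (kg xg12 yg46 zg5) (kg xg12 yg46 zg1) (kg xg25 yg19 zg1) (kg xg12 yg46 zg26) (kg xg12 yg38 zg15) (kg xg27 yg20 zg52) (kg xg12 yg46 zg24) (kg xg21 yg28 zg49) (kg xg14 yg44 zg54) (kg xg12 yg46 zg37) (kg xg21 yg13 zg13) (kg xg12 yg45 zg51) (kg xg12 yg38 zg23) (kg xg20 yg17 zg27) (kg xg23 yg47 zg1)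 (kg xg17 yg31 zg38) (kg xg12 yg47 zg26) (kg xg21 yg9 zg14) (kg xg21 yg35 zg50)) (@D3.rec (fun _ => Pt) (kg xg12 yg38 zg47) (kg xg18 yg50 zg48) (kg xg29 yg23 zg19) (kg xg12 yg38 zg50) (kg xg27 yg2 zg58) (kg xg17 yg4 zg32) (kg xg18 yg57 zg10) (kg xg13 yg9 zg10) (kg xg27 yg21 zg0) (kg xg30 yg8 zg19) (kg xg28 yg41 zg49) (kg xg21 yg8 zg32) (kg xg17 yg25 zg43) (kg xg21 yg43 zg57) (kg xg21 yg8 zg31) (kg xg24 yg22 zg20) (kg xg16 yg16 zg37) (kg xg30 yg4 zg26) (kg xg21 yg8 zg26) (kg xg16 yg5 zg4) (kg xg12 yg39 zg2) (kg xg22 yg27 zg7) (kg xg24 yg43 zg19) (kg xg21 yg6 zg14) (kg xg12 yg39 zg3) (kg xg27 yg10 zg42) (kg xg24 yg38 zg20) (kg xg17 yg13 zg52) (kg xg18 yg26 zg17) (kg xg12 yg39 zg57) (kg xg21 yg54 zg13) (kg xg21 yg44 zg8) (kg xg26 yg58 zg41) (kg xg17 yg5 zg36) (kg xg21 yg58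 zg47) (kg xg21 yg38 zg56) (kg xg21 yg40 zg32) (kg xg21 yg17 zg4) (kg xg27 yg19 zg32) (kg xg30 yg4 zg8) (kg xg12 yg39 zg29) (kg xg30 yg8 zg30) (kg xg23 yg54 zg8) (kg xg12 yg41 zg21) (kg xg12 yg41 zg1) (kg xg30 yg3 zg38) (kg xg21 yg42 zg42) (kg xg26 yg55 zg15) (kg xg21 yg54 zg44) (kg xg20 yg37 zg60) (kg xg12 yg39 zg42) (kg xg12 yg39 zg40) (kg xg27 yg48 zg11) (kg xg20 yg13 zg7) (kg xg12 yg39 zg41) (kg xg24 yg7 zg11) (kg xg21 yg20 zg36) (kg xg19 yg17 zg11) (kg xg22 yg37 zg5) (kg xg14 yg37 zg29) (kg xg27 yg22 zg5) (kg xg21 yg50 zg1)) (@D3.rec (fun _ => Pt) (kg xg15 yg17 zg19) (kg xg30 yg7 zg41) (kg xg17 yg21 zg43) (kg xg21 yg50 zg12) (kg xg12 yg49 zg13) (kg xg12 yg39 zg53) (kg xg25 yg23 zg43) (kg xg29 yg22 zg18) (kg xg21 yg23 zg34) (kg xg21 yg43 zg35) (kg xg12 yg58 zg28)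 (kg xg12 yg39 zg56) (kg xg26 yg1 zg2) (kg xg16 yg0 zg55) (kg xg12 yg52 zg29) (kg xg18 yg25 zg36) (kg xg27 yg19 zg54) (kg xg16 yg1 zg5) (kg xg26 yg1 zg1) (kg xg21 yg18 zg50) (kg xg28 yg57 zg43) (kg xg27 yg6 zg39) (kg xg21 yg46 zg24) (kg xg12 yg40 zg3) (kg xg21 yg46 zg23) (kg xg25 yg7 zg51) (kg xg12 yg40 zg34) (kg xg27 yg19 zg39) (kg xg25 yg55 zg15) (kg xg30 yg4 zg58) (kg xg12 yg40 zg6) (kg xg26 yg2 zg39) (kg xg12 yg40 zg7) (kg xg26 yg2 zg37) (kg xg21 yg42 zg52) (kg xg25 yg57 zg23) (kg xg17 yg29 zg31) (kg xg12 yg40 zg20) (kg xg24 yg43 zg6) (kg xg27 yg23 zg12) (kg xg24 yg42 zg56) (kg xg12 yg40 zg18) (kg xg21 yg56 zg29) (kg xg30 yg6 zg5) (kg xg21 yg19 zg0) (kg xg12 yg40 zg23) (kg xg21 yg18 zg61) (kg xg12 yg40 zg26) (kg xg12 yg40 zg24) (kg xg29 yg50 zg36) (kg xg30 yg7 zg43)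 (kg xg12 yg40 zg25) (kg xg30 yg7 zg42) (kg xg30 yg8 zg51) (kg xg23 yg36 zg9) (kg xg24 yg45 zg21) (kg xg12 yg40 zg29) (kg xg14 yg3 zg21) (kg xg28 yg3 zg52) (kg xg23 yg23 zg18) (kg xg24 yg40 zg60) (kg xg23 yg23 zg16)) (@D3.rec (fun _ => Pt) (kg xg24 yg58 zg6) (kg xg24 yg58 zg7) (kg xg12 yg40 zg35) (kg xg30 yg7 zg46) (kg xg30 yg8 zg61) (kg xg12 yg40 zg42) (kg xg12 yg40 zg38) (kg xg29 yg22 zg38) (kg xg12 yg40 zg46) (kg xg17 yg58 zg10) (kg xg29 yg22 zg24) (kg xg12 yg40 zg47) (kg xg29 yg35 zg5) (kg xg29 yg33 zg0) (kg xg12 yg54 zg4) (kg xg12 yg40 zg53) (kg xg12 yg47 zg25) (kg xg21 yg32 zg30) (kg xg22 yg23 zg9) (kg xg12 yg41 zg3) (kg xg29 yg41 zg0) (kg xg12 yg40 zg61) (kg xg14 yg52 zg41) (kg xg12 yg41 zg13) (kg xg18 yg50 zg49) (kg xg30 yg8 zg33) (kg xg12 yg41 zg4) (kg xg20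 yg17 zg32) (kg xg21 yg40 zg49) (kg xg12 yg41 zg10) (kg xg12 yg41 zg8) (kg xg19 yg29 zg39) (kg xg29 yg39 zg27) (kg xg23 yg12 zg50) (kg xg20 yg48 zg37) (kg xg30 yg5 zg12) (kg xg21 yg8 zg27) (kg xg26 yg10 zg58) (kg xg12 yg41 zg14) (kg xg29 yg2 zg16) (kg xg22 yg13 zg60) (kg xg22 yg22 zg0) (kg xg30 yg9 zg12) (kg xg12 yg41 zg17) (kg xg21 yg21 zg5) (kg xg12 yg41 zg18) (kg xg22 yg37 zg13) (kg xg12 yg41 zg19) (kg xg21 yg41 zg27) (kg xg19 yg4 zg0) (kg xg20 yg13 zg16) (kg xg25 yg50 zg13) (kg xg26 yg11 zg10) (kg xg24 yg2 zg57) (kg xg21 yg41 zg48) (kg xg21 yg41 zg31) (kg xg21 yg50 zg25) (kg xg26 yg10 zg52) (kg xg27 yg42 zg49) (kg xg21 yg43 zg46) (kg xg21 yg21 zg19) (kg xg25 yg13 zg8)) (@D3.rec (fun _ => Pt) (kg xg12 yg41 zg24) (kg xg29 yg0 zg50) (kg xg24 yg20 zg33) (kg xg30 yg7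 zg48) (kg xg30 yg7 zg55) (kg xg15 yg48 zg27) (kg xg27 yg42 zg48) (kg xg12 yg41 zg27) (kg xg26 yg59 zg35) (kg xg16 yg8 zg45) (kg xg19 yg44 zg16) (kg xg24 yg33 zg12) (kg xg24 yg2 zg54) (kg xg12 yg41 zg32) (kg xg12 yg41 zg30) (kg xg25 yg14 zg10) (kg xg21 yg50 zg39) (kg xg29 yg17 zg43) (kg xg21 yg21 zg25) (kg xg12 yg41 zg31) (kg xg21 yg21 zg23) (kg xg21 yg43 zg51) (kg xg15 yg21 zg9) (kg xg19 yg31 zg53) (kg xg16 yg59 zg54) (kg xg25 yg13 zg39) (kg xg29 yg59 zg20) (kg xg17 yg56 zg24) (kg xg23 yg13 zg25) (kg xg12 yg41 zg37) (kg xg14 yg37 zg3) (kg xg23 yg26 zg48) (kg xg30 yg9 zg44) (kg xg29 yg59 zg19) (kg xg25 yg46 zg10) (kg xg26 yg5 zg53) (kg xg30 yg9 zg50) (kg xg29 yg59 zg17) (kg xg29 yg59 zg15) (kg xg30 yg9 zg57) (kg xg12 yg41 zg43) (kg xg23 yg41 zg20) (kg xg30 yg9 zg61)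 (kg xg30 yg9 zg58) (kg xg12 yg42 zg9) (kg xg30 yg10 zg4) (kg xg25 yg13 zg7) (kg xg12 yg41 zg46) (kg xg25 yg8 zg38) (kg xg25 yg8 zg22) (kg xg19 yg10 zg51) (kg xg12 yg41 zg50) (kg xg30 yg6 zg3) (kg xg21 yg43 zg27) (kg xg21 yg43 zg29) (kg xg30 yg4 zg4) (kg xg30 yg10 zg10) (kg xg24 yg43 zg41) (kg xg12 yg41 zg56) (kg xg30 yg4 zg51) (kg xg30 yg10 zg16) (kg xg12 yg41 zg61)) (@D3.rec (fun _ => Pt) (kg xg12 yg41 zg58) (kg xg30 yg10 zg20) (kg xg28 yg42 zg45) (kg xg26 yg1 zg31) (kg xg30 yg10 zg24) (kg xg28 yg12 zg1) (kg xg26 yg18 zg11) (kg xg12 yg42 zg0) (kg xg27 yg26 zg57) (kg xg23 yg38 zg38) (kg xg30 yg10 zg28) (kg xg27 yg42 zg29) (kg xg12 yg42 zg2) (kg xg30 yg5 zg17) (kg xg23 yg39 zg32) (kg xg30 yg10 zg31) (kg xg23 yg2 zg43) (kg xg25 yg44 zg11) (kg xg15 yg43 zg54) (kg xg15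 yg43 zg26) (kg xg12 yg42 zg6) (kg xg29 yg47 zg55) (kg xg30 yg10 zg46) (kg xg28 yg11 zg59) (kg xg30 yg10 zg49) (kg xg30 yg10 zg29) (kg xg30 yg10 zg52) (kg xg30 yg10 zg54) (kg xg30 yg10 zg55) (kg xg30 yg8 zg0) (kg xg12 yg42 zg10) (kg xg28 yg13 zg20) (kg xg30 yg10 zg59) (kg xg24 yg46 zg29) (kg xg17 yg53 zg39) (kg xg12 yg42 zg19) (kg xg23 yg53 zg16) (kg xg12 yg46 zg30) (kg xg20 yg48 zg47) (kg xg13 yg5 zg43) (kg xg16 yg51 zg60) (kg xg13 yg17 zg52) (kg xg14 yg17 zg51) (kg xg27 yg31 zg35) (kg xg12 yg44 zg39) (kg xg22 yg33 zg31) (kg xg21 yg3 zg49) (kg xg30 yg5 zg61) (kg xg30 yg11 zg2) (kg xg21 yg19 zg37) (kg xg17 yg31 zg15) (kg xg26 yg10 zg50) (kg xg25 yg45 zg46) (kg xg21 yg58 zg43) (kg xg21 yg44 zg48) (kg xg21 yg10 zg1) (kg xg12 yg42 zg40) (kg xg18 yg5 zg7) (kg xg26 yg4 zg11)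 (kg xg25 yg56 zg55) (kg xg12 yg42 zg44) (kg xg18 yg25 zg35)) (@D3.rec (fun _ => Pt) (kg xg21 yg28 zg33) (kg xg21 yg34 zg48) (kg xg26 yg1 zg51) (kg xg21 yg59 zg0) (kg xg21 yg40 zg0) (kg xg12 yg42 zg52) (kg xg30 yg11 zg7) (kg xg19 yg35 zg58) (kg xg30 yg8 zg36) (kg xg21 yg56 zg11) (kg xg12 yg42 zg53) (kg xg29 yg0 zg9) (kg xg21 yg46 zg9) (kg xg29 yg56 zg20) (kg xg17 yg51 zg22) (kg xg25 yg17 zg18) (kg xg22 yg5 zg0) (kg xg17 yg59 zg25) (kg xg30 yg7 zg39) (kg xg26 yg59 zg10) (kg xg17 yg45 zg5) (kg xg22 yg5 zg30) (kg xg30 yg8 zg5) (kg xg12 yg43 zg11) (kg xg30 yg11 zg15) (kg xg21 yg47 zg59) (kg xg26 yg58 zg58) (kg xg27 yg23 zg19) (kg xg12 yg43 zg15) (kg xg30 yg11 zg18) (kg xg30 yg9 zg31) (kg xg30 yg11 zg22) (kg xg30 yg9 zg30) (kg xg29 yg6 zg44) (kg xg12 yg43 zg18) (kg xg20 yg29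 zg16) (kg xg30 yg11 zg24) (kg xg23 yg41 zg32) (kg xg30 yg11 zg25) (kg xg21 yg48 zg21) (kg xg30 yg11 zg12) (kg xg21 yg45 zg47) (kg xg21 yg19 zg40) (kg xg20 yg27 zg30) (kg xg12 yg44 zg41) (kg xg19 yg58 zg40) (kg xg25 yg36 zg56) (kg xg12 yg44 zg46) (kg xg26 yg50 zg31) (kg xg27 yg38 zg9) (kg xg18 yg1 zg23) (kg xg12 yg43 zg41) (kg xg24 yg51 zg8) (kg xg26 yg5 zg40) (kg xg12 yg43 zg44) (kg xg29 yg17 zg5) (kg xg26 yg59 zg9) (kg xg17 yg9 zg60) (kg xg28 yg19 zg16) (kg xg12 yg43 zg49) (kg xg29 yg23 zg47) (kg xg30 yg11 zg29)) (@D3.rec (fun _ => Pt) (kg xg22 yg3 zg29) (kg xg17 yg42 zg15) (kg xg23 yg47 zg51) (kg xg18 yg25 zg23) (kg xg12 yg44 zg26) (kg xg12 yg43 zg53) (kg xg12 yg44 zg24) (kg xg17 yg0 zg5) (kg xg12 yg43 zg56) (kg xg22 yg3 zg50) (kg xg13 yg47 zg15) (kg xg22 yg4 zg10)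 (kg xg17 yg3 zg61) (kg xg20 yg47 zg7) (kg xg25 yg25 zg25) (kg xg15 yg55 zg38) (kg xg26 yg23 zg35) (kg xg12 yg44 zg56) (kg xg17 yg13 zg5) (kg xg12 yg44 zg5) (kg xg18 yg25 zg27) (kg xg12 yg44 zg17) (kg xg30 yg9 zg1) (kg xg20 yg27 zg0) (kg xg30 yg8 zg13) (kg xg26 yg3 zg55) (kg xg20 yg7 zg36) (kg xg26 yg27 zg11) (kg xg12 yg44 zg15) (kg xg28 yg1 zg20) (kg xg21 yg38 zg18) (kg xg12 yg44 zg20) (kg xg12 yg44 zg21) (kg xg12 yg44 zg18) (kg xg17 yg7 zg38) (kg xg14 yg33 zg52) (kg xg16 yg7 zg37) (kg xg18 yg43 zg20) (kg xg22 yg36 zg46) (kg xg22 yg36 zg43) (kg xg27 yg55 zg38) (kg xg22 yg40 zg17) (kg xg22 yg40 zg29) (kg xg12 yg54 zg24) (kg xg19 yg48 zg38) (kg xg12 yg54 zg8) (kg xg25 yg45 zg43) (kg xg12 yg44 zg33) (kg xg12 yg44 zg34) (kg xg30 yg2 zg36) (kg xg17 yg7 zg22) (kg xg22 yg8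 zg39) (kg xg21 yg49 zg44) (kg xg12 yg44 zg38) (kg xg15 yg49 zg54) (kg xg20 yg19 zg34) (kg xg12 yg54 zg11) (kg xg19 yg32 zg44) (kg xg27 yg56 zg9) (kg xg20 yg9 zg29) (kg xg12 yg44 zg43) (kg xg21 yg26 zg58)) (@D3.rec (fun _ => Pt) (kg xg20 yg12 zg49) (kg xg17 yg2 zg11) (kg xg12 yg44 zg48) (kg xg22 yg38 zg38) (kg xg21 yg50 zg57) (kg xg12 yg44 zg50) (kg xg18 yg17 zg42) (kg xg25 yg17 zg8) (kg xg17 yg22 zg58) (kg xg26 yg52 zg6) (kg xg25 yg25 zg27) (kg xg12 yg54 zg42) (kg xg12 yg44 zg58) (kg xg26 yg5 zg61) (kg xg14 yg35 zg38) (kg xg24 yg7 zg9) (kg xg12 yg58 zg0) (kg xg18 yg3 zg27) (kg xg18 yg5 zg2) (kg xg21 yg32 zg12) (kg xg29 yg22 zg54) (kg xg26 yg45 zg57) (kg xg14 yg35 zg48) (kg xg14 yg35 zg13) (kg xg20 yg44 zg30) (kg xg20 yg44 zg13) (kg xg16 yg57 zg25) (kg xg20 yg33 zg43)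 (kg xg20 yg44 zg27) (kg xg12 yg45 zg22) (kg xg20 yg48 zg10) (kg xg12 yg45 zg24) (kg xg30 yg11 zg42) (kg xg20 yg47 zg47) (kg xg12 yg45 zg25) (kg xg17 yg26 zg33) (kg xg30 yg11 zg43) (kg xg30 yg11 zg47) (kg xg19 yg13 zg33) (kg xg23 yg49 zg17) (kg xg14 yg30 zg10) (kg xg30 yg11 zg51) (kg xg14 yg28 zg44) (kg xg22 yg33 zg35) (kg xg20 yg48 zg50) (kg xg14 yg37 zg50) (kg xg12 yg45 zg30) (kg xg30 yg11 zg59) (kg xg14 yg38 zg8) (kg xg14 yg40 zg25) (kg xg12 yg51 zg59) (kg xg12 yg45 zg33) (kg xg20 yg48 zg13) (kg xg22 yg40 zg49) (kg xg18 yg2 zg15) (kg xg29 yg39 zg53) (kg xg28 yg39 zg7) (kg xg18 yg56 zg8) (kg xg24 yg7 zg32) (kg xg12 yg45 zg44) (kg xg12 yg45 zg41) (kg xg23 yg6 zg54)) (@D3.rec (fun _ => Pt) (kg xg14 yg24 zg12) (kg xg12 yg45 zg48) (kg xg22 yg38 zg0) (kg xg12 yg45 zg49)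 (kg xg29 yg20 zg22) (kg xg16 yg23 zg16) (kg xg26 yg28 zg15) (kg xg30 yg2 zg38) (kg xg14 yg36 zg16) (kg xg23 yg56 zg15) (kg xg13 yg17 zg53) (kg xg12 yg45 zg57) (kg xg12 yg45 zg55) (kg xg24 yg19 zg61) (kg xg18 yg39 zg20) (kg xg24 yg20 zg1) (kg xg24 yg19 zg55) (kg xg12 yg51 zg0) (kg xg14 yg36 zg19) (kg xg12 yg45 zg59) (kg xg24 yg15 zg51) (kg xg29 yg29 zg26) (kg xg13 yg0 zg29) (kg xg22 yg35 zg42) (kg xg22 yg35 zg39) (kg xg12 yg46 zg3) (kg xg30 yg12 zg11) (kg xg17 yg0 zg6) (kg xg17 yg11 zg51) (kg xg28 yg24 zg36) (kg xg19 yg59 zg1) (kg xg16 yg31 zg36) (kg xg26 yg21 zg60) (kg xg23 yg10 zg42) (kg xg16 yg31 zg30) (kg xg26 yg45 zg51) (kg xg12 yg46 zg22) (kg xg23 yg18 zg16) (kg xg13 yg47 zg14) (kg xg20 yg27 zg58) (kg xg15 yg59 zg3) (kg xg17 yg37 zg41) (kg xg21 yg54 zg21) (kg xg16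 yg24 zg47) (kg xg16 yg24 zg16) (kg xg12 yg46 zg33) (kg xg24 yg59 zg55) (kg xg16 yg13 zg26) (kg xg12 yg53 zg4) (kg xg12 yg46 zg36) (kg xg25 yg6 zg7) (kg xg18 yg17 zg38) (kg xg16 yg34 zg50) (kg xg12 yg46 zg39) (kg xg20 yg13 zg57) (kg xg15 yg50 zg35) (kg xg26 yg33 zg3) (kg xg28 yg14 zg60) (kg xg12 yg46 zg45) (kg xg16 yg31 zg38) (kg xg29 yg22 zg55) (kg xg21 yg29 zg11)) (@D3.rec (fun _ => Pt) (kg xg19 yg12 zg41) (kg xg12 yg53 zg6) (kg xg21 yg54 zg28) (kg xg26 yg28 zg3) (kg xg14 yg36 zg20) (kg xg12 yg46 zg48) (kg xg20 yg28 zg11) (kg xg12 yg46 zg49) (kg xg29 yg37 zg12) (kg xg26 yg58 zg34) (kg xg12 yg51 zg7) (kg xg12 yg46 zg52) (kg xg13 yg30 zg0) (kg xg14 yg0 zg56) (kg xg26 yg19 zg37) (kg xg22 yg6 zg17) (kg xg12 yg46 zg53) (kg xg21 yg43 zg39) (kg xg21 yg45 zg30) (kg xg28 yg32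 zg17) (kg xg21 yg53 zg42) (kg xg12 yg46 zg55) (kg xg30 yg12 zg29) (kg xg24 yg39 zg51) (kg xg17 yg53 zg29) (kg xg19 yg17 zg48) (kg xg13 yg22 zg38) (kg xg12 yg48 zg6) (kg xg21 yg53 zg61) (kg xg20 yg17 zg28) (kg xg12 yg47 zg4) (kg xg18 yg48 zg38) (kg xg27 yg9 zg38) (kg xg19 yg43 zg24) (kg xg12 yg47 zg9) (kg xg12 yg47 zg10) (kg xg18 yg35 zg4) (kg xg23 yg40 zg58) (kg xg16 yg24 zg9) (kg xg20 yg8 zg61) (kg xg27 yg43 zg11) (kg xg12 yg47 zg14) (kg xg21 yg20 zg38) (kg xg18 yg17 zg18) (kg xg20 yg23 zg19) (kg xg30 yg12 zg32) (kg xg13 yg53 zg38) (kg xg27 yg30 zg30) (kg xg12 yg47 zg35) (kg xg21 yg7 zg5) (kg xg12 yg47 zg33) (kg xg12 yg53 zg60) (kg xg24 yg25 zg40) (kg xg20 yg11 zg22) (kg xg26 yg46 zg12) (kg xg12 yg47 zg31) (kg xg16 yg15 zg32) (kg xg23 yg54 zg5) (kg xg30 yg5 zg18) (kg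 xg12 yg47 zg34) (kg xg26 yg18 zg10) (kg xg13 yg47 zg25)) (@D3.rec (fun _ => Pt) (kg xg12 yg47 zg36) (kg xg22 yg38 zg55) (kg xg27 yg20 zg55) (kg xg21 yg38 zg23) (kg xg14 yg16 zg53) (kg xg18 yg36 zg43) (kg xg13 yg24 zg41) (kg xg23 yg43 zg48) (kg xg23 yg46 zg49) (kg xg19 yg4 zg2) (kg xg12 yg47 zg49) (kg xg21 yg47 zg28) (kg xg12 yg47 zg53) (kg xg15 yg32 zg0) (kg xg12 yg47 zg54) (kg xg19 yg6 zg46) (kg xg21 yg55 zg36) (kg xg14 yg56 zg20) (kg xg22 yg58 zg18) (kg xg21 yg27 zg47) (kg xg14 yg49 zg48) (kg xg13 yg59 zg45) (kg xg30 yg4 zg14) (kg xg24 yg43 zg49) (kg xg22 yg44 zg25) (kg xg30 yg12 zg50) (kg xg13 yg25 zg12) (kg xg24 yg24 zg18) (kg xg30 yg12 zg52) (kg xg12 yg48 zg7) (kg xg15 yg41 zg38) (kg xg12 yg48 zg8) (kg xg21 yg6 zg35) (kg xg12 yg48 zg9) (kg xg21 yg3 zg57) (kg xg30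 yg8 zg54) (kg xg25 yg44 zg6) (kg xg12 yg48 zg11) (kg xg21 yg6 zg30) (kg xg18 yg22 zg61) (kg xg30 yg12 zg58) (kg xg27 yg48 zg44) (kg xg22 yg45 zg23) (kg xg21 yg6 zg17) (kg xg30 yg2 zg22) (kg xg30 yg1 zg27) (kg xg14 yg46 zg28) (kg xg13 yg51 zg36) (kg xg14 yg10 zg12) (kg xg23 yg44 zg18) (kg xg30 yg13 zg4) (kg xg21 yg6 zg48) (kg xg12 yg48 zg17) (kg xg21 yg6 zg47) (kg xg12 yg48 zg18) (kg xg23 yg21 zg33) (kg xg30 yg13 zg10) (kg xg22 yg31 zg51) (kg xg26 yg48 zg14) (kg xg23 yg22 zg34) (kg xg30 yg13 zg11) (kg xg12 yg48 zg47)) (@D3.rec (fun _ => Pt) (kg xg23 yg21 zg13) (kg xg25 yg40 zg60) (kg xg23 yg21 zg14) (kg xg12 yg48 zg23) (kg xg30 yg13 zg17) (kg xg16 yg2 zg40) (kg xg25 yg41 zg0) (kg xg23 yg21 zg11) (kg xg12 yg48 zg25) (kg xg21 yg27 zg46) (kg xg23 yg20 zg54) (kg xg21 yg50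 zg10) (kg xg21 yg43 zg0) (kg xg28 yg4 zg16) (kg xg19 yg5 zg52) (kg xg14 yg57 zg56) (kg xg23 yg21 zg7) (kg xg12 yg48 zg31) (kg xg26 yg9 zg56) (kg xg23 yg21 zg16) (kg xg12 yg48 zg32) (kg xg14 yg39 zg52) (kg xg23 yg21 zg5) (kg xg14 yg21 zg7) (kg xg16 yg4 zg60) (kg xg30 yg13 zg25) (kg xg24 yg41 zg41) (kg xg20 yg16 zg7) (kg xg12 yg48 zg40) (kg xg17 yg29 zg22) (kg xg21 yg23 zg47) (kg xg23 yg2 zg14) (kg xg24 yg36 zg51) (kg xg29 yg49 zg34) (kg xg30 yg13 zg27) (kg xg12 yg48 zg41) (kg xg16 yg41 zg49) (kg xg29 yg52 zg18) (kg xg13 yg59 zg51) (kg xg29 yg11 zg14) (kg xg30 yg13 zg35) (kg xg29 yg11 zg24) (kg xg23 yg37 zg7) (kg xg29 yg52 zg14) (kg xg12 yg48 zg45) (kg xg29 yg51 zg28) (kg xg29 yg56 zg57) (kg xg30 yg13 zg45) (kg xg13 yg54 zg38) (kg xg22 yg31 zg50) (kg xg19 yg55 zg5) (kg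 xg23 yg1 zg59) (kg xg22 yg31 zg22) (kg xg12 yg48 zg48) (kg xg30 yg13 zg56) (kg xg22 yg31 zg21) (kg xg29 yg12 zg16) (kg xg22 yg31 zg56) (kg xg12 yg48 zg50) (kg xg29 yg26 zg44) (kg xg22 yg31 zg54) (kg xg13 yg59 zg59)) (@D3.rec (fun _ => Pt) (kg xg13 yg24 zg12) (kg xg12 yg48 zg52) (kg xg13 yg24 zg11) (kg xg22 yg31 zg45) (kg xg22 yg48 zg54) (kg xg30 yg13 zg60) (kg xg13 yg15 zg24) (kg xg22 yg45 zg32) (kg xg26 yg25 zg34) (kg xg28 yg13 zg55) (kg xg30 yg8 zg37) (kg xg25 yg14 zg31) (kg xg26 yg45 zg42) (kg xg17 yg37 zg49) (kg xg16 yg17 zg18) (kg xg27 yg29 zg54) (kg xg12 yg49 zg6) (kg xg17 yg43 zg52) (kg xg27 yg4 zg1) (kg xg12 yg49 zg7) (kg xg19 yg38 zg45) (kg xg22 yg11 zg43) (kg xg20 yg51 zg33) (kg xg24 yg53 zg14) (kg xg17 yg22 zg42) (kg xg12 yg49 zg32) (kg xg12 yg49 zg53) (kg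 xg12 yg49 zg18) (kg xg12 yg49 zg14) (kg xg30 yg14 zg9) (kg xg17 yg9 zg33) (kg xg20 yg22 zg54) (kg xg17 yg22 zg21) (kg xg21 yg30 zg41) (kg xg19 yg25 zg6) (kg xg20 yg26 zg30) (kg xg12 yg49 zg17) (kg xg29 yg43 zg45) (kg xg15 yg26 zg40) (kg xg19 yg40 zg21) (kg xg17 yg16 zg4) (kg xg12 yg49 zg20) (kg xg25 yg9 zg60) (kg xg25 yg27 zg19) (kg xg14 yg46 zg31) (kg xg20 yg0 zg3) (kg xg24 yg36 zg25) (kg xg26 yg49 zg32) (kg xg20 yg36 zg55) (kg xg14 yg38 zg40) (kg xg19 yg21 zg1) (kg xg24 yg27 zg3) (kg xg15 yg49 zg48) (kg xg26 yg43 zg51) (kg xg20 yg3 zg15) (kg xg26 yg43 zg40) (kg xg21 yg21 zg24) (kg xg29 yg7 zg13) (kg xg20 yg51 zg58) (kg xg28 yg48 zg9) (kg xg12 yg49 zg44) (kg xg16 yg48 zg53)) (@D3.rec (fun _ => Pt) (kg xg12 yg49 zg45) (kg xg12 yg50 zg1) (kg xg12 yg49 zg52) (kg xg17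 yg29 zg10) (kg xg30 yg4 zg23) (kg xg25 yg7 zg50) (kg xg20 yg39 zg47) (kg xg28 yg42 zg24) (kg xg25 yg59 zg2) (kg xg27 yg20 zg2) (kg xg12 yg49 zg56) (kg xg17 yg29 zg16) (kg xg29 yg56 zg21) (kg xg12 yg49 zg57) (kg xg15 yg51 zg28) (kg xg29 yg0 zg54) (kg xg26 yg16 zg53) (kg xg21 yg22 zg48) (kg xg21 yg36 zg22) (kg xg21 yg33 zg41) (kg xg12 yg50 zg3) (kg xg17 yg54 zg0) (kg xg21 yg31 zg51) (kg xg25 yg34 zg55) (kg xg30 yg14 zg19) (kg xg12 yg50 zg17) (kg xg12 yg50 zg13) (kg xg23 yg34 zg28) (kg xg14 yg57 zg38) (kg xg27 yg27 zg5) (kg xg12 yg50 zg18) (kg xg27 yg24 zg56) (kg xg22 yg11 zg13) (kg xg15 yg39 zg50) (kg xg17 yg29 zg57) (kg xg12 yg50 zg22) (kg xg26 yg48 zg16) (kg xg21 yg4 zg45) (kg xg23 yg47 zg35) (kg xg12 yg50 zg23) (kg xg21 yg42 zg12) (kg xg27 yg27 zg21) (kg xg21 yg49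 zg53) (kg xg12 yg50 zg24) (kg xg27 yg45 zg8) (kg xg27 yg24 zg58) (kg xg28 yg57 zg49) (kg xg21 yg45 zg41) (kg xg28 yg57 zg57) (kg xg12 yg50 zg29) (kg xg30 yg14 zg7) (kg xg28 yg42 zg55) (kg xg19 yg29 zg44) (kg xg25 yg29 zg39) (kg xg21 yg46 zg20) (kg xg25 yg26 zg59) (kg xg12 yg50 zg36) (kg xg25 yg31 zg36) (kg xg17 yg27 zg29) (kg xg12 yg50 zg38) (kg xg21 yg7 zg17) (kg xg16 yg9 zg15)) (@D3.rec (fun _ => Pt) (kg xg30 yg8 zg44) (kg xg21 yg23 zg37) (kg xg21 yg50 zg3) (kg xg17 yg13 zg60) (kg xg29 yg51 zg48) (kg xg25 yg41 zg52) (kg xg15 yg43 zg35) (kg xg12 yg50 zg45) (kg xg12 yg50 zg60) (kg xg21 yg23 zg11) (kg xg21 yg23 zg25) (kg xg21 yg23 zg32) (kg xg21 yg23 zg26) (kg xg24 yg44 zg48) (kg xg23 yg58 zg52) (kg xg12 yg50 zg51) (kg xg28 yg41 zg10) (kg xg12 yg51 zg4) (kg xg17 yg35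 zg22) (kg xg25 yg18 zg57) (kg xg27 yg25 zg5) (kg xg14 yg36 zg13) (kg xg12 yg50 zg55) (kg xg26 yg59 zg22) (kg xg22 yg37 zg2) (kg xg12 yg50 zg61) (kg xg12 yg50 zg56) (kg xg18 yg6 zg4) (kg xg29 yg52 zg37) (kg xg13 yg2 zg28) (kg xg29 yg59 zg26) (kg xg17 yg31 zg0) (kg xg30 yg8 zg38) (kg xg21 yg23 zg29) (kg xg21 yg18 zg3) (kg xg30 yg11 zg27) (kg xg15 yg38 zg33) (kg xg30 yg14 zg20) (kg xg16 yg16 zg32) (kg xg26 yg10 zg61) (kg xg12 yg51 zg2) (kg xg22 yg16 zg37) (kg xg26 yg5 zg27) (kg xg26 yg10 zg37) (kg xg30 yg14 zg37) (kg xg14 yg21 zg5) (kg xg29 yg40 zg50) (kg xg29 yg40 zg43) (kg xg12 yg51 zg6) (kg xg15 yg24 zg15) (kg xg16 yg14 zg37) (kg xg12 yg51 zg8) (kg xg21 yg23 zg14) (kg xg14 yg37 zg19) (kg xg26 yg1 zg26) (kg xg19 yg20 zg41) (kg xg26 yg57 zg23) (kg xg14 yg13 zg39) (kg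 xg20 yg33 zg51) (kg xg26 yg57 zg24) (kg xg12 yg51 zg18) (kg xg23 yg46 zg2))
def f_g_22 : D2 → D3 → Pt := @D2.rec (fun _ => D3 → Pt) (@D3.rec (fun _ => Pt) (kg xg14 yg43 zg59) (kg xg12 yg51 zg47) (kg xg30 yg14 zg52) (kg xg17 yg26 zg34) (kg xg30 yg14 zg54) (kg xg14 yg13 zg46) (kg xg17 yg26 zg26) (kg xg17 yg26 zg29) (kg xg30 yg14 zg58) (kg xg12 yg52 zg4) (kg xg12 yg51 zg24) (kg xg30 yg14 zg60) (kg xg27 yg7 zg36) (kg xg23 yg24 zg21) (kg xg17 yg27 zg31) (kg xg17 yg10 zg40) (kg xg25 yg56 zg49) (kg xg17 yg27 zg24) (kg xg27 yg17 zg15) (kg xg12 yg51 zg29) (kg xg27 yg17 zg14) (kg xg24 yg39 zg44) (kg xg12 yg51 zg30) (kg xg27 yg7 zg42) (kg xg20 yg47 zg0) (kg xg27 yg19 zg12) (kg xg28 yg13 zg38) (kg xg14 yg26 zg12) (kg xg21 yg43 zg36) (kg xg17 yg22 zg26) (kg xg12 yg57 zg10) (kg xg12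 yg57 zg24) (kg xg14 yg16 zg24) (kg xg12 yg51 zg37) (kg xg23 yg53 zg5) (kg xg12 yg56 zg61) (kg xg12 yg51 zg38) (kg xg17 yg24 zg16) (kg xg14 yg44 zg13) (kg xg13 yg12 zg54) (kg xg14 yg34 zg7) (kg xg12 yg51 zg41) (kg xg22 yg24 zg35) (kg xg30 yg15 zg16) (kg xg22 yg24 zg33) (kg xg30 yg15 zg20) (kg xg14 yg25 zg57) (kg xg22 yg24 zg28) (kg xg22 yg23 zg7) (kg xg17 yg24 zg56) (kg xg24 yg26 zg19) (kg xg12 yg51 zg46) (kg xg22 yg24 zg40) (kg xg24 yg25 zg52) (kg xg13 yg12 zg5) (kg xg29 yg38 zg15) (kg xg12 yg51 zg48) (kg xg30 yg15 zg34) (kg xg27 yg10 zg35) (kg xg19 yg29 zg6) (kg xg30 yg14 zg50) (kg xg12 yg51 zg53)) (@D3.rec (fun _ => Pt) (kg xg12 yg51 zg51) (kg xg27 yg13 zg58) (kg xg27 yg8 zg39) (kg xg12 yg51 zg52) (kg xg27 yg8 zg37) (kg xg29 yg31 zg24) (kg xg29 yg33 zg19) (kg xg30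 yg15 zg41) (kg xg29 yg2 zg5) (kg xg12 yg51 zg54) (kg xg28 yg53 zg46) (kg xg30 yg15 zg48) (kg xg20 yg17 zg34) (kg xg24 yg21 zg49) (kg xg12 yg51 zg60) (kg xg12 yg51 zg56) (kg xg27 yg16 zg22) (kg xg30 yg15 zg51) (kg xg13 yg17 zg47) (kg xg30 yg15 zg52) (kg xg30 yg15 zg54) (kg xg27 yg16 zg18) (kg xg30 yg15 zg56) (kg xg22 yg25 zg50) (kg xg12 yg51 zg61) (kg xg28 yg48 zg61) (kg xg20 yg57 zg32) (kg xg30 yg16 zg4) (kg xg28 yg15 zg11) (kg xg29 yg46 zg53) (kg xg30 yg16 zg5) (kg xg30 yg15 zg60) (kg xg30 yg16 zg11) (kg xg12 yg52 zg2) (kg xg30 yg16 zg12) (kg xg30 yg16 zg19) (kg xg30 yg16 zg16) (kg xg24 yg3 zg27) (kg xg27 yg0 zg3) (kg xg24 yg26 zg20) (kg xg12 yg52 zg5) (kg xg29 yg38 zg0) (kg xg29 yg31 zg15) (kg xg30 yg16 zg27) (kg xg30 yg15 zg45) (kg xg27 yg14 zg37) (kg xg12 yg52 zg8)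 (kg xg24 yg25 zg50) (kg xg27 yg7 zg39) (kg xg12 yg52 zg9) (kg xg23 yg36 zg8) (kg xg30 yg16 zg36) (kg xg30 yg6 zg40) (kg xg30 yg16 zg37) (kg xg21 yg17 zg8) (kg xg29 yg0 zg36) (kg xg25 yg29 zg32) (kg xg12 yg52 zg14) (kg xg26 yg41 zg36) (kg xg12 yg52 zg19) (kg xg12 yg52 zg15) (kg xg26 yg42 zg23)) (@D3.rec (fun _ => Pt) (kg xg15 yg46 zg44) (kg xg25 yg31 zg31) (kg xg12 yg52 zg18) (kg xg23 yg23 zg39) (kg xg30 yg16 zg43) (kg xg15 yg37 zg22) (kg xg24 yg14 zg29) (kg xg25 yg53 zg33) (kg xg12 yg52 zg21) (kg xg15 yg35 zg6) (kg xg12 yg52 zg25) (kg xg12 yg52 zg23) (kg xg12 yg52 zg28) (kg xg26 yg4 zg1) (kg xg30 yg1 zg49) (kg xg28 yg58 zg58) (kg xg30 yg16 zg51) (kg xg26 yg23 zg55) (kg xg12 yg52 zg30) (kg xg25 yg48 zg49) (kg xg19 yg25 zg58) (kg xg29 yg23 zg30) (kg xg29 yg48 zg36) (kg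 xg14 yg34 zg10) (kg xg26 yg5 zg0) (kg xg30 yg16 zg55) (kg xg29 yg33 zg15) (kg xg12 yg52 zg37) (kg xg21 yg32 zg9) (kg xg12 yg52 zg38) (kg xg21 yg32 zg8) (kg xg29 yg21 zg48) (kg xg30 yg16 zg58) (kg xg20 yg6 zg56) (kg xg30 yg16 zg59) (kg xg25 yg34 zg15) (kg xg12 yg52 zg42) (kg xg22 yg3 zg41) (kg xg25 yg31 zg49) (kg xg30 yg17 zg0) (kg xg17 yg4 zg58) (kg xg29 yg23 zg27) (kg xg30 yg8 zg40) (kg xg16 yg47 zg59) (kg xg17 yg12 zg30) (kg xg25 yg31 zg52) (kg xg19 yg26 zg14) (kg xg12 yg52 zg48) (kg xg12 yg53 zg1) (kg xg13 yg24 zg27) (kg xg21 yg24 zg53) (kg xg21 yg31 zg6) (kg xg21 yg25 zg22) (kg xg20 yg9 zg54) (kg xg21 yg23 zg10) (kg xg21 yg32 zg50) (kg xg12 yg52 zg54) (kg xg30 yg3 zg47) (kg xg30 yg16 zg41) (kg xg12 yg53 zg2) (kg xg12 yg52 zg60) (kg xg25 yg24 zg51)) (@D3.rec (fun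 _ => Pt) (kg xg15 yg49 zg23) (kg xg21 yg28 zg25) (kg xg25 yg29 zg36) (kg xg26 yg41 zg34) (kg xg12 yg53 zg9) (kg xg22 yg29 zg6) (kg xg25 yg31 zg0) (kg xg29 yg26 zg58) (kg xg25 yg57 zg28) (kg xg12 yg53 zg7) (kg xg30 yg17 zg7) (kg xg23 yg10 zg48) (kg xg20 yg34 zg11) (kg xg21 yg35 zg19) (kg xg27 yg4 zg3) (kg xg12 yg54 zg28) (kg xg18 yg1 zg20) (kg xg29 yg22 zg44) (kg xg26 yg38 zg7) (kg xg20 yg5 zg4) (kg xg18 yg25 zg3) (kg xg29 yg58 zg60) (kg xg20 yg24 zg15) (kg xg12 yg53 zg44) (kg xg30 yg1 zg42) (kg xg30 yg4 zg7) (kg xg21 yg51 zg0) (kg xg21 yg1 zg30) (kg xg27 yg43 zg24) (kg xg17 yg5 zg31) (kg xg17 yg10 zg5) (kg xg17 yg42 zg22) (kg xg15 yg58 zg29) (kg xg22 yg2 zg37) (kg xg25 yg31 zg47) (kg xg17 yg33 zg59) (kg xg17 yg59 zg33) (kg xg20 yg34 zg30) (kg xg21 yg32 zg54) (kg xg26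 yg59 zg3) (kg xg12 yg53 zg56) (kg xg17 yg16 zg52) (kg xg21 yg4 zg49) (kg xg12 yg53 zg58) (kg xg29 yg21 zg12) (kg xg22 yg9 zg60) (kg xg19 yg1 zg8) (kg xg19 yg9 zg33) (kg xg26 yg5 zg34) (kg xg29 yg21 zg52) (kg xg21 yg30 zg35) (kg xg20 yg56 zg1) (kg xg20 yg56 zg17) (kg xg29 yg33 zg6) (kg xg16 yg38 zg5) (kg xg21 yg1 zg18) (kg xg20 yg56 zg37) (kg xg16 yg41 zg57) (kg xg19 yg1 zg10) (kg xg12 yg54 zg14) (kg xg29 yg44 zg23) (kg xg27 yg2 zg39)) (@D3.rec (fun _ => Pt) (kg xg20 yg58 zg45) (kg xg19 yg40 zg45) (kg xg12 yg54 zg16) (kg xg16 yg41 zg29) (kg xg28 yg0 zg22) (kg xg16 yg37 zg60) (kg xg16 yg48 zg4) (kg xg25 yg52 zg36) (kg xg19 yg20 zg55) (kg xg12 yg54 zg25) (kg xg21 yg36 zg33) (kg xg20 yg40 zg2) (kg xg12 yg54 zg34) (kg xg12 yg54 zg32) (kg xg30 yg17 zg24) (kg xg28 yg54 zg53)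 (kg xg26 yg46 zg37) (kg xg19 yg3 zg8) (kg xg29 yg34 zg34) (kg xg20 yg56 zg52) (kg xg30 yg17 zg30) (kg xg30 yg17 zg32) (kg xg29 yg49 zg8) (kg xg12 yg54 zg43) (kg xg29 yg49 zg7) (kg xg24 yg42 zg59) (kg xg24 yg41 zg39) (kg xg27 yg56 zg53) (kg xg27 yg22 zg13) (kg xg15 yg42 zg24) (kg xg12 yg54 zg60) (kg xg25 yg42 zg26) (kg xg22 yg11 zg35) (kg xg19 yg56 zg22) (kg xg21 yg1 zg9) (kg xg16 yg6 zg3) (kg xg17 yg33 zg44) (kg xg21 yg2 zg31) (kg xg12 yg54 zg55) (kg xg19 yg26 zg31) (kg xg30 yg17 zg46) (kg xg25 yg41 zg5) (kg xg25 yg41 zg24) (kg xg26 yg48 zg7) (kg xg21 yg2 zg14) (kg xg18 yg48 zg43) (kg xg21 yg30 zg26) (kg xg12 yg55 zg1) (kg xg30 yg17 zg49) (kg xg17 yg32 zg51) (kg xg19 yg25 zg7) (kg xg27 yg22 zg3) (kg xg17 yg33 zg53) (kg xg17 yg4 zg49) (kg xg17 yg15 zg55) (kg xg12 yg55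 zg7) (kg xg22 yg5 zg58) (kg xg21 yg53 zg51) (kg xg30 yg9 zg16) (kg xg30 yg3 zg19) (kg xg23 yg32 zg29) (kg xg21 yg9 zg34)) (@D3.rec (fun _ => Pt) (kg xg20 yg40 zg29) (kg xg15 yg24 zg45) (kg xg17 yg12 zg29) (kg xg21 yg24 zg54) (kg xg30 yg14 zg43) (kg xg12 yg55 zg14) (kg xg15 yg53 zg52) (kg xg27 yg40 zg29) (kg xg21 yg9 zg37) (kg xg12 yg55 zg18) (kg xg21 yg9 zg36) (kg xg30 yg17 zg55) (kg xg19 yg24 zg21) (kg xg26 yg45 zg40) (kg xg19 yg24 zg25) (kg xg20 yg31 zg48) (kg xg19 yg25 zg45) (kg xg19 yg34 zg7) (kg xg16 yg45 zg13) (kg xg15 yg24 zg50) (kg xg17 yg12 zg32) (kg xg21 yg50 zg15) (kg xg19 yg26 zg37) (kg xg24 yg38 zg11) (kg xg19 yg26 zg20) (kg xg12 yg55 zg40) (kg xg25 yg2 zg30) (kg xg30 yg17 zg61) (kg xg16 yg13 zg28) (kg xg30 yg18 zg3) (kg xg30 yg18 zg5) (kg xg22 yg12 zg0)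 (kg xg20 yg16 zg34) (kg xg27 yg35 zg33) (kg xg12 yg55 zg46) (kg xg22 yg42 zg39) (kg xg20 yg42 zg49) (kg xg16 yg46 zg31) (kg xg29 yg39 zg25) (kg xg19 yg49 zg19) (kg xg19 yg40 zg33) (kg xg25 yg52 zg53) (kg xg25 yg20 zg45) (kg xg30 yg18 zg8) (kg xg25 yg20 zg53) (kg xg20 yg54 zg11) (kg xg20 yg54 zg10) (kg xg15 yg25 zg38) (kg xg22 yg4 zg56) (kg xg12 yg56 zg3) (kg xg24 yg57 zg58) (kg xg22 yg5 zg29) (kg xg16 yg28 zg25) (kg xg15 yg21 zg34) (kg xg24 yg58 zg1) (kg xg12 yg56 zg8) (kg xg14 yg6 zg39) (kg xg27 yg50 zg59) (kg xg26 yg11 zg15) (kg xg27 yg39 zg1) (kg xg14 yg48 zg11) (kg xg13 yg32 zg57)) (@D3.rec (fun _ => Pt) (kg xg27 yg43 zg31) (kg xg29 yg40 zg37) (kg xg12 yg56 zg9) (kg xg16 yg3 zg15) (kg xg12 yg56 zg13) (kg xg30 yg18 zg15) (kg xg20 yg54 zg2) (kg xg12 yg56 zg15) (kg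 xg12 yg56 zg19) (kg xg12 yg56 zg40) (kg xg12 yg56 zg27) (kg xg12 yg56 zg28) (kg xg13 yg2 zg27) (kg xg30 yg12 zg45) (kg xg19 yg7 zg35) (kg xg21 yg31 zg42) (kg xg12 yg56 zg32) (kg xg21 yg54 zg16) (kg xg29 yg22 zg8) (kg xg19 yg26 zg45) (kg xg27 yg22 zg61) (kg xg27 yg22 zg60) (kg xg19 yg24 zg15) (kg xg25 yg23 zg9) (kg xg30 yg11 zg13) (kg xg21 yg57 zg50) (kg xg20 yg12 zg11) (kg xg12 yg56 zg48) (kg xg19 yg48 zg43) (kg xg17 yg21 zg46) (kg xg27 yg34 zg56) (kg xg18 yg57 zg32) (kg xg28 yg23 zg41) (kg xg17 yg18 zg37) (kg xg25 yg11 zg36) (kg xg12 yg57 zg23) (kg xg12 yg56 zg58) (kg xg30 yg18 zg24) (kg xg12 yg57 zg21) (kg xg17 yg17 zg46) (kg xg29 yg26 zg3) (kg xg25 yg24 zg57) (kg xg26 yg24 zg34) (kg xg16 yg58 zg15) (kg xg14 yg16 zg41) (kg xg27 yg21 zg51) (kg xg14 yg27 zg12) (kg xg12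 yg57 zg5) (kg xg22 yg54 zg17) (kg xg22 yg54 zg9) (kg xg12 yg57 zg6) (kg xg30 yg18 zg34) (kg xg30 yg18 zg28) (kg xg25 yg18 zg8) (kg xg27 yg16 zg43) (kg xg12 yg57 zg9) (kg xg29 yg35 zg48) (kg xg14 yg16 zg17) (kg xg14 yg26 zg11) (kg xg14 yg16 zg30) (kg xg30 yg18 zg44) (kg xg27 yg22 zg45)) (@D3.rec (fun _ => Pt) (kg xg12 yg57 zg13) (kg xg14 yg35 zg39) (kg xg30 yg18 zg46) (kg xg25 yg6 zg12) (kg xg20 yg50 zg37) (kg xg30 yg18 zg51) (kg xg25 yg6 zg54) (kg xg22 yg58 zg3) (kg xg25 yg43 zg13) (kg xg28 yg17 zg30) (kg xg27 yg2 zg61) (kg xg30 yg18 zg55) (kg xg30 yg18 zg26) (kg xg12 yg57 zg22) (kg xg30 yg19 zg3) (kg xg29 yg48 zg24) (kg xg12 yg57 zg25) (kg xg27 yg21 zg40) (kg xg17 yg25 zg54) (kg xg28 yg2 zg46) (kg xg12 yg57 zg27) (kg xg30 yg19 zg12) (kg xg14 yg26 zg18) (kg xg14 yg31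 zg6) (kg xg19 yg2 zg52) (kg xg30 yg19 zg15) (kg xg15 yg47 zg11) (kg xg12 yg57 zg35) (kg xg16 yg1 zg54) (kg xg22 yg22 zg26) (kg xg28 yg16 zg40) (kg xg24 yg18 zg47) (kg xg23 yg58 zg39) (kg xg19 yg47 zg18) (kg xg12 yg57 zg45) (kg xg24 yg48 zg46) (kg xg26 yg3 zg18) (kg xg15 yg29 zg20) (kg xg15 yg29 zg15) (kg xg15 yg27 zg52) (kg xg12 yg57 zg48) (kg xg15 yg56 zg36) (kg xg24 yg50 zg23) (kg xg26 yg9 zg51) (kg xg26 yg53 zg24) (kg xg12 yg57 zg56) (kg xg20 yg41 zg58) (kg xg14 yg30 zg59) (kg xg19 yg50 zg13) (kg xg19 yg47 zg17) (kg xg19 yg58 zg22) (kg xg24 yg52 zg44) (kg xg25 yg19 zg61) (kg xg17 yg12 zg47) (kg xg20 yg27 zg50) (kg xg12 yg58 zg4) (kg xg12 yg58 zg1) (kg xg20 yg27 zg11) (kg xg20 yg7 zg15) (kg xg20 yg27 zg3) (kg xg20 yg27 zg8) (kg xg16 yg30 zg38)) (@D3.rec (fun _ =>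 Pt) (kg xg19 yg42 zg38) (kg xg20 yg9 zg18) (kg xg17 yg14 zg37) (kg xg21 yg41 zg41) (kg xg19 yg39 zg18) (kg xg12 yg58 zg13) (kg xg30 yg12 zg38) (kg xg18 yg16 zg35) (kg xg17 yg38 zg47) (kg xg21 yg31 zg53) (kg xg21 yg25 zg16) (kg xg23 yg37 zg51) (kg xg25 yg27 zg10) (kg xg17 yg40 zg61) (kg xg24 yg36 zg12) (kg xg25 yg31 zg59) (kg xg18 yg7 zg4) (kg xg26 yg42 zg2) (kg xg30 yg4 zg17) (kg xg17 yg43 zg5) (kg xg15 yg47 zg16) (kg xg25 yg6 zg3) (kg xg14 yg12 zg8) (kg xg22 yg10 zg51) (kg xg30 yg19 zg36) (kg xg29 yg12 zg50) (kg xg23 yg23 zg41) (kg xg29 yg36 zg21) (kg xg20 yg27 zg35) (kg xg21 yg7 zg8) (kg xg12 yg58 zg42) (kg xg21 yg26 zg9) (kg xg18 yg24 zg61) (kg xg12 yg58 zg45) (kg xg12 yg58 zg43) (kg xg26 yg3 zg9) (kg xg17 yg33 zg24) (kg xg22 yg44 zg2) (kg xg14 yg55 zg32) (kg xg21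 yg51 zg55) (kg xg14 yg54 zg8) (kg xg16 yg15 zg18) (kg xg12 yg58 zg51) (kg xg27 yg25 zg15) (kg xg12 yg58 zg53) (kg xg22 yg14 zg49) (kg xg25 yg15 zg40) (kg xg21 yg31 zg25) (kg xg12 yg58 zg55) (kg xg26 yg5 zg18) (kg xg21 yg4 zg33) (kg xg13 yg13 zg29) (kg xg23 yg34 zg15) (kg xg23 yg22 zg1) (kg xg12 yg58 zg61) (kg xg23 yg21 zg61) (kg xg12 yg59 zg4) (kg xg12 yg59 zg1) (kg xg14 yg57 zg11) (kg xg24 yg18 zg27) (kg xg17 yg14 zg10) (kg xg13 yg0 zg23)) (@D3.rec (fun _ => Pt) (kg xg21 yg34 zg53) (kg xg23 yg22 zg20) (kg xg30 yg19 zg41) (kg xg28 yg27 zg42) (kg xg21 yg5 zg20) (kg xg12 yg59 zg6) (kg xg21 yg5 zg19) (kg xg21 yg39 zg39) (kg xg17 yg36 zg24) (kg xg18 yg51 zg22) (kg xg25 yg44 zg2) (kg xg15 yg16 zg15) (kg xg12 yg59 zg9) (kg xg16 yg29 zg4) (kg xg15 yg34 zg38) (kg xg15 yg16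 zg26) (kg xg25 yg56 zg10) (kg xg14 yg27 zg58) (kg xg21 yg5 zg32) (kg xg29 yg0 zg17) (kg xg21 yg5 zg30) (kg xg12 yg59 zg15) (kg xg23 yg33 zg60) (kg xg24 yg38 zg61) (kg xg26 yg5 zg45) (kg xg12 yg59 zg16) (kg xg25 yg54 zg50) (kg xg30 yg19 zg45) (kg xg12 yg59 zg24) (kg xg12 yg59 zg21) (kg xg14 yg32 zg0) (kg xg17 yg14 zg24) (kg xg13 yg37 zg51) (kg xg29 yg59 zg1) (kg xg24 yg8 zg41) (kg xg15 yg58 zg18) (kg xg21 yg24 zg55) (kg xg21 yg25 zg19) (kg xg17 yg48 zg17) (kg xg15 yg39 zg6) (kg xg12 yg59 zg31) (kg xg22 yg10 zg49) (kg xg15 yg40 zg0) (kg xg27 yg38 zg37) (kg xg15 yg40 zg13) (kg xg15 yg40 zg14) (kg xg12 yg59 zg36) (kg xg28 yg57 zg48) (kg xg17 yg53 zg53) (kg xg15 yg40 zg11) (kg xg25 yg43 zg20) (kg xg24 yg7 zg17) (kg xg30 yg6 zg43) (kg xg20 yg14 zg36) (kg xg15 yg46 zg49) (kg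 xg20 yg8 zg42) (kg xg29 yg51 zg47) (kg xg26 yg10 zg59) (kg xg27 yg23 zg38) (kg xg20 yg14 zg28) (kg xg15 yg43 zg45) (kg xg22 yg3 zg45)) (@D3.rec (fun _ => Pt) (kg xg12 yg59 zg59) (kg xg26 yg23 zg19) (kg xg21 yg33 zg22) (kg xg20 yg19 zg28) (kg xg17 yg16 zg29) (kg xg29 yg23 zg29) (kg xg13 yg0 zg3) (kg xg30 yg14 zg31) (kg xg13 yg0 zg4) (kg xg30 yg12 zg42) (kg xg17 yg14 zg5) (kg xg26 yg3 zg7) (kg xg23 yg2 zg46) (kg xg23 yg2 zg42) (kg xg13 yg0 zg7) (kg xg19 yg14 zg49) (kg xg22 yg45 zg48) (kg xg21 yg46 zg55) (kg xg13 yg0 zg21) (kg xg13 yg0 zg8) (kg xg30 yg13 zg30) (kg xg25 yg42 zg28) (kg xg21 yg23 zg45) (kg xg13 yg0 zg9) (kg xg25 yg39 zg48) (kg xg25 yg41 zg47) (kg xg13 yg0 zg10) (kg xg29 yg56 zg31) (kg xg29 yg50 zg33) (kg xg25 yg31 zg4) (kg xg15 yg36 zg56) (kg xg21 yg23 zg46)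 (kg xg17 yg35 zg18) (kg xg27 yg28 zg1) (kg xg27 yg23 zg18) (kg xg25 yg58 zg39) (kg xg21 yg33 zg13) (kg xg21 yg27 zg59) (kg xg17 yg36 zg23) (kg xg29 yg57 zg12) (kg xg30 yg17 zg11) (kg xg27 yg54 zg17) (kg xg29 yg21 zg55) (kg xg28 yg6 zg46) (kg xg13 yg0 zg32) (kg xg23 yg6 zg26) (kg xg21 yg39 zg25) (kg xg13 yg0 zg34) (kg xg21 yg39 zg24) (kg xg13 yg0 zg35) (kg xg27 yg3 zg50) (kg xg17 yg34 zg59) (kg xg21 yg5 zg29) (kg xg14 yg31 zg59) (kg xg20 yg43 zg60) (kg xg15 yg41 zg5) (kg xg15 yg15 zg58) (kg xg13 yg0 zg41) (kg xg29 yg51 zg0) (kg xg21 yg7 zg35) (kg xg21 yg39 zg28) (kg xg29 yg51 zg1)) (@D3.rec (fun _ => Pt) (kg xg30 yg8 zg41) (kg xg13 yg0 zg45) (kg xg27 yg48 zg46) (kg xg17 yg7 zg21) (kg xg13 yg1 zg10) (kg xg13 yg16 zg39) (kg xg13 yg20 zg24) (kg xg21 yg37 zg0) (kg xg14 yg4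 zg32) (kg xg18 yg24 zg32) (kg xg14 yg57 zg37) (kg xg20 yg27 zg47) (kg xg21 yg58 zg32) (kg xg13 yg1 zg13) (kg xg27 yg30 zg59) (kg xg21 yg58 zg30) (kg xg21 yg22 zg49) (kg xg13 yg1 zg14) (kg xg17 yg16 zg43) (kg xg30 yg11 zg38) (kg xg17 yg17 zg55) (kg xg19 yg39 zg37) (kg xg17 yg18 zg0) (kg xg21 yg36 zg52) (kg xg16 yg43 zg51) (kg xg23 yg22 zg11) (kg xg13 yg1 zg27) (kg xg26 yg13 zg0) (kg xg29 yg51 zg53) (kg xg13 yg1 zg28) (kg xg15 yg58 zg37) (kg xg25 yg28 zg57) (kg xg21 yg37 zg1) (kg xg17 yg57 zg51) (kg xg27 yg11 zg38) (kg xg13 yg10 zg58) (kg xg20 yg46 zg14) (kg xg13 yg5 zg48) (kg xg13 yg27 zg44) (kg xg24 yg40 zg50) (kg xg16 yg17 zg16) (kg xg18 yg21 zg26) (kg xg18 yg35 zg9) (kg xg21 yg58 zg50) (kg xg17 yg30 zg18) (kg xg21 yg25 zg8) (kg xg13 yg2 zg5) (kg xg21 yg25 zg7) (kg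 xg21 yg20 zg0) (kg xg13 yg2 zg6) (kg xg21 yg19 zg61) (kg xg21 yg58 zg51) (kg xg19 yg26 zg53) (kg xg19 yg52 zg7) (kg xg28 yg45 zg45) (kg xg16 yg53 zg11) (kg xg19 yg39 zg1) (kg xg19 yg27 zg14) (kg xg29 yg44 zg25) (kg xg27 yg16 zg37) (kg xg26 yg44 zg45) (kg xg27 yg10 zg36)) (@D3.rec (fun _ => Pt) (kg xg25 yg19 zg25) (kg xg20 yg22 zg19) (kg xg20 yg22 zg20) (kg xg13 yg2 zg29) (kg xg22 yg3 zg49) (kg xg21 yg7 zg24) (kg xg14 yg2 zg37) (kg xg13 yg2 zg33) (kg xg14 yg2 zg36) (kg xg13 yg2 zg34) (kg xg13 yg34 zg61) (kg xg22 yg15 zg46) (kg xg14 yg5 zg10) (kg xg13 yg2 zg38) (kg xg23 yg29 zg38) (kg xg22 yg45 zg31) (kg xg13 yg2 zg40) (kg xg22 yg45 zg30) (kg xg13 yg6 zg61) (kg xg22 yg45 zg26) (kg xg14 yg10 zg4) (kg xg14 yg10 zg1) (kg xg30 yg20 zg39) (kg xg19 yg14 zg40) (kg xg18 yg29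 zg24) (kg xg14 yg9 zg60) (kg xg14 yg9 zg59) (kg xg29 yg39 zg23) (kg xg14 yg13 zg20) (kg xg14 yg13 zg16) (kg xg22 yg26 zg46) (kg xg22 yg29 zg52) (kg xg13 yg2 zg51) (kg xg30 yg20 zg47) (kg xg22 yg19 zg7) (kg xg20 yg43 zg7) (kg xg13 yg2 zg54) (kg xg13 yg3 zg16) (kg xg30 yg20 zg52) (kg xg13 yg3 zg47) (kg xg30 yg20 zg55) (kg xg13 yg46 zg12) (kg xg30 yg20 zg59) (kg xg14 yg41 zg26) (kg xg18 yg36 zg35) (kg xg13 yg3 zg3) (kg xg23 yg54 zg12) (kg xg28 yg36 zg12) (kg xg13 yg5 zg52) (kg xg13 yg3 zg9) (kg xg23 yg46 zg43) (kg xg13 yg5 zg50) (kg xg13 yg11 zg54) (kg xg30 yg21 zg3) (kg xg13 yg35 zg48) (kg xg30 yg21 zg6) (kg xg23 yg27 zg17) (kg xg13 yg20 zg9) (kg xg28 yg59 zg12) (kg xg26 yg24 zg32) (kg xg13 yg3 zg38) (kg xg21 yg14 zg46)) (@D3.rec (fun _ => Pt) (kg xg14 yg52 zg8) (kg xg13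 yg47 zg4) (kg xg13 yg52 zg13) (kg xg13 yg11 zg57) (kg xg14 yg15 zg1) (kg xg20 yg38 zg42) (kg xg27 yg1 zg56) (kg xg29 yg36 zg45) (kg xg24 yg17 zg21) (kg xg27 yg2 zg29) (kg xg13 yg3 zg24) (kg xg30 yg21 zg18) (kg xg22 yg14 zg31) (kg xg21 yg14 zg52) (kg xg22 yg23 zg54) (kg xg24 yg14 zg39) (kg xg22 yg36 zg36) (kg xg30 yg20 zg51) (kg xg13 yg3 zg27) (kg xg30 yg21 zg32) (kg xg28 yg33 zg5) (kg xg13 yg3 zg28) (kg xg22 yg29 zg49) (kg xg13 yg4 zg7) (kg xg29 yg39 zg30) (kg xg13 yg3 zg36) (kg xg13 yg3 zg30) (kg xg30 yg21 zg44) (kg xg22 yg26 zg47) (kg xg22 yg40 zg15) (kg xg13 yg3 zg31) (kg xg22 yg40 zg14) (kg xg13 yg3 zg41) (kg xg22 yg40 zg7) (kg xg21 yg40 zg24) (kg xg13 yg3 zg34) (kg xg27 yg6 zg61) (kg xg30 yg5 zg40) (kg xg29 yg34 zg38) (kg xg13 yg3 zg37) (kg xg22 yg24 zg9) (kg xg30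 yg21 zg56) (kg xg30 yg21 zg60) (kg xg13 yg3 zg42) (kg xg30 yg22 zg2) (kg xg24 yg26 zg3) (kg xg24 yg26 zg1) (kg xg13 yg3 zg40) (kg xg14 yg11 zg43) (kg xg14 yg13 zg23) (kg xg30 yg22 zg8) (kg xg30 yg22 zg9) (kg xg22 yg27 zg1) (kg xg30 yg22 zg13) (kg xg30 yg22 zg17) (kg xg13 yg3 zg45) (kg xg30 yg22 zg18) (kg xg30 yg11 zg57) (kg xg30 yg22 zg23) (kg xg29 yg40 zg0) (kg xg29 yg36 zg61) (kg xg23 yg52 zg43)) (@D3.rec (fun _ => Pt) (kg xg13 yg11 zg38) (kg xg20 yg42 zg53) (kg xg22 yg26 zg22) (kg xg22 yg26 zg58) (kg xg13 yg5 zg38) (kg xg22 yg38 zg26) (kg xg13 yg3 zg53) (kg xg23 yg48 zg21) (kg xg30 yg22 zg36) (kg xg23 yg52 zg41) (kg xg20 yg43 zg17) (kg xg29 yg36 zg36) (kg xg22 yg29 zg60) (kg xg13 yg22 zg39) (kg xg20 yg42 zg60) (kg xg30 yg22 zg44) (kg xg22 yg14 zg14) (kg xg29 yg36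 zg50) (kg xg13 yg3 zg58) (kg xg28 yg44 zg52) (kg xg30 yg20 zg60) (kg xg22 yg32 zg6) (kg xg23 yg27 zg20) (kg xg13 yg12 zg33) (kg xg23 yg47 zg58) (kg xg28 yg52 zg47) (kg xg28 yg28 zg24) (kg xg14 yg52 zg2) (kg xg28 yg51 zg54) (kg xg29 yg35 zg20) (kg xg13 yg4 zg8) (kg xg29 yg1 zg26) (kg xg30 yg23 zg2) (kg xg21 yg14 zg11) (kg xg13 yg27 zg49) (kg xg22 yg36 zg53) (kg xg13 yg26 zg41) (kg xg13 yg50 zg27) (kg xg13 yg27 zg41) (kg xg13 yg38 zg46) (kg xg27 yg43 zg6) (kg xg13 yg12 zg60) (kg xg23 yg35 zg34) (kg xg19 yg22 zg1) (kg xg13 yg4 zg51) (kg xg13 yg4 zg43) (kg xg13 yg4 zg23) (kg xg13 yg4 zg42) (kg xg22 yg8 zg45) (kg xg13 yg4 zg24) (kg xg22 yg8 zg44) (kg xg30 yg23 zg7) (kg xg18 yg55 zg13) (kg xg18 yg36 zg48) (kg xg13 yg4 zg26) (kg xg18 yg29 zg7) (kg xg23 yg46 zg15) (kg xg13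 yg11 zg18) (kg xg14 yg44 zg57) (kg xg22 yg13 zg2) (kg xg15 yg39 zg11) (kg xg13 yg4 zg31)) (@D3.rec (fun _ => Pt) (kg xg22 yg34 zg51) (kg xg19 yg50 zg56) (kg xg23 yg36 zg38) (kg xg22 yg58 zg16) (kg xg17 yg24 zg33) (kg xg18 yg0 zg35) (kg xg16 yg18 zg15) (kg xg19 yg15 zg24) (kg xg24 yg44 zg11) (kg xg13 yg4 zg39) (kg xg24 yg44 zg10) (kg xg15 yg7 zg25) (kg xg26 yg16 zg5) (kg xg13 yg4 zg40) (kg xg30 yg23 zg15) (kg xg27 yg23 zg22) (kg xg19 yg15 zg48) (kg xg24 yg55 zg48) (kg xg22 yg18 zg51) (kg xg24 yg11 zg15) (kg xg19 yg15 zg27) (kg xg14 yg24 zg30) (kg xg13 yg13 zg27) (kg xg27 yg50 zg22) (kg xg22 yg13 zg1) (kg xg19 yg7 zg22) (kg xg14 yg13 zg30) (kg xg22 yg24 zg56) (kg xg13 yg50 zg60) (kg xg18 yg54 zg50) (kg xg13 yg4 zg59) (kg xg22 yg35 zg7) (kg xg14 yg15 zg22) (kg xg13 yg22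 zg41) (kg xg23 yg21 zg58) (kg xg13 yg5 zg2) (kg xg23 yg21 zg57) (kg xg23 yg34 zg11) (kg xg22 yg35 zg16) (kg xg13 yg5 zg3) (kg xg30 yg23 zg25) (kg xg23 yg52 zg8) (kg xg25 yg58 zg1) (kg xg25 yg1 zg33) (kg xg22 yg22 zg53) (kg xg18 yg45 zg45) (kg xg22 yg30 zg30) (kg xg23 yg36 zg44) (kg xg22 yg12 zg11) (kg xg13 yg5 zg10) (kg xg13 yg13 zg54) (kg xg18 yg36 zg41) (kg xg22 yg34 zg22) (kg xg13 yg6 zg0) (kg xg20 yg40 zg57) (kg xg13 yg5 zg14) (kg xg30 yg23 zg35) (kg xg22 yg35 zg23) (kg xg24 yg23 zg30) (kg xg21 yg32 zg31) (kg xg14 yg3 zg55) (kg xg22 yg26 zg51)) (@D3.rec (fun _ => Pt) (kg xg14 yg51 zg58) (kg xg23 yg52 zg45) (kg xg13 yg5 zg17) (kg xg14 yg39 zg42) (kg xg20 yg43 zg10) (kg xg30 yg23 zg45) (kg xg24 yg24 zg56) (kg xg13 yg6 zg38) (kg xg13 yg20 zg32) (kg xg22 yg26 zg31)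 (kg xg22 yg59 zg19) (kg xg13 yg5 zg25) (kg xg13 yg16 zg44) (kg xg22 yg42 zg25) (kg xg14 yg17 zg36) (kg xg13 yg37 zg32) (kg xg23 yg54 zg26) (kg xg13 yg5 zg42) (kg xg13 yg5 zg31) (kg xg22 yg59 zg0) (kg xg13 yg5 zg40) (kg xg17 yg34 zg8) (kg xg24 yg18 zg42) (kg xg13 yg5 zg37) (kg xg13 yg5 zg34) (kg xg30 yg23 zg56) (kg xg22 yg49 zg10) (kg xg23 yg54 zg54) (kg xg22 yg59 zg2) (kg xg28 yg18 zg5) (kg xg23 yg5 zg50) (kg xg23 yg11 zg58) (kg xg19 yg9 zg3) (kg xg30 yg23 zg52) (kg xg13 yg5 zg41) (kg xg25 yg34 zg27) (kg xg22 yg58 zg56) (kg xg21 yg59 zg47) (kg xg20 yg31 zg13) (kg xg27 yg2 zg30) (kg xg28 yg58 zg61) (kg xg27 yg2 zg36) (kg xg16 yg27 zg18) (kg xg25 yg18 zg40) (kg xg22 yg23 zg30) (kg xg30 yg24 zg4) (kg xg14 yg11 zg11) (kg xg27 yg41 zg56) (kg xg13 yg59 zg19) (kg xg13 yg5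 zg51) (kg xg13 yg43 zg38) (kg xg13 yg59 zg17) (kg xg23 yg46 zg45) (kg xg23 yg18 zg54) (kg xg13 yg44 zg46) (kg xg22 yg57 zg44) (kg xg22 yg57 zg37) (kg xg13 yg5 zg54) (kg xg22 yg58 zg24) (kg xg24 yg28 zg52) (kg xg22 yg41 zg16) (kg xg13 yg5 zg55)) (@D3.rec (fun _ => Pt) (kg xg30 yg24 zg11) (kg xg23 yg12 zg10) (kg xg30 yg21 zg5) (kg xg13 yg5 zg58) (kg xg30 yg21 zg4) (kg xg26 yg25 zg60) (kg xg19 yg2 zg3) (kg xg23 yg33 zg38) (kg xg13 yg5 zg60) (kg xg19 yg9 zg0) (kg xg23 yg33 zg37) (kg xg23 yg11 zg39) (kg xg30 yg24 zg16) (kg xg30 yg24 zg18) (kg xg30 yg24 zg20) (kg xg29 yg38 zg31) (kg xg13 yg6 zg2) (kg xg29 yg25 zg20) (kg xg30 yg24 zg22) (kg xg19 yg39 zg56) (kg xg30 yg21 zg9) (kg xg13 yg6 zg4) (kg xg27 yg41 zg35) (kg xg30 yg24 zg21) (kg xg30 yg24 zg26) (kg xg13 yg6 zg6) (kg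 xg27 yg42 zg1) (kg xg27 yg42 zg2) (kg xg27 yg41 zg39) (kg xg24 yg57 zg10) (kg xg27 yg41 zg50) (kg xg23 yg18 zg55) (kg xg13 yg6 zg9) (kg xg23 yg12 zg5) (kg xg29 yg7 zg52) (kg xg13 yg6 zg11) (kg xg30 yg24 zg37) (kg xg26 yg29 zg41) (kg xg13 yg45 zg18) (kg xg13 yg6 zg13) (kg xg13 yg45 zg17) (kg xg29 yg39 zg47) (kg xg23 yg38 zg46) (kg xg23 yg39 zg23) (kg xg13 yg55 zg43) (kg xg13 yg56 zg4) (kg xg23 yg35 zg36) (kg xg25 yg46 zg22) (kg xg13 yg6 zg25) (kg xg13 yg59 zg22) (kg xg23 yg44 zg55) (kg xg14 yg2 zg38) (kg xg16 yg4 zg7) (kg xg23 yg44 zg43) (kg xg13 yg6 zg28) (kg xg23 yg35 zg18) (kg xg13 yg6 zg30) (kg xg22 yg21 zg28) (kg xg14 yg42 zg47) (kg xg16 yg53 zg58) (kg xg18 yg15 zg3) (kg xg20 yg23 zg50)) (@D3.rec (fun _ => Pt) (kg xg18 yg21 zg10) (kg xg21 yg37 zg39) (kg xg23 yg50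 zg0) (kg xg20 yg46 zg16) (kg xg27 yg52 zg1) (kg xg23 yg50 zg14) (kg xg18 yg33 zg16) (kg xg30 yg24 zg48) (kg xg14 yg22 zg60) (kg xg23 yg51 zg37) (kg xg28 yg17 zg54) (kg xg23 yg50 zg51) (kg xg13 yg6 zg50) (kg xg29 yg25 zg18) (kg xg29 yg20 zg37) (kg xg23 yg7 zg7) (kg xg20 yg45 zg44) (kg xg29 yg2 zg31) (kg xg18 yg54 zg61) (kg xg15 yg11 zg55) (kg xg20 yg45 zg20) (kg xg14 yg33 zg2) (kg xg18 yg36 zg61) (kg xg13 yg6 zg55) (kg xg24 yg15 zg30) (kg xg13 yg6 zg57) (kg xg28 yg28 zg4) (kg xg23 yg50 zg47) (kg xg23 yg23 zg55) (kg xg13 yg6 zg59) (kg xg23 yg23 zg54) (kg xg14 yg4 zg3) (kg xg13 yg7 zg6) (kg xg23 yg23 zg49) (kg xg30 yg22 zg54) (kg xg22 yg34 zg17) (kg xg13 yg7 zg0) (kg xg30 yg22 zg55) (kg xg13 yg7 zg1) (kg xg23 yg23 zg57) (kg xg13 yg7 zg2) (kg xg20 yg45 zg40) (kg xg27 yg40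 zg2) (kg xg30 yg19 zg42) (kg xg27 yg45 zg23) (kg xg13 yg7 zg5) (kg xg23 yg36 zg47) (kg xg23 yg27 zg18) (kg xg24 yg40 zg22) (kg xg28 yg45 zg60) (kg xg26 yg13 zg31) (kg xg22 yg15 zg17) (kg xg23 yg36 zg43) (kg xg23 yg36 zg42) (kg xg18 yg37 zg29) (kg xg13 yg7 zg9) (kg xg25 yg3 zg57) (kg xg23 yg52 zg1) (kg xg30 yg25 zg9) (kg xg13 yg27 zg12) (kg xg13 yg52 zg19) (kg xg13 yg52 zg17)) (@D3.rec (fun _ => Pt) (kg xg22 yg28 zg43) (kg xg30 yg25 zg16) (kg xg24 yg14 zg37) (kg xg23 yg49 zg3) (kg xg14 yg23 zg22) (kg xg28 yg46 zg18) (kg xg24 yg24 zg50) (kg xg13 yg14 zg54) (kg xg13 yg10 zg28) (kg xg24 yg24 zg38) (kg xg22 yg26 zg25) (kg xg29 yg40 zg13) (kg xg30 yg25 zg15) (kg xg26 yg57 zg21) (kg xg24 yg25 zg12) (kg xg23 yg56 zg52) (kg xg28 yg15 zg10) (kg xg27 yg5 zg15) (kg xg23 yg45 zg51)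 (kg xg13 yg7 zg23) (kg xg30 yg11 zg53) (kg xg19 yg21 zg43) (kg xg23 yg45 zg49) (kg xg13 yg7 zg33) (kg xg13 yg11 zg21) (kg xg13 yg11 zg17) (kg xg13 yg7 zg27) (kg xg30 yg25 zg41) (kg xg30 yg25 zg42) (kg xg13 yg11 zg39) (kg xg26 yg28 zg0) (kg xg13 yg9 zg51) (kg xg14 yg22 zg53) (kg xg29 yg37 zg50) (kg xg30 yg25 zg49) (kg xg22 yg23 zg42) (kg xg29 yg49 zg4) (kg xg30 yg25 zg53) (kg xg29 yg38 zg3) (kg xg30 yg22 zg27) (kg xg13 yg7 zg38) (kg xg30 yg22 zg28) (kg xg20 yg48 zg59) (kg xg13 yg13 zg14) (kg xg13 yg13 zg11) (kg xg30 yg26 zg0) (kg xg23 yg24 zg6) (kg xg20 yg48 zg44) (kg xg13 yg13 zg26) (kg xg30 yg26 zg3) (kg xg13 yg13 zg22) (kg xg13 yg7 zg49) (kg xg19 yg30 zg53) (kg xg13 yg8 zg33) (kg xg14 yg43 zg52) (kg xg28 yg12 zg59) (kg xg30 yg26 zg7) (kg xg21 yg52 zg44) (kg xg24 yg1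 zg1) (kg xg14 yg19 zg43) (kg xg14 yg52 zg0) (kg xg19 yg3 zg15)) (@D3.rec (fun _ => Pt) (kg xg13 yg8 zg15) (kg xg13 yg8 zg3) (kg xg14 yg48 zg19) (kg xg13 yg8 zg10) (kg xg19 yg10 zg26) (kg xg13 yg8 zg8) (kg xg19 yg9 zg54) (kg xg24 yg8 zg19) (kg xg30 yg26 zg14) (kg xg26 yg59 zg61) (kg xg20 yg20 zg24) (kg xg14 yg31 zg29) (kg xg19 yg9 zg27) (kg xg14 yg19 zg42) (kg xg14 yg30 zg52) (kg xg18 yg48 zg32) (kg xg24 yg13 zg2) (kg xg24 yg12 zg50) (kg xg24 yg12 zg15) (kg xg15 yg52 zg19) (kg xg27 yg16 zg36) (kg xg23 yg47 zg28) (kg xg29 yg4 zg15) (kg xg19 yg3 zg16) (kg xg27 yg55 zg42) (kg xg22 yg22 zg58) (kg xg28 yg59 zg17) (kg xg14 yg22 zg32) (kg xg19 yg8 zg59) (kg xg30 yg26 zg28) (kg xg24 yg0 zg38) (kg xg23 yg1 zg9) (kg xg22 yg57 zg5) (kg xg22 yg58 zg37) (kg xg24 yg5 zg61) (kg xg13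 yg8 zg25) (kg xg30 yg26 zg34) (kg xg30 yg26 zg37) (kg xg13 yg39 zg16) (kg xg13 yg8 zg26) (kg xg30 yg26 zg40) (kg xg19 yg37 zg16) (kg xg19 yg24 zg33) (kg xg27 yg13 zg3) (kg xg24 yg34 zg41) (kg xg29 yg38 zg39) (kg xg24 yg34 zg40) (kg xg13 yg20 zg27) (kg xg22 yg58 zg38) (kg xg30 yg26 zg44) (kg xg28 yg57 zg36) (kg xg24 yg39 zg34) (kg xg13 yg8 zg35) (kg xg22 yg54 zg52) (kg xg30 yg6 zg2) (kg xg25 yg55 zg59) (kg xg24 yg39 zg36) (kg xg13 yg8 zg37) (kg xg19 yg22 zg55) (kg xg22 yg52 zg52) (kg xg13 yg8 zg38) (kg xg30 yg26 zg50)) (@D3.rec (fun _ => Pt) (kg xg25 yg8 zg60) (kg xg15 yg40 zg50) (kg xg23 yg1 zg10) (kg xg13 yg8 zg40) (kg xg24 yg9 zg4) (kg xg28 yg52 zg18) (kg xg29 yg37 zg30) (kg xg13 yg9 zg34) (kg xg24 yg37 zg49) (kg xg14 yg5 zg26) (kg xg24 yg1 zg29) (kg xg16 yg3 zg17)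 (kg xg16 yg4 zg52) (kg xg14 yg55 zg14) (kg xg24 yg3 zg40) (kg xg24 yg34 zg0) (kg xg14 yg39 zg13) (kg xg13 yg8 zg56) (kg xg14 yg50 zg40) (kg xg23 yg26 zg27) (kg xg25 yg33 zg54) (kg xg24 yg6 zg42) (kg xg13 yg8 zg60) (kg xg22 yg16 zg0) (kg xg13 yg13 zg10) (kg xg19 yg31 zg8) (kg xg28 yg13 zg60) (kg xg26 yg53 zg48) (kg xg17 yg57 zg54) (kg xg24 yg2 zg46) (kg xg24 yg2 zg40) (kg xg27 yg11 zg50) (kg xg24 yg3 zg53) (kg xg30 yg27 zg4) (kg xg24 yg4 zg31) (kg xg14 yg17 zg8) (kg xg27 yg37 zg22) (kg xg24 yg3 zg41) (kg xg13 yg9 zg7) (kg xg27 yg36 zg57) (kg xg30 yg27 zg13) (kg xg24 yg10 zg53) (kg xg30 yg27 zg16) (kg xg30 yg3 zg58) (kg xg27 yg12 zg27) (kg xg24 yg34 zg54) (kg xg21 yg8 zg5) (kg xg30 yg25 zg5) (kg xg17 yg50 zg33) (kg xg21 yg20 zg40) (kg xg16 yg44 zg26) (kg xg24 yg39 zg18)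 (kg xg13 yg9 zg15) (kg xg24 yg39 zg17) (kg xg13 yg9 zg23) (kg xg22 yg26 zg49) (kg xg20 yg28 zg56) (kg xg13 yg9 zg18) (kg xg30 yg27 zg20) (kg xg22 yg26 zg50) (kg xg13 yg9 zg19) (kg xg21 yg47 zg38)) (@D3.rec (fun _ => Pt) (kg xg21 yg47 zg22) (kg xg24 yg39 zg22) (kg xg13 yg9 zg22) (kg xg14 yg39 zg55) (kg xg24 yg39 zg24) (kg xg18 yg0 zg27) (kg xg25 yg47 zg13) (kg xg24 yg4 zg50) (kg xg30 yg27 zg27) (kg xg13 yg46 zg11) (kg xg13 yg9 zg33) (kg xg13 yg46 zg9) (kg xg14 yg45 zg41) (kg xg14 yg46 zg51) (kg xg13 yg9 zg37) (kg xg14 yg29 zg47) (kg xg18 yg0 zg54) (kg xg13 yg9 zg41) (kg xg24 yg34 zg42) (kg xg22 yg37 zg60) (kg xg14 yg48 zg27) (kg xg13 yg9 zg42) (kg xg18 yg18 zg25) (kg xg22 yg1 zg11) (kg xg13 yg36 zg20) (kg xg13 yg10 zg11) (kg xg22 yg13 zg6) (kg xg21 yg8 zg6) (kg xg14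 yg26 zg55) (kg xg17 yg20 zg9) (kg xg17 yg17 zg45) (kg xg18 yg42 zg1) (kg xg17 yg19 zg53) (kg xg24 yg9 zg36) (kg xg21 yg40 zg9) (kg xg22 yg22 zg37) (kg xg22 yg42 zg4) (kg xg22 yg22 zg42) (kg xg29 yg31 zg55) (kg xg22 yg36 zg30) (kg xg24 yg12 zg45) (kg xg21 yg14 zg13) (kg xg22 yg22 zg43) (kg xg22 yg22 zg35) (kg xg23 yg1 zg39) (kg xg23 yg7 zg0) (kg xg24 yg0 zg50) (kg xg24 yg38 zg48) (kg xg25 yg47 zg22) (kg xg18 yg22 zg33) (kg xg24 yg13 zg33) (kg xg19 yg34 zg12) (kg xg27 yg21 zg21) (kg xg18 yg53 zg37) (kg xg27 yg20 zg60) (kg xg23 yg1 zg24) (kg xg25 yg11 zg46) (kg xg15 yg58 zg43) (kg xg22 yg20 zg27) (kg xg23 yg1 zg18) (kg xg24 yg13 zg55) (kg xg28 yg50 zg12)) (@D3.rec (fun _ => Pt) (kg xg17 yg57 zg38) (kg xg28 yg23 zg48) (kg xg24 yg38 zg49) (kg xg25 yg25 zg2) (kg xg17 yg50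 zg7) (kg xg13 yg10 zg27) (kg xg23 yg45 zg42) (kg xg22 yg0 zg47) (kg xg22 yg41 zg2) (kg xg21 yg47 zg27) (kg xg23 yg13 zg6) (kg xg20 yg47 zg1) (kg xg20 yg33 zg42) (kg xg24 yg14 zg51) (kg xg24 yg14 zg50) (kg xg24 yg11 zg31) (kg xg23 yg58 zg30) (kg xg23 yg11 zg12) (kg xg13 yg10 zg44) (kg xg17 yg59 zg46) (kg xg28 yg23 zg36) (kg xg13 yg10 zg48) (kg xg27 yg42 zg9) (kg xg22 yg52 zg11) (kg xg20 yg39 zg50) (kg xg27 yg43 zg1) (kg xg22 yg53 zg37) (kg xg13 yg10 zg53) (kg xg13 yg39 zg40) (kg xg19 yg53 zg0) (kg xg22 yg16 zg46) (kg xg27 yg30 zg46) (kg xg21 yg52 zg23) (kg xg15 yg36 zg12) (kg xg13 yg10 zg57) (kg xg24 yg53 zg15) (kg xg20 yg16 zg46) (kg xg24 yg33 zg53) (kg xg27 yg7 zg29) (kg xg29 yg47 zg27) (kg xg20 yg34 zg16) (kg xg28 yg16 zg60) (kg xg13 yg11 zg8) (kg xg26 yg43 zg16)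 (kg xg20 yg16 zg41) (kg xg14 yg10 zg38) (kg xg30 yg28 zg4) (kg xg26 yg43 zg25) (kg xg13 yg11 zg13) (kg xg19 yg25 zg25) (kg xg28 yg53 zg5) (kg xg13 yg11 zg14) (kg xg28 yg52 zg54) (kg xg22 yg24 zg49) (kg xg22 yg12 zg60) (kg xg13 yg11 zg25) (kg xg13 yg11 zg19) (kg xg16 yg37 zg48) (kg xg28 yg18 zg36) (kg xg22 yg0 zg57) (kg xg13 yg20 zg19) (kg xg16 yg37 zg33)) (@D3.rec (fun _ => Pt) (kg xg30 yg28 zg14) (kg xg30 yg28 zg17) (kg xg22 yg24 zg50) (kg xg13 yg11 zg23) (kg xg30 yg28 zg23) (kg xg22 yg53 zg54) (kg xg21 yg14 zg3) (kg xg24 yg0 zg57) (kg xg22 yg13 zg40) (kg xg13 yg11 zg26) (kg xg22 yg33 zg18) (kg xg29 yg55 zg48) (kg xg26 yg57 zg6) (kg xg30 yg22 zg21) (kg xg30 yg28 zg34) (kg xg20 yg47 zg54) (kg xg20 yg44 zg25) (kg xg23 yg46 zg10) (kg xg22 yg12 zg41) (kg xg29 yg40 zg10)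 (kg xg14 yg40 zg41) (kg xg22 yg19 zg6) (kg xg29 yg23 zg15) (kg xg30 yg25 zg43) (kg xg13 yg11 zg35) (kg xg27 yg13 zg59) (kg xg30 yg25 zg22) (kg xg20 yg48 zg34) (kg xg22 yg0 zg48) (kg xg27 yg16 zg13) (kg xg24 yg25 zg51) (kg xg27 yg16 zg25) (kg xg23 yg45 zg33) (kg xg22 yg0 zg42) (kg xg22 yg25 zg17) (kg xg22 yg0 zg44) (kg xg18 yg56 zg2) (kg xg24 yg25 zg45) (kg xg13 yg11 zg44) (kg xg30 yg29 zg4) (kg xg28 yg24 zg15) (kg xg30 yg29 zg9) (kg xg27 yg16 zg24) (kg xg15 yg33 zg9) (kg xg27 yg2 zg57) (kg xg22 yg28 zg5) (kg xg22 yg59 zg34) (kg xg13 yg11 zg48) (kg xg22 yg23 zg53) (kg xg13 yg11 zg49) (kg xg22 yg24 zg3) (kg xg30 yg29 zg20) (kg xg29 yg40 zg18) (kg xg13 yg39 zg35) (kg xg13 yg11 zg52) (kg xg29 yg45 zg34) (kg xg22 yg23 zg60) (kg xg30 yg29 zg22) (kg xg29 yg46 zg18) (kg xg13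 yg11 zg56) (kg xg28 yg52 zg42) (kg xg27 yg54 zg1)) (@D3.rec (fun _ => Pt) (kg xg28 yg54 zg42) (kg xg22 yg36 zg47) (kg xg25 yg52 zg48) (kg xg13 yg11 zg58) (kg xg25 yg52 zg47) (kg xg30 yg29 zg23) (kg xg30 yg11 zg55) (kg xg22 yg26 zg4) (kg xg30 yg11 zg41) (kg xg30 yg25 zg51) (kg xg13 yg11 zg61) (kg xg30 yg25 zg50) (kg xg30 yg25 zg27) (kg xg20 yg16 zg58) (kg xg20 yg14 zg45) (kg xg20 yg37 zg22) (kg xg23 yg12 zg61) (kg xg22 yg15 zg33) (kg xg17 yg24 zg43) (kg xg29 yg34 zg22) (kg xg30 yg29 zg35) (kg xg27 yg17 zg9) (kg xg13 yg12 zg6) (kg xg21 yg16 zg39) (kg xg17 yg24 zg46) (kg xg30 yg25 zg45) (kg xg13 yg12 zg8) (kg xg30 yg25 zg44) (kg xg28 yg22 zg32) (kg xg20 yg48 zg2) (kg xg13 yg12 zg9) (kg xg13 yg12 zg10) (kg xg22 yg14 zg40) (kg xg20 yg47 zg49) (kg xg30 yg25 zg55) (kg xg13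 yg12 zg12) (kg xg30 yg25 zg54) (kg xg29 yg44 zg60) (kg xg30 yg25 zg52) (kg xg13 yg12 zg14) (kg xg29 yg33 zg34) (kg xg30 yg29 zg51) (kg xg29 yg38 zg5) (kg xg13 yg12 zg17) (kg xg13 yg12 zg20) (kg xg30 yg29 zg48) (kg xg30 yg29 zg56) (kg xg27 yg8 zg33) (kg xg14 yg25 zg56) (kg xg13 yg12 zg18) (kg xg22 yg1 zg24) (kg xg30 yg29 zg57) (kg xg28 yg22 zg51) (kg xg30 yg20 zg56) (kg xg30 yg20 zg57) (kg xg13 yg12 zg19) (kg xg29 yg30 zg22) (kg xg28 yg53 zg29) (kg xg30 yg30 zg1) (kg xg27 yg12 zg45) (kg xg29 yg38 zg11) (kg xg13 yg12 zg22)) (@D3.rec (fun _ => Pt) (kg xg30 yg30 zg5) (kg xg28 yg30 zg0) (kg xg22 yg25 zg15) (kg xg21 yg11 zg21) (kg xg20 yg48 zg57) (kg xg24 yg25 zg44) (kg xg24 yg16 zg36) (kg xg29 yg39 zg46) (kg xg14 yg21 zg15) (kg xg13 yg35 zg18) (kg xg24 yg30 zg8) (kg xg13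 yg12 zg42) (kg xg14 yg41 zg2) (kg xg23 yg24 zg4) (kg xg13 yg12 zg29) (kg xg14 yg10 zg36) (kg xg21 yg11 zg30) (kg xg30 yg30 zg14) (kg xg22 yg26 zg2) (kg xg20 yg44 zg47) (kg xg13 yg12 zg31) (kg xg30 yg26 zg4) (kg xg20 yg27 zg24) (kg xg14 yg40 zg44) (kg xg19 yg5 zg18) (kg xg22 yg19 zg3) (kg xg13 yg24 zg18) (kg xg20 yg23 zg49) (kg xg30 yg26 zg5) (kg xg13 yg12 zg38) (kg xg22 yg19 zg4) (kg xg13 yg12 zg41) (kg xg29 yg24 zg46) (kg xg23 yg24 zg7) (kg xg29 yg40 zg23) (kg xg30 yg8 zg15) (kg xg29 yg38 zg7) (kg xg13 yg12 zg43) (kg xg13 yg17 zg10) (kg xg30 yg30 zg30) (kg xg29 yg39 zg54) (kg xg13 yg12 zg46) (kg xg30 yg26 zg2) (kg xg14 yg13 zg10) (kg xg30 yg30 zg33) (kg xg13 yg12 zg50) (kg xg20 yg42 zg45) (kg xg20 yg39 zg55) (kg xg22 yg21 zg55) (kg xg13 yg12 zg52) (kg xg22 yg21 zg60)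 (kg xg22 yg15 zg58) (kg xg29 yg35 zg21) (kg xg13 yg34 zg41) (kg xg13 yg23 zg51) (kg xg29 yg36 zg37) (kg xg22 yg14 zg3) (kg xg22 yg49 zg11) (kg xg13 yg21 zg38) (kg xg13 yg37 zg30) (kg xg30 yg30 zg40) (kg xg30 yg30 zg42)) (@D3.rec (fun _ => Pt) (kg xg22 yg13 zg52) (kg xg13 yg12 zg61) (kg xg30 yg23 zg46) (kg xg23 yg2 zg21) (kg xg22 yg27 zg58) (kg xg13 yg13 zg3) (kg xg13 yg54 zg7) (kg xg21 yg45 zg23) (kg xg14 yg53 zg53) (kg xg15 yg45 zg7) (kg xg14 yg56 zg21) (kg xg23 yg35 zg28) (kg xg13 yg13 zg7) (kg xg24 yg34 zg46) (kg xg13 yg13 zg9) (kg xg22 yg21 zg13) (kg xg28 yg34 zg53) (kg xg24 yg30 zg24) (kg xg13 yg17 zg58) (kg xg24 yg0 zg53) (kg xg29 yg44 zg6) (kg xg14 yg14 zg54) (kg xg30 yg30 zg56) (kg xg29 yg44 zg4) (kg xg30 yg30 zg29) (kg xg29 yg44 zg9) (kg xg13 yg13 zg15) (kg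 xg29 yg34 zg7) (kg xg30 yg31 zg4) (kg xg30 yg30 zg52) (kg xg13 yg13 zg16) (kg xg29 yg21 zg22) (kg xg30 yg30 zg51) (kg xg14 yg17 zg5) (kg xg30 yg31 zg13) (kg xg30 yg25 zg60) (kg xg13 yg13 zg19) (kg xg24 yg30 zg2) (kg xg23 yg2 zg19) (kg xg24 yg30 zg17) (kg xg30 yg24 zg5) (kg xg30 yg30 zg9) (kg xg17 yg31 zg11) (kg xg23 yg2 zg20) (kg xg13 yg13 zg23) (kg xg26 yg24 zg36) (kg xg26 yg24 zg27) (kg xg22 yg50 zg35) (kg xg14 yg53 zg22) (kg xg14 yg12 zg58) (kg xg14 yg12 zg57) (kg xg30 yg31 zg34) (kg xg21 yg25 zg12) (kg xg17 yg38 zg9) (kg xg18 yg8 zg3) (kg xg18 yg8 zg4) (kg xg17 yg37 zg46) (kg xg17 yg42 zg44) (kg xg22 yg27 zg5) (kg xg14 yg21 zg27) (kg xg14 yg10 zg0) (kg xg23 yg16 zg58)) (@D3.rec (fun _ => Pt) (kg xg28 yg43 zg46) (kg xg22 yg45 zg52) (kg xg13 yg13 zg36) (kg xg22 yg45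 zg51) (kg xg22 yg24 zg45) (kg xg13 yg34 zg56) (kg xg13 yg13 zg40) (kg xg23 yg38 zg20) (kg xg14 yg9 zg29) (kg xg13 yg13 zg41) (kg xg14 yg9 zg28) (kg xg22 yg45 zg34) (kg xg14 yg9 zg5) (kg xg18 yg42 zg41) (kg xg14 yg9 zg23) (kg xg13 yg13 zg46) (kg xg14 yg9 zg22) (kg xg14 yg56 zg34) (kg xg13 yg55 zg11) (kg xg13 yg59 zg4) (kg xg24 yg58 zg56) (kg xg26 yg7 zg23) (kg xg24 yg43 zg50) (kg xg13 yg13 zg50) (kg xg23 yg19 zg32) (kg xg18 yg26 zg33) (kg xg13 yg13 zg51) (kg xg22 yg46 zg5) (kg xg23 yg20 zg57) (kg xg21 yg25 zg0) (kg xg13 yg13 zg52) (kg xg21 yg33 zg60) (kg xg23 yg44 zg40) (kg xg30 yg31 zg47) (kg xg30 yg31 zg48) (kg xg22 yg28 zg39) (kg xg14 yg43 zg4) (kg xg13 yg14 zg20) (kg xg27 yg20 zg7) (kg xg13 yg29 zg16) (kg xg13 yg41 zg20) (kg xg13 yg13 zg61) (kg xg13 yg29 zg47) (kg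 xg14 yg18 zg31) (kg xg22 yg29 zg23) (kg xg13 yg41 zg39) (kg xg13 yg14 zg5) (kg xg13 yg41 zg36) (kg xg23 yg6 zg42) (kg xg18 yg59 zg50) (kg xg13 yg14 zg8) (kg xg22 yg29 zg32) (kg xg22 yg29 zg21) (kg xg30 yg31 zg53) (kg xg18 yg16 zg9) (kg xg19 yg44 zg6) (kg xg22 yg29 zg28) (kg xg13 yg14 zg11) (kg xg22 yg29 zg27) (kg xg18 yg56 zg50) (kg xg18 yg57 zg5) (kg xg19 yg10 zg40)) (@D3.rec (fun _ => Pt) (kg xg22 yg28 zg37) (kg xg13 yg38 zg16) (kg xg21 yg13 zg44) (kg xg22 yg29 zg0) (kg xg21 yg29 zg60) (kg xg16 yg26 zg42) (kg xg22 yg3 zg11) (kg xg23 yg6 zg29) (kg xg13 yg30 zg30) (kg xg13 yg40 zg39) (kg xg13 yg31 zg1) (kg xg13 yg14 zg27) (kg xg26 yg13 zg11) (kg xg18 yg56 zg41) (kg xg18 yg50 zg12) (kg xg13 yg14 zg46) (kg xg13 yg14 zg30) (kg xg13 yg14 zg44) (kg xg13 yg27 zg52) (kg xg22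 yg28 zg52) (kg xg14 yg45 zg17) (kg xg13 yg14 zg37) (kg xg22 yg49 zg43) (kg xg16 yg35 zg47) (kg xg22 yg49 zg60) (kg xg14 yg58 zg58) (kg xg22 yg28 zg58) (kg xg13 yg14 zg36) (kg xg22 yg28 zg57) (kg xg13 yg30 zg52) (kg xg22 yg49 zg38) (kg xg19 yg0 zg15) (kg xg13 yg14 zg38) (kg xg28 yg36 zg43) (kg xg18 yg50 zg11) (kg xg26 yg4 zg15) (kg xg16 yg22 zg49) (kg xg27 yg57 zg44) (kg xg29 yg54 zg20) (kg xg23 yg15 zg60) (kg xg13 yg14 zg45) (kg xg23 yg18 zg39) (kg xg23 yg15 zg59) (kg xg13 yg31 zg36) (kg xg23 yg11 zg38) (kg xg30 yg32 zg11) (kg xg23 yg26 zg50) (kg xg22 yg13 zg22) (kg xg13 yg49 zg49) (kg xg22 yg50 zg33) (kg xg22 yg12 zg34) (kg xg24 yg6 zg61) (kg xg22 yg12 zg32) (kg xg30 yg32 zg19) (kg xg22 yg41 zg36) (kg xg22 yg41 zg39) (kg xg22 yg41 zg38) (kg xg30 yg32 zg24) (kg xg28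 yg43 zg29) (kg xg30 yg32 zg26) (kg xg30 yg30 zg37) (kg xg14 yg25 zg30)) (@D3.rec (fun _ => Pt) (kg xg30 yg23 zg36) (kg xg22 yg50 zg22) (kg xg30 yg32 zg32) (kg xg14 yg44 zg58) (kg xg22 yg30 zg35) (kg xg23 yg4 zg23) (kg xg22 yg30 zg28) (kg xg13 yg16 zg9) (kg xg29 yg30 zg0) (kg xg30 yg32 zg37) (kg xg13 yg15 zg9) (kg xg13 yg15 zg48) (kg xg22 yg15 zg47) (kg xg14 yg9 zg6) (kg xg13 yg26 zg25) (kg xg13 yg15 zg13) (kg xg14 yg11 zg23) (kg xg27 yg18 zg50) (kg xg30 yg14 zg29) (kg xg22 yg49 zg8) (kg xg14 yg15 zg44) (kg xg22 yg31 zg46) (kg xg13 yg15 zg23) (kg xg28 yg25 zg61) (kg xg23 yg32 zg33) (kg xg22 yg31 zg44) (kg xg13 yg15 zg45) (kg xg13 yg15 zg29) (kg xg22 yg30 zg4) (kg xg13 yg23 zg59) (kg xg22 yg15 zg48) (kg xg13 yg48 zg12) (kg xg13 yg15 zg39) (kg xg26 yg7 zg47) (kg xg18 yg49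 zg18) (kg xg22 yg30 zg6) (kg xg23 yg19 zg22) (kg xg14 yg0 zg29) (kg xg14 yg9 zg8) (kg xg14 yg48 zg7) (kg xg27 yg42 zg10) (kg xg23 yg46 zg17) (kg xg26 yg8 zg43) (kg xg30 yg32 zg48) (kg xg13 yg15 zg43) (kg xg27 yg42 zg11) (kg xg27 yg57 zg28) (kg xg22 yg46 zg13) (kg xg20 yg33 zg25) (kg xg13 yg15 zg46) (kg xg30 yg32 zg53) (kg xg21 yg13 zg35) (kg xg30 yg32 zg56) (kg xg27 yg55 zg52) (kg xg16 yg26 zg38) (kg xg27 yg57 zg29) (kg xg14 yg44 zg53) (kg xg14 yg44 zg55) (kg xg13 yg15 zg50) (kg xg23 yg11 zg57) (kg xg14 yg17 zg28) (kg xg13 yg17 zg61)) (@D3.rec (fun _ => Pt) (kg xg14 yg17 zg17) (kg xg14 yg17 zg14) (kg xg13 yg15 zg54) (kg xg30 yg33 zg3) (kg xg30 yg33 zg6) (kg xg14 yg17 zg11) (kg xg14 yg17 zg10) (kg xg18 yg6 zg16) (kg xg13 yg15 zg57) (kg xg25 yg37 zg56) (kg xg25 yg37 zg60)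 (kg xg21 yg21 zg55) (kg xg30 yg33 zg10) (kg xg17 yg30 zg46) (kg xg18 yg8 zg28) (kg xg27 yg56 zg51) (kg xg21 yg24 zg57) (kg xg21 yg25 zg20) (kg xg14 yg9 zg44) (kg xg30 yg33 zg14) (kg xg21 yg56 zg55) (kg xg13 yg16 zg2) (kg xg21 yg56 zg53) (kg xg13 yg16 zg15) (kg xg22 yg34 zg3) (kg xg30 yg33 zg20) (kg xg26 yg8 zg42) (kg xg30 yg33 zg21) (kg xg23 yg21 zg46) (kg xg30 yg33 zg27) (kg xg22 yg34 zg0) (kg xg23 yg31 zg57) (kg xg18 yg56 zg38) (kg xg23 yg21 zg41) (kg xg29 yg10 zg52) (kg xg21 yg49 zg22) (kg xg26 yg3 zg27) (kg xg30 yg33 zg28) (kg xg13 yg16 zg14) (kg xg25 yg15 zg59) (kg xg13 yg49 zg28) (kg xg23 yg32 zg6) (kg xg13 yg49 zg31) (kg xg22 yg30 zg25) (kg xg13 yg16 zg16) (kg xg21 yg57 zg6) (kg xg22 yg30 zg22) (kg xg23 yg15 zg40) (kg xg20 yg29 zg61) (kg xg21 yg56 zg49) (kg xg13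 yg16 zg19) (kg xg21 yg55 zg61) (kg xg14 yg8 zg13) (kg xg21 yg56 zg60) (kg xg13 yg16 zg20) (kg xg22 yg39 zg9) (kg xg21 yg56 zg58) (kg xg24 yg57 zg44) (kg xg23 yg52 zg24) (kg xg30 yg33 zg46) (kg xg30 yg33 zg52) (kg xg13 yg16 zg24)) (@D3.rec (fun _ => Pt) (kg xg20 yg11 zg60) (kg xg30 yg23 zg50) (kg xg30 yg33 zg56) (kg xg13 yg16 zg28) (kg xg30 yg23 zg20) (kg xg13 yg21 zg19) (kg xg13 yg18 zg58) (kg xg23 yg23 zg45) (kg xg20 yg34 zg10) (kg xg20 yg20 zg32) (kg xg20 yg19 zg0) (kg xg26 yg2 zg5) (kg xg30 yg11 zg32) (kg xg23 yg48 zg61) (kg xg13 yg16 zg45) (kg xg22 yg46 zg21) (kg xg20 yg31 zg61) (kg xg22 yg14 zg21) (kg xg28 yg39 zg33) (kg xg26 yg58 zg6) (kg xg19 yg51 zg8) (kg xg20 yg31 zg18) (kg xg13 yg22 zg14) (kg xg13 yg21 zg40) (kg xg13 yg19 zg46) (kg xg13 yg21 zg35) (kg xg13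 yg16 zg55) (kg xg20 yg6 zg34) (kg xg23 yg11 zg4) (kg xg13 yg16 zg56) (kg xg20 yg13 zg20) (kg xg15 yg45 zg55) (kg xg13 yg21 zg31) (kg xg13 yg16 zg58) (kg xg13 yg21 zg29) (kg xg13 yg57 zg21) (kg xg13 yg21 zg12) (kg xg13 yg21 zg7) (kg xg13 yg16 zg61) (kg xg30 yg34 zg4) (kg xg22 yg35 zg36) (kg xg13 yg21 zg51) (kg xg13 yg21 zg49) (kg xg24 yg28 zg10) (kg xg13 yg21 zg61) (kg xg13 yg17 zg4) (kg xg13 yg21 zg59) (kg xg28 yg18 zg14) (kg xg13 yg20 zg57) (kg xg13 yg17 zg6) (kg xg24 yg28 zg16) (kg xg13 yg56 zg14) (kg xg23 yg10 zg51) (kg xg14 yg17 zg42) (kg xg26 yg3 zg49) (kg xg13 yg23 zg3) (kg xg13 yg17 zg12) (kg xg28 yg51 zg5) (kg xg13 yg23 zg1) (kg xg14 yg12 zg37) (kg xg13 yg23 zg38) (kg xg14 yg21 zg52)) (@D3.rec (fun _ => Pt) (kg xg24 yg23 zg1) (kg xg24 yg29 zg11) (kg xg30 yg3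 zg23) (kg xg13 yg23 zg34) (kg xg13 yg17 zg18) (kg xg24 yg23 zg19) (kg xg14 yg15 zg0) (kg xg13 yg17 zg48) (kg xg13 yg17 zg27) (kg xg13 yg17 zg23) (kg xg30 yg34 zg19) (kg xg13 yg17 zg25) (kg xg30 yg31 zg29) (kg xg14 yg17 zg15) (kg xg22 yg50 zg37) (kg xg13 yg33 zg26) (kg xg30 yg34 zg20) (kg xg13 yg17 zg26) (kg xg30 yg21 zg54) (kg xg24 yg0 zg61) (kg xg30 yg34 zg30) (kg xg13 yg41 zg61) (kg xg30 yg34 zg34) (kg xg13 yg23 zg35) (kg xg30 yg34 zg35) (kg xg15 yg40 zg8) (kg xg22 yg32 zg1) (kg xg25 yg43 zg6) (kg xg21 yg49 zg45) (kg xg13 yg17 zg43) (kg xg18 yg57 zg50) (kg xg27 yg10 zg45) (kg xg14 yg14 zg0) (kg xg14 yg13 zg60) (kg xg29 yg26 zg17) (kg xg21 yg52 zg39) (kg xg24 yg8 zg10) (kg xg27 yg54 zg54) (kg xg18 yg23 zg15) (kg xg14 yg23 zg37) (kg xg30 yg34 zg42) (kg xg22 yg12 zg46)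 (kg xg24 yg4 zg45) (kg xg13 yg18 zg1) (kg xg30 yg34 zg48) (kg xg29 yg21 zg18) (kg xg13 yg17 zg59) (kg xg14 yg17 zg22) (kg xg13 yg17 zg60) (kg xg13 yg45 zg31) (kg xg14 yg17 zg13) (kg xg28 yg22 zg41) (kg xg29 yg19 zg53) (kg xg14 yg17 zg26) (kg xg14 yg12 zg46) (kg xg28 yg9 zg9) (kg xg29 yg20 zg0) (kg xg14 yg17 zg34) (kg xg13 yg18 zg2) (kg xg14 yg17 zg32) (kg xg23 yg17 zg46) (kg xg14 yg28 zg23)) (@D3.rec (fun _ => Pt) (kg xg23 yg14 zg25) (kg xg14 yg28 zg20) (kg xg22 yg31 zg24) (kg xg13 yg18 zg7) (kg xg23 yg20 zg39) (kg xg13 yg47 zg39) (kg xg30 yg35 zg1) (kg xg13 yg24 zg16) (kg xg13 yg18 zg10) (kg xg22 yg14 zg12) (kg xg13 yg33 zg58) (kg xg13 yg18 zg13) (kg xg30 yg35 zg7) (kg xg13 yg18 zg16) (kg xg22 yg29 zg36) (kg xg27 yg21 zg7) (kg xg27 yg9 zg8) (kg xg22 yg18 zg36) (kg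 xg29 yg7 zg59) (kg xg19 yg41 zg44) (kg xg19 yg1 zg17) (kg xg26 yg29 zg47) (kg xg22 yg18 zg32) (kg xg29 yg14 zg40) (kg xg18 yg47 zg51) (kg xg16 yg35 zg14) (kg xg29 yg29 zg57) (kg xg27 yg9 zg14) (kg xg27 yg21 zg14) (kg xg13 yg18 zg31) (kg xg17 yg30 zg30) (kg xg19 yg41 zg0) (kg xg24 yg18 zg17) (kg xg22 yg18 zg5) (kg xg19 yg5 zg12) (kg xg27 yg32 zg39) (kg xg18 yg48 zg4) (kg xg24 yg45 zg39) (kg xg21 yg59 zg27) (kg xg27 yg33 zg57) (kg xg30 yg35 zg20) (kg xg30 yg23 zg30) (kg xg23 yg52 zg10) (kg xg14 yg14 zg47) (kg xg13 yg18 zg41) (kg xg14 yg14 zg46) (kg xg13 yg18 zg51) (kg xg14 yg14 zg38) (kg xg24 yg5 zg45) (kg xg14 yg14 zg35) (kg xg13 yg18 zg44) (kg xg25 yg33 zg61) (kg xg30 yg35 zg28) (kg xg28 yg18 zg44) (kg xg13 yg18 zg45) (kg xg30 yg35 zg31) (kg xg23 yg34 zg18) (kg xg14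 yg14 zg60) (kg xg13 yg18 zg47) (kg xg14 yg14 zg58) (kg xg29 yg20 zg36) (kg xg30 yg35 zg39)) (@D3.rec (fun _ => Pt) (kg xg27 yg45 zg32) (kg xg27 yg47 zg10) (kg xg14 yg15 zg9) (kg xg13 yg18 zg50) (kg xg24 yg2 zg6) (kg xg14 yg15 zg7) (kg xg14 yg12 zg27) (kg xg27 yg32 zg60) (kg xg19 yg21 zg52) (kg xg30 yg35 zg52) (kg xg26 yg13 zg18) (kg xg30 yg23 zg26) (kg xg18 yg28 zg13) (kg xg28 yg47 zg7) (kg xg23 yg52 zg4) (kg xg30 yg25 zg32) (kg xg22 yg15 zg39) (kg xg23 yg51 zg27) (kg xg14 yg1 zg32) (kg xg13 yg18 zg60) (kg xg14 yg1 zg30) (kg xg21 yg29 zg36) (kg xg23 yg41 zg55) (kg xg22 yg15 zg60) (kg xg14 yg29 zg40) (kg xg24 yg24 zg45) (kg xg30 yg35 zg57) (kg xg24 yg9 zg56) (kg xg29 yg19 zg37) (kg xg27 yg12 zg51) (kg xg13 yg21 zg5) (kg xg30 yg36 zg1) (kg xg19 yg7 zg16) (kg xg23 yg11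 zg45) (kg xg13 yg19 zg11) (kg xg29 yg51 zg29) (kg xg22 yg38 zg44) (kg xg23 yg20 zg1) (kg xg14 yg38 zg1) (kg xg21 yg53 zg25) (kg xg14 yg36 zg32) (kg xg21 yg53 zg23) (kg xg13 yg19 zg15) (kg xg30 yg24 zg1) (kg xg17 yg11 zg52) (kg xg29 yg9 zg54) (kg xg30 yg36 zg8) (kg xg23 yg12 zg26) (kg xg30 yg36 zg11) (kg xg30 yg36 zg9) (kg xg23 yg12 zg43) (kg xg13 yg35 zg47) (kg xg27 yg10 zg7) (kg xg30 yg36 zg16) (kg xg23 yg28 zg49) (kg xg30 yg36 zg15) (kg xg13 yg36 zg9) (kg xg13 yg19 zg25) (kg xg22 yg50 zg5) (kg xg13 yg19 zg26) (kg xg30 yg11 zg0) (kg xg22 yg57 zg32)) (@D3.rec (fun _ => Pt) (kg xg13 yg45 zg33) (kg xg14 yg29 zg58) (kg xg13 yg36 zg16) (kg xg23 yg11 zg25) (kg xg30 yg32 zg20) (kg xg23 yg11 zg1) (kg xg13 yg19 zg35) (kg xg22 yg26 zg60) (kg xg13 yg22 zg29) (kg xg13 yg19 zg50)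 (kg xg19 yg51 zg41) (kg xg23 yg14 zg46) (kg xg27 yg51 zg17) (kg xg20 yg38 zg2) (kg xg28 yg46 zg40) (kg xg22 yg12 zg44) (kg xg18 yg15 zg20) (kg xg13 yg19 zg54) (kg xg13 yg19 zg51) (kg xg30 yg36 zg33) (kg xg14 yg20 zg6) (kg xg14 yg35 zg17) (kg xg23 yg52 zg20) (kg xg22 yg40 zg2) (kg xg30 yg36 zg34) (kg xg13 yg20 zg0) (kg xg18 yg7 zg49) (kg xg17 yg44 zg36) (kg xg13 yg20 zg4) (kg xg13 yg20 zg12) (kg xg23 yg12 zg0) (kg xg14 yg17 zg12) (kg xg22 yg59 zg29) (kg xg14 yg28 zg24) (kg xg13 yg50 zg19) (kg xg13 yg49 zg54) (kg xg13 yg50 zg1) (kg xg18 yg54 zg47) (kg xg13 yg20 zg8) (kg xg22 yg33 zg51) (kg xg30 yg36 zg46) (kg xg25 yg51 zg51) (kg xg22 yg42 zg27) (kg xg21 yg51 zg38) (kg xg22 yg42 zg29) (kg xg17 yg24 zg32) (kg xg21 yg51 zg39) (kg xg22 yg13 zg3) (kg xg25 yg51 zg50) (kg xg13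 yg20 zg18) (kg xg16 yg54 zg36) (kg xg29 yg39 zg13) (kg xg13 yg20 zg21) (kg xg29 yg9 zg3) (kg xg25 yg51 zg52) (kg xg13 yg20 zg25) (kg xg21 yg51 zg35) (kg xg13 yg20 zg30) (kg xg18 yg45 zg47) (kg xg24 yg16 zg38) (kg xg13 yg20 zg33) (kg xg17 yg23 zg52)) (@D3.rec (fun _ => Pt) (kg xg24 yg36 zg36) (kg xg13 yg20 zg35) (kg xg21 yg26 zg38) (kg xg22 yg3 zg37) (kg xg21 yg49 zg61) (kg xg13 yg20 zg42) (kg xg14 yg11 zg19) (kg xg16 yg54 zg27) (kg xg13 yg20 zg43) (kg xg14 yg38 zg49) (kg xg15 yg30 zg27) (kg xg17 yg32 zg17) (kg xg14 yg16 zg54) (kg xg14 yg23 zg55) (kg xg23 yg0 zg14) (kg xg30 yg36 zg23) (kg xg13 yg21 zg23) (kg xg23 yg27 zg27) (kg xg13 yg20 zg53) (kg xg21 yg14 zg0) (kg xg13 yg20 zg54) (kg xg20 yg44 zg21) (kg xg23 yg29 zg42) (kg xg13 yg22 zg4) (kg xg30 yg32 zg27) (kg xg24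 yg2 zg10) (kg xg21 yg38 zg32) (kg xg21 yg39 zg60) (kg xg24 yg54 zg39) (kg xg30 yg36 zg60) (kg xg30 yg36 zg58) (kg xg24 yg40 zg43) (kg xg17 yg11 zg5) (kg xg23 yg48 zg32) (kg xg30 yg37 zg3) (kg xg14 yg23 zg41) (kg xg14 yg39 zg39) (kg xg24 yg11 zg6) (kg xg13 yg21 zg4) (kg xg24 yg11 zg7) (kg xg28 yg43 zg17) (kg xg29 yg55 zg11) (kg xg24 yg47 zg36) (kg xg29 yg9 zg11) (kg xg13 yg26 zg56) (kg xg13 yg21 zg8) (kg xg14 yg18 zg59) (kg xg13 yg21 zg16) (kg xg13 yg21 zg9) (kg xg30 yg37 zg7) (kg xg21 yg49 zg26) (kg xg13 yg21 zg10) (kg xg22 yg56 zg58) (kg xg30 yg12 zg19) (kg xg30 yg34 zg3) (kg xg13 yg21 zg13) (kg xg16 yg31 zg45) (kg xg13 yg26 zg50) (kg xg23 yg29 zg8) (kg xg30 yg7 zg14) (kg xg14 yg15 zg36) (kg xg13 yg21 zg17)) (@D3.rec (fun _ => Pt) (kg xg20 yg20 zg57) (kg xg20 yg20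 zg0) (kg xg14 yg40 zg1) (kg xg30 yg37 zg15) (kg xg24 yg28 zg0) (kg xg13 yg21 zg21) (kg xg24 yg27 zg61) (kg xg17 yg56 zg19) (kg xg30 yg37 zg19) (kg xg26 yg2 zg30) (kg xg13 yg54 zg0) (kg xg23 yg3 zg29) (kg xg17 yg56 zg2) (kg xg13 yg21 zg27) (kg xg23 yg27 zg43) (kg xg22 yg40 zg48) (kg xg29 yg39 zg19) (kg xg30 yg34 zg9) (kg xg21 yg52 zg33) (kg xg13 yg22 zg61) (kg xg29 yg39 zg7) (kg xg14 yg41 zg0) (kg xg13 yg21 zg30) (kg xg19 yg28 zg57) (kg xg14 yg40 zg61) (kg xg24 yg36 zg27) (kg xg22 yg14 zg6) (kg xg30 yg5 zg31) (kg xg21 yg52 zg3) (kg xg14 yg18 zg40) (kg xg14 yg13 zg18) (kg xg30 yg37 zg29) (kg xg28 yg36 zg8) (kg xg30 yg37 zg18) (kg xg30 yg33 zg60) (kg xg13 yg21 zg41) (kg xg27 yg40 zg27) (kg xg21 yg0 zg54) (kg xg20 yg19 zg13) (kg xg13 yg21 zg45) (kg xg24 yg12 zg23) (kg xg13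 yg21 zg46) (kg xg22 yg35 zg34) (kg xg21 yg55 zg55) (kg xg13 yg54 zg3) (kg xg25 yg51 zg32) (kg xg24 yg11 zg12) (kg xg23 yg10 zg61) (kg xg13 yg21 zg50) (kg xg23 yg10 zg60) (kg xg24 yg22 zg4) (kg xg22 yg46 zg32) (kg xg16 yg32 zg3) (kg xg13 yg21 zg54) (kg xg22 yg54 zg42) (kg xg13 yg50 zg34) (kg xg19 yg17 zg46) (kg xg17 yg23 zg4) (kg xg15 yg50 zg59) (kg xg25 yg39 zg51) (kg xg13 yg21 zg57) (kg xg24 yg28 zg12)) (@D3.rec (fun _ => Pt) (kg xg19 yg51 zg3) (kg xg26 yg2 zg55) (kg xg13 yg22 zg5) (kg xg23 yg0 zg42) (kg xg23 yg50 zg6) (kg xg23 yg33 zg55) (kg xg25 yg52 zg5) (kg xg19 yg51 zg10) (kg xg13 yg22 zg6) (kg xg30 yg13 zg61) (kg xg30 yg3 zg12) (kg xg30 yg1 zg59) (kg xg14 yg21 zg42) (kg xg14 yg37 zg48) (kg xg13 yg22 zg11) (kg xg14 yg40 zg17) (kg xg14 yg21 zg37) (kg xg16 yg24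 zg34) (kg xg30 yg37 zg41) (kg xg29 yg20 zg14) (kg xg30 yg37 zg42) (kg xg30 yg36 zg53) (kg xg13 yg22 zg15) (kg xg30 yg37 zg51) (kg xg28 yg44 zg4) (kg xg24 yg23 zg28) (kg xg13 yg22 zg17) (kg xg30 yg37 zg58) (kg xg22 yg12 zg30) (kg xg13 yg23 zg53) (kg xg30 yg37 zg46) (kg xg13 yg22 zg20) (kg xg14 yg39 zg46) (kg xg13 yg22 zg21) (kg xg14 yg39 zg44) (kg xg29 yg24 zg42) (kg xg13 yg22 zg22) (kg xg27 yg13 zg25) (kg xg30 yg38 zg6) (kg xg27 yg8 zg19) (kg xg30 yg38 zg9) (kg xg30 yg32 zg25) (kg xg13 yg22 zg25) (kg xg24 yg13 zg38) (kg xg14 yg36 zg53) (kg xg30 yg38 zg16) (kg xg29 yg36 zg56) (kg xg30 yg23 zg41) (kg xg22 yg59 zg27) (kg xg13 yg22 zg28) (kg xg22 yg59 zg25) (kg xg26 yg49 zg25) (kg xg30 yg38 zg23) (kg xg18 yg47 zg50) (kg xg30 yg8 zg3) (kg xg13 yg22 zg31) (kg xg24 yg24 zg55)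 (kg xg18 yg47 zg1) (kg xg30 yg35 zg56) (kg xg30 yg38 zg32) (kg xg30 yg23 zg43) (kg xg30 yg37 zg55)) (@D3.rec (fun _ => Pt) (kg xg13 yg22 zg34) (kg xg30 yg37 zg54) (kg xg14 yg15 zg38) (kg xg15 yg36 zg15) (kg xg14 yg6 zg59) (kg xg22 yg13 zg48) (kg xg22 yg13 zg33) (kg xg13 yg22 zg37) (kg xg24 yg1 zg51) (kg xg30 yg38 zg45) (kg xg24 yg38 zg45) (kg xg30 yg28 zg48) (kg xg14 yg56 zg52) (kg xg22 yg13 zg31) (kg xg13 yg22 zg40) (kg xg22 yg13 zg30) (kg xg22 yg25 zg22) (kg xg13 yg22 zg56) (kg xg14 yg12 zg41) (kg xg14 yg12 zg28) (kg xg13 yg22 zg46) (kg xg18 yg25 zg4) (kg xg26 yg4 zg5) (kg xg15 yg43 zg43) (kg xg14 yg29 zg9) (kg xg14 yg29 zg7) (kg xg24 yg27 zg59) (kg xg22 yg16 zg13) (kg xg18 yg44 zg53) (kg xg22 yg32 zg12) (kg xg30 yg34 zg12) (kg xg22 yg32 zg13) (kg xg14 yg12 zg38)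 (kg xg21 yg20 zg43) (kg xg29 yg19 zg56) (kg xg30 yg4 zg10) (kg xg30 yg38 zg54) (kg xg24 yg28 zg6) (kg xg24 yg28 zg5) (kg xg30 yg34 zg15) (kg xg13 yg22 zg60) (kg xg24 yg29 zg13) (kg xg30 yg37 zg17) (kg xg30 yg2 zg57) (kg xg27 yg5 zg20) (kg xg21 yg52 zg13) (kg xg21 yg52 zg53) (kg xg27 yg20 zg18) (kg xg22 yg32 zg31) (kg xg30 yg39 zg1) (kg xg28 yg2 zg43) (kg xg24 yg25 zg34) (kg xg13 yg23 zg2) (kg xg29 yg38 zg10) (kg xg30 yg34 zg13) (kg xg13 yg57 zg20) (kg xg30 yg16 zg25) (kg xg30 yg39 zg8) (kg xg13 yg24 zg32) (kg xg23 yg56 zg54) (kg xg13 yg23 zg8) (kg xg13 yg23 zg9)) (@D3.rec (fun _ => Pt) (kg xg14 yg17 zg21) (kg xg13 yg33 zg28) (kg xg30 yg39 zg10) (kg xg14 yg18 zg6) (kg xg30 yg34 zg14) (kg xg13 yg23 zg14) (kg xg14 yg27 zg0) (kg xg24 yg23 zg3) (kg xg13 yg39 zg11) (kg xg22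 yg37 zg52) (kg xg14 yg28 zg19) (kg xg13 yg23 zg20) (kg xg23 yg18 zg37) (kg xg13 yg23 zg22) (kg xg14 yg15 zg45) (kg xg22 yg56 zg57) (kg xg22 yg16 zg61) (kg xg13 yg47 zg58) (kg xg15 yg3 zg45) (kg xg23 yg40 zg38) (kg xg20 yg46 zg7) (kg xg23 yg20 zg23) (kg xg13 yg47 zg8) (kg xg13 yg30 zg26) (kg xg30 yg39 zg15) (kg xg30 yg39 zg17) (kg xg30 yg34 zg16) (kg xg13 yg23 zg41) (kg xg24 yg23 zg21) (kg xg14 yg28 zg15) (kg xg13 yg51 zg60) (kg xg14 yg13 zg21) (kg xg13 yg23 zg44) (kg xg30 yg38 zg41) (kg xg30 yg39 zg23) (kg xg30 yg34 zg18) (kg xg22 yg29 zg56) (kg xg30 yg39 zg28) (kg xg22 yg29 zg54) (kg xg22 yg35 zg24) (kg xg24 yg10 zg51) (kg xg13 yg23 zg48) (kg xg24 yg27 zg50) (kg xg13 yg23 zg49) (kg xg22 yg49 zg44) (kg xg13 yg29 zg15) (kg xg23 yg6 zg28) (kg xg14 yg16 zg3) (kg xg30 yg39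 zg38) (kg xg30 yg39 zg41) (kg xg14 yg26 zg2) (kg xg30 yg39 zg45) (kg xg30 yg38 zg12) (kg xg30 yg32 zg33) (kg xg13 yg23 zg54) (kg xg28 yg50 zg49) (kg xg24 yg7 zg43) (kg xg13 yg46 zg35) (kg xg17 yg54 zg44) (kg xg13 yg52 zg11) (kg xg13 yg23 zg61) (kg xg13 yg52 zg9)) (@D3.rec (fun _ => Pt) (kg xg22 yg58 zg55) (kg xg13 yg51 zg0) (kg xg22 yg14 zg56) (kg xg13 yg24 zg6) (kg xg14 yg10 zg47) (kg xg13 yg51 zg12) (kg xg13 yg24 zg8) (kg xg13 yg32 zg10) (kg xg13 yg51 zg3) (kg xg20 yg32 zg33) (kg xg26 yg7 zg19) (kg xg13 yg51 zg23) (kg xg13 yg24 zg7) (kg xg13 yg51 zg22) (kg xg13 yg51 zg15) (kg xg23 yg44 zg13) (kg xg25 yg1 zg54) (kg xg13 yg51 zg10) (kg xg13 yg24 zg9) (kg xg13 yg51 zg9) (kg xg26 yg25 zg11) (kg xg30 yg39 zg58) (kg xg23 yg33 zg8) (kg xg28 yg24 zg61) (kg xg29 yg35 zg4)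 (kg xg13 yg24 zg17) (kg xg29 yg54 zg27) (kg xg22 yg36 zg44) (kg xg29 yg20 zg3) (kg xg22 yg36 zg42) (kg xg20 yg46 zg10) (kg xg13 yg24 zg21) (kg xg23 yg46 zg4) (kg xg22 yg42 zg43) (kg xg13 yg24 zg23) (kg xg21 yg14 zg31) (kg xg13 yg52 zg53) (kg xg21 yg52 zg9) (kg xg14 yg24 zg40) (kg xg17 yg33 zg40) (kg xg16 yg52 zg41) (kg xg13 yg47 zg18) (kg xg21 yg12 zg18) (kg xg22 yg42 zg24) (kg xg23 yg48 zg31) (kg xg22 yg46 zg45) (kg xg22 yg46 zg44) (kg xg13 yg27 zg5) (kg xg16 yg26 zg16) (kg xg14 yg59 zg60) (kg xg23 yg38 zg34) (kg xg30 yg40 zg4) (kg xg29 yg58 zg44) (kg xg22 yg44 zg12) (kg xg13 yg24 zg38) (kg xg22 yg44 zg11) (kg xg14 yg5 zg19) (kg xg13 yg58 zg8) (kg xg13 yg56 zg60) (kg xg13 yg24 zg40) (kg xg30 yg40 zg17) (kg xg28 yg47 zg6)) (@D3.rec (fun _ => Pt) (kg xg21 yg48 zg55)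 (kg xg13 yg24 zg61) (kg xg13 yg25 zg7) (kg xg22 yg44 zg45) (kg xg13 yg24 zg56) (kg xg13 yg25 zg8) (kg xg13 yg57 zg26) (kg xg13 yg57 zg10) (kg xg13 yg24 zg49) (kg xg23 yg28 zg33) (kg xg30 yg40 zg27) (kg xg29 yg55 zg21) (kg xg29 yg58 zg23) (kg xg22 yg44 zg38) (kg xg13 yg24 zg51) (kg xg22 yg44 zg37) (kg xg23 yg40 zg47) (kg xg14 yg5 zg43) (kg xg30 yg40 zg37) (kg xg13 yg57 zg55) (kg xg14 yg5 zg39) (kg xg23 yg41 zg27) (kg xg13 yg56 zg61) (kg xg13 yg24 zg54) (kg xg29 yg56 zg55) (kg xg23 yg39 zg51) (kg xg13 yg24 zg55) (kg xg23 yg39 zg50) (kg xg13 yg57 zg23) (kg xg28 yg49 zg42) (kg xg27 yg26 zg58) (kg xg30 yg4 zg49) (kg xg22 yg44 zg55) (kg xg13 yg24 zg58) (kg xg22 yg44 zg54) (kg xg22 yg44 zg28) (kg xg30 yg40 zg57) (kg xg30 yg40 zg59) (kg xg22 yg44 zg49) (kg xg30 yg40 zg61) (kg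 xg30 yg40 zg51) (kg xg29 yg49 zg49) (kg xg22 yg44 zg61) (kg xg13 yg25 zg2) (kg xg22 yg44 zg60) (kg xg16 yg4 zg14) (kg xg14 yg0 zg0) (kg xg24 yg30 zg44) (kg xg23 yg1 zg56) (kg xg26 yg1 zg21) (kg xg21 yg19 zg10) (kg xg23 yg26 zg60) (kg xg30 yg40 zg53) (kg xg23 yg43 zg50) (kg xg13 yg25 zg9) (kg xg13 yg25 zg10) (kg xg22 yg45 zg14) (kg xg14 yg1 zg61) (kg xg22 yg45 zg17) (kg xg17 yg16 zg15) (kg xg13 yg25 zg14) (kg xg23 yg24 zg32)) (@D3.rec (fun _ => Pt) (kg xg22 yg42 zg35) (kg xg22 yg42 zg34) (kg xg23 yg6 zg14) (kg xg23 yg28 zg5) (kg xg14 yg5 zg48) (kg xg14 yg6 zg4) (kg xg30 yg41 zg12) (kg xg30 yg41 zg14) (kg xg29 yg49 zg47) (kg xg24 yg37 zg26) (kg xg22 yg42 zg55) (kg xg13 yg25 zg22) (kg xg22 yg42 zg54) (kg xg14 yg6 zg58) (kg xg13 yg55 zg26) (kg xg14 yg7 zg37) (kg xg14 yg5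 zg56) (kg xg13 yg25 zg24) (kg xg30 yg41 zg29) (kg xg30 yg41 zg33) (kg xg13 yg36 zg47) (kg xg24 yg43 zg40) (kg xg13 yg25 zg51) (kg xg13 yg25 zg27) (kg xg13 yg25 zg49) (kg xg13 yg25 zg28) (kg xg22 yg43 zg35) (kg xg23 yg13 zg24) (kg xg13 yg25 zg40) (kg xg14 yg7 zg29) (kg xg14 yg7 zg22) (kg xg13 yg25 zg32) (kg xg23 yg38 zg37) (kg xg30 yg41 zg46) (kg xg30 yg41 zg11) (kg xg24 yg38 zg25) (kg xg22 yg43 zg15) (kg xg13 yg25 zg34) (kg xg22 yg43 zg14) (kg xg27 yg42 zg34) (kg xg14 yg5 zg53) (kg xg30 yg41 zg56) (kg xg23 yg28 zg48) (kg xg13 yg25 zg36) (kg xg23 yg28 zg47) (kg xg22 yg43 zg4) (kg xg30 yg41 zg61) (kg xg19 yg54 zg45) (kg xg21 yg34 zg37) (kg xg22 yg43 zg1) (kg xg14 yg7 zg26) (kg xg23 yg38 zg32) (kg xg30 yg42 zg4) (kg xg22 yg43 zg34) (kg xg13 yg25 zg42) (kg xg22 yg43 zg33)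 (kg xg30 yg42 zg11) (kg xg28 yg11 zg61) (kg xg30 yg42 zg7) (kg xg22 yg43 zg44) (kg xg13 yg25 zg45) (kg xg22 yg43 zg43)) (@D3.rec (fun _ => Pt) (kg xg15 yg43 zg57) (kg xg13 yg25 zg47) (kg xg28 yg31 zg19) (kg xg14 yg6 zg15) (kg xg17 yg59 zg22) (kg xg30 yg42 zg10) (kg xg30 yg41 zg40) (kg xg14 yg6 zg12) (kg xg18 yg1 zg9) (kg xg14 yg8 zg52) (kg xg14 yg8 zg58) (kg xg13 yg25 zg53) (kg xg14 yg7 zg27) (kg xg22 yg43 zg56) (kg xg13 yg25 zg56) (kg xg22 yg43 zg55) (kg xg22 yg43 zg58) (kg xg13 yg25 zg58) (kg xg21 yg55 zg26) (kg xg13 yg25 zg59) (kg xg14 yg9 zg11) (kg xg24 yg32 zg41) (kg xg13 yg25 zg61) (kg xg21 yg55 zg46) (kg xg14 yg9 zg45) (kg xg18 yg40 zg4) (kg xg13 yg55 zg15) (kg xg30 yg42 zg24) (kg xg30 yg17 zg38) (kg xg22 yg12 zg17) (kg xg13 yg26 zg6) (kg xg22 yg12 zg16) (kg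 xg21 yg57 zg4) (kg xg24 yg34 zg27) (kg xg21 yg55 zg18) (kg xg22 yg45 zg46) (kg xg30 yg42 zg29) (kg xg27 yg22 zg14) (kg xg13 yg26 zg31) (kg xg13 yg26 zg10) (kg xg13 yg26 zg30) (kg xg13 yg54 zg40) (kg xg14 yg9 zg47) (kg xg13 yg26 zg13) (kg xg19 yg14 zg48) (kg xg14 yg53 zg19) (kg xg22 yg45 zg33) (kg xg22 yg12 zg13) (kg xg27 yg56 zg58) (kg xg16 yg49 zg61) (kg xg22 yg28 zg3) (kg xg13 yg26 zg19) (kg xg22 yg28 zg2) (kg xg22 yg49 zg1) (kg xg14 yg8 zg51) (kg xg14 yg53 zg23) (kg xg13 yg34 zg54) (kg xg13 yg26 zg23) (kg xg14 yg8 zg54) (kg xg23 yg2 zg32) (kg xg14 yg9 zg16) (kg xg13 yg26 zg24)) (@D3.rec (fun _ => Pt) (kg xg14 yg9 zg15) (kg xg14 yg9 zg3) (kg xg13 yg26 zg26) (kg xg14 yg9 zg1) (kg xg22 yg28 zg27) (kg xg13 yg26 zg27) (kg xg25 yg37 zg0) (kg xg18 yg37 zg60) (kg xg30 yg42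 zg41) (kg xg30 yg2 zg14) (kg xg18 yg29 zg50) (kg xg26 yg14 zg53) (kg xg22 yg14 zg42) (kg xg13 yg26 zg36) (kg xg28 yg0 zg27) (kg xg13 yg26 zg42) (kg xg24 yg5 zg9) (kg xg21 yg14 zg10) (kg xg23 yg4 zg8) (kg xg23 yg4 zg6) (kg xg30 yg42 zg49) (kg xg22 yg32 zg19) (kg xg22 yg25 zg23) (kg xg24 yg11 zg5) (kg xg16 yg26 zg21) (kg xg13 yg26 zg51) (kg xg23 yg4 zg3) (kg xg13 yg26 zg54) (kg xg27 yg11 zg56) (kg xg27 yg41 zg37) (kg xg20 yg11 zg52) (kg xg20 yg9 zg33) (kg xg22 yg38 zg58) (kg xg23 yg4 zg15) (kg xg17 yg31 zg10) (kg xg30 yg42 zg51) (kg xg30 yg28 zg42) (kg xg13 yg38 zg18) (kg xg13 yg27 zg47) (kg xg13 yg27 zg8) (kg xg13 yg27 zg9) (kg xg16 yg56 zg44) (kg xg24 yg2 zg13) (kg xg22 yg42 zg46) (kg xg13 yg27 zg11) (kg xg21 yg7 zg59) (kg xg14 yg10 zg22) (kg xg14 yg37 zg61) (kg xg14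 yg22 zg47) (kg xg30 yg8 zg16) (kg xg30 yg39 zg0) (kg xg30 yg26 zg1) (kg xg14 yg44 zg20) (kg xg13 yg27 zg16) (kg xg14 yg44 zg19) (kg xg22 yg47 zg0) (kg xg22 yg30 zg19) (kg xg13 yg46 zg17) (kg xg22 yg22 zg36) (kg xg22 yg50 zg36) (kg xg13 yg37 zg29) (kg xg22 yg14 zg43)) (@D3.rec (fun _ => Pt) (kg xg22 yg46 zg57) (kg xg18 yg52 zg13) (kg xg18 yg55 zg50) (kg xg22 yg49 zg4) (kg xg18 yg55 zg53) (kg xg26 yg56 zg30) (kg xg30 yg42 zg60) (kg xg22 yg27 zg31) (kg xg30 yg42 zg61) (kg xg18 yg55 zg51) (kg xg30 yg43 zg4) (kg xg17 yg8 zg11) (kg xg18 yg41 zg32) (kg xg13 yg27 zg40) (kg xg28 yg9 zg43) (kg xg13 yg27 zg42) (kg xg14 yg18 zg5) (kg xg16 yg56 zg49) (kg xg20 yg14 zg6) (kg xg14 yg33 zg44) (kg xg27 yg46 zg21) (kg xg22 yg52 zg12) (kg xg13 yg27 zg59) (kg xg15 yg8 zg1) (kg xg16 yg31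 zg13) (kg xg14 yg31 zg12) (kg xg30 yg27 zg31) (kg xg13 yg28 zg3) (kg xg27 yg41 zg36) (kg xg20 yg30 zg23) (kg xg21 yg13 zg54) (kg xg22 yg55 zg38) (kg xg16 yg24 zg6) (kg xg29 yg5 zg42) (kg xg22 yg22 zg46) (kg xg23 yg9 zg5) (kg xg16 yg30 zg9) (kg xg28 yg19 zg57) (kg xg13 yg35 zg39) (kg xg13 yg28 zg8) (kg xg25 yg26 zg47) (kg xg16 yg25 zg19) (kg xg16 yg25 zg56) (kg xg24 yg9 zg21) (kg xg16 yg28 zg43) (kg xg30 yg18 zg48) (kg xg13 yg31 zg31) (kg xg13 yg31 zg30) (kg xg13 yg32 zg52) (kg xg13 yg28 zg15) (kg xg26 yg25 zg17) (kg xg22 yg56 zg2) (kg xg13 yg31 zg58) (kg xg13 yg28 zg17) (kg xg13 yg31 zg56) (kg xg13 yg28 zg27) (kg xg13 yg31 zg39) (kg xg13 yg31 zg35) (kg xg13 yg28 zg20) (kg xg30 yg43 zg23) (kg xg16 yg32 zg8) (kg xg24 yg14 zg8)) (@D3.rec (fun _ => Pt) (kg xg22 yg56 zg52)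 (kg xg13 yg32 zg16) (kg xg13 yg32 zg15) (kg xg29 yg50 zg26) (kg xg13 yg32 zg27) (kg xg13 yg28 zg26) (kg xg13 yg32 zg26) (kg xg13 yg30 zg22) (kg xg14 yg25 zg41) (kg xg29 yg28 zg50) (kg xg27 yg42 zg7) (kg xg24 yg9 zg37) (kg xg13 yg32 zg37) (kg xg13 yg28 zg29) (kg xg13 yg32 zg36) (kg xg24 yg8 zg45) (kg xg30 yg43 zg26) (kg xg24 yg8 zg50) (kg xg15 yg31 zg9) (kg xg30 yg43 zg33) (kg xg13 yg31 zg32) (kg xg13 yg28 zg34) (kg xg30 yg43 zg36) (kg xg14 yg28 zg28) (kg xg13 yg33 zg44) (kg xg15 yg39 zg58) (kg xg30 yg43 zg19) (kg xg13 yg33 zg23) (kg xg13 yg28 zg40) (kg xg13 yg33 zg21) (kg xg13 yg33 zg4) (kg xg13 yg28 zg41) (kg xg23 yg8 zg38) (kg xg24 yg8 zg51) (kg xg23 yg27 zg39) (kg xg13 yg33 zg55) (kg xg13 yg36 zg43) (kg xg13 yg28 zg45) (kg xg30 yg43 zg50) (kg xg29 yg1 zg13) (kg xg13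 yg33 zg50) (kg xg15 yg39 zg28) (kg xg13 yg34 zg14) (kg xg13 yg28 zg47) (kg xg13 yg34 zg13) (kg xg13 yg29 zg0) (kg xg13 yg35 zg22) (kg xg13 yg35 zg19) (kg xg13 yg28 zg51) (kg xg22 yg16 zg28) (kg xg28 yg24 zg50) (kg xg13 yg35 zg10) (kg xg13 yg28 zg52) (kg xg13 yg35 zg8) (kg xg21 yg57 zg7) (kg xg22 yg45 zg53) (kg xg13 yg35 zg2) (kg xg14 yg29 zg41) (kg xg22 yg16 zg58) (kg xg30 yg6 zg1) (kg xg14 yg28 zg47) (kg xg13 yg28 zg58)) (@D3.rec (fun _ => Pt) (kg xg13 yg35 zg30) (kg xg13 yg28 zg59) (kg xg22 yg35 zg48) (kg xg13 yg29 zg1) (kg xg22 yg16 zg26) (kg xg26 yg26 zg3) (kg xg21 yg11 zg12) (kg xg22 yg53 zg17) (kg xg13 yg35 zg12) (kg xg23 yg52 zg22) (kg xg22 yg47 zg3) (kg xg24 yg1 zg47) (kg xg22 yg55 zg8) (kg xg20 yg33 zg16) (kg xg22 yg59 zg44) (kg xg28 yg56 zg2) (kg xg19 yg41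 zg43) (kg xg30 yg23 zg57) (kg xg23 yg11 zg54) (kg xg22 yg59 zg45) (kg xg13 yg29 zg6) (kg xg24 yg53 zg27) (kg xg30 yg44 zg11) (kg xg30 yg44 zg5) (kg xg13 yg29 zg7) (kg xg26 yg56 zg21) (kg xg30 yg44 zg16) (kg xg15 yg40 zg44) (kg xg23 yg11 zg56) (kg xg23 yg11 zg42) (kg xg14 yg31 zg46) (kg xg29 yg52 zg41) (kg xg25 yg5 zg26) (kg xg22 yg29 zg9) (kg xg23 yg6 zg32) (kg xg13 yg29 zg17) (kg xg22 yg29 zg30) (kg xg24 yg28 zg15) (kg xg27 yg53 zg58) (kg xg22 yg29 zg22) (kg xg22 yg41 zg44) (kg xg18 yg41 zg26) (kg xg15 yg7 zg13) (kg xg20 yg21 zg16) (kg xg13 yg47 zg0) (kg xg21 yg29 zg56) (kg xg18 yg30 zg52) (kg xg13 yg29 zg20) (kg xg27 yg52 zg13) (kg xg30 yg44 zg34) (kg xg29 yg25 zg7) (kg xg18 yg18 zg59) (kg xg18 yg49 zg16) (kg xg30 yg39 zg37) (kg xg26 yg32 zg21) (kg xg20 yg11 zg17)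 (kg xg23 yg6 zg41) (kg xg22 yg57 zg60) (kg xg23 yg6 zg39) (kg xg13 yg29 zg28) (kg xg30 yg31 zg52) (kg xg18 yg54 zg54)) (@D3.rec (fun _ => Pt) (kg xg22 yg57 zg58) (kg xg13 yg29 zg29) (kg xg13 yg29 zg32) (kg xg18 yg34 zg30) (kg xg23 yg51 zg20) (kg xg26 yg20 zg41) (kg xg23 yg6 zg47) (kg xg20 yg21 zg34) (kg xg23 yg6 zg38) (kg xg29 yg41 zg2) (kg xg29 yg55 zg36) (kg xg28 yg20 zg50) (kg xg20 yg45 zg14) (kg xg13 yg29 zg37) (kg xg23 yg6 zg49) (kg xg26 yg19 zg48) (kg xg20 yg35 zg49) (kg xg30 yg44 zg49) (kg xg24 yg47 zg42) (kg xg23 yg6 zg55) (kg xg13 yg29 zg40) (kg xg27 yg46 zg24) (kg xg22 yg29 zg61) (kg xg30 yg44 zg53) (kg xg18 yg53 zg13) (kg xg13 yg29 zg43) (kg xg30 yg44 zg56) (kg xg30 yg44 zg60) (kg xg18 yg53 zg17) (kg xg26 yg13 zg24) (kg xg14 yg53 zg42) (kg xg13 yg29 zg48)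 (kg xg14 yg53 zg41) (kg xg22 yg29 zg47) (kg xg22 yg37 zg31) (kg xg13 yg29 zg51) (kg xg22 yg56 zg27) (kg xg22 yg33 zg12) (kg xg17 yg17 zg20) (kg xg27 yg8 zg57) (kg xg22 yg58 zg14) (kg xg13 yg29 zg56) (kg xg22 yg58 zg12) (kg xg14 yg24 zg56) (kg xg14 yg18 zg25) (kg xg14 yg41 zg32) (kg xg14 yg42 zg1) (kg xg14 yg21 zg60) (kg xg14 yg15 zg2) (kg xg14 yg41 zg30) (kg xg24 yg16 zg46) (kg xg13 yg33 zg40) (kg xg30 yg45 zg13) (kg xg30 yg44 zg41) (kg xg24 yg54 zg6) (kg xg18 yg13 zg21) (kg xg30 yg45 zg22) (kg xg18 yg32 zg49) (kg xg13 yg30 zg5) (kg xg28 yg7 zg59) (kg xg26 yg31 zg38) (kg xg19 yg17 zg37)) (@D3.rec (fun _ => Pt) (kg xg24 yg28 zg25) (kg xg13 yg30 zg12) (kg xg23 yg6 zg22) (kg xg17 yg55 zg7) (kg xg16 yg53 zg3) (kg xg20 yg30 zg42) (kg xg21 yg7 zg51) (kg xg23 yg6 zg24) (kg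 xg30 yg43 zg8) (kg xg22 yg59 zg21) (kg xg14 yg53 zg30) (kg xg24 yg40 zg34) (kg xg30 yg27 zg51) (kg xg13 yg30 zg31) (kg xg26 yg32 zg28) (kg xg24 yg40 zg39) (kg xg24 yg28 zg13) (kg xg24 yg28 zg40) (kg xg28 yg27 zg47) (kg xg16 yg21 zg45) (kg xg24 yg5 zg25) (kg xg16 yg32 zg39) (kg xg26 yg32 zg50) (kg xg13 yg30 zg34) (kg xg22 yg50 zg10) (kg xg28 yg26 zg18) (kg xg22 yg51 zg4) (kg xg16 yg21 zg55) (kg xg23 yg9 zg11) (kg xg15 yg7 zg7) (kg xg16 yg33 zg18) (kg xg24 yg28 zg36) (kg xg30 yg45 zg42) (kg xg28 yg12 zg41) (kg xg13 yg30 zg42) (kg xg23 yg7 zg25) (kg xg16 yg33 zg16) (kg xg16 yg33 zg12) (kg xg30 yg45 zg46) (kg xg19 yg11 zg41) (kg xg30 yg45 zg45) (kg xg30 yg45 zg48) (kg xg13 yg30 zg46) (kg xg30 yg45 zg49) (kg xg27 yg59 zg6) (kg xg18 yg36 zg0) (kg xg14 yg58 zg34) (kg xg29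 yg55 zg32) (kg xg18 yg13 zg35) (kg xg30 yg39 zg35) (kg xg18 yg21 zg43) (kg xg21 yg13 zg22) (kg xg27 yg5 zg25) (kg xg29 yg25 zg5) (kg xg13 yg30 zg56) (kg xg27 yg59 zg14) (kg xg27 yg49 zg6) (kg xg18 yg36 zg24) (kg xg16 yg21 zg49) (kg xg18 yg20 zg55) (kg xg15 yg7 zg11) (kg xg13 yg31 zg0)) (@D3.rec (fun _ => Pt) (kg xg23 yg7 zg15) (kg xg30 yg24 zg54) (kg xg16 yg30 zg54) (kg xg23 yg7 zg19) (kg xg13 yg31 zg2) (kg xg23 yg7 zg18) (kg xg28 yg5 zg37) (kg xg13 yg31 zg5) (kg xg28 yg11 zg7) (kg xg16 yg28 zg38) (kg xg16 yg28 zg10) (kg xg22 yg59 zg37) (kg xg22 yg47 zg22) (kg xg26 yg22 zg52) (kg xg30 yg46 zg5) (kg xg16 yg26 zg33) (kg xg24 yg31 zg17) (kg xg29 yg41 zg20) (kg xg13 yg43 zg24) (kg xg17 yg1 zg46) (kg xg26 yg31 zg17) (kg xg20 yg49 zg50) (kg xg23 yg18 zg27) (kg xg13 yg31 zg23)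 (kg xg13 yg31 zg19) (kg xg22 yg20 zg40) (kg xg25 yg9 zg6) (kg xg24 yg7 zg34) (kg xg29 yg28 zg29) (kg xg13 yg31 zg20) (kg xg30 yg43 zg30) (kg xg23 yg20 zg25) (kg xg21 yg6 zg25) (kg xg16 yg28 zg15) (kg xg30 yg46 zg16) (kg xg25 yg4 zg52) (kg xg25 yg50 zg4) (kg xg24 yg9 zg20) (kg xg13 yg31 zg49) (kg xg13 yg31 zg25) (kg xg22 yg23 zg1) (kg xg26 yg23 zg18) (kg xg28 yg20 zg31) (kg xg16 yg28 zg35) (kg xg13 yg31 zg26) (kg xg16 yg28 zg34) (kg xg28 yg19 zg44) (kg xg19 yg57 zg1) (kg xg30 yg46 zg19) (kg xg30 yg43 zg15) (kg xg13 yg31 zg28) (kg xg30 yg43 zg14) (kg xg22 yg20 zg60) (kg xg29 yg28 zg16) (kg xg25 yg25 zg47) (kg xg18 yg2 zg0) (kg xg30 yg18 zg47) (kg xg30 yg43 zg34) (kg xg23 yg57 zg41) (kg xg24 yg5 zg33) (kg xg26 yg56 zg25) (kg xg30 yg43 zg24)) (@D3.rec (fun _ => Pt) (kg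 xg30 yg46 zg27) (kg xg13 yg31 zg37) (kg xg30 yg46 zg30) (kg xg30 yg46 zg31) (kg xg24 yg5 zg29) (kg xg26 yg25 zg51) (kg xg24 yg5 zg27) (kg xg21 yg10 zg23) (kg xg30 yg43 zg20) (kg xg13 yg31 zg40) (kg xg26 yg24 zg16) (kg xg30 yg46 zg42) (kg xg28 yg0 zg47) (kg xg28 yg23 zg2) (kg xg13 yg31 zg41) (kg xg25 yg16 zg27) (kg xg30 yg46 zg28) (kg xg22 yg48 zg45) (kg xg14 yg15 zg48) (kg xg22 yg24 zg52) (kg xg26 yg46 zg19) (kg xg24 yg9 zg17) (kg xg13 yg31 zg47) (kg xg24 yg38 zg60) (kg xg29 yg53 zg54) (kg xg15 yg35 zg21) (kg xg25 yg12 zg58) (kg xg25 yg34 zg16) (kg xg13 yg31 zg52) (kg xg24 yg14 zg12) (kg xg25 yg34 zg6) (kg xg28 yg24 zg47) (kg xg24 yg7 zg35) (kg xg30 yg43 zg18) (kg xg13 yg31 zg54) (kg xg30 yg46 zg55) (kg xg22 yg56 zg5) (kg xg22 yg23 zg27) (kg xg29 yg38 zg22) (kg xg18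 yg40 zg50) (kg xg13 yg33 zg19) (kg xg23 yg15 zg8) (kg xg23 yg9 zg54) (kg xg13 yg48 zg44) (kg xg13 yg31 zg57) (kg xg30 yg47 zg3) (kg xg13 yg48 zg43) (kg xg30 yg31 zg35) (kg xg14 yg53 zg18) (kg xg13 yg47 zg20) (kg xg13 yg32 zg8) (kg xg13 yg32 zg3) (kg xg23 yg3 zg28) (kg xg23 yg4 zg41) (kg xg22 yg24 zg7) (kg xg25 yg43 zg35) (kg xg18 yg51 zg7) (kg xg30 yg47 zg11) (kg xg30 yg37 zg9) (kg xg13 yg32 zg13) (kg xg30 yg37 zg8) (kg xg22 yg56 zg54)) (@D3.rec (fun _ => Pt) (kg xg29 yg53 zg51) (kg xg26 yg25 zg43) (kg xg23 yg4 zg48) (kg xg13 yg33 zg51) (kg xg30 yg43 zg27) (kg xg13 yg51 zg7) (kg xg30 yg47 zg18) (kg xg20 yg33 zg61) (kg xg13 yg32 zg18) (kg xg22 yg6 zg50) (kg xg30 yg47 zg23) (kg xg30 yg47 zg25) (kg xg13 yg51 zg1) (kg xg30 yg47 zg20) (kg xg13 yg32 zg20) (kg xg30 yg47 zg19)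 (kg xg22 yg6 zg48) (kg xg13 yg32 zg23) (kg xg15 yg15 zg51) (kg xg13 yg32 zg24) (kg xg15 yg15 zg50) (kg xg30 yg43 zg9) (kg xg19 yg37 zg28) (kg xg18 yg41 zg43) (kg xg13 yg32 zg39) (kg xg27 yg37 zg46) (kg xg30 yg47 zg29) (kg xg15 yg22 zg38) (kg xg13 yg50 zg43) (kg xg24 yg59 zg26) (kg xg28 yg23 zg40) (kg xg13 yg32 zg30) (kg xg29 yg50 zg23) (kg xg16 yg28 zg54) (kg xg15 yg37 zg13) (kg xg24 yg8 zg57) (kg xg30 yg43 zg29) (kg xg13 yg32 zg34) (kg xg26 yg6 zg52) (kg xg24 yg9 zg40) (kg xg25 yg25 zg46) (kg xg20 yg32 zg37) (kg xg26 yg28 zg36) (kg xg13 yg50 zg54) (kg xg26 yg26 zg10) (kg xg16 yg27 zg13) (kg xg30 yg47 zg37) (kg xg30 yg47 zg40) (kg xg15 yg20 zg58) (kg xg28 yg23 zg58) (kg xg19 yg37 zg27) (kg xg14 yg51 zg22) (kg xg14 yg52 zg55) (kg xg25 yg36 zg26) (kg xg25 yg25 zg45) (kg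 xg17 yg59 zg1) (kg xg20 yg50 zg35) (kg xg13 yg32 zg45) (kg xg17 yg24 zg17) (kg xg29 yg37 zg47) (kg xg26 yg24 zg21) (kg xg25 yg59 zg49)) (@D3.rec (fun _ => Pt) (kg xg30 yg46 zg49) (kg xg29 yg3 zg26) (kg xg15 yg39 zg29) (kg xg13 yg32 zg49) (kg xg24 yg39 zg3) (kg xg30 yg43 zg16) (kg xg13 yg32 zg50) (kg xg30 yg47 zg50) (kg xg22 yg49 zg5) (kg xg29 yg32 zg23) (kg xg23 yg12 zg2) (kg xg28 yg28 zg28) (kg xg23 yg8 zg30) (kg xg30 yg37 zg12) (kg xg14 yg19 zg5) (kg xg14 yg47 zg42) (kg xg14 yg47 zg21) (kg xg14 yg47 zg18) (kg xg13 yg32 zg55) (kg xg30 yg47 zg58) (kg xg26 yg9 zg55) (kg xg20 yg50 zg22) (kg xg14 yg47 zg16) (kg xg14 yg47 zg15) (kg xg23 yg6 zg1) (kg xg22 yg49 zg21) (kg xg22 yg55 zg9) (kg xg20 yg36 zg61) (kg xg13 yg33 zg1) (kg xg30 yg43 zg37) (kg xg14 yg45 zg42) (kg xg14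 yg0 zg36) (kg xg13 yg42 zg61) (kg xg26 yg30 zg8) (kg xg23 yg8 zg40) (kg xg23 yg31 zg24) (kg xg13 yg38 zg10) (kg xg13 yg42 zg41) (kg xg22 yg47 zg28) (kg xg16 yg34 zg7) (kg xg26 yg30 zg37) (kg xg13 yg33 zg8) (kg xg27 yg53 zg16) (kg xg30 yg48 zg7) (kg xg15 yg0 zg44) (kg xg24 yg57 zg17) (kg xg13 yg33 zg9) (kg xg29 yg49 zg61) (kg xg13 yg33 zg11) (kg xg18 yg28 zg15) (kg xg25 yg29 zg26) (kg xg24 yg9 zg24) (kg xg13 yg33 zg14) (kg xg24 yg9 zg23) (kg xg26 yg17 zg20) (kg xg22 yg52 zg36) (kg xg13 yg33 zg17) (kg xg24 yg9 zg27) (kg xg26 yg24 zg15) (kg xg17 yg57 zg24) (kg xg28 yg23 zg20) (kg xg17 yg20 zg29)) (@D3.rec (fun _ => Pt) (kg xg21 yg38 zg55) (kg xg29 yg29 zg2) (kg xg22 yg53 zg36) (kg xg23 yg19 zg51) (kg xg23 yg5 zg28) (kg xg22 yg47 zg51) (kg xg24 yg59 zg60) (kg xg30 yg48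 zg25) (kg xg23 yg18 zg50) (kg xg13 yg33 zg22) (kg xg30 yg47 zg1) (kg xg23 yg18 zg49) (kg xg30 yg48 zg30) (kg xg14 yg14 zg36) (kg xg14 yg14 zg42) (kg xg23 yg52 zg5) (kg xg14 yg18 zg8) (kg xg25 yg25 zg57) (kg xg30 yg39 zg51) (kg xg13 yg33 zg31) (kg xg29 yg32 zg12) (kg xg14 yg18 zg0) (kg xg14 yg24 zg26) (kg xg14 yg24 zg24) (kg xg13 yg33 zg34) (kg xg29 yg44 zg19) (kg xg30 yg48 zg42) (kg xg13 yg33 zg35) (kg xg24 yg5 zg15) (kg xg14 yg24 zg54) (kg xg13 yg33 zg37) (kg xg14 yg24 zg52) (kg xg13 yg33 zg38) (kg xg23 yg4 zg11) (kg xg14 yg25 zg36) (kg xg28 yg9 zg47) (kg xg30 yg45 zg14) (kg xg28 yg26 zg33) (kg xg29 yg50 zg2) (kg xg23 yg9 zg59) (kg xg27 yg59 zg40) (kg xg18 yg56 zg16) (kg xg29 yg42 zg32) (kg xg27 yg59 zg36) (kg xg13 yg33 zg45) (kg xg22 yg26 zg0) (kg xg22 yg27 zg22)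 (kg xg20 yg10 zg17) (kg xg26 yg23 zg5) (kg xg29 yg22 zg47) (kg xg30 yg37 zg6) (kg xg26 yg25 zg39) (kg xg22 yg53 zg61) (kg xg28 yg12 zg54) (kg xg22 yg48 zg0) (kg xg21 yg12 zg61) (kg xg13 yg33 zg54) (kg xg22 yg42 zg26) (kg xg20 yg1 zg0) (kg xg22 yg40 zg45) (kg xg30 yg49 zg3) (kg xg28 yg22 zg54)) (@D3.rec (fun _ => Pt) (kg xg28 yg29 zg30) (kg xg13 yg33 zg61) (kg xg24 yg29 zg23) (kg xg13 yg51 zg50) (kg xg13 yg51 zg54) (kg xg14 yg28 zg36) (kg xg19 yg7 zg17) (kg xg14 yg50 zg49) (kg xg13 yg34 zg6) (kg xg14 yg19 zg9) (kg xg14 yg18 zg60) (kg xg13 yg34 zg4) (kg xg22 yg58 zg25) (kg xg14 yg31 zg51) (kg xg14 yg32 zg7) (kg xg14 yg19 zg6) (kg xg24 yg34 zg35) (kg xg26 yg42 zg53) (kg xg19 yg7 zg25) (kg xg13 yg34 zg7) (kg xg24 yg38 zg59) (kg xg14 yg39 zg27) (kg xg13 yg34 zg9) (kg xg13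 yg34 zg10) (kg xg15 yg39 zg21) (kg xg13 yg34 zg11) (kg xg27 yg14 zg30) (kg xg24 yg8 zg7) (kg xg22 yg35 zg61) (kg xg30 yg19 zg51) (kg xg14 yg31 zg11) (kg xg23 yg55 zg13) (kg xg24 yg18 zg54) (kg xg25 yg4 zg20) (kg xg29 yg30 zg5) (kg xg16 yg11 zg56) (kg xg13 yg34 zg19) (kg xg22 yg16 zg57) (kg xg13 yg47 zg54) (kg xg30 yg27 zg37) (kg xg28 yg24 zg0) (kg xg30 yg49 zg25) (kg xg26 yg45 zg0) (kg xg14 yg16 zg37) (kg xg22 yg15 zg53) (kg xg30 yg49 zg28) (kg xg19 yg41 zg35) (kg xg28 yg32 zg52) (kg xg13 yg34 zg30) (kg xg28 yg14 zg54) (kg xg28 yg22 zg60) (kg xg28 yg23 zg14) (kg xg15 yg30 zg53) (kg xg23 yg0 zg35) (kg xg28 yg20 zg13) (kg xg18 yg4 zg21) (kg xg24 yg27 zg8) (kg xg13 yg49 zg23) (kg xg22 yg50 zg1) (kg xg22 yg49 zg57) (kg xg13 yg34 zg38) (kg xg13 yg34 zg39)) (@D3.rec (fun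 _ => Pt) (kg xg23 yg4 zg25) (kg xg13 yg34 zg42) (kg xg22 yg7 zg7) (kg xg13 yg34 zg43) (kg xg30 yg49 zg43) (kg xg30 yg49 zg44) (kg xg29 yg55 zg31) (kg xg30 yg49 zg51) (kg xg23 yg54 zg45) (kg xg30 yg49 zg52) (kg xg23 yg53 zg59) (kg xg22 yg50 zg42) (kg xg13 yg34 zg49) (kg xg22 yg39 zg45) (kg xg22 yg50 zg41) (kg xg30 yg50 zg4) (kg xg13 yg37 zg5) (kg xg13 yg34 zg57) (kg xg22 yg28 zg11) (kg xg23 yg20 zg9) (kg xg21 yg14 zg20) (kg xg22 yg27 zg3) (kg xg23 yg40 zg39) (kg xg14 yg0 zg59) (kg xg28 yg46 zg39) (kg xg23 yg56 zg55) (kg xg14 yg40 zg29) (kg xg13 yg35 zg0) (kg xg25 yg2 zg24) (kg xg28 yg17 zg15) (kg xg28 yg37 zg30) (kg xg30 yg31 zg41) (kg xg23 yg57 zg6) (kg xg13 yg45 zg26) (kg xg30 yg43 zg58) (kg xg13 yg35 zg3) (kg xg30 yg24 zg15) (kg xg22 yg19 zg53) (kg xg13 yg35 zg4)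 (kg xg30 yg49 zg12) (kg xg22 yg57 zg12) (kg xg22 yg19 zg8) (kg xg14 yg28 zg46) (kg xg13 yg35 zg6) (kg xg29 yg40 zg24) (kg xg17 yg1 zg16) (kg xg23 yg0 zg39) (kg xg30 yg50 zg19) (kg xg24 yg18 zg50) (kg xg14 yg40 zg50) (kg xg13 yg35 zg9) (kg xg24 yg30 zg25) (kg xg14 yg40 zg49) (kg xg22 yg38 zg18) (kg xg23 yg0 zg4) (kg xg14 yg20 zg35) (kg xg22 yg16 zg19) (kg xg19 yg8 zg9) (kg xg13 yg35 zg37) (kg xg14 yg45 zg5) (kg xg14 yg33 zg47) (kg xg13 yg35 zg28)) (@D3.rec (fun _ => Pt) (kg xg22 yg16 zg36) (kg xg23 yg0 zg9) (kg xg21 yg5 zg9) (kg xg24 yg6 zg55) (kg xg13 yg35 zg20) (kg xg22 yg36 zg8) (kg xg13 yg35 zg26) (kg xg23 yg12 zg16) (kg xg30 yg23 zg54) (kg xg25 yg50 zg46) (kg xg23 yg18 zg60) (kg xg24 yg8 zg54) (kg xg29 yg50 zg45) (kg xg22 yg48 zg10) (kg xg13 yg35 zg24) (kg xg28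 yg33 zg3) (kg xg24 yg6 zg57) (kg xg22 yg19 zg2) (kg xg22 yg36 zg6) (kg xg30 yg30 zg26) (kg xg30 yg37 zg44) (kg xg22 yg52 zg59) (kg xg30 yg50 zg36) (kg xg24 yg18 zg53) (kg xg22 yg39 zg50) (kg xg13 yg35 zg31) (kg xg30 yg45 zg8) (kg xg22 yg39 zg49) (kg xg28 yg17 zg25) (kg xg22 yg36 zg35) (kg xg13 yg35 zg36) (kg xg14 yg17 zg18) (kg xg20 yg50 zg32) (kg xg14 yg10 zg59) (kg xg22 yg24 zg47) (kg xg15 yg40 zg6) (kg xg17 yg11 zg56) (kg xg13 yg35 zg44) (kg xg13 yg35 zg55) (kg xg13 yg35 zg46) (kg xg13 yg35 zg54) (kg xg23 yg9 zg57) (kg xg26 yg27 zg47) (kg xg22 yg49 zg14) (kg xg13 yg35 zg50) (kg xg22 yg49 zg20) (kg xg26 yg58 zg5) (kg xg13 yg35 zg51) (kg xg17 yg56 zg56) (kg xg26 yg24 zg19) (kg xg30 yg50 zg54) (kg xg29 yg0 zg27) (kg xg19 yg37 zg20) (kg xg28 yg21 zg15) (kg xg16 yg43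 zg14) (kg xg29 yg39 zg34) (kg xg29 yg19 zg3) (kg xg13 yg35 zg56) (kg xg17 yg16 zg55) (kg xg22 yg53 zg31) (kg xg18 yg56 zg45) (kg xg23 yg0 zg13))
def f_g_23 : D2 → D3 → Pt := @D2.rec (fun _ => D3 → Pt) (@D3.rec (fun _ => Pt) (kg xg23 yg0 zg3) (kg xg22 yg35 zg54) (kg xg29 yg28 zg42) (kg xg28 yg22 zg16) (kg xg23 yg53 zg46) (kg xg30 yg51 zg0) (kg xg29 yg2 zg57) (kg xg13 yg36 zg4) (kg xg26 yg49 zg8) (kg xg26 yg51 zg7) (kg xg20 yg47 zg33) (kg xg22 yg36 zg3) (kg xg22 yg35 zg53) (kg xg30 yg38 zg22) (kg xg13 yg36 zg7) (kg xg23 yg24 zg39) (kg xg22 yg37 zg16) (kg xg30 yg26 zg36) (kg xg30 yg36 zg21) (kg xg30 yg26 zg38) (kg xg30 yg51 zg8) (kg xg28 yg21 zg3) (kg xg19 yg34 zg17) (kg xg16 yg52 zg7) (kg xg22 yg33 zg42) (kg xg13 yg36 zg15) (kg xg13 yg36 zg11) (kg xg30 yg51 zg11) (kg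 xg19 yg8 zg30) (kg xg13 yg36 zg12) (kg xg24 yg20 zg59) (kg xg13 yg36 zg13) (kg xg23 yg11 zg60) (kg xg19 yg8 zg8) (kg xg30 yg51 zg13) (kg xg30 yg45 zg9) (kg xg24 yg7 zg45) (kg xg14 yg31 zg55) (kg xg30 yg36 zg26) (kg xg22 yg58 zg47) (kg xg14 yg35 zg42) (kg xg28 yg14 zg8) (kg xg29 yg39 zg38) (kg xg14 yg35 zg44) (kg xg20 yg18 zg54) (kg xg22 yg39 zg3) (kg xg30 yg50 zg41) (kg xg26 yg27 zg23) (kg xg23 yg1 zg27) (kg xg21 yg40 zg11) (kg xg17 yg20 zg27) (kg xg25 yg24 zg43) (kg xg13 yg36 zg25) (kg xg23 yg1 zg23) (kg xg27 yg30 zg20) (kg xg25 yg12 zg23) (kg xg30 yg27 zg40) (kg xg30 yg27 zg34) (kg xg19 yg40 zg2) (kg xg30 yg27 zg39) (kg xg19 yg37 zg33) (kg xg14 yg0 zg30)) (@D3.rec (fun _ => Pt) (kg xg14 yg0 zg35) (kg xg14 yg51 zg30) (kg xg29 yg59 zg44) (kg xg14 yg2 zg54) (kg xg15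 yg22 zg61) (kg xg24 yg37 zg10) (kg xg13 yg36 zg37) (kg xg24 yg37 zg9) (kg xg28 yg34 zg59) (kg xg13 yg36 zg42) (kg xg22 yg21 zg3) (kg xg28 yg35 zg43) (kg xg29 yg54 zg59) (kg xg24 yg37 zg37) (kg xg19 yg45 zg24) (kg xg14 yg48 zg59) (kg xg14 yg50 zg35) (kg xg30 yg26 zg53) (kg xg13 yg36 zg51) (kg xg22 yg22 zg24) (kg xg13 yg43 zg54) (kg xg19 yg7 zg18) (kg xg15 yg31 zg36) (kg xg13 yg36 zg54) (kg xg23 yg0 zg52) (kg xg14 yg22 zg25) (kg xg23 yg0 zg48) (kg xg13 yg36 zg57) (kg xg20 yg43 zg30) (kg xg25 yg9 zg3) (kg xg16 yg28 zg36) (kg xg20 yg43 zg32) (kg xg15 yg15 zg16) (kg xg16 yg45 zg39) (kg xg25 yg36 zg35) (kg xg30 yg9 zg45) (kg xg19 yg45 zg12) (kg xg13 yg37 zg0) (kg xg30 yg51 zg41) (kg xg27 yg9 zg35) (kg xg26 yg46 zg17) (kg xg22 yg54 zg58) (kg xg27 yg13 zg0) (kg xg27 yg12 zg29)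 (kg xg14 yg33 zg51) (kg xg25 yg57 zg30) (kg xg22 yg22 zg14) (kg xg18 yg2 zg4) (kg xg27 yg21 zg33) (kg xg25 yg49 zg35) (kg xg19 yg47 zg53) (kg xg21 yg25 zg4) (kg xg13 yg37 zg12) (kg xg21 yg25 zg3) (kg xg17 yg38 zg8) (kg xg21 yg22 zg61) (kg xg23 yg42 zg47) (kg xg23 yg2 zg6) (kg xg13 yg37 zg17) (kg xg23 yg25 zg2) (kg xg30 yg2 zg1) (kg xg13 yg37 zg28)) (@D3.rec (fun _ => Pt) (kg xg13 yg37 zg19) (kg xg13 yg37 zg27) (kg xg13 yg37 zg24) (kg xg14 yg9 zg35) (kg xg18 yg36 zg60) (kg xg13 yg37 zg25) (kg xg23 yg1 zg58) (kg xg30 yg51 zg54) (kg xg15 yg11 zg54) (kg xg30 yg51 zg57) (kg xg29 yg58 zg50) (kg xg23 yg16 zg53) (kg xg18 yg29 zg10) (kg xg23 yg31 zg42) (kg xg18 yg29 zg51) (kg xg29 yg50 zg61) (kg xg18 yg55 zg39) (kg xg29 yg28 zg0) (kg xg22 yg27 zg38) (kg xg13 yg37 zg34) (kg xg22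 yg27 zg44) (kg xg13 yg37 zg35) (kg xg23 yg38 zg14) (kg xg23 yg13 zg57) (kg xg30 yg50 zg9) (kg xg30 yg49 zg48) (kg xg13 yg37 zg39) (kg xg21 yg33 zg1) (kg xg30 yg0 zg30) (kg xg16 yg3 zg51) (kg xg21 yg31 zg32) (kg xg29 yg52 zg36) (kg xg23 yg43 zg35) (kg xg21 yg31 zg31) (kg xg13 yg37 zg44) (kg xg27 yg40 zg52) (kg xg23 yg3 zg6) (kg xg13 yg37 zg45) (kg xg30 yg52 zg15) (kg xg23 yg3 zg4) (kg xg21 yg33 zg11) (kg xg21 yg55 zg41) (kg xg22 yg10 zg12) (kg xg25 yg38 zg25) (kg xg17 yg16 zg25) (kg xg15 yg48 zg39) (kg xg22 yg10 zg13) (kg xg13 yg37 zg52) (kg xg21 yg24 zg16) (kg xg15 yg48 zg28) (kg xg21 yg26 zg53) (kg xg25 yg38 zg58) (kg xg25 yg37 zg14) (kg xg15 yg49 zg46) (kg xg17 yg14 zg23) (kg xg13 yg38 zg6) (kg xg13 yg37 zg58) (kg xg13 yg38 zg5) (kg xg23 yg15 zg53) (kg xg30 yg23 zg5)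 (kg xg13 yg37 zg61) (kg xg13 yg51 zg47)) (@D3.rec (fun _ => Pt) (kg xg13 yg38 zg2) (kg xg13 yg51 zg46) (kg xg30 yg52 zg26) (kg xg23 yg2 zg39) (kg xg13 yg38 zg3) (kg xg30 yg52 zg33) (kg xg23 yg2 zg37) (kg xg26 yg8 zg45) (kg xg23 yg25 zg59) (kg xg24 yg31 zg26) (kg xg18 yg42 zg44) (kg xg21 yg6 zg23) (kg xg23 yg16 zg15) (kg xg28 yg25 zg0) (kg xg30 yg52 zg40) (kg xg23 yg46 zg18) (kg xg13 yg50 zg13) (kg xg13 yg49 zg6) (kg xg22 yg41 zg43) (kg xg22 yg46 zg15) (kg xg22 yg29 zg5) (kg xg22 yg44 zg14) (kg xg22 yg53 zg52) (kg xg13 yg38 zg20) (kg xg22 yg38 zg11) (kg xg21 yg12 zg30) (kg xg20 yg19 zg46) (kg xg30 yg43 zg7) (kg xg24 yg40 zg1) (kg xg27 yg40 zg45) (kg xg20 yg5 zg61) (kg xg15 yg8 zg3) (kg xg21 yg53 zg32) (kg xg13 yg57 zg53) (kg xg30 yg52 zg47) (kg xg13 yg57 zg51) (kg xg21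 yg53 zg33) (kg xg20 yg30 zg37) (kg xg22 yg34 zg1) (kg xg23 yg21 zg50) (kg xg13 yg38 zg34) (kg xg18 yg36 zg13) (kg xg19 yg49 zg7) (kg xg17 yg2 zg37) (kg xg16 yg24 zg32) (kg xg13 yg47 zg9) (kg xg13 yg47 zg24) (kg xg13 yg38 zg44) (kg xg16 yg36 zg4) (kg xg13 yg38 zg45) (kg xg14 yg11 zg36) (kg xg27 yg57 zg53) (kg xg20 yg19 zg33) (kg xg25 yg17 zg47) (kg xg15 yg8 zg43) (kg xg13 yg38 zg54) (kg xg25 yg17 zg33) (kg xg28 yg55 zg15) (kg xg15 yg25 zg31) (kg xg13 yg38 zg56) (kg xg20 yg1 zg8) (kg xg18 yg56 zg9)) (@D3.rec (fun _ => Pt) (kg xg26 yg51 zg36) (kg xg22 yg37 zg40) (kg xg22 yg46 zg26) (kg xg13 yg38 zg59) (kg xg13 yg47 zg10) (kg xg13 yg39 zg4) (kg xg20 yg19 zg43) (kg xg22 yg46 zg18) (kg xg13 yg39 zg0) (kg xg29 yg29 zg43) (kg xg22 yg56 zg33) (kg xg13 yg39 zg1) (kg xg15 yg55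 zg32) (kg xg17 yg0 zg18) (kg xg29 yg14 zg45) (kg xg18 yg19 zg49) (kg xg30 yg52 zg56) (kg xg13 yg39 zg7) (kg xg20 yg11 zg28) (kg xg30 yg52 zg57) (kg xg16 yg24 zg42) (kg xg22 yg42 zg49) (kg xg20 yg26 zg20) (kg xg22 yg58 zg59) (kg xg23 yg36 zg30) (kg xg22 yg58 zg1) (kg xg28 yg22 zg50) (kg xg14 yg26 zg36) (kg xg13 yg39 zg20) (kg xg23 yg53 zg47) (kg xg30 yg53 zg0) (kg xg28 yg24 zg3) (kg xg13 yg39 zg21) (kg xg29 yg3 zg1) (kg xg29 yg21 zg20) (kg xg30 yg53 zg7) (kg xg29 yg42 zg10) (kg xg30 yg53 zg8) (kg xg28 yg24 zg2) (kg xg27 yg40 zg20) (kg xg27 yg40 zg21) (kg xg29 yg18 zg38) (kg xg30 yg43 zg44) (kg xg13 yg39 zg29) (kg xg30 yg53 zg13) (kg xg23 yg10 zg6) (kg xg24 yg56 zg56) (kg xg30 yg48 zg2) (kg xg27 yg43 zg2) (kg xg24 yg3 zg19) (kg xg22 yg54 zg21) (kg xg22 yg51 zg8) (kg xg30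 yg53 zg19) (kg xg29 yg23 zg53) (kg xg13 yg42 zg37) (kg xg13 yg39 zg37) (kg xg29 yg53 zg2) (kg xg24 yg48 zg14) (kg xg13 yg42 zg10) (kg xg20 yg50 zg13) (kg xg23 yg10 zg28) (kg xg13 yg42 zg34)) (@D3.rec (fun _ => Pt) (kg xg13 yg42 zg33) (kg xg13 yg39 zg49) (kg xg23 yg10 zg41) (kg xg13 yg42 zg48) (kg xg13 yg42 zg46) (kg xg26 yg30 zg51) (kg xg27 yg42 zg22) (kg xg25 yg56 zg36) (kg xg13 yg42 zg59) (kg xg13 yg39 zg48) (kg xg13 yg42 zg57) (kg xg29 yg19 zg6) (kg xg30 yg46 zg21) (kg xg13 yg43 zg8) (kg xg13 yg39 zg51) (kg xg13 yg43 zg6) (kg xg25 yg59 zg35) (kg xg30 yg53 zg32) (kg xg13 yg39 zg54) (kg xg29 yg42 zg61) (kg xg27 yg36 zg49) (kg xg29 yg43 zg1) (kg xg30 yg53 zg36) (kg xg28 yg17 zg18) (kg xg13 yg42 zg17) (kg xg13 yg39 zg57) (kg xg26 yg23 zg50) (kg xg13 yg43 zg51) (kg xg30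 yg53 zg42) (kg xg27 yg15 zg49) (kg xg13 yg43 zg49) (kg xg13 yg40 zg1) (kg xg13 yg43 zg48) (kg xg13 yg43 zg34) (kg xg25 yg58 zg27) (kg xg13 yg44 zg2) (kg xg13 yg40 zg6) (kg xg13 yg44 zg0) (kg xg13 yg40 zg8) (kg xg13 yg44 zg14) (kg xg28 yg53 zg53) (kg xg28 yg44 zg17) (kg xg15 yg4 zg60) (kg xg19 yg30 zg58) (kg xg30 yg53 zg47) (kg xg29 yg41 zg29) (kg xg13 yg44 zg35) (kg xg13 yg40 zg14) (kg xg13 yg44 zg34) (kg xg22 yg16 zg30) (kg xg23 yg11 zg31) (kg xg23 yg12 zg6) (kg xg13 yg40 zg19) (kg xg18 yg59 zg9) (kg xg24 yg5 zg50) (kg xg13 yg40 zg20) (kg xg30 yg24 zg35) (kg xg28 yg33 zg56) (kg xg23 yg56 zg41) (kg xg22 yg35 zg47) (kg xg24 yg11 zg9) (kg xg14 yg35 zg36)) (@D3.rec (fun _ => Pt) (kg xg14 yg42 zg57) (kg xg13 yg40 zg29) (kg xg30 yg53 zg55) (kg xg25 yg59 zg31) (kg xg30 yg53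 zg56) (kg xg30 yg53 zg57) (kg xg21 yg14 zg61) (kg xg23 yg5 zg5) (kg xg13 yg40 zg41) (kg xg13 yg40 zg37) (kg xg23 yg16 zg23) (kg xg15 yg5 zg61) (kg xg30 yg53 zg58) (kg xg14 yg10 zg48) (kg xg21 yg32 zg25) (kg xg13 yg46 zg61) (kg xg14 yg20 zg34) (kg xg14 yg42 zg56) (kg xg13 yg40 zg45) (kg xg22 yg51 zg0) (kg xg28 yg10 zg45) (kg xg14 yg42 zg55) (kg xg13 yg40 zg52) (kg xg22 yg51 zg1) (kg xg13 yg40 zg54) (kg xg18 yg0 zg48) (kg xg18 yg32 zg16) (kg xg27 yg20 zg11) (kg xg25 yg59 zg32) (kg xg13 yg41 zg1) (kg xg28 yg7 zg42) (kg xg18 yg36 zg28) (kg xg22 yg30 zg34) (kg xg27 yg32 zg3) (kg xg22 yg49 zg53) (kg xg14 yg15 zg3) (kg xg30 yg11 zg60) (kg xg13 yg41 zg35) (kg xg13 yg41 zg13) (kg xg22 yg49 zg59) (kg xg22 yg49 zg56) (kg xg13 yg41 zg9) (kg xg30 yg6 zg16) (kg xg22 yg18 zg42) (kg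 xg19 yg22 zg3) (kg xg23 yg11 zg46) (kg xg22 yg50 zg7) (kg xg18 yg56 zg35) (kg xg22 yg50 zg14) (kg xg13 yg41 zg12) (kg xg22 yg50 zg13) (kg xg23 yg7 zg3) (kg xg24 yg56 zg60) (kg xg21 yg52 zg61) (kg xg13 yg41 zg14) (kg xg22 yg50 zg20) (kg xg14 yg34 zg61) (kg xg19 yg18 zg49) (kg xg28 yg21 zg27) (kg xg16 yg15 zg44) (kg xg26 yg33 zg2) (kg xg25 yg30 zg53)) (@D3.rec (fun _ => Pt) (kg xg14 yg31 zg17) (kg xg30 yg44 zg4) (kg xg27 yg6 zg32) (kg xg29 yg41 zg3) (kg xg13 yg48 zg18) (kg xg22 yg23 zg59) (kg xg13 yg46 zg47) (kg xg27 yg10 zg29) (kg xg29 yg54 zg31) (kg xg24 yg47 zg21) (kg xg13 yg41 zg40) (kg xg27 yg59 zg23) (kg xg30 yg54 zg15) (kg xg27 yg21 zg15) (kg xg18 yg41 zg14) (kg xg13 yg41 zg47) (kg xg22 yg51 zg61) (kg xg22 yg52 zg5) (kg xg13 yg41 zg48) (kg xg22 yg52 zg4) (kg xg21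 yg28 zg53) (kg xg21 yg28 zg60) (kg xg22 yg47 zg30) (kg xg13 yg41 zg56) (kg xg22 yg51 zg35) (kg xg13 yg41 zg57) (kg xg22 yg51 zg34) (kg xg24 yg55 zg33) (kg xg20 yg45 zg54) (kg xg30 yg54 zg20) (kg xg13 yg41 zg60) (kg xg20 yg45 zg42) (kg xg29 yg36 zg43) (kg xg30 yg22 zg48) (kg xg29 yg8 zg50) (kg xg27 yg59 zg61) (kg xg18 yg39 zg19) (kg xg21 yg30 zg2) (kg xg23 yg21 zg34) (kg xg20 yg29 zg24) (kg xg29 yg41 zg9) (kg xg29 yg53 zg12) (kg xg24 yg59 zg46) (kg xg16 yg43 zg23) (kg xg30 yg43 zg17) (kg xg29 yg52 zg56) (kg xg13 yg42 zg7) (kg xg30 yg53 zg30) (kg xg23 yg16 zg12) (kg xg22 yg49 zg51) (kg xg30 yg53 zg22) (kg xg24 yg5 zg38) (kg xg30 yg54 zg30) (kg xg30 yg32 zg4) (kg xg13 yg42 zg27) (kg xg13 yg42 zg13) (kg xg25 yg25 zg56) (kg xg18 yg43 zg61) (kg xg26 yg31 zg0) (kg xg13 yg42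 zg12) (kg xg26 yg30 zg61) (kg xg29 yg42 zg16)) (@D3.rec (fun _ => Pt) (kg xg28 yg49 zg27) (kg xg28 yg34 zg13) (kg xg30 yg46 zg7) (kg xg13 yg42 zg14) (kg xg24 yg31 zg19) (kg xg30 yg53 zg37) (kg xg30 yg54 zg37) (kg xg30 yg54 zg38) (kg xg26 yg29 zg9) (kg xg13 yg42 zg22) (kg xg30 yg54 zg39) (kg xg29 yg40 zg19) (kg xg30 yg54 zg40) (kg xg25 yg43 zg50) (kg xg24 yg35 zg3) (kg xg13 yg42 zg25) (kg xg24 yg35 zg2) (kg xg27 yg15 zg57) (kg xg30 yg46 zg15) (kg xg30 yg54 zg44) (kg xg30 yg46 zg4) (kg xg19 yg28 zg27) (kg xg30 yg53 zg24) (kg xg13 yg42 zg31) (kg xg28 yg34 zg9) (kg xg17 yg25 zg59) (kg xg30 yg53 zg44) (kg xg15 yg12 zg52) (kg xg13 yg43 zg46) (kg xg23 yg19 zg57) (kg xg22 yg55 zg10) (kg xg23 yg21 zg28) (kg xg26 yg26 zg7) (kg xg14 yg51 zg33) (kg xg14 yg51 zg31) (kg xg13 yg42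 zg38) (kg xg26 yg6 zg43) (kg xg22 yg47 zg26) (kg xg22 yg55 zg34) (kg xg21 yg14 zg48) (kg xg22 yg48 zg32) (kg xg30 yg54 zg42) (kg xg29 yg52 zg57) (kg xg26 yg31 zg1) (kg xg29 yg52 zg54) (kg xg13 yg42 zg43) (kg xg19 yg57 zg46) (kg xg30 yg53 zg25) (kg xg13 yg42 zg44) (kg xg15 yg17 zg13) (kg xg23 yg10 zg45) (kg xg30 yg53 zg46) (kg xg30 yg54 zg28) (kg xg13 yg43 zg60) (kg xg29 yg29 zg39) (kg xg13 yg42 zg47) (kg xg25 yg25 zg30) (kg xg20 yg8 zg10) (kg xg13 yg47 zg52) (kg xg20 yg8 zg8) (kg xg29 yg34 zg51) (kg xg30 yg53 zg39)) (@D3.rec (fun _ => Pt) (kg xg22 yg1 zg51) (kg xg30 yg53 zg27) (kg xg13 yg42 zg55) (kg xg22 yg9 zg27) (kg xg26 yg3 zg42) (kg xg30 yg53 zg17) (kg xg30 yg55 zg6) (kg xg27 yg40 zg33) (kg xg28 yg13 zg3) (kg xg13 yg42 zg58) (kg xg26 yg20 zg38) (kg xg24 yg40 zg26)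 (kg xg26 yg30 zg20) (kg xg30 yg55 zg7) (kg xg13 yg43 zg0) (kg xg26 yg21 zg21) (kg xg13 yg43 zg1) (kg xg26 yg31 zg21) (kg xg26 yg31 zg7) (kg xg13 yg43 zg2) (kg xg29 yg16 zg33) (kg xg25 yg26 zg5) (kg xg30 yg48 zg23) (kg xg13 yg43 zg4) (kg xg29 yg30 zg47) (kg xg25 yg59 zg29) (kg xg30 yg32 zg3) (kg xg26 yg25 zg23) (kg xg22 yg47 zg37) (kg xg13 yg43 zg14) (kg xg13 yg47 zg42) (kg xg13 yg48 zg6) (kg xg13 yg43 zg7) (kg xg23 yg16 zg61) (kg xg13 yg48 zg5) (kg xg24 yg11 zg11) (kg xg13 yg43 zg16) (kg xg24 yg4 zg61) (kg xg13 yg43 zg17) (kg xg23 yg55 zg58) (kg xg24 yg39 zg29) (kg xg29 yg41 zg8) (kg xg24 yg39 zg40) (kg xg13 yg43 zg18) (kg xg17 yg48 zg59) (kg xg29 yg41 zg27) (kg xg28 yg41 zg51) (kg xg13 yg43 zg21) (kg xg29 yg41 zg14) (kg xg26 yg23 zg52) (kg xg13 yg43 zg22) (kg xg30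 yg55 zg21) (kg xg20 yg1 zg58) (kg xg30 yg54 zg32) (kg xg22 yg59 zg41) (kg xg30 yg53 zg29) (kg xg23 yg10 zg2) (kg xg22 yg53 zg42) (kg xg22 yg56 zg39) (kg xg13 yg43 zg39) (kg xg14 yg25 zg40) (kg xg14 yg25 zg33)) (@D3.rec (fun _ => Pt) (kg xg13 yg43 zg30) (kg xg30 yg47 zg42) (kg xg23 yg9 zg53) (kg xg26 yg23 zg26) (kg xg13 yg43 zg32) (kg xg26 yg9 zg7) (kg xg23 yg4 zg42) (kg xg14 yg58 zg26) (kg xg26 yg7 zg1) (kg xg27 yg42 zg0) (kg xg26 yg9 zg6) (kg xg14 yg25 zg37) (kg xg22 yg59 zg46) (kg xg30 yg55 zg33) (kg xg25 yg55 zg17) (kg xg16 yg26 zg20) (kg xg13 yg43 zg41) (kg xg25 yg58 zg29) (kg xg27 yg14 zg51) (kg xg18 yg59 zg18) (kg xg25 yg55 zg33) (kg xg23 yg7 zg52) (kg xg13 yg43 zg44) (kg xg28 yg9 zg46) (kg xg27 yg15 zg52) (kg xg30 yg55 zg37) (kg xg30 yg27 zg54) (kg xg29 yg54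 zg40) (kg xg23 yg8 zg25) (kg xg23 yg14 zg58) (kg xg27 yg9 zg50) (kg xg30 yg24 zg27) (kg xg20 yg36 zg54) (kg xg16 yg19 zg38) (kg xg28 yg56 zg0) (kg xg20 yg36 zg53) (kg xg17 yg2 zg30) (kg xg15 yg58 zg6) (kg xg25 yg24 zg49) (kg xg29 yg54 zg2) (kg xg20 yg35 zg56) (kg xg23 yg8 zg50) (kg xg21 yg11 zg42) (kg xg25 yg58 zg17) (kg xg26 yg53 zg13) (kg xg23 yg5 zg2) (kg xg22 yg3 zg9) (kg xg30 yg12 zg33) (kg xg22 yg3 zg5) (kg xg14 yg25 zg48) (kg xg14 yg25 zg47) (kg xg22 yg26 zg38) (kg xg21 yg40 zg23) (kg xg13 yg44 zg11) (kg xg24 yg3 zg0) (kg xg19 yg56 zg39) (kg xg20 yg30 zg36) (kg xg23 yg29 zg11) (kg xg14 yg51 zg47) (kg xg22 yg38 zg49) (kg xg13 yg44 zg17) (kg xg22 yg38 zg48)) (@D3.rec (fun _ => Pt) (kg xg24 yg9 zg30) (kg xg14 yg1 zg22) (kg xg14 yg51 zg60) (kg xg22 yg38 zg39) (kg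 xg22 yg32 zg29) (kg xg13 yg44 zg21) (kg xg25 yg49 zg5) (kg xg29 yg25 zg44) (kg xg13 yg44 zg24) (kg xg24 yg4 zg57) (kg xg13 yg44 zg25) (kg xg22 yg23 zg19) (kg xg22 yg23 zg18) (kg xg14 yg18 zg42) (kg xg14 yg30 zg35) (kg xg29 yg27 zg51) (kg xg13 yg44 zg31) (kg xg30 yg53 zg35) (kg xg30 yg26 zg8) (kg xg24 yg39 zg9) (kg xg13 yg44 zg32) (kg xg19 yg44 zg32) (kg xg15 yg31 zg10) (kg xg24 yg21 zg18) (kg xg24 yg4 zg44) (kg xg24 yg18 zg60) (kg xg28 yg57 zg0) (kg xg28 yg42 zg13) (kg xg14 yg30 zg28) (kg xg22 yg38 zg46) (kg xg15 yg46 zg42) (kg xg23 yg5 zg49) (kg xg23 yg54 zg60) (kg xg30 yg56 zg3) (kg xg23 yg54 zg61) (kg xg23 yg18 zg52) (kg xg30 yg56 zg9) (kg xg14 yg7 zg19) (kg xg18 yg23 zg4) (kg xg22 yg35 zg57) (kg xg13 yg44 zg54) (kg xg28 yg17 zg13) (kg xg23 yg0 zg18) (kg xg27 yg56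 zg24) (kg xg22 yg35 zg33) (kg xg13 yg44 zg57) (kg xg26 yg20 zg40) (kg xg27 yg55 zg55) (kg xg13 yg44 zg58) (kg xg18 yg53 zg19) (kg xg14 yg1 zg9) (kg xg14 yg1 zg21) (kg xg13 yg44 zg61) (kg xg22 yg18 zg48) (kg xg29 yg30 zg30) (kg xg23 yg0 zg46) (kg xg23 yg0 zg30) (kg xg13 yg50 zg39) (kg xg21 yg5 zg5) (kg xg22 yg49 zg16) (kg xg22 yg49 zg26) (kg xg22 yg59 zg58)) (@D3.rec (fun _ => Pt) (kg xg13 yg45 zg11) (kg xg14 yg17 zg29) (kg xg22 yg55 zg12) (kg xg28 yg22 zg18) (kg xg22 yg17 zg33) (kg xg13 yg45 zg14) (kg xg23 yg5 zg52) (kg xg27 yg42 zg60) (kg xg13 yg45 zg15) (kg xg28 yg21 zg52) (kg xg27 yg43 zg0) (kg xg20 yg25 zg0) (kg xg26 yg42 zg36) (kg xg22 yg17 zg1) (kg xg29 yg23 zg21) (kg xg22 yg58 zg31) (kg xg30 yg36 zg38) (kg xg30 yg56 zg21) (kg xg30 yg56 zg22) (kg xg13 yg45 zg22)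 (kg xg29 yg30 zg16) (kg xg19 yg8 zg14) (kg xg14 yg37 zg24) (kg xg22 yg58 zg48) (kg xg22 yg58 zg30) (kg xg30 yg50 zg11) (kg xg30 yg50 zg12) (kg xg30 yg56 zg26) (kg xg28 yg21 zg22) (kg xg30 yg18 zg43) (kg xg28 yg40 zg57) (kg xg22 yg47 zg9) (kg xg13 yg45 zg28) (kg xg30 yg56 zg30) (kg xg13 yg45 zg30) (kg xg30 yg43 zg55) (kg xg30 yg50 zg28) (kg xg25 yg50 zg45) (kg xg27 yg55 zg37) (kg xg30 yg39 zg21) (kg xg30 yg56 zg31) (kg xg18 yg4 zg61) (kg xg14 yg38 zg33) (kg xg28 yg33 zg34) (kg xg30 yg36 zg52) (kg xg14 yg38 zg34) (kg xg30 yg56 zg37) (kg xg28 yg31 zg28) (kg xg17 yg58 zg39) (kg xg14 yg47 zg54) (kg xg19 yg10 zg34) (kg xg13 yg45 zg44) (kg xg30 yg56 zg42) (kg xg26 yg51 zg31) (kg xg20 yg53 zg47) (kg xg29 yg26 zg57) (kg xg13 yg45 zg46) (kg xg13 yg46 zg0) (kg xg23 yg13 zg8) (kg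 xg14 yg32 zg13) (kg xg23 yg55 zg52) (kg xg13 yg45 zg56)) (@D3.rec (fun _ => Pt) (kg xg25 yg17 zg46) (kg xg30 yg20 zg7) (kg xg30 yg9 zg2) (kg xg13 yg45 zg60) (kg xg26 yg5 zg52) (kg xg24 yg15 zg28) (kg xg21 yg32 zg29) (kg xg28 yg14 zg39) (kg xg20 yg28 zg54) (kg xg14 yg24 zg27) (kg xg15 yg47 zg61) (kg xg20 yg54 zg3) (kg xg21 yg35 zg47) (kg xg30 yg56 zg51) (kg xg20 yg53 zg17) (kg xg20 yg42 zg54) (kg xg25 yg52 zg58) (kg xg30 yg22 zg31) (kg xg30 yg21 zg42) (kg xg13 yg46 zg10) (kg xg29 yg35 zg12) (kg xg29 yg39 zg32) (kg xg30 yg25 zg58) (kg xg22 yg45 zg12) (kg xg22 yg45 zg11) (kg xg21 yg48 zg29) (kg xg17 yg51 zg58) (kg xg13 yg46 zg15) (kg xg15 yg3 zg1) (kg xg19 yg21 zg26) (kg xg15 yg39 zg2) (kg xg15 yg34 zg4) (kg xg13 yg46 zg20) (kg xg24 yg5 zg35) (kg xg30 yg56 zg61) (kg xg23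 yg2 zg25) (kg xg30 yg19 zg1) (kg xg24 yg8 zg9) (kg xg16 yg29 zg24) (kg xg15 yg13 zg18) (kg xg15 yg13 zg23) (kg xg30 yg33 zg32) (kg xg23 yg19 zg42) (kg xg30 yg32 zg42) (kg xg23 yg3 zg27) (kg xg23 yg32 zg15) (kg xg23 yg20 zg24) (kg xg20 yg1 zg23) (kg xg28 yg10 zg38) (kg xg23 yg17 zg57) (kg xg30 yg39 zg34) (kg xg30 yg32 zg45) (kg xg30 yg57 zg7) (kg xg29 yg30 zg1) (kg xg23 yg20 zg51) (kg xg16 yg29 zg38) (kg xg30 yg47 zg0) (kg xg13 yg46 zg40) (kg xg30 yg57 zg8) (kg xg23 yg27 zg10) (kg xg13 yg47 zg47) (kg xg30 yg2 zg19)) (@D3.rec (fun _ => Pt) (kg xg30 yg57 zg12) (kg xg13 yg47 zg44) (kg xg13 yg48 zg57) (kg xg13 yg48 zg9) (kg xg14 yg10 zg5) (kg xg22 yg31 zg47) (kg xg30 yg20 zg40) (kg xg23 yg18 zg44) (kg xg13 yg48 zg25) (kg xg13 yg46 zg50) (kg xg13 yg48 zg23) (kg xg27 yg57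 zg40) (kg xg22 yg27 zg61) (kg xg30 yg57 zg19) (kg xg13 yg48 zg36) (kg xg13 yg46 zg53) (kg xg13 yg48 zg34) (kg xg30 yg57 zg25) (kg xg30 yg57 zg22) (kg xg23 yg17 zg26) (kg xg13 yg46 zg55) (kg xg23 yg17 zg28) (kg xg13 yg46 zg56) (kg xg29 yg14 zg47) (kg xg27 yg3 zg35) (kg xg20 yg33 zg27) (kg xg22 yg29 zg41) (kg xg30 yg48 zg28) (kg xg13 yg49 zg22) (kg xg13 yg46 zg60) (kg xg13 yg49 zg20) (kg xg13 yg49 zg4) (kg xg23 yg20 zg32) (kg xg30 yg57 zg39) (kg xg23 yg17 zg22) (kg xg13 yg49 zg40) (kg xg13 yg47 zg2) (kg xg13 yg49 zg38) (kg xg20 yg44 zg37) (kg xg22 yg36 zg14) (kg xg30 yg57 zg44) (kg xg23 yg52 zg26) (kg xg13 yg47 zg11) (kg xg21 yg30 zg15) (kg xg24 yg38 zg42) (kg xg30 yg21 zg29) (kg xg30 yg52 zg55) (kg xg29 yg54 zg37) (kg xg29 yg24 zg29) (kg xg23 yg19 zg27) (kg xg23 yg42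 zg61) (kg xg20 yg26 zg24) (kg xg23 yg42 zg56) (kg xg27 yg5 zg27) (kg xg15 yg0 zg4) (kg xg25 yg2 zg12) (kg xg25 yg1 zg50) (kg xg16 yg12 zg3) (kg xg18 yg40 zg44) (kg xg15 yg7 zg55) (kg xg17 yg2 zg40) (kg xg26 yg8 zg37)) (@D3.rec (fun _ => Pt) (kg xg15 yg10 zg42) (kg xg13 yg47 zg37) (kg xg13 yg47 zg35) (kg xg30 yg54 zg29) (kg xg30 yg57 zg54) (kg xg30 yg48 zg24) (kg xg24 yg31 zg41) (kg xg13 yg47 zg36) (kg xg22 yg53 zg39) (kg xg30 yg57 zg58) (kg xg30 yg35 zg0) (kg xg30 yg12 zg15) (kg xg13 yg47 zg41) (kg xg13 yg48 zg3) (kg xg30 yg58 zg4) (kg xg30 yg58 zg6) (kg xg27 yg57 zg45) (kg xg13 yg47 zg40) (kg xg30 yg42 zg25) (kg xg26 yg22 zg1) (kg xg29 yg29 zg13) (kg xg30 yg53 zg31) (kg xg23 yg18 zg21) (kg xg23 yg15 zg30) (kg xg30 yg57 zg26) (kg xg30 yg47 zg2) (kg xg23 yg15 zg31) (kg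 xg30 yg55 zg12) (kg xg30 yg57 zg47) (kg xg13 yg47 zg45) (kg xg23 yg15 zg26) (kg xg23 yg15 zg23) (kg xg30 yg2 zg7) (kg xg13 yg47 zg46) (kg xg16 yg12 zg4) (kg xg30 yg58 zg21) (kg xg25 yg2 zg51) (kg xg23 yg17 zg32) (kg xg22 yg58 zg54) (kg xg23 yg52 zg28) (kg xg30 yg32 zg41) (kg xg29 yg30 zg9) (kg xg18 yg59 zg56) (kg xg30 yg36 zg35) (kg xg23 yg52 zg23) (kg xg13 yg47 zg55) (kg xg27 yg58 zg47) (kg xg28 yg25 zg60) (kg xg29 yg55 zg40) (kg xg29 yg30 zg8) (kg xg13 yg47 zg56) (kg xg30 yg58 zg26) (kg xg29 yg55 zg15) (kg xg22 yg14 zg37) (kg xg23 yg46 zg21) (kg xg23 yg25 zg29) (kg xg23 yg17 zg19) (kg xg13 yg49 zg35) (kg xg22 yg29 zg42) (kg xg13 yg47 zg61) (kg xg22 yg29 zg40) (kg xg30 yg58 zg37)) (@D3.rec (fun _ => Pt) (kg xg30 yg58 zg35) (kg xg30 yg58 zg3) (kg xg24 yg31 zg39) (kg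 xg30 yg57 zg15) (kg xg13 yg48 zg2) (kg xg30 yg57 zg14) (kg xg30 yg47 zg6) (kg xg30 yg55 zg17) (kg xg30 yg57 zg55) (kg xg23 yg18 zg26) (kg xg23 yg32 zg60) (kg xg30 yg57 zg36) (kg xg21 yg10 zg39) (kg xg13 yg49 zg18) (kg xg23 yg7 zg48) (kg xg23 yg3 zg8) (kg xg14 yg0 zg31) (kg xg14 yg4 zg4) (kg xg28 yg41 zg16) (kg xg28 yg12 zg37) (kg xg23 yg24 zg52) (kg xg21 yg2 zg23) (kg xg18 yg49 zg26) (kg xg18 yg7 zg27) (kg xg13 yg48 zg20) (kg xg30 yg20 zg37) (kg xg30 yg58 zg52) (kg xg13 yg48 zg21) (kg xg23 yg14 zg12) (kg xg13 yg48 zg31) (kg xg30 yg57 zg43) (kg xg29 yg14 zg33) (kg xg25 yg16 zg15) (kg xg23 yg19 zg31) (kg xg13 yg49 zg36) (kg xg24 yg40 zg23) (kg xg30 yg33 zg39) (kg xg30 yg58 zg57) (kg xg28 yg13 zg33) (kg xg30 yg57 zg21) (kg xg13 yg48 zg32) (kg xg27 yg56 zg44) (kg xg30 yg57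 zg20) (kg xg27 yg1 zg15) (kg xg30 yg57 zg29) (kg xg25 yg52 zg6) (kg xg13 yg48 zg46) (kg xg25 yg52 zg3) (kg xg26 yg29 zg57) (kg xg13 yg48 zg35) (kg xg30 yg40 zg1) (kg xg29 yg50 zg25) (kg xg23 yg37 zg26) (kg xg29 yg12 zg17) (kg xg30 yg59 zg3) (kg xg13 yg48 zg39) (kg xg27 yg57 zg47) (kg xg13 yg48 zg40) (kg xg23 yg16 zg28) (kg xg30 yg57 zg50) (kg xg13 yg48 zg41) (kg xg23 yg16 zg9)) (@D3.rec (fun _ => Pt) (kg xg30 yg47 zg4) (kg xg30 yg48 zg29) (kg xg30 yg57 zg32) (kg xg13 yg59 zg3) (kg xg13 yg48 zg48) (kg xg30 yg48 zg32) (kg xg13 yg48 zg45) (kg xg30 yg48 zg31) (kg xg26 yg15 zg57) (kg xg18 yg27 zg5) (kg xg23 yg17 zg25) (kg xg30 yg57 zg24) (kg xg30 yg57 zg27) (kg xg13 yg48 zg47) (kg xg28 yg10 zg48) (kg xg13 yg48 zg50) (kg xg13 yg48 zg53) (kg xg30 yg59 zg18) (kg xg30 yg59 zg25)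 (kg xg30 yg59 zg28) (kg xg30 yg59 zg29) (kg xg13 yg48 zg51) (kg xg23 yg18 zg42) (kg xg29 yg51 zg26) (kg xg23 yg15 zg56) (kg xg30 yg59 zg7) (kg xg23 yg14 zg20) (kg xg23 yg14 zg21) (kg xg13 yg48 zg52) (kg xg30 yg59 zg38) (kg xg30 yg59 zg40) (kg xg23 yg15 zg37) (kg xg13 yg48 zg54) (kg xg23 yg17 zg35) (kg xg23 yg17 zg33) (kg xg13 yg48 zg55) (kg xg23 yg32 zg2) (kg xg26 yg30 zg0) (kg xg23 yg17 zg50) (kg xg23 yg20 zg27) (kg xg30 yg58 zg9) (kg xg14 yg0 zg2) (kg xg16 yg3 zg29) (kg xg23 yg21 zg43) (kg xg13 yg49 zg12) (kg xg22 yg33 zg60) (kg xg13 yg49 zg0) (kg xg24 yg31 zg9) (kg xg23 yg25 zg49) (kg xg30 yg59 zg49) (kg xg23 yg16 zg1) (kg xg24 yg59 zg41) (kg xg13 yg49 zg2) (kg xg30 yg32 zg54) (kg xg24 yg44 zg5) (kg xg23 yg20 zg33) (kg xg25 yg2 zg53) (kg xg23 yg13 zg43) (kg xg23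 yg44 zg12) (kg xg25 yg3 zg29) (kg xg13 yg49 zg7) (kg xg23 yg45 zg24)) (@D3.rec (fun _ => Pt) (kg xg21 yg33 zg54) (kg xg25 yg1 zg0) (kg xg25 yg3 zg12) (kg xg13 yg49 zg8) (kg xg24 yg59 zg47) (kg xg28 yg10 zg13) (kg xg23 yg13 zg44) (kg xg20 yg32 zg34) (kg xg30 yg59 zg55) (kg xg23 yg16 zg38) (kg xg30 yg32 zg6) (kg xg18 yg36 zg31) (kg xg13 yg49 zg14) (kg xg28 yg10 zg46) (kg xg30 yg59 zg57) (kg xg23 yg15 zg11) (kg xg13 yg49 zg16) (kg xg25 yg2 zg52) (kg xg30 yg57 zg41) (kg xg13 yg49 zg17) (kg xg30 yg57 zg40) (kg xg28 yg2 zg53) (kg xg26 yg57 zg40) (kg xg30 yg55 zg16) (kg xg22 yg52 zg22) (kg xg17 yg2 zg59) (kg xg23 yg9 zg33) (kg xg31 yg0 zg3) (kg xg25 yg3 zg3) (kg xg25 yg59 zg33) (kg xg13 yg49 zg21) (kg xg20 yg34 zg1) (kg xg24 yg31 zg22) (kg xg24 yg44 zg26) (kg xg13 yg49 zg27)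 (kg xg20 yg6 zg5) (kg xg31 yg0 zg6) (kg xg22 yg41 zg13) (kg xg30 yg57 zg34) (kg xg30 yg57 zg33) (kg xg30 yg58 zg47) (kg xg23 yg25 zg58) (kg xg30 yg57 zg17) (kg xg23 yg21 zg49) (kg xg23 yg16 zg29) (kg xg27 yg58 zg46) (kg xg15 yg10 zg56) (kg xg13 yg49 zg39) (kg xg22 yg56 zg11) (kg xg13 yg49 zg46) (kg xg22 yg56 zg9) (kg xg30 yg36 zg17) (kg xg28 yg23 zg15) (kg xg22 yg16 zg53) (kg xg13 yg49 zg48) (kg xg22 yg17 zg32) (kg xg31 yg0 zg15) (kg xg13 yg50 zg0) (kg xg13 yg49 zg51) (kg xg13 yg49 zg60) (kg xg22 yg59 zg30) (kg xg22 yg31 zg3)) (@D3.rec (fun _ => Pt) (kg xg31 yg0 zg21) (kg xg22 yg47 zg23) (kg xg31 yg0 zg18) (kg xg13 yg49 zg58) (kg xg27 yg40 zg23) (kg xg31 yg0 zg16) (kg xg31 yg0 zg25) (kg xg28 yg12 zg43) (kg xg29 yg0 zg29) (kg xg27 yg2 zg33) (kg xg23 yg33 zg35) (kg xg24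 yg16 zg24) (kg xg13 yg49 zg61) (kg xg25 yg26 zg4) (kg xg24 yg16 zg23) (kg xg22 yg13 zg16) (kg xg22 yg13 zg21) (kg xg29 yg5 zg37) (kg xg14 yg22 zg61) (kg xg27 yg36 zg0) (kg xg29 yg14 zg61) (kg xg23 yg14 zg44) (kg xg30 yg53 zg60) (kg xg22 yg46 zg16) (kg xg31 yg0 zg34) (kg xg23 yg16 zg10) (kg xg23 yg15 zg43) (kg xg23 yg54 zg55) (kg xg22 yg30 zg36) (kg xg27 yg40 zg22) (kg xg29 yg9 zg45) (kg xg30 yg39 zg54) (kg xg22 yg28 zg19) (kg xg23 yg16 zg43) (kg xg20 yg32 zg22) (kg xg14 yg0 zg42) (kg xg13 yg50 zg18) (kg xg23 yg40 zg29) (kg xg23 yg11 zg59) (kg xg21 yg2 zg39) (kg xg23 yg32 zg31) (kg xg30 yg33 zg57) (kg xg30 yg55 zg48) (kg xg14 yg44 zg32) (kg xg13 yg50 zg33) (kg xg14 yg44 zg31) (kg xg21 yg55 zg1) (kg xg24 yg10 zg31) (kg xg16 yg24 zg50) (kg xg23 yg13 zg48) (kg xg25 yg2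 zg50) (kg xg22 yg56 zg6) (kg xg16 yg12 zg5) (kg xg29 yg6 zg6) (kg xg26 yg8 zg44) (kg xg14 yg45 zg37) (kg xg13 yg50 zg48) (kg xg23 yg8 zg27) (kg xg23 yg52 zg34) (kg xg23 yg25 zg47) (kg xg25 yg46 zg33) (kg xg31 yg0 zg43)) (@D3.rec (fun _ => Pt) (kg xg22 yg35 zg37) (kg xg13 yg50 zg52) (kg xg24 yg59 zg20) (kg xg23 yg44 zg46) (kg xg31 yg0 zg44) (kg xg31 yg0 zg47) (kg xg24 yg31 zg24) (kg xg26 yg10 zg16) (kg xg26 yg8 zg55) (kg xg22 yg58 zg22) (kg xg30 yg51 zg52) (kg xg13 yg50 zg57) (kg xg30 yg37 zg38) (kg xg30 yg2 zg4) (kg xg28 yg12 zg11) (kg xg30 yg2 zg8) (kg xg13 yg50 zg58) (kg xg24 yg46 zg13) (kg xg30 yg39 zg56) (kg xg13 yg51 zg4) (kg xg24 yg12 zg61) (kg xg30 yg21 zg12) (kg xg24 yg38 zg43) (kg xg22 yg41 zg22) (kg xg31 yg0 zg35) (kg xg20 yg29 zg32) (kg xg22 yg52 zg31) (kg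 xg23 yg17 zg36) (kg xg18 yg42 zg43) (kg xg13 yg51 zg20) (kg xg13 yg51 zg19) (kg xg23 yg13 zg41) (kg xg23 yg17 zg55) (kg xg23 yg14 zg32) (kg xg25 yg46 zg42) (kg xg30 yg21 zg39) (kg xg27 yg59 zg22) (kg xg25 yg46 zg41) (kg xg23 yg13 zg52) (kg xg24 yg31 zg12) (kg xg13 yg51 zg25) (kg xg26 yg0 zg57) (kg xg29 yg29 zg45) (kg xg15 yg23 zg45) (kg xg17 yg9 zg16) (kg xg13 yg51 zg26) (kg xg16 yg6 zg31) (kg xg25 yg46 zg29) (kg xg21 yg6 zg28) (kg xg13 yg51 zg28) (kg xg21 yg6 zg27) (kg xg23 yg30 zg61) (kg xg21 yg56 zg10) (kg xg15 yg0 zg23) (kg xg13 yg51 zg42) (kg xg30 yg12 zg16) (kg xg24 yg30 zg38) (kg xg14 yg9 zg25) (kg xg26 yg30 zg58) (kg xg17 yg44 zg7) (kg xg26 yg14 zg58) (kg xg17 yg9 zg19)) (@D3.rec (fun _ => Pt) (kg xg13 yg51 zg35) (kg xg21 yg6 zg19) (kg xg21 yg56 zg22) (kg xg30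 yg52 zg22) (kg xg23 yg13 zg56) (kg xg13 yg51 zg44) (kg xg21 yg56 zg16) (kg xg13 yg51 zg41) (kg xg21 yg56 zg17) (kg xg24 yg52 zg24) (kg xg30 yg1 zg51) (kg xg21 yg56 zg8) (kg xg21 yg56 zg0) (kg xg13 yg51 zg43) (kg xg21 yg56 zg3) (kg xg31 yg0 zg60) (kg xg21 yg56 zg20) (kg xg27 yg57 zg33) (kg xg31 yg1 zg0) (kg xg30 yg58 zg54) (kg xg26 yg9 zg14) (kg xg26 yg7 zg49) (kg xg26 yg7 zg12) (kg xg26 yg7 zg42) (kg xg13 yg51 zg52) (kg xg26 yg23 zg14) (kg xg30 yg42 zg47) (kg xg23 yg19 zg23) (kg xg21 yg14 zg42) (kg xg29 yg30 zg13) (kg xg23 yg7 zg38) (kg xg27 yg57 zg54) (kg xg23 yg14 zg24) (kg xg21 yg8 zg42) (kg xg31 yg1 zg6) (kg xg31 yg1 zg8) (kg xg14 yg28 zg34) (kg xg13 yg51 zg58) (kg xg14 yg28 zg33) (kg xg30 yg43 zg5) (kg xg26 yg0 zg51) (kg xg19 yg59 zg9) (kg xg23 yg18 zg43) (kg xg23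 yg17 zg44) (kg xg13 yg59 zg55) (kg xg22 yg31 zg28) (kg xg13 yg52 zg4) (kg xg30 yg10 zg47) (kg xg26 yg7 zg29) (kg xg23 yg40 zg37) (kg xg23 yg3 zg40) (kg xg30 yg45 zg35) (kg xg28 yg28 zg7) (kg xg13 yg52 zg10) (kg xg18 yg15 zg59) (kg xg14 yg14 zg39) (kg xg22 yg15 zg36) (kg xg13 yg52 zg14) (kg xg22 yg15 zg35) (kg xg31 yg1 zg19) (kg xg22 yg8 zg55) (kg xg13 yg52 zg15)) (@D3.rec (fun _ => Pt) (kg xg28 yg6 zg26) (kg xg22 yg8 zg54) (kg xg31 yg1 zg21) (kg xg31 yg1 zg23) (kg xg29 yg7 zg30) (kg xg16 yg33 zg25) (kg xg26 yg59 zg58) (kg xg31 yg1 zg24) (kg xg21 yg42 zg11) (kg xg22 yg11 zg25) (kg xg15 yg49 zg7) (kg xg21 yg38 zg24) (kg xg29 yg17 zg24) (kg xg13 yg52 zg25) (kg xg24 yg43 zg2) (kg xg17 yg38 zg46) (kg xg25 yg27 zg15) (kg xg23 yg36 zg36) (kg xg23 yg35 zg48) (kg xg13 yg52 zg27)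 (kg xg23 yg35 zg47) (kg xg28 yg28 zg36) (kg xg30 yg25 zg14) (kg xg23 yg35 zg46) (kg xg13 yg52 zg29) (kg xg23 yg35 zg45) (kg xg18 yg5 zg20) (kg xg22 yg15 zg43) (kg xg21 yg37 zg11) (kg xg13 yg52 zg33) (kg xg21 yg37 zg10) (kg xg21 yg37 zg7) (kg xg13 yg52 zg34) (kg xg21 yg37 zg6) (kg xg24 yg43 zg36) (kg xg21 yg58 zg31) (kg xg29 yg56 zg40) (kg xg21 yg55 zg59) (kg xg23 yg36 zg59) (kg xg13 yg52 zg38) (kg xg31 yg1 zg31) (kg xg18 yg26 zg56) (kg xg29 yg12 zg29) (kg xg13 yg52 zg52) (kg xg13 yg52 zg50) (kg xg13 yg52 zg60) (kg xg13 yg52 zg47) (kg xg15 yg45 zg50) (kg xg17 yg55 zg21) (kg xg30 yg2 zg43) (kg xg16 yg3 zg9) (kg xg13 yg52 zg51) (kg xg25 yg39 zg50) (kg xg14 yg56 zg7) (kg xg21 yg21 zg15) (kg xg14 yg5 zg11) (kg xg27 yg44 zg51) (kg xg14 yg55 zg45) (kg xg16 yg4 zg41) (kg xg16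 yg3 zg8) (kg xg23 yg37 zg52) (kg xg18 yg3 zg46)) (@D3.rec (fun _ => Pt) (kg xg31 yg1 zg35) (kg xg18 yg27 zg53) (kg xg13 yg53 zg0) (kg xg30 yg24 zg42) (kg xg23 yg35 zg14) (kg xg27 yg3 zg16) (kg xg23 yg35 zg12) (kg xg13 yg53 zg3) (kg xg23 yg25 zg18) (kg xg23 yg35 zg11) (kg xg15 yg45 zg56) (kg xg31 yg1 zg39) (kg xg17 yg55 zg31) (kg xg13 yg53 zg8) (kg xg25 yg28 zg4) (kg xg21 yg1 zg6) (kg xg13 yg54 zg5) (kg xg21 yg49 zg13) (kg xg21 yg46 zg57) (kg xg23 yg36 zg24) (kg xg23 yg36 zg14) (kg xg23 yg34 zg36) (kg xg23 yg36 zg12) (kg xg13 yg53 zg15) (kg xg24 yg41 zg42) (kg xg31 yg1 zg43) (kg xg23 yg35 zg33) (kg xg13 yg53 zg16) (kg xg13 yg53 zg18) (kg xg21 yg21 zg54) (kg xg13 yg53 zg19) (kg xg30 yg30 zg49) (kg xg27 yg4 zg17) (kg xg23 yg36 zg19) (kg xg13 yg53 zg21) (kg xg17 yg55 zg23)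 (kg xg16 yg4 zg53) (kg xg24 yg41 zg16) (kg xg13 yg53 zg24) (kg xg22 yg0 zg13) (kg xg17 yg55 zg35) (kg xg24 yg42 zg57) (kg xg14 yg54 zg35) (kg xg13 yg53 zg30) (kg xg14 yg54 zg34) (kg xg22 yg32 zg5) (kg xg13 yg53 zg33) (kg xg23 yg27 zg19) (kg xg20 yg27 zg26) (kg xg13 yg53 zg46) (kg xg23 yg13 zg29) (kg xg21 yg59 zg36) (kg xg29 yg8 zg0) (kg xg22 yg18 zg30) (kg xg13 yg53 zg47) (kg xg22 yg18 zg29) (kg xg22 yg18 zg41) (kg xg22 yg18 zg40) (kg xg23 yg35 zg56) (kg xg13 yg53 zg49) (kg xg23 yg35 zg58) (kg xg13 yg53 zg50)) (@D3.rec (fun _ => Pt) (kg xg24 yg29 zg10) (kg xg29 yg38 zg49) (kg xg14 yg26 zg31) (kg xg14 yg52 zg42) (kg xg22 yg26 zg14) (kg xg14 yg28 zg42) (kg xg22 yg26 zg33) (kg xg22 yg19 zg46) (kg xg22 yg26 zg12) (kg xg20 yg56 zg58) (kg xg14 yg40 zg22) (kg xg23 yg36 zg6)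 (kg xg24 yg42 zg46) (kg xg31 yg0 zg48) (kg xg20 yg10 zg22) (kg xg25 yg28 zg1) (kg xg30 yg2 zg44) (kg xg21 yg46 zg61) (kg xg15 yg15 zg1) (kg xg25 yg39 zg41) (kg xg24 yg41 zg48) (kg xg22 yg2 zg3) (kg xg29 yg0 zg14) (kg xg13 yg54 zg10) (kg xg31 yg1 zg58) (kg xg14 yg8 zg31) (kg xg13 yg54 zg14) (kg xg23 yg35 zg20) (kg xg23 yg26 zg31) (kg xg22 yg43 zg60) (kg xg19 yg48 zg32) (kg xg26 yg8 zg1) (kg xg14 yg49 zg41) (kg xg24 yg30 zg50) (kg xg21 yg21 zg41) (kg xg31 yg1 zg59) (kg xg23 yg41 zg28) (kg xg13 yg58 zg1) (kg xg31 yg2 zg1) (kg xg20 yg54 zg45) (kg xg23 yg2 zg29) (kg xg28 yg17 zg39) (kg xg20 yg13 zg37) (kg xg23 yg42 zg45) (kg xg20 yg13 zg25) (kg xg28 yg55 zg27) (kg xg17 yg55 zg50) (kg xg23 yg37 zg13) (kg xg13 yg54 zg34) (kg xg29 yg48 zg57) (kg xg23 yg37 zg11) (kg xg23 yg11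 zg37) (kg xg29 yg12 zg11) (kg xg23 yg41 zg7) (kg xg30 yg42 zg32) (kg xg23 yg26 zg11) (kg xg30 yg13 zg46) (kg xg23 yg43 zg61) (kg xg23 yg33 zg14) (kg xg30 yg59 zg4) (kg xg31 yg2 zg12) (kg xg23 yg44 zg26)) (@D3.rec (fun _ => Pt) (kg xg31 yg2 zg13) (kg xg29 yg52 zg13) (kg xg13 yg54 zg43) (kg xg30 yg33 zg22) (kg xg31 yg2 zg23) (kg xg23 yg37 zg30) (kg xg26 yg3 zg53) (kg xg30 yg13 zg59) (kg xg24 yg22 zg16) (kg xg13 yg54 zg50) (kg xg23 yg21 zg4) (kg xg24 yg33 zg34) (kg xg13 yg54 zg48) (kg xg13 yg58 zg56) (kg xg13 yg54 zg49) (kg xg13 yg57 zg6) (kg xg16 yg10 zg33) (kg xg17 yg53 zg2) (kg xg22 yg23 zg29) (kg xg23 yg40 zg36) (kg xg13 yg54 zg53) (kg xg14 yg0 zg22) (kg xg13 yg55 zg1) (kg xg19 yg0 zg18) (kg xg23 yg33 zg46) (kg xg13 yg54 zg59) (kg xg13 yg59 zg49) (kg xg13 yg59 zg39)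 (kg xg16 yg6 zg32) (kg xg29 yg9 zg7) (kg xg14 yg0 zg1) (kg xg13 yg55 zg0) (kg xg13 yg59 zg61) (kg xg13 yg57 zg7) (kg xg15 yg50 zg27) (kg xg26 yg3 zg36) (kg xg28 yg11 zg34) (kg xg14 yg0 zg9) (kg xg14 yg0 zg8) (kg xg25 yg15 zg61) (kg xg26 yg18 zg27) (kg xg23 yg32 zg48) (kg xg13 yg55 zg6) (kg xg23 yg32 zg50) (kg xg13 yg59 zg21) (kg xg13 yg55 zg7) (kg xg31 yg2 zg40) (kg xg19 yg47 zg33) (kg xg25 yg2 zg19) (kg xg24 yg53 zg23) (kg xg19 yg49 zg31) (kg xg14 yg0 zg48) (kg xg13 yg55 zg12) (kg xg14 yg0 zg46) (kg xg30 yg13 zg32) (kg xg14 yg1 zg5) (kg xg13 yg55 zg14) (kg xg14 yg1 zg4) (kg xg31 yg2 zg46) (kg xg23 yg3 zg12) (kg xg30 yg13 zg50) (kg xg31 yg2 zg49)) (@D3.rec (fun _ => Pt) (kg xg30 yg3 zg4) (kg xg18 yg24 zg26) (kg xg27 yg41 zg9) (kg xg17 yg55 zg22) (kg xg29 yg55 zg25)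 (kg xg13 yg55 zg22) (kg xg30 yg41 zg47) (kg xg29 yg55 zg24) (kg xg13 yg55 zg27) (kg xg21 yg18 zg32) (kg xg31 yg3 zg0) (kg xg30 yg41 zg36) (kg xg30 yg0 zg22) (kg xg23 yg24 zg35) (kg xg13 yg57 zg40) (kg xg23 yg29 zg5) (kg xg26 yg0 zg40) (kg xg30 yg38 zg49) (kg xg13 yg55 zg34) (kg xg20 yg24 zg37) (kg xg13 yg55 zg50) (kg xg23 yg36 zg5) (kg xg13 yg56 zg34) (kg xg13 yg56 zg19) (kg xg14 yg42 zg4) (kg xg23 yg24 zg28) (kg xg22 yg21 zg19) (kg xg13 yg55 zg41) (kg xg24 yg35 zg25) (kg xg15 yg43 zg50) (kg xg31 yg3 zg11) (kg xg13 yg55 zg46) (kg xg13 yg55 zg47) (kg xg13 yg56 zg16) (kg xg21 yg20 zg30) (kg xg30 yg10 zg60) (kg xg26 yg0 zg38) (kg xg23 yg27 zg5) (kg xg24 yg42 zg29) (kg xg21 yg37 zg58) (kg xg31 yg3 zg10) (kg xg23 yg29 zg29) (kg xg22 yg44 zg35) (kg xg13 yg56 zg22) (kg xg14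 yg7 zg35) (kg xg23 yg40 zg17) (kg xg13 yg55 zg53) (kg xg29 yg49 zg46) (kg xg14 yg47 zg10) (kg xg17 yg55 zg58) (kg xg23 yg40 zg46) (kg xg23 yg40 zg30) (kg xg23 yg40 zg23) (kg xg23 yg38 zg17) (kg xg23 yg40 zg20) (kg xg13 yg55 zg57) (kg xg31 yg3 zg31) (kg xg30 yg10 zg42) (kg xg23 yg45 zg20) (kg xg13 yg55 zg58) (kg xg14 yg55 zg7) (kg xg13 yg56 zg7)) (@D3.rec (fun _ => Pt) (kg xg22 yg37 zg48) (kg xg13 yg56 zg24) (kg xg13 yg56 zg1) (kg xg31 yg3 zg36) (kg xg31 yg3 zg39) (kg xg13 yg56 zg3) (kg xg23 yg40 zg25) (kg xg23 yg40 zg19) (kg xg23 yg39 zg0) (kg xg29 yg57 zg21) (kg xg13 yg56 zg6) (kg xg13 yg56 zg17) (kg xg30 yg49 zg1) (kg xg21 yg49 zg17) (kg xg23 yg29 zg6) (kg xg13 yg56 zg10) (kg xg29 yg59 zg29) (kg xg14 yg16 zg31) (kg xg14 yg3 zg41) (kg xg24 yg29 zg35) (kg xg22 yg18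 zg34) (kg xg23 yg23 zg47) (kg xg14 yg48 zg15) (kg xg23 yg40 zg13) (kg xg31 yg3 zg46) (kg xg14 yg29 zg11) (kg xg30 yg55 zg57) (kg xg22 yg37 zg18) (kg xg24 yg8 zg23) (kg xg23 yg29 zg60) (kg xg23 yg30 zg23) (kg xg31 yg1 zg52) (kg xg31 yg3 zg37) (kg xg30 yg7 zg60) (kg xg30 yg49 zg2) (kg xg31 yg3 zg54) (kg xg31 yg3 zg32) (kg xg13 yg56 zg27) (kg xg19 yg46 zg6) (kg xg22 yg56 zg51) (kg xg31 yg3 zg47) (kg xg30 yg4 zg52) (kg xg27 yg8 zg35) (kg xg27 yg41 zg2) (kg xg13 yg56 zg33) (kg xg13 yg56 zg30) (kg xg23 yg43 zg5) (kg xg29 yg49 zg52) (kg xg13 yg56 zg31) (kg xg22 yg21 zg9) (kg xg25 yg42 zg39) (kg xg26 yg46 zg56) (kg xg29 yg57 zg1) (kg xg17 yg12 zg12) (kg xg23 yg23 zg5) (kg xg23 yg40 zg1) (kg xg23 yg30 zg13) (kg xg29 yg10 zg23) (kg xg30 yg24 zg39) (kg xg14 yg7 zg10) (kg xg29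 yg51 zg14) (kg xg23 yg39 zg2)) (@D3.rec (fun _ => Pt) (kg xg13 yg56 zg37) (kg xg31 yg4 zg9) (kg xg29 yg50 zg6) (kg xg23 yg38 zg61) (kg xg23 yg39 zg44) (kg xg13 yg56 zg39) (kg xg31 yg4 zg11) (kg xg23 yg38 zg56) (kg xg31 yg4 zg13) (kg xg27 yg17 zg50) (kg xg23 yg39 zg13) (kg xg13 yg56 zg44) (kg xg13 yg57 zg22) (kg xg13 yg56 zg54) (kg xg23 yg39 zg7) (kg xg23 yg39 zg5) (kg xg13 yg56 zg47) (kg xg28 yg49 zg31) (kg xg25 yg38 zg52) (kg xg16 yg4 zg51) (kg xg13 yg56 zg48) (kg xg31 yg4 zg19) (kg xg30 yg41 zg59) (kg xg23 yg39 zg22) (kg xg13 yg56 zg50) (kg xg23 yg39 zg20) (kg xg30 yg10 zg27) (kg xg31 yg4 zg28) (kg xg31 yg4 zg31) (kg xg23 yg39 zg27) (kg xg13 yg56 zg53) (kg xg23 yg39 zg26) (kg xg23 yg38 zg12) (kg xg23 yg28 zg58) (kg xg31 yg4 zg35) (kg xg30 yg9 zg48) (kg xg19 yg45 zg35)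 (kg xg13 yg56 zg56) (kg xg23 yg39 zg31) (kg xg31 yg4 zg37) (kg xg23 yg39 zg3) (kg xg13 yg56 zg59) (kg xg30 yg40 zg18) (kg xg31 yg4 zg48) (kg xg31 yg4 zg51) (kg xg31 yg4 zg23) (kg xg22 yg44 zg44) (kg xg13 yg57 zg0) (kg xg22 yg44 zg43) (kg xg23 yg46 zg36) (kg xg23 yg43 zg6) (kg xg27 yg58 zg2) (kg xg30 yg50 zg5) (kg xg28 yg22 zg47) (kg xg13 yg57 zg17) (kg xg13 yg57 zg9) (kg xg31 yg4 zg34) (kg xg13 yg57 zg15) (kg xg28 yg49 zg41) (kg xg31 yg4 zg1) (kg xg30 yg42 zg12) (kg xg22 yg39 zg11)) (@D3.rec (fun _ => Pt) (kg xg22 yg37 zg22) (kg xg27 yg3 zg39) (kg xg27 yg40 zg61) (kg xg16 yg2 zg37) (kg xg23 yg26 zg15) (kg xg13 yg57 zg16) (kg xg23 yg27 zg15) (kg xg27 yg30 zg25) (kg xg30 yg6 zg17) (kg xg15 yg46 zg12) (kg xg30 yg50 zg6) (kg xg23 yg10 zg55) (kg xg29 yg13 zg58) (kg xg22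 yg45 zg2) (kg xg14 yg24 zg42) (kg xg29 yg13 zg55) (kg xg25 yg39 zg16) (kg xg30 yg7 zg27) (kg xg29 yg13 zg56) (kg xg29 yg12 zg3) (kg xg13 yg57 zg27) (kg xg27 yg40 zg54) (kg xg13 yg57 zg30) (kg xg14 yg4 zg16) (kg xg31 yg2 zg0) (kg xg22 yg44 zg9) (kg xg23 yg42 zg2) (kg xg13 yg57 zg35) (kg xg14 yg48 zg8) (kg xg23 yg26 zg44) (kg xg31 yg5 zg9) (kg xg31 yg5 zg11) (kg xg14 yg55 zg11) (kg xg13 yg57 zg38) (kg xg15 yg42 zg35) (kg xg29 yg10 zg31) (kg xg30 yg40 zg30) (kg xg23 yg37 zg23) (kg xg30 yg42 zg34) (kg xg23 yg37 zg41) (kg xg21 yg29 zg28) (kg xg13 yg57 zg59) (kg xg30 yg35 zg61) (kg xg31 yg5 zg14) (kg xg29 yg11 zg9) (kg xg27 yg3 zg21) (kg xg30 yg52 zg50) (kg xg13 yg57 zg52) (kg xg31 yg5 zg18) (kg xg30 yg52 zg48) (kg xg30 yg40 zg12) (kg xg23 yg37 zg19) (kg xg13 yg57 zg57) (kg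 xg31 yg5 zg24) (kg xg16 yg11 zg19) (kg xg30 yg34 zg2) (kg xg31 yg5 zg27) (kg xg30 yg33 zg9) (kg xg14 yg5 zg15) (kg xg13 yg57 zg60) (kg xg23 yg26 zg43) (kg xg30 yg41 zg43)) (@D3.rec (fun _ => Pt) (kg xg13 yg58 zg2) (kg xg13 yg58 zg0) (kg xg31 yg3 zg60) (kg xg27 yg40 zg55) (kg xg19 yg50 zg35) (kg xg20 yg3 zg10) (kg xg30 yg40 zg42) (kg xg29 yg4 zg23) (kg xg20 yg24 zg58) (kg xg30 yg12 zg61) (kg xg23 yg41 zg33) (kg xg13 yg58 zg6) (kg xg31 yg5 zg36) (kg xg23 yg27 zg59) (kg xg23 yg41 zg50) (kg xg31 yg5 zg10) (kg xg24 yg43 zg45) (kg xg14 yg55 zg10) (kg xg23 yg41 zg41) (kg xg29 yg3 zg28) (kg xg24 yg40 zg14) (kg xg31 yg5 zg42) (kg xg23 yg27 zg30) (kg xg13 yg58 zg12) (kg xg29 yg4 zg36) (kg xg31 yg5 zg48) (kg xg31 yg5 zg50) (kg xg23 yg41 zg34) (kg xg13 yg58 zg14) (kg xg14 yg49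 zg10) (kg xg13 yg58 zg21) (kg xg17 yg55 zg41) (kg xg14 yg40 zg6) (kg xg26 yg12 zg27) (kg xg13 yg58 zg29) (kg xg16 yg5 zg51) (kg xg14 yg56 zg23) (kg xg30 yg1 zg56) (kg xg15 yg44 zg10) (kg xg27 yg39 zg25) (kg xg16 yg6 zg1) (kg xg20 yg5 zg53) (kg xg20 yg50 zg56) (kg xg15 yg4 zg24) (kg xg24 yg10 zg57) (kg xg13 yg58 zg42) (kg xg13 yg58 zg43) (kg xg16 yg10 zg31) (kg xg23 yg42 zg16) (kg xg17 yg9 zg40) (kg xg17 yg15 zg59) (kg xg13 yg58 zg48) (kg xg31 yg5 zg54) (kg xg13 yg58 zg49) (kg xg19 yg56 zg35) (kg xg28 yg31 zg21) (kg xg23 yg37 zg9) (kg xg30 yg24 zg7) (kg xg31 yg5 zg56) (kg xg27 yg57 zg14) (kg xg13 yg58 zg54) (kg xg28 yg11 zg39)) (@D3.rec (fun _ => Pt) (kg xg29 yg12 zg14) (kg xg13 yg58 zg55) (kg xg27 yg56 zg39) (kg xg24 yg33 zg33) (kg xg20 yg52 zg61) (kg xg13 yg59 zg12)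 (kg xg26 yg48 zg11) (kg xg16 yg31 zg44) (kg xg13 yg59 zg0) (kg xg19 yg56 zg31) (kg xg29 yg12 zg24) (kg xg26 yg22 zg46) (kg xg16 yg31 zg50) (kg xg13 yg59 zg2) (kg xg31 yg6 zg3) (kg xg30 yg42 zg19) (kg xg23 yg27 zg6) (kg xg21 yg29 zg10) (kg xg19 yg16 zg56) (kg xg19 yg48 zg25) (kg xg13 yg59 zg13) (kg xg13 yg59 zg9) (kg xg29 yg55 zg3) (kg xg27 yg3 zg36) (kg xg21 yg11 zg56) (kg xg28 yg22 zg14) (kg xg23 yg32 zg52) (kg xg25 yg56 zg12) (kg xg26 yg27 zg18) (kg xg28 yg10 zg50) (kg xg31 yg6 zg5) (kg xg30 yg7 zg25) (kg xg23 yg31 zg48) (kg xg28 yg12 zg38) (kg xg26 yg27 zg0) (kg xg26 yg26 zg60) (kg xg14 yg56 zg31) (kg xg13 yg59 zg31) (kg xg19 yg49 zg38) (kg xg13 yg59 zg35) (kg xg29 yg52 zg15) (kg xg14 yg0 zg44) (kg xg23 yg2 zg9) (kg xg22 yg12 zg14) (kg xg26 yg9 zg41) (kg xg24 yg31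 zg45) (kg xg23 yg34 zg57) (kg xg28 yg13 zg16) (kg xg19 yg0 zg13) (kg xg13 yg59 zg47) (kg xg26 yg19 zg41) (kg xg23 yg33 zg49) (kg xg31 yg2 zg43) (kg xg31 yg5 zg57) (kg xg14 yg1 zg2) (kg xg27 yg3 zg49) (kg xg29 yg30 zg7) (kg xg19 yg48 zg15) (kg xg28 yg27 zg17) (kg xg23 yg20 zg31) (kg xg30 yg43 zg6) (kg xg22 yg31 zg31)) (@D3.rec (fun _ => Pt) (kg xg30 yg52 zg21) (kg xg23 yg13 zg46) (kg xg23 yg17 zg39) (kg xg28 yg28 zg13) (kg xg13 yg59 zg58) (kg xg18 yg20 zg8) (kg xg20 yg6 zg26) (kg xg28 yg11 zg0) (kg xg28 yg10 zg60) (kg xg23 yg15 zg55) (kg xg31 yg2 zg17) (kg xg25 yg2 zg44) (kg xg31 yg6 zg16) (kg xg14 yg0 zg11) (kg xg25 yg59 zg5) (kg xg23 yg13 zg51) (kg xg31 yg6 zg17) (kg xg30 yg40 zg41) (kg xg28 yg49 zg36) (kg xg23 yg31 zg44) (kg xg14 yg0 zg4) (kg xg30 yg13 zg26) (kg xg14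 yg0 zg5) (kg xg27 yg58 zg53) (kg xg29 yg22 zg11) (kg xg14 yg0 zg6) (kg xg26 yg25 zg31) (kg xg30 yg13 zg29) (kg xg23 yg37 zg28) (kg xg14 yg46 zg56) (kg xg23 yg19 zg40) (kg xg14 yg0 zg10) (kg xg28 yg13 zg53) (kg xg29 yg14 zg44) (kg xg29 yg19 zg2) (kg xg31 yg2 zg32) (kg xg31 yg2 zg35) (kg xg14 yg0 zg12) (kg xg31 yg2 zg34) (kg xg30 yg25 zg1) (kg xg24 yg57 zg3) (kg xg14 yg0 zg15) (kg xg14 yg0 zg18) (kg xg30 yg57 zg38) (kg xg31 yg6 zg23) (kg xg17 yg54 zg35) (kg xg18 yg19 zg9) (kg xg28 yg2 zg15) (kg xg23 yg25 zg42) (kg xg23 yg25 zg43) (kg xg14 yg0 zg17) (kg xg28 yg12 zg30) (kg xg14 yg0 zg19) (kg xg23 yg32 zg55) (kg xg23 yg32 zg53) (kg xg14 yg0 zg20) (kg xg28 yg21 zg14) (kg xg26 yg7 zg30) (kg xg31 yg6 zg30) (kg xg23 yg20 zg7) (kg xg23 yg33 zg9) (kg xg23 yg44 zg2)) (@D3.rec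 (fun _ => Pt) (kg xg25 yg2 zg42) (kg xg23 yg45 zg11) (kg xg14 yg0 zg37) (kg xg23 yg38 zg19) (kg xg23 yg38 zg13) (kg xg14 yg0 zg26) (kg xg29 yg48 zg60) (kg xg31 yg6 zg37) (kg xg25 yg16 zg24) (kg xg23 yg19 zg25) (kg xg30 yg58 zg45) (kg xg14 yg0 zg28) (kg xg23 yg52 zg33) (kg xg14 yg1 zg51) (kg xg23 yg24 zg54) (kg xg23 yg24 zg55) (kg xg14 yg30 zg30) (kg xg23 yg38 zg16) (kg xg30 yg42 zg37) (kg xg25 yg44 zg8) (kg xg20 yg1 zg12) (kg xg19 yg49 zg16) (kg xg19 yg55 zg4) (kg xg26 yg7 zg13) (kg xg15 yg22 zg58) (kg xg29 yg9 zg41) (kg xg18 yg42 zg33) (kg xg30 yg32 zg12) (kg xg14 yg0 zg53) (kg xg30 yg13 zg43) (kg xg22 yg12 zg56) (kg xg14 yg16 zg25) (kg xg14 yg0 zg55) (kg xg31 yg6 zg43) (kg xg26 yg56 zg23) (kg xg23 yg19 zg7) (kg xg22 yg17 zg10) (kg xg14 yg0 zg58) (kg xg22 yg17 zg8)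 (kg xg23 yg44 zg42) (kg xg27 yg58 zg1) (kg xg29 yg29 zg60) (kg xg23 yg17 zg48) (kg xg25 yg2 zg47) (kg xg31 yg2 zg30) (kg xg23 yg45 zg19) (kg xg23 yg31 zg51) (kg xg25 yg2 zg18) (kg xg31 yg6 zg33) (kg xg23 yg25 zg24) (kg xg28 yg26 zg11) (kg xg18 yg18 zg24) (kg xg26 yg29 zg55) (kg xg18 yg11 zg8) (kg xg28 yg1 zg44) (kg xg14 yg1 zg12) (kg xg19 yg15 zg20) (kg xg23 yg34 zg12) (kg xg14 yg1 zg15) (kg xg18 yg53 zg41) (kg xg23 yg57 zg12) (kg xg16 yg18 zg8)) (@D3.rec (fun _ => Pt) (kg xg22 yg36 zg12) (kg xg22 yg9 zg22) (kg xg18 yg53 zg22) (kg xg14 yg31 zg60) (kg xg14 yg1 zg19) (kg xg23 yg52 zg16) (kg xg14 yg1 zg24) (kg xg23 yg11 zg50) (kg xg19 yg59 zg44) (kg xg27 yg47 zg35) (kg xg22 yg15 zg37) (kg xg14 yg1 zg27) (kg xg23 yg33 zg58) (kg xg31 yg1 zg20) (kg xg22 yg8 zg52) (kg xg14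 yg1 zg28) (kg xg27 yg49 zg7) (kg xg27 yg49 zg10) (kg xg23 yg51 zg6) (kg xg30 yg11 zg52) (kg xg19 yg18 zg54) (kg xg22 yg34 zg56) (kg xg24 yg24 zg46) (kg xg14 yg1 zg31) (kg xg31 yg7 zg1) (kg xg24 yg21 zg26) (kg xg29 yg55 zg52) (kg xg23 yg34 zg43) (kg xg23 yg37 zg46) (kg xg23 yg58 zg0) (kg xg14 yg1 zg37) (kg xg17 yg30 zg6) (kg xg17 yg29 zg50) (kg xg21 yg37 zg51) (kg xg14 yg4 zg59) (kg xg23 yg23 zg36) (kg xg14 yg2 zg34) (kg xg28 yg39 zg22) (kg xg17 yg4 zg7) (kg xg26 yg5 zg6) (kg xg14 yg1 zg60) (kg xg26 yg0 zg32) (kg xg14 yg1 zg58) (kg xg24 yg40 zg55) (kg xg31 yg7 zg5) (kg xg21 yg29 zg44) (kg xg20 yg24 zg23) (kg xg21 yg12 zg26) (kg xg31 yg7 zg7) (kg xg25 yg42 zg12) (kg xg30 yg8 zg56) (kg xg14 yg1 zg59) (kg xg19 yg17 zg0) (kg xg27 yg25 zg41) (kg xg14 yg2 zg2) (kg xg23 yg31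 zg46) (kg xg24 yg43 zg38) (kg xg31 yg7 zg9) (kg xg24 yg43 zg58) (kg xg24 yg36 zg10) (kg xg26 yg12 zg36) (kg xg24 yg35 zg4)) (@D3.rec (fun _ => Pt) (kg xg16 yg16 zg2) (kg xg30 yg12 zg55) (kg xg14 yg2 zg5) (kg xg30 yg4 zg11) (kg xg31 yg7 zg12) (kg xg14 yg2 zg7) (kg xg25 yg39 zg54) (kg xg31 yg7 zg11) (kg xg23 yg38 zg57) (kg xg17 yg12 zg26) (kg xg23 yg23 zg9) (kg xg14 yg2 zg10) (kg xg23 yg23 zg7) (kg xg23 yg40 zg12) (kg xg14 yg2 zg58) (kg xg29 yg22 zg7) (kg xg23 yg24 zg27) (kg xg14 yg2 zg14) (kg xg22 yg17 zg56) (kg xg21 yg11 zg24) (kg xg14 yg2 zg17) (kg xg23 yg24 zg26) (kg xg17 yg21 zg14) (kg xg27 yg41 zg11) (kg xg14 yg38 zg44) (kg xg26 yg6 zg29) (kg xg16 yg7 zg9) (kg xg14 yg2 zg26) (kg xg22 yg27 zg12) (kg xg24 yg41 zg1) (kg xg14 yg2 zg33) (kg xg16 yg19 zg58) (kg xg23 yg23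 zg21) (kg xg23 yg23 zg27) (kg xg24 yg31 zg7) (kg xg22 yg17 zg46) (kg xg14 yg9 zg40) (kg xg27 yg1 zg23) (kg xg28 yg27 zg41) (kg xg22 yg28 zg32) (kg xg23 yg45 zg2) (kg xg14 yg2 zg40) (kg xg23 yg45 zg1) (kg xg15 yg4 zg22) (kg xg23 yg22 zg25) (kg xg14 yg2 zg44) (kg xg23 yg22 zg24) (kg xg14 yg2 zg45) (kg xg23 yg22 zg19) (kg xg14 yg2 zg47) (kg xg21 yg4 zg27) (kg xg31 yg7 zg23) (kg xg30 yg20 zg6) (kg xg19 yg59 zg40) (kg xg17 yg13 zg36) (kg xg25 yg43 zg2) (kg xg23 yg23 zg59) (kg xg23 yg23 zg60) (kg xg14 yg2 zg51) (kg xg14 yg29 zg15) (kg xg23 yg23 zg4) (kg xg28 yg43 zg52)) (@D3.rec (fun _ => Pt) (kg xg23 yg23 zg2) (kg xg15 yg39 zg18) (kg xg30 yg38 zg55) (kg xg15 yg43 zg30) (kg xg20 yg24 zg12) (kg xg23 yg26 zg24) (kg xg23 yg24 zg19) (kg xg14 yg3 zg6) (kg xg17 yg17 zg61) (kg xg14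 yg54 zg39) (kg xg30 yg3 zg51) (kg xg14 yg19 zg58) (kg xg23 yg23 zg23) (kg xg23 yg23 zg20) (kg xg14 yg3 zg12) (kg xg24 yg43 zg26) (kg xg25 yg41 zg7) (kg xg17 yg42 zg28) (kg xg23 yg23 zg35) (kg xg23 yg23 zg34) (kg xg23 yg42 zg23) (kg xg21 yg33 zg17) (kg xg21 yg24 zg36) (kg xg23 yg23 zg38) (kg xg15 yg43 zg31) (kg xg24 yg35 zg52) (kg xg31 yg7 zg36) (kg xg14 yg55 zg59) (kg xg14 yg55 zg58) (kg xg23 yg4 zg24) (kg xg14 yg3 zg23) (kg xg28 yg55 zg31) (kg xg26 yg55 zg18) (kg xg16 yg54 zg8) (kg xg21 yg37 zg4) (kg xg21 yg37 zg3) (kg xg16 yg19 zg3) (kg xg17 yg45 zg18) (kg xg30 yg20 zg33) (kg xg28 yg20 zg14) (kg xg28 yg46 zg43) (kg xg22 yg18 zg53) (kg xg14 yg3 zg37) (kg xg19 yg5 zg21) (kg xg14 yg29 zg29) (kg xg22 yg18 zg47) (kg xg22 yg18 zg46) (kg xg14 yg3 zg42) (kg xg22 yg18 zg45)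 (kg xg14 yg3 zg43) (kg xg30 yg35 zg36) (kg xg19 yg22 zg42) (kg xg25 yg45 zg19) (kg xg19 yg20 zg33) (kg xg31 yg7 zg39) (kg xg27 yg35 zg5) (kg xg19 yg4 zg57) (kg xg14 yg3 zg48) (kg xg23 yg22 zg38) (kg xg14 yg3 zg49) (kg xg23 yg22 zg39) (kg xg28 yg16 zg16)) (@D3.rec (fun _ => Pt) (kg xg23 yg23 zg61) (kg xg19 yg51 zg22) (kg xg27 yg58 zg32) (kg xg30 yg24 zg56) (kg xg31 yg7 zg48) (kg xg29 yg55 zg20) (kg xg31 yg7 zg49) (kg xg23 yg30 zg56) (kg xg20 yg46 zg36) (kg xg21 yg56 zg42) (kg xg23 yg24 zg50) (kg xg14 yg3 zg60) (kg xg28 yg49 zg34) (kg xg23 yg24 zg48) (kg xg30 yg32 zg43) (kg xg23 yg38 zg31) (kg xg30 yg17 zg43) (kg xg23 yg31 zg40) (kg xg23 yg31 zg31) (kg xg30 yg25 zg0) (kg xg23 yg44 zg50) (kg xg30 yg41 zg9) (kg xg31 yg1 zg10) (kg xg30 yg2 zg5) (kg xg31 yg7 zg59) (kg xg23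 yg32 zg10) (kg xg23 yg28 zg52) (kg xg31 yg2 zg48) (kg xg21 yg56 zg34) (kg xg23 yg25 zg5) (kg xg14 yg4 zg9) (kg xg31 yg8 zg2) (kg xg17 yg9 zg7) (kg xg14 yg4 zg12) (kg xg14 yg4 zg14) (kg xg30 yg33 zg40) (kg xg26 yg28 zg19) (kg xg20 yg12 zg28) (kg xg25 yg0 zg1) (kg xg14 yg8 zg36) (kg xg14 yg7 zg48) (kg xg30 yg3 zg15) (kg xg15 yg13 zg34) (kg xg23 yg28 zg50) (kg xg28 yg36 zg49) (kg xg20 yg17 zg54) (kg xg27 yg50 zg37) (kg xg17 yg43 zg36) (kg xg14 yg4 zg23) (kg xg31 yg8 zg9) (kg xg31 yg8 zg11) (kg xg17 yg19 zg28) (kg xg23 yg22 zg57) (kg xg22 yg8 zg11) (kg xg30 yg20 zg17) (kg xg15 yg12 zg1) (kg xg21 yg4 zg29) (kg xg27 yg48 zg50) (kg xg18 yg4 zg29) (kg xg14 yg4 zg37) (kg xg28 yg31 zg48) (kg xg24 yg54 zg60)) (@D3.rec (fun _ => Pt) (kg xg28 yg0 zg61) (kg xg14 yg4 zg41) (kg xg17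 yg7 zg48) (kg xg21 yg37 zg33) (kg xg21 yg22 zg53) (kg xg20 yg19 zg30) (kg xg16 yg43 zg35) (kg xg16 yg8 zg55) (kg xg18 yg25 zg15) (kg xg18 yg24 zg57) (kg xg16 yg57 zg52) (kg xg23 yg27 zg7) (kg xg14 yg5 zg46) (kg xg23 yg33 zg5) (kg xg23 yg33 zg17) (kg xg22 yg22 zg18) (kg xg23 yg2 zg22) (kg xg20 yg53 zg27) (kg xg23 yg33 zg3) (kg xg14 yg5 zg6) (kg xg23 yg44 zg21) (kg xg30 yg42 zg27) (kg xg14 yg5 zg25) (kg xg14 yg5 zg23) (kg xg30 yg2 zg45) (kg xg30 yg2 zg42) (kg xg27 yg3 zg22) (kg xg14 yg5 zg20) (kg xg22 yg44 zg51) (kg xg31 yg8 zg31) (kg xg31 yg8 zg34) (kg xg26 yg58 zg31) (kg xg30 yg40 zg55) (kg xg31 yg8 zg40) (kg xg22 yg44 zg32) (kg xg31 yg8 zg44) (kg xg23 yg37 zg5) (kg xg22 yg42 zg50) (kg xg31 yg8 zg49) (kg xg31 yg5 zg21) (kg xg14 yg5 zg24) (kg xg31 yg8 zg54) (kg xg31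 yg8 zg57) (kg xg29 yg49 zg48) (kg xg31 yg5 zg19) (kg xg23 yg27 zg49) (kg xg23 yg27 zg48) (kg xg31 yg8 zg60) (kg xg14 yg5 zg29) (kg xg14 yg5 zg27) (kg xg21 yg49 zg25) (kg xg14 yg5 zg28) (kg xg14 yg6 zg3) (kg xg17 yg18 zg45) (kg xg30 yg34 zg0) (kg xg20 yg4 zg27) (kg xg24 yg40 zg5) (kg xg23 yg35 zg9) (kg xg25 yg42 zg41) (kg xg31 yg9 zg6) (kg xg23 yg28 zg3) (kg xg14 yg5 zg33)) (@D3.rec (fun _ => Pt) (kg xg23 yg41 zg18) (kg xg27 yg44 zg0) (kg xg23 yg28 zg0) (kg xg23 yg28 zg41) (kg xg23 yg28 zg32) (kg xg23 yg28 zg16) (kg xg23 yg28 zg14) (kg xg14 yg5 zg37) (kg xg15 yg42 zg58) (kg xg30 yg55 zg54) (kg xg17 yg27 zg45) (kg xg21 yg24 zg31) (kg xg14 yg5 zg40) (kg xg23 yg28 zg11) (kg xg14 yg5 zg41) (kg xg24 yg23 zg52) (kg xg29 yg58 zg26) (kg xg30 yg20 zg20) (kg xg29 yg59 zg23) (kg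 xg23 yg28 zg25) (kg xg14 yg5 zg44) (kg xg31 yg9 zg25) (kg xg23 yg28 zg24) (kg xg23 yg28 zg13) (kg xg25 yg42 zg51) (kg xg23 yg28 zg31) (kg xg14 yg5 zg47) (kg xg23 yg28 zg30) (kg xg30 yg35 zg54) (kg xg14 yg7 zg38) (kg xg23 yg28 zg38) (kg xg14 yg5 zg49) (kg xg23 yg28 zg37) (kg xg31 yg9 zg36) (kg xg31 yg9 zg29) (kg xg29 yg36 zg22) (kg xg28 yg19 zg22) (kg xg14 yg5 zg52) (kg xg31 yg9 zg43) (kg xg27 yg17 zg36) (kg xg31 yg9 zg48) (kg xg19 yg19 zg51) (kg xg31 yg9 zg55) (kg xg23 yg28 zg4) (kg xg14 yg5 zg55) (kg xg29 yg15 zg51) (kg xg27 yg3 zg48) (kg xg24 yg17 zg36) (kg xg25 yg30 zg14) (kg xg22 yg43 zg27) (kg xg14 yg5 zg58) (kg xg22 yg43 zg26) (kg xg14 yg33 zg33) (kg xg26 yg42 zg37) (kg xg29 yg39 zg1) (kg xg31 yg0 zg10) (kg xg23 yg27 zg55) (kg xg30 yg41 zg13) (kg xg31 yg9 zg2)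 (kg xg30 yg37 zg24) (kg xg24 yg10 zg17) (kg xg30 yg4 zg41)) (@D3.rec (fun _ => Pt) (kg xg29 yg51 zg17) (kg xg21 yg19 zg18) (kg xg31 yg9 zg33) (kg xg21 yg24 zg22) (kg xg23 yg42 zg1) (kg xg14 yg6 zg10) (kg xg24 yg27 zg47) (kg xg31 yg9 zg1) (kg xg14 yg6 zg13) (kg xg25 yg40 zg0) (kg xg16 yg3 zg19) (kg xg22 yg43 zg51) (kg xg23 yg35 zg15) (kg xg23 yg27 zg31) (kg xg22 yg43 zg12) (kg xg25 yg39 zg60) (kg xg31 yg10 zg19) (kg xg23 yg26 zg46) (kg xg14 yg55 zg21) (kg xg14 yg6 zg31) (kg xg23 yg26 zg55) (kg xg20 yg53 zg26) (kg xg23 yg26 zg52) (kg xg14 yg6 zg25) (kg xg29 yg14 zg2) (kg xg14 yg6 zg28) (kg xg30 yg37 zg4) (kg xg31 yg9 zg28) (kg xg23 yg19 zg37) (kg xg14 yg6 zg30) (kg xg22 yg17 zg45) (kg xg23 yg40 zg50) (kg xg29 yg10 zg33) (kg xg14 yg6 zg32) (kg xg19 yg56 zg3) (kg xg18 yg54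 zg51) (kg xg23 yg31 zg17) (kg xg23 yg21 zg42) (kg xg22 yg33 zg2) (kg xg22 yg58 zg19) (kg xg29 yg46 zg40) (kg xg14 yg8 zg37) (kg xg31 yg8 zg24) (kg xg31 yg10 zg31) (kg xg14 yg6 zg52) (kg xg22 yg43 zg16) (kg xg14 yg10 zg57) (kg xg24 yg40 zg7) (kg xg14 yg7 zg3) (kg xg14 yg6 zg45) (kg xg27 yg4 zg58) (kg xg14 yg7 zg1) (kg xg14 yg46 zg52) (kg xg14 yg46 zg41) (kg xg31 yg10 zg38) (kg xg22 yg35 zg21) (kg xg25 yg39 zg59) (kg xg31 yg10 zg39) (kg xg23 yg31 zg18) (kg xg31 yg10 zg33) (kg xg14 yg6 zg53) (kg xg31 yg3 zg15)) (@D3.rec (fun _ => Pt) (kg xg30 yg3 zg0) (kg xg30 yg38 zg40) (kg xg30 yg12 zg54) (kg xg14 yg6 zg60) (kg xg29 yg15 zg33) (kg xg29 yg58 zg4) (kg xg29 yg58 zg10) (kg xg30 yg37 zg40) (kg xg30 yg37 zg57) (kg xg26 yg58 zg18) (kg xg29 yg15 zg42) (kg xg29 yg49 zg33) (kg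 xg31 yg10 zg21) (kg xg29 yg56 zg51) (kg xg22 yg35 zg22) (kg xg31 yg8 zg21) (kg xg14 yg24 zg43) (kg xg15 yg43 zg58) (kg xg14 yg7 zg2) (kg xg25 yg30 zg32) (kg xg21 yg48 zg43) (kg xg23 yg40 zg31) (kg xg31 yg10 zg57) (kg xg31 yg2 zg6) (kg xg14 yg7 zg5) (kg xg29 yg16 zg39) (kg xg25 yg14 zg22) (kg xg23 yg32 zg17) (kg xg27 yg40 zg56) (kg xg31 yg11 zg1) (kg xg27 yg1 zg47) (kg xg29 yg59 zg4) (kg xg21 yg50 zg35) (kg xg23 yg30 zg11) (kg xg23 yg30 zg28) (kg xg31 yg11 zg5) (kg xg30 yg52 zg9) (kg xg14 yg53 zg29) (kg xg14 yg7 zg13) (kg xg14 yg53 zg28) (kg xg23 yg30 zg18) (kg xg14 yg7 zg14) (kg xg31 yg3 zg51) (kg xg14 yg7 zg15) (kg xg31 yg11 zg12) (kg xg19 yg44 zg40) (kg xg19 yg46 zg3) (kg xg24 yg39 zg52) (kg xg31 yg4 zg40) (kg xg23 yg30 zg14) (kg xg14 yg7 zg18) (kg xg23 yg24 zg59)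 (kg xg31 yg8 zg29) (kg xg24 yg40 zg2) (kg xg30 yg41 zg37) (kg xg30 yg41 zg21) (kg xg29 yg11 zg31) (kg xg30 yg40 zg3) (kg xg14 yg7 zg30) (kg xg31 yg4 zg39) (kg xg31 yg2 zg60) (kg xg31 yg10 zg59)) (@D3.rec (fun _ => Pt) (kg xg22 yg42 zg52) (kg xg23 yg40 zg5) (kg xg23 yg29 zg27) (kg xg31 yg1 zg60) (kg xg30 yg41 zg49) (kg xg30 yg41 zg48) (kg xg14 yg7 zg46) (kg xg14 yg7 zg40) (kg xg21 yg27 zg52) (kg xg14 yg7 zg42) (kg xg16 yg7 zg36) (kg xg29 yg6 zg33) (kg xg30 yg18 zg12) (kg xg16 yg3 zg55) (kg xg25 yg45 zg42) (kg xg29 yg23 zg0) (kg xg23 yg30 zg55) (kg xg19 yg16 zg43) (kg xg14 yg7 zg45) (kg xg25 yg39 zg39) (kg xg19 yg16 zg58) (kg xg14 yg54 zg52) (kg xg14 yg45 zg50) (kg xg25 yg38 zg5) (kg xg26 yg3 zg2) (kg xg17 yg37 zg33) (kg xg16 yg3 zg31) (kg xg27 yg11 zg55) (kg xg21 yg13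 zg14) (kg xg21 yg54 zg41) (kg xg14 yg8 zg5) (kg xg23 yg49 zg61) (kg xg18 yg25 zg60) (kg xg26 yg48 zg57) (kg xg14 yg8 zg9) (kg xg15 yg14 zg19) (kg xg16 yg23 zg35) (kg xg29 yg46 zg38) (kg xg31 yg8 zg6) (kg xg30 yg33 zg41) (kg xg30 yg18 zg11) (kg xg23 yg25 zg1) (kg xg14 yg8 zg14) (kg xg26 yg46 zg4) (kg xg20 yg12 zg27) (kg xg23 yg24 zg45) (kg xg30 yg4 zg21) (kg xg30 yg0 zg37) (kg xg18 yg29 zg18) (kg xg14 yg8 zg32) (kg xg14 yg9 zg33) (kg xg15 yg12 zg18) (kg xg14 yg8 zg21) (kg xg24 yg37 zg16) (kg xg14 yg8 zg40) (kg xg24 yg59 zg53) (kg xg23 yg14 zg50) (kg xg18 yg19 zg24) (kg xg30 yg31 zg54) (kg xg14 yg8 zg28) (kg xg29 yg55 zg2) (kg xg23 yg14 zg52)) (@D3.rec (fun _ => Pt) (kg xg14 yg8 zg29) (kg xg16 yg29 zg28) (kg xg26 yg44 zg48) (kg xg24 yg45 zg11) (kg xg31 yg11 zg33) (kg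 xg23 yg27 zg51) (kg xg26 yg8 zg23) (kg xg24 yg23 zg37) (kg xg31 yg11 zg39) (kg xg18 yg26 zg47) (kg xg18 yg36 zg55) (kg xg18 yg29 zg49) (kg xg18 yg29 zg43) (kg xg23 yg29 zg39) (kg xg26 yg22 zg47) (kg xg16 yg33 zg29) (kg xg15 yg9 zg41) (kg xg27 yg26 zg9) (kg xg31 yg8 zg8) (kg xg14 yg8 zg43) (kg xg17 yg51 zg45) (kg xg28 yg36 zg52) (kg xg24 yg59 zg0) (kg xg30 yg59 zg14) (kg xg16 yg16 zg49) (kg xg31 yg11 zg43) (kg xg14 yg8 zg46) (kg xg15 yg12 zg22) (kg xg18 yg29 zg60) (kg xg14 yg8 zg47) (kg xg15 yg14 zg15) (kg xg16 yg35 zg59) (kg xg30 yg33 zg55) (kg xg28 yg11 zg45) (kg xg30 yg51 zg55) (kg xg30 yg42 zg38) (kg xg19 yg56 zg21) (kg xg14 yg46 zg7) (kg xg31 yg8 zg23) (kg xg26 yg0 zg61) (kg xg26 yg47 zg23) (kg xg21 yg56 zg33) (kg xg14 yg8 zg55) (kg xg24 yg40 zg19) (kg xg31 yg6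 zg36) (kg xg31 yg6 zg40) (kg xg14 yg8 zg56) (kg xg16 yg13 zg0) (kg xg22 yg35 zg45) (kg xg23 yg10 zg56) (kg xg22 yg40 zg55) (kg xg14 yg8 zg59) (kg xg22 yg21 zg15) (kg xg29 yg58 zg47) (kg xg14 yg8 zg60) (kg xg29 yg58 zg49) (kg xg18 yg29 zg48) (kg xg30 yg0 zg53) (kg xg14 yg8 zg61) (kg xg27 yg25 zg61) (kg xg18 yg30 zg1) (kg xg21 yg8 zg59)) (@D3.rec (fun _ => Pt) (kg xg30 yg0 zg59) (kg xg14 yg9 zg57) (kg xg23 yg32 zg58) (kg xg27 yg35 zg23) (kg xg14 yg47 zg48) (kg xg30 yg32 zg50) (kg xg31 yg12 zg4) (kg xg26 yg10 zg15) (kg xg26 yg7 zg46) (kg xg14 yg9 zg9) (kg xg24 yg31 zg42) (kg xg22 yg37 zg59) (kg xg14 yg9 zg12) (kg xg18 yg30 zg7) (kg xg16 yg16 zg60) (kg xg29 yg58 zg51) (kg xg14 yg9 zg13) (kg xg27 yg17 zg44) (kg xg23 yg45 zg25) (kg xg14 yg9 zg56) (kg xg14 yg10 zg10) (kg xg30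 yg31 zg43) (kg xg30 yg42 zg30) (kg xg14 yg9 zg18) (kg xg19 yg26 zg32) (kg xg14 yg9 zg19) (kg xg31 yg6 zg53) (kg xg27 yg4 zg33) (kg xg30 yg0 zg35) (kg xg24 yg40 zg15) (kg xg21 yg26 zg6) (kg xg14 yg9 zg26) (kg xg30 yg1 zg6) (kg xg30 yg51 zg53) (kg xg18 yg29 zg52) (kg xg18 yg29 zg53) (kg xg27 yg4 zg23) (kg xg14 yg9 zg32) (kg xg31 yg12 zg6) (kg xg15 yg13 zg55) (kg xg15 yg12 zg19) (kg xg23 yg33 zg39) (kg xg14 yg9 zg51) (kg xg22 yg17 zg54) (kg xg31 yg12 zg8) (kg xg23 yg20 zg3) (kg xg14 yg9 zg42) (kg xg28 yg3 zg46) (kg xg26 yg6 zg57) (kg xg27 yg44 zg60) (kg xg23 yg37 zg14) (kg xg31 yg12 zg10) (kg xg19 yg14 zg50) (kg xg14 yg9 zg48) (kg xg23 yg37 zg15) (kg xg22 yg17 zg51) (kg xg31 yg12 zg14) (kg xg28 yg10 zg6) (kg xg14 yg9 zg52) (kg xg18 yg29 zg38) (kg xg30 yg13 zg9) (kg xg23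 yg43 zg3)) (@D3.rec (fun _ => Pt) (kg xg23 yg35 zg42) (kg xg14 yg9 zg55) (kg xg23 yg35 zg41) (kg xg30 yg0 zg61) (kg xg30 yg0 zg58) (kg xg31 yg11 zg60) (kg xg23 yg43 zg60) (kg xg31 yg12 zg18) (kg xg30 yg57 zg42) (kg xg26 yg8 zg49) (kg xg23 yg33 zg45) (kg xg23 yg33 zg2) (kg xg31 yg2 zg9) (kg xg30 yg57 zg9) (kg xg30 yg7 zg24) (kg xg31 yg12 zg22) (kg xg24 yg31 zg46) (kg xg19 yg14 zg42) (kg xg14 yg10 zg6) (kg xg31 yg12 zg21) (kg xg23 yg26 zg59) (kg xg25 yg36 zg39) (kg xg30 yg0 zg54) (kg xg14 yg10 zg9) (kg xg27 yg26 zg25) (kg xg21 yg20 zg2) (kg xg21 yg37 zg55) (kg xg30 yg26 zg13) (kg xg17 yg24 zg1) (kg xg31 yg12 zg27) (kg xg19 yg13 zg28) (kg xg14 yg30 zg11) (kg xg19 yg13 zg27) (kg xg28 yg54 zg39) (kg xg14 yg29 zg35) (kg xg24 yg22 zg46) (kg xg22 yg26 zg57) (kg xg31 yg12 zg32)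 (kg xg22 yg24 zg26) (kg xg24 yg29 zg41) (kg xg30 yg30 zg18) (kg xg29 yg52 zg42) (kg xg20 yg57 zg39) (kg xg28 yg20 zg24) (kg xg22 yg25 zg12) (kg xg22 yg22 zg23) (kg xg30 yg26 zg10) (kg xg29 yg38 zg9) (kg xg22 yg19 zg22) (kg xg14 yg10 zg28) (kg xg28 yg45 zg56) (kg xg22 yg19 zg19) (kg xg14 yg30 zg44) (kg xg14 yg40 zg43) (kg xg14 yg30 zg43) (kg xg14 yg10 zg32) (kg xg16 yg40 zg27) (kg xg26 yg51 zg52) (kg xg14 yg10 zg33) (kg xg14 yg40 zg39) (kg xg14 yg30 zg46) (kg xg31 yg12 zg43)) (@D3.rec (fun _ => Pt) (kg xg26 yg59 zg46) (kg xg14 yg40 zg55) (kg xg27 yg5 zg9) (kg xg22 yg42 zg32) (kg xg29 yg38 zg56) (kg xg31 yg12 zg46) (kg xg14 yg10 zg40) (kg xg14 yg25 zg55) (kg xg14 yg25 zg54) (kg xg31 yg12 zg50) (kg xg31 yg1 zg25) (kg xg14 yg44 zg11) (kg xg14 yg10 zg43) (kg xg14 yg44 zg9)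 (kg xg21 yg14 zg17) (kg xg14 yg10 zg45) (kg xg30 yg31 zg58) (kg xg23 yg3 zg15) (kg xg22 yg30 zg41) (kg xg30 yg13 zg41) (kg xg23 yg15 zg54) (kg xg14 yg10 zg50) (kg xg27 yg41 zg3) (kg xg24 yg56 zg48) (kg xg21 yg14 zg14) (kg xg26 yg26 zg21) (kg xg17 yg4 zg13) (kg xg16 yg54 zg18) (kg xg16 yg30 zg39) (kg xg30 yg32 zg15) (kg xg22 yg13 zg32) (kg xg27 yg6 zg46) (kg xg22 yg49 zg2) (kg xg23 yg5 zg40) (kg xg15 yg51 zg50) (kg xg27 yg2 zg44) (kg xg23 yg0 zg1) (kg xg25 yg53 zg15) (kg xg15 yg40 zg18) (kg xg29 yg4 zg13) (kg xg20 yg40 zg55) (kg xg23 yg12 zg12) (kg xg26 yg31 zg55) (kg xg22 yg16 zg52) (kg xg23 yg8 zg11) (kg xg22 yg12 zg50) (kg xg30 yg27 zg52) (kg xg14 yg11 zg13) (kg xg21 yg20 zg48) (kg xg27 yg29 zg28) (kg xg21 yg55 zg8) (kg xg27 yg53 zg32) (kg xg31 yg13 zg2) (kg xg21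 yg41 zg46) (kg xg14 yg36 zg12) (kg xg29 yg17 zg20) (kg xg27 yg56 zg59) (kg xg22 yg10 zg14) (kg xg24 yg43 zg35) (kg xg26 yg7 zg45) (kg xg14 yg11 zg25) (kg xg26 yg25 zg12)) (@D3.rec (fun _ => Pt) (kg xg20 yg12 zg56) (kg xg17 yg4 zg45) (kg xg21 yg41 zg53) (kg xg22 yg37 zg32) (kg xg20 yg42 zg20) (kg xg30 yg5 zg41) (kg xg14 yg29 zg22) (kg xg14 yg29 zg17) (kg xg17 yg25 zg47) (kg xg21 yg16 zg47) (kg xg24 yg19 zg53) (kg xg31 yg13 zg9) (kg xg22 yg50 zg39) (kg xg17 yg18 zg17) (kg xg14 yg11 zg44) (kg xg19 yg29 zg43) (kg xg21 yg3 zg53) (kg xg14 yg11 zg52) (kg xg20 yg53 zg44) (kg xg22 yg20 zg24) (kg xg21 yg21 zg59) (kg xg31 yg13 zg13) (kg xg20 yg17 zg17) (kg xg28 yg57 zg41) (kg xg21 yg35 zg9) (kg xg28 yg10 zg32) (kg xg28 yg10 zg19) (kg xg31 yg13 zg14) (kg xg31 yg13 zg17) (kg xg17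 yg22 zg61) (kg xg30 yg6 zg18) (kg xg14 yg25 zg25) (kg xg22 yg3 zg42) (kg xg17 yg35 zg5) (kg xg25 yg16 zg35) (kg xg23 yg50 zg5) (kg xg18 yg50 zg51) (kg xg27 yg53 zg31) (kg xg14 yg12 zg20) (kg xg20 yg33 zg54) (kg xg30 yg36 zg42) (kg xg18 yg0 zg50) (kg xg20 yg58 zg16) (kg xg21 yg40 zg6) (kg xg21 yg44 zg24) (kg xg24 yg28 zg7) (kg xg14 yg13 zg33) (kg xg26 yg25 zg50) (kg xg18 yg49 zg23) (kg xg30 yg38 zg61) (kg xg14 yg22 zg44) (kg xg21 yg51 zg3) (kg xg17 yg34 zg1) (kg xg22 yg4 zg8) (kg xg17 yg15 zg58) (kg xg14 yg12 zg42) (kg xg22 yg21 zg11) (kg xg31 yg0 zg12) (kg xg14 yg24 zg48) (kg xg14 yg13 zg1) (kg xg31 yg13 zg29) (kg xg14 yg12 zg61)) (@D3.rec (fun _ => Pt) (kg xg21 yg37 zg34) (kg xg14 yg12 zg53) (kg xg21 yg37 zg20) (kg xg28 yg38 zg42) (kg xg14 yg12 zg55) (kg xg28 yg43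 zg26) (kg xg29 yg35 zg22) (kg xg31 yg13 zg34) (kg xg31 yg13 zg36) (kg xg19 yg30 zg18) (kg xg28 yg26 zg58) (kg xg14 yg18 zg22) (kg xg30 yg30 zg39) (kg xg31 yg13 zg40) (kg xg29 yg2 zg15) (kg xg26 yg51 zg61) (kg xg30 yg38 zg4) (kg xg14 yg13 zg0) (kg xg28 yg56 zg10) (kg xg31 yg13 zg44) (kg xg31 yg13 zg30) (kg xg29 yg36 zg42) (kg xg14 yg13 zg2) (kg xg24 yg18 zg56) (kg xg30 yg39 zg32) (kg xg24 yg20 zg16) (kg xg30 yg35 zg47) (kg xg31 yg13 zg47) (kg xg30 yg35 zg58) (kg xg24 yg2 zg14) (kg xg20 yg30 zg9) (kg xg29 yg27 zg0) (kg xg22 yg37 zg35) (kg xg27 yg8 zg50) (kg xg31 yg13 zg48) (kg xg24 yg30 zg7) (kg xg14 yg13 zg11) (kg xg24 yg30 zg6) (kg xg28 yg46 zg38) (kg xg14 yg13 zg12) (kg xg28 yg17 zg29) (kg xg28 yg37 zg35) (kg xg30 yg21 zg20) (kg xg24 yg2 zg15) (kg xg14 yg13 zg14) (kg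 xg19 yg22 zg2) (kg xg30 yg34 zg23) (kg xg29 yg36 zg30) (kg xg22 yg16 zg27) (kg xg27 yg6 zg59) (kg xg28 yg53 zg47) (kg xg29 yg36 zg28) (kg xg14 yg13 zg19) (kg xg31 yg12 zg31) (kg xg30 yg38 zg42) (kg xg31 yg13 zg54) (kg xg23 yg47 zg12) (kg xg31 yg13 zg55) (kg xg27 yg6 zg51) (kg xg27 yg13 zg41) (kg xg27 yg6 zg48) (kg xg30 yg25 zg13)) (@D3.rec (fun _ => Pt) (kg xg23 yg51 zg61) (kg xg30 yg25 zg25) (kg xg30 yg30 zg19) (kg xg22 yg19 zg10) (kg xg18 yg39 zg31) (kg xg18 yg49 zg2) (kg xg27 yg9 zg7) (kg xg22 yg24 zg30) (kg xg29 yg40 zg45) (kg xg31 yg14 zg0) (kg xg18 yg0 zg15) (kg xg28 yg25 zg26) (kg xg30 yg7 zg6) (kg xg14 yg13 zg42) (kg xg30 yg14 zg47) (kg xg28 yg17 zg38) (kg xg31 yg14 zg6) (kg xg21 yg52 zg43) (kg xg30 yg39 zg7) (kg xg20 yg26 zg50) (kg xg26 yg53 zg23) (kg xg22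 yg18 zg1) (kg xg14 yg13 zg51) (kg xg20 yg26 zg48) (kg xg29 yg50 zg19) (kg xg14 yg13 zg53) (kg xg31 yg14 zg11) (kg xg20 yg40 zg47) (kg xg14 yg13 zg55) (kg xg14 yg36 zg44) (kg xg14 yg42 zg26) (kg xg27 yg8 zg7) (kg xg14 yg36 zg45) (kg xg14 yg42 zg17) (kg xg25 yg38 zg15) (kg xg23 yg58 zg42) (kg xg14 yg41 zg36) (kg xg27 yg53 zg61) (kg xg29 yg38 zg28) (kg xg27 yg54 zg11) (kg xg14 yg14 zg3) (kg xg28 yg7 zg39) (kg xg23 yg47 zg42) (kg xg21 yg41 zg47) (kg xg29 yg9 zg9) (kg xg14 yg14 zg19) (kg xg29 yg57 zg59) (kg xg21 yg18 zg47) (kg xg14 yg35 zg11) (kg xg30 yg49 zg31) (kg xg14 yg35 zg9) (kg xg14 yg18 zg12) (kg xg14 yg14 zg21) (kg xg14 yg14 zg10) (kg xg26 yg21 zg3) (kg xg26 yg14 zg45) (kg xg28 yg1 zg45) (kg xg14 yg14 zg11) (kg xg24 yg46 zg14) (kg xg20 yg0 zg9) (kg xg27 yg11 zg12)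 (kg xg31 yg14 zg21)) (@D3.rec (fun _ => Pt) (kg xg14 yg14 zg17) (kg xg29 yg21 zg5) (kg xg21 yg9 zg15) (kg xg24 yg28 zg1) (kg xg20 yg14 zg61) (kg xg21 yg26 zg10) (kg xg28 yg1 zg51) (kg xg27 yg54 zg0) (kg xg31 yg14 zg24) (kg xg19 yg21 zg31) (kg xg26 yg16 zg38) (kg xg19 yg15 zg23) (kg xg14 yg14 zg26) (kg xg26 yg16 zg4) (kg xg19 yg23 zg8) (kg xg31 yg14 zg29) (kg xg19 yg23 zg2) (kg xg18 yg29 zg35) (kg xg14 yg14 zg29) (kg xg18 yg48 zg11) (kg xg31 yg14 zg31) (kg xg31 yg14 zg33) (kg xg30 yg2 zg28) (kg xg21 yg42 zg16) (kg xg14 yg14 zg32) (kg xg18 yg22 zg49) (kg xg27 yg50 zg17) (kg xg22 yg15 zg0) (kg xg31 yg14 zg35) (kg xg27 yg50 zg11) (kg xg27 yg53 zg53) (kg xg28 yg1 zg43) (kg xg30 yg35 zg23) (kg xg31 yg14 zg40) (kg xg27 yg32 zg61) (kg xg27 yg34 zg58) (kg xg31 yg14 zg37) (kg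 xg14 yg14 zg40) (kg xg31 yg14 zg36) (kg xg14 yg27 zg28) (kg xg23 yg19 zg21) (kg xg14 yg18 zg20) (kg xg30 yg35 zg33) (kg xg14 yg14 zg43) (kg xg30 yg35 zg32) (kg xg31 yg14 zg47) (kg xg23 yg52 zg14) (kg xg23 yg4 zg29) (kg xg18 yg5 zg8) (kg xg14 yg26 zg50) (kg xg28 yg17 zg43) (kg xg22 yg18 zg12) (kg xg27 yg53 zg45) (kg xg29 yg32 zg54) (kg xg31 yg14 zg51) (kg xg27 yg52 zg41) (kg xg31 yg14 zg56) (kg xg31 yg14 zg50) (kg xg14 yg14 zg52) (kg xg29 yg38 zg40) (kg xg14 yg17 zg40) (kg xg30 yg35 zg22)) (@D3.rec (fun _ => Pt) (kg xg14 yg14 zg55) (kg xg15 yg9 zg45) (kg xg27 yg39 zg42) (kg xg30 yg35 zg34) (kg xg14 yg14 zg56) (kg xg28 yg41 zg35) (kg xg23 yg34 zg21) (kg xg30 yg43 zg1) (kg xg24 yg29 zg30) (kg xg24 yg29 zg4) (kg xg24 yg29 zg55) (kg xg14 yg14 zg59) (kg xg31 yg15 zg1) (kg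 xg24 yg29 zg54) (kg xg22 yg15 zg31) (kg xg22 yg50 zg4) (kg xg27 yg56 zg8) (kg xg28 yg8 zg58) (kg xg30 yg54 zg3) (kg xg31 yg15 zg12) (kg xg30 yg54 zg4) (kg xg24 yg54 zg3) (kg xg14 yg15 zg4) (kg xg26 yg12 zg51) (kg xg24 yg46 zg44) (kg xg30 yg35 zg42) (kg xg14 yg15 zg5) (kg xg23 yg34 zg17) (kg xg30 yg35 zg41) (kg xg18 yg47 zg49) (kg xg18 yg28 zg11) (kg xg31 yg15 zg15) (kg xg30 yg49 zg61) (kg xg14 yg15 zg8) (kg xg23 yg13 zg22) (kg xg30 yg35 zg45) (kg xg22 yg18 zg9) (kg xg14 yg15 zg10) (kg xg31 yg15 zg23) (kg xg17 yg47 zg4) (kg xg26 yg17 zg28) (kg xg19 yg22 zg40) (kg xg31 yg15 zg30) (kg xg19 yg22 zg36) (kg xg27 yg45 zg33) (kg xg27 yg45 zg34) (kg xg26 yg12 zg41) (kg xg24 yg53 zg60) (kg xg14 yg15 zg13) (kg xg26 yg13 zg6) (kg xg19 yg15 zg33) (kg xg25 yg51 zg21) (kg xg24 yg5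 zg4) (kg xg28 yg46 zg48) (kg xg27 yg56 zg4) (kg xg30 yg23 zg27) (kg xg14 yg15 zg19) (kg xg30 yg7 zg32) (kg xg30 yg7 zg30) (kg xg23 yg49 zg0) (kg xg30 yg23 zg11) (kg xg28 yg21 zg28)) (@D3.rec (fun _ => Pt) (kg xg19 yg51 zg2) (kg xg14 yg15 zg27) (kg xg23 yg53 zg26) (kg xg22 yg35 zg14) (kg xg14 yg15 zg28) (kg xg30 yg55 zg50) (kg xg22 yg56 zg15) (kg xg22 yg15 zg41) (kg xg14 yg15 zg31) (kg xg27 yg59 zg25) (kg xg23 yg50 zg46) (kg xg14 yg31 zg34) (kg xg26 yg15 zg50) (kg xg25 yg57 zg59) (kg xg22 yg34 zg42) (kg xg18 yg4 zg57) (kg xg23 yg11 zg51) (kg xg28 yg46 zg30) (kg xg30 yg14 zg44) (kg xg22 yg36 zg23) (kg xg18 yg49 zg59) (kg xg31 yg15 zg40) (kg xg30 yg46 zg46) (kg xg23 yg15 zg42) (kg xg29 yg30 zg12) (kg xg22 yg49 zg9) (kg xg30 yg39 zg9) (kg xg28 yg0 zg55) (kg xg20 yg32 zg28)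 (kg xg22 yg30 zg51) (kg xg15 yg13 zg41) (kg xg28 yg26 zg0) (kg xg22 yg30 zg55) (kg xg23 yg25 zg46) (kg xg23 yg19 zg54) (kg xg29 yg51 zg27) (kg xg14 yg15 zg51) (kg xg29 yg51 zg20) (kg xg20 yg42 zg21) (kg xg29 yg35 zg10) (kg xg22 yg14 zg9) (kg xg14 yg39 zg45) (kg xg22 yg13 zg61) (kg xg14 yg15 zg61) (kg xg22 yg39 zg44) (kg xg22 yg16 zg2) (kg xg29 yg35 zg43) (kg xg30 yg39 zg39) (kg xg31 yg15 zg45) (kg xg28 yg35 zg50) (kg xg31 yg15 zg48) (kg xg29 yg54 zg56) (kg xg14 yg16 zg5) (kg xg28 yg26 zg36) (kg xg29 yg37 zg4) (kg xg30 yg21 zg53) (kg xg19 yg52 zg37) (kg xg28 yg29 zg34) (kg xg28 yg14 zg50) (kg xg26 yg44 zg9) (kg xg14 yg16 zg9) (kg xg17 yg22 zg45)) (@D3.rec (fun _ => Pt) (kg xg24 yg11 zg35) (kg xg17 yg18 zg23) (kg xg25 yg18 zg27) (kg xg14 yg25 zg61) (kg xg23 yg58 zg5)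 (kg xg23 yg53 zg21) (kg xg21 yg44 zg57) (kg xg20 yg41 zg4) (kg xg23 yg53 zg13) (kg xg23 yg53 zg8) (kg xg25 yg36 zg10) (kg xg23 yg53 zg9) (kg xg29 yg30 zg18) (kg xg23 yg53 zg11) (kg xg14 yg26 zg32) (kg xg20 yg42 zg42) (kg xg21 yg53 zg21) (kg xg30 yg27 zg33) (kg xg28 yg53 zg9) (kg xg24 yg12 zg31) (kg xg29 yg27 zg57) (kg xg17 yg20 zg51) (kg xg31 yg15 zg59) (kg xg14 yg16 zg26) (kg xg14 yg16 zg29) (kg xg14 yg16 zg27) (kg xg24 yg13 zg60) (kg xg28 yg17 zg5) (kg xg19 yg43 zg4) (kg xg14 yg16 zg28) (kg xg21 yg36 zg45) (kg xg26 yg58 zg15) (kg xg28 yg19 zg3) (kg xg31 yg16 zg4) (kg xg30 yg18 zg42) (kg xg26 yg42 zg52) (kg xg14 yg16 zg34) (kg xg14 yg16 zg32) (kg xg28 yg49 zg55) (kg xg31 yg16 zg7) (kg xg26 yg45 zg1) (kg xg26 yg44 zg0) (kg xg14 yg16 zg33) (kg xg17 yg25 zg56) (kg xg31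 yg16 zg8) (kg xg19 yg41 zg38) (kg xg23 yg15 zg38) (kg xg22 yg18 zg27) (kg xg30 yg46 zg32) (kg xg14 yg16 zg38) (kg xg28 yg25 zg54) (kg xg17 yg21 zg56) (kg xg28 yg25 zg22) (kg xg27 yg22 zg40) (kg xg29 yg26 zg1) (kg xg18 yg32 zg20) (kg xg31 yg16 zg11) (kg xg21 yg20 zg11) (kg xg22 yg58 zg10) (kg xg14 yg16 zg45) (kg xg25 yg59 zg22) (kg xg14 yg17 zg1)) (@D3.rec (fun _ => Pt) (kg xg27 yg23 zg15) (kg xg31 yg16 zg13) (kg xg14 yg16 zg52) (kg xg31 yg16 zg15) (kg xg28 yg1 zg41) (kg xg20 yg51 zg37) (kg xg27 yg48 zg15) (kg xg26 yg4 zg9) (kg xg21 yg45 zg45) (kg xg28 yg20 zg20) (kg xg24 yg11 zg3) (kg xg14 yg23 zg35) (kg xg27 yg22 zg38) (kg xg18 yg15 zg7) (kg xg27 yg1 zg29) (kg xg31 yg16 zg22) (kg xg30 yg34 zg44) (kg xg14 yg17 zg0) (kg xg30 yg34 zg43) (kg xg27 yg6 zg24) (kg xg31 yg16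 zg26) (kg xg30 yg34 zg46) (kg xg14 yg17 zg2) (kg xg23 yg0 zg24) (kg xg30 yg34 zg49) (kg xg31 yg16 zg31) (kg xg22 yg16 zg15) (kg xg30 yg31 zg14) (kg xg22 yg58 zg6) (kg xg30 yg31 zg12) (kg xg14 yg17 zg6) (kg xg31 yg16 zg42) (kg xg28 yg8 zg16) (kg xg31 yg16 zg33) (kg xg14 yg17 zg7) (kg xg31 yg16 zg32) (kg xg14 yg48 zg17) (kg xg14 yg17 zg58) (kg xg25 yg47 zg44) (kg xg23 yg19 zg34) (kg xg16 yg0 zg23) (kg xg23 yg11 zg33) (kg xg23 yg18 zg61) (kg xg31 yg16 zg48) (kg xg30 yg36 zg36) (kg xg29 yg30 zg43) (kg xg30 yg36 zg40) (kg xg22 yg47 zg5) (kg xg30 yg32 zg60) (kg xg31 yg16 zg52) (kg xg29 yg16 zg3) (kg xg29 yg16 zg4) (kg xg14 yg17 zg19) (kg xg18 yg57 zg48) (kg xg24 yg26 zg31) (kg xg30 yg57 zg45) (kg xg30 yg34 zg57) (kg xg30 yg34 zg56) (kg xg14 yg17 zg24) (kg xg31 yg16 zg59)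 (kg xg19 yg45 zg37) (kg xg30 yg49 zg33)) (@D3.rec (fun _ => Pt) (kg xg22 yg36 zg39) (kg xg25 yg56 zg30) (kg xg30 yg34 zg53) (kg xg31 yg4 zg30) (kg xg25 yg58 zg57) (kg xg29 yg19 zg54) (kg xg14 yg17 zg30) (kg xg25 yg56 zg28) (kg xg30 yg57 zg6) (kg xg23 yg11 zg36) (kg xg14 yg27 zg9) (kg xg14 yg27 zg25) (kg xg14 yg17 zg33) (kg xg22 yg57 zg27) (kg xg14 yg27 zg24) (kg xg22 yg33 zg26) (kg xg24 yg21 zg55) (kg xg19 yg19 zg6) (kg xg30 yg36 zg39) (kg xg19 yg21 zg28) (kg xg20 yg56 zg57) (kg xg17 yg18 zg24) (kg xg17 yg18 zg22) (kg xg28 yg13 zg11) (kg xg17 yg21 zg27) (kg xg14 yg25 zg58) (kg xg21 yg16 zg8) (kg xg29 yg41 zg6) (kg xg20 yg46 zg17) (kg xg20 yg25 zg59) (kg xg14 yg17 zg50) (kg xg14 yg37 zg11) (kg xg25 yg47 zg45) (kg xg14 yg17 zg52) (kg xg14 yg22 zg40) (kg xg17 yg17 zg9)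 (kg xg29 yg52 zg33) (kg xg27 yg59 zg57) (kg xg20 yg3 zg35) (kg xg23 yg10 zg54) (kg xg21 yg44 zg32) (kg xg14 yg23 zg36) (kg xg21 yg3 zg20) (kg xg28 yg57 zg18) (kg xg20 yg1 zg46) (kg xg25 yg26 zg6) (kg xg26 yg53 zg38) (kg xg31 yg17 zg14) (kg xg14 yg25 zg1) (kg xg14 yg17 zg61) (kg xg14 yg25 zg0) (kg xg14 yg22 zg41) (kg xg19 yg34 zg39) (kg xg31 yg17 zg19) (kg xg14 yg25 zg9) (kg xg14 yg25 zg8) (kg xg30 yg56 zg43) (kg xg29 yg8 zg31) (kg xg23 yg9 zg37) (kg xg30 yg3 zg42) (kg xg14 yg25 zg29) (kg xg14 yg18 zg4)) (@D3.rec (fun _ => Pt) (kg xg14 yg25 zg27) (kg xg16 yg43 zg22) (kg xg16 yg7 zg5) (kg xg28 yg35 zg36) (kg xg15 yg15 zg10) (kg xg28 yg52 zg35) (kg xg27 yg42 zg44) (kg xg14 yg26 zg54) (kg xg14 yg26 zg53) (kg xg28 yg35 zg52) (kg xg31 yg14 zg16) (kg xg14 yg18 zg13) (kg xg19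 yg24 zg32) (kg xg30 yg19 zg53) (kg xg24 yg13 zg32) (kg xg17 yg28 zg42) (kg xg31 yg17 zg29) (kg xg14 yg27 zg14) (kg xg14 yg18 zg16) (kg xg14 yg27 zg11) (kg xg14 yg27 zg47) (kg xg14 yg27 zg31) (kg xg24 yg9 zg11) (kg xg14 yg27 zg38) (kg xg14 yg18 zg24) (kg xg14 yg27 zg37) (kg xg14 yg27 zg46) (kg xg14 yg18 zg26) (kg xg28 yg47 zg17) (kg xg14 yg18 zg28) (kg xg14 yg27 zg51) (kg xg22 yg19 zg12) (kg xg15 yg18 zg8) (kg xg27 yg44 zg3) (kg xg28 yg42 zg2) (kg xg28 yg52 zg45) (kg xg14 yg30 zg58) (kg xg28 yg42 zg12) (kg xg14 yg51 zg16) (kg xg30 yg51 zg23) (kg xg28 yg56 zg51) (kg xg23 yg5 zg60) (kg xg27 yg11 zg57) (kg xg31 yg13 zg19) (kg xg23 yg11 zg9) (kg xg28 yg47 zg33) (kg xg14 yg19 zg30) (kg xg28 yg41 zg47) (kg xg15 yg38 zg27) (kg xg24 yg2 zg37) (kg xg14 yg30 zg16) (kg xg14 yg18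 zg53) (kg xg29 yg45 zg50) (kg xg26 yg0 zg27) (kg xg24 yg1 zg10) (kg xg22 yg58 zg40) (kg xg17 yg20 zg18) (kg xg28 yg34 zg15) (kg xg30 yg53 zg14) (kg xg30 yg36 zg19) (kg xg24 yg42 zg24) (kg xg20 yg29 zg49)) (@D3.rec (fun _ => Pt) (kg xg24 yg42 zg30) (kg xg31 yg15 zg56) (kg xg24 yg39 zg5) (kg xg30 yg31 zg27) (kg xg31 yg17 zg47) (kg xg30 yg53 zg2) (kg xg22 yg58 zg29) (kg xg24 yg24 zg29) (kg xg22 yg3 zg12) (kg xg19 yg9 zg53) (kg xg26 yg43 zg48) (kg xg31 yg17 zg28) (kg xg23 yg34 zg1) (kg xg14 yg19 zg13) (kg xg27 yg21 zg29) (kg xg19 yg9 zg39) (kg xg31 yg6 zg59) (kg xg14 yg19 zg19) (kg xg14 yg31 zg53) (kg xg14 yg20 zg37) (kg xg17 yg22 zg31) (kg xg24 yg40 zg6) (kg xg23 yg55 zg46) (kg xg19 yg29 zg51) (kg xg23 yg57 zg28) (kg xg19 yg30 zg57) (kg xg17 yg21 zg13) (kg xg20 yg47 zg6)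 (kg xg24 yg28 zg32) (kg xg28 yg46 zg22) (kg xg14 yg19 zg33) (kg xg29 yg55 zg44) (kg xg19 yg13 zg37) (kg xg19 yg3 zg50) (kg xg31 yg18 zg1) (kg xg30 yg6 zg56) (kg xg22 yg22 zg31) (kg xg29 yg28 zg22) (kg xg30 yg43 zg49) (kg xg20 yg50 zg61) (kg xg22 yg52 zg58) (kg xg14 yg19 zg39) (kg xg22 yg22 zg45) (kg xg30 yg26 zg16) (kg xg30 yg26 zg15) (kg xg22 yg22 zg61) (kg xg19 yg30 zg55) (kg xg14 yg31 zg45) (kg xg23 yg57 zg45) (kg xg26 yg26 zg44) (kg xg14 yg19 zg48) (kg xg24 yg6 zg43) (kg xg30 yg26 zg21) (kg xg30 yg20 zg31) (kg xg14 yg28 zg51) (kg xg14 yg20 zg24) (kg xg14 yg19 zg53) (kg xg22 yg22 zg41) (kg xg14 yg42 zg50) (kg xg30 yg53 zg61) (kg xg14 yg28 zg52) (kg xg26 yg42 zg33)) (@D3.rec (fun _ => Pt) (kg xg22 yg34 zg27) (kg xg27 yg59 zg52) (kg xg14 yg34 zg59) (kg xg28 yg56 zg17)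 (kg xg22 yg23 zg32) (kg xg24 yg6 zg15) (kg xg22 yg52 zg20) (kg xg17 yg26 zg23) (kg xg18 yg23 zg12) (kg xg22 yg12 zg27) (kg xg23 yg56 zg42) (kg xg29 yg50 zg18) (kg xg29 yg0 zg32) (kg xg30 yg14 zg8) (kg xg31 yg10 zg47) (kg xg29 yg7 zg29) (kg xg30 yg6 zg59) (kg xg24 yg41 zg11) (kg xg14 yg20 zg27) (kg xg23 yg59 zg59) (kg xg14 yg20 zg28) (kg xg22 yg35 zg28) (kg xg14 yg38 zg23) (kg xg14 yg20 zg40) (kg xg22 yg42 zg0) (kg xg31 yg7 zg31) (kg xg23 yg59 zg46) (kg xg19 yg7 zg7) (kg xg19 yg27 zg3) (kg xg14 yg30 zg36) (kg xg22 yg51 zg12) (kg xg19 yg12 zg20) (kg xg17 yg8 zg34) (kg xg19 yg32 zg38) (kg xg14 yg20 zg42) (kg xg30 yg3 zg48) (kg xg14 yg39 zg40) (kg xg16 yg29 zg58) (kg xg14 yg20 zg45) (kg xg14 yg20 zg46) (kg xg27 yg19 zg9) (kg xg14 yg20 zg59) (kg xg24 yg10 zg24) (kg xg14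 yg36 zg54) (kg xg14 yg20 zg50) (kg xg14 yg36 zg52) (kg xg14 yg29 zg56) (kg xg17 yg52 zg4) (kg xg21 yg47 zg49) (kg xg19 yg4 zg8) (kg xg19 yg10 zg42) (kg xg14 yg24 zg6) (kg xg27 yg44 zg30) (kg xg23 yg49 zg35) (kg xg24 yg27 zg29) (kg xg14 yg37 zg10) (kg xg19 yg15 zg41) (kg xg14 yg21 zg18) (kg xg14 yg24 zg8) (kg xg14 yg21 zg6) (kg xg24 yg20 zg5) (kg xg14 yg37 zg25)) (@D3.rec (fun _ => Pt) (kg xg21 yg24 zg0) (kg xg26 yg5 zg29) (kg xg27 yg57 zg15) (kg xg19 yg47 zg34) (kg xg14 yg37 zg32) (kg xg14 yg37 zg31) (kg xg14 yg37 zg47) (kg xg16 yg12 zg45) (kg xg31 yg18 zg21) (kg xg29 yg26 zg46) (kg xg24 yg20 zg3) (kg xg19 yg56 zg19) (kg xg14 yg21 zg10) (kg xg20 yg40 zg9) (kg xg25 yg37 zg47) (kg xg24 yg37 zg42) (kg xg14 yg21 zg11) (kg xg24 yg10 zg52) (kg xg14 yg37 zg36) (kg xg31 yg14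 zg14) (kg xg14 yg34 zg2) (kg xg14 yg21 zg28) (kg xg14 yg34 zg22) (kg xg14 yg21 zg31) (kg xg19 yg12 zg50) (kg xg18 yg40 zg14) (kg xg14 yg39 zg37) (kg xg14 yg21 zg33) (kg xg29 yg58 zg27) (kg xg14 yg39 zg35) (kg xg14 yg39 zg58) (kg xg23 yg52 zg44) (kg xg14 yg32 zg49) (kg xg14 yg21 zg40) (kg xg14 yg39 zg53) (kg xg29 yg27 zg58) (kg xg26 yg48 zg8) (kg xg14 yg39 zg22) (kg xg28 yg44 zg25) (kg xg31 yg18 zg34) (kg xg23 yg39 zg15) (kg xg14 yg39 zg41) (kg xg24 yg22 zg40) (kg xg30 yg31 zg25) (kg xg14 yg23 zg2) (kg xg14 yg21 zg49) (kg xg25 yg20 zg24) (kg xg28 yg40 zg0) (kg xg14 yg41 zg37) (kg xg14 yg21 zg50) (kg xg14 yg43 zg24) (kg xg19 yg51 zg31) (kg xg31 yg18 zg41) (kg xg28 yg45 zg51) (kg xg14 yg43 zg15) (kg xg26 yg45 zg2) (kg xg31 yg18 zg46) (kg xg19 yg5 zg5) (kg xg14 yg21 zg57)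 (kg xg29 yg18 zg3) (kg xg31 yg18 zg50) (kg xg14 yg42 zg8))
def f_g_24 : D2 → D3 → Pt := @D2.rec (fun _ => D3 → Pt) (@D3.rec (fun _ => Pt) (kg xg14 yg21 zg59) (kg xg14 yg42 zg7) (kg xg14 yg41 zg29) (kg xg24 yg16 zg14) (kg xg31 yg18 zg57) (kg xg14 yg21 zg61) (kg xg14 yg42 zg16) (kg xg14 yg22 zg0) (kg xg14 yg43 zg35) (kg xg24 yg52 zg25) (kg xg19 yg4 zg53) (kg xg30 yg35 zg59) (kg xg19 yg20 zg56) (kg xg31 yg17 zg43) (kg xg14 yg41 zg51) (kg xg24 yg15 zg0) (kg xg16 yg36 zg54) (kg xg31 yg18 zg52) (kg xg14 yg41 zg41) (kg xg14 yg22 zg12) (kg xg31 yg19 zg5) (kg xg31 yg19 zg6) (kg xg14 yg42 zg20) (kg xg14 yg22 zg14) (kg xg31 yg19 zg10) (kg xg19 yg15 zg18) (kg xg31 yg18 zg53) (kg xg14 yg43 zg49) (kg xg14 yg22 zg18) (kg xg14 yg34 zg4) (kg xg27 yg18 zg57) (kg xg14 yg34 zg23) (kg xg30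 yg14 zg51) (kg xg20 yg35 zg60) (kg xg25 yg36 zg9) (kg xg20 yg35 zg13) (kg xg15 yg36 zg13) (kg xg29 yg49 zg15) (kg xg14 yg52 zg51) (kg xg19 yg37 zg32) (kg xg25 yg55 zg46) (kg xg17 yg32 zg4) (kg xg14 yg22 zg35) (kg xg20 yg37 zg23) (kg xg24 yg8 zg33) (kg xg29 yg50 zg43) (kg xg14 yg52 zg17) (kg xg14 yg22 zg37) (kg xg14 yg52 zg16) (kg xg29 yg50 zg1) (kg xg21 yg14 zg39) (kg xg14 yg24 zg13) (kg xg20 yg39 zg3) (kg xg14 yg44 zg1) (kg xg22 yg27 zg19) (kg xg14 yg22 zg54) (kg xg14 yg22 zg52) (kg xg22 yg24 zg5) (kg xg14 yg22 zg50) (kg xg22 yg23 zg57) (kg xg31 yg19 zg26) (kg xg22 yg33 zg10)) (@D3.rec (fun _ => Pt) (kg xg30 yg42 zg57) (kg xg24 yg26 zg18) (kg xg20 yg56 zg35) (kg xg31 yg19 zg34) (kg xg20 yg55 zg4) (kg xg26 yg34 zg37) (kg xg26 yg57 zg17) (kg xg30 yg35 zg9) (kg xg22 yg23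 zg49) (kg xg14 yg22 zg56) (kg xg24 yg9 zg61) (kg xg20 yg11 zg50) (kg xg14 yg22 zg57) (kg xg30 yg25 zg28) (kg xg30 yg29 zg60) (kg xg24 yg24 zg27) (kg xg30 yg12 zg0) (kg xg14 yg22 zg59) (kg xg23 yg58 zg26) (kg xg19 yg20 zg24) (kg xg19 yg4 zg58) (kg xg31 yg18 zg11) (kg xg27 yg23 zg44) (kg xg31 yg17 zg51) (kg xg31 yg18 zg37) (kg xg14 yg23 zg3) (kg xg31 yg5 zg55) (kg xg29 yg18 zg4) (kg xg22 yg21 zg10) (kg xg14 yg23 zg4) (kg xg24 yg22 zg60) (kg xg22 yg23 zg8) (kg xg28 yg26 zg43) (kg xg14 yg41 zg40) (kg xg31 yg19 zg49) (kg xg17 yg21 zg6) (kg xg17 yg21 zg31) (kg xg14 yg30 zg56) (kg xg14 yg23 zg15) (kg xg22 yg38 zg40) (kg xg14 yg23 zg16) (kg xg29 yg2 zg10) (kg xg19 yg21 zg59) (kg xg14 yg23 zg21) (kg xg29 yg1 zg15) (kg xg22 yg26 zg30) (kg xg29 yg35 zg44) (kg xg23 yg45 zg36) (kg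 xg27 yg8 zg42) (kg xg18 yg27 zg60) (kg xg15 yg56 zg15) (kg xg30 yg21 zg50) (kg xg14 yg23 zg28) (kg xg31 yg19 zg54) (kg xg14 yg23 zg31) (kg xg31 yg16 zg12) (kg xg29 yg30 zg41) (kg xg30 yg8 zg14) (kg xg23 yg50 zg8) (kg xg31 yg19 zg57) (kg xg14 yg23 zg32) (kg xg31 yg20 zg3)) (@D3.rec (fun _ => Pt) (kg xg31 yg19 zg55) (kg xg30 yg15 zg9) (kg xg21 yg40 zg21) (kg xg30 yg36 zg25) (kg xg24 yg30 zg3) (kg xg31 yg18 zg16) (kg xg23 yg51 zg35) (kg xg20 yg42 zg39) (kg xg22 yg37 zg25) (kg xg31 yg13 zg10) (kg xg14 yg29 zg61) (kg xg30 yg23 zg42) (kg xg31 yg20 zg6) (kg xg26 yg23 zg37) (kg xg14 yg36 zg56) (kg xg23 yg48 zg44) (kg xg23 yg54 zg14) (kg xg14 yg23 zg46) (kg xg23 yg27 zg42) (kg xg29 yg47 zg10) (kg xg24 yg14 zg25) (kg xg30 yg8 zg31) (kg xg31 yg17 zg8) (kg xg14 yg23 zg52) (kg xg26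 yg40 zg38) (kg xg31 yg18 zg40) (kg xg21 yg47 zg48) (kg xg14 yg47 zg50) (kg xg14 yg23 zg54) (kg xg24 yg19 zg26) (kg xg16 yg14 zg8) (kg xg21 yg40 zg20) (kg xg14 yg30 zg7) (kg xg25 yg47 zg42) (kg xg14 yg30 zg3) (kg xg14 yg23 zg58) (kg xg31 yg20 zg24) (kg xg24 yg11 zg28) (kg xg30 yg53 zg54) (kg xg25 yg47 zg43) (kg xg14 yg24 zg16) (kg xg21 yg3 zg12) (kg xg29 yg6 zg5) (kg xg29 yg26 zg19) (kg xg28 yg55 zg61) (kg xg22 yg21 zg29) (kg xg14 yg24 zg3) (kg xg31 yg20 zg34) (kg xg31 yg20 zg39) (kg xg29 yg30 zg36) (kg xg14 yg24 zg4) (kg xg20 yg48 zg42) (kg xg20 yg43 zg1) (kg xg19 yg40 zg24) (kg xg26 yg25 zg33) (kg xg21 yg47 zg55) (kg xg14 yg37 zg58) (kg xg21 yg45 zg43) (kg xg31 yg20 zg43) (kg xg23 yg56 zg49) (kg xg30 yg55 zg4) (kg xg28 yg51 zg15)) (@D3.rec (fun _ => Pt) (kg xg14 yg24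 zg32) (kg xg14 yg37 zg60) (kg xg17 yg20 zg45) (kg xg28 yg58 zg16) (kg xg30 yg47 zg30) (kg xg20 yg27 zg18) (kg xg26 yg54 zg35) (kg xg31 yg15 zg28) (kg xg28 yg59 zg55) (kg xg31 yg20 zg52) (kg xg26 yg15 zg58) (kg xg28 yg58 zg32) (kg xg28 yg59 zg21) (kg xg30 yg55 zg53) (kg xg28 yg59 zg36) (kg xg26 yg11 zg9) (kg xg28 yg57 zg5) (kg xg14 yg24 zg21) (kg xg30 yg11 zg16) (kg xg29 yg15 zg25) (kg xg30 yg56 zg46) (kg xg20 yg58 zg3) (kg xg31 yg20 zg60) (kg xg27 yg0 zg23) (kg xg14 yg52 zg38) (kg xg26 yg52 zg23) (kg xg29 yg46 zg30) (kg xg31 yg21 zg4) (kg xg28 yg54 zg41) (kg xg16 yg40 zg43) (kg xg31 yg20 zg61) (kg xg14 yg24 zg28) (kg xg29 yg1 zg12) (kg xg31 yg17 zg41) (kg xg16 yg40 zg8) (kg xg29 yg1 zg7) (kg xg14 yg24 zg34) (kg xg21 yg1 zg44) (kg xg24 yg5 zg6) (kg xg24 yg34 zg59) (kg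 xg17 yg4 zg10) (kg xg22 yg21 zg38) (kg xg14 yg47 zg4) (kg xg31 yg17 zg10) (kg xg31 yg21 zg12) (kg xg14 yg29 zg0) (kg xg15 yg2 zg60) (kg xg26 yg6 zg36) (kg xg29 yg29 zg10) (kg xg31 yg20 zg32) (kg xg27 yg36 zg61) (kg xg20 yg12 zg10) (kg xg22 yg21 zg32) (kg xg14 yg24 zg46) (kg xg31 yg21 zg22) (kg xg26 yg54 zg34) (kg xg31 yg21 zg29) (kg xg31 yg21 zg13) (kg xg14 yg24 zg47) (kg xg31 yg21 zg35) (kg xg30 yg9 zg3) (kg xg28 yg38 zg44)) (@D3.rec (fun _ => Pt) (kg xg25 yg26 zg8) (kg xg25 yg26 zg9) (kg xg31 yg21 zg38) (kg xg28 yg58 zg1) (kg xg14 yg24 zg50) (kg xg24 yg5 zg19) (kg xg20 yg30 zg29) (kg xg30 yg39 zg29) (kg xg14 yg24 zg53) (kg xg28 yg52 zg9) (kg xg28 yg46 zg31) (kg xg23 yg12 zg60) (kg xg31 yg21 zg43) (kg xg24 yg14 zg43) (kg xg28 yg58 zg31) (kg xg31 yg21 zg50) (kg xg26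 yg40 zg52) (kg xg31 yg21 zg45) (kg xg14 yg24 zg58) (kg xg31 yg21 zg44) (kg xg24 yg11 zg47) (kg xg17 yg58 zg59) (kg xg19 yg34 zg57) (kg xg24 yg11 zg45) (kg xg14 yg24 zg60) (kg xg31 yg21 zg57) (kg xg24 yg11 zg37) (kg xg25 yg41 zg22) (kg xg29 yg1 zg3) (kg xg23 yg57 zg22) (kg xg29 yg13 zg31) (kg xg14 yg25 zg3) (kg xg29 yg41 zg15) (kg xg26 yg54 zg40) (kg xg19 yg58 zg23) (kg xg31 yg21 zg60) (kg xg14 yg25 zg4) (kg xg27 yg43 zg9) (kg xg24 yg11 zg41) (kg xg24 yg11 zg40) (kg xg14 yg34 zg35) (kg xg24 yg11 zg51) (kg xg14 yg25 zg6) (kg xg31 yg22 zg8) (kg xg23 yg11 zg28) (kg xg23 yg54 zg23) (kg xg19 yg8 zg39) (kg xg25 yg51 zg46) (kg xg31 yg17 zg39) (kg xg22 yg22 zg7) (kg xg14 yg25 zg12) (kg xg19 yg2 zg59) (kg xg31 yg22 zg9) (kg xg26 yg51 zg32) (kg xg25 yg51 zg42) (kg xg20 yg18 zg3)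 (kg xg24 yg2 zg60) (kg xg14 yg25 zg16) (kg xg23 yg11 zg8) (kg xg20 yg53 zg52) (kg xg14 yg25 zg17) (kg xg23 yg9 zg39)) (@D3.rec (fun _ => Pt) (kg xg23 yg41 zg47) (kg xg26 yg11 zg3) (kg xg24 yg34 zg57) (kg xg28 yg30 zg23) (kg xg24 yg3 zg38) (kg xg16 yg17 zg60) (kg xg23 yg51 zg52) (kg xg23 yg9 zg14) (kg xg23 yg15 zg52) (kg xg23 yg21 zg27) (kg xg20 yg20 zg43) (kg xg14 yg25 zg24) (kg xg17 yg22 zg17) (kg xg27 yg23 zg6) (kg xg29 yg1 zg8) (kg xg24 yg4 zg5) (kg xg31 yg13 zg7) (kg xg24 yg20 zg30) (kg xg29 yg28 zg4) (kg xg22 yg56 zg28) (kg xg24 yg19 zg54) (kg xg30 yg38 zg1) (kg xg14 yg25 zg28) (kg xg30 yg38 zg0) (kg xg30 yg45 zg5) (kg xg22 yg51 zg16) (kg xg17 yg0 zg48) (kg xg22 yg53 zg4) (kg xg28 yg13 zg6) (kg xg22 yg53 zg6) (kg xg20 yg9 zg0) (kg xg23 yg2 zg17) (kg xg29 yg24 zg8)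 (kg xg22 yg51 zg9) (kg xg20 yg31 zg2) (kg xg30 yg49 zg55) (kg xg30 yg46 zg26) (kg xg20 yg18 zg9) (kg xg23 yg7 zg43) (kg xg25 yg59 zg28) (kg xg14 yg25 zg44) (kg xg30 yg55 zg28) (kg xg14 yg25 zg45) (kg xg15 yg59 zg22) (kg xg23 yg13 zg42) (kg xg22 yg32 zg59) (kg xg19 yg24 zg3) (kg xg29 yg8 zg16) (kg xg14 yg43 zg13) (kg xg14 yg25 zg53) (kg xg23 yg5 zg55) (kg xg31 yg12 zg51) (kg xg22 yg27 zg39) (kg xg27 yg21 zg8) (kg xg20 yg48 zg49) (kg xg20 yg49 zg22) (kg xg31 yg19 zg38) (kg xg14 yg26 zg13) (kg xg15 yg26 zg48) (kg xg20 yg42 zg43) (kg xg28 yg56 zg27) (kg xg22 yg20 zg35)) (@D3.rec (fun _ => Pt) (kg xg28 yg22 zg58) (kg xg31 yg22 zg35) (kg xg30 yg53 zg1) (kg xg14 yg26 zg41) (kg xg14 yg26 zg5) (kg xg30 yg46 zg3) (kg xg29 yg27 zg5) (kg xg20 yg41 zg45) (kg xg14 yg26 zg7) (kg xg30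 yg21 zg40) (kg xg14 yg26 zg8) (kg xg19 yg33 zg43) (kg xg17 yg17 zg27) (kg xg29 yg38 zg29) (kg xg14 yg26 zg17) (kg xg31 yg15 zg52) (kg xg31 yg22 zg32) (kg xg14 yg26 zg16) (kg xg27 yg11 zg15) (kg xg23 yg49 zg31) (kg xg27 yg21 zg24) (kg xg27 yg16 zg51) (kg xg28 yg53 zg23) (kg xg26 yg43 zg35) (kg xg28 yg56 zg19) (kg xg14 yg52 zg56) (kg xg14 yg48 zg21) (kg xg14 yg26 zg25) (kg xg22 yg57 zg16) (kg xg30 yg56 zg13) (kg xg30 yg49 zg4) (kg xg19 yg41 zg36) (kg xg14 yg26 zg29) (kg xg14 yg26 zg27) (kg xg31 yg22 zg55) (kg xg14 yg26 zg28) (kg xg16 yg46 zg35) (kg xg18 yg53 zg3) (kg xg31 yg15 zg55) (kg xg28 yg56 zg21) (kg xg14 yg26 zg30) (kg xg21 yg15 zg58) (kg xg22 yg21 zg22) (kg xg29 yg32 zg24) (kg xg14 yg26 zg35) (kg xg30 yg50 zg43) (kg xg30 yg52 zg60) (kg xg14 yg26 zg34) (kg xg29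 yg41 zg5) (kg xg31 yg22 zg60) (kg xg28 yg56 zg25) (kg xg27 yg2 zg59) (kg xg31 yg22 zg61) (kg xg22 yg59 zg7) (kg xg22 yg59 zg14) (kg xg22 yg59 zg16) (kg xg31 yg23 zg7) (kg xg22 yg59 zg3) (kg xg28 yg53 zg44) (kg xg14 yg26 zg40) (kg xg30 yg43 zg25) (kg xg30 yg20 zg49)) (@D3.rec (fun _ => Pt) (kg xg31 yg22 zg41) (kg xg18 yg21 zg9) (kg xg18 yg21 zg23) (kg xg28 yg36 zg26) (kg xg28 yg45 zg9) (kg xg14 yg26 zg44) (kg xg18 yg21 zg25) (kg xg14 yg26 zg59) (kg xg14 yg26 zg45) (kg xg21 yg52 zg58) (kg xg17 yg35 zg33) (kg xg14 yg26 zg46) (kg xg14 yg31 zg40) (kg xg28 yg50 zg39) (kg xg14 yg31 zg33) (kg xg14 yg26 zg61) (kg xg25 yg49 zg28) (kg xg22 yg9 zg52) (kg xg19 yg40 zg60) (kg xg18 yg57 zg56) (kg xg14 yg27 zg7) (kg xg30 yg8 zg29) (kg xg18 yg57 zg27) (kg xg20 yg40 zg30) (kg xg21 yg5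 zg52) (kg xg31 yg17 zg25) (kg xg14 yg26 zg56) (kg xg17 yg20 zg8) (kg xg28 yg35 zg37) (kg xg25 yg51 zg5) (kg xg17 yg18 zg30) (kg xg22 yg8 zg32) (kg xg21 yg52 zg15) (kg xg27 yg29 zg36) (kg xg31 yg23 zg18) (kg xg24 yg23 zg11) (kg xg24 yg29 zg22) (kg xg20 yg1 zg26) (kg xg28 yg26 zg32) (kg xg26 yg24 zg45) (kg xg29 yg51 zg4) (kg xg31 yg17 zg30) (kg xg14 yg27 zg6) (kg xg22 yg30 zg2) (kg xg27 yg16 zg55) (kg xg23 yg0 zg27) (kg xg30 yg34 zg59) (kg xg17 yg32 zg8) (kg xg30 yg19 zg50) (kg xg22 yg54 zg53) (kg xg29 yg47 zg49) (kg xg15 yg39 zg19) (kg xg27 yg22 zg42) (kg xg25 yg21 zg54) (kg xg27 yg22 zg41) (kg xg14 yg27 zg13) (kg xg15 yg31 zg43) (kg xg15 yg17 zg16) (kg xg28 yg36 zg29) (kg xg28 yg36 zg2) (kg xg29 yg20 zg1) (kg xg14 yg27 zg19)) (@D3.rec (fun _ => Pt) (kg xg28 yg58 zg60)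 (kg xg31 yg23 zg29) (kg xg30 yg48 zg33) (kg xg15 yg46 zg56) (kg xg31 yg17 zg3) (kg xg14 yg27 zg22) (kg xg15 yg38 zg42) (kg xg22 yg57 zg31) (kg xg16 yg46 zg40) (kg xg22 yg33 zg36) (kg xg23 yg13 zg37) (kg xg19 yg40 zg59) (kg xg23 yg4 zg51) (kg xg28 yg0 zg18) (kg xg29 yg32 zg8) (kg xg29 yg32 zg19) (kg xg29 yg19 zg57) (kg xg14 yg27 zg32) (kg xg29 yg54 zg41) (kg xg14 yg41 zg60) (kg xg14 yg27 zg35) (kg xg29 yg49 zg21) (kg xg24 yg9 zg14) (kg xg23 yg26 zg34) (kg xg29 yg32 zg10) (kg xg28 yg34 zg61) (kg xg29 yg40 zg39) (kg xg14 yg28 zg29) (kg xg24 yg14 zg3) (kg xg14 yg27 zg42) (kg xg24 yg13 zg50) (kg xg28 yg11 zg16) (kg xg29 yg32 zg11) (kg xg14 yg27 zg55) (kg xg31 yg23 zg33) (kg xg28 yg34 zg55) (kg xg14 yg27 zg45) (kg xg30 yg12 zg4) (kg xg29 yg32 zg26) (kg xg29 yg31 zg11) (kg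 xg14 yg27 zg48) (kg xg22 yg9 zg30) (kg xg28 yg50 zg55) (kg xg24 yg59 zg33) (kg xg30 yg51 zg35) (kg xg22 yg54 zg51) (kg xg22 yg55 zg0) (kg xg24 yg38 zg47) (kg xg25 yg35 zg41) (kg xg14 yg27 zg60) (kg xg22 yg54 zg45) (kg xg22 yg55 zg59) (kg xg20 yg43 zg58) (kg xg14 yg27 zg61) (kg xg22 yg59 zg8) (kg xg28 yg23 zg37) (kg xg21 yg3 zg19) (kg xg24 yg13 zg46) (kg xg25 yg59 zg43) (kg xg22 yg54 zg35) (kg xg30 yg38 zg56) (kg xg19 yg29 zg57)) (@D3.rec (fun _ => Pt) (kg xg22 yg22 zg40) (kg xg30 yg26 zg17) (kg xg30 yg49 zg16) (kg xg22 yg21 zg4) (kg xg14 yg28 zg6) (kg xg28 yg50 zg11) (kg xg24 yg9 zg2) (kg xg27 yg12 zg61) (kg xg14 yg28 zg7) (kg xg29 yg29 zg27) (kg xg31 yg23 zg43) (kg xg24 yg8 zg22) (kg xg30 yg49 zg18) (kg xg27 yg9 zg54) (kg xg23 yg56 zg22) (kg xg16 yg28 zg32) (kg xg14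 yg28 zg11) (kg xg22 yg53 zg22) (kg xg23 yg46 zg44) (kg xg30 yg46 zg2) (kg xg14 yg28 zg14) (kg xg22 yg52 zg38) (kg xg22 yg55 zg53) (kg xg14 yg28 zg17) (kg xg22 yg55 zg52) (kg xg23 yg3 zg38) (kg xg22 yg55 zg57) (kg xg14 yg28 zg21) (kg xg22 yg55 zg56) (kg xg14 yg28 zg27) (kg xg23 yg11 zg10) (kg xg20 yg52 zg40) (kg xg29 yg32 zg21) (kg xg14 yg28 zg30) (kg xg26 yg10 zg10) (kg xg28 yg13 zg41) (kg xg28 yg27 zg55) (kg xg22 yg54 zg39) (kg xg28 yg12 zg13) (kg xg21 yg11 zg50) (kg xg22 yg48 zg11) (kg xg28 yg12 zg10) (kg xg18 yg21 zg57) (kg xg30 yg44 zg19) (kg xg14 yg28 zg35) (kg xg23 yg0 zg15) (kg xg21 yg40 zg52) (kg xg14 yg29 zg37) (kg xg21 yg40 zg54) (kg xg24 yg42 zg54) (kg xg14 yg28 zg41) (kg xg30 yg11 zg45) (kg xg22 yg1 zg19) (kg xg30 yg11 zg54) (kg xg20 yg48 zg14) (kg xg24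 yg29 zg52) (kg xg21 yg41 zg15) (kg xg30 yg37 zg28) (kg xg24 yg1 zg9) (kg xg29 yg39 zg60) (kg xg25 yg32 zg19) (kg xg22 yg40 zg59)) (@D3.rec (fun _ => Pt) (kg xg26 yg36 zg42) (kg xg28 yg13 zg12) (kg xg15 yg28 zg4) (kg xg14 yg28 zg53) (kg xg14 yg38 zg22) (kg xg21 yg22 zg12) (kg xg14 yg29 zg26) (kg xg14 yg29 zg38) (kg xg14 yg29 zg28) (kg xg14 yg29 zg31) (kg xg24 yg37 zg21) (kg xg14 yg29 zg36) (kg xg28 yg50 zg24) (kg xg29 yg25 zg23) (kg xg26 yg2 zg27) (kg xg26 yg0 zg39) (kg xg24 yg22 zg30) (kg xg17 yg55 zg2) (kg xg30 yg38 zg50) (kg xg14 yg29 zg10) (kg xg31 yg3 zg8) (kg xg14 yg29 zg13) (kg xg21 yg1 zg8) (kg xg21 yg45 zg26) (kg xg23 yg58 zg53) (kg xg14 yg29 zg21) (kg xg14 yg29 zg19) (kg xg27 yg11 zg47) (kg xg27 yg2 zg51) (kg xg25 yg51 zg56) (kg xg27 yg2 zg1) (kg xg21 yg52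 zg35) (kg xg22 yg37 zg27) (kg xg17 yg22 zg50) (kg xg28 yg47 zg35) (kg xg26 yg5 zg10) (kg xg20 yg30 zg28) (kg xg23 yg41 zg51) (kg xg31 yg16 zg45) (kg xg29 yg2 zg26) (kg xg24 yg25 zg59) (kg xg31 yg10 zg34) (kg xg24 yg32 zg25) (kg xg29 yg52 zg5) (kg xg30 yg44 zg2) (kg xg23 yg41 zg6) (kg xg30 yg30 zg36) (kg xg31 yg18 zg25) (kg xg14 yg29 zg39) (kg xg31 yg22 zg19) (kg xg31 yg17 zg23) (kg xg22 yg41 zg41) (kg xg14 yg29 zg42) (kg xg22 yg21 zg25) (kg xg28 yg47 zg61) (kg xg14 yg29 zg45) (kg xg28 yg47 zg34) (kg xg23 yg30 zg42) (kg xg29 yg29 zg21) (kg xg27 yg2 zg28) (kg xg14 yg29 zg54) (kg xg31 yg24 zg9)) (@D3.rec (fun _ => Pt) (kg xg23 yg58 zg9) (kg xg23 yg54 zg10) (kg xg24 yg23 zg26) (kg xg24 yg57 zg24) (kg xg31 yg24 zg15) (kg xg26 yg23 zg42) (kg xg22 yg37 zg38) (kg xg22 yg39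 zg22) (kg xg24 yg15 zg52) (kg xg23 yg5 zg58) (kg xg21 yg50 zg55) (kg xg15 yg31 zg23) (kg xg14 yg30 zg12) (kg xg30 yg37 zg47) (kg xg14 yg52 zg36) (kg xg20 yg48 zg33) (kg xg26 yg15 zg54) (kg xg28 yg41 zg39) (kg xg31 yg24 zg20) (kg xg20 yg3 zg34) (kg xg28 yg53 zg59) (kg xg31 yg24 zg22) (kg xg15 yg18 zg53) (kg xg25 yg11 zg53) (kg xg17 yg45 zg10) (kg xg30 yg9 zg23) (kg xg14 yg30 zg18) (kg xg25 yg9 zg58) (kg xg24 yg2 zg59) (kg xg19 yg28 zg31) (kg xg22 yg23 zg15) (kg xg14 yg30 zg21) (kg xg31 yg24 zg29) (kg xg19 yg52 zg1) (kg xg23 yg53 zg0) (kg xg14 yg30 zg22) (kg xg26 yg57 zg4) (kg xg14 yg30 zg26) (kg xg24 yg25 zg13) (kg xg24 yg4 zg39) (kg xg14 yg30 zg25) (kg xg15 yg34 zg61) (kg xg31 yg24 zg33) (kg xg24 yg16 zg3) (kg xg28 yg41 zg52) (kg xg24 yg4 zg24) (kg xg24 yg4 zg21) (kg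 xg20 yg42 zg33) (kg xg31 yg24 zg41) (kg xg25 yg32 zg8) (kg xg30 yg56 zg32) (kg xg24 yg4 zg42) (kg xg14 yg30 zg32) (kg xg24 yg16 zg7) (kg xg16 yg43 zg40) (kg xg19 yg36 zg14) (kg xg14 yg30 zg33) (kg xg19 yg12 zg16) (kg xg25 yg50 zg18) (kg xg28 yg41 zg53) (kg xg30 yg56 zg0) (kg xg29 yg48 zg5)) (@D3.rec (fun _ => Pt) (kg xg22 yg23 zg38) (kg xg14 yg30 zg41) (kg xg29 yg25 zg53) (kg xg14 yg38 zg4) (kg xg16 yg40 zg29) (kg xg31 yg24 zg54) (kg xg16 yg40 zg23) (kg xg29 yg33 zg2) (kg xg28 yg42 zg16) (kg xg24 yg38 zg34) (kg xg30 yg43 zg53) (kg xg16 yg34 zg17) (kg xg29 yg14 zg36) (kg xg22 yg20 zg18) (kg xg19 yg8 zg38) (kg xg16 yg34 zg28) (kg xg18 yg50 zg19) (kg xg31 yg25 zg0) (kg xg27 yg53 zg2) (kg xg14 yg31 zg26) (kg xg19 yg8 zg4) (kg xg14 yg30 zg54) (kg xg20 yg3 zg23) (kg xg14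 yg51 zg52) (kg xg29 yg2 zg14) (kg xg23 yg56 zg32) (kg xg28 yg47 zg54) (kg xg25 yg12 zg44) (kg xg27 yg44 zg5) (kg xg28 yg37 zg50) (kg xg20 yg41 zg56) (kg xg23 yg53 zg17) (kg xg28 yg56 zg16) (kg xg14 yg31 zg0) (kg xg24 yg48 zg19) (kg xg27 yg23 zg57) (kg xg14 yg31 zg1) (kg xg26 yg54 zg9) (kg xg26 yg32 zg41) (kg xg31 yg25 zg8) (kg xg20 yg27 zg22) (kg xg19 yg2 zg41) (kg xg28 yg15 zg53) (kg xg18 yg11 zg57) (kg xg26 yg45 zg25) (kg xg14 yg31 zg8) (kg xg30 yg39 zg44) (kg xg23 yg53 zg40) (kg xg19 yg7 zg27) (kg xg31 yg25 zg14) (kg xg21 yg10 zg50) (kg xg28 yg36 zg32) (kg xg30 yg49 zg21) (kg xg25 yg50 zg43) (kg xg23 yg8 zg37) (kg xg20 yg6 zg29) (kg xg27 yg9 zg37) (kg xg22 yg20 zg17) (kg xg31 yg25 zg18) (kg xg14 yg31 zg16) (kg xg24 yg39 zg7) (kg xg23 yg20 zg22)) (@D3.rec (fun _ =>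 Pt) (kg xg31 yg25 zg22) (kg xg30 yg48 zg5) (kg xg16 yg34 zg36) (kg xg28 yg31 zg57) (kg xg19 yg8 zg36) (kg xg20 yg24 zg20) (kg xg16 yg38 zg38) (kg xg18 yg47 zg25) (kg xg27 yg47 zg52) (kg xg22 yg20 zg16) (kg xg28 yg17 zg61) (kg xg31 yg24 zg61) (kg xg14 yg31 zg24) (kg xg31 yg6 zg58) (kg xg18 yg34 zg27) (kg xg18 yg12 zg18) (kg xg23 yg8 zg43) (kg xg31 yg25 zg34) (kg xg31 yg25 zg32) (kg xg31 yg25 zg39) (kg xg14 yg31 zg27) (kg xg31 yg23 zg38) (kg xg15 yg8 zg53) (kg xg26 yg24 zg25) (kg xg31 yg25 zg3) (kg xg14 yg31 zg28) (kg xg31 yg17 zg33) (kg xg27 yg49 zg43) (kg xg27 yg53 zg5) (kg xg18 yg11 zg59) (kg xg14 yg31 zg30) (kg xg30 yg26 zg56) (kg xg23 yg56 zg12) (kg xg14 yg31 zg38) (kg xg29 yg37 zg14) (kg xg30 yg19 zg54) (kg xg30 yg51 zg10) (kg xg14 yg31 zg44) (kg xg22 yg29 zg57)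 (kg xg31 yg17 zg50) (kg xg19 yg27 zg13) (kg xg30 yg19 zg57) (kg xg16 yg27 zg30) (kg xg25 yg31 zg41) (kg xg15 yg33 zg2) (kg xg15 yg33 zg0) (kg xg24 yg8 zg59) (kg xg31 yg17 zg49) (kg xg24 yg8 zg30) (kg xg29 yg40 zg48) (kg xg14 yg31 zg61) (kg xg24 yg25 zg15) (kg xg14 yg31 zg54) (kg xg30 yg12 zg3) (kg xg30 yg11 zg48) (kg xg14 yg31 zg56) (kg xg31 yg25 zg53) (kg xg24 yg13 zg59) (kg xg24 yg13 zg57) (kg xg14 yg31 zg57) (kg xg31 yg15 zg37) (kg xg19 yg15 zg28)) (@D3.rec (fun _ => Pt) (kg xg28 yg57 zg7) (kg xg21 yg4 zg36) (kg xg25 yg12 zg46) (kg xg24 yg8 zg29) (kg xg21 yg5 zg46) (kg xg14 yg32 zg2) (kg xg14 yg32 zg4) (kg xg30 yg47 zg36) (kg xg22 yg53 zg29) (kg xg25 yg31 zg43) (kg xg14 yg32 zg3) (kg xg30 yg43 zg31) (kg xg22 yg47 zg61) (kg xg30 yg19 zg58) (kg xg25 yg5 zg32) (kg xg25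 yg24 zg53) (kg xg14 yg32 zg5) (kg xg26 yg26 zg55) (kg xg30 yg37 zg20) (kg xg14 yg33 zg35) (kg xg14 yg32 zg36) (kg xg14 yg32 zg11) (kg xg27 yg46 zg57) (kg xg14 yg32 zg47) (kg xg14 yg32 zg14) (kg xg23 yg55 zg35) (kg xg27 yg9 zg3) (kg xg20 yg41 zg44) (kg xg27 yg9 zg20) (kg xg22 yg23 zg40) (kg xg15 yg51 zg33) (kg xg14 yg32 zg17) (kg xg20 yg58 zg8) (kg xg27 yg6 zg36) (kg xg26 yg25 zg48) (kg xg21 yg1 zg25) (kg xg18 yg54 zg4) (kg xg29 yg54 zg48) (kg xg23 yg13 zg13) (kg xg22 yg12 zg38) (kg xg30 yg48 zg37) (kg xg30 yg45 zg11) (kg xg30 yg55 zg52) (kg xg14 yg32 zg27) (kg xg20 yg53 zg61) (kg xg24 yg3 zg28) (kg xg25 yg17 zg5) (kg xg14 yg47 zg51) (kg xg27 yg23 zg24) (kg xg22 yg23 zg14) (kg xg14 yg32 zg32) (kg xg20 yg16 zg29) (kg xg19 yg11 zg7) (kg xg17 yg33 zg39) (kg xg21 yg3 zg50)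 (kg xg30 yg21 zg48) (kg xg21 yg3 zg54) (kg xg31 yg10 zg5) (kg xg14 yg33 zg42) (kg xg14 yg32 zg38) (kg xg20 yg49 zg38) (kg xg14 yg34 zg5)) (@D3.rec (fun _ => Pt) (kg xg24 yg0 zg16) (kg xg27 yg2 zg38) (kg xg14 yg34 zg0) (kg xg24 yg0 zg3) (kg xg31 yg26 zg26) (kg xg20 yg35 zg28) (kg xg27 yg14 zg18) (kg xg20 yg59 zg16) (kg xg31 yg26 zg28) (kg xg14 yg32 zg46) (kg xg14 yg34 zg21) (kg xg22 yg50 zg50) (kg xg19 yg3 zg36) (kg xg31 yg26 zg34) (kg xg28 yg56 zg60) (kg xg14 yg34 zg31) (kg xg14 yg34 zg30) (kg xg31 yg9 zg46) (kg xg18 yg52 zg33) (kg xg14 yg33 zg43) (kg xg14 yg32 zg54) (kg xg14 yg33 zg18) (kg xg17 yg23 zg11) (kg xg17 yg19 zg15) (kg xg20 yg46 zg46) (kg xg14 yg32 zg59) (kg xg21 yg39 zg10) (kg xg20 yg46 zg50) (kg xg23 yg13 zg7) (kg xg22 yg18 zg24) (kg xg21 yg4 zg38) (kg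 xg24 yg38 zg50) (kg xg22 yg23 zg34) (kg xg21 yg16 zg27) (kg xg17 yg29 zg0) (kg xg31 yg23 zg17) (kg xg28 yg30 zg45) (kg xg17 yg21 zg30) (kg xg14 yg33 zg20) (kg xg21 yg40 zg4) (kg xg17 yg20 zg5) (kg xg17 yg3 zg6) (kg xg19 yg23 zg14) (kg xg29 yg3 zg25) (kg xg28 yg44 zg61) (kg xg31 yg26 zg21) (kg xg14 yg33 zg26) (kg xg31 yg26 zg37) (kg xg29 yg26 zg61) (kg xg20 yg43 zg13) (kg xg26 yg33 zg44) (kg xg28 yg48 zg2) (kg xg31 yg26 zg48) (kg xg30 yg56 zg56) (kg xg25 yg47 zg24) (kg xg14 yg33 zg56) (kg xg22 yg21 zg44) (kg xg29 yg34 zg58) (kg xg31 yg26 zg50) (kg xg19 yg12 zg8) (kg xg29 yg41 zg10) (kg xg30 yg15 zg5)) (@D3.rec (fun _ => Pt) (kg xg29 yg50 zg14) (kg xg14 yg33 zg37) (kg xg17 yg32 zg53) (kg xg24 yg50 zg26) (kg xg16 yg46 zg1) (kg xg15 yg20 zg36) (kg xg24 yg11 zg53) (kg xg14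 yg33 zg40) (kg xg31 yg26 zg55) (kg xg25 yg49 zg56) (kg xg17 yg59 zg7) (kg xg20 yg49 zg36) (kg xg17 yg59 zg0) (kg xg29 yg37 zg11) (kg xg24 yg26 zg57) (kg xg25 yg11 zg32) (kg xg28 yg43 zg3) (kg xg14 yg33 zg49) (kg xg15 yg21 zg25) (kg xg24 yg26 zg12) (kg xg24 yg27 zg43) (kg xg31 yg26 zg61) (kg xg23 yg19 zg14) (kg xg14 yg33 zg54) (kg xg23 yg19 zg12) (kg xg25 yg49 zg50) (kg xg25 yg15 zg5) (kg xg19 yg44 zg25) (kg xg27 yg17 zg16) (kg xg31 yg26 zg22) (kg xg15 yg21 zg22) (kg xg14 yg33 zg59) (kg xg19 yg45 zg29) (kg xg31 yg27 zg4) (kg xg19 yg19 zg43) (kg xg14 yg53 zg11) (kg xg22 yg26 zg3) (kg xg22 yg36 zg61) (kg xg22 yg36 zg60) (kg xg27 yg18 zg59) (kg xg31 yg26 zg38) (kg xg30 yg16 zg20) (kg xg31 yg27 zg7) (kg xg24 yg1 zg34) (kg xg19 yg45 zg53) (kg xg25 yg56 zg58) (kg xg24 yg26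 zg6) (kg xg19 yg6 zg60) (kg xg14 yg34 zg14) (kg xg24 yg8 zg21) (kg xg31 yg18 zg55) (kg xg27 yg23 zg61) (kg xg14 yg34 zg15) (kg xg18 yg30 zg47) (kg xg31 yg26 zg35) (kg xg14 yg34 zg17) (kg xg20 yg42 zg32) (kg xg30 yg8 zg9) (kg xg27 yg21 zg28) (kg xg29 yg4 zg20) (kg xg25 yg36 zg25) (kg xg14 yg34 zg19)) (@D3.rec (fun _ => Pt) (kg xg19 yg37 zg30) (kg xg25 yg25 zg42) (kg xg25 yg59 zg57) (kg xg14 yg34 zg34) (kg xg29 yg32 zg34) (kg xg30 yg27 zg49) (kg xg17 yg28 zg36) (kg xg19 yg12 zg47) (kg xg31 yg27 zg25) (kg xg31 yg18 zg61) (kg xg29 yg45 zg39) (kg xg31 yg27 zg24) (kg xg14 yg34 zg25) (kg xg31 yg27 zg23) (kg xg28 yg48 zg20) (kg xg14 yg34 zg26) (kg xg31 yg11 zg15) (kg xg21 yg21 zg11) (kg xg28 yg57 zg54) (kg xg14 yg34 zg28) (kg xg18 yg52 zg35) (kg xg30 yg56 zg55) (kg xg14 yg34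 zg37) (kg xg22 yg13 zg8) (kg xg31 yg27 zg35) (kg xg18 yg52 zg26) (kg xg31 yg9 zg50) (kg xg24 yg52 zg2) (kg xg17 yg28 zg16) (kg xg25 yg29 zg7) (kg xg29 yg56 zg41) (kg xg31 yg27 zg41) (kg xg28 yg58 zg15) (kg xg14 yg34 zg39) (kg xg14 yg34 zg42) (kg xg21 yg29 zg53) (kg xg29 yg5 zg44) (kg xg20 yg59 zg26) (kg xg14 yg34 zg40) (kg xg31 yg27 zg45) (kg xg24 yg54 zg20) (kg xg23 yg39 zg47) (kg xg29 yg0 zg21) (kg xg31 yg9 zg37) (kg xg31 yg9 zg38) (kg xg14 yg34 zg41) (kg xg31 yg27 zg53) (kg xg14 yg53 zg25) (kg xg14 yg34 zg43) (kg xg26 yg46 zg18) (kg xg17 yg59 zg2) (kg xg14 yg34 zg44) (kg xg23 yg56 zg6) (kg xg19 yg3 zg52) (kg xg29 yg0 zg48) (kg xg31 yg19 zg13) (kg xg22 yg24 zg27) (kg xg19 yg3 zg38) (kg xg17 yg23 zg7) (kg xg14 yg34 zg48) (kg xg24 yg46 zg28) (kg xg14 yg35 zg1)) (@D3.rec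 (fun _ => Pt) (kg xg29 yg22 zg45) (kg xg14 yg46 zg58) (kg xg26 yg59 zg41) (kg xg14 yg34 zg55) (kg xg21 yg54 zg22) (kg xg25 yg12 zg56) (kg xg14 yg34 zg57) (kg xg30 yg54 zg12) (kg xg18 yg45 zg39) (kg xg28 yg26 zg30) (kg xg25 yg46 zg53) (kg xg14 yg35 zg2) (kg xg30 yg43 zg35) (kg xg16 yg50 zg53) (kg xg17 yg23 zg25) (kg xg14 yg35 zg5) (kg xg28 yg21 zg8) (kg xg22 yg34 zg30) (kg xg29 yg39 zg15) (kg xg14 yg35 zg10) (kg xg16 yg15 zg47) (kg xg28 yg20 zg9) (kg xg27 yg59 zg48) (kg xg27 yg23 zg20) (kg xg14 yg35 zg15) (kg xg31 yg7 zg10) (kg xg17 yg30 zg29) (kg xg22 yg9 zg2) (kg xg18 yg7 zg35) (kg xg14 yg35 zg18) (kg xg24 yg55 zg50) (kg xg21 yg32 zg13) (kg xg14 yg35 zg19) (kg xg22 yg37 zg11) (kg xg14 yg35 zg33) (kg xg14 yg35 zg23) (kg xg25 yg26 zg7) (kg xg14 yg35 zg25) (kg xg28 yg19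 zg31) (kg xg27 yg1 zg60) (kg xg20 yg41 zg53) (kg xg25 yg18 zg28) (kg xg27 yg22 zg39) (kg xg30 yg26 zg35) (kg xg22 yg16 zg22) (kg xg31 yg28 zg4) (kg xg22 yg7 zg31) (kg xg14 yg35 zg32) (kg xg21 yg38 zg52) (kg xg18 yg55 zg10) (kg xg24 yg18 zg52) (kg xg31 yg28 zg7) (kg xg23 yg12 zg23) (kg xg14 yg35 zg37) (kg xg22 yg57 zg28) (kg xg30 yg51 zg21) (kg xg23 yg48 zg25) (kg xg27 yg57 zg35) (kg xg31 yg22 zg29) (kg xg30 yg36 zg27) (kg xg23 yg0 zg11) (kg xg14 yg35 zg57)) (@D3.rec (fun _ => Pt) (kg xg17 yg33 zg35) (kg xg16 yg0 zg18) (kg xg20 yg37 zg28) (kg xg20 yg37 zg41) (kg xg20 yg51 zg50) (kg xg20 yg37 zg42) (kg xg29 yg58 zg54) (kg xg18 yg25 zg26) (kg xg20 yg5 zg8) (kg xg17 yg49 zg26) (kg xg14 yg35 zg60) (kg xg17 yg50 zg25) (kg xg21 yg3 zg59) (kg xg29 yg32 zg44) (kg xg30 yg14 zg38)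 (kg xg29 yg32 zg42) (kg xg14 yg36 zg2) (kg xg28 yg47 zg25) (kg xg31 yg14 zg9) (kg xg20 yg37 zg55) (kg xg26 yg21 zg52) (kg xg14 yg37 zg2) (kg xg14 yg36 zg39) (kg xg14 yg36 zg10) (kg xg14 yg36 zg6) (kg xg31 yg14 zg15) (kg xg24 yg2 zg53) (kg xg31 yg28 zg24) (kg xg24 yg39 zg19) (kg xg26 yg57 zg14) (kg xg14 yg36 zg14) (kg xg26 yg44 zg60) (kg xg24 yg0 zg4) (kg xg31 yg28 zg28) (kg xg24 yg19 zg49) (kg xg31 yg28 zg33) (kg xg14 yg36 zg17) (kg xg31 yg28 zg34) (kg xg29 yg42 zg45) (kg xg31 yg28 zg36) (kg xg14 yg37 zg45) (kg xg14 yg36 zg18) (kg xg19 yg7 zg56) (kg xg23 yg47 zg3) (kg xg14 yg36 zg30) (kg xg16 yg7 zg41) (kg xg21 yg7 zg11) (kg xg21 yg45 zg6) (kg xg21 yg46 zg11) (kg xg14 yg36 zg28) (kg xg19 yg12 zg49) (kg xg28 yg43 zg19) (kg xg22 yg37 zg26) (kg xg14 yg36 zg31) (kg xg24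 yg5 zg16) (kg xg21 yg35 zg11) (kg xg19 yg7 zg39) (kg xg14 yg36 zg35) (kg xg27 yg57 zg9) (kg xg27 yg22 zg11) (kg xg21 yg47 zg24) (kg xg21 yg53 zg15)) (@D3.rec (fun _ => Pt) (kg xg26 yg51 zg14) (kg xg21 yg53 zg13) (kg xg21 yg41 zg30) (kg xg23 yg59 zg7) (kg xg29 yg9 zg42) (kg xg23 yg59 zg3) (kg xg19 yg54 zg2) (kg xg21 yg59 zg14) (kg xg23 yg33 zg25) (kg xg14 yg37 zg6) (kg xg14 yg36 zg49) (kg xg29 yg13 zg52) (kg xg14 yg36 zg50) (kg xg25 yg38 zg40) (kg xg31 yg28 zg50) (kg xg31 yg14 zg12) (kg xg23 yg48 zg23) (kg xg15 yg6 zg31) (kg xg14 yg37 zg1) (kg xg20 yg26 zg55) (kg xg14 yg36 zg61) (kg xg29 yg25 zg49) (kg xg20 yg26 zg53) (kg xg15 yg18 zg57) (kg xg29 yg52 zg2) (kg xg24 yg27 zg27) (kg xg30 yg8 zg60) (kg xg14 yg38 zg41) (kg xg31 yg18 zg28) (kg xg24 yg5 zg17) (kg xg14 yg37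 zg9) (kg xg25 yg24 zg56) (kg xg19 yg15 zg38) (kg xg24 yg11 zg27) (kg xg20 yg3 zg33) (kg xg30 yg5 zg19) (kg xg19 yg17 zg38) (kg xg19 yg12 zg43) (kg xg28 yg47 zg29) (kg xg14 yg47 zg57) (kg xg17 yg42 zg2) (kg xg26 yg22 zg34) (kg xg20 yg27 zg42) (kg xg19 yg11 zg36) (kg xg19 yg4 zg3) (kg xg15 yg42 zg26) (kg xg24 yg37 zg54) (kg xg14 yg48 zg1) (kg xg24 yg38 zg14) (kg xg29 yg10 zg21) (kg xg14 yg37 zg27) (kg xg14 yg37 zg20) (kg xg31 yg28 zg56) (kg xg25 yg41 zg19) (kg xg14 yg37 zg21) (kg xg24 yg22 zg25) (kg xg19 yg14 zg36) (kg xg29 yg0 zg31) (kg xg25 yg39 zg31) (kg xg22 yg49 zg28) (kg xg14 yg37 zg35) (kg xg28 yg13 zg4)) (@D3.rec (fun _ => Pt) (kg xg29 yg47 zg40) (kg xg14 yg37 zg33) (kg xg24 yg35 zg21) (kg xg26 yg34 zg14) (kg xg31 yg29 zg2) (kg xg14 yg37 zg37) (kg xg28 yg31 zg30)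 (kg xg24 yg22 zg9) (kg xg19 yg15 zg19) (kg xg25 yg58 zg16) (kg xg21 yg18 zg21) (kg xg14 yg37 zg40) (kg xg26 yg42 zg9) (kg xg31 yg29 zg9) (kg xg14 yg46 zg61) (kg xg31 yg29 zg7) (kg xg15 yg20 zg40) (kg xg31 yg29 zg12) (kg xg24 yg10 zg55) (kg xg31 yg12 zg47) (kg xg22 yg1 zg13) (kg xg20 yg24 zg18) (kg xg14 yg37 zg51) (kg xg20 yg48 zg8) (kg xg27 yg10 zg25) (kg xg14 yg37 zg55) (kg xg14 yg40 zg35) (kg xg19 yg12 zg57) (kg xg30 yg39 zg4) (kg xg26 yg51 zg45) (kg xg14 yg37 zg56) (kg xg20 yg23 zg25) (kg xg14 yg37 zg57) (kg xg31 yg29 zg17) (kg xg31 yg25 zg28) (kg xg31 yg29 zg19) (kg xg14 yg38 zg5) (kg xg30 yg29 zg31) (kg xg14 yg38 zg3) (kg xg20 yg23 zg24) (kg xg31 yg29 zg22) (kg xg19 yg13 zg15) (kg xg30 yg7 zg31) (kg xg14 yg38 zg6) (kg xg22 yg19 zg57) (kg xg31 yg29 zg24) (kg xg26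 yg29 zg56) (kg xg20 yg48 zg46) (kg xg14 yg38 zg9) (kg xg30 yg29 zg58) (kg xg18 yg48 zg60) (kg xg16 yg23 zg17) (kg xg14 yg38 zg10) (kg xg28 yg18 zg41) (kg xg19 yg20 zg26) (kg xg23 yg41 zg2) (kg xg17 yg48 zg30) (kg xg21 yg47 zg17) (kg xg17 yg51 zg57) (kg xg21 yg45 zg57) (kg xg28 yg43 zg20) (kg xg14 yg38 zg24)) (@D3.rec (fun _ => Pt) (kg xg29 yg55 zg16) (kg xg30 yg36 zg0) (kg xg20 yg51 zg1) (kg xg22 yg39 zg17) (kg xg14 yg38 zg26) (kg xg19 yg46 zg33) (kg xg22 yg40 zg42) (kg xg30 yg56 zg36) (kg xg14 yg38 zg31) (kg xg30 yg7 zg57) (kg xg30 yg56 zg38) (kg xg24 yg27 zg6) (kg xg23 yg0 zg29) (kg xg14 yg38 zg39) (kg xg14 yg38 zg35) (kg xg14 yg46 zg49) (kg xg24 yg24 zg1) (kg xg25 yg15 zg26) (kg xg31 yg18 zg18) (kg xg14 yg38 zg37) (kg xg29 yg51 zg8) (kg xg24 yg27 zg25) (kg xg24 yg27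 zg24) (kg xg24 yg32 zg51) (kg xg29 yg42 zg54) (kg xg21 yg49 zg10) (kg xg16 yg9 zg61) (kg xg14 yg50 zg34) (kg xg29 yg16 zg60) (kg xg28 yg41 zg0) (kg xg24 yg10 zg14) (kg xg18 yg37 zg54) (kg xg14 yg46 zg2) (kg xg24 yg32 zg5) (kg xg30 yg8 zg25) (kg xg19 yg48 zg50) (kg xg17 yg51 zg52) (kg xg14 yg48 zg10) (kg xg30 yg37 zg21) (kg xg24 yg35 zg7) (kg xg23 yg59 zg43) (kg xg22 yg39 zg21) (kg xg14 yg42 zg32) (kg xg17 yg55 zg19) (kg xg31 yg29 zg41) (kg xg29 yg25 zg52) (kg xg23 yg45 zg39) (kg xg26 yg51 zg51) (kg xg31 yg29 zg44) (kg xg31 yg29 zg42) (kg xg14 yg39 zg4) (kg xg29 yg26 zg12) (kg xg14 yg39 zg6) (kg xg28 yg2 zg25) (kg xg27 yg15 zg38) (kg xg26 yg50 zg40) (kg xg31 yg18 zg13) (kg xg14 yg39 zg10) (kg xg19 yg7 zg15) (kg xg24 yg1 zg30) (kg xg14 yg39 zg12) (kg xg24 yg33 zg2)) (@D3.rec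 (fun _ => Pt) (kg xg14 yg50 zg42) (kg xg22 yg41 zg7) (kg xg27 yg56 zg55) (kg xg22 yg33 zg0) (kg xg19 yg14 zg38) (kg xg25 yg34 zg39) (kg xg24 yg14 zg0) (kg xg14 yg40 zg2) (kg xg31 yg29 zg55) (kg xg19 yg7 zg24) (kg xg14 yg39 zg26) (kg xg30 yg46 zg54) (kg xg19 yg7 zg33) (kg xg31 yg25 zg60) (kg xg19 yg12 zg32) (kg xg19 yg2 zg35) (kg xg14 yg39 zg33) (kg xg31 yg30 zg0) (kg xg31 yg9 zg23) (kg xg22 yg41 zg28) (kg xg29 yg14 zg3) (kg xg22 yg33 zg5) (kg xg21 yg24 zg32) (kg xg31 yg30 zg6) (kg xg20 yg25 zg9) (kg xg29 yg8 zg61) (kg xg30 yg36 zg61) (kg xg30 yg32 zg14) (kg xg22 yg39 zg26) (kg xg30 yg34 zg6) (kg xg22 yg15 zg61) (kg xg20 yg56 zg9) (kg xg26 yg8 zg0) (kg xg28 yg44 zg24) (kg xg20 yg55 zg59) (kg xg27 yg56 zg41) (kg xg14 yg39 zg50) (kg xg31 yg5 zg58) (kg xg31 yg6 zg20) (kg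 xg26 yg9 zg33) (kg xg14 yg39 zg51) (kg xg29 yg48 zg55) (kg xg30 yg27 zg24) (kg xg19 yg55 zg52) (kg xg30 yg27 zg23) (kg xg31 yg30 zg13) (kg xg19 yg30 zg38) (kg xg14 yg39 zg56) (kg xg29 yg49 zg51) (kg xg18 yg40 zg26) (kg xg29 yg58 zg7) (kg xg29 yg58 zg11) (kg xg21 yg24 zg27) (kg xg30 yg3 zg5) (kg xg28 yg31 zg26) (kg xg24 yg22 zg61) (kg xg27 yg57 zg24) (kg xg14 yg40 zg5) (kg xg14 yg40 zg0) (kg xg29 yg41 zg18) (kg xg29 yg3 zg41) (kg xg20 yg59 zg17)) (@D3.rec (fun _ => Pt) (kg xg17 yg57 zg3) (kg xg30 yg37 zg14) (kg xg25 yg22 zg48) (kg xg19 yg56 zg9) (kg xg20 yg53 zg0) (kg xg30 yg26 zg9) (kg xg29 yg5 zg0) (kg xg26 yg41 zg54) (kg xg29 yg38 zg50) (kg xg14 yg40 zg7) (kg xg31 yg18 zg31) (kg xg26 yg19 zg4) (kg xg17 yg15 zg29) (kg xg14 yg47 zg17) (kg xg20 yg54 zg57) (kg xg21 yg55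 zg27) (kg xg19 yg15 zg40) (kg xg19 yg31 zg2) (kg xg30 yg23 zg38) (kg xg19 yg3 zg39) (kg xg19 yg13 zg4) (kg xg19 yg14 zg44) (kg xg14 yg40 zg23) (kg xg14 yg40 zg20) (kg xg30 yg50 zg15) (kg xg23 yg34 zg25) (kg xg19 yg13 zg2) (kg xg23 yg57 zg7) (kg xg30 yg30 zg12) (kg xg24 yg1 zg15) (kg xg30 yg43 zg57) (kg xg30 yg11 zg61) (kg xg14 yg40 zg26) (kg xg31 yg30 zg30) (kg xg30 yg49 zg10) (kg xg14 yg41 zg8) (kg xg14 yg40 zg27) (kg xg14 yg41 zg7) (kg xg24 yg32 zg24) (kg xg31 yg1 zg49) (kg xg30 yg11 zg46) (kg xg24 yg11 zg59) (kg xg14 yg40 zg31) (kg xg31 yg15 zg18) (kg xg30 yg28 zg49) (kg xg14 yg40 zg32) (kg xg23 yg34 zg23) (kg xg21 yg15 zg60) (kg xg29 yg19 zg38) (kg xg19 yg12 zg53) (kg xg30 yg28 zg43) (kg xg20 yg48 zg45) (kg xg24 yg11 zg2) (kg xg14 yg44 zg7) (kg xg22 yg39 zg56) (kg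 xg14 yg40 zg40) (kg xg22 yg39 zg55) (kg xg22 yg19 zg1) (kg xg19 yg3 zg49) (kg xg31 yg30 zg43) (kg xg31 yg30 zg46) (kg xg31 yg24 zg56)) (@D3.rec (fun _ => Pt) (kg xg14 yg40 zg45) (kg xg31 yg24 zg55) (kg xg31 yg12 zg40) (kg xg14 yg40 zg47) (kg xg30 yg48 zg51) (kg xg24 yg30 zg28) (kg xg30 yg42 zg56) (kg xg22 yg19 zg11) (kg xg14 yg44 zg17) (kg xg14 yg40 zg59) (kg xg14 yg40 zg52) (kg xg28 yg34 zg16) (kg xg29 yg40 zg52) (kg xg31 yg23 zg53) (kg xg24 yg11 zg38) (kg xg24 yg13 zg49) (kg xg14 yg40 zg56) (kg xg26 yg59 zg49) (kg xg31 yg12 zg44) (kg xg29 yg40 zg6) (kg xg30 yg11 zg35) (kg xg14 yg41 zg1) (kg xg29 yg21 zg17) (kg xg29 yg43 zg23) (kg xg30 yg11 zg39) (kg xg14 yg41 zg3) (kg xg21 yg59 zg61) (kg xg26 yg52 zg2) (kg xg28 yg52 zg15) (kg xg24 yg47 zg0) (kg xg31 yg30 zg61) (kg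 xg29 yg40 zg7) (kg xg27 yg9 zg52) (kg xg31 yg31 zg1) (kg xg22 yg40 zg52) (kg xg31 yg31 zg2) (kg xg20 yg33 zg21) (kg xg14 yg41 zg9) (kg xg18 yg45 zg19) (kg xg21 yg54 zg52) (kg xg14 yg41 zg10) (kg xg27 yg58 zg34) (kg xg22 yg19 zg15) (kg xg30 yg7 zg3) (kg xg29 yg34 zg25) (kg xg22 yg24 zg38) (kg xg22 yg19 zg9) (kg xg30 yg14 zg49) (kg xg18 yg49 zg12) (kg xg14 yg43 zg60) (kg xg17 yg26 zg20) (kg xg14 yg41 zg17) (kg xg28 yg18 zg31) (kg xg28 yg46 zg15) (kg xg30 yg11 zg37) (kg xg31 yg1 zg50) (kg xg29 yg40 zg41) (kg xg14 yg41 zg22) (kg xg20 yg47 zg58) (kg xg23 yg45 zg34) (kg xg23 yg48 zg60) (kg xg31 yg31 zg20)) (@D3.rec (fun _ => Pt) (kg xg28 yg52 zg8) (kg xg22 yg13 zg47) (kg xg22 yg13 zg45) (kg xg14 yg41 zg27) (kg xg25 yg11 zg33) (kg xg14 yg42 zg23) (kg xg24 yg15 zg11) (kg xg26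 yg57 zg8) (kg xg31 yg31 zg28) (kg xg29 yg37 zg10) (kg xg30 yg39 zg11) (kg xg24 yg16 zg48) (kg xg31 yg25 zg45) (kg xg14 yg41 zg34) (kg xg25 yg50 zg48) (kg xg24 yg27 zg55) (kg xg28 yg41 zg12) (kg xg31 yg12 zg54) (kg xg30 yg25 zg35) (kg xg22 yg0 zg51) (kg xg22 yg1 zg40) (kg xg24 yg16 zg43) (kg xg31 yg31 zg36) (kg xg31 yg19 zg7) (kg xg16 yg39 zg41) (kg xg14 yg41 zg58) (kg xg14 yg41 zg44) (kg xg31 yg26 zg27) (kg xg31 yg19 zg0) (kg xg14 yg41 zg45) (kg xg19 yg3 zg5) (kg xg23 yg48 zg48) (kg xg19 yg22 zg21) (kg xg31 yg27 zg22) (kg xg27 yg19 zg36) (kg xg19 yg28 zg23) (kg xg16 yg36 zg25) (kg xg30 yg29 zg37) (kg xg31 yg31 zg42) (kg xg31 yg31 zg49) (kg xg27 yg19 zg11) (kg xg27 yg44 zg44) (kg xg14 yg41 zg52) (kg xg16 yg40 zg21) (kg xg31 yg18 zg60) (kg xg14 yg41 zg53) (kg xg22 yg0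 zg53) (kg xg31 yg24 zg51) (kg xg19 yg5 zg7) (kg xg26 yg35 zg11) (kg xg16 yg36 zg49) (kg xg19 yg53 zg30) (kg xg29 yg3 zg56) (kg xg14 yg41 zg57) (kg xg23 yg57 zg58) (kg xg22 yg40 zg26) (kg xg28 yg17 zg28) (kg xg24 yg15 zg3) (kg xg31 yg31 zg60) (kg xg24 yg16 zg17) (kg xg31 yg27 zg12) (kg xg31 yg32 zg2)) (@D3.rec (fun _ => Pt) (kg xg31 yg31 zg61) (kg xg14 yg42 zg3) (kg xg19 yg9 zg37) (kg xg21 yg57 zg49) (kg xg14 yg49 zg26) (kg xg30 yg7 zg58) (kg xg24 yg22 zg13) (kg xg31 yg18 zg43) (kg xg30 yg56 zg10) (kg xg14 yg42 zg29) (kg xg22 yg57 zg56) (kg xg24 yg7 zg36) (kg xg23 yg58 zg19) (kg xg22 yg33 zg46) (kg xg19 yg23 zg20) (kg xg19 yg20 zg34) (kg xg14 yg42 zg10) (kg xg15 yg3 zg6) (kg xg15 yg28 zg21) (kg xg31 yg28 zg35) (kg xg14 yg42 zg11) (kg xg31 yg32 zg12) (kg xg14 yg42 zg12)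 (kg xg31 yg32 zg11) (kg xg14 yg42 zg13) (kg xg15 yg42 zg45) (kg xg25 yg38 zg11) (kg xg14 yg42 zg14) (kg xg19 yg14 zg45) (kg xg24 yg20 zg27) (kg xg19 yg40 zg53) (kg xg14 yg43 zg20) (kg xg25 yg52 zg42) (kg xg31 yg14 zg13) (kg xg14 yg45 zg49) (kg xg29 yg26 zg25) (kg xg24 yg35 zg13) (kg xg16 yg41 zg35) (kg xg31 yg29 zg33) (kg xg28 yg54 zg13) (kg xg14 yg42 zg21) (kg xg26 yg34 zg46) (kg xg19 yg20 zg49) (kg xg25 yg12 zg13) (kg xg20 yg14 zg22) (kg xg31 yg32 zg27) (kg xg26 yg1 zg16) (kg xg24 yg20 zg13) (kg xg14 yg42 zg25) (kg xg19 yg52 zg32) (kg xg22 yg30 zg0) (kg xg30 yg12 zg6) (kg xg16 yg53 zg57) (kg xg19 yg9 zg15) (kg xg24 yg34 zg43) (kg xg24 yg26 zg17) (kg xg31 yg17 zg44) (kg xg25 yg39 zg30) (kg xg29 yg43 zg55) (kg xg14 yg42 zg35) (kg xg22 yg38 zg6) (kg xg14 yg42 zg39))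 (@D3.rec (fun _ => Pt) (kg xg22 yg38 zg5) (kg xg27 yg5 zg41) (kg xg20 yg10 zg7) (kg xg14 yg42 zg44) (kg xg22 yg40 zg38) (kg xg14 yg42 zg48) (kg xg18 yg48 zg8) (kg xg27 yg10 zg39) (kg xg18 yg48 zg14) (kg xg21 yg9 zg18) (kg xg22 yg38 zg61) (kg xg24 yg2 zg18) (kg xg22 yg32 zg43) (kg xg22 yg51 zg20) (kg xg28 yg26 zg24) (kg xg25 yg3 zg18) (kg xg22 yg41 zg14) (kg xg16 yg22 zg28) (kg xg19 yg1 zg15) (kg xg18 yg36 zg3) (kg xg23 yg5 zg53) (kg xg19 yg1 zg19) (kg xg16 yg35 zg37) (kg xg21 yg15 zg12) (kg xg27 yg35 zg7) (kg xg26 yg18 zg23) (kg xg18 yg6 zg31) (kg xg26 yg17 zg51) (kg xg17 yg54 zg25) (kg xg18 yg38 zg50) (kg xg18 yg36 zg5) (kg xg23 yg57 zg57) (kg xg14 yg43 zg14) (kg xg31 yg20 zg14) (kg xg26 yg45 zg12) (kg xg14 yg43 zg16) (kg xg19 yg19 zg53) (kg xg28 yg11 zg14) (kg xg14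 yg43 zg21) (kg xg14 yg43 zg18) (kg xg21 yg14 zg9) (kg xg29 yg42 zg44) (kg xg19 yg53 zg26) (kg xg29 yg20 zg16) (kg xg30 yg56 zg41) (kg xg14 yg43 zg22) (kg xg31 yg18 zg42) (kg xg25 yg48 zg3) (kg xg25 yg18 zg43) (kg xg31 yg18 zg45) (kg xg14 yg43 zg25) (kg xg31 yg18 zg44) (kg xg31 yg15 zg61) (kg xg28 yg20 zg22) (kg xg14 yg43 zg26) (kg xg22 yg54 zg11) (kg xg19 yg17 zg28) (kg xg19 yg5 zg10) (kg xg19 yg3 zg3) (kg xg19 yg17 zg31) (kg xg24 yg46 zg22) (kg xg19 yg5 zg4)) (@D3.rec (fun _ => Pt) (kg xg14 yg43 zg29) (kg xg28 yg43 zg30) (kg xg22 yg51 zg31) (kg xg28 yg28 zg0) (kg xg30 yg29 zg61) (kg xg27 yg32 zg0) (kg xg14 yg43 zg32) (kg xg15 yg0 zg27) (kg xg25 yg16 zg1) (kg xg31 yg32 zg41) (kg xg25 yg46 zg50) (kg xg22 yg40 zg41) (kg xg18 yg44 zg7) (kg xg22 yg33 zg1) (kg xg31 yg23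 zg58) (kg xg16 yg50 zg26) (kg xg28 yg43 zg59) (kg xg28 yg40 zg58) (kg xg19 yg15 zg14) (kg xg15 yg42 zg43) (kg xg18 yg2 zg58) (kg xg19 yg3 zg44) (kg xg14 yg43 zg42) (kg xg22 yg41 zg6) (kg xg19 yg3 zg7) (kg xg19 yg22 zg15) (kg xg19 yg14 zg37) (kg xg19 yg4 zg30) (kg xg19 yg20 zg53) (kg xg19 yg18 zg45) (kg xg23 yg49 zg49) (kg xg18 yg27 zg27) (kg xg26 yg11 zg46) (kg xg19 yg15 zg15) (kg xg18 yg27 zg13) (kg xg23 yg27 zg21) (kg xg26 yg52 zg59) (kg xg15 yg56 zg13) (kg xg28 yg45 zg43) (kg xg19 yg51 zg60) (kg xg18 yg55 zg57) (kg xg23 yg45 zg35) (kg xg31 yg33 zg1) (kg xg31 yg31 zg8) (kg xg30 yg28 zg47) (kg xg30 yg15 zg18) (kg xg14 yg43 zg61) (kg xg30 yg15 zg61) (kg xg30 yg15 zg17) (kg xg23 yg46 zg31) (kg xg28 yg46 zg5) (kg xg20 yg52 zg41) (kg xg24 yg24 zg44) (kg xg23 yg51 zg13)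 (kg xg14 yg44 zg3) (kg xg23 yg51 zg11) (kg xg30 yg42 zg54) (kg xg14 yg44 zg6) (kg xg30 yg42 zg53) (kg xg31 yg17 zg9) (kg xg30 yg31 zg26) (kg xg31 yg19 zg28)) (@D3.rec (fun _ => Pt) (kg xg24 yg2 zg4) (kg xg30 yg12 zg1) (kg xg22 yg19 zg45) (kg xg31 yg13 zg45) (kg xg31 yg18 zg38) (kg xg23 yg48 zg37) (kg xg14 yg44 zg10) (kg xg23 yg48 zg36) (kg xg22 yg26 zg11) (kg xg20 yg46 zg4) (kg xg20 yg49 zg20) (kg xg31 yg33 zg16) (kg xg29 yg55 zg54) (kg xg14 yg44 zg14) (kg xg31 yg33 zg29) (kg xg31 yg22 zg31) (kg xg14 yg44 zg15) (kg xg30 yg15 zg33) (kg xg27 yg5 zg6) (kg xg14 yg44 zg16) (kg xg27 yg5 zg12) (kg xg30 yg30 zg20) (kg xg31 yg33 zg35) (kg xg30 yg42 zg55) (kg xg22 yg27 zg32) (kg xg24 yg25 zg5) (kg xg30 yg30 zg10) (kg xg31 yg19 zg20) (kg xg22 yg58 zg51) (kg xg14 yg47 zg25) (kg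 xg16 yg57 zg2) (kg xg20 yg41 zg15) (kg xg17 yg6 zg48) (kg xg20 yg21 zg40) (kg xg19 yg33 zg42) (kg xg14 yg44 zg29) (kg xg24 yg47 zg2) (kg xg29 yg3 zg0) (kg xg29 yg11 zg43) (kg xg23 yg14 zg53) (kg xg23 yg20 zg56) (kg xg30 yg57 zg23) (kg xg14 yg44 zg33) (kg xg15 yg58 zg52) (kg xg23 yg2 zg28) (kg xg31 yg33 zg42) (kg xg29 yg6 zg27) (kg xg26 yg0 zg53) (kg xg29 yg50 zg56) (kg xg23 yg24 zg34) (kg xg14 yg44 zg38) (kg xg22 yg43 zg39) (kg xg23 yg42 zg26) (kg xg23 yg1 zg54) (kg xg26 yg14 zg38) (kg xg29 yg51 zg36) (kg xg26 yg48 zg53) (kg xg14 yg44 zg49) (kg xg31 yg1 zg12) (kg xg23 yg19 zg53) (kg xg26 yg57 zg41) (kg xg14 yg44 zg50)) (@D3.rec (fun _ => Pt) (kg xg26 yg48 zg55) (kg xg21 yg28 zg43) (kg xg29 yg31 zg39) (kg xg18 yg40 zg39) (kg xg20 yg13 zg29) (kg xg29 yg11 zg39) (kg xg20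 yg44 zg57) (kg xg22 yg46 zg12) (kg xg19 yg18 zg53) (kg xg23 yg20 zg40) (kg xg28 yg1 zg5) (kg xg18 yg23 zg54) (kg xg14 yg45 zg0) (kg xg30 yg39 zg57) (kg xg27 yg1 zg19) (kg xg14 yg45 zg1) (kg xg29 yg42 zg42) (kg xg23 yg8 zg4) (kg xg23 yg3 zg13) (kg xg22 yg52 zg16) (kg xg23 yg20 zg2) (kg xg21 yg19 zg57) (kg xg18 yg28 zg42) (kg xg24 yg47 zg41) (kg xg22 yg52 zg30) (kg xg23 yg19 zg33) (kg xg31 yg0 zg38) (kg xg30 yg58 zg18) (kg xg26 yg57 zg39) (kg xg14 yg45 zg19) (kg xg14 yg45 zg23) (kg xg30 yg7 zg17) (kg xg14 yg45 zg20) (kg xg30 yg7 zg23) (kg xg31 yg32 zg52) (kg xg31 yg33 zg54) (kg xg14 yg45 zg21) (kg xg26 yg11 zg50) (kg xg31 yg33 zg53) (kg xg30 yg59 zg61) (kg xg23 yg16 zg2) (kg xg23 yg15 zg7) (kg xg23 yg44 zg6) (kg xg23 yg45 zg16) (kg xg26 yg9 zg32) (kg xg26 yg2 zg46) (kg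 xg28 yg41 zg8) (kg xg30 yg13 zg52) (kg xg26 yg46 zg1) (kg xg24 yg47 zg13) (kg xg14 yg45 zg35) (kg xg14 yg45 zg33) (kg xg17 yg11 zg34) (kg xg30 yg54 zg56) (kg xg19 yg13 zg60) (kg xg24 yg37 zg15) (kg xg24 yg34 zg26) (kg xg24 yg40 zg0) (kg xg29 yg33 zg14) (kg xg31 yg32 zg22) (kg xg19 yg56 zg37) (kg xg19 yg56 zg47)) (@D3.rec (fun _ => Pt) (kg xg24 yg37 zg32) (kg xg26 yg36 zg4) (kg xg28 yg36 zg48) (kg xg16 yg42 zg20) (kg xg29 yg34 zg11) (kg xg24 yg22 zg31) (kg xg21 yg6 zg57) (kg xg14 yg47 zg59) (kg xg24 yg34 zg49) (kg xg14 yg47 zg32) (kg xg14 yg45 zg54) (kg xg14 yg47 zg30) (kg xg26 yg42 zg8) (kg xg14 yg47 zg41) (kg xg14 yg45 zg56) (kg xg14 yg47 zg40) (kg xg14 yg45 zg59) (kg xg30 yg18 zg16) (kg xg14 yg48 zg41) (kg xg22 yg21 zg45) (kg xg16 yg30 zg11) (kg xg29 yg15 zg10) (kg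 xg14 yg54 zg24) (kg xg16 yg5 zg48) (kg xg24 yg25 zg46) (kg xg23 yg57 zg21) (kg xg17 yg39 zg40) (kg xg25 yg40 zg24) (kg xg19 yg57 zg34) (kg xg15 yg41 zg45) (kg xg26 yg2 zg6) (kg xg20 yg15 zg35) (kg xg17 yg55 zg40) (kg xg14 yg46 zg19) (kg xg24 yg42 zg5) (kg xg24 yg42 zg60) (kg xg30 yg12 zg60) (kg xg24 yg43 zg4) (kg xg14 yg46 zg26) (kg xg17 yg38 zg32) (kg xg21 yg41 zg38) (kg xg22 yg45 zg22) (kg xg14 yg46 zg29) (kg xg24 yg43 zg16) (kg xg28 yg13 zg58) (kg xg24 yg52 zg56) (kg xg20 yg13 zg17) (kg xg20 yg13 zg5) (kg xg23 yg29 zg3) (kg xg16 yg7 zg45) (kg xg21 yg35 zg24) (kg xg28 yg31 zg39) (kg xg15 yg43 zg24) (kg xg14 yg46 zg43) (kg xg29 yg17 zg10) (kg xg14 yg46 zg50) (kg xg14 yg46 zg46) (kg xg17 yg51 zg15) (kg xg29 yg6 zg19) (kg xg14 yg46 zg47) (kg xg17 yg51 zg41) (kg xg19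 yg45 zg60)) (@D3.rec (fun _ => Pt) (kg xg17 yg51 zg26) (kg xg20 yg53 zg31) (kg xg29 yg13 zg22) (kg xg16 yg50 zg20) (kg xg14 yg46 zg55) (kg xg21 yg54 zg9) (kg xg18 yg1 zg22) (kg xg18 yg1 zg6) (kg xg25 yg17 zg10) (kg xg25 yg2 zg41) (kg xg21 yg48 zg11) (kg xg28 yg25 zg12) (kg xg20 yg44 zg58) (kg xg21 yg7 zg6) (kg xg18 yg26 zg10) (kg xg30 yg5 zg20) (kg xg29 yg12 zg55) (kg xg16 yg58 zg51) (kg xg16 yg4 zg23) (kg xg26 yg2 zg2) (kg xg16 yg58 zg44) (kg xg28 yg31 zg32) (kg xg20 yg26 zg41) (kg xg26 yg2 zg0) (kg xg31 yg34 zg27) (kg xg31 yg34 zg29) (kg xg31 yg29 zg1) (kg xg21 yg48 zg31) (kg xg18 yg1 zg34) (kg xg17 yg59 zg24) (kg xg17 yg49 zg47) (kg xg30 yg18 zg18) (kg xg16 yg12 zg33) (kg xg23 yg25 zg11) (kg xg23 yg31 zg3) (kg xg24 yg37 zg44) (kg xg19 yg26 zg9) (kg xg28 yg49 zg40)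 (kg xg20 yg50 zg11) (kg xg31 yg34 zg32) (kg xg18 yg52 zg51) (kg xg14 yg47 zg22) (kg xg31 yg7 zg4) (kg xg29 yg17 zg9) (kg xg26 yg9 zg57) (kg xg14 yg47 zg23) (kg xg31 yg11 zg21) (kg xg30 yg56 zg39) (kg xg21 yg29 zg33) (kg xg27 yg44 zg16) (kg xg20 yg50 zg26) (kg xg29 yg22 zg61) (kg xg22 yg5 zg32) (kg xg17 yg58 zg8) (kg xg20 yg20 zg36) (kg xg15 yg25 zg39) (kg xg30 yg51 zg43) (kg xg24 yg42 zg51) (kg xg14 yg48 zg37) (kg xg30 yg40 zg39) (kg xg14 yg47 zg31) (kg xg30 yg40 zg38)) (@D3.rec (fun _ => Pt) (kg xg29 yg13 zg24) (kg xg27 yg56 zg49) (kg xg31 yg11 zg52) (kg xg14 yg47 zg34) (kg xg24 yg51 zg59) (kg xg25 yg11 zg12) (kg xg16 yg50 zg42) (kg xg29 yg58 zg36) (kg xg27 yg37 zg29) (kg xg21 yg8 zg36) (kg xg14 yg54 zg1) (kg xg24 yg42 zg52) (kg xg16 yg4 zg13) (kg xg25 yg58 zg33) (kg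 xg19 yg55 zg21) (kg xg14 yg47 zg45) (kg xg18 yg35 zg43) (kg xg18 yg10 zg22) (kg xg31 yg34 zg14) (kg xg19 yg55 zg47) (kg xg14 yg47 zg53) (kg xg31 yg34 zg45) (kg xg21 yg59 zg4) (kg xg25 yg12 zg1) (kg xg18 yg0 zg43) (kg xg19 yg54 zg1) (kg xg24 yg31 zg53) (kg xg22 yg45 zg35) (kg xg18 yg0 zg59) (kg xg25 yg58 zg14) (kg xg24 yg10 zg22) (kg xg22 yg32 zg18) (kg xg26 yg55 zg0) (kg xg20 yg46 zg9) (kg xg22 yg5 zg35) (kg xg28 yg32 zg47) (kg xg26 yg22 zg21) (kg xg30 yg46 zg10) (kg xg23 yg1 zg40) (kg xg22 yg20 zg46) (kg xg14 yg48 zg23) (kg xg20 yg41 zg13) (kg xg14 yg48 zg24) (kg xg24 yg27 zg9) (kg xg26 yg36 zg40) (kg xg31 yg28 zg58) (kg xg22 yg27 zg14) (kg xg22 yg56 zg50) (kg xg31 yg29 zg29) (kg xg24 yg33 zg54) (kg xg31 yg9 zg7) (kg xg26 yg8 zg5) (kg xg14 yg48 zg40) (kg xg31 yg4 zg12)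 (kg xg28 yg48 zg44) (kg xg31 yg34 zg49) (kg xg24 yg5 zg2) (kg xg14 yg48 zg45) (kg xg16 yg14 zg9) (kg xg15 yg15 zg15) (kg xg19 yg41 zg9) (kg xg31 yg34 zg53)) (@D3.rec (fun _ => Pt) (kg xg31 yg34 zg54) (kg xg23 yg8 zg16) (kg xg14 yg48 zg50) (kg xg23 yg8 zg15) (kg xg25 yg38 zg23) (kg xg20 yg7 zg13) (kg xg20 yg38 zg39) (kg xg26 yg54 zg59) (kg xg28 yg40 zg19) (kg xg24 yg33 zg32) (kg xg24 yg37 zg58) (kg xg24 yg42 zg25) (kg xg20 yg57 zg17) (kg xg31 yg34 zg57) (kg xg29 yg12 zg26) (kg xg24 yg34 zg9) (kg xg16 yg38 zg12) (kg xg14 yg49 zg3) (kg xg31 yg35 zg0) (kg xg20 yg39 zg34) (kg xg20 yg35 zg36) (kg xg23 yg59 zg9) (kg xg16 yg30 zg50) (kg xg14 yg49 zg7) (kg xg20 yg13 zg40) (kg xg25 yg33 zg11) (kg xg14 yg50 zg47) (kg xg14 yg49 zg13) (kg xg28 yg59 zg24) (kg xg25 yg50 zg40) (kg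 xg14 yg50 zg44) (kg xg14 yg51 zg25) (kg xg14 yg51 zg6) (kg xg14 yg49 zg16) (kg xg14 yg51 zg5) (kg xg14 yg51 zg13) (kg xg14 yg49 zg18) (kg xg30 yg9 zg14) (kg xg15 yg18 zg5) (kg xg15 yg18 zg2) (kg xg28 yg30 zg37) (kg xg14 yg50 zg48) (kg xg14 yg49 zg22) (kg xg14 yg51 zg45) (kg xg14 yg49 zg24) (kg xg14 yg51 zg44) (kg xg31 yg35 zg12) (kg xg14 yg51 zg57) (kg xg14 yg51 zg55) (kg xg14 yg49 zg27) (kg xg14 yg52 zg7) (kg xg24 yg38 zg33) (kg xg24 yg41 zg18) (kg xg25 yg34 zg20) (kg xg24 yg42 zg15) (kg xg14 yg49 zg52) (kg xg15 yg37 zg14) (kg xg29 yg24 zg18) (kg xg25 yg55 zg27) (kg xg14 yg49 zg39) (kg xg19 yg35 zg7) (kg xg28 yg45 zg22)) (@D3.rec (fun _ => Pt) (kg xg22 yg8 zg14) (kg xg16 yg4 zg59) (kg xg24 yg41 zg23) (kg xg14 yg49 zg42) (kg xg24 yg41 zg22) (kg xg14 yg49 zg50) (kg xg27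 yg47 zg21) (kg xg26 yg1 zg7) (kg xg17 yg54 zg13) (kg xg14 yg49 zg51) (kg xg23 yg35 zg0) (kg xg19 yg16 zg37) (kg xg16 yg8 zg52) (kg xg17 yg14 zg25) (kg xg16 yg9 zg22) (kg xg16 yg2 zg49) (kg xg14 yg49 zg58) (kg xg17 yg24 zg51) (kg xg31 yg35 zg24) (kg xg19 yg39 zg29) (kg xg31 yg35 zg25) (kg xg19 yg39 zg24) (kg xg15 yg0 zg17) (kg xg19 yg32 zg30) (kg xg14 yg50 zg7) (kg xg14 yg50 zg9) (kg xg21 yg57 zg25) (kg xg21 yg16 zg7) (kg xg15 yg30 zg15) (kg xg28 yg18 zg1) (kg xg20 yg43 zg39) (kg xg19 yg33 zg12) (kg xg20 yg4 zg42) (kg xg20 yg2 zg34) (kg xg29 yg37 zg26) (kg xg16 yg49 zg22) (kg xg22 yg37 zg1) (kg xg29 yg43 zg56) (kg xg25 yg50 zg41) (kg xg31 yg35 zg36) (kg xg25 yg50 zg36) (kg xg14 yg50 zg24) (kg xg19 yg16 zg54) (kg xg16 yg24 zg35) (kg xg19 yg46 zg61) (kg xg26 yg15 zg27)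 (kg xg21 yg29 zg38) (kg xg14 yg50 zg32) (kg xg16 yg29 zg11) (kg xg17 yg32 zg12) (kg xg25 yg33 zg12) (kg xg23 yg30 zg36) (kg xg25 yg12 zg3) (kg xg15 yg53 zg15) (kg xg27 yg43 zg32) (kg xg25 yg5 zg39) (kg xg29 yg34 zg36) (kg xg27 yg15 zg56) (kg xg26 yg4 zg40) (kg xg21 yg2 zg0) (kg xg31 yg35 zg41) (kg xg26 yg6 zg28)) (@D3.rec (fun _ => Pt) (kg xg29 yg35 zg26) (kg xg27 yg12 zg15) (kg xg14 yg50 zg46) (kg xg26 yg54 zg55) (kg xg27 yg21 zg31) (kg xg31 yg35 zg14) (kg xg29 yg50 zg5) (kg xg31 yg35 zg49) (kg xg23 yg1 zg7) (kg xg14 yg50 zg51) (kg xg23 yg1 zg6) (kg xg31 yg35 zg52) (kg xg25 yg13 zg17) (kg xg31 yg35 zg56) (kg xg25 yg48 zg46) (kg xg26 yg7 zg52) (kg xg15 yg10 zg32) (kg xg14 yg51 zg42) (kg xg23 yg42 zg53) (kg xg24 yg34 zg23) (kg xg19 yg54 zg8) (kg xg24 yg10 zg46) (kg xg25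 yg48 zg45) (kg xg14 yg51 zg3) (kg xg31 yg36 zg2) (kg xg31 yg35 zg17) (kg xg30 yg40 zg6) (kg xg31 yg35 zg37) (kg xg24 yg31 zg59) (kg xg14 yg51 zg53) (kg xg31 yg36 zg4) (kg xg25 yg33 zg17) (kg xg26 yg40 zg34) (kg xg29 yg15 zg30) (kg xg14 yg51 zg15) (kg xg23 yg24 zg31) (kg xg26 yg4 zg57) (kg xg25 yg4 zg21) (kg xg22 yg10 zg54) (kg xg31 yg35 zg11) (kg xg14 yg51 zg23) (kg xg31 yg36 zg7) (kg xg23 yg59 zg13) (kg xg25 yg33 zg3) (kg xg27 yg38 zg22) (kg xg26 yg40 zg17) (kg xg24 yg37 zg52) (kg xg24 yg33 zg35) (kg xg22 yg21 zg8) (kg xg14 yg51 zg27) (kg xg15 yg44 zg57) (kg xg25 yg12 zg38) (kg xg24 yg37 zg43) (kg xg24 yg20 zg46) (kg xg14 yg51 zg29) (kg xg24 yg20 zg8) (kg xg19 yg23 zg33) (kg xg29 yg9 zg38) (kg xg16 yg11 zg35) (kg xg25 yg10 zg53) (kg xg15 yg42 zg47) (kg xg31 yg36 zg12))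 (@D3.rec (fun _ => Pt) (kg xg30 yg51 zg25) (kg xg31 yg9 zg26) (kg xg14 yg51 zg37) (kg xg29 yg59 zg47) (kg xg31 yg36 zg19) (kg xg15 yg53 zg53) (kg xg15 yg41 zg37) (kg xg14 yg51 zg40) (kg xg14 yg51 zg41) (kg xg19 yg26 zg42) (kg xg25 yg6 zg35) (kg xg16 yg11 zg28) (kg xg30 yg5 zg33) (kg xg26 yg7 zg6) (kg xg29 yg9 zg39) (kg xg24 yg20 zg52) (kg xg24 yg10 zg29) (kg xg26 yg6 zg51) (kg xg14 yg51 zg49) (kg xg31 yg36 zg24) (kg xg28 yg49 zg43) (kg xg25 yg6 zg41) (kg xg31 yg36 zg27) (kg xg31 yg35 zg13) (kg xg15 yg52 zg46) (kg xg30 yg40 zg31) (kg xg29 yg59 zg45) (kg xg26 yg2 zg3) (kg xg20 yg43 zg34) (kg xg24 yg42 zg39) (kg xg14 yg51 zg56) (kg xg24 yg42 zg38) (kg xg22 yg21 zg23) (kg xg23 yg48 zg50) (kg xg24 yg12 zg11) (kg xg19 yg10 zg12) (kg xg29 yg36 zg49) (kg xg14 yg52 zg1) (kg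 xg22 yg13 zg12) (kg xg19 yg9 zg12) (kg xg14 yg52 zg5) (kg xg19 yg8 zg53) (kg xg23 yg50 zg40) (kg xg23 yg20 zg20) (kg xg23 yg41 zg9) (kg xg21 yg54 zg26) (kg xg24 yg8 zg47) (kg xg14 yg52 zg14) (kg xg20 yg37 zg16) (kg xg25 yg27 zg45) (kg xg30 yg27 zg58) (kg xg17 yg23 zg55) (kg xg18 yg47 zg34) (kg xg22 yg23 zg2) (kg xg24 yg15 zg31) (kg xg19 yg37 zg34) (kg xg22 yg20 zg36) (kg xg18 yg12 zg17) (kg xg22 yg57 zg20) (kg xg14 yg52 zg20) (kg xg25 yg35 zg57) (kg xg24 yg13 zg35)) (@D3.rec (fun _ => Pt) (kg xg27 yg41 zg60) (kg xg19 yg44 zg29) (kg xg22 yg55 zg4) (kg xg14 yg52 zg24) (kg xg24 yg36 zg56) (kg xg17 yg25 zg9) (kg xg30 yg51 zg28) (kg xg24 yg12 zg12) (kg xg21 yg3 zg45) (kg xg23 yg11 zg20) (kg xg30 yg11 zg3) (kg xg18 yg38 zg0) (kg xg29 yg26 zg56) (kg xg20 yg29 zg1) (kg xg29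 yg1 zg46) (kg xg16 yg13 zg46) (kg xg22 yg21 zg53) (kg xg14 yg52 zg40) (kg xg22 yg21 zg52) (kg xg24 yg19 zg25) (kg xg21 yg22 zg45) (kg xg14 yg52 zg43) (kg xg22 yg22 zg2) (kg xg22 yg22 zg5) (kg xg20 yg45 zg4) (kg xg18 yg23 zg8) (kg xg14 yg52 zg50) (kg xg20 yg45 zg11) (kg xg17 yg23 zg36) (kg xg16 yg2 zg12) (kg xg16 yg43 zg15) (kg xg28 yg48 zg19) (kg xg19 yg45 zg17) (kg xg22 yg20 zg53) (kg xg22 yg20 zg52) (kg xg22 yg20 zg58) (kg xg22 yg20 zg57) (kg xg24 yg40 zg47) (kg xg20 yg28 zg13) (kg xg24 yg24 zg5) (kg xg23 yg9 zg43) (kg xg23 yg9 zg44) (kg xg27 yg44 zg21) (kg xg29 yg3 zg58) (kg xg31 yg0 zg30) (kg xg19 yg8 zg60) (kg xg19 yg8 zg55) (kg xg31 yg10 zg7) (kg xg14 yg53 zg9) (kg xg31 yg10 zg6) (kg xg15 yg20 zg33) (kg xg19 yg20 zg44) (kg xg20 yg15 zg27) (kg xg31 yg36 zg51) (kg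 xg16 yg54 zg7) (kg xg14 yg53 zg14) (kg xg14 yg53 zg15) (kg xg29 yg4 zg26) (kg xg31 yg23 zg57) (kg xg19 yg46 zg14) (kg xg14 yg53 zg16) (kg xg19 yg19 zg48)) (@D3.rec (fun _ => Pt) (kg xg24 yg39 zg37) (kg xg23 yg3 zg22) (kg xg23 yg41 zg52) (kg xg28 yg13 zg26) (kg xg14 yg53 zg21) (kg xg31 yg4 zg4) (kg xg24 yg10 zg42) (kg xg23 yg40 zg45) (kg xg23 yg26 zg56) (kg xg31 yg9 zg30) (kg xg31 yg9 zg42) (kg xg14 yg53 zg26) (kg xg31 yg37 zg6) (kg xg31 yg10 zg53) (kg xg29 yg41 zg28) (kg xg23 yg43 zg43) (kg xg23 yg30 zg9) (kg xg23 yg29 zg56) (kg xg23 yg30 zg20) (kg xg23 yg44 zg29) (kg xg31 yg2 zg31) (kg xg28 yg27 zg10) (kg xg14 yg53 zg32) (kg xg21 yg41 zg26) (kg xg23 yg7 zg4) (kg xg19 yg21 zg47) (kg xg14 yg53 zg35) (kg xg23 yg9 zg9) (kg xg31 yg37 zg12) (kg xg19 yg4 zg6) (kg xg18 yg50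 zg4) (kg xg14 yg53 zg38) (kg xg15 yg50 zg57) (kg xg18 yg45 zg6) (kg xg22 yg51 zg10) (kg xg27 yg49 zg59) (kg xg26 yg19 zg32) (kg xg19 yg18 zg0) (kg xg31 yg37 zg15) (kg xg24 yg46 zg37) (kg xg22 yg50 zg34) (kg xg31 yg15 zg2) (kg xg14 yg53 zg52) (kg xg24 yg40 zg40) (kg xg14 yg53 zg55) (kg xg24 yg41 zg33) (kg xg31 yg37 zg17) (kg xg24 yg31 zg57) (kg xg30 yg12 zg48) (kg xg14 yg56 zg9) (kg xg23 yg35 zg2) (kg xg28 yg41 zg20) (kg xg31 yg7 zg21) (kg xg24 yg41 zg7) (kg xg23 yg30 zg39) (kg xg14 yg53 zg60) (kg xg28 yg1 zg49) (kg xg30 yg1 zg16) (kg xg27 yg3 zg57) (kg xg21 yg46 zg60) (kg xg14 yg53 zg61) (kg xg31 yg37 zg18)) (@D3.rec (fun _ => Pt) (kg xg23 yg35 zg31) (kg xg23 yg35 zg30) (kg xg25 yg15 zg17) (kg xg24 yg41 zg61) (kg xg24 yg42 zg50) (kg xg24 yg41 zg27) (kg xg21 yg55 zg44)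 (kg xg23 yg22 zg59) (kg xg21 yg40 zg51) (kg xg21 yg8 zg34) (kg xg30 yg19 zg39) (kg xg23 yg58 zg18) (kg xg25 yg57 zg25) (kg xg19 yg48 zg26) (kg xg30 yg20 zg22) (kg xg14 yg54 zg58) (kg xg24 yg35 zg59) (kg xg15 yg58 zg27) (kg xg14 yg54 zg17) (kg xg25 yg32 zg9) (kg xg21 yg50 zg60) (kg xg24 yg36 zg4) (kg xg14 yg54 zg19) (kg xg24 yg36 zg3) (kg xg25 yg41 zg23) (kg xg14 yg54 zg20) (kg xg30 yg8 zg26) (kg xg21 yg22 zg17) (kg xg24 yg41 zg4) (kg xg24 yg43 zg60) (kg xg29 yg52 zg0) (kg xg21 yg8 zg49) (kg xg21 yg55 zg21) (kg xg24 yg40 zg48) (kg xg16 yg50 zg46) (kg xg21 yg7 zg13) (kg xg20 yg13 zg10) (kg xg20 yg16 zg25) (kg xg22 yg4 zg26) (kg xg14 yg54 zg31) (kg xg21 yg21 zg47) (kg xg24 yg43 zg21) (kg xg24 yg43 zg28) (kg xg14 yg54 zg37) (kg xg26 yg0 zg2) (kg xg31 yg1 zg47) (kg xg31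 yg37 zg29) (kg xg21 yg46 zg54) (kg xg24 yg43 zg33) (kg xg21 yg39 zg38) (kg xg30 yg52 zg0) (kg xg14 yg54 zg61) (kg xg20 yg54 zg40) (kg xg23 yg22 zg10) (kg xg28 yg27 zg44) (kg xg29 yg17 zg3) (kg xg14 yg54 zg46) (kg xg27 yg31 zg36) (kg xg14 yg54 zg47) (kg xg24 yg40 zg49) (kg xg24 yg42 zg23) (kg xg31 yg36 zg8)) (@D3.rec (fun _ => Pt) (kg xg21 yg8 zg23) (kg xg14 yg54 zg54) (kg xg24 yg41 zg3) (kg xg21 yg6 zg12) (kg xg24 yg42 zg19) (kg xg24 yg42 zg18) (kg xg30 yg4 zg13) (kg xg24 yg41 zg15) (kg xg31 yg1 zg42) (kg xg24 yg41 zg51) (kg xg22 yg43 zg0) (kg xg24 yg43 zg44) (kg xg14 yg54 zg57) (kg xg31 yg37 zg42) (kg xg24 yg42 zg7) (kg xg21 yg21 zg43) (kg xg27 yg23 zg9) (kg xg23 yg42 zg21) (kg xg14 yg54 zg60) (kg xg18 yg7 zg8) (kg xg28 yg31 zg11) (kg xg24 yg42 zg9) (kg xg21 yg19 zg35)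 (kg xg24 yg42 zg1) (kg xg23 yg58 zg20) (kg xg24 yg41 zg10) (kg xg21 yg14 zg30) (kg xg21 yg29 zg40) (kg xg31 yg37 zg46) (kg xg23 yg40 zg18) (kg xg22 yg58 zg20) (kg xg15 yg46 zg6) (kg xg17 yg55 zg54) (kg xg23 yg41 zg56) (kg xg22 yg27 zg15) (kg xg26 yg22 zg44) (kg xg29 yg10 zg8) (kg xg24 yg38 zg31) (kg xg14 yg55 zg18) (kg xg24 yg38 zg30) (kg xg31 yg37 zg51) (kg xg22 yg1 zg50) (kg xg25 yg58 zg9) (kg xg23 yg24 zg23) (kg xg30 yg8 zg59) (kg xg23 yg24 zg12) (kg xg14 yg55 zg25) (kg xg31 yg37 zg52) (kg xg19 yg36 zg41) (kg xg26 yg48 zg12) (kg xg14 yg55 zg27) (kg xg24 yg32 zg54) (kg xg24 yg34 zg10) (kg xg25 yg2 zg25) (kg xg24 yg9 zg50) (kg xg23 yg34 zg61) (kg xg21 yg46 zg41) (kg xg14 yg55 zg34) (kg xg22 yg4 zg25) (kg xg14 yg55 zg35) (kg xg31 yg37 zg35) (kg xg15 yg13 zg37)) (@D3.rec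 (fun _ => Pt) (kg xg19 yg5 zg49) (kg xg24 yg41 zg13) (kg xg22 yg8 zg16) (kg xg24 yg52 zg23) (kg xg24 yg32 zg38) (kg xg19 yg16 zg34) (kg xg23 yg56 zg53) (kg xg17 yg38 zg45) (kg xg29 yg58 zg1) (kg xg22 yg11 zg7) (kg xg18 yg6 zg8) (kg xg27 yg27 zg22) (kg xg19 yg16 zg39) (kg xg14 yg55 zg46) (kg xg29 yg52 zg11) (kg xg24 yg32 zg43) (kg xg14 yg55 zg47) (kg xg24 yg32 zg42) (kg xg16 yg50 zg48) (kg xg24 yg22 zg34) (kg xg24 yg41 zg25) (kg xg15 yg45 zg14) (kg xg25 yg2 zg40) (kg xg20 yg34 zg33) (kg xg14 yg55 zg54) (kg xg26 yg1 zg11) (kg xg24 yg41 zg43) (kg xg21 yg21 zg60) (kg xg14 yg55 zg61) (kg xg31 yg37 zg60) (kg xg28 yg58 zg52) (kg xg30 yg0 zg0) (kg xg29 yg11 zg12) (kg xg14 yg56 zg1) (kg xg21 yg42 zg15) (kg xg23 yg46 zg55) (kg xg23 yg22 zg37) (kg xg24 yg41 zg59) (kg xg24 yg41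 zg58) (kg xg29 yg57 zg51) (kg xg30 yg40 zg21) (kg xg21 yg48 zg58) (kg xg22 yg44 zg21) (kg xg27 yg3 zg47) (kg xg24 yg42 zg12) (kg xg14 yg56 zg16) (kg xg31 yg38 zg3) (kg xg31 yg11 zg8) (kg xg21 yg55 zg23) (kg xg14 yg56 zg17) (kg xg22 yg28 zg23) (kg xg29 yg6 zg29) (kg xg27 yg46 zg58) (kg xg24 yg42 zg42) (kg xg20 yg16 zg5) (kg xg14 yg56 zg24) (kg xg24 yg32 zg35) (kg xg24 yg52 zg22) (kg xg18 yg6 zg56) (kg xg31 yg6 zg7) (kg xg25 yg2 zg31) (kg xg29 yg9 zg51)) (@D3.rec (fun _ => Pt) (kg xg29 yg9 zg52) (kg xg24 yg41 zg29) (kg xg31 yg2 zg27) (kg xg22 yg15 zg2) (kg xg23 yg17 zg54) (kg xg14 yg56 zg36) (kg xg30 yg3 zg31) (kg xg17 yg42 zg56) (kg xg17 yg45 zg20) (kg xg22 yg15 zg10) (kg xg14 yg56 zg49) (kg xg22 yg15 zg9) (kg xg30 yg1 zg21) (kg xg21 yg4 zg40) (kg xg14 yg56 zg50) (kg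 xg18 yg16 zg32) (kg xg28 yg14 zg43) (kg xg27 yg45 zg21) (kg xg28 yg16 zg27) (kg xg22 yg23 zg33) (kg xg28 yg16 zg25) (kg xg22 yg13 zg28) (kg xg30 yg35 zg46) (kg xg19 yg1 zg24) (kg xg21 yg12 zg60) (kg xg14 yg56 zg56) (kg xg23 yg18 zg34) (kg xg14 yg58 zg6) (kg xg18 yg6 zg61) (kg xg25 yg34 zg32) (kg xg27 yg27 zg7) (kg xg25 yg14 zg45) (kg xg26 yg2 zg10) (kg xg17 yg37 zg35) (kg xg18 yg27 zg34) (kg xg16 yg14 zg50) (kg xg14 yg57 zg2) (kg xg16 yg14 zg49) (kg xg24 yg45 zg43) (kg xg23 yg51 zg49) (kg xg26 yg4 zg7) (kg xg16 yg14 zg22) (kg xg27 yg3 zg45) (kg xg27 yg39 zg26) (kg xg17 yg41 zg50) (kg xg25 yg15 zg45) (kg xg29 yg0 zg18) (kg xg25 yg55 zg4) (kg xg25 yg9 zg61) (kg xg30 yg15 zg4) (kg xg31 yg38 zg15) (kg xg14 yg57 zg20) (kg xg28 yg1 zg56) (kg xg27 yg26 zg34) (kg xg16 yg15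 zg59) (kg xg14 yg57 zg21) (kg xg27 yg39 zg46) (kg xg16 yg15 zg57) (kg xg27 yg1 zg28) (kg xg15 yg48 zg2) (kg xg17 yg53 zg13) (kg xg14 yg57 zg52)) (@D3.rec (fun _ => Pt) (kg xg15 yg23 zg23) (kg xg26 yg6 zg42) (kg xg16 yg18 zg48) (kg xg27 yg27 zg28) (kg xg17 yg45 zg9) (kg xg16 yg17 zg14) (kg xg30 yg6 zg31) (kg xg19 yg44 zg11) (kg xg18 yg32 zg11) (kg xg30 yg4 zg12) (kg xg14 yg57 zg44) (kg xg25 yg1 zg16) (kg xg18 yg6 zg50) (kg xg17 yg45 zg17) (kg xg26 yg3 zg1) (kg xg16 yg16 zg28) (kg xg14 yg57 zg50) (kg xg27 yg30 zg43) (kg xg14 yg57 zg55) (kg xg14 yg57 zg51) (kg xg15 yg44 zg45) (kg xg30 yg7 zg44) (kg xg26 yg13 zg57) (kg xg30 yg4 zg18) (kg xg30 yg14 zg36) (kg xg27 yg26 zg54) (kg xg23 yg18 zg0) (kg xg27 yg25 zg6) (kg xg25 yg10 zg44) (kg xg24 yg56 zg0) (kg xg27 yg39 zg32) (kg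 xg24 yg56 zg13) (kg xg14 yg57 zg60) (kg xg14 yg57 zg61) (kg xg15 yg14 zg30) (kg xg24 yg55 zg39) (kg xg28 yg2 zg30) (kg xg27 yg39 zg31) (kg xg27 yg27 zg33) (kg xg18 yg3 zg33) (kg xg16 yg14 zg51) (kg xg14 yg58 zg3) (kg xg27 yg31 zg30) (kg xg25 yg26 zg52) (kg xg15 yg14 zg36) (kg xg15 yg49 zg10) (kg xg14 yg58 zg12) (kg xg17 yg41 zg45) (kg xg27 yg39 zg27) (kg xg31 yg38 zg34) (kg xg27 yg48 zg8) (kg xg29 yg53 zg43) (kg xg15 yg7 zg44) (kg xg15 yg7 zg20) (kg xg26 yg24 zg33) (kg xg24 yg28 zg27) (kg xg29 yg50 zg22) (kg xg16 yg19 zg50) (kg xg29 yg41 zg61) (kg xg24 yg54 zg37) (kg xg15 yg7 zg9) (kg xg28 yg0 zg6)) (@D3.rec (fun _ => Pt) (kg xg27 yg55 zg43) (kg xg16 yg33 zg10) (kg xg29 yg53 zg14) (kg xg26 yg17 zg14) (kg xg19 yg44 zg14) (kg xg14 yg58 zg54) (kg xg14 yg58 zg42) (kg xg17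 yg33 zg7) (kg xg14 yg58 zg57) (kg xg26 yg40 zg55) (kg xg28 yg27 zg49) (kg xg14 yg58 zg45) (kg xg19 yg1 zg36) (kg xg22 yg32 zg4) (kg xg24 yg3 zg10) (kg xg18 yg55 zg11) (kg xg14 yg58 zg52) (kg xg16 yg44 zg30) (kg xg29 yg1 zg52) (kg xg18 yg55 zg56) (kg xg29 yg40 zg8) (kg xg24 yg21 zg50) (kg xg24 yg28 zg57) (kg xg31 yg38 zg56) (kg xg29 yg18 zg47) (kg xg29 yg19 zg4) (kg xg28 yg27 zg31) (kg xg16 yg22 zg42) (kg xg19 yg1 zg56) (kg xg28 yg20 zg7) (kg xg24 yg18 zg11) (kg xg24 yg17 zg60) (kg xg26 yg26 zg6) (kg xg19 yg1 zg46) (kg xg14 yg59 zg1) (kg xg16 yg22 zg36) (kg xg19 yg1 zg21) (kg xg14 yg59 zg4) (kg xg26 yg32 zg40) (kg xg19 yg22 zg22) (kg xg18 yg8 zg48) (kg xg23 yg34 zg16) (kg xg25 yg0 zg48) (kg xg18 yg17 zg13) (kg xg24 yg55 zg9) (kg xg27 yg40 zg6) (kg xg23 yg51 zg24) (kg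 xg16 yg23 zg3) (kg xg14 yg59 zg14) (kg xg26 yg30 zg45) (kg xg16 yg23 zg1) (kg xg28 yg3 zg43) (kg xg26 yg29 zg51) (kg xg18 yg3 zg61) (kg xg20 yg46 zg52) (kg xg25 yg0 zg38) (kg xg26 yg19 zg21) (kg xg29 yg52 zg50) (kg xg25 yg52 zg7) (kg xg14 yg59 zg31) (kg xg23 yg4 zg46) (kg xg16 yg46 zg12)) (@D3.rec (fun _ => Pt) (kg xg21 yg51 zg16) (kg xg14 yg59 zg37) (kg xg28 yg14 zg12) (kg xg26 yg43 zg60) (kg xg16 yg55 zg9) (kg xg26 yg22 zg4) (kg xg14 yg59 zg40) (kg xg19 yg56 zg8) (kg xg25 yg16 zg22) (kg xg23 yg46 zg25) (kg xg26 yg30 zg2) (kg xg18 yg23 zg6) (kg xg26 yg8 zg40) (kg xg24 yg31 zg48) (kg xg19 yg48 zg10) (kg xg16 yg12 zg22) (kg xg16 yg12 zg41) (kg xg14 yg59 zg55) (kg xg16 yg12 zg43) (kg xg15 yg0 zg0) (kg xg26 yg25 zg20) (kg xg16 yg32 zg61) (kg xg16 yg31 zg49) (kg xg23 yg7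 zg9) (kg xg20 yg6 zg57) (kg xg20 yg8 zg30) (kg xg20 yg9 zg1) (kg xg15 yg4 zg39) (kg xg19 yg33 zg40) (kg xg30 yg45 zg55) (kg xg16 yg31 zg55) (kg xg15 yg0 zg18) (kg xg15 yg0 zg14) (kg xg29 yg24 zg0) (kg xg15 yg0 zg16) (kg xg16 yg28 zg8) (kg xg24 yg46 zg58) (kg xg17 yg53 zg24) (kg xg30 yg54 zg6) (kg xg26 yg5 zg21) (kg xg20 yg18 zg45) (kg xg16 yg31 zg39) (kg xg24 yg21 zg46) (kg xg24 yg31 zg23) (kg xg15 yg8 zg44) (kg xg31 yg22 zg21) (kg xg15 yg8 zg35) (kg xg15 yg0 zg33) (kg xg15 yg0 zg26) (kg xg29 yg38 zg43) (kg xg24 yg56 zg31) (kg xg16 yg53 zg50) (kg xg15 yg0 zg31) (kg xg20 yg30 zg55) (kg xg30 yg24 zg59) (kg xg15 yg5 zg57) (kg xg18 yg47 zg7) (kg xg15 yg0 zg35) (kg xg18 yg47 zg6) (kg xg25 yg26 zg24) (kg xg31 yg15 zg3) (kg xg24 yg13 zg3)) (@D3.rec (fun _ => Pt) (kg xg18 yg32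 zg54) (kg xg15 yg0 zg38) (kg xg17 yg46 zg37) (kg xg27 yg53 zg24) (kg xg31 yg39 zg20) (kg xg28 yg33 zg44) (kg xg18 yg32 zg40) (kg xg18 yg13 zg37) (kg xg28 yg8 zg60) (kg xg27 yg34 zg3) (kg xg18 yg30 zg51) (kg xg18 yg15 zg0) (kg xg26 yg30 zg40) (kg xg28 yg4 zg33) (kg xg16 yg32 zg30) (kg xg19 yg6 zg19) (kg xg25 yg26 zg18) (kg xg26 yg30 zg42) (kg xg24 yg12 zg34) (kg xg15 yg0 zg47) (kg xg24 yg48 zg31) (kg xg28 yg3 zg11) (kg xg28 yg5 zg15) (kg xg27 yg59 zg51) (kg xg18 yg11 zg38) (kg xg27 yg51 zg30) (kg xg27 yg51 zg27) (kg xg15 yg0 zg51) (kg xg18 yg54 zg31) (kg xg31 yg39 zg33) (kg xg24 yg48 zg20) (kg xg15 yg0 zg53) (kg xg15 yg1 zg54) (kg xg15 yg1 zg53) (kg xg29 yg2 zg18) (kg xg29 yg35 zg35) (kg xg25 yg21 zg19) (kg xg15 yg1 zg35) (kg xg31 yg39 zg39) (kg xg25 yg38 zg44) (kg xg15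 yg1 zg61) (kg xg31 yg39 zg42) (kg xg15 yg2 zg21) (kg xg15 yg2 zg20) (kg xg24 yg50 zg6) (kg xg31 yg39 zg45) (kg xg15 yg28 zg3) (kg xg25 yg41 zg34) (kg xg15 yg2 zg28) (kg xg15 yg1 zg4) (kg xg24 yg51 zg54) (kg xg15 yg2 zg26) (kg xg15 yg1 zg11) (kg xg19 yg17 zg36) (kg xg15 yg1 zg9) (kg xg27 yg22 zg52) (kg xg17 yg50 zg44) (kg xg24 yg49 zg17) (kg xg25 yg11 zg13) (kg xg28 yg31 zg36) (kg xg28 yg31 zg37) (kg xg15 yg1 zg10)) (@D3.rec (fun _ => Pt) (kg xg29 yg41 zg41) (kg xg26 yg37 zg38) (kg xg24 yg51 zg0) (kg xg15 yg3 zg5) (kg xg15 yg1 zg12) (kg xg15 yg3 zg4) (kg xg25 yg22 zg43) (kg xg17 yg50 zg10) (kg xg23 yg59 zg47) (kg xg19 yg8 zg44) (kg xg15 yg1 zg17) (kg xg26 yg1 zg22) (kg xg21 yg5 zg16) (kg xg15 yg46 zg9) (kg xg25 yg44 zg17) (kg xg19 yg44 zg15) (kg xg15 yg1 zg21) (kg xg15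 yg29 zg19) (kg xg28 yg55 zg18) (kg xg31 yg40 zg1) (kg xg15 yg1 zg23) (kg xg29 yg45 zg45) (kg xg16 yg9 zg35) (kg xg25 yg20 zg31) (kg xg15 yg1 zg29) (kg xg19 yg29 zg13) (kg xg15 yg1 zg27) (kg xg19 yg29 zg12) (kg xg28 yg14 zg18) (kg xg31 yg40 zg11) (kg xg29 yg11 zg13) (kg xg31 yg40 zg16) (kg xg16 yg9 zg32) (kg xg15 yg1 zg30) (kg xg19 yg55 zg30) (kg xg24 yg52 zg47) (kg xg31 yg40 zg21) (kg xg31 yg40 zg24) (kg xg28 yg9 zg3) (kg xg28 yg55 zg4) (kg xg31 yg40 zg27) (kg xg28 yg36 zg37) (kg xg28 yg38 zg61) (kg xg31 yg40 zg31) (kg xg15 yg1 zg37) (kg xg26 yg53 zg42) (kg xg31 yg40 zg30) (kg xg19 yg50 zg39) (kg xg28 yg31 zg42) (kg xg15 yg1 zg39) (kg xg26 yg54 zg32) (kg xg15 yg28 zg56) (kg xg27 yg37 zg8) (kg xg19 yg59 zg32) (kg xg19 yg59 zg20) (kg xg15 yg1 zg42) (kg xg20 yg54 zg14)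 (kg xg25 yg21 zg22) (kg xg20 yg54 zg13) (kg xg15 yg29 zg6) (kg xg15 yg25 zg35) (kg xg19 yg11 zg8)) (@D3.rec (fun _ => Pt) (kg xg15 yg25 zg33) (kg xg15 yg34 zg60) (kg xg15 yg1 zg49) (kg xg15 yg34 zg59) (kg xg24 yg3 zg8) (kg xg25 yg33 zg37) (kg xg24 yg50 zg51) (kg xg25 yg20 zg21) (kg xg24 yg48 zg44) (kg xg31 yg40 zg6) (kg xg28 yg59 zg18) (kg xg24 yg50 zg45) (kg xg15 yg1 zg55) (kg xg31 yg21 zg34) (kg xg31 yg40 zg47) (kg xg15 yg1 zg56) (kg xg29 yg0 zg12) (kg xg25 yg20 zg19) (kg xg31 yg34 zg23) (kg xg15 yg1 zg57) (kg xg30 yg19 zg23) (kg xg25 yg38 zg48) (kg xg22 yg7 zg42) (kg xg31 yg40 zg61) (kg xg20 yg5 zg7) (kg xg15 yg1 zg60) (kg xg28 yg56 zg43) (kg xg31 yg39 zg43) (kg xg31 yg28 zg11) (kg xg20 yg5 zg15) (kg xg18 yg44 zg15) (kg xg15 yg2 zg2) (kg xg18 yg44 zg14) (kg xg31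 yg41 zg8) (kg xg22 yg7 zg43) (kg xg26 yg40 zg4) (kg xg29 yg17 zg57) (kg xg17 yg48 zg34) (kg xg28 yg43 zg14) (kg xg26 yg37 zg54) (kg xg15 yg2 zg8) (kg xg29 yg7 zg28) (kg xg19 yg55 zg32) (kg xg25 yg19 zg48) (kg xg15 yg2 zg10) (kg xg24 yg50 zg12) (kg xg18 yg34 zg40) (kg xg27 yg34 zg15) (kg xg25 yg9 zg13) (kg xg29 yg2 zg23) (kg xg29 yg6 zg50) (kg xg24 yg50 zg8) (kg xg25 yg19 zg47) (kg xg15 yg2 zg22) (kg xg28 yg21 zg61) (kg xg27 yg12 zg7) (kg xg31 yg9 zg52) (kg xg15 yg2 zg23) (kg xg15 yg18 zg37) (kg xg31 yg36 zg54) (kg xg25 yg19 zg49) (kg xg15 yg2 zg24)) (@D3.rec (fun _ => Pt) (kg xg21 yg23 zg41) (kg xg25 yg41 zg37) (kg xg24 yg49 zg48) (kg xg25 yg20 zg10) (kg xg25 yg22 zg44) (kg xg19 yg58 zg19) (kg xg17 yg51 zg39) (kg xg21 yg50 zg52) (kg xg15 yg2 zg27) (kg xg20 yg53 zg42)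 (kg xg29 yg44 zg51) (kg xg25 yg13 zg44) (kg xg29 yg2 zg40) (kg xg20 yg55 zg50) (kg xg24 yg58 zg39) (kg xg25 yg9 zg18) (kg xg26 yg2 zg59) (kg xg15 yg2 zg59) (kg xg25 yg11 zg2) (kg xg25 yg10 zg61) (kg xg15 yg2 zg36) (kg xg31 yg41 zg23) (kg xg15 yg16 zg21) (kg xg25 yg9 zg19) (kg xg26 yg3 zg20) (kg xg15 yg2 zg38) (kg xg19 yg26 zg58) (kg xg25 yg22 zg4) (kg xg31 yg39 zg47) (kg xg26 yg1 zg60) (kg xg26 yg42 zg40) (kg xg15 yg2 zg61) (kg xg25 yg22 zg39) (kg xg26 yg3 zg16) (kg xg28 yg51 zg26) (kg xg26 yg3 zg17) (kg xg15 yg2 zg44) (kg xg26 yg50 zg59) (kg xg31 yg41 zg37) (kg xg31 yg41 zg34) (kg xg15 yg2 zg45) (kg xg24 yg50 zg13) (kg xg31 yg41 zg32) (kg xg15 yg2 zg46) (kg xg31 yg41 zg44) (kg xg25 yg11 zg10) (kg xg21 yg43 zg9) (kg xg15 yg2 zg47) (kg xg21 yg2 zg9) (kg xg15 yg2 zg49)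 (kg xg30 yg27 zg3) (kg xg27 yg22 zg59) (kg xg26 yg54 zg21) (kg xg15 yg47 zg59) (kg xg24 yg51 zg9) (kg xg25 yg44 zg20) (kg xg20 yg53 zg29) (kg xg31 yg41 zg47) (kg xg19 yg11 zg11) (kg xg31 yg41 zg50) (kg xg19 yg50 zg28) (kg xg29 yg36 zg1)) (@D3.rec (fun _ => Pt) (kg xg25 yg9 zg26) (kg xg15 yg3 zg0) (kg xg17 yg51 zg38) (kg xg24 yg50 zg58) (kg xg16 yg50 zg19) (kg xg26 yg1 zg58) (kg xg26 yg37 zg42) (kg xg31 yg41 zg51) (kg xg25 yg19 zg21) (kg xg28 yg31 zg41) (kg xg26 yg53 zg27) (kg xg25 yg21 zg28) (kg xg19 yg40 zg26) (kg xg26 yg37 zg44) (kg xg26 yg37 zg39) (kg xg19 yg32 zg48) (kg xg20 yg5 zg30) (kg xg15 yg3 zg9) (kg xg16 yg22 zg11) (kg xg25 yg20 zg44) (kg xg19 yg42 zg18) (kg xg24 yg43 zg57) (kg xg15 yg3 zg14) (kg xg24 yg43 zg55) (kg xg25 yg49 zg36) (kg xg26 yg9 zg10) (kg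 xg17 yg38 zg23) (kg xg18 yg35 zg8) (kg xg17 yg36 zg60) (kg xg25 yg49 zg49) (kg xg27 yg31 zg59) (kg xg16 yg4 zg45) (kg xg25 yg38 zg37) (kg xg28 yg27 zg33) (kg xg18 yg14 zg54) (kg xg29 yg2 zg60) (kg xg20 yg6 zg44) (kg xg15 yg3 zg29) (kg xg16 yg39 zg29) (kg xg26 yg35 zg29) (kg xg29 yg11 zg16) (kg xg15 yg3 zg38) (kg xg15 yg3 zg30) (kg xg25 yg44 zg24) (kg xg22 yg7 zg52) (kg xg29 yg7 zg20) (kg xg29 yg7 zg24) (kg xg26 yg9 zg48) (kg xg19 yg58 zg7) (kg xg30 yg27 zg2) (kg xg22 yg7 zg48) (kg xg24 yg51 zg61) (kg xg21 yg3 zg56) (kg xg17 yg55 zg43) (kg xg21 yg8 zg35) (kg xg26 yg29 zg31) (kg xg15 yg4 zg29) (kg xg15 yg4 zg30) (kg xg15 yg4 zg32) (kg xg28 yg44 zg47) (kg xg21 yg13 zg28) (kg xg29 yg18 zg41)) (@D3.rec (fun _ => Pt) (kg xg28 yg9 zg45) (kg xg15 yg50 zg40) (kg xg15 yg4 zg3)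 (kg xg27 yg5 zg23) (kg xg16 yg52 zg44) (kg xg15 yg56 zg38) (kg xg28 yg43 zg61) (kg xg15 yg4 zg9) (kg xg22 yg23 zg35) (kg xg24 yg53 zg32) (kg xg20 yg7 zg44) (kg xg29 yg19 zg28) (kg xg20 yg0 zg20) (kg xg20 yg0 zg53) (kg xg30 yg5 zg34) (kg xg16 yg51 zg19) (kg xg16 yg52 zg0) (kg xg27 yg9 zg1) (kg xg20 yg0 zg55) (kg xg17 yg56 zg45) (kg xg20 yg1 zg20) (kg xg20 yg33 zg50) (kg xg20 yg30 zg38) (kg xg23 yg33 zg42) (kg xg20 yg35 zg24) (kg xg17 yg2 zg20) (kg xg16 yg53 zg2) (kg xg30 yg24 zg38) (kg xg20 yg28 zg26) (kg xg15 yg4 zg57) (kg xg29 yg7 zg48) (kg xg20 yg29 zg3) (kg xg24 yg53 zg10) (kg xg15 yg5 zg10) (kg xg29 yg8 zg11) (kg xg17 yg45 zg8) (kg xg21 yg0 zg9) (kg xg17 yg8 zg20) (kg xg17 yg8 zg16) (kg xg17 yg21 zg55) (kg xg16 yg57 zg44) (kg xg17 yg21 zg50) (kg xg15 yg5 zg36) (kg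 xg17 yg5 zg61) (kg xg17 yg6 zg0) (kg xg31 yg42 zg6) (kg xg24 yg55 zg4) (kg xg15 yg5 zg46) (kg xg24 yg55 zg11) (kg xg19 yg2 zg21) (kg xg30 yg3 zg11) (kg xg15 yg5 zg47) (kg xg31 yg42 zg13) (kg xg27 yg54 zg49) (kg xg31 yg42 zg17) (kg xg22 yg49 zg52) (kg xg26 yg19 zg3) (kg xg26 yg18 zg60) (kg xg26 yg18 zg61) (kg xg15 yg5 zg52) (kg xg23 yg51 zg48) (kg xg31 yg42 zg19)) (@D3.rec (fun _ => Pt) (kg xg16 yg22 zg61) (kg xg28 yg4 zg19) (kg xg31 yg42 zg20) (kg xg23 yg51 zg22) (kg xg16 yg33 zg26) (kg xg19 yg2 zg28) (kg xg20 yg6 zg8) (kg xg17 yg46 zg42) (kg xg31 yg38 zg45) (kg xg24 yg45 zg55) (kg xg26 yg31 zg60) (kg xg24 yg54 zg29) (kg xg22 yg47 zg18) (kg xg26 yg23 zg59) (kg xg21 yg29 zg13) (kg xg23 yg38 zg26) (kg xg19 yg18 zg35) (kg xg31 yg2 zg51) (kg xg30 yg3 zg6) (kg xg15 yg6 zg14)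 (kg xg24 yg17 zg35) (kg xg20 yg13 zg32) (kg xg15 yg6 zg20) (kg xg15 yg6 zg17) (kg xg31 yg42 zg30) (kg xg21 yg12 zg22) (kg xg31 yg42 zg31) (kg xg21 yg12 zg38) (kg xg20 yg0 zg31) (kg xg16 yg25 zg47) (kg xg23 yg3 zg30) (kg xg24 yg57 zg35) (kg xg31 yg42 zg35) (kg xg24 yg56 zg55) (kg xg26 yg19 zg9) (kg xg27 yg31 zg22) (kg xg15 yg6 zg28) (kg xg24 yg57 zg32) (kg xg20 yg41 zg9) (kg xg22 yg37 zg30) (kg xg18 yg19 zg58) (kg xg27 yg31 zg12) (kg xg17 yg39 zg59) (kg xg26 yg17 zg50) (kg xg15 yg6 zg41) (kg xg25 yg47 zg27) (kg xg25 yg23 zg23) (kg xg25 yg23 zg16) (kg xg26 yg13 zg53) (kg xg16 yg14 zg58) (kg xg17 yg43 zg23) (kg xg15 yg6 zg48) (kg xg27 yg24 zg54) (kg xg26 yg15 zg1) (kg xg15 yg6 zg55) (kg xg31 yg42 zg38) (kg xg25 yg15 zg46) (kg xg16 yg17 zg25) (kg xg26 yg10 zg48) (kg xg17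 yg43 zg59) (kg xg25 yg3 zg39) (kg xg28 yg3 zg8)) (@D3.rec (fun _ => Pt) (kg xg25 yg45 zg24) (kg xg31 yg1 zg34) (kg xg31 yg42 zg39) (kg xg26 yg14 zg54) (kg xg24 yg53 zg47) (kg xg31 yg42 zg48) (kg xg31 yg42 zg49) (kg xg25 yg10 zg48) (kg xg28 yg46 zg51) (kg xg24 yg46 zg46) (kg xg24 yg53 zg48) (kg xg15 yg6 zg60) (kg xg29 yg54 zg10) (kg xg29 yg20 zg23) (kg xg27 yg29 zg3) (kg xg15 yg6 zg61) (kg xg31 yg14 zg26) (kg xg31 yg42 zg57) (kg xg26 yg13 zg17) (kg xg27 yg28 zg3) (kg xg23 yg6 zg10) (kg xg15 yg7 zg24) (kg xg17 yg44 zg35) (kg xg30 yg45 zg60) (kg xg16 yg23 zg36) (kg xg15 yg7 zg12) (kg xg15 yg7 zg8) (kg xg15 yg9 zg59) (kg xg27 yg27 zg40) (kg xg19 yg2 zg9) (kg xg19 yg0 zg49) (kg xg28 yg0 zg1) (kg xg15 yg23 zg32) (kg xg23 yg7 zg13) (kg xg16 yg21 zg9) (kg xg16 yg19 zg41) (kg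 xg30 yg45 zg40) (kg xg27 yg40 zg13) (kg xg15 yg7 zg16) (kg xg26 yg4 zg34) (kg xg26 yg19 zg42) (kg xg15 yg14 zg22) (kg xg15 yg7 zg31) (kg xg15 yg7 zg17) (kg xg15 yg7 zg30) (kg xg19 yg0 zg55) (kg xg15 yg7 zg21) (kg xg15 yg7 zg19) (kg xg22 yg15 zg18) (kg xg31 yg43 zg5) (kg xg19 yg1 zg60) (kg xg31 yg38 zg37) (kg xg29 yg0 zg41) (kg xg29 yg55 zg33) (kg xg31 yg43 zg6) (kg xg30 yg25 zg2) (kg xg15 yg7 zg22) (kg xg24 yg59 zg36) (kg xg16 yg20 zg30) (kg xg27 yg29 zg6) (kg xg31 yg43 zg10) (kg xg27 yg47 zg6)) (@D3.rec (fun _ => Pt) (kg xg18 yg30 zg27) (kg xg26 yg18 zg39) (kg xg27 yg40 zg14) (kg xg17 yg40 zg60) (kg xg17 yg44 zg31) (kg xg17 yg40 zg58) (kg xg30 yg45 zg2) (kg xg15 yg7 zg26) (kg xg24 yg56 zg7) (kg xg17 yg41 zg9) (kg xg27 yg28 zg34) (kg xg20 yg45 zg46) (kg xg19 yg2 zg15)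 (kg xg26 yg20 zg48) (kg xg26 yg13 zg20) (kg xg16 yg26 zg48) (kg xg26 yg13 zg10) (kg xg26 yg13 zg21) (kg xg22 yg59 zg49) (kg xg27 yg41 zg53) (kg xg24 yg58 zg17) (kg xg17 yg44 zg23) (kg xg15 yg12 zg9) (kg xg27 yg48 zg28) (kg xg17 yg44 zg33) (kg xg18 yg7 zg24) (kg xg27 yg45 zg35) (kg xg15 yg7 zg37) (kg xg30 yg44 zg24) (kg xg15 yg12 zg20) (kg xg26 yg13 zg42) (kg xg24 yg47 zg55) (kg xg15 yg7 zg42) (kg xg15 yg7 zg43) (kg xg18 yg15 zg52) (kg xg21 yg12 zg15) (kg xg20 yg7 zg45) (kg xg26 yg18 zg54) (kg xg16 yg19 zg48) (kg xg16 yg19 zg30) (kg xg29 yg53 zg23) (kg xg22 yg28 zg36) (kg xg21 yg11 zg60) (kg xg15 yg7 zg48) (kg xg15 yg7 zg51) (kg xg16 yg31 zg16) (kg xg19 yg52 zg60) (kg xg16 yg29 zg25) (kg xg25 yg49 zg20) (kg xg25 yg2 zg29) (kg xg15 yg7 zg58) (kg xg17 yg57 zg29) (kg xg31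 yg43 zg18) (kg xg24 yg54 zg33) (kg xg16 yg25 zg4) (kg xg29 yg38 zg51) (kg xg29 yg24 zg31) (kg xg20 yg30 zg4) (kg xg15 yg8 zg9) (kg xg20 yg30 zg3) (kg xg20 yg18 zg19) (kg xg15 yg8 zg16)) (@D3.rec (fun _ => Pt) (kg xg15 yg8 zg12) (kg xg26 yg29 zg53) (kg xg31 yg43 zg2) (kg xg15 yg8 zg13) (kg xg19 yg47 zg1) (kg xg25 yg15 zg55) (kg xg21 yg32 zg42) (kg xg15 yg8 zg20) (kg xg30 yg24 zg6) (kg xg30 yg54 zg25) (kg xg23 yg32 zg56) (kg xg31 yg43 zg17) (kg xg16 yg27 zg4) (kg xg15 yg8 zg23) (kg xg31 yg43 zg24) (kg xg29 yg36 zg47) (kg xg16 yg23 zg55) (kg xg22 yg55 zg46) (kg xg18 yg34 zg3) (kg xg26 yg30 zg23) (kg xg16 yg32 zg29) (kg xg24 yg20 zg17) (kg xg16 yg24 zg52) (kg xg24 yg54 zg38) (kg xg24 yg11 zg1) (kg xg28 yg47 zg49) (kg xg18 yg38 zg45) (kg xg15 yg8 zg32) (kg xg25 yg52 zg10)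 (kg xg21 yg29 zg57) (kg xg27 yg40 zg24) (kg xg29 yg32 zg61) (kg xg15 yg8 zg36) (kg xg24 yg54 zg36) (kg xg16 yg23 zg59) (kg xg20 yg11 zg19) (kg xg16 yg35 zg38) (kg xg30 yg45 zg28) (kg xg20 yg10 zg57) (kg xg19 yg48 zg7) (kg xg16 yg24 zg3) (kg xg17 yg44 zg40) (kg xg31 yg6 zg9) (kg xg16 yg28 zg40) (kg xg22 yg31 zg59) (kg xg21 yg12 zg1) (kg xg15 yg8 zg50) (kg xg21 yg12 zg0) (kg xg21 yg12 zg6) (kg xg15 yg8 zg52) (kg xg21 yg12 zg5) (kg xg29 yg53 zg59) (kg xg29 yg53 zg61) (kg xg15 yg16 zg27) (kg xg15 yg8 zg61) (kg xg15 yg9 zg5) (kg xg15 yg9 zg8) (kg xg19 yg26 zg49) (kg xg22 yg5 zg54) (kg xg31 yg43 zg41) (kg xg31 yg43 zg43) (kg xg15 yg9 zg6)) (@D3.rec (fun _ => Pt) (kg xg28 yg37 zg6) (kg xg22 yg5 zg50) (kg xg19 yg57 zg20) (kg xg19 yg56 zg61) (kg xg22 yg9 zg8) (kg xg21 yg47 zg0)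 (kg xg15 yg9 zg7) (kg xg21 yg47 zg2) (kg xg18 yg49 zg42) (kg xg29 yg3 zg55) (kg xg26 yg44 zg35) (kg xg15 yg9 zg13) (kg xg27 yg17 zg21) (kg xg26 yg45 zg46) (kg xg15 yg9 zg14) (kg xg25 yg49 zg52) (kg xg15 yg19 zg36) (kg xg18 yg6 zg39) (kg xg25 yg12 zg10) (kg xg17 yg53 zg32) (kg xg16 yg36 zg51) (kg xg31 yg43 zg52) (kg xg26 yg44 zg36) (kg xg15 yg9 zg24) (kg xg25 yg35 zg36) (kg xg27 yg14 zg36) (kg xg24 yg26 zg4) (kg xg28 yg57 zg20) (kg xg15 yg54 zg30) (kg xg15 yg16 zg18) (kg xg15 yg20 zg19) (kg xg15 yg9 zg30) (kg xg27 yg44 zg6) (kg xg15 yg9 zg34) (kg xg19 yg17 zg4) (kg xg18 yg12 zg35) (kg xg25 yg13 zg2) (kg xg25 yg13 zg1) (kg xg25 yg12 zg60) (kg xg15 yg20 zg42) (kg xg24 yg50 zg50) (kg xg28 yg19 zg42) (kg xg27 yg38 zg29) (kg xg15 yg9 zg35) (kg xg15 yg20 zg28) (kg xg25 yg6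 zg16) (kg xg15 yg22 zg42) (kg xg18 yg26 zg46) (kg xg26 yg21 zg41) (kg xg27 yg49 zg39) (kg xg25 yg1 zg36) (kg xg18 yg6 zg41) (kg xg31 yg43 zg58) (kg xg31 yg6 zg57) (kg xg18 yg8 zg52) (kg xg22 yg28 zg20) (kg xg15 yg9 zg52) (kg xg15 yg9 zg53) (kg xg28 yg12 zg31) (kg xg15 yg11 zg18) (kg xg29 yg27 zg10) (kg xg30 yg24 zg61)) (@D3.rec (fun _ => Pt) (kg xg23 yg43 zg24) (kg xg27 yg50 zg49) (kg xg26 yg14 zg3) (kg xg30 yg24 zg55) (kg xg30 yg23 zg31) (kg xg27 yg25 zg57) (kg xg27 yg29 zg1) (kg xg17 yg40 zg29) (kg xg27 yg28 zg51) (kg xg18 yg18 zg55) (kg xg28 yg0 zg52) (kg xg15 yg10 zg3) (kg xg26 yg57 zg47) (kg xg20 yg32 zg20) (kg xg18 yg27 zg8) (kg xg23 yg4 zg57) (kg xg25 yg46 zg45) (kg xg25 yg46 zg19) (kg xg15 yg11 zg8) (kg xg18 yg42 zg38) (kg xg15 yg10 zg8) (kg xg18 yg56 zg42)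 (kg xg23 yg20 zg58) (kg xg15 yg23 zg39) (kg xg29 yg54 zg34) (kg xg18 yg28 zg21) (kg xg22 yg54 zg33) (kg xg25 yg46 zg16) (kg xg15 yg11 zg31) (kg xg20 yg29 zg36) (kg xg15 yg10 zg14) (kg xg31 yg44 zg7) (kg xg20 yg29 zg35) (kg xg15 yg40 zg27) (kg xg18 yg19 zg8) (kg xg18 yg49 zg35) (kg xg25 yg2 zg21) (kg xg22 yg55 zg47) (kg xg27 yg58 zg48) (kg xg18 yg40 zg49) (kg xg29 yg29 zg19) (kg xg23 yg17 zg52) (kg xg30 yg58 zg20) (kg xg15 yg10 zg26) (kg xg23 yg10 zg30) (kg xg25 yg16 zg6) (kg xg23 yg7 zg40) (kg xg27 yg41 zg47) (kg xg25 yg2 zg22) (kg xg25 yg2 zg10) (kg xg15 yg10 zg30) (kg xg25 yg2 zg8) (kg xg23 yg42 zg55) (kg xg15 yg10 zg33) (kg xg30 yg2 zg40) (kg xg26 yg8 zg46) (kg xg22 yg30 zg33) (kg xg17 yg25 zg30) (kg xg23 yg18 zg22) (kg xg15 yg10 zg43) (kg xg22 yg56 zg3) (kg xg22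 yg55 zg35))
def f_g_25 : D2 → D3 → Pt := @D2.rec (fun _ => D3 → Pt) (@D3.rec (fun _ => Pt) (kg xg26 yg9 zg3) (kg xg15 yg10 zg49) (kg xg31 yg44 zg15) (kg xg30 yg2 zg55) (kg xg25 yg0 zg57) (kg xg23 yg21 zg32) (kg xg30 yg59 zg53) (kg xg16 yg26 zg9) (kg xg30 yg57 zg48) (kg xg28 yg2 zg9) (kg xg26 yg17 zg47) (kg xg16 yg54 zg3) (kg xg15 yg50 zg8) (kg xg16 yg22 zg12) (kg xg18 yg26 zg30) (kg xg15 yg11 zg5) (kg xg30 yg23 zg23) (kg xg25 yg4 zg2) (kg xg27 yg46 zg1) (kg xg18 yg27 zg4) (kg xg18 yg27 zg2) (kg xg15 yg11 zg16) (kg xg30 yg59 zg13) (kg xg30 yg0 zg56) (kg xg26 yg16 zg6) (kg xg27 yg28 zg7) (kg xg18 yg27 zg31) (kg xg17 yg39 zg53) (kg xg17 yg39 zg21) (kg xg17 yg36 zg50) (kg xg17 yg38 zg42) (kg xg27 yg46 zg35) (kg xg15 yg14 zg18) (kg xg18 yg28 zg40) (kg xg15 yg12 zg23) (kg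 xg18 yg30 zg11) (kg xg28 yg8 zg19) (kg xg18 yg28 zg19) (kg xg24 yg46 zg52) (kg xg27 yg46 zg11) (kg xg15 yg14 zg16) (kg xg27 yg46 zg9) (kg xg15 yg11 zg34) (kg xg28 yg6 zg29) (kg xg18 yg28 zg26) (kg xg27 yg46 zg5) (kg xg19 yg5 zg11) (kg xg27 yg45 zg38) (kg xg18 yg30 zg21) (kg xg18 yg28 zg8) (kg xg18 yg29 zg61) (kg xg15 yg11 zg57) (kg xg27 yg46 zg22) (kg xg18 yg29 zg0) (kg xg18 yg29 zg15) (kg xg25 yg0 zg4) (kg xg18 yg29 zg57) (kg xg18 yg58 zg28) (kg xg26 yg13 zg48) (kg xg18 yg59 zg32) (kg xg18 yg28 zg29) (kg xg15 yg12 zg6)) (@D3.rec (fun _ => Pt) (kg xg25 yg0 zg6) (kg xg15 yg12 zg12) (kg xg26 yg20 zg55) (kg xg25 yg58 zg43) (kg xg24 yg44 zg12) (kg xg27 yg47 zg11) (kg xg27 yg50 zg32) (kg xg26 yg13 zg29) (kg xg17 yg44 zg29) (kg xg27 yg27 zg58) (kg xg18 yg29 zg3) (kg xg17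 yg44 zg43) (kg xg27 yg47 zg12) (kg xg15 yg12 zg14) (kg xg16 yg15 zg15) (kg xg18 yg28 zg51) (kg xg23 yg44 zg61) (kg xg18 yg29 zg8) (kg xg18 yg28 zg22) (kg xg27 yg44 zg40) (kg xg18 yg28 zg58) (kg xg27 yg26 zg23) (kg xg18 yg30 zg4) (kg xg15 yg12 zg24) (kg xg31 yg44 zg36) (kg xg18 yg30 zg2) (kg xg27 yg48 zg6) (kg xg27 yg49 zg5) (kg xg19 yg0 zg35) (kg xg28 yg44 zg55) (kg xg17 yg54 zg8) (kg xg27 yg58 zg25) (kg xg21 yg37 zg15) (kg xg15 yg12 zg35) (kg xg18 yg27 zg14) (kg xg27 yg47 zg36) (kg xg16 yg33 zg8) (kg xg24 yg30 zg39) (kg xg23 yg33 zg54) (kg xg31 yg44 zg42) (kg xg26 yg12 zg29) (kg xg26 yg18 zg51) (kg xg28 yg7 zg20) (kg xg28 yg4 zg30) (kg xg31 yg44 zg45) (kg xg15 yg12 zg45) (kg xg17 yg37 zg44) (kg xg31 yg32 zg55) (kg xg17 yg39 zg49) (kg xg23 yg14 zg56) (kg xg15 yg12 zg51)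 (kg xg29 yg30 zg24) (kg xg19 yg48 zg23) (kg xg26 yg29 zg12) (kg xg25 yg16 zg31) (kg xg16 yg33 zg48) (kg xg25 yg16 zg26) (kg xg27 yg48 zg48) (kg xg26 yg25 zg14) (kg xg31 yg43 zg60) (kg xg23 yg7 zg49) (kg xg24 yg28 zg29)) (@D3.rec (fun _ => Pt) (kg xg28 yg10 zg40) (kg xg18 yg28 zg41) (kg xg15 yg13 zg19) (kg xg31 yg42 zg33) (kg xg31 yg44 zg55) (kg xg26 yg24 zg9) (kg xg30 yg2 zg53) (kg xg24 yg59 zg51) (kg xg15 yg13 zg10) (kg xg30 yg48 zg19) (kg xg24 yg59 zg50) (kg xg26 yg24 zg40) (kg xg23 yg25 zg48) (kg xg31 yg6 zg22) (kg xg30 yg58 zg8) (kg xg16 yg21 zg37) (kg xg23 yg21 zg22) (kg xg24 yg42 zg53) (kg xg31 yg2 zg18) (kg xg23 yg14 zg55) (kg xg31 yg43 zg8) (kg xg27 yg57 zg32) (kg xg27 yg57 zg25) (kg xg31 yg6 zg8) (kg xg31 yg45 zg1) (kg xg21 yg28 zg13) (kg xg23 yg33 zg23) (kg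 xg15 yg13 zg25) (kg xg24 yg59 zg48) (kg xg24 yg56 zg50) (kg xg28 yg49 zg30) (kg xg24 yg44 zg1) (kg xg15 yg13 zg39) (kg xg15 yg13 zg32) (kg xg15 yg13 zg30) (kg xg28 yg0 zg39) (kg xg25 yg14 zg49) (kg xg16 yg12 zg21) (kg xg28 yg1 zg30) (kg xg24 yg43 zg22) (kg xg15 yg13 zg35) (kg xg23 yg31 zg2) (kg xg26 yg0 zg55) (kg xg17 yg15 zg35) (kg xg23 yg32 zg13) (kg xg26 yg7 zg40) (kg xg26 yg7 zg41) (kg xg24 yg57 zg5) (kg xg16 yg21 zg39) (kg xg23 yg19 zg50) (kg xg15 yg13 zg43) (kg xg23 yg14 zg0) (kg xg23 yg3 zg43) (kg xg23 yg18 zg5) (kg xg28 yg10 zg5) (kg xg30 yg1 zg12) (kg xg18 yg28 zg10) (kg xg28 yg10 zg4) (kg xg26 yg15 zg40) (kg xg15 yg13 zg58) (kg xg18 yg28 zg53) (kg xg17 yg46 zg36)) (@D3.rec (fun _ => Pt) (kg xg25 yg0 zg7) (kg xg23 yg18 zg46) (kg xg30 yg59 zg32) (kg xg30 yg33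 zg53) (kg xg18 yg29 zg34) (kg xg31 yg44 zg2) (kg xg18 yg40 zg45) (kg xg22 yg31 zg42) (kg xg28 yg31 zg60) (kg xg16 yg20 zg32) (kg xg21 yg12 zg47) (kg xg27 yg33 zg44) (kg xg23 yg18 zg3) (kg xg15 yg14 zg7) (kg xg19 yg56 zg59) (kg xg21 yg37 zg61) (kg xg15 yg14 zg14) (kg xg27 yg48 zg29) (kg xg30 yg44 zg21) (kg xg30 yg1 zg8) (kg xg27 yg45 zg47) (kg xg30 yg31 zg51) (kg xg30 yg25 zg6) (kg xg18 yg28 zg57) (kg xg27 yg48 zg55) (kg xg15 yg14 zg20) (kg xg16 yg19 zg15) (kg xg18 yg28 zg48) (kg xg31 yg0 zg52) (kg xg23 yg17 zg60) (kg xg31 yg44 zg19) (kg xg28 yg32 zg2) (kg xg18 yg28 zg61) (kg xg15 yg14 zg26) (kg xg28 yg4 zg25) (kg xg26 yg12 zg53) (kg xg18 yg27 zg16) (kg xg18 yg4 zg28) (kg xg18 yg4 zg27) (kg xg26 yg18 zg12) (kg xg20 yg4 zg11) (kg xg31 yg45 zg10) (kg xg30 yg45 zg59) (kg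 xg18 yg16 zg29) (kg xg27 yg32 zg49) (kg xg18 yg6 zg33) (kg xg19 yg0 zg47) (kg xg15 yg14 zg39) (kg xg25 yg51 zg14) (kg xg18 yg26 zg55) (kg xg15 yg14 zg50) (kg xg15 yg14 zg46) (kg xg31 yg45 zg16) (kg xg31 yg45 zg18) (kg xg16 yg23 zg10) (kg xg31 yg45 zg17) (kg xg31 yg45 zg19) (kg xg15 yg14 zg52) (kg xg25 yg1 zg6) (kg xg21 yg28 zg37) (kg xg28 yg3 zg54) (kg xg27 yg28 zg44)) (@D3.rec (fun _ => Pt) (kg xg28 yg3 zg60) (kg xg21 yg19 zg53) (kg xg18 yg5 zg14) (kg xg25 yg0 zg17) (kg xg19 yg35 zg6) (kg xg19 yg35 zg5) (kg xg27 yg17 zg47) (kg xg19 yg46 zg2) (kg xg19 yg36 zg46) (kg xg31 yg37 zg54) (kg xg28 yg36 zg46) (kg xg15 yg32 zg24) (kg xg19 yg35 zg20) (kg xg19 yg35 zg18) (kg xg19 yg36 zg45) (kg xg25 yg5 zg18) (kg xg29 yg50 zg9) (kg xg28 yg19 zg15) (kg xg19 yg28 zg2) (kg xg19 yg44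 zg27) (kg xg28 yg50 zg21) (kg xg20 yg43 zg49) (kg xg26 yg15 zg49) (kg xg17 yg36 zg3) (kg xg17 yg52 zg48) (kg xg25 yg6 zg6) (kg xg19 yg44 zg52) (kg xg16 yg36 zg58) (kg xg26 yg10 zg41) (kg xg25 yg36 zg52) (kg xg18 yg47 zg31) (kg xg15 yg15 zg43) (kg xg28 yg54 zg2) (kg xg15 yg15 zg45) (kg xg31 yg39 zg48) (kg xg28 yg19 zg38) (kg xg27 yg29 zg30) (kg xg19 yg46 zg34) (kg xg15 yg15 zg53) (kg xg25 yg29 zg6) (kg xg31 yg39 zg51) (kg xg28 yg19 zg19) (kg xg15 yg15 zg28) (kg xg31 yg45 zg34) (kg xg30 yg56 zg40) (kg xg31 yg9 zg53) (kg xg15 yg15 zg29) (kg xg29 yg2 zg11) (kg xg31 yg39 zg54) (kg xg27 yg43 zg58) (kg xg15 yg15 zg30) (kg xg27 yg43 zg56) (kg xg28 yg19 zg18) (kg xg19 yg5 zg9) (kg xg26 yg33 zg51) (kg xg25 yg55 zg53) (kg xg19 yg46 zg39) (kg xg15 yg15 zg55) (kg xg15 yg15 zg35)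 (kg xg27 yg13 zg1) (kg xg28 yg19 zg24) (kg xg15 yg15 zg36)) (@D3.rec (fun _ => Pt) (kg xg21 yg27 zg5) (kg xg22 yg53 zg56) (kg xg19 yg46 zg15) (kg xg15 yg15 zg37) (kg xg29 yg3 zg45) (kg xg25 yg24 zg55) (kg xg19 yg40 zg52) (kg xg16 yg45 zg50) (kg xg15 yg19 zg21) (kg xg20 yg4 zg22) (kg xg20 yg15 zg26) (kg xg29 yg4 zg12) (kg xg22 yg47 zg42) (kg xg31 yg22 zg13) (kg xg31 yg45 zg29) (kg xg19 yg46 zg17) (kg xg27 yg44 zg35) (kg xg19 yg40 zg55) (kg xg25 yg4 zg18) (kg xg28 yg50 zg36) (kg xg24 yg2 zg38) (kg xg16 yg8 zg13) (kg xg28 yg57 zg10) (kg xg15 yg15 zg48) (kg xg31 yg3 zg50) (kg xg19 yg44 zg48) (kg xg24 yg9 zg42) (kg xg30 yg43 zg13) (kg xg31 yg45 zg49) (kg xg25 yg24 zg45) (kg xg15 yg15 zg52) (kg xg31 yg18 zg19) (kg xg25 yg26 zg32) (kg xg31 yg45 zg53) (kg xg28 yg8 zg9) (kg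 xg28 yg19 zg37) (kg xg17 yg26 zg4) (kg xg15 yg35 zg49) (kg xg16 yg26 zg59) (kg xg24 yg36 zg52) (kg xg28 yg19 zg43) (kg xg25 yg33 zg21) (kg xg22 yg9 zg9) (kg xg15 yg34 zg32) (kg xg15 yg15 zg57) (kg xg15 yg34 zg34) (kg xg16 yg27 zg27) (kg xg15 yg35 zg47) (kg xg24 yg8 zg3) (kg xg15 yg15 zg61) (kg xg25 yg26 zg15) (kg xg26 yg42 zg16) (kg xg19 yg19 zg46) (kg xg31 yg21 zg55) (kg xg19 yg38 zg39) (kg xg15 yg33 zg14) (kg xg15 yg16 zg2) (kg xg29 yg9 zg31) (kg xg25 yg24 zg23) (kg xg19 yg53 zg40) (kg xg19 yg53 zg45) (kg xg19 yg57 zg7)) (@D3.rec (fun _ => Pt) (kg xg15 yg16 zg8) (kg xg19 yg57 zg6) (kg xg25 yg49 zg0) (kg xg28 yg51 zg17) (kg xg31 yg35 zg45) (kg xg29 yg44 zg33) (kg xg25 yg4 zg27) (kg xg22 yg6 zg18) (kg xg28 yg27 zg58) (kg xg31 yg35 zg8) (kg xg15 yg36 zg7) (kg xg15 yg16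 zg14) (kg xg27 yg15 zg59) (kg xg31 yg35 zg9) (kg xg25 yg8 zg61) (kg xg30 yg56 zg1) (kg xg24 yg58 zg46) (kg xg16 yg28 zg56) (kg xg15 yg20 zg17) (kg xg20 yg55 zg53) (kg xg31 yg45 zg61) (kg xg30 yg19 zg47) (kg xg28 yg53 zg58) (kg xg27 yg5 zg3) (kg xg27 yg46 zg51) (kg xg27 yg30 zg15) (kg xg27 yg30 zg13) (kg xg23 yg41 zg31) (kg xg15 yg16 zg30) (kg xg29 yg57 zg20) (kg xg25 yg14 zg11) (kg xg15 yg16 zg31) (kg xg31 yg46 zg12) (kg xg31 yg46 zg15) (kg xg20 yg2 zg53) (kg xg15 yg52 zg60) (kg xg25 yg7 zg25) (kg xg15 yg16 zg38) (kg xg26 yg0 zg0) (kg xg27 yg24 zg21) (kg xg25 yg13 zg60) (kg xg15 yg52 zg58) (kg xg25 yg13 zg58) (kg xg15 yg16 zg41) (kg xg25 yg8 zg30) (kg xg20 yg2 zg41) (kg xg31 yg43 zg44) (kg xg20 yg2 zg43) (kg xg16 yg16 zg59) (kg xg30 yg18 zg9) (kg xg24 yg38 zg9) (kg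 xg25 yg52 zg29) (kg xg15 yg22 zg6) (kg xg27 yg44 zg8) (kg xg15 yg16 zg52) (kg xg20 yg43 zg56) (kg xg20 yg29 zg17) (kg xg26 yg23 zg54) (kg xg15 yg21 zg52) (kg xg31 yg43 zg42) (kg xg31 yg46 zg26) (kg xg15 yg17 zg12)) (@D3.rec (fun _ => Pt) (kg xg25 yg13 zg32) (kg xg25 yg32 zg60) (kg xg15 yg17 zg0) (kg xg30 yg53 zg26) (kg xg25 yg13 zg61) (kg xg26 yg3 zg45) (kg xg18 yg4 zg6) (kg xg28 yg33 zg18) (kg xg15 yg17 zg24) (kg xg15 yg21 zg53) (kg xg25 yg48 zg44) (kg xg15 yg17 zg5) (kg xg31 yg46 zg38) (kg xg19 yg57 zg25) (kg xg15 yg21 zg43) (kg xg15 yg17 zg10) (kg xg28 yg34 zg47) (kg xg28 yg57 zg37) (kg xg24 yg26 zg61) (kg xg25 yg48 zg43) (kg xg25 yg24 zg22) (kg xg15 yg17 zg17) (kg xg30 yg16 zg54) (kg xg29 yg16 zg28) (kg xg30 yg16 zg53) (kg xg20 yg57 zg40) (kg xg27 yg43 zg57) (kg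 xg15 yg17 zg18) (kg xg25 yg55 zg20) (kg xg31 yg46 zg35) (kg xg16 yg2 zg34) (kg xg28 yg57 zg39) (kg xg25 yg55 zg19) (kg xg15 yg20 zg56) (kg xg15 yg17 zg23) (kg xg17 yg14 zg43) (kg xg25 yg23 zg0) (kg xg15 yg17 zg25) (kg xg31 yg46 zg49) (kg xg25 yg22 zg60) (kg xg15 yg53 zg2) (kg xg15 yg17 zg26) (kg xg15 yg53 zg4) (kg xg25 yg7 zg45) (kg xg15 yg17 zg27) (kg xg25 yg7 zg44) (kg xg15 yg35 zg9) (kg xg25 yg55 zg2) (kg xg21 yg46 zg25) (kg xg30 yg16 zg47) (kg xg21 yg58 zg4) (kg xg15 yg54 zg61) (kg xg25 yg55 zg9) (kg xg16 yg37 zg15) (kg xg15 yg17 zg32) (kg xg16 yg37 zg14) (kg xg16 yg37 zg44) (kg xg15 yg17 zg33) (kg xg16 yg37 zg43) (kg xg30 yg15 zg37) (kg xg20 yg56 zg59) (kg xg20 yg3 zg6)) (@D3.rec (fun _ => Pt) (kg xg31 yg46 zg55) (kg xg16 yg38 zg49) (kg xg20 yg39 zg5) (kg xg16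 yg38 zg46) (kg xg15 yg17 zg38) (kg xg31 yg46 zg57) (kg xg25 yg7 zg59) (kg xg29 yg37 zg32) (kg xg15 yg17 zg39) (kg xg29 yg45 zg58) (kg xg31 yg26 zg9) (kg xg27 yg10 zg51) (kg xg26 yg7 zg56) (kg xg16 yg38 zg11) (kg xg15 yg17 zg41) (kg xg31 yg47 zg2) (kg xg16 yg38 zg9) (kg xg20 yg35 zg31) (kg xg29 yg46 zg16) (kg xg16 yg38 zg18) (kg xg29 yg59 zg10) (kg xg21 yg48 zg49) (kg xg15 yg17 zg46) (kg xg31 yg47 zg11) (kg xg29 yg59 zg9) (kg xg25 yg49 zg15) (kg xg25 yg48 zg50) (kg xg15 yg22 zg29) (kg xg25 yg48 zg52) (kg xg20 yg3 zg5) (kg xg29 yg16 zg8) (kg xg15 yg52 zg50) (kg xg19 yg37 zg13) (kg xg25 yg49 zg23) (kg xg16 yg38 zg40) (kg xg16 yg43 zg9) (kg xg29 yg49 zg13) (kg xg21 yg48 zg48) (kg xg15 yg17 zg56) (kg xg31 yg47 zg23) (kg xg15 yg22 zg59) (kg xg25 yg23 zg2) (kg xg20 yg2 zg55)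 (kg xg15 yg17 zg58) (kg xg29 yg15 zg46) (kg xg15 yg18 zg0) (kg xg15 yg17 zg59) (kg xg19 yg31 zg41) (kg xg26 yg33 zg48) (kg xg31 yg47 zg32) (kg xg26 yg4 zg54) (kg xg16 yg2 zg15) (kg xg26 yg4 zg53) (kg xg17 yg48 zg50) (kg xg26 yg33 zg54) (kg xg31 yg47 zg33) (kg xg15 yg18 zg1) (kg xg29 yg15 zg45) (kg xg31 yg35 zg1) (kg xg29 yg37 zg38) (kg xg22 yg20 zg61) (kg xg22 yg9 zg13)) (@D3.rec (fun _ => Pt) (kg xg15 yg54 zg57) (kg xg29 yg37 zg27) (kg xg16 yg22 zg37) (kg xg26 yg31 zg37) (kg xg18 yg52 zg50) (kg xg15 yg18 zg17) (kg xg20 yg2 zg59) (kg xg31 yg47 zg39) (kg xg26 yg24 zg31) (kg xg15 yg21 zg48) (kg xg24 yg35 zg10) (kg xg26 yg7 zg17) (kg xg22 yg5 zg23) (kg xg19 yg32 zg60) (kg xg25 yg12 zg32) (kg xg25 yg22 zg14) (kg xg19 yg55 zg22) (kg xg26 yg6 zg15) (kg xg24 yg51 zg17) (kg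 xg15 yg18 zg35) (kg xg25 yg12 zg61) (kg xg28 yg59 zg47) (kg xg28 yg48 zg21) (kg xg15 yg18 zg36) (kg xg24 yg52 zg3) (kg xg27 yg38 zg16) (kg xg24 yg52 zg1) (kg xg26 yg48 zg36) (kg xg15 yg18 zg38) (kg xg31 yg41 zg2) (kg xg15 yg22 zg5) (kg xg15 yg18 zg46) (kg xg15 yg18 zg43) (kg xg31 yg43 zg55) (kg xg31 yg47 zg56) (kg xg19 yg45 zg58) (kg xg30 yg54 zg61) (kg xg31 yg47 zg55) (kg xg31 yg47 zg61) (kg xg15 yg18 zg47) (kg xg17 yg27 zg2) (kg xg25 yg13 zg59) (kg xg25 yg33 zg53) (kg xg26 yg44 zg30) (kg xg28 yg57 zg13) (kg xg25 yg33 zg46) (kg xg28 yg57 zg15) (kg xg25 yg50 zg30) (kg xg15 yg18 zg52) (kg xg17 yg40 zg14) (kg xg31 yg45 zg47) (kg xg15 yg18 zg58) (kg xg15 yg18 zg54) (kg xg29 yg17 zg8) (kg xg26 yg10 zg19) (kg xg29 yg59 zg55) (kg xg17 yg40 zg13) (kg xg19 yg38 zg25) (kg xg21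 yg48 zg2) (kg xg27 yg39 zg15) (kg xg29 yg41 zg55) (kg xg26 yg12 zg35)) (@D3.rec (fun _ => Pt) (kg xg15 yg19 zg0) (kg xg29 yg50 zg31) (kg xg29 yg59 zg39) (kg xg15 yg58 zg31) (kg xg15 yg19 zg7) (kg xg16 yg39 zg26) (kg xg29 yg4 zg3) (kg xg26 yg37 zg48) (kg xg16 yg39 zg54) (kg xg15 yg21 zg16) (kg xg27 yg19 zg15) (kg xg16 yg40 zg7) (kg xg26 yg35 zg27) (kg xg29 yg34 zg50) (kg xg15 yg19 zg13) (kg xg31 yg45 zg38) (kg xg31 yg26 zg5) (kg xg16 yg39 zg43) (kg xg16 yg48 zg1) (kg xg26 yg36 zg50) (kg xg26 yg32 zg27) (kg xg16 yg39 zg52) (kg xg31 yg28 zg55) (kg xg15 yg19 zg22) (kg xg16 yg41 zg17) (kg xg29 yg9 zg32) (kg xg27 yg19 zg19) (kg xg15 yg50 zg2) (kg xg31 yg47 zg30) (kg xg25 yg50 zg60) (kg xg25 yg51 zg0) (kg xg20 yg53 zg60) (kg xg15 yg19 zg33) (kg xg19 yg6 zg5) (kg xg15 yg19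 zg32) (kg xg15 yg54 zg17) (kg xg28 yg41 zg61) (kg xg31 yg22 zg17) (kg xg30 yg0 zg13) (kg xg19 yg6 zg2) (kg xg19 yg36 zg60) (kg xg15 yg54 zg28) (kg xg29 yg9 zg33) (kg xg24 yg45 zg28) (kg xg15 yg19 zg37) (kg xg18 yg15 zg2) (kg xg15 yg19 zg47) (kg xg15 yg19 zg42) (kg xg23 yg51 zg46) (kg xg17 yg40 zg30) (kg xg15 yg19 zg46) (kg xg15 yg20 zg59) (kg xg30 yg9 zg51) (kg xg25 yg49 zg40) (kg xg23 yg19 zg17) (kg xg19 yg58 zg43) (kg xg31 yg48 zg19) (kg xg15 yg19 zg52) (kg xg26 yg15 zg30) (kg xg27 yg31 zg45) (kg xg24 yg52 zg11) (kg xg24 yg51 zg20)) (@D3.rec (fun _ => Pt) (kg xg31 yg45 zg57) (kg xg24 yg51 zg18) (kg xg15 yg19 zg60) (kg xg31 yg21 zg9) (kg xg19 yg38 zg7) (kg xg28 yg59 zg29) (kg xg15 yg19 zg61) (kg xg31 yg48 zg23) (kg xg28 yg45 zg32) (kg xg24 yg51 zg45) (kg xg15 yg20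 zg0) (kg xg31 yg48 zg28) (kg xg24 yg51 zg43) (kg xg19 yg42 zg45) (kg xg27 yg39 zg18) (kg xg24 yg52 zg16) (kg xg24 yg51 zg48) (kg xg15 yg20 zg4) (kg xg15 yg20 zg7) (kg xg15 yg20 zg5) (kg xg31 yg47 zg53) (kg xg25 yg34 zg51) (kg xg31 yg47 zg54) (kg xg31 yg47 zg49) (kg xg29 yg6 zg46) (kg xg28 yg59 zg31) (kg xg26 yg13 zg49) (kg xg15 yg54 zg40) (kg xg15 yg54 zg42) (kg xg31 yg48 zg33) (kg xg31 yg48 zg34) (kg xg24 yg20 zg21) (kg xg15 yg20 zg16) (kg xg15 yg50 zg4) (kg xg31 yg31 zg29) (kg xg21 yg1 zg60) (kg xg15 yg34 zg36) (kg xg31 yg36 zg43) (kg xg25 yg50 zg59) (kg xg28 yg20 zg36) (kg xg15 yg21 zg27) (kg xg31 yg48 zg41) (kg xg25 yg22 zg49) (kg xg17 yg43 zg27) (kg xg30 yg47 zg53) (kg xg27 yg5 zg30) (kg xg31 yg48 zg43) (kg xg16 yg9 zg47) (kg xg15 yg20 zg31) (kg xg31 yg26 zg54)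 (kg xg25 yg47 zg53) (kg xg28 yg48 zg33) (kg xg26 yg51 zg12) (kg xg31 yg20 zg53) (kg xg26 yg42 zg26) (kg xg15 yg21 zg12) (kg xg27 yg56 zg54) (kg xg15 yg20 zg45) (kg xg16 yg4 zg46) (kg xg21 yg17 zg6) (kg xg15 yg20 zg46) (kg xg25 yg7 zg47)) (@D3.rec (fun _ => Pt) (kg xg24 yg0 zg24) (kg xg19 yg54 zg6) (kg xg31 yg48 zg46) (kg xg24 yg36 zg55) (kg xg15 yg20 zg51) (kg xg21 yg57 zg57) (kg xg24 yg8 zg20) (kg xg16 yg25 zg0) (kg xg24 yg7 zg16) (kg xg27 yg11 zg26) (kg xg24 yg58 zg20) (kg xg19 yg45 zg18) (kg xg29 yg22 zg28) (kg xg28 yg19 zg27) (kg xg29 yg0 zg2) (kg xg28 yg16 zg0) (kg xg15 yg21 zg1) (kg xg28 yg15 zg60) (kg xg19 yg45 zg5) (kg xg29 yg4 zg1) (kg xg25 yg53 zg42) (kg xg15 yg21 zg21) (kg xg28 yg58 zg4) (kg xg21 yg12 zg2) (kg xg28 yg58 zg55) (kg xg31 yg27 zg3) (kg xg15 yg21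 zg7) (kg xg19 yg14 zg57) (kg xg22 yg28 zg61) (kg xg19 yg31 zg26) (kg xg26 yg44 zg38) (kg xg28 yg59 zg59) (kg xg15 yg53 zg10) (kg xg19 yg49 zg44) (kg xg26 yg33 zg47) (kg xg26 yg4 zg51) (kg xg26 yg39 zg46) (kg xg25 yg14 zg46) (kg xg29 yg0 zg4) (kg xg28 yg16 zg3) (kg xg15 yg21 zg19) (kg xg25 yg43 zg7) (kg xg31 yg48 zg54) (kg xg20 yg29 zg46) (kg xg15 yg21 zg24) (kg xg25 yg14 zg27) (kg xg15 yg53 zg18) (kg xg29 yg51 zg2) (kg xg21 yg21 zg40) (kg xg15 yg21 zg41) (kg xg15 yg21 zg29) (kg xg15 yg21 zg40) (kg xg29 yg6 zg56) (kg xg15 yg21 zg31) (kg xg17 yg52 zg2) (kg xg18 yg33 zg48) (kg xg21 yg47 zg57) (kg xg24 yg58 zg44) (kg xg30 yg48 zg11) (kg xg24 yg58 zg43) (kg xg15 yg53 zg44) (kg xg31 yg41 zg25)) (@D3.rec (fun _ => Pt) (kg xg21 yg48 zg35) (kg xg15 yg21 zg35) (kg xg15 yg53 zg56)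 (kg xg15 yg21 zg38) (kg xg21 yg22 zg37) (kg xg19 yg16 zg1) (kg xg25 yg55 zg1) (kg xg21 yg48 zg47) (kg xg21 yg48 zg0) (kg xg29 yg50 zg37) (kg xg30 yg7 zg50) (kg xg19 yg45 zg8) (kg xg27 yg19 zg38) (kg xg30 yg9 zg0) (kg xg25 yg11 zg60) (kg xg25 yg7 zg9) (kg xg15 yg38 zg6) (kg xg31 yg36 zg17) (kg xg15 yg21 zg46) (kg xg31 yg49 zg4) (kg xg29 yg56 zg2) (kg xg25 yg28 zg20) (kg xg31 yg46 zg29) (kg xg21 yg16 zg61) (kg xg23 yg28 zg2) (kg xg15 yg21 zg54) (kg xg15 yg21 zg51) (kg xg31 yg47 zg38) (kg xg25 yg28 zg26) (kg xg25 yg49 zg33) (kg xg31 yg36 zg0) (kg xg29 yg57 zg60) (kg xg29 yg12 zg49) (kg xg27 yg19 zg30) (kg xg31 yg49 zg7) (kg xg19 yg38 zg37) (kg xg25 yg29 zg12) (kg xg25 yg7 zg46) (kg xg30 yg8 zg39) (kg xg26 yg44 zg37) (kg xg15 yg22 zg7) (kg xg15 yg22 zg26) (kg xg20 yg2 zg9)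 (kg xg24 yg51 zg16) (kg xg25 yg44 zg48) (kg xg19 yg59 zg23) (kg xg15 yg57 zg46) (kg xg27 yg46 zg61) (kg xg15 yg23 zg17) (kg xg16 yg44 zg48) (kg xg20 yg3 zg46) (kg xg19 yg33 zg30) (kg xg31 yg49 zg11) (kg xg31 yg49 zg14) (kg xg15 yg22 zg13) (kg xg31 yg49 zg18) (kg xg31 yg49 zg12) (kg xg25 yg8 zg52) (kg xg25 yg6 zg40) (kg xg17 yg43 zg7) (kg xg25 yg6 zg42) (kg xg31 yg47 zg15)) (@D3.rec (fun _ => Pt) (kg xg27 yg20 zg27) (kg xg25 yg14 zg55) (kg xg20 yg43 zg44) (kg xg28 yg45 zg26) (kg xg15 yg23 zg12) (kg xg29 yg12 zg44) (kg xg31 yg49 zg24) (kg xg15 yg22 zg24) (kg xg30 yg8 zg8) (kg xg29 yg59 zg18) (kg xg16 yg8 zg12) (kg xg25 yg6 zg31) (kg xg20 yg2 zg27) (kg xg31 yg47 zg27) (kg xg20 yg2 zg25) (kg xg15 yg22 zg28) (kg xg27 yg19 zg41) (kg xg20 yg3 zg17) (kg xg20 yg43 zg38) (kg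 xg20 yg2 zg44) (kg xg28 yg52 zg53) (kg xg15 yg22 zg31) (kg xg23 yg41 zg25) (kg xg19 yg32 zg42) (kg xg31 yg45 zg37) (kg xg20 yg28 zg58) (kg xg16 yg59 zg20) (kg xg31 yg23 zg14) (kg xg16 yg19 zg51) (kg xg15 yg54 zg39) (kg xg29 yg42 zg19) (kg xg30 yg8 zg32) (kg xg25 yg35 zg31) (kg xg25 yg23 zg11) (kg xg15 yg22 zg45) (kg xg31 yg49 zg38) (kg xg23 yg21 zg40) (kg xg27 yg57 zg34) (kg xg19 yg52 zg61) (kg xg24 yg36 zg54) (kg xg26 yg34 zg55) (kg xg15 yg53 zg33) (kg xg19 yg54 zg47) (kg xg21 yg8 zg24) (kg xg16 yg4 zg22) (kg xg28 yg41 zg21) (kg xg15 yg22 zg57) (kg xg29 yg59 zg16) (kg xg19 yg54 zg58) (kg xg25 yg50 zg37) (kg xg31 yg4 zg24) (kg xg25 yg49 zg22) (kg xg22 yg44 zg41) (kg xg24 yg36 zg53) (kg xg20 yg2 zg56) (kg xg25 yg14 zg3) (kg xg28 yg38 zg8) (kg xg25 yg2 zg36) (kg xg31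 yg36 zg9) (kg xg15 yg23 zg0) (kg xg24 yg37 zg24) (kg xg20 yg2 zg42)) (@D3.rec (fun _ => Pt) (kg xg15 yg23 zg5) (kg xg15 yg23 zg1) (kg xg27 yg42 zg42) (kg xg15 yg38 zg28) (kg xg21 yg23 zg20) (kg xg31 yg49 zg52) (kg xg20 yg50 zg21) (kg xg28 yg37 zg57) (kg xg29 yg23 zg3) (kg xg24 yg16 zg26) (kg xg19 yg40 zg15) (kg xg15 yg23 zg4) (kg xg15 yg36 zg46) (kg xg19 yg38 zg24) (kg xg19 yg39 zg13) (kg xg20 yg3 zg43) (kg xg15 yg23 zg7) (kg xg17 yg39 zg27) (kg xg20 yg3 zg41) (kg xg24 yg17 zg37) (kg xg15 yg48 zg52) (kg xg20 yg3 zg54) (kg xg20 yg3 zg53) (kg xg31 yg20 zg57) (kg xg29 yg43 zg14) (kg xg15 yg23 zg13) (kg xg31 yg37 zg33) (kg xg17 yg39 zg26) (kg xg20 yg2 zg13) (kg xg29 yg58 zg56) (kg xg24 yg22 zg17) (kg xg25 yg32 zg15) (kg xg25 yg41 zg45) (kg xg27 yg26 zg50) (kg xg27 yg25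 zg0) (kg xg19 yg38 zg11) (kg xg16 yg19 zg6) (kg xg26 yg2 zg50) (kg xg16 yg16 zg33) (kg xg24 yg41 zg2) (kg xg27 yg47 zg59) (kg xg15 yg37 zg46) (kg xg24 yg44 zg39) (kg xg26 yg17 zg0) (kg xg17 yg30 zg22) (kg xg26 yg12 zg28) (kg xg24 yg54 zg49) (kg xg20 yg4 zg18) (kg xg15 yg23 zg30) (kg xg20 yg4 zg17) (kg xg27 yg28 zg28) (kg xg31 yg43 zg4) (kg xg27 yg56 zg14) (kg xg31 yg45 zg3) (kg xg15 yg23 zg33) (kg xg23 yg33 zg43) (kg xg26 yg12 zg50) (kg xg26 yg5 zg25) (kg xg16 yg8 zg36) (kg xg22 yg31 zg29) (kg xg20 yg32 zg43) (kg xg23 yg32 zg38)) (@D3.rec (fun _ => Pt) (kg xg29 yg30 zg3) (kg xg29 yg30 zg2) (kg xg20 yg32 zg45) (kg xg20 yg18 zg33) (kg xg15 yg23 zg41) (kg xg24 yg59 zg9) (kg xg24 yg59 zg40) (kg xg21 yg15 zg36) (kg xg26 yg30 zg56) (kg xg20 yg32 zg55) (kg xg20 yg32 zg27)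 (kg xg20 yg32 zg32) (kg xg15 yg26 zg60) (kg xg15 yg23 zg48) (kg xg23 yg58 zg6) (kg xg23 yg14 zg61) (kg xg22 yg34 zg26) (kg xg15 yg23 zg52) (kg xg18 yg36 zg57) (kg xg30 yg42 zg42) (kg xg18 yg29 zg25) (kg xg17 yg9 zg18) (kg xg21 yg53 zg55) (kg xg30 yg13 zg7) (kg xg30 yg39 zg59) (kg xg15 yg23 zg56) (kg xg25 yg46 zg40) (kg xg27 yg5 zg34) (kg xg30 yg39 zg52) (kg xg16 yg22 zg50) (kg xg29 yg54 zg24) (kg xg30 yg39 zg55) (kg xg15 yg38 zg32) (kg xg15 yg23 zg61) (kg xg15 yg38 zg31) (kg xg26 yg59 zg15) (kg xg15 yg24 zg2) (kg xg17 yg8 zg47) (kg xg26 yg3 zg61) (kg xg27 yg31 zg38) (kg xg17 yg42 zg37) (kg xg15 yg24 zg8) (kg xg22 yg4 zg59) (kg xg21 yg59 zg43) (kg xg17 yg33 zg17) (kg xg26 yg35 zg56) (kg xg15 yg24 zg51) (kg xg26 yg59 zg36) (kg xg21 yg42 zg19) (kg xg15 yg25 zg20) (kg xg20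 yg19 zg39) (kg xg15 yg24 zg27) (kg xg19 yg56 zg50) (kg xg26 yg5 zg20) (kg xg18 yg19 zg11) (kg xg27 yg33 zg45) (kg xg20 yg13 zg2) (kg xg15 yg24 zg41) (kg xg18 yg12 zg33) (kg xg17 yg50 zg29) (kg xg27 yg56 zg38) (kg xg21 yg52 zg6)) (@D3.rec (fun _ => Pt) (kg xg25 yg25 zg22) (kg xg31 yg50 zg7) (kg xg29 yg31 zg51) (kg xg20 yg12 zg18) (kg xg20 yg57 zg46) (kg xg17 yg48 zg12) (kg xg28 yg1 zg13) (kg xg15 yg24 zg52) (kg xg21 yg51 zg14) (kg xg20 yg36 zg18) (kg xg30 yg7 zg5) (kg xg19 yg57 zg36) (kg xg30 yg0 zg17) (kg xg29 yg23 zg13) (kg xg19 yg42 zg25) (kg xg18 yg0 zg1) (kg xg15 yg25 zg1) (kg xg27 yg42 zg28) (kg xg17 yg50 zg17) (kg xg15 yg25 zg4) (kg xg21 yg42 zg23) (kg xg17 yg45 zg2) (kg xg15 yg32 zg7) (kg xg15 yg25 zg9) (kg xg15 yg32 zg6) (kg xg25 yg44 zg41) (kg xg22 yg5 zg31)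 (kg xg25 yg17 zg4) (kg xg26 yg58 zg46) (kg xg25 yg19 zg0) (kg xg24 yg32 zg48) (kg xg20 yg22 zg21) (kg xg15 yg25 zg15) (kg xg27 yg36 zg31) (kg xg26 yg59 zg27) (kg xg29 yg22 zg10) (kg xg21 yg28 zg57) (kg xg19 yg48 zg40) (kg xg31 yg34 zg37) (kg xg17 yg13 zg1) (kg xg25 yg17 zg48) (kg xg24 yg19 zg20) (kg xg17 yg49 zg54) (kg xg17 yg48 zg7) (kg xg17 yg8 zg58) (kg xg15 yg25 zg49) (kg xg27 yg22 zg20) (kg xg15 yg25 zg47) (kg xg20 yg20 zg38) (kg xg28 yg36 zg58) (kg xg19 yg39 zg43) (kg xg17 yg15 zg18) (kg xg26 yg23 zg2) (kg xg27 yg20 zg24) (kg xg15 yg25 zg55) (kg xg17 yg51 zg43) (kg xg17 yg50 zg43) (kg xg25 yg44 zg38) (kg xg20 yg51 zg48) (kg xg25 yg17 zg11) (kg xg19 yg57 zg38) (kg xg25 yg49 zg3)) (@D3.rec (fun _ => Pt) (kg xg20 yg2 zg38) (kg xg24 yg45 zg2) (kg xg17 yg36 zg11) (kg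 xg20 yg2 zg36) (kg xg31 yg40 zg5) (kg xg20 yg59 zg31) (kg xg17 yg0 zg10) (kg xg17 yg57 zg57) (kg xg21 yg4 zg1) (kg xg18 yg21 zg16) (kg xg20 yg34 zg51) (kg xg29 yg18 zg61) (kg xg30 yg2 zg34) (kg xg15 yg26 zg23) (kg xg23 yg6 zg43) (kg xg31 yg2 zg36) (kg xg29 yg24 zg13) (kg xg18 yg12 zg11) (kg xg18 yg23 zg31) (kg xg15 yg26 zg30) (kg xg30 yg14 zg11) (kg xg18 yg19 zg26) (kg xg24 yg59 zg12) (kg xg20 yg32 zg42) (kg xg15 yg26 zg34) (kg xg31 yg50 zg24) (kg xg28 yg13 zg46) (kg xg17 yg32 zg16) (kg xg27 yg10 zg31) (kg xg20 yg49 zg15) (kg xg23 yg0 zg0) (kg xg22 yg36 zg20) (kg xg20 yg53 zg8) (kg xg30 yg39 zg16) (kg xg21 yg40 zg19) (kg xg23 yg53 zg7) (kg xg26 yg28 zg37) (kg xg23 yg55 zg29) (kg xg24 yg18 zg36) (kg xg31 yg50 zg30) (kg xg28 yg35 zg46) (kg xg26 yg20 zg25) (kg xg24 yg28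 zg48) (kg xg15 yg26 zg61) (kg xg31 yg22 zg27) (kg xg16 yg44 zg39) (kg xg29 yg2 zg55) (kg xg27 yg10 zg37) (kg xg18 yg21 zg33) (kg xg15 yg27 zg4) (kg xg20 yg50 zg48) (kg xg26 yg26 zg22) (kg xg29 yg24 zg15) (kg xg20 yg59 zg30) (kg xg16 yg0 zg9) (kg xg15 yg27 zg14) (kg xg16 yg0 zg8) (kg xg21 yg59 zg33) (kg xg25 yg42 zg37) (kg xg16 yg9 zg3) (kg xg20 yg14 zg27) (kg xg19 yg48 zg41)) (@D3.rec (fun _ => Pt) (kg xg15 yg27 zg21) (kg xg25 yg45 zg33) (kg xg20 yg22 zg23) (kg xg15 yg27 zg24) (kg xg15 yg28 zg19) (kg xg15 yg27 zg26) (kg xg15 yg28 zg18) (kg xg29 yg45 zg21) (kg xg15 yg28 zg2) (kg xg15 yg27 zg28) (kg xg15 yg28 zg1) (kg xg29 yg44 zg59) (kg xg15 yg28 zg50) (kg xg15 yg27 zg30) (kg xg15 yg28 zg49) (kg xg31 yg50 zg42) (kg xg29 yg46 zg0) (kg xg15 yg28 zg41) (kg xg25 yg37 zg27)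 (kg xg15 yg28 zg39) (kg xg15 yg27 zg39) (kg xg28 yg37 zg7) (kg xg29 yg43 zg29) (kg xg15 yg27 zg37) (kg xg17 yg34 zg32) (kg xg25 yg17 zg26) (kg xg20 yg53 zg37) (kg xg20 yg58 zg33) (kg xg20 yg58 zg34) (kg xg29 yg21 zg40) (kg xg31 yg50 zg53) (kg xg31 yg41 zg19) (kg xg15 yg29 zg29) (kg xg15 yg27 zg40) (kg xg15 yg29 zg28) (kg xg24 yg52 zg17) (kg xg27 yg23 zg45) (kg xg15 yg27 zg42) (kg xg15 yg27 zg46) (kg xg16 yg42 zg0) (kg xg31 yg26 zg14) (kg xg15 yg56 zg32) (kg xg31 yg41 zg29) (kg xg28 yg37 zg5) (kg xg15 yg27 zg56) (kg xg28 yg37 zg4) (kg xg25 yg52 zg26) (kg xg24 yg50 zg53) (kg xg24 yg50 zg44) (kg xg24 yg50 zg61) (kg xg31 yg50 zg59) (kg xg27 yg29 zg33) (kg xg28 yg13 zg5) (kg xg31 yg50 zg61) (kg xg25 yg52 zg32) (kg xg16 yg12 zg53) (kg xg24 yg48 zg38) (kg xg16 yg6 zg26) (kg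 xg25 yg20 zg29) (kg xg31 yg0 zg33) (kg xg28 yg45 zg15) (kg xg22 yg7 zg51)) (@D3.rec (fun _ => Pt) (kg xg20 yg58 zg38) (kg xg31 yg50 zg39) (kg xg15 yg28 zg6) (kg xg27 yg38 zg10) (kg xg29 yg45 zg24) (kg xg20 yg56 zg16) (kg xg26 yg54 zg13) (kg xg25 yg22 zg45) (kg xg15 yg28 zg9) (kg xg27 yg36 zg35) (kg xg24 yg51 zg6) (kg xg27 yg38 zg20) (kg xg18 yg52 zg25) (kg xg18 yg52 zg24) (kg xg16 yg42 zg26) (kg xg16 yg42 zg25) (kg xg21 yg48 zg8) (kg xg29 yg50 zg50) (kg xg29 yg47 zg45) (kg xg24 yg50 zg10) (kg xg28 yg45 zg13) (kg xg29 yg13 zg36) (kg xg17 yg34 zg26) (kg xg29 yg13 zg37) (kg xg24 yg1 zg18) (kg xg31 yg50 zg40) (kg xg15 yg28 zg22) (kg xg31 yg51 zg13) (kg xg29 yg44 zg61) (kg xg29 yg13 zg41) (kg xg28 yg14 zg28) (kg xg24 yg49 zg24) (kg xg28 yg51 zg32) (kg xg15 yg28 zg24) (kg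 xg28 yg48 zg0) (kg xg17 yg43 zg34) (kg xg25 yg41 zg49) (kg xg17 yg42 zg8) (kg xg15 yg56 zg8) (kg xg15 yg28 zg28) (kg xg15 yg56 zg7) (kg xg31 yg51 zg21) (kg xg29 yg14 zg27) (kg xg19 yg27 zg10) (kg xg28 yg45 zg10) (kg xg22 yg5 zg44) (kg xg19 yg27 zg7) (kg xg28 yg45 zg19) (kg xg31 yg50 zg47) (kg xg31 yg51 zg26) (kg xg15 yg28 zg34) (kg xg31 yg40 zg28) (kg xg31 yg51 zg24) (kg xg22 yg5 zg42) (kg xg31 yg51 zg35) (kg xg31 yg50 zg46) (kg xg15 yg28 zg37) (kg xg31 yg51 zg41) (kg xg29 yg46 zg2) (kg xg31 yg21 zg17) (kg xg26 yg6 zg14) (kg xg26 yg9 zg46)) (@D3.rec (fun _ => Pt) (kg xg26 yg6 zg11) (kg xg17 yg42 zg12) (kg xg15 yg28 zg40) (kg xg27 yg6 zg2) (kg xg31 yg40 zg18) (kg xg31 yg50 zg13) (kg xg26 yg6 zg17) (kg xg26 yg6 zg16) (kg xg18 yg5 zg51) (kg xg31 yg51 zg18) (kg xg16 yg51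 zg17) (kg xg20 yg26 zg35) (kg xg29 yg41 zg34) (kg xg31 yg51 zg57) (kg xg29 yg41 zg35) (kg xg27 yg37 zg13) (kg xg15 yg28 zg53) (kg xg31 yg51 zg60) (kg xg27 yg37 zg12) (kg xg24 yg49 zg57) (kg xg24 yg52 zg20) (kg xg30 yg40 zg0) (kg xg24 yg48 zg36) (kg xg19 yg59 zg27) (kg xg25 yg37 zg39) (kg xg20 yg53 zg40) (kg xg16 yg37 zg11) (kg xg31 yg43 zg45) (kg xg25 yg33 zg49) (kg xg16 yg13 zg7) (kg xg31 yg48 zg22) (kg xg31 yg52 zg8) (kg xg15 yg29 zg0) (kg xg31 yg52 zg13) (kg xg31 yg52 zg6) (kg xg25 yg53 zg4) (kg xg24 yg52 zg14) (kg xg28 yg40 zg43) (kg xg15 yg29 zg2) (kg xg31 yg52 zg22) (kg xg28 yg40 zg41) (kg xg15 yg29 zg3) (kg xg29 yg8 zg2) (kg xg29 yg45 zg43) (kg xg28 yg37 zg11) (kg xg15 yg29 zg5) (kg xg31 yg52 zg33) (kg xg28 yg37 zg10) (kg xg28 yg53 zg52) (kg xg16 yg49 zg33) (kg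 xg15 yg29 zg17) (kg xg19 yg42 zg47) (kg xg15 yg29 zg9) (kg xg31 yg52 zg18) (kg xg17 yg32 zg44) (kg xg31 yg52 zg40) (kg xg20 yg1 zg48) (kg xg28 yg55 zg11) (kg xg28 yg49 zg52) (kg xg24 yg51 zg26) (kg xg24 yg52 zg8) (kg xg31 yg21 zg24)) (@D3.rec (fun _ => Pt) (kg xg19 yg57 zg49) (kg xg20 yg55 zg48) (kg xg17 yg32 zg32) (kg xg31 yg36 zg53) (kg xg16 yg6 zg22) (kg xg29 yg47 zg46) (kg xg31 yg40 zg60) (kg xg25 yg27 zg20) (kg xg28 yg54 zg1) (kg xg24 yg48 zg57) (kg xg28 yg55 zg6) (kg xg31 yg28 zg15) (kg xg19 yg42 zg41) (kg xg29 yg43 zg37) (kg xg31 yg48 zg30) (kg xg19 yg58 zg15) (kg xg15 yg29 zg23) (kg xg31 yg51 zg10) (kg xg26 yg34 zg19) (kg xg31 yg46 zg0) (kg xg15 yg29 zg24) (kg xg28 yg51 zg21) (kg xg31 yg40 zg49) (kg xg20 yg55 zg35) (kg xg15 yg29 zg25) (kg xg20 yg55 zg37) (kg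 xg20 yg58 zg43) (kg xg15 yg29 zg26) (kg xg16 yg41 zg43) (kg xg27 yg44 zg45) (kg xg26 yg47 zg38) (kg xg31 yg40 zg46) (kg xg16 yg38 zg4) (kg xg26 yg47 zg39) (kg xg26 yg34 zg17) (kg xg20 yg58 zg36) (kg xg20 yg58 zg37) (kg xg15 yg29 zg30) (kg xg19 yg49 zg22) (kg xg25 yg19 zg42) (kg xg16 yg58 zg50) (kg xg24 yg50 zg49) (kg xg24 yg49 zg6) (kg xg15 yg29 zg32) (kg xg28 yg49 zg8) (kg xg19 yg31 zg10) (kg xg25 yg20 zg7) (kg xg30 yg17 zg41) (kg xg24 yg23 zg54) (kg xg25 yg11 zg47) (kg xg21 yg1 zg43) (kg xg15 yg29 zg45) (kg xg21 yg1 zg42) (kg xg21 yg1 zg47) (kg xg15 yg29 zg46) (kg xg21 yg1 zg46) (kg xg31 yg48 zg53) (kg xg27 yg4 zg60) (kg xg20 yg15 zg22) (kg xg25 yg7 zg39) (kg xg15 yg29 zg53) (kg xg31 yg53 zg2)) (@D3.rec (fun _ => Pt) (kg xg25 yg7 zg37) (kg xg25 yg8 zg41) (kg xg15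 yg29 zg54) (kg xg31 yg46 zg8) (kg xg15 yg29 zg55) (kg xg28 yg53 zg60) (kg xg18 yg1 zg43) (kg xg27 yg21 zg61) (kg xg26 yg13 zg56) (kg xg29 yg17 zg50) (kg xg30 yg40 zg60) (kg xg25 yg14 zg34) (kg xg26 yg10 zg4) (kg xg26 yg47 zg37) (kg xg16 yg12 zg36) (kg xg26 yg6 zg27) (kg xg17 yg42 zg18) (kg xg15 yg30 zg0) (kg xg19 yg55 zg46) (kg xg25 yg29 zg0) (kg xg26 yg7 zg0) (kg xg26 yg47 zg34) (kg xg27 yg25 zg2) (kg xg24 yg54 zg45) (kg xg16 yg11 zg30) (kg xg26 yg47 zg33) (kg xg24 yg44 zg60) (kg xg28 yg49 zg39) (kg xg29 yg23 zg32) (kg xg29 yg31 zg8) (kg xg26 yg43 zg52) (kg xg31 yg43 zg46) (kg xg19 yg42 zg53) (kg xg16 yg58 zg46) (kg xg15 yg30 zg18) (kg xg29 yg17 zg36) (kg xg29 yg36 zg5) (kg xg20 yg1 zg4) (kg xg25 yg18 zg53) (kg xg17 yg11 zg50) (kg xg24 yg18 zg33) (kg xg31 yg53 zg19)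 (kg xg17 yg21 zg48) (kg xg16 yg46 zg57) (kg xg22 yg11 zg60) (kg xg27 yg21 zg49) (kg xg25 yg18 zg5) (kg xg17 yg56 zg9) (kg xg18 yg25 zg42) (kg xg17 yg5 zg58) (kg xg18 yg24 zg43) (kg xg20 yg0 zg10) (kg xg15 yg30 zg49) (kg xg25 yg25 zg33) (kg xg18 yg4 zg20) (kg xg17 yg45 zg36) (kg xg18 yg52 zg40) (kg xg16 yg21 zg53) (kg xg25 yg56 zg14) (kg xg27 yg47 zg40) (kg xg28 yg22 zg19) (kg xg18 yg21 zg20)) (@D3.rec (fun _ => Pt) (kg xg21 yg53 zg57) (kg xg28 yg7 zg31) (kg xg18 yg53 zg12) (kg xg25 yg26 zg43) (kg xg15 yg31 zg3) (kg xg31 yg53 zg21) (kg xg17 yg11 zg38) (kg xg18 yg26 zg27) (kg xg25 yg24 zg25) (kg xg26 yg16 zg2) (kg xg31 yg53 zg24) (kg xg15 yg32 zg30) (kg xg30 yg47 zg49) (kg xg23 yg28 zg21) (kg xg20 yg59 zg15) (kg xg15 yg31 zg11) (kg xg29 yg3 zg42) (kg xg19 yg35 zg3) (kg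 xg27 yg18 zg38) (kg xg31 yg13 zg1) (kg xg28 yg48 zg13) (kg xg26 yg41 zg37) (kg xg28 yg19 zg45) (kg xg28 yg56 zg49) (kg xg25 yg25 zg21) (kg xg25 yg24 zg11) (kg xg29 yg3 zg35) (kg xg25 yg25 zg51) (kg xg15 yg31 zg22) (kg xg31 yg53 zg29) (kg xg23 yg9 zg35) (kg xg15 yg31 zg44) (kg xg19 yg46 zg31) (kg xg15 yg31 zg46) (kg xg22 yg6 zg47) (kg xg21 yg24 zg8) (kg xg25 yg26 zg14) (kg xg17 yg27 zg35) (kg xg25 yg56 zg35) (kg xg15 yg31 zg32) (kg xg25 yg26 zg36) (kg xg26 yg6 zg55) (kg xg15 yg31 zg53) (kg xg25 yg26 zg0) (kg xg25 yg25 zg60) (kg xg25 yg5 zg30) (kg xg25 yg51 zg30) (kg xg21 yg0 zg26) (kg xg31 yg0 zg31) (kg xg29 yg37 zg25) (kg xg30 yg54 zg33) (kg xg22 yg2 zg58) (kg xg31 yg53 zg30) (kg xg24 yg14 zg16) (kg xg25 yg5 zg5) (kg xg15 yg31 zg50) (kg xg31 yg22 zg16) (kg xg15 yg40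 zg59) (kg xg29 yg48 zg43) (kg xg16 yg46 zg47) (kg xg15 yg31 zg52) (kg xg25 yg26 zg39)) (@D3.rec (fun _ => Pt) (kg xg25 yg25 zg59) (kg xg19 yg2 zg58) (kg xg26 yg15 zg3) (kg xg16 yg7 zg6) (kg xg15 yg31 zg54) (kg xg15 yg46 zg32) (kg xg25 yg25 zg36) (kg xg15 yg31 zg55) (kg xg25 yg25 zg38) (kg xg15 yg31 zg56) (kg xg31 yg53 zg36) (kg xg22 yg24 zg43) (kg xg30 yg26 zg48) (kg xg18 yg55 zg52) (kg xg25 yg26 zg49) (kg xg15 yg31 zg60) (kg xg19 yg34 zg45) (kg xg28 yg56 zg48) (kg xg27 yg37 zg57) (kg xg18 yg58 zg24) (kg xg29 yg46 zg39) (kg xg27 yg22 zg26) (kg xg29 yg22 zg9) (kg xg31 yg34 zg38) (kg xg25 yg24 zg24) (kg xg21 yg52 zg7) (kg xg21 yg52 zg5) (kg xg21 yg44 zg1) (kg xg21 yg51 zg40) (kg xg23 yg8 zg56) (kg xg15 yg32 zg9) (kg xg26 yg10 zg24) (kg xg25 yg23 zg53) (kg xg15 yg32 zg10)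 (kg xg15 yg32 zg13) (kg xg23 yg11 zg48) (kg xg25 yg25 zg7) (kg xg25 yg25 zg8) (kg xg15 yg32 zg15) (kg xg26 yg51 zg15) (kg xg27 yg12 zg22) (kg xg18 yg4 zg25) (kg xg24 yg15 zg8) (kg xg31 yg50 zg5) (kg xg28 yg54 zg3) (kg xg22 yg48 zg18) (kg xg15 yg32 zg23) (kg xg30 yg20 zg1) (kg xg27 yg11 zg37) (kg xg24 yg24 zg7) (kg xg19 yg35 zg0) (kg xg25 yg24 zg28) (kg xg17 yg16 zg61) (kg xg15 yg32 zg31) (kg xg25 yg59 zg55) (kg xg22 yg56 zg17) (kg xg23 yg8 zg0) (kg xg15 yg35 zg0) (kg xg16 yg10 zg5) (kg xg15 yg33 zg4) (kg xg23 yg1 zg22) (kg xg23 yg19 zg13)) (@D3.rec (fun _ => Pt) (kg xg15 yg32 zg41) (kg xg31 yg53 zg46) (kg xg15 yg32 zg42) (kg xg25 yg27 zg11) (kg xg29 yg48 zg41) (kg xg25 yg24 zg46) (kg xg24 yg4 zg1) (kg xg15 yg32 zg49) (kg xg15 yg32 zg50) (kg xg23 yg55 zg45) (kg xg19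 yg34 zg52) (kg xg19 yg31 zg35) (kg xg19 yg46 zg29) (kg xg15 yg32 zg55) (kg xg25 yg5 zg50) (kg xg25 yg24 zg36) (kg xg20 yg17 zg7) (kg xg15 yg32 zg60) (kg xg28 yg15 zg33) (kg xg28 yg16 zg5) (kg xg20 yg17 zg52) (kg xg29 yg48 zg38) (kg xg24 yg48 zg16) (kg xg30 yg15 zg11) (kg xg28 yg16 zg49) (kg xg31 yg53 zg54) (kg xg24 yg47 zg59) (kg xg31 yg25 zg12) (kg xg15 yg33 zg1) (kg xg31 yg53 zg59) (kg xg18 yg34 zg12) (kg xg27 yg54 zg52) (kg xg18 yg51 zg21) (kg xg19 yg34 zg50) (kg xg15 yg33 zg3) (kg xg20 yg5 zg16) (kg xg25 yg24 zg42) (kg xg31 yg54 zg0) (kg xg25 yg24 zg61) (kg xg15 yg33 zg5) (kg xg25 yg30 zg15) (kg xg20 yg11 zg56) (kg xg15 yg33 zg8) (kg xg25 yg24 zg4) (kg xg26 yg56 zg27) (kg xg25 yg25 zg11) (kg xg31 yg54 zg3) (kg xg25 yg25 zg9) (kg xg15 yg38 zg56) (kg xg25 yg25 zg15)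 (kg xg16 yg48 zg21) (kg xg27 yg19 zg25) (kg xg16 yg2 zg29) (kg xg15 yg36 zg44) (kg xg19 yg26 zg13) (kg xg18 yg52 zg59) (kg xg15 yg35 zg7) (kg xg15 yg33 zg23) (kg xg28 yg57 zg40) (kg xg21 yg58 zg56) (kg xg15 yg37 zg4) (kg xg15 yg33 zg27)) (@D3.rec (fun _ => Pt) (kg xg26 yg32 zg2) (kg xg31 yg54 zg5) (kg xg30 yg10 zg44) (kg xg15 yg35 zg51) (kg xg17 yg10 zg23) (kg xg15 yg57 zg26) (kg xg16 yg0 zg36) (kg xg25 yg57 zg55) (kg xg15 yg35 zg60) (kg xg16 yg1 zg39) (kg xg22 yg27 zg56) (kg xg25 yg53 zg29) (kg xg25 yg54 zg53) (kg xg26 yg1 zg3) (kg xg15 yg35 zg39) (kg xg21 yg57 zg43) (kg xg15 yg35 zg36) (kg xg29 yg23 zg54) (kg xg21 yg0 zg35) (kg xg23 yg22 zg16) (kg xg29 yg44 zg30) (kg xg15 yg33 zg42) (kg xg29 yg45 zg28) (kg xg15 yg37 zg20) (kg xg27 yg11 zg29) (kg xg25 yg36 zg48) (kg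 xg21 yg39 zg43) (kg xg24 yg19 zg1) (kg xg15 yg38 zg50) (kg xg24 yg16 zg19) (kg xg24 yg15 zg58) (kg xg29 yg50 zg48) (kg xg15 yg38 zg10) (kg xg21 yg39 zg30) (kg xg25 yg55 zg3) (kg xg15 yg38 zg21) (kg xg15 yg33 zg54) (kg xg19 yg38 zg48) (kg xg15 yg38 zg19) (kg xg15 yg38 zg0) (kg xg29 yg0 zg25) (kg xg31 yg54 zg14) (kg xg31 yg38 zg44) (kg xg29 yg50 zg44) (kg xg15 yg34 zg0) (kg xg24 yg38 zg53) (kg xg25 yg57 zg6) (kg xg15 yg34 zg1) (kg xg15 yg41 zg24) (kg xg15 yg46 zg54) (kg xg15 yg41 zg13) (kg xg15 yg34 zg28) (kg xg17 yg44 zg19) (kg xg25 yg58 zg46) (kg xg15 yg34 zg37) (kg xg15 yg39 zg56) (kg xg27 yg38 zg2) (kg xg29 yg28 zg14) (kg xg15 yg34 zg12) (kg xg15 yg39 zg41) (kg xg15 yg34 zg14) (kg xg25 yg33 zg39)) (@D3.rec (fun _ => Pt) (kg xg15 yg40 zg10) (kg xg23 yg23 zg14) (kg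 xg15 yg40 zg43) (kg xg25 yg41 zg2) (kg xg23 yg24 zg15) (kg xg15 yg34 zg39) (kg xg15 yg41 zg7) (kg xg30 yg6 zg8) (kg xg15 yg34 zg19) (kg xg25 yg58 zg31) (kg xg27 yg38 zg38) (kg xg15 yg39 zg36) (kg xg15 yg38 zg22) (kg xg15 yg34 zg23) (kg xg19 yg48 zg34) (kg xg30 yg49 zg20) (kg xg25 yg51 zg9) (kg xg15 yg39 zg17) (kg xg25 yg53 zg36) (kg xg30 yg54 zg60) (kg xg25 yg13 zg19) (kg xg15 yg34 zg30) (kg xg27 yg38 zg40) (kg xg31 yg54 zg20) (kg xg22 yg10 zg50) (kg xg25 yg57 zg1) (kg xg31 yg49 zg5) (kg xg26 yg20 zg31) (kg xg26 yg24 zg7) (kg xg31 yg54 zg15) (kg xg26 yg24 zg37) (kg xg29 yg47 zg54) (kg xg31 yg54 zg19) (kg xg28 yg0 zg15) (kg xg16 yg29 zg8) (kg xg29 yg15 zg27) (kg xg15 yg34 zg35) (kg xg20 yg7 zg9) (kg xg22 yg6 zg34) (kg xg15 yg39 zg51) (kg xg28 yg59 zg15) (kg xg19 yg45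 zg42) (kg xg15 yg40 zg47) (kg xg30 yg55 zg38) (kg xg19 yg3 zg13) (kg xg17 yg37 zg23) (kg xg15 yg34 zg43) (kg xg17 yg37 zg22) (kg xg30 yg19 zg32) (kg xg26 yg0 zg26) (kg xg21 yg17 zg15) (kg xg17 yg40 zg19) (kg xg17 yg40 zg56) (kg xg15 yg34 zg47) (kg xg17 yg37 zg54) (kg xg27 yg26 zg10) (kg xg22 yg11 zg31) (kg xg15 yg34 zg48) (kg xg17 yg41 zg14) (kg xg15 yg34 zg49) (kg xg17 yg41 zg12) (kg xg16 yg50 zg2)) (@D3.rec (fun _ => Pt) (kg xg25 yg36 zg41) (kg xg29 yg11 zg11) (kg xg25 yg4 zg39) (kg xg27 yg17 zg34) (kg xg19 yg39 zg9) (kg xg31 yg39 zg61) (kg xg18 yg51 zg5) (kg xg19 yg36 zg24) (kg xg23 yg10 zg13) (kg xg19 yg26 zg16) (kg xg25 yg47 zg1) (kg xg31 yg1 zg55) (kg xg25 yg29 zg50) (kg xg25 yg51 zg18) (kg xg25 yg13 zg36) (kg xg27 yg11 zg6) (kg xg21 yg58 zg57) (kg xg15 yg35 zg31)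 (kg xg27 yg26 zg33) (kg xg25 yg43 zg22) (kg xg15 yg35 zg32) (kg xg28 yg20 zg29) (kg xg22 yg8 zg15) (kg xg25 yg40 zg37) (kg xg15 yg35 zg46) (kg xg15 yg35 zg54) (kg xg25 yg32 zg51) (kg xg25 yg33 zg18) (kg xg28 yg57 zg34) (kg xg17 yg53 zg59) (kg xg15 yg35 zg48) (kg xg25 yg32 zg57) (kg xg25 yg55 zg25) (kg xg15 yg35 zg26) (kg xg29 yg19 zg58) (kg xg22 yg3 zg2) (kg xg15 yg35 zg27) (kg xg15 yg35 zg28) (kg xg25 yg43 zg15) (kg xg31 yg46 zg37) (kg xg15 yg35 zg29) (kg xg26 yg12 zg22) (kg xg17 yg42 zg48) (kg xg21 yg37 zg29) (kg xg30 yg6 zg48) (kg xg30 yg8 zg46) (kg xg27 yg18 zg7) (kg xg31 yg54 zg9) (kg xg26 yg16 zg55) (kg xg25 yg54 zg56) (kg xg25 yg29 zg14) (kg xg31 yg1 zg56) (kg xg26 yg11 zg44) (kg xg31 yg54 zg43) (kg xg16 yg1 zg27) (kg xg15 yg35 zg35) (kg xg19 yg36 zg37) (kg xg25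 yg26 zg3) (kg xg25 yg43 zg30) (kg xg31 yg54 zg46) (kg xg15 yg35 zg45) (kg xg23 yg39 zg48)) (@D3.rec (fun _ => Pt) (kg xg15 yg35 zg43) (kg xg31 yg46 zg39) (kg xg16 yg1 zg17) (kg xg28 yg19 zg34) (kg xg15 yg35 zg40) (kg xg25 yg14 zg60) (kg xg31 yg36 zg3) (kg xg15 yg35 zg41) (kg xg31 yg54 zg54) (kg xg31 yg54 zg47) (kg xg21 yg27 zg8) (kg xg27 yg18 zg21) (kg xg27 yg18 zg11) (kg xg15 yg35 zg44) (kg xg30 yg40 zg45) (kg xg26 yg51 zg17) (kg xg30 yg47 zg31) (kg xg21 yg27 zg23) (kg xg30 yg56 zg24) (kg xg31 yg47 zg58) (kg xg15 yg35 zg52) (kg xg25 yg57 zg58) (kg xg30 yg47 zg10) (kg xg27 yg59 zg29) (kg xg31 yg54 zg59) (kg xg25 yg53 zg49) (kg xg15 yg35 zg56) (kg xg21 yg27 zg11) (kg xg21 yg24 zg34) (kg xg21 yg17 zg29) (kg xg29 yg50 zg49) (kg xg17 yg28 zg6) (kg xg23 yg28 zg1) (kg xg16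 yg2 zg26) (kg xg31 yg54 zg58) (kg xg28 yg17 zg48) (kg xg17 yg28 zg19) (kg xg26 yg16 zg52) (kg xg29 yg5 zg27) (kg xg31 yg54 zg7) (kg xg15 yg35 zg61) (kg xg31 yg55 zg6) (kg xg27 yg59 zg32) (kg xg25 yg57 zg57) (kg xg17 yg18 zg5) (kg xg30 yg1 zg38) (kg xg15 yg46 zg17) (kg xg31 yg46 zg6) (kg xg18 yg48 zg17) (kg xg17 yg27 zg57) (kg xg29 yg3 zg49) (kg xg31 yg55 zg12) (kg xg16 yg45 zg58) (kg xg18 yg50 zg15) (kg xg24 yg44 zg19) (kg xg18 yg47 zg36) (kg xg31 yg55 zg9) (kg xg19 yg12 zg58) (kg xg28 yg18 zg35) (kg xg28 yg20 zg10) (kg xg18 yg49 zg6) (kg xg17 yg11 zg33)) (@D3.rec (fun _ => Pt) (kg xg31 yg50 zg10) (kg xg15 yg36 zg25) (kg xg29 yg28 zg48) (kg xg22 yg10 zg29) (kg xg30 yg1 zg26) (kg xg25 yg44 zg40) (kg xg16 yg48 zg51) (kg xg15 yg36 zg34) (kg xg22 yg3 zg38) (kg xg15 yg36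 zg35) (kg xg20 yg14 zg31) (kg xg20 yg12 zg31) (kg xg15 yg36 zg37) (kg xg26 yg6 zg2) (kg xg22 yg3 zg6) (kg xg17 yg48 zg57) (kg xg31 yg28 zg47) (kg xg28 yg47 zg57) (kg xg24 yg17 zg32) (kg xg19 yg39 zg12) (kg xg19 yg38 zg22) (kg xg15 yg36 zg47) (kg xg28 yg57 zg24) (kg xg19 yg46 zg25) (kg xg27 yg19 zg31) (kg xg15 yg58 zg25) (kg xg15 yg36 zg54) (kg xg15 yg58 zg24) (kg xg15 yg36 zg55) (kg xg31 yg1 zg53) (kg xg16 yg2 zg47) (kg xg22 yg2 zg2) (kg xg21 yg31 zg2) (kg xg18 yg12 zg21) (kg xg18 yg9 zg19) (kg xg27 yg6 zg21) (kg xg15 yg37 zg0) (kg xg21 yg17 zg30) (kg xg27 yg49 zg34) (kg xg22 yg2 zg38) (kg xg15 yg37 zg8) (kg xg31 yg23 zg24) (kg xg31 yg45 zg52) (kg xg30 yg6 zg29) (kg xg27 yg55 zg28) (kg xg31 yg39 zg13) (kg xg28 yg58 zg11) (kg xg17 yg4 zg53) (kg xg25 yg56 zg32) (kg xg26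 yg41 zg44) (kg xg15 yg37 zg12) (kg xg25 yg22 zg7) (kg xg24 yg41 zg17) (kg xg30 yg6 zg20) (kg xg28 yg31 zg23) (kg xg15 yg37 zg18) (kg xg15 yg37 zg15) (kg xg31 yg55 zg25) (kg xg29 yg5 zg36) (kg xg15 yg37 zg17) (kg xg31 yg55 zg26) (kg xg26 yg41 zg47)) (@D3.rec (fun _ => Pt) (kg xg28 yg52 zg43) (kg xg31 yg54 zg34) (kg xg28 yg56 zg58) (kg xg26 yg41 zg40) (kg xg15 yg37 zg21) (kg xg26 yg35 zg61) (kg xg25 yg51 zg39) (kg xg16 yg37 zg46) (kg xg31 yg27 zg37) (kg xg29 yg0 zg15) (kg xg19 yg36 zg2) (kg xg15 yg37 zg26) (kg xg15 yg37 zg24) (kg xg31 yg55 zg23) (kg xg15 yg37 zg25) (kg xg29 yg17 zg19) (kg xg31 yg55 zg24) (kg xg25 yg59 zg21) (kg xg19 yg25 zg32) (kg xg19 yg28 zg29) (kg xg19 yg25 zg34) (kg xg29 yg40 zg33) (kg xg19 yg25 zg39) (kg xg19 yg28 zg43) (kg xg31 yg55 zg36) (kg xg15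 yg37 zg31) (kg xg31 yg39 zg7) (kg xg31 yg12 zg34) (kg xg31 yg55 zg40) (kg xg19 yg29 zg4) (kg xg28 yg49 zg2) (kg xg29 yg31 zg17) (kg xg15 yg56 zg25) (kg xg28 yg50 zg43) (kg xg18 yg44 zg27) (kg xg16 yg44 zg3) (kg xg19 yg29 zg28) (kg xg17 yg26 zg19) (kg xg17 yg20 zg30) (kg xg15 yg40 zg23) (kg xg18 yg16 zg36) (kg xg17 yg40 zg35) (kg xg17 yg40 zg23) (kg xg17 yg40 zg21) (kg xg15 yg37 zg42) (kg xg31 yg55 zg48) (kg xg27 yg3 zg60) (kg xg15 yg37 zg43) (kg xg26 yg5 zg14) (kg xg20 yg4 zg1) (kg xg15 yg46 zg31) (kg xg15 yg38 zg7) (kg xg15 yg38 zg13) (kg xg19 yg47 zg58) (kg xg25 yg29 zg31) (kg xg15 yg46 zg35) (kg xg19 yg48 zg35) (kg xg15 yg38 zg8) (kg xg15 yg38 zg58) (kg xg27 yg31 zg53) (kg xg25 yg7 zg2) (kg xg31 yg54 zg39)) (@D3.rec (fun _ => Pt) (kg xg15 yg59 zg50) (kg xg24 yg36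 zg50) (kg xg15 yg37 zg60) (kg xg24 yg37 zg46) (kg xg15 yg38 zg4) (kg xg20 yg29 zg41) (kg xg21 yg39 zg50) (kg xg31 yg54 zg13) (kg xg15 yg38 zg1) (kg xg29 yg7 zg4) (kg xg25 yg12 zg4) (kg xg20 yg43 zg20) (kg xg20 yg43 zg43) (kg xg29 yg9 zg15) (kg xg17 yg28 zg10) (kg xg28 yg58 zg26) (kg xg24 yg37 zg31) (kg xg15 yg38 zg5) (kg xg22 yg53 zg25) (kg xg25 yg29 zg33) (kg xg22 yg53 zg26) (kg xg31 yg31 zg58) (kg xg21 yg39 zg49) (kg xg31 yg55 zg53) (kg xg25 yg5 zg41) (kg xg31 yg31 zg27) (kg xg15 yg38 zg11) (kg xg20 yg55 zg54) (kg xg31 yg45 zg56) (kg xg27 yg19 zg58) (kg xg29 yg17 zg60) (kg xg31 yg56 zg0) (kg xg15 yg38 zg15) (kg xg28 yg42 zg9) (kg xg19 yg16 zg6) (kg xg17 yg27 zg30) (kg xg29 yg6 zg52) (kg xg25 yg31 zg23) (kg xg25 yg49 zg24) (kg xg25 yg35 zg5) (kg xg31 yg56 zg4) (kg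 xg28 yg30 zg32) (kg xg25 yg27 zg61) (kg xg25 yg11 zg3) (kg xg31 yg54 zg12) (kg xg15 yg38 zg20) (kg xg25 yg9 zg42) (kg xg19 yg38 zg18) (kg xg31 yg11 zg3) (kg xg25 yg10 zg60) (kg xg19 yg36 zg42) (kg xg19 yg36 zg16) (kg xg19 yg35 zg35) (kg xg25 yg9 zg45) (kg xg30 yg18 zg59) (kg xg16 yg17 zg58) (kg xg17 yg14 zg33) (kg xg25 yg44 zg26) (kg xg21 yg30 zg52) (kg xg27 yg29 zg44) (kg xg18 yg56 zg4) (kg xg23 yg50 zg27)) (@D3.rec (fun _ => Pt) (kg xg27 yg34 zg19) (kg xg25 yg54 zg24) (kg xg16 yg13 zg59) (kg xg15 yg47 zg18) (kg xg15 yg38 zg46) (kg xg29 yg32 zg40) (kg xg31 yg23 zg30) (kg xg18 yg32 zg60) (kg xg31 yg56 zg7) (kg xg27 yg49 zg45) (kg xg17 yg51 zg6) (kg xg15 yg38 zg51) (kg xg30 yg43 zg45) (kg xg15 yg38 zg52) (kg xg22 yg53 zg30) (kg xg22 yg2 zg36) (kg xg22 yg53 zg28) (kg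 xg25 yg5 zg48) (kg xg31 yg56 zg9) (kg xg21 yg39 zg48) (kg xg21 yg39 zg14) (kg xg26 yg46 zg15) (kg xg15 yg38 zg61) (kg xg15 yg46 zg27) (kg xg21 yg39 zg29) (kg xg28 yg24 zg1) (kg xg15 yg39 zg4) (kg xg29 yg4 zg40) (kg xg29 yg52 zg22) (kg xg18 yg56 zg7) (kg xg15 yg39 zg13) (kg xg15 yg39 zg14) (kg xg24 yg44 zg32) (kg xg20 yg12 zg45) (kg xg23 yg23 zg31) (kg xg25 yg54 zg5) (kg xg19 yg6 zg0) (kg xg26 yg51 zg4) (kg xg27 yg40 zg31) (kg xg15 yg40 zg61) (kg xg15 yg39 zg33) (kg xg15 yg39 zg22) (kg xg15 yg39 zg31) (kg xg28 yg42 zg42) (kg xg30 yg7 zg12) (kg xg15 yg39 zg26) (kg xg21 yg45 zg15) (kg xg15 yg40 zg25) (kg xg31 yg54 zg17) (kg xg29 yg35 zg28) (kg xg17 yg28 zg31) (kg xg21 yg58 zg23) (kg xg25 yg54 zg7) (kg xg28 yg42 zg18) (kg xg24 yg27 zg28) (kg xg25 yg11 zg21) (kg xg30 yg7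 zg13) (kg xg28 yg42 zg21) (kg xg29 yg41 zg11) (kg xg28 yg42 zg22) (kg xg17 yg53 zg10) (kg xg21 yg5 zg2)) (@D3.rec (fun _ => Pt) (kg xg15 yg40 zg19) (kg xg29 yg35 zg59) (kg xg28 yg59 zg38) (kg xg29 yg36 zg15) (kg xg15 yg39 zg44) (kg xg25 yg33 zg42) (kg xg30 yg1 zg46) (kg xg27 yg37 zg28) (kg xg26 yg25 zg36) (kg xg17 yg44 zg27) (kg xg27 yg28 zg36) (kg xg15 yg39 zg52) (kg xg15 yg51 zg37) (kg xg15 yg39 zg54) (kg xg15 yg39 zg60) (kg xg28 yg7 zg23) (kg xg27 yg37 zg25) (kg xg29 yg4 zg16) (kg xg24 yg8 zg48) (kg xg19 yg30 zg28) (kg xg25 yg47 zg15) (kg xg23 yg1 zg41) (kg xg30 yg19 zg60) (kg xg29 yg48 zg32) (kg xg31 yg56 zg18) (kg xg27 yg25 zg28) (kg xg29 yg28 zg13) (kg xg15 yg39 zg61) (kg xg29 yg36 zg27) (kg xg24 yg8 zg43) (kg xg28 yg23 zg59) (kg xg16 yg27 zg14) (kg xg15 yg40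 zg37) (kg xg31 yg55 zg57) (kg xg27 yg1 zg41) (kg xg25 yg43 zg18) (kg xg19 yg26 zg4) (kg xg17 yg29 zg18) (kg xg15 yg40 zg31) (kg xg30 yg20 zg2) (kg xg17 yg29 zg14) (kg xg15 yg40 zg15) (kg xg29 yg37 zg13) (kg xg17 yg29 zg15) (kg xg15 yg40 zg16) (kg xg15 yg46 zg55) (kg xg15 yg40 zg26) (kg xg17 yg25 zg38) (kg xg18 yg54 zg32) (kg xg24 yg58 zg24) (kg xg17 yg28 zg32) (kg xg31 yg56 zg25) (kg xg25 yg58 zg44) (kg xg30 yg49 zg19) (kg xg17 yg39 zg10) (kg xg31 yg35 zg46) (kg xg16 yg1 zg20) (kg xg30 yg46 zg48) (kg xg16 yg0 zg22) (kg xg17 yg20 zg20) (kg xg30 yg47 zg8) (kg xg30 yg20 zg3)) (@D3.rec (fun _ => Pt) (kg xg20 yg43 zg59) (kg xg18 yg53 zg39) (kg xg15 yg40 zg39) (kg xg24 yg28 zg55) (kg xg22 yg52 zg54) (kg xg31 yg56 zg28) (kg xg15 yg40 zg35) (kg xg27 yg44 zg11) (kg xg25 yg53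 zg26) (kg xg17 yg25 zg12) (kg xg28 yg55 zg35) (kg xg28 yg19 zg29) (kg xg15 yg40 zg38) (kg xg28 yg19 zg33) (kg xg20 yg43 zg54) (kg xg31 yg23 zg23) (kg xg31 yg17 zg31) (kg xg15 yg40 zg45) (kg xg31 yg56 zg34) (kg xg31 yg38 zg38) (kg xg31 yg54 zg27) (kg xg15 yg40 zg48) (kg xg21 yg49 zg27) (kg xg19 yg45 zg46) (kg xg24 yg17 zg0) (kg xg24 yg16 zg61) (kg xg19 yg8 zg58) (kg xg28 yg53 zg32) (kg xg31 yg56 zg36) (kg xg16 yg46 zg0) (kg xg31 yg25 zg11) (kg xg18 yg55 zg36) (kg xg24 yg23 zg5) (kg xg21 yg0 zg17) (kg xg19 yg38 zg61) (kg xg25 yg4 zg23) (kg xg26 yg44 zg27) (kg xg25 yg58 zg21) (kg xg22 yg4 zg58) (kg xg31 yg7 zg29) (kg xg17 yg37 zg16) (kg xg17 yg43 zg22) (kg xg30 yg17 zg19) (kg xg16 yg45 zg45) (kg xg24 yg36 zg61) (kg xg31 yg56 zg22) (kg xg31 yg52 zg55) (kg xg16 yg8 zg16)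 (kg xg15 yg58 zg16) (kg xg31 yg55 zg56) (kg xg15 yg41 zg23) (kg xg15 yg41 zg15) (kg xg25 yg4 zg32) (kg xg15 yg41 zg25) (kg xg17 yg42 zg16) (kg xg15 yg41 zg20) (kg xg15 yg48 zg50) (kg xg29 yg48 zg7) (kg xg29 yg16 zg35) (kg xg27 yg4 zg56) (kg xg19 yg35 zg41) (kg xg25 yg37 zg40)) (@D3.rec (fun _ => Pt) (kg xg25 yg39 zg21) (kg xg15 yg45 zg20) (kg xg22 yg46 zg6) (kg xg15 yg43 zg25) (kg xg15 yg41 zg31) (kg xg26 yg8 zg54) (kg xg25 yg39 zg3) (kg xg16 yg3 zg26) (kg xg23 yg24 zg22) (kg xg25 yg40 zg49) (kg xg15 yg53 zg49) (kg xg15 yg42 zg49) (kg xg15 yg41 zg39) (kg xg31 yg56 zg45) (kg xg23 yg2 zg51) (kg xg25 yg37 zg7) (kg xg15 yg42 zg60) (kg xg15 yg41 zg42) (kg xg30 yg42 zg16) (kg xg20 yg54 zg48) (kg xg25 yg42 zg56) (kg xg26 yg0 zg22) (kg xg19 yg6 zg13) (kg xg26 yg34 zg59) (kg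 xg31 yg40 zg58) (kg xg28 yg31 zg20) (kg xg19 yg40 zg30) (kg xg25 yg21 zg4) (kg xg19 yg57 zg61) (kg xg29 yg0 zg13) (kg xg19 yg58 zg13) (kg xg30 yg26 zg59) (kg xg20 yg43 zg52) (kg xg15 yg41 zg56) (kg xg29 yg36 zg13) (kg xg31 yg56 zg58) (kg xg19 yg59 zg25) (kg xg31 yg52 zg1) (kg xg25 yg21 zg26) (kg xg17 yg49 zg60) (kg xg24 yg34 zg12) (kg xg27 yg4 zg9) (kg xg29 yg58 zg45) (kg xg27 yg4 zg11) (kg xg19 yg53 zg16) (kg xg15 yg42 zg4) (kg xg16 yg47 zg54) (kg xg24 yg33 zg18) (kg xg15 yg43 zg4) (kg xg26 yg2 zg9) (kg xg26 yg1 zg40) (kg xg16 yg45 zg21) (kg xg20 yg54 zg42) (kg xg15 yg42 zg56) (kg xg26 yg39 zg10) (kg xg25 yg3 zg40) (kg xg22 yg31 zg10) (kg xg24 yg21 zg16) (kg xg26 yg48 zg2) (kg xg23 yg29 zg57) (kg xg22 yg31 zg9) (kg xg30 yg4 zg31)) (@D3.rec (fun _ => Pt) (kg xg28 yg42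 zg49) (kg xg15 yg42 zg19) (kg xg30 yg1 zg33) (kg xg26 yg1 zg34) (kg xg31 yg57 zg8) (kg xg31 yg7 zg33) (kg xg28 yg56 zg54) (kg xg15 yg42 zg50) (kg xg25 yg41 zg42) (kg xg26 yg58 zg29) (kg xg25 yg41 zg40) (kg xg31 yg57 zg13) (kg xg25 yg40 zg53) (kg xg25 yg41 zg32) (kg xg16 yg47 zg46) (kg xg24 yg37 zg50) (kg xg16 yg5 zg35) (kg xg29 yg28 zg11) (kg xg16 yg5 zg7) (kg xg26 yg1 zg14) (kg xg26 yg1 zg57) (kg xg17 yg38 zg34) (kg xg15 yg42 zg44) (kg xg24 yg42 zg55) (kg xg18 yg27 zg44) (kg xg26 yg0 zg34) (kg xg16 yg41 zg46) (kg xg15 yg42 zg32) (kg xg26 yg47 zg21) (kg xg31 yg3 zg5) (kg xg25 yg41 zg30) (kg xg15 yg42 zg34) (kg xg31 yg57 zg17) (kg xg25 yg41 zg28) (kg xg15 yg43 zg52) (kg xg31 yg57 zg19) (kg xg15 yg42 zg36) (kg xg23 yg22 zg58) (kg xg18 yg40 zg7) (kg xg24 yg20 zg12) (kg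 xg23 yg40 zg6) (kg xg31 yg7 zg55) (kg xg27 yg39 zg16) (kg xg17 yg8 zg39) (kg xg24 yg50 zg21) (kg xg31 yg57 zg21) (kg xg31 yg32 zg18) (kg xg31 yg57 zg14) (kg xg24 yg48 zg39) (kg xg31 yg57 zg22) (kg xg19 yg47 zg41) (kg xg23 yg28 zg18) (kg xg15 yg42 zg48) (kg xg31 yg57 zg29) (kg xg31 yg56 zg46) (kg xg31 yg7 zg35) (kg xg30 yg4 zg45) (kg xg29 yg43 zg53) (kg xg23 yg2 zg52) (kg xg19 yg22 zg57) (kg xg31 yg57 zg33) (kg xg27 yg22 zg6)) (@D3.rec (fun _ => Pt) (kg xg17 yg44 zg57) (kg xg31 yg9 zg27) (kg xg31 yg7 zg57) (kg xg16 yg7 zg8) (kg xg23 yg26 zg57) (kg xg31 yg57 zg42) (kg xg31 yg57 zg44) (kg xg30 yg3 zg33) (kg xg31 yg57 zg43) (kg xg29 yg58 zg32) (kg xg28 yg24 zg44) (kg xg15 yg42 zg59) (kg xg26 yg8 zg2) (kg xg28 yg24 zg42) (kg xg30 yg41 zg5) (kg xg15 yg43 zg1) (kg xg25 yg42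 zg17) (kg xg29 yg57 zg43) (kg xg28 yg42 zg41) (kg xg23 yg29 zg16) (kg xg31 yg8 zg3) (kg xg25 yg37 zg2) (kg xg30 yg14 zg24) (kg xg27 yg27 zg43) (kg xg31 yg57 zg53) (kg xg18 yg24 zg40) (kg xg15 yg43 zg13) (kg xg15 yg43 zg16) (kg xg24 yg27 zg57) (kg xg18 yg17 zg56) (kg xg16 yg6 zg20) (kg xg24 yg20 zg60) (kg xg30 yg6 zg26) (kg xg17 yg40 zg34) (kg xg28 yg42 zg52) (kg xg15 yg43 zg23) (kg xg18 yg18 zg6) (kg xg30 yg2 zg0) (kg xg30 yg10 zg43) (kg xg26 yg12 zg32) (kg xg26 yg0 zg43) (kg xg23 yg24 zg11) (kg xg23 yg42 zg19) (kg xg15 yg43 zg42) (kg xg15 yg43 zg51) (kg xg25 yg45 zg40) (kg xg23 yg22 zg52) (kg xg22 yg10 zg24) (kg xg27 yg19 zg52) (kg xg29 yg6 zg60) (kg xg15 yg43 zg39) (kg xg22 yg38 zg60) (kg xg26 yg55 zg20) (kg xg22 yg6 zg4) (kg xg26 yg7 zg33) (kg xg22 yg6 zg3) (kg xg18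 yg14 zg3) (kg xg23 yg40 zg56) (kg xg23 yg40 zg15) (kg xg21 yg28 zg56) (kg xg31 yg3 zg14) (kg xg23 yg40 zg9)) (@D3.rec (fun _ => Pt) (kg xg15 yg43 zg49) (kg xg29 yg56 zg54) (kg xg31 yg3 zg12) (kg xg26 yg1 zg44) (kg xg26 yg1 zg45) (kg xg31 yg4 zg36) (kg xg31 yg57 zg20) (kg xg29 yg14 zg8) (kg xg31 yg4 zg61) (kg xg28 yg38 zg17) (kg xg19 yg8 zg20) (kg xg30 yg0 zg34) (kg xg30 yg4 zg3) (kg xg26 yg18 zg0) (kg xg15 yg47 zg26) (kg xg31 yg58 zg8) (kg xg30 yg10 zg35) (kg xg15 yg43 zg55) (kg xg28 yg28 zg60) (kg xg20 yg28 zg33) (kg xg30 yg1 zg32) (kg xg29 yg12 zg9) (kg xg19 yg8 zg12) (kg xg24 yg32 zg27) (kg xg26 yg0 zg13) (kg xg31 yg58 zg10) (kg xg19 yg8 zg19) (kg xg16 yg57 zg46) (kg xg28 yg45 zg24) (kg xg19 yg8 zg22) (kg xg15 yg44 zg4) (kg xg29 yg12 zg57) (kg xg28 yg35 zg31) (kg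 xg31 yg35 zg26) (kg xg28 yg34 zg1) (kg xg19 yg16 zg22) (kg xg19 yg10 zg35) (kg xg25 yg31 zg28) (kg xg19 yg56 zg7) (kg xg15 yg44 zg18) (kg xg15 yg44 zg21) (kg xg20 yg4 zg40) (kg xg19 yg15 zg17) (kg xg20 yg4 zg51) (kg xg19 yg4 zg1) (kg xg19 yg50 zg16) (kg xg26 yg44 zg13) (kg xg19 yg15 zg29) (kg xg26 yg3 zg6) (kg xg23 yg30 zg40) (kg xg15 yg44 zg29) (kg xg15 yg44 zg61) (kg xg15 yg44 zg31) (kg xg25 yg38 zg8) (kg xg15 yg44 zg59) (kg xg25 yg41 zg6) (kg xg15 yg44 zg34) (kg xg19 yg16 zg42) (kg xg15 yg45 zg9) (kg xg28 yg31 zg25) (kg xg21 yg56 zg6) (kg xg19 yg5 zg48)) (@D3.rec (fun _ => Pt) (kg xg21 yg56 zg1) (kg xg15 yg44 zg47) (kg xg25 yg28 zg13) (kg xg26 yg3 zg29) (kg xg16 yg0 zg47) (kg xg15 yg44 zg54) (kg xg15 yg45 zg0) (kg xg26 yg2 zg17) (kg xg26 yg2 zg16) (kg xg15 yg44 zg41)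 (kg xg31 yg0 zg50) (kg xg15 yg45 zg49) (kg xg15 yg44 zg42) (kg xg30 yg13 zg20) (kg xg25 yg38 zg24) (kg xg27 yg47 zg26) (kg xg30 yg1 zg55) (kg xg26 yg3 zg12) (kg xg26 yg3 zg5) (kg xg24 yg20 zg54) (kg xg28 yg11 zg36) (kg xg24 yg29 zg39) (kg xg24 yg4 zg28) (kg xg24 yg20 zg26) (kg xg22 yg4 zg29) (kg xg29 yg26 zg0) (kg xg16 yg51 zg0) (kg xg25 yg38 zg33) (kg xg15 yg44 zg55) (kg xg31 yg58 zg20) (kg xg25 yg38 zg31) (kg xg31 yg58 zg23) (kg xg24 yg20 zg45) (kg xg16 yg51 zg9) (kg xg24 yg51 zg1) (kg xg25 yg42 zg21) (kg xg26 yg5 zg8) (kg xg24 yg48 zg47) (kg xg31 yg58 zg24) (kg xg28 yg29 zg37) (kg xg15 yg44 zg60) (kg xg30 yg11 zg10) (kg xg25 yg38 zg12) (kg xg25 yg40 zg55) (kg xg21 yg34 zg34) (kg xg19 yg19 zg0) (kg xg23 yg23 zg25) (kg xg21 yg10 zg21) (kg xg27 yg20 zg46) (kg xg25 yg20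 zg35) (kg xg25 yg33 zg32) (kg xg25 yg42 zg23) (kg xg21 yg59 zg6) (kg xg28 yg31 zg14) (kg xg25 yg50 zg7) (kg xg15 yg45 zg10) (kg xg24 yg42 zg20) (kg xg19 yg16 zg44) (kg xg19 yg4 zg15) (kg xg21 yg18 zg58) (kg xg25 yg41 zg56) (kg xg29 yg59 zg31)) (@D3.rec (fun _ => Pt) (kg xg28 yg42 zg20) (kg xg15 yg46 zg10) (kg xg26 yg1 zg32) (kg xg31 yg58 zg28) (kg xg19 yg19 zg12) (kg xg19 yg4 zg22) (kg xg27 yg4 zg43) (kg xg25 yg28 zg18) (kg xg21 yg40 zg17) (kg xg21 yg36 zg42) (kg xg19 yg15 zg39) (kg xg19 yg40 zg36) (kg xg23 yg34 zg48) (kg xg15 yg46 zg0) (kg xg15 yg45 zg37) (kg xg15 yg45 zg60) (kg xg28 yg47 zg5) (kg xg25 yg39 zg19) (kg xg15 yg46 zg5) (kg xg30 yg40 zg24) (kg xg26 yg13 zg54) (kg xg25 yg41 zg38) (kg xg16 yg0 zg50) (kg xg15 yg46 zg1) (kg xg25 yg34 zg2) (kg xg31 yg58 zg32)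 (kg xg20 yg51 zg28) (kg xg15 yg45 zg48) (kg xg27 yg57 zg3) (kg xg31 yg58 zg17) (kg xg29 yg52 zg3) (kg xg29 yg21 zg46) (kg xg26 yg5 zg60) (kg xg15 yg45 zg58) (kg xg20 yg49 zg10) (kg xg17 yg41 zg61) (kg xg31 yg1 zg40) (kg xg29 yg22 zg59) (kg xg23 yg27 zg50) (kg xg31 yg8 zg59) (kg xg23 yg38 zg58) (kg xg15 yg45 zg61) (kg xg31 yg4 zg2) (kg xg29 yg58 zg20) (kg xg31 yg1 zg44) (kg xg15 yg46 zg3) (kg xg26 yg2 zg21) (kg xg29 yg58 zg21) (kg xg23 yg39 zg24) (kg xg30 yg13 zg47) (kg xg31 yg58 zg36) (kg xg27 yg30 zg27) (kg xg28 yg10 zg56) (kg xg24 yg40 zg17) (kg xg26 yg25 zg15) (kg xg29 yg51 zg23) (kg xg25 yg37 zg19) (kg xg25 yg38 zg53) (kg xg16 yg19 zg59) (kg xg30 yg0 zg25) (kg xg24 yg30 zg51) (kg xg27 yg4 zg44)) (@D3.rec (fun _ => Pt) (kg xg27 yg30 zg14) (kg xg20 yg16 zg22) (kg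 xg24 yg54 zg52) (kg xg17 yg45 zg32) (kg xg26 yg3 zg40) (kg xg15 yg46 zg23) (kg xg25 yg29 zg19) (kg xg18 yg46 zg36) (kg xg16 yg6 zg59) (kg xg27 yg38 zg59) (kg xg27 yg31 zg46) (kg xg26 yg14 zg11) (kg xg24 yg13 zg43) (kg xg22 yg7 zg10) (kg xg30 yg26 zg54) (kg xg26 yg42 zg27) (kg xg15 yg46 zg37) (kg xg25 yg29 zg38) (kg xg22 yg9 zg50) (kg xg28 yg18 zg19) (kg xg25 yg35 zg35) (kg xg18 yg55 zg6) (kg xg22 yg33 zg27) (kg xg15 yg46 zg43) (kg xg31 yg58 zg53) (kg xg25 yg12 zg41) (kg xg22 yg53 zg55) (kg xg26 yg41 zg30) (kg xg15 yg58 zg3) (kg xg27 yg24 zg44) (kg xg25 yg27 zg17) (kg xg15 yg58 zg30) (kg xg23 yg8 zg60) (kg xg16 yg6 zg57) (kg xg26 yg45 zg11) (kg xg27 yg2 zg55) (kg xg28 yg14 zg17) (kg xg15 yg58 zg51) (kg xg15 yg57 zg54) (kg xg27 yg30 zg8) (kg xg16 yg6 zg60) (kg xg15 yg47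 zg4) (kg xg15 yg47 zg2) (kg xg16 yg0 zg26) (kg xg15 yg59 zg38) (kg xg15 yg57 zg7) (kg xg25 yg55 zg26) (kg xg16 yg1 zg41) (kg xg15 yg47 zg5) (kg xg16 yg1 zg40) (kg xg30 yg19 zg55) (kg xg16 yg1 zg37) (kg xg16 yg0 zg46) (kg xg29 yg23 zg48) (kg xg31 yg58 zg57) (kg xg31 yg58 zg60) (kg xg26 yg13 zg55) (kg xg31 yg18 zg5) (kg xg17 yg27 zg4) (kg xg15 yg47 zg12) (kg xg25 yg11 zg26) (kg xg24 yg37 zg14)) (@D3.rec (fun _ => Pt) (kg xg22 yg9 zg10) (kg xg25 yg7 zg17) (kg xg17 yg14 zg51) (kg xg27 yg4 zg54) (kg xg28 yg57 zg35) (kg xg21 yg5 zg14) (kg xg27 yg4 zg29) (kg xg23 yg33 zg19) (kg xg15 yg47 zg25) (kg xg23 yg1 zg60) (kg xg29 yg52 zg38) (kg xg16 yg4 zg34) (kg xg25 yg37 zg48) (kg xg16 yg5 zg16) (kg xg18 yg42 zg35) (kg xg15 yg47 zg30) (kg xg31 yg59 zg5) (kg xg24 yg45 zg47) (kg xg17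 yg48 zg53) (kg xg25 yg17 zg21) (kg xg16 yg8 zg51) (kg xg17 yg45 zg4) (kg xg25 yg16 zg41) (kg xg16 yg59 zg27) (kg xg15 yg47 zg39) (kg xg17 yg45 zg7) (kg xg26 yg6 zg12) (kg xg17 yg13 zg43) (kg xg21 yg27 zg30) (kg xg21 yg24 zg12) (kg xg15 yg47 zg50) (kg xg25 yg12 zg17) (kg xg15 yg48 zg38) (kg xg15 yg47 zg51) (kg xg15 yg48 zg37) (kg xg17 yg5 zg41) (kg xg26 yg3 zg59) (kg xg25 yg17 zg57) (kg xg21 yg22 zg38) (kg xg26 yg5 zg47) (kg xg30 yg11 zg6) (kg xg27 yg29 zg15) (kg xg25 yg17 zg25) (kg xg26 yg5 zg51) (kg xg21 yg23 zg61) (kg xg25 yg18 zg59) (kg xg21 yg22 zg27) (kg xg15 yg48 zg41) (kg xg26 yg2 zg45) (kg xg15 yg58 zg19) (kg xg15 yg48 zg8) (kg xg26 yg5 zg43) (kg xg15 yg48 zg10) (kg xg26 yg59 zg37) (kg xg26 yg5 zg42) (kg xg21 yg33 zg18) (kg xg20 yg19 zg26) (kg xg21 yg42 zg25)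 (kg xg16 yg14 zg6) (kg xg21 yg41 zg7) (kg xg27 yg25 zg31) (kg xg16 yg15 zg35)) (@D3.rec (fun _ => Pt) (kg xg15 yg48 zg30) (kg xg31 yg29 zg11) (kg xg21 yg26 zg55) (kg xg16 yg42 zg13) (kg xg15 yg48 zg32) (kg xg27 yg35 zg44) (kg xg24 yg5 zg1) (kg xg16 yg37 zg57) (kg xg15 yg48 zg34) (kg xg16 yg38 zg59) (kg xg15 yg48 zg35) (kg xg16 yg38 zg57) (kg xg29 yg43 zg42) (kg xg16 yg42 zg10) (kg xg21 yg22 zg28) (kg xg21 yg42 zg48) (kg xg18 yg30 zg24) (kg xg27 yg34 zg24) (kg xg28 yg5 zg2) (kg xg22 yg15 zg23) (kg xg16 yg6 zg55) (kg xg17 yg42 zg51) (kg xg27 yg26 zg40) (kg xg24 yg55 zg0) (kg xg15 yg48 zg57) (kg xg27 yg25 zg39) (kg xg21 yg57 zg18) (kg xg17 yg39 zg13) (kg xg16 yg16 zg30) (kg xg25 yg44 zg19) (kg xg19 yg35 zg52) (kg xg24 yg41 zg53) (kg xg17 yg43 zg37) (kg xg15 yg49 zg11)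 (kg xg29 yg13 zg39) (kg xg21 yg24 zg50) (kg xg26 yg5 zg37) (kg xg21 yg26 zg47) (kg xg18 yg37 zg25) (kg xg25 yg39 zg45) (kg xg15 yg49 zg24) (kg xg19 yg59 zg0) (kg xg23 yg42 zg10) (kg xg15 yg49 zg26) (kg xg29 yg51 zg45) (kg xg27 yg17 zg60) (kg xg26 yg55 zg10) (kg xg29 yg31 zg46) (kg xg17 yg2 zg36) (kg xg16 yg28 zg31) (kg xg15 yg49 zg39) (kg xg17 yg16 zg19) (kg xg15 yg49 zg42) (kg xg20 yg27 zg6) (kg xg15 yg49 zg45) (kg xg16 yg48 zg43) (kg xg16 yg3 zg21) (kg xg15 yg49 zg49) (kg xg26 yg18 zg1) (kg xg16 yg17 zg54) (kg xg16 yg20 zg14) (kg xg15 yg49 zg58)) (@D3.rec (fun _ => Pt) (kg xg31 yg59 zg17) (kg xg27 yg48 zg52) (kg xg19 yg18 zg11) (kg xg19 yg12 zg0) (kg xg19 yg13 zg6) (kg xg15 yg50 zg0) (kg xg20 yg10 zg40) (kg xg18 yg47 zg26) (kg xg18 yg50 zg18) (kg xg18 yg50 zg5) (kg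 xg25 yg4 zg22) (kg xg31 yg48 zg13) (kg xg29 yg49 zg28) (kg xg31 yg0 zg45) (kg xg28 yg10 zg57) (kg xg26 yg20 zg6) (kg xg29 yg5 zg57) (kg xg15 yg50 zg10) (kg xg24 yg59 zg27) (kg xg26 yg26 zg33) (kg xg15 yg50 zg13) (kg xg30 yg36 zg4) (kg xg22 yg17 zg48) (kg xg26 yg3 zg32) (kg xg15 yg50 zg26) (kg xg15 yg50 zg25) (kg xg15 yg50 zg17) (kg xg28 yg32 zg30) (kg xg28 yg43 zg53) (kg xg31 yg44 zg46) (kg xg17 yg9 zg41) (kg xg15 yg50 zg21) (kg xg23 yg19 zg60) (kg xg15 yg50 zg22) (kg xg31 yg59 zg27) (kg xg31 yg2 zg29) (kg xg28 yg2 zg10) (kg xg31 yg59 zg28) (kg xg29 yg30 zg6) (kg xg24 yg31 zg13) (kg xg15 yg50 zg34) (kg xg16 yg28 zg26) (kg xg17 yg38 zg13) (kg xg26 yg19 zg19) (kg xg28 yg27 zg15) (kg xg29 yg28 zg33) (kg xg19 yg56 zg57) (kg xg25 yg30 zg59) (kg xg24 yg40 zg28) (kg xg25 yg30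 zg51) (kg xg15 yg50 zg52) (kg xg18 yg8 zg47) (kg xg18 yg49 zg56) (kg xg18 yg47 zg29) (kg xg25 yg46 zg46) (kg xg16 yg46 zg30) (kg xg26 yg33 zg32) (kg xg16 yg2 zg1) (kg xg16 yg2 zg2) (kg xg15 yg51 zg5) (kg xg15 yg52 zg25) (kg xg15 yg51 zg6)) (@D3.rec (fun _ => Pt) (kg xg15 yg52 zg24) (kg xg18 yg45 zg32) (kg xg19 yg36 zg9) (kg xg25 yg52 zg41) (kg xg28 yg49 zg47) (kg xg31 yg59 zg35) (kg xg21 yg1 zg2) (kg xg20 yg0 zg39) (kg xg17 yg19 zg7) (kg xg19 yg38 zg52) (kg xg15 yg51 zg17) (kg xg19 yg38 zg51) (kg xg29 yg50 zg42) (kg xg25 yg12 zg27) (kg xg19 yg12 zg13) (kg xg17 yg51 zg10) (kg xg25 yg17 zg13) (kg xg17 yg37 zg12) (kg xg17 yg37 zg11) (kg xg16 yg40 zg39) (kg xg25 yg32 zg21) (kg xg26 yg39 zg23) (kg xg15 yg51 zg32) (kg xg25 yg12 zg54) (kg xg23 yg13 zg16) (kg xg17 yg24 zg8)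 (kg xg25 yg46 zg51) (kg xg24 yg54 zg46) (kg xg25 yg47 zg19) (kg xg31 yg26 zg1) (kg xg15 yg51 zg47) (kg xg25 yg57 zg38) (kg xg26 yg39 zg44) (kg xg15 yg51 zg48) (kg xg31 yg59 zg42) (kg xg26 yg45 zg38) (kg xg16 yg1 zg47) (kg xg15 yg51 zg49) (kg xg18 yg51 zg40) (kg xg15 yg55 zg10) (kg xg19 yg53 zg50) (kg xg31 yg41 zg6) (kg xg19 yg28 zg22) (kg xg23 yg55 zg32) (kg xg15 yg52 zg0) (kg xg24 yg2 zg39) (kg xg19 yg41 zg24) (kg xg19 yg41 zg3) (kg xg15 yg52 zg6) (kg xg26 yg39 zg14) (kg xg28 yg50 zg44) (kg xg23 yg51 zg42) (kg xg19 yg40 zg54) (kg xg25 yg4 zg47) (kg xg31 yg59 zg47) (kg xg19 yg42 zg30) (kg xg19 yg42 zg5) (kg xg24 yg28 zg47) (kg xg16 yg46 zg29) (kg xg28 yg53 zg4) (kg xg24 yg39 zg12) (kg xg28 yg55 zg36)) (@D3.rec (fun _ => Pt) (kg xg22 yg20 zg4) (kg xg15 yg52 zg13) (kg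 xg28 yg47 zg56) (kg xg16 yg46 zg43) (kg xg15 yg52 zg14) (kg xg27 yg55 zg5) (kg xg28 yg32 zg24) (kg xg18 yg30 zg53) (kg xg27 yg52 zg19) (kg xg15 yg52 zg17) (kg xg31 yg59 zg49) (kg xg19 yg21 zg37) (kg xg27 yg55 zg8) (kg xg18 yg41 zg38) (kg xg15 yg52 zg18) (kg xg15 yg57 zg52) (kg xg15 yg52 zg21) (kg xg15 yg52 zg22) (kg xg16 yg2 zg17) (kg xg29 yg42 zg39) (kg xg27 yg9 zg53) (kg xg18 yg48 zg13) (kg xg17 yg20 zg35) (kg xg24 yg8 zg60) (kg xg15 yg58 zg49) (kg xg16 yg2 zg7) (kg xg15 yg52 zg26) (kg xg15 yg52 zg30) (kg xg19 yg24 zg13) (kg xg31 yg29 zg51) (kg xg26 yg44 zg51) (kg xg31 yg27 zg13) (kg xg18 yg8 zg0) (kg xg15 yg52 zg35) (kg xg21 yg5 zg6) (kg xg21 yg1 zg56) (kg xg15 yg52 zg36) (kg xg25 yg49 zg25) (kg xg21 yg1 zg54) (kg xg31 yg26 zg29) (kg xg29 yg38 zg18) (kg xg15 yg54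 zg9) (kg xg24 yg58 zg0) (kg xg25 yg7 zg16) (kg xg25 yg7 zg11) (kg xg24 yg37 zg23) (kg xg15 yg52 zg45) (kg xg25 yg49 zg14) (kg xg31 yg59 zg61) (kg xg25 yg7 zg24) (kg xg25 yg8 zg28) (kg xg24 yg57 zg60) (kg xg25 yg8 zg26) (kg xg20 yg2 zg40) (kg xg24 yg37 zg17) (kg xg25 yg6 zg2) (kg xg25 yg17 zg61) (kg xg30 yg55 zg43) (kg xg15 yg52 zg56) (kg xg28 yg49 zg11) (kg xg15 yg53 zg0) (kg xg21 yg17 zg60)) (@D3.rec (fun _ => Pt) (kg xg27 yg23 zg11) (kg xg24 yg38 zg21) (kg xg31 yg49 zg13) (kg xg31 yg46 zg20) (kg xg24 yg38 zg10) (kg xg15 yg53 zg1) (kg xg27 yg45 zg45) (kg xg15 yg54 zg14) (kg xg15 yg53 zg5) (kg xg25 yg33 zg40) (kg xg15 yg53 zg14) (kg xg25 yg41 zg39) (kg xg31 yg28 zg49) (kg xg25 yg14 zg61) (kg xg29 yg37 zg17) (kg xg25 yg14 zg59) (kg xg25 yg14 zg54) (kg xg19 yg11 zg61)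 (kg xg15 yg54 zg38) (kg xg32 yg0 zg9) (kg xg26 yg25 zg1) (kg xg23 yg28 zg45) (kg xg25 yg8 zg40) (kg xg25 yg9 zg5) (kg xg31 yg46 zg47) (kg xg27 yg42 zg3) (kg xg24 yg45 zg56) (kg xg29 yg16 zg14) (kg xg31 yg48 zg47) (kg xg26 yg5 zg26) (kg xg18 yg6 zg21) (kg xg24 yg35 zg9) (kg xg25 yg13 zg29) (kg xg29 yg6 zg3) (kg xg27 yg44 zg43) (kg xg15 yg53 zg34) (kg xg15 yg53 zg35) (kg xg18 yg6 zg19) (kg xg27 yg25 zg13) (kg xg18 yg5 zg50) (kg xg18 yg2 zg54) (kg xg26 yg14 zg30) (kg xg24 yg20 zg48) (kg xg27 yg21 zg36) (kg xg15 yg53 zg51) (kg xg28 yg3 zg25) (kg xg19 yg25 zg1) (kg xg15 yg53 zg57) (kg xg15 yg53 zg55) (kg xg29 yg9 zg36) (kg xg29 yg5 zg39) (kg xg25 yg12 zg31) (kg xg18 yg18 zg12) (kg xg31 yg54 zg42) (kg xg24 yg3 zg9) (kg xg24 yg58 zg15) (kg xg24 yg16 zg8) (kg xg20 yg18 zg55)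 (kg xg25 yg1 zg40) (kg xg23 yg22 zg26) (kg xg15 yg54 zg3) (kg xg32 yg0 zg17)) (@D3.rec (fun _ => Pt) (kg xg21 yg48 zg3) (kg xg30 yg19 zg59) (kg xg25 yg6 zg17) (kg xg30 yg27 zg42) (kg xg30 yg48 zg10) (kg xg20 yg29 zg40) (kg xg26 yg6 zg53) (kg xg25 yg41 zg55) (kg xg23 yg1 zg48) (kg xg28 yg32 zg59) (kg xg28 yg30 zg22) (kg xg29 yg12 zg40) (kg xg15 yg54 zg18) (kg xg21 yg47 zg44) (kg xg31 yg45 zg46) (kg xg15 yg54 zg19) (kg xg32 yg0 zg21) (kg xg31 yg43 zg47) (kg xg19 yg44 zg28) (kg xg15 yg54 zg36) (kg xg15 yg54 zg22) (kg xg28 yg5 zg61) (kg xg24 yg12 zg35) (kg xg19 yg33 zg31) (kg xg26 yg50 zg7) (kg xg26 yg45 zg35) (kg xg15 yg54 zg25) (kg xg16 yg21 zg31) (kg xg19 yg20 zg47) (kg xg32 yg0 zg27) (kg xg32 yg0 zg29) (kg xg20 yg50 zg3) (kg xg29 yg47 zg47) (kg xg31 yg51 zg7) (kg xg31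 yg48 zg16) (kg xg31 yg48 zg39) (kg xg24 yg36 zg38) (kg xg25 yg14 zg57) (kg xg30 yg14 zg12) (kg xg15 yg54 zg35) (kg xg24 yg37 zg4) (kg xg24 yg36 zg40) (kg xg19 yg41 zg57) (kg xg24 yg12 zg10) (kg xg23 yg12 zg37) (kg xg15 yg54 zg37) (kg xg23 yg12 zg34) (kg xg31 yg59 zg39) (kg xg24 yg26 zg7) (kg xg25 yg9 zg1) (kg xg31 yg35 zg43) (kg xg15 yg54 zg41) (kg xg30 yg51 zg4) (kg xg27 yg41 zg61) (kg xg15 yg54 zg51) (kg xg15 yg54 zg43) (kg xg15 yg54 zg50) (kg xg30 yg9 zg19) (kg xg19 yg20 zg50) (kg xg31 yg25 zg61) (kg xg15 yg54 zg48) (kg xg25 yg10 zg38)) (@D3.rec (fun _ => Pt) (kg xg17 yg52 zg47) (kg xg29 yg52 zg29) (kg xg24 yg7 zg29) (kg xg21 yg17 zg53) (kg xg32 yg0 zg39) (kg xg19 yg20 zg12) (kg xg21 yg17 zg55) (kg xg31 yg49 zg59) (kg xg30 yg14 zg18) (kg xg29 yg57 zg9) (kg xg31 yg48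 zg11) (kg xg19 yg49 zg15) (kg xg25 yg28 zg16) (kg xg29 yg17 zg21) (kg xg15 yg54 zg55) (kg xg32 yg0 zg45) (kg xg25 yg54 zg20) (kg xg27 yg23 zg13) (kg xg25 yg32 zg14) (kg xg20 yg58 zg13) (kg xg31 yg23 zg50) (kg xg16 yg18 zg18) (kg xg29 yg21 zg10) (kg xg24 yg29 zg37) (kg xg21 yg56 zg59) (kg xg32 yg0 zg47) (kg xg30 yg15 zg12) (kg xg16 yg46 zg44) (kg xg15 yg55 zg13) (kg xg25 yg20 zg34) (kg xg23 yg9 zg21) (kg xg24 yg2 zg33) (kg xg21 yg30 zg46) (kg xg19 yg25 zg30) (kg xg15 yg55 zg19) (kg xg18 yg48 zg59) (kg xg31 yg59 zg36) (kg xg19 yg29 zg10) (kg xg29 yg48 zg44) (kg xg25 yg32 zg30) (kg xg25 yg53 zg9) (kg xg19 yg29 zg1) (kg xg15 yg55 zg48) (kg xg19 yg28 zg60) (kg xg25 yg53 zg16) (kg xg20 yg46 zg26) (kg xg22 yg5 zg11) (kg xg25 yg52 zg51) (kg xg19 yg30 zg5) (kg xg19 yg28 zg18)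 (kg xg22 yg36 zg49) (kg xg15 yg55 zg40) (kg xg22 yg36 zg55) (kg xg15 yg55 zg54) (kg xg19 yg28 zg11) (kg xg16 yg24 zg18) (kg xg19 yg25 zg38) (kg xg30 yg55 zg51) (kg xg15 yg55 zg46) (kg xg29 yg49 zg56) (kg xg26 yg23 zg30) (kg xg24 yg4 zg54)) (@D3.rec (fun _ => Pt) (kg xg28 yg11 zg32) (kg xg15 yg55 zg56) (kg xg15 yg55 zg52) (kg xg23 yg16 zg45) (kg xg16 yg52 zg13) (kg xg29 yg55 zg4) (kg xg23 yg16 zg47) (kg xg22 yg37 zg42) (kg xg24 yg57 zg27) (kg xg29 yg18 zg15) (kg xg24 yg57 zg22) (kg xg19 yg28 zg6) (kg xg15 yg55 zg57) (kg xg25 yg52 zg57) (kg xg17 yg11 zg32) (kg xg18 yg45 zg14) (kg xg15 yg55 zg61) (kg xg18 yg45 zg15) (kg xg21 yg16 zg43) (kg xg25 yg52 zg43) (kg xg21 yg53 zg20) (kg xg19 yg41 zg10) (kg xg16 yg44 zg6) (kg xg15 yg56 zg3) (kg xg28 yg42 zg39) (kg xg16 yg6 zg34)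 (kg xg27 yg37 zg9) (kg xg20 yg12 zg8) (kg xg29 yg13 zg35) (kg xg25 yg6 zg49) (kg xg25 yg19 zg46) (kg xg25 yg19 zg54) (kg xg15 yg56 zg9) (kg xg26 yg9 zg49) (kg xg29 yg38 zg57) (kg xg28 yg48 zg14) (kg xg20 yg12 zg9) (kg xg28 yg50 zg52) (kg xg25 yg51 zg23) (kg xg28 yg50 zg50) (kg xg29 yg2 zg29) (kg xg30 yg39 zg61) (kg xg24 yg27 zg30) (kg xg28 yg42 zg5) (kg xg31 yg59 zg41) (kg xg30 yg36 zg50) (kg xg22 yg25 zg4) (kg xg15 yg56 zg23) (kg xg22 yg25 zg3) (kg xg28 yg49 zg14) (kg xg17 yg25 zg23) (kg xg23 yg4 zg12) (kg xg26 yg43 zg18) (kg xg29 yg40 zg60) (kg xg25 yg52 zg13) (kg xg19 yg27 zg25) (kg xg22 yg5 zg41) (kg xg15 yg56 zg42) (kg xg24 yg15 zg54) (kg xg26 yg42 zg46) (kg xg25 yg51 zg40) (kg xg15 yg56 zg31)) (@D3.rec (fun _ => Pt) (kg xg16 yg38 zg32) (kg xg30 yg56 zg48) (kg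 xg19 yg9 zg11) (kg xg31 yg51 zg17) (kg xg25 yg21 zg52) (kg xg20 yg12 zg14) (kg xg23 yg4 zg0) (kg xg28 yg49 zg9) (kg xg31 yg30 zg53) (kg xg28 yg49 zg10) (kg xg21 yg38 zg2) (kg xg26 yg42 zg43) (kg xg15 yg56 zg39) (kg xg26 yg56 zg61) (kg xg26 yg45 zg33) (kg xg27 yg1 zg61) (kg xg17 yg23 zg56) (kg xg18 yg0 zg40) (kg xg28 yg16 zg30) (kg xg28 yg50 zg29) (kg xg15 yg58 zg4) (kg xg15 yg56 zg48) (kg xg23 yg9 zg3) (kg xg15 yg59 zg20) (kg xg15 yg59 zg17) (kg xg15 yg56 zg52) (kg xg30 yg56 zg20) (kg xg20 yg33 zg59) (kg xg15 yg58 zg41) (kg xg25 yg29 zg57) (kg xg15 yg58 zg38) (kg xg15 yg56 zg61) (kg xg25 yg29 zg55) (kg xg22 yg2 zg8) (kg xg25 yg44 zg4) (kg xg20 yg57 zg4) (kg xg27 yg7 zg50) (kg xg25 yg34 zg4) (kg xg16 yg0 zg21) (kg xg20 yg36 zg43) (kg xg25 yg34 zg22) (kg xg15 yg59 zg48)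 (kg xg24 yg16 zg45) (kg xg27 yg13 zg22) (kg xg21 yg17 zg31) (kg xg15 yg57 zg22) (kg xg27 yg48 zg23) (kg xg25 yg33 zg14) (kg xg15 yg57 zg23) (kg xg25 yg30 zg31) (kg xg32 yg1 zg16) (kg xg29 yg5 zg11) (kg xg29 yg55 zg59) (kg xg15 yg57 zg48) (kg xg17 yg40 zg43) (kg xg16 yg1 zg59) (kg xg25 yg35 zg11) (kg xg16 yg6 zg54) (kg xg15 yg57 zg57) (kg xg21 yg46 zg2) (kg xg15 yg57 zg32) (kg xg27 yg11 zg8)) (@D3.rec (fun _ => Pt) (kg xg15 yg57 zg33) (kg xg30 yg8 zg49) (kg xg16 yg1 zg56) (kg xg26 yg2 zg14) (kg xg15 yg57 zg59) (kg xg16 yg2 zg19) (kg xg16 yg0 zg61) (kg xg29 yg51 zg25) (kg xg16 yg0 zg54) (kg xg15 yg57 zg37) (kg xg23 yg10 zg43) (kg xg32 yg1 zg24) (kg xg21 yg40 zg57) (kg xg15 yg57 zg38) (kg xg32 yg1 zg26) (kg xg25 yg34 zg52) (kg xg16 yg1 zg38) (kg xg15 yg57 zg39) (kg xg25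 yg48 zg61) (kg xg16 yg1 zg9) (kg xg16 yg0 zg3) (kg xg15 yg57 zg43) (kg xg31 yg11 zg29) (kg xg30 yg8 zg45) (kg xg25 yg27 zg26) (kg xg15 yg57 zg50) (kg xg32 yg1 zg33) (kg xg25 yg54 zg57) (kg xg25 yg51 zg16) (kg xg17 yg10 zg12) (kg xg29 yg21 zg57) (kg xg30 yg50 zg56) (kg xg30 yg6 zg36) (kg xg27 yg37 zg61) (kg xg32 yg1 zg28) (kg xg27 yg24 zg35) (kg xg31 yg59 zg50) (kg xg32 yg1 zg20) (kg xg31 yg46 zg33) (kg xg15 yg57 zg56) (kg xg32 yg1 zg36) (kg xg31 yg55 zg19) (kg xg28 yg49 zg26) (kg xg27 yg55 zg11) (kg xg15 yg57 zg55) (kg xg24 yg53 zg54) (kg xg17 yg27 zg1) (kg xg30 yg19 zg16) (kg xg30 yg18 zg50) (kg xg20 yg59 zg10) (kg xg19 yg45 zg43) (kg xg28 yg49 zg25) (kg xg31 yg33 zg51) (kg xg25 yg29 zg49) (kg xg22 yg0 zg16) (kg xg29 yg31 zg4) (kg xg25 yg27 zg12) (kg xg25 yg54 zg19)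 (kg xg31 yg42 zg18) (kg xg19 yg38 zg60) (kg xg15 yg58 zg58) (kg xg31 yg28 zg53)) (@D3.rec (fun _ => Pt) (kg xg25 yg31 zg48) (kg xg25 yg27 zg34) (kg xg15 yg58 zg33) (kg xg25 yg13 zg6) (kg xg24 yg44 zg46) (kg xg25 yg58 zg36) (kg xg25 yg58 zg35) (kg xg25 yg27 zg25) (kg xg32 yg1 zg49) (kg xg15 yg58 zg34) (kg xg31 yg59 zg6) (kg xg26 yg23 zg43) (kg xg26 yg2 zg8) (kg xg15 yg58 zg48) (kg xg25 yg56 zg53) (kg xg25 yg7 zg28) (kg xg23 yg10 zg14) (kg xg15 yg58 zg20) (kg xg30 yg54 zg31) (kg xg15 yg58 zg21) (kg xg21 yg46 zg28) (kg xg25 yg57 zg19) (kg xg15 yg58 zg22) (kg xg25 yg57 zg17) (kg xg15 yg58 zg50) (kg xg15 yg59 zg28) (kg xg25 yg56 zg57) (kg xg24 yg35 zg56) (kg xg15 yg58 zg26) (kg xg22 yg33 zg52) (kg xg30 yg54 zg45) (kg xg29 yg18 zg0) (kg xg23 yg10 zg20) (kg xg15 yg58 zg28)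 (kg xg20 yg12 zg38) (kg xg25 yg57 zg12) (kg xg19 yg36 zg6) (kg xg31 yg55 zg32) (kg xg19 yg49 zg43) (kg xg26 yg5 zg16) (kg xg18 yg7 zg56) (kg xg31 yg36 zg1) (kg xg30 yg14 zg32) (kg xg25 yg7 zg52) (kg xg31 yg46 zg30) (kg xg31 yg49 zg8) (kg xg30 yg7 zg0) (kg xg15 yg58 zg47) (kg xg15 yg58 zg39) (kg xg19 yg39 zg17) (kg xg15 yg58 zg45) (kg xg20 yg3 zg16) (kg xg32 yg0 zg0) (kg xg25 yg4 zg57) (kg xg20 yg40 zg14) (kg xg28 yg30 zg57) (kg xg15 yg58 zg42) (kg xg28 yg48 zg26) (kg xg29 yg58 zg46) (kg xg30 yg27 zg45) (kg xg22 yg20 zg55) (kg xg30 yg56 zg16)) (@D3.rec (fun _ => Pt) (kg xg15 yg58 zg46) (kg xg23 yg7 zg57) (kg xg20 yg3 zg1) (kg xg32 yg2 zg1) (kg xg28 yg14 zg16) (kg xg29 yg25 zg25) (kg xg27 yg14 zg17) (kg xg28 yg14 zg1) (kg xg27 yg5 zg2) (kg xg28 yg56 zg38) (kg xg29 yg50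 zg58) (kg xg17 yg36 zg22) (kg xg23 yg28 zg53) (kg xg18 yg53 zg30) (kg xg28 yg14 zg61) (kg xg18 yg51 zg38) (kg xg18 yg56 zg1) (kg xg29 yg21 zg56) (kg xg18 yg19 zg44) (kg xg21 yg42 zg20) (kg xg18 yg37 zg23) (kg xg19 yg29 zg49) (kg xg25 yg52 zg37) (kg xg29 yg50 zg10) (kg xg19 yg29 zg5) (kg xg15 yg59 zg10) (kg xg32 yg1 zg50) (kg xg27 yg11 zg24) (kg xg23 yg55 zg1) (kg xg27 yg42 zg38) (kg xg23 yg55 zg7) (kg xg32 yg1 zg52) (kg xg15 yg59 zg16) (kg xg29 yg56 zg24) (kg xg25 yg36 zg8) (kg xg25 yg24 zg39) (kg xg23 yg9 zg4) (kg xg28 yg25 zg27) (kg xg20 yg50 zg33) (kg xg30 yg49 zg57) (kg xg31 yg59 zg55) (kg xg28 yg24 zg58) (kg xg15 yg59 zg21) (kg xg23 yg19 zg0) (kg xg28 yg58 zg28) (kg xg25 yg24 zg37) (kg xg32 yg2 zg17) (kg xg20 yg50 zg29) (kg xg18 yg48 zg16) (kg xg15 yg59 zg32) (kg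 xg25 yg55 zg14) (kg xg27 yg18 zg13) (kg xg16 yg6 zg56) (kg xg15 yg59 zg55) (kg xg15 yg59 zg61) (kg xg15 yg59 zg36) (kg xg26 yg0 zg5) (kg xg15 yg59 zg57) (kg xg25 yg12 zg20) (kg xg15 yg59 zg54) (kg xg15 yg59 zg46) (kg xg27 yg18 zg12)) (@D3.rec (fun _ => Pt) (kg xg15 yg59 zg52) (kg xg25 yg28 zg19) (kg xg29 yg42 zg1) (kg xg31 yg56 zg21) (kg xg15 yg59 zg49) (kg xg17 yg20 zg41) (kg xg25 yg27 zg40) (kg xg26 yg15 zg44) (kg xg21 yg58 zg53) (kg xg28 yg49 zg5) (kg xg15 yg59 zg53) (kg xg25 yg55 zg35) (kg xg15 yg59 zg56) (kg xg25 yg55 zg28) (kg xg29 yg19 zg51) (kg xg32 yg2 zg22) (kg xg25 yg55 zg23) (kg xg15 yg59 zg58) (kg xg32 yg0 zg7) (kg xg25 yg55 zg22) (kg xg32 yg2 zg26) (kg xg21 yg42 zg61) (kg xg21 yg43 zg5) (kg xg16 yg0 zg1) (kg xg30 yg6 zg53) (kg xg24 yg41 zg14) (kg xg25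 yg27 zg50) (kg xg20 yg14 zg25) (kg xg31 yg37 zg59) (kg xg23 yg1 zg45) (kg xg16 yg0 zg12) (kg xg17 yg30 zg54) (kg xg26 yg14 zg40) (kg xg16 yg0 zg16) (kg xg30 yg50 zg55) (kg xg30 yg32 zg59) (kg xg32 yg2 zg19) (kg xg28 yg38 zg13) (kg xg23 yg0 zg57) (kg xg32 yg2 zg27) (kg xg30 yg32 zg58) (kg xg21 yg17 zg32) (kg xg23 yg41 zg13) (kg xg30 yg47 zg56) (kg xg25 yg5 zg36) (kg xg21 yg17 zg26) (kg xg16 yg0 zg27) (kg xg21 yg17 zg41) (kg xg27 yg7 zg37) (kg xg29 yg57 zg6) (kg xg16 yg0 zg33) (kg xg27 yg7 zg47) (kg xg31 yg45 zg23) (kg xg23 yg28 zg28) (kg xg16 yg0 zg40) (kg xg25 yg30 zg43) (kg xg32 yg2 zg34) (kg xg25 yg27 zg7) (kg xg25 yg9 zg35) (kg xg30 yg56 zg11) (kg xg31 yg15 zg36) (kg xg18 yg49 zg13)) (@D3.rec (fun _ => Pt) (kg xg22 yg15 zg42) (kg xg16 yg0 zg43) (kg xg28 yg44 zg10)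 (kg xg28 yg17 zg7) (kg xg32 yg2 zg40) (kg xg16 yg1 zg50) (kg xg18 yg7 zg39) (kg xg16 yg0 zg51) (kg xg24 yg34 zg29) (kg xg31 yg1 zg46) (kg xg32 yg2 zg42) (kg xg25 yg28 zg6) (kg xg20 yg54 zg53) (kg xg31 yg57 zg58) (kg xg29 yg1 zg48) (kg xg16 yg2 zg8) (kg xg26 yg40 zg30) (kg xg26 yg23 zg25) (kg xg23 yg8 zg13) (kg xg16 yg1 zg3) (kg xg19 yg42 zg9) (kg xg32 yg2 zg44) (kg xg19 yg6 zg7) (kg xg16 yg0 zg58) (kg xg30 yg47 zg55) (kg xg31 yg58 zg33) (kg xg26 yg21 zg26) (kg xg23 yg10 zg39) (kg xg16 yg1 zg0) (kg xg22 yg46 zg29) (kg xg16 yg1 zg1) (kg xg22 yg55 zg7) (kg xg32 yg2 zg47) (kg xg31 yg50 zg23) (kg xg25 yg55 zg6) (kg xg16 yg1 zg10) (kg xg17 yg26 zg18) (kg xg31 yg59 zg52) (kg xg16 yg1 zg16) (kg xg17 yg36 zg55) (kg xg27 yg27 zg55) (kg xg16 yg26 zg24) (kg xg17 yg40 zg54) (kg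 xg25 yg1 zg12) (kg xg18 yg2 zg6) (kg xg29 yg17 zg41) (kg xg16 yg1 zg18) (kg xg17 yg39 zg9) (kg xg32 yg2 zg50) (kg xg16 yg1 zg32) (kg xg16 yg1 zg21) (kg xg32 yg2 zg52) (kg xg16 yg1 zg30) (kg xg17 yg36 zg37) (kg xg29 yg50 zg28) (kg xg16 yg1 zg25) (kg xg26 yg15 zg11) (kg xg32 yg1 zg29) (kg xg32 yg2 zg51) (kg xg16 yg1 zg28) (kg xg29 yg48 zg33) (kg xg30 yg40 zg40)) (@D3.rec (fun _ => Pt) (kg xg28 yg59 zg0) (kg xg26 yg16 zg51) (kg xg20 yg44 zg5) (kg xg32 yg2 zg54) (kg xg16 yg1 zg31) (kg xg23 yg32 zg12) (kg xg32 yg2 zg53) (kg xg32 yg1 zg35) (kg xg21 yg18 zg52) (kg xg16 yg1 zg48) (kg xg31 yg45 zg39) (kg xg29 yg41 zg33) (kg xg28 yg44 zg49) (kg xg31 yg58 zg58) (kg xg16 yg26 zg23) (kg xg16 yg1 zg51) (kg xg20 yg36 zg42) (kg xg26 yg13 zg58) (kg xg30 yg48 zg46) (kg xg16 yg2 zg11)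 (kg xg16 yg1 zg52) (kg xg25 yg25 zg54) (kg xg24 yg7 zg46) (kg xg24 yg6 zg22) (kg xg31 yg18 zg3) (kg xg30 yg47 zg26) (kg xg16 yg1 zg55) (kg xg19 yg9 zg40) (kg xg24 yg5 zg40) (kg xg23 yg9 zg29) (kg xg23 yg6 zg3) (kg xg16 yg1 zg57) (kg xg30 yg39 zg36) (kg xg23 yg18 zg30) (kg xg23 yg5 zg16) (kg xg16 yg1 zg58) (kg xg18 yg47 zg35) (kg xg24 yg33 zg42) (kg xg19 yg30 zg46) (kg xg30 yg51 zg9) (kg xg17 yg26 zg48) (kg xg26 yg39 zg15) (kg xg29 yg30 zg27) (kg xg30 yg39 zg12) (kg xg19 yg30 zg56) (kg xg18 yg55 zg42) (kg xg32 yg1 zg47) (kg xg31 yg33 zg49) (kg xg28 yg13 zg14) (kg xg30 yg54 zg51) (kg xg28 yg32 zg28) (kg xg30 yg6 zg60) (kg xg16 yg2 zg14) (kg xg16 yg2 zg10) (kg xg19 yg26 zg3) (kg xg25 yg32 zg17) (kg xg28 yg48 zg25) (kg xg24 yg17 zg4) (kg xg25 yg6 zg37) (kg xg32 yg2 zg43)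 (kg xg31 yg36 zg28) (kg xg25 yg6 zg38))
def f_g_26 : D2 → D3 → Pt := @D2.rec (fun _ => D3 → Pt) (@D3.rec (fun _ => Pt) (kg xg16 yg2 zg18) (kg xg25 yg34 zg44) (kg xg30 yg8 zg43) (kg xg29 yg28 zg8) (kg xg18 yg1 zg42) (kg xg20 yg55 zg31) (kg xg25 yg56 zg56) (kg xg30 yg19 zg29) (kg xg16 yg2 zg32) (kg xg31 yg24 zg25) (kg xg28 yg47 zg46) (kg xg16 yg45 zg57) (kg xg30 yg42 zg31) (kg xg25 yg40 zg23) (kg xg16 yg4 zg3) (kg xg29 yg54 zg1) (kg xg16 yg2 zg46) (kg xg19 yg5 zg45) (kg xg20 yg6 zg41) (kg xg26 yg3 zg37) (kg xg19 yg16 zg45) (kg xg16 yg6 zg36) (kg xg16 yg3 zg38) (kg xg19 yg19 zg11) (kg xg17 yg37 zg34) (kg xg16 yg2 zg57) (kg xg27 yg28 zg47) (kg xg21 yg46 zg38) (kg xg31 yg11 zg26) (kg xg25 yg40 zg4) (kg xg29 yg0 zg16) (kg xg16 yg3 zg22) (kg xg23 yg34 zg53) (kg xg16 yg3 zg16)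 (kg xg21 yg49 zg16) (kg xg30 yg20 zg10) (kg xg24 yg10 zg15) (kg xg23 yg26 zg36) (kg xg16 yg3 zg13) (kg xg31 yg56 zg14) (kg xg23 yg26 zg19) (kg xg29 yg17 zg38) (kg xg29 yg51 zg35) (kg xg29 yg51 zg34) (kg xg22 yg4 zg40) (kg xg27 yg57 zg57) (kg xg26 yg32 zg58) (kg xg21 yg28 zg28) (kg xg31 yg6 zg21) (kg xg31 yg2 zg44) (kg xg21 yg28 zg19) (kg xg16 yg10 zg34) (kg xg16 yg47 zg41) (kg xg32 yg3 zg10) (kg xg16 yg6 zg38) (kg xg29 yg52 zg12) (kg xg16 yg3 zg32) (kg xg23 yg32 zg22) (kg xg19 yg48 zg18) (kg xg17 yg44 zg59) (kg xg25 yg37 zg21) (kg xg26 yg0 zg12)) (@D3.rec (fun _ => Pt) (kg xg30 yg45 zg41) (kg xg22 yg2 zg13) (kg xg26 yg16 zg47) (kg xg25 yg29 zg47) (kg xg29 yg56 zg32) (kg xg25 yg53 zg51) (kg xg25 yg5 zg4) (kg xg25 yg39 zg35) (kg xg19 yg6 zg3) (kg xg16 yg4 zg0) (kg xg24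 yg43 zg25) (kg xg16 yg4 zg1) (kg xg27 yg56 zg52) (kg xg31 yg59 zg2) (kg xg23 yg34 zg60) (kg xg24 yg27 zg46) (kg xg16 yg4 zg5) (kg xg16 yg4 zg57) (kg xg17 yg38 zg24) (kg xg16 yg4 zg8) (kg xg30 yg42 zg22) (kg xg25 yg42 zg19) (kg xg16 yg4 zg10) (kg xg24 yg49 zg10) (kg xg20 yg19 zg22) (kg xg19 yg5 zg51) (kg xg22 yg5 zg3) (kg xg28 yg36 zg50) (kg xg16 yg4 zg15) (kg xg32 yg3 zg15) (kg xg19 yg55 zg39) (kg xg21 yg43 zg24) (kg xg25 yg42 zg58) (kg xg25 yg38 zg3) (kg xg16 yg4 zg17) (kg xg25 yg49 zg59) (kg xg16 yg16 zg38) (kg xg16 yg50 zg43) (kg xg21 yg45 zg10) (kg xg25 yg37 zg52) (kg xg20 yg54 zg51) (kg xg16 yg5 zg33) (kg xg16 yg42 zg32) (kg xg31 yg54 zg28) (kg xg25 yg39 zg44) (kg xg16 yg4 zg33) (kg xg23 yg28 zg34) (kg xg31 yg10 zg55) (kg xg16 yg41 zg34) (kg xg31 yg48 zg4) (kg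 xg21 yg50 zg2) (kg xg16 yg4 zg38) (kg xg29 yg52 zg31) (kg xg28 yg41 zg19) (kg xg29 yg0 zg51) (kg xg27 yg39 zg19) (kg xg16 yg47 zg61) (kg xg25 yg38 zg22) (kg xg24 yg29 zg19) (kg xg24 yg51 zg60) (kg xg24 yg51 zg31) (kg xg29 yg27 zg15)) (@D3.rec (fun _ => Pt) (kg xg16 yg4 zg48) (kg xg31 yg11 zg59) (kg xg24 yg3 zg46) (kg xg31 yg29 zg37) (kg xg22 yg32 zg11) (kg xg27 yg26 zg31) (kg xg25 yg39 zg26) (kg xg16 yg41 zg53) (kg xg25 yg56 zg25) (kg xg29 yg17 zg26) (kg xg24 yg44 zg29) (kg xg21 yg10 zg6) (kg xg16 yg51 zg6) (kg xg16 yg40 zg20) (kg xg25 yg54 zg21) (kg xg16 yg5 zg29) (kg xg25 yg41 zg9) (kg xg16 yg5 zg15) (kg xg16 yg6 zg15) (kg xg21 yg46 zg33) (kg xg16 yg17 zg27) (kg xg25 yg42 zg16) (kg xg16 yg5 zg20) (kg xg23 yg22 zg56) (kg xg21 yg28 zg14) (kg xg29 yg21 zg59) (kg xg16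 yg5 zg22) (kg xg24 yg10 zg16) (kg xg31 yg7 zg17) (kg xg22 yg10 zg2) (kg xg29 yg48 zg50) (kg xg17 yg4 zg4) (kg xg23 yg23 zg11) (kg xg17 yg3 zg19) (kg xg16 yg5 zg27) (kg xg31 yg7 zg32) (kg xg25 yg41 zg3) (kg xg16 yg5 zg32) (kg xg21 yg10 zg7) (kg xg21 yg46 zg32) (kg xg16 yg50 zg50) (kg xg19 yg24 zg54) (kg xg28 yg43 zg57) (kg xg19 yg47 zg7) (kg xg26 yg54 zg58) (kg xg24 yg51 zg11) (kg xg19 yg16 zg57) (kg xg16 yg5 zg49) (kg xg32 yg3 zg34) (kg xg24 yg44 zg31) (kg xg25 yg15 zg34) (kg xg18 yg6 zg58) (kg xg22 yg43 zg5) (kg xg32 yg3 zg36) (kg xg20 yg39 zg15) (kg xg22 yg39 zg2) (kg xg16 yg5 zg53) (kg xg21 yg28 zg6) (kg xg20 yg51 zg51) (kg xg28 yg37 zg8) (kg xg28 yg59 zg48) (kg xg25 yg42 zg9)) (@D3.rec (fun _ => Pt) (kg xg19 yg25 zg50) (kg xg24 yg45 zg22) (kg xg25 yg40 zg50) (kg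 xg22 yg31 zg36) (kg xg16 yg6 zg24) (kg xg16 yg6 zg17) (kg xg25 yg54 zg1) (kg xg16 yg6 zg27) (kg xg18 yg3 zg5) (kg xg25 yg42 zg27) (kg xg29 yg52 zg39) (kg xg25 yg41 zg18) (kg xg25 yg41 zg1) (kg xg21 yg28 zg16) (kg xg29 yg35 zg2) (kg xg24 yg51 zg33) (kg xg16 yg6 zg21) (kg xg24 yg51 zg36) (kg xg31 yg41 zg27) (kg xg24 yg51 zg27) (kg xg24 yg51 zg25) (kg xg31 yg36 zg22) (kg xg31 yg30 zg3) (kg xg19 yg47 zg38) (kg xg30 yg42 zg26) (kg xg16 yg6 zg25) (kg xg32 yg3 zg41) (kg xg30 yg17 zg44) (kg xg22 yg10 zg11) (kg xg28 yg42 zg40) (kg xg30 yg17 zg47) (kg xg32 yg3 zg11) (kg xg23 yg44 zg44) (kg xg21 yg10 zg15) (kg xg27 yg27 zg27) (kg xg19 yg58 zg55) (kg xg23 yg32 zg5) (kg xg26 yg0 zg17) (kg xg21 yg28 zg8) (kg xg20 yg16 zg59) (kg xg25 yg43 zg5) (kg xg32 yg3 zg44) (kg xg23 yg5 zg7)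 (kg xg25 yg6 zg59) (kg xg27 yg15 zg14) (kg xg25 yg21 zg27) (kg xg25 yg30 zg4) (kg xg30 yg3 zg44) (kg xg16 yg7 zg2) (kg xg22 yg40 zg44) (kg xg29 yg25 zg32) (kg xg21 yg6 zg33) (kg xg25 yg37 zg6) (kg xg30 yg1 zg61) (kg xg25 yg39 zg0) (kg xg16 yg7 zg14) (kg xg20 yg2 zg4) (kg xg21 yg20 zg13) (kg xg19 yg57 zg37) (kg xg30 yg0 zg49) (kg xg18 yg14 zg43) (kg xg21 yg7 zg47)) (@D3.rec (fun _ => Pt) (kg xg20 yg36 zg14) (kg xg21 yg46 zg18) (kg xg20 yg5 zg44) (kg xg29 yg13 zg60) (kg xg16 yg9 zg28) (kg xg26 yg49 zg28) (kg xg31 yg14 zg32) (kg xg20 yg27 zg39) (kg xg26 yg11 zg20) (kg xg16 yg7 zg48) (kg xg16 yg7 zg40) (kg xg21 yg17 zg47) (kg xg16 yg7 zg43) (kg xg17 yg19 zg55) (kg xg20 yg49 zg8) (kg xg21 yg36 zg18) (kg xg20 yg13 zg4) (kg xg18 yg37 zg21) (kg xg29 yg22 zg35) (kg xg30 yg24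 zg43) (kg xg17 yg52 zg55) (kg xg18 yg14 zg37) (kg xg16 yg7 zg53) (kg xg27 yg50 zg3) (kg xg27 yg51 zg20) (kg xg16 yg7 zg57) (kg xg27 yg51 zg58) (kg xg27 yg32 zg56) (kg xg27 yg49 zg18) (kg xg21 yg7 zg43) (kg xg32 yg3 zg53) (kg xg17 yg46 zg25) (kg xg27 yg27 zg50) (kg xg16 yg8 zg3) (kg xg27 yg28 zg32) (kg xg27 yg25 zg37) (kg xg16 yg15 zg54) (kg xg16 yg8 zg4) (kg xg27 yg47 zg45) (kg xg17 yg38 zg12) (kg xg29 yg59 zg21) (kg xg16 yg8 zg14) (kg xg16 yg8 zg11) (kg xg26 yg34 zg44) (kg xg25 yg12 zg35) (kg xg32 yg4 zg1) (kg xg21 yg48 zg15) (kg xg29 yg4 zg58) (kg xg25 yg8 zg56) (kg xg20 yg2 zg47) (kg xg21 yg57 zg56) (kg xg29 yg3 zg54) (kg xg32 yg4 zg5) (kg xg16 yg8 zg15) (kg xg20 yg2 zg37) (kg xg16 yg8 zg20) (kg xg16 yg8 zg18) (kg xg24 yg35 zg37) (kg xg32 yg4 zg8) (kg xg22 yg2 zg24)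 (kg xg16 yg45 zg43) (kg xg32 yg3 zg60)) (@D3.rec (fun _ => Pt) (kg xg29 yg4 zg55) (kg xg19 yg24 zg37) (kg xg16 yg8 zg19) (kg xg29 yg44 zg55) (kg xg19 yg36 zg49) (kg xg31 yg49 zg54) (kg xg16 yg43 zg18) (kg xg24 yg3 zg13) (kg xg26 yg2 zg40) (kg xg25 yg32 zg48) (kg xg25 yg9 zg48) (kg xg16 yg8 zg27) (kg xg21 yg37 zg31) (kg xg26 yg14 zg19) (kg xg21 yg22 zg1) (kg xg17 yg36 zg49) (kg xg16 yg19 zg7) (kg xg25 yg45 zg58) (kg xg16 yg15 zg21) (kg xg25 yg16 zg53) (kg xg16 yg8 zg34) (kg xg29 yg54 zg35) (kg xg27 yg27 zg34) (kg xg19 yg59 zg39) (kg xg16 yg52 zg60) (kg xg16 yg14 zg60) (kg xg17 yg50 zg37) (kg xg21 yg59 zg49) (kg xg21 yg59 zg48) (kg xg16 yg55 zg8) (kg xg16 yg42 zg22) (kg xg28 yg15 zg61) (kg xg27 yg29 zg21) (kg xg16 yg9 zg21) (kg xg30 yg18 zg17) (kg xg16 yg9 zg19) (kg xg27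 yg6 zg1) (kg xg25 yg45 zg35) (kg xg16 yg9 zg27) (kg xg24 yg51 zg53) (kg xg20 yg37 zg39) (kg xg25 yg44 zg54) (kg xg16 yg8 zg53) (kg xg25 yg44 zg52) (kg xg25 yg34 zg60) (kg xg22 yg9 zg25) (kg xg17 yg29 zg41) (kg xg16 yg9 zg0) (kg xg17 yg42 zg11) (kg xg27 yg37 zg54) (kg xg25 yg44 zg45) (kg xg24 yg44 zg59) (kg xg26 yg11 zg18) (kg xg16 yg9 zg9) (kg xg25 yg44 zg28) (kg xg27 yg19 zg53) (kg xg21 yg36 zg13) (kg xg29 yg22 zg46) (kg xg27 yg12 zg46) (kg xg25 yg42 zg32) (kg xg16 yg9 zg20) (kg xg22 yg56 zg59)) (@D3.rec (fun _ => Pt) (kg xg22 yg3 zg48) (kg xg27 yg13 zg47) (kg xg26 yg50 zg1) (kg xg21 yg1 zg35) (kg xg25 yg31 zg13) (kg xg26 yg47 zg2) (kg xg27 yg5 zg59) (kg xg16 yg9 zg26) (kg xg31 yg50 zg49) (kg xg22 yg40 zg22) (kg xg31 yg40 zg29) (kg xg25 yg20 zg60) (kg xg26 yg59 zg0)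 (kg xg31 yg39 zg36) (kg xg25 yg21 zg0) (kg xg31 yg56 zg57) (kg xg25 yg21 zg6) (kg xg25 yg21 zg7) (kg xg31 yg51 zg53) (kg xg32 yg4 zg24) (kg xg29 yg11 zg25) (kg xg16 yg9 zg38) (kg xg31 yg40 zg2) (kg xg17 yg53 zg60) (kg xg17 yg38 zg51) (kg xg24 yg32 zg39) (kg xg16 yg14 zg61) (kg xg25 yg23 zg13) (kg xg31 yg56 zg37) (kg xg24 yg37 zg45) (kg xg21 yg29 zg20) (kg xg17 yg53 zg9) (kg xg20 yg24 zg13) (kg xg19 yg23 zg35) (kg xg24 yg10 zg43) (kg xg19 yg54 zg50) (kg xg16 yg13 zg9) (kg xg19 yg54 zg48) (kg xg17 yg43 zg24) (kg xg26 yg47 zg35) (kg xg26 yg8 zg19) (kg xg19 yg54 zg43) (kg xg17 yg39 zg56) (kg xg16 yg10 zg7) (kg xg19 yg54 zg41) (kg xg26 yg8 zg12) (kg xg31 yg28 zg59) (kg xg19 yg55 zg45) (kg xg18 yg23 zg0) (kg xg25 yg23 zg20) (kg xg27 yg57 zg8) (kg xg24 yg38 zg18) (kg xg25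 yg24 zg33) (kg xg23 yg10 zg8) (kg xg29 yg48 zg40) (kg xg17 yg32 zg50) (kg xg16 yg10 zg10) (kg xg31 yg6 zg18) (kg xg19 yg55 zg13) (kg xg27 yg56 zg57) (kg xg23 yg8 zg36) (kg xg29 yg9 zg58)) (@D3.rec (fun _ => Pt) (kg xg32 yg4 zg34) (kg xg25 yg50 zg6) (kg xg23 yg44 zg48) (kg xg19 yg56 zg29) (kg xg28 yg11 zg38) (kg xg31 yg2 zg55) (kg xg24 yg38 zg12) (kg xg28 yg11 zg44) (kg xg16 yg13 zg1) (kg xg16 yg10 zg14) (kg xg19 yg56 zg24) (kg xg30 yg20 zg35) (kg xg28 yg11 zg47) (kg xg28 yg11 zg37) (kg xg28 yg43 zg55) (kg xg31 yg2 zg38) (kg xg24 yg37 zg56) (kg xg25 yg49 zg41) (kg xg28 yg11 zg26) (kg xg23 yg19 zg39) (kg xg16 yg11 zg18) (kg xg26 yg31 zg19) (kg xg22 yg28 zg21) (kg xg16 yg10 zg29) (kg xg29 yg6 zg26) (kg xg28 yg17 zg40) (kg xg29 yg51 zg38) (kg xg16 yg10 zg44) (kg xg28 yg18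 zg15) (kg xg16 yg10 zg38) (kg xg25 yg46 zg35) (kg xg16 yg10 zg40) (kg xg26 yg8 zg61) (kg xg16 yg10 zg41) (kg xg26 yg8 zg26) (kg xg27 yg44 zg54) (kg xg29 yg6 zg25) (kg xg32 yg4 zg44) (kg xg16 yg10 zg46) (kg xg25 yg2 zg45) (kg xg16 yg10 zg48) (kg xg23 yg52 zg30) (kg xg23 yg21 zg24) (kg xg28 yg12 zg24) (kg xg28 yg12 zg26) (kg xg23 yg46 zg60) (kg xg23 yg44 zg9) (kg xg16 yg10 zg61) (kg xg26 yg9 zg5) (kg xg23 yg21 zg26) (kg xg17 yg45 zg14) (kg xg19 yg14 zg18) (kg xg26 yg41 zg12) (kg xg29 yg45 zg47) (kg xg22 yg3 zg54) (kg xg25 yg8 zg12) (kg xg16 yg11 zg12) (kg xg26 yg35 zg54) (kg xg29 yg44 zg57) (kg xg16 yg11 zg13) (kg xg29 yg44 zg56) (kg xg31 yg35 zg7)) (@D3.rec (fun _ => Pt) (kg xg24 yg23 zg38) (kg xg28 yg11 zg24) (kg xg32 yg4 zg47) (kg xg21 yg2 zg29) (kg xg32 yg4 zg49)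 (kg xg24 yg34 zg52) (kg xg16 yg11 zg24) (kg xg26 yg47 zg61) (kg xg19 yg54 zg46) (kg xg26 yg47 zg7) (kg xg18 yg18 zg19) (kg xg26 yg6 zg40) (kg xg31 yg35 zg15) (kg xg24 yg22 zg24) (kg xg26 yg6 zg45) (kg xg16 yg11 zg34) (kg xg28 yg0 zg37) (kg xg31 yg34 zg8) (kg xg32 yg4 zg54) (kg xg31 yg53 zg10) (kg xg22 yg4 zg28) (kg xg24 yg33 zg25) (kg xg23 yg25 zg60) (kg xg23 yg37 zg43) (kg xg32 yg4 zg57) (kg xg26 yg7 zg34) (kg xg16 yg11 zg39) (kg xg18 yg3 zg14) (kg xg16 yg11 zg40) (kg xg26 yg8 zg31) (kg xg16 yg11 zg41) (kg xg26 yg8 zg30) (kg xg31 yg2 zg42) (kg xg27 yg47 zg56) (kg xg31 yg6 zg25) (kg xg18 yg40 zg25) (kg xg16 yg11 zg46) (kg xg23 yg16 zg32) (kg xg27 yg5 zg24) (kg xg26 yg25 zg18) (kg xg23 yg16 zg19) (kg xg28 yg12 zg9) (kg xg26 yg7 zg26) (kg xg32 yg5 zg0) (kg xg23 yg19 zg58)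 (kg xg23 yg3 zg11) (kg xg29 yg22 zg1) (kg xg23 yg37 zg12) (kg xg27 yg57 zg12) (kg xg30 yg46 zg13) (kg xg23 yg45 zg9) (kg xg25 yg16 zg23) (kg xg28 yg0 zg54) (kg xg16 yg12 zg1) (kg xg25 yg39 zg37) (kg xg23 yg20 zg11) (kg xg30 yg14 zg5) (kg xg26 yg24 zg58) (kg xg23 yg10 zg29) (kg xg31 yg38 zg39) (kg xg21 yg29 zg26) (kg xg21 yg29 zg8)) (@D3.rec (fun _ => Pt) (kg xg26 yg7 zg48) (kg xg27 yg57 zg11) (kg xg23 yg44 zg51) (kg xg23 yg45 zg7) (kg xg27 yg57 zg16) (kg xg16 yg12 zg20) (kg xg23 yg10 zg5) (kg xg23 yg10 zg10) (kg xg25 yg12 zg0) (kg xg19 yg55 zg51) (kg xg19 yg5 zg56) (kg xg21 yg36 zg61) (kg xg28 yg28 zg52) (kg xg21 yg0 zg49) (kg xg18 yg22 zg56) (kg xg26 yg6 zg34) (kg xg23 yg42 zg41) (kg xg24 yg37 zg28) (kg xg16 yg12 zg39) (kg xg16 yg26 zg12) (kg xg29 yg23 zg8) (kg xg28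 yg48 zg40) (kg xg16 yg12 zg40) (kg xg30 yg59 zg34) (kg xg30 yg58 zg40) (kg xg23 yg21 zg20) (kg xg31 yg9 zg3) (kg xg21 yg1 zg10) (kg xg30 yg59 zg31) (kg xg30 yg57 zg59) (kg xg31 yg8 zg7) (kg xg32 yg5 zg12) (kg xg26 yg7 zg25) (kg xg24 yg23 zg40) (kg xg30 yg58 zg19) (kg xg30 yg58 zg48) (kg xg30 yg57 zg60) (kg xg16 yg12 zg44) (kg xg26 yg8 zg47) (kg xg30 yg42 zg45) (kg xg30 yg42 zg44) (kg xg27 yg39 zg8) (kg xg31 yg6 zg26) (kg xg19 yg53 zg54) (kg xg16 yg12 zg49) (kg xg29 yg9 zg37) (kg xg32 yg5 zg17) (kg xg29 yg2 zg50) (kg xg16 yg12 zg56) (kg xg19 yg55 zg31) (kg xg29 yg43 zg38) (kg xg20 yg5 zg25) (kg xg23 yg24 zg49) (kg xg18 yg18 zg4) (kg xg25 yg23 zg12) (kg xg16 yg13 zg6) (kg xg23 yg32 zg20) (kg xg24 yg33 zg45) (kg xg16 yg13 zg11) (kg xg31 yg29 zg35) (kg xg16 yg13 zg12) (kg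 xg32 yg3 zg42)) (@D3.rec (fun _ => Pt) (kg xg23 yg21 zg44) (kg xg28 yg0 zg30) (kg xg24 yg3 zg47) (kg xg29 yg11 zg15) (kg xg32 yg4 zg31) (kg xg31 yg6 zg19) (kg xg20 yg32 zg47) (kg xg29 yg6 zg21) (kg xg18 yg58 zg52) (kg xg16 yg13 zg16) (kg xg19 yg9 zg18) (kg xg26 yg46 zg2) (kg xg16 yg13 zg17) (kg xg28 yg49 zg33) (kg xg16 yg13 zg18) (kg xg27 yg58 zg14) (kg xg31 yg5 zg60) (kg xg17 yg53 zg0) (kg xg16 yg13 zg22) (kg xg29 yg9 zg43) (kg xg19 yg54 zg24) (kg xg22 yg5 zg51) (kg xg20 yg27 zg57) (kg xg25 yg25 zg31) (kg xg16 yg13 zg29) (kg xg20 yg15 zg61) (kg xg21 yg42 zg49) (kg xg24 yg41 zg30) (kg xg27 yg23 zg23) (kg xg16 yg16 zg42) (kg xg17 yg40 zg1) (kg xg19 yg13 zg57) (kg xg25 yg16 zg37) (kg xg16 yg13 zg40) (kg xg20 yg47 zg14) (kg xg29 yg12 zg56) (kg xg16 yg13 zg41) (kg xg26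 yg37 zg24) (kg xg26 yg10 zg32) (kg xg16 yg14 zg2) (kg xg17 yg55 zg51) (kg xg26 yg44 zg43) (kg xg17 yg44 zg61) (kg xg18 yg33 zg47) (kg xg17 yg4 zg47) (kg xg17 yg39 zg60) (kg xg25 yg45 zg5) (kg xg16 yg14 zg3) (kg xg16 yg16 zg4) (kg xg30 yg7 zg38) (kg xg21 yg49 zg48) (kg xg24 yg54 zg51) (kg xg24 yg18 zg5) (kg xg20 yg42 zg19) (kg xg27 yg29 zg40) (kg xg31 yg58 zg51) (kg xg17 yg40 zg2) (kg xg17 yg39 zg44) (kg xg23 yg12 zg55) (kg xg27 yg3 zg55) (kg xg26 yg13 zg7) (kg xg27 yg4 zg47)) (@D3.rec (fun _ => Pt) (kg xg16 yg14 zg5) (kg xg27 yg29 zg43) (kg xg27 yg3 zg41) (kg xg31 yg34 zg52) (kg xg20 yg3 zg28) (kg xg31 yg34 zg20) (kg xg32 yg5 zg28) (kg xg29 yg49 zg11) (kg xg31 yg20 zg23) (kg xg25 yg24 zg9) (kg xg16 yg14 zg10) (kg xg16 yg36 zg55) (kg xg16 yg14 zg11) (kg xg16 yg36 zg57)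 (kg xg26 yg7 zg54) (kg xg22 yg5 zg48) (kg xg17 yg59 zg17) (kg xg22 yg11 zg51) (kg xg21 yg28 zg17) (kg xg16 yg15 zg40) (kg xg26 yg4 zg6) (kg xg25 yg45 zg26) (kg xg17 yg40 zg3) (kg xg17 yg41 zg8) (kg xg16 yg14 zg21) (kg xg27 yg25 zg22) (kg xg32 yg1 zg19) (kg xg20 yg16 zg61) (kg xg22 yg11 zg26) (kg xg17 yg40 zg51) (kg xg16 yg14 zg23) (kg xg17 yg41 zg16) (kg xg22 yg10 zg35) (kg xg16 yg18 zg55) (kg xg17 yg40 zg6) (kg xg17 yg40 zg4) (kg xg16 yg14 zg29) (kg xg32 yg5 zg34) (kg xg27 yg3 zg61) (kg xg16 yg14 zg42) (kg xg17 yg37 zg42) (kg xg16 yg14 zg38) (kg xg30 yg58 zg1) (kg xg27 yg25 zg4) (kg xg25 yg29 zg42) (kg xg32 yg5 zg37) (kg xg25 yg0 zg24) (kg xg21 yg4 zg35) (kg xg16 yg14 zg45) (kg xg16 yg14 zg40) (kg xg32 yg5 zg43) (kg xg28 yg44 zg3) (kg xg32 yg5 zg48) (kg xg27 yg26 zg22)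 (kg xg27 yg29 zg53) (kg xg32 yg5 zg49) (kg xg32 yg5 zg35) (kg xg16 yg14 zg43) (kg xg24 yg31 zg37) (kg xg31 yg32 zg49) (kg xg32 yg5 zg53) (kg xg32 yg5 zg47)) (@D3.rec (fun _ => Pt) (kg xg16 yg14 zg44) (kg xg27 yg28 zg27) (kg xg28 yg41 zg38) (kg xg16 yg17 zg49) (kg xg28 yg28 zg35) (kg xg27 yg26 zg19) (kg xg16 yg14 zg47) (kg xg32 yg5 zg59) (kg xg17 yg41 zg29) (kg xg27 yg28 zg23) (kg xg18 yg27 zg29) (kg xg27 yg26 zg17) (kg xg27 yg26 zg46) (kg xg27 yg28 zg50) (kg xg27 yg31 zg32) (kg xg23 yg22 zg17) (kg xg16 yg15 zg60) (kg xg27 yg24 zg53) (kg xg16 yg14 zg54) (kg xg27 yg20 zg42) (kg xg25 yg29 zg41) (kg xg23 yg30 zg33) (kg xg17 yg37 zg50) (kg xg16 yg15 zg53) (kg xg31 yg14 zg48) (kg xg16 yg14 zg59) (kg xg19 yg59 zg45) (kg xg16 yg15 zg0) (kg xg31 yg1 zg32) (kg xg27 yg39 zg47)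 (kg xg26 yg14 zg28) (kg xg16 yg15 zg5) (kg xg25 yg39 zg42) (kg xg28 yg49 zg46) (kg xg17 yg13 zg41) (kg xg21 yg59 zg13) (kg xg25 yg38 zg19) (kg xg18 yg7 zg25) (kg xg16 yg15 zg7) (kg xg25 yg15 zg56) (kg xg16 yg15 zg13) (kg xg24 yg55 zg7) (kg xg19 yg50 zg44) (kg xg18 yg7 zg16) (kg xg19 yg22 zg53) (kg xg18 yg7 zg23) (kg xg18 yg7 zg18) (kg xg29 yg51 zg31) (kg xg32 yg6 zg1) (kg xg16 yg15 zg14) (kg xg31 yg7 zg0) (kg xg22 yg35 zg9) (kg xg18 yg7 zg10) (kg xg25 yg3 zg36) (kg xg22 yg8 zg49) (kg xg31 yg1 zg18) (kg xg18 yg30 zg28) (kg xg17 yg41 zg42) (kg xg19 yg59 zg54) (kg xg21 yg32 zg59) (kg xg16 yg15 zg31) (kg xg17 yg44 zg20)) (@D3.rec (fun _ => Pt) (kg xg22 yg11 zg28) (kg xg16 yg15 zg36) (kg xg21 yg32 zg60) (kg xg18 yg19 zg43) (kg xg23 yg22 zg21) (kg xg23 yg22 zg8) (kg xg25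 yg15 zg42) (kg xg26 yg10 zg49) (kg xg26 yg15 zg52) (kg xg28 yg26 zg51) (kg xg24 yg55 zg22) (kg xg22 yg50 zg29) (kg xg16 yg15 zg48) (kg xg26 yg15 zg47) (kg xg16 yg15 zg46) (kg xg24 yg56 zg23) (kg xg26 yg20 zg10) (kg xg24 yg55 zg36) (kg xg23 yg51 zg50) (kg xg29 yg20 zg10) (kg xg16 yg23 zg9) (kg xg16 yg15 zg43) (kg xg29 yg38 zg34) (kg xg30 yg46 zg0) (kg xg22 yg29 zg12) (kg xg25 yg1 zg4) (kg xg27 yg56 zg18) (kg xg27 yg31 zg52) (kg xg16 yg23 zg20) (kg xg24 yg56 zg22) (kg xg31 yg39 zg0) (kg xg27 yg31 zg26) (kg xg16 yg15 zg51) (kg xg31 yg14 zg54) (kg xg24 yg57 zg41) (kg xg26 yg18 zg19) (kg xg22 yg34 zg37) (kg xg27 yg47 zg54) (kg xg25 yg3 zg24) (kg xg17 yg54 zg17) (kg xg31 yg38 zg18) (kg xg16 yg15 zg58) (kg xg24 yg57 zg19) (kg xg25 yg6 zg44) (kg xg27 yg39 zg48) (kg xg18 yg30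 zg12) (kg xg16 yg16 zg3) (kg xg32 yg3 zg57) (kg xg22 yg8 zg43) (kg xg19 yg38 zg20) (kg xg27 yg29 zg13) (kg xg32 yg3 zg56) (kg xg31 yg48 zg17) (kg xg24 yg54 zg59) (kg xg25 yg42 zg22) (kg xg25 yg59 zg17) (kg xg25 yg23 zg6) (kg xg24 yg45 zg14) (kg xg25 yg43 zg56) (kg xg27 yg50 zg29) (kg xg16 yg16 zg16) (kg xg16 yg16 zg10)) (@D3.rec (fun _ => Pt) (kg xg17 yg39 zg7) (kg xg16 yg16 zg14) (kg xg24 yg59 zg2) (kg xg16 yg16 zg12) (kg xg31 yg50 zg19) (kg xg17 yg21 zg42) (kg xg17 yg40 zg22) (kg xg17 yg21 zg44) (kg xg16 yg16 zg15) (kg xg25 yg56 zg61) (kg xg17 yg39 zg14) (kg xg18 yg26 zg32) (kg xg31 yg42 zg61) (kg xg29 yg38 zg46) (kg xg23 yg49 zg54) (kg xg30 yg58 zg49) (kg xg18 yg7 zg5) (kg xg16 yg16 zg23) (kg xg16 yg16 zg21) (kg xg26 yg5 zg12) (kg xg18 yg8 zg18) (kg xg21 yg58 zg36)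 (kg xg32 yg2 zg55) (kg xg16 yg16 zg26) (kg xg17 yg45 zg22) (kg xg27 yg45 zg53) (kg xg27 yg30 zg42) (kg xg18 yg30 zg9) (kg xg24 yg43 zg11) (kg xg19 yg14 zg52) (kg xg25 yg9 zg11) (kg xg26 yg13 zg8) (kg xg18 yg5 zg31) (kg xg29 yg58 zg52) (kg xg17 yg43 zg29) (kg xg19 yg14 zg54) (kg xg19 yg55 zg50) (kg xg27 yg48 zg36) (kg xg25 yg39 zg18) (kg xg25 yg57 zg32) (kg xg16 yg16 zg39) (kg xg16 yg16 zg44) (kg xg21 yg18 zg46) (kg xg16 yg16 zg45) (kg xg25 yg43 zg9) (kg xg31 yg44 zg41) (kg xg27 yg58 zg27) (kg xg29 yg14 zg31) (kg xg26 yg33 zg0) (kg xg27 yg50 zg28) (kg xg21 yg26 zg22) (kg xg32 yg5 zg27) (kg xg21 yg26 zg17) (kg xg21 yg25 zg26) (kg xg30 yg59 zg54) (kg xg17 yg41 zg27) (kg xg27 yg30 zg56) (kg xg16 yg16 zg55) (kg xg27 yg1 zg20) (kg xg28 yg27 zg43) (kg xg17 yg38 zg21) (kg xg18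 yg8 zg30)) (@D3.rec (fun _ => Pt) (kg xg18 yg6 zg60) (kg xg24 yg44 zg28) (kg xg31 yg38 zg27) (kg xg30 yg27 zg46) (kg xg17 yg50 zg21) (kg xg16 yg18 zg37) (kg xg31 yg38 zg21) (kg xg27 yg25 zg7) (kg xg18 yg10 zg48) (kg xg16 yg17 zg15) (kg xg27 yg10 zg22) (kg xg23 yg22 zg36) (kg xg21 yg36 zg4) (kg xg30 yg4 zg2) (kg xg16 yg20 zg13) (kg xg27 yg45 zg1) (kg xg16 yg17 zg61) (kg xg31 yg38 zg26) (kg xg16 yg22 zg53) (kg xg31 yg42 zg22) (kg xg31 yg38 zg29) (kg xg17 yg43 zg3) (kg xg32 yg6 zg24) (kg xg16 yg22 zg57) (kg xg16 yg17 zg31) (kg xg30 yg4 zg28) (kg xg20 yg11 zg7) (kg xg16 yg19 zg57) (kg xg16 yg17 zg38) (kg xg32 yg6 zg31) (kg xg25 yg10 zg59) (kg xg32 yg6 zg33) (kg xg27 yg46 zg37) (kg xg17 yg42 zg61) (kg xg31 yg44 zg43) (kg xg27 yg48 zg41) (kg xg20 yg11 zg8) (kg xg16 yg17 zg41)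 (kg xg32 yg6 zg35) (kg xg25 yg2 zg58) (kg xg16 yg17 zg42) (kg xg21 yg25 zg28) (kg xg31 yg8 zg10) (kg xg27 yg46 zg14) (kg xg25 yg57 zg5) (kg xg16 yg17 zg51) (kg xg25 yg15 zg50) (kg xg26 yg13 zg27) (kg xg17 yg29 zg45) (kg xg21 yg48 zg34) (kg xg24 yg18 zg19) (kg xg18 yg26 zg61) (kg xg29 yg51 zg54) (kg xg19 yg22 zg24) (kg xg19 yg15 zg34) (kg xg16 yg18 zg10) (kg xg32 yg6 zg38) (kg xg23 yg44 zg37) (kg xg23 yg49 zg58) (kg xg16 yg18 zg22) (kg xg16 yg18 zg13) (kg xg16 yg18 zg21)) (@D3.rec (fun _ => Pt) (kg xg19 yg5 zg20) (kg xg28 yg45 zg58) (kg xg24 yg3 zg15) (kg xg27 yg37 zg15) (kg xg22 yg34 zg34) (kg xg22 yg15 zg13) (kg xg24 yg29 zg32) (kg xg27 yg45 zg60) (kg xg16 yg18 zg25) (kg xg27 yg39 zg33) (kg xg18 yg16 zg59) (kg xg27 yg39 zg29) (kg xg16 yg18 zg27) (kg xg22 yg36 zg16)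 (kg xg18 yg16 zg57) (kg xg18 yg16 zg40) (kg xg27 yg39 zg57) (kg xg27 yg39 zg58) (kg xg16 yg18 zg31) (kg xg26 yg32 zg3) (kg xg17 yg47 zg25) (kg xg18 yg8 zg39) (kg xg16 yg18 zg35) (kg xg32 yg6 zg46) (kg xg27 yg39 zg40) (kg xg27 yg20 zg28) (kg xg28 yg10 zg29) (kg xg17 yg48 zg45) (kg xg31 yg57 zg54) (kg xg16 yg18 zg38) (kg xg31 yg43 zg9) (kg xg16 yg18 zg40) (kg xg32 yg6 zg43) (kg xg17 yg39 zg51) (kg xg24 yg28 zg26) (kg xg22 yg2 zg57) (kg xg16 yg18 zg47) (kg xg16 yg18 zg44) (kg xg27 yg39 zg43) (kg xg17 yg38 zg52) (kg xg23 yg50 zg45) (kg xg26 yg16 zg43) (kg xg16 yg18 zg51) (kg xg26 yg16 zg42) (kg xg18 yg16 zg28) (kg xg27 yg31 zg51) (kg xg26 yg12 zg60) (kg xg30 yg8 zg42) (kg xg27 yg17 zg51) (kg xg31 yg55 zg10) (kg xg16 yg19 zg0) (kg xg25 yg58 zg61) (kg xg25 yg30 zg35) (kg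 xg27 yg48 zg16) (kg xg16 yg19 zg4) (kg xg25 yg29 zg20) (kg xg27 yg10 zg60) (kg xg27 yg39 zg28) (kg xg30 yg11 zg8) (kg xg21 yg58 zg21) (kg xg25 yg55 zg39) (kg xg27 yg25 zg35)) (@D3.rec (fun _ => Pt) (kg xg18 yg8 zg31) (kg xg28 yg2 zg0) (kg xg27 yg26 zg44) (kg xg16 yg19 zg10) (kg xg26 yg6 zg23) (kg xg16 yg19 zg11) (kg xg31 yg48 zg20) (kg xg16 yg19 zg13) (kg xg31 yg7 zg44) (kg xg16 yg19 zg14) (kg xg26 yg20 zg44) (kg xg24 yg46 zg2) (kg xg19 yg17 zg45) (kg xg16 yg35 zg8) (kg xg24 yg47 zg45) (kg xg26 yg18 zg28) (kg xg24 yg45 zg61) (kg xg24 yg57 zg30) (kg xg32 yg6 zg56) (kg xg17 yg47 zg50) (kg xg20 yg36 zg32) (kg xg16 yg29 zg16) (kg xg25 yg48 zg11) (kg xg26 yg19 zg47) (kg xg29 yg20 zg9) (kg xg20 yg10 zg49) (kg xg28 yg24 zg22) (kg xg20 yg10 zg48) (kg xg28 yg46 zg58) (kg xg26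 yg19 zg46) (kg xg28 yg9 zg34) (kg xg16 yg52 zg17) (kg xg32 yg6 zg60) (kg xg29 yg18 zg32) (kg xg16 yg20 zg41) (kg xg16 yg19 zg36) (kg xg27 yg33 zg25) (kg xg20 yg0 zg4) (kg xg28 yg0 zg9) (kg xg27 yg9 zg36) (kg xg22 yg55 zg54) (kg xg29 yg31 zg16) (kg xg26 yg15 zg23) (kg xg16 yg19 zg47) (kg xg16 yg19 zg43) (kg xg21 yg12 zg50) (kg xg28 yg24 zg29) (kg xg18 yg49 zg39) (kg xg21 yg37 zg8) (kg xg30 yg19 zg49) (kg xg25 yg14 zg37) (kg xg24 yg54 zg9) (kg xg31 yg43 zg7) (kg xg26 yg20 zg37) (kg xg19 yg45 zg44) (kg xg31 yg38 zg42) (kg xg32 yg7 zg10) (kg xg25 yg49 zg26) (kg xg27 yg13 zg24) (kg xg16 yg19 zg53) (kg xg26 yg24 zg41) (kg xg22 yg43 zg41)) (@D3.rec (fun _ => Pt) (kg xg25 yg40 zg9) (kg xg16 yg20 zg0) (kg xg31 yg42 zg43) (kg xg27 yg48 zg54) (kg xg32 yg6 zg9) (kg xg18 yg5 zg21)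 (kg xg16 yg20 zg3) (kg xg24 yg40 zg58) (kg xg20 yg3 zg61) (kg xg16 yg20 zg6) (kg xg30 yg3 zg25) (kg xg21 yg49 zg7) (kg xg23 yg37 zg61) (kg xg26 yg14 zg14) (kg xg27 yg39 zg51) (kg xg16 yg20 zg11) (kg xg25 yg48 zg53) (kg xg26 yg13 zg39) (kg xg18 yg30 zg22) (kg xg26 yg12 zg23) (kg xg18 yg6 zg54) (kg xg16 yg20 zg15) (kg xg28 yg0 zg7) (kg xg23 yg6 zg19) (kg xg17 yg51 zg46) (kg xg27 yg50 zg15) (kg xg17 yg44 zg46) (kg xg23 yg32 zg35) (kg xg21 yg54 zg38) (kg xg28 yg15 zg55) (kg xg16 yg20 zg37) (kg xg18 yg41 zg30) (kg xg27 yg49 zg49) (kg xg23 yg50 zg55) (kg xg16 yg20 zg39) (kg xg20 yg10 zg56) (kg xg27 yg37 zg60) (kg xg31 yg43 zg36) (kg xg25 yg2 zg48) (kg xg24 yg55 zg60) (kg xg26 yg21 zg37) (kg xg16 yg20 zg43) (kg xg26 yg21 zg36) (kg xg16 yg20 zg56) (kg xg24 yg54 zg34) (kg xg17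 yg43 zg2) (kg xg23 yg32 zg34) (kg xg28 yg8 zg28) (kg xg25 yg0 zg10) (kg xg18 yg31 zg20) (kg xg19 yg0 zg58) (kg xg31 yg42 zg42) (kg xg27 yg25 zg23) (kg xg31 yg38 zg46) (kg xg24 yg56 zg40) (kg xg26 yg17 zg16) (kg xg26 yg19 zg27) (kg xg28 yg26 zg8) (kg xg29 yg18 zg35) (kg xg24 yg53 zg57) (kg xg16 yg20 zg59) (kg xg24 yg53 zg59)) (@D3.rec (fun _ => Pt) (kg xg16 yg20 zg61) (kg xg20 yg7 zg8) (kg xg31 yg42 zg51) (kg xg17 yg46 zg38) (kg xg16 yg21 zg1) (kg xg30 yg35 zg16) (kg xg27 yg25 zg55) (kg xg20 yg45 zg45) (kg xg16 yg21 zg11) (kg xg16 yg21 zg8) (kg xg22 yg47 zg20) (kg xg23 yg13 zg50) (kg xg17 yg44 zg17) (kg xg27 yg48 zg34) (kg xg28 yg13 zg0) (kg xg16 yg35 zg50) (kg xg16 yg21 zg18) (kg xg21 yg13 zg61) (kg xg16 yg33 zg1) (kg xg25 yg46 zg44) (kg xg31 yg32 zg46) (kg xg24 yg46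 zg57) (kg xg26 yg17 zg11) (kg xg28 yg11 zg13) (kg xg18 yg12 zg4) (kg xg16 yg21 zg20) (kg xg29 yg52 zg49) (kg xg26 yg18 zg49) (kg xg28 yg7 zg37) (kg xg16 yg21 zg22) (kg xg27 yg34 zg8) (kg xg32 yg7 zg34) (kg xg19 yg42 zg14) (kg xg23 yg34 zg8) (kg xg16 yg21 zg29) (kg xg26 yg17 zg12) (kg xg23 yg37 zg2) (kg xg30 yg18 zg19) (kg xg16 yg21 zg33) (kg xg22 yg34 zg16) (kg xg18 yg14 zg60) (kg xg18 yg20 zg13) (kg xg24 yg56 zg10) (kg xg17 yg56 zg16) (kg xg17 yg54 zg56) (kg xg27 yg52 zg27) (kg xg26 yg17 zg23) (kg xg26 yg17 zg29) (kg xg22 yg50 zg55) (kg xg23 yg6 zg60) (kg xg25 yg45 zg16) (kg xg19 yg1 zg53) (kg xg25 yg15 zg51) (kg xg19 yg0 zg38) (kg xg16 yg21 zg57) (kg xg29 yg0 zg40) (kg xg18 yg56 zg22) (kg xg16 yg21 zg59) (kg xg19 yg29 zg30) (kg xg26 yg32 zg44) (kg xg17 yg51 zg3) (kg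 xg20 yg10 zg59)) (@D3.rec (fun _ => Pt) (kg xg31 yg14 zg39) (kg xg26 yg32 zg43) (kg xg26 yg32 zg39) (kg xg18 yg58 zg56) (kg xg16 yg22 zg3) (kg xg25 yg42 zg54) (kg xg25 yg0 zg12) (kg xg19 yg23 zg17) (kg xg16 yg22 zg13) (kg xg18 yg19 zg46) (kg xg26 yg13 zg19) (kg xg27 yg33 zg41) (kg xg16 yg51 zg54) (kg xg27 yg58 zg30) (kg xg32 yg7 zg38) (kg xg27 yg9 zg48) (kg xg31 yg23 zg45) (kg xg20 yg35 zg14) (kg xg24 yg52 zg59) (kg xg16 yg22 zg30) (kg xg16 yg22 zg25) (kg xg31 yg32 zg37) (kg xg31 yg22 zg22) (kg xg27 yg58 zg10) (kg xg25 yg18 zg41) (kg xg16 yg22 zg29) (kg xg22 yg53 zg7) (kg xg26 yg30 zg17) (kg xg16 yg22 zg33) (kg xg16 yg22 zg32) (kg xg31 yg59 zg60) (kg xg22 yg48 zg3) (kg xg32 yg7 zg3) (kg xg18 yg42 zg39) (kg xg29 yg3 zg37) (kg xg29 yg3 zg57) (kg xg32 yg7 zg43) (kg xg26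 yg17 zg54) (kg xg22 yg18 zg49) (kg xg19 yg9 zg32) (kg xg16 yg22 zg44) (kg xg19 yg22 zg8) (kg xg30 yg31 zg57) (kg xg29 yg49 zg59) (kg xg26 yg17 zg13) (kg xg16 yg22 zg52) (kg xg31 yg38 zg24) (kg xg31 yg38 zg28) (kg xg27 yg40 zg4) (kg xg27 yg56 zg7) (kg xg18 yg8 zg49) (kg xg16 yg22 zg56) (kg xg32 yg7 zg47) (kg xg26 yg17 zg42) (kg xg27 yg33 zg31) (kg xg19 yg0 zg39) (kg xg16 yg22 zg58) (kg xg31 yg42 zg8) (kg xg31 yg13 zg4) (kg xg18 yg5 zg26) (kg xg18 yg34 zg28) (kg xg29 yg38 zg47)) (@D3.rec (fun _ => Pt) (kg xg21 yg11 zg58) (kg xg27 yg46 zg3) (kg xg18 yg9 zg14) (kg xg26 yg18 zg13) (kg xg16 yg32 zg34) (kg xg16 yg23 zg2) (kg xg30 yg45 zg26) (kg xg32 yg5 zg60) (kg xg24 yg56 zg14) (kg xg28 yg28 zg38) (kg xg31 yg42 zg21) (kg xg16 yg23 zg11) (kg xg27 yg29 zg12) (kg xg19 yg22 zg23)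 (kg xg27 yg32 zg2) (kg xg26 yg31 zg51) (kg xg20 yg18 zg22) (kg xg28 yg27 zg13) (kg xg16 yg23 zg27) (kg xg16 yg23 zg25) (kg xg32 yg7 zg25) (kg xg23 yg9 zg16) (kg xg32 yg7 zg55) (kg xg20 yg8 zg2) (kg xg28 yg7 zg22) (kg xg29 yg53 zg0) (kg xg25 yg58 zg24) (kg xg21 yg12 zg12) (kg xg29 yg27 zg12) (kg xg26 yg29 zg20) (kg xg16 yg23 zg30) (kg xg28 yg36 zg24) (kg xg32 yg8 zg0) (kg xg16 yg34 zg23) (kg xg16 yg23 zg31) (kg xg16 yg34 zg22) (kg xg16 yg23 zg34) (kg xg26 yg18 zg41) (kg xg28 yg4 zg24) (kg xg26 yg19 zg52) (kg xg26 yg18 zg50) (kg xg24 yg58 zg49) (kg xg21 yg12 zg36) (kg xg29 yg54 zg12) (kg xg16 yg23 zg43) (kg xg29 yg54 zg14) (kg xg16 yg25 zg42) (kg xg27 yg14 zg50) (kg xg16 yg23 zg52) (kg xg26 yg23 zg4) (kg xg21 yg33 zg26) (kg xg25 yg20 zg9) (kg xg31 yg50 zg12) (kg xg30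 yg52 zg54) (kg xg16 yg24 zg0) (kg xg29 yg17 zg35) (kg xg29 yg31 zg48) (kg xg16 yg24 zg5) (kg xg29 yg11 zg6) (kg xg27 yg40 zg39) (kg xg21 yg11 zg41) (kg xg16 yg57 zg5)) (@D3.rec (fun _ => Pt) (kg xg30 yg34 zg61) (kg xg23 yg15 zg14) (kg xg17 yg23 zg5) (kg xg17 yg23 zg3) (kg xg21 yg29 zg0) (kg xg31 yg3 zg48) (kg xg16 yg24 zg44) (kg xg16 yg24 zg29) (kg xg24 yg34 zg36) (kg xg21 yg11 zg51) (kg xg24 yg22 zg3) (kg xg17 yg2 zg31) (kg xg17 yg2 zg29) (kg xg26 yg29 zg38) (kg xg31 yg42 zg0) (kg xg30 yg50 zg13) (kg xg32 yg8 zg9) (kg xg31 yg43 zg30) (kg xg30 yg52 zg59) (kg xg16 yg24 zg43) (kg xg32 yg8 zg11) (kg xg30 yg51 zg7) (kg xg17 yg15 zg6) (kg xg20 yg20 zg29) (kg xg19 yg46 zg46) (kg xg30 yg36 zg12) (kg xg19 yg17 zg57) (kg xg16 yg24 zg48) (kg xg16 yg25 zg60) (kg xg28 yg12 zg48)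 (kg xg32 yg8 zg15) (kg xg30 yg12 zg31) (kg xg21 yg12 zg32) (kg xg29 yg21 zg61) (kg xg19 yg57 zg31) (kg xg20 yg35 zg47) (kg xg16 yg24 zg58) (kg xg21 yg29 zg35) (kg xg16 yg25 zg5) (kg xg16 yg24 zg61) (kg xg18 yg40 zg11) (kg xg27 yg41 zg23) (kg xg21 yg28 zg40) (kg xg21 yg29 zg24) (kg xg23 yg31 zg11) (kg xg20 yg24 zg57) (kg xg24 yg42 zg35) (kg xg25 yg39 zg34) (kg xg21 yg14 zg35) (kg xg16 yg25 zg10) (kg xg25 yg11 zg35) (kg xg16 yg27 zg50) (kg xg21 yg10 zg38) (kg xg28 yg13 zg7) (kg xg19 yg47 zg43) (kg xg16 yg25 zg23) (kg xg16 yg25 zg29) (kg xg17 yg2 zg35) (kg xg22 yg56 zg48) (kg xg21 yg44 zg13) (kg xg20 yg36 zg15) (kg xg30 yg12 zg14)) (@D3.rec (fun _ => Pt) (kg xg16 yg25 zg37) (kg xg16 yg25 zg34) (kg xg16 yg25 zg35) (kg xg20 yg52 zg18) (kg xg16 yg33 zg21) (kg xg20 yg36 zg5)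 (kg xg23 yg31 zg41) (kg xg21 yg12 zg58) (kg xg16 yg27 zg49) (kg xg16 yg25 zg41) (kg xg19 yg55 zg27) (kg xg21 yg29 zg48) (kg xg24 yg54 zg11) (kg xg28 yg0 zg35) (kg xg31 yg39 zg18) (kg xg16 yg33 zg42) (kg xg20 yg36 zg36) (kg xg28 yg48 zg17) (kg xg22 yg52 zg47) (kg xg25 yg42 zg31) (kg xg16 yg25 zg58) (kg xg31 yg28 zg48) (kg xg16 yg26 zg14) (kg xg16 yg26 zg25) (kg xg22 yg52 zg13) (kg xg25 yg54 zg10) (kg xg23 yg10 zg4) (kg xg20 yg17 zg59) (kg xg20 yg45 zg19) (kg xg31 yg7 zg46) (kg xg25 yg51 zg55) (kg xg32 yg4 zg61) (kg xg26 yg19 zg36) (kg xg20 yg45 zg17) (kg xg27 yg56 zg43) (kg xg24 yg25 zg29) (kg xg21 yg54 zg23) (kg xg30 yg42 zg50) (kg xg32 yg4 zg14) (kg xg16 yg26 zg15) (kg xg29 yg7 zg45) (kg xg17 yg0 zg60) (kg xg29 yg51 zg60) (kg xg25 yg55 zg13) (kg xg30 yg12 zg34) (kg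 xg30 yg32 zg39) (kg xg25 yg58 zg28) (kg xg17 yg1 zg21) (kg xg30 yg53 zg41) (kg xg23 yg5 zg26) (kg xg16 yg26 zg31) (kg xg29 yg37 zg44) (kg xg23 yg9 zg50) (kg xg20 yg49 zg48) (kg xg25 yg7 zg27) (kg xg22 yg2 zg18) (kg xg20 yg49 zg49) (kg xg27 yg41 zg42) (kg xg24 yg54 zg13) (kg xg16 yg26 zg41) (kg xg32 yg8 zg24) (kg xg20 yg35 zg1)) (@D3.rec (fun _ => Pt) (kg xg16 yg28 zg49) (kg xg28 yg58 zg47) (kg xg17 yg53 zg47) (kg xg28 yg57 zg1) (kg xg26 yg31 zg5) (kg xg27 yg47 zg51) (kg xg30 yg47 zg41) (kg xg22 yg54 zg30) (kg xg25 yg2 zg5) (kg xg16 yg26 zg53) (kg xg29 yg24 zg27) (kg xg24 yg8 zg55) (kg xg21 yg11 zg43) (kg xg22 yg22 zg56) (kg xg24 yg13 zg42) (kg xg16 yg27 zg1) (kg xg28 yg37 zg29) (kg xg30 yg52 zg7) (kg xg16 yg27 zg5) (kg xg20 yg8 zg20) (kg xg16 yg27 zg6) (kg xg27 yg41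 zg59) (kg xg25 yg34 zg48) (kg xg27 yg58 zg37) (kg xg16 yg27 zg42) (kg xg24 yg13 zg21) (kg xg26 yg30 zg30) (kg xg16 yg27 zg12) (kg xg30 yg47 zg46) (kg xg20 yg37 zg7) (kg xg22 yg12 zg59) (kg xg16 yg27 zg24) (kg xg29 yg53 zg53) (kg xg24 yg45 zg51) (kg xg22 yg6 zg52) (kg xg22 yg27 zg45) (kg xg16 yg27 zg19) (kg xg25 yg28 zg33) (kg xg16 yg27 zg26) (kg xg16 yg27 zg29) (kg xg26 yg17 zg60) (kg xg25 yg2 zg11) (kg xg17 yg57 zg37) (kg xg16 yg27 zg28) (kg xg26 yg24 zg14) (kg xg26 yg24 zg46) (kg xg16 yg27 zg31) (kg xg31 yg54 zg50) (kg xg26 yg26 zg36) (kg xg28 yg34 zg51) (kg xg20 yg34 zg50) (kg xg17 yg15 zg17) (kg xg28 yg12 zg21) (kg xg16 yg27 zg41) (kg xg27 yg40 zg37) (kg xg28 yg26 zg48) (kg xg31 yg44 zg6) (kg xg20 yg38 zg50) (kg xg20 yg6 zg18) (kg xg20 yg31 zg41) (kg xg17 yg15 zg9)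 (kg xg16 yg27 zg47)) (@D3.rec (fun _ => Pt) (kg xg26 yg28 zg17) (kg xg23 yg46 zg23) (kg xg23 yg34 zg44) (kg xg21 yg30 zg3) (kg xg27 yg57 zg51) (kg xg26 yg26 zg13) (kg xg17 yg9 zg11) (kg xg32 yg8 zg41) (kg xg27 yg57 zg5) (kg xg16 yg33 zg23) (kg xg26 yg48 zg42) (kg xg25 yg16 zg28) (kg xg16 yg27 zg60) (kg xg19 yg56 zg26) (kg xg25 yg46 zg17) (kg xg18 yg39 zg0) (kg xg22 yg47 zg50) (kg xg27 yg42 zg12) (kg xg28 yg12 zg32) (kg xg24 yg47 zg34) (kg xg24 yg47 zg35) (kg xg27 yg41 zg49) (kg xg30 yg55 zg47) (kg xg26 yg28 zg48) (kg xg19 yg46 zg54) (kg xg29 yg41 zg17) (kg xg29 yg6 zg1) (kg xg24 yg54 zg12) (kg xg23 yg0 zg55) (kg xg16 yg28 zg30) (kg xg16 yg28 zg24) (kg xg23 yg25 zg36) (kg xg21 yg35 zg48) (kg xg20 yg13 zg46) (kg xg32 yg3 zg7) (kg xg23 yg7 zg60) (kg xg25 yg35 zg38) (kg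 xg21 yg15 zg17) (kg xg22 yg38 zg54) (kg xg22 yg48 zg34) (kg xg27 yg41 zg51) (kg xg22 yg17 zg14) (kg xg17 yg43 zg13) (kg xg16 yg28 zg41) (kg xg29 yg17 zg47) (kg xg16 yg30 zg3) (kg xg16 yg28 zg45) (kg xg31 yg59 zg44) (kg xg22 yg47 zg29) (kg xg23 yg47 zg47) (kg xg16 yg28 zg46) (kg xg26 yg55 zg39) (kg xg32 yg8 zg40) (kg xg28 yg50 zg46) (kg xg16 yg30 zg7) (kg xg30 yg43 zg11) (kg xg16 yg33 zg33) (kg xg25 yg50 zg2) (kg xg28 yg57 zg6) (kg xg22 yg54 zg47) (kg xg32 yg8 zg48) (kg xg31 yg20 zg58)) (@D3.rec (fun _ => Pt) (kg xg16 yg28 zg61) (kg xg22 yg17 zg0) (kg xg22 yg17 zg5) (kg xg22 yg49 zg12) (kg xg30 yg51 zg1) (kg xg26 yg31 zg22) (kg xg18 yg59 zg36) (kg xg16 yg29 zg2) (kg xg26 yg30 zg7) (kg xg26 yg29 zg6) (kg xg16 yg29 zg5) (kg xg18 yg52 zg9) (kg xg26 yg25 zg5) (kg xg29 yg14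 zg58) (kg xg16 yg53 zg9) (kg xg16 yg31 zg1) (kg xg16 yg29 zg14) (kg xg23 yg0 zg47) (kg xg16 yg31 zg11) (kg xg28 yg55 zg43) (kg xg20 yg35 zg43) (kg xg21 yg30 zg42) (kg xg18 yg25 zg55) (kg xg26 yg48 zg52) (kg xg26 yg48 zg51) (kg xg23 yg42 zg27) (kg xg21 yg30 zg14) (kg xg23 yg52 zg29) (kg xg24 yg59 zg35) (kg xg18 yg22 zg50) (kg xg20 yg33 zg7) (kg xg27 yg58 zg51) (kg xg27 yg11 zg45) (kg xg16 yg29 zg42) (kg xg26 yg27 zg44) (kg xg26 yg24 zg48) (kg xg16 yg29 zg43) (kg xg29 yg31 zg0) (kg xg27 yg3 zg32) (kg xg26 yg38 zg33) (kg xg30 yg3 zg17) (kg xg16 yg29 zg51) (kg xg29 yg19 zg12) (kg xg29 yg52 zg53) (kg xg23 yg57 zg50) (kg xg26 yg57 zg37) (kg xg19 yg46 zg48) (kg xg17 yg56 zg0) (kg xg20 yg28 zg61) (kg xg20 yg54 zg21) (kg xg27 yg21 zg17) (kg xg28 yg52 zg49) (kg xg17 yg3 zg42)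 (kg xg20 yg34 zg44) (kg xg18 yg44 zg28) (kg xg28 yg50 zg3) (kg xg20 yg29 zg30) (kg xg16 yg30 zg8) (kg xg20 yg29 zg29) (kg xg29 yg15 zg26) (kg xg23 yg31 zg34) (kg xg26 yg53 zg10)) (@D3.rec (fun _ => Pt) (kg xg23 yg31 zg35) (kg xg16 yg30 zg15) (kg xg25 yg17 zg51) (kg xg26 yg32 zg46) (kg xg21 yg44 zg21) (kg xg24 yg36 zg18) (kg xg20 yg34 zg48) (kg xg26 yg48 zg50) (kg xg20 yg52 zg11) (kg xg17 yg9 zg13) (kg xg21 yg51 zg30) (kg xg21 yg51 zg28) (kg xg20 yg7 zg33) (kg xg20 yg4 zg33) (kg xg20 yg4 zg38) (kg xg27 yg21 zg16) (kg xg30 yg24 zg57) (kg xg17 yg9 zg10) (kg xg30 yg2 zg39) (kg xg26 yg32 zg48) (kg xg20 yg34 zg36) (kg xg16 yg31 zg0) (kg xg29 yg21 zg7) (kg xg28 yg51 zg56) (kg xg29 yg9 zg6) (kg xg16 yg31 zg4) (kg xg29 yg14 zg50) (kg xg28 yg27 zg20) (kg xg29 yg24 zg39) (kg xg25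 yg56 zg18) (kg xg28 yg28 zg23) (kg xg31 yg6 zg46) (kg xg21 yg4 zg13) (kg xg26 yg57 zg36) (kg xg27 yg23 zg55) (kg xg16 yg31 zg12) (kg xg19 yg7 zg29) (kg xg32 yg9 zg9) (kg xg21 yg14 zg57) (kg xg30 yg27 zg55) (kg xg22 yg20 zg49) (kg xg29 yg31 zg9) (kg xg28 yg35 zg25) (kg xg26 yg26 zg34) (kg xg16 yg31 zg15) (kg xg31 yg59 zg25) (kg xg24 yg56 zg19) (kg xg28 yg22 zg13) (kg xg31 yg33 zg36) (kg xg20 yg37 zg3) (kg xg31 yg23 zg16) (kg xg16 yg31 zg18) (kg xg27 yg9 zg46) (kg xg28 yg52 zg23) (kg xg20 yg37 zg10) (kg xg28 yg27 zg8) (kg xg16 yg31 zg20) (kg xg29 yg53 zg6) (kg xg28 yg55 zg37) (kg xg16 yg31 zg22) (kg xg29 yg26 zg42) (kg xg19 yg8 zg37)) (@D3.rec (fun _ => Pt) (kg xg22 yg25 zg27) (kg xg20 yg49 zg1) (kg xg16 yg31 zg25) (kg xg21 yg54 zg0) (kg xg27 yg5 zg18) (kg xg29 yg54 zg28)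 (kg xg27 yg36 zg28) (kg xg16 yg31 zg31) (kg xg21 yg53 zg6) (kg xg20 yg8 zg27) (kg xg21 yg32 zg24) (kg xg16 yg31 zg35) (kg xg32 yg9 zg20) (kg xg20 yg17 zg29) (kg xg29 yg38 zg26) (kg xg20 yg20 zg59) (kg xg24 yg30 zg41) (kg xg20 yg18 zg51) (kg xg29 yg55 zg29) (kg xg28 yg9 zg16) (kg xg26 yg24 zg51) (kg xg16 yg31 zg48) (kg xg31 yg44 zg50) (kg xg16 yg31 zg54) (kg xg17 yg55 zg9) (kg xg18 yg41 zg4) (kg xg26 yg30 zg18) (kg xg21 yg12 zg24) (kg xg32 yg9 zg21) (kg xg16 yg31 zg61) (kg xg28 yg50 zg8) (kg xg25 yg11 zg45) (kg xg16 yg32 zg4) (kg xg16 yg32 zg1) (kg xg25 yg18 zg36) (kg xg30 yg53 zg51) (kg xg26 yg25 zg38) (kg xg29 yg30 zg50) (kg xg22 yg52 zg60) (kg xg28 yg35 zg23) (kg xg27 yg5 zg16) (kg xg20 yg18 zg46) (kg xg28 yg49 zg49) (kg xg16 yg32 zg7) (kg xg32 yg9 zg23) (kg xg26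 yg24 zg57) (kg xg21 yg33 zg15) (kg xg26 yg30 zg28) (kg xg16 yg32 zg11) (kg xg30 yg54 zg35) (kg xg16 yg32 zg57) (kg xg16 yg32 zg23) (kg xg16 yg32 zg14) (kg xg29 yg25 zg0) (kg xg26 yg30 zg26) (kg xg16 yg32 zg15) (kg xg26 yg30 zg25) (kg xg26 yg25 zg56) (kg xg26 yg29 zg35) (kg xg32 yg9 zg28) (kg xg28 yg15 zg7) (kg xg19 yg1 zg35)) (@D3.rec (fun _ => Pt) (kg xg30 yg44 zg3) (kg xg29 yg55 zg35) (kg xg16 yg32 zg22) (kg xg17 yg15 zg10) (kg xg32 yg9 zg26) (kg xg30 yg48 zg0) (kg xg21 yg4 zg22) (kg xg31 yg49 zg21) (kg xg20 yg30 zg18) (kg xg23 yg8 zg9) (kg xg26 yg31 zg27) (kg xg31 yg44 zg14) (kg xg25 yg1 zg55) (kg xg28 yg7 zg60) (kg xg24 yg12 zg58) (kg xg32 yg9 zg34) (kg xg16 yg32 zg33) (kg xg32 yg9 zg35) (kg xg28 yg7 zg13) (kg xg32 yg9 zg37) (kg xg26 yg21 zg30) (kg xg28 yg26 zg61)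 (kg xg16 yg32 zg40) (kg xg16 yg32 zg50) (kg xg20 yg41 zg7) (kg xg20 yg41 zg8) (kg xg18 yg45 zg35) (kg xg21 yg53 zg2) (kg xg27 yg40 zg35) (kg xg26 yg55 zg26) (kg xg16 yg32 zg47) (kg xg16 yg34 zg51) (kg xg16 yg32 zg48) (kg xg20 yg8 zg11) (kg xg21 yg9 zg7) (kg xg26 yg29 zg3) (kg xg24 yg9 zg39) (kg xg26 yg22 zg13) (kg xg16 yg32 zg54) (kg xg25 yg24 zg12) (kg xg31 yg48 zg42) (kg xg20 yg25 zg20) (kg xg16 yg33 zg37) (kg xg28 yg9 zg17) (kg xg27 yg51 zg60) (kg xg16 yg32 zg58) (kg xg29 yg53 zg46) (kg xg30 yg52 zg61) (kg xg32 yg9 zg31) (kg xg27 yg46 zg41) (kg xg31 yg44 zg16) (kg xg24 yg46 zg55) (kg xg24 yg57 zg1) (kg xg16 yg33 zg6) (kg xg30 yg24 zg60) (kg xg31 yg6 zg60) (kg xg22 yg50 zg18) (kg xg24 yg47 zg10) (kg xg28 yg15 zg28) (kg xg16 yg33 zg17) (kg xg23 yg17 zg2) (kg xg23 yg17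 zg37)) (@D3.rec (fun _ => Pt) (kg xg16 yg33 zg19) (kg xg31 yg34 zg1) (kg xg23 yg16 zg48) (kg xg26 yg21 zg49) (kg xg27 yg1 zg0) (kg xg22 yg56 zg37) (kg xg27 yg52 zg2) (kg xg30 yg54 zg55) (kg xg17 yg57 zg32) (kg xg27 yg43 zg23) (kg xg28 yg12 zg4) (kg xg16 yg33 zg28) (kg xg32 yg9 zg53) (kg xg24 yg48 zg17) (kg xg32 yg9 zg55) (kg xg29 yg48 zg10) (kg xg26 yg28 zg57) (kg xg28 yg28 zg18) (kg xg26 yg28 zg28) (kg xg21 yg11 zg52) (kg xg23 yg9 zg18) (kg xg21 yg11 zg47) (kg xg29 yg54 zg22) (kg xg24 yg56 zg30) (kg xg26 yg28 zg56) (kg xg16 yg33 zg38) (kg xg26 yg28 zg55) (kg xg26 yg28 zg47) (kg xg16 yg33 zg40) (kg xg25 yg7 zg23) (kg xg30 yg31 zg15) (kg xg29 yg28 zg45) (kg xg29 yg16 zg7) (kg xg28 yg3 zg16) (kg xg27 yg52 zg55) (kg xg31 yg25 zg20) (kg xg31 yg15 zg7) (kg xg22 yg55 zg41)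 (kg xg32 yg9 zg60) (kg xg31 yg42 zg52) (kg xg18 yg30 zg32) (kg xg28 yg31 zg51) (kg xg28 yg31 zg53) (kg xg29 yg20 zg56) (kg xg24 yg46 zg49) (kg xg16 yg33 zg52) (kg xg32 yg10 zg7) (kg xg26 yg31 zg42) (kg xg24 yg47 zg61) (kg xg18 yg34 zg19) (kg xg26 yg29 zg5) (kg xg16 yg33 zg56) (kg xg32 yg8 zg19) (kg xg16 yg33 zg57) (kg xg27 yg54 zg48) (kg xg26 yg31 zg59) (kg xg18 yg52 zg4) (kg xg24 yg48 zg10) (kg xg21 yg28 zg38) (kg xg23 yg9 zg19) (kg xg20 yg50 zg25) (kg xg16 yg34 zg0)) (@D3.rec (fun _ => Pt) (kg xg23 yg7 zg59) (kg xg16 yg34 zg1) (kg xg29 yg52 zg48) (kg xg29 yg52 zg52) (kg xg16 yg34 zg2) (kg xg26 yg32 zg4) (kg xg27 yg44 zg25) (kg xg23 yg9 zg12) (kg xg16 yg34 zg37) (kg xg29 yg29 zg37) (kg xg16 yg34 zg6) (kg xg29 yg29 zg36) (kg xg30 yg48 zg8) (kg xg29 yg52 zg61) (kg xg16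 yg34 zg8) (kg xg27 yg46 zg0) (kg xg29 yg52 zg60) (kg xg25 yg16 zg14) (kg xg28 yg31 zg45) (kg xg23 yg9 zg17) (kg xg16 yg34 zg18) (kg xg26 yg7 zg21) (kg xg26 yg26 zg4) (kg xg29 yg52 zg58) (kg xg16 yg34 zg12) (kg xg29 yg16 zg6) (kg xg26 yg29 zg10) (kg xg16 yg34 zg13) (kg xg29 yg25 zg1) (kg xg29 yg53 zg4) (kg xg28 yg31 zg47) (kg xg29 yg28 zg44) (kg xg27 yg40 zg36) (kg xg16 yg34 zg20) (kg xg20 yg21 zg2) (kg xg28 yg15 zg38) (kg xg16 yg34 zg19) (kg xg30 yg51 zg34) (kg xg27 yg38 zg0) (kg xg29 yg53 zg7) (kg xg25 yg34 zg12) (kg xg19 yg41 zg58) (kg xg31 yg16 zg40) (kg xg28 yg36 zg5) (kg xg26 yg30 zg47) (kg xg21 yg10 zg55) (kg xg21 yg10 zg56) (kg xg16 yg34 zg24) (kg xg29 yg21 zg39) (kg xg29 yg19 zg49) (kg xg26 yg21 zg15) (kg xg16 yg34 zg25) (kg xg26 yg30 zg5) (kg xg29 yg27 zg40)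 (kg xg28 yg4 zg58) (kg xg23 yg46 zg40) (kg xg26 yg30 zg55) (kg xg21 yg13 zg1) (kg xg26 yg29 zg46) (kg xg21 yg10 zg29) (kg xg24 yg54 zg8) (kg xg16 yg34 zg35)) (@D3.rec (fun _ => Pt) (kg xg20 yg8 zg50) (kg xg29 yg53 zg21) (kg xg25 yg31 zg38) (kg xg27 yg44 zg24) (kg xg21 yg10 zg34) (kg xg18 yg45 zg56) (kg xg16 yg34 zg40) (kg xg18 yg45 zg55) (kg xg16 yg34 zg41) (kg xg19 yg6 zg17) (kg xg16 yg39 zg17) (kg xg27 yg54 zg34) (kg xg18 yg47 zg14) (kg xg26 yg20 zg0) (kg xg19 yg6 zg44) (kg xg16 yg34 zg47) (kg xg17 yg15 zg40) (kg xg16 yg53 zg17) (kg xg27 yg39 zg23) (kg xg24 yg52 zg55) (kg xg28 yg28 zg5) (kg xg23 yg18 zg45) (kg xg19 yg2 zg33) (kg xg28 yg24 zg34) (kg xg20 yg7 zg46) (kg xg17 yg55 zg5) (kg xg16 yg39 zg57) (kg xg20 yg57 zg16) (kg xg16 yg35 zg21) (kg xg23 yg19 zg49) (kg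 xg25 yg24 zg0) (kg xg29 yg29 zg29) (kg xg18 yg39 zg4) (kg xg18 yg58 zg60) (kg xg18 yg49 zg22) (kg xg27 yg34 zg4) (kg xg23 yg21 zg51) (kg xg22 yg51 zg14) (kg xg29 yg20 zg12) (kg xg26 yg19 zg59) (kg xg20 yg7 zg59) (kg xg24 yg12 zg40) (kg xg17 yg54 zg23) (kg xg16 yg35 zg25) (kg xg26 yg20 zg2) (kg xg26 yg28 zg18) (kg xg26 yg27 zg19) (kg xg22 yg3 zg8) (kg xg26 yg27 zg3) (kg xg27 yg0 zg56) (kg xg22 yg51 zg23) (kg xg19 yg51 zg24) (kg xg29 yg55 zg41) (kg xg21 yg14 zg5) (kg xg29 yg2 zg58) (kg xg23 yg31 zg22) (kg xg20 yg5 zg56) (kg xg19 yg49 zg37) (kg xg28 yg24 zg40) (kg xg18 yg28 zg52) (kg xg26 yg14 zg48) (kg xg16 yg35 zg60)) (@D3.rec (fun _ => Pt) (kg xg30 yg51 zg56) (kg xg21 yg37 zg12) (kg xg16 yg35 zg61) (kg xg20 yg26 zg25) (kg xg26 yg25 zg30) (kg xg17 yg7 zg41) (kg xg18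 yg40 zg47) (kg xg25 yg17 zg9) (kg xg19 yg58 zg27) (kg xg19 yg11 zg20) (kg xg19 yg32 zg4) (kg xg32 yg10 zg32) (kg xg31 yg34 zg60) (kg xg16 yg39 zg6) (kg xg16 yg36 zg18) (kg xg16 yg39 zg4) (kg xg29 yg1 zg19) (kg xg19 yg5 zg8) (kg xg16 yg42 zg38) (kg xg31 yg19 zg1) (kg xg31 yg31 zg47) (kg xg32 yg10 zg34) (kg xg28 yg40 zg46) (kg xg16 yg40 zg17) (kg xg29 yg42 zg30) (kg xg16 yg48 zg29) (kg xg16 yg42 zg5) (kg xg26 yg40 zg43) (kg xg16 yg41 zg14) (kg xg16 yg36 zg61) (kg xg16 yg36 zg35) (kg xg24 yg14 zg36) (kg xg16 yg39 zg53) (kg xg25 yg12 zg34) (kg xg16 yg42 zg28) (kg xg31 yg20 zg20) (kg xg16 yg40 zg59) (kg xg16 yg36 zg40) (kg xg32 yg10 zg43) (kg xg29 yg46 zg29) (kg xg16 yg40 zg54) (kg xg16 yg36 zg41) (kg xg32 yg10 zg46) (kg xg16 yg41 zg6) (kg xg27 yg18 zg53) (kg xg16 yg40 zg46)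 (kg xg16 yg39 zg55) (kg xg16 yg36 zg46) (kg xg25 yg8 zg54) (kg xg16 yg36 zg52) (kg xg21 yg16 zg38) (kg xg18 yg51 zg0) (kg xg26 yg34 zg29) (kg xg31 yg31 zg39) (kg xg25 yg8 zg48) (kg xg31 yg32 zg23) (kg xg31 yg43 zg53) (kg xg27 yg18 zg61) (kg xg19 yg1 zg6) (kg xg25 yg8 zg49) (kg xg31 yg43 zg50) (kg xg25 yg35 zg51)) (@D3.rec (fun _ => Pt) (kg xg31 yg56 zg39) (kg xg16 yg36 zg59) (kg xg21 yg16 zg52) (kg xg16 yg40 zg51) (kg xg28 yg15 zg43) (kg xg28 yg54 zg9) (kg xg16 yg42 zg4) (kg xg16 yg37 zg0) (kg xg32 yg10 zg52) (kg xg16 yg42 zg2) (kg xg19 yg53 zg36) (kg xg16 yg42 zg9) (kg xg32 yg10 zg56) (kg xg29 yg46 zg49) (kg xg29 yg47 zg37) (kg xg28 yg58 zg44) (kg xg29 yg3 zg17) (kg xg32 yg10 zg58) (kg xg19 yg29 zg21) (kg xg20 yg55 zg49) (kg xg29 yg14 zg17) (kg xg29 yg14 zg18) (kg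 xg16 yg37 zg10) (kg xg31 yg52 zg29) (kg xg31 yg34 zg42) (kg xg19 yg12 zg45) (kg xg26 yg37 zg37) (kg xg18 yg53 zg21) (kg xg16 yg38 zg22) (kg xg26 yg33 zg45) (kg xg32 yg11 zg6) (kg xg32 yg11 zg8) (kg xg30 yg16 zg15) (kg xg16 yg37 zg17) (kg xg32 yg11 zg7) (kg xg19 yg31 zg55) (kg xg16 yg37 zg18) (kg xg29 yg21 zg31) (kg xg16 yg38 zg25) (kg xg26 yg38 zg27) (kg xg19 yg32 zg1) (kg xg19 yg31 zg61) (kg xg29 yg45 zg15) (kg xg16 yg37 zg52) (kg xg31 yg47 zg31) (kg xg22 yg3 zg56) (kg xg24 yg27 zg39) (kg xg29 yg44 zg11) (kg xg29 yg45 zg35) (kg xg16 yg37 zg29) (kg xg28 yg56 zg30) (kg xg16 yg37 zg30) (kg xg27 yg35 zg57) (kg xg30 yg7 zg49) (kg xg16 yg37 zg53) (kg xg24 yg34 zg19) (kg xg26 yg46 zg9) (kg xg25 yg10 zg19) (kg xg26 yg41 zg27) (kg xg24 yg52 zg40) (kg xg32 yg11 zg23) (kg xg32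 yg11 zg22)) (@D3.rec (fun _ => Pt) (kg xg16 yg37 zg38) (kg xg32 yg11 zg26) (kg xg28 yg54 zg54) (kg xg16 yg37 zg39) (kg xg28 yg51 zg14) (kg xg26 yg38 zg5) (kg xg20 yg55 zg11) (kg xg27 yg14 zg19) (kg xg27 yg35 zg28) (kg xg16 yg38 zg6) (kg xg16 yg38 zg60) (kg xg24 yg26 zg24) (kg xg24 yg15 zg1) (kg xg28 yg29 zg28) (kg xg32 yg0 zg53) (kg xg29 yg27 zg54) (kg xg16 yg37 zg49) (kg xg25 yg10 zg16) (kg xg16 yg37 zg50) (kg xg28 yg36 zg39) (kg xg24 yg52 zg39) (kg xg28 yg55 zg29) (kg xg26 yg37 zg34) (kg xg29 yg45 zg23) (kg xg29 yg46 zg8) (kg xg32 yg10 zg31) (kg xg27 yg36 zg30) (kg xg25 yg10 zg15) (kg xg32 yg11 zg43) (kg xg31 yg51 zg0) (kg xg19 yg43 zg45) (kg xg29 yg33 zg43) (kg xg16 yg38 zg3) (kg xg16 yg37 zg58) (kg xg32 yg11 zg46) (kg xg16 yg38 zg1) (kg xg32 yg11 zg31) (kg xg28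 yg0 zg21) (kg xg20 yg1 zg29) (kg xg28 yg54 zg55) (kg xg16 yg37 zg61) (kg xg32 yg11 zg49) (kg xg20 yg39 zg8) (kg xg16 yg58 zg48) (kg xg28 yg40 zg25) (kg xg31 yg20 zg59) (kg xg29 yg15 zg7) (kg xg28 yg40 zg28) (kg xg26 yg41 zg29) (kg xg32 yg11 zg48) (kg xg16 yg38 zg2) (kg xg28 yg40 zg1) (kg xg32 yg11 zg47) (kg xg29 yg8 zg17) (kg xg16 yg38 zg7) (kg xg26 yg48 zg35) (kg xg19 yg57 zg35) (kg xg30 yg15 zg50) (kg xg28 yg37 zg17) (kg xg25 yg16 zg45) (kg xg29 yg49 zg1) (kg xg26 yg59 zg45)) (@D3.rec (fun _ => Pt) (kg xg27 yg16 zg17) (kg xg16 yg38 zg10) (kg xg32 yg12 zg11) (kg xg31 yg47 zg3) (kg xg24 yg31 zg61) (kg xg31 yg34 zg56) (kg xg28 yg56 zg32) (kg xg16 yg38 zg14) (kg xg20 yg39 zg17) (kg xg20 yg38 zg57) (kg xg26 yg36 zg61) (kg xg28 yg56 zg35) (kg xg29 yg34 zg12) (kg xg20 yg58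 zg56) (kg xg31 yg34 zg59) (kg xg28 yg35 zg18) (kg xg26 yg40 zg49) (kg xg20 yg39 zg18) (kg xg27 yg35 zg58) (kg xg32 yg12 zg25) (kg xg31 yg47 zg5) (kg xg16 yg38 zg19) (kg xg32 yg12 zg29) (kg xg26 yg42 zg39) (kg xg29 yg46 zg20) (kg xg32 yg12 zg33) (kg xg19 yg13 zg59) (kg xg17 yg6 zg53) (kg xg22 yg1 zg38) (kg xg16 yg38 zg23) (kg xg28 yg30 zg10) (kg xg31 yg35 zg4) (kg xg17 yg28 zg52) (kg xg20 yg58 zg46) (kg xg29 yg53 zg30) (kg xg19 yg13 zg46) (kg xg19 yg5 zg29) (kg xg32 yg12 zg42) (kg xg18 yg56 zg24) (kg xg24 yg34 zg44) (kg xg16 yg38 zg29) (kg xg21 yg11 zg36) (kg xg28 yg38 zg59) (kg xg19 yg17 zg50) (kg xg28 yg30 zg13) (kg xg32 yg7 zg39) (kg xg19 yg7 zg50) (kg xg19 yg52 zg47) (kg xg19 yg7 zg58) (kg xg30 yg45 zg15) (kg xg16 yg38 zg39) (kg xg30 yg17 zg23) (kg xg31 yg55 zg3)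 (kg xg32 yg12 zg48) (kg xg19 yg32 zg18) (kg xg26 yg44 zg15) (kg xg30 yg17 zg9) (kg xg16 yg38 zg45) (kg xg27 yg14 zg41) (kg xg19 yg32 zg7) (kg xg31 yg24 zg26) (kg xg32 yg12 zg51)) (@D3.rec (fun _ => Pt) (kg xg16 yg38 zg55) (kg xg29 yg45 zg49) (kg xg16 yg38 zg53) (kg xg19 yg32 zg11) (kg xg19 yg53 zg42) (kg xg20 yg56 zg0) (kg xg27 yg17 zg29) (kg xg16 yg38 zg50) (kg xg31 yg41 zg24) (kg xg28 yg56 zg45) (kg xg16 yg38 zg51) (kg xg28 yg20 zg47) (kg xg26 yg36 zg10) (kg xg30 yg17 zg25) (kg xg32 yg3 zg8) (kg xg26 yg35 zg10) (kg xg26 yg44 zg31) (kg xg32 yg12 zg53) (kg xg16 yg38 zg54) (kg xg22 yg1 zg53) (kg xg32 yg12 zg52) (kg xg20 yg51 zg59) (kg xg26 yg58 zg50) (kg xg31 yg52 zg57) (kg xg25 yg16 zg43) (kg xg26 yg37 zg15) (kg xg16 yg39 zg1) (kg xg29 yg10 zg34) (kg xg31 yg13 zg24)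 (kg xg32 yg3 zg28) (kg xg31 yg20 zg15) (kg xg28 yg54 zg11) (kg xg20 yg4 zg52) (kg xg16 yg47 zg10) (kg xg26 yg52 zg25) (kg xg29 yg32 zg56) (kg xg16 yg39 zg9) (kg xg26 yg37 zg36) (kg xg24 yg48 zg55) (kg xg31 yg40 zg50) (kg xg31 yg52 zg32) (kg xg24 yg52 zg6) (kg xg16 yg39 zg14) (kg xg32 yg12 zg58) (kg xg28 yg18 zg45) (kg xg20 yg21 zg31) (kg xg16 yg39 zg38) (kg xg25 yg10 zg7) (kg xg16 yg39 zg23) (kg xg19 yg14 zg17) (kg xg16 yg39 zg24) (kg xg16 yg40 zg18) (kg xg29 yg34 zg35) (kg xg17 yg48 zg38) (kg xg24 yg50 zg40) (kg xg29 yg2 zg47) (kg xg19 yg14 zg19) (kg xg16 yg39 zg39) (kg xg31 yg21 zg7) (kg xg27 yg0 zg21) (kg xg29 yg3 zg16) (kg xg19 yg14 zg3)) (@D3.rec (fun _ => Pt) (kg xg19 yg6 zg15) (kg xg28 yg18 zg47) (kg xg32 yg13 zg10) (kg xg32 yg13 zg11) (kg xg26 yg35 zg5) (kg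 xg16 yg39 zg42) (kg xg29 yg21 zg25) (kg xg26 yg35 zg3) (kg xg32 yg11 zg35) (kg xg16 yg39 zg44) (kg xg26 yg35 zg17) (kg xg16 yg48 zg10) (kg xg16 yg39 zg49) (kg xg16 yg39 zg47) (kg xg30 yg17 zg15) (kg xg32 yg13 zg18) (kg xg27 yg19 zg4) (kg xg29 yg1 zg4) (kg xg16 yg40 zg34) (kg xg29 yg32 zg57) (kg xg19 yg36 zg44) (kg xg20 yg58 zg11) (kg xg16 yg39 zg58) (kg xg16 yg41 zg12) (kg xg20 yg58 zg40) (kg xg27 yg0 zg17) (kg xg32 yg2 zg2) (kg xg28 yg54 zg37) (kg xg19 yg13 zg58) (kg xg18 yg41 zg25) (kg xg19 yg18 zg3) (kg xg28 yg2 zg28) (kg xg20 yg36 zg58) (kg xg26 yg26 zg37) (kg xg16 yg40 zg4) (kg xg17 yg28 zg43) (kg xg28 yg58 zg3) (kg xg16 yg40 zg13) (kg xg16 yg40 zg6) (kg xg28 yg44 zg34) (kg xg16 yg40 zg11) (kg xg31 yg11 zg17) (kg xg31 yg41 zg48) (kg xg17 yg27 zg39) (kg xg16 yg40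 zg9) (kg xg28 yg44 zg23) (kg xg31 yg31 zg37) (kg xg32 yg13 zg33) (kg xg28 yg59 zg41) (kg xg19 yg19 zg25) (kg xg29 yg44 zg3) (kg xg30 yg16 zg14) (kg xg16 yg40 zg12) (kg xg28 yg44 zg31) (kg xg32 yg13 zg39) (kg xg20 yg54 zg8) (kg xg32 yg13 zg40) (kg xg32 yg4 zg46) (kg xg29 yg32 zg58) (kg xg16 yg40 zg16) (kg xg26 yg59 zg50) (kg xg31 yg30 zg57)) (@D3.rec (fun _ => Pt) (kg xg32 yg13 zg42) (kg xg19 yg22 zg33) (kg xg20 yg23 zg46) (kg xg32 yg13 zg45) (kg xg29 yg25 zg55) (kg xg19 yg9 zg28) (kg xg32 yg13 zg35) (kg xg16 yg41 zg36) (kg xg19 yg13 zg20) (kg xg19 yg31 zg40) (kg xg16 yg40 zg28) (kg xg19 yg13 zg41) (kg xg16 yg40 zg30) (kg xg28 yg27 zg59) (kg xg25 yg47 zg52) (kg xg28 yg0 zg17) (kg xg31 yg28 zg31) (kg xg22 yg4 zg0) (kg xg18 yg51 zg9) (kg xg28 yg58 zg30) (kg xg25 yg47 zg30)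 (kg xg25 yg47 zg21) (kg xg30 yg56 zg54) (kg xg18 yg44 zg31) (kg xg27 yg9 zg47) (kg xg16 yg40 zg58) (kg xg16 yg40 zg40) (kg xg32 yg13 zg23) (kg xg32 yg13 zg26) (kg xg29 yg44 zg28) (kg xg32 yg13 zg52) (kg xg28 yg46 zg26) (kg xg20 yg58 zg18) (kg xg16 yg41 zg13) (kg xg27 yg39 zg3) (kg xg17 yg52 zg17) (kg xg32 yg13 zg53) (kg xg16 yg40 zg52) (kg xg29 yg25 zg57) (kg xg17 yg49 zg30) (kg xg30 yg7 zg9) (kg xg17 yg48 zg11) (kg xg17 yg52 zg35) (kg xg18 yg33 zg49) (kg xg25 yg47 zg33) (kg xg32 yg10 zg44) (kg xg31 yg31 zg40) (kg xg26 yg51 zg46) (kg xg26 yg59 zg21) (kg xg26 yg51 zg44) (kg xg29 yg44 zg14) (kg xg16 yg41 zg4) (kg xg16 yg41 zg0) (kg xg20 yg58 zg26) (kg xg26 yg39 zg37) (kg xg32 yg3 zg61) (kg xg16 yg41 zg16) (kg xg32 yg10 zg36) (kg xg31 yg19 zg8) (kg xg16 yg46 zg13) (kg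 xg19 yg46 zg51) (kg xg29 yg18 zg13)) (@D3.rec (fun _ => Pt) (kg xg19 yg43 zg46) (kg xg26 yg8 zg21) (kg xg31 yg19 zg9) (kg xg28 yg54 zg12) (kg xg24 yg52 zg37) (kg xg32 yg10 zg39) (kg xg26 yg50 zg60) (kg xg28 yg45 zg14) (kg xg32 yg13 zg58) (kg xg16 yg41 zg31) (kg xg32 yg14 zg2) (kg xg32 yg13 zg61) (kg xg16 yg41 zg33) (kg xg20 yg38 zg43) (kg xg28 yg18 zg53) (kg xg32 yg10 zg49) (kg xg16 yg41 zg41) (kg xg23 yg35 zg25) (kg xg24 yg35 zg15) (kg xg16 yg41 zg42) (kg xg16 yg41 zg55) (kg xg32 yg13 zg24) (kg xg28 yg54 zg22) (kg xg16 yg41 zg44) (kg xg27 yg14 zg48) (kg xg32 yg14 zg5) (kg xg26 yg35 zg38) (kg xg27 yg57 zg22) (kg xg16 yg42 zg29) (kg xg16 yg41 zg47) (kg xg19 yg5 zg44) (kg xg16 yg48 zg5) (kg xg31 yg29 zg3) (kg xg16 yg48 zg7) (kg xg16 yg41 zg52) (kg xg21 yg45 zg13) (kg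 xg26 yg48 zg18) (kg xg24 yg2 zg24) (kg xg32 yg14 zg14) (kg xg20 yg55 zg41) (kg xg21 yg46 zg6) (kg xg27 yg0 zg19) (kg xg28 yg27 zg60) (kg xg16 yg41 zg60) (kg xg32 yg14 zg16) (kg xg28 yg54 zg44) (kg xg26 yg34 zg53) (kg xg32 yg10 zg55) (kg xg16 yg42 zg3) (kg xg32 yg14 zg21) (kg xg32 yg10 zg53) (kg xg28 yg21 zg53) (kg xg32 yg14 zg22) (kg xg28 yg47 zg36) (kg xg16 yg42 zg6) (kg xg28 yg30 zg21) (kg xg28 yg30 zg31) (kg xg28 yg54 zg38) (kg xg16 yg42 zg7) (kg xg24 yg4 zg16) (kg xg17 yg6 zg9) (kg xg27 yg35 zg56)) (@D3.rec (fun _ => Pt) (kg xg30 yg12 zg44) (kg xg18 yg0 zg44) (kg xg27 yg57 zg6) (kg xg18 yg32 zg29) (kg xg16 yg42 zg23) (kg xg16 yg42 zg19) (kg xg29 yg46 zg35) (kg xg26 yg39 zg30) (kg xg32 yg14 zg28) (kg xg29 yg2 zg46) (kg xg26 yg39 zg13) (kg xg26 yg59 zg44) (kg xg24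 yg31 zg55) (kg xg29 yg34 zg3) (kg xg32 yg10 zg37) (kg xg29 yg12 zg27) (kg xg20 yg56 zg40) (kg xg19 yg31 zg47) (kg xg26 yg41 zg21) (kg xg16 yg42 zg35) (kg xg29 yg59 zg60) (kg xg26 yg41 zg19) (kg xg19 yg59 zg30) (kg xg29 yg33 zg38) (kg xg26 yg34 zg60) (kg xg16 yg42 zg43) (kg xg16 yg42 zg39) (kg xg26 yg35 zg2) (kg xg19 yg54 zg56) (kg xg31 yg59 zg11) (kg xg30 yg6 zg30) (kg xg19 yg36 zg20) (kg xg32 yg14 zg36) (kg xg22 yg3 zg3) (kg xg16 yg42 zg49) (kg xg32 yg0 zg14) (kg xg25 yg56 zg44) (kg xg16 yg43 zg27) (kg xg19 yg39 zg33) (kg xg31 yg30 zg55) (kg xg22 yg1 zg61) (kg xg27 yg51 zg3) (kg xg27 yg42 zg36) (kg xg18 yg51 zg12) (kg xg25 yg31 zg39) (kg xg28 yg29 zg12) (kg xg16 yg42 zg58) (kg xg31 yg40 zg41) (kg xg31 yg31 zg56) (kg xg27 yg35 zg59) (kg xg28 yg54 zg8) (kg xg16 yg43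 zg17) (kg xg19 yg35 zg14) (kg xg19 yg37 zg3) (kg xg29 yg47 zg44) (kg xg31 yg53 zg45) (kg xg16 yg43 zg5) (kg xg16 yg43 zg6) (kg xg19 yg37 zg2) (kg xg27 yg23 zg14) (kg xg19 yg37 zg19) (kg xg19 yg37 zg17)) (@D3.rec (fun _ => Pt) (kg xg19 yg36 zg43) (kg xg31 yg23 zg26) (kg xg27 yg6 zg12) (kg xg26 yg25 zg59) (kg xg22 yg20 zg28) (kg xg25 yg28 zg44) (kg xg29 yg9 zg28) (kg xg31 yg45 zg25) (kg xg19 yg36 zg58) (kg xg24 yg21 zg15) (kg xg24 yg34 zg13) (kg xg17 yg25 zg17) (kg xg28 yg14 zg55) (kg xg19 yg36 zg30) (kg xg25 yg43 zg32) (kg xg25 yg24 zg21) (kg xg25 yg5 zg53) (kg xg21 yg36 zg7) (kg xg28 yg55 zg57) (kg xg28 yg55 zg52) (kg xg29 yg12 zg2) (kg xg16 yg43 zg37) (kg xg19 yg33 zg14) (kg xg25 yg32 zg3) (kg xg16 yg46 zg3) (kg xg21 yg4 zg11) (kg xg32 yg0 zg16) (kg xg25 yg43 zg17)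 (kg xg19 yg39 zg38) (kg xg16 yg43 zg42) (kg xg22 yg1 zg55) (kg xg19 yg39 zg36) (kg xg19 yg47 zg16) (kg xg23 yg58 zg36) (kg xg27 yg56 zg5) (kg xg27 yg41 zg22) (kg xg18 yg53 zg35) (kg xg20 yg48 zg60) (kg xg19 yg8 zg47) (kg xg26 yg36 zg44) (kg xg24 yg51 zg49) (kg xg19 yg58 zg20) (kg xg19 yg41 zg6) (kg xg25 yg53 zg12) (kg xg28 yg49 zg60) (kg xg25 yg52 zg59) (kg xg16 yg44 zg4) (kg xg31 yg58 zg15) (kg xg27 yg15 zg40) (kg xg28 yg37 zg13) (kg xg18 yg44 zg6) (kg xg29 yg48 zg2) (kg xg30 yg24 zg17) (kg xg28 yg5 zg52) (kg xg29 yg48 zg26) (kg xg16 yg44 zg11) (kg xg31 yg13 zg8) (kg xg19 yg29 zg38) (kg xg16 yg44 zg12) (kg xg27 yg15 zg17) (kg xg19 yg29 zg36) (kg xg19 yg34 zg1)) (@D3.rec (fun _ => Pt) (kg xg29 yg48 zg47) (kg xg16 yg44 zg14) (kg xg27 yg2 zg27) (kg xg16 yg44 zg29) (kg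 xg28 yg36 zg40) (kg xg19 yg44 zg3) (kg xg29 yg48 zg6) (kg xg29 yg48 zg13) (kg xg16 yg44 zg18) (kg xg32 yg15 zg4) (kg xg19 yg30 zg26) (kg xg28 yg52 zg3) (kg xg19 yg28 zg30) (kg xg28 yg42 zg31) (kg xg32 yg15 zg8) (kg xg16 yg44 zg23) (kg xg29 yg26 zg5) (kg xg28 yg47 zg3) (kg xg28 yg51 zg12) (kg xg30 yg9 zg8) (kg xg17 yg33 zg3) (kg xg31 yg20 zg8) (kg xg19 yg30 zg36) (kg xg19 yg29 zg47) (kg xg31 yg28 zg26) (kg xg22 yg23 zg48) (kg xg19 yg29 zg9) (kg xg19 yg30 zg50) (kg xg29 yg8 zg55) (kg xg32 yg3 zg3) (kg xg23 yg53 zg10) (kg xg31 yg59 zg56) (kg xg19 yg30 zg44) (kg xg16 yg44 zg35) (kg xg29 yg1 zg41) (kg xg19 yg34 zg32) (kg xg21 yg8 zg38) (kg xg17 yg21 zg12) (kg xg26 yg52 zg54) (kg xg32 yg15 zg18) (kg xg16 yg44 zg45) (kg xg16 yg46 zg58) (kg xg16 yg46 zg56) (kg xg19 yg33 zg29)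 (kg xg32 yg14 zg50) (kg xg29 yg54 zg55) (kg xg16 yg44 zg50) (kg xg29 yg42 zg50) (kg xg21 yg3 zg40) (kg xg19 yg40 zg18) (kg xg21 yg57 zg53) (kg xg16 yg44 zg55) (kg xg26 yg19 zg43) (kg xg31 yg35 zg27) (kg xg29 yg22 zg26) (kg xg16 yg44 zg58) (kg xg29 yg18 zg43) (kg xg19 yg33 zg38) (kg xg17 yg1 zg3) (kg xg19 yg34 zg30) (kg xg20 yg41 zg2) (kg xg20 yg16 zg10)) (@D3.rec (fun _ => Pt) (kg xg23 yg53 zg42) (kg xg29 yg8 zg56) (kg xg19 yg43 zg6) (kg xg29 yg39 zg10) (kg xg16 yg47 zg3) (kg xg16 yg56 zg58) (kg xg29 yg1 zg43) (kg xg28 yg33 zg53) (kg xg20 yg28 zg0) (kg xg23 yg52 zg60) (kg xg16 yg45 zg17) (kg xg29 yg5 zg53) (kg xg26 yg1 zg54) (kg xg25 yg42 zg10) (kg xg32 yg15 zg29) (kg xg16 yg45 zg41) (kg xg18 yg52 zg57) (kg xg19 yg44 zg21) (kg xg19 yg45 zg6) (kg xg19 yg44 zg38) (kg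 xg16 yg45 zg30) (kg xg32 yg15 zg32) (kg xg29 yg41 zg52) (kg xg29 yg41 zg50) (kg xg16 yg45 zg36) (kg xg25 yg50 zg8) (kg xg28 yg49 zg24) (kg xg16 yg45 zg40) (kg xg31 yg46 zg44) (kg xg26 yg36 zg55) (kg xg25 yg6 zg24) (kg xg20 yg56 zg20) (kg xg17 yg52 zg46) (kg xg25 yg15 zg31) (kg xg26 yg37 zg16) (kg xg24 yg58 zg11) (kg xg24 yg58 zg23) (kg xg30 yg9 zg39) (kg xg25 yg22 zg56) (kg xg16 yg45 zg51) (kg xg31 yg46 zg54) (kg xg18 yg13 zg43) (kg xg16 yg45 zg56) (kg xg19 yg34 zg49) (kg xg31 yg59 zg8) (kg xg16 yg45 zg59) (kg xg16 yg46 zg14) (kg xg20 yg7 zg52) (kg xg19 yg49 zg54) (kg xg16 yg46 zg16) (kg xg25 yg48 zg30) (kg xg30 yg17 zg54) (kg xg27 yg43 zg36) (kg xg29 yg43 zg44) (kg xg32 yg14 zg42) (kg xg32 yg0 zg49) (kg xg19 yg28 zg1) (kg xg18 yg45 zg30) (kg xg19 yg41 zg29) (kg xg19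 yg41 zg11) (kg xg24 yg19 zg33) (kg xg19 yg41 zg41)) (@D3.rec (fun _ => Pt) (kg xg23 yg53 zg30) (kg xg28 yg55 zg39) (kg xg24 yg28 zg51) (kg xg19 yg24 zg1) (kg xg16 yg59 zg9) (kg xg23 yg53 zg29) (kg xg28 yg36 zg34) (kg xg17 yg18 zg50) (kg xg32 yg15 zg38) (kg xg31 yg50 zg31) (kg xg28 yg15 zg13) (kg xg27 yg3 zg8) (kg xg23 yg59 zg56) (kg xg17 yg34 zg16) (kg xg31 yg54 zg52) (kg xg24 yg29 zg12) (kg xg28 yg14 zg10) (kg xg32 yg15 zg40) (kg xg16 yg46 zg54) (kg xg16 yg46 zg51) (kg xg19 yg46 zg11) (kg xg16 yg46 zg53) (kg xg18 yg44 zg26) (kg xg19 yg24 zg8) (kg xg31 yg56 zg26) (kg xg24 yg12 zg20) (kg xg29 yg8 zg44) (kg xg28 yg22 zg49) (kg xg19 yg15 zg57) (kg xg19 yg12 zg18) (kg xg20 yg10 zg26) (kg xg19 yg34 zg27) (kg xg20 yg51 zg0) (kg xg29 yg25 zg33) (kg xg20 yg52 zg38) (kg xg25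 yg50 zg47) (kg xg32 yg15 zg42) (kg xg29 yg0 zg59) (kg xg25 yg47 zg29) (kg xg19 yg43 zg39) (kg xg20 yg7 zg38) (kg xg25 yg51 zg8) (kg xg21 yg57 zg20) (kg xg19 yg32 zg50) (kg xg19 yg39 zg41) (kg xg18 yg44 zg16) (kg xg24 yg58 zg9) (kg xg17 yg15 zg44) (kg xg20 yg7 zg3) (kg xg17 yg13 zg9) (kg xg28 yg54 zg56) (kg xg20 yg52 zg4) (kg xg18 yg48 zg52) (kg xg18 yg44 zg1) (kg xg16 yg47 zg45) (kg xg31 yg33 zg45) (kg xg26 yg25 zg26) (kg xg20 yg16 zg16) (kg xg16 yg50 zg36) (kg xg26 yg7 zg43) (kg xg19 yg26 zg21) (kg xg31 yg57 zg27)) (@D3.rec (fun _ => Pt) (kg xg28 yg9 zg54) (kg xg24 yg31 zg49) (kg xg26 yg10 zg12) (kg xg24 yg22 zg14) (kg xg20 yg40 zg6) (kg xg20 yg15 zg15) (kg xg21 yg35 zg44) (kg xg16 yg48 zg15) (kg xg30 yg17 zg27) (kg xg26 yg37 zg26) (kg xg32 yg15 zg45) (kg xg27 yg36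 zg25) (kg xg21 yg54 zg55) (kg xg28 yg45 zg41) (kg xg16 yg54 zg54) (kg xg25 yg43 zg19) (kg xg31 yg20 zg28) (kg xg17 yg23 zg58) (kg xg23 yg39 zg35) (kg xg22 yg59 zg51) (kg xg20 yg38 zg7) (kg xg31 yg18 zg59) (kg xg20 yg38 zg38) (kg xg29 yg31 zg20) (kg xg16 yg48 zg32) (kg xg18 yg12 zg34) (kg xg16 yg48 zg34) (kg xg20 yg35 zg16) (kg xg17 yg7 zg26) (kg xg17 yg33 zg29) (kg xg16 yg48 zg52) (kg xg16 yg48 zg39) (kg xg19 yg46 zg60) (kg xg19 yg59 zg15) (kg xg17 yg31 zg4) (kg xg19 yg47 zg44) (kg xg20 yg12 zg19) (kg xg26 yg46 zg8) (kg xg18 yg39 zg42) (kg xg29 yg58 zg41) (kg xg19 yg35 zg1) (kg xg16 yg49 zg8) (kg xg31 yg21 zg49) (kg xg17 yg58 zg54) (kg xg31 yg31 zg51) (kg xg27 yg1 zg6) (kg xg20 yg12 zg35) (kg xg31 yg49 zg15) (kg xg32 yg15 zg55) (kg xg27 yg41 zg14) (kg xg19 yg32 zg37)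 (kg xg27 yg22 zg48) (kg xg29 yg30 zg51) (kg xg20 yg42 zg0) (kg xg20 yg4 zg28) (kg xg16 yg49 zg29) (kg xg23 yg27 zg46) (kg xg20 yg4 zg26) (kg xg27 yg37 zg6) (kg xg28 yg37 zg1) (kg xg20 yg5 zg43) (kg xg28 yg9 zg44)) (@D3.rec (fun _ => Pt) (kg xg20 yg5 zg50) (kg xg20 yg5 zg49) (kg xg27 yg22 zg28) (kg xg19 yg37 zg40) (kg xg16 yg49 zg53) (kg xg28 yg40 zg56) (kg xg26 yg8 zg9) (kg xg16 yg49 zg54) (kg xg28 yg11 zg28) (kg xg28 yg11 zg52) (kg xg16 yg49 zg60) (kg xg32 yg15 zg61) (kg xg30 yg0 zg41) (kg xg19 yg55 zg11) (kg xg19 yg55 zg18) (kg xg16 yg50 zg0) (kg xg21 yg49 zg9) (kg xg26 yg7 zg50) (kg xg26 yg4 zg43) (kg xg19 yg54 zg23) (kg xg19 yg55 zg3) (kg xg32 yg16 zg3) (kg xg28 yg41 zg2) (kg xg23 yg43 zg38) (kg xg32 yg16 zg4) (kg xg16 yg50 zg8) (kg xg32 yg4 zg56) (kg xg25 yg38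 zg28) (kg xg19 yg54 zg39) (kg xg16 yg50 zg9) (kg xg32 yg16 zg10) (kg xg19 yg54 zg37) (kg xg28 yg11 zg42) (kg xg25 yg23 zg21) (kg xg25 yg23 zg25) (kg xg22 yg43 zg30) (kg xg19 yg54 zg11) (kg xg25 yg23 zg15) (kg xg25 yg22 zg33) (kg xg25 yg22 zg30) (kg xg19 yg55 zg34) (kg xg27 yg56 zg48) (kg xg29 yg49 zg45) (kg xg31 yg3 zg22) (kg xg19 yg56 zg0) (kg xg16 yg50 zg21) (kg xg32 yg16 zg15) (kg xg19 yg55 zg60) (kg xg18 yg40 zg27) (kg xg16 yg50 zg22) (kg xg19 yg54 zg12) (kg xg19 yg55 zg54) (kg xg31 yg18 zg24) (kg xg24 yg31 zg5) (kg xg16 yg50 zg27) (kg xg31 yg24 zg2) (kg xg31 yg29 zg13) (kg xg19 yg55 zg43) (kg xg16 yg50 zg28) (kg xg31 yg37 zg45) (kg xg19 yg55 zg41) (kg xg29 yg10 zg27)) (@D3.rec (fun _ => Pt) (kg xg16 yg50 zg31) (kg xg25 yg40 zg21) (kg xg28 yg58 zg41) (kg xg16 yg50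 zg34) (kg xg20 yg29 zg53) (kg xg19 yg32 zg25) (kg xg30 yg8 zg24) (kg xg22 yg4 zg44) (kg xg24 yg23 zg41) (kg xg16 yg50 zg40) (kg xg18 yg52 zg49) (kg xg23 yg25 zg7) (kg xg27 yg27 zg23) (kg xg19 yg16 zg38) (kg xg24 yg43 zg27) (kg xg27 yg28 zg9) (kg xg16 yg50 zg47) (kg xg16 yg50 zg51) (kg xg19 yg54 zg61) (kg xg31 yg44 zg58) (kg xg19 yg52 zg49) (kg xg25 yg49 zg11) (kg xg19 yg58 zg48) (kg xg28 yg14 zg6) (kg xg32 yg15 zg58) (kg xg19 yg59 zg13) (kg xg16 yg50 zg58) (kg xg25 yg40 zg7) (kg xg27 yg38 zg24) (kg xg24 yg20 zg49) (kg xg19 yg58 zg59) (kg xg31 yg9 zg14) (kg xg19 yg58 zg57) (kg xg19 yg47 zg21) (kg xg19 yg40 zg41) (kg xg18 yg3 zg3) (kg xg25 yg9 zg28) (kg xg20 yg5 zg9) (kg xg32 yg16 zg23) (kg xg19 yg55 zg55) (kg xg20 yg36 zg7) (kg xg29 yg46 zg60) (kg xg29 yg7 zg42) (kg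 xg29 yg29 zg1) (kg xg21 yg2 zg52) (kg xg20 yg1 zg6) (kg xg29 yg49 zg24) (kg xg16 yg51 zg30) (kg xg21 yg32 zg41) (kg xg28 yg1 zg37) (kg xg29 yg30 zg59) (kg xg26 yg26 zg23) (kg xg26 yg26 zg24) (kg xg24 yg31 zg0) (kg xg28 yg0 zg58) (kg xg24 yg30 zg56) (kg xg29 yg7 zg21) (kg xg21 yg16 zg14) (kg xg23 yg34 zg46) (kg xg20 yg25 zg48) (kg xg19 yg0 zg30) (kg xg20 yg10 zg8)) (@D3.rec (fun _ => Pt) (kg xg16 yg51 zg56) (kg xg25 yg57 zg14) (kg xg16 yg56 zg16) (kg xg30 yg24 zg25) (kg xg16 yg56 zg54) (kg xg25 yg18 zg10) (kg xg19 yg43 zg5) (kg xg16 yg52 zg1) (kg xg23 yg0 zg6) (kg xg32 yg16 zg26) (kg xg20 yg11 zg21) (kg xg20 yg11 zg39) (kg xg20 yg11 zg35) (kg xg32 yg16 zg28) (kg xg20 yg11 zg33) (kg xg20 yg52 zg42) (kg xg20 yg11 zg53) (kg xg23 yg0 zg12) (kg xg28 yg55 zg40) (kg xg32 yg16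 zg27) (kg xg16 yg52 zg18) (kg xg32 yg16 zg31) (kg xg28 yg20 zg58) (kg xg27 yg13 zg29) (kg xg22 yg39 zg51) (kg xg16 yg52 zg20) (kg xg22 yg16 zg10) (kg xg16 yg52 zg24) (kg xg26 yg6 zg9) (kg xg22 yg14 zg7) (kg xg16 yg55 zg52) (kg xg20 yg9 zg39) (kg xg31 yg35 zg28) (kg xg26 yg52 zg13) (kg xg21 yg9 zg35) (kg xg26 yg55 zg21) (kg xg16 yg53 zg16) (kg xg16 yg52 zg40) (kg xg28 yg28 zg16) (kg xg20 yg7 zg34) (kg xg16 yg56 zg24) (kg xg19 yg25 zg49) (kg xg19 yg51 zg40) (kg xg16 yg52 zg51) (kg xg23 yg10 zg12) (kg xg28 yg47 zg52) (kg xg20 yg29 zg47) (kg xg20 yg8 zg13) (kg xg20 yg8 zg12) (kg xg20 yg8 zg19) (kg xg16 yg53 zg1) (kg xg20 yg8 zg18) (kg xg22 yg51 zg26) (kg xg18 yg38 zg40) (kg xg16 yg53 zg20) (kg xg23 yg5 zg11) (kg xg30 yg5 zg35) (kg xg29 yg29 zg6) (kg xg17 yg1 zg47) (kg xg28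 yg15 zg52) (kg xg29 yg52 zg21) (kg xg16 yg55 zg54)) (@D3.rec (fun _ => Pt) (kg xg16 yg53 zg36) (kg xg26 yg6 zg4) (kg xg16 yg55 zg34) (kg xg16 yg53 zg37) (kg xg31 yg35 zg29) (kg xg16 yg55 zg36) (kg xg28 yg17 zg27) (kg xg27 yg50 zg47) (kg xg28 yg27 zg61) (kg xg16 yg53 zg44) (kg xg24 yg52 zg36) (kg xg29 yg15 zg0) (kg xg27 yg2 zg19) (kg xg28 yg48 zg4) (kg xg19 yg20 zg46) (kg xg29 yg28 zg55) (kg xg23 yg47 zg53) (kg xg26 yg50 zg38) (kg xg29 yg21 zg8) (kg xg29 yg38 zg35) (kg xg16 yg57 zg14) (kg xg29 yg53 zg47) (kg xg20 yg14 zg9) (kg xg20 yg40 zg50) (kg xg20 yg41 zg14) (kg xg26 yg50 zg33) (kg xg17 yg4 zg33) (kg xg18 yg1 zg18) (kg xg18 yg50 zg39) (kg xg16 yg54 zg15) (kg xg20 yg16 zg44) (kg xg20 yg16 zg12) (kg xg16 yg55 zg50) (kg xg26 yg50 zg23) (kg xg16 yg54 zg59) (kg xg18 yg55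 zg38) (kg xg16 yg54 zg29) (kg xg26 yg57 zg61) (kg xg24 yg51 zg37) (kg xg29 yg3 zg7) (kg xg28 yg30 zg20) (kg xg28 yg32 zg29) (kg xg19 yg34 zg26) (kg xg21 yg30 zg40) (kg xg29 yg39 zg26) (kg xg17 yg24 zg41) (kg xg30 yg36 zg48) (kg xg17 yg54 zg53) (kg xg16 yg55 zg31) (kg xg16 yg54 zg44) (kg xg26 yg59 zg52) (kg xg19 yg27 zg24) (kg xg26 yg52 zg46) (kg xg32 yg4 zg16) (kg xg32 yg16 zg43) (kg xg16 yg55 zg53) (kg xg17 yg6 zg37) (kg xg20 yg14 zg18) (kg xg16 yg55 zg42) (kg xg26 yg50 zg17) (kg xg25 yg19 zg53) (kg xg19 yg52 zg2)) (@D3.rec (fun _ => Pt) (kg xg17 yg0 zg37) (kg xg30 yg17 zg48) (kg xg27 yg59 zg53) (kg xg18 yg55 zg37) (kg xg29 yg6 zg32) (kg xg18 yg55 zg26) (kg xg17 yg10 zg32) (kg xg30 yg50 zg23) (kg xg18 yg50 zg17) (kg xg29 yg36 zg41) (kg xg29 yg22 zg52) (kg xg16 yg55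 zg3) (kg xg25 yg11 zg49) (kg xg24 yg22 zg55) (kg xg28 yg32 zg18) (kg xg20 yg19 zg2) (kg xg29 yg6 zg41) (kg xg19 yg35 zg38) (kg xg28 yg24 zg52) (kg xg19 yg52 zg5) (kg xg24 yg20 zg61) (kg xg28 yg45 zg48) (kg xg28 yg29 zg41) (kg xg28 yg18 zg18) (kg xg28 yg45 zg47) (kg xg20 yg45 zg61) (kg xg24 yg4 zg46) (kg xg16 yg55 zg25) (kg xg16 yg55 zg18) (kg xg21 yg16 zg4) (kg xg16 yg55 zg23) (kg xg24 yg4 zg53) (kg xg23 yg12 zg53) (kg xg16 yg55 zg21) (kg xg27 yg5 zg17) (kg xg29 yg55 zg53) (kg xg29 yg56 zg7) (kg xg29 yg3 zg9) (kg xg32 yg16 zg48) (kg xg16 yg55 zg24) (kg xg30 yg25 zg17) (kg xg32 yg16 zg47) (kg xg16 yg55 zg29) (kg xg27 yg43 zg37) (kg xg26 yg39 zg47) (kg xg24 yg21 zg30) (kg xg26 yg39 zg49) (kg xg17 yg6 zg33) (kg xg24 yg13 zg5) (kg xg17 yg6 zg13) (kg xg16 yg55 zg32) (kg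 xg19 yg19 zg27) (kg xg28 yg39 zg45) (kg xg32 yg16 zg36) (kg xg23 yg4 zg1) (kg xg30 yg36 zg30) (kg xg30 yg37 zg31) (kg xg30 yg36 zg51) (kg xg29 yg35 zg54) (kg xg32 yg16 zg37) (kg xg16 yg55 zg37) (kg xg22 yg13 zg51)) (@D3.rec (fun _ => Pt) (kg xg23 yg34 zg31) (kg xg16 yg55 zg40) (kg xg31 yg13 zg25) (kg xg17 yg6 zg49) (kg xg29 yg19 zg41) (kg xg30 yg39 zg6) (kg xg29 yg21 zg43) (kg xg16 yg55 zg47) (kg xg16 yg55 zg43) (kg xg32 yg15 zg7) (kg xg17 yg6 zg12) (kg xg16 yg55 zg48) (kg xg16 yg55 zg46) (kg xg26 yg50 zg19) (kg xg30 yg30 zg27) (kg xg28 yg17 zg60) (kg xg19 yg31 zg49) (kg xg26 yg53 zg55) (kg xg20 yg57 zg60) (kg xg20 yg39 zg1) (kg xg16 yg55 zg56) (kg xg32 yg17 zg3) (kg xg20 yg55 zg34) (kg xg24 yg3 zg23) (kg xg20 yg57 zg10) (kg xg20 yg53 zg19) (kg xg16 yg55 zg60) (kg xg32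 yg17 zg7) (kg xg19 yg34 zg14) (kg xg16 yg55 zg61) (kg xg27 yg42 zg24) (kg xg32 yg17 zg10) (kg xg28 yg32 zg42) (kg xg26 yg55 zg12) (kg xg19 yg59 zg5) (kg xg27 yg12 zg18) (kg xg17 yg8 zg18) (kg xg31 yg39 zg23) (kg xg29 yg16 zg10) (kg xg32 yg17 zg12) (kg xg16 yg56 zg10) (kg xg28 yg38 zg46) (kg xg32 yg17 zg11) (kg xg20 yg20 zg2) (kg xg27 yg11 zg51) (kg xg16 yg56 zg13) (kg xg26 yg52 zg4) (kg xg18 yg42 zg57) (kg xg20 yg14 zg42) (kg xg21 yg1 zg48) (kg xg31 yg39 zg6) (kg xg29 yg7 zg58) (kg xg16 yg56 zg40) (kg xg16 yg56 zg41) (kg xg28 yg45 zg5) (kg xg32 yg17 zg18) (kg xg19 yg43 zg18) (kg xg26 yg43 zg38) (kg xg18 yg43 zg23) (kg xg26 yg44 zg1) (kg xg16 yg56 zg46) (kg xg23 yg54 zg0)) (@D3.rec (fun _ => Pt) (kg xg17 yg17 zg4) (kg xg27 yg41 zg26) (kg xg18 yg50 zg7) (kg xg32 yg17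 zg20) (kg xg29 yg55 zg8) (kg xg20 yg20 zg10) (kg xg20 yg20 zg20) (kg xg19 yg52 zg20) (kg xg20 yg20 zg8) (kg xg26 yg45 zg26) (kg xg30 yg48 zg48) (kg xg26 yg48 zg48) (kg xg17 yg56 zg57) (kg xg26 yg56 zg43) (kg xg20 yg22 zg31) (kg xg32 yg3 zg13) (kg xg24 yg52 zg61) (kg xg17 yg29 zg48) (kg xg21 yg52 zg20) (kg xg20 yg34 zg6) (kg xg17 yg21 zg10) (kg xg16 yg58 zg0) (kg xg20 yg27 zg1) (kg xg23 yg49 zg27) (kg xg16 yg57 zg48) (kg xg31 yg50 zg15) (kg xg20 yg1 zg45) (kg xg29 yg43 zg46) (kg xg17 yg18 zg43) (kg xg16 yg58 zg20) (kg xg29 yg35 zg49) (kg xg16 yg58 zg18) (kg xg16 yg58 zg40) (kg xg16 yg58 zg4) (kg xg25 yg20 zg3) (kg xg24 yg51 zg52) (kg xg16 yg58 zg38) (kg xg32 yg17 zg27) (kg xg24 yg4 zg29) (kg xg19 yg59 zg21) (kg xg16 yg58 zg8) (kg xg31 yg39 zg38) (kg xg32 yg17 zg28) (kg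 xg30 yg34 zg41) (kg xg31 yg28 zg2) (kg xg30 yg30 zg25) (kg xg32 yg17 zg30) (kg xg28 yg9 zg18) (kg xg23 yg48 zg6) (kg xg20 yg41 zg57) (kg xg32 yg17 zg24) (kg xg16 yg58 zg19) (kg xg30 yg7 zg2) (kg xg31 yg28 zg39) (kg xg29 yg35 zg51) (kg xg26 yg52 zg14) (kg xg16 yg58 zg21) (kg xg16 yg58 zg28) (kg xg16 yg58 zg22) (kg xg30 yg18 zg30) (kg xg31 yg29 zg59) (kg xg16 yg58 zg23)) (@D3.rec (fun _ => Pt) (kg xg16 yg58 zg30) (kg xg16 yg58 zg24) (kg xg29 yg36 zg3) (kg xg20 yg27 zg4) (kg xg24 yg19 zg52) (kg xg27 yg56 zg25) (kg xg27 yg16 zg50) (kg xg28 yg18 zg57) (kg xg20 yg49 zg13) (kg xg20 yg27 zg9) (kg xg29 yg35 zg32) (kg xg29 yg7 zg12) (kg xg26 yg46 zg51) (kg xg29 yg15 zg23) (kg xg31 yg42 zg1) (kg xg19 yg58 zg2) (kg xg22 yg7 zg50) (kg xg32 yg17 zg26) (kg xg16 yg58 zg39) (kg xg29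 yg8 zg30) (kg xg27 yg37 zg5) (kg xg28 yg9 zg2) (kg xg20 yg54 zg18) (kg xg29 yg46 zg59) (kg xg29 yg15 zg21) (kg xg31 yg51 zg27) (kg xg32 yg17 zg46) (kg xg31 yg53 zg17) (kg xg29 yg15 zg6) (kg xg32 yg17 zg51) (kg xg26 yg9 zg50) (kg xg19 yg56 zg34) (kg xg29 yg27 zg25) (kg xg28 yg36 zg55) (kg xg29 yg15 zg19) (kg xg20 yg58 zg35) (kg xg31 yg17 zg53) (kg xg16 yg58 zg56) (kg xg31 yg56 zg60) (kg xg29 yg35 zg37) (kg xg30 yg27 zg6) (kg xg31 yg24 zg35) (kg xg32 yg17 zg54) (kg xg32 yg17 zg61) (kg xg32 yg17 zg29) (kg xg16 yg58 zg60) (kg xg24 yg49 zg45) (kg xg20 yg54 zg20) (kg xg16 yg59 zg0) (kg xg29 yg36 zg4) (kg xg20 yg26 zg29) (kg xg29 yg15 zg4) (kg xg29 yg4 zg10) (kg xg27 yg15 zg55) (kg xg22 yg5 zg13) (kg xg24 yg36 zg34) (kg xg25 yg38 zg9) (kg xg17 yg4 zg5) (kg xg29 yg5 zg59) (kg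 xg30 yg49 zg7) (kg xg29 yg6 zg4) (kg xg25 yg7 zg26)) (@D3.rec (fun _ => Pt) (kg xg32 yg18 zg6) (kg xg25 yg13 zg24) (kg xg32 yg18 zg7) (kg xg30 yg14 zg14) (kg xg27 yg22 zg47) (kg xg22 yg37 zg4) (kg xg17 yg9 zg46) (kg xg28 yg1 zg34) (kg xg28 yg1 zg42) (kg xg16 yg59 zg39) (kg xg21 yg30 zg23) (kg xg16 yg59 zg48) (kg xg26 yg50 zg20) (kg xg17 yg0 zg1) (kg xg28 yg1 zg14) (kg xg17 yg0 zg0) (kg xg21 yg41 zg39) (kg xg27 yg51 zg16) (kg xg20 yg21 zg51) (kg xg25 yg39 zg52) (kg xg17 yg0 zg7) (kg xg25 yg17 zg31) (kg xg28 yg1 zg31) (kg xg21 yg44 zg61) (kg xg21 yg41 zg6) (kg xg17 yg52 zg8) (kg xg26 yg29 zg30) (kg xg25 yg52 zg9) (kg xg20 yg50 zg52) (kg xg29 yg24 zg3) (kg xg29 yg14 zg46) (kg xg20 yg8 zg51) (kg xg20 yg30 zg19) (kg xg17 yg0 zg27) (kg xg20 yg31 zg27) (kg xg20 yg30 zg17)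 (kg xg26 yg49 zg57) (kg xg17 yg1 zg35) (kg xg17 yg0 zg58) (kg xg30 yg46 zg34) (kg xg17 yg1 zg9) (kg xg17 yg0 zg40) (kg xg17 yg1 zg7) (kg xg23 yg2 zg16) (kg xg31 yg42 zg4) (kg xg17 yg1 zg18) (kg xg17 yg2 zg8) (kg xg17 yg0 zg47) (kg xg21 yg10 zg22) (kg xg20 yg8 zg55) (kg xg28 yg43 zg15) (kg xg17 yg58 zg34) (kg xg21 yg11 zg23) (kg xg26 yg56 zg45) (kg xg17 yg28 zg55) (kg xg17 yg0 zg52) (kg xg19 yg11 zg24) (kg xg17 yg0 zg53) (kg xg28 yg50 zg14) (kg xg17 yg2 zg2) (kg xg20 yg31 zg52) (kg xg32 yg18 zg13)) (@D3.rec (fun _ => Pt) (kg xg30 yg46 zg38) (kg xg28 yg15 zg4) (kg xg31 yg50 zg33) (kg xg20 yg34 zg4) (kg xg20 yg18 zg12) (kg xg20 yg34 zg3) (kg xg32 yg9 zg4) (kg xg23 yg0 zg7) (kg xg17 yg1 zg4) (kg xg17 yg1 zg1) (kg xg26 yg21 zg28) (kg xg27 yg5 zg19) (kg xg26 yg20 zg26) (kg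 xg26 yg26 zg43) (kg xg29 yg20 zg15) (kg xg22 yg48 zg9) (kg xg26 yg28 zg60) (kg xg17 yg1 zg10) (kg xg31 yg22 zg43) (kg xg27 yg42 zg26) (kg xg27 yg42 zg25) (kg xg22 yg49 zg15) (kg xg17 yg1 zg12) (kg xg26 yg27 zg31) (kg xg32 yg18 zg20) (kg xg17 yg1 zg15) (kg xg30 yg53 zg40) (kg xg20 yg19 zg4) (kg xg20 yg48 zg21) (kg xg29 yg28 zg20) (kg xg29 yg21 zg16) (kg xg29 yg30 zg35) (kg xg28 yg24 zg6) (kg xg17 yg2 zg3) (kg xg17 yg1 zg20) (kg xg28 yg20 zg18) (kg xg17 yg1 zg22) (kg xg17 yg1 zg27) (kg xg19 yg11 zg39) (kg xg28 yg0 zg46) (kg xg30 yg45 zg37) (kg xg28 yg34 zg39) (kg xg17 yg1 zg41) (kg xg30 yg55 zg46) (kg xg28 yg29 zg29) (kg xg20 yg28 zg14) (kg xg27 yg44 zg14) (kg xg32 yg16 zg49) (kg xg17 yg1 zg44) (kg xg32 yg18 zg11) (kg xg29 yg34 zg17) (kg xg29 yg40 zg54) (kg xg32 yg18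 zg30) (kg xg28 yg52 zg21) (kg xg30 yg44 zg13) (kg xg31 yg17 zg57) (kg xg28 yg33 zg52) (kg xg17 yg1 zg51) (kg xg29 yg55 zg45) (kg xg17 yg1 zg52) (kg xg31 yg30 zg39) (kg xg31 yg28 zg22)) (@D3.rec (fun _ => Pt) (kg xg17 yg1 zg57) (kg xg17 yg1 zg53) (kg xg29 yg38 zg14) (kg xg17 yg1 zg54) (kg xg23 yg57 zg29) (kg xg31 yg17 zg59) (kg xg24 yg25 zg53) (kg xg24 yg26 zg13) (kg xg24 yg26 zg14) (kg xg31 yg33 zg20) (kg xg32 yg0 zg28) (kg xg28 yg48 zg52) (kg xg28 yg39 zg34) (kg xg24 yg19 zg29) (kg xg17 yg1 zg61) (kg xg24 yg39 zg38) (kg xg29 yg53 zg32) (kg xg29 yg34 zg28) (kg xg28 yg52 zg22) (kg xg30 yg30 zg11) (kg xg32 yg18 zg39) (kg xg22 yg19 zg16) (kg xg21 yg59 zg56) (kg xg17 yg2 zg4) (kg xg21 yg59 zg60) (kg xg20 yg42 zg6) (kg xg17 yg4 zg3) (kg xg21 yg1 zg37) (kg xg17 yg2 zg12)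 (kg xg20 yg38 zg56) (kg xg20 yg38 zg55) (kg xg32 yg12 zg16) (kg xg29 yg45 zg31) (kg xg20 yg1 zg5) (kg xg20 yg36 zg40) (kg xg29 yg2 zg35) (kg xg24 yg8 zg15) (kg xg26 yg27 zg41) (kg xg20 yg13 zg28) (kg xg24 yg31 zg38) (kg xg30 yg57 zg56) (kg xg24 yg30 zg61) (kg xg17 yg3 zg41) (kg xg17 yg3 zg43) (kg xg19 yg0 zg1) (kg xg17 yg2 zg55) (kg xg23 yg52 zg27) (kg xg18 yg23 zg45) (kg xg27 yg57 zg50) (kg xg29 yg53 zg18) (kg xg17 yg3 zg0) (kg xg18 yg38 zg2) (kg xg20 yg51 zg53) (kg xg26 yg57 zg54) (kg xg26 yg57 zg52) (kg xg21 yg20 zg27) (kg xg29 yg48 zg51) (kg xg28 yg26 zg34) (kg xg17 yg3 zg21) (kg xg18 yg21 zg21) (kg xg17 yg3 zg23) (kg xg26 yg49 zg30)) (@D3.rec (fun _ => Pt) (kg xg23 yg38 zg6) (kg xg28 yg29 zg7) (kg xg28 yg50 zg54) (kg xg17 yg3 zg38) (kg xg17 yg3 zg36) (kg xg26 yg49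 zg44) (kg xg22 yg32 zg15) (kg xg18 yg59 zg16) (kg xg17 yg58 zg24) (kg xg29 yg7 zg25) (kg xg20 yg35 zg53) (kg xg29 yg28 zg26) (kg xg30 yg55 zg44) (kg xg17 yg3 zg45) (kg xg28 yg24 zg24) (kg xg31 yg25 zg54) (kg xg30 yg43 zg39) (kg xg17 yg3 zg47) (kg xg29 yg12 zg13) (kg xg20 yg22 zg56) (kg xg28 yg25 zg2) (kg xg28 yg25 zg15) (kg xg25 yg57 zg31) (kg xg21 yg4 zg7) (kg xg28 yg1 zg40) (kg xg27 yg38 zg52) (kg xg20 yg19 zg60) (kg xg18 yg18 zg38) (kg xg21 yg36 zg30) (kg xg31 yg57 zg26) (kg xg19 yg56 zg52) (kg xg23 yg44 zg54) (kg xg31 yg12 zg56) (kg xg17 yg4 zg12) (kg xg27 yg36 zg56) (kg xg21 yg40 zg44) (kg xg17 yg4 zg16) (kg xg32 yg18 zg48) (kg xg21 yg40 zg42) (kg xg17 yg4 zg19) (kg xg17 yg5 zg56) (kg xg21 yg45 zg33) (kg xg17 yg4 zg22) (kg xg26 yg59 zg43) (kg xg27 yg35 zg29) (kg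 xg18 yg1 zg17) (kg xg25 yg17 zg34) (kg xg17 yg4 zg36) (kg xg26 yg37 zg22) (kg xg30 yg30 zg24) (kg xg29 yg44 zg58) (kg xg29 yg14 zg52) (kg xg21 yg31 zg60) (kg xg17 yg4 zg46) (kg xg17 yg4 zg51) (kg xg29 yg42 zg22) (kg xg26 yg5 zg32) (kg xg29 yg42 zg24) (kg xg21 yg33 zg8) (kg xg17 yg4 zg57) (kg xg17 yg4 zg55) (kg xg32 yg8 zg5)) (@D3.rec (fun _ => Pt) (kg xg25 yg33 zg57) (kg xg21 yg32 zg14) (kg xg17 yg5 zg0) (kg xg22 yg3 zg40) (kg xg20 yg16 zg43) (kg xg17 yg59 zg31) (kg xg28 yg36 zg47) (kg xg18 yg25 zg9) (kg xg21 yg50 zg56) (kg xg17 yg5 zg27) (kg xg21 yg50 zg54) (kg xg18 yg13 zg44) (kg xg27 yg37 zg39) (kg xg21 yg50 zg59) (kg xg21 yg40 zg35) (kg xg21 yg34 zg11) (kg xg29 yg13 zg43) (kg xg31 yg11 zg28) (kg xg17 yg5 zg50) (kg xg17 yg5 zg53) (kg xg26 yg59 zg6) (kg xg29 yg58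 zg58) (kg xg26 yg39 zg42) (kg xg26 yg39 zg48) (kg xg17 yg5 zg57) (kg xg29 yg47 zg39) (kg xg21 yg20 zg59) (kg xg25 yg17 zg28) (kg xg25 yg17 zg16) (kg xg17 yg6 zg8) (kg xg21 yg40 zg40) (kg xg17 yg6 zg45) (kg xg17 yg6 zg27) (kg xg17 yg6 zg3) (kg xg31 yg50 zg58) (kg xg27 yg35 zg55) (kg xg17 yg6 zg4) (kg xg18 yg39 zg41) (kg xg27 yg36 zg38) (kg xg24 yg22 zg47) (kg xg25 yg17 zg32) (kg xg24 yg18 zg3) (kg xg24 yg18 zg1) (kg xg26 yg41 zg11) (kg xg26 yg58 zg43) (kg xg27 yg36 zg36) (kg xg24 yg25 zg17) (kg xg19 yg48 zg54) (kg xg21 yg15 zg47) (kg xg23 yg46 zg0) (kg xg26 yg50 zg50) (kg xg18 yg48 zg42) (kg xg26 yg38 zg60) (kg xg30 yg31 zg20) (kg xg20 yg28 zg12) (kg xg31 yg53 zg26) (kg xg21 yg9 zg45) (kg xg19 yg19 zg17) (kg xg30 yg28 zg35) (kg xg18 yg0 zg39) (kg xg24 yg22 zg45) (kg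 xg32 yg15 zg37))
def f_g_27 : D2 → D3 → Pt := @D2.rec (fun _ => D3 → Pt) (@D3.rec (fun _ => Pt) (kg xg20 yg36 zg45) (kg xg17 yg6 zg52) (kg xg20 yg37 zg27) (kg xg31 yg31 zg35) (kg xg17 yg28 zg51) (kg xg32 yg11 zg20) (kg xg20 yg38 zg48) (kg xg17 yg6 zg55) (kg xg20 yg39 zg45) (kg xg26 yg37 zg21) (kg xg20 yg29 zg57) (kg xg20 yg57 zg23) (kg xg17 yg6 zg60) (kg xg29 yg31 zg31) (kg xg32 yg18 zg58) (kg xg32 yg12 zg12) (kg xg26 yg38 zg25) (kg xg17 yg7 zg0) (kg xg30 yg17 zg18) (kg xg29 yg0 zg61) (kg xg26 yg37 zg59) (kg xg17 yg7 zg7) (kg xg24 yg14 zg35) (kg xg24 yg3 zg25) (kg xg32 yg19 zg3) (kg xg32 yg19 zg6) (kg xg31 yg33 zg2) (kg xg30 yg17 zg16) (kg xg17 yg7 zg8) (kg xg20 yg57 zg6) (kg xg25 yg8 zg9) (kg xg29 yg33 zg40) (kg xg29 yg43 zg21) (kg xg29 yg43 zg16) (kg xg17 yg7 zg12)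 (kg xg20 yg37 zg24) (kg xg26 yg35 zg1) (kg xg32 yg19 zg0) (kg xg20 yg57 zg9) (kg xg32 yg19 zg17) (kg xg32 yg19 zg19) (kg xg30 yg29 zg27) (kg xg17 yg7 zg16) (kg xg32 yg18 zg42) (kg xg20 yg23 zg31) (kg xg31 yg14 zg18) (kg xg20 yg23 zg27) (kg xg21 yg42 zg34) (kg xg18 yg48 zg30) (kg xg29 yg14 zg0) (kg xg20 yg35 zg20) (kg xg20 yg51 zg61) (kg xg17 yg7 zg50) (kg xg20 yg52 zg21) (kg xg20 yg20 zg7) (kg xg17 yg8 zg10) (kg xg26 yg26 zg38) (kg xg23 yg3 zg52) (kg xg17 yg10 zg7) (kg xg21 yg30 zg20) (kg xg30 yg52 zg58) (kg xg26 yg30 zg4)) (@D3.rec (fun _ => Pt) (kg xg29 yg20 zg4) (kg xg20 yg29 zg54) (kg xg29 yg6 zg13) (kg xg20 yg29 zg50) (kg xg20 yg22 zg13) (kg xg19 yg23 zg26) (kg xg18 yg39 zg50) (kg xg28 yg36 zg56) (kg xg27 yg36 zg59) (kg xg19 yg17 zg13) (kg xg32 yg15 zg33) (kg xg31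 yg26 zg15) (kg xg28 yg32 zg20) (kg xg17 yg9 zg3) (kg xg17 yg9 zg6) (kg xg24 yg31 zg25) (kg xg31 yg59 zg21) (kg xg23 yg54 zg39) (kg xg26 yg50 zg53) (kg xg24 yg31 zg15) (kg xg17 yg44 zg9) (kg xg25 yg3 zg58) (kg xg30 yg2 zg26) (kg xg31 yg59 zg20) (kg xg20 yg32 zg21) (kg xg30 yg7 zg40) (kg xg22 yg6 zg5) (kg xg26 yg45 zg59) (kg xg31 yg50 zg37) (kg xg18 yg57 zg42) (kg xg20 yg39 zg60) (kg xg17 yg9 zg58) (kg xg27 yg38 zg6) (kg xg31 yg28 zg13) (kg xg25 yg8 zg57) (kg xg30 yg20 zg19) (kg xg19 yg57 zg10) (kg xg29 yg4 zg57) (kg xg29 yg57 zg14) (kg xg17 yg44 zg3) (kg xg29 yg56 zg33) (kg xg24 yg37 zg41) (kg xg17 yg44 zg8) (kg xg17 yg27 zg23) (kg xg27 yg17 zg49) (kg xg29 yg56 zg39) (kg xg17 yg10 zg18) (kg xg31 yg5 zg34) (kg xg29 yg55 zg61) (kg xg17 yg27 zg56) (kg xg27 yg17 zg57) (kg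 xg27 yg17 zg55) (kg xg17 yg10 zg27) (kg xg23 yg39 zg9) (kg xg30 yg1 zg44) (kg xg26 yg4 zg47) (kg xg22 yg7 zg29) (kg xg24 yg18 zg39) (kg xg28 yg21 zg46) (kg xg29 yg30 zg42) (kg xg27 yg6 zg23) (kg xg27 yg13 zg36)) (@D3.rec (fun _ => Pt) (kg xg17 yg11 zg49) (kg xg23 yg47 zg6) (kg xg30 yg20 zg4) (kg xg17 yg10 zg41) (kg xg17 yg10 zg59) (kg xg25 yg18 zg17) (kg xg23 yg46 zg35) (kg xg31 yg58 zg52) (kg xg29 yg18 zg21) (kg xg17 yg10 zg49) (kg xg17 yg18 zg60) (kg xg17 yg10 zg50) (kg xg32 yg19 zg25) (kg xg17 yg18 zg58) (kg xg32 yg19 zg27) (kg xg32 yg19 zg29) (kg xg28 yg25 zg5) (kg xg30 yg28 zg51) (kg xg24 yg10 zg1) (kg xg23 yg36 zg31) (kg xg23 yg58 zg21) (kg xg28 yg16 zg31) (kg xg17 yg24 zg31) (kg xg17 yg11 zg7) (kg xg27 yg8 zg51) (kg xg17 yg24 zg29) (kg xg29 yg56 zg1) (kg xg28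 yg16 zg44) (kg xg24 yg10 zg60) (kg xg22 yg13 zg10) (kg xg22 yg16 zg41) (kg xg20 yg27 zg38) (kg xg23 yg19 zg9) (kg xg17 yg11 zg20) (kg xg20 yg47 zg40) (kg xg17 yg11 zg23) (kg xg22 yg16 zg39) (kg xg29 yg8 zg21) (kg xg18 yg46 zg20) (kg xg26 yg39 zg19) (kg xg21 yg16 zg41) (kg xg17 yg11 zg36) (kg xg29 yg5 zg35) (kg xg27 yg12 zg16) (kg xg28 yg21 zg55) (kg xg18 yg14 zg40) (kg xg27 yg8 zg0) (kg xg18 yg31 zg25) (kg xg17 yg11 zg43) (kg xg26 yg31 zg48) (kg xg24 yg10 zg28) (kg xg17 yg11 zg44) (kg xg17 yg22 zg24) (kg xg27 yg59 zg49) (kg xg31 yg53 zg49) (kg xg25 yg43 zg26) (kg xg17 yg11 zg46) (kg xg22 yg24 zg31) (kg xg20 yg22 zg8) (kg xg30 yg54 zg8) (kg xg31 yg45 zg55) (kg xg22 yg7 zg8)) (@D3.rec (fun _ => Pt) (kg xg32 yg19 zg34) (kg xg29 yg37 zg37) (kg xg28 yg34 zg12) (kg xg17 yg11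 zg59) (kg xg29 yg53 zg17) (kg xg30 yg43 zg40) (kg xg31 yg53 zg23) (kg xg17 yg11 zg61) (kg xg17 yg12 zg1) (kg xg22 yg0 zg45) (kg xg31 yg58 zg55) (kg xg17 yg17 zg57) (kg xg20 yg27 zg17) (kg xg17 yg18 zg38) (kg xg29 yg56 zg38) (kg xg32 yg0 zg35) (kg xg18 yg18 zg30) (kg xg21 yg45 zg3) (kg xg20 yg40 zg54) (kg xg29 yg30 zg32) (kg xg19 yg50 zg43) (kg xg27 yg39 zg9) (kg xg28 yg12 zg29) (kg xg30 yg17 zg60) (kg xg21 yg9 zg33) (kg xg17 yg12 zg31) (kg xg20 yg13 zg45) (kg xg28 yg32 zg11) (kg xg21 yg40 zg7) (kg xg21 yg3 zg15) (kg xg20 yg1 zg21) (kg xg29 yg50 zg0) (kg xg26 yg32 zg49) (kg xg18 yg40 zg48) (kg xg17 yg12 zg50) (kg xg25 yg0 zg5) (kg xg29 yg30 zg11) (kg xg32 yg19 zg46) (kg xg27 yg55 zg60) (kg xg23 yg28 zg59) (kg xg17 yg13 zg11) (kg xg26 yg10 zg54) (kg xg27 yg12 zg54) (kg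 xg17 yg13 zg16) (kg xg21 yg34 zg54) (kg xg22 yg8 zg58) (kg xg26 yg11 zg0) (kg xg17 yg13 zg29) (kg xg30 yg0 zg50) (kg xg17 yg42 zg33) (kg xg30 yg14 zg39) (kg xg27 yg17 zg61) (kg xg29 yg52 zg1) (kg xg21 yg18 zg0) (kg xg22 yg6 zg2) (kg xg28 yg47 zg4) (kg xg21 yg31 zg17) (kg xg30 yg8 zg55) (kg xg21 yg22 zg59) (kg xg21 yg22 zg58) (kg xg25 yg32 zg47) (kg xg21 yg4 zg43)) (@D3.rec (fun _ => Pt) (kg xg25 yg31 zg5) (kg xg26 yg11 zg21) (kg xg22 yg3 zg14) (kg xg17 yg13 zg48) (kg xg24 yg42 zg49) (kg xg21 yg22 zg21) (kg xg17 yg13 zg51) (kg xg21 yg22 zg20) (kg xg24 yg38 zg26) (kg xg25 yg37 zg43) (kg xg21 yg46 zg15) (kg xg25 yg37 zg41) (kg xg30 yg10 zg7) (kg xg27 yg23 zg36) (kg xg31 yg39 zg46) (kg xg17 yg14 zg1) (kg xg29 yg57 zg58) (kg xg26 yg25 zg22) (kg xg17 yg14 zg6) (kg xg17 yg14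 zg2) (kg xg28 yg19 zg9) (kg xg17 yg14 zg7) (kg xg17 yg43 zg53) (kg xg21 yg25 zg29) (kg xg23 yg44 zg36) (kg xg21 yg24 zg20) (kg xg17 yg14 zg13) (kg xg21 yg24 zg19) (kg xg30 yg2 zg33) (kg xg21 yg55 zg16) (kg xg30 yg12 zg56) (kg xg21 yg19 zg22) (kg xg29 yg32 zg48) (kg xg23 yg44 zg28) (kg xg29 yg58 zg22) (kg xg17 yg14 zg18) (kg xg30 yg0 zg45) (kg xg17 yg14 zg19) (kg xg31 yg7 zg61) (kg xg30 yg0 zg43) (kg xg17 yg14 zg20) (kg xg30 yg12 zg47) (kg xg24 yg30 zg46) (kg xg25 yg42 zg61) (kg xg25 yg42 zg6) (kg xg21 yg26 zg52) (kg xg21 yg26 zg48) (kg xg30 yg14 zg22) (kg xg21 yg25 zg48) (kg xg26 yg16 zg45) (kg xg17 yg14 zg40) (kg xg21 yg27 zg3) (kg xg17 yg14 zg41) (kg xg21 yg27 zg2) (kg xg25 yg44 zg5) (kg xg21 yg27 zg7) (kg xg21 yg30 zg29) (kg xg27 yg23 zg34) (kg xg23 yg41 zg21) (kg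 xg17 yg14 zg47) (kg xg25 yg36 zg57) (kg xg29 yg4 zg48)) (@D3.rec (fun _ => Pt) (kg xg31 yg49 zg40) (kg xg29 yg3 zg38) (kg xg30 yg8 zg35) (kg xg25 yg6 zg21) (kg xg29 yg24 zg16) (kg xg17 yg14 zg61) (kg xg24 yg30 zg19) (kg xg17 yg15 zg4) (kg xg20 yg47 zg42) (kg xg24 yg25 zg26) (kg xg27 yg8 zg16) (kg xg24 yg30 zg20) (kg xg17 yg15 zg5) (kg xg26 yg27 zg29) (kg xg17 yg15 zg11) (kg xg29 yg40 zg5) (kg xg26 yg28 zg41) (kg xg22 yg32 zg16) (kg xg26 yg28 zg5) (kg xg23 yg14 zg51) (kg xg22 yg32 zg54) (kg xg29 yg29 zg54) (kg xg26 yg28 zg24) (kg xg26 yg28 zg23) (kg xg24 yg47 zg30) (kg xg32 yg10 zg17) (kg xg22 yg51 zg52) (kg xg25 yg1 zg37) (kg xg17 yg15 zg28) (kg xg27 yg33 zg8) (kg xg21 yg4 zg18) (kg xg29 yg28 zg49) (kg xg20 yg32 zg53) (kg xg21 yg15 zg42) (kg xg29 yg29 zg44) (kg xg21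 yg15 zg40) (kg xg30 yg44 zg39) (kg xg20 yg8 zg52) (kg xg21 yg15 zg31) (kg xg18 yg53 zg51) (kg xg21 yg15 zg29) (kg xg17 yg15 zg60) (kg xg27 yg29 zg20) (kg xg18 yg13 zg59) (kg xg32 yg19 zg60) (kg xg21 yg31 zg56) (kg xg17 yg16 zg5) (kg xg21 yg31 zg55) (kg xg26 yg17 zg3) (kg xg27 yg30 zg38) (kg xg21 yg42 zg13) (kg xg29 yg23 zg28) (kg xg27 yg20 zg57) (kg xg21 yg27 zg56) (kg xg21 yg59 zg7) (kg xg30 yg8 zg11) (kg xg18 yg56 zg61) (kg xg20 yg19 zg23) (kg xg17 yg16 zg17) (kg xg26 yg6 zg7) (kg xg31 yg55 zg14) (kg xg19 yg51 zg50)) (@D3.rec (fun _ => Pt) (kg xg26 yg5 zg36) (kg xg17 yg16 zg23) (kg xg31 yg16 zg20) (kg xg21 yg27 zg35) (kg xg26 yg4 zg16) (kg xg27 yg38 zg26) (kg xg25 yg33 zg59) (kg xg31 yg27 zg59) (kg xg25 yg23 zg61) (kg xg25 yg4 zg30) (kg xg17 yg19 zg19) (kg xg27 yg8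 zg23) (kg xg27 yg11 zg7) (kg xg31 yg27 zg34) (kg xg21 yg39 zg35) (kg xg17 yg16 zg53) (kg xg21 yg39 zg34) (kg xg32 yg1 zg61) (kg xg22 yg52 zg46) (kg xg25 yg29 zg44) (kg xg30 yg19 zg56) (kg xg30 yg20 zg21) (kg xg27 yg15 zg36) (kg xg27 yg1 zg57) (kg xg29 yg30 zg37) (kg xg32 yg20 zg4) (kg xg28 yg13 zg56) (kg xg27 yg10 zg17) (kg xg21 yg38 zg46) (kg xg17 yg18 zg32) (kg xg30 yg28 zg38) (kg xg32 yg20 zg9) (kg xg27 yg59 zg38) (kg xg20 yg46 zg25) (kg xg17 yg21 zg29) (kg xg28 yg25 zg17) (kg xg17 yg17 zg12) (kg xg17 yg22 zg43) (kg xg21 yg46 zg21) (kg xg17 yg17 zg17) (kg xg27 yg11 zg2) (kg xg18 yg57 zg47) (kg xg30 yg21 zg51) (kg xg32 yg20 zg12) (kg xg28 yg53 zg2) (kg xg27 yg16 zg59) (kg xg30 yg21 zg49) (kg xg32 yg20 zg17) (kg xg17 yg17 zg24) (kg xg27 yg8 zg48) (kg xg27 yg8 zg53)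 (kg xg22 yg13 zg49) (kg xg17 yg17 zg26) (kg xg30 yg5 zg8) (kg xg17 yg17 zg29) (kg xg30 yg5 zg7) (kg xg27 yg8 zg46) (kg xg30 yg5 zg55) (kg xg18 yg56 zg25) (kg xg23 yg48 zg47) (kg xg22 yg25 zg57) (kg xg30 yg7 zg1)) (@D3.rec (fun _ => Pt) (kg xg29 yg48 zg28) (kg xg27 yg16 zg61) (kg xg29 yg9 zg24) (kg xg17 yg17 zg36) (kg xg32 yg19 zg28) (kg xg29 yg1 zg61) (kg xg29 yg48 zg15) (kg xg32 yg20 zg31) (kg xg32 yg20 zg25) (kg xg32 yg19 zg30) (kg xg17 yg17 zg39) (kg xg30 yg39 zg22) (kg xg27 yg7 zg60) (kg xg22 yg7 zg18) (kg xg32 yg20 zg15) (kg xg32 yg20 zg22) (kg xg30 yg38 zg48) (kg xg17 yg17 zg42) (kg xg27 yg9 zg44) (kg xg28 yg25 zg32) (kg xg20 yg43 zg14) (kg xg17 yg17 zg44) (kg xg32 yg20 zg45) (kg xg32 yg20 zg48) (kg xg29 yg38 zg52) (kg xg31 yg52 zg15) (kg xg28 yg16 zg48) (kg xg21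 yg38 zg40) (kg xg18 yg0 zg18) (kg xg20 yg48 zg0) (kg xg20 yg44 zg18) (kg xg17 yg17 zg54) (kg xg32 yg20 zg57) (kg xg22 yg26 zg5) (kg xg17 yg26 zg21) (kg xg32 yg20 zg60) (kg xg22 yg0 zg23) (kg xg31 yg56 zg1) (kg xg29 yg5 zg48) (kg xg22 yg1 zg49) (kg xg24 yg4 zg56) (kg xg17 yg27 zg10) (kg xg22 yg0 zg12) (kg xg28 yg56 zg39) (kg xg25 yg13 zg28) (kg xg28 yg41 zg9) (kg xg30 yg1 zg29) (kg xg25 yg53 zg50) (kg xg21 yg6 zg16) (kg xg21 yg27 zg20) (kg xg25 yg42 zg7) (kg xg27 yg18 zg40) (kg xg27 yg18 zg41) (kg xg17 yg18 zg4) (kg xg32 yg21 zg10) (kg xg31 yg22 zg7) (kg xg17 yg28 zg25) (kg xg17 yg28 zg24) (kg xg21 yg16 zg49) (kg xg28 yg0 zg44) (kg xg18 yg23 zg11) (kg xg27 yg7 zg12)) (@D3.rec (fun _ => Pt) (kg xg27 yg2 zg53) (kg xg29 yg24 zg30) (kg xg17 yg18 zg16) (kg xg28 yg45 zg2)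 (kg xg21 yg38 zg38) (kg xg18 yg45 zg1) (kg xg20 yg40 zg58) (kg xg17 yg28 zg39) (kg xg29 yg9 zg26) (kg xg18 yg47 zg55) (kg xg27 yg10 zg52) (kg xg17 yg18 zg28) (kg xg32 yg14 zg33) (kg xg30 yg34 zg36) (kg xg31 yg18 zg8) (kg xg32 yg9 zg56) (kg xg18 yg45 zg17) (kg xg29 yg28 zg58) (kg xg17 yg18 zg34) (kg xg28 yg17 zg22) (kg xg23 yg48 zg30) (kg xg17 yg18 zg40) (kg xg32 yg21 zg16) (kg xg27 yg9 zg4) (kg xg28 yg35 zg54) (kg xg29 yg30 zg21) (kg xg32 yg20 zg21) (kg xg23 yg52 zg39) (kg xg30 yg20 zg42) (kg xg19 yg11 zg44) (kg xg31 yg24 zg12) (kg xg29 yg48 zg14) (kg xg22 yg25 zg47) (kg xg17 yg18 zg44) (kg xg24 yg30 zg1) (kg xg24 yg28 zg11) (kg xg22 yg1 zg4) (kg xg17 yg18 zg46) (kg xg27 yg14 zg43) (kg xg22 yg1 zg3) (kg xg20 yg25 zg35) (kg xg27 yg9 zg55) (kg xg28 yg17 zg45) (kg xg31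 yg32 zg31) (kg xg17 yg18 zg55) (kg xg17 yg18 zg53) (kg xg27 yg6 zg49) (kg xg29 yg27 zg3) (kg xg27 yg6 zg56) (kg xg23 yg11 zg32) (kg xg22 yg33 zg22) (kg xg27 yg6 zg50) (kg xg19 yg30 zg22) (kg xg27 yg2 zg24) (kg xg31 yg13 zg11) (kg xg17 yg18 zg59) (kg xg30 yg5 zg56) (kg xg23 yg48 zg56) (kg xg32 yg19 zg26) (kg xg30 yg5 zg5) (kg xg17 yg18 zg61) (kg xg32 yg20 zg10)) (@D3.rec (fun _ => Pt) (kg xg22 yg20 zg9) (kg xg27 yg20 zg12) (kg xg20 yg26 zg60) (kg xg24 yg14 zg28) (kg xg32 yg20 zg0) (kg xg28 yg37 zg34) (kg xg17 yg19 zg22) (kg xg18 yg21 zg1) (kg xg17 yg31 zg37) (kg xg28 yg58 zg8) (kg xg20 yg49 zg55) (kg xg17 yg20 zg23) (kg xg17 yg26 zg30) (kg xg20 yg22 zg10) (kg xg23 yg34 zg29) (kg xg18 yg54 zg35) (kg xg30 yg3 zg24) (kg xg17 yg19 zg38) (kg xg21 yg39 zg8) (kg xg21 yg3 zg21)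 (kg xg24 yg14 zg26) (kg xg27 yg1 zg5) (kg xg17 yg19 zg49) (kg xg17 yg19 zg61) (kg xg17 yg19 zg50) (kg xg24 yg12 zg56) (kg xg17 yg19 zg59) (kg xg28 yg12 zg15) (kg xg17 yg20 zg7) (kg xg32 yg19 zg61) (kg xg20 yg47 zg16) (kg xg21 yg51 zg48) (kg xg31 yg36 zg38) (kg xg19 yg59 zg50) (kg xg28 yg14 zg32) (kg xg17 yg19 zg60) (kg xg23 yg10 zg33) (kg xg30 yg27 zg36) (kg xg19 yg52 zg56) (kg xg31 yg19 zg17) (kg xg20 yg36 zg44) (kg xg21 yg54 zg32) (kg xg31 yg23 zg15) (kg xg32 yg18 zg44) (kg xg27 yg2 zg16) (kg xg27 yg59 zg39) (kg xg26 yg20 zg15) (kg xg30 yg51 zg24) (kg xg26 yg27 zg52) (kg xg21 yg2 zg51) (kg xg30 yg57 zg37) (kg xg21 yg2 zg50) (kg xg25 yg51 zg35) (kg xg25 yg48 zg24) (kg xg31 yg0 zg39) (kg xg32 yg1 zg56) (kg xg27 yg8 zg41) (kg xg23 yg8 zg18) (kg xg17 yg25 zg14) (kg xg17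 yg26 zg0) (kg xg31 yg13 zg12) (kg xg19 yg7 zg60)) (@D3.rec (fun _ => Pt) (kg xg29 yg42 zg8) (kg xg30 yg54 zg34) (kg xg27 yg16 zg52) (kg xg17 yg25 zg53) (kg xg17 yg20 zg22) (kg xg17 yg25 zg51) (kg xg30 yg24 zg31) (kg xg22 yg35 zg55) (kg xg28 yg22 zg35) (kg xg29 yg52 zg28) (kg xg17 yg26 zg8) (kg xg17 yg26 zg6) (kg xg30 yg48 zg16) (kg xg30 yg48 zg17) (kg xg21 yg2 zg54) (kg xg17 yg26 zg50) (kg xg32 yg21 zg40) (kg xg27 yg6 zg26) (kg xg17 yg27 zg6) (kg xg27 yg6 zg45) (kg xg20 yg27 zg43) (kg xg18 yg5 zg32) (kg xg26 yg14 zg24) (kg xg21 yg58 zg24) (kg xg17 yg31 zg22) (kg xg22 yg26 zg35) (kg xg20 yg23 zg21) (kg xg32 yg14 zg35) (kg xg27 yg16 zg10) (kg xg17 yg21 zg58) (kg xg17 yg27 zg7) (kg xg29 yg38 zg53) (kg xg31 yg13 zg21) (kg xg21 yg59 zg58) (kg xg29 yg38 zg12) (kg xg25 yg18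 zg50) (kg xg22 yg11 zg59) (kg xg21 yg39 zg61) (kg xg25 yg18 zg47) (kg xg30 yg38 zg52) (kg xg28 yg48 zg49) (kg xg17 yg31 zg18) (kg xg21 yg45 zg8) (kg xg28 yg25 zg1) (kg xg31 yg19 zg50) (kg xg22 yg33 zg28) (kg xg29 yg28 zg10) (kg xg29 yg8 zg15) (kg xg19 yg41 zg27) (kg xg19 yg15 zg56) (kg xg17 yg21 zg15) (kg xg26 yg35 zg53) (kg xg19 yg6 zg53) (kg xg18 yg48 zg58) (kg xg20 yg45 zg60) (kg xg21 yg3 zg52) (kg xg21 yg16 zg48) (kg xg31 yg20 zg13) (kg xg24 yg14 zg38) (kg xg28 yg57 zg42) (kg xg31 yg54 zg38) (kg xg21 yg42 zg57)) (@D3.rec (fun _ => Pt) (kg xg21 yg17 zg0) (kg xg27 yg6 zg40) (kg xg17 yg21 zg38) (kg xg25 yg13 zg46) (kg xg17 yg21 zg41) (kg xg25 yg54 zg23) (kg xg21 yg50 zg7) (kg xg22 yg8 zg17) (kg xg25 yg54 zg0) (kg xg25 yg53 zg59) (kg xg29 yg26 zg33) (kg xg20 yg24 zg47)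 (kg xg22 yg34 zg28) (kg xg19 yg23 zg7) (kg xg19 yg20 zg39) (kg xg24 yg5 zg59) (kg xg22 yg34 zg21) (kg xg25 yg23 zg56) (kg xg23 yg49 zg6) (kg xg27 yg45 zg59) (kg xg21 yg39 zg19) (kg xg17 yg22 zg4) (kg xg21 yg39 zg18) (kg xg25 yg56 zg27) (kg xg17 yg22 zg7) (kg xg30 yg6 zg24) (kg xg21 yg46 zg27) (kg xg21 yg17 zg2) (kg xg25 yg27 zg24) (kg xg17 yg22 zg10) (kg xg29 yg3 zg61) (kg xg17 yg22 zg14) (kg xg29 yg21 zg53) (kg xg22 yg9 zg19) (kg xg17 yg22 zg15) (kg xg21 yg27 zg29) (kg xg21 yg9 zg57) (kg xg25 yg4 zg11) (kg xg17 yg22 zg16) (kg xg29 yg43 zg47) (kg xg24 yg29 zg51) (kg xg30 yg20 zg23) (kg xg28 yg13 zg39) (kg xg31 yg20 zg42) (kg xg31 yg29 zg14) (kg xg26 yg21 zg47) (kg xg17 yg22 zg39) (kg xg21 yg39 zg58) (kg xg29 yg2 zg51) (kg xg24 yg10 zg27) (kg xg28 yg51 zg20) (kg xg26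 yg52 zg45) (kg xg29 yg26 zg40) (kg xg17 yg22 zg37) (kg xg21 yg16 zg17) (kg xg29 yg38 zg55) (kg xg29 yg24 zg41) (kg xg20 yg33 zg49) (kg xg17 yg22 zg46) (kg xg17 yg57 zg50) (kg xg17 yg22 zg47) (kg xg31 yg17 zg5)) (@D3.rec (fun _ => Pt) (kg xg24 yg10 zg39) (kg xg27 yg7 zg59) (kg xg29 yg25 zg42) (kg xg31 yg20 zg31) (kg xg28 yg43 zg6) (kg xg24 yg3 zg6) (kg xg24 yg50 zg55) (kg xg17 yg22 zg51) (kg xg31 yg39 zg56) (kg xg22 yg21 zg31) (kg xg28 yg46 zg10) (kg xg23 yg57 zg2) (kg xg27 yg20 zg14) (kg xg21 yg8 zg1) (kg xg20 yg53 zg1) (kg xg24 yg37 zg0) (kg xg20 yg11 zg54) (kg xg20 yg46 zg34) (kg xg22 yg37 zg53) (kg xg18 yg17 zg24) (kg xg32 yg21 zg55) (kg xg20 yg45 zg47) (kg xg18 yg46 zg40) (kg xg18 yg13 zg42) (kg xg28 yg19 zg48) (kg xg18 yg5 zg16) (kg xg20 yg44 zg61) (kg xg21 yg20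 zg9) (kg xg29 yg7 zg32) (kg xg22 yg36 zg51) (kg xg17 yg31 zg44) (kg xg28 yg19 zg55) (kg xg22 yg23 zg37) (kg xg28 yg14 zg33) (kg xg30 yg51 zg46) (kg xg22 yg20 zg43) (kg xg29 yg28 zg34) (kg xg27 yg16 zg35) (kg xg17 yg24 zg13) (kg xg29 yg40 zg55) (kg xg29 yg50 zg12) (kg xg30 yg22 zg39) (kg xg20 yg47 zg41) (kg xg20 yg47 zg22) (kg xg17 yg23 zg41) (kg xg20 yg43 zg8) (kg xg17 yg23 zg44) (kg xg17 yg34 zg2) (kg xg17 yg31 zg12) (kg xg21 yg9 zg44) (kg xg31 yg34 zg44) (kg xg30 yg36 zg55) (kg xg30 yg37 zg22) (kg xg17 yg23 zg54) (kg xg27 yg36 zg23) (kg xg17 yg23 zg51) (kg xg31 yg36 zg37) (kg xg30 yg50 zg58) (kg xg20 yg40 zg39) (kg xg32 yg22 zg0) (kg xg32 yg21 zg61) (kg xg24 yg9 zg8)) (@D3.rec (fun _ => Pt) (kg xg20 yg46 zg45) (kg xg29 yg34 zg47) (kg xg30 yg40 zg44) (kg xg28 yg33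 zg61) (kg xg29 yg37 zg15) (kg xg31 yg25 zg56) (kg xg29 yg30 zg20) (kg xg29 yg28 zg12) (kg xg19 yg37 zg36) (kg xg17 yg24 zg5) (kg xg31 yg19 zg15) (kg xg20 yg43 zg2) (kg xg17 yg24 zg10) (kg xg22 yg15 zg44) (kg xg29 yg28 zg38) (kg xg17 yg24 zg14) (kg xg30 yg6 zg50) (kg xg32 yg22 zg8) (kg xg17 yg32 zg57) (kg xg17 yg32 zg56) (kg xg17 yg24 zg15) (kg xg17 yg32 zg55) (kg xg32 yg22 zg10) (kg xg28 yg49 zg20) (kg xg26 yg17 zg59) (kg xg20 yg20 zg15) (kg xg20 yg5 zg57) (kg xg17 yg54 zg57) (kg xg26 yg49 zg23) (kg xg17 yg24 zg22) (kg xg22 yg39 zg37) (kg xg17 yg24 zg26) (kg xg17 yg24 zg25) (kg xg32 yg21 zg25) (kg xg32 yg21 zg26) (kg xg32 yg19 zg42) (kg xg23 yg46 zg37) (kg xg30 yg28 zg29) (kg xg18 yg46 zg54) (kg xg26 yg42 zg59) (kg xg23 yg48 zg59) (kg xg17 yg24 zg30) (kg xg22 yg40 zg8)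 (kg xg21 yg30 zg39) (kg xg19 yg17 zg51) (kg xg21 yg57 zg47) (kg xg27 yg13 zg37) (kg xg26 yg4 zg13) (kg xg29 yg39 zg42) (kg xg23 yg3 zg56) (kg xg30 yg25 zg46) (kg xg29 yg37 zg56) (kg xg32 yg18 zg60) (kg xg29 yg37 zg54) (kg xg31 yg46 zg56) (kg xg30 yg30 zg7) (kg xg20 yg0 zg24) (kg xg31 yg31 zg0) (kg xg32 yg21 zg24) (kg xg22 yg19 zg28) (kg xg27 yg11 zg40) (kg xg22 yg1 zg1)) (@D3.rec (fun _ => Pt) (kg xg28 yg18 zg38) (kg xg27 yg14 zg38) (kg xg17 yg24 zg49) (kg xg30 yg16 zg56) (kg xg27 yg14 zg47) (kg xg29 yg23 zg7) (kg xg26 yg50 zg10) (kg xg20 yg35 zg54) (kg xg19 yg27 zg8) (kg xg28 yg18 zg17) (kg xg30 yg14 zg61) (kg xg30 yg16 zg24) (kg xg28 yg27 zg19) (kg xg17 yg25 zg4) (kg xg17 yg24 zg59) (kg xg26 yg30 zg29) (kg xg32 yg22 zg23) (kg xg25 yg43 zg37) (kg xg28 yg32 zg25) (kg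 xg26 yg35 zg9) (kg xg28 yg32 zg44) (kg xg17 yg25 zg2) (kg xg31 yg6 zg45) (kg xg32 yg22 zg25) (kg xg29 yg37 zg21) (kg xg17 yg25 zg10) (kg xg17 yg25 zg6) (kg xg24 yg9 zg13) (kg xg32 yg8 zg7) (kg xg28 yg19 zg0) (kg xg28 yg50 zg20) (kg xg30 yg14 zg13) (kg xg17 yg25 zg15) (kg xg29 yg23 zg41) (kg xg29 yg41 zg49) (kg xg30 yg15 zg0) (kg xg24 yg58 zg21) (kg xg22 yg1 zg46) (kg xg27 yg14 zg2) (kg xg26 yg36 zg58) (kg xg31 yg53 zg37) (kg xg30 yg15 zg27) (kg xg29 yg21 zg27) (kg xg30 yg15 zg39) (kg xg27 yg8 zg38) (kg xg28 yg24 zg18) (kg xg27 yg14 zg4) (kg xg17 yg25 zg26) (kg xg29 yg34 zg10) (kg xg22 yg2 zg25) (kg xg26 yg26 zg32) (kg xg24 yg9 zg31) (kg xg28 yg56 zg26) (kg xg28 yg26 zg29) (kg xg28 yg13 zg44) (kg xg17 yg25 zg31) (kg xg32 yg22 zg33) (kg xg28 yg13 zg43) (kg xg17 yg25 zg35)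 (kg xg30 yg46 zg6) (kg xg25 yg5 zg34) (kg xg19 yg28 zg54)) (@D3.rec (fun _ => Pt) (kg xg28 yg22 zg52) (kg xg30 yg36 zg10) (kg xg28 yg9 zg51) (kg xg17 yg25 zg45) (kg xg28 yg23 zg6) (kg xg22 yg16 zg59) (kg xg28 yg26 zg35) (kg xg17 yg25 zg46) (kg xg31 yg30 zg8) (kg xg32 yg22 zg24) (kg xg25 yg56 zg38) (kg xg29 yg42 zg15) (kg xg32 yg22 zg21) (kg xg26 yg3 zg44) (kg xg17 yg25 zg49) (kg xg31 yg35 zg60) (kg xg27 yg16 zg56) (kg xg28 yg51 zg60) (kg xg29 yg14 zg57) (kg xg17 yg25 zg52) (kg xg32 yg20 zg14) (kg xg29 yg34 zg42) (kg xg32 yg22 zg44) (kg xg27 yg59 zg46) (kg xg27 yg59 zg44) (kg xg30 yg46 zg53) (kg xg32 yg22 zg48) (kg xg29 yg38 zg23) (kg xg27 yg56 zg23) (kg xg17 yg26 zg1) (kg xg22 yg57 zg54) (kg xg30 yg54 zg49) (kg xg17 yg26 zg3) (kg xg28 yg22 zg37) (kg xg27 yg10 zg32)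 (kg xg25 yg57 zg44) (kg xg30 yg6 zg51) (kg xg28 yg19 zg36) (kg xg26 yg42 zg48) (kg xg28 yg32 zg48) (kg xg24 yg22 zg54) (kg xg28 yg15 zg58) (kg xg17 yg26 zg7) (kg xg28 yg5 zg46) (kg xg17 yg26 zg10) (kg xg17 yg26 zg13) (kg xg17 yg26 zg16) (kg xg30 yg46 zg58) (kg xg17 yg26 zg14) (kg xg23 yg10 zg26) (kg xg32 yg20 zg5) (kg xg19 yg26 zg2) (kg xg25 yg36 zg33) (kg xg29 yg37 zg42) (kg xg29 yg37 zg40) (kg xg31 yg54 zg51) (kg xg24 yg36 zg60) (kg xg29 yg43 zg2) (kg xg17 yg26 zg17) (kg xg19 yg37 zg54) (kg xg31 yg30 zg52) (kg xg29 yg34 zg24)) (@D3.rec (fun _ => Pt) (kg xg22 yg1 zg47) (kg xg32 yg22 zg55) (kg xg30 yg30 zg61) (kg xg29 yg50 zg3) (kg xg17 yg26 zg22) (kg xg29 yg40 zg51) (kg xg32 yg11 zg51) (kg xg27 yg2 zg18) (kg xg20 yg44 zg14) (kg xg31 yg46 zg61) (kg xg29 yg33 zg23) (kg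 xg30 yg16 zg23) (kg xg22 yg24 zg29) (kg xg17 yg26 zg27) (kg xg31 yg27 zg5) (kg xg29 yg40 zg38) (kg xg31 yg55 zg39) (kg xg26 yg36 zg1) (kg xg22 yg1 zg16) (kg xg31 yg55 zg28) (kg xg30 yg50 zg8) (kg xg29 yg33 zg30) (kg xg22 yg1 zg21) (kg xg29 yg33 zg46) (kg xg17 yg26 zg35) (kg xg22 yg24 zg44) (kg xg30 yg14 zg25) (kg xg31 yg55 zg27) (kg xg32 yg23 zg6) (kg xg30 yg14 zg59) (kg xg22 yg24 zg41) (kg xg29 yg46 zg28) (kg xg17 yg26 zg38) (kg xg32 yg22 zg57) (kg xg32 yg4 zg10) (kg xg27 yg13 zg23) (kg xg29 yg30 zg54) (kg xg22 yg11 zg61) (kg xg28 yg52 zg12) (kg xg24 yg6 zg20) (kg xg21 yg44 zg17) (kg xg26 yg56 zg15) (kg xg19 yg22 zg61) (kg xg22 yg6 zg55) (kg xg19 yg6 zg36) (kg xg32 yg23 zg14) (kg xg32 yg23 zg13) (kg xg17 yg26 zg60) (kg xg28 yg36 zg10) (kg xg31 yg59 zg51) (kg xg26 yg53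 zg59) (kg xg32 yg23 zg19) (kg xg27 yg15 zg16) (kg xg29 yg2 zg0) (kg xg18 yg48 zg15) (kg xg23 yg56 zg16) (kg xg27 yg10 zg2) (kg xg17 yg27 zg5) (kg xg27 yg7 zg14) (kg xg28 yg52 zg60) (kg xg22 yg0 zg31) (kg xg32 yg21 zg29)) (@D3.rec (fun _ => Pt) (kg xg17 yg27 zg34) (kg xg17 yg27 zg9) (kg xg17 yg27 zg33) (kg xg31 yg20 zg25) (kg xg29 yg54 zg29) (kg xg27 yg39 zg36) (kg xg17 yg30 zg33) (kg xg20 yg23 zg20) (kg xg17 yg27 zg14) (kg xg32 yg1 zg0) (kg xg28 yg40 zg10) (kg xg19 yg13 zg48) (kg xg17 yg27 zg17) (kg xg22 yg0 zg20) (kg xg17 yg27 zg19) (kg xg22 yg0 zg19) (kg xg31 yg36 zg49) (kg xg30 yg14 zg6) (kg xg30 yg19 zg33) (kg xg32 yg19 zg22) (kg xg30 yg15 zg3) (kg xg20 yg59 zg2) (kg xg30 yg3 zg53) (kg xg17 yg27 zg26) (kg xg29 yg55 zg60) (kg xg28 yg58 zg59) (kg xg29 yg0 zg35) (kg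 xg17 yg27 zg28) (kg xg29 yg9 zg16) (kg xg26 yg37 zg7) (kg xg28 yg58 zg23) (kg xg25 yg57 zg48) (kg xg23 yg47 zg32) (kg xg31 yg0 zg32) (kg xg28 yg58 zg27) (kg xg31 yg52 zg42) (kg xg18 yg51 zg6) (kg xg20 yg57 zg56) (kg xg24 yg16 zg42) (kg xg29 yg5 zg43) (kg xg17 yg27 zg40) (kg xg25 yg54 zg35) (kg xg19 yg45 zg51) (kg xg30 yg20 zg14) (kg xg21 yg25 zg45) (kg xg27 yg1 zg44) (kg xg19 yg26 zg43) (kg xg29 yg51 zg19) (kg xg23 yg44 zg17) (kg xg21 yg17 zg20) (kg xg29 yg56 zg35) (kg xg25 yg30 zg45) (kg xg21 yg31 zg34) (kg xg27 yg18 zg0) (kg xg21 yg16 zg24) (kg xg27 yg1 zg52) (kg xg27 yg1 zg50) (kg xg17 yg27 zg50) (kg xg21 yg49 zg31) (kg xg30 yg49 zg0) (kg xg17 yg27 zg51) (kg xg21 yg8 zg17)) (@D3.rec (fun _ => Pt) (kg xg27 yg17 zg54) (kg xg32 yg23 zg40) (kg xg23 yg9 zg51) (kg xg29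 yg57 zg0) (kg xg30 yg19 zg61) (kg xg17 yg28 zg17) (kg xg29 yg56 zg44) (kg xg25 yg57 zg10) (kg xg29 yg56 zg42) (kg xg17 yg27 zg61) (kg xg31 yg4 zg41) (kg xg25 yg30 zg11) (kg xg17 yg28 zg0) (kg xg25 yg57 zg50) (kg xg29 yg57 zg3) (kg xg25 yg30 zg29) (kg xg29 yg56 zg47) (kg xg17 yg28 zg5) (kg xg30 yg4 zg29) (kg xg31 yg16 zg49) (kg xg25 yg53 zg47) (kg xg25 yg30 zg12) (kg xg31 yg10 zg36) (kg xg31 yg16 zg50) (kg xg30 yg40 zg43) (kg xg29 yg11 zg23) (kg xg29 yg5 zg30) (kg xg32 yg23 zg49) (kg xg31 yg58 zg4) (kg xg29 yg52 zg19) (kg xg17 yg28 zg15) (kg xg32 yg23 zg50) (kg xg30 yg10 zg39) (kg xg31 yg27 zg39) (kg xg29 yg5 zg25) (kg xg25 yg57 zg47) (kg xg29 yg58 zg3) (kg xg25 yg24 zg18) (kg xg17 yg28 zg20) (kg xg27 yg7 zg51) (kg xg17 yg28 zg21) (kg xg27 yg7 zg53) (kg xg25 yg8 zg39)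 (kg xg21 yg17 zg44) (kg xg17 yg28 zg22) (kg xg30 yg9 zg59) (kg xg21 yg17 zg43) (kg xg22 yg44 zg39) (kg xg24 yg11 zg49) (kg xg27 yg1 zg34) (kg xg27 yg8 zg11) (kg xg19 yg11 zg27) (kg xg17 yg28 zg54) (kg xg20 yg55 zg40) (kg xg28 yg43 zg16) (kg xg31 yg35 zg47) (kg xg26 yg33 zg61) (kg xg24 yg16 zg39) (kg xg19 yg6 zg51) (kg xg24 yg0 zg30) (kg xg18 yg59 zg28) (kg xg31 yg26 zg25)) (@D3.rec (fun _ => Pt) (kg xg31 yg17 zg4) (kg xg19 yg25 zg15) (kg xg28 yg44 zg60) (kg xg17 yg28 zg40) (kg xg29 yg49 zg2) (kg xg29 yg56 zg13) (kg xg26 yg38 zg3) (kg xg28 yg50 zg31) (kg xg17 yg28 zg41) (kg xg19 yg18 zg44) (kg xg29 yg56 zg12) (kg xg29 yg9 zg20) (kg xg23 yg53 zg1) (kg xg32 yg17 zg19) (kg xg28 yg42 zg15) (kg xg20 yg57 zg5) (kg xg26 yg35 zg58) (kg xg19 yg11 zg26) (kg xg19 yg11 zg25) (kg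 xg29 yg52 zg30) (kg xg17 yg28 zg53) (kg xg25 yg10 zg26) (kg xg20 yg58 zg49) (kg xg17 yg29 zg19) (kg xg32 yg24 zg6) (kg xg25 yg5 zg57) (kg xg30 yg16 zg9) (kg xg32 yg0 zg56) (kg xg17 yg28 zg57) (kg xg32 yg23 zg58) (kg xg25 yg55 zg38) (kg xg25 yg41 zg53) (kg xg17 yg28 zg60) (kg xg25 yg27 zg30) (kg xg28 yg45 zg6) (kg xg31 yg26 zg59) (kg xg29 yg9 zg19) (kg xg19 yg28 zg16) (kg xg17 yg29 zg5) (kg xg25 yg12 zg9) (kg xg25 yg9 zg7) (kg xg32 yg22 zg22) (kg xg17 yg29 zg7) (kg xg17 yg29 zg8) (kg xg29 yg0 zg47) (kg xg17 yg29 zg9) (kg xg21 yg50 zg31) (kg xg29 yg6 zg47) (kg xg27 yg17 zg24) (kg xg26 yg11 zg5) (kg xg21 yg46 zg42) (kg xg30 yg56 zg49) (kg xg25 yg39 zg47) (kg xg26 yg5 zg57) (kg xg30 yg11 zg5) (kg xg21 yg46 zg16) (kg xg20 yg54 zg46) (kg xg17 yg29 zg43) (kg xg25 yg32 zg52)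 (kg xg17 yg29 zg39) (kg xg17 yg29 zg34) (kg xg32 yg8 zg46)) (@D3.rec (fun _ => Pt) (kg xg25 yg16 zg40) (kg xg17 yg29 zg46) (kg xg21 yg58 zg10) (kg xg27 yg37 zg31) (kg xg25 yg33 zg38) (kg xg21 yg58 zg11) (kg xg21 yg50 zg13) (kg xg23 yg6 zg27) (kg xg17 yg29 zg56) (kg xg31 yg28 zg0) (kg xg31 yg43 zg61) (kg xg22 yg28 zg38) (kg xg20 yg1 zg30) (kg xg20 yg15 zg18) (kg xg27 yg36 zg37) (kg xg26 yg52 zg0) (kg xg18 yg36 zg45) (kg xg18 yg10 zg11) (kg xg26 yg50 zg58) (kg xg20 yg0 zg58) (kg xg17 yg30 zg9) (kg xg17 yg30 zg10) (kg xg21 yg18 zg40) (kg xg25 yg17 zg53) (kg xg17 yg30 zg13) (kg xg30 yg5 zg11) (kg xg29 yg32 zg50) (kg xg17 yg30 zg17) (kg xg26 yg15 zg5) (kg xg18 yg37 zg6) (kg xg27 yg38 zg46) (kg xg17 yg42 zg53) (kg xg27 yg26 zg41) (kg xg17 yg30 zg26) (kg xg27 yg48 zg0) (kg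 xg24 yg46 zg41) (kg xg18 yg10 zg25) (kg xg17 yg30 zg35) (kg xg28 yg2 zg36) (kg xg28 yg2 zg26) (kg xg30 yg11 zg30) (kg xg21 yg43 zg21) (kg xg25 yg41 zg61) (kg xg21 yg43 zg31) (kg xg30 yg6 zg12) (kg xg20 yg17 zg39) (kg xg31 yg37 zg24) (kg xg25 yg41 zg48) (kg xg29 yg16 zg16) (kg xg31 yg30 zg17) (kg xg21 yg21 zg61) (kg xg17 yg31 zg2) (kg xg21 yg27 zg42) (kg xg17 yg30 zg60) (kg xg17 yg30 zg55) (kg xg25 yg45 zg47) (kg xg20 yg36 zg13) (kg xg22 yg10 zg40) (kg xg31 yg20 zg33) (kg xg23 yg22 zg6) (kg xg22 yg22 zg52) (kg xg22 yg20 zg20)) (@D3.rec (fun _ => Pt) (kg xg21 yg45 zg25) (kg xg17 yg31 zg17) (kg xg17 yg33 zg5) (kg xg17 yg31 zg20) (kg xg20 yg46 zg12) (kg xg29 yg1 zg20) (kg xg17 yg31 zg33) (kg xg17 yg31 zg29) (kg xg24 yg1 zg7) (kg xg24 yg12 zg3) (kg xg20 yg23 zg51) (kg xg19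 yg50 zg36) (kg xg26 yg58 zg27) (kg xg21 yg9 zg2) (kg xg23 yg49 zg60) (kg xg23 yg7 zg27) (kg xg22 yg52 zg2) (kg xg26 yg25 zg44) (kg xg27 yg55 zg56) (kg xg25 yg33 zg22) (kg xg19 yg47 zg15) (kg xg22 yg22 zg54) (kg xg28 yg53 zg6) (kg xg23 yg47 zg19) (kg xg17 yg32 zg3) (kg xg32 yg3 zg0) (kg xg26 yg42 zg4) (kg xg21 yg0 zg32) (kg xg29 yg47 zg41) (kg xg23 yg57 zg11) (kg xg32 yg0 zg22) (kg xg24 yg35 zg29) (kg xg17 yg32 zg10) (kg xg26 yg44 zg25) (kg xg20 yg1 zg57) (kg xg25 yg49 zg43) (kg xg20 yg59 zg27) (kg xg29 yg39 zg22) (kg xg30 yg18 zg7) (kg xg30 yg49 zg39) (kg xg24 yg2 zg1) (kg xg20 yg43 zg21) (kg xg30 yg26 zg27) (kg xg17 yg32 zg29) (kg xg28 yg59 zg14) (kg xg22 yg6 zg40) (kg xg25 yg9 zg47) (kg xg17 yg32 zg35) (kg xg19 yg49 zg39) (kg xg25 yg22 zg38) (kg xg28 yg20 zg42) (kg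 xg22 yg6 zg46) (kg xg29 yg4 zg0) (kg xg17 yg32 zg52) (kg xg31 yg46 zg25) (kg xg32 yg22 zg9) (kg xg25 yg33 zg6) (kg xg26 yg42 zg30) (kg xg19 yg25 zg47) (kg xg29 yg29 zg49) (kg xg28 yg31 zg3) (kg xg29 yg7 zg26)) (@D3.rec (fun _ => Pt) (kg xg20 yg9 zg21) (kg xg20 yg8 zg26) (kg xg22 yg4 zg51) (kg xg17 yg33 zg14) (kg xg21 yg28 zg0) (kg xg21 yg26 zg51) (kg xg29 yg31 zg2) (kg xg25 yg38 zg61) (kg xg21 yg27 zg58) (kg xg17 yg33 zg27) (kg xg22 yg45 zg37) (kg xg18 yg37 zg36) (kg xg27 yg11 zg14) (kg xg17 yg33 zg34) (kg xg21 yg1 zg15) (kg xg17 yg59 zg36) (kg xg22 yg4 zg48) (kg xg20 yg20 zg35) (kg xg21 yg2 zg17) (kg xg25 yg38 zg50) (kg xg17 yg33 zg56) (kg xg25 yg17 zg40) (kg xg17 yg33 zg52) (kg xg25 yg7 zg20) (kg xg28 yg20 zg45) (kg xg26 yg44 zg17) (kg xg25 yg25 zg24) (kg xg17 yg33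 zg58) (kg xg28 yg6 zg58) (kg xg27 yg38 zg42) (kg xg30 yg9 zg5) (kg xg32 yg24 zg20) (kg xg31 yg59 zg9) (kg xg18 yg56 zg32) (kg xg21 yg9 zg19) (kg xg28 yg15 zg1) (kg xg20 yg20 zg41) (kg xg17 yg34 zg3) (kg xg22 yg33 zg41) (kg xg24 yg18 zg44) (kg xg22 yg33 zg37) (kg xg24 yg7 zg52) (kg xg24 yg7 zg54) (kg xg18 yg55 zg25) (kg xg25 yg34 zg25) (kg xg22 yg7 zg0) (kg xg18 yg10 zg17) (kg xg19 yg50 zg14) (kg xg30 yg20 zg25) (kg xg32 yg3 zg39) (kg xg19 yg58 zg8) (kg xg17 yg34 zg31) (kg xg24 yg49 zg1) (kg xg20 yg5 zg13) (kg xg17 yg34 zg33) (kg xg28 yg7 zg55) (kg xg18 yg7 zg55) (kg xg27 yg12 zg26) (kg xg28 yg11 zg20) (kg xg17 yg34 zg42) (kg xg17 yg34 zg43) (kg xg22 yg6 zg9)) (@D3.rec (fun _ => Pt) (kg xg29 yg50 zg34) (kg xg21 yg42 zg54) (kg xg31 yg13 zg20) (kg xg21 yg31 zg3) (kg xg31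 yg45 zg59) (kg xg22 yg8 zg23) (kg xg23 yg55 zg59) (kg xg27 yg4 zg50) (kg xg17 yg35 zg1) (kg xg31 yg37 zg36) (kg xg26 yg41 zg59) (kg xg25 yg48 zg55) (kg xg22 yg11 zg0) (kg xg27 yg46 zg60) (kg xg30 yg16 zg48) (kg xg21 yg44 zg25) (kg xg23 yg54 zg2) (kg xg17 yg35 zg10) (kg xg23 yg50 zg17) (kg xg21 yg50 zg28) (kg xg24 yg18 zg24) (kg xg22 yg15 zg15) (kg xg17 yg35 zg17) (kg xg26 yg10 zg30) (kg xg27 yg29 zg26) (kg xg21 yg27 zg32) (kg xg29 yg57 zg8) (kg xg21 yg27 zg28) (kg xg17 yg35 zg26) (kg xg29 yg57 zg13) (kg xg29 yg58 zg13) (kg xg27 yg11 zg5) (kg xg17 yg35 zg34) (kg xg17 yg35 zg27) (kg xg30 yg1 zg31) (kg xg27 yg4 zg13) (kg xg17 yg35 zg28) (kg xg31 yg48 zg27) (kg xg21 yg45 zg53) (kg xg27 yg4 zg57) (kg xg30 yg50 zg48) (kg xg28 yg12 zg60) (kg xg17 yg35 zg38) (kg xg24 yg1 zg22)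 (kg xg17 yg35 zg42) (kg xg25 yg19 zg37) (kg xg31 yg30 zg5) (kg xg19 yg18 zg19) (kg xg17 yg42 zg36) (kg xg28 yg33 zg37) (kg xg28 yg33 zg48) (kg xg22 yg11 zg58) (kg xg26 yg36 zg37) (kg xg23 yg1 zg21) (kg xg17 yg35 zg50) (kg xg30 yg24 zg3) (kg xg26 yg39 zg24) (kg xg17 yg35 zg51) (kg xg28 yg32 zg54) (kg xg25 yg20 zg37) (kg xg31 yg3 zg9) (kg xg28 yg32 zg26)) (@D3.rec (fun _ => Pt) (kg xg29 yg12 zg42) (kg xg31 yg27 zg56) (kg xg17 yg35 zg57) (kg xg32 yg24 zg38) (kg xg32 yg24 zg41) (kg xg30 yg18 zg52) (kg xg17 yg36 zg1) (kg xg20 yg3 zg4) (kg xg17 yg36 zg19) (kg xg19 yg57 zg18) (kg xg25 yg6 zg39) (kg xg17 yg36 zg8) (kg xg32 yg3 zg6) (kg xg17 yg36 zg14) (kg xg17 yg36 zg9) (kg xg19 yg8 zg48) (kg xg32 yg18 zg54) (kg xg19 yg9 zg35) (kg xg17 yg36 zg15) (kg xg31 yg32 zg4) (kg xg29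 yg15 zg56) (kg xg31 yg50 zg20) (kg xg31 yg25 zg4) (kg xg18 yg7 zg47) (kg xg32 yg18 zg53) (kg xg17 yg36 zg16) (kg xg19 yg56 zg60) (kg xg17 yg36 zg21) (kg xg17 yg36 zg17) (kg xg31 yg46 zg45) (kg xg30 yg13 zg23) (kg xg27 yg4 zg42) (kg xg31 yg57 zg12) (kg xg17 yg36 zg20) (kg xg31 yg55 zg0) (kg xg32 yg23 zg32) (kg xg24 yg58 zg4) (kg xg30 yg17 zg3) (kg xg17 yg38 zg41) (kg xg17 yg36 zg29) (kg xg18 yg27 zg38) (kg xg17 yg38 zg7) (kg xg17 yg36 zg31) (kg xg17 yg38 zg5) (kg xg25 yg43 zg31) (kg xg17 yg54 zg2) (kg xg25 yg15 zg43) (kg xg17 yg37 zg57) (kg xg26 yg17 zg4) (kg xg31 yg43 zg11) (kg xg17 yg36 zg39) (kg xg17 yg38 zg2) (kg xg17 yg38 zg55) (kg xg26 yg12 zg18) (kg xg23 yg35 zg55) (kg xg26 yg15 zg24) (kg xg21 yg33 zg40) (kg xg17 yg40 zg36) (kg xg21 yg22 zg52) (kg xg17 yg36 zg47)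 (kg xg31 yg34 zg16) (kg xg17 yg39 zg19)) (@D3.rec (fun _ => Pt) (kg xg25 yg15 zg37) (kg xg20 yg4 zg9) (kg xg17 yg41 zg49) (kg xg25 yg49 zg38) (kg xg32 yg5 zg33) (kg xg21 yg59 zg28) (kg xg20 yg16 zg17) (kg xg23 yg22 zg41) (kg xg26 yg14 zg26) (kg xg24 yg45 zg16) (kg xg17 yg37 zg0) (kg xg27 yg25 zg36) (kg xg31 yg41 zg58) (kg xg17 yg40 zg16) (kg xg25 yg1 zg46) (kg xg25 yg0 zg58) (kg xg27 yg28 zg31) (kg xg32 yg5 zg31) (kg xg32 yg6 zg0) (kg xg27 yg46 zg18) (kg xg31 yg38 zg11) (kg xg17 yg37 zg5) (kg xg27 yg28 zg37) (kg xg31 yg44 zg40) (kg xg32 yg5 zg30) (kg xg26 yg18 zg52) (kg xg22 yg9 zg16) (kg xg29 yg50 zg57) (kg xg25 yg35 zg23) (kg xg26 yg3 zg54) (kg xg25 yg39 zg22) (kg xg30 yg1 zg25) (kg xg21 yg23 zg5) (kg xg26 yg16 zg61) (kg xg27 yg24 zg60) (kg xg17 yg53 zg61) (kg xg17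 yg37 zg37) (kg xg17 yg40 zg12) (kg xg25 yg45 zg25) (kg xg17 yg37 zg26) (kg xg27 yg27 zg6) (kg xg23 yg34 zg41) (kg xg27 yg27 zg0) (kg xg31 yg37 zg20) (kg xg31 yg35 zg23) (kg xg17 yg37 zg36) (kg xg31 yg37 zg19) (kg xg32 yg24 zg59) (kg xg19 yg18 zg52) (kg xg27 yg25 zg14) (kg xg32 yg25 zg0) (kg xg27 yg27 zg11) (kg xg31 yg59 zg16) (kg xg18 yg7 zg59) (kg xg17 yg37 zg47) (kg xg26 yg19 zg13) (kg xg31 yg27 zg42) (kg xg27 yg27 zg41) (kg xg17 yg37 zg53) (kg xg27 yg45 zg18) (kg xg17 yg54 zg9) (kg xg25 yg28 zg55)) (@D3.rec (fun _ => Pt) (kg xg17 yg38 zg1) (kg xg17 yg37 zg55) (kg xg28 yg3 zg44) (kg xg17 yg37 zg61) (kg xg27 yg28 zg46) (kg xg26 yg12 zg9) (kg xg17 yg37 zg58) (kg xg27 yg38 zg48) (kg xg27 yg28 zg24) (kg xg31 yg59 zg30) (kg xg23 yg43 zg59) (kg xg21 yg19 zg59) (kg xg29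 yg50 zg46) (kg xg30 yg1 zg14) (kg xg17 yg38 zg0) (kg xg31 yg4 zg32) (kg xg31 yg37 zg8) (kg xg32 yg25 zg2) (kg xg32 yg7 zg24) (kg xg26 yg12 zg6) (kg xg25 yg1 zg21) (kg xg26 yg12 zg13) (kg xg26 yg11 zg53) (kg xg28 yg3 zg10) (kg xg24 yg30 zg53) (kg xg21 yg25 zg13) (kg xg18 yg16 zg55) (kg xg25 yg1 zg5) (kg xg18 yg6 zg30) (kg xg27 yg27 zg17) (kg xg19 yg48 zg30) (kg xg26 yg2 zg4) (kg xg27 yg25 zg34) (kg xg29 yg56 zg34) (kg xg24 yg44 zg49) (kg xg19 yg16 zg59) (kg xg25 yg29 zg18) (kg xg27 yg25 zg40) (kg xg26 yg6 zg25) (kg xg17 yg38 zg33) (kg xg31 yg7 zg25) (kg xg27 yg20 zg33) (kg xg18 yg27 zg41) (kg xg27 yg29 zg7) (kg xg30 yg19 zg31) (kg xg30 yg51 zg48) (kg xg27 yg25 zg21) (kg xg17 yg45 zg29) (kg xg17 yg38 zg43) (kg xg27 yg47 zg57) (kg xg26 yg18 zg6) (kg xg18 yg8 zg34) (kg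 xg26 yg17 zg2) (kg xg24 yg59 zg8) (kg xg24 yg45 zg15) (kg xg31 yg37 zg25) (kg xg26 yg5 zg11) (kg xg21 yg43 zg28) (kg xg26 yg6 zg39) (kg xg27 yg25 zg42) (kg xg26 yg5 zg22) (kg xg17 yg42 zg43)) (@D3.rec (fun _ => Pt) (kg xg17 yg39 zg15) (kg xg18 yg4 zg32) (kg xg17 yg40 zg7) (kg xg31 yg54 zg8) (kg xg21 yg57 zg17) (kg xg24 yg45 zg6) (kg xg30 yg14 zg33) (kg xg24 yg44 zg33) (kg xg31 yg44 zg24) (kg xg31 yg42 zg60) (kg xg27 yg25 zg51) (kg xg17 yg39 zg16) (kg xg26 yg11 zg40) (kg xg32 yg25 zg7) (kg xg26 yg11 zg43) (kg xg31 yg42 zg58) (kg xg27 yg26 zg29) (kg xg17 yg39 zg20) (kg xg21 yg23 zg17) (kg xg30 yg4 zg15) (kg xg29 yg23 zg2) (kg xg21 yg58 zg44) (kg xg26 yg12 zg30) (kg xg27 yg4 zg4) (kg xg20 yg3 zg42) (kg xg25 yg12 zg2) (kg xg17 yg39 zg38) (kg xg26 yg3 zg31) (kg xg17 yg39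 zg47) (kg xg31 yg38 zg31) (kg xg17 yg44 zg42) (kg xg27 yg29 zg8) (kg xg31 yg38 zg32) (kg xg24 yg45 zg36) (kg xg17 yg39 zg57) (kg xg32 yg5 zg29) (kg xg31 yg55 zg55) (kg xg31 yg59 zg14) (kg xg31 yg59 zg10) (kg xg27 yg28 zg53) (kg xg17 yg41 zg26) (kg xg17 yg40 zg46) (kg xg17 yg40 zg44) (kg xg31 yg49 zg61) (kg xg31 yg44 zg26) (kg xg30 yg23 zg16) (kg xg31 yg44 zg0) (kg xg17 yg40 zg24) (kg xg21 yg26 zg25) (kg xg26 yg4 zg35) (kg xg26 yg4 zg33) (kg xg27 yg26 zg21) (kg xg24 yg56 zg9) (kg xg17 yg40 zg38) (kg xg31 yg35 zg21) (kg xg25 yg58 zg42) (kg xg27 yg26 zg5) (kg xg17 yg40 zg28) (kg xg25 yg1 zg15) (kg xg17 yg40 zg26) (kg xg27 yg31 zg25) (kg xg17 yg42 zg52)) (@D3.rec (fun _ => Pt) (kg xg27 yg28 zg15) (kg xg23 yg37 zg54) (kg xg25 yg1 zg13) (kg xg24 yg55 zg17) (kg xg19 yg42 zg10)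 (kg xg31 yg7 zg8) (kg xg28 yg40 zg53) (kg xg27 yg27 zg8) (kg xg31 yg44 zg38) (kg xg17 yg40 zg37) (kg xg17 yg42 zg58) (kg xg31 yg50 zg0) (kg xg17 yg40 zg45) (kg xg17 yg40 zg40) (kg xg32 yg25 zg10) (kg xg27 yg27 zg47) (kg xg31 yg54 zg40) (kg xg31 yg43 zg0) (kg xg27 yg28 zg29) (kg xg17 yg41 zg0) (kg xg17 yg40 zg49) (kg xg17 yg41 zg2) (kg xg32 yg25 zg12) (kg xg27 yg27 zg56) (kg xg17 yg40 zg53) (kg xg30 yg23 zg14) (kg xg27 yg26 zg7) (kg xg26 yg11 zg51) (kg xg29 yg17 zg29) (kg xg26 yg11 zg26) (kg xg27 yg25 zg16) (kg xg17 yg40 zg59) (kg xg24 yg45 zg35) (kg xg31 yg38 zg12) (kg xg24 yg55 zg40) (kg xg27 yg30 zg48) (kg xg27 yg46 zg28) (kg xg27 yg28 zg61) (kg xg27 yg31 zg58) (kg xg17 yg44 zg44) (kg xg27 yg28 zg33) (kg xg17 yg41 zg10) (kg xg27 yg44 zg33) (kg xg31 yg12 zg19) (kg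 xg30 yg2 zg54) (kg xg25 yg3 zg61) (kg xg27 yg26 zg48) (kg xg17 yg41 zg17) (kg xg27 yg27 zg37) (kg xg26 yg12 zg11) (kg xg27 yg27 zg51) (kg xg17 yg41 zg21) (kg xg30 yg25 zg7) (kg xg27 yg27 zg36) (kg xg27 yg47 zg20) (kg xg27 yg29 zg4) (kg xg17 yg41 zg24) (kg xg24 yg55 zg28) (kg xg32 yg24 zg57) (kg xg17 yg41 zg30) (kg xg26 yg19 zg7) (kg xg26 yg11 zg25)) (@D3.rec (fun _ => Pt) (kg xg32 yg24 zg52) (kg xg24 yg59 zg3) (kg xg27 yg24 zg49) (kg xg24 yg55 zg15) (kg xg27 yg28 zg56) (kg xg27 yg28 zg25) (kg xg27 yg27 zg31) (kg xg27 yg26 zg49) (kg xg24 yg55 zg59) (kg xg18 yg27 zg33) (kg xg17 yg41 zg35) (kg xg32 yg6 zg17) (kg xg24 yg46 zg53) (kg xg24 yg18 zg25) (kg xg21 yg24 zg6) (kg xg25 yg44 zg42) (kg xg24 yg51 zg4) (kg xg17 yg43 zg38) (kg xg21 yg23 zg58) (kg xg27 yg40 zg59) (kg xg21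 yg1 zg7) (kg xg17 yg42 zg0) (kg xg19 yg36 zg36) (kg xg27 yg53 zg34) (kg xg21 yg23 zg49) (kg xg29 yg3 zg60) (kg xg31 yg26 zg19) (kg xg31 yg50 zg38) (kg xg23 yg46 zg50) (kg xg17 yg42 zg7) (kg xg19 yg34 zg53) (kg xg17 yg42 zg17) (kg xg28 yg45 zg16) (kg xg31 yg36 zg56) (kg xg25 yg19 zg51) (kg xg18 yg9 zg35) (kg xg25 yg59 zg8) (kg xg23 yg31 zg55) (kg xg21 yg26 zg28) (kg xg18 yg26 zg9) (kg xg26 yg11 zg2) (kg xg21 yg41 zg11) (kg xg26 yg10 zg27) (kg xg27 yg59 zg10) (kg xg27 yg34 zg50) (kg xg18 yg9 zg29) (kg xg17 yg42 zg35) (kg xg28 yg6 zg13) (kg xg29 yg58 zg40) (kg xg18 yg16 zg24) (kg xg29 yg51 zg59) (kg xg28 yg10 zg28) (kg xg25 yg39 zg23) (kg xg27 yg26 zg6) (kg xg21 yg57 zg16) (kg xg31 yg55 zg49) (kg xg27 yg38 zg33) (kg xg25 yg3 zg17) (kg xg31 yg34 zg3) (kg xg31 yg32 zg60)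 (kg xg31 yg6 zg55) (kg xg30 yg23 zg17)) (@D3.rec (fun _ => Pt) (kg xg17 yg42 zg59) (kg xg27 yg46 zg2) (kg xg27 yg27 zg54) (kg xg18 yg3 zg19) (kg xg17 yg43 zg9) (kg xg17 yg43 zg6) (kg xg31 yg46 zg2) (kg xg31 yg56 zg3) (kg xg22 yg7 zg5) (kg xg25 yg9 zg39) (kg xg28 yg58 zg7) (kg xg31 yg48 zg3) (kg xg32 yg19 zg55) (kg xg17 yg43 zg10) (kg xg28 yg59 zg49) (kg xg20 yg2 zg21) (kg xg20 yg41 zg36) (kg xg20 yg42 zg9) (kg xg19 yg24 zg38) (kg xg27 yg59 zg3) (kg xg23 yg56 zg39) (kg xg31 yg49 zg22) (kg xg19 yg38 zg42) (kg xg20 yg16 zg24) (kg xg25 yg14 zg44) (kg xg23 yg28 zg56) (kg xg27 yg40 zg60) (kg xg25 yg42 zg48) (kg xg21 yg54 zg47) (kg xg28 yg18 zg48) (kg xg20 yg13 zg42) (kg xg30 yg45 zg44) (kg xg17 yg43 zg46) (kg xg20 yg16 zg32) (kg xg17 yg43 zg49) (kg xg21 yg26 zg12) (kg xg32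 yg23 zg25) (kg xg21 yg31 zg14) (kg xg25 yg55 zg40) (kg xg21 yg32 zg18) (kg xg18 yg7 zg26) (kg xg18 yg3 zg54) (kg xg17 yg43 zg57) (kg xg26 yg14 zg23) (kg xg25 yg1 zg26) (kg xg24 yg54 zg1) (kg xg28 yg41 zg40) (kg xg21 yg37 zg13) (kg xg31 yg44 zg34) (kg xg22 yg23 zg31) (kg xg21 yg6 zg20) (kg xg27 yg27 zg19) (kg xg27 yg56 zg6) (kg xg25 yg9 zg55) (kg xg30 yg1 zg19) (kg xg31 yg0 zg53) (kg xg26 yg14 zg57) (kg xg27 yg45 zg54) (kg xg22 yg11 zg14) (kg xg17 yg44 zg14) (kg xg17 yg45 zg30) (kg xg17 yg44 zg21)) (@D3.rec (fun _ => Pt) (kg xg17 yg44 zg16) (kg xg26 yg21 zg1) (kg xg21 yg26 zg8) (kg xg21 yg26 zg7) (kg xg18 yg5 zg35) (kg xg27 yg35 zg41) (kg xg17 yg44 zg28) (kg xg27 yg45 zg43) (kg xg26 yg13 zg15) (kg xg18 yg29 zg17) (kg xg17 yg52 zg19) (kg xg27 yg45 zg36) (kg xg31 yg43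 zg32) (kg xg28 yg27 zg34) (kg xg18 yg7 zg50) (kg xg29 yg19 zg0) (kg xg31 yg6 zg10) (kg xg27 yg48 zg2) (kg xg19 yg2 zg8) (kg xg29 yg7 zg9) (kg xg26 yg13 zg34) (kg xg32 yg25 zg26) (kg xg26 yg13 zg32) (kg xg17 yg44 zg45) (kg xg32 yg25 zg5) (kg xg27 yg24 zg57) (kg xg30 yg25 zg4) (kg xg32 yg24 zg53) (kg xg30 yg54 zg18) (kg xg24 yg40 zg57) (kg xg26 yg12 zg14) (kg xg18 yg5 zg33) (kg xg24 yg45 zg42) (kg xg29 yg17 zg28) (kg xg21 yg8 zg14) (kg xg27 yg4 zg20) (kg xg24 yg41 zg52) (kg xg19 yg49 zg46) (kg xg28 yg31 zg17) (kg xg25 yg16 zg39) (kg xg18 yg3 zg44) (kg xg30 yg54 zg7) (kg xg21 yg28 zg32) (kg xg29 yg38 zg42) (kg xg21 yg34 zg3) (kg xg25 yg10 zg58) (kg xg18 yg27 zg40) (kg xg25 yg43 zg10) (kg xg27 yg31 zg55) (kg xg29 yg39 zg17) (kg xg24 yg18 zg20) (kg xg30 yg1 zg20) (kg xg26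 yg13 zg13) (kg xg25 yg32 zg61) (kg xg32 yg25 zg31) (kg xg28 yg1 zg46) (kg xg28 yg21 zg9) (kg xg17 yg45 zg31) (kg xg27 yg28 zg43) (kg xg27 yg36 zg4) (kg xg21 yg13 zg19) (kg xg18 yg13 zg10)) (@D3.rec (fun _ => Pt) (kg xg24 yg29 zg6) (kg xg26 yg19 zg50) (kg xg18 yg54 zg57) (kg xg18 yg49 zg37) (kg xg29 yg24 zg51) (kg xg32 yg25 zg34) (kg xg27 yg32 zg55) (kg xg18 yg11 zg25) (kg xg18 yg13 zg8) (kg xg18 yg35 zg28) (kg xg27 yg33 zg50) (kg xg27 yg34 zg33) (kg xg18 yg9 zg40) (kg xg17 yg45 zg56) (kg xg18 yg13 zg24) (kg xg28 yg7 zg19) (kg xg27 yg33 zg39) (kg xg18 yg9 zg49) (kg xg17 yg45 zg59) (kg xg27 yg33 zg13) (kg xg32 yg25 zg41) (kg xg27 yg33 zg21) (kg xg18 yg9 zg21) (kg xg32 yg25 zg44) (kg xg27 yg34 zg6) (kg xg27 yg45 zg58) (kg xg32 yg2 zg39) (kg xg27 yg50 zg0) (kg xg17 yg46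 zg3) (kg xg27 yg49 zg61) (kg xg32 yg25 zg45) (kg xg17 yg46 zg4) (kg xg28 yg22 zg45) (kg xg18 yg9 zg43) (kg xg28 yg5 zg7) (kg xg18 yg58 zg27) (kg xg28 yg5 zg6) (kg xg17 yg51 zg1) (kg xg17 yg46 zg7) (kg xg23 yg50 zg7) (kg xg18 yg13 zg31) (kg xg27 yg34 zg53) (kg xg28 yg5 zg4) (kg xg17 yg46 zg30) (kg xg28 yg5 zg1) (kg xg19 yg17 zg17) (kg xg17 yg46 zg32) (kg xg27 yg33 zg52) (kg xg32 yg25 zg59) (kg xg25 yg3 zg41) (kg xg17 yg46 zg39) (kg xg27 yg34 zg37) (kg xg27 yg33 zg0) (kg xg20 yg21 zg3) (kg xg17 yg46 zg16) (kg xg27 yg32 zg4) (kg xg26 yg4 zg31) (kg xg17 yg47 zg27) (kg xg27 yg34 zg29) (kg xg17 yg46 zg18) (kg xg23 yg51 zg14) (kg xg27 yg34 zg28)) (@D3.rec (fun _ => Pt) (kg xg17 yg46 zg19) (kg xg27 yg35 zg12) (kg xg32 yg26 zg5) (kg xg29 yg50 zg27) (kg xg17 yg46 zg24) (kg xg27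 yg55 zg25) (kg xg28 yg6 zg6) (kg xg18 yg31 zg45) (kg xg28 yg4 zg36) (kg xg27 yg34 zg34) (kg xg30 yg31 zg59) (kg xg30 yg44 zg36) (kg xg20 yg21 zg35) (kg xg27 yg32 zg21) (kg xg27 yg55 zg36) (kg xg29 yg54 zg32) (kg xg17 yg46 zg35) (kg xg31 yg7 zg40) (kg xg27 yg34 zg21) (kg xg24 yg53 zg56) (kg xg32 yg26 zg12) (kg xg27 yg32 zg19) (kg xg32 yg26 zg1) (kg xg26 yg17 zg35) (kg xg27 yg54 zg18) (kg xg26 yg17 zg19) (kg xg27 yg35 zg6) (kg xg17 yg46 zg41) (kg xg30 yg41 zg30) (kg xg31 yg39 zg12) (kg xg27 yg50 zg27) (kg xg27 yg34 zg23) (kg xg32 yg3 zg52) (kg xg18 yg11 zg20) (kg xg17 yg46 zg48) (kg xg31 yg8 zg38) (kg xg28 yg8 zg6) (kg xg27 yg50 zg14) (kg xg18 yg13 zg29) (kg xg18 yg31 zg39) (kg xg19 yg12 zg22) (kg xg26 yg20 zg13) (kg xg19 yg1 zg13) (kg xg18 yg34 zg15) (kg xg19 yg1 zg26)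 (kg xg25 yg0 zg13) (kg xg32 yg25 zg61) (kg xg27 yg51 zg45) (kg xg27 yg34 zg38) (kg xg27 yg49 zg22) (kg xg18 yg35 zg16) (kg xg28 yg7 zg47) (kg xg18 yg55 zg7) (kg xg28 yg22 zg43) (kg xg27 yg34 zg12) (kg xg17 yg47 zg3) (kg xg18 yg33 zg17) (kg xg23 yg50 zg52) (kg xg18 yg33 zg15) (kg xg18 yg35 zg24) (kg xg27 yg52 zg38) (kg xg18 yg33 zg23)) (@D3.rec (fun _ => Pt) (kg xg17 yg47 zg6) (kg xg18 yg46 zg21) (kg xg18 yg58 zg15) (kg xg26 yg32 zg35) (kg xg24 yg48 zg9) (kg xg27 yg33 zg36) (kg xg18 yg33 zg1) (kg xg28 yg25 zg36) (kg xg20 yg21 zg15) (kg xg18 yg9 zg36) (kg xg17 yg47 zg13) (kg xg17 yg47 zg14) (kg xg27 yg33 zg55) (kg xg18 yg31 zg15) (kg xg18 yg14 zg22) (kg xg18 yg38 zg34) (kg xg27 yg53 zg36) (kg xg18 yg30 zg43) (kg xg32 yg26 zg38) (kg xg28 yg31 zg55) (kg xg26 yg37 zg45)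 (kg xg27 yg33 zg12) (kg xg25 yg34 zg0) (kg xg32 yg6 zg44) (kg xg27 yg50 zg19) (kg xg27 yg34 zg26) (kg xg26 yg16 zg20) (kg xg27 yg54 zg25) (kg xg17 yg47 zg26) (kg xg27 yg32 zg59) (kg xg27 yg33 zg9) (kg xg27 yg32 zg11) (kg xg18 yg16 zg48) (kg xg18 yg51 zg59) (kg xg17 yg47 zg51) (kg xg27 yg33 zg29) (kg xg27 yg32 zg51) (kg xg17 yg47 zg32) (kg xg27 yg33 zg46) (kg xg22 yg13 zg4) (kg xg20 yg21 zg25) (kg xg17 yg47 zg34) (kg xg20 yg21 zg23) (kg xg21 yg13 zg25) (kg xg27 yg51 zg14) (kg xg27 yg51 zg32) (kg xg27 yg32 zg41) (kg xg17 yg47 zg39) (kg xg29 yg25 zg9) (kg xg22 yg18 zg10) (kg xg27 yg6 zg6) (kg xg27 yg54 zg7) (kg xg32 yg26 zg14) (kg xg27 yg54 zg8) (kg xg28 yg7 zg51) (kg xg18 yg15 zg4) (kg xg20 yg19 zg11) (kg xg17 yg47 zg47) (kg xg28 yg6 zg20) (kg xg18 yg35 zg33) (kg xg27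 yg54 zg16) (kg xg27 yg51 zg28)) (@D3.rec (fun _ => Pt) (kg xg17 yg47 zg49) (kg xg31 yg4 zg47) (kg xg18 yg13 zg61) (kg xg28 yg6 zg10) (kg xg23 yg36 zg55) (kg xg17 yg47 zg52) (kg xg27 yg33 zg27) (kg xg30 yg44 zg40) (kg xg28 yg6 zg53) (kg xg27 yg39 zg53) (kg xg19 yg0 zg29) (kg xg32 yg26 zg49) (kg xg27 yg47 zg48) (kg xg31 yg59 zg12) (kg xg27 yg32 zg48) (kg xg28 yg6 zg24) (kg xg18 yg30 zg35) (kg xg17 yg47 zg60) (kg xg32 yg26 zg58) (kg xg27 yg32 zg20) (kg xg27 yg56 zg30) (kg xg18 yg34 zg32) (kg xg18 yg9 zg45) (kg xg24 yg34 zg17) (kg xg17 yg50 zg18) (kg xg28 yg9 zg37) (kg xg19 yg12 zg40) (kg xg17 yg49 zg43) (kg xg26 yg35 zg16) (kg xg26 yg59 zg38) (kg xg31 yg28 zg12) (kg xg17 yg49 zg33) (kg xg30 yg18 zg13) (kg xg22 yg5 zg34) (kg xg30 yg7 zg8) (kg xg17 yg48 zg23) (kg xg17 yg51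 zg29) (kg xg28 yg25 zg21) (kg xg17 yg52 zg18) (kg xg17 yg52 zg29) (kg xg17 yg51 zg54) (kg xg18 yg27 zg37) (kg xg25 yg47 zg23) (kg xg19 yg20 zg18) (kg xg17 yg50 zg60) (kg xg32 yg27 zg3) (kg xg27 yg37 zg41) (kg xg24 yg58 zg34) (kg xg28 yg7 zg52) (kg xg21 yg40 zg43) (kg xg17 yg48 zg39) (kg xg17 yg51 zg32) (kg xg18 yg16 zg18) (kg xg27 yg20 zg30) (kg xg19 yg54 zg59) (kg xg25 yg20 zg16) (kg xg24 yg32 zg3) (kg xg27 yg1 zg11) (kg xg26 yg36 zg15) (kg xg28 yg56 zg59) (kg xg29 yg35 zg6) (kg xg26 yg43 zg4)) (@D3.rec (fun _ => Pt) (kg xg19 yg11 zg49) (kg xg23 yg39 zg53) (kg xg24 yg25 zg56) (kg xg28 yg30 zg3) (kg xg17 yg52 zg34) (kg xg27 yg36 zg33) (kg xg28 yg38 zg47) (kg xg29 yg22 zg33) (kg xg19 yg42 zg29) (kg xg18 yg10 zg27) (kg xg29 yg31 zg40) (kg xg17 yg49 zg5) (kg xg30 yg9 zg35)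 (kg xg28 yg36 zg42) (kg xg28 yg7 zg57) (kg xg28 yg19 zg17) (kg xg17 yg49 zg40) (kg xg31 yg38 zg19) (kg xg18 yg41 zg40) (kg xg17 yg49 zg15) (kg xg27 yg59 zg17) (kg xg20 yg51 zg9) (kg xg17 yg49 zg16) (kg xg29 yg46 zg42) (kg xg18 yg41 zg47) (kg xg18 yg16 zg22) (kg xg27 yg37 zg48) (kg xg20 yg25 zg34) (kg xg26 yg28 zg7) (kg xg17 yg49 zg23) (kg xg26 yg34 zg54) (kg xg27 yg13 zg49) (kg xg17 yg49 zg44) (kg xg27 yg36 zg6) (kg xg27 yg50 zg30) (kg xg30 yg17 zg52) (kg xg25 yg32 zg5) (kg xg21 yg40 zg29) (kg xg26 yg58 zg44) (kg xg32 yg13 zg54) (kg xg17 yg49 zg39) (kg xg17 yg49 zg31) (kg xg29 yg25 zg3) (kg xg28 yg9 zg38) (kg xg32 yg27 zg2) (kg xg17 yg49 zg34) (kg xg28 yg8 zg1) (kg xg27 yg39 zg52) (kg xg24 yg14 zg52) (kg xg23 yg11 zg17) (kg xg24 yg34 zg15) (kg xg32 yg27 zg12) (kg xg28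 yg19 zg14) (kg xg20 yg53 zg33) (kg xg20 yg53 zg36) (kg xg22 yg21 zg39) (kg xg24 yg33 zg5) (kg xg19 yg10 zg44) (kg xg24 yg4 zg32) (kg xg26 yg46 zg58) (kg xg25 yg22 zg41) (kg xg24 yg3 zg48)) (@D3.rec (fun _ => Pt) (kg xg18 yg34 zg46) (kg xg32 yg27 zg16) (kg xg17 yg49 zg59) (kg xg26 yg54 zg20) (kg xg31 yg52 zg0) (kg xg31 yg41 zg11) (kg xg27 yg1 zg8) (kg xg32 yg27 zg19) (kg xg24 yg49 zg51) (kg xg25 yg52 zg30) (kg xg19 yg23 zg19) (kg xg25 yg21 zg18) (kg xg17 yg50 zg3) (kg xg25 yg21 zg16) (kg xg19 yg33 zg25) (kg xg19 yg11 zg22) (kg xg17 yg52 zg52) (kg xg32 yg24 zg36) (kg xg19 yg11 zg28) (kg xg31 yg58 zg29) (kg xg31 yg58 zg30) (kg xg17 yg50 zg12) (kg xg31 yg17 zg16) (kg xg19 yg16 zg21) (kg xg17 yg50 zg14) (kg xg25 yg35 zg19) (kg xg29 yg38 zg58) (kg xg24 yg34 zg16) (kg xg25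 yg35 zg9) (kg xg24 yg14 zg53) (kg xg25 yg16 zg44) (kg xg22 yg6 zg24) (kg xg17 yg50 zg30) (kg xg20 yg20 zg17) (kg xg27 yg22 zg25) (kg xg18 yg22 zg20) (kg xg30 yg3 zg21) (kg xg17 yg53 zg26) (kg xg17 yg50 zg50) (kg xg17 yg50 zg57) (kg xg29 yg46 zg41) (kg xg27 yg35 zg43) (kg xg30 yg17 zg26) (kg xg18 yg32 zg27) (kg xg28 yg8 zg2) (kg xg17 yg50 zg49) (kg xg22 yg54 zg23) (kg xg27 yg36 zg26) (kg xg17 yg50 zg53) (kg xg20 yg35 zg19) (kg xg31 yg50 zg3) (kg xg26 yg59 zg12) (kg xg30 yg11 zg28) (kg xg28 yg57 zg44) (kg xg21 yg23 zg4) (kg xg19 yg17 zg18) (kg xg32 yg26 zg37) (kg xg18 yg57 zg54) (kg xg27 yg55 zg14) (kg xg17 yg51 zg5) (kg xg27 yg51 zg59) (kg xg25 yg54 zg26)) (@D3.rec (fun _ => Pt) (kg xg30 yg45 zg30) (kg xg19 yg28 zg15) (kg xg25 yg35 zg12) (kg xg25 yg47 zg60) (kg xg28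 yg10 zg18) (kg xg28 yg10 zg16) (kg xg26 yg55 zg16) (kg xg27 yg41 zg6) (kg xg17 yg51 zg30) (kg xg20 yg51 zg34) (kg xg30 yg7 zg7) (kg xg19 yg59 zg29) (kg xg29 yg35 zg55) (kg xg19 yg58 zg16) (kg xg19 yg59 zg33) (kg xg24 yg17 zg27) (kg xg29 yg35 zg31) (kg xg31 yg41 zg17) (kg xg25 yg9 zg25) (kg xg21 yg50 zg49) (kg xg30 yg0 zg16) (kg xg25 yg20 zg8) (kg xg24 yg37 zg47) (kg xg29 yg39 zg36) (kg xg27 yg44 zg32) (kg xg27 yg31 zg5) (kg xg27 yg51 zg10) (kg xg17 yg51 zg51) (kg xg28 yg6 zg44) (kg xg24 yg58 zg35) (kg xg28 yg8 zg3) (kg xg20 yg47 zg27) (kg xg17 yg51 zg55) (kg xg26 yg11 zg37) (kg xg17 yg51 zg56) (kg xg27 yg6 zg5) (kg xg20 yg35 zg15) (kg xg25 yg35 zg22) (kg xg17 yg52 zg0) (kg xg25 yg35 zg15) (kg xg25 yg27 zg51) (kg xg17 yg52 zg9) (kg xg26 yg4 zg20) (kg xg27 yg36 zg51)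 (kg xg18 yg35 zg1) (kg xg27 yg36 zg42) (kg xg31 yg43 zg13) (kg xg27 yg48 zg25) (kg xg28 yg2 zg35) (kg xg19 yg19 zg39) (kg xg18 yg36 zg12) (kg xg18 yg35 zg40) (kg xg28 yg1 zg32) (kg xg17 yg52 zg36) (kg xg17 yg52 zg43) (kg xg20 yg34 zg54) (kg xg29 yg43 zg15) (kg xg21 yg43 zg50) (kg xg20 yg2 zg22) (kg xg17 yg52 zg50) (kg xg19 yg12 zg35) (kg xg27 yg50 zg18)) (@D3.rec (fun _ => Pt) (kg xg18 yg33 zg19) (kg xg26 yg39 zg35) (kg xg18 yg14 zg1) (kg xg25 yg49 zg34) (kg xg25 yg9 zg54) (kg xg27 yg44 zg52) (kg xg29 yg11 zg44) (kg xg18 yg2 zg43) (kg xg23 yg32 zg19) (kg xg17 yg53 zg3) (kg xg26 yg32 zg55) (kg xg31 yg49 zg58) (kg xg27 yg44 zg37) (kg xg24 yg54 zg16) (kg xg31 yg42 zg28) (kg xg25 yg9 zg53) (kg xg18 yg3 zg9) (kg xg20 yg23 zg28) (kg xg17 yg53 zg16) (kg xg26 yg39 zg59) (kg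 xg24 yg18 zg4) (kg xg29 yg55 zg43) (kg xg26 yg32 zg18) (kg xg17 yg53 zg54) (kg xg29 yg55 zg47) (kg xg27 yg46 zg36) (kg xg24 yg44 zg6) (kg xg21 yg32 zg52) (kg xg25 yg15 zg36) (kg xg26 yg16 zg12) (kg xg18 yg36 zg42) (kg xg26 yg16 zg26) (kg xg26 yg20 zg46) (kg xg17 yg54 zg5) (kg xg17 yg54 zg6) (kg xg18 yg37 zg5) (kg xg27 yg20 zg9) (kg xg21 yg27 zg9) (kg xg18 yg28 zg44) (kg xg26 yg16 zg24) (kg xg17 yg54 zg11) (kg xg31 yg42 zg36) (kg xg26 yg16 zg22) (kg xg31 yg14 zg25) (kg xg31 yg59 zg15) (kg xg26 yg19 zg5) (kg xg26 yg13 zg44) (kg xg25 yg49 zg58) (kg xg24 yg44 zg56) (kg xg26 yg29 zg18) (kg xg25 yg7 zg4) (kg xg26 yg18 zg15) (kg xg32 yg27 zg35) (kg xg31 yg1 zg17) (kg xg17 yg54 zg26) (kg xg17 yg54 zg20) (kg xg26 yg16 zg16) (kg xg17 yg54 zg21) (kg xg26 yg16 zg18) (kg xg31 yg39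 zg22) (kg xg32 yg27 zg37) (kg xg31 yg32 zg40)) (@D3.rec (fun _ => Pt) (kg xg27 yg35 zg9) (kg xg18 yg14 zg55) (kg xg25 yg18 zg14) (kg xg29 yg20 zg25) (kg xg24 yg45 zg31) (kg xg31 yg42 zg50) (kg xg26 yg13 zg30) (kg xg31 yg15 zg25) (kg xg31 yg15 zg34) (kg xg27 yg49 zg3) (kg xg17 yg54 zg30) (kg xg28 yg27 zg36) (kg xg24 yg55 zg56) (kg xg24 yg55 zg58) (kg xg25 yg3 zg25) (kg xg20 yg21 zg11) (kg xg17 yg54 zg37) (kg xg18 yg20 zg11) (kg xg18 yg5 zg25) (kg xg22 yg49 zg42) (kg xg24 yg55 zg34) (kg xg24 yg56 zg28) (kg xg30 yg52 zg51) (kg xg32 yg8 zg4) (kg xg17 yg54 zg45) (kg xg26 yg55 zg4) (kg xg17 yg55 zg20) (kg xg29 yg27 zg38) (kg xg22 yg38 zg36) (kg xg17 yg54 zg59) (kg xg23 yg39 zg60) (kg xg25 yg34 zg33) (kg xg17 yg55 zg13) (kg xg23 yg9 zg6) (kg xg26 yg24 zg54) (kg xg22 yg51 zg18)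 (kg xg23 yg8 zg41) (kg xg20 yg7 zg61) (kg xg30 yg2 zg49) (kg xg31 yg2 zg56) (kg xg27 yg45 zg9) (kg xg19 yg18 zg30) (kg xg19 yg18 zg29) (kg xg26 yg21 zg59) (kg xg24 yg46 zg61) (kg xg23 yg3 zg24) (kg xg27 yg1 zg4) (kg xg19 yg40 zg9) (kg xg23 yg42 zg31) (kg xg21 yg5 zg59) (kg xg17 yg55 zg44) (kg xg17 yg55 zg48) (kg xg30 yg3 zg34) (kg xg24 yg22 zg6) (kg xg23 yg30 zg3) (kg xg23 yg29 zg21) (kg xg17 yg55 zg49) (kg xg32 yg27 zg46) (kg xg21 yg34 zg43) (kg xg17 yg55 zg56) (kg xg20 yg54 zg47) (kg xg23 yg28 zg60)) (@D3.rec (fun _ => Pt) (kg xg31 yg37 zg38) (kg xg17 yg57 zg48) (kg xg30 yg37 zg23) (kg xg30 yg58 zg32) (kg xg18 yg1 zg4) (kg xg17 yg56 zg14) (kg xg27 yg38 zg8) (kg xg17 yg58 zg32) (kg xg17 yg56 zg11) (kg xg23 yg25 zg61) (kg xg20 yg1 zg35) (kg xg26 yg2 zg28) (kg xg27 yg39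 zg14) (kg xg30 yg9 zg21) (kg xg29 yg17 zg46) (kg xg18 yg1 zg58) (kg xg18 yg1 zg57) (kg xg17 yg56 zg23) (kg xg18 yg1 zg51) (kg xg18 yg2 zg3) (kg xg17 yg56 zg36) (kg xg29 yg22 zg58) (kg xg29 yg24 zg33) (kg xg29 yg26 zg37) (kg xg29 yg26 zg48) (kg xg26 yg42 zg35) (kg xg26 yg46 zg0) (kg xg31 yg1 zg38) (kg xg29 yg26 zg47) (kg xg28 yg13 zg57) (kg xg18 yg34 zg58) (kg xg30 yg18 zg2) (kg xg17 yg56 zg52) (kg xg21 yg50 zg21) (kg xg24 yg58 zg3) (kg xg22 yg12 zg58) (kg xg22 yg47 zg31) (kg xg23 yg10 zg17) (kg xg21 yg4 zg14) (kg xg22 yg17 zg26) (kg xg29 yg3 zg29) (kg xg26 yg23 zg57) (kg xg17 yg57 zg2) (kg xg32 yg6 zg25) (kg xg29 yg4 zg11) (kg xg22 yg16 zg40) (kg xg31 yg6 zg28) (kg xg17 yg57 zg8) (kg xg29 yg12 zg35) (kg xg26 yg25 zg40) (kg xg23 yg31 zg25) (kg xg26 yg25 zg21) (kg xg26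 yg17 zg52) (kg xg17 yg57 zg18) (kg xg27 yg59 zg0) (kg xg31 yg43 zg20) (kg xg30 yg53 zg15) (kg xg24 yg57 zg6) (kg xg24 yg57 zg7) (kg xg17 yg57 zg20) (kg xg26 yg24 zg20) (kg xg25 yg50 zg35)) (@D3.rec (fun _ => Pt) (kg xg22 yg16 zg50) (kg xg22 yg17 zg28) (kg xg30 yg21 zg10) (kg xg17 yg57 zg35) (kg xg22 yg17 zg27) (kg xg26 yg24 zg47) (kg xg32 yg20 zg1) (kg xg18 yg51 zg18) (kg xg20 yg29 zg37) (kg xg19 yg40 zg3) (kg xg22 yg30 zg45) (kg xg22 yg30 zg40) (kg xg26 yg25 zg16) (kg xg21 yg3 zg11) (kg xg27 yg9 zg13) (kg xg20 yg5 zg59) (kg xg30 yg14 zg16) (kg xg30 yg5 zg30) (kg xg17 yg57 zg52) (kg xg25 yg18 zg51) (kg xg21 yg26 zg40) (kg xg29 yg42 zg51) (kg xg23 yg7 zg61) (kg xg31 yg37 zg7) (kg xg26 yg56 zg14) (kg xg26 yg56 zg19) (kg xg26 yg56 zg20) (kg xg31 yg55 zg59) (kg xg27 yg43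 zg4) (kg xg21 yg49 zg12) (kg xg19 yg44 zg31) (kg xg19 yg45 zg33) (kg xg29 yg4 zg8) (kg xg20 yg59 zg21) (kg xg29 yg5 zg40) (kg xg28 yg59 zg2) (kg xg17 yg58 zg56) (kg xg26 yg42 zg13) (kg xg28 yg49 zg29) (kg xg28 yg54 zg59) (kg xg27 yg31 zg37) (kg xg29 yg41 zg58) (kg xg25 yg15 zg12) (kg xg29 yg23 zg51) (kg xg29 yg37 zg45) (kg xg31 yg9 zg41) (kg xg17 yg59 zg5) (kg xg17 yg59 zg9) (kg xg21 yg48 zg7) (kg xg21 yg42 zg31) (kg xg29 yg26 zg45) (kg xg17 yg59 zg28) (kg xg19 yg39 zg55) (kg xg29 yg55 zg58) (kg xg20 yg27 zg5) (kg xg28 yg48 zg6) (kg xg20 yg22 zg40) (kg xg27 yg55 zg40) (kg xg22 yg23 zg25) (kg xg29 yg24 zg2) (kg xg23 yg12 zg8) (kg xg21 yg36 zg15)) (@D3.rec (fun _ => Pt) (kg xg23 yg12 zg13) (kg xg30 yg3 zg59) (kg xg29 yg9 zg10) (kg xg18 yg0 zg3) (kg xg20 yg53 zg16) (kg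 xg31 yg52 zg53) (kg xg30 yg23 zg4) (kg xg29 yg38 zg19) (kg xg29 yg21 zg58) (kg xg24 yg4 zg30) (kg xg22 yg16 zg47) (kg xg18 yg0 zg34) (kg xg29 yg38 zg38) (kg xg18 yg0 zg37) (kg xg20 yg13 zg43) (kg xg32 yg24 zg18) (kg xg29 yg21 zg9) (kg xg30 yg18 zg6) (kg xg29 yg34 zg55) (kg xg30 yg12 zg35) (kg xg30 yg8 zg17) (kg xg30 yg40 zg5) (kg xg20 yg47 zg29) (kg xg28 yg6 zg36) (kg xg21 yg47 zg34) (kg xg18 yg0 zg58) (kg xg20 yg51 zg43) (kg xg18 yg0 zg60) (kg xg21 yg47 zg58) (kg xg18 yg1 zg0) (kg xg30 yg8 zg20) (kg xg25 yg17 zg45) (kg xg19 yg55 zg19) (kg xg30 yg51 zg26) (kg xg26 yg16 zg13) (kg xg30 yg3 zg39) (kg xg28 yg18 zg3) (kg xg20 yg22 zg11) (kg xg30 yg14 zg35) (kg xg20 yg36 zg16) (kg xg20 yg53 zg15) (kg xg23 yg29 zg28) (kg xg20 yg53 zg30) (kg xg19 yg5 zg55) (kg xg26 yg41 zg20)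 (kg xg30 yg47 zg57) (kg xg18 yg1 zg35) (kg xg21 yg20 zg10) (kg xg28 yg8 zg4) (kg xg20 yg9 zg17) (kg xg31 yg17 zg35) (kg xg18 yg1 zg45) (kg xg31 yg45 zg36) (kg xg19 yg43 zg47) (kg xg18 yg1 zg46) (kg xg25 yg4 zg51) (kg xg18 yg1 zg47) (kg xg32 yg18 zg5) (kg xg25 yg4 zg50) (kg xg27 yg18 zg45) (kg xg32 yg22 zg3) (kg xg23 yg39 zg1)) (@D3.rec (fun _ => Pt) (kg xg18 yg1 zg49) (kg xg21 yg50 zg34) (kg xg23 yg56 zg33) (kg xg18 yg1 zg53) (kg xg24 yg34 zg32) (kg xg24 yg13 zg26) (kg xg31 yg52 zg46) (kg xg19 yg43 zg50) (kg xg25 yg6 zg56) (kg xg26 yg2 zg60) (kg xg32 yg28 zg5) (kg xg25 yg36 zg0) (kg xg20 yg22 zg47) (kg xg18 yg56 zg46) (kg xg19 yg18 zg17) (kg xg31 yg21 zg10) (kg xg18 yg2 zg22) (kg xg18 yg2 zg26) (kg xg18 yg2 zg23) (kg xg21 yg11 zg28) (kg xg21 yg11 zg29) (kg xg29 yg23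 zg24) (kg xg30 yg53 zg5) (kg xg29 yg53 zg50) (kg xg18 yg2 zg36) (kg xg26 yg31 zg8) (kg xg23 yg21 zg25) (kg xg19 yg18 zg25) (kg xg28 yg41 zg34) (kg xg27 yg44 zg50) (kg xg24 yg20 zg7) (kg xg27 yg38 zg27) (kg xg18 yg2 zg47) (kg xg23 yg43 zg56) (kg xg18 yg2 zg49) (kg xg25 yg4 zg33) (kg xg24 yg16 zg25) (kg xg18 yg2 zg57) (kg xg30 yg57 zg61) (kg xg31 yg12 zg12) (kg xg28 yg4 zg10) (kg xg22 yg30 zg42) (kg xg27 yg47 zg28) (kg xg26 yg39 zg34) (kg xg24 yg26 zg42) (kg xg25 yg22 zg32) (kg xg19 yg14 zg16) (kg xg18 yg3 zg2) (kg xg26 yg35 zg55) (kg xg27 yg44 zg29) (kg xg18 yg3 zg4) (kg xg18 yg6 zg28) (kg xg27 yg39 zg7) (kg xg26 yg7 zg35) (kg xg18 yg3 zg13) (kg xg31 yg36 zg23) (kg xg30 yg32 zg49) (kg xg28 yg41 zg18) (kg xg25 yg1 zg51) (kg xg30 yg32 zg47) (kg xg31 yg5 zg61) (kg xg18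 yg4 zg33)) (@D3.rec (fun _ => Pt) (kg xg26 yg15 zg32) (kg xg26 yg29 zg49) (kg xg18 yg5 zg28) (kg xg18 yg3 zg23) (kg xg21 yg6 zg32) (kg xg27 yg31 zg48) (kg xg28 yg6 zg30) (kg xg18 yg5 zg5) (kg xg21 yg58 zg41) (kg xg25 yg41 zg15) (kg xg18 yg6 zg6) (kg xg28 yg1 zg48) (kg xg18 yg3 zg37) (kg xg18 yg3 zg59) (kg xg18 yg48 zg28) (kg xg18 yg8 zg14) (kg xg18 yg16 zg16) (kg xg18 yg7 zg20) (kg xg22 yg18 zg44) (kg xg18 yg7 zg17) (kg xg24 yg7 zg31) (kg xg18 yg3 zg45) (kg xg27 yg48 zg5) (kg xg27 yg25 zg59) (kg xg18 yg7 zg3) (kg xg18 yg3 zg47) (kg xg18 yg7 zg7) (kg xg18 yg7 zg31) (kg xg32 yg10 zg12) (kg xg18 yg8 zg9) (kg xg19 yg6 zg34) (kg xg18 yg4 zg9) (kg xg23 yg51 zg45) (kg xg18 yg3 zg53) (kg xg22 yg35 zg0) (kg xg24 yg56 zg29) (kg xg18 yg6 zg18) (kg xg18 yg4 zg0) (kg xg25 yg3 zg16)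 (kg xg27 yg31 zg11) (kg xg24 yg56 zg25) (kg xg23 yg44 zg39) (kg xg26 yg14 zg4) (kg xg18 yg4 zg2) (kg xg25 yg49 zg6) (kg xg29 yg50 zg59) (kg xg24 yg56 zg27) (kg xg25 yg0 zg40) (kg xg21 yg45 zg60) (kg xg18 yg6 zg48) (kg xg32 yg4 zg42) (kg xg18 yg8 zg20) (kg xg18 yg4 zg10) (kg xg26 yg14 zg37) (kg xg32 yg6 zg22) (kg xg27 yg30 zg57) (kg xg28 yg3 zg36) (kg xg18 yg53 zg0) (kg xg29 yg7 zg38) (kg xg30 yg35 zg35) (kg xg26 yg16 zg8) (kg xg26 yg31 zg15)) (@D3.rec (fun _ => Pt) (kg xg28 yg5 zg22) (kg xg27 yg30 zg1) (kg xg25 yg0 zg18) (kg xg32 yg6 zg4) (kg xg18 yg4 zg35) (kg xg18 yg14 zg11) (kg xg25 yg0 zg45) (kg xg29 yg15 zg52) (kg xg27 yg48 zg57) (kg xg25 yg0 zg39) (kg xg18 yg4 zg59) (kg xg25 yg0 zg41) (kg xg27 yg31 zg42) (kg xg28 yg7 zg4) (kg xg26 yg12 zg4) (kg xg27 yg38 zg32)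 (kg xg32 yg25 zg13) (kg xg25 yg0 zg30) (kg xg32 yg24 zg50) (kg xg18 yg4 zg60) (kg xg27 yg49 zg2) (kg xg18 yg4 zg53) (kg xg18 yg13 zg6) (kg xg19 yg21 zg9) (kg xg28 yg38 zg40) (kg xg27 yg47 zg37) (kg xg31 yg14 zg19) (kg xg28 yg15 zg21) (kg xg31 yg44 zg35) (kg xg21 yg25 zg54) (kg xg31 yg46 zg36) (kg xg30 yg4 zg59) (kg xg18 yg5 zg13) (kg xg28 yg6 zg25) (kg xg32 yg23 zg26) (kg xg24 yg52 zg18) (kg xg24 yg40 zg54) (kg xg32 yg7 zg17) (kg xg27 yg28 zg35) (kg xg26 yg21 zg38) (kg xg26 yg16 zg21) (kg xg26 yg15 zg15) (kg xg32 yg19 zg48) (kg xg21 yg25 zg38) (kg xg31 yg0 zg57) (kg xg32 yg19 zg47) (kg xg28 yg6 zg31) (kg xg31 yg49 zg60) (kg xg27 yg48 zg45) (kg xg18 yg5 zg29) (kg xg26 yg30 zg10) (kg xg25 yg9 zg43) (kg xg31 yg49 zg56) (kg xg18 yg5 zg41) (kg xg31 yg49 zg57) (kg xg31 yg29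 zg52) (kg xg32 yg24 zg35) (kg xg24 yg16 zg13) (kg xg27 yg24 zg9) (kg xg24 yg42 zg8) (kg xg18 yg5 zg46) (kg xg27 yg1 zg36)) (@D3.rec (fun _ => Pt) (kg xg18 yg7 zg45) (kg xg28 yg17 zg37) (kg xg18 yg55 zg14) (kg xg21 yg25 zg37) (kg xg27 yg56 zg15) (kg xg18 yg16 zg25) (kg xg18 yg6 zg9) (kg xg28 yg3 zg37) (kg xg18 yg45 zg11) (kg xg19 yg3 zg45) (kg xg23 yg51 zg28) (kg xg19 yg0 zg36) (kg xg25 yg1 zg3) (kg xg22 yg34 zg38) (kg xg24 yg55 zg61) (kg xg27 yg56 zg12) (kg xg18 yg6 zg12) (kg xg18 yg6 zg10) (kg xg18 yg6 zg11) (kg xg27 yg31 zg29) (kg xg27 yg28 zg52) (kg xg21 yg55 zg22) (kg xg27 yg47 zg29) (kg xg29 yg49 zg53) (kg xg18 yg6 zg22) (kg xg25 yg1 zg2) (kg xg27 yg40 zg40) (kg xg27 yg30 zg2) (kg xg32 yg19 zg49) (kg xg22 yg31 zg7) (kg xg31 yg45 zg12) (kg xg31 yg45 zg13) (kg xg32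 yg28 zg31) (kg xg19 yg0 zg41) (kg xg28 yg6 zg43) (kg xg31 yg6 zg54) (kg xg25 yg1 zg32) (kg xg28 yg3 zg2) (kg xg18 yg6 zg47) (kg xg18 yg6 zg43) (kg xg25 yg24 zg1) (kg xg30 yg3 zg9) (kg xg21 yg28 zg7) (kg xg25 yg0 zg35) (kg xg28 yg31 zg44) (kg xg26 yg13 zg37) (kg xg30 yg30 zg50) (kg xg21 yg10 zg51) (kg xg32 yg26 zg3) (kg xg31 yg39 zg16) (kg xg18 yg6 zg53) (kg xg27 yg57 zg26) (kg xg22 yg51 zg47) (kg xg31 yg47 zg13) (kg xg26 yg4 zg38) (kg xg23 yg34 zg58) (kg xg31 yg44 zg57) (kg xg27 yg26 zg43) (kg xg26 yg14 zg22) (kg xg27 yg48 zg38) (kg xg19 yg0 zg40) (kg xg19 yg22 zg29)) (@D3.rec (fun _ => Pt) (kg xg27 yg45 zg13) (kg xg21 yg26 zg3) (kg xg22 yg36 zg27) (kg xg18 yg48 zg29) (kg xg25 yg1 zg34) (kg xg27 yg29 zg11) (kg xg21 yg26 zg1) (kg xg28 yg3 zg1) (kg xg18 yg13 zg57) (kg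 xg18 yg56 zg48) (kg xg18 yg7 zg46) (kg xg21 yg45 zg56) (kg xg18 yg7 zg48) (kg xg23 yg34 zg9) (kg xg19 yg2 zg11) (kg xg23 yg53 zg57) (kg xg29 yg59 zg58) (kg xg18 yg7 zg58) (kg xg30 yg5 zg23) (kg xg21 yg22 zg56) (kg xg30 yg5 zg16) (kg xg25 yg29 zg43) (kg xg18 yg16 zg26) (kg xg29 yg56 zg50) (kg xg32 yg6 zg19) (kg xg27 yg31 zg10) (kg xg28 yg3 zg3) (kg xg32 yg28 zg36) (kg xg27 yg31 zg8) (kg xg18 yg8 zg8) (kg xg31 yg37 zg21) (kg xg18 yg8 zg10) (kg xg21 yg28 zg27) (kg xg30 yg12 zg37) (kg xg26 yg19 zg6) (kg xg30 yg5 zg14) (kg xg26 yg14 zg25) (kg xg31 yg35 zg44) (kg xg22 yg8 zg46) (kg xg30 yg8 zg34) (kg xg26 yg15 zg35) (kg xg32 yg6 zg55) (kg xg18 yg8 zg26) (kg xg31 yg8 zg15) (kg xg30 yg0 zg52) (kg xg31 yg7 zg22) (kg xg23 yg37 zg57) (kg xg18 yg8 zg33) (kg xg31 yg44 zg4) (kg xg25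 yg16 zg19) (kg xg22 yg11 zg2) (kg xg25 yg1 zg57) (kg xg27 yg48 zg42) (kg xg26 yg18 zg3) (kg xg30 yg23 zg22) (kg xg18 yg8 zg38) (kg xg32 yg6 zg12) (kg xg27 yg40 zg18) (kg xg27 yg25 zg50) (kg xg18 yg8 zg43) (kg xg18 yg8 zg40) (kg xg28 yg5 zg3)) (@D3.rec (fun _ => Pt) (kg xg29 yg54 zg15) (kg xg32 yg28 zg40) (kg xg26 yg18 zg5) (kg xg27 yg40 zg10) (kg xg25 yg1 zg27) (kg xg18 yg8 zg45) (kg xg27 yg32 zg35) (kg xg27 yg20 zg35) (kg xg30 yg45 zg56) (kg xg18 yg27 zg36) (kg xg22 yg35 zg17) (kg xg18 yg9 zg51) (kg xg32 yg10 zg16) (kg xg32 yg28 zg41) (kg xg18 yg8 zg56) (kg xg26 yg31 zg39) (kg xg30 yg45 zg23) (kg xg32 yg9 zg39) (kg xg18 yg9 zg56) (kg xg28 yg8 zg18) (kg xg28 yg7 zg16) (kg xg24 yg48 zg0) (kg xg28 yg5 zg57) (kg xg28 yg8 zg13) (kg xg18 yg9 zg24) (kg xg28 yg8 zg14) (kg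 xg18 yg13 zg15) (kg xg28 yg5 zg14) (kg xg32 yg28 zg47) (kg xg18 yg9 zg6) (kg xg32 yg7 zg60) (kg xg32 yg28 zg45) (kg xg29 yg21 zg0) (kg xg28 yg21 zg30) (kg xg25 yg27 zg0) (kg xg18 yg12 zg27) (kg xg18 yg9 zg9) (kg xg27 yg33 zg47) (kg xg18 yg12 zg23) (kg xg24 yg58 zg48) (kg xg18 yg9 zg41) (kg xg32 yg28 zg50) (kg xg20 yg10 zg45) (kg xg29 yg53 zg52) (kg xg28 yg57 zg45) (kg xg25 yg34 zg7) (kg xg30 yg44 zg46) (kg xg29 yg51 zg58) (kg xg21 yg9 zg12) (kg xg28 yg45 zg42) (kg xg28 yg7 zg29) (kg xg28 yg4 zg48) (kg xg28 yg7 zg27) (kg xg32 yg1 zg45) (kg xg30 yg49 zg22) (kg xg18 yg12 zg15) (kg xg30 yg35 zg38) (kg xg32 yg28 zg57) (kg xg26 yg32 zg11) (kg xg18 yg46 zg56) (kg xg27 yg32 zg29) (kg xg18 yg9 zg33)) (@D3.rec (fun _ => Pt) (kg xg27 yg32 zg28) (kg xg32 yg25 zg50) (kg xg32 yg7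 zg33) (kg xg18 yg35 zg29) (kg xg29 yg54 zg16) (kg xg26 yg4 zg23) (kg xg27 yg56 zg34) (kg xg26 yg32 zg13) (kg xg31 yg7 zg45) (kg xg32 yg25 zg38) (kg xg32 yg29 zg1) (kg xg23 yg50 zg30) (kg xg29 yg31 zg60) (kg xg30 yg5 zg0) (kg xg18 yg38 zg33) (kg xg29 yg25 zg19) (kg xg18 yg34 zg23) (kg xg18 yg13 zg23) (kg xg29 yg54 zg21) (kg xg20 yg21 zg28) (kg xg23 yg37 zg60) (kg xg18 yg9 zg52) (kg xg23 yg36 zg52) (kg xg22 yg18 zg14) (kg xg31 yg14 zg60) (kg xg32 yg29 zg6) (kg xg26 yg4 zg28) (kg xg27 yg33 zg32) (kg xg25 yg1 zg31) (kg xg25 yg1 zg30) (kg xg23 yg7 zg12) (kg xg18 yg53 zg27) (kg xg27 yg1 zg21) (kg xg28 yg36 zg51) (kg xg28 yg2 zg21) (kg xg18 yg10 zg12) (kg xg18 yg10 zg9) (kg xg21 yg58 zg27) (kg xg28 yg7 zg6) (kg xg28 yg5 zg39) (kg xg18 yg13 zg26) (kg xg28 yg2 zg31) (kg xg20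 yg44 zg38) (kg xg21 yg31 zg41) (kg xg18 yg56 zg52) (kg xg18 yg53 zg18) (kg xg18 yg56 zg53) (kg xg28 yg43 zg33) (kg xg28 yg45 zg25) (kg xg24 yg58 zg61) (kg xg18 yg13 zg2) (kg xg22 yg59 zg59) (kg xg18 yg57 zg43) (kg xg18 yg10 zg58) (kg xg27 yg37 zg45) (kg xg18 yg10 zg59) (kg xg28 yg7 zg61) (kg xg18 yg10 zg44) (kg xg26 yg30 zg38) (kg xg28 yg9 zg12) (kg xg32 yg21 zg45) (kg xg18 yg12 zg58)) (@D3.rec (fun _ => Pt) (kg xg18 yg10 zg51) (kg xg31 yg25 zg15) (kg xg28 yg7 zg56) (kg xg19 yg44 zg18) (kg xg26 yg10 zg53) (kg xg31 yg16 zg17) (kg xg26 yg11 zg1) (kg xg18 yg38 zg51) (kg xg18 yg10 zg61) (kg xg27 yg34 zg44) (kg xg27 yg38 zg35) (kg xg27 yg50 zg34) (kg xg29 yg32 zg49) (kg xg28 yg25 zg43) (kg xg32 yg26 zg6) (kg xg29 yg32 zg53) (kg xg18 yg17 zg10) (kg xg28 yg44 zg11) (kg xg27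 yg58 zg59) (kg xg19 yg5 zg27) (kg xg18 yg20 zg54) (kg xg27 yg51 zg11) (kg xg28 yg7 zg7) (kg xg18 yg11 zg13) (kg xg27 yg52 zg9) (kg xg18 yg31 zg2) (kg xg28 yg8 zg15) (kg xg24 yg48 zg27) (kg xg27 yg35 zg0) (kg xg24 yg48 zg25) (kg xg18 yg11 zg17) (kg xg27 yg34 zg45) (kg xg18 yg11 zg18) (kg xg32 yg29 zg16) (kg xg28 yg4 zg39) (kg xg18 yg11 zg19) (kg xg31 yg10 zg1) (kg xg19 yg10 zg24) (kg xg32 yg26 zg24) (kg xg27 yg54 zg36) (kg xg27 yg33 zg51) (kg xg28 yg20 zg53) (kg xg18 yg33 zg60) (kg xg28 yg5 zg5) (kg xg28 yg4 zg46) (kg xg32 yg25 zg36) (kg xg28 yg4 zg44) (kg xg18 yg11 zg24) (kg xg25 yg26 zg23) (kg xg21 yg12 zg11) (kg xg27 yg54 zg59) (kg xg27 yg54 zg58) (kg xg18 yg12 zg19) (kg xg18 yg11 zg26) (kg xg30 yg26 zg23) (kg xg18 yg12 zg25) (kg xg18 yg11 zg27) (kg xg28 yg6 zg52)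 (kg xg28 yg6 zg16) (kg xg18 yg12 zg26) (kg xg32 yg29 zg30) (kg xg28 yg5 zg17)) (@D3.rec (fun _ => Pt) (kg xg18 yg11 zg32) (kg xg27 yg51 zg26) (kg xg28 yg5 zg16) (kg xg28 yg6 zg59) (kg xg19 yg20 zg32) (kg xg18 yg11 zg34) (kg xg32 yg10 zg23) (kg xg28 yg30 zg55) (kg xg26 yg4 zg30) (kg xg27 yg51 zg25) (kg xg32 yg29 zg34) (kg xg28 yg10 zg12) (kg xg22 yg49 zg48) (kg xg18 yg11 zg39) (kg xg30 yg45 zg53) (kg xg32 yg29 zg35) (kg xg28 yg5 zg0) (kg xg18 yg11 zg40) (kg xg31 yg59 zg19) (kg xg25 yg48 zg7) (kg xg28 yg4 zg23) (kg xg18 yg13 zg36) (kg xg28 yg4 zg42) (kg xg18 yg13 zg28) (kg xg28 yg6 zg3) (kg xg31 yg45 zg9) (kg xg24 yg55 zg3) (kg xg18 yg12 zg20) (kg xg21 yg12 zg42) (kg xg27 yg55 zg3) (kg xg18 yg11 zg50) (kg xg31 yg38 zg17) (kg xg18 yg11 zg51) (kg xg24 yg55 zg12) (kg xg27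 yg55 zg10) (kg xg18 yg11 zg52) (kg xg30 yg45 zg17) (kg xg27 yg33 zg60) (kg xg18 yg11 zg53) (kg xg28 yg4 zg43) (kg xg28 yg5 zg36) (kg xg27 yg58 zg54) (kg xg32 yg29 zg9) (kg xg28 yg9 zg26) (kg xg18 yg11 zg58) (kg xg18 yg13 zg12) (kg xg30 yg45 zg21) (kg xg18 yg12 zg0) (kg xg32 yg29 zg48) (kg xg29 yg54 zg25) (kg xg20 yg10 zg53) (kg xg18 yg12 zg6) (kg xg32 yg29 zg50) (kg xg28 yg32 zg12) (kg xg28 yg22 zg20) (kg xg26 yg31 zg12) (kg xg27 yg2 zg5) (kg xg32 yg10 zg18) (kg xg18 yg34 zg26) (kg xg18 yg12 zg12) (kg xg18 yg34 zg25) (kg xg31 yg25 zg42)) (@D3.rec (fun _ => Pt) (kg xg31 yg25 zg16) (kg xg23 yg8 zg42) (kg xg24 yg13 zg28) (kg xg28 yg36 zg17) (kg xg28 yg32 zg15) (kg xg24 yg12 zg18) (kg xg32 yg29 zg57) (kg xg31 yg17 zg34) (kg xg30 yg26 zg20) (kg xg26 yg19 zg45) (kg xg28 yg7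 zg21) (kg xg31 yg39 zg1) (kg xg28 yg15 zg41) (kg xg32 yg29 zg59) (kg xg27 yg37 zg59) (kg xg32 yg1 zg34) (kg xg32 yg8 zg2) (kg xg31 yg44 zg44) (kg xg18 yg15 zg9) (kg xg28 yg6 zg51) (kg xg18 yg12 zg39) (kg xg32 yg27 zg32) (kg xg32 yg14 zg23) (kg xg19 yg10 zg60) (kg xg27 yg47 zg44) (kg xg28 yg6 zg57) (kg xg18 yg12 zg46) (kg xg28 yg6 zg56) (kg xg18 yg14 zg0) (kg xg23 yg46 zg48) (kg xg29 yg0 zg19) (kg xg23 yg47 zg38) (kg xg18 yg12 zg56) (kg xg19 yg36 zg54) (kg xg25 yg42 zg34) (kg xg19 yg22 zg46) (kg xg28 yg7 zg40) (kg xg18 yg13 zg25) (kg xg25 yg0 zg52) (kg xg18 yg14 zg32) (kg xg18 yg13 zg7) (kg xg32 yg26 zg54) (kg xg28 yg28 zg39) (kg xg18 yg14 zg35) (kg xg32 yg30 zg8) (kg xg22 yg34 zg39) (kg xg18 yg13 zg20) (kg xg32 yg21 zg31) (kg xg20 yg10 zg58) (kg xg18 yg45 zg50) (kg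 xg27 yg38 zg43) (kg xg30 yg44 zg43) (kg xg20 yg11 zg15) (kg xg23 yg50 zg29) (kg xg20 yg10 zg54) (kg xg23 yg50 zg26) (kg xg30 yg31 zg60) (kg xg28 yg8 zg20) (kg xg22 yg49 zg36) (kg xg28 yg45 zg57) (kg xg32 yg10 zg24) (kg xg18 yg13 zg32)) (@D3.rec (fun _ => Pt) (kg xg22 yg34 zg35) (kg xg20 yg57 zg22) (kg xg32 yg7 zg51) (kg xg28 yg4 zg31) (kg xg28 yg5 zg18) (kg xg18 yg58 zg12) (kg xg25 yg46 zg48) (kg xg18 yg13 zg41) (kg xg27 yg34 zg46) (kg xg32 yg29 zg38) (kg xg28 yg46 zg52) (kg xg23 yg49 zg40) (kg xg18 yg13 zg58) (kg xg18 yg15 zg10) (kg xg18 yg13 zg48) (kg xg31 yg10 zg60) (kg xg27 yg33 zg24) (kg xg18 yg56 zg44) (kg xg27 yg34 zg60) (kg xg18 yg13 zg53) (kg xg21 yg13 zg37) (kg xg22 yg10 zg41) (kg xg30 yg45 zg25) (kg xg28 yg17 zg3) (kg xg22 yg14 zg35) (kg xg25 yg3 zg34) (kg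 xg32 yg30 zg1) (kg xg27 yg36 zg47) (kg xg18 yg14 zg4) (kg xg32 yg9 zg3) (kg xg32 yg28 zg23) (kg xg28 yg9 zg21) (kg xg18 yg14 zg13) (kg xg28 yg10 zg3) (kg xg28 yg22 zg2) (kg xg27 yg35 zg19) (kg xg27 yg51 zg42) (kg xg18 yg31 zg41) (kg xg28 yg8 zg7) (kg xg18 yg14 zg21) (kg xg18 yg14 zg52) (kg xg18 yg14 zg23) (kg xg18 yg16 zg50) (kg xg22 yg7 zg23) (kg xg28 yg8 zg23) (kg xg28 yg28 zg45) (kg xg32 yg26 zg57) (kg xg18 yg14 zg33) (kg xg27 yg33 zg43) (kg xg21 yg29 zg58) (kg xg30 yg5 zg3) (kg xg28 yg8 zg50) (kg xg24 yg12 zg42) (kg xg20 yg19 zg1) (kg xg23 yg53 zg53) (kg xg32 yg17 zg15) (kg xg32 yg15 zg15) (kg xg27 yg51 zg51) (kg xg18 yg14 zg41) (kg xg27 yg32 zg7) (kg xg32 yg30 zg15) (kg xg32 yg27 zg38)) (@D3.rec (fun _ => Pt) (kg xg32 yg7 zg22) (kg xg18 yg30 zg40) (kg xg18 yg14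 zg44) (kg xg27 yg52 zg30) (kg xg25 yg48 zg5) (kg xg18 yg14 zg46) (kg xg32 yg28 zg43) (kg xg25 yg48 zg12) (kg xg18 yg14 zg48) (kg xg31 yg14 zg30) (kg xg27 yg52 zg35) (kg xg25 yg54 zg44) (kg xg27 yg37 zg58) (kg xg32 yg30 zg21) (kg xg32 yg27 zg27) (kg xg28 yg32 zg5) (kg xg28 yg32 zg7) (kg xg31 yg42 zg54) (kg xg32 yg7 zg27) (kg xg21 yg35 zg22) (kg xg29 yg20 zg34) (kg xg32 yg26 zg2) (kg xg18 yg32 zg38) (kg xg30 yg24 zg51) (kg xg28 yg31 zg49) (kg xg27 yg33 zg2) (kg xg26 yg17 zg33) (kg xg32 yg30 zg26) (kg xg18 yg45 zg60) (kg xg18 yg32 zg26) (kg xg27 yg55 zg27) (kg xg18 yg15 zg18) (kg xg31 yg11 zg23) (kg xg18 yg15 zg21) (kg xg27 yg33 zg14) (kg xg31 yg39 zg17) (kg xg28 yg31 zg54) (kg xg27 yg59 zg11) (kg xg30 yg46 zg1) (kg xg18 yg15 zg30) (kg xg21 yg40 zg39) (kg xg22 yg29 zg38)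 (kg xg27 yg21 zg23) (kg xg22 yg51 zg45) (kg xg18 yg38 zg56) (kg xg27 yg58 zg43) (kg xg18 yg15 zg55) (kg xg23 yg23 zg52) (kg xg28 yg26 zg9) (kg xg18 yg18 zg50) (kg xg28 yg26 zg10) (kg xg22 yg30 zg53) (kg xg18 yg15 zg58) (kg xg30 yg31 zg39) (kg xg27 yg58 zg42) (kg xg24 yg39 zg27) (kg xg30 yg15 zg7) (kg xg27 yg21 zg18) (kg xg28 yg6 zg32) (kg xg18 yg16 zg23) (kg xg20 yg24 zg50) (kg xg18 yg16 zg21)) (@D3.rec (fun _ => Pt) (kg xg27 yg59 zg1) (kg xg20 yg19 zg38) (kg xg32 yg7 zg16) (kg xg21 yg23 zg28) (kg xg22 yg35 zg13) (kg xg25 yg57 zg9) (kg xg31 yg55 zg51) (kg xg27 yg47 zg33) (kg xg31 yg42 zg23) (kg xg21 yg50 zg44) (kg xg28 yg27 zg35) (kg xg18 yg16 zg56) (kg xg26 yg19 zg53) (kg xg27 yg30 zg52) (kg xg28 yg1 zg52) (kg xg18 yg16 zg58) (kg xg28 yg28 zg6) (kg xg28 yg2 zg50) (kg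 xg27 yg46 zg4) (kg xg18 yg35 zg36) (kg xg28 yg10 zg24) (kg xg21 yg35 zg14) (kg xg24 yg7 zg23) (kg xg27 yg15 zg29) (kg xg23 yg11 zg41) (kg xg29 yg51 zg61) (kg xg22 yg20 zg21) (kg xg18 yg25 zg28) (kg xg29 yg26 zg55) (kg xg27 yg35 zg20) (kg xg18 yg17 zg35) (kg xg32 yg30 zg30) (kg xg32 yg30 zg33) (kg xg27 yg35 zg22) (kg xg27 yg50 zg13) (kg xg18 yg34 zg11) (kg xg18 yg24 zg22) (kg xg25 yg16 zg61) (kg xg22 yg5 zg1) (kg xg24 yg33 zg9) (kg xg30 yg14 zg10) (kg xg24 yg23 zg36) (kg xg26 yg23 zg34) (kg xg20 yg59 zg45) (kg xg32 yg0 zg54) (kg xg28 yg0 zg31) (kg xg18 yg17 zg57) (kg xg18 yg18 zg22) (kg xg21 yg2 zg24) (kg xg24 yg34 zg6) (kg xg29 yg59 zg42) (kg xg27 yg47 zg42) (kg xg27 yg57 zg27) (kg xg18 yg18 zg23) (kg xg19 yg24 zg56) (kg xg25 yg48 zg29) (kg xg25 yg11 zg56) (kg xg26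 yg6 zg48) (kg xg30 yg20 zg9) (kg xg18 yg18 zg13) (kg xg21 yg55 zg39) (kg xg27 yg21 zg12)) (@D3.rec (fun _ => Pt) (kg xg19 yg55 zg9) (kg xg20 yg55 zg58) (kg xg18 yg18 zg18) (kg xg28 yg49 zg32) (kg xg18 yg18 zg20) (kg xg28 yg0 zg36) (kg xg25 yg38 zg38) (kg xg22 yg4 zg27) (kg xg22 yg45 zg28) (kg xg22 yg45 zg25) (kg xg26 yg22 zg40) (kg xg32 yg4 zg41) (kg xg26 yg8 zg32) (kg xg18 yg18 zg29) (kg xg23 yg30 zg57) (kg xg24 yg20 zg47) (kg xg29 yg27 zg13) (kg xg26 yg8 zg34) (kg xg26 yg8 zg24) (kg xg23 yg16 zg18) (kg xg20 yg24 zg22) (kg xg20 yg23 zg32) (kg xg26 yg41 zg15) (kg xg26 yg7 zg16) (kg xg23 yg30 zg54) (kg xg25 yg2 zg28) (kg xg31 yg1 zg4) (kg xg18 yg22 zg57) (kg xg26 yg21 zg46) (kg xg30 yg32 zg9) (kg xg23 yg21 zg17) (kg xg18 yg38 zg58) (kg xg24 yg55 zg57) (kg xg18 yg22 zg52)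 (kg xg24 yg54 zg43) (kg xg26 yg56 zg39) (kg xg28 yg13 zg48) (kg xg25 yg16 zg5) (kg xg25 yg16 zg4) (kg xg18 yg19 zg4) (kg xg26 yg22 zg51) (kg xg30 yg57 zg51) (kg xg31 yg44 zg53) (kg xg22 yg29 zg37) (kg xg18 yg18 zg60) (kg xg23 yg15 zg17) (kg xg31 yg32 zg48) (kg xg23 yg16 zg51) (kg xg29 yg7 zg7) (kg xg31 yg6 zg4) (kg xg21 yg28 zg47) (kg xg28 yg0 zg28) (kg xg26 yg57 zg48) (kg xg19 yg1 zg49) (kg xg18 yg19 zg7) (kg xg30 yg33 zg38) (kg xg28 yg24 zg27) (kg xg26 yg0 zg48) (kg xg27 yg58 zg49) (kg xg27 yg58 zg45) (kg xg23 yg33 zg40) (kg xg18 yg19 zg16)) (@D3.rec (fun _ => Pt) (kg xg32 yg30 zg42) (kg xg31 yg12 zg17) (kg xg30 yg31 zg42) (kg xg31 yg10 zg27) (kg xg26 yg9 zg2) (kg xg32 yg30 zg45) (kg xg28 yg11 zg50) (kg xg18 yg19 zg19) (kg xg21 yg24 zg26) (kg xg28 yg11 zg49) (kg xg19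 yg0 zg11) (kg xg31 yg11 zg9) (kg xg30 yg59 zg36) (kg xg31 yg37 zg9) (kg xg30 yg42 zg46) (kg xg29 yg55 zg27) (kg xg32 yg8 zg61) (kg xg28 yg26 zg52) (kg xg18 yg19 zg32) (kg xg28 yg27 zg9) (kg xg30 yg45 zg54) (kg xg18 yg59 zg23) (kg xg28 yg13 zg2) (kg xg18 yg59 zg26) (kg xg18 yg23 zg9) (kg xg26 yg14 zg49) (kg xg23 yg31 zg50) (kg xg19 yg2 zg1) (kg xg30 yg54 zg26) (kg xg26 yg56 zg6) (kg xg26 yg20 zg11) (kg xg28 yg50 zg33) (kg xg26 yg23 zg32) (kg xg18 yg20 zg1) (kg xg22 yg46 zg35) (kg xg28 yg28 zg25) (kg xg26 yg24 zg23) (kg xg18 yg19 zg52) (kg xg30 yg32 zg57) (kg xg26 yg18 zg22) (kg xg18 yg21 zg58) (kg xg21 yg8 zg18) (kg xg27 yg55 zg45) (kg xg27 yg55 zg54) (kg xg21 yg29 zg5) (kg xg28 yg12 zg17) (kg xg22 yg49 zg54) (kg xg28 yg10 zg43) (kg xg31 yg44 zg54) (kg xg26 yg26 zg31)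 (kg xg31 yg1 zg7) (kg xg27 yg57 zg58) (kg xg18 yg41 zg1) (kg xg23 yg25 zg28) (kg xg26 yg18 zg33) (kg xg18 yg42 zg27) (kg xg28 yg12 zg40) (kg xg19 yg20 zg28) (kg xg25 yg1 zg29) (kg xg18 yg20 zg58) (kg xg18 yg36 zg49) (kg xg18 yg56 zg57)) (@D3.rec (fun _ => Pt) (kg xg32 yg8 zg29) (kg xg28 yg17 zg58) (kg xg27 yg30 zg19) (kg xg18 yg20 zg19) (kg xg27 yg6 zg47) (kg xg24 yg6 zg37) (kg xg22 yg51 zg43) (kg xg18 yg47 zg3) (kg xg28 yg16 zg45) (kg xg28 yg21 zg11) (kg xg27 yg51 zg6) (kg xg28 yg21 zg47) (kg xg19 yg18 zg57) (kg xg27 yg49 zg52) (kg xg18 yg31 zg19) (kg xg18 yg45 zg34) (kg xg27 yg36 zg20) (kg xg18 yg20 zg39) (kg xg28 yg6 zg38) (kg xg26 yg4 zg24) (kg xg18 yg22 zg21) (kg xg18 yg20 zg46) (kg xg23 yg7 zg11) (kg xg23 yg20 zg36) (kg xg28 yg6 zg42) (kg xg27 yg59 zg12) (kg xg21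 yg34 zg50) (kg xg20 yg35 zg22) (kg xg24 yg31 zg18) (kg xg25 yg29 zg25) (kg xg27 yg51 zg18) (kg xg19 yg10 zg21) (kg xg25 yg30 zg56) (kg xg18 yg32 zg39) (kg xg20 yg38 zg14) (kg xg18 yg21 zg8) (kg xg22 yg56 zg44) (kg xg30 yg31 zg10) (kg xg20 yg23 zg3) (kg xg29 yg27 zg39) (kg xg22 yg56 zg42) (kg xg30 yg55 zg27) (kg xg28 yg36 zg27) (kg xg27 yg15 zg24) (kg xg18 yg21 zg17) (kg xg25 yg46 zg49) (kg xg23 yg53 zg43) (kg xg30 yg32 zg0) (kg xg22 yg22 zg51) (kg xg27 yg2 zg46) (kg xg27 yg6 zg8) (kg xg28 yg9 zg4) (kg xg27 yg9 zg15) (kg xg30 yg26 zg18) (kg xg26 yg49 zg61) (kg xg26 yg51 zg2) (kg xg28 yg55 zg2) (kg xg20 yg33 zg55) (kg xg27 yg3 zg13) (kg xg20 yg34 zg9) (kg xg18 yg58 zg55) (kg xg27 yg55 zg46))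
def f_g_28 : D2 → D3 → Pt := @D2.rec (fun _ => D3 → Pt) (@D3.rec (fun _ => Pt) (kg xg18 yg22 zg0) (kg xg18 yg58 zg33) (kg xg18 yg58 zg48) (kg xg18 yg56 zg14) (kg xg26 yg29 zg40) (kg xg21 yg15 zg2) (kg xg26 yg18 zg55) (kg xg28 yg58 zg5) (kg xg26 yg17 zg38) (kg xg18 yg21 zg60) (kg xg32 yg30 zg48) (kg xg28 yg27 zg52) (kg xg28 yg12 zg47) (kg xg28 yg12 zg49) (kg xg32 yg21 zg35) (kg xg25 yg28 zg30) (kg xg20 yg36 zg38) (kg xg18 yg22 zg4) (kg xg28 yg27 zg56) (kg xg29 yg3 zg19) (kg xg32 yg9 zg13) (kg xg28 yg30 zg58) (kg xg18 yg22 zg12) (kg xg18 yg22 zg14) (kg xg28 yg11 zg10) (kg xg20 yg36 zg3) (kg xg31 yg0 zg54) (kg xg18 yg59 zg59) (kg xg18 yg22 zg45) (kg xg27 yg57 zg39) (kg xg26 yg9 zg53) (kg xg27 yg56 zg46) (kg xg21 yg2 zg45) (kg xg27 yg56 zg60) (kg xg28 yg12 zg36) (kg xg25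 yg39 zg36) (kg xg18 yg23 zg1) (kg xg26 yg8 zg10) (kg xg27 yg3 zg23) (kg xg27 yg57 zg4) (kg xg20 yg19 zg61) (kg xg29 yg23 zg58) (kg xg18 yg56 zg18) (kg xg27 yg21 zg37) (kg xg21 yg38 zg27) (kg xg30 yg5 zg37) (kg xg24 yg18 zg57) (kg xg18 yg55 zg5) (kg xg18 yg23 zg40) (kg xg22 yg30 zg24) (kg xg18 yg23 zg55) (kg xg18 yg23 zg43) (kg xg24 yg59 zg11) (kg xg18 yg23 zg47) (kg xg26 yg8 zg53) (kg xg31 yg38 zg60) (kg xg30 yg35 zg10) (kg xg18 yg23 zg52) (kg xg18 yg45 zg16) (kg xg19 yg39 zg5) (kg xg20 yg51 zg49) (kg xg20 yg50 zg51)) (@D3.rec (fun _ => Pt) (kg xg27 yg20 zg26) (kg xg29 yg51 zg57) (kg xg18 yg35 zg47) (kg xg30 yg2 zg46) (kg xg20 yg24 zg54) (kg xg24 yg31 zg16) (kg xg19 yg1 zg51) (kg xg28 yg59 zg11) (kg xg18 yg25 zg5) (kg xg18 yg25 zg40) (kg xg18 yg24 zg50) (kg xg18 yg25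 zg38) (kg xg28 yg10 zg26) (kg xg25 yg17 zg7) (kg xg18 yg24 zg55) (kg xg21 yg37 zg41) (kg xg28 yg10 zg25) (kg xg18 yg25 zg0) (kg xg20 yg13 zg6) (kg xg21 yg50 zg45) (kg xg20 yg7 zg49) (kg xg19 yg10 zg8) (kg xg19 yg20 zg15) (kg xg20 yg5 zg3) (kg xg25 yg9 zg46) (kg xg22 yg9 zg59) (kg xg30 yg17 zg53) (kg xg19 yg38 zg32) (kg xg26 yg3 zg57) (kg xg25 yg2 zg38) (kg xg18 yg25 zg32) (kg xg18 yg26 zg16) (kg xg18 yg25 zg41) (kg xg29 yg13 zg44) (kg xg26 yg55 zg8) (kg xg27 yg53 zg30) (kg xg20 yg8 zg39) (kg xg27 yg17 zg4) (kg xg28 yg55 zg60) (kg xg18 yg26 zg6) (kg xg28 yg10 zg30) (kg xg25 yg45 zg15) (kg xg26 yg55 zg7) (kg xg19 yg20 zg52) (kg xg30 yg37 zg37) (kg xg23 yg49 zg57) (kg xg27 yg45 zg5) (kg xg25 yg43 zg11) (kg xg24 yg40 zg56) (kg xg27 yg45 zg11) (kg xg24 yg22 zg52) (kg xg29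 yg48 zg1) (kg xg18 yg27 zg9) (kg xg24 yg44 zg52) (kg xg32 yg31 zg0) (kg xg18 yg26 zg49) (kg xg32 yg25 zg30) (kg xg28 yg3 zg9) (kg xg18 yg26 zg50) (kg xg28 yg3 zg7) (kg xg31 yg1 zg30) (kg xg28 yg19 zg53)) (@D3.rec (fun _ => Pt) (kg xg27 yg31 zg31) (kg xg18 yg26 zg58) (kg xg30 yg19 zg40) (kg xg32 yg31 zg1) (kg xg31 yg0 zg0) (kg xg32 yg31 zg2) (kg xg30 yg59 zg17) (kg xg25 yg3 zg60) (kg xg28 yg4 zg4) (kg xg31 yg45 zg8) (kg xg31 yg11 zg31) (kg xg32 yg31 zg4) (kg xg25 yg4 zg0) (kg xg30 yg59 zg15) (kg xg30 yg58 zg17) (kg xg23 yg32 zg44) (kg xg31 yg43 zg59) (kg xg18 yg27 zg10) (kg xg28 yg12 zg7) (kg xg27 yg52 zg24) (kg xg18 yg28 zg30) (kg xg27 yg51 zg21) (kg xg32 yg6 zg36) (kg xg27 yg48 zg4) (kg xg30 yg23 zg21) (kg xg23 yg33 zg53) (kg xg32 yg9 zg47) (kg xg26 yg38 zg31) (kg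 xg18 yg27 zg18) (kg xg26 yg19 zg40) (kg xg24 yg45 zg38) (kg xg27 yg50 zg33) (kg xg25 yg46 zg37) (kg xg31 yg44 zg25) (kg xg18 yg27 zg32) (kg xg27 yg28 zg26) (kg xg23 yg22 zg0) (kg xg18 yg45 zg10) (kg xg18 yg29 zg32) (kg xg24 yg46 zg15) (kg xg18 yg48 zg6) (kg xg18 yg48 zg3) (kg xg30 yg3 zg13) (kg xg24 yg27 zg49) (kg xg18 yg27 zg54) (kg xg18 yg45 zg8) (kg xg27 yg6 zg58) (kg xg18 yg27 zg56) (kg xg28 yg16 zg37) (kg xg18 yg47 zg57) (kg xg28 yg6 zg28) (kg xg18 yg51 zg60) (kg xg28 yg19 zg12) (kg xg30 yg58 zg14) (kg xg18 yg29 zg46) (kg xg27 yg48 zg26) (kg xg28 yg3 zg59) (kg xg32 yg31 zg13) (kg xg32 yg31 zg14) (kg xg30 yg48 zg27) (kg xg18 yg28 zg9) (kg xg32 yg31 zg6)) (@D3.rec (fun _ => Pt) (kg xg30 yg1 zg7) (kg xg18 yg29 zg56) (kg xg18 yg28 zg12) (kg xg32 yg28 zg25) (kg xg18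 yg30 zg5) (kg xg25 yg3 zg49) (kg xg28 yg1 zg59) (kg xg18 yg28 zg17) (kg xg30 yg4 zg25) (kg xg28 yg1 zg58) (kg xg27 yg26 zg20) (kg xg18 yg37 zg19) (kg xg32 yg9 zg45) (kg xg18 yg28 zg25) (kg xg18 yg28 zg23) (kg xg32 yg25 zg39) (kg xg19 yg6 zg33) (kg xg32 yg28 zg21) (kg xg18 yg28 zg27) (kg xg27 yg35 zg14) (kg xg29 yg15 zg50) (kg xg31 yg44 zg31) (kg xg24 yg54 zg41) (kg xg18 yg28 zg33) (kg xg32 yg31 zg17) (kg xg24 yg38 zg0) (kg xg18 yg28 zg32) (kg xg32 yg31 zg18) (kg xg27 yg46 zg50) (kg xg18 yg28 zg38) (kg xg18 yg37 zg3) (kg xg18 yg29 zg40) (kg xg18 yg29 zg42) (kg xg32 yg27 zg39) (kg xg24 yg48 zg21) (kg xg27 yg45 zg56) (kg xg18 yg30 zg19) (kg xg18 yg29 zg28) (kg xg18 yg29 zg1) (kg xg29 yg16 zg22) (kg xg18 yg51 zg54) (kg xg32 yg31 zg24) (kg xg18 yg55 zg30) (kg xg18 yg29 zg9)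 (kg xg27 yg26 zg16) (kg xg23 yg44 zg47) (kg xg18 yg29 zg13) (kg xg25 yg46 zg36) (kg xg23 yg6 zg59) (kg xg27 yg31 zg41) (kg xg18 yg49 zg52) (kg xg28 yg10 zg14) (kg xg27 yg4 zg35) (kg xg28 yg22 zg12) (kg xg31 yg11 zg40) (kg xg21 yg34 zg6) (kg xg27 yg56 zg17) (kg xg25 yg0 zg9) (kg xg31 yg44 zg21) (kg xg28 yg2 zg57) (kg xg30 yg59 zg12) (kg xg18 yg29 zg37)) (@D3.rec (fun _ => Pt) (kg xg28 yg4 zg18) (kg xg21 yg34 zg8) (kg xg22 yg5 zg26) (kg xg18 yg29 zg47) (kg xg28 yg2 zg11) (kg xg32 yg31 zg27) (kg xg31 yg57 zg52) (kg xg21 yg56 zg31) (kg xg21 yg41 zg29) (kg xg27 yg48 zg7) (kg xg31 yg6 zg39) (kg xg18 yg30 zg0) (kg xg32 yg31 zg29) (kg xg31 yg44 zg39) (kg xg18 yg30 zg3) (kg xg31 yg44 zg37) (kg xg21 yg56 zg15) (kg xg18 yg30 zg6) (kg xg32 yg6 zg21) (kg xg31 yg15 zg33) (kg xg18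 yg30 zg15) (kg xg27 yg52 zg20) (kg xg26 yg30 zg9) (kg xg32 yg7 zg46) (kg xg32 yg3 zg54) (kg xg27 yg34 zg27) (kg xg30 yg35 zg53) (kg xg18 yg30 zg26) (kg xg30 yg44 zg26) (kg xg32 yg6 zg11) (kg xg25 yg1 zg47) (kg xg27 yg55 zg24) (kg xg18 yg34 zg38) (kg xg22 yg55 zg44) (kg xg24 yg48 zg12) (kg xg28 yg36 zg30) (kg xg18 yg30 zg33) (kg xg32 yg31 zg33) (kg xg28 yg47 zg13) (kg xg27 yg51 zg35) (kg xg32 yg26 zg59) (kg xg27 yg52 zg25) (kg xg32 yg31 zg36) (kg xg32 yg31 zg37) (kg xg27 yg51 zg47) (kg xg27 yg51 zg44) (kg xg18 yg30 zg39) (kg xg31 yg53 zg51) (kg xg28 yg8 zg41) (kg xg18 yg31 zg34) (kg xg18 yg30 zg41) (kg xg28 yg8 zg11) (kg xg18 yg31 zg32) (kg xg18 yg30 zg45) (kg xg19 yg7 zg4) (kg xg18 yg30 zg46) (kg xg19 yg7 zg3) (kg xg18 yg31 zg44) (kg xg21 yg11 zg2) (kg xg31 yg39 zg19)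 (kg xg30 yg44 zg35) (kg xg28 yg37 zg58)) (@D3.rec (fun _ => Pt) (kg xg27 yg52 zg17) (kg xg27 yg32 zg42) (kg xg18 yg31 zg49) (kg xg27 yg49 zg1) (kg xg27 yg32 zg44) (kg xg32 yg10 zg5) (kg xg27 yg32 zg34) (kg xg27 yg32 zg36) (kg xg18 yg53 zg11) (kg xg18 yg30 zg60) (kg xg18 yg53 zg10) (kg xg28 yg15 zg32) (kg xg32 yg29 zg20) (kg xg31 yg7 zg38) (kg xg27 yg49 zg31) (kg xg24 yg48 zg24) (kg xg18 yg31 zg4) (kg xg27 yg52 zg0) (kg xg28 yg15 zg31) (kg xg31 yg58 zg14) (kg xg19 yg6 zg38) (kg xg27 yg53 zg10) (kg xg27 yg45 zg61) (kg xg25 yg1 zg41) (kg xg18 yg31 zg27) (kg xg18 yg31 zg35) (kg xg30 yg44 zg27) (kg xg29 yg54 zg11) (kg xg18 yg31 zg10) (kg xg30 yg44 zg22) (kg xg27 yg51 zg41) (kg xg27 yg53 zg54) (kg xg18 yg46 zg9) (kg xg29 yg20 zg32) (kg xg18 yg31 zg16) (kg xg18 yg31 zg17)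 (kg xg27 yg52 zg47) (kg xg22 yg52 zg7) (kg xg22 yg51 zg55) (kg xg27 yg52 zg51) (kg xg18 yg31 zg21) (kg xg31 yg53 zg47) (kg xg26 yg29 zg11) (kg xg32 yg10 zg25) (kg xg20 yg12 zg3) (kg xg19 yg6 zg40) (kg xg27 yg15 zg44) (kg xg32 yg31 zg49) (kg xg19 yg10 zg15) (kg xg18 yg31 zg28) (kg xg32 yg31 zg53) (kg xg19 yg10 zg17) (kg xg30 yg49 zg14) (kg xg18 yg31 zg30) (kg xg30 yg38 zg7) (kg xg26 yg29 zg7) (kg xg19 yg10 zg14) (kg xg32 yg26 zg31) (kg xg32 yg9 zg14) (kg xg31 yg25 zg21) (kg xg19 yg3 zg17) (kg xg25 yg50 zg42)) (@D3.rec (fun _ => Pt) (kg xg28 yg8 zg8) (kg xg18 yg31 zg33) (kg xg31 yg14 zg53) (kg xg31 yg14 zg44) (kg xg31 yg14 zg52) (kg xg27 yg33 zg6) (kg xg32 yg26 zg0) (kg xg32 yg26 zg27) (kg xg28 yg32 zg1) (kg xg27 yg35 zg3) (kg xg31 yg56 zg6) (kg xg32 yg26 zg25) (kg xg27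 yg29 zg47) (kg xg18 yg31 zg42) (kg xg18 yg35 zg34) (kg xg32 yg3 zg50) (kg xg32 yg3 zg49) (kg xg23 yg22 zg40) (kg xg18 yg31 zg47) (kg xg27 yg52 zg8) (kg xg28 yg25 zg37) (kg xg32 yg30 zg11) (kg xg31 yg4 zg46) (kg xg25 yg45 zg18) (kg xg27 yg35 zg13) (kg xg18 yg32 zg41) (kg xg27 yg20 zg38) (kg xg27 yg20 zg37) (kg xg28 yg3 zg56) (kg xg28 yg3 zg21) (kg xg27 yg46 zg26) (kg xg27 yg55 zg58) (kg xg27 yg46 zg46) (kg xg18 yg32 zg6) (kg xg18 yg32 zg3) (kg xg18 yg32 zg5) (kg xg28 yg4 zg22) (kg xg18 yg37 zg14) (kg xg27 yg49 zg47) (kg xg18 yg35 zg13) (kg xg18 yg36 zg9) (kg xg18 yg34 zg29) (kg xg27 yg37 zg50) (kg xg31 yg1 zg48) (kg xg27 yg38 zg30) (kg xg22 yg10 zg45) (kg xg22 yg10 zg44) (kg xg31 yg42 zg45) (kg xg18 yg34 zg52) (kg xg27 yg51 zg2) (kg xg18 yg34 zg48) (kg xg18 yg32 zg19)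 (kg xg20 yg20 zg52) (kg xg26 yg31 zg53) (kg xg30 yg44 zg31) (kg xg27 yg53 zg27) (kg xg18 yg32 zg21) (kg xg27 yg53 zg26) (kg xg26 yg6 zg5) (kg xg27 yg33 zg15) (kg xg30 yg34 zg51) (kg xg27 yg36 zg46)) (@D3.rec (fun _ => Pt) (kg xg26 yg18 zg37) (kg xg27 yg50 zg43) (kg xg28 yg31 zg46) (kg xg27 yg46 zg33) (kg xg27 yg46 zg32) (kg xg27 yg47 zg34) (kg xg27 yg51 zg23) (kg xg18 yg32 zg46) (kg xg31 yg25 zg19) (kg xg18 yg32 zg51) (kg xg26 yg29 zg14) (kg xg32 yg10 zg6) (kg xg18 yg34 zg39) (kg xg28 yg25 zg35) (kg xg18 yg34 zg44) (kg xg27 yg49 zg21) (kg xg19 yg6 zg26) (kg xg27 yg32 zg5) (kg xg18 yg34 zg31) (kg xg27 yg50 zg9) (kg xg25 yg1 zg39) (kg xg18 yg32 zg59) (kg xg26 yg21 zg27) (kg xg31 yg55 zg15) (kg xg30 yg34 zg45) (kg xg32 yg0 zg31) (kg xg31 yg38 zg16) (kg xg18 yg33 zg5) (kg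 xg28 yg8 zg43) (kg xg27 yg49 zg24) (kg xg28 yg7 zg44) (kg xg25 yg23 zg59) (kg xg28 yg27 zg21) (kg xg32 yg25 zg47) (kg xg18 yg33 zg10) (kg xg32 yg2 zg41) (kg xg28 yg47 zg16) (kg xg26 yg19 zg29) (kg xg29 yg24 zg59) (kg xg32 yg13 zg55) (kg xg28 yg25 zg52) (kg xg28 yg27 zg25) (kg xg30 yg31 zg55) (kg xg24 yg53 zg45) (kg xg28 yg7 zg36) (kg xg24 yg50 zg47) (kg xg28 yg5 zg30) (kg xg18 yg35 zg23) (kg xg32 yg29 zg42) (kg xg18 yg33 zg22) (kg xg32 yg27 zg29) (kg xg27 yg34 zg59) (kg xg27 yg35 zg45) (kg xg24 yg50 zg48) (kg xg27 yg22 zg55) (kg xg18 yg33 zg32) (kg xg18 yg33 zg36) (kg xg26 yg41 zg52) (kg xg22 yg50 zg59) (kg xg18 yg33 zg43) (kg xg32 yg9 zg61) (kg xg27 yg50 zg57)) (@D3.rec (fun _ => Pt) (kg xg18 yg35 zg0) (kg xg30 yg23 zg18) (kg xg18 yg39 zg18) (kg xg27 yg38 zg28) (kg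 xg26 yg50 zg11) (kg xg28 yg14 zg20) (kg xg32 yg26 zg35) (kg xg27 yg54 zg39) (kg xg28 yg6 zg1) (kg xg31 yg32 zg1) (kg xg28 yg4 zg51) (kg xg18 yg33 zg61) (kg xg18 yg34 zg0) (kg xg27 yg49 zg25) (kg xg27 yg49 zg23) (kg xg22 yg18 zg4) (kg xg27 yg49 zg19) (kg xg25 yg21 zg20) (kg xg23 yg54 zg32) (kg xg25 yg0 zg61) (kg xg27 yg55 zg16) (kg xg18 yg35 zg15) (kg xg32 yg26 zg23) (kg xg27 yg54 zg47) (kg xg28 yg27 zg23) (kg xg21 yg7 zg45) (kg xg18 yg35 zg18) (kg xg32 yg32 zg14) (kg xg19 yg6 zg30) (kg xg21 yg15 zg0) (kg xg18 yg34 zg17) (kg xg28 yg7 zg28) (kg xg18 yg34 zg21) (kg xg31 yg22 zg36) (kg xg32 yg10 zg9) (kg xg21 yg12 zg9) (kg xg31 yg16 zg37) (kg xg30 yg44 zg42) (kg xg28 yg47 zg21) (kg xg18 yg36 zg40) (kg xg32 yg29 zg60) (kg xg18 yg34 zg22) (kg xg28 yg19 zg20) (kg xg31 yg25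 zg43) (kg xg29 yg24 zg22) (kg xg19 yg2 zg60) (kg xg31 yg25 zg1) (kg xg31 yg25 zg33) (kg xg21 yg10 zg26) (kg xg26 yg30 zg33) (kg xg27 yg54 zg60) (kg xg23 yg6 zg30) (kg xg29 yg21 zg6) (kg xg20 yg10 zg46) (kg xg25 yg24 zg5) (kg xg30 yg45 zg18) (kg xg31 yg39 zg15) (kg xg19 yg8 zg45) (kg xg32 yg30 zg0) (kg xg21 yg15 zg3) (kg xg29 yg25 zg2) (kg xg26 yg29 zg44)) (@D3.rec (fun _ => Pt) (kg xg32 yg32 zg4) (kg xg29 yg24 zg26) (kg xg26 yg53 zg35) (kg xg28 yg51 zg35) (kg xg18 yg34 zg43) (kg xg31 yg12 zg59) (kg xg18 yg35 zg32) (kg xg24 yg49 zg38) (kg xg18 yg34 zg57) (kg xg23 yg54 zg56) (kg xg18 yg34 zg49) (kg xg31 yg5 zg30) (kg xg20 yg5 zg47) (kg xg27 yg55 zg30) (kg xg18 yg34 zg61) (kg xg26 yg29 zg43) (kg xg31 yg8 zg4) (kg xg32 yg29 zg31) (kg xg28 yg37 zg43) (kg xg26 yg54 zg60)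 (kg xg27 yg36 zg43) (kg xg27 yg54 zg32) (kg xg32 yg26 zg22) (kg xg20 yg20 zg58) (kg xg32 yg30 zg37) (kg xg32 yg31 zg46) (kg xg27 yg52 zg44) (kg xg28 yg25 zg50) (kg xg32 yg28 zg49) (kg xg32 yg32 zg21) (kg xg27 yg33 zg16) (kg xg25 yg3 zg56) (kg xg32 yg26 zg15) (kg xg32 yg30 zg25) (kg xg29 yg19 zg48) (kg xg31 yg5 zg6) (kg xg19 yg22 zg47) (kg xg18 yg38 zg10) (kg xg18 yg36 zg7) (kg xg18 yg36 zg8) (kg xg18 yg35 zg51) (kg xg18 yg38 zg46) (kg xg28 yg12 zg56) (kg xg26 yg46 zg61) (kg xg22 yg47 zg14) (kg xg29 yg7 zg60) (kg xg22 yg56 zg35) (kg xg23 yg10 zg23) (kg xg18 yg36 zg4) (kg xg25 yg8 zg23) (kg xg30 yg54 zg0) (kg xg27 yg15 zg3) (kg xg23 yg0 zg20) (kg xg31 yg59 zg13) (kg xg26 yg53 zg1) (kg xg29 yg43 zg26) (kg xg22 yg36 zg15) (kg xg28 yg47 zg22) (kg xg30 yg32 zg8) (kg xg18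 yg36 zg53) (kg xg25 yg33 zg56) (kg xg31 yg45 zg20)) (@D3.rec (fun _ => Pt) (kg xg30 yg19 zg43) (kg xg18 yg36 zg52) (kg xg28 yg24 zg54) (kg xg21 yg7 zg48) (kg xg25 yg2 zg54) (kg xg25 yg2 zg57) (kg xg23 yg44 zg58) (kg xg18 yg37 zg34) (kg xg18 yg37 zg9) (kg xg26 yg12 zg59) (kg xg32 yg32 zg26) (kg xg30 yg24 zg52) (kg xg28 yg9 zg1) (kg xg23 yg17 zg56) (kg xg27 yg38 zg51) (kg xg21 yg31 zg27) (kg xg23 yg47 zg26) (kg xg18 yg37 zg51) (kg xg27 yg35 zg34) (kg xg27 yg38 zg5) (kg xg21 yg20 zg8) (kg xg18 yg37 zg58) (kg xg28 yg1 zg12) (kg xg27 yg56 zg21) (kg xg27 yg56 zg27) (kg xg28 yg1 zg17) (kg xg18 yg38 zg4) (kg xg18 yg38 zg9) (kg xg18 yg50 zg60) (kg xg24 yg45 zg37) (kg xg21 yg6 zg54) (kg xg21 yg35 zg53) (kg xg23 yg47 zg20) (kg xg32 yg27 zg44) (kg xg27 yg33 zg37) (kg xg32 yg32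 zg29) (kg xg32 yg32 zg31) (kg xg20 yg20 zg54) (kg xg26 yg32 zg29) (kg xg18 yg38 zg44) (kg xg23 yg17 zg14) (kg xg18 yg38 zg49) (kg xg23 yg18 zg47) (kg xg30 yg58 zg27) (kg xg23 yg6 zg33) (kg xg23 yg18 zg13) (kg xg23 yg6 zg20) (kg xg27 yg57 zg42) (kg xg25 yg2 zg0) (kg xg23 yg31 zg29) (kg xg18 yg38 zg54) (kg xg28 yg26 zg7) (kg xg28 yg0 zg2) (kg xg31 yg1 zg14) (kg xg23 yg35 zg37) (kg xg30 yg59 zg35) (kg xg24 yg42 zg31) (kg xg26 yg10 zg8) (kg xg22 yg30 zg9) (kg xg20 yg1 zg24) (kg xg18 yg39 zg5) (kg xg27 yg59 zg60)) (@D3.rec (fun _ => Pt) (kg xg21 yg56 zg61) (kg xg28 yg24 zg45) (kg xg18 yg56 zg15) (kg xg28 yg23 zg5) (kg xg18 yg39 zg9) (kg xg25 yg43 zg21) (kg xg22 yg52 zg8) (kg xg18 yg39 zg11) (kg xg18 yg39 zg25) (kg xg27 yg37 zg44) (kg xg30 yg47 zg27) (kg xg28 yg0 zg24) (kg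 xg18 yg39 zg27) (kg xg27 yg57 zg46) (kg xg24 yg29 zg9) (kg xg31 yg36 zg40) (kg xg31 yg59 zg57) (kg xg18 yg48 zg61) (kg xg31 yg7 zg18) (kg xg21 yg37 zg27) (kg xg21 yg48 zg10) (kg xg26 yg46 zg45) (kg xg28 yg11 zg31) (kg xg19 yg23 zg56) (kg xg24 yg37 zg35) (kg xg18 yg40 zg5) (kg xg27 yg23 zg60) (kg xg25 yg15 zg19) (kg xg18 yg40 zg20) (kg xg22 yg22 zg22) (kg xg21 yg2 zg30) (kg xg28 yg11 zg23) (kg xg25 yg51 zg59) (kg xg31 yg18 zg17) (kg xg23 yg32 zg26) (kg xg23 yg52 zg37) (kg xg27 yg56 zg47) (kg xg25 yg2 zg26) (kg xg32 yg5 zg4) (kg xg23 yg13 zg54) (kg xg27 yg57 zg10) (kg xg23 yg46 zg22) (kg xg29 yg10 zg22) (kg xg32 yg14 zg51) (kg xg32 yg5 zg6) (kg xg23 yg40 zg42) (kg xg31 yg3 zg3) (kg xg25 yg2 zg16) (kg xg27 yg58 zg9) (kg xg18 yg40 zg18) (kg xg27 yg58 zg7) (kg xg26 yg47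 zg8) (kg xg26 yg47 zg10) (kg xg29 yg10 zg20) (kg xg29 yg11 zg7) (kg xg31 yg8 zg41) (kg xg21 yg49 zg23) (kg xg21 yg19 zg27) (kg xg29 yg10 zg54) (kg xg21 yg2 zg28) (kg xg22 yg44 zg57) (kg xg18 yg40 zg24)) (@D3.rec (fun _ => Pt) (kg xg26 yg17 zg61) (kg xg31 yg29 zg6) (kg xg32 yg24 zg55) (kg xg18 yg40 zg29) (kg xg28 yg3 zg28) (kg xg21 yg26 zg13) (kg xg18 yg53 zg23) (kg xg24 yg58 zg52) (kg xg28 yg10 zg52) (kg xg24 yg57 zg42) (kg xg24 yg9 zg38) (kg xg23 yg20 zg13) (kg xg31 yg33 zg47) (kg xg24 yg9 zg41) (kg xg29 yg49 zg60) (kg xg20 yg36 zg47) (kg xg21 yg44 zg26) (kg xg20 yg36 zg10) (kg xg22 yg31 zg41) (kg xg31 yg44 zg52) (kg xg23 yg16 zg8) (kg xg28 yg49 zg22) (kg xg26 yg24 zg52) (kg xg30 yg52 zg36) (kg xg27 yg1 zg27) (kg xg21 yg55 zg54) (kg xg27 yg1 zg22) (kg xg26 yg7 zg15)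 (kg xg26 yg7 zg5) (kg xg24 yg54 zg15) (kg xg26 yg9 zg42) (kg xg24 yg58 zg60) (kg xg31 yg44 zg49) (kg xg18 yg41 zg2) (kg xg26 yg22 zg0) (kg xg30 yg2 zg50) (kg xg19 yg1 zg45) (kg xg24 yg47 zg12) (kg xg27 yg40 zg16) (kg xg18 yg41 zg9) (kg xg26 yg1 zg0) (kg xg30 yg54 zg17) (kg xg30 yg54 zg16) (kg xg23 yg19 zg10) (kg xg22 yg51 zg33) (kg xg28 yg38 zg27) (kg xg20 yg45 zg18) (kg xg28 yg0 zg0) (kg xg26 yg22 zg9) (kg xg18 yg41 zg23) (kg xg20 yg34 zg60) (kg xg29 yg54 zg7) (kg xg29 yg53 zg57) (kg xg24 yg7 zg38) (kg xg25 yg5 zg11) (kg xg29 yg31 zg59) (kg xg28 yg9 zg50) (kg xg20 yg36 zg35) (kg xg22 yg19 zg55) (kg xg18 yg41 zg35) (kg xg27 yg23 zg42) (kg xg31 yg31 zg30)) (@D3.rec (fun _ => Pt) (kg xg26 yg19 zg34) (kg xg27 yg5 zg39) (kg xg26 yg29 zg48) (kg xg31 yg33 zg50) (kg xg30 yg18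 zg21) (kg xg24 yg22 zg56) (kg xg29 yg29 zg48) (kg xg19 yg10 zg9) (kg xg28 yg49 zg56) (kg xg18 yg42 zg6) (kg xg29 yg31 zg45) (kg xg23 yg55 zg26) (kg xg27 yg16 zg7) (kg xg20 yg31 zg44) (kg xg26 yg23 zg45) (kg xg18 yg42 zg26) (kg xg23 yg17 zg42) (kg xg30 yg33 zg31) (kg xg30 yg32 zg10) (kg xg18 yg42 zg31) (kg xg21 yg43 zg32) (kg xg21 yg56 zg50) (kg xg32 yg4 zg43) (kg xg29 yg9 zg61) (kg xg32 yg32 zg48) (kg xg24 yg40 zg3) (kg xg18 yg42 zg34) (kg xg31 yg5 zg25) (kg xg31 yg8 zg28) (kg xg23 yg20 zg42) (kg xg28 yg27 zg12) (kg xg30 yg0 zg36) (kg xg32 yg9 zg54) (kg xg30 yg59 zg51) (kg xg26 yg9 zg24) (kg xg31 yg6 zg27) (kg xg24 yg59 zg24) (kg xg27 yg5 zg21) (kg xg22 yg0 zg29) (kg xg27 yg2 zg52) (kg xg21 yg11 zg13) (kg xg28 yg24 zg25) (kg xg27 yg14 zg57) (kg xg18 yg42 zg50) (kg xg27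 yg14 zg55) (kg xg20 yg36 zg4) (kg xg25 yg18 zg16) (kg xg18 yg42 zg59) (kg xg28 yg0 zg48) (kg xg26 yg25 zg10) (kg xg20 yg18 zg17) (kg xg18 yg43 zg0) (kg xg23 yg32 zg32) (kg xg18 yg43 zg8) (kg xg19 yg52 zg43) (kg xg18 yg43 zg18) (kg xg27 yg6 zg27) (kg xg25 yg18 zg18) (kg xg20 yg6 zg49) (kg xg20 yg24 zg36) (kg xg23 yg48 zg2) (kg xg25 yg56 zg1)) (@D3.rec (fun _ => Pt) (kg xg25 yg56 zg7) (kg xg18 yg44 zg0) (kg xg26 yg48 zg23) (kg xg19 yg48 zg49) (kg xg28 yg15 zg18) (kg xg24 yg11 zg58) (kg xg29 yg13 zg48) (kg xg30 yg8 zg28) (kg xg29 yg21 zg32) (kg xg23 yg56 zg59) (kg xg26 yg44 zg56) (kg xg28 yg50 zg23) (kg xg18 yg44 zg11) (kg xg29 yg21 zg13) (kg xg24 yg47 zg1) (kg xg25 yg56 zg4) (kg xg18 yg44 zg12) (kg xg25 yg55 zg24) (kg xg28 yg8 zg5) (kg xg24 yg48 zg34) (kg xg24 yg49 zg28)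 (kg xg19 yg57 zg53) (kg xg29 yg7 zg51) (kg xg18 yg44 zg24) (kg xg31 yg15 zg31) (kg xg19 yg42 zg21) (kg xg28 yg21 zg58) (kg xg19 yg42 zg22) (kg xg19 yg29 zg18) (kg xg20 yg7 zg48) (kg xg31 yg19 zg14) (kg xg28 yg21 zg54) (kg xg27 yg9 zg32) (kg xg27 yg12 zg34) (kg xg18 yg44 zg35) (kg xg24 yg14 zg42) (kg xg18 yg59 zg5) (kg xg18 yg46 zg13) (kg xg18 yg44 zg42) (kg xg23 yg13 zg5) (kg xg28 yg22 zg31) (kg xg28 yg22 zg46) (kg xg24 yg44 zg16) (kg xg18 yg44 zg52) (kg xg32 yg32 zg58) (kg xg31 yg38 zg47) (kg xg18 yg44 zg55) (kg xg27 yg59 zg8) (kg xg18 yg46 zg61) (kg xg18 yg47 zg47) (kg xg22 yg57 zg49) (kg xg18 yg44 zg61) (kg xg20 yg20 zg26) (kg xg23 yg53 zg49) (kg xg23 yg52 zg58) (kg xg28 yg17 zg16) (kg xg19 yg21 zg46) (kg xg27 yg22 zg35) (kg xg18 yg47 zg2) (kg xg18 yg47 zg41) (kg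 xg26 yg32 zg30) (kg xg28 yg16 zg18)) (@D3.rec (fun _ => Pt) (kg xg19 yg22 zg7) (kg xg18 yg47 zg60) (kg xg29 yg29 zg15) (kg xg32 yg32 zg22) (kg xg22 yg46 zg20) (kg xg31 yg13 zg59) (kg xg26 yg55 zg27) (kg xg29 yg21 zg11) (kg xg27 yg5 zg10) (kg xg19 yg21 zg44) (kg xg22 yg19 zg13) (kg xg28 yg24 zg14) (kg xg26 yg10 zg34) (kg xg26 yg45 zg8) (kg xg19 yg50 zg60) (kg xg31 yg7 zg42) (kg xg28 yg19 zg54) (kg xg18 yg45 zg53) (kg xg28 yg21 zg2) (kg xg28 yg21 zg56) (kg xg18 yg45 zg41) (kg xg27 yg46 zg19) (kg xg19 yg51 zg4) (kg xg32 yg25 zg16) (kg xg22 yg15 zg19) (kg xg29 yg29 zg11) (kg xg20 yg47 zg39) (kg xg31 yg15 zg35) (kg xg22 yg50 zg23) (kg xg19 yg21 zg11) (kg xg23 yg50 zg31) (kg xg28 yg21 zg32) (kg xg28 yg6 zg47) (kg xg25 yg26 zg22) (kg xg31 yg32 zg56) (kg xg31 yg39 zg25) (kg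 xg18 yg45 zg57) (kg xg31 yg53 zg40) (kg xg26 yg31 zg36) (kg xg28 yg38 zg5) (kg xg18 yg45 zg58) (kg xg25 yg28 zg32) (kg xg29 yg12 zg36) (kg xg26 yg40 zg51) (kg xg32 yg14 zg56) (kg xg32 yg14 zg57) (kg xg18 yg46 zg3) (kg xg32 yg33 zg4) (kg xg19 yg29 zg40) (kg xg18 yg46 zg4) (kg xg29 yg2 zg17) (kg xg18 yg46 zg8) (kg xg21 yg9 zg6) (kg xg25 yg26 zg31) (kg xg19 yg18 zg13) (kg xg28 yg38 zg6) (kg xg28 yg21 zg39) (kg xg28 yg38 zg7) (kg xg27 yg15 zg42) (kg xg28 yg20 zg33) (kg xg18 yg46 zg29) (kg xg21 yg24 zg9)) (@D3.rec (fun _ => Pt) (kg xg25 yg12 zg16) (kg xg26 yg5 zg31) (kg xg19 yg38 zg31) (kg xg25 yg12 zg40) (kg xg25 yg24 zg19) (kg xg25 yg26 zg11) (kg xg28 yg5 zg41) (kg xg30 yg45 zg31) (kg xg31 yg55 zg13) (kg xg28 yg22 zg7) (kg xg28 yg22 zg5) (kg xg18 yg46 zg39) (kg xg30 yg25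 zg31) (kg xg25 yg25 zg40) (kg xg28 yg18 zg26) (kg xg30 yg23 zg13) (kg xg28 yg44 zg56) (kg xg25 yg46 zg47) (kg xg25 yg23 zg58) (kg xg23 yg36 zg61) (kg xg31 yg31 zg25) (kg xg29 yg22 zg37) (kg xg29 yg39 zg12) (kg xg18 yg46 zg48) (kg xg29 yg39 zg11) (kg xg22 yg40 zg12) (kg xg24 yg44 zg18) (kg xg18 yg46 zg50) (kg xg30 yg38 zg15) (kg xg30 yg38 zg38) (kg xg27 yg2 zg21) (kg xg25 yg53 zg18) (kg xg24 yg40 zg35) (kg xg30 yg39 zg46) (kg xg30 yg19 zg9) (kg xg32 yg20 zg24) (kg xg28 yg33 zg0) (kg xg28 yg17 zg35) (kg xg31 yg12 zg58) (kg xg28 yg2 zg48) (kg xg28 yg52 zg6) (kg xg32 yg15 zg0) (kg xg18 yg47 zg0) (kg xg32 yg20 zg27) (kg xg29 yg9 zg25) (kg xg29 yg48 zg22) (kg xg24 yg4 zg10) (kg xg27 yg7 zg26) (kg xg30 yg5 zg53) (kg xg25 yg26 zg26) (kg xg32 yg26 zg44) (kg xg18 yg47 zg8) (kg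 xg31 yg53 zg58) (kg xg28 yg19 zg39) (kg xg18 yg47 zg9) (kg xg18 yg47 zg10) (kg xg20 yg19 zg7) (kg xg18 yg47 zg13) (kg xg28 yg16 zg6) (kg xg18 yg47 zg16) (kg xg30 yg29 zg42) (kg xg30 yg36 zg49)) (@D3.rec (fun _ => Pt) (kg xg18 yg47 zg18) (kg xg18 yg47 zg24) (kg xg27 yg54 zg23) (kg xg18 yg47 zg22) (kg xg32 yg15 zg26) (kg xg23 yg53 zg32) (kg xg28 yg46 zg34) (kg xg30 yg23 zg29) (kg xg25 yg58 zg3) (kg xg31 yg19 zg16) (kg xg20 yg35 zg9) (kg xg22 yg22 zg47) (kg xg23 yg6 zg61) (kg xg23 yg11 zg43) (kg xg18 yg47 zg32) (kg xg22 yg58 zg32) (kg xg28 yg17 zg49) (kg xg28 yg50 zg26) (kg xg23 yg8 zg5) (kg xg18 yg47 zg45) (kg xg22 yg59 zg28) (kg xg26 yg17 zg37) (kg xg29 yg36 zg29) (kg xg30 yg38 zg26) (kg xg26 yg28 zg59) (kg xg30 yg38 zg27) (kg xg24 yg26 zg56) (kg xg18 yg48 zg23) (kg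 xg20 yg59 zg56) (kg xg23 yg48 zg41) (kg xg22 yg7 zg11) (kg xg32 yg15 zg6) (kg xg18 yg47 zg58) (kg xg32 yg19 zg33) (kg xg28 yg52 zg5) (kg xg28 yg16 zg39) (kg xg31 yg15 zg29) (kg xg18 yg48 zg2) (kg xg23 yg51 zg7) (kg xg18 yg48 zg7) (kg xg24 yg31 zg44) (kg xg22 yg38 zg3) (kg xg19 yg22 zg4) (kg xg23 yg50 zg49) (kg xg26 yg52 zg15) (kg xg21 yg20 zg32) (kg xg19 yg22 zg10) (kg xg32 yg2 zg18) (kg xg25 yg30 zg37) (kg xg26 yg42 zg12) (kg xg28 yg23 zg53) (kg xg20 yg20 zg22) (kg xg18 yg48 zg20) (kg xg32 yg33 zg24) (kg xg30 yg35 zg40) (kg xg29 yg28 zg52) (kg xg26 yg53 zg47) (kg xg19 yg23 zg0) (kg xg19 yg11 zg47) (kg xg19 yg19 zg41) (kg xg18 yg48 zg31) (kg xg31 yg16 zg38)) (@D3.rec (fun _ => Pt) (kg xg18 yg48 zg40) (kg xg29 yg6 zg39) (kg xg20 yg12 zg4) (kg xg18 yg48 zg39) (kg xg24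 yg36 zg29) (kg xg29 yg15 zg1) (kg xg21 yg54 zg53) (kg xg22 yg16 zg29) (kg xg28 yg23 zg10) (kg xg19 yg22 zg32) (kg xg19 yg22 zg30) (kg xg18 yg48 zg45) (kg xg20 yg38 zg45) (kg xg22 yg32 zg47) (kg xg18 yg48 zg48) (kg xg32 yg32 zg46) (kg xg26 yg32 zg54) (kg xg19 yg49 zg5) (kg xg26 yg52 zg32) (kg xg25 yg34 zg21) (kg xg27 yg59 zg5) (kg xg22 yg25 zg21) (kg xg24 yg30 zg11) (kg xg30 yg28 zg61) (kg xg32 yg33 zg28) (kg xg32 yg12 zg41) (kg xg31 yg53 zg43) (kg xg32 yg31 zg10) (kg xg28 yg16 zg14) (kg xg28 yg18 zg32) (kg xg18 yg49 zg5) (kg xg24 yg26 zg46) (kg xg28 yg18 zg30) (kg xg18 yg49 zg7) (kg xg31 yg13 zg61) (kg xg18 yg54 zg21) (kg xg29 yg39 zg55) (kg xg32 yg32 zg37) (kg xg30 yg28 zg52) (kg xg30 yg21 zg15) (kg xg25 yg30 zg58) (kg xg24 yg40 zg33) (kg xg21 yg52 zg57) (kg xg24 yg53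 zg55) (kg xg22 yg34 zg54) (kg xg19 yg59 zg35) (kg xg23 yg20 zg35) (kg xg28 yg40 zg23) (kg xg26 yg19 zg31) (kg xg23 yg20 zg21) (kg xg32 yg33 zg38) (kg xg30 yg58 zg28) (kg xg25 yg2 zg3) (kg xg30 yg11 zg49) (kg xg30 yg33 zg61) (kg xg31 yg38 zg48) (kg xg26 yg54 zg7) (kg xg28 yg38 zg41) (kg xg24 yg40 zg37) (kg xg28 yg0 zg45) (kg xg19 yg12 zg29) (kg xg27 yg46 zg31)) (@D3.rec (fun _ => Pt) (kg xg20 yg20 zg5) (kg xg30 yg37 zg32) (kg xg28 yg32 zg35) (kg xg23 yg53 zg27) (kg xg31 yg25 zg38) (kg xg18 yg50 zg24) (kg xg25 yg39 zg7) (kg xg21 yg8 zg12) (kg xg20 yg12 zg16) (kg xg21 yg49 zg43) (kg xg23 yg13 zg12) (kg xg19 yg10 zg33) (kg xg28 yg22 zg10) (kg xg19 yg13 zg19) (kg xg26 yg39 zg40) (kg xg19 yg19 zg33) (kg xg27 yg37 zg52) (kg xg27 yg36 zg16) (kg xg18 yg50 zg61) (kg xg25 yg4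 zg42) (kg xg32 yg31 zg39) (kg xg23 yg39 zg39) (kg xg23 yg39 zg37) (kg xg25 yg5 zg1) (kg xg25 yg4 zg61) (kg xg19 yg46 zg4) (kg xg30 yg43 zg12) (kg xg24 yg16 zg20) (kg xg29 yg47 zg59) (kg xg25 yg36 zg12) (kg xg24 yg18 zg38) (kg xg28 yg33 zg45) (kg xg30 yg56 zg34) (kg xg18 yg51 zg17) (kg xg20 yg43 zg35) (kg xg25 yg5 zg37) (kg xg27 yg10 zg9) (kg xg18 yg52 zg19) (kg xg25 yg4 zg38) (kg xg30 yg47 zg39) (kg xg31 yg26 zg30) (kg xg25 yg5 zg42) (kg xg29 yg4 zg43) (kg xg21 yg5 zg11) (kg xg19 yg35 zg40) (kg xg27 yg22 zg23) (kg xg19 yg26 zg7) (kg xg21 yg15 zg30) (kg xg28 yg43 zg23) (kg xg18 yg53 zg61) (kg xg18 yg53 zg58) (kg xg18 yg51 zg34) (kg xg30 yg53 zg34) (kg xg28 yg2 zg1) (kg xg28 yg15 zg14) (kg xg27 yg59 zg9) (kg xg18 yg53 zg33) (kg xg30 yg53 zg20) (kg xg28 yg14 zg26) (kg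 xg28 yg16 zg59) (kg xg18 yg54 zg45) (kg xg32 yg22 zg49)) (@D3.rec (fun _ => Pt) (kg xg18 yg55 zg41) (kg xg18 yg52 zg8) (kg xg18 yg54 zg60) (kg xg18 yg51 zg50) (kg xg22 yg56 zg61) (kg xg18 yg52 zg3) (kg xg27 yg32 zg47) (kg xg30 yg10 zg61) (kg xg18 yg59 zg46) (kg xg23 yg52 zg18) (kg xg28 yg16 zg17) (kg xg18 yg51 zg61) (kg xg22 yg53 zg12) (kg xg30 yg56 zg4) (kg xg22 yg36 zg24) (kg xg24 yg5 zg28) (kg xg18 yg52 zg6) (kg xg18 yg52 zg1) (kg xg26 yg56 zg36) (kg xg20 yg34 zg0) (kg xg29 yg25 zg26) (kg xg31 yg12 zg61) (kg xg24 yg28 zg54) (kg xg25 yg16 zg8) (kg xg23 yg45 zg46) (kg xg18 yg54 zg59) (kg xg32 yg3 zg5) (kg xg23 yg4 zg38) (kg xg31 yg58 zg54) (kg xg25 yg29 zg24) (kg xg22 yg52 zg42) (kg xg18 yg52 zg18) (kg xg25 yg5 zg27) (kg xg31 yg26 zg53) (kg xg24 yg50 zg4) (kg xg27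 yg21 zg50) (kg xg19 yg26 zg5) (kg xg19 yg46 zg0) (kg xg31 yg17 zg38) (kg xg29 yg23 zg20) (kg xg21 yg5 zg33) (kg xg25 yg11 zg39) (kg xg19 yg25 zg57) (kg xg31 yg44 zg8) (kg xg25 yg59 zg37) (kg xg27 yg22 zg31) (kg xg18 yg52 zg54) (kg xg28 yg40 zg37) (kg xg28 yg25 zg34) (kg xg18 yg53 zg43) (kg xg28 yg45 zg46) (kg xg18 yg53 zg2) (kg xg28 yg15 zg56) (kg xg28 yg7 zg46) (kg xg28 yg13 zg1) (kg xg18 yg53 zg40) (kg xg24 yg48 zg28) (kg xg28 yg5 zg43) (kg xg26 yg49 zg9) (kg xg28 yg22 zg29) (kg xg18 yg53 zg14) (kg xg28 yg22 zg27)) (@D3.rec (fun _ => Pt) (kg xg30 yg56 zg14) (kg xg19 yg15 zg21) (kg xg18 yg54 zg8) (kg xg28 yg33 zg36) (kg xg28 yg22 zg23) (kg xg18 yg53 zg20) (kg xg21 yg16 zg53) (kg xg25 yg35 zg48) (kg xg23 yg6 zg57) (kg xg27 yg31 zg57) (kg xg30 yg14 zg23) (kg xg27 yg12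 zg31) (kg xg27 yg46 zg23) (kg xg22 yg49 zg18) (kg xg22 yg17 zg29) (kg xg31 yg23 zg47) (kg xg28 yg23 zg39) (kg xg32 yg33 zg47) (kg xg29 yg5 zg41) (kg xg27 yg2 zg34) (kg xg18 yg53 zg34) (kg xg27 yg57 zg48) (kg xg31 yg53 zg42) (kg xg22 yg59 zg36) (kg xg32 yg2 zg37) (kg xg31 yg16 zg9) (kg xg23 yg52 zg13) (kg xg24 yg21 zg42) (kg xg23 yg51 zg59) (kg xg27 yg32 zg25) (kg xg28 yg15 zg34) (kg xg27 yg49 zg17) (kg xg27 yg54 zg4) (kg xg32 yg29 zg11) (kg xg18 yg53 zg47) (kg xg28 yg32 zg51) (kg xg19 yg20 zg51) (kg xg32 yg33 zg56) (kg xg32 yg33 zg52) (kg xg18 yg53 zg57) (kg xg32 yg32 zg60) (kg xg32 yg33 zg43) (kg xg30 yg36 zg37) (kg xg18 yg54 zg5) (kg xg18 yg54 zg3) (kg xg28 yg32 zg39) (kg xg31 yg0 zg27) (kg xg23 yg12 zg38) (kg xg30 yg55 zg14) (kg xg18 yg54 zg0) (kg xg31 yg46 zg22)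 (kg xg23 yg12 zg9) (kg xg18 yg54 zg1) (kg xg26 yg34 zg4) (kg xg31 yg54 zg1) (kg xg27 yg2 zg6) (kg xg28 yg15 zg20) (kg xg18 yg54 zg9) (kg xg21 yg15 zg32) (kg xg28 yg15 zg12) (kg xg24 yg50 zg54) (kg xg18 yg54 zg14)) (@D3.rec (fun _ => Pt) (kg xg32 yg21 zg54) (kg xg20 yg46 zg60) (kg xg27 yg49 zg58) (kg xg28 yg20 zg56) (kg xg18 yg56 zg51) (kg xg28 yg16 zg11) (kg xg28 yg16 zg9) (kg xg18 yg54 zg20) (kg xg31 yg12 zg39) (kg xg22 yg1 zg17) (kg xg28 yg29 zg54) (kg xg25 yg30 zg60) (kg xg25 yg16 zg20) (kg xg30 yg24 zg32) (kg xg22 yg17 zg30) (kg xg30 yg50 zg60) (kg xg25 yg18 zg30) (kg xg23 yg12 zg3) (kg xg18 yg54 zg30) (kg xg25 yg24 zg2) (kg xg31 yg0 zg14) (kg xg26 yg28 zg44) (kg xg28 yg21 zg7) (kg xg28 yg21 zg5) (kg xg23 yg11 zg49) (kg xg32 yg34 zg6) (kg xg28 yg20 zg61) (kg xg18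 yg54 zg34) (kg xg24 yg25 zg61) (kg xg28 yg20 zg60) (kg xg18 yg54 zg39) (kg xg18 yg54 zg42) (kg xg30 yg27 zg60) (kg xg30 yg56 zg5) (kg xg31 yg39 zg32) (kg xg27 yg15 zg33) (kg xg32 yg34 zg10) (kg xg27 yg10 zg8) (kg xg30 yg48 zg14) (kg xg18 yg54 zg46) (kg xg30 yg48 zg13) (kg xg23 yg55 zg0) (kg xg23 yg14 zg39) (kg xg27 yg32 zg32) (kg xg22 yg15 zg16) (kg xg27 yg33 zg53) (kg xg28 yg14 zg45) (kg xg23 yg31 zg27) (kg xg18 yg54 zg58) (kg xg19 yg8 zg5) (kg xg23 yg4 zg33) (kg xg24 yg21 zg48) (kg xg27 yg9 zg60) (kg xg26 yg45 zg27) (kg xg29 yg52 zg27) (kg xg19 yg7 zg19) (kg xg31 yg32 zg8) (kg xg31 yg39 zg34) (kg xg22 yg53 zg2) (kg xg22 yg57 zg50) (kg xg18 yg55 zg2) (kg xg28 yg48 zg37)) (@D3.rec (fun _ => Pt) (kg xg20 yg45 zg22) (kg xg27 yg38 zg49) (kg xg22 yg53 zg14) (kg xg26 yg56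 zg41) (kg xg28 yg11 zg5) (kg xg28 yg11 zg4) (kg xg32 yg2 zg10) (kg xg23 yg12 zg31) (kg xg18 yg55 zg17) (kg xg29 yg25 zg27) (kg xg28 yg30 zg60) (kg xg28 yg18 zg27) (kg xg18 yg55 zg34) (kg xg30 yg52 zg1) (kg xg30 yg56 zg7) (kg xg18 yg55 zg15) (kg xg22 yg57 zg51) (kg xg18 yg57 zg17) (kg xg18 yg55 zg22) (kg xg18 yg55 zg19) (kg xg28 yg22 zg40) (kg xg28 yg24 zg55) (kg xg24 yg59 zg31) (kg xg31 yg16 zg14) (kg xg30 yg23 zg9) (kg xg28 yg24 zg49) (kg xg20 yg11 zg42) (kg xg28 yg24 zg51) (kg xg30 yg23 zg49) (kg xg30 yg46 zg20) (kg xg29 yg25 zg28) (kg xg25 yg26 zg29) (kg xg23 yg53 zg56) (kg xg18 yg55 zg31) (kg xg18 yg55 zg28) (kg xg22 yg20 zg29) (kg xg22 yg6 zg32) (kg xg28 yg44 zg43) (kg xg30 yg23 zg8) (kg xg28 yg21 zg18) (kg xg25 yg28 zg28) (kg xg22 yg23 zg20) (kg xg30 yg50 zg26)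 (kg xg18 yg55 zg32) (kg xg32 yg22 zg47) (kg xg29 yg50 zg47) (kg xg18 yg55 zg35) (kg xg25 yg53 zg27) (kg xg30 yg26 zg47) (kg xg25 yg34 zg37) (kg xg30 yg23 zg55) (kg xg26 yg55 zg43) (kg xg32 yg34 zg18) (kg xg18 yg55 zg40) (kg xg32 yg3 zg4) (kg xg29 yg48 zg3) (kg xg19 yg30 zg47) (kg xg18 yg55 zg43) (kg xg22 yg48 zg16) (kg xg27 yg15 zg58) (kg xg19 yg19 zg34) (kg xg29 yg1 zg34)) (@D3.rec (fun _ => Pt) (kg xg23 yg53 zg34) (kg xg31 yg53 zg35) (kg xg20 yg11 zg41) (kg xg23 yg4 zg32) (kg xg27 yg3 zg9) (kg xg26 yg56 zg32) (kg xg18 yg55 zg55) (kg xg32 yg34 zg22) (kg xg31 yg33 zg26) (kg xg18 yg55 zg59) (kg xg32 yg33 zg35) (kg xg31 yg33 zg10) (kg xg31 yg31 zg14) (kg xg28 yg22 zg9) (kg xg18 yg56 zg0) (kg xg30 yg15 zg31) (kg xg18 yg56 zg6) (kg xg30 yg29 zg0) (kg xg32 yg22 zg16) (kg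 xg30 yg25 zg40) (kg xg30 yg29 zg3) (kg xg32 yg34 zg29) (kg xg26 yg58 zg14) (kg xg22 yg50 zg56) (kg xg26 yg17 zg26) (kg xg18 yg56 zg12) (kg xg30 yg48 zg56) (kg xg29 yg31 zg44) (kg xg32 yg30 zg49) (kg xg26 yg29 zg45) (kg xg18 yg59 zg41) (kg xg28 yg37 zg55) (kg xg30 yg48 zg53) (kg xg28 yg34 zg45) (kg xg27 yg5 zg36) (kg xg20 yg13 zg50) (kg xg21 yg9 zg40) (kg xg29 yg21 zg51) (kg xg19 yg48 zg11) (kg xg20 yg8 zg44) (kg xg29 yg13 zg54) (kg xg25 yg39 zg13) (kg xg18 yg56 zg39) (kg xg30 yg52 zg29) (kg xg25 yg39 zg11) (kg xg26 yg0 zg58) (kg xg28 yg28 zg37) (kg xg27 yg50 zg51) (kg xg32 yg19 zg59) (kg xg28 yg23 zg27) (kg xg30 yg26 zg42) (kg xg28 yg23 zg25) (kg xg26 yg50 zg39) (kg xg30 yg44 zg6) (kg xg28 yg23 zg21) (kg xg28 yg10 zg2) (kg xg30 yg51 zg20) (kg xg18 yg56 zg59) (kg xg25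 yg56 zg42) (kg xg32 yg15 zg51) (kg xg18 yg57 zg12) (kg xg22 yg42 zg21)) (@D3.rec (fun _ => Pt) (kg xg27 yg59 zg28) (kg xg21 yg49 zg47) (kg xg27 yg11 zg32) (kg xg25 yg12 zg28) (kg xg31 yg15 zg50) (kg xg27 yg7 zg18) (kg xg30 yg4 zg9) (kg xg18 yg57 zg24) (kg xg22 yg16 zg38) (kg xg20 yg40 zg43) (kg xg30 yg34 zg38) (kg xg32 yg34 zg34) (kg xg26 yg58 zg21) (kg xg29 yg27 zg45) (kg xg18 yg57 zg36) (kg xg24 yg33 zg11) (kg xg29 yg32 zg3) (kg xg18 yg57 zg38) (kg xg18 yg57 zg45) (kg xg25 yg25 zg18) (kg xg26 yg58 zg37) (kg xg27 yg35 zg50) (kg xg20 yg23 zg38) (kg xg18 yg57 zg44) (kg xg32 yg34 zg39) (kg xg26 yg56 zg52) (kg xg23 yg49 zg9) (kg xg25 yg56 zg39) (kg xg32 yg22 zg26) (kg xg32 yg34 zg44) (kg xg31 yg14 zg17) (kg xg30 yg7 zg34) (kg xg27 yg3 zg28) (kg xg19 yg17 zg26) (kg xg27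 yg34 zg7) (kg xg27 yg39 zg49) (kg xg28 yg20 zg48) (kg xg23 yg50 zg35) (kg xg30 yg23 zg28) (kg xg18 yg58 zg11) (kg xg32 yg26 zg10) (kg xg18 yg58 zg14) (kg xg31 yg42 zg41) (kg xg31 yg14 zg43) (kg xg32 yg34 zg46) (kg xg18 yg58 zg20) (kg xg31 yg15 zg6) (kg xg27 yg51 zg13) (kg xg22 yg28 zg53) (kg xg31 yg8 zg16) (kg xg18 yg58 zg29) (kg xg28 yg9 zg28) (kg xg27 yg34 zg16) (kg xg27 yg46 zg12) (kg xg23 yg52 zg31) (kg xg18 yg58 zg43) (kg xg18 yg58 zg37) (kg xg21 yg15 zg43) (kg xg19 yg13 zg13) (kg xg23 yg15 zg47) (kg xg18 yg58 zg39) (kg xg23 yg15 zg45)) (@D3.rec (fun _ => Pt) (kg xg23 yg53 zg50) (kg xg29 yg24 zg17) (kg xg26 yg18 zg46) (kg xg30 yg33 zg29) (kg xg18 yg58 zg42) (kg xg20 yg32 zg44) (kg xg28 yg10 zg51) (kg xg18 yg58 zg46) (kg xg27 yg57 zg31) (kg xg18 yg58 zg49) (kg xg27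 yg55 zg44) (kg xg27 yg55 zg49) (kg xg31 yg6 zg48) (kg xg30 yg32 zg34) (kg xg28 yg10 zg61) (kg xg20 yg7 zg42) (kg xg30 yg44 zg12) (kg xg18 yg59 zg10) (kg xg29 yg19 zg30) (kg xg18 yg59 zg6) (kg xg26 yg52 zg51) (kg xg20 yg7 zg50) (kg xg30 yg58 zg29) (kg xg30 yg45 zg36) (kg xg24 yg28 zg23) (kg xg24 yg28 zg20) (kg xg22 yg51 zg25) (kg xg20 yg11 zg16) (kg xg27 yg14 zg53) (kg xg18 yg59 zg13) (kg xg18 yg59 zg17) (kg xg28 yg0 zg4) (kg xg19 yg1 zg41) (kg xg26 yg31 zg52) (kg xg18 yg59 zg20) (kg xg27 yg15 zg7) (kg xg28 yg47 zg31) (kg xg24 yg9 zg19) (kg xg28 yg51 zg46) (kg xg29 yg28 zg24) (kg xg19 yg7 zg31) (kg xg28 yg51 zg39) (kg xg32 yg20 zg28) (kg xg32 yg23 zg59) (kg xg24 yg1 zg32) (kg xg19 yg7 zg36) (kg xg23 yg52 zg53) (kg xg19 yg11 zg54) (kg xg20 yg21 zg1) (kg xg24 yg46 zg32)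 (kg xg29 yg49 zg25) (kg xg26 yg13 zg3) (kg xg27 yg58 zg18) (kg xg28 yg28 zg22) (kg xg18 yg59 zg38) (kg xg31 yg23 zg32) (kg xg28 yg28 zg20) (kg xg19 yg0 zg6) (kg xg28 yg37 zg53) (kg xg21 yg9 zg11) (kg xg28 yg39 zg12) (kg xg26 yg29 zg33)) (@D3.rec (fun _ => Pt) (kg xg18 yg59 zg57) (kg xg29 yg29 zg59) (kg xg18 yg59 zg55) (kg xg26 yg29 zg32) (kg xg28 yg25 zg58) (kg xg30 yg54 zg11) (kg xg29 yg18 zg18) (kg xg20 yg33 zg29) (kg xg26 yg27 zg56) (kg xg28 yg27 zg18) (kg xg26 yg21 zg17) (kg xg26 yg20 zg23) (kg xg29 yg29 zg53) (kg xg24 yg40 zg21) (kg xg23 yg25 zg23) (kg xg25 yg46 zg43) (kg xg19 yg2 zg13) (kg xg20 yg32 zg36) (kg xg19 yg0 zg23) (kg xg32 yg30 zg10) (kg xg28 yg26 zg57) (kg xg32 yg28 zg59) (kg xg30 yg4 zg5) (kg xg32 yg25 zg37) (kg xg31 yg38 zg1) (kg xg28 yg8 zg53) (kg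 xg28 yg28 zg46) (kg xg19 yg0 zg27) (kg xg32 yg26 zg34) (kg xg31 yg38 zg4) (kg xg31 yg43 zg15) (kg xg22 yg29 zg25) (kg xg20 yg30 zg44) (kg xg24 yg34 zg25) (kg xg23 yg50 zg21) (kg xg27 yg56 zg11) (kg xg27 yg40 zg8) (kg xg27 yg31 zg16) (kg xg30 yg11 zg36) (kg xg30 yg20 zg27) (kg xg30 yg20 zg28) (kg xg26 yg14 zg59) (kg xg28 yg10 zg0) (kg xg23 yg35 zg38) (kg xg22 yg8 zg6) (kg xg26 yg19 zg35) (kg xg19 yg2 zg0) (kg xg26 yg29 zg28) (kg xg28 yg17 zg21) (kg xg28 yg18 zg55) (kg xg29 yg28 zg61) (kg xg28 yg0 zg11) (kg xg19 yg0 zg57) (kg xg26 yg21 zg40) (kg xg32 yg22 zg45) (kg xg29 yg19 zg13) (kg xg19 yg1 zg0) (kg xg32 yg34 zg57) (kg xg25 yg6 zg5) (kg xg19 yg1 zg11) (kg xg28 yg0 zg23) (kg xg28 yg14 zg36)) (@D3.rec (fun _ => Pt) (kg xg22 yg18 zg26) (kg xg32 yg8 zg43) (kg xg19 yg49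 zg3) (kg xg22 yg36 zg10) (kg xg24 yg29 zg3) (kg xg23 yg21 zg52) (kg xg32 yg28 zg29) (kg xg26 yg32 zg20) (kg xg30 yg32 zg55) (kg xg19 yg1 zg20) (kg xg32 yg10 zg26) (kg xg25 yg3 zg11) (kg xg23 yg16 zg33) (kg xg23 yg32 zg4) (kg xg25 yg18 zg12) (kg xg20 yg6 zg28) (kg xg26 yg55 zg34) (kg xg31 yg38 zg51) (kg xg30 yg55 zg23) (kg xg28 yg26 zg56) (kg xg19 yg1 zg38) (kg xg32 yg30 zg59) (kg xg28 yg26 zg54) (kg xg26 yg27 zg26) (kg xg28 yg36 zg3) (kg xg28 yg24 zg30) (kg xg28 yg0 zg34) (kg xg29 yg9 zg55) (kg xg29 yg38 zg30) (kg xg24 yg18 zg30) (kg xg22 yg47 zg35) (kg xg30 yg53 zg12) (kg xg30 yg24 zg12) (kg xg29 yg14 zg34) (kg xg30 yg52 zg39) (kg xg26 yg15 zg43) (kg xg30 yg5 zg27) (kg xg25 yg2 zg14) (kg xg24 yg46 zg54) (kg xg31 yg42 zg11) (kg xg31 yg37 zg40) (kg xg27 yg49 zg57) (kg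 xg31 yg37 zg37) (kg xg29 yg20 zg11) (kg xg27 yg54 zg45) (kg xg19 yg2 zg24) (kg xg28 yg27 zg27) (kg xg31 yg37 zg43) (kg xg32 yg25 zg57) (kg xg29 yg20 zg8) (kg xg30 yg37 zg59) (kg xg31 yg30 zg1) (kg xg26 yg9 zg27) (kg xg23 yg8 zg24) (kg xg19 yg8 zg10) (kg xg26 yg56 zg56) (kg xg19 yg11 zg37) (kg xg27 yg23 zg50) (kg xg19 yg11 zg35) (kg xg19 yg19 zg2) (kg xg25 yg40 zg34) (kg xg19 yg11 zg29)) (@D3.rec (fun _ => Pt) (kg xg25 yg21 zg59) (kg xg19 yg3 zg14) (kg xg19 yg9 zg17) (kg xg19 yg20 zg36) (kg xg19 yg9 zg14) (kg xg19 yg2 zg50) (kg xg24 yg9 zg33) (kg xg28 yg26 zg55) (kg xg19 yg2 zg51) (kg xg30 yg56 zg8) (kg xg31 yg18 zg51) (kg xg19 yg9 zg4) (kg xg28 yg58 zg19) (kg xg19 yg9 zg2) (kg xg19 yg12 zg11) (kg xg19 yg8 zg57) (kg xg30 yg28 zg41) (kg xg19 yg8 zg54) (kg xg29 yg40 zg57)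 (kg xg19 yg19 zg61) (kg xg29 yg2 zg3) (kg xg19 yg9 zg25) (kg xg19 yg13 zg32) (kg xg31 yg32 zg45) (kg xg19 yg8 zg51) (kg xg31 yg19 zg4) (kg xg28 yg33 zg25) (kg xg26 yg56 zg44) (kg xg32 yg35 zg17) (kg xg19 yg8 zg46) (kg xg22 yg57 zg1) (kg xg30 yg51 zg22) (kg xg27 yg16 zg48) (kg xg24 yg7 zg3) (kg xg30 yg26 zg25) (kg xg26 yg45 zg6) (kg xg26 yg16 zg3) (kg xg26 yg48 zg21) (kg xg19 yg14 zg31) (kg xg19 yg13 zg11) (kg xg19 yg3 zg46) (kg xg29 yg8 zg25) (kg xg29 yg8 zg24) (kg xg32 yg9 zg22) (kg xg26 yg51 zg22) (kg xg28 yg37 zg26) (kg xg19 yg13 zg23) (kg xg19 yg15 zg8) (kg xg19 yg4 zg14) (kg xg31 yg26 zg33) (kg xg31 yg26 zg32) (kg xg32 yg35 zg21) (kg xg23 yg48 zg10) (kg xg19 yg15 zg31) (kg xg28 yg2 zg52) (kg xg26 yg12 zg2) (kg xg19 yg12 zg17) (kg xg26 yg40 zg14) (kg xg19 yg13 zg21)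 (kg xg19 yg47 zg22) (kg xg28 yg50 zg10) (kg xg19 yg12 zg1)) (@D3.rec (fun _ => Pt) (kg xg29 yg34 zg27) (kg xg28 yg40 zg7) (kg xg31 yg12 zg28) (kg xg28 yg40 zg2) (kg xg29 yg47 zg18) (kg xg32 yg33 zg36) (kg xg27 yg36 zg3) (kg xg19 yg13 zg43) (kg xg19 yg3 zg56) (kg xg31 yg30 zg47) (kg xg19 yg34 zg44) (kg xg19 yg13 zg40) (kg xg31 yg30 zg50) (kg xg26 yg36 zg23) (kg xg19 yg12 zg34) (kg xg32 yg17 zg34) (kg xg30 yg23 zg12) (kg xg24 yg10 zg34) (kg xg24 yg40 zg36) (kg xg31 yg17 zg55) (kg xg26 yg51 zg13) (kg xg19 yg42 zg27) (kg xg24 yg5 zg3) (kg xg25 yg50 zg10) (kg xg19 yg15 zg54) (kg xg19 yg4 zg12) (kg xg20 yg3 zg48) (kg xg19 yg15 zg52) (kg xg19 yg16 zg4) (kg xg19 yg16 zg3) (kg xg28 yg42 zg35) (kg xg31 yg55 zg34) (kg xg28 yg42 zg30) (kg xg23 yg11 zg27) (kg xg25 yg33 zg41) (kg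 xg19 yg16 zg18) (kg xg19 yg4 zg19) (kg xg24 yg37 zg5) (kg xg19 yg16 zg15) (kg xg32 yg35 zg36) (kg xg29 yg8 zg32) (kg xg28 yg42 zg33) (kg xg19 yg4 zg25) (kg xg19 yg18 zg51) (kg xg31 yg14 zg27) (kg xg32 yg35 zg38) (kg xg19 yg11 zg52) (kg xg27 yg19 zg35) (kg xg19 yg17 zg33) (kg xg19 yg4 zg46) (kg xg32 yg17 zg43) (kg xg19 yg21 zg36) (kg xg19 yg5 zg25) (kg xg30 yg54 zg21) (kg xg19 yg20 zg48) (kg xg27 yg50 zg48) (kg xg31 yg32 zg17) (kg xg25 yg55 zg56) (kg xg31 yg45 zg26) (kg xg28 yg23 zg1) (kg xg29 yg52 zg25) (kg xg19 yg5 zg17)) (@D3.rec (fun _ => Pt) (kg xg30 yg30 zg60) (kg xg19 yg22 zg34) (kg xg28 yg39 zg16) (kg xg22 yg21 zg47) (kg xg19 yg5 zg23) (kg xg28 yg41 zg57) (kg xg19 yg22 zg44) (kg xg19 yg23 zg1) (kg xg23 yg56 zg28) (kg xg24 yg13 zg10) (kg xg29 yg35 zg52) (kg xg25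 yg41 zg60) (kg xg29 yg57 zg61) (kg xg19 yg5 zg40) (kg xg25 yg31 zg24) (kg xg26 yg0 zg1) (kg xg31 yg28 zg42) (kg xg27 yg31 zg39) (kg xg28 yg31 zg34) (kg xg31 yg5 zg4) (kg xg24 yg52 zg48) (kg xg23 yg30 zg48) (kg xg32 yg35 zg44) (kg xg25 yg39 zg49) (kg xg21 yg8 zg47) (kg xg25 yg41 zg59) (kg xg24 yg24 zg2) (kg xg27 yg43 zg45) (kg xg24 yg22 zg15) (kg xg19 yg28 zg4) (kg xg30 yg8 zg22) (kg xg24 yg33 zg21) (kg xg19 yg6 zg8) (kg xg30 yg41 zg38) (kg xg27 yg43 zg43) (kg xg24 yg48 zg59) (kg xg19 yg6 zg9) (kg xg24 yg48 zg61) (kg xg32 yg23 zg30) (kg xg19 yg6 zg10) (kg xg20 yg26 zg37) (kg xg24 yg27 zg17) (kg xg28 yg31 zg43) (kg xg24 yg51 zg2) (kg xg24 yg48 zg3) (kg xg26 yg31 zg20) (kg xg32 yg28 zg39) (kg xg26 yg31 zg33) (kg xg19 yg6 zg20) (kg xg27 yg54 zg3) (kg xg28 yg7 zg2) (kg xg19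 yg6 zg21) (kg xg32 yg35 zg45) (kg xg26 yg30 zg13) (kg xg27 yg55 zg34) (kg xg27 yg34 zg22) (kg xg19 yg6 zg25) (kg xg26 yg30 zg48) (kg xg28 yg7 zg24) (kg xg29 yg54 zg23) (kg xg25 yg3 zg31) (kg xg30 yg27 zg41)) (@D3.rec (fun _ => Pt) (kg xg32 yg10 zg11) (kg xg23 yg51 zg38) (kg xg25 yg3 zg8) (kg xg31 yg13 zg5) (kg xg32 yg1 zg59) (kg xg19 yg6 zg37) (kg xg27 yg55 zg18) (kg xg27 yg53 zg57) (kg xg32 yg21 zg58) (kg xg29 yg28 zg39) (kg xg27 yg3 zg27) (kg xg19 yg6 zg41) (kg xg32 yg31 zg47) (kg xg27 yg53 zg6) (kg xg27 yg52 zg54) (kg xg29 yg2 zg2) (kg xg27 yg22 zg57) (kg xg30 yg12 zg17) (kg xg31 yg18 zg22) (kg xg21 yg54 zg19) (kg xg27 yg1 zg13) (kg xg28 yg23 zg55) (kg xg28 yg32 zg45) (kg xg19 yg14 zg14) (kg xg19 yg6 zg54) (kg xg19 yg7 zg11) (kg xg31 yg27 zg16) (kg xg27 yg23 zg53)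 (kg xg28 yg33 zg21) (kg xg26 yg50 zg43) (kg xg26 yg27 zg45) (kg xg27 yg14 zg12) (kg xg19 yg7 zg0) (kg xg28 yg33 zg42) (kg xg19 yg7 zg1) (kg xg28 yg33 zg41) (kg xg31 yg18 zg14) (kg xg19 yg7 zg30) (kg xg19 yg7 zg5) (kg xg28 yg24 zg48) (kg xg24 yg13 zg30) (kg xg28 yg49 zg57) (kg xg26 yg51 zg23) (kg xg30 yg17 zg51) (kg xg27 yg14 zg21) (kg xg28 yg32 zg23) (kg xg22 yg16 zg43) (kg xg24 yg6 zg28) (kg xg27 yg23 zg54) (kg xg30 yg27 zg57) (kg xg31 yg25 zg13) (kg xg30 yg49 zg6) (kg xg22 yg57 zg45) (kg xg27 yg23 zg58) (kg xg19 yg7 zg20) (kg xg30 yg47 zg12) (kg xg28 yg56 zg5) (kg xg32 yg16 zg56) (kg xg32 yg33 zg40) (kg xg25 yg50 zg23) (kg xg30 yg36 zg28) (kg xg19 yg7 zg28)) (@D3.rec (fun _ => Pt) (kg xg22 yg39 zg59) (kg xg19 yg12 zg25) (kg xg32 yg35 zg58) (kg xg31 yg23 zg5) (kg xg28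 yg37 zg51) (kg xg32 yg35 zg20) (kg xg28 yg37 zg46) (kg xg32 yg17 zg41) (kg xg29 yg24 zg40) (kg xg19 yg7 zg34) (kg xg29 yg37 zg5) (kg xg19 yg11 zg43) (kg xg28 yg46 zg45) (kg xg30 yg30 zg44) (kg xg19 yg9 zg46) (kg xg23 yg58 zg47) (kg xg22 yg5 zg45) (kg xg19 yg57 zg39) (kg xg25 yg7 zg15) (kg xg32 yg12 zg43) (kg xg19 yg27 zg2) (kg xg19 yg8 zg3) (kg xg19 yg8 zg11) (kg xg32 yg35 zg3) (kg xg19 yg27 zg6) (kg xg26 yg7 zg51) (kg xg19 yg8 zg0) (kg xg32 yg22 zg19) (kg xg19 yg7 zg59) (kg xg23 yg12 zg28) (kg xg30 yg44 zg17) (kg xg28 yg9 zg52) (kg xg32 yg36 zg3) (kg xg29 yg44 zg26) (kg xg30 yg36 zg13) (kg xg19 yg8 zg1) (kg xg28 yg38 zg55) (kg xg20 yg37 zg25) (kg xg28 yg32 zg38) (kg xg28 yg56 zg23) (kg xg23 yg53 zg28) (kg xg19 yg8 zg6) (kg xg28 yg32 zg34) (kg xg20 yg35 zg4) (kg xg28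 yg16 zg56) (kg xg28 yg19 zg30) (kg xg31 yg25 zg9) (kg xg32 yg35 zg4) (kg xg31 yg0 zg29) (kg xg31 yg0 zg26) (kg xg28 yg37 zg24) (kg xg19 yg8 zg13) (kg xg32 yg1 zg3) (kg xg30 yg56 zg23) (kg xg29 yg2 zg53) (kg xg28 yg37 zg21) (kg xg23 yg12 zg35) (kg xg28 yg56 zg3) (kg xg28 yg29 zg14) (kg xg31 yg25 zg57) (kg xg19 yg8 zg17) (kg xg27 yg12 zg35)) (@D3.rec (fun _ => Pt) (kg xg21 yg27 zg16) (kg xg25 yg40 zg18) (kg xg29 yg37 zg29) (kg xg19 yg9 zg34) (kg xg20 yg34 zg5) (kg xg31 yg31 zg44) (kg xg31 yg53 zg33) (kg xg19 yg8 zg24) (kg xg19 yg8 zg26) (kg xg32 yg0 zg19) (kg xg19 yg8 zg35) (kg xg27 yg3 zg2) (kg xg19 yg8 zg31) (kg xg27 yg14 zg58) (kg xg29 yg40 zg1) (kg xg23 yg56 zg61) (kg xg31 yg14 zg8) (kg xg26 yg51 zg48) (kg xg31 yg25 zg27) (kg xg32 yg36 zg8) (kg xg32 yg9 zg16) (kg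 xg26 yg51 zg33) (kg xg19 yg8 zg41) (kg xg27 yg23 zg52) (kg xg29 yg31 zg22) (kg xg28 yg39 zg14) (kg xg19 yg11 zg50) (kg xg28 yg24 zg11) (kg xg19 yg9 zg55) (kg xg19 yg8 zg52) (kg xg19 yg8 zg49) (kg xg19 yg10 zg19) (kg xg30 yg24 zg33) (kg xg19 yg9 zg47) (kg xg22 yg0 zg21) (kg xg31 yg36 zg50) (kg xg19 yg8 zg61) (kg xg31 yg43 zg23) (kg xg26 yg41 zg45) (kg xg19 yg9 zg43) (kg xg27 yg41 zg54) (kg xg19 yg9 zg6) (kg xg31 yg57 zg7) (kg xg28 yg33 zg58) (kg xg30 yg23 zg53) (kg xg26 yg24 zg49) (kg xg32 yg35 zg18) (kg xg25 yg7 zg19) (kg xg32 yg28 zg27) (kg xg30 yg34 zg37) (kg xg29 yg2 zg44) (kg xg28 yg24 zg33) (kg xg19 yg9 zg23) (kg xg32 yg36 zg10) (kg xg19 yg9 zg21) (kg xg31 yg32 zg9) (kg xg32 yg33 zg53) (kg xg26 yg27 zg42) (kg xg32 yg36 zg11) (kg xg26 yg58 zg2) (kg xg24 yg9 zg34)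 (kg xg19 yg9 zg19)) (@D3.rec (fun _ => Pt) (kg xg30 yg48 zg57) (kg xg24 yg8 zg27) (kg xg29 yg15 zg13) (kg xg32 yg36 zg13) (kg xg29 yg50 zg20) (kg xg29 yg53 zg28) (kg xg20 yg26 zg33) (kg xg31 yg39 zg59) (kg xg29 yg40 zg56) (kg xg19 yg9 zg22) (kg xg29 yg34 zg16) (kg xg22 yg27 zg16) (kg xg30 yg30 zg21) (kg xg32 yg35 zg16) (kg xg19 yg9 zg26) (kg xg32 yg36 zg17) (kg xg32 yg35 zg14) (kg xg29 yg33 zg21) (kg xg26 yg36 zg18) (kg xg19 yg13 zg26) (kg xg26 yg57 zg20) (kg xg31 yg28 zg6) (kg xg21 yg32 zg32) (kg xg25 yg40 zg32) (kg xg19 yg9 zg52) (kg xg19 yg9 zg36) (kg xg20 yg36 zg39) (kg xg32 yg36 zg24) (kg xg30 yg51 zg32) (kg xg29 yg1 zg56) (kg xg29 yg19 zg29) (kg xg26 yg28 zg39) (kg xg32 yg35 zg13) (kg xg30 yg23 zg61) (kg xg28 yg25 zg8) (kg xg30 yg36 zg7) (kg xg30 yg26 zg11) (kg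 xg32 yg24 zg45) (kg xg29 yg1 zg58) (kg xg19 yg10 zg0) (kg xg19 yg9 zg51) (kg xg24 yg7 zg28) (kg xg28 yg32 zg49) (kg xg22 yg48 zg38) (kg xg23 yg56 zg3) (kg xg30 yg36 zg3) (kg xg28 yg32 zg46) (kg xg32 yg36 zg28) (kg xg27 yg9 zg45) (kg xg29 yg1 zg57) (kg xg23 yg48 zg34) (kg xg29 yg1 zg54) (kg xg24 yg7 zg21) (kg xg19 yg27 zg5) (kg xg27 yg6 zg28) (kg xg32 yg36 zg30) (kg xg30 yg20 zg32) (kg xg31 yg7 zg37) (kg xg29 yg1 zg53) (kg xg31 yg31 zg45) (kg xg29 yg35 zg9) (kg xg19 yg10 zg7)) (@D3.rec (fun _ => Pt) (kg xg26 yg22 zg53) (kg xg24 yg7 zg59) (kg xg19 yg10 zg10) (kg xg19 yg12 zg33) (kg xg29 yg36 zg60) (kg xg26 yg31 zg41) (kg xg32 yg23 zg17) (kg xg22 yg38 zg32) (kg xg19 yg10 zg13) (kg xg28 yg45 zg30) (kg xg30 yg49 zg46) (kg xg32 yg31 zg54) (kg xg30 yg34 zg47) (kg xg32 yg36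 zg32) (kg xg19 yg30 zg15) (kg xg32 yg31 zg38) (kg xg30 yg3 zg36) (kg xg28 yg7 zg25) (kg xg32 yg31 zg55) (kg xg19 yg10 zg18) (kg xg22 yg42 zg61) (kg xg23 yg52 zg57) (kg xg32 yg20 zg2) (kg xg31 yg58 zg47) (kg xg32 yg0 zg25) (kg xg19 yg10 zg23) (kg xg32 yg35 zg7) (kg xg32 yg22 zg46) (kg xg22 yg34 zg40) (kg xg24 yg8 zg0) (kg xg31 yg16 zg58) (kg xg31 yg25 zg31) (kg xg27 yg51 zg1) (kg xg25 yg48 zg0) (kg xg30 yg23 zg59) (kg xg30 yg26 zg12) (kg xg29 yg2 zg1) (kg xg26 yg35 zg19) (kg xg21 yg47 zg33) (kg xg24 yg49 zg41) (kg xg19 yg11 zg19) (kg xg32 yg9 zg19) (kg xg28 yg41 zg28) (kg xg28 yg9 zg36) (kg xg20 yg42 zg10) (kg xg31 yg40 zg39) (kg xg27 yg53 zg33) (kg xg19 yg15 zg2) (kg xg26 yg47 zg50) (kg xg23 yg43 zg21) (kg xg24 yg34 zg24) (kg xg27 yg50 zg41) (kg xg23 yg37 zg44) (kg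 xg20 yg54 zg28) (kg xg19 yg11 zg4) (kg xg26 yg46 zg59) (kg xg25 yg17 zg49) (kg xg21 yg50 zg53) (kg xg27 yg1 zg7) (kg xg30 yg18 zg53) (kg xg31 yg34 zg25) (kg xg32 yg36 zg38)) (@D3.rec (fun _ => Pt) (kg xg31 yg41 zg26) (kg xg26 yg54 zg33) (kg xg32 yg11 zg2) (kg xg25 yg19 zg45) (kg xg19 yg11 zg14) (kg xg25 yg19 zg44) (kg xg30 yg19 zg34) (kg xg25 yg21 zg60) (kg xg25 yg13 zg43) (kg xg25 yg21 zg47) (kg xg19 yg11 zg18) (kg xg25 yg21 zg45) (kg xg22 yg5 zg38) (kg xg25 yg52 zg24) (kg xg19 yg14 zg34) (kg xg32 yg11 zg45) (kg xg30 yg49 zg36) (kg xg32 yg10 zg30) (kg xg31 yg58 zg12) (kg xg31 yg58 zg11) (kg xg22 yg33 zg45) (kg xg28 yg33 zg50) (kg xg19 yg11 zg30) (kg xg28 yg44 zg54) (kg xg28 yg33 zg55) (kg xg32 yg9 zg36) (kg xg28 yg34 zg41) (kg xg25 yg23 zg41) (kg xg28 yg33 zg60) (kg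 xg30 yg46 zg41) (kg xg30 yg36 zg14) (kg xg28 yg59 zg25) (kg xg19 yg52 zg26) (kg xg19 yg21 zg54) (kg xg27 yg9 zg6) (kg xg23 yg48 zg40) (kg xg32 yg36 zg49) (kg xg29 yg8 zg57) (kg xg28 yg41 zg26) (kg xg29 yg8 zg53) (kg xg32 yg20 zg26) (kg xg29 yg27 zg1) (kg xg28 yg30 zg53) (kg xg28 yg17 zg56) (kg xg23 yg19 zg19) (kg xg30 yg22 zg53) (kg xg28 yg33 zg4) (kg xg19 yg11 zg51) (kg xg28 yg45 zg28) (kg xg30 yg19 zg20) (kg xg29 yg35 zg53) (kg xg28 yg33 zg6) (kg xg30 yg30 zg46) (kg xg28 yg29 zg52) (kg xg28 yg24 zg31) (kg xg19 yg11 zg55) (kg xg30 yg32 zg22) (kg xg28 yg59 zg60) (kg xg32 yg29 zg40) (kg xg28 yg22 zg44) (kg xg32 yg35 zg33) (kg xg25 yg4 zg8)) (@D3.rec (fun _ => Pt) (kg xg23 yg34 zg37) (kg xg28 yg4 zg61) (kg xg19 yg13 zg34) (kg xg19 yg12 zg2) (kg xg19 yg12 zg6) (kg xg28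 yg15 zg40) (kg xg19 yg12 zg4) (kg xg31 yg27 zg31) (kg xg32 yg36 zg56) (kg xg30 yg36 zg41) (kg xg25 yg14 zg56) (kg xg32 yg33 zg57) (kg xg19 yg12 zg7) (kg xg32 yg2 zg8) (kg xg32 yg24 zg37) (kg xg24 yg18 zg43) (kg xg29 yg28 zg18) (kg xg25 yg40 zg13) (kg xg30 yg46 zg51) (kg xg29 yg19 zg33) (kg xg28 yg26 zg60) (kg xg19 yg50 zg49) (kg xg25 yg53 zg13) (kg xg26 yg38 zg30) (kg xg30 yg44 zg57) (kg xg32 yg35 zg59) (kg xg26 yg28 zg45) (kg xg23 yg7 zg8) (kg xg32 yg33 zg42) (kg xg19 yg12 zg23) (kg xg32 yg37 zg1) (kg xg32 yg36 zg59) (kg xg32 yg37 zg3) (kg xg29 yg8 zg5) (kg xg31 yg27 zg29) (kg xg31 yg59 zg38) (kg xg29 yg8 zg36) (kg xg32 yg35 zg57) (kg xg19 yg12 zg26) (kg xg32 yg37 zg10) (kg xg19 yg15 zg16) (kg xg28 yg18 zg56) (kg xg20 yg43 zg0) (kg xg30 yg38 zg35) (kg xg30 yg22 zg57)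 (kg xg19 yg12 zg54) (kg xg31 yg18 zg10) (kg xg27 yg36 zg5) (kg xg26 yg6 zg10) (kg xg32 yg37 zg12) (kg xg19 yg12 zg38) (kg xg32 yg9 zg24) (kg xg26 yg52 zg41) (kg xg19 yg14 zg60) (kg xg28 yg33 zg35) (kg xg23 yg0 zg21) (kg xg32 yg37 zg15) (kg xg28 yg47 zg30) (kg xg19 yg12 zg51) (kg xg31 yg12 zg48) (kg xg19 yg13 zg5) (kg xg24 yg49 zg46)) (@D3.rec (fun _ => Pt) (kg xg32 yg11 zg54) (kg xg19 yg12 zg61) (kg xg29 yg53 zg35) (kg xg19 yg13 zg0) (kg xg28 yg37 zg15) (kg xg31 yg17 zg32) (kg xg31 yg17 zg58) (kg xg24 yg8 zg36) (kg xg30 yg39 zg2) (kg xg20 yg17 zg24) (kg xg28 yg27 zg4) (kg xg19 yg13 zg17) (kg xg19 yg13 zg16) (kg xg30 yg25 zg34) (kg xg31 yg30 zg26) (kg xg28 yg24 zg19) (kg xg28 yg46 zg49) (kg xg23 yg34 zg20) (kg xg32 yg18 zg32) (kg xg28 yg31 zg2) (kg xg29 yg32 zg55) (kg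 xg29 yg40 zg27) (kg xg31 yg36 zg5) (kg xg32 yg35 zg28) (kg xg22 yg26 zg1) (kg xg19 yg13 zg24) (kg xg27 yg0 zg39) (kg xg19 yg13 zg50) (kg xg32 yg35 zg25) (kg xg32 yg37 zg23) (kg xg20 yg57 zg57) (kg xg32 yg16 zg50) (kg xg26 yg51 zg25) (kg xg30 yg24 zg36) (kg xg26 yg44 zg14) (kg xg19 yg13 zg29) (kg xg30 yg11 zg40) (kg xg19 yg13 zg30) (kg xg32 yg12 zg38) (kg xg29 yg40 zg34) (kg xg32 yg37 zg27) (kg xg19 yg13 zg38) (kg xg19 yg13 zg35) (kg xg32 yg37 zg32) (kg xg20 yg56 zg7) (kg xg19 yg13 zg36) (kg xg31 yg12 zg41) (kg xg31 yg18 zg0) (kg xg32 yg12 zg23) (kg xg29 yg44 zg40) (kg xg31 yg24 zg53) (kg xg31 yg30 zg45) (kg xg32 yg13 zg49) (kg xg32 yg37 zg36) (kg xg19 yg47 zg24) (kg xg19 yg13 zg42) (kg xg27 yg0 zg18) (kg xg32 yg10 zg42) (kg xg31 yg23 zg52) (kg xg19 yg13 zg44) (kg xg31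 yg39 zg57) (kg xg19 yg13 zg45)) (@D3.rec (fun _ => Pt) (kg xg31 yg39 zg58) (kg xg31 yg32 zg32) (kg xg28 yg30 zg6) (kg xg32 yg37 zg42) (kg xg28 yg39 zg4) (kg xg29 yg53 zg31) (kg xg20 yg35 zg40) (kg xg26 yg39 zg5) (kg xg28 yg23 zg52) (kg xg32 yg37 zg46) (kg xg28 yg40 zg6) (kg xg29 yg31 zg35) (kg xg28 yg34 zg24) (kg xg20 yg23 zg57) (kg xg26 yg52 zg22) (kg xg32 yg12 zg37) (kg xg27 yg19 zg26) (kg xg26 yg36 zg2) (kg xg32 yg37 zg52) (kg xg24 yg35 zg12) (kg xg32 yg13 zg0) (kg xg19 yg14 zg2) (kg xg19 yg14 zg5) (kg xg32 yg13 zg6) (kg xg31 yg21 zg0) (kg xg26 yg35 zg47) (kg xg32 yg36 zg14) (kg xg19 yg14 zg4) (kg xg26 yg35 zg44) (kg xg31 yg34 zg10) (kg xg26 yg57 zg31) (kg xg20 yg35 zg44) (kg xg30 yg16 zg6) (kg xg19 yg14 zg9) (kg xg29 yg46 zg6) (kg xg32 yg19 zg9) (kg xg29 yg44 zg52)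 (kg xg19 yg14 zg15) (kg xg30 yg17 zg31) (kg xg26 yg33 zg18) (kg xg25 yg21 zg40) (kg xg19 yg14 zg23) (kg xg32 yg10 zg59) (kg xg25 yg21 zg38) (kg xg29 yg43 zg17) (kg xg32 yg22 zg14) (kg xg26 yg33 zg19) (kg xg28 yg29 zg25) (kg xg28 yg54 zg49) (kg xg26 yg2 zg48) (kg xg26 yg47 zg32) (kg xg19 yg14 zg56) (kg xg19 yg14 zg30) (kg xg21 yg34 zg1) (kg xg24 yg29 zg17) (kg xg30 yg31 zg38) (kg xg25 yg38 zg41) (kg xg23 yg12 zg39) (kg xg32 yg38 zg3) (kg xg29 yg10 zg9) (kg xg29 yg10 zg26) (kg xg30 yg58 zg0)) (@D3.rec (fun _ => Pt) (kg xg30 yg6 zg38) (kg xg31 yg33 zg59) (kg xg29 yg5 zg56) (kg xg31 yg33 zg57) (kg xg26 yg9 zg1) (kg xg30 yg20 zg41) (kg xg19 yg14 zg41) (kg xg32 yg5 zg58) (kg xg24 yg31 zg43) (kg xg27 yg7 zg48) (kg xg23 yg1 zg2) (kg xg24 yg26 zg16) (kg xg29 yg1 zg17) (kg xg25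 yg34 zg54) (kg xg24 yg22 zg29) (kg xg26 yg9 zg4) (kg xg21 yg6 zg44) (kg xg30 yg2 zg25) (kg xg32 yg28 zg15) (kg xg26 yg1 zg49) (kg xg24 yg40 zg61) (kg xg26 yg2 zg49) (kg xg29 yg51 zg11) (kg xg21 yg45 zg17) (kg xg27 yg28 zg6) (kg xg19 yg29 zg50) (kg xg30 yg12 zg28) (kg xg30 yg12 zg21) (kg xg19 yg14 zg61) (kg xg26 yg41 zg0) (kg xg31 yg50 zg4) (kg xg19 yg15 zg36) (kg xg19 yg18 zg43) (kg xg19 yg15 zg37) (kg xg28 yg43 zg41) (kg xg27 yg46 zg10) (kg xg27 yg44 zg28) (kg xg31 yg29 zg30) (kg xg28 yg44 zg5) (kg xg23 yg56 zg47) (kg xg27 yg30 zg49) (kg xg32 yg24 zg61) (kg xg32 yg35 zg23) (kg xg19 yg15 zg32) (kg xg32 yg5 zg50) (kg xg27 yg25 zg17) (kg xg24 yg11 zg23) (kg xg24 yg11 zg17) (kg xg29 yg23 zg4) (kg xg31 yg29 zg34) (kg xg32 yg14 zg43) (kg xg23 yg9 zg47) (kg xg31 yg21 zg58)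 (kg xg29 yg23 zg12) (kg xg19 yg15 zg50) (kg xg24 yg58 zg32) (kg xg24 yg5 zg18) (kg xg28 yg47 zg2) (kg xg28 yg31 zg5) (kg xg29 yg12 zg39) (kg xg32 yg0 zg23) (kg xg25 yg50 zg31)) (@D3.rec (fun _ => Pt) (kg xg29 yg12 zg38) (kg xg19 yg33 zg32) (kg xg23 yg48 zg19) (kg xg25 yg15 zg7) (kg xg19 yg16 zg11) (kg xg19 yg16 zg5) (kg xg29 yg28 zg2) (kg xg19 yg16 zg12) (kg xg19 yg16 zg9) (kg xg25 yg27 zg33) (kg xg32 yg38 zg11) (kg xg23 yg56 zg37) (kg xg19 yg16 zg10) (kg xg32 yg35 zg35) (kg xg26 yg40 zg56) (kg xg29 yg47 zg38) (kg xg23 yg12 zg48) (kg xg21 yg57 zg11) (kg xg25 yg42 zg0) (kg xg24 yg36 zg59) (kg xg25 yg34 zg53) (kg xg19 yg16 zg16) (kg xg21 yg58 zg7) (kg xg25 yg54 zg61) (kg xg25 yg34 zg59) (kg xg31 yg49 zg17) (kg xg19 yg16 zg19) (kg xg31 yg36 zg45) (kg xg19 yg16 zg20) (kg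 xg29 yg1 zg22) (kg xg28 yg30 zg34) (kg xg26 yg43 zg17) (kg xg20 yg31 zg56) (kg xg28 yg30 zg42) (kg xg20 yg31 zg55) (kg xg19 yg49 zg42) (kg xg32 yg0 zg60) (kg xg28 yg30 zg30) (kg xg29 yg2 zg12) (kg xg26 yg42 zg49) (kg xg26 yg2 zg36) (kg xg24 yg30 zg54) (kg xg24 yg24 zg14) (kg xg21 yg49 zg3) (kg xg19 yg16 zg47) (kg xg19 yg16 zg48) (kg xg21 yg48 zg59) (kg xg31 yg5 zg29) (kg xg25 yg38 zg0) (kg xg19 yg16 zg50) (kg xg30 yg10 zg41) (kg xg24 yg30 zg47) (kg xg23 yg43 zg14) (kg xg29 yg51 zg18) (kg xg19 yg16 zg55) (kg xg26 yg11 zg17) (kg xg26 yg6 zg47) (kg xg30 yg9 zg4) (kg xg21 yg49 zg46) (kg xg19 yg17 zg12) (kg xg19 yg17 zg7) (kg xg26 yg5 zg54)) (@D3.rec (fun _ => Pt) (kg xg24 yg21 zg59) (kg xg29 yg8 zg1) (kg xg25 yg11 zg59) (kg xg32 yg35 zg5) (kg xg32 yg38 zg16) (kg xg30 yg43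 zg51) (kg xg19 yg52 zg42) (kg xg20 yg37 zg49) (kg xg19 yg17 zg35) (kg xg19 yg50 zg51) (kg xg24 yg19 zg51) (kg xg19 yg17 zg43) (kg xg26 yg28 zg9) (kg xg19 yg50 zg54) (kg xg24 yg50 zg41) (kg xg26 yg56 zg49) (kg xg27 yg19 zg29) (kg xg26 yg51 zg54) (kg xg30 yg12 zg40) (kg xg19 yg23 zg28) (kg xg19 yg17 zg56) (kg xg28 yg36 zg14) (kg xg29 yg21 zg1) (kg xg19 yg17 zg59) (kg xg28 yg14 zg44) (kg xg23 yg48 zg5) (kg xg31 yg37 zg13) (kg xg28 yg39 zg17) (kg xg26 yg53 zg43) (kg xg28 yg18 zg60) (kg xg27 yg33 zg40) (kg xg28 yg38 zg23) (kg xg28 yg19 zg47) (kg xg25 yg50 zg24) (kg xg19 yg59 zg51) (kg xg31 yg18 zg47) (kg xg29 yg8 zg51) (kg xg26 yg56 zg46) (kg xg32 yg18 zg26) (kg xg30 yg22 zg50) (kg xg29 yg5 zg58) (kg xg28 yg41 zg36) (kg xg23 yg35 zg61) (kg xg31 yg32 zg51) (kg xg32 yg5 zg2)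 (kg xg31 yg19 zg11) (kg xg32 yg4 zg37) (kg xg32 yg28 zg9) (kg xg19 yg18 zg26) (kg xg32 yg6 zg42) (kg xg30 yg57 zg18) (kg xg19 yg18 zg27) (kg xg31 yg0 zg46) (kg xg31 yg41 zg61) (kg xg29 yg9 zg35) (kg xg26 yg7 zg11) (kg xg20 yg24 zg38) (kg xg32 yg3 zg21) (kg xg29 yg54 zg3) (kg xg19 yg48 zg13) (kg xg23 yg58 zg40) (kg xg24 yg55 zg23)) (@D3.rec (fun _ => Pt) (kg xg31 yg32 zg53) (kg xg31 yg27 zg60) (kg xg31 yg15 zg39) (kg xg26 yg12 zg1) (kg xg22 yg40 zg1) (kg xg28 yg29 zg55) (kg xg32 yg5 zg38) (kg xg28 yg28 zg3) (kg xg32 yg17 zg17) (kg xg20 yg38 zg9) (kg xg25 yg58 zg4) (kg xg23 yg34 zg0) (kg xg23 yg14 zg41) (kg xg19 yg18 zg60) (kg xg31 yg50 zg34) (kg xg19 yg18 zg61) (kg xg29 yg42 zg20) (kg xg23 yg5 zg43) (kg xg19 yg19 zg7) (kg xg27 yg8 zg8) (kg xg29 yg47 zg4) (kg xg29 yg45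 zg4) (kg xg29 yg45 zg3) (kg xg24 yg26 zg47) (kg xg19 yg19 zg19) (kg xg24 yg23 zg31) (kg xg20 yg58 zg59) (kg xg19 yg19 zg23) (kg xg19 yg19 zg26) (kg xg32 yg38 zg26) (kg xg31 yg31 zg31) (kg xg26 yg38 zg39) (kg xg19 yg19 zg24) (kg xg20 yg35 zg25) (kg xg26 yg38 zg53) (kg xg32 yg13 zg28) (kg xg32 yg11 zg10) (kg xg32 yg13 zg29) (kg xg28 yg39 zg44) (kg xg32 yg38 zg32) (kg xg19 yg19 zg59) (kg xg19 yg19 zg30) (kg xg19 yg19 zg60) (kg xg26 yg24 zg11) (kg xg19 yg19 zg40) (kg xg21 yg3 zg38) (kg xg19 yg20 zg2) (kg xg29 yg19 zg34) (kg xg27 yg21 zg56) (kg xg20 yg49 zg52) (kg xg30 yg17 zg2) (kg xg28 yg37 zg61) (kg xg28 yg37 zg45) (kg xg19 yg29 zg48) (kg xg25 yg40 zg25) (kg xg19 yg19 zg55) (kg xg28 yg16 zg19) (kg xg27 yg38 zg56) (kg xg21 yg2 zg7) (kg xg30 yg28 zg40) (kg xg31 yg32 zg21)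 (kg xg31 yg56 zg38)) (@D3.rec (fun _ => Pt) (kg xg19 yg23 zg15) (kg xg32 yg35 zg41) (kg xg32 yg27 zg4) (kg xg27 yg8 zg3) (kg xg27 yg22 zg12) (kg xg26 yg52 zg57) (kg xg24 yg15 zg35) (kg xg32 yg30 zg60) (kg xg19 yg20 zg13) (kg xg24 yg7 zg5) (kg xg19 yg20 zg20) (kg xg32 yg27 zg8) (kg xg25 yg11 zg11) (kg xg25 yg50 zg33) (kg xg31 yg56 zg54) (kg xg30 yg19 zg22) (kg xg31 yg32 zg16) (kg xg28 yg25 zg20) (kg xg25 yg19 zg60) (kg xg25 yg20 zg52) (kg xg31 yg19 zg40) (kg xg19 yg20 zg25) (kg xg21 yg36 zg56) (kg xg31 yg21 zg26) (kg xg28 yg37 zg19) (kg xg27 yg52 zg7) (kg xg25 yg14 zg1) (kg xg22 yg51 zg38) (kg xg27 yg23 zg46) (kg xg19 yg20 zg31) (kg xg28 yg17 zg53) (kg xg28 yg37 zg42) (kg xg25 yg11 zg0) (kg xg29 yg15 zg14) (kg xg29 yg19 zg50) (kg xg28 yg20 zg49) (kg xg31 yg12 zg36) (kg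 xg20 yg38 zg27) (kg xg19 yg51 zg17) (kg xg31 yg59 zg18) (kg xg29 yg48 zg0) (kg xg24 yg29 zg38) (kg xg32 yg7 zg19) (kg xg26 yg46 zg13) (kg xg19 yg43 zg37) (kg xg24 yg47 zg37) (kg xg19 yg21 zg4) (kg xg26 yg51 zg21) (kg xg26 yg51 zg24) (kg xg28 yg21 zg57) (kg xg19 yg21 zg24) (kg xg23 yg59 zg51) (kg xg28 yg21 zg17) (kg xg24 yg25 zg27) (kg xg20 yg30 zg53) (kg xg31 yg16 zg0) (kg xg30 yg25 zg38) (kg xg25 yg46 zg6) (kg xg30 yg35 zg48) (kg xg32 yg32 zg54) (kg xg23 yg9 zg10) (kg xg30 yg26 zg22)) (@D3.rec (fun _ => Pt) (kg xg32 yg31 zg9) (kg xg29 yg20 zg28) (kg xg28 yg8 zg24) (kg xg31 yg29 zg26) (kg xg19 yg21 zg38) (kg xg32 yg14 zg11) (kg xg32 yg25 zg58) (kg xg29 yg19 zg32) (kg xg19 yg21 zg41) (kg xg19 yg42 zg23) (kg xg28 yg22 zg0) (kg xg19 yg21 zg49) (kg xg19 yg21 zg42) (kg xg29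 yg23 zg14) (kg xg30 yg25 zg37) (kg xg22 yg24 zg12) (kg xg23 yg45 zg50) (kg xg22 yg19 zg5) (kg xg19 yg21 zg45) (kg xg31 yg29 zg27) (kg xg32 yg38 zg39) (kg xg26 yg50 zg13) (kg xg24 yg11 zg36) (kg xg30 yg35 zg51) (kg xg26 yg16 zg1) (kg xg27 yg52 zg49) (kg xg26 yg39 zg36) (kg xg29 yg1 zg25) (kg xg31 yg19 zg51) (kg xg23 yg52 zg17) (kg xg19 yg50 zg48) (kg xg28 yg56 zg13) (kg xg32 yg7 zg45) (kg xg30 yg35 zg17) (kg xg27 yg53 zg60) (kg xg24 yg8 zg38) (kg xg19 yg22 zg6) (kg xg29 yg54 zg52) (kg xg23 yg48 zg39) (kg xg22 yg48 zg58) (kg xg28 yg22 zg42) (kg xg29 yg54 zg43) (kg xg23 yg36 zg40) (kg xg29 yg7 zg27) (kg xg31 yg32 zg25) (kg xg28 yg37 zg32) (kg xg19 yg41 zg16) (kg xg19 yg22 zg27) (kg xg19 yg22 zg54) (kg xg28 yg39 zg19) (kg xg28 yg48 zg57) (kg xg24 yg55 zg6) (kg xg32 yg38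 zg45) (kg xg31 yg20 zg46) (kg xg31 yg15 zg27) (kg xg19 yg22 zg39) (kg xg25 yg4 zg43) (kg xg27 yg54 zg10) (kg xg29 yg20 zg29) (kg xg25 yg47 zg51) (kg xg19 yg22 zg41) (kg xg31 yg20 zg50)) (@D3.rec (fun _ => Pt) (kg xg31 yg45 zg35) (kg xg19 yg22 zg45) (kg xg28 yg41 zg58) (kg xg26 yg43 zg13) (kg xg22 yg9 zg57) (kg xg25 yg42 zg46) (kg xg30 yg52 zg10) (kg xg23 yg51 zg54) (kg xg24 yg0 zg45) (kg xg23 yg7 zg32) (kg xg19 yg23 zg5) (kg xg19 yg22 zg60) (kg xg30 yg6 zg28) (kg xg31 yg57 zg47) (kg xg32 yg17 zg13) (kg xg32 yg31 zg58) (kg xg28 yg7 zg30) (kg xg32 yg35 zg43) (kg xg30 yg26 zg49) (kg xg19 yg23 zg3) (kg xg28 yg4 zg38) (kg xg28 yg8 zg39) (kg xg28 yg9 zg59) (kg xg21 yg36 zg32) (kg xg21 yg31 zg48) (kg xg32 yg38 zg33) (kg xg31 yg59 zg43) (kg xg20 yg23 zg10) (kg xg27 yg43 zg25)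 (kg xg21 yg36 zg25) (kg xg22 yg39 zg60) (kg xg28 yg26 zg46) (kg xg29 yg25 zg47) (kg xg24 yg11 zg13) (kg xg19 yg24 zg10) (kg xg19 yg23 zg42) (kg xg26 yg40 zg54) (kg xg29 yg39 zg21) (kg xg24 yg10 zg54) (kg xg19 yg29 zg34) (kg xg29 yg39 zg20) (kg xg20 yg58 zg17) (kg xg19 yg24 zg2) (kg xg25 yg52 zg34) (kg xg26 yg0 zg10) (kg xg24 yg12 zg26) (kg xg21 yg1 zg49) (kg xg19 yg30 zg19) (kg xg29 yg27 zg60) (kg xg30 yg11 zg33) (kg xg19 yg23 zg61) (kg xg20 yg52 zg54) (kg xg26 yg55 zg30) (kg xg30 yg39 zg13) (kg xg19 yg24 zg5) (kg xg29 yg38 zg20) (kg xg28 yg23 zg28) (kg xg25 yg42 zg4) (kg xg19 yg46 zg9) (kg xg30 yg47 zg9) (kg xg24 yg10 zg56) (kg xg19 yg24 zg12)) (@D3.rec (fun _ => Pt) (kg xg20 yg12 zg2) (kg xg31 yg28 zg40) (kg xg25 yg52 zg20) (kg xg19 yg24 zg16) (kg xg19 yg24 zg18)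 (kg xg20 yg22 zg45) (kg xg26 yg58 zg19) (kg xg19 yg24 zg27) (kg xg19 yg51 zg36) (kg xg21 yg57 zg26) (kg xg29 yg47 zg2) (kg xg32 yg32 zg17) (kg xg21 yg2 zg6) (kg xg29 yg47 zg56) (kg xg24 yg3 zg4) (kg xg29 yg58 zg55) (kg xg19 yg24 zg52) (kg xg25 yg49 zg27) (kg xg28 yg54 zg7) (kg xg28 yg54 zg6) (kg xg24 yg17 zg15) (kg xg25 yg9 zg23) (kg xg25 yg24 zg10) (kg xg24 yg23 zg7) (kg xg25 yg35 zg0) (kg xg25 yg54 zg49) (kg xg22 yg22 zg57) (kg xg31 yg35 zg19) (kg xg19 yg36 zg4) (kg xg19 yg36 zg18) (kg xg19 yg36 zg23) (kg xg29 yg18 zg6) (kg xg25 yg31 zg50) (kg xg24 yg16 zg5) (kg xg19 yg39 zg7) (kg xg24 yg17 zg42) (kg xg19 yg32 zg41) (kg xg24 yg28 zg58) (kg xg24 yg1 zg41) (kg xg19 yg25 zg31) (kg xg26 yg9 zg13) (kg xg26 yg9 zg19) (kg xg19 yg25 zg21) (kg xg20 yg50 zg55) (kg xg24 yg32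 zg19) (kg xg31 yg38 zg54) (kg xg26 yg9 zg20) (kg xg29 yg12 zg59) (kg xg28 yg39 zg13) (kg xg29 yg29 zg50) (kg xg31 yg50 zg35) (kg xg32 yg0 zg51) (kg xg30 yg25 zg20) (kg xg28 yg51 zg11) (kg xg30 yg15 zg21) (kg xg19 yg25 zg33) (kg xg29 yg48 zg45) (kg xg28 yg40 zg3) (kg xg28 yg51 zg8) (kg xg26 yg52 zg9) (kg xg25 yg51 zg48) (kg xg22 yg0 zg8)) (@D3.rec (fun _ => Pt) (kg xg19 yg25 zg36) (kg xg32 yg39 zg0) (kg xg25 yg32 zg6) (kg xg30 yg11 zg44) (kg xg29 yg45 zg29) (kg xg26 yg42 zg34) (kg xg25 yg52 zg28) (kg xg31 yg40 zg7) (kg xg27 yg29 zg16) (kg xg19 yg25 zg43) (kg xg25 yg52 zg60) (kg xg30 yg55 zg49) (kg xg31 yg38 zg55) (kg xg32 yg3 zg22) (kg xg25 yg52 zg44) (kg xg31 yg17 zg61) (kg xg29 yg0 zg58) (kg xg32 yg39 zg7) (kg xg19 yg47 zg20) (kg xg30 yg55 zg19) (kg xg27 yg12 zg37)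 (kg xg21 yg39 zg51) (kg xg28 yg12 zg22) (kg xg26 yg44 zg26) (kg xg19 yg26 zg6) (kg xg25 yg43 zg55) (kg xg30 yg47 zg59) (kg xg23 yg7 zg56) (kg xg31 yg45 zg50) (kg xg32 yg1 zg57) (kg xg28 yg4 zg2) (kg xg26 yg48 zg4) (kg xg22 yg10 zg21) (kg xg26 yg10 zg14) (kg xg26 yg9 zg38) (kg xg31 yg58 zg37) (kg xg23 yg32 zg21) (kg xg30 yg19 zg38) (kg xg30 yg13 zg51) (kg xg26 yg26 zg48) (kg xg24 yg33 zg47) (kg xg22 yg43 zg9) (kg xg19 yg26 zg35) (kg xg24 yg10 zg23) (kg xg31 yg8 zg22) (kg xg31 yg9 zg12) (kg xg29 yg56 zg17) (kg xg25 yg47 zg6) (kg xg19 yg26 zg54) (kg xg26 yg28 zg43) (kg xg31 yg18 zg49) (kg xg27 yg17 zg35) (kg xg19 yg26 zg60) (kg xg19 yg33 zg4) (kg xg30 yg5 zg22) (kg xg31 yg15 zg38) (kg xg28 yg13 zg9) (kg xg26 yg42 zg44) (kg xg31 yg51 zg29) (kg xg26 yg25 zg55) (kg xg28 yg32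 zg41) (kg xg19 yg27 zg9)) (@D3.rec (fun _ => Pt) (kg xg28 yg38 zg51) (kg xg31 yg28 zg41) (kg xg28 yg50 zg25) (kg xg28 yg55 zg33) (kg xg31 yg25 zg55) (kg xg30 yg44 zg15) (kg xg31 yg28 zg37) (kg xg26 yg28 zg30) (kg xg19 yg27 zg17) (kg xg20 yg37 zg17) (kg xg28 yg39 zg31) (kg xg30 yg26 zg57) (kg xg23 yg57 zg48) (kg xg26 yg55 zg51) (kg xg26 yg55 zg44) (kg xg30 yg5 zg13) (kg xg29 yg36 zg6) (kg xg26 yg44 zg11) (kg xg19 yg51 zg6) (kg xg19 yg58 zg50) (kg xg30 yg36 zg20) (kg xg28 yg56 zg61) (kg xg28 yg14 zg11) (kg xg19 yg28 zg9) (kg xg24 yg10 zg50) (kg xg27 yg12 zg57) (kg xg24 yg0 zg35) (kg xg24 yg26 zg34) (kg xg25 yg53 zg19) (kg xg19 yg28 zg21) (kg xg28 yg53 zg57) (kg xg27 yg19 zg8) (kg xg19 yg28 zg26) (kg xg28 yg0 zg19) (kg xg32 yg39 zg16) (kg xg19 yg36 zg27) (kg xg26 yg25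 zg53) (kg xg30 yg16 zg33) (kg xg30 yg20 zg5) (kg xg24 yg8 zg24) (kg xg24 yg9 zg60) (kg xg31 yg38 zg53) (kg xg19 yg30 zg7) (kg xg19 yg57 zg60) (kg xg31 yg56 zg20) (kg xg32 yg39 zg20) (kg xg25 yg5 zg19) (kg xg32 yg38 zg54) (kg xg30 yg49 zg23) (kg xg22 yg56 zg20) (kg xg19 yg28 zg33) (kg xg23 yg48 zg27) (kg xg19 yg29 zg45) (kg xg24 yg8 zg35) (kg xg23 yg1 zg8) (kg xg31 yg32 zg35) (kg xg24 yg8 zg31) (kg xg23 yg53 zg35) (kg xg30 yg50 zg21) (kg xg19 yg28 zg58) (kg xg19 yg28 zg52) (kg xg19 yg28 zg56)) (@D3.rec (fun _ => Pt) (kg xg19 yg28 zg53) (kg xg24 yg30 zg37) (kg xg31 yg43 zg22) (kg xg31 yg30 zg27) (kg xg29 yg13 zg49) (kg xg22 yg40 zg54) (kg xg29 yg34 zg23) (kg xg32 yg19 zg16) (kg xg28 yg48 zg53) (kg xg27 yg14 zg0) (kg xg19 yg29 zg0) (kg xg28 yg48 zg58) (kg xg28 yg52 zg44)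 (kg xg28 yg49 zg0) (kg xg32 yg13 zg14) (kg xg24 yg24 zg39) (kg xg28 yg34 zg27) (kg xg29 yg12 zg46) (kg xg20 yg48 zg17) (kg xg30 yg15 zg38) (kg xg27 yg12 zg9) (kg xg32 yg36 zg41) (kg xg20 yg1 zg32) (kg xg19 yg29 zg14) (kg xg32 yg39 zg32) (kg xg19 yg29 zg15) (kg xg24 yg51 zg42) (kg xg25 yg22 zg21) (kg xg31 yg20 zg37) (kg xg19 yg29 zg16) (kg xg31 yg20 zg35) (kg xg31 yg40 zg25) (kg xg25 yg20 zg33) (kg xg25 yg20 zg30) (kg xg29 yg13 zg33) (kg xg28 yg9 zg7) (kg xg19 yg29 zg20) (kg xg19 yg29 zg23) (kg xg29 yg47 zg30) (kg xg28 yg26 zg38) (kg xg19 yg29 zg26) (kg xg32 yg21 zg12) (kg xg19 yg29 zg32) (kg xg26 yg58 zg11) (kg xg20 yg1 zg37) (kg xg19 yg29 zg29) (kg xg28 yg26 zg41) (kg xg30 yg9 zg9) (kg xg32 yg39 zg39) (kg xg30 yg39 zg47) (kg xg32 yg10 zg61) (kg xg32 yg33 zg5) (kg xg32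 yg39 zg37) (kg xg19 yg29 zg33) (kg xg32 yg17 zg33) (kg xg32 yg17 zg39) (kg xg26 yg26 zg17) (kg xg32 yg14 zg55) (kg xg19 yg29 zg37) (kg xg32 yg23 zg22) (kg xg27 yg13 zg39) (kg xg25 yg47 zg16)) (@D3.rec (fun _ => Pt) (kg xg31 yg19 zg53) (kg xg27 yg3 zg0) (kg xg32 yg33 zg2) (kg xg28 yg17 zg34) (kg xg29 yg35 zg17) (kg xg26 yg43 zg11) (kg xg30 yg18 zg40) (kg xg30 yg38 zg43) (kg xg30 yg22 zg6) (kg xg22 yg41 zg37) (kg xg29 yg48 zg21) (kg xg29 yg1 zg55) (kg xg26 yg27 zg53) (kg xg19 yg29 zg61) (kg xg19 yg29 zg53) (kg xg31 yg19 zg32) (kg xg19 yg29 zg59) (kg xg19 yg30 zg37) (kg xg30 yg43 zg52) (kg xg22 yg21 zg5) (kg xg19 yg29 zg56) (kg xg32 yg3 zg1) (kg xg29 yg53 zg41) (kg xg27 yg16 zg38) (kg xg32 yg15 zg14) (kg xg29 yg8 zg19) (kg xg32 yg38 zg56) (kg xg28 yg44 zg19) (kg xg32 yg13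 zg25) (kg xg30 yg15 zg35) (kg xg32 yg39 zg49) (kg xg19 yg29 zg60) (kg xg30 yg25 zg26) (kg xg24 yg25 zg28) (kg xg20 yg36 zg50) (kg xg26 yg45 zg7) (kg xg19 yg30 zg31) (kg xg29 yg2 zg9) (kg xg19 yg30 zg2) (kg xg32 yg12 zg40) (kg xg29 yg2 zg7) (kg xg28 yg48 zg60) (kg xg30 yg16 zg10) (kg xg25 yg32 zg2) (kg xg25 yg52 zg52) (kg xg23 yg56 zg36) (kg xg19 yg30 zg13) (kg xg30 yg9 zg11) (kg xg19 yg30 zg17) (kg xg26 yg25 zg47) (kg xg26 yg21 zg31) (kg xg28 yg43 zg21) (kg xg32 yg39 zg23) (kg xg31 yg37 zg3) (kg xg27 yg37 zg26) (kg xg25 yg14 zg20) (kg xg29 yg48 zg18) (kg xg30 yg32 zg13) (kg xg22 yg14 zg25) (kg xg29 yg1 zg31) (kg xg27 yg10 zg19) (kg xg30 yg5 zg57)) (@D3.rec (fun _ => Pt) (kg xg29 yg1 zg60) (kg xg19 yg30 zg25) (kg xg27 yg6 zg42) (kg xg23 yg48 zg57) (kg xg28 yg57 zg50)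 (kg xg22 yg23 zg51) (kg xg30 yg26 zg41) (kg xg20 yg16 zg51) (kg xg19 yg30 zg29) (kg xg30 yg31 zg22) (kg xg29 yg1 zg39) (kg xg32 yg39 zg61) (kg xg29 yg1 zg37) (kg xg31 yg33 zg31) (kg xg19 yg30 zg54) (kg xg30 yg26 zg52) (kg xg29 yg1 zg9) (kg xg31 yg30 zg16) (kg xg29 yg1 zg32) (kg xg32 yg36 zg27) (kg xg31 yg30 zg15) (kg xg32 yg40 zg1) (kg xg31 yg30 zg11) (kg xg32 yg2 zg61) (kg xg32 yg8 zg13) (kg xg19 yg30 zg40) (kg xg32 yg23 zg20) (kg xg24 yg6 zg31) (kg xg29 yg29 zg9) (kg xg19 yg30 zg42) (kg xg30 yg30 zg35) (kg xg29 yg9 zg18) (kg xg25 yg36 zg30) (kg xg30 yg26 zg31) (kg xg27 yg2 zg43) (kg xg32 yg40 zg9) (kg xg19 yg30 zg48) (kg xg30 yg49 zg38) (kg xg27 yg14 zg56) (kg xg19 yg43 zg38) (kg xg30 yg50 zg39) (kg xg19 yg34 zg31) (kg xg19 yg30 zg51) (kg xg29 yg24 zg37) (kg xg24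 yg6 zg59) (kg xg30 yg12 zg7) (kg xg22 yg0 zg4) (kg xg24 yg35 zg51) (kg xg31 yg26 zg47) (kg xg19 yg53 zg43) (kg xg31 yg21 zg16) (kg xg31 yg32 zg14) (kg xg28 yg36 zg45) (kg xg29 yg18 zg45) (kg xg30 yg12 zg53) (kg xg31 yg18 zg27) (kg xg19 yg31 zg16) (kg xg26 yg46 zg44) (kg xg25 yg23 zg5) (kg xg25 yg51 zg20) (kg xg25 yg6 zg22) (kg xg20 yg59 zg19)) (@D3.rec (fun _ => Pt) (kg xg25 yg43 zg23) (kg xg31 yg20 zg51) (kg xg25 yg4 zg29) (kg xg28 yg57 zg14) (kg xg27 yg52 zg53) (kg xg25 yg4 zg44) (kg xg19 yg31 zg36) (kg xg22 yg20 zg42) (kg xg26 yg41 zg48) (kg xg19 yg31 zg56) (kg xg32 yg40 zg11) (kg xg19 yg40 zg8) (kg xg26 yg38 zg24) (kg xg24 yg27 zg41) (kg xg32 yg14 zg32) (kg xg19 yg31 zg51) (kg xg19 yg31 zg45) (kg xg32 yg18 zg55) (kg xg31 yg35 zg50) (kg xg31 yg35 zg48) (kg xg32 yg40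 zg14) (kg xg29 yg47 zg36) (kg xg26 yg40 zg23) (kg xg29 yg33 zg37) (kg xg30 yg16 zg7) (kg xg29 yg28 zg47) (kg xg30 yg16 zg13) (kg xg19 yg31 zg50) (kg xg20 yg58 zg4) (kg xg30 yg9 zg29) (kg xg26 yg39 zg28) (kg xg32 yg27 zg5) (kg xg30 yg9 zg38) (kg xg19 yg31 zg54) (kg xg20 yg11 zg34) (kg xg24 yg1 zg5) (kg xg26 yg34 zg5) (kg xg30 yg16 zg2) (kg xg26 yg40 zg58) (kg xg30 yg25 zg23) (kg xg32 yg35 zg42) (kg xg31 yg26 zg16) (kg xg29 yg34 zg14) (kg xg29 yg26 zg18) (kg xg26 yg40 zg44) (kg xg29 yg34 zg2) (kg xg32 yg40 zg19) (kg xg32 yg10 zg60) (kg xg25 yg18 zg4) (kg xg28 yg40 zg45) (kg xg26 yg37 zg23) (kg xg29 yg10 zg38) (kg xg32 yg19 zg1) (kg xg27 yg37 zg42) (kg xg26 yg34 zg58) (kg xg26 yg35 zg40) (kg xg19 yg59 zg2) (kg xg19 yg32 zg20) (kg xg29 yg33 zg31) (kg xg29 yg37 zg22) (kg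 xg25 yg59 zg0) (kg xg29 yg5 zg51)) (@D3.rec (fun _ => Pt) (kg xg30 yg3 zg41) (kg xg29 yg30 zg29) (kg xg27 yg59 zg59) (kg xg19 yg33 zg13) (kg xg26 yg33 zg8) (kg xg19 yg32 zg47) (kg xg25 yg22 zg0) (kg xg32 yg40 zg32) (kg xg24 yg49 zg18) (kg xg19 yg33 zg5) (kg xg19 yg32 zg53) (kg xg29 yg15 zg15) (kg xg19 yg33 zg3) (kg xg32 yg8 zg60) (kg xg20 yg4 zg35) (kg xg26 yg21 zg56) (kg xg19 yg33 zg1) (kg xg30 yg21 zg30) (kg xg31 yg51 zg5) (kg xg32 yg40 zg39) (kg xg31 yg52 zg43) (kg xg32 yg32 zg7) (kg xg29 yg48 zg42) (kg xg32 yg39 zg14) (kg xg32 yg40 zg48) (kg xg25 yg21 zg57) (kg xg19 yg33 zg9) (kg xg23 yg24 zg43) (kg xg19 yg33 zg15) (kg xg32 yg40 zg52) (kg xg31 yg53 zg15) (kg xg26 yg50 zg12) (kg xg31 yg53 zg16) (kg xg24 yg14 zg17) (kg xg24 yg14 zg27) (kg xg26 yg43 zg30) (kg xg25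 yg47 zg54) (kg xg26 yg27 zg59) (kg xg31 yg12 zg42) (kg xg24 yg12 zg47) (kg xg29 yg21 zg35) (kg xg32 yg18 zg17) (kg xg26 yg26 zg19) (kg xg19 yg33 zg36) (kg xg32 yg40 zg57) (kg xg29 yg33 zg13) (kg xg31 yg30 zg54) (kg xg29 yg40 zg30) (kg xg31 yg33 zg28) (kg xg32 yg15 zg23) (kg xg19 yg33 zg39) (kg xg30 yg17 zg57) (kg xg26 yg42 zg18) (kg xg19 yg33 zg54) (kg xg24 yg2 zg44) (kg xg19 yg33 zg59) (kg xg31 yg47 zg6) (kg xg26 yg42 zg19) (kg xg20 yg24 zg51) (kg xg28 yg1 zg38) (kg xg19 yg33 zg60) (kg xg29 yg50 zg7)) (@D3.rec (fun _ => Pt) (kg xg26 yg27 zg35) (kg xg30 yg21 zg17) (kg xg22 yg49 zg25) (kg xg32 yg33 zg55) (kg xg28 yg32 zg56) (kg xg19 yg34 zg3) (kg xg31 yg16 zg6) (kg xg32 yg7 zg36) (kg xg23 yg48 zg18) (kg xg32 yg39 zg34) (kg xg31 yg50 zg27) (kg xg29 yg48 zg31) (kg xg19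 yg34 zg6) (kg xg28 yg16 zg46) (kg xg29 yg42 zg49) (kg xg20 yg40 zg52) (kg xg30 yg6 zg61) (kg xg22 yg36 zg19) (kg xg23 yg57 zg10) (kg xg24 yg5 zg60) (kg xg24 yg47 zg3) (kg xg24 yg6 zg40) (kg xg21 yg16 zg2) (kg xg32 yg15 zg17) (kg xg29 yg39 zg9) (kg xg32 yg18 zg21) (kg xg23 yg57 zg35) (kg xg24 yg6 zg24) (kg xg21 yg35 zg56) (kg xg30 yg48 zg60) (kg xg32 yg41 zg3) (kg xg31 yg21 zg42) (kg xg26 yg36 zg11) (kg xg22 yg1 zg29) (kg xg29 yg43 zg10) (kg xg26 yg36 zg6) (kg xg32 yg14 zg19) (kg xg29 yg2 zg8) (kg xg27 yg2 zg42) (kg xg27 yg17 zg39) (kg xg19 yg46 zg26) (kg xg31 yg9 zg51) (kg xg19 yg46 zg27) (kg xg24 yg11 zg43) (kg xg19 yg34 zg54) (kg xg26 yg37 zg10) (kg xg24 yg2 zg58) (kg xg25 yg25 zg17) (kg xg19 yg34 zg61) (kg xg19 yg44 zg23) (kg xg29 yg41 zg12) (kg xg23 yg56 zg43) (kg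 xg32 yg15 zg52) (kg xg24 yg58 zg12) (kg xg25 yg38 zg4) (kg xg24 yg41 zg19) (kg xg30 yg10 zg22) (kg xg30 yg19 zg30) (kg xg25 yg32 zg0) (kg xg19 yg35 zg10) (kg xg19 yg36 zg0) (kg xg22 yg57 zg33)) (@D3.rec (fun _ => Pt) (kg xg32 yg41 zg15) (kg xg32 yg27 zg54) (kg xg32 yg27 zg10) (kg xg19 yg35 zg17) (kg xg32 yg41 zg16) (kg xg24 yg3 zg17) (kg xg31 yg56 zg30) (kg xg31 yg29 zg54) (kg xg31 yg29 zg53) (kg xg19 yg35 zg22) (kg xg29 yg5 zg20) (kg xg29 yg50 zg60) (kg xg32 yg4 zg11) (kg xg20 yg4 zg55) (kg xg31 yg38 zg52) (kg xg31 yg28 zg14) (kg xg25 yg9 zg44) (kg xg23 yg55 zg43) (kg xg19 yg35 zg25) (kg xg30 yg9 zg13) (kg xg24 yg58 zg29) (kg xg20 yg43 zg27) (kg xg20 yg43 zg25) (kg xg29 yg13 zg32) (kg xg28 yg59 zg57) (kg xg30 yg9 zg17) (kg xg25 yg31 zg22) (kg xg31 yg56 zg5) (kg xg19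 yg38 zg19) (kg xg19 yg35 zg32) (kg xg31 yg41 zg5) (kg xg19 yg38 zg16) (kg xg19 yg38 zg33) (kg xg29 yg27 zg36) (kg xg25 yg29 zg30) (kg xg31 yg38 zg5) (kg xg30 yg18 zg58) (kg xg19 yg35 zg39) (kg xg25 yg5 zg47) (kg xg21 yg5 zg47) (kg xg25 yg31 zg29) (kg xg19 yg36 zg5) (kg xg30 yg0 zg2) (kg xg19 yg35 zg49) (kg xg19 yg35 zg51) (kg xg25 yg28 zg23) (kg xg19 yg35 zg56) (kg xg28 yg59 zg1) (kg xg25 yg35 zg39) (kg xg21 yg36 zg8) (kg xg19 yg41 zg34) (kg xg21 yg5 zg34) (kg xg19 yg36 zg1) (kg xg19 yg35 zg59) (kg xg24 yg17 zg19) (kg xg19 yg35 zg61) (kg xg31 yg26 zg44) (kg xg21 yg58 zg49) (kg xg31 yg26 zg20) (kg xg24 yg15 zg14) (kg xg31 yg55 zg30) (kg xg19 yg36 zg3)) (@D3.rec (fun _ => Pt) (kg xg23 yg47 zg23) (kg xg24 yg4 zg4) (kg xg31 yg55 zg31) (kg xg25 yg10 zg13) (kg xg25 yg12 zg43)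 (kg xg27 yg58 zg39) (kg xg32 yg38 zg55) (kg xg29 yg17 zg32) (kg xg25 yg31 zg46) (kg xg25 yg32 zg1) (kg xg27 yg30 zg10) (kg xg27 yg9 zg9) (kg xg25 yg24 zg20) (kg xg24 yg17 zg29) (kg xg25 yg31 zg61) (kg xg19 yg36 zg25) (kg xg31 yg24 zg23) (kg xg30 yg9 zg25) (kg xg20 yg50 zg23) (kg xg28 yg34 zg38) (kg xg19 yg36 zg32) (kg xg19 yg36 zg35) (kg xg22 yg16 zg32) (kg xg25 yg33 zg35) (kg xg31 yg54 zg44) (kg xg31 yg54 zg45) (kg xg31 yg27 zg0) (kg xg19 yg36 zg40) (kg xg22 yg1 zg58) (kg xg19 yg36 zg47) (kg xg22 yg3 zg61) (kg xg29 yg34 zg0) (kg xg32 yg30 zg61) (kg xg31 yg24 zg24) (kg xg19 yg38 zg8) (kg xg26 yg34 zg15) (kg xg20 yg49 zg41) (kg xg31 yg17 zg24) (kg xg19 yg37 zg1) (kg xg19 yg37 zg0) (kg xg29 yg40 zg61) (kg xg31 yg57 zg3) (kg xg29 yg9 zg27) (kg xg32 yg14 zg37) (kg xg31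 yg40 zg40) (kg xg19 yg37 zg25) (kg xg19 yg37 zg38) (kg xg29 yg4 zg4) (kg xg19 yg37 zg5) (kg xg27 yg49 zg30) (kg xg32 yg33 zg51) (kg xg24 yg43 zg30) (kg xg19 yg37 zg6) (kg xg28 yg57 zg51) (kg xg32 yg0 zg20) (kg xg25 yg12 zg11) (kg xg27 yg17 zg25) (kg xg22 yg2 zg15) (kg xg19 yg37 zg15) (kg xg32 yg41 zg25) (kg xg24 yg7 zg58) (kg xg29 yg27 zg11)) (@D3.rec (fun _ => Pt) (kg xg29 yg23 zg31) (kg xg19 yg37 zg18) (kg xg21 yg0 zg19) (kg xg19 yg37 zg37) (kg xg19 yg37 zg21) (kg xg29 yg36 zg25) (kg xg19 yg37 zg45) (kg xg19 yg37 zg23) (kg xg19 yg37 zg44) (kg xg25 yg5 zg33) (kg xg19 yg37 zg26) (kg xg28 yg28 zg21) (kg xg22 yg17 zg22) (kg xg25 yg11 zg34) (kg xg22 yg20 zg26) (kg xg31 yg27 zg19) (kg xg30 yg47 zg28) (kg xg27 yg21 zg44) (kg xg24 yg50 zg17) (kg xg19 yg37 zg41) (kg xg30 yg9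 zg18) (kg xg24 yg3 zg14) (kg xg29 yg0 zg55) (kg xg19 yg53 zg38) (kg xg25 yg6 zg11) (kg xg25 yg24 zg58) (kg xg25 yg33 zg27) (kg xg19 yg44 zg36) (kg xg32 yg7 zg40) (kg xg25 yg11 zg6) (kg xg25 yg11 zg25) (kg xg19 yg38 zg0) (kg xg31 yg43 zg56) (kg xg20 yg55 zg39) (kg xg31 yg55 zg52) (kg xg26 yg37 zg4) (kg xg24 yg3 zg12) (kg xg19 yg38 zg35) (kg xg29 yg12 zg41) (kg xg19 yg38 zg29) (kg xg19 yg38 zg6) (kg xg26 yg37 zg29) (kg xg19 yg38 zg12) (kg xg19 yg38 zg9) (kg xg32 yg14 zg25) (kg xg28 yg59 zg50) (kg xg25 yg11 zg15) (kg xg29 yg35 zg61) (kg xg19 yg38 zg14) (kg xg31 yg46 zg4) (kg xg25 yg11 zg23) (kg xg29 yg13 zg3) (kg xg31 yg48 zg24) (kg xg32 yg41 zg31) (kg xg19 yg38 zg21) (kg xg28 yg20 zg34) (kg xg31 yg24 zg28) (kg xg28 yg57 zg26) (kg xg32 yg22 zg39) (kg xg19 yg38 zg26) (kg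 xg28 yg42 zg3) (kg xg24 yg52 zg49))
def f_g_29 : D2 → D3 → Pt := @D2.rec (fun _ => D3 → Pt) (@D3.rec (fun _ => Pt) (kg xg30 yg9 zg24) (kg xg25 yg12 zg14) (kg xg19 yg38 zg34) (kg xg20 yg42 zg12) (kg xg19 yg38 zg36) (kg xg22 yg21 zg20) (kg xg28 yg43 zg2) (kg xg29 yg58 zg59) (kg xg21 yg50 zg11) (kg xg19 yg38 zg43) (kg xg28 yg42 zg23) (kg xg30 yg8 zg58) (kg xg32 yg11 zg3) (kg xg31 yg47 zg44) (kg xg31 yg7 zg34) (kg xg28 yg56 zg55) (kg xg26 yg0 zg28) (kg xg19 yg38 zg54) (kg xg24 yg44 zg47) (kg xg19 yg39 zg8) (kg xg20 yg40 zg5) (kg xg32 yg15 zg59) (kg xg30 yg6 zg41) (kg xg19 yg39 zg15) (kg xg25 yg6 zg60) (kg xg25 yg27 zg46) (kg xg19 yg39 zg19) (kg xg22 yg53 zg20) (kg xg26 yg27 zg24) (kg xg21 yg3 zg46) (kg xg24 yg20 zg57) (kg xg19 yg39 zg27) (kg xg25 yg40 zg42) (kg xg31 yg31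 zg5) (kg xg25 yg43 zg16) (kg xg27 yg17 zg27) (kg xg27 yg21 zg57) (kg xg20 yg12 zg36) (kg xg26 yg58 zg8) (kg xg19 yg39 zg60) (kg xg28 yg28 zg31) (kg xg32 yg27 zg56) (kg xg22 yg23 zg22) (kg xg29 yg47 zg61) (kg xg26 yg37 zg31) (kg xg24 yg3 zg3) (kg xg19 yg40 zg17) (kg xg31 yg20 zg27) (kg xg28 yg41 zg31) (kg xg29 yg2 zg52) (kg xg31 yg56 zg2) (kg xg29 yg18 zg5) (kg xg29 yg16 zg49) (kg xg29 yg0 zg60) (kg xg28 yg44 zg58) (kg xg28 yg59 zg23) (kg xg31 yg41 zg38) (kg xg20 yg5 zg0) (kg xg26 yg45 zg37) (kg xg28 yg49 zg16) (kg xg29 yg0 zg52) (kg xg21 yg2 zg61)) (@D3.rec (fun _ => Pt) (kg xg27 yg43 zg46) (kg xg27 yg43 zg47) (kg xg32 yg23 zg61) (kg xg24 yg4 zg27) (kg xg26 yg38 zg32) (kg xg28 yg52 zg34) (kg xg30 yg27 zg5) (kg xg24 yg3 zg36) (kg xg24 yg10 zg48) (kg xg19 yg41 zg37) (kg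 xg22 yg48 zg39) (kg xg28 yg52 zg11) (kg xg24 yg3 zg22) (kg xg29 yg4 zg6) (kg xg29 yg48 zg46) (kg xg28 yg46 zg28) (kg xg26 yg39 zg16) (kg xg28 yg41 zg11) (kg xg26 yg33 zg16) (kg xg19 yg41 zg22) (kg xg29 yg39 zg2) (kg xg29 yg39 zg0) (kg xg25 yg31 zg16) (kg xg28 yg53 zg16) (kg xg24 yg39 zg14) (kg xg32 yg2 zg45) (kg xg24 yg38 zg38) (kg xg28 yg23 zg61) (kg xg28 yg22 zg56) (kg xg28 yg53 zg27) (kg xg32 yg41 zg39) (kg xg28 yg53 zg25) (kg xg28 yg52 zg17) (kg xg29 yg32 zg6) (kg xg31 yg15 zg51) (kg xg31 yg15 zg58) (kg xg28 yg53 zg12) (kg xg19 yg41 zg39) (kg xg30 yg30 zg2) (kg xg28 yg52 zg36) (kg xg20 yg11 zg58) (kg xg26 yg44 zg6) (kg xg28 yg29 zg43) (kg xg26 yg43 zg34) (kg xg32 yg15 zg44) (kg xg30 yg35 zg12) (kg xg19 yg41 zg45) (kg xg28 yg46 zg27) (kg xg25 yg58 zg8) (kg xg30 yg27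 zg21) (kg xg29 yg13 zg45) (kg xg29 yg7 zg61) (kg xg24 yg46 zg7) (kg xg28 yg52 zg20) (kg xg28 yg35 zg38) (kg xg19 yg41 zg50) (kg xg32 yg18 zg10) (kg xg19 yg41 zg51) (kg xg28 yg35 zg51) (kg xg28 yg53 zg0) (kg xg19 yg41 zg54) (kg xg32 yg39 zg42)) (@D3.rec (fun _ => Pt) (kg xg27 yg8 zg52) (kg xg32 yg8 zg3) (kg xg31 yg25 zg2) (kg xg28 yg35 zg16) (kg xg28 yg36 zg36) (kg xg22 yg1 zg9) (kg xg28 yg52 zg40) (kg xg19 yg41 zg60) (kg xg32 yg39 zg26) (kg xg28 yg52 zg38) (kg xg19 yg42 zg2) (kg xg25 yg11 zg50) (kg xg21 yg47 zg39) (kg xg24 yg12 zg24) (kg xg19 yg42 zg6) (kg xg23 yg48 zg12) (kg xg28 yg42 zg38) (kg xg28 yg52 zg0) (kg xg19 yg42 zg16) (kg xg31 yg41 zg41) (kg xg29 yg17 zg54) (kg xg19 yg58 zg25) (kg xg27 yg53 zg22) (kg xg27 yg36 zg60) (kg xg32 yg12 zg59) (kg xg32 yg21 zg51)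 (kg xg19 yg42 zg24) (kg xg32 yg39 zg36) (kg xg32 yg14 zg45) (kg xg29 yg48 zg23) (kg xg30 yg35 zg15) (kg xg23 yg37 zg3) (kg xg19 yg42 zg50) (kg xg19 yg42 zg32) (kg xg29 yg42 zg29) (kg xg29 yg18 zg14) (kg xg24 yg51 zg12) (kg xg29 yg43 zg35) (kg xg24 yg48 zg58) (kg xg31 yg51 zg59) (kg xg29 yg58 zg53) (kg xg31 yg52 zg17) (kg xg20 yg54 zg19) (kg xg29 yg7 zg19) (kg xg28 yg30 zg50) (kg xg26 yg41 zg9) (kg xg19 yg42 zg48) (kg xg25 yg19 zg50) (kg xg30 yg5 zg21) (kg xg19 yg58 zg32) (kg xg31 yg56 zg53) (kg xg21 yg57 zg10) (kg xg31 yg22 zg45) (kg xg25 yg18 zg46) (kg xg19 yg43 zg49) (kg xg28 yg33 zg54) (kg xg26 yg53 zg9) (kg xg23 yg0 zg8) (kg xg29 yg7 zg41) (kg xg29 yg7 zg54) (kg xg25 yg53 zg10) (kg xg20 yg53 zg11)) (@D3.rec (fun _ => Pt) (kg xg19 yg43 zg17) (kg xg23 yg4 zg26) (kg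 xg21 yg16 zg0) (kg xg24 yg30 zg33) (kg xg29 yg22 zg49) (kg xg19 yg48 zg5) (kg xg19 yg43 zg31) (kg xg26 yg51 zg18) (kg xg26 yg56 zg24) (kg xg26 yg51 zg35) (kg xg25 yg53 zg14) (kg xg29 yg7 zg56) (kg xg31 yg43 zg28) (kg xg30 yg27 zg30) (kg xg20 yg28 zg53) (kg xg31 yg23 zg12) (kg xg26 yg38 zg0) (kg xg19 yg44 zg1) (kg xg20 yg55 zg43) (kg xg27 yg58 zg31) (kg xg32 yg40 zg0) (kg xg32 yg13 zg22) (kg xg19 yg44 zg4) (kg xg32 yg13 zg21) (kg xg20 yg25 zg11) (kg xg25 yg13 zg11) (kg xg31 yg36 zg42) (kg xg19 yg44 zg33) (kg xg30 yg55 zg56) (kg xg32 yg8 zg26) (kg xg30 yg51 zg30) (kg xg32 yg23 zg37) (kg xg22 yg55 zg1) (kg xg31 yg13 zg3) (kg xg25 yg24 zg13) (kg xg24 yg3 zg33) (kg xg23 yg30 zg19) (kg xg25 yg9 zg2) (kg xg21 yg27 zg21) (kg xg19 yg45 zg49) (kg xg19 yg45 zg59) (kg xg24 yg24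 zg6) (kg xg21 yg17 zg16) (kg xg25 yg24 zg16) (kg xg31 yg34 zg19) (kg xg29 yg5 zg18) (kg xg19 yg46 zg12) (kg xg19 yg44 zg44) (kg xg31 yg4 zg8) (kg xg31 yg11 zg14) (kg xg27 yg18 zg26) (kg xg25 yg36 zg22) (kg xg30 yg10 zg5) (kg xg19 yg44 zg53) (kg xg26 yg4 zg44) (kg xg24 yg58 zg13) (kg xg24 yg26 zg50) (kg xg19 yg45 zg40) (kg xg31 yg13 zg0) (kg xg31 yg11 zg13) (kg xg27 yg22 zg32) (kg xg29 yg17 zg18)) (@D3.rec (fun _ => Pt) (kg xg31 yg48 zg49) (kg xg28 yg49 zg19) (kg xg25 yg10 zg6) (kg xg19 yg45 zg4) (kg xg19 yg45 zg16) (kg xg19 yg45 zg26) (kg xg29 yg1 zg10) (kg xg30 yg51 zg42) (kg xg26 yg54 zg52) (kg xg32 yg15 zg30) (kg xg27 yg42 zg32) (kg xg28 yg58 zg48) (kg xg22 yg56 zg53) (kg xg31 yg53 zg27) (kg xg29 yg9 zg8) (kg xg28 yg34 zg31) (kg xg19 yg45 zg20) (kg xg22 yg22 zg38)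 (kg xg32 yg7 zg8) (kg xg24 yg16 zg59) (kg xg31 yg54 zg26) (kg xg30 yg51 zg31) (kg xg19 yg45 zg25) (kg xg31 yg11 zg2) (kg xg31 yg27 zg1) (kg xg32 yg42 zg0) (kg xg24 yg50 zg59) (kg xg32 yg42 zg7) (kg xg25 yg15 zg23) (kg xg19 yg45 zg30) (kg xg25 yg5 zg22) (kg xg24 yg16 zg57) (kg xg21 yg21 zg53) (kg xg23 yg32 zg16) (kg xg26 yg0 zg3) (kg xg32 yg42 zg4) (kg xg23 yg30 zg25) (kg xg25 yg57 zg53) (kg xg31 yg10 zg54) (kg xg28 yg20 zg40) (kg xg19 yg45 zg39) (kg xg26 yg20 zg35) (kg xg30 yg46 zg52) (kg xg31 yg35 zg39) (kg xg27 yg6 zg20) (kg xg31 yg54 zg23) (kg xg32 yg7 zg7) (kg xg29 yg59 zg3) (kg xg19 yg45 zg50) (kg xg32 yg23 zg46) (kg xg31 yg54 zg10) (kg xg27 yg5 zg1) (kg xg25 yg30 zg50) (kg xg27 yg17 zg38) (kg xg24 yg17 zg17) (kg xg26 yg4 zg59) (kg xg27 yg1 zg37) (kg xg19 yg45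 zg54) (kg xg30 yg9 zg32) (kg xg29 yg17 zg7) (kg xg19 yg45 zg55) (kg xg19 yg46 zg5)) (@D3.rec (fun _ => Pt) (kg xg24 yg23 zg60) (kg xg29 yg15 zg47) (kg xg19 yg45 zg61) (kg xg31 yg27 zg43) (kg xg31 yg46 zg5) (kg xg32 yg7 zg6) (kg xg30 yg9 zg41) (kg xg32 yg15 zg31) (kg xg31 yg42 zg14) (kg xg32 yg42 zg26) (kg xg32 yg7 zg9) (kg xg21 yg17 zg21) (kg xg30 yg1 zg37) (kg xg30 yg1 zg36) (kg xg32 yg24 zg13) (kg xg28 yg34 zg0) (kg xg29 yg47 zg60) (kg xg19 yg46 zg13) (kg xg26 yg1 zg6) (kg xg29 yg5 zg13) (kg xg29 yg4 zg30) (kg xg31 yg3 zg18) (kg xg30 yg10 zg6) (kg xg19 yg46 zg18) (kg xg19 yg46 zg19) (kg xg27 yg18 zg24) (kg xg25 yg30 zg38) (kg xg19 yg46 zg23) (kg xg30 yg41 zg55) (kg xg31 yg45 zg44) (kg xg32 yg33 zg7) (kg xg30 yg10 zg1) (kg xg19 yg46 zg28) (kg xg29 yg14 zg4) (kg xg31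 yg23 zg20) (kg xg25 yg56 zg9) (kg xg24 yg3 zg34) (kg xg19 yg47 zg9) (kg xg24 yg15 zg42) (kg xg27 yg44 zg36) (kg xg27 yg18 zg47) (kg xg28 yg21 zg16) (kg xg19 yg53 zg13) (kg xg27 yg7 zg43) (kg xg24 yg17 zg41) (kg xg19 yg47 zg14) (kg xg19 yg47 zg10) (kg xg24 yg17 zg30) (kg xg27 yg17 zg28) (kg xg26 yg54 zg16) (kg xg19 yg47 zg19) (kg xg28 yg38 zg34) (kg xg31 yg40 zg8) (kg xg19 yg51 zg45) (kg xg32 yg10 zg40) (kg xg23 yg20 zg47) (kg xg31 yg2 zg41) (kg xg25 yg46 zg18) (kg xg26 yg45 zg61) (kg xg19 yg48 zg51) (kg xg27 yg22 zg19) (kg xg31 yg41 zg52)) (@D3.rec (fun _ => Pt) (kg xg20 yg15 zg16) (kg xg20 yg14 zg20) (kg xg30 yg23 zg6) (kg xg25 yg49 zg32) (kg xg19 yg48 zg33) (kg xg23 yg55 zg28) (kg xg19 yg47 zg50) (kg xg31 yg33 zg46) (kg xg19 yg53 zg3) (kg xg20 yg38 zg16) (kg xg19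 yg48 zg27) (kg xg19 yg47 zg55) (kg xg27 yg1 zg3) (kg xg25 yg38 zg43) (kg xg21 yg0 zg30) (kg xg29 yg21 zg60) (kg xg19 yg53 zg53) (kg xg19 yg48 zg8) (kg xg31 yg56 zg55) (kg xg24 yg32 zg59) (kg xg26 yg10 zg7) (kg xg19 yg48 zg12) (kg xg32 yg5 zg7) (kg xg32 yg23 zg47) (kg xg31 yg37 zg11) (kg xg26 yg7 zg24) (kg xg26 yg7 zg36) (kg xg27 yg24 zg31) (kg xg24 yg43 zg1) (kg xg21 yg55 zg17) (kg xg19 yg48 zg31) (kg xg29 yg49 zg39) (kg xg28 yg23 zg49) (kg xg23 yg42 zg15) (kg xg19 yg48 zg42) (kg xg21 yg4 zg2) (kg xg20 yg13 zg47) (kg xg31 yg29 zg39) (kg xg31 yg58 zg2) (kg xg28 yg18 zg4) (kg xg30 yg50 zg24) (kg xg19 yg48 zg55) (kg xg21 yg13 zg7) (kg xg21 yg53 zg35) (kg xg30 yg9 zg49) (kg xg29 yg50 zg13) (kg xg19 yg50 zg10) (kg xg25 yg51 zg1) (kg xg29 yg56 zg19) (kg xg31 yg48 zg8) (kg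 xg19 yg49 zg20) (kg xg31 yg43 zg48) (kg xg25 yg33 zg30) (kg xg31 yg52 zg51) (kg xg29 yg43 zg39) (kg xg27 yg42 zg40) (kg xg32 yg42 zg14) (kg xg19 yg49 zg52) (kg xg19 yg49 zg36) (kg xg31 yg48 zg58) (kg xg25 yg31 zg54) (kg xg30 yg16 zg38)) (@D3.rec (fun _ => Pt) (kg xg19 yg49 zg48) (kg xg19 yg49 zg47) (kg xg25 yg12 zg52) (kg xg32 yg22 zg37) (kg xg31 yg47 zg14) (kg xg25 yg33 zg23) (kg xg24 yg54 zg17) (kg xg31 yg45 zg0) (kg xg19 yg50 zg7) (kg xg30 yg27 zg59) (kg xg31 yg27 zg58) (kg xg25 yg11 zg24) (kg xg26 yg54 zg14) (kg xg31 yg35 zg10) (kg xg29 yg1 zg51) (kg xg26 yg29 zg34) (kg xg19 yg50 zg21) (kg xg20 yg23 zg26) (kg xg19 yg50 zg29) (kg xg29 yg15 zg22) (kg xg26 yg48 zg56) (kg xg24 yg52 zg45) (kg xg29 yg6 zg51) (kg xg24 yg48 zg45) (kg xg26 yg58 zg9) (kg xg24 yg52 zg46) (kg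 xg20 yg18 zg44) (kg xg28 yg46 zg42) (kg xg24 yg50 zg38) (kg xg19 yg50 zg55) (kg xg20 yg46 zg48) (kg xg27 yg12 zg28) (kg xg19 yg50 zg58) (kg xg32 yg33 zg45) (kg xg32 yg21 zg30) (kg xg31 yg21 zg8) (kg xg19 yg50 zg61) (kg xg23 yg49 zg41) (kg xg28 yg21 zg29) (kg xg21 yg13 zg59) (kg xg20 yg18 zg47) (kg xg28 yg18 zg16) (kg xg28 yg13 zg49) (kg xg19 yg52 zg48) (kg xg31 yg36 zg52) (kg xg26 yg23 zg21) (kg xg28 yg32 zg21) (kg xg20 yg18 zg50) (kg xg29 yg27 zg55) (kg xg19 yg51 zg35) (kg xg28 yg14 zg22) (kg xg19 yg51 zg30) (kg xg23 yg5 zg56) (kg xg31 yg17 zg1) (kg xg29 yg3 zg11) (kg xg27 yg12 zg2) (kg xg29 yg2 zg59) (kg xg24 yg53 zg30) (kg xg29 yg24 zg9) (kg xg22 yg34 zg20) (kg xg19 yg51 zg42) (kg xg31 yg7 zg47)) (@D3.rec (fun _ => Pt) (kg xg30 yg43 zg60) (kg xg31 yg26 zg42) (kg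 xg29 yg39 zg31) (kg xg19 yg52 zg17) (kg xg19 yg51 zg51) (kg xg28 yg38 zg36) (kg xg19 yg52 zg15) (kg xg20 yg32 zg5) (kg xg26 yg58 zg52) (kg xg19 yg51 zg53) (kg xg19 yg52 zg25) (kg xg29 yg26 zg60) (kg xg29 yg24 zg45) (kg xg24 yg53 zg34) (kg xg31 yg22 zg56) (kg xg27 yg10 zg48) (kg xg28 yg47 zg40) (kg xg25 yg8 zg11) (kg xg28 yg52 zg25) (kg xg19 yg52 zg3) (kg xg19 yg52 zg18) (kg xg28 yg32 zg32) (kg xg28 yg39 zg37) (kg xg28 yg39 zg32) (kg xg19 yg52 zg10) (kg xg28 yg29 zg44) (kg xg19 yg52 zg13) (kg xg32 yg35 zg60) (kg xg28 yg13 zg54) (kg xg23 yg55 zg57) (kg xg26 yg53 zg53) (kg xg30 yg27 zg29) (kg xg26 yg36 zg47) (kg xg32 yg21 zg21) (kg xg19 yg52 zg16) (kg xg32 yg15 zg1) (kg xg28 yg38 zg33) (kg xg29 yg52 zg20) (kg xg32 yg33 zg12) (kg xg30 yg32 zg18) (kg xg29 yg55 zg10) (kg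 xg19 yg52 zg22) (kg xg31 yg18 zg15) (kg xg28 yg56 zg6) (kg xg29 yg2 zg56) (kg xg19 yg52 zg21) (kg xg32 yg9 zg29) (kg xg32 yg42 zg47) (kg xg31 yg24 zg8) (kg xg32 yg17 zg38) (kg xg30 yg38 zg30) (kg xg20 yg29 zg22) (kg xg29 yg48 zg9) (kg xg28 yg37 zg37) (kg xg28 yg53 zg26) (kg xg28 yg53 zg37) (kg xg24 yg29 zg36) (kg xg28 yg37 zg39) (kg xg26 yg54 zg30) (kg xg26 yg44 zg53) (kg xg32 yg17 zg23) (kg xg32 yg14 zg41)) (@D3.rec (fun _ => Pt) (kg xg28 yg41 zg50) (kg xg29 yg7 zg55) (kg xg22 yg33 zg29) (kg xg27 yg54 zg24) (kg xg20 yg38 zg3) (kg xg21 yg4 zg5) (kg xg29 yg30 zg61) (kg xg23 yg32 zg9) (kg xg26 yg24 zg10) (kg xg28 yg16 zg21) (kg xg22 yg54 zg2) (kg xg22 yg32 zg39) (kg xg24 yg57 zg8) (kg xg19 yg58 zg10) (kg xg26 yg48 zg1) (kg xg19 yg53 zg21) (kg xg27 yg7 zg38) (kg xg31 yg17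 zg21) (kg xg26 yg43 zg21) (kg xg28 yg50 zg27) (kg xg19 yg53 zg29) (kg xg31 yg26 zg0) (kg xg32 yg13 zg12) (kg xg21 yg20 zg61) (kg xg27 yg7 zg3) (kg xg26 yg43 zg2) (kg xg28 yg52 zg27) (kg xg25 yg10 zg42) (kg xg26 yg41 zg51) (kg xg31 yg45 zg58) (kg xg19 yg53 zg41) (kg xg25 yg26 zg51) (kg xg25 yg10 zg28) (kg xg28 yg58 zg42) (kg xg20 yg3 zg32) (kg xg21 yg29 zg45) (kg xg19 yg53 zg59) (kg xg29 yg9 zg34) (kg xg32 yg42 zg53) (kg xg25 yg49 zg42) (kg xg19 yg54 zg0) (kg xg24 yg37 zg55) (kg xg29 yg59 zg61) (kg xg27 yg39 zg4) (kg xg31 yg36 zg11) (kg xg23 yg19 zg24) (kg xg30 yg40 zg52) (kg xg31 yg7 zg53) (kg xg31 yg18 zg36) (kg xg30 yg51 zg27) (kg xg23 yg24 zg57) (kg xg30 yg51 zg51) (kg xg31 yg2 zg25) (kg xg23 yg31 zg10) (kg xg21 yg55 zg7) (kg xg32 yg28 zg17) (kg xg19 yg54 zg35) (kg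 xg19 yg54 zg30) (kg xg24 yg42 zg36) (kg xg19 yg54 zg33) (kg xg28 yg13 zg23) (kg xg19 yg54 zg31)) (@D3.rec (fun _ => Pt) (kg xg28 yg28 zg27) (kg xg32 yg42 zg56) (kg xg32 yg0 zg15) (kg xg32 yg4 zg40) (kg xg25 yg49 zg12) (kg xg32 yg4 zg35) (kg xg31 yg8 zg39) (kg xg19 yg54 zg34) (kg xg26 yg6 zg61) (kg xg30 yg58 zg31) (kg xg31 yg8 zg26) (kg xg27 yg26 zg15) (kg xg31 yg8 zg46) (kg xg32 yg16 zg11) (kg xg19 yg54 zg38) (kg xg29 yg11 zg1) (kg xg32 yg5 zg5) (kg xg24 yg20 zg56) (kg xg24 yg27 zg5) (kg xg29 yg55 zg12) (kg xg32 yg15 zg57) (kg xg19 yg54 zg42) (kg xg28 yg40 zg50) (kg xg31 yg9 zg8) (kg xg31 yg3 zg45) (kg xg28 yg11 zg54) (kg xg31 yg36 zg33) (kg xg29 yg11 zg37) (kg xg30 yg42 zg1) (kg xg30 yg42 zg3) (kg xg23 yg42 zg0) (kg xg23 yg26 zg14) (kg xg31 yg10 zg9) (kg xg23 yg40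 zg33) (kg xg26 yg33 zg12) (kg xg32 yg30 zg40) (kg xg32 yg43 zg1) (kg xg19 yg54 zg54) (kg xg32 yg43 zg2) (kg xg31 yg18 zg33) (kg xg20 yg56 zg27) (kg xg20 yg56 zg34) (kg xg20 yg56 zg31) (kg xg22 yg31 zg34) (kg xg19 yg55 zg1) (kg xg32 yg43 zg5) (kg xg19 yg55 zg7) (kg xg29 yg22 zg5) (kg xg31 yg6 zg35) (kg xg31 yg6 zg52) (kg xg28 yg13 zg21) (kg xg31 yg57 zg36) (kg xg30 yg13 zg48) (kg xg24 yg23 zg20) (kg xg32 yg43 zg9) (kg xg29 yg47 zg22) (kg xg28 yg11 zg58) (kg xg32 yg32 zg30) (kg xg19 yg55 zg8) (kg xg32 yg32 zg32) (kg xg31 yg57 zg25) (kg xg29 yg10 zg15)) (@D3.rec (fun _ => Pt) (kg xg28 yg40 zg55) (kg xg31 yg2 zg54) (kg xg31 yg8 zg43) (kg xg19 yg55 zg12) (kg xg31 yg8 zg45) (kg xg32 yg16 zg1) (kg xg29 yg55 zg28) (kg xg19 yg55 zg17) (kg xg25 yg38 zg29) (kg xg23 yg29 zg43)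 (kg xg19 yg55 zg25) (kg xg25 yg29 zg5) (kg xg21 yg8 zg30) (kg xg31 yg41 zg14) (kg xg21 yg56 zg41) (kg xg30 yg40 zg35) (kg xg25 yg37 zg23) (kg xg26 yg35 zg21) (kg xg31 yg41 zg12) (kg xg32 yg17 zg45) (kg xg24 yg49 zg30) (kg xg30 yg20 zg8) (kg xg19 yg55 zg36) (kg xg27 yg18 zg27) (kg xg21 yg56 zg39) (kg xg26 yg6 zg21) (kg xg32 yg3 zg16) (kg xg32 yg3 zg14) (kg xg19 yg55 zg38) (kg xg31 yg49 zg23) (kg xg26 yg10 zg3) (kg xg29 yg11 zg58) (kg xg32 yg16 zg19) (kg xg19 yg55 zg42) (kg xg32 yg16 zg14) (kg xg32 yg16 zg17) (kg xg28 yg42 zg56) (kg xg26 yg8 zg7) (kg xg30 yg41 zg6) (kg xg20 yg0 zg61) (kg xg31 yg0 zg56) (kg xg21 yg49 zg5) (kg xg31 yg11 zg51) (kg xg24 yg30 zg40) (kg xg31 yg0 zg49) (kg xg29 yg14 zg42) (kg xg30 yg52 zg32) (kg xg19 yg55 zg56) (kg xg30 yg33 zg17) (kg xg31 yg7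 zg58) (kg xg31 yg18 zg35) (kg xg31 yg30 zg18) (kg xg19 yg55 zg58) (kg xg30 yg9 zg42) (kg xg32 yg16 zg18) (kg xg32 yg43 zg16) (kg xg31 yg8 zg51) (kg xg19 yg55 zg61) (kg xg24 yg42 zg33) (kg xg32 yg16 zg16) (kg xg29 yg49 zg37) (kg xg31 yg3 zg20)) (@D3.rec (fun _ => Pt) (kg xg31 yg5 zg17) (kg xg26 yg42 zg22) (kg xg26 yg42 zg21) (kg xg23 yg29 zg20) (kg xg23 yg40 zg16) (kg xg32 yg43 zg17) (kg xg29 yg28 zg46) (kg xg19 yg56 zg12) (kg xg31 yg5 zg43) (kg xg29 yg9 zg14) (kg xg27 yg40 zg17) (kg xg21 yg41 zg0) (kg xg24 yg43 zg59) (kg xg24 yg38 zg44) (kg xg23 yg31 zg1) (kg xg19 yg56 zg33) (kg xg23 yg31 zg8) (kg xg30 yg51 zg61) (kg xg29 yg12 zg20) (kg xg31 yg6 zg0) (kg xg31 yg38 zg6) (kg xg24 yg44 zg0) (kg xg30 yg33 zg43) (kg xg32 yg42 zg54) (kg xg32 yg8 zg44) (kg xg20 yg26 zg42)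 (kg xg24 yg35 zg16) (kg xg26 yg40 zg27) (kg xg19 yg56 zg54) (kg xg21 yg59 zg53) (kg xg25 yg51 zg10) (kg xg20 yg2 zg20) (kg xg27 yg41 zg34) (kg xg31 yg46 zg40) (kg xg19 yg57 zg2) (kg xg25 yg50 zg3) (kg xg21 yg0 zg3) (kg xg28 yg15 zg42) (kg xg28 yg30 zg26) (kg xg19 yg57 zg9) (kg xg25 yg50 zg34) (kg xg31 yg43 zg38) (kg xg25 yg15 zg6) (kg xg25 yg36 zg38) (kg xg25 yg14 zg9) (kg xg19 yg57 zg19) (kg xg22 yg8 zg21) (kg xg26 yg3 zg43) (kg xg19 yg57 zg21) (kg xg31 yg46 zg28) (kg xg22 yg8 zg27) (kg xg31 yg46 zg27) (kg xg19 yg57 zg23) (kg xg29 yg0 zg24) (kg xg21 yg54 zg45) (kg xg23 yg13 zg1) (kg xg26 yg10 zg36) (kg xg25 yg40 zg33) (kg xg21 yg48 zg52) (kg xg28 yg48 zg45) (kg xg32 yg6 zg3) (kg xg31 yg50 zg18)) (@D3.rec (fun _ => Pt) (kg xg31 yg46 zg31) (kg xg19 yg58 zg12) (kg xg19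 yg57 zg51) (kg xg29 yg38 zg59) (kg xg25 yg9 zg15) (kg xg25 yg20 zg5) (kg xg19 yg58 zg21) (kg xg25 yg32 zg33) (kg xg28 yg54 zg47) (kg xg20 yg54 zg25) (kg xg20 yg5 zg11) (kg xg19 yg57 zg59) (kg xg31 yg29 zg8) (kg xg24 yg51 zg38) (kg xg30 yg0 zg14) (kg xg19 yg58 zg6) (kg xg30 yg12 zg25) (kg xg19 yg58 zg4) (kg xg30 yg0 zg5) (kg xg20 yg54 zg15) (kg xg31 yg51 zg14) (kg xg25 yg20 zg6) (kg xg24 yg23 zg55) (kg xg24 yg19 zg18) (kg xg23 yg43 zg52) (kg xg32 yg20 zg11) (kg xg19 yg58 zg11) (kg xg28 yg59 zg51) (kg xg31 yg52 zg50) (kg xg29 yg36 zg0) (kg xg19 yg58 zg14) (kg xg24 yg4 zg37) (kg xg28 yg59 zg32) (kg xg31 yg51 zg16) (kg xg28 yg51 zg34) (kg xg32 yg39 zg3) (kg xg19 yg58 zg24) (kg xg24 yg27 zg18) (kg xg19 yg58 zg35) (kg xg28 yg1 zg33) (kg xg19 yg58 zg37) (kg xg31 yg40 zg19)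 (kg xg28 yg1 zg19) (kg xg26 yg59 zg17) (kg xg25 yg45 zg34) (kg xg20 yg53 zg5) (kg xg32 yg24 zg39) (kg xg31 yg27 zg52) (kg xg28 yg14 zg2) (kg xg24 yg20 zg11) (kg xg19 yg58 zg51) (kg xg31 yg9 zg18) (kg xg28 yg51 zg4) (kg xg31 yg56 zg51) (kg xg26 yg0 zg46) (kg xg23 yg29 zg18) (kg xg23 yg29 zg15) (kg xg23 yg29 zg12) (kg xg19 yg58 zg58) (kg xg31 yg9 zg15) (kg xg21 yg51 zg44) (kg xg26 yg45 zg50)) (@D3.rec (fun _ => Pt) (kg xg25 yg18 zg61) (kg xg30 yg32 zg35) (kg xg29 yg5 zg33) (kg xg31 yg49 zg41) (kg xg23 yg40 zg24) (kg xg29 yg49 zg58) (kg xg19 yg59 zg12) (kg xg28 yg19 zg28) (kg xg32 yg16 zg22) (kg xg28 yg10 zg17) (kg xg29 yg35 zg34) (kg xg29 yg15 zg3) (kg xg32 yg36 zg35) (kg xg29 yg15 zg16) (kg xg32 yg17 zg58) (kg xg31 yg40 zg38) (kg xg26 yg34 zg20) (kg xg19 yg59 zg24) (kg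 xg26 yg34 zg22) (kg xg32 yg36 zg43) (kg xg31 yg52 zg3) (kg xg31 yg51 zg58) (kg xg31 yg56 zg61) (kg xg32 yg43 zg34) (kg xg20 yg53 zg41) (kg xg31 yg40 zg53) (kg xg29 yg56 zg11) (kg xg25 yg37 zg26) (kg xg31 yg21 zg19) (kg xg21 yg4 zg32) (kg xg32 yg34 zg53) (kg xg30 yg5 zg25) (kg xg19 yg59 zg46) (kg xg22 yg51 zg30) (kg xg31 yg33 zg52) (kg xg30 yg13 zg34) (kg xg24 yg12 zg60) (kg xg19 yg59 zg53) (kg xg30 yg26 zg19) (kg xg22 yg34 zg23) (kg xg20 yg0 zg5) (kg xg29 yg6 zg15) (kg xg26 yg48 zg39) (kg xg22 yg31 zg48) (kg xg28 yg0 zg49) (kg xg20 yg0 zg46) (kg xg26 yg49 zg45) (kg xg23 yg18 zg35) (kg xg20 yg0 zg57) (kg xg25 yg2 zg6) (kg xg26 yg27 zg30) (kg xg32 yg8 zg8) (kg xg26 yg58 zg49) (kg xg21 yg15 zg27) (kg xg20 yg18 zg43) (kg xg26 yg53 zg14) (kg xg32 yg23 zg12) (kg xg32 yg43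 zg39) (kg xg26 yg26 zg12) (kg xg21 yg30 zg13) (kg xg29 yg18 zg19) (kg xg28 yg28 zg15)) (@D3.rec (fun _ => Pt) (kg xg27 yg43 zg48) (kg xg28 yg18 zg7) (kg xg20 yg7 zg53) (kg xg24 yg48 zg35) (kg xg26 yg54 zg49) (kg xg26 yg54 zg28) (kg xg20 yg1 zg42) (kg xg26 yg35 zg43) (kg xg29 yg43 zg32) (kg xg26 yg54 zg31) (kg xg24 yg33 zg17) (kg xg31 yg34 zg24) (kg xg20 yg1 zg47) (kg xg28 yg35 zg6) (kg xg32 yg43 zg41) (kg xg28 yg55 zg25) (kg xg24 yg49 zg56) (kg xg20 yg42 zg15) (kg xg32 yg3 zg24) (kg xg20 yg1 zg53) (kg xg31 yg17 zg12) (kg xg29 yg27 zg26) (kg xg20 yg1 zg55) (kg xg29 yg13 zg21) (kg xg29 yg41 zg53) (kg xg20 yg1 zg59) (kg xg22 yg47 zg36) (kg xg25 yg28 zg36) (kg xg29 yg51 zg55) (kg xg20 yg41 zg37) (kg xg24 yg37 zg34) (kg xg20 yg2 zg18) (kg xg20 yg2 zg14) (kg xg23 yg41 zg10)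 (kg xg20 yg2 zg16) (kg xg32 yg25 zg22) (kg xg29 yg48 zg30) (kg xg20 yg4 zg24) (kg xg32 yg15 zg19) (kg xg25 yg6 zg15) (kg xg31 yg3 zg30) (kg xg20 yg2 zg17) (kg xg23 yg41 zg4) (kg xg31 yg53 zg6) (kg xg31 yg53 zg8) (kg xg27 yg18 zg49) (kg xg29 yg16 zg23) (kg xg29 yg5 zg2) (kg xg25 yg8 zg44) (kg xg28 yg3 zg20) (kg xg20 yg2 zg26) (kg xg22 yg44 zg18) (kg xg28 yg3 zg18) (kg xg31 yg47 zg28) (kg xg32 yg2 zg36) (kg xg20 yg2 zg30) (kg xg32 yg36 zg57) (kg xg20 yg2 zg32) (kg xg21 yg48 zg17) (kg xg32 yg43 zg50) (kg xg32 yg24 zg46) (kg xg29 yg57 zg10)) (@D3.rec (fun _ => Pt) (kg xg32 yg0 zg26) (kg xg31 yg50 zg21) (kg xg23 yg54 zg50) (kg xg20 yg2 zg33) (kg xg23 yg54 zg52) (kg xg27 yg24 zg20) (kg xg26 yg30 zg32) (kg xg26 yg31 zg25) (kg xg26 yg13 zg43) (kg xg26 yg18 zg16) (kg xg28 yg6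 zg60) (kg xg32 yg30 zg52) (kg xg31 yg35 zg61) (kg xg31 yg50 zg22) (kg xg26 yg23 zg17) (kg xg31 yg49 zg32) (kg xg30 yg7 zg51) (kg xg31 yg47 zg42) (kg xg27 yg20 zg48) (kg xg25 yg48 zg40) (kg xg31 yg46 zg48) (kg xg28 yg3 zg39) (kg xg20 yg2 zg54) (kg xg29 yg15 zg48) (kg xg32 yg43 zg53) (kg xg31 yg49 zg50) (kg xg20 yg3 zg2) (kg xg20 yg2 zg60) (kg xg27 yg14 zg15) (kg xg20 yg3 zg0) (kg xg31 yg49 zg47) (kg xg31 yg24 zg38) (kg xg32 yg2 zg0) (kg xg32 yg29 zg44) (kg xg32 yg27 zg58) (kg xg20 yg3 zg20) (kg xg29 yg45 zg13) (kg xg20 yg3 zg7) (kg xg31 yg47 zg20) (kg xg23 yg41 zg26) (kg xg31 yg47 zg8) (kg xg32 yg43 zg54) (kg xg20 yg3 zg14) (kg xg27 yg15 zg12) (kg xg32 yg38 zg47) (kg xg27 yg42 zg39) (kg xg31 yg35 zg38) (kg xg21 yg1 zg5) (kg xg26 yg52 zg49) (kg xg29 yg0 zg53) (kg xg25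 yg36 zg58) (kg xg20 yg3 zg24) (kg xg24 yg3 zg37) (kg xg29 yg5 zg24) (kg xg29 yg5 zg28) (kg xg20 yg3 zg56) (kg xg26 yg6 zg54) (kg xg20 yg3 zg51) (kg xg20 yg3 zg36) (kg xg20 yg3 zg31) (kg xg29 yg58 zg24) (kg xg30 yg54 zg57)) (@D3.rec (fun _ => Pt) (kg xg20 yg3 zg37) (kg xg21 yg57 zg42) (kg xg28 yg41 zg23) (kg xg24 yg41 zg56) (kg xg29 yg58 zg57) (kg xg20 yg3 zg47) (kg xg21 yg23 zg60) (kg xg29 yg4 zg60) (kg xg25 yg9 zg59) (kg xg28 yg20 zg37) (kg xg24 yg33 zg57) (kg xg29 yg4 zg28) (kg xg31 yg49 zg55) (kg xg20 yg3 zg55) (kg xg32 yg43 zg55) (kg xg24 yg35 zg61) (kg xg28 yg31 zg22) (kg xg24 yg33 zg39) (kg xg20 yg3 zg57) (kg xg26 yg44 zg33) (kg xg23 yg46 zg58) (kg xg31 yg28 zg51) (kg xg32 yg0 zg38) (kg xg20 yg4 zg4) (kg xg23 yg22 zg13) (kg xg27 yg48 zg20) (kg xg30 yg8 zg21) (kg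 xg31 yg6 zg2) (kg xg20 yg4 zg10) (kg xg26 yg15 zg46) (kg xg20 yg4 zg23) (kg xg32 yg43 zg45) (kg xg28 yg58 zg10) (kg xg29 yg59 zg22) (kg xg23 yg28 zg22) (kg xg32 yg11 zg37) (kg xg26 yg54 zg27) (kg xg31 yg2 zg50) (kg xg20 yg24 zg34) (kg xg29 yg59 zg12) (kg xg20 yg4 zg41) (kg xg24 yg38 zg22) (kg xg29 yg41 zg48) (kg xg29 yg59 zg14) (kg xg31 yg35 zg32) (kg xg20 yg4 zg43) (kg xg32 yg6 zg15) (kg xg26 yg26 zg50) (kg xg24 yg11 zg21) (kg xg31 yg48 zg51) (kg xg20 yg4 zg57) (kg xg29 yg6 zg45) (kg xg30 yg9 zg15) (kg xg29 yg2 zg20) (kg xg20 yg5 zg6) (kg xg25 yg19 zg56) (kg xg32 yg18 zg4) (kg xg27 yg37 zg10) (kg xg24 yg1 zg27) (kg xg32 yg43 zg23) (kg xg25 yg33 zg36) (kg xg31 yg50 zg60)) (@D3.rec (fun _ => Pt) (kg xg31 yg21 zg39) (kg xg31 yg18 zg12) (kg xg20 yg5 zg17) (kg xg24 yg27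 zg12) (kg xg31 yg35 zg20) (kg xg26 yg44 zg12) (kg xg28 yg49 zg13) (kg xg20 yg29 zg7) (kg xg20 yg12 zg59) (kg xg20 yg5 zg32) (kg xg20 yg12 zg58) (kg xg21 yg38 zg61) (kg xg21 yg38 zg59) (kg xg26 yg50 zg9) (kg xg21 yg29 zg4) (kg xg28 yg15 zg6) (kg xg20 yg30 zg59) (kg xg29 yg54 zg39) (kg xg28 yg10 zg59) (kg xg23 yg13 zg47) (kg xg21 yg15 zg26) (kg xg27 yg2 zg9) (kg xg28 yg12 zg35) (kg xg31 yg7 zg14) (kg xg23 yg28 zg61) (kg xg20 yg44 zg55) (kg xg20 yg22 zg4) (kg xg29 yg25 zg30) (kg xg32 yg7 zg29) (kg xg20 yg7 zg5) (kg xg32 yg7 zg28) (kg xg29 yg19 zg47) (kg xg20 yg7 zg6) (kg xg27 yg53 zg15) (kg xg29 yg20 zg6) (kg xg31 yg42 zg16) (kg xg26 yg18 zg58) (kg xg28 yg38 zg19) (kg xg29 yg27 zg8) (kg xg20 yg52 zg49) (kg xg29 yg19 zg26) (kg xg29 yg18 zg48) (kg xg20 yg18 zg40) (kg xg28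 yg55 zg51) (kg xg20 yg30 zg34) (kg xg23 yg46 zg33) (kg xg28 yg44 zg16) (kg xg24 yg46 zg23) (kg xg26 yg53 zg16) (kg xg29 yg18 zg20) (kg xg25 yg47 zg50) (kg xg30 yg50 zg53) (kg xg20 yg8 zg59) (kg xg20 yg7 zg54) (kg xg20 yg9 zg4) (kg xg20 yg9 zg3) (kg xg24 yg46 zg38) (kg xg30 yg45 zg50) (kg xg20 yg30 zg24) (kg xg31 yg44 zg3) (kg xg20 yg18 zg34) (kg xg28 yg26 zg4)) (@D3.rec (fun _ => Pt) (kg xg29 yg39 zg48) (kg xg27 yg31 zg15) (kg xg28 yg26 zg2) (kg xg22 yg59 zg57) (kg xg20 yg8 zg25) (kg xg20 yg8 zg29) (kg xg29 yg42 zg41) (kg xg20 yg31 zg39) (kg xg30 yg5 zg36) (kg xg20 yg33 zg44) (kg xg21 yg44 zg27) (kg xg20 yg35 zg50) (kg xg32 yg2 zg6) (kg xg22 yg22 zg33) (kg xg29 yg24 zg5) (kg xg20 yg8 zg45) (kg xg20 yg18 zg30) (kg xg26 yg29 zg36) (kg xg21 yg15 zg37) (kg xg20 yg30 zg15)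 (kg xg20 yg28 zg48) (kg xg22 yg51 zg24) (kg xg28 yg27 zg54) (kg xg29 yg18 zg40) (kg xg29 yg29 zg38) (kg xg30 yg48 zg9) (kg xg32 yg7 zg57) (kg xg25 yg18 zg25) (kg xg23 yg30 zg43) (kg xg28 yg34 zg4) (kg xg28 yg26 zg26) (kg xg26 yg56 zg22) (kg xg28 yg46 zg8) (kg xg20 yg9 zg15) (kg xg26 yg20 zg18) (kg xg22 yg38 zg25) (kg xg22 yg39 zg6) (kg xg27 yg2 zg20) (kg xg27 yg14 zg42) (kg xg20 yg9 zg35) (kg xg22 yg26 zg32) (kg xg26 yg50 zg52) (kg xg21 yg18 zg36) (kg xg20 yg13 zg14) (kg xg20 yg21 zg58) (kg xg31 yg42 zg47) (kg xg29 yg18 zg31) (kg xg20 yg10 zg2) (kg xg32 yg6 zg61) (kg xg32 yg41 zg42) (kg xg30 yg34 zg52) (kg xg29 yg25 zg24) (kg xg32 yg17 zg21) (kg xg20 yg10 zg9) (kg xg23 yg55 zg6) (kg xg22 yg40 zg34) (kg xg20 yg10 zg10) (kg xg24 yg8 zg17) (kg xg26 yg51 zg1) (kg xg31 yg43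 zg25) (kg xg26 yg31 zg49) (kg xg22 yg33 zg56)) (@D3.rec (fun _ => Pt) (kg xg20 yg10 zg14) (kg xg24 yg7 zg61) (kg xg32 yg16 zg25) (kg xg29 yg38 zg32) (kg xg27 yg0 zg61) (kg xg29 yg18 zg34) (kg xg20 yg10 zg18) (kg xg28 yg28 zg49) (kg xg20 yg10 zg19) (kg xg28 yg28 zg43) (kg xg26 yg13 zg16) (kg xg26 yg17 zg24) (kg xg26 yg32 zg34) (kg xg22 yg41 zg20) (kg xg23 yg0 zg10) (kg xg26 yg52 zg30) (kg xg20 yg33 zg47) (kg xg20 yg12 zg1) (kg xg20 yg10 zg31) (kg xg25 yg47 zg3) (kg xg20 yg10 zg32) (kg xg25 yg16 zg42) (kg xg21 yg52 zg47) (kg xg32 yg6 zg26) (kg xg20 yg19 zg3) (kg xg27 yg40 zg1) (kg xg20 yg10 zg41) (kg xg28 yg46 zg1) (kg xg20 yg10 zg44) (kg xg23 yg51 zg40) (kg xg32 yg29 zg56) (kg xg32 yg29 zg27) (kg xg28 yg9 zg25) (kg xg27 yg58 zg33) (kg xg30 yg21 zg14) (kg xg28 yg23 zg31)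 (kg xg23 yg36 zg50) (kg xg20 yg11 zg2) (kg xg32 yg7 zg20) (kg xg32 yg29 zg21) (kg xg30 yg31 zg11) (kg xg29 yg24 zg54) (kg xg20 yg11 zg0) (kg xg29 yg24 zg53) (kg xg32 yg29 zg36) (kg xg28 yg7 zg0) (kg xg32 yg1 zg58) (kg xg27 yg44 zg22) (kg xg31 yg59 zg48) (kg xg32 yg6 zg30) (kg xg20 yg11 zg9) (kg xg27 yg47 zg53) (kg xg31 yg24 zg59) (kg xg20 yg11 zg11) (kg xg26 yg31 zg40) (kg xg29 yg53 zg8) (kg xg32 yg7 zg53) (kg xg31 yg32 zg39) (kg xg28 yg6 zg54) (kg xg31 yg46 zg34) (kg xg24 yg54 zg32) (kg xg27 yg49 zg32)) (@D3.rec (fun _ => Pt) (kg xg20 yg11 zg14) (kg xg32 yg25 zg46) (kg xg28 yg8 zg52) (kg xg28 yg24 zg23) (kg xg31 yg32 zg47) (kg xg30 yg24 zg45) (kg xg32 yg9 zg25) (kg xg29 yg30 zg58) (kg xg20 yg30 zg7) (kg xg22 yg5 zg36) (kg xg25 yg19 zg29) (kg xg26 yg56 zg16) (kg xg20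 yg12 zg7) (kg xg20 yg33 zg60) (kg xg20 yg11 zg27) (kg xg25 yg58 zg13) (kg xg23 yg54 zg47) (kg xg22 yg40 zg57) (kg xg32 yg35 zg11) (kg xg23 yg4 zg34) (kg xg20 yg11 zg31) (kg xg32 yg36 zg16) (kg xg30 yg43 zg2) (kg xg32 yg17 zg16) (kg xg32 yg44 zg2) (kg xg31 yg19 zg37) (kg xg31 yg15 zg0) (kg xg24 yg24 zg48) (kg xg29 yg24 zg25) (kg xg20 yg11 zg49) (kg xg29 yg52 zg44) (kg xg28 yg54 zg35) (kg xg20 yg11 zg59) (kg xg30 yg36 zg18) (kg xg28 yg51 zg43) (kg xg30 yg44 zg14) (kg xg31 yg24 zg58) (kg xg20 yg11 zg61) (kg xg30 yg51 zg18) (kg xg29 yg52 zg43) (kg xg25 yg51 zg22) (kg xg22 yg3 zg44) (kg xg28 yg47 zg26) (kg xg22 yg42 zg37) (kg xg20 yg24 zg46) (kg xg25 yg17 zg35) (kg xg22 yg10 zg1) (kg xg22 yg2 zg31) (kg xg29 yg51 zg49) (kg xg20 yg40 zg11) (kg xg20 yg16 zg49) (kg xg21 yg21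 zg20) (kg xg21 yg41 zg8) (kg xg26 yg58 zg20) (kg xg22 yg10 zg42) (kg xg20 yg12 zg61) (kg xg20 yg36 zg20) (kg xg25 yg53 zg53) (kg xg21 yg24 zg3) (kg xg26 yg2 zg26) (kg xg29 yg24 zg14) (kg xg20 yg27 zg54)) (@D3.rec (fun _ => Pt) (kg xg30 yg59 zg2) (kg xg21 yg53 zg46) (kg xg26 yg22 zg33) (kg xg31 yg7 zg6) (kg xg20 yg13 zg36) (kg xg31 yg59 zg22) (kg xg26 yg48 zg58) (kg xg23 yg35 zg13) (kg xg21 yg53 zg50) (kg xg20 yg13 zg54) (kg xg29 yg52 zg23) (kg xg23 yg32 zg25) (kg xg20 yg44 zg51) (kg xg21 yg33 zg32) (kg xg29 yg16 zg48) (kg xg20 yg15 zg28) (kg xg31 yg33 zg0) (kg xg32 yg15 zg46) (kg xg21 yg26 zg43) (kg xg20 yg14 zg26) (kg xg32 yg10 zg29) (kg xg30 yg34 zg11) (kg xg20 yg14 zg39) (kg xg20 yg15 zg43) (kg xg21 yg47 zg11) (kg xg29 yg59 zg59) (kg xg28 yg51 zg10) (kg xg20 yg44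 zg56) (kg xg24 yg16 zg33) (kg xg29 yg15 zg24) (kg xg21 yg42 zg41) (kg xg21 yg33 zg24) (kg xg22 yg47 zg11) (kg xg27 yg36 zg12) (kg xg21 yg26 zg45) (kg xg27 yg48 zg10) (kg xg29 yg31 zg53) (kg xg23 yg49 zg44) (kg xg21 yg47 zg13) (kg xg21 yg3 zg36) (kg xg29 yg49 zg31) (kg xg20 yg15 zg31) (kg xg20 yg17 zg43) (kg xg22 yg3 zg17) (kg xg20 yg15 zg33) (kg xg24 yg19 zg45) (kg xg26 yg5 zg55) (kg xg21 yg44 zg30) (kg xg20 yg16 zg50) (kg xg29 yg38 zg33) (kg xg20 yg16 zg33) (kg xg20 yg15 zg46) (kg xg26 yg51 zg11) (kg xg21 yg19 zg42) (kg xg20 yg16 zg9) (kg xg30 yg5 zg10) (kg xg21 yg37 zg24) (kg xg21 yg53 zg60) (kg xg20 yg19 zg53) (kg xg20 yg16 zg13) (kg xg24 yg44 zg58) (kg xg25 yg25 zg23)) (@D3.rec (fun _ => Pt) (kg xg23 yg42 zg11) (kg xg32 yg41 zg17) (kg xg27 yg27 zg18) (kg xg25 yg15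 zg4) (kg xg24 yg17 zg5) (kg xg20 yg20 zg33) (kg xg30 yg26 zg55) (kg xg27 yg44 zg12) (kg xg30 yg27 zg19) (kg xg30 yg3 zg57) (kg xg32 yg15 zg13) (kg xg30 yg9 zg7) (kg xg24 yg24 zg41) (kg xg28 yg51 zg61) (kg xg28 yg55 zg46) (kg xg29 yg38 zg8) (kg xg31 yg4 zg58) (kg xg32 yg44 zg15) (kg xg20 yg17 zg5) (kg xg23 yg49 zg47) (kg xg31 yg22 zg14) (kg xg23 yg12 zg11) (kg xg29 yg29 zg25) (kg xg29 yg40 zg46) (kg xg31 yg32 zg6) (kg xg30 yg17 zg56) (kg xg20 yg17 zg44) (kg xg23 yg36 zg10) (kg xg27 yg5 zg50) (kg xg22 yg10 zg10) (kg xg22 yg2 zg16) (kg xg28 yg54 zg60) (kg xg25 yg23 zg36) (kg xg32 yg44 zg18) (kg xg25 yg24 zg48) (kg xg22 yg11 zg21) (kg xg20 yg17 zg55) (kg xg20 yg49 zg40) (kg xg31 yg41 zg4) (kg xg20 yg49 zg35) (kg xg20 yg49 zg33) (kg xg27 yg14 zg34) (kg xg20 yg17 zg61) (kg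 xg20 yg50 zg1) (kg xg20 yg18 zg0) (kg xg20 yg50 zg0) (kg xg29 yg41 zg16) (kg xg31 yg36 zg55) (kg xg25 yg59 zg11) (kg xg20 yg50 zg17) (kg xg20 yg50 zg16) (kg xg27 yg42 zg41) (kg xg20 yg50 zg31) (kg xg30 yg50 zg46) (kg xg25 yg29 zg58) (kg xg29 yg18 zg49) (kg xg21 yg11 zg18) (kg xg32 yg15 zg24) (kg xg32 yg32 zg52) (kg xg20 yg18 zg14) (kg xg21 yg38 zg10) (kg xg23 yg6 zg52)) (@D3.rec (fun _ => Pt) (kg xg24 yg47 zg38) (kg xg26 yg31 zg61) (kg xg27 yg5 zg31) (kg xg26 yg55 zg31) (kg xg29 yg19 zg16) (kg xg29 yg19 zg15) (kg xg29 yg28 zg60) (kg xg24 yg5 zg32) (kg xg20 yg18 zg29) (kg xg28 yg26 zg20) (kg xg30 yg34 zg60) (kg xg26 yg57 zg49) (kg xg30 yg44 zg10) (kg xg25 yg18 zg26) (kg xg29 yg14 zg41) (kg xg21 yg37 zg57) (kg xg27 yg5 zg32) (kg xg28 yg26 zg3) (kg xg21 yg19 zg6) (kg xg20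 yg18 zg56) (kg xg25 yg25 zg39) (kg xg32 yg30 zg18) (kg xg28 yg8 zg46) (kg xg25 yg26 zg44) (kg xg32 yg44 zg22) (kg xg29 yg21 zg29) (kg xg27 yg52 zg11) (kg xg29 yg4 zg14) (kg xg30 yg7 zg4) (kg xg23 yg14 zg43) (kg xg27 yg8 zg2) (kg xg24 yg46 zg60) (kg xg22 yg47 zg32) (kg xg27 yg41 zg25) (kg xg21 yg13 zg56) (kg xg27 yg14 zg29) (kg xg20 yg52 zg37) (kg xg31 yg15 zg54) (kg xg26 yg27 zg28) (kg xg20 yg20 zg11) (kg xg28 yg33 zg9) (kg xg30 yg33 zg58) (kg xg22 yg39 zg36) (kg xg21 yg44 zg7) (kg xg28 yg10 zg23) (kg xg22 yg40 zg30) (kg xg29 yg25 zg22) (kg xg28 yg26 zg15) (kg xg31 yg50 zg50) (kg xg28 yg20 zg39) (kg xg30 yg54 zg41) (kg xg27 yg32 zg6) (kg xg29 yg20 zg43) (kg xg20 yg20 zg55) (kg xg29 yg20 zg42) (kg xg21 yg53 zg58) (kg xg32 yg7 zg23) (kg xg22 yg51 zg51) (kg xg28 yg7 zg38)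 (kg xg20 yg21 zg5) (kg xg31 yg53 zg60) (kg xg20 yg21 zg6)) (@D3.rec (fun _ => Pt) (kg xg26 yg29 zg4) (kg xg26 yg17 zg45) (kg xg20 yg21 zg32) (kg xg20 yg21 zg10) (kg xg29 yg54 zg26) (kg xg22 yg51 zg54) (kg xg22 yg49 zg50) (kg xg20 yg21 zg20) (kg xg24 yg47 zg29) (kg xg27 yg33 zg11) (kg xg20 yg21 zg26) (kg xg28 yg25 zg42) (kg xg32 yg29 zg39) (kg xg20 yg21 zg24) (kg xg27 yg49 zg11) (kg xg29 yg54 zg9) (kg xg21 yg12 zg45) (kg xg32 yg9 zg43) (kg xg28 yg10 zg11) (kg xg21 yg12 zg54) (kg xg22 yg12 zg55) (kg xg32 yg44 zg26) (kg xg29 yg19 zg40) (kg xg26 yg49 zg10) (kg xg26 yg49 zg1) (kg xg29 yg21 zg14) (kg xg31 yg16 zg18) (kg xg20 yg21 zg47) (kg xg28 yg23 zg26) (kg xg27 yg12 zg47) (kg xg20 yg21 zg54) (kg xg20 yg44 zg20) (kg xg32 yg1 zg54) (kg xg29 yg3 zg10) (kg xg26 yg3 zg50) (kg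 xg23 yg49 zg22) (kg xg26 yg53 zg56) (kg xg20 yg38 zg8) (kg xg26 yg40 zg12) (kg xg29 yg42 zg33) (kg xg30 yg17 zg12) (kg xg20 yg23 zg2) (kg xg29 yg9 zg1) (kg xg29 yg30 zg31) (kg xg25 yg51 zg57) (kg xg26 yg53 zg61) (kg xg20 yg24 zg39) (kg xg28 yg48 zg3) (kg xg26 yg5 zg7) (kg xg31 yg48 zg35) (kg xg21 yg20 zg53) (kg xg29 yg26 zg34) (kg xg30 yg30 zg22) (kg xg26 yg39 zg4) (kg xg22 yg33 zg34) (kg xg24 yg12 zg2) (kg xg20 yg23 zg60) (kg xg26 yg33 zg42) (kg xg29 yg44 zg37) (kg xg31 yg29 zg18) (kg xg29 yg55 zg57) (kg xg22 yg38 zg9)) (@D3.rec (fun _ => Pt) (kg xg27 yg40 zg47) (kg xg22 yg6 zg44) (kg xg22 yg6 zg53) (kg xg20 yg23 zg39) (kg xg28 yg15 zg37) (kg xg30 yg28 zg2) (kg xg20 yg48 zg53) (kg xg20 yg23 zg43) (kg xg27 yg16 zg15) (kg xg20 yg24 zg19) (kg xg29 yg40 zg9) (kg xg20 yg24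 zg6) (kg xg24 yg22 zg44) (kg xg20 yg23 zg48) (kg xg31 yg19 zg2) (kg xg32 yg15 zg49) (kg xg32 yg13 zg47) (kg xg30 yg24 zg44) (kg xg27 yg16 zg5) (kg xg24 yg2 zg52) (kg xg30 yg29 zg52) (kg xg20 yg23 zg54) (kg xg32 yg44 zg35) (kg xg20 yg35 zg29) (kg xg29 yg47 zg14) (kg xg24 yg27 zg37) (kg xg29 yg47 zg13) (kg xg32 yg44 zg36) (kg xg20 yg23 zg58) (kg xg31 yg27 zg10) (kg xg31 yg48 zg56) (kg xg20 yg24 zg44) (kg xg20 yg23 zg59) (kg xg29 yg25 zg51) (kg xg27 yg11 zg10) (kg xg31 yg30 zg44) (kg xg27 yg41 zg12) (kg xg20 yg24 zg14) (kg xg30 yg2 zg56) (kg xg27 yg11 zg54) (kg xg27 yg11 zg53) (kg xg29 yg47 zg17) (kg xg26 yg20 zg16) (kg xg26 yg0 zg41) (kg xg30 yg33 zg45) (kg xg29 yg9 zg48) (kg xg24 yg21 zg2) (kg xg27 yg41 zg24) (kg xg27 yg41 zg28) (kg xg31 yg58 zg40) (kg xg20 yg24 zg55)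 (kg xg31 yg5 zg7) (kg xg31 yg2 zg59) (kg xg29 yg58 zg16) (kg xg23 yg40 zg55) (kg xg32 yg32 zg13) (kg xg27 yg38 zg3) (kg xg21 yg47 zg37) (kg xg21 yg28 zg36) (kg xg30 yg27 zg53) (kg xg29 yg8 zg13) (kg xg24 yg14 zg55)) (@D3.rec (fun _ => Pt) (kg xg30 yg40 zg2) (kg xg27 yg8 zg47) (kg xg21 yg47 zg12) (kg xg28 yg37 zg41) (kg xg22 yg17 zg37) (kg xg24 yg7 zg0) (kg xg29 yg42 zg36) (kg xg20 yg25 zg33) (kg xg22 yg53 zg53) (kg xg29 yg25 zg8) (kg xg24 yg58 zg58) (kg xg27 yg41 zg45) (kg xg31 yg42 zg2) (kg xg28 yg41 zg15) (kg xg29 yg50 zg8) (kg xg29 yg15 zg12) (kg xg31 yg52 zg35) (kg xg29 yg14 zg14) (kg xg29 yg14 zg12) (kg xg24 yg33 zg24) (kg xg31 yg51 zg55) (kg xg20 yg26 zg38) (kg xg31 yg21 zg18) (kg xg32 yg36 zg34) (kg xg30 yg27 zg14) (kg xg29 yg43 zg30) (kg xg31 yg34 zg21) (kg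 xg31 yg40 zg35) (kg xg30 yg27 zg1) (kg xg31 yg40 zg33) (kg xg31 yg21 zg59) (kg xg32 yg43 zg30) (kg xg20 yg26 zg45) (kg xg29 yg35 zg36) (kg xg21 yg48 zg1) (kg xg25 yg48 zg59) (kg xg24 yg12 zg22) (kg xg25 yg51 zg13) (kg xg27 yg40 zg28) (kg xg28 yg35 zg48) (kg xg27 yg35 zg8) (kg xg32 yg44 zg51) (kg xg28 yg8 zg54) (kg xg31 yg53 zg52) (kg xg24 yg44 zg40) (kg xg28 yg25 zg14) (kg xg24 yg34 zg22) (kg xg20 yg50 zg47) (kg xg26 yg57 zg15) (kg xg24 yg13 zg53) (kg xg24 yg25 zg7) (kg xg23 yg11 zg16) (kg xg20 yg39 zg7) (kg xg20 yg28 zg23) (kg xg27 yg0 zg31) (kg xg29 yg7 zg57) (kg xg21 yg31 zg5) (kg xg26 yg45 zg3) (kg xg24 yg23 zg42) (kg xg28 yg47 zg48) (kg xg20 yg28 zg38) (kg xg32 yg38 zg15)) (@D3.rec (fun _ => Pt) (kg xg21 yg14 zg55) (kg xg28 yg42 zg6) (kg xg20 yg28 zg44) (kg xg30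 yg48 zg18) (kg xg31 yg58 zg27) (kg xg21 yg13 zg58) (kg xg30 yg17 zg58) (kg xg32 yg33 zg50) (kg xg32 yg14 zg39) (kg xg26 yg27 zg5) (kg xg27 yg21 zg1) (kg xg26 yg2 zg43) (kg xg20 yg29 zg9) (kg xg25 yg35 zg27) (kg xg25 yg27 zg58) (kg xg24 yg38 zg8) (kg xg22 yg52 zg55) (kg xg32 yg0 zg43) (kg xg30 yg47 zg44) (kg xg28 yg35 zg5) (kg xg26 yg56 zg31) (kg xg30 yg25 zg19) (kg xg23 yg57 zg38) (kg xg28 yg26 zg39) (kg xg20 yg29 zg27) (kg xg31 yg48 zg61) (kg xg29 yg21 zg34) (kg xg32 yg44 zg1) (kg xg30 yg33 zg51) (kg xg22 yg52 zg29) (kg xg20 yg29 zg33) (kg xg28 yg23 zg22) (kg xg27 yg12 zg36) (kg xg20 yg32 zg31) (kg xg20 yg29 zg38) (kg xg26 yg30 zg31) (kg xg31 yg38 zg43) (kg xg24 yg34 zg61) (kg xg27 yg13 zg15) (kg xg28 yg32 zg8) (kg xg31 yg44 zg5) (kg xg29 yg49 zg16) (kg xg23 yg0 zg5)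 (kg xg32 yg1 zg44) (kg xg26 yg31 zg34) (kg xg20 yg29 zg45) (kg xg21 yg2 zg20) (kg xg28 yg54 zg23) (kg xg26 yg37 zg35) (kg xg27 yg42 zg59) (kg xg27 yg16 zg41) (kg xg29 yg38 zg6) (kg xg29 yg36 zg40) (kg xg30 yg3 zg50) (kg xg28 yg17 zg24) (kg xg20 yg59 zg53) (kg xg27 yg8 zg20) (kg xg30 yg32 zg21) (kg xg27 yg8 zg18) (kg xg32 yg42 zg42) (kg xg32 yg7 zg1) (kg xg29 yg24 zg12)) (@D3.rec (fun _ => Pt) (kg xg29 yg24 zg6) (kg xg29 yg19 zg18) (kg xg29 yg19 zg24) (kg xg31 yg50 zg25) (kg xg20 yg30 zg20) (kg xg29 yg19 zg27) (kg xg20 yg31 zg24) (kg xg20 yg52 zg50) (kg xg31 yg28 zg32) (kg xg20 yg59 zg52) (kg xg24 yg3 zg50) (kg xg22 yg39 zg0) (kg xg22 yg3 zg7) (kg xg32 yg44 zg59) (kg xg30 yg44 zg38) (kg xg31 yg50 zg9) (kg xg20 yg32 zg10) (kg xg20 yg32 zg19) (kg xg24 yg59 zg43) (kg xg24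 yg59 zg45) (kg xg20 yg31 zg14) (kg xg22 yg25 zg56) (kg xg23 yg21 zg29) (kg xg20 yg33 zg30) (kg xg30 yg53 zg50) (kg xg23 yg47 zg22) (kg xg21 yg49 zg36) (kg xg23 yg1 zg12) (kg xg29 yg29 zg56) (kg xg21 yg14 zg2) (kg xg32 yg44 zg61) (kg xg20 yg31 zg19) (kg xg32 yg44 zg58) (kg xg32 yg18 zg14) (kg xg30 yg45 zg39) (kg xg26 yg31 zg11) (kg xg20 yg31 zg26) (kg xg26 yg31 zg10) (kg xg22 yg56 zg1) (kg xg23 yg8 zg55) (kg xg21 yg52 zg10) (kg xg20 yg31 zg54) (kg xg20 yg31 zg38) (kg xg29 yg54 zg53) (kg xg22 yg53 zg15) (kg xg31 yg33 zg48) (kg xg29 yg30 zg15) (kg xg30 yg58 zg30) (kg xg28 yg20 zg15) (kg xg28 yg22 zg1) (kg xg20 yg31 zg53) (kg xg32 yg16 zg42) (kg xg27 yg1 zg18) (kg xg31 yg50 zg1) (kg xg20 yg32 zg3) (kg xg32 yg24 zg49) (kg xg29 yg29 zg30) (kg xg20 yg32 zg13) (kg xg30 yg32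 zg5) (kg xg28 yg27 zg5) (kg xg20 yg33 zg23) (kg xg21 yg15 zg38)) (@D3.rec (fun _ => Pt) (kg xg24 yg30 zg55) (kg xg26 yg55 zg11) (kg xg20 yg32 zg24) (kg xg24 yg59 zg23) (kg xg25 yg46 zg39) (kg xg20 yg33 zg9) (kg xg29 yg54 zg38) (kg xg23 yg25 zg34) (kg xg23 yg15 zg50) (kg xg23 yg15 zg51) (kg xg31 yg2 zg28) (kg xg30 yg55 zg39) (kg xg20 yg33 zg8) (kg xg30 yg33 zg49) (kg xg22 yg53 zg18) (kg xg28 yg13 zg13) (kg xg23 yg12 zg17) (kg xg30 yg46 zg33) (kg xg28 yg25 zg4) (kg xg27 yg13 zg6) (kg xg20 yg33 zg19) (kg xg27 yg8 zg22) (kg xg24 yg10 zg58) (kg xg23 yg34 zg26) (kg xg30 yg57 zg46) (kg xg30 yg12 zg59) (kg xg20 yg33 zg31) (kg xg25 yg59 zg39) (kg xg32 yg15 zg16) (kg xg29 yg34 zg57) (kg xg28 yg21 zg13) (kg xg24 yg6 zg16) (kg xg29 yg23 zg23) (kg xg24 yg28 zg43) (kg xg31 yg22 zg28)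 (kg xg26 yg56 zg29) (kg xg24 yg2 zg50) (kg xg30 yg18 zg22) (kg xg29 yg42 zg3) (kg xg23 yg55 zg37) (kg xg24 yg29 zg59) (kg xg28 yg25 zg18) (kg xg32 yg34 zg31) (kg xg30 yg49 zg54) (kg xg27 yg1 zg59) (kg xg32 yg1 zg11) (kg xg28 yg23 zg47) (kg xg23 yg5 zg12) (kg xg30 yg47 zg24) (kg xg30 yg47 zg17) (kg xg26 yg28 zg34) (kg xg28 yg11 zg19) (kg xg27 yg15 zg34) (kg xg29 yg43 zg6) (kg xg27 yg20 zg61) (kg xg32 yg28 zg2) (kg xg22 yg37 zg3) (kg xg21 yg28 zg58) (kg xg31 yg42 zg34) (kg xg20 yg34 zg37) (kg xg20 yg34 zg47) (kg xg29 yg0 zg28)) (@D3.rec (fun _ => Pt) (kg xg26 yg26 zg39) (kg xg26 yg49 zg5) (kg xg27 yg22 zg7) (kg xg22 yg4 zg39) (kg xg29 yg22 zg36) (kg xg32 yg45 zg3) (kg xg32 yg13 zg27) (kg xg26 yg26 zg42) (kg xg24 yg36 zg28) (kg xg26 yg26 zg45) (kg xg29 yg32 zg7) (kg xg24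 yg8 zg40) (kg xg20 yg37 zg6) (kg xg29 yg32 zg5) (kg xg31 yg25 zg23) (kg xg26 yg17 zg41) (kg xg22 yg1 zg42) (kg xg27 yg15 zg61) (kg xg29 yg43 zg22) (kg xg27 yg51 zg12) (kg xg26 yg46 zg24) (kg xg26 yg33 zg57) (kg xg32 yg37 zg49) (kg xg29 yg33 zg16) (kg xg32 yg21 zg42) (kg xg20 yg39 zg31) (kg xg20 yg35 zg34) (kg xg32 yg45 zg5) (kg xg20 yg56 zg38) (kg xg31 yg34 zg30) (kg xg31 yg35 zg3) (kg xg29 yg46 zg19) (kg xg24 yg11 zg48) (kg xg27 yg0 zg13) (kg xg28 yg52 zg39) (kg xg24 yg32 zg4) (kg xg22 yg25 zg19) (kg xg20 yg39 zg42) (kg xg20 yg39 zg41) (kg xg24 yg31 zg4) (kg xg27 yg36 zg11) (kg xg31 yg43 zg34) (kg xg20 yg52 zg28) (kg xg20 yg52 zg25) (kg xg20 yg35 zg58) (kg xg27 yg3 zg37) (kg xg21 yg55 zg2) (kg xg20 yg36 zg17) (kg xg23 yg3 zg57) (kg xg22 yg56 zg49) (kg xg26 yg33 zg7)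 (kg xg21 yg53 zg40) (kg xg25 yg56 zg17) (kg xg25 yg54 zg55) (kg xg29 yg23 zg18) (kg xg32 yg1 zg14) (kg xg29 yg19 zg22) (kg xg20 yg36 zg31) (kg xg20 yg36 zg28) (kg xg28 yg26 zg27) (kg xg31 yg14 zg55) (kg xg20 yg36 zg37)) (@D3.rec (fun _ => Pt) (kg xg32 yg1 zg13) (kg xg32 yg18 zg43) (kg xg23 yg55 zg4) (kg xg32 yg27 zg61) (kg xg27 yg9 zg27) (kg xg29 yg31 zg10) (kg xg32 yg45 zg11) (kg xg29 yg31 zg13) (kg xg24 yg8 zg18) (kg xg29 yg1 zg5) (kg xg24 yg7 zg13) (kg xg24 yg8 zg34) (kg xg22 yg41 zg55) (kg xg20 yg36 zg57) (kg xg20 yg36 zg51) (kg xg32 yg45 zg14) (kg xg30 yg55 zg41) (kg xg20 yg36 zg52) (kg xg32 yg45 zg16) (kg xg26 yg27 zg33) (kg xg22 yg56 zg4) (kg xg32 yg36 zg12) (kg xg31 yg19 zg21) (kg xg21 yg5 zg21) (kg xg30 yg26 zg45) (kg xg31 yg12 zg33) (kg xg20 yg37 zg4) (kg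 xg27 yg59 zg42) (kg xg20 yg37 zg18) (kg xg20 yg37 zg15) (kg xg31 yg25 zg25) (kg xg31 yg22 zg30) (kg xg22 yg25 zg7) (kg xg29 yg38 zg4) (kg xg24 yg17 zg2) (kg xg32 yg19 zg14) (kg xg29 yg42 zg14) (kg xg29 yg53 zg19) (kg xg30 yg32 zg38) (kg xg27 yg4 zg59) (kg xg24 yg57 zg57) (kg xg29 yg50 zg17) (kg xg24 yg19 zg16) (kg xg29 yg54 zg57) (kg xg20 yg37 zg45) (kg xg31 yg55 zg16) (kg xg27 yg0 zg59) (kg xg21 yg59 zg35) (kg xg21 yg55 zg35) (kg xg31 yg28 zg46) (kg xg20 yg37 zg59) (kg xg27 yg46 zg34) (kg xg20 yg38 zg11) (kg xg27 yg50 zg25) (kg xg23 yg50 zg59) (kg xg28 yg29 zg59) (kg xg25 yg31 zg2) (kg xg24 yg26 zg22) (kg xg26 yg38 zg59) (kg xg20 yg38 zg32) (kg xg20 yg38 zg23) (kg xg31 yg7 zg26)) (@D3.rec (fun _ => Pt) (kg xg21 yg47 zg7) (kg xg26 yg37 zg51) (kg xg32 yg38 zg25) (kg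 xg29 yg45 zg0) (kg xg30 yg17 zg22) (kg xg20 yg39 zg48) (kg xg20 yg38 zg36) (kg xg27 yg0 zg27) (kg xg32 yg13 zg31) (kg xg32 yg13 zg32) (kg xg32 yg37 zg50) (kg xg20 yg38 zg46) (kg xg28 yg55 zg45) (kg xg20 yg38 zg51) (kg xg24 yg31 zg54) (kg xg28 yg19 zg46) (kg xg29 yg33 zg48) (kg xg29 yg31 zg23) (kg xg28 yg40 zg30) (kg xg20 yg56 zg54) (kg xg32 yg12 zg17) (kg xg32 yg45 zg31) (kg xg24 yg29 zg43) (kg xg20 yg38 zg58) (kg xg22 yg1 zg6) (kg xg32 yg17 zg9) (kg xg20 yg38 zg59) (kg xg32 yg33 zg32) (kg xg32 yg17 zg8) (kg xg20 yg55 zg8) (kg xg28 yg54 zg58) (kg xg27 yg16 zg21) (kg xg21 yg1 zg26) (kg xg20 yg39 zg0) (kg xg22 yg19 zg36) (kg xg32 yg12 zg50) (kg xg30 yg16 zg18) (kg xg28 yg54 zg25) (kg xg27 yg8 zg12) (kg xg31 yg34 zg58) (kg xg26 yg35 zg15) (kg xg20 yg39 zg9) (kg xg22 yg19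 zg27) (kg xg31 yg14 zg1) (kg xg28 yg54 zg52) (kg xg32 yg20 zg56) (kg xg30 yg29 zg12) (kg xg32 yg45 zg40) (kg xg29 yg33 zg17) (kg xg32 yg12 zg15) (kg xg32 yg45 zg44) (kg xg32 yg38 zg2) (kg xg20 yg39 zg19) (kg xg22 yg1 zg5) (kg xg32 yg13 zg59) (kg xg31 yg34 zg61) (kg xg20 yg39 zg22) (kg xg26 yg36 zg14) (kg xg32 yg20 zg59) (kg xg32 yg11 zg4) (kg xg32 yg20 zg58) (kg xg31 yg33 zg19)) (@D3.rec (fun _ => Pt) (kg xg31 yg21 zg46) (kg xg28 yg54 zg45) (kg xg20 yg39 zg36) (kg xg29 yg47 zg34) (kg xg32 yg45 zg6) (kg xg29 yg47 zg33) (kg xg20 yg39 zg32) (kg xg32 yg17 zg2) (kg xg32 yg14 zg12) (kg xg20 yg39 zg33) (kg xg32 yg14 zg10) (kg xg28 yg40 zg11) (kg xg26 yg36 zg5) (kg xg32 yg10 zg50) (kg xg20 yg39 zg35) (kg xg22 yg1 zg26) (kg xg29 yg46 zg36) (kg xg32 yg37 zg53) (kg xg32 yg44 zg30)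 (kg xg32 yg45 zg10) (kg xg20 yg39 zg37) (kg xg32 yg40 zg23) (kg xg32 yg45 zg9) (kg xg20 yg39 zg38) (kg xg25 yg32 zg31) (kg xg27 yg7 zg33) (kg xg28 yg39 zg25) (kg xg28 yg39 zg24) (kg xg31 yg19 zg36) (kg xg29 yg39 zg58) (kg xg32 yg37 zg37) (kg xg20 yg57 zg51) (kg xg20 yg39 zg43) (kg xg31 yg21 zg51) (kg xg26 yg37 zg52) (kg xg22 yg4 zg18) (kg xg31 yg36 zg44) (kg xg20 yg43 zg29) (kg xg22 yg13 zg39) (kg xg20 yg43 zg16) (kg xg31 yg43 zg19) (kg xg20 yg39 zg54) (kg xg21 yg38 zg31) (kg xg29 yg38 zg27) (kg xg28 yg14 zg7) (kg xg25 yg26 zg37) (kg xg28 yg54 zg5) (kg xg31 yg38 zg40) (kg xg30 yg15 zg1) (kg xg29 yg44 zg27) (kg xg26 yg38 zg36) (kg xg26 yg42 zg14) (kg xg20 yg40 zg13) (kg xg20 yg50 zg40) (kg xg20 yg50 zg39) (kg xg27 yg12 zg49) (kg xg21 yg50 zg16) (kg xg21 yg9 zg48) (kg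 xg20 yg40 zg36) (kg xg29 yg56 zg25) (kg xg21 yg3 zg37) (kg xg21 yg3 zg35)) (@D3.rec (fun _ => Pt) (kg xg25 yg34 zg58) (kg xg23 yg48 zg4) (kg xg26 yg46 zg14) (kg xg31 yg23 zg56) (kg xg22 yg42 zg33) (kg xg29 yg38 zg37) (kg xg28 yg37 zg22) (kg xg25 yg18 zg35) (kg xg30 yg11 zg1) (kg xg28 yg44 zg41) (kg xg20 yg41 zg10) (kg xg20 yg41 zg16) (kg xg30 yg22 zg52) (kg xg27 yg22 zg16) (kg xg23 yg13 zg20) (kg xg20 yg42 zg55) (kg xg20 yg41 zg20) (kg xg22 yg13 zg7) (kg xg28 yg43 zg28) (kg xg20 yg41 zg22) (kg xg22 yg14 zg30) (kg xg30 yg22 zg43) (kg xg22 yg21 zg27) (kg xg32 yg27 zg7) (kg xg20 yg41 zg27) (kg xg30 yg37 zg53) (kg xg24 yg37 zg1) (kg xg25 yg34 zg49) (kg xg20 yg41 zg30) (kg xg20 yg41 zg31) (kg xg22 yg21 zg6) (kg xg27 yg38 zg18) (kg xg26 yg54 zg2) (kg xg20 yg42 zg2) (kg xg20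 yg41 zg42) (kg xg29 yg14 zg11) (kg xg25 yg21 zg13) (kg xg32 yg43 zg43) (kg xg30 yg45 zg3) (kg xg29 yg55 zg0) (kg xg31 yg22 zg44) (kg xg30 yg20 zg48) (kg xg23 yg52 zg46) (kg xg20 yg41 zg49) (kg xg30 yg22 zg34) (kg xg20 yg41 zg52) (kg xg22 yg6 zg56) (kg xg28 yg33 zg7) (kg xg30 yg38 zg34) (kg xg26 yg53 zg54) (kg xg30 yg31 zg30) (kg xg26 yg53 zg30) (kg xg32 yg17 zg32) (kg xg31 yg13 zg37) (kg xg26 yg51 zg55) (kg xg31 yg51 zg4) (kg xg32 yg17 zg42) (kg xg31 yg47 zg41) (kg xg25 yg35 zg1) (kg xg20 yg42 zg3) (kg xg29 yg13 zg29) (kg xg31 yg47 zg47)) (@D3.rec (fun _ => Pt) (kg xg31 yg55 zg58) (kg xg20 yg42 zg4) (kg xg28 yg31 zg10) (kg xg26 yg54 zg10) (kg xg26 yg54 zg51) (kg xg25 yg23 zg28) (kg xg29 yg0 zg57) (kg xg32 yg44 zg45) (kg xg32 yg17 zg22) (kg xg32 yg46 zg1) (kg xg32 yg25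 zg23) (kg xg20 yg42 zg11) (kg xg32 yg46 zg9) (kg xg29 yg37 zg33) (kg xg32 yg46 zg2) (kg xg25 yg35 zg4) (kg xg31 yg21 zg28) (kg xg32 yg46 zg14) (kg xg31 yg52 zg31) (kg xg26 yg54 zg39) (kg xg21 yg22 zg3) (kg xg22 yg8 zg25) (kg xg24 yg17 zg49) (kg xg31 yg24 zg45) (kg xg25 yg33 zg9) (kg xg28 yg59 zg20) (kg xg25 yg35 zg28) (kg xg20 yg42 zg38) (kg xg23 yg48 zg52) (kg xg22 yg39 zg39) (kg xg23 yg48 zg49) (kg xg30 yg38 zg28) (kg xg31 yg26 zg6) (kg xg32 yg16 zg41) (kg xg20 yg42 zg51) (kg xg20 yg42 zg48) (kg xg30 yg9 zg10) (kg xg30 yg22 zg40) (kg xg22 yg14 zg11) (kg xg30 yg23 zg0) (kg xg30 yg22 zg32) (kg xg29 yg38 zg36) (kg xg26 yg49 zg29) (kg xg30 yg30 zg48) (kg xg32 yg42 zg44) (kg xg28 yg52 zg4) (kg xg30 yg23 zg33) (kg xg26 yg24 zg17) (kg xg20 yg42 zg59) (kg xg24 yg38 zg37)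 (kg xg22 yg14 zg18) (kg xg22 yg14 zg16) (kg xg22 yg26 zg52) (kg xg23 yg48 zg3) (kg xg30 yg31 zg18) (kg xg31 yg29 zg61) (kg xg30 yg54 zg22) (kg xg32 yg17 zg31) (kg xg20 yg43 zg5) (kg xg32 yg46 zg21) (kg xg28 yg36 zg6) (kg xg20 yg47 zg21)) (@D3.rec (fun _ => Pt) (kg xg32 yg9 zg0) (kg xg32 yg46 zg22) (kg xg20 yg43 zg11) (kg xg28 yg33 zg10) (kg xg21 yg13 zg49) (kg xg30 yg22 zg41) (kg xg31 yg16 zg16) (kg xg30 yg29 zg15) (kg xg32 yg35 zg54) (kg xg29 yg48 zg49) (kg xg20 yg43 zg22) (kg xg24 yg14 zg22) (kg xg20 yg43 zg24) (kg xg22 yg53 zg24) (kg xg28 yg35 zg61) (kg xg27 yg12 zg39) (kg xg22 yg48 zg40) (kg xg31 yg49 zg49) (kg xg25 yg30 zg3) (kg xg32 yg1 zg60) (kg xg31 yg59 zg34) (kg xg27 yg14 zg16) (kg xg29 yg16 zg45) (kg xg29 yg37 zg9) (kg xg20 yg43 zg42) (kg xg30 yg55 zg42)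 (kg xg24 yg37 zg3) (kg xg32 yg0 zg33) (kg xg20 yg43 zg46) (kg xg23 yg0 zg34) (kg xg30 yg9 zg43) (kg xg24 yg37 zg2) (kg xg25 yg8 zg8) (kg xg31 yg41 zg49) (kg xg27 yg3 zg1) (kg xg25 yg56 zg43) (kg xg28 yg22 zg28) (kg xg21 yg38 zg54) (kg xg29 yg42 zg18) (kg xg22 yg48 zg50) (kg xg20 yg43 zg61) (kg xg25 yg54 zg48) (kg xg22 yg7 zg4) (kg xg26 yg23 zg51) (kg xg20 yg44 zg0) (kg xg24 yg17 zg52) (kg xg22 yg54 zg59) (kg xg20 yg44 zg3) (kg xg29 yg49 zg29) (kg xg21 yg58 zg8) (kg xg32 yg0 zg61) (kg xg26 yg28 zg1) (kg xg22 yg19 zg33) (kg xg27 yg13 zg53) (kg xg20 yg44 zg10) (kg xg31 yg33 zg17) (kg xg26 yg50 zg45) (kg xg31 yg14 zg3) (kg xg30 yg15 zg22) (kg xg31 yg14 zg2) (kg xg26 yg35 zg31) (kg xg22 yg1 zg41)) (@D3.rec (fun _ => Pt) (kg xg20 yg44 zg17) (kg xg27 yg16 zg27) (kg xg20 yg58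 zg31) (kg xg22 yg25 zg42) (kg xg22 yg26 zg7) (kg xg22 yg19 zg38) (kg xg29 yg40 zg12) (kg xg22 yg26 zg37) (kg xg29 yg39 zg57) (kg xg29 yg39 zg50) (kg xg24 yg25 zg31) (kg xg22 yg25 zg61) (kg xg29 yg39 zg49) (kg xg32 yg39 zg50) (kg xg32 yg46 zg32) (kg xg22 yg0 zg56) (kg xg20 yg44 zg54) (kg xg21 yg8 zg7) (kg xg29 yg49 zg20) (kg xg20 yg47 zg10) (kg xg25 yg51 zg25) (kg xg29 yg9 zg12) (kg xg22 yg53 zg40) (kg xg27 yg10 zg6) (kg xg20 yg45 zg26) (kg xg20 yg45 zg24) (kg xg26 yg28 zg12) (kg xg24 yg6 zg13) (kg xg21 yg44 zg3) (kg xg29 yg34 zg43) (kg xg30 yg46 zg22) (kg xg22 yg17 zg16) (kg xg20 yg45 zg36) (kg xg20 yg45 zg30) (kg xg31 yg43 zg12) (kg xg26 yg49 zg33) (kg xg20 yg45 zg34) (kg xg29 yg27 zg2) (kg xg27 yg43 zg15) (kg xg29 yg22 zg50) (kg xg23 yg50 zg53) (kg xg20 yg47 zg28)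 (kg xg28 yg2 zg2) (kg xg23 yg22 zg22) (kg xg27 yg31 zg19) (kg xg27 yg28 zg60) (kg xg26 yg20 zg61) (kg xg26 yg14 zg13) (kg xg23 yg24 zg1) (kg xg20 yg45 zg48) (kg xg24 yg24 zg0) (kg xg24 yg56 zg53) (kg xg22 yg22 zg30) (kg xg24 yg18 zg41) (kg xg20 yg46 zg0) (kg xg26 yg26 zg25) (kg xg23 yg46 zg3) (kg xg20 yg58 zg14) (kg xg22 yg23 zg52) (kg xg29 yg13 zg27) (kg xg32 yg13 zg50) (kg xg21 yg23 zg59)) (@D3.rec (fun _ => Pt) (kg xg20 yg46 zg19) (kg xg24 yg39 zg49) (kg xg21 yg23 zg23) (kg xg30 yg27 zg18) (kg xg20 yg46 zg22) (kg xg29 yg46 zg31) (kg xg20 yg46 zg38) (kg xg24 yg22 zg38) (kg xg26 yg50 zg42) (kg xg32 yg32 zg53) (kg xg26 yg51 zg6) (kg xg20 yg46 zg44) (kg xg28 yg16 zg23) (kg xg23 yg1 zg43) (kg xg30 yg23 zg10) (kg xg28 yg21 zg10) (kg xg27 yg31 zg49) (kg xg20 yg46 zg51)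 (kg xg30 yg23 zg24) (kg xg29 yg19 zg8) (kg xg24 yg5 zg47) (kg xg22 yg5 zg15) (kg xg30 yg15 zg8) (kg xg24 yg11 zg0) (kg xg29 yg0 zg49) (kg xg20 yg47 zg5) (kg xg26 yg50 zg46) (kg xg21 yg47 zg31) (kg xg20 yg47 zg17) (kg xg20 yg47 zg15) (kg xg23 yg13 zg21) (kg xg31 yg52 zg26) (kg xg22 yg13 zg24) (kg xg30 yg50 zg50) (kg xg22 yg17 zg41) (kg xg27 yg13 zg46) (kg xg28 yg3 zg61) (kg xg32 yg27 zg26) (kg xg23 yg0 zg45) (kg xg26 yg22 zg45) (kg xg30 yg38 zg60) (kg xg30 yg2 zg37) (kg xg27 yg13 zg50) (kg xg32 yg46 zg37) (kg xg30 yg29 zg44) (kg xg20 yg47 zg38) (kg xg29 yg32 zg33) (kg xg22 yg59 zg55) (kg xg29 yg19 zg1) (kg xg20 yg47 zg50) (kg xg20 yg47 zg43) (kg xg29 yg40 zg15) (kg xg20 yg47 zg48) (kg xg21 yg52 zg52) (kg xg22 yg26 zg41) (kg xg20 yg47 zg55) (kg xg28 yg39 zg15) (kg xg22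 yg24 zg22) (kg xg20 yg58 zg30) (kg xg28 yg48 zg59) (kg xg32 yg45 zg17) (kg xg22 yg13 zg59)) (@D3.rec (fun _ => Pt) (kg xg20 yg48 zg5) (kg xg20 yg50 zg18) (kg xg28 yg34 zg14) (kg xg24 yg13 zg56) (kg xg22 yg26 zg17) (kg xg20 yg48 zg11) (kg xg20 yg48 zg12) (kg xg22 yg40 zg53) (kg xg28 yg24 zg8) (kg xg31 yg29 zg49) (kg xg28 yg44 zg59) (kg xg32 yg46 zg40) (kg xg20 yg48 zg20) (kg xg29 yg27 zg50) (kg xg29 yg39 zg51) (kg xg20 yg48 zg22) (kg xg32 yg21 zg23) (kg xg32 yg46 zg43) (kg xg20 yg48 zg24) (kg xg24 yg9 zg18) (kg xg30 yg28 zg45) (kg xg20 yg48 zg26) (kg xg26 yg57 zg2) (kg xg20 yg48 zg27) (kg xg24 yg9 zg54) (kg xg20 yg48 zg29) (kg xg20 yg48 zg32) (kg xg28 yg30 zg12) (kg xg32 yg46 zg46) (kg xg20 yg48 zg30) (kg xg28 yg55 zg48) (kg xg32 yg46 zg47) (kg xg22 yg24 zg51) (kg xg20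 yg48 zg31) (kg xg28 yg30 zg5) (kg xg27 yg36 zg2) (kg xg25 yg17 zg55) (kg xg27 yg35 zg39) (kg xg32 yg44 zg32) (kg xg30 yg30 zg57) (kg xg30 yg31 zg8) (kg xg29 yg40 zg35) (kg xg30 yg30 zg13) (kg xg21 yg59 zg41) (kg xg24 yg9 zg52) (kg xg23 yg49 zg14) (kg xg27 yg3 zg19) (kg xg30 yg25 zg33) (kg xg24 yg13 zg51) (kg xg20 yg48 zg51) (kg xg20 yg48 zg52) (kg xg28 yg54 zg43) (kg xg20 yg48 zg56) (kg xg23 yg45 zg44) (kg xg29 yg53 zg38) (kg xg27 yg13 zg4) (kg xg28 yg35 zg9) (kg xg24 yg4 zg51) (kg xg29 yg39 zg43) (kg xg29 yg37 zg51) (kg xg25 yg52 zg56) (kg xg32 yg24 zg24)) (@D3.rec (fun _ => Pt) (kg xg20 yg49 zg11) (kg xg22 yg28 zg48) (kg xg23 yg7 zg10) (kg xg20 yg49 zg16) (kg xg24 yg24 zg57) (kg xg30 yg30 zg32) (kg xg24 yg6 zg12) (kg xg23 yg56 zg31) (kg xg23 yg5 zg44) (kg xg23 yg7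 zg42) (kg xg28 yg56 zg50) (kg xg20 yg49 zg30) (kg xg24 yg15 zg60) (kg xg29 yg37 zg41) (kg xg23 yg5 zg22) (kg xg31 yg24 zg31) (kg xg26 yg25 zg25) (kg xg29 yg23 zg46) (kg xg32 yg41 zg24) (kg xg22 yg52 zg17) (kg xg20 yg49 zg42) (kg xg24 yg6 zg5) (kg xg31 yg47 zg51) (kg xg20 yg49 zg43) (kg xg32 yg46 zg57) (kg xg24 yg23 zg59) (kg xg23 yg9 zg45) (kg xg20 yg49 zg44) (kg xg24 yg40 zg18) (kg xg23 yg11 zg22) (kg xg31 yg8 zg12) (kg xg31 yg8 zg13) (kg xg20 yg49 zg51) (kg xg25 yg43 zg53) (kg xg20 yg49 zg58) (kg xg25 yg21 zg11) (kg xg31 yg39 zg37) (kg xg28 yg45 zg11) (kg xg29 yg27 zg28) (kg xg31 yg17 zg11) (kg xg29 yg28 zg7) (kg xg31 yg48 zg10) (kg xg30 yg54 zg27) (kg xg20 yg50 zg2) (kg xg28 yg22 zg36) (kg xg31 yg46 zg21) (kg xg24 yg49 zg0) (kg xg27 yg14 zg32) (kg xg26 yg46 zg48)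 (kg xg27 yg14 zg33) (kg xg26 yg44 zg24) (kg xg26 yg44 zg22) (kg xg20 yg50 zg6) (kg xg31 yg36 zg6) (kg xg29 yg16 zg56) (kg xg29 yg17 zg1) (kg xg29 yg53 zg10) (kg xg29 yg17 zg0) (kg xg27 yg42 zg43) (kg xg30 yg54 zg59) (kg xg20 yg50 zg19) (kg xg29 yg28 zg36)) (@D3.rec (fun _ => Pt) (kg xg25 yg57 zg2) (kg xg20 yg50 zg20) (kg xg20 yg50 zg27) (kg xg32 yg34 zg43) (kg xg29 yg30 zg38) (kg xg32 yg2 zg7) (kg xg32 yg15 zg36) (kg xg23 yg4 zg53) (kg xg27 yg15 zg11) (kg xg23 yg4 zg36) (kg xg30 yg42 zg58) (kg xg30 yg50 zg27) (kg xg30 yg50 zg49) (kg xg30 yg43 zg56) (kg xg29 yg31 zg18) (kg xg27 yg10 zg0) (kg xg23 yg5 zg6) (kg xg30 yg48 zg1) (kg xg20 yg50 zg36) (kg xg24 yg8 zg52) (kg xg30 yg21 zg13) (kg xg29 yg8 zg8) (kg xg26 yg58 zg57) (kg xg27 yg56 zg40) (kg xg26 yg58 zg55) (kg xg29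 yg32 zg46) (kg xg21 yg22 zg5) (kg xg29 yg48 zg59) (kg xg21 yg43 zg40) (kg xg29 yg32 zg41) (kg xg26 yg38 zg61) (kg xg28 yg39 zg28) (kg xg22 yg56 zg40) (kg xg29 yg25 zg37) (kg xg29 yg55 zg49) (kg xg25 yg48 zg23) (kg xg29 yg27 zg7) (kg xg30 yg16 zg31) (kg xg32 yg11 zg61) (kg xg28 yg53 zg36) (kg xg29 yg19 zg5) (kg xg26 yg49 zg55) (kg xg24 yg31 zg10) (kg xg24 yg28 zg42) (kg xg24 yg27 zg31) (kg xg28 yg48 zg1) (kg xg29 yg1 zg50) (kg xg32 yg38 zg24) (kg xg28 yg53 zg28) (kg xg26 yg43 zg47) (kg xg28 yg56 zg14) (kg xg21 yg20 zg14) (kg xg30 yg8 zg1) (kg xg28 yg55 zg56) (kg xg31 yg35 zg18) (kg xg23 yg26 zg53) (kg xg31 yg28 zg21) (kg xg29 yg45 zg41) (kg xg29 yg27 zg49) (kg xg29 yg42 zg52) (kg xg30 yg8 zg18) (kg xg23 yg5 zg21)) (@D3.rec (fun _ => Pt) (kg xg31 yg24 zg18) (kg xg23 yg5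 zg19) (kg xg30 yg46 zg14) (kg xg24 yg15 zg44) (kg xg20 yg53 zg59) (kg xg20 yg53 zg53) (kg xg32 yg34 zg37) (kg xg25 yg54 zg31) (kg xg21 yg33 zg5) (kg xg29 yg31 zg30) (kg xg29 yg34 zg32) (kg xg29 yg30 zg53) (kg xg32 yg46 zg61) (kg xg30 yg17 zg14) (kg xg27 yg46 zg54) (kg xg31 yg48 zg9) (kg xg27 yg0 zg34) (kg xg29 yg49 zg0) (kg xg26 yg41 zg7) (kg xg31 yg34 zg9) (kg xg27 yg0 zg32) (kg xg20 yg54 zg7) (kg xg29 yg32 zg36) (kg xg32 yg47 zg5) (kg xg29 yg48 zg61) (kg xg31 yg47 zg0) (kg xg29 yg59 zg6) (kg xg29 yg44 zg10) (kg xg21 yg20 zg58) (kg xg29 yg42 zg57) (kg xg24 yg49 zg50) (kg xg29 yg15 zg8) (kg xg20 yg54 zg16) (kg xg32 yg17 zg52) (kg xg23 yg49 zg26) (kg xg25 yg22 zg13) (kg xg30 yg27 zg7) (kg xg29 yg2 zg37) (kg xg29 yg8 zg58) (kg xg31 yg41 zg55) (kg xg32 yg11 zg53) (kg xg29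 yg6 zg54) (kg xg24 yg34 zg21) (kg xg31 yg48 zg26) (kg xg20 yg54 zg32) (kg xg21 yg57 zg29) (kg xg21 yg36 zg55) (kg xg25 yg18 zg20) (kg xg25 yg36 zg37) (kg xg21 yg39 zg3) (kg xg28 yg17 zg41) (kg xg29 yg57 zg31) (kg xg21 yg4 zg54) (kg xg25 yg39 zg1) (kg xg21 yg4 zg3) (kg xg28 yg42 zg44) (kg xg20 yg54 zg58) (kg xg20 yg54 zg59) (kg xg20 yg56 zg8) (kg xg20 yg55 zg2) (kg xg20 yg56 zg6) (kg xg20 yg56 zg29)) (@D3.rec (fun _ => Pt) (kg xg24 yg17 zg10) (kg xg26 yg38 zg34) (kg xg29 yg45 zg57) (kg xg29 yg45 zg56) (kg xg22 yg27 zg20) (kg xg26 yg7 zg53) (kg xg22 yg27 zg23) (kg xg26 yg2 zg13) (kg xg20 yg55 zg29) (kg xg22 yg27 zg26) (kg xg26 yg39 zg50) (kg xg24 yg37 zg6) (kg xg32 yg11 zg21) (kg xg20 yg55 zg18) (kg xg29 yg43 zg27) (kg xg20 yg57 zg38) (kg xg20 yg55 zg19) (kg xg20 yg57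 zg36) (kg xg23 yg13 zg9) (kg xg24 yg3 zg21) (kg xg20 yg55 zg22) (kg xg20 yg57 zg54) (kg xg25 yg6 zg36) (kg xg20 yg57 zg34) (kg xg20 yg56 zg60) (kg xg21 yg3 zg39) (kg xg31 yg26 zg24) (kg xg29 yg34 zg48) (kg xg30 yg51 zg36) (kg xg29 yg53 zg42) (kg xg25 yg31 zg51) (kg xg32 yg4 zg13) (kg xg31 yg24 zg43) (kg xg25 yg6 zg8) (kg xg27 yg21 zg19) (kg xg29 yg17 zg48) (kg xg32 yg4 zg12) (kg xg24 yg35 zg6) (kg xg20 yg58 zg25) (kg xg20 yg55 zg42) (kg xg32 yg47 zg17) (kg xg20 yg58 zg23) (kg xg22 yg23 zg39) (kg xg20 yg58 zg29) (kg xg25 yg22 zg18) (kg xg30 yg12 zg24) (kg xg27 yg22 zg49) (kg xg31 yg55 zg61) (kg xg28 yg59 zg26) (kg xg27 yg30 zg12) (kg xg31 yg19 zg39) (kg xg24 yg51 zg13) (kg xg20 yg56 zg3) (kg xg28 yg40 zg36) (kg xg26 yg5 zg3) (kg xg20 yg56 zg2) (kg xg20 yg56 zg4) (kg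 xg26 yg7 zg59) (kg xg26 yg58 zg48) (kg xg25 yg20 zg28) (kg xg29 yg33 zg3) (kg xg25 yg19 zg11)) (@D3.rec (fun _ => Pt) (kg xg22 yg25 zg37) (kg xg28 yg54 zg50) (kg xg28 yg44 zg38) (kg xg20 yg56 zg10) (kg xg26 yg59 zg57) (kg xg29 yg33 zg8) (kg xg29 yg26 zg16) (kg xg29 yg13 zg5) (kg xg32 yg12 zg56) (kg xg20 yg56 zg25) (kg xg32 yg47 zg23) (kg xg20 yg56 zg23) (kg xg32 yg13 zg16) (kg xg29 yg16 zg37) (kg xg32 yg46 zg30) (kg xg26 yg36 zg57) (kg xg32 yg43 zg3) (kg xg32 yg46 zg29) (kg xg20 yg56 zg24) (kg xg32 yg47 zg24) (kg xg31 yg19 zg46) (kg xg25 yg20 zg4) (kg xg32 yg14 zg34) (kg xg26 yg34 zg43) (kg xg25 yg19 zg7) (kg xg32 yg20 zg55) (kg xg20 yg56 zg28) (kg xg25 yg32 zg4) (kg xg25 yg32 zg7) (kg xg27 yg16 zg19) (kg xg30 yg29 zg17) (kg xg27 yg0 zg43) (kg xg32 yg39 zg1) (kg xg32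 yg46 zg27) (kg xg22 yg19 zg32) (kg xg26 yg34 zg49) (kg xg32 yg14 zg15) (kg xg30 yg29 zg5) (kg xg20 yg56 zg39) (kg xg30 yg17 zg20) (kg xg31 yg33 zg9) (kg xg25 yg19 zg22) (kg xg28 yg54 zg48) (kg xg20 yg56 zg42) (kg xg31 yg40 zg17) (kg xg25 yg21 zg41) (kg xg30 yg17 zg28) (kg xg30 yg17 zg29) (kg xg31 yg33 zg38) (kg xg26 yg37 zg20) (kg xg24 yg25 zg42) (kg xg32 yg17 zg4) (kg xg32 yg47 zg26) (kg xg27 yg16 zg28) (kg xg32 yg47 zg33) (kg xg31 yg46 zg59) (kg xg20 yg57 zg7) (kg xg29 yg33 zg29) (kg xg32 yg19 zg11) (kg xg32 yg24 zg3) (kg xg31 yg53 zg38) (kg xg31 yg46 zg58)) (@D3.rec (fun _ => Pt) (kg xg25 yg20 zg58) (kg xg30 yg30 zg54) (kg xg25 yg19 zg16) (kg xg32 yg11 zg40) (kg xg32 yg3 zg35) (kg xg28 yg40 zg34) (kg xg20 yg57 zg13) (kg xg32 yg39 zg56) (kg xg28 yg40 zg33) (kg xg32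 yg12 zg35) (kg xg32 yg10 zg54) (kg xg31 yg34 zg12) (kg xg32 yg5 zg25) (kg xg32 yg47 zg42) (kg xg32 yg47 zg43) (kg xg32 yg12 zg6) (kg xg26 yg36 zg24) (kg xg31 yg47 zg4) (kg xg22 yg24 zg59) (kg xg29 yg31 zg33) (kg xg25 yg8 zg18) (kg xg29 yg33 zg58) (kg xg32 yg41 zg38) (kg xg26 yg33 zg34) (kg xg20 yg57 zg33) (kg xg20 yg57 zg29) (kg xg20 yg57 zg31) (kg xg24 yg3 zg26) (kg xg27 yg16 zg32) (kg xg26 yg33 zg35) (kg xg29 yg49 zg5) (kg xg27 yg10 zg57) (kg xg29 yg34 zg15) (kg xg24 yg1 zg3) (kg xg22 yg1 zg37) (kg xg32 yg30 zg58) (kg xg20 yg57 zg37) (kg xg22 yg23 zg6) (kg xg23 yg40 zg40) (kg xg24 yg33 zg31) (kg xg23 yg42 zg37) (kg xg25 yg17 zg56) (kg xg27 yg3 zg42) (kg xg29 yg46 zg58) (kg xg20 yg57 zg50) (kg xg30 yg28 zg0) (kg xg29 yg46 zg56) (kg xg32 yg45 zg13) (kg xg32 yg20 zg61)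 (kg xg26 yg34 zg12) (kg xg32 yg41 zg7) (kg xg20 yg57 zg55) (kg xg32 yg11 zg42) (kg xg32 yg41 zg6) (kg xg32 yg47 zg53) (kg xg29 yg46 zg46) (kg xg20 yg58 zg0) (kg xg32 yg47 zg55) (kg xg29 yg46 zg44) (kg xg21 yg0 zg36) (kg xg21 yg37 zg53) (kg xg24 yg4 zg15)) (@D3.rec (fun _ => Pt) (kg xg32 yg47 zg56) (kg xg20 yg58 zg7) (kg xg30 yg56 zg47) (kg xg28 yg44 zg20) (kg xg20 yg58 zg10) (kg xg32 yg38 zg57) (kg xg32 yg47 zg40) (kg xg23 yg55 zg53) (kg xg32 yg41 zg55) (kg xg23 yg49 zg42) (kg xg24 yg0 zg51) (kg xg32 yg14 zg29) (kg xg24 yg17 zg8) (kg xg29 yg26 zg24) (kg xg29 yg26 zg26) (kg xg29 yg34 zg33) (kg xg29 yg26 zg41) (kg xg20 yg58 zg24) (kg xg28 yg39 zg46) (kg xg28 yg39 zg49) (kg xg32 yg14 zg9) (kg xg29 yg10 zg55) (kg xg20 yg58 zg27) (kg xg32 yg40 zg12) (kg xg32 yg4 zg0) (kg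 xg28 yg54 zg24) (kg xg29 yg34 zg29) (kg xg32 yg23 zg2) (kg xg29 yg44 zg46) (kg xg28 yg51 zg38) (kg xg31 yg17 zg52) (kg xg20 yg58 zg41) (kg xg20 yg58 zg39) (kg xg29 yg34 zg6) (kg xg31 yg40 zg52) (kg xg29 yg47 zg15) (kg xg28 yg54 zg14) (kg xg20 yg58 zg53) (kg xg32 yg24 zg1) (kg xg29 yg46 zg4) (kg xg24 yg21 zg1) (kg xg20 yg59 zg8) (kg xg25 yg25 zg43) (kg xg25 yg20 zg18) (kg xg25 yg25 zg49) (kg xg20 yg59 zg6) (kg xg25 yg22 zg2) (kg xg25 yg10 zg41) (kg xg27 yg21 zg34) (kg xg24 yg7 zg47) (kg xg31 yg56 zg23) (kg xg32 yg2 zg49) (kg xg20 yg59 zg11) (kg xg31 yg49 zg48) (kg xg26 yg17 zg49) (kg xg25 yg39 zg38) (kg xg28 yg58 zg12) (kg xg31 yg27 zg50) (kg xg28 yg16 zg4) (kg xg32 yg41 zg12) (kg xg31 yg27 zg55) (kg xg20 yg59 zg25)) (@D3.rec (fun _ => Pt) (kg xg28 yg15 zg15) (kg xg22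 yg39 zg4) (kg xg21 yg0 zg1) (kg xg29 yg7 zg46) (kg xg26 yg50 zg15) (kg xg28 yg47 zg53) (kg xg20 yg59 zg57) (kg xg25 yg22 zg57) (kg xg32 yg2 zg46) (kg xg29 yg8 zg14) (kg xg28 yg47 zg42) (kg xg30 yg5 zg4) (kg xg26 yg43 zg6) (kg xg26 yg43 zg8) (kg xg29 yg8 zg35) (kg xg28 yg53 zg1) (kg xg24 yg29 zg47) (kg xg32 yg14 zg59) (kg xg22 yg27 zg51) (kg xg31 yg50 zg11) (kg xg28 yg52 zg10) (kg xg20 yg59 zg61) (kg xg28 yg14 zg47) (kg xg32 yg0 zg59) (kg xg22 yg6 zg37) (kg xg26 yg42 zg51) (kg xg26 yg42 zg55) (kg xg32 yg37 zg11) (kg xg23 yg47 zg15) (kg xg22 yg13 zg50) (kg xg29 yg15 zg38) (kg xg28 yg56 zg12) (kg xg25 yg35 zg25) (kg xg25 yg58 zg48) (kg xg32 yg24 zg58) (kg xg21 yg0 zg18) (kg xg21 yg0 zg22) (kg xg30 yg17 zg1) (kg xg25 yg26 zg12) (kg xg22 yg3 zg21) (kg xg29 yg41 zg54) (kg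 xg25 yg25 zg61) (kg xg28 yg55 zg20) (kg xg28 yg37 zg31) (kg xg28 yg48 zg51) (kg xg25 yg51 zg36) (kg xg30 yg12 zg10) (kg xg25 yg17 zg14) (kg xg25 yg33 zg15) (kg xg31 yg35 zg5) (kg xg29 yg25 zg61) (kg xg23 yg30 zg50) (kg xg26 yg7 zg4) (kg xg30 yg2 zg2) (kg xg32 yg3 zg43) (kg xg23 yg59 zg36) (kg xg30 yg17 zg59) (kg xg30 yg42 zg43) (kg xg29 yg42 zg27) (kg xg30 yg17 zg42) (kg xg23 yg44 zg23) (kg xg26 yg38 zg55)) (@D3.rec (fun _ => Pt) (kg xg21 yg1 zg22) (kg xg26 yg35 zg57) (kg xg32 yg13 zg1) (kg xg27 yg0 zg37) (kg xg22 yg25 zg40) (kg xg29 yg46 zg27) (kg xg22 yg4 zg24) (kg xg21 yg1 zg28) (kg xg22 yg4 zg23) (kg xg28 yg15 zg2) (kg xg21 yg1 zg57) (kg xg26 yg11 zg4) (kg xg29 yg16 zg52) (kg xg25 yg6 zg33) (kg xg32 yg48 zg9) (kg xg27 yg13 zg10) (kg xg32 yg27 zg53) (kg xg29 yg28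 zg41) (kg xg25 yg29 zg51) (kg xg31 yg13 zg18) (kg xg29 yg16 zg19) (kg xg21 yg1 zg58) (kg xg31 yg27 zg14) (kg xg29 yg16 zg31) (kg xg29 yg14 zg51) (kg xg31 yg38 zg59) (kg xg28 yg42 zg19) (kg xg29 yg15 zg39) (kg xg31 yg31 zg26) (kg xg29 yg15 zg61) (kg xg28 yg41 zg60) (kg xg29 yg22 zg39) (kg xg30 yg20 zg11) (kg xg29 yg6 zg31) (kg xg21 yg2 zg18) (kg xg32 yg24 zg29) (kg xg30 yg20 zg12) (kg xg29 yg12 zg7) (kg xg29 yg12 zg6) (kg xg23 yg41 zg11) (kg xg31 yg11 zg32) (kg xg21 yg2 zg22) (kg xg31 yg8 zg33) (kg xg25 yg39 zg12) (kg xg26 yg47 zg41) (kg xg24 yg33 zg3) (kg xg30 yg40 zg26) (kg xg23 yg40 zg34) (kg xg23 yg29 zg61) (kg xg28 yg12 zg0) (kg xg30 yg40 zg46) (kg xg29 yg11 zg51) (kg xg29 yg4 zg32) (kg xg23 yg22 zg54) (kg xg31 yg8 zg27) (kg xg30 yg52 zg46) (kg xg25 yg52 zg0) (kg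 xg32 yg14 zg52) (kg xg29 yg14 zg6) (kg xg29 yg29 zg58) (kg xg28 yg12 zg33) (kg xg21 yg2 zg48)) (@D3.rec (fun _ => Pt) (kg xg27 yg3 zg30) (kg xg24 yg7 zg20) (kg xg21 yg2 zg58) (kg xg27 yg16 zg4) (kg xg32 yg11 zg17) (kg xg26 yg34 zg47) (kg xg26 yg55 zg1) (kg xg28 yg55 zg54) (kg xg26 yg54 zg50) (kg xg25 yg25 zg50) (kg xg28 yg50 zg42) (kg xg23 yg48 zg42) (kg xg27 yg12 zg41) (kg xg32 yg16 zg39) (kg xg24 yg16 zg1) (kg xg32 yg23 zg29) (kg xg23 yg19 zg8) (kg xg29 yg2 zg34) (kg xg27 yg7 zg58) (kg xg23 yg49 zg25) (kg xg28 yg30 zg56) (kg xg21 yg4 zg6) (kg xg26 yg17 zg57) (kg xg21 yg4 zg16) (kg xg31 yg44 zg48) (kg xg23 yg16 zg56) (kg xg25 yg28 zg27) (kg xg27 yg33 zg4) (kg xg25 yg58 zg55) (kg xg30 yg1 zg17) (kg xg21 yg4 zg44) (kg xg21 yg42 zg6) (kg xg21 yg6 zg53) (kg xg22 yg10 zg39)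 (kg xg27 yg23 zg2) (kg xg30 yg3 zg55) (kg xg30 yg4 zg42) (kg xg22 yg1 zg52) (kg xg21 yg39 zg46) (kg xg21 yg39 zg44) (kg xg21 yg4 zg59) (kg xg30 yg19 zg48) (kg xg31 yg1 zg57) (kg xg21 yg39 zg26) (kg xg25 yg27 zg44) (kg xg21 yg27 zg19) (kg xg27 yg26 zg11) (kg xg25 yg36 zg28) (kg xg25 yg33 zg28) (kg xg25 yg7 zg29) (kg xg31 yg43 zg37) (kg xg29 yg57 zg30) (kg xg29 yg57 zg29) (kg xg32 yg47 zg10) (kg xg21 yg39 zg42) (kg xg29 yg4 zg39) (kg xg24 yg30 zg45) (kg xg21 yg5 zg25) (kg xg27 yg25 zg26) (kg xg27 yg45 zg44) (kg xg28 yg57 zg4) (kg xg31 yg16 zg34)) (@D3.rec (fun _ => Pt) (kg xg22 yg10 zg61) (kg xg22 yg10 zg58) (kg xg25 yg11 zg41) (kg xg31 yg25 zg58) (kg xg31 yg25 zg48) (kg xg25 yg7 zg31) (kg xg32 yg21 zg4) (kg xg25 yg34 zg45) (kg xg25 yg34 zg46) (kg xg32 yg48 zg20) (kg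 xg32 yg48 zg22) (kg xg30 yg4 zg27) (kg xg30 yg4 zg40) (kg xg23 yg27 zg60) (kg xg21 yg6 zg1) (kg xg30 yg4 zg37) (kg xg21 yg6 zg2) (kg xg30 yg4 zg36) (kg xg28 yg42 zg54) (kg xg31 yg45 zg21) (kg xg21 yg6 zg22) (kg xg29 yg56 zg3) (kg xg22 yg10 zg15) (kg xg26 yg15 zg25) (kg xg29 yg56 zg5) (kg xg25 yg54 zg15) (kg xg23 yg17 zg18) (kg xg23 yg52 zg36) (kg xg23 yg46 zg19) (kg xg25 yg46 zg21) (kg xg26 yg12 zg47) (kg xg31 yg1 zg27) (kg xg32 yg19 zg53) (kg xg29 yg52 zg9) (kg xg21 yg6 zg36) (kg xg26 yg0 zg31) (kg xg22 yg30 zg8) (kg xg23 yg33 zg48) (kg xg22 yg31 zg26) (kg xg24 yg30 zg57) (kg xg28 yg12 zg27) (kg xg32 yg32 zg47) (kg xg22 yg58 zg28) (kg xg23 yg33 zg47) (kg xg31 yg54 zg61) (kg xg29 yg28 zg53) (kg xg28 yg1 zg39) (kg xg27 yg3 zg52) (kg xg29 yg27 zg46) (kg xg29 yg21 zg47)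 (kg xg21 yg23 zg52) (kg xg28 yg25 zg6) (kg xg26 yg5 zg49) (kg xg22 yg11 zg27) (kg xg26 yg14 zg31) (kg xg29 yg32 zg52) (kg xg28 yg1 zg1) (kg xg30 yg5 zg1) (kg xg27 yg59 zg18) (kg xg22 yg28 zg54) (kg xg22 yg46 zg23) (kg xg21 yg7 zg60)) (@D3.rec (fun _ => Pt) (kg xg27 yg29 zg42) (kg xg22 yg9 zg56) (kg xg31 yg11 zg30) (kg xg25 yg41 zg16) (kg xg31 yg37 zg55) (kg xg26 yg9 zg15) (kg xg32 yg48 zg26) (kg xg30 yg8 zg23) (kg xg28 yg41 zg17) (kg xg31 yg1 zg54) (kg xg30 yg20 zg0) (kg xg24 yg43 zg5) (kg xg23 yg33 zg0) (kg xg26 yg9 zg16) (kg xg21 yg56 zg44) (kg xg30 yg42 zg40) (kg xg30 yg17 zg45) (kg xg21 yg56 zg37) (kg xg21 yg8 zg58) (kg xg27 yg18 zg30) (kg xg29 yg8 zg20) (kg xg21 yg15 zg49) (kg xg28 yg15 zg27) (kg xg29 yg21 zg45) (kg xg28 yg2 zg37) (kg xg28 yg18 zg8) (kg xg29 yg47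 zg42) (kg xg28 yg20 zg4) (kg xg27 yg15 zg37) (kg xg27 yg19 zg47) (kg xg27 yg19 zg21) (kg xg30 yg11 zg4) (kg xg26 yg1 zg52) (kg xg24 yg2 zg21) (kg xg21 yg28 zg24) (kg xg21 yg10 zg20) (kg xg25 yg44 zg10) (kg xg21 yg59 zg20) (kg xg23 yg2 zg31) (kg xg29 yg48 zg56) (kg xg28 yg34 zg44) (kg xg23 yg0 zg40) (kg xg26 yg56 zg28) (kg xg27 yg2 zg49) (kg xg32 yg44 zg23) (kg xg21 yg11 zg31) (kg xg21 yg10 zg27) (kg xg26 yg31 zg2) (kg xg21 yg10 zg28) (kg xg26 yg30 zg53) (kg xg24 yg46 zg56) (kg xg27 yg53 zg11) (kg xg26 yg31 zg4) (kg xg21 yg30 zg8) (kg xg23 yg8 zg45) (kg xg22 yg53 zg35) (kg xg23 yg7 zg46) (kg xg21 yg10 zg40) (kg xg26 yg31 zg24) (kg xg26 yg31 zg16) (kg xg21 yg10 zg41) (kg xg26 yg31 zg14)) (@D3.rec (fun _ => Pt) (kg xg29 yg50 zg24) (kg xg23 yg4 zg56) (kg xg21 yg10 zg45)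 (kg xg26 yg31 zg29) (kg xg21 yg10 zg46) (kg xg29 yg24 zg57) (kg xg26 yg20 zg14) (kg xg21 yg10 zg53) (kg xg24 yg12 zg49) (kg xg28 yg31 zg56) (kg xg30 yg54 zg58) (kg xg31 yg16 zg23) (kg xg23 yg8 zg52) (kg xg29 yg54 zg0) (kg xg26 yg19 zg22) (kg xg21 yg12 zg13) (kg xg29 yg32 zg37) (kg xg22 yg7 zg2) (kg xg21 yg11 zg0) (kg xg31 yg0 zg11) (kg xg26 yg32 zg1) (kg xg21 yg11 zg1) (kg xg32 yg26 zg29) (kg xg24 yg56 zg37) (kg xg22 yg17 zg36) (kg xg28 yg0 zg41) (kg xg32 yg28 zg7) (kg xg21 yg11 zg9) (kg xg31 yg34 zg47) (kg xg30 yg53 zg52) (kg xg21 yg11 zg25) (kg xg28 yg18 zg25) (kg xg31 yg28 zg27) (kg xg29 yg59 zg25) (kg xg26 yg57 zg16) (kg xg28 yg39 zg5) (kg xg30 yg50 zg20) (kg xg32 yg41 zg1) (kg xg30 yg51 zg29) (kg xg32 yg8 zg56) (kg xg21 yg11 zg32) (kg xg32 yg18 zg38) (kg xg30 yg30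 zg6) (kg xg24 yg45 zg54) (kg xg30 yg17 zg8) (kg xg29 yg25 zg17) (kg xg21 yg11 zg48) (kg xg29 yg0 zg33) (kg xg25 yg36 zg5) (kg xg32 yg0 zg3) (kg xg31 yg25 zg29) (kg xg22 yg54 zg3) (kg xg21 yg11 zg57) (kg xg26 yg24 zg30) (kg xg25 yg35 zg42) (kg xg28 yg12 zg52) (kg xg27 yg41 zg52) (kg xg21 yg12 zg35) (kg xg21 yg12 zg8) (kg xg24 yg13 zg22) (kg xg24 yg57 zg52) (kg xg21 yg12 zg10)) (@D3.rec (fun _ => Pt) (kg xg29 yg53 zg15) (kg xg26 yg1 zg13) (kg xg23 yg5 zg34) (kg xg23 yg22 zg49) (kg xg28 yg12 zg28) (kg xg31 yg32 zg61) (kg xg24 yg47 zg5) (kg xg22 yg49 zg41) (kg xg32 yg7 zg50) (kg xg29 yg25 zg16) (kg xg31 yg42 zg7) (kg xg28 yg5 zg28) (kg xg26 yg21 zg44) (kg xg26 yg21 zg45) (kg xg21 yg12 zg43) (kg xg32 yg25 zg15) (kg xg29 yg54 zg17) (kg xg21 yg12 zg46) (kg xg32 yg24 zg56)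 (kg xg24 yg59 zg38) (kg xg21 yg12 zg48) (kg xg21 yg12 zg49) (kg xg32 yg9 zg27) (kg xg29 yg24 zg61) (kg xg22 yg29 zg31) (kg xg21 yg12 zg53) (kg xg27 yg40 zg15) (kg xg22 yg41 zg15) (kg xg26 yg28 zg4) (kg xg26 yg48 zg49) (kg xg24 yg53 zg53) (kg xg28 yg12 zg45) (kg xg27 yg52 zg3) (kg xg29 yg20 zg58) (kg xg31 yg0 zg55) (kg xg21 yg13 zg30) (kg xg32 yg33 zg44) (kg xg22 yg38 zg1) (kg xg21 yg15 zg41) (kg xg23 yg20 zg18) (kg xg27 yg59 zg41) (kg xg24 yg8 zg14) (kg xg28 yg46 zg41) (kg xg32 yg48 zg41) (kg xg21 yg13 zg50) (kg xg21 yg13 zg40) (kg xg24 yg9 zg6) (kg xg21 yg13 zg48) (kg xg22 yg59 zg17) (kg xg21 yg13 zg46) (kg xg21 yg13 zg45) (kg xg28 yg46 zg37) (kg xg32 yg48 zg43) (kg xg30 yg23 zg3) (kg xg23 yg52 zg54) (kg xg28 yg56 zg7) (kg xg23 yg52 zg52) (kg xg30 yg7 zg10) (kg xg23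 yg7 zg22) (kg xg24 yg9 zg9) (kg xg21 yg14 zg1) (kg xg32 yg34 zg47)) (@D3.rec (fun _ => Pt) (kg xg30 yg28 zg27) (kg xg22 yg35 zg29) (kg xg29 yg49 zg55) (kg xg27 yg39 zg10) (kg xg29 yg19 zg36) (kg xg32 yg48 zg42) (kg xg29 yg35 zg39) (kg xg28 yg18 zg46) (kg xg29 yg8 zg40) (kg xg30 yg38 zg3) (kg xg26 yg53 zg4) (kg xg22 yg35 zg31) (kg xg29 yg10 zg24) (kg xg21 yg14 zg22) (kg xg28 yg13 zg27) (kg xg21 yg14 zg25) (kg xg24 yg22 zg1) (kg xg31 yg8 zg35) (kg xg23 yg37 zg21) (kg xg29 yg57 zg53) (kg xg30 yg40 zg9) (kg xg23 yg29 zg36) (kg xg31 yg8 zg58) (kg xg23 yg26 zg7) (kg xg21 yg14 zg36) (kg xg23 yg26 zg5) (kg xg23 yg8 zg31) (kg xg25 yg18 zg21) (kg xg30 yg42 zg17) (kg xg21 yg30 zg51) (kg xg28 yg18 zg49) (kg xg30 yg57 zg1) (kg xg24 yg13 zg8) (kg xg24 yg55 zg35) (kg xg30 yg45 zg33)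 (kg xg26 yg29 zg2) (kg xg29 yg19 zg21) (kg xg30 yg35 zg11) (kg xg30 yg46 zg47) (kg xg21 yg15 zg35) (kg xg29 yg24 zg10) (kg xg23 yg18 zg8) (kg xg24 yg24 zg34) (kg xg27 yg39 zg24) (kg xg21 yg15 zg51) (kg xg26 yg56 zg59) (kg xg28 yg39 zg6) (kg xg27 yg39 zg21) (kg xg30 yg28 zg33) (kg xg21 yg15 zg57) (kg xg31 yg30 zg38) (kg xg32 yg16 zg53) (kg xg31 yg22 zg11) (kg xg26 yg51 zg37) (kg xg24 yg30 zg13) (kg xg23 yg22 zg7) (kg xg23 yg42 zg33) (kg xg27 yg11 zg11) (kg xg29 yg21 zg44) (kg xg21 yg16 zg20) (kg xg21 yg32 zg10) (kg xg27 yg1 zg49)) (@D3.rec (fun _ => Pt) (kg xg31 yg3 zg56) (kg xg24 yg15 zg39) (kg xg27 yg18 zg4) (kg xg29 yg51 zg24) (kg xg30 yg1 zg34) (kg xg29 yg51 zg21) (kg xg21 yg27 zg4) (kg xg25 yg53 zg6) (kg xg29 yg44 zg29) (kg xg26 yg33 zg58) (kg xg28 yg15 zg57) (kg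 xg31 yg14 zg10) (kg xg27 yg19 zg5) (kg xg27 yg19 zg10) (kg xg21 yg17 zg9) (kg xg32 yg22 zg18) (kg xg32 yg11 zg11) (kg xg21 yg16 zg57) (kg xg31 yg38 zg14) (kg xg25 yg51 zg11) (kg xg21 yg16 zg59) (kg xg27 yg11 zg36) (kg xg21 yg50 zg40) (kg xg31 yg27 zg11) (kg xg29 yg34 zg59) (kg xg25 yg56 zg33) (kg xg31 yg48 zg48) (kg xg32 yg11 zg5) (kg xg32 yg23 zg57) (kg xg21 yg17 zg10) (kg xg27 yg43 zg59) (kg xg30 yg1 zg39) (kg xg30 yg1 zg50) (kg xg23 yg39 zg10) (kg xg27 yg26 zg36) (kg xg21 yg17 zg14) (kg xg32 yg36 zg58) (kg xg27 yg23 zg29) (kg xg27 yg17 zg19) (kg xg27 yg1 zg46) (kg xg25 yg58 zg56) (kg xg21 yg17 zg39) (kg xg27 yg18 zg9) (kg xg27 yg18 zg6) (kg xg21 yg17 zg25) (kg xg32 yg2 zg58) (kg xg27 yg18 zg35) (kg xg27 yg18 zg17) (kg xg27 yg18 zg15) (kg xg29 yg58 zg12) (kg xg31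 yg54 zg49) (kg xg32 yg2 zg29) (kg xg32 yg0 zg10) (kg xg32 yg24 zg30) (kg xg31 yg10 zg15) (kg xg25 yg30 zg13) (kg xg21 yg56 zg46) (kg xg21 yg17 zg37) (kg xg31 yg10 zg24) (kg xg32 yg48 zg53) (kg xg21 yg17 zg38) (kg xg32 yg42 zg31)) (@D3.rec (fun _ => Pt) (kg xg27 yg18 zg5) (kg xg24 yg40 zg4) (kg xg27 yg13 zg2) (kg xg25 yg30 zg36) (kg xg23 yg41 zg5) (kg xg29 yg4 zg54) (kg xg25 yg57 zg52) (kg xg21 yg49 zg58) (kg xg31 yg56 zg24) (kg xg25 yg51 zg12) (kg xg29 yg37 zg48) (kg xg27 yg23 zg26) (kg xg22 yg10 zg28) (kg xg21 yg17 zg58) (kg xg27 yg23 zg28) (kg xg30 yg4 zg30) (kg xg21 yg18 zg2) (kg xg21 yg17 zg59) (kg xg23 yg27 zg9) (kg xg31 yg49 zg6) (kg xg25 yg30 zg47) (kg xg21 yg27 zg15) (kg xg32 yg48 zg56) (kg xg24 yg43 zg31) (kg xg31 yg41 zg43) (kg xg30 yg12 zg43) (kg xg21 yg40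 zg37) (kg xg21 yg32 zg36) (kg xg29 yg50 zg52) (kg xg21 yg18 zg11) (kg xg24 yg49 zg12) (kg xg30 yg6 zg9) (kg xg23 yg21 zg10) (kg xg30 yg0 zg46) (kg xg21 yg28 zg10) (kg xg22 yg10 zg27) (kg xg31 yg58 zg26) (kg xg24 yg32 zg36) (kg xg21 yg19 zg16) (kg xg21 yg18 zg17) (kg xg32 yg48 zg61) (kg xg21 yg18 zg18) (kg xg32 yg3 zg18) (kg xg29 yg58 zg8) (kg xg30 yg3 zg1) (kg xg21 yg18 zg25) (kg xg30 yg4 zg34) (kg xg21 yg18 zg26) (kg xg30 yg4 zg33) (kg xg27 yg30 zg51) (kg xg30 yg0 zg40) (kg xg30 yg5 zg24) (kg xg21 yg24 zg21) (kg xg28 yg11 zg57) (kg xg29 yg58 zg28) (kg xg21 yg19 zg31) (kg xg21 yg18 zg33) (kg xg21 yg19 zg30) (kg xg27 yg3 zg53) (kg xg23 yg50 zg4) (kg xg25 yg13 zg27) (kg xg28 yg31 zg13)) (@D3.rec (fun _ => Pt) (kg xg21 yg27 zg27) (kg xg26 yg1 zg20) (kg xg21 yg34 zg18)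 (kg xg29 yg57 zg39) (kg xg21 yg19 zg5) (kg xg32 yg49 zg2) (kg xg24 yg35 zg57) (kg xg21 yg19 zg7) (kg xg21 yg34 zg23) (kg xg27 yg58 zg8) (kg xg21 yg19 zg12) (kg xg29 yg57 zg41) (kg xg29 yg58 zg2) (kg xg32 yg48 zg55) (kg xg30 yg2 zg61) (kg xg21 yg19 zg17) (kg xg30 yg4 zg35) (kg xg21 yg19 zg19) (kg xg32 yg23 zg42) (kg xg27 yg4 zg34) (kg xg25 yg41 zg44) (kg xg31 yg57 zg31) (kg xg31 yg3 zg42) (kg xg30 yg41 zg51) (kg xg21 yg22 zg22) (kg xg30 yg10 zg53) (kg xg21 yg19 zg26) (kg xg24 yg23 zg22) (kg xg23 yg26 zg9) (kg xg21 yg34 zg41) (kg xg21 yg19 zg28) (kg xg21 yg34 zg40) (kg xg30 yg10 zg37) (kg xg32 yg32 zg20) (kg xg31 yg4 zg10) (kg xg21 yg39 zg5) (kg xg21 yg21 zg2) (kg xg21 yg19 zg50) (kg xg21 yg19 zg46) (kg xg30 yg51 zg49) (kg xg25 yg33 zg58) (kg xg21 yg49 zg49) (kg xg30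 yg52 zg8) (kg xg21 yg24 zg38) (kg xg29 yg10 zg30) (kg xg27 yg30 zg23) (kg xg25 yg48 zg34) (kg xg23 yg43 zg54) (kg xg23 yg43 zg55) (kg xg21 yg20 zg1) (kg xg31 yg11 zg10) (kg xg23 yg44 zg16) (kg xg24 yg41 zg26) (kg xg29 yg2 zg36) (kg xg24 yg19 zg19) (kg xg28 yg48 zg12) (kg xg29 yg17 zg4) (kg xg25 yg15 zg29) (kg xg26 yg59 zg23) (kg xg30 yg4 zg61) (kg xg21 yg20 zg57) (kg xg30 yg15 zg58)) (@D3.rec (fun _ => Pt) (kg xg25 yg43 zg27) (kg xg24 yg30 zg42) (kg xg29 yg4 zg47) (kg xg21 yg21 zg8) (kg xg31 yg45 zg42) (kg xg28 yg25 zg7) (kg xg30 yg9 zg22) (kg xg21 yg21 zg21) (kg xg25 yg48 zg51) (kg xg25 yg8 zg20) (kg xg25 yg8 zg24) (kg xg26 yg4 zg50) (kg xg29 yg17 zg40) (kg xg32 yg1 zg21) (kg xg29 yg15 zg58) (kg xg21 yg48 zg37) (kg xg32 yg42 zg32) (kg xg21 yg48 zg38) (kg xg25 yg14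 zg5) (kg xg21 yg48 zg26) (kg xg21 yg48 zg33) (kg xg21 yg21 zg34) (kg xg29 yg15 zg37) (kg xg31 yg4 zg22) (kg xg31 yg55 zg7) (kg xg30 yg17 zg13) (kg xg21 yg59 zg21) (kg xg22 yg44 zg56) (kg xg32 yg33 zg21) (kg xg22 yg42 zg51) (kg xg32 yg48 zg49) (kg xg26 yg12 zg19) (kg xg31 yg10 zg26) (kg xg23 yg38 zg50) (kg xg30 yg4 zg54) (kg xg31 yg4 zg21) (kg xg30 yg10 zg51) (kg xg21 yg21 zg56) (kg xg30 yg10 zg50) (kg xg25 yg9 zg49) (kg xg24 yg38 zg15) (kg xg27 yg56 zg50) (kg xg21 yg22 zg15) (kg xg31 yg28 zg52) (kg xg21 yg59 zg16) (kg xg30 yg14 zg34) (kg xg29 yg23 zg1) (kg xg23 yg39 zg21) (kg xg31 yg18 zg20) (kg xg21 yg22 zg24) (kg xg21 yg46 zg1) (kg xg21 yg43 zg34) (kg xg21 yg22 zg39) (kg xg21 yg58 zg45) (kg xg29 yg17 zg25) (kg xg21 yg22 zg60) (kg xg25 yg45 zg22) (kg xg21 yg23 zg8)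 (kg xg21 yg58 zg16) (kg xg26 yg53 zg15) (kg xg31 yg34 zg18) (kg xg31 yg18 zg23))
def f_g_30 : D2 → D3 → Pt := @D2.rec (fun _ => D3 → Pt) (@D3.rec (fun _ => Pt) (kg xg32 yg6 zg18) (kg xg30 yg14 zg42) (kg xg21 yg23 zg38) (kg xg28 yg45 zg12) (kg xg24 yg49 zg2) (kg xg31 yg51 zg47) (kg xg21 yg46 zg52) (kg xg21 yg23 zg55) (kg xg27 yg43 zg8) (kg xg21 yg24 zg4) (kg xg21 yg24 zg1) (kg xg31 yg20 zg44) (kg xg31 yg45 zg27) (kg xg32 yg0 zg40) (kg xg29 yg13 zg19) (kg xg29 yg13 zg17) (kg xg30 yg19 zg24) (kg xg21 yg24 zg15) (kg xg32 yg23 zg35) (kg xg31 yg1 zg26) (kg xg30 yg0 zg39) (kg xg31 yg49 zg36) (kg xg28 yg11 zg46) (kg xg21 yg24 zg44) (kg xg21 yg24 zg43) (kg xg22 yg43 zg50) (kg xg29 yg58 zg9) (kg xg30 yg42 zg21) (kg xg32 yg49 zg19) (kg xg24 yg40 zg52) (kg xg22 yg43 zg47) (kg xg30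 yg19 zg44) (kg xg24 yg41 zg6) (kg xg21 yg24 zg33) (kg xg31 yg57 zg40) (kg xg23 yg44 zg27) (kg xg28 yg13 zg35) (kg xg22 yg43 zg48) (kg xg30 yg0 zg20) (kg xg21 yg24 zg40) (kg xg29 yg57 zg52) (kg xg29 yg11 zg5) (kg xg27 yg4 zg39) (kg xg21 yg24 zg41) (kg xg32 yg49 zg21) (kg xg27 yg4 zg37) (kg xg32 yg48 zg21) (kg xg29 yg57 zg33) (kg xg28 yg41 zg30) (kg xg21 yg33 zg19) (kg xg31 yg10 zg2) (kg xg29 yg50 zg29) (kg xg23 yg2 zg41) (kg xg23 yg43 zg58) (kg xg23 yg45 zg23) (kg xg30 yg58 zg7) (kg xg25 yg0 zg23) (kg xg23 yg45 zg4) (kg xg21 yg25 zg14) (kg xg23 yg44 zg1) (kg xg23 yg45 zg3) (kg xg21 yg25 zg15)) (@D3.rec (fun _ => Pt) (kg xg23 yg43 zg17) (kg xg27 yg29 zg2) (kg xg30 yg13 zg5) (kg xg22 yg46 zg11) (kg xg32 yg6 zg39) (kg xg31 yg0 zg1) (kg xg23 yg42 zg50) (kg xg28 yg2 zg54)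 (kg xg25 yg3 zg15) (kg xg31 yg1 zg28) (kg xg21 yg25 zg40) (kg xg30 yg20 zg29) (kg xg23 yg43 zg25) (kg xg31 yg14 zg34) (kg xg27 yg26 zg14) (kg xg30 yg12 zg49) (kg xg27 yg47 zg19) (kg xg21 yg26 zg15) (kg xg30 yg4 zg16) (kg xg23 yg20 zg59) (kg xg27 yg4 zg49) (kg xg26 yg13 zg25) (kg xg30 yg42 zg9) (kg xg21 yg31 zg40) (kg xg21 yg31 zg29) (kg xg21 yg26 zg57) (kg xg25 yg31 zg3) (kg xg32 yg48 zg27) (kg xg21 yg55 zg45) (kg xg27 yg7 zg49) (kg xg21 yg27 zg24) (kg xg27 yg23 zg39) (kg xg25 yg38 zg2) (kg xg25 yg40 zg20) (kg xg29 yg56 zg6) (kg xg31 yg9 zg56) (kg xg31 yg54 zg6) (kg xg31 yg10 zg18) (kg xg26 yg16 zg48) (kg xg29 yg57 zg35) (kg xg29 yg57 zg40) (kg xg23 yg28 zg8) (kg xg22 yg3 zg25) (kg xg28 yg41 zg29) (kg xg29 yg5 zg4) (kg xg32 yg49 zg27) (kg xg30 yg46 zg23) (kg xg21 yg27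 zg39) (kg xg29 yg50 zg41) (kg xg21 yg42 zg21) (kg xg30 yg13 zg1) (kg xg30 yg13 zg24) (kg xg30 yg13 zg22) (kg xg21 yg28 zg12) (kg xg30 yg57 zg11) (kg xg25 yg42 zg30) (kg xg21 yg27 zg55) (kg xg30 yg1 zg48) (kg xg21 yg28 zg5) (kg xg29 yg18 zg24) (kg xg23 yg30 zg37) (kg xg21 yg27 zg60)) (@D3.rec (fun _ => Pt) (kg xg25 yg37 zg5) (kg xg31 yg2 zg8) (kg xg27 yg22 zg18) (kg xg23 yg2 zg7) (kg xg23 yg20 zg14) (kg xg30 yg13 zg28) (kg xg23 yg15 zg34) (kg xg23 yg15 zg33) (kg xg23 yg20 zg16) (kg xg31 yg58 zg18) (kg xg31 yg58 zg38) (kg xg31 yg6 zg6) (kg xg32 yg19 zg50) (kg xg26 yg9 zg35) (kg xg26 yg9 zg39) (kg xg30 yg12 zg57) (kg xg23 yg37 zg18) (kg xg21 yg28 zg11) (kg xg23 yg17 zg10) (kg xg30 yg2 zg17) (kg xg30 yg12 zg46) (kg xg30 yg33 zg24) (kg xg30 yg0 zg32) (kg xg30 yg59 zg0) (kg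 xg31 yg24 zg19) (kg xg21 yg28 zg18) (kg xg26 yg7 zg44) (kg xg27 yg46 zg48) (kg xg23 yg50 zg20) (kg xg21 yg49 zg8) (kg xg23 yg21 zg15) (kg xg25 yg40 zg12) (kg xg21 yg28 zg31) (kg xg27 yg46 zg49) (kg xg21 yg28 zg46) (kg xg29 yg28 zg27) (kg xg21 yg51 zg10) (kg xg21 yg30 zg55) (kg xg21 yg40 zg46) (kg xg31 yg2 zg39) (kg xg26 yg7 zg31) (kg xg22 yg39 zg10) (kg xg23 yg38 zg24) (kg xg28 yg43 zg58) (kg xg22 yg38 zg8) (kg xg23 yg38 zg25) (kg xg29 yg26 zg52) (kg xg21 yg29 zg21) (kg xg27 yg40 zg38) (kg xg21 yg29 zg22) (kg xg21 yg29 zg41) (kg xg27 yg41 zg8) (kg xg32 yg49 zg32) (kg xg21 yg29 zg29) (kg xg27 yg28 zg45) (kg xg25 yg0 zg2) (kg xg32 yg27 zg52) (kg xg32 yg5 zg11) (kg xg21 yg29 zg37) (kg xg32 yg32 zg19) (kg xg25 yg14 zg35) (kg xg29 yg58 zg15)) (@D3.rec (fun _ => Pt) (kg xg23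 yg40 zg43) (kg xg29 yg57 zg45) (kg xg28 yg43 zg54) (kg xg26 yg25 zg2) (kg xg29 yg17 zg37) (kg xg24 yg23 zg61) (kg xg24 yg54 zg19) (kg xg32 yg49 zg34) (kg xg30 yg44 zg33) (kg xg31 yg44 zg27) (kg xg31 yg27 zg49) (kg xg24 yg53 zg51) (kg xg31 yg2 zg7) (kg xg23 yg37 zg8) (kg xg23 yg42 zg54) (kg xg23 yg43 zg13) (kg xg27 yg58 zg29) (kg xg26 yg26 zg41) (kg xg28 yg59 zg61) (kg xg29 yg20 zg21) (kg xg32 yg49 zg38) (kg xg24 yg33 zg0) (kg xg30 yg47 zg34) (kg xg22 yg41 zg19) (kg xg27 yg9 zg17) (kg xg21 yg30 zg58) (kg xg30 yg12 zg36) (kg xg22 yg2 zg14) (kg xg21 yg31 zg7) (kg xg27 yg47 zg58) (kg xg24 yg45 zg48) (kg xg24 yg44 zg43) (kg xg30 yg0 zg29) (kg xg32 yg31 zg34) (kg xg30 yg52 zg11) (kg xg21 yg31 zg33) (kg xg28 yg36 zg13) (kg xg32 yg49 zg12) (kg xg21 yg45 zg42) (kg xg27 yg59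 zg33) (kg xg28 yg7 zg1) (kg xg23 yg58 zg35) (kg xg24 yg5 zg13) (kg xg31 yg26 zg45) (kg xg24 yg17 zg31) (kg xg21 yg31 zg52) (kg xg26 yg13 zg5) (kg xg30 yg4 zg0) (kg xg28 yg55 zg0) (kg xg32 yg15 zg21) (kg xg25 yg45 zg44) (kg xg22 yg2 zg41) (kg xg30 yg16 zg34) (kg xg27 yg17 zg23) (kg xg21 yg32 zg15) (kg xg30 yg3 zg45) (kg xg23 yg24 zg53) (kg xg22 yg21 zg43) (kg xg29 yg23 zg9) (kg xg27 yg42 zg58) (kg xg31 yg28 zg45) (kg xg27 yg14 zg22)) (@D3.rec (fun _ => Pt) (kg xg26 yg16 zg35) (kg xg26 yg15 zg13) (kg xg21 yg32 zg51) (kg xg31 yg57 zg48) (kg xg24 yg42 zg10) (kg xg28 yg27 zg24) (kg xg32 yg49 zg43) (kg xg22 yg3 zg24) (kg xg21 yg45 zg40) (kg xg32 yg24 zg22) (kg xg23 yg36 zg4) (kg xg23 yg35 zg7) (kg xg24 yg45 zg10) (kg xg26 yg15 zg28) (kg xg24 yg36 zg6) (kg xg29 yg57 zg49)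 (kg xg30 yg1 zg13) (kg xg27 yg17 zg17) (kg xg24 yg44 zg61) (kg xg28 yg4 zg0) (kg xg25 yg3 zg30) (kg xg23 yg42 zg48) (kg xg23 yg43 zg8) (kg xg21 yg58 zg5) (kg xg27 yg10 zg23) (kg xg31 yg42 zg44) (kg xg29 yg17 zg2) (kg xg31 yg1 zg29) (kg xg25 yg42 zg55) (kg xg29 yg57 zg38) (kg xg29 yg57 zg22) (kg xg32 yg3 zg17) (kg xg29 yg57 zg48) (kg xg21 yg34 zg19) (kg xg29 yg57 zg47) (kg xg21 yg34 zg24) (kg xg21 yg34 zg26) (kg xg29 yg51 zg16) (kg xg31 yg20 zg16) (kg xg29 yg51 zg12) (kg xg21 yg34 zg29) (kg xg21 yg34 zg30) (kg xg21 yg34 zg31) (kg xg32 yg49 zg48) (kg xg31 yg10 zg28) (kg xg31 yg58 zg43) (kg xg32 yg19 zg51) (kg xg30 yg42 zg5) (kg xg22 yg43 zg31) (kg xg21 yg34 zg38) (kg xg31 yg57 zg28) (kg xg31 yg38 zg0) (kg xg31 yg5 zg20) (kg xg27 yg58 zg0) (kg xg30 yg40 zg49) (kg xg23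 yg27 zg41) (kg xg31 yg36 zg26) (kg xg24 yg40 zg16) (kg xg21 yg46 zg30) (kg xg21 yg34 zg59) (kg xg29 yg53 zg33) (kg xg21 yg35 zg17)) (@D3.rec (fun _ => Pt) (kg xg27 yg50 zg6) (kg xg29 yg51 zg56) (kg xg32 yg30 zg23) (kg xg27 yg53 zg44) (kg xg31 yg13 zg57) (kg xg27 yg8 zg60) (kg xg27 yg6 zg55) (kg xg21 yg35 zg27) (kg xg27 yg6 zg54) (kg xg27 yg20 zg25) (kg xg29 yg22 zg57) (kg xg21 yg35 zg40) (kg xg21 yg47 zg36) (kg xg28 yg1 zg15) (kg xg21 yg36 zg6) (kg xg21 yg58 zg46) (kg xg29 yg59 zg54) (kg xg21 yg43 zg26) (kg xg21 yg54 zg59) (kg xg23 yg59 zg0) (kg xg24 yg32 zg6) (kg xg28 yg31 zg40) (kg xg27 yg21 zg38) (kg xg29 yg56 zg18) (kg xg31 yg7 zg24) (kg xg21 yg37 zg14) (kg xg30 yg25 zg3) (kg xg26 yg13 zg4) (kg xg23 yg33 zg52) (kg xg27 yg48 zg21) (kg xg27 yg42 zg18) (kg xg22 yg32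 zg27) (kg xg31 yg32 zg36) (kg xg24 yg38 zg13) (kg xg21 yg38 zg3) (kg xg29 yg14 zg53) (kg xg22 yg38 zg16) (kg xg21 yg38 zg29) (kg xg31 yg13 zg53) (kg xg27 yg15 zg21) (kg xg27 yg15 zg19) (kg xg23 yg47 zg8) (kg xg31 yg28 zg9) (kg xg32 yg49 zg61) (kg xg21 yg38 zg34) (kg xg28 yg52 zg1) (kg xg32 yg31 zg12) (kg xg32 yg20 zg40) (kg xg21 yg38 zg36) (kg xg27 yg16 zg58) (kg xg32 yg21 zg28) (kg xg32 yg21 zg27) (kg xg32 yg20 zg54) (kg xg28 yg16 zg47) (kg xg30 yg45 zg0) (kg xg27 yg8 zg56) (kg xg27 yg6 zg57) (kg xg31 yg13 zg52) (kg xg32 yg47 zg61) (kg xg30 yg19 zg19) (kg xg21 yg38 zg45) (kg xg27 yg10 zg43)) (@D3.rec (fun _ => Pt) (kg xg21 yg49 zg57) (kg xg30 yg26 zg43) (kg xg25 yg25 zg12) (kg xg21 yg38 zg60) (kg xg21 yg46 zg43) (kg xg21 yg39 zg0) (kg xg32 yg32 zg44) (kg xg31 yg11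 zg20) (kg xg25 yg28 zg8) (kg xg32 yg47 zg11) (kg xg30 yg10 zg17) (kg xg27 yg20 zg44) (kg xg21 yg39 zg4) (kg xg31 yg3 zg53) (kg xg30 yg10 zg11) (kg xg32 yg48 zg23) (kg xg29 yg41 zg1) (kg xg30 yg33 zg59) (kg xg21 yg39 zg13) (kg xg24 yg35 zg53) (kg xg24 yg4 zg2) (kg xg31 yg37 zg22) (kg xg21 yg39 zg16) (kg xg31 yg27 zg33) (kg xg30 yg9 zg53) (kg xg27 yg11 zg25) (kg xg31 yg59 zg37) (kg xg30 yg56 zg59) (kg xg32 yg48 zg39) (kg xg31 yg25 zg52) (kg xg29 yg59 zg0) (kg xg21 yg58 zg29) (kg xg25 yg54 zg32) (kg xg31 yg35 zg40) (kg xg31 yg49 zg33) (kg xg21 yg39 zg36) (kg xg21 yg39 zg37) (kg xg32 yg49 zg6) (kg xg28 yg41 zg14) (kg xg27 yg19 zg45) (kg xg25 yg13 zg9) (kg xg30 yg24 zg28) (kg xg22 yg52 zg27) (kg xg22 yg9 zg51) (kg xg23 yg46 zg47) (kg xg25 yg31 zg35) (kg xg31 yg56 zg8) (kg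 xg29 yg4 zg44) (kg xg31 yg45 zg40) (kg xg31 yg37 zg4) (kg xg27 yg13 zg18) (kg xg31 yg45 zg41) (kg xg24 yg10 zg32) (kg xg25 yg31 zg37) (kg xg32 yg50 zg12) (kg xg27 yg59 zg47) (kg xg27 yg14 zg52) (kg xg30 yg53 zg18) (kg xg28 yg0 zg16) (kg xg23 yg58 zg22) (kg xg25 yg59 zg18) (kg xg30 yg54 zg13)) (@D3.rec (fun _ => Pt) (kg xg21 yg40 zg22) (kg xg30 yg21 zg52) (kg xg32 yg24 zg7) (kg xg24 yg0 zg32) (kg xg27 yg5 zg55) (kg xg31 yg13 zg16) (kg xg23 yg49 zg13) (kg xg26 yg53 zg34) (kg xg27 yg38 zg4) (kg xg27 yg36 zg52) (kg xg30 yg52 zg52) (kg xg25 yg34 zg56) (kg xg28 yg31 zg15) (kg xg31 yg1 zg45) (kg xg21 yg40 zg53) (kg xg23 yg29 zg51) (kg xg32 yg1 zg27) (kg xg24 yg31 zg32) (kg xg31 yg12 zg24) (kg xg30 yg2 zg21) (kg xg30 yg58 zg50) (kg xg30 yg33 zg42) (kg xg24 yg31 zg33) (kg xg21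 yg40 zg61) (kg xg23 yg45 zg12) (kg xg30 yg2 zg16) (kg xg26 yg8 zg56) (kg xg23 yg29 zg55) (kg xg31 yg13 zg42) (kg xg30 yg23 zg40) (kg xg27 yg53 zg49) (kg xg23 yg6 zg58) (kg xg23 yg40 zg35) (kg xg23 yg17 zg40) (kg xg22 yg33 zg30) (kg xg23 yg54 zg3) (kg xg30 yg12 zg51) (kg xg21 yg42 zg30) (kg xg26 yg10 zg60) (kg xg26 yg15 zg48) (kg xg26 yg59 zg14) (kg xg21 yg42 zg59) (kg xg21 yg43 zg1) (kg xg21 yg46 zg51) (kg xg22 yg10 zg17) (kg xg21 yg47 zg3) (kg xg21 yg43 zg6) (kg xg32 yg47 zg18) (kg xg21 yg43 zg12) (kg xg31 yg51 zg6) (kg xg31 yg20 zg29) (kg xg29 yg16 zg18) (kg xg21 yg43 zg20) (kg xg31 yg36 zg15) (kg xg21 yg48 zg4) (kg xg21 yg43 zg23) (kg xg30 yg10 zg14) (kg xg30 yg55 zg55) (kg xg31 yg24 zg46) (kg xg31 yg3 zg17) (kg xg29 yg58 zg25) (kg xg31 yg54 zg36)) (@D3.rec (fun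 _ => Pt) (kg xg21 yg49 zg30) (kg xg21 yg43 zg43) (kg xg31 yg32 zg30) (kg xg30 yg54 zg24) (kg xg31 yg26 zg57) (kg xg21 yg50 zg23) (kg xg32 yg0 zg37) (kg xg32 yg0 zg41) (kg xg31 yg16 zg53) (kg xg32 yg42 zg10) (kg xg26 yg40 zg35) (kg xg29 yg24 zg28) (kg xg23 yg49 zg38) (kg xg21 yg51 zg22) (kg xg24 yg1 zg55) (kg xg24 yg21 zg24) (kg xg24 yg8 zg37) (kg xg27 yg43 zg19) (kg xg29 yg36 zg20) (kg xg27 yg43 zg30) (kg xg21 yg45 zg9) (kg xg25 yg37 zg49) (kg xg31 yg23 zg59) (kg xg29 yg52 zg6) (kg xg24 yg23 zg8) (kg xg21 yg45 zg22) (kg xg26 yg14 zg33) (kg xg24 yg25 zg30) (kg xg31 yg3 zg6) (kg xg23 yg56 zg9) (kg xg21 yg45 zg34) (kg xg23 yg55 zg36) (kg xg28 yg42 zg17) (kg xg21 yg45 zg49) (kg xg27 yg48 zg37) (kg xg31 yg59 zg58) (kg xg21 yg50 zg6) (kg xg27 yg11 zg48) (kg xg21 yg59 zg8)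 (kg xg30 yg14 zg26) (kg xg22 yg2 zg39) (kg xg21 yg46 zg39) (kg xg21 yg46 zg12) (kg xg30 yg10 zg13) (kg xg21 yg59 zg2) (kg xg27 yg23 zg31) (kg xg25 yg29 zg17) (kg xg30 yg16 zg40) (kg xg30 yg55 zg60) (kg xg25 yg40 zg48) (kg xg31 yg38 zg23) (kg xg30 yg8 zg53) (kg xg21 yg46 zg53) (kg xg30 yg8 zg52) (kg xg27 yg4 zg32) (kg xg26 yg18 zg7) (kg xg23 yg34 zg51) (kg xg29 yg0 zg11) (kg xg30 yg11 zg11) (kg xg27 yg4 zg30) (kg xg24 yg41 zg24) (kg xg25 yg13 zg13)) (@D3.rec (fun _ => Pt) (kg xg21 yg47 zg4) (kg xg21 yg51 zg24) (kg xg23 yg13 zg3) (kg xg24 yg3 zg44) (kg xg27 yg22 zg30) (kg xg28 yg42 zg57) (kg xg21 yg54 zg14) (kg xg26 yg43 zg19) (kg xg29 yg23 zg11) (kg xg28 yg56 zg9) (kg xg29 yg36 zg38) (kg xg28 yg52 zg58) (kg xg29 yg38 zg61) (kg xg29 yg17 zg52) (kg xg24 yg37 zg36) (kg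 xg28 yg57 zg19) (kg xg29 yg12 zg43) (kg xg25 yg51 zg15) (kg xg28 yg59 zg5) (kg xg29 yg7 zg10) (kg xg31 yg20 zg55) (kg xg27 yg24 zg12) (kg xg28 yg9 zg55) (kg xg24 yg11 zg26) (kg xg28 yg58 zg17) (kg xg29 yg0 zg0) (kg xg32 yg12 zg8) (kg xg31 yg47 zg1) (kg xg32 yg4 zg2) (kg xg28 yg54 zg31) (kg xg21 yg50 zg30) (kg xg21 yg50 zg32) (kg xg27 yg1 zg55) (kg xg32 yg50 zg8) (kg xg25 yg58 zg10) (kg xg27 yg36 zg7) (kg xg27 yg19 zg49) (kg xg29 yg56 zg27) (kg xg28 yg54 zg33) (kg xg21 yg48 zg25) (kg xg27 yg19 zg46) (kg xg29 yg5 zg17) (kg xg31 yg56 zg32) (kg xg29 yg35 zg30) (kg xg23 yg1 zg35) (kg xg21 yg48 zg32) (kg xg30 yg11 zg19) (kg xg31 yg35 zg42) (kg xg23 yg11 zg21) (kg xg30 yg11 zg17) (kg xg25 yg10 zg52) (kg xg21 yg48 zg36) (kg xg25 yg13 zg10) (kg xg30 yg6 zg25) (kg xg32 yg48 zg8)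 (kg xg32 yg41 zg59) (kg xg24 yg4 zg43) (kg xg21 yg48 zg40) (kg xg21 yg48 zg41) (kg xg29 yg56 zg30) (kg xg24 yg40 zg8) (kg xg31 yg3 zg27)) (@D3.rec (fun _ => Pt) (kg xg21 yg48 zg42) (kg xg29 yg5 zg32) (kg xg27 yg18 zg42) (kg xg32 yg2 zg32) (kg xg29 yg3 zg52) (kg xg21 yg48 zg45) (kg xg29 yg5 zg23) (kg xg27 yg4 zg15) (kg xg28 yg9 zg49) (kg xg31 yg3 zg55) (kg xg30 yg6 zg14) (kg xg21 yg48 zg56) (kg xg32 yg50 zg6) (kg xg24 yg41 zg44) (kg xg30 yg10 zg23) (kg xg30 yg7 zg56) (kg xg30 yg6 zg10) (kg xg21 yg48 zg60) (kg xg25 yg37 zg59) (kg xg32 yg21 zg2) (kg xg31 yg18 zg26) (kg xg21 yg49 zg1) (kg xg24 yg35 zg60) (kg xg30 yg10 zg15) (kg xg31 yg37 zg39) (kg xg21 yg49 zg4) (kg xg31 yg11 zg25) (kg xg30 yg41 zg10) (kg xg24 yg20 zg55) (kg xg29 yg59 zg33) (kg xg31 yg9 zg60) (kg xg32 yg42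 zg59) (kg xg21 yg49 zg15) (kg xg32 yg16 zg20) (kg xg30 yg16 zg60) (kg xg25 yg40 zg17) (kg xg23 yg21 zg47) (kg xg31 yg9 zg0) (kg xg28 yg42 zg50) (kg xg32 yg49 zg49) (kg xg30 yg52 zg18) (kg xg31 yg57 zg6) (kg xg31 yg57 zg10) (kg xg21 yg49 zg21) (kg xg25 yg30 zg22) (kg xg31 yg6 zg12) (kg xg30 yg33 zg35) (kg xg30 yg33 zg26) (kg xg31 yg8 zg48) (kg xg29 yg59 zg38) (kg xg21 yg49 zg24) (kg xg29 yg59 zg37) (kg xg30 yg37 zg11) (kg xg23 yg27 zg33) (kg xg29 yg3 zg51) (kg xg31 yg55 zg4) (kg xg21 yg49 zg28) (kg xg28 yg40 zg60) (kg xg31 yg10 zg14) (kg xg23 yg26 zg35) (kg xg21 yg49 zg32) (kg xg21 yg49 zg33)) (@D3.rec (fun _ => Pt) (kg xg22 yg36 zg0) (kg xg22 yg15 zg56) (kg xg21 yg49 zg51) (kg xg30 yg4 zg38) (kg xg29 yg52 zg32) (kg xg27 yg19 zg55) (kg xg27 yg4 zg0) (kg xg21 yg50 zg8)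 (kg xg25 yg45 zg27) (kg xg25 yg13 zg38) (kg xg30 yg14 zg27) (kg xg30 yg8 zg57) (kg xg31 yg49 zg2) (kg xg27 yg20 zg3) (kg xg30 yg18 zg4) (kg xg24 yg3 zg18) (kg xg21 yg50 zg24) (kg xg21 yg50 zg33) (kg xg30 yg9 zg46) (kg xg21 yg50 zg29) (kg xg32 yg42 zg12) (kg xg32 yg32 zg45) (kg xg30 yg9 zg40) (kg xg32 yg41 zg18) (kg xg23 yg38 zg55) (kg xg31 yg27 zg2) (kg xg21 yg50 zg38) (kg xg32 yg45 zg21) (kg xg21 yg50 zg58) (kg xg27 yg20 zg40) (kg xg21 yg50 zg61) (kg xg31 yg53 zg41) (kg xg21 yg51 zg42) (kg xg31 yg43 zg29) (kg xg29 yg1 zg16) (kg xg24 yg25 zg21) (kg xg30 yg1 zg11) (kg xg31 yg18 zg2) (kg xg27 yg11 zg41) (kg xg24 yg25 zg25) (kg xg29 yg37 zg58) (kg xg29 yg40 zg47) (kg xg21 yg52 zg36) (kg xg21 yg52 zg32) (kg xg31 yg23 zg61) (kg xg21 yg52 zg42) (kg xg24 yg25 zg3) (kg xg24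 yg13 zg52) (kg xg22 yg46 zg47) (kg xg28 yg29 zg57) (kg xg32 yg50 zg38) (kg xg23 yg34 zg19) (kg xg21 yg52 zg41) (kg xg24 yg21 zg38) (kg xg22 yg35 zg38) (kg xg24 yg21 zg43) (kg xg32 yg34 zg15) (kg xg22 yg19 zg41) (kg xg32 yg50 zg40) (kg xg21 yg53 zg4) (kg xg28 yg14 zg59) (kg xg24 yg24 zg32)) (@D3.rec (fun _ => Pt) (kg xg24 yg1 zg17) (kg xg30 yg34 zg10) (kg xg29 yg32 zg25) (kg xg29 yg42 zg58) (kg xg22 yg46 zg49) (kg xg23 yg6 zg34) (kg xg24 yg0 zg11) (kg xg31 yg28 zg44) (kg xg28 yg53 zg45) (kg xg31 yg18 zg58) (kg xg31 yg28 zg23) (kg xg32 yg33 zg54) (kg xg21 yg53 zg26) (kg xg30 yg17 zg6) (kg xg26 yg57 zg38) (kg xg30 yg59 zg59) (kg xg23 yg20 zg53) (kg xg28 yg32 zg19) (kg xg30 yg7 zg26) (kg xg26 yg52 zg35) (kg xg28 yg41 zg27) (kg xg32 yg36 zg33) (kg xg29 yg42 zg23) (kg xg30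 yg18 zg49) (kg xg31 yg52 zg54) (kg xg31 yg50 zg36) (kg xg31 yg30 zg2) (kg xg30 yg22 zg49) (kg xg30 yg12 zg41) (kg xg27 yg39 zg20) (kg xg24 yg8 zg44) (kg xg26 yg22 zg32) (kg xg30 yg51 zg45) (kg xg29 yg22 zg41) (kg xg22 yg3 zg10) (kg xg27 yg43 zg20) (kg xg29 yg27 zg56) (kg xg27 yg19 zg51) (kg xg24 yg41 zg54) (kg xg29 yg55 zg18) (kg xg31 yg28 zg43) (kg xg28 yg37 zg38) (kg xg24 yg20 zg39) (kg xg22 yg6 zg13) (kg xg30 yg1 zg43) (kg xg29 yg57 zg25) (kg xg30 yg1 zg54) (kg xg29 yg51 zg32) (kg xg24 yg40 zg45) (kg xg28 yg12 zg5) (kg xg30 yg7 zg36) (kg xg21 yg55 zg25) (kg xg28 yg53 zg54) (kg xg21 yg55 zg28) (kg xg23 yg55 zg16) (kg xg30 yg0 zg19) (kg xg24 yg42 zg44) (kg xg30 yg2 zg12) (kg xg29 yg30 zg25) (kg xg21 yg55 zg40) (kg xg30 yg51 zg47) (kg xg30 yg4 zg57)) (@D3.rec (fun _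 => Pt) (kg xg29 yg51 zg33) (kg xg26 yg1 zg4) (kg xg30 yg59 zg27) (kg xg32 yg25 zg1) (kg xg30 yg1 zg2) (kg xg21 yg55 zg50) (kg xg31 yg6 zg51) (kg xg30 yg50 zg7) (kg xg32 yg23 zg41) (kg xg27 yg57 zg61) (kg xg21 yg55 zg60) (kg xg21 yg55 zg56) (kg xg32 yg41 zg23) (kg xg23 yg24 zg61) (kg xg30 yg2 zg30) (kg xg32 yg48 zg28) (kg xg30 yg2 zg3) (kg xg31 yg0 zg59) (kg xg21 yg56 zg4) (kg xg29 yg10 zg51) (kg xg25 yg42 zg29) (kg xg27 yg39 zg6) (kg xg21 yg56 zg9) (kg xg30 yg17 zg50) (kg xg29 yg57 zg32) (kg xg23 yg32 zg27) (kg xg23 yg32 zg18) (kg xg23 yg32 zg28) (kg xg23 yg29 zg37) (kg xg21 yg56 zg25) (kg xg22 yg10 zg37) (kg xg32 yg16 zg9) (kg xg23 yg33 zg44) (kg xg24 yg44 zg2) (kg xg29 yg6 zg24) (kg xg31 yg0 zg58) (kg xg21 yg56 zg40) (kg xg30 yg40 zg16) (kg xg31 yg6 zg34) (kg xg30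 yg17 zg40) (kg xg25 yg46 zg34) (kg xg21 yg56 zg45) (kg xg31 yg0 zg37) (kg xg22 yg29 zg45) (kg xg25 yg40 zg15) (kg xg23 yg24 zg56) (kg xg21 yg56 zg47) (kg xg31 yg57 zg38) (kg xg29 yg10 zg43) (kg xg32 yg50 zg52) (kg xg30 yg20 zg34) (kg xg22 yg44 zg46) (kg xg32 yg50 zg18) (kg xg32 yg23 zg38) (kg xg21 yg57 zg8) (kg xg32 yg23 zg36) (kg xg30 yg33 zg12) (kg xg21 yg56 zg54) (kg xg30 yg33 zg11) (kg xg23 yg31 zg6) (kg xg32 yg43 zg19) (kg xg30 yg33 zg44)) (@D3.rec (fun _ => Pt) (kg xg28 yg28 zg33) (kg xg23 yg21 zg35) (kg xg21 yg57 zg5) (kg xg23 yg3 zg5) (kg xg32 yg5 zg13) (kg xg30 yg12 zg18) (kg xg22 yg8 zg18) (kg xg21 yg57 zg21) (kg xg26 yg26 zg49) (kg xg21 yg57 zg37) (kg xg30 yg12 zg22) (kg xg27 yg11 zg39) (kg xg25 yg50 zg39) (kg xg26 yg44 zg40) (kg xg25 yg55 zg51) (kg xg31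 yg34 zg50) (kg xg27 yg11 zg59) (kg xg26 yg16 zg56) (kg xg31 yg53 zg32) (kg xg30 yg4 zg24) (kg xg27 yg31 zg44) (kg xg24 yg45 zg24) (kg xg21 yg59 zg39) (kg xg24 yg18 zg18) (kg xg30 yg20 zg30) (kg xg27 yg16 zg29) (kg xg30 yg11 zg9) (kg xg31 yg58 zg25) (kg xg31 yg41 zg45) (kg xg31 yg1 zg33) (kg xg21 yg59 zg44) (kg xg22 yg10 zg8) (kg xg25 yg13 zg35) (kg xg27 yg26 zg37) (kg xg27 yg4 zg8) (kg xg24 yg19 zg14) (kg xg31 yg55 zg50) (kg xg32 yg5 zg26) (kg xg27 yg43 zg38) (kg xg25 yg28 zg24) (kg xg32 yg31 zg15) (kg xg29 yg13 zg16) (kg xg29 yg57 zg24) (kg xg22 yg5 zg5) (kg xg24 yg18 zg21) (kg xg29 yg30 zg40) (kg xg31 yg18 zg4) (kg xg23 yg49 zg8) (kg xg28 yg52 zg32) (kg xg24 yg25 zg49) (kg xg28 yg48 zg54) (kg xg24 yg25 zg43) (kg xg22 yg0 zg54) (kg xg30 yg16 zg30) (kg xg22 yg1 zg10)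 (kg xg27 yg0 zg36) (kg xg25 yg8 zg6) (kg xg32 yg50 zg56) (kg xg22 yg1 zg25) (kg xg27 yg16 zg26) (kg xg27 yg14 zg10) (kg xg22 yg0 zg11)) (@D3.rec (fun _ => Pt) (kg xg27 yg14 zg3) (kg xg29 yg34 zg49) (kg xg31 yg37 zg53) (kg xg24 yg15 zg61) (kg xg24 yg44 zg53) (kg xg27 yg17 zg20) (kg xg24 yg16 zg28) (kg xg27 yg55 zg57) (kg xg28 yg0 zg43) (kg xg22 yg7 zg17) (kg xg29 yg1 zg35) (kg xg32 yg20 zg3) (kg xg28 yg47 zg59) (kg xg32 yg50 zg57) (kg xg30 yg28 zg54) (kg xg32 yg22 zg13) (kg xg24 yg29 zg48) (kg xg22 yg0 zg43) (kg xg24 yg29 zg46) (kg xg30 yg27 zg48) (kg xg28 yg24 zg4) (kg xg22 yg0 zg60) (kg xg28 yg39 zg36) (kg xg32 yg37 zg55) (kg xg31 yg31 zg16) (kg xg32 yg46 zg28) (kg xg31 yg31 zg13) (kg xg27 yg14 zg39) (kg xg30 yg29 zg1) (kg xg32 yg23 zg0) (kg xg30 yg29 zg2) (kg xg22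 yg0 zg52) (kg xg31 yg24 zg42) (kg xg24 yg5 zg52) (kg xg23 yg7 zg5) (kg xg28 yg52 zg26) (kg xg32 yg11 zg50) (kg xg30 yg14 zg56) (kg xg26 yg35 zg14) (kg xg27 yg14 zg44) (kg xg32 yg37 zg26) (kg xg32 yg41 zg45) (kg xg22 yg1 zg7) (kg xg32 yg37 zg31) (kg xg30 yg16 zg32) (kg xg32 yg22 zg29) (kg xg31 yg33 zg34) (kg xg22 yg1 zg44) (kg xg23 yg45 zg45) (kg xg32 yg23 zg27) (kg xg26 yg35 zg60) (kg xg28 yg24 zg13) (kg xg29 yg40 zg44) (kg xg30 yg29 zg55) (kg xg32 yg11 zg27) (kg xg22 yg1 zg20) (kg xg30 yg29 zg59) (kg xg22 yg1 zg22) (kg xg29 yg9 zg22) (kg xg32 yg38 zg61) (kg xg30 yg25 zg47) (kg xg30 yg18 zg57)) (@D3.rec (fun _ => Pt) (kg xg30 yg25 zg56) (kg xg22 yg1 zg31) (kg xg26 yg34 zg39) (kg xg32 yg51 zg1) (kg xg22 yg1 zg30) (kg xg22 yg1 zg27) (kg xg32 yg40 zg22) (kg xg32 yg14 zg7)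 (kg xg32 yg11 zg18) (kg xg32 yg37 zg51) (kg xg30 yg29 zg24) (kg xg22 yg1 zg33) (kg xg22 yg1 zg36) (kg xg28 yg54 zg27) (kg xg26 yg38 zg52) (kg xg26 yg34 zg33) (kg xg22 yg1 zg34) (kg xg32 yg51 zg0) (kg xg29 yg44 zg8) (kg xg29 yg44 zg24) (kg xg32 yg33 zg61) (kg xg31 yg21 zg48) (kg xg24 yg5 zg56) (kg xg30 yg28 zg55) (kg xg28 yg20 zg28) (kg xg23 yg49 zg18) (kg xg27 yg16 zg11) (kg xg32 yg21 zg0) (kg xg22 yg1 zg43) (kg xg31 yg31 zg17) (kg xg30 yg15 zg44) (kg xg32 yg19 zg4) (kg xg30 yg14 zg53) (kg xg30 yg16 zg42) (kg xg27 yg19 zg61) (kg xg28 yg50 zg37) (kg xg30 yg55 zg3) (kg xg31 yg20 zg26) (kg xg32 yg41 zg37) (kg xg31 yg41 zg3) (kg xg31 yg54 zg41) (kg xg22 yg2 zg61) (kg xg30 yg16 zg35) (kg xg31 yg24 zg48) (kg xg22 yg2 zg4) (kg xg25 yg7 zg49) (kg xg23 yg24 zg24) (kg xg31 yg49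 zg9) (kg xg27 yg23 zg10) (kg xg32 yg15 zg53) (kg xg31 yg47 zg21) (kg xg22 yg2 zg21) (kg xg31 yg52 zg39) (kg xg22 yg2 zg19) (kg xg23 yg8 zg49) (kg xg32 yg22 zg31) (kg xg27 yg14 zg35) (kg xg31 yg7 zg30) (kg xg22 yg2 zg34) (kg xg22 yg2 zg32) (kg xg31 yg57 zg15) (kg xg30 yg10 zg34)) (@D3.rec (fun _ => Pt) (kg xg22 yg2 zg42) (kg xg30 yg16 zg57) (kg xg27 yg5 zg44) (kg xg22 yg9 zg37) (kg xg30 yg8 zg47) (kg xg29 yg11 zg8) (kg xg29 yg53 zg44) (kg xg26 yg23 zg44) (kg xg30 yg12 zg13) (kg xg25 yg55 zg8) (kg xg32 yg12 zg7) (kg xg27 yg5 zg52) (kg xg28 yg13 zg59) (kg xg30 yg4 zg60) (kg xg25 yg10 zg31) (kg xg29 yg45 zg12) (kg xg32 yg13 zg7) (kg xg31 yg26 zg12) (kg xg30 yg29 zg21) (kg xg25 yg36 zg46) (kg xg29 yg44 zg0) (kg xg32 yg28 zg26) (kg xg28 yg44 zg29) (kg xg32 yg13 zg17) (kg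 xg26 yg37 zg13) (kg xg22 yg4 zg14) (kg xg22 yg4 zg15) (kg xg22 yg4 zg16) (kg xg22 yg4 zg19) (kg xg29 yg44 zg5) (kg xg28 yg40 zg38) (kg xg22 yg4 zg20) (kg xg30 yg48 zg39) (kg xg22 yg4 zg21) (kg xg29 yg46 zg33) (kg xg32 yg46 zg48) (kg xg32 yg46 zg45) (kg xg31 yg20 zg17) (kg xg26 yg6 zg50) (kg xg24 yg20 zg24) (kg xg26 yg3 zg30) (kg xg25 yg49 zg57) (kg xg29 yg48 zg58) (kg xg23 yg37 zg22) (kg xg26 yg3 zg3) (kg xg30 yg13 zg15) (kg xg30 yg59 zg26) (kg xg30 yg13 zg39) (kg xg25 yg29 zg34) (kg xg29 yg35 zg13) (kg xg32 yg24 zg43) (kg xg25 yg17 zg3) (kg xg26 yg21 zg51) (kg xg25 yg17 zg1) (kg xg26 yg44 zg50) (kg xg24 yg4 zg47) (kg xg24 yg28 zg44) (kg xg26 yg43 zg56) (kg xg29 yg3 zg15) (kg xg26 yg3 zg10) (kg xg30 yg18 zg14) (kg xg31 yg0 zg41)) (@D3.rec (fun _ => Pt) (kg xg22 yg5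 zg27) (kg xg32 yg4 zg58) (kg xg27 yg41 zg32) (kg xg26 yg10 zg21) (kg xg32 yg50 zg29) (kg xg27 yg41 zg33) (kg xg25 yg53 zg17) (kg xg28 yg49 zg54) (kg xg22 yg5 zg49) (kg xg25 yg6 zg51) (kg xg31 yg51 zg37) (kg xg22 yg31 zg52) (kg xg30 yg37 zg25) (kg xg27 yg36 zg39) (kg xg28 yg0 zg38) (kg xg31 yg57 zg59) (kg xg24 yg34 zg48) (kg xg26 yg6 zg0) (kg xg25 yg25 zg20) (kg xg30 yg9 zg6) (kg xg28 yg43 zg38) (kg xg26 yg51 zg20) (kg xg23 yg54 zg19) (kg xg27 yg59 zg4) (kg xg22 yg7 zg15) (kg xg32 yg51 zg10) (kg xg22 yg7 zg13) (kg xg32 yg20 zg37) (kg xg22 yg6 zg42) (kg xg32 yg8 zg30) (kg xg26 yg54 zg6) (kg xg28 yg16 zg52) (kg xg23 yg13 zg35) (kg xg30 yg30 zg43) (kg xg30 yg47 zg22) (kg xg22 yg6 zg51) (kg xg32 yg51 zg16) (kg xg31 yg13 zg39) (kg xg32 yg17 zg37) (kg xg32 yg17 zg36) (kg xg22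 yg7 zg30) (kg xg31 yg18 zg6) (kg xg22 yg57 zg40) (kg xg22 yg6 zg59) (kg xg31 yg48 zg59) (kg xg22 yg6 zg60) (kg xg27 yg3 zg4) (kg xg27 yg3 zg3) (kg xg22 yg52 zg51) (kg xg28 yg59 zg16) (kg xg29 yg41 zg13) (kg xg25 yg43 zg39) (kg xg27 yg24 zg6) (kg xg24 yg51 zg58) (kg xg30 yg30 zg47) (kg xg22 yg7 zg9) (kg xg32 yg33 zg19) (kg xg29 yg48 zg16) (kg xg30 yg26 zg46) (kg xg29 yg0 zg5) (kg xg30 yg19 zg5) (kg xg30 yg49 zg42)) (@D3.rec (fun _ => Pt) (kg xg32 yg50 zg1) (kg xg23 yg13 zg34) (kg xg32 yg19 zg41) (kg xg32 yg51 zg11) (kg xg22 yg7 zg14) (kg xg30 yg18 zg56) (kg xg32 yg46 zg10) (kg xg32 yg39 zg46) (kg xg30 yg38 zg8) (kg xg28 yg16 zg35) (kg xg32 yg51 zg28) (kg xg28 yg52 zg7) (kg xg32 yg23 zg24) (kg xg22 yg7 zg21) (kg xg27 yg7 zg1) (kg xg25 yg54 zg47) (kg xg22 yg7 zg25) (kg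 xg31 yg19 zg56) (kg xg32 yg35 zg19) (kg xg30 yg5 zg60) (kg xg29 yg5 zg50) (kg xg22 yg7 zg36) (kg xg28 yg45 zg18) (kg xg31 yg22 zg1) (kg xg25 yg20 zg11) (kg xg31 yg52 zg49) (kg xg24 yg3 zg61) (kg xg31 yg31 zg48) (kg xg25 yg20 zg17) (kg xg29 yg0 zg26) (kg xg31 yg26 zg36) (kg xg27 yg26 zg52) (kg xg25 yg28 zg50) (kg xg27 yg1 zg43) (kg xg25 yg48 zg42) (kg xg25 yg36 zg45) (kg xg23 yg47 zg31) (kg xg28 yg58 zg9) (kg xg28 yg49 zg35) (kg xg24 yg35 zg11) (kg xg27 yg31 zg43) (kg xg22 yg8 zg59) (kg xg24 yg55 zg55) (kg xg22 yg9 zg3) (kg xg30 yg0 zg33) (kg xg25 yg53 zg22) (kg xg25 yg49 zg61) (kg xg25 yg6 zg23) (kg xg30 yg1 zg57) (kg xg25 yg28 zg31) (kg xg25 yg36 zg15) (kg xg23 yg52 zg11) (kg xg22 yg54 zg61) (kg xg24 yg7 zg18) (kg xg22 yg9 zg23) (kg xg25 yg58 zg18) (kg xg30 yg6 zg47)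 (kg xg31 yg23 zg21) (kg xg30 yg6 zg27) (kg xg31 yg23 zg40) (kg xg22 yg9 zg43) (kg xg25 yg13 zg20)) (@D3.rec (fun _ => Pt) (kg xg24 yg41 zg46) (kg xg25 yg36 zg4) (kg xg22 yg9 zg47) (kg xg22 yg9 zg48) (kg xg26 yg45 zg24) (kg xg28 yg50 zg48) (kg xg23 yg35 zg54) (kg xg24 yg33 zg16) (kg xg29 yg11 zg22) (kg xg22 yg10 zg16) (kg xg23 yg23 zg0) (kg xg29 yg49 zg36) (kg xg29 yg49 zg32) (kg xg31 yg57 zg39) (kg xg29 yg58 zg0) (kg xg29 yg58 zg5) (kg xg31 yg10 zg41) (kg xg22 yg10 zg33) (kg xg31 yg38 zg61) (kg xg25 yg57 zg56) (kg xg31 yg4 zg14) (kg xg30 yg6 zg45) (kg xg24 yg41 zg12) (kg xg22 yg11 zg19) (kg xg32 yg44 zg33) (kg xg26 yg54 zg12) (kg xg24 yg57 zg31) (kg xg30 yg1 zg9) (kg xg30 yg0 zg18) (kg xg28 yg27 zg38) (kg xg27 yg25 zg30) (kg xg28 yg35 zg28) (kg xg28 yg35 zg57) (kg xg24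 yg44 zg3) (kg xg26 yg8 zg22) (kg xg26 yg7 zg14) (kg xg23 yg18 zg41) (kg xg23 yg14 zg4) (kg xg30 yg59 zg41) (kg xg23 yg16 zg24) (kg xg23 yg16 zg5) (kg xg28 yg41 zg6) (kg xg27 yg8 zg30) (kg xg24 yg1 zg46) (kg xg30 yg38 zg21) (kg xg30 yg7 zg28) (kg xg30 yg20 zg61) (kg xg29 yg35 zg41) (kg xg22 yg12 zg33) (kg xg30 yg32 zg17) (kg xg29 yg8 zg54) (kg xg22 yg13 zg18) (kg xg22 yg13 zg15) (kg xg30 yg45 zg6) (kg xg32 yg39 zg57) (kg xg22 yg25 zg53) (kg xg22 yg12 zg40) (kg xg22 yg25 zg55) (kg xg30 yg30 zg23) (kg xg22 yg14 zg20) (kg xg22 yg12 zg42) (kg xg32 yg51 zg35)) (@D3.rec (fun _ => Pt) (kg xg22 yg12 zg47) (kg xg32 yg7 zg58) (kg xg32 yg32 zg11) (kg xg22 yg17 zg4) (kg xg22 yg12 zg53) (kg xg22 yg17 zg3) (kg xg22 yg17 zg17) (kg xg32 yg42 zg38) (kg xg30 yg44 zg7) (kg xg22 yg17 zg21)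 (kg xg27 yg42 zg4) (kg xg30 yg34 zg24) (kg xg29 yg55 zg30) (kg xg29 yg18 zg46) (kg xg30 yg35 zg25) (kg xg23 yg22 zg2) (kg xg31 yg20 zg5) (kg xg32 yg51 zg41) (kg xg30 yg37 zg49) (kg xg22 yg13 zg11) (kg xg31 yg20 zg12) (kg xg30 yg26 zg33) (kg xg27 yg21 zg22) (kg xg30 yg34 zg26) (kg xg32 yg19 zg35) (kg xg32 yg51 zg34) (kg xg32 yg35 zg61) (kg xg28 yg55 zg17) (kg xg28 yg15 zg47) (kg xg23 yg14 zg40) (kg xg30 yg34 zg21) (kg xg31 yg38 zg10) (kg xg32 yg43 zg58) (kg xg22 yg13 zg19) (kg xg31 yg52 zg25) (kg xg26 yg21 zg55) (kg xg32 yg4 zg26) (kg xg22 yg13 zg20) (kg xg31 yg29 zg60) (kg xg29 yg55 zg7) (kg xg29 yg35 zg38) (kg xg32 yg37 zg4) (kg xg23 yg13 zg19) (kg xg32 yg45 zg0) (kg xg32 yg19 zg32) (kg xg22 yg13 zg27) (kg xg30 yg29 zg18) (kg xg32 yg20 zg49) (kg xg24 yg15 zg48) (kg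 xg24 yg29 zg49) (kg xg27 yg13 zg42) (kg xg27 yg6 zg44) (kg xg22 yg13 zg36) (kg xg22 yg34 zg12) (kg xg30 yg28 zg30) (kg xg32 yg51 zg54) (kg xg30 yg28 zg10) (kg xg22 yg13 zg41) (kg xg32 yg51 zg55) (kg xg32 yg51 zg58) (kg xg32 yg46 zg25) (kg xg22 yg13 zg42)) (@D3.rec (fun _ => Pt) (kg xg32 yg33 zg58) (kg xg30 yg25 zg21) (kg xg30 yg28 zg9) (kg xg22 yg13 zg44) (kg xg30 yg28 zg24) (kg xg30 yg45 zg34) (kg xg31 yg31 zg22) (kg xg32 yg52 zg2) (kg xg31 yg31 zg23) (kg xg23 yg48 zg15) (kg xg30 yg30 zg34) (kg xg32 yg16 zg45) (kg xg32 yg52 zg5) (kg xg32 yg51 zg15) (kg xg22 yg13 zg53) (kg xg32 yg36 zg31) (kg xg31 yg21 zg37) (kg xg22 yg13 zg55) (kg xg22 yg13 zg58) (kg xg32 yg52 zg6) (kg xg30 yg35 zg43) (kg xg31 yg7 zg2) (kg xg22 yg59 zg26) (kg xg22 yg13 zg56) (kg xg31 yg33 zg24) (kg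 xg30 yg35 zg44) (kg xg22 yg24 zg13) (kg xg22 yg19 zg40) (kg xg22 yg13 zg57) (kg xg29 yg53 zg36) (kg xg32 yg40 zg2) (kg xg23 yg13 zg15) (kg xg28 yg17 zg55) (kg xg30 yg37 zg30) (kg xg30 yg20 zg43) (kg xg31 yg29 zg58) (kg xg27 yg23 zg47) (kg xg30 yg38 zg10) (kg xg22 yg37 zg29) (kg xg27 yg12 zg40) (kg xg30 yg30 zg38) (kg xg29 yg37 zg3) (kg xg32 yg41 zg41) (kg xg29 yg36 zg52) (kg xg32 yg17 zg1) (kg xg22 yg14 zg15) (kg xg30 yg31 zg19) (kg xg30 yg22 zg58) (kg xg23 yg7 zg31) (kg xg32 yg51 zg8) (kg xg28 yg44 zg46) (kg xg30 yg32 zg29) (kg xg29 yg35 zg14) (kg xg22 yg14 zg19) (kg xg22 yg14 zg22) (kg xg22 yg18 zg38) (kg xg30 yg34 zg17) (kg xg30 yg19 zg26) (kg xg31 yg13 zg32) (kg xg32 yg39 zg22) (kg xg22 yg14 zg28) (kg xg30 yg39 zg43)) (@D3.rec (fun _ => Pt) (kg xg27 yg41 zg55) (kg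 xg31 yg15 zg44) (kg xg22 yg23 zg45) (kg xg23 yg4 zg9) (kg xg22 yg25 zg32) (kg xg23 yg2 zg60) (kg xg30 yg11 zg31) (kg xg22 yg17 zg60) (kg xg28 yg23 zg24) (kg xg28 yg23 zg38) (kg xg28 yg24 zg21) (kg xg24 yg31 zg8) (kg xg24 yg40 zg29) (kg xg27 yg47 zg9) (kg xg32 yg5 zg32) (kg xg27 yg27 zg45) (kg xg22 yg15 zg14) (kg xg27 yg30 zg0) (kg xg28 yg6 zg61) (kg xg26 yg13 zg52) (kg xg23 yg20 zg17) (kg xg25 yg0 zg16) (kg xg27 yg48 zg53) (kg xg28 yg2 zg24) (kg xg28 yg15 zg23) (kg xg22 yg35 zg11) (kg xg22 yg15 zg40) (kg xg23 yg51 zg56) (kg xg28 yg25 zg39) (kg xg28 yg17 zg8) (kg xg23 yg51 zg1) (kg xg24 yg55 zg27) (kg xg31 yg11 zg34) (kg xg31 yg22 zg20) (kg xg29 yg36 zg46) (kg xg29 yg35 zg8) (kg xg22 yg41 zg42) (kg xg32 yg48 zg35) (kg xg24 yg24 zg15) (kg xg30 yg37 zg43) (kg xg24 yg2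 zg11) (kg xg30 yg50 zg45) (kg xg30 yg7 zg29) (kg xg28 yg38 zg57) (kg xg32 yg52 zg14) (kg xg22 yg27 zg2) (kg xg22 yg16 zg5) (kg xg28 yg33 zg13) (kg xg30 yg33 zg0) (kg xg25 yg48 zg2) (kg xg23 yg55 zg15) (kg xg31 yg56 zg19) (kg xg22 yg16 zg34) (kg xg32 yg36 zg48) (kg xg22 yg59 zg11) (kg xg28 yg23 zg13) (kg xg28 yg23 zg43) (kg xg22 yg32 zg2) (kg xg28 yg35 zg29) (kg xg28 yg29 zg35) (kg xg26 yg24 zg3) (kg xg28 yg34 zg33)) (@D3.rec (fun _ => Pt) (kg xg31 yg32 zg44) (kg xg28 yg34 zg28) (kg xg30 yg49 zg9) (kg xg31 yg59 zg24) (kg xg22 yg27 zg40) (kg xg22 yg16 zg45) (kg xg29 yg38 zg21) (kg xg23 yg30 zg59) (kg xg32 yg9 zg10) (kg xg30 yg56 zg25) (kg xg31 yg15 zg60) (kg xg31 yg6 zg47) (kg xg22 yg17 zg6) (kg xg28 yg45 zg34) (kg xg31 yg17 zg27) (kg xg30 yg39 zg60) (kg xg28 yg51 zg0)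 (kg xg28 yg50 zg57) (kg xg32 yg30 zg57) (kg xg22 yg17 zg13) (kg xg32 yg8 zg47) (kg xg26 yg24 zg18) (kg xg32 yg8 zg59) (kg xg22 yg17 zg18) (kg xg30 yg2 zg35) (kg xg29 yg20 zg2) (kg xg22 yg17 zg25) (kg xg30 yg50 zg52) (kg xg31 yg59 zg59) (kg xg30 yg48 zg22) (kg xg32 yg8 zg49) (kg xg27 yg15 zg27) (kg xg22 yg59 zg42) (kg xg28 yg34 zg37) (kg xg29 yg53 zg24) (kg xg22 yg17 zg34) (kg xg24 yg34 zg31) (kg xg30 yg24 zg34) (kg xg22 yg55 zg25) (kg xg25 yg42 zg42) (kg xg23 yg26 zg40) (kg xg31 yg10 zg35) (kg xg28 yg43 zg51) (kg xg26 yg4 zg17) (kg xg29 yg25 zg54) (kg xg31 yg14 zg22) (kg xg31 yg59 zg45) (kg xg31 yg14 zg38) (kg xg30 yg35 zg21) (kg xg22 yg18 zg7) (kg xg28 yg36 zg28) (kg xg24 yg48 zg11) (kg xg22 yg18 zg13) (kg xg28 yg9 zg31) (kg xg22 yg51 zg32) (kg xg24 yg59 zg6) (kg xg22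 yg18 zg17) (kg xg32 yg21 zg57) (kg xg26 yg27 zg16) (kg xg26 yg29 zg54) (kg xg24 yg47 zg54) (kg xg24 yg59 zg1)) (@D3.rec (fun _ => Pt) (kg xg30 yg7 zg15) (kg xg25 yg18 zg13) (kg xg22 yg18 zg43) (kg xg26 yg33 zg1) (kg xg22 yg18 zg50) (kg xg27 yg21 zg60) (kg xg25 yg3 zg27) (kg xg27 yg28 zg54) (kg xg30 yg25 zg10) (kg xg30 yg25 zg8) (kg xg22 yg18 zg58) (kg xg30 yg25 zg36) (kg xg30 yg28 zg12) (kg xg22 yg40 zg31) (kg xg24 yg47 zg49) (kg xg29 yg41 zg7) (kg xg29 yg41 zg4) (kg xg30 yg29 zg16) (kg xg23 yg52 zg21) (kg xg31 yg33 zg32) (kg xg32 yg18 zg37) (kg xg31 yg30 zg41) (kg xg30 yg28 zg44) (kg xg22 yg24 zg32) (kg xg32 yg44 zg13) (kg xg32 yg38 zg37) (kg xg30 yg29 zg45) (kg xg29 yg40 zg53) (kg xg24 yg1 zg14) (kg xg31 yg29 zg25) (kg xg23 yg49 zg1) (kg xg31 yg14 zg7) (kg xg30 yg25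 zg11) (kg xg22 yg25 zg8) (kg xg32 yg34 zg52) (kg xg22 yg19 zg58) (kg xg22 yg35 zg15) (kg xg22 yg19 zg21) (kg xg28 yg46 zg16) (kg xg29 yg40 zg32) (kg xg29 yg39 zg56) (kg xg30 yg29 zg19) (kg xg22 yg24 zg25) (kg xg22 yg24 zg24) (kg xg22 yg19 zg30) (kg xg22 yg25 zg26) (kg xg27 yg13 zg48) (kg xg30 yg16 zg1) (kg xg31 yg30 zg58) (kg xg22 yg25 zg11) (kg xg22 yg19 zg34) (kg xg22 yg25 zg10) (kg xg22 yg25 zg39) (kg xg22 yg25 zg36) (kg xg22 yg19 zg37) (kg xg22 yg25 zg35) (kg xg32 yg39 zg48) (kg xg28 yg23 zg11) (kg xg31 yg15 zg20) (kg xg32 yg45 zg15) (kg xg22 yg27 zg36) (kg xg28 yg31 zg0)) (@D3.rec (fun _ => Pt) (kg xg22 yg27 zg37) (kg xg24 yg30 zg23) (kg xg22 yg19 zg47) (kg xg22 yg26 zg21) (kg xg22 yg19 zg49) (kg xg22 yg26 zg29) (kg xg29 yg55 zg42) (kg xg23 yg11 zg18) (kg xg22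 yg19 zg56) (kg xg31 yg36 zg46) (kg xg23 yg45 zg43) (kg xg28 yg35 zg44) (kg xg29 yg14 zg38) (kg xg23 yg57 zg46) (kg xg22 yg20 zg2) (kg xg22 yg20 zg13) (kg xg22 yg20 zg6) (kg xg24 yg8 zg61) (kg xg27 yg59 zg55) (kg xg28 yg36 zg35) (kg xg27 yg51 zg54) (kg xg23 yg45 zg29) (kg xg28 yg15 zg5) (kg xg27 yg53 zg8) (kg xg28 yg19 zg4) (kg xg28 yg36 zg21) (kg xg30 yg50 zg14) (kg xg27 yg21 zg43) (kg xg32 yg19 zg43) (kg xg32 yg30 zg13) (kg xg32 yg8 zg28) (kg xg26 yg43 zg29) (kg xg30 yg49 zg8) (kg xg28 yg53 zg19) (kg xg31 yg22 zg34) (kg xg32 yg0 zg34) (kg xg22 yg35 zg56) (kg xg23 yg0 zg19) (kg xg22 yg20 zg37) (kg xg31 yg22 zg49) (kg xg30 yg46 zg9) (kg xg30 yg21 zg22) (kg xg29 yg37 zg39) (kg xg30 yg44 zg0) (kg xg30 yg43 zg61) (kg xg23 yg57 zg51) (kg xg22 yg20 zg50) (kg xg22 yg52 zg40)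 (kg xg22 yg20 zg54) (kg xg28 yg47 zg19) (kg xg22 yg21 zg0) (kg xg31 yg33 zg43) (kg xg25 yg59 zg38) (kg xg25 yg43 zg14) (kg xg23 yg1 zg17) (kg xg32 yg35 zg47) (kg xg24 yg9 zg12) (kg xg31 yg23 zg42) (kg xg31 yg19 zg42) (kg xg25 yg37 zg35) (kg xg31 yg21 zg27) (kg xg24 yg23 zg18)) (@D3.rec (fun _ => Pt) (kg xg24 yg9 zg59) (kg xg31 yg52 zg2) (kg xg30 yg3 zg18) (kg xg32 yg3 zg23) (kg xg29 yg1 zg6) (kg xg22 yg21 zg33) (kg xg31 yg22 zg2) (kg xg31 yg28 zg19) (kg xg22 yg21 zg36) (kg xg31 yg17 zg15) (kg xg32 yg46 zg6) (kg xg31 yg40 zg42) (kg xg32 yg3 zg27) (kg xg29 yg27 zg24) (kg xg22 yg21 zg40) (kg xg31 yg21 zg14) (kg xg26 yg43 zg12) (kg xg31 yg57 zg56) (kg xg29 yg39 zg4) (kg xg28 yg48 zg46) (kg xg29 yg1 zg49) (kg xg22 yg21 zg58) (kg xg32 yg21 zg43) (kg xg22 yg22 zg3) (kg xg23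 yg59 zg35) (kg xg31 yg22 zg10) (kg xg27 yg19 zg2) (kg xg31 yg17 zg22) (kg xg22 yg22 zg8) (kg xg29 yg8 zg29) (kg xg30 yg56 zg45) (kg xg24 yg12 zg54) (kg xg31 yg19 zg61) (kg xg23 yg53 zg19) (kg xg25 yg47 zg31) (kg xg30 yg46 zg29) (kg xg27 yg9 zg25) (kg xg22 yg57 zg41) (kg xg23 yg53 zg38) (kg xg25 yg47 zg25) (kg xg28 yg29 zg31) (kg xg28 yg32 zg4) (kg xg27 yg41 zg48) (kg xg29 yg40 zg3) (kg xg29 yg42 zg13) (kg xg25 yg55 zg60) (kg xg22 yg23 zg3) (kg xg32 yg12 zg5) (kg xg30 yg15 zg14) (kg xg28 yg41 zg48) (kg xg31 yg24 zg30) (kg xg22 yg23 zg16) (kg xg29 yg26 zg59) (kg xg23 yg46 zg46) (kg xg23 yg5 zg29) (kg xg27 yg2 zg35) (kg xg29 yg39 zg33) (kg xg30 yg46 zg45) (kg xg24 yg38 zg54) (kg xg29 yg38 zg44) (kg xg30 yg29 zg43) (kg xg32 yg10 zg57)) (@D3.rec (fun _ => Pt) (kg xg32 yg40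 zg17) (kg xg22 yg23 zg41) (kg xg22 yg23 zg43) (kg xg32 yg13 zg48) (kg xg32 yg16 zg60) (kg xg22 yg23 zg46) (kg xg31 yg38 zg57) (kg xg31 yg38 zg58) (kg xg32 yg52 zg29) (kg xg30 yg22 zg3) (kg xg30 yg21 zg57) (kg xg26 yg36 zg53) (kg xg23 yg19 zg41) (kg xg31 yg21 zg6) (kg xg32 yg47 zg27) (kg xg22 yg24 zg0) (kg xg31 yg33 zg7) (kg xg30 yg29 zg6) (kg xg22 yg24 zg1) (kg xg29 yg34 zg21) (kg xg32 yg33 zg30) (kg xg29 yg55 zg51) (kg xg31 yg19 zg25) (kg xg30 yg22 zg4) (kg xg22 yg24 zg4) (kg xg32 yg52 zg38) (kg xg32 yg52 zg40) (kg xg29 yg55 zg6) (kg xg31 yg19 zg29) (kg xg29 yg39 zg35) (kg xg22 yg24 zg10) (kg xg32 yg38 zg34) (kg xg22 yg24 zg11) (kg xg30 yg28 zg32) (kg xg29 yg35 zg11) (kg xg27 yg20 zg59) (kg xg22 yg24 zg17) (kg xg29 yg55 zg55) (kg xg27 yg8 zg14) (kg xg31 yg17 zg54)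 (kg xg22 yg24 zg19) (kg xg28 yg29 zg19) (kg xg24 yg29 zg60) (kg xg22 yg24 zg21) (kg xg23 yg45 zg38) (kg xg29 yg40 zg21) (kg xg32 yg45 zg34) (kg xg32 yg37 zg16) (kg xg27 yg2 zg17) (kg xg24 yg9 zg55) (kg xg24 yg29 zg44) (kg xg22 yg40 zg11) (kg xg28 yg51 zg9) (kg xg29 yg45 zg51) (kg xg30 yg15 zg19) (kg xg30 yg16 zg26) (kg xg32 yg12 zg32) (kg xg32 yg23 zg9) (kg xg32 yg50 zg16) (kg xg32 yg34 zg25) (kg xg32 yg45 zg28) (kg xg28 yg18 zg24)) (@D3.rec (fun _ => Pt) (kg xg28 yg24 zg20) (kg xg30 yg15 zg30) (kg xg30 yg15 zg28) (kg xg28 yg24 zg17) (kg xg29 yg45 zg37) (kg xg22 yg24 zg39) (kg xg30 yg28 zg18) (kg xg31 yg55 zg44) (kg xg32 yg52 zg49) (kg xg32 yg15 zg34) (kg xg32 yg19 zg45) (kg xg32 yg18 zg22) (kg xg32 yg19 zg10) (kg xg23 yg12 zg15) (kg xg29 yg45 zg30) (kg xg30 yg21 zg46)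 (kg xg32 yg16 zg52) (kg xg32 yg19 zg12) (kg xg29 yg37 zg7) (kg xg29 yg33 zg42) (kg xg30 yg25 zg39) (kg xg28 yg39 zg56) (kg xg22 yg25 zg5) (kg xg22 yg24 zg57) (kg xg22 yg24 zg60) (kg xg32 yg18 zg59) (kg xg31 yg12 zg45) (kg xg27 yg0 zg42) (kg xg24 yg24 zg28) (kg xg29 yg40 zg4) (kg xg32 yg45 zg37) (kg xg32 yg50 zg39) (kg xg32 yg15 zg22) (kg xg32 yg23 zg5) (kg xg29 yg46 zg57) (kg xg32 yg50 zg55) (kg xg22 yg25 zg20) (kg xg24 yg26 zg39) (kg xg32 yg38 zg58) (kg xg32 yg4 zg6) (kg xg24 yg21 zg40) (kg xg31 yg30 zg32) (kg xg30 yg28 zg1) (kg xg22 yg25 zg28) (kg xg29 yg39 zg45) (kg xg30 yg14 zg48) (kg xg31 yg31 zg53) (kg xg31 yg14 zg4) (kg xg30 yg15 zg53) (kg xg24 yg9 zg32) (kg xg32 yg34 zg14) (kg xg29 yg26 zg20) (kg xg22 yg25 zg41) (kg xg32 yg44 zg9) (kg xg32 yg39 zg53) (kg xg22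 yg25 zg45) (kg xg22 yg25 zg51) (kg xg22 yg25 zg46) (kg xg24 yg21 zg20) (kg xg30 yg15 zg57) (kg xg24 yg1 zg13) (kg xg30 yg35 zg13)) (@D3.rec (fun _ => Pt) (kg xg32 yg40 zg7) (kg xg29 yg1 zg38) (kg xg22 yg25 zg58) (kg xg30 yg48 zg55) (kg xg30 yg52 zg3) (kg xg30 yg48 zg58) (kg xg29 yg56 zg8) (kg xg25 yg26 zg46) (kg xg24 yg30 zg26) (kg xg31 yg29 zg40) (kg xg30 yg50 zg17) (kg xg29 yg40 zg49) (kg xg30 yg51 zg16) (kg xg22 yg26 zg16) (kg xg30 yg29 zg29) (kg xg30 yg52 zg2) (kg xg22 yg36 zg7) (kg xg24 yg17 zg9) (kg xg23 yg45 zg37) (kg xg23 yg47 zg46) (kg xg30 yg14 zg46) (kg xg22 yg26 zg27) (kg xg26 yg59 zg60) (kg xg26 yg53 zg45) (kg xg26 yg58 zg51) (kg xg30 yg20 zg58) (kg xg26 yg49 zg26) (kg xg26 yg52 zg17) (kg xg26 yg50 zg54) (kg xg32 yg52 zg22) (kg xg30 yg31 zg21) (kg xg22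 yg26 zg39) (kg xg31 yg22 zg59) (kg xg30 yg22 zg10) (kg xg22 yg26 zg44) (kg xg30 yg30 zg0) (kg xg24 yg10 zg10) (kg xg22 yg34 zg9) (kg xg22 yg26 zg55) (kg xg23 yg48 zg14) (kg xg30 yg30 zg16) (kg xg30 yg57 zg3) (kg xg30 yg18 zg33) (kg xg22 yg26 zg61) (kg xg32 yg30 zg50) (kg xg30 yg22 zg22) (kg xg29 yg35 zg23) (kg xg22 yg58 zg4) (kg xg28 yg47 zg9) (kg xg31 yg37 zg32) (kg xg24 yg40 zg46) (kg xg22 yg27 zg17) (kg xg22 yg27 zg30) (kg xg30 yg52 zg4) (kg xg29 yg46 zg3) (kg xg27 yg0 zg24) (kg xg30 yg48 zg59) (kg xg30 yg48 zg49) (kg xg32 yg11 zg58) (kg xg22 yg27 zg24) (kg xg32 yg46 zg38) (kg xg27 yg16 zg33)) (@D3.rec (fun _ => Pt) (kg xg30 yg48 zg40) (kg xg32 yg45 zg50) (kg xg22 yg27 zg27) (kg xg32 yg47 zg34) (kg xg32 yg45 zg39) (kg xg22 yg27 zg28) (kg xg31 yg19 zg31) (kg xg32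 yg45 zg35) (kg xg32 yg46 zg41) (kg xg32 yg47 zg12) (kg xg27 yg20 zg58) (kg xg24 yg12 zg17) (kg xg23 yg54 zg30) (kg xg23 yg54 zg27) (kg xg22 yg27 zg34) (kg xg32 yg8 zg33) (kg xg32 yg35 zg0) (kg xg31 yg19 zg19) (kg xg30 yg22 zg46) (kg xg29 yg36 zg54) (kg xg30 yg48 zg61) (kg xg30 yg30 zg31) (kg xg31 yg15 zg57) (kg xg22 yg27 zg41) (kg xg31 yg1 zg51) (kg xg23 yg59 zg42) (kg xg22 yg46 zg36) (kg xg23 yg57 zg5) (kg xg29 yg40 zg58) (kg xg22 yg33 zg14) (kg xg31 yg10 zg50) (kg xg30 yg22 zg16) (kg xg29 yg35 zg50) (kg xg32 yg45 zg57) (kg xg28 yg52 zg56) (kg xg23 yg16 zg27) (kg xg23 yg18 zg14) (kg xg22 yg28 zg0) (kg xg31 yg7 zg56) (kg xg28 yg13 zg17) (kg xg30 yg13 zg3) (kg xg30 yg29 zg13) (kg xg31 yg4 zg55) (kg xg22 yg28 zg7) (kg xg31 yg5 zg12) (kg xg23 yg37 zg25) (kg xg30 yg40 zg54)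 (kg xg22 yg28 zg34) (kg xg22 yg28 zg33) (kg xg32 yg2 zg56) (kg xg32 yg2 zg57) (kg xg25 yg1 zg18) (kg xg30 yg31 zg61) (kg xg30 yg32 zg1) (kg xg23 yg42 zg59) (kg xg28 yg8 zg51) (kg xg24 yg56 zg6) (kg xg22 yg29 zg13) (kg xg22 yg30 zg3) (kg xg27 yg32 zg43) (kg xg27 yg53 zg37) (kg xg22 yg29 zg24)) (@D3.rec (fun _ => Pt) (kg xg30 yg54 zg5) (kg xg28 yg25 zg48) (kg xg28 yg10 zg47) (kg xg23 yg9 zg30) (kg xg23 yg4 zg58) (kg xg26 yg20 zg43) (kg xg28 yg9 zg58) (kg xg23 yg32 zg0) (kg xg23 yg18 zg10) (kg xg23 yg52 zg32) (kg xg28 yg13 zg19) (kg xg23 yg33 zg29) (kg xg23 yg33 zg28) (kg xg24 yg10 zg41) (kg xg29 yg8 zg42) (kg xg31 yg3 zg24) (kg xg30 yg22 zg5) (kg xg22 yg29 zg51) (kg xg29 yg29 zg31) (kg xg22 yg36 zg4) (kg xg22 yg29 zg53) (kg xg30 yg19 zg8) (kg xg32 yg22 zg35) (kg xg30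 yg39 zg48) (kg xg22 yg39 zg43) (kg xg22 yg39 zg42) (kg xg22 yg37 zg24) (kg xg22 yg29 zg59) (kg xg32 yg38 zg41) (kg xg32 yg21 zg22) (kg xg30 yg44 zg59) (kg xg31 yg13 zg41) (kg xg22 yg41 zg56) (kg xg22 yg41 zg54) (kg xg29 yg32 zg38) (kg xg30 yg33 zg33) (kg xg31 yg12 zg13) (kg xg32 yg18 zg47) (kg xg28 yg26 zg13) (kg xg25 yg59 zg48) (kg xg22 yg30 zg18) (kg xg23 yg14 zg5) (kg xg23 yg13 zg49) (kg xg23 yg37 zg20) (kg xg26 yg8 zg33) (kg xg23 yg13 zg45) (kg xg30 yg42 zg28) (kg xg27 yg44 zg56) (kg xg22 yg30 zg44) (kg xg27 yg44 zg59) (kg xg30 yg59 zg5) (kg xg23 yg44 zg5) (kg xg23 yg18 zg28) (kg xg23 yg17 zg53) (kg xg22 yg30 zg50) (kg xg28 yg28 zg9) (kg xg22 yg30 zg54) (kg xg28 yg9 zg48) (kg xg25 yg57 zg35) (kg xg25 yg57 zg40) (kg xg22 yg59 zg31) (kg xg32 yg2 zg12)) (@D3.rec (fun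 _ => Pt) (kg xg22 yg33 zg24) (kg xg30 yg50 zg47) (kg xg23 yg13 zg33) (kg xg23 yg54 zg42) (kg xg32 yg34 zg11) (kg xg31 yg49 zg19) (kg xg31 yg49 zg20) (kg xg22 yg31 zg4) (kg xg32 yg33 zg46) (kg xg30 yg10 zg18) (kg xg30 yg13 zg58) (kg xg22 yg31 zg12) (kg xg30 yg13 zg57) (kg xg32 yg27 zg42) (kg xg31 yg2 zg20) (kg xg22 yg31 zg19) (kg xg29 yg12 zg18) (kg xg32 yg19 zg23) (kg xg30 yg7 zg19) (kg xg29 yg11 zg48) (kg xg22 yg31 zg27) (kg xg22 yg31 zg25) (kg xg30 yg42 zg48) (kg xg31 yg6 zg11) (kg xg30 yg33 zg18) (kg xg31 yg6 zg13) (kg xg30 yg10 zg36) (kg xg22 yg31 zg39) (kg xg22 yg31 zg38) (kg xg28 yg26 zg1) (kg xg32 yg23 zg48) (kg xg27 yg55 zg53) (kg xg23 yg31 zg59) (kg xg31 yg16 zg61) (kg xg32 yg50 zg45) (kg xg22 yg31 zg35) (kg xg30 yg36 zg45) (kg xg29 yg56 zg58) (kg xg22 yg31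 zg60) (kg xg29 yg55 zg37) (kg xg23 yg42 zg39) (kg xg23 yg37 zg35) (kg xg30 yg37 zg36) (kg xg30 yg14 zg4) (kg xg22 yg31 zg55) (kg xg25 yg51 zg24) (kg xg22 yg31 zg57) (kg xg29 yg28 zg28) (kg xg30 yg55 zg31) (kg xg29 yg29 zg22) (kg xg30 yg58 zg25) (kg xg30 yg46 zg12) (kg xg27 yg57 zg55) (kg xg30 yg32 zg52) (kg xg30 yg14 zg1) (kg xg22 yg32 zg0) (kg xg22 yg49 zg17) (kg xg30 yg25 zg12) (kg xg22 yg46 zg28) (kg xg22 yg37 zg58) (kg xg22 yg38 zg35) (kg xg26 yg51 zg56)) (@D3.rec (fun _ => Pt) (kg xg23 yg39 zg59) (kg xg26 yg51 zg57) (kg xg23 yg29 zg17) (kg xg22 yg37 zg55) (kg xg22 yg37 zg43) (kg xg26 yg7 zg28) (kg xg30 yg37 zg26) (kg xg24 yg23 zg29) (kg xg29 yg39 zg40) (kg xg22 yg38 zg19) (kg xg27 yg8 zg34) (kg xg23 yg47 zg49) (kg xg29 yg8 zg12) (kg xg22 yg32 zg57) (kg xg22 yg41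 zg5) (kg xg22 yg40 zg40) (kg xg22 yg41 zg27) (kg xg22 yg41 zg35) (kg xg30 yg22 zg56) (kg xg22 yg33 zg19) (kg xg22 yg33 zg17) (kg xg30 yg21 zg27) (kg xg32 yg53 zg19) (kg xg23 yg48 zg53) (kg xg30 yg21 zg23) (kg xg32 yg53 zg21) (kg xg30 yg21 zg11) (kg xg31 yg51 zg34) (kg xg32 yg27 zg9) (kg xg31 yg20 zg10) (kg xg31 yg15 zg11) (kg xg22 yg33 zg20) (kg xg32 yg53 zg23) (kg xg32 yg52 zg9) (kg xg23 yg48 zg33) (kg xg30 yg23 zg48) (kg xg28 yg25 zg10) (kg xg24 yg29 zg25) (kg xg27 yg8 zg13) (kg xg31 yg28 zg57) (kg xg30 yg15 zg23) (kg xg29 yg35 zg18) (kg xg23 yg54 zg18) (kg xg22 yg33 zg40) (kg xg23 yg54 zg17) (kg xg31 yg22 zg4) (kg xg23 yg54 zg22) (kg xg30 yg21 zg0) (kg xg23 yg54 zg24) (kg xg22 yg33 zg44) (kg xg32 yg32 zg18) (kg xg26 yg52 zg38) (kg xg30 yg24 zg13) (kg xg23 yg12 zg1)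 (kg xg31 yg16 zg51) (kg xg32 yg1 zg31) (kg xg23 yg54 zg58) (kg xg22 yg33 zg55) (kg xg31 yg16 zg39) (kg xg23 yg53 zg60) (kg xg23 yg15 zg48) (kg xg30 yg58 zg12)) (@D3.rec (fun _ => Pt) (kg xg23 yg15 zg4) (kg xg30 yg52 zg38) (kg xg22 yg34 zg6) (kg xg30 yg59 zg50) (kg xg32 yg21 zg15) (kg xg30 yg22 zg61) (kg xg30 yg49 zg45) (kg xg23 yg52 zg55) (kg xg32 yg40 zg10) (kg xg24 yg5 zg53) (kg xg28 yg0 zg57) (kg xg23 yg16 zg36) (kg xg22 yg34 zg19) (kg xg23 yg51 zg9) (kg xg30 yg45 zg19) (kg xg32 yg46 zg34) (kg xg31 yg35 zg22) (kg xg28 yg15 zg3) (kg xg28 yg25 zg51) (kg xg32 yg7 zg21) (kg xg30 yg24 zg50) (kg xg30 yg24 zg49) (kg xg23 yg51 zg0) (kg xg23 yg21 zg55) (kg xg30 yg44 zg52) (kg xg27 yg55 zg20) (kg xg32 yg29 zg4) (kg xg32 yg28 zg42) (kg xg32 yg53 zg31) (kg xg22 yg34 zg52) (kg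 xg32 yg50 zg28) (kg xg23 yg50 zg44) (kg xg22 yg34 zg55) (kg xg23 yg50 zg43) (kg xg23 yg51 zg4) (kg xg31 yg19 zg12) (kg xg22 yg34 zg60) (kg xg32 yg28 zg32) (kg xg27 yg50 zg1) (kg xg28 yg17 zg52) (kg xg27 yg34 zg49) (kg xg22 yg35 zg1) (kg xg23 yg51 zg26) (kg xg30 yg22 zg25) (kg xg30 yg22 zg20) (kg xg22 yg35 zg4) (kg xg30 yg37 zg0) (kg xg23 yg51 zg33) (kg xg28 yg46 zg24) (kg xg28 yg25 zg46) (kg xg29 yg2 zg22) (kg xg22 yg35 zg8) (kg xg23 yg51 zg23) (kg xg31 yg32 zg58) (kg xg23 yg40 zg2) (kg xg30 yg41 zg42) (kg xg30 yg50 zg3) (kg xg23 yg48 zg28) (kg xg22 yg35 zg26) (kg xg24 yg27 zg51) (kg xg31 yg5 zg49) (kg xg23 yg29 zg0)) (@D3.rec (fun _ => Pt) (kg xg24 yg22 zg0) (kg xg22 yg37 zg41) (kg xg23 yg40 zg26) (kg xg28 yg35 zg35) (kg xg22 yg35 zg35) (kg xg30 yg44 zg1) (kg xg30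 yg55 zg58) (kg xg28 yg35 zg45) (kg xg22 yg35 zg49) (kg xg22 yg35 zg46) (kg xg27 yg15 zg9) (kg xg23 yg46 zg32) (kg xg26 yg22 zg30) (kg xg22 yg35 zg50) (kg xg23 yg12 zg24) (kg xg22 yg35 zg52) (kg xg26 yg49 zg17) (kg xg23 yg47 zg57) (kg xg29 yg1 zg40) (kg xg32 yg22 zg28) (kg xg22 yg57 zg26) (kg xg22 yg49 zg29) (kg xg22 yg58 zg36) (kg xg23 yg12 zg44) (kg xg28 yg45 zg52) (kg xg24 yg2 zg5) (kg xg22 yg36 zg2) (kg xg23 yg0 zg43) (kg xg28 yg32 zg61) (kg xg32 yg52 zg36) (kg xg26 yg51 zg58) (kg xg28 yg45 zg55) (kg xg22 yg36 zg11) (kg xg23 yg58 zg3) (kg xg23 yg36 zg39) (kg xg30 yg39 zg53) (kg xg23 yg54 zg46) (kg xg25 yg47 zg34) (kg xg24 yg6 zg53) (kg xg28 yg44 zg13) (kg xg23 yg54 zg44) (kg xg23 yg19 zg6) (kg xg23 yg54 zg40) (kg xg32 yg1 zg10) (kg xg25 yg54 zg11) (kg xg30 yg33 zg4)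 (kg xg30 yg46 zg61) (kg xg22 yg36 zg40) (kg xg26 yg50 zg44) (kg xg28 yg17 zg4) (kg xg22 yg36 zg50) (kg xg31 yg32 zg34) (kg xg22 yg37 zg15) (kg xg30 yg51 zg19) (kg xg30 yg37 zg16) (kg xg29 yg55 zg1) (kg xg31 yg37 zg16) (kg xg31 yg15 zg19) (kg xg22 yg37 zg28) (kg xg30 yg23 zg37) (kg xg31 yg24 zg14) (kg xg24 yg24 zg52)) (@D3.rec (fun _ => Pt) (kg xg31 yg13 zg15) (kg xg22 yg37 zg34) (kg xg29 yg48 zg27) (kg xg31 yg15 zg43) (kg xg31 yg3 zg43) (kg xg32 yg49 zg9) (kg xg31 yg5 zg22) (kg xg22 yg53 zg60) (kg xg22 yg37 zg49) (kg xg22 yg53 zg59) (kg xg30 yg10 zg3) (kg xg22 yg37 zg50) (kg xg30 yg37 zg33) (kg xg22 yg55 zg13) (kg xg23 yg25 zg8) (kg xg29 yg43 zg50) (kg xg32 yg42 zg29) (kg xg27 yg40 zg53) (kg xg26 yg51 zg8) (kg xg23 yg24 zg16) (kg xg27 yg12 zg52) (kg xg22 yg38 zg20)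 (kg xg24 yg14 zg18) (kg xg22 yg38 zg14) (kg xg23 yg38 zg54) (kg xg31 yg8 zg5) (kg xg30 yg34 zg7) (kg xg24 yg24 zg30) (kg xg22 yg38 zg23) (kg xg30 yg22 zg33) (kg xg22 yg38 zg31) (kg xg28 yg18 zg54) (kg xg27 yg41 zg10) (kg xg30 yg37 zg13) (kg xg31 yg7 zg16) (kg xg31 yg7 zg27) (kg xg31 yg7 zg52) (kg xg25 yg1 zg38) (kg xg30 yg3 zg22) (kg xg31 yg7 zg28) (kg xg30 yg3 zg56) (kg xg22 yg39 zg20) (kg xg22 yg39 zg18) (kg xg32 yg36 zg29) (kg xg22 yg59 zg22) (kg xg30 yg23 zg39) (kg xg24 yg5 zg23) (kg xg23 yg56 zg45) (kg xg30 yg50 zg35) (kg xg30 yg21 zg19) (kg xg29 yg35 zg25) (kg xg31 yg24 zg16) (kg xg22 yg39 zg23) (kg xg31 yg30 zg42) (kg xg22 yg39 zg24) (kg xg22 yg40 zg0) (kg xg30 yg38 zg14) (kg xg23 yg41 zg1) (kg xg28 yg28 zg50) (kg xg22 yg39 zg27) (kg xg28 yg43 zg18) (kg xg32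 yg39 zg38)) (@D3.rec (fun _ => Pt) (kg xg22 yg39 zg30) (kg xg24 yg5 zg22) (kg xg23 yg51 zg19) (kg xg29 yg36 zg32) (kg xg23 yg48 zg17) (kg xg22 yg58 zg15) (kg xg28 yg5 zg54) (kg xg22 yg39 zg38) (kg xg29 yg28 zg57) (kg xg30 yg22 zg37) (kg xg22 yg39 zg40) (kg xg30 yg39 zg50) (kg xg30 yg37 zg56) (kg xg31 yg28 zg8) (kg xg22 yg41 zg52) (kg xg24 yg15 zg47) (kg xg30 yg50 zg0) (kg xg22 yg39 zg58) (kg xg22 yg39 zg46) (kg xg22 yg39 zg47) (kg xg32 yg39 zg25) (kg xg30 yg54 zg9) (kg xg30 yg50 zg61) (kg xg32 yg37 zg33) (kg xg22 yg39 zg52) (kg xg31 yg21 zg36) (kg xg22 yg39 zg53) (kg xg28 yg17 zg20) (kg xg32 yg42 zg43) (kg xg22 yg39 zg54) (kg xg30 yg54 zg23) (kg xg30 yg20 zg46) (kg xg28 yg16 zg36) (kg xg30 yg38 zg5) (kg xg29 yg35 zg46) (kg xg24 yg19 zg50) (kg xg32 yg35 zg56) (kg xg31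 yg15 zg16) (kg xg28 yg16 zg20) (kg xg30 yg20 zg45) (kg xg23 yg41 zg8) (kg xg23 yg48 zg54) (kg xg22 yg41 zg33) (kg xg32 yg49 zg55) (kg xg32 yg20 zg41) (kg xg32 yg22 zg41) (kg xg22 yg40 zg9) (kg xg26 yg53 zg52) (kg xg27 yg7 zg17) (kg xg23 yg26 zg18) (kg xg24 yg10 zg19) (kg xg30 yg39 zg5) (kg xg23 yg47 zg45) (kg xg26 yg2 zg32) (kg xg23 yg36 zg2) (kg xg22 yg40 zg36) (kg xg29 yg42 zg35) (kg xg30 yg33 zg13) (kg xg22 yg40 zg43) (kg xg31 yg10 zg8) (kg xg32 yg8 zg17) (kg xg29 yg22 zg21)) (@D3.rec (fun _ => Pt) (kg xg24 yg29 zg58) (kg xg22 yg40 zg46) (kg xg24 yg21 zg28) (kg xg31 yg18 zg39) (kg xg28 yg39 zg8) (kg xg27 yg8 zg43) (kg xg28 yg54 zg34) (kg xg22 yg40 zg56) (kg xg24 yg25 zg22) (kg xg28 yg44 zg12) (kg xg24 yg1 zg31) (kg xg28 yg12 zg61) (kg xg31 yg17 zg2) (kg xg24 yg11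 zg61) (kg xg32 yg27 zg6) (kg xg24 yg5 zg46) (kg xg25 yg18 zg44) (kg xg32 yg34 zg50) (kg xg22 yg41 zg25) (kg xg32 yg42 zg41) (kg xg24 yg26 zg8) (kg xg23 yg12 zg30) (kg xg27 yg2 zg15) (kg xg32 yg20 zg13) (kg xg22 yg41 zg34) (kg xg31 yg31 zg55) (kg xg31 yg51 zg43) (kg xg31 yg15 zg14) (kg xg24 yg4 zg9) (kg xg24 yg4 zg8) (kg xg32 yg33 zg0) (kg xg32 yg36 zg50) (kg xg31 yg20 zg7) (kg xg31 yg31 zg57) (kg xg30 yg42 zg52) (kg xg22 yg51 zg48) (kg xg22 yg41 zg46) (kg xg30 yg12 zg5) (kg xg23 yg52 zg47) (kg xg22 yg41 zg48) (kg xg31 yg22 zg25) (kg xg32 yg39 zg58) (kg xg22 yg41 zg49) (kg xg31 yg22 zg47) (kg xg30 yg27 zg35) (kg xg28 yg16 zg33) (kg xg22 yg41 zg51) (kg xg28 yg51 zg51) (kg xg30 yg38 zg11) (kg xg32 yg40 zg35) (kg xg30 yg32 zg23) (kg xg22 yg56 zg19) (kg xg22 yg42 zg20) (kg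 xg23 yg19 zg26) (kg xg28 yg28 zg12) (kg xg22 yg42 zg16) (kg xg29 yg18 zg17) (kg xg29 yg30 zg4) (kg xg22 yg42 zg23) (kg xg22 yg42 zg22) (kg xg30 yg36 zg22) (kg xg29 yg20 zg19)) (@D3.rec (fun _ => Pt) (kg xg24 yg10 zg38) (kg xg22 yg42 zg42) (kg xg22 yg42 zg44) (kg xg23 yg41 zg58) (kg xg23 yg27 zg16) (kg xg25 yg14 zg42) (kg xg23 yg29 zg25) (kg xg32 yg53 zg57) (kg xg29 yg59 zg34) (kg xg23 yg38 zg36) (kg xg31 yg3 zg4) (kg xg31 yg11 zg19) (kg xg23 yg29 zg10) (kg xg31 yg3 zg2) (kg xg32 yg54 zg0) (kg xg32 yg32 zg10) (kg xg30 yg42 zg2) (kg xg23 yg28 zg42) (kg xg22 yg42 zg60) (kg xg27 yg35 zg11) (kg xg28 yg6 zg22) (kg xg24 yg43 zg42) (kg xg30 yg41 zg26) (kg xg30 yg42 zg14) (kg xg22 yg43 zg49) (kg xg32 yg54 zg5) (kg xg31 yg3 zg21) (kg xg31 yg2 zg61) (kg xg22 yg43 zg10) (kg xg32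 yg48 zg14) (kg xg22 yg43 zg11) (kg xg23 yg26 zg42) (kg xg32 yg30 zg29) (kg xg30 yg41 zg8) (kg xg30 yg41 zg3) (kg xg29 yg11 zg30) (kg xg30 yg51 zg39) (kg xg24 yg33 zg61) (kg xg22 yg43 zg18) (kg xg24 yg33 zg60) (kg xg25 yg59 zg1) (kg xg22 yg43 zg21) (kg xg22 yg43 zg46) (kg xg27 yg18 zg34) (kg xg30 yg51 zg44) (kg xg25 yg29 zg61) (kg xg23 yg29 zg53) (kg xg30 yg41 zg52) (kg xg30 yg40 zg58) (kg xg30 yg40 zg8) (kg xg32 yg54 zg1) (kg xg22 yg43 zg52) (kg xg26 yg47 zg36) (kg xg22 yg43 zg40) (kg xg29 yg23 zg17) (kg xg23 yg38 zg28) (kg xg30 yg2 zg60) (kg xg30 yg40 zg48) (kg xg22 yg43 zg36) (kg xg25 yg23 zg10) (kg xg22 yg43 zg37) (kg xg25 yg42 zg60)) (@D3.rec (fun _ => Pt) (kg xg29 yg59 zg27) (kg xg31 yg4 zg57) (kg xg31 yg57 zg30) (kg xg30 yg40 zg33) (kg xg30 yg41 zg54) (kg xg25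 yg37 zg18) (kg xg31 yg5 zg15) (kg xg29 yg58 zg34) (kg xg30 yg40 zg34) (kg xg30 yg12 zg39) (kg xg31 yg4 zg27) (kg xg23 yg42 zg5) (kg xg23 yg39 zg57) (kg xg22 yg44 zg6) (kg xg30 yg41 zg45) (kg xg22 yg44 zg7) (kg xg31 yg10 zg13) (kg xg31 yg3 zg52) (kg xg32 yg49 zg16) (kg xg31 yg3 zg26) (kg xg30 yg42 zg6) (kg xg23 yg41 zg14) (kg xg23 yg26 zg13) (kg xg31 yg2 zg2) (kg xg30 yg40 zg32) (kg xg32 yg48 zg45) (kg xg31 yg5 zg31) (kg xg31 yg8 zg36) (kg xg30 yg40 zg50) (kg xg23 yg39 zg45) (kg xg32 yg26 zg48) (kg xg32 yg31 zg60) (kg xg27 yg51 zg33) (kg xg31 yg4 zg50) (kg xg22 yg44 zg19) (kg xg31 yg4 zg49) (kg xg23 yg33 zg15) (kg xg30 yg0 zg27) (kg xg30 yg40 zg23) (kg xg31 yg36 zg61) (kg xg32 yg42 zg57) (kg xg30 yg47 zg7) (kg xg23 yg37 zg4) (kg xg23 yg38 zg43) (kg xg31 yg5 zg13) (kg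 xg30 yg41 zg15) (kg xg23 yg26 zg6) (kg xg22 yg44 zg33) (kg xg22 yg44 zg34) (kg xg23 yg39 zg29) (kg xg25 yg14 zg58) (kg xg23 yg40 zg14) (kg xg30 yg41 zg4) (kg xg30 yg40 zg11) (kg xg30 yg40 zg47) (kg xg31 yg49 zg51) (kg xg31 yg4 zg53) (kg xg24 yg37 zg12) (kg xg25 yg49 zg21) (kg xg31 yg9 zg22) (kg xg31 yg5 zg0) (kg xg28 yg49 zg38)) (@D3.rec (fun _ => Pt) (kg xg31 yg8 zg1) (kg xg22 yg44 zg47) (kg xg32 yg50 zg48) (kg xg31 yg2 zg53) (kg xg30 yg4 zg47) (kg xg22 yg44 zg52) (kg xg30 yg41 zg18) (kg xg30 yg1 zg22) (kg xg30 yg40 zg14) (kg xg22 yg44 zg58) (kg xg23 yg31 zg15) (kg xg30 yg41 zg0) (kg xg23 yg29 zg2) (kg xg31 yg8 zg53) (kg xg28 yg31 zg33) (kg xg31 yg56 zg47) (kg xg25 yg39 zg14) (kg xg26 yg21 zg58) (kg xg30 yg13 zg42) (kg xg22 yg45 zg5) (kg xg22 yg45 zg6) (kg xg23 yg41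 zg54) (kg xg24 yg43 zg8) (kg xg23 yg41 zg30) (kg xg23 yg16 zg57) (kg xg31 yg0 zg4) (kg xg26 yg3 zg25) (kg xg30 yg32 zg46) (kg xg23 yg38 zg21) (kg xg23 yg44 zg22) (kg xg22 yg45 zg36) (kg xg23 yg43 zg39) (kg xg23 yg24 zg58) (kg xg27 yg44 zg42) (kg xg23 yg31 zg43) (kg xg29 yg10 zg11) (kg xg31 yg6 zg32) (kg xg23 yg43 zg42) (kg xg22 yg45 zg59) (kg xg31 yg8 zg25) (kg xg23 yg37 zg17) (kg xg26 yg9 zg40) (kg xg31 yg42 zg26) (kg xg26 yg9 zg52) (kg xg22 yg46 zg8) (kg xg22 yg46 zg9) (kg xg23 yg44 zg7) (kg xg23 yg21 zg21) (kg xg31 yg2 zg21) (kg xg26 yg56 zg1) (kg xg22 yg46 zg42) (kg xg24 yg25 zg41) (kg xg26 yg19 zg11) (kg xg22 yg46 zg50) (kg xg24 yg29 zg57) (kg xg22 yg46 zg51) (kg xg24 yg25 zg8) (kg xg32 yg18 zg23) (kg xg29 yg42 zg9) (kg xg32 yg8 zg57) (kg xg22 yg47 zg8) (kg xg22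 yg47 zg6)) (@D3.rec (fun _ => Pt) (kg xg31 yg30 zg25) (kg xg23 yg49 zg15) (kg xg22 yg47 zg7) (kg xg32 yg46 zg53) (kg xg23 yg21 zg39) (kg xg22 yg47 zg10) (kg xg32 yg5 zg22) (kg xg23 yg18 zg6) (kg xg24 yg8 zg12) (kg xg30 yg53 zg16) (kg xg23 yg6 zg2) (kg xg32 yg35 zg9) (kg xg24 yg34 zg37) (kg xg32 yg33 zg48) (kg xg22 yg47 zg45) (kg xg22 yg52 zg50) (kg xg22 yg55 zg6) (kg xg32 yg48 zg32) (kg xg22 yg53 zg34) (kg xg22 yg56 zg0) (kg xg22 yg53 zg9) (kg xg30 yg55 zg26) (kg xg30 yg55 zg25) (kg xg22 yg52 zg61) (kg xg22 yg47 zg59) (kg xg24 yg5 zg36) (kg xg22 yg54 zg49) (kg xg22 yg48 zg8) (kg xg30 yg46 zg37) (kg xg22 yg54 zg37) (kg xg23 yg20 zg6) (kg xg24 yg14 zg7) (kg xg30 yg18 zg31) (kg xg22 yg52 zg57) (kg xg22 yg48 zg19) (kg xg22 yg54 zg26) (kg xg22 yg55 zg29) (kg xg22 yg48 zg22)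 (kg xg30 yg43 zg10) (kg xg26 yg58 zg17) (kg xg27 yg10 zg13) (kg xg30 yg53 zg43) (kg xg29 yg28 zg3) (kg xg30 yg55 zg30) (kg xg23 yg4 zg45) (kg xg29 yg20 zg54) (kg xg29 yg42 zg17) (kg xg32 yg28 zg56) (kg xg27 yg17 zg59) (kg xg23 yg57 zg37) (kg xg23 yg1 zg11) (kg xg28 yg43 zg4) (kg xg28 yg52 zg19) (kg xg24 yg12 zg53) (kg xg23 yg2 zg15) (kg xg23 yg5 zg57) (kg xg32 yg34 zg32) (kg xg30 yg44 zg18) (kg xg22 yg58 zg35) (kg xg30 yg36 zg5) (kg xg27 yg55 zg47) (kg xg26 yg27 zg40)) (@D3.rec (fun _ => Pt) (kg xg22 yg48 zg59) (kg xg31 yg25 zg50) (kg xg24 yg9 zg47) (kg xg23 yg9 zg52) (kg xg22 yg49 zg13) (kg xg22 yg49 zg24) (kg xg28 yg22 zg34) (kg xg28 yg0 zg20) (kg xg32 yg8 zg36) (kg xg30 yg47 zg60) (kg xg28 yg27 zg50) (kg xg26 yg49 zg58) (kg xg28 yg26 zg21) (kg xg26 yg55 zg49) (kg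 xg26 yg49 zg18) (kg xg24 yg13 zg40) (kg xg23 yg0 zg32) (kg xg27 yg9 zg61) (kg xg30 yg37 zg27) (kg xg24 yg9 zg44) (kg xg30 yg53 zg59) (kg xg22 yg49 zg37) (kg xg28 yg5 zg26) (kg xg28 yg7 zg26) (kg xg23 yg4 zg40) (kg xg23 yg19 zg29) (kg xg28 yg4 zg29) (kg xg28 yg5 zg29) (kg xg31 yg39 zg8) (kg xg32 yg25 zg33) (kg xg32 yg25 zg56) (kg xg29 yg54 zg33) (kg xg32 yg26 zg8) (kg xg30 yg3 zg7) (kg xg28 yg4 zg60) (kg xg22 yg49 zg49) (kg xg27 yg34 zg48) (kg xg32 yg54 zg29) (kg xg28 yg12 zg19) (kg xg26 yg32 zg23) (kg xg31 yg32 zg38) (kg xg22 yg50 zg3) (kg xg29 yg24 zg60) (kg xg28 yg8 zg55) (kg xg30 yg45 zg38) (kg xg31 yg23 zg51) (kg xg32 yg33 zg6) (kg xg32 yg32 zg6) (kg xg27 yg50 zg12) (kg xg30 yg45 zg47) (kg xg22 yg50 zg17) (kg xg28 yg45 zg27) (kg xg30 yg35 zg30) (kg xg26 yg29 zg58)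 (kg xg28 yg4 zg26) (kg xg31 yg13 zg46) (kg xg22 yg50 zg27) (kg xg28 yg38 zg31) (kg xg32 yg25 zg52) (kg xg30 yg5 zg54) (kg xg22 yg50 zg26) (kg xg32 yg25 zg49)) (@D3.rec (fun _ => Pt) (kg xg30 yg32 zg30) (kg xg32 yg54 zg31) (kg xg31 yg38 zg7) (kg xg24 yg6 zg9) (kg xg32 yg40 zg8) (kg xg24 yg40 zg42) (kg xg30 yg21 zg25) (kg xg31 yg22 zg24) (kg xg30 yg30 zg45) (kg xg30 yg49 zg32) (kg xg23 yg48 zg13) (kg xg24 yg14 zg40) (kg xg28 yg16 zg7) (kg xg22 yg56 zg36) (kg xg22 yg50 zg52) (kg xg24 yg13 zg47) (kg xg32 yg30 zg54) (kg xg31 yg14 zg28) (kg xg27 yg53 zg51) (kg xg27 yg53 zg47) (kg xg31 yg48 zg38) (kg xg27 yg52 zg42) (kg xg29 yg21 zg3) (kg xg27 yg49 zg12) (kg xg31 yg32 zg0) (kg xg27 yg54 zg26) (kg xg32 yg10 zg3) (kg xg31 yg1 zg16) (kg xg29 yg31 zg41) (kg xg26 yg29 zg13) (kg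 xg22 yg50 zg60) (kg xg31 yg23 zg46) (kg xg22 yg55 zg42) (kg xg31 yg28 zg10) (kg xg30 yg50 zg42) (kg xg30 yg54 zg1) (kg xg26 yg56 zg40) (kg xg28 yg26 zg23) (kg xg29 yg29 zg34) (kg xg30 yg44 zg44) (kg xg24 yg55 zg18) (kg xg27 yg58 zg56) (kg xg22 yg52 zg1) (kg xg26 yg13 zg23) (kg xg27 yg30 zg36) (kg xg26 yg29 zg59) (kg xg30 yg44 zg51) (kg xg30 yg44 zg50) (kg xg22 yg51 zg42) (kg xg22 yg51 zg44) (kg xg30 yg54 zg19) (kg xg30 yg57 zg2) (kg xg22 yg55 zg43) (kg xg28 yg9 zg32) (kg xg27 yg58 zg16) (kg xg29 yg27 zg9) (kg xg26 yg20 zg52) (kg xg29 yg54 zg8) (kg xg32 yg19 zg57) (kg xg27 yg47 zg18) (kg xg24 yg53 zg6) (kg xg23 yg9 zg8)) (@D3.rec (fun _ => Pt) (kg xg32 yg9 zg46) (kg xg25 yg25 zg28) (kg xg30 yg50 zg57) (kg xg30 yg50 zg29) (kg xg25 yg55 zg18) (kg xg23 yg7 zg54) (kg xg27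 yg10 zg1) (kg xg23 yg8 zg3) (kg xg25 yg12 zg45) (kg xg22 yg52 zg25) (kg xg28 yg19 zg26) (kg xg24 yg37 zg30) (kg xg30 yg33 zg47) (kg xg26 yg8 zg50) (kg xg23 yg8 zg17) (kg xg31 yg34 zg51) (kg xg23 yg10 zg22) (kg xg30 yg12 zg30) (kg xg24 yg37 zg11) (kg xg28 yg23 zg29) (kg xg22 yg52 zg48) (kg xg23 yg9 zg24) (kg xg22 yg55 zg11) (kg xg31 yg54 zg24) (kg xg30 yg53 zg45) (kg xg28 yg8 zg33) (kg xg24 yg6 zg60) (kg xg22 yg53 zg16) (kg xg22 yg53 zg0) (kg xg24 yg12 zg46) (kg xg24 yg6 zg0) (kg xg24 yg6 zg36) (kg xg24 yg6 zg35) (kg xg31 yg15 zg49) (kg xg22 yg53 zg5) (kg xg29 yg30 zg17) (kg xg32 yg46 zg56) (kg xg30 yg47 zg16) (kg xg26 yg56 zg2) (kg xg30 yg50 zg44) (kg xg30 yg43 zg28) (kg xg22 yg53 zg10) (kg xg32 yg51 zg21) (kg xg22 yg53 zg11) (kg xg30 yg49 zg41) (kg xg28 yg35 zg42)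 (kg xg23 yg52 zg25) (kg xg29 yg55 zg39) (kg xg22 yg53 zg23) (kg xg31 yg23 zg36) (kg xg28 yg38 zg18) (kg xg30 yg47 zg43) (kg xg31 yg49 zg1) (kg xg28 yg23 zg44) (kg xg22 yg53 zg32) (kg xg32 yg2 zg30) (kg xg23 yg7 zg44) (kg xg31 yg0 zg40) (kg xg27 yg15 zg51) (kg xg31 yg48 zg50) (kg xg31 yg44 zg12) (kg xg30 yg36 zg47)) (@D3.rec (fun _ => Pt) (kg xg23 yg25 zg10) (kg xg23 yg15 zg25) (kg xg22 yg56 zg10) (kg xg23 yg17 zg0) (kg xg22 yg53 zg45) (kg xg31 yg44 zg51) (kg xg23 yg16 zg60) (kg xg30 yg41 zg39) (kg xg27 yg2 zg56) (kg xg25 yg51 zg26) (kg xg25 yg27 zg2) (kg xg28 yg32 zg55) (kg xg22 yg53 zg57) (kg xg32 yg23 zg54) (kg xg30 yg48 zg35) (kg xg32 yg28 zg6) (kg xg30 yg46 zg40) (kg xg28 yg20 zg19) (kg xg22 yg54 zg15) (kg xg22 yg54 zg6) (kg xg22 yg54 zg14) (kg xg31 yg22 zg57) (kg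 xg30 yg18 zg35) (kg xg29 yg30 zg48) (kg xg22 yg54 zg10) (kg xg25 yg36 zg3) (kg xg25 yg59 zg26) (kg xg28 yg11 zg11) (kg xg30 yg12 zg23) (kg xg24 yg18 zg12) (kg xg25 yg52 zg35) (kg xg31 yg10 zg25) (kg xg29 yg53 zg48) (kg xg23 yg3 zg9) (kg xg23 yg20 zg12) (kg xg32 yg38 zg48) (kg xg24 yg14 zg11) (kg xg31 yg39 zg14) (kg xg22 yg54 zg46) (kg xg31 yg45 zg51) (kg xg26 yg42 zg3) (kg xg28 yg58 zg45) (kg xg24 yg5 zg43) (kg xg30 yg46 zg50) (kg xg31 yg11 zg18) (kg xg31 yg56 zg31) (kg xg30 yg26 zg51) (kg xg25 yg47 zg12) (kg xg32 yg34 zg20) (kg xg31 yg56 zg27) (kg xg25 yg28 zg9) (kg xg30 yg51 zg2) (kg xg30 yg53 zg49) (kg xg25 yg5 zg28) (kg xg25 yg57 zg43) (kg xg25 yg58 zg26) (kg xg30 yg54 zg50) (kg xg32 yg5 zg16) (kg xg24 yg33 zg36) (kg xg32 yg1 zg43) (kg xg30 yg48 zg26) (kg xg30 yg44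 zg9)) (@D3.rec (fun _ => Pt) (kg xg32 yg8 zg51) (kg xg30 yg54 zg54) (kg xg23 yg4 zg44) (kg xg31 yg34 zg43) (kg xg31 yg1 zg5) (kg xg30 yg54 zg53) (kg xg31 yg53 zg50) (kg xg32 yg9 zg59) (kg xg26 yg30 zg34) (kg xg22 yg56 zg7) (kg xg22 yg55 zg55) (kg xg25 yg33 zg20) (kg xg32 yg29 zg23) (kg xg22 yg55 zg60) (kg xg28 yg22 zg39) (kg xg32 yg29 zg25) (kg xg22 yg55 zg61) (kg xg27 yg3 zg5) (kg xg32 yg18 zg8) (kg xg29 yg28 zg40) (kg xg23 yg15 zg5) (kg xg30 yg51 zg33) (kg xg28 yg0 zg14) (kg xg23 yg9 zg23) (kg xg31 yg34 zg4) (kg xg29 yg19 zg25) (kg xg30 yg47 zg61) (kg xg28 yg2 zg60) (kg xg23 yg18 zg23) (kg xg23 yg17 zg4) (kg xg23 yg17 zg7) (kg xg22 yg56 zg12) (kg xg23 yg17 zg6) (kg xg30 yg47 zg14) (kg xg31 yg15 zg17) (kg xg24 yg8 zg2) (kg xg32 yg14 zg53) (kg xg24 yg14 zg41) (kg xg32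 yg54 zg40) (kg xg30 yg17 zg33) (kg xg28 yg56 zg29) (kg xg26 yg41 zg14) (kg xg32 yg54 zg41) (kg xg22 yg56 zg26) (kg xg32 yg48 zg30) (kg xg28 yg50 zg51) (kg xg25 yg59 zg51) (kg xg32 yg44 zg10) (kg xg31 yg16 zg2) (kg xg24 yg8 zg26) (kg xg29 yg55 zg34) (kg xg27 yg14 zg61) (kg xg32 yg54 zg26) (kg xg26 yg19 zg58) (kg xg32 yg54 zg44) (kg xg28 yg35 zg0) (kg xg28 yg24 zg28) (kg xg30 yg30 zg3) (kg xg22 yg56 zg45) (kg xg22 yg56 zg46) (kg xg30 yg31 zg0) (kg xg31 yg33 zg18)) (@D3.rec (fun _ => Pt) (kg xg31 yg3 zg35) (kg xg23 yg27 zg34) (kg xg23 yg27 zg12) (kg xg24 yg6 zg30) (kg xg22 yg56 zg60) (kg xg31 yg22 zg39) (kg xg31 yg50 zg26) (kg xg24 yg22 zg39) (kg xg30 yg24 zg2) (kg xg30 yg26 zg32) (kg xg30 yg26 zg6) (kg xg32 yg14 zg46) (kg xg24 yg24 zg24) (kg xg31 yg24 zg5) (kg xg22 yg57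 zg17) (kg xg32 yg14 zg49) (kg xg29 yg54 zg46) (kg xg32 yg52 zg15) (kg xg24 yg13 zg31) (kg xg25 yg35 zg33) (kg xg31 yg58 zg16) (kg xg22 yg57 zg30) (kg xg27 yg53 zg0) (kg xg28 yg50 zg38) (kg xg31 yg0 zg5) (kg xg22 yg57 zg39) (kg xg28 yg53 zg43) (kg xg32 yg2 zg5) (kg xg22 yg57 zg47) (kg xg30 yg36 zg31) (kg xg29 yg25 zg21) (kg xg23 yg51 zg8) (kg xg22 yg57 zg53) (kg xg30 yg51 zg15) (kg xg23 yg54 zg41) (kg xg31 yg32 zg5) (kg xg30 yg34 zg39) (kg xg23 yg55 zg9) (kg xg26 yg43 zg28) (kg xg30 yg56 zg27) (kg xg31 yg17 zg46) (kg xg30 yg18 zg61) (kg xg30 yg46 zg44) (kg xg30 yg18 zg54) (kg xg30 yg35 zg6) (kg xg22 yg58 zg5) (kg xg28 yg29 zg32) (kg xg32 yg21 zg41) (kg xg30 yg18 zg32) (kg xg24 yg13 zg1) (kg xg32 yg44 zg27) (kg xg22 yg58 zg9) (kg xg22 yg58 zg7) (kg xg32 yg54 zg46) (kg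 xg22 yg58 zg8) (kg xg30 yg33 zg2) (kg xg32 yg54 zg36) (kg xg25 yg56 zg37) (kg xg32 yg54 zg47) (kg xg30 yg22 zg12) (kg xg30 yg34 zg25) (kg xg23 yg51 zg31)) (@D3.rec (fun _ => Pt) (kg xg22 yg58 zg13) (kg xg31 yg23 zg4) (kg xg30 yg51 zg5) (kg xg30 yg38 zg17) (kg xg30 yg38 zg33) (kg xg23 yg16 zg52) (kg xg23 yg29 zg50) (kg xg26 yg8 zg51) (kg xg32 yg52 zg26) (kg xg30 yg30 zg53) (kg xg28 yg14 zg31) (kg xg22 yg58 zg33) (kg xg23 yg5 zg59) (kg xg26 yg22 zg16) (kg xg23 yg12 zg27) (kg xg22 yg58 zg39) (kg xg27 yg16 zg20) (kg xg30 yg30 zg8) (kg xg28 yg49 zg3) (kg xg22 yg58 zg46) (kg xg32 yg45 zg12) (kg xg27 yg15 zg60) (kg xg25 yg28 zg15) (kg xg22 yg59 zg1) (kg xg23 yg0 zg44) (kg xg31 yg29 zg57) (kg xg31 yg48 zg32) (kg xg30 yg33 zg1) (kg xg28 yg19 zg32) (kg xg29 yg41 zg21) (kg xg31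 yg23 zg8) (kg xg22 yg59 zg15) (kg xg32 yg34 zg49) (kg xg32 yg33 zg39) (kg xg30 yg25 zg18) (kg xg24 yg11 zg4) (kg xg22 yg59 zg20) (kg xg32 yg49 zg60) (kg xg32 yg54 zg27) (kg xg29 yg30 zg26) (kg xg32 yg49 zg58) (kg xg30 yg51 zg6) (kg xg30 yg32 zg16) (kg xg23 yg52 zg50) (kg xg28 yg51 zg2) (kg xg30 yg38 zg19) (kg xg29 yg42 zg7) (kg xg29 yg42 zg11) (kg xg30 yg34 zg54) (kg xg22 yg59 zg32) (kg xg30 yg56 zg58) (kg xg28 yg22 zg15) (kg xg30 yg55 zg34) (kg xg29 yg15 zg2) (kg xg25 yg35 zg58) (kg xg25 yg53 zg39) (kg xg31 yg17 zg0) (kg xg28 yg26 zg37) (kg xg28 yg50 zg2) (kg xg22 yg59 zg53) (kg xg31 yg26 zg51) (kg xg22 yg59 zg61)) (@D3.rec (fun _ => Pt) (kg xg23 yg0 zg2) (kg xg26 yg26 zg5) (kg xg31 yg42 zg3) (kg xg30 yg47 zg51) (kg xg31 yg28 zg1) (kg xg32 yg34 zg8) (kg xg23 yg11 zg55)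 (kg xg26 yg22 zg8) (kg xg28 yg33 zg31) (kg xg25 yg59 zg42) (kg xg24 yg13 zg37) (kg xg23 yg0 zg36) (kg xg27 yg41 zg40) (kg xg28 yg34 zg2) (kg xg29 yg42 zg31) (kg xg23 yg11 zg34) (kg xg30 yg29 zg28) (kg xg30 yg53 zg11) (kg xg26 yg45 zg17) (kg xg24 yg22 zg41) (kg xg28 yg33 zg59) (kg xg30 yg38 zg13) (kg xg23 yg0 zg56) (kg xg23 yg0 zg54) (kg xg27 yg23 zg56) (kg xg25 yg49 zg45) (kg xg29 yg9 zg49) (kg xg27 yg43 zg33) (kg xg24 yg21 zg35) (kg xg26 yg56 zg51) (kg xg24 yg39 zg1) (kg xg29 yg4 zg22) (kg xg23 yg57 zg53) (kg xg30 yg43 zg41) (kg xg23 yg1 zg29) (kg xg30 yg46 zg17) (kg xg32 yg13 zg51) (kg xg32 yg2 zg59) (kg xg32 yg7 zg41) (kg xg31 yg27 zg20) (kg xg30 yg40 zg36) (kg xg29 yg4 zg7) (kg xg23 yg1 zg38) (kg xg23 yg41 zg29) (kg xg29 yg57 zg2) (kg xg29 yg12 zg54) (kg xg27 yg12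 zg33) (kg xg29 yg57 zg37) (kg xg27 yg29 zg0) (kg xg29 yg58 zg43) (kg xg31 yg2 zg24) (kg xg31 yg5 zg59) (kg xg23 yg43 zg34) (kg xg24 yg41 zg50) (kg xg30 yg13 zg16) (kg xg23 yg20 zg10) (kg xg26 yg32 zg60) (kg xg23 yg2 zg13) (kg xg30 yg55 zg13) (kg xg30 yg13 zg33) (kg xg23 yg2 zg10) (kg xg23 yg2 zg11)) (@D3.rec (fun _ => Pt) (kg xg23 yg44 zg33) (kg xg28 yg23 zg50) (kg xg30 yg30 zg4) (kg xg30 yg30 zg15) (kg xg23 yg2 zg24) (kg xg32 yg53 zg36) (kg xg31 yg6 zg42) (kg xg24 yg57 zg15) (kg xg30 yg3 zg35) (kg xg24 yg43 zg47) (kg xg28 yg36 zg20) (kg xg23 yg2 zg35) (kg xg32 yg31 zg52) (kg xg32 yg50 zg54) (kg xg32 yg49 zg3) (kg xg30 yg52 zg34) (kg xg23 yg2 zg38) (kg xg30 yg14 zg3) (kg xg31 yg58 zg6) (kg xg31 yg57 zg46) (kg xg31 yg56 zg48) (kg xg30 yg57 zg57) (kg xg28 yg28 zg34) (kg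 xg32 yg6 zg40) (kg xg30 yg59 zg6) (kg xg28 yg24 zg43) (kg xg30 yg59 zg33) (kg xg23 yg3 zg2) (kg xg30 yg10 zg19) (kg xg32 yg43 zg38) (kg xg32 yg53 zg17) (kg xg31 yg30 zg20) (kg xg29 yg11 zg47) (kg xg30 yg52 zg17) (kg xg30 yg52 zg16) (kg xg32 yg30 zg43) (kg xg27 yg58 zg52) (kg xg32 yg30 zg41) (kg xg30 yg35 zg2) (kg xg23 yg21 zg3) (kg xg30 yg58 zg59) (kg xg23 yg3 zg14) (kg xg30 yg58 zg58) (kg xg31 yg3 zg1) (kg xg29 yg49 zg42) (kg xg32 yg15 zg60) (kg xg23 yg42 zg60) (kg xg23 yg29 zg49) (kg xg23 yg3 zg34) (kg xg31 yg2 zg57) (kg xg23 yg29 zg47) (kg xg30 yg44 zg25) (kg xg29 yg32 zg43) (kg xg31 yg41 zg60) (kg xg26 yg21 zg54) (kg xg30 yg36 zg32) (kg xg23 yg4 zg17) (kg xg23 yg4 zg18) (kg xg27 yg54 zg20) (kg xg26 yg22 zg19) (kg xg24 yg6 zg47) (kg xg27 yg11 zg16)) (@D3.rec (fun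 _ => Pt) (kg xg24 yg6 zg2) (kg xg23 yg4 zg30) (kg xg23 yg57 zg3) (kg xg32 yg34 zg21) (kg xg32 yg55 zg0) (kg xg31 yg25 zg26) (kg xg32 yg44 zg7) (kg xg23 yg4 zg37) (kg xg23 yg4 zg35) (kg xg30 yg51 zg17) (kg xg32 yg47 zg2) (kg xg31 yg25 zg51) (kg xg26 yg19 zg55) (kg xg23 yg4 zg47) (kg xg23 yg57 zg1) (kg xg27 yg43 zg10) (kg xg23 yg4 zg50) (kg xg28 yg28 zg30) (kg xg29 yg14 zg56) (kg xg28 yg21 zg20) (kg xg23 yg9 zg28) (kg xg28 yg5 zg42) (kg xg23 yg4 zg59) (kg xg27 yg21 zg54) (kg xg23 yg8 zg23) (kg xg23 yg8 zg48) (kg xg31 yg55 zg54) (kg xg23 yg9 zg2) (kg xg29 yg18 zg57) (kg xg26 yg28 zg49) (kg xg23 yg15 zg21) (kg xg23 yg7 zg47) (kg xg23 yg5 zg18) (kg xg32 yg1 zg30) (kg xg28 yg21 zg41) (kg xg23 yg5 zg20) (kg xg23 yg9 zg48) (kg xg23 yg5 zg23) (kg xg32 yg1 zg17) (kg xg26 yg23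 zg48) (kg xg23 yg8 zg6) (kg xg23 yg8 zg61) (kg xg29 yg32 zg20) (kg xg30 yg48 zg21) (kg xg23 yg8 zg28) (kg xg25 yg48 zg57) (kg xg23 yg8 zg53) (kg xg23 yg9 zg41) (kg xg24 yg11 zg60) (kg xg26 yg28 zg35) (kg xg29 yg30 zg28) (kg xg30 yg47 zg52) (kg xg24 yg18 zg51) (kg xg30 yg24 zg9) (kg xg31 yg36 zg59) (kg xg30 yg43 zg38) (kg xg23 yg18 zg31) (kg xg29 yg34 zg52) (kg xg30 yg44 zg20) (kg xg23 yg6 zg12) (kg xg23 yg19 zg28) (kg xg23 yg58 zg29)) (@D3.rec (fun _ => Pt) (kg xg28 yg9 zg42) (kg xg26 yg32 zg36) (kg xg32 yg30 zg9) (kg xg23 yg6 zg35) (kg xg23 yg51 zg15) (kg xg30 yg6 zg55) (kg xg24 yg47 zg33) (kg xg31 yg43 zg3) (kg xg31 yg23 zg2) (kg xg31 yg31 zg24) (kg xg32 yg46 zg49) (kg xg28 yg27 zg1) (kg xg27 yg6 zg7) (kg xg24 yg12 zg32) (kg xg28 yg44 zg8) (kg xg27 yg36 zg34) (kg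 xg23 yg7 zg14) (kg xg28 yg12 zg44) (kg xg26 yg18 zg26) (kg xg30 yg53 zg28) (kg xg23 yg7 zg30) (kg xg28 yg45 zg31) (kg xg30 yg38 zg18) (kg xg23 yg7 zg34) (kg xg30 yg38 zg29) (kg xg24 yg57 zg11) (kg xg29 yg28 zg25) (kg xg29 yg41 zg43) (kg xg23 yg7 zg41) (kg xg32 yg44 zg60) (kg xg30 yg55 zg36) (kg xg23 yg8 zg20) (kg xg23 yg9 zg56) (kg xg25 yg24 zg31) (kg xg27 yg14 zg59) (kg xg23 yg9 zg55) (kg xg32 yg23 zg39) (kg xg26 yg56 zg26) (kg xg23 yg8 zg10) (kg xg23 yg8 zg7) (kg xg29 yg24 zg50) (kg xg23 yg8 zg12) (kg xg26 yg31 zg32) (kg xg29 yg28 zg37) (kg xg25 yg55 zg30) (kg xg23 yg8 zg19) (kg xg25 yg29 zg8) (kg xg32 yg46 zg59) (kg xg32 yg2 zg23) (kg xg27 yg15 zg32) (kg xg30 yg47 zg54) (kg xg30 yg19 zg52) (kg xg32 yg1 zg22) (kg xg30 yg49 zg49) (kg xg30 yg43 zg46) (kg xg32 yg8 zg35)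 (kg xg24 yg31 zg56) (kg xg29 yg9 zg44) (kg xg32 yg41 zg22) (kg xg29 yg41 zg60) (kg xg25 yg28 zg25) (kg xg31 yg35 zg31)) (@D3.rec (fun _ => Pt) (kg xg32 yg55 zg3) (kg xg25 yg9 zg36) (kg xg32 yg48 zg48) (kg xg23 yg9 zg0) (kg xg27 yg7 zg40) (kg xg31 yg47 zg7) (kg xg23 yg9 zg7) (kg xg32 yg7 zg56) (kg xg23 yg9 zg13) (kg xg31 yg47 zg16) (kg xg23 yg9 zg20) (kg xg32 yg48 zg37) (kg xg30 yg59 zg10) (kg xg25 yg2 zg23) (kg xg28 yg21 zg49) (kg xg23 yg15 zg27) (kg xg23 yg14 zg27) (kg xg23 yg15 zg13) (kg xg24 yg3 zg11) (kg xg25 yg12 zg19) (kg xg31 yg53 zg31) (kg xg31 yg5 zg47) (kg xg29 yg50 zg53) (kg xg26 yg20 zg27) (kg xg30 yg37 zg10) (kg xg30 yg43 zg21) (kg xg30 yg43 zg22) (kg xg23 yg10 zg27) (kg xg24 yg5 zg42) (kg xg32 yg21 zg5) (kg xg30 yg33 zg48) (kg xg30 yg43 zg43) (kg xg24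 yg55 zg52) (kg xg30 yg54 zg46) (kg xg23 yg10 zg31) (kg xg32 yg18 zg29) (kg xg23 yg10 zg21) (kg xg25 yg28 zg43) (kg xg23 yg10 zg25) (kg xg23 yg31 zg23) (kg xg32 yg40 zg46) (kg xg29 yg32 zg17) (kg xg23 yg10 zg38) (kg xg30 yg46 zg24) (kg xg26 yg58 zg13) (kg xg31 yg54 zg18) (kg xg23 yg10 zg44) (kg xg23 yg23 zg32) (kg xg24 yg5 zg44) (kg xg29 yg27 zg35) (kg xg23 yg52 zg6) (kg xg23 yg11 zg7) (kg xg32 yg32 zg55) (kg xg29 yg25 zg48) (kg xg31 yg4 zg20) (kg xg24 yg21 zg7) (kg xg29 yg3 zg36) (kg xg24 yg10 zg20) (kg xg30 yg49 zg13) (kg xg32 yg21 zg7) (kg xg28 yg50 zg47) (kg xg23 yg11 zg26)) (@D3.rec (fun _ => Pt) (kg xg31 yg30 zg56) (kg xg29 yg49 zg27) (kg xg31 yg20 zg30) (kg xg30 yg49 zg34) (kg xg27 yg15 zg30) (kg xg28 yg19 zg61) (kg xg30 yg46 zg36) (kg xg28 yg23 zg16) (kg xg32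 yg36 zg45) (kg xg30 yg49 zg37) (kg xg24 yg27 zg10) (kg xg28 yg21 zg26) (kg xg32 yg33 zg22) (kg xg30 yg26 zg39) (kg xg23 yg33 zg59) (kg xg26 yg29 zg60) (kg xg25 yg56 zg0) (kg xg31 yg58 zg59) (kg xg23 yg54 zg49) (kg xg31 yg6 zg29) (kg xg25 yg56 zg34) (kg xg23 yg12 zg20) (kg xg23 yg12 zg19) (kg xg32 yg15 zg27) (kg xg28 yg34 zg6) (kg xg32 yg51 zg42) (kg xg30 yg26 zg26) (kg xg31 yg59 zg54) (kg xg32 yg52 zg11) (kg xg32 yg24 zg16) (kg xg23 yg12 zg40) (kg xg23 yg12 zg33) (kg xg31 yg9 zg49) (kg xg28 yg23 zg42) (kg xg23 yg12 zg36) (kg xg24 yg11 zg50) (kg xg24 yg22 zg8) (kg xg24 yg22 zg10) (kg xg23 yg12 zg46) (kg xg24 yg33 zg37) (kg xg29 yg34 zg46) (kg xg29 yg23 zg25) (kg xg23 yg55 zg56) (kg xg23 yg12 zg52) (kg xg31 yg17 zg60) (kg xg30 yg56 zg52) (kg xg24 yg0 zg52) (kg xg32 yg0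 zg48) (kg xg24 yg4 zg48) (kg xg27 yg48 zg33) (kg xg31 yg17 zg18) (kg xg27 yg10 zg58) (kg xg29 yg3 zg13) (kg xg32 yg33 zg3) (kg xg25 yg51 zg49) (kg xg24 yg17 zg23) (kg xg23 yg39 zg52) (kg xg31 yg13 zg31) (kg xg30 yg27 zg56) (kg xg24 yg14 zg13) (kg xg32 yg54 zg34) (kg xg23 yg13 zg36)) (@D3.rec (fun _ => Pt) (kg xg32 yg53 zg44) (kg xg23 yg54 zg28) (kg xg31 yg23 zg3) (kg xg31 yg43 zg27) (kg xg31 yg23 zg27) (kg xg32 yg54 zg45) (kg xg23 yg55 zg10) (kg xg31 yg0 zg36) (kg xg23 yg45 zg13) (kg xg23 yg13 zg58) (kg xg30 yg59 zg39) (kg xg30 yg2 zg20) (kg xg23 yg15 zg36) (kg xg28 yg18 zg51) (kg xg23 yg14 zg6) (kg xg23 yg16 zg4) (kg xg23 yg15 zg15) (kg xg23 yg14 zg34) (kg xg32 yg52 zg18) (kg xg23 yg16 zg42) (kg xg23 yg14 zg13) (kg xg23 yg16 zg40) (kg xg23 yg17 zg11) (kg xg31 yg39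 zg4) (kg xg23 yg14 zg18) (kg xg23 yg15 zg24) (kg xg23 yg14 zg17) (kg xg23 yg17 zg13) (kg xg31 yg44 zg11) (kg xg23 yg16 zg46) (kg xg31 yg0 zg7) (kg xg30 yg2 zg13) (kg xg30 yg56 zg15) (kg xg23 yg14 zg26) (kg xg23 yg15 zg57) (kg xg31 yg45 zg4) (kg xg23 yg16 zg13) (kg xg24 yg59 zg44) (kg xg30 yg49 zg24) (kg xg23 yg18 zg20) (kg xg23 yg14 zg33) (kg xg23 yg18 zg19) (kg xg23 yg39 zg55) (kg xg23 yg16 zg34) (kg xg23 yg14 zg45) (kg xg23 yg14 zg49) (kg xg27 yg44 zg58) (kg xg23 yg15 zg29) (kg xg31 yg45 zg7) (kg xg28 yg43 zg50) (kg xg27 yg57 zg41) (kg xg23 yg16 zg59) (kg xg23 yg15 zg3) (kg xg23 yg15 zg20) (kg xg23 yg15 zg10) (kg xg31 yg44 zg13) (kg xg24 yg59 zg58) (kg xg30 yg32 zg7) (kg xg26 yg9 zg29) (kg xg23 yg15 zg9) (kg xg26 yg9 zg37) (kg xg28 yg40 zg61)) (@D3.rec (fun _ => Pt)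 (kg xg27 yg44 zg38) (kg xg26 yg11 zg45) (kg xg32 yg31 zg25) (kg xg23 yg17 zg38) (kg xg23 yg15 zg19) (kg xg32 yg38 zg20) (kg xg31 yg1 zg1) (kg xg30 yg58 zg42) (kg xg28 yg24 zg46) (kg xg32 yg7 zg35) (kg xg23 yg15 zg18) (kg xg23 yg16 zg41) (kg xg28 yg12 zg34) (kg xg32 yg3 zg38) (kg xg23 yg15 zg22) (kg xg30 yg59 zg9) (kg xg31 yg44 zg22) (kg xg30 yg37 zg39) (kg xg30 yg58 zg33) (kg xg26 yg9 zg31) (kg xg30 yg57 zg28) (kg xg30 yg58 zg24) (kg xg23 yg15 zg35) (kg xg30 yg59 zg23) (kg xg30 yg58 zg22) (kg xg29 yg29 zg47) (kg xg23 yg15 zg41) (kg xg23 yg15 zg46) (kg xg30 yg59 zg52) (kg xg24 yg55 zg45) (kg xg30 yg33 zg50) (kg xg32 yg38 zg6) (kg xg28 yg11 zg41) (kg xg30 yg59 zg20) (kg xg32 yg55 zg14) (kg xg30 yg59 zg56) (kg xg23 yg16 zg0) (kg xg30 yg59 zg58) (kg xg23 yg15 zg61) (kg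 xg30 yg31 zg36) (kg xg32 yg32 zg50) (kg xg32 yg54 zg59) (kg xg32 yg49 zg23) (kg xg32 yg8 zg18) (kg xg32 yg54 zg58) (kg xg23 yg33 zg11) (kg xg31 yg33 zg56) (kg xg30 yg59 zg11) (kg xg30 yg57 zg31) (kg xg26 yg14 zg12) (kg xg30 yg7 zg18) (kg xg32 yg50 zg19) (kg xg32 yg49 zg31) (kg xg23 yg16 zg26) (kg xg23 yg21 zg18) (kg xg32 yg50 zg17) (kg xg25 yg0 zg8) (kg xg30 yg52 zg42) (kg xg23 yg16 zg37) (kg xg30 yg52 zg41) (kg xg32 yg9 zg48) (kg xg31 yg39 zg3)) (@D3.rec (fun _ => Pt) (kg xg23 yg17 zg20) (kg xg30 yg59 zg37) (kg xg32 yg5 zg45) (kg xg23 yg16 zg55) (kg xg24 yg10 zg37) (kg xg30 yg32 zg51) (kg xg30 yg52 zg23) (kg xg30 yg2 zg18) (kg xg30 yg59 zg44) (kg xg30 yg58 zg46) (kg xg30 yg55 zg15) (kg xg31 yg0 zg8) (kg xg28 yg2 zg12) (kg xg28 yg2 zg6) (kg xg25 yg2 zg56) (kg xg23 yg17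 zg9) (kg xg28 yg2 zg61) (kg xg25 yg0 zg22) (kg xg30 yg58 zg23) (kg xg30 yg59 zg42) (kg xg24 yg31 zg27) (kg xg30 yg13 zg2) (kg xg31 yg58 zg50) (kg xg23 yg17 zg17) (kg xg24 yg31 zg47) (kg xg23 yg17 zg23) (kg xg26 yg0 zg44) (kg xg32 yg5 zg3) (kg xg23 yg17 zg24) (kg xg30 yg2 zg23) (kg xg31 yg58 zg31) (kg xg26 yg9 zg23) (kg xg30 yg57 zg35) (kg xg30 yg52 zg27) (kg xg26 yg9 zg28) (kg xg27 yg58 zg12) (kg xg28 yg10 zg55) (kg xg30 yg58 zg61) (kg xg30 yg57 zg10) (kg xg23 yg17 zg29) (kg xg30 yg20 zg38) (kg xg23 yg17 zg30) (kg xg30 yg59 zg8) (kg xg31 yg33 zg55) (kg xg30 yg59 zg19) (kg xg32 yg55 zg15) (kg xg32 yg5 zg55) (kg xg31 yg2 zg47) (kg xg32 yg50 zg20) (kg xg30 yg35 zg3) (kg xg23 yg17 zg49) (kg xg23 yg18 zg9) (kg xg30 yg57 zg13) (kg xg23 yg18 zg1) (kg xg27 yg52 zg26) (kg xg26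 yg32 zg52) (kg xg30 yg58 zg36) (kg xg30 yg58 zg39) (kg xg30 yg58 zg38) (kg xg23 yg18 zg15) (kg xg32 yg9 zg49) (kg xg24 yg31 zg40))
def f_g_31 : D2 → D3 → Pt := @D2.rec (fun _ => D3 → Pt) (@D3.rec (fun _ => Pt) (kg xg30 yg1 zg5) (kg xg28 yg2 zg4) (kg xg31 yg33 zg60) (kg xg23 yg18 zg24) (kg xg30 yg58 zg10) (kg xg23 yg32 zg43) (kg xg23 yg32 zg46) (kg xg31 yg6 zg14) (kg xg23 yg18 zg40) (kg xg30 yg57 zg30) (kg xg23 yg45 zg8) (kg xg29 yg53 zg16) (kg xg23 yg18 zg51) (kg xg32 yg52 zg60) (kg xg28 yg32 zg14) (kg xg23 yg19 zg5) (kg xg23 yg18 zg56) (kg xg32 yg27 zg40) (kg xg23 yg19 zg3) (kg xg28 yg33 zg49) (kg xg23 yg55 zg3) (kg xg29 yg37 zg35) (kg xg26 yg13 zg22) (kg xg23 yg19 zg4) (kg xg31 yg42 zg37) (kg xg28 yg38 zg9) (kg xg32 yg53 zg39) (kg xg32 yg1 zg53) (kg xg31 yg45 zg24)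 (kg xg28 yg28 zg57) (kg xg28 yg34 zg34) (kg xg31 yg22 zg12) (kg xg25 yg36 zg49) (kg xg24 yg10 zg2) (kg xg23 yg19 zg30) (kg xg23 yg32 zg1) (kg xg23 yg20 zg38) (kg xg31 yg12 zg55) (kg xg30 yg47 zg33) (kg xg27 yg14 zg27) (kg xg30 yg46 zg60) (kg xg30 yg18 zg0) (kg xg30 yg13 zg40) (kg xg23 yg20 zg4) (kg xg23 yg19 zg61) (kg xg31 yg44 zg56) (kg xg28 yg43 zg42) (kg xg23 yg24 zg13) (kg xg23 yg20 zg5) (kg xg30 yg13 zg21) (kg xg31 yg59 zg23) (kg xg25 yg41 zg10) (kg xg25 yg3 zg5) (kg xg27 yg30 zg50) (kg xg27 yg1 zg16) (kg xg28 yg13 zg36) (kg xg29 yg11 zg49) (kg xg27 yg46 zg47) (kg xg30 yg13 zg36) (kg xg30 yg13 zg18) (kg xg30 yg13 zg14) (kg xg32 yg43 zg8)) (@D3.rec (fun _ => Pt) (kg xg23 yg21 zg19) (kg xg30 yg57 zg16) (kg xg32 yg32 zg24) (kg xg32 yg55 zg10) (kg xg26 yg24 zg5) (kg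 xg30 yg48 zg3) (kg xg23 yg21 zg30) (kg xg25 yg3 zg6) (kg xg30 yg33 zg54) (kg xg23 yg31 zg60) (kg xg23 yg37 zg16) (kg xg32 yg2 zg28) (kg xg31 yg58 zg44) (kg xg24 yg30 zg58) (kg xg26 yg3 zg35) (kg xg30 yg56 zg18) (kg xg30 yg45 zg24) (kg xg27 yg40 zg0) (kg xg26 yg17 zg6) (kg xg23 yg34 zg13) (kg xg23 yg21 zg59) (kg xg28 yg18 zg39) (kg xg32 yg34 zg45) (kg xg23 yg22 zg5) (kg xg30 yg28 zg37) (kg xg30 yg28 zg36) (kg xg23 yg35 zg1) (kg xg29 yg51 zg30) (kg xg28 yg27 zg39) (kg xg28 yg41 zg22) (kg xg28 yg2 zg17) (kg xg31 yg7 zg41) (kg xg24 yg44 zg45) (kg xg30 yg32 zg40) (kg xg23 yg35 zg51) (kg xg26 yg0 zg35) (kg xg31 yg12 zg25) (kg xg32 yg31 zg3) (kg xg25 yg42 zg36) (kg xg30 yg38 zg53) (kg xg27 yg41 zg27) (kg xg25 yg42 zg44) (kg xg31 yg37 zg44) (kg xg31 yg37 zg31) (kg xg31 yg57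 zg50) (kg xg30 yg7 zg11) (kg xg24 yg43 zg53) (kg xg28 yg48 zg27) (kg xg28 yg7 zg5) (kg xg24 yg2 zg61) (kg xg23 yg34 zg24) (kg xg29 yg40 zg17) (kg xg23 yg27 zg23) (kg xg25 yg26 zg58) (kg xg30 yg13 zg0) (kg xg26 yg1 zg43) (kg xg31 yg46 zg53) (kg xg30 yg47 zg47) (kg xg31 yg33 zg44) (kg xg30 yg41 zg22) (kg xg23 yg41 zg35) (kg xg28 yg10 zg33)) (@D3.rec (fun _ => Pt) (kg xg23 yg30 zg8) (kg xg30 yg41 zg23) (kg xg23 yg24 zg38) (kg xg31 yg46 zg14) (kg xg32 yg31 zg61) (kg xg31 yg6 zg38) (kg xg23 yg41 zg61) (kg xg30 yg2 zg41) (kg xg25 yg44 zg9) (kg xg23 yg45 zg14) (kg xg25 yg42 zg49) (kg xg29 yg6 zg22) (kg xg23 yg25 zg0) (kg xg23 yg24 zg60) (kg xg30 yg0 zg44) (kg xg31 yg9 zg16) (kg xg29 yg51 zg37) (kg xg30 yg31 zg45) (kg xg29 yg51 zg43) (kg xg32 yg43 zg27) (kg xg30 yg33 zg15)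 (kg xg23 yg25 zg3) (kg xg31 yg49 zg37) (kg xg30 yg51 zg50) (kg xg23 yg25 zg4) (kg xg29 yg12 zg21) (kg xg31 yg7 zg15) (kg xg30 yg51 zg59) (kg xg26 yg26 zg30) (kg xg23 yg32 zg57) (kg xg23 yg25 zg54) (kg xg32 yg2 zg60) (kg xg23 yg25 zg40) (kg xg24 yg40 zg20) (kg xg23 yg25 zg39) (kg xg23 yg32 zg37) (kg xg25 yg2 zg13) (kg xg31 yg43 zg21) (kg xg29 yg51 zg40) (kg xg23 yg31 zg28) (kg xg23 yg33 zg12) (kg xg26 yg47 zg22) (kg xg26 yg8 zg48) (kg xg23 yg31 zg54) (kg xg29 yg10 zg49) (kg xg30 yg13 zg6) (kg xg30 yg20 zg36) (kg xg32 yg55 zg11) (kg xg23 yg37 zg24) (kg xg23 yg26 zg2) (kg xg23 yg26 zg0) (kg xg31 yg33 zg41) (kg xg29 yg26 zg38) (kg xg32 yg42 zg61) (kg xg29 yg10 zg61) (kg xg29 yg54 zg4) (kg xg27 yg40 zg43) (kg xg23 yg41 zg60) (kg xg32 yg42 zg55) (kg xg28 yg1 zg3) (kg xg30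 yg52 zg49) (kg xg30 yg40 zg28)) (@D3.rec (fun _ => Pt) (kg xg30 yg52 zg43) (kg xg23 yg26 zg10) (kg xg30 yg40 zg15) (kg xg23 yg26 zg12) (kg xg23 yg37 zg6) (kg xg30 yg17 zg5) (kg xg29 yg34 zg44) (kg xg25 yg14 zg50) (kg xg23 yg27 zg26) (kg xg26 yg7 zg18) (kg xg31 yg10 zg17) (kg xg25 yg40 zg2) (kg xg23 yg26 zg30) (kg xg27 yg18 zg28) (kg xg25 yg39 zg58) (kg xg31 yg9 zg54) (kg xg25 yg38 zg32) (kg xg30 yg10 zg33) (kg xg25 yg5 zg24) (kg xg32 yg55 zg25) (kg xg31 yg11 zg11) (kg xg23 yg26 zg47) (kg xg32 yg48 zg12) (kg xg26 yg47 zg43) (kg xg31 yg12 zg57) (kg xg31 yg10 zg37) (kg xg31 yg9 zg45) (kg xg30 yg10 zg0) (kg xg25 yg40 zg11) (kg xg31 yg58 zg19) (kg xg29 yg15 zg41) (kg xg30 yg9 zg60) (kg xg23 yg27 zg37) (kg xg30 yg41 zg17) (kg xg32 yg55 zg27) (kg xg30 yg43 zg48) (kg xg23 yg27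 zg32) (kg xg23 yg27 zg3) (kg xg32 yg21 zg9) (kg xg32 yg42 zg34) (kg xg23 yg27 zg4) (kg xg31 yg9 zg24) (kg xg29 yg58 zg19) (kg xg30 yg36 zg2) (kg xg31 yg23 zg49) (kg xg29 yg10 zg19) (kg xg23 yg27 zg40) (kg xg23 yg27 zg24) (kg xg27 yg54 zg28) (kg xg24 yg8 zg42) (kg xg29 yg5 zg21) (kg xg23 yg41 zg43) (kg xg32 yg49 zg8) (kg xg32 yg24 zg12) (kg xg30 yg10 zg9) (kg xg23 yg27 zg35) (kg xg32 yg1 zg23) (kg xg31 yg57 zg60) (kg xg31 yg5 zg37) (kg xg32 yg5 zg8) (kg xg23 yg30 zg5) (kg xg32 yg53 zg4)) (@D3.rec (fun _ => Pt) (kg xg31 yg49 zg27) (kg xg23 yg29 zg1) (kg xg23 yg27 zg58) (kg xg31 yg8 zg61) (kg xg23 yg28 zg7) (kg xg31 yg46 zg9) (kg xg23 yg27 zg57) (kg xg31 yg35 zg55) (kg xg31 yg27 zg57) (kg xg23 yg41 zg19) (kg xg31 yg9 zg4) (kg xg24 yg34 zg53) (kg xg23 yg28 zg6) (kg xg31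 yg9 zg21) (kg xg31 yg9 zg20) (kg xg31 yg9 zg58) (kg xg31 yg8 zg0) (kg xg32 yg53 zg12) (kg xg25 yg42 zg57) (kg xg29 yg3 zg34) (kg xg27 yg1 zg53) (kg xg31 yg11 zg36) (kg xg31 yg4 zg54) (kg xg30 yg41 zg58) (kg xg31 yg18 zg30) (kg xg32 yg55 zg29) (kg xg30 yg52 zg45) (kg xg23 yg28 zg26) (kg xg31 yg5 zg44) (kg xg23 yg28 zg27) (kg xg32 yg24 zg34) (kg xg29 yg4 zg37) (kg xg30 yg42 zg35) (kg xg25 yg40 zg5) (kg xg23 yg29 zg7) (kg xg31 yg11 zg24) (kg xg32 yg3 zg19) (kg xg31 yg9 zg11) (kg xg23 yg28 zg39) (kg xg30 yg41 zg16) (kg xg31 yg5 zg40) (kg xg31 yg9 zg32) (kg xg31 yg9 zg13) (kg xg23 yg41 zg48) (kg xg31 yg36 zg18) (kg xg28 yg4 zg37) (kg xg32 yg29 zg13) (kg xg32 yg29 zg14) (kg xg30 yg41 zg35) (kg xg23 yg28 zg43) (kg xg30 yg41 zg34) (kg xg31 yg10 zg3) (kg xg23 yg28 zg44) (kg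 xg25 yg14 zg52) (kg xg23 yg39 zg18) (kg xg23 yg28 zg51) (kg xg32 yg30 zg46) (kg xg29 yg23 zg16) (kg xg30 yg41 zg1) (kg xg25 yg40 zg8) (kg xg30 yg38 zg57) (kg xg31 yg57 zg51)) (@D3.rec (fun _ => Pt) (kg xg30 yg42 zg0) (kg xg30 yg36 zg54) (kg xg31 yg30 zg19) (kg xg31 yg56 zg50) (kg xg23 yg29 zg13) (kg xg32 yg42 zg60) (kg xg28 yg9 zg11) (kg xg32 yg29 zg7) (kg xg30 yg4 zg6) (kg xg23 yg30 zg15) (kg xg23 yg29 zg30) (kg xg30 yg31 zg44) (kg xg23 yg29 zg31) (kg xg31 yg10 zg29) (kg xg23 yg29 zg44) (kg xg31 yg37 zg0) (kg xg32 yg16 zg13) (kg xg31 yg57 zg4) (kg xg23 yg38 zg44) (kg xg23 yg29 zg48) (kg xg30 yg4 zg55) (kg xg23 yg38 zg40) (kg xg24 yg34 zg47) (kg xg32 yg39 zg11) (kg xg29 yg49 zg50) (kg xg31 yg37 zg1) (kg xg32 yg48 zg47) (kg xg25 yg42 zg53) (kg xg32 yg49 zg47) (kg xg30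 yg2 zg59) (kg xg28 yg9 zg35) (kg xg32 yg54 zg4) (kg xg23 yg30 zg7) (kg xg29 yg26 zg51) (kg xg30 yg42 zg23) (kg xg32 yg27 zg28) (kg xg31 yg3 zg58) (kg xg23 yg30 zg12) (kg xg32 yg43 zg56) (kg xg31 yg10 zg52) (kg xg31 yg4 zg43) (kg xg32 yg26 zg40) (kg xg29 yg12 zg8) (kg xg23 yg30 zg21) (kg xg31 yg4 zg29) (kg xg32 yg41 zg61) (kg xg30 yg35 zg60) (kg xg27 yg18 zg2) (kg xg23 yg30 zg24) (kg xg32 yg49 zg45) (kg xg31 yg11 zg4) (kg xg23 yg30 zg26) (kg xg30 yg41 zg24) (kg xg29 yg11 zg61) (kg xg23 yg30 zg53) (kg xg30 yg26 zg58) (kg xg23 yg31 zg53) (kg xg23 yg30 zg58) (kg xg31 yg11 zg38) (kg xg24 yg43 zg61) (kg xg23 yg32 zg59) (kg xg31 yg12 zg9)) (@D3.rec (fun _ => Pt) (kg xg23 yg31 zg9) (kg xg29 yg12 zg12) (kg xg31 yg37 zg58) (kg xg27 yg57 zg49) (kg xg23 yg31 zg14) (kg xg30 yg2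 zg11) (kg xg23 yg31 zg30) (kg xg31 yg6 zg1) (kg xg30 yg51 zg58) (kg xg26 yg8 zg41) (kg xg32 yg4 zg45) (kg xg30 yg33 zg25) (kg xg32 yg53 zg8) (kg xg30 yg33 zg23) (kg xg31 yg0 zg9) (kg xg30 yg3 zg37) (kg xg23 yg32 zg14) (kg xg32 yg6 zg53) (kg xg26 yg7 zg2) (kg xg26 yg9 zg61) (kg xg24 yg23 zg32) (kg xg26 yg0 zg45) (kg xg25 yg18 zg15) (kg xg23 yg32 zg47) (kg xg30 yg4 zg20) (kg xg31 yg44 zg59) (kg xg23 yg32 zg51) (kg xg28 yg13 zg31) (kg xg30 yg56 zg19) (kg xg27 yg41 zg46) (kg xg23 yg32 zg61) (kg xg26 yg3 zg26) (kg xg30 yg13 zg38) (kg xg31 yg2 zg16) (kg xg30 yg42 zg36) (kg xg23 yg33 zg22) (kg xg31 yg16 zg44) (kg xg31 yg2 zg5) (kg xg23 yg33 zg7) (kg xg25 yg1 zg19) (kg xg29 yg9 zg47) (kg xg27 yg18 zg10) (kg xg30 yg49 zg40) (kg xg32 yg44 zg16) (kg xg23 yg33 zg33) (kg xg31 yg50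 zg28) (kg xg23 yg33 zg34) (kg xg26 yg26 zg1) (kg xg28 yg11 zg18) (kg xg27 yg4 zg38) (kg xg25 yg46 zg13) (kg xg31 yg44 zg61) (kg xg26 yg0 zg49) (kg xg30 yg13 zg13) (kg xg27 yg48 zg13) (kg xg27 yg29 zg59) (kg xg28 yg2 zg22) (kg xg28 yg2 zg16) (kg xg24 yg12 zg16) (kg xg24 yg13 zg39) (kg xg30 yg5 zg28) (kg xg27 yg47 zg32)) (@D3.rec (fun _ => Pt) (kg xg26 yg12 zg39) (kg xg24 yg25 zg55) (kg xg30 yg22 zg26) (kg xg30 yg46 zg11) (kg xg28 yg20 zg44) (kg xg30 yg3 zg3) (kg xg29 yg22 zg4) (kg xg23 yg34 zg49) (kg xg27 yg28 zg8) (kg xg23 yg34 zg55) (kg xg26 yg13 zg50) (kg xg23 yg35 zg3) (kg xg23 yg35 zg5) (kg xg31 yg11 zg37) (kg xg31 yg2 zg26) (kg xg29 yg18 zg23) (kg xg30 yg37 zg35) (kg xg23 yg35 zg23) (kg xg28 yg26 zg12) (kg xg32 yg54 zg14) (kg xg31 yg34 zg48) (kg xg30 yg3 zg32)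 (kg xg30 yg2 zg27) (kg xg24 yg55 zg1) (kg xg24 yg43 zg39) (kg xg29 yg59 zg56) (kg xg30 yg20 zg26) (kg xg30 yg37 zg34) (kg xg28 yg2 zg14) (kg xg31 yg12 zg26) (kg xg29 yg48 zg37) (kg xg23 yg57 zg60) (kg xg26 yg2 zg15) (kg xg23 yg36 zg20) (kg xg25 yg37 zg8) (kg xg25 yg30 zg28) (kg xg25 yg38 zg7) (kg xg28 yg35 zg56) (kg xg28 yg6 zg18) (kg xg27 yg33 zg17) (kg xg23 yg36 zg54) (kg xg28 yg6 zg17) (kg xg28 yg45 zg40) (kg xg32 yg28 zg48) (kg xg26 yg17 zg9) (kg xg27 yg49 zg40) (kg xg28 yg12 zg46) (kg xg29 yg7 zg14) (kg xg30 yg35 zg55) (kg xg30 yg40 zg10) (kg xg32 yg32 zg33) (kg xg32 yg27 zg1) (kg xg30 yg7 zg21) (kg xg23 yg43 zg45) (kg xg25 yg39 zg2) (kg xg26 yg47 zg5) (kg xg29 yg11 zg0) (kg xg31 yg58 zg45) (kg xg29 yg11 zg40) (kg xg23 yg37 zg27) (kg xg31 yg4 zg16) (kg xg32 yg5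 zg1)) (@D3.rec (fun _ => Pt) (kg xg32 yg50 zg50) (kg xg30 yg41 zg60) (kg xg25 yg39 zg20) (kg xg23 yg37 zg31) (kg xg23 yg37 zg36) (kg xg23 yg42 zg12) (kg xg23 yg40 zg41) (kg xg31 yg7 zg13) (kg xg23 yg43 zg19) (kg xg26 yg15 zg42) (kg xg23 yg37 zg49) (kg xg29 yg41 zg30) (kg xg23 yg37 zg50) (kg xg29 yg41 zg32) (kg xg32 yg7 zg49) (kg xg28 yg25 zg49) (kg xg27 yg48 zg43) (kg xg30 yg23 zg19) (kg xg26 yg16 zg40) (kg xg32 yg31 zg44) (kg xg32 yg7 zg15) (kg xg23 yg41 zg12) (kg xg28 yg49 zg45) (kg xg23 yg43 zg40) (kg xg23 yg43 zg33) (kg xg31 yg11 zg50) (kg xg29 yg10 zg12) (kg xg26 yg8 zg4) (kg xg25 yg44 zg16) (kg xg23 yg41 zg53) (kg xg30 yg10 zg48) (kg xg32 yg30 zg47) (kg xg23 yg38 zg29) (kg xg32 yg53 zg42) (kg xg29 yg55 zg17) (kg xg23 yg38 zg30) (kg xg30 yg41 zg25) (kg xg32 yg30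 zg39) (kg xg27 yg51 zg38) (kg xg29 yg10 zg7) (kg xg28 yg11 zg55) (kg xg23 yg38 zg33) (kg xg31 yg4 zg26) (kg xg29 yg11 zg3) (kg xg29 yg11 zg4) (kg xg23 yg38 zg35) (kg xg29 yg10 zg10) (kg xg32 yg30 zg31) (kg xg32 yg54 zg9) (kg xg26 yg47 zg16) (kg xg30 yg42 zg13) (kg xg29 yg11 zg57) (kg xg32 yg53 zg18) (kg xg32 yg49 zg18) (kg xg31 yg10 zg46) (kg xg23 yg38 zg41) (kg xg31 yg10 zg58) (kg xg29 yg55 zg22) (kg xg23 yg38 zg42) (kg xg25 yg42 zg38) (kg xg31 yg4 zg3) (kg xg23 yg38 zg47)) (@D3.rec (fun _ => Pt) (kg xg25 yg39 zg9) (kg xg30 yg10 zg58) (kg xg23 yg38 zg53) (kg xg30 yg38 zg59) (kg xg30 yg41 zg7) (kg xg25 yg14 zg8) (kg xg24 yg34 zg50) (kg xg23 yg38 zg59) (kg xg31 yg4 zg6) (kg xg32 yg15 zg48) (kg xg32 yg0 zg12) (kg xg31 yg4 zg38) (kg xg28 yg49 zg44) (kg xg32 yg16 zg12)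 (kg xg29 yg13 zg59) (kg xg26 yg48 zg31) (kg xg31 yg2 zg19) (kg xg32 yg48 zg24) (kg xg30 yg4 zg56) (kg xg32 yg38 zg23) (kg xg23 yg39 zg17) (kg xg30 yg1 zg41) (kg xg29 yg17 zg34) (kg xg31 yg49 zg43) (kg xg31 yg3 zg34) (kg xg24 yg38 zg3) (kg xg24 yg38 zg2) (kg xg25 yg38 zg57) (kg xg29 yg59 zg32) (kg xg24 yg40 zg9) (kg xg23 yg39 zg34) (kg xg30 yg31 zg40) (kg xg31 yg6 zg41) (kg xg23 yg39 zg28) (kg xg30 yg10 zg26) (kg xg31 yg4 zg44) (kg xg24 yg17 zg43) (kg xg23 yg39 zg33) (kg xg24 yg17 zg45) (kg xg32 yg49 zg36) (kg xg32 yg55 zg49) (kg xg27 yg42 zg46) (kg xg24 yg40 zg11) (kg xg23 yg39 zg40) (kg xg32 yg15 zg47) (kg xg31 yg57 zg61) (kg xg24 yg17 zg26) (kg xg25 yg57 zg39) (kg xg23 yg39 zg38) (kg xg30 yg56 zg35) (kg xg24 yg15 zg17) (kg xg29 yg5 zg29) (kg xg24 yg50 zg57) (kg xg25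 yg4 zg46) (kg xg31 yg10 zg44) (kg xg30 yg1 zg35) (kg xg23 yg39 zg42) (kg xg32 yg22 zg2) (kg xg31 yg58 zg41) (kg xg29 yg56 zg45) (kg xg32 yg55 zg45) (kg xg27 yg33 zg20)) (@D3.rec (fun _ => Pt) (kg xg32 yg3 zg51) (kg xg32 yg31 zg35) (kg xg23 yg39 zg46) (kg xg31 yg4 zg52) (kg xg31 yg27 zg47) (kg xg24 yg15 zg55) (kg xg23 yg39 zg54) (kg xg24 yg39 zg48) (kg xg26 yg9 zg26) (kg xg31 yg10 zg20) (kg xg29 yg51 zg9) (kg xg31 yg9 zg35) (kg xg31 yg56 zg44) (kg xg23 yg41 zg59) (kg xg23 yg40 zg7) (kg xg31 yg58 zg3) (kg xg31 yg45 zg48) (kg xg30 yg24 zg40) (kg xg31 yg10 zg32) (kg xg32 yg4 zg30) (kg xg31 yg30 zg24) (kg xg23 yg41 zg15) (kg xg30 yg40 zg7) (kg xg32 yg16 zg21) (kg xg31 yg37 zg49) (kg xg31 yg54 zg35) (kg xg23 yg40 zg27) (kg xg27 yg58 zg5) (kg xg30 yg4 zg46) (kg xg31 yg37 zg48)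 (kg xg32 yg16 zg5) (kg xg23 yg41 zg0) (kg xg29 yg5 zg12) (kg xg23 yg40 zg60) (kg xg28 yg52 zg57) (kg xg31 yg3 zg25) (kg xg24 yg40 zg13) (kg xg30 yg24 zg41) (kg xg23 yg40 zg57) (kg xg23 yg40 zg54) (kg xg30 yg20 zg16) (kg xg31 yg58 zg1) (kg xg25 yg37 zg61) (kg xg31 yg58 zg0) (kg xg23 yg40 zg61) (kg xg31 yg23 zg31) (kg xg31 yg8 zg55) (kg xg23 yg57 zg19) (kg xg29 yg59 zg35) (kg xg30 yg20 zg15) (kg xg30 yg31 zg32) (kg xg29 yg12 zg30) (kg xg31 yg5 zg38) (kg xg27 yg18 zg22) (kg xg30 yg11 zg20) (kg xg28 yg34 zg42) (kg xg31 yg49 zg31) (kg xg31 yg8 zg56) (kg xg23 yg41 zg22) (kg xg23 yg41 zg23) (kg xg27 yg55 zg32) (kg xg32 yg27 zg47)) (@D3.rec (fun _ => Pt) (kg xg31 yg37 zg41) (kg xg24 yg33 zg56) (kg xg31 yg5 zg32) (kg xg28 yg57 zg27) (kg xg31 yg5 zg51) (kg xg23 yg42 zg3) (kg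 xg31 yg44 zg32) (kg xg31 yg16 zg60) (kg xg23 yg41 zg36) (kg xg27 yg58 zg13) (kg xg30 yg51 zg60) (kg xg31 yg5 zg53) (kg xg23 yg41 zg46) (kg xg29 yg4 zg61) (kg xg29 yg4 zg52) (kg xg24 yg15 zg7) (kg xg32 yg10 zg41) (kg xg25 yg4 zg26) (kg xg28 yg38 zg16) (kg xg32 yg27 zg45) (kg xg30 yg10 zg12) (kg xg32 yg5 zg20) (kg xg32 yg29 zg8) (kg xg27 yg54 zg15) (kg xg26 yg1 zg46) (kg xg32 yg49 zg5) (kg xg26 yg0 zg30) (kg xg31 yg58 zg39) (kg xg26 yg59 zg16) (kg xg30 yg34 zg55) (kg xg30 yg17 zg39) (kg xg28 yg3 zg47) (kg xg29 yg49 zg41) (kg xg30 yg23 zg32) (kg xg23 yg43 zg4) (kg xg32 yg55 zg56) (kg xg31 yg10 zg48) (kg xg26 yg9 zg30) (kg xg23 yg43 zg7) (kg xg31 yg35 zg59) (kg xg28 yg2 zg7) (kg xg31 yg12 zg1) (kg xg28 yg2 zg32) (kg xg25 yg2 zg55) (kg xg29 yg11 zg42) (kg xg31 yg44 zg18)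 (kg xg32 yg25 zg4) (kg xg31 yg12 zg3) (kg xg32 yg32 zg40) (kg xg27 yg57 zg18) (kg xg32 yg27 zg43) (kg xg32 yg28 zg16) (kg xg24 yg34 zg3) (kg xg32 yg30 zg44) (kg xg32 yg3 zg47) (kg xg32 yg43 zg11) (kg xg23 yg43 zg44) (kg xg31 yg16 zg43) (kg xg30 yg41 zg28) (kg xg31 yg34 zg26) (kg xg27 yg28 zg41) (kg xg31 yg11 zg41)) (@D3.rec (fun _ => Pt) (kg xg32 yg24 zg51) (kg xg32 yg55 zg59) (kg xg31 yg11 zg47) (kg xg31 yg45 zg5) (kg xg23 yg44 zg10) (kg xg32 yg49 zg39) (kg xg32 yg6 zg41) (kg xg23 yg44 zg38) (kg xg25 yg46 zg23) (kg xg23 yg44 zg49) (kg xg27 yg58 zg4) (kg xg26 yg7 zg7) (kg xg32 yg28 zg19) (kg xg32 yg3 zg46) (kg xg32 yg3 zg29) (kg xg23 yg44 zg56) (kg xg30 yg32 zg36) (kg xg27 yg57 zg60) (kg xg25 yg0 zg0) (kg xg27 yg28 zg38) (kg xg31 yg59 zg29) (kg xg23 yg45 zg10) (kg xg32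 yg32 zg25) (kg xg23 yg45 zg15) (kg xg30 yg7 zg20) (kg xg30 yg5 zg32) (kg xg23 yg45 zg21) (kg xg23 yg57 zg52) (kg xg28 yg39 zg47) (kg xg31 yg33 zg15) (kg xg32 yg19 zg56) (kg xg23 yg48 zg46) (kg xg23 yg45 zg40) (kg xg31 yg19 zg23) (kg xg32 yg53 zg43) (kg xg32 yg47 zg50) (kg xg31 yg13 zg60) (kg xg30 yg16 zg0) (kg xg28 yg45 zg36) (kg xg23 yg49 zg16) (kg xg24 yg21 zg34) (kg xg28 yg30 zg4) (kg xg30 yg29 zg26) (kg xg24 yg25 zg18) (kg xg23 yg45 zg61) (kg xg28 yg55 zg38) (kg xg24 yg21 zg19) (kg xg23 yg46 zg5) (kg xg24 yg10 zg0) (kg xg24 yg25 zg11) (kg xg24 yg5 zg51) (kg xg23 yg46 zg9) (kg xg23 yg48 zg24) (kg xg24 yg0 zg60) (kg xg24 yg26 zg15) (kg xg30 yg42 zg18) (kg xg26 yg58 zg33) (kg xg23 yg46 zg29) (kg xg32 yg34 zg9) (kg xg28 yg9 zg0) (kg xg23 yg46 zg39) (kg xg28 yg13 zg40))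 (@D3.rec (fun _ => Pt) (kg xg31 yg36 zg47) (kg xg29 yg47 zg58) (kg xg29 yg3 zg33) (kg xg23 yg46 zg52) (kg xg28 yg32 zg3) (kg xg26 yg20 zg58) (kg xg31 yg30 zg36) (kg xg24 yg5 zg20) (kg xg32 yg48 zg4) (kg xg24 yg2 zg9) (kg xg23 yg47 zg11) (kg xg27 yg8 zg55) (kg xg27 yg15 zg0) (kg xg23 yg47 zg27) (kg xg23 yg47 zg21) (kg xg24 yg44 zg22) (kg xg24 yg33 zg8) (kg xg27 yg56 zg26) (kg xg29 yg49 zg10) (kg xg23 yg56 zg40) (kg xg27 yg23 zg0) (kg xg29 yg30 zg52) (kg xg32 yg1 zg51) (kg xg32 yg50 zg35) (kg xg29 yg45 zg8) (kg xg28 yg45 zg53) (kg xg28 yg36 zg15) (kg xg32 yg30 zg4) (kg xg30 yg49 zg59) (kg xg23 yg48 zg20) (kg xg23 yg47 zg60) (kg xg32 yg14 zg58) (kg xg32 yg35 zg52) (kg xg29 yg29 zg32) (kg xg23 yg48 zg9) (kg xg32 yg52 zg56) (kg xg26 yg53 zg49) (kg xg24 yg12 zg29) (kg xg24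 yg3 zg59) (kg xg30 yg18 zg29) (kg xg32 yg51 zg14) (kg xg24 yg10 zg49) (kg xg30 yg38 zg39) (kg xg31 yg23 zg6) (kg xg23 yg56 zg34) (kg xg24 yg30 zg0) (kg xg30 yg36 zg57) (kg xg30 yg48 zg45) (kg xg23 yg52 zg49) (kg xg31 yg19 zg27) (kg xg32 yg39 zg24) (kg xg32 yg39 zg52) (kg xg32 yg20 zg30) (kg xg32 yg22 zg43) (kg xg27 yg16 zg57) (kg xg31 yg33 zg12) (kg xg32 yg56 zg5) (kg xg32 yg20 zg20) (kg xg32 yg51 zg18) (kg xg28 yg45 zg61) (kg xg31 yg12 zg38) (kg xg28 yg18 zg37)) (@D3.rec (fun _ => Pt) (kg xg23 yg49 zg11) (kg xg29 yg37 zg60) (kg xg29 yg37 zg57) (kg xg29 yg37 zg59) (kg xg29 yg32 zg15) (kg xg32 yg18 zg12) (kg xg28 yg22 zg8) (kg xg32 yg22 zg60) (kg xg31 yg12 zg49) (kg xg31 yg18 zg9) (kg xg31 yg28 zg16) (kg xg32 yg17 zg56) (kg xg24 yg20 zg14) (kg xg23 yg49 zg30) (kg xg24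 yg20 zg28) (kg xg24 yg19 zg28) (kg xg28 yg25 zg30) (kg xg23 yg56 zg10) (kg xg30 yg7 zg37) (kg xg27 yg45 zg6) (kg xg23 yg49 zg55) (kg xg27 yg40 zg48) (kg xg23 yg50 zg1) (kg xg28 yg32 zg13) (kg xg31 yg17 zg26) (kg xg23 yg50 zg10) (kg xg24 yg55 zg5) (kg xg28 yg44 zg0) (kg xg31 yg18 zg7) (kg xg27 yg55 zg9) (kg xg23 yg50 zg15) (kg xg23 yg50 zg22) (kg xg26 yg4 zg8) (kg xg27 yg31 zg13) (kg xg30 yg1 zg18) (kg xg23 yg50 zg38) (kg xg23 yg50 zg28) (kg xg23 yg50 zg37) (kg xg32 yg53 zg29) (kg xg27 yg50 zg7) (kg xg32 yg29 zg12) (kg xg23 yg50 zg33) (kg xg32 yg31 zg7) (kg xg28 yg25 zg47) (kg xg28 yg2 zg19) (kg xg27 yg26 zg18) (kg xg26 yg12 zg24) (kg xg31 yg8 zg18) (kg xg31 yg38 zg33) (kg xg32 yg54 zg32) (kg xg23 yg50 zg58) (kg xg28 yg6 zg4) (kg xg23 yg50 zg54) (kg xg28 yg5 zg25) (kg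 xg32 yg25 zg29) (kg xg30 yg44 zg48) (kg xg32 yg55 zg40) (kg xg23 yg50 zg56) (kg xg32 yg27 zg0) (kg xg32 yg44 zg5) (kg xg32 yg32 zg0) (kg xg27 yg50 zg24)) (@D3.rec (fun _ => Pt) (kg xg26 yg49 zg13) (kg xg24 yg24 zg42) (kg xg31 yg13 zg6) (kg xg31 yg38 zg8) (kg xg30 yg39 zg27) (kg xg23 yg51 zg16) (kg xg31 yg45 zg11) (kg xg26 yg30 zg39) (kg xg23 yg51 zg17) (kg xg24 yg47 zg60) (kg xg32 yg29 zg49) (kg xg30 yg34 zg31) (kg xg32 yg53 zg48) (kg xg32 yg20 zg47) (kg xg32 yg41 zg0) (kg xg23 yg51 zg32) (kg xg24 yg24 zg43) (kg xg30 yg48 zg36) (kg xg30 yg38 zg37) (kg xg30 yg44 zg55) (kg xg23 yg51 zg34) (kg xg31 yg33 zg21) (kg xg27 yg54 zg61) (kg xg28 yg6 zg8) (kg xg32 yg29 zg43) (kg xg27 yg40 zg5) (kg xg29 yg20 zg39) (kg xg28 yg46 zg55) (kg xg28 yg46 zg60) (kg xg28 yg30 zg61) (kg xg28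 yg46 zg59) (kg xg29 yg2 zg24) (kg xg31 yg39 zg21) (kg xg27 yg30 zg45) (kg xg27 yg40 zg11) (kg xg25 yg34 zg28) (kg xg28 yg21 zg25) (kg xg23 yg52 zg2) (kg xg30 yg27 zg38) (kg xg27 yg31 zg54) (kg xg30 yg50 zg34) (kg xg32 yg15 zg25) (kg xg27 yg56 zg16) (kg xg30 yg37 zg1) (kg xg30 yg56 zg28) (kg xg31 yg24 zg4) (kg xg23 yg52 zg48) (kg xg30 yg22 zg51) (kg xg24 yg6 zg45) (kg xg30 yg46 zg35) (kg xg23 yg53 zg12) (kg xg29 yg1 zg27) (kg xg23 yg53 zg4) (kg xg32 yg2 zg11) (kg xg30 yg49 zg26) (kg xg24 yg6 zg34) (kg xg23 yg56 zg58) (kg xg23 yg53 zg18) (kg xg32 yg19 zg44) (kg xg30 yg24 zg10) (kg xg23 yg53 zg22) (kg xg27 yg15 zg5)) (@D3.rec (fun _ => Pt) (kg xg30 yg49 zg29) (kg xg23 yg53 zg31) (kg xg26 yg26 zg61) (kg xg29 yg54 zg36) (kg xg32 yg42 zg48) (kg xg23 yg53 zg33) (kg xg32 yg35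 zg51) (kg xg23 yg53 zg44) (kg xg23 yg53 zg39) (kg xg25 yg57 zg60) (kg xg31 yg23 zg28) (kg xg32 yg34 zg16) (kg xg24 yg1 zg57) (kg xg28 yg23 zg23) (kg xg23 yg54 zg1) (kg xg32 yg24 zg27) (kg xg27 yg7 zg22) (kg xg27 yg50 zg53) (kg xg23 yg54 zg9) (kg xg27 yg15 zg4) (kg xg31 yg51 zg52) (kg xg32 yg29 zg52) (kg xg29 yg53 zg11) (kg xg23 yg54 zg15) (kg xg32 yg29 zg54) (kg xg29 yg41 zg45) (kg xg32 yg34 zg41) (kg xg23 yg54 zg20) (kg xg32 yg34 zg40) (kg xg32 yg55 zg5) (kg xg32 yg53 zg27) (kg xg23 yg54 zg35) (kg xg23 yg54 zg25) (kg xg23 yg54 zg34) (kg xg30 yg43 zg54) (kg xg32 yg44 zg6) (kg xg32 yg51 zg36) (kg xg28 yg8 zg29) (kg xg28 yg31 zg9) (kg xg31 yg16 zg57) (kg xg26 yg31 zg44) (kg xg30 yg34 zg58) (kg xg31 yg11 zg57) (kg xg23 yg54 zg31) (kg xg31 yg11 zg56) (kg xg25 yg21 zg21)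 (kg xg24 yg2 zg48) (kg xg32 yg6 zg54) (kg xg23 yg54 zg53) (kg xg27 yg18 zg23) (kg xg27 yg18 zg19) (kg xg27 yg23 zg40) (kg xg31 yg1 zg15) (kg xg31 yg9 zg5) (kg xg31 yg49 zg46) (kg xg32 yg23 zg21) (kg xg32 yg56 zg21) (kg xg31 yg16 zg41) (kg xg32 yg27 zg57) (kg xg31 yg11 zg7) (kg xg23 yg54 zg59) (kg xg29 yg14 zg1)) (@D3.rec (fun _ => Pt) (kg xg29 yg43 zg7) (kg xg30 yg21 zg7) (kg xg24 yg8 zg58) (kg xg24 yg8 zg5) (kg xg27 yg10 zg55) (kg xg27 yg12 zg3) (kg xg32 yg43 zg21) (kg xg30 yg0 zg11) (kg xg24 yg2 zg23) (kg xg30 yg14 zg45) (kg xg23 yg55 zg44) (kg xg25 yg21 zg61) (kg xg27 yg44 zg15) (kg xg29 yg27 zg30) (kg xg30 yg27 zg9) (kg xg23 yg55 zg47) (kg xg30 yg27 zg8) (kg xg31 yg30 zg9) (kg xg28 yg56 zg31) (kg xg32 yg47 zg57) (kg xg31 yg22 zg26) (kg xg32 yg23 zg60) (kg xg30 yg27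 zg28) (kg xg24 yg10 zg12) (kg xg31 yg34 zg13) (kg xg24 yg7 zg26) (kg xg24 yg1 zg58) (kg xg32 yg36 zg26) (kg xg23 yg57 zg14) (kg xg24 yg7 zg44) (kg xg24 yg7 zg42) (kg xg25 yg36 zg17) (kg xg28 yg39 zg2) (kg xg24 yg12 zg28) (kg xg31 yg55 zg20) (kg xg27 yg43 zg51) (kg xg27 yg53 zg7) (kg xg32 yg38 zg12) (kg xg32 yg24 zg19) (kg xg25 yg53 zg1) (kg xg31 yg26 zg49) (kg xg25 yg24 zg26) (kg xg31 yg19 zg35) (kg xg24 yg27 zg56) (kg xg24 yg0 zg13) (kg xg32 yg8 zg14) (kg xg30 yg52 zg6) (kg xg31 yg33 zg40) (kg xg23 yg57 zg4) (kg xg26 yg36 zg49) (kg xg23 yg57 zg16) (kg xg24 yg1 zg21) (kg xg29 yg47 zg29) (kg xg26 yg54 zg37) (kg xg30 yg56 zg44) (kg xg26 yg42 zg47) (kg xg30 yg16 zg22) (kg xg28 yg39 zg35) (kg xg32 yg18 zg28) (kg xg23 yg57 zg32) (kg xg30 yg28 zg39) (kg xg28 yg49 zg12)) (@D3.rec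 (fun _ => Pt) (kg xg28 yg30 zg2) (kg xg23 yg58 zg23) (kg xg31 yg23 zg41) (kg xg25 yg59 zg44) (kg xg24 yg30 zg21) (kg xg25 yg59 zg27) (kg xg28 yg30 zg15) (kg xg27 yg52 zg36) (kg xg27 yg6 zg30) (kg xg29 yg13 zg23) (kg xg28 yg38 zg52) (kg xg24 yg1 zg23) (kg xg29 yg18 zg2) (kg xg25 yg19 zg52) (kg xg23 yg58 zg27) (kg xg24 yg23 zg27) (kg xg24 yg2 zg3) (kg xg29 yg59 zg43) (kg xg24 yg22 zg19) (kg xg31 yg45 zg31) (kg xg29 yg59 zg49) (kg xg24 yg21 zg8) (kg xg24 yg20 zg0) (kg xg24 yg20 zg4) (kg xg26 yg47 zg56) (kg xg31 yg41 zg57) (kg xg30 yg10 zg21) (kg xg28 yg53 zg56) (kg xg23 yg59 zg19) (kg xg26 yg3 zg22) (kg xg31 yg3 zg7) (kg xg24 yg24 zg3) (kg xg31 yg32 zg42) (kg xg29 yg10 zg35) (kg xg29 yg11 zg50) (kg xg23 yg59 zg39) (kg xg27 yg42 zg50) (kg xg24 yg1 zg25) (kg xg30 yg39 zg3)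 (kg xg24 yg30 zg4) (kg xg32 yg47 zg48) (kg xg24 yg28 zg46) (kg xg23 yg59 zg52) (kg xg24 yg28 zg45) (kg xg23 yg59 zg55) (kg xg24 yg28 zg50) (kg xg24 yg28 zg34) (kg xg28 yg44 zg40) (kg xg29 yg9 zg17) (kg xg32 yg43 zg40) (kg xg28 yg29 zg8) (kg xg28 yg29 zg3) (kg xg24 yg26 zg30) (kg xg24 yg29 zg24) (kg xg30 yg12 zg9) (kg xg31 yg31 zg32) (kg xg32 yg24 zg8) (kg xg31 yg28 zg29) (kg xg31 yg28 zg30) (kg xg26 yg38 zg46) (kg xg24 yg26 zg45) (kg xg31 yg19 zg48)) (@D3.rec (fun _ => Pt) (kg xg24 yg26 zg29) (kg xg26 yg33 zg22) (kg xg31 yg19 zg45) (kg xg29 yg26 zg14) (kg xg32 yg38 zg1) (kg xg24 yg26 zg43) (kg xg24 yg26 zg23) (kg xg24 yg0 zg21) (kg xg26 yg40 zg2) (kg xg26 yg39 zg58) (kg xg26 yg9 zg8) (kg xg28 yg43 zg43) (kg xg27 yg11 zg19) (kg xg28 yg39 zg3) (kg xg32 yg8 zg58) (kg xg24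 yg0 zg37) (kg xg24 yg13 zg7) (kg xg27 yg9 zg42) (kg xg29 yg33 zg44) (kg xg24 yg29 zg61) (kg xg30 yg31 zg6) (kg xg31 yg17 zg42) (kg xg32 yg9 zg12) (kg xg30 yg12 zg2) (kg xg30 yg30 zg58) (kg xg30 yg28 zg20) (kg xg32 yg55 zg39) (kg xg32 yg52 zg55) (kg xg30 yg31 zg17) (kg xg30 yg28 zg26) (kg xg24 yg1 zg0) (kg xg24 yg30 zg27) (kg xg28 yg52 zg33) (kg xg32 yg56 zg25) (kg xg30 yg17 zg34) (kg xg29 yg32 zg22) (kg xg24 yg1 zg6) (kg xg31 yg55 zg29) (kg xg31 yg17 zg56) (kg xg29 yg44 zg47) (kg xg28 yg45 zg21) (kg xg31 yg29 zg28) (kg xg24 yg1 zg26) (kg xg31 yg18 zg29) (kg xg32 yg38 zg28) (kg xg31 yg19 zg3) (kg xg28 yg38 zg56) (kg xg31 yg34 zg55) (kg xg30 yg30 zg17) (kg xg24 yg26 zg21) (kg xg29 yg8 zg26) (kg xg24 yg1 zg44) (kg xg28 yg38 zg39) (kg xg28 yg15 zg50) (kg xg24 yg2 zg0) (kg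 xg24 yg1 zg53) (kg xg30 yg21 zg16) (kg xg24 yg1 zg60) (kg xg32 yg20 zg43) (kg xg32 yg53 zg1) (kg xg31 yg52 zg41) (kg xg32 yg19 zg24)) (@D3.rec (fun _ => Pt) (kg xg32 yg56 zg35) (kg xg30 yg27 zg32) (kg xg32 yg52 zg13) (kg xg32 yg47 zg29) (kg xg24 yg1 zg61) (kg xg30 yg19 zg17) (kg xg32 yg4 zg17) (kg xg31 yg12 zg52) (kg xg28 yg53 zg31) (kg xg24 yg2 zg12) (kg xg32 yg16 zg35) (kg xg30 yg34 zg29) (kg xg29 yg50 zg11) (kg xg29 yg39 zg5) (kg xg32 yg53 zg10) (kg xg30 yg17 zg37) (kg xg24 yg39 zg10) (kg xg26 yg37 zg30) (kg xg32 yg10 zg48) (kg xg28 yg54 zg10) (kg xg26 yg33 zg39) (kg xg24 yg2 zg25) (kg xg24 yg28 zg33) (kg xg24 yg34 zg58) (kg xg27 yg17 zg3) (kg xg24 yg2 zg36) (kg xg26 yg37 zg19) (kg xg31 yg48 zg60) (kg xg26 yg38 zg43) (kg xg30 yg9 zg52) (kg xg30 yg55 zg59) (kg xg27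 yg11 zg61) (kg xg31 yg59 zg33) (kg xg27 yg59 zg37) (kg xg28 yg51 zg30) (kg xg24 yg2 zg47) (kg xg29 yg17 zg14) (kg xg28 yg51 zg29) (kg xg25 yg21 zg53) (kg xg32 yg47 zg47) (kg xg29 yg40 zg40) (kg xg24 yg3 zg49) (kg xg32 yg32 zg51) (kg xg31 yg36 zg58) (kg xg32 yg25 zg24) (kg xg32 yg41 zg33) (kg xg28 yg46 zg61) (kg xg31 yg48 zg25) (kg xg26 yg9 zg47) (kg xg31 yg50 zg54) (kg xg28 yg46 zg53) (kg xg31 yg52 zg45) (kg xg31 yg24 zg27) (kg xg28 yg41 zg46) (kg xg32 yg41 zg14) (kg xg31 yg35 zg35) (kg xg29 yg28 zg17) (kg xg29 yg17 zg11) (kg xg26 yg26 zg0) (kg xg29 yg33 zg39) (kg xg24 yg3 zg32) (kg xg24 yg3 zg31)) (@D3.rec (fun _ => Pt) (kg xg29 yg43 zg19) (kg xg31 yg26 zg10) (kg xg30 yg8 zg27) (kg xg31 yg26 zg11) (kg xg29 yg46 zg34) (kg xg32 yg23 zg8) (kg xg32 yg11 zg14) (kg xg26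 yg38 zg9) (kg xg29 yg7 zg36) (kg xg31 yg41 zg21) (kg xg29 yg15 zg20) (kg xg32 yg14 zg0) (kg xg24 yg3 zg60) (kg xg24 yg3 zg58) (kg xg30 yg26 zg60) (kg xg31 yg52 zg11) (kg xg29 yg14 zg28) (kg xg32 yg39 zg4) (kg xg26 yg53 zg25) (kg xg28 yg53 zg50) (kg xg32 yg1 zg5) (kg xg31 yg17 zg13) (kg xg31 yg39 zg52) (kg xg24 yg3 zg54) (kg xg29 yg41 zg39) (kg xg32 yg46 zg55) (kg xg24 yg39 zg58) (kg xg30 yg27 zg15) (kg xg27 yg37 zg7) (kg xg31 yg51 zg11) (kg xg24 yg3 zg56) (kg xg32 yg47 zg9) (kg xg32 yg36 zg2) (kg xg29 yg21 zg42) (kg xg31 yg41 zg40) (kg xg32 yg53 zg3) (kg xg30 yg36 zg29) (kg xg32 yg52 zg57) (kg xg25 yg31 zg53) (kg xg31 yg37 zg23) (kg xg25 yg5 zg31) (kg xg32 yg31 zg11) (kg xg30 yg56 zg50) (kg xg24 yg4 zg19) (kg xg24 yg4 zg12) (kg xg24 yg4 zg18) (kg xg24 yg4 zg14) (kg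 xg29 yg31 zg32) (kg xg32 yg34 zg24) (kg xg28 yg56 zg52) (kg xg31 yg26 zg13) (kg xg29 yg47 zg35) (kg xg31 yg28 zg25) (kg xg32 yg10 zg35) (kg xg32 yg39 zg18) (kg xg25 yg5 zg51) (kg xg24 yg4 zg25) (kg xg31 yg24 zg39) (kg xg31 yg24 zg37) (kg xg31 yg21 zg21) (kg xg24 yg4 zg36) (kg xg31 yg24 zg34)) (@D3.rec (fun _ => Pt) (kg xg29 yg27 zg17) (kg xg31 yg40 zg59) (kg xg24 yg4 zg33) (kg xg26 yg2 zg1) (kg xg28 yg31 zg58) (kg xg32 yg39 zg19) (kg xg27 yg7 zg55) (kg xg32 yg55 zg7) (kg xg31 yg24 zg47) (kg xg30 yg27 zg25) (kg xg24 yg4 zg52) (kg xg29 yg30 zg23) (kg xg29 yg23 zg34) (kg xg25 yg4 zg31) (kg xg29 yg24 zg49) (kg xg26 yg42 zg56) (kg xg31 yg28 zg54) (kg xg31 yg25 zg5) (kg xg28 yg49 zg28) (kg xg30 yg32 zg31) (kg xg30 yg23 zg34) (kg xg24 yg46 zg3) (kg xg26 yg20 zg21) (kg xg31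 yg23 zg10) (kg xg32 yg54 zg51) (kg xg32 yg48 zg1) (kg xg31 yg17 zg17) (kg xg25 yg18 zg33) (kg xg24 yg18 zg58) (kg xg29 yg30 zg34) (kg xg32 yg56 zg43) (kg xg24 yg30 zg16) (kg xg29 yg25 zg43) (kg xg29 yg35 zg40) (kg xg24 yg38 zg56) (kg xg24 yg6 zg41) (kg xg32 yg19 zg40) (kg xg30 yg49 zg5) (kg xg29 yg3 zg8) (kg xg31 yg22 zg51) (kg xg32 yg46 zg35) (kg xg24 yg6 zg6) (kg xg32 yg53 zg51) (kg xg28 yg55 zg41) (kg xg32 yg19 zg37) (kg xg29 yg39 zg24) (kg xg24 yg6 zg21) (kg xg30 yg35 zg5) (kg xg31 yg36 zg36) (kg xg24 yg6 zg29) (kg xg32 yg8 zg45) (kg xg31 yg22 zg37) (kg xg29 yg1 zg42) (kg xg32 yg22 zg53) (kg xg29 yg1 zg28) (kg xg24 yg6 zg38) (kg xg29 yg8 zg52) (kg xg30 yg24 zg8) (kg xg24 yg6 zg50) (kg xg24 yg6 zg48) (kg xg24 yg6 zg52) (kg xg24 yg6 zg49)) (@D3.rec (fun _ => Pt) (kg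 xg32 yg20 zg8) (kg xg31 yg33 zg27) (kg xg24 yg6 zg51) (kg xg32 yg30 zg27) (kg xg30 yg18 zg36) (kg xg30 yg50 zg31) (kg xg32 yg54 zg56) (kg xg30 yg50 zg30) (kg xg24 yg6 zg56) (kg xg31 yg13 zg43) (kg xg30 yg50 zg38) (kg xg32 yg19 zg39) (kg xg29 yg28 zg6) (kg xg32 yg37 zg6) (kg xg30 yg46 zg8) (kg xg27 yg9 zg39) (kg xg26 yg27 zg51) (kg xg27 yg19 zg34) (kg xg30 yg6 zg42) (kg xg24 yg7 zg40) (kg xg31 yg3 zg38) (kg xg31 yg25 zg46) (kg xg31 yg33 zg25) (kg xg24 yg7 zg48) (kg xg25 yg43 zg12) (kg xg30 yg47 zg45) (kg xg30 yg16 zg50) (kg xg31 yg16 zg10) (kg xg30 yg57 zg4) (kg xg25 yg34 zg13) (kg xg25 yg34 zg14) (kg xg32 yg32 zg9) (kg xg26 yg58 zg1) (kg xg24 yg8 zg32) (kg xg27 yg54 zg29) (kg xg32 yg34 zg59) (kg xg24 yg8 zg46) (kg xg26 yg25 zg58) (kg xg24 yg13 zg23) (kg xg25 yg46 zg12)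 (kg xg32 yg0 zg18) (kg xg24 yg25 zg54) (kg xg24 yg9 zg5) (kg xg24 yg12 zg59) (kg xg28 yg5 zg59) (kg xg26 yg27 zg60) (kg xg30 yg45 zg12) (kg xg30 yg50 zg59) (kg xg32 yg54 zg33) (kg xg28 yg59 zg28) (kg xg24 yg11 zg20) (kg xg27 yg12 zg20) (kg xg28 yg39 zg59) (kg xg24 yg25 zg14) (kg xg32 yg53 zg34) (kg xg32 yg39 zg60) (kg xg31 yg52 zg61) (kg xg28 yg45 zg23) (kg xg25 yg23 zg14) (kg xg24 yg21 zg6) (kg xg26 yg48 zg24) (kg xg30 yg50 zg18)) (@D3.rec (fun _ => Pt) (kg xg31 yg41 zg33) (kg xg32 yg16 zg34) (kg xg31 yg3 zg59) (kg xg24 yg10 zg47) (kg xg31 yg15 zg46) (kg xg30 yg36 zg6) (kg xg30 yg22 zg42) (kg xg32 yg37 zg5) (kg xg29 yg8 zg49) (kg xg31 yg31 zg4) (kg xg24 yg10 zg61) (kg xg32 yg17 zg35) (kg xg27 yg8 zg28) (kg xg30 yg12 zg27) (kg xg30 yg22 zg38) (kg xg30 yg37 zg48) (kg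 xg30 yg37 zg52) (kg xg24 yg11 zg8) (kg xg31 yg53 zg39) (kg xg26 yg11 zg6) (kg xg28 yg59 zg54) (kg xg31 yg41 zg42) (kg xg29 yg44 zg35) (kg xg29 yg0 zg45) (kg xg28 yg59 zg33) (kg xg26 yg37 zg14) (kg xg25 yg8 zg5) (kg xg25 yg49 zg54) (kg xg31 yg18 zg56) (kg xg30 yg27 zg50) (kg xg24 yg11 zg32) (kg xg27 yg36 zg58) (kg xg31 yg26 zg52) (kg xg31 yg21 zg61) (kg xg24 yg11 zg42) (kg xg32 yg44 zg43) (kg xg31 yg26 zg23) (kg xg24 yg11 zg44) (kg xg32 yg21 zg46) (kg xg31 yg21 zg56) (kg xg29 yg36 zg23) (kg xg31 yg21 zg47) (kg xg32 yg51 zg2) (kg xg31 yg27 zg26) (kg xg29 yg5 zg16) (kg xg31 yg55 zg22) (kg xg29 yg10 zg18) (kg xg30 yg9 zg56) (kg xg30 yg16 zg44) (kg xg31 yg55 zg37) (kg xg32 yg9 zg18) (kg xg26 yg38 zg45) (kg xg32 yg47 zg49) (kg xg31 yg29 zg47) (kg xg24 yg25 zg1) (kg xg24 yg12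 zg5) (kg xg24 yg25 zg0) (kg xg24 yg12 zg7) (kg xg29 yg21 zg37) (kg xg29 yg20 zg53) (kg xg26 yg30 zg35) (kg xg24 yg13 zg12)) (@D3.rec (fun _ => Pt) (kg xg29 yg20 zg40) (kg xg28 yg8 zg44) (kg xg27 yg53 zg4) (kg xg24 yg13 zg25) (kg xg27 yg24 zg26) (kg xg31 yg48 zg12) (kg xg32 yg50 zg42) (kg xg32 yg23 zg16) (kg xg28 yg33 zg46) (kg xg24 yg12 zg39) (kg xg32 yg35 zg48) (kg xg25 yg36 zg27) (kg xg25 yg26 zg28) (kg xg24 yg48 zg29) (kg xg29 yg20 zg55) (kg xg24 yg12 zg51) (kg xg27 yg49 zg54) (kg xg28 yg58 zg49) (kg xg28 yg7 zg10) (kg xg28 yg7 zg9) (kg xg31 yg39 zg29) (kg xg32 yg29 zg29) (kg xg29 yg31 zg14) (kg xg24 yg13 zg0) (kg xg24 yg30 zg14) (kg xg28 yg50 zg9) (kg xg29 yg20 zg47) (kg xg26 yg27 zg61) (kg xg24 yg25 zg2) (kg xg32 yg9 zg52) (kg xg32 yg33 zg26) (kg xg28 yg36 zg23)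 (kg xg28 yg8 zg47) (kg xg24 yg13 zg18) (kg xg24 yg13 zg15) (kg xg32 yg56 zg54) (kg xg32 yg52 zg61) (kg xg32 yg31 zg51) (kg xg32 yg52 zg25) (kg xg24 yg13 zg20) (kg xg32 yg10 zg14) (kg xg32 yg8 zg27) (kg xg27 yg52 zg52) (kg xg28 yg8 zg31) (kg xg31 yg54 zg33) (kg xg25 yg27 zg29) (kg xg24 yg13 zg41) (kg xg30 yg47 zg13) (kg xg31 yg23 zg19) (kg xg31 yg53 zg34) (kg xg30 yg43 zg59) (kg xg30 yg53 zg9) (kg xg24 yg14 zg9) (kg xg30 yg27 zg43) (kg xg31 yg16 zg1) (kg xg27 yg12 zg59) (kg xg32 yg22 zg1) (kg xg28 yg24 zg56) (kg xg25 yg34 zg24) (kg xg32 yg38 zg51) (kg xg28 yg29 zg49) (kg xg31 yg48 zg36)) (@D3.rec (fun _ => Pt) (kg xg32 yg43 zg0) (kg xg25 yg47 zg35) (kg xg29 yg9 zg21) (kg xg31 yg20 zg19) (kg xg30 yg30 zg55) (kg xg26 yg38 zg10) (kg xg29 yg55 zg9) (kg xg30 yg56 zg57) (kg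 xg32 yg40 zg33) (kg xg25 yg8 zg2) (kg xg31 yg21 zg3) (kg xg31 yg21 zg1) (kg xg31 yg19 zg44) (kg xg29 yg46 zg61) (kg xg26 yg59 zg34) (kg xg26 yg34 zg52) (kg xg24 yg14 zg45) (kg xg29 yg42 zg37) (kg xg32 yg47 zg60) (kg xg24 yg14 zg48) (kg xg28 yg57 zg56) (kg xg24 yg15 zg46) (kg xg31 yg17 zg40) (kg xg31 yg24 zg32) (kg xg32 yg34 zg5) (kg xg29 yg31 zg21) (kg xg24 yg16 zg32) (kg xg24 yg26 zg33) (kg xg24 yg17 zg1) (kg xg29 yg49 zg22) (kg xg24 yg26 zg60) (kg xg25 yg49 zg19) (kg xg24 yg15 zg12) (kg xg24 yg23 zg13) (kg xg24 yg16 zg56) (kg xg24 yg16 zg55) (kg xg31 yg37 zg28) (kg xg28 yg16 zg28) (kg xg27 yg16 zg14) (kg xg31 yg32 zg26) (kg xg24 yg15 zg36) (kg xg28 yg29 zg51) (kg xg32 yg12 zg44) (kg xg30 yg19 zg35) (kg xg28 yg57 zg58) (kg xg28 yg47 zg24) (kg xg26 yg27 zg37) (kg xg31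 yg31 zg46) (kg xg31 yg24 zg17) (kg xg24 yg16 zg29) (kg xg27 yg19 zg33) (kg xg30 yg50 zg51) (kg xg31 yg24 zg36) (kg xg31 yg52 zg47) (kg xg25 yg11 zg52) (kg xg24 yg16 zg9) (kg xg28 yg59 zg13) (kg xg25 yg51 zg7) (kg xg24 yg16 zg16) (kg xg32 yg35 zg39) (kg xg31 yg20 zg45) (kg xg25 yg26 zg2)) (@D3.rec (fun _ => Pt) (kg xg29 yg48 zg48) (kg xg29 yg4 zg5) (kg xg30 yg11 zg26) (kg xg25 yg12 zg26) (kg xg25 yg12 zg12) (kg xg24 yg16 zg40) (kg xg24 yg16 zg41) (kg xg29 yg4 zg53) (kg xg32 yg14 zg1) (kg xg32 yg57 zg0) (kg xg29 yg26 zg30) (kg xg29 yg49 zg14) (kg xg28 yg19 zg40) (kg xg31 yg58 zg61) (kg xg25 yg48 zg39) (kg xg24 yg16 zg50) (kg xg24 yg16 zg51) (kg xg25 yg48 zg31) (kg xg31 yg36 zg41) (kg xg31 yg54 zg25) (kg xg30 yg51 zg40) (kg xg27 yg19 zg24) (kg xg24 yg26 zg27) (kg xg24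 yg17 zg7) (kg xg24 yg17 zg12) (kg xg31 yg52 zg56) (kg xg32 yg47 zg15) (kg xg32 yg57 zg3) (kg xg28 yg39 zg48) (kg xg28 yg54 zg61) (kg xg32 yg11 zg44) (kg xg29 yg56 zg10) (kg xg31 yg56 zg12) (kg xg27 yg6 zg13) (kg xg30 yg6 zg23) (kg xg32 yg4 zg50) (kg xg24 yg17 zg24) (kg xg27 yg18 zg48) (kg xg31 yg30 zg4) (kg xg24 yg17 zg28) (kg xg32 yg57 zg5) (kg xg26 yg3 zg47) (kg xg27 yg39 zg37) (kg xg32 yg43 zg46) (kg xg31 yg38 zg41) (kg xg28 yg53 zg61) (kg xg29 yg5 zg3) (kg xg29 yg16 zg20) (kg xg32 yg49 zg35) (kg xg31 yg42 zg15) (kg xg31 yg10 zg16) (kg xg30 yg3 zg10) (kg xg32 yg55 zg50) (kg xg32 yg26 zg11) (kg xg24 yg17 zg46) (kg xg31 yg24 zg44) (kg xg31 yg4 zg7) (kg xg32 yg41 zg60) (kg xg25 yg50 zg57) (kg xg24 yg18 zg7) (kg xg29 yg7 zg34) (kg xg32 yg15 zg11)) (@D3.rec (fun _ =>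 Pt) (kg xg27 yg17 zg5) (kg xg32 yg0 zg36) (kg xg26 yg53 zg46) (kg xg29 yg1 zg44) (kg xg32 yg0 zg30) (kg xg24 yg18 zg45) (kg xg28 yg35 zg32) (kg xg29 yg53 zg29) (kg xg24 yg18 zg55) (kg xg32 yg54 zg28) (kg xg30 yg48 zg50) (kg xg27 yg1 zg33) (kg xg27 yg36 zg32) (kg xg24 yg50 zg28) (kg xg28 yg1 zg24) (kg xg31 yg20 zg47) (kg xg29 yg14 zg26) (kg xg31 yg20 zg36) (kg xg24 yg19 zg17) (kg xg31 yg39 zg40) (kg xg27 yg29 zg32) (kg xg30 yg18 zg10) (kg xg28 yg38 zg22) (kg xg29 yg1 zg14) (kg xg31 yg21 zg52) (kg xg24 yg19 zg27) (kg xg29 yg23 zg10) (kg xg29 yg53 zg34) (kg xg24 yg19 zg31) (kg xg24 yg19 zg32) (kg xg31 yg18 zg54) (kg xg30 yg11 zg34) (kg xg30 yg27 zg22) (kg xg24 yg19 zg36) (kg xg24 yg19 zg39) (kg xg32 yg41 zg34) (kg xg24 yg19 zg37) (kg xg29 yg7 zg43) (kg xg24 yg27 zg19)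 (kg xg26 yg54 zg19) (kg xg24 yg19 zg38) (kg xg28 yg49 zg58) (kg xg26 yg43 zg39) (kg xg30 yg37 zg60) (kg xg30 yg12 zg8) (kg xg28 yg35 zg22) (kg xg29 yg31 zg19) (kg xg28 yg42 zg29) (kg xg26 yg23 zg40) (kg xg31 yg36 zg34) (kg xg24 yg20 zg15) (kg xg29 yg27 zg37) (kg xg28 yg11 zg33) (kg xg29 yg0 zg10) (kg xg24 yg20 zg31) (kg xg29 yg6 zg49) (kg xg29 yg59 zg40) (kg xg28 yg37 zg16) (kg xg26 yg6 zg46) (kg xg24 yg34 zg45) (kg xg24 yg21 zg13) (kg xg32 yg53 zg59)) (@D3.rec (fun _ => Pt) (kg xg32 yg54 zg10) (kg xg31 yg35 zg51) (kg xg26 yg40 zg32) (kg xg24 yg21 zg4) (kg xg31 yg11 zg0) (kg xg32 yg36 zg36) (kg xg29 yg11 zg41) (kg xg24 yg21 zg12) (kg xg29 yg17 zg59) (kg xg31 yg48 zg15) (kg xg31 yg5 zg5) (kg xg27 yg29 zg27) (kg xg26 yg47 zg54) (kg xg26 yg47 zg52) (kg xg27 yg9 zg12) (kg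 xg28 yg18 zg22) (kg xg32 yg34 zg1) (kg xg29 yg25 zg59) (kg xg24 yg21 zg33) (kg xg24 yg39 zg6) (kg xg24 yg21 zg37) (kg xg32 yg14 zg3) (kg xg32 yg14 zg4) (kg xg32 yg52 zg52) (kg xg30 yg25 zg29) (kg xg24 yg21 zg45) (kg xg28 yg46 zg4) (kg xg24 yg40 zg25) (kg xg25 yg22 zg3) (kg xg24 yg32 zg17) (kg xg32 yg55 zg31) (kg xg24 yg27 zg36) (kg xg28 yg41 zg37) (kg xg31 yg37 zg34) (kg xg26 yg1 zg38) (kg xg31 yg21 zg15) (kg xg25 yg41 zg29) (kg xg31 yg36 zg30) (kg xg25 yg13 zg30) (kg xg28 yg14 zg3) (kg xg30 yg31 zg23) (kg xg24 yg22 zg51) (kg xg24 yg22 zg50) (kg xg32 yg13 zg44) (kg xg32 yg38 zg31) (kg xg24 yg22 zg48) (kg xg31 yg42 zg5) (kg xg31 yg30 zg48) (kg xg28 yg37 zg27) (kg xg32 yg33 zg27) (kg xg27 yg38 zg12) (kg xg24 yg23 zg2) (kg xg27 yg46 zg56) (kg xg28 yg57 zg9) (kg xg24 yg23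 zg6) (kg xg26 yg48 zg6) (kg xg30 yg19 zg18) (kg xg30 yg50 zg33) (kg xg29 yg36 zg55) (kg xg32 yg38 zg18) (kg xg30 yg21 zg26) (kg xg30 yg22 zg35)) (@D3.rec (fun _ => Pt) (kg xg28 yg28 zg51) (kg xg24 yg23 zg17) (kg xg28 yg37 zg36) (kg xg31 yg19 zg43) (kg xg27 yg38 zg17) (kg xg28 yg37 zg48) (kg xg24 yg24 zg9) (kg xg24 yg23 zg25) (kg xg32 yg34 zg48) (kg xg31 yg17 zg20) (kg xg31 yg32 zg43) (kg xg28 yg53 zg17) (kg xg31 yg5 zg2) (kg xg32 yg14 zg48) (kg xg24 yg23 zg45) (kg xg24 yg23 zg46) (kg xg28 yg53 zg22) (kg xg29 yg11 zg52) (kg xg24 yg23 zg48) (kg xg32 yg4 zg48) (kg xg30 yg52 zg30) (kg xg32 yg42 zg5) (kg xg26 yg20 zg36) (kg xg31 yg9 zg61) (kg xg29 yg10 zg32) (kg xg28 yg51 zg3) (kg xg32 yg18 zg52) (kg xg30 yg43 zg0) (kg xg30 yg42 zg59) (kg xg32 yg52 zg10) (kg xg32 yg34 zg12)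 (kg xg24 yg24 zg33) (kg xg32 yg21 zg17) (kg xg30 yg29 zg41) (kg xg32 yg39 zg51) (kg xg31 yg34 zg15) (kg xg24 yg40 zg41) (kg xg32 yg48 zg5) (kg xg24 yg24 zg47) (kg xg32 yg11 zg57) (kg xg31 yg24 zg6) (kg xg32 yg51 zg33) (kg xg30 yg37 zg50) (kg xg29 yg26 zg35) (kg xg24 yg24 zg59) (kg xg26 yg39 zg11) (kg xg28 yg30 zg9) (kg xg24 yg24 zg60) (kg xg28 yg39 zg50) (kg xg31 yg23 zg1) (kg xg28 yg39 zg21) (kg xg32 yg34 zg7) (kg xg28 yg50 zg58) (kg xg32 yg39 zg6) (kg xg28 yg46 zg13) (kg xg28 yg57 zg3) (kg xg30 yg53 zg48) (kg xg26 yg33 zg24) (kg xg32 yg45 zg52) (kg xg30 yg25 zg48) (kg xg24 yg25 zg23) (kg xg31 yg21 zg2)) (@D3.rec (fun _ => Pt) (kg xg27 yg13 zg54) (kg xg24 yg25 zg35) (kg xg24 yg25 zg33) (kg xg30 yg29 zg30) (kg xg31 yg24 zg10) (kg xg26 yg50 zg21) (kg xg26 yg56 zg50)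 (kg xg31 yg33 zg4) (kg xg32 yg45 zg32) (kg xg32 yg23 zg28) (kg xg32 yg23 zg4) (kg xg32 yg34 zg0) (kg xg29 yg46 zg10) (kg xg30 yg15 zg24) (kg xg28 yg24 zg10) (kg xg32 yg33 zg29) (kg xg30 yg15 zg26) (kg xg27 yg16 zg1) (kg xg32 yg48 zg2) (kg xg32 yg51 zg22) (kg xg29 yg37 zg36) (kg xg28 yg16 zg38) (kg xg24 yg26 zg0) (kg xg29 yg48 zg29) (kg xg30 yg20 zg44) (kg xg28 yg16 zg29) (kg xg31 yg23 zg39) (kg xg25 yg33 zg26) (kg xg31 yg49 zg25) (kg xg31 yg26 zg56) (kg xg24 yg26 zg10) (kg xg25 yg43 zg24) (kg xg31 yg27 zg15) (kg xg32 yg0 zg8) (kg xg32 yg18 zg34) (kg xg26 yg36 zg28) (kg xg26 yg38 zg19) (kg xg26 yg46 zg21) (kg xg32 yg38 zg27) (kg xg26 yg33 zg46) (kg xg31 yg48 zg55) (kg xg32 yg57 zg17) (kg xg32 yg36 zg4) (kg xg24 yg26 zg38) (kg xg24 yg26 zg32) (kg xg28 yg44 zg18) (kg xg32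 yg0 zg55) (kg xg24 yg26 zg36) (kg xg32 yg13 zg60) (kg xg24 yg26 zg37) (kg xg32 yg45 zg43) (kg xg28 yg50 zg30) (kg xg32 yg13 zg3) (kg xg26 yg33 zg21) (kg xg32 yg38 zg60) (kg xg27 yg6 zg43) (kg xg26 yg41 zg50) (kg xg31 yg33 zg23) (kg xg25 yg33 zg24) (kg xg31 yg46 zg43) (kg xg24 yg27 zg2) (kg xg24 yg27 zg1)) (@D3.rec (fun _ => Pt) (kg xg30 yg45 zg27) (kg xg27 yg14 zg60) (kg xg31 yg46 zg42) (kg xg31 yg46 zg41) (kg xg25 yg18 zg2) (kg xg32 yg57 zg20) (kg xg24 yg39 zg42) (kg xg30 yg49 zg35) (kg xg31 yg22 zg54) (kg xg28 yg50 zg53) (kg xg31 yg51 zg23) (kg xg24 yg27 zg14) (kg xg24 yg27 zg22) (kg xg32 yg45 zg20) (kg xg32 yg39 zg33) (kg xg32 yg21 zg52) (kg xg31 yg28 zg20) (kg xg28 yg35 zg4) (kg xg31 yg57 zg11) (kg xg24 yg27 zg26) (kg xg25 yg38 zg46) (kg xg30 yg27 zg26) (kg xg26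 yg9 zg17) (kg xg26 yg33 zg56) (kg xg24 yg27 zg38) (kg xg30 yg8 zg2) (kg xg32 yg48 zg50) (kg xg32 yg45 zg60) (kg xg24 yg27 zg45) (kg xg30 yg34 zg22) (kg xg28 yg46 zg44) (kg xg30 yg38 zg51) (kg xg32 yg11 zg59) (kg xg30 yg39 zg33) (kg xg30 yg34 zg1) (kg xg31 yg3 zg49) (kg xg31 yg1 zg36) (kg xg26 yg20 zg22) (kg xg24 yg28 zg24) (kg xg29 yg20 zg59) (kg xg26 yg32 zg42) (kg xg24 yg28 zg37) (kg xg31 yg30 zg10) (kg xg31 yg18 zg32) (kg xg32 yg34 zg19) (kg xg28 yg29 zg24) (kg xg26 yg19 zg16) (kg xg26 yg52 zg50) (kg xg26 yg19 zg23) (kg xg30 yg59 zg46) (kg xg32 yg56 zg9) (kg xg28 yg43 zg45) (kg xg32 yg5 zg56) (kg xg28 yg30 zg44) (kg xg24 yg31 zg34) (kg xg25 yg1 zg43) (kg xg27 yg49 zg33) (kg xg31 yg14 zg45) (kg xg30 yg44 zg54) (kg xg32 yg57 zg22) (kg xg27 yg29 zg60) (kg xg32 yg46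 zg33)) (@D3.rec (fun _ => Pt) (kg xg29 yg22 zg17) (kg xg27 yg0 zg26) (kg xg24 yg29 zg42) (kg xg32 yg45 zg41) (kg xg32 yg47 zg6) (kg xg32 yg18 zg41) (kg xg32 yg42 zg52) (kg xg29 yg45 zg40) (kg xg31 yg12 zg30) (kg xg30 yg28 zg16) (kg xg28 yg51 zg16) (kg xg32 yg20 zg38) (kg xg28 yg53 zg3) (kg xg28 yg17 zg33) (kg xg24 yg29 zg50) (kg xg32 yg57 zg25) (kg xg31 yg29 zg15) (kg xg29 yg33 zg61) (kg xg26 yg59 zg53) (kg xg29 yg37 zg55) (kg xg31 yg31 zg34) (kg xg31 yg19 zg59) (kg xg30 yg36 zg59) (kg xg31 yg32 zg33) (kg xg32 yg56 zg29) (kg xg31 yg13 zg50) (kg xg24 yg46 zg20) (kg xg32 yg46 zg54) (kg xg28 yg55 zg47) (kg xg32 yg16 zg51) (kg xg29 yg32 zg31) (kg xg28 yg51 zg18) (kg xg32 yg44 zg54) (kg xg30 yg15 zg46) (kg xg32 yg52 zg23) (kg xg26 yg27 zg48) (kg xg24 yg30 zg22) (kg xg29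 yg1 zg33) (kg xg32 yg57 zg26) (kg xg29 yg40 zg11) (kg xg31 yg17 zg48) (kg xg29 yg7 zg6) (kg xg24 yg30 zg48) (kg xg26 yg24 zg28) (kg xg30 yg16 zg46) (kg xg29 yg6 zg7) (kg xg26 yg45 zg55) (kg xg24 yg31 zg3) (kg xg28 yg13 zg29) (kg xg25 yg54 zg52) (kg xg30 yg45 zg61) (kg xg25 yg59 zg47) (kg xg30 yg14 zg0) (kg xg24 yg31 zg28) (kg xg24 yg31 zg36) (kg xg30 yg58 zg34) (kg xg30 yg58 zg15) (kg xg28 yg41 zg1) (kg xg32 yg5 zg54) (kg xg28 yg41 zg3) (kg xg31 yg0 zg2) (kg xg32 yg25 zg8)) (@D3.rec (fun _ => Pt) (kg xg28 yg41 zg45) (kg xg30 yg58 zg43) (kg xg27 yg29 zg58) (kg xg32 yg5 zg36) (kg xg30 yg48 zg20) (kg xg32 yg5 zg15) (kg xg32 yg49 zg4) (kg xg28 yg40 zg29) (kg xg25 yg23 zg24) (kg xg28 yg40 zg24) (kg xg32 yg12 zg14) (kg xg29 yg46 zg11) (kg xg32 yg12 zg20) (kg xg31 yg34 zg33)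 (kg xg27 yg12 zg50) (kg xg30 yg28 zg46) (kg xg27 yg26 zg32) (kg xg27 yg46 zg45) (kg xg27 yg43 zg44) (kg xg29 yg5 zg7) (kg xg30 yg9 zg36) (kg xg26 yg54 zg24) (kg xg29 yg15 zg11) (kg xg24 yg50 zg19) (kg xg32 yg17 zg53) (kg xg28 yg37 zg0) (kg xg31 yg22 zg3) (kg xg32 yg3 zg25) (kg xg32 yg17 zg55) (kg xg26 yg40 zg1) (kg xg29 yg33 zg54) (kg xg24 yg33 zg26) (kg xg32 yg3 zg12) (kg xg28 yg58 zg37) (kg xg31 yg29 zg10) (kg xg24 yg33 zg46) (kg xg32 yg54 zg23) (kg xg32 yg18 zg50) (kg xg24 yg33 zg51) (kg xg25 yg17 zg38) (kg xg31 yg34 zg46) (kg xg24 yg34 zg4) (kg xg31 yg50 zg16) (kg xg30 yg48 zg4) (kg xg24 yg34 zg18) (kg xg25 yg45 zg12) (kg xg31 yg9 zg9) (kg xg29 yg28 zg19) (kg xg31 yg7 zg19) (kg xg30 yg14 zg15) (kg xg24 yg34 zg55) (kg xg27 yg9 zg57) (kg xg25 yg45 zg6) (kg xg30 yg54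 zg43) (kg xg25 yg58 zg30) (kg xg32 yg57 zg1) (kg xg26 yg36 zg12) (kg xg31 yg29 zg31) (kg xg26 yg35 zg45) (kg xg32 yg45 zg26) (kg xg26 yg37 zg27) (kg xg29 yg33 zg56)) (@D3.rec (fun _ => Pt) (kg xg25 yg8 zg58) (kg xg24 yg35 zg18) (kg xg32 yg22 zg20) (kg xg32 yg3 zg59) (kg xg24 yg35 zg19) (kg xg29 yg37 zg23) (kg xg31 yg35 zg34) (kg xg25 yg6 zg4) (kg xg25 yg6 zg13) (kg xg25 yg6 zg9) (kg xg25 yg12 zg5) (kg xg24 yg37 zg40) (kg xg24 yg38 zg23) (kg xg24 yg35 zg46) (kg xg24 yg35 zg40) (kg xg26 yg8 zg14) (kg xg25 yg59 zg60) (kg xg24 yg37 zg29) (kg xg26 yg8 zg13) (kg xg24 yg41 zg45) (kg xg29 yg17 zg58) (kg xg27 yg47 zg27) (kg xg27 yg39 zg45) (kg xg27 yg25 zg45) (kg xg29 yg28 zg9) (kg xg25 yg40 zg30) (kg xg25 yg40 zg31) (kg xg24 yg36 zg31) (kg xg27 yg13 zg45) (kg xg26 yg51 zg53)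 (kg xg25 yg56 zg3) (kg xg30 yg55 zg1) (kg xg29 yg17 zg45) (kg xg31 yg46 zg18) (kg xg29 yg16 zg46) (kg xg32 yg0 zg44) (kg xg24 yg37 zg27) (kg xg24 yg36 zg39) (kg xg31 yg35 zg6) (kg xg24 yg58 zg41) (kg xg27 yg6 zg17) (kg xg24 yg36 zg57) (kg xg30 yg51 zg37) (kg xg25 yg11 zg30) (kg xg27 yg48 zg39) (kg xg26 yg7 zg61) (kg xg25 yg34 zg47) (kg xg25 yg34 zg50) (kg xg26 yg41 zg17) (kg xg28 yg54 zg18) (kg xg24 yg37 zg7) (kg xg31 yg34 zg31) (kg xg31 yg36 zg21) (kg xg31 yg36 zg20) (kg xg29 yg56 zg26) (kg xg27 yg24 zg1) (kg xg31 yg36 zg14) (kg xg24 yg37 zg13) (kg xg31 yg36 zg13) (kg xg30 yg4 zg22) (kg xg32 yg3 zg45) (kg xg25 yg55 zg41)) (@D3.rec (fun _ => Pt) (kg xg32 yg25 zg9) (kg xg29 yg16 zg12) (kg xg25 yg30 zg5) (kg xg25 yg30 zg7) (kg xg31 yg7 zg3) (kg xg28 yg38 zg0) (kg xg29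 yg22 zg29) (kg xg25 yg35 zg34) (kg xg24 yg42 zg2) (kg xg31 yg37 zg50) (kg xg24 yg37 zg57) (kg xg29 yg16 zg61) (kg xg31 yg35 zg58) (kg xg24 yg37 zg61) (kg xg31 yg35 zg57) (kg xg25 yg33 zg31) (kg xg31 yg9 zg10) (kg xg30 yg41 zg57) (kg xg31 yg10 zg11) (kg xg31 yg35 zg53) (kg xg24 yg38 zg4) (kg xg30 yg46 zg18) (kg xg26 yg3 zg23) (kg xg28 yg4 zg11) (kg xg32 yg4 zg38) (kg xg24 yg38 zg19) (kg xg29 yg13 zg51) (kg xg25 yg58 zg45) (kg xg32 yg15 zg56) (kg xg27 yg27 zg25) (kg xg24 yg38 zg27) (kg xg32 yg3 zg26) (kg xg32 yg21 zg39) (kg xg30 yg10 zg57) (kg xg29 yg10 zg4) (kg xg31 yg3 zg29) (kg xg28 yg35 zg47) (kg xg27 yg12 zg60) (kg xg27 yg9 zg34) (kg xg26 yg45 zg14) (kg xg25 yg59 zg36) (kg xg25 yg36 zg18) (kg xg29 yg3 zg32) (kg xg25 yg50 zg51) (kg xg24 yg39 zg4) (kg xg28 yg42 zg28)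 (kg xg24 yg39 zg39) (kg xg24 yg39 zg43) (kg xg29 yg43 zg0) (kg xg30 yg15 zg6) (kg xg28 yg34 zg36) (kg xg28 yg45 zg0) (kg xg28 yg45 zg38) (kg xg31 yg19 zg41) (kg xg24 yg39 zg57) (kg xg24 yg41 zg20) (kg xg27 yg29 zg34) (kg xg31 yg40 zg55) (kg xg28 yg56 zg46) (kg xg25 yg5 zg20) (kg xg31 yg40 zg57) (kg xg30 yg41 zg41)) (@D3.rec (fun _ => Pt) (kg xg29 yg11 zg38) (kg xg29 yg55 zg14) (kg xg24 yg42 zg40) (kg xg28 yg52 zg55) (kg xg32 yg21 zg59) (kg xg30 yg6 zg49) (kg xg27 yg42 zg23) (kg xg24 yg40 zg12) (kg xg27 yg26 zg2) (kg xg27 yg58 zg11) (kg xg31 yg5 zg28) (kg xg29 yg14 zg35) (kg xg27 yg54 zg6) (kg xg28 yg43 zg25) (kg xg32 yg9 zg8) (kg xg30 yg36 zg56) (kg xg24 yg40 zg38) (kg xg27 yg47 zg46) (kg xg24 yg40 zg51) (kg xg27 yg25 zg43) (kg xg27 yg25 zg46) (kg xg27 yg48 zg31) (kg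 xg30 yg6 zg22) (kg xg25 yg55 zg31) (kg xg27 yg20 zg47) (kg xg24 yg41 zg40) (kg xg24 yg42 zg16) (kg xg31 yg37 zg61) (kg xg28 yg56 zg57) (kg xg29 yg52 zg10) (kg xg30 yg23 zg51) (kg xg25 yg41 zg46) (kg xg25 yg34 zg34) (kg xg25 yg15 zg30) (kg xg31 yg32 zg24) (kg xg24 yg43 zg56) (kg xg31 yg37 zg26) (kg xg28 yg28 zg40) (kg xg32 yg55 zg26) (kg xg30 yg10 zg25) (kg xg28 yg28 zg42) (kg xg32 yg49 zg11) (kg xg28 yg28 zg47) (kg xg24 yg42 zg13) (kg xg27 yg46 zg59) (kg xg29 yg11 zg35) (kg xg32 yg4 zg39) (kg xg24 yg42 zg28) (kg xg30 yg41 zg44) (kg xg30 yg33 zg37) (kg xg30 yg41 zg50) (kg xg32 yg54 zg12) (kg xg30 yg15 zg2) (kg xg24 yg42 zg47) (kg xg24 yg42 zg48) (kg xg27 yg39 zg11) (kg xg31 yg38 zg20) (kg xg31 yg38 zg25) (kg xg31 yg45 zg2) (kg xg26 yg32 zg47) (kg xg31 yg37 zg27) (kg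 xg24 yg43 zg29)) (@D3.rec (fun _ => Pt) (kg xg28 yg42 zg46) (kg xg28 yg27 zg22) (kg xg31 yg3 zg19) (kg xg28 yg27 zg29) (kg xg24 yg43 zg46) (kg xg25 yg53 zg34) (kg xg30 yg33 zg16) (kg xg30 yg31 zg56) (kg xg31 yg15 zg9) (kg xg28 yg43 zg24) (kg xg32 yg32 zg57) (kg xg27 yg25 zg18) (kg xg31 yg54 zg29) (kg xg27 yg25 zg19) (kg xg27 yg48 zg18) (kg xg24 yg44 zg51) (kg xg32 yg44 zg56) (kg xg27 yg24 zg7) (kg xg26 yg13 zg41) (kg xg26 yg58 zg61) (kg xg31 yg37 zg57) (kg xg24 yg45 zg7) (kg xg27 yg45 zg42) (kg xg26 yg15 zg17) (kg xg24 yg45 zg30) (kg xg31 yg37 zg56) (kg xg30 yg8 zg50) (kg xg26 yg20 zg45) (kg xg26 yg15 zg18) (kg xg26 yg16 zg31) (kg xg32 yg12 zg61) (kg xg27 yg27 zg32) (kg xg27 yg27 zg29) (kg xg31 yg14 zg46) (kg xg26 yg18 zg8) (kg xg25 yg36 zg19) (kg xg27 yg42 zg5) (kg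 xg24 yg45 zg53) (kg xg31 yg53 zg25) (kg xg24 yg56 zg38) (kg xg25 yg4 zg59) (kg xg32 yg34 zg51) (kg xg25 yg14 zg28) (kg xg24 yg45 zg58) (kg xg27 yg42 zg8) (kg xg24 yg54 zg10) (kg xg26 yg18 zg43) (kg xg28 yg14 zg41) (kg xg24 yg46 zg10) (kg xg32 yg18 zg15) (kg xg31 yg16 zg3) (kg xg26 yg28 zg61) (kg xg25 yg25 zg44) (kg xg25 yg56 zg24) (kg xg28 yg48 zg47) (kg xg28 yg49 zg15) (kg xg24 yg46 zg24) (kg xg30 yg28 zg7) (kg xg30 yg28 zg6) (kg xg31 yg54 zg53) (kg xg26 yg57 zg46) (kg xg31 yg8 zg14)) (@D3.rec (fun _ => Pt) (kg xg24 yg46 zg45) (kg xg32 yg44 zg4) (kg xg29 yg22 zg0) (kg xg30 yg59 zg1) (kg xg26 yg28 zg16) (kg xg30 yg54 zg14) (kg xg29 yg21 zg4) (kg xg25 yg32 zg28) (kg xg31 yg43 zg31) (kg xg32 yg43 zg20) (kg xg32 yg43 zg60) (kg xg32 yg6 zg2) (kg xg32 yg26 zg41) (kg xg28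 yg16 zg51) (kg xg30 yg47 zg38) (kg xg27 yg49 zg41) (kg xg27 yg47 zg50) (kg xg27 yg39 zg59) (kg xg27 yg44 zg26) (kg xg32 yg7 zg54) (kg xg31 yg15 zg32) (kg xg24 yg48 zg4) (kg xg27 yg55 zg35) (kg xg28 yg16 zg55) (kg xg32 yg25 zg32) (kg xg28 yg15 zg36) (kg xg28 yg20 zg38) (kg xg32 yg25 zg51) (kg xg31 yg53 zg48) (kg xg31 yg24 zg60) (kg xg32 yg32 zg27) (kg xg32 yg31 zg16) (kg xg28 yg24 zg53) (kg xg28 yg32 zg50) (kg xg28 yg22 zg55) (kg xg32 yg25 zg42) (kg xg31 yg47 zg52) (kg xg31 yg51 zg56) (kg xg29 yg14 zg15) (kg xg29 yg17 zg55) (kg xg29 yg43 zg36) (kg xg25 yg22 zg6) (kg xg24 yg50 zg27) (kg xg24 yg48 zg41) (kg xg29 yg41 zg37) (kg xg32 yg13 zg5) (kg xg25 yg19 zg31) (kg xg25 yg4 zg34) (kg xg24 yg51 zg28) (kg xg31 yg40 zg23) (kg xg31 yg48 zg29) (kg xg25 yg4 zg48) (kg xg31 yg21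 zg23) (kg xg24 yg51 zg50) (kg xg25 yg4 zg40) (kg xg29 yg13 zg18) (kg xg31 yg41 zg16) (kg xg28 yg39 zg61) (kg xg24 yg49 zg8) (kg xg28 yg35 zg3) (kg xg31 yg56 zg49) (kg xg25 yg29 zg1)) (@D3.rec (fun _ => Pt) (kg xg30 yg16 zg39) (kg xg26 yg6 zg22) (kg xg24 yg49 zg19) (kg xg30 yg21 zg36) (kg xg25 yg37 zg29) (kg xg29 yg45 zg42) (kg xg31 yg51 zg9) (kg xg31 yg50 zg48) (kg xg24 yg49 zg40) (kg xg28 yg49 zg7) (kg xg32 yg57 zg40) (kg xg32 yg57 zg41) (kg xg24 yg49 zg29) (kg xg30 yg21 zg58) (kg xg31 yg40 zg43) (kg xg32 yg57 zg43) (kg xg25 yg21 zg2) (kg xg31 yg52 zg27) (kg xg25 yg19 zg18) (kg xg25 yg19 zg58) (kg xg31 yg51 zg12) (kg xg31 yg51 zg15) (kg xg24 yg49 zg36) (kg xg28 yg31 zg38) (kg xg28 yg51 zg31) (kg xg24 yg49 zg37) (kg xg32 yg40 zg53) (kg xg29 yg5 zg52) (kg xg32 yg33 zg60)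 (kg xg32 yg11 zg38) (kg xg24 yg49 zg42) (kg xg24 yg49 zg44) (kg xg29 yg27 zg29) (kg xg32 yg27 zg18) (kg xg29 yg14 zg19) (kg xg29 yg12 zg25) (kg xg25 yg20 zg61) (kg xg26 yg34 zg24) (kg xg26 yg53 zg41) (kg xg25 yg21 zg48) (kg xg28 yg58 zg35) (kg xg28 yg58 zg14) (kg xg32 yg27 zg24) (kg xg31 yg40 zg10) (kg xg24 yg50 zg9) (kg xg26 yg6 zg13) (kg xg29 yg14 zg25) (kg xg24 yg50 zg15) (kg xg29 yg7 zg22) (kg xg25 yg6 zg20) (kg xg25 yg21 zg36) (kg xg24 yg50 zg16) (kg xg26 yg41 zg13) (kg xg25 yg22 zg31) (kg xg31 yg41 zg46) (kg xg31 yg36 zg60) (kg xg31 yg41 zg20) (kg xg31 yg36 zg57) (kg xg29 yg6 zg18) (kg xg24 yg50 zg20) (kg xg31 yg51 zg2) (kg xg24 yg50 zg22)) (@D3.rec (fun _ => Pt) (kg xg27 yg21 zg52) (kg xg32 yg47 zg8) (kg xg29 yg23 zg38) (kg xg32 yg2 zg15) (kg xg25 yg9 zg29) (kg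 xg31 yg41 zg56) (kg xg25 yg47 zg48) (kg xg31 yg51 zg22) (kg xg31 yg51 zg20) (kg xg24 yg50 zg33) (kg xg31 yg51 zg36) (kg xg27 yg37 zg3) (kg xg24 yg50 zg42) (kg xg31 yg51 zg46) (kg xg29 yg11 zg20) (kg xg31 yg41 zg31) (kg xg31 yg41 zg53) (kg xg31 yg27 zg38) (kg xg25 yg56 zg46) (kg xg27 yg4 zg14) (kg xg31 yg50 zg56) (kg xg25 yg33 zg43) (kg xg25 yg9 zg17) (kg xg26 yg37 zg8) (kg xg24 yg51 zg21) (kg xg31 yg47 zg46) (kg xg28 yg36 zg60) (kg xg30 yg19 zg21) (kg xg32 yg14 zg44) (kg xg24 yg51 zg32) (kg xg31 yg52 zg60) (kg xg29 yg0 zg56) (kg xg24 yg51 zg34) (kg xg29 yg2 zg19) (kg xg24 yg51 zg40) (kg xg31 yg50 zg52) (kg xg31 yg56 zg56) (kg xg32 yg27 zg22) (kg xg31 yg41 zg15) (kg xg28 yg59 zg44) (kg xg24 yg51 zg41) (kg xg31 yg24 zg0) (kg xg31 yg52 zg48) (kg xg30 yg0 zg1) (kg xg30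 yg14 zg28) (kg xg24 yg51 zg44) (kg xg32 yg41 zg52) (kg xg26 yg38 zg42) (kg xg24 yg51 zg57) (kg xg25 yg37 zg34) (kg xg31 yg34 zg41) (kg xg29 yg5 zg61) (kg xg24 yg52 zg7) (kg xg27 yg12 zg8) (kg xg31 yg47 zg45) (kg xg29 yg43 zg41) (kg xg32 yg12 zg57) (kg xg31 yg24 zg3) (kg xg24 yg52 zg28) (kg xg31 yg56 zg42) (kg xg30 yg34 zg28) (kg xg31 yg59 zg26)) (@D3.rec (fun _ => Pt) (kg xg26 yg22 zg27) (kg xg26 yg54 zg11) (kg xg26 yg56 zg10) (kg xg30 yg51 zg3) (kg xg26 yg55 zg58) (kg xg32 yg35 zg26) (kg xg31 yg42 zg46) (kg xg27 yg52 zg33) (kg xg26 yg20 zg60) (kg xg31 yg46 zg13) (kg xg32 yg41 zg58) (kg xg32 yg30 zg5) (kg xg32 yg42 zg21) (kg xg29 yg5 zg8) (kg xg24 yg53 zg52) (kg xg31 yg27 zg51) (kg xg29 yg18 zg36) (kg xg32 yg1 zg46) (kg xg32 yg1 zg32) (kg xg24 yg54 zg2) (kg xg24 yg53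 zg61) (kg xg25 yg3 zg53) (kg xg26 yg15 zg22) (kg xg31 yg15 zg5) (kg xg30 yg40 zg19) (kg xg28 yg4 zg59) (kg xg27 yg48 zg49) (kg xg32 yg8 zg25) (kg xg29 yg26 zg36) (kg xg32 yg19 zg58) (kg xg24 yg54 zg26) (kg xg24 yg54 zg24) (kg xg32 yg32 zg2) (kg xg31 yg44 zg9) (kg xg26 yg27 zg22) (kg xg31 yg43 zg33) (kg xg32 yg6 zg48) (kg xg31 yg0 zg17) (kg xg24 yg55 zg2) (kg xg24 yg54 zg55) (kg xg32 yg6 zg51) (kg xg32 yg6 zg23) (kg xg28 yg5 zg23) (kg xg26 yg18 zg4) (kg xg24 yg54 zg61) (kg xg28 yg5 zg11) (kg xg28 yg7 zg43) (kg xg27 yg55 zg17) (kg xg24 yg55 zg16) (kg xg24 yg55 zg8) (kg xg27 yg40 zg7) (kg xg29 yg18 zg30) (kg xg26 yg30 zg36) (kg xg24 yg55 zg13) (kg xg29 yg19 zg45) (kg xg32 yg7 zg59) (kg xg32 yg7 zg61) (kg xg24 yg55 zg19) (kg xg27 yg27 zg9) (kg xg31 yg43 zg1) (kg xg27 yg27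 zg15) (kg xg26 yg14 zg15)) (@D3.rec (fun _ => Pt) (kg xg31 yg42 zg59) (kg xg27 yg28 zg17) (kg xg31 yg2 zg37) (kg xg28 yg3 zg49) (kg xg26 yg21 zg39) (kg xg24 yg55 zg54) (kg xg24 yg55 zg49) (kg xg29 yg53 zg56) (kg xg25 yg2 zg2) (kg xg26 yg16 zg33) (kg xg24 yg56 zg1) (kg xg30 yg1 zg1) (kg xg31 yg0 zg22) (kg xg27 yg35 zg53) (kg xg32 yg7 zg31) (kg xg26 yg17 zg32) (kg xg32 yg31 zg40) (kg xg24 yg57 zg9) (kg xg29 yg34 zg40) (kg xg24 yg56 zg52) (kg xg29 yg36 zg39) (kg xg24 yg57 zg2) (kg xg30 yg46 zg39) (kg xg28 yg34 zg32) (kg xg29 yg19 zg59) (kg xg24 yg57 zg14) (kg xg30 yg49 zg30) (kg xg32 yg46 zg20) (kg xg26 yg22 zg17) (kg xg24 yg57 zg25) (kg xg29 yg3 zg12) (kg xg32 yg28 zg61) (kg xg28 yg3 zg22) (kg xg29 yg20 zg60) (kg xg24 yg57 zg37) (kg xg26 yg16 zg23) (kg xg29 yg20 zg45)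 (kg xg30 yg19 zg28) (kg xg25 yg35 zg2) (kg xg25 yg6 zg46) (kg xg29 yg7 zg3) (kg xg24 yg58 zg2) (kg xg29 yg12 zg47) (kg xg29 yg59 zg8) (kg xg32 yg0 zg2) (kg xg25 yg7 zg5) (kg xg25 yg21 zg9) (kg xg25 yg5 zg10) (kg xg31 yg40 zg48) (kg xg25 yg46 zg11) (kg xg32 yg3 zg58) (kg xg26 yg33 zg60) (kg xg24 yg58 zg25) (kg xg26 yg33 zg55) (kg xg32 yg41 zg26) (kg xg25 yg9 zg37) (kg xg28 yg57 zg23) (kg xg30 yg19 zg46) (kg xg28 yg2 zg18) (kg xg24 yg58 zg53) (kg xg26 yg28 zg22) (kg xg27 yg30 zg34)) (@D3.rec (fun _ => Pt) (kg xg27 yg27 zg2) (kg xg32 yg25 zg11) (kg xg25 yg3 zg28) (kg xg29 yg14 zg30) (kg xg27 yg48 zg51) (kg xg25 yg2 zg9) (kg xg26 yg25 zg52) (kg xg29 yg28 zg31) (kg xg29 yg28 zg30) (kg xg28 yg18 zg52) (kg xg32 yg38 zg22) (kg xg24 yg59 zg42) (kg xg30 yg46 zg57) (kg xg28 yg12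 zg20) (kg xg30 yg53 zg21) (kg xg25 yg0 zg3) (kg xg28 yg3 zg12) (kg xg32 yg49 zg22) (kg xg31 yg45 zg6) (kg xg31 yg6 zg24) (kg xg31 yg11 zg45) (kg xg25 yg3 zg4) (kg xg31 yg1 zg37) (kg xg32 yg31 zg28) (kg xg25 yg0 zg25) (kg xg28 yg2 zg34) (kg xg32 yg5 zg40) (kg xg32 yg6 zg28) (kg xg32 yg31 zg20) (kg xg32 yg7 zg30) (kg xg32 yg30 zg36) (kg xg25 yg0 zg43) (kg xg28 yg28 zg48) (kg xg32 yg28 zg22) (kg xg27 yg46 zg38) (kg xg25 yg35 zg10) (kg xg28 yg4 zg15) (kg xg25 yg1 zg24) (kg xg27 yg28 zg5) (kg xg28 yg4 zg14) (kg xg27 yg25 zg25) (kg xg31 yg14 zg20) (kg xg25 yg1 zg42) (kg xg26 yg15 zg31) (kg xg27 yg52 zg6) (kg xg25 yg1 zg45) (kg xg29 yg5 zg55) (kg xg31 yg6 zg31) (kg xg26 yg21 zg25) (kg xg26 yg8 zg39) (kg xg25 yg1 zg59) (kg xg26 yg23 zg31) (kg xg29 yg29 zg14) (kg xg30 yg32 zg2)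 (kg xg29 yg54 zg19) (kg xg25 yg2 zg27) (kg xg31 yg6 zg50) (kg xg30 yg32 zg44) (kg xg27 yg45 zg50) (kg xg27 yg57 zg17) (kg xg31 yg9 zg59) (kg xg31 yg2 zg45)) (@D3.rec (fun _ => Pt) (kg xg28 yg21 zg21) (kg xg29 yg51 zg42) (kg xg29 yg17 zg27) (kg xg25 yg15 zg54) (kg xg25 yg3 zg2) (kg xg31 yg12 zg2) (kg xg31 yg44 zg20) (kg xg30 yg58 zg56) (kg xg28 yg3 zg57) (kg xg32 yg7 zg26) (kg xg25 yg3 zg44) (kg xg30 yg35 zg49) (kg xg25 yg3 zg45) (kg xg27 yg26 zg26) (kg xg32 yg29 zg15) (kg xg32 yg29 zg61) (kg xg25 yg3 zg55) (kg xg25 yg3 zg52) (kg xg26 yg21 zg10) (kg xg30 yg24 zg53) (kg xg26 yg14 zg51) (kg xg25 yg4 zg6) (kg xg31 yg9 zg17) (kg xg25 yg57 zg49) (kg xg29 yg50 zg15) (kg xg25 yg4 zg14) (kg xg26 yg35 zg37) (kg xg32 yg4 zg15) (kg xg25 yg14 zg16) (kg xg25 yg5 zg7) (kg xg25 yg9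 zg50) (kg xg31 yg21 zg40) (kg xg31 yg15 zg26) (kg xg32 yg27 zg55) (kg xg32 yg28 zg46) (kg xg28 yg47 zg1) (kg xg25 yg14 zg24) (kg xg27 yg43 zg52) (kg xg25 yg10 zg12) (kg xg25 yg58 zg5) (kg xg27 yg6 zg19) (kg xg27 yg6 zg22) (kg xg25 yg6 zg27) (kg xg32 yg13 zg30) (kg xg28 yg56 zg41) (kg xg32 yg48 zg10) (kg xg25 yg50 zg15) (kg xg31 yg48 zg52) (kg xg29 yg47 zg57) (kg xg25 yg11 zg44) (kg xg31 yg55 zg21) (kg xg28 yg16 zg53) (kg xg27 yg2 zg60) (kg xg32 yg33 zg41) (kg xg29 yg53 zg22) (kg xg25 yg31 zg42) (kg xg25 yg27 zg31) (kg xg25 yg11 zg8) (kg xg29 yg9 zg30) (kg xg29 yg12 zg45) (kg xg31 yg19 zg47) (kg xg25 yg22 zg22)) (@D3.rec (fun _ => Pt) (kg xg25 yg22 zg20) (kg xg31 yg48 zg45) (kg xg27 yg30 zg11) (kg xg29 yg44 zg49) (kg xg25 yg43 zg0) (kg xg27 yg1 zg54) (kg xg25 yg6 zg29)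 (kg xg32 yg8 zg34) (kg xg31 yg47 zg25) (kg xg31 yg49 zg26) (kg xg25 yg23 zg3) (kg xg31 yg49 zg28) (kg xg31 yg42 zg9) (kg xg25 yg6 zg32) (kg xg32 yg56 zg10) (kg xg25 yg8 zg36) (kg xg31 yg49 zg3) (kg xg32 yg57 zg59) (kg xg29 yg43 zg12) (kg xg29 yg20 zg51) (kg xg25 yg48 zg56) (kg xg31 yg49 zg16) (kg xg25 yg49 zg2) (kg xg32 yg32 zg36) (kg xg28 yg5 zg55) (kg xg32 yg44 zg55) (kg xg29 yg12 zg53) (kg xg29 yg12 zg52) (kg xg25 yg7 zg0) (kg xg29 yg12 zg48) (kg xg29 yg13 zg0) (kg xg25 yg55 zg44) (kg xg25 yg7 zg3) (kg xg25 yg54 zg41) (kg xg29 yg20 zg57) (kg xg25 yg30 zg30) (kg xg30 yg1 zg10) (kg xg25 yg57 zg8) (kg xg25 yg30 zg1) (kg xg25 yg7 zg12) (kg xg29 yg12 zg34) (kg xg31 yg31 zg59) (kg xg25 yg7 zg18) (kg xg31 yg32 zg3) (kg xg27 yg1 zg10) (kg xg27 yg24 zg34) (kg xg32 yg21 zg3)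 (kg xg27 yg20 zg4) (kg xg31 yg10 zg4) (kg xg31 yg53 zg5) (kg xg25 yg7 zg38) (kg xg32 yg8 zg52) (kg xg31 yg53 zg3) (kg xg29 yg49 zg18) (kg xg27 yg14 zg31) (kg xg26 yg36 zg59) (kg xg27 yg13 zg57) (kg xg26 yg36 zg60) (kg xg29 yg45 zg55) (kg xg29 yg45 zg61) (kg xg32 yg11 zg24) (kg xg29 yg43 zg25)) (@D3.rec (fun _ => Pt) (kg xg27 yg16 zg9) (kg xg30 yg9 zg26) (kg xg26 yg36 zg3) (kg xg25 yg8 zg15) (kg xg32 yg34 zg28) (kg xg26 yg36 zg21) (kg xg32 yg45 zg23) (kg xg32 yg21 zg38) (kg xg29 yg16 zg44) (kg xg31 yg49 zg0) (kg xg31 yg48 zg57) (kg xg30 yg10 zg8) (kg xg30 yg55 zg5) (kg xg31 yg46 zg19) (kg xg29 yg36 zg24) (kg xg27 yg39 zg50) (kg xg30 yg55 zg9) (kg xg32 yg23 zg56) (kg xg32 yg0 zg11) (kg xg32 yg50 zg25) (kg xg26 yg36 zg52) (kg xg26 yg42 zg1) (kg xg31 yg53 zg7) (kg xg30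 yg10 zg2) (kg xg31 yg36 zg16) (kg xg31 yg46 zg10) (kg xg32 yg48 zg16) (kg xg29 yg15 zg53) (kg xg25 yg14 zg13) (kg xg31 yg53 zg0) (kg xg25 yg10 zg25) (kg xg26 yg47 zg18) (kg xg32 yg4 zg7) (kg xg32 yg4 zg4) (kg xg25 yg8 zg55) (kg xg32 yg52 zg32) (kg xg32 yg33 zg34) (kg xg32 yg49 zg30) (kg xg25 yg13 zg31) (kg xg32 yg24 zg9) (kg xg25 yg38 zg47) (kg xg29 yg35 zg56) (kg xg27 yg5 zg0) (kg xg31 yg52 zg16) (kg xg31 yg40 zg4) (kg xg32 yg41 zg20) (kg xg25 yg9 zg20) (kg xg25 yg9 zg21) (kg xg31 yg41 zg54) (kg xg28 yg59 zg45) (kg xg31 yg32 zg13) (kg xg29 yg41 zg23) (kg xg31 yg40 zg45) (kg xg25 yg11 zg22) (kg xg25 yg11 zg20) (kg xg25 yg9 zg33) (kg xg31 yg51 zg8) (kg xg25 yg9 zg34) (kg xg25 yg30 zg20) (kg xg30 yg55 zg11) (kg xg27 yg30 zg7) (kg xg32 yg25 zg21)) (@D3.rec (fun _ => Pt)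 (kg xg25 yg9 zg38) (kg xg32 yg58 zg5) (kg xg31 yg47 zg60) (kg xg27 yg30 zg6) (kg xg26 yg1 zg53) (kg xg32 yg10 zg27) (kg xg32 yg57 zg28) (kg xg32 yg24 zg2) (kg xg25 yg10 zg22) (kg xg28 yg44 zg57) (kg xg29 yg41 zg46) (kg xg31 yg10 zg51) (kg xg25 yg10 zg37) (kg xg31 yg59 zg7) (kg xg28 yg57 zg2) (kg xg31 yg28 zg60) (kg xg25 yg50 zg11) (kg xg31 yg8 zg17) (kg xg32 yg49 zg51) (kg xg25 yg10 zg57) (kg xg26 yg12 zg55) (kg xg31 yg55 zg60) (kg xg25 yg21 zg34) (kg xg28 yg59 zg52) (kg xg25 yg11 zg7) (kg xg25 yg22 zg11) (kg xg27 yg23 zg37) (kg xg29 yg43 zg43) (kg xg30 yg0 zg3) (kg xg29 yg2 zg39) (kg xg29 yg13 zg4) (kg xg32 yg22 zg38) (kg xg30 yg56 zg33) (kg xg25 yg48 zg1) (kg xg25 yg50 zg50) (kg xg25 yg11 zg31) (kg xg25 yg11 zg38) (kg xg32 yg28 zg28) (kg xg30 yg44 zg47) (kg xg25 yg50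 zg53) (kg xg27 yg3 zg15) (kg xg25 yg12 zg47) (kg xg28 yg26 zg31) (kg xg26 yg24 zg13) (kg xg25 yg11 zg54) (kg xg29 yg17 zg49) (kg xg31 yg36 zg29) (kg xg25 yg12 zg8) (kg xg32 yg50 zg34) (kg xg31 yg41 zg0) (kg xg25 yg24 zg29) (kg xg31 yg46 zg1) (kg xg31 yg45 zg30) (kg xg25 yg12 zg30) (kg xg25 yg12 zg33) (kg xg25 yg12 zg36) (kg xg29 yg26 zg29) (kg xg25 yg57 zg18) (kg xg29 yg7 zg1) (kg xg30 yg18 zg45) (kg xg27 yg19 zg44) (kg xg27 yg58 zg28)) (@D3.rec (fun _ => Pt) (kg xg31 yg54 zg11) (kg xg31 yg54 zg37) (kg xg29 yg56 zg22) (kg xg31 yg47 zg17) (kg xg25 yg13 zg21) (kg xg27 yg7 zg44) (kg xg27 yg42 zg6) (kg xg25 yg55 zg45) (kg xg25 yg13 zg34) (kg xg30 yg16 zg45) (kg xg31 yg47 zg9) (kg xg25 yg13 zg56) (kg xg25 yg13 zg52) (kg xg28 yg21 zg50) (kg xg25 yg13 zg54) (kg xg30 yg16 zg49)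 (kg xg31 yg16 zg25) (kg xg28 yg42 zg26) (kg xg30 yg33 zg5) (kg xg25 yg13 zg55) (kg xg30 yg33 zg7) (kg xg31 yg46 zg24) (kg xg29 yg37 zg28) (kg xg31 yg4 zg0) (kg xg25 yg14 zg7) (kg xg30 yg39 zg20) (kg xg32 yg55 zg30) (kg xg29 yg11 zg29) (kg xg32 yg7 zg42) (kg xg32 yg26 zg21) (kg xg31 yg55 zg5) (kg xg29 yg16 zg15) (kg xg31 yg10 zg56) (kg xg30 yg6 zg35) (kg xg29 yg13 zg47) (kg xg31 yg2 zg11) (kg xg31 yg2 zg22) (kg xg30 yg0 zg21) (kg xg30 yg40 zg56) (kg xg25 yg14 zg47) (kg xg29 yg16 zg17) (kg xg29 yg10 zg53) (kg xg30 yg10 zg30) (kg xg30 yg26 zg61) (kg xg29 yg16 zg30) (kg xg28 yg25 zg29) (kg xg31 yg16 zg55) (kg xg32 yg36 zg55) (kg xg29 yg47 zg50) (kg xg25 yg48 zg47) (kg xg32 yg33 zg49) (kg xg29 yg16 zg54) (kg xg25 yg15 zg9) (kg xg29 yg16 zg25) (kg xg28 yg58 zg46) (kg xg29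 yg17 zg13) (kg xg27 yg46 zg53) (kg xg25 yg15 zg24) (kg xg29 yg52 zg4) (kg xg30 yg8 zg4) (kg xg27 yg46 zg44) (kg xg27 yg29 zg52)) (@D3.rec (fun _ => Pt) (kg xg31 yg57 zg55) (kg xg28 yg13 zg30) (kg xg32 yg7 zg4) (kg xg27 yg59 zg24) (kg xg31 yg50 zg6) (kg xg29 yg52 zg26) (kg xg30 yg0 zg48) (kg xg28 yg1 zg26) (kg xg32 yg5 zg23) (kg xg29 yg49 zg9) (kg xg25 yg31 zg14) (kg xg29 yg48 zg17) (kg xg25 yg17 zg41) (kg xg29 yg24 zg48) (kg xg32 yg45 zg18) (kg xg29 yg27 zg22) (kg xg31 yg40 zg37) (kg xg30 yg55 zg0) (kg xg29 yg16 zg13) (kg xg31 yg38 zg22) (kg xg27 yg24 zg10) (kg xg29 yg15 zg60) (kg xg29 yg12 zg61) (kg xg26 yg42 zg10) (kg xg29 yg29 zg5) (kg xg29 yg29 zg4) (kg xg28 yg21 zg35) (kg xg28 yg56 zg8) (kg xg30 yg3 zg61) (kg xg29 yg7 zg5) (kg xg26 yg45 zg9) (kg xg25 yg18 zg39)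 (kg xg31 yg48 zg40) (kg xg26 yg56 zg0) (kg xg28 yg44 zg15) (kg xg28 yg48 zg39) (kg xg30 yg14 zg41) (kg xg29 yg22 zg60) (kg xg25 yg45 zg1) (kg xg25 yg20 zg2) (kg xg25 yg20 zg26) (kg xg31 yg41 zg18) (kg xg32 yg2 zg9) (kg xg25 yg19 zg15) (kg xg32 yg19 zg31) (kg xg32 yg57 zg46) (kg xg25 yg20 zg56) (kg xg26 yg54 zg25) (kg xg31 yg40 zg9) (kg xg26 yg6 zg18) (kg xg25 yg21 zg5) (kg xg31 yg36 zg31) (kg xg32 yg32 zg8) (kg xg31 yg20 zg49) (kg xg25 yg19 zg30) (kg xg31 yg41 zg35) (kg xg32 yg43 zg24) (kg xg29 yg13 zg8) (kg xg25 yg19 zg40) (kg xg26 yg37 zg55) (kg xg26 yg44 zg21) (kg xg26 yg40 zg6)) (@D3.rec (fun _ => Pt) (kg xg26 yg35 zg20) (kg xg32 yg25 zg17) (kg xg31 yg39 zg41) (kg xg32 yg5 zg19) (kg xg31 yg29 zg50) (kg xg28 yg55 zg8) (kg xg26 yg40 zg46) (kg xg25 yg20 zg20) (kg xg31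 yg47 zg57) (kg xg31 yg40 zg44) (kg xg27 yg43 zg5) (kg xg31 yg21 zg30) (kg xg29 yg43 zg40) (kg xg29 yg13 zg20) (kg xg25 yg20 zg27) (kg xg31 yg40 zg22) (kg xg29 yg13 zg34) (kg xg31 yg21 zg20) (kg xg25 yg23 zg31) (kg xg25 yg20 zg59) (kg xg31 yg41 zg9) (kg xg31 yg41 zg7) (kg xg25 yg20 zg41) (kg xg31 yg32 zg15) (kg xg25 yg20 zg47) (kg xg30 yg34 zg27) (kg xg25 yg20 zg50) (kg xg25 yg20 zg48) (kg xg29 yg11 zg19) (kg xg28 yg50 zg1) (kg xg32 yg56 zg32) (kg xg32 yg4 zg19) (kg xg25 yg20 zg51) (kg xg32 yg32 zg56) (kg xg32 yg56 zg12) (kg xg31 yg41 zg10) (kg xg25 yg20 zg54) (kg xg29 yg42 zg56) (kg xg32 yg58 zg14) (kg xg26 yg40 zg7) (kg xg32 yg56 zg34) (kg xg32 yg58 zg9) (kg xg25 yg20 zg57) (kg xg32 yg58 zg15) (kg xg32 yg51 zg44) (kg xg32 yg46 zg23) (kg xg32 yg36 zg0) (kg xg31 yg39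 zg55) (kg xg32 yg50 zg13) (kg xg32 yg5 zg18) (kg xg29 yg45 zg44) (kg xg32 yg56 zg33) (kg xg25 yg21 zg3) (kg xg26 yg6 zg8) (kg xg32 yg18 zg1) (kg xg29 yg27 zg21) (kg xg32 yg43 zg28) (kg xg29 yg27 zg33) (kg xg29 yg27 zg32) (kg xg31 yg39 zg50) (kg xg32 yg27 zg20) (kg xg25 yg21 zg17)) (@D3.rec (fun _ => Pt) (kg xg32 yg44 zg47) (kg xg29 yg14 zg20) (kg xg29 yg41 zg38) (kg xg25 yg37 zg37) (kg xg32 yg27 zg15) (kg xg32 yg57 zg48) (kg xg25 yg21 zg30) (kg xg31 yg47 zg43) (kg xg25 yg21 zg32) (kg xg27 yg15 zg15) (kg xg32 yg57 zg51) (kg xg26 yg9 zg59) (kg xg32 yg4 zg21) (kg xg32 yg58 zg21) (kg xg25 yg21 zg33) (kg xg32 yg51 zg29) (kg xg32 yg58 zg20) (kg xg31 yg51 zg1) (kg xg32 yg1 zg7) (kg xg31 yg52 zg58) (kg xg25 yg21 zg55) (kg xg32 yg39 zg47) (kg xg32 yg38 zg0) (kg xg25 yg21 zg39)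 (kg xg32 yg37 zg61) (kg xg32 yg57 zg42) (kg xg25 yg21 zg42) (kg xg31 yg51 zg50) (kg xg32 yg17 zg48) (kg xg29 yg36 zg18) (kg xg32 yg34 zg38) (kg xg26 yg34 zg23) (kg xg26 yg37 zg43) (kg xg32 yg36 zg40) (kg xg25 yg21 zg46) (kg xg32 yg17 zg59) (kg xg32 yg11 zg1) (kg xg32 yg56 zg39) (kg xg32 yg40 zg44) (kg xg29 yg23 zg33) (kg xg32 yg39 zg13) (kg xg31 yg19 zg58) (kg xg32 yg2 zg16) (kg xg28 yg55 zg22) (kg xg29 yg37 zg8) (kg xg25 yg22 zg8) (kg xg28 yg41 zg55) (kg xg28 yg15 zg59) (kg xg32 yg56 zg48) (kg xg31 yg41 zg28) (kg xg25 yg37 zg30) (kg xg27 yg35 zg49) (kg xg25 yg22 zg34) (kg xg25 yg22 zg17) (kg xg32 yg27 zg13) (kg xg25 yg36 zg42) (kg xg29 yg47 zg12) (kg xg29 yg45 zg1) (kg xg31 yg52 zg21) (kg xg32 yg50 zg41) (kg xg26 yg48 zg38) (kg xg32 yg23 zg1)) (@D3.rec (fun _ => Pt)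 (kg xg32 yg23 zg43) (kg xg31 yg47 zg29) (kg xg31 yg46 zg52) (kg xg25 yg22 zg61) (kg xg32 yg28 zg8) (kg xg31 yg46 zg50) (kg xg29 yg15 zg44) (kg xg31 yg47 zg19) (kg xg29 yg15 zg43) (kg xg31 yg47 zg26) (kg xg26 yg8 zg11) (kg xg32 yg16 zg6) (kg xg32 yg42 zg58) (kg xg32 yg40 zg31) (kg xg32 yg58 zg8) (kg xg28 yg55 zg32) (kg xg28 yg55 zg30) (kg xg25 yg23 zg35) (kg xg32 yg40 zg51) (kg xg31 yg29 zg48) (kg xg27 yg54 zg56) (kg xg29 yg27 zg42) (kg xg28 yg56 zg24) (kg xg27 yg3 zg7) (kg xg31 yg53 zg44) (kg xg31 yg38 zg35) (kg xg27 yg42 zg33) (kg xg31 yg12 zg60) (kg xg29 yg26 zg4) (kg xg30 yg46 zg59) (kg xg25 yg24 zg47) (kg xg32 yg15 zg54) (kg xg26 yg45 zg41) (kg xg25 yg30 zg18) (kg xg25 yg27 zg1) (kg xg27 yg22 zg44) (kg xg27 yg14 zg40) (kg xg25 yg25 zg10) (kg xg27 yg0 zg38) (kg xg31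 yg36 zg48) (kg xg31 yg53 zg28) (kg xg29 yg6 zg2) (kg xg28 yg33 zg29) (kg xg28 yg18 zg28) (kg xg28 yg48 zg22) (kg xg26 yg41 zg56) (kg xg25 yg55 zg49) (kg xg28 yg16 zg58) (kg xg30 yg48 zg6) (kg xg28 yg4 zg47) (kg xg31 yg39 zg28) (kg xg27 yg2 zg54) (kg xg31 yg39 zg24) (kg xg29 yg53 zg49) (kg xg31 yg54 zg4) (kg xg25 yg26 zg25) (kg xg31 yg3 zg13) (kg xg32 yg28 zg55) (kg xg30 yg43 zg32) (kg xg29 yg20 zg35) (kg xg28 yg8 zg37) (kg xg31 yg36 zg39)) (@D3.rec (fun _ => Pt) (kg xg32 yg15 zg39) (kg xg30 yg50 zg10) (kg xg32 yg10 zg20) (kg xg27 yg13 zg55) (kg xg31 yg53 zg55) (kg xg31 yg25 zg49) (kg xg29 yg5 zg19) (kg xg25 yg30 zg40) (kg xg25 yg35 zg54) (kg xg25 yg27 zg13) (kg xg30 yg7 zg52) (kg xg31 yg49 zg10) (kg xg25 yg33 zg45) (kg xg25 yg33 zg8) (kg xg25 yg33 zg0) (kg xg31 yg57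 zg9) (kg xg25 yg28 zg29) (kg xg32 yg8 zg31) (kg xg25 yg56 zg26) (kg xg27 yg53 zg12) (kg xg27 yg49 zg44) (kg xg25 yg54 zg58) (kg xg32 yg58 zg33) (kg xg29 yg5 zg5) (kg xg25 yg35 zg6) (kg xg25 yg28 zg40) (kg xg29 yg4 zg19) (kg xg25 yg36 zg21) (kg xg25 yg29 zg11) (kg xg27 yg28 zg40) (kg xg31 yg34 zg17) (kg xg32 yg24 zg26) (kg xg31 yg25 zg44) (kg xg32 yg28 zg54) (kg xg30 yg19 zg37) (kg xg25 yg30 zg16) (kg xg25 yg30 zg34) (kg xg29 yg4 zg42) (kg xg30 yg14 zg17) (kg xg25 yg32 zg59) (kg xg27 yg27 zg42) (kg xg30 yg17 zg4) (kg xg29 yg10 zg2) (kg xg27 yg20 zg8) (kg xg25 yg29 zg56) (kg xg26 yg41 zg38) (kg xg25 yg30 zg9) (kg xg25 yg29 zg59) (kg xg32 yg54 zg7) (kg xg25 yg53 zg46) (kg xg31 yg38 zg36) (kg xg32 yg6 zg16) (kg xg31 yg53 zg61) (kg xg28 yg26 zg50) (kg xg32 yg42 zg35) (kg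 xg25 yg30 zg8) (kg xg32 yg54 zg8) (kg xg32 yg43 zg57) (kg xg30 yg7 zg61) (kg xg32 yg23 zg45) (kg xg25 yg30 zg24) (kg xg29 yg51 zg41)) (@D3.rec (fun _ => Pt) (kg xg27 yg24 zg29) (kg xg25 yg38 zg56) (kg xg32 yg42 zg19) (kg xg29 yg16 zg38) (kg xg30 yg10 zg56) (kg xg31 yg49 zg30) (kg xg29 yg59 zg24) (kg xg25 yg30 zg41) (kg xg32 yg50 zg7) (kg xg25 yg30 zg42) (kg xg26 yg16 zg50) (kg xg32 yg53 zg0) (kg xg27 yg59 zg45) (kg xg28 yg17 zg14) (kg xg27 yg5 zg61) (kg xg27 yg38 zg39) (kg xg32 yg21 zg53) (kg xg32 yg26 zg30) (kg xg32 yg29 zg26) (kg xg25 yg54 zg38) (kg xg31 yg17 zg36) (kg xg31 yg22 zg18) (kg xg31 yg24 zg40) (kg xg25 yg32 zg16) (kg xg25 yg32 zg13) (kg xg25 yg31 zg60) (kg xg25 yg31 zg57) (kg xg32 yg0 zg50) (kg xg28 yg49 zg4) (kg xg26 yg38 zg6) (kg xg28 yg57 zg61) (kg xg25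 yg55 zg37) (kg xg28 yg58 zg2) (kg xg32 yg13 zg4) (kg xg28 yg42 zg14) (kg xg27 yg14 zg45) (kg xg25 yg32 zg25) (kg xg30 yg29 zg32) (kg xg32 yg56 zg47) (kg xg32 yg1 zg8) (kg xg25 yg32 zg26) (kg xg32 yg43 zg22) (kg xg27 yg16 zg16) (kg xg25 yg32 zg27) (kg xg28 yg54 zg46) (kg xg25 yg53 zg8) (kg xg32 yg17 zg6) (kg xg32 yg41 zg46) (kg xg27 yg29 zg55) (kg xg25 yg32 zg45) (kg xg30 yg14 zg21) (kg xg27 yg56 zg13) (kg xg28 yg58 zg34) (kg xg31 yg50 zg29) (kg xg31 yg46 zg32) (kg xg27 yg27 zg39) (kg xg27 yg17 zg33) (kg xg25 yg35 zg53) (kg xg29 yg35 zg60) (kg xg32 yg35 zg34) (kg xg30 yg7 zg47) (kg xg29 yg44 zg50)) (@D3.rec (fun _ => Pt) (kg xg30 yg7 zg53) (kg xg27 yg17 zg31) (kg xg29 yg27 zg34) (kg xg31 yg48 zg2) (kg xg32 yg0 zg6) (kg xg25 yg33 zg48) (kg xg28 yg6 zg9) (kg xg25 yg34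 zg19) (kg xg32 yg58 zg35) (kg xg28 yg49 zg21) (kg xg31 yg13 zg26) (kg xg32 yg52 zg24) (kg xg25 yg35 zg24) (kg xg30 yg45 zg1) (kg xg26 yg0 zg36) (kg xg30 yg11 zg23) (kg xg32 yg49 zg29) (kg xg28 yg53 zg51) (kg xg31 yg27 zg32) (kg xg32 yg42 zg13) (kg xg29 yg18 zg50) (kg xg25 yg57 zg4) (kg xg31 yg26 zg43) (kg xg29 yg47 zg53) (kg xg29 yg57 zg11) (kg xg27 yg18 zg56) (kg xg27 yg2 zg2) (kg xg26 yg29 zg39) (kg xg30 yg47 zg32) (kg xg31 yg53 zg20) (kg xg31 yg23 zg37) (kg xg32 yg56 zg46) (kg xg32 yg41 zg56) (kg xg31 yg58 zg5) (kg xg31 yg27 zg18) (kg xg31 yg30 zg22) (kg xg28 yg23 zg45) (kg xg25 yg36 zg44) (kg xg29 yg43 zg3) (kg xg26 yg34 zg1) (kg xg31 yg59 zg0) (kg xg31 yg59 zg1) (kg xg32 yg55 zg6) (kg xg31 yg10 zg12) (kg xg32 yg55 zg41) (kg xg25 yg38 zg54) (kg xg25 yg37 zg13) (kg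 xg30 yg41 zg2) (kg xg30 yg52 zg19) (kg xg29 yg13 zg53) (kg xg30 yg4 zg50) (kg xg31 yg39 zg60) (kg xg32 yg5 zg14) (kg xg31 yg20 zg48) (kg xg31 yg51 zg39) (kg xg25 yg37 zg24) (kg xg32 yg40 zg34) (kg xg31 yg41 zg22) (kg xg25 yg37 zg31) (kg xg32 yg46 zg4) (kg xg26 yg53 zg37) (kg xg32 yg36 zg37)) (@D3.rec (fun _ => Pt) (kg xg29 yg14 zg22) (kg xg32 yg51 zg24) (kg xg32 yg46 zg12) (kg xg25 yg37 zg58) (kg xg32 yg39 zg10) (kg xg31 yg55 zg2) (kg xg30 yg10 zg38) (kg xg26 yg1 zg47) (kg xg25 yg38 zg6) (kg xg31 yg54 zg16) (kg xg25 yg39 zg4) (kg xg31 yg32 zg20) (kg xg27 yg24 zg33) (kg xg31 yg32 zg19) (kg xg32 yg3 zg32) (kg xg30 yg16 zg61) (kg xg32 yg58 zg29) (kg xg31 yg58 zg22) (kg xg31 yg29 zg36) (kg xg25 yg40 zg6) (kg xg25 yg38 zg35) (kg xg25 yg38 zg49) (kg xg25 yg38 zg45) (kg xg31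 yg4 zg42) (kg xg31 yg41 zg59) (kg xg29 yg10 zg45) (kg xg26 yg54 zg56) (kg xg28 yg43 zg40) (kg xg31 yg5 zg3) (kg xg31 yg4 zg18) (kg xg30 yg42 zg15) (kg xg31 yg58 zg35) (kg xg31 yg58 zg42) (kg xg31 yg58 zg46) (kg xg25 yg38 zg60) (kg xg32 yg29 zg17) (kg xg32 yg30 zg32) (kg xg32 yg55 zg19) (kg xg31 yg2 zg10) (kg xg31 yg11 zg54) (kg xg31 yg3 zg28) (kg xg30 yg13 zg44) (kg xg25 yg39 zg8) (kg xg25 yg39 zg5) (kg xg32 yg26 zg60) (kg xg25 yg39 zg6) (kg xg30 yg52 zg20) (kg xg28 yg47 zg20) (kg xg30 yg2 zg31) (kg xg32 yg55 zg33) (kg xg31 yg1 zg41) (kg xg31 yg4 zg59) (kg xg32 yg28 zg11) (kg xg26 yg16 zg28) (kg xg25 yg39 zg24) (kg xg32 yg6 zg50) (kg xg29 yg48 zg8) (kg xg25 yg39 zg32) (kg xg32 yg6 zg14) (kg xg27 yg1 zg26) (kg xg31 yg10 zg43) (kg xg30 yg41 zg19)) (@D3.rec (fun _ => Pt)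 (kg xg31 yg3 zg57) (kg xg31 yg10 zg40) (kg xg31 yg10 zg23) (kg xg25 yg40 zg1) (kg xg31 yg53 zg56) (kg xg32 yg35 zg6) (kg xg32 yg3 zg9) (kg xg31 yg56 zg33) (kg xg31 yg57 zg41) (kg xg27 yg18 zg32) (kg xg28 yg37 zg23) (kg xg25 yg40 zg28) (kg xg27 yg37 zg18) (kg xg28 yg36 zg41) (kg xg28 yg7 zg50) (kg xg28 yg30 zg19) (kg xg30 yg50 zg22) (kg xg25 yg41 zg13) (kg xg30 yg2 zg10) (kg xg32 yg53 zg14) (kg xg31 yg57 zg18) (kg xg31 yg5 zg35) (kg xg31 yg3 zg16) (kg xg29 yg12 zg28) (kg xg25 yg41 zg35) (kg xg25 yg41 zg41) (kg xg30 yg1 zg58) (kg xg28 yg41 zg56) (kg xg27 yg37 zg19) (kg xg25 yg42 zg3) (kg xg27 yg37 zg21) (kg xg30 yg59 zg22) (kg xg25 yg42 zg45) (kg xg32 yg44 zg19) (kg xg25 yg58 zg25) (kg xg25 yg42 zg47) (kg xg31 yg57 zg32) (kg xg28 yg49 zg37) (kg xg30 yg2 zg9) (kg xg32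 yg30 zg12) (kg xg29 yg26 zg50) (kg xg32 yg48 zg13) (kg xg25 yg42 zg50) (kg xg31 yg55 zg1) (kg xg31 yg1 zg13) (kg xg31 yg7 zg54) (kg xg31 yg57 zg34) (kg xg28 yg36 zg31) (kg xg32 yg54 zg24) (kg xg32 yg43 zg15) (kg xg30 yg59 zg30) (kg xg26 yg10 zg39) (kg xg27 yg3 zg10) (kg xg28 yg44 zg30) (kg xg27 yg14 zg11) (kg xg27 yg2 zg7) (kg xg32 yg44 zg28) (kg xg25 yg59 zg13) (kg xg25 yg43 zg54) (kg xg30 yg54 zg52) (kg xg25 yg54 zg51) (kg xg31 yg27 zg17)) (@D3.rec (fun _ => Pt) (kg xg31 yg56 zg41) (kg xg31 yg56 zg40) (kg xg26 yg0 zg15) (kg xg32 yg4 zg59) (kg xg32 yg57 zg57) (kg xg28 yg13 zg28) (kg xg25 yg45 zg2) (kg xg31 yg43 zg49) (kg xg29 yg42 zg6) (kg xg27 yg29 zg25) (kg xg27 yg27 zg35) (kg xg32 yg11 zg41) (kg xg27 yg35 zg15) (kg xg31 yg50 zg8) (kg xg32 yg24 zg28) (kg xg27 yg25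 zg52) (kg xg27 yg39 zg44) (kg xg26 yg18 zg20) (kg xg27 yg52 zg18) (kg xg28 yg45 zg39) (kg xg28 yg10 zg54) (kg xg28 yg0 zg26) (kg xg32 yg28 zg12) (kg xg31 yg0 zg51) (kg xg26 yg27 zg34) (kg xg25 yg46 zg27) (kg xg25 yg46 zg28) (kg xg31 yg0 zg42) (kg xg31 yg11 zg42) (kg xg28 yg4 zg12) (kg xg30 yg1 zg0) (kg xg32 yg26 zg28) (kg xg32 yg34 zg58) (kg xg31 yg20 zg41) (kg xg32 yg42 zg37) (kg xg28 yg48 zg55) (kg xg28 yg48 zg56) (kg xg31 yg57 zg57) (kg xg28 yg38 zg32) (kg xg25 yg50 zg25) (kg xg32 yg15 zg41) (kg xg25 yg52 zg49) (kg xg28 yg21 zg42) (kg xg31 yg21 zg33) (kg xg26 yg26 zg51) (kg xg31 yg7 zg43) (kg xg31 yg17 zg6) (kg xg25 yg47 zg61) (kg xg26 yg15 zg38) (kg xg25 yg54 zg36) (kg xg25 yg48 zg10) (kg xg27 yg16 zg42) (kg xg32 yg0 zg5) (kg xg32 yg0 zg1) (kg xg27 yg21 zg39) (kg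 xg32 yg22 zg36) (kg xg28 yg20 zg26) (kg xg28 yg50 zg56) (kg xg25 yg56 zg8) (kg xg29 yg0 zg22) (kg xg26 yg20 zg32) (kg xg25 yg55 zg52))
def f_g_32 : D2 → D3 → Pt := @D2.rec (fun _ => D3 → Pt) (@D3.rec (fun _ => Pt) (kg xg25 yg48 zg48) (kg xg29 yg20 zg46) (kg xg31 yg43 zg39) (kg xg32 yg9 zg42) (kg xg31 yg47 zg59) (kg xg32 yg1 zg41) (kg xg25 yg49 zg9) (kg xg31 yg47 zg10) (kg xg31 yg47 zg18) (kg xg32 yg56 zg59) (kg xg29 yg56 zg61) (kg xg31 yg31 zg33) (kg xg31 yg47 zg24) (kg xg29 yg49 zg30) (kg xg26 yg41 zg32) (kg xg25 yg49 zg53) (kg xg31 yg48 zg44) (kg xg31 yg43 zg57) (kg xg25 yg50 zg1) (kg xg28 yg28 zg53) (kg xg28 yg59 zg19) (kg xg27 yg21 zg30) (kg xg25 yg50 zg16) (kg xg32 yg0 zg13) (kg xg32 yg41 zg13) (kg xg28 yg52 zg50) (kg xg29 yg15 zg59) (kg xg26 yg57 zg10) (kg xg25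 yg50 zg29) (kg xg27 yg21 zg46) (kg xg31 yg28 zg5) (kg xg27 yg53 zg3) (kg xg32 yg11 zg60) (kg xg25 yg50 zg49) (kg xg28 yg38 zg15) (kg xg31 yg50 zg32) (kg xg25 yg50 zg52) (kg xg27 yg38 zg57) (kg xg32 yg44 zg29) (kg xg30 yg8 zg7) (kg xg25 yg50 zg61) (kg xg25 yg51 zg4) (kg xg29 yg17 zg22) (kg xg32 yg41 zg30) (kg xg30 yg9 zg20) (kg xg28 yg57 zg25) (kg xg31 yg21 zg53) (kg xg28 yg47 zg55) (kg xg28 yg48 zg10) (kg xg26 yg44 zg57) (kg xg29 yg38 zg1) (kg xg25 yg51 zg38) (kg xg32 yg46 zg44) (kg xg28 yg51 zg19) (kg xg30 yg58 zg11) (kg xg28 yg53 zg48) (kg xg27 yg19 zg28) (kg xg32 yg47 zg19) (kg xg32 yg15 zg2) (kg xg25 yg52 zg40) (kg xg29 yg38 zg60) (kg xg29 yg37 zg52)) (@D3.rec (fun _ => Pt) (kg xg28 yg18 zg21) (kg xg28 yg40 zg32) (kg xg29 yg9 zg0) (kg xg28 yg28 zg55) (kg xg28 yg45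 zg33) (kg xg25 yg53 zg3) (kg xg32 yg52 zg1) (kg xg31 yg20 zg38) (kg xg31 yg55 zg42) (kg xg30 yg28 zg53) (kg xg31 yg58 zg56) (kg xg29 yg32 zg0) (kg xg29 yg16 zg43) (kg xg29 yg30 zg45) (kg xg29 yg4 zg17) (kg xg25 yg53 zg43) (kg xg25 yg57 zg51) (kg xg30 yg54 zg36) (kg xg25 yg54 zg40) (kg xg27 yg28 zg18) (kg xg30 yg53 zg33) (kg xg25 yg59 zg59) (kg xg30 yg56 zg17) (kg xg32 yg48 zg46) (kg xg32 yg53 zg40) (kg xg31 yg45 zg22) (kg xg30 yg7 zg16) (kg xg25 yg54 zg14) (kg xg25 yg54 zg34) (kg xg29 yg32 zg2) (kg xg25 yg54 zg37) (kg xg25 yg54 zg22) (kg xg31 yg54 zg21) (kg xg25 yg54 zg33) (kg xg32 yg2 zg20) (kg xg25 yg59 zg7) (kg xg32 yg44 zg14) (kg xg32 yg9 zg40) (kg xg32 yg57 zg58) (kg xg32 yg42 zg23) (kg xg31 yg46 zg51) (kg xg25 yg58 zg37) (kg xg32 yg29 zg33) (kg xg25 yg54 zg42)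 (kg xg27 yg49 zg53) (kg xg29 yg28 zg43) (kg xg25 yg54 zg45) (kg xg25 yg58 zg15) (kg xg32 yg2 zg48) (kg xg26 yg36 zg56) (kg xg30 yg55 zg45) (kg xg27 yg15 zg26) (kg xg29 yg42 zg5) (kg xg27 yg1 zg58) (kg xg29 yg25 zg34) (kg xg32 yg46 zg60) (kg xg27 yg9 zg56) (kg xg25 yg56 zg29) (kg xg31 yg59 zg53) (kg xg28 yg31 zg61) (kg xg26 yg55 zg2) (kg xg30 yg6 zg33)) (@D3.rec (fun _ => Pt) (kg xg25 yg56 zg2) (kg xg32 yg21 zg36) (kg xg25 yg56 zg21) (kg xg29 yg47 zg8) (kg xg30 yg28 zg8) (kg xg32 yg42 zg39) (kg xg29 yg31 zg7) (kg xg25 yg56 zg31) (kg xg32 yg2 zg25) (kg xg31 yg50 zg43) (kg xg31 yg16 zg19) (kg xg32 yg44 zg24) (kg xg30 yg33 zg8) (kg xg25 yg56 zg40) (kg xg32 yg57 zg56) (kg xg31 yg40 zg0) (kg xg28 yg49 zg51) (kg xg31 yg50 zg41) (kg xg25 yg56 zg48) (kg xg25 yg57 zg20) (kg xg29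 yg18 zg33) (kg xg32 yg34 zg17) (kg xg30 yg54 zg48) (kg xg25 yg57 zg15) (kg xg32 yg22 zg27) (kg xg25 yg57 zg37) (kg xg25 yg57 zg36) (kg xg32 yg23 zg44) (kg xg29 yg12 zg5) (kg xg25 yg57 zg42) (kg xg29 yg52 zg55) (kg xg32 yg54 zg37) (kg xg30 yg55 zg24) (kg xg31 yg56 zg16) (kg xg27 yg1 zg35) (kg xg32 yg52 zg17) (kg xg29 yg15 zg54) (kg xg28 yg20 zg55) (kg xg32 yg21 zg32) (kg xg28 yg7 zg35) (kg xg25 yg58 zg2) (kg xg27 yg32 zg26) (kg xg32 yg43 zg51) (kg xg29 yg59 zg13) (kg xg29 yg43 zg48) (kg xg29 yg1 zg47) (kg xg30 yg27 zg17) (kg xg32 yg1 zg48) (kg xg25 yg58 zg32) (kg xg29 yg47 zg52) (kg xg25 yg58 zg60) (kg xg25 yg58 zg59) (kg xg25 yg59 zg6) (kg xg25 yg58 zg51) (kg xg25 yg59 zg4) (kg xg30 yg3 zg29) (kg xg30 yg31 zg50) (kg xg30 yg31 zg49) (kg xg31 yg44 zg60) (kg xg30 yg9 zg47)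 (kg xg31 yg2 zg33) (kg xg25 yg59 zg23)) (@D3.rec (fun _ => Pt) (kg xg30 yg56 zg29) (kg xg32 yg18 zg16) (kg xg30 yg55 zg20) (kg xg28 yg53 zg33) (kg xg25 yg59 zg45) (kg xg26 yg43 zg31) (kg xg27 yg41 zg13) (kg xg30 yg13 zg54) (kg xg26 yg0 zg9) (kg xg30 yg10 zg40) (kg xg28 yg42 zg51) (kg xg26 yg3 zg34) (kg xg29 yg17 zg17) (kg xg29 yg22 zg25) (kg xg29 yg11 zg28) (kg xg29 yg11 zg26) (kg xg26 yg1 zg29) (kg xg31 yg10 zg42) (kg xg30 yg6 zg6) (kg xg31 yg4 zg33) (kg xg32 yg54 zg57) (kg xg32 yg3 zg31) (kg xg28 yg48 zg31) (kg xg31 yg39 zg53) (kg xg29 yg15 zg17) (kg xg29 yg27 zg19) (kg xg32 yg51 zg48) (kg xg30 yg27 zg10) (kg xg26 yg38 zg48) (kg xg31 yg12 zg15) (kg xg30 yg58 zg13) (kg xg26 yg2 zg42) (kg xg31 yg47 zg40) (kg xg31 yg41 zg39) (kg xg32 yg12 zg0) (kg xg26 yg59 zg25) (kg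 xg32 yg41 zg19) (kg xg26 yg2 zg53) (kg xg32 yg19 zg54) (kg xg29 yg47 zg28) (kg xg32 yg57 zg11) (kg xg31 yg44 zg47) (kg xg26 yg10 zg5) (kg xg30 yg18 zg1) (kg xg27 yg27 zg61) (kg xg31 yg52 zg9) (kg xg31 yg12 zg16) (kg xg30 yg20 zg13) (kg xg32 yg6 zg57) (kg xg26 yg4 zg26) (kg xg28 yg4 zg57) (kg xg30 yg41 zg31) (kg xg27 yg33 zg30) (kg xg28 yg6 zg19) (kg xg27 yg46 zg39) (kg xg32 yg27 zg36) (kg xg26 yg13 zg47) (kg xg26 yg13 zg51) (kg xg31 yg43 zg51) (kg xg29 yg43 zg9) (kg xg26 yg4 zg58) (kg xg26 yg39 zg57)) (@D3.rec (fun _ => Pt) (kg xg29 yg47 zg20) (kg xg30 yg9 zg28) (kg xg26 yg4 zg45) (kg xg32 yg58 zg40) (kg xg31 yg47 zg34) (kg xg30 yg29 zg39) (kg xg26 yg4 zg52) (kg xg26 yg33 zg59) (kg xg26 yg4 zg61) (kg xg27 yg16 zg34) (kg xg32 yg14 zg24) (kg xg31 yg20 zg54) (kg xg29 yg44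 zg31) (kg xg29 yg44 zg36) (kg xg26 yg23 zg39) (kg xg32 yg15 zg35) (kg xg29 yg29 zg52) (kg xg31 yg20 zg9) (kg xg32 yg50 zg24) (kg xg31 yg51 zg30) (kg xg32 yg39 zg8) (kg xg31 yg52 zg10) (kg xg32 yg40 zg36) (kg xg32 yg53 zg24) (kg xg32 yg43 zg14) (kg xg26 yg6 zg19) (kg xg32 yg57 zg31) (kg xg32 yg58 zg48) (kg xg31 yg41 zg36) (kg xg32 yg53 zg22) (kg xg29 yg12 zg4) (kg xg26 yg9 zg54) (kg xg29 yg17 zg16) (kg xg31 yg57 zg16) (kg xg26 yg6 zg49) (kg xg29 yg10 zg3) (kg xg31 yg37 zg10) (kg xg30 yg31 zg37) (kg xg31 yg36 zg25) (kg xg31 yg37 zg47) (kg xg29 yg10 zg5) (kg xg28 yg41 zg4) (kg xg26 yg48 zg19) (kg xg28 yg13 zg24) (kg xg26 yg7 zg38) (kg xg28 yg27 zg37) (kg xg26 yg59 zg26) (kg xg29 yg49 zg43) (kg xg31 yg30 zg12) (kg xg29 yg49 zg54) (kg xg31 yg27 zg36) (kg xg26 yg8 zg18) (kg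 xg26 yg47 zg26) (kg xg32 yg16 zg7) (kg xg32 yg55 zg42) (kg xg32 yg26 zg56) (kg xg32 yg55 zg44) (kg xg31 yg11 zg49) (kg xg29 yg48 zg54) (kg xg31 yg59 zg4) (kg xg32 yg26 zg47) (kg xg30 yg47 zg5)) (@D3.rec (fun _ => Pt) (kg xg27 yg44 zg41) (kg xg31 yg6 zg49) (kg xg30 yg13 zg31) (kg xg30 yg59 zg21) (kg xg29 yg48 zg52) (kg xg26 yg47 zg30) (kg xg31 yg12 zg11) (kg xg31 yg49 zg35) (kg xg26 yg47 zg55) (kg xg30 yg42 zg8) (kg xg31 yg34 zg6) (kg xg30 yg38 zg58) (kg xg26 yg9 zg34) (kg xg29 yg12 zg22) (kg xg32 yg54 zg60) (kg xg30 yg44 zg37) (kg xg28 yg31 zg27) (kg xg31 yg40 zg36) (kg xg32 yg43 zg12) (kg xg31 yg40 zg26) (kg xg31 yg34 zg35) (kg xg32 yg57 zg37) (kg xg31 yg1 zg9) (kg xg28 yg9 zg53) (kg xg27 yg27 zg44) (kg xg29 yg46 zg9) (kg xg30 yg14 zg30) (kg xg28 yg9 zg61) (kg xg30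 yg2 zg24) (kg xg27 yg27 zg38) (kg xg27 yg28 zg58) (kg xg31 yg34 zg0) (kg xg27 yg29 zg5) (kg xg27 yg27 zg14) (kg xg27 yg29 zg56) (kg xg26 yg11 zg57) (kg xg31 yg34 zg2) (kg xg26 yg11 zg42) (kg xg28 yg43 zg49) (kg xg32 yg9 zg50) (kg xg32 yg5 zg24) (kg xg32 yg5 zg52) (kg xg32 yg24 zg48) (kg xg26 yg11 zg58) (kg xg32 yg25 zg3) (kg xg31 yg39 zg2) (kg xg32 yg38 zg5) (kg xg26 yg12 zg0) (kg xg26 yg11 zg55) (kg xg26 yg11 zg52) (kg xg28 yg41 zg7) (kg xg32 yg5 zg51) (kg xg30 yg59 zg60) (kg xg31 yg33 zg58) (kg xg26 yg11 zg60) (kg xg26 yg11 zg59) (kg xg31 yg32 zg54) (kg xg32 yg38 zg4) (kg xg28 yg41 zg44) (kg xg26 yg21 zg7) (kg xg26 yg12 zg7) (kg xg32 yg10 zg8)) (@D3.rec (fun _ => Pt) (kg xg27 yg25 zg20) (kg xg26 yg12 zg49) (kg xg31 yg44 zg29) (kg xg26 yg21 zg50) (kg xg27 yg31 zg1)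 (kg xg27 yg39 zg41) (kg xg26 yg13 zg33) (kg xg32 yg31 zg21) (kg xg32 yg25 zg27) (kg xg26 yg18 zg2) (kg xg32 yg48 zg31) (kg xg28 yg4 zg28) (kg xg29 yg54 zg18) (kg xg27 yg48 zg58) (kg xg29 yg21 zg15) (kg xg26 yg46 zg49) (kg xg26 yg54 zg53) (kg xg27 yg45 zg22) (kg xg29 yg57 zg23) (kg xg27 yg48 zg27) (kg xg31 yg11 zg27) (kg xg30 yg4 zg19) (kg xg27 yg45 zg55) (kg xg29 yg25 zg11) (kg xg26 yg15 zg19) (kg xg32 yg8 zg23) (kg xg31 yg42 zg53) (kg xg27 yg41 zg43) (kg xg27 yg47 zg41) (kg xg32 yg43 zg18) (kg xg29 yg20 zg50) (kg xg32 yg49 zg44) (kg xg26 yg15 zg29) (kg xg26 yg15 zg34) (kg xg32 yg28 zg38) (kg xg29 yg20 zg48) (kg xg32 yg28 zg30) (kg xg27 yg49 zg0) (kg xg30 yg1 zg4) (kg xg26 yg15 zg56) (kg xg30 yg52 zg24) (kg xg31 yg12 zg7) (kg xg28 yg44 zg6) (kg xg31 yg42 zg40) (kg xg26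 yg20 zg54) (kg xg32 yg28 zg24) (kg xg32 yg27 zg31) (kg xg32 yg26 zg39) (kg xg32 yg6 zg5) (kg xg28 yg4 zg6) (kg xg27 yg28 zg11) (kg xg26 yg16 zg32) (kg xg32 yg8 zg1) (kg xg29 yg4 zg33) (kg xg31 yg13 zg23) (kg xg27 yg48 zg40) (kg xg32 yg3 zg48) (kg xg26 yg17 zg18) (kg xg32 yg29 zg53) (kg xg32 yg26 zg33) (kg xg28 yg27 zg30) (kg xg26 yg17 zg30)) (@D3.rec (fun _ => Pt) (kg xg32 yg10 zg19) (kg xg29 yg29 zg0) (kg xg32 yg30 zg55) (kg xg26 yg20 zg30) (kg xg27 yg55 zg0) (kg xg32 yg48 zg38) (kg xg29 yg4 zg45) (kg xg29 yg5 zg10) (kg xg30 yg43 zg47) (kg xg29 yg4 zg46) (kg xg32 yg57 zg36) (kg xg26 yg17 zg56) (kg xg32 yg7 zg48) (kg xg31 yg27 zg44) (kg xg29 yg24 zg56) (kg xg31 yg8 zg19) (kg xg27 yg46 zg43) (kg xg27 yg45 zg0) (kg xg32 yg29 zg37) (kg xg26 yg18 zg32) (kg xg27 yg53 zg48)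 (kg xg32 yg30 zg20) (kg xg31 yg50 zg2) (kg xg32 yg8 zg39) (kg xg31 yg32 zg57) (kg xg26 yg21 zg22) (kg xg28 yg4 zg41) (kg xg32 yg29 zg0) (kg xg26 yg19 zg2) (kg xg29 yg18 zg29) (kg xg31 yg39 zg11) (kg xg31 yg43 zg16) (kg xg27 yg50 zg10) (kg xg32 yg44 zg25) (kg xg27 yg30 zg29) (kg xg30 yg7 zg33) (kg xg26 yg43 zg45) (kg xg32 yg17 zg14) (kg xg26 yg27 zg57) (kg xg28 yg34 zg20) (kg xg31 yg3 zg44) (kg xg32 yg10 zg0) (kg xg32 yg23 zg34) (kg xg31 yg56 zg35) (kg xg32 yg54 zg15) (kg xg28 yg17 zg42) (kg xg28 yg4 zg21) (kg xg27 yg49 zg8) (kg xg32 yg6 zg47) (kg xg30 yg20 zg18) (kg xg32 yg10 zg15) (kg xg32 yg7 zg18) (kg xg26 yg21 zg6) (kg xg32 yg10 zg4) (kg xg31 yg42 zg25) (kg xg26 yg21 zg20) (kg xg30 yg55 zg8) (kg xg29 yg19 zg23) (kg xg32 yg48 zg33) (kg xg31 yg42 zg56) (kg xg31 yg25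 zg17) (kg xg31 yg42 zg55)) (@D3.rec (fun _ => Pt) (kg xg32 yg6 zg52) (kg xg26 yg21 zg32) (kg xg30 yg45 zg32) (kg xg29 yg2 zg4) (kg xg31 yg0 zg23) (kg xg27 yg36 zg17) (kg xg32 yg38 zg42) (kg xg31 yg17 zg45) (kg xg26 yg48 zg46) (kg xg26 yg22 zg15) (kg xg29 yg54 zg5) (kg xg32 yg54 zg61) (kg xg26 yg22 zg20) (kg xg32 yg32 zg35) (kg xg27 yg14 zg28) (kg xg26 yg22 zg25) (kg xg31 yg58 zg13) (kg xg30 yg34 zg8) (kg xg26 yg30 zg1) (kg xg28 yg32 zg0) (kg xg30 yg17 zg21) (kg xg32 yg9 zg30) (kg xg32 yg48 zg59) (kg xg32 yg6 zg27) (kg xg31 yg42 zg27) (kg xg26 yg23 zg60) (kg xg30 yg51 zg12) (kg xg29 yg24 zg21) (kg xg30 yg26 zg29) (kg xg28 yg34 zg40) (kg xg30 yg18 zg37) (kg xg26 yg24 zg22) (kg xg31 yg56 zg11) (kg xg26 yg24 zg26) (kg xg31 yg55 zg11) (kg xg26 yg26 zg8) (kg xg27 yg15 zg22)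 (kg xg32 yg31 zg31) (kg xg32 yg10 zg13) (kg xg32 yg7 zg14) (kg xg26 yg24 zg56) (kg xg28 yg50 zg19) (kg xg28 yg47 zg14) (kg xg28 yg28 zg10) (kg xg29 yg9 zg53) (kg xg28 yg21 zg38) (kg xg30 yg3 zg52) (kg xg26 yg25 zg41) (kg xg26 yg26 zg2) (kg xg32 yg51 zg37) (kg xg30 yg24 zg30) (kg xg26 yg30 zg50) (kg xg32 yg58 zg28) (kg xg32 yg16 zg24) (kg xg29 yg37 zg0) (kg xg32 yg37 zg25) (kg xg29 yg53 zg40) (kg xg32 yg41 zg8) (kg xg32 yg16 zg29) (kg xg30 yg24 zg23) (kg xg28 yg55 zg14) (kg xg27 yg58 zg20)) (@D3.rec (fun _ => Pt) (kg xg32 yg39 zg41) (kg xg27 yg15 zg18) (kg xg32 yg40 zg55) (kg xg32 yg30 zg56) (kg xg30 yg3 zg16) (kg xg32 yg18 zg45) (kg xg32 yg35 zg22) (kg xg32 yg21 zg33) (kg xg32 yg53 zg46) (kg xg32 yg40 zg41) (kg xg30 yg47 zg21) (kg xg32 yg46 zg31) (kg xg31 yg14 zg5)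 (kg xg30 yg21 zg8) (kg xg32 yg29 zg28) (kg xg28 yg5 zg58) (kg xg26 yg36 zg45) (kg xg32 yg35 zg15) (kg xg31 yg29 zg23) (kg xg32 yg8 zg16) (kg xg26 yg28 zg14) (kg xg26 yg28 zg26) (kg xg31 yg22 zg52) (kg xg32 yg34 zg4) (kg xg32 yg16 zg30) (kg xg29 yg21 zg2) (kg xg26 yg28 zg53) (kg xg32 yg9 zg44) (kg xg29 yg28 zg54) (kg xg32 yg47 zg4) (kg xg32 yg16 zg46) (kg xg27 yg58 zg22) (kg xg32 yg57 zg61) (kg xg27 yg50 zg58) (kg xg26 yg29 zg16) (kg xg26 yg29 zg19) (kg xg32 yg35 zg8) (kg xg26 yg29 zg17) (kg xg28 yg37 zg25) (kg xg32 yg27 zg33) (kg xg32 yg7 zg0) (kg xg32 yg36 zg44) (kg xg31 yg53 zg53) (kg xg32 yg9 zg58) (kg xg26 yg30 zg22) (kg xg26 yg29 zg50) (kg xg30 yg45 zg43) (kg xg32 yg24 zg11) (kg xg32 yg5 zg39) (kg xg32 yg5 zg41) (kg xg30 yg58 zg60) (kg xg32 yg49 zg26) (kg xg27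 yg44 zg23) (kg xg28 yg13 zg32) (kg xg26 yg30 zg12) (kg xg27 yg8 zg15) (kg xg26 yg30 zg14) (kg xg32 yg23 zg18) (kg xg29 yg53 zg45) (kg xg30 yg45 zg52) (kg xg32 yg9 zg33) (kg xg30 yg45 zg29)) (@D3.rec (fun _ => Pt) (kg xg32 yg36 zg47) (kg xg32 yg25 zg40) (kg xg32 yg30 zg28) (kg xg32 yg7 zg52) (kg xg26 yg30 zg43) (kg xg32 yg29 zg22) (kg xg27 yg50 zg60) (kg xg32 yg5 zg61) (kg xg26 yg30 zg46) (kg xg26 yg30 zg49) (kg xg32 yg23 zg33) (kg xg26 yg30 zg52) (kg xg27 yg45 zg30) (kg xg32 yg8 zg37) (kg xg32 yg37 zg14) (kg xg30 yg45 zg57) (kg xg27 yg49 zg16) (kg xg27 yg5 zg26) (kg xg28 yg8 zg48) (kg xg32 yg1 zg37) (kg xg29 yg24 zg24) (kg xg32 yg31 zg41) (kg xg32 yg44 zg3) (kg xg27 yg53 zg17) (kg xg28 yg17 zg6) (kg xg32 yg29 zg24) (kg xg28 yg28 zg1) (kg xg29 yg45 zg59) (kg xg28 yg33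 zg39) (kg xg29 yg31 zg47) (kg xg27 yg19 zg16) (kg xg26 yg33 zg10) (kg xg26 yg59 zg24) (kg xg30 yg19 zg27) (kg xg30 yg29 zg46) (kg xg32 yg38 zg40) (kg xg26 yg39 zg55) (kg xg32 yg11 zg13) (kg xg32 yg38 zg59) (kg xg26 yg40 zg11) (kg xg28 yg39 zg57) (kg xg31 yg27 zg8) (kg xg29 yg5 zg54) (kg xg26 yg39 zg45) (kg xg26 yg33 zg38) (kg xg32 yg56 zg57) (kg xg26 yg39 zg38) (kg xg31 yg20 zg18) (kg xg32 yg21 zg1) (kg xg26 yg40 zg25) (kg xg32 yg11 zg15) (kg xg29 yg34 zg13) (kg xg26 yg40 zg50) (kg xg26 yg34 zg8) (kg xg32 yg12 zg9) (kg xg26 yg40 zg48) (kg xg26 yg34 zg13) (kg xg32 yg47 zg14) (kg xg31 yg52 zg52) (kg xg31 yg52 zg24) (kg xg31 yg50 zg57) (kg xg28 yg51 zg48)) (@D3.rec (fun _ => Pt) (kg xg31 yg40 zg34) (kg xg28 yg37 zg2) (kg xg31 yg52 zg36) (kg xg31 yg40 zg51) (kg xg28 yg40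 zg15) (kg xg32 yg50 zg31) (kg xg26 yg34 zg34) (kg xg26 yg34 zg30) (kg xg32 yg50 zg32) (kg xg26 yg34 zg31) (kg xg32 yg45 zg38) (kg xg28 yg21 zg6) (kg xg28 yg44 zg36) (kg xg30 yg48 zg41) (kg xg32 yg14 zg20) (kg xg32 yg10 zg51) (kg xg32 yg12 zg36) (kg xg30 yg16 zg8) (kg xg29 yg50 zg4) (kg xg26 yg34 zg50) (kg xg29 yg34 zg31) (kg xg29 yg44 zg13) (kg xg26 yg35 zg0) (kg xg32 yg13 zg9) (kg xg32 yg12 zg3) (kg xg31 yg48 zg7) (kg xg30 yg14 zg55) (kg xg30 yg15 zg55) (kg xg32 yg27 zg11) (kg xg26 yg35 zg4) (kg xg29 yg33 zg27) (kg xg26 yg38 zg8) (kg xg32 yg18 zg57) (kg xg26 yg35 zg13) (kg xg32 yg22 zg15) (kg xg26 yg35 zg36) (kg xg32 yg42 zg51) (kg xg30 yg21 zg35) (kg xg28 yg38 zg48) (kg xg31 yg55 zg46) (kg xg29 yg46 zg1) (kg xg26 yg35 zg48) (kg xg32 yg51 zg3) (kg xg31 yg27 zg30) (kg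 xg26 yg35 zg28) (kg xg28 yg40 zg4) (kg xg26 yg35 zg52) (kg xg26 yg35 zg34) (kg xg26 yg35 zg50) (kg xg30 yg15 zg36) (kg xg26 yg35 zg41) (kg xg28 yg39 zg0) (kg xg32 yg47 zg54) (kg xg31 yg40 zg20) (kg xg27 yg16 zg6) (kg xg31 yg31 zg15) (kg xg32 yg22 zg30) (kg xg32 yg18 zg31) (kg xg32 yg40 zg29) (kg xg26 yg35 zg51) (kg xg32 yg18 zg33) (kg xg32 yg21 zg47)) (@D3.rec (fun _ => Pt) (kg xg28 yg40 zg49) (kg xg30 yg27 zg47) (kg xg32 yg41 zg5) (kg xg32 yg24 zg4) (kg xg32 yg13 zg37) (kg xg32 yg45 zg51) (kg xg32 yg37 zg57) (kg xg32 yg11 zg28) (kg xg30 yg9 zg27) (kg xg31 yg31 zg12) (kg xg29 yg33 zg51) (kg xg32 yg23 zg3) (kg xg27 yg13 zg52) (kg xg29 yg46 zg17) (kg xg31 yg34 zg7) (kg xg26 yg36 zg17) (kg xg29 yg33 zg18) (kg xg26 yg36 zg9) (kg xg32 yg37 zg48) (kg xg32 yg37 zg22) (kg xg31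 yg34 zg11) (kg xg32 yg36 zg22) (kg xg26 yg36 zg16) (kg xg32 yg57 zg4) (kg xg32 yg52 zg44) (kg xg32 yg47 zg37) (kg xg26 yg36 zg19) (kg xg32 yg40 zg28) (kg xg26 yg36 zg22) (kg xg32 yg45 zg25) (kg xg32 yg37 zg20) (kg xg32 yg36 zg54) (kg xg32 yg46 zg52) (kg xg32 yg18 zg61) (kg xg26 yg36 zg25) (kg xg29 yg46 zg12) (kg xg29 yg45 zg36) (kg xg29 yg33 zg59) (kg xg28 yg39 zg30) (kg xg30 yg15 zg29) (kg xg32 yg41 zg49) (kg xg28 yg40 zg5) (kg xg28 yg34 zg23) (kg xg28 yg34 zg22) (kg xg28 yg43 zg1) (kg xg32 yg58 zg58) (kg xg32 yg41 zg44) (kg xg26 yg36 zg51) (kg xg32 yg47 zg22) (kg xg32 yg23 zg31) (kg xg26 yg52 zg21) (kg xg26 yg37 zg12) (kg xg26 yg37 zg1) (kg xg26 yg37 zg18) (kg xg32 yg51 zg4) (kg xg32 yg0 zg57) (kg xg26 yg37 zg28) (kg xg28 yg57 zg30) (kg xg26 yg37 zg40) (kg xg28 yg14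 zg24) (kg xg32 yg33 zg37) (kg xg32 yg3 zg55)) (@D3.rec (fun _ => Pt) (kg xg26 yg46 zg10) (kg xg26 yg38 zg16) (kg xg32 yg47 zg13) (kg xg32 yg12 zg54) (kg xg31 yg48 zg6) (kg xg29 yg7 zg23) (kg xg26 yg38 zg1) (kg xg29 yg33 zg7) (kg xg31 yg40 zg54) (kg xg26 yg41 zg24) (kg xg29 yg33 zg41) (kg xg32 yg24 zg0) (kg xg29 yg58 zg61) (kg xg29 yg42 zg38) (kg xg32 yg11 zg29) (kg xg32 yg19 zg7) (kg xg26 yg38 zg14) (kg xg32 yg12 zg47) (kg xg32 yg40 zg30) (kg xg26 yg38 zg15) (kg xg32 yg11 zg25) (kg xg26 yg38 zg21) (kg xg29 yg3 zg22) (kg xg26 yg39 zg56) (kg xg32 yg40 zg13) (kg xg31 yg21 zg54) (kg xg32 yg40 zg20) (kg xg29 yg31 zg5) (kg xg28 yg44 zg37) (kg xg28 yg44 zg35) (kg xg31 yg9 zg44) (kg xg32 yg47 zg20) (kg xg29 yg26 zg15) (kg xg26 yg38 zg49) (kg xg32 yg12 zg10) (kg xg30 yg28 zg3)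 (kg xg32 yg12 zg4) (kg xg32 yg47 zg38) (kg xg28 yg35 zg17) (kg xg26 yg38 zg56) (kg xg26 yg38 zg54) (kg xg32 yg37 zg45) (kg xg32 yg44 zg38) (kg xg26 yg39 zg0) (kg xg28 yg44 zg39) (kg xg32 yg36 zg6) (kg xg26 yg39 zg3) (kg xg32 yg47 zg21) (kg xg26 yg39 zg6) (kg xg28 yg39 zg54) (kg xg28 yg42 zg36) (kg xg26 yg39 zg29) (kg xg29 yg43 zg18) (kg xg26 yg39 zg31) (kg xg27 yg35 zg32) (kg xg29 yg7 zg37) (kg xg32 yg57 zg2) (kg xg32 yg24 zg5) (kg xg26 yg40 zg9) (kg xg29 yg31 zg29) (kg xg32 yg10 zg33) (kg xg26 yg40 zg5)) (@D3.rec (fun _ => Pt) (kg xg31 yg21 zg31) (kg xg31 yg11 zg16) (kg xg31 yg29 zg21) (kg xg26 yg40 zg10) (kg xg30 yg29 zg40) (kg xg26 yg40 zg15) (kg xg26 yg40 zg21) (kg xg29 yg47 zg25) (kg xg29 yg46 zg45) (kg xg29 yg47 zg24) (kg xg26 yg40 zg24) (kg xg31 yg33 zg14) (kg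 xg29 yg34 zg9) (kg xg32 yg32 zg38) (kg xg26 yg40 zg37) (kg xg32 yg11 zg16) (kg xg26 yg40 zg45) (kg xg32 yg50 zg61) (kg xg32 yg45 zg8) (kg xg32 yg45 zg53) (kg xg30 yg28 zg13) (kg xg32 yg12 zg22) (kg xg26 yg40 zg59) (kg xg30 yg35 zg50) (kg xg32 yg4 zg9) (kg xg32 yg3 zg33) (kg xg26 yg41 zg6) (kg xg30 yg27 zg61) (kg xg29 yg47 zg11) (kg xg26 yg41 zg8) (kg xg32 yg12 zg55) (kg xg28 yg40 zg18) (kg xg28 yg54 zg21) (kg xg26 yg41 zg23) (kg xg29 yg33 zg45) (kg xg29 yg33 zg52) (kg xg26 yg41 zg35) (kg xg32 yg24 zg21) (kg xg28 yg58 zg43) (kg xg29 yg4 zg34) (kg xg32 yg11 zg39) (kg xg31 yg30 zg7) (kg xg26 yg45 zg22) (kg xg32 yg1 zg2) (kg xg30 yg19 zg25) (kg xg29 yg2 zg25) (kg xg30 yg49 zg15) (kg xg30 yg37 zg2) (kg xg31 yg30 zg14) (kg xg30 yg49 zg11) (kg xg32 yg48 zg6) (kg xg29 yg49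 zg57) (kg xg28 yg11 zg43) (kg xg30 yg48 zg34) (kg xg32 yg41 zg43) (kg xg28 yg51 zg58) (kg xg26 yg42 zg61) (kg xg28 yg15 zg46) (kg xg31 yg26 zg7) (kg xg29 yg48 zg19) (kg xg28 yg56 zg1) (kg xg28 yg51 zg59)) (@D3.rec (fun _ => Pt) (kg xg28 yg16 zg42) (kg xg27 yg8 zg31) (kg xg29 yg3 zg20) (kg xg31 yg19 zg52) (kg xg32 yg48 zg0) (kg xg26 yg43 zg9) (kg xg28 yg17 zg32) (kg xg29 yg39 zg59) (kg xg26 yg43 zg15) (kg xg31 yg23 zg55) (kg xg30 yg29 zg8) (kg xg30 yg45 zg4) (kg xg28 yg52 zg24) (kg xg26 yg43 zg24) (kg xg32 yg57 zg8) (kg xg31 yg56 zg29) (kg xg29 yg29 zg24) (kg xg32 yg10 zg28) (kg xg28 yg31 zg16) (kg xg29 yg15 zg36) (kg xg26 yg43 zg44) (kg xg32 yg42 zg49) (kg xg31 yg24 zg49) (kg xg28 yg55 zg50) (kg xg29 yg24 zg19) (kg xg32 yg36 zg5) (kg xg28 yg16 zg61) (kg xg26 yg44 zg7)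 (kg xg31 yg15 zg41) (kg xg26 yg57 zg12) (kg xg29 yg4 zg25) (kg xg29 yg3 zg44) (kg xg29 yg17 zg61) (kg xg26 yg44 zg28) (kg xg27 yg16 zg30) (kg xg30 yg0 zg12) (kg xg26 yg44 zg44) (kg xg27 yg9 zg0) (kg xg26 yg45 zg10) (kg xg29 yg34 zg45) (kg xg29 yg21 zg38) (kg xg29 yg30 zg55) (kg xg26 yg45 zg39) (kg xg32 yg34 zg35) (kg xg32 yg18 zg18) (kg xg28 yg40 zg20) (kg xg29 yg22 zg16) (kg xg31 yg45 zg43) (kg xg31 yg34 zg40) (kg xg29 yg33 zg9) (kg xg32 yg37 zg30) (kg xg27 yg5 zg56) (kg xg26 yg46 zg42) (kg xg26 yg46 zg47) (kg xg32 yg3 zg2) (kg xg29 yg17 zg42) (kg xg31 yg35 zg16) (kg xg32 yg32 zg42) (kg xg32 yg28 zg3) (kg xg28 yg48 zg35) (kg xg31 yg8 zg42) (kg xg32 yg32 zg41)) (@D3.rec (fun _ => Pt) (kg xg26 yg47 zg11) (kg xg26 yg47 zg12) (kg xg31 yg2 zg58) (kg xg26 yg47 zg27) (kg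 xg26 yg47 zg25) (kg xg31 yg11 zg48) (kg xg32 yg4 zg53) (kg xg31 yg53 zg11) (kg xg32 yg53 zg61) (kg xg28 yg43 zg44) (kg xg29 yg10 zg16) (kg xg29 yg10 zg14) (kg xg31 yg57 zg23) (kg xg29 yg11 zg34) (kg xg31 yg5 zg16) (kg xg29 yg11 zg59) (kg xg26 yg47 zg46) (kg xg26 yg47 zg59) (kg xg29 yg11 zg55) (kg xg29 yg11 zg33) (kg xg30 yg7 zg59) (kg xg29 yg6 zg38) (kg xg26 yg48 zg27) (kg xg31 yg41 zg30) (kg xg31 yg23 zg35) (kg xg26 yg49 zg3) (kg xg26 yg49 zg22) (kg xg26 yg49 zg20) (kg xg29 yg21 zg26) (kg xg28 yg14 zg30) (kg xg28 yg50 zg0) (kg xg32 yg54 zg55) (kg xg26 yg49 zg21) (kg xg32 yg16 zg57) (kg xg29 yg2 zg27) (kg xg31 yg20 zg11) (kg xg26 yg50 zg4) (kg xg26 yg51 zg60) (kg xg32 yg8 zg20) (kg xg29 yg17 zg51) (kg xg29 yg23 zg6) (kg xg30 yg22 zg11) (kg xg29 yg29 zg41) (kg xg32 yg33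 zg17) (kg xg32 yg16 zg58) (kg xg29 yg36 zg33) (kg xg32 yg43 zg61) (kg xg26 yg51 zg29) (kg xg26 yg51 zg39) (kg xg26 yg56 zg48) (kg xg28 yg29 zg60) (kg xg31 yg25 zg24) (kg xg26 yg51 zg40) (kg xg32 yg52 zg19) (kg xg29 yg35 zg47) (kg xg32 yg16 zg33) (kg xg28 yg32 zg58) (kg xg32 yg44 zg57) (kg xg32 yg39 zg40) (kg xg32 yg16 zg44) (kg xg30 yg28 zg5) (kg xg28 yg35 zg20)) (@D3.rec (fun _ => Pt) (kg xg32 yg31 zg59) (kg xg30 yg22 zg45) (kg xg30 yg31 zg2) (kg xg29 yg33 zg35) (kg xg32 yg1 zg9) (kg xg28 yg18 zg50) (kg xg32 yg14 zg40) (kg xg29 yg33 zg28) (kg xg26 yg52 zg27) (kg xg29 yg33 zg26) (kg xg26 yg52 zg42) (kg xg26 yg52 zg31) (kg xg26 yg52 zg40) (kg xg32 yg29 zg32) (kg xg27 yg54 zg55) (kg xg32 yg7 zg37) (kg xg29 yg21 zg24) (kg xg31 yg39 zg5) (kg xg27 yg19 zg13) (kg xg26 yg52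 zg55) (kg xg29 yg19 zg52) (kg xg26 yg53 zg3) (kg xg29 yg36 zg7) (kg xg32 yg42 zg40) (kg xg26 yg53 zg51) (kg xg29 yg8 zg60) (kg xg26 yg54 zg18) (kg xg26 yg54 zg38) (kg xg26 yg54 zg46) (kg xg26 yg54 zg45) (kg xg26 yg53 zg44) (kg xg29 yg36 zg58) (kg xg29 yg36 zg2) (kg xg30 yg22 zg60) (kg xg30 yg18 zg41) (kg xg32 yg53 zg45) (kg xg30 yg18 zg38) (kg xg30 yg18 zg39) (kg xg29 yg8 zg48) (kg xg28 yg51 zg41) (kg xg26 yg53 zg60) (kg xg32 yg16 zg54) (kg xg29 yg35 zg57) (kg xg28 yg34 zg50) (kg xg32 yg46 zg13) (kg xg32 yg56 zg36) (kg xg32 yg46 zg16) (kg xg26 yg54 zg26) (kg xg32 yg59 zg2) (kg xg32 yg45 zg58) (kg xg32 yg40 zg49) (kg xg29 yg43 zg33) (kg xg26 yg54 zg29) (kg xg31 yg34 zg22) (kg xg31 yg34 zg28) (kg xg26 yg54 zg42) (kg xg29 yg43 zg34) (kg xg26 yg54 zg41) (kg xg31 yg22 zg0)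 (kg xg32 yg44 zg42) (kg xg31 yg52 zg37) (kg xg32 yg44 zg49)) (@D3.rec (fun _ => Pt) (kg xg26 yg54 zg43) (kg xg32 yg59 zg5) (kg xg32 yg44 zg48) (kg xg29 yg27 zg18) (kg xg32 yg41 zg50) (kg xg26 yg54 zg61) (kg xg27 yg44 zg4) (kg xg29 yg37 zg19) (kg xg30 yg43 zg42) (kg xg28 yg40 zg8) (kg xg30 yg23 zg58) (kg xg26 yg55 zg50) (kg xg31 yg19 zg22) (kg xg29 yg29 zg33) (kg xg26 yg55 zg61) (kg xg32 yg21 zg14) (kg xg26 yg56 zg53) (kg xg26 yg56 zg18) (kg xg31 yg28 zg3) (kg xg32 yg19 zg15) (kg xg31 yg22 zg38) (kg xg31 yg22 zg58) (kg xg32 yg29 zg51) (kg xg31 yg19 zg30) (kg xg31 yg33 zg8) (kg xg32 yg34 zg23) (kg xg32 yg18 zg27) (kg xg30 yg18 zg20) (kg xg29 yg55 zg46) (kg xg31 yg23 zg48) (kg xg32 yg34 zg42) (kg xg26 yg56 zg60) (kg xg32 yg46 zg39) (kg xg32 yg48 zg34) (kg xg26 yg57 zg9)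 (kg xg32 yg35 zg29) (kg xg32 yg23 zg11) (kg xg26 yg57 zg11) (kg xg26 yg57 zg18) (kg xg32 yg16 zg61) (kg xg32 yg36 zg19) (kg xg32 yg44 zg37) (kg xg26 yg57 zg32) (kg xg27 yg9 zg43) (kg xg29 yg32 zg1) (kg xg32 yg9 zg2) (kg xg30 yg25 zg59) (kg xg28 yg10 zg58) (kg xg28 yg45 zg17) (kg xg31 yg48 zg14) (kg xg31 yg34 zg39) (kg xg31 yg27 zg21) (kg xg28 yg34 zg25) (kg xg27 yg24 zg16) (kg xg27 yg24 zg24) (kg xg28 yg54 zg28) (kg xg32 yg11 zg32) (kg xg32 yg48 zg36) (kg xg30 yg29 zg25) (kg xg27 yg0 zg14) (kg xg27 yg0 zg15) (kg xg32 yg12 zg34)) (@D3.rec (fun _ => Pt) (kg xg32 yg48 zg7) (kg xg31 yg19 zg18) (kg xg32 yg51 zg5) (kg xg31 yg26 zg4) (kg xg31 yg26 zg17) (kg xg32 yg50 zg58) (kg xg32 yg13 zg15) (kg xg27 yg0 zg25) (kg xg31 yg31 zg7) (kg xg32 yg33 zg11) (kg xg27 yg16 zg23) (kg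 xg27 yg0 zg30) (kg xg30 yg29 zg14) (kg xg31 yg29 zg46) (kg xg27 yg0 zg35) (kg xg32 yg40 zg56) (kg xg32 yg41 zg4) (kg xg32 yg37 zg21) (kg xg32 yg59 zg7) (kg xg32 yg40 zg58) (kg xg27 yg0 zg40) (kg xg32 yg57 zg54) (kg xg27 yg3 zg14) (kg xg30 yg33 zg19) (kg xg31 yg20 zg1) (kg xg27 yg8 zg58) (kg xg27 yg2 zg12) (kg xg27 yg7 zg4) (kg xg27 yg2 zg14) (kg xg27 yg7 zg11) (kg xg27 yg7 zg10) (kg xg32 yg56 zg17) (kg xg30 yg21 zg45) (kg xg32 yg33 zg18) (kg xg30 yg5 zg45) (kg xg27 yg9 zg29) (kg xg30 yg25 zg24) (kg xg31 yg22 zg33) (kg xg32 yg24 zg14) (kg xg30 yg50 zg32) (kg xg30 yg46 zg25) (kg xg30 yg19 zg0) (kg xg30 yg5 zg44) (kg xg28 yg23 zg35) (kg xg30 yg15 zg10) (kg xg30 yg28 zg57) (kg xg28 yg13 zg10) (kg xg31 yg54 zg30) (kg xg27 yg45 zg4) (kg xg30 yg42 zg33) (kg xg30 yg2 zg15)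 (kg xg30 yg4 zg44) (kg xg31 yg2 zg14) (kg xg27 yg4 zg41) (kg xg32 yg3 zg30) (kg xg31 yg46 zg3) (kg xg32 yg18 zg24) (kg xg31 yg42 zg29) (kg xg30 yg45 zg58) (kg xg28 yg21 zg45) (kg xg28 yg44 zg50) (kg xg30 yg21 zg24)) (@D3.rec (fun _ => Pt) (kg xg27 yg6 zg11) (kg xg29 yg57 zg19) (kg xg32 yg57 zg32) (kg xg27 yg51 zg48) (kg xg27 yg15 zg50) (kg xg27 yg6 zg25) (kg xg31 yg23 zg0) (kg xg32 yg42 zg50) (kg xg32 yg45 zg1) (kg xg27 yg8 zg61) (kg xg27 yg6 zg31) (kg xg29 yg13 zg26) (kg xg30 yg39 zg25) (kg xg30 yg39 zg24) (kg xg32 yg49 zg57) (kg xg30 yg5 zg49) (kg xg32 yg51 zg27) (kg xg30 yg18 zg23) (kg xg32 yg32 zg61) (kg xg32 yg41 zg51) (kg xg29 yg48 zg11) (kg xg32 yg52 zg20) (kg xg32 yg51 zg30) (kg xg27 yg7 zg15) (kg xg28 yg16 zg34) (kg xg28 yg16 zg43) (kg xg27 yg8 zg29) (kg xg27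 yg7 zg8) (kg xg27 yg18 zg60) (kg xg27 yg7 zg5) (kg xg28 yg52 zg61) (kg xg32 yg50 zg2) (kg xg27 yg7 zg7) (kg xg32 yg39 zg59) (kg xg32 yg58 zg2) (kg xg32 yg20 zg18) (kg xg32 yg50 zg5) (kg xg31 yg33 zg11) (kg xg30 yg18 zg27) (kg xg30 yg5 zg38) (kg xg30 yg5 zg48) (kg xg32 yg50 zg3) (kg xg31 yg50 zg44) (kg xg31 yg19 zg60) (kg xg32 yg58 zg26) (kg xg29 yg37 zg6) (kg xg32 yg59 zg11) (kg xg32 yg40 zg43) (kg xg30 yg21 zg47) (kg xg27 yg7 zg23) (kg xg30 yg21 zg31) (kg xg27 yg7 zg25) (kg xg32 yg23 zg23) (kg xg32 yg39 zg44) (kg xg27 yg8 zg4) (kg xg29 yg45 zg26) (kg xg29 yg45 zg22) (kg xg29 yg33 zg60) (kg xg27 yg7 zg32) (kg xg32 yg40 zg21) (kg xg29 yg46 zg48) (kg xg27 yg7 zg35)) (@D3.rec (fun _ => Pt) (kg xg30 yg16 zg28) (kg xg32 yg10 zg47) (kg xg32 yg32 zg34) (kg xg29 yg51 zg6) (kg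 xg31 yg46 zg46) (kg xg32 yg2 zg31) (kg xg32 yg23 zg51) (kg xg30 yg56 zg2) (kg xg31 yg56 zg52) (kg xg29 yg5 zg34) (kg xg32 yg23 zg52) (kg xg27 yg7 zg54) (kg xg28 yg51 zg55) (kg xg32 yg37 zg2) (kg xg32 yg37 zg0) (kg xg30 yg32 zg28) (kg xg27 yg8 zg25) (kg xg31 yg30 zg33) (kg xg30 yg3 zg49) (kg xg27 yg8 zg26) (kg xg32 yg49 zg54) (kg xg29 yg8 zg34) (kg xg31 yg15 zg47) (kg xg29 yg38 zg13) (kg xg27 yg13 zg61) (kg xg27 yg13 zg34) (kg xg27 yg13 zg33) (kg xg32 yg50 zg15) (kg xg32 yg20 zg33) (kg xg30 yg19 zg14) (kg xg28 yg44 zg1) (kg xg30 yg35 zg14) (kg xg32 yg50 zg22) (kg xg30 yg55 zg40) (kg xg32 yg50 zg23) (kg xg30 yg24 zg29) (kg xg31 yg35 zg30) (kg xg30 yg24 zg0) (kg xg31 yg47 zg12) (kg xg28 yg59 zg58) (kg xg30 yg49 zg47) (kg xg27 yg10 zg16) (kg xg29 yg33 zg53) (kg xg29 yg29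 zg8) (kg xg32 yg37 zg19) (kg xg28 yg7 zg11) (kg xg29 yg49 zg23) (kg xg32 yg13 zg13) (kg xg32 yg30 zg53) (kg xg32 yg56 zg24) (kg xg27 yg11 zg43) (kg xg29 yg2 zg28) (kg xg31 yg32 zg10) (kg xg32 yg45 zg19) (kg xg27 yg12 zg10) (kg xg30 yg44 zg45) (kg xg32 yg51 zg17) (kg xg30 yg24 zg58) (kg xg28 yg32 zg9) (kg xg31 yg37 zg5) (kg xg32 yg52 zg12) (kg xg27 yg12 zg56)) (@D3.rec (fun _ => Pt) (kg xg28 yg50 zg4) (kg xg32 yg22 zg5) (kg xg27 yg43 zg60) (kg xg31 yg9 zg57) (kg xg32 yg55 zg28) (kg xg27 yg13 zg5) (kg xg32 yg22 zg52) (kg xg32 yg22 zg51) (kg xg27 yg21 zg55) (kg xg27 yg13 zg17) (kg xg32 yg1 zg15) (kg xg32 yg14 zg54) (kg xg32 yg14 zg61) (kg xg31 yg33 zg6) (kg xg28 yg40 zg48) (kg xg32 yg34 zg26) (kg xg31 yg55 zg35) (kg xg29 yg45 zg53) (kg xg32 yg58 zg41) (kg xg27 yg14 zg8)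 (kg xg31 yg47 zg36) (kg xg32 yg1 zg12) (kg xg31 yg45 zg28) (kg xg27 yg14 zg24) (kg xg27 yg15 zg1) (kg xg28 yg25 zg28) (kg xg27 yg14 zg23) (kg xg32 yg2 zg21) (kg xg28 yg14 zg9) (kg xg30 yg15 zg47) (kg xg32 yg33 zg31) (kg xg27 yg14 zg49) (kg xg32 yg41 zg28) (kg xg32 yg30 zg17) (kg xg27 yg15 zg8) (kg xg32 yg31 zg56) (kg xg32 yg2 zg13) (kg xg32 yg44 zg50) (kg xg28 yg59 zg53) (kg xg31 yg36 zg32) (kg xg31 yg52 zg44) (kg xg30 yg38 zg46) (kg xg27 yg15 zg20) (kg xg32 yg20 zg39) (kg xg30 yg44 zg8) (kg xg29 yg31 zg56) (kg xg29 yg32 zg27) (kg xg27 yg15 zg25) (kg xg31 yg13 zg22) (kg xg28 yg22 zg33) (kg xg32 yg31 zg22) (kg xg32 yg22 zg6) (kg xg32 yg22 zg7) (kg xg30 yg38 zg20) (kg xg32 yg41 zg47) (kg xg30 yg16 zg29) (kg xg32 yg39 zg55) (kg xg27 yg16 zg2) (kg xg30 yg34 zg40) (kg xg29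 yg47 zg0) (kg xg28 yg16 zg12) (kg xg32 yg33 zg33)) (@D3.rec (fun _ => Pt) (kg xg32 yg46 zg51) (kg xg29 yg35 zg3) (kg xg29 yg44 zg42) (kg xg28 yg40 zg17) (kg xg32 yg52 zg43) (kg xg32 yg46 zg50) (kg xg32 yg22 zg17) (kg xg32 yg58 zg59) (kg xg32 yg45 zg48) (kg xg30 yg29 zg10) (kg xg32 yg18 zg36) (kg xg32 yg51 zg7) (kg xg30 yg6 zg57) (kg xg27 yg16 zg47) (kg xg32 yg30 zg14) (kg xg27 yg16 zg45) (kg xg32 yg9 zg57) (kg xg28 yg36 zg4) (kg xg31 yg25 zg7) (kg xg31 yg22 zg46) (kg xg30 yg20 zg50) (kg xg31 yg16 zg54) (kg xg32 yg22 zg12) (kg xg30 yg19 zg10) (kg xg30 yg19 zg13) (kg xg27 yg30 zg31) (kg xg32 yg31 zg8) (kg xg31 yg31 zg9) (kg xg30 yg15 zg49) (kg xg31 yg0 zg28) (kg xg31 yg39 zg49) (kg xg32 yg47 zg16) (kg xg27 yg17 zg41) (kg xg32 yg54 zg38) (kg xg31 yg46 zg11) (kg xg28 yg27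 zg40) (kg xg30 yg13 zg53) (kg xg30 yg11 zg21) (kg xg30 yg13 zg55) (kg xg30 yg53 zg38) (kg xg30 yg13 zg8) (kg xg27 yg18 zg1) (kg xg30 yg6 zg37) (kg xg31 yg53 zg1) (kg xg31 yg9 zg47) (kg xg31 yg54 zg60) (kg xg32 yg42 zg33) (kg xg30 yg33 zg30) (kg xg29 yg6 zg23) (kg xg27 yg18 zg25) (kg xg32 yg21 zg6) (kg xg27 yg18 zg31) (kg xg32 yg21 zg11) (kg xg32 yg34 zg30) (kg xg32 yg35 zg49) (kg xg32 yg48 zg11) (kg xg31 yg46 zg16) (kg xg29 yg56 zg29) (kg xg27 yg18 zg54) (kg xg28 yg26 zg44) (kg xg31 yg18 zg48) (kg xg29 yg46 zg22)) (@D3.rec (fun _ => Pt) (kg xg27 yg19 zg6) (kg xg27 yg19 zg14) (kg xg32 yg13 zg20) (kg xg31 yg48 zg5) (kg xg31 yg46 zg60) (kg xg32 yg22 zg32) (kg xg32 yg18 zg51) (kg xg30 yg38 zg47) (kg xg28 yg59 zg56) (kg xg27 yg19 zg40) (kg xg29 yg6 zg61) (kg xg27 yg20 zg39)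 (kg xg32 yg49 zg7) (kg xg32 yg55 zg23) (kg xg32 yg21 zg48) (kg xg32 yg52 zg16) (kg xg27 yg21 zg25) (kg xg32 yg52 zg27) (kg xg27 yg43 zg12) (kg xg31 yg39 zg26) (kg xg27 yg22 zg24) (kg xg32 yg14 zg38) (kg xg29 yg51 zg51) (kg xg29 yg41 zg40) (kg xg32 yg30 zg2) (kg xg31 yg54 zg31) (kg xg32 yg38 zg35) (kg xg30 yg7 zg35) (kg xg27 yg28 zg48) (kg xg29 yg56 zg53) (kg xg29 yg49 zg35) (kg xg32 yg42 zg8) (kg xg30 yg1 zg40) (kg xg27 yg23 zg30) (kg xg31 yg0 zg20) (kg xg27 yg46 zg55) (kg xg28 yg37 zg47) (kg xg28 yg21 zg37) (kg xg29 yg13 zg46) (kg xg27 yg24 zg3) (kg xg32 yg57 zg6) (kg xg27 yg24 zg25) (kg xg32 yg58 zg12) (kg xg27 yg24 zg30) (kg xg30 yg11 zg14) (kg xg28 yg35 zg41) (kg xg29 yg16 zg1) (kg xg32 yg10 zg10) (kg xg32 yg5 zg42) (kg xg31 yg12 zg0) (kg xg31 yg38 zg13) (kg xg29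 yg29 zg55) (kg xg27 yg26 zg45) (kg xg27 yg31 zg24) (kg xg27 yg25 zg47) (kg xg28 yg12 zg3) (kg xg27 yg48 zg56) (kg xg27 yg25 zg24) (kg xg29 yg48 zg35) (kg xg32 yg25 zg6) (kg xg32 yg55 zg38) (kg xg27 yg25 zg48)) (@D3.rec (fun _ => Pt) (kg xg32 yg6 zg13) (kg xg31 yg9 zg31) (kg xg27 yg28 zg49) (kg xg32 yg5 zg44) (kg xg31 yg11 zg46) (kg xg27 yg31 zg27) (kg xg32 yg24 zg54) (kg xg31 yg33 zg61) (kg xg27 yg27 zg13) (kg xg31 yg29 zg38) (kg xg31 yg44 zg1) (kg xg27 yg28 zg14) (kg xg27 yg46 zg16) (kg xg27 yg28 zg22) (kg xg32 yg28 zg13) (kg xg32 yg6 zg37) (kg xg29 yg39 zg18) (kg xg29 yg2 zg41) (kg xg32 yg28 zg10) (kg xg32 yg35 zg37) (kg xg32 yg51 zg52) (kg xg31 yg48 zg0) (kg xg29 yg17 zg30) (kg xg29 yg36 zg11) (kg xg31 yg17 zg7) (kg xg31 yg6 zg61) (kg xg32 yg6 zg8) (kg xg27 yg31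 zg21) (kg xg32 yg53 zg60) (kg xg32 yg6 zg6) (kg xg28 yg1 zg53) (kg xg28 yg44 zg2) (kg xg29 yg27 zg43) (kg xg32 yg54 zg19) (kg xg32 yg26 zg32) (kg xg29 yg20 zg31) (kg xg27 yg49 zg37) (kg xg28 yg46 zg2) (kg xg27 yg32 zg15) (kg xg28 yg3 zg17) (kg xg31 yg39 zg35) (kg xg27 yg54 zg35) (kg xg32 yg10 zg1) (kg xg27 yg50 zg2) (kg xg27 yg32 zg30) (kg xg27 yg32 zg23) (kg xg32 yg38 zg17) (kg xg28 yg7 zg34) (kg xg31 yg39 zg27) (kg xg30 yg44 zg58) (kg xg27 yg49 zg56) (kg xg32 yg26 zg13) (kg xg30 yg44 zg61) (kg xg27 yg37 zg56) (kg xg31 yg15 zg22) (kg xg30 yg44 zg29) (kg xg30 yg44 zg32) (kg xg31 yg11 zg6) (kg xg28 yg46 zg0) (kg xg28 yg3 zg19) (kg xg32 yg26 zg55) (kg xg27 yg33 zg48)) (@D3.rec (fun _ => Pt) (kg xg28 yg6 zg5) (kg xg27 yg34 zg52) (kg xg28 yg16 zg50) (kg xg27 yg33 zg1) (kg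 xg32 yg26 zg53) (kg xg27 yg33 zg5) (kg xg27 yg51 zg9) (kg xg31 yg4 zg45) (kg xg30 yg44 zg30) (kg xg31 yg45 zg54) (kg xg28 yg25 zg41) (kg xg31 yg27 zg54) (kg xg31 yg30 zg23) (kg xg32 yg25 zg48) (kg xg27 yg33 zg22) (kg xg27 yg52 zg14) (kg xg27 yg33 zg28) (kg xg32 yg55 zg34) (kg xg32 yg56 zg23) (kg xg32 yg58 zg50) (kg xg32 yg43 zg10) (kg xg32 yg54 zg17) (kg xg28 yg8 zg22) (kg xg28 yg9 zg22) (kg xg27 yg33 zg35) (kg xg32 yg30 zg19) (kg xg32 yg56 zg20) (kg xg31 yg2 zg4) (kg xg31 yg59 zg32) (kg xg32 yg26 zg9) (kg xg32 yg6 zg58) (kg xg27 yg33 zg49) (kg xg28 yg7 zg17) (kg xg32 yg26 zg61) (kg xg31 yg5 zg41) (kg xg27 yg34 zg5) (kg xg32 yg6 zg59) (kg xg32 yg59 zg15) (kg xg27 yg34 zg57) (kg xg32 yg7 zg12) (kg xg28 yg27 zg28) (kg xg27 yg34 zg35) (kg xg30 yg41 zg32) (kg xg32 yg35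 zg55) (kg xg27 yg55 zg21) (kg xg32 yg32 zg3) (kg xg27 yg35 zg1) (kg xg31 yg8 zg37) (kg xg32 yg26 zg16) (kg xg31 yg42 zg24) (kg xg32 yg44 zg40) (kg xg32 yg50 zg46) (kg xg32 yg55 zg20) (kg xg32 yg28 zg35) (kg xg27 yg54 zg46) (kg xg32 yg4 zg55) (kg xg32 yg25 zg60) (kg xg27 yg53 zg41) (kg xg28 yg4 zg40) (kg xg27 yg35 zg18) (kg xg31 yg57 zg45) (kg xg32 yg26 zg36)) (@D3.rec (fun _ => Pt) (kg xg31 yg7 zg50) (kg xg28 yg9 zg29) (kg xg27 yg36 zg45) (kg xg27 yg35 zg48) (kg xg28 yg45 zg3) (kg xg28 yg54 zg29) (kg xg30 yg39 zg19) (kg xg28 yg37 zg52) (kg xg31 yg39 zg44) (kg xg30 yg52 zg53) (kg xg32 yg18 zg49) (kg xg30 yg17 zg10) (kg xg27 yg53 zg50) (kg xg29 yg44 zg45) (kg xg31 yg21 zg25) (kg xg32 yg43 zg44) (kg xg27 yg37 zg2) (kg xg27 yg37 zg4) (kg xg31 yg40 zg32) (kg xg29 yg36 zg16)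 (kg xg31 yg51 zg61) (kg xg32 yg17 zg44) (kg xg29 yg13 zg13) (kg xg28 yg6 zg11) (kg xg32 yg49 zg17) (kg xg32 yg42 zg6) (kg xg29 yg38 zg41) (kg xg27 yg55 zg12) (kg xg32 yg49 zg14) (kg xg28 yg5 zg19) (kg xg32 yg26 zg4) (kg xg31 yg43 zg35) (kg xg27 yg39 zg60) (kg xg28 yg21 zg31) (kg xg32 yg54 zg39) (kg xg27 yg54 zg27) (kg xg31 yg38 zg30) (kg xg27 yg53 zg21) (kg xg32 yg25 zg54) (kg xg32 yg6 zg45) (kg xg31 yg0 zg24) (kg xg31 yg57 zg35) (kg xg31 yg4 zg60) (kg xg30 yg42 zg39) (kg xg32 yg30 zg7) (kg xg30 yg41 zg53) (kg xg31 yg10 zg61) (kg xg27 yg40 zg57) (kg xg32 yg29 zg5) (kg xg27 yg41 zg0) (kg xg31 yg38 zg2) (kg xg30 yg4 zg53) (kg xg31 yg2 zg52) (kg xg29 yg49 zg17) (kg xg30 yg23 zg60) (kg xg29 yg20 zg30) (kg xg30 yg55 zg32) (kg xg28 yg4 zg35) (kg xg29 yg16 zg34) (kg xg27 yg42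 zg27) (kg xg32 yg42 zg3) (kg xg32 yg34 zg36)) (@D3.rec (fun _ => Pt) (kg xg32 yg55 zg55) (kg xg32 yg50 zg11) (kg xg31 yg59 zg40) (kg xg31 yg23 zg60) (kg xg29 yg37 zg20) (kg xg30 yg47 zg15) (kg xg27 yg44 zg10) (kg xg29 yg53 zg27) (kg xg32 yg58 zg0) (kg xg28 yg43 zg48) (kg xg32 yg25 zg19) (kg xg32 yg6 zg49) (kg xg29 yg10 zg47) (kg xg32 yg38 zg9) (kg xg27 yg44 zg39) (kg xg32 yg28 zg18) (kg xg31 yg11 zg44) (kg xg29 yg10 zg0) (kg xg27 yg44 zg57) (kg xg32 yg28 zg14) (kg xg27 yg52 zg39) (kg xg28 yg3 zg15) (kg xg27 yg54 zg30) (kg xg31 yg44 zg33) (kg xg28 yg3 zg33) (kg xg28 yg2 zg55) (kg xg32 yg16 zg38) (kg xg28 yg35 zg24) (kg xg31 yg43 zg54) (kg xg31 yg15 zg42) (kg xg31 yg6 zg56) (kg xg32 yg25 zg25) (kg xg31 yg15 zg24) (kg xg28 yg28 zg41) (kg xg32 yg25 zg28) (kg xg32 yg27 zg30)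 (kg xg27 yg48 zg24) (kg xg32 yg6 zg34) (kg xg32 yg58 zg52) (kg xg28 yg31 zg50) (kg xg27 yg48 zg61) (kg xg27 yg49 zg14) (kg xg32 yg32 zg1) (kg xg27 yg55 zg13) (kg xg31 yg53 zg57) (kg xg27 yg49 zg27) (kg xg28 yg46 zg56) (kg xg27 yg49 zg29) (kg xg30 yg24 zg46) (kg xg30 yg35 zg18) (kg xg28 yg8 zg56) (kg xg27 yg49 zg46) (kg xg32 yg34 zg3) (kg xg29 yg2 zg30) (kg xg31 yg54 zg32) (kg xg32 yg29 zg3) (kg xg29 yg4 zg18) (kg xg32 yg28 zg33) (kg xg32 yg55 zg43) (kg xg32 yg29 zg46) (kg xg27 yg52 zg22) (kg xg30 yg44 zg28)) (@D3.rec (fun _ => Pt) (kg xg28 yg32 zg6) (kg xg32 yg30 zg22) (kg xg32 yg54 zg30) (kg xg32 yg28 zg44) (kg xg31 yg14 zg42) (kg xg32 yg26 zg20) (kg xg27 yg51 zg15) (kg xg31 yg5 zg33) (kg xg28 yg10 zg35) (kg xg27 yg52 zg46) (kg xg32 yg51 zg40) (kg xg28 yg21 zg34) (kg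 xg31 yg14 zg41) (kg xg30 yg40 zg20) (kg xg32 yg26 zg46) (kg xg31 yg45 zg15) (kg xg32 yg26 zg42) (kg xg32 yg38 zg49) (kg xg30 yg6 zg46) (kg xg27 yg51 zg36) (kg xg27 yg58 zg57) (kg xg31 yg45 zg32) (kg xg27 yg51 zg43) (kg xg30 yg48 zg15) (kg xg28 yg20 zg57) (kg xg30 yg48 zg12) (kg xg32 yg31 zg50) (kg xg32 yg53 zg37) (kg xg32 yg9 zg15) (kg xg31 yg23 zg44) (kg xg28 yg8 zg61) (kg xg28 yg9 zg15) (kg xg32 yg8 zg42) (kg xg29 yg20 zg44) (kg xg27 yg52 zg15) (kg xg27 yg52 zg10) (kg xg32 yg1 zg42) (kg xg27 yg54 zg2) (kg xg29 yg25 zg12) (kg xg27 yg54 zg9) (kg xg28 yg38 zg1) (kg xg30 yg35 zg27) (kg xg32 yg31 zg30) (kg xg30 yg35 zg37) (kg xg30 yg55 zg10) (kg xg27 yg52 zg48) (kg xg28 yg7 zg32) (kg xg28 yg7 zg48) (kg xg32 yg30 zg16) (kg xg30 yg54 zg2) (kg xg27 yg52 zg61) (kg xg32 yg44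 zg21) (kg xg31 yg16 zg24) (kg xg31 yg55 zg17) (kg xg31 yg16 zg21) (kg xg32 yg48 zg40) (kg xg31 yg45 zg33) (kg xg31 yg14 zg23) (kg xg32 yg41 zg27) (kg xg28 yg8 zg40) (kg xg27 yg53 zg13) (kg xg31 yg45 zg14)) (@D3.rec (fun _ => Pt) (kg xg31 yg15 zg8) (kg xg27 yg54 zg22) (kg xg28 yg58 zg40) (kg xg32 yg32 zg12) (kg xg31 yg0 zg13) (kg xg27 yg53 zg42) (kg xg32 yg30 zg38) (kg xg31 yg1 zg61) (kg xg27 yg54 zg50) (kg xg31 yg15 zg10) (kg xg28 yg32 zg31) (kg xg31 yg42 zg32) (kg xg32 yg6 zg20) (kg xg30 yg26 zg30) (kg xg32 yg23 zg15) (kg xg27 yg54 zg51) (kg xg32 yg29 zg45) (kg xg28 yg53 zg38) (kg xg31 yg25 zg41) (kg xg32 yg27 zg23) (kg xg32 yg53 zg28) (kg xg27 yg55 zg6) (kg xg32 yg7 zg32) (kg xg27 yg55 zg19) (kg xg27 yg56 zg28) (kg xg28 yg16 zg54) (kg xg28 yg9 zg13) (kg xg30 yg45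 zg51) (kg xg28 yg31 zg52) (kg xg31 yg5 zg52) (kg xg31 yg8 zg47) (kg xg27 yg56 zg31) (kg xg30 yg13 zg19) (kg xg32 yg43 zg7) (kg xg27 yg56 zg32) (kg xg32 yg56 zg56) (kg xg31 yg44 zg28) (kg xg28 yg8 zg27) (kg xg32 yg57 zg53) (kg xg32 yg4 zg60) (kg xg29 yg10 zg39) (kg xg30 yg52 zg35) (kg xg32 yg27 zg51) (kg xg30 yg52 zg37) (kg xg31 yg11 zg55) (kg xg27 yg58 zg3) (kg xg31 yg57 zg49) (kg xg31 yg8 zg32) (kg xg32 yg7 zg2) (kg xg28 yg24 zg26) (kg xg30 yg23 zg47) (kg xg31 yg31 zg19) (kg xg29 yg16 zg11) (kg xg32 yg19 zg38) (kg xg30 yg48 zg47) (kg xg28 yg0 zg10) (kg xg31 yg23 zg34) (kg xg30 yg24 zg19) (kg xg32 yg14 zg26) (kg xg28 yg1 zg7) (kg xg28 yg45 zg8) (kg xg30 yg55 zg18)) (@D3.rec (fun _ => Pt) (kg xg28 yg1 zg55) (kg xg28 yg2 zg5) (kg xg28 yg2 zg3) (kg xg30 yg58 zg16) (kg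 xg28 yg2 zg8) (kg xg32 yg55 zg13) (kg xg32 yg53 zg16) (kg xg30 yg35 zg26) (kg xg29 yg32 zg51) (kg xg28 yg46 zg6) (kg xg30 yg25 zg57) (kg xg30 yg39 zg30) (kg xg32 yg51 zg12) (kg xg28 yg2 zg56) (kg xg30 yg14 zg40) (kg xg28 yg2 zg58) (kg xg32 yg22 zg50) (kg xg28 yg3 zg27) (kg xg28 yg3 zg24) (kg xg32 yg56 zg19) (kg xg31 yg44 zg30) (kg xg32 yg7 zg44) (kg xg31 yg39 zg31) (kg xg32 yg58 zg47) (kg xg28 yg3 zg42) (kg xg32 yg31 zg5) (kg xg32 yg38 zg7) (kg xg28 yg4 zg5) (kg xg31 yg44 zg23) (kg xg31 yg12 zg20) (kg xg32 yg29 zg47) (kg xg32 yg8 zg38) (kg xg32 yg9 zg51) (kg xg32 yg26 zg7) (kg xg28 yg19 zg6) (kg xg32 yg29 zg19) (kg xg32 yg28 zg60) (kg xg32 yg28 zg20) (kg xg31 yg56 zg10) (kg xg32 yg32 zg15) (kg xg31 yg43 zg14) (kg xg32 yg10 zg22) (kg xg32 yg53 zg30) (kg xg32 yg29 zg2)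 (kg xg31 yg8 zg20) (kg xg30 yg24 zg47) (kg xg28 yg5 zg33) (kg xg28 yg54 zg4) (kg xg32 yg58 zg32) (kg xg28 yg5 zg47) (kg xg32 yg56 zg1) (kg xg30 yg52 zg12) (kg xg31 yg25 zg37) (kg xg28 yg36 zg11) (kg xg28 yg5 zg50) (kg xg28 yg36 zg19) (kg xg28 yg37 zg56) (kg xg31 yg37 zg14) (kg xg32 yg17 zg0) (kg xg28 yg47 zg15) (kg xg31 yg10 zg0) (kg xg28 yg6 zg7)) (@D3.rec (fun _ => Pt) (kg xg31 yg14 zg61) (kg xg32 yg29 zg41) (kg xg28 yg6 zg21) (kg xg32 yg24 zg40) (kg xg28 yg9 zg5) (kg xg32 yg32 zg43) (kg xg30 yg45 zg20) (kg xg32 yg37 zg13) (kg xg31 yg50 zg55) (kg xg32 yg32 zg16) (kg xg30 yg40 zg13) (kg xg32 yg53 zg26) (kg xg32 yg16 zg8) (kg xg32 yg30 zg24) (kg xg28 yg9 zg24) (kg xg28 yg8 zg42) (kg xg31 yg10 zg45) (kg xg28 yg48 zg8) (kg xg31 yg16 zg30) (kg xg28 yg42 zg47) (kg xg29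 yg58 zg35) (kg xg31 yg7 zg51) (kg xg28 yg46 zg33) (kg xg31 yg15 zg53) (kg xg31 yg1 zg3) (kg xg31 yg12 zg23) (kg xg31 yg39 zg30) (kg xg28 yg10 zg10) (kg xg32 yg57 zg33) (kg xg31 yg11 zg22) (kg xg29 yg10 zg58) (kg xg29 yg10 zg59) (kg xg28 yg10 zg36) (kg xg31 yg14 zg58) (kg xg30 yg52 zg28) (kg xg32 yg34 zg13) (kg xg31 yg46 zg23) (kg xg28 yg18 zg34) (kg xg28 yg46 zg20) (kg xg31 yg57 zg37) (kg xg31 yg10 zg30) (kg xg32 yg16 zg0) (kg xg28 yg11 zg53) (kg xg32 yg54 zg2) (kg xg29 yg57 zg42) (kg xg29 yg3 zg31) (kg xg30 yg34 zg5) (kg xg29 yg51 zg44) (kg xg28 yg13 zg22) (kg xg30 yg13 zg49) (kg xg28 yg13 zg34) (kg xg32 yg21 zg50) (kg xg29 yg53 zg25) (kg xg31 yg53 zg22) (kg xg28 yg46 zg9) (kg xg28 yg14 zg35) (kg xg28 yg21 zg40) (kg xg32 yg20 zg50) (kg xg31 yg38 zg9) (kg xg32 yg43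 zg42) (kg xg31 yg51 zg33) (kg xg32 yg56 zg7)) (@D3.rec (fun _ => Pt) (kg xg31 yg21 zg41) (kg xg28 yg36 zg22) (kg xg30 yg56 zg53) (kg xg28 yg52 zg2) (kg xg32 yg46 zg36) (kg xg28 yg51 zg49) (kg xg32 yg28 zg51) (kg xg29 yg3 zg50) (kg xg32 yg40 zg25) (kg xg32 yg34 zg27) (kg xg28 yg54 zg20) (kg xg32 yg37 zg58) (kg xg29 yg8 zg7) (kg xg32 yg53 zg6) (kg xg32 yg20 zg16) (kg xg31 yg13 zg58) (kg xg30 yg5 zg46) (kg xg30 yg30 zg28) (kg xg31 yg33 zg13) (kg xg30 yg18 zg60) (kg xg30 yg22 zg7) (kg xg32 yg48 zg44) (kg xg28 yg35 zg55) (kg xg32 yg36 zg52) (kg xg28 yg36 zg9) (kg xg32 yg35 zg40) (kg xg31 yg25 zg59) (kg xg29 yg26 zg10) (kg xg28 yg18 zg23) (kg xg32 yg52 zg46) (kg xg30 yg28 zg22) (kg xg32 yg57 zg29) (kg xg32 yg52 zg41) (kg xg32 yg47 zg7) (kg xg31 yg35 zg2) (kg xg28 yg24 zg12)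 (kg xg28 yg39 zg39) (kg xg31 yg52 zg30) (kg xg32 yg50 zg33) (kg xg30 yg50 zg25) (kg xg28 yg32 zg57) (kg xg28 yg59 zg9) (kg xg28 yg38 zg29) (kg xg28 yg19 zg52) (kg xg31 yg38 zg50) (kg xg30 yg38 zg36) (kg xg30 yg32 zg61) (kg xg30 yg36 zg24) (kg xg28 yg20 zg32) (kg xg31 yg49 zg53) (kg xg32 yg24 zg23) (kg xg30 yg13 zg12) (kg xg31 yg22 zg50) (kg xg28 yg34 zg58) (kg xg30 yg12 zg12) (kg xg32 yg35 zg50) (kg xg28 yg38 zg14) (kg xg28 yg38 zg12) (kg xg30 yg21 zg55) (kg xg29 yg41 zg44) (kg xg31 yg51 zg32) (kg xg31 yg27 zg6)) (@D3.rec (fun _ => Pt) (kg xg31 yg29 zg16) (kg xg31 yg31 zg11) (kg xg32 yg40 zg15) (kg xg32 yg29 zg55) (kg xg28 yg22 zg21) (kg xg28 yg33 zg33) (kg xg31 yg30 zg51) (kg xg28 yg22 zg25) (kg xg32 yg54 zg53) (kg xg31 yg31 zg21) (kg xg32 yg33 zg59) (kg xg30 yg33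 zg36) (kg xg31 yg30 zg31) (kg xg28 yg53 zg24) (kg xg30 yg29 zg53) (kg xg30 yg11 zg50) (kg xg28 yg23 zg32) (kg xg32 yg2 zg24) (kg xg32 yg18 zg9) (kg xg32 yg21 zg37) (kg xg32 yg21 zg56) (kg xg30 yg53 zg4) (kg xg32 yg18 zg25) (kg xg28 yg24 zg7) (kg xg32 yg45 zg47) (kg xg32 yg52 zg35) (kg xg32 yg37 zg43) (kg xg32 yg33 zg8) (kg xg32 yg12 zg13) (kg xg29 yg39 zg14) (kg xg32 yg23 zg55) (kg xg29 yg30 zg44) (kg xg30 yg27 zg44) (kg xg32 yg56 zg18) (kg xg32 yg15 zg43) (kg xg28 yg25 zg11) (kg xg28 yg25 zg16) (kg xg29 yg43 zg11) (kg xg32 yg12 zg60) (kg xg31 yg16 zg28) (kg xg28 yg25 zg24) (kg xg31 yg16 zg27) (kg xg28 yg25 zg25) (kg xg29 yg42 zg4) (kg xg32 yg43 zg49) (kg xg32 yg31 zg42) (kg xg28 yg25 zg45) (kg xg29 yg55 zg5) (kg xg32 yg22 zg34) (kg xg31 yg23 zg11) (kg xg30 yg39 zg18)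 (kg xg32 yg7 zg13) (kg xg28 yg48 zg48) (kg xg29 yg18 zg59) (kg xg30 yg52 zg5) (kg xg32 yg49 zg42) (kg xg32 yg54 zg3) (kg xg29 yg45 zg38) (kg xg31 yg59 zg31) (kg xg32 yg8 zg53) (kg xg32 yg52 zg58) (kg xg32 yg57 zg9)) (@D3.rec (fun _ => Pt) (kg xg31 yg16 zg36) (kg xg32 yg28 zg58) (kg xg32 yg54 zg16) (kg xg28 yg33 zg51) (kg xg28 yg33 zg22) (kg xg31 yg26 zg58) (kg xg31 yg58 zg7) (kg xg28 yg29 zg33) (kg xg32 yg9 zg38) (kg xg28 yg49 zg59) (kg xg28 yg49 zg50) (kg xg28 yg37 zg20) (kg xg28 yg29 zg9) (kg xg28 yg35 zg21) (kg xg28 yg29 zg20) (kg xg32 yg36 zg7) (kg xg28 yg35 zg14) (kg xg32 yg11 zg33) (kg xg28 yg36 zg25) (kg xg32 yg55 zg8) (kg xg30 yg21 zg37) (kg xg32 yg56 zg60) (kg xg28 yg55 zg24) (kg xg28 yg41 zg43) (kg xg32 yg25 zg14) (kg xg30 yg51 zg14) (kg xg32 yg19 zg13) (kg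 xg32 yg59 zg25) (kg xg28 yg38 zg2) (kg xg30 yg15 zg40) (kg xg32 yg38 zg30) (kg xg32 yg45 zg27) (kg xg32 yg12 zg18) (kg xg28 yg42 zg4) (kg xg32 yg27 zg59) (kg xg28 yg30 zg33) (kg xg28 yg42 zg1) (kg xg32 yg25 zg18) (kg xg31 yg26 zg40) (kg xg28 yg30 zg47) (kg xg32 yg26 zg43) (kg xg28 yg45 zg29) (kg xg32 yg41 zg2) (kg xg28 yg31 zg8) (kg xg32 yg4 zg32) (kg xg32 yg10 zg2) (kg xg31 yg59 zg46) (kg xg32 yg16 zg40) (kg xg29 yg27 zg41) (kg xg31 yg25 zg47) (kg xg28 yg33 zg57) (kg xg29 yg8 zg43) (kg xg30 yg22 zg47) (kg xg30 yg35 zg8) (kg xg32 yg22 zg40) (kg xg32 yg33 zg25) (kg xg29 yg7 zg33) (kg xg28 yg38 zg38) (kg xg28 yg38 zg25) (kg xg28 yg33 zg2) (kg xg32 yg46 zg18) (kg xg30 yg21 zg38)) (@D3.rec (fun _ => Pt) (kg xg32 yg40 zg50) (kg xg32 yg39 zg9) (kg xg31 yg13 zg35) (kg xg28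 yg49 zg61) (kg xg31 yg31 zg43) (kg xg32 yg15 zg28) (kg xg32 yg13 zg46) (kg xg32 yg36 zg20) (kg xg32 yg45 zg24) (kg xg28 yg34 zg19) (kg xg28 yg35 zg11) (kg xg28 yg34 zg56) (kg xg30 yg29 zg49) (kg xg28 yg35 zg7) (kg xg28 yg40 zg27) (kg xg30 yg15 zg32) (kg xg30 yg53 zg6) (kg xg32 yg37 zg44) (kg xg28 yg35 zg15) (kg xg32 yg45 zg29) (kg xg32 yg9 zg17) (kg xg32 yg18 zg40) (kg xg32 yg59 zg30) (kg xg32 yg19 zg18) (kg xg32 yg57 zg19) (kg xg28 yg35 zg27) (kg xg32 yg44 zg0) (kg xg30 yg21 zg21) (kg xg31 yg22 zg48) (kg xg30 yg37 zg45) (kg xg30 yg56 zg12) (kg xg30 yg20 zg54) (kg xg28 yg36 zg16) (kg xg30 yg12 zg20) (kg xg32 yg58 zg18) (kg xg32 yg18 zg3) (kg xg31 yg29 zg0) (kg xg31 yg57 zg0) (kg xg32 yg43 zg31) (kg xg28 yg36 zg61) (kg xg31 yg52 zg34) (kg xg28 yg51 zg27) (kg xg31 yg52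 zg59) (kg xg32 yg11 zg0) (kg xg32 yg55 zg52) (kg xg32 yg35 zg12) (kg xg31 yg25 zg40) (kg xg30 yg51 zg38) (kg xg29 yg52 zg40) (kg xg30 yg12 zg26) (kg xg31 yg25 zg6) (kg xg32 yg56 zg37) (kg xg30 yg31 zg33) (kg xg31 yg23 zg13) (kg xg32 yg12 zg30) (kg xg31 yg49 zg44) (kg xg28 yg38 zg10) (kg xg29 yg16 zg5) (kg xg32 yg27 zg60) (kg xg28 yg38 zg24) (kg xg29 yg8 zg46) (kg xg29 yg8 zg27)) (@D3.rec (fun _ => Pt) (kg xg31 yg38 zg49) (kg xg32 yg21 zg13) (kg xg28 yg38 zg30) (kg xg28 yg38 zg35) (kg xg32 yg53 zg47) (kg xg32 yg40 zg61) (kg xg32 yg53 zg7) (kg xg30 yg21 zg41) (kg xg31 yg24 zg7) (kg xg32 yg40 zg59) (kg xg32 yg15 zg3) (kg xg32 yg14 zg47) (kg xg28 yg38 zg50) (kg xg32 yg40 zg42) (kg xg32 yg36 zg46) (kg xg29 yg45 zg20) (kg xg30 yg28 zg50) (kg xg28 yg39 zg18) (kg xg29 yg53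 zg37) (kg xg32 yg37 zg41) (kg xg32 yg12 zg31) (kg xg28 yg39 zg26) (kg xg32 yg12 zg19) (kg xg28 yg39 zg29) (kg xg32 yg59 zg24) (kg xg28 yg55 zg44) (kg xg32 yg18 zg35) (kg xg32 yg59 zg26) (kg xg28 yg39 zg40) (kg xg32 yg47 zg41) (kg xg32 yg13 zg41) (kg xg29 yg33 zg50) (kg xg28 yg39 zg43) (kg xg30 yg38 zg24) (kg xg31 yg21 zg5) (kg xg32 yg47 zg44) (kg xg29 yg34 zg30) (kg xg28 yg39 zg53) (kg xg32 yg21 zg44) (kg xg31 yg33 zg39) (kg xg32 yg45 zg4) (kg xg32 yg37 zg38) (kg xg28 yg46 zg50) (kg xg32 yg11 zg34) (kg xg32 yg36 zg18) (kg xg32 yg15 zg50) (kg xg32 yg59 zg27) (kg xg28 yg40 zg9) (kg xg32 yg45 zg30) (kg xg28 yg40 zg12) (kg xg29 yg33 zg11) (kg xg28 yg40 zg16) (kg xg32 yg39 zg30) (kg xg31 yg31 zg6) (kg xg29 yg46 zg54) (kg xg32 yg22 zg58) (kg xg29 yg46 zg52) (kg xg32 yg47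 zg45) (kg xg28 yg40 zg35) (kg xg32 yg58 zg10) (kg xg32 yg40 zg27) (kg xg28 yg40 zg42)) (@D3.rec (fun _ => Pt) (kg xg31 yg52 zg23) (kg xg28 yg40 zg47) (kg xg32 yg13 zg34) (kg xg28 yg40 zg54) (kg xg32 yg5 zg46) (kg xg32 yg5 zg57) (kg xg28 yg40 zg59) (kg xg32 yg31 zg26) (kg xg32 yg56 zg28) (kg xg32 yg35 zg24) (kg xg32 yg38 zg10) (kg xg31 yg17 zg37) (kg xg28 yg42 zg10) (kg xg30 yg1 zg45) (kg xg32 yg42 zg9) (kg xg32 yg48 zg52) (kg xg28 yg43 zg5) (kg xg28 yg43 zg22) (kg xg32 yg17 zg40) (kg xg32 yg49 zg24) (kg xg31 yg44 zg10) (kg xg32 yg59 zg19) (kg xg30 yg58 zg5) (kg xg30 yg0 zg28) (kg xg32 yg38 zg43) (kg xg31 yg24 zg57) (kg xg29 yg33 zg4) (kg xg29 yg26 zg22) (kg xg30 yg17 zg17) (kg xg31 yg33 zg5) (kg xg32 yg35 zg30) (kg xg31 yg29 zg45) (kg xg31 yg29 zg43) (kg xg31 yg28 zg18)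 (kg xg31 yg50 zg14) (kg xg32 yg24 zg25) (kg xg32 yg57 zg39) (kg xg30 yg25 zg30) (kg xg32 yg44 zg41) (kg xg32 yg14 zg13) (kg xg32 yg0 zg46) (kg xg30 yg35 zg4) (kg xg28 yg53 zg35) (kg xg32 yg40 zg60) (kg xg32 yg53 zg25) (kg xg28 yg46 zg57) (kg xg32 yg2 zg4) (kg xg29 yg16 zg40) (kg xg31 yg47 zg37) (kg xg32 yg27 zg41) (kg xg28 yg47 zg12) (kg xg31 yg25 zg30) (kg xg32 yg54 zg18) (kg xg32 yg35 zg53) (kg xg30 yg8 zg48) (kg xg29 yg0 zg23) (kg xg28 yg52 zg29) (kg xg31 yg24 zg52) (kg xg31 yg47 zg35) (kg xg32 yg10 zg45) (kg xg30 yg16 zg17) (kg xg30 yg14 zg57)) (@D3.rec (fun _ => Pt) (kg xg29 yg45 zg32) (kg xg28 yg49 zg1) (kg xg32 yg56 zg30) (kg xg28 yg49 zg6) (kg xg31 yg51 zg19) (kg xg30 yg21 zg34) (kg xg31 yg55 zg45) (kg xg32 yg4 zg20) (kg xg28 yg49 zg17) (kg xg29 yg32 zg18) (kg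 xg29 yg12 zg0) (kg xg31 yg34 zg36) (kg xg32 yg4 zg23) (kg xg31 yg52 zg20) (kg xg28 yg49 zg53) (kg xg32 yg48 zg29) (kg xg32 yg40 zg24) (kg xg28 yg50 zg34) (kg xg28 yg52 zg28) (kg xg28 yg52 zg52) (kg xg32 yg58 zg11) (kg xg28 yg50 zg45) (kg xg29 yg36 zg59) (kg xg31 yg22 zg5) (kg xg31 yg23 zg22) (kg xg31 yg22 zg53) (kg xg32 yg39 zg54) (kg xg28 yg51 zg7) (kg xg32 yg37 zg54) (kg xg32 yg45 zg42) (kg xg32 yg14 zg31) (kg xg28 yg54 zg51) (kg xg28 yg51 zg25) (kg xg31 yg56 zg17) (kg xg28 yg51 zg47) (kg xg28 yg55 zg19) (kg xg31 yg24 zg1) (kg xg28 yg51 zg53) (kg xg32 yg37 zg9) (kg xg28 yg51 zg50) (kg xg32 yg16 zg59) (kg xg32 yg8 zg54) (kg xg32 yg20 zg29) (kg xg30 yg5 zg51) (kg xg32 yg58 zg22) (kg xg32 yg22 zg11) (kg xg30 yg18 zg25) (kg xg31 yg52 zg19) (kg xg31 yg12 zg37) (kg xg28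 yg52 zg31) (kg xg29 yg40 zg16) (kg xg32 yg51 zg6) (kg xg30 yg22 zg19) (kg xg28 yg53 zg11) (kg xg28 yg56 zg37) (kg xg32 yg35 zg31) (kg xg29 yg47 zg6) (kg xg30 yg22 zg15) (kg xg30 yg39 zg42) (kg xg30 yg5 zg50) (kg xg32 yg52 zg28) (kg xg30 yg29 zg54)) (@D3.rec (fun _ => Pt) (kg xg32 yg0 zg58) (kg xg30 yg22 zg30) (kg xg28 yg53 zg21) (kg xg32 yg50 zg27) (kg xg30 yg21 zg43) (kg xg32 yg41 zg40) (kg xg32 yg53 zg52) (kg xg28 yg53 zg30) (kg xg31 yg27 zg61) (kg xg32 yg8 zg6) (kg xg32 yg38 zg53) (kg xg31 yg26 zg3) (kg xg32 yg34 zg2) (kg xg32 yg14 zg6) (kg xg32 yg44 zg34) (kg xg29 yg47 zg23) (kg xg31 yg12 zg29) (kg xg32 yg14 zg8) (kg xg31 yg31 zg3) (kg xg30 yg29 zg7) (kg xg28 yg54 zg30) (kg xg29 yg46 zg21) (kg xg32 yg1 zg1) (kg xg32 yg52 zg34) (kg xg32 yg39 zg17) (kg xg32 yg33 zg9)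 (kg xg28 yg54 zg40) (kg xg32 yg37 zg59) (kg xg29 yg46 zg13) (kg xg31 yg19 zg24) (kg xg32 yg13 zg19) (kg xg31 yg53 zg18) (kg xg28 yg55 zg16) (kg xg32 yg47 zg28) (kg xg32 yg4 zg28) (kg xg32 yg17 zg50) (kg xg32 yg44 zg17) (kg xg32 yg4 zg22) (kg xg31 yg26 zg8) (kg xg32 yg57 zg52) (kg xg32 yg51 zg49) (kg xg31 yg26 zg46) (kg xg28 yg55 zg21) (kg xg32 yg51 zg47) (kg xg32 yg58 zg43) (kg xg32 yg52 zg0) (kg xg32 yg9 zg7) (kg xg32 yg58 zg17) (kg xg32 yg9 zg6) (kg xg30 yg39 zg49) (kg xg31 yg41 zg13) (kg xg31 yg53 zg13) (kg xg29 yg11 zg17) (kg xg31 yg51 zg3) (kg xg32 yg47 zg35) (kg xg32 yg9 zg5) (kg xg32 yg41 zg53) (kg xg32 yg8 zg55) (kg xg32 yg19 zg20) (kg xg30 yg37 zg61) (kg xg29 yg42 zg47) (kg xg32 yg37 zg8)) (@D3.rec (fun _ => Pt) (kg xg31 yg15 zg4) (kg xg32 yg59 zg0) (kg xg32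 yg40 zg26) (kg xg32 yg11 zg19) (kg xg32 yg39 zg27) (kg xg32 yg47 zg39) (kg xg28 yg56 zg33) (kg xg29 yg46 zg51) (kg xg31 yg30 zg28) (kg xg30 yg16 zg3) (kg xg32 yg11 zg52) (kg xg28 yg56 zg36) (kg xg29 yg14 zg7) (kg xg31 yg45 zg45) (kg xg28 yg57 zg12) (kg xg30 yg55 zg61) (kg xg28 yg57 zg11) (kg xg32 yg49 zg13) (kg xg32 yg44 zg53) (kg xg32 yg3 zg37) (kg xg31 yg47 zg48) (kg xg29 yg56 zg15) (kg xg29 yg41 zg56) (kg xg28 yg58 zg50) (kg xg29 yg41 zg25) (kg xg28 yg58 zg56) (kg xg31 yg48 zg37) (kg xg32 yg7 zg5) (kg xg32 yg13 zg57) (kg xg31 yg47 zg50) (kg xg31 yg20 zg56) (kg xg31 yg48 zg31) (kg xg32 yg51 zg43) (kg xg32 yg56 zg49) (kg xg31 yg28 zg38) (kg xg29 yg27 zg23) (kg xg32 yg58 zg7) (kg xg32 yg24 zg10) (kg xg29 yg1 zg2) (kg xg32 yg40 zg5) (kg xg29 yg1 zg30) (kg xg31 yg30 zg40)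 (kg xg29 yg19 zg60) (kg xg32 yg39 zg45) (kg xg32 yg12 zg45) (kg xg30 yg15 zg42) (kg xg32 yg22 zg54) (kg xg31 yg55 zg47) (kg xg32 yg59 zg34) (kg xg29 yg31 zg34) (kg xg32 yg43 zg59) (kg xg31 yg31 zg18) (kg xg32 yg13 zg8) (kg xg32 yg18 zg19) (kg xg32 yg54 zg43) (kg xg32 yg57 zg12) (kg xg29 yg11 zg53) (kg xg32 yg2 zg33) (kg xg31 yg42 zg12) (kg xg32 yg54 zg35) (kg xg29 yg3 zg48) (kg xg29 yg4 zg35)) (@D3.rec (fun _ => Pt) (kg xg29 yg4 zg9) (kg xg31 yg30 zg21) (kg xg31 yg11 zg35) (kg xg29 yg56 zg36) (kg xg31 yg5 zg45) (kg xg32 yg49 zg25) (kg xg32 yg3 zg40) (kg xg32 yg24 zg31) (kg xg29 yg4 zg27) (kg xg32 yg42 zg30) (kg xg29 yg4 zg31) (kg xg32 yg46 zg58) (kg xg29 yg4 zg38) (kg xg31 yg37 zg30) (kg xg29 yg7 zg2) (kg xg32 yg28 zg34) (kg xg32 yg55 zg21) (kg xg29 yg4 zg49) (kg xg31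 yg26 zg39) (kg xg32 yg55 zg24) (kg xg32 yg47 zg58) (kg xg31 yg42 zg10) (kg xg32 yg51 zg38) (kg xg32 yg1 zg39) (kg xg32 yg53 zg58) (kg xg32 yg59 zg31) (kg xg29 yg5 zg9) (kg xg29 yg5 zg14) (kg xg30 yg9 zg55) (kg xg31 yg5 zg1) (kg xg32 yg54 zg6) (kg xg29 yg56 zg52) (kg xg31 yg49 zg39) (kg xg32 yg42 zg17) (kg xg31 yg3 zg40) (kg xg31 yg54 zg55) (kg xg32 yg36 zg42) (kg xg32 yg28 zg4) (kg xg29 yg7 zg53) (kg xg32 yg53 zg38) (kg xg32 yg17 zg25) (kg xg30 yg39 zg14) (kg xg29 yg8 zg47) (kg xg32 yg46 zg19) (kg xg32 yg42 zg46) (kg xg29 yg36 zg44) (kg xg32 yg42 zg45) (kg xg29 yg28 zg59) (kg xg31 yg16 zg5) (kg xg32 yg21 zg18) (kg xg32 yg21 zg20) (kg xg32 yg19 zg2) (kg xg30 yg15 zg15) (kg xg31 yg36 zg10) (kg xg29 yg12 zg15) (kg xg32 yg49 zg20) (kg xg29 yg13 zg50) (kg xg30 yg42 zg20)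 (kg xg30 yg2 zg52) (kg xg30 yg10 zg32) (kg xg31 yg34 zg34) (kg xg29 yg10 zg29)) (@D3.rec (fun _ => Pt) (kg xg31 yg26 zg2) (kg xg29 yg10 zg37) (kg xg32 yg39 zg31) (kg xg29 yg45 zg14) (kg xg31 yg0 zg61) (kg xg29 yg10 zg60) (kg xg32 yg32 zg49) (kg xg32 yg30 zg34) (kg xg32 yg50 zg44) (kg xg29 yg10 zg56) (kg xg32 yg27 zg48) (kg xg31 yg11 zg53) (kg xg32 yg57 zg49) (kg xg32 yg47 zg36) (kg xg32 yg4 zg25) (kg xg31 yg27 zg40) (kg xg29 yg11 zg54) (kg xg31 yg1 zg11) (kg xg31 yg58 zg48) (kg xg30 yg14 zg2) (kg xg31 yg39 zg10) (kg xg32 yg35 zg46) (kg xg31 yg55 zg38) (kg xg29 yg13 zg12) (kg xg31 yg40 zg56) (kg xg32 yg57 zg7) (kg xg31 yg53 zg9) (kg xg31 yg2 zg15) (kg xg29 yg41 zg36) (kg xg31 yg52 zg5) (kg xg32 yg18 zg2) (kg xg32 yg36 zg39) (kg xg29 yg36 zg12) (kg xg32 yg43 zg33) (kg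 xg32 yg44 zg44) (kg xg29 yg14 zg23) (kg xg32 yg17 zg60) (kg xg32 yg27 zg14) (kg xg30 yg52 zg25) (kg xg32 yg9 zg1) (kg xg32 yg35 zg10) (kg xg32 yg1 zg4) (kg xg32 yg57 zg35) (kg xg29 yg36 zg19) (kg xg32 yg56 zg41) (kg xg31 yg54 zg57) (kg xg31 yg27 zg46) (kg xg32 yg58 zg46) (kg xg32 yg55 zg58) (kg xg31 yg49 zg45) (kg xg29 yg16 zg0) (kg xg30 yg9 zg34) (kg xg32 yg58 zg34) (kg xg29 yg16 zg24) (kg xg29 yg16 zg42) (kg xg31 yg28 zg17) (kg xg31 yg5 zg39) (kg xg29 yg17 zg31) (kg xg30 yg21 zg33) (kg xg29 yg17 zg56) (kg xg31 yg39 zg9) (kg xg32 yg8 zg21)) (@D3.rec (fun _ => Pt) (kg xg30 yg24 zg14) (kg xg30 yg24 zg24) (kg xg29 yg21 zg23) (kg xg32 yg10 zg21) (kg xg29 yg52 zg51) (kg xg31 yg14 zg49) (kg xg31 yg25 zg36) (kg xg29 yg21 zg21) (kg xg32 yg54 zg25) (kg xg30 yg29 zg50) (kg xg30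 yg45 zg16) (kg xg32 yg19 zg36) (kg xg29 yg21 zg30) (kg xg32 yg44 zg11) (kg xg32 yg1 zg18) (kg xg30 yg31 zg46) (kg xg31 yg6 zg44) (kg xg32 yg40 zg37) (kg xg30 yg16 zg52) (kg xg31 yg58 zg34) (kg xg32 yg2 zg38) (kg xg30 yg29 zg11) (kg xg31 yg54 zg2) (kg xg32 yg44 zg12) (kg xg32 yg32 zg23) (kg xg32 yg25 zg43) (kg xg31 yg43 zg26) (kg xg32 yg34 zg60) (kg xg30 yg36 zg43) (kg xg32 yg0 zg42) (kg xg30 yg20 zg24) (kg xg32 yg45 zg36) (kg xg29 yg26 zg8) (kg xg29 yg34 zg18) (kg xg32 yg33 zg10) (kg xg31 yg31 zg38) (kg xg29 yg26 zg28) (kg xg32 yg38 zg29) (kg xg32 yg13 zg43) (kg xg30 yg33 zg34) (kg xg32 yg43 zg25) (kg xg32 yg34 zg55) (kg xg29 yg27 zg16) (kg xg32 yg17 zg57) (kg xg32 yg43 zg35) (kg xg29 yg36 zg8) (kg xg32 yg58 zg36) (kg xg32 yg27 zg17) (kg xg29 yg27 zg31) (kg xg32 yg18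 zg0) (kg xg31 yg43 zg40) (kg xg31 yg25 zg10) (kg xg29 yg27 zg61) (kg xg31 yg56 zg15) (kg xg29 yg28 zg21) (kg xg30 yg53 zg23) (kg xg30 yg44 zg23) (kg xg32 yg16 zg55) (kg xg32 yg45 zg59) (kg xg30 yg57 zg53) (kg xg30 yg57 zg52) (kg xg29 yg29 zg28)) (@D3.rec (fun _ => Pt) (kg xg32 yg49 zg41) (kg xg32 yg20 zg6) (kg xg32 yg54 zg49) (kg xg29 yg31 zg6) (kg xg32 yg39 zg29) (kg xg29 yg34 zg4) (kg xg29 yg31 zg27) (kg xg32 yg45 zg55) (kg xg32 yg14 zg17) (kg xg29 yg31 zg36) (kg xg29 yg34 zg20) (kg xg31 yg33 zg37) (kg xg30 yg22 zg29) (kg xg30 yg53 zg10) (kg xg30 yg29 zg47) (kg xg32 yg45 zg33) (kg xg32 yg36 zg1) (kg xg30 yg27 zg0) (kg xg30 yg28 zg31) (kg xg29 yg32 zg45) (kg xg32 yg41 zg29) (kg xg29 yg32 zg47) (kg xg32 yg15 zg10) (kg xg29 yg42 zg53) (kg xg32 yg36 zg9) (kg xg32 yg12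 zg28) (kg xg29 yg33 zg57) (kg xg32 yg22 zg56) (kg xg30 yg28 zg58) (kg xg32 yg36 zg21) (kg xg32 yg35 zg32) (kg xg32 yg13 zg38) (kg xg29 yg33 zg22) (kg xg32 yg18 zg46) (kg xg31 yg30 zg35) (kg xg30 yg31 zg9) (kg xg29 yg45 zg52) (kg xg32 yg40 zg18) (kg xg32 yg11 zg12) (kg xg30 yg31 zg5) (kg xg31 yg33 zg3) (kg xg29 yg33 zg47) (kg xg32 yg37 zg40) (kg xg32 yg58 zg1) (kg xg30 yg15 zg43) (kg xg31 yg31 zg50) (kg xg32 yg22 zg61) (kg xg30 yg16 zg21) (kg xg32 yg37 zg34) (kg xg32 yg52 zg47) (kg xg31 yg26 zg18) (kg xg32 yg12 zg1) (kg xg31 yg30 zg59) (kg xg32 yg41 zg11) (kg xg32 yg52 zg48) (kg xg32 yg56 zg50) (kg xg32 yg45 zg7) (kg xg32 yg33 zg23) (kg xg29 yg36 zg17) (kg xg31 yg13 zg33) (kg xg31 yg32 zg28) (kg xg32 yg59 zg46)) (@D3.rec (fun _ => Pt) (kg xg32 yg59 zg47) (kg xg29 yg36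 zg14) (kg xg29 yg36 zg9) (kg xg30 yg19 zg6) (kg xg31 yg57 zg2) (kg xg32 yg51 zg19) (kg xg30 yg27 zg12) (kg xg32 yg51 zg20) (kg xg32 yg59 zg49) (kg xg32 yg59 zg14) (kg xg32 yg59 zg40) (kg xg32 yg59 zg36) (kg xg31 yg56 zg59) (kg xg32 yg59 zg17) (kg xg32 yg17 zg49) (kg xg32 yg58 zg24) (kg xg32 yg17 zg47) (kg xg32 yg42 zg2) (kg xg32 yg36 zg61) (kg xg29 yg36 zg31) (kg xg30 yg30 zg41) (kg xg30 yg22 zg59) (kg xg29 yg37 zg2) (kg xg32 yg58 zg25) (kg xg32 yg51 zg26) (kg xg30 yg21 zg61) (kg xg32 yg30 zg51) (kg xg30 yg15 zg25) (kg xg29 yg45 zg33) (kg xg29 yg45 zg18) (kg xg29 yg45 zg16) (kg xg31 yg30 zg29) (kg xg29 yg40 zg22) (kg xg32 yg8 zg10) (kg xg32 yg28 zg53) (kg xg32 yg54 zg54) (kg xg30 yg21 zg28) (kg xg30 yg31 zg28) (kg xg30 yg25 zg61) (kg xg32 yg37 zg17) (kg xg32 yg37 zg39)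 (kg xg31 yg20 zg40) (kg xg31 yg30 zg34) (kg xg30 yg31 zg24) (kg xg32 yg21 zg49) (kg xg30 yg17 zg35) (kg xg29 yg40 zg31) (kg xg29 yg40 zg28) (kg xg30 yg17 zg36) (kg xg32 yg52 zg54) (kg xg32 yg52 zg33) (kg xg32 yg12 zg39) (kg xg32 yg52 zg42) (kg xg32 yg44 zg8) (kg xg31 yg30 zg49) (kg xg32 yg43 zg37) (kg xg32 yg55 zg4) (kg xg32 yg42 zg11) (kg xg29 yg41 zg24) (kg xg32 yg1 zg55) (kg xg30 yg54 zg47) (kg xg31 yg35 zg33)) (@D3.rec (fun _ => Pt) (kg xg31 yg22 zg40) (kg xg31 yg50 zg17) (kg xg29 yg46 zg47) (kg xg32 yg36 zg23) (kg xg32 yg36 zg60) (kg xg31 yg30 zg60) (kg xg32 yg19 zg8) (kg xg32 yg45 zg46) (kg xg30 yg3 zg20) (kg xg31 yg21 zg11) (kg xg32 yg48 zg58) (kg xg29 yg43 zg51) (kg xg30 yg31 zg7) (kg xg32 yg39 zg15) (kg xg32 yg14 zg27) (kg xg29 yg44 zg32) (kg xg32 yg56 zg61)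 (kg xg29 yg47 zg19) (kg xg31 yg48 zg21) (kg xg32 yg14 zg30) (kg xg29 yg45 zg5) (kg xg29 yg45 zg6) (kg xg30 yg28 zg11) (kg xg29 yg45 zg19) (kg xg29 yg45 zg10) (kg xg32 yg47 zg59) (kg xg32 yg44 zg31) (kg xg30 yg28 zg15) (kg xg32 yg40 zg38) (kg xg31 yg20 zg4) (kg xg32 yg46 zg15) (kg xg29 yg45 zg48) (kg xg32 yg50 zg60) (kg xg30 yg31 zg3) (kg xg29 yg45 zg54) (kg xg32 yg43 zg13) (kg xg32 yg40 zg54) (kg xg32 yg12 zg26) (kg xg32 yg13 zg36) (kg xg32 yg47 zg52) (kg xg29 yg46 zg7) (kg xg32 yg37 zg29) (kg xg32 yg12 zg27) (kg xg32 yg37 zg35) (kg xg29 yg46 zg14) (kg xg29 yg46 zg15) (kg xg32 yg41 zg9) (kg xg31 yg16 zg46) (kg xg31 yg20 zg21) (kg xg29 yg47 zg5) (kg xg30 yg11 zg58) (kg xg30 yg29 zg34) (kg xg32 yg12 zg2) (kg xg32 yg39 zg28) (kg xg32 yg59 zg29) (kg xg32 yg47 zg51) (kg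 xg32 yg52 zg21) (kg xg29 yg47 zg7) (kg xg31 yg27 zg9) (kg xg31 yg27 zg27) (kg xg30 yg31 zg1) (kg xg32 yg20 zg36)) (@D3.rec (fun _ => Pt) (kg xg32 yg15 zg5) (kg xg32 yg52 zg8) (kg xg32 yg20 zg19) (kg xg30 yg5 zg43) (kg xg31 yg22 zg15) (kg xg31 yg23 zg54) (kg xg32 yg15 zg20) (kg xg29 yg49 zg3) (kg xg31 yg48 zg18) (kg xg29 yg56 zg23) (kg xg32 yg0 zg24) (kg xg32 yg23 zg53) (kg xg31 yg3 zg23) (kg xg31 yg4 zg15) (kg xg30 yg40 zg25) (kg xg31 yg10 zg22) (kg xg32 yg43 zg26) (kg xg30 yg21 zg1) (kg xg32 yg48 zg25) (kg xg32 yg8 zg32) (kg xg32 yg48 zg60) (kg xg30 yg0 zg47) (kg xg30 yg6 zg15) (kg xg29 yg51 zg10) (kg xg32 yg1 zg25) (kg xg30 yg4 zg43) (kg xg29 yg52 zg7) (kg xg30 yg1 zg28) (kg xg29 yg52 zg16) (kg xg32 yg13 zg2) (kg xg30 yg48 zg38) (kg xg32 yg6 zg10) (kg xg30 yg46 zg56)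 (kg xg32 yg48 zg17) (kg xg32 yg0 zg32) (kg xg31 yg33 zg22) (kg xg32 yg18 zg56) (kg xg32 yg0 zg4) (kg xg32 yg29 zg58) (kg xg32 yg38 zg50) (kg xg32 yg28 zg52) (kg xg29 yg54 zg42) (kg xg29 yg54 zg61) (kg xg29 yg54 zg51) (kg xg32 yg49 zg15) (kg xg30 yg41 zg27) (kg xg29 yg56 zg0) (kg xg29 yg59 zg30) (kg xg32 yg8 zg22) (kg xg31 yg5 zg26) (kg xg32 yg42 zg18) (kg xg32 yg4 zg3) (kg xg32 yg44 zg52) (kg xg29 yg56 zg60) (kg xg30 yg10 zg45) (kg xg32 yg24 zg33) (kg xg29 yg57 zg15) (kg xg32 yg32 zg39) (kg xg30 yg55 zg22) (kg xg30 yg55 zg2) (kg xg31 yg10 zg10) (kg xg32 yg24 zg32)) (@D3.rec (fun _ => Pt) (kg xg32 yg53 zg13) (kg xg31 yg5 zg8) (kg xg31 yg10 zg49) (kg xg30 yg52 zg13) (kg xg32 yg54 zg11) (kg xg31 yg9 zg34) (kg xg29 yg58 zg18) (kg xg30 yg6 zg13) (kg xg31 yg3 zg33) (kg xg32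 yg58 zg6) (kg xg30 yg37 zg5) (kg xg31 yg29 zg4) (kg xg32 yg50 zg47) (kg xg29 yg59 zg46) (kg xg31 yg58 zg21) (kg xg29 yg59 zg28) (kg xg30 yg41 zg20) (kg xg30 yg27 zg11) (kg xg31 yg8 zg50) (kg xg31 yg9 zg19) (kg xg32 yg16 zg2) (kg xg32 yg19 zg52) (kg xg31 yg44 zg17) (kg xg30 yg0 zg55) (kg xg32 yg38 zg19) (kg xg32 yg42 zg1) (kg xg32 yg58 zg53) (kg xg32 yg50 zg37) (kg xg32 yg9 zg41) (kg xg32 yg41 zg57) (kg xg30 yg47 zg35) (kg xg30 yg58 zg53) (kg xg31 yg53 zg12) (kg xg32 yg3 zg20) (kg xg30 yg3 zg8) (kg xg31 yg9 zg39) (kg xg31 yg27 zg48) (kg xg31 yg2 zg3) (kg xg31 yg41 zg1) (kg xg32 yg50 zg43) (kg xg31 yg12 zg5) (kg xg32 yg40 zg4) (kg xg32 yg38 zg38) (kg xg32 yg49 zg1) (kg xg32 yg6 zg32) (kg xg31 yg5 zg46) (kg xg32 yg54 zg13) (kg xg32 yg4 zg36) (kg xg32 yg48 zg18) (kg xg31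 yg58 zg9) (kg xg32 yg49 zg0) (kg xg30 yg9 zg54) (kg xg32 yg29 zg10) (kg xg32 yg56 zg2) (kg xg32 yg20 zg7) (kg xg30 yg19 zg11) (kg xg32 yg56 zg6) (kg xg32 yg22 zg42) (kg xg30 yg50 zg37) (kg xg30 yg5 zg42) (kg xg30 yg50 zg40) (kg xg32 yg59 zg8)) (@D3.rec (fun _ => Pt) (kg xg32 yg58 zg38) (kg xg30 yg19 zg2) (kg xg32 yg20 zg32) (kg xg32 yg53 zg53) (kg xg32 yg58 zg3) (kg xg30 yg5 zg58) (kg xg30 yg6 zg7) (kg xg30 yg9 zg33) (kg xg31 yg55 zg8) (kg xg32 yg26 zg51) (kg xg32 yg50 zg49) (kg xg32 yg28 zg0) (kg xg31 yg51 zg48) (kg xg30 yg6 zg54) (kg xg32 yg20 zg53) (kg xg32 yg39 zg43) (kg xg30 yg28 zg60) (kg xg30 yg58 zg51) (kg xg30 yg59 zg24) (kg xg30 yg58 zg55) (kg xg30 yg59 zg45) (kg xg30 yg59 zg47) (kg xg32 yg44 zg20) (kg xg32 yg34 zg33) (kg xg32 yg53 zg55) (kg xg31 yg47 zg22)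 (kg xg32 yg53 zg35) (kg xg32 yg21 zg60) (kg xg30 yg35 zg24) (kg xg32 yg24 zg44) (kg xg32 yg48 zg51) (kg xg30 yg9 zg37) (kg xg32 yg11 zg9) (kg xg32 yg17 zg5) (kg xg31 yg35 zg54) (kg xg31 yg16 zg47) (kg xg32 yg54 zg21) (kg xg32 yg38 zg13) (kg xg30 yg11 zg56) (kg xg31 yg29 zg20) (kg xg31 yg12 zg35) (kg xg32 yg42 zg36) (kg xg30 yg39 zg31) (kg xg32 yg49 zg40) (kg xg32 yg43 zg4) (kg xg32 yg50 zg51) (kg xg32 yg55 zg60) (kg xg31 yg6 zg15) (kg xg30 yg13 zg37) (kg xg32 yg50 zg53) (kg xg31 yg7 zg60) (kg xg32 yg44 zg39) (kg xg32 yg43 zg6) (kg xg32 yg54 zg22) (kg xg30 yg52 zg14) (kg xg30 yg29 zg36) (kg xg30 yg15 zg59) (kg xg32 yg19 zg5) (kg xg30 yg15 zg13) (kg xg32 yg58 zg57) (kg xg32 yg47 zg32) (kg xg32 yg14 zg18)) (@D3.rec (fun _ => Pt) (kg xg31 yg31 zg54) (kg xg32 yg47 zg46)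 (kg xg32 yg36 zg15) (kg xg32 yg37 zg56) (kg xg31 yg31 zg52) (kg xg32 yg11 zg36) (kg xg32 yg46 zg42) (kg xg32 yg23 zg10) (kg xg31 yg24 zg13) (kg xg32 yg33 zg14) (kg xg30 yg19 zg7) (kg xg30 yg19 zg4) (kg xg32 yg33 zg16) (kg xg32 yg56 zg44) (kg xg30 yg45 zg10) (kg xg30 yg22 zg14) (kg xg30 yg50 zg1) (kg xg30 yg47 zg48) (kg xg32 yg57 zg16) (kg xg32 yg46 zg7) (kg xg32 yg46 zg5) (kg xg30 yg46 zg43) (kg xg32 yg46 zg26) (kg xg32 yg59 zg21) (kg xg32 yg46 zg24) (kg xg32 yg59 zg55) (kg xg31 yg57 zg1) (kg xg32 yg51 zg9) (kg xg32 yg20 zg52) (kg xg32 yg20 zg51) (kg xg32 yg20 zg23) (kg xg32 yg5 zg21) (kg xg32 yg43 zg47) (kg xg30 yg22 zg1) (kg xg30 yg20 zg53) (kg xg30 yg38 zg31) (kg xg30 yg31 zg16) (kg xg32 yg8 zg50) (kg xg32 yg9 zg32) (kg xg30 yg21 zg2) (kg xg32 yg53 zg33) (kg xg32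 yg14 zg60) (kg xg30 yg53 zg53) (kg xg32 yg20 zg34) (kg xg31 yg50 zg45) (kg xg32 yg56 zg26) (kg xg31 yg51 zg45) (kg xg31 yg15 zg13) (kg xg31 yg50 zg51) (kg xg32 yg59 zg53) (kg xg32 yg40 zg40) (kg xg32 yg59 zg10) (kg xg32 yg20 zg46) (kg xg32 yg59 zg43) (kg xg30 yg22 zg0) (kg xg32 yg52 zg30) (kg xg32 yg52 zg39) (kg xg32 yg54 zg52) (kg xg32 yg59 zg1) (kg xg30 yg21 zg59) (kg xg32 yg59 zg44) (kg xg32 yg53 zg20)) (@D3.rec (fun _ => Pt) (kg xg32 yg1 zg6) (kg xg32 yg40 zg45) (kg xg32 yg57 zg15) (kg xg32 yg57 zg30) (kg xg30 yg22 zg24) (kg xg31 yg13 zg28) (kg xg31 yg13 zg51) (kg xg31 yg13 zg49) (kg xg30 yg39 zg40) (kg xg30 yg34 zg32) (kg xg32 yg9 zg11) (kg xg30 yg23 zg1) (kg xg32 yg40 zg3) (kg xg32 yg36 zg51) (kg xg30 yg49 zg17) (kg xg30 yg23 zg44) (kg xg32 yg24 zg17) (kg xg32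 yg19 zg21) (kg xg30 yg57 zg49) (kg xg30 yg28 zg21) (kg xg32 yg21 zg19) (kg xg32 yg22 zg59) (kg xg30 yg30 zg59) (kg xg31 yg33 zg33) (kg xg32 yg48 zg19) (kg xg30 yg26 zg24) (kg xg30 yg50 zg16) (kg xg32 yg24 zg15) (kg xg32 yg15 zg9) (kg xg32 yg38 zg46) (kg xg31 yg40 zg13) (kg xg31 yg48 zg1) (kg xg30 yg29 zg38) (kg xg30 yg29 zg33) (kg xg30 yg28 zg19) (kg xg32 yg52 zg45) (kg xg30 yg38 zg25) (kg xg31 yg52 zg38) (kg xg32 yg51 zg56) (kg xg30 yg28 zg25) (kg xg30 yg28 zg28) (kg xg32 yg11 zg30) (kg xg30 yg28 zg56) (kg xg32 yg57 zg14) (kg xg32 yg12 zg24) (kg xg30 yg28 zg59) (kg xg32 yg11 zg55) (kg xg32 yg45 zg54) (kg xg32 yg45 zg49) (kg xg32 yg45 zg22) (kg xg32 yg56 zg13) (kg xg32 yg59 zg33) (kg xg31 yg24 zg50) (kg xg31 yg24 zg11) (kg xg32 yg55 zg1) (kg xg32 yg52 zg7) (kg xg31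 yg21 zg32) (kg xg30 yg31 zg31) (kg xg30 yg49 zg50) (kg xg32 yg34 zg54) (kg xg31 yg13 zg27) (kg xg31 yg16 zg35)) (@D3.rec (fun _ => Pt) (kg xg31 yg46 zg7) (kg xg31 yg15 zg21) (kg xg32 yg53 zg56) (kg xg31 yg13 zg38) (kg xg31 yg4 zg25) (kg xg32 yg55 zg32) (kg xg32 yg51 zg13) (kg xg32 yg36 zg53) (kg xg32 yg48 zg54) (kg xg30 yg45 zg7) (kg xg31 yg20 zg22) (kg xg32 yg49 zg50) (kg xg31 yg28 zg61) (kg xg32 yg53 zg11) (kg xg31 yg36 zg35) (kg xg32 yg38 zg52) (kg xg30 yg59 zg16) (kg xg30 yg52 zg31) (kg xg32 yg55 zg36) (kg xg32 yg57 zg21) (kg xg32 yg51 zg60) (kg xg32 yg53 zg50) (kg xg32 yg4 zg27) (kg xg30 yg34 zg33) (kg xg32 yg58 zg31) (kg xg32 yg50 zg26) (kg xg32 yg51 zg39) (kg xg30 yg34 zg50) (kg xg30 yg35 zg19) (kg xg32 yg31 zg45) (kg xg31 yg1 zg22) (kg xg30 yg35 zg29) (kg xg32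 yg26 zg17) (kg xg32 yg49 zg52) (kg xg31 yg30 zg37) (kg xg32 yg38 zg44) (kg xg32 yg52 zg59) (kg xg32 yg25 zg35) (kg xg30 yg49 zg27) (kg xg31 yg0 zg19) (kg xg30 yg36 zg44) (kg xg31 yg8 zg52) (kg xg30 yg52 zg44) (kg xg31 yg55 zg43) (kg xg30 yg57 zg5) (kg xg32 yg52 zg53) (kg xg32 yg31 zg57) (kg xg32 yg37 zg7) (kg xg30 yg38 zg2) (kg xg30 yg39 zg26) (kg xg30 yg49 zg60) (kg xg32 yg40 zg6) (kg xg31 yg22 zg42) (kg xg30 yg38 zg44) (kg xg32 yg58 zg16) (kg xg32 yg56 zg16) (kg xg32 yg53 zg54) (kg xg32 yg48 zg15) (kg xg32 yg42 zg16) (kg xg31 yg4 zg17) (kg xg32 yg42 zg15) (kg xg32 yg30 zg3)) (@D3.rec (fun _ => Pt) (kg xg32 yg5 zg9) (kg xg31 yg11 zg58) (kg xg32 yg56 zg11) (kg xg32 yg59 zg20) (kg xg30 yg40 zg22) (kg xg30 yg40 zg29) (kg xg32 yg38 zg14) (kg xg31 yg54 zg56) (kg xg31 yg54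 zg48) (kg xg31 yg8 zg30) (kg xg31 yg29 zg5) (kg xg32 yg5 zg10) (kg xg31 yg37 zg2) (kg xg32 yg50 zg36) (kg xg31 yg7 zg20) (kg xg32 yg6 zg7) (kg xg32 yg49 zg53) (kg xg32 yg55 zg18) (kg xg32 yg55 zg35) (kg xg32 yg25 zg55) (kg xg32 yg35 zg1) (kg xg32 yg49 zg46) (kg xg32 yg50 zg10) (kg xg31 yg5 zg23) (kg xg32 yg6 zg29) (kg xg30 yg43 zg3) (kg xg30 yg48 zg54) (kg xg31 yg22 zg23) (kg xg32 yg49 zg59) (kg xg31 yg34 zg5) (kg xg32 yg59 zg9) (kg xg32 yg55 zg2) (kg xg31 yg14 zg59) (kg xg30 yg55 zg35) (kg xg32 yg54 zg48) (kg xg32 yg42 zg28) (kg xg32 yg45 zg2) (kg xg30 yg55 zg29) (kg xg32 yg24 zg47) (kg xg32 yg27 zg34) (kg xg30 yg48 zg44) (kg xg30 yg48 zg43) (kg xg32 yg41 zg54) (kg xg32 yg56 zg3) (kg xg30 yg48 zg52) (kg xg30 yg57 zg0) (kg xg30 yg49 zg58) (kg xg30 yg49 zg53) (kg xg32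 yg54 zg50) (kg xg30 yg49 zg56) (kg xg30 yg56 zg60) (kg xg32 yg53 zg9) (kg xg32 yg51 zg53) (kg xg30 yg50 zg2) (kg xg32 yg47 zg0) (kg xg32 yg16 zg32) (kg xg31 yg23 zg9) (kg xg32 yg55 zg22) (kg xg30 yg58 zg41) (kg xg30 yg58 zg44) (kg xg32 yg21 zg8) (kg xg32 yg8 zg12)) (@D3.rec (fun _ => Pt) (kg xg30 yg53 zg3) (kg xg30 yg54 zg10) (kg xg31 yg56 zg13) (kg xg32 yg47 zg1) (kg xg30 yg56 zg6) (kg xg31 yg16 zg29) (kg xg31 yg57 zg24) (kg xg31 yg22 zg6) (kg xg31 yg29 zg56) (kg xg31 yg52 zg28) (kg xg31 yg1 zg2) (kg xg32 yg50 zg21) (kg xg32 yg55 zg16) (kg xg30 yg58 zg2) (kg xg30 yg59 zg43) (kg xg30 yg59 zg48) (kg xg32 yg55 zg12) (kg xg32 yg26 zg18) (kg xg31 yg49 zg29) (kg xg32 yg48 zg57) (kg xg32 yg59 zg16) (kg xg32 yg42 zg24) (kg xg32 yg49 zg33) (kg xg32 yg42 zg27) (kg xg31 yg57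 zg5) (kg xg32 yg27 zg50) (kg xg32 yg27 zg49) (kg xg31 yg3 zg41) (kg xg32 yg53 zg5) (kg xg31 yg3 zg61) (kg xg31 yg4 zg5) (kg xg31 yg29 zg32) (kg xg32 yg22 zg4) (kg xg31 yg4 zg56) (kg xg32 yg55 zg53) (kg xg32 yg53 zg15) (kg xg32 yg53 zg41) (kg xg32 yg55 zg17) (kg xg32 yg38 zg8) (kg xg31 yg12 zg53) (kg xg31 yg14 zg57) (kg xg31 yg56 zg43) (kg xg32 yg4 zg51) (kg xg32 yg54 zg20) (kg xg32 yg4 zg52) (kg xg31 yg49 zg42) (kg xg32 yg4 zg33) (kg xg32 yg58 zg27) (kg xg32 yg58 zg45) (kg xg31 yg9 zg40) (kg xg31 yg49 zg34) (kg xg32 yg51 zg32) (kg xg32 yg49 zg28) (kg xg32 yg53 zg32) (kg xg32 yg56 zg52) (kg xg32 yg28 zg1) (kg xg32 yg46 zg17) (kg xg32 yg57 zg24) (kg xg32 yg43 zg48) (kg xg31 yg11 zg61) (kg xg32 yg50 zg9) (kg xg32 yg52 zg3)) (@D3.rec (fun _ => Pt) (kg xg31 yg20 zg0) (kg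 xg31 yg55 zg18) (kg xg32 yg35 zg2) (kg xg32 yg54 zg42) (kg xg32 yg51 zg51) (kg xg32 yg49 zg56) (kg xg31 yg13 zg56) (kg xg32 yg20 zg35) (kg xg32 yg56 zg8) (kg xg31 yg32 zg59) (kg xg32 yg49 zg37) (kg xg32 yg32 zg5) (kg xg31 yg51 zg25) (kg xg31 yg51 zg51) (kg xg32 yg59 zg13) (kg xg32 yg55 zg61) (kg xg32 yg4 zg18) (kg xg32 yg20 zg42) (kg xg32 yg21 zg34) (kg xg32 yg31 zg19) (kg xg32 yg30 zg35) (kg xg31 yg16 zg56) (kg xg32 yg59 zg39) (kg xg32 yg55 zg37) (kg xg32 yg0 zg52) (kg xg32 yg39 zg2) (kg xg32 yg56 zg14) (kg xg32 yg59 zg45) (kg xg32 yg24 zg60) (kg xg32 yg52 zg4) (kg xg31 yg19 zg33) (kg xg32 yg57 zg10) (kg xg31 yg51 zg31) (kg xg32 yg52 zg50) (kg xg31 yg51 zg38) (kg xg32 yg59 zg54) (kg xg31 yg51 zg28) (kg xg31 yg20 zg2) (kg xg32 yg50 zg59) (kg xg32 yg43 zg36) (kg xg32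 yg51 zg31) (kg xg31 yg52 zg4) (kg xg32 yg59 zg22) (kg xg31 yg33 zg30) (kg xg32 yg33 zg13) (kg xg31 yg51 zg54) (kg xg31 yg23 zg25) (kg xg31 yg55 zg41) (kg xg31 yg24 zg21) (kg xg31 yg26 zg60) (kg xg32 yg45 zg56) (kg xg32 yg59 zg38) (kg xg32 yg56 zg58) (kg xg31 yg53 zg4) (kg xg31 yg25 zg35) (kg xg32 yg57 zg55) (kg xg32 yg26 zg26) (kg xg32 yg10 zg38) (kg xg32 yg58 zg60) (kg xg31 yg26 zg31) (kg xg31 yg26 zg41) (kg xg32 yg12 zg49)) (@D3.rec (fun _ => Pt) (kg xg32 yg42 zg20) (kg xg31 yg45 zg60) (kg xg32 yg23 zg7) (kg xg32 yg47 zg25) (kg xg31 yg27 zg28) (kg xg31 yg58 zg49) (kg xg32 yg26 zg45) (kg xg32 yg26 zg50) (kg xg32 yg15 zg12) (kg xg32 yg32 zg28) (kg xg32 yg57 zg18) (kg xg32 yg27 zg25) (kg xg32 yg2 zg3) (kg xg32 yg56 zg31) (kg xg31 yg31 zg10) (kg xg32 yg33 zg20) (kg xg32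 yg33 zg15) (kg xg31 yg31 zg41) (kg xg32 yg57 zg13) (kg xg32 yg36 zg25) (kg xg31 yg32 zg7) (kg xg31 yg32 zg29) (kg xg31 yg32 zg50) (kg xg32 yg57 zg23) (kg xg32 yg55 zg57) (kg xg32 yg40 zg16) (kg xg32 yg47 zg31) (kg xg32 yg57 zg27) (kg xg31 yg55 zg33) (kg xg32 yg11 zg56) (kg xg32 yg56 zg15) (kg xg31 yg40 zg3) (kg xg32 yg33 zg1) (kg xg32 yg34 zg61) (kg xg32 yg26 zg19) (kg xg32 yg58 zg42) (kg xg32 yg7 zg11) (kg xg32 yg56 zg40) (kg xg32 yg58 zg19) (kg xg32 yg58 zg13) (kg xg31 yg40 zg14) (kg xg31 yg40 zg12) (kg xg32 yg39 zg5) (kg xg32 yg57 zg50) (kg xg31 yg40 zg15) (kg xg32 yg40 zg47) (kg xg31 yg51 zg44) (kg xg32 yg38 zg36) (kg xg32 yg59 zg18) (kg xg31 yg51 zg49) (kg xg32 yg57 zg44) (kg xg31 yg52 zg12) (kg xg32 yg39 zg35) (kg xg32 yg58 zg49) (kg xg32 yg2 zg35) (kg xg32 yg56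 zg55) (kg xg32 yg20 zg44) (kg xg31 yg59 zg3) (kg xg32 yg1 zg38) (kg xg31 yg46 zg17) (kg xg32 yg58 zg44) (kg xg32 yg42 zg22)) (@D3.rec (fun _ => Pt) (kg xg32 yg56 zg53) (kg xg32 yg45 zg45) (kg xg32 yg41 zg32) (kg xg32 yg58 zg30) (kg xg32 yg50 zg4) (kg xg32 yg59 zg12) (kg xg32 yg49 zg10) (kg xg32 yg57 zg38) (kg xg32 yg24 zg42) (kg xg31 yg51 zg42) (kg xg32 yg37 zg60) (kg xg32 yg39 zg21) (kg xg31 yg53 zg14) (kg xg32 yg57 zg47) (kg xg31 yg51 zg40) (kg xg32 yg53 zg49) (kg xg32 yg53 zg2) (kg xg32 yg59 zg6) (kg xg32 yg41 zg35) (kg xg32 yg41 zg36) (kg xg31 yg52 zg7) (kg xg31 yg52 zg14) (kg xg32 yg50 zg14) (kg xg32 yg59 zg58) (kg xg32 yg59 zg3) (kg xg32 yg51 zg46) (kg xg32 yg2 zg14) (kg xg32 yg55 zg47) (kg xg32 yg1 zg40) (kg xg32 yg55 zg46) (kg xg32 yg58 zg4) (kg xg32 yg39 zg12)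 (kg xg32 yg31 zg48) (kg xg31 yg54 zg22) (kg xg32 yg43 zg52) (kg xg32 yg29 zg18) (kg xg32 yg59 zg56) (kg xg32 yg50 zg0) (kg xg32 yg59 zg48) (kg xg32 yg44 zg46) (kg xg32 yg50 zg30) (kg xg32 yg41 zg21) (kg xg32 yg32 zg59) (kg xg32 yg52 zg37) (kg xg32 yg57 zg60) (kg xg32 yg55 zg48) (kg xg32 yg55 zg51) (kg xg32 yg31 zg23) (kg xg32 yg4 zg29) (kg xg32 yg30 zg6) (kg xg32 yg58 zg51) (kg xg32 yg57 zg34) (kg xg32 yg28 zg37) (kg xg32 yg31 zg32) (kg xg32 yg12 zg21) (kg xg32 yg56 zg38) (kg xg32 yg59 zg37) (kg xg32 yg58 zg55) (kg xg32 yg12 zg46) (kg xg32 yg13 zg56) (kg xg32 yg55 zg54) (kg xg32 yg26 zg52)) (@D3.rec (fun _ => Pt) (kg xg32 yg37 zg18) (kg xg32 yg51 zg59) (kg xg32 yg55 zg9) (kg xg32 yg47 zg30) (kg xg32 yg59 zg59) (kg xg32 yg56 zg45) (kg xg32 yg57 zg45) (kg xg32 yg47 zg3)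 (kg xg32 yg48 zg3) (kg xg32 yg31 zg43) (kg xg32 yg59 zg35) (kg xg32 yg25 zg20) (kg xg32 yg52 zg31) (kg xg32 yg51 zg45) (kg xg32 yg43 zg32) (kg xg32 yg25 zg53) (kg xg32 yg58 zg61) (kg xg32 yg27 zg21) (kg xg32 yg43 zg29) (kg xg32 yg38 zg21) (kg xg32 yg59 zg23) (kg xg32 yg46 zg11) (kg xg32 yg59 zg4) (kg xg32 yg34 zg56) (kg xg32 yg37 zg24) (kg xg32 yg35 zg27) (kg xg32 yg37 zg28) (kg xg32 yg37 zg47) (kg xg32 yg59 zg32) (kg xg32 yg41 zg10) (kg xg32 yg58 zg54) (kg xg32 yg42 zg25) (kg xg32 yg59 zg28) (kg xg32 yg52 zg51) (kg xg32 yg41 zg48) (kg xg32 yg56 zg4) (kg xg32 yg51 zg23) (kg xg32 yg58 zg56) (kg xg32 yg56 zg51) (kg xg32 yg56 zg22) (kg xg32 yg46 zg3) (kg xg32 yg59 zg41) (kg xg32 yg59 zg60) (kg xg32 yg51 zg57) (kg xg32 yg51 zg61) (kg xg32 yg56 zg27) (kg xg32 yg46 zg0) (kg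 xg32 yg45 zg61) (kg xg32 yg58 zg37) (kg xg32 yg46 zg8) (kg xg32 yg59 zg61) (kg xg32 yg59 zg57) (kg xg32 yg59 zg52) (kg xg32 yg51 zg50) (kg xg32 yg56 zg0) (kg xg32 yg51 zg25) (kg xg32 yg58 zg39) (kg xg32 yg59 zg51) (kg xg32 yg58 zg23) (kg xg32 yg56 zg42) (kg xg32 yg59 zg42) (kg xg32 yg59 zg50))
def f_g : Pt → Pt := @Pt.rec (fun _ => Pt) (@D1.rec (fun _ => D2 → D3 → Pt) f_g_0 f_g_1 f_g_2 f_g_3 f_g_4 f_g_5 f_g_6 f_g_7 f_g_8 f_g_9 f_g_10 f_g_11 f_g_12 f_g_13 f_g_14 f_g_15 f_g_16 f_g_17 f_g_18 f_g_19 f_g_20 f_g_21 f_g_22 f_g_23 f_g_24 f_g_25 f_g_26 f_g_27 f_g_28 f_g_29 f_g_30 f_g_31 f_g_32)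

end

end Cfsg.Agent.Helper28.S1692
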