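import Cfsg.Agent.Lib.Helper28.S1692.Defs

set_option autoImplicit false
set_option maxRecDepth 100000
set_option linter.all false

namespace Cfsg.Agent.Helper28.S1692

open Cfsg.Agent.Helper28
open Cfsg.Spor.ON (Gen)

noncomputable section

abbrev kgi := Pt.mk
abbrev xgi0 := D1.c0
abbrev xgi1 := D1.c1
abbrev xgi2 := D1.c2
abbrev xgi3 := D1.c3
abbrev xgi4 := D1.c4
abbrev xgi5 := D1.c5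
abbrev xgi6 := D1.c6
abbrev xgi7 := D1.c7
abbrev xgi8 := D1.c8
abbrev xgi9 := D1.c9
abbrev xgi10 := D1.c10
abbrev xgi11 := D1.c11
abbrev xgi12 := D1.c12
abbrev xgi13 := D1.c13
abbrev xgi14 := D1.c14
abbrev xgi15 := D1.c15
abbrev xgi16 := D1.c16
abbrev xgi17 := D1.c17
abbrev xgi18 := D1.c18
abbrev xgi19 := D1.c19
abbrev xgi20 := D1.c20
abbrev xgi21 := D1.c21
abbrev xgi22 := D1.c22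
abbrev xgi23 := D1.c23
abbrev xgi24 := D1.c24
abbrev xgi25 := D1.c25
abbrev xgi26 := D1.c26
abbrev xgi27 := D1.c27
abbrev xgi28 := D1.c28
abbrev xgi29 := D1.c29
abbrev xgi30 := D1.c30
abbrev xgi31 := D1.c31
abbrev xgi32 := D1.c32
abbrev ygi0 := D2.c0
abbrev ygi1 := D2.c1
abbrev ygi2 := D2.c2
abbrev ygi3 := D2.c3
abbrev ygi4 := D2.c4
abbrev ygi5 := D2.c5
abbrev ygi6 := D2.c6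
abbrev ygi7 := D2.c7
abbrev ygi8 := D2.c8
abbrev ygi9 := D2.c9
abbrev ygi10 := D2.c10
abbrev ygi11 := D2.c11
abbrev ygi12 := D2.c12
abbrev ygi13 := D2.c13
abbrev ygi14 := D2.c14
abbrev ygi15 := D2.c15
abbrev ygi16 := D2.c16
abbrev ygi17 := D2.c17
abbrev ygi18 := D2.c18
abbrev ygi19 := D2.c19
abbrev ygi20 := D2.c20
abbrev ygi21 := D2.c21
abbrev ygi22 := D2.c22
abbrev ygi23 := D2.c23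
abbrev ygi24 := D2.c24
abbrev ygi25 := D2.c25
abbrev ygi26 := D2.c26
abbrev ygi27 := D2.c27
abbrev ygi28 := D2.c28
abbrev ygi29 := D2.c29
abbrev ygi30 := D2.c30
abbrev ygi31 := D2.c31
abbrev ygi32 := D2.c32
abbrev ygi33 := D2.c33
abbrev ygi34 := D2.c34
abbrev ygi35 := D2.c35
abbrev ygi36 := D2.c36
abbrev ygi37 := D2.c37
abbrev ygi38 := D2.c38
abbrev ygi39 := D2.c39
abbrev ygi40 := D2.c40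
abbrev ygi41 := D2.c41
abbrev ygi42 := D2.c42
abbrev ygi43 := D2.c43
abbrev ygi44 := D2.c44
abbrev ygi45 := D2.c45
abbrev ygi46 := D2.c46
abbrev ygi47 := D2.c47
abbrev ygi48 := D2.c48
abbrev ygi49 := D2.c49
abbrev ygi50 := D2.c50
abbrev ygi51 := D2.c51
abbrev ygi52 := D2.c52
abbrev ygi53 := D2.c53
abbrev ygi54 := D2.c54
abbrev ygi55 := D2.c55
abbrev ygi56 := D2.c56
abbrev ygi57 := D2.c57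
abbrev ygi58 := D2.c58
abbrev ygi59 := D2.c59
abbrev zgi0 := D3.c0
abbrev zgi1 := D3.c1
abbrev zgi2 := D3.c2
abbrev zgi3 := D3.c3
abbrev zgi4 := D3.c4
abbrev zgi5 := D3.c5
abbrev zgi6 := D3.c6
abbrev zgi7 := D3.c7
abbrev zgi8 := D3.c8
abbrev zgi9 := D3.c9
abbrev zgi10 := D3.c10
abbrev zgi11 := D3.c11
abbrev zgi12 := D3.c12
abbrev zgi13 := D3.c13
abbrev zgi14 := D3.c14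
abbrev zgi15 := D3.c15
abbrev zgi16 := D3.c16
abbrev zgi17 := D3.c17
abbrev zgi18 := D3.c18
abbrev zgi19 := D3.c19
abbrev zgi20 := D3.c20
abbrev zgi21 := D3.c21
abbrev zgi22 := D3.c22
abbrev zgi23 := D3.c23
abbrev zgi24 := D3.c24
abbrev zgi25 := D3.c25
abbrev zgi26 := D3.c26
abbrev zgi27 := D3.c27
abbrev zgi28 := D3.c28
abbrev zgi29 := D3.c29
abbrev zgi30 := D3.c30
abbrev zgi31 := D3.c31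
abbrev zgi32 := D3.c32
abbrev zgi33 := D3.c33
abbrev zgi34 := D3.c34
abbrev zgi35 := D3.c35
abbrev zgi36 := D3.c36
abbrev zgi37 := D3.c37
abbrev zgi38 := D3.c38
abbrev zgi39 := D3.c39
abbrev zgi40 := D3.c40
abbrev zgi41 := D3.c41
abbrev zgi42 := D3.c42
abbrev zgi43 := D3.c43
abbrev zgi44 := D3.c44
abbrev zgi45 := D3.c45
abbrev zgi46 := D3.c46
abbrev zgi47 := D3.c47
abbrev zgi48 := D3.c48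
abbrev zgi49 := D3.c49
abbrev zgi50 := D3.c50
abbrev zgi51 := D3.c51
abbrev zgi52 := D3.c52
abbrev zgi53 := D3.c53
abbrev zgi54 := D3.c54
abbrev zgi55 := D3.c55
abbrev zgi56 := D3.c56
abbrev zgi57 := D3.c57
abbrev zgi58 := D3.c58
abbrev zgi59 := D3.c59
abbrev zgi60 := D3.c60
abbrev zgi61 := D3.c61
def fi_g_0 : D2 → D3 → Pt := @D2.rec (fun _ => D3 → Pt) (@D3.rec (fun _ => Pt) (kgi xgi0 ygi0 zgi1) (kgi xgi0 ygi0 zgi0) (kgi xgi0 ygi0 zgi7) (kgi xgi0 ygi0 zgi12) (kgi xgi0 ygi0 zgi16) (kgi xgi0 ygi0 zgi19) (kgi xgi0 ygi0 zgi2) (kgi xgi0 ygi0 zgi8) (kgi xgi0 ygi0 zgi6) (kgi xgi0 ygi0 zgi28) (kgi xgi0 ygi0 zgi33) (kgi xgi0 ygi0 zgi37) (kgi xgi0 ygi0 zgi3) (kgi xgi0 ygi0 zgi40) (kgi xgi0 ygi0 zgi45) (kgi xgi0 ygi0 zgi48) (kgi xgi0 ygi0 zgi4)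 (kgi xgi0 ygi0 zgi51) (kgi xgi0 ygi0 zgi5) (kgi xgi0 ygi0 zgi21) (kgi xgi0 ygi0 zgi58) (kgi xgi0 ygi0 zgi18) (kgi xgi0 ygi0 zgi29) (kgi xgi0 ygi0 zgi61) (kgi xgi0 ygi0 zgi27) (kgi xgi0 ygi0 zgi32) (kgi xgi0 ygi1 zgi10) (kgi xgi0 ygi0 zgi9) (kgi xgi0 ygi0 zgi24) (kgi xgi0 ygi0 zgi23) (kgi xgi0 ygi1 zgi19) (kgi xgi0 ygi1 zgi23) (kgi xgi0 ygi0 zgi10) (kgi xgi0 ygi0 zgi25) (kgi xgi0 ygi1 zgi31) (kgi xgi0 ygi1 zgi29) (kgi xgi0 ygi0 zgi11) (kgi xgi0 ygi1 zgi12) (kgi xgi0 ygi1 zgi43) (kgi xgi0 ygi1 zgi9) (kgi xgi0 ygi0 zgi42) (kgi xgi0 ygi0 zgi13) (kgi xgi0 ygi0 zgi41) (kgi xgi0 ygi1 zgi49) (kgi xgi0 ygi1 zgi52) (kgi xgi0 ygi0 zgi14) (kgi xgi0 ygi1 zgi55) (kgi xgi0 ygi0 zgi15) (kgi xgi0 ygi0 zgi50) (kgi xgi0 ygi2 zgi1) (kgi xgi0 ygi0 zgi47)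 (kgi xgi0 ygi0 zgi54) (kgi xgi0 ygi0 zgi17) (kgi xgi0 ygi0 zgi56) (kgi xgi0 ygi0 zgi52) (kgi xgi0 ygi0 zgi53) (kgi xgi0 ygi2 zgi5) (kgi xgi0 ygi0 zgi20) (kgi xgi0 ygi0 zgi60) (kgi xgi0 ygi2 zgi14) (kgi xgi0 ygi0 zgi57) (kgi xgi0 ygi0 zgi22)) (@D3.rec (fun _ => Pt) (kgi xgi0 ygi2 zgi23) (kgi xgi0 ygi2 zgi27) (kgi xgi0 ygi1 zgi4) (kgi xgi0 ygi2 zgi26) (kgi xgi0 ygi2 zgi30) (kgi xgi0 ygi1 zgi18) (kgi xgi0 ygi2 zgi39) (kgi xgi0 ygi1 zgi30) (kgi xgi0 ygi1 zgi27) (kgi xgi0 ygi0 zgi26) (kgi xgi0 ygi0 zgi39) (kgi xgi0 ygi2 zgi53) (kgi xgi0 ygi0 zgi36) (kgi xgi0 ygi1 zgi33) (kgi xgi0 ygi2 zgi58) (kgi xgi0 ygi2 zgi43) (kgi xgi0 ygi3 zgi1) (kgi xgi0 ygi1 zgi40) (kgi xgi0 ygi0 zgi30) (kgi xgi0 ygi1 zgi5) (kgi xgi0 ygi3 zgi12) (kgi xgi0 ygi3 zgi17)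 (kgi xgi0 ygi0 zgi31) (kgi xgi0 ygi2 zgi41) (kgi xgi0 ygi3 zgi25) (kgi xgi0 ygi2 zgi38) (kgi xgi0 ygi1 zgi32) (kgi xgi0 ygi1 zgi37) (kgi xgi0 ygi3 zgi28) (kgi xgi0 ygi2 zgi47) (kgi xgi0 ygi0 zgi34) (kgi xgi0 ygi1 zgi7) (kgi xgi0 ygi1 zgi28) (kgi xgi0 ygi1 zgi15) (kgi xgi0 ygi3 zgi35) (kgi xgi0 ygi0 zgi35) (kgi xgi0 ygi1 zgi41) (kgi xgi0 ygi2 zgi45) (kgi xgi0 ygi1 zgi17) (kgi xgi0 ygi1 zgi36) (kgi xgi0 ygi3 zgi45) (kgi xgi0 ygi3 zgi48) (kgi xgi0 ygi0 zgi38) (kgi xgi0 ygi2 zgi55) (kgi xgi0 ygi3 zgi59) (kgi xgi0 ygi2 zgi52) (kgi xgi0 ygi1 zgi48) (kgi xgi0 ygi3 zgi22) (kgi xgi0 ygi0 zgi43) (kgi xgi0 ygi1 zgi46) (kgi xgi0 ygi4 zgi6) (kgi xgi0 ygi0 zgi44) (kgi xgi0 ygi4 zgi4) (kgi xgi0 ygi4 zgi13) (kgi xgi0 ygi1 zgi59) (kgi xgi0 ygi1 zgi58)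 (kgi xgi0 ygi0 zgi46) (kgi xgi0 ygi1 zgi61) (kgi xgi0 ygi1 zgi56) (kgi xgi0 ygi1 zgi47) (kgi xgi0 ygi1 zgi57) (kgi xgi0 ygi4 zgi18)) (@D3.rec (fun _ => Pt) (kgi xgi0 ygi0 zgi49) (kgi xgi0 ygi2 zgi3) (kgi xgi0 ygi2 zgi11) (kgi xgi0 ygi2 zgi0) (kgi xgi0 ygi4 zgi22) (kgi xgi0 ygi0 zgi55) (kgi xgi0 ygi4 zgi17) (kgi xgi0 ygi4 zgi39) (kgi xgi0 ygi4 zgi34) (kgi xgi0 ygi2 zgi18) (kgi xgi0 ygi2 zgi2) (kgi xgi0 ygi4 zgi28) (kgi xgi0 ygi4 zgi50) (kgi xgi0 ygi0 zgi59) (kgi xgi0 ygi2 zgi17) (kgi xgi0 ygi4 zgi57) (kgi xgi0 ygi5 zgi0) (kgi xgi0 ygi2 zgi13) (kgi xgi0 ygi4 zgi44) (kgi xgi0 ygi1 zgi2) (kgi xgi0 ygi3 zgi0) (kgi xgi0 ygi2 zgi50) (kgi xgi0 ygi1 zgi0) (kgi xgi0 ygi2 zgi24) (kgi xgi0 ygi2 zgi22) (kgi xgi0 ygi5 zgi16) (kgi xgi0 ygi1 zgi1)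 (kgi xgi0 ygi1 zgi3) (kgi xgi0 ygi3 zgi37) (kgi xgi0 ygi5 zgi27) (kgi xgi0 ygi2 zgi19) (kgi xgi0 ygi5 zgi30) (kgi xgi0 ygi3 zgi14) (kgi xgi0 ygi5 zgi36) (kgi xgi0 ygi5 zgi39) (kgi xgi0 ygi5 zgi43) (kgi xgi0 ygi3 zgi11) (kgi xgi0 ygi5 zgi49) (kgi xgi0 ygi1 zgi6) (kgi xgi0 ygi1 zgi25) (kgi xgi0 ygi5 zgi56) (kgi xgi0 ygi1 zgi22) (kgi xgi0 ygi5 zgi59) (kgi xgi0 ygi1 zgi13) (kgi xgi0 ygi3 zgi33) (kgi xgi0 ygi1 zgi8) (kgi xgi0 ygi2 zgi51) (kgi xgi0 ygi1 zgi35) (kgi xgi0 ygi2 zgi21) (kgi xgi0 ygi2 zgi46) (kgi xgi0 ygi3 zgi5) (kgi xgi0 ygi3 zgi44) (kgi xgi0 ygi1 zgi11) (kgi xgi0 ygi1 zgi45) (kgi xgi0 ygi6 zgi17) (kgi xgi0 ygi1 zgi42) (kgi xgi0 ygi5 zgi20) (kgi xgi0 ygi6 zgi25) (kgi xgi0 ygi1 zgi14) (kgi xgi0 ygi6 zgi29) (kgi xgi0 ygi5 zgi22)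 (kgi xgi0 ygi6 zgi34)) (@D3.rec (fun _ => Pt) (kgi xgi0 ygi1 zgi16) (kgi xgi0 ygi2 zgi20) (kgi xgi0 ygi3 zgi6) (kgi xgi0 ygi6 zgi42) (kgi xgi0 ygi6 zgi46) (kgi xgi0 ygi2 zgi48) (kgi xgi0 ygi5 zgi7) (kgi xgi0 ygi6 zgi52) (kgi xgi0 ygi6 zgi27) (kgi xgi0 ygi3 zgi2) (kgi xgi0 ygi6 zgi59) (kgi xgi0 ygi1 zgi20) (kgi xgi0 ygi2 zgi36) (kgi xgi0 ygi7 zgi5) (kgi xgi0 ygi2 zgi28) (kgi xgi0 ygi7 zgi11) (kgi xgi0 ygi1 zgi21) (kgi xgi0 ygi5 zgi51) (kgi xgi0 ygi7 zgi22) (kgi xgi0 ygi5 zgi48) (kgi xgi0 ygi3 zgi40) (kgi xgi0 ygi7 zgi28) (kgi xgi0 ygi1 zgi54) (kgi xgi0 ygi7 zgi25) (kgi xgi0 ygi1 zgi24) (kgi xgi0 ygi5 zgi58) (kgi xgi0 ygi7 zgi38) (kgi xgi0 ygi5 zgi55) (kgi xgi0 ygi1 zgi26) (kgi xgi0 ygi7 zgi45) (kgi xgi0 ygi7 zgi48) (kgi xgi0 ygi2 zgi42)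 (kgi xgi0 ygi7 zgi50) (kgi xgi0 ygi3 zgi41) (kgi xgi0 ygi7 zgi52) (kgi xgi0 ygi6 zgi3) (kgi xgi0 ygi3 zgi32) (kgi xgi0 ygi2 zgi32) (kgi xgi0 ygi7 zgi58) (kgi xgi0 ygi1 zgi34) (kgi xgi0 ygi3 zgi23) (kgi xgi0 ygi6 zgi1) (kgi xgi0 ygi3 zgi36) (kgi xgi0 ygi8 zgi4) (kgi xgi0 ygi2 zgi49) (kgi xgi0 ygi1 zgi38) (kgi xgi0 ygi5 zgi13) (kgi xgi0 ygi7 zgi54) (kgi xgi0 ygi1 zgi39) (kgi xgi0 ygi8 zgi20) (kgi xgi0 ygi8 zgi25) (kgi xgi0 ygi5 zgi45) (kgi xgi0 ygi8 zgi14) (kgi xgi0 ygi8 zgi19) (kgi xgi0 ygi6 zgi21) (kgi xgi0 ygi4 zgi14) (kgi xgi0 ygi8 zgi34) (kgi xgi0 ygi8 zgi41) (kgi xgi0 ygi1 zgi44) (kgi xgi0 ygi6 zgi20) (kgi xgi0 ygi8 zgi49) (kgi xgi0 ygi8 zgi54)) (@D3.rec (fun _ => Pt) (kgi xgi0 ygi6 zgi16) (kgi xgi0 ygi8 zgi33) (kgi xgi0 ygi4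 zgi5) (kgi xgi0 ygi8 zgi45) (kgi xgi0 ygi1 zgi51) (kgi xgi0 ygi4 zgi9) (kgi xgi0 ygi8 zgi60) (kgi xgi0 ygi1 zgi50) (kgi xgi0 ygi4 zgi11) (kgi xgi0 ygi4 zgi16) (kgi xgi0 ygi4 zgi8) (kgi xgi0 ygi9 zgi2) (kgi xgi0 ygi1 zgi53) (kgi xgi0 ygi9 zgi0) (kgi xgi0 ygi3 zgi56) (kgi xgi0 ygi4 zgi24) (kgi xgi0 ygi4 zgi2) (kgi xgi0 ygi2 zgi8) (kgi xgi0 ygi1 zgi60) (kgi xgi0 ygi8 zgi59) (kgi xgi0 ygi2 zgi4) (kgi xgi0 ygi9 zgi19) (kgi xgi0 ygi4 zgi32) (kgi xgi0 ygi4 zgi29) (kgi xgi0 ygi4 zgi3) (kgi xgi0 ygi9 zgi24) (kgi xgi0 ygi9 zgi26) (kgi xgi0 ygi4 zgi42) (kgi xgi0 ygi2 zgi10) (kgi xgi0 ygi9 zgi23) (kgi xgi0 ygi9 zgi33) (kgi xgi0 ygi4 zgi52) (kgi xgi0 ygi4 zgi20) (kgi xgi0 ygi2 zgi9) (kgi xgi0 ygi2 zgi6) (kgi xgi0 ygi9 zgi44) (kgi xgi0 ygi4 zgi27)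 (kgi xgi0 ygi9 zgi50) (kgi xgi0 ygi2 zgi7) (kgi xgi0 ygi4 zgi40) (kgi xgi0 ygi4 zgi38) (kgi xgi0 ygi9 zgi57) (kgi xgi0 ygi5 zgi1) (kgi xgi0 ygi9 zgi31) (kgi xgi0 ygi4 zgi33) (kgi xgi0 ygi10 zgi3) (kgi xgi0 ygi9 zgi37) (kgi xgi0 ygi10 zgi8) (kgi xgi0 ygi9 zgi13) (kgi xgi0 ygi10 zgi13) (kgi xgi0 ygi2 zgi12) (kgi xgi0 ygi10 zgi16) (kgi xgi0 ygi9 zgi39) (kgi xgi0 ygi10 zgi21) (kgi xgi0 ygi4 zgi31) (kgi xgi0 ygi10 zgi14) (kgi xgi0 ygi2 zgi15) (kgi xgi0 ygi10 zgi27) (kgi xgi0 ygi10 zgi32) (kgi xgi0 ygi10 zgi39) (kgi xgi0 ygi10 zgi28) (kgi xgi0 ygi2 zgi16)) (@D3.rec (fun _ => Pt) (kgi xgi0 ygi5 zgi3) (kgi xgi0 ygi4 zgi36) (kgi xgi0 ygi10 zgi51) (kgi xgi0 ygi4 zgi61) (kgi xgi0 ygi10 zgi54) (kgi xgi0 ygi5 zgi38) (kgi xgi0 ygi3 zgi51) (kgi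 xgi0 ygi3 zgi9) (kgi xgi0 ygi11 zgi1) (kgi xgi0 ygi8 zgi2) (kgi xgi0 ygi6 zgi36) (kgi xgi0 ygi6 zgi9) (kgi xgi0 ygi11 zgi5) (kgi xgi0 ygi11 zgi10) (kgi xgi0 ygi5 zgi15) (kgi xgi0 ygi2 zgi25) (kgi xgi0 ygi5 zgi14) (kgi xgi0 ygi11 zgi19) (kgi xgi0 ygi11 zgi24) (kgi xgi0 ygi2 zgi31) (kgi xgi0 ygi2 zgi60) (kgi xgi0 ygi11 zgi30) (kgi xgi0 ygi2 zgi56) (kgi xgi0 ygi11 zgi36) (kgi xgi0 ygi11 zgi40) (kgi xgi0 ygi11 zgi44) (kgi xgi0 ygi2 zgi29) (kgi xgi0 ygi5 zgi37) (kgi xgi0 ygi5 zgi35) (kgi xgi0 ygi5 zgi19) (kgi xgi0 ygi5 zgi29) (kgi xgi0 ygi6 zgi56) (kgi xgi0 ygi11 zgi60) (kgi xgi0 ygi12 zgi1) (kgi xgi0 ygi12 zgi5) (kgi xgi0 ygi2 zgi33) (kgi xgi0 ygi5 zgi28) (kgi xgi0 ygi5 zgi26) (kgi xgi0 ygi2 zgi34) (kgi xgi0 ygi5 zgi5) (kgi xgi0 ygi12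 zgi20) (kgi xgi0 ygi12 zgi25) (kgi xgi0 ygi2 zgi35) (kgi xgi0 ygi8 zgi9) (kgi xgi0 ygi12 zgi31) (kgi xgi0 ygi10 zgi58) (kgi xgi0 ygi12 zgi35) (kgi xgi0 ygi12 zgi39) (kgi xgi0 ygi2 zgi37) (kgi xgi0 ygi3 zgi19) (kgi xgi0 ygi12 zgi50) (kgi xgi0 ygi3 zgi16) (kgi xgi0 ygi6 zgi28) (kgi xgi0 ygi6 zgi2) (kgi xgi0 ygi8 zgi0) (kgi xgi0 ygi2 zgi40) (kgi xgi0 ygi3 zgi27) (kgi xgi0 ygi13 zgi1) (kgi xgi0 ygi3 zgi24) (kgi xgi0 ygi5 zgi60) (kgi xgi0 ygi3 zgi31) (kgi xgi0 ygi13 zgi6)) (@D3.rec (fun _ => Pt) (kgi xgi0 ygi13 zgi12) (kgi xgi0 ygi2 zgi44) (kgi xgi0 ygi5 zgi54) (kgi xgi0 ygi3 zgi39) (kgi xgi0 ygi7 zgi43) (kgi xgi0 ygi9 zgi5) (kgi xgi0 ygi13 zgi20) (kgi xgi0 ygi13 zgi24) (kgi xgi0 ygi13 zgi28) (kgi xgi0 ygi11 zgi12) (kgi xgi0 ygi13 zgi19)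 (kgi xgi0 ygi13 zgi23) (kgi xgi0 ygi4 zgi1) (kgi xgi0 ygi8 zgi61) (kgi xgi0 ygi9 zgi10) (kgi xgi0 ygi8 zgi40) (kgi xgi0 ygi2 zgi54) (kgi xgi0 ygi4 zgi0) (kgi xgi0 ygi13 zgi47) (kgi xgi0 ygi13 zgi52) (kgi xgi0 ygi3 zgi58) (kgi xgi0 ygi13 zgi36) (kgi xgi0 ygi13 zgi57) (kgi xgi0 ygi12 zgi12) (kgi xgi0 ygi2 zgi57) (kgi xgi0 ygi6 zgi35) (kgi xgi0 ygi6 zgi33) (kgi xgi0 ygi3 zgi8) (kgi xgi0 ygi3 zgi21) (kgi xgi0 ygi2 zgi59) (kgi xgi0 ygi14 zgi9) (kgi xgi0 ygi12 zgi17) (kgi xgi0 ygi11 zgi51) (kgi xgi0 ygi2 zgi61) (kgi xgi0 ygi6 zgi26) (kgi xgi0 ygi6 zgi24) (kgi xgi0 ygi5 zgi12) (kgi xgi0 ygi14 zgi20) (kgi xgi0 ygi14 zgi24) (kgi xgi0 ygi14 zgi28) (kgi xgi0 ygi12 zgi46) (kgi xgi0 ygi3 zgi3) (kgi xgi0 ygi11 zgi3) (kgi xgi0 ygi14 zgi40) (kgi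 xgi0 ygi11 zgi0) (kgi xgi0 ygi3 zgi4) (kgi xgi0 ygi8 zgi10) (kgi xgi0 ygi12 zgi60) (kgi xgi0 ygi7 zgi51) (kgi xgi0 ygi14 zgi51) (kgi xgi0 ygi14 zgi55) (kgi xgi0 ygi3 zgi7) (kgi xgi0 ygi6 zgi61) (kgi xgi0 ygi15 zgi3) (kgi xgi0 ygi6 zgi58) (kgi xgi0 ygi15 zgi7) (kgi xgi0 ygi11 zgi54) (kgi xgi0 ygi15 zgi12) (kgi xgi0 ygi3 zgi10) (kgi xgi0 ygi6 zgi54) (kgi xgi0 ygi15 zgi22) (kgi xgi0 ygi6 zgi51)) (@D3.rec (fun _ => Pt) (kgi xgi0 ygi15 zgi26) (kgi xgi0 ygi14 zgi61) (kgi xgi0 ygi15 zgi31) (kgi xgi0 ygi15 zgi18) (kgi xgi0 ygi3 zgi13) (kgi xgi0 ygi7 zgi6) (kgi xgi0 ygi7 zgi4) (kgi xgi0 ygi15 zgi45) (kgi xgi0 ygi15 zgi49) (kgi xgi0 ygi15 zgi53) (kgi xgi0 ygi3 zgi15) (kgi xgi0 ygi12 zgi41) (kgi xgi0 ygi16 zgi1) (kgi xgi0 ygi12 zgi38) (kgi xgi0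 ygi10 zgi61) (kgi xgi0 ygi16 zgi8) (kgi xgi0 ygi16 zgi11) (kgi xgi0 ygi16 zgi14) (kgi xgi0 ygi14 zgi32) (kgi xgi0 ygi16 zgi7) (kgi xgi0 ygi14 zgi16) (kgi xgi0 ygi3 zgi18) (kgi xgi0 ygi12 zgi52) (kgi xgi0 ygi16 zgi31) (kgi xgi0 ygi12 zgi49) (kgi xgi0 ygi3 zgi20) (kgi xgi0 ygi16 zgi40) (kgi xgi0 ygi16 zgi45) (kgi xgi0 ygi5 zgi52) (kgi xgi0 ygi16 zgi49) (kgi xgi0 ygi9 zgi1) (kgi xgi0 ygi16 zgi39) (kgi xgi0 ygi16 zgi55) (kgi xgi0 ygi11 zgi4) (kgi xgi0 ygi16 zgi47) (kgi xgi0 ygi14 zgi48) (kgi xgi0 ygi17 zgi3) (kgi xgi0 ygi3 zgi26) (kgi xgi0 ygi13 zgi4) (kgi xgi0 ygi17 zgi12) (kgi xgi0 ygi17 zgi17) (kgi xgi0 ygi13 zgi0) (kgi xgi0 ygi17 zgi21) (kgi xgi0 ygi3 zgi30) (kgi xgi0 ygi3 zgi29) (kgi xgi0 ygi7 zgi46) (kgi xgi0 ygi7 zgi44) (kgi xgi0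 ygi17 zgi25) (kgi xgi0 ygi6 zgi4) (kgi xgi0 ygi13 zgi10) (kgi xgi0 ygi3 zgi42) (kgi xgi0 ygi5 zgi9) (kgi xgi0 ygi3 zgi34) (kgi xgi0 ygi17 zgi28) (kgi xgi0 ygi3 zgi52) (kgi xgi0 ygi17 zgi31) (kgi xgi0 ygi17 zgi35) (kgi xgi0 ygi3 zgi38) (kgi xgi0 ygi13 zgi14) (kgi xgi0 ygi17 zgi46) (kgi xgi0 ygi13 zgi11) (kgi xgi0 ygi8 zgi28)) (@D3.rec (fun _ => Pt) (kgi xgi0 ygi5 zgi53) (kgi xgi0 ygi17 zgi23) (kgi xgi0 ygi6 zgi48) (kgi xgi0 ygi3 zgi43) (kgi xgi0 ygi8 zgi17) (kgi xgi0 ygi18 zgi0) (kgi xgi0 ygi13 zgi43) (kgi xgi0 ygi9 zgi3) (kgi xgi0 ygi3 zgi54) (kgi xgi0 ygi5 zgi42) (kgi xgi0 ygi6 zgi45) (kgi xgi0 ygi3 zgi46) (kgi xgi0 ygi5 zgi11) (kgi xgi0 ygi18 zgi14) (kgi xgi0 ygi3 zgi47) (kgi xgi0 ygi7 zgi61) (kgi xgi0 ygi18 zgi23) (kgi xgi0 ygi8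 zgi3) (kgi xgi0 ygi6 zgi12) (kgi xgi0 ygi3 zgi49) (kgi xgi0 ygi3 zgi53) (kgi xgi0 ygi18 zgi34) (kgi xgi0 ygi9 zgi9) (kgi xgi0 ygi18 zgi41) (kgi xgi0 ygi3 zgi50) (kgi xgi0 ygi13 zgi29) (kgi xgi0 ygi9 zgi53) (kgi xgi0 ygi16 zgi36) (kgi xgi0 ygi16 zgi37) (kgi xgi0 ygi18 zgi52) (kgi xgi0 ygi18 zgi55) (kgi xgi0 ygi18 zgi38) (kgi xgi0 ygi18 zgi61) (kgi xgi0 ygi8 zgi18) (kgi xgi0 ygi3 zgi55) (kgi xgi0 ygi19 zgi4) (kgi xgi0 ygi19 zgi8) (kgi xgi0 ygi19 zgi11) (kgi xgi0 ygi19 zgi7) (kgi xgi0 ygi19 zgi16) (kgi xgi0 ygi3 zgi57) (kgi xgi0 ygi6 zgi15) (kgi xgi0 ygi19 zgi20) (kgi xgi0 ygi18 zgi6) (kgi xgi0 ygi19 zgi25) (kgi xgi0 ygi4 zgi15) (kgi xgi0 ygi13 zgi18) (kgi xgi0 ygi19 zgi18) (kgi xgi0 ygi3 zgi60) (kgi xgi0 ygi19 zgi32) (kgi xgi0 ygi19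 zgi37) (kgi xgi0 ygi19 zgi44) (kgi xgi0 ygi19 zgi33) (kgi xgi0 ygi3 zgi61) (kgi xgi0 ygi13 zgi55) (kgi xgi0 ygi17 zgi16) (kgi xgi0 ygi19 zgi56) (kgi xgi0 ygi13 zgi51) (kgi xgi0 ygi19 zgi60) (kgi xgi0 ygi7 zgi30) (kgi xgi0 ygi4 zgi7) (kgi xgi0 ygi6 zgi14)) (@D3.rec (fun _ => Pt) (kgi xgi0 ygi4 zgi12) (kgi xgi0 ygi4 zgi19) (kgi xgi0 ygi4 zgi10) (kgi xgi0 ygi6 zgi5) (kgi xgi0 ygi20 zgi8) (kgi xgi0 ygi8 zgi7) (kgi xgi0 ygi20 zgi2) (kgi xgi0 ygi20 zgi13) (kgi xgi0 ygi20 zgi15) (kgi xgi0 ygi8 zgi31) (kgi xgi0 ygi6 zgi13) (kgi xgi0 ygi20 zgi11) (kgi xgi0 ygi20 zgi24) (kgi xgi0 ygi4 zgi46) (kgi xgi0 ygi4 zgi23) (kgi xgi0 ygi20 zgi29) (kgi xgi0 ygi20 zgi32) (kgi xgi0 ygi9 zgi55) (kgi xgi0 ygi4 zgi21) (kgi xgi0 ygi9 zgi20) (kgi xgi0 ygi9 zgi18)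 (kgi xgi0 ygi20 zgi38) (kgi xgi0 ygi5 zgi4) (kgi xgi0 ygi9 zgi14) (kgi xgi0 ygi4 zgi25) (kgi xgi0 ygi4 zgi26) (kgi xgi0 ygi20 zgi42) (kgi xgi0 ygi20 zgi47) (kgi xgi0 ygi20 zgi54) (kgi xgi0 ygi20 zgi43) (kgi xgi0 ygi20 zgi59) (kgi xgi0 ygi10 zgi1) (kgi xgi0 ygi4 zgi30) (kgi xgi0 ygi21 zgi0) (kgi xgi0 ygi21 zgi5) (kgi xgi0 ygi21 zgi11) (kgi xgi0 ygi21 zgi1) (kgi xgi0 ygi4 zgi48) (kgi xgi0 ygi21 zgi19) (kgi xgi0 ygi4 zgi54) (kgi xgi0 ygi9 zgi22) (kgi xgi0 ygi21 zgi24) (kgi xgi0 ygi4 zgi43) (kgi xgi0 ygi4 zgi35) (kgi xgi0 ygi9 zgi58) (kgi xgi0 ygi9 zgi56) (kgi xgi0 ygi21 zgi39) (kgi xgi0 ygi21 zgi43) (kgi xgi0 ygi21 zgi47) (kgi xgi0 ygi4 zgi37) (kgi xgi0 ygi9 zgi52) (kgi xgi0 ygi20 zgi61) (kgi xgi0 ygi9 zgi49) (kgi xgi0 ygi6 zgi8) (kgi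 xgi0 ygi9 zgi17) (kgi xgi0 ygi20 zgi36) (kgi xgi0 ygi4 zgi41) (kgi xgi0 ygi9 zgi45) (kgi xgi0 ygi9 zgi43) (kgi xgi0 ygi22 zgi7) (kgi xgi0 ygi22 zgi10) (kgi xgi0 ygi22 zgi14)) (@D3.rec (fun _ => Pt) (kgi xgi0 ygi10 zgi26) (kgi xgi0 ygi9 zgi42) (kgi xgi0 ygi4 zgi45) (kgi xgi0 ygi10 zgi9) (kgi xgi0 ygi10 zgi7) (kgi xgi0 ygi22 zgi2) (kgi xgi0 ygi22 zgi27) (kgi xgi0 ygi4 zgi47) (kgi xgi0 ygi10 zgi4) (kgi xgi0 ygi10 zgi2) (kgi xgi0 ygi21 zgi35) (kgi xgi0 ygi22 zgi38) (kgi xgi0 ygi22 zgi40) (kgi xgi0 ygi4 zgi49) (kgi xgi0 ygi4 zgi55) (kgi xgi0 ygi4 zgi51) (kgi xgi0 ygi10 zgi22) (kgi xgi0 ygi10 zgi20) (kgi xgi0 ygi22 zgi50) (kgi xgi0 ygi22 zgi54) (kgi xgi0 ygi4 zgi53) (kgi xgi0 ygi10 zgi17) (kgi xgi0 ygi10 zgi15) (kgi xgi0 ygi23 zgi4) (kgi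 xgi0 ygi23 zgi8) (kgi xgi0 ygi23 zgi12) (kgi xgi0 ygi22 zgi18) (kgi xgi0 ygi4 zgi56) (kgi xgi0 ygi4 zgi58) (kgi xgi0 ygi23 zgi17) (kgi xgi0 ygi23 zgi23) (kgi xgi0 ygi21 zgi14) (kgi xgi0 ygi4 zgi60) (kgi xgi0 ygi22 zgi32) (kgi xgi0 ygi23 zgi22) (kgi xgi0 ygi21 zgi9) (kgi xgi0 ygi23 zgi38) (kgi xgi0 ygi23 zgi40) (kgi xgi0 ygi4 zgi59) (kgi xgi0 ygi23 zgi13) (kgi xgi0 ygi23 zgi50) (kgi xgi0 ygi23 zgi56) (kgi xgi0 ygi23 zgi39) (kgi xgi0 ygi23 zgi60) (kgi xgi0 ygi22 zgi47) (kgi xgi0 ygi24 zgi4) (kgi xgi0 ygi22 zgi60) (kgi xgi0 ygi24 zgi9) (kgi xgi0 ygi24 zgi13) (kgi xgi0 ygi24 zgi17) (kgi xgi0 ygi5 zgi2) (kgi xgi0 ygi10 zgi52) (kgi xgi0 ygi10 zgi50) (kgi xgi0 ygi24 zgi25) (kgi xgi0 ygi9 zgi40) (kgi xgi0 ygi24 zgi30) (kgi xgi0 ygi12 zgi19)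 (kgi xgi0 ygi14 zgi36) (kgi xgi0 ygi5 zgi6) (kgi xgi0 ygi14 zgi44) (kgi xgi0 ygi24 zgi41) (kgi xgi0 ygi7 zgi18)) (@D3.rec (fun _ => Pt) (kgi xgi0 ygi5 zgi8) (kgi xgi0 ygi6 zgi44) (kgi xgi0 ygi24 zgi52) (kgi xgi0 ygi6 zgi41) (kgi xgi0 ygi7 zgi35) (kgi xgi0 ygi5 zgi10) (kgi xgi0 ygi24 zgi48) (kgi xgi0 ygi17 zgi55) (kgi xgi0 ygi12 zgi15) (kgi xgi0 ygi25 zgi2) (kgi xgi0 ygi8 zgi11) (kgi xgi0 ygi25 zgi6) (kgi xgi0 ygi8 zgi12) (kgi xgi0 ygi11 zgi18) (kgi xgi0 ygi25 zgi13) (kgi xgi0 ygi25 zgi16) (kgi xgi0 ygi5 zgi31) (kgi xgi0 ygi25 zgi21) (kgi xgi0 ygi5 zgi17) (kgi xgi0 ygi11 zgi13) (kgi xgi0 ygi7 zgi2) (kgi xgi0 ygi12 zgi22) (kgi xgi0 ygi25 zgi30) (kgi xgi0 ygi5 zgi18) (kgi xgi0 ygi25 zgi14) (kgi xgi0 ygi25 zgi12) (kgi xgi0 ygi25 zgi40)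 (kgi xgi0 ygi25 zgi44) (kgi xgi0 ygi17 zgi42) (kgi xgi0 ygi5 zgi21) (kgi xgi0 ygi11 zgi38) (kgi xgi0 ygi25 zgi55) (kgi xgi0 ygi11 zgi35) (kgi xgi0 ygi25 zgi59) (kgi xgi0 ygi26 zgi1) (kgi xgi0 ygi5 zgi23) (kgi xgi0 ygi11 zgi32) (kgi xgi0 ygi26 zgi9) (kgi xgi0 ygi11 zgi29) (kgi xgi0 ygi5 zgi24) (kgi xgi0 ygi11 zgi41) (kgi xgi0 ygi11 zgi39) (kgi xgi0 ygi26 zgi19) (kgi xgi0 ygi5 zgi25) (kgi xgi0 ygi12 zgi7) (kgi xgi0 ygi26 zgi29) (kgi xgi0 ygi12 zgi4) (kgi xgi0 ygi5 zgi32) (kgi xgi0 ygi6 zgi32) (kgi xgi0 ygi24 zgi50) (kgi xgi0 ygi26 zgi41) (kgi xgi0 ygi13 zgi61) (kgi xgi0 ygi26 zgi38) (kgi xgi0 ygi25 zgi51) (kgi xgi0 ygi11 zgi16) (kgi xgi0 ygi12 zgi11) (kgi xgi0 ygi26 zgi53) (kgi xgi0 ygi26 zgi57) (kgi xgi0 ygi6 zgi22) (kgi xgi0 ygi16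 zgi17) (kgi xgi0 ygi26 zgi32) (kgi xgi0 ygi14 zgi0)) (@D3.rec (fun _ => Pt) (kgi xgi0 ygi5 zgi33) (kgi xgi0 ygi12 zgi2) (kgi xgi0 ygi12 zgi0) (kgi xgi0 ygi27 zgi10) (kgi xgi0 ygi5 zgi34) (kgi xgi0 ygi11 zgi46) (kgi xgi0 ygi27 zgi20) (kgi xgi0 ygi11 zgi43) (kgi xgi0 ygi6 zgi23) (kgi xgi0 ygi14 zgi38) (kgi xgi0 ygi27 zgi29) (kgi xgi0 ygi11 zgi61) (kgi xgi0 ygi14 zgi13) (kgi xgi0 ygi27 zgi26) (kgi xgi0 ygi26 zgi5) (kgi xgi0 ygi6 zgi31) (kgi xgi0 ygi15 zgi17) (kgi xgi0 ygi11 zgi8) (kgi xgi0 ygi27 zgi48) (kgi xgi0 ygi5 zgi40) (kgi xgi0 ygi10 zgi56) (kgi xgi0 ygi26 zgi14) (kgi xgi0 ygi25 zgi10) (kgi xgi0 ygi28 zgi0) (kgi xgi0 ygi5 zgi41) (kgi xgi0 ygi24 zgi36) (kgi xgi0 ygi28 zgi10) (kgi xgi0 ygi24 zgi34) (kgi xgi0 ygi13 zgi9) (kgi xgi0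 ygi18 zgi17) (kgi xgi0 ygi5 zgi44) (kgi xgi0 ygi18 zgi8) (kgi xgi0 ygi28 zgi22) (kgi xgi0 ygi24 zgi38) (kgi xgi0 ygi5 zgi46) (kgi xgi0 ygi12 zgi36) (kgi xgi0 ygi12 zgi34) (kgi xgi0 ygi28 zgi32) (kgi xgi0 ygi5 zgi47) (kgi xgi0 ygi7 zgi13) (kgi xgi0 ygi28 zgi42) (kgi xgi0 ygi7 zgi10) (kgi xgi0 ygi14 zgi5) (kgi xgi0 ygi6 zgi40) (kgi xgi0 ygi28 zgi50) (kgi xgi0 ygi28 zgi53) (kgi xgi0 ygi24 zgi45) (kgi xgi0 ygi28 zgi49) (kgi xgi0 ygi14 zgi3) (kgi xgi0 ygi5 zgi50) (kgi xgi0 ygi7 zgi24) (kgi xgi0 ygi29 zgi5) (kgi xgi0 ygi7 zgi21) (kgi xgi0 ygi16 zgi48) (kgi xgi0 ygi17 zgi29) (kgi xgi0 ygi29 zgi16) (kgi xgi0 ygi18 zgi18) (kgi xgi0 ygi29 zgi22) (kgi xgi0 ygi14 zgi6) (kgi xgi0 ygi6 zgi47) (kgi xgi0 ygi18 zgi9) (kgi xgi0 ygi29 zgi31)) (@D3.rec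 (fun _ => Pt) (kgi xgi0 ygi5 zgi57) (kgi xgi0 ygi7 zgi41) (kgi xgi0 ygi29 zgi40) (kgi xgi0 ygi29 zgi45) (kgi xgi0 ygi7 zgi37) (kgi xgi0 ygi29 zgi49) (kgi xgi0 ygi17 zgi26) (kgi xgi0 ygi7 zgi49) (kgi xgi0 ygi5 zgi61) (kgi xgi0 ygi12 zgi29) (kgi xgi0 ygi28 zgi19) (kgi xgi0 ygi6 zgi0) (kgi xgi0 ygi7 zgi60) (kgi xgi0 ygi16 zgi12) (kgi xgi0 ygi7 zgi57) (kgi xgi0 ygi17 zgi27) (kgi xgi0 ygi13 zgi31) (kgi xgi0 ygi29 zgi60) (kgi xgi0 ygi8 zgi43) (kgi xgi0 ygi6 zgi6) (kgi xgi0 ygi6 zgi10) (kgi xgi0 ygi13 zgi16) (kgi xgi0 ygi30 zgi7) (kgi xgi0 ygi6 zgi7) (kgi xgi0 ygi6 zgi11) (kgi xgi0 ygi30 zgi11) (kgi xgi0 ygi20 zgi1) (kgi xgi0 ygi30 zgi17) (kgi xgi0 ygi8 zgi26) (kgi xgi0 ygi8 zgi24) (kgi xgi0 ygi30 zgi22) (kgi xgi0 ygi17 zgi51) (kgi xgi0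 ygi30 zgi28) (kgi xgi0 ygi30 zgi31) (kgi xgi0 ygi20 zgi21) (kgi xgi0 ygi20 zgi22) (kgi xgi0 ygi8 zgi8) (kgi xgi0 ygi30 zgi39) (kgi xgi0 ygi18 zgi29) (kgi xgi0 ygi30 zgi44) (kgi xgi0 ygi18 zgi32) (kgi xgi0 ygi19 zgi15) (kgi xgi0 ygi30 zgi51) (kgi xgi0 ygi18 zgi26) (kgi xgi0 ygi8 zgi6) (kgi xgi0 ygi19 zgi17) (kgi xgi0 ygi6 zgi18) (kgi xgi0 ygi30 zgi57) (kgi xgi0 ygi31 zgi0) (kgi xgi0 ygi31 zgi7) (kgi xgi0 ygi30 zgi58) (kgi xgi0 ygi6 zgi19) (kgi xgi0 ygi8 zgi57) (kgi xgi0 ygi29 zgi44) (kgi xgi0 ygi31 zgi19) (kgi xgi0 ygi8 zgi53) (kgi xgi0 ygi31 zgi22) (kgi xgi0 ygi13 zgi58) (kgi xgi0 ygi11 zgi58) (kgi xgi0 ygi31 zgi28) (kgi xgi0 ygi31 zgi32) (kgi xgi0 ygi11 zgi48)) (@D3.rec (fun _ => Pt) (kgi xgi0 ygi11 zgi55) (kgi xgi0 ygi12 zgi48)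 (kgi xgi0 ygi31 zgi39) (kgi xgi0 ygi16 zgi22) (kgi xgi0 ygi16 zgi28) (kgi xgi0 ygi7 zgi17) (kgi xgi0 ygi7 zgi34) (kgi xgi0 ygi17 zgi41) (kgi xgi0 ygi6 zgi30) (kgi xgi0 ygi14 zgi10) (kgi xgi0 ygi14 zgi8) (kgi xgi0 ygi28 zgi6) (kgi xgi0 ygi31 zgi54) (kgi xgi0 ygi12 zgi8) (kgi xgi0 ygi7 zgi20) (kgi xgi0 ygi31 zgi58) (kgi xgi0 ygi28 zgi59) (kgi xgi0 ygi17 zgi40) (kgi xgi0 ygi32 zgi1) (kgi xgi0 ygi6 zgi37) (kgi xgi0 ygi14 zgi26) (kgi xgi0 ygi27 zgi30) (kgi xgi0 ygi14 zgi23) (kgi xgi0 ygi6 zgi38) (kgi xgi0 ygi14 zgi22) (kgi xgi0 ygi26 zgi42) (kgi xgi0 ygi14 zgi19) (kgi xgi0 ygi6 zgi39) (kgi xgi0 ygi14 zgi29) (kgi xgi0 ygi14 zgi27) (kgi xgi0 ygi32 zgi21) (kgi xgi0 ygi32 zgi25) (kgi xgi0 ygi7 zgi14) (kgi xgi0 ygi11 zgi9) (kgi xgi0 ygi32 zgi30)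 (kgi xgi0 ygi27 zgi28) (kgi xgi0 ygi12 zgi27) (kgi xgi0 ygi27 zgi40) (kgi xgi0 ygi12 zgi13) (kgi xgi0 ygi6 zgi43) (kgi xgi0 ygi24 zgi54) (kgi xgi0 ygi29 zgi2) (kgi xgi0 ygi24 zgi51) (kgi xgi0 ygi11 zgi11) (kgi xgi0 ygi12 zgi33) (kgi xgi0 ygi32 zgi49) (kgi xgi0 ygi32 zgi52) (kgi xgi0 ygi29 zgi19) (kgi xgi0 ygi7 zgi33) (kgi xgi0 ygi32 zgi60) (kgi xgi0 ygi6 zgi49) (kgi xgi0 ygi14 zgi52) (kgi xgi0 ygi14 zgi50) (kgi xgi0 ygi33 zgi5) (kgi xgi0 ygi6 zgi50) (kgi xgi0 ygi15 zgi14) (kgi xgi0 ygi33 zgi14) (kgi xgi0 ygi15 zgi11) (kgi xgi0 ygi12 zgi18) (kgi xgi0 ygi7 zgi1) (kgi xgi0 ygi33 zgi22) (kgi xgi0 ygi15 zgi36)) (@D3.rec (fun _ => Pt) (kgi xgi0 ygi33 zgi21) (kgi xgi0 ygi12 zgi45) (kgi xgi0 ygi6 zgi53) (kgi xgi0 ygi15 zgi24) (kgi xgi0 ygi33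 zgi35) (kgi xgi0 ygi15 zgi21) (kgi xgi0 ygi6 zgi55) (kgi xgi0 ygi15 zgi9) (kgi xgi0 ygi33 zgi44) (kgi xgi0 ygi15 zgi6) (kgi xgi0 ygi33 zgi48) (kgi xgi0 ygi6 zgi57) (kgi xgi0 ygi14 zgi57) (kgi xgi0 ygi33 zgi57) (kgi xgi0 ygi14 zgi54) (kgi xgi0 ygi7 zgi3) (kgi xgi0 ygi34 zgi1) (kgi xgi0 ygi27 zgi50) (kgi xgi0 ygi15 zgi30) (kgi xgi0 ygi34 zgi0) (kgi xgi0 ygi7 zgi16) (kgi xgi0 ygi6 zgi60) (kgi xgi0 ygi15 zgi5) (kgi xgi0 ygi34 zgi17) (kgi xgi0 ygi15 zgi2) (kgi xgi0 ygi7 zgi0) (kgi xgi0 ygi15 zgi27) (kgi xgi0 ygi15 zgi25) (kgi xgi0 ygi34 zgi28) (kgi xgi0 ygi34 zgi32) (kgi xgi0 ygi15 zgi15) (kgi xgi0 ygi15 zgi32) (kgi xgi0 ygi11 zgi20) (kgi xgi0 ygi34 zgi40) (kgi xgi0 ygi34 zgi43) (kgi xgi0 ygi34 zgi47) (kgi xgi0 ygi14 zgi59) (kgi xgi0 ygi25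 zgi9) (kgi xgi0 ygi34 zgi35) (kgi xgi0 ygi33 zgi24) (kgi xgi0 ygi27 zgi51) (kgi xgi0 ygi34 zgi56) (kgi xgi0 ygi15 zgi44) (kgi xgi0 ygi34 zgi61) (kgi xgi0 ygi7 zgi7) (kgi xgi0 ygi15 zgi42) (kgi xgi0 ygi34 zgi23) (kgi xgi0 ygi35 zgi7) (kgi xgi0 ygi7 zgi8) (kgi xgi0 ygi35 zgi1) (kgi xgi0 ygi35 zgi19) (kgi xgi0 ygi34 zgi60) (kgi xgi0 ygi7 zgi9) (kgi xgi0 ygi17 zgi37) (kgi xgi0 ygi35 zgi29) (kgi xgi0 ygi17 zgi34) (kgi xgi0 ygi34 zgi25) (kgi xgi0 ygi35 zgi37) (kgi xgi0 ygi35 zgi40) (kgi xgi0 ygi35 zgi42) (kgi xgi0 ygi35 zgi36) (kgi xgi0 ygi31 zgi60)) (@D3.rec (fun _ => Pt) (kgi xgi0 ygi7 zgi12) (kgi xgi0 ygi28 zgi44) (kgi xgi0 ygi35 zgi59) (kgi xgi0 ygi28 zgi41) (kgi xgi0 ygi33 zgi2) (kgi xgi0 ygi36 zgi7) (kgi xgi0 ygi36 zgi10) (kgi xgi0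 ygi7 zgi15) (kgi xgi0 ygi7 zgi19) (kgi xgi0 ygi36 zgi17) (kgi xgi0 ygi36 zgi22) (kgi xgi0 ygi28 zgi54) (kgi xgi0 ygi17 zgi48) (kgi xgi0 ygi15 zgi1) (kgi xgi0 ygi12 zgi42) (kgi xgi0 ygi36 zgi27) (kgi xgi0 ygi31 zgi49) (kgi xgi0 ygi36 zgi31) (kgi xgi0 ygi36 zgi6) (kgi xgi0 ygi26 zgi47) (kgi xgi0 ygi36 zgi16) (kgi xgi0 ygi13 zgi13) (kgi xgi0 ygi14 zgi1) (kgi xgi0 ygi24 zgi53) (kgi xgi0 ygi14 zgi4) (kgi xgi0 ygi36 zgi46) (kgi xgi0 ygi36 zgi25) (kgi xgi0 ygi32 zgi44) (kgi xgi0 ygi31 zgi61) (kgi xgi0 ygi33 zgi31) (kgi xgi0 ygi7 zgi23) (kgi xgi0 ygi29 zgi8) (kgi xgi0 ygi37 zgi4) (kgi xgi0 ygi37 zgi9) (kgi xgi0 ygi29 zgi4) (kgi xgi0 ygi29 zgi48) (kgi xgi0 ygi24 zgi37) (kgi xgi0 ygi8 zgi15) (kgi xgi0 ygi36 zgi47) (kgi xgi0 ygi7 zgi26) (kgi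 xgi0 ygi7 zgi31) (kgi xgi0 ygi37 zgi26) (kgi xgi0 ygi24 zgi56) (kgi xgi0 ygi37 zgi32) (kgi xgi0 ygi7 zgi27) (kgi xgi0 ygi29 zgi17) (kgi xgi0 ygi29 zgi15) (kgi xgi0 ygi12 zgi58) (kgi xgi0 ygi7 zgi29) (kgi xgi0 ygi12 zgi53) (kgi xgi0 ygi37 zgi44) (kgi xgi0 ygi9 zgi11) (kgi xgi0 ygi37 zgi48) (kgi xgi0 ygi32 zgi57) (kgi xgi0 ygi7 zgi32) (kgi xgi0 ygi29 zgi23) (kgi xgi0 ygi29 zgi21) (kgi xgi0 ygi37 zgi55) (kgi xgi0 ygi37 zgi59) (kgi xgi0 ygi37 zgi41) (kgi xgi0 ygi38 zgi3) (kgi xgi0 ygi38 zgi6)) (@D3.rec (fun _ => Pt) (kgi xgi0 ygi37 zgi58) (kgi xgi0 ygi38 zgi12) (kgi xgi0 ygi7 zgi36) (kgi xgi0 ygi29 zgi32) (kgi xgi0 ygi29 zgi30) (kgi xgi0 ygi38 zgi19) (kgi xgi0 ygi30 zgi1) (kgi xgi0 ygi33 zgi32) (kgi xgi0 ygi38 zgi28) (kgi xgi0 ygi29 zgi58)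 (kgi xgi0 ygi38 zgi17) (kgi xgi0 ygi7 zgi39) (kgi xgi0 ygi38 zgi36) (kgi xgi0 ygi38 zgi42) (kgi xgi0 ygi38 zgi49) (kgi xgi0 ygi38 zgi37) (kgi xgi0 ygi7 zgi40) (kgi xgi0 ygi8 zgi55) (kgi xgi0 ygi38 zgi58) (kgi xgi0 ygi38 zgi61) (kgi xgi0 ygi7 zgi42) (kgi xgi0 ygi29 zgi9) (kgi xgi0 ygi7 zgi47) (kgi xgi0 ygi17 zgi24) (kgi xgi0 ygi17 zgi53) (kgi xgi0 ygi17 zgi54) (kgi xgi0 ygi13 zgi8) (kgi xgi0 ygi7 zgi53) (kgi xgi0 ygi13 zgi15) (kgi xgi0 ygi12 zgi56) (kgi xgi0 ygi7 zgi55) (kgi xgi0 ygi17 zgi32) (kgi xgi0 ygi17 zgi30) (kgi xgi0 ygi39 zgi10) (kgi xgi0 ygi7 zgi56) (kgi xgi0 ygi15 zgi55) (kgi xgi0 ygi39 zgi20) (kgi xgi0 ygi15 zgi52) (kgi xgi0 ygi11 zgi28) (kgi xgi0 ygi33 zgi33) (kgi xgi0 ygi31 zgi42) (kgi xgi0 ygi31 zgi46) (kgi xgi0 ygi26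 zgi3) (kgi xgi0 ygi34 zgi10) (kgi xgi0 ygi14 zgi2) (kgi xgi0 ygi7 zgi59) (kgi xgi0 ygi29 zgi56) (kgi xgi0 ygi39 zgi39) (kgi xgi0 ygi16 zgi21) (kgi xgi0 ygi39 zgi45) (kgi xgi0 ygi29 zgi34) (kgi xgi0 ygi13 zgi21) (kgi xgi0 ygi39 zgi52) (kgi xgi0 ygi8 zgi1) (kgi xgi0 ygi17 zgi22) (kgi xgi0 ygi25 zgi8) (kgi xgi0 ygi39 zgi56) (kgi xgi0 ygi39 zgi59) (kgi xgi0 ygi18 zgi45) (kgi xgi0 ygi40 zgi3) (kgi xgi0 ygi13 zgi56) (kgi xgi0 ygi8 zgi5)) (@D3.rec (fun _ => Pt) (kgi xgi0 ygi40 zgi7) (kgi xgi0 ygi40 zgi12) (kgi xgi0 ygi40 zgi18) (kgi xgi0 ygi40 zgi8) (kgi xgi0 ygi29 zgi37) (kgi xgi0 ygi40 zgi26) (kgi xgi0 ygi8 zgi46) (kgi xgi0 ygi17 zgi60) (kgi xgi0 ygi12 zgi30) (kgi xgi0 ygi12 zgi59) (kgi xgi0 ygi40 zgi35) (kgi xgi0 ygi14 zgi43) (kgi xgi0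 ygi30 zgi21) (kgi xgi0 ygi8 zgi13) (kgi xgi0 ygi25 zgi5) (kgi xgi0 ygi29 zgi50) (kgi xgi0 ygi40 zgi49) (kgi xgi0 ygi12 zgi28) (kgi xgi0 ygi12 zgi54) (kgi xgi0 ygi40 zgi55) (kgi xgi0 ygi40 zgi58) (kgi xgi0 ygi37 zgi38) (kgi xgi0 ygi8 zgi16) (kgi xgi0 ygi30 zgi8) (kgi xgi0 ygi30 zgi6) (kgi xgi0 ygi41 zgi9) (kgi xgi0 ygi13 zgi44) (kgi xgi0 ygi19 zgi59) (kgi xgi0 ygi41 zgi16) (kgi xgi0 ygi13 zgi40) (kgi xgi0 ygi13 zgi35) (kgi xgi0 ygi41 zgi23) (kgi xgi0 ygi13 zgi38) (kgi xgi0 ygi8 zgi21) (kgi xgi0 ygi30 zgi32) (kgi xgi0 ygi30 zgi30) (kgi xgi0 ygi41 zgi37) (kgi xgi0 ygi41 zgi41) (kgi xgi0 ygi8 zgi22) (kgi xgi0 ygi41 zgi47) (kgi xgi0 ygi8 zgi23) (kgi xgi0 ygi30 zgi19) (kgi xgi0 ygi41 zgi54) (kgi xgi0 ygi30 zgi16) (kgi xgi0 ygi17 zgi58)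 (kgi xgi0 ygi41 zgi57) (kgi xgi0 ygi8 zgi27) (kgi xgi0 ygi40 zgi41) (kgi xgi0 ygi37 zgi52) (kgi xgi0 ygi42 zgi7) (kgi xgi0 ygi37 zgi53) (kgi xgi0 ygi8 zgi29) (kgi xgi0 ygi30 zgi29) (kgi xgi0 ygi30 zgi27) (kgi xgi0 ygi8 zgi30) (kgi xgi0 ygi30 zgi12) (kgi xgi0 ygi30 zgi10) (kgi xgi0 ygi42 zgi28) (kgi xgi0 ygi42 zgi32) (kgi xgi0 ygi42 zgi36) (kgi xgi0 ygi8 zgi32) (kgi xgi0 ygi30 zgi37)) (@D3.rec (fun _ => Pt) (kgi xgi0 ygi41 zgi51) (kgi xgi0 ygi18 zgi30) (kgi xgi0 ygi42 zgi46) (kgi xgi0 ygi8 zgi35) (kgi xgi0 ygi30 zgi45) (kgi xgi0 ygi30 zgi43) (kgi xgi0 ygi42 zgi55) (kgi xgi0 ygi8 zgi36) (kgi xgi0 ygi8 zgi38) (kgi xgi0 ygi43 zgi1) (kgi xgi0 ygi8 zgi37) (kgi xgi0 ygi30 zgi40) (kgi xgi0 ygi30 zgi38) (kgi xgi0 ygi43 zgi7) (kgi xgi0 ygi43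 zgi9) (kgi xgi0 ygi8 zgi39) (kgi xgi0 ygi13 zgi41) (kgi xgi0 ygi8 zgi47) (kgi xgi0 ygi13 zgi45) (kgi xgi0 ygi8 zgi42) (kgi xgi0 ygi23 zgi0) (kgi xgi0 ygi23 zgi3) (kgi xgi0 ygi43 zgi23) (kgi xgi0 ygi43 zgi27) (kgi xgi0 ygi8 zgi44) (kgi xgi0 ygi30 zgi52) (kgi xgi0 ygi30 zgi50) (kgi xgi0 ygi43 zgi37) (kgi xgi0 ygi43 zgi40) (kgi xgi0 ygi20 zgi12) (kgi xgi0 ygi43 zgi42) (kgi xgi0 ygi43 zgi15) (kgi xgi0 ygi8 zgi48) (kgi xgi0 ygi8 zgi50) (kgi xgi0 ygi43 zgi48) (kgi xgi0 ygi22 zgi22) (kgi xgi0 ygi40 zgi21) (kgi xgi0 ygi8 zgi52) (kgi xgi0 ygi43 zgi5) (kgi xgi0 ygi43 zgi52) (kgi xgi0 ygi40 zgi16) (kgi xgi0 ygi44 zgi5) (kgi xgi0 ygi44 zgi8) (kgi xgi0 ygi8 zgi51) (kgi xgi0 ygi43 zgi45) (kgi xgi0 ygi44 zgi18) (kgi xgi0 ygi44 zgi24) (kgi xgi0 ygi44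 zgi7) (kgi xgi0 ygi44 zgi28) (kgi xgi0 ygi43 zgi20) (kgi xgi0 ygi44 zgi34) (kgi xgi0 ygi43 zgi32) (kgi xgi0 ygi44 zgi41) (kgi xgi0 ygi44 zgi45) (kgi xgi0 ygi44 zgi49) (kgi xgi0 ygi8 zgi56) (kgi xgi0 ygi31 zgi20) (kgi xgi0 ygi31 zgi18) (kgi xgi0 ygi45 zgi0) (kgi xgi0 ygi8 zgi58) (kgi xgi0 ygi18 zgi27) (kgi xgi0 ygi45 zgi6)) (@D3.rec (fun _ => Pt) (kgi xgi0 ygi45 zgi9) (kgi xgi0 ygi13 zgi34) (kgi xgi0 ygi37 zgi46) (kgi xgi0 ygi9 zgi6) (kgi xgi0 ygi16 zgi51) (kgi xgi0 ygi45 zgi14) (kgi xgi0 ygi30 zgi20) (kgi xgi0 ygi9 zgi4) (kgi xgi0 ygi20 zgi30) (kgi xgi0 ygi20 zgi28) (kgi xgi0 ygi45 zgi19) (kgi xgi0 ygi20 zgi4) (kgi xgi0 ygi9 zgi7) (kgi xgi0 ygi19 zgi29) (kgi xgi0 ygi9 zgi8) (kgi xgi0 ygi45 zgi21) (kgi xgi0 ygi23 zgi33) (kgi xgi0 ygi45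 zgi28) (kgi xgi0 ygi23 zgi19) (kgi xgi0 ygi29 zgi13) (kgi xgi0 ygi45 zgi36) (kgi xgi0 ygi13 zgi26) (kgi xgi0 ygi19 zgi1) (kgi xgi0 ygi9 zgi12) (kgi xgi0 ygi21 zgi25) (kgi xgi0 ygi21 zgi23) (kgi xgi0 ygi45 zgi47) (kgi xgi0 ygi45 zgi51) (kgi xgi0 ygi9 zgi15) (kgi xgi0 ygi20 zgi9) (kgi xgi0 ygi20 zgi7) (kgi xgi0 ygi9 zgi16) (kgi xgi0 ygi20 zgi39) (kgi xgi0 ygi20 zgi37) (kgi xgi0 ygi45 zgi58) (kgi xgi0 ygi10 zgi55) (kgi xgi0 ygi9 zgi54) (kgi xgi0 ygi9 zgi21) (kgi xgi0 ygi20 zgi33) (kgi xgi0 ygi20 zgi31) (kgi xgi0 ygi22 zgi61) (kgi xgi0 ygi10 zgi12) (kgi xgi0 ygi9 zgi25) (kgi xgi0 ygi9 zgi27) (kgi xgi0 ygi46 zgi8) (kgi xgi0 ygi43 zgi19) (kgi xgi0 ygi21 zgi16) (kgi xgi0 ygi9 zgi29) (kgi xgi0 ygi22 zgi19) (kgi xgi0 ygi46 zgi10) (kgi xgi0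 ygi45 zgi45) (kgi xgi0 ygi46 zgi26) (kgi xgi0 ygi24 zgi12) (kgi xgi0 ygi9 zgi28) (kgi xgi0 ygi24 zgi14) (kgi xgi0 ygi46 zgi36) (kgi xgi0 ygi46 zgi40) (kgi xgi0 ygi46 zgi43) (kgi xgi0 ygi9 zgi30) (kgi xgi0 ygi20 zgi60) (kgi xgi0 ygi20 zgi58) (kgi xgi0 ygi21 zgi54)) (@D3.rec (fun _ => Pt) (kgi xgi0 ygi9 zgi32) (kgi xgi0 ygi9 zgi34) (kgi xgi0 ygi46 zgi56) (kgi xgi0 ygi47 zgi0) (kgi xgi0 ygi21 zgi57) (kgi xgi0 ygi9 zgi36) (kgi xgi0 ygi22 zgi1) (kgi xgi0 ygi46 zgi61) (kgi xgi0 ygi23 zgi14) (kgi xgi0 ygi10 zgi31) (kgi xgi0 ygi9 zgi35) (kgi xgi0 ygi46 zgi51) (kgi xgi0 ygi47 zgi23) (kgi xgi0 ygi47 zgi29) (kgi xgi0 ygi10 zgi35) (kgi xgi0 ygi21 zgi8) (kgi xgi0 ygi20 zgi50) (kgi xgi0 ygi47 zgi37) (kgi xgi0 ygi9 zgi38) (kgi xgi0 ygi21 zgi20)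 (kgi xgi0 ygi21 zgi18) (kgi xgi0 ygi47 zgi44) (kgi xgi0 ygi20 zgi35) (kgi xgi0 ygi9 zgi41) (kgi xgi0 ygi20 zgi25) (kgi xgi0 ygi20 zgi23) (kgi xgi0 ygi46 zgi58) (kgi xgi0 ygi45 zgi44) (kgi xgi0 ygi9 zgi51) (kgi xgi0 ygi47 zgi56) (kgi xgi0 ygi46 zgi53) (kgi xgi0 ygi10 zgi10) (kgi xgi0 ygi9 zgi60) (kgi xgi0 ygi40 zgi14) (kgi xgi0 ygi47 zgi8) (kgi xgi0 ygi22 zgi24) (kgi xgi0 ygi22 zgi6) (kgi xgi0 ygi48 zgi14) (kgi xgi0 ygi9 zgi46) (kgi xgi0 ygi22 zgi4) (kgi xgi0 ygi48 zgi24) (kgi xgi0 ygi48 zgi28) (kgi xgi0 ygi9 zgi47) (kgi xgi0 ygi48 zgi16) (kgi xgi0 ygi48 zgi36) (kgi xgi0 ygi48 zgi13) (kgi xgi0 ygi9 zgi48) (kgi xgi0 ygi21 zgi49) (kgi xgi0 ygi10 zgi47) (kgi xgi0 ygi21 zgi46) (kgi xgi0 ygi47 zgi51) (kgi xgi0 ygi48 zgi47) (kgi xgi0 ygi10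 zgi0) (kgi xgi0 ygi24 zgi31) (kgi xgi0 ygi21 zgi28) (kgi xgi0 ygi20 zgi6) (kgi xgi0 ygi46 zgi55) (kgi xgi0 ygi48 zgi55) (kgi xgi0 ygi20 zgi41) (kgi xgi0 ygi48 zgi58) (kgi xgi0 ygi21 zgi6) (kgi xgi0 ygi10 zgi5)) (@D3.rec (fun _ => Pt) (kgi xgi0 ygi45 zgi39) (kgi xgi0 ygi48 zgi61) (kgi xgi0 ygi22 zgi33) (kgi xgi0 ygi22 zgi5) (kgi xgi0 ygi21 zgi38) (kgi xgi0 ygi22 zgi21) (kgi xgi0 ygi9 zgi59) (kgi xgi0 ygi21 zgi36) (kgi xgi0 ygi49 zgi22) (kgi xgi0 ygi49 zgi26) (kgi xgi0 ygi48 zgi3) (kgi xgi0 ygi23 zgi37) (kgi xgi0 ygi22 zgi3) (kgi xgi0 ygi9 zgi61) (kgi xgi0 ygi22 zgi16) (kgi xgi0 ygi49 zgi37) (kgi xgi0 ygi22 zgi13) (kgi xgi0 ygi10 zgi6) (kgi xgi0 ygi21 zgi52) (kgi xgi0 ygi43 zgi53) (kgi xgi0 ygi23 zgi15) (kgi xgi0 ygi22 zgi12) (kgi xgi0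 ygi19 zgi39) (kgi xgi0 ygi23 zgi30) (kgi xgi0 ygi21 zgi31) (kgi xgi0 ygi49 zgi52) (kgi xgi0 ygi49 zgi56) (kgi xgi0 ygi22 zgi28) (kgi xgi0 ygi22 zgi17) (kgi xgi0 ygi46 zgi18) (kgi xgi0 ygi10 zgi33) (kgi xgi0 ygi20 zgi44) (kgi xgi0 ygi49 zgi60) (kgi xgi0 ygi21 zgi61) (kgi xgi0 ygi22 zgi37) (kgi xgi0 ygi50 zgi4) (kgi xgi0 ygi50 zgi8) (kgi xgi0 ygi10 zgi11) (kgi xgi0 ygi22 zgi34) (kgi xgi0 ygi10 zgi36) (kgi xgi0 ygi21 zgi58) (kgi xgi0 ygi20 zgi51) (kgi xgi0 ygi50 zgi15) (kgi xgi0 ygi10 zgi44) (kgi xgi0 ygi24 zgi29) (kgi xgi0 ygi23 zgi21) (kgi xgi0 ygi46 zgi19) (kgi xgi0 ygi24 zgi6) (kgi xgi0 ygi23 zgi7) (kgi xgi0 ygi10 zgi18) (kgi xgi0 ygi23 zgi1) (kgi xgi0 ygi50 zgi34) (kgi xgi0 ygi50 zgi38) (kgi xgi0 ygi10 zgi19) (kgi xgi0 ygi22 zgi55)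 (kgi xgi0 ygi22 zgi53) (kgi xgi0 ygi50 zgi46) (kgi xgi0 ygi10 zgi46) (kgi xgi0 ygi10 zgi29) (kgi xgi0 ygi50 zgi45) (kgi xgi0 ygi24 zgi0) (kgi xgi0 ygi50 zgi57)) (@D3.rec (fun _ => Pt) (kgi xgi0 ygi19 zgi19) (kgi xgi0 ygi22 zgi49) (kgi xgi0 ygi23 zgi11) (kgi xgi0 ygi10 zgi23) (kgi xgi0 ygi19 zgi21) (kgi xgi0 ygi51 zgi7) (kgi xgi0 ygi51 zgi11) (kgi xgi0 ygi10 zgi24) (kgi xgi0 ygi22 zgi48) (kgi xgi0 ygi51 zgi19) (kgi xgi0 ygi51 zgi23) (kgi xgi0 ygi10 zgi25) (kgi xgi0 ygi23 zgi2) (kgi xgi0 ygi10 zgi38) (kgi xgi0 ygi47 zgi32) (kgi xgi0 ygi22 zgi23) (kgi xgi0 ygi49 zgi47) (kgi xgi0 ygi50 zgi50) (kgi xgi0 ygi22 zgi45) (kgi xgi0 ygi20 zgi16) (kgi xgi0 ygi51 zgi36) (kgi xgi0 ygi49 zgi43) (kgi xgi0 ygi10 zgi30) (kgi xgi0 ygi10 zgi34) (kgi xgi0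 ygi43 zgi29) (kgi xgi0 ygi51 zgi46) (kgi xgi0 ygi43 zgi4) (kgi xgi0 ygi51 zgi52) (kgi xgi0 ygi50 zgi43) (kgi xgi0 ygi22 zgi39) (kgi xgi0 ygi22 zgi20) (kgi xgi0 ygi48 zgi8) (kgi xgi0 ygi50 zgi12) (kgi xgi0 ygi20 zgi18) (kgi xgi0 ygi51 zgi45) (kgi xgi0 ygi52 zgi5) (kgi xgi0 ygi51 zgi51) (kgi xgi0 ygi52 zgi10) (kgi xgi0 ygi23 zgi29) (kgi xgi0 ygi10 zgi37) (kgi xgi0 ygi10 zgi42) (kgi xgi0 ygi52 zgi18) (kgi xgi0 ygi52 zgi23) (kgi xgi0 ygi51 zgi32) (kgi xgi0 ygi52 zgi29) (kgi xgi0 ygi52 zgi34) (kgi xgi0 ygi50 zgi0) (kgi xgi0 ygi52 zgi28) (kgi xgi0 ygi52 zgi42) (kgi xgi0 ygi10 zgi40) (kgi xgi0 ygi51 zgi28) (kgi xgi0 ygi52 zgi26) (kgi xgi0 ygi52 zgi58) (kgi xgi0 ygi53 zgi1) (kgi xgi0 ygi52 zgi17) (kgi xgi0 ygi10 zgi41) (kgi xgi0 ygi52 zgi24)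 (kgi xgi0 ygi52 zgi22) (kgi xgi0 ygi53 zgi15) (kgi xgi0 ygi10 zgi43) (kgi xgi0 ygi46 zgi52) (kgi xgi0 ygi53 zgi21)) (@D3.rec (fun _ => Pt) (kgi xgi0 ygi22 zgi57) (kgi xgi0 ygi53 zgi26) (kgi xgi0 ygi53 zgi30) (kgi xgi0 ygi10 zgi45) (kgi xgi0 ygi24 zgi5) (kgi xgi0 ygi24 zgi3) (kgi xgi0 ygi22 zgi43) (kgi xgi0 ygi53 zgi39) (kgi xgi0 ygi53 zgi43) (kgi xgi0 ygi24 zgi11) (kgi xgi0 ygi53 zgi49) (kgi xgi0 ygi21 zgi48) (kgi xgi0 ygi10 zgi48) (kgi xgi0 ygi20 zgi52) (kgi xgi0 ygi20 zgi53) (kgi xgi0 ygi53 zgi58) (kgi xgi0 ygi10 zgi49) (kgi xgi0 ygi24 zgi19) (kgi xgi0 ygi53 zgi35) (kgi xgi0 ygi24 zgi16) (kgi xgi0 ygi50 zgi25) (kgi xgi0 ygi10 zgi53) (kgi xgi0 ygi53 zgi47) (kgi xgi0 ygi48 zgi52) (kgi xgi0 ygi54 zgi10) (kgi xgi0 ygi24 zgi27) (kgi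 xgi0 ygi45 zgi61) (kgi xgi0 ygi24 zgi21) (kgi xgi0 ygi48 zgi43) (kgi xgi0 ygi46 zgi3) (kgi xgi0 ygi21 zgi22) (kgi xgi0 ygi48 zgi51) (kgi xgi0 ygi11 zgi21) (kgi xgi0 ygi54 zgi22) (kgi xgi0 ygi10 zgi57) (kgi xgi0 ygi32 zgi40) (kgi xgi0 ygi12 zgi24) (kgi xgi0 ygi18 zgi46) (kgi xgi0 ygi10 zgi59) (kgi xgi0 ygi39 zgi53) (kgi xgi0 ygi10 zgi60) (kgi xgi0 ygi24 zgi42) (kgi xgi0 ygi24 zgi40) (kgi xgi0 ygi54 zgi42) (kgi xgi0 ygi54 zgi46) (kgi xgi0 ygi12 zgi43) (kgi xgi0 ygi42 zgi17) (kgi xgi0 ygi26 zgi40) (kgi xgi0 ygi25 zgi4) (kgi xgi0 ygi26 zgi49) (kgi xgi0 ygi11 zgi52) (kgi xgi0 ygi11 zgi2) (kgi xgi0 ygi14 zgi42) (kgi xgi0 ygi16 zgi27) (kgi xgi0 ygi14 zgi39) (kgi xgi0 ygi55 zgi0) (kgi xgi0 ygi16 zgi53) (kgi xgi0 ygi33 zgi40) (kgi xgi0 ygi11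 zgi6) (kgi xgi0 ygi54 zgi56) (kgi xgi0 ygi14 zgi33) (kgi xgi0 ygi11 zgi7)) (@D3.rec (fun _ => Pt) (kgi xgi0 ygi28 zgi18) (kgi xgi0 ygi32 zgi34) (kgi xgi0 ygi24 zgi60) (kgi xgi0 ygi55 zgi18) (kgi xgi0 ygi24 zgi58) (kgi xgi0 ygi18 zgi13) (kgi xgi0 ygi18 zgi11) (kgi xgi0 ygi32 zgi46) (kgi xgi0 ygi24 zgi61) (kgi xgi0 ygi15 zgi38) (kgi xgi0 ygi24 zgi32) (kgi xgi0 ygi27 zgi32) (kgi xgi0 ygi11 zgi14) (kgi xgi0 ygi11 zgi25) (kgi xgi0 ygi11 zgi23) (kgi xgi0 ygi11 zgi15) (kgi xgi0 ygi25 zgi23) (kgi xgi0 ygi55 zgi43) (kgi xgi0 ygi25 zgi20) (kgi xgi0 ygi55 zgi47) (kgi xgi0 ygi11 zgi17) (kgi xgi0 ygi25 zgi18) (kgi xgi0 ygi55 zgi57) (kgi xgi0 ygi25 zgi15) (kgi xgi0 ygi55 zgi39) (kgi xgi0 ygi27 zgi54) (kgi xgi0 ygi55 zgi53) (kgi xgi0 ygi15 zgi59)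 (kgi xgi0 ygi56 zgi7) (kgi xgi0 ygi11 zgi22) (kgi xgi0 ygi55 zgi31) (kgi xgi0 ygi56 zgi17) (kgi xgi0 ygi31 zgi35) (kgi xgi0 ygi26 zgi52) (kgi xgi0 ygi54 zgi53) (kgi xgi0 ygi56 zgi25) (kgi xgi0 ygi27 zgi2) (kgi xgi0 ygi56 zgi22) (kgi xgi0 ygi55 zgi38) (kgi xgi0 ygi11 zgi26) (kgi xgi0 ygi26 zgi55) (kgi xgi0 ygi56 zgi40) (kgi xgi0 ygi25 zgi49) (kgi xgi0 ygi11 zgi27) (kgi xgi0 ygi25 zgi45) (kgi xgi0 ygi25 zgi43) (kgi xgi0 ygi56 zgi49) (kgi xgi0 ygi56 zgi53) (kgi xgi0 ygi26 zgi0) (kgi xgi0 ygi11 zgi56) (kgi xgi0 ygi56 zgi59) (kgi xgi0 ygi27 zgi41) (kgi xgi0 ygi56 zgi58) (kgi xgi0 ygi12 zgi10) (kgi xgi0 ygi11 zgi31) (kgi xgi0 ygi26 zgi11) (kgi xgi0 ygi39 zgi36) (kgi xgi0 ygi26 zgi8) (kgi xgi0 ygi11 zgi33) (kgi xgi0 ygi25 zgi60) (kgi xgi0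 ygi25 zgi58) (kgi xgi0 ygi57 zgi15)) (@D3.rec (fun _ => Pt) (kgi xgi0 ygi11 zgi34) (kgi xgi0 ygi25 zgi48) (kgi xgi0 ygi36 zgi11) (kgi xgi0 ygi17 zgi38) (kgi xgi0 ygi57 zgi27) (kgi xgi0 ygi26 zgi50) (kgi xgi0 ygi57 zgi26) (kgi xgi0 ygi11 zgi50) (kgi xgi0 ygi11 zgi37) (kgi xgi0 ygi25 zgi57) (kgi xgi0 ygi36 zgi24) (kgi xgi0 ygi25 zgi54) (kgi xgi0 ygi32 zgi61) (kgi xgi0 ygi35 zgi25) (kgi xgi0 ygi27 zgi57) (kgi xgi0 ygi57 zgi37) (kgi xgi0 ygi57 zgi44) (kgi xgi0 ygi57 zgi48) (kgi xgi0 ygi11 zgi42) (kgi xgi0 ygi57 zgi50) (kgi xgi0 ygi57 zgi60) (kgi xgi0 ygi57 zgi47) (kgi xgi0 ygi35 zgi3) (kgi xgi0 ygi58 zgi6) (kgi xgi0 ygi58 zgi9) (kgi xgi0 ygi58 zgi11) (kgi xgi0 ygi35 zgi49) (kgi xgi0 ygi35 zgi24) (kgi xgi0 ygi11 zgi45) (kgi xgi0 ygi27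 zgi22) (kgi xgi0 ygi58 zgi26) (kgi xgi0 ygi27 zgi19) (kgi xgi0 ygi11 zgi47) (kgi xgi0 ygi32 zgi36) (kgi xgi0 ygi58 zgi35) (kgi xgi0 ygi56 zgi46) (kgi xgi0 ygi58 zgi43) (kgi xgi0 ygi58 zgi46) (kgi xgi0 ygi11 zgi49) (kgi xgi0 ygi16 zgi19) (kgi xgi0 ygi32 zgi33) (kgi xgi0 ygi27 zgi31) (kgi xgi0 ygi32 zgi8) (kgi xgi0 ygi25 zgi53) (kgi xgi0 ygi58 zgi52) (kgi xgi0 ygi58 zgi42) (kgi xgi0 ygi39 zgi25) (kgi xgi0 ygi58 zgi49) (kgi xgi0 ygi11 zgi53) (kgi xgi0 ygi24 zgi46) (kgi xgi0 ygi27 zgi39) (kgi xgi0 ygi32 zgi17) (kgi xgi0 ygi25 zgi36) (kgi xgi0 ygi25 zgi42) (kgi xgi0 ygi59 zgi3) (kgi xgi0 ygi25 zgi39) (kgi xgi0 ygi11 zgi57) (kgi xgi0 ygi26 zgi58) (kgi xgi0 ygi26 zgi56) (kgi xgi0 ygi34 zgi24) (kgi xgi0 ygi59 zgi13) (kgi xgi0 ygi57 zgi20))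 (@D3.rec (fun _ => Pt) (kgi xgi0 ygi11 zgi59) (kgi xgi0 ygi59 zgi22) (kgi xgi0 ygi25 zgi33) (kgi xgi0 ygi58 zgi31) (kgi xgi0 ygi56 zgi36) (kgi xgi0 ygi39 zgi16) (kgi xgi0 ygi39 zgi5) (kgi xgi0 ygi59 zgi33) (kgi xgi0 ygi59 zgi37) (kgi xgi0 ygi12 zgi3) (kgi xgi0 ygi59 zgi39) (kgi xgi0 ygi59 zgi47) (kgi xgi0 ygi59 zgi36) (kgi xgi0 ygi39 zgi7) (kgi xgi0 ygi59 zgi55) (kgi xgi0 ygi59 zgi58) (kgi xgi0 ygi59 zgi60) (kgi xgi0 ygi59 zgi54) (kgi xgi0 ygi39 zgi15) (kgi xgi0 ygi12 zgi6) (kgi xgi0 ygi26 zgi31) (kgi xgi1 ygi0 zgi13) (kgi xgi0 ygi26 zgi28) (kgi xgi0 ygi57 zgi12) (kgi xgi1 ygi0 zgi20) (kgi xgi1 ygi0 zgi23) (kgi xgi0 ygi12 zgi9) (kgi xgi0 ygi28 zgi57) (kgi xgi0 ygi54 zgi51) (kgi xgi0 ygi26 zgi43) (kgi xgi0 ygi32 zgi13) (kgi xgi0 ygi26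 zgi7) (kgi xgi0 ygi25 zgi32) (kgi xgi0 ygi58 zgi48) (kgi xgi0 ygi56 zgi57) (kgi xgi1 ygi0 zgi36) (kgi xgi0 ygi36 zgi36) (kgi xgi0 ygi36 zgi55) (kgi xgi0 ygi36 zgi37) (kgi xgi0 ygi12 zgi14) (kgi xgi0 ygi14 zgi34) (kgi xgi0 ygi26 zgi48) (kgi xgi0 ygi39 zgi30) (kgi xgi0 ygi12 zgi16) (kgi xgi0 ygi34 zgi13) (kgi xgi0 ygi14 zgi58) (kgi xgi0 ygi56 zgi43) (kgi xgi1 ygi0 zgi55) (kgi xgi0 ygi27 zgi45) (kgi xgi0 ygi58 zgi36) (kgi xgi0 ygi27 zgi43) (kgi xgi0 ygi25 zgi25) (kgi xgi0 ygi34 zgi3) (kgi xgi0 ygi27 zgi58) (kgi xgi0 ygi15 zgi40) (kgi xgi1 ygi0 zgi58) (kgi xgi0 ygi12 zgi21) (kgi xgi0 ygi27 zgi56) (kgi xgi0 ygi27 zgi6) (kgi xgi0 ygi57 zgi55) (kgi xgi1 ygi1 zgi14) (kgi xgi0 ygi12 zgi23)) (@D3.rec (fun _ => Pt) (kgi xgi0 ygi54 zgi24) (kgi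 xgi1 ygi1 zgi23) (kgi xgi0 ygi54 zgi21) (kgi xgi0 ygi14 zgi11) (kgi xgi1 ygi1 zgi29) (kgi xgi1 ygi1 zgi32) (kgi xgi0 ygi55 zgi15) (kgi xgi1 ygi0 zgi34) (kgi xgi0 ygi27 zgi33) (kgi xgi0 ygi12 zgi26) (kgi xgi0 ygi54 zgi30) (kgi xgi1 ygi1 zgi43) (kgi xgi0 ygi54 zgi28) (kgi xgi1 ygi1 zgi49) (kgi xgi1 ygi1 zgi53) (kgi xgi1 ygi1 zgi48) (kgi xgi0 ygi42 zgi14) (kgi xgi0 ygi25 zgi0) (kgi xgi0 ygi55 zgi26) (kgi xgi0 ygi13 zgi7) (kgi xgi1 ygi2 zgi4) (kgi xgi0 ygi12 zgi32) (kgi xgi0 ygi40 zgi30) (kgi xgi1 ygi2 zgi12) (kgi xgi1 ygi2 zgi16) (kgi xgi0 ygi54 zgi34) (kgi xgi1 ygi2 zgi22) (kgi xgi0 ygi35 zgi4) (kgi xgi0 ygi34 zgi6) (kgi xgi1 ygi2 zgi27) (kgi xgi1 ygi2 zgi30) (kgi xgi0 ygi12 zgi37) (kgi xgi1 ygi2 zgi32) (kgi xgi1 ygi2 zgi39) (kgi xgi0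 ygi56 zgi10) (kgi xgi0 ygi34 zgi36) (kgi xgi1 ygi2 zgi44) (kgi xgi1 ygi2 zgi47) (kgi xgi1 ygi2 zgi49) (kgi xgi0 ygi58 zgi17) (kgi xgi0 ygi31 zgi41) (kgi xgi0 ygi12 zgi40) (kgi xgi0 ygi16 zgi3) (kgi xgi1 ygi2 zgi61) (kgi xgi0 ygi16 zgi0) (kgi xgi0 ygi36 zgi26) (kgi xgi1 ygi3 zgi6) (kgi xgi1 ygi3 zgi8) (kgi xgi1 ygi0 zgi28) (kgi xgi0 ygi12 zgi44) (kgi xgi0 ygi12 zgi47) (kgi xgi1 ygi3 zgi14) (kgi xgi1 ygi3 zgi19) (kgi xgi0 ygi16 zgi13) (kgi xgi0 ygi15 zgi20) (kgi xgi1 ygi3 zgi20) (kgi xgi1 ygi0 zgi42) (kgi xgi0 ygi27 zgi38) (kgi xgi1 ygi0 zgi45) (kgi xgi0 ygi14 zgi14) (kgi xgi0 ygi31 zgi43) (kgi xgi0 ygi14 zgi41)) (@D3.rec (fun _ => Pt) (kgi xgi0 ygi14 zgi17) (kgi xgi1 ygi3 zgi32) (kgi xgi0 ygi54 zgi60) (kgi xgi0 ygi34 zgi12) (kgi xgi0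 ygi12 zgi51) (kgi xgi0 ygi16 zgi34) (kgi xgi1 ygi3 zgi46) (kgi xgi1 ygi3 zgi51) (kgi xgi0 ygi16 zgi30) (kgi xgi0 ygi17 zgi20) (kgi xgi0 ygi37 zgi43) (kgi xgi1 ygi3 zgi58) (kgi xgi0 ygi42 zgi12) (kgi xgi0 ygi14 zgi47) (kgi xgi0 ygi41 zgi5) (kgi xgi0 ygi12 zgi55) (kgi xgi0 ygi16 zgi46) (kgi xgi0 ygi16 zgi44) (kgi xgi1 ygi4 zgi8) (kgi xgi0 ygi20 zgi19) (kgi xgi0 ygi42 zgi15) (kgi xgi0 ygi12 zgi57) (kgi xgi0 ygi16 zgi56) (kgi xgi0 ygi16 zgi54) (kgi xgi0 ygi31 zgi44) (kgi xgi1 ygi4 zgi16) (kgi xgi0 ygi37 zgi21) (kgi xgi1 ygi4 zgi21) (kgi xgi0 ygi37 zgi24) (kgi xgi1 ygi4 zgi27) (kgi xgi0 ygi12 zgi61) (kgi xgi0 ygi17 zgi4) (kgi xgi0 ygi17 zgi2) (kgi xgi1 ygi4 zgi33) (kgi xgi0 ygi18 zgi4) (kgi xgi0 ygi34 zgi14) (kgi xgi1 ygi4 zgi41) (kgi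 xgi0 ygi17 zgi50) (kgi xgi1 ygi4 zgi31) (kgi xgi0 ygi13 zgi2) (kgi xgi1 ygi4 zgi49) (kgi xgi1 ygi4 zgi55) (kgi xgi1 ygi5 zgi0) (kgi xgi1 ygi4 zgi50) (kgi xgi0 ygi13 zgi3) (kgi xgi0 ygi13 zgi53) (kgi xgi1 ygi5 zgi9) (kgi xgi1 ygi5 zgi12) (kgi xgi0 ygi13 zgi5) (kgi xgi0 ygi16 zgi35) (kgi xgi0 ygi55 zgi21) (kgi xgi0 ygi14 zgi7) (kgi xgi0 ygi34 zgi15) (kgi xgi0 ygi33 zgi28) (kgi xgi0 ygi14 zgi15) (kgi xgi0 ygi57 zgi4) (kgi xgi0 ygi17 zgi45) (kgi xgi0 ygi42 zgi9) (kgi xgi0 ygi17 zgi6) (kgi xgi0 ygi13 zgi17) (kgi xgi0 ygi41 zgi10) (kgi xgi0 ygi41 zgi8)) (@D3.rec (fun _ => Pt) (kgi xgi1 ygi5 zgi37) (kgi xgi0 ygi17 zgi9) (kgi xgi1 ygi5 zgi43) (kgi xgi1 ygi5 zgi46) (kgi xgi1 ygi5 zgi48) (kgi xgi1 ygi4 zgi4) (kgi xgi0 ygi13 zgi22) (kgi xgi0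 ygi18 zgi24) (kgi xgi0 ygi18 zgi22) (kgi xgi1 ygi5 zgi59) (kgi xgi0 ygi13 zgi25) (kgi xgi0 ygi18 zgi56) (kgi xgi0 ygi18 zgi54) (kgi xgi1 ygi6 zgi4) (kgi xgi1 ygi6 zgi8) (kgi xgi1 ygi6 zgi12) (kgi xgi0 ygi13 zgi27) (kgi xgi0 ygi18 zgi43) (kgi xgi0 ygi42 zgi42) (kgi xgi0 ygi18 zgi40) (kgi xgi0 ygi40 zgi1) (kgi xgi0 ygi13 zgi30) (kgi xgi0 ygi18 zgi12) (kgi xgi0 ygi37 zgi14) (kgi xgi1 ygi6 zgi27) (kgi xgi1 ygi6 zgi30) (kgi xgi1 ygi4 zgi14) (kgi xgi0 ygi13 zgi32) (kgi xgi0 ygi18 zgi53) (kgi xgi0 ygi18 zgi51) (kgi xgi0 ygi13 zgi33) (kgi xgi0 ygi18 zgi35) (kgi xgi0 ygi18 zgi33) (kgi xgi1 ygi6 zgi45) (kgi xgi1 ygi6 zgi48) (kgi xgi1 ygi6 zgi52) (kgi xgi1 ygi6 zgi15) (kgi xgi0 ygi18 zgi60) (kgi xgi0 ygi13 zgi37) (kgi xgi0 ygi19 zgi12) (kgi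 xgi0 ygi19 zgi10) (kgi xgi0 ygi42 zgi23) (kgi xgi1 ygi7 zgi1) (kgi xgi0 ygi13 zgi39) (kgi xgi0 ygi19 zgi5) (kgi xgi0 ygi19 zgi3) (kgi xgi0 ygi41 zgi33) (kgi xgi1 ygi7 zgi10) (kgi xgi0 ygi42 zgi20) (kgi xgi0 ygi43 zgi8) (kgi xgi0 ygi13 zgi42) (kgi xgi0 ygi19 zgi26) (kgi xgi0 ygi19 zgi24) (kgi xgi1 ygi7 zgi18) (kgi xgi1 ygi7 zgi22) (kgi xgi1 ygi7 zgi25) (kgi xgi0 ygi43 zgi13) (kgi xgi0 ygi13 zgi46) (kgi xgi0 ygi13 zgi48) (kgi xgi0 ygi50 zgi21) (kgi xgi0 ygi42 zgi51) (kgi xgi0 ygi41 zgi11)) (@D3.rec (fun _ => Pt) (kgi xgi0 ygi13 zgi50) (kgi xgi1 ygi7 zgi5) (kgi xgi1 ygi7 zgi32) (kgi xgi1 ygi5 zgi35) (kgi xgi1 ygi7 zgi41) (kgi xgi1 ygi7 zgi43) (kgi xgi0 ygi13 zgi49) (kgi xgi1 ygi7 zgi27) (kgi xgi1 ygi7 zgi53) (kgi xgi1 ygi7 zgi59) (kgi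 xgi1 ygi7 zgi42) (kgi xgi1 ygi8 zgi1) (kgi xgi1 ygi7 zgi15) (kgi xgi1 ygi8 zgi7) (kgi xgi0 ygi51 zgi4) (kgi xgi1 ygi8 zgi14) (kgi xgi1 ygi8 zgi18) (kgi xgi1 ygi8 zgi22) (kgi xgi0 ygi13 zgi54) (kgi xgi0 ygi19 zgi57) (kgi xgi0 ygi19 zgi55) (kgi xgi1 ygi8 zgi33) (kgi xgi0 ygi18 zgi7) (kgi xgi1 ygi8 zgi36) (kgi xgi0 ygi57 zgi9) (kgi xgi1 ygi8 zgi40) (kgi xgi1 ygi8 zgi44) (kgi xgi0 ygi13 zgi59) (kgi xgi1 ygi8 zgi46) (kgi xgi1 ygi8 zgi56) (kgi xgi1 ygi8 zgi43) (kgi xgi0 ygi13 zgi60) (kgi xgi0 ygi31 zgi56) (kgi xgi0 ygi58 zgi23) (kgi xgi0 ygi31 zgi53) (kgi xgi0 ygi25 zgi11) (kgi xgi0 ygi28 zgi8) (kgi xgi1 ygi9 zgi8) (kgi xgi0 ygi28 zgi40) (kgi xgi0 ygi31 zgi59) (kgi xgi0 ygi29 zgi54) (kgi xgi0 ygi35 zgi50) (kgi xgi0 ygi29 zgi0) (kgi xgi0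 ygi16 zgi26) (kgi xgi0 ygi16 zgi59) (kgi xgi0 ygi39 zgi35) (kgi xgi0 ygi29 zgi51) (kgi xgi0 ygi16 zgi16) (kgi xgi1 ygi9 zgi15) (kgi xgi0 ygi36 zgi30) (kgi xgi0 ygi36 zgi50) (kgi xgi1 ygi9 zgi19) (kgi xgi0 ygi54 zgi25) (kgi xgi0 ygi14 zgi12) (kgi xgi0 ygi31 zgi34) (kgi xgi1 ygi0 zgi10) (kgi xgi0 ygi31 zgi31) (kgi xgi0 ygi15 zgi61) (kgi xgi0 ygi31 zgi40) (kgi xgi0 ygi17 zgi44) (kgi xgi1 ygi0 zgi26) (kgi xgi0 ygi16 zgi24)) (@D3.rec (fun _ => Pt) (kgi xgi0 ygi14 zgi18) (kgi xgi0 ygi55 zgi6) (kgi xgi1 ygi9 zgi34) (kgi xgi0 ygi55 zgi4) (kgi xgi0 ygi58 zgi51) (kgi xgi0 ygi57 zgi31) (kgi xgi0 ygi24 zgi47) (kgi xgi0 ygi14 zgi21) (kgi xgi0 ygi32 zgi12) (kgi xgi1 ygi0 zgi29) (kgi xgi0 ygi57 zgi1) (kgi xgi0 ygi14 zgi35) (kgi xgi0 ygi14 zgi25)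 (kgi xgi0 ygi32 zgi7) (kgi xgi0 ygi56 zgi44) (kgi xgi0 ygi26 zgi51) (kgi xgi0 ygi33 zgi53) (kgi xgi0 ygi58 zgi61) (kgi xgi1 ygi9 zgi46) (kgi xgi1 ygi9 zgi50) (kgi xgi0 ygi14 zgi30) (kgi xgi1 ygi9 zgi52) (kgi xgi1 ygi10 zgi0) (kgi xgi1 ygi9 zgi49) (kgi xgi0 ygi14 zgi31) (kgi xgi0 ygi54 zgi48) (kgi xgi0 ygi35 zgi56) (kgi xgi0 ygi54 zgi45) (kgi xgi1 ygi10 zgi12) (kgi xgi1 ygi10 zgi16) (kgi xgi0 ygi14 zgi37) (kgi xgi0 ygi36 zgi15) (kgi xgi1 ygi10 zgi20) (kgi xgi0 ygi32 zgi6) (kgi xgi0 ygi31 zgi52) (kgi xgi0 ygi36 zgi13) (kgi xgi0 ygi27 zgi3) (kgi xgi0 ygi36 zgi14) (kgi xgi0 ygi25 zgi3) (kgi xgi1 ygi10 zgi28) (kgi xgi0 ygi28 zgi12) (kgi xgi0 ygi42 zgi16) (kgi xgi1 ygi10 zgi34) (kgi xgi1 ygi3 zgi26) (kgi xgi0 ygi16 zgi23) (kgi xgi0 ygi40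 zgi34) (kgi xgi0 ygi40 zgi37) (kgi xgi0 ygi38 zgi16) (kgi xgi0 ygi14 zgi45) (kgi xgi0 ygi39 zgi57) (kgi xgi0 ygi39 zgi55) (kgi xgi0 ygi14 zgi46) (kgi xgi1 ygi10 zgi46) (kgi xgi1 ygi10 zgi52) (kgi xgi1 ygi10 zgi59) (kgi xgi1 ygi10 zgi47) (kgi xgi1 ygi11 zgi3) (kgi xgi0 ygi16 zgi42) (kgi xgi1 ygi5 zgi17) (kgi xgi0 ygi14 zgi49) (kgi xgi0 ygi40 zgi36) (kgi xgi0 ygi26 zgi15)) (@D3.rec (fun _ => Pt) (kgi xgi0 ygi28 zgi55) (kgi xgi0 ygi32 zgi14) (kgi xgi0 ygi56 zgi28) (kgi xgi1 ygi11 zgi17) (kgi xgi0 ygi14 zgi53) (kgi xgi1 ygi11 zgi19) (kgi xgi1 ygi11 zgi29) (kgi xgi1 ygi11 zgi16) (kgi xgi0 ygi32 zgi18) (kgi xgi1 ygi11 zgi34) (kgi xgi1 ygi11 zgi37) (kgi xgi1 ygi11 zgi33) (kgi xgi0 ygi28 zgi48) (kgi xgi0 ygi14 zgi56) (kgi xgi0 ygi33 zgi59)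 (kgi xgi1 ygi11 zgi51) (kgi xgi0 ygi33 zgi56) (kgi xgi0 ygi27 zgi55) (kgi xgi1 ygi11 zgi59) (kgi xgi0 ygi28 zgi29) (kgi xgi1 ygi12 zgi1) (kgi xgi0 ygi14 zgi60) (kgi xgi0 ygi15 zgi0) (kgi xgi1 ygi12 zgi8) (kgi xgi0 ygi34 zgi58) (kgi xgi1 ygi12 zgi0) (kgi xgi0 ygi28 zgi37) (kgi xgi1 ygi12 zgi7) (kgi xgi0 ygi29 zgi52) (kgi xgi0 ygi27 zgi49) (kgi xgi0 ygi17 zgi7) (kgi xgi1 ygi3 zgi38) (kgi xgi1 ygi4 zgi39) (kgi xgi0 ygi17 zgi43) (kgi xgi0 ygi15 zgi4) (kgi xgi0 ygi34 zgi20) (kgi xgi1 ygi12 zgi34) (kgi xgi1 ygi12 zgi39) (kgi xgi0 ygi34 zgi16) (kgi xgi1 ygi12 zgi43) (kgi xgi0 ygi32 zgi3) (kgi xgi1 ygi12 zgi4) (kgi xgi0 ygi28 zgi46) (kgi xgi0 ygi15 zgi8) (kgi xgi0 ygi33 zgi46) (kgi xgi1 ygi12 zgi47) (kgi xgi0 ygi33 zgi43) (kgi xgi0 ygi15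 zgi10) (kgi xgi0 ygi55 zgi49) (kgi xgi1 ygi12 zgi55) (kgi xgi0 ygi55 zgi46) (kgi xgi0 ygi54 zgi39) (kgi xgi1 ygi13 zgi1) (kgi xgi1 ygi9 zgi48) (kgi xgi1 ygi13 zgi0) (kgi xgi0 ygi16 zgi6) (kgi xgi0 ygi15 zgi13) (kgi xgi0 ygi33 zgi16) (kgi xgi1 ygi13 zgi16) (kgi xgi0 ygi33 zgi13) (kgi xgi0 ygi15 zgi41) (kgi xgi1 ygi13 zgi23)) (@D3.rec (fun _ => Pt) (kgi xgi0 ygi15 zgi16) (kgi xgi0 ygi15 zgi19) (kgi xgi1 ygi13 zgi29) (kgi xgi1 ygi1 zgi7) (kgi xgi1 ygi13 zgi36) (kgi xgi0 ygi54 zgi27) (kgi xgi1 ygi2 zgi29) (kgi xgi1 ygi13 zgi22) (kgi xgi0 ygi15 zgi58) (kgi xgi1 ygi13 zgi28) (kgi xgi0 ygi17 zgi39) (kgi xgi0 ygi29 zgi35) (kgi xgi0 ygi36 zgi58) (kgi xgi1 ygi1 zgi0) (kgi xgi0 ygi38 zgi26) (kgi xgi0 ygi29 zgi53) (kgi xgi0 ygi15 zgi23) (kgi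 xgi0 ygi33 zgi38) (kgi xgi1 ygi13 zgi60) (kgi xgi1 ygi14 zgi2) (kgi xgi0 ygi33 zgi34) (kgi xgi0 ygi26 zgi59) (kgi xgi0 ygi28 zgi38) (kgi xgi0 ygi28 zgi27) (kgi xgi0 ygi59 zgi6) (kgi xgi0 ygi59 zgi43) (kgi xgi1 ygi14 zgi12) (kgi xgi0 ygi15 zgi28) (kgi xgi1 ygi14 zgi14) (kgi xgi1 ygi14 zgi24) (kgi xgi1 ygi14 zgi11) (kgi xgi0 ygi15 zgi29) (kgi xgi0 ygi34 zgi49) (kgi xgi1 ygi13 zgi13) (kgi xgi0 ygi34 zgi46) (kgi xgi0 ygi15 zgi37) (kgi xgi0 ygi35 zgi43) (kgi xgi0 ygi34 zgi39) (kgi xgi1 ygi14 zgi39) (kgi xgi0 ygi15 zgi33) (kgi xgi0 ygi34 zgi37) (kgi xgi1 ygi14 zgi45) (kgi xgi0 ygi15 zgi34) (kgi xgi1 ygi14 zgi41) (kgi xgi1 ygi14 zgi54) (kgi xgi1 ygi14 zgi38) (kgi xgi0 ygi15 zgi35) (kgi xgi0 ygi34 zgi34) (kgi xgi1 ygi11 zgi48) (kgi xgi0 ygi34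 zgi31) (kgi xgi1 ygi15 zgi4) (kgi xgi1 ygi14 zgi50) (kgi xgi0 ygi15 zgi39) (kgi xgi1 ygi14 zgi29) (kgi xgi0 ygi33 zgi60) (kgi xgi1 ygi11 zgi25) (kgi xgi0 ygi34 zgi54) (kgi xgi1 ygi15 zgi19) (kgi xgi0 ygi34 zgi52) (kgi xgi1 ygi15 zgi22) (kgi xgi0 ygi15 zgi43) (kgi xgi0 ygi15 zgi51)) (@D3.rec (fun _ => Pt) (kgi xgi1 ygi15 zgi32) (kgi xgi0 ygi15 zgi48) (kgi xgi0 ygi27 zgi16) (kgi xgi0 ygi59 zgi61) (kgi xgi0 ygi15 zgi46) (kgi xgi1 ygi14 zgi19) (kgi xgi0 ygi15 zgi47) (kgi xgi1 ygi15 zgi24) (kgi xgi1 ygi15 zgi47) (kgi xgi1 ygi12 zgi60) (kgi xgi0 ygi55 zgi28) (kgi xgi1 ygi14 zgi35) (kgi xgi1 ygi15 zgi58) (kgi xgi1 ygi15 zgi61) (kgi xgi1 ygi16 zgi2) (kgi xgi1 ygi15 zgi53) (kgi xgi1 ygi15 zgi57) (kgi xgi1 ygi15 zgi11) (kgi xgi0 ygi15 zgi50)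 (kgi xgi1 ygi15 zgi34) (kgi xgi1 ygi16 zgi21) (kgi xgi1 ygi15 zgi31) (kgi xgi0 ygi27 zgi7) (kgi xgi1 ygi16 zgi28) (kgi xgi1 ygi0 zgi5) (kgi xgi0 ygi57 zgi46) (kgi xgi1 ygi12 zgi15) (kgi xgi0 ygi27 zgi15) (kgi xgi0 ygi15 zgi54) (kgi xgi0 ygi39 zgi22) (kgi xgi1 ygi16 zgi42) (kgi xgi0 ygi39 zgi19) (kgi xgi0 ygi15 zgi56) (kgi xgi0 ygi34 zgi22) (kgi xgi1 ygi16 zgi52) (kgi xgi1 ygi16 zgi56) (kgi xgi0 ygi15 zgi57) (kgi xgi0 ygi15 zgi60) (kgi xgi1 ygi17 zgi2) (kgi xgi1 ygi17 zgi7) (kgi xgi1 ygi2 zgi48) (kgi xgi0 ygi33 zgi26) (kgi xgi0 ygi56 zgi3) (kgi xgi0 ygi56 zgi5) (kgi xgi1 ygi17 zgi14) (kgi xgi1 ygi17 zgi18) (kgi xgi1 ygi17 zgi22) (kgi xgi1 ygi17 zgi1) (kgi xgi1 ygi17 zgi29) (kgi xgi0 ygi26 zgi23) (kgi xgi0 ygi31 zgi38) (kgi xgi1 ygi14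 zgi10) (kgi xgi0 ygi32 zgi26) (kgi xgi0 ygi26 zgi27) (kgi xgi1 ygi17 zgi42) (kgi xgi1 ygi17 zgi10) (kgi xgi1 ygi17 zgi37) (kgi xgi1 ygi17 zgi52) (kgi xgi0 ygi16 zgi2) (kgi xgi1 ygi3 zgi2) (kgi xgi1 ygi17 zgi61) (kgi xgi1 ygi18 zgi4)) (@D3.rec (fun _ => Pt) (kgi xgi1 ygi2 zgi60) (kgi xgi1 ygi18 zgi8) (kgi xgi0 ygi16 zgi4) (kgi xgi0 ygi33 zgi0) (kgi xgi1 ygi18 zgi15) (kgi xgi1 ygi18 zgi19) (kgi xgi0 ygi16 zgi5) (kgi xgi0 ygi16 zgi18) (kgi xgi1 ygi16 zgi61) (kgi xgi1 ygi18 zgi31) (kgi xgi1 ygi3 zgi11) (kgi xgi0 ygi56 zgi55) (kgi xgi0 ygi33 zgi12) (kgi xgi0 ygi54 zgi26) (kgi xgi0 ygi32 zgi31) (kgi xgi0 ygi32 zgi37) (kgi xgi0 ygi16 zgi9) (kgi xgi0 ygi16 zgi20) (kgi xgi1 ygi18 zgi46) (kgi xgi0 ygi54 zgi59) (kgi xgi1 ygi18 zgi52) (kgi xgi0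 ygi16 zgi10) (kgi xgi0 ygi39 zgi37) (kgi xgi1 ygi3 zgi18) (kgi xgi0 ygi57 zgi8) (kgi xgi0 ygi28 zgi60) (kgi xgi0 ygi16 zgi15) (kgi xgi0 ygi28 zgi45) (kgi xgi1 ygi19 zgi2) (kgi xgi0 ygi31 zgi45) (kgi xgi0 ygi31 zgi47) (kgi xgi0 ygi27 zgi0) (kgi xgi1 ygi19 zgi6) (kgi xgi1 ygi19 zgi10) (kgi xgi1 ygi16 zgi59) (kgi xgi1 ygi19 zgi16) (kgi xgi0 ygi27 zgi24) (kgi xgi0 ygi27 zgi27) (kgi xgi1 ygi19 zgi20) (kgi xgi1 ygi10 zgi40) (kgi xgi0 ygi26 zgi10) (kgi xgi1 ygi19 zgi26) (kgi xgi1 ygi19 zgi30) (kgi xgi1 ygi19 zgi33) (kgi xgi0 ygi27 zgi37) (kgi xgi0 ygi16 zgi25) (kgi xgi1 ygi3 zgi33) (kgi xgi0 ygi39 zgi43) (kgi xgi1 ygi3 zgi31) (kgi xgi1 ygi18 zgi61) (kgi xgi1 ygi9 zgi17) (kgi xgi1 ygi12 zgi46) (kgi xgi1 ygi19 zgi32) (kgi xgi1 ygi19 zgi29)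 (kgi xgi1 ygi12 zgi29) (kgi xgi0 ygi58 zgi59) (kgi xgi0 ygi16 zgi29) (kgi xgi0 ygi37 zgi37) (kgi xgi1 ygi3 zgi37) (kgi xgi1 ygi19 zgi49) (kgi xgi1 ygi19 zgi55) (kgi xgi1 ygi19 zgi39)) (@D3.rec (fun _ => Pt) (kgi xgi1 ygi19 zgi60) (kgi xgi1 ygi19 zgi54) (kgi xgi1 ygi12 zgi23) (kgi xgi0 ygi16 zgi32) (kgi xgi1 ygi20 zgi6) (kgi xgi1 ygi20 zgi11) (kgi xgi1 ygi20 zgi18) (kgi xgi1 ygi20 zgi7) (kgi xgi0 ygi16 zgi33) (kgi xgi1 ygi3 zgi54) (kgi xgi1 ygi18 zgi3) (kgi xgi1 ygi20 zgi30) (kgi xgi1 ygi3 zgi50) (kgi xgi1 ygi5 zgi11) (kgi xgi0 ygi40 zgi39) (kgi xgi1 ygi20 zgi38) (kgi xgi1 ygi20 zgi41) (kgi xgi1 ygi20 zgi45) (kgi xgi0 ygi16 zgi38) (kgi xgi0 ygi39 zgi51) (kgi xgi1 ygi20 zgi49) (kgi xgi0 ygi29 zgi28) (kgi xgi1 ygi19 zgi21) (kgi xgi1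 ygi20 zgi56) (kgi xgi0 ygi29 zgi26) (kgi xgi0 ygi16 zgi41) (kgi xgi1 ygi4 zgi9) (kgi xgi1 ygi4 zgi7) (kgi xgi1 ygi21 zgi9) (kgi xgi1 ygi21 zgi12) (kgi xgi1 ygi21 zgi15) (kgi xgi0 ygi16 zgi43) (kgi xgi1 ygi3 zgi61) (kgi xgi1 ygi21 zgi24) (kgi xgi0 ygi41 zgi2) (kgi xgi0 ygi54 zgi32) (kgi xgi0 ygi18 zgi21) (kgi xgi1 ygi5 zgi19) (kgi xgi1 ygi5 zgi52) (kgi xgi0 ygi36 zgi57) (kgi xgi0 ygi39 zgi3) (kgi xgi0 ygi29 zgi24) (kgi xgi0 ygi38 zgi1) (kgi xgi0 ygi16 zgi50) (kgi xgi0 ygi29 zgi10) (kgi xgi0 ygi36 zgi28) (kgi xgi0 ygi20 zgi3) (kgi xgi0 ygi16 zgi52) (kgi xgi1 ygi3 zgi59) (kgi xgi1 ygi21 zgi43) (kgi xgi1 ygi21 zgi47) (kgi xgi0 ygi18 zgi50) (kgi xgi1 ygi1 zgi59) (kgi xgi1 ygi6 zgi34) (kgi xgi0 ygi16 zgi57) (kgi xgi1 ygi4 zgi22) (kgi xgi1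 ygi4 zgi20) (kgi xgi1 ygi21 zgi60) (kgi xgi0 ygi16 zgi58) (kgi xgi0 ygi17 zgi0) (kgi xgi1 ygi22 zgi6) (kgi xgi1 ygi4 zgi5)) (@D3.rec (fun _ => Pt) (kgi xgi1 ygi19 zgi40) (kgi xgi1 ygi19 zgi0) (kgi xgi0 ygi16 zgi60) (kgi xgi0 ygi38 zgi4) (kgi xgi0 ygi38 zgi2) (kgi xgi0 ygi16 zgi61) (kgi xgi1 ygi4 zgi17) (kgi xgi1 ygi4 zgi15) (kgi xgi1 ygi22 zgi17) (kgi xgi1 ygi10 zgi41) (kgi xgi1 ygi22 zgi22) (kgi xgi0 ygi17 zgi1) (kgi xgi1 ygi4 zgi29) (kgi xgi1 ygi22 zgi30) (kgi xgi1 ygi4 zgi26) (kgi xgi0 ygi17 zgi10) (kgi xgi1 ygi2 zgi5) (kgi xgi1 ygi4 zgi48) (kgi xgi0 ygi17 zgi5) (kgi xgi1 ygi4 zgi42) (kgi xgi1 ygi4 zgi40) (kgi xgi1 ygi22 zgi48) (kgi xgi1 ygi22 zgi52) (kgi xgi1 ygi22 zgi55) (kgi xgi1 ygi22 zgi59) (kgi xgi1 ygi12 zgi17) (kgi xgi0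 ygi34 zgi11) (kgi xgi0 ygi17 zgi8) (kgi xgi1 ygi4 zgi34) (kgi xgi1 ygi4 zgi32) (kgi xgi1 ygi23 zgi11) (kgi xgi1 ygi23 zgi15) (kgi xgi1 ygi23 zgi18) (kgi xgi1 ygi23 zgi22) (kgi xgi1 ygi18 zgi29) (kgi xgi1 ygi4 zgi30) (kgi xgi0 ygi17 zgi11) (kgi xgi0 ygi17 zgi13) (kgi xgi1 ygi23 zgi31) (kgi xgi1 ygi23 zgi35) (kgi xgi1 ygi5 zgi40) (kgi xgi1 ygi12 zgi24) (kgi xgi0 ygi17 zgi15) (kgi xgi1 ygi22 zgi37) (kgi xgi1 ygi23 zgi34) (kgi xgi1 ygi23 zgi40) (kgi xgi1 ygi23 zgi56) (kgi xgi1 ygi8 zgi17) (kgi xgi0 ygi17 zgi14) (kgi xgi1 ygi8 zgi19) (kgi xgi1 ygi24 zgi6) (kgi xgi1 ygi24 zgi10) (kgi xgi1 ygi24 zgi13) (kgi xgi1 ygi22 zgi43) (kgi xgi1 ygi24 zgi19) (kgi xgi1 ygi23 zgi5) (kgi xgi1 ygi24 zgi26) (kgi xgi0 ygi17 zgi18) (kgi xgi1 ygi5 zgi10) (kgi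 xgi1 ygi5 zgi8) (kgi xgi0 ygi17 zgi19) (kgi xgi1 ygi3 zgi55)) (@D3.rec (fun _ => Pt) (kgi xgi1 ygi24 zgi41) (kgi xgi0 ygi40 zgi33) (kgi xgi0 ygi37 zgi40) (kgi xgi1 ygi24 zgi45) (kgi xgi1 ygi24 zgi49) (kgi xgi0 ygi27 zgi53) (kgi xgi0 ygi26 zgi25) (kgi xgi0 ygi58 zgi12) (kgi xgi1 ygi24 zgi55) (kgi xgi0 ygi17 zgi33) (kgi xgi1 ygi24 zgi57) (kgi xgi1 ygi25 zgi5) (kgi xgi1 ygi24 zgi54) (kgi xgi0 ygi26 zgi16) (kgi xgi1 ygi17 zgi9) (kgi xgi0 ygi58 zgi18) (kgi xgi0 ygi59 zgi35) (kgi xgi1 ygi13 zgi43) (kgi xgi0 ygi26 zgi24) (kgi xgi0 ygi17 zgi36) (kgi xgi0 ygi35 zgi31) (kgi xgi1 ygi25 zgi24) (kgi xgi0 ygi35 zgi28) (kgi xgi0 ygi31 zgi25) (kgi xgi1 ygi18 zgi35) (kgi xgi1 ygi0 zgi43) (kgi xgi1 ygi12 zgi32) (kgi xgi1 ygi4 zgi3) (kgi xgi1 ygi12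 zgi45) (kgi xgi0 ygi31 zgi48) (kgi xgi1 ygi0 zgi57) (kgi xgi1 ygi13 zgi8) (kgi xgi0 ygi27 zgi25) (kgi xgi1 ygi25 zgi33) (kgi xgi0 ygi25 zgi56) (kgi xgi1 ygi9 zgi14) (kgi xgi0 ygi57 zgi35) (kgi xgi0 ygi36 zgi21) (kgi xgi0 ygi17 zgi47) (kgi xgi1 ygi5 zgi25) (kgi xgi1 ygi25 zgi51) (kgi xgi1 ygi25 zgi56) (kgi xgi0 ygi57 zgi3) (kgi xgi0 ygi37 zgi18) (kgi xgi0 ygi17 zgi49) (kgi xgi1 ygi25 zgi61) (kgi xgi1 ygi26 zgi4) (kgi xgi1 ygi23 zgi29) (kgi xgi1 ygi26 zgi0) (kgi xgi1 ygi26 zgi12) (kgi xgi1 ygi26 zgi15) (kgi xgi0 ygi17 zgi52) (kgi xgi0 ygi37 zgi19) (kgi xgi0 ygi28 zgi25) (kgi xgi1 ygi26 zgi20) (kgi xgi0 ygi17 zgi56) (kgi xgi0 ygi32 zgi50) (kgi xgi0 ygi32 zgi48) (kgi xgi0 ygi17 zgi57) (kgi xgi0 ygi45 zgi20) (kgi xgi0 ygi45 zgi18) (kgi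 xgi1 ygi26 zgi28)) (@D3.rec (fun _ => Pt) (kgi xgi0 ygi19 zgi61) (kgi xgi0 ygi21 zgi55) (kgi xgi0 ygi17 zgi59) (kgi xgi0 ygi45 zgi15) (kgi xgi0 ygi45 zgi13) (kgi xgi0 ygi43 zgi33) (kgi xgi0 ygi41 zgi59) (kgi xgi0 ygi17 zgi61) (kgi xgi0 ygi18 zgi1) (kgi xgi1 ygi26 zgi43) (kgi xgi0 ygi21 zgi33) (kgi xgi0 ygi41 zgi60) (kgi xgi0 ygi18 zgi3) (kgi xgi0 ygi42 zgi22) (kgi xgi0 ygi49 zgi4) (kgi xgi0 ygi43 zgi46) (kgi xgi0 ygi19 zgi36) (kgi xgi0 ygi18 zgi2) (kgi xgi1 ygi26 zgi39) (kgi xgi1 ygi27 zgi2) (kgi xgi1 ygi27 zgi8) (kgi xgi0 ygi19 zgi40) (kgi xgi0 ygi40 zgi15) (kgi xgi1 ygi4 zgi58) (kgi xgi1 ygi27 zgi16) (kgi xgi0 ygi18 zgi5) (kgi xgi1 ygi5 zgi44) (kgi xgi1 ygi5 zgi42) (kgi xgi1 ygi27 zgi29) (kgi xgi0 ygi45 zgi17) (kgi xgi0 ygi28 zgi21)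 (kgi xgi1 ygi11 zgi9) (kgi xgi1 ygi27 zgi37) (kgi xgi0 ygi38 zgi9) (kgi xgi0 ygi18 zgi10) (kgi xgi0 ygi32 zgi45) (kgi xgi0 ygi32 zgi59) (kgi xgi0 ygi54 zgi33) (kgi xgi1 ygi27 zgi43) (kgi xgi0 ygi42 zgi0) (kgi xgi1 ygi27 zgi55) (kgi xgi0 ygi54 zgi31) (kgi xgi1 ygi27 zgi61) (kgi xgi0 ygi18 zgi47) (kgi xgi0 ygi18 zgi15) (kgi xgi1 ygi28 zgi7) (kgi xgi0 ygi28 zgi24) (kgi xgi1 ygi28 zgi13) (kgi xgi0 ygi18 zgi16) (kgi xgi1 ygi27 zgi56) (kgi xgi1 ygi27 zgi54) (kgi xgi1 ygi28 zgi22) (kgi xgi1 ygi28 zgi25) (kgi xgi0 ygi36 zgi38) (kgi xgi0 ygi18 zgi19) (kgi xgi0 ygi57 zgi36) (kgi xgi1 ygi5 zgi45) (kgi xgi0 ygi18 zgi20) (kgi xgi1 ygi6 zgi31) (kgi xgi1 ygi6 zgi29) (kgi xgi1 ygi28 zgi41) (kgi xgi1 ygi28 zgi45)) (@D3.rec (fun _ => Pt) (kgi xgi1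 ygi4 zgi2) (kgi xgi0 ygi28 zgi14) (kgi xgi0 ygi29 zgi14) (kgi xgi1 ygi27 zgi45) (kgi xgi0 ygi32 zgi32) (kgi xgi0 ygi37 zgi34) (kgi xgi0 ygi56 zgi61) (kgi xgi1 ygi11 zgi10) (kgi xgi0 ygi18 zgi25) (kgi xgi0 ygi29 zgi61) (kgi xgi0 ygi29 zgi59) (kgi xgi0 ygi31 zgi3) (kgi xgi1 ygi5 zgi34) (kgi xgi1 ygi29 zgi8) (kgi xgi0 ygi40 zgi0) (kgi xgi0 ygi18 zgi28) (kgi xgi1 ygi5 zgi60) (kgi xgi1 ygi5 zgi58) (kgi xgi0 ygi52 zgi3) (kgi xgi1 ygi29 zgi24) (kgi xgi1 ygi29 zgi27) (kgi xgi0 ygi18 zgi42) (kgi xgi0 ygi18 zgi31) (kgi xgi0 ygi47 zgi52) (kgi xgi0 ygi47 zgi10) (kgi xgi0 ygi51 zgi35) (kgi xgi1 ygi29 zgi38) (kgi xgi0 ygi47 zgi1) (kgi xgi1 ygi28 zgi60) (kgi xgi0 ygi30 zgi46) (kgi xgi0 ygi30 zgi34) (kgi xgi1 ygi5 zgi33) (kgi xgi1 ygi26 zgi52) (kgi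 xgi0 ygi42 zgi53) (kgi xgi1 ygi6 zgi44) (kgi xgi1 ygi29 zgi56) (kgi xgi0 ygi18 zgi36) (kgi xgi1 ygi6 zgi42) (kgi xgi1 ygi30 zgi4) (kgi xgi1 ygi30 zgi8) (kgi xgi0 ygi18 zgi37) (kgi xgi1 ygi29 zgi58) (kgi xgi1 ygi30 zgi17) (kgi xgi1 ygi29 zgi55) (kgi xgi1 ygi29 zgi16) (kgi xgi1 ygi24 zgi34) (kgi xgi0 ygi18 zgi39) (kgi xgi1 ygi6 zgi14) (kgi xgi1 ygi30 zgi34) (kgi xgi1 ygi6 zgi11) (kgi xgi1 ygi29 zgi17) (kgi xgi1 ygi6 zgi56) (kgi xgi1 ygi30 zgi42) (kgi xgi0 ygi19 zgi0) (kgi xgi1 ygi6 zgi19) (kgi xgi0 ygi45 zgi7) (kgi xgi0 ygi42 zgi40) (kgi xgi0 ygi18 zgi44) (kgi xgi1 ygi29 zgi0) (kgi xgi1 ygi8 zgi35) (kgi xgi1 ygi30 zgi60) (kgi xgi0 ygi40 zgi6)) (@D3.rec (fun _ => Pt) (kgi xgi0 ygi30 zgi23) (kgi xgi1 ygi31 zgi5) (kgi xgi1 ygi27 zgi47)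 (kgi xgi1 ygi27 zgi57) (kgi xgi0 ygi18 zgi48) (kgi xgi1 ygi1 zgi58) (kgi xgi0 ygi18 zgi49) (kgi xgi1 ygi5 zgi49) (kgi xgi1 ygi5 zgi47) (kgi xgi1 ygi20 zgi42) (kgi xgi1 ygi31 zgi22) (kgi xgi1 ygi4 zgi13) (kgi xgi0 ygi29 zgi20) (kgi xgi0 ygi32 zgi41) (kgi xgi0 ygi42 zgi5) (kgi xgi0 ygi29 zgi12) (kgi xgi1 ygi31 zgi26) (kgi xgi0 ygi24 zgi49) (kgi xgi1 ygi31 zgi31) (kgi xgi0 ygi40 zgi13) (kgi xgi0 ygi30 zgi41) (kgi xgi0 ygi46 zgi54) (kgi xgi1 ygi31 zgi33) (kgi xgi0 ygi30 zgi48) (kgi xgi0 ygi42 zgi26) (kgi xgi1 ygi6 zgi3) (kgi xgi1 ygi6 zgi58) (kgi xgi0 ygi18 zgi57) (kgi xgi1 ygi6 zgi1) (kgi xgi1 ygi31 zgi49) (kgi xgi1 ygi30 zgi24) (kgi xgi0 ygi18 zgi58) (kgi xgi1 ygi31 zgi43) (kgi xgi1 ygi30 zgi41) (kgi xgi0 ygi42 zgi24) (kgi xgi0 ygi18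 zgi59) (kgi xgi1 ygi6 zgi54) (kgi xgi1 ygi32 zgi7) (kgi xgi1 ygi6 zgi51) (kgi xgi1 ygi29 zgi33) (kgi xgi0 ygi30 zgi18) (kgi xgi1 ygi32 zgi15) (kgi xgi0 ygi41 zgi56) (kgi xgi1 ygi30 zgi58) (kgi xgi1 ygi6 zgi17) (kgi xgi0 ygi19 zgi2) (kgi xgi0 ygi45 zgi10) (kgi xgi0 ygi45 zgi8) (kgi xgi0 ygi23 zgi24) (kgi xgi1 ygi7 zgi29) (kgi xgi1 ygi6 zgi50) (kgi xgi0 ygi31 zgi2) (kgi xgi0 ygi43 zgi60) (kgi xgi0 ygi41 zgi29) (kgi xgi0 ygi19 zgi6) (kgi xgi1 ygi7 zgi6) (kgi xgi1 ygi32 zgi41) (kgi xgi1 ygi32 zgi44) (kgi xgi1 ygi32 zgi24) (kgi xgi1 ygi32 zgi49) (kgi xgi0 ygi45 zgi24) (kgi xgi1 ygi32 zgi55)) (@D3.rec (fun _ => Pt) (kgi xgi0 ygi19 zgi9) (kgi xgi1 ygi6 zgi61) (kgi xgi1 ygi7 zgi0) (kgi xgi0 ygi19 zgi38) (kgi xgi0 ygi23 zgi16) (kgi xgi1 ygi33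 zgi3) (kgi xgi0 ygi19 zgi13) (kgi xgi1 ygi6 zgi59) (kgi xgi0 ygi19 zgi14) (kgi xgi0 ygi30 zgi49) (kgi xgi0 ygi45 zgi25) (kgi xgi0 ygi52 zgi6) (kgi xgi0 ygi19 zgi41) (kgi xgi0 ygi19 zgi31) (kgi xgi0 ygi31 zgi4) (kgi xgi0 ygi30 zgi56) (kgi xgi0 ygi46 zgi7) (kgi xgi0 ygi19 zgi49) (kgi xgi0 ygi54 zgi16) (kgi xgi0 ygi20 zgi49) (kgi xgi1 ygi8 zgi10) (kgi xgi0 ygi51 zgi6) (kgi xgi0 ygi19 zgi22) (kgi xgi0 ygi50 zgi59) (kgi xgi1 ygi33 zgi37) (kgi xgi1 ygi33 zgi41) (kgi xgi0 ygi19 zgi23) (kgi xgi1 ygi7 zgi23) (kgi xgi1 ygi7 zgi21) (kgi xgi0 ygi45 zgi23) (kgi xgi0 ygi19 zgi51) (kgi xgi0 ygi19 zgi34) (kgi xgi1 ygi8 zgi3) (kgi xgi1 ygi33 zgi56) (kgi xgi1 ygi7 zgi17) (kgi xgi0 ygi43 zgi39) (kgi xgi0 ygi19 zgi27) (kgi xgi1 ygi7 zgi16) (kgi xgi1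 ygi34 zgi3) (kgi xgi0 ygi19 zgi28) (kgi xgi0 ygi43 zgi35) (kgi xgi0 ygi19 zgi30) (kgi xgi1 ygi7 zgi26) (kgi xgi1 ygi7 zgi24) (kgi xgi1 ygi33 zgi12) (kgi xgi0 ygi19 zgi43) (kgi xgi1 ygi27 zgi11) (kgi xgi0 ygi51 zgi1) (kgi xgi1 ygi32 zgi21) (kgi xgi1 ygi7 zgi14) (kgi xgi1 ygi34 zgi10) (kgi xgi1 ygi32 zgi26) (kgi xgi0 ygi19 zgi35) (kgi xgi0 ygi46 zgi17) (kgi xgi0 ygi49 zgi5) (kgi xgi0 ygi22 zgi31) (kgi xgi1 ygi34 zgi30) (kgi xgi1 ygi33 zgi46) (kgi xgi0 ygi43 zgi12) (kgi xgi1 ygi6 zgi57) (kgi xgi0 ygi42 zgi49) (kgi xgi1 ygi33 zgi30)) (@D3.rec (fun _ => Pt) (kgi xgi1 ygi33 zgi13) (kgi xgi1 ygi34 zgi24) (kgi xgi1 ygi34 zgi40) (kgi xgi1 ygi34 zgi29) (kgi xgi1 ygi33 zgi61) (kgi xgi0 ygi43 zgi58) (kgi xgi1 ygi34 zgi7) (kgi xgi0 ygi19 zgi42)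 (kgi xgi0 ygi19 zgi47) (kgi xgi1 ygi34 zgi51) (kgi xgi1 ygi34 zgi56) (kgi xgi1 ygi34 zgi16) (kgi xgi1 ygi35 zgi0) (kgi xgi1 ygi35 zgi5) (kgi xgi1 ygi33 zgi5) (kgi xgi1 ygi34 zgi61) (kgi xgi1 ygi35 zgi15) (kgi xgi0 ygi19 zgi45) (kgi xgi1 ygi34 zgi13) (kgi xgi1 ygi35 zgi25) (kgi xgi1 ygi35 zgi30) (kgi xgi1 ygi35 zgi35) (kgi xgi1 ygi34 zgi50) (kgi xgi0 ygi19 zgi46) (kgi xgi1 ygi34 zgi57) (kgi xgi1 ygi34 zgi55) (kgi xgi1 ygi35 zgi48) (kgi xgi0 ygi19 zgi48) (kgi xgi1 ygi26 zgi40) (kgi xgi1 ygi35 zgi56) (kgi xgi0 ygi51 zgi2) (kgi xgi1 ygi35 zgi61) (kgi xgi1 ygi36 zgi3) (kgi xgi0 ygi19 zgi50) (kgi xgi1 ygi8 zgi9) (kgi xgi1 ygi36 zgi12) (kgi xgi1 ygi8 zgi6) (kgi xgi1 ygi7 zgi12) (kgi xgi1 ygi36 zgi18) (kgi xgi1 ygi36 zgi21) (kgi xgi0 ygi19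 zgi52) (kgi xgi1 ygi8 zgi16) (kgi xgi1 ygi36 zgi29) (kgi xgi1 ygi8 zgi13) (kgi xgi0 ygi19 zgi53) (kgi xgi1 ygi4 zgi60) (kgi xgi1 ygi4 zgi61) (kgi xgi1 ygi36 zgi39) (kgi xgi0 ygi19 zgi54) (kgi xgi1 ygi8 zgi24) (kgi xgi1 ygi36 zgi49) (kgi xgi1 ygi8 zgi21) (kgi xgi1 ygi33 zgi27) (kgi xgi1 ygi11 zgi5) (kgi xgi1 ygi37 zgi0) (kgi xgi1 ygi37 zgi3) (kgi xgi1 ygi37 zgi4) (kgi xgi1 ygi36 zgi57) (kgi xgi1 ygi36 zgi61) (kgi xgi1 ygi36 zgi8) (kgi xgi1 ygi8 zgi32) (kgi xgi0 ygi19 zgi58)) (@D3.rec (fun _ => Pt) (kgi xgi1 ygi8 zgi31) (kgi xgi1 ygi37 zgi21) (kgi xgi0 ygi51 zgi5) (kgi xgi0 ygi48 zgi54) (kgi xgi1 ygi26 zgi34) (kgi xgi1 ygi6 zgi21) (kgi xgi0 ygi41 zgi14) (kgi xgi1 ygi37 zgi31) (kgi xgi0 ygi20 zgi0) (kgi xgi0 ygi42 zgi47) (kgi xgi0 ygi42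 zgi45) (kgi xgi1 ygi37 zgi35) (kgi xgi1 ygi37 zgi39) (kgi xgi0 ygi20 zgi5) (kgi xgi0 ygi40 zgi4) (kgi xgi0 ygi40 zgi2) (kgi xgi1 ygi37 zgi43) (kgi xgi0 ygi31 zgi23) (kgi xgi0 ygi20 zgi10) (kgi xgi0 ygi39 zgi60) (kgi xgi0 ygi39 zgi58) (kgi xgi0 ygi20 zgi14) (kgi xgi0 ygi42 zgi60) (kgi xgi0 ygi42 zgi48) (kgi xgi1 ygi29 zgi34) (kgi xgi1 ygi33 zgi15) (kgi xgi1 ygi37 zgi58) (kgi xgi0 ygi20 zgi17) (kgi xgi1 ygi37 zgi48) (kgi xgi1 ygi38 zgi6) (kgi xgi1 ygi38 zgi12) (kgi xgi1 ygi37 zgi57) (kgi xgi1 ygi38 zgi16) (kgi xgi1 ygi38 zgi18) (kgi xgi1 ygi8 zgi29) (kgi xgi0 ygi20 zgi20) (kgi xgi1 ygi37 zgi40) (kgi xgi1 ygi37 zgi38) (kgi xgi0 ygi42 zgi30) (kgi xgi0 ygi48 zgi5) (kgi xgi1 ygi26 zgi25) (kgi xgi0 ygi21 zgi51) (kgi xgi0 ygi21 zgi29) (kgi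 xgi1 ygi38 zgi31) (kgi xgi0 ygi46 zgi6) (kgi xgi0 ygi20 zgi46) (kgi xgi0 ygi20 zgi26) (kgi xgi0 ygi47 zgi34) (kgi xgi0 ygi51 zgi37) (kgi xgi1 ygi38 zgi51) (kgi xgi0 ygi20 zgi27) (kgi xgi0 ygi45 zgi52) (kgi xgi0 ygi45 zgi50) (kgi xgi1 ygi29 zgi15) (kgi xgi0 ygi20 zgi40) (kgi xgi0 ygi46 zgi60) (kgi xgi1 ygi38 zgi61) (kgi xgi0 ygi20 zgi34) (kgi xgi1 ygi39 zgi1) (kgi xgi0 ygi50 zgi58) (kgi xgi0 ygi51 zgi27) (kgi xgi0 ygi46 zgi50)) (@D3.rec (fun _ => Pt) (kgi xgi1 ygi39 zgi10) (kgi xgi0 ygi21 zgi2) (kgi xgi1 ygi39 zgi9) (kgi xgi0 ygi46 zgi4) (kgi xgi0 ygi22 zgi44) (kgi xgi0 ygi46 zgi25) (kgi xgi0 ygi47 zgi54) (kgi xgi0 ygi22 zgi29) (kgi xgi0 ygi43 zgi55) (kgi xgi1 ygi39 zgi20) (kgi xgi0 ygi20 zgi45) (kgi xgi1 ygi7 zgi3) (kgi xgi1 ygi33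 zgi33) (kgi xgi0 ygi51 zgi3) (kgi xgi1 ygi39 zgi27) (kgi xgi0 ygi49 zgi58) (kgi xgi0 ygi22 zgi41) (kgi xgi0 ygi20 zgi48) (kgi xgi0 ygi43 zgi16) (kgi xgi0 ygi22 zgi42) (kgi xgi0 ygi48 zgi60) (kgi xgi0 ygi50 zgi9) (kgi xgi1 ygi39 zgi24) (kgi xgi1 ygi39 zgi42) (kgi xgi1 ygi39 zgi26) (kgi xgi1 ygi39 zgi46) (kgi xgi0 ygi46 zgi16) (kgi xgi0 ygi52 zgi53) (kgi xgi1 ygi39 zgi51) (kgi xgi1 ygi39 zgi19) (kgi xgi1 ygi39 zgi55) (kgi xgi0 ygi48 zgi41) (kgi xgi0 ygi48 zgi17) (kgi xgi1 ygi39 zgi54) (kgi xgi1 ygi40 zgi5) (kgi xgi0 ygi20 zgi55) (kgi xgi0 ygi52 zgi54) (kgi xgi1 ygi40 zgi15) (kgi xgi1 ygi40 zgi19) (kgi xgi0 ygi20 zgi56) (kgi xgi1 ygi39 zgi52) (kgi xgi1 ygi39 zgi50) (kgi xgi0 ygi20 zgi57) (kgi xgi0 ygi47 zgi53) (kgi xgi1 ygi40 zgi33)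 (kgi xgi0 ygi48 zgi22) (kgi xgi0 ygi49 zgi36) (kgi xgi0 ygi54 zgi18) (kgi xgi1 ygi40 zgi40) (kgi xgi0 ygi21 zgi53) (kgi xgi0 ygi50 zgi41) (kgi xgi0 ygi21 zgi10) (kgi xgi0 ygi23 zgi59) (kgi xgi0 ygi21 zgi34) (kgi xgi0 ygi48 zgi6) (kgi xgi0 ygi48 zgi56) (kgi xgi1 ygi39 zgi12) (kgi xgi0 ygi45 zgi55) (kgi xgi0 ygi41 zgi24) (kgi xgi1 ygi40 zgi56) (kgi xgi0 ygi47 zgi60) (kgi xgi0 ygi21 zgi3)) (@D3.rec (fun _ => Pt) (kgi xgi0 ygi21 zgi7) (kgi xgi1 ygi26 zgi32) (kgi xgi0 ygi51 zgi42) (kgi xgi1 ygi41 zgi5) (kgi xgi0 ygi42 zgi21) (kgi xgi0 ygi21 zgi4) (kgi xgi0 ygi23 zgi61) (kgi xgi0 ygi21 zgi56) (kgi xgi0 ygi21 zgi30) (kgi xgi0 ygi49 zgi30) (kgi xgi0 ygi21 zgi26) (kgi xgi0 ygi51 zgi40) (kgi xgi0 ygi51 zgi41) (kgi xgi0 ygi50 zgi2) (kgi xgi1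 ygi34 zgi25) (kgi xgi1 ygi41 zgi19) (kgi xgi1 ygi40 zgi51) (kgi xgi1 ygi41 zgi25) (kgi xgi0 ygi49 zgi33) (kgi xgi0 ygi49 zgi7) (kgi xgi1 ygi41 zgi24) (kgi xgi1 ygi41 zgi35) (kgi xgi0 ygi21 zgi12) (kgi xgi1 ygi40 zgi45) (kgi xgi1 ygi41 zgi22) (kgi xgi0 ygi52 zgi51) (kgi xgi1 ygi41 zgi51) (kgi xgi1 ygi34 zgi38) (kgi xgi0 ygi21 zgi13) (kgi xgi1 ygi41 zgi20) (kgi xgi1 ygi41 zgi18) (kgi xgi1 ygi42 zgi3) (kgi xgi0 ygi21 zgi15) (kgi xgi1 ygi40 zgi50) (kgi xgi0 ygi45 zgi46) (kgi xgi1 ygi42 zgi10) (kgi xgi0 ygi21 zgi17) (kgi xgi0 ygi47 zgi38) (kgi xgi0 ygi47 zgi36) (kgi xgi0 ygi51 zgi17) (kgi xgi0 ygi21 zgi21) (kgi xgi0 ygi49 zgi41) (kgi xgi1 ygi42 zgi13) (kgi xgi1 ygi42 zgi24) (kgi xgi0 ygi47 zgi47) (kgi xgi1 ygi42 zgi22) (kgi xgi0 ygi22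 zgi15) (kgi xgi0 ygi47 zgi40) (kgi xgi1 ygi37 zgi46) (kgi xgi0 ygi21 zgi59) (kgi xgi1 ygi31 zgi34) (kgi xgi0 ygi48 zgi48) (kgi xgi0 ygi41 zgi22) (kgi xgi0 ygi46 zgi42) (kgi xgi0 ygi21 zgi27) (kgi xgi1 ygi42 zgi34) (kgi xgi0 ygi48 zgi59) (kgi xgi0 ygi47 zgi49) (kgi xgi1 ygi39 zgi34) (kgi xgi1 ygi42 zgi44) (kgi xgi0 ygi46 zgi57) (kgi xgi0 ygi23 zgi31)) (@D3.rec (fun _ => Pt) (kgi xgi0 ygi47 zgi9) (kgi xgi1 ygi42 zgi50) (kgi xgi1 ygi42 zgi14) (kgi xgi0 ygi21 zgi32) (kgi xgi0 ygi21 zgi44) (kgi xgi0 ygi49 zgi3) (kgi xgi0 ygi47 zgi4) (kgi xgi0 ygi46 zgi9) (kgi xgi1 ygi41 zgi29) (kgi xgi1 ygi41 zgi30) (kgi xgi1 ygi43 zgi2) (kgi xgi0 ygi49 zgi21) (kgi xgi1 ygi43 zgi8) (kgi xgi0 ygi21 zgi37) (kgi xgi0 ygi21 zgi45) (kgi xgi0 ygi49 zgi46) (kgi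 xgi0 ygi21 zgi42) (kgi xgi1 ygi42 zgi40) (kgi xgi1 ygi43 zgi16) (kgi xgi0 ygi54 zgi1) (kgi xgi0 ygi52 zgi50) (kgi xgi0 ygi52 zgi37) (kgi xgi1 ygi40 zgi41) (kgi xgi0 ygi21 zgi40) (kgi xgi0 ygi49 zgi12) (kgi xgi1 ygi43 zgi35) (kgi xgi1 ygi43 zgi39) (kgi xgi0 ygi21 zgi41) (kgi xgi1 ygi43 zgi10) (kgi xgi0 ygi23 zgi48) (kgi xgi1 ygi43 zgi7) (kgi xgi1 ygi42 zgi41) (kgi xgi1 ygi40 zgi48) (kgi xgi1 ygi43 zgi58) (kgi xgi1 ygi43 zgi55) (kgi xgi0 ygi49 zgi14) (kgi xgi1 ygi42 zgi57) (kgi xgi1 ygi44 zgi6) (kgi xgi0 ygi49 zgi11) (kgi xgi0 ygi53 zgi55) (kgi xgi0 ygi50 zgi42) (kgi xgi1 ygi44 zgi14) (kgi xgi1 ygi44 zgi13) (kgi xgi0 ygi54 zgi0) (kgi xgi0 ygi21 zgi50) (kgi xgi0 ygi45 zgi41) (kgi xgi1 ygi40 zgi54) (kgi xgi0 ygi48 zgi45) (kgi xgi0 ygi48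 zgi44) (kgi xgi1 ygi38 zgi39) (kgi xgi1 ygi44 zgi27) (kgi xgi0 ygi46 zgi49) (kgi xgi0 ygi24 zgi22) (kgi xgi1 ygi26 zgi42) (kgi xgi0 ygi45 zgi5) (kgi xgi0 ygi47 zgi5) (kgi xgi0 ygi47 zgi7) (kgi xgi0 ygi47 zgi13) (kgi xgi0 ygi47 zgi57) (kgi xgi0 ygi45 zgi42) (kgi xgi1 ygi34 zgi23) (kgi xgi0 ygi21 zgi60)) (@D3.rec (fun _ => Pt) (kgi xgi0 ygi47 zgi19) (kgi xgi1 ygi44 zgi42) (kgi xgi1 ygi38 zgi56) (kgi xgi0 ygi22 zgi0) (kgi xgi0 ygi40 zgi10) (kgi xgi0 ygi44 zgi1) (kgi xgi1 ygi26 zgi54) (kgi xgi0 ygi51 zgi58) (kgi xgi1 ygi41 zgi10) (kgi xgi0 ygi51 zgi60) (kgi xgi1 ygi44 zgi58) (kgi xgi0 ygi48 zgi15) (kgi xgi0 ygi48 zgi23) (kgi xgi1 ygi45 zgi2) (kgi xgi0 ygi47 zgi18) (kgi xgi1 ygi39 zgi61) (kgi xgi1 ygi45 zgi8) (kgi xgi0 ygi46 zgi48) (kgi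 xgi0 ygi46 zgi29) (kgi xgi1 ygi45 zgi7) (kgi xgi1 ygi45 zgi16) (kgi xgi0 ygi22 zgi8) (kgi xgi0 ygi48 zgi11) (kgi xgi1 ygi45 zgi25) (kgi xgi1 ygi45 zgi28) (kgi xgi0 ygi22 zgi9) (kgi xgi1 ygi45 zgi4) (kgi xgi1 ygi45 zgi38) (kgi xgi1 ygi45 zgi1) (kgi xgi1 ygi35 zgi54) (kgi xgi1 ygi42 zgi48) (kgi xgi0 ygi22 zgi11) (kgi xgi1 ygi45 zgi45) (kgi xgi0 ygi48 zgi35) (kgi xgi0 ygi46 zgi34) (kgi xgi1 ygi40 zgi7) (kgi xgi0 ygi46 zgi47) (kgi xgi0 ygi49 zgi39) (kgi xgi0 ygi53 zgi34) (kgi xgi0 ygi47 zgi46) (kgi xgi1 ygi38 zgi46) (kgi xgi0 ygi47 zgi45) (kgi xgi1 ygi45 zgi58) (kgi xgi0 ygi23 zgi18) (kgi xgi0 ygi52 zgi11) (kgi xgi0 ygi53 zgi19) (kgi xgi0 ygi48 zgi38) (kgi xgi0 ygi23 zgi26) (kgi xgi0 ygi52 zgi36) (kgi xgi0 ygi50 zgi3) (kgi xgi1 ygi46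 zgi9) (kgi xgi0 ygi22 zgi25) (kgi xgi0 ygi50 zgi1) (kgi xgi1 ygi43 zgi32) (kgi xgi1 ygi46 zgi18) (kgi xgi0 ygi22 zgi26) (kgi xgi1 ygi46 zgi10) (kgi xgi1 ygi46 zgi8) (kgi xgi1 ygi46 zgi29) (kgi xgi1 ygi38 zgi55) (kgi xgi0 ygi22 zgi30) (kgi xgi0 ygi23 zgi46)) (@D3.rec (fun _ => Pt) (kgi xgi1 ygi44 zgi39) (kgi xgi0 ygi49 zgi51) (kgi xgi1 ygi42 zgi6) (kgi xgi0 ygi22 zgi35) (kgi xgi0 ygi49 zgi49) (kgi xgi1 ygi45 zgi22) (kgi xgi1 ygi46 zgi44) (kgi xgi0 ygi22 zgi36) (kgi xgi1 ygi44 zgi35) (kgi xgi1 ygi39 zgi35) (kgi xgi0 ygi23 zgi32) (kgi xgi0 ygi44 zgi2) (kgi xgi0 ygi51 zgi59) (kgi xgi1 ygi39 zgi6) (kgi xgi1 ygi38 zgi57) (kgi xgi0 ygi22 zgi46) (kgi xgi1 ygi46 zgi57) (kgi xgi1 ygi46 zgi60) (kgi xgi1 ygi47 zgi0) (kgi xgi0 ygi54 zgi14) (kgi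 xgi0 ygi54 zgi17) (kgi xgi0 ygi46 zgi13) (kgi xgi0 ygi52 zgi14) (kgi xgi1 ygi46 zgi56) (kgi xgi1 ygi40 zgi0) (kgi xgi0 ygi54 zgi11) (kgi xgi0 ygi51 zgi18) (kgi xgi1 ygi47 zgi19) (kgi xgi1 ygi47 zgi21) (kgi xgi0 ygi47 zgi43) (kgi xgi0 ygi47 zgi16) (kgi xgi1 ygi39 zgi37) (kgi xgi1 ygi47 zgi30) (kgi xgi0 ygi22 zgi51) (kgi xgi0 ygi50 zgi61) (kgi xgi1 ygi47 zgi39) (kgi xgi1 ygi47 zgi43) (kgi xgi0 ygi22 zgi52) (kgi xgi1 ygi47 zgi20) (kgi xgi1 ygi47 zgi18) (kgi xgi0 ygi47 zgi21) (kgi xgi0 ygi24 zgi26) (kgi xgi0 ygi48 zgi42) (kgi xgi1 ygi41 zgi36) (kgi xgi0 ygi47 zgi42) (kgi xgi0 ygi22 zgi56) (kgi xgi0 ygi22 zgi59) (kgi xgi1 ygi48 zgi1) (kgi xgi1 ygi48 zgi5) (kgi xgi0 ygi24 zgi24) (kgi xgi0 ygi22 zgi58) (kgi xgi0 ygi23 zgi43) (kgi xgi1 ygi42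 zgi4) (kgi xgi1 ygi48 zgi0) (kgi xgi1 ygi48 zgi16) (kgi xgi1 ygi48 zgi4) (kgi xgi1 ygi48 zgi21) (kgi xgi0 ygi45 zgi54) (kgi xgi1 ygi48 zgi25) (kgi xgi0 ygi43 zgi22) (kgi xgi0 ygi51 zgi10) (kgi xgi0 ygi50 zgi33)) (@D3.rec (fun _ => Pt) (kgi xgi1 ygi42 zgi37) (kgi xgi0 ygi43 zgi59) (kgi xgi0 ygi31 zgi14) (kgi xgi0 ygi30 zgi59) (kgi xgi0 ygi44 zgi30) (kgi xgi1 ygi48 zgi24) (kgi xgi0 ygi23 zgi5) (kgi xgi0 ygi43 zgi21) (kgi xgi1 ygi48 zgi45) (kgi xgi1 ygi48 zgi41) (kgi xgi0 ygi23 zgi6) (kgi xgi0 ygi50 zgi60) (kgi xgi1 ygi39 zgi41) (kgi xgi1 ygi48 zgi51) (kgi xgi1 ygi42 zgi29) (kgi xgi0 ygi23 zgi20) (kgi xgi1 ygi48 zgi50) (kgi xgi1 ygi42 zgi25) (kgi xgi0 ygi23 zgi9) (kgi xgi0 ygi50 zgi26) (kgi xgi1 ygi49 zgi7) (kgi xgi1 ygi49 zgi11) (kgi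 xgi0 ygi23 zgi10) (kgi xgi1 ygi44 zgi24) (kgi xgi1 ygi47 zgi61) (kgi xgi0 ygi51 zgi39) (kgi xgi1 ygi37 zgi56) (kgi xgi0 ygi45 zgi56) (kgi xgi0 ygi23 zgi49) (kgi xgi1 ygi42 zgi55) (kgi xgi1 ygi41 zgi9) (kgi xgi1 ygi40 zgi59) (kgi xgi1 ygi48 zgi10) (kgi xgi0 ygi50 zgi30) (kgi xgi1 ygi7 zgi2) (kgi xgi1 ygi32 zgi51) (kgi xgi1 ygi41 zgi21) (kgi xgi1 ygi41 zgi44) (kgi xgi1 ygi49 zgi37) (kgi xgi1 ygi46 zgi52) (kgi xgi0 ygi47 zgi2) (kgi xgi1 ygi42 zgi5) (kgi xgi0 ygi47 zgi11) (kgi xgi1 ygi49 zgi44) (kgi xgi1 ygi7 zgi11) (kgi xgi0 ygi23 zgi25) (kgi xgi0 ygi23 zgi34) (kgi xgi1 ygi27 zgi6) (kgi xgi1 ygi32 zgi57) (kgi xgi1 ygi33 zgi9) (kgi xgi0 ygi52 zgi4) (kgi xgi0 ygi23 zgi27) (kgi xgi0 ygi23 zgi36) (kgi xgi1 ygi50 zgi1) (kgi xgi1 ygi50 zgi5)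 (kgi xgi1 ygi50 zgi8) (kgi xgi0 ygi23 zgi28) (kgi xgi0 ygi50 zgi40) (kgi xgi0 ygi49 zgi0) (kgi xgi0 ygi50 zgi10) (kgi xgi0 ygi49 zgi1) (kgi xgi1 ygi50 zgi19)) (@D3.rec (fun _ => Pt) (kgi xgi0 ygi41 zgi25) (kgi xgi0 ygi43 zgi10) (kgi xgi1 ygi26 zgi56) (kgi xgi1 ygi32 zgi45) (kgi xgi0 ygi23 zgi35) (kgi xgi0 ygi51 zgi50) (kgi xgi1 ygi33 zgi16) (kgi xgi1 ygi50 zgi25) (kgi xgi1 ygi50 zgi4) (kgi xgi1 ygi50 zgi31) (kgi xgi0 ygi49 zgi31) (kgi xgi0 ygi49 zgi48) (kgi xgi1 ygi43 zgi23) (kgi xgi1 ygi50 zgi40) (kgi xgi1 ygi45 zgi60) (kgi xgi1 ygi50 zgi36) (kgi xgi0 ygi53 zgi46) (kgi xgi0 ygi23 zgi41) (kgi xgi0 ygi23 zgi54) (kgi xgi1 ygi50 zgi52) (kgi xgi1 ygi41 zgi38) (kgi xgi1 ygi50 zgi58) (kgi xgi0 ygi23 zgi42) (kgi xgi0 ygi23 zgi57) (kgi xgi0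 ygi23 zgi55) (kgi xgi0 ygi50 zgi22) (kgi xgi0 ygi46 zgi27) (kgi xgi1 ygi51 zgi10) (kgi xgi0 ygi23 zgi44) (kgi xgi0 ygi23 zgi47) (kgi xgi1 ygi51 zgi16) (kgi xgi1 ygi51 zgi21) (kgi xgi1 ygi51 zgi24) (kgi xgi0 ygi23 zgi45) (kgi xgi1 ygi45 zgi35) (kgi xgi0 ygi53 zgi32) (kgi xgi0 ygi49 zgi44) (kgi xgi0 ygi48 zgi18) (kgi xgi1 ygi51 zgi38) (kgi xgi1 ygi51 zgi42) (kgi xgi1 ygi51 zgi20) (kgi xgi1 ygi51 zgi48) (kgi xgi1 ygi43 zgi50) (kgi xgi1 ygi51 zgi54) (kgi xgi1 ygi43 zgi9) (kgi xgi1 ygi51 zgi58) (kgi xgi0 ygi48 zgi20) (kgi xgi0 ygi47 zgi25) (kgi xgi1 ygi51 zgi30) (kgi xgi1 ygi52 zgi7) (kgi xgi1 ygi34 zgi21) (kgi xgi1 ygi52 zgi2) (kgi xgi1 ygi51 zgi51) (kgi xgi0 ygi23 zgi51) (kgi xgi0 ygi46 zgi35) (kgi xgi1 ygi49 zgi34) (kgi xgi1 ygi52 zgi25)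 (kgi xgi0 ygi23 zgi52) (kgi xgi1 ygi35 zgi31) (kgi xgi1 ygi35 zgi29) (kgi xgi1 ygi52 zgi35) (kgi xgi1 ygi41 zgi41)) (@D3.rec (fun _ => Pt) (kgi xgi0 ygi23 zgi53) (kgi xgi1 ygi50 zgi60) (kgi xgi1 ygi52 zgi48) (kgi xgi1 ygi50 zgi57) (kgi xgi1 ygi52 zgi53) (kgi xgi1 ygi49 zgi27) (kgi xgi1 ygi51 zgi15) (kgi xgi1 ygi53 zgi3) (kgi xgi1 ygi44 zgi10) (kgi xgi1 ygi53 zgi6) (kgi xgi1 ygi52 zgi60) (kgi xgi1 ygi53 zgi2) (kgi xgi1 ygi51 zgi29) (kgi xgi1 ygi49 zgi22) (kgi xgi0 ygi23 zgi58) (kgi xgi1 ygi49 zgi24) (kgi xgi1 ygi43 zgi49) (kgi xgi1 ygi45 zgi61) (kgi xgi1 ygi31 zgi55) (kgi xgi0 ygi49 zgi8) (kgi xgi1 ygi40 zgi60) (kgi xgi1 ygi40 zgi47) (kgi xgi1 ygi53 zgi31) (kgi xgi0 ygi53 zgi38) (kgi xgi1 ygi53 zgi38) (kgi xgi0 ygi24 zgi1) (kgi xgi0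 ygi53 zgi36) (kgi xgi1 ygi49 zgi4) (kgi xgi1 ygi53 zgi47) (kgi xgi0 ygi24 zgi2) (kgi xgi1 ygi53 zgi39) (kgi xgi1 ygi53 zgi37) (kgi xgi0 ygi52 zgi13) (kgi xgi0 ygi49 zgi38) (kgi xgi1 ygi42 zgi30) (kgi xgi0 ygi54 zgi3) (kgi xgi0 ygi53 zgi25) (kgi xgi1 ygi54 zgi2) (kgi xgi0 ygi24 zgi7) (kgi xgi0 ygi53 zgi23) (kgi xgi1 ygi47 zgi36) (kgi xgi1 ygi54 zgi12) (kgi xgi0 ygi24 zgi8) (kgi xgi1 ygi54 zgi4) (kgi xgi1 ygi54 zgi21) (kgi xgi1 ygi54 zgi1) (kgi xgi0 ygi52 zgi44) (kgi xgi0 ygi24 zgi23) (kgi xgi0 ygi24 zgi10) (kgi xgi0 ygi53 zgi50) (kgi xgi0 ygi53 zgi48) (kgi xgi1 ygi54 zgi26) (kgi xgi0 ygi49 zgi35) (kgi xgi0 ygi49 zgi15) (kgi xgi1 ygi47 zgi9) (kgi xgi1 ygi44 zgi15) (kgi xgi1 ygi48 zgi56) (kgi xgi0 ygi24 zgi15) (kgi xgi1 ygi54 zgi35)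 (kgi xgi1 ygi53 zgi57) (kgi xgi1 ygi54 zgi33) (kgi xgi0 ygi49 zgi20)) (@D3.rec (fun _ => Pt) (kgi xgi0 ygi54 zgi15) (kgi xgi1 ygi45 zgi17) (kgi xgi0 ygi24 zgi18) (kgi xgi0 ygi54 zgi2) (kgi xgi0 ygi24 zgi20) (kgi xgi0 ygi50 zgi49) (kgi xgi1 ygi53 zgi43) (kgi xgi1 ygi54 zgi19) (kgi xgi1 ygi54 zgi58) (kgi xgi0 ygi50 zgi56) (kgi xgi0 ygi54 zgi5) (kgi xgi0 ygi54 zgi4) (kgi xgi1 ygi55 zgi0) (kgi xgi1 ygi47 zgi52) (kgi xgi1 ygi48 zgi23) (kgi xgi0 ygi24 zgi28) (kgi xgi1 ygi37 zgi47) (kgi xgi1 ygi39 zgi14) (kgi xgi0 ygi46 zgi46) (kgi xgi1 ygi55 zgi8) (kgi xgi1 ygi8 zgi52) (kgi xgi0 ygi24 zgi33) (kgi xgi0 ygi28 zgi2) (kgi xgi1 ygi55 zgi18) (kgi xgi0 ygi27 zgi61) (kgi xgi0 ygi25 zgi1) (kgi xgi1 ygi10 zgi23) (kgi xgi0 ygi58 zgi33) (kgi xgi0 ygi24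 zgi35) (kgi xgi1 ygi55 zgi30) (kgi xgi0 ygi28 zgi9) (kgi xgi0 ygi40 zgi43) (kgi xgi1 ygi5 zgi55) (kgi xgi0 ygi25 zgi7) (kgi xgi0 ygi24 zgi39) (kgi xgi1 ygi55 zgi43) (kgi xgi1 ygi6 zgi24) (kgi xgi1 ygi8 zgi38) (kgi xgi0 ygi33 zgi10) (kgi xgi1 ygi11 zgi38) (kgi xgi1 ygi55 zgi51) (kgi xgi0 ygi24 zgi43) (kgi xgi1 ygi55 zgi53) (kgi xgi1 ygi56 zgi0) (kgi xgi1 ygi55 zgi50) (kgi xgi0 ygi24 zgi44) (kgi xgi0 ygi32 zgi27) (kgi xgi1 ygi2 zgi58) (kgi xgi0 ygi32 zgi24) (kgi xgi1 ygi3 zgi13) (kgi xgi1 ygi26 zgi22) (kgi xgi0 ygi32 zgi11) (kgi xgi0 ygi56 zgi33) (kgi xgi0 ygi25 zgi37) (kgi xgi1 ygi3 zgi12) (kgi xgi1 ygi28 zgi54) (kgi xgi0 ygi55 zgi20) (kgi xgi1 ygi6 zgi36) (kgi xgi1 ygi56 zgi15) (kgi xgi0 ygi36 zgi39) (kgi xgi0 ygi28 zgi61) (kgi xgi0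 ygi24 zgi55)) (@D3.rec (fun _ => Pt) (kgi xgi1 ygi27 zgi38) (kgi xgi1 ygi27 zgi36) (kgi xgi1 ygi56 zgi32) (kgi xgi1 ygi56 zgi36) (kgi xgi0 ygi24 zgi57) (kgi xgi0 ygi56 zgi26) (kgi xgi0 ygi32 zgi0) (kgi xgi1 ygi19 zgi1) (kgi xgi0 ygi56 zgi24) (kgi xgi0 ygi24 zgi59) (kgi xgi1 ygi1 zgi40) (kgi xgi0 ygi32 zgi38) (kgi xgi1 ygi56 zgi50) (kgi xgi1 ygi1 zgi56) (kgi xgi1 ygi56 zgi55) (kgi xgi0 ygi28 zgi3) (kgi xgi1 ygi10 zgi11) (kgi xgi0 ygi55 zgi34) (kgi xgi0 ygi55 zgi11) (kgi xgi1 ygi10 zgi30) (kgi xgi0 ygi55 zgi9) (kgi xgi0 ygi40 zgi44) (kgi xgi1 ygi21 zgi37) (kgi xgi1 ygi22 zgi11) (kgi xgi1 ygi57 zgi9) (kgi xgi0 ygi42 zgi2) (kgi xgi0 ygi28 zgi17) (kgi xgi1 ygi57 zgi16) (kgi xgi1 ygi15 zgi28) (kgi xgi1 ygi25 zgi0) (kgi xgi1 ygi57 zgi22)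 (kgi xgi0 ygi25 zgi29) (kgi xgi0 ygi55 zgi17) (kgi xgi1 ygi57 zgi26) (kgi xgi1 ygi0 zgi25) (kgi xgi0 ygi55 zgi52) (kgi xgi0 ygi25 zgi24) (kgi xgi1 ygi57 zgi32) (kgi xgi1 ygi57 zgi28) (kgi xgi0 ygi56 zgi2) (kgi xgi1 ygi57 zgi31) (kgi xgi0 ygi55 zgi33) (kgi xgi0 ygi25 zgi17) (kgi xgi0 ygi55 zgi59) (kgi xgi1 ygi57 zgi43) (kgi xgi0 ygi55 zgi56) (kgi xgi0 ygi25 zgi19) (kgi xgi0 ygi33 zgi50) (kgi xgi1 ygi57 zgi52) (kgi xgi0 ygi33 zgi47) (kgi xgi0 ygi25 zgi26) (kgi xgi1 ygi57 zgi58) (kgi xgi0 ygi56 zgi34) (kgi xgi0 ygi55 zgi61) (kgi xgi1 ygi57 zgi57) (kgi xgi0 ygi25 zgi35) (kgi xgi0 ygi25 zgi22) (kgi xgi0 ygi55 zgi45) (kgi xgi1 ygi58 zgi7) (kgi xgi0 ygi55 zgi42) (kgi xgi1 ygi58 zgi13) (kgi xgi0 ygi55 zgi50)) (@D3.rec (fun _ => Pt) (kgi xgi1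 ygi58 zgi16) (kgi xgi1 ygi58 zgi20) (kgi xgi0 ygi55 zgi36) (kgi xgi0 ygi25 zgi27) (kgi xgi0 ygi35 zgi55) (kgi xgi0 ygi28 zgi35) (kgi xgi0 ygi25 zgi28) (kgi xgi1 ygi57 zgi20) (kgi xgi1 ygi58 zgi35) (kgi xgi1 ygi57 zgi18) (kgi xgi0 ygi28 zgi30) (kgi xgi1 ygi58 zgi41) (kgi xgi1 ygi58 zgi44) (kgi xgi1 ygi58 zgi47) (kgi xgi1 ygi58 zgi40) (kgi xgi1 ygi57 zgi30) (kgi xgi0 ygi25 zgi31) (kgi xgi1 ygi57 zgi24) (kgi xgi1 ygi59 zgi1) (kgi xgi1 ygi57 zgi21) (kgi xgi1 ygi59 zgi7) (kgi xgi1 ygi59 zgi10) (kgi xgi0 ygi25 zgi34) (kgi xgi1 ygi1 zgi36) (kgi xgi1 ygi10 zgi17) (kgi xgi1 ygi57 zgi27) (kgi xgi1 ygi9 zgi35) (kgi xgi0 ygi55 zgi41) (kgi xgi0 ygi36 zgi2) (kgi xgi1 ygi59 zgi6) (kgi xgi1 ygi12 zgi50) (kgi xgi1 ygi59 zgi14) (kgi xgi0 ygi25 zgi38)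 (kgi xgi0 ygi55 zgi7) (kgi xgi1 ygi56 zgi44) (kgi xgi1 ygi59 zgi28) (kgi xgi1 ygi0 zgi35) (kgi xgi1 ygi13 zgi38) (kgi xgi0 ygi31 zgi37) (kgi xgi0 ygi25 zgi41) (kgi xgi0 ygi59 zgi5) (kgi xgi1 ygi57 zgi40) (kgi xgi0 ygi57 zgi2) (kgi xgi0 ygi59 zgi31) (kgi xgi0 ygi59 zgi8) (kgi xgi0 ygi27 zgi35) (kgi xgi1 ygi0 zgi37) (kgi xgi1 ygi59 zgi41) (kgi xgi0 ygi25 zgi46) (kgi xgi1 ygi59 zgi43) (kgi xgi1 ygi59 zgi52) (kgi xgi1 ygi59 zgi40) (kgi xgi0 ygi25 zgi47) (kgi xgi0 ygi57 zgi25) (kgi xgi1 ygi16 zgi39) (kgi xgi0 ygi57 zgi23) (kgi xgi1 ygi13 zgi51) (kgi xgi0 ygi59 zgi27) (kgi xgi0 ygi25 zgi50) (kgi xgi0 ygi25 zgi52) (kgi xgi1 ygi13 zgi54) (kgi xgi0 ygi41 zgi3)) (@D3.rec (fun _ => Pt) (kgi xgi1 ygi12 zgi18) (kgi xgi0 ygi32 zgi9) (kgi xgi0 ygi26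 zgi54) (kgi xgi0 ygi29 zgi55) (kgi xgi0 ygi39 zgi42) (kgi xgi1 ygi5 zgi54) (kgi xgi2 ygi0 zgi14) (kgi xgi1 ygi25 zgi39) (kgi xgi0 ygi36 zgi40) (kgi xgi0 ygi54 zgi37) (kgi xgi0 ygi27 zgi46) (kgi xgi0 ygi26 zgi44) (kgi xgi0 ygi58 zgi53) (kgi xgi2 ygi0 zgi26) (kgi xgi0 ygi25 zgi61) (kgi xgi2 ygi0 zgi28) (kgi xgi2 ygi0 zgi38) (kgi xgi2 ygi0 zgi25) (kgi xgi0 ygi27 zgi47) (kgi xgi2 ygi0 zgi42) (kgi xgi1 ygi8 zgi42) (kgi xgi1 ygi11 zgi43) (kgi xgi0 ygi26 zgi37) (kgi xgi0 ygi26 zgi2) (kgi xgi1 ygi25 zgi21) (kgi xgi0 ygi56 zgi52) (kgi xgi0 ygi26 zgi4) (kgi xgi0 ygi26 zgi6) (kgi xgi1 ygi12 zgi26) (kgi xgi1 ygi5 zgi53) (kgi xgi1 ygi13 zgi46) (kgi xgi0 ygi32 zgi4) (kgi xgi0 ygi41 zgi4) (kgi xgi2 ygi0 zgi59) (kgi xgi2 ygi1 zgi1) (kgi xgi0 ygi39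 zgi34) (kgi xgi0 ygi40 zgi54) (kgi xgi0 ygi26 zgi12) (kgi xgi2 ygi1 zgi7) (kgi xgi0 ygi26 zgi13) (kgi xgi1 ygi16 zgi38) (kgi xgi0 ygi39 zgi13) (kgi xgi2 ygi1 zgi15) (kgi xgi2 ygi1 zgi18) (kgi xgi0 ygi57 zgi41) (kgi xgi2 ygi1 zgi23) (kgi xgi0 ygi57 zgi39) (kgi xgi0 ygi26 zgi17) (kgi xgi0 ygi26 zgi21) (kgi xgi2 ygi1 zgi33) (kgi xgi0 ygi26 zgi18) (kgi xgi0 ygi27 zgi60) (kgi xgi1 ygi11 zgi12) (kgi xgi2 ygi1 zgi42) (kgi xgi2 ygi1 zgi45) (kgi xgi2 ygi1 zgi48) (kgi xgi2 ygi1 zgi38) (kgi xgi2 ygi1 zgi41) (kgi xgi2 ygi1 zgi11) (kgi xgi0 ygi26 zgi20) (kgi xgi2 ygi1 zgi35) (kgi xgi2 ygi2 zgi7)) (@D3.rec (fun _ => Pt) (kgi xgi2 ygi1 zgi32) (kgi xgi0 ygi26 zgi22) (kgi xgi0 ygi35 zgi2) (kgi xgi1 ygi14 zgi8) (kgi xgi2 ygi2 zgi19) (kgi xgi2 ygi2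 zgi23) (kgi xgi0 ygi26 zgi26) (kgi xgi2 ygi2 zgi27) (kgi xgi2 ygi2 zgi31) (kgi xgi0 ygi59 zgi59) (kgi xgi0 ygi35 zgi27) (kgi xgi0 ygi59 zgi51) (kgi xgi0 ygi59 zgi50) (kgi xgi1 ygi16 zgi10) (kgi xgi1 ygi16 zgi18) (kgi xgi1 ygi19 zgi19) (kgi xgi2 ygi2 zgi26) (kgi xgi0 ygi28 zgi36) (kgi xgi1 ygi0 zgi4) (kgi xgi1 ygi15 zgi36) (kgi xgi0 ygi31 zgi33) (kgi xgi2 ygi2 zgi54) (kgi xgi2 ygi2 zgi34) (kgi xgi1 ygi9 zgi2) (kgi xgi2 ygi3 zgi1) (kgi xgi0 ygi26 zgi30) (kgi xgi0 ygi58 zgi28) (kgi xgi2 ygi3 zgi6) (kgi xgi0 ygi58 zgi25) (kgi xgi1 ygi0 zgi12) (kgi xgi2 ygi3 zgi12) (kgi xgi0 ygi26 zgi33) (kgi xgi1 ygi55 zgi16) (kgi xgi1 ygi1 zgi33) (kgi xgi0 ygi26 zgi34) (kgi xgi1 ygi9 zgi9) (kgi xgi1 ygi0 zgi53) (kgi xgi0 ygi56 zgi38) (kgi xgi0 ygi26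 zgi35) (kgi xgi0 ygi56 zgi45) (kgi xgi2 ygi3 zgi24) (kgi xgi2 ygi3 zgi28) (kgi xgi0 ygi26 zgi36) (kgi xgi0 ygi26 zgi45) (kgi xgi2 ygi2 zgi25) (kgi xgi2 ygi3 zgi39) (kgi xgi1 ygi0 zgi24) (kgi xgi0 ygi39 zgi32) (kgi xgi0 ygi31 zgi36) (kgi xgi0 ygi26 zgi39) (kgi xgi1 ygi55 zgi60) (kgi xgi0 ygi32 zgi5) (kgi xgi1 ygi0 zgi17) (kgi xgi1 ygi0 zgi16) (kgi xgi2 ygi3 zgi49) (kgi xgi2 ygi3 zgi53) (kgi xgi1 ygi17 zgi32) (kgi xgi2 ygi3 zgi35) (kgi xgi0 ygi26 zgi46) (kgi xgi0 ygi36 zgi44) (kgi xgi2 ygi3 zgi60) (kgi xgi0 ygi32 zgi15)) (@D3.rec (fun _ => Pt) (kgi xgi1 ygi9 zgi58) (kgi xgi1 ygi59 zgi26) (kgi xgi2 ygi0 zgi0) (kgi xgi0 ygi56 zgi42) (kgi xgi1 ygi58 zgi4) (kgi xgi0 ygi56 zgi39) (kgi xgi0 ygi34 zgi21) (kgi xgi1 ygi25 zgi12) (kgi xgi0 ygi33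 zgi1) (kgi xgi2 ygi4 zgi13) (kgi xgi1 ygi9 zgi57) (kgi xgi1 ygi14 zgi20) (kgi xgi0 ygi26 zgi60) (kgi xgi2 ygi4 zgi18) (kgi xgi2 ygi4 zgi29) (kgi xgi2 ygi4 zgi16) (kgi xgi0 ygi26 zgi61) (kgi xgi1 ygi18 zgi20) (kgi xgi0 ygi39 zgi23) (kgi xgi1 ygi19 zgi5) (kgi xgi2 ygi3 zgi16) (kgi xgi0 ygi27 zgi1) (kgi xgi1 ygi19 zgi4) (kgi xgi1 ygi58 zgi60) (kgi xgi1 ygi10 zgi3) (kgi xgi1 ygi59 zgi13) (kgi xgi0 ygi27 zgi4) (kgi xgi1 ygi0 zgi33) (kgi xgi0 ygi27 zgi5) (kgi xgi1 ygi25 zgi20) (kgi xgi0 ygi35 zgi22) (kgi xgi0 ygi57 zgi10) (kgi xgi1 ygi25 zgi1) (kgi xgi0 ygi59 zgi30) (kgi xgi2 ygi4 zgi60) (kgi xgi0 ygi59 zgi28) (kgi xgi0 ygi27 zgi8) (kgi xgi0 ygi27 zgi12) (kgi xgi2 ygi5 zgi7) (kgi xgi0 ygi27 zgi9) (kgi xgi2 ygi5 zgi11) (kgi xgi2 ygi5 zgi14)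 (kgi xgi2 ygi2 zgi33) (kgi xgi0 ygi35 zgi32) (kgi xgi2 ygi5 zgi10) (kgi xgi2 ygi4 zgi51) (kgi xgi0 ygi27 zgi11) (kgi xgi2 ygi5 zgi9) (kgi xgi2 ygi5 zgi32) (kgi xgi2 ygi5 zgi6) (kgi xgi0 ygi27 zgi13) (kgi xgi0 ygi39 zgi6) (kgi xgi2 ygi5 zgi42) (kgi xgi2 ygi5 zgi46) (kgi xgi0 ygi27 zgi14) (kgi xgi0 ygi27 zgi17) (kgi xgi2 ygi3 zgi34) (kgi xgi2 ygi5 zgi56) (kgi xgi0 ygi58 zgi10) (kgi xgi0 ygi39 zgi18) (kgi xgi0 ygi58 zgi2) (kgi xgi0 ygi58 zgi1))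
def fi_g_1 : D2 → D3 → Pt := @D2.rec (fun _ => D3 → Pt) (@D3.rec (fun _ => Pt) (kgi xgi2 ygi6 zgi0) (kgi xgi2 ygi6 zgi4) (kgi xgi2 ygi3 zgi31) (kgi xgi2 ygi5 zgi52) (kgi xgi0 ygi27 zgi18) (kgi xgi0 ygi35 zgi53) (kgi xgi1 ygi24 zgi53) (kgi xgi0 ygi31 zgi55) (kgi xgi2 ygi6 zgi16) (kgi xgi2 ygi5 zgi58) (kgi xgi1 ygi9 zgi3) (kgi xgi2 ygi6 zgi24) (kgi xgi0 ygi27 zgi21) (kgi xgi0 ygi58 zgi29) (kgi xgi2 ygi6 zgi31) (kgi xgi2 ygi6 zgi33) (kgi xgi0 ygi27 zgi23) (kgi xgi0 ygi57 zgi11) (kgi xgi2 ygi6 zgi40) (kgi xgi2 ygi6 zgi44) (kgi xgi0 ygi27 zgi36) (kgi xgi2 ygi5 zgi51) (kgi xgi2 ygi6 zgi51) (kgi xgi0 ygi58 zgi47) (kgi xgi0 ygi57 zgi22) (kgi xgi0 ygi55 zgi32) (kgi xgi0 ygi31 zgi57) (kgi xgi1 ygi9 zgi60) (kgi xgi0 ygi36 zgi12) (kgi xgi0 ygi32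 zgi10) (kgi xgi2 ygi6 zgi60) (kgi xgi1 ygi57 zgi56) (kgi xgi2 ygi6 zgi54) (kgi xgi0 ygi27 zgi34) (kgi xgi0 ygi28 zgi4) (kgi xgi0 ygi59 zgi26) (kgi xgi0 ygi58 zgi39) (kgi xgi0 ygi58 zgi38) (kgi xgi2 ygi7 zgi10) (kgi xgi2 ygi7 zgi14) (kgi xgi2 ygi5 zgi49) (kgi xgi2 ygi6 zgi47) (kgi xgi0 ygi28 zgi47) (kgi xgi0 ygi58 zgi58) (kgi xgi2 ygi7 zgi23) (kgi xgi0 ygi28 zgi51) (kgi xgi0 ygi27 zgi42) (kgi xgi1 ygi59 zgi11) (kgi xgi0 ygi57 zgi18) (kgi xgi0 ygi27 zgi52) (kgi xgi1 ygi13 zgi35) (kgi xgi0 ygi27 zgi44) (kgi xgi1 ygi59 zgi17) (kgi xgi0 ygi33 zgi29) (kgi xgi2 ygi0 zgi34) (kgi xgi1 ygi0 zgi48) (kgi xgi2 ygi4 zgi38) (kgi xgi1 ygi0 zgi46) (kgi xgi1 ygi1 zgi3) (kgi xgi1 ygi11 zgi58) (kgi xgi0 ygi28 zgi5) (kgi xgi2 ygi7 zgi47)) (@D3.rec (fun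 _ => Pt) (kgi xgi1 ygi0 zgi51) (kgi xgi1 ygi16 zgi3) (kgi xgi2 ygi7 zgi53) (kgi xgi0 ygi33 zgi17) (kgi xgi1 ygi58 zgi31) (kgi xgi0 ygi35 zgi14) (kgi xgi1 ygi58 zgi45) (kgi xgi1 ygi0 zgi49) (kgi xgi1 ygi13 zgi32) (kgi xgi2 ygi1 zgi49) (kgi xgi0 ygi59 zgi42) (kgi xgi0 ygi27 zgi59) (kgi xgi2 ygi2 zgi2) (kgi xgi2 ygi1 zgi26) (kgi xgi1 ygi55 zgi11) (kgi xgi2 ygi8 zgi12) (kgi xgi1 ygi8 zgi48) (kgi xgi2 ygi8 zgi15) (kgi xgi2 ygi8 zgi18) (kgi xgi2 ygi5 zgi37) (kgi xgi2 ygi7 zgi2) (kgi xgi1 ygi0 zgi32) (kgi xgi0 ygi28 zgi1) (kgi xgi1 ygi55 zgi20) (kgi xgi2 ygi8 zgi30) (kgi xgi1 ygi55 zgi17) (kgi xgi1 ygi14 zgi43) (kgi xgi2 ygi3 zgi33) (kgi xgi1 ygi59 zgi15) (kgi xgi0 ygi28 zgi7) (kgi xgi2 ygi8 zgi41) (kgi xgi2 ygi8 zgi45) (kgi xgi1 ygi55 zgi26)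 (kgi xgi0 ygi34 zgi5) (kgi xgi2 ygi3 zgi18) (kgi xgi1 ygi59 zgi23) (kgi xgi0 ygi56 zgi31) (kgi xgi1 ygi59 zgi27) (kgi xgi0 ygi55 zgi10) (kgi xgi2 ygi8 zgi56) (kgi xgi1 ygi57 zgi0) (kgi xgi1 ygi31 zgi29) (kgi xgi0 ygi28 zgi11) (kgi xgi1 ygi55 zgi33) (kgi xgi2 ygi9 zgi7) (kgi xgi2 ygi9 zgi12) (kgi xgi1 ygi55 zgi29) (kgi xgi1 ygi27 zgi34) (kgi xgi0 ygi28 zgi13) (kgi xgi0 ygi28 zgi15) (kgi xgi2 ygi9 zgi23) (kgi xgi0 ygi55 zgi13) (kgi xgi2 ygi9 zgi29) (kgi xgi1 ygi28 zgi48) (kgi xgi0 ygi37 zgi35) (kgi xgi2 ygi9 zgi35) (kgi xgi1 ygi57 zgi13) (kgi xgi2 ygi9 zgi40) (kgi xgi0 ygi28 zgi16) (kgi xgi0 ygi42 zgi4) (kgi xgi2 ygi9 zgi45) (kgi xgi1 ygi27 zgi58)) (@D3.rec (fun _ => Pt) (kgi xgi2 ygi9 zgi50) (kgi xgi1 ygi28 zgi2) (kgi xgi2 ygi9 zgi56)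 (kgi xgi0 ygi28 zgi20) (kgi xgi1 ygi10 zgi45) (kgi xgi1 ygi10 zgi44) (kgi xgi1 ygi20 zgi35) (kgi xgi1 ygi13 zgi50) (kgi xgi2 ygi10 zgi3) (kgi xgi1 ygi31 zgi3) (kgi xgi2 ygi9 zgi60) (kgi xgi0 ygi28 zgi23) (kgi xgi2 ygi10 zgi10) (kgi xgi2 ygi10 zgi16) (kgi xgi2 ygi10 zgi23) (kgi xgi2 ygi10 zgi11) (kgi xgi1 ygi2 zgi17) (kgi xgi0 ygi40 zgi46) (kgi xgi2 ygi10 zgi33) (kgi xgi1 ygi27 zgi52) (kgi xgi2 ygi10 zgi37) (kgi xgi0 ygi28 zgi26) (kgi xgi1 ygi27 zgi35) (kgi xgi2 ygi10 zgi45) (kgi xgi0 ygi28 zgi28) (kgi xgi1 ygi14 zgi59) (kgi xgi0 ygi33 zgi19) (kgi xgi1 ygi2 zgi26) (kgi xgi2 ygi10 zgi55) (kgi xgi1 ygi2 zgi24) (kgi xgi0 ygi28 zgi34) (kgi xgi2 ygi10 zgi60) (kgi xgi0 ygi28 zgi31) (kgi xgi1 ygi15 zgi37) (kgi xgi2 ygi11 zgi4) (kgi xgi2 ygi11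 zgi7) (kgi xgi2 ygi11 zgi3) (kgi xgi2 ygi10 zgi49) (kgi xgi0 ygi28 zgi33) (kgi xgi2 ygi11 zgi0) (kgi xgi2 ygi11 zgi19) (kgi xgi1 ygi58 zgi56) (kgi xgi2 ygi11 zgi25) (kgi xgi2 ygi11 zgi29) (kgi xgi0 ygi28 zgi39) (kgi xgi1 ygi18 zgi26) (kgi xgi2 ygi11 zgi36) (kgi xgi0 ygi35 zgi41) (kgi xgi0 ygi34 zgi8) (kgi xgi0 ygi35 zgi33) (kgi xgi2 ygi1 zgi58) (kgi xgi2 ygi2 zgi4) (kgi xgi1 ygi18 zgi23) (kgi xgi2 ygi2 zgi55) (kgi xgi1 ygi14 zgi36) (kgi xgi0 ygi54 zgi47) (kgi xgi2 ygi11 zgi54) (kgi xgi2 ygi11 zgi39) (kgi xgi1 ygi10 zgi9) (kgi xgi2 ygi12 zgi2) (kgi xgi0 ygi28 zgi43) (kgi xgi0 ygi36 zgi0)) (@D3.rec (fun _ => Pt) (kgi xgi2 ygi12 zgi11) (kgi xgi2 ygi12 zgi16) (kgi xgi0 ygi35 zgi58) (kgi xgi2 ygi12 zgi20) (kgi xgi0 ygi37 zgi45) (kgi xgi1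 ygi22 zgi10) (kgi xgi1 ygi3 zgi7) (kgi xgi0 ygi33 zgi42) (kgi xgi0 ygi28 zgi56) (kgi xgi2 ygi11 zgi31) (kgi xgi2 ygi12 zgi26) (kgi xgi0 ygi33 zgi55) (kgi xgi0 ygi54 zgi49) (kgi xgi0 ygi54 zgi54) (kgi xgi0 ygi28 zgi58) (kgi xgi0 ygi37 zgi22) (kgi xgi0 ygi32 zgi43) (kgi xgi2 ygi12 zgi33) (kgi xgi0 ygi28 zgi52) (kgi xgi0 ygi36 zgi23) (kgi xgi0 ygi36 zgi3) (kgi xgi2 ygi12 zgi39) (kgi xgi2 ygi12 zgi43) (kgi xgi2 ygi2 zgi47) (kgi xgi2 ygi12 zgi47) (kgi xgi2 ygi12 zgi50) (kgi xgi1 ygi56 zgi21) (kgi xgi1 ygi9 zgi12) (kgi xgi0 ygi31 zgi50) (kgi xgi2 ygi12 zgi55) (kgi xgi1 ygi18 zgi42) (kgi xgi0 ygi29 zgi1) (kgi xgi0 ygi36 zgi48) (kgi xgi0 ygi36 zgi45) (kgi xgi2 ygi12 zgi61) (kgi xgi1 ygi18 zgi44) (kgi xgi1 ygi13 zgi57) (kgi xgi0 ygi29 zgi3)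 (kgi xgi0 ygi36 zgi56) (kgi xgi2 ygi13 zgi8) (kgi xgi1 ygi18 zgi38) (kgi xgi2 ygi12 zgi59) (kgi xgi2 ygi13 zgi16) (kgi xgi1 ygi18 zgi40) (kgi xgi1 ygi13 zgi49) (kgi xgi0 ygi29 zgi6) (kgi xgi2 ygi13 zgi24) (kgi xgi2 ygi13 zgi28) (kgi xgi2 ygi13 zgi34) (kgi xgi2 ygi13 zgi11) (kgi xgi0 ygi29 zgi7) (kgi xgi0 ygi37 zgi12) (kgi xgi2 ygi12 zgi15) (kgi xgi2 ygi13 zgi46) (kgi xgi0 ygi37 zgi8) (kgi xgi0 ygi38 zgi60) (kgi xgi1 ygi3 zgi57) (kgi xgi0 ygi29 zgi11) (kgi xgi1 ygi3 zgi56) (kgi xgi0 ygi37 zgi47) (kgi xgi2 ygi13 zgi53) (kgi xgi0 ygi37 zgi31)) (@D3.rec (fun _ => Pt) (kgi xgi1 ygi32 zgi3) (kgi xgi2 ygi13 zgi60) (kgi xgi0 ygi30 zgi5) (kgi xgi0 ygi37 zgi61) (kgi xgi0 ygi41 zgi0) (kgi xgi0 ygi39 zgi27) (kgi xgi1 ygi5 zgi18) (kgi xgi0 ygi29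 zgi18) (kgi xgi0 ygi37 zgi27) (kgi xgi0 ygi37 zgi25) (kgi xgi2 ygi14 zgi13) (kgi xgi1 ygi30 zgi30) (kgi xgi2 ygi13 zgi52) (kgi xgi0 ygi30 zgi26) (kgi xgi0 ygi42 zgi11) (kgi xgi0 ygi29 zgi25) (kgi xgi0 ygi38 zgi7) (kgi xgi0 ygi38 zgi5) (kgi xgi1 ygi21 zgi41) (kgi xgi1 ygi33 zgi10) (kgi xgi0 ygi29 zgi27) (kgi xgi0 ygi37 zgi56) (kgi xgi0 ygi37 zgi54) (kgi xgi1 ygi21 zgi4) (kgi xgi2 ygi14 zgi34) (kgi xgi1 ygi33 zgi0) (kgi xgi0 ygi29 zgi29) (kgi xgi0 ygi38 zgi14) (kgi xgi1 ygi17 zgi5) (kgi xgi0 ygi38 zgi11) (kgi xgi0 ygi29 zgi38) (kgi xgi0 ygi38 zgi35) (kgi xgi0 ygi29 zgi33) (kgi xgi0 ygi38 zgi29) (kgi xgi0 ygi38 zgi27) (kgi xgi1 ygi31 zgi19) (kgi xgi2 ygi14 zgi58) (kgi xgi2 ygi15 zgi0) (kgi xgi1 ygi13 zgi45) (kgi xgi0 ygi33 zgi30) (kgi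 xgi0 ygi29 zgi36) (kgi xgi0 ygi38 zgi20) (kgi xgi0 ygi38 zgi18) (kgi xgi2 ygi15 zgi15) (kgi xgi1 ygi28 zgi37) (kgi xgi2 ygi15 zgi21) (kgi xgi2 ygi15 zgi25) (kgi xgi2 ygi12 zgi24) (kgi xgi0 ygi38 zgi15) (kgi xgi0 ygi29 zgi39) (kgi xgi0 ygi29 zgi41) (kgi xgi2 ygi15 zgi33) (kgi xgi2 ygi15 zgi40) (kgi xgi0 ygi40 zgi23) (kgi xgi1 ygi13 zgi52) (kgi xgi0 ygi29 zgi43) (kgi xgi2 ygi14 zgi6) (kgi xgi2 ygi15 zgi39) (kgi xgi2 ygi15 zgi45) (kgi xgi2 ygi15 zgi60) (kgi xgi0 ygi44 zgi44) (kgi xgi0 ygi29 zgi42)) (@D3.rec (fun _ => Pt) (kgi xgi0 ygi44 zgi46) (kgi xgi2 ygi16 zgi9) (kgi xgi2 ygi16 zgi13) (kgi xgi0 ygi38 zgi32) (kgi xgi2 ygi14 zgi52) (kgi xgi2 ygi16 zgi21) (kgi xgi2 ygi15 zgi9) (kgi xgi2 ygi16 zgi28) (kgi xgi0 ygi29 zgi46) (kgi xgi0 ygi38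 zgi59) (kgi xgi0 ygi38 zgi57) (kgi xgi0 ygi29 zgi47) (kgi xgi0 ygi37 zgi13) (kgi xgi2 ygi16 zgi40) (kgi xgi0 ygi37 zgi42) (kgi xgi0 ygi32 zgi58) (kgi xgi1 ygi4 zgi6) (kgi xgi1 ygi27 zgi41) (kgi xgi1 ygi18 zgi58) (kgi xgi0 ygi37 zgi39) (kgi xgi2 ygi16 zgi48) (kgi xgi1 ygi55 zgi40) (kgi xgi1 ygi13 zgi61) (kgi xgi2 ygi16 zgi54) (kgi xgi2 ygi0 zgi7) (kgi xgi0 ygi39 zgi38) (kgi xgi0 ygi29 zgi57) (kgi xgi1 ygi20 zgi40) (kgi xgi2 ygi15 zgi32) (kgi xgi2 ygi17 zgi5) (kgi xgi0 ygi41 zgi31) (kgi xgi1 ygi6 zgi20) (kgi xgi1 ygi6 zgi40) (kgi xgi2 ygi17 zgi7) (kgi xgi1 ygi7 zgi28) (kgi xgi0 ygi30 zgi61) (kgi xgi0 ygi30 zgi0) (kgi xgi1 ygi29 zgi1) (kgi xgi2 ygi17 zgi21) (kgi xgi2 ygi17 zgi26) (kgi xgi0 ygi38 zgi45) (kgi xgi2 ygi17 zgi31) (kgi xgi0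 ygi30 zgi2) (kgi xgi0 ygi40 zgi27) (kgi xgi0 ygi40 zgi25) (kgi xgi0 ygi30 zgi3) (kgi xgi0 ygi40 zgi56) (kgi xgi0 ygi30 zgi4) (kgi xgi0 ygi42 zgi8) (kgi xgi0 ygi42 zgi6) (kgi xgi2 ygi17 zgi48) (kgi xgi2 ygi17 zgi52) (kgi xgi0 ygi37 zgi36) (kgi xgi1 ygi11 zgi11) (kgi xgi0 ygi54 zgi50) (kgi xgi1 ygi1 zgi54) (kgi xgi0 ygi57 zgi29) (kgi xgi1 ygi27 zgi44) (kgi xgi0 ygi30 zgi9) (kgi xgi0 ygi41 zgi17) (kgi xgi0 ygi41 zgi15) (kgi xgi1 ygi26 zgi41)) (@D3.rec (fun _ => Pt) (kgi xgi1 ygi26 zgi51) (kgi xgi0 ygi42 zgi27) (kgi xgi2 ygi18 zgi0) (kgi xgi0 ygi30 zgi13) (kgi xgi0 ygi42 zgi25) (kgi xgi2 ygi18 zgi7) (kgi xgi2 ygi18 zgi11) (kgi xgi0 ygi30 zgi14) (kgi xgi2 ygi18 zgi2) (kgi xgi1 ygi31 zgi57) (kgi xgi1 ygi33 zgi14) (kgi xgi0 ygi30 zgi15)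 (kgi xgi0 ygi41 zgi49) (kgi xgi2 ygi18 zgi25) (kgi xgi0 ygi41 zgi46) (kgi xgi0 ygi42 zgi44) (kgi xgi2 ygi18 zgi29) (kgi xgi0 ygi30 zgi36) (kgi xgi1 ygi8 zgi37) (kgi xgi0 ygi41 zgi21) (kgi xgi2 ygi18 zgi37) (kgi xgi0 ygi45 zgi3) (kgi xgi2 ygi18 zgi42) (kgi xgi2 ygi18 zgi44) (kgi xgi1 ygi2 zgi19) (kgi xgi1 ygi21 zgi51) (kgi xgi0 ygi30 zgi24) (kgi xgi1 ygi57 zgi5) (kgi xgi1 ygi57 zgi4) (kgi xgi0 ygi30 zgi25) (kgi xgi0 ygi40 zgi59) (kgi xgi0 ygi40 zgi57) (kgi xgi2 ygi18 zgi55) (kgi xgi2 ygi19 zgi1) (kgi xgi0 ygi37 zgi51) (kgi xgi0 ygi54 zgi57) (kgi xgi1 ygi10 zgi32) (kgi xgi1 ygi41 zgi1) (kgi xgi1 ygi5 zgi32) (kgi xgi1 ygi28 zgi61) (kgi xgi1 ygi38 zgi32) (kgi xgi1 ygi6 zgi43) (kgi xgi0 ygi41 zgi36) (kgi xgi0 ygi42 zgi50) (kgi xgi0 ygi30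 zgi33) (kgi xgi0 ygi41 zgi34) (kgi xgi2 ygi19 zgi17) (kgi xgi2 ygi19 zgi20) (kgi xgi1 ygi29 zgi47) (kgi xgi2 ygi19 zgi26) (kgi xgi1 ygi6 zgi41) (kgi xgi0 ygi30 zgi35) (kgi xgi0 ygi42 zgi38) (kgi xgi2 ygi19 zgi33) (kgi xgi0 ygi42 zgi35) (kgi xgi1 ygi44 zgi31) (kgi xgi0 ygi41 zgi53) (kgi xgi0 ygi43 zgi47) (kgi xgi0 ygi42 zgi34) (kgi xgi0 ygi43 zgi6) (kgi xgi2 ygi14 zgi61) (kgi xgi0 ygi43 zgi0)) (@D3.rec (fun _ => Pt) (kgi xgi0 ygi30 zgi42) (kgi xgi0 ygi43 zgi2) (kgi xgi0 ygi51 zgi44) (kgi xgi0 ygi31 zgi1) (kgi xgi1 ygi7 zgi30) (kgi xgi0 ygi46 zgi11) (kgi xgi0 ygi42 zgi54) (kgi xgi1 ygi7 zgi9) (kgi xgi2 ygi19 zgi50) (kgi xgi0 ygi30 zgi47) (kgi xgi1 ygi7 zgi7) (kgi xgi0 ygi51 zgi34) (kgi xgi0 ygi31 zgi12) (kgi xgi0 ygi45 zgi4) (kgi xgi0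 ygi43 zgi51) (kgi xgi0 ygi44 zgi37) (kgi xgi0 ygi43 zgi36) (kgi xgi0 ygi30 zgi53) (kgi xgi0 ygi43 zgi34) (kgi xgi1 ygi51 zgi18) (kgi xgi2 ygi20 zgi10) (kgi xgi0 ygi30 zgi54) (kgi xgi0 ygi43 zgi28) (kgi xgi0 ygi43 zgi26) (kgi xgi0 ygi30 zgi55) (kgi xgi0 ygi43 zgi43) (kgi xgi0 ygi43 zgi41) (kgi xgi0 ygi31 zgi6) (kgi xgi1 ygi29 zgi5) (kgi xgi0 ygi42 zgi52) (kgi xgi1 ygi32 zgi30) (kgi xgi1 ygi48 zgi49) (kgi xgi0 ygi30 zgi60) (kgi xgi1 ygi32 zgi37) (kgi xgi1 ygi7 zgi4) (kgi xgi2 ygi20 zgi31) (kgi xgi2 ygi20 zgi9) (kgi xgi0 ygi43 zgi14) (kgi xgi2 ygi20 zgi25) (kgi xgi2 ygi20 zgi36) (kgi xgi2 ygi20 zgi30) (kgi xgi1 ygi7 zgi37) (kgi xgi0 ygi31 zgi5) (kgi xgi0 ygi31 zgi10) (kgi xgi2 ygi20 zgi45) (kgi xgi2 ygi20 zgi49) (kgi xgi1 ygi47 zgi8)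 (kgi xgi2 ygi20 zgi54) (kgi xgi2 ygi20 zgi59) (kgi xgi2 ygi19 zgi47) (kgi xgi2 ygi20 zgi53) (kgi xgi2 ygi21 zgi5) (kgi xgi0 ygi31 zgi8) (kgi xgi2 ygi20 zgi17) (kgi xgi2 ygi21 zgi15) (kgi xgi2 ygi21 zgi20) (kgi xgi2 ygi21 zgi25) (kgi xgi2 ygi20 zgi44) (kgi xgi0 ygi31 zgi9) (kgi xgi2 ygi20 zgi50) (kgi xgi1 ygi37 zgi7) (kgi xgi0 ygi44 zgi39)) (@D3.rec (fun _ => Pt) (kgi xgi0 ygi31 zgi11) (kgi xgi1 ygi29 zgi2) (kgi xgi2 ygi21 zgi42) (kgi xgi0 ygi43 zgi30) (kgi xgi2 ygi21 zgi47) (kgi xgi2 ygi21 zgi51) (kgi xgi0 ygi31 zgi13) (kgi xgi0 ygi44 zgi36) (kgi xgi2 ygi21 zgi59) (kgi xgi0 ygi44 zgi33) (kgi xgi0 ygi43 zgi17) (kgi xgi1 ygi48 zgi14) (kgi xgi2 ygi22 zgi5) (kgi xgi0 ygi31 zgi15) (kgi xgi0 ygi44 zgi43) (kgi xgi2 ygi22 zgi12) (kgi xgi0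 ygi44 zgi40) (kgi xgi0 ygi31 zgi16) (kgi xgi0 ygi38 zgi47) (kgi xgi0 ygi38 zgi48) (kgi xgi2 ygi22 zgi23) (kgi xgi0 ygi31 zgi17) (kgi xgi0 ygi44 zgi51) (kgi xgi2 ygi22 zgi33) (kgi xgi0 ygi44 zgi48) (kgi xgi2 ygi19 zgi60) (kgi xgi0 ygi45 zgi34) (kgi xgi1 ygi36 zgi27) (kgi xgi2 ygi22 zgi42) (kgi xgi2 ygi22 zgi38) (kgi xgi1 ygi33 zgi47) (kgi xgi0 ygi44 zgi61) (kgi xgi0 ygi31 zgi21) (kgi xgi0 ygi44 zgi60) (kgi xgi2 ygi22 zgi55) (kgi xgi0 ygi41 zgi61) (kgi xgi0 ygi40 zgi29) (kgi xgi1 ygi30 zgi52) (kgi xgi0 ygi31 zgi24) (kgi xgi2 ygi23 zgi3) (kgi xgi0 ygi59 zgi18) (kgi xgi2 ygi23 zgi8) (kgi xgi0 ygi59 zgi16) (kgi xgi0 ygi31 zgi26) (kgi xgi0 ygi31 zgi30) (kgi xgi2 ygi23 zgi17) (kgi xgi0 ygi31 zgi27) (kgi xgi1 ygi14 zgi9) (kgi xgi0 ygi54 zgi20)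 (kgi xgi2 ygi6 zgi46) (kgi xgi2 ygi6 zgi53) (kgi xgi2 ygi6 zgi34) (kgi xgi1 ygi1 zgi16) (kgi xgi2 ygi23 zgi24) (kgi xgi1 ygi59 zgi25) (kgi xgi0 ygi31 zgi29) (kgi xgi2 ygi23 zgi19) (kgi xgi2 ygi23 zgi44) (kgi xgi2 ygi23 zgi16) (kgi xgi2 ygi0 zgi24) (kgi xgi2 ygi23 zgi53) (kgi xgi2 ygi7 zgi6)) (@D3.rec (fun _ => Pt) (kgi xgi2 ygi23 zgi59) (kgi xgi2 ygi24 zgi0) (kgi xgi0 ygi58 zgi20) (kgi xgi1 ygi0 zgi7) (kgi xgi2 ygi24 zgi6) (kgi xgi2 ygi6 zgi59) (kgi xgi2 ygi24 zgi9) (kgi xgi1 ygi1 zgi21) (kgi xgi0 ygi58 zgi37) (kgi xgi0 ygi58 zgi34) (kgi xgi1 ygi2 zgi37) (kgi xgi1 ygi16 zgi11) (kgi xgi0 ygi36 zgi49) (kgi xgi2 ygi24 zgi15) (kgi xgi0 ygi36 zgi29) (kgi xgi1 ygi9 zgi16) (kgi xgi0 ygi39 zgi29) (kgi xgi1 ygi3 zgi28) (kgi xgi0 ygi31 zgi51)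 (kgi xgi1 ygi56 zgi57) (kgi xgi2 ygi24 zgi22) (kgi xgi1 ygi56 zgi54) (kgi xgi1 ygi59 zgi39) (kgi xgi2 ygi24 zgi31) (kgi xgi2 ygi3 zgi45) (kgi xgi2 ygi24 zgi37) (kgi xgi2 ygi24 zgi39) (kgi xgi2 ygi24 zgi41) (kgi xgi0 ygi35 zgi17) (kgi xgi2 ygi11 zgi12) (kgi xgi1 ygi59 zgi16) (kgi xgi1 ygi58 zgi2) (kgi xgi0 ygi55 zgi8) (kgi xgi0 ygi32 zgi2) (kgi xgi1 ygi56 zgi40) (kgi xgi1 ygi56 zgi39) (kgi xgi1 ygi13 zgi27) (kgi xgi1 ygi13 zgi26) (kgi xgi1 ygi12 zgi6) (kgi xgi1 ygi12 zgi5) (kgi xgi2 ygi24 zgi52) (kgi xgi1 ygi12 zgi51) (kgi xgi0 ygi32 zgi16) (kgi xgi1 ygi13 zgi12) (kgi xgi0 ygi33 zgi8) (kgi xgi2 ygi25 zgi0) (kgi xgi1 ygi9 zgi44) (kgi xgi2 ygi25 zgi5) (kgi xgi1 ygi9 zgi42) (kgi xgi0 ygi32 zgi19) (kgi xgi0 ygi32 zgi23) (kgi xgi2 ygi25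 zgi12) (kgi xgi0 ygi32 zgi20) (kgi xgi1 ygi59 zgi37) (kgi xgi0 ygi59 zgi0) (kgi xgi2 ygi12 zgi21) (kgi xgi2 ygi6 zgi58) (kgi xgi0 ygi59 zgi15) (kgi xgi2 ygi25 zgi17) (kgi xgi2 ygi25 zgi20) (kgi xgi2 ygi3 zgi61) (kgi xgi0 ygi32 zgi22)) (@D3.rec (fun _ => Pt) (kgi xgi2 ygi25 zgi14) (kgi xgi2 ygi25 zgi39) (kgi xgi2 ygi25 zgi11) (kgi xgi0 ygi59 zgi1) (kgi xgi2 ygi25 zgi46) (kgi xgi2 ygi12 zgi37) (kgi xgi2 ygi25 zgi53) (kgi xgi2 ygi25 zgi56) (kgi xgi1 ygi17 zgi26) (kgi xgi1 ygi2 zgi55) (kgi xgi2 ygi26 zgi1) (kgi xgi0 ygi32 zgi28) (kgi xgi0 ygi55 zgi16) (kgi xgi2 ygi8 zgi40) (kgi xgi2 ygi26 zgi6) (kgi xgi0 ygi32 zgi29) (kgi xgi1 ygi56 zgi43) (kgi xgi1 ygi9 zgi32) (kgi xgi2 ygi26 zgi9) (kgi xgi1 ygi18 zgi57) (kgi xgi0 ygi57 zgi32) (kgi xgi1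 ygi19 zgi11) (kgi xgi1 ygi19 zgi46) (kgi xgi0 ygi32 zgi35) (kgi xgi2 ygi26 zgi2) (kgi xgi2 ygi26 zgi19) (kgi xgi2 ygi26 zgi22) (kgi xgi0 ygi32 zgi39) (kgi xgi1 ygi28 zgi30) (kgi xgi1 ygi26 zgi23) (kgi xgi1 ygi56 zgi48) (kgi xgi1 ygi12 zgi20) (kgi xgi1 ygi6 zgi35) (kgi xgi0 ygi32 zgi42) (kgi xgi2 ygi26 zgi27) (kgi xgi2 ygi26 zgi32) (kgi xgi2 ygi26 zgi39) (kgi xgi2 ygi26 zgi28) (kgi xgi1 ygi17 zgi4) (kgi xgi2 ygi26 zgi47) (kgi xgi0 ygi36 zgi19) (kgi xgi0 ygi39 zgi1) (kgi xgi2 ygi9 zgi21) (kgi xgi2 ygi26 zgi53) (kgi xgi0 ygi32 zgi47) (kgi xgi1 ygi2 zgi3) (kgi xgi0 ygi32 zgi51) (kgi xgi0 ygi32 zgi53) (kgi xgi2 ygi27 zgi1) (kgi xgi2 ygi14 zgi23) (kgi xgi1 ygi20 zgi51) (kgi xgi1 ygi13 zgi58) (kgi xgi0 ygi32 zgi55) (kgi xgi2 ygi14 zgi22)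 (kgi xgi2 ygi27 zgi4) (kgi xgi2 ygi27 zgi9) (kgi xgi2 ygi27 zgi26) (kgi xgi2 ygi27 zgi30) (kgi xgi0 ygi32 zgi54) (kgi xgi2 ygi26 zgi58) (kgi xgi2 ygi27 zgi40) (kgi xgi2 ygi27 zgi45)) (@D3.rec (fun _ => Pt) (kgi xgi2 ygi27 zgi29) (kgi xgi2 ygi27 zgi23) (kgi xgi0 ygi32 zgi56) (kgi xgi1 ygi56 zgi37) (kgi xgi1 ygi56 zgi35) (kgi xgi0 ygi44 zgi57) (kgi xgi2 ygi27 zgi57) (kgi xgi0 ygi55 zgi27) (kgi xgi0 ygi41 zgi7) (kgi xgi1 ygi1 zgi47) (kgi xgi2 ygi17 zgi58) (kgi xgi1 ygi5 zgi56) (kgi xgi0 ygi57 zgi56) (kgi xgi1 ygi10 zgi5) (kgi xgi2 ygi1 zgi50) (kgi xgi2 ygi25 zgi49) (kgi xgi0 ygi33 zgi3) (kgi xgi0 ygi33 zgi7) (kgi xgi2 ygi23 zgi27) (kgi xgi0 ygi33 zgi4) (kgi xgi0 ygi57 zgi43) (kgi xgi0 ygi34 zgi55) (kgi xgi2 ygi28 zgi18) (kgi xgi2 ygi3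 zgi41) (kgi xgi2 ygi24 zgi54) (kgi xgi1 ygi58 zgi18) (kgi xgi2 ygi28 zgi17) (kgi xgi1 ygi18 zgi13) (kgi xgi0 ygi33 zgi6) (kgi xgi2 ygi28 zgi11) (kgi xgi2 ygi28 zgi35) (kgi xgi2 ygi28 zgi9) (kgi xgi2 ygi28 zgi41) (kgi xgi0 ygi33 zgi9) (kgi xgi0 ygi33 zgi11) (kgi xgi2 ygi28 zgi50) (kgi xgi2 ygi28 zgi55) (kgi xgi1 ygi12 zgi59) (kgi xgi1 ygi12 zgi58) (kgi xgi2 ygi28 zgi61) (kgi xgi2 ygi29 zgi3) (kgi xgi2 ygi28 zgi49) (kgi xgi2 ygi28 zgi48) (kgi xgi0 ygi57 zgi19) (kgi xgi1 ygi9 zgi47) (kgi xgi0 ygi34 zgi48) (kgi xgi2 ygi29 zgi18) (kgi xgi2 ygi28 zgi57) (kgi xgi1 ygi14 zgi33) (kgi xgi2 ygi29 zgi27) (kgi xgi0 ygi33 zgi15) (kgi xgi1 ygi13 zgi19) (kgi xgi2 ygi29 zgi36) (kgi xgi2 ygi29 zgi41) (kgi xgi1 ygi13 zgi15) (kgi xgi2 ygi29 zgi44) (kgi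 xgi0 ygi57 zgi42) (kgi xgi2 ygi29 zgi47) (kgi xgi0 ygi33 zgi18) (kgi xgi1 ygi0 zgi59) (kgi xgi2 ygi29 zgi54) (kgi xgi2 ygi29 zgi58)) (@D3.rec (fun _ => Pt) (kgi xgi0 ygi33 zgi20) (kgi xgi0 ygi33 zgi25) (kgi xgi2 ygi28 zgi47) (kgi xgi2 ygi30 zgi7) (kgi xgi0 ygi33 zgi39) (kgi xgi1 ygi9 zgi38) (kgi xgi1 ygi9 zgi39) (kgi xgi0 ygi33 zgi23) (kgi xgi0 ygi33 zgi27) (kgi xgi2 ygi0 zgi8) (kgi xgi0 ygi38 zgi25) (kgi xgi2 ygi30 zgi21) (kgi xgi1 ygi15 zgi27) (kgi xgi2 ygi28 zgi45) (kgi xgi1 ygi17 zgi43) (kgi xgi0 ygi35 zgi23) (kgi xgi2 ygi30 zgi32) (kgi xgi2 ygi15 zgi4) (kgi xgi0 ygi56 zgi60) (kgi xgi1 ygi55 zgi41) (kgi xgi2 ygi9 zgi0) (kgi xgi2 ygi0 zgi3) (kgi xgi2 ygi30 zgi44) (kgi xgi2 ygi13 zgi23) (kgi xgi2 ygi30 zgi46) (kgi xgi2 ygi30 zgi43)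 (kgi xgi0 ygi57 zgi30) (kgi xgi2 ygi27 zgi0) (kgi xgi2 ygi30 zgi55) (kgi xgi2 ygi13 zgi5) (kgi xgi2 ygi30 zgi57) (kgi xgi2 ygi30 zgi54) (kgi xgi0 ygi39 zgi33) (kgi xgi0 ygi33 zgi36) (kgi xgi2 ygi16 zgi52) (kgi xgi2 ygi31 zgi7) (kgi xgi2 ygi31 zgi13) (kgi xgi2 ygi31 zgi2) (kgi xgi0 ygi33 zgi37) (kgi xgi1 ygi14 zgi5) (kgi xgi2 ygi29 zgi40) (kgi xgi2 ygi31 zgi24) (kgi xgi1 ygi14 zgi1) (kgi xgi0 ygi33 zgi41) (kgi xgi1 ygi57 zgi38) (kgi xgi0 ygi33 zgi45) (kgi xgi0 ygi38 zgi0) (kgi xgi0 ygi39 zgi28) (kgi xgi0 ygi59 zgi9) (kgi xgi2 ygi31 zgi30) (kgi xgi1 ygi19 zgi12) (kgi xgi2 ygi25 zgi2) (kgi xgi2 ygi31 zgi29) (kgi xgi0 ygi59 zgi20) (kgi xgi0 ygi33 zgi49) (kgi xgi1 ygi57 zgi54) (kgi xgi2 ygi31 zgi45) (kgi xgi1 ygi57 zgi51) (kgi xgi0 ygi33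 zgi51) (kgi xgi0 ygi54 zgi38) (kgi xgi0 ygi34 zgi59) (kgi xgi2 ygi31 zgi55)) (@D3.rec (fun _ => Pt) (kgi xgi0 ygi33 zgi52) (kgi xgi0 ygi33 zgi54) (kgi xgi2 ygi30 zgi3) (kgi xgi2 ygi32 zgi4) (kgi xgi2 ygi32 zgi7) (kgi xgi2 ygi25 zgi9) (kgi xgi2 ygi30 zgi0) (kgi xgi2 ygi25 zgi47) (kgi xgi0 ygi39 zgi24) (kgi xgi1 ygi55 zgi49) (kgi xgi0 ygi34 zgi33) (kgi xgi2 ygi32 zgi25) (kgi xgi2 ygi25 zgi7) (kgi xgi1 ygi15 zgi1) (kgi xgi2 ygi32 zgi33) (kgi xgi0 ygi33 zgi58) (kgi xgi1 ygi11 zgi54) (kgi xgi2 ygi32 zgi42) (kgi xgi2 ygi32 zgi47) (kgi xgi1 ygi11 zgi50) (kgi xgi2 ygi32 zgi50) (kgi xgi2 ygi32 zgi52) (kgi xgi0 ygi33 zgi61) (kgi xgi0 ygi34 zgi7) (kgi xgi2 ygi31 zgi61) (kgi xgi2 ygi32 zgi61) (kgi xgi1 ygi9 zgi36) (kgi xgi1 ygi9 zgi37) (kgi xgi0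 ygi34 zgi2) (kgi xgi0 ygi34 zgi9) (kgi xgi2 ygi33 zgi5) (kgi xgi1 ygi4 zgi38) (kgi xgi2 ygi1 zgi17) (kgi xgi2 ygi33 zgi12) (kgi xgi1 ygi55 zgi14) (kgi xgi0 ygi34 zgi4) (kgi xgi1 ygi0 zgi50) (kgi xgi2 ygi33 zgi20) (kgi xgi0 ygi56 zgi35) (kgi xgi2 ygi33 zgi25) (kgi xgi1 ygi58 zgi39) (kgi xgi2 ygi31 zgi59) (kgi xgi2 ygi11 zgi55) (kgi xgi0 ygi39 zgi14) (kgi xgi1 ygi25 zgi47) (kgi xgi1 ygi23 zgi0) (kgi xgi0 ygi57 zgi28) (kgi xgi1 ygi23 zgi30) (kgi xgi2 ygi30 zgi12) (kgi xgi1 ygi20 zgi5) (kgi xgi2 ygi33 zgi42) (kgi xgi0 ygi59 zgi2) (kgi xgi2 ygi0 zgi57) (kgi xgi2 ygi30 zgi15) (kgi xgi0 ygi57 zgi0) (kgi xgi2 ygi33 zgi52) (kgi xgi2 ygi30 zgi9) (kgi xgi1 ygi19 zgi42) (kgi xgi2 ygi33 zgi58) (kgi xgi2 ygi30 zgi11) (kgi xgi1 ygi5 zgi22) (kgi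 xgi0 ygi34 zgi18)) (@D3.rec (fun _ => Pt) (kgi xgi0 ygi57 zgi34) (kgi xgi0 ygi34 zgi19) (kgi xgi1 ygi12 zgi42) (kgi xgi2 ygi32 zgi46) (kgi xgi2 ygi34 zgi13) (kgi xgi1 ygi12 zgi38) (kgi xgi2 ygi4 zgi25) (kgi xgi1 ygi2 zgi57) (kgi xgi1 ygi58 zgi48) (kgi xgi2 ygi25 zgi25) (kgi xgi2 ygi11 zgi57) (kgi xgi0 ygi34 zgi26) (kgi xgi0 ygi34 zgi30) (kgi xgi2 ygi1 zgi46) (kgi xgi0 ygi34 zgi27) (kgi xgi0 ygi56 zgi0) (kgi xgi0 ygi59 zgi11) (kgi xgi2 ygi30 zgi2) (kgi xgi2 ygi6 zgi55) (kgi xgi2 ygi10 zgi47) (kgi xgi2 ygi34 zgi29) (kgi xgi2 ygi34 zgi32) (kgi xgi1 ygi16 zgi50) (kgi xgi0 ygi34 zgi29) (kgi xgi2 ygi34 zgi26) (kgi xgi2 ygi34 zgi50) (kgi xgi2 ygi34 zgi24) (kgi xgi1 ygi2 zgi28) (kgi xgi2 ygi34 zgi58) (kgi xgi1 ygi15 zgi21) (kgi xgi2 ygi35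 zgi1) (kgi xgi2 ygi35 zgi4) (kgi xgi2 ygi32 zgi12) (kgi xgi1 ygi11 zgi45) (kgi xgi2 ygi35 zgi10) (kgi xgi0 ygi35 zgi15) (kgi xgi1 ygi17 zgi45) (kgi xgi2 ygi0 zgi33) (kgi xgi0 ygi34 zgi38) (kgi xgi0 ygi34 zgi45) (kgi xgi2 ygi5 zgi15) (kgi xgi0 ygi34 zgi42) (kgi xgi0 ygi35 zgi44) (kgi xgi1 ygi17 zgi11) (kgi xgi0 ygi34 zgi41) (kgi xgi2 ygi35 zgi14) (kgi xgi2 ygi35 zgi28) (kgi xgi2 ygi28 zgi12) (kgi xgi2 ygi32 zgi57) (kgi xgi1 ygi17 zgi24) (kgi xgi1 ygi15 zgi6) (kgi xgi2 ygi35 zgi31) (kgi xgi1 ygi58 zgi25) (kgi xgi0 ygi34 zgi44) (kgi xgi2 ygi35 zgi19) (kgi xgi2 ygi35 zgi45) (kgi xgi2 ygi35 zgi17) (kgi xgi0 ygi34 zgi57) (kgi xgi2 ygi35 zgi53) (kgi xgi2 ygi10 zgi57) (kgi xgi2 ygi35 zgi58) (kgi xgi2 ygi35 zgi61)) (@D3.rec (fun _ => Pt) (kgi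 xgi2 ygi29 zgi6) (kgi xgi1 ygi13 zgi10) (kgi xgi2 ygi36 zgi5) (kgi xgi0 ygi34 zgi50) (kgi xgi1 ygi15 zgi9) (kgi xgi2 ygi36 zgi11) (kgi xgi1 ygi15 zgi7) (kgi xgi0 ygi34 zgi51) (kgi xgi2 ygi35 zgi41) (kgi xgi1 ygi15 zgi3) (kgi xgi2 ygi30 zgi20) (kgi xgi2 ygi24 zgi42) (kgi xgi0 ygi34 zgi53) (kgi xgi2 ygi36 zgi25) (kgi xgi1 ygi14 zgi57) (kgi xgi2 ygi36 zgi31) (kgi xgi1 ygi14 zgi15) (kgi xgi2 ygi32 zgi51) (kgi xgi0 ygi35 zgi13) (kgi xgi1 ygi15 zgi14) (kgi xgi2 ygi36 zgi42) (kgi xgi1 ygi15 zgi12) (kgi xgi0 ygi35 zgi9) (kgi xgi2 ygi11 zgi8) (kgi xgi0 ygi35 zgi6) (kgi xgi1 ygi1 zgi1) (kgi xgi2 ygi36 zgi53) (kgi xgi2 ygi36 zgi38) (kgi xgi1 ygi15 zgi50) (kgi xgi2 ygi2 zgi40) (kgi xgi1 ygi9 zgi11) (kgi xgi0 ygi35 zgi0) (kgi xgi0 ygi35 zgi21)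 (kgi xgi2 ygi37 zgi6) (kgi xgi0 ygi35 zgi18) (kgi xgi1 ygi0 zgi9) (kgi xgi2 ygi6 zgi18) (kgi xgi0 ygi56 zgi13) (kgi xgi0 ygi35 zgi5) (kgi xgi2 ygi34 zgi46) (kgi xgi2 ygi10 zgi44) (kgi xgi1 ygi1 zgi8) (kgi xgi2 ygi37 zgi22) (kgi xgi2 ygi6 zgi5) (kgi xgi2 ygi37 zgi21) (kgi xgi2 ygi2 zgi14) (kgi xgi0 ygi35 zgi8) (kgi xgi2 ygi36 zgi50) (kgi xgi2 ygi37 zgi33) (kgi xgi2 ygi36 zgi48) (kgi xgi0 ygi35 zgi10) (kgi xgi2 ygi37 zgi40) (kgi xgi2 ygi37 zgi43) (kgi xgi0 ygi35 zgi11) (kgi xgi1 ygi1 zgi5) (kgi xgi2 ygi37 zgi50) (kgi xgi2 ygi37 zgi53) (kgi xgi0 ygi35 zgi12) (kgi xgi0 ygi35 zgi16) (kgi xgi2 ygi37 zgi61) (kgi xgi2 ygi38 zgi4) (kgi xgi2 ygi36 zgi36)) (@D3.rec (fun _ => Pt) (kgi xgi1 ygi25 zgi7) (kgi xgi1 ygi12 zgi12) (kgi xgi1 ygi15 zgi54)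 (kgi xgi1 ygi18 zgi10) (kgi xgi2 ygi38 zgi13) (kgi xgi2 ygi34 zgi28) (kgi xgi2 ygi37 zgi49) (kgi xgi2 ygi36 zgi15) (kgi xgi2 ygi37 zgi60) (kgi xgi2 ygi38 zgi28) (kgi xgi2 ygi5 zgi39) (kgi xgi2 ygi24 zgi43) (kgi xgi1 ygi57 zgi17) (kgi xgi2 ygi38 zgi37) (kgi xgi0 ygi58 zgi14) (kgi xgi2 ygi38 zgi45) (kgi xgi2 ygi38 zgi9) (kgi xgi2 ygi38 zgi36) (kgi xgi2 ygi38 zgi41) (kgi xgi2 ygi38 zgi56) (kgi xgi0 ygi35 zgi20) (kgi xgi2 ygi37 zgi9) (kgi xgi2 ygi39 zgi6) (kgi xgi2 ygi39 zgi11) (kgi xgi2 ygi37 zgi5) (kgi xgi2 ygi39 zgi17) (kgi xgi2 ygi39 zgi19) (kgi xgi2 ygi5 zgi25) (kgi xgi0 ygi35 zgi26) (kgi xgi2 ygi39 zgi23) (kgi xgi2 ygi39 zgi28) (kgi xgi2 ygi34 zgi42) (kgi xgi2 ygi1 zgi29) (kgi xgi2 ygi32 zgi17) (kgi xgi2 ygi11 zgi32) (kgi xgi0 ygi59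 zgi34) (kgi xgi0 ygi56 zgi54) (kgi xgi2 ygi39 zgi44) (kgi xgi2 ygi1 zgi25) (kgi xgi2 ygi0 zgi53) (kgi xgi2 ygi39 zgi51) (kgi xgi0 ygi35 zgi30) (kgi xgi1 ygi25 zgi27) (kgi xgi2 ygi39 zgi59) (kgi xgi2 ygi34 zgi4) (kgi xgi1 ygi25 zgi23) (kgi xgi2 ygi12 zgi19) (kgi xgi1 ygi8 zgi47) (kgi xgi0 ygi35 zgi51) (kgi xgi2 ygi11 zgi40) (kgi xgi2 ygi40 zgi9) (kgi xgi0 ygi35 zgi34) (kgi xgi2 ygi5 zgi20) (kgi xgi2 ygi40 zgi17) (kgi xgi2 ygi40 zgi22) (kgi xgi0 ygi35 zgi35) (kgi xgi2 ygi40 zgi10) (kgi xgi1 ygi14 zgi22) (kgi xgi1 ygi58 zgi38) (kgi xgi0 ygi36 zgi8) (kgi xgi2 ygi40 zgi36) (kgi xgi0 ygi36 zgi34)) (@D3.rec (fun _ => Pt) (kgi xgi2 ygi39 zgi37) (kgi xgi0 ygi35 zgi38) (kgi xgi0 ygi35 zgi47) (kgi xgi2 ygi40 zgi48) (kgi xgi1 ygi10 zgi8) (kgi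 xgi1 ygi22 zgi31) (kgi xgi0 ygi35 zgi39) (kgi xgi2 ygi11 zgi37) (kgi xgi2 ygi11 zgi35) (kgi xgi0 ygi39 zgi17) (kgi xgi1 ygi58 zgi26) (kgi xgi2 ygi3 zgi44) (kgi xgi2 ygi11 zgi24) (kgi xgi1 ygi14 zgi49) (kgi xgi1 ygi58 zgi23) (kgi xgi2 ygi41 zgi4) (kgi xgi2 ygi41 zgi8) (kgi xgi0 ygi35 zgi45) (kgi xgi1 ygi58 zgi24) (kgi xgi2 ygi41 zgi17) (kgi xgi2 ygi41 zgi22) (kgi xgi0 ygi35 zgi46) (kgi xgi2 ygi41 zgi0) (kgi xgi2 ygi5 zgi2) (kgi xgi2 ygi40 zgi61) (kgi xgi2 ygi41 zgi28) (kgi xgi1 ygi10 zgi38) (kgi xgi2 ygi41 zgi34) (kgi xgi0 ygi35 zgi48) (kgi xgi2 ygi11 zgi47) (kgi xgi2 ygi41 zgi42) (kgi xgi2 ygi11 zgi46) (kgi xgi0 ygi58 zgi44) (kgi xgi1 ygi14 zgi7) (kgi xgi2 ygi4 zgi30) (kgi xgi0 ygi57 zgi58) (kgi xgi2 ygi41 zgi55) (kgi xgi0 ygi35 zgi52)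 (kgi xgi2 ygi41 zgi61) (kgi xgi2 ygi42 zgi4) (kgi xgi2 ygi42 zgi7) (kgi xgi0 ygi35 zgi54) (kgi xgi2 ygi11 zgi56) (kgi xgi2 ygi33 zgi33) (kgi xgi2 ygi11 zgi53) (kgi xgi1 ygi58 zgi28) (kgi xgi2 ygi42 zgi20) (kgi xgi2 ygi42 zgi25) (kgi xgi2 ygi42 zgi28) (kgi xgi2 ygi42 zgi3) (kgi xgi2 ygi42 zgi34) (kgi xgi0 ygi35 zgi57) (kgi xgi2 ygi12 zgi3) (kgi xgi2 ygi12 zgi1) (kgi xgi2 ygi42 zgi41) (kgi xgi2 ygi42 zgi47) (kgi xgi2 ygi42 zgi13) (kgi xgi2 ygi42 zgi52) (kgi xgi2 ygi42 zgi46) (kgi xgi2 ygi42 zgi39) (kgi xgi0 ygi35 zgi60) (kgi xgi2 ygi42 zgi59)) (@D3.rec (fun _ => Pt) (kgi xgi2 ygi43 zgi3) (kgi xgi2 ygi43 zgi10) (kgi xgi2 ygi42 zgi60) (kgi xgi0 ygi35 zgi61) (kgi xgi0 ygi37 zgi10) (kgi xgi2 ygi43 zgi18) (kgi xgi2 ygi43 zgi21) (kgi xgi0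 ygi36 zgi1) (kgi xgi1 ygi25 zgi28) (kgi xgi2 ygi1 zgi27) (kgi xgi1 ygi15 zgi25) (kgi xgi1 ygi56 zgi3) (kgi xgi2 ygi12 zgi38) (kgi xgi2 ygi43 zgi37) (kgi xgi0 ygi36 zgi4) (kgi xgi1 ygi59 zgi18) (kgi xgi2 ygi43 zgi46) (kgi xgi2 ygi43 zgi51) (kgi xgi0 ygi36 zgi5) (kgi xgi2 ygi43 zgi38) (kgi xgi2 ygi23 zgi10) (kgi xgi1 ygi11 zgi27) (kgi xgi2 ygi25 zgi8) (kgi xgi1 ygi2 zgi45) (kgi xgi2 ygi44 zgi5) (kgi xgi1 ygi55 zgi59) (kgi xgi1 ygi2 zgi52) (kgi xgi2 ygi44 zgi12) (kgi xgi2 ygi44 zgi15) (kgi xgi2 ygi15 zgi29) (kgi xgi0 ygi36 zgi9) (kgi xgi2 ygi12 zgi27) (kgi xgi2 ygi44 zgi23) (kgi xgi2 ygi12 zgi25) (kgi xgi2 ygi44 zgi25) (kgi xgi0 ygi39 zgi31) (kgi xgi1 ygi56 zgi41) (kgi xgi2 ygi44 zgi31) (kgi xgi1 ygi3 zgi43) (kgi xgi2 ygi44 zgi36) (kgi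 xgi1 ygi3 zgi40) (kgi xgi2 ygi44 zgi41) (kgi xgi1 ygi3 zgi35) (kgi xgi2 ygi44 zgi46) (kgi xgi1 ygi3 zgi30) (kgi xgi0 ygi36 zgi18) (kgi xgi2 ygi12 zgi51) (kgi xgi2 ygi12 zgi49) (kgi xgi2 ygi44 zgi61) (kgi xgi2 ygi45 zgi3) (kgi xgi2 ygi45 zgi7) (kgi xgi0 ygi36 zgi20) (kgi xgi1 ygi25 zgi44) (kgi xgi2 ygi14 zgi42) (kgi xgi1 ygi28 zgi53) (kgi xgi1 ygi55 zgi25) (kgi xgi1 ygi10 zgi19) (kgi xgi1 ygi25 zgi49) (kgi xgi1 ygi5 zgi16) (kgi xgi2 ygi44 zgi54) (kgi xgi2 ygi31 zgi1) (kgi xgi1 ygi3 zgi27)) (@D3.rec (fun _ => Pt) (kgi xgi1 ygi5 zgi14) (kgi xgi0 ygi54 zgi52) (kgi xgi1 ygi3 zgi4) (kgi xgi1 ygi55 zgi54) (kgi xgi0 ygi59 zgi21) (kgi xgi0 ygi36 zgi32) (kgi xgi0 ygi59 zgi19) (kgi xgi2 ygi45 zgi30) (kgi xgi2 ygi45 zgi34) (kgi xgi0 ygi36 zgi33)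 (kgi xgi1 ygi59 zgi24) (kgi xgi1 ygi55 zgi22) (kgi xgi1 ygi59 zgi22) (kgi xgi2 ygi45 zgi41) (kgi xgi2 ygi41 zgi40) (kgi xgi0 ygi36 zgi35) (kgi xgi2 ygi12 zgi48) (kgi xgi2 ygi45 zgi52) (kgi xgi2 ygi12 zgi46) (kgi xgi0 ygi58 zgi7) (kgi xgi1 ygi26 zgi17) (kgi xgi1 ygi28 zgi29) (kgi xgi2 ygi45 zgi60) (kgi xgi2 ygi46 zgi2) (kgi xgi2 ygi45 zgi19) (kgi xgi0 ygi36 zgi41) (kgi xgi2 ygi13 zgi0) (kgi xgi2 ygi12 zgi60) (kgi xgi2 ygi46 zgi11) (kgi xgi0 ygi36 zgi42) (kgi xgi0 ygi36 zgi53) (kgi xgi2 ygi46 zgi19) (kgi xgi0 ygi36 zgi43) (kgi xgi0 ygi36 zgi52) (kgi xgi2 ygi46 zgi24) (kgi xgi2 ygi12 zgi54) (kgi xgi1 ygi8 zgi54) (kgi xgi1 ygi55 zgi28) (kgi xgi0 ygi36 zgi61) (kgi xgi2 ygi13 zgi14) (kgi xgi0 ygi36 zgi51) (kgi xgi1 ygi20 zgi54) (kgi xgi1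 ygi31 zgi27) (kgi xgi2 ygi46 zgi37) (kgi xgi0 ygi36 zgi54) (kgi xgi1 ygi21 zgi19) (kgi xgi2 ygi3 zgi13) (kgi xgi0 ygi37 zgi2) (kgi xgi0 ygi36 zgi59) (kgi xgi2 ygi13 zgi17) (kgi xgi2 ygi13 zgi15) (kgi xgi2 ygi46 zgi52) (kgi xgi2 ygi46 zgi56) (kgi xgi2 ygi46 zgi46) (kgi xgi0 ygi36 zgi60) (kgi xgi0 ygi37 zgi1) (kgi xgi2 ygi47 zgi5) (kgi xgi2 ygi47 zgi8) (kgi xgi2 ygi12 zgi58) (kgi xgi0 ygi37 zgi0) (kgi xgi2 ygi13 zgi9) (kgi xgi2 ygi13 zgi7)) (@D3.rec (fun _ => Pt) (kgi xgi2 ygi47 zgi20) (kgi xgi2 ygi47 zgi24) (kgi xgi2 ygi47 zgi27) (kgi xgi2 ygi47 zgi30) (kgi xgi1 ygi21 zgi30) (kgi xgi2 ygi13 zgi6) (kgi xgi0 ygi37 zgi3) (kgi xgi0 ygi37 zgi5) (kgi xgi2 ygi46 zgi31) (kgi xgi2 ygi47 zgi41) (kgi xgi2 ygi47 zgi2) (kgi xgi0 ygi37 zgi7) (kgi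 xgi2 ygi46 zgi42) (kgi xgi2 ygi47 zgi40) (kgi xgi2 ygi47 zgi45) (kgi xgi2 ygi47 zgi58) (kgi xgi2 ygi48 zgi0) (kgi xgi0 ygi37 zgi6) (kgi xgi2 ygi47 zgi35) (kgi xgi2 ygi48 zgi10) (kgi xgi2 ygi48 zgi16) (kgi xgi2 ygi47 zgi61) (kgi xgi2 ygi48 zgi19) (kgi xgi2 ygi46 zgi48) (kgi xgi2 ygi48 zgi25) (kgi xgi2 ygi47 zgi15) (kgi xgi2 ygi48 zgi31) (kgi xgi2 ygi48 zgi35) (kgi xgi2 ygi48 zgi39) (kgi xgi0 ygi37 zgi11) (kgi xgi2 ygi13 zgi47) (kgi xgi2 ygi13 zgi45) (kgi xgi2 ygi48 zgi52) (kgi xgi2 ygi16 zgi39) (kgi xgi2 ygi48 zgi56) (kgi xgi1 ygi2 zgi9) (kgi xgi2 ygi49 zgi0) (kgi xgi0 ygi37 zgi15) (kgi xgi1 ygi28 zgi23) (kgi xgi1 ygi28 zgi21) (kgi xgi0 ygi37 zgi16) (kgi xgi1 ygi5 zgi27) (kgi xgi1 ygi5 zgi26) (kgi xgi1 ygi10 zgi25) (kgi xgi0 ygi37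 zgi17) (kgi xgi1 ygi25 zgi60) (kgi xgi1 ygi19 zgi57) (kgi xgi1 ygi26 zgi14) (kgi xgi0 ygi37 zgi20) (kgi xgi1 ygi24 zgi50) (kgi xgi1 ygi24 zgi48) (kgi xgi1 ygi10 zgi55) (kgi xgi2 ygi49 zgi27) (kgi xgi1 ygi27 zgi24) (kgi xgi1 ygi19 zgi34) (kgi xgi0 ygi37 zgi23) (kgi xgi1 ygi28 zgi26) (kgi xgi1 ygi28 zgi24) (kgi xgi2 ygi49 zgi40) (kgi xgi2 ygi49 zgi43) (kgi xgi2 ygi49 zgi47) (kgi xgi2 ygi49 zgi49)) (@D3.rec (fun _ => Pt) (kgi xgi2 ygi49 zgi53) (kgi xgi1 ygi4 zgi23) (kgi xgi2 ygi49 zgi17) (kgi xgi2 ygi49 zgi52) (kgi xgi1 ygi21 zgi58) (kgi xgi2 ygi33 zgi1) (kgi xgi2 ygi14 zgi12) (kgi xgi2 ygi50 zgi7) (kgi xgi0 ygi37 zgi28) (kgi xgi2 ygi14 zgi11) (kgi xgi2 ygi50 zgi15) (kgi xgi2 ygi50 zgi19) (kgi xgi0 ygi37 zgi29) (kgi xgi2 ygi50 zgi25)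 (kgi xgi0 ygi37 zgi30) (kgi xgi2 ygi13 zgi58) (kgi xgi2 ygi50 zgi33) (kgi xgi1 ygi32 zgi0) (kgi xgi2 ygi49 zgi21) (kgi xgi2 ygi50 zgi38) (kgi xgi2 ygi50 zgi39) (kgi xgi1 ygi19 zgi45) (kgi xgi1 ygi24 zgi47) (kgi xgi0 ygi37 zgi33) (kgi xgi2 ygi13 zgi56) (kgi xgi2 ygi50 zgi53) (kgi xgi2 ygi13 zgi59) (kgi xgi1 ygi27 zgi53) (kgi xgi2 ygi10 zgi43) (kgi xgi2 ygi17 zgi50) (kgi xgi2 ygi50 zgi60) (kgi xgi2 ygi15 zgi53) (kgi xgi2 ygi50 zgi61) (kgi xgi1 ygi20 zgi4) (kgi xgi2 ygi28 zgi2) (kgi xgi2 ygi0 zgi5) (kgi xgi1 ygi57 zgi60) (kgi xgi1 ygi6 zgi28) (kgi xgi2 ygi49 zgi36) (kgi xgi1 ygi4 zgi18) (kgi xgi2 ygi49 zgi20) (kgi xgi1 ygi22 zgi15) (kgi xgi0 ygi37 zgi49) (kgi xgi2 ygi13 zgi51) (kgi xgi2 ygi51 zgi20) (kgi xgi2 ygi51 zgi23) (kgi xgi0 ygi37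 zgi50) (kgi xgi2 ygi14 zgi17) (kgi xgi1 ygi30 zgi26) (kgi xgi1 ygi26 zgi7) (kgi xgi2 ygi51 zgi33) (kgi xgi2 ygi51 zgi36) (kgi xgi2 ygi51 zgi32) (kgi xgi2 ygi27 zgi5) (kgi xgi1 ygi23 zgi28) (kgi xgi2 ygi14 zgi31) (kgi xgi2 ygi10 zgi18) (kgi xgi1 ygi23 zgi49) (kgi xgi1 ygi21 zgi1) (kgi xgi0 ygi37 zgi57) (kgi xgi2 ygi14 zgi30) (kgi xgi2 ygi51 zgi57)) (@D3.rec (fun _ => Pt) (kgi xgi2 ygi51 zgi60) (kgi xgi2 ygi26 zgi61) (kgi xgi2 ygi52 zgi3) (kgi xgi1 ygi56 zgi28) (kgi xgi2 ygi17 zgi39) (kgi xgi0 ygi37 zgi60) (kgi xgi2 ygi14 zgi26) (kgi xgi1 ygi33 zgi7) (kgi xgi2 ygi52 zgi16) (kgi xgi0 ygi39 zgi54) (kgi xgi1 ygi25 zgi42) (kgi xgi1 ygi26 zgi21) (kgi xgi1 ygi3 zgi5) (kgi xgi2 ygi27 zgi18) (kgi xgi1 ygi56 zgi22) (kgi xgi1 ygi21 zgi39) (kgi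 xgi0 ygi38 zgi8) (kgi xgi2 ygi14 zgi24) (kgi xgi2 ygi52 zgi27) (kgi xgi2 ygi52 zgi31) (kgi xgi2 ygi52 zgi35) (kgi xgi0 ygi38 zgi10) (kgi xgi2 ygi14 zgi38) (kgi xgi2 ygi52 zgi42) (kgi xgi1 ygi32 zgi58) (kgi xgi1 ygi56 zgi29) (kgi xgi2 ygi12 zgi34) (kgi xgi2 ygi27 zgi28) (kgi xgi2 ygi45 zgi13) (kgi xgi0 ygi38 zgi13) (kgi xgi2 ygi14 zgi44) (kgi xgi2 ygi14 zgi43) (kgi xgi0 ygi38 zgi46) (kgi xgi2 ygi52 zgi58) (kgi xgi2 ygi10 zgi9) (kgi xgi2 ygi16 zgi0) (kgi xgi2 ygi52 zgi57) (kgi xgi1 ygi23 zgi36) (kgi xgi2 ygi53 zgi4) (kgi xgi0 ygi38 zgi53) (kgi xgi2 ygi16 zgi37) (kgi xgi2 ygi15 zgi38) (kgi xgi2 ygi27 zgi19) (kgi xgi2 ygi16 zgi24) (kgi xgi2 ygi15 zgi14) (kgi xgi1 ygi28 zgi33) (kgi xgi2 ygi53 zgi21) (kgi xgi0 ygi38 zgi21) (kgi xgi2 ygi15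 zgi11) (kgi xgi2 ygi53 zgi30) (kgi xgi2 ygi53 zgi34) (kgi xgi0 ygi38 zgi22) (kgi xgi2 ygi15 zgi12) (kgi xgi2 ygi53 zgi43) (kgi xgi0 ygi38 zgi23) (kgi xgi2 ygi53 zgi23) (kgi xgi2 ygi53 zgi53) (kgi xgi2 ygi53 zgi20) (kgi xgi0 ygi38 zgi24) (kgi xgi2 ygi15 zgi2) (kgi xgi2 ygi54 zgi1) (kgi xgi2 ygi32 zgi1)) (@D3.rec (fun _ => Pt) (kgi xgi1 ygi13 zgi31) (kgi xgi2 ygi10 zgi17) (kgi xgi0 ygi38 zgi55) (kgi xgi0 ygi38 zgi38) (kgi xgi2 ygi54 zgi5) (kgi xgi2 ygi16 zgi17) (kgi xgi2 ygi15 zgi52) (kgi xgi2 ygi9 zgi44) (kgi xgi1 ygi31 zgi16) (kgi xgi2 ygi13 zgi38) (kgi xgi0 ygi38 zgi30) (kgi xgi2 ygi9 zgi46) (kgi xgi2 ygi54 zgi27) (kgi xgi2 ygi54 zgi31) (kgi xgi0 ygi38 zgi31) (kgi xgi2 ygi14 zgi53) (kgi xgi2 ygi54 zgi40) (kgi xgi2 ygi54 zgi44) (kgi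 xgi2 ygi16 zgi15) (kgi xgi2 ygi54 zgi50) (kgi xgi2 ygi15 zgi30) (kgi xgi0 ygi38 zgi33) (kgi xgi2 ygi15 zgi27) (kgi xgi2 ygi54 zgi59) (kgi xgi2 ygi15 zgi24) (kgi xgi0 ygi38 zgi34) (kgi xgi2 ygi15 zgi28) (kgi xgi1 ygi23 zgi53) (kgi xgi1 ygi21 zgi57) (kgi xgi2 ygi17 zgi28) (kgi xgi2 ygi30 zgi47) (kgi xgi1 ygi23 zgi39) (kgi xgi2 ygi55 zgi8) (kgi xgi2 ygi30 zgi49) (kgi xgi0 ygi38 zgi39) (kgi xgi0 ygi38 zgi44) (kgi xgi1 ygi23 zgi48) (kgi xgi2 ygi55 zgi19) (kgi xgi2 ygi55 zgi23) (kgi xgi1 ygi23 zgi3) (kgi xgi0 ygi38 zgi40) (kgi xgi2 ygi55 zgi29) (kgi xgi2 ygi53 zgi59) (kgi xgi0 ygi39 zgi47) (kgi xgi0 ygi38 zgi41) (kgi xgi2 ygi30 zgi34) (kgi xgi1 ygi13 zgi47) (kgi xgi2 ygi14 zgi47) (kgi xgi0 ygi38 zgi43) (kgi xgi1 ygi21 zgi54) (kgi xgi2 ygi50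 zgi0) (kgi xgi2 ygi55 zgi48) (kgi xgi2 ygi51 zgi31) (kgi xgi1 ygi20 zgi22) (kgi xgi2 ygi55 zgi28) (kgi xgi2 ygi55 zgi57) (kgi xgi2 ygi52 zgi54) (kgi xgi2 ygi55 zgi61) (kgi xgi2 ygi52 zgi55) (kgi xgi2 ygi21 zgi14) (kgi xgi2 ygi56 zgi6) (kgi xgi2 ygi55 zgi7)) (@D3.rec (fun _ => Pt) (kgi xgi2 ygi56 zgi12) (kgi xgi2 ygi56 zgi17) (kgi xgi2 ygi53 zgi2) (kgi xgi2 ygi56 zgi11) (kgi xgi2 ygi56 zgi27) (kgi xgi0 ygi38 zgi50) (kgi xgi2 ygi21 zgi16) (kgi xgi2 ygi56 zgi39) (kgi xgi2 ygi56 zgi43) (kgi xgi0 ygi38 zgi51) (kgi xgi2 ygi56 zgi7) (kgi xgi2 ygi56 zgi5) (kgi xgi0 ygi38 zgi52) (kgi xgi2 ygi47 zgi36) (kgi xgi2 ygi56 zgi57) (kgi xgi2 ygi15 zgi6) (kgi xgi2 ygi57 zgi0) (kgi xgi2 ygi57 zgi3) (kgi xgi0 ygi38 zgi54) (kgi xgi2 ygi16 zgi23) (kgi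 xgi2 ygi42 zgi57) (kgi xgi2 ygi16 zgi20) (kgi xgi2 ygi14 zgi50) (kgi xgi2 ygi57 zgi15) (kgi xgi2 ygi57 zgi19) (kgi xgi0 ygi38 zgi56) (kgi xgi2 ygi16 zgi30) (kgi xgi2 ygi57 zgi27) (kgi xgi2 ygi16 zgi27) (kgi xgi2 ygi53 zgi15) (kgi xgi0 ygi41 zgi45) (kgi xgi2 ygi57 zgi36) (kgi xgi2 ygi57 zgi39) (kgi xgi2 ygi57 zgi41) (kgi xgi1 ygi38 zgi28) (kgi xgi2 ygi57 zgi35) (kgi xgi2 ygi18 zgi6) (kgi xgi2 ygi15 zgi10) (kgi xgi2 ygi57 zgi53) (kgi xgi2 ygi57 zgi52) (kgi xgi0 ygi39 zgi0) (kgi xgi2 ygi13 zgi49) (kgi xgi2 ygi58 zgi3) (kgi xgi2 ygi14 zgi29) (kgi xgi2 ygi52 zgi34) (kgi xgi0 ygi39 zgi2) (kgi xgi1 ygi21 zgi22) (kgi xgi2 ygi58 zgi11) (kgi xgi0 ygi39 zgi4) (kgi xgi1 ygi20 zgi50) (kgi xgi1 ygi20 zgi48) (kgi xgi1 ygi1 zgi19) (kgi xgi0 ygi58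 zgi22) (kgi xgi2 ygi2 zgi57) (kgi xgi0 ygi39 zgi8) (kgi xgi0 ygi39 zgi12) (kgi xgi1 ygi16 zgi0) (kgi xgi0 ygi39 zgi9) (kgi xgi1 ygi1 zgi4) (kgi xgi0 ygi59 zgi32) (kgi xgi2 ygi38 zgi7) (kgi xgi2 ygi2 zgi41)) (@D3.rec (fun _ => Pt) (kgi xgi0 ygi56 zgi9) (kgi xgi2 ygi7 zgi57) (kgi xgi2 ygi36 zgi37) (kgi xgi2 ygi5 zgi40) (kgi xgi0 ygi39 zgi11) (kgi xgi2 ygi58 zgi27) (kgi xgi2 ygi58 zgi46) (kgi xgi2 ygi58 zgi25) (kgi xgi2 ygi40 zgi28) (kgi xgi2 ygi1 zgi59) (kgi xgi2 ygi58 zgi53) (kgi xgi2 ygi58 zgi57) (kgi xgi2 ygi4 zgi15) (kgi xgi2 ygi35 zgi38) (kgi xgi2 ygi5 zgi3) (kgi xgi2 ygi29 zgi11) (kgi xgi1 ygi17 zgi0) (kgi xgi0 ygi57 zgi45) (kgi xgi0 ygi57 zgi24) (kgi xgi2 ygi59 zgi13) (kgi xgi2 ygi5 zgi0) (kgi xgi1 ygi59 zgi60) (kgi xgi2 ygi59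 zgi20) (kgi xgi0 ygi39 zgi21) (kgi xgi1 ygi16 zgi45) (kgi xgi2 ygi59 zgi28) (kgi xgi2 ygi59 zgi33) (kgi xgi1 ygi16 zgi41) (kgi xgi1 ygi18 zgi7) (kgi xgi2 ygi43 zgi59) (kgi xgi2 ygi23 zgi36) (kgi xgi2 ygi40 zgi54) (kgi xgi2 ygi59 zgi41) (kgi xgi0 ygi39 zgi26) (kgi xgi0 ygi57 zgi7) (kgi xgi2 ygi31 zgi37) (kgi xgi1 ygi55 zgi23) (kgi xgi2 ygi33 zgi34) (kgi xgi1 ygi18 zgi27) (kgi xgi2 ygi1 zgi4) (kgi xgi1 ygi21 zgi5) (kgi xgi2 ygi34 zgi3) (kgi xgi1 ygi22 zgi12) (kgi xgi2 ygi34 zgi1) (kgi xgi1 ygi18 zgi51) (kgi xgi1 ygi28 zgi38) (kgi xgi2 ygi30 zgi37) (kgi xgi2 ygi30 zgi17) (kgi xgi2 ygi33 zgi50) (kgi xgi1 ygi18 zgi56) (kgi xgi0 ygi39 zgi40) (kgi xgi3 ygi0 zgi5) (kgi xgi3 ygi0 zgi9) (kgi xgi3 ygi0 zgi14) (kgi xgi3 ygi0 zgi6) (kgi xgi0 ygi39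 zgi41) (kgi xgi2 ygi16 zgi60) (kgi xgi2 ygi59 zgi32) (kgi xgi3 ygi0 zgi26) (kgi xgi2 ygi0 zgi4) (kgi xgi1 ygi20 zgi44) (kgi xgi0 ygi39 zgi44)) (@D3.rec (fun _ => Pt) (kgi xgi0 ygi39 zgi46) (kgi xgi1 ygi21 zgi49) (kgi xgi2 ygi17 zgi44) (kgi xgi1 ygi21 zgi32) (kgi xgi0 ygi39 zgi48) (kgi xgi1 ygi28 zgi31) (kgi xgi2 ygi14 zgi20) (kgi xgi1 ygi31 zgi17) (kgi xgi3 ygi0 zgi37) (kgi xgi3 ygi0 zgi41) (kgi xgi3 ygi0 zgi44) (kgi xgi0 ygi39 zgi49) (kgi xgi2 ygi17 zgi6) (kgi xgi2 ygi17 zgi4) (kgi xgi0 ygi39 zgi50) (kgi xgi1 ygi20 zgi47) (kgi xgi2 ygi13 zgi13) (kgi xgi0 ygi40 zgi53) (kgi xgi1 ygi5 zgi21) (kgi xgi1 ygi22 zgi34) (kgi xgi1 ygi57 zgi7) (kgi xgi1 ygi57 zgi6) (kgi xgi0 ygi57 zgi5) (kgi xgi0 ygi54 zgi55) (kgi xgi0 ygi45 zgi2) (kgi xgi0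 ygi45 zgi43) (kgi xgi3 ygi1 zgi3) (kgi xgi0 ygi39 zgi61) (kgi xgi3 ygi1 zgi5) (kgi xgi1 ygi48 zgi38) (kgi xgi1 ygi43 zgi54) (kgi xgi1 ygi32 zgi18) (kgi xgi1 ygi29 zgi32) (kgi xgi0 ygi40 zgi9) (kgi xgi1 ygi26 zgi35) (kgi xgi1 ygi7 zgi13) (kgi xgi0 ygi40 zgi5) (kgi xgi3 ygi1 zgi19) (kgi xgi2 ygi18 zgi28) (kgi xgi0 ygi40 zgi17) (kgi xgi0 ygi44 zgi27) (kgi xgi1 ygi6 zgi0) (kgi xgi1 ygi30 zgi61) (kgi xgi1 ygi29 zgi12) (kgi xgi1 ygi37 zgi41) (kgi xgi3 ygi1 zgi29) (kgi xgi1 ygi29 zgi43) (kgi xgi0 ygi48 zgi33) (kgi xgi0 ygi40 zgi11) (kgi xgi0 ygi44 zgi29) (kgi xgi0 ygi48 zgi53) (kgi xgi1 ygi5 zgi61) (kgi xgi0 ygi41 zgi28) (kgi xgi1 ygi31 zgi56) (kgi xgi1 ygi34 zgi22) (kgi xgi3 ygi1 zgi35) (kgi xgi0 ygi51 zgi47) (kgi xgi3 ygi1 zgi46) (kgi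 xgi2 ygi20 zgi15) (kgi xgi1 ygi49 zgi49) (kgi xgi1 ygi31 zgi38) (kgi xgi1 ygi49 zgi51)) (@D3.rec (fun _ => Pt) (kgi xgi3 ygi1 zgi57) (kgi xgi0 ygi40 zgi19) (kgi xgi3 ygi1 zgi22) (kgi xgi3 ygi2 zgi4) (kgi xgi1 ygi35 zgi22) (kgi xgi3 ygi2 zgi11) (kgi xgi0 ygi52 zgi2) (kgi xgi0 ygi40 zgi20) (kgi xgi3 ygi1 zgi47) (kgi xgi3 ygi1 zgi45) (kgi xgi3 ygi2 zgi24) (kgi xgi0 ygi40 zgi22) (kgi xgi3 ygi1 zgi26) (kgi xgi2 ygi15 zgi48) (kgi xgi3 ygi2 zgi31) (kgi xgi0 ygi40 zgi24) (kgi xgi2 ygi17 zgi33) (kgi xgi3 ygi2 zgi40) (kgi xgi2 ygi17 zgi30) (kgi xgi1 ygi48 zgi43) (kgi xgi1 ygi20 zgi53) (kgi xgi2 ygi20 zgi16) (kgi xgi3 ygi2 zgi54) (kgi xgi3 ygi2 zgi56) (kgi xgi2 ygi52 zgi9) (kgi xgi3 ygi2 zgi51) (kgi xgi2 ygi20 zgi14) (kgi xgi1 ygi29 zgi7) (kgi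 xgi0 ygi40 zgi28) (kgi xgi1 ygi29 zgi10) (kgi xgi3 ygi3 zgi12) (kgi xgi1 ygi6 zgi18) (kgi xgi2 ygi15 zgi35) (kgi xgi3 ygi3 zgi19) (kgi xgi0 ygi40 zgi31) (kgi xgi1 ygi2 zgi21) (kgi xgi0 ygi40 zgi32) (kgi xgi0 ygi55 zgi1) (kgi xgi0 ygi54 zgi61) (kgi xgi3 ygi3 zgi29) (kgi xgi2 ygi58 zgi14) (kgi xgi1 ygi5 zgi15) (kgi xgi1 ygi5 zgi57) (kgi xgi1 ygi57 zgi1) (kgi xgi1 ygi28 zgi58) (kgi xgi0 ygi41 zgi6) (kgi xgi3 ygi3 zgi35) (kgi xgi1 ygi55 zgi35) (kgi xgi2 ygi10 zgi41) (kgi xgi0 ygi40 zgi38) (kgi xgi1 ygi11 zgi7) (kgi xgi3 ygi3 zgi43) (kgi xgi0 ygi54 zgi36) (kgi xgi2 ygi17 zgi55) (kgi xgi0 ygi40 zgi40) (kgi xgi0 ygi40 zgi50) (kgi xgi0 ygi40 zgi48) (kgi xgi2 ygi9 zgi42) (kgi xgi1 ygi2 zgi1) (kgi xgi2 ygi49 zgi4) (kgi xgi0 ygi40 zgi42) (kgi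 xgi1 ygi58 zgi11)) (@D3.rec (fun _ => Pt) (kgi xgi2 ygi17 zgi42) (kgi xgi3 ygi3 zgi58) (kgi xgi1 ygi1 zgi61) (kgi xgi3 ygi4 zgi0) (kgi xgi1 ygi26 zgi18) (kgi xgi3 ygi3 zgi56) (kgi xgi0 ygi40 zgi45) (kgi xgi2 ygi18 zgi45) (kgi xgi2 ygi18 zgi43) (kgi xgi2 ygi53 zgi28) (kgi xgi3 ygi4 zgi17) (kgi xgi3 ygi4 zgi21) (kgi xgi0 ygi40 zgi47) (kgi xgi3 ygi3 zgi47) (kgi xgi3 ygi4 zgi30) (kgi xgi1 ygi21 zgi27) (kgi xgi1 ygi55 zgi36) (kgi xgi1 ygi10 zgi14) (kgi xgi2 ygi9 zgi31) (kgi xgi1 ygi57 zgi34) (kgi xgi3 ygi3 zgi55) (kgi xgi0 ygi40 zgi51) (kgi xgi1 ygi20 zgi39) (kgi xgi1 ygi20 zgi37) (kgi xgi0 ygi40 zgi52) (kgi xgi1 ygi20 zgi57) (kgi xgi1 ygi20 zgi55) (kgi xgi3 ygi4 zgi48) (kgi xgi2 ygi12 zgi56) (kgi xgi1 ygi3 zgi15) (kgi xgi1 ygi10 zgi27)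 (kgi xgi3 ygi0 zgi32) (kgi xgi3 ygi4 zgi55) (kgi xgi1 ygi4 zgi44) (kgi xgi2 ygi49 zgi12) (kgi xgi2 ygi18 zgi58) (kgi xgi3 ygi4 zgi54) (kgi xgi1 ygi22 zgi45) (kgi xgi3 ygi5 zgi9) (kgi xgi3 ygi5 zgi13) (kgi xgi0 ygi40 zgi60) (kgi xgi3 ygi5 zgi15) (kgi xgi3 ygi5 zgi24) (kgi xgi3 ygi5 zgi12) (kgi xgi0 ygi40 zgi61) (kgi xgi2 ygi17 zgi54) (kgi xgi2 ygi57 zgi38) (kgi xgi2 ygi17 zgi51) (kgi xgi0 ygi41 zgi1) (kgi xgi2 ygi28 zgi1) (kgi xgi1 ygi1 zgi31) (kgi xgi3 ygi4 zgi45) (kgi xgi2 ygi46 zgi35) (kgi xgi1 ygi3 zgi17) (kgi xgi1 ygi10 zgi29) (kgi xgi3 ygi5 zgi42) (kgi xgi2 ygi13 zgi4) (kgi xgi2 ygi16 zgi46) (kgi xgi1 ygi27 zgi42) (kgi xgi1 ygi6 zgi39) (kgi xgi0 ygi41 zgi32) (kgi xgi1 ygi29 zgi49)) (@D3.rec (fun _ => Pt) (kgi xgi2 ygi18 zgi38)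 (kgi xgi1 ygi5 zgi36) (kgi xgi1 ygi8 zgi0) (kgi xgi2 ygi20 zgi35) (kgi xgi3 ygi5 zgi59) (kgi xgi0 ygi41 zgi12) (kgi xgi3 ygi5 zgi52) (kgi xgi0 ygi41 zgi13) (kgi xgi1 ygi27 zgi27) (kgi xgi3 ygi6 zgi10) (kgi xgi1 ygi27 zgi28) (kgi xgi0 ygi41 zgi55) (kgi xgi1 ygi26 zgi33) (kgi xgi0 ygi41 zgi44) (kgi xgi0 ygi42 zgi41) (kgi xgi0 ygi42 zgi18) (kgi xgi1 ygi37 zgi33) (kgi xgi2 ygi18 zgi30) (kgi xgi1 ygi32 zgi22) (kgi xgi1 ygi29 zgi14) (kgi xgi0 ygi41 zgi18) (kgi xgi3 ygi1 zgi48) (kgi xgi3 ygi6 zgi31) (kgi xgi0 ygi41 zgi19) (kgi xgi1 ygi32 zgi16) (kgi xgi3 ygi6 zgi22) (kgi xgi0 ygi41 zgi20) (kgi xgi1 ygi32 zgi56) (kgi xgi3 ygi6 zgi45) (kgi xgi1 ygi32 zgi54) (kgi xgi1 ygi37 zgi45) (kgi xgi0 ygi41 zgi52) (kgi xgi0 ygi41 zgi27) (kgi xgi1 ygi37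 zgi49) (kgi xgi0 ygi45 zgi22) (kgi xgi2 ygi20 zgi21) (kgi xgi3 ygi6 zgi57) (kgi xgi0 ygi41 zgi26) (kgi xgi1 ygi32 zgi50) (kgi xgi1 ygi32 zgi48) (kgi xgi1 ygi40 zgi53) (kgi xgi1 ygi49 zgi47) (kgi xgi1 ygi53 zgi24) (kgi xgi1 ygi26 zgi44) (kgi xgi2 ygi17 zgi11) (kgi xgi3 ygi7 zgi6) (kgi xgi3 ygi6 zgi42) (kgi xgi0 ygi41 zgi30) (kgi xgi0 ygi41 zgi42) (kgi xgi1 ygi28 zgi59) (kgi xgi2 ygi20 zgi20) (kgi xgi3 ygi1 zgi52) (kgi xgi3 ygi7 zgi15) (kgi xgi2 ygi19 zgi16) (kgi xgi3 ygi7 zgi21) (kgi xgi0 ygi41 zgi35) (kgi xgi0 ygi41 zgi43) (kgi xgi1 ygi32 zgi29) (kgi xgi0 ygi41 zgi40) (kgi xgi1 ygi40 zgi61) (kgi xgi3 ygi7 zgi28) (kgi xgi2 ygi19 zgi8)) (@D3.rec (fun _ => Pt) (kgi xgi2 ygi17 zgi12) (kgi xgi1 ygi35 zgi9) (kgi xgi3 ygi7 zgi37) (kgi xgi0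 ygi41 zgi38) (kgi xgi2 ygi19 zgi7) (kgi xgi3 ygi7 zgi46) (kgi xgi3 ygi7 zgi49) (kgi xgi0 ygi41 zgi39) (kgi xgi3 ygi7 zgi23) (kgi xgi3 ygi7 zgi9) (kgi xgi3 ygi7 zgi20) (kgi xgi1 ygi41 zgi0) (kgi xgi3 ygi5 zgi49) (kgi xgi2 ygi3 zgi37) (kgi xgi3 ygi8 zgi3) (kgi xgi3 ygi8 zgi1) (kgi xgi2 ygi19 zgi9) (kgi xgi2 ygi6 zgi29) (kgi xgi2 ygi23 zgi58) (kgi xgi2 ygi19 zgi6) (kgi xgi1 ygi37 zgi34) (kgi xgi1 ygi34 zgi59) (kgi xgi1 ygi41 zgi12) (kgi xgi3 ygi8 zgi21) (kgi xgi1 ygi38 zgi29) (kgi xgi3 ygi6 zgi21) (kgi xgi1 ygi4 zgi11) (kgi xgi3 ygi8 zgi33) (kgi xgi3 ygi8 zgi36) (kgi xgi3 ygi8 zgi37) (kgi xgi1 ygi21 zgi48) (kgi xgi3 ygi8 zgi32) (kgi xgi2 ygi18 zgi13) (kgi xgi0 ygi41 zgi48) (kgi xgi2 ygi18 zgi27) (kgi xgi3 ygi8 zgi54) (kgi xgi2 ygi18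 zgi24) (kgi xgi0 ygi41 zgi50) (kgi xgi2 ygi17 zgi59) (kgi xgi3 ygi8 zgi60) (kgi xgi1 ygi37 zgi26) (kgi xgi3 ygi9 zgi3) (kgi xgi1 ygi44 zgi20) (kgi xgi1 ygi44 zgi21) (kgi xgi3 ygi6 zgi51) (kgi xgi1 ygi37 zgi24) (kgi xgi3 ygi9 zgi12) (kgi xgi3 ygi9 zgi4) (kgi xgi2 ygi22 zgi60) (kgi xgi3 ygi9 zgi20) (kgi xgi3 ygi9 zgi23) (kgi xgi2 ygi18 zgi40) (kgi xgi1 ygi27 zgi31) (kgi xgi3 ygi9 zgi30) (kgi xgi1 ygi34 zgi9) (kgi xgi0 ygi41 zgi58) (kgi xgi1 ygi5 zgi31) (kgi xgi2 ygi21 zgi41) (kgi xgi2 ygi18 zgi35) (kgi xgi3 ygi9 zgi39) (kgi xgi1 ygi26 zgi48) (kgi xgi1 ygi26 zgi50)) (@D3.rec (fun _ => Pt) (kgi xgi1 ygi26 zgi55) (kgi xgi0 ygi42 zgi43) (kgi xgi3 ygi9 zgi47) (kgi xgi1 ygi2 zgi6) (kgi xgi0 ygi42 zgi1) (kgi xgi2 ygi9 zgi24) (kgi xgi2 ygi9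 zgi22) (kgi xgi2 ygi54 zgi24) (kgi xgi3 ygi4 zgi56) (kgi xgi3 ygi10 zgi1) (kgi xgi0 ygi42 zgi3) (kgi xgi3 ygi3 zgi37) (kgi xgi2 ygi9 zgi20) (kgi xgi1 ygi6 zgi25) (kgi xgi1 ygi10 zgi31) (kgi xgi3 ygi10 zgi11) (kgi xgi1 ygi4 zgi35) (kgi xgi1 ygi26 zgi1) (kgi xgi3 ygi10 zgi10) (kgi xgi1 ygi23 zgi8) (kgi xgi2 ygi44 zgi30) (kgi xgi0 ygi42 zgi10) (kgi xgi2 ygi19 zgi3) (kgi xgi2 ygi59 zgi61) (kgi xgi2 ygi19 zgi0) (kgi xgi2 ygi58 zgi19) (kgi xgi0 ygi42 zgi13) (kgi xgi1 ygi3 zgi36) (kgi xgi2 ygi18 zgi50) (kgi xgi2 ygi26 zgi26) (kgi xgi3 ygi10 zgi29) (kgi xgi0 ygi45 zgi53) (kgi xgi1 ygi47 zgi59) (kgi xgi0 ygi42 zgi19) (kgi xgi0 ygi47 zgi48) (kgi xgi1 ygi26 zgi60) (kgi xgi3 ygi6 zgi41) (kgi xgi0 ygi47 zgi12) (kgi xgi1 ygi34 zgi35) (kgi xgi3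 ygi1 zgi38) (kgi xgi3 ygi10 zgi38) (kgi xgi2 ygi18 zgi1) (kgi xgi2 ygi18 zgi15) (kgi xgi0 ygi42 zgi31) (kgi xgi3 ygi10 zgi42) (kgi xgi1 ygi38 zgi25) (kgi xgi1 ygi37 zgi61) (kgi xgi3 ygi10 zgi41) (kgi xgi0 ygi42 zgi29) (kgi xgi2 ygi17 zgi60) (kgi xgi3 ygi10 zgi50) (kgi xgi3 ygi8 zgi35) (kgi xgi1 ygi46 zgi59) (kgi xgi1 ygi26 zgi53) (kgi xgi1 ygi6 zgi9) (kgi xgi0 ygi53 zgi20) (kgi xgi3 ygi10 zgi55) (kgi xgi3 ygi10 zgi58) (kgi xgi0 ygi42 zgi33) (kgi xgi3 ygi9 zgi37) (kgi xgi2 ygi18 zgi17) (kgi xgi1 ygi38 zgi4)) (@D3.rec (fun _ => Pt) (kgi xgi1 ygi4 zgi0) (kgi xgi3 ygi11 zgi13) (kgi xgi3 ygi11 zgi15) (kgi xgi1 ygi21 zgi17) (kgi xgi3 ygi11 zgi12) (kgi xgi1 ygi38 zgi24) (kgi xgi0 ygi42 zgi37) (kgi xgi2 ygi19 zgi35) (kgi xgi3 ygi11 zgi33)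 (kgi xgi2 ygi19 zgi32) (kgi xgi0 ygi42 zgi39) (kgi xgi1 ygi38 zgi15) (kgi xgi3 ygi11 zgi41) (kgi xgi1 ygi26 zgi31) (kgi xgi3 ygi11 zgi47) (kgi xgi1 ygi29 zgi19) (kgi xgi1 ygi29 zgi23) (kgi xgi3 ygi11 zgi51) (kgi xgi1 ygi37 zgi29) (kgi xgi3 ygi11 zgi55) (kgi xgi3 ygi11 zgi57) (kgi xgi0 ygi43 zgi31) (kgi xgi0 ygi42 zgi58) (kgi xgi0 ygi43 zgi11) (kgi xgi1 ygi29 zgi18) (kgi xgi3 ygi11 zgi60) (kgi xgi0 ygi43 zgi49) (kgi xgi2 ygi20 zgi39) (kgi xgi2 ygi21 zgi39) (kgi xgi1 ygi30 zgi19) (kgi xgi1 ygi7 zgi34) (kgi xgi2 ygi21 zgi0) (kgi xgi2 ygi19 zgi49) (kgi xgi3 ygi12 zgi5) (kgi xgi0 ygi51 zgi43) (kgi xgi3 ygi12 zgi7) (kgi xgi3 ygi12 zgi12) (kgi xgi1 ygi7 zgi38) (kgi xgi1 ygi34 zgi37) (kgi xgi3 ygi12 zgi21) (kgi xgi0 ygi42 zgi56) (kgi xgi2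 ygi19 zgi48) (kgi xgi3 ygi7 zgi43) (kgi xgi3 ygi12 zgi30) (kgi xgi0 ygi42 zgi57) (kgi xgi1 ygi29 zgi20) (kgi xgi1 ygi34 zgi18) (kgi xgi3 ygi12 zgi40) (kgi xgi0 ygi42 zgi59) (kgi xgi1 ygi29 zgi39) (kgi xgi1 ygi29 zgi37) (kgi xgi0 ygi52 zgi0) (kgi xgi1 ygi39 zgi40) (kgi xgi3 ygi12 zgi51) (kgi xgi0 ygi42 zgi61) (kgi xgi1 ygi29 zgi29) (kgi xgi1 ygi29 zgi26) (kgi xgi3 ygi11 zgi59) (kgi xgi1 ygi4 zgi25) (kgi xgi3 ygi13 zgi2) (kgi xgi3 ygi13 zgi5) (kgi xgi3 ygi13 zgi7)) (@D3.rec (fun _ => Pt) (kgi xgi1 ygi22 zgi24) (kgi xgi3 ygi13 zgi1) (kgi xgi3 ygi12 zgi43) (kgi xgi0 ygi43 zgi3) (kgi xgi0 ygi44 zgi14) (kgi xgi3 ygi10 zgi31) (kgi xgi1 ygi37 zgi55) (kgi xgi1 ygi4 zgi19) (kgi xgi3 ygi12 zgi54) (kgi xgi0 ygi51 zgi31) (kgi xgi1 ygi22 zgi7)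 (kgi xgi3 ygi12 zgi44) (kgi xgi0 ygi44 zgi0) (kgi xgi0 ygi43 zgi44) (kgi xgi1 ygi6 zgi2) (kgi xgi0 ygi52 zgi1) (kgi xgi1 ygi32 zgi23) (kgi xgi0 ygi44 zgi6) (kgi xgi3 ygi13 zgi30) (kgi xgi0 ygi53 zgi53) (kgi xgi1 ygi40 zgi31) (kgi xgi3 ygi13 zgi34) (kgi xgi2 ygi22 zgi52) (kgi xgi0 ygi43 zgi18) (kgi xgi2 ygi22 zgi59) (kgi xgi1 ygi38 zgi37) (kgi xgi3 ygi13 zgi33) (kgi xgi2 ygi22 zgi43) (kgi xgi1 ygi48 zgi44) (kgi xgi3 ygi13 zgi51) (kgi xgi3 ygi1 zgi51) (kgi xgi3 ygi13 zgi54) (kgi xgi2 ygi17 zgi38) (kgi xgi0 ygi46 zgi22) (kgi xgi3 ygi13 zgi53) (kgi xgi3 ygi14 zgi1) (kgi xgi0 ygi43 zgi24) (kgi xgi1 ygi48 zgi27) (kgi xgi3 ygi14 zgi11) (kgi xgi3 ygi14 zgi14) (kgi xgi0 ygi43 zgi25) (kgi xgi2 ygi20 zgi22) (kgi xgi3 ygi13 zgi50) (kgi xgi2 ygi17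 zgi19) (kgi xgi1 ygi8 zgi30) (kgi xgi3 ygi2 zgi53) (kgi xgi3 ygi1 zgi58) (kgi xgi1 ygi37 zgi14) (kgi xgi2 ygi17 zgi37) (kgi xgi1 ygi38 zgi2) (kgi xgi3 ygi14 zgi37) (kgi xgi0 ygi44 zgi56) (kgi xgi0 ygi44 zgi11) (kgi xgi3 ygi2 zgi26) (kgi xgi3 ygi14 zgi36) (kgi xgi2 ygi20 zgi43) (kgi xgi1 ygi26 zgi36) (kgi xgi3 ygi14 zgi47) (kgi xgi2 ygi20 zgi6) (kgi xgi3 ygi14 zgi52) (kgi xgi3 ygi3 zgi8) (kgi xgi0 ygi43 zgi50)) (@D3.rec (fun _ => Pt) (kgi xgi3 ygi14 zgi51) (kgi xgi3 ygi2 zgi57) (kgi xgi0 ygi43 zgi38) (kgi xgi2 ygi19 zgi61) (kgi xgi0 ygi51 zgi53) (kgi xgi1 ygi37 zgi53) (kgi xgi0 ygi45 zgi16) (kgi xgi1 ygi34 zgi20) (kgi xgi1 ygi49 zgi48) (kgi xgi1 ygi37 zgi42) (kgi xgi0 ygi44 zgi4) (kgi xgi3 ygi3 zgi4) (kgi xgi2 ygi17 zgi40) (kgi xgi0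 ygi44 zgi17) (kgi xgi3 ygi15 zgi10) (kgi xgi3 ygi1 zgi37) (kgi xgi3 ygi6 zgi14) (kgi xgi2 ygi20 zgi3) (kgi xgi3 ygi6 zgi23) (kgi xgi2 ygi20 zgi11) (kgi xgi1 ygi33 zgi17) (kgi xgi0 ygi52 zgi46) (kgi xgi1 ygi44 zgi51) (kgi xgi1 ygi39 zgi36) (kgi xgi0 ygi43 zgi54) (kgi xgi0 ygi47 zgi27) (kgi xgi1 ygi46 zgi25) (kgi xgi0 ygi48 zgi7) (kgi xgi0 ygi50 zgi11) (kgi xgi0 ygi43 zgi56) (kgi xgi0 ygi44 zgi3) (kgi xgi3 ygi15 zgi33) (kgi xgi3 ygi15 zgi37) (kgi xgi3 ygi15 zgi40) (kgi xgi0 ygi43 zgi57) (kgi xgi1 ygi31 zgi35) (kgi xgi0 ygi43 zgi61) (kgi xgi1 ygi32 zgi35) (kgi xgi0 ygi47 zgi14) (kgi xgi3 ygi15 zgi49) (kgi xgi1 ygi34 zgi28) (kgi xgi3 ygi15 zgi51) (kgi xgi3 ygi15 zgi36) (kgi xgi1 ygi32 zgi46) (kgi xgi1 ygi48 zgi31) (kgi xgi1 ygi49 zgi42)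 (kgi xgi3 ygi16 zgi0) (kgi xgi3 ygi12 zgi0) (kgi xgi1 ygi49 zgi39) (kgi xgi2 ygi22 zgi9) (kgi xgi0 ygi44 zgi9) (kgi xgi0 ygi44 zgi22) (kgi xgi3 ygi16 zgi14) (kgi xgi3 ygi1 zgi60) (kgi xgi3 ygi16 zgi20) (kgi xgi0 ygi44 zgi10) (kgi xgi0 ygi44 zgi25) (kgi xgi0 ygi44 zgi23) (kgi xgi2 ygi19 zgi58) (kgi xgi3 ygi16 zgi30) (kgi xgi3 ygi16 zgi35) (kgi xgi0 ygi44 zgi12)) (@D3.rec (fun _ => Pt) (kgi xgi0 ygi44 zgi15) (kgi xgi3 ygi16 zgi42) (kgi xgi3 ygi16 zgi47) (kgi xgi3 ygi16 zgi50) (kgi xgi0 ygi44 zgi13) (kgi xgi3 ygi16 zgi2) (kgi xgi3 ygi16 zgi59) (kgi xgi2 ygi21 zgi54) (kgi xgi2 ygi19 zgi37) (kgi xgi1 ygi29 zgi60) (kgi xgi3 ygi17 zgi5) (kgi xgi3 ygi17 zgi9) (kgi xgi3 ygi16 zgi46) (kgi xgi3 ygi17 zgi15) (kgi xgi0 ygi44 zgi16) (kgi xgi3 ygi16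 zgi8) (kgi xgi3 ygi17 zgi24) (kgi xgi3 ygi14 zgi40) (kgi xgi3 ygi17 zgi28) (kgi xgi1 ygi27 zgi4) (kgi xgi3 ygi16 zgi56) (kgi xgi3 ygi17 zgi36) (kgi xgi1 ygi41 zgi47) (kgi xgi3 ygi17 zgi20) (kgi xgi0 ygi44 zgi19) (kgi xgi2 ygi16 zgi1) (kgi xgi2 ygi16 zgi8) (kgi xgi3 ygi17 zgi51) (kgi xgi3 ygi17 zgi55) (kgi xgi0 ygi44 zgi20) (kgi xgi0 ygi52 zgi59) (kgi xgi0 ygi52 zgi57) (kgi xgi3 ygi18 zgi2) (kgi xgi3 ygi2 zgi1) (kgi xgi0 ygi44 zgi21) (kgi xgi3 ygi16 zgi22) (kgi xgi3 ygi18 zgi15) (kgi xgi3 ygi16 zgi19) (kgi xgi3 ygi18 zgi20) (kgi xgi3 ygi15 zgi15) (kgi xgi3 ygi16 zgi41) (kgi xgi3 ygi18 zgi27) (kgi xgi3 ygi18 zgi30) (kgi xgi3 ygi18 zgi23) (kgi xgi3 ygi18 zgi26) (kgi xgi3 ygi16 zgi55) (kgi xgi3 ygi15 zgi9) (kgi xgi0 ygi44 zgi26) (kgi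 xgi3 ygi15 zgi12) (kgi xgi3 ygi18 zgi47) (kgi xgi3 ygi12 zgi1) (kgi xgi0 ygi49 zgi29) (kgi xgi1 ygi44 zgi30) (kgi xgi1 ygi31 zgi39) (kgi xgi1 ygi44 zgi49) (kgi xgi3 ygi9 zgi41) (kgi xgi3 ygi1 zgi24) (kgi xgi3 ygi18 zgi54) (kgi xgi1 ygi48 zgi2) (kgi xgi3 ygi18 zgi60) (kgi xgi0 ygi44 zgi31) (kgi xgi2 ygi22 zgi0)) (@D3.rec (fun _ => Pt) (kgi xgi3 ygi19 zgi6) (kgi xgi3 ygi19 zgi9) (kgi xgi0 ygi44 zgi32) (kgi xgi3 ygi19 zgi0) (kgi xgi3 ygi19 zgi20) (kgi xgi3 ygi18 zgi59) (kgi xgi2 ygi20 zgi41) (kgi xgi3 ygi19 zgi26) (kgi xgi1 ygi37 zgi2) (kgi xgi3 ygi3 zgi3) (kgi xgi2 ygi22 zgi51) (kgi xgi0 ygi44 zgi35) (kgi xgi2 ygi21 zgi61) (kgi xgi3 ygi19 zgi37) (kgi xgi2 ygi21 zgi58) (kgi xgi2 ygi21 zgi46) (kgi xgi2 ygi21 zgi34) (kgi xgi0 ygi44 zgi38)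 (kgi xgi2 ygi21 zgi44) (kgi xgi0 ygi52 zgi30) (kgi xgi3 ygi19 zgi52) (kgi xgi2 ygi21 zgi35) (kgi xgi3 ygi19 zgi58) (kgi xgi2 ygi20 zgi18) (kgi xgi3 ygi20 zgi0) (kgi xgi2 ygi21 zgi7) (kgi xgi3 ygi19 zgi61) (kgi xgi0 ygi44 zgi55) (kgi xgi0 ygi44 zgi42) (kgi xgi2 ygi22 zgi14) (kgi xgi3 ygi20 zgi10) (kgi xgi2 ygi22 zgi11) (kgi xgi3 ygi20 zgi15) (kgi xgi3 ygi20 zgi19) (kgi xgi2 ygi57 zgi23) (kgi xgi3 ygi20 zgi18) (kgi xgi3 ygi20 zgi27) (kgi xgi3 ygi20 zgi31) (kgi xgi0 ygi44 zgi47) (kgi xgi3 ygi20 zgi32) (kgi xgi2 ygi59 zgi31) (kgi xgi3 ygi20 zgi30) (kgi xgi2 ygi54 zgi13) (kgi xgi3 ygi20 zgi48) (kgi xgi3 ygi10 zgi47) (kgi xgi3 ygi20 zgi53) (kgi xgi3 ygi20 zgi47) (kgi xgi2 ygi57 zgi22) (kgi xgi0 ygi44 zgi50) (kgi xgi2 ygi22 zgi35) (kgi xgi3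 ygi21 zgi8) (kgi xgi2 ygi22 zgi32) (kgi xgi0 ygi44 zgi52) (kgi xgi1 ygi48 zgi33) (kgi xgi3 ygi19 zgi4) (kgi xgi3 ygi21 zgi19) (kgi xgi3 ygi13 zgi44) (kgi xgi0 ygi44 zgi53) (kgi xgi2 ygi39 zgi49) (kgi xgi3 ygi21 zgi28) (kgi xgi3 ygi21 zgi31) (kgi xgi0 ygi44 zgi54)) (@D3.rec (fun _ => Pt) (kgi xgi0 ygi44 zgi58) (kgi xgi3 ygi11 zgi22) (kgi xgi1 ygi37 zgi13) (kgi xgi1 ygi8 zgi27) (kgi xgi2 ygi21 zgi31) (kgi xgi2 ygi22 zgi36) (kgi xgi3 ygi21 zgi42) (kgi xgi1 ygi7 zgi45) (kgi xgi3 ygi21 zgi47) (kgi xgi3 ygi21 zgi48) (kgi xgi3 ygi21 zgi27) (kgi xgi2 ygi51 zgi27) (kgi xgi3 ygi10 zgi44) (kgi xgi0 ygi44 zgi59) (kgi xgi1 ygi33 zgi44) (kgi xgi2 ygi22 zgi54) (kgi xgi1 ygi48 zgi37) (kgi xgi3 ygi22 zgi0) (kgi xgi3 ygi19 zgi33) (kgi xgi3 ygi19 zgi28)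 (kgi xgi0 ygi45 zgi1) (kgi xgi2 ygi22 zgi49) (kgi xgi3 ygi22 zgi10) (kgi xgi3 ygi22 zgi14) (kgi xgi1 ygi30 zgi40) (kgi xgi3 ygi22 zgi17) (kgi xgi1 ygi30 zgi45) (kgi xgi3 ygi22 zgi22) (kgi xgi3 ygi1 zgi14) (kgi xgi1 ygi32 zgi13) (kgi xgi3 ygi22 zgi28) (kgi xgi1 ygi29 zgi11) (kgi xgi3 ygi22 zgi33) (kgi xgi1 ygi29 zgi13) (kgi xgi0 ygi45 zgi11) (kgi xgi1 ygi30 zgi20) (kgi xgi3 ygi16 zgi3) (kgi xgi3 ygi22 zgi43) (kgi xgi0 ygi45 zgi12) (kgi xgi0 ygi45 zgi37) (kgi xgi0 ygi45 zgi35) (kgi xgi1 ygi26 zgi46) (kgi xgi3 ygi8 zgi6) (kgi xgi3 ygi9 zgi31) (kgi xgi1 ygi33 zgi57) (kgi xgi1 ygi30 zgi48) (kgi xgi0 ygi47 zgi50) (kgi xgi1 ygi33 zgi23) (kgi xgi0 ygi45 zgi27) (kgi xgi1 ygi32 zgi10) (kgi xgi3 ygi22 zgi54) (kgi xgi1 ygi32 zgi61) (kgi xgi1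 ygi32 zgi34) (kgi xgi1 ygi34 zgi8) (kgi xgi2 ygi55 zgi35) (kgi xgi1 ygi39 zgi11) (kgi xgi0 ygi51 zgi24) (kgi xgi0 ygi45 zgi26) (kgi xgi0 ygi45 zgi31) (kgi xgi3 ygi23 zgi5) (kgi xgi3 ygi23 zgi9) (kgi xgi1 ygi46 zgi3)) (@D3.rec (fun _ => Pt) (kgi xgi3 ygi23 zgi13) (kgi xgi1 ygi30 zgi29) (kgi xgi1 ygi29 zgi59) (kgi xgi3 ygi23 zgi12) (kgi xgi3 ygi23 zgi25) (kgi xgi0 ygi45 zgi29) (kgi xgi3 ygi22 zgi52) (kgi xgi3 ygi23 zgi35) (kgi xgi3 ygi23 zgi40) (kgi xgi3 ygi23 zgi43) (kgi xgi2 ygi20 zgi51) (kgi xgi0 ygi45 zgi30) (kgi xgi3 ygi23 zgi10) (kgi xgi3 ygi23 zgi8) (kgi xgi3 ygi23 zgi57) (kgi xgi0 ygi45 zgi32) (kgi xgi1 ygi32 zgi11) (kgi xgi0 ygi45 zgi33) (kgi xgi1 ygi56 zgi30) (kgi xgi1 ygi56 zgi31) (kgi xgi3 ygi24 zgi5) (kgi xgi3 ygi24 zgi8)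 (kgi xgi1 ygi30 zgi2) (kgi xgi2 ygi19 zgi31) (kgi xgi1 ygi31 zgi45) (kgi xgi1 ygi32 zgi5) (kgi xgi2 ygi18 zgi5) (kgi xgi1 ygi30 zgi28) (kgi xgi1 ygi24 zgi30) (kgi xgi0 ygi45 zgi38) (kgi xgi1 ygi43 zgi59) (kgi xgi0 ygi45 zgi40) (kgi xgi1 ygi6 zgi38) (kgi xgi1 ygi33 zgi25) (kgi xgi3 ygi1 zgi8) (kgi xgi0 ygi46 zgi44) (kgi xgi0 ygi49 zgi42) (kgi xgi1 ygi39 zgi22) (kgi xgi1 ygi39 zgi23) (kgi xgi0 ygi51 zgi0) (kgi xgi1 ygi41 zgi43) (kgi xgi3 ygi24 zgi31) (kgi xgi3 ygi24 zgi33) (kgi xgi0 ygi50 zgi13) (kgi xgi0 ygi47 zgi58) (kgi xgi1 ygi47 zgi25) (kgi xgi1 ygi46 zgi30) (kgi xgi0 ygi45 zgi48) (kgi xgi1 ygi40 zgi12) (kgi xgi3 ygi24 zgi46) (kgi xgi0 ygi45 zgi49) (kgi xgi3 ygi24 zgi32) (kgi xgi3 ygi24 zgi30) (kgi xgi0 ygi48 zgi10) (kgi xgi0 ygi50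 zgi14) (kgi xgi1 ygi42 zgi21) (kgi xgi1 ygi43 zgi3) (kgi xgi1 ygi45 zgi55) (kgi xgi1 ygi47 zgi60) (kgi xgi1 ygi48 zgi15) (kgi xgi0 ygi45 zgi59) (kgi xgi0 ygi45 zgi60)) (@D3.rec (fun _ => Pt) (kgi xgi0 ygi50 zgi20) (kgi xgi0 ygi45 zgi57) (kgi xgi1 ygi44 zgi40) (kgi xgi3 ygi6 zgi19) (kgi xgi1 ygi40 zgi58) (kgi xgi3 ygi25 zgi5) (kgi xgi1 ygi39 zgi15) (kgi xgi3 ygi25 zgi11) (kgi xgi1 ygi53 zgi15) (kgi xgi0 ygi46 zgi0) (kgi xgi0 ygi46 zgi2) (kgi xgi1 ygi46 zgi55) (kgi xgi0 ygi46 zgi1) (kgi xgi0 ygi53 zgi17) (kgi xgi1 ygi39 zgi0) (kgi xgi1 ygi38 zgi43) (kgi xgi0 ygi46 zgi5) (kgi xgi3 ygi25 zgi21) (kgi xgi1 ygi42 zgi38) (kgi xgi1 ygi44 zgi48) (kgi xgi1 ygi34 zgi27) (kgi xgi3 ygi25 zgi27) (kgi xgi1 ygi38 zgi33) (kgi xgi1 ygi42 zgi36) (kgi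 xgi0 ygi46 zgi12) (kgi xgi1 ygi32 zgi52) (kgi xgi0 ygi46 zgi14) (kgi xgi0 ygi46 zgi24) (kgi xgi3 ygi25 zgi40) (kgi xgi3 ygi25 zgi45) (kgi xgi3 ygi25 zgi48) (kgi xgi0 ygi46 zgi15) (kgi xgi0 ygi49 zgi40) (kgi xgi0 ygi46 zgi32) (kgi xgi1 ygi44 zgi37) (kgi xgi1 ygi39 zgi39) (kgi xgi0 ygi46 zgi20) (kgi xgi0 ygi50 zgi28) (kgi xgi3 ygi25 zgi61) (kgi xgi0 ygi46 zgi21) (kgi xgi3 ygi6 zgi52) (kgi xgi0 ygi46 zgi23) (kgi xgi0 ygi51 zgi12) (kgi xgi1 ygi49 zgi60) (kgi xgi3 ygi25 zgi44) (kgi xgi3 ygi26 zgi8) (kgi xgi1 ygi39 zgi16) (kgi xgi1 ygi50 zgi51) (kgi xgi1 ygi52 zgi21) (kgi xgi3 ygi26 zgi14) (kgi xgi0 ygi46 zgi28) (kgi xgi0 ygi46 zgi41) (kgi xgi0 ygi46 zgi39) (kgi xgi3 ygi26 zgi22) (kgi xgi0 ygi46 zgi30) (kgi xgi0 ygi46 zgi33) (kgi xgi3 ygi26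 zgi28) (kgi xgi3 ygi26 zgi31) (kgi xgi3 ygi26 zgi34) (kgi xgi0 ygi46 zgi31) (kgi xgi0 ygi48 zgi39) (kgi xgi1 ygi33 zgi19)) (@D3.rec (fun _ => Pt) (kgi xgi0 ygi50 zgi18) (kgi xgi3 ygi26 zgi44) (kgi xgi1 ygi51 zgi14) (kgi xgi2 ygi55 zgi32) (kgi xgi3 ygi26 zgi53) (kgi xgi1 ygi45 zgi50) (kgi xgi3 ygi26 zgi58) (kgi xgi1 ygi45 zgi51) (kgi xgi3 ygi27 zgi0) (kgi xgi1 ygi38 zgi48) (kgi xgi1 ygi44 zgi16) (kgi xgi3 ygi27 zgi10) (kgi xgi3 ygi27 zgi5) (kgi xgi3 ygi26 zgi56) (kgi xgi0 ygi46 zgi37) (kgi xgi1 ygi52 zgi19) (kgi xgi3 ygi23 zgi39) (kgi xgi2 ygi56 zgi45) (kgi xgi0 ygi46 zgi38) (kgi xgi3 ygi26 zgi16) (kgi xgi3 ygi27 zgi29) (kgi xgi1 ygi52 zgi57) (kgi xgi3 ygi25 zgi24) (kgi xgi3 ygi26 zgi26) (kgi xgi1 ygi45 zgi54) (kgi xgi1 ygi55 zgi7)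 (kgi xgi3 ygi27 zgi42) (kgi xgi3 ygi27 zgi35) (kgi xgi3 ygi27 zgi39) (kgi xgi1 ygi44 zgi28) (kgi xgi1 ygi48 zgi35) (kgi xgi0 ygi47 zgi59) (kgi xgi3 ygi10 zgi56) (kgi xgi1 ygi42 zgi35) (kgi xgi3 ygi27 zgi56) (kgi xgi0 ygi46 zgi45) (kgi xgi0 ygi49 zgi17) (kgi xgi1 ygi43 zgi33) (kgi xgi1 ygi45 zgi36) (kgi xgi1 ygi53 zgi29) (kgi xgi1 ygi40 zgi36) (kgi xgi1 ygi40 zgi35) (kgi xgi3 ygi28 zgi10) (kgi xgi1 ygi46 zgi27) (kgi xgi3 ygi28 zgi13) (kgi xgi0 ygi47 zgi22) (kgi xgi3 ygi28 zgi18) (kgi xgi0 ygi47 zgi6) (kgi xgi0 ygi48 zgi34) (kgi xgi1 ygi43 zgi60) (kgi xgi0 ygi51 zgi30) (kgi xgi0 ygi51 zgi33) (kgi xgi1 ygi39 zgi4) (kgi xgi1 ygi6 zgi37) (kgi xgi1 ygi30 zgi43) (kgi xgi0 ygi46 zgi59) (kgi xgi3 ygi28 zgi26) (kgi xgi3 ygi28 zgi29) (kgi xgi1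 ygi43 zgi56) (kgi xgi0 ygi51 zgi49) (kgi xgi0 ygi53 zgi18) (kgi xgi1 ygi33 zgi49)) (@D3.rec (fun _ => Pt) (kgi xgi3 ygi28 zgi36) (kgi xgi1 ygi29 zgi40) (kgi xgi3 ygi28 zgi40) (kgi xgi1 ygi31 zgi46) (kgi xgi0 ygi47 zgi3) (kgi xgi1 ygi44 zgi34) (kgi xgi3 ygi10 zgi60) (kgi xgi1 ygi50 zgi23) (kgi xgi3 ygi28 zgi48) (kgi xgi0 ygi47 zgi33) (kgi xgi0 ygi49 zgi45) (kgi xgi1 ygi34 zgi39) (kgi xgi3 ygi28 zgi55) (kgi xgi3 ygi28 zgi44) (kgi xgi1 ygi50 zgi17) (kgi xgi3 ygi29 zgi1) (kgi xgi1 ygi50 zgi49) (kgi xgi3 ygi29 zgi7) (kgi xgi0 ygi47 zgi15) (kgi xgi0 ygi47 zgi30) (kgi xgi0 ygi47 zgi28) (kgi xgi0 ygi51 zgi15) (kgi xgi1 ygi38 zgi40) (kgi xgi3 ygi29 zgi19) (kgi xgi0 ygi47 zgi17) (kgi xgi0 ygi47 zgi20) (kgi xgi3 ygi14 zgi50) (kgi xgi3 ygi29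 zgi26) (kgi xgi3 ygi29 zgi28) (kgi xgi0 ygi47 zgi61) (kgi xgi0 ygi48 zgi1) (kgi xgi3 ygi29 zgi35) (kgi xgi3 ygi29 zgi38) (kgi xgi3 ygi29 zgi25) (kgi xgi3 ygi29 zgi44) (kgi xgi0 ygi51 zgi57) (kgi xgi0 ygi51 zgi56) (kgi xgi3 ygi29 zgi50) (kgi xgi0 ygi52 zgi61) (kgi xgi1 ygi45 zgi48) (kgi xgi3 ygi29 zgi58) (kgi xgi0 ygi52 zgi20) (kgi xgi3 ygi29 zgi47) (kgi xgi0 ygi47 zgi24) (kgi xgi1 ygi38 zgi47) (kgi xgi1 ygi51 zgi7) (kgi xgi3 ygi30 zgi9) (kgi xgi1 ygi35 zgi19) (kgi xgi3 ygi30 zgi15) (kgi xgi1 ygi50 zgi46) (kgi xgi0 ygi47 zgi26) (kgi xgi3 ygi29 zgi9) (kgi xgi3 ygi30 zgi28) (kgi xgi3 ygi29 zgi6) (kgi xgi3 ygi30 zgi33) (kgi xgi3 ygi28 zgi24) (kgi xgi3 ygi29 zgi23) (kgi xgi1 ygi45 zgi49) (kgi xgi3 ygi30 zgi47) (kgi xgi3 ygi30 zgi50) (kgi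 xgi3 ygi30 zgi40) (kgi xgi3 ygi30 zgi44)) (@D3.rec (fun _ => Pt) (kgi xgi1 ygi45 zgi3) (kgi xgi3 ygi28 zgi17) (kgi xgi0 ygi47 zgi31) (kgi xgi3 ygi28 zgi19) (kgi xgi1 ygi42 zgi46) (kgi xgi1 ygi31 zgi37) (kgi xgi0 ygi48 zgi57) (kgi xgi3 ygi31 zgi8) (kgi xgi3 ygi31 zgi11) (kgi xgi0 ygi47 zgi35) (kgi xgi3 ygi31 zgi12) (kgi xgi3 ygi31 zgi10) (kgi xgi0 ygi49 zgi10) (kgi xgi1 ygi42 zgi23) (kgi xgi1 ygi44 zgi59) (kgi xgi0 ygi47 zgi39) (kgi xgi0 ygi50 zgi29) (kgi xgi1 ygi49 zgi5) (kgi xgi1 ygi49 zgi18) (kgi xgi3 ygi31 zgi33) (kgi xgi0 ygi50 zgi32) (kgi xgi1 ygi46 zgi33) (kgi xgi0 ygi47 zgi41) (kgi xgi0 ygi50 zgi44) (kgi xgi1 ygi42 zgi16) (kgi xgi1 ygi42 zgi15) (kgi xgi3 ygi31 zgi41) (kgi xgi3 ygi31 zgi46) (kgi xgi1 ygi40 zgi6) (kgi xgi1 ygi47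 zgi31) (kgi xgi0 ygi53 zgi33) (kgi xgi1 ygi48 zgi34) (kgi xgi1 ygi43 zgi12) (kgi xgi3 ygi25 zgi7) (kgi xgi1 ygi39 zgi18) (kgi xgi1 ygi38 zgi35) (kgi xgi3 ygi22 zgi50) (kgi xgi0 ygi48 zgi49) (kgi xgi0 ygi47 zgi55) (kgi xgi3 ygi28 zgi30) (kgi xgi1 ygi39 zgi33) (kgi xgi3 ygi31 zgi61) (kgi xgi1 ygi38 zgi36) (kgi xgi3 ygi32 zgi4) (kgi xgi1 ygi33 zgi20) (kgi xgi3 ygi32 zgi0) (kgi xgi1 ygi48 zgi12) (kgi xgi3 ygi31 zgi1) (kgi xgi0 ygi48 zgi0) (kgi xgi3 ygi28 zgi21) (kgi xgi0 ygi48 zgi9) (kgi xgi3 ygi32 zgi18) (kgi xgi3 ygi32 zgi20) (kgi xgi3 ygi32 zgi22) (kgi xgi0 ygi48 zgi2) (kgi xgi0 ygi53 zgi13) (kgi xgi1 ygi42 zgi12) (kgi xgi0 ygi48 zgi4) (kgi xgi3 ygi32 zgi31) (kgi xgi3 ygi30 zgi24) (kgi xgi3 ygi30 zgi51) (kgi xgi3 ygi32 zgi14)) (@D3.rec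 (fun _ => Pt) (kgi xgi1 ygi51 zgi35) (kgi xgi3 ygi30 zgi52) (kgi xgi1 ygi44 zgi47) (kgi xgi1 ygi44 zgi46) (kgi xgi3 ygi32 zgi45) (kgi xgi1 ygi45 zgi24) (kgi xgi3 ygi32 zgi50) (kgi xgi0 ygi48 zgi12) (kgi xgi0 ygi48 zgi30) (kgi xgi0 ygi52 zgi16) (kgi xgi0 ygi48 zgi27) (kgi xgi1 ygi38 zgi30) (kgi xgi3 ygi32 zgi1) (kgi xgi1 ygi44 zgi33) (kgi xgi3 ygi32 zgi58) (kgi xgi3 ygi33 zgi0) (kgi xgi0 ygi48 zgi21) (kgi xgi3 ygi4 zgi36) (kgi xgi3 ygi33 zgi7) (kgi xgi3 ygi33 zgi10) (kgi xgi0 ygi48 zgi19) (kgi xgi1 ygi51 zgi32) (kgi xgi0 ygi53 zgi61) (kgi xgi0 ygi52 zgi15) (kgi xgi1 ygi52 zgi44) (kgi xgi3 ygi27 zgi2) (kgi xgi1 ygi50 zgi16) (kgi xgi1 ygi53 zgi8) (kgi xgi3 ygi33 zgi27) (kgi xgi0 ygi49 zgi53) (kgi xgi1 ygi54 zgi45) (kgi xgi3 ygi33 zgi35)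 (kgi xgi1 ygi46 zgi15) (kgi xgi3 ygi28 zgi8) (kgi xgi0 ygi48 zgi25) (kgi xgi1 ygi43 zgi36) (kgi xgi1 ygi43 zgi34) (kgi xgi3 ygi33 zgi46) (kgi xgi0 ygi48 zgi26) (kgi xgi3 ygi32 zgi52) (kgi xgi3 ygi33 zgi58) (kgi xgi3 ygi32 zgi49) (kgi xgi3 ygi31 zgi60) (kgi xgi3 ygi33 zgi3) (kgi xgi1 ygi47 zgi56) (kgi xgi0 ygi54 zgi19) (kgi xgi3 ygi26 zgi23) (kgi xgi3 ygi34 zgi4) (kgi xgi3 ygi34 zgi8) (kgi xgi3 ygi33 zgi14) (kgi xgi0 ygi48 zgi29) (kgi xgi0 ygi52 zgi52) (kgi xgi0 ygi48 zgi31) (kgi xgi1 ygi42 zgi32) (kgi xgi1 ygi26 zgi26) (kgi xgi0 ygi48 zgi32) (kgi xgi1 ygi40 zgi52) (kgi xgi1 ygi46 zgi49) (kgi xgi3 ygi1 zgi32) (kgi xgi3 ygi1 zgi34) (kgi xgi1 ygi41 zgi7) (kgi xgi1 ygi49 zgi13)) (@D3.rec (fun _ => Pt) (kgi xgi3 ygi28 zgi52) (kgi xgi3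 ygi28 zgi54) (kgi xgi3 ygi31 zgi56) (kgi xgi3 ygi32 zgi30) (kgi xgi3 ygi34 zgi35) (kgi xgi0 ygi48 zgi37) (kgi xgi3 ygi32 zgi29) (kgi xgi3 ygi34 zgi44) (kgi xgi3 ygi34 zgi48) (kgi xgi3 ygi32 zgi57) (kgi xgi1 ygi51 zgi1) (kgi xgi1 ygi51 zgi8) (kgi xgi3 ygi34 zgi55) (kgi xgi0 ygi48 zgi40) (kgi xgi1 ygi39 zgi59) (kgi xgi1 ygi39 zgi60) (kgi xgi3 ygi35 zgi0) (kgi xgi3 ygi35 zgi3) (kgi xgi3 ygi35 zgi5) (kgi xgi3 ygi26 zgi1) (kgi xgi1 ygi29 zgi31) (kgi xgi0 ygi48 zgi46) (kgi xgi3 ygi23 zgi59) (kgi xgi3 ygi24 zgi20) (kgi xgi0 ygi51 zgi22) (kgi xgi3 ygi35 zgi13) (kgi xgi0 ygi48 zgi50) (kgi xgi3 ygi25 zgi52) (kgi xgi3 ygi27 zgi41) (kgi xgi1 ygi40 zgi29) (kgi xgi1 ygi35 zgi55) (kgi xgi1 ygi30 zgi51) (kgi xgi3 ygi35 zgi24) (kgi xgi1 ygi39 zgi2)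 (kgi xgi1 ygi41 zgi4) (kgi xgi0 ygi50 zgi7) (kgi xgi3 ygi35 zgi29) (kgi xgi1 ygi38 zgi44) (kgi xgi3 ygi35 zgi33) (kgi xgi0 ygi49 zgi61) (kgi xgi1 ygi43 zgi13) (kgi xgi1 ygi41 zgi59) (kgi xgi0 ygi49 zgi9) (kgi xgi3 ygi35 zgi42) (kgi xgi3 ygi35 zgi46) (kgi xgi3 ygi35 zgi49) (kgi xgi0 ygi49 zgi2) (kgi xgi1 ygi38 zgi53) (kgi xgi0 ygi49 zgi18) (kgi xgi1 ygi35 zgi51) (kgi xgi3 ygi35 zgi58) (kgi xgi0 ygi49 zgi6) (kgi xgi3 ygi24 zgi17) (kgi xgi3 ygi36 zgi0) (kgi xgi3 ygi35 zgi36) (kgi xgi3 ygi35 zgi39) (kgi xgi3 ygi35 zgi45) (kgi xgi3 ygi36 zgi9) (kgi xgi1 ygi42 zgi56) (kgi xgi1 ygi42 zgi54) (kgi xgi3 ygi36 zgi14) (kgi xgi3 ygi36 zgi17)) (@D3.rec (fun _ => Pt) (kgi xgi3 ygi36 zgi20) (kgi xgi0 ygi49 zgi13) (kgi xgi0 ygi49 zgi28) (kgi xgi3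 ygi36 zgi26) (kgi xgi0 ygi49 zgi25) (kgi xgi1 ygi41 zgi39) (kgi xgi3 ygi27 zgi43) (kgi xgi0 ygi49 zgi16) (kgi xgi0 ygi49 zgi19) (kgi xgi3 ygi36 zgi36) (kgi xgi3 ygi32 zgi15) (kgi xgi3 ygi36 zgi40) (kgi xgi3 ygi36 zgi1) (kgi xgi3 ygi36 zgi33) (kgi xgi3 ygi29 zgi32) (kgi xgi3 ygi36 zgi50) (kgi xgi1 ygi43 zgi22) (kgi xgi1 ygi43 zgi20) (kgi xgi3 ygi36 zgi55) (kgi xgi0 ygi50 zgi5) (kgi xgi1 ygi40 zgi42) (kgi xgi3 ygi4 zgi24) (kgi xgi1 ygi46 zgi6) (kgi xgi3 ygi36 zgi53) (kgi xgi0 ygi49 zgi23) (kgi xgi1 ygi43 zgi5) (kgi xgi3 ygi37 zgi5) (kgi xgi0 ygi49 zgi24) (kgi xgi3 ygi36 zgi22) (kgi xgi3 ygi37 zgi14) (kgi xgi3 ygi36 zgi19) (kgi xgi3 ygi26 zgi39) (kgi xgi3 ygi36 zgi34) (kgi xgi3 ygi37 zgi21) (kgi xgi3 ygi37 zgi18) (kgi xgi0 ygi52 zgi33)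 (kgi xgi3 ygi28 zgi0) (kgi xgi0 ygi49 zgi27) (kgi xgi3 ygi36 zgi28) (kgi xgi3 ygi37 zgi38) (kgi xgi1 ygi42 zgi0) (kgi xgi3 ygi32 zgi13) (kgi xgi3 ygi32 zgi7) (kgi xgi1 ygi50 zgi30) (kgi xgi0 ygi49 zgi32) (kgi xgi1 ygi50 zgi33) (kgi xgi1 ygi49 zgi35) (kgi xgi3 ygi34 zgi41) (kgi xgi3 ygi34 zgi27) (kgi xgi1 ygi41 zgi61) (kgi xgi0 ygi49 zgi34) (kgi xgi0 ygi53 zgi52) (kgi xgi1 ygi40 zgi13) (kgi xgi3 ygi27 zgi15) (kgi xgi1 ygi40 zgi28) (kgi xgi1 ygi38 zgi54) (kgi xgi3 ygi26 zgi60) (kgi xgi1 ygi53 zgi56) (kgi xgi1 ygi42 zgi42) (kgi xgi3 ygi38 zgi4) (kgi xgi0 ygi52 zgi25) (kgi xgi3 ygi11 zgi38)) (@D3.rec (fun _ => Pt) (kgi xgi1 ygi53 zgi20) (kgi xgi1 ygi53 zgi27) (kgi xgi3 ygi36 zgi13) (kgi xgi1 ygi41 zgi3) (kgi xgi1 ygi53 zgi7) (kgi xgi3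 ygi38 zgi12) (kgi xgi1 ygi45 zgi19) (kgi xgi3 ygi38 zgi17) (kgi xgi0 ygi49 zgi50) (kgi xgi0 ygi49 zgi57) (kgi xgi0 ygi49 zgi55) (kgi xgi3 ygi38 zgi25) (kgi xgi3 ygi24 zgi60) (kgi xgi3 ygi4 zgi29) (kgi xgi3 ygi36 zgi12) (kgi xgi1 ygi43 zgi29) (kgi xgi3 ygi38 zgi35) (kgi xgi0 ygi49 zgi54) (kgi xgi3 ygi38 zgi19) (kgi xgi3 ygi38 zgi45) (kgi xgi3 ygi38 zgi16) (kgi xgi3 ygi15 zgi21) (kgi xgi3 ygi35 zgi40) (kgi xgi1 ygi40 zgi43) (kgi xgi1 ygi51 zgi31) (kgi xgi3 ygi25 zgi28) (kgi xgi3 ygi38 zgi53) (kgi xgi1 ygi55 zgi9) (kgi xgi3 ygi35 zgi54) (kgi xgi1 ygi39 zgi31) (kgi xgi1 ygi39 zgi32) (kgi xgi3 ygi39 zgi7) (kgi xgi3 ygi39 zgi11) (kgi xgi0 ygi49 zgi59) (kgi xgi0 ygi53 zgi9) (kgi xgi3 ygi39 zgi15) (kgi xgi3 ygi39 zgi17) (kgi xgi3 ygi35 zgi28)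 (kgi xgi3 ygi39 zgi21) (kgi xgi3 ygi31 zgi21) (kgi xgi3 ygi39 zgi27) (kgi xgi3 ygi32 zgi43) (kgi xgi3 ygi39 zgi32) (kgi xgi0 ygi50 zgi6) (kgi xgi3 ygi35 zgi27) (kgi xgi3 ygi39 zgi42) (kgi xgi3 ygi25 zgi55) (kgi xgi3 ygi32 zgi16) (kgi xgi1 ygi54 zgi25) (kgi xgi1 ygi44 zgi0) (kgi xgi3 ygi34 zgi26) (kgi xgi3 ygi32 zgi27) (kgi xgi1 ygi48 zgi9) (kgi xgi3 ygi37 zgi44) (kgi xgi3 ygi24 zgi55) (kgi xgi1 ygi33 zgi6) (kgi xgi0 ygi50 zgi16) (kgi xgi0 ygi50 zgi23) (kgi xgi3 ygi23 zgi4) (kgi xgi0 ygi50 zgi17) (kgi xgi1 ygi31 zgi52) (kgi xgi3 ygi40 zgi1)) (@D3.rec (fun _ => Pt) (kgi xgi0 ygi50 zgi24) (kgi xgi3 ygi40 zgi6) (kgi xgi3 ygi40 zgi10) (kgi xgi3 ygi40 zgi13) (kgi xgi0 ygi50 zgi19) (kgi xgi1 ygi44 zgi18) (kgi xgi0 ygi54 zgi9) (kgi xgi3 ygi40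 zgi21) (kgi xgi1 ygi42 zgi31) (kgi xgi0 ygi53 zgi51) (kgi xgi1 ygi51 zgi2) (kgi xgi3 ygi40 zgi27) (kgi xgi1 ygi51 zgi60) (kgi xgi3 ygi25 zgi58) (kgi xgi3 ygi27 zgi44) (kgi xgi3 ygi40 zgi36) (kgi xgi1 ygi49 zgi6) (kgi xgi3 ygi40 zgi40) (kgi xgi0 ygi50 zgi27) (kgi xgi0 ygi50 zgi39) (kgi xgi0 ygi50 zgi37) (kgi xgi0 ygi50 zgi31) (kgi xgi3 ygi40 zgi48) (kgi xgi3 ygi40 zgi52) (kgi xgi3 ygi40 zgi55) (kgi xgi1 ygi38 zgi42) (kgi xgi3 ygi40 zgi60) (kgi xgi3 ygi40 zgi45) (kgi xgi3 ygi40 zgi51) (kgi xgi3 ygi41 zgi6) (kgi xgi1 ygi48 zgi57) (kgi xgi1 ygi48 zgi55) (kgi xgi3 ygi41 zgi11) (kgi xgi0 ygi53 zgi40) (kgi xgi1 ygi42 zgi26) (kgi xgi3 ygi41 zgi18) (kgi xgi1 ygi53 zgi35) (kgi xgi3 ygi41 zgi9) (kgi xgi0 ygi50 zgi35) (kgi xgi1 ygi48 zgi29) (kgi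 xgi3 ygi14 zgi10) (kgi xgi3 ygi41 zgi32) (kgi xgi0 ygi50 zgi36) (kgi xgi3 ygi40 zgi42) (kgi xgi3 ygi41 zgi42) (kgi xgi3 ygi38 zgi50) (kgi xgi3 ygi29 zgi30) (kgi xgi3 ygi40 zgi46) (kgi xgi0 ygi54 zgi13) (kgi xgi1 ygi44 zgi17) (kgi xgi1 ygi49 zgi38) (kgi xgi3 ygi41 zgi47) (kgi xgi3 ygi28 zgi14) (kgi xgi3 ygi31 zgi25) (kgi xgi1 ygi41 zgi42) (kgi xgi0 ygi53 zgi12) (kgi xgi1 ygi43 zgi48) (kgi xgi3 ygi30 zgi2) (kgi xgi3 ygi29 zgi13) (kgi xgi1 ygi38 zgi58) (kgi xgi1 ygi31 zgi32) (kgi xgi0 ygi51 zgi26)) (@D3.rec (fun _ => Pt) (kgi xgi0 ygi50 zgi47) (kgi xgi0 ygi50 zgi53) (kgi xgi1 ygi8 zgi11) (kgi xgi3 ygi23 zgi49) (kgi xgi0 ygi50 zgi48) (kgi xgi0 ygi50 zgi55) (kgi xgi3 ygi42 zgi14) (kgi xgi3 ygi42 zgi19) (kgi xgi3 ygi42 zgi23) (kgi xgi0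 ygi51 zgi25) (kgi xgi0 ygi50 zgi51) (kgi xgi3 ygi32 zgi5) (kgi xgi0 ygi50 zgi52) (kgi xgi3 ygi28 zgi31) (kgi xgi1 ygi35 zgi58) (kgi xgi0 ygi50 zgi54) (kgi xgi1 ygi38 zgi59) (kgi xgi3 ygi42 zgi34) (kgi xgi3 ygi42 zgi11) (kgi xgi3 ygi42 zgi18) (kgi xgi3 ygi42 zgi42) (kgi xgi1 ygi47 zgi6) (kgi xgi3 ygi34 zgi61) (kgi xgi1 ygi47 zgi4) (kgi xgi1 ygi26 zgi24) (kgi xgi1 ygi38 zgi60) (kgi xgi3 ygi42 zgi50) (kgi xgi1 ygi33 zgi36) (kgi xgi3 ygi42 zgi54) (kgi xgi1 ygi47 zgi38) (kgi xgi3 ygi35 zgi12) (kgi xgi1 ygi35 zgi8) (kgi xgi3 ygi39 zgi55) (kgi xgi1 ygi8 zgi28) (kgi xgi1 ygi7 zgi46) (kgi xgi1 ygi40 zgi32) (kgi xgi3 ygi39 zgi56) (kgi xgi3 ygi24 zgi24) (kgi xgi3 ygi43 zgi8) (kgi xgi3 ygi22 zgi61) (kgi xgi3 ygi6 zgi6) (kgi xgi1 ygi7 zgi31) (kgi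 xgi3 ygi39 zgi54) (kgi xgi3 ygi43 zgi19) (kgi xgi0 ygi51 zgi8) (kgi xgi1 ygi33 zgi28) (kgi xgi2 ygi51 zgi38) (kgi xgi3 ygi42 zgi20) (kgi xgi1 ygi29 zgi35) (kgi xgi0 ygi51 zgi9) (kgi xgi0 ygi51 zgi13) (kgi xgi0 ygi51 zgi16) (kgi xgi3 ygi43 zgi34) (kgi xgi3 ygi40 zgi3) (kgi xgi3 ygi43 zgi40) (kgi xgi0 ygi51 zgi14) (kgi xgi0 ygi53 zgi60) (kgi xgi1 ygi42 zgi20) (kgi xgi3 ygi29 zgi14) (kgi xgi3 ygi29 zgi52) (kgi xgi3 ygi26 zgi41) (kgi xgi3 ygi43 zgi52)) (@D3.rec (fun _ => Pt) (kgi xgi3 ygi43 zgi55) (kgi xgi0 ygi53 zgi27) (kgi xgi3 ygi31 zgi42) (kgi xgi3 ygi44 zgi1) (kgi xgi1 ygi53 zgi61) (kgi xgi3 ygi31 zgi38) (kgi xgi0 ygi51 zgi20) (kgi xgi1 ygi47 zgi16) (kgi xgi3 ygi42 zgi6) (kgi xgi3 ygi44 zgi13) (kgi xgi0 ygi51 zgi21) (kgi xgi3 ygi35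 zgi11) (kgi xgi3 ygi44 zgi23) (kgi xgi1 ygi50 zgi14) (kgi xgi3 ygi43 zgi32) (kgi xgi1 ygi45 zgi56) (kgi xgi1 ygi45 zgi42) (kgi xgi3 ygi44 zgi26) (kgi xgi3 ygi31 zgi39) (kgi xgi3 ygi25 zgi14) (kgi xgi3 ygi44 zgi35) (kgi xgi3 ygi34 zgi39) (kgi xgi0 ygi51 zgi29) (kgi xgi3 ygi30 zgi48) (kgi xgi0 ygi53 zgi14) (kgi xgi3 ygi31 zgi7) (kgi xgi3 ygi12 zgi57) (kgi xgi3 ygi44 zgi44) (kgi xgi1 ygi47 zgi50) (kgi xgi1 ygi29 zgi41) (kgi xgi3 ygi13 zgi58) (kgi xgi3 ygi13 zgi8) (kgi xgi3 ygi44 zgi52) (kgi xgi3 ygi44 zgi55) (kgi xgi1 ygi39 zgi48) (kgi xgi3 ygi39 zgi5) (kgi xgi0 ygi51 zgi38) (kgi xgi3 ygi44 zgi47) (kgi xgi3 ygi44 zgi46) (kgi xgi1 ygi34 zgi45) (kgi xgi3 ygi6 zgi17) (kgi xgi3 ygi28 zgi46) (kgi xgi1 ygi34 zgi48) (kgi xgi3 ygi18 zgi11) (kgi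 xgi1 ygi37 zgi52) (kgi xgi2 ygi20 zgi4) (kgi xgi3 ygi45 zgi16) (kgi xgi3 ygi1 zgi12) (kgi xgi1 ygi34 zgi5) (kgi xgi1 ygi26 zgi61) (kgi xgi3 ygi45 zgi21) (kgi xgi1 ygi26 zgi59) (kgi xgi3 ygi45 zgi26) (kgi xgi3 ygi45 zgi30) (kgi xgi3 ygi14 zgi30) (kgi xgi0 ygi51 zgi48) (kgi xgi2 ygi19 zgi44) (kgi xgi3 ygi45 zgi39) (kgi xgi1 ygi50 zgi43) (kgi xgi3 ygi29 zgi15) (kgi xgi3 ygi45 zgi45) (kgi xgi1 ygi50 zgi38)) (@D3.rec (fun _ => Pt) (kgi xgi3 ygi31 zgi2) (kgi xgi3 ygi15 zgi3) (kgi xgi2 ygi20 zgi7) (kgi xgi3 ygi45 zgi56) (kgi xgi0 ygi51 zgi54) (kgi xgi0 ygi52 zgi8) (kgi xgi3 ygi46 zgi2) (kgi xgi0 ygi51 zgi55) (kgi xgi3 ygi29 zgi46) (kgi xgi3 ygi46 zgi12) (kgi xgi3 ygi29 zgi43) (kgi xgi3 ygi15 zgi24) (kgi xgi1 ygi51 zgi4) (kgi xgi3 ygi30 zgi46)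 (kgi xgi3 ygi34 zgi25) (kgi xgi3 ygi46 zgi20) (kgi xgi1 ygi43 zgi18) (kgi xgi3 ygi31 zgi5) (kgi xgi0 ygi51 zgi61) (kgi xgi3 ygi34 zgi23) (kgi xgi3 ygi25 zgi31) (kgi xgi2 ygi34 zgi11) (kgi xgi3 ygi14 zgi57) (kgi xgi1 ygi40 zgi49) (kgi xgi0 ygi52 zgi7) (kgi xgi3 ygi29 zgi39) (kgi xgi3 ygi29 zgi37) (kgi xgi3 ygi46 zgi39) (kgi xgi3 ygi46 zgi43) (kgi xgi3 ygi46 zgi46) (kgi xgi0 ygi52 zgi9) (kgi xgi1 ygi45 zgi43) (kgi xgi3 ygi46 zgi56) (kgi xgi1 ygi45 zgi44) (kgi xgi3 ygi29 zgi16) (kgi xgi3 ygi33 zgi54) (kgi xgi0 ygi52 zgi12) (kgi xgi3 ygi33 zgi29) (kgi xgi1 ygi49 zgi58) (kgi xgi3 ygi34 zgi10) (kgi xgi0 ygi52 zgi35) (kgi xgi3 ygi47 zgi9) (kgi xgi3 ygi19 zgi43) (kgi xgi1 ygi49 zgi61) (kgi xgi3 ygi47 zgi13) (kgi xgi3 ygi47 zgi16) (kgi xgi1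 ygi41 zgi16) (kgi xgi3 ygi47 zgi6) (kgi xgi3 ygi47 zgi23) (kgi xgi1 ygi41 zgi49) (kgi xgi1 ygi54 zgi24) (kgi xgi0 ygi52 zgi19) (kgi xgi1 ygi39 zgi47) (kgi xgi3 ygi44 zgi34) (kgi xgi3 ygi47 zgi40) (kgi xgi3 ygi47 zgi44) (kgi xgi3 ygi47 zgi48) (kgi xgi0 ygi52 zgi21) (kgi xgi0 ygi53 zgi3) (kgi xgi3 ygi47 zgi59) (kgi xgi0 ygi53 zgi0) (kgi xgi1 ygi46 zgi4)) (@D3.rec (fun _ => Pt) (kgi xgi3 ygi33 zgi18) (kgi xgi1 ygi51 zgi52) (kgi xgi3 ygi44 zgi45) (kgi xgi3 ygi48 zgi1) (kgi xgi1 ygi39 zgi8) (kgi xgi1 ygi53 zgi54) (kgi xgi3 ygi48 zgi12) (kgi xgi3 ygi24 zgi28) (kgi xgi3 ygi34 zgi59) (kgi xgi0 ygi52 zgi27) (kgi xgi3 ygi48 zgi10) (kgi xgi3 ygi48 zgi9) (kgi xgi3 ygi48 zgi21) (kgi xgi3 ygi32 zgi28) (kgi xgi3 ygi48 zgi26) (kgi xgi0 ygi53 zgi10)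 (kgi xgi3 ygi19 zgi49) (kgi xgi2 ygi21 zgi48) (kgi xgi1 ygi33 zgi58) (kgi xgi3 ygi48 zgi35) (kgi xgi0 ygi52 zgi31) (kgi xgi0 ygi52 zgi40) (kgi xgi3 ygi48 zgi43) (kgi xgi0 ygi52 zgi32) (kgi xgi3 ygi37 zgi28) (kgi xgi3 ygi48 zgi53) (kgi xgi3 ygi47 zgi4) (kgi xgi0 ygi52 zgi48) (kgi xgi1 ygi46 zgi24) (kgi xgi1 ygi53 zgi5) (kgi xgi3 ygi47 zgi21) (kgi xgi3 ygi30 zgi59) (kgi xgi3 ygi34 zgi36) (kgi xgi3 ygi49 zgi1) (kgi xgi3 ygi49 zgi5) (kgi xgi1 ygi42 zgi52) (kgi xgi3 ygi36 zgi25) (kgi xgi0 ygi52 zgi38) (kgi xgi3 ygi49 zgi3) (kgi xgi3 ygi49 zgi14) (kgi xgi1 ygi54 zgi15) (kgi xgi0 ygi52 zgi39) (kgi xgi3 ygi47 zgi0) (kgi xgi3 ygi46 zgi61) (kgi xgi3 ygi49 zgi23) (kgi xgi3 ygi49 zgi27) (kgi xgi3 ygi49 zgi31) (kgi xgi0 ygi52 zgi41) (kgi xgi3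 ygi34 zgi19) (kgi xgi3 ygi49 zgi41) (kgi xgi3 ygi47 zgi12) (kgi xgi3 ygi34 zgi21) (kgi xgi0 ygi53 zgi8) (kgi xgi0 ygi52 zgi43) (kgi xgi3 ygi34 zgi20) (kgi xgi3 ygi49 zgi51) (kgi xgi3 ygi32 zgi44) (kgi xgi0 ygi52 zgi45) (kgi xgi3 ygi47 zgi24) (kgi xgi3 ygi47 zgi22) (kgi xgi3 ygi42 zgi37) (kgi xgi3 ygi50 zgi4)) (@D3.rec (fun _ => Pt) (kgi xgi3 ygi50 zgi8) (kgi xgi1 ygi43 zgi46) (kgi xgi0 ygi52 zgi47) (kgi xgi3 ygi50 zgi16) (kgi xgi3 ygi37 zgi40) (kgi xgi1 ygi53 zgi58) (kgi xgi0 ygi52 zgi49) (kgi xgi3 ygi47 zgi17) (kgi xgi3 ygi47 zgi15) (kgi xgi3 ygi50 zgi29) (kgi xgi3 ygi50 zgi33) (kgi xgi3 ygi50 zgi36) (kgi xgi3 ygi37 zgi22) (kgi xgi3 ygi50 zgi40) (kgi xgi3 ygi50 zgi44) (kgi xgi3 ygi32 zgi56) (kgi xgi3 ygi50 zgi47) (kgi xgi1 ygi41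 zgi45) (kgi xgi1 ygi45 zgi53) (kgi xgi1 ygi40 zgi14) (kgi xgi3 ygi50 zgi55) (kgi xgi0 ygi52 zgi55) (kgi xgi3 ygi43 zgi28) (kgi xgi3 ygi51 zgi2) (kgi xgi0 ygi52 zgi56) (kgi xgi3 ygi50 zgi57) (kgi xgi3 ygi51 zgi11) (kgi xgi3 ygi50 zgi54) (kgi xgi3 ygi49 zgi60) (kgi xgi3 ygi51 zgi18) (kgi xgi3 ygi50 zgi25) (kgi xgi3 ygi51 zgi24) (kgi xgi3 ygi51 zgi28) (kgi xgi3 ygi51 zgi32) (kgi xgi0 ygi52 zgi60) (kgi xgi3 ygi47 zgi50) (kgi xgi3 ygi51 zgi44) (kgi xgi3 ygi47 zgi47) (kgi xgi3 ygi51 zgi49) (kgi xgi3 ygi49 zgi61) (kgi xgi1 ygi43 zgi24) (kgi xgi3 ygi51 zgi61) (kgi xgi3 ygi34 zgi52) (kgi xgi3 ygi52 zgi4) (kgi xgi3 ygi51 zgi56) (kgi xgi3 ygi51 zgi60) (kgi xgi3 ygi48 zgi58) (kgi xgi0 ygi53 zgi2) (kgi xgi3 ygi47 zgi61) (kgi xgi3 ygi52 zgi20)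 (kgi xgi3 ygi47 zgi58) (kgi xgi3 ygi44 zgi37) (kgi xgi0 ygi53 zgi4) (kgi xgi3 ygi44 zgi39) (kgi xgi3 ygi52 zgi32) (kgi xgi0 ygi53 zgi5) (kgi xgi1 ygi47 zgi10) (kgi xgi1 ygi39 zgi49) (kgi xgi3 ygi52 zgi40) (kgi xgi3 ygi52 zgi44) (kgi xgi0 ygi53 zgi6) (kgi xgi3 ygi48 zgi31)) (@D3.rec (fun _ => Pt) (kgi xgi3 ygi52 zgi52) (kgi xgi3 ygi52 zgi55) (kgi xgi0 ygi53 zgi7) (kgi xgi0 ygi53 zgi11) (kgi xgi3 ygi52 zgi60) (kgi xgi1 ygi47 zgi55) (kgi xgi3 ygi39 zgi12) (kgi xgi3 ygi39 zgi13) (kgi xgi3 ygi27 zgi59) (kgi xgi3 ygi53 zgi8) (kgi xgi3 ygi53 zgi11) (kgi xgi3 ygi53 zgi13) (kgi xgi3 ygi52 zgi51) (kgi xgi3 ygi48 zgi48) (kgi xgi3 ygi52 zgi59) (kgi xgi1 ygi50 zgi12) (kgi xgi3 ygi34 zgi17) (kgi xgi3 ygi38 zgi5) (kgi xgi3 ygi46 zgi60) (kgi xgi1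 ygi54 zgi46) (kgi xgi3 ygi39 zgi16) (kgi xgi3 ygi48 zgi25) (kgi xgi0 ygi53 zgi16) (kgi xgi3 ygi33 zgi56) (kgi xgi2 ygi19 zgi54) (kgi xgi3 ygi9 zgi0) (kgi xgi3 ygi34 zgi24) (kgi xgi1 ygi44 zgi54) (kgi xgi3 ygi28 zgi47) (kgi xgi3 ygi27 zgi61) (kgi xgi0 ygi53 zgi22) (kgi xgi3 ygi28 zgi20) (kgi xgi3 ygi53 zgi49) (kgi xgi3 ygi39 zgi39) (kgi xgi3 ygi53 zgi54) (kgi xgi1 ygi47 zgi33) (kgi xgi3 ygi53 zgi57) (kgi xgi0 ygi53 zgi24) (kgi xgi0 ygi53 zgi31) (kgi xgi0 ygi53 zgi29) (kgi xgi3 ygi54 zgi3) (kgi xgi1 ygi55 zgi1) (kgi xgi3 ygi54 zgi9) (kgi xgi1 ygi54 zgi60) (kgi xgi3 ygi19 zgi5) (kgi xgi3 ygi54 zgi16) (kgi xgi0 ygi53 zgi28) (kgi xgi3 ygi53 zgi59) (kgi xgi3 ygi54 zgi26) (kgi xgi3 ygi34 zgi1) (kgi xgi3 ygi35 zgi35) (kgi xgi3 ygi40 zgi4)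 (kgi xgi1 ygi45 zgi57) (kgi xgi1 ygi40 zgi44) (kgi xgi1 ygi51 zgi11) (kgi xgi3 ygi54 zgi30) (kgi xgi3 ygi54 zgi34) (kgi xgi3 ygi40 zgi17) (kgi xgi1 ygi50 zgi47) (kgi xgi3 ygi37 zgi35) (kgi xgi3 ygi54 zgi47) (kgi xgi1 ygi49 zgi1)) (@D3.rec (fun _ => Pt) (kgi xgi3 ygi54 zgi51) (kgi xgi0 ygi53 zgi37) (kgi xgi0 ygi53 zgi45) (kgi xgi3 ygi41 zgi52) (kgi xgi0 ygi53 zgi42) (kgi xgi3 ygi54 zgi59) (kgi xgi0 ygi54 zgi12) (kgi xgi3 ygi55 zgi2) (kgi xgi3 ygi42 zgi45) (kgi xgi3 ygi14 zgi5) (kgi xgi3 ygi55 zgi10) (kgi xgi0 ygi53 zgi41) (kgi xgi3 ygi54 zgi53) (kgi xgi3 ygi55 zgi19) (kgi xgi3 ygi37 zgi17) (kgi xgi1 ygi51 zgi33) (kgi xgi3 ygi42 zgi12) (kgi xgi3 ygi34 zgi18) (kgi xgi3 ygi55 zgi22) (kgi xgi1 ygi54 zgi50) (kgi xgi0 ygi53 zgi44) (kgi xgi3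 ygi54 zgi57) (kgi xgi3 ygi55 zgi34) (kgi xgi3 ygi24 zgi56) (kgi xgi1 ygi52 zgi15) (kgi xgi1 ygi51 zgi56) (kgi xgi0 ygi53 zgi54) (kgi xgi3 ygi25 zgi37) (kgi xgi3 ygi55 zgi44) (kgi xgi3 ygi32 zgi54) (kgi xgi3 ygi46 zgi59) (kgi xgi3 ygi25 zgi35) (kgi xgi3 ygi54 zgi36) (kgi xgi0 ygi53 zgi56) (kgi xgi3 ygi54 zgi1) (kgi xgi0 ygi53 zgi57) (kgi xgi3 ygi15 zgi19) (kgi xgi3 ygi55 zgi40) (kgi xgi1 ygi55 zgi4) (kgi xgi3 ygi33 zgi2) (kgi xgi3 ygi55 zgi55) (kgi xgi0 ygi53 zgi59) (kgi xgi3 ygi54 zgi24) (kgi xgi3 ygi54 zgi44) (kgi xgi1 ygi45 zgi23) (kgi xgi3 ygi37 zgi2) (kgi xgi1 ygi44 zgi4) (kgi xgi3 ygi40 zgi34) (kgi xgi1 ygi54 zgi6) (kgi xgi1 ygi54 zgi57) (kgi xgi1 ygi54 zgi55) (kgi xgi0 ygi54 zgi6) (kgi xgi1 ygi54 zgi8) (kgi xgi3 ygi56 zgi18)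 (kgi xgi3 ygi56 zgi22) (kgi xgi0 ygi54 zgi7) (kgi xgi3 ygi55 zgi17) (kgi xgi0 ygi54 zgi8) (kgi xgi1 ygi54 zgi49) (kgi xgi3 ygi42 zgi22) (kgi xgi1 ygi54 zgi51) (kgi xgi1 ygi53 zgi53)) (@D3.rec (fun _ => Pt) (kgi xgi1 ygi54 zgi48) (kgi xgi3 ygi55 zgi6) (kgi xgi3 ygi56 zgi38) (kgi xgi3 ygi56 zgi42) (kgi xgi1 ygi48 zgi22) (kgi xgi3 ygi1 zgi9) (kgi xgi3 ygi32 zgi8) (kgi xgi3 ygi26 zgi19) (kgi xgi3 ygi28 zgi9) (kgi xgi1 ygi46 zgi23) (kgi xgi3 ygi56 zgi53) (kgi xgi0 ygi57 zgi51) (kgi xgi1 ygi1 zgi10) (kgi xgi3 ygi56 zgi58) (kgi xgi2 ygi3 zgi15) (kgi xgi1 ygi58 zgi54) (kgi xgi0 ygi59 zgi25) (kgi xgi0 ygi54 zgi23) (kgi xgi1 ygi1 zgi25) (kgi xgi3 ygi57 zgi6) (kgi xgi1 ygi1 zgi22) (kgi xgi1 ygi59 zgi36) (kgi xgi2 ygi26 zgi13) (kgi xgi2 ygi26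 zgi7) (kgi xgi2 ygi26 zgi3) (kgi xgi2 ygi26 zgi57) (kgi xgi1 ygi0 zgi60) (kgi xgi0 ygi55 zgi19) (kgi xgi3 ygi5 zgi37) (kgi xgi0 ygi54 zgi29) (kgi xgi1 ygi1 zgi46) (kgi xgi3 ygi57 zgi28) (kgi xgi3 ygi57 zgi33) (kgi xgi1 ygi1 zgi42) (kgi xgi3 ygi57 zgi38) (kgi xgi0 ygi55 zgi25) (kgi xgi1 ygi28 zgi18) (kgi xgi3 ygi57 zgi42) (kgi xgi2 ygi9 zgi18) (kgi xgi3 ygi57 zgi47) (kgi xgi1 ygi28 zgi4) (kgi xgi2 ygi3 zgi17) (kgi xgi0 ygi54 zgi35) (kgi xgi3 ygi3 zgi16) (kgi xgi3 ygi3 zgi15) (kgi xgi3 ygi57 zgi59) (kgi xgi3 ygi58 zgi1) (kgi xgi2 ygi35 zgi24) (kgi xgi1 ygi11 zgi47) (kgi xgi2 ygi29 zgi20) (kgi xgi0 ygi54 zgi40) (kgi xgi0 ygi54 zgi44) (kgi xgi3 ygi58 zgi9) (kgi xgi0 ygi54 zgi41) (kgi xgi2 ygi4 zgi0) (kgi xgi2 ygi23 zgi1) (kgi xgi1 ygi18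 zgi25) (kgi xgi1 ygi18 zgi34) (kgi xgi1 ygi18 zgi9) (kgi xgi3 ygi58 zgi16) (kgi xgi2 ygi7 zgi24) (kgi xgi0 ygi54 zgi43)) (@D3.rec (fun _ => Pt) (kgi xgi3 ygi58 zgi11) (kgi xgi3 ygi58 zgi31) (kgi xgi3 ygi58 zgi8) (kgi xgi1 ygi11 zgi15) (kgi xgi3 ygi58 zgi39) (kgi xgi3 ygi58 zgi42) (kgi xgi3 ygi58 zgi45) (kgi xgi2 ygi11 zgi44) (kgi xgi3 ygi58 zgi50) (kgi xgi2 ygi49 zgi7) (kgi xgi2 ygi12 zgi36) (kgi xgi1 ygi18 zgi36) (kgi xgi3 ygi58 zgi54) (kgi xgi2 ygi18 zgi52) (kgi xgi0 ygi54 zgi58) (kgi xgi3 ygi58 zgi56) (kgi xgi3 ygi59 zgi0) (kgi xgi3 ygi59 zgi7) (kgi xgi3 ygi58 zgi57) (kgi xgi2 ygi11 zgi34) (kgi xgi3 ygi59 zgi14) (kgi xgi1 ygi3 zgi16) (kgi xgi2 ygi55 zgi15) (kgi xgi3 ygi59 zgi20) (kgi xgi1 ygi22 zgi3) (kgi xgi1 ygi12 zgi30) (kgi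 xgi1 ygi21 zgi53) (kgi xgi3 ygi59 zgi19) (kgi xgi2 ygi49 zgi38) (kgi xgi3 ygi59 zgi36) (kgi xgi1 ygi38 zgi17) (kgi xgi0 ygi55 zgi2) (kgi xgi1 ygi38 zgi19) (kgi xgi3 ygi20 zgi16) (kgi xgi3 ygi59 zgi51) (kgi xgi0 ygi55 zgi3) (kgi xgi1 ygi11 zgi4) (kgi xgi1 ygi11 zgi2) (kgi xgi2 ygi29 zgi51) (kgi xgi0 ygi55 zgi5) (kgi xgi1 ygi9 zgi33) (kgi xgi2 ygi26 zgi16) (kgi xgi2 ygi52 zgi17) (kgi xgi1 ygi10 zgi15) (kgi xgi0 ygi55 zgi35) (kgi xgi2 ygi24 zgi14) (kgi xgi3 ygi59 zgi61) (kgi xgi2 ygi8 zgi51) (kgi xgi1 ygi55 zgi27) (kgi xgi0 ygi55 zgi12) (kgi xgi3 ygi3 zgi36) (kgi xgi2 ygi15 zgi55) (kgi xgi2 ygi9 zgi41) (kgi xgi4 ygi0 zgi12) (kgi xgi0 ygi55 zgi14) (kgi xgi1 ygi9 zgi21) (kgi xgi2 ygi8 zgi27) (kgi xgi1 ygi9 zgi18) (kgi xgi2 ygi7 zgi4) (kgi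 xgi2 ygi24 zgi46) (kgi xgi4 ygi0 zgi26) (kgi xgi2 ygi26 zgi18)) (@D3.rec (fun _ => Pt) (kgi xgi1 ygi1 zgi38) (kgi xgi1 ygi27 zgi49) (kgi xgi4 ygi0 zgi35) (kgi xgi1 ygi31 zgi28) (kgi xgi0 ygi55 zgi22) (kgi xgi1 ygi6 zgi26) (kgi xgi0 ygi55 zgi23) (kgi xgi1 ygi22 zgi9) (kgi xgi0 ygi55 zgi24) (kgi xgi4 ygi0 zgi39) (kgi xgi3 ygi59 zgi31) (kgi xgi4 ygi0 zgi50) (kgi xgi4 ygi0 zgi40) (kgi xgi1 ygi1 zgi51) (kgi xgi4 ygi0 zgi56) (kgi xgi2 ygi27 zgi61) (kgi xgi1 ygi27 zgi50) (kgi xgi4 ygi0 zgi59) (kgi xgi0 ygi55 zgi29) (kgi xgi2 ygi58 zgi42) (kgi xgi0 ygi56 zgi6) (kgi xgi0 ygi55 zgi30) (kgi xgi0 ygi56 zgi19) (kgi xgi2 ygi4 zgi43) (kgi xgi0 ygi56 zgi16) (kgi xgi1 ygi10 zgi22) (kgi xgi0 ygi56 zgi27) (kgi xgi0 ygi55 zgi55) (kgi xgi0 ygi56 zgi32)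 (kgi xgi4 ygi1 zgi11) (kgi xgi2 ygi7 zgi3) (kgi xgi0 ygi55 zgi37) (kgi xgi0 ygi55 zgi40) (kgi xgi4 ygi1 zgi16) (kgi xgi1 ygi9 zgi13) (kgi xgi2 ygi33 zgi15) (kgi xgi1 ygi9 zgi6) (kgi xgi2 ygi33 zgi23) (kgi xgi1 ygi56 zgi38) (kgi xgi0 ygi56 zgi41) (kgi xgi2 ygi4 zgi7) (kgi xgi3 ygi1 zgi0) (kgi xgi0 ygi55 zgi44) (kgi xgi1 ygi58 zgi10) (kgi xgi2 ygi33 zgi17) (kgi xgi4 ygi1 zgi35) (kgi xgi1 ygi58 zgi6) (kgi xgi1 ygi9 zgi45) (kgi xgi4 ygi1 zgi40) (kgi xgi2 ygi28 zgi44) (kgi xgi0 ygi56 zgi21) (kgi xgi0 ygi55 zgi48) (kgi xgi1 ygi12 zgi57) (kgi xgi4 ygi1 zgi53) (kgi xgi1 ygi12 zgi54) (kgi xgi4 ygi1 zgi59) (kgi xgi1 ygi58 zgi55) (kgi xgi0 ygi55 zgi51) (kgi xgi0 ygi55 zgi54) (kgi xgi2 ygi33 zgi45) (kgi xgi2 ygi24 zgi16) (kgi xgi4 ygi1 zgi58))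 (@D3.rec (fun _ => Pt) (kgi xgi0 ygi56 zgi12) (kgi xgi4 ygi2 zgi2) (kgi xgi1 ygi9 zgi30) (kgi xgi0 ygi59 zgi4) (kgi xgi1 ygi59 zgi35) (kgi xgi1 ygi28 zgi17) (kgi xgi0 ygi55 zgi58) (kgi xgi1 ygi57 zgi46) (kgi xgi4 ygi2 zgi17) (kgi xgi4 ygi2 zgi22) (kgi xgi1 ygi57 zgi42) (kgi xgi1 ygi27 zgi60) (kgi xgi0 ygi55 zgi60) (kgi xgi1 ygi58 zgi22) (kgi xgi4 ygi1 zgi50) (kgi xgi1 ygi58 zgi19) (kgi xgi1 ygi15 zgi16) (kgi xgi4 ygi2 zgi34) (kgi xgi1 ygi11 zgi21) (kgi xgi0 ygi56 zgi1) (kgi xgi1 ygi58 zgi15) (kgi xgi2 ygi31 zgi42) (kgi xgi1 ygi58 zgi12) (kgi xgi1 ygi14 zgi42) (kgi xgi1 ygi17 zgi17) (kgi xgi2 ygi41 zgi25) (kgi xgi0 ygi56 zgi4) (kgi xgi4 ygi2 zgi52) (kgi xgi1 ygi2 zgi54) (kgi xgi4 ygi2 zgi58) (kgi xgi4 ygi2 zgi61) (kgi xgi2 ygi4 zgi57)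 (kgi xgi4 ygi2 zgi57) (kgi xgi2 ygi23 zgi23) (kgi xgi0 ygi56 zgi8) (kgi xgi4 ygi1 zgi3) (kgi xgi4 ygi3 zgi14) (kgi xgi4 ygi1 zgi1) (kgi xgi4 ygi3 zgi19) (kgi xgi4 ygi3 zgi22) (kgi xgi0 ygi56 zgi11) (kgi xgi0 ygi56 zgi14) (kgi xgi2 ygi45 zgi24) (kgi xgi4 ygi3 zgi31) (kgi xgi2 ygi24 zgi10) (kgi xgi2 ygi7 zgi55) (kgi xgi1 ygi57 zgi36) (kgi xgi1 ygi2 zgi33) (kgi xgi2 ygi2 zgi15) (kgi xgi4 ygi3 zgi39) (kgi xgi4 ygi3 zgi43) (kgi xgi2 ygi45 zgi27) (kgi xgi4 ygi3 zgi49) (kgi xgi0 ygi56 zgi15) (kgi xgi1 ygi55 zgi13) (kgi xgi2 ygi7 zgi1) (kgi xgi1 ygi2 zgi31) (kgi xgi0 ygi59 zgi23) (kgi xgi4 ygi3 zgi58) (kgi xgi4 ygi3 zgi35) (kgi xgi2 ygi4 zgi46) (kgi xgi4 ygi4 zgi5)) (@D3.rec (fun _ => Pt) (kgi xgi0 ygi56 zgi18) (kgi xgi1 ygi59 zgi3) (kgi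 xgi4 ygi4 zgi12) (kgi xgi1 ygi59 zgi0) (kgi xgi2 ygi4 zgi41) (kgi xgi4 ygi4 zgi19) (kgi xgi0 ygi56 zgi20) (kgi xgi0 ygi56 zgi29) (kgi xgi4 ygi3 zgi26) (kgi xgi4 ygi4 zgi28) (kgi xgi2 ygi4 zgi39) (kgi xgi2 ygi7 zgi42) (kgi xgi1 ygi12 zgi53) (kgi xgi0 ygi58 zgi32) (kgi xgi0 ygi56 zgi23) (kgi xgi3 ygi57 zgi16) (kgi xgi1 ygi9 zgi31) (kgi xgi2 ygi7 zgi50) (kgi xgi1 ygi18 zgi14) (kgi xgi1 ygi11 zgi23) (kgi xgi4 ygi3 zgi24) (kgi xgi4 ygi4 zgi42) (kgi xgi0 ygi56 zgi30) (kgi xgi1 ygi1 zgi27) (kgi xgi1 ygi19 zgi9) (kgi xgi2 ygi46 zgi27) (kgi xgi0 ygi59 zgi24) (kgi xgi1 ygi1 zgi30) (kgi xgi0 ygi56 zgi37) (kgi xgi4 ygi2 zgi1) (kgi xgi1 ygi28 zgi49) (kgi xgi4 ygi2 zgi0) (kgi xgi1 ygi18 zgi55) (kgi xgi4 ygi4 zgi53) (kgi xgi4 ygi1 zgi22) (kgi xgi1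 ygi58 zgi3) (kgi xgi2 ygi5 zgi17) (kgi xgi2 ygi4 zgi24) (kgi xgi1 ygi8 zgi61) (kgi xgi2 ygi23 zgi55) (kgi xgi0 ygi56 zgi47) (kgi xgi0 ygi56 zgi51) (kgi xgi3 ygi58 zgi19) (kgi xgi0 ygi56 zgi48) (kgi xgi2 ygi4 zgi55) (kgi xgi2 ygi4 zgi12) (kgi xgi2 ygi44 zgi27) (kgi xgi2 ygi7 zgi16) (kgi xgi2 ygi4 zgi20) (kgi xgi4 ygi5 zgi11) (kgi xgi2 ygi3 zgi22) (kgi xgi0 ygi56 zgi50) (kgi xgi4 ygi5 zgi6) (kgi xgi4 ygi5 zgi24) (kgi xgi4 ygi5 zgi4) (kgi xgi1 ygi8 zgi41) (kgi xgi4 ygi5 zgi30) (kgi xgi2 ygi45 zgi12) (kgi xgi2 ygi27 zgi55) (kgi xgi2 ygi39 zgi34) (kgi xgi1 ygi25 zgi18) (kgi xgi3 ygi58 zgi49))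
def fi_g_2 : D2 → D3 → Pt := @D2.rec (fun _ => D3 → Pt) (@D3.rec (fun _ => Pt) (kgi xgi0 ygi56 zgi56) (kgi xgi4 ygi1 zgi15) (kgi xgi1 ygi21 zgi28) (kgi xgi2 ygi33 zgi46) (kgi xgi1 ygi5 zgi24) (kgi xgi1 ygi21 zgi31) (kgi xgi4 ygi5 zgi39) (kgi xgi1 ygi25 zgi59) (kgi xgi2 ygi17 zgi46) (kgi xgi2 ygi33 zgi38) (kgi xgi3 ygi5 zgi11) (kgi xgi2 ygi30 zgi51) (kgi xgi2 ygi12 zgi35) (kgi xgi0 ygi57 zgi6) (kgi xgi4 ygi5 zgi47) (kgi xgi4 ygi5 zgi53) (kgi xgi4 ygi5 zgi60) (kgi xgi4 ygi5 zgi48) (kgi xgi2 ygi39 zgi25) (kgi xgi4 ygi6 zgi5) (kgi xgi1 ygi14 zgi0) (kgi xgi2 ygi23 zgi29) (kgi xgi1 ygi1 zgi34) (kgi xgi1 ygi9 zgi24) (kgi xgi2 ygi24 zgi33) (kgi xgi0 ygi57 zgi13) (kgi xgi0 ygi57 zgi17) (kgi xgi2 ygi25 zgi23) (kgi xgi0 ygi57 zgi14) (kgi xgi1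 ygi55 zgi47) (kgi xgi1 ygi0 zgi54) (kgi xgi4 ygi6 zgi23) (kgi xgi2 ygi3 zgi54) (kgi xgi1 ygi14 zgi47) (kgi xgi4 ygi6 zgi19) (kgi xgi4 ygi6 zgi22) (kgi xgi2 ygi6 zgi38) (kgi xgi0 ygi57 zgi16) (kgi xgi4 ygi6 zgi16) (kgi xgi4 ygi6 zgi39) (kgi xgi4 ygi6 zgi14) (kgi xgi4 ygi4 zgi32) (kgi xgi0 ygi57 zgi21) (kgi xgi2 ygi39 zgi22) (kgi xgi4 ygi6 zgi47) (kgi xgi2 ygi28 zgi27) (kgi xgi2 ygi23 zgi13) (kgi xgi2 ygi30 zgi30) (kgi xgi2 ygi12 zgi22) (kgi xgi1 ygi0 zgi56) (kgi xgi4 ygi6 zgi57) (kgi xgi4 ygi6 zgi60) (kgi xgi2 ygi59 zgi3) (kgi xgi1 ygi16 zgi36) (kgi xgi2 ygi26 zgi0) (kgi xgi2 ygi53 zgi49) (kgi xgi2 ygi14 zgi2) (kgi xgi2 ygi15 zgi49) (kgi xgi0 ygi57 zgi33) (kgi xgi4 ygi7 zgi6) (kgi xgi4 ygi7 zgi10) (kgi xgi4 ygi7 zgi17)) (@D3.rec (fun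 _ => Pt) (kgi xgi4 ygi7 zgi7) (kgi xgi2 ygi0 zgi20) (kgi xgi2 ygi58 zgi55) (kgi xgi4 ygi7 zgi26) (kgi xgi1 ygi25 zgi34) (kgi xgi1 ygi55 zgi58) (kgi xgi0 ygi57 zgi38) (kgi xgi2 ygi1 zgi20) (kgi xgi4 ygi7 zgi34) (kgi xgi1 ygi11 zgi20) (kgi xgi2 ygi39 zgi30) (kgi xgi2 ygi41 zgi53) (kgi xgi0 ygi57 zgi40) (kgi xgi4 ygi7 zgi42) (kgi xgi1 ygi25 zgi17) (kgi xgi2 ygi8 zgi1) (kgi xgi4 ygi7 zgi50) (kgi xgi1 ygi15 zgi41) (kgi xgi2 ygi1 zgi9) (kgi xgi4 ygi7 zgi55) (kgi xgi2 ygi1 zgi6) (kgi xgi2 ygi40 zgi25) (kgi xgi0 ygi57 zgi54) (kgi xgi2 ygi1 zgi14) (kgi xgi4 ygi8 zgi3) (kgi xgi2 ygi1 zgi12) (kgi xgi1 ygi1 zgi9) (kgi xgi2 ygi1 zgi5) (kgi xgi4 ygi8 zgi12) (kgi xgi4 ygi7 zgi61) (kgi xgi2 ygi5 zgi48) (kgi xgi1 ygi25 zgi9) (kgi xgi0 ygi57 zgi49)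 (kgi xgi0 ygi58 zgi0) (kgi xgi4 ygi8 zgi23) (kgi xgi0 ygi57 zgi59) (kgi xgi4 ygi8 zgi28) (kgi xgi4 ygi3 zgi7) (kgi xgi0 ygi57 zgi52) (kgi xgi4 ygi8 zgi33) (kgi xgi4 ygi8 zgi36) (kgi xgi0 ygi57 zgi53) (kgi xgi0 ygi57 zgi57) (kgi xgi4 ygi8 zgi43) (kgi xgi4 ygi8 zgi48) (kgi xgi4 ygi7 zgi60) (kgi xgi1 ygi14 zgi26) (kgi xgi1 ygi16 zgi32) (kgi xgi1 ygi1 zgi11) (kgi xgi1 ygi1 zgi13) (kgi xgi2 ygi3 zgi19) (kgi xgi4 ygi8 zgi58) (kgi xgi2 ygi37 zgi20) (kgi xgi1 ygi19 zgi3) (kgi xgi4 ygi8 zgi32) (kgi xgi4 ygi7 zgi31) (kgi xgi4 ygi8 zgi42) (kgi xgi4 ygi9 zgi11) (kgi xgi1 ygi16 zgi49) (kgi xgi2 ygi41 zgi47) (kgi xgi1 ygi1 zgi15) (kgi xgi4 ygi9 zgi19)) (@D3.rec (fun _ => Pt) (kgi xgi1 ygi2 zgi51) (kgi xgi4 ygi9 zgi26) (kgi xgi4 ygi8 zgi52) (kgi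 xgi4 ygi9 zgi18) (kgi xgi4 ygi9 zgi23) (kgi xgi4 ygi9 zgi37) (kgi xgi0 ygi57 zgi61) (kgi xgi4 ygi8 zgi26) (kgi xgi4 ygi9 zgi48) (kgi xgi4 ygi9 zgi53) (kgi xgi4 ygi8 zgi22) (kgi xgi4 ygi9 zgi59) (kgi xgi0 ygi58 zgi19) (kgi xgi2 ygi5 zgi61) (kgi xgi4 ygi10 zgi2) (kgi xgi0 ygi58 zgi3) (kgi xgi2 ygi40 zgi13) (kgi xgi2 ygi40 zgi26) (kgi xgi0 ygi58 zgi4) (kgi xgi2 ygi5 zgi59) (kgi xgi4 ygi10 zgi16) (kgi xgi4 ygi10 zgi21) (kgi xgi0 ygi58 zgi5) (kgi xgi4 ygi10 zgi3) (kgi xgi1 ygi15 zgi45) (kgi xgi0 ygi58 zgi56) (kgi xgi2 ygi6 zgi9) (kgi xgi0 ygi58 zgi15) (kgi xgi4 ygi10 zgi28) (kgi xgi4 ygi10 zgi32) (kgi xgi0 ygi58 zgi8) (kgi xgi2 ygi5 zgi57) (kgi xgi2 ygi5 zgi55) (kgi xgi1 ygi55 zgi12) (kgi xgi2 ygi6 zgi10) (kgi xgi2 ygi5 zgi41) (kgi xgi1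 ygi24 zgi61) (kgi xgi0 ygi58 zgi13) (kgi xgi4 ygi10 zgi45) (kgi xgi4 ygi10 zgi14) (kgi xgi1 ygi15 zgi26) (kgi xgi2 ygi37 zgi0) (kgi xgi4 ygi10 zgi54) (kgi xgi4 ygi10 zgi26) (kgi xgi0 ygi58 zgi16) (kgi xgi4 ygi10 zgi59) (kgi xgi2 ygi6 zgi8) (kgi xgi1 ygi3 zgi9) (kgi xgi1 ygi15 zgi35) (kgi xgi4 ygi11 zgi4) (kgi xgi4 ygi11 zgi9) (kgi xgi4 ygi11 zgi13) (kgi xgi4 ygi11 zgi17) (kgi xgi0 ygi58 zgi21) (kgi xgi2 ygi6 zgi17) (kgi xgi1 ygi17 zgi31) (kgi xgi2 ygi6 zgi15) (kgi xgi2 ygi5 zgi38) (kgi xgi4 ygi11 zgi27) (kgi xgi4 ygi11 zgi32) (kgi xgi4 ygi11 zgi35) (kgi xgi3 ygi10 zgi57)) (@D3.rec (fun _ => Pt) (kgi xgi0 ygi58 zgi24) (kgi xgi2 ygi6 zgi25) (kgi xgi2 ygi6 zgi23) (kgi xgi4 ygi11 zgi43) (kgi xgi3 ygi7 zgi59) (kgi xgi0 ygi58 zgi27) (kgi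 xgi4 ygi11 zgi46) (kgi xgi4 ygi11 zgi52) (kgi xgi4 ygi11 zgi59) (kgi xgi4 ygi11 zgi47) (kgi xgi4 ygi12 zgi1) (kgi xgi4 ygi12 zgi2) (kgi xgi0 ygi58 zgi30) (kgi xgi1 ygi57 zgi25) (kgi xgi2 ygi5 zgi60) (kgi xgi2 ygi8 zgi19) (kgi xgi1 ygi59 zgi12) (kgi xgi2 ygi10 zgi1) (kgi xgi3 ygi57 zgi11) (kgi xgi2 ygi8 zgi4) (kgi xgi1 ygi9 zgi22) (kgi xgi2 ygi7 zgi9) (kgi xgi4 ygi12 zgi16) (kgi xgi0 ygi58 zgi40) (kgi xgi2 ygi7 zgi7) (kgi xgi4 ygi12 zgi25) (kgi xgi4 ygi12 zgi30) (kgi xgi0 ygi58 zgi41) (kgi xgi4 ygi12 zgi17) (kgi xgi1 ygi59 zgi50) (kgi xgi2 ygi23 zgi12) (kgi xgi0 ygi59 zgi56) (kgi xgi4 ygi12 zgi40) (kgi xgi1 ygi1 zgi35) (kgi xgi1 ygi0 zgi2) (kgi xgi2 ygi7 zgi21) (kgi xgi4 ygi12 zgi47) (kgi xgi1 ygi30 zgi16) (kgi xgi0 ygi58 zgi45) (kgi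 xgi2 ygi6 zgi52) (kgi xgi2 ygi6 zgi50) (kgi xgi2 ygi43 zgi60) (kgi xgi0 ygi58 zgi50) (kgi xgi2 ygi7 zgi22) (kgi xgi1 ygi1 zgi26) (kgi xgi2 ygi23 zgi49) (kgi xgi2 ygi6 zgi39) (kgi xgi2 ygi0 zgi32) (kgi xgi0 ygi58 zgi54) (kgi xgi2 ygi6 zgi37) (kgi xgi4 ygi13 zgi7) (kgi xgi4 ygi12 zgi23) (kgi xgi0 ygi58 zgi55) (kgi xgi4 ygi12 zgi61) (kgi xgi4 ygi12 zgi60) (kgi xgi4 ygi13 zgi17) (kgi xgi4 ygi10 zgi24) (kgi xgi0 ygi58 zgi57) (kgi xgi2 ygi7 zgi19) (kgi xgi0 ygi58 zgi60) (kgi xgi2 ygi6 zgi57) (kgi xgi2 ygi6 zgi56)) (@D3.rec (fun _ => Pt) (kgi xgi2 ygi1 zgi53) (kgi xgi2 ygi39 zgi2) (kgi xgi4 ygi1 zgi7) (kgi xgi4 ygi1 zgi14) (kgi xgi1 ygi28 zgi50) (kgi xgi4 ygi13 zgi29) (kgi xgi4 ygi2 zgi7) (kgi xgi1 ygi57 zgi39) (kgi xgi1 ygi59 zgi48) (kgi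 xgi0 ygi59 zgi7) (kgi xgi4 ygi1 zgi49) (kgi xgi1 ygi12 zgi48) (kgi xgi1 ygi11 zgi24) (kgi xgi2 ygi4 zgi11) (kgi xgi4 ygi13 zgi46) (kgi xgi2 ygi4 zgi9) (kgi xgi0 ygi59 zgi10) (kgi xgi2 ygi25 zgi35) (kgi xgi0 ygi59 zgi12) (kgi xgi4 ygi13 zgi55) (kgi xgi2 ygi34 zgi21) (kgi xgi1 ygi14 zgi6) (kgi xgi2 ygi45 zgi23) (kgi xgi4 ygi12 zgi8) (kgi xgi2 ygi7 zgi5) (kgi xgi2 ygi11 zgi38) (kgi xgi4 ygi13 zgi60) (kgi xgi4 ygi13 zgi38) (kgi xgi0 ygi59 zgi14) (kgi xgi4 ygi13 zgi53) (kgi xgi4 ygi14 zgi14) (kgi xgi4 ygi13 zgi51) (kgi xgi4 ygi6 zgi49) (kgi xgi0 ygi59 zgi17) (kgi xgi4 ygi3 zgi11) (kgi xgi1 ygi59 zgi55) (kgi xgi2 ygi45 zgi29) (kgi xgi4 ygi14 zgi30) (kgi xgi2 ygi7 zgi29) (kgi xgi1 ygi57 zgi50) (kgi xgi1 ygi11 zgi13) (kgi xgi1 ygi57 zgi23)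 (kgi xgi4 ygi14 zgi39) (kgi xgi1 ygi59 zgi4) (kgi xgi4 ygi14 zgi44) (kgi xgi4 ygi14 zgi47) (kgi xgi1 ygi58 zgi57) (kgi xgi4 ygi1 zgi5) (kgi xgi4 ygi14 zgi54) (kgi xgi4 ygi8 zgi61) (kgi xgi2 ygi58 zgi61) (kgi xgi2 ygi41 zgi12) (kgi xgi0 ygi59 zgi29) (kgi xgi4 ygi14 zgi60) (kgi xgi1 ygi16 zgi35) (kgi xgi2 ygi34 zgi37) (kgi xgi2 ygi37 zgi44) (kgi xgi1 ygi24 zgi58) (kgi xgi2 ygi39 zgi18) (kgi xgi0 ygi59 zgi41) (kgi xgi2 ygi4 zgi54) (kgi xgi4 ygi15 zgi14)) (@D3.rec (fun _ => Pt) (kgi xgi2 ygi4 zgi52) (kgi xgi1 ygi24 zgi51) (kgi xgi4 ygi15 zgi21) (kgi xgi4 ygi15 zgi10) (kgi xgi1 ygi17 zgi23) (kgi xgi1 ygi16 zgi27) (kgi xgi0 ygi59 zgi38) (kgi xgi0 ygi59 zgi49) (kgi xgi4 ygi15 zgi32) (kgi xgi0 ygi59 zgi46) (kgi xgi0 ygi59 zgi40) (kgi xgi0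 ygi59 zgi44) (kgi xgi4 ygi15 zgi42) (kgi xgi4 ygi15 zgi47) (kgi xgi4 ygi15 zgi9) (kgi xgi1 ygi14 zgi56) (kgi xgi1 ygi25 zgi14) (kgi xgi2 ygi6 zgi35) (kgi xgi2 ygi38 zgi22) (kgi xgi2 ygi38 zgi54) (kgi xgi1 ygi16 zgi51) (kgi xgi1 ygi14 zgi18) (kgi xgi4 ygi15 zgi41) (kgi xgi4 ygi16 zgi1) (kgi xgi0 ygi59 zgi45) (kgi xgi4 ygi2 zgi49) (kgi xgi4 ygi16 zgi4) (kgi xgi4 ygi16 zgi9) (kgi xgi4 ygi10 zgi36) (kgi xgi4 ygi16 zgi3) (kgi xgi4 ygi16 zgi18) (kgi xgi0 ygi59 zgi48) (kgi xgi4 ygi15 zgi35) (kgi xgi4 ygi16 zgi30) (kgi xgi4 ygi16 zgi34) (kgi xgi4 ygi15 zgi31) (kgi xgi4 ygi16 zgi40) (kgi xgi2 ygi5 zgi1) (kgi xgi1 ygi0 zgi6) (kgi xgi2 ygi2 zgi37) (kgi xgi2 ygi38 zgi43) (kgi xgi0 ygi59 zgi52) (kgi xgi2 ygi2 zgi35) (kgi xgi4 ygi16 zgi52) (kgi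 xgi4 ygi16 zgi57) (kgi xgi0 ygi59 zgi53) (kgi xgi2 ygi36 zgi22) (kgi xgi1 ygi25 zgi3) (kgi xgi2 ygi1 zgi28) (kgi xgi1 ygi0 zgi21) (kgi xgi4 ygi17 zgi3) (kgi xgi1 ygi0 zgi40) (kgi xgi2 ygi2 zgi46) (kgi xgi4 ygi17 zgi8) (kgi xgi4 ygi12 zgi51) (kgi xgi0 ygi59 zgi57) (kgi xgi2 ygi2 zgi32) (kgi xgi2 ygi2 zgi30) (kgi xgi2 ygi2 zgi48) (kgi xgi2 ygi2 zgi18) (kgi xgi1 ygi15 zgi43) (kgi xgi1 ygi0 zgi0)) (@D3.rec (fun _ => Pt) (kgi xgi2 ygi2 zgi13) (kgi xgi4 ygi17 zgi23) (kgi xgi4 ygi16 zgi50) (kgi xgi1 ygi0 zgi1) (kgi xgi4 ygi17 zgi16) (kgi xgi2 ygi3 zgi14) (kgi xgi4 ygi17 zgi31) (kgi xgi4 ygi12 zgi45) (kgi xgi1 ygi0 zgi3) (kgi xgi2 ygi2 zgi44) (kgi xgi1 ygi24 zgi52) (kgi xgi4 ygi17 zgi40) (kgi xgi4 ygi17 zgi45) (kgi xgi4 ygi17 zgi48) (kgi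 xgi4 ygi17 zgi52) (kgi xgi1 ygi0 zgi8) (kgi xgi2 ygi2 zgi56) (kgi xgi2 ygi2 zgi53) (kgi xgi2 ygi2 zgi12) (kgi xgi4 ygi18 zgi1) (kgi xgi4 ygi18 zgi6) (kgi xgi4 ygi18 zgi9) (kgi xgi3 ygi10 zgi37) (kgi xgi1 ygi0 zgi11) (kgi xgi2 ygi3 zgi2) (kgi xgi2 ygi3 zgi0) (kgi xgi4 ygi18 zgi16) (kgi xgi4 ygi17 zgi57) (kgi xgi4 ygi18 zgi20) (kgi xgi1 ygi29 zgi48) (kgi xgi1 ygi0 zgi14) (kgi xgi4 ygi11 zgi57) (kgi xgi4 ygi11 zgi58) (kgi xgi1 ygi0 zgi15) (kgi xgi1 ygi55 zgi55) (kgi xgi1 ygi55 zgi21) (kgi xgi1 ygi8 zgi59) (kgi xgi2 ygi3 zgi48) (kgi xgi4 ygi13 zgi15) (kgi xgi1 ygi0 zgi18) (kgi xgi2 ygi3 zgi46) (kgi xgi4 ygi18 zgi48) (kgi xgi4 ygi18 zgi53) (kgi xgi1 ygi0 zgi19) (kgi xgi4 ygi18 zgi41) (kgi xgi2 ygi0 zgi36) (kgi xgi1 ygi8 zgi53) (kgi xgi2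 ygi3 zgi58) (kgi xgi3 ygi11 zgi28) (kgi xgi2 ygi19 zgi25) (kgi xgi1 ygi0 zgi22) (kgi xgi2 ygi3 zgi40) (kgi xgi2 ygi3 zgi38) (kgi xgi4 ygi19 zgi4) (kgi xgi1 ygi9 zgi7) (kgi xgi2 ygi40 zgi29) (kgi xgi1 ygi0 zgi27) (kgi xgi2 ygi3 zgi59) (kgi xgi4 ygi13 zgi23) (kgi xgi1 ygi0 zgi30) (kgi xgi1 ygi9 zgi5) (kgi xgi4 ygi4 zgi20)) (@D3.rec (fun _ => Pt) (kgi xgi4 ygi19 zgi14) (kgi xgi1 ygi0 zgi31) (kgi xgi1 ygi1 zgi17) (kgi xgi1 ygi58 zgi53) (kgi xgi1 ygi10 zgi13) (kgi xgi1 ygi9 zgi53) (kgi xgi2 ygi24 zgi27) (kgi xgi2 ygi3 zgi23) (kgi xgi1 ygi59 zgi47) (kgi xgi1 ygi0 zgi38) (kgi xgi2 ygi3 zgi21) (kgi xgi4 ygi19 zgi34) (kgi xgi4 ygi18 zgi46) (kgi xgi1 ygi0 zgi39) (kgi xgi4 ygi19 zgi26) (kgi xgi3 ygi58 zgi6) (kgi xgi4 ygi12 zgi34) (kgi xgi3 ygi8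 zgi46) (kgi xgi4 ygi17 zgi6) (kgi xgi1 ygi0 zgi41) (kgi xgi4 ygi19 zgi47) (kgi xgi2 ygi3 zgi57) (kgi xgi1 ygi0 zgi44) (kgi xgi2 ygi3 zgi43) (kgi xgi2 ygi3 zgi42) (kgi xgi4 ygi19 zgi52) (kgi xgi2 ygi59 zgi45) (kgi xgi1 ygi0 zgi47) (kgi xgi4 ygi19 zgi59) (kgi xgi2 ygi0 zgi49) (kgi xgi2 ygi33 zgi11) (kgi xgi2 ygi33 zgi19) (kgi xgi1 ygi2 zgi7) (kgi xgi1 ygi0 zgi52) (kgi xgi4 ygi20 zgi11) (kgi xgi4 ygi1 zgi33) (kgi xgi2 ygi7 zgi46) (kgi xgi4 ygi20 zgi20) (kgi xgi1 ygi59 zgi44) (kgi xgi4 ygi1 zgi45) (kgi xgi1 ygi1 zgi28) (kgi xgi4 ygi3 zgi34) (kgi xgi2 ygi7 zgi27) (kgi xgi2 ygi29 zgi46) (kgi xgi1 ygi1 zgi18) (kgi xgi2 ygi29 zgi53) (kgi xgi1 ygi0 zgi61) (kgi xgi2 ygi7 zgi36) (kgi xgi4 ygi20 zgi37) (kgi xgi4 ygi20 zgi42) (kgi xgi2 ygi7 zgi33)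 (kgi xgi2 ygi38 zgi48) (kgi xgi1 ygi1 zgi2) (kgi xgi2 ygi7 zgi61) (kgi xgi4 ygi14 zgi33) (kgi xgi2 ygi7 zgi59) (kgi xgi2 ygi37 zgi54) (kgi xgi1 ygi24 zgi59) (kgi xgi1 ygi16 zgi16) (kgi xgi1 ygi1 zgi6) (kgi xgi4 ygi4 zgi33) (kgi xgi2 ygi7 zgi52)) (@D3.rec (fun _ => Pt) (kgi xgi4 ygi10 zgi9) (kgi xgi1 ygi11 zgi56) (kgi xgi4 ygi9 zgi29) (kgi xgi2 ygi5 zgi28) (kgi xgi1 ygi11 zgi14) (kgi xgi4 ygi8 zgi57) (kgi xgi4 ygi21 zgi8) (kgi xgi1 ygi1 zgi12) (kgi xgi2 ygi23 zgi56) (kgi xgi4 ygi8 zgi17) (kgi xgi2 ygi38 zgi17) (kgi xgi1 ygi58 zgi30) (kgi xgi3 ygi56 zgi55) (kgi xgi2 ygi23 zgi41) (kgi xgi3 ygi56 zgi52) (kgi xgi1 ygi1 zgi20) (kgi xgi4 ygi21 zgi31) (kgi xgi4 ygi21 zgi36) (kgi xgi3 ygi56 zgi61) (kgi xgi1 ygi13 zgi34) (kgi xgi4 ygi21 zgi38)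 (kgi xgi2 ygi58 zgi30) (kgi xgi2 ygi45 zgi39) (kgi xgi4 ygi21 zgi45) (kgi xgi1 ygi56 zgi56) (kgi xgi4 ygi21 zgi51) (kgi xgi4 ygi16 zgi41) (kgi xgi2 ygi24 zgi25) (kgi xgi4 ygi21 zgi60) (kgi xgi1 ygi1 zgi24) (kgi xgi3 ygi57 zgi9) (kgi xgi4 ygi22 zgi7) (kgi xgi4 ygi22 zgi12) (kgi xgi3 ygi57 zgi5) (kgi xgi4 ygi22 zgi16) (kgi xgi4 ygi22 zgi17) (kgi xgi4 ygi22 zgi20) (kgi xgi4 ygi21 zgi29) (kgi xgi4 ygi12 zgi50) (kgi xgi1 ygi25 zgi36) (kgi xgi1 ygi56 zgi58) (kgi xgi1 ygi1 zgi37) (kgi xgi4 ygi22 zgi30) (kgi xgi1 ygi56 zgi47) (kgi xgi4 ygi22 zgi36) (kgi xgi2 ygi4 zgi4) (kgi xgi4 ygi12 zgi18) (kgi xgi4 ygi5 zgi8) (kgi xgi4 ygi19 zgi18) (kgi xgi4 ygi22 zgi44) (kgi xgi4 ygi22 zgi47) (kgi xgi4 ygi0 zgi32) (kgi xgi4 ygi22 zgi52) (kgi xgi4 ygi22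 zgi57) (kgi xgi1 ygi56 zgi46) (kgi xgi1 ygi1 zgi39) (kgi xgi3 ygi4 zgi40) (kgi xgi1 ygi19 zgi37) (kgi xgi4 ygi23 zgi3) (kgi xgi4 ygi22 zgi56) (kgi xgi4 ygi20 zgi9) (kgi xgi1 ygi1 zgi41)) (@D3.rec (fun _ => Pt) (kgi xgi1 ygi31 zgi14) (kgi xgi2 ygi44 zgi29) (kgi xgi4 ygi23 zgi1) (kgi xgi4 ygi23 zgi13) (kgi xgi4 ygi23 zgi8) (kgi xgi3 ygi10 zgi28) (kgi xgi1 ygi1 zgi44) (kgi xgi4 ygi23 zgi16) (kgi xgi4 ygi23 zgi22) (kgi xgi4 ygi23 zgi29) (kgi xgi4 ygi23 zgi17) (kgi xgi1 ygi1 zgi45) (kgi xgi3 ygi57 zgi36) (kgi xgi4 ygi22 zgi11) (kgi xgi4 ygi23 zgi41) (kgi xgi3 ygi57 zgi32) (kgi xgi3 ygi3 zgi18) (kgi xgi4 ygi23 zgi46) (kgi xgi1 ygi10 zgi42) (kgi xgi3 ygi4 zgi41) (kgi xgi1 ygi1 zgi57) (kgi xgi1 ygi55 zgi38) (kgi xgi1 ygi1 zgi50) (kgi xgi1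 ygi31 zgi6) (kgi xgi1 ygi31 zgi4) (kgi xgi4 ygi23 zgi60) (kgi xgi4 ygi24 zgi2) (kgi xgi4 ygi24 zgi5) (kgi xgi1 ygi1 zgi52) (kgi xgi3 ygi5 zgi36) (kgi xgi3 ygi35 zgi41) (kgi xgi1 ygi28 zgi16) (kgi xgi1 ygi59 zgi30) (kgi xgi2 ygi10 zgi42) (kgi xgi1 ygi1 zgi55) (kgi xgi3 ygi36 zgi7) (kgi xgi3 ygi57 zgi37) (kgi xgi4 ygi24 zgi20) (kgi xgi4 ygi23 zgi54) (kgi xgi4 ygi24 zgi25) (kgi xgi1 ygi31 zgi12) (kgi xgi4 ygi24 zgi29) (kgi xgi1 ygi31 zgi10) (kgi xgi1 ygi57 zgi3) (kgi xgi1 ygi1 zgi60) (kgi xgi1 ygi23 zgi7) (kgi xgi1 ygi23 zgi10) (kgi xgi3 ygi9 zgi55) (kgi xgi4 ygi24 zgi39) (kgi xgi1 ygi2 zgi0) (kgi xgi3 ygi57 zgi43) (kgi xgi3 ygi57 zgi41) (kgi xgi4 ygi24 zgi47) (kgi xgi4 ygi24 zgi51) (kgi xgi4 ygi24 zgi55) (kgi xgi1 ygi2 zgi2) (kgi xgi2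 ygi26 zgi55) (kgi xgi4 ygi25 zgi0) (kgi xgi2 ygi26 zgi52) (kgi xgi1 ygi2 zgi10) (kgi xgi3 ygi0 zgi61) (kgi xgi4 ygi25 zgi8)) (@D3.rec (fun _ => Pt) (kgi xgi2 ygi33 zgi22) (kgi xgi1 ygi12 zgi19) (kgi xgi1 ygi2 zgi8) (kgi xgi2 ygi53 zgi16) (kgi xgi3 ygi57 zgi46) (kgi xgi4 ygi25 zgi23) (kgi xgi4 ygi25 zgi27) (kgi xgi4 ygi25 zgi31) (kgi xgi4 ygi25 zgi35) (kgi xgi2 ygi26 zgi56) (kgi xgi1 ygi2 zgi11) (kgi xgi1 ygi2 zgi13) (kgi xgi4 ygi25 zgi43) (kgi xgi1 ygi21 zgi56) (kgi xgi2 ygi48 zgi58) (kgi xgi2 ygi33 zgi43) (kgi xgi1 ygi2 zgi15) (kgi xgi1 ygi23 zgi4) (kgi xgi4 ygi25 zgi46) (kgi xgi4 ygi25 zgi51) (kgi xgi4 ygi26 zgi3) (kgi xgi4 ygi26 zgi7) (kgi xgi1 ygi2 zgi14) (kgi xgi4 ygi25 zgi38) (kgi xgi4 ygi26 zgi17) (kgi xgi4 ygi26 zgi23) (kgi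 xgi4 ygi26 zgi6) (kgi xgi4 ygi25 zgi60) (kgi xgi4 ygi25 zgi18) (kgi xgi4 ygi26 zgi32) (kgi xgi4 ygi26 zgi36) (kgi xgi4 ygi26 zgi40) (kgi xgi1 ygi2 zgi18) (kgi xgi3 ygi58 zgi2) (kgi xgi3 ygi58 zgi0) (kgi xgi4 ygi26 zgi53) (kgi xgi1 ygi2 zgi20) (kgi xgi3 ygi3 zgi21) (kgi xgi4 ygi26 zgi60) (kgi xgi1 ygi27 zgi48) (kgi xgi2 ygi9 zgi33) (kgi xgi4 ygi0 zgi33) (kgi xgi4 ygi27 zgi2) (kgi xgi2 ygi17 zgi56) (kgi xgi1 ygi2 zgi23) (kgi xgi1 ygi15 zgi40) (kgi xgi4 ygi21 zgi9) (kgi xgi1 ygi15 zgi38) (kgi xgi2 ygi33 zgi24) (kgi xgi2 ygi24 zgi12) (kgi xgi1 ygi2 zgi25) (kgi xgi4 ygi27 zgi17) (kgi xgi1 ygi14 zgi27) (kgi xgi2 ygi29 zgi57) (kgi xgi1 ygi2 zgi35) (kgi xgi2 ygi10 zgi52) (kgi xgi4 ygi27 zgi27) (kgi xgi2 ygi10 zgi50) (kgi xgi1 ygi16 zgi58)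 (kgi xgi1 ygi9 zgi29) (kgi xgi1 ygi2 zgi41) (kgi xgi4 ygi27 zgi37)) (@D3.rec (fun _ => Pt) (kgi xgi1 ygi2 zgi38) (kgi xgi4 ygi3 zgi38) (kgi xgi4 ygi27 zgi44) (kgi xgi1 ygi2 zgi34) (kgi xgi1 ygi2 zgi36) (kgi xgi4 ygi27 zgi51) (kgi xgi4 ygi27 zgi56) (kgi xgi4 ygi3 zgi23) (kgi xgi1 ygi15 zgi49) (kgi xgi1 ygi13 zgi40) (kgi xgi4 ygi27 zgi50) (kgi xgi4 ygi28 zgi2) (kgi xgi2 ygi24 zgi13) (kgi xgi2 ygi37 zgi13) (kgi xgi4 ygi28 zgi7) (kgi xgi4 ygi28 zgi12) (kgi xgi4 ygi28 zgi6) (kgi xgi4 ygi28 zgi19) (kgi xgi1 ygi2 zgi40) (kgi xgi4 ygi27 zgi40) (kgi xgi4 ygi28 zgi31) (kgi xgi4 ygi28 zgi36) (kgi xgi4 ygi27 zgi36) (kgi xgi4 ygi28 zgi42) (kgi xgi1 ygi2 zgi42) (kgi xgi1 ygi17 zgi12) (kgi xgi4 ygi28 zgi48) (kgi xgi4 ygi28 zgi53) (kgi xgi1 ygi2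 zgi43) (kgi xgi4 ygi2 zgi47) (kgi xgi1 ygi14 zgi52) (kgi xgi1 ygi3 zgi23) (kgi xgi2 ygi59 zgi6) (kgi xgi4 ygi28 zgi58) (kgi xgi1 ygi56 zgi7) (kgi xgi1 ygi2 zgi46) (kgi xgi1 ygi17 zgi8) (kgi xgi1 ygi17 zgi6) (kgi xgi2 ygi4 zgi21) (kgi xgi1 ygi17 zgi33) (kgi xgi1 ygi2 zgi50) (kgi xgi4 ygi29 zgi8) (kgi xgi4 ygi29 zgi13) (kgi xgi4 ygi29 zgi16) (kgi xgi1 ygi56 zgi19) (kgi xgi2 ygi45 zgi50) (kgi xgi1 ygi2 zgi53) (kgi xgi1 ygi17 zgi28) (kgi xgi4 ygi29 zgi25) (kgi xgi4 ygi29 zgi30) (kgi xgi4 ygi29 zgi34) (kgi xgi2 ygi40 zgi42) (kgi xgi4 ygi29 zgi40) (kgi xgi1 ygi2 zgi56) (kgi xgi1 ygi17 zgi44) (kgi xgi2 ygi30 zgi29) (kgi xgi1 ygi17 zgi41) (kgi xgi1 ygi16 zgi48) (kgi xgi4 ygi14 zgi17) (kgi xgi4 ygi29 zgi54) (kgi xgi4 ygi29 zgi57) (kgi xgi2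 ygi40 zgi45)) (@D3.rec (fun _ => Pt) (kgi xgi4 ygi29 zgi61) (kgi xgi1 ygi2 zgi59) (kgi xgi1 ygi17 zgi53) (kgi xgi1 ygi17 zgi51) (kgi xgi4 ygi30 zgi5) (kgi xgi2 ygi40 zgi33) (kgi xgi4 ygi29 zgi45) (kgi xgi4 ygi30 zgi13) (kgi xgi2 ygi40 zgi39) (kgi xgi4 ygi30 zgi3) (kgi xgi1 ygi3 zgi0) (kgi xgi4 ygi30 zgi19) (kgi xgi4 ygi30 zgi25) (kgi xgi4 ygi30 zgi32) (kgi xgi4 ygi30 zgi20) (kgi xgi1 ygi3 zgi1) (kgi xgi1 ygi3 zgi52) (kgi xgi4 ygi30 zgi40) (kgi xgi4 ygi30 zgi43) (kgi xgi1 ygi3 zgi3) (kgi xgi1 ygi16 zgi46) (kgi xgi1 ygi9 zgi59) (kgi xgi2 ygi59 zgi51) (kgi xgi4 ygi30 zgi56) (kgi xgi1 ygi23 zgi26) (kgi xgi1 ygi3 zgi10) (kgi xgi1 ygi18 zgi33) (kgi xgi1 ygi18 zgi30) (kgi xgi4 ygi31 zgi0) (kgi xgi3 ygi0 zgi55) (kgi xgi4 ygi31 zgi4) (kgi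 xgi4 ygi31 zgi7) (kgi xgi4 ygi31 zgi11) (kgi xgi1 ygi18 zgi54) (kgi xgi1 ygi22 zgi28) (kgi xgi1 ygi56 zgi10) (kgi xgi2 ygi0 zgi12) (kgi xgi2 ygi4 zgi40) (kgi xgi1 ygi3 zgi21) (kgi xgi1 ygi18 zgi12) (kgi xgi4 ygi31 zgi24) (kgi xgi4 ygi31 zgi29) (kgi xgi1 ygi3 zgi22) (kgi xgi4 ygi4 zgi38) (kgi xgi4 ygi31 zgi32) (kgi xgi4 ygi11 zgi23) (kgi xgi1 ygi3 zgi24) (kgi xgi1 ygi19 zgi18) (kgi xgi1 ygi19 zgi15) (kgi xgi1 ygi3 zgi25) (kgi xgi1 ygi18 zgi47) (kgi xgi1 ygi18 zgi45) (kgi xgi4 ygi31 zgi45) (kgi xgi4 ygi31 zgi46) (kgi xgi1 ygi3 zgi29) (kgi xgi1 ygi19 zgi35) (kgi xgi2 ygi45 zgi57) (kgi xgi4 ygi31 zgi52) (kgi xgi1 ygi3 zgi41) (kgi xgi1 ygi19 zgi58) (kgi xgi1 ygi3 zgi34) (kgi xgi1 ygi19 zgi27)) (@D3.rec (fun _ => Pt) (kgi xgi1 ygi19 zgi25)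 (kgi xgi2 ygi44 zgi57) (kgi xgi4 ygi32 zgi1) (kgi xgi4 ygi32 zgi4) (kgi xgi1 ygi28 zgi52) (kgi xgi1 ygi19 zgi44) (kgi xgi1 ygi3 zgi44) (kgi xgi1 ygi3 zgi39) (kgi xgi1 ygi19 zgi61) (kgi xgi1 ygi19 zgi59) (kgi xgi4 ygi32 zgi13) (kgi xgi1 ygi3 zgi47) (kgi xgi4 ygi32 zgi18) (kgi xgi2 ygi49 zgi16) (kgi xgi1 ygi19 zgi38) (kgi xgi1 ygi3 zgi42) (kgi xgi1 ygi19 zgi50) (kgi xgi1 ygi19 zgi48) (kgi xgi4 ygi32 zgi32) (kgi xgi4 ygi32 zgi36) (kgi xgi4 ygi32 zgi40) (kgi xgi4 ygi32 zgi44) (kgi xgi2 ygi14 zgi1) (kgi xgi1 ygi19 zgi47) (kgi xgi1 ygi3 zgi45) (kgi xgi4 ygi32 zgi49) (kgi xgi4 ygi32 zgi54) (kgi xgi2 ygi44 zgi33) (kgi xgi1 ygi3 zgi49) (kgi xgi4 ygi32 zgi53) (kgi xgi3 ygi10 zgi19) (kgi xgi4 ygi33 zgi4) (kgi xgi4 ygi33 zgi7) (kgi xgi1 ygi3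 zgi48) (kgi xgi4 ygi32 zgi48) (kgi xgi4 ygi33 zgi16) (kgi xgi4 ygi33 zgi22) (kgi xgi4 ygi33 zgi6) (kgi xgi1 ygi23 zgi20) (kgi xgi4 ygi32 zgi11) (kgi xgi4 ygi33 zgi30) (kgi xgi4 ygi32 zgi26) (kgi xgi4 ygi33 zgi35) (kgi xgi4 ygi33 zgi37) (kgi xgi4 ygi33 zgi41) (kgi xgi1 ygi3 zgi53) (kgi xgi1 ygi20 zgi31) (kgi xgi1 ygi20 zgi29) (kgi xgi4 ygi33 zgi54) (kgi xgi1 ygi24 zgi40) (kgi xgi1 ygi22 zgi8) (kgi xgi1 ygi21 zgi42) (kgi xgi1 ygi3 zgi60) (kgi xgi1 ygi4 zgi12) (kgi xgi4 ygi33 zgi61) (kgi xgi4 ygi34 zgi2) (kgi xgi1 ygi21 zgi23) (kgi xgi2 ygi42 zgi32) (kgi xgi1 ygi21 zgi14) (kgi xgi1 ygi4 zgi1) (kgi xgi1 ygi21 zgi26) (kgi xgi4 ygi34 zgi12)) (@D3.rec (fun _ => Pt) (kgi xgi3 ygi0 zgi30) (kgi xgi2 ygi47 zgi34) (kgi xgi1 ygi4 zgi56) (kgi xgi1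 ygi5 zgi50) (kgi xgi2 ygi13 zgi22) (kgi xgi3 ygi0 zgi54) (kgi xgi2 ygi0 zgi56) (kgi xgi4 ygi34 zgi19) (kgi xgi1 ygi26 zgi5) (kgi xgi1 ygi18 zgi59) (kgi xgi2 ygi58 zgi15) (kgi xgi1 ygi21 zgi8) (kgi xgi1 ygi4 zgi10) (kgi xgi1 ygi21 zgi6) (kgi xgi3 ygi25 zgi42) (kgi xgi4 ygi34 zgi34) (kgi xgi4 ygi34 zgi37) (kgi xgi1 ygi21 zgi46) (kgi xgi2 ygi46 zgi3) (kgi xgi4 ygi7 zgi5) (kgi xgi1 ygi26 zgi2) (kgi xgi2 ygi15 zgi54) (kgi xgi4 ygi25 zgi47) (kgi xgi1 ygi10 zgi54) (kgi xgi1 ygi22 zgi16) (kgi xgi4 ygi34 zgi45) (kgi xgi1 ygi22 zgi5) (kgi xgi3 ygi59 zgi27) (kgi xgi1 ygi10 zgi48) (kgi xgi1 ygi4 zgi24) (kgi xgi1 ygi21 zgi59) (kgi xgi4 ygi31 zgi58) (kgi xgi3 ygi50 zgi30) (kgi xgi4 ygi34 zgi55) (kgi xgi1 ygi24 zgi43) (kgi xgi4 ygi34 zgi61) (kgi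 xgi1 ygi21 zgi55) (kgi xgi2 ygi39 zgi26) (kgi xgi1 ygi22 zgi21) (kgi xgi1 ygi10 zgi56) (kgi xgi1 ygi18 zgi53) (kgi xgi3 ygi59 zgi38) (kgi xgi2 ygi59 zgi56) (kgi xgi1 ygi4 zgi28) (kgi xgi1 ygi22 zgi29) (kgi xgi1 ygi4 zgi59) (kgi xgi2 ygi26 zgi12) (kgi xgi1 ygi23 zgi58) (kgi xgi3 ygi0 zgi4) (kgi xgi4 ygi25 zgi40) (kgi xgi1 ygi5 zgi4) (kgi xgi3 ygi59 zgi28) (kgi xgi1 ygi24 zgi22) (kgi xgi1 ygi23 zgi14) (kgi xgi2 ygi33 zgi48) (kgi xgi3 ygi16 zgi44) (kgi xgi4 ygi35 zgi30) (kgi xgi1 ygi4 zgi36) (kgi xgi4 ygi35 zgi25) (kgi xgi4 ygi35 zgi38) (kgi xgi4 ygi35 zgi23) (kgi xgi1 ygi4 zgi37)) (@D3.rec (fun _ => Pt) (kgi xgi1 ygi6 zgi60) (kgi xgi4 ygi35 zgi44) (kgi xgi1 ygi22 zgi58) (kgi xgi2 ygi28 zgi52) (kgi xgi1 ygi12 zgi10) (kgi xgi4 ygi0 zgi44)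 (kgi xgi1 ygi5 zgi6) (kgi xgi1 ygi4 zgi51) (kgi xgi3 ygi59 zgi21) (kgi xgi1 ygi24 zgi15) (kgi xgi4 ygi35 zgi58) (kgi xgi1 ygi22 zgi47) (kgi xgi1 ygi22 zgi51) (kgi xgi4 ygi36 zgi2) (kgi xgi1 ygi4 zgi43) (kgi xgi1 ygi22 zgi44) (kgi xgi3 ygi4 zgi10) (kgi xgi4 ygi36 zgi11) (kgi xgi4 ygi36 zgi15) (kgi xgi4 ygi36 zgi19) (kgi xgi1 ygi4 zgi45) (kgi xgi4 ygi36 zgi4) (kgi xgi4 ygi36 zgi26) (kgi xgi4 ygi35 zgi53) (kgi xgi1 ygi4 zgi46) (kgi xgi1 ygi23 zgi24) (kgi xgi2 ygi59 zgi39) (kgi xgi1 ygi23 zgi21) (kgi xgi1 ygi4 zgi47) (kgi xgi1 ygi23 zgi25) (kgi xgi1 ygi23 zgi9) (kgi xgi2 ygi51 zgi46) (kgi xgi1 ygi27 zgi13) (kgi xgi4 ygi35 zgi51) (kgi xgi1 ygi22 zgi41) (kgi xgi1 ygi55 zgi44) (kgi xgi4 ygi36 zgi46) (kgi xgi4 ygi5 zgi38) (kgi xgi2 ygi51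 zgi42) (kgi xgi1 ygi4 zgi52) (kgi xgi1 ygi4 zgi57) (kgi xgi4 ygi24 zgi41) (kgi xgi4 ygi36 zgi59) (kgi xgi4 ygi37 zgi2) (kgi xgi4 ygi24 zgi42) (kgi xgi1 ygi4 zgi53) (kgi xgi4 ygi37 zgi9) (kgi xgi4 ygi35 zgi42) (kgi xgi1 ygi5 zgi28) (kgi xgi1 ygi4 zgi54) (kgi xgi2 ygi33 zgi36) (kgi xgi1 ygi12 zgi21) (kgi xgi1 ygi22 zgi35) (kgi xgi1 ygi21 zgi35) (kgi xgi2 ygi14 zgi19) (kgi xgi1 ygi27 zgi46) (kgi xgi4 ygi36 zgi58) (kgi xgi4 ygi37 zgi28) (kgi xgi4 ygi37 zgi8) (kgi xgi4 ygi37 zgi33) (kgi xgi4 ygi35 zgi11) (kgi xgi4 ygi37 zgi37)) (@D3.rec (fun _ => Pt) (kgi xgi1 ygi23 zgi6) (kgi xgi1 ygi35 zgi24) (kgi xgi4 ygi37 zgi44) (kgi xgi4 ygi36 zgi41) (kgi xgi4 ygi37 zgi49) (kgi xgi4 ygi37 zgi52) (kgi xgi4 ygi37 zgi48) (kgi xgi4 ygi37 zgi59) (kgi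 xgi1 ygi5 zgi1) (kgi xgi1 ygi35 zgi26) (kgi xgi4 ygi38 zgi8) (kgi xgi4 ygi38 zgi12) (kgi xgi1 ygi5 zgi2) (kgi xgi4 ygi37 zgi45) (kgi xgi4 ygi37 zgi43) (kgi xgi1 ygi5 zgi3) (kgi xgi4 ygi38 zgi26) (kgi xgi1 ygi23 zgi2) (kgi xgi4 ygi38 zgi31) (kgi xgi4 ygi38 zgi35) (kgi xgi1 ygi5 zgi5) (kgi xgi1 ygi24 zgi21) (kgi xgi4 ygi30 zgi18) (kgi xgi1 ygi24 zgi18) (kgi xgi1 ygi22 zgi39) (kgi xgi4 ygi38 zgi46) (kgi xgi4 ygi38 zgi50) (kgi xgi1 ygi5 zgi7) (kgi xgi1 ygi24 zgi28) (kgi xgi4 ygi38 zgi58) (kgi xgi1 ygi24 zgi25) (kgi xgi4 ygi35 zgi20) (kgi xgi4 ygi39 zgi5) (kgi xgi4 ygi39 zgi6) (kgi xgi4 ygi39 zgi8) (kgi xgi4 ygi39 zgi4) (kgi xgi4 ygi39 zgi13) (kgi xgi4 ygi32 zgi27) (kgi xgi2 ygi51 zgi5) (kgi xgi1 ygi5 zgi13) (kgi xgi1 ygi20 zgi33) (kgi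 xgi4 ygi39 zgi27) (kgi xgi2 ygi13 zgi50) (kgi xgi4 ygi39 zgi29) (kgi xgi1 ygi28 zgi57) (kgi xgi2 ygi50 zgi45) (kgi xgi2 ygi45 zgi11) (kgi xgi1 ygi5 zgi20) (kgi xgi2 ygi48 zgi57) (kgi xgi2 ygi48 zgi55) (kgi xgi4 ygi25 zgi41) (kgi xgi4 ygi39 zgi39) (kgi xgi1 ygi12 zgi33) (kgi xgi1 ygi5 zgi23) (kgi xgi4 ygi39 zgi41) (kgi xgi4 ygi39 zgi45) (kgi xgi4 ygi35 zgi40) (kgi xgi2 ygi33 zgi3) (kgi xgi2 ygi40 zgi1) (kgi xgi2 ygi57 zgi40) (kgi xgi1 ygi25 zgi55) (kgi xgi2 ygi18 zgi59)) (@D3.rec (fun _ => Pt) (kgi xgi3 ygi9 zgi60) (kgi xgi2 ygi14 zgi3) (kgi xgi4 ygi39 zgi59) (kgi xgi4 ygi40 zgi1) (kgi xgi1 ygi5 zgi29) (kgi xgi1 ygi26 zgi13) (kgi xgi1 ygi26 zgi11) (kgi xgi1 ygi5 zgi30) (kgi xgi1 ygi30 zgi0) (kgi xgi1 ygi30 zgi14) (kgi xgi1 ygi8 zgi2)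 (kgi xgi2 ygi19 zgi24) (kgi xgi2 ygi20 zgi23) (kgi xgi2 ygi20 zgi24) (kgi xgi3 ygi9 zgi33) (kgi xgi2 ygi20 zgi26) (kgi xgi4 ygi40 zgi21) (kgi xgi4 ygi40 zgi23) (kgi xgi3 ygi12 zgi15) (kgi xgi4 ygi40 zgi29) (kgi xgi1 ygi5 zgi38) (kgi xgi3 ygi5 zgi53) (kgi xgi4 ygi40 zgi35) (kgi xgi2 ygi21 zgi12) (kgi xgi4 ygi40 zgi42) (kgi xgi1 ygi5 zgi39) (kgi xgi4 ygi40 zgi22) (kgi xgi4 ygi40 zgi20) (kgi xgi1 ygi23 zgi43) (kgi xgi4 ygi40 zgi52) (kgi xgi1 ygi5 zgi41) (kgi xgi1 ygi27 zgi18) (kgi xgi3 ygi20 zgi51) (kgi xgi1 ygi27 zgi15) (kgi xgi1 ygi34 zgi1) (kgi xgi1 ygi22 zgi4) (kgi xgi1 ygi34 zgi12) (kgi xgi4 ygi41 zgi9) (kgi xgi3 ygi43 zgi20) (kgi xgi2 ygi49 zgi30) (kgi xgi3 ygi21 zgi35) (kgi xgi1 ygi34 zgi11) (kgi xgi1 ygi6 zgi22) (kgi xgi4 ygi41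 zgi19) (kgi xgi1 ygi26 zgi6) (kgi xgi4 ygi41 zgi18) (kgi xgi2 ygi30 zgi16) (kgi xgi1 ygi21 zgi29) (kgi xgi2 ygi17 zgi1) (kgi xgi4 ygi41 zgi29) (kgi xgi4 ygi34 zgi15) (kgi xgi1 ygi5 zgi51) (kgi xgi1 ygi28 zgi47) (kgi xgi2 ygi50 zgi50) (kgi xgi1 ygi28 zgi44) (kgi xgi1 ygi28 zgi15) (kgi xgi2 ygi0 zgi2) (kgi xgi2 ygi28 zgi0) (kgi xgi1 ygi11 zgi8) (kgi xgi1 ygi6 zgi16) (kgi xgi1 ygi31 zgi48) (kgi xgi1 ygi30 zgi32)) (@D3.rec (fun _ => Pt) (kgi xgi1 ygi6 zgi10) (kgi xgi2 ygi19 zgi39) (kgi xgi1 ygi6 zgi7) (kgi xgi4 ygi41 zgi44) (kgi xgi2 ygi21 zgi1) (kgi xgi1 ygi38 zgi23) (kgi xgi1 ygi6 zgi5) (kgi xgi1 ygi24 zgi36) (kgi xgi2 ygi53 zgi60) (kgi xgi4 ygi38 zgi56) (kgi xgi1 ygi6 zgi6) (kgi xgi3 ygi24 zgi16) (kgi xgi1 ygi29 zgi28) (kgi xgi3 ygi13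 zgi4) (kgi xgi3 ygi1 zgi25) (kgi xgi1 ygi31 zgi60) (kgi xgi4 ygi11 zgi38) (kgi xgi1 ygi31 zgi42) (kgi xgi4 ygi41 zgi59) (kgi xgi1 ygi31 zgi41) (kgi xgi3 ygi23 zgi2) (kgi xgi4 ygi42 zgi3) (kgi xgi4 ygi42 zgi5) (kgi xgi4 ygi42 zgi2) (kgi xgi1 ygi6 zgi13) (kgi xgi1 ygi30 zgi36) (kgi xgi4 ygi42 zgi12) (kgi xgi1 ygi30 zgi33) (kgi xgi2 ygi22 zgi57) (kgi xgi1 ygi30 zgi38) (kgi xgi1 ygi30 zgi37) (kgi xgi3 ygi6 zgi36) (kgi xgi1 ygi26 zgi38) (kgi xgi4 ygi42 zgi23) (kgi xgi4 ygi42 zgi25) (kgi xgi1 ygi31 zgi1) (kgi xgi4 ygi18 zgi15) (kgi xgi1 ygi30 zgi56) (kgi xgi1 ygi30 zgi55) (kgi xgi2 ygi17 zgi14) (kgi xgi1 ygi6 zgi55) (kgi xgi4 ygi42 zgi33) (kgi xgi1 ygi28 zgi0) (kgi xgi1 ygi6 zgi23) (kgi xgi1 ygi28 zgi8) (kgi xgi1 ygi28 zgi6) (kgi xgi4 ygi36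 zgi7) (kgi xgi1 ygi28 zgi3) (kgi xgi4 ygi42 zgi40) (kgi xgi4 ygi42 zgi44) (kgi xgi2 ygi9 zgi43) (kgi xgi1 ygi56 zgi13) (kgi xgi4 ygi0 zgi24) (kgi xgi4 ygi42 zgi47) (kgi xgi2 ygi0 zgi10) (kgi xgi2 ygi16 zgi61) (kgi xgi4 ygi42 zgi46) (kgi xgi4 ygi42 zgi54) (kgi xgi2 ygi49 zgi54) (kgi xgi1 ygi6 zgi32) (kgi xgi4 ygi35 zgi52) (kgi xgi1 ygi28 zgi35)) (@D3.rec (fun _ => Pt) (kgi xgi1 ygi6 zgi33) (kgi xgi1 ygi31 zgi24) (kgi xgi2 ygi48 zgi32) (kgi xgi1 ygi31 zgi21) (kgi xgi2 ygi17 zgi13) (kgi xgi3 ygi1 zgi39) (kgi xgi1 ygi29 zgi57) (kgi xgi1 ygi30 zgi3) (kgi xgi4 ygi43 zgi4) (kgi xgi1 ygi30 zgi13) (kgi xgi3 ygi23 zgi19) (kgi xgi3 ygi17 zgi0) (kgi xgi3 ygi22 zgi45) (kgi xgi3 ygi5 zgi50) (kgi xgi3 ygi15 zgi57) (kgi xgi1 ygi6 zgi47) (kgi xgi1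 ygi6 zgi46) (kgi xgi1 ygi29 zgi53) (kgi xgi3 ygi12 zgi28) (kgi xgi4 ygi43 zgi15) (kgi xgi3 ygi24 zgi14) (kgi xgi4 ygi10 zgi57) (kgi xgi1 ygi29 zgi61) (kgi xgi2 ygi21 zgi40) (kgi xgi3 ygi7 zgi4) (kgi xgi1 ygi6 zgi49) (kgi xgi2 ygi6 zgi49) (kgi xgi3 ygi22 zgi39) (kgi xgi4 ygi43 zgi28) (kgi xgi3 ygi23 zgi27) (kgi xgi4 ygi43 zgi27) (kgi xgi1 ygi38 zgi26) (kgi xgi1 ygi6 zgi53) (kgi xgi1 ygi32 zgi9) (kgi xgi4 ygi43 zgi36) (kgi xgi1 ygi32 zgi6) (kgi xgi4 ygi43 zgi41) (kgi xgi1 ygi34 zgi44) (kgi xgi1 ygi35 zgi53) (kgi xgi2 ygi18 zgi19) (kgi xgi3 ygi46 zgi28) (kgi xgi1 ygi49 zgi31) (kgi xgi1 ygi38 zgi27) (kgi xgi4 ygi43 zgi50) (kgi xgi1 ygi49 zgi26) (kgi xgi3 ygi6 zgi61) (kgi xgi1 ygi7 zgi49) (kgi xgi3 ygi24 zgi18) (kgi xgi1 ygi32 zgi40) (kgi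 xgi1 ygi7 zgi8) (kgi xgi1 ygi32 zgi32) (kgi xgi4 ygi37 zgi10) (kgi xgi1 ygi7 zgi39) (kgi xgi3 ygi23 zgi0) (kgi xgi3 ygi7 zgi1) (kgi xgi3 ygi28 zgi34) (kgi xgi1 ygi7 zgi51) (kgi xgi1 ygi37 zgi28) (kgi xgi1 ygi34 zgi47) (kgi xgi3 ygi23 zgi20) (kgi xgi1 ygi37 zgi5) (kgi xgi1 ygi34 zgi2)) (@D3.rec (fun _ => Pt) (kgi xgi1 ygi33 zgi43) (kgi xgi1 ygi49 zgi45) (kgi xgi1 ygi27 zgi23) (kgi xgi1 ygi26 zgi58) (kgi xgi3 ygi22 zgi58) (kgi xgi4 ygi44 zgi12) (kgi xgi1 ygi7 zgi19) (kgi xgi1 ygi41 zgi26) (kgi xgi4 ygi44 zgi18) (kgi xgi1 ygi7 zgi20) (kgi xgi1 ygi7 zgi36) (kgi xgi1 ygi27 zgi0) (kgi xgi4 ygi41 zgi8) (kgi xgi1 ygi27 zgi22) (kgi xgi4 ygi41 zgi17) (kgi xgi1 ygi34 zgi17) (kgi xgi1 ygi27 zgi25) (kgi xgi1 ygi7 zgi52) (kgi xgi1 ygi36 zgi16)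 (kgi xgi3 ygi6 zgi2) (kgi xgi3 ygi12 zgi14) (kgi xgi3 ygi12 zgi46) (kgi xgi1 ygi33 zgi40) (kgi xgi2 ygi17 zgi8) (kgi xgi3 ygi6 zgi0) (kgi xgi1 ygi7 zgi33) (kgi xgi1 ygi29 zgi3) (kgi xgi3 ygi12 zgi31) (kgi xgi1 ygi29 zgi50) (kgi xgi2 ygi19 zgi52) (kgi xgi1 ygi7 zgi35) (kgi xgi1 ygi7 zgi40) (kgi xgi4 ygi44 zgi47) (kgi xgi4 ygi44 zgi52) (kgi xgi4 ygi44 zgi17) (kgi xgi2 ygi17 zgi15) (kgi xgi2 ygi20 zgi29) (kgi xgi4 ygi44 zgi57) (kgi xgi4 ygi44 zgi51) (kgi xgi1 ygi32 zgi31) (kgi xgi3 ygi7 zgi32) (kgi xgi4 ygi45 zgi3) (kgi xgi4 ygi44 zgi34) (kgi xgi1 ygi36 zgi25) (kgi xgi1 ygi7 zgi44) (kgi xgi1 ygi7 zgi57) (kgi xgi4 ygi45 zgi17) (kgi xgi4 ygi40 zgi31) (kgi xgi4 ygi45 zgi23) (kgi xgi1 ygi7 zgi60) (kgi xgi1 ygi7 zgi58) (kgi xgi1 ygi37 zgi59)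 (kgi xgi4 ygi45 zgi31) (kgi xgi1 ygi7 zgi47) (kgi xgi1 ygi7 zgi50) (kgi xgi4 ygi45 zgi39) (kgi xgi4 ygi45 zgi44) (kgi xgi4 ygi45 zgi47) (kgi xgi1 ygi7 zgi48) (kgi xgi4 ygi45 zgi5) (kgi xgi3 ygi14 zgi55) (kgi xgi1 ygi36 zgi6)) (@D3.rec (fun _ => Pt) (kgi xgi1 ygi32 zgi27) (kgi xgi2 ygi18 zgi3) (kgi xgi4 ygi46 zgi0) (kgi xgi4 ygi45 zgi43) (kgi xgi4 ygi46 zgi6) (kgi xgi4 ygi43 zgi61) (kgi xgi4 ygi46 zgi12) (kgi xgi1 ygi33 zgi55) (kgi xgi4 ygi46 zgi16) (kgi xgi2 ygi17 zgi23) (kgi xgi4 ygi45 zgi53) (kgi xgi4 ygi46 zgi25) (kgi xgi4 ygi40 zgi39) (kgi xgi4 ygi46 zgi9) (kgi xgi1 ygi7 zgi54) (kgi xgi1 ygi23 zgi59) (kgi xgi1 ygi24 zgi5) (kgi xgi4 ygi46 zgi43) (kgi xgi4 ygi46 zgi47) (kgi xgi1 ygi7 zgi55) (kgi xgi2 ygi21 zgi21) (kgi xgi2 ygi21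 zgi19) (kgi xgi4 ygi46 zgi57) (kgi xgi4 ygi40 zgi33) (kgi xgi1 ygi7 zgi56) (kgi xgi4 ygi45 zgi25) (kgi xgi4 ygi47 zgi8) (kgi xgi4 ygi45 zgi22) (kgi xgi4 ygi47 zgi13) (kgi xgi3 ygi21 zgi18) (kgi xgi4 ygi45 zgi37) (kgi xgi1 ygi33 zgi51) (kgi xgi4 ygi47 zgi16) (kgi xgi4 ygi45 zgi52) (kgi xgi1 ygi36 zgi23) (kgi xgi1 ygi7 zgi61) (kgi xgi4 ygi47 zgi29) (kgi xgi2 ygi19 zgi23) (kgi xgi1 ygi30 zgi57) (kgi xgi2 ygi19 zgi5) (kgi xgi4 ygi40 zgi9) (kgi xgi4 ygi42 zgi27) (kgi xgi3 ygi5 zgi55) (kgi xgi4 ygi47 zgi40) (kgi xgi1 ygi36 zgi17) (kgi xgi4 ygi45 zgi55) (kgi xgi1 ygi8 zgi4) (kgi xgi1 ygi36 zgi15) (kgi xgi1 ygi50 zgi42) (kgi xgi4 ygi47 zgi51) (kgi xgi1 ygi8 zgi5) (kgi xgi4 ygi47 zgi27) (kgi xgi4 ygi47 zgi60) (kgi xgi4 ygi47 zgi45) (kgi xgi1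 ygi34 zgi46) (kgi xgi4 ygi48 zgi3) (kgi xgi4 ygi41 zgi16) (kgi xgi1 ygi37 zgi18) (kgi xgi1 ygi8 zgi8) (kgi xgi1 ygi36 zgi14) (kgi xgi3 ygi8 zgi52) (kgi xgi1 ygi36 zgi11)) (@D3.rec (fun _ => Pt) (kgi xgi1 ygi35 zgi60) (kgi xgi4 ygi48 zgi14) (kgi xgi3 ygi14 zgi8) (kgi xgi4 ygi48 zgi18) (kgi xgi1 ygi8 zgi12) (kgi xgi4 ygi47 zgi24) (kgi xgi4 ygi48 zgi26) (kgi xgi3 ygi43 zgi1) (kgi xgi4 ygi48 zgi30) (kgi xgi1 ygi35 zgi17) (kgi xgi4 ygi48 zgi29) (kgi xgi1 ygi8 zgi15) (kgi xgi1 ygi36 zgi31) (kgi xgi3 ygi11 zgi30) (kgi xgi1 ygi36 zgi28) (kgi xgi2 ygi55 zgi14) (kgi xgi4 ygi48 zgi44) (kgi xgi4 ygi38 zgi54) (kgi xgi2 ygi51 zgi47) (kgi xgi4 ygi48 zgi43) (kgi xgi4 ygi48 zgi56) (kgi xgi4 ygi48 zgi60) (kgi xgi1 ygi8 zgi20) (kgi xgi4 ygi49 zgi0)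 (kgi xgi4 ygi49 zgi10) (kgi xgi4 ygi48 zgi59) (kgi xgi4 ygi35 zgi57) (kgi xgi4 ygi49 zgi18) (kgi xgi3 ygi21 zgi33) (kgi xgi4 ygi49 zgi21) (kgi xgi4 ygi49 zgi17) (kgi xgi3 ygi14 zgi33) (kgi xgi1 ygi8 zgi23) (kgi xgi1 ygi36 zgi51) (kgi xgi4 ygi49 zgi37) (kgi xgi1 ygi36 zgi48) (kgi xgi1 ygi8 zgi25) (kgi xgi4 ygi47 zgi48) (kgi xgi1 ygi8 zgi26) (kgi xgi4 ygi34 zgi30) (kgi xgi4 ygi49 zgi52) (kgi xgi2 ygi50 zgi31) (kgi xgi1 ygi36 zgi53) (kgi xgi1 ygi36 zgi52) (kgi xgi4 ygi7 zgi13) (kgi xgi3 ygi14 zgi22) (kgi xgi2 ygi59 zgi10) (kgi xgi4 ygi49 zgi51) (kgi xgi3 ygi8 zgi31) (kgi xgi1 ygi37 zgi20) (kgi xgi4 ygi50 zgi4) (kgi xgi3 ygi14 zgi28) (kgi xgi3 ygi43 zgi7) (kgi xgi3 ygi14 zgi34) (kgi xgi1 ygi8 zgi34) (kgi xgi1 ygi37 zgi15) (kgi xgi4 ygi50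 zgi16) (kgi xgi2 ygi18 zgi32) (kgi xgi4 ygi50 zgi21) (kgi xgi3 ygi22 zgi51) (kgi xgi1 ygi29 zgi30) (kgi xgi4 ygi50 zgi26)) (@D3.rec (fun _ => Pt) (kgi xgi4 ygi50 zgi28) (kgi xgi1 ygi8 zgi51) (kgi xgi1 ygi8 zgi39) (kgi xgi2 ygi31 zgi50) (kgi xgi4 ygi50 zgi35) (kgi xgi2 ygi0 zgi29) (kgi xgi2 ygi43 zgi56) (kgi xgi1 ygi8 zgi50) (kgi xgi2 ygi4 zgi35) (kgi xgi4 ygi50 zgi42) (kgi xgi2 ygi4 zgi33) (kgi xgi2 ygi0 zgi21) (kgi xgi4 ygi18 zgi59) (kgi xgi4 ygi19 zgi5) (kgi xgi2 ygi3 zgi30) (kgi xgi1 ygi25 zgi30) (kgi xgi1 ygi8 zgi45) (kgi xgi1 ygi8 zgi58) (kgi xgi4 ygi21 zgi23) (kgi xgi1 ygi8 zgi55) (kgi xgi4 ygi51 zgi0) (kgi xgi2 ygi40 zgi27) (kgi xgi4 ygi16 zgi48) (kgi xgi4 ygi16 zgi59) (kgi xgi1 ygi8 zgi49) (kgi xgi4 ygi51 zgi11) (kgi xgi4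 ygi19 zgi2) (kgi xgi1 ygi11 zgi31) (kgi xgi2 ygi0 zgi46) (kgi xgi2 ygi41 zgi1) (kgi xgi4 ygi18 zgi42) (kgi xgi4 ygi6 zgi18) (kgi xgi4 ygi51 zgi4) (kgi xgi4 ygi1 zgi0) (kgi xgi4 ygi51 zgi10) (kgi xgi4 ygi51 zgi29) (kgi xgi2 ygi46 zgi28) (kgi xgi2 ygi34 zgi19) (kgi xgi2 ygi8 zgi13) (kgi xgi4 ygi51 zgi37) (kgi xgi4 ygi18 zgi35) (kgi xgi4 ygi51 zgi32) (kgi xgi4 ygi51 zgi46) (kgi xgi1 ygi8 zgi57) (kgi xgi4 ygi50 zgi60) (kgi xgi4 ygi51 zgi56) (kgi xgi4 ygi51 zgi61) (kgi xgi4 ygi9 zgi15) (kgi xgi4 ygi52 zgi5) (kgi xgi2 ygi0 zgi23) (kgi xgi4 ygi52 zgi9) (kgi xgi4 ygi52 zgi13) (kgi xgi1 ygi8 zgi60) (kgi xgi2 ygi24 zgi32) (kgi xgi2 ygi24 zgi30) (kgi xgi2 ygi3 zgi20) (kgi xgi4 ygi52 zgi21) (kgi xgi4 ygi52 zgi25) (kgi xgi1 ygi9 zgi0) (kgi xgi1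 ygi30 zgi18) (kgi xgi2 ygi24 zgi36) (kgi xgi1 ygi9 zgi1)) (@D3.rec (fun _ => Pt) (kgi xgi4 ygi52 zgi29) (kgi xgi4 ygi52 zgi35) (kgi xgi4 ygi52 zgi39) (kgi xgi4 ygi52 zgi30) (kgi xgi4 ygi18 zgi32) (kgi xgi4 ygi12 zgi4) (kgi xgi1 ygi9 zgi4) (kgi xgi4 ygi4 zgi23) (kgi xgi4 ygi52 zgi49) (kgi xgi1 ygi58 zgi46) (kgi xgi1 ygi58 zgi0) (kgi xgi2 ygi1 zgi52) (kgi xgi1 ygi9 zgi10) (kgi xgi2 ygi10 zgi59) (kgi xgi2 ygi26 zgi23) (kgi xgi1 ygi28 zgi19) (kgi xgi2 ygi51 zgi6) (kgi xgi2 ygi35 zgi21) (kgi xgi4 ygi52 zgi56) (kgi xgi4 ygi12 zgi10) (kgi xgi4 ygi53 zgi1) (kgi xgi1 ygi9 zgi20) (kgi xgi4 ygi0 zgi20) (kgi xgi4 ygi53 zgi10) (kgi xgi4 ygi53 zgi14) (kgi xgi2 ygi8 zgi24) (kgi xgi4 ygi53 zgi18) (kgi xgi1 ygi59 zgi38) (kgi xgi4 ygi21 zgi2) (kgi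 xgi4 ygi53 zgi23) (kgi xgi1 ygi9 zgi23) (kgi xgi2 ygi23 zgi54) (kgi xgi2 ygi23 zgi52) (kgi xgi2 ygi6 zgi36) (kgi xgi4 ygi53 zgi31) (kgi xgi4 ygi53 zgi34) (kgi xgi1 ygi9 zgi25) (kgi xgi2 ygi23 zgi60) (kgi xgi1 ygi9 zgi26) (kgi xgi4 ygi52 zgi37) (kgi xgi4 ygi52 zgi38) (kgi xgi1 ygi9 zgi27) (kgi xgi1 ygi9 zgi28) (kgi xgi1 ygi15 zgi30) (kgi xgi2 ygi29 zgi52) (kgi xgi2 ygi29 zgi50) (kgi xgi3 ygi10 zgi25) (kgi xgi4 ygi53 zgi48) (kgi xgi4 ygi7 zgi12) (kgi xgi4 ygi5 zgi49) (kgi xgi4 ygi53 zgi54) (kgi xgi1 ygi9 zgi40) (kgi xgi4 ygi13 zgi43) (kgi xgi4 ygi53 zgi59) (kgi xgi1 ygi59 zgi45) (kgi xgi1 ygi9 zgi41) (kgi xgi2 ygi31 zgi41) (kgi xgi1 ygi57 zgi47) (kgi xgi2 ygi32 zgi6) (kgi xgi1 ygi9 zgi43) (kgi xgi4 ygi54 zgi10) (kgi xgi1 ygi11 zgi44))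 (@D3.rec (fun _ => Pt) (kgi xgi2 ygi24 zgi57) (kgi xgi4 ygi54 zgi17) (kgi xgi2 ygi24 zgi55) (kgi xgi2 ygi28 zgi40) (kgi xgi1 ygi9 zgi56) (kgi xgi2 ygi24 zgi61) (kgi xgi4 ygi54 zgi25) (kgi xgi2 ygi24 zgi59) (kgi xgi4 ygi30 zgi52) (kgi xgi4 ygi19 zgi8) (kgi xgi1 ygi18 zgi22) (kgi xgi1 ygi9 zgi51) (kgi xgi1 ygi10 zgi2) (kgi xgi4 ygi54 zgi38) (kgi xgi1 ygi9 zgi61) (kgi xgi4 ygi54 zgi43) (kgi xgi4 ygi54 zgi46) (kgi xgi1 ygi9 zgi54) (kgi xgi4 ygi4 zgi22) (kgi xgi4 ygi4 zgi31) (kgi xgi1 ygi9 zgi55) (kgi xgi4 ygi54 zgi57) (kgi xgi4 ygi30 zgi60) (kgi xgi2 ygi0 zgi40) (kgi xgi1 ygi13 zgi5) (kgi xgi1 ygi16 zgi47) (kgi xgi2 ygi41 zgi9) (kgi xgi2 ygi31 zgi28) (kgi xgi4 ygi54 zgi49) (kgi xgi4 ygi54 zgi1) (kgi xgi4 ygi54 zgi56) (kgi xgi4 ygi55 zgi14)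 (kgi xgi4 ygi4 zgi61) (kgi xgi4 ygi0 zgi60) (kgi xgi4 ygi55 zgi22) (kgi xgi2 ygi4 zgi31) (kgi xgi4 ygi55 zgi17) (kgi xgi4 ygi55 zgi31) (kgi xgi1 ygi10 zgi1) (kgi xgi4 ygi54 zgi41) (kgi xgi4 ygi55 zgi41) (kgi xgi4 ygi55 zgi46) (kgi xgi2 ygi38 zgi33) (kgi xgi4 ygi55 zgi52) (kgi xgi4 ygi55 zgi54) (kgi xgi1 ygi10 zgi4) (kgi xgi3 ygi58 zgi40) (kgi xgi2 ygi29 zgi10) (kgi xgi3 ygi58 zgi38) (kgi xgi1 ygi18 zgi11) (kgi xgi4 ygi56 zgi2) (kgi xgi4 ygi56 zgi6) (kgi xgi1 ygi10 zgi6) (kgi xgi3 ygi58 zgi43) (kgi xgi3 ygi58 zgi41) (kgi xgi1 ygi10 zgi7) (kgi xgi4 ygi56 zgi10) (kgi xgi4 ygi56 zgi16) (kgi xgi2 ygi41 zgi32) (kgi xgi4 ygi56 zgi11) (kgi xgi4 ygi56 zgi25) (kgi xgi2 ygi43 zgi28)) (@D3.rec (fun _ => Pt) (kgi xgi1 ygi10 zgi10) (kgi xgi2 ygi0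 zgi54) (kgi xgi1 ygi55 zgi24) (kgi xgi1 ygi10 zgi24) (kgi xgi3 ygi4 zgi3) (kgi xgi4 ygi22 zgi38) (kgi xgi1 ygi58 zgi5) (kgi xgi2 ygi8 zgi39) (kgi xgi1 ygi10 zgi18) (kgi xgi3 ygi58 zgi55) (kgi xgi3 ygi58 zgi53) (kgi xgi4 ygi56 zgi43) (kgi xgi2 ygi14 zgi48) (kgi xgi1 ygi10 zgi21) (kgi xgi4 ygi3 zgi52) (kgi xgi4 ygi18 zgi61) (kgi xgi1 ygi56 zgi11) (kgi xgi4 ygi56 zgi52) (kgi xgi4 ygi0 zgi5) (kgi xgi2 ygi49 zgi8) (kgi xgi2 ygi49 zgi10) (kgi xgi1 ygi10 zgi26) (kgi xgi3 ygi3 zgi54) (kgi xgi3 ygi1 zgi1) (kgi xgi4 ygi22 zgi28) (kgi xgi4 ygi20 zgi34) (kgi xgi2 ygi8 zgi61) (kgi xgi1 ygi10 zgi33) (kgi xgi1 ygi10 zgi35) (kgi xgi4 ygi57 zgi4) (kgi xgi4 ygi31 zgi48) (kgi xgi2 ygi44 zgi43) (kgi xgi1 ygi10 zgi37) (kgi xgi4 ygi31 zgi47) (kgi xgi4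 ygi57 zgi7) (kgi xgi4 ygi57 zgi10) (kgi xgi4 ygi57 zgi24) (kgi xgi4 ygi57 zgi27) (kgi xgi1 ygi10 zgi36) (kgi xgi4 ygi57 zgi1) (kgi xgi3 ygi41 zgi26) (kgi xgi4 ygi57 zgi40) (kgi xgi4 ygi57 zgi26) (kgi xgi4 ygi57 zgi44) (kgi xgi4 ygi57 zgi47) (kgi xgi2 ygi48 zgi47) (kgi xgi1 ygi10 zgi39) (kgi xgi3 ygi59 zgi15) (kgi xgi3 ygi59 zgi13) (kgi xgi4 ygi57 zgi59) (kgi xgi2 ygi58 zgi13) (kgi xgi4 ygi58 zgi1) (kgi xgi1 ygi10 zgi43) (kgi xgi2 ygi9 zgi58) (kgi xgi4 ygi58 zgi8) (kgi xgi2 ygi9 zgi55) (kgi xgi1 ygi26 zgi19) (kgi xgi1 ygi59 zgi32) (kgi xgi1 ygi10 zgi58) (kgi xgi4 ygi57 zgi43) (kgi xgi1 ygi22 zgi13) (kgi xgi2 ygi49 zgi22)) (@D3.rec (fun _ => Pt) (kgi xgi2 ygi33 zgi59) (kgi xgi4 ygi25 zgi50) (kgi xgi4 ygi58 zgi22) (kgi xgi4 ygi58 zgi25)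 (kgi xgi1 ygi10 zgi49) (kgi xgi2 ygi54 zgi21) (kgi xgi2 ygi51 zgi12) (kgi xgi2 ygi33 zgi61) (kgi xgi1 ygi22 zgi14) (kgi xgi1 ygi10 zgi50) (kgi xgi4 ygi58 zgi38) (kgi xgi3 ygi13 zgi26) (kgi xgi1 ygi22 zgi1) (kgi xgi1 ygi10 zgi51) (kgi xgi2 ygi34 zgi8) (kgi xgi1 ygi12 zgi27) (kgi xgi1 ygi22 zgi27) (kgi xgi1 ygi10 zgi53) (kgi xgi2 ygi53 zgi24) (kgi xgi1 ygi22 zgi38) (kgi xgi2 ygi51 zgi8) (kgi xgi3 ygi3 zgi31) (kgi xgi4 ygi58 zgi31) (kgi xgi4 ygi57 zgi2) (kgi xgi4 ygi58 zgi37) (kgi xgi4 ygi59 zgi3) (kgi xgi4 ygi35 zgi4) (kgi xgi4 ygi59 zgi7) (kgi xgi4 ygi35 zgi5) (kgi xgi1 ygi10 zgi57) (kgi xgi1 ygi11 zgi0) (kgi xgi4 ygi59 zgi15) (kgi xgi4 ygi59 zgi19) (kgi xgi4 ygi58 zgi21) (kgi xgi4 ygi59 zgi23) (kgi xgi3 ygi11 zgi20) (kgi xgi4 ygi33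 zgi58) (kgi xgi4 ygi59 zgi22) (kgi xgi4 ygi59 zgi36) (kgi xgi1 ygi10 zgi60) (kgi xgi4 ygi58 zgi13) (kgi xgi4 ygi59 zgi46) (kgi xgi4 ygi59 zgi50) (kgi xgi2 ygi56 zgi9) (kgi xgi1 ygi10 zgi61) (kgi xgi4 ygi59 zgi20) (kgi xgi4 ygi59 zgi18) (kgi xgi5 ygi0 zgi1) (kgi xgi1 ygi11 zgi1) (kgi xgi5 ygi0 zgi6) (kgi xgi4 ygi33 zgi60) (kgi xgi5 ygi0 zgi14) (kgi xgi5 ygi0 zgi15) (kgi xgi5 ygi0 zgi17) (kgi xgi5 ygi0 zgi13) (kgi xgi5 ygi0 zgi22) (kgi xgi1 ygi11 zgi6) (kgi xgi3 ygi3 zgi33) (kgi xgi2 ygi58 zgi0) (kgi xgi1 ygi28 zgi20) (kgi xgi1 ygi21 zgi34) (kgi xgi3 ygi3 zgi40)) (@D3.rec (fun _ => Pt) (kgi xgi2 ygi58 zgi9) (kgi xgi2 ygi9 zgi32) (kgi xgi2 ygi58 zgi10) (kgi xgi5 ygi0 zgi36) (kgi xgi5 ygi0 zgi38) (kgi xgi4 ygi28 zgi27) (kgi xgi2 ygi38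 zgi49) (kgi xgi5 ygi0 zgi45) (kgi xgi2 ygi31 zgi58) (kgi xgi1 ygi11 zgi18) (kgi xgi5 ygi0 zgi52) (kgi xgi1 ygi11 zgi28) (kgi xgi1 ygi14 zgi37) (kgi xgi5 ygi0 zgi59) (kgi xgi4 ygi9 zgi6) (kgi xgi5 ygi1 zgi0) (kgi xgi2 ygi38 zgi18) (kgi xgi1 ygi11 zgi22) (kgi xgi1 ygi11 zgi26) (kgi xgi5 ygi1 zgi8) (kgi xgi5 ygi1 zgi13) (kgi xgi5 ygi1 zgi16) (kgi xgi2 ygi25 zgi16) (kgi xgi4 ygi3 zgi6) (kgi xgi2 ygi37 zgi48) (kgi xgi5 ygi1 zgi7) (kgi xgi4 ygi14 zgi40) (kgi xgi2 ygi4 zgi32) (kgi xgi2 ygi1 zgi19) (kgi xgi4 ygi2 zgi35) (kgi xgi5 ygi1 zgi38) (kgi xgi4 ygi53 zgi61) (kgi xgi5 ygi1 zgi33) (kgi xgi5 ygi1 zgi45) (kgi xgi1 ygi11 zgi30) (kgi xgi5 ygi0 zgi55) (kgi xgi5 ygi1 zgi54) (kgi xgi5 ygi1 zgi59) (kgi xgi5 ygi0 zgi51) (kgi xgi5 ygi2 zgi3) (kgi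 xgi1 ygi11 zgi32) (kgi xgi2 ygi25 zgi3) (kgi xgi5 ygi2 zgi10) (kgi xgi5 ygi2 zgi15) (kgi xgi1 ygi57 zgi48) (kgi xgi1 ygi12 zgi2) (kgi xgi5 ygi2 zgi23) (kgi xgi1 ygi12 zgi13) (kgi xgi2 ygi32 zgi16) (kgi xgi1 ygi11 zgi35) (kgi xgi1 ygi11 zgi41) (kgi xgi5 ygi2 zgi34) (kgi xgi1 ygi15 zgi0) (kgi xgi5 ygi2 zgi40) (kgi xgi1 ygi11 zgi36) (kgi xgi2 ygi32 zgi5) (kgi xgi2 ygi32 zgi3) (kgi xgi2 ygi32 zgi18) (kgi xgi2 ygi31 zgi54) (kgi xgi1 ygi55 zgi57) (kgi xgi1 ygi11 zgi39) (kgi xgi2 ygi31 zgi52)) (@D3.rec (fun _ => Pt) (kgi xgi5 ygi2 zgi56) (kgi xgi5 ygi2 zgi8) (kgi xgi1 ygi11 zgi40) (kgi xgi2 ygi44 zgi26) (kgi xgi4 ygi5 zgi2) (kgi xgi5 ygi3 zgi5) (kgi xgi2 ygi15 zgi3) (kgi xgi4 ygi29 zgi48) (kgi xgi1 ygi11 zgi42) (kgi xgi5 ygi3 zgi15) (kgi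 xgi2 ygi32 zgi14) (kgi xgi1 ygi25 zgi10) (kgi xgi2 ygi36 zgi12) (kgi xgi5 ygi3 zgi22) (kgi xgi5 ygi3 zgi25) (kgi xgi5 ygi3 zgi30) (kgi xgi5 ygi3 zgi33) (kgi xgi1 ygi11 zgi46) (kgi xgi2 ygi32 zgi26) (kgi xgi2 ygi32 zgi24) (kgi xgi2 ygi31 zgi51) (kgi xgi5 ygi3 zgi44) (kgi xgi5 ygi3 zgi49) (kgi xgi5 ygi3 zgi52) (kgi xgi5 ygi3 zgi29) (kgi xgi5 ygi3 zgi58) (kgi xgi1 ygi11 zgi49) (kgi xgi2 ygi32 zgi34) (kgi xgi2 ygi32 zgi32) (kgi xgi5 ygi4 zgi2) (kgi xgi5 ygi4 zgi8) (kgi xgi5 ygi3 zgi39) (kgi xgi5 ygi4 zgi13) (kgi xgi5 ygi4 zgi7) (kgi xgi5 ygi4 zgi1) (kgi xgi1 ygi11 zgi52) (kgi xgi5 ygi4 zgi21) (kgi xgi5 ygi4 zgi27) (kgi xgi5 ygi4 zgi34) (kgi xgi5 ygi4 zgi22) (kgi xgi1 ygi11 zgi53) (kgi xgi1 ygi12 zgi40) (kgi xgi5 ygi4 zgi42) (kgi xgi5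 ygi4 zgi44) (kgi xgi1 ygi11 zgi55) (kgi xgi5 ygi4 zgi50) (kgi xgi1 ygi11 zgi57) (kgi xgi2 ygi7 zgi43) (kgi xgi5 ygi4 zgi59) (kgi xgi5 ygi5 zgi2) (kgi xgi2 ygi24 zgi44) (kgi xgi1 ygi12 zgi44) (kgi xgi2 ygi24 zgi45) (kgi xgi1 ygi11 zgi60) (kgi xgi2 ygi7 zgi45) (kgi xgi5 ygi5 zgi12) (kgi xgi3 ygi57 zgi50) (kgi xgi1 ygi11 zgi61) (kgi xgi2 ygi10 zgi53) (kgi xgi5 ygi5 zgi23) (kgi xgi5 ygi5 zgi28) (kgi xgi2 ygi35 zgi15)) (@D3.rec (fun _ => Pt) (kgi xgi1 ygi13 zgi2) (kgi xgi5 ygi5 zgi35) (kgi xgi1 ygi14 zgi21) (kgi xgi1 ygi13 zgi6) (kgi xgi5 ygi5 zgi41) (kgi xgi5 ygi2 zgi44) (kgi xgi1 ygi12 zgi3) (kgi xgi2 ygi33 zgi0) (kgi xgi2 ygi32 zgi60) (kgi xgi1 ygi13 zgi59) (kgi xgi2 ygi14 zgi9) (kgi xgi1 ygi13 zgi56) (kgi xgi1 ygi13 zgi53) (kgi xgi2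 ygi14 zgi5) (kgi xgi3 ygi5 zgi4) (kgi xgi1 ygi13 zgi48) (kgi xgi1 ygi12 zgi9) (kgi xgi2 ygi33 zgi35) (kgi xgi4 ygi5 zgi36) (kgi xgi5 ygi6 zgi1) (kgi xgi1 ygi12 zgi11) (kgi xgi1 ygi15 zgi10) (kgi xgi5 ygi6 zgi9) (kgi xgi5 ygi5 zgi21) (kgi xgi2 ygi58 zgi23) (kgi xgi5 ygi6 zgi18) (kgi xgi5 ygi2 zgi27) (kgi xgi1 ygi12 zgi14) (kgi xgi5 ygi6 zgi25) (kgi xgi2 ygi33 zgi31) (kgi xgi2 ygi0 zgi43) (kgi xgi1 ygi12 zgi16) (kgi xgi2 ygi33 zgi6) (kgi xgi2 ygi33 zgi4) (kgi xgi5 ygi6 zgi33) (kgi xgi5 ygi6 zgi37) (kgi xgi1 ygi23 zgi38) (kgi xgi1 ygi25 zgi48) (kgi xgi4 ygi25 zgi42) (kgi xgi5 ygi6 zgi45) (kgi xgi3 ygi33 zgi37) (kgi xgi3 ygi0 zgi1) (kgi xgi1 ygi20 zgi2) (kgi xgi1 ygi12 zgi22) (kgi xgi1 ygi12 zgi25) (kgi xgi4 ygi33 zgi42) (kgi xgi1 ygi23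 zgi44) (kgi xgi1 ygi23 zgi46) (kgi xgi3 ygi43 zgi0) (kgi xgi2 ygi55 zgi25) (kgi xgi5 ygi6 zgi61) (kgi xgi2 ygi0 zgi9) (kgi xgi5 ygi7 zgi4) (kgi xgi4 ygi57 zgi21) (kgi xgi1 ygi12 zgi28) (kgi xgi1 ygi12 zgi31) (kgi xgi4 ygi57 zgi50) (kgi xgi2 ygi33 zgi53) (kgi xgi2 ygi33 zgi51) (kgi xgi5 ygi7 zgi18) (kgi xgi5 ygi7 zgi21) (kgi xgi5 ygi7 zgi24)) (@D3.rec (fun _ => Pt) (kgi xgi5 ygi7 zgi27) (kgi xgi1 ygi19 zgi24) (kgi xgi1 ygi12 zgi35) (kgi xgi4 ygi58 zgi30) (kgi xgi2 ygi55 zgi3) (kgi xgi5 ygi7 zgi8) (kgi xgi4 ygi31 zgi60) (kgi xgi1 ygi12 zgi37) (kgi xgi4 ygi58 zgi27) (kgi xgi5 ygi7 zgi36) (kgi xgi2 ygi59 zgi54) (kgi xgi2 ygi50 zgi4) (kgi xgi1 ygi12 zgi36) (kgi xgi4 ygi7 zgi21) (kgi xgi5 ygi7 zgi59) (kgi xgi5 ygi8 zgi3) (kgi xgi5 ygi7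 zgi49) (kgi xgi4 ygi58 zgi20) (kgi xgi5 ygi8 zgi9) (kgi xgi5 ygi7 zgi14) (kgi xgi5 ygi8 zgi15) (kgi xgi5 ygi8 zgi18) (kgi xgi3 ygi2 zgi0) (kgi xgi1 ygi12 zgi41) (kgi xgi2 ygi34 zgi14) (kgi xgi2 ygi34 zgi12) (kgi xgi5 ygi8 zgi27) (kgi xgi5 ygi8 zgi29) (kgi xgi4 ygi14 zgi8) (kgi xgi1 ygi12 zgi49) (kgi xgi1 ygi12 zgi52) (kgi xgi5 ygi8 zgi36) (kgi xgi5 ygi8 zgi41) (kgi xgi5 ygi8 zgi44) (kgi xgi3 ygi58 zgi13) (kgi xgi5 ygi8 zgi35) (kgi xgi5 ygi8 zgi52) (kgi xgi2 ygi7 zgi26) (kgi xgi2 ygi4 zgi14) (kgi xgi1 ygi58 zgi21) (kgi xgi5 ygi9 zgi0) (kgi xgi4 ygi54 zgi19) (kgi xgi4 ygi2 zgi31) (kgi xgi5 ygi9 zgi7) (kgi xgi1 ygi12 zgi56) (kgi xgi4 ygi1 zgi56) (kgi xgi5 ygi9 zgi16) (kgi xgi5 ygi9 zgi21) (kgi xgi4 ygi1 zgi52) (kgi xgi5 ygi9 zgi25) (kgi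 xgi2 ygi23 zgi2) (kgi xgi1 ygi13 zgi9) (kgi xgi2 ygi28 zgi60) (kgi xgi5 ygi9 zgi31) (kgi xgi1 ygi12 zgi61) (kgi xgi2 ygi28 zgi58) (kgi xgi5 ygi9 zgi39) (kgi xgi5 ygi9 zgi44) (kgi xgi2 ygi28 zgi7) (kgi xgi1 ygi13 zgi24) (kgi xgi5 ygi9 zgi51) (kgi xgi1 ygi13 zgi41)) (@D3.rec (fun _ => Pt) (kgi xgi5 ygi9 zgi55) (kgi xgi1 ygi14 zgi32) (kgi xgi5 ygi5 zgi49) (kgi xgi1 ygi13 zgi3) (kgi xgi2 ygi28 zgi56) (kgi xgi2 ygi28 zgi54) (kgi xgi1 ygi13 zgi4) (kgi xgi2 ygi24 zgi58) (kgi xgi5 ygi10 zgi8) (kgi xgi5 ygi9 zgi37) (kgi xgi4 ygi6 zgi12) (kgi xgi5 ygi10 zgi17) (kgi xgi1 ygi22 zgi61) (kgi xgi2 ygi42 zgi16) (kgi xgi1 ygi13 zgi7) (kgi xgi5 ygi10 zgi25) (kgi xgi2 ygi29 zgi8) (kgi xgi1 ygi16 zgi29) (kgi xgi1 ygi55 zgi48) (kgi xgi4 ygi27 zgi10) (kgi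 xgi5 ygi10 zgi35) (kgi xgi5 ygi10 zgi38) (kgi xgi5 ygi2 zgi29) (kgi xgi5 ygi10 zgi44) (kgi xgi1 ygi13 zgi11) (kgi xgi2 ygi29 zgi19) (kgi xgi2 ygi29 zgi17) (kgi xgi5 ygi10 zgi52) (kgi xgi5 ygi10 zgi57) (kgi xgi5 ygi10 zgi60) (kgi xgi5 ygi2 zgi32) (kgi xgi5 ygi11 zgi4) (kgi xgi1 ygi13 zgi14) (kgi xgi2 ygi29 zgi28) (kgi xgi2 ygi29 zgi26) (kgi xgi5 ygi11 zgi11) (kgi xgi5 ygi2 zgi20) (kgi xgi5 ygi10 zgi50) (kgi xgi5 ygi11 zgi20) (kgi xgi5 ygi2 zgi26) (kgi xgi5 ygi11 zgi9) (kgi xgi1 ygi13 zgi17) (kgi xgi5 ygi11 zgi28) (kgi xgi5 ygi11 zgi34) (kgi xgi5 ygi11 zgi41) (kgi xgi5 ygi11 zgi29) (kgi xgi1 ygi13 zgi18) (kgi xgi1 ygi14 zgi3) (kgi xgi5 ygi11 zgi50) (kgi xgi5 ygi11 zgi52) (kgi xgi1 ygi13 zgi20) (kgi xgi1 ygi13 zgi21) (kgi xgi1 ygi15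 zgi17) (kgi xgi5 ygi12 zgi2) (kgi xgi5 ygi12 zgi7) (kgi xgi2 ygi34 zgi22) (kgi xgi5 ygi12 zgi12) (kgi xgi1 ygi14 zgi51) (kgi xgi5 ygi12 zgi17) (kgi xgi5 ygi10 zgi1) (kgi xgi1 ygi13 zgi25) (kgi xgi2 ygi30 zgi8)) (@D3.rec (fun _ => Pt) (kgi xgi2 ygi30 zgi6) (kgi xgi2 ygi59 zgi53) (kgi xgi5 ygi12 zgi25) (kgi xgi2 ygi16 zgi55) (kgi xgi1 ygi13 zgi30) (kgi xgi2 ygi30 zgi33) (kgi xgi2 ygi30 zgi31) (kgi xgi2 ygi55 zgi6) (kgi xgi5 ygi12 zgi32) (kgi xgi5 ygi12 zgi35) (kgi xgi4 ygi8 zgi9) (kgi xgi1 ygi13 zgi33) (kgi xgi2 ygi7 zgi30) (kgi xgi5 ygi8 zgi55) (kgi xgi5 ygi12 zgi48) (kgi xgi1 ygi57 zgi29) (kgi xgi1 ygi57 zgi44) (kgi xgi3 ygi59 zgi58) (kgi xgi2 ygi17 zgi57) (kgi xgi1 ygi13 zgi37) (kgi xgi2 ygi7 zgi31) (kgi xgi5 ygi12 zgi59) (kgi xgi5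 ygi12 zgi61) (kgi xgi1 ygi57 zgi33) (kgi xgi1 ygi13 zgi39) (kgi xgi2 ygi10 zgi48) (kgi xgi5 ygi13 zgi8) (kgi xgi5 ygi12 zgi0) (kgi xgi2 ygi31 zgi53) (kgi xgi5 ygi13 zgi17) (kgi xgi4 ygi55 zgi61) (kgi xgi1 ygi13 zgi42) (kgi xgi5 ygi13 zgi24) (kgi xgi2 ygi30 zgi27) (kgi xgi1 ygi25 zgi31) (kgi xgi1 ygi13 zgi44) (kgi xgi3 ygi0 zgi21) (kgi xgi5 ygi13 zgi31) (kgi xgi2 ygi0 zgi11) (kgi xgi3 ygi21 zgi13) (kgi xgi2 ygi47 zgi60) (kgi xgi2 ygi48 zgi40) (kgi xgi2 ygi7 zgi32) (kgi xgi5 ygi13 zgi38) (kgi xgi5 ygi5 zgi10) (kgi xgi1 ygi58 zgi1) (kgi xgi2 ygi15 zgi51) (kgi xgi4 ygi5 zgi43) (kgi xgi2 ygi14 zgi60) (kgi xgi4 ygi41 zgi49) (kgi xgi1 ygi25 zgi46) (kgi xgi1 ygi13 zgi55) (kgi xgi2 ygi30 zgi58) (kgi xgi1 ygi56 zgi25) (kgi xgi4 ygi36 zgi45)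 (kgi xgi5 ygi14 zgi2) (kgi xgi5 ygi14 zgi6) (kgi xgi5 ygi14 zgi8) (kgi xgi2 ygi27 zgi13) (kgi xgi2 ygi27 zgi15) (kgi xgi5 ygi14 zgi15) (kgi xgi5 ygi13 zgi52)) (@D3.rec (fun _ => Pt) (kgi xgi5 ygi14 zgi19) (kgi xgi1 ygi25 zgi41) (kgi xgi5 ygi14 zgi22) (kgi xgi1 ygi25 zgi43) (kgi xgi2 ygi16 zgi58) (kgi xgi3 ygi25 zgi33) (kgi xgi5 ygi13 zgi57) (kgi xgi5 ygi14 zgi35) (kgi xgi5 ygi14 zgi11) (kgi xgi5 ygi14 zgi41) (kgi xgi5 ygi14 zgi44) (kgi xgi3 ygi7 zgi35) (kgi xgi1 ygi14 zgi4) (kgi xgi2 ygi31 zgi25) (kgi xgi2 ygi31 zgi23) (kgi xgi5 ygi14 zgi53) (kgi xgi4 ygi16 zgi26) (kgi xgi4 ygi14 zgi12) (kgi xgi4 ygi3 zgi61) (kgi xgi5 ygi14 zgi58) (kgi xgi4 ygi55 zgi25) (kgi xgi2 ygi4 zgi8) (kgi xgi5 ygi5 zgi37) (kgi xgi2 ygi32 zgi55) (kgi xgi1 ygi14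 zgi13) (kgi xgi5 ygi15 zgi6) (kgi xgi1 ygi14 zgi23) (kgi xgi5 ygi15 zgi11) (kgi xgi5 ygi15 zgi14) (kgi xgi1 ygi14 zgi16) (kgi xgi5 ygi15 zgi17) (kgi xgi5 ygi15 zgi20) (kgi xgi1 ygi14 zgi17) (kgi xgi5 ygi15 zgi24) (kgi xgi5 ygi5 zgi48) (kgi xgi5 ygi5 zgi17) (kgi xgi2 ygi11 zgi2) (kgi xgi2 ygi7 zgi38) (kgi xgi5 ygi15 zgi16) (kgi xgi4 ygi13 zgi59) (kgi xgi5 ygi15 zgi23) (kgi xgi5 ygi15 zgi40) (kgi xgi2 ygi1 zgi10) (kgi xgi1 ygi58 zgi17) (kgi xgi4 ygi13 zgi47) (kgi xgi5 ygi15 zgi50) (kgi xgi4 ygi27 zgi11) (kgi xgi5 ygi15 zgi45) (kgi xgi5 ygi15 zgi58) (kgi xgi1 ygi14 zgi25) (kgi xgi5 ygi15 zgi9) (kgi xgi5 ygi16 zgi5) (kgi xgi5 ygi16 zgi10) (kgi xgi5 ygi8 zgi56) (kgi xgi5 ygi16 zgi16) (kgi xgi4 ygi53 zgi60) (kgi xgi5 ygi16 zgi21) (kgi xgi1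 ygi14 zgi28) (kgi xgi2 ygi35 zgi54) (kgi xgi2 ygi35 zgi52) (kgi xgi5 ygi16 zgi26) (kgi xgi5 ygi16 zgi30)) (@D3.rec (fun _ => Pt) (kgi xgi1 ygi14 zgi30) (kgi xgi2 ygi35 zgi59) (kgi xgi2 ygi35 zgi57) (kgi xgi1 ygi14 zgi31) (kgi xgi5 ygi16 zgi34) (kgi xgi5 ygi16 zgi40) (kgi xgi5 ygi16 zgi47) (kgi xgi5 ygi16 zgi35) (kgi xgi5 ygi16 zgi52) (kgi xgi5 ygi11 zgi55) (kgi xgi1 ygi14 zgi34) (kgi xgi2 ygi37 zgi2) (kgi xgi5 ygi16 zgi57) (kgi xgi4 ygi6 zgi35) (kgi xgi1 ygi14 zgi44) (kgi xgi5 ygi12 zgi14) (kgi xgi2 ygi29 zgi61) (kgi xgi1 ygi14 zgi40) (kgi xgi5 ygi17 zgi6) (kgi xgi1 ygi14 zgi53) (kgi xgi4 ygi0 zgi16) (kgi xgi5 ygi17 zgi12) (kgi xgi5 ygi17 zgi14) (kgi xgi2 ygi41 zgi10) (kgi xgi2 ygi23 zgi5) (kgi xgi5 ygi17 zgi13) (kgi xgi4 ygi2 zgi44)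 (kgi xgi1 ygi14 zgi46) (kgi xgi5 ygi17 zgi0) (kgi xgi4 ygi8 zgi0) (kgi xgi5 ygi16 zgi60) (kgi xgi1 ygi14 zgi48) (kgi xgi5 ygi17 zgi32) (kgi xgi5 ygi12 zgi23) (kgi xgi5 ygi11 zgi58) (kgi xgi1 ygi15 zgi52) (kgi xgi5 ygi17 zgi31) (kgi xgi5 ygi17 zgi45) (kgi xgi2 ygi4 zgi50) (kgi xgi4 ygi7 zgi56) (kgi xgi5 ygi17 zgi54) (kgi xgi2 ygi36 zgi13) (kgi xgi5 ygi17 zgi49) (kgi xgi5 ygi17 zgi61) (kgi xgi1 ygi14 zgi55) (kgi xgi5 ygi17 zgi9) (kgi xgi5 ygi18 zgi8) (kgi xgi5 ygi18 zgi13) (kgi xgi5 ygi1 zgi31) (kgi xgi5 ygi18 zgi19) (kgi xgi4 ygi54 zgi18) (kgi xgi5 ygi18 zgi24) (kgi xgi1 ygi14 zgi58) (kgi xgi2 ygi34 zgi59) (kgi xgi2 ygi34 zgi57) (kgi xgi5 ygi18 zgi30) (kgi xgi5 ygi18 zgi34) (kgi xgi1 ygi14 zgi60) (kgi xgi2 ygi35 zgi2) (kgi xgi2 ygi35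 zgi0) (kgi xgi1 ygi14 zgi61) (kgi xgi5 ygi18 zgi38)) (@D3.rec (fun _ => Pt) (kgi xgi5 ygi18 zgi44) (kgi xgi5 ygi18 zgi51) (kgi xgi5 ygi18 zgi39) (kgi xgi5 ygi18 zgi56) (kgi xgi5 ygi4 zgi47) (kgi xgi1 ygi15 zgi2) (kgi xgi5 ygi6 zgi3) (kgi xgi2 ygi38 zgi23) (kgi xgi5 ygi18 zgi60) (kgi xgi1 ygi15 zgi56) (kgi xgi1 ygi15 zgi5) (kgi xgi2 ygi36 zgi18) (kgi xgi4 ygi54 zgi22) (kgi xgi2 ygi36 zgi16) (kgi xgi5 ygi17 zgi38) (kgi xgi4 ygi53 zgi47) (kgi xgi1 ygi15 zgi8) (kgi xgi2 ygi32 zgi27) (kgi xgi2 ygi36 zgi10) (kgi xgi5 ygi6 zgi8) (kgi xgi5 ygi19 zgi19) (kgi xgi4 ygi54 zgi3) (kgi xgi2 ygi5 zgi45) (kgi xgi5 ygi19 zgi25) (kgi xgi1 ygi15 zgi13) (kgi xgi2 ygi36 zgi45) (kgi xgi5 ygi19 zgi35) (kgi xgi5 ygi19 zgi38) (kgi xgi2 ygi36 zgi41) (kgi xgi5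 ygi16 zgi53) (kgi xgi1 ygi15 zgi15) (kgi xgi4 ygi2 zgi36) (kgi xgi4 ygi51 zgi18) (kgi xgi2 ygi34 zgi43) (kgi xgi5 ygi12 zgi1) (kgi xgi4 ygi28 zgi13) (kgi xgi1 ygi15 zgi18) (kgi xgi1 ygi24 zgi60) (kgi xgi1 ygi16 zgi1) (kgi xgi5 ygi18 zgi20) (kgi xgi5 ygi19 zgi60) (kgi xgi1 ygi15 zgi20) (kgi xgi2 ygi36 zgi28) (kgi xgi5 ygi20 zgi7) (kgi xgi5 ygi19 zgi34) (kgi xgi2 ygi36 zgi24) (kgi xgi5 ygi20 zgi14) (kgi xgi2 ygi33 zgi28) (kgi xgi1 ygi15 zgi23) (kgi xgi5 ygi20 zgi20) (kgi xgi1 ygi15 zgi46) (kgi xgi4 ygi29 zgi4) (kgi xgi2 ygi43 zgi58) (kgi xgi1 ygi15 zgi29) (kgi xgi5 ygi20 zgi29) (kgi xgi5 ygi20 zgi33) (kgi xgi2 ygi37 zgi39) (kgi xgi2 ygi36 zgi7) (kgi xgi5 ygi20 zgi28) (kgi xgi4 ygi11 zgi10) (kgi xgi2 ygi7 zgi51) (kgi xgi4 ygi13 zgi25))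 (@D3.rec (fun _ => Pt) (kgi xgi2 ygi2 zgi36) (kgi xgi5 ygi20 zgi47) (kgi xgi2 ygi37 zgi46) (kgi xgi5 ygi20 zgi43) (kgi xgi4 ygi30 zgi2) (kgi xgi1 ygi15 zgi33) (kgi xgi1 ygi16 zgi24) (kgi xgi5 ygi21 zgi1) (kgi xgi5 ygi21 zgi6) (kgi xgi1 ygi16 zgi20) (kgi xgi5 ygi21 zgi10) (kgi xgi5 ygi21 zgi12) (kgi xgi4 ygi51 zgi40) (kgi xgi1 ygi58 zgi59) (kgi xgi5 ygi15 zgi30) (kgi xgi4 ygi3 zgi45) (kgi xgi1 ygi15 zgi39) (kgi xgi2 ygi29 zgi21) (kgi xgi4 ygi27 zgi9) (kgi xgi5 ygi12 zgi34) (kgi xgi4 ygi52 zgi51) (kgi xgi1 ygi15 zgi42) (kgi xgi1 ygi15 zgi44) (kgi xgi5 ygi21 zgi32) (kgi xgi5 ygi21 zgi37) (kgi xgi5 ygi21 zgi31) (kgi xgi5 ygi19 zgi26) (kgi xgi2 ygi8 zgi0) (kgi xgi5 ygi21 zgi47) (kgi xgi5 ygi21 zgi52) (kgi xgi5 ygi21 zgi46) (kgi xgi5 ygi21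 zgi58) (kgi xgi1 ygi15 zgi48) (kgi xgi5 ygi20 zgi23) (kgi xgi5 ygi22 zgi5) (kgi xgi5 ygi22 zgi10) (kgi xgi5 ygi20 zgi19) (kgi xgi5 ygi21 zgi9) (kgi xgi1 ygi16 zgi12) (kgi xgi1 ygi15 zgi51) (kgi xgi2 ygi36 zgi56) (kgi xgi5 ygi22 zgi18) (kgi xgi5 ygi22 zgi23) (kgi xgi2 ygi37 zgi55) (kgi xgi4 ygi20 zgi54) (kgi xgi2 ygi36 zgi9) (kgi xgi2 ygi38 zgi32) (kgi xgi2 ygi38 zgi12) (kgi xgi5 ygi22 zgi30) (kgi xgi1 ygi15 zgi55) (kgi xgi1 ygi16 zgi6) (kgi xgi4 ygi30 zgi53) (kgi xgi5 ygi22 zgi39) (kgi xgi2 ygi37 zgi45) (kgi xgi4 ygi15 zgi6) (kgi xgi2 ygi35 zgi35) (kgi xgi4 ygi54 zgi50) (kgi xgi5 ygi22 zgi49) (kgi xgi4 ygi55 zgi9) (kgi xgi5 ygi21 zgi43) (kgi xgi1 ygi15 zgi59) (kgi xgi1 ygi16 zgi8)) (@D3.rec (fun _ => Pt) (kgi xgi5 ygi23 zgi0) (kgi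 xgi5 ygi23 zgi5) (kgi xgi5 ygi23 zgi8) (kgi xgi1 ygi15 zgi60) (kgi xgi5 ygi20 zgi34) (kgi xgi5 ygi23 zgi16) (kgi xgi4 ygi28 zgi61) (kgi xgi1 ygi25 zgi2) (kgi xgi5 ygi23 zgi20) (kgi xgi4 ygi20 zgi55) (kgi xgi4 ygi21 zgi21) (kgi xgi2 ygi28 zgi16) (kgi xgi1 ygi16 zgi4) (kgi xgi2 ygi37 zgi47) (kgi xgi2 ygi43 zgi40) (kgi xgi4 ygi21 zgi52) (kgi xgi1 ygi16 zgi5) (kgi xgi2 ygi1 zgi36) (kgi xgi4 ygi9 zgi16) (kgi xgi4 ygi54 zgi54) (kgi xgi5 ygi23 zgi36) (kgi xgi1 ygi16 zgi7) (kgi xgi3 ygi56 zgi56) (kgi xgi4 ygi19 zgi17) (kgi xgi5 ygi23 zgi41) (kgi xgi5 ygi23 zgi4) (kgi xgi5 ygi23 zgi47) (kgi xgi1 ygi16 zgi9) (kgi xgi5 ygi20 zgi41) (kgi xgi5 ygi23 zgi54) (kgi xgi5 ygi20 zgi40) (kgi xgi5 ygi23 zgi58) (kgi xgi2 ygi35 zgi11) (kgi xgi2 ygi25 zgi13)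 (kgi xgi2 ygi8 zgi21) (kgi xgi5 ygi24 zgi4) (kgi xgi1 ygi16 zgi13) (kgi xgi1 ygi16 zgi17) (kgi xgi5 ygi24 zgi11) (kgi xgi5 ygi24 zgi16) (kgi xgi5 ygi24 zgi19) (kgi xgi1 ygi16 zgi14) (kgi xgi2 ygi5 zgi19) (kgi xgi2 ygi5 zgi47) (kgi xgi1 ygi16 zgi15) (kgi xgi5 ygi20 zgi48) (kgi xgi5 ygi13 zgi14) (kgi xgi4 ygi29 zgi43) (kgi xgi2 ygi43 zgi32) (kgi xgi2 ygi43 zgi33) (kgi xgi5 ygi24 zgi34) (kgi xgi5 ygi24 zgi37) (kgi xgi5 ygi24 zgi15) (kgi xgi5 ygi24 zgi42) (kgi xgi4 ygi4 zgi34) (kgi xgi1 ygi16 zgi19) (kgi xgi5 ygi20 zgi54) (kgi xgi5 ygi24 zgi48) (kgi xgi5 ygi20 zgi53) (kgi xgi5 ygi24 zgi52) (kgi xgi2 ygi4 zgi1) (kgi xgi5 ygi24 zgi60)) (@D3.rec (fun _ => Pt) (kgi xgi5 ygi24 zgi25) (kgi xgi5 ygi25 zgi2) (kgi xgi4 ygi54 zgi48) (kgi xgi5 ygi24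 zgi59) (kgi xgi5 ygi24 zgi46) (kgi xgi1 ygi16 zgi22) (kgi xgi5 ygi25 zgi11) (kgi xgi5 ygi25 zgi17) (kgi xgi5 ygi25 zgi24) (kgi xgi5 ygi25 zgi12) (kgi xgi1 ygi16 zgi23) (kgi xgi4 ygi55 zgi47) (kgi xgi4 ygi55 zgi45) (kgi xgi5 ygi25 zgi36) (kgi xgi5 ygi21 zgi5) (kgi xgi5 ygi25 zgi40) (kgi xgi1 ygi16 zgi25) (kgi xgi5 ygi20 zgi24) (kgi xgi1 ygi16 zgi26) (kgi xgi2 ygi4 zgi58) (kgi xgi5 ygi25 zgi54) (kgi xgi5 ygi25 zgi59) (kgi xgi2 ygi0 zgi47) (kgi xgi1 ygi16 zgi33) (kgi xgi5 ygi26 zgi1) (kgi xgi1 ygi59 zgi59) (kgi xgi2 ygi52 zgi43) (kgi xgi1 ygi16 zgi30) (kgi xgi2 ygi58 zgi58) (kgi xgi2 ygi58 zgi56) (kgi xgi1 ygi16 zgi31) (kgi xgi5 ygi26 zgi8) (kgi xgi4 ygi28 zgi46) (kgi xgi5 ygi26 zgi15) (kgi xgi2 ygi0 zgi18) (kgi xgi2 ygi44 zgi11) (kgi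 xgi1 ygi16 zgi34) (kgi xgi2 ygi59 zgi5) (kgi xgi4 ygi13 zgi56) (kgi xgi5 ygi26 zgi28) (kgi xgi5 ygi26 zgi31) (kgi xgi1 ygi36 zgi58) (kgi xgi5 ygi26 zgi36) (kgi xgi1 ygi16 zgi37) (kgi xgi2 ygi59 zgi14) (kgi xgi2 ygi59 zgi12) (kgi xgi5 ygi17 zgi27) (kgi xgi5 ygi26 zgi47) (kgi xgi5 ygi26 zgi50) (kgi xgi4 ygi49 zgi61) (kgi xgi1 ygi16 zgi40) (kgi xgi2 ygi59 zgi21) (kgi xgi2 ygi59 zgi19) (kgi xgi3 ygi21 zgi0) (kgi xgi5 ygi7 zgi2) (kgi xgi5 ygi26 zgi41) (kgi xgi5 ygi26 zgi61) (kgi xgi3 ygi20 zgi37) (kgi xgi1 ygi16 zgi43) (kgi xgi5 ygi27 zgi3) (kgi xgi5 ygi27 zgi9) (kgi xgi5 ygi27 zgi16)) (@D3.rec (fun _ => Pt) (kgi xgi5 ygi27 zgi4) (kgi xgi1 ygi16 zgi44) (kgi xgi5 ygi27 zgi22) (kgi xgi4 ygi30 zgi42) (kgi xgi2 ygi23 zgi37) (kgi xgi5 ygi14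 zgi59) (kgi xgi4 ygi30 zgi49) (kgi xgi4 ygi29 zgi7) (kgi xgi5 ygi27 zgi34) (kgi xgi1 ygi16 zgi57) (kgi xgi1 ygi16 zgi55) (kgi xgi5 ygi27 zgi36) (kgi xgi5 ygi27 zgi41) (kgi xgi4 ygi3 zgi36) (kgi xgi4 ygi55 zgi6) (kgi xgi5 ygi27 zgi48) (kgi xgi1 ygi16 zgi53) (kgi xgi4 ygi15 zgi57) (kgi xgi5 ygi27 zgi57) (kgi xgi4 ygi14 zgi16) (kgi xgi5 ygi28 zgi1) (kgi xgi1 ygi16 zgi54) (kgi xgi5 ygi27 zgi35) (kgi xgi5 ygi27 zgi33) (kgi xgi2 ygi23 zgi21) (kgi xgi1 ygi25 zgi8) (kgi xgi4 ygi27 zgi45) (kgi xgi5 ygi28 zgi11) (kgi xgi2 ygi1 zgi21) (kgi xgi2 ygi5 zgi21) (kgi xgi4 ygi54 zgi44) (kgi xgi5 ygi28 zgi24) (kgi xgi5 ygi28 zgi27) (kgi xgi2 ygi12 zgi8) (kgi xgi5 ygi28 zgi33) (kgi xgi1 ygi16 zgi60) (kgi xgi4 ygi10 zgi61) (kgi xgi4 ygi10 zgi58) (kgi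 xgi5 ygi28 zgi40) (kgi xgi2 ygi12 zgi5) (kgi xgi5 ygi28 zgi45) (kgi xgi5 ygi28 zgi48) (kgi xgi2 ygi11 zgi61) (kgi xgi5 ygi28 zgi38) (kgi xgi5 ygi28 zgi57) (kgi xgi2 ygi11 zgi51) (kgi xgi5 ygi26 zgi21) (kgi xgi1 ygi17 zgi3) (kgi xgi4 ygi29 zgi17) (kgi xgi4 ygi29 zgi15) (kgi xgi5 ygi29 zgi13) (kgi xgi5 ygi29 zgi16) (kgi xgi4 ygi3 zgi21) (kgi xgi2 ygi43 zgi29) (kgi xgi1 ygi25 zgi37) (kgi xgi4 ygi2 zgi51) (kgi xgi5 ygi29 zgi20) (kgi xgi4 ygi13 zgi3) (kgi xgi2 ygi35 zgi23) (kgi xgi4 ygi28 zgi47) (kgi xgi4 ygi9 zgi27) (kgi xgi1 ygi17 zgi13)) (@D3.rec (fun _ => Pt) (kgi xgi1 ygi17 zgi21) (kgi xgi2 ygi23 zgi11) (kgi xgi4 ygi9 zgi41) (kgi xgi1 ygi17 zgi15) (kgi xgi4 ygi2 zgi43) (kgi xgi4 ygi8 zgi38) (kgi xgi5 ygi29 zgi41) (kgi xgi1 ygi17 zgi16)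 (kgi xgi5 ygi29 zgi24) (kgi xgi4 ygi13 zgi49) (kgi xgi5 ygi29 zgi23) (kgi xgi4 ygi9 zgi2) (kgi xgi2 ygi5 zgi24) (kgi xgi5 ygi26 zgi13) (kgi xgi4 ygi8 zgi34) (kgi xgi5 ygi29 zgi51) (kgi xgi1 ygi17 zgi19) (kgi xgi4 ygi2 zgi45) (kgi xgi5 ygi29 zgi61) (kgi xgi5 ygi30 zgi4) (kgi xgi5 ygi30 zgi7) (kgi xgi1 ygi17 zgi20) (kgi xgi5 ygi29 zgi29) (kgi xgi5 ygi30 zgi15) (kgi xgi5 ygi29 zgi28) (kgi xgi2 ygi11 zgi30) (kgi xgi4 ygi51 zgi1) (kgi xgi1 ygi17 zgi25) (kgi xgi4 ygi28 zgi59) (kgi xgi4 ygi28 zgi57) (kgi xgi5 ygi30 zgi32) (kgi xgi5 ygi30 zgi36) (kgi xgi5 ygi30 zgi39) (kgi xgi1 ygi17 zgi27) (kgi xgi2 ygi52 zgi51) (kgi xgi3 ygi21 zgi53) (kgi xgi2 ygi45 zgi47) (kgi xgi1 ygi19 zgi14) (kgi xgi5 ygi6 zgi24) (kgi xgi4 ygi28 zgi3) (kgi xgi4 ygi31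 zgi36) (kgi xgi1 ygi17 zgi30) (kgi xgi4 ygi17 zgi4) (kgi xgi5 ygi30 zgi57) (kgi xgi4 ygi17 zgi2) (kgi xgi4 ygi11 zgi55) (kgi xgi4 ygi13 zgi52) (kgi xgi2 ygi1 zgi31) (kgi xgi5 ygi31 zgi2) (kgi xgi1 ygi17 zgi34) (kgi xgi5 ygi31 zgi7) (kgi xgi5 ygi31 zgi12) (kgi xgi5 ygi31 zgi15) (kgi xgi1 ygi17 zgi35) (kgi xgi1 ygi17 zgi36) (kgi xgi5 ygi31 zgi3) (kgi xgi5 ygi17 zgi47) (kgi xgi5 ygi31 zgi1) (kgi xgi5 ygi31 zgi28) (kgi xgi4 ygi30 zgi50) (kgi xgi1 ygi17 zgi38) (kgi xgi4 ygi29 zgi58)) (@D3.rec (fun _ => Pt) (kgi xgi4 ygi29 zgi56) (kgi xgi5 ygi31 zgi41) (kgi xgi5 ygi31 zgi45) (kgi xgi1 ygi17 zgi39) (kgi xgi1 ygi17 zgi49) (kgi xgi5 ygi31 zgi53) (kgi xgi1 ygi17 zgi40) (kgi xgi4 ygi29 zgi42) (kgi xgi5 ygi31 zgi59) (kgi xgi4 ygi29 zgi39) (kgi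 xgi4 ygi3 zgi54) (kgi xgi1 ygi17 zgi56) (kgi xgi5 ygi16 zgi25) (kgi xgi4 ygi30 zgi11) (kgi xgi5 ygi16 zgi32) (kgi xgi4 ygi30 zgi48) (kgi xgi5 ygi3 zgi12) (kgi xgi4 ygi29 zgi24) (kgi xgi5 ygi32 zgi12) (kgi xgi1 ygi17 zgi46) (kgi xgi4 ygi2 zgi48) (kgi xgi5 ygi32 zgi18) (kgi xgi5 ygi32 zgi23) (kgi xgi5 ygi32 zgi26) (kgi xgi1 ygi17 zgi47) (kgi xgi5 ygi32 zgi13) (kgi xgi5 ygi32 zgi11) (kgi xgi1 ygi17 zgi48) (kgi xgi4 ygi29 zgi35) (kgi xgi4 ygi29 zgi33) (kgi xgi5 ygi32 zgi42) (kgi xgi5 ygi32 zgi46) (kgi xgi2 ygi50 zgi34) (kgi xgi1 ygi17 zgi50) (kgi xgi3 ygi13 zgi13) (kgi xgi3 ygi21 zgi54) (kgi xgi1 ygi17 zgi59) (kgi xgi4 ygi17 zgi56) (kgi xgi4 ygi28 zgi21) (kgi xgi2 ygi54 zgi56) (kgi xgi1 ygi17 zgi54) (kgi xgi4 ygi30 zgi14) (kgi xgi4 ygi30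 zgi12) (kgi xgi5 ygi33 zgi3) (kgi xgi5 ygi33 zgi7) (kgi xgi5 ygi33 zgi11) (kgi xgi1 ygi17 zgi55) (kgi xgi1 ygi17 zgi58) (kgi xgi5 ygi33 zgi19) (kgi xgi5 ygi33 zgi22) (kgi xgi2 ygi48 zgi26) (kgi xgi1 ygi17 zgi57) (kgi xgi4 ygi30 zgi6) (kgi xgi4 ygi30 zgi4) (kgi xgi5 ygi33 zgi36) (kgi xgi5 ygi33 zgi39) (kgi xgi5 ygi33 zgi43) (kgi xgi4 ygi38 zgi42) (kgi xgi4 ygi30 zgi0) (kgi xgi1 ygi17 zgi60) (kgi xgi1 ygi18 zgi0) (kgi xgi5 ygi33 zgi50)) (@D3.rec (fun _ => Pt) (kgi xgi5 ygi33 zgi57) (kgi xgi5 ygi33 zgi16) (kgi xgi5 ygi32 zgi3) (kgi xgi1 ygi18 zgi2) (kgi xgi5 ygi32 zgi55) (kgi xgi5 ygi33 zgi56) (kgi xgi5 ygi34 zgi0) (kgi xgi5 ygi34 zgi18) (kgi xgi4 ygi33 zgi36) (kgi xgi1 ygi18 zgi1) (kgi xgi4 ygi33 zgi38) (kgi xgi5 ygi34 zgi28) (kgi xgi5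 ygi34 zgi32) (kgi xgi5 ygi34 zgi35) (kgi xgi5 ygi32 zgi60) (kgi xgi5 ygi33 zgi30) (kgi xgi5 ygi34 zgi43) (kgi xgi1 ygi18 zgi5) (kgi xgi4 ygi30 zgi41) (kgi xgi4 ygi30 zgi39) (kgi xgi1 ygi18 zgi6) (kgi xgi2 ygi59 zgi35) (kgi xgi5 ygi34 zgi58) (kgi xgi4 ygi29 zgi3) (kgi xgi2 ygi25 zgi61) (kgi xgi2 ygi40 zgi53) (kgi xgi5 ygi26 zgi53) (kgi xgi4 ygi8 zgi7) (kgi xgi4 ygi7 zgi3) (kgi xgi5 ygi35 zgi3) (kgi xgi4 ygi30 zgi1) (kgi xgi5 ygi24 zgi57) (kgi xgi2 ygi36 zgi60) (kgi xgi5 ygi0 zgi42) (kgi xgi4 ygi56 zgi31) (kgi xgi4 ygi31 zgi23) (kgi xgi5 ygi35 zgi22) (kgi xgi1 ygi18 zgi21) (kgi xgi1 ygi18 zgi18) (kgi xgi4 ygi8 zgi10) (kgi xgi5 ygi22 zgi28) (kgi xgi5 ygi35 zgi29) (kgi xgi4 ygi8 zgi55) (kgi xgi2 ygi38 zgi14) (kgi xgi5 ygi35 zgi36) (kgi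 xgi1 ygi18 zgi16) (kgi xgi4 ygi4 zgi36) (kgi xgi5 ygi35 zgi45) (kgi xgi5 ygi35 zgi50) (kgi xgi5 ygi35 zgi54) (kgi xgi1 ygi18 zgi17) (kgi xgi5 ygi35 zgi23) (kgi xgi5 ygi36 zgi2) (kgi xgi5 ygi35 zgi21) (kgi xgi4 ygi8 zgi11) (kgi xgi2 ygi36 zgi52) (kgi xgi1 ygi25 zgi29) (kgi xgi4 ygi54 zgi47) (kgi xgi5 ygi22 zgi31) (kgi xgi2 ygi23 zgi6) (kgi xgi1 ygi59 zgi19) (kgi xgi4 ygi3 zgi17)) (@D3.rec (fun _ => Pt) (kgi xgi2 ygi37 zgi41) (kgi xgi5 ygi36 zgi16) (kgi xgi5 ygi36 zgi19) (kgi xgi5 ygi36 zgi23) (kgi xgi1 ygi18 zgi24) (kgi xgi4 ygi19 zgi48) (kgi xgi4 ygi19 zgi46) (kgi xgi3 ygi58 zgi7) (kgi xgi5 ygi36 zgi30) (kgi xgi5 ygi36 zgi35) (kgi xgi5 ygi36 zgi38) (kgi xgi5 ygi36 zgi41) (kgi xgi2 ygi59 zgi50) (kgi xgi2 ygi0 zgi48) (kgi xgi1 ygi18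 zgi28) (kgi xgi4 ygi31 zgi33) (kgi xgi4 ygi31 zgi31) (kgi xgi4 ygi37 zgi39) (kgi xgi4 ygi54 zgi31) (kgi xgi2 ygi0 zgi44) (kgi xgi5 ygi36 zgi55) (kgi xgi5 ygi36 zgi27) (kgi xgi1 ygi18 zgi32) (kgi xgi2 ygi53 zgi0) (kgi xgi4 ygi5 zgi32) (kgi xgi2 ygi28 zgi59) (kgi xgi2 ygi29 zgi2) (kgi xgi1 ygi59 zgi49) (kgi xgi5 ygi37 zgi6) (kgi xgi2 ygi9 zgi4) (kgi xgi1 ygi18 zgi37) (kgi xgi1 ygi31 zgi20) (kgi xgi4 ygi31 zgi2) (kgi xgi2 ygi13 zgi30) (kgi xgi5 ygi37 zgi16) (kgi xgi1 ygi18 zgi39) (kgi xgi4 ygi31 zgi1) (kgi xgi3 ygi0 zgi8) (kgi xgi2 ygi47 zgi38) (kgi xgi5 ygi37 zgi24) (kgi xgi1 ygi18 zgi41) (kgi xgi4 ygi31 zgi5) (kgi xgi4 ygi31 zgi3) (kgi xgi2 ygi26 zgi35) (kgi xgi5 ygi37 zgi34) (kgi xgi1 ygi18 zgi43) (kgi xgi4 ygi19 zgi53) (kgi xgi4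 ygi5 zgi52) (kgi xgi5 ygi37 zgi42) (kgi xgi5 ygi37 zgi45) (kgi xgi5 ygi37 zgi48) (kgi xgi5 ygi37 zgi50) (kgi xgi5 ygi37 zgi55) (kgi xgi2 ygi13 zgi1) (kgi xgi2 ygi30 zgi10) (kgi xgi5 ygi37 zgi26) (kgi xgi5 ygi37 zgi54) (kgi xgi2 ygi46 zgi9) (kgi xgi4 ygi31 zgi44) (kgi xgi5 ygi38 zgi7) (kgi xgi1 ygi18 zgi48) (kgi xgi4 ygi31 zgi43)) (@D3.rec (fun _ => Pt) (kgi xgi5 ygi38 zgi15) (kgi xgi5 ygi38 zgi19) (kgi xgi1 ygi18 zgi49) (kgi xgi2 ygi58 zgi12) (kgi xgi4 ygi34 zgi59) (kgi xgi5 ygi38 zgi6) (kgi xgi1 ygi18 zgi50) (kgi xgi4 ygi31 zgi12) (kgi xgi4 ygi31 zgi10) (kgi xgi5 ygi37 zgi29) (kgi xgi4 ygi5 zgi57) (kgi xgi2 ygi16 zgi44) (kgi xgi2 ygi44 zgi24) (kgi xgi1 ygi22 zgi26) (kgi xgi3 ygi59 zgi60) (kgi xgi5 ygi0 zgi34) (kgi xgi3 ygi0 zgi12)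 (kgi xgi2 ygi30 zgi13) (kgi xgi5 ygi7 zgi42) (kgi xgi1 ygi18 zgi60) (kgi xgi5 ygi38 zgi49) (kgi xgi3 ygi58 zgi24) (kgi xgi5 ygi38 zgi52) (kgi xgi2 ygi4 zgi26) (kgi xgi1 ygi58 zgi51) (kgi xgi5 ygi36 zgi44) (kgi xgi3 ygi58 zgi12) (kgi xgi1 ygi58 zgi42) (kgi xgi5 ygi38 zgi60) (kgi xgi1 ygi19 zgi7) (kgi xgi2 ygi4 zgi36) (kgi xgi5 ygi39 zgi5) (kgi xgi5 ygi39 zgi9) (kgi xgi1 ygi19 zgi8) (kgi xgi4 ygi4 zgi44) (kgi xgi5 ygi39 zgi18) (kgi xgi4 ygi4 zgi41) (kgi xgi2 ygi4 zgi27) (kgi xgi4 ygi12 zgi53) (kgi xgi2 ygi8 zgi16) (kgi xgi1 ygi19 zgi13) (kgi xgi4 ygi30 zgi57) (kgi xgi4 ygi30 zgi55) (kgi xgi5 ygi39 zgi33) (kgi xgi4 ygi49 zgi27) (kgi xgi4 ygi29 zgi22) (kgi xgi3 ygi58 zgi23) (kgi xgi2 ygi11 zgi45) (kgi xgi5 ygi3 zgi14) (kgi xgi4 ygi55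 zgi15) (kgi xgi2 ygi41 zgi36) (kgi xgi1 ygi19 zgi17) (kgi xgi4 ygi12 zgi41) (kgi xgi5 ygi30 zgi55) (kgi xgi4 ygi12 zgi39) (kgi xgi3 ygi56 zgi46) (kgi xgi5 ygi37 zgi28) (kgi xgi2 ygi46 zgi26) (kgi xgi4 ygi31 zgi6) (kgi xgi1 ygi19 zgi22) (kgi xgi3 ygi0 zgi58) (kgi xgi5 ygi40 zgi8)) (@D3.rec (fun _ => Pt) (kgi xgi5 ygi40 zgi12) (kgi xgi1 ygi19 zgi23) (kgi xgi2 ygi51 zgi3) (kgi xgi2 ygi13 zgi54) (kgi xgi2 ygi52 zgi28) (kgi xgi4 ygi57 zgi6) (kgi xgi2 ygi47 zgi37) (kgi xgi4 ygi23 zgi24) (kgi xgi2 ygi47 zgi51) (kgi xgi2 ygi44 zgi53) (kgi xgi1 ygi19 zgi28) (kgi xgi4 ygi31 zgi59) (kgi xgi5 ygi40 zgi30) (kgi xgi5 ygi40 zgi34) (kgi xgi4 ygi57 zgi3) (kgi xgi5 ygi40 zgi39) (kgi xgi3 ygi59 zgi3) (kgi xgi5 ygi40 zgi44) (kgi xgi1 ygi19 zgi31) (kgi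 xgi4 ygi31 zgi53) (kgi xgi5 ygi40 zgi51) (kgi xgi4 ygi31 zgi51) (kgi xgi3 ygi58 zgi58) (kgi xgi4 ygi57 zgi16) (kgi xgi1 ygi19 zgi41) (kgi xgi5 ygi40 zgi57) (kgi xgi1 ygi28 zgi28) (kgi xgi1 ygi19 zgi36) (kgi xgi2 ygi23 zgi15) (kgi xgi3 ygi57 zgi25) (kgi xgi3 ygi0 zgi53) (kgi xgi2 ygi47 zgi44) (kgi xgi3 ygi0 zgi56) (kgi xgi2 ygi49 zgi15) (kgi xgi5 ygi41 zgi4) (kgi xgi1 ygi28 zgi56) (kgi xgi1 ygi19 zgi43) (kgi xgi4 ygi32 zgi6) (kgi xgi5 ygi41 zgi13) (kgi xgi4 ygi32 zgi3) (kgi xgi3 ygi59 zgi4) (kgi xgi1 ygi20 zgi15) (kgi xgi2 ygi47 zgi42) (kgi xgi5 ygi41 zgi20) (kgi xgi1 ygi20 zgi23) (kgi xgi1 ygi24 zgi37) (kgi xgi4 ygi32 zgi52) (kgi xgi4 ygi57 zgi17) (kgi xgi4 ygi33 zgi32) (kgi xgi4 ygi32 zgi31) (kgi xgi4 ygi32 zgi35) (kgi xgi1 ygi19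 zgi51) (kgi xgi4 ygi32 zgi28) (kgi xgi5 ygi41 zgi41) (kgi xgi1 ygi55 zgi31) (kgi xgi1 ygi19 zgi52) (kgi xgi4 ygi32 zgi29) (kgi xgi5 ygi41 zgi53) (kgi xgi5 ygi41 zgi57) (kgi xgi1 ygi19 zgi53) (kgi xgi5 ygi41 zgi49) (kgi xgi4 ygi32 zgi24)) (@D3.rec (fun _ => Pt) (kgi xgi4 ygi32 zgi16) (kgi xgi5 ygi42 zgi5) (kgi xgi1 ygi20 zgi14) (kgi xgi5 ygi42 zgi10) (kgi xgi1 ygi19 zgi56) (kgi xgi4 ygi32 zgi20) (kgi xgi5 ygi42 zgi18) (kgi xgi4 ygi32 zgi17) (kgi xgi2 ygi49 zgi14) (kgi xgi5 ygi39 zgi59) (kgi xgi1 ygi26 zgi16) (kgi xgi4 ygi23 zgi23) (kgi xgi1 ygi20 zgi25) (kgi xgi1 ygi20 zgi8) (kgi xgi4 ygi23 zgi21) (kgi xgi4 ygi33 zgi26) (kgi xgi4 ygi22 zgi51) (kgi xgi2 ygi49 zgi9) (kgi xgi4 ygi32 zgi7) (kgi xgi1 ygi20 zgi0) (kgi xgi4 ygi22 zgi53) (kgi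 xgi5 ygi42 zgi43) (kgi xgi5 ygi42 zgi47) (kgi xgi1 ygi20 zgi1) (kgi xgi4 ygi32 zgi12) (kgi xgi5 ygi42 zgi54) (kgi xgi5 ygi42 zgi58) (kgi xgi4 ygi32 zgi61) (kgi xgi5 ygi43 zgi0) (kgi xgi1 ygi20 zgi3) (kgi xgi4 ygi32 zgi46) (kgi xgi5 ygi43 zgi4) (kgi xgi4 ygi32 zgi43) (kgi xgi1 ygi20 zgi26) (kgi xgi2 ygi14 zgi4) (kgi xgi1 ygi20 zgi17) (kgi xgi1 ygi24 zgi12) (kgi xgi2 ygi46 zgi8) (kgi xgi5 ygi42 zgi7) (kgi xgi5 ygi42 zgi21) (kgi xgi1 ygi20 zgi9) (kgi xgi1 ygi20 zgi13) (kgi xgi2 ygi47 zgi50) (kgi xgi5 ygi43 zgi22) (kgi xgi2 ygi47 zgi13) (kgi xgi1 ygi20 zgi10) (kgi xgi5 ygi43 zgi29) (kgi xgi5 ygi42 zgi14) (kgi xgi2 ygi44 zgi38) (kgi xgi2 ygi33 zgi40) (kgi xgi1 ygi20 zgi12) (kgi xgi2 ygi46 zgi6) (kgi xgi5 ygi38 zgi1) (kgi xgi5 ygi43 zgi43)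 (kgi xgi3 ygi0 zgi45) (kgi xgi2 ygi46 zgi41) (kgi xgi5 ygi43 zgi28) (kgi xgi5 ygi43 zgi51) (kgi xgi2 ygi47 zgi55) (kgi xgi5 ygi43 zgi55) (kgi xgi5 ygi41 zgi17) (kgi xgi1 ygi20 zgi16)) (@D3.rec (fun _ => Pt) (kgi xgi1 ygi20 zgi21) (kgi xgi5 ygi44 zgi3) (kgi xgi5 ygi44 zgi8) (kgi xgi5 ygi41 zgi0) (kgi xgi5 ygi44 zgi14) (kgi xgi5 ygi44 zgi19) (kgi xgi5 ygi41 zgi18) (kgi xgi5 ygi44 zgi13) (kgi xgi5 ygi44 zgi26) (kgi xgi1 ygi20 zgi19) (kgi xgi5 ygi43 zgi10) (kgi xgi5 ygi44 zgi38) (kgi xgi5 ygi44 zgi43) (kgi xgi5 ygi44 zgi48) (kgi xgi5 ygi44 zgi2) (kgi xgi1 ygi20 zgi20) (kgi xgi5 ygi44 zgi9) (kgi xgi5 ygi44 zgi7) (kgi xgi5 ygi45 zgi0) (kgi xgi1 ygi23 zgi27) (kgi xgi5 ygi45 zgi5) (kgi xgi4 ygi32 zgi23) (kgi xgi5 ygi45 zgi10) (kgi xgi5 ygi45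 zgi14) (kgi xgi1 ygi20 zgi24) (kgi xgi4 ygi33 zgi31) (kgi xgi2 ygi12 zgi6) (kgi xgi4 ygi33 zgi29) (kgi xgi4 ygi32 zgi9) (kgi xgi5 ygi45 zgi25) (kgi xgi5 ygi45 zgi29) (kgi xgi3 ygi5 zgi46) (kgi xgi3 ygi5 zgi33) (kgi xgi4 ygi32 zgi47) (kgi xgi1 ygi20 zgi27) (kgi xgi4 ygi30 zgi30) (kgi xgi4 ygi30 zgi31) (kgi xgi5 ygi45 zgi40) (kgi xgi1 ygi20 zgi28) (kgi xgi4 ygi33 zgi43) (kgi xgi5 ygi6 zgi56) (kgi xgi4 ygi33 zgi40) (kgi xgi5 ygi41 zgi30) (kgi xgi2 ygi26 zgi45) (kgi xgi4 ygi36 zgi32) (kgi xgi5 ygi45 zgi60) (kgi xgi5 ygi46 zgi1) (kgi xgi5 ygi45 zgi54) (kgi xgi5 ygi45 zgi58) (kgi xgi5 ygi45 zgi19) (kgi xgi4 ygi33 zgi53) (kgi xgi1 ygi20 zgi32) (kgi xgi4 ygi33 zgi52) (kgi xgi5 ygi46 zgi19) (kgi xgi4 ygi39 zgi26) (kgi xgi1 ygi20 zgi34) (kgi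 xgi2 ygi16 zgi49) (kgi xgi2 ygi16 zgi47) (kgi xgi2 ygi10 zgi19) (kgi xgi5 ygi46 zgi29) (kgi xgi5 ygi46 zgi33) (kgi xgi1 ygi20 zgi36)) (@D3.rec (fun _ => Pt) (kgi xgi3 ygi4 zgi6) (kgi xgi5 ygi46 zgi41) (kgi xgi3 ygi3 zgi53) (kgi xgi1 ygi27 zgi59) (kgi xgi4 ygi2 zgi26) (kgi xgi4 ygi24 zgi14) (kgi xgi2 ygi49 zgi59) (kgi xgi2 ygi26 zgi20) (kgi xgi1 ygi20 zgi43) (kgi xgi2 ygi13 zgi10) (kgi xgi1 ygi56 zgi9) (kgi xgi4 ygi31 zgi55) (kgi xgi4 ygi42 zgi56) (kgi xgi4 ygi31 zgi54) (kgi xgi1 ygi20 zgi46) (kgi xgi2 ygi46 zgi25) (kgi xgi2 ygi47 zgi10) (kgi xgi4 ygi34 zgi24) (kgi xgi1 ygi21 zgi40) (kgi xgi1 ygi21 zgi38) (kgi xgi3 ygi10 zgi24) (kgi xgi3 ygi5 zgi43) (kgi xgi2 ygi27 zgi12) (kgi xgi5 ygi37 zgi27) (kgi xgi2 ygi55 zgi51) (kgi xgi5 ygi47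 zgi6) (kgi xgi1 ygi20 zgi52) (kgi xgi5 ygi39 zgi57) (kgi xgi5 ygi47 zgi11) (kgi xgi3 ygi21 zgi57) (kgi xgi2 ygi17 zgi35) (kgi xgi4 ygi32 zgi21) (kgi xgi4 ygi23 zgi56) (kgi xgi1 ygi21 zgi20) (kgi xgi1 ygi20 zgi61) (kgi xgi4 ygi42 zgi51) (kgi xgi3 ygi4 zgi7) (kgi xgi2 ygi18 zgi47) (kgi xgi1 ygi56 zgi24) (kgi xgi1 ygi20 zgi58) (kgi xgi3 ygi4 zgi1) (kgi xgi4 ygi36 zgi44) (kgi xgi1 ygi20 zgi59) (kgi xgi2 ygi52 zgi5) (kgi xgi4 ygi36 zgi47) (kgi xgi5 ygi47 zgi35) (kgi xgi1 ygi20 zgi60) (kgi xgi2 ygi52 zgi4) (kgi xgi2 ygi52 zgi2) (kgi xgi3 ygi9 zgi51) (kgi xgi3 ygi4 zgi43) (kgi xgi5 ygi47 zgi45) (kgi xgi1 ygi21 zgi0) (kgi xgi1 ygi21 zgi3) (kgi xgi2 ygi18 zgi61) (kgi xgi1 ygi23 zgi50) (kgi xgi3 ygi2 zgi60) (kgi xgi1 ygi21 zgi2) (kgi xgi4 ygi34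 zgi23) (kgi xgi2 ygi49 zgi5) (kgi xgi2 ygi27 zgi2) (kgi xgi5 ygi47 zgi58)) (@D3.rec (fun _ => Pt) (kgi xgi2 ygi55 zgi17) (kgi xgi5 ygi6 zgi30) (kgi xgi3 ygi50 zgi32) (kgi xgi5 ygi48 zgi2) (kgi xgi2 ygi31 zgi16) (kgi xgi4 ygi34 zgi31) (kgi xgi5 ygi48 zgi9) (kgi xgi1 ygi21 zgi7) (kgi xgi5 ygi7 zgi43) (kgi xgi5 ygi47 zgi42) (kgi xgi1 ygi37 zgi9) (kgi xgi4 ygi38 zgi4) (kgi xgi2 ygi56 zgi21) (kgi xgi5 ygi0 zgi18) (kgi xgi1 ygi21 zgi10) (kgi xgi4 ygi34 zgi25) (kgi xgi1 ygi52 zgi9) (kgi xgi5 ygi48 zgi23) (kgi xgi1 ygi21 zgi11) (kgi xgi5 ygi48 zgi11) (kgi xgi5 ygi48 zgi35) (kgi xgi5 ygi48 zgi8) (kgi xgi5 ygi47 zgi43) (kgi xgi5 ygi47 zgi47) (kgi xgi5 ygi48 zgi42) (kgi xgi1 ygi21 zgi13) (kgi xgi5 ygi48 zgi48) (kgi xgi4 ygi59 zgi12) (kgi xgi5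 ygi48 zgi52) (kgi xgi5 ygi48 zgi53) (kgi xgi5 ygi48 zgi51) (kgi xgi1 ygi36 zgi60) (kgi xgi1 ygi21 zgi16) (kgi xgi4 ygi34 zgi7) (kgi xgi4 ygi34 zgi6) (kgi xgi1 ygi21 zgi18) (kgi xgi2 ygi58 zgi17) (kgi xgi5 ygi49 zgi5) (kgi xgi1 ygi21 zgi21) (kgi xgi3 ygi5 zgi39) (kgi xgi3 ygi5 zgi38) (kgi xgi3 ygi4 zgi13) (kgi xgi5 ygi49 zgi14) (kgi xgi5 ygi49 zgi18) (kgi xgi2 ygi25 zgi58) (kgi xgi2 ygi16 zgi43) (kgi xgi5 ygi46 zgi61) (kgi xgi2 ygi17 zgi53) (kgi xgi5 ygi49 zgi25) (kgi xgi5 ygi49 zgi9) (kgi xgi3 ygi5 zgi34) (kgi xgi5 ygi49 zgi32) (kgi xgi1 ygi21 zgi25) (kgi xgi4 ygi34 zgi5) (kgi xgi4 ygi34 zgi11) (kgi xgi5 ygi49 zgi37) (kgi xgi5 ygi46 zgi23) (kgi xgi1 ygi43 zgi31) (kgi xgi4 ygi26 zgi58) (kgi xgi2 ygi47 zgi28) (kgi xgi1 ygi21 zgi33)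 (kgi xgi3 ygi0 zgi33)) (@D3.rec (fun _ => Pt) (kgi xgi3 ygi0 zgi31) (kgi xgi2 ygi47 zgi59) (kgi xgi5 ygi49 zgi52) (kgi xgi2 ygi46 zgi1) (kgi xgi5 ygi49 zgi56) (kgi xgi2 ygi16 zgi36) (kgi xgi1 ygi21 zgi36) (kgi xgi2 ygi58 zgi18) (kgi xgi5 ygi49 zgi60) (kgi xgi5 ygi50 zgi0) (kgi xgi5 ygi47 zgi39) (kgi xgi2 ygi58 zgi16) (kgi xgi2 ygi27 zgi22) (kgi xgi4 ygi37 zgi23) (kgi xgi5 ygi50 zgi8) (kgi xgi4 ygi59 zgi30) (kgi xgi2 ygi19 zgi2) (kgi xgi3 ygi59 zgi56) (kgi xgi3 ygi59 zgi41) (kgi xgi1 ygi21 zgi44) (kgi xgi4 ygi33 zgi56) (kgi xgi5 ygi50 zgi17) (kgi xgi1 ygi21 zgi45) (kgi xgi4 ygi34 zgi39) (kgi xgi4 ygi34 zgi36) (kgi xgi3 ygi59 zgi46) (kgi xgi5 ygi50 zgi33) (kgi xgi3 ygi21 zgi38) (kgi xgi4 ygi59 zgi38) (kgi xgi5 ygi50 zgi32) (kgi xgi3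 ygi59 zgi55) (kgi xgi1 ygi23 zgi37) (kgi xgi1 ygi21 zgi50) (kgi xgi1 ygi21 zgi52) (kgi xgi1 ygi48 zgi46) (kgi xgi5 ygi50 zgi46) (kgi xgi1 ygi31 zgi13) (kgi xgi5 ygi50 zgi50) (kgi xgi2 ygi52 zgi18) (kgi xgi5 ygi45 zgi61) (kgi xgi3 ygi3 zgi25) (kgi xgi4 ygi26 zgi0) (kgi xgi2 ygi15 zgi34) (kgi xgi2 ygi22 zgi18) (kgi xgi2 ygi55 zgi45) (kgi xgi5 ygi0 zgi25) (kgi xgi2 ygi15 zgi44) (kgi xgi2 ygi56 zgi20) (kgi xgi4 ygi34 zgi52) (kgi xgi5 ygi51 zgi5) (kgi xgi4 ygi58 zgi29) (kgi xgi5 ygi51 zgi9) (kgi xgi5 ygi51 zgi12) (kgi xgi4 ygi25 zgi61) (kgi xgi2 ygi55 zgi46) (kgi xgi5 ygi51 zgi18) (kgi xgi1 ygi21 zgi61) (kgi xgi4 ygi34 zgi49) (kgi xgi3 ygi24 zgi34) (kgi xgi1 ygi22 zgi0) (kgi xgi5 ygi51 zgi6) (kgi xgi5 ygi51 zgi4)) (@D3.rec (fun _ => Pt)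 (kgi xgi2 ygi55 zgi9) (kgi xgi5 ygi51 zgi37) (kgi xgi1 ygi22 zgi2) (kgi xgi2 ygi49 zgi48) (kgi xgi2 ygi49 zgi46) (kgi xgi2 ygi49 zgi42) (kgi xgi5 ygi8 zgi23) (kgi xgi5 ygi51 zgi46) (kgi xgi3 ygi21 zgi32) (kgi xgi1 ygi27 zgi20) (kgi xgi4 ygi58 zgi19) (kgi xgi5 ygi51 zgi54) (kgi xgi5 ygi51 zgi56) (kgi xgi5 ygi51 zgi58) (kgi xgi5 ygi51 zgi53) (kgi xgi4 ygi7 zgi23) (kgi xgi2 ygi16 zgi42) (kgi xgi1 ygi57 zgi41) (kgi xgi2 ygi51 zgi34) (kgi xgi5 ygi52 zgi4) (kgi xgi4 ygi58 zgi53) (kgi xgi5 ygi43 zgi8) (kgi xgi4 ygi41 zgi13) (kgi xgi3 ygi59 zgi17) (kgi xgi5 ygi45 zgi33) (kgi xgi5 ygi52 zgi13) (kgi xgi1 ygi22 zgi18) (kgi xgi3 ygi43 zgi25) (kgi xgi2 ygi12 zgi53) (kgi xgi5 ygi52 zgi20) (kgi xgi1 ygi22 zgi19) (kgi xgi5 ygi52 zgi5) (kgi xgi5 ygi52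 zgi32) (kgi xgi5 ygi52 zgi3) (kgi xgi1 ygi22 zgi20) (kgi xgi1 ygi24 zgi44) (kgi xgi5 ygi52 zgi41) (kgi xgi3 ygi59 zgi35) (kgi xgi5 ygi52 zgi46) (kgi xgi4 ygi59 zgi5) (kgi xgi4 ygi41 zgi6) (kgi xgi1 ygi22 zgi23) (kgi xgi4 ygi35 zgi3) (kgi xgi4 ygi35 zgi2) (kgi xgi1 ygi22 zgi25) (kgi xgi3 ygi3 zgi24) (kgi xgi3 ygi57 zgi56) (kgi xgi5 ygi52 zgi60) (kgi xgi5 ygi53 zgi1) (kgi xgi5 ygi26 zgi35) (kgi xgi3 ygi59 zgi37) (kgi xgi2 ygi41 zgi33) (kgi xgi4 ygi59 zgi9) (kgi xgi5 ygi35 zgi10) (kgi xgi1 ygi22 zgi32) (kgi xgi1 ygi23 zgi47) (kgi xgi5 ygi53 zgi11) (kgi xgi1 ygi22 zgi33) (kgi xgi1 ygi22 zgi36) (kgi xgi4 ygi26 zgi5) (kgi xgi5 ygi53 zgi16) (kgi xgi4 ygi39 zgi20)) (@D3.rec (fun _ => Pt) (kgi xgi2 ygi44 zgi22) (kgi xgi5 ygi53 zgi24) (kgi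 xgi4 ygi48 zgi50) (kgi xgi1 ygi23 zgi51) (kgi xgi1 ygi22 zgi42) (kgi xgi5 ygi53 zgi30) (kgi xgi3 ygi59 zgi33) (kgi xgi5 ygi53 zgi34) (kgi xgi1 ygi36 zgi45) (kgi xgi1 ygi22 zgi40) (kgi xgi4 ygi39 zgi23) (kgi xgi3 ygi3 zgi23) (kgi xgi1 ygi36 zgi32) (kgi xgi5 ygi53 zgi29) (kgi xgi4 ygi59 zgi31) (kgi xgi4 ygi39 zgi9) (kgi xgi2 ygi10 zgi2) (kgi xgi3 ygi4 zgi8) (kgi xgi5 ygi53 zgi53) (kgi xgi4 ygi36 zgi14) (kgi xgi1 ygi22 zgi46) (kgi xgi1 ygi22 zgi57) (kgi xgi5 ygi54 zgi0) (kgi xgi1 ygi22 zgi54) (kgi xgi2 ygi26 zgi60) (kgi xgi1 ygi28 zgi9) (kgi xgi4 ygi39 zgi16) (kgi xgi4 ygi52 zgi53) (kgi xgi4 ygi42 zgi36) (kgi xgi1 ygi22 zgi49) (kgi xgi4 ygi35 zgi60) (kgi xgi4 ygi45 zgi41) (kgi xgi5 ygi54 zgi17) (kgi xgi1 ygi22 zgi50) (kgi xgi5 ygi53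 zgi55) (kgi xgi4 ygi4 zgi55) (kgi xgi5 ygi14 zgi24) (kgi xgi5 ygi54 zgi27) (kgi xgi4 ygi40 zgi6) (kgi xgi4 ygi36 zgi49) (kgi xgi4 ygi58 zgi57) (kgi xgi5 ygi54 zgi37) (kgi xgi1 ygi22 zgi53) (kgi xgi4 ygi36 zgi0) (kgi xgi5 ygi54 zgi47) (kgi xgi2 ygi55 zgi18) (kgi xgi5 ygi53 zgi28) (kgi xgi5 ygi6 zgi53) (kgi xgi4 ygi32 zgi42) (kgi xgi4 ygi5 zgi40) (kgi xgi5 ygi54 zgi50) (kgi xgi5 ygi54 zgi53) (kgi xgi1 ygi22 zgi56) (kgi xgi5 ygi54 zgi2) (kgi xgi4 ygi5 zgi61) (kgi xgi5 ygi53 zgi61) (kgi xgi4 ygi36 zgi40) (kgi xgi2 ygi18 zgi8) (kgi xgi5 ygi45 zgi59) (kgi xgi5 ygi55 zgi16) (kgi xgi2 ygi57 zgi49) (kgi xgi4 ygi40 zgi5)) (@D3.rec (fun _ => Pt) (kgi xgi1 ygi22 zgi60) (kgi xgi4 ygi35 zgi45) (kgi xgi4 ygi43 zgi11) (kgi xgi5 ygi55 zgi25) (kgi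 xgi5 ygi55 zgi28) (kgi xgi1 ygi23 zgi1) (kgi xgi4 ygi26 zgi13) (kgi xgi5 ygi55 zgi35) (kgi xgi1 ygi24 zgi33) (kgi xgi1 ygi23 zgi61) (kgi xgi5 ygi55 zgi31) (kgi xgi4 ygi25 zgi58) (kgi xgi5 ygi55 zgi34) (kgi xgi4 ygi49 zgi22) (kgi xgi5 ygi53 zgi19) (kgi xgi3 ygi9 zgi52) (kgi xgi5 ygi55 zgi49) (kgi xgi4 ygi35 zgi26) (kgi xgi5 ygi55 zgi55) (kgi xgi5 ygi55 zgi59) (kgi xgi4 ygi36 zgi57) (kgi xgi1 ygi56 zgi26) (kgi xgi1 ygi31 zgi7) (kgi xgi3 ygi3 zgi26) (kgi xgi4 ygi23 zgi58) (kgi xgi4 ygi37 zgi5) (kgi xgi1 ygi23 zgi12) (kgi xgi4 ygi24 zgi35) (kgi xgi5 ygi56 zgi13) (kgi xgi5 ygi56 zgi18) (kgi xgi1 ygi23 zgi13) (kgi xgi4 ygi38 zgi23) (kgi xgi5 ygi56 zgi26) (kgi xgi4 ygi36 zgi52) (kgi xgi5 ygi56 zgi30) (kgi xgi4 ygi40 zgi57) (kgi xgi1 ygi23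 zgi32) (kgi xgi5 ygi56 zgi29) (kgi xgi5 ygi56 zgi38) (kgi xgi1 ygi23 zgi16) (kgi xgi4 ygi35 zgi21) (kgi xgi1 ygi34 zgi31) (kgi xgi5 ygi56 zgi47) (kgi xgi1 ygi23 zgi17) (kgi xgi5 ygi55 zgi57) (kgi xgi5 ygi56 zgi58) (kgi xgi5 ygi55 zgi54) (kgi xgi4 ygi26 zgi26) (kgi xgi4 ygi38 zgi25) (kgi xgi1 ygi23 zgi19) (kgi xgi4 ygi38 zgi24) (kgi xgi5 ygi57 zgi10) (kgi xgi5 ygi55 zgi58) (kgi xgi1 ygi23 zgi55) (kgi xgi5 ygi57 zgi18) (kgi xgi4 ygi37 zgi35) (kgi xgi2 ygi42 zgi36) (kgi xgi4 ygi33 zgi50) (kgi xgi1 ygi23 zgi23) (kgi xgi4 ygi36 zgi34) (kgi xgi4 ygi36 zgi33) (kgi xgi1 ygi23 zgi57)) (@D3.rec (fun _ => Pt) (kgi xgi5 ygi57 zgi29) (kgi xgi5 ygi45 zgi4) (kgi xgi3 ygi4 zgi52) (kgi xgi2 ygi31 zgi9) (kgi xgi5 ygi50 zgi4) (kgi xgi3 ygi23 zgi23)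 (kgi xgi5 ygi6 zgi32) (kgi xgi3 ygi0 zgi35) (kgi xgi2 ygi55 zgi22) (kgi xgi5 ygi47 zgi0) (kgi xgi5 ygi57 zgi42) (kgi xgi1 ygi23 zgi33) (kgi xgi1 ygi25 zgi53) (kgi xgi2 ygi30 zgi36) (kgi xgi2 ygi56 zgi8) (kgi xgi2 ygi27 zgi8) (kgi xgi2 ygi22 zgi15) (kgi xgi2 ygi49 zgi55) (kgi xgi5 ygi7 zgi39) (kgi xgi1 ygi23 zgi52) (kgi xgi2 ygi49 zgi24) (kgi xgi5 ygi57 zgi60) (kgi xgi2 ygi54 zgi36) (kgi xgi2 ygi55 zgi13) (kgi xgi3 ygi0 zgi13) (kgi xgi2 ygi55 zgi11) (kgi xgi3 ygi30 zgi7) (kgi xgi5 ygi58 zgi8) (kgi xgi1 ygi23 zgi41) (kgi xgi1 ygi23 zgi54) (kgi xgi5 ygi58 zgi17) (kgi xgi5 ygi58 zgi23) (kgi xgi1 ygi39 zgi57) (kgi xgi5 ygi57 zgi33) (kgi xgi1 ygi23 zgi42) (kgi xgi1 ygi37 zgi50) (kgi xgi3 ygi23 zgi14) (kgi xgi4 ygi36 zgi31) (kgi xgi4 ygi49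 zgi57) (kgi xgi1 ygi23 zgi45) (kgi xgi5 ygi58 zgi32) (kgi xgi2 ygi33 zgi7) (kgi xgi4 ygi30 zgi58) (kgi xgi1 ygi24 zgi2) (kgi xgi4 ygi34 zgi21) (kgi xgi5 ygi41 zgi19) (kgi xgi2 ygi51 zgi51) (kgi xgi5 ygi58 zgi43) (kgi xgi5 ygi45 zgi2) (kgi xgi5 ygi58 zgi48) (kgi xgi2 ygi51 zgi44) (kgi xgi4 ygi58 zgi35) (kgi xgi5 ygi58 zgi54) (kgi xgi5 ygi49 zgi53) (kgi xgi4 ygi44 zgi43) (kgi xgi5 ygi58 zgi22) (kgi xgi5 ygi59 zgi2) (kgi xgi5 ygi57 zgi14) (kgi xgi5 ygi59 zgi8) (kgi xgi5 ygi57 zgi15) (kgi xgi5 ygi53 zgi10) (kgi xgi5 ygi53 zgi8)) (@D3.rec (fun _ => Pt) (kgi xgi5 ygi59 zgi16) (kgi xgi5 ygi57 zgi26) (kgi xgi4 ygi45 zgi16) (kgi xgi4 ygi46 zgi42) (kgi xgi1 ygi40 zgi17) (kgi xgi1 ygi23 zgi60) (kgi xgi1 ygi24 zgi11) (kgi xgi1 ygi24 zgi9) (kgi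 xgi2 ygi55 zgi16) (kgi xgi2 ygi27 zgi31) (kgi xgi5 ygi59 zgi40) (kgi xgi1 ygi24 zgi0) (kgi xgi1 ygi24 zgi3) (kgi xgi5 ygi59 zgi47) (kgi xgi5 ygi59 zgi52) (kgi xgi5 ygi59 zgi54) (kgi xgi1 ygi24 zgi1) (kgi xgi4 ygi48 zgi58) (kgi xgi5 ygi33 zgi41) (kgi xgi4 ygi38 zgi38) (kgi xgi2 ygi51 zgi43) (kgi xgi1 ygi52 zgi30) (kgi xgi6 ygi0 zgi6) (kgi xgi4 ygi45 zgi36) (kgi xgi5 ygi59 zgi51) (kgi xgi6 ygi0 zgi14) (kgi xgi1 ygi24 zgi4) (kgi xgi4 ygi48 zgi49) (kgi xgi6 ygi0 zgi24) (kgi xgi4 ygi48 zgi48) (kgi xgi6 ygi0 zgi28) (kgi xgi4 ygi33 zgi59) (kgi xgi3 ygi0 zgi38) (kgi xgi5 ygi59 zgi58) (kgi xgi6 ygi0 zgi38) (kgi xgi4 ygi58 zgi28) (kgi xgi6 ygi0 zgi33) (kgi xgi6 ygi0 zgi20) (kgi xgi1 ygi24 zgi7) (kgi xgi4 ygi46 zgi40) (kgi xgi4 ygi59 zgi45)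 (kgi xgi6 ygi0 zgi50) (kgi xgi1 ygi24 zgi8) (kgi xgi5 ygi59 zgi26) (kgi xgi6 ygi0 zgi59) (kgi xgi5 ygi59 zgi24) (kgi xgi5 ygi57 zgi36) (kgi xgi5 ygi59 zgi45) (kgi xgi6 ygi1 zgi10) (kgi xgi6 ygi1 zgi13) (kgi xgi6 ygi1 zgi16) (kgi xgi6 ygi1 zgi5) (kgi xgi6 ygi1 zgi9) (kgi xgi3 ygi44 zgi50) (kgi xgi6 ygi1 zgi26) (kgi xgi5 ygi57 zgi6) (kgi xgi1 ygi24 zgi14) (kgi xgi5 ygi43 zgi12) (kgi xgi6 ygi1 zgi37) (kgi xgi4 ygi38 zgi45) (kgi xgi6 ygi1 zgi43) (kgi xgi1 ygi24 zgi16)) (@D3.rec (fun _ => Pt) (kgi xgi4 ygi38 zgi43) (kgi xgi6 ygi0 zgi40) (kgi xgi1 ygi24 zgi17) (kgi xgi6 ygi1 zgi45) (kgi xgi5 ygi34 zgi17) (kgi xgi6 ygi1 zgi42) (kgi xgi1 ygi36 zgi36) (kgi xgi6 ygi2 zgi3) (kgi xgi6 ygi2 zgi2) (kgi xgi1 ygi36 zgi44) (kgi xgi1 ygi24 zgi20) (kgi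 xgi4 ygi38 zgi41) (kgi xgi4 ygi38 zgi30) (kgi xgi6 ygi2 zgi15) (kgi xgi1 ygi24 zgi23) (kgi xgi4 ygi38 zgi28) (kgi xgi1 ygi35 zgi1) (kgi xgi6 ygi2 zgi24) (kgi xgi1 ygi24 zgi24) (kgi xgi6 ygi2 zgi16) (kgi xgi6 ygi2 zgi14) (kgi xgi6 ygi2 zgi34) (kgi xgi4 ygi49 zgi28) (kgi xgi4 ygi37 zgi60) (kgi xgi6 ygi2 zgi33) (kgi xgi1 ygi24 zgi32) (kgi xgi1 ygi24 zgi27) (kgi xgi4 ygi38 zgi60) (kgi xgi6 ygi2 zgi45) (kgi xgi4 ygi38 zgi57) (kgi xgi1 ygi24 zgi29) (kgi xgi4 ygi35 zgi50) (kgi xgi6 ygi2 zgi54) (kgi xgi6 ygi2 zgi58) (kgi xgi6 ygi2 zgi60) (kgi xgi1 ygi24 zgi31) (kgi xgi1 ygi24 zgi35) (kgi xgi6 ygi3 zgi5) (kgi xgi4 ygi41 zgi37) (kgi xgi4 ygi39 zgi7) (kgi xgi3 ygi0 zgi27) (kgi xgi4 ygi39 zgi0) (kgi xgi4 ygi38 zgi61) (kgi xgi6 ygi3 zgi11) (kgi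 xgi6 ygi3 zgi14) (kgi xgi6 ygi3 zgi18) (kgi xgi3 ygi13 zgi16) (kgi xgi6 ygi3 zgi4) (kgi xgi2 ygi44 zgi34) (kgi xgi2 ygi53 zgi57) (kgi xgi2 ygi52 zgi46) (kgi xgi6 ygi3 zgi26) (kgi xgi1 ygi24 zgi38) (kgi xgi1 ygi24 zgi39) (kgi xgi6 ygi3 zgi30) (kgi xgi6 ygi3 zgi34) (kgi xgi5 ygi49 zgi20) (kgi xgi6 ygi3 zgi39) (kgi xgi4 ygi35 zgi59) (kgi xgi2 ygi27 zgi58) (kgi xgi6 ygi3 zgi46) (kgi xgi4 ygi37 zgi36)) (@D3.rec (fun _ => Pt) (kgi xgi5 ygi0 zgi28) (kgi xgi6 ygi3 zgi53) (kgi xgi1 ygi24 zgi42) (kgi xgi2 ygi58 zgi5) (kgi xgi6 ygi3 zgi60) (kgi xgi2 ygi58 zgi2) (kgi xgi4 ygi34 zgi60) (kgi xgi5 ygi52 zgi40) (kgi xgi6 ygi4 zgi7) (kgi xgi2 ygi33 zgi18) (kgi xgi2 ygi27 zgi60) (kgi xgi1 ygi24 zgi46) (kgi xgi2 ygi45 zgi2) (kgi xgi1 ygi27 zgi40) (kgi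 xgi2 ygi26 zgi50) (kgi xgi2 ygi49 zgi58) (kgi xgi1 ygi31 zgi25) (kgi xgi1 ygi28 zgi55) (kgi xgi1 ygi31 zgi30) (kgi xgi2 ygi51 zgi11) (kgi xgi2 ygi8 zgi26) (kgi xgi6 ygi4 zgi17) (kgi xgi4 ygi52 zgi60) (kgi xgi5 ygi19 zgi55) (kgi xgi2 ygi30 zgi24) (kgi xgi1 ygi24 zgi56) (kgi xgi6 ygi4 zgi29) (kgi xgi1 ygi25 zgi4) (kgi xgi5 ygi4 zgi55) (kgi xgi5 ygi22 zgi43) (kgi xgi4 ygi15 zgi56) (kgi xgi6 ygi4 zgi39) (kgi xgi6 ygi4 zgi43) (kgi xgi5 ygi1 zgi23) (kgi xgi2 ygi1 zgi37) (kgi xgi5 ygi12 zgi40) (kgi xgi3 ygi56 zgi57) (kgi xgi6 ygi4 zgi38) (kgi xgi6 ygi4 zgi54) (kgi xgi2 ygi7 zgi56) (kgi xgi6 ygi4 zgi59) (kgi xgi6 ygi5 zgi0) (kgi xgi1 ygi58 zgi37) (kgi xgi6 ygi4 zgi58) (kgi xgi6 ygi5 zgi7) (kgi xgi1 ygi25 zgi6) (kgi xgi6 ygi4 zgi32) (kgi xgi6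 ygi5 zgi16) (kgi xgi6 ygi5 zgi21) (kgi xgi6 ygi4 zgi28) (kgi xgi6 ygi5 zgi27) (kgi xgi6 ygi5 zgi29) (kgi xgi6 ygi5 zgi34) (kgi xgi1 ygi25 zgi15) (kgi xgi6 ygi5 zgi38) (kgi xgi2 ygi0 zgi52) (kgi xgi1 ygi25 zgi11) (kgi xgi2 ygi39 zgi29) (kgi xgi2 ygi39 zgi27) (kgi xgi5 ygi17 zgi21) (kgi xgi4 ygi13 zgi50) (kgi xgi1 ygi25 zgi13)) (@D3.rec (fun _ => Pt) (kgi xgi6 ygi5 zgi47) (kgi xgi2 ygi40 zgi15) (kgi xgi6 ygi5 zgi54) (kgi xgi2 ygi1 zgi2) (kgi xgi2 ygi40 zgi46) (kgi xgi1 ygi25 zgi16) (kgi xgi2 ygi39 zgi36) (kgi xgi2 ygi35 zgi29) (kgi xgi6 ygi6 zgi2) (kgi xgi6 ygi6 zgi5) (kgi xgi3 ygi21 zgi25) (kgi xgi6 ygi6 zgi11) (kgi xgi1 ygi25 zgi19) (kgi xgi2 ygi39 zgi45) (kgi xgi2 ygi39 zgi43) (kgi xgi6 ygi6 zgi17) (kgi xgi6 ygi6 zgi22) (kgi xgi6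 ygi6 zgi25) (kgi xgi2 ygi22 zgi46) (kgi xgi1 ygi25 zgi22) (kgi xgi2 ygi39 zgi52) (kgi xgi2 ygi39 zgi50) (kgi xgi6 ygi6 zgi31) (kgi xgi5 ygi6 zgi28) (kgi xgi5 ygi53 zgi23) (kgi xgi4 ygi49 zgi33) (kgi xgi5 ygi6 zgi40) (kgi xgi1 ygi25 zgi25) (kgi xgi6 ygi6 zgi40) (kgi xgi1 ygi36 zgi40) (kgi xgi6 ygi6 zgi47) (kgi xgi6 ygi6 zgi41) (kgi xgi1 ygi25 zgi26) (kgi xgi1 ygi25 zgi57) (kgi xgi6 ygi6 zgi54) (kgi xgi2 ygi43 zgi20) (kgi xgi6 ygi6 zgi58) (kgi xgi6 ygi7 zgi1) (kgi xgi6 ygi7 zgi4) (kgi xgi2 ygi54 zgi60) (kgi xgi1 ygi25 zgi32) (kgi xgi4 ygi6 zgi48) (kgi xgi2 ygi44 zgi19) (kgi xgi3 ygi59 zgi18) (kgi xgi6 ygi7 zgi10) (kgi xgi1 ygi25 zgi35) (kgi xgi5 ygi4 zgi53) (kgi xgi2 ygi43 zgi44) (kgi xgi3 ygi20 zgi45) (kgi xgi2 ygi40 zgi40) (kgi xgi1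 ygi25 zgi38) (kgi xgi2 ygi44 zgi13) (kgi xgi6 ygi7 zgi24) (kgi xgi1 ygi25 zgi40) (kgi xgi2 ygi31 zgi5) (kgi xgi5 ygi0 zgi10) (kgi xgi2 ygi14 zgi40) (kgi xgi1 ygi25 zgi45) (kgi xgi2 ygi18 zgi54) (kgi xgi3 ygi4 zgi11) (kgi xgi6 ygi7 zgi37) (kgi xgi4 ygi41 zgi36))
def fi_g_3 : D2 → D3 → Pt := @D2.rec (fun _ => D3 → Pt) (@D3.rec (fun _ => Pt) (kgi xgi6 ygi7 zgi40) (kgi xgi5 ygi13 zgi45) (kgi xgi5 ygi57 zgi8) (kgi xgi6 ygi7 zgi47) (kgi xgi2 ygi14 zgi46) (kgi xgi1 ygi25 zgi50) (kgi xgi1 ygi25 zgi52) (kgi xgi5 ygi6 zgi39) (kgi xgi2 ygi12 zgi28) (kgi xgi1 ygi25 zgi54) (kgi xgi5 ygi37 zgi57) (kgi xgi5 ygi58 zgi2) (kgi xgi5 ygi59 zgi14) (kgi xgi5 ygi57 zgi48) (kgi xgi5 ygi57 zgi46) (kgi xgi6 ygi8 zgi2) (kgi xgi6 ygi8 zgi8) (kgi xgi2 ygi55 zgi24)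 (kgi xgi5 ygi37 zgi18) (kgi xgi3 ygi5 zgi10) (kgi xgi6 ygi8 zgi12) (kgi xgi4 ygi37 zgi19) (kgi xgi6 ygi8 zgi18) (kgi xgi6 ygi8 zgi20) (kgi xgi2 ygi51 zgi35) (kgi xgi1 ygi25 zgi58) (kgi xgi4 ygi39 zgi54) (kgi xgi4 ygi39 zgi53) (kgi xgi6 ygi8 zgi31) (kgi xgi5 ygi6 zgi29) (kgi xgi2 ygi51 zgi0) (kgi xgi2 ygi14 zgi0) (kgi xgi2 ygi14 zgi8) (kgi xgi1 ygi26 zgi3) (kgi xgi3 ygi5 zgi29) (kgi xgi2 ygi54 zgi9) (kgi xgi1 ygi26 zgi8) (kgi xgi4 ygi40 zgi36) (kgi xgi2 ygi56 zgi36) (kgi xgi6 ygi8 zgi40) (kgi xgi1 ygi26 zgi9) (kgi xgi5 ygi58 zgi10) (kgi xgi5 ygi58 zgi7) (kgi xgi1 ygi26 zgi10) (kgi xgi4 ygi56 zgi57) (kgi xgi2 ygi47 zgi43) (kgi xgi3 ygi5 zgi8) (kgi xgi6 ygi3 zgi7) (kgi xgi5 ygi55 zgi19) (kgi xgi5 ygi56 zgi40) (kgi xgi6 ygi2 zgi40) (kgi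 xgi4 ygi36 zgi30) (kgi xgi2 ygi18 zgi57) (kgi xgi2 ygi46 zgi32) (kgi xgi2 ygi45 zgi17) (kgi xgi2 ygi44 zgi32) (kgi xgi2 ygi46 zgi30) (kgi xgi4 ygi31 zgi49) (kgi xgi2 ygi45 zgi59) (kgi xgi6 ygi9 zgi12) (kgi xgi5 ygi38 zgi42) (kgi xgi2 ygi9 zgi59)) (@D3.rec (fun _ => Pt) (kgi xgi1 ygi56 zgi42) (kgi xgi1 ygi56 zgi45) (kgi xgi1 ygi26 zgi29) (kgi xgi1 ygi26 zgi30) (kgi xgi1 ygi33 zgi24) (kgi xgi1 ygi26 zgi27) (kgi xgi3 ygi10 zgi32) (kgi xgi1 ygi55 zgi5) (kgi xgi1 ygi44 zgi23) (kgi xgi3 ygi13 zgi41) (kgi xgi3 ygi42 zgi35) (kgi xgi6 ygi9 zgi29) (kgi xgi1 ygi49 zgi29) (kgi xgi1 ygi35 zgi50) (kgi xgi3 ygi22 zgi46) (kgi xgi3 ygi9 zgi35) (kgi xgi3 ygi6 zgi50) (kgi xgi1 ygi37 zgi44) (kgi xgi1 ygi26 zgi37) (kgi xgi3 ygi14 zgi46) (kgi xgi6 ygi9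 zgi42) (kgi xgi6 ygi9 zgi46) (kgi xgi1 ygi27 zgi1) (kgi xgi6 ygi9 zgi51) (kgi xgi1 ygi26 zgi49) (kgi xgi2 ygi18 zgi16) (kgi xgi1 ygi34 zgi15) (kgi xgi3 ygi22 zgi47) (kgi xgi1 ygi26 zgi45) (kgi xgi3 ygi8 zgi58) (kgi xgi6 ygi9 zgi58) (kgi xgi3 ygi8 zgi2) (kgi xgi1 ygi26 zgi47) (kgi xgi1 ygi44 zgi2) (kgi xgi1 ygi43 zgi11) (kgi xgi3 ygi2 zgi27) (kgi xgi3 ygi45 zgi8) (kgi xgi1 ygi27 zgi12) (kgi xgi2 ygi19 zgi38) (kgi xgi1 ygi32 zgi28) (kgi xgi4 ygi10 zgi31) (kgi xgi6 ygi10 zgi5) (kgi xgi6 ygi10 zgi9) (kgi xgi3 ygi16 zgi11) (kgi xgi6 ygi10 zgi14) (kgi xgi1 ygi26 zgi57) (kgi xgi1 ygi27 zgi9) (kgi xgi1 ygi27 zgi7) (kgi xgi3 ygi12 zgi35) (kgi xgi5 ygi55 zgi52) (kgi xgi3 ygi45 zgi5) (kgi xgi1 ygi34 zgi36) (kgi xgi1 ygi29 zgi45) (kgi xgi6 ygi10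 zgi28) (kgi xgi6 ygi10 zgi30) (kgi xgi3 ygi45 zgi10) (kgi xgi3 ygi12 zgi58) (kgi xgi1 ygi34 zgi19) (kgi xgi1 ygi34 zgi34) (kgi xgi6 ygi10 zgi40) (kgi xgi1 ygi35 zgi33) (kgi xgi4 ygi44 zgi26)) (@D3.rec (fun _ => Pt) (kgi xgi5 ygi14 zgi47) (kgi xgi1 ygi34 zgi53) (kgi xgi6 ygi10 zgi37) (kgi xgi1 ygi27 zgi3) (kgi xgi4 ygi37 zgi6) (kgi xgi4 ygi39 zgi58) (kgi xgi3 ygi17 zgi46) (kgi xgi6 ygi10 zgi60) (kgi xgi6 ygi11 zgi2) (kgi xgi3 ygi12 zgi8) (kgi xgi1 ygi27 zgi5) (kgi xgi6 ygi10 zgi15) (kgi xgi2 ygi29 zgi29) (kgi xgi5 ygi11 zgi47) (kgi xgi6 ygi11 zgi14) (kgi xgi4 ygi44 zgi27) (kgi xgi3 ygi45 zgi19) (kgi xgi6 ygi11 zgi22) (kgi xgi6 ygi11 zgi25) (kgi xgi6 ygi11 zgi19) (kgi xgi6 ygi11 zgi16) (kgi xgi4 ygi44 zgi9) (kgi xgi6 ygi9 zgi50) (kgi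 xgi1 ygi27 zgi10) (kgi xgi6 ygi9 zgi53) (kgi xgi4 ygi17 zgi50) (kgi xgi3 ygi7 zgi3) (kgi xgi1 ygi31 zgi0) (kgi xgi6 ygi11 zgi47) (kgi xgi6 ygi11 zgi51) (kgi xgi1 ygi27 zgi14) (kgi xgi6 ygi11 zgi52) (kgi xgi6 ygi11 zgi60) (kgi xgi6 ygi11 zgi50) (kgi xgi3 ygi10 zgi18) (kgi xgi6 ygi12 zgi3) (kgi xgi5 ygi54 zgi39) (kgi xgi6 ygi2 zgi7) (kgi xgi4 ygi35 zgi41) (kgi xgi1 ygi27 zgi17) (kgi xgi4 ygi41 zgi0) (kgi xgi6 ygi12 zgi15) (kgi xgi4 ygi40 zgi60) (kgi xgi1 ygi27 zgi19) (kgi xgi1 ygi33 zgi32) (kgi xgi3 ygi43 zgi24) (kgi xgi2 ygi55 zgi40) (kgi xgi6 ygi12 zgi26) (kgi xgi2 ygi51 zgi14) (kgi xgi6 ygi12 zgi30) (kgi xgi5 ygi52 zgi51) (kgi xgi1 ygi27 zgi21) (kgi xgi3 ygi13 zgi28) (kgi xgi3 ygi20 zgi5) (kgi xgi4 ygi41 zgi10) (kgi xgi1 ygi33 zgi48)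 (kgi xgi4 ygi40 zgi47) (kgi xgi4 ygi41 zgi1) (kgi xgi6 ygi12 zgi35) (kgi xgi3 ygi5 zgi54) (kgi xgi5 ygi51 zgi19) (kgi xgi5 ygi48 zgi59)) (@D3.rec (fun _ => Pt) (kgi xgi3 ygi13 zgi23) (kgi xgi5 ygi52 zgi0) (kgi xgi1 ygi27 zgi26) (kgi xgi1 ygi36 zgi7) (kgi xgi3 ygi19 zgi35) (kgi xgi3 ygi6 zgi9) (kgi xgi1 ygi33 zgi35) (kgi xgi4 ygi48 zgi37) (kgi xgi4 ygi44 zgi14) (kgi xgi4 ygi48 zgi7) (kgi xgi1 ygi33 zgi45) (kgi xgi1 ygi27 zgi30) (kgi xgi3 ygi6 zgi12) (kgi xgi6 ygi12 zgi60) (kgi xgi6 ygi13 zgi2) (kgi xgi1 ygi27 zgi32) (kgi xgi1 ygi55 zgi42) (kgi xgi4 ygi35 zgi61) (kgi xgi1 ygi27 zgi33) (kgi xgi2 ygi9 zgi16) (kgi xgi6 ygi13 zgi9) (kgi xgi2 ygi10 zgi36) (kgi xgi1 ygi57 zgi15) (kgi xgi2 ygi54 zgi23) (kgi xgi2 ygi14 zgi41) (kgi xgi2 ygi14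 zgi27) (kgi xgi2 ygi53 zgi11) (kgi xgi2 ygi27 zgi21) (kgi xgi1 ygi27 zgi39) (kgi xgi6 ygi13 zgi19) (kgi xgi6 ygi13 zgi26) (kgi xgi6 ygi13 zgi17) (kgi xgi4 ygi39 zgi24) (kgi xgi2 ygi27 zgi56) (kgi xgi3 ygi4 zgi38) (kgi xgi1 ygi56 zgi51) (kgi xgi1 ygi56 zgi49) (kgi xgi4 ygi24 zgi31) (kgi xgi6 ygi13 zgi35) (kgi xgi6 ygi13 zgi39) (kgi xgi3 ygi3 zgi22) (kgi xgi3 ygi3 zgi48) (kgi xgi1 ygi27 zgi51) (kgi xgi4 ygi0 zgi36) (kgi xgi4 ygi0 zgi34) (kgi xgi6 ygi13 zgi50) (kgi xgi6 ygi13 zgi53) (kgi xgi1 ygi28 zgi12) (kgi xgi3 ygi3 zgi34) (kgi xgi4 ygi0 zgi8) (kgi xgi6 ygi13 zgi58) (kgi xgi6 ygi14 zgi0) (kgi xgi3 ygi4 zgi39) (kgi xgi1 ygi28 zgi5) (kgi xgi2 ygi26 zgi21) (kgi xgi5 ygi0 zgi29) (kgi xgi2 ygi49 zgi2) (kgi xgi1 ygi28 zgi1) (kgi xgi4 ygi23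 zgi47) (kgi xgi4 ygi23 zgi45) (kgi xgi6 ygi14 zgi10) (kgi xgi6 ygi14 zgi13)) (@D3.rec (fun _ => Pt) (kgi xgi2 ygi49 zgi37) (kgi xgi2 ygi49 zgi39) (kgi xgi3 ygi57 zgi55) (kgi xgi6 ygi14 zgi19) (kgi xgi6 ygi14 zgi23) (kgi xgi4 ygi23 zgi10) (kgi xgi2 ygi48 zgi61) (kgi xgi2 ygi49 zgi19) (kgi xgi2 ygi15 zgi16) (kgi xgi5 ygi46 zgi52) (kgi xgi2 ygi53 zgi17) (kgi xgi6 ygi14 zgi35) (kgi xgi4 ygi36 zgi5) (kgi xgi6 ygi14 zgi39) (kgi xgi5 ygi53 zgi44) (kgi xgi6 ygi14 zgi43) (kgi xgi1 ygi28 zgi10) (kgi xgi3 ygi33 zgi41) (kgi xgi3 ygi39 zgi20) (kgi xgi2 ygi50 zgi41) (kgi xgi1 ygi28 zgi11) (kgi xgi6 ygi13 zgi54) (kgi xgi6 ygi14 zgi56) (kgi xgi6 ygi13 zgi52) (kgi xgi3 ygi33 zgi36) (kgi xgi2 ygi26 zgi5) (kgi xgi6 ygi14 zgi60) (kgi xgi1 ygi45 zgi21)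 (kgi xgi6 ygi14 zgi5) (kgi xgi1 ygi28 zgi14) (kgi xgi1 ygi46 zgi13) (kgi xgi3 ygi43 zgi33) (kgi xgi3 ygi39 zgi26) (kgi xgi1 ygi43 zgi17) (kgi xgi3 ygi57 zgi19) (kgi xgi6 ygi14 zgi9) (kgi xgi3 ygi36 zgi37) (kgi xgi5 ygi0 zgi33) (kgi xgi3 ygi3 zgi41) (kgi xgi2 ygi9 zgi19) (kgi xgi2 ygi8 zgi55) (kgi xgi3 ygi3 zgi52) (kgi xgi3 ygi9 zgi54) (kgi xgi2 ygi14 zgi7) (kgi xgi3 ygi5 zgi2) (kgi xgi2 ygi50 zgi40) (kgi xgi6 ygi15 zgi23) (kgi xgi1 ygi28 zgi27) (kgi xgi6 ygi15 zgi25) (kgi xgi6 ygi15 zgi32) (kgi xgi6 ygi15 zgi22) (kgi xgi2 ygi47 zgi9) (kgi xgi2 ygi55 zgi44) (kgi xgi5 ygi37 zgi20) (kgi xgi1 ygi28 zgi32) (kgi xgi1 ygi28 zgi36) (kgi xgi2 ygi17 zgi0) (kgi xgi6 ygi15 zgi40) (kgi xgi5 ygi37 zgi39) (kgi xgi6 ygi15 zgi46) (kgi xgi3 ygi2 zgi36)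 (kgi xgi1 ygi28 zgi34)) (@D3.rec (fun _ => Pt) (kgi xgi2 ygi46 zgi60) (kgi xgi3 ygi0 zgi52) (kgi xgi3 ygi4 zgi42) (kgi xgi2 ygi15 zgi36) (kgi xgi5 ygi12 zgi26) (kgi xgi6 ygi15 zgi39) (kgi xgi6 ygi16 zgi0) (kgi xgi6 ygi15 zgi45) (kgi xgi6 ygi16 zgi5) (kgi xgi2 ygi59 zgi57) (kgi xgi6 ygi16 zgi10) (kgi xgi2 ygi59 zgi58) (kgi xgi1 ygi28 zgi39) (kgi xgi1 ygi28 zgi43) (kgi xgi5 ygi54 zgi56) (kgi xgi1 ygi28 zgi40) (kgi xgi5 ygi49 zgi46) (kgi xgi5 ygi49 zgi8) (kgi xgi5 ygi49 zgi44) (kgi xgi2 ygi26 zgi11) (kgi xgi5 ygi47 zgi16) (kgi xgi6 ygi16 zgi24) (kgi xgi6 ygi15 zgi51) (kgi xgi1 ygi28 zgi42) (kgi xgi6 ygi16 zgi20) (kgi xgi6 ygi16 zgi39) (kgi xgi6 ygi16 zgi18) (kgi xgi4 ygi41 zgi31) (kgi xgi6 ygi16 zgi46) (kgi xgi5 ygi49 zgi47) (kgi xgi6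 ygi3 zgi2) (kgi xgi1 ygi28 zgi46) (kgi xgi6 ygi16 zgi52) (kgi xgi2 ygi51 zgi16) (kgi xgi2 ygi50 zgi47) (kgi xgi6 ygi16 zgi59) (kgi xgi2 ygi9 zgi28) (kgi xgi2 ygi8 zgi57) (kgi xgi1 ygi28 zgi51) (kgi xgi2 ygi49 zgi33) (kgi xgi6 ygi17 zgi3) (kgi xgi6 ygi17 zgi6) (kgi xgi2 ygi50 zgi36) (kgi xgi2 ygi50 zgi35) (kgi xgi4 ygi57 zgi25) (kgi xgi6 ygi17 zgi13) (kgi xgi2 ygi47 zgi33) (kgi xgi4 ygi56 zgi21) (kgi xgi2 ygi19 zgi13) (kgi xgi1 ygi30 zgi15) (kgi xgi3 ygi7 zgi31) (kgi xgi3 ygi8 zgi4) (kgi xgi2 ygi20 zgi19) (kgi xgi2 ygi17 zgi20) (kgi xgi6 ygi17 zgi22) (kgi xgi2 ygi17 zgi10) (kgi xgi4 ygi45 zgi11) (kgi xgi6 ygi17 zgi27) (kgi xgi1 ygi29 zgi4) (kgi xgi6 ygi17 zgi23) (kgi xgi4 ygi48 zgi0) (kgi xgi3 ygi2 zgi59)) (@D3.rec (fun _ => Pt) (kgi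 xgi2 ygi19 zgi4) (kgi xgi2 ygi18 zgi39) (kgi xgi1 ygi29 zgi6) (kgi xgi6 ygi17 zgi43) (kgi xgi2 ygi20 zgi5) (kgi xgi3 ygi20 zgi8) (kgi xgi3 ygi14 zgi3) (kgi xgi3 ygi19 zgi32) (kgi xgi2 ygi20 zgi12) (kgi xgi1 ygi29 zgi9) (kgi xgi3 ygi3 zgi5) (kgi xgi6 ygi17 zgi57) (kgi xgi3 ygi3 zgi11) (kgi xgi6 ygi18 zgi0) (kgi xgi1 ygi33 zgi52) (kgi xgi1 ygi33 zgi53) (kgi xgi6 ygi18 zgi3) (kgi xgi1 ygi32 zgi2) (kgi xgi1 ygi30 zgi39) (kgi xgi1 ygi39 zgi5) (kgi xgi4 ygi44 zgi2) (kgi xgi4 ygi42 zgi6) (kgi xgi3 ygi11 zgi49) (kgi xgi1 ygi34 zgi43) (kgi xgi6 ygi18 zgi17) (kgi xgi3 ygi11 zgi50) (kgi xgi3 ygi15 zgi5) (kgi xgi1 ygi29 zgi21) (kgi xgi3 ygi16 zgi32) (kgi xgi6 ygi18 zgi28) (kgi xgi1 ygi29 zgi22) (kgi xgi6 ygi18 zgi19) (kgi xgi6 ygi18 zgi38) (kgi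 xgi6 ygi18 zgi16) (kgi xgi3 ygi1 zgi13) (kgi xgi2 ygi18 zgi31) (kgi xgi3 ygi8 zgi59) (kgi xgi1 ygi29 zgi25) (kgi xgi6 ygi9 zgi59) (kgi xgi1 ygi31 zgi40) (kgi xgi3 ygi11 zgi31) (kgi xgi3 ygi11 zgi24) (kgi xgi3 ygi12 zgi23) (kgi xgi3 ygi8 zgi47) (kgi xgi2 ygi19 zgi43) (kgi xgi3 ygi11 zgi48) (kgi xgi6 ygi12 zgi57) (kgi xgi3 ygi11 zgi46) (kgi xgi6 ygi18 zgi57) (kgi xgi1 ygi30 zgi47) (kgi xgi1 ygi32 zgi25) (kgi xgi3 ygi35 zgi7) (kgi xgi1 ygi39 zgi25) (kgi xgi5 ygi6 zgi34) (kgi xgi3 ygi23 zgi32) (kgi xgi4 ygi7 zgi15) (kgi xgi1 ygi29 zgi36) (kgi xgi6 ygi19 zgi1) (kgi xgi5 ygi58 zgi30) (kgi xgi1 ygi29 zgi52) (kgi xgi1 ygi31 zgi36) (kgi xgi3 ygi13 zgi17)) (@D3.rec (fun _ => Pt) (kgi xgi6 ygi19 zgi10) (kgi xgi1 ygi29 zgi42) (kgi xgi3 ygi28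 zgi37) (kgi xgi3 ygi6 zgi15) (kgi xgi1 ygi29 zgi44) (kgi xgi6 ygi17 zgi16) (kgi xgi1 ygi29 zgi51) (kgi xgi6 ygi19 zgi20) (kgi xgi1 ygi29 zgi46) (kgi xgi2 ygi3 zgi4) (kgi xgi3 ygi12 zgi20) (kgi xgi6 ygi19 zgi25) (kgi xgi6 ygi19 zgi27) (kgi xgi3 ygi17 zgi3) (kgi xgi6 ygi11 zgi27) (kgi xgi3 ygi12 zgi13) (kgi xgi3 ygi12 zgi11) (kgi xgi6 ygi19 zgi35) (kgi xgi3 ygi12 zgi25) (kgi xgi6 ygi19 zgi40) (kgi xgi1 ygi29 zgi54) (kgi xgi1 ygi30 zgi10) (kgi xgi3 ygi12 zgi22) (kgi xgi1 ygi30 zgi7) (kgi xgi3 ygi5 zgi51) (kgi xgi3 ygi28 zgi38) (kgi xgi3 ygi13 zgi29) (kgi xgi4 ygi40 zgi14) (kgi xgi1 ygi30 zgi1) (kgi xgi3 ygi17 zgi4) (kgi xgi6 ygi19 zgi55) (kgi xgi3 ygi5 zgi48) (kgi xgi2 ygi20 zgi42) (kgi xgi4 ygi47 zgi4) (kgi xgi6 ygi0 zgi30) (kgi xgi3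 ygi15 zgi47) (kgi xgi3 ygi18 zgi32) (kgi xgi3 ygi24 zgi10) (kgi xgi3 ygi24 zgi11) (kgi xgi6 ygi20 zgi8) (kgi xgi1 ygi32 zgi42) (kgi xgi4 ygi43 zgi3) (kgi xgi6 ygi20 zgi16) (kgi xgi4 ygi43 zgi45) (kgi xgi6 ygi20 zgi5) (kgi xgi1 ygi30 zgi5) (kgi xgi4 ygi41 zgi48) (kgi xgi6 ygi20 zgi25) (kgi xgi1 ygi30 zgi6) (kgi xgi6 ygi19 zgi42) (kgi xgi6 ygi20 zgi34) (kgi xgi6 ygi19 zgi39) (kgi xgi3 ygi28 zgi35) (kgi xgi6 ygi19 zgi51) (kgi xgi5 ygi39 zgi49) (kgi xgi6 ygi20 zgi6) (kgi xgi6 ygi20 zgi44) (kgi xgi6 ygi20 zgi41) (kgi xgi5 ygi39 zgi52) (kgi xgi1 ygi30 zgi9) (kgi xgi1 ygi30 zgi11) (kgi xgi3 ygi28 zgi27)) (@D3.rec (fun _ => Pt) (kgi xgi6 ygi20 zgi53) (kgi xgi1 ygi30 zgi12) (kgi xgi3 ygi1 zgi27) (kgi xgi4 ygi40 zgi11) (kgi xgi3 ygi9 zgi32)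 (kgi xgi4 ygi40 zgi15) (kgi xgi1 ygi30 zgi54) (kgi xgi3 ygi35 zgi23) (kgi xgi6 ygi20 zgi58) (kgi xgi4 ygi18 zgi30) (kgi xgi6 ygi21 zgi0) (kgi xgi6 ygi21 zgi2) (kgi xgi3 ygi16 zgi28) (kgi xgi3 ygi28 zgi43) (kgi xgi1 ygi30 zgi21) (kgi xgi3 ygi15 zgi17) (kgi xgi3 ygi16 zgi6) (kgi xgi1 ygi30 zgi22) (kgi xgi6 ygi21 zgi15) (kgi xgi3 ygi28 zgi57) (kgi xgi1 ygi30 zgi23) (kgi xgi3 ygi9 zgi21) (kgi xgi3 ygi22 zgi8) (kgi xgi3 ygi9 zgi19) (kgi xgi1 ygi30 zgi25) (kgi xgi3 ygi22 zgi37) (kgi xgi3 ygi16 zgi33) (kgi xgi6 ygi21 zgi31) (kgi xgi6 ygi21 zgi35) (kgi xgi2 ygi27 zgi38) (kgi xgi6 ygi21 zgi41) (kgi xgi3 ygi21 zgi55) (kgi xgi1 ygi30 zgi27) (kgi xgi1 ygi30 zgi31) (kgi xgi6 ygi21 zgi45) (kgi xgi3 ygi24 zgi15) (kgi xgi2 ygi19 zgi42) (kgi xgi3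 ygi23 zgi16) (kgi xgi3 ygi23 zgi18) (kgi xgi6 ygi21 zgi54) (kgi xgi6 ygi21 zgi58) (kgi xgi6 ygi21 zgi61) (kgi xgi6 ygi22 zgi1) (kgi xgi6 ygi21 zgi40) (kgi xgi2 ygi27 zgi52) (kgi xgi6 ygi21 zgi44) (kgi xgi1 ygi32 zgi20) (kgi xgi3 ygi6 zgi40) (kgi xgi6 ygi18 zgi11) (kgi xgi2 ygi21 zgi60) (kgi xgi3 ygi12 zgi45) (kgi xgi6 ygi21 zgi50) (kgi xgi3 ygi19 zgi40) (kgi xgi1 ygi30 zgi35) (kgi xgi4 ygi42 zgi15) (kgi xgi6 ygi22 zgi24) (kgi xgi6 ygi22 zgi28) (kgi xgi4 ygi42 zgi11) (kgi xgi3 ygi1 zgi28) (kgi xgi3 ygi6 zgi35) (kgi xgi4 ygi42 zgi17) (kgi xgi6 ygi22 zgi36)) (@D3.rec (fun _ => Pt) (kgi xgi1 ygi53 zgi26) (kgi xgi6 ygi22 zgi40) (kgi xgi6 ygi22 zgi43) (kgi xgi1 ygi31 zgi58) (kgi xgi3 ygi11 zgi39) (kgi xgi3 ygi23 zgi58) (kgi xgi1 ygi30 zgi44)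 (kgi xgi6 ygi22 zgi52) (kgi xgi6 ygi22 zgi57) (kgi xgi6 ygi22 zgi60) (kgi xgi6 ygi23 zgi2) (kgi xgi1 ygi30 zgi46) (kgi xgi4 ygi41 zgi57) (kgi xgi4 ygi42 zgi22) (kgi xgi3 ygi11 zgi40) (kgi xgi6 ygi23 zgi11) (kgi xgi6 ygi23 zgi16) (kgi xgi6 ygi23 zgi19) (kgi xgi4 ygi50 zgi14) (kgi xgi1 ygi30 zgi49) (kgi xgi3 ygi8 zgi23) (kgi xgi3 ygi8 zgi20) (kgi xgi1 ygi30 zgi50) (kgi xgi6 ygi23 zgi25) (kgi xgi6 ygi23 zgi31) (kgi xgi6 ygi23 zgi38) (kgi xgi6 ygi23 zgi26) (kgi xgi6 ygi23 zgi42) (kgi xgi6 ygi23 zgi45) (kgi xgi1 ygi30 zgi53) (kgi xgi4 ygi18 zgi17) (kgi xgi1 ygi34 zgi6) (kgi xgi3 ygi7 zgi24) (kgi xgi3 ygi6 zgi1) (kgi xgi6 ygi23 zgi55) (kgi xgi1 ygi37 zgi25) (kgi xgi6 ygi23 zgi60) (kgi xgi6 ygi22 zgi44) (kgi xgi1 ygi30 zgi59) (kgi xgi3 ygi35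 zgi25) (kgi xgi3 ygi1 zgi6) (kgi xgi1 ygi35 zgi52) (kgi xgi3 ygi28 zgi58) (kgi xgi6 ygi24 zgi10) (kgi xgi6 ygi24 zgi13) (kgi xgi6 ygi23 zgi7) (kgi xgi1 ygi31 zgi2) (kgi xgi4 ygi42 zgi34) (kgi xgi4 ygi42 zgi32) (kgi xgi6 ygi24 zgi22) (kgi xgi4 ygi24 zgi18) (kgi xgi2 ygi49 zgi34) (kgi xgi2 ygi9 zgi47) (kgi xgi3 ygi0 zgi0) (kgi xgi3 ygi4 zgi44) (kgi xgi2 ygi54 zgi15) (kgi xgi5 ygi37 zgi11) (kgi xgi4 ygi23 zgi59) (kgi xgi5 ygi55 zgi39) (kgi xgi6 ygi24 zgi42) (kgi xgi1 ygi31 zgi8) (kgi xgi4 ygi36 zgi51)) (@D3.rec (fun _ => Pt) (kgi xgi1 ygi31 zgi9) (kgi xgi4 ygi24 zgi27) (kgi xgi6 ygi24 zgi50) (kgi xgi4 ygi24 zgi24) (kgi xgi4 ygi0 zgi6) (kgi xgi1 ygi31 zgi11) (kgi xgi6 ygi24 zgi61) (kgi xgi1 ygi56 zgi52) (kgi xgi5 ygi50 zgi49) (kgi xgi3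 ygi57 zgi27) (kgi xgi1 ygi31 zgi15) (kgi xgi1 ygi31 zgi18) (kgi xgi6 ygi25 zgi4) (kgi xgi6 ygi25 zgi8) (kgi xgi3 ygi0 zgi49) (kgi xgi6 ygi25 zgi3) (kgi xgi5 ygi37 zgi5) (kgi xgi6 ygi25 zgi7) (kgi xgi6 ygi25 zgi18) (kgi xgi2 ygi13 zgi27) (kgi xgi4 ygi38 zgi19) (kgi xgi1 ygi31 zgi23) (kgi xgi6 ygi25 zgi25) (kgi xgi6 ygi25 zgi28) (kgi xgi2 ygi49 zgi18) (kgi xgi4 ygi0 zgi23) (kgi xgi2 ygi26 zgi36) (kgi xgi6 ygi25 zgi33) (kgi xgi6 ygi25 zgi29) (kgi xgi2 ygi51 zgi7) (kgi xgi6 ygi19 zgi5) (kgi xgi1 ygi33 zgi4) (kgi xgi4 ygi41 zgi42) (kgi xgi3 ygi2 zgi18) (kgi xgi3 ygi12 zgi42) (kgi xgi3 ygi28 zgi22) (kgi xgi6 ygi25 zgi42) (kgi xgi4 ygi11 zgi39) (kgi xgi3 ygi13 zgi24) (kgi xgi5 ygi5 zgi44) (kgi xgi3 ygi35 zgi22) (kgi xgi1 ygi31 zgi44) (kgi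 xgi1 ygi31 zgi47) (kgi xgi6 ygi25 zgi50) (kgi xgi1 ygi37 zgi1) (kgi xgi6 ygi25 zgi55) (kgi xgi4 ygi38 zgi22) (kgi xgi3 ygi24 zgi13) (kgi xgi6 ygi1 zgi25) (kgi xgi1 ygi31 zgi50) (kgi xgi4 ygi41 zgi41) (kgi xgi6 ygi26 zgi3) (kgi xgi1 ygi31 zgi51) (kgi xgi6 ygi26 zgi8) (kgi xgi3 ygi40 zgi0) (kgi xgi1 ygi31 zgi53) (kgi xgi1 ygi40 zgi30) (kgi xgi4 ygi18 zgi12) (kgi xgi1 ygi31 zgi54) (kgi xgi5 ygi12 zgi20) (kgi xgi3 ygi35 zgi26) (kgi xgi2 ygi2 zgi61)) (@D3.rec (fun _ => Pt) (kgi xgi6 ygi26 zgi13) (kgi xgi3 ygi39 zgi59) (kgi xgi5 ygi11 zgi26) (kgi xgi1 ygi31 zgi59) (kgi xgi6 ygi26 zgi23) (kgi xgi6 ygi20 zgi57) (kgi xgi4 ygi13 zgi16) (kgi xgi1 ygi31 zgi61) (kgi xgi3 ygi23 zgi33) (kgi xgi6 ygi26 zgi31) (kgi xgi3 ygi24 zgi2) (kgi xgi4 ygi56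 zgi22) (kgi xgi1 ygi32 zgi1) (kgi xgi1 ygi32 zgi4) (kgi xgi6 ygi26 zgi40) (kgi xgi1 ygi49 zgi40) (kgi xgi4 ygi43 zgi25) (kgi xgi3 ygi18 zgi42) (kgi xgi6 ygi26 zgi51) (kgi xgi3 ygi23 zgi47) (kgi xgi6 ygi26 zgi55) (kgi xgi6 ygi26 zgi36) (kgi xgi1 ygi37 zgi12) (kgi xgi6 ygi26 zgi39) (kgi xgi3 ygi6 zgi60) (kgi xgi3 ygi23 zgi26) (kgi xgi2 ygi22 zgi13) (kgi xgi3 ygi12 zgi56) (kgi xgi4 ygi13 zgi18) (kgi xgi6 ygi26 zgi44) (kgi xgi3 ygi20 zgi13) (kgi xgi3 ygi6 zgi43) (kgi xgi1 ygi32 zgi8) (kgi xgi4 ygi43 zgi39) (kgi xgi6 ygi27 zgi21) (kgi xgi6 ygi27 zgi26) (kgi xgi4 ygi43 zgi35) (kgi xgi4 ygi12 zgi46) (kgi xgi1 ygi39 zgi13) (kgi xgi3 ygi6 zgi49) (kgi xgi1 ygi32 zgi12) (kgi xgi3 ygi9 zgi14) (kgi xgi6 ygi27 zgi37) (kgi xgi6 ygi27 zgi42) (kgi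 xgi6 ygi27 zgi45) (kgi xgi6 ygi17 zgi55) (kgi xgi1 ygi32 zgi14) (kgi xgi3 ygi6 zgi47) (kgi xgi2 ygi18 zgi12) (kgi xgi3 ygi6 zgi37) (kgi xgi1 ygi32 zgi17) (kgi xgi3 ygi6 zgi25) (kgi xgi6 ygi27 zgi56) (kgi xgi6 ygi27 zgi60) (kgi xgi1 ygi32 zgi19) (kgi xgi6 ygi23 zgi36) (kgi xgi6 ygi23 zgi37) (kgi xgi2 ygi7 zgi17) (kgi xgi4 ygi44 zgi8) (kgi xgi1 ygi49 zgi55) (kgi xgi3 ygi1 zgi16) (kgi xgi4 ygi11 zgi56)) (@D3.rec (fun _ => Pt) (kgi xgi1 ygi34 zgi58) (kgi xgi3 ygi6 zgi34) (kgi xgi4 ygi47 zgi36) (kgi xgi6 ygi28 zgi12) (kgi xgi6 ygi28 zgi13) (kgi xgi1 ygi32 zgi33) (kgi xgi6 ygi28 zgi18) (kgi xgi1 ygi32 zgi38) (kgi xgi3 ygi1 zgi43) (kgi xgi6 ygi28 zgi23) (kgi xgi6 ygi28 zgi26) (kgi xgi1 ygi32 zgi36) (kgi xgi3 ygi7 zgi16) (kgi xgi3 ygi6 zgi59)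 (kgi xgi2 ygi20 zgi28) (kgi xgi2 ygi17 zgi17) (kgi xgi6 ygi28 zgi35) (kgi xgi3 ygi30 zgi13) (kgi xgi6 ygi28 zgi22) (kgi xgi6 ygi28 zgi44) (kgi xgi1 ygi32 zgi39) (kgi xgi3 ygi7 zgi10) (kgi xgi2 ygi6 zgi27) (kgi xgi3 ygi7 zgi8) (kgi xgi6 ygi28 zgi51) (kgi xgi2 ygi19 zgi18) (kgi xgi6 ygi28 zgi30) (kgi xgi6 ygi28 zgi60) (kgi xgi3 ygi7 zgi18) (kgi xgi6 ygi28 zgi48) (kgi xgi1 ygi32 zgi43) (kgi xgi1 ygi49 zgi46) (kgi xgi5 ygi4 zgi45) (kgi xgi6 ygi29 zgi13) (kgi xgi6 ygi28 zgi29) (kgi xgi3 ygi6 zgi27) (kgi xgi6 ygi29 zgi19) (kgi xgi6 ygi29 zgi22) (kgi xgi6 ygi29 zgi25) (kgi xgi1 ygi32 zgi47) (kgi xgi6 ygi29 zgi20) (kgi xgi6 ygi29 zgi18) (kgi xgi1 ygi33 zgi11) (kgi xgi4 ygi43 zgi53) (kgi xgi3 ygi10 zgi34) (kgi xgi1 ygi33 zgi8) (kgi xgi1 ygi48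 zgi48) (kgi xgi6 ygi29 zgi37) (kgi xgi3 ygi55 zgi41) (kgi xgi6 ygi29 zgi41) (kgi xgi1 ygi32 zgi53) (kgi xgi6 ygi29 zgi38) (kgi xgi6 ygi29 zgi36) (kgi xgi4 ygi41 zgi52) (kgi xgi3 ygi8 zgi50) (kgi xgi4 ygi41 zgi53) (kgi xgi1 ygi32 zgi60) (kgi xgi1 ygi49 zgi56) (kgi xgi3 ygi15 zgi18) (kgi xgi6 ygi29 zgi58) (kgi xgi6 ygi30 zgi0) (kgi xgi2 ygi27 zgi25)) (@D3.rec (fun _ => Pt) (kgi xgi6 ygi30 zgi5) (kgi xgi1 ygi32 zgi59) (kgi xgi1 ygi33 zgi1) (kgi xgi1 ygi37 zgi11) (kgi xgi2 ygi17 zgi61) (kgi xgi3 ygi11 zgi27) (kgi xgi3 ygi6 zgi44) (kgi xgi3 ygi22 zgi56) (kgi xgi3 ygi22 zgi57) (kgi xgi3 ygi13 zgi49) (kgi xgi6 ygi30 zgi14) (kgi xgi6 ygi30 zgi17) (kgi xgi6 ygi30 zgi20) (kgi xgi2 ygi42 zgi33) (kgi xgi3 ygi2 zgi50) (kgi xgi1 ygi33 zgi2) (kgi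 xgi2 ygi57 zgi34) (kgi xgi4 ygi43 zgi52) (kgi xgi1 ygi35 zgi42) (kgi xgi1 ygi35 zgi10) (kgi xgi6 ygi30 zgi30) (kgi xgi5 ygi47 zgi30) (kgi xgi6 ygi30 zgi34) (kgi xgi6 ygi30 zgi36) (kgi xgi3 ygi6 zgi39) (kgi xgi6 ygi11 zgi9) (kgi xgi6 ygi30 zgi37) (kgi xgi4 ygi45 zgi60) (kgi xgi3 ygi3 zgi1) (kgi xgi1 ygi33 zgi18) (kgi xgi3 ygi7 zgi26) (kgi xgi1 ygi54 zgi39) (kgi xgi3 ygi27 zgi53) (kgi xgi1 ygi33 zgi21) (kgi xgi1 ygi33 zgi26) (kgi xgi4 ygi38 zgi9) (kgi xgi6 ygi30 zgi53) (kgi xgi3 ygi23 zgi24) (kgi xgi1 ygi33 zgi22) (kgi xgi4 ygi50 zgi13) (kgi xgi1 ygi37 zgi16) (kgi xgi3 ygi1 zgi7) (kgi xgi6 ygi31 zgi2) (kgi xgi3 ygi23 zgi3) (kgi xgi3 ygi21 zgi15) (kgi xgi6 ygi31 zgi9) (kgi xgi6 ygi30 zgi52) (kgi xgi2 ygi33 zgi39) (kgi xgi6 ygi31 zgi11)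 (kgi xgi6 ygi31 zgi13) (kgi xgi1 ygi33 zgi29) (kgi xgi1 ygi33 zgi42) (kgi xgi6 ygi11 zgi26) (kgi xgi1 ygi33 zgi31) (kgi xgi1 ygi33 zgi34) (kgi xgi6 ygi10 zgi57) (kgi xgi6 ygi31 zgi26) (kgi xgi6 ygi31 zgi29) (kgi xgi1 ygi50 zgi20) (kgi xgi6 ygi31 zgi32) (kgi xgi6 ygi31 zgi35) (kgi xgi6 ygi31 zgi25)) (@D3.rec (fun _ => Pt) (kgi xgi6 ygi31 zgi38) (kgi xgi3 ygi43 zgi15) (kgi xgi4 ygi53 zgi40) (kgi xgi3 ygi43 zgi13) (kgi xgi6 ygi31 zgi46) (kgi xgi2 ygi22 zgi2) (kgi xgi4 ygi41 zgi11) (kgi xgi6 ygi31 zgi53) (kgi xgi1 ygi54 zgi9) (kgi xgi6 ygi31 zgi40) (kgi xgi1 ygi33 zgi38) (kgi xgi1 ygi47 zgi40) (kgi xgi6 ygi32 zgi2) (kgi xgi1 ygi33 zgi39) (kgi xgi4 ygi44 zgi33) (kgi xgi6 ygi32 zgi11) (kgi xgi3 ygi13 zgi9) (kgi xgi6 ygi10 zgi26) (kgi xgi6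 ygi30 zgi7) (kgi xgi2 ygi22 zgi45) (kgi xgi6 ygi12 zgi24) (kgi xgi3 ygi22 zgi55) (kgi xgi6 ygi32 zgi19) (kgi xgi6 ygi12 zgi19) (kgi xgi4 ygi40 zgi34) (kgi xgi2 ygi21 zgi33) (kgi xgi4 ygi41 zgi3) (kgi xgi2 ygi22 zgi31) (kgi xgi3 ygi19 zgi31) (kgi xgi3 ygi6 zgi8) (kgi xgi6 ygi10 zgi50) (kgi xgi3 ygi18 zgi40) (kgi xgi6 ygi10 zgi19) (kgi xgi3 ygi20 zgi61) (kgi xgi2 ygi22 zgi50) (kgi xgi3 ygi23 zgi51) (kgi xgi1 ygi33 zgi50) (kgi xgi1 ygi33 zgi54) (kgi xgi6 ygi32 zgi46) (kgi xgi3 ygi22 zgi36) (kgi xgi1 ygi34 zgi49) (kgi xgi6 ygi9 zgi60) (kgi xgi6 ygi32 zgi54) (kgi xgi3 ygi44 zgi54) (kgi xgi4 ygi45 zgi15) (kgi xgi6 ygi32 zgi59) (kgi xgi3 ygi1 zgi18) (kgi xgi3 ygi1 zgi17) (kgi xgi6 ygi33 zgi4) (kgi xgi6 ygi33 zgi8) (kgi xgi1 ygi50 zgi2) (kgi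 xgi1 ygi33 zgi59) (kgi xgi1 ygi34 zgi0) (kgi xgi6 ygi33 zgi13) (kgi xgi1 ygi33 zgi60) (kgi xgi6 ygi12 zgi56) (kgi xgi3 ygi6 zgi4) (kgi xgi3 ygi6 zgi26) (kgi xgi6 ygi10 zgi20) (kgi xgi6 ygi33 zgi23) (kgi xgi3 ygi27 zgi9) (kgi xgi6 ygi33 zgi27)) (@D3.rec (fun _ => Pt) (kgi xgi3 ygi49 zgi22) (kgi xgi6 ygi12 zgi49) (kgi xgi6 ygi12 zgi34) (kgi xgi1 ygi34 zgi4) (kgi xgi6 ygi33 zgi35) (kgi xgi1 ygi50 zgi22) (kgi xgi6 ygi11 zgi35) (kgi xgi6 ygi33 zgi40) (kgi xgi6 ygi18 zgi5) (kgi xgi1 ygi34 zgi14) (kgi xgi1 ygi35 zgi46) (kgi xgi6 ygi11 zgi23) (kgi xgi1 ygi35 zgi47) (kgi xgi6 ygi11 zgi46) (kgi xgi3 ygi22 zgi38) (kgi xgi3 ygi16 zgi25) (kgi xgi6 ygi33 zgi56) (kgi xgi6 ygi21 zgi8) (kgi xgi3 ygi45 zgi35) (kgi xgi3 ygi32 zgi11) (kgi xgi3 ygi35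 zgi60) (kgi xgi6 ygi34 zgi1) (kgi xgi6 ygi34 zgi3) (kgi xgi6 ygi34 zgi6) (kgi xgi1 ygi47 zgi57) (kgi xgi1 ygi34 zgi26) (kgi xgi3 ygi25 zgi26) (kgi xgi6 ygi34 zgi12) (kgi xgi3 ygi16 zgi5) (kgi xgi6 ygi10 zgi21) (kgi xgi6 ygi20 zgi11) (kgi xgi3 ygi15 zgi60) (kgi xgi6 ygi11 zgi40) (kgi xgi5 ygi56 zgi44) (kgi xgi4 ygi35 zgi27) (kgi xgi6 ygi34 zgi27) (kgi xgi1 ygi34 zgi32) (kgi xgi1 ygi34 zgi42) (kgi xgi6 ygi34 zgi33) (kgi xgi1 ygi34 zgi33) (kgi xgi6 ygi10 zgi36) (kgi xgi6 ygi34 zgi42) (kgi xgi1 ygi49 zgi54) (kgi xgi3 ygi16 zgi27) (kgi xgi6 ygi11 zgi18) (kgi xgi6 ygi11 zgi39) (kgi xgi6 ygi34 zgi51) (kgi xgi1 ygi50 zgi21) (kgi xgi6 ygi34 zgi54) (kgi xgi3 ygi28 zgi53) (kgi xgi1 ygi34 zgi41) (kgi xgi6 ygi10 zgi31) (kgi xgi6 ygi10 zgi29) (kgi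 xgi6 ygi35 zgi1) (kgi xgi6 ygi35 zgi5) (kgi xgi6 ygi35 zgi8) (kgi xgi3 ygi8 zgi15) (kgi xgi2 ygi19 zgi11) (kgi xgi5 ygi39 zgi54) (kgi xgi6 ygi35 zgi13) (kgi xgi3 ygi15 zgi28) (kgi xgi6 ygi35 zgi19)) (@D3.rec (fun _ => Pt) (kgi xgi1 ygi35 zgi7) (kgi xgi6 ygi35 zgi24) (kgi xgi1 ygi35 zgi4) (kgi xgi3 ygi8 zgi12) (kgi xgi6 ygi2 zgi12) (kgi xgi3 ygi15 zgi31) (kgi xgi6 ygi35 zgi29) (kgi xgi4 ygi48 zgi36) (kgi xgi1 ygi35 zgi14) (kgi xgi6 ygi35 zgi22) (kgi xgi6 ygi35 zgi38) (kgi xgi3 ygi2 zgi9) (kgi xgi4 ygi48 zgi32) (kgi xgi1 ygi34 zgi52) (kgi xgi4 ygi37 zgi40) (kgi xgi6 ygi33 zgi39) (kgi xgi6 ygi35 zgi53) (kgi xgi6 ygi35 zgi56) (kgi xgi6 ygi35 zgi60) (kgi xgi1 ygi34 zgi54) (kgi xgi1 ygi35 zgi37) (kgi xgi6 ygi36 zgi6) (kgi xgi1 ygi35 zgi34)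 (kgi xgi3 ygi42 zgi59) (kgi xgi3 ygi45 zgi11) (kgi xgi3 ygi17 zgi22) (kgi xgi6 ygi36 zgi9) (kgi xgi3 ygi14 zgi31) (kgi xgi1 ygi37 zgi36) (kgi xgi4 ygi47 zgi56) (kgi xgi3 ygi8 zgi14) (kgi xgi6 ygi36 zgi23) (kgi xgi6 ygi18 zgi26) (kgi xgi6 ygi36 zgi27) (kgi xgi1 ygi34 zgi60) (kgi xgi6 ygi33 zgi45) (kgi xgi3 ygi2 zgi25) (kgi xgi6 ygi36 zgi18) (kgi xgi6 ygi36 zgi38) (kgi xgi6 ygi33 zgi46) (kgi xgi6 ygi20 zgi21) (kgi xgi1 ygi35 zgi43) (kgi xgi6 ygi2 zgi20) (kgi xgi4 ygi38 zgi32) (kgi xgi2 ygi54 zgi17) (kgi xgi6 ygi36 zgi49) (kgi xgi1 ygi35 zgi2) (kgi xgi1 ygi35 zgi12) (kgi xgi6 ygi36 zgi57) (kgi xgi1 ygi35 zgi3) (kgi xgi6 ygi35 zgi21) (kgi xgi6 ygi37 zgi4) (kgi xgi6 ygi35 zgi18) (kgi xgi1 ygi35 zgi20) (kgi xgi6 ygi37 zgi10) (kgi xgi3 ygi18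 zgi29) (kgi xgi6 ygi35 zgi36) (kgi xgi6 ygi11 zgi34) (kgi xgi1 ygi35 zgi6) (kgi xgi4 ygi11 zgi15) (kgi xgi6 ygi37 zgi19) (kgi xgi4 ygi48 zgi8)) (@D3.rec (fun _ => Pt) (kgi xgi2 ygi19 zgi14) (kgi xgi6 ygi30 zgi28) (kgi xgi6 ygi37 zgi26) (kgi xgi1 ygi35 zgi21) (kgi xgi6 ygi37 zgi31) (kgi xgi4 ygi17 zgi34) (kgi xgi4 ygi13 zgi21) (kgi xgi4 ygi43 zgi43) (kgi xgi1 ygi35 zgi11) (kgi xgi6 ygi35 zgi14) (kgi xgi6 ygi35 zgi2) (kgi xgi6 ygi37 zgi41) (kgi xgi6 ygi37 zgi44) (kgi xgi6 ygi37 zgi48) (kgi xgi1 ygi35 zgi13) (kgi xgi6 ygi35 zgi31) (kgi xgi6 ygi37 zgi56) (kgi xgi3 ygi8 zgi16) (kgi xgi1 ygi35 zgi23) (kgi xgi6 ygi37 zgi61) (kgi xgi6 ygi21 zgi12) (kgi xgi6 ygi37 zgi60) (kgi xgi1 ygi35 zgi39) (kgi xgi1 ygi35 zgi16) (kgi xgi6 ygi35 zgi34)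 (kgi xgi6 ygi38 zgi9) (kgi xgi6 ygi35 zgi32) (kgi xgi1 ygi35 zgi18) (kgi xgi6 ygi28 zgi40) (kgi xgi6 ygi35 zgi37) (kgi xgi3 ygi29 zgi53) (kgi xgi6 ygi28 zgi38) (kgi xgi6 ygi38 zgi26) (kgi xgi6 ygi38 zgi30) (kgi xgi6 ygi38 zgi34) (kgi xgi4 ygi48 zgi1) (kgi xgi3 ygi7 zgi13) (kgi xgi6 ygi38 zgi40) (kgi xgi6 ygi38 zgi44) (kgi xgi6 ygi38 zgi48) (kgi xgi6 ygi32 zgi50) (kgi xgi6 ygi38 zgi51) (kgi xgi4 ygi34 zgi29) (kgi xgi3 ygi2 zgi6) (kgi xgi6 ygi2 zgi35) (kgi xgi6 ygi38 zgi13) (kgi xgi6 ygi38 zgi56) (kgi xgi6 ygi39 zgi3) (kgi xgi4 ygi38 zgi7) (kgi xgi6 ygi39 zgi8) (kgi xgi1 ygi35 zgi27) (kgi xgi4 ygi37 zgi41) (kgi xgi6 ygi30 zgi50) (kgi xgi6 ygi39 zgi19) (kgi xgi1 ygi35 zgi28) (kgi xgi6 ygi39 zgi10) (kgi xgi6 ygi39 zgi31) (kgi xgi6 ygi39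 zgi7) (kgi xgi6 ygi38 zgi19) (kgi xgi6 ygi39 zgi37) (kgi xgi6 ygi39 zgi41) (kgi xgi6 ygi39 zgi45)) (@D3.rec (fun _ => Pt) (kgi xgi6 ygi39 zgi48) (kgi xgi1 ygi35 zgi32) (kgi xgi6 ygi36 zgi0) (kgi xgi6 ygi39 zgi57) (kgi xgi6 ygi35 zgi59) (kgi xgi6 ygi40 zgi0) (kgi xgi6 ygi38 zgi20) (kgi xgi1 ygi49 zgi43) (kgi xgi6 ygi40 zgi9) (kgi xgi6 ygi33 zgi54) (kgi xgi6 ygi40 zgi13) (kgi xgi6 ygi26 zgi47) (kgi xgi6 ygi40 zgi8) (kgi xgi6 ygi37 zgi9) (kgi xgi1 ygi35 zgi36) (kgi xgi6 ygi36 zgi8) (kgi xgi6 ygi40 zgi30) (kgi xgi6 ygi36 zgi5) (kgi xgi6 ygi26 zgi43) (kgi xgi1 ygi35 zgi38) (kgi xgi6 ygi33 zgi43) (kgi xgi6 ygi40 zgi41) (kgi xgi6 ygi36 zgi21) (kgi xgi1 ygi35 zgi40) (kgi xgi6 ygi36 zgi45) (kgi xgi6 ygi40 zgi50) (kgi xgi1 ygi35 zgi41) (kgi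 xgi1 ygi35 zgi44) (kgi xgi6 ygi40 zgi56) (kgi xgi3 ygi18 zgi39) (kgi xgi3 ygi18 zgi33) (kgi xgi6 ygi30 zgi27) (kgi xgi6 ygi40 zgi60) (kgi xgi3 ygi13 zgi18) (kgi xgi6 ygi41 zgi1) (kgi xgi6 ygi41 zgi2) (kgi xgi6 ygi29 zgi26) (kgi xgi6 ygi29 zgi59) (kgi xgi3 ygi22 zgi41) (kgi xgi1 ygi35 zgi45) (kgi xgi3 ygi15 zgi43) (kgi xgi6 ygi33 zgi48) (kgi xgi3 ygi45 zgi6) (kgi xgi6 ygi41 zgi16) (kgi xgi3 ygi11 zgi17) (kgi xgi6 ygi37 zgi12) (kgi xgi1 ygi35 zgi49) (kgi xgi6 ygi33 zgi50) (kgi xgi6 ygi41 zgi26) (kgi xgi3 ygi35 zgi20) (kgi xgi6 ygi41 zgi32) (kgi xgi6 ygi41 zgi31) (kgi xgi6 ygi10 zgi0) (kgi xgi1 ygi35 zgi57) (kgi xgi6 ygi9 zgi54) (kgi xgi6 ygi41 zgi44) (kgi xgi6 ygi41 zgi48) (kgi xgi6 ygi41 zgi52) (kgi xgi6 ygi41 zgi55) (kgi xgi1 ygi35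 zgi59) (kgi xgi1 ygi36 zgi5) (kgi xgi6 ygi42 zgi0)) (@D3.rec (fun _ => Pt) (kgi xgi1 ygi36 zgi2) (kgi xgi6 ygi42 zgi3) (kgi xgi4 ygi50 zgi7) (kgi xgi6 ygi42 zgi9) (kgi xgi4 ygi49 zgi58) (kgi xgi1 ygi36 zgi0) (kgi xgi1 ygi53 zgi44) (kgi xgi6 ygi42 zgi15) (kgi xgi1 ygi36 zgi1) (kgi xgi6 ygi41 zgi57) (kgi xgi6 ygi29 zgi42) (kgi xgi6 ygi41 zgi54) (kgi xgi6 ygi25 zgi38) (kgi xgi6 ygi30 zgi49) (kgi xgi6 ygi42 zgi31) (kgi xgi3 ygi21 zgi21) (kgi xgi4 ygi45 zgi33) (kgi xgi6 ygi42 zgi27) (kgi xgi6 ygi42 zgi30) (kgi xgi1 ygi36 zgi4) (kgi xgi4 ygi52 zgi34) (kgi xgi6 ygi27 zgi40) (kgi xgi6 ygi41 zgi61) (kgi xgi4 ygi45 zgi12) (kgi xgi6 ygi12 zgi50) (kgi xgi1 ygi37 zgi8) (kgi xgi1 ygi36 zgi9) (kgi xgi6 ygi21 zgi43) (kgi xgi1 ygi37 zgi17) (kgi xgi6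 ygi21 zgi42) (kgi xgi1 ygi37 zgi27) (kgi xgi1 ygi36 zgi10) (kgi xgi3 ygi6 zgi5) (kgi xgi4 ygi44 zgi61) (kgi xgi4 ygi45 zgi4) (kgi xgi2 ygi17 zgi41) (kgi xgi1 ygi36 zgi13) (kgi xgi4 ygi48 zgi11) (kgi xgi6 ygi43 zgi1) (kgi xgi6 ygi3 zgi32) (kgi xgi3 ygi8 zgi49) (kgi xgi3 ygi22 zgi27) (kgi xgi6 ygi43 zgi11) (kgi xgi1 ygi51 zgi17) (kgi xgi6 ygi43 zgi15) (kgi xgi6 ygi42 zgi51) (kgi xgi6 ygi43 zgi20) (kgi xgi1 ygi37 zgi6) (kgi xgi4 ygi45 zgi8) (kgi xgi1 ygi36 zgi19) (kgi xgi6 ygi43 zgi26) (kgi xgi1 ygi36 zgi20) (kgi xgi4 ygi47 zgi25) (kgi xgi6 ygi43 zgi34) (kgi xgi4 ygi45 zgi35) (kgi xgi4 ygi47 zgi12) (kgi xgi4 ygi47 zgi28) (kgi xgi1 ygi36 zgi22) (kgi xgi4 ygi47 zgi26) (kgi xgi6 ygi43 zgi47) (kgi xgi6 ygi43 zgi17) (kgi xgi1 ygi36 zgi24))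 (@D3.rec (fun _ => Pt) (kgi xgi1 ygi36 zgi26) (kgi xgi6 ygi26 zgi38) (kgi xgi4 ygi46 zgi32) (kgi xgi4 ygi50 zgi10) (kgi xgi6 ygi26 zgi37) (kgi xgi3 ygi3 zgi10) (kgi xgi4 ygi50 zgi6) (kgi xgi4 ygi46 zgi14) (kgi xgi3 ygi6 zgi7) (kgi xgi1 ygi36 zgi30) (kgi xgi4 ygi48 zgi40) (kgi xgi6 ygi44 zgi4) (kgi xgi6 ygi44 zgi9) (kgi xgi3 ygi11 zgi26) (kgi xgi4 ygi48 zgi6) (kgi xgi4 ygi37 zgi46) (kgi xgi3 ygi23 zgi36) (kgi xgi6 ygi44 zgi17) (kgi xgi1 ygi36 zgi33) (kgi xgi1 ygi36 zgi35) (kgi xgi6 ygi44 zgi24) (kgi xgi6 ygi44 zgi27) (kgi xgi1 ygi36 zgi34) (kgi xgi4 ygi37 zgi58) (kgi xgi3 ygi45 zgi4) (kgi xgi6 ygi44 zgi23) (kgi xgi6 ygi44 zgi37) (kgi xgi4 ygi37 zgi54) (kgi xgi6 ygi44 zgi42) (kgi xgi4 ygi37 zgi51) (kgi xgi1 ygi36 zgi37) (kgi xgi1 ygi36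 zgi41) (kgi xgi1 ygi36 zgi38) (kgi xgi6 ygi44 zgi14) (kgi xgi6 ygi44 zgi22) (kgi xgi6 ygi44 zgi57) (kgi xgi6 ygi25 zgi60) (kgi xgi2 ygi39 zgi54) (kgi xgi6 ygi44 zgi54) (kgi xgi6 ygi44 zgi56) (kgi xgi6 ygi44 zgi31) (kgi xgi6 ygi45 zgi9) (kgi xgi1 ygi36 zgi42) (kgi xgi4 ygi35 zgi17) (kgi xgi6 ygi2 zgi19) (kgi xgi6 ygi45 zgi18) (kgi xgi6 ygi45 zgi22) (kgi xgi1 ygi36 zgi43) (kgi xgi1 ygi36 zgi46) (kgi xgi6 ygi45 zgi31) (kgi xgi6 ygi45 zgi35) (kgi xgi3 ygi2 zgi42) (kgi xgi3 ygi21 zgi34) (kgi xgi4 ygi49 zgi14) (kgi xgi4 ygi49 zgi13) (kgi xgi6 ygi1 zgi58) (kgi xgi6 ygi45 zgi47) (kgi xgi6 ygi45 zgi51) (kgi xgi6 ygi45 zgi30) (kgi xgi5 ygi39 zgi38) (kgi xgi1 ygi36 zgi47) (kgi xgi3 ygi14 zgi27)) (@D3.rec (fun _ => Pt) (kgi xgi5 ygi55 zgi45)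 (kgi xgi3 ygi24 zgi9) (kgi xgi4 ygi35 zgi43) (kgi xgi6 ygi45 zgi60) (kgi xgi6 ygi45 zgi40) (kgi xgi6 ygi45 zgi56) (kgi xgi6 ygi46 zgi5) (kgi xgi1 ygi36 zgi50) (kgi xgi4 ygi49 zgi40) (kgi xgi6 ygi46 zgi9) (kgi xgi6 ygi12 zgi14) (kgi xgi4 ygi49 zgi36) (kgi xgi5 ygi46 zgi18) (kgi xgi5 ygi6 zgi58) (kgi xgi3 ygi42 zgi7) (kgi xgi3 ygi21 zgi22) (kgi xgi1 ygi36 zgi54) (kgi xgi1 ygi38 zgi9) (kgi xgi1 ygi36 zgi55) (kgi xgi2 ygi21 zgi29) (kgi xgi3 ygi23 zgi45) (kgi xgi6 ygi31 zgi16) (kgi xgi1 ygi36 zgi56) (kgi xgi6 ygi46 zgi26) (kgi xgi1 ygi59 zgi58) (kgi xgi2 ygi59 zgi18) (kgi xgi6 ygi46 zgi34) (kgi xgi1 ygi36 zgi59) (kgi xgi1 ygi37 zgi10) (kgi xgi6 ygi45 zgi28) (kgi xgi6 ygi46 zgi42) (kgi xgi2 ygi22 zgi41) (kgi xgi5 ygi47 zgi13) (kgi xgi3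 ygi20 zgi52) (kgi xgi2 ygi22 zgi28) (kgi xgi2 ygi17 zgi36) (kgi xgi6 ygi46 zgi52) (kgi xgi2 ygi49 zgi29) (kgi xgi3 ygi13 zgi3) (kgi xgi4 ygi47 zgi2) (kgi xgi4 ygi49 zgi43) (kgi xgi3 ygi14 zgi25) (kgi xgi4 ygi47 zgi19) (kgi xgi6 ygi47 zgi2) (kgi xgi6 ygi47 zgi7) (kgi xgi6 ygi47 zgi11) (kgi xgi6 ygi19 zgi59) (kgi xgi4 ygi45 zgi27) (kgi xgi4 ygi49 zgi49) (kgi xgi4 ygi49 zgi48) (kgi xgi6 ygi47 zgi21) (kgi xgi6 ygi47 zgi25) (kgi xgi6 ygi45 zgi26) (kgi xgi5 ygi52 zgi37) (kgi xgi2 ygi12 zgi0) (kgi xgi4 ygi43 zgi49) (kgi xgi6 ygi47 zgi33) (kgi xgi5 ygi51 zgi50) (kgi xgi4 ygi50 zgi15) (kgi xgi3 ygi11 zgi8) (kgi xgi6 ygi47 zgi40) (kgi xgi4 ygi45 zgi30)) (@D3.rec (fun _ => Pt) (kgi xgi1 ygi37 zgi19) (kgi xgi6 ygi47 zgi43) (kgi xgi6 ygi42 zgi55)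 (kgi xgi6 ygi30 zgi26) (kgi xgi3 ygi43 zgi6) (kgi xgi3 ygi8 zgi22) (kgi xgi6 ygi47 zgi50) (kgi xgi4 ygi46 zgi10) (kgi xgi6 ygi23 zgi23) (kgi xgi1 ygi37 zgi22) (kgi xgi4 ygi50 zgi3) (kgi xgi6 ygi47 zgi60) (kgi xgi5 ygi11 zgi2) (kgi xgi1 ygi37 zgi23) (kgi xgi3 ygi42 zgi47) (kgi xgi6 ygi48 zgi7) (kgi xgi6 ygi48 zgi11) (kgi xgi3 ygi1 zgi15) (kgi xgi6 ygi48 zgi16) (kgi xgi6 ygi48 zgi21) (kgi xgi6 ygi48 zgi23) (kgi xgi6 ygi48 zgi27) (kgi xgi4 ygi48 zgi41) (kgi xgi6 ygi19 zgi15) (kgi xgi6 ygi48 zgi33) (kgi xgi6 ygi48 zgi36) (kgi xgi6 ygi23 zgi50) (kgi xgi1 ygi37 zgi30) (kgi xgi3 ygi19 zgi41) (kgi xgi4 ygi50 zgi25) (kgi xgi6 ygi23 zgi34) (kgi xgi6 ygi48 zgi45) (kgi xgi1 ygi37 zgi32) (kgi xgi6 ygi13 zgi3) (kgi xgi6 ygi13 zgi1) (kgi xgi6 ygi40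 zgi7) (kgi xgi3 ygi15 zgi14) (kgi xgi2 ygi18 zgi22) (kgi xgi3 ygi14 zgi39) (kgi xgi3 ygi11 zgi16) (kgi xgi6 ygi10 zgi24) (kgi xgi3 ygi18 zgi28) (kgi xgi1 ygi37 zgi37) (kgi xgi6 ygi48 zgi60) (kgi xgi6 ygi40 zgi17) (kgi xgi3 ygi7 zgi38) (kgi xgi2 ygi19 zgi57) (kgi xgi3 ygi1 zgi31) (kgi xgi6 ygi28 zgi9) (kgi xgi6 ygi49 zgi13) (kgi xgi1 ygi38 zgi38) (kgi xgi3 ygi1 zgi4) (kgi xgi1 ygi38 zgi5) (kgi xgi3 ygi42 zgi4) (kgi xgi1 ygi37 zgi54) (kgi xgi3 ygi14 zgi18) (kgi xgi1 ygi37 zgi51) (kgi xgi2 ygi19 zgi41) (kgi xgi2 ygi20 zgi1) (kgi xgi4 ygi37 zgi15) (kgi xgi5 ygi59 zgi34) (kgi xgi1 ygi48 zgi42)) (@D3.rec (fun _ => Pt) (kgi xgi2 ygi19 zgi10) (kgi xgi3 ygi13 zgi43) (kgi xgi3 ygi8 zgi38) (kgi xgi3 ygi25 zgi29) (kgi xgi2 ygi19 zgi29) (kgi xgi1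 ygi38 zgi10) (kgi xgi6 ygi49 zgi38) (kgi xgi3 ygi21 zgi20) (kgi xgi1 ygi37 zgi60) (kgi xgi1 ygi38 zgi13) (kgi xgi1 ygi38 zgi11) (kgi xgi6 ygi37 zgi1) (kgi xgi1 ygi38 zgi0) (kgi xgi1 ygi38 zgi3) (kgi xgi2 ygi55 zgi5) (kgi xgi6 ygi49 zgi51) (kgi xgi1 ygi38 zgi1) (kgi xgi3 ygi8 zgi51) (kgi xgi2 ygi18 zgi20) (kgi xgi2 ygi19 zgi53) (kgi xgi2 ygi19 zgi55) (kgi xgi6 ygi43 zgi31) (kgi xgi6 ygi50 zgi3) (kgi xgi2 ygi55 zgi36) (kgi xgi6 ygi50 zgi7) (kgi xgi3 ygi11 zgi7) (kgi xgi6 ygi50 zgi11) (kgi xgi1 ygi46 zgi58) (kgi xgi6 ygi50 zgi15) (kgi xgi3 ygi6 zgi54) (kgi xgi3 ygi8 zgi39) (kgi xgi6 ygi50 zgi19) (kgi xgi3 ygi24 zgi43) (kgi xgi6 ygi42 zgi7) (kgi xgi1 ygi38 zgi7) (kgi xgi3 ygi59 zgi39) (kgi xgi3 ygi59 zgi47) (kgi xgi3 ygi10 zgi43) (kgi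 xgi6 ygi50 zgi32) (kgi xgi1 ygi38 zgi8) (kgi xgi1 ygi40 zgi16) (kgi xgi6 ygi50 zgi38) (kgi xgi3 ygi50 zgi60) (kgi xgi6 ygi46 zgi18) (kgi xgi6 ygi8 zgi6) (kgi xgi4 ygi47 zgi15) (kgi xgi4 ygi48 zgi13) (kgi xgi3 ygi38 zgi11) (kgi xgi6 ygi46 zgi19) (kgi xgi3 ygi40 zgi28) (kgi xgi1 ygi47 zgi11) (kgi xgi6 ygi47 zgi0) (kgi xgi6 ygi46 zgi20) (kgi xgi1 ygi48 zgi3) (kgi xgi6 ygi30 zgi8) (kgi xgi6 ygi49 zgi17) (kgi xgi1 ygi38 zgi14) (kgi xgi6 ygi49 zgi18) (kgi xgi1 ygi44 zgi22) (kgi xgi3 ygi9 zgi5) (kgi xgi6 ygi44 zgi13) (kgi xgi3 ygi8 zgi42)) (@D3.rec (fun _ => Pt) (kgi xgi4 ygi34 zgi27) (kgi xgi5 ygi53 zgi42) (kgi xgi5 ygi48 zgi54) (kgi xgi6 ygi46 zgi25) (kgi xgi1 ygi38 zgi20) (kgi xgi6 ygi46 zgi27) (kgi xgi6 ygi51 zgi15) (kgi xgi1 ygi38 zgi21)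 (kgi xgi4 ygi49 zgi47) (kgi xgi3 ygi21 zgi5) (kgi xgi1 ygi38 zgi22) (kgi xgi2 ygi19 zgi12) (kgi xgi3 ygi7 zgi44) (kgi xgi2 ygi57 zgi9) (kgi xgi2 ygi19 zgi15) (kgi xgi3 ygi10 zgi52) (kgi xgi2 ygi18 zgi10) (kgi xgi3 ygi15 zgi20) (kgi xgi2 ygi19 zgi46) (kgi xgi3 ygi19 zgi16) (kgi xgi1 ygi38 zgi34) (kgi xgi3 ygi43 zgi2) (kgi xgi6 ygi51 zgi24) (kgi xgi1 ygi41 zgi23) (kgi xgi3 ygi13 zgi40) (kgi xgi6 ygi9 zgi21) (kgi xgi3 ygi25 zgi59) (kgi xgi3 ygi29 zgi0) (kgi xgi1 ygi52 zgi17) (kgi xgi6 ygi51 zgi35) (kgi xgi1 ygi38 zgi41) (kgi xgi1 ygi38 zgi52) (kgi xgi1 ygi38 zgi50) (kgi xgi1 ygi38 zgi45) (kgi xgi5 ygi51 zgi23) (kgi xgi3 ygi55 zgi39) (kgi xgi6 ygi51 zgi44) (kgi xgi3 ygi38 zgi21) (kgi xgi3 ygi29 zgi22) (kgi xgi3 ygi40 zgi25) (kgi xgi3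 ygi41 zgi53) (kgi xgi6 ygi51 zgi52) (kgi xgi1 ygi46 zgi53) (kgi xgi3 ygi23 zgi29) (kgi xgi5 ygi57 zgi16) (kgi xgi1 ygi38 zgi49) (kgi xgi6 ygi51 zgi37) (kgi xgi6 ygi52 zgi3) (kgi xgi3 ygi30 zgi37) (kgi xgi3 ygi15 zgi22) (kgi xgi6 ygi51 zgi40) (kgi xgi1 ygi46 zgi54) (kgi xgi3 ygi31 zgi35) (kgi xgi3 ygi35 zgi34) (kgi xgi6 ygi52 zgi8) (kgi xgi6 ygi52 zgi12) (kgi xgi1 ygi54 zgi3) (kgi xgi1 ygi46 zgi41) (kgi xgi1 ygi46 zgi51) (kgi xgi3 ygi39 zgi3) (kgi xgi3 ygi39 zgi30) (kgi xgi3 ygi37 zgi29)) (@D3.rec (fun _ => Pt) (kgi xgi6 ygi18 zgi34) (kgi xgi3 ygi42 zgi33) (kgi xgi3 ygi42 zgi49) (kgi xgi3 ygi39 zgi61) (kgi xgi3 ygi56 zgi47) (kgi xgi1 ygi39 zgi3) (kgi xgi3 ygi39 zgi60) (kgi xgi1 ygi44 zgi19) (kgi xgi1 ygi46 zgi46) (kgi xgi6 ygi51 zgi27)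 (kgi xgi1 ygi39 zgi7) (kgi xgi3 ygi42 zgi48) (kgi xgi3 ygi52 zgi10) (kgi xgi6 ygi52 zgi41) (kgi xgi3 ygi25 zgi3) (kgi xgi6 ygi29 zgi31) (kgi xgi1 ygi40 zgi57) (kgi xgi3 ygi40 zgi20) (kgi xgi3 ygi24 zgi42) (kgi xgi3 ygi26 zgi7) (kgi xgi1 ygi39 zgi17) (kgi xgi3 ygi26 zgi10) (kgi xgi6 ygi52 zgi38) (kgi xgi3 ygi31 zgi58) (kgi xgi3 ygi47 zgi55) (kgi xgi6 ygi52 zgi61) (kgi xgi1 ygi39 zgi21) (kgi xgi3 ygi15 zgi26) (kgi xgi3 ygi15 zgi25) (kgi xgi3 ygi23 zgi1) (kgi xgi3 ygi35 zgi6) (kgi xgi1 ygi49 zgi30) (kgi xgi4 ygi7 zgi18) (kgi xgi6 ygi7 zgi11) (kgi xgi6 ygi53 zgi6) (kgi xgi1 ygi54 zgi27) (kgi xgi6 ygi51 zgi39) (kgi xgi1 ygi54 zgi31) (kgi xgi3 ygi31 zgi18) (kgi xgi1 ygi39 zgi28) (kgi xgi6 ygi51 zgi41) (kgi xgi2 ygi51 zgi58) (kgi xgi2 ygi50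 zgi5) (kgi xgi6 ygi53 zgi19) (kgi xgi1 ygi39 zgi29) (kgi xgi1 ygi39 zgi44) (kgi xgi6 ygi53 zgi25) (kgi xgi1 ygi39 zgi30) (kgi xgi3 ygi39 zgi4) (kgi xgi6 ygi53 zgi34) (kgi xgi6 ygi51 zgi49) (kgi xgi3 ygi30 zgi4) (kgi xgi1 ygi44 zgi26) (kgi xgi3 ygi54 zgi0) (kgi xgi1 ygi40 zgi26) (kgi xgi6 ygi27 zgi28) (kgi xgi3 ygi31 zgi17) (kgi xgi6 ygi53 zgi45) (kgi xgi1 ygi47 zgi2) (kgi xgi3 ygi31 zgi55) (kgi xgi1 ygi39 zgi38) (kgi xgi3 ygi28 zgi28)) (@D3.rec (fun _ => Pt) (kgi xgi6 ygi53 zgi55) (kgi xgi1 ygi42 zgi33) (kgi xgi1 ygi39 zgi43) (kgi xgi3 ygi45 zgi46) (kgi xgi3 ygi45 zgi61) (kgi xgi3 ygi46 zgi8) (kgi xgi2 ygi56 zgi15) (kgi xgi1 ygi39 zgi45) (kgi xgi3 ygi25 zgi19) (kgi xgi6 ygi54 zgi14) (kgi xgi3 ygi25 zgi20) (kgi xgi3 ygi31 zgi16) (kgi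 xgi3 ygi47 zgi39) (kgi xgi6 ygi54 zgi21) (kgi xgi1 ygi40 zgi21) (kgi xgi6 ygi54 zgi27) (kgi xgi1 ygi40 zgi18) (kgi xgi1 ygi45 zgi6) (kgi xgi3 ygi40 zgi26) (kgi xgi3 ygi26 zgi57) (kgi xgi6 ygi54 zgi31) (kgi xgi1 ygi39 zgi53) (kgi xgi3 ygi50 zgi12) (kgi xgi3 ygi50 zgi11) (kgi xgi6 ygi54 zgi41) (kgi xgi3 ygi43 zgi45) (kgi xgi1 ygi40 zgi27) (kgi xgi1 ygi39 zgi56) (kgi xgi3 ygi50 zgi27) (kgi xgi2 ygi50 zgi16) (kgi xgi6 ygi54 zgi50) (kgi xgi1 ygi40 zgi3) (kgi xgi6 ygi54 zgi54) (kgi xgi1 ygi39 zgi58) (kgi xgi3 ygi34 zgi58) (kgi xgi6 ygi55 zgi1) (kgi xgi3 ygi55 zgi50) (kgi xgi1 ygi40 zgi10) (kgi xgi1 ygi47 zgi49) (kgi xgi6 ygi55 zgi7) (kgi xgi6 ygi55 zgi11) (kgi xgi1 ygi48 zgi53) (kgi xgi3 ygi54 zgi55) (kgi xgi1 ygi40 zgi1) (kgi xgi6 ygi55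 zgi9) (kgi xgi6 ygi55 zgi19) (kgi xgi1 ygi45 zgi31) (kgi xgi1 ygi40 zgi2) (kgi xgi3 ygi48 zgi27) (kgi xgi3 ygi48 zgi40) (kgi xgi3 ygi48 zgi49) (kgi xgi6 ygi55 zgi30) (kgi xgi1 ygi40 zgi4) (kgi xgi3 ygi37 zgi58) (kgi xgi6 ygi55 zgi39) (kgi xgi3 ygi55 zgi43) (kgi xgi3 ygi37 zgi60) (kgi xgi1 ygi40 zgi25) (kgi xgi3 ygi31 zgi48) (kgi xgi6 ygi55 zgi48) (kgi xgi3 ygi31 zgi40) (kgi xgi1 ygi40 zgi8)) (@D3.rec (fun _ => Pt) (kgi xgi3 ygi50 zgi48) (kgi xgi3 ygi50 zgi24) (kgi xgi3 ygi36 zgi45) (kgi xgi6 ygi55 zgi60) (kgi xgi6 ygi56 zgi2) (kgi xgi1 ygi40 zgi9) (kgi xgi6 ygi56 zgi7) (kgi xgi3 ygi55 zgi35) (kgi xgi1 ygi44 zgi11) (kgi xgi1 ygi40 zgi11) (kgi xgi3 ygi14 zgi60) (kgi xgi3 ygi48 zgi11) (kgi xgi6 ygi56 zgi18) (kgi xgi6 ygi56 zgi22) (kgi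 xgi6 ygi56 zgi26) (kgi xgi3 ygi37 zgi59) (kgi xgi6 ygi32 zgi53) (kgi xgi6 ygi56 zgi32) (kgi xgi4 ygi46 zgi39) (kgi xgi6 ygi56 zgi37) (kgi xgi6 ygi56 zgi41) (kgi xgi6 ygi56 zgi44) (kgi xgi6 ygi55 zgi56) (kgi xgi6 ygi56 zgi52) (kgi xgi3 ygi56 zgi49) (kgi xgi6 ygi56 zgi57) (kgi xgi6 ygi56 zgi51) (kgi xgi3 ygi34 zgi45) (kgi xgi1 ygi40 zgi20) (kgi xgi6 ygi54 zgi29) (kgi xgi6 ygi57 zgi11) (kgi xgi6 ygi54 zgi26) (kgi xgi1 ygi40 zgi22) (kgi xgi6 ygi57 zgi16) (kgi xgi6 ygi57 zgi19) (kgi xgi1 ygi40 zgi23) (kgi xgi6 ygi54 zgi47) (kgi xgi6 ygi57 zgi27) (kgi xgi6 ygi57 zgi29) (kgi xgi1 ygi40 zgi24) (kgi xgi6 ygi57 zgi33) (kgi xgi1 ygi44 zgi29) (kgi xgi3 ygi51 zgi57) (kgi xgi3 ygi56 zgi14) (kgi xgi1 ygi54 zgi47) (kgi xgi6 ygi57 zgi43) (kgi xgi3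 ygi34 zgi3) (kgi xgi6 ygi57 zgi46) (kgi xgi6 ygi57 zgi26) (kgi xgi6 ygi54 zgi59) (kgi xgi6 ygi57 zgi32) (kgi xgi6 ygi48 zgi4) (kgi xgi6 ygi52 zgi32) (kgi xgi1 ygi42 zgi45) (kgi xgi6 ygi51 zgi23) (kgi xgi1 ygi40 zgi34) (kgi xgi3 ygi31 zgi53) (kgi xgi6 ygi58 zgi3) (kgi xgi3 ygi44 zgi20) (kgi xgi3 ygi33 zgi24) (kgi xgi1 ygi45 zgi20) (kgi xgi3 ygi28 zgi6)) (@D3.rec (fun _ => Pt) (kgi xgi3 ygi28 zgi4) (kgi xgi1 ygi40 zgi37) (kgi xgi6 ygi58 zgi17) (kgi xgi3 ygi53 zgi48) (kgi xgi1 ygi40 zgi38) (kgi xgi3 ygi37 zgi12) (kgi xgi1 ygi40 zgi39) (kgi xgi3 ygi36 zgi39) (kgi xgi3 ygi28 zgi1) (kgi xgi1 ygi43 zgi45) (kgi xgi3 ygi27 zgi60) (kgi xgi6 ygi58 zgi34) (kgi xgi6 ygi58 zgi38) (kgi xgi1 ygi54 zgi61) (kgi xgi1 ygi47 zgi48) (kgi xgi6 ygi58 zgi42)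 (kgi xgi6 ygi58 zgi45) (kgi xgi1 ygi40 zgi46) (kgi xgi1 ygi42 zgi1) (kgi xgi1 ygi42 zgi2) (kgi xgi1 ygi53 zgi30) (kgi xgi1 ygi45 zgi41) (kgi xgi1 ygi49 zgi41) (kgi xgi3 ygi34 zgi30) (kgi xgi6 ygi58 zgi54) (kgi xgi1 ygi48 zgi13) (kgi xgi1 ygi40 zgi55) (kgi xgi3 ygi7 zgi25) (kgi xgi3 ygi25 zgi60) (kgi xgi6 ygi52 zgi46) (kgi xgi3 ygi25 zgi23) (kgi xgi3 ygi32 zgi9) (kgi xgi6 ygi58 zgi58) (kgi xgi1 ygi41 zgi6) (kgi xgi2 ygi19 zgi59) (kgi xgi6 ygi59 zgi1) (kgi xgi3 ygi7 zgi60) (kgi xgi4 ygi43 zgi59) (kgi xgi3 ygi7 zgi61) (kgi xgi1 ygi41 zgi2) (kgi xgi6 ygi49 zgi45) (kgi xgi3 ygi6 zgi32) (kgi xgi6 ygi29 zgi60) (kgi xgi3 ygi8 zgi19) (kgi xgi3 ygi31 zgi4) (kgi xgi1 ygi41 zgi13) (kgi xgi3 ygi10 zgi35) (kgi xgi1 ygi41 zgi8) (kgi xgi1 ygi53 zgi28)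 (kgi xgi6 ygi59 zgi16) (kgi xgi6 ygi59 zgi20) (kgi xgi6 ygi58 zgi51) (kgi xgi1 ygi43 zgi57) (kgi xgi1 ygi41 zgi11) (kgi xgi1 ygi41 zgi28) (kgi xgi3 ygi8 zgi17) (kgi xgi6 ygi59 zgi27) (kgi xgi3 ygi8 zgi13) (kgi xgi6 ygi9 zgi61) (kgi xgi1 ygi41 zgi14) (kgi xgi6 ygi59 zgi35) (kgi xgi6 ygi59 zgi39)) (@D3.rec (fun _ => Pt) (kgi xgi1 ygi41 zgi15) (kgi xgi3 ygi24 zgi27) (kgi xgi6 ygi58 zgi41) (kgi xgi3 ygi47 zgi35) (kgi xgi6 ygi59 zgi52) (kgi xgi6 ygi59 zgi56) (kgi xgi1 ygi41 zgi17) (kgi xgi1 ygi41 zgi53) (kgi xgi3 ygi52 zgi2) (kgi xgi1 ygi41 zgi50) (kgi xgi1 ygi42 zgi60) (kgi xgi1 ygi49 zgi59) (kgi xgi1 ygi50 zgi34) (kgi xgi3 ygi32 zgi26) (kgi xgi6 ygi58 zgi55) (kgi xgi7 ygi0 zgi7) (kgi xgi3 ygi31 zgi36) (kgi xgi1 ygi49 zgi16) (kgi xgi3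 ygi45 zgi14) (kgi xgi3 ygi37 zgi43) (kgi xgi7 ygi0 zgi17) (kgi xgi6 ygi58 zgi49) (kgi xgi3 ygi26 zgi3) (kgi xgi1 ygi41 zgi60) (kgi xgi7 ygi0 zgi25) (kgi xgi1 ygi41 zgi27) (kgi xgi1 ygi41 zgi33) (kgi xgi7 ygi0 zgi32) (kgi xgi1 ygi44 zgi1) (kgi xgi7 ygi0 zgi38) (kgi xgi3 ygi45 zgi1) (kgi xgi7 ygi0 zgi41) (kgi xgi1 ygi45 zgi10) (kgi xgi3 ygi38 zgi22) (kgi xgi1 ygi41 zgi31) (kgi xgi7 ygi0 zgi39) (kgi xgi1 ygi47 zgi46) (kgi xgi1 ygi41 zgi32) (kgi xgi1 ygi50 zgi26) (kgi xgi1 ygi50 zgi24) (kgi xgi6 ygi43 zgi19) (kgi xgi7 ygi0 zgi55) (kgi xgi7 ygi0 zgi59) (kgi xgi1 ygi41 zgi34) (kgi xgi1 ygi50 zgi10) (kgi xgi7 ygi1 zgi7) (kgi xgi1 ygi50 zgi7) (kgi xgi3 ygi37 zgi49) (kgi xgi1 ygi41 zgi58) (kgi xgi1 ygi41 zgi37) (kgi xgi6 ygi34 zgi7) (kgi xgi6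 ygi34 zgi5) (kgi xgi3 ygi41 zgi1) (kgi xgi7 ygi1 zgi22) (kgi xgi7 ygi1 zgi25) (kgi xgi7 ygi1 zgi28) (kgi xgi1 ygi44 zgi8) (kgi xgi1 ygi41 zgi40) (kgi xgi6 ygi34 zgi55) (kgi xgi5 ygi58 zgi40) (kgi xgi6 ygi0 zgi1) (kgi xgi7 ygi1 zgi38)) (@D3.rec (fun _ => Pt) (kgi xgi7 ygi1 zgi42) (kgi xgi7 ygi1 zgi46) (kgi xgi1 ygi50 zgi11) (kgi xgi7 ygi1 zgi49) (kgi xgi1 ygi46 zgi31) (kgi xgi7 ygi1 zgi54) (kgi xgi3 ygi55 zgi48) (kgi xgi2 ygi17 zgi22) (kgi xgi1 ygi41 zgi46) (kgi xgi7 ygi1 zgi56) (kgi xgi7 ygi2 zgi3) (kgi xgi7 ygi1 zgi53) (kgi xgi7 ygi2 zgi7) (kgi xgi3 ygi17 zgi31) (kgi xgi1 ygi41 zgi48) (kgi xgi6 ygi59 zgi58) (kgi xgi7 ygi2 zgi18) (kgi xgi6 ygi59 zgi55) (kgi xgi7 ygi2 zgi23) (kgi xgi7 ygi1 zgi17) (kgi xgi1 ygi42 zgi59) (kgi xgi7 ygi2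 zgi34) (kgi xgi7 ygi2 zgi37) (kgi xgi7 ygi2 zgi40) (kgi xgi6 ygi34 zgi4) (kgi xgi7 ygi2 zgi33) (kgi xgi3 ygi36 zgi27) (kgi xgi1 ygi41 zgi52) (kgi xgi7 ygi0 zgi4) (kgi xgi7 ygi2 zgi56) (kgi xgi7 ygi0 zgi2) (kgi xgi6 ygi58 zgi44) (kgi xgi1 ygi41 zgi54) (kgi xgi6 ygi58 zgi47) (kgi xgi7 ygi3 zgi7) (kgi xgi1 ygi41 zgi55) (kgi xgi1 ygi48 zgi58) (kgi xgi3 ygi24 zgi29) (kgi xgi7 ygi0 zgi15) (kgi xgi7 ygi3 zgi17) (kgi xgi1 ygi41 zgi56) (kgi xgi6 ygi33 zgi10) (kgi xgi7 ygi3 zgi25) (kgi xgi7 ygi3 zgi28) (kgi xgi1 ygi41 zgi57) (kgi xgi7 ygi0 zgi36) (kgi xgi3 ygi34 zgi57) (kgi xgi3 ygi37 zgi36) (kgi xgi1 ygi53 zgi16) (kgi xgi1 ygi47 zgi58) (kgi xgi3 ygi35 zgi37) (kgi xgi3 ygi35 zgi38) (kgi xgi3 ygi35 zgi51) (kgi xgi7 ygi3 zgi43) (kgi xgi3 ygi44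 zgi25) (kgi xgi7 ygi3 zgi47) (kgi xgi7 ygi3 zgi24) (kgi xgi3 ygi49 zgi15) (kgi xgi7 ygi3 zgi32) (kgi xgi1 ygi51 zgi28) (kgi xgi1 ygi49 zgi32) (kgi xgi1 ygi50 zgi0)) (@D3.rec (fun _ => Pt) (kgi xgi3 ygi39 zgi2) (kgi xgi3 ygi36 zgi2) (kgi xgi7 ygi0 zgi21) (kgi xgi1 ygi50 zgi13) (kgi xgi3 ygi28 zgi45) (kgi xgi3 ygi28 zgi59) (kgi xgi3 ygi24 zgi61) (kgi xgi1 ygi42 zgi7) (kgi xgi1 ygi49 zgi25) (kgi xgi7 ygi4 zgi10) (kgi xgi1 ygi42 zgi8) (kgi xgi1 ygi42 zgi11) (kgi xgi1 ygi42 zgi9) (kgi xgi3 ygi25 zgi25) (kgi xgi3 ygi25 zgi38) (kgi xgi3 ygi31 zgi34) (kgi xgi3 ygi38 zgi2) (kgi xgi3 ygi32 zgi6) (kgi xgi7 ygi4 zgi15) (kgi xgi3 ygi25 zgi53) (kgi xgi1 ygi46 zgi14) (kgi xgi3 ygi38 zgi31) (kgi xgi3 ygi43 zgi51) (kgi xgi1 ygi47 zgi34) (kgi xgi3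 ygi31 zgi45) (kgi xgi3 ygi31 zgi15) (kgi xgi1 ygi42 zgi17) (kgi xgi1 ygi47 zgi37) (kgi xgi7 ygi4 zgi36) (kgi xgi7 ygi4 zgi40) (kgi xgi1 ygi42 zgi18) (kgi xgi3 ygi44 zgi21) (kgi xgi1 ygi42 zgi19) (kgi xgi6 ygi55 zgi46) (kgi xgi1 ygi47 zgi53) (kgi xgi3 ygi55 zgi32) (kgi xgi3 ygi29 zgi12) (kgi xgi3 ygi40 zgi54) (kgi xgi3 ygi31 zgi26) (kgi xgi3 ygi31 zgi30) (kgi xgi1 ygi49 zgi15) (kgi xgi3 ygi31 zgi23) (kgi xgi3 ygi41 zgi24) (kgi xgi7 ygi4 zgi61) (kgi xgi7 ygi5 zgi3) (kgi xgi1 ygi42 zgi27) (kgi xgi3 ygi31 zgi24) (kgi xgi7 ygi5 zgi8) (kgi xgi1 ygi42 zgi28) (kgi xgi3 ygi31 zgi19) (kgi xgi1 ygi45 zgi59) (kgi xgi3 ygi25 zgi30) (kgi xgi3 ygi42 zgi29) (kgi xgi3 ygi27 zgi55) (kgi xgi6 ygi9 zgi22) (kgi xgi6 ygi51 zgi29) (kgi xgi3 ygi35 zgi56)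 (kgi xgi7 ygi5 zgi13) (kgi xgi1 ygi42 zgi39) (kgi xgi7 ygi5 zgi24) (kgi xgi6 ygi54 zgi37) (kgi xgi1 ygi43 zgi52)) (@D3.rec (fun _ => Pt) (kgi xgi3 ygi13 zgi32) (kgi xgi1 ygi43 zgi53) (kgi xgi3 ygi31 zgi50) (kgi xgi1 ygi42 zgi43) (kgi xgi6 ygi53 zgi43) (kgi xgi7 ygi5 zgi29) (kgi xgi6 ygi53 zgi41) (kgi xgi3 ygi29 zgi17) (kgi xgi3 ygi25 zgi4) (kgi xgi3 ygi28 zgi25) (kgi xgi1 ygi42 zgi47) (kgi xgi3 ygi36 zgi43) (kgi xgi3 ygi35 zgi61) (kgi xgi1 ygi42 zgi49) (kgi xgi3 ygi36 zgi4) (kgi xgi1 ygi45 zgi14) (kgi xgi1 ygi46 zgi50) (kgi xgi1 ygi42 zgi51) (kgi xgi3 ygi35 zgi43) (kgi xgi7 ygi5 zgi40) (kgi xgi1 ygi43 zgi0) (kgi xgi1 ygi42 zgi53) (kgi xgi3 ygi36 zgi11) (kgi xgi7 ygi5 zgi49) (kgi xgi3 ygi36 zgi8) (kgi xgi1 ygi46 zgi39) (kgi xgi3 ygi30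 zgi49) (kgi xgi6 ygi52 zgi22) (kgi xgi7 ygi5 zgi56) (kgi xgi1 ygi44 zgi5) (kgi xgi1 ygi42 zgi58) (kgi xgi1 ygi44 zgi3) (kgi xgi7 ygi6 zgi0) (kgi xgi3 ygi46 zgi50) (kgi xgi3 ygi24 zgi49) (kgi xgi1 ygi42 zgi61) (kgi xgi3 ygi36 zgi3) (kgi xgi4 ygi24 zgi1) (kgi xgi7 ygi5 zgi45) (kgi xgi4 ygi24 zgi11) (kgi xgi1 ygi43 zgi1) (kgi xgi7 ygi6 zgi14) (kgi xgi3 ygi35 zgi48) (kgi xgi3 ygi38 zgi28) (kgi xgi1 ygi46 zgi48) (kgi xgi1 ygi43 zgi4) (kgi xgi7 ygi6 zgi24) (kgi xgi7 ygi6 zgi27) (kgi xgi7 ygi6 zgi31) (kgi xgi1 ygi43 zgi6) (kgi xgi1 ygi43 zgi41) (kgi xgi7 ygi6 zgi40) (kgi xgi1 ygi43 zgi38) (kgi xgi3 ygi36 zgi32) (kgi xgi7 ygi5 zgi27) (kgi xgi7 ygi6 zgi43) (kgi xgi1 ygi50 zgi50) (kgi xgi1 ygi43 zgi14) (kgi xgi1 ygi44 zgi9) (kgi xgi7 ygi6 zgi56)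 (kgi xgi3 ygi37 zgi48) (kgi xgi1 ygi43 zgi15)) (@D3.rec (fun _ => Pt) (kgi xgi6 ygi30 zgi44) (kgi xgi3 ygi48 zgi19) (kgi xgi6 ygi30 zgi42) (kgi xgi1 ygi43 zgi47) (kgi xgi3 ygi36 zgi35) (kgi xgi4 ygi56 zgi61) (kgi xgi7 ygi7 zgi3) (kgi xgi1 ygi43 zgi26) (kgi xgi7 ygi7 zgi9) (kgi xgi1 ygi43 zgi19) (kgi xgi3 ygi36 zgi52) (kgi xgi7 ygi7 zgi18) (kgi xgi3 ygi36 zgi49) (kgi xgi1 ygi43 zgi30) (kgi xgi1 ygi53 zgi22) (kgi xgi1 ygi43 zgi21) (kgi xgi3 ygi48 zgi51) (kgi xgi7 ygi7 zgi29) (kgi xgi1 ygi51 zgi3) (kgi xgi1 ygi43 zgi25) (kgi xgi3 ygi36 zgi44) (kgi xgi7 ygi7 zgi6) (kgi xgi7 ygi7 zgi15) (kgi xgi7 ygi7 zgi39) (kgi xgi1 ygi43 zgi27) (kgi xgi7 ygi7 zgi45) (kgi xgi1 ygi43 zgi28) (kgi xgi3 ygi36 zgi56) (kgi xgi3 ygi36 zgi54) (kgi xgi1 ygi51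 zgi43) (kgi xgi5 ygi54 zgi22) (kgi xgi7 ygi7 zgi54) (kgi xgi7 ygi7 zgi58) (kgi xgi7 ygi7 zgi61) (kgi xgi1 ygi54 zgi44) (kgi xgi3 ygi36 zgi61) (kgi xgi3 ygi4 zgi27) (kgi xgi3 ygi10 zgi9) (kgi xgi7 ygi8 zgi5) (kgi xgi7 ygi8 zgi8) (kgi xgi7 ygi8 zgi12) (kgi xgi3 ygi4 zgi16) (kgi xgi6 ygi13 zgi46) (kgi xgi7 ygi8 zgi15) (kgi xgi7 ygi8 zgi18) (kgi xgi1 ygi43 zgi37) (kgi xgi7 ygi6 zgi33) (kgi xgi7 ygi8 zgi28) (kgi xgi7 ygi6 zgi30) (kgi xgi7 ygi7 zgi50) (kgi xgi1 ygi50 zgi35) (kgi xgi7 ygi8 zgi40) (kgi xgi1 ygi53 zgi32) (kgi xgi7 ygi8 zgi44) (kgi xgi7 ygi8 zgi36) (kgi xgi7 ygi8 zgi39) (kgi xgi7 ygi7 zgi23) (kgi xgi1 ygi43 zgi40) (kgi xgi7 ygi6 zgi42) (kgi xgi7 ygi9 zgi2) (kgi xgi7 ygi6 zgi39) (kgi xgi1 ygi43 zgi42)) (@D3.rec (fun _ => Pt)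 (kgi xgi1 ygi54 zgi29) (kgi xgi1 ygi53 zgi36) (kgi xgi7 ygi9 zgi12) (kgi xgi7 ygi9 zgi13) (kgi xgi1 ygi43 zgi43) (kgi xgi6 ygi15 zgi11) (kgi xgi7 ygi9 zgi21) (kgi xgi7 ygi9 zgi24) (kgi xgi1 ygi43 zgi44) (kgi xgi7 ygi1 zgi2) (kgi xgi1 ygi51 zgi26) (kgi xgi7 ygi9 zgi33) (kgi xgi3 ygi55 zgi54) (kgi xgi7 ygi9 zgi36) (kgi xgi7 ygi9 zgi20) (kgi xgi7 ygi7 zgi14) (kgi xgi7 ygi9 zgi27) (kgi xgi1 ygi49 zgi23) (kgi xgi3 ygi49 zgi11) (kgi xgi1 ygi51 zgi47) (kgi xgi1 ygi51 zgi53) (kgi xgi1 ygi43 zgi51) (kgi xgi7 ygi9 zgi55) (kgi xgi1 ygi50 zgi18) (kgi xgi1 ygi53 zgi25) (kgi xgi1 ygi43 zgi61) (kgi xgi1 ygi46 zgi47) (kgi xgi1 ygi45 zgi5) (kgi xgi7 ygi10 zgi1) (kgi xgi7 ygi0 zgi37) (kgi xgi3 ygi28 zgi51) (kgi xgi7 ygi8 zgi50) (kgi xgi7 ygi10 zgi10)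 (kgi xgi3 ygi46 zgi53) (kgi xgi7 ygi9 zgi32) (kgi xgi1 ygi53 zgi19) (kgi xgi3 ygi33 zgi15) (kgi xgi7 ygi10 zgi20) (kgi xgi1 ygi45 zgi47) (kgi xgi1 ygi52 zgi51) (kgi xgi7 ygi10 zgi28) (kgi xgi3 ygi37 zgi54) (kgi xgi7 ygi10 zgi18) (kgi xgi1 ygi44 zgi7) (kgi xgi6 ygi53 zgi40) (kgi xgi7 ygi10 zgi38) (kgi xgi7 ygi10 zgi42) (kgi xgi3 ygi27 zgi27) (kgi xgi3 ygi34 zgi49) (kgi xgi3 ygi29 zgi56) (kgi xgi7 ygi10 zgi51) (kgi xgi3 ygi37 zgi51) (kgi xgi6 ygi57 zgi17) (kgi xgi7 ygi10 zgi55) (kgi xgi1 ygi44 zgi12) (kgi xgi3 ygi34 zgi60) (kgi xgi7 ygi10 zgi61) (kgi xgi3 ygi31 zgi3) (kgi xgi3 ygi26 zgi33) (kgi xgi3 ygi27 zgi8) (kgi xgi3 ygi34 zgi54) (kgi xgi1 ygi54 zgi38)) (@D3.rec (fun _ => Pt) (kgi xgi3 ygi26 zgi37) (kgi xgi7 ygi11 zgi11) (kgi xgi7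 ygi11 zgi15) (kgi xgi3 ygi26 zgi38) (kgi xgi7 ygi11 zgi18) (kgi xgi3 ygi40 zgi18) (kgi xgi6 ygi42 zgi43) (kgi xgi3 ygi9 zgi6) (kgi xgi6 ygi57 zgi57) (kgi xgi3 ygi42 zgi32) (kgi xgi6 ygi26 zgi11) (kgi xgi1 ygi49 zgi10) (kgi xgi1 ygi44 zgi25) (kgi xgi1 ygi48 zgi30) (kgi xgi6 ygi58 zgi2) (kgi xgi6 ygi53 zgi2) (kgi xgi7 ygi11 zgi32) (kgi xgi3 ygi38 zgi51) (kgi xgi7 ygi11 zgi31) (kgi xgi3 ygi53 zgi38) (kgi xgi4 ygi10 zgi30) (kgi xgi7 ygi11 zgi42) (kgi xgi3 ygi11 zgi5) (kgi xgi1 ygi44 zgi32) (kgi xgi3 ygi8 zgi7) (kgi xgi3 ygi9 zgi38) (kgi xgi3 ygi28 zgi33) (kgi xgi1 ygi46 zgi43) (kgi xgi1 ygi44 zgi36) (kgi xgi1 ygi46 zgi37) (kgi xgi3 ygi53 zgi47) (kgi xgi3 ygi24 zgi53) (kgi xgi1 ygi44 zgi38) (kgi xgi7 ygi4 zgi32) (kgi xgi7 ygi2 zgi30) (kgi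 xgi3 ygi48 zgi17) (kgi xgi1 ygi46 zgi1) (kgi xgi1 ygi44 zgi41) (kgi xgi3 ygi29 zgi10) (kgi xgi3 ygi32 zgi36) (kgi xgi1 ygi46 zgi26) (kgi xgi1 ygi44 zgi43) (kgi xgi2 ygi9 zgi30) (kgi xgi3 ygi32 zgi17) (kgi xgi7 ygi12 zgi4) (kgi xgi1 ygi44 zgi44) (kgi xgi1 ygi44 zgi56) (kgi xgi3 ygi9 zgi50) (kgi xgi1 ygi44 zgi45) (kgi xgi3 ygi32 zgi42) (kgi xgi7 ygi12 zgi18) (kgi xgi3 ygi32 zgi40) (kgi xgi1 ygi46 zgi12) (kgi xgi3 ygi31 zgi6) (kgi xgi3 ygi31 zgi0) (kgi xgi1 ygi45 zgi33) (kgi xgi3 ygi1 zgi33) (kgi xgi1 ygi44 zgi50) (kgi xgi6 ygi53 zgi0) (kgi xgi3 ygi31 zgi13) (kgi xgi1 ygi44 zgi52) (kgi xgi1 ygi44 zgi53)) (@D3.rec (fun _ => Pt) (kgi xgi3 ygi32 zgi12) (kgi xgi6 ygi34 zgi0) (kgi xgi3 ygi32 zgi10) (kgi xgi1 ygi44 zgi55) (kgi xgi3 ygi32 zgi35)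 (kgi xgi7 ygi12 zgi8) (kgi xgi7 ygi12 zgi15) (kgi xgi2 ygi9 zgi34) (kgi xgi1 ygi44 zgi57) (kgi xgi3 ygi32 zgi24) (kgi xgi7 ygi12 zgi43) (kgi xgi3 ygi32 zgi21) (kgi xgi3 ygi39 zgi25) (kgi xgi1 ygi44 zgi60) (kgi xgi1 ygi46 zgi2) (kgi xgi7 ygi12 zgi51) (kgi xgi6 ygi59 zgi24) (kgi xgi1 ygi44 zgi61) (kgi xgi7 ygi12 zgi59) (kgi xgi1 ygi45 zgi0) (kgi xgi1 ygi45 zgi30) (kgi xgi7 ygi13 zgi5) (kgi xgi1 ygi45 zgi27) (kgi xgi1 ygi52 zgi12) (kgi xgi1 ygi51 zgi36) (kgi xgi7 ygi13 zgi8) (kgi xgi1 ygi45 zgi40) (kgi xgi7 ygi13 zgi14) (kgi xgi1 ygi45 zgi37) (kgi xgi7 ygi13 zgi19) (kgi xgi7 ygi6 zgi53) (kgi xgi7 ygi13 zgi23) (kgi xgi3 ygi32 zgi55) (kgi xgi3 ygi33 zgi20) (kgi xgi1 ygi45 zgi34) (kgi xgi1 ygi45 zgi9) (kgi xgi3 ygi33 zgi4) (kgi xgi3 ygi4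 zgi33) (kgi xgi7 ygi13 zgi34) (kgi xgi1 ygi45 zgi11) (kgi xgi3 ygi28 zgi7) (kgi xgi7 ygi13 zgi41) (kgi xgi1 ygi45 zgi12) (kgi xgi1 ygi54 zgi36) (kgi xgi1 ygi45 zgi13) (kgi xgi3 ygi33 zgi19) (kgi xgi5 ygi42 zgi46) (kgi xgi7 ygi13 zgi37) (kgi xgi7 ygi13 zgi49) (kgi xgi1 ygi45 zgi15) (kgi xgi3 ygi33 zgi12) (kgi xgi7 ygi13 zgi57) (kgi xgi3 ygi33 zgi9) (kgi xgi3 ygi33 zgi34) (kgi xgi1 ygi45 zgi18) (kgi xgi3 ygi33 zgi28) (kgi xgi3 ygi33 zgi26) (kgi xgi7 ygi14 zgi7) (kgi xgi7 ygi14 zgi10) (kgi xgi7 ygi14 zgi13) (kgi xgi7 ygi14 zgi17) (kgi xgi2 ygi50 zgi57)) (@D3.rec (fun _ => Pt) (kgi xgi7 ygi14 zgi21) (kgi xgi7 ygi14 zgi24) (kgi xgi3 ygi33 zgi13) (kgi xgi7 ygi14 zgi27) (kgi xgi1 ygi45 zgi26) (kgi xgi7 ygi8 zgi20) (kgi xgi7 ygi14 zgi36)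 (kgi xgi7 ygi8 zgi17) (kgi xgi7 ygi14 zgi4) (kgi xgi7 ygi14 zgi43) (kgi xgi7 ygi14 zgi46) (kgi xgi7 ygi14 zgi42) (kgi xgi6 ygi58 zgi12) (kgi xgi1 ygi45 zgi29) (kgi xgi7 ygi13 zgi7) (kgi xgi7 ygi15 zgi1) (kgi xgi7 ygi13 zgi4) (kgi xgi1 ygi54 zgi0) (kgi xgi1 ygi45 zgi32) (kgi xgi7 ygi13 zgi31) (kgi xgi7 ygi15 zgi14) (kgi xgi3 ygi49 zgi35) (kgi xgi7 ygi9 zgi52) (kgi xgi1 ygi53 zgi50) (kgi xgi3 ygi27 zgi34) (kgi xgi7 ygi15 zgi18) (kgi xgi7 ygi15 zgi13) (kgi xgi3 ygi53 zgi9) (kgi xgi1 ygi51 zgi23) (kgi xgi3 ygi35 zgi53) (kgi xgi6 ygi55 zgi8) (kgi xgi3 ygi46 zgi51) (kgi xgi1 ygi53 zgi59) (kgi xgi7 ygi5 zgi10) (kgi xgi7 ygi15 zgi30) (kgi xgi3 ygi47 zgi7) (kgi xgi3 ygi29 zgi48) (kgi xgi1 ygi45 zgi39) (kgi xgi7 ygi13 zgi17) (kgi xgi7 ygi15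 zgi46) (kgi xgi7 ygi15 zgi48) (kgi xgi3 ygi30 zgi26) (kgi xgi6 ygi54 zgi39) (kgi xgi3 ygi24 zgi23) (kgi xgi3 ygi25 zgi18) (kgi xgi7 ygi15 zgi54) (kgi xgi3 ygi46 zgi55) (kgi xgi7 ygi15 zgi59) (kgi xgi3 ygi34 zgi51) (kgi xgi1 ygi47 zgi54) (kgi xgi7 ygi16 zgi5) (kgi xgi3 ygi32 zgi60) (kgi xgi1 ygi45 zgi46) (kgi xgi7 ygi10 zgi40) (kgi xgi3 ygi34 zgi38) (kgi xgi7 ygi16 zgi15) (kgi xgi7 ygi6 zgi51) (kgi xgi3 ygi52 zgi17) (kgi xgi3 ygi26 zgi52) (kgi xgi1 ygi52 zgi18) (kgi xgi1 ygi45 zgi52) (kgi xgi7 ygi16 zgi26)) (@D3.rec (fun _ => Pt) (kgi xgi7 ygi16 zgi30) (kgi xgi3 ygi52 zgi38) (kgi xgi3 ygi54 zgi43) (kgi xgi7 ygi16 zgi35) (kgi xgi3 ygi32 zgi2) (kgi xgi6 ygi53 zgi42) (kgi xgi1 ygi46 zgi0) (kgi xgi3 ygi34 zgi12) (kgi xgi3 ygi39 zgi14)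 (kgi xgi7 ygi16 zgi40) (kgi xgi7 ygi0 zgi35) (kgi xgi6 ygi26 zgi53) (kgi xgi1 ygi46 zgi5) (kgi xgi7 ygi6 zgi22) (kgi xgi7 ygi16 zgi49) (kgi xgi5 ygi53 zgi50) (kgi xgi1 ygi46 zgi7) (kgi xgi1 ygi46 zgi20) (kgi xgi7 ygi8 zgi43) (kgi xgi1 ygi46 zgi17) (kgi xgi3 ygi29 zgi33) (kgi xgi6 ygi34 zgi2) (kgi xgi6 ygi59 zgi33) (kgi xgi3 ygi24 zgi59) (kgi xgi1 ygi46 zgi11) (kgi xgi3 ygi39 zgi22) (kgi xgi7 ygi17 zgi12) (kgi xgi6 ygi58 zgi21) (kgi xgi3 ygi24 zgi57) (kgi xgi7 ygi17 zgi18) (kgi xgi7 ygi17 zgi21) (kgi xgi3 ygi32 zgi25) (kgi xgi7 ygi12 zgi56) (kgi xgi7 ygi17 zgi25) (kgi xgi1 ygi46 zgi16) (kgi xgi7 ygi16 zgi53) (kgi xgi7 ygi17 zgi33) (kgi xgi5 ygi13 zgi37) (kgi xgi7 ygi17 zgi10) (kgi xgi3 ygi53 zgi51) (kgi xgi3 ygi49 zgi0) (kgi xgi7 ygi17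 zgi43) (kgi xgi7 ygi17 zgi40) (kgi xgi7 ygi12 zgi23) (kgi xgi1 ygi46 zgi19) (kgi xgi7 ygi16 zgi61) (kgi xgi7 ygi17 zgi60) (kgi xgi7 ygi16 zgi59) (kgi xgi1 ygi46 zgi21) (kgi xgi3 ygi24 zgi37) (kgi xgi1 ygi47 zgi17) (kgi xgi6 ygi57 zgi38) (kgi xgi3 ygi48 zgi18) (kgi xgi1 ygi46 zgi22) (kgi xgi7 ygi12 zgi1) (kgi xgi7 ygi18 zgi13) (kgi xgi7 ygi18 zgi16) (kgi xgi7 ygi13 zgi39) (kgi xgi6 ygi57 zgi18) (kgi xgi6 ygi52 zgi7) (kgi xgi6 ygi59 zgi32) (kgi xgi7 ygi18 zgi12)) (@D3.rec (fun _ => Pt) (kgi xgi7 ygi12 zgi14) (kgi xgi7 ygi18 zgi18) (kgi xgi1 ygi46 zgi28) (kgi xgi3 ygi49 zgi49) (kgi xgi3 ygi25 zgi47) (kgi xgi3 ygi37 zgi52) (kgi xgi3 ygi24 zgi52) (kgi xgi3 ygi25 zgi51) (kgi xgi6 ygi57 zgi1) (kgi xgi7 ygi3 zgi13) (kgi xgi1 ygi46 zgi32)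 (kgi xgi3 ygi43 zgi44) (kgi xgi1 ygi46 zgi34) (kgi xgi1 ygi50 zgi61) (kgi xgi1 ygi46 zgi35) (kgi xgi3 ygi38 zgi8) (kgi xgi3 ygi38 zgi6) (kgi xgi1 ygi46 zgi36) (kgi xgi7 ygi18 zgi51) (kgi xgi3 ygi53 zgi45) (kgi xgi1 ygi46 zgi38) (kgi xgi3 ygi4 zgi18) (kgi xgi3 ygi38 zgi24) (kgi xgi7 ygi18 zgi59) (kgi xgi7 ygi19 zgi1) (kgi xgi3 ygi31 zgi20) (kgi xgi1 ygi46 zgi40) (kgi xgi3 ygi4 zgi32) (kgi xgi7 ygi19 zgi8) (kgi xgi7 ygi19 zgi10) (kgi xgi3 ygi35 zgi52) (kgi xgi1 ygi46 zgi42) (kgi xgi7 ygi17 zgi27) (kgi xgi7 ygi19 zgi19) (kgi xgi4 ygi2 zgi6) (kgi xgi7 ygi18 zgi56) (kgi xgi1 ygi53 zgi33) (kgi xgi3 ygi55 zgi38) (kgi xgi7 ygi19 zgi27) (kgi xgi6 ygi41 zgi49) (kgi xgi7 ygi5 zgi54) (kgi xgi1 ygi46 zgi45) (kgi xgi7 ygi11 zgi48) (kgi xgi7 ygi19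 zgi40) (kgi xgi7 ygi19 zgi42) (kgi xgi7 ygi5 zgi38) (kgi xgi6 ygi59 zgi13) (kgi xgi7 ygi19 zgi48) (kgi xgi7 ygi2 zgi45) (kgi xgi7 ygi19 zgi50) (kgi xgi6 ygi59 zgi11) (kgi xgi7 ygi3 zgi44) (kgi xgi7 ygi5 zgi31) (kgi xgi6 ygi57 zgi8) (kgi xgi1 ygi48 zgi39) (kgi xgi1 ygi48 zgi36) (kgi xgi1 ygi48 zgi32) (kgi xgi3 ygi8 zgi41) (kgi xgi7 ygi20 zgi4) (kgi xgi3 ygi25 zgi6) (kgi xgi3 ygi11 zgi1) (kgi xgi1 ygi49 zgi19)) (@D3.rec (fun _ => Pt) (kgi xgi1 ygi46 zgi61) (kgi xgi3 ygi10 zgi54) (kgi xgi4 ygi50 zgi22) (kgi xgi1 ygi48 zgi60) (kgi xgi1 ygi53 zgi55) (kgi xgi1 ygi47 zgi1) (kgi xgi3 ygi42 zgi15) (kgi xgi3 ygi42 zgi13) (kgi xgi6 ygi24 zgi56) (kgi xgi7 ygi20 zgi26) (kgi xgi1 ygi47 zgi13) (kgi xgi7 ygi20 zgi32) (kgi xgi1 ygi47 zgi3) (kgi xgi3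 ygi42 zgi44) (kgi xgi7 ygi20 zgi41) (kgi xgi3 ygi42 zgi41) (kgi xgi1 ygi53 zgi41) (kgi xgi1 ygi54 zgi41) (kgi xgi1 ygi47 zgi5) (kgi xgi6 ygi54 zgi61) (kgi xgi1 ygi47 zgi7) (kgi xgi3 ygi25 zgi17) (kgi xgi7 ygi20 zgi54) (kgi xgi7 ygi20 zgi58) (kgi xgi7 ygi21 zgi0) (kgi xgi3 ygi24 zgi35) (kgi xgi3 ygi26 zgi20) (kgi xgi3 ygi42 zgi8) (kgi xgi3 ygi23 zgi53) (kgi xgi1 ygi47 zgi12) (kgi xgi3 ygi42 zgi36) (kgi xgi7 ygi20 zgi29) (kgi xgi7 ygi20 zgi38) (kgi xgi7 ygi21 zgi15) (kgi xgi1 ygi47 zgi14) (kgi xgi7 ygi21 zgi21) (kgi xgi1 ygi47 zgi15) (kgi xgi7 ygi21 zgi26) (kgi xgi7 ygi21 zgi29) (kgi xgi7 ygi21 zgi33) (kgi xgi1 ygi47 zgi45) (kgi xgi7 ygi21 zgi39) (kgi xgi1 ygi47 zgi42) (kgi xgi3 ygi43 zgi31) (kgi xgi7 ygi21 zgi42) (kgi xgi3 ygi43 zgi47)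 (kgi xgi1 ygi47 zgi51) (kgi xgi1 ygi47 zgi22) (kgi xgi3 ygi43 zgi35) (kgi xgi6 ygi24 zgi58) (kgi xgi7 ygi21 zgi53) (kgi xgi1 ygi47 zgi23) (kgi xgi1 ygi47 zgi28) (kgi xgi7 ygi21 zgi60) (kgi xgi1 ygi47 zgi24) (kgi xgi3 ygi31 zgi37) (kgi xgi7 ygi22 zgi7) (kgi xgi7 ygi22 zgi10) (kgi xgi7 ygi4 zgi13) (kgi xgi1 ygi47 zgi26) (kgi xgi3 ygi44 zgi53) (kgi xgi3 ygi30 zgi60)) (@D3.rec (fun _ => Pt) (kgi xgi1 ygi47 zgi27) (kgi xgi3 ygi43 zgi46) (kgi xgi7 ygi21 zgi57) (kgi xgi7 ygi22 zgi4) (kgi xgi7 ygi22 zgi24) (kgi xgi1 ygi47 zgi29) (kgi xgi3 ygi43 zgi42) (kgi xgi7 ygi22 zgi34) (kgi xgi3 ygi43 zgi39) (kgi xgi3 ygi43 zgi61) (kgi xgi1 ygi47 zgi32) (kgi xgi3 ygi43 zgi56) (kgi xgi3 ygi43 zgi54) (kgi xgi7 ygi22 zgi49) (kgi xgi7 ygi22 zgi53) (kgi xgi7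 ygi22 zgi56) (kgi xgi3 ygi56 zgi23) (kgi xgi1 ygi47 zgi35) (kgi xgi3 ygi44 zgi2) (kgi xgi3 ygi44 zgi0) (kgi xgi7 ygi23 zgi6) (kgi xgi7 ygi23 zgi9) (kgi xgi7 ygi23 zgi13) (kgi xgi7 ygi23 zgi16) (kgi xgi3 ygi43 zgi43) (kgi xgi7 ygi22 zgi44) (kgi xgi7 ygi23 zgi22) (kgi xgi7 ygi23 zgi1) (kgi xgi7 ygi23 zgi27) (kgi xgi7 ygi23 zgi31) (kgi xgi7 ygi23 zgi35) (kgi xgi1 ygi47 zgi41) (kgi xgi7 ygi21 zgi35) (kgi xgi7 ygi23 zgi46) (kgi xgi7 ygi21 zgi32) (kgi xgi7 ygi22 zgi45) (kgi xgi6 ygi58 zgi5) (kgi xgi3 ygi35 zgi4) (kgi xgi7 ygi23 zgi57) (kgi xgi7 ygi23 zgi53) (kgi xgi7 ygi4 zgi29) (kgi xgi1 ygi47 zgi44) (kgi xgi7 ygi21 zgi41) (kgi xgi7 ygi24 zgi9) (kgi xgi7 ygi21 zgi38) (kgi xgi3 ygi53 zgi3) (kgi xgi6 ygi54 zgi38) (kgi xgi1 ygi47 zgi47) (kgi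 xgi7 ygi21 zgi50) (kgi xgi7 ygi24 zgi21) (kgi xgi7 ygi24 zgi24) (kgi xgi7 ygi24 zgi26) (kgi xgi1 ygi54 zgi23) (kgi xgi3 ygi25 zgi50) (kgi xgi3 ygi52 zgi42) (kgi xgi3 ygi30 zgi39) (kgi xgi7 ygi15 zgi61) (kgi xgi7 ygi24 zgi20) (kgi xgi7 ygi22 zgi3) (kgi xgi7 ygi11 zgi35) (kgi xgi7 ygi24 zgi44) (kgi xgi7 ygi24 zgi48)) (@D3.rec (fun _ => Pt) (kgi xgi1 ygi52 zgi46) (kgi xgi3 ygi52 zgi9) (kgi xgi6 ygi59 zgi61) (kgi xgi6 ygi21 zgi53) (kgi xgi3 ygi23 zgi55) (kgi xgi7 ygi24 zgi57) (kgi xgi1 ygi48 zgi47) (kgi xgi2 ygi22 zgi44) (kgi xgi3 ygi23 zgi50) (kgi xgi7 ygi25 zgi0) (kgi xgi3 ygi53 zgi61) (kgi xgi3 ygi40 zgi30) (kgi xgi1 ygi54 zgi18) (kgi xgi1 ygi48 zgi6) (kgi xgi3 ygi40 zgi7) (kgi xgi3 ygi40 zgi5) (kgi xgi7 ygi25 zgi13) (kgi xgi7 ygi25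 zgi16) (kgi xgi1 ygi48 zgi7) (kgi xgi1 ygi48 zgi19) (kgi xgi1 ygi49 zgi8) (kgi xgi7 ygi25 zgi24) (kgi xgi1 ygi48 zgi8) (kgi xgi1 ygi54 zgi59) (kgi xgi7 ygi25 zgi32) (kgi xgi1 ygi54 zgi17) (kgi xgi1 ygi48 zgi11) (kgi xgi7 ygi3 zgi18) (kgi xgi1 ygi53 zgi17) (kgi xgi3 ygi31 zgi57) (kgi xgi7 ygi25 zgi40) (kgi xgi3 ygi35 zgi9) (kgi xgi6 ygi26 zgi18) (kgi xgi1 ygi48 zgi17) (kgi xgi3 ygi25 zgi1) (kgi xgi7 ygi25 zgi46) (kgi xgi1 ygi48 zgi18) (kgi xgi3 ygi40 zgi29) (kgi xgi7 ygi1 zgi20) (kgi xgi7 ygi25 zgi29) (kgi xgi7 ygi25 zgi59) (kgi xgi1 ygi48 zgi20) (kgi xgi3 ygi40 zgi15) (kgi xgi7 ygi26 zgi5) (kgi xgi3 ygi40 zgi12) (kgi xgi3 ygi54 zgi7) (kgi xgi7 ygi26 zgi10) (kgi xgi3 ygi22 zgi13) (kgi xgi3 ygi25 zgi10) (kgi xgi1 ygi48 zgi26) (kgi xgi3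 ygi25 zgi2) (kgi xgi7 ygi26 zgi22) (kgi xgi6 ygi54 zgi11) (kgi xgi7 ygi26 zgi28) (kgi xgi1 ygi48 zgi28) (kgi xgi7 ygi26 zgi33) (kgi xgi7 ygi26 zgi36) (kgi xgi7 ygi26 zgi39) (kgi xgi6 ygi58 zgi0) (kgi xgi3 ygi18 zgi31) (kgi xgi3 ygi17 zgi52) (kgi xgi6 ygi49 zgi30)) (@D3.rec (fun _ => Pt) (kgi xgi2 ygi55 zgi38) (kgi xgi2 ygi22 zgi1) (kgi xgi3 ygi35 zgi10) (kgi xgi4 ygi42 zgi60) (kgi xgi6 ygi53 zgi49) (kgi xgi6 ygi49 zgi34) (kgi xgi7 ygi26 zgi54) (kgi xgi3 ygi13 zgi38) (kgi xgi3 ygi1 zgi2) (kgi xgi7 ygi20 zgi11) (kgi xgi7 ygi26 zgi60) (kgi xgi6 ygi30 zgi48) (kgi xgi7 ygi27 zgi1) (kgi xgi1 ygi48 zgi40) (kgi xgi6 ygi17 zgi54) (kgi xgi3 ygi3 zgi6) (kgi xgi7 ygi27 zgi9) (kgi xgi6 ygi30 zgi46) (kgi xgi7 ygi27 zgi14) (kgi xgi3 ygi2 zgi43)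 (kgi xgi3 ygi2 zgi44) (kgi xgi7 ygi27 zgi19) (kgi xgi6 ygi17 zgi49) (kgi xgi7 ygi27 zgi24) (kgi xgi7 ygi27 zgi17) (kgi xgi2 ygi52 zgi26) (kgi xgi2 ygi59 zgi44) (kgi xgi7 ygi27 zgi31) (kgi xgi3 ygi23 zgi42) (kgi xgi7 ygi27 zgi34) (kgi xgi7 ygi27 zgi36) (kgi xgi3 ygi40 zgi44) (kgi xgi1 ygi49 zgi17) (kgi xgi1 ygi48 zgi52) (kgi xgi3 ygi4 zgi31) (kgi xgi3 ygi40 zgi47) (kgi xgi7 ygi20 zgi20) (kgi xgi7 ygi27 zgi48) (kgi xgi7 ygi27 zgi52) (kgi xgi1 ygi48 zgi54) (kgi xgi3 ygi41 zgi8) (kgi xgi7 ygi28 zgi0) (kgi xgi3 ygi41 zgi5) (kgi xgi1 ygi49 zgi2) (kgi xgi3 ygi39 zgi10) (kgi xgi7 ygi28 zgi6) (kgi xgi1 ygi48 zgi59) (kgi xgi3 ygi41 zgi0) (kgi xgi3 ygi50 zgi2) (kgi xgi7 ygi27 zgi58) (kgi xgi7 ygi28 zgi16) (kgi xgi1 ygi48 zgi61) (kgi xgi3 ygi31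 zgi22) (kgi xgi7 ygi28 zgi25) (kgi xgi1 ygi49 zgi0) (kgi xgi3 ygi41 zgi12) (kgi xgi3 ygi41 zgi10) (kgi xgi7 ygi28 zgi36) (kgi xgi7 ygi28 zgi40) (kgi xgi7 ygi28 zgi44) (kgi xgi7 ygi28 zgi48) (kgi xgi3 ygi31 zgi27)) (@D3.rec (fun _ => Pt) (kgi xgi1 ygi49 zgi3) (kgi xgi3 ygi41 zgi19) (kgi xgi3 ygi41 zgi17) (kgi xgi7 ygi28 zgi56) (kgi xgi7 ygi28 zgi59) (kgi xgi7 ygi29 zgi0) (kgi xgi7 ygi28 zgi31) (kgi xgi7 ygi29 zgi6) (kgi xgi5 ygi50 zgi51) (kgi xgi4 ygi57 zgi38) (kgi xgi7 ygi29 zgi13) (kgi xgi7 ygi29 zgi16) (kgi xgi1 ygi49 zgi9) (kgi xgi7 ygi26 zgi41) (kgi xgi7 ygi29 zgi28) (kgi xgi7 ygi26 zgi38) (kgi xgi7 ygi28 zgi32) (kgi xgi3 ygi27 zgi58) (kgi xgi3 ygi38 zgi3) (kgi xgi7 ygi29 zgi38) (kgi xgi7 ygi5 zgi17) (kgi xgi7 ygi4 zgi56) (kgi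 xgi1 ygi49 zgi12) (kgi xgi7 ygi11 zgi25) (kgi xgi7 ygi29 zgi51) (kgi xgi7 ygi15 zgi34) (kgi xgi1 ygi49 zgi14) (kgi xgi7 ygi27 zgi43) (kgi xgi7 ygi29 zgi60) (kgi xgi7 ygi30 zgi1) (kgi xgi7 ygi0 zgi12) (kgi xgi7 ygi30 zgi3) (kgi xgi7 ygi29 zgi59) (kgi xgi7 ygi27 zgi57) (kgi xgi1 ygi49 zgi20) (kgi xgi1 ygi50 zgi53) (kgi xgi7 ygi30 zgi19) (kgi xgi1 ygi49 zgi21) (kgi xgi7 ygi2 zgi38) (kgi xgi1 ygi52 zgi52) (kgi xgi1 ygi51 zgi13) (kgi xgi7 ygi6 zgi38) (kgi xgi7 ygi30 zgi31) (kgi xgi7 ygi4 zgi9) (kgi xgi1 ygi52 zgi55) (kgi xgi1 ygi52 zgi56) (kgi xgi1 ygi49 zgi28) (kgi xgi1 ygi49 zgi36) (kgi xgi6 ygi28 zgi14) (kgi xgi7 ygi30 zgi37) (kgi xgi6 ygi31 zgi6) (kgi xgi6 ygi31 zgi15) (kgi xgi3 ygi40 zgi61) (kgi xgi3 ygi40 zgi59) (kgi xgi1 ygi49 zgi33)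 (kgi xgi3 ygi14 zgi43) (kgi xgi6 ygi49 zgi26) (kgi xgi7 ygi30 zgi48) (kgi xgi2 ygi56 zgi53) (kgi xgi7 ygi30 zgi51) (kgi xgi7 ygi10 zgi41) (kgi xgi3 ygi48 zgi5)) (@D3.rec (fun _ => Pt) (kgi xgi7 ygi3 zgi16) (kgi xgi3 ygi29 zgi36) (kgi xgi7 ygi30 zgi55) (kgi xgi7 ygi3 zgi10) (kgi xgi6 ygi28 zgi54) (kgi xgi3 ygi1 zgi55) (kgi xgi3 ygi18 zgi44) (kgi xgi6 ygi26 zgi50) (kgi xgi3 ygi18 zgi52) (kgi xgi7 ygi31 zgi4) (kgi xgi3 ygi1 zgi50) (kgi xgi3 ygi16 zgi26) (kgi xgi6 ygi29 zgi46) (kgi xgi1 ygi51 zgi61) (kgi xgi3 ygi44 zgi56) (kgi xgi4 ygi44 zgi22) (kgi xgi2 ygi20 zgi27) (kgi xgi6 ygi29 zgi6) (kgi xgi7 ygi31 zgi21) (kgi xgi3 ygi2 zgi19) (kgi xgi1 ygi49 zgi50) (kgi xgi6 ygi26 zgi54) (kgi xgi6 ygi11 zgi7) (kgi xgi5 ygi57 zgi40) (kgi xgi7 ygi31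 zgi30) (kgi xgi1 ygi49 zgi52) (kgi xgi6 ygi58 zgi60) (kgi xgi7 ygi31 zgi34) (kgi xgi6 ygi29 zgi33) (kgi xgi1 ygi49 zgi53) (kgi xgi6 ygi10 zgi41) (kgi xgi6 ygi10 zgi39) (kgi xgi7 ygi31 zgi43) (kgi xgi7 ygi31 zgi47) (kgi xgi4 ygi44 zgi24) (kgi xgi3 ygi1 zgi56) (kgi xgi6 ygi29 zgi57) (kgi xgi6 ygi29 zgi30) (kgi xgi1 ygi49 zgi57) (kgi xgi7 ygi0 zgi18) (kgi xgi7 ygi0 zgi16) (kgi xgi7 ygi32 zgi0) (kgi xgi7 ygi32 zgi4) (kgi xgi4 ygi44 zgi40) (kgi xgi3 ygi52 zgi56) (kgi xgi3 ygi26 zgi2) (kgi xgi3 ygi24 zgi38) (kgi xgi5 ygi51 zgi20) (kgi xgi7 ygi32 zgi16) (kgi xgi7 ygi32 zgi20) (kgi xgi7 ygi32 zgi23) (kgi xgi6 ygi58 zgi48) (kgi xgi7 ygi31 zgi54) (kgi xgi7 ygi32 zgi29) (kgi xgi7 ygi32 zgi33) (kgi xgi1 ygi50 zgi3) (kgi xgi7 ygi32 zgi35) (kgi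 xgi7 ygi32 zgi43) (kgi xgi7 ygi32 zgi32) (kgi xgi7 ygi31 zgi57) (kgi xgi6 ygi39 zgi53) (kgi xgi5 ygi48 zgi18)) (@D3.rec (fun _ => Pt) (kgi xgi7 ygi32 zgi54) (kgi xgi1 ygi50 zgi6) (kgi xgi7 ygi0 zgi61) (kgi xgi7 ygi33 zgi4) (kgi xgi7 ygi0 zgi58) (kgi xgi7 ygi31 zgi58) (kgi xgi7 ygi33 zgi11) (kgi xgi7 ygi3 zgi35) (kgi xgi7 ygi33 zgi14) (kgi xgi3 ygi53 zgi20) (kgi xgi7 ygi0 zgi10) (kgi xgi1 ygi50 zgi9) (kgi xgi7 ygi1 zgi9) (kgi xgi7 ygi33 zgi30) (kgi xgi7 ygi1 zgi6) (kgi xgi6 ygi59 zgi47) (kgi xgi7 ygi24 zgi51) (kgi xgi7 ygi33 zgi39) (kgi xgi3 ygi47 zgi57) (kgi xgi1 ygi50 zgi15) (kgi xgi7 ygi0 zgi42) (kgi xgi7 ygi0 zgi40) (kgi xgi7 ygi33 zgi47) (kgi xgi7 ygi33 zgi49) (kgi xgi2 ygi7 zgi48) (kgi xgi3 ygi28 zgi50) (kgi xgi3 ygi37 zgi33)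 (kgi xgi7 ygi3 zgi37) (kgi xgi2 ygi15 zgi1) (kgi xgi2 ygi31 zgi22) (kgi xgi7 ygi33 zgi55) (kgi xgi6 ygi32 zgi49) (kgi xgi7 ygi22 zgi9) (kgi xgi3 ygi47 zgi1) (kgi xgi7 ygi4 zgi0) (kgi xgi3 ygi49 zgi20) (kgi xgi7 ygi3 zgi48) (kgi xgi7 ygi10 zgi0) (kgi xgi1 ygi50 zgi27) (kgi xgi4 ygi47 zgi47) (kgi xgi4 ygi48 zgi53) (kgi xgi7 ygi34 zgi10) (kgi xgi1 ygi50 zgi28) (kgi xgi7 ygi10 zgi2) (kgi xgi7 ygi34 zgi19) (kgi xgi1 ygi50 zgi29) (kgi xgi6 ygi46 zgi61) (kgi xgi7 ygi34 zgi30) (kgi xgi7 ygi0 zgi31) (kgi xgi7 ygi32 zgi11) (kgi xgi3 ygi34 zgi33) (kgi xgi3 ygi37 zgi34) (kgi xgi7 ygi34 zgi36) (kgi xgi3 ygi32 zgi33) (kgi xgi7 ygi0 zgi14) (kgi xgi1 ygi50 zgi32) (kgi xgi3 ygi37 zgi46) (kgi xgi7 ygi34 zgi45) (kgi xgi7 ygi3 zgi2) (kgi xgi3 ygi26 zgi48)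 (kgi xgi1 ygi53 zgi21) (kgi xgi1 ygi50 zgi37)) (@D3.rec (fun _ => Pt) (kgi xgi1 ygi51 zgi41) (kgi xgi3 ygi46 zgi35) (kgi xgi7 ygi34 zgi55) (kgi xgi7 ygi34 zgi58) (kgi xgi1 ygi50 zgi39) (kgi xgi7 ygi35 zgi2) (kgi xgi1 ygi52 zgi5) (kgi xgi3 ygi37 zgi32) (kgi xgi1 ygi50 zgi41) (kgi xgi7 ygi9 zgi46) (kgi xgi7 ygi35 zgi8) (kgi xgi7 ygi35 zgi11) (kgi xgi1 ygi50 zgi44) (kgi xgi1 ygi51 zgi50) (kgi xgi7 ygi35 zgi19) (kgi xgi1 ygi50 zgi45) (kgi xgi1 ygi52 zgi8) (kgi xgi1 ygi52 zgi6) (kgi xgi7 ygi35 zgi26) (kgi xgi7 ygi35 zgi30) (kgi xgi7 ygi13 zgi16) (kgi xgi1 ygi51 zgi27) (kgi xgi1 ygi50 zgi48) (kgi xgi1 ygi51 zgi59) (kgi xgi1 ygi51 zgi57) (kgi xgi7 ygi31 zgi13) (kgi xgi7 ygi35 zgi43) (kgi xgi7 ygi35 zgi46) (kgi xgi7 ygi24 zgi49) (kgi xgi7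 ygi35 zgi51) (kgi xgi3 ygi48 zgi30) (kgi xgi3 ygi29 zgi3) (kgi xgi7 ygi35 zgi4) (kgi xgi7 ygi35 zgi21) (kgi xgi6 ygi54 zgi46) (kgi xgi6 ygi51 zgi32) (kgi xgi7 ygi11 zgi4) (kgi xgi6 ygi39 zgi44) (kgi xgi7 ygi36 zgi7) (kgi xgi1 ygi50 zgi54) (kgi xgi3 ygi26 zgi12) (kgi xgi7 ygi36 zgi17) (kgi xgi7 ygi36 zgi21) (kgi xgi1 ygi50 zgi55) (kgi xgi7 ygi36 zgi9) (kgi xgi7 ygi36 zgi32) (kgi xgi7 ygi36 zgi6) (kgi xgi1 ygi50 zgi56) (kgi xgi1 ygi52 zgi37) (kgi xgi7 ygi36 zgi44) (kgi xgi1 ygi52 zgi34) (kgi xgi7 ygi35 zgi23) (kgi xgi7 ygi36 zgi50) (kgi xgi3 ygi52 zgi57) (kgi xgi7 ygi36 zgi53) (kgi xgi3 ygi27 zgi32) (kgi xgi7 ygi16 zgi18) (kgi xgi3 ygi25 zgi12) (kgi xgi1 ygi50 zgi59) (kgi xgi1 ygi52 zgi50) (kgi xgi7 ygi37 zgi3) (kgi xgi1 ygi52 zgi47))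 (@D3.rec (fun _ => Pt) (kgi xgi3 ygi49 zgi12) (kgi xgi1 ygi51 zgi0) (kgi xgi7 ygi7 zgi52) (kgi xgi7 ygi37 zgi13) (kgi xgi3 ygi49 zgi39) (kgi xgi3 ygi45 zgi2) (kgi xgi7 ygi37 zgi17) (kgi xgi7 ygi37 zgi12) (kgi xgi7 ygi33 zgi27) (kgi xgi1 ygi51 zgi5) (kgi xgi1 ygi51 zgi9) (kgi xgi1 ygi51 zgi6) (kgi xgi3 ygi27 zgi11) (kgi xgi7 ygi37 zgi27) (kgi xgi7 ygi37 zgi30) (kgi xgi7 ygi37 zgi34) (kgi xgi3 ygi38 zgi52) (kgi xgi3 ygi37 zgi23) (kgi xgi7 ygi37 zgi36) (kgi xgi7 ygi25 zgi34) (kgi xgi1 ygi51 zgi12) (kgi xgi7 ygi7 zgi30) (kgi xgi7 ygi7 zgi28) (kgi xgi7 ygi37 zgi48) (kgi xgi7 ygi3 zgi29) (kgi xgi1 ygi53 zgi18) (kgi xgi3 ygi26 zgi47) (kgi xgi1 ygi54 zgi30) (kgi xgi7 ygi37 zgi58) (kgi xgi7 ygi3 zgi56) (kgi xgi3 ygi47 zgi34) (kgi xgi7 ygi37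 zgi18) (kgi xgi7 ygi38 zgi3) (kgi xgi7 ygi38 zgi4) (kgi xgi1 ygi51 zgi19) (kgi xgi5 ygi28 zgi2) (kgi xgi5 ygi28 zgi0) (kgi xgi7 ygi38 zgi2) (kgi xgi7 ygi37 zgi44) (kgi xgi7 ygi38 zgi19) (kgi xgi7 ygi37 zgi54) (kgi xgi6 ygi38 zgi23) (kgi xgi1 ygi51 zgi22) (kgi xgi7 ygi34 zgi60) (kgi xgi7 ygi38 zgi35) (kgi xgi7 ygi34 zgi57) (kgi xgi7 ygi37 zgi45) (kgi xgi7 ygi38 zgi42) (kgi xgi3 ygi53 zgi1) (kgi xgi7 ygi38 zgi45) (kgi xgi7 ygi3 zgi54) (kgi xgi7 ygi10 zgi17) (kgi xgi1 ygi51 zgi25) (kgi xgi7 ygi15 zgi27) (kgi xgi7 ygi15 zgi49) (kgi xgi7 ygi35 zgi1) (kgi xgi7 ygi30 zgi17) (kgi xgi7 ygi39 zgi1) (kgi xgi7 ygi24 zgi50) (kgi xgi3 ygi38 zgi40) (kgi xgi7 ygi2 zgi48) (kgi xgi7 ygi10 zgi34)) (@D3.rec (fun _ => Pt) (kgi xgi7 ygi39 zgi4) (kgi xgi1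 ygi51 zgi40) (kgi xgi7 ygi39 zgi9) (kgi xgi1 ygi51 zgi37) (kgi xgi1 ygi51 zgi34) (kgi xgi7 ygi13 zgi24) (kgi xgi7 ygi13 zgi22) (kgi xgi6 ygi16 zgi60) (kgi xgi7 ygi39 zgi16) (kgi xgi7 ygi8 zgi25) (kgi xgi7 ygi18 zgi17) (kgi xgi3 ygi42 zgi25) (kgi xgi3 ygi53 zgi2) (kgi xgi1 ygi51 zgi39) (kgi xgi7 ygi39 zgi10) (kgi xgi7 ygi13 zgi13) (kgi xgi3 ygi55 zgi28) (kgi xgi7 ygi20 zgi61) (kgi xgi1 ygi53 zgi11) (kgi xgi7 ygi39 zgi26) (kgi xgi3 ygi46 zgi33) (kgi xgi7 ygi39 zgi31) (kgi xgi1 ygi51 zgi44) (kgi xgi3 ygi15 zgi0) (kgi xgi2 ygi55 zgi54) (kgi xgi7 ygi39 zgi42) (kgi xgi1 ygi51 zgi45) (kgi xgi7 ygi39 zgi33) (kgi xgi7 ygi39 zgi50) (kgi xgi7 ygi8 zgi33) (kgi xgi1 ygi51 zgi46) (kgi xgi7 ygi35 zgi13) (kgi xgi7 ygi40 zgi0) (kgi xgi7 ygi35 zgi10)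 (kgi xgi7 ygi37 zgi55) (kgi xgi3 ygi35 zgi55) (kgi xgi7 ygi9 zgi45) (kgi xgi7 ygi40 zgi7) (kgi xgi7 ygi9 zgi29) (kgi xgi1 ygi53 zgi1) (kgi xgi1 ygi51 zgi49) (kgi xgi7 ygi9 zgi49) (kgi xgi7 ygi40 zgi21) (kgi xgi7 ygi35 zgi18) (kgi xgi7 ygi36 zgi3) (kgi xgi7 ygi9 zgi54) (kgi xgi1 ygi52 zgi42) (kgi xgi7 ygi8 zgi61) (kgi xgi7 ygi8 zgi57) (kgi xgi3 ygi38 zgi23) (kgi xgi1 ygi51 zgi55) (kgi xgi7 ygi9 zgi50) (kgi xgi7 ygi40 zgi38) (kgi xgi7 ygi9 zgi15) (kgi xgi7 ygi3 zgi41) (kgi xgi7 ygi40 zgi45) (kgi xgi1 ygi52 zgi28) (kgi xgi7 ygi10 zgi24) (kgi xgi7 ygi30 zgi11) (kgi xgi7 ygi40 zgi44) (kgi xgi7 ygi1 zgi18) (kgi xgi7 ygi36 zgi54)) (@D3.rec (fun _ => Pt) (kgi xgi6 ygi10 zgi42) (kgi xgi7 ygi40 zgi61) (kgi xgi7 ygi22 zgi15) (kgi xgi7 ygi41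 zgi5) (kgi xgi5 ygi51 zgi16) (kgi xgi7 ygi41 zgi11) (kgi xgi7 ygi41 zgi13) (kgi xgi1 ygi52 zgi0) (kgi xgi7 ygi41 zgi1) (kgi xgi7 ygi41 zgi25) (kgi xgi7 ygi40 zgi60) (kgi xgi1 ygi52 zgi1) (kgi xgi3 ygi26 zgi21) (kgi xgi7 ygi30 zgi16) (kgi xgi7 ygi41 zgi31) (kgi xgi1 ygi52 zgi3) (kgi xgi7 ygi35 zgi32) (kgi xgi7 ygi41 zgi41) (kgi xgi7 ygi35 zgi29) (kgi xgi1 ygi52 zgi4) (kgi xgi7 ygi41 zgi47) (kgi xgi7 ygi15 zgi51) (kgi xgi7 ygi14 zgi0) (kgi xgi1 ygi52 zgi43) (kgi xgi1 ygi52 zgi16) (kgi xgi2 ygi50 zgi12) (kgi xgi7 ygi41 zgi57) (kgi xgi3 ygi26 zgi27) (kgi xgi7 ygi42 zgi0) (kgi xgi3 ygi26 zgi29) (kgi xgi2 ygi51 zgi48) (kgi xgi7 ygi42 zgi5) (kgi xgi1 ygi52 zgi10) (kgi xgi2 ygi50 zgi2) (kgi xgi7 ygi42 zgi11) (kgi xgi1 ygi52 zgi11) (kgi xgi7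 ygi42 zgi2) (kgi xgi7 ygi42 zgi20) (kgi xgi7 ygi41 zgi61) (kgi xgi1 ygi52 zgi13) (kgi xgi7 ygi35 zgi48) (kgi xgi7 ygi42 zgi29) (kgi xgi7 ygi35 zgi45) (kgi xgi1 ygi52 zgi14) (kgi xgi7 ygi9 zgi53) (kgi xgi7 ygi42 zgi36) (kgi xgi7 ygi35 zgi49) (kgi xgi3 ygi27 zgi1) (kgi xgi3 ygi26 zgi61) (kgi xgi6 ygi33 zgi22) (kgi xgi7 ygi42 zgi46) (kgi xgi7 ygi41 zgi37) (kgi xgi7 ygi15 zgi47) (kgi xgi7 ygi42 zgi54) (kgi xgi1 ygi52 zgi20) (kgi xgi1 ygi52 zgi27) (kgi xgi7 ygi43 zgi0) (kgi xgi1 ygi52 zgi24) (kgi xgi7 ygi42 zgi40) (kgi xgi2 ygi56 zgi33) (kgi xgi1 ygi52 zgi22) (kgi xgi7 ygi43 zgi10)) (@D3.rec (fun _ => Pt) (kgi xgi7 ygi43 zgi14) (kgi xgi1 ygi52 zgi23) (kgi xgi7 ygi42 zgi56) (kgi xgi6 ygi8 zgi41) (kgi xgi7 ygi42 zgi53) (kgi xgi7 ygi42 zgi41)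 (kgi xgi7 ygi43 zgi33) (kgi xgi3 ygi56 zgi44) (kgi xgi7 ygi43 zgi37) (kgi xgi7 ygi43 zgi32) (kgi xgi1 ygi52 zgi26) (kgi xgi7 ygi43 zgi2) (kgi xgi7 ygi43 zgi49) (kgi xgi7 ygi42 zgi61) (kgi xgi3 ygi17 zgi30) (kgi xgi7 ygi43 zgi56) (kgi xgi7 ygi43 zgi60) (kgi xgi1 ygi52 zgi29) (kgi xgi7 ygi1 zgi44) (kgi xgi7 ygi44 zgi6) (kgi xgi7 ygi1 zgi41) (kgi xgi4 ygi48 zgi51) (kgi xgi7 ygi44 zgi11) (kgi xgi1 ygi52 zgi31) (kgi xgi7 ygi1 zgi30) (kgi xgi7 ygi44 zgi19) (kgi xgi7 ygi1 zgi27) (kgi xgi1 ygi52 zgi32) (kgi xgi6 ygi35 zgi50) (kgi xgi6 ygi35 zgi52) (kgi xgi7 ygi44 zgi28) (kgi xgi1 ygi52 zgi33) (kgi xgi6 ygi39 zgi60) (kgi xgi7 ygi44 zgi36) (kgi xgi6 ygi39 zgi61) (kgi xgi7 ygi40 zgi56) (kgi xgi6 ygi34 zgi30) (kgi xgi7 ygi44 zgi49) (kgi xgi7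 ygi44 zgi52) (kgi xgi7 ygi44 zgi55) (kgi xgi7 ygi44 zgi44) (kgi xgi7 ygi44 zgi48) (kgi xgi7 ygi44 zgi3) (kgi xgi1 ygi52 zgi36) (kgi xgi7 ygi36 zgi46) (kgi xgi7 ygi45 zgi13) (kgi xgi7 ygi36 zgi43) (kgi xgi6 ygi39 zgi47) (kgi xgi1 ygi52 zgi38) (kgi xgi6 ygi39 zgi50) (kgi xgi7 ygi45 zgi28) (kgi xgi1 ygi52 zgi39) (kgi xgi7 ygi35 zgi35) (kgi xgi7 ygi25 zgi51) (kgi xgi7 ygi45 zgi37) (kgi xgi7 ygi45 zgi41) (kgi xgi1 ygi52 zgi40) (kgi xgi3 ygi25 zgi54) (kgi xgi3 ygi37 zgi24) (kgi xgi3 ygi53 zgi40) (kgi xgi1 ygi52 zgi41) (kgi xgi1 ygi52 zgi45)) (@D3.rec (fun _ => Pt) (kgi xgi7 ygi45 zgi52) (kgi xgi7 ygi45 zgi56) (kgi xgi3 ygi30 zgi30) (kgi xgi3 ygi52 zgi58) (kgi xgi7 ygi36 zgi48) (kgi xgi7 ygi36 zgi47) (kgi xgi7 ygi46 zgi1) (kgi xgi7 ygi46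 zgi4) (kgi xgi7 ygi45 zgi51) (kgi xgi3 ygi46 zgi16) (kgi xgi3 ygi46 zgi18) (kgi xgi7 ygi40 zgi57) (kgi xgi7 ygi46 zgi11) (kgi xgi3 ygi37 zgi57) (kgi xgi7 ygi46 zgi15) (kgi xgi7 ygi45 zgi60) (kgi xgi7 ygi46 zgi10) (kgi xgi7 ygi3 zgi31) (kgi xgi7 ygi46 zgi25) (kgi xgi1 ygi52 zgi49) (kgi xgi7 ygi2 zgi58) (kgi xgi7 ygi46 zgi33) (kgi xgi7 ygi2 zgi55) (kgi xgi7 ygi37 zgi2) (kgi xgi7 ygi46 zgi40) (kgi xgi7 ygi30 zgi24) (kgi xgi7 ygi35 zgi38) (kgi xgi7 ygi46 zgi46) (kgi xgi3 ygi56 zgi6) (kgi xgi7 ygi41 zgi59) (kgi xgi7 ygi46 zgi45) (kgi xgi1 ygi52 zgi54) (kgi xgi7 ygi30 zgi26) (kgi xgi7 ygi46 zgi60) (kgi xgi3 ygi52 zgi43) (kgi xgi3 ygi52 zgi39) (kgi xgi7 ygi37 zgi25) (kgi xgi7 ygi47 zgi5) (kgi xgi6 ygi57 zgi31) (kgi xgi1 ygi52 zgi58) (kgi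 xgi3 ygi52 zgi35) (kgi xgi6 ygi55 zgi44) (kgi xgi7 ygi30 zgi35) (kgi xgi1 ygi52 zgi59) (kgi xgi3 ygi52 zgi34) (kgi xgi7 ygi47 zgi10) (kgi xgi7 ygi3 zgi34) (kgi xgi1 ygi52 zgi61) (kgi xgi4 ygi47 zgi49) (kgi xgi7 ygi47 zgi21) (kgi xgi7 ygi47 zgi25) (kgi xgi1 ygi53 zgi0) (kgi xgi1 ygi53 zgi12) (kgi xgi7 ygi45 zgi49) (kgi xgi7 ygi47 zgi37) (kgi xgi3 ygi48 zgi4) (kgi xgi7 ygi47 zgi41) (kgi xgi3 ygi52 zgi3) (kgi xgi3 ygi47 zgi53) (kgi xgi1 ygi53 zgi4) (kgi xgi1 ygi53 zgi14) (kgi xgi7 ygi47 zgi51)) (@D3.rec (fun _ => Pt) (kgi xgi7 ygi0 zgi23) (kgi xgi3 ygi53 zgi19) (kgi xgi7 ygi12 zgi27) (kgi xgi7 ygi8 zgi38) (kgi xgi7 ygi47 zgi57) (kgi xgi7 ygi48 zgi0) (kgi xgi3 ygi34 zgi7) (kgi xgi1 ygi53 zgi9) (kgi xgi7 ygi18 zgi46) (kgi xgi6 ygi58 zgi22)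 (kgi xgi1 ygi53 zgi10) (kgi xgi7 ygi47 zgi56) (kgi xgi3 ygi41 zgi45) (kgi xgi7 ygi37 zgi10) (kgi xgi7 ygi37 zgi9) (kgi xgi7 ygi48 zgi9) (kgi xgi7 ygi26 zgi17) (kgi xgi7 ygi45 zgi47) (kgi xgi7 ygi48 zgi18) (kgi xgi1 ygi53 zgi13) (kgi xgi3 ygi46 zgi6) (kgi xgi7 ygi33 zgi23) (kgi xgi7 ygi48 zgi24) (kgi xgi7 ygi3 zgi21) (kgi xgi7 ygi8 zgi54) (kgi xgi7 ygi37 zgi41) (kgi xgi6 ygi43 zgi14) (kgi xgi7 ygi48 zgi31) (kgi xgi7 ygi10 zgi15) (kgi xgi7 ygi39 zgi28) (kgi xgi7 ygi48 zgi30) (kgi xgi6 ygi58 zgi56) (kgi xgi6 ygi59 zgi14) (kgi xgi1 ygi53 zgi23) (kgi xgi3 ygi38 zgi30) (kgi xgi6 ygi20 zgi52) (kgi xgi3 ygi35 zgi19) (kgi xgi6 ygi21 zgi33) (kgi xgi6 ygi24 zgi3) (kgi xgi7 ygi48 zgi53) (kgi xgi3 ygi27 zgi33) (kgi xgi7 ygi48 zgi56) (kgi xgi3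 ygi46 zgi25) (kgi xgi7 ygi37 zgi6) (kgi xgi7 ygi49 zgi1) (kgi xgi3 ygi35 zgi30) (kgi xgi7 ygi49 zgi6) (kgi xgi3 ygi39 zgi19) (kgi xgi6 ygi58 zgi13) (kgi xgi6 ygi58 zgi30) (kgi xgi6 ygi58 zgi37) (kgi xgi3 ygi38 zgi42) (kgi xgi6 ygi41 zgi47) (kgi xgi7 ygi49 zgi19) (kgi xgi1 ygi53 zgi34) (kgi xgi7 ygi49 zgi24) (kgi xgi7 ygi49 zgi28) (kgi xgi1 ygi53 zgi49) (kgi xgi7 ygi29 zgi37) (kgi xgi1 ygi53 zgi46) (kgi xgi3 ygi42 zgi10) (kgi xgi7 ygi20 zgi17)) (@D3.rec (fun _ => Pt) (kgi xgi3 ygi31 zgi49) (kgi xgi1 ygi54 zgi43) (kgi xgi1 ygi53 zgi40) (kgi xgi3 ygi54 zgi60) (kgi xgi3 ygi54 zgi58) (kgi xgi7 ygi49 zgi46) (kgi xgi7 ygi4 zgi41) (kgi xgi1 ygi54 zgi52) (kgi xgi1 ygi53 zgi42) (kgi xgi3 ygi55 zgi3) (kgi xgi3 ygi55 zgi1) (kgi xgi7 ygi49 zgi56)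 (kgi xgi7 ygi49 zgi58) (kgi xgi7 ygi49 zgi61) (kgi xgi4 ygi57 zgi12) (kgi xgi1 ygi53 zgi45) (kgi xgi7 ygi49 zgi30) (kgi xgi7 ygi50 zgi11) (kgi xgi7 ygi49 zgi27) (kgi xgi7 ygi49 zgi43) (kgi xgi7 ygi16 zgi36) (kgi xgi3 ygi27 zgi57) (kgi xgi7 ygi50 zgi21) (kgi xgi7 ygi50 zgi18) (kgi xgi7 ygi20 zgi46) (kgi xgi1 ygi53 zgi48) (kgi xgi7 ygi49 zgi35) (kgi xgi7 ygi50 zgi35) (kgi xgi7 ygi49 zgi33) (kgi xgi6 ygi34 zgi11) (kgi xgi1 ygi53 zgi51) (kgi xgi7 ygi20 zgi21) (kgi xgi7 ygi50 zgi47) (kgi xgi7 ygi50 zgi50) (kgi xgi1 ygi53 zgi52) (kgi xgi7 ygi50 zgi54) (kgi xgi3 ygi26 zgi36) (kgi xgi7 ygi15 zgi29) (kgi xgi3 ygi53 zgi25) (kgi xgi7 ygi50 zgi60) (kgi xgi7 ygi50 zgi46) (kgi xgi7 ygi20 zgi37) (kgi xgi7 ygi50 zgi53) (kgi xgi3 ygi26 zgi11) (kgi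 xgi1 ygi54 zgi34) (kgi xgi7 ygi15 zgi43) (kgi xgi7 ygi14 zgi60) (kgi xgi1 ygi53 zgi60) (kgi xgi7 ygi21 zgi24) (kgi xgi7 ygi51 zgi17) (kgi xgi7 ygi51 zgi21) (kgi xgi1 ygi54 zgi14) (kgi xgi7 ygi23 zgi56) (kgi xgi1 ygi54 zgi11) (kgi xgi3 ygi26 zgi42) (kgi xgi7 ygi25 zgi6) (kgi xgi7 ygi51 zgi31) (kgi xgi1 ygi54 zgi20) (kgi xgi1 ygi54 zgi5) (kgi xgi3 ygi54 zgi4) (kgi xgi3 ygi54 zgi2) (kgi xgi7 ygi51 zgi39)) (@D3.rec (fun _ => Pt) (kgi xgi7 ygi5 zgi9) (kgi xgi1 ygi54 zgi7) (kgi xgi3 ygi54 zgi10) (kgi xgi3 ygi54 zgi8) (kgi xgi7 ygi51 zgi48) (kgi xgi7 ygi51 zgi52) (kgi xgi3 ygi40 zgi16) (kgi xgi7 ygi51 zgi56) (kgi xgi7 ygi51 zgi60) (kgi xgi1 ygi54 zgi10) (kgi xgi7 ygi51 zgi23) (kgi xgi7 ygi52 zgi10) (kgi xgi7 ygi51 zgi20) (kgi xgi7 ygi51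 zgi36) (kgi xgi7 ygi11 zgi19) (kgi xgi7 ygi52 zgi18) (kgi xgi7 ygi52 zgi15) (kgi xgi3 ygi56 zgi11) (kgi xgi1 ygi54 zgi13) (kgi xgi7 ygi51 zgi28) (kgi xgi7 ygi52 zgi29) (kgi xgi7 ygi51 zgi26) (kgi xgi1 ygi54 zgi16) (kgi xgi7 ygi25 zgi9) (kgi xgi7 ygi52 zgi40) (kgi xgi7 ygi41 zgi7) (kgi xgi7 ygi52 zgi39) (kgi xgi6 ygi57 zgi44) (kgi xgi3 ygi49 zgi2) (kgi xgi6 ygi54 zgi9) (kgi xgi7 ygi9 zgi47) (kgi xgi7 ygi52 zgi49) (kgi xgi3 ygi39 zgi6) (kgi xgi1 ygi54 zgi22) (kgi xgi7 ygi51 zgi33) (kgi xgi7 ygi11 zgi9) (kgi xgi6 ygi52 zgi1) (kgi xgi7 ygi53 zgi0) (kgi xgi7 ygi53 zgi3) (kgi xgi3 ygi24 zgi39) (kgi xgi1 ygi54 zgi40) (kgi xgi3 ygi30 zgi6) (kgi xgi7 ygi53 zgi8) (kgi xgi1 ygi54 zgi28) (kgi xgi3 ygi26 zgi55) (kgi xgi7 ygi53 zgi15) (kgi xgi3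 ygi45 zgi47) (kgi xgi7 ygi35 zgi16) (kgi xgi3 ygi12 zgi48) (kgi xgi7 ygi53 zgi20) (kgi xgi1 ygi54 zgi32) (kgi xgi7 ygi53 zgi25) (kgi xgi3 ygi26 zgi25) (kgi xgi7 ygi49 zgi32) (kgi xgi7 ygi16 zgi38) (kgi xgi1 ygi54 zgi37) (kgi xgi7 ygi42 zgi3) (kgi xgi7 ygi53 zgi35) (kgi xgi7 ygi26 zgi9) (kgi xgi7 ygi37 zgi7) (kgi xgi7 ygi53 zgi34) (kgi xgi6 ygi33 zgi61)) (@D3.rec (fun _ => Pt) (kgi xgi7 ygi51 zgi4) (kgi xgi1 ygi54 zgi42) (kgi xgi3 ygi41 zgi23) (kgi xgi7 ygi48 zgi38) (kgi xgi7 ygi53 zgi49) (kgi xgi7 ygi17 zgi51) (kgi xgi3 ygi34 zgi42) (kgi xgi7 ygi53 zgi57) (kgi xgi7 ygi21 zgi20) (kgi xgi7 ygi49 zgi22) (kgi xgi3 ygi56 zgi37) (kgi xgi3 ygi56 zgi25) (kgi xgi3 ygi56 zgi21) (kgi xgi7 ygi54 zgi5) (kgi xgi3 ygi26 zgi17) (kgi xgi7 ygi4 zgi45)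 (kgi xgi7 ygi54 zgi11) (kgi xgi1 ygi54 zgi53) (kgi xgi3 ygi56 zgi32) (kgi xgi7 ygi54 zgi21) (kgi xgi7 ygi54 zgi25) (kgi xgi1 ygi54 zgi54) (kgi xgi3 ygi56 zgi12) (kgi xgi7 ygi4 zgi58) (kgi xgi7 ygi52 zgi47) (kgi xgi1 ygi54 zgi56) (kgi xgi3 ygi44 zgi5) (kgi xgi7 ygi21 zgi19) (kgi xgi7 ygi54 zgi36) (kgi xgi7 ygi25 zgi61) (kgi xgi7 ygi25 zgi31) (kgi xgi7 ygi54 zgi46) (kgi xgi3 ygi56 zgi17) (kgi xgi3 ygi54 zgi21) (kgi xgi7 ygi54 zgi51) (kgi xgi7 ygi51 zgi41) (kgi xgi7 ygi24 zgi1) (kgi xgi1 ygi55 zgi2) (kgi xgi3 ygi56 zgi10) (kgi xgi7 ygi54 zgi24) (kgi xgi7 ygi55 zgi7) (kgi xgi1 ygi55 zgi3) (kgi xgi6 ygi58 zgi4) (kgi xgi7 ygi18 zgi5) (kgi xgi6 ygi52 zgi39) (kgi xgi6 ygi26 zgi19) (kgi xgi7 ygi55 zgi17) (kgi xgi1 ygi55 zgi6) (kgi xgi6 ygi52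 zgi56) (kgi xgi3 ygi52 zgi41) (kgi xgi3 ygi35 zgi15) (kgi xgi3 ygi53 zgi6) (kgi xgi1 ygi55 zgi10) (kgi xgi2 ygi8 zgi14) (kgi xgi4 ygi50 zgi56) (kgi xgi2 ygi1 zgi60) (kgi xgi4 ygi15 zgi53) (kgi xgi5 ygi24 zgi22) (kgi xgi1 ygi55 zgi15) (kgi xgi4 ygi12 zgi42) (kgi xgi7 ygi55 zgi36) (kgi xgi2 ygi7 zgi44)) (@D3.rec (fun _ => Pt) (kgi xgi4 ygi4 zgi46) (kgi xgi7 ygi55 zgi41) (kgi xgi2 ygi8 zgi3) (kgi xgi7 ygi55 zgi46) (kgi xgi7 ygi55 zgi49) (kgi xgi1 ygi55 zgi19) (kgi xgi2 ygi8 zgi33) (kgi xgi7 ygi55 zgi57) (kgi xgi4 ygi56 zgi47) (kgi xgi2 ygi8 zgi29) (kgi xgi7 ygi56 zgi2) (kgi xgi2 ygi0 zgi22) (kgi xgi4 ygi19 zgi27) (kgi xgi4 ygi18 zgi58) (kgi xgi4 ygi56 zgi45) (kgi xgi7 ygi56 zgi10) (kgi xgi2 ygi7 zgi40) (kgi xgi7 ygi56 zgi13) (kgi xgi1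 ygi56 zgi61) (kgi xgi4 ygi56 zgi38) (kgi xgi7 ygi7 zgi38) (kgi xgi4 ygi4 zgi49) (kgi xgi4 ygi0 zgi0) (kgi xgi7 ygi7 zgi57) (kgi xgi4 ygi19 zgi20) (kgi xgi5 ygi41 zgi38) (kgi xgi4 ygi22 zgi27) (kgi xgi2 ygi30 zgi40) (kgi xgi5 ygi41 zgi44) (kgi xgi5 ygi41 zgi46) (kgi xgi7 ygi56 zgi26) (kgi xgi4 ygi32 zgi50) (kgi xgi1 ygi55 zgi32) (kgi xgi2 ygi9 zgi15) (kgi xgi4 ygi56 zgi55) (kgi xgi7 ygi56 zgi37) (kgi xgi2 ygi9 zgi11) (kgi xgi1 ygi55 zgi34) (kgi xgi2 ygi9 zgi36) (kgi xgi7 ygi56 zgi43) (kgi xgi7 ygi56 zgi46) (kgi xgi1 ygi55 zgi37) (kgi xgi2 ygi9 zgi51) (kgi xgi2 ygi9 zgi49) (kgi xgi4 ygi24 zgi15) (kgi xgi7 ygi56 zgi54) (kgi xgi1 ygi55 zgi39) (kgi xgi2 ygi10 zgi4) (kgi xgi7 ygi56 zgi60) (kgi xgi7 ygi57 zgi1) (kgi xgi4 ygi20 zgi32) (kgi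 xgi2 ygi50 zgi58) (kgi xgi3 ygi4 zgi2) (kgi xgi2 ygi30 zgi59) (kgi xgi4 ygi25 zgi17) (kgi xgi5 ygi47 zgi19) (kgi xgi5 ygi41 zgi37) (kgi xgi4 ygi26 zgi35) (kgi xgi1 ygi55 zgi45) (kgi xgi4 ygi26 zgi37) (kgi xgi5 ygi49 zgi24) (kgi xgi7 ygi57 zgi23)) (@D3.rec (fun _ => Pt) (kgi xgi1 ygi55 zgi46) (kgi xgi2 ygi10 zgi34) (kgi xgi2 ygi10 zgi32) (kgi xgi5 ygi17 zgi23) (kgi xgi7 ygi57 zgi32) (kgi xgi5 ygi15 zgi52) (kgi xgi2 ygi44 zgi7) (kgi xgi2 ygi7 zgi15) (kgi xgi1 ygi55 zgi52) (kgi xgi1 ygi56 zgi2) (kgi xgi4 ygi4 zgi0) (kgi xgi1 ygi55 zgi61) (kgi xgi5 ygi22 zgi58) (kgi xgi5 ygi22 zgi42) (kgi xgi4 ygi51 zgi20) (kgi xgi7 ygi57 zgi53) (kgi xgi1 ygi55 zgi56) (kgi xgi7 ygi57 zgi57) (kgi xgi2 ygi44 zgi20) (kgi xgi1 ygi59 zgi54) (kgi xgi2 ygi43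 zgi39) (kgi xgi2 ygi28 zgi14) (kgi xgi7 ygi57 zgi56) (kgi xgi7 ygi58 zgi8) (kgi xgi4 ygi13 zgi24) (kgi xgi5 ygi21 zgi18) (kgi xgi7 ygi58 zgi16) (kgi xgi2 ygi43 zgi31) (kgi xgi7 ygi58 zgi11) (kgi xgi7 ygi58 zgi23) (kgi xgi1 ygi56 zgi1) (kgi xgi7 ygi57 zgi47) (kgi xgi7 ygi58 zgi33) (kgi xgi7 ygi58 zgi37) (kgi xgi4 ygi28 zgi4) (kgi xgi7 ygi58 zgi43) (kgi xgi4 ygi20 zgi46) (kgi xgi7 ygi58 zgi47) (kgi xgi1 ygi56 zgi4) (kgi xgi2 ygi25 zgi48) (kgi xgi2 ygi25 zgi45) (kgi xgi1 ygi56 zgi5) (kgi xgi2 ygi25 zgi54) (kgi xgi2 ygi25 zgi52) (kgi xgi1 ygi56 zgi6) (kgi xgi5 ygi31 zgi29) (kgi xgi5 ygi31 zgi27) (kgi xgi7 ygi59 zgi1) (kgi xgi5 ygi46 zgi15) (kgi xgi1 ygi56 zgi8) (kgi xgi1 ygi59 zgi61) (kgi xgi7 ygi59 zgi6) (kgi xgi6 ygi14 zgi21) (kgi xgi1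 ygi56 zgi12) (kgi xgi2 ygi26 zgi10) (kgi xgi2 ygi26 zgi8) (kgi xgi1 ygi56 zgi14) (kgi xgi1 ygi56 zgi16) (kgi xgi5 ygi43 zgi19) (kgi xgi7 ygi59 zgi13) (kgi xgi2 ygi46 zgi16) (kgi xgi2 ygi46 zgi23)) (@D3.rec (fun _ => Pt) (kgi xgi1 ygi56 zgi18) (kgi xgi2 ygi46 zgi5) (kgi xgi7 ygi59 zgi12) (kgi xgi5 ygi37 zgi40) (kgi xgi5 ygi13 zgi60) (kgi xgi7 ygi59 zgi30) (kgi xgi1 ygi56 zgi17) (kgi xgi7 ygi59 zgi8) (kgi xgi7 ygi59 zgi38) (kgi xgi7 ygi59 zgi43) (kgi xgi7 ygi59 zgi29) (kgi xgi3 ygi5 zgi47) (kgi xgi4 ygi33 zgi49) (kgi xgi1 ygi56 zgi20) (kgi xgi2 ygi26 zgi48) (kgi xgi2 ygi26 zgi46) (kgi xgi7 ygi59 zgi52) (kgi xgi5 ygi50 zgi3) (kgi xgi5 ygi14 zgi13) (kgi xgi1 ygi56 zgi23) (kgi xgi1 ygi56 zgi27) (kgi xgi2 ygi15 zgi5) (kgi xgi6 ygi24 zgi31)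 (kgi xgi7 ygi59 zgi60) (kgi xgi8 ygi0 zgi0) (kgi xgi2 ygi52 zgi13) (kgi xgi2 ygi31 zgi19) (kgi xgi2 ygi51 zgi40) (kgi xgi2 ygi14 zgi49) (kgi xgi2 ygi51 zgi50) (kgi xgi5 ygi56 zgi23) (kgi xgi1 ygi57 zgi12) (kgi xgi6 ygi15 zgi55) (kgi xgi8 ygi0 zgi11) (kgi xgi6 ygi15 zgi57) (kgi xgi6 ygi30 zgi21) (kgi xgi2 ygi52 zgi44) (kgi xgi5 ygi29 zgi11) (kgi xgi2 ygi52 zgi45) (kgi xgi3 ygi23 zgi34) (kgi xgi8 ygi0 zgi23) (kgi xgi5 ygi57 zgi50) (kgi xgi8 ygi0 zgi27) (kgi xgi2 ygi50 zgi29) (kgi xgi2 ygi50 zgi9) (kgi xgi8 ygi0 zgi26) (kgi xgi6 ygi22 zgi2) (kgi xgi1 ygi56 zgi33) (kgi xgi4 ygi41 zgi45) (kgi xgi8 ygi0 zgi41) (kgi xgi1 ygi56 zgi34) (kgi xgi8 ygi0 zgi24) (kgi xgi8 ygi0 zgi22) (kgi xgi2 ygi50 zgi13) (kgi xgi8 ygi0 zgi56) (kgi xgi4 ygi41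 zgi51) (kgi xgi6 ygi6 zgi9) (kgi xgi5 ygi52 zgi50) (kgi xgi2 ygi33 zgi16) (kgi xgi8 ygi1 zgi0) (kgi xgi4 ygi58 zgi12) (kgi xgi4 ygi22 zgi59))
def fi_g_4 : D2 → D3 → Pt := @D2.rec (fun _ => D3 → Pt) (@D3.rec (fun _ => Pt) (kgi xgi4 ygi22 zgi61) (kgi xgi5 ygi46 zgi46) (kgi xgi3 ygi57 zgi22) (kgi xgi4 ygi53 zgi13) (kgi xgi8 ygi1 zgi11) (kgi xgi3 ygi57 zgi18) (kgi xgi3 ygi3 zgi49) (kgi xgi4 ygi24 zgi33) (kgi xgi3 ygi10 zgi4) (kgi xgi3 ygi43 zgi36) (kgi xgi8 ygi1 zgi19) (kgi xgi1 ygi56 zgi53) (kgi xgi4 ygi0 zgi57) (kgi xgi4 ygi0 zgi55) (kgi xgi4 ygi4 zgi60) (kgi xgi8 ygi1 zgi29) (kgi xgi2 ygi41 zgi2) (kgi xgi4 ygi52 zgi28) (kgi xgi8 ygi1 zgi35) (kgi xgi4 ygi21 zgi42) (kgi xgi2 ygi24 zgi21) (kgi xgi4 ygi52 zgi4) (kgi xgi8 ygi1 zgi42) (kgi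 xgi1 ygi56 zgi59) (kgi xgi2 ygi18 zgi51) (kgi xgi1 ygi56 zgi60) (kgi xgi8 ygi1 zgi44) (kgi xgi7 ygi59 zgi24) (kgi xgi8 ygi1 zgi54) (kgi xgi8 ygi1 zgi45) (kgi xgi4 ygi21 zgi33) (kgi xgi8 ygi2 zgi0) (kgi xgi2 ygi8 zgi43) (kgi xgi2 ygi10 zgi39) (kgi xgi1 ygi57 zgi2) (kgi xgi3 ygi3 zgi44) (kgi xgi3 ygi3 zgi42) (kgi xgi6 ygi13 zgi43) (kgi xgi8 ygi2 zgi8) (kgi xgi1 ygi57 zgi8) (kgi xgi1 ygi57 zgi10) (kgi xgi7 ygi56 zgi58) (kgi xgi4 ygi23 zgi48) (kgi xgi4 ygi20 zgi35) (kgi xgi2 ygi15 zgi8) (kgi xgi8 ygi2 zgi11) (kgi xgi5 ygi43 zgi56) (kgi xgi8 ygi1 zgi58) (kgi xgi5 ygi49 zgi22) (kgi xgi1 ygi57 zgi11) (kgi xgi8 ygi2 zgi9) (kgi xgi8 ygi2 zgi28) (kgi xgi8 ygi2 zgi22) (kgi xgi8 ygi0 zgi10) (kgi xgi4 ygi26 zgi48) (kgi xgi1 ygi57 zgi14) (kgi xgi4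 ygi0 zgi13) (kgi xgi4 ygi0 zgi11) (kgi xgi8 ygi2 zgi41) (kgi xgi2 ygi37 zgi38) (kgi xgi2 ygi25 zgi36) (kgi xgi6 ygi4 zgi45)) (@D3.rec (fun _ => Pt) (kgi xgi4 ygi21 zgi22) (kgi xgi1 ygi57 zgi19) (kgi xgi2 ygi43 zgi61) (kgi xgi1 ygi58 zgi34) (kgi xgi2 ygi34 zgi18) (kgi xgi2 ygi4 zgi2) (kgi xgi8 ygi2 zgi57) (kgi xgi2 ygi4 zgi47) (kgi xgi8 ygi3 zgi1) (kgi xgi8 ygi3 zgi4) (kgi xgi8 ygi3 zgi7) (kgi xgi1 ygi57 zgi35) (kgi xgi5 ygi8 zgi34) (kgi xgi8 ygi3 zgi12) (kgi xgi2 ygi0 zgi1) (kgi xgi2 ygi4 zgi3) (kgi xgi1 ygi57 zgi37) (kgi xgi1 ygi59 zgi34) (kgi xgi2 ygi53 zgi27) (kgi xgi5 ygi8 zgi32) (kgi xgi8 ygi3 zgi21) (kgi xgi2 ygi33 zgi54) (kgi xgi4 ygi13 zgi35) (kgi xgi6 ygi13 zgi47) (kgi xgi8 ygi3 zgi28) (kgi xgi4 ygi20 zgi4) (kgi xgi5 ygi13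 zgi44) (kgi xgi2 ygi45 zgi14) (kgi xgi4 ygi23 zgi57) (kgi xgi8 ygi3 zgi36) (kgi xgi8 ygi3 zgi38) (kgi xgi8 ygi3 zgi35) (kgi xgi4 ygi22 zgi35) (kgi xgi4 ygi20 zgi45) (kgi xgi1 ygi57 zgi45) (kgi xgi4 ygi2 zgi25) (kgi xgi5 ygi9 zgi20) (kgi xgi8 ygi3 zgi53) (kgi xgi4 ygi2 zgi21) (kgi xgi5 ygi2 zgi50) (kgi xgi1 ygi57 zgi49) (kgi xgi8 ygi3 zgi8) (kgi xgi8 ygi4 zgi1) (kgi xgi5 ygi12 zgi51) (kgi xgi5 ygi1 zgi6) (kgi xgi2 ygi0 zgi41) (kgi xgi2 ygi25 zgi1) (kgi xgi1 ygi58 zgi14) (kgi xgi8 ygi4 zgi13) (kgi xgi4 ygi13 zgi48) (kgi xgi4 ygi2 zgi41) (kgi xgi5 ygi4 zgi0) (kgi xgi1 ygi57 zgi53) (kgi xgi2 ygi31 zgi48) (kgi xgi8 ygi4 zgi28) (kgi xgi8 ygi4 zgi33) (kgi xgi2 ygi31 zgi44) (kgi xgi5 ygi2 zgi2) (kgi xgi1 ygi57 zgi55) (kgi xgi1 ygi57 zgi61)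 (kgi xgi8 ygi3 zgi59) (kgi xgi8 ygi4 zgi40)) (@D3.rec (fun _ => Pt) (kgi xgi1 ygi59 zgi29) (kgi xgi1 ygi59 zgi31) (kgi xgi1 ygi57 zgi59) (kgi xgi2 ygi4 zgi6) (kgi xgi5 ygi2 zgi17) (kgi xgi8 ygi4 zgi47) (kgi xgi3 ygi38 zgi33) (kgi xgi4 ygi4 zgi59) (kgi xgi5 ygi13 zgi2) (kgi xgi8 ygi4 zgi52) (kgi xgi8 ygi3 zgi16) (kgi xgi3 ygi4 zgi25) (kgi xgi7 ygi56 zgi41) (kgi xgi8 ygi3 zgi14) (kgi xgi8 ygi3 zgi15) (kgi xgi3 ygi4 zgi34) (kgi xgi1 ygi58 zgi8) (kgi xgi8 ygi0 zgi60) (kgi xgi8 ygi5 zgi3) (kgi xgi8 ygi5 zgi10) (kgi xgi8 ygi4 zgi60) (kgi xgi1 ygi58 zgi9) (kgi xgi4 ygi1 zgi38) (kgi xgi8 ygi4 zgi32) (kgi xgi8 ygi5 zgi22) (kgi xgi4 ygi1 zgi34) (kgi xgi2 ygi49 zgi3) (kgi xgi8 ygi5 zgi27) (kgi xgi8 ygi5 zgi30) (kgi xgi8 ygi5 zgi33) (kgi xgi8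 ygi4 zgi4) (kgi xgi2 ygi31 zgi39) (kgi xgi8 ygi5 zgi40) (kgi xgi5 ygi6 zgi5) (kgi xgi2 ygi36 zgi33) (kgi xgi2 ygi28 zgi32) (kgi xgi2 ygi36 zgi30) (kgi xgi8 ygi5 zgi49) (kgi xgi8 ygi5 zgi52) (kgi xgi8 ygi5 zgi55) (kgi xgi5 ygi8 zgi49) (kgi xgi4 ygi1 zgi47) (kgi xgi8 ygi6 zgi0) (kgi xgi2 ygi41 zgi3) (kgi xgi4 ygi18 zgi57) (kgi xgi2 ygi41 zgi16) (kgi xgi5 ygi28 zgi6) (kgi xgi2 ygi11 zgi28) (kgi xgi2 ygi42 zgi19) (kgi xgi2 ygi5 zgi5) (kgi xgi8 ygi6 zgi12) (kgi xgi1 ygi58 zgi27) (kgi xgi2 ygi40 zgi55) (kgi xgi8 ygi6 zgi21) (kgi xgi8 ygi6 zgi26) (kgi xgi5 ygi16 zgi56) (kgi xgi2 ygi43 zgi27) (kgi xgi1 ygi58 zgi29) (kgi xgi1 ygi58 zgi32) (kgi xgi8 ygi6 zgi33) (kgi xgi8 ygi6 zgi38) (kgi xgi4 ygi21 zgi20)) (@D3.rec (fun _ => Pt) (kgi xgi2 ygi23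 zgi33) (kgi xgi5 ygi17 zgi41) (kgi xgi4 ygi15 zgi20) (kgi xgi5 ygi1 zgi30) (kgi xgi4 ygi19 zgi9) (kgi xgi1 ygi58 zgi33) (kgi xgi2 ygi28 zgi15) (kgi xgi4 ygi51 zgi7) (kgi xgi2 ygi4 zgi34) (kgi xgi2 ygi28 zgi24) (kgi xgi8 ygi6 zgi53) (kgi xgi4 ygi50 zgi45) (kgi xgi8 ygi6 zgi59) (kgi xgi1 ygi58 zgi36) (kgi xgi8 ygi2 zgi51) (kgi xgi8 ygi7 zgi5) (kgi xgi8 ygi7 zgi9) (kgi xgi4 ygi14 zgi21) (kgi xgi8 ygi3 zgi6) (kgi xgi2 ygi10 zgi58) (kgi xgi5 ygi35 zgi31) (kgi xgi5 ygi23 zgi12) (kgi xgi2 ygi11 zgi9) (kgi xgi2 ygi10 zgi54) (kgi xgi1 ygi59 zgi8) (kgi xgi8 ygi7 zgi24) (kgi xgi1 ygi59 zgi20) (kgi xgi8 ygi6 zgi47) (kgi xgi8 ygi7 zgi29) (kgi xgi8 ygi7 zgi33) (kgi xgi1 ygi58 zgi43) (kgi xgi4 ygi52 zgi50) (kgi xgi8 ygi7 zgi41) (kgi xgi4 ygi52 zgi48)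 (kgi xgi4 ygi20 zgi0) (kgi xgi2 ygi11 zgi13) (kgi xgi4 ygi10 zgi5) (kgi xgi2 ygi37 zgi15) (kgi xgi1 ygi58 zgi49) (kgi xgi2 ygi11 zgi1) (kgi xgi4 ygi19 zgi44) (kgi xgi8 ygi7 zgi53) (kgi xgi1 ygi58 zgi50) (kgi xgi4 ygi52 zgi52) (kgi xgi4 ygi8 zgi8) (kgi xgi5 ygi28 zgi15) (kgi xgi8 ygi7 zgi57) (kgi xgi5 ygi39 zgi16) (kgi xgi1 ygi58 zgi52) (kgi xgi4 ygi19 zgi16) (kgi xgi8 ygi8 zgi5) (kgi xgi4 ygi19 zgi13) (kgi xgi3 ygi57 zgi14) (kgi xgi5 ygi0 zgi41) (kgi xgi8 ygi8 zgi14) (kgi xgi8 ygi8 zgi17) (kgi xgi8 ygi8 zgi21) (kgi xgi1 ygi58 zgi58) (kgi xgi8 ygi2 zgi59) (kgi xgi8 ygi8 zgi30) (kgi xgi8 ygi2 zgi56) (kgi xgi4 ygi10 zgi4)) (@D3.rec (fun _ => Pt) (kgi xgi3 ygi58 zgi34) (kgi xgi8 ygi8 zgi38) (kgi xgi8 ygi8 zgi41) (kgi xgi8 ygi8 zgi45)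 (kgi xgi1 ygi58 zgi61) (kgi xgi8 ygi3 zgi2) (kgi xgi8 ygi3 zgi0) (kgi xgi8 ygi8 zgi55) (kgi xgi8 ygi8 zgi27) (kgi xgi8 ygi8 zgi61) (kgi xgi8 ygi8 zgi52) (kgi xgi1 ygi59 zgi2) (kgi xgi8 ygi9 zgi5) (kgi xgi8 ygi9 zgi11) (kgi xgi8 ygi9 zgi18) (kgi xgi8 ygi9 zgi6) (kgi xgi8 ygi9 zgi23) (kgi xgi8 ygi9 zgi26) (kgi xgi1 ygi59 zgi5) (kgi xgi8 ygi2 zgi52) (kgi xgi2 ygi24 zgi7) (kgi xgi8 ygi9 zgi38) (kgi xgi2 ygi25 zgi28) (kgi xgi2 ygi6 zgi61) (kgi xgi8 ygi9 zgi43) (kgi xgi8 ygi9 zgi46) (kgi xgi8 ygi7 zgi38) (kgi xgi1 ygi59 zgi9) (kgi xgi4 ygi14 zgi32) (kgi xgi8 ygi9 zgi57) (kgi xgi4 ygi14 zgi29) (kgi xgi5 ygi3 zgi1) (kgi xgi2 ygi7 zgi39) (kgi xgi4 ygi20 zgi51) (kgi xgi2 ygi38 zgi42) (kgi xgi5 ygi5 zgi6) (kgi xgi2 ygi43 zgi45) (kgi xgi4 ygi52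 zgi57) (kgi xgi2 ygi12 zgi42) (kgi xgi8 ygi10 zgi6) (kgi xgi8 ygi8 zgi3) (kgi xgi1 ygi59 zgi21) (kgi xgi2 ygi45 zgi36) (kgi xgi8 ygi10 zgi18) (kgi xgi2 ygi45 zgi33) (kgi xgi2 ygi25 zgi29) (kgi xgi3 ygi56 zgi59) (kgi xgi8 ygi10 zgi24) (kgi xgi8 ygi10 zgi26) (kgi xgi2 ygi26 zgi24) (kgi xgi8 ygi10 zgi30) (kgi xgi4 ygi37 zgi1) (kgi xgi1 ygi59 zgi33) (kgi xgi8 ygi10 zgi31) (kgi xgi5 ygi5 zgi7) (kgi xgi8 ygi10 zgi36) (kgi xgi8 ygi10 zgi32) (kgi xgi8 ygi3 zgi61) (kgi xgi8 ygi10 zgi43) (kgi xgi4 ygi2 zgi3) (kgi xgi4 ygi52 zgi59) (kgi xgi4 ygi14 zgi11)) (@D3.rec (fun _ => Pt) (kgi xgi8 ygi10 zgi47) (kgi xgi4 ygi9 zgi30) (kgi xgi5 ygi37 zgi3) (kgi xgi2 ygi29 zgi4) (kgi xgi1 ygi59 zgi42) (kgi xgi8 ygi10 zgi57) (kgi xgi1 ygi59 zgi51) (kgi xgi8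 ygi11 zgi0) (kgi xgi8 ygi11 zgi3) (kgi xgi5 ygi1 zgi15) (kgi xgi8 ygi11 zgi6) (kgi xgi1 ygi59 zgi46) (kgi xgi8 ygi11 zgi10) (kgi xgi6 ygi7 zgi8) (kgi xgi5 ygi36 zgi5) (kgi xgi8 ygi11 zgi9) (kgi xgi8 ygi11 zgi22) (kgi xgi4 ygi15 zgi3) (kgi xgi4 ygi21 zgi0) (kgi xgi8 ygi11 zgi30) (kgi xgi4 ygi13 zgi57) (kgi xgi8 ygi11 zgi25) (kgi xgi8 ygi11 zgi37) (kgi xgi1 ygi59 zgi53) (kgi xgi8 ygi10 zgi60) (kgi xgi8 ygi11 zgi46) (kgi xgi5 ygi21 zgi44) (kgi xgi8 ygi11 zgi52) (kgi xgi8 ygi11 zgi54) (kgi xgi1 ygi59 zgi56) (kgi xgi4 ygi6 zgi58) (kgi xgi4 ygi6 zgi56) (kgi xgi1 ygi59 zgi57) (kgi xgi8 ygi11 zgi60) (kgi xgi4 ygi30 zgi46) (kgi xgi5 ygi7 zgi44) (kgi xgi4 ygi41 zgi23) (kgi xgi8 ygi12 zgi3) (kgi xgi2 ygi0 zgi6) (kgi xgi2 ygi15 zgi37) (kgi xgi4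 ygi7 zgi4) (kgi xgi6 ygi16 zgi12) (kgi xgi8 ygi12 zgi9) (kgi xgi4 ygi37 zgi18) (kgi xgi5 ygi54 zgi58) (kgi xgi6 ygi16 zgi14) (kgi xgi8 ygi12 zgi14) (kgi xgi2 ygi0 zgi13) (kgi xgi2 ygi0 zgi15) (kgi xgi4 ygi53 zgi50) (kgi xgi8 ygi12 zgi19) (kgi xgi5 ygi14 zgi25) (kgi xgi2 ygi7 zgi25) (kgi xgi2 ygi0 zgi17) (kgi xgi6 ygi7 zgi26) (kgi xgi8 ygi12 zgi18) (kgi xgi6 ygi46 zgi16) (kgi xgi6 ygi17 zgi1) (kgi xgi8 ygi12 zgi35) (kgi xgi2 ygi0 zgi16) (kgi xgi8 ygi12 zgi15) (kgi xgi8 ygi12 zgi42)) (@D3.rec (fun _ => Pt) (kgi xgi8 ygi12 zgi48) (kgi xgi8 ygi12 zgi34) (kgi xgi8 ygi12 zgi51) (kgi xgi2 ygi51 zgi10) (kgi xgi2 ygi0 zgi19) (kgi xgi4 ygi7 zgi27) (kgi xgi4 ygi7 zgi25) (kgi xgi8 ygi12 zgi57) (kgi xgi4 ygi51 zgi39) (kgi xgi2 ygi24 zgi19) (kgi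 xgi4 ygi21 zgi54) (kgi xgi4 ygi16 zgi12) (kgi xgi8 ygi13 zgi1) (kgi xgi2 ygi32 zgi10) (kgi xgi2 ygi0 zgi27) (kgi xgi5 ygi22 zgi44) (kgi xgi2 ygi0 zgi37) (kgi xgi8 ygi13 zgi10) (kgi xgi4 ygi12 zgi54) (kgi xgi2 ygi0 zgi30) (kgi xgi8 ygi9 zgi59) (kgi xgi4 ygi12 zgi7) (kgi xgi2 ygi0 zgi31) (kgi xgi2 ygi0 zgi35) (kgi xgi8 ygi13 zgi21) (kgi xgi8 ygi13 zgi26) (kgi xgi6 ygi5 zgi44) (kgi xgi2 ygi8 zgi36) (kgi xgi8 ygi13 zgi14) (kgi xgi7 ygi56 zgi4) (kgi xgi8 ygi13 zgi20) (kgi xgi5 ygi36 zgi29) (kgi xgi3 ygi58 zgi3) (kgi xgi4 ygi20 zgi53) (kgi xgi8 ygi13 zgi42) (kgi xgi2 ygi35 zgi30) (kgi xgi8 ygi13 zgi37) (kgi xgi8 ygi13 zgi48) (kgi xgi2 ygi0 zgi39) (kgi xgi8 ygi13 zgi8) (kgi xgi8 ygi13 zgi56) (kgi xgi8 ygi13 zgi61) (kgi xgi6 ygi4 zgi56) (kgi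 xgi8 ygi14 zgi5) (kgi xgi5 ygi12 zgi39) (kgi xgi8 ygi14 zgi9) (kgi xgi4 ygi49 zgi24) (kgi xgi2 ygi59 zgi42) (kgi xgi2 ygi59 zgi40) (kgi xgi2 ygi0 zgi45) (kgi xgi8 ygi14 zgi12) (kgi xgi4 ygi4 zgi24) (kgi xgi8 ygi14 zgi17) (kgi xgi4 ygi28 zgi56) (kgi xgi2 ygi7 zgi54) (kgi xgi8 ygi14 zgi23) (kgi xgi2 ygi0 zgi50) (kgi xgi4 ygi5 zgi31) (kgi xgi4 ygi5 zgi29) (kgi xgi2 ygi0 zgi51) (kgi xgi8 ygi14 zgi27) (kgi xgi8 ygi14 zgi32)) (@D3.rec (fun _ => Pt) (kgi xgi8 ygi14 zgi37) (kgi xgi8 ygi14 zgi28) (kgi xgi8 ygi14 zgi42) (kgi xgi2 ygi43 zgi24) (kgi xgi2 ygi0 zgi55) (kgi xgi2 ygi14 zgi21) (kgi xgi2 ygi0 zgi58) (kgi xgi2 ygi0 zgi60) (kgi xgi5 ygi47 zgi53) (kgi xgi2 ygi24 zgi48) (kgi xgi2 ygi1 zgi0) (kgi xgi2 ygi24 zgi47) (kgi xgi4 ygi53 zgi52)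 (kgi xgi3 ygi21 zgi14) (kgi xgi5 ygi38 zgi35) (kgi xgi8 ygi14 zgi50) (kgi xgi2 ygi0 zgi61) (kgi xgi8 ygi14 zgi46) (kgi xgi5 ygi58 zgi33) (kgi xgi3 ygi14 zgi9) (kgi xgi3 ygi6 zgi55) (kgi xgi2 ygi31 zgi12) (kgi xgi8 ygi14 zgi56) (kgi xgi6 ygi27 zgi2) (kgi xgi2 ygi52 zgi25) (kgi xgi2 ygi1 zgi3) (kgi xgi4 ygi6 zgi6) (kgi xgi4 ygi6 zgi4) (kgi xgi8 ygi15 zgi0) (kgi xgi3 ygi58 zgi27) (kgi xgi5 ygi9 zgi35) (kgi xgi4 ygi19 zgi50) (kgi xgi5 ygi15 zgi36) (kgi xgi2 ygi1 zgi8) (kgi xgi4 ygi7 zgi57) (kgi xgi4 ygi15 zgi50) (kgi xgi2 ygi28 zgi28) (kgi xgi5 ygi26 zgi7) (kgi xgi8 ygi15 zgi15) (kgi xgi5 ygi16 zgi61) (kgi xgi8 ygi15 zgi20) (kgi xgi2 ygi1 zgi13) (kgi xgi4 ygi8 zgi6) (kgi xgi8 ygi15 zgi29) (kgi xgi8 ygi15 zgi34) (kgi xgi4 ygi8 zgi2) (kgi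 xgi4 ygi30 zgi45) (kgi xgi5 ygi4 zgi49) (kgi xgi2 ygi8 zgi6) (kgi xgi2 ygi1 zgi16) (kgi xgi4 ygi21 zgi1) (kgi xgi7 ygi58 zgi2) (kgi xgi2 ygi37 zgi27) (kgi xgi5 ygi0 zgi58) (kgi xgi2 ygi1 zgi40) (kgi xgi4 ygi7 zgi36) (kgi xgi2 ygi35 zgi42) (kgi xgi4 ygi7 zgi33) (kgi xgi6 ygi5 zgi28) (kgi xgi2 ygi41 zgi13) (kgi xgi2 ygi1 zgi22) (kgi xgi2 ygi1 zgi47)) (@D3.rec (fun _ => Pt) (kgi xgi6 ygi5 zgi59) (kgi xgi8 ygi16 zgi3) (kgi xgi2 ygi1 zgi24) (kgi xgi4 ygi7 zgi45) (kgi xgi8 ygi16 zgi12) (kgi xgi8 ygi16 zgi17) (kgi xgi4 ygi7 zgi41) (kgi xgi8 ygi6 zgi31) (kgi xgi4 ygi17 zgi17) (kgi xgi8 ygi7 zgi20) (kgi xgi5 ygi29 zgi54) (kgi xgi8 ygi15 zgi50) (kgi xgi2 ygi1 zgi30) (kgi xgi5 ygi29 zgi33) (kgi xgi8 ygi16 zgi30) (kgi xgi5 ygi29 zgi36) (kgi xgi4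 ygi15 zgi40) (kgi xgi2 ygi8 zgi2) (kgi xgi5 ygi17 zgi11) (kgi xgi8 ygi16 zgi41) (kgi xgi5 ygi29 zgi31) (kgi xgi4 ygi18 zgi14) (kgi xgi2 ygi1 zgi34) (kgi xgi2 ygi2 zgi10) (kgi xgi8 ygi16 zgi55) (kgi xgi8 ygi16 zgi60) (kgi xgi2 ygi2 zgi6) (kgi xgi4 ygi16 zgi39) (kgi xgi2 ygi8 zgi10) (kgi xgi8 ygi17 zgi1) (kgi xgi8 ygi17 zgi6) (kgi xgi5 ygi0 zgi35) (kgi xgi2 ygi1 zgi39) (kgi xgi2 ygi1 zgi54) (kgi xgi2 ygi41 zgi11) (kgi xgi8 ygi17 zgi15) (kgi xgi8 ygi15 zgi49) (kgi xgi2 ygi43 zgi54) (kgi xgi8 ygi6 zgi1) (kgi xgi8 ygi17 zgi21) (kgi xgi2 ygi41 zgi5) (kgi xgi4 ygi16 zgi2) (kgi xgi2 ygi1 zgi43) (kgi xgi2 ygi1 zgi56) (kgi xgi8 ygi17 zgi33) (kgi xgi8 ygi17 zgi38) (kgi xgi8 ygi17 zgi41) (kgi xgi2 ygi1 zgi44) (kgi xgi8 ygi16 zgi31) (kgi xgi5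 ygi18 zgi37) (kgi xgi4 ygi17 zgi10) (kgi xgi8 ygi17 zgi51) (kgi xgi2 ygi8 zgi7) (kgi xgi4 ygi3 zgi44) (kgi xgi2 ygi4 zgi49) (kgi xgi8 ygi17 zgi9) (kgi xgi4 ygi5 zgi10) (kgi xgi2 ygi1 zgi51) (kgi xgi2 ygi8 zgi5) (kgi xgi4 ygi12 zgi19) (kgi xgi8 ygi18 zgi3) (kgi xgi4 ygi17 zgi29)) (@D3.rec (fun _ => Pt) (kgi xgi2 ygi45 zgi26) (kgi xgi2 ygi45 zgi38) (kgi xgi2 ygi41 zgi14) (kgi xgi8 ygi18 zgi10) (kgi xgi2 ygi1 zgi55) (kgi xgi4 ygi13 zgi58) (kgi xgi5 ygi29 zgi44) (kgi xgi8 ygi18 zgi15) (kgi xgi8 ygi17 zgi37) (kgi xgi8 ygi18 zgi21) (kgi xgi2 ygi1 zgi57) (kgi xgi8 ygi16 zgi36) (kgi xgi8 ygi18 zgi27) (kgi xgi8 ygi16 zgi35) (kgi xgi4 ygi13 zgi61) (kgi xgi2 ygi23 zgi18) (kgi xgi2 ygi38 zgi11) (kgi xgi8 ygi18 zgi36) (kgi xgi2 ygi1 zgi61) (kgi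 xgi2 ygi2 zgi3) (kgi xgi8 ygi18 zgi41) (kgi xgi8 ygi18 zgi46) (kgi xgi8 ygi18 zgi49) (kgi xgi2 ygi2 zgi0) (kgi xgi4 ygi14 zgi5) (kgi xgi2 ygi2 zgi1) (kgi xgi8 ygi16 zgi42) (kgi xgi2 ygi41 zgi24) (kgi xgi4 ygi17 zgi55) (kgi xgi2 ygi8 zgi9) (kgi xgi4 ygi12 zgi12) (kgi xgi8 ygi19 zgi1) (kgi xgi8 ygi19 zgi5) (kgi xgi8 ygi18 zgi45) (kgi xgi8 ygi19 zgi11) (kgi xgi8 ygi18 zgi52) (kgi xgi2 ygi2 zgi5) (kgi xgi8 ygi16 zgi47) (kgi xgi8 ygi19 zgi17) (kgi xgi8 ygi16 zgi46) (kgi xgi8 ygi19 zgi21) (kgi xgi2 ygi35 zgi20) (kgi xgi8 ygi19 zgi28) (kgi xgi8 ygi18 zgi55) (kgi xgi8 ygi19 zgi33) (kgi xgi8 ygi19 zgi27) (kgi xgi8 ygi19 zgi16) (kgi xgi2 ygi2 zgi8) (kgi xgi8 ygi19 zgi40) (kgi xgi6 ygi48 zgi31) (kgi xgi8 ygi19 zgi49) (kgi xgi8 ygi19 zgi41) (kgi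 xgi2 ygi2 zgi9) (kgi xgi8 ygi6 zgi27) (kgi xgi8 ygi6 zgi25) (kgi xgi8 ygi19 zgi61) (kgi xgi8 ygi16 zgi59) (kgi xgi8 ygi20 zgi3) (kgi xgi2 ygi2 zgi11) (kgi xgi4 ygi15 zgi36) (kgi xgi5 ygi21 zgi15) (kgi xgi4 ygi18 zgi31)) (@D3.rec (fun _ => Pt) (kgi xgi4 ygi17 zgi22) (kgi xgi8 ygi20 zgi19) (kgi xgi2 ygi2 zgi24) (kgi xgi2 ygi2 zgi22) (kgi xgi4 ygi1 zgi4) (kgi xgi2 ygi2 zgi16) (kgi xgi2 ygi44 zgi8) (kgi xgi5 ygi28 zgi7) (kgi xgi2 ygi2 zgi17) (kgi xgi4 ygi7 zgi52) (kgi xgi2 ygi34 zgi36) (kgi xgi7 ygi57 zgi51) (kgi xgi5 ygi30 zgi54) (kgi xgi4 ygi51 zgi21) (kgi xgi8 ygi20 zgi38) (kgi xgi2 ygi2 zgi20) (kgi xgi4 ygi17 zgi14) (kgi xgi8 ygi20 zgi47) (kgi xgi8 ygi20 zgi52) (kgi xgi8 ygi20 zgi55) (kgi xgi2 ygi2 zgi21) (kgi xgi8 ygi20 zgi20) (kgi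 xgi8 ygi20 zgi18) (kgi xgi8 ygi21 zgi1) (kgi xgi2 ygi19 zgi21) (kgi xgi6 ygi47 zgi42) (kgi xgi4 ygi17 zgi35) (kgi xgi2 ygi2 zgi28) (kgi xgi4 ygi17 zgi32) (kgi xgi4 ygi17 zgi30) (kgi xgi6 ygi41 zgi29) (kgi xgi2 ygi2 zgi29) (kgi xgi3 ygi1 zgi40) (kgi xgi4 ygi12 zgi49) (kgi xgi4 ygi15 zgi23) (kgi xgi4 ygi12 zgi5) (kgi xgi3 ygi57 zgi2) (kgi xgi6 ygi4 zgi16) (kgi xgi8 ygi20 zgi14) (kgi xgi4 ygi16 zgi51) (kgi xgi4 ygi17 zgi19) (kgi xgi2 ygi8 zgi20) (kgi xgi5 ygi23 zgi57) (kgi xgi4 ygi17 zgi28) (kgi xgi2 ygi2 zgi38) (kgi xgi4 ygi16 zgi44) (kgi xgi8 ygi21 zgi25) (kgi xgi8 ygi21 zgi29) (kgi xgi8 ygi20 zgi45) (kgi xgi2 ygi2 zgi39) (kgi xgi8 ygi21 zgi37) (kgi xgi8 ygi20 zgi39) (kgi xgi7 ygi57 zgi49) (kgi xgi2 ygi2 zgi42) (kgi xgi4 ygi17 zgi9)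 (kgi xgi4 ygi17 zgi7) (kgi xgi2 ygi2 zgi43) (kgi xgi2 ygi3 zgi56) (kgi xgi2 ygi2 zgi45) (kgi xgi2 ygi40 zgi37) (kgi xgi8 ygi21 zgi48) (kgi xgi2 ygi40 zgi35)) (@D3.rec (fun _ => Pt) (kgi xgi8 ygi21 zgi53) (kgi xgi4 ygi18 zgi0) (kgi xgi8 ygi21 zgi59) (kgi xgi2 ygi2 zgi49) (kgi xgi4 ygi17 zgi60) (kgi xgi8 ygi22 zgi3) (kgi xgi8 ygi22 zgi8) (kgi xgi8 ygi22 zgi11) (kgi xgi2 ygi2 zgi50) (kgi xgi8 ygi21 zgi60) (kgi xgi2 ygi38 zgi30) (kgi xgi8 ygi21 zgi58) (kgi xgi2 ygi2 zgi51) (kgi xgi4 ygi18 zgi10) (kgi xgi4 ygi18 zgi8) (kgi xgi3 ygi16 zgi58) (kgi xgi2 ygi2 zgi52) (kgi xgi4 ygi17 zgi54) (kgi xgi3 ygi19 zgi12) (kgi xgi4 ygi17 zgi51) (kgi xgi4 ygi15 zgi28) (kgi xgi5 ygi26 zgi42) (kgi xgi4 ygi18 zgi34) (kgi xgi2 ygi45 zgi45) (kgi xgi4 ygi17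 zgi39) (kgi xgi8 ygi22 zgi17) (kgi xgi2 ygi2 zgi58) (kgi xgi4 ygi17 zgi37) (kgi xgi8 ygi22 zgi40) (kgi xgi8 ygi22 zgi44) (kgi xgi8 ygi22 zgi48) (kgi xgi2 ygi2 zgi59) (kgi xgi8 ygi22 zgi35) (kgi xgi8 ygi22 zgi34) (kgi xgi2 ygi2 zgi60) (kgi xgi4 ygi17 zgi49) (kgi xgi4 ygi17 zgi47) (kgi xgi6 ygi9 zgi32) (kgi xgi2 ygi18 zgi14) (kgi xgi4 ygi18 zgi11) (kgi xgi6 ygi6 zgi14) (kgi xgi4 ygi16 zgi20) (kgi xgi2 ygi3 zgi3) (kgi xgi4 ygi18 zgi21) (kgi xgi4 ygi18 zgi19) (kgi xgi8 ygi23 zgi4) (kgi xgi2 ygi3 zgi5) (kgi xgi2 ygi3 zgi7) (kgi xgi8 ygi23 zgi11) (kgi xgi8 ygi23 zgi16) (kgi xgi2 ygi41 zgi45) (kgi xgi6 ygi20 zgi50) (kgi xgi2 ygi3 zgi9) (kgi xgi8 ygi22 zgi59) (kgi xgi8 ygi23 zgi15) (kgi xgi8 ygi23 zgi21) (kgi xgi6 ygi9 zgi35) (kgi xgi2 ygi6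 zgi30) (kgi xgi2 ygi3 zgi8) (kgi xgi2 ygi6 zgi32) (kgi xgi8 ygi23 zgi40) (kgi xgi8 ygi23 zgi44)) (@D3.rec (fun _ => Pt) (kgi xgi8 ygi23 zgi46) (kgi xgi2 ygi3 zgi10) (kgi xgi2 ygi3 zgi11) (kgi xgi4 ygi17 zgi13) (kgi xgi2 ygi24 zgi5) (kgi xgi4 ygi10 zgi35) (kgi xgi4 ygi18 zgi13) (kgi xgi4 ygi19 zgi41) (kgi xgi8 ygi23 zgi55) (kgi xgi5 ygi6 zgi44) (kgi xgi8 ygi1 zgi27) (kgi xgi4 ygi28 zgi23) (kgi xgi4 ygi21 zgi11) (kgi xgi4 ygi52 zgi43) (kgi xgi4 ygi19 zgi33) (kgi xgi8 ygi24 zgi7) (kgi xgi2 ygi3 zgi29) (kgi xgi2 ygi3 zgi27) (kgi xgi7 ygi56 zgi3) (kgi xgi4 ygi21 zgi6) (kgi xgi8 ygi24 zgi14) (kgi xgi4 ygi14 zgi4) (kgi xgi4 ygi8 zgi59) (kgi xgi8 ygi24 zgi21) (kgi xgi2 ygi3 zgi25) (kgi xgi4 ygi19 zgi24) (kgi xgi8 ygi24 zgi30) (kgi xgi8 ygi24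 zgi33) (kgi xgi8 ygi24 zgi37) (kgi xgi2 ygi3 zgi26) (kgi xgi8 ygi24 zgi8) (kgi xgi8 ygi24 zgi6) (kgi xgi4 ygi21 zgi5) (kgi xgi4 ygi51 zgi3) (kgi xgi2 ygi7 zgi8) (kgi xgi4 ygi8 zgi29) (kgi xgi8 ygi24 zgi50) (kgi xgi4 ygi53 zgi43) (kgi xgi8 ygi24 zgi55) (kgi xgi2 ygi3 zgi32) (kgi xgi2 ygi45 zgi54) (kgi xgi2 ygi45 zgi51) (kgi xgi3 ygi57 zgi0) (kgi xgi4 ygi51 zgi30) (kgi xgi7 ygi55 zgi18) (kgi xgi3 ygi17 zgi6) (kgi xgi2 ygi3 zgi36) (kgi xgi3 ygi11 zgi37) (kgi xgi4 ygi50 zgi50) (kgi xgi2 ygi5 zgi54) (kgi xgi7 ygi56 zgi11) (kgi xgi4 ygi10 zgi33) (kgi xgi4 ygi53 zgi45) (kgi xgi5 ygi23 zgi39) (kgi xgi4 ygi51 zgi23) (kgi xgi2 ygi24 zgi17) (kgi xgi8 ygi12 zgi58) (kgi xgi8 ygi24 zgi2) (kgi xgi4 ygi18 zgi47) (kgi xgi4 ygi19 zgi29) (kgi xgi2 ygi3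 zgi47) (kgi xgi2 ygi3 zgi52)) (@D3.rec (fun _ => Pt) (kgi xgi4 ygi51 zgi19) (kgi xgi4 ygi21 zgi39) (kgi xgi4 ygi19 zgi40) (kgi xgi2 ygi8 zgi35) (kgi xgi8 ygi25 zgi14) (kgi xgi8 ygi25 zgi22) (kgi xgi2 ygi3 zgi50) (kgi xgi4 ygi18 zgi39) (kgi xgi8 ygi25 zgi31) (kgi xgi5 ygi43 zgi30) (kgi xgi8 ygi24 zgi28) (kgi xgi2 ygi3 zgi51) (kgi xgi8 ygi24 zgi22) (kgi xgi4 ygi19 zgi49) (kgi xgi2 ygi8 zgi47) (kgi xgi2 ygi6 zgi45) (kgi xgi2 ygi3 zgi55) (kgi xgi3 ygi11 zgi6) (kgi xgi4 ygi19 zgi0) (kgi xgi4 ygi17 zgi36) (kgi xgi2 ygi8 zgi49) (kgi xgi2 ygi6 zgi7) (kgi xgi2 ygi45 zgi37) (kgi xgi2 ygi25 zgi4) (kgi xgi5 ygi20 zgi59) (kgi xgi2 ygi37 zgi3) (kgi xgi8 ygi25 zgi49) (kgi xgi7 ygi7 zgi7) (kgi xgi2 ygi4 zgi5) (kgi xgi8 ygi25 zgi52) (kgi xgi8 ygi25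 zgi55) (kgi xgi8 ygi25 zgi60) (kgi xgi8 ygi14 zgi47) (kgi xgi5 ygi8 zgi38) (kgi xgi8 ygi26 zgi5) (kgi xgi4 ygi1 zgi17) (kgi xgi4 ygi5 zgi20) (kgi xgi5 ygi2 zgi6) (kgi xgi4 ygi13 zgi22) (kgi xgi2 ygi4 zgi10) (kgi xgi4 ygi8 zgi51) (kgi xgi2 ygi31 zgi38) (kgi xgi2 ygi28 zgi31) (kgi xgi2 ygi24 zgi51) (kgi xgi5 ygi8 zgi28) (kgi xgi2 ygi4 zgi23) (kgi xgi4 ygi13 zgi41) (kgi xgi2 ygi34 zgi47) (kgi xgi4 ygi13 zgi39) (kgi xgi4 ygi55 zgi5) (kgi xgi8 ygi23 zgi56) (kgi xgi2 ygi4 zgi17) (kgi xgi2 ygi11 zgi58) (kgi xgi2 ygi4 zgi28) (kgi xgi2 ygi4 zgi19) (kgi xgi5 ygi15 zgi15) (kgi xgi4 ygi15 zgi11) (kgi xgi8 ygi26 zgi8) (kgi xgi4 ygi12 zgi21) (kgi xgi4 ygi12 zgi33) (kgi xgi2 ygi4 zgi22) (kgi xgi4 ygi29 zgi5)) (@D3.rec (fun _ => Pt) (kgi xgi8 ygi26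 zgi39) (kgi xgi2 ygi58 zgi60) (kgi xgi4 ygi31 zgi20) (kgi xgi4 ygi19 zgi43) (kgi xgi4 ygi9 zgi5) (kgi xgi4 ygi9 zgi35) (kgi xgi4 ygi9 zgi14) (kgi xgi8 ygi26 zgi47) (kgi xgi4 ygi55 zgi8) (kgi xgi2 ygi34 zgi17) (kgi xgi8 ygi26 zgi53) (kgi xgi4 ygi19 zgi21) (kgi xgi4 ygi29 zgi2) (kgi xgi8 ygi26 zgi61) (kgi xgi2 ygi41 zgi49) (kgi xgi8 ygi27 zgi6) (kgi xgi8 ygi27 zgi10) (kgi xgi2 ygi41 zgi46) (kgi xgi8 ygi27 zgi16) (kgi xgi8 ygi14 zgi11) (kgi xgi8 ygi27 zgi21) (kgi xgi4 ygi1 zgi2) (kgi xgi8 ygi27 zgi27) (kgi xgi8 ygi27 zgi30) (kgi xgi8 ygi6 zgi43) (kgi xgi4 ygi50 zgi41) (kgi xgi4 ygi56 zgi28) (kgi xgi8 ygi27 zgi37) (kgi xgi8 ygi27 zgi40) (kgi xgi2 ygi4 zgi37) (kgi xgi4 ygi4 zgi30) (kgi xgi8 ygi27 zgi46) (kgi xgi4 ygi4 zgi27) (kgi xgi4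 ygi20 zgi60) (kgi xgi4 ygi20 zgi56) (kgi xgi8 ygi27 zgi55) (kgi xgi8 ygi27 zgi58) (kgi xgi8 ygi28 zgi0) (kgi xgi2 ygi4 zgi42) (kgi xgi4 ygi55 zgi56) (kgi xgi8 ygi28 zgi7) (kgi xgi4 ygi55 zgi53) (kgi xgi8 ygi28 zgi11) (kgi xgi2 ygi4 zgi44) (kgi xgi8 ygi10 zgi25) (kgi xgi8 ygi10 zgi23) (kgi xgi2 ygi4 zgi45) (kgi xgi8 ygi28 zgi16) (kgi xgi8 ygi28 zgi22) (kgi xgi8 ygi28 zgi29) (kgi xgi8 ygi28 zgi17) (kgi xgi8 ygi28 zgi33) (kgi xgi8 ygi9 zgi32) (kgi xgi2 ygi4 zgi48) (kgi xgi4 ygi50 zgi46) (kgi xgi6 ygi5 zgi46) (kgi xgi8 ygi28 zgi44) (kgi xgi6 ygi6 zgi16) (kgi xgi8 ygi28 zgi50) (kgi xgi2 ygi4 zgi53) (kgi xgi4 ygi15 zgi17) (kgi xgi8 ygi28 zgi59)) (@D3.rec (fun _ => Pt) (kgi xgi8 ygi29 zgi2) (kgi xgi4 ygi15 zgi13) (kgi xgi2 ygi43 zgi23) (kgi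 xgi4 ygi54 zgi52) (kgi xgi2 ygi4 zgi56) (kgi xgi4 ygi55 zgi2) (kgi xgi2 ygi58 zgi39) (kgi xgi5 ygi25 zgi53) (kgi xgi4 ygi29 zgi6) (kgi xgi2 ygi4 zgi59) (kgi xgi2 ygi5 zgi16) (kgi xgi5 ygi26 zgi23) (kgi xgi5 ygi31 zgi21) (kgi xgi2 ygi4 zgi61) (kgi xgi4 ygi15 zgi1) (kgi xgi8 ygi29 zgi26) (kgi xgi8 ygi29 zgi31) (kgi xgi4 ygi14 zgi59) (kgi xgi5 ygi27 zgi29) (kgi xgi4 ygi10 zgi41) (kgi xgi4 ygi16 zgi60) (kgi xgi2 ygi5 zgi4) (kgi xgi8 ygi24 zgi16) (kgi xgi8 ygi29 zgi39) (kgi xgi8 ygi18 zgi13) (kgi xgi4 ygi8 zgi41) (kgi xgi2 ygi58 zgi20) (kgi xgi5 ygi14 zgi54) (kgi xgi8 ygi29 zgi51) (kgi xgi8 ygi29 zgi47) (kgi xgi4 ygi11 zgi41) (kgi xgi2 ygi5 zgi8) (kgi xgi2 ygi5 zgi35) (kgi xgi8 ygi30 zgi3) (kgi xgi8 ygi30 zgi8) (kgi xgi2 ygi5 zgi31) (kgi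 xgi4 ygi9 zgi58) (kgi xgi8 ygi26 zgi32) (kgi xgi8 ygi30 zgi15) (kgi xgi8 ygi26 zgi42) (kgi xgi4 ygi9 zgi13) (kgi xgi2 ygi5 zgi12) (kgi xgi2 ygi5 zgi22) (kgi xgi8 ygi30 zgi27) (kgi xgi8 ygi30 zgi32) (kgi xgi8 ygi30 zgi35) (kgi xgi2 ygi5 zgi13) (kgi xgi8 ygi29 zgi40) (kgi xgi5 ygi16 zgi33) (kgi xgi4 ygi10 zgi34) (kgi xgi8 ygi15 zgi54) (kgi xgi7 ygi56 zgi5) (kgi xgi4 ygi6 zgi21) (kgi xgi2 ygi5 zgi18) (kgi xgi4 ygi18 zgi43) (kgi xgi8 ygi30 zgi52) (kgi xgi2 ygi38 zgi34) (kgi xgi2 ygi40 zgi16) (kgi xgi4 ygi16 zgi10) (kgi xgi8 ygi30 zgi59) (kgi xgi8 ygi30 zgi31) (kgi xgi8 ygi31 zgi3)) (@D3.rec (fun _ => Pt) (kgi xgi2 ygi5 zgi23) (kgi xgi8 ygi29 zgi45) (kgi xgi8 ygi29 zgi44) (kgi xgi2 ygi5 zgi26) (kgi xgi2 ygi5 zgi29) (kgi xgi8 ygi31 zgi13)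 (kgi xgi8 ygi31 zgi18) (kgi xgi8 ygi31 zgi21) (kgi xgi2 ygi5 zgi27) (kgi xgi8 ygi29 zgi52) (kgi xgi4 ygi29 zgi14) (kgi xgi4 ygi11 zgi20) (kgi xgi4 ygi18 zgi37) (kgi xgi8 ygi31 zgi34) (kgi xgi8 ygi31 zgi37) (kgi xgi8 ygi31 zgi17) (kgi xgi8 ygi31 zgi43) (kgi xgi2 ygi5 zgi30) (kgi xgi8 ygi29 zgi57) (kgi xgi8 ygi17 zgi45) (kgi xgi8 ygi29 zgi56) (kgi xgi8 ygi31 zgi52) (kgi xgi2 ygi34 zgi16) (kgi xgi5 ygi30 zgi20) (kgi xgi8 ygi31 zgi26) (kgi xgi8 ygi32 zgi2) (kgi xgi4 ygi29 zgi1) (kgi xgi8 ygi31 zgi59) (kgi xgi8 ygi31 zgi48) (kgi xgi2 ygi5 zgi33) (kgi xgi8 ygi23 zgi33) (kgi xgi8 ygi23 zgi39) (kgi xgi8 ygi32 zgi17) (kgi xgi2 ygi5 zgi34) (kgi xgi8 ygi27 zgi11) (kgi xgi2 ygi40 zgi19) (kgi xgi8 ygi32 zgi27) (kgi xgi8 ygi30 zgi7) (kgi xgi8 ygi32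 zgi31) (kgi xgi2 ygi5 zgi36) (kgi xgi4 ygi8 zgi27) (kgi xgi4 ygi15 zgi26) (kgi xgi6 ygi4 zgi20) (kgi xgi4 ygi12 zgi3) (kgi xgi4 ygi10 zgi44) (kgi xgi8 ygi32 zgi48) (kgi xgi8 ygi32 zgi50) (kgi xgi8 ygi32 zgi55) (kgi xgi2 ygi23 zgi32) (kgi xgi4 ygi22 zgi40) (kgi xgi8 ygi32 zgi61) (kgi xgi2 ygi5 zgi43) (kgi xgi4 ygi10 zgi39) (kgi xgi8 ygi33 zgi6) (kgi xgi8 ygi33 zgi10) (kgi xgi8 ygi33 zgi13) (kgi xgi2 ygi5 zgi44) (kgi xgi8 ygi32 zgi49) (kgi xgi8 ygi32 zgi47) (kgi xgi4 ygi3 zgi5) (kgi xgi5 ygi19 zgi10) (kgi xgi4 ygi22 zgi18)) (@D3.rec (fun _ => Pt) (kgi xgi8 ygi33 zgi25) (kgi xgi4 ygi18 zgi29) (kgi xgi2 ygi5 zgi50) (kgi xgi2 ygi41 zgi44) (kgi xgi2 ygi41 zgi41) (kgi xgi8 ygi23 zgi9) (kgi xgi4 ygi13 zgi19) (kgi xgi2 ygi5 zgi53) (kgi xgi4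 ygi10 zgi55) (kgi xgi4 ygi10 zgi53) (kgi xgi4 ygi8 zgi14) (kgi xgi4 ygi18 zgi33) (kgi xgi5 ygi21 zgi11) (kgi xgi8 ygi32 zgi44) (kgi xgi4 ygi10 zgi15) (kgi xgi4 ygi10 zgi43) (kgi xgi2 ygi6 zgi3) (kgi xgi4 ygi8 zgi53) (kgi xgi8 ygi33 zgi42) (kgi xgi4 ygi10 zgi51) (kgi xgi8 ygi33 zgi41) (kgi xgi8 ygi33 zgi49) (kgi xgi2 ygi6 zgi1) (kgi xgi4 ygi10 zgi0) (kgi xgi8 ygi33 zgi56) (kgi xgi8 ygi33 zgi61) (kgi xgi8 ygi33 zgi4) (kgi xgi2 ygi6 zgi2) (kgi xgi8 ygi33 zgi0) (kgi xgi4 ygi8 zgi54) (kgi xgi2 ygi6 zgi6) (kgi xgi4 ygi10 zgi29) (kgi xgi4 ygi10 zgi27) (kgi xgi8 ygi33 zgi33) (kgi xgi3 ygi13 zgi19) (kgi xgi4 ygi10 zgi56) (kgi xgi2 ygi7 zgi18) (kgi xgi4 ygi11 zgi26) (kgi xgi8 ygi34 zgi16) (kgi xgi2 ygi6 zgi11) (kgi xgi4 ygi11 zgi24) (kgi xgi8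 ygi34 zgi22) (kgi xgi8 ygi21 zgi22) (kgi xgi8 ygi34 zgi29) (kgi xgi2 ygi6 zgi12) (kgi xgi8 ygi34 zgi17) (kgi xgi8 ygi34 zgi15) (kgi xgi2 ygi6 zgi13) (kgi xgi4 ygi11 zgi36) (kgi xgi4 ygi11 zgi34) (kgi xgi6 ygi36 zgi34) (kgi xgi2 ygi6 zgi14) (kgi xgi4 ygi11 zgi19) (kgi xgi6 ygi20 zgi29) (kgi xgi4 ygi11 zgi16) (kgi xgi4 ygi8 zgi19) (kgi xgi6 ygi6 zgi15) (kgi xgi3 ygi7 zgi22) (kgi xgi2 ygi42 zgi37) (kgi xgi4 ygi12 zgi6) (kgi xgi4 ygi11 zgi3) (kgi xgi8 ygi34 zgi35)) (@D3.rec (fun _ => Pt) (kgi xgi2 ygi6 zgi19) (kgi xgi4 ygi11 zgi1) (kgi xgi8 ygi34 zgi60) (kgi xgi8 ygi20 zgi44) (kgi xgi8 ygi35 zgi4) (kgi xgi2 ygi6 zgi20) (kgi xgi8 ygi34 zgi55) (kgi xgi8 ygi34 zgi54) (kgi xgi2 ygi6 zgi21) (kgi xgi4 ygi11 zgi14) (kgi xgi4 ygi11 zgi12) (kgi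 xgi2 ygi6 zgi22) (kgi xgi3 ygi10 zgi61) (kgi xgi5 ygi26 zgi40) (kgi xgi4 ygi9 zgi39) (kgi xgi2 ygi6 zgi26) (kgi xgi2 ygi18 zgi36) (kgi xgi3 ygi9 zgi29) (kgi xgi6 ygi48 zgi41) (kgi xgi2 ygi6 zgi28) (kgi xgi4 ygi11 zgi44) (kgi xgi4 ygi11 zgi42) (kgi xgi8 ygi35 zgi30) (kgi xgi8 ygi35 zgi32) (kgi xgi8 ygi35 zgi37) (kgi xgi4 ygi17 zgi1) (kgi xgi8 ygi34 zgi49) (kgi xgi8 ygi35 zgi17) (kgi xgi8 ygi35 zgi36) (kgi xgi8 ygi21 zgi2) (kgi xgi8 ygi35 zgi48) (kgi xgi4 ygi10 zgi38) (kgi xgi2 ygi24 zgi4) (kgi xgi4 ygi17 zgi11) (kgi xgi4 ygi11 zgi40) (kgi xgi8 ygi31 zgi57) (kgi xgi4 ygi0 zgi14) (kgi xgi7 ygi55 zgi43) (kgi xgi4 ygi53 zgi44) (kgi xgi4 ygi13 zgi6) (kgi xgi8 ygi36 zgi1) (kgi xgi2 ygi6 zgi43) (kgi xgi3 ygi58 zgi14) (kgi xgi7 ygi55 zgi30)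 (kgi xgi5 ygi39 zgi51) (kgi xgi4 ygi15 zgi54) (kgi xgi8 ygi36 zgi12) (kgi xgi2 ygi6 zgi41) (kgi xgi4 ygi12 zgi58) (kgi xgi6 ygi27 zgi16) (kgi xgi8 ygi36 zgi21) (kgi xgi8 ygi36 zgi24) (kgi xgi2 ygi6 zgi42) (kgi xgi8 ygi36 zgi2) (kgi xgi8 ygi36 zgi0) (kgi xgi3 ygi58 zgi15) (kgi xgi3 ygi57 zgi13) (kgi xgi4 ygi22 zgi21) (kgi xgi8 ygi36 zgi33) (kgi xgi2 ygi23 zgi14) (kgi xgi4 ygi51 zgi24) (kgi xgi4 ygi22 zgi45)) (@D3.rec (fun _ => Pt) (kgi xgi2 ygi6 zgi48) (kgi xgi3 ygi57 zgi15) (kgi xgi8 ygi36 zgi38) (kgi xgi4 ygi52 zgi44) (kgi xgi2 ygi23 zgi7) (kgi xgi2 ygi23 zgi28) (kgi xgi4 ygi19 zgi42) (kgi xgi4 ygi4 zgi45) (kgi xgi2 ygi25 zgi24) (kgi xgi8 ygi36 zgi42) (kgi xgi8 ygi36 zgi45) (kgi xgi8 ygi36 zgi48) (kgi xgi8 ygi10 zgi16) (kgi xgi2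 ygi7 zgi0) (kgi xgi4 ygi3 zgi51) (kgi xgi8 ygi36 zgi57) (kgi xgi4 ygi3 zgi48) (kgi xgi2 ygi36 zgi57) (kgi xgi2 ygi8 zgi37) (kgi xgi6 ygi14 zgi30) (kgi xgi3 ygi57 zgi26) (kgi xgi2 ygi25 zgi32) (kgi xgi8 ygi10 zgi46) (kgi xgi8 ygi35 zgi59) (kgi xgi4 ygi12 zgi24) (kgi xgi4 ygi13 zgi2) (kgi xgi2 ygi7 zgi13) (kgi xgi4 ygi15 zgi51) (kgi xgi8 ygi17 zgi55) (kgi xgi4 ygi13 zgi12) (kgi xgi2 ygi23 zgi20) (kgi xgi8 ygi16 zgi22) (kgi xgi8 ygi37 zgi18) (kgi xgi2 ygi7 zgi11) (kgi xgi4 ygi12 zgi14) (kgi xgi6 ygi23 zgi41) (kgi xgi4 ygi28 zgi37) (kgi xgi8 ygi36 zgi17) (kgi xgi2 ygi7 zgi12) (kgi xgi8 ygi37 zgi33) (kgi xgi8 ygi36 zgi13) (kgi xgi4 ygi15 zgi52) (kgi xgi4 ygi14 zgi3) (kgi xgi4 ygi19 zgi6) (kgi xgi4 ygi27 zgi42) (kgi xgi2 ygi23 zgi35) (kgi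 xgi2 ygi7 zgi20) (kgi xgi2 ygi44 zgi6) (kgi xgi2 ygi44 zgi4) (kgi xgi4 ygi50 zgi32) (kgi xgi4 ygi9 zgi4) (kgi xgi4 ygi13 zgi13) (kgi xgi2 ygi44 zgi47) (kgi xgi2 ygi44 zgi45) (kgi xgi5 ygi4 zgi56) (kgi xgi8 ygi37 zgi46) (kgi xgi2 ygi7 zgi60) (kgi xgi8 ygi37 zgi51) (kgi xgi2 ygi7 zgi28) (kgi xgi4 ygi20 zgi28) (kgi xgi8 ygi37 zgi57) (kgi xgi5 ygi12 zgi45)) (@D3.rec (fun _ => Pt) (kgi xgi4 ygi20 zgi25) (kgi xgi7 ygi59 zgi5) (kgi xgi5 ygi12 zgi43) (kgi xgi8 ygi38 zgi5) (kgi xgi6 ygi7 zgi32) (kgi xgi2 ygi10 zgi0) (kgi xgi5 ygi5 zgi8) (kgi xgi8 ygi2 zgi10) (kgi xgi5 ygi5 zgi4) (kgi xgi4 ygi57 zgi0) (kgi xgi2 ygi7 zgi34) (kgi xgi8 ygi38 zgi13) (kgi xgi8 ygi38 zgi15) (kgi xgi8 ygi38 zgi19) (kgi xgi5 ygi7 zgi32) (kgi xgi2 ygi7 zgi35) (kgi xgi5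 ygi13 zgi0) (kgi xgi8 ygi38 zgi28) (kgi xgi4 ygi20 zgi41) (kgi xgi2 ygi7 zgi37) (kgi xgi8 ygi13 zgi13) (kgi xgi2 ygi38 zgi8) (kgi xgi4 ygi5 zgi17) (kgi xgi5 ygi12 zgi41) (kgi xgi4 ygi31 zgi19) (kgi xgi2 ygi7 zgi41) (kgi xgi8 ygi38 zgi42) (kgi xgi5 ygi5 zgi15) (kgi xgi4 ygi19 zgi58) (kgi xgi5 ygi35 zgi17) (kgi xgi5 ygi4 zgi58) (kgi xgi8 ygi38 zgi51) (kgi xgi4 ygi25 zgi12) (kgi xgi5 ygi12 zgi54) (kgi xgi3 ygi33 zgi5) (kgi xgi8 ygi38 zgi55) (kgi xgi5 ygi12 zgi52) (kgi xgi7 ygi17 zgi28) (kgi xgi5 ygi54 zgi59) (kgi xgi8 ygi38 zgi61) (kgi xgi7 ygi5 zgi34) (kgi xgi2 ygi7 zgi49) (kgi xgi4 ygi20 zgi18) (kgi xgi5 ygi4 zgi61) (kgi xgi8 ygi39 zgi8) (kgi xgi4 ygi20 zgi15) (kgi xgi4 ygi56 zgi0) (kgi xgi8 ygi39 zgi13) (kgi xgi8 ygi39 zgi16) (kgi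 xgi8 ygi39 zgi19) (kgi xgi8 ygi38 zgi37) (kgi xgi4 ygi19 zgi56) (kgi xgi8 ygi39 zgi25) (kgi xgi4 ygi6 zgi36) (kgi xgi4 ygi15 zgi4) (kgi xgi2 ygi7 zgi58) (kgi xgi2 ygi25 zgi50) (kgi xgi8 ygi39 zgi34) (kgi xgi8 ygi39 zgi37) (kgi xgi6 ygi7 zgi13) (kgi xgi4 ygi6 zgi54) (kgi xgi8 ygi39 zgi44)) (@D3.rec (fun _ => Pt) (kgi xgi4 ygi5 zgi21) (kgi xgi4 ygi7 zgi49) (kgi xgi4 ygi52 zgi19) (kgi xgi2 ygi24 zgi34) (kgi xgi2 ygi43 zgi42) (kgi xgi2 ygi43 zgi57) (kgi xgi4 ygi12 zgi22) (kgi xgi8 ygi39 zgi56) (kgi xgi8 ygi15 zgi41) (kgi xgi2 ygi37 zgi18) (kgi xgi2 ygi33 zgi10) (kgi xgi4 ygi5 zgi1) (kgi xgi8 ygi40 zgi0) (kgi xgi2 ygi8 zgi8) (kgi xgi8 ygi40 zgi6) (kgi xgi4 ygi19 zgi36) (kgi xgi2 ygi24 zgi28) (kgi xgi8 ygi20 zgi8) (kgi xgi4 ygi12 zgi35)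 (kgi xgi7 ygi55 zgi32) (kgi xgi2 ygi8 zgi11) (kgi xgi2 ygi36 zgi51) (kgi xgi4 ygi3 zgi0) (kgi xgi2 ygi23 zgi47) (kgi xgi8 ygi22 zgi53) (kgi xgi8 ygi40 zgi26) (kgi xgi4 ygi51 zgi27) (kgi xgi4 ygi50 zgi54) (kgi xgi7 ygi56 zgi1) (kgi xgi2 ygi8 zgi48) (kgi xgi8 ygi40 zgi19) (kgi xgi2 ygi8 zgi22) (kgi xgi8 ygi40 zgi39) (kgi xgi4 ygi0 zgi19) (kgi xgi8 ygi40 zgi44) (kgi xgi2 ygi8 zgi17) (kgi xgi7 ygi55 zgi37) (kgi xgi7 ygi55 zgi35) (kgi xgi4 ygi15 zgi19) (kgi xgi4 ygi13 zgi4) (kgi xgi8 ygi17 zgi59) (kgi xgi8 ygi40 zgi58) (kgi xgi4 ygi0 zgi30) (kgi xgi8 ygi36 zgi35) (kgi xgi2 ygi8 zgi23) (kgi xgi7 ygi55 zgi42) (kgi xgi7 ygi55 zgi40) (kgi xgi8 ygi41 zgi9) (kgi xgi8 ygi10 zgi22) (kgi xgi8 ygi41 zgi15) (kgi xgi2 ygi8 zgi25) (kgi xgi7 ygi55 zgi47)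 (kgi xgi8 ygi41 zgi23) (kgi xgi7 ygi55 zgi45) (kgi xgi4 ygi12 zgi56) (kgi xgi6 ygi23 zgi28) (kgi xgi8 ygi41 zgi31) (kgi xgi8 ygi10 zgi28) (kgi xgi8 ygi41 zgi37) (kgi xgi2 ygi8 zgi28) (kgi xgi7 ygi55 zgi50) (kgi xgi7 ygi55 zgi48)) (@D3.rec (fun _ => Pt) (kgi xgi8 ygi41 zgi46) (kgi xgi8 ygi8 zgi9) (kgi xgi8 ygi41 zgi20) (kgi xgi8 ygi41 zgi54) (kgi xgi5 ygi37 zgi9) (kgi xgi8 ygi41 zgi43) (kgi xgi2 ygi8 zgi31) (kgi xgi8 ygi42 zgi0) (kgi xgi8 ygi42 zgi6) (kgi xgi8 ygi42 zgi13) (kgi xgi8 ygi42 zgi1) (kgi xgi2 ygi8 zgi32) (kgi xgi2 ygi9 zgi13) (kgi xgi8 ygi42 zgi22) (kgi xgi8 ygi42 zgi25) (kgi xgi2 ygi8 zgi34) (kgi xgi7 ygi55 zgi29) (kgi xgi2 ygi40 zgi57) (kgi xgi8 ygi16 zgi26) (kgi xgi8 ygi42 zgi37) (kgi xgi8 ygi6 zgi3) (kgi xgi2 ygi35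 zgi26) (kgi xgi8 ygi42 zgi40) (kgi xgi8 ygi40 zgi49) (kgi xgi2 ygi8 zgi38) (kgi xgi4 ygi19 zgi1) (kgi xgi8 ygi42 zgi48) (kgi xgi3 ygi57 zgi24) (kgi xgi3 ygi57 zgi21) (kgi xgi2 ygi8 zgi42) (kgi xgi4 ygi56 zgi53) (kgi xgi4 ygi56 zgi51) (kgi xgi8 ygi42 zgi57) (kgi xgi8 ygi42 zgi61) (kgi xgi8 ygi43 zgi2) (kgi xgi2 ygi8 zgi44) (kgi xgi4 ygi1 zgi32) (kgi xgi4 ygi58 zgi6) (kgi xgi4 ygi2 zgi11) (kgi xgi2 ygi8 zgi46) (kgi xgi4 ygi16 zgi46) (kgi xgi8 ygi25 zgi13) (kgi xgi8 ygi43 zgi16) (kgi xgi8 ygi41 zgi7) (kgi xgi4 ygi56 zgi50) (kgi xgi4 ygi56 zgi49) (kgi xgi2 ygi8 zgi50) (kgi xgi7 ygi56 zgi14) (kgi xgi7 ygi56 zgi12) (kgi xgi8 ygi43 zgi28) (kgi xgi8 ygi43 zgi32) (kgi xgi2 ygi8 zgi52) (kgi xgi2 ygi47 zgi16) (kgi xgi2 ygi47 zgi19) (kgi xgi8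 ygi43 zgi37) (kgi xgi5 ygi40 zgi19) (kgi xgi2 ygi8 zgi53) (kgi xgi2 ygi8 zgi59) (kgi xgi8 ygi43 zgi46) (kgi xgi2 ygi8 zgi54) (kgi xgi6 ygi14 zgi2) (kgi xgi4 ygi0 zgi2)) (@D3.rec (fun _ => Pt) (kgi xgi2 ygi9 zgi2) (kgi xgi6 ygi14 zgi6) (kgi xgi2 ygi8 zgi58) (kgi xgi7 ygi7 zgi41) (kgi xgi8 ygi43 zgi55) (kgi xgi8 ygi43 zgi58) (kgi xgi2 ygi8 zgi60) (kgi xgi2 ygi9 zgi5) (kgi xgi2 ygi9 zgi1) (kgi xgi8 ygi44 zgi1) (kgi xgi5 ygi46 zgi43) (kgi xgi2 ygi46 zgi29) (kgi xgi2 ygi9 zgi3) (kgi xgi5 ygi41 zgi31) (kgi xgi8 ygi44 zgi10) (kgi xgi8 ygi44 zgi13) (kgi xgi2 ygi9 zgi6) (kgi xgi2 ygi9 zgi8) (kgi xgi8 ygi44 zgi17) (kgi xgi2 ygi46 zgi7) (kgi xgi5 ygi37 zgi8) (kgi xgi2 ygi47 zgi11) (kgi xgi2 ygi9 zgi10) (kgi xgi2 ygi47 zgi14) (kgi xgi8 ygi44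 zgi19) (kgi xgi6 ygi25 zgi14) (kgi xgi8 ygi44 zgi30) (kgi xgi8 ygi44 zgi32) (kgi xgi2 ygi9 zgi9) (kgi xgi8 ygi44 zgi15) (kgi xgi8 ygi44 zgi42) (kgi xgi5 ygi19 zgi41) (kgi xgi8 ygi44 zgi31) (kgi xgi8 ygi44 zgi50) (kgi xgi5 ygi41 zgi39) (kgi xgi8 ygi44 zgi56) (kgi xgi8 ygi44 zgi7) (kgi xgi8 ygi45 zgi1) (kgi xgi8 ygi45 zgi4) (kgi xgi8 ygi45 zgi8) (kgi xgi2 ygi9 zgi14) (kgi xgi7 ygi56 zgi38) (kgi xgi7 ygi56 zgi36) (kgi xgi8 ygi45 zgi21) (kgi xgi6 ygi13 zgi8) (kgi xgi2 ygi9 zgi17) (kgi xgi3 ygi3 zgi59) (kgi xgi3 ygi3 zgi57) (kgi xgi4 ygi0 zgi46) (kgi xgi8 ygi5 zgi2) (kgi xgi8 ygi45 zgi30) (kgi xgi4 ygi22 zgi60) (kgi xgi6 ygi13 zgi31) (kgi xgi8 ygi45 zgi36) (kgi xgi3 ygi32 zgi39) (kgi xgi6 ygi9 zgi5) (kgi xgi2 ygi49 zgi35) (kgi xgi5 ygi5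 zgi57) (kgi xgi2 ygi54 zgi22) (kgi xgi2 ygi9 zgi25) (kgi xgi3 ygi9 zgi57) (kgi xgi8 ygi45 zgi47)) (@D3.rec (fun _ => Pt) (kgi xgi8 ygi45 zgi51) (kgi xgi2 ygi9 zgi26) (kgi xgi3 ygi32 zgi37) (kgi xgi5 ygi48 zgi39) (kgi xgi2 ygi9 zgi27) (kgi xgi7 ygi56 zgi47) (kgi xgi8 ygi45 zgi61) (kgi xgi7 ygi56 zgi45) (kgi xgi8 ygi45 zgi25) (kgi xgi4 ygi27 zgi6) (kgi xgi4 ygi1 zgi18) (kgi xgi2 ygi9 zgi38) (kgi xgi3 ygi57 zgi44) (kgi xgi4 ygi1 zgi30) (kgi xgi2 ygi49 zgi6) (kgi xgi4 ygi24 zgi44) (kgi xgi8 ygi46 zgi9) (kgi xgi7 ygi56 zgi42) (kgi xgi7 ygi12 zgi10) (kgi xgi2 ygi9 zgi37) (kgi xgi7 ygi12 zgi35) (kgi xgi5 ygi58 zgi19) (kgi xgi8 ygi46 zgi22) (kgi xgi8 ygi45 zgi41) (kgi xgi2 ygi9 zgi39) (kgi xgi3 ygi10 zgi3) (kgi xgi8 ygi46 zgi33) (kgi xgi3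 ygi10 zgi0) (kgi xgi4 ygi37 zgi25) (kgi xgi3 ygi10 zgi7) (kgi xgi7 ygi23 zgi5) (kgi xgi3 ygi10 zgi5) (kgi xgi6 ygi25 zgi32) (kgi xgi2 ygi15 zgi41) (kgi xgi2 ygi15 zgi57) (kgi xgi2 ygi54 zgi26) (kgi xgi6 ygi25 zgi12) (kgi xgi8 ygi46 zgi47) (kgi xgi2 ygi9 zgi48) (kgi xgi7 ygi56 zgi55) (kgi xgi7 ygi56 zgi53) (kgi xgi4 ygi0 zgi7) (kgi xgi2 ygi15 zgi31) (kgi xgi8 ygi46 zgi55) (kgi xgi4 ygi24 zgi12) (kgi xgi8 ygi46 zgi59) (kgi xgi2 ygi9 zgi52) (kgi xgi7 ygi56 zgi50) (kgi xgi8 ygi47 zgi4) (kgi xgi8 ygi47 zgi7) (kgi xgi2 ygi9 zgi53) (kgi xgi8 ygi46 zgi61) (kgi xgi8 ygi47 zgi13) (kgi xgi8 ygi46 zgi39) (kgi xgi2 ygi9 zgi54) (kgi xgi4 ygi58 zgi3) (kgi xgi8 ygi47 zgi23) (kgi xgi4 ygi58 zgi0) (kgi xgi7 ygi56 zgi17) (kgi xgi8 ygi2 zgi21) (kgi xgi8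 ygi4 zgi59) (kgi xgi2 ygi9 zgi57)) (@D3.rec (fun _ => Pt) (kgi xgi4 ygi58 zgi10) (kgi xgi8 ygi47 zgi38) (kgi xgi4 ygi58 zgi7) (kgi xgi2 ygi10 zgi20) (kgi xgi8 ygi1 zgi2) (kgi xgi5 ygi53 zgi37) (kgi xgi8 ygi3 zgi33) (kgi xgi2 ygi9 zgi61) (kgi xgi7 ygi57 zgi3) (kgi xgi8 ygi47 zgi57) (kgi xgi7 ygi57 zgi0) (kgi xgi8 ygi14 zgi7) (kgi xgi2 ygi29 zgi56) (kgi xgi7 ygi57 zgi7) (kgi xgi3 ygi57 zgi54) (kgi xgi2 ygi10 zgi28) (kgi xgi2 ygi10 zgi12) (kgi xgi7 ygi19 zgi17) (kgi xgi6 ygi13 zgi48) (kgi xgi7 ygi57 zgi9) (kgi xgi7 ygi56 zgi59) (kgi xgi8 ygi48 zgi13) (kgi xgi2 ygi10 zgi5) (kgi xgi5 ygi53 zgi49) (kgi xgi8 ygi48 zgi19) (kgi xgi8 ygi48 zgi23) (kgi xgi2 ygi10 zgi6) (kgi xgi7 ygi17 zgi30) (kgi xgi7 ygi6 zgi32) (kgi xgi8 ygi48 zgi12) (kgi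 xgi2 ygi10 zgi7) (kgi xgi6 ygi9 zgi14) (kgi xgi8 ygi48 zgi37) (kgi xgi6 ygi9 zgi11) (kgi xgi2 ygi10 zgi8) (kgi xgi6 ygi9 zgi17) (kgi xgi8 ygi48 zgi45) (kgi xgi6 ygi9 zgi15) (kgi xgi2 ygi10 zgi22) (kgi xgi8 ygi0 zgi6) (kgi xgi2 ygi14 zgi51) (kgi xgi5 ygi46 zgi24) (kgi xgi5 ygi13 zgi39) (kgi xgi8 ygi0 zgi5) (kgi xgi8 ygi48 zgi58) (kgi xgi8 ygi48 zgi60) (kgi xgi2 ygi10 zgi13) (kgi xgi2 ygi27 zgi17) (kgi xgi2 ygi51 zgi53) (kgi xgi2 ygi31 zgi8) (kgi xgi2 ygi14 zgi28) (kgi xgi2 ygi10 zgi14) (kgi xgi8 ygi49 zgi8) (kgi xgi8 ygi47 zgi53) (kgi xgi2 ygi16 zgi50) (kgi xgi2 ygi10 zgi15) (kgi xgi5 ygi12 zgi60) (kgi xgi2 ygi30 zgi38) (kgi xgi2 ygi52 zgi59) (kgi xgi4 ygi41 zgi21) (kgi xgi2 ygi54 zgi47) (kgi xgi5 ygi47 zgi52)) (@D3.rec (fun _ => Pt)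 (kgi xgi8 ygi49 zgi21) (kgi xgi8 ygi49 zgi7) (kgi xgi8 ygi49 zgi27) (kgi xgi8 ygi47 zgi43) (kgi xgi8 ygi49 zgi31) (kgi xgi2 ygi54 zgi11) (kgi xgi2 ygi10 zgi21) (kgi xgi2 ygi10 zgi26) (kgi xgi8 ygi49 zgi38) (kgi xgi5 ygi40 zgi32) (kgi xgi8 ygi48 zgi57) (kgi xgi8 ygi49 zgi46) (kgi xgi6 ygi14 zgi52) (kgi xgi2 ygi54 zgi10) (kgi xgi8 ygi49 zgi45) (kgi xgi8 ygi49 zgi58) (kgi xgi2 ygi10 zgi24) (kgi xgi8 ygi48 zgi50) (kgi xgi6 ygi2 zgi56) (kgi xgi3 ygi13 zgi35) (kgi xgi8 ygi50 zgi6) (kgi xgi6 ygi31 zgi23) (kgi xgi2 ygi10 zgi25) (kgi xgi8 ygi49 zgi42) (kgi xgi8 ygi49 zgi41) (kgi xgi8 ygi50 zgi17) (kgi xgi2 ygi10 zgi27) (kgi xgi8 ygi50 zgi23) (kgi xgi6 ygi13 zgi49) (kgi xgi8 ygi50 zgi28) (kgi xgi8 ygi50 zgi32) (kgi xgi2 ygi10 zgi29) (kgi xgi4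 ygi42 zgi42) (kgi xgi8 ygi50 zgi41) (kgi xgi4 ygi42 zgi39) (kgi xgi2 ygi10 zgi30) (kgi xgi3 ygi57 zgi57) (kgi xgi3 ygi57 zgi58) (kgi xgi8 ygi50 zgi48) (kgi xgi2 ygi10 zgi31) (kgi xgi4 ygi26 zgi51) (kgi xgi8 ygi50 zgi58) (kgi xgi4 ygi26 zgi52) (kgi xgi5 ygi54 zgi8) (kgi xgi4 ygi0 zgi54) (kgi xgi8 ygi51 zgi8) (kgi xgi8 ygi51 zgi11) (kgi xgi8 ygi51 zgi13) (kgi xgi6 ygi13 zgi37) (kgi xgi8 ygi51 zgi7) (kgi xgi6 ygi14 zgi51) (kgi xgi4 ygi26 zgi39) (kgi xgi2 ygi10 zgi35) (kgi xgi4 ygi26 zgi42) (kgi xgi8 ygi51 zgi34) (kgi xgi8 ygi51 zgi37) (kgi xgi8 ygi44 zgi8) (kgi xgi8 ygi51 zgi36) (kgi xgi4 ygi36 zgi6) (kgi xgi2 ygi10 zgi38) (kgi xgi6 ygi13 zgi11) (kgi xgi8 ygi51 zgi49)) (@D3.rec (fun _ => Pt) (kgi xgi2 ygi54 zgi25) (kgi xgi8 ygi47 zgi31)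 (kgi xgi2 ygi10 zgi40) (kgi xgi4 ygi24 zgi9) (kgi xgi8 ygi43 zgi53) (kgi xgi6 ygi15 zgi12) (kgi xgi6 ygi15 zgi13) (kgi xgi5 ygi13 zgi3) (kgi xgi5 ygi12 zgi38) (kgi xgi2 ygi10 zgi46) (kgi xgi5 ygi3 zgi42) (kgi xgi2 ygi37 zgi16) (kgi xgi5 ygi13 zgi7) (kgi xgi8 ygi33 zgi17) (kgi xgi5 ygi18 zgi29) (kgi xgi8 ygi52 zgi13) (kgi xgi2 ygi10 zgi51) (kgi xgi4 ygi27 zgi30) (kgi xgi8 ygi52 zgi22) (kgi xgi6 ygi25 zgi13) (kgi xgi4 ygi27 zgi26) (kgi xgi5 ygi18 zgi58) (kgi xgi5 ygi5 zgi22) (kgi xgi2 ygi38 zgi46) (kgi xgi5 ygi16 zgi17) (kgi xgi8 ygi52 zgi36) (kgi xgi2 ygi10 zgi56) (kgi xgi4 ygi27 zgi20) (kgi xgi8 ygi52 zgi45) (kgi xgi8 ygi52 zgi50) (kgi xgi4 ygi27 zgi16) (kgi xgi5 ygi19 zgi42) (kgi xgi8 ygi7 zgi15) (kgi xgi2 ygi41 zgi39) (kgi xgi8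 ygi8 zgi10) (kgi xgi2 ygi42 zgi38) (kgi xgi2 ygi10 zgi61) (kgi xgi2 ygi11 zgi22) (kgi xgi8 ygi53 zgi8) (kgi xgi8 ygi53 zgi13) (kgi xgi2 ygi11 zgi18) (kgi xgi6 ygi5 zgi26) (kgi xgi5 ygi36 zgi28) (kgi xgi8 ygi53 zgi19) (kgi xgi4 ygi10 zgi10) (kgi xgi4 ygi10 zgi8) (kgi xgi8 ygi39 zgi51) (kgi xgi8 ygi53 zgi25) (kgi xgi8 ygi17 zgi57) (kgi xgi6 ygi4 zgi55) (kgi xgi2 ygi11 zgi5) (kgi xgi2 ygi11 zgi10) (kgi xgi8 ygi53 zgi37) (kgi xgi8 ygi53 zgi42) (kgi xgi8 ygi53 zgi45) (kgi xgi2 ygi11 zgi6) (kgi xgi8 ygi7 zgi19) (kgi xgi6 ygi6 zgi29) (kgi xgi2 ygi40 zgi52) (kgi xgi8 ygi53 zgi54) (kgi xgi8 ygi53 zgi58) (kgi xgi8 ygi53 zgi41)) (@D3.rec (fun _ => Pt) (kgi xgi8 ygi54 zgi2) (kgi xgi2 ygi11 zgi11) (kgi xgi8 ygi52 zgi57) (kgi xgi8 ygi52 zgi56)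 (kgi xgi3 ygi58 zgi10) (kgi xgi8 ygi54 zgi11) (kgi xgi2 ygi11 zgi14) (kgi xgi2 ygi11 zgi16) (kgi xgi8 ygi54 zgi18) (kgi xgi8 ygi54 zgi23) (kgi xgi8 ygi54 zgi26) (kgi xgi2 ygi11 zgi15) (kgi xgi8 ygi8 zgi15) (kgi xgi5 ygi6 zgi15) (kgi xgi2 ygi42 zgi10) (kgi xgi8 ygi54 zgi36) (kgi xgi8 ygi54 zgi22) (kgi xgi8 ygi54 zgi42) (kgi xgi2 ygi11 zgi17) (kgi xgi8 ygi53 zgi0) (kgi xgi8 ygi54 zgi48) (kgi xgi8 ygi52 zgi61) (kgi xgi8 ygi54 zgi50) (kgi xgi2 ygi28 zgi5) (kgi xgi5 ygi28 zgi21) (kgi xgi8 ygi54 zgi31) (kgi xgi8 ygi54 zgi58) (kgi xgi4 ygi12 zgi11) (kgi xgi8 ygi54 zgi55) (kgi xgi8 ygi54 zgi47) (kgi xgi2 ygi11 zgi20) (kgi xgi8 ygi55 zgi5) (kgi xgi8 ygi55 zgi11) (kgi xgi8 ygi55 zgi18) (kgi xgi8 ygi55 zgi6) (kgi xgi2 ygi11 zgi21) (kgi xgi8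 ygi40 zgi10) (kgi xgi8 ygi24 zgi4) (kgi xgi8 ygi55 zgi30) (kgi xgi8 ygi53 zgi12) (kgi xgi8 ygi55 zgi34) (kgi xgi2 ygi11 zgi23) (kgi xgi6 ygi4 zgi33) (kgi xgi8 ygi16 zgi24) (kgi xgi8 ygi21 zgi46) (kgi xgi7 ygi58 zgi3) (kgi xgi8 ygi15 zgi60) (kgi xgi2 ygi11 zgi26) (kgi xgi2 ygi40 zgi59) (kgi xgi8 ygi55 zgi55) (kgi xgi8 ygi55 zgi59) (kgi xgi8 ygi56 zgi0) (kgi xgi2 ygi11 zgi27) (kgi xgi8 ygi6 zgi7) (kgi xgi5 ygi28 zgi9) (kgi xgi8 ygi56 zgi7) (kgi xgi6 ygi7 zgi21) (kgi xgi2 ygi11 zgi33) (kgi xgi2 ygi41 zgi29) (kgi xgi2 ygi41 zgi27) (kgi xgi8 ygi56 zgi19) (kgi xgi2 ygi36 zgi55)) (@D3.rec (fun _ => Pt) (kgi xgi4 ygi30 zgi51) (kgi xgi4 ygi16 zgi22) (kgi xgi4 ygi14 zgi9) (kgi xgi8 ygi29 zgi6) (kgi xgi2 ygi38 zgi10) (kgi xgi4 ygi14 zgi6) (kgi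 xgi6 ygi5 zgi52) (kgi xgi2 ygi11 zgi41) (kgi xgi2 ygi40 zgi7) (kgi xgi8 ygi56 zgi34) (kgi xgi8 ygi27 zgi13) (kgi xgi8 ygi56 zgi40) (kgi xgi2 ygi11 zgi42) (kgi xgi8 ygi30 zgi57) (kgi xgi8 ygi30 zgi56) (kgi xgi2 ygi11 zgi43) (kgi xgi2 ygi40 zgi49) (kgi xgi2 ygi40 zgi47) (kgi xgi8 ygi56 zgi52) (kgi xgi8 ygi56 zgi56) (kgi xgi3 ygi59 zgi11) (kgi xgi4 ygi50 zgi2) (kgi xgi2 ygi12 zgi45) (kgi xgi5 ygi13 zgi23) (kgi xgi2 ygi11 zgi48) (kgi xgi2 ygi42 zgi17) (kgi xgi8 ygi57 zgi3) (kgi xgi5 ygi29 zgi58) (kgi xgi8 ygi57 zgi9) (kgi xgi2 ygi11 zgi49) (kgi xgi8 ygi6 zgi13) (kgi xgi5 ygi15 zgi42) (kgi xgi8 ygi6 zgi11) (kgi xgi2 ygi11 zgi50) (kgi xgi2 ygi42 zgi29) (kgi xgi2 ygi42 zgi27) (kgi xgi5 ygi30 zgi27) (kgi xgi8 ygi57 zgi29) (kgi xgi5 ygi41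 zgi10) (kgi xgi2 ygi11 zgi52) (kgi xgi2 ygi42 zgi9) (kgi xgi8 ygi57 zgi35) (kgi xgi2 ygi42 zgi6) (kgi xgi2 ygi37 zgi1) (kgi xgi5 ygi18 zgi28) (kgi xgi2 ygi42 zgi50) (kgi xgi5 ygi18 zgi36) (kgi xgi2 ygi43 zgi26) (kgi xgi5 ygi10 zgi22) (kgi xgi8 ygi57 zgi46) (kgi xgi8 ygi57 zgi49) (kgi xgi5 ygi27 zgi54) (kgi xgi8 ygi57 zgi55) (kgi xgi2 ygi11 zgi59) (kgi xgi8 ygi57 zgi47) (kgi xgi8 ygi57 zgi45) (kgi xgi2 ygi11 zgi60) (kgi xgi2 ygi42 zgi0) (kgi xgi2 ygi41 zgi60) (kgi xgi5 ygi29 zgi8) (kgi xgi8 ygi58 zgi8) (kgi xgi2 ygi42 zgi35)) (@D3.rec (fun _ => Pt) (kgi xgi2 ygi12 zgi9) (kgi xgi4 ygi11 zgi21) (kgi xgi2 ygi38 zgi58) (kgi xgi2 ygi42 zgi58) (kgi xgi2 ygi12 zgi4) (kgi xgi2 ygi42 zgi53) (kgi xgi2 ygi42 zgi51) (kgi xgi5 ygi39 zgi29) (kgi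 xgi8 ygi58 zgi25) (kgi xgi8 ygi58 zgi29) (kgi xgi8 ygi58 zgi32) (kgi xgi2 ygi42 zgi11) (kgi xgi2 ygi12 zgi7) (kgi xgi2 ygi42 zgi42) (kgi xgi2 ygi42 zgi40) (kgi xgi8 ygi58 zgi45) (kgi xgi5 ygi36 zgi51) (kgi xgi8 ygi58 zgi51) (kgi xgi2 ygi57 zgi11) (kgi xgi2 ygi12 zgi10) (kgi xgi2 ygi12 zgi12) (kgi xgi4 ygi49 zgi32) (kgi xgi8 ygi58 zgi60) (kgi xgi5 ygi28 zgi29) (kgi xgi8 ygi57 zgi41) (kgi xgi2 ygi12 zgi14) (kgi xgi8 ygi58 zgi14) (kgi xgi8 ygi58 zgi59) (kgi xgi8 ygi59 zgi1) (kgi xgi8 ygi59 zgi18) (kgi xgi2 ygi48 zgi34) (kgi xgi2 ygi12 zgi13) (kgi xgi2 ygi48 zgi36) (kgi xgi8 ygi59 zgi26) (kgi xgi6 ygi44 zgi40) (kgi xgi8 ygi59 zgi31) (kgi xgi8 ygi58 zgi20) (kgi xgi8 ygi58 zgi39) (kgi xgi5 ygi49 zgi55) (kgi xgi2 ygi12 zgi17) (kgi xgi2 ygi43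 zgi19) (kgi xgi2 ygi43 zgi17) (kgi xgi2 ygi12 zgi18) (kgi xgi2 ygi40 zgi3) (kgi xgi8 ygi59 zgi45) (kgi xgi2 ygi40 zgi56) (kgi xgi2 ygi41 zgi59) (kgi xgi4 ygi29 zgi0) (kgi xgi6 ygi6 zgi28) (kgi xgi4 ygi15 zgi18) (kgi xgi4 ygi5 zgi34) (kgi xgi5 ygi26 zgi5) (kgi xgi2 ygi25 zgi10) (kgi xgi2 ygi38 zgi19) (kgi xgi8 ygi11 zgi23) (kgi xgi2 ygi12 zgi23) (kgi xgi2 ygi45 zgi42) (kgi xgi2 ygi45 zgi40) (kgi xgi2 ygi56 zgi1) (kgi xgi7 ygi57 zgi38) (kgi xgi9 ygi0 zgi3) (kgi xgi4 ygi56 zgi32)) (@D3.rec (fun _ => Pt) (kgi xgi2 ygi44 zgi37) (kgi xgi2 ygi44 zgi35) (kgi xgi2 ygi12 zgi29) (kgi xgi2 ygi12 zgi30) (kgi xgi2 ygi44 zgi42) (kgi xgi2 ygi44 zgi40) (kgi xgi2 ygi12 zgi31) (kgi xgi2 ygi45 zgi58) (kgi xgi9 ygi0 zgi17) (kgi xgi9 ygi0 zgi20) (kgi xgi2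 ygi12 zgi32) (kgi xgi2 ygi45 zgi8) (kgi xgi2 ygi45 zgi6) (kgi xgi4 ygi7 zgi14) (kgi xgi6 ygi7 zgi59) (kgi xgi4 ygi39 zgi48) (kgi xgi5 ygi0 zgi37) (kgi xgi8 ygi38 zgi1) (kgi xgi5 ygi23 zgi24) (kgi xgi6 ygi7 zgi16) (kgi xgi2 ygi25 zgi15) (kgi xgi5 ygi20 zgi25) (kgi xgi9 ygi0 zgi39) (kgi xgi2 ygi12 zgi40) (kgi xgi2 ygi43 zgi35) (kgi xgi9 ygi0 zgi48) (kgi xgi9 ygi0 zgi52) (kgi xgi8 ygi41 zgi24) (kgi xgi2 ygi12 zgi41) (kgi xgi8 ygi10 zgi4) (kgi xgi8 ygi10 zgi3) (kgi xgi2 ygi12 zgi44) (kgi xgi2 ygi44 zgi16) (kgi xgi2 ygi44 zgi14) (kgi xgi9 ygi1 zgi7) (kgi xgi3 ygi20 zgi59) (kgi xgi2 ygi41 zgi37) (kgi xgi2 ygi25 zgi31) (kgi xgi5 ygi10 zgi24) (kgi xgi7 ygi58 zgi9) (kgi xgi9 ygi1 zgi18) (kgi xgi9 ygi0 zgi8) (kgi xgi6 ygi15 zgi36) (kgi xgi2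 ygi44 zgi60) (kgi xgi2 ygi12 zgi52) (kgi xgi2 ygi44 zgi58) (kgi xgi2 ygi46 zgi4) (kgi xgi7 ygi59 zgi11) (kgi xgi2 ygi26 zgi34) (kgi xgi5 ygi46 zgi59) (kgi xgi9 ygi1 zgi31) (kgi xgi2 ygi12 zgi57) (kgi xgi2 ygi46 zgi21) (kgi xgi2 ygi46 zgi18) (kgi xgi2 ygi49 zgi11) (kgi xgi2 ygi49 zgi13) (kgi xgi7 ygi59 zgi20) (kgi xgi2 ygi26 zgi29) (kgi xgi2 ygi14 zgi36) (kgi xgi2 ygi46 zgi10) (kgi xgi2 ygi31 zgi6) (kgi xgi9 ygi1 zgi44)) (@D3.rec (fun _ => Pt) (kgi xgi9 ygi1 zgi48) (kgi xgi2 ygi13 zgi2) (kgi xgi5 ygi48 zgi13) (kgi xgi2 ygi13 zgi3) (kgi xgi2 ygi46 zgi39) (kgi xgi9 ygi1 zgi55) (kgi xgi2 ygi46 zgi36) (kgi xgi2 ygi13 zgi31) (kgi xgi8 ygi44 zgi16) (kgi xgi2 ygi13 zgi39) (kgi xgi7 ygi59 zgi21) (kgi xgi2 ygi48 zgi28) (kgi xgi2 ygi47 zgi23)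 (kgi xgi2 ygi47 zgi17) (kgi xgi9 ygi2 zgi6) (kgi xgi9 ygi2 zgi10) (kgi xgi5 ygi37 zgi13) (kgi xgi2 ygi13 zgi12) (kgi xgi2 ygi47 zgi7) (kgi xgi9 ygi2 zgi20) (kgi xgi2 ygi47 zgi4) (kgi xgi5 ygi40 zgi55) (kgi xgi8 ygi1 zgi48) (kgi xgi2 ygi13 zgi41) (kgi xgi2 ygi13 zgi25) (kgi xgi7 ygi59 zgi14) (kgi xgi2 ygi48 zgi21) (kgi xgi2 ygi53 zgi9) (kgi xgi2 ygi46 zgi51) (kgi xgi2 ygi46 zgi55) (kgi xgi2 ygi53 zgi48) (kgi xgi2 ygi13 zgi18) (kgi xgi2 ygi46 zgi49) (kgi xgi6 ygi14 zgi20) (kgi xgi5 ygi41 zgi16) (kgi xgi2 ygi13 zgi19) (kgi xgi2 ygi46 zgi50) (kgi xgi6 ygi15 zgi33) (kgi xgi9 ygi2 zgi47) (kgi xgi2 ygi13 zgi20) (kgi xgi7 ygi14 zgi8) (kgi xgi6 ygi16 zgi13) (kgi xgi8 ygi12 zgi5) (kgi xgi2 ygi13 zgi21) (kgi xgi2 ygi47 zgi32) (kgi xgi9 ygi2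 zgi54) (kgi xgi2 ygi47 zgi29) (kgi xgi2 ygi13 zgi42) (kgi xgi2 ygi13 zgi33) (kgi xgi2 ygi46 zgi61) (kgi xgi3 ygi57 zgi29) (kgi xgi6 ygi15 zgi54) (kgi xgi2 ygi46 zgi59) (kgi xgi2 ygi13 zgi26) (kgi xgi2 ygi13 zgi29) (kgi xgi7 ygi7 zgi8) (kgi xgi9 ygi3 zgi5) (kgi xgi8 ygi43 zgi40) (kgi xgi9 ygi3 zgi9) (kgi xgi9 ygi2 zgi16) (kgi xgi2 ygi47 zgi0) (kgi xgi2 ygi30 zgi42)) (@D3.rec (fun _ => Pt) (kgi xgi6 ygi24 zgi35) (kgi xgi7 ygi7 zgi35) (kgi xgi9 ygi3 zgi8) (kgi xgi9 ygi3 zgi21) (kgi xgi2 ygi47 zgi18) (kgi xgi4 ygi41 zgi26) (kgi xgi2 ygi13 zgi32) (kgi xgi2 ygi13 zgi37) (kgi xgi9 ygi3 zgi32) (kgi xgi9 ygi3 zgi36) (kgi xgi9 ygi2 zgi60) (kgi xgi9 ygi3 zgi41) (kgi xgi9 ygi3 zgi46) (kgi xgi9 ygi3 zgi40) (kgi xgi9 ygi3 zgi51) (kgi xgi2 ygi13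 zgi35) (kgi xgi9 ygi2 zgi58) (kgi xgi9 ygi4 zgi0) (kgi xgi5 ygi20 zgi46) (kgi xgi9 ygi4 zgi7) (kgi xgi9 ygi3 zgi31) (kgi xgi2 ygi13 zgi36) (kgi xgi9 ygi3 zgi37) (kgi xgi9 ygi3 zgi35) (kgi xgi9 ygi4 zgi21) (kgi xgi6 ygi7 zgi45) (kgi xgi2 ygi47 zgi12) (kgi xgi9 ygi4 zgi28) (kgi xgi9 ygi4 zgi32) (kgi xgi2 ygi13 zgi40) (kgi xgi2 ygi48 zgi27) (kgi xgi2 ygi48 zgi24) (kgi xgi2 ygi46 zgi44) (kgi xgi9 ygi4 zgi42) (kgi xgi9 ygi4 zgi44) (kgi xgi2 ygi48 zgi33) (kgi xgi2 ygi13 zgi43) (kgi xgi2 ygi43 zgi8) (kgi xgi2 ygi43 zgi9) (kgi xgi9 ygi4 zgi53) (kgi xgi2 ygi13 zgi44) (kgi xgi2 ygi48 zgi41) (kgi xgi5 ygi13 zgi36) (kgi xgi2 ygi48 zgi38) (kgi xgi9 ygi2 zgi0) (kgi xgi3 ygi59 zgi12) (kgi xgi2 ygi54 zgi57) (kgi xgi9 ygi5 zgi5) (kgi xgi9 ygi5 zgi7)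 (kgi xgi4 ygi57 zgi51) (kgi xgi6 ygi3 zgi3) (kgi xgi9 ygi4 zgi36) (kgi xgi2 ygi48 zgi51) (kgi xgi2 ygi13 zgi48) (kgi xgi2 ygi48 zgi50) (kgi xgi9 ygi5 zgi22) (kgi xgi2 ygi51 zgi19) (kgi xgi9 ygi5 zgi26) (kgi xgi6 ygi25 zgi36) (kgi xgi2 ygi56 zgi35) (kgi xgi8 ygi0 zgi57) (kgi xgi2 ygi14 zgi18)) (@D3.rec (fun _ => Pt) (kgi xgi9 ygi5 zgi30) (kgi xgi2 ygi13 zgi55) (kgi xgi9 ygi5 zgi27) (kgi xgi9 ygi5 zgi37) (kgi xgi9 ygi5 zgi25) (kgi xgi2 ygi50 zgi52) (kgi xgi2 ygi13 zgi57) (kgi xgi2 ygi50 zgi32) (kgi xgi6 ygi15 zgi21) (kgi xgi9 ygi5 zgi43) (kgi xgi6 ygi17 zgi7) (kgi xgi2 ygi13 zgi61) (kgi xgi2 ygi50 zgi54) (kgi xgi7 ygi51 zgi55) (kgi xgi5 ygi43 zgi57) (kgi xgi2 ygi17 zgi47) (kgi xgi4 ygi33 zgi5) (kgi xgi3 ygi58 zgi51) (kgi xgi5 ygi34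 zgi42) (kgi xgi2 ygi49 zgi50) (kgi xgi8 ygi12 zgi26) (kgi xgi2 ygi55 zgi2) (kgi xgi3 ygi0 zgi10) (kgi xgi2 ygi14 zgi10) (kgi xgi2 ygi49 zgi57) (kgi xgi2 ygi50 zgi14) (kgi xgi7 ygi44 zgi57) (kgi xgi8 ygi0 zgi30) (kgi xgi2 ygi27 zgi53) (kgi xgi2 ygi27 zgi33) (kgi xgi3 ygi21 zgi49) (kgi xgi2 ygi14 zgi14) (kgi xgi9 ygi5 zgi57) (kgi xgi2 ygi14 zgi15) (kgi xgi9 ygi5 zgi52) (kgi xgi9 ygi5 zgi51) (kgi xgi2 ygi14 zgi16) (kgi xgi2 ygi51 zgi24) (kgi xgi9 ygi6 zgi7) (kgi xgi2 ygi51 zgi22) (kgi xgi7 ygi36 zgi14) (kgi xgi6 ygi8 zgi25) (kgi xgi6 ygi11 zgi55) (kgi xgi5 ygi54 zgi34) (kgi xgi2 ygi14 zgi25) (kgi xgi9 ygi6 zgi12) (kgi xgi5 ygi50 zgi38) (kgi xgi8 ygi0 zgi4) (kgi xgi2 ygi45 zgi4) (kgi xgi2 ygi51 zgi56) (kgi xgi9 ygi6 zgi18) (kgi xgi5 ygi38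 zgi23) (kgi xgi2 ygi14 zgi32) (kgi xgi9 ygi6 zgi24) (kgi xgi2 ygi14 zgi33) (kgi xgi9 ygi6 zgi20) (kgi xgi9 ygi6 zgi36) (kgi xgi9 ygi6 zgi17) (kgi xgi8 ygi49 zgi23) (kgi xgi6 ygi4 zgi11) (kgi xgi2 ygi14 zgi35) (kgi xgi2 ygi58 zgi6)) (@D3.rec (fun _ => Pt) (kgi xgi9 ygi6 zgi48) (kgi xgi5 ygi38 zgi26) (kgi xgi2 ygi14 zgi37) (kgi xgi2 ygi52 zgi41) (kgi xgi2 ygi14 zgi39) (kgi xgi2 ygi27 zgi16) (kgi xgi9 ygi6 zgi57) (kgi xgi8 ygi12 zgi33) (kgi xgi6 ygi6 zgi10) (kgi xgi2 ygi27 zgi27) (kgi xgi8 ygi59 zgi56) (kgi xgi2 ygi14 zgi45) (kgi xgi2 ygi57 zgi61) (kgi xgi6 ygi7 zgi58) (kgi xgi5 ygi26 zgi39) (kgi xgi8 ygi49 zgi34) (kgi xgi9 ygi7 zgi9) (kgi xgi2 ygi22 zgi29) (kgi xgi8 ygi49 zgi51) (kgi xgi8 ygi0 zgi31) (kgi xgi2 ygi57 zgi42) (kgi xgi2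 ygi54 zgi39) (kgi xgi9 ygi7 zgi17) (kgi xgi2 ygi14 zgi54) (kgi xgi2 ygi16 zgi56) (kgi xgi2 ygi14 zgi57) (kgi xgi2 ygi14 zgi55) (kgi xgi3 ygi1 zgi49) (kgi xgi9 ygi7 zgi28) (kgi xgi2 ygi14 zgi56) (kgi xgi9 ygi7 zgi19) (kgi xgi9 ygi7 zgi34) (kgi xgi9 ygi7 zgi16) (kgi xgi8 ygi48 zgi53) (kgi xgi4 ygi39 zgi47) (kgi xgi8 ygi50 zgi21) (kgi xgi4 ygi39 zgi44) (kgi xgi2 ygi14 zgi59) (kgi xgi9 ygi7 zgi23) (kgi xgi9 ygi7 zgi47) (kgi xgi9 ygi7 zgi21) (kgi xgi6 ygi25 zgi44) (kgi xgi9 ygi7 zgi52) (kgi xgi3 ygi0 zgi48) (kgi xgi2 ygi19 zgi40) (kgi xgi2 ygi54 zgi0) (kgi xgi9 ygi7 zgi57) (kgi xgi5 ygi34 zgi52) (kgi xgi8 ygi2 zgi25) (kgi xgi9 ygi8 zgi1) (kgi xgi2 ygi16 zgi34) (kgi xgi2 ygi15 zgi7) (kgi xgi2 ygi16 zgi3) (kgi xgi2 ygi15 zgi13) (kgi xgi9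 ygi7 zgi59) (kgi xgi6 ygi13 zgi15) (kgi xgi9 ygi8 zgi0) (kgi xgi3 ygi20 zgi54) (kgi xgi2 ygi46 zgi45) (kgi xgi9 ygi8 zgi8) (kgi xgi2 ygi53 zgi29) (kgi xgi5 ygi56 zgi61)) (@D3.rec (fun _ => Pt) (kgi xgi2 ygi53 zgi42) (kgi xgi9 ygi8 zgi16) (kgi xgi2 ygi15 zgi23) (kgi xgi6 ygi16 zgi26) (kgi xgi2 ygi15 zgi20) (kgi xgi2 ygi18 zgi46) (kgi xgi3 ygi57 zgi51) (kgi xgi3 ygi4 zgi12) (kgi xgi6 ygi15 zgi59) (kgi xgi9 ygi8 zgi29) (kgi xgi2 ygi15 zgi17) (kgi xgi9 ygi8 zgi13) (kgi xgi9 ygi8 zgi35) (kgi xgi3 ygi3 zgi17) (kgi xgi2 ygi15 zgi18) (kgi xgi2 ygi53 zgi19) (kgi xgi8 ygi0 zgi1) (kgi xgi5 ygi34 zgi19) (kgi xgi2 ygi15 zgi19) (kgi xgi9 ygi8 zgi15) (kgi xgi9 ygi8 zgi50) (kgi xgi6 ygi13 zgi23) (kgi xgi4 ygi56 zgi44) (kgi xgi6 ygi13 zgi20) (kgi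 xgi9 ygi8 zgi53) (kgi xgi2 ygi15 zgi22) (kgi xgi9 ygi8 zgi22) (kgi xgi9 ygi9 zgi1) (kgi xgi9 ygi8 zgi20) (kgi xgi2 ygi15 zgi59) (kgi xgi9 ygi9 zgi9) (kgi xgi2 ygi55 zgi59) (kgi xgi2 ygi48 zgi48) (kgi xgi2 ygi15 zgi26) (kgi xgi2 ygi54 zgi58) (kgi xgi2 ygi15 zgi61) (kgi xgi9 ygi9 zgi17) (kgi xgi9 ygi4 zgi23) (kgi xgi6 ygi15 zgi38) (kgi xgi5 ygi51 zgi14) (kgi xgi6 ygi50 zgi4) (kgi xgi2 ygi18 zgi60) (kgi xgi2 ygi53 zgi39) (kgi xgi4 ygi25 zgi13) (kgi xgi6 ygi14 zgi15) (kgi xgi5 ygi7 zgi15) (kgi xgi5 ygi50 zgi42) (kgi xgi5 ygi51 zgi42) (kgi xgi6 ygi51 zgi2) (kgi xgi4 ygi42 zgi57) (kgi xgi4 ygi42 zgi50) (kgi xgi4 ygi39 zgi56) (kgi xgi2 ygi54 zgi16) (kgi xgi3 ygi9 zgi61) (kgi xgi2 ygi54 zgi20) (kgi xgi9 ygi9 zgi38) (kgi xgi8 ygi25 zgi51)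 (kgi xgi7 ygi56 zgi48) (kgi xgi2 ygi15 zgi42) (kgi xgi2 ygi15 zgi56) (kgi xgi5 ygi46 zgi26) (kgi xgi5 ygi38 zgi9)) (@D3.rec (fun _ => Pt) (kgi xgi6 ygi24 zgi45) (kgi xgi2 ygi15 zgi43) (kgi xgi4 ygi4 zgi51) (kgi xgi6 ygi24 zgi29) (kgi xgi8 ygi12 zgi1) (kgi xgi8 ygi43 zgi34) (kgi xgi3 ygi2 zgi3) (kgi xgi9 ygi9 zgi60) (kgi xgi2 ygi15 zgi46) (kgi xgi2 ygi15 zgi58) (kgi xgi2 ygi54 zgi2) (kgi xgi9 ygi10 zgi4) (kgi xgi9 ygi10 zgi7) (kgi xgi9 ygi9 zgi20) (kgi xgi2 ygi15 zgi47) (kgi xgi7 ygi30 zgi38) (kgi xgi2 ygi53 zgi56) (kgi xgi2 ygi54 zgi55) (kgi xgi5 ygi5 zgi58) (kgi xgi2 ygi15 zgi50) (kgi xgi9 ygi10 zgi17) (kgi xgi2 ygi30 zgi18) (kgi xgi2 ygi44 zgi17) (kgi xgi2 ygi51 zgi9) (kgi xgi9 ygi10 zgi25) (kgi xgi4 ygi23 zgi52) (kgi xgi8 ygi49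 zgi5) (kgi xgi9 ygi10 zgi30) (kgi xgi8 ygi46 zgi40) (kgi xgi9 ygi10 zgi35) (kgi xgi3 ygi15 zgi30) (kgi xgi9 ygi10 zgi3) (kgi xgi9 ygi10 zgi41) (kgi xgi9 ygi9 zgi5) (kgi xgi9 ygi10 zgi47) (kgi xgi9 ygi9 zgi6) (kgi xgi9 ygi7 zgi3) (kgi xgi9 ygi7 zgi2) (kgi xgi9 ygi10 zgi54) (kgi xgi9 ygi9 zgi14) (kgi xgi3 ygi16 zgi13) (kgi xgi3 ygi17 zgi50) (kgi xgi9 ygi10 zgi60) (kgi xgi2 ygi16 zgi2) (kgi xgi2 ygi16 zgi14) (kgi xgi2 ygi16 zgi12) (kgi xgi2 ygi53 zgi12) (kgi xgi9 ygi11 zgi11) (kgi xgi2 ygi16 zgi4) (kgi xgi2 ygi16 zgi6) (kgi xgi9 ygi11 zgi18) (kgi xgi2 ygi16 zgi5) (kgi xgi3 ygi20 zgi29) (kgi xgi8 ygi58 zgi49) (kgi xgi2 ygi57 zgi6) (kgi xgi3 ygi16 zgi40) (kgi xgi6 ygi28 zgi59) (kgi xgi9 ygi11 zgi31) (kgi xgi2 ygi16 zgi7) (kgi xgi3 ygi20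 zgi23) (kgi xgi3 ygi20 zgi22) (kgi xgi9 ygi11 zgi40)) (@D3.rec (fun _ => Pt) (kgi xgi2 ygi50 zgi11) (kgi xgi4 ygi39 zgi60) (kgi xgi9 ygi11 zgi23) (kgi xgi9 ygi11 zgi48) (kgi xgi6 ygi44 zgi21) (kgi xgi6 ygi10 zgi55) (kgi xgi9 ygi11 zgi36) (kgi xgi2 ygi16 zgi10) (kgi xgi3 ygi17 zgi48) (kgi xgi7 ygi26 zgi43) (kgi xgi9 ygi11 zgi59) (kgi xgi2 ygi16 zgi11) (kgi xgi9 ygi11 zgi0) (kgi xgi9 ygi12 zgi9) (kgi xgi9 ygi10 zgi59) (kgi xgi9 ygi9 zgi23) (kgi xgi9 ygi11 zgi16) (kgi xgi9 ygi12 zgi22) (kgi xgi9 ygi12 zgi25) (kgi xgi5 ygi26 zgi58) (kgi xgi9 ygi12 zgi17) (kgi xgi9 ygi12 zgi21) (kgi xgi7 ygi30 zgi39) (kgi xgi2 ygi54 zgi30) (kgi xgi2 ygi54 zgi49) (kgi xgi2 ygi16 zgi16) (kgi xgi2 ygi54 zgi48) (kgi xgi9 ygi12 zgi44) (kgi xgi2 ygi57 zgi14)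 (kgi xgi9 ygi12 zgi50) (kgi xgi2 ygi16 zgi18) (kgi xgi2 ygi57 zgi12) (kgi xgi3 ygi16 zgi4) (kgi xgi9 ygi12 zgi59) (kgi xgi2 ygi16 zgi19) (kgi xgi9 ygi12 zgi52) (kgi xgi8 ygi59 zgi17) (kgi xgi9 ygi12 zgi49) (kgi xgi2 ygi22 zgi20) (kgi xgi9 ygi13 zgi9) (kgi xgi9 ygi13 zgi8) (kgi xgi2 ygi16 zgi22) (kgi xgi2 ygi57 zgi10) (kgi xgi2 ygi56 zgi61) (kgi xgi9 ygi13 zgi18) (kgi xgi2 ygi16 zgi25) (kgi xgi2 ygi56 zgi59) (kgi xgi5 ygi54 zgi44) (kgi xgi9 ygi13 zgi24) (kgi xgi2 ygi16 zgi26) (kgi xgi9 ygi13 zgi19) (kgi xgi9 ygi13 zgi29) (kgi xgi9 ygi13 zgi17) (kgi xgi9 ygi13 zgi35) (kgi xgi2 ygi56 zgi29) (kgi xgi9 ygi13 zgi34) (kgi xgi2 ygi16 zgi33) (kgi xgi2 ygi16 zgi29) (kgi xgi2 ygi57 zgi29) (kgi xgi5 ygi50 zgi25) (kgi xgi2 ygi57 zgi26) (kgi xgi2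 ygi16 zgi31)) (@D3.rec (fun _ => Pt) (kgi xgi2 ygi54 zgi8) (kgi xgi9 ygi12 zgi55) (kgi xgi9 ygi13 zgi53) (kgi xgi9 ygi13 zgi56) (kgi xgi2 ygi16 zgi32) (kgi xgi2 ygi16 zgi35) (kgi xgi2 ygi18 zgi9) (kgi xgi2 ygi57 zgi25) (kgi xgi2 ygi57 zgi31) (kgi xgi2 ygi57 zgi30) (kgi xgi9 ygi14 zgi3) (kgi xgi5 ygi49 zgi31) (kgi xgi2 ygi47 zgi3) (kgi xgi2 ygi16 zgi38) (kgi xgi5 ygi52 zgi36) (kgi xgi6 ygi2 zgi47) (kgi xgi4 ygi25 zgi5) (kgi xgi6 ygi16 zgi31) (kgi xgi5 ygi52 zgi39) (kgi xgi9 ygi14 zgi17) (kgi xgi2 ygi54 zgi14) (kgi xgi3 ygi3 zgi32) (kgi xgi9 ygi14 zgi24) (kgi xgi9 ygi2 zgi30) (kgi xgi4 ygi57 zgi61) (kgi xgi9 ygi14 zgi31) (kgi xgi2 ygi16 zgi41) (kgi xgi2 ygi48 zgi54) (kgi xgi9 ygi14 zgi38) (kgi xgi2 ygi16 zgi45) (kgi xgi9 ygi14 zgi7)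 (kgi xgi5 ygi50 zgi18) (kgi xgi5 ygi49 zgi58) (kgi xgi9 ygi14 zgi45) (kgi xgi9 ygi14 zgi47) (kgi xgi3 ygi4 zgi26) (kgi xgi7 ygi26 zgi44) (kgi xgi9 ygi14 zgi50) (kgi xgi2 ygi16 zgi51) (kgi xgi6 ygi24 zgi23) (kgi xgi6 ygi24 zgi21) (kgi xgi2 ygi16 zgi53) (kgi xgi4 ygi42 zgi58) (kgi xgi6 ygi24 zgi46) (kgi xgi4 ygi35 zgi34) (kgi xgi2 ygi16 zgi57) (kgi xgi9 ygi14 zgi58) (kgi xgi4 ygi35 zgi36) (kgi xgi4 ygi41 zgi27) (kgi xgi9 ygi15 zgi7) (kgi xgi9 ygi15 zgi12) (kgi xgi9 ygi15 zgi14) (kgi xgi4 ygi34 zgi41) (kgi xgi2 ygi16 zgi59) (kgi xgi3 ygi0 zgi25) (kgi xgi9 ygi15 zgi21) (kgi xgi4 ygi36 zgi53) (kgi xgi4 ygi41 zgi28) (kgi xgi2 ygi17 zgi2) (kgi xgi3 ygi2 zgi5) (kgi xgi4 ygi38 zgi5) (kgi xgi9 ygi15 zgi28)) (@D3.rec (fun _ => Pt) (kgi xgi2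 ygi17 zgi3) (kgi xgi9 ygi9 zgi61) (kgi xgi9 ygi9 zgi59) (kgi xgi2 ygi54 zgi38) (kgi xgi9 ygi13 zgi61) (kgi xgi6 ygi45 zgi29) (kgi xgi6 ygi16 zgi7) (kgi xgi9 ygi13 zgi38) (kgi xgi2 ygi54 zgi54) (kgi xgi2 ygi21 zgi37) (kgi xgi3 ygi7 zgi56) (kgi xgi2 ygi17 zgi9) (kgi xgi3 ygi8 zgi9) (kgi xgi9 ygi15 zgi48) (kgi xgi9 ygi15 zgi51) (kgi xgi9 ygi15 zgi46) (kgi xgi9 ygi15 zgi56) (kgi xgi9 ygi15 zgi60) (kgi xgi4 ygi45 zgi14) (kgi xgi9 ygi16 zgi4) (kgi xgi2 ygi17 zgi16) (kgi xgi2 ygi17 zgi27) (kgi xgi2 ygi17 zgi25) (kgi xgi2 ygi17 zgi18) (kgi xgi5 ygi54 zgi48) (kgi xgi9 ygi16 zgi12) (kgi xgi9 ygi16 zgi15) (kgi xgi6 ygi19 zgi58) (kgi xgi6 ygi29 zgi7) (kgi xgi2 ygi20 zgi0) (kgi xgi9 ygi16 zgi22) (kgi xgi2 ygi21 zgi23) (kgi xgi7 ygi2 zgi9) (kgi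 xgi2 ygi20 zgi47) (kgi xgi9 ygi16 zgi20) (kgi xgi2 ygi55 zgi26) (kgi xgi3 ygi0 zgi36) (kgi xgi4 ygi46 zgi38) (kgi xgi9 ygi16 zgi37) (kgi xgi2 ygi21 zgi9) (kgi xgi9 ygi16 zgi43) (kgi xgi2 ygi17 zgi24) (kgi xgi9 ygi16 zgi6) (kgi xgi9 ygi16 zgi53) (kgi xgi9 ygi16 zgi3) (kgi xgi3 ygi25 zgi32) (kgi xgi9 ygi16 zgi10) (kgi xgi2 ygi20 zgi2) (kgi xgi6 ygi43 zgi42) (kgi xgi9 ygi16 zgi57) (kgi xgi9 ygi17 zgi5) (kgi xgi2 ygi17 zgi29) (kgi xgi9 ygi17 zgi7) (kgi xgi9 ygi17 zgi15) (kgi xgi9 ygi17 zgi4) (kgi xgi2 ygi53 zgi41) (kgi xgi6 ygi46 zgi48) (kgi xgi6 ygi25 zgi20) (kgi xgi6 ygi46 zgi50) (kgi xgi2 ygi53 zgi58) (kgi xgi2 ygi17 zgi32) (kgi xgi6 ygi46 zgi46)) (@D3.rec (fun _ => Pt) (kgi xgi3 ygi2 zgi39) (kgi xgi2 ygi17 zgi34) (kgi xgi3 ygi15 zgi2)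 (kgi xgi9 ygi17 zgi36) (kgi xgi2 ygi51 zgi55) (kgi xgi6 ygi25 zgi53) (kgi xgi6 ygi30 zgi25) (kgi xgi2 ygi52 zgi15) (kgi xgi3 ygi14 zgi29) (kgi xgi3 ygi2 zgi55) (kgi xgi2 ygi20 zgi13) (kgi xgi7 ygi27 zgi28) (kgi xgi3 ygi13 zgi59) (kgi xgi5 ygi50 zgi9) (kgi xgi6 ygi26 zgi61) (kgi xgi2 ygi52 zgi12) (kgi xgi2 ygi21 zgi55) (kgi xgi3 ygi3 zgi2) (kgi xgi2 ygi17 zgi43) (kgi xgi2 ygi17 zgi45) (kgi xgi4 ygi25 zgi59) (kgi xgi5 ygi55 zgi29) (kgi xgi5 ygi5 zgi11) (kgi xgi4 ygi37 zgi21) (kgi xgi3 ygi5 zgi27) (kgi xgi4 ygi39 zgi35) (kgi xgi5 ygi42 zgi37) (kgi xgi9 ygi0 zgi7) (kgi xgi2 ygi17 zgi49) (kgi xgi4 ygi39 zgi57) (kgi xgi9 ygi17 zgi56) (kgi xgi9 ygi3 zgi24) (kgi xgi6 ygi8 zgi32) (kgi xgi9 ygi17 zgi60) (kgi xgi9 ygi13 zgi60) (kgi xgi9 ygi18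 zgi0) (kgi xgi3 ygi10 zgi21) (kgi xgi3 ygi5 zgi31) (kgi xgi9 ygi18 zgi6) (kgi xgi5 ygi46 zgi37) (kgi xgi7 ygi44 zgi24) (kgi xgi3 ygi10 zgi49) (kgi xgi3 ygi9 zgi40) (kgi xgi6 ygi28 zgi10) (kgi xgi2 ygi18 zgi4) (kgi xgi6 ygi50 zgi26) (kgi xgi4 ygi59 zgi61) (kgi xgi9 ygi12 zgi36) (kgi xgi3 ygi7 zgi45) (kgi xgi5 ygi7 zgi1) (kgi xgi3 ygi42 zgi3) (kgi xgi5 ygi0 zgi16) (kgi xgi3 ygi12 zgi55) (kgi xgi3 ygi12 zgi53) (kgi xgi3 ygi6 zgi11) (kgi xgi6 ygi24 zgi1) (kgi xgi5 ygi4 zgi19) (kgi xgi3 ygi9 zgi11) (kgi xgi2 ygi18 zgi18) (kgi xgi6 ygi26 zgi12) (kgi xgi9 ygi18 zgi26) (kgi xgi9 ygi18 zgi8)) (@D3.rec (fun _ => Pt) (kgi xgi4 ygi45 zgi29) (kgi xgi9 ygi18 zgi29) (kgi xgi2 ygi18 zgi21) (kgi xgi2 ygi18 zgi23) (kgi xgi6 ygi42 zgi52) (kgi xgi3 ygi8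 zgi25) (kgi xgi3 ygi8 zgi24) (kgi xgi6 ygi36 zgi29) (kgi xgi9 ygi18 zgi38) (kgi xgi6 ygi12 zgi45) (kgi xgi6 ygi27 zgi35) (kgi xgi2 ygi18 zgi26) (kgi xgi3 ygi8 zgi57) (kgi xgi9 ygi18 zgi47) (kgi xgi6 ygi4 zgi5) (kgi xgi3 ygi8 zgi53) (kgi xgi9 ygi18 zgi53) (kgi xgi3 ygi6 zgi18) (kgi xgi6 ygi41 zgi30) (kgi xgi9 ygi18 zgi61) (kgi xgi9 ygi19 zgi1) (kgi xgi6 ygi24 zgi20) (kgi xgi2 ygi18 zgi33) (kgi xgi3 ygi9 zgi13) (kgi xgi2 ygi18 zgi34) (kgi xgi6 ygi48 zgi47) (kgi xgi6 ygi23 zgi29) (kgi xgi2 ygi21 zgi38) (kgi xgi9 ygi15 zgi54) (kgi xgi9 ygi19 zgi19) (kgi xgi6 ygi48 zgi58) (kgi xgi9 ygi19 zgi5) (kgi xgi2 ygi18 zgi41) (kgi xgi3 ygi9 zgi48) (kgi xgi3 ygi9 zgi46) (kgi xgi4 ygi1 zgi25) (kgi xgi2 ygi53 zgi25) (kgi xgi4 ygi44 zgi49) (kgi xgi9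 ygi19 zgi30) (kgi xgi2 ygi18 zgi48) (kgi xgi4 ygi26 zgi34) (kgi xgi9 ygi19 zgi39) (kgi xgi4 ygi26 zgi31) (kgi xgi2 ygi18 zgi49) (kgi xgi5 ygi50 zgi48) (kgi xgi5 ygi49 zgi41) (kgi xgi2 ygi18 zgi53) (kgi xgi2 ygi18 zgi56) (kgi xgi5 ygi53 zgi27) (kgi xgi8 ygi5 zgi4) (kgi xgi4 ygi5 zgi41) (kgi xgi2 ygi49 zgi32) (kgi xgi4 ygi58 zgi54) (kgi xgi8 ygi12 zgi22) (kgi xgi3 ygi5 zgi1) (kgi xgi4 ygi32 zgi51) (kgi xgi3 ygi4 zgi61) (kgi xgi4 ygi36 zgi42) (kgi xgi2 ygi33 zgi2) (kgi xgi9 ygi12 zgi28) (kgi xgi5 ygi44 zgi27) (kgi xgi5 ygi34 zgi49)) (@D3.rec (fun _ => Pt) (kgi xgi6 ygi17 zgi18) (kgi xgi6 ygi12 zgi55) (kgi xgi9 ygi19 zgi54) (kgi xgi9 ygi19 zgi55) (kgi xgi2 ygi19 zgi22) (kgi xgi6 ygi50 zgi47) (kgi xgi6 ygi40 zgi58) (kgi xgi6 ygi49 zgi59)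 (kgi xgi6 ygi38 zgi15) (kgi xgi6 ygi37 zgi24) (kgi xgi9 ygi19 zgi58) (kgi xgi2 ygi19 zgi51) (kgi xgi6 ygi49 zgi7) (kgi xgi2 ygi19 zgi19) (kgi xgi9 ygi19 zgi61) (kgi xgi6 ygi51 zgi21) (kgi xgi9 ygi20 zgi5) (kgi xgi3 ygi7 zgi41) (kgi xgi9 ygi15 zgi53) (kgi xgi6 ygi37 zgi33) (kgi xgi6 ygi20 zgi61) (kgi xgi6 ygi19 zgi17) (kgi xgi3 ygi53 zgi35) (kgi xgi8 ygi23 zgi47) (kgi xgi4 ygi47 zgi33) (kgi xgi2 ygi19 zgi27) (kgi xgi9 ygi20 zgi12) (kgi xgi2 ygi19 zgi28) (kgi xgi2 ygi19 zgi30) (kgi xgi6 ygi43 zgi54) (kgi xgi6 ygi30 zgi57) (kgi xgi7 ygi20 zgi3) (kgi xgi6 ygi43 zgi53) (kgi xgi6 ygi18 zgi44) (kgi xgi6 ygi50 zgi13) (kgi xgi2 ygi19 zgi34) (kgi xgi3 ygi11 zgi36) (kgi xgi9 ygi20 zgi26) (kgi xgi9 ygi20 zgi30) (kgi xgi3 ygi11 zgi32) (kgi xgi2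 ygi19 zgi36) (kgi xgi8 ygi24 zgi5) (kgi xgi8 ygi24 zgi36) (kgi xgi3 ygi17 zgi1) (kgi xgi6 ygi25 zgi45) (kgi xgi3 ygi7 zgi40) (kgi xgi5 ygi34 zgi55) (kgi xgi3 ygi23 zgi54) (kgi xgi9 ygi20 zgi39) (kgi xgi2 ygi22 zgi48) (kgi xgi3 ygi13 zgi6) (kgi xgi9 ygi20 zgi42) (kgi xgi2 ygi19 zgi45) (kgi xgi3 ygi13 zgi15) (kgi xgi9 ygi20 zgi44) (kgi xgi6 ygi18 zgi50) (kgi xgi6 ygi19 zgi33) (kgi xgi5 ygi18 zgi55) (kgi xgi6 ygi17 zgi15) (kgi xgi6 ygi19 zgi14) (kgi xgi2 ygi21 zgi13) (kgi xgi2 ygi19 zgi56)) (@D3.rec (fun _ => Pt) (kgi xgi3 ygi22 zgi7) (kgi xgi8 ygi23 zgi31) (kgi xgi3 ygi6 zgi16) (kgi xgi7 ygi41 zgi54) (kgi xgi6 ygi50 zgi48) (kgi xgi9 ygi21 zgi2) (kgi xgi7 ygi31 zgi17) (kgi xgi9 ygi21 zgi6) (kgi xgi3 ygi1 zgi61) (kgi xgi9 ygi21 zgi11)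 (kgi xgi6 ygi55 zgi59) (kgi xgi9 ygi21 zgi13) (kgi xgi3 ygi14 zgi56) (kgi xgi4 ygi45 zgi58) (kgi xgi3 ygi14 zgi54) (kgi xgi3 ygi2 zgi58) (kgi xgi9 ygi21 zgi20) (kgi xgi2 ygi20 zgi8) (kgi xgi2 ygi20 zgi34) (kgi xgi9 ygi21 zgi29) (kgi xgi3 ygi45 zgi15) (kgi xgi9 ygi16 zgi8) (kgi xgi4 ygi44 zgi39) (kgi xgi9 ygi16 zgi61) (kgi xgi3 ygi2 zgi2) (kgi xgi9 ygi21 zgi39) (kgi xgi3 ygi11 zgi58) (kgi xgi3 ygi2 zgi20) (kgi xgi9 ygi21 zgi43) (kgi xgi6 ygi49 zgi61) (kgi xgi9 ygi17 zgi0) (kgi xgi6 ygi17 zgi42) (kgi xgi9 ygi21 zgi52) (kgi xgi3 ygi14 zgi13) (kgi xgi2 ygi20 zgi40) (kgi xgi3 ygi23 zgi21) (kgi xgi6 ygi23 zgi52) (kgi xgi9 ygi21 zgi58) (kgi xgi9 ygi21 zgi61) (kgi xgi4 ygi44 zgi20) (kgi xgi7 ygi38 zgi25) (kgi xgi4 ygi45 zgi7) (kgi xgi9 ygi16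 zgi9) (kgi xgi7 ygi39 zgi36) (kgi xgi4 ygi45 zgi1) (kgi xgi6 ygi17 zgi33) (kgi xgi2 ygi20 zgi32) (kgi xgi9 ygi16 zgi11) (kgi xgi5 ygi54 zgi14) (kgi xgi6 ygi14 zgi37) (kgi xgi9 ygi22 zgi17) (kgi xgi2 ygi20 zgi33) (kgi xgi2 ygi20 zgi38) (kgi xgi9 ygi22 zgi24) (kgi xgi9 ygi21 zgi28) (kgi xgi9 ygi22 zgi29) (kgi xgi2 ygi20 zgi37) (kgi xgi9 ygi16 zgi16) (kgi xgi9 ygi16 zgi14) (kgi xgi9 ygi22 zgi38) (kgi xgi7 ygi47 zgi26) (kgi xgi2 ygi21 zgi57)) (@D3.rec (fun _ => Pt) (kgi xgi9 ygi22 zgi44) (kgi xgi4 ygi44 zgi41) (kgi xgi6 ygi20 zgi46) (kgi xgi2 ygi20 zgi61) (kgi xgi4 ygi44 zgi13) (kgi xgi2 ygi20 zgi58) (kgi xgi6 ygi1 zgi50) (kgi xgi4 ygi44 zgi44) (kgi xgi9 ygi22 zgi57) (kgi xgi3 ygi20 zgi7) (kgi xgi9 ygi23 zgi0) (kgi xgi4 ygi40 zgi18) (kgi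 xgi9 ygi22 zgi51) (kgi xgi9 ygi23 zgi6) (kgi xgi3 ygi5 zgi56) (kgi xgi3 ygi20 zgi2) (kgi xgi2 ygi20 zgi46) (kgi xgi2 ygi56 zgi2) (kgi xgi9 ygi21 zgi42) (kgi xgi9 ygi23 zgi22) (kgi xgi9 ygi23 zgi25) (kgi xgi8 ygi29 zgi32) (kgi xgi2 ygi20 zgi48) (kgi xgi2 ygi21 zgi27) (kgi xgi9 ygi23 zgi36) (kgi xgi2 ygi21 zgi24) (kgi xgi6 ygi47 zgi13) (kgi xgi3 ygi19 zgi25) (kgi xgi9 ygi23 zgi43) (kgi xgi6 ygi21 zgi51) (kgi xgi2 ygi20 zgi52) (kgi xgi3 ygi21 zgi61) (kgi xgi3 ygi43 zgi14) (kgi xgi6 ygi32 zgi21) (kgi xgi9 ygi23 zgi49) (kgi xgi3 ygi19 zgi44) (kgi xgi9 ygi23 zgi53) (kgi xgi2 ygi21 zgi32) (kgi xgi2 ygi20 zgi55) (kgi xgi9 ygi22 zgi54) (kgi xgi6 ygi14 zgi40) (kgi xgi9 ygi8 zgi10) (kgi xgi9 ygi24 zgi1) (kgi xgi2 ygi20 zgi56) (kgi xgi2 ygi21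 zgi3) (kgi xgi5 ygi26 zgi25) (kgi xgi2 ygi20 zgi57) (kgi xgi9 ygi22 zgi50) (kgi xgi6 ygi33 zgi30) (kgi xgi9 ygi22 zgi49) (kgi xgi2 ygi21 zgi10) (kgi xgi9 ygi21 zgi16) (kgi xgi3 ygi21 zgi41) (kgi xgi9 ygi23 zgi4) (kgi xgi6 ygi17 zgi47) (kgi xgi2 ygi21 zgi53) (kgi xgi2 ygi20 zgi60) (kgi xgi9 ygi24 zgi24) (kgi xgi3 ygi19 zgi34) (kgi xgi9 ygi24 zgi29) (kgi xgi3 ygi13 zgi22) (kgi xgi2 ygi21 zgi2)) (@D3.rec (fun _ => Pt) (kgi xgi9 ygi22 zgi45) (kgi xgi9 ygi22 zgi43) (kgi xgi9 ygi3 zgi50) (kgi xgi9 ygi24 zgi42) (kgi xgi5 ygi16 zgi2) (kgi xgi2 ygi21 zgi4) (kgi xgi9 ygi20 zgi51) (kgi xgi9 ygi24 zgi49) (kgi xgi3 ygi19 zgi48) (kgi xgi9 ygi20 zgi49) (kgi xgi9 ygi20 zgi53) (kgi xgi2 ygi21 zgi6) (kgi xgi9 ygi20 zgi52) (kgi xgi9 ygi24 zgi59) (kgi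 xgi9 ygi22 zgi59) (kgi xgi2 ygi21 zgi8) (kgi xgi9 ygi23 zgi7) (kgi xgi9 ygi23 zgi5) (kgi xgi9 ygi25 zgi13) (kgi xgi5 ygi45 zgi27) (kgi xgi9 ygi25 zgi20) (kgi xgi8 ygi28 zgi53) (kgi xgi6 ygi33 zgi14) (kgi xgi3 ygi19 zgi23) (kgi xgi2 ygi21 zgi11) (kgi xgi9 ygi23 zgi1) (kgi xgi9 ygi22 zgi61) (kgi xgi9 ygi25 zgi33) (kgi xgi9 ygi25 zgi36) (kgi xgi7 ygi44 zgi0) (kgi xgi5 ygi15 zgi55) (kgi xgi9 ygi25 zgi42) (kgi xgi3 ygi14 zgi44) (kgi xgi9 ygi25 zgi45) (kgi xgi2 ygi51 zgi18) (kgi xgi4 ygi40 zgi37) (kgi xgi7 ygi43 zgi24) (kgi xgi9 ygi25 zgi2) (kgi xgi5 ygi58 zgi5) (kgi xgi7 ygi43 zgi7) (kgi xgi2 ygi56 zgi38) (kgi xgi9 ygi26 zgi0) (kgi xgi2 ygi21 zgi17) (kgi xgi2 ygi56 zgi3) (kgi xgi9 ygi26 zgi6) (kgi xgi9 ygi26 zgi10) (kgi xgi2 ygi21 zgi18)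 (kgi xgi9 ygi26 zgi2) (kgi xgi9 ygi26 zgi20) (kgi xgi9 ygi25 zgi61) (kgi xgi9 ygi25 zgi8) (kgi xgi9 ygi26 zgi27) (kgi xgi9 ygi25 zgi30) (kgi xgi9 ygi26 zgi32) (kgi xgi9 ygi26 zgi35) (kgi xgi9 ygi26 zgi38) (kgi xgi2 ygi21 zgi22) (kgi xgi9 ygi23 zgi30) (kgi xgi9 ygi26 zgi49) (kgi xgi9 ygi23 zgi28) (kgi xgi9 ygi26 zgi54) (kgi xgi9 ygi25 zgi9)) (@D3.rec (fun _ => Pt) (kgi xgi3 ygi7 zgi33) (kgi xgi9 ygi26 zgi60) (kgi xgi3 ygi14 zgi38) (kgi xgi9 ygi27 zgi2) (kgi xgi9 ygi26 zgi59) (kgi xgi6 ygi33 zgi28) (kgi xgi9 ygi24 zgi16) (kgi xgi2 ygi21 zgi26) (kgi xgi9 ygi23 zgi38) (kgi xgi9 ygi27 zgi19) (kgi xgi9 ygi23 zgi35) (kgi xgi9 ygi21 zgi45) (kgi xgi2 ygi21 zgi28) (kgi xgi3 ygi19 zgi55) (kgi xgi9 ygi27 zgi30) (kgi xgi3 ygi23 zgi7) (kgi xgi2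 ygi21 zgi30) (kgi xgi9 ygi23 zgi59) (kgi xgi8 ygi56 zgi38) (kgi xgi3 ygi19 zgi47) (kgi xgi9 ygi27 zgi41) (kgi xgi6 ygi33 zgi32) (kgi xgi9 ygi24 zgi10) (kgi xgi9 ygi21 zgi47) (kgi xgi2 ygi22 zgi4) (kgi xgi3 ygi19 zgi51) (kgi xgi3 ygi19 zgi57) (kgi xgi2 ygi21 zgi50) (kgi xgi2 ygi21 zgi36) (kgi xgi3 ygi19 zgi56) (kgi xgi9 ygi28 zgi1) (kgi xgi4 ygi43 zgi24) (kgi xgi9 ygi28 zgi5) (kgi xgi6 ygi20 zgi54) (kgi xgi6 ygi20 zgi55) (kgi xgi8 ygi33 zgi31) (kgi xgi4 ygi43 zgi1) (kgi xgi9 ygi15 zgi47) (kgi xgi8 ygi35 zgi12) (kgi xgi2 ygi21 zgi43) (kgi xgi6 ygi17 zgi24) (kgi xgi9 ygi28 zgi21) (kgi xgi9 ygi28 zgi25) (kgi xgi9 ygi28 zgi29) (kgi xgi9 ygi24 zgi13) (kgi xgi2 ygi21 zgi45) (kgi xgi3 ygi5 zgi60) (kgi xgi3 ygi46 zgi38) (kgi xgi3 ygi21 zgi40)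 (kgi xgi3 ygi48 zgi6) (kgi xgi2 ygi21 zgi49) (kgi xgi9 ygi27 zgi54) (kgi xgi9 ygi28 zgi41) (kgi xgi6 ygi20 zgi38) (kgi xgi6 ygi59 zgi0) (kgi xgi6 ygi17 zgi34) (kgi xgi3 ygi16 zgi37) (kgi xgi9 ygi27 zgi27) (kgi xgi6 ygi17 zgi32) (kgi xgi2 ygi21 zgi52) (kgi xgi9 ygi27 zgi57) (kgi xgi9 ygi28 zgi53)) (@D3.rec (fun _ => Pt) (kgi xgi6 ygi43 zgi40) (kgi xgi3 ygi16 zgi9) (kgi xgi9 ygi28 zgi58) (kgi xgi2 ygi21 zgi56) (kgi xgi9 ygi18 zgi32) (kgi xgi9 ygi18 zgi31) (kgi xgi2 ygi22 zgi58) (kgi xgi3 ygi3 zgi7) (kgi xgi3 ygi16 zgi1) (kgi xgi9 ygi29 zgi4) (kgi xgi6 ygi22 zgi8) (kgi xgi3 ygi19 zgi36) (kgi xgi7 ygi36 zgi11) (kgi xgi9 ygi29 zgi11) (kgi xgi2 ygi22 zgi7) (kgi xgi6 ygi32 zgi22) (kgi xgi9 ygi29 zgi17) (kgi xgi2 ygi22 zgi3) (kgi xgi9 ygi27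 zgi50) (kgi xgi9 ygi29 zgi23) (kgi xgi3 ygi23 zgi46) (kgi xgi6 ygi50 zgi55) (kgi xgi9 ygi29 zgi27) (kgi xgi6 ygi50 zgi52) (kgi xgi9 ygi27 zgi58) (kgi xgi2 ygi22 zgi6) (kgi xgi9 ygi27 zgi51) (kgi xgi9 ygi29 zgi35) (kgi xgi9 ygi29 zgi14) (kgi xgi2 ygi22 zgi8) (kgi xgi2 ygi22 zgi10) (kgi xgi9 ygi20 zgi15) (kgi xgi3 ygi17 zgi40) (kgi xgi9 ygi29 zgi42) (kgi xgi9 ygi20 zgi14) (kgi xgi3 ygi22 zgi2) (kgi xgi3 ygi17 zgi26) (kgi xgi3 ygi3 zgi9) (kgi xgi9 ygi29 zgi48) (kgi xgi6 ygi27 zgi1) (kgi xgi3 ygi20 zgi9) (kgi xgi3 ygi19 zgi30) (kgi xgi9 ygi13 zgi40) (kgi xgi2 ygi22 zgi16) (kgi xgi2 ygi22 zgi19) (kgi xgi9 ygi29 zgi61) (kgi xgi5 ygi58 zgi14) (kgi xgi9 ygi30 zgi4) (kgi xgi2 ygi22 zgi17) (kgi xgi2 ygi56 zgi26) (kgi xgi2 ygi55 zgi43) (kgi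 xgi3 ygi29 zgi60) (kgi xgi9 ygi30 zgi13) (kgi xgi9 ygi21 zgi55) (kgi xgi5 ygi58 zgi12) (kgi xgi6 ygi54 zgi6) (kgi xgi2 ygi56 zgi19) (kgi xgi9 ygi30 zgi23) (kgi xgi2 ygi56 zgi16) (kgi xgi2 ygi22 zgi21) (kgi xgi2 ygi22 zgi25) (kgi xgi9 ygi30 zgi34)) (@D3.rec (fun _ => Pt) (kgi xgi2 ygi22 zgi22) (kgi xgi5 ygi27 zgi2) (kgi xgi9 ygi29 zgi60) (kgi xgi9 ygi30 zgi45) (kgi xgi6 ygi46 zgi47) (kgi xgi9 ygi30 zgi50) (kgi xgi9 ygi30 zgi41) (kgi xgi9 ygi30 zgi44) (kgi xgi9 ygi30 zgi8) (kgi xgi2 ygi22 zgi24) (kgi xgi9 ygi30 zgi36) (kgi xgi9 ygi31 zgi7) (kgi xgi9 ygi30 zgi33) (kgi xgi2 ygi22 zgi26) (kgi xgi2 ygi53 zgi8) (kgi xgi9 ygi13 zgi21) (kgi xgi9 ygi31 zgi17) (kgi xgi2 ygi22 zgi27) (kgi xgi2 ygi22 zgi30) (kgi xgi6 ygi46 zgi39) (kgi xgi9 ygi31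 zgi27) (kgi xgi3 ygi20 zgi43) (kgi xgi3 ygi20 zgi42) (kgi xgi9 ygi31 zgi32) (kgi xgi6 ygi7 zgi18) (kgi xgi9 ygi31 zgi37) (kgi xgi6 ygi46 zgi36) (kgi xgi9 ygi1 zgi12) (kgi xgi3 ygi20 zgi60) (kgi xgi5 ygi27 zgi10) (kgi xgi5 ygi0 zgi23) (kgi xgi2 ygi53 zgi61) (kgi xgi9 ygi31 zgi45) (kgi xgi5 ygi26 zgi55) (kgi xgi6 ygi46 zgi30) (kgi xgi9 ygi31 zgi51) (kgi xgi2 ygi22 zgi34) (kgi xgi3 ygi21 zgi11) (kgi xgi9 ygi31 zgi55) (kgi xgi9 ygi17 zgi28) (kgi xgi3 ygi21 zgi7) (kgi xgi9 ygi5 zgi21) (kgi xgi9 ygi20 zgi61) (kgi xgi2 ygi22 zgi37) (kgi xgi6 ygi53 zgi17) (kgi xgi9 ygi32 zgi6) (kgi xgi9 ygi32 zgi8) (kgi xgi3 ygi24 zgi7) (kgi xgi2 ygi22 zgi39) (kgi xgi2 ygi50 zgi10) (kgi xgi9 ygi32 zgi15) (kgi xgi2 ygi22 zgi40) (kgi xgi2 ygi22 zgi47) (kgi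 xgi9 ygi31 zgi23) (kgi xgi9 ygi32 zgi24) (kgi xgi5 ygi48 zgi33) (kgi xgi2 ygi52 zgi8) (kgi xgi2 ygi30 zgi48) (kgi xgi3 ygi21 zgi16) (kgi xgi3 ygi19 zgi15) (kgi xgi9 ygi20 zgi37) (kgi xgi2 ygi39 zgi41)) (@D3.rec (fun _ => Pt) (kgi xgi9 ygi6 zgi4) (kgi xgi9 ygi31 zgi21) (kgi xgi5 ygi30 zgi46) (kgi xgi3 ygi22 zgi9) (kgi xgi2 ygi22 zgi53) (kgi xgi6 ygi26 zgi6) (kgi xgi9 ygi29 zgi0) (kgi xgi4 ygi43 zgi30) (kgi xgi6 ygi32 zgi28) (kgi xgi6 ygi21 zgi48) (kgi xgi3 ygi14 zgi45) (kgi xgi3 ygi9 zgi18) (kgi xgi9 ygi32 zgi47) (kgi xgi7 ygi26 zgi56) (kgi xgi6 ygi21 zgi21) (kgi xgi2 ygi22 zgi56) (kgi xgi3 ygi21 zgi58) (kgi xgi9 ygi32 zgi55) (kgi xgi5 ygi3 zgi56) (kgi xgi9 ygi32 zgi60) (kgi xgi6 ygi28 zgi6) (kgi xgi3 ygi20 zgi14) (kgi xgi6 ygi26 zgi10)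 (kgi xgi9 ygi33 zgi4) (kgi xgi8 ygi35 zgi18) (kgi xgi2 ygi22 zgi61) (kgi xgi3 ygi22 zgi29) (kgi xgi2 ygi23 zgi0) (kgi xgi6 ygi18 zgi1) (kgi xgi6 ygi17 zgi61) (kgi xgi2 ygi23 zgi40) (kgi xgi5 ygi36 zgi8) (kgi xgi4 ygi19 zgi51) (kgi xgi8 ygi24 zgi45) (kgi xgi2 ygi23 zgi4) (kgi xgi5 ygi9 zgi26) (kgi xgi4 ygi27 zgi59) (kgi xgi4 ygi6 zgi32) (kgi xgi6 ygi6 zgi57) (kgi xgi2 ygi45 zgi25) (kgi xgi9 ygi33 zgi26) (kgi xgi2 ygi23 zgi9) (kgi xgi4 ygi14 zgi25) (kgi xgi9 ygi33 zgi35) (kgi xgi9 ygi33 zgi40) (kgi xgi4 ygi3 zgi8) (kgi xgi4 ygi14 zgi53) (kgi xgi4 ygi13 zgi0) (kgi xgi5 ygi28 zgi14) (kgi xgi8 ygi32 zgi57) (kgi xgi8 ygi36 zgi39) (kgi xgi9 ygi33 zgi44) (kgi xgi4 ygi12 zgi43) (kgi xgi4 ygi6 zgi8) (kgi xgi3 ygi56 zgi54) (kgi xgi9 ygi33 zgi55)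 (kgi xgi4 ygi21 zgi27) (kgi xgi4 ygi53 zgi36) (kgi xgi9 ygi33 zgi61) (kgi xgi8 ygi40 zgi15) (kgi xgi2 ygi23 zgi43) (kgi xgi4 ygi53 zgi17)) (@D3.rec (fun _ => Pt) (kgi xgi4 ygi55 zgi3) (kgi xgi8 ygi29 zgi35) (kgi xgi9 ygi34 zgi8) (kgi xgi2 ygi34 zgi39) (kgi xgi2 ygi23 zgi22) (kgi xgi4 ygi18 zgi60) (kgi xgi8 ygi33 zgi18) (kgi xgi2 ygi58 zgi34) (kgi xgi4 ygi51 zgi5) (kgi xgi9 ygi34 zgi19) (kgi xgi2 ygi23 zgi25) (kgi xgi2 ygi23 zgi34) (kgi xgi9 ygi34 zgi28) (kgi xgi4 ygi21 zgi26) (kgi xgi9 ygi34 zgi35) (kgi xgi2 ygi23 zgi26) (kgi xgi5 ygi11 zgi8) (kgi xgi4 ygi12 zgi48) (kgi xgi8 ygi5 zgi46) (kgi xgi5 ygi29 zgi35) (kgi xgi2 ygi23 zgi30) (kgi xgi4 ygi10 zgi11) (kgi xgi8 ygi37 zgi10) (kgi xgi2 ygi23 zgi31) (kgi xgi4 ygi51 zgi8) (kgi xgi4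 ygi21 zgi30) (kgi xgi9 ygi34 zgi56) (kgi xgi9 ygi34 zgi32) (kgi xgi9 ygi35 zgi0) (kgi xgi8 ygi37 zgi37) (kgi xgi8 ygi37 zgi38) (kgi xgi9 ygi35 zgi4) (kgi xgi2 ygi23 zgi38) (kgi xgi9 ygi35 zgi9) (kgi xgi9 ygi35 zgi14) (kgi xgi9 ygi35 zgi17) (kgi xgi2 ygi23 zgi39) (kgi xgi8 ygi10 zgi13) (kgi xgi4 ygi53 zgi25) (kgi xgi5 ygi29 zgi30) (kgi xgi4 ygi9 zgi60) (kgi xgi9 ygi35 zgi29) (kgi xgi9 ygi35 zgi33) (kgi xgi9 ygi35 zgi13) (kgi xgi9 ygi35 zgi39) (kgi xgi2 ygi23 zgi42) (kgi xgi9 ygi33 zgi59) (kgi xgi8 ygi42 zgi46) (kgi xgi9 ygi33 zgi58) (kgi xgi9 ygi35 zgi47) (kgi xgi8 ygi24 zgi47) (kgi xgi9 ygi35 zgi22) (kgi xgi9 ygi35 zgi56) (kgi xgi9 ygi35 zgi51) (kgi xgi9 ygi35 zgi43) (kgi xgi2 ygi23 zgi45) (kgi xgi9 ygi36 zgi1) (kgi xgi9 ygi36 zgi5)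 (kgi xgi9 ygi36 zgi10) (kgi xgi8 ygi35 zgi34) (kgi xgi2 ygi23 zgi46) (kgi xgi4 ygi52 zgi0)) (@D3.rec (fun _ => Pt) (kgi xgi4 ygi51 zgi60) (kgi xgi9 ygi36 zgi22) (kgi xgi8 ygi17 zgi3) (kgi xgi8 ygi42 zgi27) (kgi xgi2 ygi23 zgi48) (kgi xgi4 ygi0 zgi21) (kgi xgi4 ygi21 zgi3) (kgi xgi9 ygi36 zgi37) (kgi xgi2 ygi23 zgi50) (kgi xgi4 ygi53 zgi29) (kgi xgi8 ygi25 zgi28) (kgi xgi9 ygi36 zgi44) (kgi xgi2 ygi23 zgi51) (kgi xgi9 ygi36 zgi38) (kgi xgi9 ygi36 zgi36) (kgi xgi4 ygi0 zgi15) (kgi xgi5 ygi39 zgi50) (kgi xgi4 ygi56 zgi8) (kgi xgi4 ygi53 zgi46) (kgi xgi4 ygi21 zgi16) (kgi xgi9 ygi36 zgi49) (kgi xgi4 ygi21 zgi13) (kgi xgi8 ygi24 zgi27) (kgi xgi9 ygi37 zgi3) (kgi xgi2 ygi23 zgi57) (kgi xgi9 ygi36 zgi60) (kgi xgi9 ygi36 zgi59) (kgi xgi8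 ygi11 zgi57) (kgi xgi4 ygi53 zgi2) (kgi xgi2 ygi23 zgi61) (kgi xgi2 ygi24 zgi1) (kgi xgi6 ygi48 zgi32) (kgi xgi9 ygi37 zgi13) (kgi xgi2 ygi45 zgi55) (kgi xgi3 ygi19 zgi19) (kgi xgi2 ygi24 zgi3) (kgi xgi9 ygi37 zgi12) (kgi xgi2 ygi24 zgi38) (kgi xgi2 ygi24 zgi2) (kgi xgi2 ygi24 zgi40) (kgi xgi8 ygi23 zgi13) (kgi xgi9 ygi37 zgi27) (kgi xgi6 ygi47 zgi47) (kgi xgi4 ygi12 zgi57) (kgi xgi4 ygi19 zgi3) (kgi xgi4 ygi53 zgi35) (kgi xgi9 ygi37 zgi33) (kgi xgi8 ygi9 zgi54) (kgi xgi2 ygi24 zgi8) (kgi xgi4 ygi3 zgi33) (kgi xgi4 ygi3 zgi30) (kgi xgi2 ygi24 zgi11) (kgi xgi4 ygi3 zgi42) (kgi xgi4 ygi24 zgi10) (kgi xgi9 ygi37 zgi43) (kgi xgi2 ygi24 zgi18) (kgi xgi8 ygi1 zgi30) (kgi xgi4 ygi31 zgi30) (kgi xgi4 ygi52 zgi15) (kgi xgi4 ygi18 zgi36) (kgi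 xgi4 ygi16 zgi42) (kgi xgi9 ygi37 zgi56)) (@D3.rec (fun _ => Pt) (kgi xgi2 ygi24 zgi20) (kgi xgi8 ygi1 zgi33) (kgi xgi8 ygi1 zgi32) (kgi xgi9 ygi38 zgi0) (kgi xgi5 ygi39 zgi22) (kgi xgi9 ygi37 zgi48) (kgi xgi9 ygi38 zgi9) (kgi xgi8 ygi40 zgi36) (kgi xgi9 ygi37 zgi60) (kgi xgi2 ygi24 zgi23) (kgi xgi9 ygi37 zgi21) (kgi xgi9 ygi37 zgi24) (kgi xgi9 ygi38 zgi23) (kgi xgi2 ygi24 zgi24) (kgi xgi4 ygi0 zgi3) (kgi xgi9 ygi38 zgi31) (kgi xgi9 ygi38 zgi34) (kgi xgi2 ygi24 zgi26) (kgi xgi4 ygi50 zgi61) (kgi xgi9 ygi38 zgi43) (kgi xgi8 ygi37 zgi24) (kgi xgi9 ygi38 zgi46) (kgi xgi2 ygi24 zgi29) (kgi xgi9 ygi38 zgi44) (kgi xgi9 ygi38 zgi42) (kgi xgi4 ygi50 zgi55) (kgi xgi8 ygi11 zgi58) (kgi xgi7 ygi58 zgi52) (kgi xgi4 ygi52 zgi45) (kgi xgi4 ygi52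 zgi8) (kgi xgi6 ygi21 zgi1) (kgi xgi4 ygi52 zgi6) (kgi xgi5 ygi44 zgi15) (kgi xgi2 ygi24 zgi35) (kgi xgi6 ygi21 zgi3) (kgi xgi8 ygi14 zgi26) (kgi xgi4 ygi51 zgi48) (kgi xgi9 ygi28 zgi14) (kgi xgi9 ygi39 zgi7) (kgi xgi4 ygi12 zgi37) (kgi xgi7 ygi27 zgi7) (kgi xgi6 ygi48 zgi42) (kgi xgi9 ygi39 zgi6) (kgi xgi8 ygi21 zgi4) (kgi xgi4 ygi19 zgi23) (kgi xgi4 ygi12 zgi52) (kgi xgi4 ygi52 zgi27) (kgi xgi2 ygi38 zgi21) (kgi xgi4 ygi53 zgi55) (kgi xgi4 ygi53 zgi53) (kgi xgi4 ygi53 zgi51) (kgi xgi2 ygi24 zgi49) (kgi xgi4 ygi7 zgi9) (kgi xgi2 ygi24 zgi50) (kgi xgi4 ygi53 zgi49) (kgi xgi4 ygi7 zgi11) (kgi xgi5 ygi10 zgi3) (kgi xgi9 ygi39 zgi20) (kgi xgi2 ygi24 zgi53) (kgi xgi8 ygi26 zgi15) (kgi xgi4 ygi27 zgi24) (kgi xgi8 ygi15 zgi5)) (@D3.rec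 (fun _ => Pt) (kgi xgi5 ygi8 zgi43) (kgi xgi4 ygi19 zgi7) (kgi xgi2 ygi24 zgi56) (kgi xgi2 ygi34 zgi60) (kgi xgi4 ygi1 zgi46) (kgi xgi5 ygi10 zgi7) (kgi xgi8 ygi24 zgi40) (kgi xgi2 ygi36 zgi17) (kgi xgi9 ygi39 zgi43) (kgi xgi2 ygi24 zgi60) (kgi xgi4 ygi54 zgi28) (kgi xgi9 ygi39 zgi52) (kgi xgi9 ygi39 zgi57) (kgi xgi4 ygi54 zgi24) (kgi xgi5 ygi11 zgi54) (kgi xgi8 ygi3 zgi56) (kgi xgi2 ygi25 zgi19) (kgi xgi4 ygi54 zgi4) (kgi xgi2 ygi36 zgi39) (kgi xgi4 ygi54 zgi2) (kgi xgi5 ygi2 zgi9) (kgi xgi5 ygi2 zgi52) (kgi xgi5 ygi3 zgi17) (kgi xgi9 ygi40 zgi16) (kgi xgi2 ygi25 zgi6) (kgi xgi4 ygi54 zgi13) (kgi xgi9 ygi40 zgi25) (kgi xgi9 ygi40 zgi30) (kgi xgi4 ygi54 zgi9) (kgi xgi9 ygi40 zgi35) (kgi xgi5 ygi22 zgi34) (kgi xgi9 ygi0 zgi4) (kgi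 xgi5 ygi22 zgi32) (kgi xgi2 ygi45 zgi49) (kgi xgi5 ygi16 zgi55) (kgi xgi9 ygi40 zgi45) (kgi xgi5 ygi22 zgi26) (kgi xgi7 ygi58 zgi53) (kgi xgi2 ygi25 zgi42) (kgi xgi9 ygi40 zgi55) (kgi xgi9 ygi40 zgi59) (kgi xgi2 ygi25 zgi38) (kgi xgi8 ygi11 zgi51) (kgi xgi4 ygi14 zgi2) (kgi xgi8 ygi7 zgi14) (kgi xgi9 ygi41 zgi4) (kgi xgi5 ygi1 zgi19) (kgi xgi4 ygi12 zgi32) (kgi xgi2 ygi38 zgi60) (kgi xgi2 ygi25 zgi18) (kgi xgi2 ygi37 zgi58) (kgi xgi8 ygi9 zgi53) (kgi xgi4 ygi20 zgi22) (kgi xgi2 ygi31 zgi34) (kgi xgi2 ygi37 zgi51) (kgi xgi9 ygi41 zgi17) (kgi xgi2 ygi25 zgi21) (kgi xgi2 ygi25 zgi30) (kgi xgi9 ygi41 zgi26) (kgi xgi8 ygi2 zgi45) (kgi xgi9 ygi41 zgi33) (kgi xgi2 ygi25 zgi22)) (@D3.rec (fun _ => Pt) (kgi xgi5 ygi38 zgi39) (kgi xgi2 ygi44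 zgi18) (kgi xgi8 ygi39 zgi28) (kgi xgi4 ygi19 zgi30) (kgi xgi2 ygi34 zgi31) (kgi xgi2 ygi25 zgi26) (kgi xgi2 ygi40 zgi11) (kgi xgi8 ygi10 zgi15) (kgi xgi2 ygi25 zgi27) (kgi xgi2 ygi37 zgi56) (kgi xgi9 ygi41 zgi51) (kgi xgi9 ygi41 zgi54) (kgi xgi9 ygi41 zgi30) (kgi xgi9 ygi41 zgi60) (kgi xgi9 ygi1 zgi13) (kgi xgi9 ygi1 zgi14) (kgi xgi9 ygi42 zgi3) (kgi xgi2 ygi25 zgi33) (kgi xgi9 ygi42 zgi9) (kgi xgi9 ygi42 zgi13) (kgi xgi9 ygi42 zgi16) (kgi xgi2 ygi25 zgi34) (kgi xgi9 ygi40 zgi46) (kgi xgi5 ygi3 zgi0) (kgi xgi7 ygi58 zgi49) (kgi xgi2 ygi40 zgi5) (kgi xgi9 ygi42 zgi28) (kgi xgi9 ygi42 zgi31) (kgi xgi9 ygi42 zgi12) (kgi xgi9 ygi42 zgi37) (kgi xgi2 ygi25 zgi37) (kgi xgi9 ygi40 zgi50) (kgi xgi9 ygi42 zgi43) (kgi xgi9 ygi40 zgi49) (kgi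 xgi9 ygi42 zgi47) (kgi xgi5 ygi36 zgi13) (kgi xgi9 ygi42 zgi20) (kgi xgi9 ygi42 zgi57) (kgi xgi9 ygi42 zgi52) (kgi xgi9 ygi42 zgi42) (kgi xgi2 ygi25 zgi40) (kgi xgi9 ygi43 zgi2) (kgi xgi5 ygi3 zgi11) (kgi xgi9 ygi43 zgi9) (kgi xgi8 ygi58 zgi57) (kgi xgi2 ygi25 zgi41) (kgi xgi2 ygi39 zgi12) (kgi xgi2 ygi39 zgi10) (kgi xgi9 ygi43 zgi17) (kgi xgi5 ygi22 zgi20) (kgi xgi9 ygi43 zgi21) (kgi xgi2 ygi25 zgi43) (kgi xgi8 ygi10 zgi61) (kgi xgi2 ygi25 zgi44) (kgi xgi4 ygi14 zgi41) (kgi xgi5 ygi1 zgi29) (kgi xgi4 ygi14 zgi38) (kgi xgi7 ygi57 zgi42) (kgi xgi5 ygi10 zgi51) (kgi xgi5 ygi11 zgi7) (kgi xgi5 ygi3 zgi40) (kgi xgi5 ygi6 zgi21)) (@D3.rec (fun _ => Pt) (kgi xgi5 ygi35 zgi12) (kgi xgi9 ygi43 zgi44) (kgi xgi4 ygi14 zgi34) (kgi xgi5 ygi35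 zgi42) (kgi xgi9 ygi43 zgi50) (kgi xgi2 ygi25 zgi51) (kgi xgi9 ygi43 zgi45) (kgi xgi9 ygi43 zgi43) (kgi xgi4 ygi52 zgi16) (kgi xgi7 ygi58 zgi25) (kgi xgi2 ygi25 zgi55) (kgi xgi2 ygi25 zgi57) (kgi xgi9 ygi44 zgi2) (kgi xgi9 ygi31 zgi44) (kgi xgi5 ygi31 zgi50) (kgi xgi5 ygi31 zgi56) (kgi xgi2 ygi25 zgi59) (kgi xgi5 ygi31 zgi33) (kgi xgi9 ygi44 zgi5) (kgi xgi9 ygi44 zgi8) (kgi xgi9 ygi44 zgi20) (kgi xgi4 ygi29 zgi20) (kgi xgi3 ygi11 zgi21) (kgi xgi9 ygi44 zgi22) (kgi xgi2 ygi25 zgi60) (kgi xgi7 ygi59 zgi4) (kgi xgi5 ygi46 zgi11) (kgi xgi9 ygi44 zgi27) (kgi xgi2 ygi45 zgi22) (kgi xgi4 ygi30 zgi61) (kgi xgi8 ygi11 zgi59) (kgi xgi4 ygi20 zgi29) (kgi xgi5 ygi36 zgi60) (kgi xgi9 ygi44 zgi34) (kgi xgi2 ygi26 zgi4) (kgi xgi6 ygi14 zgi16) (kgi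 xgi9 ygi44 zgi36) (kgi xgi2 ygi52 zgi60) (kgi xgi4 ygi2 zgi15) (kgi xgi9 ygi44 zgi41) (kgi xgi2 ygi30 zgi14) (kgi xgi9 ygi44 zgi40) (kgi xgi6 ygi16 zgi27) (kgi xgi6 ygi16 zgi9) (kgi xgi4 ygi36 zgi24) (kgi xgi2 ygi26 zgi14) (kgi xgi9 ygi44 zgi50) (kgi xgi3 ygi57 zgi34) (kgi xgi9 ygi34 zgi26) (kgi xgi2 ygi26 zgi15) (kgi xgi4 ygi13 zgi20) (kgi xgi2 ygi26 zgi17) (kgi xgi4 ygi22 zgi31) (kgi xgi4 ygi22 zgi29) (kgi xgi5 ygi42 zgi41) (kgi xgi3 ygi57 zgi8) (kgi xgi9 ygi45 zgi2) (kgi xgi3 ygi0 zgi43) (kgi xgi5 ygi46 zgi28) (kgi xgi8 ygi36 zgi61) (kgi xgi9 ygi45 zgi8) (kgi xgi2 ygi26 zgi25)) (@D3.rec (fun _ => Pt) (kgi xgi4 ygi23 zgi6) (kgi xgi2 ygi26 zgi38) (kgi xgi2 ygi27 zgi48) (kgi xgi5 ygi37 zgi30) (kgi xgi8 ygi44 zgi21) (kgi xgi9 ygi45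 zgi15) (kgi xgi5 ygi42 zgi39) (kgi xgi2 ygi26 zgi30) (kgi xgi5 ygi39 zgi58) (kgi xgi2 ygi46 zgi22) (kgi xgi2 ygi26 zgi31) (kgi xgi9 ygi45 zgi25) (kgi xgi9 ygi1 zgi35) (kgi xgi2 ygi46 zgi14) (kgi xgi2 ygi30 zgi53) (kgi xgi2 ygi26 zgi33) (kgi xgi5 ygi41 zgi35) (kgi xgi2 ygi46 zgi43) (kgi xgi3 ygi4 zgi49) (kgi xgi2 ygi46 zgi40) (kgi xgi5 ygi47 zgi2) (kgi xgi6 ygi25 zgi31) (kgi xgi9 ygi45 zgi24) (kgi xgi9 ygi45 zgi43) (kgi xgi6 ygi25 zgi30) (kgi xgi5 ygi49 zgi3) (kgi xgi2 ygi26 zgi37) (kgi xgi2 ygi26 zgi42) (kgi xgi3 ygi44 zgi9) (kgi xgi9 ygi45 zgi50) (kgi xgi9 ygi45 zgi14) (kgi xgi7 ygi20 zgi31) (kgi xgi9 ygi0 zgi24) (kgi xgi9 ygi0 zgi10) (kgi xgi2 ygi26 zgi40) (kgi xgi9 ygi45 zgi60) (kgi xgi8 ygi32 zgi41) (kgi xgi9 ygi46 zgi6) (kgi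 xgi5 ygi44 zgi11) (kgi xgi2 ygi26 zgi41) (kgi xgi9 ygi45 zgi51) (kgi xgi9 ygi45 zgi49) (kgi xgi9 ygi46 zgi19) (kgi xgi2 ygi26 zgi43) (kgi xgi2 ygi26 zgi59) (kgi xgi9 ygi46 zgi24) (kgi xgi2 ygi26 zgi44) (kgi xgi7 ygi59 zgi0) (kgi xgi5 ygi48 zgi44) (kgi xgi9 ygi46 zgi32) (kgi xgi5 ygi14 zgi9) (kgi xgi4 ygi33 zgi45) (kgi xgi9 ygi0 zgi15) (kgi xgi2 ygi52 zgi40) (kgi xgi9 ygi46 zgi39) (kgi xgi9 ygi46 zgi40) (kgi xgi9 ygi0 zgi23) (kgi xgi7 ygi59 zgi51) (kgi xgi2 ygi26 zgi49) (kgi xgi7 ygi59 zgi50) (kgi xgi9 ygi46 zgi52) (kgi xgi4 ygi39 zgi21)) (@D3.rec (fun _ => Pt) (kgi xgi2 ygi26 zgi51) (kgi xgi4 ygi24 zgi57) (kgi xgi9 ygi47 zgi0) (kgi xgi4 ygi24 zgi54) (kgi xgi4 ygi0 zgi47) (kgi xgi4 ygi22 zgi37) (kgi xgi8 ygi3 zgi43) (kgi xgi2 ygi26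 zgi54) (kgi xgi4 ygi25 zgi2) (kgi xgi9 ygi47 zgi13) (kgi xgi4 ygi24 zgi61) (kgi xgi4 ygi56 zgi37) (kgi xgi4 ygi1 zgi27) (kgi xgi2 ygi27 zgi39) (kgi xgi9 ygi32 zgi7) (kgi xgi9 ygi46 zgi23) (kgi xgi2 ygi52 zgi20) (kgi xgi2 ygi30 zgi61) (kgi xgi5 ygi57 zgi55) (kgi xgi6 ygi30 zgi38) (kgi xgi5 ygi14 zgi37) (kgi xgi3 ygi17 zgi42) (kgi xgi5 ygi47 zgi55) (kgi xgi9 ygi47 zgi27) (kgi xgi2 ygi27 zgi3) (kgi xgi8 ygi49 zgi4) (kgi xgi9 ygi47 zgi34) (kgi xgi8 ygi49 zgi2) (kgi xgi2 ygi56 zgi31) (kgi xgi5 ygi47 zgi44) (kgi xgi9 ygi47 zgi31) (kgi xgi2 ygi27 zgi6) (kgi xgi2 ygi52 zgi23) (kgi xgi2 ygi27 zgi7) (kgi xgi2 ygi59 zgi43) (kgi xgi2 ygi55 zgi20) (kgi xgi9 ygi47 zgi43) (kgi xgi2 ygi27 zgi10) (kgi xgi2 ygi27 zgi24) (kgi xgi5 ygi56 zgi45) (kgi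 xgi9 ygi47 zgi53) (kgi xgi5 ygi14 zgi46) (kgi xgi5 ygi50 zgi40) (kgi xgi2 ygi27 zgi11) (kgi xgi5 ygi14 zgi49) (kgi xgi2 ygi52 zgi10) (kgi xgi2 ygi52 zgi39) (kgi xgi5 ygi14 zgi14) (kgi xgi2 ygi27 zgi14) (kgi xgi3 ygi0 zgi15) (kgi xgi2 ygi31 zgi17) (kgi xgi2 ygi52 zgi52) (kgi xgi2 ygi27 zgi36) (kgi xgi5 ygi49 zgi59) (kgi xgi4 ygi42 zgi48) (kgi xgi9 ygi8 zgi18) (kgi xgi2 ygi27 zgi20) (kgi xgi2 ygi53 zgi37) (kgi xgi9 ygi48 zgi16) (kgi xgi5 ygi49 zgi19) (kgi xgi9 ygi48 zgi22) (kgi xgi9 ygi48 zgi24)) (@D3.rec (fun _ => Pt) (kgi xgi5 ygi55 zgi11) (kgi xgi9 ygi47 zgi52) (kgi xgi9 ygi48 zgi31) (kgi xgi6 ygi30 zgi2) (kgi xgi9 ygi48 zgi37) (kgi xgi6 ygi30 zgi3) (kgi xgi9 ygi6 zgi56) (kgi xgi9 ygi6 zgi54) (kgi xgi9 ygi48 zgi44) (kgi xgi9 ygi7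 zgi0) (kgi xgi2 ygi51 zgi15) (kgi xgi5 ygi57 zgi51) (kgi xgi6 ygi26 zgi56) (kgi xgi5 ygi57 zgi49) (kgi xgi2 ygi51 zgi28) (kgi xgi2 ygi27 zgi43) (kgi xgi9 ygi48 zgi56) (kgi xgi9 ygi48 zgi58) (kgi xgi2 ygi27 zgi32) (kgi xgi2 ygi27 zgi46) (kgi xgi2 ygi27 zgi44) (kgi xgi9 ygi49 zgi4) (kgi xgi2 ygi27 zgi34) (kgi xgi2 ygi27 zgi37) (kgi xgi6 ygi2 zgi21) (kgi xgi9 ygi49 zgi14) (kgi xgi9 ygi49 zgi17) (kgi xgi2 ygi27 zgi35) (kgi xgi5 ygi32 zgi44) (kgi xgi2 ygi50 zgi27) (kgi xgi5 ygi54 zgi3) (kgi xgi2 ygi53 zgi7) (kgi xgi9 ygi6 zgi5) (kgi xgi6 ygi25 zgi59) (kgi xgi9 ygi49 zgi13) (kgi xgi9 ygi49 zgi35) (kgi xgi6 ygi21 zgi36) (kgi xgi9 ygi49 zgi39) (kgi xgi6 ygi21 zgi37) (kgi xgi9 ygi49 zgi42) (kgi xgi5 ygi51 zgi34) (kgi xgi6 ygi26 zgi48) (kgi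 xgi9 ygi49 zgi50) (kgi xgi6 ygi8 zgi37) (kgi xgi9 ygi49 zgi38) (kgi xgi2 ygi27 zgi41) (kgi xgi2 ygi56 zgi40) (kgi xgi9 ygi49 zgi61) (kgi xgi5 ygi57 zgi39) (kgi xgi2 ygi27 zgi42) (kgi xgi9 ygi48 zgi60) (kgi xgi9 ygi50 zgi9) (kgi xgi6 ygi1 zgi2) (kgi xgi9 ygi50 zgi13) (kgi xgi9 ygi47 zgi24) (kgi xgi9 ygi49 zgi10) (kgi xgi9 ygi50 zgi23) (kgi xgi9 ygi50 zgi24) (kgi xgi6 ygi1 zgi56) (kgi xgi9 ygi50 zgi18) (kgi xgi9 ygi50 zgi22) (kgi xgi6 ygi25 zgi56))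
def fi_g_5 : D2 → D3 → Pt := @D2.rec (fun _ => D3 → Pt) (@D3.rec (fun _ => Pt) (kgi xgi2 ygi27 zgi47) (kgi xgi9 ygi32 zgi9) (kgi xgi9 ygi50 zgi39) (kgi xgi5 ygi56 zgi21) (kgi xgi9 ygi14 zgi40) (kgi xgi2 ygi27 zgi49) (kgi xgi9 ygi45 zgi12) (kgi xgi9 ygi50 zgi49) (kgi xgi2 ygi27 zgi50) (kgi xgi2 ygi51 zgi17) (kgi xgi5 ygi38 zgi50) (kgi xgi9 ygi50 zgi56) (kgi xgi6 ygi8 zgi61) (kgi xgi2 ygi27 zgi51) (kgi xgi2 ygi27 zgi54) (kgi xgi6 ygi22 zgi5) (kgi xgi2 ygi51 zgi30) (kgi xgi8 ygi0 zgi52) (kgi xgi8 ygi0 zgi51) (kgi xgi9 ygi51 zgi1) (kgi xgi9 ygi13 zgi59) (kgi xgi2 ygi46 zgi17) (kgi xgi3 ygi21 zgi24) (kgi xgi4 ygi49 zgi34) (kgi xgi9 ygi51 zgi9) (kgi xgi9 ygi1 zgi40) (kgi xgi4 ygi56 zgi15) (kgi xgi9 ygi51 zgi16) (kgi xgi2 ygi57 zgi59) (kgi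 xgi2 ygi27 zgi59) (kgi xgi3 ygi4 zgi28) (kgi xgi3 ygi5 zgi22) (kgi xgi8 ygi46 zgi1) (kgi xgi8 ygi43 zgi6) (kgi xgi9 ygi0 zgi28) (kgi xgi2 ygi28 zgi3) (kgi xgi4 ygi8 zgi31) (kgi xgi2 ygi28 zgi4) (kgi xgi4 ygi31 zgi16) (kgi xgi9 ygi51 zgi36) (kgi xgi9 ygi51 zgi40) (kgi xgi4 ygi27 zgi34) (kgi xgi2 ygi28 zgi6) (kgi xgi9 ygi51 zgi47) (kgi xgi5 ygi23 zgi28) (kgi xgi2 ygi28 zgi8) (kgi xgi9 ygi51 zgi53) (kgi xgi8 ygi6 zgi48) (kgi xgi4 ygi55 zgi55) (kgi xgi2 ygi36 zgi32) (kgi xgi9 ygi52 zgi0) (kgi xgi2 ygi28 zgi10) (kgi xgi2 ygi28 zgi38) (kgi xgi9 ygi52 zgi9) (kgi xgi9 ygi52 zgi14) (kgi xgi2 ygi28 zgi34) (kgi xgi5 ygi9 zgi24) (kgi xgi8 ygi13 zgi28) (kgi xgi2 ygi28 zgi13) (kgi xgi4 ygi7 zgi53) (kgi xgi9 ygi52 zgi20) (kgi xgi9 ygi52 zgi25))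 (@D3.rec (fun _ => Pt) (kgi xgi2 ygi28 zgi23) (kgi xgi5 ygi1 zgi5) (kgi xgi8 ygi40 zgi48) (kgi xgi5 ygi1 zgi1) (kgi xgi9 ygi52 zgi34) (kgi xgi5 ygi1 zgi21) (kgi xgi5 ygi8 zgi54) (kgi xgi2 ygi28 zgi19) (kgi xgi2 ygi28 zgi25) (kgi xgi9 ygi52 zgi46) (kgi xgi8 ygi5 zgi45) (kgi xgi9 ygi52 zgi52) (kgi xgi2 ygi28 zgi20) (kgi xgi9 ygi35 zgi45) (kgi xgi5 ygi9 zgi61) (kgi xgi2 ygi28 zgi21) (kgi xgi4 ygi5 zgi9) (kgi xgi5 ygi5 zgi18) (kgi xgi9 ygi52 zgi60) (kgi xgi2 ygi28 zgi22) (kgi xgi4 ygi6 zgi17) (kgi xgi5 ygi1 zgi3) (kgi xgi8 ygi2 zgi58) (kgi xgi4 ygi0 zgi61) (kgi xgi9 ygi53 zgi5) (kgi xgi9 ygi52 zgi50) (kgi xgi8 ygi8 zgi31) (kgi xgi2 ygi28 zgi26) (kgi xgi9 ygi53 zgi14) (kgi xgi8 ygi28 zgi9) (kgi xgi4 ygi2 zgi59) (kgi xgi2 ygi35 zgi18) (kgi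 xgi9 ygi53 zgi21) (kgi xgi2 ygi28 zgi29) (kgi xgi9 ygi53 zgi26) (kgi xgi9 ygi53 zgi31) (kgi xgi9 ygi53 zgi34) (kgi xgi2 ygi28 zgi30) (kgi xgi9 ygi52 zgi1) (kgi xgi5 ygi10 zgi47) (kgi xgi9 ygi53 zgi43) (kgi xgi9 ygi53 zgi46) (kgi xgi9 ygi53 zgi30) (kgi xgi9 ygi53 zgi52) (kgi xgi2 ygi28 zgi33) (kgi xgi9 ygi34 zgi41) (kgi xgi9 ygi34 zgi39) (kgi xgi9 ygi53 zgi59) (kgi xgi9 ygi54 zgi3) (kgi xgi9 ygi53 zgi39) (kgi xgi9 ygi54 zgi8) (kgi xgi9 ygi54 zgi2) (kgi xgi9 ygi53 zgi57) (kgi xgi2 ygi28 zgi36) (kgi xgi9 ygi54 zgi15) (kgi xgi9 ygi54 zgi21) (kgi xgi9 ygi54 zgi28) (kgi xgi9 ygi54 zgi16) (kgi xgi2 ygi28 zgi37) (kgi xgi5 ygi1 zgi60) (kgi xgi5 ygi1 zgi58) (kgi xgi9 ygi54 zgi40)) (@D3.rec (fun _ => Pt) (kgi xgi9 ygi52 zgi13) (kgi xgi9 ygi54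 zgi44) (kgi xgi2 ygi28 zgi39) (kgi xgi4 ygi1 zgi57) (kgi xgi5 ygi19 zgi8) (kgi xgi9 ygi54 zgi55) (kgi xgi2 ygi58 zgi59) (kgi xgi5 ygi17 zgi39) (kgi xgi9 ygi54 zgi61) (kgi xgi2 ygi28 zgi42) (kgi xgi4 ygi54 zgi20) (kgi xgi9 ygi55 zgi8) (kgi xgi5 ygi19 zgi6) (kgi xgi9 ygi55 zgi14) (kgi xgi2 ygi28 zgi43) (kgi xgi9 ygi39 zgi38) (kgi xgi8 ygi24 zgi43) (kgi xgi4 ygi1 zgi60) (kgi xgi9 ygi55 zgi26) (kgi xgi9 ygi55 zgi28) (kgi xgi2 ygi32 zgi39) (kgi xgi9 ygi55 zgi34) (kgi xgi2 ygi28 zgi46) (kgi xgi5 ygi9 zgi52) (kgi xgi5 ygi9 zgi50) (kgi xgi9 ygi55 zgi41) (kgi xgi2 ygi32 zgi36) (kgi xgi5 ygi13 zgi21) (kgi xgi9 ygi55 zgi47) (kgi xgi2 ygi32 zgi30) (kgi xgi9 ygi55 zgi39) (kgi xgi9 ygi55 zgi56) (kgi xgi2 ygi32 zgi22) (kgi xgi2 ygi28 zgi51) (kgi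 xgi5 ygi10 zgi18) (kgi xgi5 ygi10 zgi16) (kgi xgi9 ygi56 zgi9) (kgi xgi9 ygi56 zgi12) (kgi xgi9 ygi56 zgi14) (kgi xgi2 ygi28 zgi53) (kgi xgi5 ygi9 zgi60) (kgi xgi5 ygi5 zgi47) (kgi xgi4 ygi1 zgi42) (kgi xgi2 ygi30 zgi5) (kgi xgi5 ygi12 zgi21) (kgi xgi5 ygi4 zgi48) (kgi xgi7 ygi57 zgi31) (kgi xgi9 ygi40 zgi0) (kgi xgi5 ygi9 zgi38) (kgi xgi4 ygi55 zgi23) (kgi xgi4 ygi54 zgi15) (kgi xgi8 ygi51 zgi61) (kgi xgi5 ygi10 zgi14) (kgi xgi8 ygi51 zgi60) (kgi xgi9 ygi56 zgi35) (kgi xgi2 ygi29 zgi0) (kgi xgi5 ygi9 zgi29) (kgi xgi9 ygi56 zgi44) (kgi xgi5 ygi22 zgi11) (kgi xgi9 ygi55 zgi6) (kgi xgi2 ygi29 zgi1) (kgi xgi9 ygi56 zgi55)) (@D3.rec (fun _ => Pt) (kgi xgi9 ygi55 zgi0) (kgi xgi4 ygi54 zgi16) (kgi xgi5 ygi17 zgi18) (kgi xgi5 ygi21 zgi26)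 (kgi xgi2 ygi29 zgi5) (kgi xgi5 ygi9 zgi56) (kgi xgi5 ygi9 zgi54) (kgi xgi9 ygi57 zgi7) (kgi xgi9 ygi56 zgi6) (kgi xgi9 ygi57 zgi14) (kgi xgi2 ygi29 zgi7) (kgi xgi4 ygi55 zgi44) (kgi xgi5 ygi6 zgi23) (kgi xgi2 ygi30 zgi26) (kgi xgi2 ygi29 zgi9) (kgi xgi2 ygi45 zgi48) (kgi xgi5 ygi38 zgi30) (kgi xgi2 ygi29 zgi12) (kgi xgi9 ygi57 zgi25) (kgi xgi9 ygi55 zgi4) (kgi xgi9 ygi57 zgi32) (kgi xgi2 ygi29 zgi13) (kgi xgi9 ygi39 zgi44) (kgi xgi9 ygi39 zgi42) (kgi xgi2 ygi29 zgi14) (kgi xgi5 ygi10 zgi61) (kgi xgi5 ygi10 zgi59) (kgi xgi9 ygi57 zgi51) (kgi xgi9 ygi57 zgi53) (kgi xgi2 ygi29 zgi15) (kgi xgi2 ygi29 zgi24) (kgi xgi9 ygi18 zgi14) (kgi xgi2 ygi29 zgi16) (kgi xgi5 ygi10 zgi46) (kgi xgi9 ygi58 zgi2) (kgi xgi5 ygi10 zgi43) (kgi xgi4 ygi1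 zgi48) (kgi xgi2 ygi29 zgi31) (kgi xgi4 ygi55 zgi60) (kgi xgi5 ygi11 zgi18) (kgi xgi5 ygi37 zgi0) (kgi xgi5 ygi11 zgi57) (kgi xgi5 ygi10 zgi30) (kgi xgi9 ygi57 zgi38) (kgi xgi5 ygi10 zgi28) (kgi xgi9 ygi58 zgi21) (kgi xgi9 ygi58 zgi26) (kgi xgi9 ygi58 zgi29) (kgi xgi2 ygi29 zgi22) (kgi xgi9 ygi58 zgi17) (kgi xgi9 ygi58 zgi16) (kgi xgi2 ygi29 zgi23) (kgi xgi5 ygi10 zgi39) (kgi xgi5 ygi10 zgi37) (kgi xgi9 ygi58 zgi45) (kgi xgi9 ygi58 zgi49) (kgi xgi5 ygi45 zgi48) (kgi xgi2 ygi29 zgi25) (kgi xgi5 ygi11 zgi5) (kgi xgi5 ygi11 zgi3) (kgi xgi2 ygi29 zgi34) (kgi xgi7 ygi58 zgi50)) (@D3.rec (fun _ => Pt) (kgi xgi5 ygi9 zgi8) (kgi xgi5 ygi11 zgi27) (kgi xgi5 ygi11 zgi21) (kgi xgi5 ygi11 zgi19) (kgi xgi9 ygi58 zgi61) (kgi xgi6 ygi40 zgi53) (kgi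 xgi9 ygi59 zgi1) (kgi xgi2 ygi29 zgi30) (kgi xgi2 ygi29 zgi33) (kgi xgi9 ygi59 zgi9) (kgi xgi9 ygi59 zgi12) (kgi xgi5 ygi10 zgi48) (kgi xgi2 ygi29 zgi32) (kgi xgi5 ygi11 zgi12) (kgi xgi5 ygi11 zgi10) (kgi xgi9 ygi59 zgi24) (kgi xgi9 ygi59 zgi28) (kgi xgi9 ygi59 zgi31) (kgi xgi9 ygi46 zgi35) (kgi xgi4 ygi41 zgi55) (kgi xgi5 ygi11 zgi6) (kgi xgi2 ygi29 zgi35) (kgi xgi2 ygi29 zgi37) (kgi xgi9 ygi59 zgi39) (kgi xgi9 ygi59 zgi46) (kgi xgi9 ygi59 zgi6) (kgi xgi9 ygi58 zgi10) (kgi xgi2 ygi29 zgi39) (kgi xgi6 ygi10 zgi61) (kgi xgi9 ygi59 zgi45) (kgi xgi9 ygi59 zgi51) (kgi xgi10 ygi0 zgi5) (kgi xgi5 ygi14 zgi43) (kgi xgi2 ygi29 zgi38) (kgi xgi5 ygi14 zgi45) (kgi xgi10 ygi0 zgi16) (kgi xgi10 ygi0 zgi18) (kgi xgi10 ygi0 zgi21) (kgi xgi10 ygi0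 zgi24) (kgi xgi7 ygi31 zgi38) (kgi xgi10 ygi0 zgi29) (kgi xgi2 ygi29 zgi42) (kgi xgi5 ygi11 zgi51) (kgi xgi5 ygi11 zgi49) (kgi xgi2 ygi29 zgi43) (kgi xgi3 ygi12 zgi32) (kgi xgi4 ygi54 zgi29) (kgi xgi2 ygi36 zgi4) (kgi xgi5 ygi2 zgi45) (kgi xgi2 ygi29 zgi45) (kgi xgi4 ygi7 zgi47) (kgi xgi5 ygi37 zgi4) (kgi xgi10 ygi0 zgi47) (kgi xgi4 ygi19 zgi54) (kgi xgi10 ygi0 zgi53) (kgi xgi4 ygi3 zgi1) (kgi xgi2 ygi59 zgi46) (kgi xgi5 ygi23 zgi32) (kgi xgi2 ygi29 zgi48) (kgi xgi4 ygi20 zgi30) (kgi xgi10 ygi1 zgi3) (kgi xgi4 ygi20 zgi27)) (@D3.rec (fun _ => Pt) (kgi xgi10 ygi1 zgi9) (kgi xgi2 ygi29 zgi49) (kgi xgi8 ygi38 zgi6) (kgi xgi8 ygi38 zgi4) (kgi xgi4 ygi4 zgi35) (kgi xgi6 ygi24 zgi25) (kgi xgi4 ygi20 zgi8) (kgi xgi4 ygi4 zgi56) (kgi xgi2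 ygi33 zgi44) (kgi xgi10 ygi1 zgi23) (kgi xgi4 ygi20 zgi6) (kgi xgi2 ygi29 zgi55) (kgi xgi4 ygi41 zgi22) (kgi xgi5 ygi12 zgi58) (kgi xgi8 ygi48 zgi56) (kgi xgi4 ygi20 zgi43) (kgi xgi10 ygi1 zgi36) (kgi xgi2 ygi37 zgi14) (kgi xgi8 ygi11 zgi4) (kgi xgi10 ygi1 zgi43) (kgi xgi5 ygi1 zgi17) (kgi xgi5 ygi19 zgi53) (kgi xgi2 ygi29 zgi59) (kgi xgi4 ygi27 zgi22) (kgi xgi10 ygi1 zgi55) (kgi xgi9 ygi39 zgi27) (kgi xgi10 ygi1 zgi61) (kgi xgi2 ygi29 zgi60) (kgi xgi8 ygi52 zgi8) (kgi xgi8 ygi33 zgi20) (kgi xgi5 ygi0 zgi60) (kgi xgi10 ygi2 zgi10) (kgi xgi10 ygi2 zgi13) (kgi xgi10 ygi2 zgi17) (kgi xgi2 ygi30 zgi1) (kgi xgi5 ygi12 zgi13) (kgi xgi5 ygi12 zgi11) (kgi xgi2 ygi34 zgi23) (kgi xgi6 ygi5 zgi42) (kgi xgi9 ygi42 zgi61) (kgi xgi2 ygi30 zgi4)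 (kgi xgi5 ygi13 zgi18) (kgi xgi5 ygi13 zgi16) (kgi xgi10 ygi2 zgi32) (kgi xgi4 ygi43 zgi44) (kgi xgi5 ygi10 zgi0) (kgi xgi4 ygi16 zgi19) (kgi xgi2 ygi32 zgi2) (kgi xgi8 ygi19 zgi19) (kgi xgi5 ygi2 zgi41) (kgi xgi5 ygi16 zgi54) (kgi xgi10 ygi2 zgi41) (kgi xgi5 ygi7 zgi30) (kgi xgi10 ygi2 zgi44) (kgi xgi10 ygi2 zgi46) (kgi xgi5 ygi53 zgi58) (kgi xgi6 ygi30 zgi45) (kgi xgi6 ygi24 zgi30) (kgi xgi2 ygi33 zgi47) (kgi xgi4 ygi34 zgi17) (kgi xgi9 ygi47 zgi35) (kgi xgi10 ygi2 zgi59)) (@D3.rec (fun _ => Pt) (kgi xgi2 ygi30 zgi19) (kgi xgi5 ygi12 zgi33) (kgi xgi5 ygi12 zgi31) (kgi xgi2 ygi36 zgi8) (kgi xgi9 ygi40 zgi1) (kgi xgi2 ygi34 zgi27) (kgi xgi8 ygi3 zgi57) (kgi xgi10 ygi3 zgi11) (kgi xgi2 ygi30 zgi22) (kgi xgi2 ygi36 zgi19) (kgi xgi10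 ygi3 zgi19) (kgi xgi9 ygi39 zgi58) (kgi xgi10 ygi1 zgi53) (kgi xgi2 ygi30 zgi23) (kgi xgi10 ygi3 zgi30) (kgi xgi5 ygi19 zgi51) (kgi xgi8 ygi11 zgi1) (kgi xgi2 ygi30 zgi25) (kgi xgi5 ygi12 zgi18) (kgi xgi5 ygi12 zgi16) (kgi xgi10 ygi2 zgi29) (kgi xgi5 ygi10 zgi23) (kgi xgi2 ygi34 zgi41) (kgi xgi2 ygi32 zgi13) (kgi xgi2 ygi30 zgi28) (kgi xgi2 ygi41 zgi38) (kgi xgi5 ygi45 zgi18) (kgi xgi10 ygi3 zgi52) (kgi xgi2 ygi59 zgi26) (kgi xgi3 ygi0 zgi18) (kgi xgi6 ygi7 zgi27) (kgi xgi5 ygi49 zgi49) (kgi xgi2 ygi55 zgi41) (kgi xgi2 ygi55 zgi39) (kgi xgi3 ygi6 zgi58) (kgi xgi3 ygi43 zgi12) (kgi xgi2 ygi30 zgi35) (kgi xgi5 ygi13 zgi32) (kgi xgi5 ygi13 zgi30) (kgi xgi3 ygi0 zgi11) (kgi xgi2 ygi59 zgi23) (kgi xgi10 ygi4 zgi5) (kgi xgi10 ygi4 zgi8)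 (kgi xgi8 ygi44 zgi26) (kgi xgi2 ygi30 zgi39) (kgi xgi4 ygi12 zgi9) (kgi xgi10 ygi4 zgi16) (kgi xgi7 ygi17 zgi56) (kgi xgi2 ygi30 zgi41) (kgi xgi9 ygi26 zgi56) (kgi xgi10 ygi4 zgi25) (kgi xgi9 ygi7 zgi20) (kgi xgi10 ygi4 zgi28) (kgi xgi2 ygi53 zgi51) (kgi xgi10 ygi4 zgi33) (kgi xgi2 ygi30 zgi45) (kgi xgi5 ygi13 zgi35) (kgi xgi2 ygi53 zgi45) (kgi xgi3 ygi13 zgi47) (kgi xgi6 ygi7 zgi50) (kgi xgi2 ygi30 zgi50) (kgi xgi5 ygi13 zgi51)) (@D3.rec (fun _ => Pt) (kgi xgi10 ygi4 zgi41) (kgi xgi5 ygi13 zgi49) (kgi xgi2 ygi39 zgi57) (kgi xgi2 ygi30 zgi52) (kgi xgi5 ygi14 zgi12) (kgi xgi7 ygi27 zgi15) (kgi xgi10 ygi4 zgi51) (kgi xgi10 ygi4 zgi54) (kgi xgi2 ygi31 zgi10) (kgi xgi10 ygi4 zgi57) (kgi xgi2 ygi30 zgi56) (kgi xgi5 ygi14 zgi7) (kgi xgi2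 ygi31 zgi3) (kgi xgi7 ygi59 zgi59) (kgi xgi5 ygi14 zgi31) (kgi xgi4 ygi1 zgi21) (kgi xgi5 ygi14 zgi1) (kgi xgi5 ygi14 zgi10) (kgi xgi5 ygi13 zgi58) (kgi xgi10 ygi5 zgi6) (kgi xgi2 ygi30 zgi60) (kgi xgi5 ygi13 zgi59) (kgi xgi10 ygi5 zgi11) (kgi xgi6 ygi50 zgi27) (kgi xgi5 ygi14 zgi23) (kgi xgi8 ygi12 zgi17) (kgi xgi2 ygi31 zgi0) (kgi xgi5 ygi14 zgi21) (kgi xgi10 ygi5 zgi18) (kgi xgi5 ygi14 zgi18) (kgi xgi2 ygi45 zgi18) (kgi xgi5 ygi13 zgi55) (kgi xgi4 ygi20 zgi12) (kgi xgi6 ygi46 zgi17) (kgi xgi8 ygi44 zgi28) (kgi xgi9 ygi47 zgi38) (kgi xgi2 ygi31 zgi4) (kgi xgi6 ygi46 zgi15) (kgi xgi5 ygi43 zgi40) (kgi xgi5 ygi6 zgi57) (kgi xgi10 ygi5 zgi34) (kgi xgi9 ygi46 zgi33) (kgi xgi5 ygi5 zgi52) (kgi xgi2 ygi50 zgi8) (kgi xgi4 ygi37 zgi4) (kgi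 xgi10 ygi4 zgi44) (kgi xgi10 ygi5 zgi30) (kgi xgi6 ygi20 zgi17) (kgi xgi10 ygi5 zgi51) (kgi xgi2 ygi31 zgi11) (kgi xgi10 ygi5 zgi56) (kgi xgi10 ygi5 zgi61) (kgi xgi8 ygi14 zgi51) (kgi xgi10 ygi6 zgi5) (kgi xgi10 ygi6 zgi10) (kgi xgi9 ygi47 zgi36) (kgi xgi10 ygi6 zgi4) (kgi xgi8 ygi14 zgi59) (kgi xgi2 ygi31 zgi14) (kgi xgi8 ygi14 zgi53) (kgi xgi10 ygi6 zgi26) (kgi xgi10 ygi6 zgi30)) (@D3.rec (fun _ => Pt) (kgi xgi10 ygi6 zgi35) (kgi xgi10 ygi5 zgi55) (kgi xgi2 ygi31 zgi15) (kgi xgi10 ygi6 zgi0) (kgi xgi10 ygi5 zgi60) (kgi xgi10 ygi6 zgi44) (kgi xgi5 ygi57 zgi47) (kgi xgi10 ygi6 zgi47) (kgi xgi2 ygi31 zgi18) (kgi xgi5 ygi14 zgi36) (kgi xgi5 ygi14 zgi34) (kgi xgi5 ygi13 zgi54) (kgi xgi10 ygi6 zgi55) (kgi xgi10 ygi6 zgi59) (kgi xgi2 ygi31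 zgi20) (kgi xgi5 ygi14 zgi42) (kgi xgi5 ygi14 zgi40) (kgi xgi2 ygi31 zgi21) (kgi xgi5 ygi11 zgi39) (kgi xgi5 ygi11 zgi40) (kgi xgi10 ygi7 zgi9) (kgi xgi9 ygi47 zgi22) (kgi xgi10 ygi7 zgi11) (kgi xgi5 ygi47 zgi20) (kgi xgi10 ygi6 zgi50) (kgi xgi5 ygi14 zgi52) (kgi xgi2 ygi31 zgi26) (kgi xgi5 ygi14 zgi51) (kgi xgi2 ygi31 zgi27) (kgi xgi4 ygi13 zgi44) (kgi xgi10 ygi2 zgi20) (kgi xgi10 ygi7 zgi25) (kgi xgi4 ygi1 zgi12) (kgi xgi10 ygi7 zgi31) (kgi xgi4 ygi1 zgi19) (kgi xgi2 ygi31 zgi31) (kgi xgi2 ygi31 zgi35) (kgi xgi10 ygi7 zgi42) (kgi xgi4 ygi2 zgi40) (kgi xgi10 ygi7 zgi48) (kgi xgi2 ygi31 zgi32) (kgi xgi8 ygi4 zgi2) (kgi xgi5 ygi2 zgi42) (kgi xgi2 ygi31 zgi33) (kgi xgi4 ygi54 zgi0) (kgi xgi5 ygi11 zgi59) (kgi xgi9 ygi42 zgi4) (kgi xgi4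 ygi5 zgi7) (kgi xgi10 ygi7 zgi59) (kgi xgi4 ygi13 zgi33) (kgi xgi10 ygi8 zgi3) (kgi xgi2 ygi31 zgi36) (kgi xgi8 ygi4 zgi8) (kgi xgi10 ygi8 zgi10) (kgi xgi8 ygi4 zgi6) (kgi xgi4 ygi20 zgi2) (kgi xgi2 ygi34 zgi25) (kgi xgi10 ygi8 zgi18) (kgi xgi10 ygi8 zgi21) (kgi xgi10 ygi8 zgi26) (kgi xgi10 ygi8 zgi29) (kgi xgi2 ygi31 zgi40)) (@D3.rec (fun _ => Pt) (kgi xgi8 ygi4 zgi14) (kgi xgi5 ygi3 zgi36) (kgi xgi10 ygi8 zgi37) (kgi xgi10 ygi8 zgi40) (kgi xgi10 ygi8 zgi25) (kgi xgi10 ygi8 zgi45) (kgi xgi2 ygi31 zgi43) (kgi xgi8 ygi4 zgi20) (kgi xgi8 ygi4 zgi19) (kgi xgi10 ygi8 zgi51) (kgi xgi9 ygi55 zgi23) (kgi xgi10 ygi8 zgi34) (kgi xgi10 ygi8 zgi58) (kgi xgi10 ygi8 zgi54) (kgi xgi10 ygi8 zgi49) (kgi xgi2 ygi31 zgi46) (kgi xgi10 ygi9 zgi2) (kgi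 xgi10 ygi9 zgi8) (kgi xgi10 ygi9 zgi15) (kgi xgi10 ygi9 zgi3) (kgi xgi2 ygi31 zgi47) (kgi xgi4 ygi1 zgi36) (kgi xgi10 ygi9 zgi24) (kgi xgi10 ygi9 zgi27) (kgi xgi2 ygi31 zgi49) (kgi xgi5 ygi0 zgi56) (kgi xgi4 ygi50 zgi34) (kgi xgi5 ygi21 zgi21) (kgi xgi5 ygi4 zgi46) (kgi xgi5 ygi2 zgi55) (kgi xgi8 ygi36 zgi28) (kgi xgi2 ygi36 zgi47) (kgi xgi10 ygi9 zgi46) (kgi xgi5 ygi21 zgi19) (kgi xgi10 ygi9 zgi52) (kgi xgi4 ygi7 zgi32) (kgi xgi5 ygi15 zgi31) (kgi xgi9 ygi40 zgi11) (kgi xgi2 ygi31 zgi56) (kgi xgi5 ygi2 zgi48) (kgi xgi10 ygi10 zgi2) (kgi xgi8 ygi52 zgi3) (kgi xgi10 ygi10 zgi10) (kgi xgi2 ygi31 zgi57) (kgi xgi10 ygi9 zgi43) (kgi xgi8 ygi36 zgi31) (kgi xgi5 ygi15 zgi12) (kgi xgi10 ygi10 zgi21) (kgi xgi10 ygi10 zgi23) (kgi xgi10 ygi10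 zgi27) (kgi xgi2 ygi31 zgi60) (kgi xgi5 ygi2 zgi24) (kgi xgi5 ygi2 zgi22) (kgi xgi10 ygi10 zgi31) (kgi xgi2 ygi32 zgi0) (kgi xgi5 ygi3 zgi6) (kgi xgi5 ygi3 zgi4) (kgi xgi10 ygi10 zgi41) (kgi xgi10 ygi10 zgi45) (kgi xgi10 ygi3 zgi61) (kgi xgi5 ygi2 zgi39) (kgi xgi4 ygi51 zgi47)) (@D3.rec (fun _ => Pt) (kgi xgi2 ygi32 zgi59) (kgi xgi5 ygi5 zgi45) (kgi xgi5 ygi11 zgi56) (kgi xgi4 ygi53 zgi57) (kgi xgi5 ygi19 zgi1) (kgi xgi5 ygi18 zgi61) (kgi xgi10 ygi10 zgi57) (kgi xgi2 ygi32 zgi8) (kgi xgi4 ygi54 zgi5) (kgi xgi10 ygi11 zgi1) (kgi xgi5 ygi19 zgi39) (kgi xgi10 ygi10 zgi0) (kgi xgi2 ygi32 zgi9) (kgi xgi10 ygi11 zgi11) (kgi xgi9 ygi40 zgi10) (kgi xgi6 ygi4 zgi34) (kgi xgi2 ygi32 zgi11) (kgi xgi5 ygi2 zgi35) (kgi xgi5 ygi2 zgi33) (kgi xgi9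 ygi10 zgi1) (kgi xgi10 ygi10 zgi38) (kgi xgi10 ygi3 zgi4) (kgi xgi5 ygi3 zgi10) (kgi xgi2 ygi33 zgi30) (kgi xgi2 ygi32 zgi15) (kgi xgi4 ygi31 zgi38) (kgi xgi9 ygi0 zgi22) (kgi xgi6 ygi47 zgi20) (kgi xgi2 ygi37 zgi17) (kgi xgi10 ygi11 zgi36) (kgi xgi2 ygi32 zgi19) (kgi xgi10 ygi11 zgi41) (kgi xgi9 ygi56 zgi41) (kgi xgi10 ygi11 zgi47) (kgi xgi2 ygi32 zgi20) (kgi xgi10 ygi11 zgi37) (kgi xgi10 ygi11 zgi35) (kgi xgi2 ygi32 zgi21) (kgi xgi5 ygi3 zgi53) (kgi xgi5 ygi3 zgi51) (kgi xgi9 ygi57 zgi2) (kgi xgi10 ygi12 zgi2) (kgi xgi4 ygi43 zgi14) (kgi xgi2 ygi32 zgi23) (kgi xgi5 ygi3 zgi35) (kgi xgi10 ygi12 zgi9) (kgi xgi5 ygi3 zgi32) (kgi xgi5 ygi0 zgi50) (kgi xgi2 ygi32 zgi37) (kgi xgi7 ygi58 zgi51) (kgi xgi5 ygi4 zgi11) (kgi xgi4 ygi55 zgi59)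 (kgi xgi4 ygi54 zgi7) (kgi xgi10 ygi12 zgi22) (kgi xgi9 ygi55 zgi5) (kgi xgi10 ygi12 zgi28) (kgi xgi2 ygi32 zgi28) (kgi xgi9 ygi40 zgi17) (kgi xgi9 ygi40 zgi15) (kgi xgi2 ygi32 zgi29) (kgi xgi5 ygi3 zgi26) (kgi xgi5 ygi3 zgi24)) (@D3.rec (fun _ => Pt) (kgi xgi9 ygi56 zgi5) (kgi xgi10 ygi12 zgi44) (kgi xgi9 ygi4 zgi59) (kgi xgi2 ygi32 zgi31) (kgi xgi5 ygi3 zgi59) (kgi xgi5 ygi3 zgi57) (kgi xgi2 ygi32 zgi40) (kgi xgi4 ygi55 zgi58) (kgi xgi5 ygi1 zgi46) (kgi xgi5 ygi4 zgi20) (kgi xgi2 ygi32 zgi35) (kgi xgi5 ygi4 zgi14) (kgi xgi5 ygi4 zgi12) (kgi xgi10 ygi12 zgi61) (kgi xgi10 ygi3 zgi41) (kgi xgi10 ygi13 zgi4) (kgi xgi6 ygi37 zgi30) (kgi xgi10 ygi13 zgi8) (kgi xgi5 ygi3 zgi37) (kgi xgi2 ygi32 zgi38) (kgi xgi5 ygi4 zgi3) (kgi xgi3 ygi2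 zgi12) (kgi xgi10 ygi13 zgi18) (kgi xgi6 ygi38 zgi3) (kgi xgi10 ygi13 zgi22) (kgi xgi10 ygi13 zgi25) (kgi xgi3 ygi9 zgi2) (kgi xgi5 ygi3 zgi60) (kgi xgi2 ygi32 zgi41) (kgi xgi2 ygi32 zgi43) (kgi xgi10 ygi13 zgi31) (kgi xgi10 ygi13 zgi38) (kgi xgi9 ygi55 zgi30) (kgi xgi10 ygi12 zgi17) (kgi xgi2 ygi32 zgi45) (kgi xgi10 ygi12 zgi51) (kgi xgi10 ygi13 zgi37) (kgi xgi10 ygi13 zgi43) (kgi xgi10 ygi13 zgi61) (kgi xgi5 ygi8 zgi17) (kgi xgi2 ygi32 zgi44) (kgi xgi5 ygi8 zgi19) (kgi xgi10 ygi14 zgi11) (kgi xgi9 ygi49 zgi36) (kgi xgi10 ygi14 zgi17) (kgi xgi10 ygi12 zgi57) (kgi xgi10 ygi14 zgi23) (kgi xgi3 ygi1 zgi44) (kgi xgi10 ygi14 zgi27) (kgi xgi2 ygi32 zgi48) (kgi xgi5 ygi4 zgi43) (kgi xgi5 ygi4 zgi41) (kgi xgi2 ygi32 zgi49) (kgi xgi6 ygi28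 zgi15) (kgi xgi5 ygi2 zgi47) (kgi xgi2 ygi35 zgi9) (kgi xgi5 ygi10 zgi2) (kgi xgi5 ygi3 zgi61) (kgi xgi2 ygi36 zgi14) (kgi xgi9 ygi39 zgi29) (kgi xgi10 ygi14 zgi46) (kgi xgi5 ygi8 zgi45)) (@D3.rec (fun _ => Pt) (kgi xgi8 ygi52 zgi31) (kgi xgi2 ygi32 zgi53) (kgi xgi2 ygi36 zgi34) (kgi xgi10 ygi14 zgi54) (kgi xgi9 ygi40 zgi5) (kgi xgi10 ygi14 zgi60) (kgi xgi2 ygi32 zgi54) (kgi xgi5 ygi19 zgi20) (kgi xgi5 ygi19 zgi18) (kgi xgi5 ygi8 zgi30) (kgi xgi10 ygi15 zgi6) (kgi xgi2 ygi32 zgi56) (kgi xgi5 ygi5 zgi36) (kgi xgi5 ygi5 zgi34) (kgi xgi2 ygi35 zgi16) (kgi xgi8 ygi15 zgi3) (kgi xgi2 ygi32 zgi58) (kgi xgi5 ygi6 zgi19) (kgi xgi5 ygi6 zgi17) (kgi xgi10 ygi15 zgi18) (kgi xgi3 ygi11 zgi0) (kgi xgi5 ygi2 zgi43) (kgi xgi4 ygi9 zgi38) (kgi xgi8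 ygi31 zgi50) (kgi xgi5 ygi18 zgi59) (kgi xgi4 ygi39 zgi42) (kgi xgi4 ygi56 zgi40) (kgi xgi5 ygi47 zgi54) (kgi xgi2 ygi51 zgi2) (kgi xgi4 ygi34 zgi22) (kgi xgi10 ygi15 zgi26) (kgi xgi2 ygi33 zgi8) (kgi xgi5 ygi6 zgi2) (kgi xgi5 ygi6 zgi0) (kgi xgi2 ygi33 zgi9) (kgi xgi2 ygi37 zgi19) (kgi xgi5 ygi3 zgi3) (kgi xgi5 ygi22 zgi35) (kgi xgi4 ygi27 zgi7) (kgi xgi4 ygi20 zgi23) (kgi xgi2 ygi58 zgi29) (kgi xgi4 ygi6 zgi44) (kgi xgi10 ygi15 zgi47) (kgi xgi2 ygi33 zgi13) (kgi xgi10 ygi15 zgi51) (kgi xgi4 ygi20 zgi16) (kgi xgi5 ygi35 zgi35) (kgi xgi2 ygi33 zgi14) (kgi xgi8 ygi38 zgi52) (kgi xgi10 ygi16 zgi1) (kgi xgi8 ygi38 zgi50) (kgi xgi4 ygi1 zgi41) (kgi xgi4 ygi20 zgi33) (kgi xgi8 ygi43 zgi25) (kgi xgi4 ygi20 zgi36) (kgi xgi3 ygi4 zgi37) (kgi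 xgi10 ygi16 zgi11) (kgi xgi4 ygi41 zgi39) (kgi xgi2 ygi33 zgi21) (kgi xgi5 ygi5 zgi13) (kgi xgi10 ygi16 zgi14) (kgi xgi4 ygi20 zgi5)) (@D3.rec (fun _ => Pt) (kgi xgi4 ygi19 zgi61) (kgi xgi10 ygi16 zgi22) (kgi xgi4 ygi2 zgi10) (kgi xgi4 ygi27 zgi8) (kgi xgi9 ygi39 zgi22) (kgi xgi9 ygi39 zgi21) (kgi xgi10 ygi16 zgi30) (kgi xgi2 ygi33 zgi26) (kgi xgi4 ygi27 zgi12) (kgi xgi10 ygi16 zgi39) (kgi xgi10 ygi16 zgi43) (kgi xgi8 ygi43 zgi41) (kgi xgi2 ygi33 zgi27) (kgi xgi10 ygi16 zgi47) (kgi xgi8 ygi52 zgi30) (kgi xgi8 ygi13 zgi11) (kgi xgi2 ygi33 zgi29) (kgi xgi5 ygi5 zgi42) (kgi xgi5 ygi5 zgi40) (kgi xgi10 ygi15 zgi15) (kgi xgi10 ygi17 zgi0) (kgi xgi5 ygi3 zgi13) (kgi xgi2 ygi35 zgi37) (kgi xgi2 ygi33 zgi32) (kgi xgi4 ygi29 zgi23) (kgi xgi9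 ygi4 zgi35) (kgi xgi10 ygi17 zgi8) (kgi xgi3 ygi9 zgi53) (kgi xgi10 ygi17 zgi11) (kgi xgi6 ygi8 zgi28) (kgi xgi2 ygi33 zgi37) (kgi xgi5 ygi6 zgi38) (kgi xgi5 ygi6 zgi36) (kgi xgi10 ygi17 zgi22) (kgi xgi6 ygi42 zgi29) (kgi xgi2 ygi33 zgi41) (kgi xgi5 ygi6 zgi55) (kgi xgi3 ygi38 zgi15) (kgi xgi4 ygi25 zgi55) (kgi xgi4 ygi25 zgi57) (kgi xgi10 ygi1 zgi30) (kgi xgi10 ygi17 zgi28) (kgi xgi10 ygi0 zgi60) (kgi xgi10 ygi17 zgi36) (kgi xgi4 ygi1 zgi24) (kgi xgi5 ygi6 zgi48) (kgi xgi10 ygi17 zgi41) (kgi xgi10 ygi17 zgi45) (kgi xgi5 ygi6 zgi51) (kgi xgi2 ygi33 zgi49) (kgi xgi10 ygi17 zgi52) (kgi xgi5 ygi6 zgi60) (kgi xgi4 ygi58 zgi33) (kgi xgi8 ygi14 zgi45) (kgi xgi2 ygi34 zgi6) (kgi xgi5 ygi7 zgi35) (kgi xgi5 ygi54 zgi57) (kgi xgi5 ygi8 zgi11)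 (kgi xgi3 ygi57 zgi53) (kgi xgi5 ygi7 zgi20) (kgi xgi4 ygi57 zgi19) (kgi xgi10 ygi17 zgi61)) (@D3.rec (fun _ => Pt) (kgi xgi3 ygi33 zgi30) (kgi xgi2 ygi33 zgi55) (kgi xgi5 ygi7 zgi16) (kgi xgi10 ygi18 zgi5) (kgi xgi10 ygi18 zgi9) (kgi xgi2 ygi33 zgi56) (kgi xgi5 ygi41 zgi15) (kgi xgi2 ygi33 zgi57) (kgi xgi5 ygi7 zgi11) (kgi xgi5 ygi7 zgi10) (kgi xgi2 ygi34 zgi2) (kgi xgi4 ygi58 zgi48) (kgi xgi5 ygi7 zgi3) (kgi xgi4 ygi58 zgi34) (kgi xgi2 ygi33 zgi60) (kgi xgi4 ygi58 zgi47) (kgi xgi6 ygi7 zgi51) (kgi xgi10 ygi4 zgi45) (kgi xgi2 ygi34 zgi0) (kgi xgi5 ygi7 zgi29) (kgi xgi10 ygi18 zgi23) (kgi xgi5 ygi7 zgi26) (kgi xgi5 ygi7 zgi17) (kgi xgi4 ygi58 zgi17) (kgi xgi2 ygi53 zgi18) (kgi xgi4 ygi5 zgi56) (kgi xgi10 ygi18 zgi14) (kgi xgi10 ygi18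 zgi30) (kgi xgi10 ygi18 zgi32) (kgi xgi2 ygi34 zgi5) (kgi xgi3 ygi43 zgi26) (kgi xgi3 ygi59 zgi26) (kgi xgi9 ygi9 zgi29) (kgi xgi10 ygi18 zgi39) (kgi xgi2 ygi34 zgi7) (kgi xgi5 ygi8 zgi10) (kgi xgi5 ygi8 zgi8) (kgi xgi4 ygi58 zgi50) (kgi xgi10 ygi18 zgi47) (kgi xgi10 ygi18 zgi49) (kgi xgi2 ygi34 zgi9) (kgi xgi5 ygi8 zgi16) (kgi xgi5 ygi8 zgi14) (kgi xgi2 ygi34 zgi10) (kgi xgi5 ygi4 zgi32) (kgi xgi5 ygi4 zgi33) (kgi xgi9 ygi15 zgi23) (kgi xgi3 ygi46 zgi29) (kgi xgi5 ygi52 zgi15) (kgi xgi10 ygi19 zgi2) (kgi xgi10 ygi18 zgi43) (kgi xgi5 ygi8 zgi26) (kgi xgi2 ygi34 zgi15) (kgi xgi5 ygi8 zgi25) (kgi xgi4 ygi15 zgi29) (kgi xgi10 ygi19 zgi13) (kgi xgi8 ygi26 zgi45) (kgi xgi7 ygi57 zgi43) (kgi xgi2 ygi40 zgi4) (kgi xgi2 ygi34 zgi20) (kgi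 xgi10 ygi19 zgi23) (kgi xgi9 ygi41 zgi45)) (@D3.rec (fun _ => Pt) (kgi xgi8 ygi11 zgi16) (kgi xgi9 ygi54 zgi57) (kgi xgi9 ygi25 zgi39) (kgi xgi4 ygi29 zgi31) (kgi xgi4 ygi13 zgi40) (kgi xgi10 ygi19 zgi38) (kgi xgi2 ygi34 zgi53) (kgi xgi10 ygi19 zgi44) (kgi xgi10 ygi19 zgi48) (kgi xgi2 ygi34 zgi49) (kgi xgi5 ygi18 zgi18) (kgi xgi4 ygi2 zgi33) (kgi xgi9 ygi51 zgi52) (kgi xgi10 ygi19 zgi54) (kgi xgi2 ygi38 zgi16) (kgi xgi4 ygi13 zgi54) (kgi xgi2 ygi34 zgi30) (kgi xgi2 ygi34 zgi38) (kgi xgi6 ygi5 zgi45) (kgi xgi10 ygi19 zgi61) (kgi xgi5 ygi28 zgi17) (kgi xgi8 ygi26 zgi9) (kgi xgi10 ygi20 zgi3) (kgi xgi2 ygi34 zgi33) (kgi xgi2 ygi34 zgi40) (kgi xgi10 ygi20 zgi9) (kgi xgi8 ygi26 zgi20) (kgi xgi10 ygi20 zgi14) (kgi xgi2 ygi34 zgi34) (kgi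 xgi5 ygi12 zgi22) (kgi xgi2 ygi34 zgi35) (kgi xgi5 ygi9 zgi33) (kgi xgi5 ygi24 zgi5) (kgi xgi5 ygi8 zgi47) (kgi xgi5 ygi17 zgi48) (kgi xgi9 ygi41 zgi43) (kgi xgi4 ygi7 zgi30) (kgi xgi10 ygi20 zgi31) (kgi xgi10 ygi20 zgi12) (kgi xgi10 ygi20 zgi37) (kgi xgi10 ygi3 zgi46) (kgi xgi10 ygi20 zgi41) (kgi xgi10 ygi3 zgi47) (kgi xgi5 ygi17 zgi15) (kgi xgi10 ygi20 zgi47) (kgi xgi2 ygi34 zgi44) (kgi xgi10 ygi20 zgi51) (kgi xgi4 ygi46 zgi30) (kgi xgi10 ygi20 zgi58) (kgi xgi2 ygi34 zgi45) (kgi xgi10 ygi19 zgi39) (kgi xgi5 ygi18 zgi26) (kgi xgi5 ygi9 zgi27) (kgi xgi10 ygi21 zgi7) (kgi xgi10 ygi21 zgi10) (kgi xgi10 ygi20 zgi55) (kgi xgi10 ygi21 zgi16) (kgi xgi2 ygi34 zgi48) (kgi xgi8 ygi17 zgi50) (kgi xgi8 ygi17 zgi48) (kgi xgi10 ygi21 zgi23) (kgi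 xgi4 ygi46 zgi4)) (@D3.rec (fun _ => Pt) (kgi xgi10 ygi21 zgi1) (kgi xgi10 ygi21 zgi32) (kgi xgi10 ygi21 zgi27) (kgi xgi10 ygi21 zgi21) (kgi xgi2 ygi34 zgi51) (kgi xgi10 ygi21 zgi39) (kgi xgi10 ygi21 zgi43) (kgi xgi9 ygi3 zgi20) (kgi xgi9 ygi59 zgi41) (kgi xgi2 ygi34 zgi52) (kgi xgi8 ygi29 zgi3) (kgi xgi8 ygi29 zgi1) (kgi xgi10 ygi21 zgi59) (kgi xgi10 ygi7 zgi22) (kgi xgi10 ygi22 zgi1) (kgi xgi2 ygi34 zgi54) (kgi xgi5 ygi17 zgi10) (kgi xgi2 ygi34 zgi55) (kgi xgi10 ygi16 zgi36) (kgi xgi10 ygi22 zgi13) (kgi xgi2 ygi34 zgi56) (kgi xgi8 ygi52 zgi14) (kgi xgi8 ygi52 zgi12) (kgi xgi5 ygi17 zgi5) (kgi xgi4 ygi29 zgi47) (kgi xgi2 ygi42 zgi14) (kgi xgi2 ygi36 zgi21) (kgi xgi8 ygi43 zgi39) (kgi xgi10 ygi22 zgi28) (kgi xgi2 ygi34 zgi61) (kgi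 xgi5 ygi19 zgi61) (kgi xgi5 ygi19 zgi59) (kgi xgi2 ygi42 zgi12) (kgi xgi5 ygi18 zgi0) (kgi xgi2 ygi35 zgi3) (kgi xgi2 ygi35 zgi5) (kgi xgi10 ygi22 zgi38) (kgi xgi10 ygi22 zgi42) (kgi xgi9 ygi55 zgi50) (kgi xgi10 ygi12 zgi8) (kgi xgi2 ygi35 zgi7) (kgi xgi7 ygi31 zgi24) (kgi xgi10 ygi22 zgi41) (kgi xgi10 ygi22 zgi47) (kgi xgi10 ygi22 zgi61) (kgi xgi9 ygi7 zgi56) (kgi xgi2 ygi35 zgi6) (kgi xgi9 ygi7 zgi58) (kgi xgi10 ygi23 zgi9) (kgi xgi10 ygi23 zgi13) (kgi xgi9 ygi43 zgi14) (kgi xgi2 ygi35 zgi8) (kgi xgi5 ygi18 zgi57) (kgi xgi4 ygi27 zgi31) (kgi xgi5 ygi5 zgi50) (kgi xgi4 ygi54 zgi36) (kgi xgi2 ygi35 zgi12) (kgi xgi4 ygi2 zgi55) (kgi xgi10 ygi23 zgi30) (kgi xgi10 ygi23 zgi34) (kgi xgi2 ygi35 zgi13) (kgi xgi2 ygi39 zgi46)) (@D3.rec (fun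 _ => Pt) (kgi xgi2 ygi35 zgi27) (kgi xgi10 ygi9 zgi54) (kgi xgi10 ygi20 zgi29) (kgi xgi2 ygi41 zgi56) (kgi xgi4 ygi7 zgi35) (kgi xgi10 ygi23 zgi47) (kgi xgi2 ygi35 zgi48) (kgi xgi10 ygi23 zgi53) (kgi xgi10 ygi23 zgi57) (kgi xgi2 ygi35 zgi44) (kgi xgi5 ygi16 zgi15) (kgi xgi4 ygi8 zgi20) (kgi xgi4 ygi12 zgi55) (kgi xgi2 ygi35 zgi22) (kgi xgi2 ygi35 zgi25) (kgi xgi5 ygi26 zgi6) (kgi xgi10 ygi24 zgi7) (kgi xgi5 ygi1 zgi20) (kgi xgi4 ygi50 zgi48) (kgi xgi5 ygi15 zgi43) (kgi xgi10 ygi24 zgi13) (kgi xgi4 ygi13 zgi37) (kgi xgi10 ygi24 zgi16) (kgi xgi4 ygi50 zgi37) (kgi xgi10 ygi24 zgi20) (kgi xgi10 ygi24 zgi23) (kgi xgi8 ygi15 zgi57) (kgi xgi4 ygi7 zgi39) (kgi xgi10 ygi24 zgi30) (kgi xgi8 ygi15 zgi1) (kgi xgi10 ygi24 zgi35) (kgi xgi2 ygi35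 zgi32) (kgi xgi2 ygi35 zgi36) (kgi xgi10 ygi24 zgi44) (kgi xgi8 ygi15 zgi53) (kgi xgi10 ygi24 zgi50) (kgi xgi2 ygi35 zgi33) (kgi xgi5 ygi5 zgi46) (kgi xgi2 ygi35 zgi34) (kgi xgi5 ygi2 zgi4) (kgi xgi8 ygi54 zgi12) (kgi xgi2 ygi58 zgi28) (kgi xgi10 ygi24 zgi61) (kgi xgi8 ygi16 zgi18) (kgi xgi10 ygi25 zgi5) (kgi xgi10 ygi17 zgi1) (kgi xgi10 ygi25 zgi9) (kgi xgi10 ygi17 zgi2) (kgi xgi5 ygi15 zgi18) (kgi xgi2 ygi35 zgi39) (kgi xgi10 ygi25 zgi16) (kgi xgi10 ygi25 zgi21) (kgi xgi10 ygi25 zgi23) (kgi xgi2 ygi35 zgi40) (kgi xgi10 ygi23 zgi48) (kgi xgi5 ygi16 zgi23) (kgi xgi10 ygi25 zgi29) (kgi xgi10 ygi25 zgi32) (kgi xgi10 ygi25 zgi20) (kgi xgi10 ygi25 zgi38) (kgi xgi2 ygi35 zgi43) (kgi xgi8 ygi30 zgi43)) (@D3.rec (fun _ => Pt) (kgi xgi8 ygi30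 zgi41) (kgi xgi10 ygi25 zgi45) (kgi xgi10 ygi2 zgi7) (kgi xgi10 ygi25 zgi26) (kgi xgi10 ygi25 zgi51) (kgi xgi10 ygi25 zgi49) (kgi xgi10 ygi25 zgi43) (kgi xgi2 ygi35 zgi46) (kgi xgi10 ygi25 zgi53) (kgi xgi10 ygi25 zgi57) (kgi xgi10 ygi26 zgi1) (kgi xgi10 ygi13 zgi33) (kgi xgi2 ygi35 zgi47) (kgi xgi10 ygi23 zgi60) (kgi xgi6 ygi5 zgi31) (kgi xgi10 ygi26 zgi13) (kgi xgi9 ygi52 zgi22) (kgi xgi10 ygi26 zgi17) (kgi xgi2 ygi35 zgi49) (kgi xgi5 ygi15 zgi10) (kgi xgi2 ygi35 zgi50) (kgi xgi10 ygi3 zgi16) (kgi xgi10 ygi26 zgi29) (kgi xgi2 ygi35 zgi51) (kgi xgi5 ygi19 zgi27) (kgi xgi5 ygi19 zgi24) (kgi xgi5 ygi15 zgi5) (kgi xgi2 ygi42 zgi15) (kgi xgi4 ygi29 zgi46) (kgi xgi2 ygi35 zgi55) (kgi xgi4 ygi27 zgi14) (kgi xgi10 ygi1 zgi52) (kgi xgi10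 ygi26 zgi46) (kgi xgi2 ygi35 zgi56) (kgi xgi8 ygi52 zgi37) (kgi xgi8 ygi52 zgi35) (kgi xgi4 ygi29 zgi44) (kgi xgi5 ygi15 zgi59) (kgi xgi2 ygi35 zgi60) (kgi xgi2 ygi36 zgi0) (kgi xgi10 ygi26 zgi57) (kgi xgi10 ygi26 zgi60) (kgi xgi9 ygi57 zgi58) (kgi xgi4 ygi55 zgi48) (kgi xgi2 ygi36 zgi2) (kgi xgi9 ygi57 zgi43) (kgi xgi10 ygi26 zgi59) (kgi xgi10 ygi27 zgi3) (kgi xgi10 ygi27 zgi21) (kgi xgi5 ygi55 zgi24) (kgi xgi2 ygi36 zgi1) (kgi xgi5 ygi55 zgi26) (kgi xgi10 ygi27 zgi33) (kgi xgi10 ygi27 zgi37) (kgi xgi10 ygi27 zgi40) (kgi xgi2 ygi36 zgi3) (kgi xgi4 ygi43 zgi57) (kgi xgi5 ygi16 zgi51) (kgi xgi2 ygi36 zgi46) (kgi xgi5 ygi12 zgi24) (kgi xgi2 ygi36 zgi6) (kgi xgi5 ygi10 zgi4)) (@D3.rec (fun _ => Pt) (kgi xgi10 ygi27 zgi54) (kgi xgi5 ygi10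 zgi5) (kgi xgi10 ygi20 zgi17) (kgi xgi2 ygi58 zgi36) (kgi xgi10 ygi27 zgi60) (kgi xgi10 ygi28 zgi0) (kgi xgi9 ygi40 zgi8) (kgi xgi10 ygi28 zgi2) (kgi xgi5 ygi2 zgi7) (kgi xgi10 ygi28 zgi5) (kgi xgi4 ygi3 zgi2) (kgi xgi10 ygi28 zgi7) (kgi xgi10 ygi28 zgi10) (kgi xgi5 ygi10 zgi10) (kgi xgi10 ygi26 zgi22) (kgi xgi10 ygi28 zgi15) (kgi xgi9 ygi39 zgi33) (kgi xgi10 ygi28 zgi21) (kgi xgi2 ygi36 zgi20) (kgi xgi5 ygi12 zgi8) (kgi xgi5 ygi12 zgi6) (kgi xgi10 ygi28 zgi28) (kgi xgi10 ygi14 zgi51) (kgi xgi10 ygi28 zgi34) (kgi xgi2 ygi36 zgi23) (kgi xgi5 ygi18 zgi25) (kgi xgi10 ygi28 zgi41) (kgi xgi5 ygi18 zgi23) (kgi xgi10 ygi28 zgi45) (kgi xgi10 ygi14 zgi43) (kgi xgi10 ygi28 zgi39) (kgi xgi10 ygi28 zgi53) (kgi xgi10 ygi14 zgi49) (kgi xgi10 ygi22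 zgi34) (kgi xgi2 ygi36 zgi26) (kgi xgi2 ygi36 zgi44) (kgi xgi5 ygi19 zgi37) (kgi xgi2 ygi36 zgi27) (kgi xgi5 ygi19 zgi36) (kgi xgi9 ygi39 zgi36) (kgi xgi10 ygi29 zgi8) (kgi xgi10 ygi29 zgi10) (kgi xgi2 ygi36 zgi29) (kgi xgi10 ygi26 zgi35) (kgi xgi10 ygi29 zgi18) (kgi xgi10 ygi29 zgi21) (kgi xgi9 ygi51 zgi57) (kgi xgi8 ygi5 zgi61) (kgi xgi10 ygi29 zgi26) (kgi xgi9 ygi40 zgi31) (kgi xgi10 ygi16 zgi34) (kgi xgi2 ygi36 zgi35) (kgi xgi10 ygi29 zgi36) (kgi xgi5 ygi6 zgi13) (kgi xgi8 ygi13 zgi15) (kgi xgi2 ygi58 zgi24) (kgi xgi10 ygi29 zgi43) (kgi xgi10 ygi3 zgi14) (kgi xgi10 ygi29 zgi49) (kgi xgi2 ygi36 zgi40) (kgi xgi5 ygi16 zgi31) (kgi xgi5 ygi16 zgi29)) (@D3.rec (fun _ => Pt) (kgi xgi10 ygi29 zgi56) (kgi xgi10 ygi3 zgi9) (kgi xgi8 ygi44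 zgi37) (kgi xgi8 ygi45 zgi18) (kgi xgi10 ygi3 zgi6) (kgi xgi10 ygi29 zgi54) (kgi xgi2 ygi36 zgi43) (kgi xgi5 ygi20 zgi9) (kgi xgi10 ygi30 zgi13) (kgi xgi5 ygi20 zgi6) (kgi xgi10 ygi30 zgi8) (kgi xgi5 ygi2 zgi12) (kgi xgi10 ygi30 zgi24) (kgi xgi8 ygi44 zgi48) (kgi xgi4 ygi27 zgi21) (kgi xgi10 ygi9 zgi45) (kgi xgi2 ygi37 zgi59) (kgi xgi4 ygi50 zgi36) (kgi xgi10 ygi30 zgi35) (kgi xgi2 ygi36 zgi49) (kgi xgi2 ygi37 zgi36) (kgi xgi10 ygi30 zgi44) (kgi xgi10 ygi30 zgi49) (kgi xgi2 ygi37 zgi32) (kgi xgi2 ygi39 zgi16) (kgi xgi4 ygi31 zgi18) (kgi xgi9 ygi37 zgi38) (kgi xgi8 ygi18 zgi5) (kgi xgi2 ygi36 zgi54) (kgi xgi2 ygi36 zgi58) (kgi xgi10 ygi31 zgi0) (kgi xgi8 ygi25 zgi47) (kgi xgi10 ygi31 zgi6) (kgi xgi2 ygi38 zgi6) (kgi xgi2 ygi38 zgi3)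 (kgi xgi2 ygi44 zgi0) (kgi xgi5 ygi30 zgi12) (kgi xgi10 ygi31 zgi15) (kgi xgi10 ygi31 zgi3) (kgi xgi10 ygi31 zgi21) (kgi xgi2 ygi36 zgi59) (kgi xgi2 ygi38 zgi27) (kgi xgi10 ygi31 zgi27) (kgi xgi2 ygi36 zgi61) (kgi xgi10 ygi31 zgi32) (kgi xgi5 ygi22 zgi55) (kgi xgi10 ygi31 zgi37) (kgi xgi2 ygi38 zgi47) (kgi xgi2 ygi38 zgi44) (kgi xgi8 ygi8 zgi51) (kgi xgi10 ygi31 zgi45) (kgi xgi5 ygi22 zgi59) (kgi xgi10 ygi31 zgi51) (kgi xgi2 ygi37 zgi4) (kgi xgi2 ygi38 zgi55) (kgi xgi10 ygi31 zgi56) (kgi xgi5 ygi22 zgi46) (kgi xgi10 ygi31 zgi40) (kgi xgi10 ygi32 zgi0) (kgi xgi2 ygi45 zgi21) (kgi xgi5 ygi22 zgi52) (kgi xgi8 ygi58 zgi12)) (@D3.rec (fun _ => Pt) (kgi xgi2 ygi37 zgi7) (kgi xgi10 ygi32 zgi4) (kgi xgi10 ygi32 zgi10) (kgi xgi10 ygi32 zgi15)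 (kgi xgi10 ygi32 zgi5) (kgi xgi2 ygi37 zgi8) (kgi xgi2 ygi39 zgi14) (kgi xgi10 ygi21 zgi46) (kgi xgi10 ygi32 zgi24) (kgi xgi2 ygi37 zgi10) (kgi xgi2 ygi37 zgi37) (kgi xgi2 ygi37 zgi11) (kgi xgi4 ygi17 zgi12) (kgi xgi10 ygi32 zgi39) (kgi xgi10 ygi32 zgi43) (kgi xgi2 ygi37 zgi12) (kgi xgi10 ygi32 zgi48) (kgi xgi9 ygi34 zgi47) (kgi xgi3 ygi58 zgi28) (kgi xgi5 ygi9 zgi36) (kgi xgi10 ygi32 zgi59) (kgi xgi3 ygi58 zgi5) (kgi xgi10 ygi33 zgi1) (kgi xgi10 ygi33 zgi4) (kgi xgi5 ygi2 zgi58) (kgi xgi10 ygi22 zgi6) (kgi xgi10 ygi15 zgi34) (kgi xgi10 ygi33 zgi11) (kgi xgi9 ygi33 zgi14) (kgi xgi10 ygi33 zgi17) (kgi xgi9 ygi33 zgi16) (kgi xgi2 ygi37 zgi23) (kgi xgi2 ygi37 zgi25) (kgi xgi10 ygi33 zgi26) (kgi xgi10 ygi33 zgi29) (kgi xgi7 ygi41 zgi52)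 (kgi xgi2 ygi37 zgi24) (kgi xgi7 ygi46 zgi19) (kgi xgi6 ygi5 zgi41) (kgi xgi7 ygi46 zgi14) (kgi xgi10 ygi33 zgi28) (kgi xgi10 ygi30 zgi60) (kgi xgi2 ygi37 zgi26) (kgi xgi10 ygi28 zgi43) (kgi xgi4 ygi5 zgi5) (kgi xgi10 ygi33 zgi43) (kgi xgi2 ygi37 zgi28) (kgi xgi2 ygi37 zgi30) (kgi xgi10 ygi33 zgi49) (kgi xgi10 ygi33 zgi54) (kgi xgi10 ygi33 zgi57) (kgi xgi2 ygi37 zgi29) (kgi xgi10 ygi30 zgi36) (kgi xgi6 ygi6 zgi13) (kgi xgi10 ygi34 zgi3) (kgi xgi10 ygi33 zgi53) (kgi xgi10 ygi34 zgi9) (kgi xgi2 ygi37 zgi31) (kgi xgi8 ygi53 zgi53) (kgi xgi8 ygi53 zgi51) (kgi xgi10 ygi34 zgi16) (kgi xgi10 ygi16 zgi51)) (@D3.rec (fun _ => Pt) (kgi xgi10 ygi34 zgi0) (kgi xgi10 ygi34 zgi25) (kgi xgi10 ygi34 zgi20) (kgi xgi10 ygi34 zgi14) (kgi xgi2 ygi37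 zgi34) (kgi xgi10 ygi34 zgi32) (kgi xgi10 ygi34 zgi38) (kgi xgi10 ygi34 zgi43) (kgi xgi10 ygi34 zgi33) (kgi xgi2 ygi37 zgi35) (kgi xgi10 ygi30 zgi51) (kgi xgi10 ygi9 zgi41) (kgi xgi10 ygi34 zgi55) (kgi xgi10 ygi30 zgi48) (kgi xgi10 ygi32 zgi23) (kgi xgi10 ygi32 zgi28) (kgi xgi10 ygi34 zgi61) (kgi xgi10 ygi15 zgi40) (kgi xgi5 ygi20 zgi35) (kgi xgi10 ygi35 zgi4) (kgi xgi4 ygi54 zgi40) (kgi xgi10 ygi35 zgi9) (kgi xgi2 ygi37 zgi42) (kgi xgi5 ygi22 zgi41) (kgi xgi10 ygi35 zgi14) (kgi xgi5 ygi22 zgi38) (kgi xgi4 ygi54 zgi34) (kgi xgi10 ygi35 zgi18) (kgi xgi2 ygi43 zgi43) (kgi xgi8 ygi7 zgi37) (kgi xgi4 ygi3 zgi9) (kgi xgi2 ygi43 zgi55) (kgi xgi4 ygi54 zgi30) (kgi xgi10 ygi35 zgi25) (kgi xgi4 ygi54 zgi32) (kgi xgi10 ygi35 zgi29) (kgi xgi10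 ygi35 zgi32) (kgi xgi9 ygi0 zgi5) (kgi xgi2 ygi37 zgi52) (kgi xgi5 ygi22 zgi25) (kgi xgi10 ygi35 zgi41) (kgi xgi5 ygi22 zgi22) (kgi xgi4 ygi54 zgi53) (kgi xgi2 ygi58 zgi35) (kgi xgi4 ygi6 zgi42) (kgi xgi10 ygi35 zgi48) (kgi xgi5 ygi20 zgi60) (kgi xgi10 ygi35 zgi52) (kgi xgi2 ygi37 zgi57) (kgi xgi8 ygi21 zgi39) (kgi xgi8 ygi21 zgi36) (kgi xgi10 ygi35 zgi59) (kgi xgi5 ygi20 zgi56) (kgi xgi10 ygi36 zgi3) (kgi xgi10 ygi36 zgi6) (kgi xgi5 ygi20 zgi51) (kgi xgi10 ygi35 zgi57) (kgi xgi10 ygi36 zgi14) (kgi xgi4 ygi9 zgi0) (kgi xgi5 ygi20 zgi45) (kgi xgi7 ygi46 zgi21) (kgi xgi2 ygi38 zgi0)) (@D3.rec (fun _ => Pt) (kgi xgi10 ygi31 zgi16) (kgi xgi10 ygi31 zgi14) (kgi xgi10 ygi36 zgi32) (kgi xgi10 ygi36 zgi35) (kgi xgi2 ygi38 zgi1) (kgi xgi2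 ygi38 zgi25) (kgi xgi10 ygi36 zgi43) (kgi xgi2 ygi38 zgi2) (kgi xgi10 ygi31 zgi8) (kgi xgi10 ygi36 zgi53) (kgi xgi10 ygi31 zgi5) (kgi xgi9 ygi41 zgi9) (kgi xgi4 ygi27 zgi58) (kgi xgi10 ygi36 zgi56) (kgi xgi5 ygi25 zgi48) (kgi xgi2 ygi38 zgi5) (kgi xgi6 ygi5 zgi8) (kgi xgi10 ygi37 zgi5) (kgi xgi6 ygi5 zgi6) (kgi xgi8 ygi13 zgi31) (kgi xgi6 ygi4 zgi26) (kgi xgi10 ygi37 zgi14) (kgi xgi10 ygi37 zgi17) (kgi xgi8 ygi39 zgi43) (kgi xgi4 ygi31 zgi21) (kgi xgi5 ygi4 zgi57) (kgi xgi10 ygi37 zgi22) (kgi xgi10 ygi37 zgi24) (kgi xgi5 ygi35 zgi15) (kgi xgi9 ygi37 zgi51) (kgi xgi2 ygi38 zgi15) (kgi xgi10 ygi37 zgi33) (kgi xgi8 ygi41 zgi25) (kgi xgi10 ygi37 zgi36) (kgi xgi9 ygi42 zgi1) (kgi xgi2 ygi38 zgi20) (kgi xgi10 ygi31 zgi13) (kgi xgi10 ygi37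 zgi46) (kgi xgi8 ygi36 zgi53) (kgi xgi4 ygi9 zgi1) (kgi xgi2 ygi38 zgi24) (kgi xgi10 ygi31 zgi1) (kgi xgi10 ygi30 zgi61) (kgi xgi10 ygi37 zgi58) (kgi xgi10 ygi38 zgi0) (kgi xgi10 ygi38 zgi4) (kgi xgi2 ygi38 zgi26) (kgi xgi10 ygi31 zgi23) (kgi xgi10 ygi38 zgi14) (kgi xgi10 ygi31 zgi20) (kgi xgi9 ygi41 zgi50) (kgi xgi10 ygi33 zgi16) (kgi xgi10 ygi38 zgi17) (kgi xgi2 ygi38 zgi29) (kgi xgi8 ygi32 zgi56) (kgi xgi10 ygi38 zgi26) (kgi xgi8 ygi32 zgi54) (kgi xgi2 ygi38 zgi31) (kgi xgi4 ygi10 zgi42) (kgi xgi10 ygi38 zgi37) (kgi xgi9 ygi37 zgi53) (kgi xgi8 ygi57 zgi14)) (@D3.rec (fun _ => Pt) (kgi xgi10 ygi38 zgi44) (kgi xgi9 ygi41 zgi14) (kgi xgi10 ygi38 zgi50) (kgi xgi2 ygi38 zgi35) (kgi xgi10 ygi38 zgi42) (kgi xgi10 ygi38 zgi57) (kgi xgi8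 ygi8 zgi24) (kgi xgi10 ygi38 zgi59) (kgi xgi10 ygi32 zgi29) (kgi xgi10 ygi39 zgi2) (kgi xgi2 ygi38 zgi38) (kgi xgi10 ygi31 zgi46) (kgi xgi10 ygi31 zgi44) (kgi xgi10 ygi39 zgi12) (kgi xgi10 ygi39 zgi16) (kgi xgi2 ygi38 zgi39) (kgi xgi2 ygi38 zgi52) (kgi xgi10 ygi39 zgi24) (kgi xgi2 ygi38 zgi40) (kgi xgi10 ygi31 zgi39) (kgi xgi5 ygi42 zgi2) (kgi xgi4 ygi33 zgi18) (kgi xgi5 ygi19 zgi3) (kgi xgi2 ygi39 zgi0) (kgi xgi10 ygi28 zgi40) (kgi xgi9 ygi3 zgi11) (kgi xgi10 ygi39 zgi34) (kgi xgi10 ygi26 zgi36) (kgi xgi10 ygi39 zgi37) (kgi xgi8 ygi8 zgi53) (kgi xgi10 ygi39 zgi41) (kgi xgi9 ygi0 zgi33) (kgi xgi10 ygi39 zgi46) (kgi xgi2 ygi38 zgi50) (kgi xgi10 ygi39 zgi39) (kgi xgi8 ygi8 zgi49) (kgi xgi2 ygi38 zgi51) (kgi xgi10 ygi31 zgi33) (kgi xgi10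 ygi31 zgi31) (kgi xgi10 ygi39 zgi57) (kgi xgi10 ygi39 zgi60) (kgi xgi2 ygi38 zgi53) (kgi xgi10 ygi31 zgi52) (kgi xgi10 ygi31 zgi50) (kgi xgi2 ygi39 zgi4) (kgi xgi10 ygi40 zgi9) (kgi xgi7 ygi53 zgi32) (kgi xgi2 ygi38 zgi57) (kgi xgi6 ygi4 zgi44) (kgi xgi10 ygi40 zgi15) (kgi xgi6 ygi4 zgi42) (kgi xgi2 ygi38 zgi59) (kgi xgi7 ygi53 zgi41) (kgi xgi10 ygi31 zgi61) (kgi xgi10 ygi40 zgi30) (kgi xgi10 ygi40 zgi34) (kgi xgi10 ygi40 zgi38) (kgi xgi4 ygi7 zgi29) (kgi xgi8 ygi44 zgi44) (kgi xgi2 ygi38 zgi61) (kgi xgi2 ygi39 zgi3) (kgi xgi10 ygi40 zgi44)) (@D3.rec (fun _ => Pt) (kgi xgi8 ygi57 zgi38) (kgi xgi2 ygi39 zgi1) (kgi xgi10 ygi31 zgi57) (kgi xgi10 ygi31 zgi55) (kgi xgi10 ygi40 zgi55) (kgi xgi10 ygi40 zgi59) (kgi xgi10 ygi41 zgi0) (kgi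 xgi10 ygi41 zgi3) (kgi xgi10 ygi41 zgi6) (kgi xgi7 ygi47 zgi15) (kgi xgi10 ygi31 zgi53) (kgi xgi2 ygi39 zgi5) (kgi xgi2 ygi39 zgi7) (kgi xgi10 ygi41 zgi14) (kgi xgi8 ygi57 zgi22) (kgi xgi10 ygi40 zgi42) (kgi xgi10 ygi39 zgi35) (kgi xgi2 ygi39 zgi9) (kgi xgi10 ygi40 zgi19) (kgi xgi10 ygi41 zgi19) (kgi xgi10 ygi41 zgi24) (kgi xgi10 ygi41 zgi40) (kgi xgi10 ygi41 zgi44) (kgi xgi2 ygi39 zgi8) (kgi xgi10 ygi41 zgi9) (kgi xgi10 ygi41 zgi52) (kgi xgi10 ygi41 zgi59) (kgi xgi10 ygi41 zgi43) (kgi xgi10 ygi42 zgi1) (kgi xgi10 ygi40 zgi25) (kgi xgi10 ygi42 zgi6) (kgi xgi10 ygi40 zgi50) (kgi xgi10 ygi42 zgi12) (kgi xgi9 ygi43 zgi12) (kgi xgi10 ygi22 zgi52) (kgi xgi2 ygi39 zgi13) (kgi xgi10 ygi32 zgi22) (kgi xgi10 ygi32 zgi21) (kgi xgi10 ygi42 zgi28)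 (kgi xgi2 ygi39 zgi15) (kgi xgi10 ygi30 zgi52) (kgi xgi10 ygi42 zgi39) (kgi xgi5 ygi22 zgi27) (kgi xgi10 ygi31 zgi30) (kgi xgi5 ygi23 zgi14) (kgi xgi10 ygi34 zgi13) (kgi xgi4 ygi20 zgi52) (kgi xgi10 ygi33 zgi46) (kgi xgi10 ygi42 zgi47) (kgi xgi10 ygi31 zgi54) (kgi xgi10 ygi19 zgi28) (kgi xgi10 ygi3 zgi50) (kgi xgi8 ygi11 zgi17) (kgi xgi2 ygi39 zgi20) (kgi xgi4 ygi15 zgi7) (kgi xgi10 ygi43 zgi0) (kgi xgi8 ygi26 zgi30) (kgi xgi10 ygi43 zgi6) (kgi xgi2 ygi39 zgi21) (kgi xgi8 ygi28 zgi45) (kgi xgi8 ygi28 zgi43) (kgi xgi10 ygi43 zgi14)) (@D3.rec (fun _ => Pt) (kgi xgi2 ygi39 zgi24) (kgi xgi6 ygi5 zgi55) (kgi xgi6 ygi5 zgi53) (kgi xgi10 ygi43 zgi26) (kgi xgi10 ygi43 zgi28) (kgi xgi4 ygi30 zgi47) (kgi xgi5 ygi17 zgi19) (kgi xgi2 ygi39 zgi31)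 (kgi xgi4 ygi7 zgi37) (kgi xgi9 ygi30 zgi46) (kgi xgi10 ygi23 zgi58) (kgi xgi8 ygi55 zgi53) (kgi xgi2 ygi39 zgi32) (kgi xgi8 ygi15 zgi59) (kgi xgi2 ygi39 zgi33) (kgi xgi6 ygi5 zgi39) (kgi xgi6 ygi5 zgi37) (kgi xgi10 ygi43 zgi51) (kgi xgi8 ygi56 zgi16) (kgi xgi2 ygi39 zgi35) (kgi xgi2 ygi45 zgi20) (kgi xgi5 ygi36 zgi43) (kgi xgi4 ygi6 zgi53) (kgi xgi2 ygi39 zgi38) (kgi xgi10 ygi43 zgi59) (kgi xgi10 ygi44 zgi1) (kgi xgi10 ygi44 zgi4) (kgi xgi2 ygi39 zgi39) (kgi xgi8 ygi28 zgi51) (kgi xgi8 ygi28 zgi49) (kgi xgi2 ygi39 zgi40) (kgi xgi6 ygi6 zgi26) (kgi xgi6 ygi6 zgi24) (kgi xgi10 ygi44 zgi18) (kgi xgi10 ygi44 zgi20) (kgi xgi2 ygi39 zgi42) (kgi xgi2 ygi52 zgi49) (kgi xgi9 ygi46 zgi45) (kgi xgi6 ygi4 zgi27) (kgi xgi2 ygi39 zgi55) (kgi xgi4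 ygi17 zgi59) (kgi xgi4 ygi35 zgi14) (kgi xgi2 ygi43 zgi30) (kgi xgi10 ygi44 zgi33) (kgi xgi10 ygi44 zgi37) (kgi xgi10 ygi44 zgi40) (kgi xgi2 ygi39 zgi47) (kgi xgi8 ygi16 zgi4) (kgi xgi8 ygi16 zgi2) (kgi xgi2 ygi39 zgi48) (kgi xgi6 ygi6 zgi6) (kgi xgi6 ygi6 zgi4) (kgi xgi9 ygi26 zgi16) (kgi xgi5 ygi16 zgi24) (kgi xgi2 ygi39 zgi53) (kgi xgi6 ygi6 zgi38) (kgi xgi10 ygi44 zgi55) (kgi xgi10 ygi44 zgi59) (kgi xgi6 ygi25 zgi22) (kgi xgi10 ygi45 zgi0) (kgi xgi2 ygi39 zgi56) (kgi xgi6 ygi6 zgi32)) (@D3.rec (fun _ => Pt) (kgi xgi6 ygi6 zgi30) (kgi xgi10 ygi45 zgi7) (kgi xgi10 ygi45 zgi9) (kgi xgi2 ygi39 zgi58) (kgi xgi2 ygi39 zgi60) (kgi xgi10 ygi45 zgi13) (kgi xgi10 ygi45 zgi20) (kgi xgi6 ygi44 zgi52) (kgi xgi10 ygi44 zgi29) (kgi xgi2 ygi40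 zgi0) (kgi xgi6 ygi46 zgi0) (kgi xgi10 ygi45 zgi19) (kgi xgi6 ygi44 zgi47) (kgi xgi9 ygi44 zgi45) (kgi xgi6 ygi8 zgi19) (kgi xgi2 ygi39 zgi61) (kgi xgi6 ygi8 zgi21) (kgi xgi7 ygi27 zgi26) (kgi xgi10 ygi45 zgi44) (kgi xgi10 ygi45 zgi47) (kgi xgi6 ygi45 zgi55) (kgi xgi2 ygi40 zgi2) (kgi xgi6 ygi6 zgi55) (kgi xgi6 ygi6 zgi53) (kgi xgi8 ygi59 zgi44) (kgi xgi9 ygi38 zgi36) (kgi xgi10 ygi45 zgi56) (kgi xgi10 ygi19 zgi26) (kgi xgi10 ygi46 zgi0) (kgi xgi2 ygi40 zgi6) (kgi xgi10 ygi46 zgi6) (kgi xgi8 ygi26 zgi25) (kgi xgi10 ygi46 zgi11) (kgi xgi2 ygi40 zgi8) (kgi xgi2 ygi40 zgi23) (kgi xgi2 ygi40 zgi21) (kgi xgi2 ygi40 zgi14) (kgi xgi10 ygi46 zgi18) (kgi xgi8 ygi26 zgi58) (kgi xgi10 ygi46 zgi24) (kgi xgi2 ygi40 zgi12) (kgi xgi8 ygi18 zgi29)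 (kgi xgi8 ygi18 zgi26) (kgi xgi7 ygi57 zgi39) (kgi xgi10 ygi46 zgi34) (kgi xgi10 ygi46 zgi37) (kgi xgi8 ygi26 zgi50) (kgi xgi10 ygi46 zgi42) (kgi xgi6 ygi5 zgi51) (kgi xgi4 ygi15 zgi8) (kgi xgi10 ygi46 zgi47) (kgi xgi4 ygi29 zgi51) (kgi xgi10 ygi46 zgi30) (kgi xgi10 ygi46 zgi55) (kgi xgi5 ygi30 zgi61) (kgi xgi10 ygi46 zgi45) (kgi xgi2 ygi40 zgi18) (kgi xgi8 ygi56 zgi35) (kgi xgi8 ygi56 zgi33) (kgi xgi10 ygi47 zgi10) (kgi xgi10 ygi47 zgi13) (kgi xgi10 ygi47 zgi16)) (@D3.rec (fun _ => Pt) (kgi xgi2 ygi40 zgi20) (kgi xgi3 ygi48 zgi36) (kgi xgi3 ygi48 zgi34) (kgi xgi10 ygi46 zgi10) (kgi xgi5 ygi22 zgi29) (kgi xgi10 ygi46 zgi16) (kgi xgi4 ygi28 zgi54) (kgi xgi8 ygi53 zgi20) (kgi xgi6 ygi56 zgi19) (kgi xgi4 ygi2 zgi46) (kgi xgi10 ygi46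 zgi29) (kgi xgi2 ygi40 zgi24) (kgi xgi9 ygi52 zgi17) (kgi xgi10 ygi17 zgi5) (kgi xgi5 ygi3 zgi2) (kgi xgi4 ygi3 zgi37) (kgi xgi7 ygi56 zgi7) (kgi xgi4 ygi55 zgi4) (kgi xgi8 ygi13 zgi29) (kgi xgi2 ygi40 zgi30) (kgi xgi10 ygi47 zgi45) (kgi xgi4 ygi28 zgi28) (kgi xgi10 ygi47 zgi51) (kgi xgi2 ygi40 zgi31) (kgi xgi8 ygi53 zgi26) (kgi xgi8 ygi53 zgi24) (kgi xgi2 ygi40 zgi32) (kgi xgi8 ygi56 zgi8) (kgi xgi8 ygi56 zgi6) (kgi xgi4 ygi30 zgi28) (kgi xgi10 ygi48 zgi6) (kgi xgi10 ygi48 zgi9) (kgi xgi2 ygi40 zgi34) (kgi xgi8 ygi21 zgi51) (kgi xgi5 ygi26 zgi59) (kgi xgi8 ygi21 zgi47) (kgi xgi2 ygi41 zgi15) (kgi xgi2 ygi40 zgi43) (kgi xgi5 ygi36 zgi25) (kgi xgi2 ygi40 zgi38) (kgi xgi8 ygi21 zgi54) (kgi xgi8 ygi21 zgi52) (kgi xgi5 ygi33 zgi48) (kgi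 xgi10 ygi48 zgi31) (kgi xgi4 ygi41 zgi33) (kgi xgi6 ygi5 zgi58) (kgi xgi10 ygi48 zgi36) (kgi xgi2 ygi40 zgi41) (kgi xgi5 ygi36 zgi39) (kgi xgi5 ygi36 zgi37) (kgi xgi10 ygi48 zgi47) (kgi xgi7 ygi58 zgi60) (kgi xgi10 ygi48 zgi53) (kgi xgi9 ygi44 zgi9) (kgi xgi5 ygi26 zgi37) (kgi xgi5 ygi36 zgi22) (kgi xgi2 ygi40 zgi44) (kgi xgi5 ygi36 zgi20) (kgi xgi5 ygi36 zgi18) (kgi xgi10 ygi49 zgi4) (kgi xgi9 ygi44 zgi0) (kgi xgi10 ygi49 zgi6)) (@D3.rec (fun _ => Pt) (kgi xgi2 ygi50 zgi48) (kgi xgi10 ygi49 zgi10) (kgi xgi10 ygi49 zgi12) (kgi xgi10 ygi49 zgi17) (kgi xgi4 ygi29 zgi59) (kgi xgi10 ygi48 zgi20) (kgi xgi10 ygi48 zgi38) (kgi xgi10 ygi49 zgi16) (kgi xgi5 ygi31 zgi38) (kgi xgi10 ygi49 zgi36) (kgi xgi8 ygi56 zgi51) (kgi xgi5 ygi52 zgi56)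 (kgi xgi2 ygi40 zgi50) (kgi xgi8 ygi56 zgi49) (kgi xgi10 ygi49 zgi47) (kgi xgi2 ygi40 zgi51) (kgi xgi5 ygi53 zgi4) (kgi xgi9 ygi41 zgi2) (kgi xgi10 ygi49 zgi56) (kgi xgi10 ygi49 zgi60) (kgi xgi4 ygi7 zgi46) (kgi xgi4 ygi16 zgi61) (kgi xgi8 ygi24 zgi17) (kgi xgi2 ygi40 zgi58) (kgi xgi2 ygi41 zgi7) (kgi xgi10 ygi50 zgi8) (kgi xgi8 ygi55 zgi58) (kgi xgi10 ygi43 zgi33) (kgi xgi2 ygi40 zgi60) (kgi xgi2 ygi41 zgi21) (kgi xgi4 ygi50 zgi53) (kgi xgi4 ygi8 zgi18) (kgi xgi10 ygi45 zgi54) (kgi xgi4 ygi8 zgi15) (kgi xgi10 ygi50 zgi22) (kgi xgi4 ygi50 zgi47) (kgi xgi4 ygi8 zgi13) (kgi xgi10 ygi50 zgi28) (kgi xgi10 ygi50 zgi31) (kgi xgi8 ygi18 zgi25) (kgi xgi2 ygi41 zgi6) (kgi xgi10 ygi50 zgi6) (kgi xgi10 ygi50 zgi41) (kgi xgi10 ygi50 zgi5) (kgi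 xgi3 ygi58 zgi21) (kgi xgi10 ygi50 zgi44) (kgi xgi10 ygi23 zgi24) (kgi xgi10 ygi50 zgi49) (kgi xgi10 ygi50 zgi51) (kgi xgi10 ygi23 zgi27) (kgi xgi10 ygi50 zgi56) (kgi xgi8 ygi55 zgi46) (kgi xgi8 ygi55 zgi45) (kgi xgi10 ygi50 zgi61) (kgi xgi3 ygi58 zgi20) (kgi xgi4 ygi29 zgi27) (kgi xgi10 ygi43 zgi42) (kgi xgi10 ygi51 zgi6) (kgi xgi5 ygi32 zgi9) (kgi xgi10 ygi50 zgi58) (kgi xgi2 ygi41 zgi18) (kgi xgi8 ygi55 zgi56)) (@D3.rec (fun _ => Pt) (kgi xgi8 ygi55 zgi54) (kgi xgi10 ygi51 zgi21) (kgi xgi10 ygi51 zgi25) (kgi xgi2 ygi41 zgi19) (kgi xgi8 ygi6 zgi5) (kgi xgi10 ygi51 zgi33) (kgi xgi2 ygi41 zgi20) (kgi xgi10 ygi50 zgi15) (kgi xgi10 ygi51 zgi43) (kgi xgi10 ygi50 zgi13) (kgi xgi8 ygi18 zgi8) (kgi xgi10 ygi3 zgi49) (kgi xgi5 ygi23 zgi38)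 (kgi xgi10 ygi51 zgi46) (kgi xgi2 ygi41 zgi23) (kgi xgi8 ygi30 zgi16) (kgi xgi10 ygi51 zgi58) (kgi xgi8 ygi30 zgi14) (kgi xgi2 ygi41 zgi26) (kgi xgi10 ygi52 zgi3) (kgi xgi4 ygi16 zgi27) (kgi xgi10 ygi52 zgi7) (kgi xgi10 ygi52 zgi12) (kgi xgi4 ygi29 zgi36) (kgi xgi6 ygi47 zgi38) (kgi xgi10 ygi48 zgi60) (kgi xgi10 ygi52 zgi11) (kgi xgi5 ygi32 zgi39) (kgi xgi10 ygi52 zgi29) (kgi xgi8 ygi56 zgi18) (kgi xgi10 ygi43 zgi47) (kgi xgi2 ygi41 zgi30) (kgi xgi8 ygi56 zgi17) (kgi xgi9 ygi46 zgi55) (kgi xgi10 ygi49 zgi40) (kgi xgi2 ygi41 zgi31) (kgi xgi10 ygi52 zgi36) (kgi xgi10 ygi52 zgi55) (kgi xgi10 ygi52 zgi34) (kgi xgi2 ygi50 zgi44) (kgi xgi2 ygi41 zgi35) (kgi xgi10 ygi52 zgi61) (kgi xgi9 ygi0 zgi25) (kgi xgi10 ygi53 zgi0) (kgi xgi10 ygi52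 zgi60) (kgi xgi9 ygi31 zgi40) (kgi xgi6 ygi47 zgi31) (kgi xgi10 ygi48 zgi26) (kgi xgi10 ygi53 zgi10) (kgi xgi5 ygi45 zgi20) (kgi xgi10 ygi53 zgi12) (kgi xgi10 ygi53 zgi15) (kgi xgi10 ygi53 zgi9) (kgi xgi2 ygi45 zgi53) (kgi xgi8 ygi33 zgi50) (kgi xgi8 ygi24 zgi56) (kgi xgi2 ygi41 zgi43) (kgi xgi6 ygi19 zgi45) (kgi xgi10 ygi53 zgi23) (kgi xgi8 ygi23 zgi24) (kgi xgi10 ygi53 zgi26) (kgi xgi5 ygi27 zgi51)) (@D3.rec (fun _ => Pt) (kgi xgi10 ygi53 zgi32) (kgi xgi2 ygi41 zgi48) (kgi xgi2 ygi41 zgi57) (kgi xgi2 ygi41 zgi54) (kgi xgi10 ygi53 zgi40) (kgi xgi8 ygi59 zgi53) (kgi xgi2 ygi41 zgi50) (kgi xgi8 ygi57 zgi50) (kgi xgi8 ygi57 zgi48) (kgi xgi10 ygi53 zgi51) (kgi xgi10 ygi53 zgi55) (kgi xgi2 ygi41 zgi51) (kgi xgi8 ygi27 zgi3) (kgi xgi10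 ygi54 zgi1) (kgi xgi2 ygi41 zgi52) (kgi xgi10 ygi53 zgi34) (kgi xgi10 ygi17 zgi3) (kgi xgi10 ygi53 zgi31) (kgi xgi8 ygi39 zgi30) (kgi xgi10 ygi19 zgi21) (kgi xgi10 ygi21 zgi2) (kgi xgi6 ygi6 zgi23) (kgi xgi8 ygi54 zgi13) (kgi xgi10 ygi54 zgi14) (kgi xgi10 ygi54 zgi18) (kgi xgi10 ygi46 zgi4) (kgi xgi10 ygi53 zgi33) (kgi xgi2 ygi41 zgi58) (kgi xgi3 ygi58 zgi46) (kgi xgi3 ygi58 zgi44) (kgi xgi5 ygi33 zgi52) (kgi xgi10 ygi54 zgi42) (kgi xgi10 ygi54 zgi45) (kgi xgi10 ygi41 zgi20) (kgi xgi10 ygi54 zgi49) (kgi xgi8 ygi59 zgi55) (kgi xgi8 ygi55 zgi13) (kgi xgi5 ygi34 zgi10) (kgi xgi5 ygi29 zgi4) (kgi xgi10 ygi55 zgi0) (kgi xgi2 ygi42 zgi1) (kgi xgi8 ygi58 zgi4) (kgi xgi10 ygi55 zgi10) (kgi xgi10 ygi55 zgi14) (kgi xgi2 ygi42 zgi2) (kgi xgi10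 ygi55 zgi2) (kgi xgi9 ygi3 zgi0) (kgi xgi10 ygi54 zgi61) (kgi xgi10 ygi54 zgi34) (kgi xgi4 ygi34 zgi9) (kgi xgi4 ygi56 zgi19) (kgi xgi10 ygi55 zgi25) (kgi xgi2 ygi42 zgi5) (kgi xgi5 ygi41 zgi11) (kgi xgi5 ygi41 zgi8) (kgi xgi10 ygi54 zgi35) (kgi xgi9 ygi51 zgi13) (kgi xgi8 ygi59 zgi51) (kgi xgi2 ygi42 zgi8) (kgi xgi8 ygi57 zgi37) (kgi xgi8 ygi57 zgi34) (kgi xgi8 ygi53 zgi3)) (@D3.rec (fun _ => Pt) (kgi xgi10 ygi22 zgi20) (kgi xgi8 ygi58 zgi56) (kgi xgi9 ygi58 zgi12) (kgi xgi10 ygi55 zgi43) (kgi xgi8 ygi59 zgi41) (kgi xgi9 ygi58 zgi54) (kgi xgi10 ygi55 zgi49) (kgi xgi10 ygi55 zgi53) (kgi xgi10 ygi55 zgi56) (kgi xgi5 ygi29 zgi55) (kgi xgi10 ygi56 zgi0) (kgi xgi2 ygi42 zgi18) (kgi xgi2 ygi42 zgi26) (kgi xgi2 ygi42 zgi24) (kgi xgi10 ygi56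 zgi6) (kgi xgi10 ygi56 zgi9) (kgi xgi10 ygi50 zgi0) (kgi xgi2 ygi42 zgi21) (kgi xgi8 ygi57 zgi4) (kgi xgi8 ygi57 zgi2) (kgi xgi10 ygi56 zgi19) (kgi xgi10 ygi56 zgi23) (kgi xgi2 ygi42 zgi22) (kgi xgi8 ygi6 zgi9) (kgi xgi10 ygi56 zgi30) (kgi xgi2 ygi42 zgi23) (kgi xgi10 ygi56 zgi2) (kgi xgi10 ygi56 zgi42) (kgi xgi10 ygi55 zgi61) (kgi xgi8 ygi6 zgi19) (kgi xgi8 ygi34 zgi47) (kgi xgi10 ygi31 zgi43) (kgi xgi10 ygi56 zgi45) (kgi xgi4 ygi7 zgi40) (kgi xgi10 ygi56 zgi53) (kgi xgi10 ygi56 zgi56) (kgi xgi4 ygi56 zgi12) (kgi xgi10 ygi56 zgi55) (kgi xgi10 ygi57 zgi0) (kgi xgi5 ygi30 zgi23) (kgi xgi10 ygi57 zgi5) (kgi xgi2 ygi42 zgi30) (kgi xgi8 ygi57 zgi24) (kgi xgi10 ygi57 zgi12) (kgi xgi10 ygi57 zgi15) (kgi xgi2 ygi42 zgi31) (kgi xgi9 ygi48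 zgi35) (kgi xgi10 ygi57 zgi4) (kgi xgi4 ygi56 zgi20) (kgi xgi8 ygi34 zgi48) (kgi xgi9 ygi6 zgi33) (kgi xgi2 ygi43 zgi7) (kgi xgi9 ygi38 zgi58) (kgi xgi8 ygi55 zgi4) (kgi xgi5 ygi56 zgi55) (kgi xgi10 ygi57 zgi32) (kgi xgi10 ygi57 zgi36) (kgi xgi2 ygi43 zgi14) (kgi xgi8 ygi59 zgi42) (kgi xgi10 ygi57 zgi35) (kgi xgi8 ygi59 zgi24) (kgi xgi8 ygi58 zgi44)) (@D3.rec (fun _ => Pt) (kgi xgi5 ygi36 zgi47) (kgi xgi10 ygi57 zgi53) (kgi xgi2 ygi42 zgi43) (kgi xgi8 ygi58 zgi41) (kgi xgi10 ygi58 zgi0) (kgi xgi10 ygi58 zgi4) (kgi xgi2 ygi42 zgi44) (kgi xgi8 ygi58 zgi42) (kgi xgi10 ygi58 zgi13) (kgi xgi10 ygi58 zgi17) (kgi xgi2 ygi42 zgi45) (kgi xgi10 ygi57 zgi55) (kgi xgi10 ygi58 zgi25) (kgi xgi6 ygi3 zgi49) (kgi xgi8 ygi58 zgi55) (kgi xgi3 ygi5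 zgi28) (kgi xgi2 ygi43 zgi6) (kgi xgi10 ygi58 zgi34) (kgi xgi2 ygi42 zgi48) (kgi xgi8 ygi58 zgi30) (kgi xgi8 ygi58 zgi28) (kgi xgi2 ygi42 zgi49) (kgi xgi8 ygi58 zgi34) (kgi xgi10 ygi58 zgi42) (kgi xgi8 ygi58 zgi31) (kgi xgi8 ygi59 zgi9) (kgi xgi10 ygi58 zgi48) (kgi xgi2 ygi43 zgi15) (kgi xgi2 ygi42 zgi61) (kgi xgi10 ygi58 zgi47) (kgi xgi8 ygi59 zgi33) (kgi xgi10 ygi59 zgi1) (kgi xgi8 ygi8 zgi54) (kgi xgi5 ygi39 zgi25) (kgi xgi10 ygi59 zgi4) (kgi xgi2 ygi42 zgi54) (kgi xgi8 ygi8 zgi56) (kgi xgi10 ygi59 zgi9) (kgi xgi2 ygi42 zgi55) (kgi xgi8 ygi58 zgi21) (kgi xgi10 ygi59 zgi19) (kgi xgi9 ygi30 zgi24) (kgi xgi2 ygi42 zgi56) (kgi xgi5 ygi59 zgi6) (kgi xgi9 ygi30 zgi60) (kgi xgi10 ygi45 zgi46) (kgi xgi8 ygi58 zgi35) (kgi xgi10 ygi59 zgi32)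 (kgi xgi10 ygi58 zgi30) (kgi xgi10 ygi55 zgi44) (kgi xgi10 ygi58 zgi53) (kgi xgi8 ygi58 zgi18) (kgi xgi7 ygi58 zgi34) (kgi xgi10 ygi59 zgi45) (kgi xgi10 ygi59 zgi50) (kgi xgi10 ygi58 zgi54) (kgi xgi2 ygi43 zgi0) (kgi xgi2 ygi43 zgi5) (kgi xgi10 ygi59 zgi58) (kgi xgi11 ygi0 zgi2) (kgi xgi11 ygi0 zgi7) (kgi xgi10 ygi39 zgi52)) (@D3.rec (fun _ => Pt) (kgi xgi2 ygi43 zgi1) (kgi xgi11 ygi0 zgi14) (kgi xgi10 ygi58 zgi37) (kgi xgi5 ygi28 zgi42) (kgi xgi2 ygi43 zgi2) (kgi xgi10 ygi58 zgi40) (kgi xgi5 ygi45 zgi15) (kgi xgi8 ygi58 zgi13) (kgi xgi2 ygi43 zgi4) (kgi xgi10 ygi53 zgi45) (kgi xgi5 ygi31 zgi34) (kgi xgi10 ygi58 zgi7) (kgi xgi11 ygi0 zgi35) (kgi xgi10 ygi31 zgi29) (kgi xgi11 ygi0 zgi1) (kgi xgi11 ygi0 zgi43) (kgi xgi11 ygi0 zgi13)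 (kgi xgi11 ygi0 zgi48) (kgi xgi10 ygi57 zgi27) (kgi xgi4 ygi36 zgi1) (kgi xgi10 ygi57 zgi28) (kgi xgi9 ygi3 zgi61) (kgi xgi11 ygi0 zgi56) (kgi xgi10 ygi59 zgi39) (kgi xgi11 ygi0 zgi60) (kgi xgi10 ygi57 zgi33) (kgi xgi11 ygi0 zgi59) (kgi xgi2 ygi43 zgi11) (kgi xgi9 ygi4 zgi1) (kgi xgi11 ygi1 zgi10) (kgi xgi11 ygi1 zgi14) (kgi xgi2 ygi43 zgi12) (kgi xgi11 ygi0 zgi57) (kgi xgi11 ygi0 zgi55) (kgi xgi2 ygi43 zgi13) (kgi xgi10 ygi45 zgi10) (kgi xgi11 ygi1 zgi32) (kgi xgi8 ygi58 zgi37) (kgi xgi11 ygi1 zgi36) (kgi xgi8 ygi58 zgi16) (kgi xgi11 ygi1 zgi40) (kgi xgi11 ygi1 zgi43) (kgi xgi2 ygi43 zgi16) (kgi xgi4 ygi34 zgi18) (kgi xgi9 ygi1 zgi2) (kgi xgi10 ygi57 zgi47) (kgi xgi4 ygi42 zgi61) (kgi xgi11 ygi1 zgi53) (kgi xgi11 ygi1 zgi56) (kgi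 xgi6 ygi2 zgi49) (kgi xgi2 ygi47 zgi31) (kgi xgi8 ygi58 zgi40) (kgi xgi4 ygi43 zgi46) (kgi xgi5 ygi53 zgi14) (kgi xgi10 ygi45 zgi4) (kgi xgi4 ygi35 zgi47) (kgi xgi8 ygi58 zgi11) (kgi xgi2 ygi43 zgi22) (kgi xgi6 ygi6 zgi56) (kgi xgi10 ygi23 zgi18) (kgi xgi8 ygi27 zgi14) (kgi xgi5 ygi28 zgi10)) (@D3.rec (fun _ => Pt) (kgi xgi10 ygi54 zgi27) (kgi xgi8 ygi58 zgi3) (kgi xgi6 ygi7 zgi29) (kgi xgi2 ygi43 zgi25) (kgi xgi2 ygi52 zgi53) (kgi xgi10 ygi24 zgi28) (kgi xgi11 ygi2 zgi26) (kgi xgi10 ygi51 zgi56) (kgi xgi10 ygi44 zgi48) (kgi xgi6 ygi47 zgi30) (kgi xgi9 ygi6 zgi53) (kgi xgi11 ygi2 zgi32) (kgi xgi3 ygi58 zgi36) (kgi xgi5 ygi25 zgi46) (kgi xgi11 ygi2 zgi36) (kgi xgi9 ygi51 zgi50) (kgi xgi11 ygi2 zgi40) (kgi xgi2 ygi43 zgi34) (kgi xgi11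 ygi2 zgi46) (kgi xgi8 ygi39 zgi32) (kgi xgi11 ygi2 zgi50) (kgi xgi2 ygi43 zgi36) (kgi xgi2 ygi43 zgi53) (kgi xgi2 ygi43 zgi50) (kgi xgi11 ygi2 zgi57) (kgi xgi11 ygi2 zgi60) (kgi xgi9 ygi51 zgi33) (kgi xgi11 ygi3 zgi4) (kgi xgi2 ygi43 zgi41) (kgi xgi9 ygi0 zgi40) (kgi xgi8 ygi37 zgi40) (kgi xgi4 ygi27 zgi32) (kgi xgi11 ygi3 zgi13) (kgi xgi11 ygi3 zgi16) (kgi xgi9 ygi51 zgi30) (kgi xgi11 ygi3 zgi21) (kgi xgi6 ygi7 zgi15) (kgi xgi4 ygi20 zgi24) (kgi xgi11 ygi3 zgi26) (kgi xgi4 ygi56 zgi3) (kgi xgi11 ygi3 zgi10) (kgi xgi11 ygi3 zgi35) (kgi xgi8 ygi27 zgi52) (kgi xgi11 ygi3 zgi24) (kgi xgi2 ygi43 zgi47) (kgi xgi9 ygi0 zgi49) (kgi xgi9 ygi0 zgi47) (kgi xgi10 ygi57 zgi60) (kgi xgi11 ygi3 zgi51) (kgi xgi2 ygi43 zgi48) (kgi xgi5 ygi35 zgi51)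 (kgi xgi5 ygi35 zgi49) (kgi xgi11 ygi3 zgi60) (kgi xgi2 ygi43 zgi49) (kgi xgi11 ygi2 zgi52) (kgi xgi11 ygi4 zgi7) (kgi xgi10 ygi47 zgi25) (kgi xgi8 ygi16 zgi25) (kgi xgi10 ygi35 zgi20) (kgi xgi4 ygi6 zgi45) (kgi xgi9 ygi41 zgi5) (kgi xgi11 ygi4 zgi12)) (@D3.rec (fun _ => Pt) (kgi xgi11 ygi3 zgi9) (kgi xgi2 ygi43 zgi52) (kgi xgi9 ygi33 zgi27) (kgi xgi11 ygi4 zgi27) (kgi xgi9 ygi33 zgi25) (kgi xgi5 ygi15 zgi0) (kgi xgi8 ygi2 zgi46) (kgi xgi10 ygi11 zgi30) (kgi xgi4 ygi50 zgi33) (kgi xgi4 ygi8 zgi56) (kgi xgi6 ygi4 zgi46) (kgi xgi11 ygi4 zgi38) (kgi xgi10 ygi55 zgi52) (kgi xgi4 ygi55 zgi38) (kgi xgi11 ygi4 zgi43) (kgi xgi2 ygi44 zgi1) (kgi xgi9 ygi41 zgi18) (kgi xgi9 ygi41 zgi16) (kgi xgi2 ygi44 zgi2) (kgi xgi5 ygi28 zgi58) (kgi xgi5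 ygi28 zgi56) (kgi xgi11 ygi4 zgi56) (kgi xgi2 ygi44 zgi3) (kgi xgi5 ygi28 zgi55) (kgi xgi6 ygi6 zgi12) (kgi xgi5 ygi28 zgi37) (kgi xgi2 ygi45 zgi28) (kgi xgi6 ygi7 zgi9) (kgi xgi4 ygi3 zgi40) (kgi xgi11 ygi5 zgi3) (kgi xgi7 ygi57 zgi54) (kgi xgi11 ygi5 zgi8) (kgi xgi8 ygi35 zgi1) (kgi xgi11 ygi5 zgi14) (kgi xgi2 ygi44 zgi9) (kgi xgi11 ygi5 zgi4) (kgi xgi4 ygi6 zgi31) (kgi xgi2 ygi44 zgi10) (kgi xgi5 ygi28 zgi49) (kgi xgi5 ygi28 zgi47) (kgi xgi11 ygi5 zgi27) (kgi xgi5 ygi26 zgi19) (kgi xgi11 ygi2 zgi20) (kgi xgi2 ygi59 zgi4) (kgi xgi8 ygi9 zgi44) (kgi xgi11 ygi5 zgi35) (kgi xgi11 ygi5 zgi39) (kgi xgi4 ygi30 zgi16) (kgi xgi10 ygi48 zgi14) (kgi xgi8 ygi59 zgi35) (kgi xgi11 ygi5 zgi38) (kgi xgi5 ygi33 zgi0) (kgi xgi11 ygi5 zgi55) (kgi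 xgi5 ygi22 zgi21) (kgi xgi7 ygi58 zgi24) (kgi xgi7 ygi57 zgi61) (kgi xgi7 ygi58 zgi1) (kgi xgi11 ygi6 zgi0) (kgi xgi11 ygi6 zgi4) (kgi xgi2 ygi44 zgi21) (kgi xgi4 ygi56 zgi29) (kgi xgi4 ygi6 zgi37)) (@D3.rec (fun _ => Pt) (kgi xgi5 ygi3 zgi38) (kgi xgi8 ygi11 zgi38) (kgi xgi4 ygi18 zgi55) (kgi xgi4 ygi5 zgi3) (kgi xgi8 ygi15 zgi39) (kgi xgi2 ygi44 zgi28) (kgi xgi3 ygi10 zgi16) (kgi xgi8 ygi42 zgi47) (kgi xgi4 ygi23 zgi25) (kgi xgi4 ygi22 zgi1) (kgi xgi11 ygi6 zgi15) (kgi xgi8 ygi43 zgi23) (kgi xgi3 ygi9 zgi56) (kgi xgi4 ygi32 zgi60) (kgi xgi10 ygi31 zgi38) (kgi xgi11 ygi6 zgi23) (kgi xgi5 ygi42 zgi11) (kgi xgi4 ygi39 zgi12) (kgi xgi3 ygi0 zgi29) (kgi xgi2 ygi45 zgi16) (kgi xgi4 ygi31 zgi42) (kgi xgi11 ygi6 zgi27) (kgi xgi11 ygi6 zgi31)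 (kgi xgi2 ygi44 zgi39) (kgi xgi5 ygi42 zgi6) (kgi xgi5 ygi42 zgi4) (kgi xgi9 ygi1 zgi20) (kgi xgi2 ygi45 zgi56) (kgi xgi2 ygi49 zgi23) (kgi xgi9 ygi0 zgi27) (kgi xgi4 ygi57 zgi13) (kgi xgi5 ygi43 zgi45) (kgi xgi6 ygi42 zgi13) (kgi xgi2 ygi44 zgi44) (kgi xgi5 ygi40 zgi45) (kgi xgi5 ygi0 zgi21) (kgi xgi3 ygi4 zgi58) (kgi xgi2 ygi45 zgi10) (kgi xgi2 ygi44 zgi51) (kgi xgi9 ygi19 zgi49) (kgi xgi3 ygi58 zgi60) (kgi xgi2 ygi44 zgi48) (kgi xgi6 ygi14 zgi32) (kgi xgi9 ygi2 zgi61) (kgi xgi2 ygi44 zgi49) (kgi xgi5 ygi40 zgi41) (kgi xgi11 ygi6 zgi59) (kgi xgi2 ygi44 zgi50) (kgi xgi5 ygi40 zgi40) (kgi xgi5 ygi40 zgi38) (kgi xgi9 ygi1 zgi19) (kgi xgi8 ygi37 zgi41) (kgi xgi11 ygi7 zgi5) (kgi xgi4 ygi7 zgi8) (kgi xgi2 ygi44 zgi52) (kgi xgi2 ygi44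 zgi56) (kgi xgi2 ygi47 zgi52) (kgi xgi5 ygi12 zgi29) (kgi xgi11 ygi7 zgi10) (kgi xgi8 ygi49 zgi47) (kgi xgi2 ygi44 zgi55) (kgi xgi6 ygi15 zgi29)) (@D3.rec (fun _ => Pt) (kgi xgi4 ygi57 zgi5) (kgi xgi5 ygi43 zgi21) (kgi xgi11 ygi7 zgi9) (kgi xgi6 ygi47 zgi35) (kgi xgi8 ygi49 zgi9) (kgi xgi11 ygi7 zgi27) (kgi xgi2 ygi44 zgi59) (kgi xgi2 ygi45 zgi5) (kgi xgi11 ygi7 zgi1) (kgi xgi11 ygi7 zgi33) (kgi xgi9 ygi46 zgi48) (kgi xgi9 ygi3 zgi58) (kgi xgi4 ygi36 zgi61) (kgi xgi9 ygi46 zgi41) (kgi xgi2 ygi45 zgi0) (kgi xgi8 ygi48 zgi55) (kgi xgi11 ygi7 zgi50) (kgi xgi8 ygi48 zgi31) (kgi xgi2 ygi45 zgi1) (kgi xgi8 ygi49 zgi26) (kgi xgi11 ygi7 zgi26) (kgi xgi11 ygi7 zgi2) (kgi xgi11 ygi7 zgi7) (kgi xgi4 ygi35 zgi1) (kgi xgi11 ygi8 zgi5) (kgi xgi10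 ygi3 zgi54) (kgi xgi4 ygi34 zgi51) (kgi xgi11 ygi8 zgi11) (kgi xgi2 ygi51 zgi45) (kgi xgi9 ygi45 zgi46) (kgi xgi5 ygi39 zgi45) (kgi xgi6 ygi2 zgi5) (kgi xgi5 ygi3 zgi16) (kgi xgi9 ygi46 zgi47) (kgi xgi2 ygi45 zgi9) (kgi xgi9 ygi0 zgi9) (kgi xgi6 ygi17 zgi5) (kgi xgi7 ygi14 zgi29) (kgi xgi9 ygi39 zgi19) (kgi xgi8 ygi13 zgi49) (kgi xgi10 ygi26 zgi39) (kgi xgi11 ygi6 zgi11) (kgi xgi4 ygi25 zgi37) (kgi xgi2 ygi45 zgi15) (kgi xgi6 ygi7 zgi53) (kgi xgi5 ygi6 zgi31) (kgi xgi11 ygi8 zgi28) (kgi xgi11 ygi8 zgi32) (kgi xgi11 ygi8 zgi34) (kgi xgi5 ygi50 zgi14) (kgi xgi6 ygi5 zgi57) (kgi xgi10 ygi42 zgi35) (kgi xgi4 ygi14 zgi26) (kgi xgi10 ygi20 zgi28) (kgi xgi11 ygi8 zgi40) (kgi xgi11 ygi8 zgi44) (kgi xgi4 ygi6 zgi51) (kgi xgi11 ygi8 zgi48)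 (kgi xgi8 ygi28 zgi25) (kgi xgi11 ygi8 zgi53) (kgi xgi8 ygi9 zgi39) (kgi xgi8 ygi9 zgi37)) (@D3.rec (fun _ => Pt) (kgi xgi11 ygi8 zgi59) (kgi xgi11 ygi5 zgi34) (kgi xgi11 ygi9 zgi3) (kgi xgi11 ygi8 zgi56) (kgi xgi2 ygi45 zgi31) (kgi xgi8 ygi9 zgi47) (kgi xgi8 ygi9 zgi45) (kgi xgi11 ygi9 zgi15) (kgi xgi2 ygi45 zgi32) (kgi xgi8 ygi10 zgi10) (kgi xgi11 ygi9 zgi23) (kgi xgi8 ygi8 zgi0) (kgi xgi4 ygi14 zgi7) (kgi xgi4 ygi3 zgi47) (kgi xgi9 ygi53 zgi13) (kgi xgi9 ygi41 zgi52) (kgi xgi8 ygi36 zgi52) (kgi xgi2 ygi45 zgi35) (kgi xgi8 ygi10 zgi20) (kgi xgi11 ygi9 zgi39) (kgi xgi8 ygi10 zgi17) (kgi xgi11 ygi9 zgi44) (kgi xgi4 ygi53 zgi7) (kgi xgi11 ygi1 zgi44) (kgi xgi11 ygi9 zgi51) (kgi xgi4 ygi30 zgi7) (kgi xgi10 ygi48 zgi34) (kgi xgi10 ygi48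 zgi22) (kgi xgi11 ygi9 zgi50) (kgi xgi5 ygi33 zgi33) (kgi xgi11 ygi10 zgi7) (kgi xgi11 ygi10 zgi11) (kgi xgi2 ygi45 zgi43) (kgi xgi11 ygi10 zgi13) (kgi xgi9 ygi30 zgi59) (kgi xgi11 ygi10 zgi10) (kgi xgi2 ygi45 zgi44) (kgi xgi9 ygi32 zgi35) (kgi xgi9 ygi1 zgi10) (kgi xgi2 ygi45 zgi46) (kgi xgi7 ygi57 zgi40) (kgi xgi11 ygi5 zgi6) (kgi xgi11 ygi10 zgi35) (kgi xgi11 ygi5 zgi24) (kgi xgi11 ygi10 zgi39) (kgi xgi5 ygi38 zgi32) (kgi xgi10 ygi37 zgi40) (kgi xgi11 ygi2 zgi29) (kgi xgi4 ygi19 zgi32) (kgi xgi3 ygi7 zgi58) (kgi xgi4 ygi52 zgi17) (kgi xgi8 ygi25 zgi23) (kgi xgi3 ygi7 zgi54) (kgi xgi9 ygi17 zgi43) (kgi xgi4 ygi17 zgi53) (kgi xgi8 ygi24 zgi54) (kgi xgi7 ygi26 zgi14) (kgi xgi2 ygi49 zgi26) (kgi xgi4 ygi57 zgi20) (kgi xgi5 ygi46 zgi56)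 (kgi xgi11 ygi10 zgi53) (kgi xgi9 ygi0 zgi16)) (@D3.rec (fun _ => Pt) (kgi xgi10 ygi19 zgi0) (kgi xgi6 ygi15 zgi31) (kgi xgi5 ygi46 zgi54) (kgi xgi7 ygi59 zgi49) (kgi xgi7 ygi59 zgi33) (kgi xgi5 ygi42 zgi24) (kgi xgi5 ygi28 zgi54) (kgi xgi2 ygi45 zgi61) (kgi xgi6 ygi9 zgi9) (kgi xgi3 ygi0 zgi57) (kgi xgi11 ygi11 zgi7) (kgi xgi2 ygi46 zgi0) (kgi xgi8 ygi49 zgi24) (kgi xgi11 ygi10 zgi56) (kgi xgi7 ygi23 zgi30) (kgi xgi10 ygi55 zgi29) (kgi xgi7 ygi59 zgi48) (kgi xgi7 ygi59 zgi9) (kgi xgi5 ygi43 zgi58) (kgi xgi4 ygi32 zgi57) (kgi xgi5 ygi44 zgi22) (kgi xgi9 ygi1 zgi43) (kgi xgi11 ygi11 zgi23) (kgi xgi9 ygi45 zgi18) (kgi xgi11 ygi11 zgi27) (kgi xgi11 ygi11 zgi31) (kgi xgi8 ygi44 zgi27) (kgi xgi5 ygi43 zgi41) (kgi xgi11 ygi11 zgi38) (kgi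 xgi2 ygi46 zgi12) (kgi xgi9 ygi1 zgi41) (kgi xgi11 ygi7 zgi47) (kgi xgi4 ygi26 zgi24) (kgi xgi2 ygi46 zgi13) (kgi xgi11 ygi11 zgi24) (kgi xgi11 ygi11 zgi22) (kgi xgi5 ygi43 zgi16) (kgi xgi11 ygi11 zgi58) (kgi xgi2 ygi46 zgi15) (kgi xgi5 ygi37 zgi49) (kgi xgi5 ygi37 zgi47) (kgi xgi5 ygi37 zgi44) (kgi xgi11 ygi12 zgi1) (kgi xgi11 ygi12 zgi2) (kgi xgi5 ygi37 zgi35) (kgi xgi5 ygi37 zgi33) (kgi xgi11 ygi12 zgi5) (kgi xgi11 ygi12 zgi6) (kgi xgi6 ygi12 zgi32) (kgi xgi11 ygi11 zgi60) (kgi xgi2 ygi46 zgi20) (kgi xgi9 ygi1 zgi32) (kgi xgi11 ygi12 zgi18) (kgi xgi9 ygi1 zgi30) (kgi xgi9 ygi45 zgi32) (kgi xgi5 ygi42 zgi25) (kgi xgi11 ygi12 zgi4) (kgi xgi2 ygi46 zgi33) (kgi xgi11 ygi12 zgi29) (kgi xgi11 ygi12 zgi32) (kgi xgi6 ygi14 zgi4) (kgi xgi8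 ygi21 zgi50)) (@D3.rec (fun _ => Pt) (kgi xgi6 ygi8 zgi52) (kgi xgi9 ygi4 zgi15) (kgi xgi9 ygi57 zgi60) (kgi xgi2 ygi46 zgi34) (kgi xgi11 ygi12 zgi20) (kgi xgi5 ygi45 zgi57) (kgi xgi11 ygi12 zgi31) (kgi xgi7 ygi59 zgi28) (kgi xgi4 ygi29 zgi38) (kgi xgi9 ygi45 zgi45) (kgi xgi5 ygi31 zgi54) (kgi xgi5 ygi31 zgi52) (kgi xgi2 ygi46 zgi38) (kgi xgi9 ygi1 zgi56) (kgi xgi9 ygi1 zgi54) (kgi xgi5 ygi14 zgi5) (kgi xgi3 ygi36 zgi57) (kgi xgi2 ygi47 zgi49) (kgi xgi11 ygi12 zgi51) (kgi xgi2 ygi55 zgi50) (kgi xgi2 ygi46 zgi47) (kgi xgi11 ygi12 zgi56) (kgi xgi8 ygi0 zgi13) (kgi xgi11 ygi12 zgi59) (kgi xgi9 ygi5 zgi18) (kgi xgi2 ygi57 zgi58) (kgi xgi7 ygi59 zgi16) (kgi xgi9 ygi3 zgi28) (kgi xgi11 ygi12 zgi55) (kgi xgi9 ygi45 zgi56) (kgi xgi9 ygi5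 zgi8) (kgi xgi4 ygi23 zgi12) (kgi xgi9 ygi2 zgi36) (kgi xgi9 ygi2 zgi43) (kgi xgi11 ygi13 zgi19) (kgi xgi3 ygi58 zgi61) (kgi xgi4 ygi23 zgi34) (kgi xgi2 ygi57 zgi50) (kgi xgi4 ygi23 zgi11) (kgi xgi11 ygi13 zgi22) (kgi xgi2 ygi46 zgi53) (kgi xgi9 ygi2 zgi31) (kgi xgi11 ygi13 zgi34) (kgi xgi11 ygi13 zgi38) (kgi xgi2 ygi46 zgi54) (kgi xgi8 ygi37 zgi0) (kgi xgi3 ygi57 zgi31) (kgi xgi11 ygi13 zgi43) (kgi xgi11 ygi13 zgi47) (kgi xgi6 ygi15 zgi52) (kgi xgi9 ygi45 zgi36) (kgi xgi11 ygi13 zgi54) (kgi xgi2 ygi46 zgi57) (kgi xgi9 ygi2 zgi32) (kgi xgi11 ygi14 zgi2) (kgi xgi11 ygi14 zgi6) (kgi xgi2 ygi46 zgi58) (kgi xgi11 ygi13 zgi20) (kgi xgi11 ygi14 zgi10) (kgi xgi11 ygi13 zgi18) (kgi xgi7 ygi59 zgi10) (kgi xgi6 ygi9 zgi1)) (@D3.rec (fun _ =>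 Pt) (kgi xgi5 ygi40 zgi42) (kgi xgi4 ygi42 zgi55) (kgi xgi9 ygi45 zgi16) (kgi xgi6 ygi45 zgi23) (kgi xgi2 ygi47 zgi1) (kgi xgi5 ygi37 zgi25) (kgi xgi5 ygi37 zgi23) (kgi xgi2 ygi47 zgi48) (kgi xgi9 ygi45 zgi38) (kgi xgi11 ygi14 zgi34) (kgi xgi5 ygi37 zgi17) (kgi xgi2 ygi57 zgi48) (kgi xgi9 ygi2 zgi11) (kgi xgi11 ygi14 zgi39) (kgi xgi11 ygi14 zgi41) (kgi xgi5 ygi46 zgi8) (kgi xgi11 ygi14 zgi28) (kgi xgi2 ygi47 zgi6) (kgi xgi9 ygi2 zgi21) (kgi xgi11 ygi14 zgi52) (kgi xgi9 ygi2 zgi19) (kgi xgi5 ygi43 zgi25) (kgi xgi11 ygi14 zgi57) (kgi xgi11 ygi14 zgi59) (kgi xgi5 ygi40 zgi2) (kgi xgi2 ygi49 zgi31) (kgi xgi11 ygi15 zgi4) (kgi xgi8 ygi44 zgi38) (kgi xgi11 ygi15 zgi8) (kgi xgi2 ygi48 zgi46) (kgi xgi2 ygi48 zgi3) (kgi xgi11 ygi15 zgi5) (kgi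 xgi11 ygi15 zgi7) (kgi xgi11 ygi5 zgi46) (kgi xgi8 ygi43 zgi36) (kgi xgi9 ygi2 zgi5) (kgi xgi11 ygi15 zgi24) (kgi xgi4 ygi34 zgi16) (kgi xgi3 ygi36 zgi48) (kgi xgi3 ygi59 zgi1) (kgi xgi4 ygi56 zgi54) (kgi xgi8 ygi42 zgi54) (kgi xgi2 ygi47 zgi21) (kgi xgi8 ygi43 zgi35) (kgi xgi11 ygi15 zgi40) (kgi xgi11 ygi15 zgi45) (kgi xgi2 ygi47 zgi22) (kgi xgi3 ygi36 zgi46) (kgi xgi11 ygi15 zgi49) (kgi xgi11 ygi14 zgi36) (kgi xgi2 ygi47 zgi39) (kgi xgi11 ygi15 zgi48) (kgi xgi6 ygi44 zgi60) (kgi xgi2 ygi47 zgi25) (kgi xgi9 ygi2 zgi1) (kgi xgi11 ygi16 zgi4) (kgi xgi11 ygi16 zgi7) (kgi xgi2 ygi47 zgi26) (kgi xgi11 ygi15 zgi26) (kgi xgi11 ygi16 zgi15) (kgi xgi11 ygi15 zgi23) (kgi xgi8 ygi44 zgi24)) (@D3.rec (fun _ => Pt) (kgi xgi5 ygi49 zgi42) (kgi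 xgi11 ygi16 zgi20) (kgi xgi2 ygi47 zgi57) (kgi xgi9 ygi3 zgi23) (kgi xgi9 ygi2 zgi56) (kgi xgi11 ygi16 zgi27) (kgi xgi8 ygi59 zgi39) (kgi xgi2 ygi48 zgi8) (kgi xgi2 ygi52 zgi24) (kgi xgi9 ygi4 zgi58) (kgi xgi2 ygi48 zgi9) (kgi xgi11 ygi16 zgi35) (kgi xgi2 ygi56 zgi56) (kgi xgi9 ygi1 zgi21) (kgi xgi11 ygi10 zgi49) (kgi xgi11 ygi14 zgi42) (kgi xgi11 ygi6 zgi37) (kgi xgi11 ygi14 zgi49) (kgi xgi5 ygi44 zgi10) (kgi xgi4 ygi57 zgi9) (kgi xgi5 ygi43 zgi61) (kgi xgi5 ygi37 zgi56) (kgi xgi2 ygi47 zgi54) (kgi xgi5 ygi37 zgi31) (kgi xgi11 ygi16 zgi52) (kgi xgi5 ygi42 zgi50) (kgi xgi9 ygi45 zgi20) (kgi xgi11 ygi16 zgi59) (kgi xgi2 ygi47 zgi46) (kgi xgi2 ygi47 zgi56) (kgi xgi8 ygi21 zgi30) (kgi xgi11 ygi17 zgi7) (kgi xgi11 ygi17 zgi10) (kgi xgi11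 ygi16 zgi40) (kgi xgi2 ygi47 zgi47) (kgi xgi9 ygi2 zgi14) (kgi xgi9 ygi2 zgi53) (kgi xgi4 ygi34 zgi14) (kgi xgi2 ygi48 zgi6) (kgi xgi6 ygi15 zgi37) (kgi xgi5 ygi7 zgi38) (kgi xgi5 ygi40 zgi24) (kgi xgi11 ygi17 zgi24) (kgi xgi2 ygi47 zgi53) (kgi xgi6 ygi16 zgi21) (kgi xgi9 ygi45 zgi22) (kgi xgi11 ygi17 zgi31) (kgi xgi2 ygi51 zgi1) (kgi xgi11 ygi17 zgi35) (kgi xgi11 ygi17 zgi6) (kgi xgi11 ygi17 zgi41) (kgi xgi11 ygi16 zgi22) (kgi xgi11 ygi17 zgi47) (kgi xgi11 ygi16 zgi23) (kgi xgi6 ygi8 zgi33) (kgi xgi5 ygi43 zgi47) (kgi xgi4 ygi0 zgi42) (kgi xgi5 ygi49 zgi48) (kgi xgi5 ygi40 zgi20) (kgi xgi11 ygi17 zgi55) (kgi xgi11 ygi17 zgi59) (kgi xgi5 ygi43 zgi18)) (@D3.rec (fun _ => Pt) (kgi xgi11 ygi17 zgi54) (kgi xgi9 ygi4 zgi45) (kgi xgi2 ygi48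 zgi1) (kgi xgi2 ygi48 zgi14) (kgi xgi11 ygi18 zgi8) (kgi xgi11 ygi18 zgi13) (kgi xgi11 ygi18 zgi16) (kgi xgi2 ygi48 zgi2) (kgi xgi2 ygi48 zgi17) (kgi xgi2 ygi48 zgi15) (kgi xgi5 ygi43 zgi20) (kgi xgi4 ygi57 zgi28) (kgi xgi11 ygi18 zgi28) (kgi xgi2 ygi48 zgi4) (kgi xgi2 ygi48 zgi7) (kgi xgi8 ygi22 zgi45) (kgi xgi11 ygi18 zgi36) (kgi xgi11 ygi18 zgi38) (kgi xgi2 ygi48 zgi5) (kgi xgi11 ygi17 zgi61) (kgi xgi4 ygi30 zgi8) (kgi xgi9 ygi4 zgi34) (kgi xgi5 ygi40 zgi18) (kgi xgi11 ygi18 zgi51) (kgi xgi11 ygi18 zgi35) (kgi xgi11 ygi18 zgi56) (kgi xgi7 ygi26 zgi50) (kgi xgi7 ygi26 zgi48) (kgi xgi11 ygi16 zgi30) (kgi xgi11 ygi19 zgi0) (kgi xgi9 ygi0 zgi13) (kgi xgi11 ygi6 zgi28) (kgi xgi11 ygi18 zgi44) (kgi xgi6 ygi48 zgi39) (kgi xgi9 ygi45 zgi19)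 (kgi xgi11 ygi19 zgi6) (kgi xgi11 ygi18 zgi58) (kgi xgi2 ygi48 zgi11) (kgi xgi8 ygi59 zgi19) (kgi xgi8 ygi59 zgi25) (kgi xgi8 ygi12 zgi59) (kgi xgi11 ygi19 zgi28) (kgi xgi2 ygi48 zgi12) (kgi xgi9 ygi46 zgi3) (kgi xgi9 ygi46 zgi2) (kgi xgi6 ygi22 zgi13) (kgi xgi11 ygi18 zgi12) (kgi xgi2 ygi48 zgi13) (kgi xgi11 ygi18 zgi18) (kgi xgi11 ygi19 zgi48) (kgi xgi11 ygi18 zgi15) (kgi xgi11 ygi19 zgi53) (kgi xgi11 ygi12 zgi35) (kgi xgi11 ygi18 zgi33) (kgi xgi9 ygi9 zgi11) (kgi xgi11 ygi20 zgi5) (kgi xgi11 ygi20 zgi8) (kgi xgi11 ygi19 zgi60) (kgi xgi11 ygi20 zgi2) (kgi xgi11 ygi18 zgi43) (kgi xgi11 ygi16 zgi34) (kgi xgi2 ygi48 zgi18)) (@D3.rec (fun _ => Pt) (kgi xgi11 ygi16 zgi37) (kgi xgi11 ygi20 zgi29) (kgi xgi2 ygi53 zgi3) (kgi xgi5 ygi58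 zgi57) (kgi xgi2 ygi48 zgi20) (kgi xgi2 ygi55 zgi1) (kgi xgi11 ygi20 zgi39) (kgi xgi9 ygi4 zgi41) (kgi xgi11 ygi20 zgi46) (kgi xgi2 ygi48 zgi22) (kgi xgi9 ygi4 zgi39) (kgi xgi11 ygi20 zgi52) (kgi xgi11 ygi20 zgi56) (kgi xgi2 ygi48 zgi23) (kgi xgi11 ygi20 zgi47) (kgi xgi5 ygi33 zgi49) (kgi xgi11 ygi20 zgi45) (kgi xgi9 ygi3 zgi27) (kgi xgi5 ygi30 zgi49) (kgi xgi6 ygi26 zgi59) (kgi xgi5 ygi6 zgi26) (kgi xgi9 ygi5 zgi17) (kgi xgi9 ygi4 zgi27) (kgi xgi11 ygi21 zgi15) (kgi xgi2 ygi48 zgi29) (kgi xgi9 ygi4 zgi25) (kgi xgi11 ygi21 zgi21) (kgi xgi11 ygi21 zgi24) (kgi xgi2 ygi48 zgi30) (kgi xgi11 ygi21 zgi16) (kgi xgi7 ygi20 zgi0) (kgi xgi11 ygi21 zgi14) (kgi xgi9 ygi3 zgi52) (kgi xgi2 ygi52 zgi21) (kgi xgi2 ygi48 zgi45) (kgi xgi11 ygi21 zgi37)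 (kgi xgi10 ygi58 zgi46) (kgi xgi11 ygi21 zgi36) (kgi xgi11 ygi1 zgi50) (kgi xgi2 ygi48 zgi37) (kgi xgi11 ygi21 zgi44) (kgi xgi11 ygi21 zgi50) (kgi xgi11 ygi21 zgi42) (kgi xgi10 ygi59 zgi0) (kgi xgi11 ygi21 zgi56) (kgi xgi11 ygi16 zgi29) (kgi xgi11 ygi21 zgi58) (kgi xgi10 ygi15 zgi30) (kgi xgi9 ygi32 zgi58) (kgi xgi2 ygi48 zgi42) (kgi xgi9 ygi2 zgi25) (kgi xgi11 ygi20 zgi50) (kgi xgi9 ygi8 zgi48) (kgi xgi11 ygi22 zgi10) (kgi xgi2 ygi48 zgi43) (kgi xgi10 ygi52 zgi42) (kgi xgi10 ygi7 zgi14) (kgi xgi11 ygi22 zgi17) (kgi xgi2 ygi48 zgi44) (kgi xgi6 ygi2 zgi41) (kgi xgi9 ygi5 zgi6) (kgi xgi9 ygi6 zgi11)) (@D3.rec (fun _ => Pt) (kgi xgi9 ygi4 zgi46) (kgi xgi9 ygi4 zgi61) (kgi xgi9 ygi4 zgi60) (kgi xgi11 ygi22 zgi25) (kgi xgi11 ygi22 zgi30)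 (kgi xgi11 ygi22 zgi32) (kgi xgi11 ygi22 zgi35) (kgi xgi2 ygi48 zgi49) (kgi xgi5 ygi42 zgi13) (kgi xgi9 ygi5 zgi13) (kgi xgi9 ygi2 zgi29) (kgi xgi3 ygi58 zgi48) (kgi xgi11 ygi22 zgi44) (kgi xgi11 ygi21 zgi10) (kgi xgi11 ygi15 zgi18) (kgi xgi4 ygi56 zgi26) (kgi xgi11 ygi22 zgi43) (kgi xgi9 ygi2 zgi55) (kgi xgi2 ygi48 zgi53) (kgi xgi3 ygi21 zgi12) (kgi xgi11 ygi22 zgi57) (kgi xgi11 ygi22 zgi60) (kgi xgi11 ygi23 zgi0) (kgi xgi6 ygi14 zgi46) (kgi xgi4 ygi25 zgi54) (kgi xgi10 ygi16 zgi12) (kgi xgi4 ygi37 zgi26) (kgi xgi11 ygi23 zgi6) (kgi xgi2 ygi48 zgi59) (kgi xgi4 ygi56 zgi58) (kgi xgi10 ygi39 zgi38) (kgi xgi11 ygi6 zgi10) (kgi xgi2 ygi48 zgi60) (kgi xgi6 ygi14 zgi25) (kgi xgi11 ygi23 zgi21) (kgi xgi6 ygi14 zgi22) (kgi xgi8 ygi43 zgi52)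 (kgi xgi6 ygi4 zgi9) (kgi xgi11 ygi23 zgi26) (kgi xgi8 ygi43 zgi51) (kgi xgi2 ygi49 zgi1) (kgi xgi6 ygi14 zgi28) (kgi xgi11 ygi23 zgi36) (kgi xgi6 ygi14 zgi26) (kgi xgi4 ygi0 zgi1) (kgi xgi8 ygi42 zgi52) (kgi xgi8 ygi43 zgi49) (kgi xgi8 ygi46 zgi16) (kgi xgi5 ygi51 zgi1) (kgi xgi5 ygi57 zgi4) (kgi xgi11 ygi23 zgi49) (kgi xgi11 ygi23 zgi52) (kgi xgi4 ygi19 zgi19) (kgi xgi9 ygi2 zgi26) (kgi xgi5 ygi40 zgi5) (kgi xgi11 ygi23 zgi59) (kgi xgi3 ygi4 zgi51) (kgi xgi11 ygi24 zgi2) (kgi xgi11 ygi24 zgi5) (kgi xgi5 ygi40 zgi9) (kgi xgi11 ygi24 zgi10) (kgi xgi9 ygi5 zgi44)) (@D3.rec (fun _ => Pt) (kgi xgi5 ygi51 zgi33) (kgi xgi11 ygi24 zgi15) (kgi xgi4 ygi57 zgi8) (kgi xgi5 ygi59 zgi37) (kgi xgi11 ygi24 zgi20) (kgi xgi2 ygi49 zgi25) (kgi xgi11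 ygi24 zgi17) (kgi xgi11 ygi24 zgi32) (kgi xgi11 ygi24 zgi14) (kgi xgi6 ygi4 zgi10) (kgi xgi2 ygi49 zgi28) (kgi xgi11 ygi10 zgi48) (kgi xgi6 ygi45 zgi38) (kgi xgi4 ygi49 zgi56) (kgi xgi11 ygi24 zgi38) (kgi xgi7 ygi59 zgi55) (kgi xgi3 ygi5 zgi17) (kgi xgi2 ygi50 zgi49) (kgi xgi7 ygi59 zgi53) (kgi xgi3 ygi57 zgi52) (kgi xgi5 ygi51 zgi44) (kgi xgi11 ygi24 zgi47) (kgi xgi6 ygi13 zgi42) (kgi xgi2 ygi49 zgi41) (kgi xgi6 ygi17 zgi14) (kgi xgi11 ygi24 zgi51) (kgi xgi9 ygi19 zgi51) (kgi xgi3 ygi13 zgi12) (kgi xgi2 ygi49 zgi51) (kgi xgi5 ygi54 zgi32) (kgi xgi5 ygi51 zgi59) (kgi xgi2 ygi49 zgi44) (kgi xgi3 ygi13 zgi21) (kgi xgi10 ygi19 zgi6) (kgi xgi2 ygi49 zgi45) (kgi xgi11 ygi24 zgi48) (kgi xgi11 ygi24 zgi46) (kgi xgi2 ygi50 zgi3) (kgi xgi9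 ygi18 zgi17) (kgi xgi5 ygi52 zgi14) (kgi xgi5 ygi50 zgi39) (kgi xgi3 ygi13 zgi0) (kgi xgi5 ygi56 zgi0) (kgi xgi11 ygi25 zgi11) (kgi xgi3 ygi59 zgi29) (kgi xgi5 ygi51 zgi7) (kgi xgi11 ygi25 zgi16) (kgi xgi2 ygi50 zgi23) (kgi xgi9 ygi17 zgi11) (kgi xgi2 ygi49 zgi56) (kgi xgi4 ygi41 zgi4) (kgi xgi2 ygi50 zgi22) (kgi xgi4 ygi25 zgi48) (kgi xgi9 ygi39 zgi18) (kgi xgi9 ygi14 zgi61) (kgi xgi2 ygi49 zgi60) (kgi xgi11 ygi25 zgi29) (kgi xgi2 ygi49 zgi61) (kgi xgi11 ygi7 zgi4) (kgi xgi11 ygi25 zgi32) (kgi xgi11 ygi25 zgi34) (kgi xgi2 ygi50 zgi1)) (@D3.rec (fun _ => Pt) (kgi xgi10 ygi3 zgi55) (kgi xgi11 ygi25 zgi38) (kgi xgi5 ygi51 zgi13) (kgi xgi10 ygi18 zgi52) (kgi xgi5 ygi51 zgi11) (kgi xgi11 ygi25 zgi46) (kgi xgi9 ygi28 zgi28) (kgi xgi11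 ygi25 zgi50) (kgi xgi2 ygi50 zgi6) (kgi xgi2 ygi50 zgi21) (kgi xgi11 ygi25 zgi58) (kgi xgi2 ygi50 zgi18) (kgi xgi6 ygi4 zgi14) (kgi xgi4 ygi32 zgi2) (kgi xgi3 ygi24 zgi0) (kgi xgi11 ygi26 zgi2) (kgi xgi9 ygi12 zgi5) (kgi xgi6 ygi1 zgi18) (kgi xgi6 ygi53 zgi61) (kgi xgi3 ygi21 zgi43) (kgi xgi9 ygi24 zgi38) (kgi xgi3 ygi52 zgi6) (kgi xgi2 ygi50 zgi17) (kgi xgi11 ygi25 zgi52) (kgi xgi11 ygi26 zgi15) (kgi xgi9 ygi24 zgi36) (kgi xgi11 ygi25 zgi10) (kgi xgi7 ygi41 zgi56) (kgi xgi11 ygi26 zgi26) (kgi xgi6 ygi25 zgi48) (kgi xgi9 ygi49 zgi6) (kgi xgi11 ygi26 zgi22) (kgi xgi11 ygi26 zgi25) (kgi xgi6 ygi47 zgi34) (kgi xgi2 ygi50 zgi20) (kgi xgi11 ygi25 zgi59) (kgi xgi11 ygi26 zgi45) (kgi xgi11 ygi25 zgi57) (kgi xgi6 ygi15 zgi18) (kgi xgi3 ygi36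 zgi5) (kgi xgi11 ygi26 zgi50) (kgi xgi11 ygi17 zgi19) (kgi xgi2 ygi50 zgi24) (kgi xgi11 ygi17 zgi28) (kgi xgi3 ygi58 zgi47) (kgi xgi11 ygi25 zgi12) (kgi xgi11 ygi26 zgi57) (kgi xgi11 ygi26 zgi61) (kgi xgi2 ygi50 zgi26) (kgi xgi5 ygi59 zgi38) (kgi xgi11 ygi27 zgi5) (kgi xgi2 ygi50 zgi28) (kgi xgi2 ygi50 zgi30) (kgi xgi6 ygi26 zgi34) (kgi xgi6 ygi26 zgi33) (kgi xgi11 ygi27 zgi11) (kgi xgi11 ygi27 zgi14) (kgi xgi11 ygi27 zgi17) (kgi xgi5 ygi41 zgi5) (kgi xgi3 ygi2 zgi49) (kgi xgi9 ygi48 zgi52) (kgi xgi5 ygi51 zgi41)) (@D3.rec (fun _ => Pt) (kgi xgi11 ygi27 zgi9) (kgi xgi9 ygi5 zgi36) (kgi xgi2 ygi50 zgi46) (kgi xgi6 ygi17 zgi10) (kgi xgi2 ygi50 zgi37) (kgi xgi6 ygi17 zgi8) (kgi xgi3 ygi3 zgi60) (kgi xgi9 ygi5 zgi4) (kgi xgi3 ygi5 zgi20)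 (kgi xgi9 ygi5 zgi41) (kgi xgi6 ygi17 zgi2) (kgi xgi6 ygi15 zgi28) (kgi xgi9 ygi44 zgi35) (kgi xgi2 ygi50 zgi42) (kgi xgi6 ygi17 zgi0) (kgi xgi11 ygi27 zgi37) (kgi xgi11 ygi27 zgi39) (kgi xgi2 ygi50 zgi43) (kgi xgi11 ygi8 zgi21) (kgi xgi11 ygi27 zgi42) (kgi xgi2 ygi57 zgi54) (kgi xgi6 ygi4 zgi15) (kgi xgi4 ygi0 zgi52) (kgi xgi6 ygi30 zgi11) (kgi xgi8 ygi50 zgi2) (kgi xgi6 ygi3 zgi22) (kgi xgi5 ygi31 zgi49) (kgi xgi6 ygi16 zgi61) (kgi xgi6 ygi16 zgi19) (kgi xgi11 ygi27 zgi51) (kgi xgi9 ygi25 zgi14) (kgi xgi2 ygi50 zgi51) (kgi xgi4 ygi39 zgi11) (kgi xgi11 ygi12 zgi14) (kgi xgi9 ygi9 zgi32) (kgi xgi11 ygi12 zgi10) (kgi xgi2 ygi50 zgi55) (kgi xgi9 ygi5 zgi39) (kgi xgi2 ygi50 zgi56) (kgi xgi6 ygi55 zgi52) (kgi xgi3 ygi33 zgi53) (kgi xgi4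 ygi0 zgi38) (kgi xgi2 ygi50 zgi59) (kgi xgi11 ygi28 zgi7) (kgi xgi3 ygi5 zgi21) (kgi xgi5 ygi45 zgi45) (kgi xgi3 ygi5 zgi16) (kgi xgi6 ygi8 zgi34) (kgi xgi5 ygi43 zgi37) (kgi xgi6 ygi8 zgi51) (kgi xgi11 ygi27 zgi29) (kgi xgi11 ygi28 zgi17) (kgi xgi10 ygi15 zgi24) (kgi xgi5 ygi45 zgi3) (kgi xgi9 ygi9 zgi43) (kgi xgi2 ygi51 zgi4) (kgi xgi4 ygi30 zgi38) (kgi xgi5 ygi36 zgi49) (kgi xgi4 ygi39 zgi30) (kgi xgi4 ygi58 zgi16) (kgi xgi4 ygi58 zgi56) (kgi xgi11 ygi28 zgi26)) (@D3.rec (fun _ => Pt) (kgi xgi2 ygi51 zgi13) (kgi xgi8 ygi0 zgi3) (kgi xgi4 ygi7 zgi24) (kgi xgi4 ygi58 zgi32) (kgi xgi2 ygi55 zgi33) (kgi xgi11 ygi28 zgi34) (kgi xgi6 ygi31 zgi20) (kgi xgi11 ygi28 zgi40) (kgi xgi5 ygi52 zgi10) (kgi xgi5 ygi52 zgi9) (kgi xgi9 ygi50 zgi26)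 (kgi xgi6 ygi50 zgi29) (kgi xgi6 ygi7 zgi46) (kgi xgi10 ygi2 zgi43) (kgi xgi5 ygi26 zgi20) (kgi xgi11 ygi28 zgi45) (kgi xgi2 ygi51 zgi21) (kgi xgi9 ygi6 zgi9) (kgi xgi6 ygi4 zgi8) (kgi xgi9 ygi6 zgi6) (kgi xgi8 ygi0 zgi36) (kgi xgi4 ygi38 zgi59) (kgi xgi4 ygi41 zgi15) (kgi xgi6 ygi46 zgi54) (kgi xgi9 ygi49 zgi40) (kgi xgi6 ygi2 zgi48) (kgi xgi9 ygi50 zgi53) (kgi xgi2 ygi51 zgi25) (kgi xgi3 ygi23 zgi61) (kgi xgi6 ygi44 zgi15) (kgi xgi11 ygi28 zgi58) (kgi xgi11 ygi28 zgi60) (kgi xgi2 ygi51 zgi26) (kgi xgi2 ygi51 zgi29) (kgi xgi9 ygi49 zgi55) (kgi xgi11 ygi29 zgi3) (kgi xgi6 ygi31 zgi58) (kgi xgi8 ygi12 zgi8) (kgi xgi4 ygi34 zgi43) (kgi xgi5 ygi47 zgi38) (kgi xgi4 ygi58 zgi18) (kgi xgi11 ygi29 zgi7) (kgi xgi3 ygi5 zgi3) (kgi xgi11 ygi29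 zgi10) (kgi xgi6 ygi6 zgi52) (kgi xgi5 ygi8 zgi22) (kgi xgi6 ygi8 zgi23) (kgi xgi4 ygi39 zgi52) (kgi xgi4 ygi42 zgi43) (kgi xgi2 ygi51 zgi37) (kgi xgi3 ygi10 zgi8) (kgi xgi7 ygi23 zgi24) (kgi xgi11 ygi29 zgi17) (kgi xgi11 ygi29 zgi20) (kgi xgi11 ygi28 zgi41) (kgi xgi2 ygi51 zgi39) (kgi xgi9 ygi6 zgi10) (kgi xgi6 ygi13 zgi22) (kgi xgi2 ygi51 zgi41) (kgi xgi11 ygi29 zgi27) (kgi xgi4 ygi49 zgi5) (kgi xgi6 ygi1 zgi33)) (@D3.rec (fun _ => Pt) (kgi xgi11 ygi29 zgi33) (kgi xgi5 ygi46 zgi47) (kgi xgi6 ygi1 zgi17) (kgi xgi9 ygi21 zgi1) (kgi xgi2 ygi51 zgi49) (kgi xgi2 ygi51 zgi61) (kgi xgi2 ygi51 zgi59) (kgi xgi5 ygi47 zgi28) (kgi xgi11 ygi29 zgi44) (kgi xgi2 ygi51 zgi54) (kgi xgi11 ygi29 zgi48) (kgi xgi2 ygi51 zgi52) (kgi xgi5 ygi48 zgi4)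 (kgi xgi5 ygi47 zgi37) (kgi xgi4 ygi37 zgi13) (kgi xgi11 ygi29 zgi58) (kgi xgi3 ygi45 zgi13) (kgi xgi11 ygi30 zgi0) (kgi xgi5 ygi47 zgi50) (kgi xgi5 ygi47 zgi49) (kgi xgi6 ygi53 zgi57) (kgi xgi11 ygi29 zgi53) (kgi xgi11 ygi30 zgi3) (kgi xgi3 ygi25 zgi41) (kgi xgi11 ygi30 zgi13) (kgi xgi7 ygi1 zgi57) (kgi xgi11 ygi29 zgi46) (kgi xgi11 ygi30 zgi21) (kgi xgi11 ygi30 zgi23) (kgi xgi9 ygi47 zgi29) (kgi xgi11 ygi30 zgi18) (kgi xgi11 ygi30 zgi20) (kgi xgi4 ygi6 zgi2) (kgi xgi2 ygi52 zgi0) (kgi xgi4 ygi59 zgi43) (kgi xgi11 ygi30 zgi34) (kgi xgi2 ygi52 zgi1) (kgi xgi9 ygi47 zgi44) (kgi xgi6 ygi21 zgi56) (kgi xgi9 ygi50 zgi54) (kgi xgi6 ygi22 zgi6) (kgi xgi2 ygi52 zgi38) (kgi xgi5 ygi47 zgi31) (kgi xgi6 ygi16 zgi11) (kgi xgi2 ygi52 zgi6) (kgi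 xgi2 ygi52 zgi7) (kgi xgi10 ygi5 zgi1) (kgi xgi11 ygi30 zgi51) (kgi xgi11 ygi30 zgi42) (kgi xgi6 ygi12 zgi12) (kgi xgi3 ygi21 zgi37) (kgi xgi11 ygi30 zgi56) (kgi xgi11 ygi30 zgi59) (kgi xgi2 ygi52 zgi11) (kgi xgi2 ygi52 zgi14) (kgi xgi8 ygi12 zgi52) (kgi xgi5 ygi50 zgi22) (kgi xgi3 ygi3 zgi0) (kgi xgi6 ygi30 zgi32) (kgi xgi5 ygi47 zgi32) (kgi xgi11 ygi31 zgi2) (kgi xgi5 ygi5 zgi51)) (@D3.rec (fun _ => Pt) (kgi xgi3 ygi2 zgi52) (kgi xgi7 ygi26 zgi27) (kgi xgi10 ygi49 zgi8) (kgi xgi2 ygi52 zgi19) (kgi xgi2 ygi52 zgi33) (kgi xgi2 ygi52 zgi30) (kgi xgi11 ygi31 zgi9) (kgi xgi11 ygi24 zgi58) (kgi xgi11 ygi22 zgi20) (kgi xgi2 ygi52 zgi22) (kgi xgi3 ygi2 zgi48) (kgi xgi11 ygi31 zgi16) (kgi xgi6 ygi49 zgi28) (kgi xgi5 ygi50 zgi2) (kgi xgi4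 ygi6 zgi3) (kgi xgi10 ygi7 zgi12) (kgi xgi9 ygi17 zgi41) (kgi xgi10 ygi6 zgi40) (kgi xgi11 ygi12 zgi49) (kgi xgi2 ygi52 zgi29) (kgi xgi11 ygi31 zgi6) (kgi xgi10 ygi52 zgi58) (kgi xgi11 ygi27 zgi47) (kgi xgi9 ygi48 zgi8) (kgi xgi11 ygi16 zgi31) (kgi xgi8 ygi58 zgi9) (kgi xgi4 ygi5 zgi33) (kgi xgi6 ygi29 zgi39) (kgi xgi11 ygi1 zgi54) (kgi xgi10 ygi53 zgi3) (kgi xgi11 ygi31 zgi14) (kgi xgi2 ygi52 zgi32) (kgi xgi9 ygi14 zgi46) (kgi xgi11 ygi31 zgi37) (kgi xgi9 ygi14 zgi44) (kgi xgi6 ygi13 zgi24) (kgi xgi4 ygi39 zgi18) (kgi xgi5 ygi30 zgi40) (kgi xgi9 ygi46 zgi22) (kgi xgi4 ygi39 zgi14) (kgi xgi2 ygi52 zgi36) (kgi xgi2 ygi58 zgi7) (kgi xgi2 ygi52 zgi37) (kgi xgi5 ygi47 zgi27) (kgi xgi10 ygi7 zgi13) (kgi xgi11 ygi31 zgi53) (kgi xgi5 ygi48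 zgi61) (kgi xgi5 ygi47 zgi41) (kgi xgi11 ygi31 zgi55) (kgi xgi9 ygi46 zgi15) (kgi xgi3 ygi59 zgi54) (kgi xgi6 ygi30 zgi24) (kgi xgi8 ygi0 zgi17) (kgi xgi9 ygi48 zgi39) (kgi xgi8 ygi59 zgi52) (kgi xgi2 ygi53 zgi6) (kgi xgi2 ygi52 zgi50) (kgi xgi9 ygi6 zgi59) (kgi xgi11 ygi32 zgi5) (kgi xgi2 ygi52 zgi47) (kgi xgi8 ygi0 zgi18) (kgi xgi11 ygi32 zgi12)) (@D3.rec (fun _ => Pt) (kgi xgi2 ygi52 zgi48) (kgi xgi9 ygi6 zgi55) (kgi xgi6 ygi1 zgi31) (kgi xgi10 ygi57 zgi23) (kgi xgi5 ygi29 zgi15) (kgi xgi11 ygi32 zgi18) (kgi xgi11 ygi32 zgi21) (kgi xgi6 ygi1 zgi27) (kgi xgi2 ygi54 zgi61) (kgi xgi9 ygi7 zgi5) (kgi xgi2 ygi52 zgi56) (kgi xgi2 ygi55 zgi60) (kgi xgi9 ygi50 zgi46) (kgi xgi5 ygi27 zgi13) (kgi xgi9 ygi58 zgi9) (kgi xgi11 ygi32 zgi34)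 (kgi xgi4 ygi58 zgi11) (kgi xgi11 ygi32 zgi39) (kgi xgi11 ygi32 zgi42) (kgi xgi2 ygi52 zgi61) (kgi xgi11 ygi32 zgi46) (kgi xgi11 ygi22 zgi53) (kgi xgi8 ygi27 zgi45) (kgi xgi2 ygi53 zgi1) (kgi xgi2 ygi59 zgi24) (kgi xgi9 ygi30 zgi51) (kgi xgi11 ygi32 zgi28) (kgi xgi4 ygi42 zgi52) (kgi xgi2 ygi53 zgi50) (kgi xgi2 ygi53 zgi5) (kgi xgi2 ygi53 zgi13) (kgi xgi3 ygi4 zgi14) (kgi xgi11 ygi33 zgi4) (kgi xgi11 ygi33 zgi8) (kgi xgi2 ygi53 zgi14) (kgi xgi11 ygi33 zgi11) (kgi xgi3 ygi21 zgi4) (kgi xgi2 ygi53 zgi26) (kgi xgi9 ygi14 zgi11) (kgi xgi2 ygi53 zgi10) (kgi xgi11 ygi32 zgi11) (kgi xgi6 ygi15 zgi17) (kgi xgi3 ygi23 zgi60) (kgi xgi9 ygi11 zgi5) (kgi xgi9 ygi19 zgi26) (kgi xgi11 ygi33 zgi26) (kgi xgi6 ygi50 zgi17) (kgi xgi6 ygi53 zgi54) (kgi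 xgi9 ygi50 zgi27) (kgi xgi4 ygi25 zgi22) (kgi xgi3 ygi38 zgi37) (kgi xgi6 ygi15 zgi41) (kgi xgi11 ygi33 zgi37) (kgi xgi2 ygi53 zgi36) (kgi xgi8 ygi10 zgi35) (kgi xgi2 ygi53 zgi33) (kgi xgi9 ygi8 zgi41) (kgi xgi7 ygi59 zgi56) (kgi xgi10 ygi4 zgi30) (kgi xgi10 ygi5 zgi14) (kgi xgi5 ygi5 zgi55) (kgi xgi2 ygi53 zgi22)) (@D3.rec (fun _ => Pt) (kgi xgi2 ygi53 zgi55) (kgi xgi8 ygi12 zgi36) (kgi xgi2 ygi53 zgi52) (kgi xgi4 ygi59 zgi10) (kgi xgi11 ygi33 zgi56) (kgi xgi8 ygi50 zgi54) (kgi xgi11 ygi34 zgi0) (kgi xgi11 ygi33 zgi55) (kgi xgi11 ygi34 zgi2) (kgi xgi11 ygi34 zgi5) (kgi xgi11 ygi34 zgi8) (kgi xgi11 ygi34 zgi4) (kgi xgi11 ygi34 zgi13) (kgi xgi2 ygi53 zgi31) (kgi xgi4 ygi40 zgi24) (kgi xgi11 ygi34 zgi18) (kgi xgi2 ygi53 zgi32) (kgi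 xgi11 ygi33 zgi39) (kgi xgi11 ygi34 zgi30) (kgi xgi11 ygi33 zgi36) (kgi xgi5 ygi55 zgi30) (kgi xgi10 ygi1 zgi20) (kgi xgi7 ygi14 zgi5) (kgi xgi11 ygi34 zgi34) (kgi xgi2 ygi53 zgi35) (kgi xgi11 ygi34 zgi43) (kgi xgi8 ygi10 zgi39) (kgi xgi2 ygi53 zgi40) (kgi xgi11 ygi28 zgi57) (kgi xgi2 ygi53 zgi38) (kgi xgi6 ygi2 zgi59) (kgi xgi3 ygi0 zgi46) (kgi xgi5 ygi47 zgi26) (kgi xgi5 ygi8 zgi12) (kgi xgi4 ygi34 zgi46) (kgi xgi9 ygi23 zgi42) (kgi xgi11 ygi34 zgi56) (kgi xgi6 ygi15 zgi50) (kgi xgi11 ygi34 zgi58) (kgi xgi6 ygi15 zgi48) (kgi xgi5 ygi57 zgi53) (kgi xgi4 ygi38 zgi47) (kgi xgi9 ygi15 zgi40) (kgi xgi9 ygi9 zgi30) (kgi xgi6 ygi1 zgi41) (kgi xgi11 ygi34 zgi50) (kgi xgi2 ygi53 zgi44) (kgi xgi9 ygi8 zgi14) (kgi xgi4 ygi44 zgi48) (kgi xgi6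 ygi7 zgi54) (kgi xgi2 ygi53 zgi46) (kgi xgi8 ygi12 zgi29) (kgi xgi7 ygi59 zgi26) (kgi xgi2 ygi53 zgi47) (kgi xgi8 ygi12 zgi31) (kgi xgi9 ygi4 zgi54) (kgi xgi3 ygi5 zgi26) (kgi xgi5 ygi13 zgi53) (kgi xgi6 ygi7 zgi33) (kgi xgi4 ygi20 zgi40) (kgi xgi8 ygi12 zgi21) (kgi xgi8 ygi12 zgi24)) (@D3.rec (fun _ => Pt) (kgi xgi11 ygi35 zgi27) (kgi xgi5 ygi57 zgi54) (kgi xgi11 ygi35 zgi31) (kgi xgi10 ygi3 zgi3) (kgi xgi11 ygi35 zgi30) (kgi xgi11 ygi35 zgi39) (kgi xgi2 ygi53 zgi54) (kgi xgi11 ygi35 zgi44) (kgi xgi11 ygi35 zgi48) (kgi xgi8 ygi12 zgi46) (kgi xgi11 ygi35 zgi54) (kgi xgi9 ygi15 zgi25) (kgi xgi6 ygi50 zgi2) (kgi xgi11 ygi35 zgi59) (kgi xgi6 ygi8 zgi24) (kgi xgi3 ygi2 zgi38) (kgi xgi2 ygi55 zgi34) (kgi xgi9 ygi31 zgi4) (kgi xgi5 ygi5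 zgi54) (kgi xgi3 ygi21 zgi2) (kgi xgi7 ygi30 zgi36) (kgi xgi11 ygi36 zgi0) (kgi xgi10 ygi3 zgi2) (kgi xgi11 ygi36 zgi5) (kgi xgi2 ygi54 zgi3) (kgi xgi5 ygi18 zgi49) (kgi xgi5 ygi18 zgi50) (kgi xgi2 ygi54 zgi4) (kgi xgi9 ygi7 zgi55) (kgi xgi4 ygi41 zgi20) (kgi xgi5 ygi13 zgi41) (kgi xgi2 ygi54 zgi6) (kgi xgi3 ygi9 zgi58) (kgi xgi8 ygi50 zgi13) (kgi xgi2 ygi54 zgi7) (kgi xgi2 ygi54 zgi12) (kgi xgi7 ygi31 zgi36) (kgi xgi6 ygi35 zgi54) (kgi xgi9 ygi30 zgi29) (kgi xgi8 ygi45 zgi40) (kgi xgi11 ygi36 zgi33) (kgi xgi11 ygi32 zgi33) (kgi xgi6 ygi37 zgi23) (kgi xgi11 ygi36 zgi28) (kgi xgi11 ygi36 zgi41) (kgi xgi5 ygi26 zgi54) (kgi xgi11 ygi32 zgi45) (kgi xgi6 ygi25 zgi5) (kgi xgi11 ygi36 zgi47) (kgi xgi2 ygi54 zgi33) (kgi xgi11 ygi36 zgi53)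 (kgi xgi9 ygi7 zgi27) (kgi xgi3 ygi15 zgi34) (kgi xgi11 ygi36 zgi57) (kgi xgi2 ygi54 zgi18) (kgi xgi2 ygi54 zgi46) (kgi xgi11 ygi37 zgi1) (kgi xgi2 ygi54 zgi43) (kgi xgi2 ygi54 zgi19) (kgi xgi2 ygi54 zgi52) (kgi xgi11 ygi37 zgi7) (kgi xgi8 ygi46 zgi13)) (@D3.rec (fun _ => Pt) (kgi xgi3 ygi59 zgi44) (kgi xgi11 ygi37 zgi14) (kgi xgi8 ygi2 zgi37) (kgi xgi6 ygi15 zgi19) (kgi xgi11 ygi37 zgi13) (kgi xgi11 ygi37 zgi23) (kgi xgi11 ygi37 zgi27) (kgi xgi9 ygi9 zgi41) (kgi xgi11 ygi37 zgi31) (kgi xgi6 ygi13 zgi16) (kgi xgi11 ygi37 zgi30) (kgi xgi11 ygi37 zgi37) (kgi xgi2 ygi54 zgi28) (kgi xgi8 ygi46 zgi42) (kgi xgi11 ygi37 zgi29) (kgi xgi4 ygi58 zgi39) (kgi xgi11 ygi37 zgi47) (kgi xgi2 ygi54 zgi29) (kgi xgi11 ygi36 zgi49) (kgi xgi11 ygi37 zgi58)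 (kgi xgi11 ygi36 zgi46) (kgi xgi3 ygi59 zgi30) (kgi xgi8 ygi43 zgi0) (kgi xgi5 ygi0 zgi3) (kgi xgi11 ygi38 zgi0) (kgi xgi2 ygi54 zgi32) (kgi xgi9 ygi12 zgi37) (kgi xgi11 ygi38 zgi14) (kgi xgi11 ygi36 zgi52) (kgi xgi2 ygi54 zgi34) (kgi xgi2 ygi54 zgi37) (kgi xgi11 ygi38 zgi20) (kgi xgi2 ygi54 zgi35) (kgi xgi3 ygi2 zgi34) (kgi xgi11 ygi38 zgi26) (kgi xgi6 ygi19 zgi18) (kgi xgi9 ygi11 zgi47) (kgi xgi11 ygi38 zgi32) (kgi xgi6 ygi25 zgi11) (kgi xgi11 ygi38 zgi38) (kgi xgi6 ygi25 zgi10) (kgi xgi6 ygi37 zgi40) (kgi xgi9 ygi17 zgi21) (kgi xgi11 ygi38 zgi35) (kgi xgi2 ygi54 zgi41) (kgi xgi11 ygi36 zgi21) (kgi xgi2 ygi54 zgi42) (kgi xgi11 ygi36 zgi55) (kgi xgi11 ygi36 zgi56) (kgi xgi5 ygi50 zgi43) (kgi xgi11 ygi38 zgi19) (kgi xgi5 ygi32 zgi54)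 (kgi xgi11 ygi38 zgi61) (kgi xgi5 ygi58 zgi56) (kgi xgi11 ygi38 zgi55) (kgi xgi11 ygi38 zgi59) (kgi xgi11 ygi22 zgi23) (kgi xgi2 ygi54 zgi45) (kgi xgi11 ygi37 zgi3) (kgi xgi11 ygi39 zgi14) (kgi xgi11 ygi37 zgi0) (kgi xgi4 ygi36 zgi13)) (@D3.rec (fun _ => Pt) (kgi xgi8 ygi50 zgi22) (kgi xgi9 ygi12 zgi43) (kgi xgi11 ygi39 zgi24) (kgi xgi11 ygi39 zgi27) (kgi xgi3 ygi0 zgi2) (kgi xgi8 ygi56 zgi58) (kgi xgi2 ygi56 zgi54) (kgi xgi11 ygi39 zgi26) (kgi xgi5 ygi46 zgi49) (kgi xgi2 ygi54 zgi51) (kgi xgi9 ygi12 zgi38) (kgi xgi11 ygi39 zgi42) (kgi xgi11 ygi37 zgi6) (kgi xgi11 ygi39 zgi48) (kgi xgi2 ygi54 zgi53) (kgi xgi2 ygi55 zgi37) (kgi xgi9 ygi16 zgi32) (kgi xgi11 ygi39 zgi55) (kgi xgi6 ygi2 zgi9) (kgi xgi3 ygi0 zgi51) (kgi xgi11 ygi39 zgi57)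 (kgi xgi6 ygi45 zgi6) (kgi xgi9 ygi4 zgi17) (kgi xgi2 ygi55 zgi58) (kgi xgi9 ygi10 zgi49) (kgi xgi9 ygi9 zgi16) (kgi xgi2 ygi55 zgi42) (kgi xgi9 ygi48 zgi25) (kgi xgi2 ygi55 zgi0) (kgi xgi9 ygi9 zgi13) (kgi xgi11 ygi20 zgi38) (kgi xgi9 ygi8 zgi38) (kgi xgi9 ygi5 zgi48) (kgi xgi2 ygi55 zgi4) (kgi xgi7 ygi39 zgi29) (kgi xgi9 ygi29 zgi57) (kgi xgi11 ygi40 zgi10) (kgi xgi11 ygi40 zgi12) (kgi xgi11 ygi40 zgi15) (kgi xgi4 ygi46 zgi44) (kgi xgi6 ygi34 zgi13) (kgi xgi2 ygi55 zgi10) (kgi xgi5 ygi58 zgi0) (kgi xgi11 ygi40 zgi23) (kgi xgi5 ygi57 zgi59) (kgi xgi6 ygi7 zgi52) (kgi xgi2 ygi55 zgi12) (kgi xgi10 ygi18 zgi45) (kgi xgi3 ygi0 zgi17) (kgi xgi4 ygi59 zgi11) (kgi xgi4 ygi46 zgi34) (kgi xgi4 ygi59 zgi13) (kgi xgi5 ygi59 zgi31) (kgi xgi11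 ygi40 zgi31) (kgi xgi5 ygi48 zgi0) (kgi xgi4 ygi58 zgi42) (kgi xgi11 ygi20 zgi6) (kgi xgi11 ygi28 zgi8) (kgi xgi3 ygi15 zgi27) (kgi xgi2 ygi55 zgi21) (kgi xgi5 ygi57 zgi44) (kgi xgi11 ygi40 zgi44)) (@D3.rec (fun _ => Pt) (kgi xgi5 ygi57 zgi41) (kgi xgi5 ygi56 zgi53) (kgi xgi3 ygi0 zgi7) (kgi xgi5 ygi14 zgi38) (kgi xgi9 ygi15 zgi59) (kgi xgi4 ygi46 zgi35) (kgi xgi11 ygi40 zgi53) (kgi xgi2 ygi55 zgi27) (kgi xgi3 ygi0 zgi42) (kgi xgi6 ygi1 zgi14) (kgi xgi3 ygi0 zgi40) (kgi xgi7 ygi38 zgi23) (kgi xgi4 ygi48 zgi46) (kgi xgi11 ygi40 zgi58) (kgi xgi4 ygi48 zgi54) (kgi xgi9 ygi17 zgi12) (kgi xgi2 ygi55 zgi30) (kgi xgi11 ygi41 zgi9) (kgi xgi9 ygi22 zgi11) (kgi xgi11 ygi41 zgi17) (kgi xgi7 ygi31 zgi37) (kgi xgi11 ygi41 zgi10) (kgi xgi2 ygi55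 zgi31) (kgi xgi2 ygi55 zgi55) (kgi xgi7 ygi53 zgi38) (kgi xgi9 ygi29 zgi59) (kgi xgi11 ygi41 zgi27) (kgi xgi11 ygi20 zgi4) (kgi xgi6 ygi7 zgi6) (kgi xgi6 ygi32 zgi27) (kgi xgi3 ygi6 zgi53) (kgi xgi11 ygi41 zgi31) (kgi xgi6 ygi12 zgi23) (kgi xgi4 ygi40 zgi45) (kgi xgi6 ygi29 zgi44) (kgi xgi11 ygi41 zgi34) (kgi xgi2 ygi56 zgi50) (kgi xgi11 ygi41 zgi39) (kgi xgi11 ygi8 zgi3) (kgi xgi11 ygi41 zgi43) (kgi xgi3 ygi15 zgi48) (kgi xgi11 ygi41 zgi49) (kgi xgi2 ygi55 zgi47) (kgi xgi11 ygi41 zgi41) (kgi xgi11 ygi41 zgi58) (kgi xgi9 ygi8 zgi44) (kgi xgi11 ygi20 zgi35) (kgi xgi2 ygi55 zgi49) (kgi xgi11 ygi20 zgi31) (kgi xgi11 ygi8 zgi4) (kgi xgi9 ygi8 zgi58) (kgi xgi11 ygi42 zgi6) (kgi xgi9 ygi48 zgi34) (kgi xgi2 ygi55 zgi52) (kgi xgi11 ygi40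 zgi46) (kgi xgi11 ygi42 zgi16) (kgi xgi11 ygi40 zgi47) (kgi xgi2 ygi55 zgi53) (kgi xgi9 ygi48 zgi42) (kgi xgi7 ygi34 zgi52) (kgi xgi9 ygi22 zgi21) (kgi xgi9 ygi21 zgi23)) (@D3.rec (fun _ => Pt) (kgi xgi11 ygi42 zgi28) (kgi xgi2 ygi55 zgi56) (kgi xgi6 ygi53 zgi9) (kgi xgi11 ygi42 zgi38) (kgi xgi11 ygi41 zgi26) (kgi xgi3 ygi24 zgi44) (kgi xgi5 ygi33 zgi42) (kgi xgi9 ygi17 zgi10) (kgi xgi11 ygi39 zgi49) (kgi xgi11 ygi42 zgi47) (kgi xgi11 ygi40 zgi0) (kgi xgi9 ygi50 zgi44) (kgi xgi11 ygi42 zgi56) (kgi xgi9 ygi50 zgi42) (kgi xgi5 ygi37 zgi19) (kgi xgi2 ygi56 zgi0) (kgi xgi11 ygi32 zgi23) (kgi xgi9 ygi37 zgi35) (kgi xgi11 ygi43 zgi9) (kgi xgi11 ygi41 zgi33) (kgi xgi11 ygi43 zgi14) (kgi xgi9 ygi23 zgi21) (kgi xgi11 ygi43 zgi18) (kgi xgi11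 ygi43 zgi22) (kgi xgi2 ygi56 zgi4) (kgi xgi11 ygi43 zgi28) (kgi xgi2 ygi56 zgi42) (kgi xgi5 ygi51 zgi2) (kgi xgi9 ygi29 zgi58) (kgi xgi11 ygi17 zgi46) (kgi xgi7 ygi43 zgi18) (kgi xgi11 ygi40 zgi11) (kgi xgi11 ygi26 zgi12) (kgi xgi9 ygi13 zgi58) (kgi xgi3 ygi10 zgi48) (kgi xgi9 ygi13 zgi0) (kgi xgi9 ygi25 zgi29) (kgi xgi9 ygi16 zgi34) (kgi xgi11 ygi43 zgi50) (kgi xgi2 ygi56 zgi10) (kgi xgi11 ygi43 zgi45) (kgi xgi11 ygi43 zgi57) (kgi xgi11 ygi43 zgi44) (kgi xgi11 ygi43 zgi60) (kgi xgi9 ygi30 zgi30) (kgi xgi2 ygi56 zgi51) (kgi xgi2 ygi56 zgi13) (kgi xgi9 ygi30 zgi0) (kgi xgi9 ygi23 zgi56) (kgi xgi8 ygi46 zgi57) (kgi xgi11 ygi44 zgi8) (kgi xgi2 ygi56 zgi14) (kgi xgi2 ygi56 zgi24) (kgi xgi11 ygi44 zgi14) (kgi xgi6 ygi54 zgi4) (kgi xgi11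 ygi44 zgi20) (kgi xgi6 ygi51 zgi43) (kgi xgi11 ygi44 zgi24) (kgi xgi7 ygi43 zgi5) (kgi xgi11 ygi44 zgi23) (kgi xgi9 ygi30 zgi28) (kgi xgi2 ygi56 zgi18))
def fi_g_6 : D2 → D3 → Pt := @D2.rec (fun _ => D3 → Pt) (@D3.rec (fun _ => Pt) (kgi xgi9 ygi13 zgi12) (kgi xgi3 ygi51 zgi21) (kgi xgi11 ygi44 zgi32) (kgi xgi11 ygi44 zgi35) (kgi xgi3 ygi51 zgi39) (kgi xgi2 ygi56 zgi22) (kgi xgi11 ygi44 zgi33) (kgi xgi9 ygi13 zgi25) (kgi xgi2 ygi56 zgi23) (kgi xgi3 ygi46 zgi40) (kgi xgi6 ygi16 zgi29) (kgi xgi9 ygi24 zgi11) (kgi xgi11 ygi44 zgi52) (kgi xgi2 ygi56 zgi25) (kgi xgi9 ygi30 zgi6) (kgi xgi6 ygi55 zgi31) (kgi xgi9 ygi30 zgi3) (kgi xgi2 ygi56 zgi37) (kgi xgi11 ygi45 zgi6) (kgi xgi9 ygi30 zgi61) (kgi xgi9 ygi25 zgi53) (kgi xgi11 ygi45 zgi5)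 (kgi xgi2 ygi56 zgi49) (kgi xgi2 ygi56 zgi28) (kgi xgi9 ygi29 zgi55) (kgi xgi5 ygi50 zgi34) (kgi xgi9 ygi29 zgi54) (kgi xgi2 ygi56 zgi30) (kgi xgi9 ygi25 zgi46) (kgi xgi7 ygi45 zgi22) (kgi xgi6 ygi10 zgi43) (kgi xgi7 ygi25 zgi53) (kgi xgi9 ygi5 zgi34) (kgi xgi2 ygi56 zgi32) (kgi xgi11 ygi45 zgi29) (kgi xgi11 ygi45 zgi32) (kgi xgi3 ygi27 zgi18) (kgi xgi2 ygi56 zgi34) (kgi xgi9 ygi25 zgi55) (kgi xgi9 ygi25 zgi54) (kgi xgi9 ygi13 zgi15) (kgi xgi9 ygi48 zgi9) (kgi xgi11 ygi45 zgi42) (kgi xgi11 ygi45 zgi46) (kgi xgi7 ygi42 zgi49) (kgi xgi9 ygi25 zgi51) (kgi xgi11 ygi45 zgi53) (kgi xgi11 ygi45 zgi57) (kgi xgi11 ygi45 zgi61) (kgi xgi2 ygi56 zgi41) (kgi xgi11 ygi43 zgi24) (kgi xgi11 ygi46 zgi10) (kgi xgi11 ygi43 zgi21) (kgi xgi9 ygi5 zgi28)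 (kgi xgi11 ygi46 zgi17) (kgi xgi11 ygi46 zgi20) (kgi xgi11 ygi46 zgi13) (kgi xgi11 ygi46 zgi16) (kgi xgi2 ygi56 zgi44) (kgi xgi11 ygi43 zgi30) (kgi xgi11 ygi46 zgi34) (kgi xgi11 ygi43 zgi27)) (@D3.rec (fun _ => Pt) (kgi xgi2 ygi56 zgi46) (kgi xgi5 ygi57 zgi52) (kgi xgi4 ygi59 zgi17) (kgi xgi11 ygi46 zgi43) (kgi xgi11 ygi46 zgi44) (kgi xgi2 ygi56 zgi47) (kgi xgi11 ygi44 zgi4) (kgi xgi11 ygi46 zgi53) (kgi xgi11 ygi46 zgi56) (kgi xgi2 ygi56 zgi48) (kgi xgi2 ygi56 zgi52) (kgi xgi11 ygi47 zgi1) (kgi xgi9 ygi18 zgi2) (kgi xgi11 ygi43 zgi38) (kgi xgi6 ygi8 zgi9) (kgi xgi7 ygi43 zgi22) (kgi xgi11 ygi41 zgi37) (kgi xgi11 ygi41 zgi38) (kgi xgi11 ygi47 zgi10) (kgi xgi11 ygi47 zgi15) (kgi xgi9 ygi13 zgi20) (kgi xgi11 ygi47 zgi19) (kgi xgi11 ygi46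 zgi52) (kgi xgi11 ygi47 zgi0) (kgi xgi11 ygi14 zgi30) (kgi xgi3 ygi22 zgi60) (kgi xgi2 ygi56 zgi55) (kgi xgi11 ygi47 zgi26) (kgi xgi11 ygi47 zgi31) (kgi xgi5 ygi53 zgi7) (kgi xgi11 ygi39 zgi11) (kgi xgi11 ygi47 zgi38) (kgi xgi11 ygi47 zgi43) (kgi xgi11 ygi12 zgi53) (kgi xgi5 ygi53 zgi2) (kgi xgi11 ygi47 zgi50) (kgi xgi2 ygi56 zgi58) (kgi xgi11 ygi16 zgi38) (kgi xgi11 ygi47 zgi59) (kgi xgi9 ygi48 zgi46) (kgi xgi7 ygi44 zgi22) (kgi xgi5 ygi54 zgi41) (kgi xgi2 ygi56 zgi60) (kgi xgi2 ygi57 zgi5) (kgi xgi11 ygi0 zgi21) (kgi xgi2 ygi57 zgi2) (kgi xgi11 ygi47 zgi9) (kgi xgi3 ygi20 zgi55) (kgi xgi11 ygi48 zgi11) (kgi xgi2 ygi57 zgi1) (kgi xgi4 ygi45 zgi40) (kgi xgi11 ygi46 zgi21) (kgi xgi9 ygi30 zgi9) (kgi xgi4 ygi59 zgi58) (kgi xgi11 ygi48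 zgi22) (kgi xgi9 ygi11 zgi13) (kgi xgi11 ygi48 zgi19) (kgi xgi11 ygi48 zgi21) (kgi xgi9 ygi31 zgi13) (kgi xgi2 ygi57 zgi4) (kgi xgi11 ygi48 zgi33) (kgi xgi11 ygi0 zgi50)) (@D3.rec (fun _ => Pt) (kgi xgi3 ygi17 zgi47) (kgi xgi4 ygi30 zgi34) (kgi xgi2 ygi57 zgi7) (kgi xgi2 ygi57 zgi8) (kgi xgi5 ygi38 zgi31) (kgi xgi11 ygi27 zgi7) (kgi xgi5 ygi43 zgi9) (kgi xgi3 ygi2 zgi35) (kgi xgi3 ygi20 zgi28) (kgi xgi4 ygi40 zgi8) (kgi xgi9 ygi18 zgi5) (kgi xgi9 ygi19 zgi53) (kgi xgi3 ygi16 zgi43) (kgi xgi11 ygi48 zgi51) (kgi xgi2 ygi57 zgi13) (kgi xgi2 ygi57 zgi20) (kgi xgi2 ygi57 zgi18) (kgi xgi11 ygi48 zgi57) (kgi xgi2 ygi57 zgi43) (kgi xgi9 ygi31 zgi30) (kgi xgi2 ygi57 zgi16) (kgi xgi11 ygi49 zgi0) (kgi xgi11 ygi49 zgi4) (kgi xgi2 ygi57 zgi17)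 (kgi xgi11 ygi48 zgi53) (kgi xgi11 ygi49 zgi12) (kgi xgi10 ygi37 zgi39) (kgi xgi11 ygi36 zgi27) (kgi xgi6 ygi11 zgi58) (kgi xgi9 ygi31 zgi38) (kgi xgi11 ygi49 zgi14) (kgi xgi11 ygi49 zgi17) (kgi xgi9 ygi13 zgi48) (kgi xgi2 ygi57 zgi21) (kgi xgi2 ygi57 zgi24) (kgi xgi9 ygi11 zgi54) (kgi xgi11 ygi49 zgi26) (kgi xgi9 ygi11 zgi4) (kgi xgi6 ygi7 zgi23) (kgi xgi6 ygi8 zgi13) (kgi xgi3 ygi0 zgi47) (kgi xgi4 ygi40 zgi59) (kgi xgi11 ygi49 zgi31) (kgi xgi10 ygi17 zgi20) (kgi xgi2 ygi57 zgi28) (kgi xgi9 ygi13 zgi43) (kgi xgi11 ygi49 zgi36) (kgi xgi6 ygi3 zgi35) (kgi xgi5 ygi50 zgi21) (kgi xgi5 ygi34 zgi46) (kgi xgi11 ygi33 zgi30) (kgi xgi9 ygi14 zgi2) (kgi xgi9 ygi13 zgi23) (kgi xgi2 ygi57 zgi32) (kgi xgi9 ygi14 zgi1) (kgi xgi11 ygi49 zgi49)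 (kgi xgi7 ygi57 zgi13) (kgi xgi2 ygi57 zgi33) (kgi xgi9 ygi13 zgi16) (kgi xgi11 ygi49 zgi54) (kgi xgi2 ygi57 zgi46) (kgi xgi9 ygi32 zgi37)) (@D3.rec (fun _ => Pt) (kgi xgi9 ygi11 zgi3) (kgi xgi3 ygi5 zgi30) (kgi xgi8 ygi0 zgi59) (kgi xgi4 ygi33 zgi46) (kgi xgi2 ygi57 zgi37) (kgi xgi2 ygi57 zgi47) (kgi xgi11 ygi49 zgi61) (kgi xgi3 ygi0 zgi50) (kgi xgi11 ygi36 zgi29) (kgi xgi9 ygi13 zgi49) (kgi xgi9 ygi13 zgi52) (kgi xgi9 ygi13 zgi46) (kgi xgi11 ygi50 zgi9) (kgi xgi2 ygi57 zgi44) (kgi xgi9 ygi13 zgi47) (kgi xgi11 ygi50 zgi17) (kgi xgi9 ygi2 zgi4) (kgi xgi2 ygi57 zgi45) (kgi xgi9 ygi13 zgi14) (kgi xgi11 ygi50 zgi25) (kgi xgi6 ygi32 zgi41) (kgi xgi11 ygi50 zgi27) (kgi xgi5 ygi29 zgi0) (kgi xgi11 ygi50 zgi30) (kgi xgi11 ygi8 zgi22) (kgi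 xgi2 ygi57 zgi51) (kgi xgi9 ygi8 zgi7) (kgi xgi5 ygi53 zgi5) (kgi xgi11 ygi50 zgi40) (kgi xgi11 ygi1 zgi46) (kgi xgi2 ygi57 zgi56) (kgi xgi7 ygi42 zgi52) (kgi xgi9 ygi29 zgi9) (kgi xgi2 ygi57 zgi55) (kgi xgi9 ygi14 zgi9) (kgi xgi6 ygi22 zgi29) (kgi xgi7 ygi50 zgi32) (kgi xgi11 ygi50 zgi49) (kgi xgi2 ygi57 zgi57) (kgi xgi9 ygi14 zgi18) (kgi xgi9 ygi14 zgi16) (kgi xgi5 ygi52 zgi61) (kgi xgi11 ygi50 zgi55) (kgi xgi11 ygi50 zgi58) (kgi xgi6 ygi38 zgi41) (kgi xgi2 ygi57 zgi60) (kgi xgi9 ygi14 zgi25) (kgi xgi9 ygi14 zgi23) (kgi xgi11 ygi51 zgi7) (kgi xgi5 ygi33 zgi1) (kgi xgi7 ygi50 zgi25) (kgi xgi9 ygi44 zgi7) (kgi xgi2 ygi58 zgi1) (kgi xgi9 ygi14 zgi32) (kgi xgi9 ygi14 zgi30) (kgi xgi11 ygi51 zgi20) (kgi xgi11 ygi51 zgi5) (kgi xgi11 ygi51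 zgi27) (kgi xgi8 ygi35 zgi31) (kgi xgi2 ygi58 zgi4) (kgi xgi11 ygi22 zgi61) (kgi xgi11 ygi22 zgi59)) (@D3.rec (fun _ => Pt) (kgi xgi11 ygi51 zgi38) (kgi xgi11 ygi51 zgi42) (kgi xgi9 ygi6 zgi47) (kgi xgi11 ygi51 zgi47) (kgi xgi11 ygi51 zgi49) (kgi xgi6 ygi22 zgi31) (kgi xgi2 ygi58 zgi8) (kgi xgi9 ygi14 zgi41) (kgi xgi6 ygi43 zgi6) (kgi xgi5 ygi12 zgi57) (kgi xgi8 ygi14 zgi49) (kgi xgi4 ygi34 zgi48) (kgi xgi11 ygi51 zgi57) (kgi xgi9 ygi44 zgi1) (kgi xgi5 ygi48 zgi38) (kgi xgi4 ygi34 zgi10) (kgi xgi2 ygi58 zgi21) (kgi xgi4 ygi10 zgi37) (kgi xgi9 ygi45 zgi47) (kgi xgi10 ygi38 zgi31) (kgi xgi2 ygi58 zgi22) (kgi xgi11 ygi52 zgi7) (kgi xgi8 ygi43 zgi11) (kgi xgi11 ygi52 zgi13) (kgi xgi11 ygi52 zgi12) (kgi xgi4 ygi27 zgi49) (kgi xgi4 ygi20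 zgi21) (kgi xgi11 ygi52 zgi22) (kgi xgi2 ygi58 zgi26) (kgi xgi2 ygi58 zgi49) (kgi xgi11 ygi52 zgi31) (kgi xgi11 ygi52 zgi36) (kgi xgi2 ygi58 zgi45) (kgi xgi4 ygi28 zgi41) (kgi xgi11 ygi52 zgi39) (kgi xgi10 ygi1 zgi13) (kgi xgi8 ygi13 zgi19) (kgi xgi10 ygi43 zgi10) (kgi xgi2 ygi58 zgi31) (kgi xgi2 ygi58 zgi37) (kgi xgi11 ygi52 zgi53) (kgi xgi11 ygi52 zgi56) (kgi xgi2 ygi58 zgi32) (kgi xgi5 ygi24 zgi50) (kgi xgi5 ygi24 zgi47) (kgi xgi2 ygi58 zgi33) (kgi xgi5 ygi36 zgi6) (kgi xgi4 ygi3 zgi27) (kgi xgi8 ygi13 zgi17) (kgi xgi8 ygi7 zgi47) (kgi xgi11 ygi53 zgi2) (kgi xgi11 ygi52 zgi52) (kgi xgi11 ygi3 zgi12) (kgi xgi2 ygi58 zgi38) (kgi xgi11 ygi52 zgi19) (kgi xgi11 ygi52 zgi18) (kgi xgi4 ygi6 zgi15) (kgi xgi11 ygi53 zgi13) (kgi xgi2 ygi58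 zgi40) (kgi xgi2 ygi58 zgi43) (kgi xgi11 ygi53 zgi19) (kgi xgi2 ygi58 zgi41)) (@D3.rec (fun _ => Pt) (kgi xgi11 ygi52 zgi23) (kgi xgi5 ygi26 zgi38) (kgi xgi11 ygi53 zgi27) (kgi xgi11 ygi53 zgi30) (kgi xgi10 ygi37 zgi13) (kgi xgi11 ygi53 zgi36) (kgi xgi2 ygi58 zgi44) (kgi xgi5 ygi23 zgi18) (kgi xgi5 ygi23 zgi15) (kgi xgi11 ygi53 zgi43) (kgi xgi10 ygi3 zgi34) (kgi xgi11 ygi53 zgi24) (kgi xgi11 ygi53 zgi51) (kgi xgi11 ygi53 zgi46) (kgi xgi11 ygi53 zgi41) (kgi xgi2 ygi58 zgi47) (kgi xgi11 ygi53 zgi59) (kgi xgi11 ygi54 zgi3) (kgi xgi11 ygi54 zgi8) (kgi xgi11 ygi53 zgi60) (kgi xgi2 ygi58 zgi48) (kgi xgi8 ygi14 zgi0) (kgi xgi8 ygi13 zgi60) (kgi xgi11 ygi54 zgi20) (kgi xgi11 ygi52 zgi35) (kgi xgi11 ygi54 zgi24) (kgi xgi2 ygi58 zgi50) (kgi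 xgi4 ygi27 zgi41) (kgi xgi2 ygi58 zgi51) (kgi xgi4 ygi7 zgi58) (kgi xgi11 ygi54 zgi35) (kgi xgi5 ygi17 zgi26) (kgi xgi11 ygi54 zgi40) (kgi xgi2 ygi58 zgi52) (kgi xgi8 ygi15 zgi16) (kgi xgi8 ygi15 zgi14) (kgi xgi9 ygi32 zgi14) (kgi xgi2 ygi58 zgi54) (kgi xgi5 ygi26 zgi16) (kgi xgi5 ygi26 zgi14) (kgi xgi11 ygi54 zgi53) (kgi xgi4 ygi28 zgi20) (kgi xgi5 ygi15 zgi21) (kgi xgi9 ygi52 zgi19) (kgi xgi5 ygi0 zgi57) (kgi xgi5 ygi15 zgi34) (kgi xgi2 ygi59 zgi0) (kgi xgi4 ygi14 zgi55) (kgi xgi11 ygi55 zgi1) (kgi xgi11 ygi55 zgi6) (kgi xgi5 ygi27 zgi55) (kgi xgi2 ygi59 zgi1) (kgi xgi5 ygi27 zgi49) (kgi xgi2 ygi59 zgi2) (kgi xgi5 ygi26 zgi2) (kgi xgi5 ygi26 zgi0) (kgi xgi5 ygi29 zgi9) (kgi xgi2 ygi59 zgi55) (kgi xgi2 ygi59 zgi49) (kgi xgi2 ygi59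 zgi7) (kgi xgi9 ygi31 zgi0) (kgi xgi10 ygi43 zgi35)) (@D3.rec (fun _ => Pt) (kgi xgi11 ygi55 zgi27) (kgi xgi2 ygi59 zgi8) (kgi xgi8 ygi15 zgi21) (kgi xgi5 ygi32 zgi33) (kgi xgi2 ygi59 zgi9) (kgi xgi5 ygi26 zgi51) (kgi xgi5 ygi26 zgi49) (kgi xgi6 ygi51 zgi6) (kgi xgi11 ygi55 zgi43) (kgi xgi5 ygi0 zgi9) (kgi xgi2 ygi59 zgi11) (kgi xgi4 ygi35 zgi8) (kgi xgi10 ygi48 zgi59) (kgi xgi5 ygi20 zgi18) (kgi xgi4 ygi11 zgi22) (kgi xgi4 ygi17 zgi58) (kgi xgi2 ygi59 zgi15) (kgi xgi4 ygi14 zgi57) (kgi xgi11 ygi55 zgi56) (kgi xgi9 ygi22 zgi48) (kgi xgi7 ygi38 zgi9) (kgi xgi2 ygi59 zgi16) (kgi xgi8 ygi29 zgi18) (kgi xgi8 ygi29 zgi17) (kgi xgi2 ygi59 zgi17) (kgi xgi5 ygi26 zgi32) (kgi xgi5 ygi26 zgi30) (kgi xgi10 ygi43 zgi22) (kgi xgi5 ygi18 zgi27)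 (kgi xgi5 ygi21 zgi59) (kgi xgi2 ygi59 zgi22) (kgi xgi5 ygi27 zgi0) (kgi xgi5 ygi26 zgi60) (kgi xgi11 ygi56 zgi14) (kgi xgi9 ygi30 zgi38) (kgi xgi11 ygi42 zgi55) (kgi xgi9 ygi11 zgi1) (kgi xgi10 ygi48 zgi16) (kgi xgi2 ygi59 zgi25) (kgi xgi11 ygi56 zgi22) (kgi xgi2 ygi59 zgi27) (kgi xgi2 ygi59 zgi29) (kgi xgi11 ygi56 zgi27) (kgi xgi11 ygi32 zgi51) (kgi xgi11 ygi56 zgi26) (kgi xgi9 ygi7 zgi54) (kgi xgi2 ygi59 zgi30) (kgi xgi9 ygi15 zgi15) (kgi xgi11 ygi56 zgi38) (kgi xgi11 ygi56 zgi41) (kgi xgi11 ygi56 zgi43) (kgi xgi9 ygi15 zgi39) (kgi xgi11 ygi56 zgi44) (kgi xgi2 ygi59 zgi34) (kgi xgi5 ygi27 zgi23) (kgi xgi5 ygi27 zgi21) (kgi xgi5 ygi34 zgi57) (kgi xgi2 ygi59 zgi36) (kgi xgi4 ygi50 zgi38) (kgi xgi11 ygi56 zgi52) (kgi xgi4 ygi3 zgi16)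 (kgi xgi11 ygi56 zgi58)) (@D3.rec (fun _ => Pt) (kgi xgi2 ygi59 zgi37) (kgi xgi8 ygi27 zgi22) (kgi xgi8 ygi27 zgi20) (kgi xgi2 ygi59 zgi38) (kgi xgi8 ygi14 zgi18) (kgi xgi8 ygi14 zgi16) (kgi xgi5 ygi59 zgi10) (kgi xgi4 ygi55 zgi32) (kgi xgi11 ygi57 zgi9) (kgi xgi5 ygi36 zgi59) (kgi xgi5 ygi14 zgi30) (kgi xgi5 ygi14 zgi29) (kgi xgi11 ygi57 zgi14) (kgi xgi7 ygi57 zgi4) (kgi xgi5 ygi35 zgi43) (kgi xgi2 ygi59 zgi47) (kgi xgi5 ygi35 zgi37) (kgi xgi2 ygi59 zgi48) (kgi xgi6 ygi45 zgi14) (kgi xgi5 ygi36 zgi52) (kgi xgi4 ygi5 zgi46) (kgi xgi5 ygi26 zgi22) (kgi xgi4 ygi5 zgi16) (kgi xgi2 ygi59 zgi52) (kgi xgi6 ygi2 zgi38) (kgi xgi8 ygi14 zgi55) (kgi xgi8 ygi14 zgi48) (kgi xgi5 ygi47 zgi61) (kgi xgi10 ygi5 zgi31) (kgi xgi10 ygi22 zgi23) (kgi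 xgi6 ygi15 zgi61) (kgi xgi3 ygi0 zgi19) (kgi xgi4 ygi42 zgi35) (kgi xgi8 ygi12 zgi11) (kgi xgi2 ygi59 zgi59) (kgi xgi5 ygi13 zgi61) (kgi xgi2 ygi59 zgi60) (kgi xgi6 ygi16 zgi8) (kgi xgi5 ygi14 zgi3) (kgi xgi8 ygi0 zgi39) (kgi xgi5 ygi13 zgi27) (kgi xgi10 ygi5 zgi44) (kgi xgi11 ygi8 zgi1) (kgi xgi10 ygi5 zgi45) (kgi xgi11 ygi57 zgi52) (kgi xgi4 ygi36 zgi37) (kgi xgi3 ygi0 zgi3) (kgi xgi5 ygi50 zgi12) (kgi xgi10 ygi12 zgi16) (kgi xgi6 ygi7 zgi20) (kgi xgi5 ygi57 zgi45) (kgi xgi9 ygi48 zgi1) (kgi xgi5 ygi6 zgi59) (kgi xgi4 ygi31 zgi14) (kgi xgi10 ygi5 zgi33) (kgi xgi6 ygi16 zgi22) (kgi xgi5 ygi14 zgi16) (kgi xgi11 ygi58 zgi0) (kgi xgi5 ygi53 zgi9) (kgi xgi5 ygi38 zgi44) (kgi xgi3 ygi23 zgi44) (kgi xgi10 ygi6 zgi19)) (@D3.rec (fun _ =>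 Pt) (kgi xgi5 ygi8 zgi6) (kgi xgi10 ygi18 zgi48) (kgi xgi9 ygi17 zgi42) (kgi xgi11 ygi58 zgi9) (kgi xgi3 ygi14 zgi6) (kgi xgi11 ygi58 zgi13) (kgi xgi9 ygi47 zgi23) (kgi xgi3 ygi0 zgi16) (kgi xgi11 ygi40 zgi61) (kgi xgi11 ygi40 zgi60) (kgi xgi11 ygi58 zgi20) (kgi xgi3 ygi0 zgi20) (kgi xgi8 ygi12 zgi4) (kgi xgi5 ygi14 zgi28) (kgi xgi8 ygi12 zgi2) (kgi xgi7 ygi39 zgi53) (kgi xgi11 ygi58 zgi25) (kgi xgi3 ygi0 zgi22) (kgi xgi6 ygi22 zgi4) (kgi xgi3 ygi0 zgi23) (kgi xgi5 ygi27 zgi14) (kgi xgi5 ygi27 zgi15) (kgi xgi6 ygi15 zgi58) (kgi xgi3 ygi0 zgi24) (kgi xgi11 ygi58 zgi35) (kgi xgi5 ygi50 zgi47) (kgi xgi6 ygi16 zgi6) (kgi xgi11 ygi28 zgi39) (kgi xgi11 ygi38 zgi40) (kgi xgi9 ygi15 zgi20) (kgi xgi3 ygi0 zgi28) (kgi xgi9 ygi15 zgi19) (kgi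 xgi5 ygi43 zgi54) (kgi xgi4 ygi41 zgi32) (kgi xgi3 ygi0 zgi34) (kgi xgi9 ygi9 zgi10) (kgi xgi11 ygi58 zgi43) (kgi xgi4 ygi59 zgi40) (kgi xgi11 ygi58 zgi47) (kgi xgi3 ygi0 zgi39) (kgi xgi11 ygi40 zgi55) (kgi xgi11 ygi58 zgi55) (kgi xgi11 ygi40 zgi52) (kgi xgi5 ygi50 zgi41) (kgi xgi11 ygi40 zgi9) (kgi xgi11 ygi47 zgi5) (kgi xgi11 ygi35 zgi61) (kgi xgi11 ygi25 zgi36) (kgi xgi11 ygi41 zgi5) (kgi xgi11 ygi45 zgi10) (kgi xgi11 ygi39 zgi51) (kgi xgi5 ygi38 zgi45) (kgi xgi5 ygi42 zgi30) (kgi xgi9 ygi45 zgi13) (kgi xgi9 ygi8 zgi40) (kgi xgi11 ygi28 zgi51) (kgi xgi11 ygi35 zgi5) (kgi xgi5 ygi0 zgi12) (kgi xgi11 ygi38 zgi45) (kgi xgi11 ygi49 zgi21) (kgi xgi11 ygi36 zgi59) (kgi xgi10 ygi6 zgi61)) (@D3.rec (fun _ => Pt) (kgi xgi5 ygi13 zgi33)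 (kgi xgi5 ygi41 zgi27) (kgi xgi6 ygi16 zgi32) (kgi xgi9 ygi0 zgi14) (kgi xgi11 ygi59 zgi15) (kgi xgi6 ygi24 zgi36) (kgi xgi9 ygi0 zgi11) (kgi xgi11 ygi36 zgi1) (kgi xgi11 ygi59 zgi22) (kgi xgi5 ygi40 zgi7) (kgi xgi11 ygi59 zgi27) (kgi xgi3 ygi0 zgi59) (kgi xgi4 ygi25 zgi33) (kgi xgi11 ygi59 zgi35) (kgi xgi4 ygi25 zgi30) (kgi xgi3 ygi0 zgi60) (kgi xgi8 ygi47 zgi35) (kgi xgi4 ygi25 zgi34) (kgi xgi7 ygi20 zgi9) (kgi xgi3 ygi40 zgi2) (kgi xgi7 ygi25 zgi43) (kgi xgi3 ygi31 zgi54) (kgi xgi3 ygi24 zgi25) (kgi xgi7 ygi25 zgi42) (kgi xgi11 ygi59 zgi49) (kgi xgi3 ygi1 zgi10) (kgi xgi11 ygi59 zgi53) (kgi xgi11 ygi59 zgi57) (kgi xgi3 ygi1 zgi11) (kgi xgi9 ygi33 zgi5) (kgi xgi9 ygi33 zgi3) (kgi xgi6 ygi19 zgi4) (kgi xgi3 ygi1 zgi30) (kgi xgi9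 ygi20 zgi55) (kgi xgi6 ygi48 zgi15) (kgi xgi6 ygi27 zgi33) (kgi xgi6 ygi33 zgi3) (kgi xgi7 ygi48 zgi45) (kgi xgi6 ygi24 zgi19) (kgi xgi6 ygi11 zgi44) (kgi xgi12 ygi0 zgi12) (kgi xgi3 ygi1 zgi20) (kgi xgi6 ygi32 zgi61) (kgi xgi12 ygi0 zgi25) (kgi xgi10 ygi51 zgi3) (kgi xgi3 ygi1 zgi21) (kgi xgi6 ygi48 zgi24) (kgi xgi6 ygi48 zgi22) (kgi xgi12 ygi0 zgi37) (kgi xgi12 ygi0 zgi39) (kgi xgi3 ygi1 zgi23) (kgi xgi3 ygi2 zgi22) (kgi xgi6 ygi36 zgi36) (kgi xgi3 ygi2 zgi23) (kgi xgi3 ygi18 zgi53) (kgi xgi6 ygi26 zgi15) (kgi xgi3 ygi14 zgi41) (kgi xgi6 ygi18 zgi2) (kgi xgi4 ygi11 zgi37) (kgi xgi6 ygi27 zgi50) (kgi xgi6 ygi19 zgi16) (kgi xgi6 ygi24 zgi5)) (@D3.rec (fun _ => Pt) (kgi xgi3 ygi1 zgi36) (kgi xgi12 ygi0 zgi53) (kgi xgi12 ygi0 zgi58)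 (kgi xgi6 ygi58 zgi61) (kgi xgi3 ygi1 zgi41) (kgi xgi6 ygi11 zgi45) (kgi xgi12 ygi1 zgi2) (kgi xgi12 ygi1 zgi6) (kgi xgi3 ygi1 zgi42) (kgi xgi9 ygi9 zgi57) (kgi xgi12 ygi0 zgi36) (kgi xgi6 ygi35 zgi48) (kgi xgi10 ygi14 zgi4) (kgi xgi12 ygi1 zgi19) (kgi xgi3 ygi2 zgi13) (kgi xgi3 ygi2 zgi10) (kgi xgi3 ygi13 zgi52) (kgi xgi3 ygi15 zgi29) (kgi xgi3 ygi14 zgi58) (kgi xgi12 ygi1 zgi25) (kgi xgi6 ygi40 zgi55) (kgi xgi7 ygi31 zgi25) (kgi xgi3 ygi15 zgi6) (kgi xgi12 ygi1 zgi30) (kgi xgi6 ygi21 zgi5) (kgi xgi7 ygi33 zgi0) (kgi xgi3 ygi14 zgi17) (kgi xgi12 ygi1 zgi33) (kgi xgi3 ygi1 zgi53) (kgi xgi3 ygi1 zgi54) (kgi xgi3 ygi15 zgi52) (kgi xgi3 ygi15 zgi50) (kgi xgi11 ygi48 zgi56) (kgi xgi12 ygi1 zgi40) (kgi xgi7 ygi34 zgi26) (kgi xgi12 ygi1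 zgi46) (kgi xgi3 ygi15 zgi39) (kgi xgi3 ygi45 zgi34) (kgi xgi3 ygi2 zgi17) (kgi xgi3 ygi1 zgi59) (kgi xgi3 ygi45 zgi31) (kgi xgi3 ygi45 zgi29) (kgi xgi3 ygi47 zgi25) (kgi xgi6 ygi19 zgi61) (kgi xgi12 ygi1 zgi57) (kgi xgi12 ygi1 zgi59) (kgi xgi12 ygi2 zgi0) (kgi xgi12 ygi2 zgi2) (kgi xgi12 ygi2 zgi4) (kgi xgi12 ygi0 zgi2) (kgi xgi3 ygi15 zgi42) (kgi xgi10 ygi18 zgi60) (kgi xgi9 ygi7 zgi53) (kgi xgi12 ygi1 zgi52) (kgi xgi9 ygi10 zgi44) (kgi xgi4 ygi38 zgi1) (kgi xgi10 ygi18 zgi57) (kgi xgi6 ygi44 zgi34) (kgi xgi12 ygi2 zgi19) (kgi xgi3 ygi2 zgi7) (kgi xgi12 ygi2 zgi16) (kgi xgi12 ygi2 zgi27)) (@D3.rec (fun _ => Pt) (kgi xgi12 ygi2 zgi14) (kgi xgi3 ygi2 zgi8) (kgi xgi12 ygi1 zgi20) (kgi xgi10 ygi14 zgi36) (kgi xgi6 ygi29 zgi10) (kgi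 xgi3 ygi7 zgi12) (kgi xgi10 ygi12 zgi53) (kgi xgi3 ygi13 zgi25) (kgi xgi12 ygi2 zgi37) (kgi xgi3 ygi45 zgi22) (kgi xgi9 ygi21 zgi10) (kgi xgi12 ygi2 zgi42) (kgi xgi10 ygi14 zgi33) (kgi xgi3 ygi2 zgi14) (kgi xgi12 ygi0 zgi41) (kgi xgi10 ygi14 zgi30) (kgi xgi3 ygi2 zgi15) (kgi xgi6 ygi29 zgi17) (kgi xgi6 ygi38 zgi6) (kgi xgi3 ygi2 zgi16) (kgi xgi10 ygi10 zgi33) (kgi xgi12 ygi2 zgi56) (kgi xgi12 ygi1 zgi26) (kgi xgi3 ygi18 zgi41) (kgi xgi3 ygi14 zgi32) (kgi xgi6 ygi25 zgi39) (kgi xgi6 ygi25 zgi40) (kgi xgi6 ygi28 zgi27) (kgi xgi3 ygi15 zgi45) (kgi xgi12 ygi2 zgi59) (kgi xgi12 ygi2 zgi54) (kgi xgi3 ygi6 zgi29) (kgi xgi6 ygi29 zgi27) (kgi xgi3 ygi2 zgi21) (kgi xgi3 ygi16 zgi54) (kgi xgi6 ygi37 zgi16) (kgi xgi6 ygi36 zgi19) (kgi xgi3 ygi15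 zgi32) (kgi xgi9 ygi29 zgi46) (kgi xgi6 ygi25 zgi43) (kgi xgi7 ygi31 zgi32) (kgi xgi8 ygi34 zgi10) (kgi xgi3 ygi15 zgi44) (kgi xgi12 ygi3 zgi18) (kgi xgi6 ygi9 zgi57) (kgi xgi6 ygi10 zgi4) (kgi xgi3 ygi2 zgi28) (kgi xgi3 ygi15 zgi13) (kgi xgi12 ygi3 zgi27) (kgi xgi6 ygi59 zgi31) (kgi xgi3 ygi2 zgi29) (kgi xgi3 ygi2 zgi33) (kgi xgi3 ygi2 zgi30) (kgi xgi12 ygi3 zgi34) (kgi xgi11 ygi22 zgi19) (kgi xgi5 ygi50 zgi56) (kgi xgi10 ygi11 zgi23) (kgi xgi12 ygi3 zgi33) (kgi xgi6 ygi2 zgi31) (kgi xgi3 ygi2 zgi32) (kgi xgi11 ygi15 zgi58) (kgi xgi12 ygi3 zgi43)) (@D3.rec (fun _ => Pt) (kgi xgi11 ygi14 zgi26) (kgi xgi6 ygi36 zgi47) (kgi xgi12 ygi3 zgi49) (kgi xgi3 ygi2 zgi37) (kgi xgi12 ygi3 zgi53) (kgi xgi11 ygi48 zgi28) (kgi xgi12 ygi3 zgi52)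 (kgi xgi5 ygi41 zgi1) (kgi xgi6 ygi25 zgi19) (kgi xgi5 ygi51 zgi49) (kgi xgi12 ygi4 zgi1) (kgi xgi11 ygi34 zgi60) (kgi xgi6 ygi51 zgi18) (kgi xgi12 ygi4 zgi5) (kgi xgi3 ygi2 zgi41) (kgi xgi3 ygi21 zgi10) (kgi xgi12 ygi4 zgi11) (kgi xgi11 ygi14 zgi56) (kgi xgi7 ygi27 zgi13) (kgi xgi12 ygi4 zgi14) (kgi xgi3 ygi2 zgi45) (kgi xgi5 ygi50 zgi54) (kgi xgi12 ygi4 zgi17) (kgi xgi3 ygi2 zgi46) (kgi xgi12 ygi4 zgi20) (kgi xgi3 ygi2 zgi47) (kgi xgi12 ygi4 zgi15) (kgi xgi3 ygi14 zgi23) (kgi xgi5 ygi40 zgi16) (kgi xgi11 ygi31 zgi30) (kgi xgi3 ygi2 zgi61) (kgi xgi12 ygi3 zgi51) (kgi xgi5 ygi40 zgi46) (kgi xgi9 ygi21 zgi5) (kgi xgi9 ygi17 zgi32) (kgi xgi9 ygi16 zgi60) (kgi xgi11 ygi30 zgi10) (kgi xgi9 ygi27 zgi35) (kgi xgi6 ygi28 zgi33) (kgi xgi9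 ygi24 zgi57) (kgi xgi11 ygi26 zgi36) (kgi xgi11 ygi29 zgi39) (kgi xgi11 ygi48 zgi45) (kgi xgi5 ygi40 zgi3) (kgi xgi8 ygi14 zgi36) (kgi xgi4 ygi42 zgi4) (kgi xgi4 ygi41 zgi54) (kgi xgi9 ygi23 zgi46) (kgi xgi6 ygi27 zgi14) (kgi xgi7 ygi38 zgi6) (kgi xgi9 ygi22 zgi52) (kgi xgi6 ygi43 zgi45) (kgi xgi6 ygi22 zgi10) (kgi xgi3 ygi14 zgi2) (kgi xgi3 ygi6 zgi46) (kgi xgi3 ygi12 zgi2) (kgi xgi4 ygi45 zgi56) (kgi xgi6 ygi27 zgi49) (kgi xgi6 ygi48 zgi46) (kgi xgi3 ygi3 zgi13) (kgi xgi6 ygi17 zgi60) (kgi xgi12 ygi4 zgi55)) (@D3.rec (fun _ => Pt) (kgi xgi6 ygi28 zgi56) (kgi xgi3 ygi3 zgi14) (kgi xgi3 ygi22 zgi34) (kgi xgi3 ygi22 zgi32) (kgi xgi12 ygi5 zgi4) (kgi xgi4 ygi25 zgi19) (kgi xgi12 ygi5 zgi6) (kgi xgi6 ygi15 zgi2) (kgi xgi3 ygi3 zgi20)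 (kgi xgi4 ygi23 zgi44) (kgi xgi12 ygi5 zgi17) (kgi xgi4 ygi26 zgi59) (kgi xgi4 ygi24 zgi43) (kgi xgi9 ygi51 zgi23) (kgi xgi5 ygi56 zgi9) (kgi xgi5 ygi41 zgi22) (kgi xgi9 ygi19 zgi46) (kgi xgi3 ygi3 zgi27) (kgi xgi12 ygi5 zgi28) (kgi xgi3 ygi3 zgi28) (kgi xgi4 ygi36 zgi21) (kgi xgi5 ygi52 zgi35) (kgi xgi4 ygi34 zgi58) (kgi xgi4 ygi36 zgi23) (kgi xgi11 ygi27 zgi33) (kgi xgi3 ygi3 zgi30) (kgi xgi12 ygi5 zgi30) (kgi xgi12 ygi5 zgi42) (kgi xgi12 ygi5 zgi27) (kgi xgi12 ygi5 zgi48) (kgi xgi11 ygi55 zgi46) (kgi xgi4 ygi24 zgi28) (kgi xgi3 ygi40 zgi49) (kgi xgi12 ygi5 zgi53) (kgi xgi3 ygi3 zgi38) (kgi xgi8 ygi2 zgi33) (kgi xgi12 ygi5 zgi61) (kgi xgi4 ygi26 zgi44) (kgi xgi3 ygi3 zgi39) (kgi xgi8 ygi2 zgi3) (kgi xgi12 ygi5 zgi14) (kgi xgi8 ygi2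 zgi40) (kgi xgi3 ygi37 zgi3) (kgi xgi3 ygi33 zgi42) (kgi xgi5 ygi46 zgi38) (kgi xgi5 ygi46 zgi22) (kgi xgi4 ygi0 zgi37) (kgi xgi7 ygi8 zgi24) (kgi xgi4 ygi25 zgi15) (kgi xgi3 ygi3 zgi45) (kgi xgi4 ygi26 zgi28) (kgi xgi11 ygi37 zgi10) (kgi xgi3 ygi3 zgi46) (kgi xgi3 ygi4 zgi23) (kgi xgi3 ygi4 zgi20) (kgi xgi3 ygi40 zgi8) (kgi xgi12 ygi6 zgi27) (kgi xgi3 ygi3 zgi50) (kgi xgi8 ygi45 zgi32) (kgi xgi12 ygi6 zgi33) (kgi xgi8 ygi45 zgi29) (kgi xgi3 ygi3 zgi51)) (@D3.rec (fun _ => Pt) (kgi xgi8 ygi5 zgi25) (kgi xgi8 ygi44 zgi4) (kgi xgi8 ygi1 zgi3) (kgi xgi8 ygi2 zgi6) (kgi xgi11 ygi13 zgi26) (kgi xgi8 ygi51 zgi55) (kgi xgi4 ygi23 zgi0) (kgi xgi5 ygi40 zgi60) (kgi xgi6 ygi13 zgi45) (kgi xgi3 ygi4 zgi35) (kgi xgi8 ygi45 zgi26) (kgi xgi12 ygi6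 zgi51) (kgi xgi3 ygi3 zgi61) (kgi xgi8 ygi45 zgi37) (kgi xgi8 ygi45 zgi35) (kgi xgi5 ygi47 zgi23) (kgi xgi3 ygi58 zgi52) (kgi xgi4 ygi33 zgi34) (kgi xgi12 ygi7 zgi1) (kgi xgi4 ygi56 zgi34) (kgi xgi5 ygi41 zgi32) (kgi xgi4 ygi56 zgi35) (kgi xgi3 ygi4 zgi4) (kgi xgi5 ygi46 zgi35) (kgi xgi12 ygi7 zgi10) (kgi xgi5 ygi46 zgi32) (kgi xgi3 ygi4 zgi5) (kgi xgi8 ygi43 zgi50) (kgi xgi5 ygi46 zgi40) (kgi xgi12 ygi7 zgi6) (kgi xgi3 ygi4 zgi9) (kgi xgi5 ygi41 zgi45) (kgi xgi5 ygi37 zgi41) (kgi xgi11 ygi32 zgi56) (kgi xgi12 ygi7 zgi23) (kgi xgi6 ygi7 zgi34) (kgi xgi10 ygi5 zgi5) (kgi xgi9 ygi7 zgi60) (kgi xgi12 ygi7 zgi30) (kgi xgi3 ygi4 zgi19) (kgi xgi4 ygi45 zgi6) (kgi xgi12 ygi7 zgi35) (kgi xgi3 ygi4 zgi15) (kgi xgi12 ygi7 zgi31) (kgi xgi12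 ygi7 zgi47) (kgi xgi12 ygi7 zgi29) (kgi xgi5 ygi49 zgi38) (kgi xgi4 ygi56 zgi36) (kgi xgi12 ygi7 zgi19) (kgi xgi7 ygi18 zgi60) (kgi xgi12 ygi7 zgi55) (kgi xgi12 ygi7 zgi58) (kgi xgi12 ygi7 zgi61) (kgi xgi7 ygi49 zgi9) (kgi xgi8 ygi50 zgi53) (kgi xgi3 ygi4 zgi22) (kgi xgi7 ygi19 zgi9) (kgi xgi12 ygi8 zgi15) (kgi xgi7 ygi19 zgi7) (kgi xgi7 ygi8 zgi45) (kgi xgi4 ygi41 zgi25) (kgi xgi7 ygi41 zgi53)) (@D3.rec (fun _ => Pt) (kgi xgi12 ygi8 zgi21) (kgi xgi3 ygi37 zgi10) (kgi xgi6 ygi13 zgi6) (kgi xgi7 ygi19 zgi28) (kgi xgi12 ygi8 zgi19) (kgi xgi3 ygi38 zgi41) (kgi xgi4 ygi0 zgi9) (kgi xgi12 ygi8 zgi33) (kgi xgi7 ygi13 zgi11) (kgi xgi7 ygi6 zgi21) (kgi xgi12 ygi8 zgi35) (kgi xgi12 ygi8 zgi38) (kgi xgi4 ygi27 zgi1) (kgi xgi4 ygi27 zgi3) (kgi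 xgi4 ygi24 zgi16) (kgi xgi8 ygi1 zgi4) (kgi xgi8 ygi1 zgi7) (kgi xgi5 ygi56 zgi3) (kgi xgi5 ygi48 zgi12) (kgi xgi5 ygi53 zgi41) (kgi xgi3 ygi49 zgi7) (kgi xgi5 ygi49 zgi27) (kgi xgi3 ygi4 zgi46) (kgi xgi3 ygi4 zgi50) (kgi xgi7 ygi59 zgi19) (kgi xgi3 ygi4 zgi47) (kgi xgi6 ygi24 zgi32) (kgi xgi5 ygi40 zgi1) (kgi xgi5 ygi38 zgi38) (kgi xgi4 ygi31 zgi41) (kgi xgi7 ygi59 zgi7) (kgi xgi11 ygi13 zgi21) (kgi xgi9 ygi45 zgi35) (kgi xgi5 ygi41 zgi33) (kgi xgi12 ygi8 zgi61) (kgi xgi12 ygi9 zgi2) (kgi xgi3 ygi4 zgi53) (kgi xgi5 ygi43 zgi13) (kgi xgi4 ygi37 zgi0) (kgi xgi3 ygi4 zgi57) (kgi xgi3 ygi5 zgi5) (kgi xgi4 ygi36 zgi8) (kgi xgi12 ygi9 zgi11) (kgi xgi12 ygi9 zgi15) (kgi xgi8 ygi37 zgi42) (kgi xgi3 ygi4 zgi59) (kgi xgi3 ygi5 zgi7) (kgi xgi10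 ygi43 zgi25) (kgi xgi3 ygi4 zgi60) (kgi xgi6 ygi12 zgi11) (kgi xgi4 ygi40 zgi55) (kgi xgi9 ygi51 zgi21) (kgi xgi3 ygi5 zgi0) (kgi xgi11 ygi6 zgi56) (kgi xgi5 ygi42 zgi1) (kgi xgi3 ygi59 zgi22) (kgi xgi8 ygi12 zgi23) (kgi xgi3 ygi59 zgi24) (kgi xgi12 ygi9 zgi32) (kgi xgi5 ygi53 zgi51) (kgi xgi12 ygi9 zgi36) (kgi xgi3 ygi5 zgi6)) (@D3.rec (fun _ => Pt) (kgi xgi6 ygi7 zgi30) (kgi xgi10 ygi17 zgi54) (kgi xgi8 ygi12 zgi20) (kgi xgi6 ygi50 zgi18) (kgi xgi12 ygi9 zgi45) (kgi xgi5 ygi54 zgi31) (kgi xgi11 ygi49 zgi43) (kgi xgi5 ygi54 zgi29) (kgi xgi6 ygi7 zgi36) (kgi xgi3 ygi5 zgi19) (kgi xgi6 ygi7 zgi31) (kgi xgi5 ygi51 zgi48) (kgi xgi4 ygi36 zgi50) (kgi xgi11 ygi28 zgi3) (kgi xgi4 ygi56 zgi42) (kgi xgi6 ygi15 zgi20) (kgi xgi4 ygi32 zgi41)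 (kgi xgi6 ygi9 zgi2) (kgi xgi3 ygi5 zgi14) (kgi xgi12 ygi9 zgi57) (kgi xgi3 ygi5 zgi23) (kgi xgi5 ygi43 zgi44) (kgi xgi11 ygi28 zgi19) (kgi xgi11 ygi27 zgi41) (kgi xgi3 ygi5 zgi18) (kgi xgi6 ygi0 zgi10) (kgi xgi4 ygi36 zgi28) (kgi xgi4 ygi5 zgi45) (kgi xgi11 ygi6 zgi45) (kgi xgi11 ygi27 zgi34) (kgi xgi12 ygi10 zgi6) (kgi xgi5 ygi53 zgi38) (kgi xgi9 ygi51 zgi22) (kgi xgi11 ygi28 zgi12) (kgi xgi11 ygi27 zgi31) (kgi xgi12 ygi10 zgi12) (kgi xgi11 ygi24 zgi41) (kgi xgi12 ygi10 zgi16) (kgi xgi3 ygi5 zgi25) (kgi xgi12 ygi9 zgi58) (kgi xgi12 ygi10 zgi24) (kgi xgi12 ygi10 zgi28) (kgi xgi5 ygi49 zgi28) (kgi xgi11 ygi0 zgi33) (kgi xgi12 ygi10 zgi31) (kgi xgi11 ygi49 zgi58) (kgi xgi9 ygi17 zgi61) (kgi xgi5 ygi28 zgi44) (kgi xgi11 ygi24 zgi11)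 (kgi xgi6 ygi32 zgi17) (kgi xgi12 ygi10 zgi36) (kgi xgi3 ygi5 zgi32) (kgi xgi12 ygi10 zgi38) (kgi xgi9 ygi12 zgi24) (kgi xgi12 ygi10 zgi46) (kgi xgi12 ygi10 zgi39) (kgi xgi12 ygi10 zgi50) (kgi xgi10 ygi58 zgi41) (kgi xgi3 ygi5 zgi35) (kgi xgi9 ygi13 zgi13) (kgi xgi6 ygi16 zgi15) (kgi xgi4 ygi34 zgi8)) (@D3.rec (fun _ => Pt) (kgi xgi5 ygi49 zgi13) (kgi xgi5 ygi37 zgi37) (kgi xgi3 ygi5 zgi40) (kgi xgi5 ygi49 zgi10) (kgi xgi12 ygi9 zgi61) (kgi xgi3 ygi5 zgi41) (kgi xgi5 ygi38 zgi36) (kgi xgi5 ygi49 zgi21) (kgi xgi5 ygi49 zgi4) (kgi xgi5 ygi47 zgi9) (kgi xgi3 ygi5 zgi44) (kgi xgi12 ygi11 zgi3) (kgi xgi3 ygi5 zgi45) (kgi xgi11 ygi51 zgi53) (kgi xgi12 ygi6 zgi59) (kgi xgi4 ygi43 zgi18) (kgi xgi4 ygi43 zgi21) (kgi xgi6 ygi20 zgi45) (kgi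 xgi4 ygi44 zgi36) (kgi xgi6 ygi20 zgi59) (kgi xgi12 ygi11 zgi10) (kgi xgi12 ygi11 zgi13) (kgi xgi3 ygi5 zgi61) (kgi xgi3 ygi5 zgi58) (kgi xgi4 ygi47 zgi39) (kgi xgi12 ygi11 zgi20) (kgi xgi3 ygi5 zgi57) (kgi xgi12 ygi11 zgi15) (kgi xgi12 ygi11 zgi28) (kgi xgi12 ygi11 zgi12) (kgi xgi3 ygi43 zgi29) (kgi xgi4 ygi44 zgi45) (kgi xgi4 ygi47 zgi55) (kgi xgi12 ygi11 zgi32) (kgi xgi4 ygi47 zgi58) (kgi xgi4 ygi44 zgi23) (kgi xgi12 ygi11 zgi39) (kgi xgi3 ygi8 zgi5) (kgi xgi9 ygi15 zgi55) (kgi xgi6 ygi43 zgi43) (kgi xgi12 ygi11 zgi6) (kgi xgi6 ygi48 zgi44) (kgi xgi3 ygi6 zgi3) (kgi xgi4 ygi44 zgi31) (kgi xgi12 ygi11 zgi52) (kgi xgi12 ygi11 zgi56) (kgi xgi3 ygi48 zgi33) (kgi xgi4 ygi45 zgi51) (kgi xgi6 ygi44 zgi2) (kgi xgi6 ygi31 zgi59) (kgi xgi6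 ygi42 zgi35) (kgi xgi6 ygi31 zgi17) (kgi xgi9 ygi18 zgi18) (kgi xgi3 ygi11 zgi45) (kgi xgi6 ygi31 zgi44) (kgi xgi6 ygi18 zgi55) (kgi xgi6 ygi48 zgi43) (kgi xgi6 ygi12 zgi46) (kgi xgi12 ygi12 zgi8) (kgi xgi6 ygi20 zgi23) (kgi xgi6 ygi12 zgi59) (kgi xgi3 ygi6 zgi13)) (@D3.rec (fun _ => Pt) (kgi xgi4 ygi50 zgi29) (kgi xgi4 ygi50 zgi27) (kgi xgi6 ygi9 zgi39) (kgi xgi3 ygi6 zgi20) (kgi xgi6 ygi33 zgi37) (kgi xgi3 ygi18 zgi18) (kgi xgi3 ygi11 zgi29) (kgi xgi7 ygi11 zgi40) (kgi xgi9 ygi59 zgi7) (kgi xgi6 ygi33 zgi20) (kgi xgi9 ygi28 zgi46) (kgi xgi6 ygi58 zgi59) (kgi xgi6 ygi32 zgi52) (kgi xgi12 ygi12 zgi35) (kgi xgi6 ygi29 zgi21) (kgi xgi12 ygi3 zgi4) (kgi xgi3 ygi6 zgi24) (kgi xgi3 ygi6 zgi33) (kgi xgi6 ygi59 zgi8) (kgi xgi3 ygi6 zgi30)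 (kgi xgi6 ygi27 zgi55) (kgi xgi11 ygi41 zgi11) (kgi xgi6 ygi33 zgi53) (kgi xgi12 ygi12 zgi47) (kgi xgi3 ygi22 zgi40) (kgi xgi3 ygi6 zgi28) (kgi xgi6 ygi18 zgi25) (kgi xgi12 ygi12 zgi56) (kgi xgi12 ygi3 zgi2) (kgi xgi6 ygi37 zgi6) (kgi xgi12 ygi1 zgi28) (kgi xgi6 ygi28 zgi31) (kgi xgi6 ygi33 zgi38) (kgi xgi6 ygi27 zgi11) (kgi xgi6 ygi30 zgi31) (kgi xgi12 ygi13 zgi0) (kgi xgi12 ygi13 zgi3) (kgi xgi6 ygi29 zgi53) (kgi xgi6 ygi59 zgi7) (kgi xgi6 ygi37 zgi22) (kgi xgi6 ygi49 zgi44) (kgi xgi12 ygi0 zgi45) (kgi xgi6 ygi28 zgi5) (kgi xgi12 ygi0 zgi17) (kgi xgi6 ygi27 zgi9) (kgi xgi12 ygi12 zgi31) (kgi xgi3 ygi6 zgi38) (kgi xgi12 ygi13 zgi24) (kgi xgi12 ygi13 zgi28) (kgi xgi6 ygi27 zgi19) (kgi xgi6 ygi29 zgi2) (kgi xgi6 ygi28 zgi16) (kgi xgi6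 ygi42 zgi56) (kgi xgi12 ygi13 zgi34) (kgi xgi6 ygi28 zgi24) (kgi xgi6 ygi17 zgi53) (kgi xgi3 ygi6 zgi48) (kgi xgi6 ygi27 zgi61) (kgi xgi6 ygi27 zgi59) (kgi xgi6 ygi53 zgi4) (kgi xgi3 ygi8 zgi0) (kgi xgi12 ygi13 zgi49)) (@D3.rec (fun _ => Pt) (kgi xgi12 ygi13 zgi52) (kgi xgi3 ygi6 zgi56) (kgi xgi3 ygi10 zgi30) (kgi xgi6 ygi30 zgi19) (kgi xgi6 ygi28 zgi19) (kgi xgi6 ygi52 zgi45) (kgi xgi3 ygi25 zgi0) (kgi xgi4 ygi43 zgi56) (kgi xgi6 ygi29 zgi15) (kgi xgi3 ygi7 zgi0) (kgi xgi7 ygi31 zgi12) (kgi xgi8 ygi23 zgi38) (kgi xgi7 ygi31 zgi10) (kgi xgi4 ygi43 zgi22) (kgi xgi3 ygi7 zgi2) (kgi xgi6 ygi49 zgi8) (kgi xgi6 ygi9 zgi56) (kgi xgi3 ygi7 zgi5) (kgi xgi6 ygi38 zgi53) (kgi xgi3 ygi7 zgi7) (kgi xgi6 ygi28 zgi46) (kgi xgi12 ygi14 zgi5) (kgi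 xgi6 ygi28 zgi43) (kgi xgi4 ygi43 zgi55) (kgi xgi3 ygi7 zgi11) (kgi xgi9 ygi21 zgi59) (kgi xgi6 ygi29 zgi28) (kgi xgi6 ygi28 zgi39) (kgi xgi12 ygi14 zgi10) (kgi xgi12 ygi13 zgi38) (kgi xgi3 ygi7 zgi14) (kgi xgi4 ygi42 zgi21) (kgi xgi6 ygi28 zgi25) (kgi xgi6 ygi28 zgi58) (kgi xgi3 ygi7 zgi17) (kgi xgi9 ygi12 zgi47) (kgi xgi9 ygi23 zgi12) (kgi xgi11 ygi49 zgi10) (kgi xgi12 ygi14 zgi23) (kgi xgi3 ygi7 zgi19) (kgi xgi3 ygi7 zgi51) (kgi xgi6 ygi29 zgi1) (kgi xgi3 ygi7 zgi48) (kgi xgi6 ygi17 zgi17) (kgi xgi6 ygi35 zgi12) (kgi xgi5 ygi30 zgi56) (kgi xgi6 ygi59 zgi3) (kgi xgi8 ygi34 zgi45) (kgi xgi3 ygi7 zgi27) (kgi xgi12 ygi14 zgi32) (kgi xgi6 ygi39 zgi11) (kgi xgi3 ygi7 zgi57) (kgi xgi3 ygi7 zgi29) (kgi xgi12 ygi14 zgi37) (kgi xgi3 ygi7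 zgi30) (kgi xgi6 ygi20 zgi51) (kgi xgi7 ygi21 zgi5) (kgi xgi7 ygi33 zgi2) (kgi xgi4 ygi40 zgi25) (kgi xgi4 ygi45 zgi26) (kgi xgi6 ygi49 zgi6) (kgi xgi3 ygi7 zgi34)) (@D3.rec (fun _ => Pt) (kgi xgi12 ygi14 zgi46) (kgi xgi12 ygi14 zgi49) (kgi xgi3 ygi7 zgi36) (kgi xgi12 ygi14 zgi52) (kgi xgi6 ygi23 zgi3) (kgi xgi6 ygi51 zgi20) (kgi xgi3 ygi7 zgi55) (kgi xgi3 ygi7 zgi39) (kgi xgi9 ygi10 zgi37) (kgi xgi7 ygi30 zgi58) (kgi xgi11 ygi35 zgi0) (kgi xgi7 ygi31 zgi22) (kgi xgi12 ygi15 zgi1) (kgi xgi12 ygi15 zgi4) (kgi xgi12 ygi15 zgi7) (kgi xgi3 ygi7 zgi42) (kgi xgi9 ygi9 zgi21) (kgi xgi5 ygi7 zgi40) (kgi xgi12 ygi15 zgi13) (kgi xgi12 ygi15 zgi15) (kgi xgi6 ygi51 zgi19) (kgi xgi7 ygi30 zgi57) (kgi xgi9 ygi57 zgi57) (kgi xgi11 ygi58 zgi36) (kgi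 xgi3 ygi7 zgi47) (kgi xgi12 ygi14 zgi25) (kgi xgi9 ygi43 zgi6) (kgi xgi9 ygi12 zgi18) (kgi xgi12 ygi14 zgi58) (kgi xgi3 ygi15 zgi58) (kgi xgi12 ygi14 zgi55) (kgi xgi12 ygi15 zgi31) (kgi xgi11 ygi10 zgi24) (kgi xgi3 ygi7 zgi50) (kgi xgi11 ygi10 zgi40) (kgi xgi12 ygi14 zgi28) (kgi xgi3 ygi7 zgi52) (kgi xgi6 ygi49 zgi31) (kgi xgi4 ygi47 zgi44) (kgi xgi12 ygi15 zgi41) (kgi xgi9 ygi27 zgi7) (kgi xgi3 ygi7 zgi53) (kgi xgi6 ygi45 zgi53) (kgi xgi6 ygi41 zgi0) (kgi xgi9 ygi15 zgi45) (kgi xgi8 ygi35 zgi41) (kgi xgi4 ygi45 zgi49) (kgi xgi12 ygi15 zgi49) (kgi xgi12 ygi15 zgi51) (kgi xgi12 ygi15 zgi44) (kgi xgi6 ygi59 zgi2) (kgi xgi6 ygi19 zgi54) (kgi xgi6 ygi19 zgi13) (kgi xgi6 ygi59 zgi4) (kgi xgi4 ygi47 zgi31) (kgi xgi4 ygi47 zgi32) (kgi xgi12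 ygi15 zgi61) (kgi xgi3 ygi10 zgi40) (kgi xgi3 ygi8 zgi8) (kgi xgi6 ygi17 zgi40) (kgi xgi12 ygi16 zgi4) (kgi xgi3 ygi8 zgi10)) (@D3.rec (fun _ => Pt) (kgi xgi4 ygi43 zgi20) (kgi xgi3 ygi8 zgi11) (kgi xgi4 ygi53 zgi30) (kgi xgi4 ygi53 zgi33) (kgi xgi12 ygi16 zgi9) (kgi xgi6 ygi18 zgi24) (kgi xgi12 ygi16 zgi12) (kgi xgi12 ygi16 zgi15) (kgi xgi3 ygi15 zgi56) (kgi xgi12 ygi16 zgi19) (kgi xgi12 ygi16 zgi23) (kgi xgi4 ygi44 zgi35) (kgi xgi3 ygi17 zgi18) (kgi xgi6 ygi59 zgi26) (kgi xgi3 ygi8 zgi18) (kgi xgi6 ygi59 zgi25) (kgi xgi12 ygi16 zgi35) (kgi xgi12 ygi16 zgi11) (kgi xgi8 ygi22 zgi61) (kgi xgi9 ygi48 zgi32) (kgi xgi5 ygi4 zgi18) (kgi xgi4 ygi50 zgi11) (kgi xgi12 ygi12 zgi29) (kgi xgi3 ygi8 zgi48) (kgi xgi6 ygi36 zgi17) (kgi xgi9 ygi18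 zgi37) (kgi xgi3 ygi8 zgi26) (kgi xgi4 ygi59 zgi44) (kgi xgi12 ygi16 zgi53) (kgi xgi6 ygi36 zgi15) (kgi xgi3 ygi8 zgi27) (kgi xgi9 ygi18 zgi35) (kgi xgi12 ygi16 zgi60) (kgi xgi6 ygi59 zgi29) (kgi xgi3 ygi8 zgi28) (kgi xgi6 ygi29 zgi52) (kgi xgi3 ygi8 zgi29) (kgi xgi4 ygi59 zgi14) (kgi xgi12 ygi17 zgi8) (kgi xgi10 ygi57 zgi22) (kgi xgi3 ygi8 zgi30) (kgi xgi3 ygi8 zgi43) (kgi xgi3 ygi19 zgi27) (kgi xgi3 ygi19 zgi29) (kgi xgi3 ygi8 zgi34) (kgi xgi3 ygi8 zgi45) (kgi xgi12 ygi17 zgi16) (kgi xgi4 ygi48 zgi10) (kgi xgi4 ygi50 zgi5) (kgi xgi6 ygi49 zgi50) (kgi xgi6 ygi49 zgi56) (kgi xgi6 ygi47 zgi39) (kgi xgi9 ygi18 zgi28) (kgi xgi6 ygi50 zgi54) (kgi xgi6 ygi49 zgi54) (kgi xgi12 ygi17 zgi30) (kgi xgi4 ygi58 zgi36) (kgi xgi3 ygi8 zgi40) (kgi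 xgi6 ygi49 zgi55) (kgi xgi12 ygi17 zgi36) (kgi xgi6 ygi50 zgi59) (kgi xgi6 ygi42 zgi19)) (@D3.rec (fun _ => Pt) (kgi xgi12 ygi17 zgi35) (kgi xgi5 ygi50 zgi28) (kgi xgi5 ygi50 zgi27) (kgi xgi12 ygi17 zgi47) (kgi xgi6 ygi8 zgi17) (kgi xgi3 ygi8 zgi44) (kgi xgi5 ygi51 zgi39) (kgi xgi12 ygi17 zgi50) (kgi xgi6 ygi43 zgi8) (kgi xgi4 ygi50 zgi20) (kgi xgi6 ygi12 zgi48) (kgi xgi6 ygi27 zgi52) (kgi xgi6 ygi36 zgi35) (kgi xgi12 ygi13 zgi43) (kgi xgi12 ygi4 zgi41) (kgi xgi6 ygi49 zgi58) (kgi xgi9 ygi39 zgi10) (kgi xgi12 ygi18 zgi2) (kgi xgi12 ygi17 zgi60) (kgi xgi12 ygi12 zgi18) (kgi xgi12 ygi18 zgi10) (kgi xgi12 ygi18 zgi11) (kgi xgi12 ygi18 zgi9) (kgi xgi3 ygi8 zgi55) (kgi xgi9 ygi36 zgi35) (kgi xgi9 ygi36 zgi43) (kgi xgi12 ygi18 zgi22) (kgi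 xgi3 ygi8 zgi56) (kgi xgi9 ygi18 zgi51) (kgi xgi4 ygi39 zgi15) (kgi xgi6 ygi46 zgi40) (kgi xgi9 ygi18 zgi50) (kgi xgi8 ygi20 zgi50) (kgi xgi12 ygi12 zgi22) (kgi xgi12 ygi18 zgi37) (kgi xgi3 ygi8 zgi61) (kgi xgi9 ygi18 zgi55) (kgi xgi12 ygi18 zgi43) (kgi xgi12 ygi0 zgi48) (kgi xgi3 ygi9 zgi1) (kgi xgi9 ygi19 zgi2) (kgi xgi9 ygi19 zgi0) (kgi xgi12 ygi18 zgi56) (kgi xgi3 ygi11 zgi2) (kgi xgi3 ygi11 zgi3) (kgi xgi12 ygi13 zgi44) (kgi xgi12 ygi18 zgi61) (kgi xgi6 ygi57 zgi56) (kgi xgi12 ygi17 zgi33) (kgi xgi12 ygi13 zgi48) (kgi xgi8 ygi25 zgi1) (kgi xgi3 ygi9 zgi7) (kgi xgi7 ygi11 zgi21) (kgi xgi12 ygi19 zgi13) (kgi xgi12 ygi19 zgi18) (kgi xgi12 ygi19 zgi21) (kgi xgi3 ygi9 zgi8) (kgi xgi12 ygi19 zgi3) (kgi xgi12 ygi19 zgi2) (kgi xgi3 ygi9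 zgi9) (kgi xgi9 ygi18 zgi54) (kgi xgi9 ygi18 zgi52)) (@D3.rec (fun _ => Pt) (kgi xgi12 ygi19 zgi36) (kgi xgi3 ygi9 zgi10) (kgi xgi9 ygi18 zgi22) (kgi xgi4 ygi43 zgi6) (kgi xgi6 ygi19 zgi31) (kgi xgi3 ygi9 zgi45) (kgi xgi6 ygi23 zgi51) (kgi xgi9 ygi19 zgi22) (kgi xgi6 ygi27 zgi36) (kgi xgi12 ygi13 zgi54) (kgi xgi3 ygi9 zgi15) (kgi xgi6 ygi27 zgi29) (kgi xgi12 ygi19 zgi51) (kgi xgi7 ygi29 zgi61) (kgi xgi12 ygi19 zgi57) (kgi xgi3 ygi9 zgi16) (kgi xgi12 ygi19 zgi47) (kgi xgi12 ygi19 zgi46) (kgi xgi3 ygi9 zgi17) (kgi xgi6 ygi27 zgi46) (kgi xgi6 ygi27 zgi44) (kgi xgi12 ygi20 zgi6) (kgi xgi5 ygi11 zgi25) (kgi xgi3 ygi22 zgi5) (kgi xgi8 ygi35 zgi27) (kgi xgi3 ygi9 zgi22) (kgi xgi3 ygi9 zgi24) (kgi xgi12 ygi20 zgi11) (kgi xgi8 ygi31 zgi35)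 (kgi xgi3 ygi22 zgi30) (kgi xgi4 ygi53 zgi21) (kgi xgi3 ygi9 zgi26) (kgi xgi12 ygi12 zgi13) (kgi xgi4 ygi21 zgi55) (kgi xgi4 ygi42 zgi26) (kgi xgi12 ygi20 zgi33) (kgi xgi3 ygi11 zgi54) (kgi xgi3 ygi9 zgi25) (kgi xgi3 ygi11 zgi56) (kgi xgi12 ygi20 zgi43) (kgi xgi12 ygi20 zgi46) (kgi xgi3 ygi9 zgi27) (kgi xgi4 ygi19 zgi35) (kgi xgi8 ygi24 zgi29) (kgi xgi3 ygi9 zgi28) (kgi xgi6 ygi48 zgi51) (kgi xgi9 ygi0 zgi18) (kgi xgi6 ygi27 zgi54) (kgi xgi3 ygi22 zgi26) (kgi xgi4 ygi11 zgi48) (kgi xgi6 ygi43 zgi9) (kgi xgi6 ygi21 zgi18) (kgi xgi4 ygi43 zgi0) (kgi xgi9 ygi19 zgi14) (kgi xgi3 ygi9 zgi34) (kgi xgi9 ygi19 zgi12) (kgi xgi12 ygi21 zgi1) (kgi xgi12 ygi11 zgi50) (kgi xgi12 ygi15 zgi56) (kgi xgi3 ygi9 zgi36) (kgi xgi9 ygi19 zgi20) (kgi xgi6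 ygi48 zgi54)) (@D3.rec (fun _ => Pt) (kgi xgi12 ygi21 zgi16) (kgi xgi4 ygi41 zgi56) (kgi xgi3 ygi20 zgi6) (kgi xgi3 ygi53 zgi36) (kgi xgi12 ygi21 zgi21) (kgi xgi3 ygi9 zgi42) (kgi xgi12 ygi21 zgi26) (kgi xgi6 ygi41 zgi41) (kgi xgi12 ygi21 zgi32) (kgi xgi3 ygi9 zgi43) (kgi xgi12 ygi21 zgi22) (kgi xgi12 ygi3 zgi16) (kgi xgi3 ygi9 zgi44) (kgi xgi7 ygi11 zgi43) (kgi xgi7 ygi11 zgi41) (kgi xgi12 ygi21 zgi46) (kgi xgi6 ygi28 zgi57) (kgi xgi6 ygi9 zgi24) (kgi xgi9 ygi32 zgi46) (kgi xgi9 ygi19 zgi13) (kgi xgi6 ygi23 zgi4) (kgi xgi3 ygi9 zgi49) (kgi xgi4 ygi39 zgi40) (kgi xgi4 ygi39 zgi38) (kgi xgi4 ygi36 zgi55) (kgi xgi10 ygi16 zgi6) (kgi xgi4 ygi5 zgi54) (kgi xgi11 ygi36 zgi16) (kgi xgi12 ygi6 zgi56) (kgi xgi8 ygi5 zgi17) (kgi xgi4 ygi1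 zgi28) (kgi xgi3 ygi59 zgi32) (kgi xgi6 ygi15 zgi30) (kgi xgi8 ygi49 zgi17) (kgi xgi10 ygi1 zgi58) (kgi xgi4 ygi32 zgi56) (kgi xgi8 ygi45 zgi38) (kgi xgi8 ygi45 zgi46) (kgi xgi12 ygi22 zgi9) (kgi xgi4 ygi59 zgi24) (kgi xgi12 ygi22 zgi13) (kgi xgi3 ygi9 zgi59) (kgi xgi12 ygi22 zgi10) (kgi xgi12 ygi22 zgi23) (kgi xgi12 ygi22 zgi8) (kgi xgi4 ygi36 zgi38) (kgi xgi4 ygi39 zgi46) (kgi xgi8 ygi2 zgi26) (kgi xgi12 ygi22 zgi31) (kgi xgi12 ygi22 zgi34) (kgi xgi8 ygi46 zgi35) (kgi xgi12 ygi22 zgi30) (kgi xgi8 ygi2 zgi36) (kgi xgi3 ygi10 zgi2) (kgi xgi12 ygi22 zgi48) (kgi xgi8 ygi46 zgi27) (kgi xgi7 ygi25 zgi10) (kgi xgi12 ygi22 zgi54) (kgi xgi7 ygi27 zgi44) (kgi xgi12 ygi22 zgi59) (kgi xgi3 ygi10 zgi6) (kgi xgi7 ygi23 zgi3)) (@D3.rec (fun _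 => Pt) (kgi xgi8 ygi45 zgi57) (kgi xgi3 ygi44 zgi8) (kgi xgi12 ygi23 zgi7) (kgi xgi3 ygi10 zgi12) (kgi xgi3 ygi10 zgi15) (kgi xgi4 ygi24 zgi36) (kgi xgi12 ygi23 zgi14) (kgi xgi3 ygi10 zgi13) (kgi xgi3 ygi10 zgi17) (kgi xgi12 ygi23 zgi19) (kgi xgi3 ygi10 zgi14) (kgi xgi4 ygi40 zgi3) (kgi xgi5 ygi55 zgi47) (kgi xgi8 ygi52 zgi53) (kgi xgi4 ygi23 zgi20) (kgi xgi6 ygi28 zgi20) (kgi xgi6 ygi39 zgi0) (kgi xgi12 ygi23 zgi28) (kgi xgi5 ygi56 zgi33) (kgi xgi12 ygi23 zgi32) (kgi xgi5 ygi56 zgi32) (kgi xgi10 ygi39 zgi32) (kgi xgi3 ygi10 zgi20) (kgi xgi4 ygi46 zgi18) (kgi xgi3 ygi10 zgi22) (kgi xgi12 ygi10 zgi45) (kgi xgi9 ygi15 zgi1) (kgi xgi3 ygi10 zgi23) (kgi xgi9 ygi13 zgi44) (kgi xgi4 ygi23 zgi7) (kgi xgi3 ygi10 zgi26) (kgi xgi4 ygi57 zgi14)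 (kgi xgi3 ygi10 zgi27) (kgi xgi4 ygi24 zgi32) (kgi xgi3 ygi41 zgi27) (kgi xgi12 ygi23 zgi52) (kgi xgi4 ygi58 zgi52) (kgi xgi6 ygi52 zgi44) (kgi xgi8 ygi22 zgi25) (kgi xgi3 ygi10 zgi33) (kgi xgi6 ygi10 zgi16) (kgi xgi3 ygi10 zgi36) (kgi xgi6 ygi34 zgi49) (kgi xgi6 ygi11 zgi28) (kgi xgi5 ygi55 zgi15) (kgi xgi3 ygi10 zgi39) (kgi xgi12 ygi23 zgi58) (kgi xgi9 ygi20 zgi35) (kgi xgi12 ygi24 zgi0) (kgi xgi6 ygi50 zgi34) (kgi xgi6 ygi50 zgi28) (kgi xgi3 ygi59 zgi48) (kgi xgi12 ygi24 zgi2) (kgi xgi4 ygi41 zgi14) (kgi xgi3 ygi10 zgi45) (kgi xgi9 ygi18 zgi11) (kgi xgi9 ygi18 zgi10) (kgi xgi3 ygi10 zgi46) (kgi xgi9 ygi11 zgi8) (kgi xgi9 ygi12 zgi7) (kgi xgi12 ygi24 zgi11) (kgi xgi6 ygi54 zgi0)) (@D3.rec (fun _ => Pt) (kgi xgi5 ygi6 zgi54) (kgi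 xgi9 ygi15 zgi16) (kgi xgi3 ygi10 zgi51) (kgi xgi10 ygi17 zgi50) (kgi xgi11 ygi21 zgi9) (kgi xgi6 ygi50 zgi56) (kgi xgi4 ygi50 zgi9) (kgi xgi3 ygi10 zgi53) (kgi xgi6 ygi51 zgi22) (kgi xgi12 ygi24 zgi21) (kgi xgi6 ygi9 zgi19) (kgi xgi3 ygi24 zgi21) (kgi xgi4 ygi41 zgi58) (kgi xgi3 ygi10 zgi59) (kgi xgi12 ygi24 zgi28) (kgi xgi6 ygi10 zgi3) (kgi xgi11 ygi55 zgi52) (kgi xgi12 ygi24 zgi32) (kgi xgi3 ygi42 zgi31) (kgi xgi6 ygi31 zgi0) (kgi xgi10 ygi14 zgi0) (kgi xgi10 ygi23 zgi0) (kgi xgi3 ygi11 zgi4) (kgi xgi12 ygi20 zgi36) (kgi xgi12 ygi20 zgi39) (kgi xgi8 ygi25 zgi30) (kgi xgi3 ygi13 zgi37) (kgi xgi3 ygi11 zgi25) (kgi xgi6 ygi50 zgi25) (kgi xgi12 ygi24 zgi54) (kgi xgi3 ygi11 zgi9) (kgi xgi6 ygi50 zgi10) (kgi xgi12 ygi24 zgi59) (kgi xgi3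 ygi11 zgi10) (kgi xgi3 ygi59 zgi43) (kgi xgi12 ygi25 zgi5) (kgi xgi3 ygi11 zgi11) (kgi xgi3 ygi20 zgi1) (kgi xgi3 ygi20 zgi4) (kgi xgi3 ygi11 zgi14) (kgi xgi3 ygi11 zgi23) (kgi xgi12 ygi25 zgi16) (kgi xgi4 ygi48 zgi39) (kgi xgi3 ygi15 zgi8) (kgi xgi9 ygi20 zgi20) (kgi xgi6 ygi33 zgi44) (kgi xgi9 ygi20 zgi11) (kgi xgi3 ygi18 zgi7) (kgi xgi11 ygi43 zgi52) (kgi xgi12 ygi25 zgi27) (kgi xgi3 ygi11 zgi18) (kgi xgi3 ygi45 zgi7) (kgi xgi6 ygi41 zgi21) (kgi xgi3 ygi11 zgi19) (kgi xgi3 ygi45 zgi20) (kgi xgi4 ygi59 zgi27) (kgi xgi4 ygi59 zgi29) (kgi xgi12 ygi25 zgi38) (kgi xgi12 ygi25 zgi42) (kgi xgi5 ygi46 zgi7) (kgi xgi5 ygi49 zgi7) (kgi xgi4 ygi41 zgi5)) (@D3.rec (fun _ => Pt) (kgi xgi12 ygi25 zgi46) (kgi xgi6 ygi44 zgi11) (kgi xgi4 ygi41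 zgi7) (kgi xgi6 ygi49 zgi35) (kgi xgi12 ygi19 zgi11) (kgi xgi6 ygi29 zgi49) (kgi xgi8 ygi35 zgi35) (kgi xgi12 ygi19 zgi33) (kgi xgi6 ygi47 zgi44) (kgi xgi9 ygi20 zgi10) (kgi xgi6 ygi41 zgi17) (kgi xgi6 ygi18 zgi36) (kgi xgi12 ygi25 zgi61) (kgi xgi11 ygi14 zgi51) (kgi xgi6 ygi12 zgi52) (kgi xgi12 ygi21 zgi43) (kgi xgi8 ygi25 zgi32) (kgi xgi12 ygi26 zgi7) (kgi xgi11 ygi12 zgi17) (kgi xgi6 ygi18 zgi52) (kgi xgi3 ygi11 zgi34) (kgi xgi12 ygi26 zgi11) (kgi xgi12 ygi26 zgi17) (kgi xgi12 ygi26 zgi23) (kgi xgi12 ygi26 zgi12) (kgi xgi3 ygi11 zgi35) (kgi xgi9 ygi20 zgi31) (kgi xgi9 ygi20 zgi29) (kgi xgi3 ygi25 zgi8) (kgi xgi6 ygi23 zgi10) (kgi xgi12 ygi26 zgi32) (kgi xgi12 ygi24 zgi24) (kgi xgi6 ygi23 zgi49) (kgi xgi3 ygi11 zgi61) (kgi xgi7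 ygi26 zgi47) (kgi xgi6 ygi22 zgi15) (kgi xgi3 ygi11 zgi42) (kgi xgi6 ygi23 zgi8) (kgi xgi12 ygi26 zgi40) (kgi xgi12 ygi19 zgi10) (kgi xgi9 ygi37 zgi16) (kgi xgi3 ygi11 zgi43) (kgi xgi12 ygi26 zgi33) (kgi xgi7 ygi20 zgi10) (kgi xgi3 ygi11 zgi44) (kgi xgi6 ygi23 zgi20) (kgi xgi6 ygi23 zgi18) (kgi xgi12 ygi26 zgi57) (kgi xgi6 ygi19 zgi29) (kgi xgi6 ygi12 zgi54) (kgi xgi6 ygi18 zgi46) (kgi xgi12 ygi0 zgi46) (kgi xgi3 ygi45 zgi27) (kgi xgi12 ygi0 zgi5) (kgi xgi12 ygi27 zgi5) (kgi xgi3 ygi11 zgi52) (kgi xgi6 ygi18 zgi20) (kgi xgi12 ygi27 zgi12) (kgi xgi12 ygi18 zgi41) (kgi xgi3 ygi11 zgi53) (kgi xgi6 ygi18 zgi58) (kgi xgi6 ygi18 zgi56)) (@D3.rec (fun _ => Pt) (kgi xgi12 ygi27 zgi19) (kgi xgi12 ygi27 zgi24) (kgi xgi12 ygi19 zgi43) (kgi xgi12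 ygi21 zgi38) (kgi xgi12 ygi27 zgi23) (kgi xgi12 ygi18 zgi38) (kgi xgi6 ygi44 zgi12) (kgi xgi11 ygi29 zgi5) (kgi xgi9 ygi20 zgi59) (kgi xgi6 ygi33 zgi1) (kgi xgi4 ygi41 zgi61) (kgi xgi3 ygi12 zgi3) (kgi xgi9 ygi7 zgi15) (kgi xgi3 ygi12 zgi4) (kgi xgi3 ygi45 zgi17) (kgi xgi5 ygi11 zgi53) (kgi xgi6 ygi19 zgi8) (kgi xgi3 ygi12 zgi6) (kgi xgi12 ygi0 zgi4) (kgi xgi12 ygi0 zgi3) (kgi xgi9 ygi11 zgi42) (kgi xgi12 ygi27 zgi52) (kgi xgi3 ygi12 zgi9) (kgi xgi3 ygi12 zgi18) (kgi xgi12 ygi26 zgi60) (kgi xgi3 ygi12 zgi10) (kgi xgi6 ygi19 zgi32) (kgi xgi6 ygi19 zgi30) (kgi xgi3 ygi12 zgi26) (kgi xgi8 ygi33 zgi29) (kgi xgi9 ygi20 zgi47) (kgi xgi12 ygi27 zgi60) (kgi xgi3 ygi48 zgi41) (kgi xgi12 ygi11 zgi16) (kgi xgi3 ygi12 zgi16) (kgi xgi12 ygi27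 zgi61) (kgi xgi8 ygi23 zgi10) (kgi xgi6 ygi18 zgi31) (kgi xgi3 ygi12 zgi17) (kgi xgi6 ygi11 zgi5) (kgi xgi3 ygi17 zgi27) (kgi xgi12 ygi28 zgi5) (kgi xgi9 ygi59 zgi5) (kgi xgi3 ygi12 zgi19) (kgi xgi6 ygi19 zgi22) (kgi xgi10 ygi53 zgi11) (kgi xgi6 ygi19 zgi19) (kgi xgi3 ygi12 zgi29) (kgi xgi9 ygi20 zgi46) (kgi xgi3 ygi12 zgi34) (kgi xgi3 ygi12 zgi24) (kgi xgi6 ygi44 zgi32) (kgi xgi6 ygi36 zgi54) (kgi xgi12 ygi28 zgi18) (kgi xgi6 ygi36 zgi41) (kgi xgi5 ygi48 zgi5) (kgi xgi12 ygi12 zgi12) (kgi xgi4 ygi42 zgi31) (kgi xgi6 ygi19 zgi7) (kgi xgi3 ygi12 zgi27) (kgi xgi4 ygi37 zgi56) (kgi xgi12 ygi28 zgi23)) (@D3.rec (fun _ => Pt) (kgi xgi9 ygi55 zgi60) (kgi xgi6 ygi20 zgi35) (kgi xgi6 ygi19 zgi23) (kgi xgi12 ygi28 zgi17) (kgi xgi10 ygi2 zgi40)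 (kgi xgi12 ygi27 zgi59) (kgi xgi3 ygi44 zgi48) (kgi xgi4 ygi44 zgi6) (kgi xgi12 ygi28 zgi38) (kgi xgi12 ygi28 zgi40) (kgi xgi6 ygi10 zgi13) (kgi xgi9 ygi56 zgi22) (kgi xgi12 ygi27 zgi56) (kgi xgi3 ygi12 zgi33) (kgi xgi12 ygi28 zgi46) (kgi xgi6 ygi18 zgi51) (kgi xgi12 ygi28 zgi49) (kgi xgi6 ygi11 zgi32) (kgi xgi3 ygi12 zgi36) (kgi xgi3 ygi12 zgi41) (kgi xgi3 ygi12 zgi39) (kgi xgi3 ygi12 zgi37) (kgi xgi6 ygi18 zgi14) (kgi xgi12 ygi28 zgi57) (kgi xgi3 ygi12 zgi38) (kgi xgi12 ygi28 zgi52) (kgi xgi3 ygi18 zgi25) (kgi xgi6 ygi11 zgi17) (kgi xgi4 ygi44 zgi37) (kgi xgi9 ygi21 zgi41) (kgi xgi9 ygi20 zgi43) (kgi xgi6 ygi25 zgi37) (kgi xgi12 ygi2 zgi50) (kgi xgi3 ygi28 zgi32) (kgi xgi12 ygi29 zgi8) (kgi xgi12 ygi29 zgi10) (kgi xgi3 ygi12 zgi47)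 (kgi xgi3 ygi12 zgi52) (kgi xgi3 ygi12 zgi50) (kgi xgi11 ygi42 zgi31) (kgi xgi3 ygi12 zgi49) (kgi xgi12 ygi29 zgi12) (kgi xgi12 ygi29 zgi19) (kgi xgi12 ygi11 zgi31) (kgi xgi6 ygi49 zgi20) (kgi xgi9 ygi18 zgi15) (kgi xgi6 ygi19 zgi12) (kgi xgi5 ygi58 zgi34) (kgi xgi12 ygi17 zgi27) (kgi xgi6 ygi49 zgi24) (kgi xgi9 ygi20 zgi25) (kgi xgi9 ygi29 zgi1) (kgi xgi6 ygi21 zgi34) (kgi xgi12 ygi2 zgi36) (kgi xgi5 ygi58 zgi52) (kgi xgi12 ygi29 zgi34) (kgi xgi6 ygi11 zgi21) (kgi xgi3 ygi12 zgi59) (kgi xgi3 ygi45 zgi36) (kgi xgi6 ygi40 zgi57) (kgi xgi3 ygi23 zgi11) (kgi xgi3 ygi12 zgi60)) (@D3.rec (fun _ => Pt) (kgi xgi12 ygi29 zgi28) (kgi xgi6 ygi18 zgi37) (kgi xgi3 ygi12 zgi61) (kgi xgi4 ygi58 zgi46) (kgi xgi12 ygi29 zgi46) (kgi xgi5 ygi52 zgi47)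 (kgi xgi9 ygi50 zgi37) (kgi xgi3 ygi14 zgi21) (kgi xgi6 ygi50 zgi46) (kgi xgi6 ygi19 zgi3) (kgi xgi12 ygi29 zgi54) (kgi xgi12 ygi29 zgi56) (kgi xgi12 ygi29 zgi59) (kgi xgi3 ygi13 zgi10) (kgi xgi6 ygi49 zgi23) (kgi xgi9 ygi32 zgi31) (kgi xgi3 ygi13 zgi11) (kgi xgi12 ygi29 zgi53) (kgi xgi12 ygi30 zgi0) (kgi xgi12 ygi29 zgi51) (kgi xgi5 ygi52 zgi43) (kgi xgi5 ygi52 zgi42) (kgi xgi12 ygi30 zgi6) (kgi xgi12 ygi30 zgi9) (kgi xgi3 ygi13 zgi14) (kgi xgi4 ygi57 zgi53) (kgi xgi3 ygi22 zgi1) (kgi xgi3 ygi16 zgi23) (kgi xgi3 ygi17 zgi7) (kgi xgi3 ygi13 zgi20) (kgi xgi6 ygi52 zgi26) (kgi xgi6 ygi19 zgi6) (kgi xgi3 ygi59 zgi25) (kgi xgi12 ygi30 zgi14) (kgi xgi3 ygi13 zgi27) (kgi xgi8 ygi14 zgi57) (kgi xgi5 ygi51 zgi57) (kgi xgi4 ygi58 zgi43) (kgi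 xgi4 ygi58 zgi45) (kgi xgi9 ygi50 zgi31) (kgi xgi10 ygi18 zgi58) (kgi xgi5 ygi7 zgi9) (kgi xgi3 ygi13 zgi31) (kgi xgi3 ygi54 zgi38) (kgi xgi3 ygi32 zgi61) (kgi xgi10 ygi4 zgi29) (kgi xgi3 ygi43 zgi11) (kgi xgi9 ygi29 zgi13) (kgi xgi3 ygi43 zgi17) (kgi xgi3 ygi19 zgi17) (kgi xgi7 ygi26 zgi42) (kgi xgi12 ygi30 zgi26) (kgi xgi3 ygi13 zgi36) (kgi xgi3 ygi13 zgi46) (kgi xgi11 ygi18 zgi27) (kgi xgi11 ygi47 zgi42) (kgi xgi6 ygi50 zgi9) (kgi xgi3 ygi19 zgi2) (kgi xgi8 ygi24 zgi60) (kgi xgi3 ygi13 zgi39) (kgi xgi12 ygi24 zgi58) (kgi xgi3 ygi22 zgi4)) (@D3.rec (fun _ => Pt) (kgi xgi6 ygi52 zgi31) (kgi xgi3 ygi13 zgi42) (kgi xgi6 ygi49 zgi15) (kgi xgi4 ygi51 zgi54) (kgi xgi12 ygi30 zgi48) (kgi xgi11 ygi40 zgi21) (kgi xgi3 ygi44 zgi58) (kgi xgi6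 ygi49 zgi43) (kgi xgi3 ygi13 zgi45) (kgi xgi7 ygi26 zgi49) (kgi xgi3 ygi13 zgi48) (kgi xgi7 ygi26 zgi29) (kgi xgi12 ygi30 zgi59) (kgi xgi3 ygi14 zgi16) (kgi xgi12 ygi31 zgi0) (kgi xgi6 ygi49 zgi22) (kgi xgi4 ygi49 zgi59) (kgi xgi9 ygi16 zgi56) (kgi xgi3 ygi44 zgi51) (kgi xgi12 ygi31 zgi5) (kgi xgi11 ygi31 zgi18) (kgi xgi3 ygi13 zgi55) (kgi xgi7 ygi26 zgi59) (kgi xgi4 ygi26 zgi8) (kgi xgi12 ygi31 zgi8) (kgi xgi3 ygi13 zgi56) (kgi xgi3 ygi13 zgi61) (kgi xgi12 ygi31 zgi11) (kgi xgi3 ygi13 zgi57) (kgi xgi7 ygi27 zgi16) (kgi xgi11 ygi40 zgi43) (kgi xgi11 ygi2 zgi7) (kgi xgi6 ygi42 zgi40) (kgi xgi6 ygi17 zgi30) (kgi xgi3 ygi13 zgi60) (kgi xgi7 ygi27 zgi10) (kgi xgi7 ygi27 zgi8) (kgi xgi3 ygi14 zgi0) (kgi xgi7 ygi27 zgi3) (kgi xgi5 ygi6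 zgi35) (kgi xgi7 ygi27 zgi22) (kgi xgi8 ygi24 zgi53) (kgi xgi3 ygi14 zgi20) (kgi xgi9 ygi38 zgi18) (kgi xgi4 ygi45 zgi32) (kgi xgi3 ygi14 zgi4) (kgi xgi7 ygi27 zgi20) (kgi xgi7 ygi27 zgi18) (kgi xgi9 ygi22 zgi39) (kgi xgi12 ygi31 zgi36) (kgi xgi11 ygi6 zgi41) (kgi xgi5 ygi14 zgi17) (kgi xgi3 ygi14 zgi7) (kgi xgi7 ygi27 zgi25) (kgi xgi7 ygi27 zgi23) (kgi xgi11 ygi33 zgi19) (kgi xgi10 ygi6 zgi60) (kgi xgi12 ygi31 zgi42) (kgi xgi12 ygi17 zgi29) (kgi xgi7 ygi27 zgi4) (kgi xgi9 ygi24 zgi40) (kgi xgi5 ygi38 zgi29)) (@D3.rec (fun _ => Pt) (kgi xgi12 ygi9 zgi27) (kgi xgi3 ygi14 zgi12) (kgi xgi7 ygi29 zgi18) (kgi xgi12 ygi31 zgi57) (kgi xgi7 ygi29 zgi15) (kgi xgi12 ygi31 zgi29) (kgi xgi11 ygi27 zgi46) (kgi xgi8 ygi14 zgi52) (kgi xgi11 ygi27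 zgi44) (kgi xgi11 ygi58 zgi12) (kgi xgi3 ygi14 zgi15) (kgi xgi9 ygi21 zgi54) (kgi xgi12 ygi32 zgi10) (kgi xgi12 ygi29 zgi61) (kgi xgi6 ygi40 zgi59) (kgi xgi12 ygi1 zgi21) (kgi xgi12 ygi2 zgi17) (kgi xgi12 ygi32 zgi18) (kgi xgi5 ygi58 zgi31) (kgi xgi3 ygi14 zgi19) (kgi xgi5 ygi58 zgi29) (kgi xgi3 ygi24 zgi19) (kgi xgi4 ygi48 zgi28) (kgi xgi6 ygi17 zgi51) (kgi xgi12 ygi32 zgi26) (kgi xgi6 ygi16 zgi49) (kgi xgi12 ygi31 zgi14) (kgi xgi10 ygi17 zgi25) (kgi xgi6 ygi30 zgi58) (kgi xgi3 ygi14 zgi24) (kgi xgi12 ygi32 zgi34) (kgi xgi12 ygi32 zgi38) (kgi xgi4 ygi47 zgi6) (kgi xgi3 ygi14 zgi26) (kgi xgi6 ygi17 zgi35) (kgi xgi4 ygi49 zgi8) (kgi xgi6 ygi40 zgi21) (kgi xgi10 ygi14 zgi25) (kgi xgi6 ygi40 zgi22) (kgi xgi4 ygi17 zgi33) (kgi xgi6 ygi45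 zgi7) (kgi xgi6 ygi2 zgi61) (kgi xgi3 ygi14 zgi35) (kgi xgi6 ygi49 zgi41) (kgi xgi12 ygi32 zgi55) (kgi xgi7 ygi43 zgi21) (kgi xgi3 ygi21 zgi39) (kgi xgi9 ygi16 zgi50) (kgi xgi12 ygi32 zgi61) (kgi xgi6 ygi18 zgi22) (kgi xgi3 ygi16 zgi12) (kgi xgi9 ygi29 zgi41) (kgi xgi6 ygi18 zgi45) (kgi xgi3 ygi14 zgi42) (kgi xgi3 ygi27 zgi16) (kgi xgi7 ygi1 zgi33) (kgi xgi9 ygi23 zgi18) (kgi xgi12 ygi33 zgi13) (kgi xgi10 ygi25 zgi22) (kgi xgi3 ygi20 zgi3) (kgi xgi12 ygi33 zgi16) (kgi xgi6 ygi9 zgi41)) (@D3.rec (fun _ => Pt) (kgi xgi9 ygi24 zgi55) (kgi xgi6 ygi49 zgi9) (kgi xgi12 ygi33 zgi21) (kgi xgi3 ygi14 zgi48) (kgi xgi6 ygi9 zgi36) (kgi xgi12 ygi33 zgi28) (kgi xgi12 ygi33 zgi32) (kgi xgi3 ygi14 zgi49) (kgi xgi9 ygi6 zgi15) (kgi xgi6 ygi59 zgi46)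 (kgi xgi12 ygi33 zgi38) (kgi xgi12 ygi33 zgi41) (kgi xgi3 ygi14 zgi53) (kgi xgi9 ygi21 zgi15) (kgi xgi8 ygi56 zgi41) (kgi xgi9 ygi16 zgi51) (kgi xgi3 ygi15 zgi1) (kgi xgi3 ygi19 zgi24) (kgi xgi12 ygi33 zgi51) (kgi xgi7 ygi38 zgi16) (kgi xgi6 ygi18 zgi4) (kgi xgi12 ygi2 zgi46) (kgi xgi3 ygi14 zgi59) (kgi xgi3 ygi50 zgi49) (kgi xgi12 ygi33 zgi58) (kgi xgi12 ygi33 zgi61) (kgi xgi3 ygi14 zgi61) (kgi xgi9 ygi17 zgi31) (kgi xgi4 ygi47 zgi1) (kgi xgi12 ygi34 zgi3) (kgi xgi11 ygi9 zgi26) (kgi xgi6 ygi17 zgi46) (kgi xgi4 ygi47 zgi18) (kgi xgi7 ygi15 zgi53) (kgi xgi3 ygi15 zgi4) (kgi xgi12 ygi33 zgi39) (kgi xgi3 ygi30 zgi41) (kgi xgi6 ygi18 zgi9) (kgi xgi6 ygi18 zgi35) (kgi xgi3 ygi15 zgi7) (kgi xgi3 ygi16 zgi15) (kgi xgi12 ygi34 zgi20) (kgi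 xgi12 ygi2 zgi38) (kgi xgi3 ygi18 zgi19) (kgi xgi3 ygi16 zgi39) (kgi xgi3 ygi16 zgi34) (kgi xgi6 ygi26 zgi45) (kgi xgi6 ygi32 zgi39) (kgi xgi3 ygi15 zgi11) (kgi xgi12 ygi25 zgi30) (kgi xgi3 ygi18 zgi46) (kgi xgi12 ygi34 zgi34) (kgi xgi6 ygi59 zgi40) (kgi xgi3 ygi46 zgi31) (kgi xgi5 ygi11 zgi23) (kgi xgi3 ygi15 zgi16) (kgi xgi11 ygi37 zgi20) (kgi xgi12 ygi1 zgi29) (kgi xgi12 ygi34 zgi43) (kgi xgi12 ygi34 zgi45) (kgi xgi12 ygi1 zgi45) (kgi xgi7 ygi37 zgi38)) (@D3.rec (fun _ => Pt) (kgi xgi3 ygi36 zgi42) (kgi xgi3 ygi38 zgi48) (kgi xgi3 ygi38 zgi49) (kgi xgi3 ygi32 zgi34) (kgi xgi3 ygi30 zgi20) (kgi xgi3 ygi15 zgi23) (kgi xgi3 ygi29 zgi51) (kgi xgi3 ygi29 zgi49) (kgi xgi12 ygi34 zgi55) (kgi xgi6 ygi52 zgi40) (kgi xgi7 ygi11 zgi30) (kgi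 xgi7 ygi37 zgi37) (kgi xgi7 ygi31 zgi27) (kgi xgi7 ygi31 zgi26) (kgi xgi12 ygi34 zgi61) (kgi xgi12 ygi35 zgi2) (kgi xgi11 ygi38 zgi50) (kgi xgi6 ygi40 zgi44) (kgi xgi7 ygi31 zgi20) (kgi xgi10 ygi23 zgi15) (kgi xgi12 ygi35 zgi9) (kgi xgi12 ygi16 zgi50) (kgi xgi7 ygi31 zgi29) (kgi xgi11 ygi36 zgi4) (kgi xgi10 ygi23 zgi12) (kgi xgi12 ygi34 zgi42) (kgi xgi3 ygi15 zgi35) (kgi xgi12 ygi34 zgi41) (kgi xgi6 ygi47 zgi61) (kgi xgi12 ygi34 zgi59) (kgi xgi3 ygi51 zgi40) (kgi xgi12 ygi35 zgi25) (kgi xgi3 ygi15 zgi38) (kgi xgi12 ygi1 zgi44) (kgi xgi12 ygi35 zgi34) (kgi xgi7 ygi34 zgi22) (kgi xgi12 ygi35 zgi37) (kgi xgi12 ygi2 zgi52) (kgi xgi12 ygi35 zgi41) (kgi xgi6 ygi41 zgi9) (kgi xgi12 ygi1 zgi24) (kgi xgi3 ygi15 zgi41) (kgi xgi12 ygi1 zgi48)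 (kgi xgi12 ygi35 zgi52) (kgi xgi12 ygi1 zgi13) (kgi xgi12 ygi32 zgi47) (kgi xgi12 ygi29 zgi6) (kgi xgi6 ygi36 zgi4) (kgi xgi9 ygi21 zgi38) (kgi xgi6 ygi25 zgi41) (kgi xgi3 ygi15 zgi46) (kgi xgi12 ygi1 zgi34) (kgi xgi12 ygi1 zgi32) (kgi xgi12 ygi36 zgi4) (kgi xgi3 ygi29 zgi59) (kgi xgi3 ygi29 zgi57) (kgi xgi7 ygi12 zgi26) (kgi xgi6 ygi35 zgi15) (kgi xgi12 ygi3 zgi12) (kgi xgi6 ygi37 zgi38) (kgi xgi10 ygi23 zgi4) (kgi xgi12 ygi12 zgi46)) (@D3.rec (fun _ => Pt) (kgi xgi3 ygi15 zgi53) (kgi xgi9 ygi12 zgi53) (kgi xgi3 ygi15 zgi59) (kgi xgi12 ygi36 zgi14) (kgi xgi3 ygi15 zgi54) (kgi xgi12 ygi12 zgi48) (kgi xgi11 ygi47 zgi4) (kgi xgi3 ygi15 zgi55) (kgi xgi11 ygi50 zgi5) (kgi xgi12 ygi36 zgi25) (kgi xgi7 ygi32 zgi58) (kgi xgi12 ygi36 zgi28)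 (kgi xgi6 ygi19 zgi47) (kgi xgi3 ygi17 zgi10) (kgi xgi3 ygi17 zgi8) (kgi xgi6 ygi34 zgi59) (kgi xgi12 ygi36 zgi35) (kgi xgi7 ygi39 zgi58) (kgi xgi3 ygi15 zgi61) (kgi xgi3 ygi16 zgi52) (kgi xgi6 ygi18 zgi29) (kgi xgi3 ygi16 zgi49) (kgi xgi3 ygi17 zgi35) (kgi xgi9 ygi28 zgi57) (kgi xgi3 ygi16 zgi61) (kgi xgi6 ygi18 zgi39) (kgi xgi12 ygi36 zgi53) (kgi xgi12 ygi36 zgi55) (kgi xgi7 ygi38 zgi31) (kgi xgi3 ygi17 zgi17) (kgi xgi12 ygi37 zgi1) (kgi xgi3 ygi17 zgi14) (kgi xgi3 ygi16 zgi7) (kgi xgi12 ygi37 zgi6) (kgi xgi3 ygi17 zgi23) (kgi xgi12 ygi37 zgi11) (kgi xgi3 ygi16 zgi53) (kgi xgi3 ygi16 zgi10) (kgi xgi3 ygi17 zgi29) (kgi xgi12 ygi37 zgi18) (kgi xgi12 ygi37 zgi21) (kgi xgi12 ygi37 zgi25) (kgi xgi12 ygi23 zgi43) (kgi xgi9 ygi23 zgi58)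 (kgi xgi6 ygi10 zgi11) (kgi xgi12 ygi36 zgi46) (kgi xgi12 ygi27 zgi54) (kgi xgi11 ygi44 zgi3) (kgi xgi7 ygi2 zgi8) (kgi xgi12 ygi37 zgi39) (kgi xgi3 ygi51 zgi27) (kgi xgi12 ygi37 zgi44) (kgi xgi3 ygi16 zgi16) (kgi xgi3 ygi51 zgi29) (kgi xgi6 ygi3 zgi8) (kgi xgi3 ygi16 zgi17) (kgi xgi12 ygi37 zgi46) (kgi xgi11 ygi37 zgi41) (kgi xgi12 ygi37 zgi43) (kgi xgi3 ygi16 zgi18) (kgi xgi3 ygi18 zgi4) (kgi xgi12 ygi38 zgi5)) (@D3.rec (fun _ => Pt) (kgi xgi3 ygi18 zgi1) (kgi xgi12 ygi38 zgi9) (kgi xgi12 ygi38 zgi11) (kgi xgi12 ygi38 zgi8) (kgi xgi6 ygi32 zgi38) (kgi xgi3 ygi16 zgi21) (kgi xgi3 ygi18 zgi17) (kgi xgi12 ygi38 zgi22) (kgi xgi3 ygi18 zgi14) (kgi xgi3 ygi16 zgi24) (kgi xgi12 ygi36 zgi31) (kgi xgi12 ygi29 zgi4) (kgi xgi6 ygi37 zgi54)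 (kgi xgi12 ygi38 zgi32) (kgi xgi12 ygi28 zgi51) (kgi xgi12 ygi29 zgi27) (kgi xgi12 ygi38 zgi38) (kgi xgi4 ygi42 zgi7) (kgi xgi3 ygi16 zgi29) (kgi xgi6 ygi9 zgi52) (kgi xgi9 ygi48 zgi55) (kgi xgi6 ygi36 zgi12) (kgi xgi3 ygi16 zgi31) (kgi xgi11 ygi48 zgi60) (kgi xgi12 ygi36 zgi52) (kgi xgi12 ygi38 zgi46) (kgi xgi12 ygi38 zgi49) (kgi xgi6 ygi21 zgi26) (kgi xgi6 ygi34 zgi21) (kgi xgi6 ygi21 zgi24) (kgi xgi6 ygi49 zgi1) (kgi xgi12 ygi0 zgi42) (kgi xgi9 ygi18 zgi34) (kgi xgi10 ygi53 zgi21) (kgi xgi3 ygi16 zgi36) (kgi xgi12 ygi39 zgi1) (kgi xgi6 ygi11 zgi36) (kgi xgi3 ygi16 zgi38) (kgi xgi7 ygi31 zgi5) (kgi xgi7 ygi31 zgi3) (kgi xgi9 ygi42 zgi60) (kgi xgi3 ygi20 zgi24) (kgi xgi12 ygi39 zgi12) (kgi xgi12 ygi3 zgi6) (kgi xgi9 ygi23 zgi16)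 (kgi xgi12 ygi38 zgi33) (kgi xgi12 ygi39 zgi19) (kgi xgi12 ygi23 zgi31) (kgi xgi3 ygi16 zgi45) (kgi xgi12 ygi39 zgi21) (kgi xgi12 ygi39 zgi28) (kgi xgi12 ygi39 zgi18) (kgi xgi12 ygi39 zgi8) (kgi xgi7 ygi2 zgi14) (kgi xgi4 ygi43 zgi54) (kgi xgi12 ygi39 zgi36) (kgi xgi3 ygi16 zgi48) (kgi xgi12 ygi36 zgi39) (kgi xgi12 ygi27 zgi22) (kgi xgi7 ygi39 zgi54) (kgi xgi12 ygi39 zgi9) (kgi xgi12 ygi12 zgi60)) (@D3.rec (fun _ => Pt) (kgi xgi12 ygi39 zgi51) (kgi xgi3 ygi28 zgi42) (kgi xgi12 ygi3 zgi3) (kgi xgi3 ygi16 zgi51) (kgi xgi12 ygi36 zgi45) (kgi xgi12 ygi40 zgi2) (kgi xgi12 ygi36 zgi43) (kgi xgi12 ygi34 zgi18) (kgi xgi12 ygi40 zgi9) (kgi xgi12 ygi17 zgi1) (kgi xgi3 ygi16 zgi57) (kgi xgi12 ygi40 zgi13) (kgi xgi3 ygi18 zgi43) (kgi xgi12 ygi2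 zgi41) (kgi xgi12 ygi40 zgi12) (kgi xgi6 ygi41 zgi39) (kgi xgi6 ygi10 zgi22) (kgi xgi12 ygi13 zgi8) (kgi xgi3 ygi16 zgi60) (kgi xgi8 ygi22 zgi6) (kgi xgi12 ygi40 zgi28) (kgi xgi12 ygi40 zgi33) (kgi xgi12 ygi36 zgi50) (kgi xgi9 ygi11 zgi55) (kgi xgi4 ygi43 zgi19) (kgi xgi3 ygi17 zgi2) (kgi xgi12 ygi36 zgi29) (kgi xgi12 ygi36 zgi27) (kgi xgi12 ygi37 zgi34) (kgi xgi12 ygi40 zgi46) (kgi xgi3 ygi18 zgi10) (kgi xgi6 ygi19 zgi52) (kgi xgi10 ygi44 zgi25) (kgi xgi4 ygi43 zgi9) (kgi xgi8 ygi35 zgi53) (kgi xgi12 ygi40 zgi52) (kgi xgi3 ygi18 zgi35) (kgi xgi12 ygi40 zgi55) (kgi xgi6 ygi34 zgi57) (kgi xgi12 ygi40 zgi60) (kgi xgi3 ygi17 zgi11) (kgi xgi5 ygi56 zgi41) (kgi xgi12 ygi41 zgi3) (kgi xgi3 ygi17 zgi12) (kgi xgi12 ygi41 zgi0) (kgi xgi12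 ygi41 zgi13) (kgi xgi12 ygi40 zgi59) (kgi xgi3 ygi17 zgi13) (kgi xgi12 ygi36 zgi59) (kgi xgi12 ygi41 zgi23) (kgi xgi7 ygi38 zgi27) (kgi xgi12 ygi15 zgi17) (kgi xgi12 ygi41 zgi29) (kgi xgi12 ygi41 zgi28) (kgi xgi3 ygi18 zgi22) (kgi xgi3 ygi17 zgi16) (kgi xgi12 ygi37 zgi3) (kgi xgi12 ygi41 zgi42) (kgi xgi12 ygi37 zgi0) (kgi xgi12 ygi41 zgi48) (kgi xgi3 ygi17 zgi19) (kgi xgi3 ygi17 zgi21)) (@D3.rec (fun _ => Pt) (kgi xgi12 ygi16 zgi33) (kgi xgi12 ygi37 zgi41) (kgi xgi12 ygi41 zgi47) (kgi xgi3 ygi18 zgi9) (kgi xgi12 ygi16 zgi31) (kgi xgi6 ygi59 zgi28) (kgi xgi6 ygi11 zgi42) (kgi xgi12 ygi16 zgi28) (kgi xgi3 ygi17 zgi25) (kgi xgi12 ygi37 zgi9) (kgi xgi12 ygi42 zgi4) (kgi xgi12 ygi42 zgi8) (kgi xgi12 ygi37 zgi5) (kgi xgi6 ygi25 zgi16) (kgi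 xgi7 ygi34 zgi4) (kgi xgi3 ygi17 zgi58) (kgi xgi9 ygi25 zgi34) (kgi xgi12 ygi34 zgi13) (kgi xgi7 ygi21 zgi2) (kgi xgi4 ygi43 zgi8) (kgi xgi12 ygi38 zgi12) (kgi xgi12 ygi42 zgi22) (kgi xgi7 ygi36 zgi39) (kgi xgi7 ygi32 zgi8) (kgi xgi10 ygi6 zgi22) (kgi xgi3 ygi17 zgi32) (kgi xgi12 ygi42 zgi23) (kgi xgi12 ygi42 zgi39) (kgi xgi12 ygi42 zgi21) (kgi xgi3 ygi17 zgi33) (kgi xgi12 ygi27 zgi53) (kgi xgi12 ygi0 zgi32) (kgi xgi12 ygi27 zgi51) (kgi xgi3 ygi17 zgi34) (kgi xgi12 ygi11 zgi60) (kgi xgi12 ygi12 zgi61) (kgi xgi12 ygi37 zgi10) (kgi xgi3 ygi17 zgi41) (kgi xgi12 ygi42 zgi58) (kgi xgi3 ygi17 zgi37) (kgi xgi12 ygi28 zgi10) (kgi xgi12 ygi43 zgi3) (kgi xgi12 ygi28 zgi8) (kgi xgi3 ygi17 zgi38) (kgi xgi12 ygi37 zgi23) (kgi xgi12 ygi43 zgi10)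 (kgi xgi12 ygi37 zgi20) (kgi xgi3 ygi17 zgi39) (kgi xgi12 ygi16 zgi27) (kgi xgi12 ygi43 zgi17) (kgi xgi12 ygi37 zgi24) (kgi xgi9 ygi11 zgi41) (kgi xgi9 ygi11 zgi39) (kgi xgi11 ygi38 zgi28) (kgi xgi12 ygi43 zgi27) (kgi xgi9 ygi6 zgi1) (kgi xgi3 ygi17 zgi43) (kgi xgi11 ygi31 zgi20) (kgi xgi12 ygi42 zgi45) (kgi xgi3 ygi17 zgi44) (kgi xgi8 ygi25 zgi21) (kgi xgi9 ygi11 zgi34)) (@D3.rec (fun _ => Pt) (kgi xgi3 ygi17 zgi45) (kgi xgi12 ygi43 zgi40) (kgi xgi12 ygi43 zgi43) (kgi xgi9 ygi11 zgi46) (kgi xgi12 ygi43 zgi48) (kgi xgi9 ygi11 zgi21) (kgi xgi12 ygi43 zgi52) (kgi xgi3 ygi17 zgi49) (kgi xgi3 ygi17 zgi57) (kgi xgi12 ygi44 zgi1) (kgi xgi3 ygi17 zgi54) (kgi xgi12 ygi40 zgi37) (kgi xgi12 ygi44 zgi7) (kgi xgi11 ygi8 zgi27) (kgi xgi12 ygi44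 zgi6) (kgi xgi12 ygi44 zgi10) (kgi xgi12 ygi44 zgi12) (kgi xgi12 ygi44 zgi14) (kgi xgi3 ygi17 zgi53) (kgi xgi12 ygi43 zgi54) (kgi xgi12 ygi44 zgi24) (kgi xgi12 ygi43 zgi51) (kgi xgi12 ygi43 zgi23) (kgi xgi9 ygi5 zgi54) (kgi xgi12 ygi44 zgi32) (kgi xgi12 ygi24 zgi10) (kgi xgi12 ygi44 zgi35) (kgi xgi12 ygi44 zgi29) (kgi xgi12 ygi44 zgi31) (kgi xgi12 ygi43 zgi35) (kgi xgi3 ygi17 zgi56) (kgi xgi12 ygi44 zgi3) (kgi xgi12 ygi44 zgi56) (kgi xgi12 ygi44 zgi0) (kgi xgi9 ygi23 zgi48) (kgi xgi12 ygi45 zgi1) (kgi xgi3 ygi17 zgi59) (kgi xgi12 ygi2 zgi6) (kgi xgi12 ygi45 zgi8) (kgi xgi12 ygi2 zgi3) (kgi xgi3 ygi17 zgi60) (kgi xgi12 ygi1 zgi61) (kgi xgi12 ygi45 zgi16) (kgi xgi12 ygi1 zgi58) (kgi xgi3 ygi17 zgi61) (kgi xgi3 ygi47 zgi37) (kgi xgi12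 ygi45 zgi21) (kgi xgi3 ygi18 zgi0) (kgi xgi3 ygi51 zgi47) (kgi xgi12 ygi45 zgi29) (kgi xgi3 ygi51 zgi48) (kgi xgi3 ygi45 zgi60) (kgi xgi12 ygi45 zgi35) (kgi xgi12 ygi45 zgi32) (kgi xgi12 ygi45 zgi34) (kgi xgi12 ygi45 zgi0) (kgi xgi3 ygi18 zgi3) (kgi xgi12 ygi38 zgi7) (kgi xgi12 ygi45 zgi47) (kgi xgi12 ygi38 zgi4) (kgi xgi3 ygi51 zgi31) (kgi xgi3 ygi18 zgi5)) (@D3.rec (fun _ => Pt) (kgi xgi3 ygi51 zgi34) (kgi xgi12 ygi28 zgi6) (kgi xgi3 ygi18 zgi6) (kgi xgi12 ygi37 zgi14) (kgi xgi7 ygi1 zgi23) (kgi xgi12 ygi46 zgi5) (kgi xgi9 ygi59 zgi27) (kgi xgi3 ygi22 zgi44) (kgi xgi3 ygi18 zgi8) (kgi xgi3 ygi18 zgi12) (kgi xgi12 ygi46 zgi15) (kgi xgi12 ygi46 zgi16) (kgi xgi6 ygi40 zgi54) (kgi xgi5 ygi11 zgi16) (kgi xgi9 ygi59 zgi8) (kgi xgi11 ygi15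 zgi2) (kgi xgi6 ygi21 zgi20) (kgi xgi3 ygi22 zgi35) (kgi xgi12 ygi46 zgi14) (kgi xgi12 ygi46 zgi24) (kgi xgi3 ygi18 zgi13) (kgi xgi6 ygi34 zgi45) (kgi xgi6 ygi34 zgi47) (kgi xgi12 ygi42 zgi20) (kgi xgi12 ygi46 zgi32) (kgi xgi12 ygi46 zgi35) (kgi xgi12 ygi46 zgi18) (kgi xgi12 ygi46 zgi31) (kgi xgi4 ygi25 zgi24) (kgi xgi3 ygi18 zgi16) (kgi xgi11 ygi23 zgi17) (kgi xgi6 ygi14 zgi29) (kgi xgi10 ygi22 zgi55) (kgi xgi12 ygi38 zgi21) (kgi xgi12 ygi46 zgi47) (kgi xgi12 ygi34 zgi23) (kgi xgi12 ygi37 zgi16) (kgi xgi12 ygi46 zgi51) (kgi xgi12 ygi42 zgi60) (kgi xgi12 ygi46 zgi50) (kgi xgi3 ygi18 zgi21) (kgi xgi12 ygi34 zgi24) (kgi xgi7 ygi36 zgi55) (kgi xgi12 ygi38 zgi43) (kgi xgi9 ygi58 zgi37) (kgi xgi12 ygi47 zgi0) (kgi xgi12 ygi2 zgi51) (kgi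 xgi3 ygi18 zgi24) (kgi xgi9 ygi12 zgi57) (kgi xgi12 ygi47 zgi8) (kgi xgi3 ygi18 zgi36) (kgi xgi12 ygi46 zgi11) (kgi xgi12 ygi47 zgi15) (kgi xgi6 ygi40 zgi12) (kgi xgi5 ygi4 zgi5) (kgi xgi6 ygi10 zgi18) (kgi xgi3 ygi18 zgi38) (kgi xgi6 ygi41 zgi8) (kgi xgi6 ygi20 zgi4) (kgi xgi6 ygi32 zgi14) (kgi xgi6 ygi20 zgi2) (kgi xgi12 ygi47 zgi20)) (@D3.rec (fun _ => Pt) (kgi xgi6 ygi20 zgi43) (kgi xgi3 ygi18 zgi34) (kgi xgi12 ygi38 zgi27) (kgi xgi12 ygi38 zgi26) (kgi xgi12 ygi47 zgi29) (kgi xgi12 ygi47 zgi33) (kgi xgi12 ygi46 zgi9) (kgi xgi11 ygi16 zgi41) (kgi xgi3 ygi18 zgi37) (kgi xgi6 ygi34 zgi36) (kgi xgi6 ygi21 zgi29) (kgi xgi12 ygi47 zgi42) (kgi xgi10 ygi22 zgi53) (kgi xgi12 ygi25 zgi31) (kgi xgi11 ygi48 zgi50) (kgi xgi12 ygi47 zgi47)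 (kgi xgi3 ygi18 zgi45) (kgi xgi12 ygi47 zgi51) (kgi xgi12 ygi40 zgi57) (kgi xgi12 ygi29 zgi38) (kgi xgi6 ygi27 zgi10) (kgi xgi7 ygi31 zgi0) (kgi xgi8 ygi34 zgi41) (kgi xgi8 ygi34 zgi44) (kgi xgi6 ygi26 zgi52) (kgi xgi3 ygi18 zgi48) (kgi xgi12 ygi34 zgi32) (kgi xgi7 ygi54 zgi1) (kgi xgi12 ygi48 zgi5) (kgi xgi3 ygi18 zgi49) (kgi xgi6 ygi22 zgi32) (kgi xgi3 ygi18 zgi50) (kgi xgi3 ygi18 zgi51) (kgi xgi12 ygi48 zgi14) (kgi xgi7 ygi31 zgi2) (kgi xgi12 ygi0 zgi51) (kgi xgi12 ygi0 zgi57) (kgi xgi12 ygi48 zgi21) (kgi xgi6 ygi24 zgi7) (kgi xgi6 ygi37 zgi17) (kgi xgi12 ygi48 zgi29) (kgi xgi7 ygi11 zgi52) (kgi xgi8 ygi35 zgi13) (kgi xgi3 ygi18 zgi55) (kgi xgi12 ygi3 zgi28) (kgi xgi12 ygi3 zgi26) (kgi xgi12 ygi48 zgi44) (kgi xgi3 ygi18 zgi56)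 (kgi xgi3 ygi53 zgi52) (kgi xgi3 ygi39 zgi36) (kgi xgi12 ygi48 zgi54) (kgi xgi3 ygi18 zgi57) (kgi xgi9 ygi5 zgi23) (kgi xgi12 ygi48 zgi59) (kgi xgi3 ygi18 zgi58) (kgi xgi3 ygi19 zgi11) (kgi xgi12 ygi29 zgi11) (kgi xgi3 ygi19 zgi8) (kgi xgi7 ygi20 zgi2) (kgi xgi11 ygi10 zgi47) (kgi xgi12 ygi17 zgi41) (kgi xgi3 ygi18 zgi61)) (@D3.rec (fun _ => Pt) (kgi xgi3 ygi19 zgi22) (kgi xgi12 ygi26 zgi31) (kgi xgi3 ygi19 zgi1) (kgi xgi7 ygi24 zgi58) (kgi xgi7 ygi24 zgi56) (kgi xgi12 ygi49 zgi16) (kgi xgi12 ygi4 zgi18) (kgi xgi3 ygi21 zgi59) (kgi xgi3 ygi19 zgi3) (kgi xgi7 ygi25 zgi41) (kgi xgi7 ygi25 zgi39) (kgi xgi12 ygi49 zgi12) (kgi xgi12 ygi49 zgi27) (kgi xgi12 ygi49 zgi30) (kgi xgi3 ygi19 zgi7) (kgi xgi7 ygi52 zgi0) (kgi xgi10 ygi49 zgi15)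 (kgi xgi7 ygi51 zgi59) (kgi xgi12 ygi49 zgi13) (kgi xgi3 ygi39 zgi57) (kgi xgi12 ygi49 zgi48) (kgi xgi6 ygi46 zgi23) (kgi xgi12 ygi49 zgi50) (kgi xgi12 ygi49 zgi47) (kgi xgi3 ygi19 zgi10) (kgi xgi12 ygi49 zgi55) (kgi xgi12 ygi29 zgi21) (kgi xgi3 ygi19 zgi13) (kgi xgi9 ygi11 zgi57) (kgi xgi6 ygi50 zgi51) (kgi xgi3 ygi19 zgi14) (kgi xgi3 ygi19 zgi18) (kgi xgi12 ygi29 zgi25) (kgi xgi3 ygi21 zgi60) (kgi xgi6 ygi49 zgi53) (kgi xgi7 ygi27 zgi5) (kgi xgi12 ygi50 zgi6) (kgi xgi8 ygi59 zgi40) (kgi xgi12 ygi29 zgi22) (kgi xgi12 ygi50 zgi12) (kgi xgi4 ygi41 zgi12) (kgi xgi6 ygi43 zgi52) (kgi xgi9 ygi36 zgi4) (kgi xgi3 ygi31 zgi51) (kgi xgi3 ygi19 zgi21) (kgi xgi12 ygi50 zgi22) (kgi xgi12 ygi50 zgi27) (kgi xgi12 ygi26 zgi46) (kgi xgi12 ygi33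 zgi46) (kgi xgi9 ygi27 zgi11) (kgi xgi12 ygi50 zgi35) (kgi xgi3 ygi19 zgi60) (kgi xgi4 ygi42 zgi9) (kgi xgi12 ygi50 zgi40) (kgi xgi12 ygi50 zgi43) (kgi xgi7 ygi11 zgi45) (kgi xgi6 ygi18 zgi49) (kgi xgi12 ygi11 zgi51) (kgi xgi12 ygi26 zgi54) (kgi xgi12 ygi17 zgi12) (kgi xgi11 ygi18 zgi14) (kgi xgi12 ygi17 zgi14)) (@D3.rec (fun _ => Pt) (kgi xgi3 ygi19 zgi38) (kgi xgi12 ygi50 zgi53) (kgi xgi12 ygi50 zgi59) (kgi xgi12 ygi51 zgi4) (kgi xgi12 ygi50 zgi54) (kgi xgi3 ygi19 zgi39) (kgi xgi4 ygi39 zgi31) (kgi xgi9 ygi31 zgi25) (kgi xgi6 ygi21 zgi47) (kgi xgi6 ygi23 zgi48) (kgi xgi3 ygi19 zgi42) (kgi xgi9 ygi5 zgi49) (kgi xgi7 ygi30 zgi15) (kgi xgi12 ygi51 zgi17) (kgi xgi12 ygi51 zgi19) (kgi xgi3 ygi19 zgi54) (kgi xgi12 ygi51 zgi23) (kgi xgi3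 ygi19 zgi45) (kgi xgi12 ygi51 zgi28) (kgi xgi3 ygi19 zgi46) (kgi xgi3 ygi29 zgi40) (kgi xgi12 ygi51 zgi36) (kgi xgi9 ygi17 zgi3) (kgi xgi10 ygi25 zgi24) (kgi xgi7 ygi38 zgi12) (kgi xgi3 ygi19 zgi50) (kgi xgi7 ygi47 zgi16) (kgi xgi12 ygi51 zgi45) (kgi xgi3 ygi53 zgi26) (kgi xgi11 ygi47 zgi20) (kgi xgi12 ygi51 zgi50) (kgi xgi6 ygi21 zgi11) (kgi xgi12 ygi51 zgi49) (kgi xgi3 ygi19 zgi53) (kgi xgi9 ygi27 zgi53) (kgi xgi12 ygi52 zgi1) (kgi xgi12 ygi51 zgi22) (kgi xgi11 ygi43 zgi17) (kgi xgi9 ygi27 zgi29) (kgi xgi9 ygi28 zgi0) (kgi xgi4 ygi47 zgi46) (kgi xgi12 ygi52 zgi13) (kgi xgi6 ygi12 zgi51) (kgi xgi9 ygi25 zgi1) (kgi xgi12 ygi52 zgi12) (kgi xgi4 ygi40 zgi48) (kgi xgi3 ygi19 zgi59) (kgi xgi9 ygi27 zgi55) (kgi xgi12 ygi52 zgi28) (kgi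 xgi12 ygi52 zgi33) (kgi xgi12 ygi51 zgi27) (kgi xgi8 ygi34 zgi8) (kgi xgi7 ygi26 zgi46) (kgi xgi4 ygi43 zgi29) (kgi xgi4 ygi43 zgi32) (kgi xgi12 ygi52 zgi40) (kgi xgi12 ygi33 zgi15) (kgi xgi12 ygi52 zgi45) (kgi xgi12 ygi52 zgi47) (kgi xgi12 ygi52 zgi50) (kgi xgi11 ygi12 zgi16) (kgi xgi9 ygi32 zgi40)) (@D3.rec (fun _ => Pt) (kgi xgi12 ygi52 zgi52) (kgi xgi11 ygi12 zgi13) (kgi xgi6 ygi17 zgi52) (kgi xgi3 ygi20 zgi11) (kgi xgi12 ygi52 zgi58) (kgi xgi12 ygi53 zgi0) (kgi xgi12 ygi53 zgi6) (kgi xgi12 ygi52 zgi59) (kgi xgi3 ygi20 zgi12) (kgi xgi9 ygi29 zgi52) (kgi xgi11 ygi18 zgi1) (kgi xgi6 ygi26 zgi42) (kgi xgi6 ygi22 zgi9) (kgi xgi3 ygi24 zgi1) (kgi xgi10 ygi4 zgi3) (kgi xgi12 ygi17 zgi31) (kgi xgi3 ygi20 zgi17) (kgi xgi9 ygi13 zgi33)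 (kgi xgi9 ygi13 zgi32) (kgi xgi12 ygi39 zgi7) (kgi xgi9 ygi11 zgi6) (kgi xgi4 ygi38 zgi0) (kgi xgi3 ygi20 zgi38) (kgi xgi3 ygi20 zgi20) (kgi xgi3 ygi20 zgi25) (kgi xgi12 ygi53 zgi23) (kgi xgi3 ygi20 zgi21) (kgi xgi9 ygi11 zgi33) (kgi xgi8 ygi25 zgi29) (kgi xgi9 ygi11 zgi30) (kgi xgi11 ygi49 zgi25) (kgi xgi12 ygi53 zgi32) (kgi xgi6 ygi28 zgi50) (kgi xgi12 ygi36 zgi60) (kgi xgi6 ygi31 zgi21) (kgi xgi12 ygi53 zgi37) (kgi xgi3 ygi20 zgi26) (kgi xgi9 ygi11 zgi20) (kgi xgi12 ygi53 zgi46) (kgi xgi9 ygi11 zgi17) (kgi xgi11 ygi48 zgi38) (kgi xgi3 ygi20 zgi36) (kgi xgi9 ygi11 zgi27) (kgi xgi12 ygi53 zgi54) (kgi xgi9 ygi11 zgi25) (kgi xgi9 ygi11 zgi15) (kgi xgi12 ygi24 zgi8) (kgi xgi5 ygi27 zgi7) (kgi xgi12 ygi47 zgi23) (kgi xgi9 ygi31 zgi20)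 (kgi xgi6 ygi32 zgi40) (kgi xgi3 ygi20 zgi33) (kgi xgi5 ygi27 zgi12) (kgi xgi10 ygi43 zgi13) (kgi xgi3 ygi20 zgi34) (kgi xgi12 ygi54 zgi7) (kgi xgi3 ygi20 zgi35) (kgi xgi3 ygi20 zgi39) (kgi xgi12 ygi54 zgi13) (kgi xgi12 ygi54 zgi18) (kgi xgi6 ygi12 zgi0) (kgi xgi6 ygi46 zgi49)) (@D3.rec (fun _ => Pt) (kgi xgi9 ygi13 zgi39) (kgi xgi12 ygi38 zgi24) (kgi xgi12 ygi54 zgi6) (kgi xgi12 ygi53 zgi27) (kgi xgi12 ygi54 zgi12) (kgi xgi3 ygi20 zgi40) (kgi xgi8 ygi58 zgi43) (kgi xgi12 ygi53 zgi33) (kgi xgi3 ygi20 zgi41) (kgi xgi11 ygi56 zgi25) (kgi xgi12 ygi54 zgi37) (kgi xgi12 ygi54 zgi41) (kgi xgi11 ygi36 zgi40) (kgi xgi9 ygi12 zgi54) (kgi xgi4 ygi6 zgi46) (kgi xgi11 ygi50 zgi23) (kgi xgi3 ygi20 zgi44) (kgi xgi12 ygi14 zgi19) (kgi xgi6 ygi7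 zgi17) (kgi xgi12 ygi54 zgi54) (kgi xgi12 ygi54 zgi58) (kgi xgi3 ygi20 zgi46) (kgi xgi12 ygi54 zgi48) (kgi xgi12 ygi23 zgi34) (kgi xgi9 ygi13 zgi3) (kgi xgi9 ygi30 zgi27) (kgi xgi3 ygi21 zgi29) (kgi xgi11 ygi5 zgi49) (kgi xgi3 ygi21 zgi52) (kgi xgi4 ygi49 zgi31) (kgi xgi3 ygi20 zgi49) (kgi xgi3 ygi20 zgi58) (kgi xgi12 ygi55 zgi12) (kgi xgi12 ygi51 zgi12) (kgi xgi3 ygi20 zgi50) (kgi xgi9 ygi31 zgi28) (kgi xgi11 ygi51 zgi18) (kgi xgi9 ygi31 zgi26) (kgi xgi9 ygi51 zgi7) (kgi xgi11 ygi33 zgi10) (kgi xgi9 ygi31 zgi41) (kgi xgi9 ygi31 zgi15) (kgi xgi9 ygi31 zgi16) (kgi xgi9 ygi13 zgi28) (kgi xgi5 ygi54 zgi38) (kgi xgi11 ygi49 zgi53) (kgi xgi3 ygi20 zgi56) (kgi xgi9 ygi31 zgi14) (kgi xgi6 ygi5 zgi48) (kgi xgi11 ygi50 zgi36) (kgi xgi3 ygi20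 zgi57) (kgi xgi11 ygi0 zgi51) (kgi xgi12 ygi55 zgi35) (kgi xgi6 ygi20 zgi49) (kgi xgi12 ygi55 zgi38) (kgi xgi9 ygi7 zgi32) (kgi xgi3 ygi21 zgi1) (kgi xgi12 ygi55 zgi44) (kgi xgi5 ygi13 zgi20) (kgi xgi3 ygi21 zgi3) (kgi xgi9 ygi31 zgi46) (kgi xgi4 ygi30 zgi21)) (@D3.rec (fun _ => Pt) (kgi xgi9 ygi31 zgi12) (kgi xgi5 ygi26 zgi24) (kgi xgi12 ygi55 zgi53) (kgi xgi12 ygi55 zgi55) (kgi xgi3 ygi21 zgi6) (kgi xgi9 ygi31 zgi52) (kgi xgi9 ygi31 zgi50) (kgi xgi12 ygi55 zgi60) (kgi xgi3 ygi21 zgi9) (kgi xgi12 ygi56 zgi1) (kgi xgi12 ygi56 zgi6) (kgi xgi12 ygi56 zgi12) (kgi xgi12 ygi56 zgi2) (kgi xgi12 ygi56 zgi17) (kgi xgi11 ygi22 zgi56) (kgi xgi5 ygi7 zgi46) (kgi xgi4 ygi5 zgi51) (kgi xgi12 ygi56 zgi18) (kgi xgi3 ygi21 zgi17) (kgi xgi3 ygi23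 zgi52) (kgi xgi3 ygi23 zgi48) (kgi xgi10 ygi5 zgi19) (kgi xgi7 ygi27 zgi27) (kgi xgi6 ygi30 zgi15) (kgi xgi6 ygi49 zgi42) (kgi xgi3 ygi21 zgi23) (kgi xgi3 ygi24 zgi3) (kgi xgi3 ygi24 zgi4) (kgi xgi5 ygi7 zgi23) (kgi xgi12 ygi56 zgi26) (kgi xgi4 ygi49 zgi30) (kgi xgi9 ygi46 zgi51) (kgi xgi6 ygi46 zgi51) (kgi xgi3 ygi21 zgi26) (kgi xgi6 ygi46 zgi53) (kgi xgi12 ygi56 zgi23) (kgi xgi4 ygi49 zgi19) (kgi xgi5 ygi28 zgi61) (kgi xgi9 ygi50 zgi36) (kgi xgi4 ygi49 zgi26) (kgi xgi8 ygi37 zgi26) (kgi xgi3 ygi21 zgi30) (kgi xgi9 ygi32 zgi25) (kgi xgi12 ygi56 zgi44) (kgi xgi9 ygi32 zgi23) (kgi xgi12 ygi56 zgi46) (kgi xgi4 ygi49 zgi39) (kgi xgi12 ygi56 zgi49) (kgi xgi4 ygi40 zgi58) (kgi xgi6 ygi44 zgi46) (kgi xgi4 ygi40 zgi56) (kgi xgi3 ygi21 zgi36)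 (kgi xgi6 ygi46 zgi32) (kgi xgi6 ygi46 zgi33) (kgi xgi11 ygi59 zgi13) (kgi xgi10 ygi48 zgi19) (kgi xgi10 ygi27 zgi4) (kgi xgi9 ygi16 zgi47) (kgi xgi10 ygi4 zgi31) (kgi xgi9 ygi32 zgi5) (kgi xgi9 ygi27 zgi47) (kgi xgi3 ygi46 zgi45)) (@D3.rec (fun _ => Pt) (kgi xgi6 ygi32 zgi42) (kgi xgi9 ygi16 zgi58) (kgi xgi9 ygi32 zgi3) (kgi xgi9 ygi32 zgi2) (kgi xgi12 ygi57 zgi4) (kgi xgi12 ygi57 zgi8) (kgi xgi3 ygi21 zgi44) (kgi xgi9 ygi27 zgi40) (kgi xgi12 ygi57 zgi17) (kgi xgi12 ygi57 zgi21) (kgi xgi3 ygi21 zgi45) (kgi xgi9 ygi23 zgi41) (kgi xgi12 ygi28 zgi35) (kgi xgi3 ygi21 zgi46) (kgi xgi12 ygi57 zgi31) (kgi xgi12 ygi4 zgi31) (kgi xgi9 ygi23 zgi34) (kgi xgi9 ygi50 zgi32) (kgi xgi7 ygi44 zgi10) (kgi xgi9 ygi6 zgi0) (kgi xgi3 ygi21 zgi50) (kgi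 xgi5 ygi10 zgi27) (kgi xgi12 ygi57 zgi47) (kgi xgi9 ygi6 zgi44) (kgi xgi3 ygi21 zgi51) (kgi xgi12 ygi57 zgi41) (kgi xgi7 ygi58 zgi61) (kgi xgi12 ygi57 zgi39) (kgi xgi12 ygi57 zgi60) (kgi xgi11 ygi10 zgi26) (kgi xgi8 ygi22 zgi28) (kgi xgi4 ygi29 zgi21) (kgi xgi3 ygi21 zgi56) (kgi xgi9 ygi32 zgi27) (kgi xgi9 ygi32 zgi26) (kgi xgi11 ygi11 zgi32) (kgi xgi9 ygi44 zgi11) (kgi xgi6 ygi34 zgi28) (kgi xgi12 ygi58 zgi12) (kgi xgi4 ygi42 zgi0) (kgi xgi6 ygi51 zgi28) (kgi xgi6 ygi27 zgi4) (kgi xgi8 ygi24 zgi52) (kgi xgi3 ygi22 zgi3) (kgi xgi8 ygi36 zgi36) (kgi xgi12 ygi58 zgi20) (kgi xgi6 ygi26 zgi32) (kgi xgi9 ygi37 zgi22) (kgi xgi12 ygi2 zgi58) (kgi xgi3 ygi22 zgi6) (kgi xgi9 ygi19 zgi23) (kgi xgi12 ygi58 zgi27) (kgi xgi12 ygi58 zgi31) (kgi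 xgi12 ygi2 zgi1) (kgi xgi6 ygi23 zgi35) (kgi xgi12 ygi32 zgi54) (kgi xgi12 ygi14 zgi17) (kgi xgi12 ygi58 zgi38) (kgi xgi12 ygi58 zgi37) (kgi xgi3 ygi22 zgi11) (kgi xgi12 ygi58 zgi11) (kgi xgi12 ygi58 zgi10)) (@D3.rec (fun _ => Pt) (kgi xgi10 ygi22 zgi60) (kgi xgi3 ygi22 zgi12) (kgi xgi7 ygi20 zgi6) (kgi xgi9 ygi19 zgi24) (kgi xgi3 ygi27 zgi52) (kgi xgi7 ygi20 zgi7) (kgi xgi3 ygi22 zgi15) (kgi xgi7 ygi26 zgi13) (kgi xgi12 ygi58 zgi58) (kgi xgi7 ygi25 zgi48) (kgi xgi3 ygi22 zgi16) (kgi xgi9 ygi32 zgi61) (kgi xgi9 ygi32 zgi59) (kgi xgi12 ygi13 zgi47) (kgi xgi9 ygi19 zgi18) (kgi xgi3 ygi22 zgi18) (kgi xgi6 ygi9 zgi34) (kgi xgi12 ygi27 zgi21) (kgi xgi12 ygi13 zgi61) (kgi xgi8 ygi30 zgi17) (kgi xgi3 ygi22 zgi19) (kgi xgi9 ygi27 zgi56) (kgi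 xgi3 ygi22 zgi20) (kgi xgi6 ygi9 zgi47) (kgi xgi6 ygi9 zgi45) (kgi xgi12 ygi59 zgi27) (kgi xgi3 ygi22 zgi21) (kgi xgi9 ygi29 zgi53) (kgi xgi3 ygi22 zgi23) (kgi xgi12 ygi59 zgi33) (kgi xgi12 ygi0 zgi23) (kgi xgi4 ygi9 zgi51) (kgi xgi3 ygi22 zgi24) (kgi xgi4 ygi52 zgi31) (kgi xgi8 ygi34 zgi42) (kgi xgi3 ygi22 zgi25) (kgi xgi6 ygi49 zgi14) (kgi xgi6 ygi49 zgi12) (kgi xgi12 ygi59 zgi45) (kgi xgi11 ygi15 zgi1) (kgi xgi8 ygi35 zgi21) (kgi xgi3 ygi22 zgi31) (kgi xgi6 ygi12 zgi58) (kgi xgi9 ygi28 zgi11) (kgi xgi8 ygi32 zgi12) (kgi xgi4 ygi18 zgi18) (kgi xgi4 ygi53 zgi41) (kgi xgi4 ygi42 zgi24) (kgi xgi12 ygi59 zgi55) (kgi xgi12 ygi59 zgi58) (kgi xgi11 ygi59 zgi25) (kgi xgi6 ygi23 zgi44) (kgi xgi13 ygi0 zgi1) (kgi xgi13 ygi0 zgi6) (kgi xgi4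 ygi42 zgi30) (kgi xgi6 ygi22 zgi21) (kgi xgi6 ygi23 zgi27) (kgi xgi13 ygi0 zgi5) (kgi xgi6 ygi23 zgi61) (kgi xgi13 ygi0 zgi25) (kgi xgi3 ygi22 zgi42) (kgi xgi11 ygi44 zgi1)) (@D3.rec (fun _ => Pt) (kgi xgi9 ygi21 zgi40) (kgi xgi6 ygi36 zgi32) (kgi xgi9 ygi49 zgi9) (kgi xgi9 ygi21 zgi9) (kgi xgi13 ygi0 zgi31) (kgi xgi12 ygi1 zgi27) (kgi xgi6 ygi19 zgi56) (kgi xgi6 ygi20 zgi20) (kgi xgi6 ygi48 zgi28) (kgi xgi3 ygi22 zgi48) (kgi xgi13 ygi0 zgi37) (kgi xgi12 ygi59 zgi11) (kgi xgi3 ygi22 zgi49) (kgi xgi6 ygi48 zgi37) (kgi xgi6 ygi48 zgi35) (kgi xgi6 ygi31 zgi1) (kgi xgi13 ygi0 zgi48) (kgi xgi3 ygi22 zgi53) (kgi xgi3 ygi23 zgi56) (kgi xgi11 ygi35 zgi6) (kgi xgi6 ygi29 zgi47) (kgi xgi12 ygi32 zgi23) (kgi xgi6 ygi31 zgi18) (kgi xgi6 ygi30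 zgi13) (kgi xgi12 ygi13 zgi53) (kgi xgi13 ygi0 zgi52) (kgi xgi3 ygi29 zgi18) (kgi xgi3 ygi22 zgi59) (kgi xgi11 ygi28 zgi37) (kgi xgi9 ygi30 zgi49) (kgi xgi3 ygi43 zgi4) (kgi xgi6 ygi19 zgi46) (kgi xgi11 ygi26 zgi5) (kgi xgi6 ygi42 zgi34) (kgi xgi6 ygi30 zgi56) (kgi xgi4 ygi43 zgi34) (kgi xgi13 ygi0 zgi57) (kgi xgi3 ygi23 zgi6) (kgi xgi8 ygi0 zgi20) (kgi xgi13 ygi0 zgi47) (kgi xgi13 ygi1 zgi2) (kgi xgi4 ygi43 zgi5) (kgi xgi6 ygi31 zgi7) (kgi xgi6 ygi46 zgi24) (kgi xgi6 ygi18 zgi18) (kgi xgi3 ygi28 zgi39) (kgi xgi11 ygi40 zgi41) (kgi xgi6 ygi30 zgi47) (kgi xgi11 ygi48 zgi12) (kgi xgi13 ygi1 zgi7) (kgi xgi3 ygi23 zgi15) (kgi xgi6 ygi21 zgi49) (kgi xgi7 ygi27 zgi2) (kgi xgi12 ygi32 zgi24) (kgi xgi3 ygi23 zgi30) (kgi xgi6 ygi21 zgi57)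 (kgi xgi3 ygi23 zgi17) (kgi xgi7 ygi27 zgi6) (kgi xgi4 ygi42 zgi10) (kgi xgi9 ygi21 zgi57) (kgi xgi13 ygi1 zgi15) (kgi xgi4 ygi47 zgi11)) (@D3.rec (fun _ => Pt) (kgi xgi8 ygi34 zgi11) (kgi xgi4 ygi43 zgi7) (kgi xgi3 ygi23 zgi22) (kgi xgi5 ygi55 zgi12) (kgi xgi4 ygi37 zgi16) (kgi xgi10 ygi2 zgi54) (kgi xgi6 ygi8 zgi46) (kgi xgi6 ygi26 zgi26) (kgi xgi11 ygi9 zgi49) (kgi xgi3 ygi43 zgi5) (kgi xgi6 ygi26 zgi30) (kgi xgi6 ygi26 zgi27) (kgi xgi12 ygi32 zgi30) (kgi xgi6 ygi27 zgi3) (kgi xgi3 ygi23 zgi28) (kgi xgi11 ygi34 zgi53) (kgi xgi12 ygi30 zgi15) (kgi xgi7 ygi27 zgi29) (kgi xgi3 ygi23 zgi31) (kgi xgi6 ygi16 zgi3) (kgi xgi13 ygi1 zgi35) (kgi xgi11 ygi54 zgi52) (kgi xgi5 ygi30 zgi24) (kgi xgi12 ygi30 zgi18) (kgi xgi6 ygi21 zgi55) (kgi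 xgi10 ygi18 zgi4) (kgi xgi6 ygi25 zgi51) (kgi xgi12 ygi56 zgi25) (kgi xgi3 ygi23 zgi37) (kgi xgi11 ygi57 zgi38) (kgi xgi6 ygi22 zgi3) (kgi xgi3 ygi23 zgi38) (kgi xgi12 ygi56 zgi24) (kgi xgi13 ygi1 zgi44) (kgi xgi13 ygi1 zgi31) (kgi xgi8 ygi0 zgi25) (kgi xgi13 ygi1 zgi48) (kgi xgi3 ygi23 zgi41) (kgi xgi7 ygi43 zgi16) (kgi xgi10 ygi18 zgi46) (kgi xgi7 ygi43 zgi13) (kgi xgi13 ygi1 zgi54) (kgi xgi6 ygi31 zgi51) (kgi xgi9 ygi32 zgi32) (kgi xgi13 ygi1 zgi58) (kgi xgi10 ygi4 zgi48) (kgi xgi4 ygi43 zgi47) (kgi xgi6 ygi32 zgi43) (kgi xgi4 ygi49 zgi42) (kgi xgi6 ygi20 zgi40) (kgi xgi10 ygi17 zgi44) (kgi xgi10 ygi17 zgi24) (kgi xgi4 ygi48 zgi21) (kgi xgi6 ygi26 zgi5) (kgi xgi4 ygi41 zgi50) (kgi xgi4 ygi48 zgi23) (kgi xgi12 ygi29 zgi52) (kgi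 xgi11 ygi59 zgi43) (kgi xgi11 ygi59 zgi44) (kgi xgi13 ygi2 zgi8) (kgi xgi4 ygi36 zgi48) (kgi xgi11 ygi34 zgi49)) (@D3.rec (fun _ => Pt) (kgi xgi11 ygi25 zgi55) (kgi xgi6 ygi20 zgi10) (kgi xgi12 ygi9 zgi30) (kgi xgi8 ygi12 zgi13) (kgi xgi11 ygi27 zgi23) (kgi xgi10 ygi44 zgi47) (kgi xgi9 ygi47 zgi37) (kgi xgi12 ygi53 zgi13) (kgi xgi9 ygi32 zgi20) (kgi xgi6 ygi25 zgi52) (kgi xgi9 ygi32 zgi13) (kgi xgi12 ygi54 zgi1) (kgi xgi12 ygi56 zgi30) (kgi xgi11 ygi28 zgi54) (kgi xgi3 ygi24 zgi6) (kgi xgi10 ygi34 zgi35) (kgi xgi11 ygi57 zgi33) (kgi xgi13 ygi2 zgi27) (kgi xgi6 ygi12 zgi9) (kgi xgi4 ygi43 zgi12) (kgi xgi3 ygi24 zgi12) (kgi xgi4 ygi43 zgi13) (kgi xgi6 ygi26 zgi7) (kgi xgi3 ygi24 zgi22) (kgi xgi3 ygi27 zgi54) (kgi xgi13 ygi2 zgi36) (kgi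 xgi13 ygi2 zgi39) (kgi xgi3 ygi24 zgi36) (kgi xgi6 ygi42 zgi33) (kgi xgi3 ygi24 zgi26) (kgi xgi7 ygi21 zgi46) (kgi xgi7 ygi25 zgi38) (kgi xgi3 ygi47 zgi31) (kgi xgi13 ygi2 zgi50) (kgi xgi11 ygi39 zgi50) (kgi xgi3 ygi24 zgi48) (kgi xgi6 ygi56 zgi55) (kgi xgi3 ygi24 zgi45) (kgi xgi3 ygi25 zgi36) (kgi xgi13 ygi2 zgi58) (kgi xgi3 ygi24 zgi54) (kgi xgi3 ygi25 zgi39) (kgi xgi13 ygi3 zgi1) (kgi xgi4 ygi48 zgi55) (kgi xgi3 ygi25 zgi9) (kgi xgi7 ygi26 zgi18) (kgi xgi7 ygi0 zgi29) (kgi xgi7 ygi0 zgi34) (kgi xgi13 ygi3 zgi8) (kgi xgi3 ygi24 zgi40) (kgi xgi13 ygi3 zgi13) (kgi xgi3 ygi24 zgi41) (kgi xgi7 ygi1 zgi50) (kgi xgi13 ygi3 zgi18) (kgi xgi3 ygi25 zgi13) (kgi xgi11 ygi30 zgi16) (kgi xgi9 ygi48 zgi21) (kgi xgi13 ygi3 zgi23) (kgi xgi13 ygi3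 zgi16) (kgi xgi7 ygi55 zgi22) (kgi xgi7 ygi4 zgi49) (kgi xgi13 ygi3 zgi32)) (@D3.rec (fun _ => Pt) (kgi xgi13 ygi3 zgi29) (kgi xgi3 ygi54 zgi56) (kgi xgi3 ygi24 zgi47) (kgi xgi13 ygi2 zgi57) (kgi xgi13 ygi3 zgi44) (kgi xgi7 ygi47 zgi8) (kgi xgi6 ygi34 zgi56) (kgi xgi7 ygi5 zgi32) (kgi xgi3 ygi24 zgi50) (kgi xgi11 ygi30 zgi11) (kgi xgi13 ygi3 zgi56) (kgi xgi13 ygi3 zgi59) (kgi xgi3 ygi24 zgi51) (kgi xgi13 ygi3 zgi4) (kgi xgi13 ygi4 zgi3) (kgi xgi3 ygi39 zgi44) (kgi xgi7 ygi32 zgi18) (kgi xgi13 ygi3 zgi55) (kgi xgi6 ygi55 zgi20) (kgi xgi13 ygi4 zgi0) (kgi xgi7 ygi49 zgi11) (kgi xgi7 ygi17 zgi52) (kgi xgi3 ygi24 zgi58) (kgi xgi3 ygi39 zgi40) (kgi xgi7 ygi14 zgi53) (kgi xgi7 ygi19 zgi32) (kgi xgi6 ygi30 zgi29) (kgi xgi13 ygi4 zgi20) (kgi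 xgi6 ygi54 zgi8) (kgi xgi13 ygi4 zgi21) (kgi xgi6 ygi52 zgi54) (kgi xgi3 ygi56 zgi45) (kgi xgi3 ygi27 zgi51) (kgi xgi7 ygi1 zgi0) (kgi xgi7 ygi26 zgi20) (kgi xgi13 ygi4 zgi28) (kgi xgi3 ygi25 zgi22) (kgi xgi13 ygi4 zgi34) (kgi xgi6 ygi54 zgi17) (kgi xgi7 ygi11 zgi6) (kgi xgi7 ygi1 zgi48) (kgi xgi7 ygi26 zgi16) (kgi xgi11 ygi59 zgi56) (kgi xgi13 ygi4 zgi42) (kgi xgi3 ygi25 zgi15) (kgi xgi6 ygi19 zgi2) (kgi xgi3 ygi25 zgi16) (kgi xgi13 ygi4 zgi45) (kgi xgi7 ygi20 zgi57) (kgi xgi13 ygi4 zgi50) (kgi xgi7 ygi19 zgi57) (kgi xgi13 ygi4 zgi54) (kgi xgi6 ygi54 zgi13) (kgi xgi13 ygi4 zgi57) (kgi xgi3 ygi56 zgi48) (kgi xgi13 ygi5 zgi0) (kgi xgi6 ygi52 zgi30) (kgi xgi7 ygi26 zgi25) (kgi xgi10 ygi24 zgi47) (kgi xgi13 ygi5 zgi7) (kgi xgi7 ygi5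 zgi23) (kgi xgi3 ygi35 zgi59)) (@D3.rec (fun _ => Pt) (kgi xgi3 ygi35 zgi57) (kgi xgi7 ygi8 zgi49) (kgi xgi7 ygi45 zgi45) (kgi xgi7 ygi2 zgi32) (kgi xgi6 ygi22 zgi45) (kgi xgi3 ygi25 zgi34) (kgi xgi7 ygi0 zgi49) (kgi xgi12 ygi1 zgi53) (kgi xgi13 ygi5 zgi16) (kgi xgi5 ygi59 zgi1) (kgi xgi6 ygi57 zgi30) (kgi xgi13 ygi5 zgi21) (kgi xgi7 ygi4 zgi12) (kgi xgi7 ygi2 zgi42) (kgi xgi7 ygi32 zgi26) (kgi xgi13 ygi5 zgi26) (kgi xgi13 ygi5 zgi30) (kgi xgi6 ygi47 zgi3) (kgi xgi3 ygi25 zgi43) (kgi xgi13 ygi5 zgi32) (kgi xgi13 ygi5 zgi40) (kgi xgi13 ygi5 zgi29) (kgi xgi12 ygi37 zgi13) (kgi xgi13 ygi1 zgi53) (kgi xgi3 ygi25 zgi46) (kgi xgi13 ygi3 zgi10) (kgi xgi13 ygi5 zgi50) (kgi xgi13 ygi3 zgi7) (kgi xgi13 ygi5 zgi13) (kgi xgi13 ygi5 zgi56) (kgi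 xgi7 ygi49 zgi40) (kgi xgi6 ygi57 zgi53) (kgi xgi7 ygi18 zgi45) (kgi xgi3 ygi25 zgi49) (kgi xgi7 ygi18 zgi33) (kgi xgi7 ygi10 zgi43) (kgi xgi13 ygi3 zgi12) (kgi xgi6 ygi59 zgi44) (kgi xgi7 ygi18 zgi38) (kgi xgi13 ygi6 zgi14) (kgi xgi3 ygi34 zgi43) (kgi xgi3 ygi25 zgi56) (kgi xgi3 ygi42 zgi28) (kgi xgi3 ygi32 zgi3) (kgi xgi3 ygi25 zgi57) (kgi xgi7 ygi27 zgi37) (kgi xgi7 ygi27 zgi35) (kgi xgi13 ygi6 zgi23) (kgi xgi13 ygi6 zgi27) (kgi xgi3 ygi42 zgi61) (kgi xgi12 ygi31 zgi54) (kgi xgi6 ygi51 zgi26) (kgi xgi3 ygi55 zgi30) (kgi xgi7 ygi11 zgi56) (kgi xgi3 ygi26 zgi0) (kgi xgi5 ygi53 zgi47) (kgi xgi9 ygi21 zgi51) (kgi xgi3 ygi55 zgi46) (kgi xgi7 ygi4 zgi20) (kgi xgi7 ygi32 zgi50) (kgi xgi7 ygi33 zgi15) (kgi xgi3 ygi26 zgi4)) (@D3.rec (fun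 _ => Pt) (kgi xgi6 ygi49 zgi32) (kgi xgi7 ygi32 zgi61) (kgi xgi3 ygi26 zgi5) (kgi xgi7 ygi33 zgi25) (kgi xgi3 ygi26 zgi6) (kgi xgi13 ygi6 zgi54) (kgi xgi5 ygi59 zgi56) (kgi xgi7 ygi0 zgi52) (kgi xgi3 ygi42 zgi52) (kgi xgi3 ygi55 zgi31) (kgi xgi13 ygi6 zgi60) (kgi xgi6 ygi52 zgi28) (kgi xgi7 ygi4 zgi18) (kgi xgi3 ygi26 zgi9) (kgi xgi6 ygi52 zgi52) (kgi xgi9 ygi33 zgi2) (kgi xgi7 ygi33 zgi34) (kgi xgi6 ygi52 zgi36) (kgi xgi7 ygi1 zgi60) (kgi xgi7 ygi36 zgi16) (kgi xgi3 ygi26 zgi13) (kgi xgi7 ygi30 zgi21) (kgi xgi13 ygi7 zgi22) (kgi xgi7 ygi30 zgi18) (kgi xgi13 ygi7 zgi25) (kgi xgi7 ygi19 zgi60) (kgi xgi3 ygi26 zgi15) (kgi xgi3 ygi27 zgi31) (kgi xgi13 ygi7 zgi37) (kgi xgi3 ygi27 zgi28) (kgi xgi6 ygi55 zgi17) (kgi xgi3 ygi26 zgi18) (kgi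 xgi7 ygi34 zgi48) (kgi xgi13 ygi7 zgi45) (kgi xgi6 ygi55 zgi37) (kgi xgi13 ygi7 zgi44) (kgi xgi3 ygi41 zgi46) (kgi xgi3 ygi33 zgi61) (kgi xgi7 ygi39 zgi22) (kgi xgi7 ygi13 zgi43) (kgi xgi3 ygi26 zgi24) (kgi xgi7 ygi21 zgi1) (kgi xgi13 ygi7 zgi55) (kgi xgi13 ygi3 zgi60) (kgi xgi13 ygi4 zgi12) (kgi xgi7 ygi28 zgi7) (kgi xgi3 ygi47 zgi30) (kgi xgi7 ygi45 zgi61) (kgi xgi13 ygi8 zgi2) (kgi xgi3 ygi26 zgi30) (kgi xgi13 ygi8 zgi4) (kgi xgi13 ygi8 zgi13) (kgi xgi13 ygi8 zgi1) (kgi xgi3 ygi26 zgi32) (kgi xgi7 ygi53 zgi22) (kgi xgi13 ygi8 zgi21) (kgi xgi7 ygi53 zgi19) (kgi xgi13 ygi7 zgi53) (kgi xgi13 ygi8 zgi27) (kgi xgi6 ygi57 zgi36) (kgi xgi13 ygi4 zgi10) (kgi xgi7 ygi11 zgi20)) (@D3.rec (fun _ => Pt) (kgi xgi3 ygi26 zgi35) (kgi xgi7 ygi11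 zgi3) (kgi xgi7 ygi52 zgi59) (kgi xgi7 ygi53 zgi24) (kgi xgi7 ygi30 zgi14) (kgi xgi7 ygi11 zgi10) (kgi xgi3 ygi41 zgi37) (kgi xgi3 ygi26 zgi46) (kgi xgi13 ygi8 zgi45) (kgi xgi3 ygi26 zgi43) (kgi xgi3 ygi26 zgi40) (kgi xgi7 ygi25 zgi1) (kgi xgi7 ygi24 zgi61) (kgi xgi13 ygi8 zgi51) (kgi xgi13 ygi8 zgi54) (kgi xgi12 ygi49 zgi36) (kgi xgi7 ygi24 zgi25) (kgi xgi6 ygi57 zgi37) (kgi xgi3 ygi26 zgi45) (kgi xgi13 ygi8 zgi46) (kgi xgi7 ygi24 zgi29) (kgi xgi3 ygi37 zgi30) (kgi xgi3 ygi27 zgi47) (kgi xgi7 ygi38 zgi46) (kgi xgi3 ygi26 zgi49) (kgi xgi7 ygi38 zgi30) (kgi xgi3 ygi26 zgi50) (kgi xgi7 ygi38 zgi56) (kgi xgi7 ygi34 zgi61) (kgi xgi3 ygi26 zgi51) (kgi xgi7 ygi53 zgi10) (kgi xgi13 ygi9 zgi12) (kgi xgi7 ygi53 zgi7) (kgi xgi7 ygi34 zgi51)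 (kgi xgi7 ygi51 zgi8) (kgi xgi13 ygi9 zgi16) (kgi xgi7 ygi50 zgi56) (kgi xgi3 ygi27 zgi38) (kgi xgi3 ygi26 zgi54) (kgi xgi7 ygi16 zgi20) (kgi xgi13 ygi9 zgi27) (kgi xgi7 ygi53 zgi14) (kgi xgi7 ygi35 zgi58) (kgi xgi7 ygi16 zgi25) (kgi xgi3 ygi27 zgi24) (kgi xgi7 ygi5 zgi2) (kgi xgi3 ygi31 zgi32) (kgi xgi3 ygi26 zgi59) (kgi xgi7 ygi5 zgi11) (kgi xgi13 ygi9 zgi41) (kgi xgi7 ygi50 zgi41) (kgi xgi7 ygi28 zgi23) (kgi xgi7 ygi7 zgi49) (kgi xgi7 ygi42 zgi59) (kgi xgi7 ygi14 zgi3) (kgi xgi5 ygi49 zgi39) (kgi xgi13 ygi7 zgi26) (kgi xgi7 ygi42 zgi16) (kgi xgi7 ygi15 zgi19) (kgi xgi3 ygi27 zgi3) (kgi xgi4 ygi44 zgi10) (kgi xgi13 ygi9 zgi58)) (@D3.rec (fun _ => Pt) (kgi xgi13 ygi10 zgi0) (kgi xgi3 ygi27 zgi4) (kgi xgi13 ygi9 zgi54) (kgi xgi13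 ygi10 zgi11) (kgi xgi13 ygi9 zgi52) (kgi xgi7 ygi30 zgi13) (kgi xgi3 ygi27 zgi6) (kgi xgi7 ygi37 zgi32) (kgi xgi9 ygi26 zgi14) (kgi xgi7 ygi37 zgi29) (kgi xgi3 ygi27 zgi7) (kgi xgi13 ygi10 zgi24) (kgi xgi7 ygi37 zgi33) (kgi xgi7 ygi35 zgi52) (kgi xgi3 ygi27 zgi25) (kgi xgi7 ygi43 zgi38) (kgi xgi13 ygi10 zgi31) (kgi xgi3 ygi27 zgi12) (kgi xgi13 ygi10 zgi33) (kgi xgi5 ygi28 zgi5) (kgi xgi7 ygi41 zgi16) (kgi xgi3 ygi27 zgi13) (kgi xgi7 ygi42 zgi50) (kgi xgi11 ygi45 zgi51) (kgi xgi7 ygi42 zgi48) (kgi xgi3 ygi27 zgi14) (kgi xgi7 ygi16 zgi24) (kgi xgi9 ygi14 zgi14) (kgi xgi7 ygi42 zgi51) (kgi xgi12 ygi32 zgi60) (kgi xgi10 ygi27 zgi19) (kgi xgi3 ygi27 zgi17) (kgi xgi7 ygi30 zgi53) (kgi xgi13 ygi10 zgi52) (kgi xgi7 ygi30 zgi50) (kgi xgi13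 ygi10 zgi56) (kgi xgi3 ygi27 zgi19) (kgi xgi7 ygi43 zgi11) (kgi xgi7 ygi43 zgi9) (kgi xgi13 ygi10 zgi60) (kgi xgi3 ygi27 zgi20) (kgi xgi8 ygi0 zgi44) (kgi xgi13 ygi11 zgi3) (kgi xgi3 ygi27 zgi21) (kgi xgi11 ygi43 zgi26) (kgi xgi13 ygi11 zgi12) (kgi xgi3 ygi27 zgi22) (kgi xgi7 ygi41 zgi55) (kgi xgi7 ygi13 zgi45) (kgi xgi13 ygi11 zgi21) (kgi xgi13 ygi11 zgi25) (kgi xgi3 ygi27 zgi23) (kgi xgi3 ygi27 zgi26) (kgi xgi13 ygi11 zgi34) (kgi xgi13 ygi11 zgi37) (kgi xgi6 ygi52 zgi5) (kgi xgi3 ygi38 zgi1) (kgi xgi7 ygi47 zgi2) (kgi xgi7 ygi47 zgi1) (kgi xgi13 ygi11 zgi43) (kgi xgi13 ygi11 zgi47) (kgi xgi13 ygi11 zgi33)) (@D3.rec (fun _ => Pt) (kgi xgi11 ygi46 zgi32) (kgi xgi6 ygi53 zgi38) (kgi xgi13 ygi9 zgi51) (kgi xgi13 ygi11 zgi60) (kgi xgi3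 ygi39 zgi53) (kgi xgi13 ygi12 zgi1) (kgi xgi13 ygi11 zgi39) (kgi xgi13 ygi11 zgi59) (kgi xgi13 ygi3 zgi61) (kgi xgi11 ygi46 zgi7) (kgi xgi3 ygi27 zgi30) (kgi xgi13 ygi3 zgi46) (kgi xgi13 ygi12 zgi17) (kgi xgi13 ygi3 zgi43) (kgi xgi13 ygi7 zgi36) (kgi xgi13 ygi12 zgi24) (kgi xgi3 ygi51 zgi59) (kgi xgi3 ygi49 zgi46) (kgi xgi6 ygi34 zgi10) (kgi xgi3 ygi51 zgi58) (kgi xgi13 ygi12 zgi27) (kgi xgi13 ygi4 zgi2) (kgi xgi3 ygi27 zgi36) (kgi xgi5 ygi48 zgi21) (kgi xgi13 ygi12 zgi37) (kgi xgi13 ygi12 zgi40) (kgi xgi3 ygi27 zgi37) (kgi xgi3 ygi27 zgi48) (kgi xgi13 ygi11 zgi31) (kgi xgi6 ygi54 zgi34) (kgi xgi13 ygi12 zgi48) (kgi xgi6 ygi56 zgi56) (kgi xgi3 ygi27 zgi40) (kgi xgi3 ygi27 zgi50) (kgi xgi13 ygi12 zgi57) (kgi xgi13 ygi2 zgi61) (kgi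 xgi6 ygi57 zgi52) (kgi xgi7 ygi54 zgi33) (kgi xgi7 ygi9 zgi8) (kgi xgi13 ygi13 zgi0) (kgi xgi13 ygi13 zgi5) (kgi xgi3 ygi54 zgi33) (kgi xgi3 ygi27 zgi45) (kgi xgi7 ygi45 zgi44) (kgi xgi3 ygi56 zgi24) (kgi xgi3 ygi27 zgi46) (kgi xgi13 ygi7 zgi42) (kgi xgi13 ygi7 zgi41) (kgi xgi13 ygi13 zgi14) (kgi xgi7 ygi5 zgi60) (kgi xgi13 ygi11 zgi29) (kgi xgi13 ygi13 zgi22) (kgi xgi3 ygi27 zgi49) (kgi xgi6 ygi53 zgi29) (kgi xgi13 ygi13 zgi26) (kgi xgi13 ygi3 zgi50) (kgi xgi3 ygi35 zgi8) (kgi xgi6 ygi22 zgi47) (kgi xgi4 ygi10 zgi25) (kgi xgi13 ygi13 zgi33) (kgi xgi6 ygi53 zgi51) (kgi xgi13 ygi13 zgi38)) (@D3.rec (fun _ => Pt) (kgi xgi3 ygi35 zgi14) (kgi xgi13 ygi13 zgi43) (kgi xgi3 ygi42 zgi58) (kgi xgi3 ygi56 zgi33) (kgi xgi3 ygi56 zgi41) (kgi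 xgi3 ygi41 zgi39) (kgi xgi7 ygi30 zgi7) (kgi xgi13 ygi13 zgi54) (kgi xgi13 ygi13 zgi57) (kgi xgi7 ygi7 zgi44) (kgi xgi7 ygi6 zgi23) (kgi xgi6 ygi58 zgi33) (kgi xgi6 ygi58 zgi23) (kgi xgi6 ygi58 zgi20) (kgi xgi13 ygi14 zgi3) (kgi xgi7 ygi8 zgi11) (kgi xgi3 ygi28 zgi2) (kgi xgi6 ygi58 zgi29) (kgi xgi13 ygi14 zgi13) (kgi xgi10 ygi13 zgi11) (kgi xgi3 ygi28 zgi3) (kgi xgi7 ygi19 zgi12) (kgi xgi7 ygi15 zgi24) (kgi xgi3 ygi28 zgi5) (kgi xgi3 ygi39 zgi29) (kgi xgi7 ygi7 zgi43) (kgi xgi7 ygi13 zgi51) (kgi xgi7 ygi13 zgi40) (kgi xgi13 ygi14 zgi26) (kgi xgi6 ygi58 zgi16) (kgi xgi3 ygi33 zgi52) (kgi xgi13 ygi14 zgi32) (kgi xgi7 ygi14 zgi16) (kgi xgi3 ygi28 zgi11) (kgi xgi6 ygi58 zgi11) (kgi xgi13 ygi14 zgi40) (kgi xgi13 ygi14 zgi44) (kgi xgi3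 ygi28 zgi12) (kgi xgi3 ygi53 zgi50) (kgi xgi7 ygi16 zgi55) (kgi xgi6 ygi57 zgi41) (kgi xgi3 ygi28 zgi15) (kgi xgi3 ygi29 zgi2) (kgi xgi13 ygi14 zgi53) (kgi xgi3 ygi28 zgi16) (kgi xgi3 ygi30 zgi31) (kgi xgi7 ygi46 zgi49) (kgi xgi3 ygi30 zgi32) (kgi xgi3 ygi29 zgi21) (kgi xgi3 ygi45 zgi51) (kgi xgi13 ygi15 zgi4) (kgi xgi3 ygi28 zgi23) (kgi xgi13 ygi15 zgi6) (kgi xgi7 ygi9 zgi60) (kgi xgi3 ygi30 zgi35) (kgi xgi3 ygi30 zgi36) (kgi xgi13 ygi7 zgi51) (kgi xgi13 ygi15 zgi11) (kgi xgi3 ygi45 zgi28) (kgi xgi6 ygi21 zgi23) (kgi xgi3 ygi45 zgi25) (kgi xgi6 ygi9 zgi55)) (@D3.rec (fun _ => Pt) (kgi xgi4 ygi47 zgi57) (kgi xgi6 ygi20 zgi36) (kgi xgi8 ygi23 zgi25) (kgi xgi6 ygi20 zgi37) (kgi xgi6 ygi18 zgi60) (kgi xgi12 ygi12 zgi41) (kgi xgi12 ygi12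 zgi39) (kgi xgi3 ygi28 zgi41) (kgi xgi6 ygi18 zgi40) (kgi xgi12 ygi13 zgi7) (kgi xgi13 ygi15 zgi21) (kgi xgi3 ygi39 zgi46) (kgi xgi13 ygi15 zgi25) (kgi xgi3 ygi39 zgi50) (kgi xgi3 ygi34 zgi15) (kgi xgi3 ygi28 zgi49) (kgi xgi13 ygi15 zgi30) (kgi xgi13 ygi15 zgi36) (kgi xgi13 ygi15 zgi41) (kgi xgi13 ygi15 zgi31) (kgi xgi3 ygi53 zgi42) (kgi xgi13 ygi15 zgi48) (kgi xgi7 ygi5 zgi35) (kgi xgi13 ygi15 zgi52) (kgi xgi3 ygi38 zgi10) (kgi xgi6 ygi21 zgi14) (kgi xgi3 ygi28 zgi56) (kgi xgi6 ygi21 zgi13) (kgi xgi6 ygi38 zgi7) (kgi xgi7 ygi48 zgi49) (kgi xgi13 ygi15 zgi61) (kgi xgi6 ygi33 zgi52) (kgi xgi13 ygi16 zgi3) (kgi xgi3 ygi38 zgi20) (kgi xgi3 ygi28 zgi60) (kgi xgi7 ygi19 zgi51) (kgi xgi7 ygi6 zgi4) (kgi xgi13 ygi16 zgi12) (kgi xgi3 ygi28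 zgi61) (kgi xgi7 ygi4 zgi5) (kgi xgi6 ygi11 zgi49) (kgi xgi13 ygi16 zgi22) (kgi xgi13 ygi0 zgi53) (kgi xgi6 ygi33 zgi9) (kgi xgi3 ygi46 zgi57) (kgi xgi11 ygi41 zgi45) (kgi xgi7 ygi32 zgi27) (kgi xgi6 ygi54 zgi16) (kgi xgi13 ygi16 zgi32) (kgi xgi12 ygi33 zgi35) (kgi xgi13 ygi16 zgi37) (kgi xgi3 ygi29 zgi4) (kgi xgi13 ygi16 zgi34) (kgi xgi13 ygi16 zgi48) (kgi xgi13 ygi16 zgi31) (kgi xgi3 ygi29 zgi5) (kgi xgi3 ygi30 zgi17) (kgi xgi13 ygi16 zgi51) (kgi xgi3 ygi30 zgi14) (kgi xgi12 ygi36 zgi5) (kgi xgi7 ygi47 zgi44) (kgi xgi7 ygi5 zgi55))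
def fi_g_7 : D2 → D3 → Pt := @D2.rec (fun _ => D3 → Pt) (@D3.rec (fun _ => Pt) (kgi xgi13 ygi16 zgi59) (kgi xgi7 ygi47 zgi45) (kgi xgi3 ygi29 zgi8) (kgi xgi7 ygi47 zgi42) (kgi xgi3 ygi30 zgi27) (kgi xgi3 ygi46 zgi27) (kgi xgi7 ygi4 zgi14) (kgi xgi3 ygi29 zgi11) (kgi xgi3 ygi46 zgi36) (kgi xgi7 ygi47 zgi47) (kgi xgi13 ygi17 zgi13) (kgi xgi3 ygi46 zgi54) (kgi xgi7 ygi47 zgi6) (kgi xgi7 ygi47 zgi49) (kgi xgi7 ygi47 zgi32) (kgi xgi7 ygi22 zgi13) (kgi xgi3 ygi29 zgi20) (kgi xgi3 ygi45 zgi40) (kgi xgi3 ygi45 zgi38) (kgi xgi13 ygi17 zgi25) (kgi xgi7 ygi48 zgi34) (kgi xgi3 ygi30 zgi61) (kgi xgi13 ygi17 zgi31) (kgi xgi3 ygi53 zgi23) (kgi xgi3 ygi29 zgi24) (kgi xgi7 ygi15 zgi55) (kgi xgi13 ygi17 zgi40) (kgi xgi13 ygi17 zgi22) (kgi xgi9 ygi28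 zgi38) (kgi xgi6 ygi53 zgi59) (kgi xgi12 ygi38 zgi1) (kgi xgi3 ygi29 zgi27) (kgi xgi3 ygi46 zgi48) (kgi xgi13 ygi17 zgi55) (kgi xgi13 ygi17 zgi56) (kgi xgi3 ygi36 zgi16) (kgi xgi3 ygi30 zgi58) (kgi xgi3 ygi29 zgi29) (kgi xgi3 ygi34 zgi29) (kgi xgi3 ygi29 zgi34) (kgi xgi3 ygi29 zgi31) (kgi xgi3 ygi46 zgi21) (kgi xgi3 ygi46 zgi19) (kgi xgi9 ygi45 zgi34) (kgi xgi13 ygi18 zgi6) (kgi xgi4 ygi4 zgi50) (kgi xgi7 ygi9 zgi25) (kgi xgi3 ygi34 zgi11) (kgi xgi7 ygi11 zgi59) (kgi xgi6 ygi53 zgi5) (kgi xgi3 ygi30 zgi55) (kgi xgi13 ygi18 zgi12) (kgi xgi13 ygi18 zgi15) (kgi xgi9 ygi30 zgi17) (kgi xgi3 ygi29 zgi41) (kgi xgi13 ygi18 zgi17) (kgi xgi13 ygi18 zgi27) (kgi xgi6 ygi54 zgi7) (kgi xgi3 ygi29 zgi42) (kgi xgi3 ygi46 zgi4) (kgi xgi13 ygi18 zgi35)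 (kgi xgi3 ygi46 zgi1)) (@D3.rec (fun _ => Pt) (kgi xgi6 ygi53 zgi60) (kgi xgi7 ygi48 zgi22) (kgi xgi3 ygi34 zgi16) (kgi xgi13 ygi18 zgi42) (kgi xgi7 ygi37 zgi23) (kgi xgi3 ygi30 zgi43) (kgi xgi3 ygi29 zgi45) (kgi xgi3 ygi46 zgi14) (kgi xgi13 ygi18 zgi55) (kgi xgi3 ygi46 zgi11) (kgi xgi13 ygi4 zgi49) (kgi xgi7 ygi24 zgi43) (kgi xgi3 ygi30 zgi22) (kgi xgi7 ygi28 zgi30) (kgi xgi13 ygi14 zgi58) (kgi xgi7 ygi22 zgi43) (kgi xgi7 ygi28 zgi51) (kgi xgi13 ygi16 zgi60) (kgi xgi3 ygi49 zgi56) (kgi xgi7 ygi15 zgi58) (kgi xgi7 ygi21 zgi8) (kgi xgi7 ygi24 zgi34) (kgi xgi3 ygi51 zgi14) (kgi xgi13 ygi19 zgi14) (kgi xgi3 ygi29 zgi54) (kgi xgi7 ygi15 zgi60) (kgi xgi13 ygi19 zgi24) (kgi xgi3 ygi29 zgi55) (kgi xgi3 ygi51 zgi26) (kgi xgi13 ygi19 zgi31)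 (kgi xgi3 ygi51 zgi23) (kgi xgi7 ygi17 zgi6) (kgi xgi3 ygi30 zgi23) (kgi xgi3 ygi30 zgi3) (kgi xgi13 ygi19 zgi34) (kgi xgi13 ygi19 zgi38) (kgi xgi11 ygi47 zgi7) (kgi xgi3 ygi29 zgi61) (kgi xgi13 ygi19 zgi40) (kgi xgi13 ygi19 zgi48) (kgi xgi13 ygi19 zgi37) (kgi xgi3 ygi30 zgi0) (kgi xgi3 ygi51 zgi20) (kgi xgi13 ygi19 zgi56) (kgi xgi3 ygi51 zgi17) (kgi xgi3 ygi30 zgi1) (kgi xgi7 ygi16 zgi3) (kgi xgi7 ygi33 zgi26) (kgi xgi7 ygi33 zgi41) (kgi xgi6 ygi32 zgi55) (kgi xgi6 ygi51 zgi51) (kgi xgi13 ygi20 zgi7) (kgi xgi3 ygi34 zgi46) (kgi xgi3 ygi30 zgi5) (kgi xgi3 ygi30 zgi11) (kgi xgi7 ygi43 zgi36) (kgi xgi3 ygi30 zgi8) (kgi xgi12 ygi27 zgi40) (kgi xgi13 ygi20 zgi4) (kgi xgi7 ygi55 zgi13) (kgi xgi7 ygi16 zgi34) (kgi xgi13 ygi20 zgi23)) (@D3.rec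 (fun _ => Pt) (kgi xgi13 ygi20 zgi20) (kgi xgi6 ygi53 zgi39) (kgi xgi3 ygi30 zgi10) (kgi xgi13 ygi20 zgi15) (kgi xgi13 ygi20 zgi34) (kgi xgi13 ygi4 zgi37) (kgi xgi3 ygi30 zgi12) (kgi xgi12 ygi1 zgi14) (kgi xgi6 ygi35 zgi44) (kgi xgi7 ygi41 zgi9) (kgi xgi6 ygi36 zgi53) (kgi xgi9 ygi25 zgi47) (kgi xgi13 ygi20 zgi44) (kgi xgi13 ygi20 zgi45) (kgi xgi12 ygi28 zgi21) (kgi xgi11 ygi45 zgi21) (kgi xgi7 ygi41 zgi36) (kgi xgi3 ygi30 zgi16) (kgi xgi13 ygi16 zgi52) (kgi xgi11 ygi27 zgi1) (kgi xgi7 ygi22 zgi18) (kgi xgi7 ygi41 zgi30) (kgi xgi3 ygi30 zgi18) (kgi xgi7 ygi41 zgi33) (kgi xgi13 ygi21 zgi3) (kgi xgi3 ygi30 zgi19) (kgi xgi12 ygi34 zgi50) (kgi xgi7 ygi22 zgi16) (kgi xgi13 ygi21 zgi12) (kgi xgi13 ygi21 zgi16) (kgi xgi3 ygi35 zgi31) (kgi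 xgi3 ygi39 zgi48) (kgi xgi7 ygi12 zgi28) (kgi xgi3 ygi30 zgi21) (kgi xgi3 ygi30 zgi25) (kgi xgi13 ygi21 zgi25) (kgi xgi13 ygi21 zgi29) (kgi xgi7 ygi15 zgi44) (kgi xgi3 ygi52 zgi25) (kgi xgi3 ygi42 zgi2) (kgi xgi13 ygi16 zgi54) (kgi xgi13 ygi16 zgi53) (kgi xgi13 ygi21 zgi37) (kgi xgi13 ygi21 zgi40) (kgi xgi13 ygi21 zgi44) (kgi xgi12 ygi36 zgi6) (kgi xgi13 ygi21 zgi24) (kgi xgi13 ygi21 zgi49) (kgi xgi3 ygi48 zgi57) (kgi xgi13 ygi19 zgi7) (kgi xgi7 ygi32 zgi10) (kgi xgi13 ygi21 zgi59) (kgi xgi13 ygi21 zgi33) (kgi xgi13 ygi21 zgi56) (kgi xgi13 ygi22 zgi2) (kgi xgi3 ygi30 zgi29) (kgi xgi3 ygi52 zgi22) (kgi xgi13 ygi22 zgi7) (kgi xgi3 ygi52 zgi19) (kgi xgi13 ygi17 zgi5) (kgi xgi13 ygi22 zgi14) (kgi xgi7 ygi10 zgi33)) (@D3.rec (fun _ =>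 Pt) (kgi xgi12 ygi34 zgi52) (kgi xgi7 ygi53 zgi55) (kgi xgi7 ygi4 zgi50) (kgi xgi13 ygi19 zgi36) (kgi xgi13 ygi22 zgi19) (kgi xgi3 ygi46 zgi17) (kgi xgi3 ygi30 zgi34) (kgi xgi13 ygi14 zgi61) (kgi xgi13 ygi22 zgi33) (kgi xgi3 ygi44 zgi30) (kgi xgi7 ygi4 zgi47) (kgi xgi7 ygi31 zgi15) (kgi xgi13 ygi12 zgi51) (kgi xgi7 ygi28 zgi5) (kgi xgi3 ygi30 zgi38) (kgi xgi6 ygi54 zgi18) (kgi xgi13 ygi22 zgi42) (kgi xgi7 ygi24 zgi33) (kgi xgi12 ygi30 zgi20) (kgi xgi3 ygi45 zgi3) (kgi xgi13 ygi22 zgi44) (kgi xgi3 ygi53 zgi0) (kgi xgi13 ygi22 zgi50) (kgi xgi13 ygi22 zgi54) (kgi xgi3 ygi30 zgi42) (kgi xgi3 ygi30 zgi56) (kgi xgi13 ygi21 zgi22) (kgi xgi13 ygi23 zgi1) (kgi xgi7 ygi15 zgi38) (kgi xgi13 ygi23 zgi5) (kgi xgi3 ygi46 zgi10) (kgi xgi3 ygi52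 zgi13) (kgi xgi3 ygi30 zgi45) (kgi xgi13 ygi17 zgi38) (kgi xgi3 ygi48 zgi29) (kgi xgi7 ygi40 zgi15) (kgi xgi7 ygi13 zgi53) (kgi xgi7 ygi48 zgi3) (kgi xgi3 ygi46 zgi26) (kgi xgi13 ygi23 zgi18) (kgi xgi13 ygi14 zgi21) (kgi xgi3 ygi39 zgi47) (kgi xgi3 ygi30 zgi53) (kgi xgi7 ygi11 zgi58) (kgi xgi13 ygi4 zgi15) (kgi xgi3 ygi30 zgi54) (kgi xgi3 ygi54 zgi29) (kgi xgi12 ygi34 zgi7) (kgi xgi13 ygi17 zgi9) (kgi xgi13 ygi23 zgi25) (kgi xgi13 ygi23 zgi28) (kgi xgi13 ygi21 zgi20) (kgi xgi13 ygi23 zgi32) (kgi xgi3 ygi30 zgi57) (kgi xgi3 ygi48 zgi47) (kgi xgi13 ygi23 zgi38) (kgi xgi3 ygi52 zgi46) (kgi xgi7 ygi12 zgi41) (kgi xgi13 ygi23 zgi43) (kgi xgi3 ygi45 zgi53) (kgi xgi13 ygi23 zgi46) (kgi xgi7 ygi18 zgi27)) (@D3.rec (fun _ => Pt) (kgi xgi13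 ygi18 zgi14) (kgi xgi13 ygi23 zgi45) (kgi xgi3 ygi46 zgi7) (kgi xgi8 ygi25 zgi42) (kgi xgi13 ygi23 zgi57) (kgi xgi6 ygi59 zgi38) (kgi xgi7 ygi12 zgi38) (kgi xgi13 ygi24 zgi1) (kgi xgi13 ygi24 zgi4) (kgi xgi3 ygi31 zgi9) (kgi xgi3 ygi44 zgi43) (kgi xgi13 ygi24 zgi11) (kgi xgi3 ygi40 zgi58) (kgi xgi6 ygi53 zgi12) (kgi xgi13 ygi24 zgi15) (kgi xgi3 ygi31 zgi14) (kgi xgi6 ygi53 zgi15) (kgi xgi13 ygi24 zgi20) (kgi xgi13 ygi12 zgi45) (kgi xgi7 ygi24 zgi39) (kgi xgi13 ygi17 zgi8) (kgi xgi13 ygi24 zgi19) (kgi xgi6 ygi53 zgi30) (kgi xgi13 ygi24 zgi31) (kgi xgi7 ygi8 zgi53) (kgi xgi12 ygi8 zgi14) (kgi xgi7 ygi28 zgi24) (kgi xgi7 ygi26 zgi32) (kgi xgi7 ygi4 zgi60) (kgi xgi13 ygi24 zgi44) (kgi xgi7 ygi5 zgi7) (kgi xgi13 ygi24 zgi47) (kgi xgi3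 ygi35 zgi32) (kgi xgi3 ygi56 zgi26) (kgi xgi13 ygi24 zgi53) (kgi xgi3 ygi31 zgi28) (kgi xgi7 ygi4 zgi54) (kgi xgi13 ygi25 zgi1) (kgi xgi13 ygi25 zgi6) (kgi xgi3 ygi31 zgi29) (kgi xgi13 ygi9 zgi36) (kgi xgi7 ygi51 zgi54) (kgi xgi3 ygi41 zgi40) (kgi xgi7 ygi30 zgi9) (kgi xgi3 ygi31 zgi31) (kgi xgi3 ygi54 zgi12) (kgi xgi7 ygi28 zgi20) (kgi xgi7 ygi3 zgi19) (kgi xgi13 ygi9 zgi39) (kgi xgi7 ygi52 zgi58) (kgi xgi7 ygi34 zgi47) (kgi xgi7 ygi22 zgi27) (kgi xgi7 ygi22 zgi6) (kgi xgi13 ygi25 zgi23) (kgi xgi7 ygi4 zgi35) (kgi xgi3 ygi44 zgi18) (kgi xgi7 ygi4 zgi44) (kgi xgi13 ygi25 zgi30) (kgi xgi7 ygi22 zgi59) (kgi xgi7 ygi50 zgi27) (kgi xgi3 ygi31 zgi43) (kgi xgi7 ygi4 zgi28)) (@D3.rec (fun _ => Pt) (kgi xgi13 ygi25 zgi44) (kgi xgi13 ygi25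 zgi49) (kgi xgi3 ygi31 zgi44) (kgi xgi6 ygi55 zgi45) (kgi xgi7 ygi9 zgi10) (kgi xgi7 ygi22 zgi29) (kgi xgi13 ygi25 zgi55) (kgi xgi3 ygi31 zgi47) (kgi xgi7 ygi4 zgi30) (kgi xgi3 ygi56 zgi35) (kgi xgi7 ygi3 zgi38) (kgi xgi6 ygi55 zgi47) (kgi xgi7 ygi2 zgi1) (kgi xgi3 ygi31 zgi52) (kgi xgi13 ygi26 zgi3) (kgi xgi7 ygi29 zgi54) (kgi xgi13 ygi26 zgi8) (kgi xgi3 ygi44 zgi17) (kgi xgi13 ygi26 zgi11) (kgi xgi13 ygi2 zgi45) (kgi xgi13 ygi26 zgi16) (kgi xgi7 ygi27 zgi40) (kgi xgi13 ygi26 zgi21) (kgi xgi3 ygi31 zgi59) (kgi xgi6 ygi52 zgi60) (kgi xgi12 ygi19 zgi8) (kgi xgi13 ygi26 zgi30) (kgi xgi3 ygi34 zgi0) (kgi xgi7 ygi18 zgi3) (kgi xgi3 ygi42 zgi26) (kgi xgi13 ygi26 zgi33) (kgi xgi6 ygi52 zgi50) (kgi xgi7 ygi18 zgi21) (kgi xgi7 ygi18 zgi22)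 (kgi xgi4 ygi20 zgi38) (kgi xgi6 ygi58 zgi53) (kgi xgi7 ygi17 zgi3) (kgi xgi7 ygi18 zgi48) (kgi xgi13 ygi23 zgi58) (kgi xgi3 ygi32 zgi19) (kgi xgi8 ygi46 zgi0) (kgi xgi8 ygi45 zgi60) (kgi xgi13 ygi26 zgi44) (kgi xgi13 ygi18 zgi3) (kgi xgi7 ygi48 zgi40) (kgi xgi13 ygi26 zgi52) (kgi xgi7 ygi9 zgi42) (kgi xgi7 ygi15 zgi39) (kgi xgi3 ygi32 zgi23) (kgi xgi7 ygi12 zgi45) (kgi xgi13 ygi27 zgi4) (kgi xgi7 ygi12 zgi42) (kgi xgi7 ygi16 zgi46) (kgi xgi7 ygi48 zgi42) (kgi xgi13 ygi4 zgi16) (kgi xgi7 ygi2 zgi39) (kgi xgi3 ygi44 zgi40) (kgi xgi7 ygi33 zgi20) (kgi xgi13 ygi27 zgi18) (kgi xgi13 ygi27 zgi20) (kgi xgi13 ygi27 zgi22) (kgi xgi3 ygi32 zgi32)) (@D3.rec (fun _ => Pt) (kgi xgi7 ygi16 zgi41) (kgi xgi7 ygi16 zgi39) (kgi xgi13 ygi27 zgi29)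 (kgi xgi13 ygi27 zgi32) (kgi xgi3 ygi39 zgi49) (kgi xgi13 ygi26 zgi53) (kgi xgi3 ygi32 zgi38) (kgi xgi13 ygi27 zgi0) (kgi xgi7 ygi12 zgi36) (kgi xgi8 ygi46 zgi25) (kgi xgi7 ygi12 zgi31) (kgi xgi7 ygi48 zgi61) (kgi xgi7 ygi18 zgi29) (kgi xgi3 ygi32 zgi41) (kgi xgi7 ygi12 zgi20) (kgi xgi6 ygi40 zgi52) (kgi xgi7 ygi12 zgi17) (kgi xgi13 ygi27 zgi7) (kgi xgi13 ygi4 zgi13) (kgi xgi3 ygi39 zgi37) (kgi xgi6 ygi14 zgi61) (kgi xgi6 ygi15 zgi9) (kgi xgi3 ygi38 zgi13) (kgi xgi7 ygi13 zgi60) (kgi xgi3 ygi32 zgi46) (kgi xgi13 ygi27 zgi58) (kgi xgi3 ygi32 zgi47) (kgi xgi7 ygi12 zgi61) (kgi xgi13 ygi28 zgi7) (kgi xgi7 ygi12 zgi58) (kgi xgi3 ygi32 zgi48) (kgi xgi3 ygi33 zgi48) (kgi xgi13 ygi28 zgi12) (kgi xgi3 ygi33 zgi45) (kgi xgi6 ygi14 zgi59) (kgi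 xgi7 ygi40 zgi30) (kgi xgi13 ygi28 zgi18) (kgi xgi7 ygi40 zgi28) (kgi xgi3 ygi53 zgi24) (kgi xgi3 ygi32 zgi51) (kgi xgi3 ygi33 zgi60) (kgi xgi13 ygi28 zgi31) (kgi xgi3 ygi33 zgi57) (kgi xgi3 ygi32 zgi53) (kgi xgi7 ygi13 zgi27) (kgi xgi7 ygi40 zgi35) (kgi xgi12 ygi8 zgi40) (kgi xgi7 ygi40 zgi33) (kgi xgi3 ygi47 zgi36) (kgi xgi7 ygi52 zgi61) (kgi xgi13 ygi28 zgi49) (kgi xgi3 ygi36 zgi30) (kgi xgi13 ygi28 zgi54) (kgi xgi3 ygi37 zgi56) (kgi xgi3 ygi48 zgi61) (kgi xgi3 ygi32 zgi59) (kgi xgi13 ygi6 zgi15) (kgi xgi13 ygi27 zgi17) (kgi xgi13 ygi29 zgi5) (kgi xgi13 ygi29 zgi9) (kgi xgi3 ygi53 zgi31) (kgi xgi3 ygi33 zgi1)) (@D3.rec (fun _ => Pt) (kgi xgi3 ygi49 zgi53) (kgi xgi13 ygi15 zgi35) (kgi xgi3 ygi33 zgi6) (kgi xgi13 ygi29 zgi14) (kgi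 xgi13 ygi29 zgi19) (kgi xgi13 ygi29 zgi13) (kgi xgi4 ygi33 zgi1) (kgi xgi4 ygi36 zgi56) (kgi xgi3 ygi33 zgi8) (kgi xgi4 ygi32 zgi55) (kgi xgi8 ygi46 zgi10) (kgi xgi5 ygi42 zgi38) (kgi xgi7 ygi39 zgi12) (kgi xgi13 ygi23 zgi50) (kgi xgi3 ygi53 zgi32) (kgi xgi13 ygi14 zgi23) (kgi xgi7 ygi18 zgi28) (kgi xgi3 ygi33 zgi11) (kgi xgi7 ygi13 zgi59) (kgi xgi13 ygi29 zgi42) (kgi xgi7 ygi13 zgi56) (kgi xgi7 ygi12 zgi57) (kgi xgi7 ygi53 zgi52) (kgi xgi3 ygi53 zgi33) (kgi xgi7 ygi6 zgi54) (kgi xgi3 ygi33 zgi16) (kgi xgi7 ygi38 zgi14) (kgi xgi3 ygi45 zgi50) (kgi xgi3 ygi33 zgi17) (kgi xgi3 ygi48 zgi22) (kgi xgi3 ygi48 zgi20) (kgi xgi13 ygi29 zgi61) (kgi xgi13 ygi17 zgi20) (kgi xgi3 ygi34 zgi13) (kgi xgi13 ygi14 zgi22) (kgi xgi3 ygi33 zgi21) (kgi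 xgi3 ygi33 zgi22) (kgi xgi13 ygi29 zgi38) (kgi xgi3 ygi33 zgi23) (kgi xgi3 ygi57 zgi20) (kgi xgi8 ygi43 zgi22) (kgi xgi4 ygi23 zgi2) (kgi xgi7 ygi47 zgi61) (kgi xgi3 ygi53 zgi43) (kgi xgi3 ygi33 zgi25) (kgi xgi6 ygi58 zgi9) (kgi xgi13 ygi30 zgi17) (kgi xgi7 ygi35 zgi59) (kgi xgi7 ygi13 zgi2) (kgi xgi6 ygi55 zgi55) (kgi xgi13 ygi28 zgi19) (kgi xgi13 ygi30 zgi24) (kgi xgi3 ygi53 zgi14) (kgi xgi3 ygi33 zgi31) (kgi xgi13 ygi30 zgi25) (kgi xgi13 ygi30 zgi33) (kgi xgi13 ygi30 zgi23) (kgi xgi3 ygi33 zgi32) (kgi xgi3 ygi57 zgi23) (kgi xgi10 ygi39 zgi13) (kgi xgi3 ygi33 zgi33) (kgi xgi7 ygi14 zgi26)) (@D3.rec (fun _ => Pt) (kgi xgi13 ygi30 zgi45) (kgi xgi7 ygi14 zgi23) (kgi xgi7 ygi14 zgi47) (kgi xgi13 ygi14 zgi31) (kgi xgi3 ygi33 zgi38) (kgi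 xgi13 ygi14 zgi33) (kgi xgi13 ygi30 zgi55) (kgi xgi3 ygi33 zgi39) (kgi xgi7 ygi14 zgi15) (kgi xgi13 ygi30 zgi61) (kgi xgi7 ygi14 zgi12) (kgi xgi3 ygi33 zgi40) (kgi xgi6 ygi58 zgi15) (kgi xgi13 ygi31 zgi4) (kgi xgi8 ygi48 zgi0) (kgi xgi3 ygi33 zgi43) (kgi xgi13 ygi31 zgi9) (kgi xgi3 ygi33 zgi44) (kgi xgi3 ygi37 zgi7) (kgi xgi13 ygi31 zgi13) (kgi xgi3 ygi37 zgi4) (kgi xgi6 ygi14 zgi47) (kgi xgi3 ygi49 zgi9) (kgi xgi8 ygi48 zgi26) (kgi xgi8 ygi3 zgi25) (kgi xgi13 ygi31 zgi17) (kgi xgi8 ygi48 zgi29) (kgi xgi3 ygi33 zgi47) (kgi xgi13 ygi28 zgi14) (kgi xgi13 ygi31 zgi30) (kgi xgi4 ygi25 zgi28) (kgi xgi3 ygi33 zgi49) (kgi xgi7 ygi14 zgi1) (kgi xgi3 ygi49 zgi21) (kgi xgi13 ygi31 zgi39) (kgi xgi13 ygi31 zgi43) (kgi xgi3 ygi33 zgi50) (kgi xgi6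 ygi53 zgi1) (kgi xgi3 ygi53 zgi12) (kgi xgi3 ygi33 zgi51) (kgi xgi3 ygi33 zgi55) (kgi xgi13 ygi31 zgi51) (kgi xgi13 ygi31 zgi56) (kgi xgi3 ygi38 zgi47) (kgi xgi11 ygi28 zgi0) (kgi xgi11 ygi28 zgi1) (kgi xgi11 ygi4 zgi17) (kgi xgi13 ygi32 zgi5) (kgi xgi13 ygi32 zgi8) (kgi xgi12 ygi34 zgi58) (kgi xgi7 ygi16 zgi37) (kgi xgi13 ygi31 zgi50) (kgi xgi13 ygi32 zgi15) (kgi xgi7 ygi5 zgi53) (kgi xgi3 ygi44 zgi41) (kgi xgi13 ygi30 zgi22) (kgi xgi13 ygi32 zgi22) (kgi xgi3 ygi49 zgi47) (kgi xgi13 ygi32 zgi26) (kgi xgi13 ygi31 zgi60) (kgi xgi13 ygi32 zgi21) (kgi xgi3 ygi49 zgi48)) (@D3.rec (fun _ => Pt) (kgi xgi13 ygi32 zgi36) (kgi xgi3 ygi33 zgi59) (kgi xgi13 ygi28 zgi33) (kgi xgi13 ygi32 zgi44) (kgi xgi13 ygi32 zgi48) (kgi xgi13 ygi28 zgi30)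 (kgi xgi13 ygi32 zgi52) (kgi xgi3 ygi45 zgi0) (kgi xgi3 ygi35 zgi17) (kgi xgi7 ygi51 zgi45) (kgi xgi13 ygi9 zgi35) (kgi xgi3 ygi34 zgi2) (kgi xgi13 ygi7 zgi50) (kgi xgi6 ygi57 zgi45) (kgi xgi13 ygi32 zgi59) (kgi xgi13 ygi29 zgi11) (kgi xgi3 ygi34 zgi5) (kgi xgi7 ygi13 zgi29) (kgi xgi13 ygi33 zgi7) (kgi xgi13 ygi33 zgi10) (kgi xgi3 ygi34 zgi6) (kgi xgi3 ygi34 zgi14) (kgi xgi13 ygi31 zgi48) (kgi xgi13 ygi33 zgi21) (kgi xgi3 ygi56 zgi51) (kgi xgi13 ygi16 zgi5) (kgi xgi7 ygi24 zgi47) (kgi xgi3 ygi34 zgi9) (kgi xgi13 ygi33 zgi28) (kgi xgi3 ygi49 zgi36) (kgi xgi13 ygi33 zgi32) (kgi xgi7 ygi15 zgi32) (kgi xgi3 ygi53 zgi28) (kgi xgi7 ygi12 zgi29) (kgi xgi7 ygi15 zgi33) (kgi xgi3 ygi37 zgi42) (kgi xgi13 ygi28 zgi37) (kgi xgi13 ygi28 zgi36)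 (kgi xgi13 ygi33 zgi44) (kgi xgi13 ygi11 zgi19) (kgi xgi13 ygi31 zgi46) (kgi xgi13 ygi33 zgi53) (kgi xgi7 ygi5 zgi44) (kgi xgi7 ygi10 zgi6) (kgi xgi13 ygi33 zgi58) (kgi xgi3 ygi49 zgi38) (kgi xgi3 ygi47 zgi8) (kgi xgi7 ygi11 zgi57) (kgi xgi7 ygi38 zgi8) (kgi xgi3 ygi49 zgi40) (kgi xgi3 ygi49 zgi50) (kgi xgi13 ygi34 zgi2) (kgi xgi3 ygi36 zgi23) (kgi xgi3 ygi50 zgi43) (kgi xgi3 ygi34 zgi22) (kgi xgi3 ygi49 zgi45) (kgi xgi13 ygi32 zgi47) (kgi xgi13 ygi34 zgi13) (kgi xgi9 ygi18 zgi60) (kgi xgi13 ygi34 zgi16) (kgi xgi6 ygi59 zgi22) (kgi xgi13 ygi34 zgi21)) (@D3.rec (fun _ => Pt) (kgi xgi3 ygi34 zgi28) (kgi xgi3 ygi46 zgi37) (kgi xgi3 ygi46 zgi42) (kgi xgi13 ygi34 zgi29) (kgi xgi13 ygi34 zgi33) (kgi xgi13 ygi34 zgi36) (kgi xgi7 ygi3 zgi36)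 (kgi xgi3 ygi34 zgi31) (kgi xgi3 ygi55 zgi61) (kgi xgi3 ygi34 zgi32) (kgi xgi7 ygi12 zgi52) (kgi xgi7 ygi12 zgi50) (kgi xgi7 ygi34 zgi16) (kgi xgi13 ygi12 zgi54) (kgi xgi13 ygi34 zgi48) (kgi xgi3 ygi34 zgi34) (kgi xgi7 ygi0 zgi20) (kgi xgi7 ygi7 zgi25) (kgi xgi3 ygi52 zgi28) (kgi xgi3 ygi34 zgi37) (kgi xgi13 ygi28 zgi55) (kgi xgi13 ygi28 zgi53) (kgi xgi13 ygi34 zgi61) (kgi xgi13 ygi35 zgi2) (kgi xgi13 ygi35 zgi5) (kgi xgi13 ygi35 zgi8) (kgi xgi7 ygi24 zgi54) (kgi xgi3 ygi34 zgi40) (kgi xgi13 ygi28 zgi50) (kgi xgi13 ygi28 zgi48) (kgi xgi13 ygi35 zgi22) (kgi xgi13 ygi35 zgi26) (kgi xgi13 ygi35 zgi30) (kgi xgi6 ygi58 zgi46) (kgi xgi7 ygi7 zgi24) (kgi xgi13 ygi35 zgi34) (kgi xgi3 ygi41 zgi54) (kgi xgi3 ygi37 zgi53) (kgi xgi3 ygi34 zgi47)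 (kgi xgi13 ygi34 zgi53) (kgi xgi7 ygi18 zgi35) (kgi xgi7 ygi16 zgi9) (kgi xgi13 ygi6 zgi16) (kgi xgi13 ygi6 zgi7) (kgi xgi13 ygi35 zgi54) (kgi xgi3 ygi44 zgi60) (kgi xgi13 ygi35 zgi17) (kgi xgi13 ygi35 zgi61) (kgi xgi13 ygi36 zgi2) (kgi xgi13 ygi36 zgi6) (kgi xgi3 ygi34 zgi50) (kgi xgi13 ygi29 zgi10) (kgi xgi13 ygi29 zgi8) (kgi xgi13 ygi36 zgi19) (kgi xgi3 ygi34 zgi53) (kgi xgi7 ygi11 zgi5) (kgi xgi13 ygi36 zgi27) (kgi xgi13 ygi36 zgi30) (kgi xgi7 ygi27 zgi60) (kgi xgi7 ygi50 zgi59) (kgi xgi3 ygi34 zgi56) (kgi xgi7 ygi11 zgi7)) (@D3.rec (fun _ => Pt) (kgi xgi7 ygi15 zgi7) (kgi xgi7 ygi3 zgi5) (kgi xgi3 ygi49 zgi34) (kgi xgi6 ygi55 zgi0) (kgi xgi13 ygi28 zgi44) (kgi xgi7 ygi10 zgi54) (kgi xgi3 ygi51 zgi7) (kgi xgi7 ygi10 zgi60) (kgi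 xgi12 ygi33 zgi60) (kgi xgi6 ygi56 zgi10) (kgi xgi3 ygi35 zgi1) (kgi xgi6 ygi55 zgi5) (kgi xgi13 ygi36 zgi59) (kgi xgi9 ygi26 zgi11) (kgi xgi3 ygi35 zgi2) (kgi xgi7 ygi20 zgi47) (kgi xgi13 ygi20 zgi11) (kgi xgi7 ygi22 zgi32) (kgi xgi6 ygi55 zgi6) (kgi xgi3 ygi55 zgi16) (kgi xgi7 ygi20 zgi48) (kgi xgi6 ygi22 zgi51) (kgi xgi13 ygi37 zgi14) (kgi xgi7 ygi29 zgi50) (kgi xgi7 ygi21 zgi28) (kgi xgi3 ygi44 zgi22) (kgi xgi13 ygi37 zgi20) (kgi xgi7 ygi23 zgi2) (kgi xgi12 ygi19 zgi17) (kgi xgi13 ygi37 zgi27) (kgi xgi3 ygi38 zgi58) (kgi xgi3 ygi35 zgi16) (kgi xgi3 ygi35 zgi18) (kgi xgi13 ygi37 zgi30) (kgi xgi13 ygi3 zgi11) (kgi xgi3 ygi41 zgi51) (kgi xgi7 ygi12 zgi48) (kgi xgi7 ygi24 zgi31) (kgi xgi13 ygi37 zgi41) (kgi xgi7 ygi19 zgi39) (kgi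 xgi6 ygi22 zgi33) (kgi xgi3 ygi35 zgi21) (kgi xgi6 ygi24 zgi14) (kgi xgi6 ygi24 zgi12) (kgi xgi13 ygi37 zgi55) (kgi xgi4 ygi48 zgi35) (kgi xgi13 ygi37 zgi56) (kgi xgi7 ygi16 zgi48) (kgi xgi3 ygi39 zgi41) (kgi xgi13 ygi37 zgi59) (kgi xgi6 ygi52 zgi25) (kgi xgi6 ygi15 zgi3) (kgi xgi6 ygi41 zgi38) (kgi xgi13 ygi38 zgi5) (kgi xgi6 ygi53 zgi53) (kgi xgi7 ygi3 zgi58) (kgi xgi13 ygi13 zgi8) (kgi xgi6 ygi53 zgi52) (kgi xgi7 ygi3 zgi42) (kgi xgi7 ygi12 zgi25) (kgi xgi7 ygi18 zgi31) (kgi xgi7 ygi4 zgi4)) (@D3.rec (fun _ => Pt) (kgi xgi7 ygi16 zgi45) (kgi xgi13 ygi38 zgi9) (kgi xgi13 ygi38 zgi13) (kgi xgi3 ygi35 zgi44) (kgi xgi13 ygi38 zgi14) (kgi xgi13 ygi38 zgi23) (kgi xgi13 ygi38 zgi12) (kgi xgi7 ygi14 zgi33) (kgi xgi4 ygi24 zgi3) (kgi xgi13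 ygi28 zgi10) (kgi xgi3 ygi35 zgi47) (kgi xgi5 ygi55 zgi61) (kgi xgi7 ygi33 zgi44) (kgi xgi13 ygi14 zgi16) (kgi xgi7 ygi3 zgi61) (kgi xgi13 ygi38 zgi35) (kgi xgi7 ygi15 zgi25) (kgi xgi3 ygi35 zgi50) (kgi xgi7 ygi6 zgi16) (kgi xgi12 ygi38 zgi30) (kgi xgi7 ygi6 zgi13) (kgi xgi7 ygi18 zgi49) (kgi xgi13 ygi4 zgi17) (kgi xgi13 ygi38 zgi48) (kgi xgi7 ygi11 zgi50) (kgi xgi7 ygi15 zgi35) (kgi xgi7 ygi15 zgi17) (kgi xgi3 ygi48 zgi0) (kgi xgi7 ygi18 zgi43) (kgi xgi7 ygi0 zgi47) (kgi xgi3 ygi38 zgi60) (kgi xgi13 ygi38 zgi36) (kgi xgi3 ygi36 zgi6) (kgi xgi10 ygi22 zgi11) (kgi xgi7 ygi6 zgi10) (kgi xgi4 ygi24 zgi19) (kgi xgi7 ygi6 zgi5) (kgi xgi13 ygi33 zgi57) (kgi xgi7 ygi15 zgi28) (kgi xgi13 ygi38 zgi60) (kgi xgi13 ygi23 zgi17) (kgi xgi3 ygi38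 zgi56) (kgi xgi3 ygi36 zgi10) (kgi xgi7 ygi5 zgi51) (kgi xgi7 ygi47 zgi0) (kgi xgi7 ygi5 zgi48) (kgi xgi13 ygi38 zgi43) (kgi xgi13 ygi24 zgi30) (kgi xgi13 ygi13 zgi12) (kgi xgi13 ygi39 zgi14) (kgi xgi3 ygi36 zgi15) (kgi xgi7 ygi10 zgi11) (kgi xgi7 ygi10 zgi9) (kgi xgi13 ygi34 zgi26) (kgi xgi13 ygi39 zgi23) (kgi xgi7 ygi13 zgi30) (kgi xgi3 ygi38 zgi32) (kgi xgi6 ygi58 zgi28) (kgi xgi3 ygi36 zgi18) (kgi xgi7 ygi6 zgi29) (kgi xgi13 ygi39 zgi34) (kgi xgi7 ygi6 zgi26)) (@D3.rec (fun _ => Pt) (kgi xgi7 ygi8 zgi2) (kgi xgi13 ygi39 zgi38) (kgi xgi13 ygi39 zgi41) (kgi xgi7 ygi51 zgi12) (kgi xgi3 ygi36 zgi21) (kgi xgi3 ygi37 zgi16) (kgi xgi13 ygi39 zgi53) (kgi xgi3 ygi37 zgi13) (kgi xgi3 ygi36 zgi24) (kgi xgi6 ygi55 zgi58) (kgi xgi13 ygi33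 zgi39) (kgi xgi13 ygi40 zgi2) (kgi xgi13 ygi26 zgi58) (kgi xgi7 ygi3 zgi53) (kgi xgi3 ygi37 zgi41) (kgi xgi13 ygi40 zgi10) (kgi xgi3 ygi50 zgi21) (kgi xgi3 ygi37 zgi37) (kgi xgi3 ygi36 zgi29) (kgi xgi7 ygi18 zgi34) (kgi xgi13 ygi29 zgi2) (kgi xgi13 ygi40 zgi22) (kgi xgi3 ygi36 zgi31) (kgi xgi3 ygi49 zgi6) (kgi xgi3 ygi49 zgi4) (kgi xgi13 ygi40 zgi28) (kgi xgi7 ygi19 zgi49) (kgi xgi7 ygi9 zgi37) (kgi xgi13 ygi40 zgi32) (kgi xgi7 ygi6 zgi46) (kgi xgi7 ygi12 zgi55) (kgi xgi13 ygi40 zgi3) (kgi xgi13 ygi13 zgi56) (kgi xgi3 ygi36 zgi38) (kgi xgi13 ygi13 zgi58) (kgi xgi13 ygi40 zgi25) (kgi xgi13 ygi40 zgi46) (kgi xgi13 ygi40 zgi47) (kgi xgi7 ygi19 zgi56) (kgi xgi3 ygi39 zgi1) (kgi xgi3 ygi36 zgi41) (kgi xgi6 ygi58 zgi27) (kgi xgi13 ygi40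 zgi56) (kgi xgi7 ygi9 zgi35) (kgi xgi3 ygi37 zgi25) (kgi xgi13 ygi40 zgi48) (kgi xgi3 ygi36 zgi47) (kgi xgi13 ygi40 zgi53) (kgi xgi6 ygi56 zgi48) (kgi xgi7 ygi7 zgi11) (kgi xgi13 ygi41 zgi0) (kgi xgi7 ygi7 zgi34) (kgi xgi13 ygi41 zgi4) (kgi xgi7 ygi9 zgi43) (kgi xgi13 ygi41 zgi7) (kgi xgi13 ygi41 zgi3) (kgi xgi3 ygi36 zgi51) (kgi xgi7 ygi7 zgi20) (kgi xgi13 ygi41 zgi16) (kgi xgi7 ygi7 zgi17) (kgi xgi13 ygi13 zgi60) (kgi xgi7 ygi53 zgi48)) (@D3.rec (fun _ => Pt) (kgi xgi6 ygi55 zgi54) (kgi xgi7 ygi6 zgi36) (kgi xgi7 ygi6 zgi20) (kgi xgi3 ygi50 zgi22) (kgi xgi13 ygi39 zgi42) (kgi xgi5 ygi14 zgi0) (kgi xgi13 ygi14 zgi2) (kgi xgi4 ygi32 zgi34) (kgi xgi4 ygi32 zgi39) (kgi xgi3 ygi36 zgi58) (kgi xgi13 ygi14 zgi4) (kgi xgi13 ygi41 zgi39)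 (kgi xgi3 ygi36 zgi59) (kgi xgi7 ygi8 zgi10) (kgi xgi12 ygi6 zgi11) (kgi xgi7 ygi8 zgi7) (kgi xgi3 ygi36 zgi60) (kgi xgi6 ygi58 zgi32) (kgi xgi13 ygi30 zgi14) (kgi xgi13 ygi41 zgi51) (kgi xgi3 ygi37 zgi0) (kgi xgi13 ygi41 zgi52) (kgi xgi13 ygi41 zgi31) (kgi xgi3 ygi37 zgi1) (kgi xgi7 ygi8 zgi1) (kgi xgi13 ygi29 zgi39) (kgi xgi7 ygi7 zgi60) (kgi xgi5 ygi47 zgi22) (kgi xgi8 ygi48 zgi1) (kgi xgi12 ygi7 zgi32) (kgi xgi7 ygi12 zgi7) (kgi xgi13 ygi42 zgi5) (kgi xgi10 ygi1 zgi22) (kgi xgi13 ygi26 zgi46) (kgi xgi13 ygi42 zgi4) (kgi xgi3 ygi37 zgi6) (kgi xgi13 ygi31 zgi15) (kgi xgi13 ygi42 zgi15) (kgi xgi8 ygi51 zgi40) (kgi xgi3 ygi37 zgi8) (kgi xgi7 ygi7 zgi48) (kgi xgi11 ygi33 zgi9) (kgi xgi3 ygi37 zgi9) (kgi xgi3 ygi37 zgi11) (kgi xgi13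 ygi42 zgi29) (kgi xgi13 ygi42 zgi33) (kgi xgi12 ygi8 zgi23) (kgi xgi12 ygi8 zgi25) (kgi xgi13 ygi33 zgi2) (kgi xgi13 ygi42 zgi40) (kgi xgi12 ygi6 zgi23) (kgi xgi13 ygi42 zgi28) (kgi xgi13 ygi42 zgi46) (kgi xgi7 ygi12 zgi22) (kgi xgi13 ygi41 zgi29) (kgi xgi7 ygi39 zgi21) (kgi xgi3 ygi54 zgi46) (kgi xgi13 ygi42 zgi57) (kgi xgi13 ygi42 zgi35) (kgi xgi13 ygi42 zgi53) (kgi xgi7 ygi35 zgi6) (kgi xgi13 ygi43 zgi6)) (@D3.rec (fun _ => Pt) (kgi xgi3 ygi37 zgi15) (kgi xgi13 ygi39 zgi56) (kgi xgi13 ygi43 zgi16) (kgi xgi3 ygi48 zgi54) (kgi xgi13 ygi39 zgi52) (kgi xgi13 ygi43 zgi24) (kgi xgi7 ygi49 zgi53) (kgi xgi13 ygi36 zgi48) (kgi xgi13 ygi43 zgi28) (kgi xgi13 ygi40 zgi31) (kgi xgi3 ygi37 zgi19) (kgi xgi6 ygi15 zgi8) (kgi xgi13 ygi43 zgi36)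 (kgi xgi3 ygi37 zgi20) (kgi xgi3 ygi37 zgi26) (kgi xgi13 ygi42 zgi26) (kgi xgi13 ygi43 zgi48) (kgi xgi6 ygi52 zgi6) (kgi xgi13 ygi39 zgi60) (kgi xgi13 ygi39 zgi59) (kgi xgi13 ygi43 zgi54) (kgi xgi13 ygi41 zgi2) (kgi xgi13 ygi42 zgi24) (kgi xgi13 ygi44 zgi0) (kgi xgi3 ygi37 zgi27) (kgi xgi7 ygi12 zgi13) (kgi xgi6 ygi55 zgi33) (kgi xgi3 ygi48 zgi52) (kgi xgi13 ygi17 zgi7) (kgi xgi7 ygi5 zgi28) (kgi xgi3 ygi37 zgi31) (kgi xgi10 ygi47 zgi20) (kgi xgi7 ygi35 zgi0) (kgi xgi7 ygi5 zgi47) (kgi xgi7 ygi3 zgi45) (kgi xgi7 ygi0 zgi48) (kgi xgi11 ygi50 zgi37) (kgi xgi7 ygi9 zgi31) (kgi xgi7 ygi1 zgi5) (kgi xgi7 ygi9 zgi34) (kgi xgi13 ygi44 zgi14) (kgi xgi3 ygi54 zgi45) (kgi xgi13 ygi44 zgi19) (kgi xgi7 ygi35 zgi5) (kgi xgi7 ygi1 zgi12) (kgi xgi3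 ygi37 zgi39) (kgi xgi7 ygi50 zgi52) (kgi xgi6 ygi56 zgi28) (kgi xgi3 ygi50 zgi19) (kgi xgi13 ygi43 zgi20) (kgi xgi13 ygi44 zgi34) (kgi xgi3 ygi47 zgi20) (kgi xgi12 ygi33 zgi12) (kgi xgi3 ygi37 zgi45) (kgi xgi6 ygi33 zgi33) (kgi xgi7 ygi0 zgi24) (kgi xgi13 ygi44 zgi41) (kgi xgi13 ygi44 zgi44) (kgi xgi3 ygi37 zgi47) (kgi xgi7 ygi1 zgi19) (kgi xgi7 ygi1 zgi24) (kgi xgi13 ygi44 zgi53)) (@D3.rec (fun _ => Pt) (kgi xgi13 ygi44 zgi56) (kgi xgi13 ygi44 zgi60) (kgi xgi13 ygi45 zgi1) (kgi xgi7 ygi1 zgi45) (kgi xgi3 ygi37 zgi50) (kgi xgi13 ygi34 zgi22) (kgi xgi13 ygi34 zgi20) (kgi xgi13 ygi45 zgi8) (kgi xgi13 ygi45 zgi10) (kgi xgi7 ygi10 zgi45) (kgi xgi13 ygi37 zgi38) (kgi xgi13 ygi45 zgi17) (kgi xgi13 ygi45 zgi20) (kgi xgi13 ygi45 zgi24) (kgi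 xgi3 ygi37 zgi55) (kgi xgi13 ygi40 zgi23) (kgi xgi13 ygi40 zgi21) (kgi xgi13 ygi45 zgi36) (kgi xgi3 ygi47 zgi52) (kgi xgi13 ygi8 zgi5) (kgi xgi6 ygi55 zgi38) (kgi xgi3 ygi47 zgi32) (kgi xgi7 ygi16 zgi29) (kgi xgi13 ygi45 zgi48) (kgi xgi6 ygi56 zgi25) (kgi xgi3 ygi37 zgi61) (kgi xgi6 ygi55 zgi43) (kgi xgi13 ygi45 zgi58) (kgi xgi13 ygi46 zgi0) (kgi xgi3 ygi38 zgi0) (kgi xgi7 ygi16 zgi22) (kgi xgi13 ygi46 zgi6) (kgi xgi13 ygi46 zgi9) (kgi xgi7 ygi3 zgi12) (kgi xgi7 ygi3 zgi15) (kgi xgi7 ygi4 zgi55) (kgi xgi3 ygi54 zgi23) (kgi xgi7 ygi10 zgi7) (kgi xgi3 ygi38 zgi7) (kgi xgi3 ygi38 zgi9) (kgi xgi7 ygi6 zgi1) (kgi xgi7 ygi5 zgi61) (kgi xgi13 ygi17 zgi37) (kgi xgi13 ygi46 zgi22) (kgi xgi7 ygi19 zgi4) (kgi xgi7 ygi12 zgi0) (kgi xgi7 ygi6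 zgi17) (kgi xgi4 ygi25 zgi45) (kgi xgi3 ygi38 zgi14) (kgi xgi7 ygi11 zgi47) (kgi xgi13 ygi46 zgi39) (kgi xgi7 ygi18 zgi50) (kgi xgi13 ygi42 zgi8) (kgi xgi3 ygi38 zgi34) (kgi xgi7 ygi19 zgi6) (kgi xgi7 ygi49 zgi13) (kgi xgi13 ygi46 zgi46) (kgi xgi6 ygi58 zgi39) (kgi xgi6 ygi52 zgi21) (kgi xgi3 ygi38 zgi18) (kgi xgi13 ygi33 zgi24) (kgi xgi3 ygi38 zgi44)) (@D3.rec (fun _ => Pt) (kgi xgi7 ygi5 zgi33) (kgi xgi13 ygi46 zgi58) (kgi xgi7 ygi37 zgi40) (kgi xgi13 ygi38 zgi11) (kgi xgi13 ygi40 zgi50) (kgi xgi7 ygi6 zgi12) (kgi xgi7 ygi33 zgi42) (kgi xgi7 ygi11 zgi49) (kgi xgi7 ygi18 zgi47) (kgi xgi7 ygi1 zgi31) (kgi xgi13 ygi34 zgi24) (kgi xgi3 ygi38 zgi26) (kgi xgi12 ygi7 zgi48) (kgi xgi12 ygi7 zgi46) (kgi xgi3 ygi38 zgi27) (kgi xgi9 ygi59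 zgi2) (kgi xgi6 ygi58 zgi24) (kgi xgi3 ygi38 zgi29) (kgi xgi12 ygi8 zgi18) (kgi xgi12 ygi7 zgi42) (kgi xgi12 ygi8 zgi32) (kgi xgi7 ygi19 zgi3) (kgi xgi13 ygi27 zgi1) (kgi xgi7 ygi19 zgi0) (kgi xgi8 ygi2 zgi13) (kgi xgi3 ygi39 zgi34) (kgi xgi13 ygi31 zgi21) (kgi xgi3 ygi39 zgi31) (kgi xgi3 ygi46 zgi24) (kgi xgi13 ygi47 zgi34) (kgi xgi4 ygi25 zgi26) (kgi xgi13 ygi47 zgi33) (kgi xgi3 ygi38 zgi36) (kgi xgi13 ygi46 zgi43) (kgi xgi13 ygi47 zgi44) (kgi xgi10 ygi1 zgi25) (kgi xgi3 ygi38 zgi38) (kgi xgi7 ygi18 zgi54) (kgi xgi13 ygi47 zgi54) (kgi xgi13 ygi47 zgi58) (kgi xgi3 ygi38 zgi39) (kgi xgi13 ygi48 zgi1) (kgi xgi13 ygi48 zgi5) (kgi xgi12 ygi8 zgi29) (kgi xgi12 ygi8 zgi30) (kgi xgi13 ygi48 zgi11) (kgi xgi13 ygi48 zgi14) (kgi xgi12 ygi8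 zgi10) (kgi xgi13 ygi48 zgi0) (kgi xgi13 ygi48 zgi23) (kgi xgi3 ygi38 zgi43) (kgi xgi7 ygi7 zgi22) (kgi xgi7 ygi40 zgi31) (kgi xgi11 ygi34 zgi36) (kgi xgi13 ygi18 zgi9) (kgi xgi13 ygi48 zgi34) (kgi xgi13 ygi48 zgi7) (kgi xgi13 ygi48 zgi30) (kgi xgi13 ygi48 zgi43) (kgi xgi3 ygi38 zgi46) (kgi xgi7 ygi18 zgi0) (kgi xgi13 ygi48 zgi50)) (@D3.rec (fun _ => Pt) (kgi xgi7 ygi17 zgi59) (kgi xgi13 ygi46 zgi54) (kgi xgi13 ygi48 zgi57) (kgi xgi3 ygi54 zgi37) (kgi xgi7 ygi28 zgi53) (kgi xgi13 ygi13 zgi48) (kgi xgi13 ygi48 zgi61) (kgi xgi7 ygi18 zgi20) (kgi xgi3 ygi38 zgi54) (kgi xgi7 ygi5 zgi36) (kgi xgi13 ygi49 zgi6) (kgi xgi13 ygi49 zgi10) (kgi xgi3 ygi38 zgi55) (kgi xgi3 ygi38 zgi61) (kgi xgi7 ygi49 zgi14) (kgi xgi13 ygi49 zgi20) (kgi xgi7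 ygi3 zgi57) (kgi xgi13 ygi39 zgi58) (kgi xgi3 ygi38 zgi57) (kgi xgi13 ygi40 zgi42) (kgi xgi7 ygi11 zgi60) (kgi xgi3 ygi38 zgi59) (kgi xgi13 ygi16 zgi4) (kgi xgi13 ygi16 zgi15) (kgi xgi13 ygi38 zgi57) (kgi xgi13 ygi47 zgi60) (kgi xgi13 ygi49 zgi38) (kgi xgi3 ygi39 zgi0) (kgi xgi7 ygi7 zgi13) (kgi xgi7 ygi40 zgi36) (kgi xgi6 ygi59 zgi12) (kgi xgi7 ygi18 zgi7) (kgi xgi3 ygi46 zgi49) (kgi xgi6 ygi53 zgi33) (kgi xgi7 ygi13 zgi18) (kgi xgi7 ygi10 zgi37) (kgi xgi6 ygi51 zgi60) (kgi xgi13 ygi19 zgi17) (kgi xgi3 ygi39 zgi8) (kgi xgi13 ygi13 zgi24) (kgi xgi13 ygi49 zgi60) (kgi xgi3 ygi39 zgi9) (kgi xgi7 ygi42 zgi58) (kgi xgi6 ygi53 zgi3) (kgi xgi6 ygi53 zgi32) (kgi xgi13 ygi25 zgi17) (kgi xgi3 ygi53 zgi7) (kgi xgi6 ygi15 zgi4) (kgi xgi7 ygi5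 zgi37) (kgi xgi7 ygi12 zgi46) (kgi xgi3 ygi39 zgi18) (kgi xgi7 ygi16 zgi51) (kgi xgi13 ygi50 zgi17) (kgi xgi13 ygi16 zgi27) (kgi xgi7 ygi16 zgi56) (kgi xgi7 ygi16 zgi44) (kgi xgi13 ygi37 zgi60) (kgi xgi13 ygi50 zgi24) (kgi xgi3 ygi39 zgi23) (kgi xgi13 ygi50 zgi25) (kgi xgi11 ygi49 zgi46) (kgi xgi13 ygi50 zgi23)) (@D3.rec (fun _ => Pt) (kgi xgi3 ygi39 zgi24) (kgi xgi7 ygi17 zgi23) (kgi xgi13 ygi39 zgi5) (kgi xgi3 ygi53 zgi34) (kgi xgi11 ygi23 zgi1) (kgi xgi3 ygi39 zgi38) (kgi xgi7 ygi17 zgi44) (kgi xgi3 ygi39 zgi28) (kgi xgi6 ygi14 zgi58) (kgi xgi6 ygi14 zgi55) (kgi xgi7 ygi17 zgi16) (kgi xgi6 ygi40 zgi11) (kgi xgi7 ygi17 zgi14) (kgi xgi7 ygi0 zgi45) (kgi xgi13 ygi50 zgi46) (kgi xgi7 ygi56 zgi57) (kgi xgi12 ygi6 zgi15) (kgi xgi4 ygi25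 zgi14) (kgi xgi3 ygi39 zgi33) (kgi xgi13 ygi47 zgi31) (kgi xgi13 ygi50 zgi56) (kgi xgi8 ygi3 zgi27) (kgi xgi3 ygi39 zgi35) (kgi xgi7 ygi17 zgi7) (kgi xgi13 ygi51 zgi3) (kgi xgi13 ygi51 zgi7) (kgi xgi13 ygi51 zgi9) (kgi xgi13 ygi38 zgi1) (kgi xgi13 ygi38 zgi0) (kgi xgi13 ygi51 zgi15) (kgi xgi13 ygi51 zgi19) (kgi xgi13 ygi51 zgi22) (kgi xgi7 ygi12 zgi24) (kgi xgi13 ygi50 zgi22) (kgi xgi7 ygi33 zgi52) (kgi xgi13 ygi51 zgi30) (kgi xgi13 ygi51 zgi11) (kgi xgi12 ygi48 zgi12) (kgi xgi13 ygi51 zgi39) (kgi xgi3 ygi39 zgi43) (kgi xgi7 ygi11 zgi39) (kgi xgi13 ygi51 zgi46) (kgi xgi13 ygi4 zgi4) (kgi xgi3 ygi39 zgi45) (kgi xgi7 ygi11 zgi61) (kgi xgi13 ygi15 zgi39) (kgi xgi13 ygi51 zgi54) (kgi xgi13 ygi51 zgi57) (kgi xgi3 ygi49 zgi54) (kgi xgi13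 ygi28 zgi35) (kgi xgi6 ygi59 zgi36) (kgi xgi6 ygi59 zgi34) (kgi xgi13 ygi52 zgi3) (kgi xgi13 ygi27 zgi40) (kgi xgi13 ygi52 zgi9) (kgi xgi3 ygi39 zgi51) (kgi xgi7 ygi13 zgi36) (kgi xgi3 ygi39 zgi52) (kgi xgi7 ygi20 zgi14) (kgi xgi13 ygi52 zgi17) (kgi xgi3 ygi52 zgi37) (kgi xgi10 ygi4 zgi1)) (@D3.rec (fun _ => Pt) (kgi xgi12 ygi23 zgi39) (kgi xgi5 ygi6 zgi52) (kgi xgi6 ygi41 zgi60) (kgi xgi3 ygi39 zgi58) (kgi xgi4 ygi43 zgi31) (kgi xgi9 ygi32 zgi48) (kgi xgi6 ygi48 zgi5) (kgi xgi6 ygi48 zgi2) (kgi xgi6 ygi27 zgi6) (kgi xgi3 ygi43 zgi9) (kgi xgi6 ygi27 zgi30) (kgi xgi6 ygi9 zgi18) (kgi xgi8 ygi35 zgi25) (kgi xgi13 ygi52 zgi36) (kgi xgi7 ygi55 zgi15) (kgi xgi9 ygi45 zgi28) (kgi xgi6 ygi55 zgi50) (kgi xgi3 ygi53 zgi60) (kgi xgi7 ygi14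 zgi48) (kgi xgi7 ygi49 zgi21) (kgi xgi6 ygi15 zgi6) (kgi xgi13 ygi31 zgi61) (kgi xgi7 ygi25 zgi12) (kgi xgi13 ygi40 zgi40) (kgi xgi13 ygi52 zgi50) (kgi xgi3 ygi40 zgi9) (kgi xgi13 ygi52 zgi48) (kgi xgi13 ygi52 zgi58) (kgi xgi13 ygi40 zgi36) (kgi xgi7 ygi25 zgi50) (kgi xgi13 ygi53 zgi2) (kgi xgi3 ygi40 zgi11) (kgi xgi4 ygi57 zgi31) (kgi xgi13 ygi53 zgi11) (kgi xgi7 ygi25 zgi58) (kgi xgi13 ygi8 zgi48) (kgi xgi13 ygi24 zgi24) (kgi xgi3 ygi56 zgi0) (kgi xgi7 ygi54 zgi42) (kgi xgi7 ygi24 zgi40) (kgi xgi3 ygi40 zgi14) (kgi xgi7 ygi26 zgi6) (kgi xgi12 ygi18 zgi50) (kgi xgi7 ygi26 zgi4) (kgi xgi7 ygi51 zgi14) (kgi xgi7 ygi54 zgi56) (kgi xgi3 ygi56 zgi1) (kgi xgi7 ygi11 zgi14) (kgi xgi3 ygi40 zgi19) (kgi xgi13 ygi8 zgi11) (kgi xgi6 ygi53 zgi11)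 (kgi xgi13 ygi53 zgi40) (kgi xgi7 ygi48 zgi7) (kgi xgi3 ygi40 zgi22) (kgi xgi10 ygi41 zgi7) (kgi xgi13 ygi4 zgi19) (kgi xgi10 ygi41 zgi5) (kgi xgi3 ygi40 zgi23) (kgi xgi6 ygi52 zgi48) (kgi xgi7 ygi19 zgi58) (kgi xgi13 ygi53 zgi51) (kgi xgi3 ygi40 zgi24)) (@D3.rec (fun _ => Pt) (kgi xgi3 ygi49 zgi17) (kgi xgi6 ygi54 zgi40) (kgi xgi6 ygi38 zgi14) (kgi xgi13 ygi53 zgi56) (kgi xgi13 ygi24 zgi22) (kgi xgi6 ygi19 zgi60) (kgi xgi3 ygi43 zgi48) (kgi xgi3 ygi54 zgi39) (kgi xgi7 ygi25 zgi52) (kgi xgi7 ygi54 zgi41) (kgi xgi3 ygi40 zgi31) (kgi xgi13 ygi53 zgi8) (kgi xgi3 ygi40 zgi32) (kgi xgi13 ygi53 zgi25) (kgi xgi3 ygi40 zgi33) (kgi xgi7 ygi25 zgi26) (kgi xgi8 ygi21 zgi15) (kgi xgi7 ygi25 zgi23) (kgi xgi13 ygi13 zgi4) (kgi xgi3 ygi56 zgi28)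 (kgi xgi3 ygi40 zgi35) (kgi xgi3 ygi56 zgi8) (kgi xgi13 ygi25 zgi3) (kgi xgi7 ygi21 zgi49) (kgi xgi3 ygi54 zgi48) (kgi xgi7 ygi4 zgi53) (kgi xgi3 ygi40 zgi37) (kgi xgi13 ygi54 zgi33) (kgi xgi3 ygi40 zgi38) (kgi xgi7 ygi11 zgi24) (kgi xgi13 ygi54 zgi42) (kgi xgi7 ygi26 zgi35) (kgi xgi3 ygi40 zgi39) (kgi xgi3 ygi41 zgi34) (kgi xgi13 ygi54 zgi52) (kgi xgi3 ygi41 zgi31) (kgi xgi13 ygi54 zgi55) (kgi xgi3 ygi56 zgi43) (kgi xgi3 ygi40 zgi41) (kgi xgi3 ygi41 zgi44) (kgi xgi13 ygi55 zgi5) (kgi xgi3 ygi41 zgi41) (kgi xgi3 ygi40 zgi43) (kgi xgi7 ygi1 zgi21) (kgi xgi13 ygi37 zgi36) (kgi xgi13 ygi55 zgi10) (kgi xgi7 ygi30 zgi4) (kgi xgi7 ygi24 zgi42) (kgi xgi7 ygi5 zgi18) (kgi xgi7 ygi21 zgi23) (kgi xgi13 ygi48 zgi8) (kgi xgi13 ygi55 zgi21) (kgi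 xgi3 ygi40 zgi50) (kgi xgi12 ygi8 zgi17) (kgi xgi13 ygi55 zgi30) (kgi xgi13 ygi6 zgi19) (kgi xgi13 ygi55 zgi36) (kgi xgi7 ygi28 zgi10) (kgi xgi13 ygi55 zgi40) (kgi xgi3 ygi40 zgi53) (kgi xgi7 ygi28 zgi18) (kgi xgi13 ygi55 zgi52)) (@D3.rec (fun _ => Pt) (kgi xgi7 ygi28 zgi15) (kgi xgi13 ygi6 zgi20) (kgi xgi7 ygi54 zgi31) (kgi xgi7 ygi4 zgi19) (kgi xgi13 ygi55 zgi61) (kgi xgi7 ygi52 zgi48) (kgi xgi3 ygi40 zgi56) (kgi xgi7 ygi4 zgi52) (kgi xgi7 ygi54 zgi26) (kgi xgi3 ygi40 zgi57) (kgi xgi3 ygi46 zgi32) (kgi xgi13 ygi56 zgi14) (kgi xgi7 ygi52 zgi52) (kgi xgi7 ygi3 zgi14) (kgi xgi3 ygi41 zgi56) (kgi xgi7 ygi21 zgi6) (kgi xgi13 ygi56 zgi0) (kgi xgi3 ygi41 zgi2) (kgi xgi6 ygi59 zgi57) (kgi xgi13 ygi55 zgi47) (kgi xgi3 ygi41 zgi3) (kgi xgi13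 ygi56 zgi7) (kgi xgi7 ygi2 zgi27) (kgi xgi3 ygi41 zgi4) (kgi xgi7 ygi27 zgi54) (kgi xgi13 ygi56 zgi36) (kgi xgi7 ygi27 zgi51) (kgi xgi7 ygi28 zgi11) (kgi xgi13 ygi56 zgi42) (kgi xgi7 ygi5 zgi6) (kgi xgi13 ygi56 zgi45) (kgi xgi13 ygi56 zgi41) (kgi xgi3 ygi41 zgi50) (kgi xgi3 ygi41 zgi7) (kgi xgi7 ygi28 zgi2) (kgi xgi7 ygi43 zgi51) (kgi xgi7 ygi27 zgi61) (kgi xgi13 ygi24 zgi39) (kgi xgi13 ygi24 zgi52) (kgi xgi7 ygi1 zgi15) (kgi xgi3 ygi41 zgi25) (kgi xgi7 ygi11 zgi26) (kgi xgi7 ygi26 zgi30) (kgi xgi7 ygi30 zgi43) (kgi xgi7 ygi29 zgi2) (kgi xgi13 ygi54 zgi56) (kgi xgi7 ygi28 zgi35) (kgi xgi13 ygi24 zgi46) (kgi xgi3 ygi41 zgi13) (kgi xgi7 ygi28 zgi33) (kgi xgi13 ygi57 zgi13) (kgi xgi13 ygi57 zgi15) (kgi xgi3 ygi41 zgi14) (kgi xgi13 ygi24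 zgi48) (kgi xgi13 ygi57 zgi26) (kgi xgi3 ygi41 zgi15) (kgi xgi7 ygi28 zgi61) (kgi xgi13 ygi57 zgi34) (kgi xgi7 ygi28 zgi58) (kgi xgi3 ygi41 zgi16) (kgi xgi13 ygi56 zgi9) (kgi xgi12 ygi34 zgi49)) (@D3.rec (fun _ => Pt) (kgi xgi3 ygi41 zgi38) (kgi xgi7 ygi29 zgi9) (kgi xgi7 ygi29 zgi39) (kgi xgi6 ygi24 zgi60) (kgi xgi12 ygi8 zgi12) (kgi xgi3 ygi41 zgi20) (kgi xgi4 ygi24 zgi30) (kgi xgi13 ygi57 zgi51) (kgi xgi3 ygi41 zgi21) (kgi xgi13 ygi57 zgi46) (kgi xgi13 ygi57 zgi59) (kgi xgi12 ygi8 zgi8) (kgi xgi3 ygi41 zgi22) (kgi xgi7 ygi28 zgi46) (kgi xgi13 ygi58 zgi5) (kgi xgi7 ygi28 zgi43) (kgi xgi7 ygi28 zgi50) (kgi xgi13 ygi58 zgi11) (kgi xgi7 ygi28 zgi47) (kgi xgi7 ygi28 zgi28) (kgi xgi13 ygi58 zgi17) (kgi xgi10 ygi38 zgi40) (kgi xgi4 ygi57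 zgi34) (kgi xgi13 ygi58 zgi20) (kgi xgi6 ygi25 zgi1) (kgi xgi13 ygi58 zgi23) (kgi xgi3 ygi41 zgi28) (kgi xgi7 ygi29 zgi8) (kgi xgi13 ygi58 zgi32) (kgi xgi7 ygi29 zgi5) (kgi xgi3 ygi41 zgi29) (kgi xgi5 ygi40 zgi14) (kgi xgi7 ygi29 zgi12) (kgi xgi13 ygi58 zgi40) (kgi xgi3 ygi41 zgi30) (kgi xgi7 ygi27 zgi33) (kgi xgi7 ygi27 zgi30) (kgi xgi13 ygi57 zgi6) (kgi xgi12 ygi30 zgi29) (kgi xgi13 ygi58 zgi53) (kgi xgi13 ygi58 zgi56) (kgi xgi13 ygi58 zgi59) (kgi xgi13 ygi58 zgi50) (kgi xgi13 ygi58 zgi52) (kgi xgi4 ygi57 zgi37) (kgi xgi3 ygi41 zgi33) (kgi xgi13 ygi54 zgi54) (kgi xgi13 ygi59 zgi17) (kgi xgi13 ygi54 zgi51) (kgi xgi3 ygi41 zgi35) (kgi xgi7 ygi28 zgi29) (kgi xgi13 ygi59 zgi25) (kgi xgi13 ygi59 zgi28) (kgi xgi3 ygi41 zgi36) (kgi xgi13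 ygi59 zgi33) (kgi xgi13 ygi59 zgi37) (kgi xgi3 ygi55 zgi21) (kgi xgi11 ygi3 zgi61) (kgi xgi13 ygi48 zgi58) (kgi xgi11 ygi3 zgi59) (kgi xgi13 ygi59 zgi44) (kgi xgi13 ygi59 zgi32)) (@D3.rec (fun _ => Pt) (kgi xgi13 ygi59 zgi49) (kgi xgi7 ygi20 zgi45) (kgi xgi13 ygi57 zgi7) (kgi xgi13 ygi59 zgi57) (kgi xgi13 ygi59 zgi61) (kgi xgi13 ygi59 zgi39) (kgi xgi13 ygi59 zgi56) (kgi xgi14 ygi0 zgi8) (kgi xgi3 ygi41 zgi43) (kgi xgi7 ygi24 zgi11) (kgi xgi14 ygi0 zgi15) (kgi xgi7 ygi24 zgi8) (kgi xgi13 ygi55 zgi4) (kgi xgi14 ygi0 zgi22) (kgi xgi14 ygi0 zgi24) (kgi xgi7 ygi24 zgi28) (kgi xgi3 ygi41 zgi48) (kgi xgi7 ygi27 zgi41) (kgi xgi14 ygi0 zgi31) (kgi xgi14 ygi0 zgi35) (kgi xgi3 ygi41 zgi49) (kgi xgi3 ygi41 zgi57) (kgi xgi13 ygi13 zgi49) (kgi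 xgi14 ygi0 zgi46) (kgi xgi7 ygi11 zgi17) (kgi xgi14 ygi0 zgi49) (kgi xgi3 ygi41 zgi59) (kgi xgi13 ygi15 zgi33) (kgi xgi7 ygi21 zgi47) (kgi xgi13 ygi4 zgi9) (kgi xgi14 ygi0 zgi54) (kgi xgi7 ygi11 zgi34) (kgi xgi6 ygi52 zgi11) (kgi xgi3 ygi41 zgi55) (kgi xgi13 ygi44 zgi50) (kgi xgi13 ygi35 zgi0) (kgi xgi13 ygi56 zgi40) (kgi xgi13 ygi59 zgi30) (kgi xgi14 ygi1 zgi4) (kgi xgi3 ygi41 zgi58) (kgi xgi7 ygi20 zgi36) (kgi xgi13 ygi2 zgi34) (kgi xgi7 ygi24 zgi15) (kgi xgi3 ygi41 zgi60) (kgi xgi7 ygi1 zgi11) (kgi xgi14 ygi1 zgi14) (kgi xgi14 ygi1 zgi18) (kgi xgi3 ygi41 zgi61) (kgi xgi7 ygi9 zgi26) (kgi xgi3 ygi50 zgi46) (kgi xgi3 ygi42 zgi0) (kgi xgi3 ygi42 zgi1) (kgi xgi7 ygi48 zgi21) (kgi xgi14 ygi1 zgi30) (kgi xgi7 ygi30 zgi23) (kgi xgi6 ygi30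 zgi18) (kgi xgi3 ygi42 zgi5) (kgi xgi6 ygi42 zgi4) (kgi xgi6 ygi42 zgi2) (kgi xgi14 ygi1 zgi40) (kgi xgi10 ygi5 zgi23) (kgi xgi3 ygi42 zgi9)) (@D3.rec (fun _ => Pt) (kgi xgi6 ygi55 zgi12) (kgi xgi6 ygi55 zgi10) (kgi xgi14 ygi1 zgi47) (kgi xgi7 ygi30 zgi2) (kgi xgi7 ygi50 zgi61) (kgi xgi13 ygi36 zgi34) (kgi xgi3 ygi54 zgi54) (kgi xgi7 ygi8 zgi46) (kgi xgi7 ygi51 zgi13) (kgi xgi13 ygi42 zgi36) (kgi xgi6 ygi13 zgi55) (kgi xgi7 ygi53 zgi56) (kgi xgi3 ygi42 zgi16) (kgi xgi7 ygi20 zgi22) (kgi xgi14 ygi1 zgi58) (kgi xgi3 ygi42 zgi17) (kgi xgi7 ygi53 zgi58) (kgi xgi14 ygi2 zgi4) (kgi xgi14 ygi1 zgi43) (kgi xgi14 ygi2 zgi9) (kgi xgi14 ygi2 zgi13) (kgi xgi11 ygi11 zgi10) (kgi xgi9 ygi45 zgi55) (kgi xgi3 ygi42 zgi21) (kgi xgi7 ygi21 zgi17) (kgi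 xgi14 ygi2 zgi21) (kgi xgi7 ygi21 zgi14) (kgi xgi14 ygi1 zgi44) (kgi xgi13 ygi25 zgi11) (kgi xgi14 ygi2 zgi28) (kgi xgi7 ygi30 zgi10) (kgi xgi3 ygi42 zgi24) (kgi xgi3 ygi56 zgi30) (kgi xgi13 ygi25 zgi60) (kgi xgi7 ygi6 zgi61) (kgi xgi3 ygi42 zgi27) (kgi xgi7 ygi49 zgi39) (kgi xgi14 ygi2 zgi36) (kgi xgi7 ygi5 zgi19) (kgi xgi3 ygi42 zgi30) (kgi xgi6 ygi42 zgi10) (kgi xgi6 ygi42 zgi8) (kgi xgi6 ygi9 zgi20) (kgi xgi6 ygi9 zgi23) (kgi xgi12 ygi25 zgi52) (kgi xgi14 ygi2 zgi46) (kgi xgi6 ygi9 zgi25) (kgi xgi14 ygi2 zgi49) (kgi xgi6 ygi52 zgi57) (kgi xgi3 ygi55 zgi25) (kgi xgi7 ygi21 zgi10) (kgi xgi14 ygi2 zgi29) (kgi xgi3 ygi42 zgi38) (kgi xgi11 ygi34 zgi11) (kgi xgi14 ygi2 zgi18) (kgi xgi3 ygi42 zgi39) (kgi xgi12 ygi34 zgi28) (kgi xgi3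 ygi51 zgi53) (kgi xgi3 ygi42 zgi40) (kgi xgi7 ygi20 zgi34) (kgi xgi14 ygi3 zgi5) (kgi xgi7 ygi21 zgi9)) (@D3.rec (fun _ => Pt) (kgi xgi12 ygi25 zgi33) (kgi xgi7 ygi51 zgi6) (kgi xgi14 ygi3 zgi10) (kgi xgi13 ygi25 zgi16) (kgi xgi3 ygi42 zgi43) (kgi xgi7 ygi20 zgi43) (kgi xgi7 ygi20 zgi40) (kgi xgi7 ygi54 zgi0) (kgi xgi7 ygi54 zgi10) (kgi xgi3 ygi42 zgi46) (kgi xgi3 ygi55 zgi58) (kgi xgi7 ygi47 zgi48) (kgi xgi5 ygi58 zgi24) (kgi xgi6 ygi48 zgi6) (kgi xgi4 ygi12 zgi44) (kgi xgi14 ygi3 zgi32) (kgi xgi6 ygi51 zgi54) (kgi xgi14 ygi3 zgi35) (kgi xgi6 ygi52 zgi34) (kgi xgi14 ygi3 zgi39) (kgi xgi6 ygi51 zgi45) (kgi xgi3 ygi42 zgi51) (kgi xgi13 ygi4 zgi46) (kgi xgi13 ygi4 zgi44) (kgi xgi7 ygi33 zgi16) (kgi xgi6 ygi48 zgi9) (kgi xgi14 ygi3 zgi52)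 (kgi xgi3 ygi42 zgi53) (kgi xgi5 ygi52 zgi1) (kgi xgi6 ygi31 zgi10) (kgi xgi7 ygi22 zgi61) (kgi xgi7 ygi27 zgi42) (kgi xgi7 ygi22 zgi37) (kgi xgi3 ygi42 zgi55) (kgi xgi14 ygi3 zgi59) (kgi xgi3 ygi42 zgi56) (kgi xgi7 ygi21 zgi31) (kgi xgi14 ygi4 zgi8) (kgi xgi3 ygi42 zgi57) (kgi xgi3 ygi44 zgi15) (kgi xgi14 ygi4 zgi19) (kgi xgi3 ygi44 zgi12) (kgi xgi3 ygi42 zgi60) (kgi xgi4 ygi26 zgi19) (kgi xgi11 ygi23 zgi2) (kgi xgi5 ygi54 zgi49) (kgi xgi12 ygi50 zgi15) (kgi xgi6 ygi27 zgi31) (kgi xgi3 ygi43 zgi3) (kgi xgi6 ygi31 zgi8) (kgi xgi5 ygi43 zgi7) (kgi xgi11 ygi57 zgi56) (kgi xgi13 ygi54 zgi15) (kgi xgi14 ygi4 zgi29) (kgi xgi6 ygi30 zgi61) (kgi xgi13 ygi52 zgi24) (kgi xgi6 ygi30 zgi59) (kgi xgi14 ygi4 zgi35) (kgi xgi13 ygi52 zgi30) (kgi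 xgi3 ygi43 zgi10) (kgi xgi6 ygi31 zgi22) (kgi xgi14 ygi4 zgi40)) (@D3.rec (fun _ => Pt) (kgi xgi13 ygi55 zgi48) (kgi xgi6 ygi31 zgi39) (kgi xgi12 ygi17 zgi22) (kgi xgi6 ygi31 zgi37) (kgi xgi3 ygi43 zgi22) (kgi xgi12 ygi12 zgi1) (kgi xgi12 ygi17 zgi23) (kgi xgi6 ygi12 zgi53) (kgi xgi3 ygi43 zgi16) (kgi xgi6 ygi31 zgi36) (kgi xgi6 ygi31 zgi34) (kgi xgi4 ygi41 zgi35) (kgi xgi13 ygi56 zgi32) (kgi xgi3 ygi43 zgi18) (kgi xgi6 ygi12 zgi18) (kgi xgi6 ygi50 zgi45) (kgi xgi6 ygi31 zgi28) (kgi xgi6 ygi12 zgi20) (kgi xgi3 ygi43 zgi21) (kgi xgi6 ygi31 zgi47) (kgi xgi6 ygi31 zgi45) (kgi xgi14 ygi4 zgi56) (kgi xgi4 ygi7 zgi19) (kgi xgi3 ygi43 zgi23) (kgi xgi6 ygi31 zgi54) (kgi xgi6 ygi31 zgi52) (kgi xgi11 ygi58 zgi10) (kgi xgi9 ygi27 zgi33) (kgi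 xgi6 ygi8 zgi4) (kgi xgi11 ygi33 zgi28) (kgi xgi3 ygi43 zgi27) (kgi xgi7 ygi23 zgi36) (kgi xgi14 ygi5 zgi0) (kgi xgi7 ygi23 zgi34) (kgi xgi6 ygi31 zgi33) (kgi xgi3 ygi43 zgi30) (kgi xgi6 ygi53 zgi46) (kgi xgi6 ygi53 zgi44) (kgi xgi14 ygi5 zgi5) (kgi xgi7 ygi50 zgi51) (kgi xgi7 ygi5 zgi15) (kgi xgi7 ygi17 zgi45) (kgi xgi7 ygi26 zgi31) (kgi xgi13 ygi26 zgi12) (kgi xgi6 ygi13 zgi32) (kgi xgi13 ygi38 zgi19) (kgi xgi14 ygi5 zgi14) (kgi xgi3 ygi43 zgi37) (kgi xgi14 ygi5 zgi12) (kgi xgi14 ygi5 zgi23) (kgi xgi13 ygi38 zgi15) (kgi xgi3 ygi43 zgi38) (kgi xgi7 ygi22 zgi26) (kgi xgi14 ygi5 zgi32) (kgi xgi7 ygi22 zgi23) (kgi xgi14 ygi5 zgi2) (kgi xgi7 ygi53 zgi43) (kgi xgi7 ygi4 zgi43) (kgi xgi13 ygi25 zgi19) (kgi xgi7 ygi51 zgi5) (kgi xgi7 ygi10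 zgi59) (kgi xgi3 ygi43 zgi41)) (@D3.rec (fun _ => Pt) (kgi xgi7 ygi22 zgi36) (kgi xgi14 ygi5 zgi51) (kgi xgi7 ygi22 zgi33) (kgi xgi7 ygi21 zgi25) (kgi xgi7 ygi53 zgi45) (kgi xgi7 ygi18 zgi41) (kgi xgi3 ygi55 zgi52) (kgi xgi13 ygi12 zgi32) (kgi xgi13 ygi5 zgi61) (kgi xgi3 ygi44 zgi31) (kgi xgi7 ygi22 zgi17) (kgi xgi13 ygi25 zgi18) (kgi xgi14 ygi5 zgi28) (kgi xgi3 ygi43 zgi49) (kgi xgi14 ygi5 zgi48) (kgi xgi3 ygi43 zgi50) (kgi xgi7 ygi22 zgi0) (kgi xgi14 ygi6 zgi18) (kgi xgi7 ygi21 zgi59) (kgi xgi7 ygi54 zgi40) (kgi xgi7 ygi4 zgi48) (kgi xgi14 ygi6 zgi23) (kgi xgi7 ygi54 zgi38) (kgi xgi3 ygi44 zgi29) (kgi xgi3 ygi43 zgi53) (kgi xgi7 ygi4 zgi26) (kgi xgi7 ygi54 zgi23) (kgi xgi12 ygi34 zgi51) (kgi xgi3 ygi44 zgi6) (kgi xgi7 ygi21 zgi36)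 (kgi xgi7 ygi1 zgi16) (kgi xgi7 ygi23 zgi19) (kgi xgi13 ygi37 zgi21) (kgi xgi7 ygi22 zgi48) (kgi xgi14 ygi6 zgi44) (kgi xgi3 ygi43 zgi57) (kgi xgi7 ygi22 zgi46) (kgi xgi14 ygi6 zgi48) (kgi xgi14 ygi6 zgi52) (kgi xgi3 ygi43 zgi58) (kgi xgi14 ygi6 zgi46) (kgi xgi14 ygi7 zgi1) (kgi xgi14 ygi6 zgi43) (kgi xgi3 ygi43 zgi59) (kgi xgi7 ygi23 zgi15) (kgi xgi14 ygi7 zgi9) (kgi xgi7 ygi23 zgi12) (kgi xgi3 ygi43 zgi60) (kgi xgi7 ygi23 zgi18) (kgi xgi13 ygi56 zgi55) (kgi xgi3 ygi56 zgi2) (kgi xgi7 ygi1 zgi13) (kgi xgi3 ygi44 zgi19) (kgi xgi7 ygi23 zgi58) (kgi xgi13 ygi25 zgi29) (kgi xgi3 ygi44 zgi3) (kgi xgi13 ygi25 zgi31) (kgi xgi14 ygi7 zgi29) (kgi xgi3 ygi44 zgi4) (kgi xgi7 ygi22 zgi58) (kgi xgi9 ygi46 zgi7) (kgi xgi7 ygi22 zgi55)) (@D3.rec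 (fun _ => Pt) (kgi xgi7 ygi4 zgi33) (kgi xgi13 ygi56 zgi8) (kgi xgi7 ygi22 zgi40) (kgi xgi14 ygi7 zgi41) (kgi xgi14 ygi7 zgi44) (kgi xgi3 ygi44 zgi7) (kgi xgi7 ygi23 zgi29) (kgi xgi14 ygi7 zgi51) (kgi xgi7 ygi23 zgi26) (kgi xgi6 ygi25 zgi34) (kgi xgi14 ygi7 zgi56) (kgi xgi11 ygi6 zgi39) (kgi xgi3 ygi44 zgi10) (kgi xgi7 ygi23 zgi32) (kgi xgi12 ygi3 zgi55) (kgi xgi3 ygi44 zgi11) (kgi xgi6 ygi32 zgi4) (kgi xgi14 ygi8 zgi8) (kgi xgi6 ygi32 zgi1) (kgi xgi14 ygi6 zgi39) (kgi xgi13 ygi6 zgi29) (kgi xgi14 ygi8 zgi19) (kgi xgi14 ygi8 zgi22) (kgi xgi14 ygi8 zgi25) (kgi xgi14 ygi8 zgi15) (kgi xgi14 ygi8 zgi18) (kgi xgi14 ygi7 zgi48) (kgi xgi3 ygi44 zgi14) (kgi xgi14 ygi4 zgi20) (kgi xgi14 ygi8 zgi45) (kgi xgi14 ygi4 zgi18) (kgi xgi3 ygi44 zgi16)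 (kgi xgi7 ygi22 zgi41) (kgi xgi14 ygi8 zgi54) (kgi xgi14 ygi8 zgi58) (kgi xgi14 ygi2 zgi39) (kgi xgi14 ygi9 zgi1) (kgi xgi3 ygi54 zgi28) (kgi xgi13 ygi37 zgi23) (kgi xgi13 ygi37 zgi22) (kgi xgi14 ygi9 zgi8) (kgi xgi14 ygi9 zgi11) (kgi xgi13 ygi5 zgi11) (kgi xgi14 ygi9 zgi15) (kgi xgi14 ygi6 zgi40) (kgi xgi13 ygi6 zgi32) (kgi xgi14 ygi9 zgi22) (kgi xgi14 ygi9 zgi5) (kgi xgi14 ygi9 zgi20) (kgi xgi14 ygi9 zgi28) (kgi xgi3 ygi44 zgi24) (kgi xgi7 ygi11 zgi23) (kgi xgi14 ygi9 zgi35) (kgi xgi14 ygi9 zgi38) (kgi xgi7 ygi5 zgi21) (kgi xgi3 ygi44 zgi27) (kgi xgi7 ygi21 zgi48) (kgi xgi14 ygi9 zgi47) (kgi xgi14 ygi9 zgi50) (kgi xgi3 ygi44 zgi28) (kgi xgi3 ygi44 zgi32) (kgi xgi6 ygi58 zgi6)) (@D3.rec (fun _ => Pt) (kgi xgi14 ygi9 zgi59) (kgi xgi6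 ygi55 zgi51) (kgi xgi13 ygi52 zgi43) (kgi xgi13 ygi2 zgi43) (kgi xgi13 ygi2 zgi42) (kgi xgi14 ygi10 zgi4) (kgi xgi13 ygi21 zgi10) (kgi xgi6 ygi23 zgi13) (kgi xgi14 ygi10 zgi11) (kgi xgi3 ygi44 zgi33) (kgi xgi7 ygi25 zgi28) (kgi xgi6 ygi56 zgi13) (kgi xgi6 ygi43 zgi12) (kgi xgi3 ygi50 zgi13) (kgi xgi3 ygi49 zgi44) (kgi xgi7 ygi37 zgi61) (kgi xgi6 ygi56 zgi5) (kgi xgi6 ygi55 zgi42) (kgi xgi3 ygi44 zgi36) (kgi xgi6 ygi54 zgi23) (kgi xgi14 ygi10 zgi27) (kgi xgi6 ygi54 zgi20) (kgi xgi3 ygi50 zgi26) (kgi xgi13 ygi27 zgi13) (kgi xgi3 ygi44 zgi38) (kgi xgi13 ygi23 zgi6) (kgi xgi3 ygi52 zgi31) (kgi xgi3 ygi49 zgi19) (kgi xgi13 ygi27 zgi14) (kgi xgi13 ygi28 zgi5) (kgi xgi3 ygi44 zgi42) (kgi xgi13 ygi14 zgi28) (kgi xgi13 ygi15 zgi3) (kgi xgi13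 ygi50 zgi14) (kgi xgi14 ygi10 zgi52) (kgi xgi7 ygi10 zgi36) (kgi xgi3 ygi44 zgi49) (kgi xgi5 ygi55 zgi20) (kgi xgi6 ygi49 zgi27) (kgi xgi6 ygi25 zgi57) (kgi xgi14 ygi10 zgi55) (kgi xgi11 ygi21 zgi52) (kgi xgi7 ygi11 zgi55) (kgi xgi7 ygi22 zgi39) (kgi xgi6 ygi51 zgi61) (kgi xgi13 ygi20 zgi24) (kgi xgi13 ygi49 zgi52) (kgi xgi3 ygi44 zgi57) (kgi xgi13 ygi49 zgi53) (kgi xgi14 ygi11 zgi4) (kgi xgi3 ygi44 zgi59) (kgi xgi6 ygi56 zgi34) (kgi xgi14 ygi11 zgi10) (kgi xgi6 ygi56 zgi31) (kgi xgi13 ygi6 zgi3) (kgi xgi3 ygi44 zgi61) (kgi xgi7 ygi0 zgi6) (kgi xgi4 ygi37 zgi55) (kgi xgi4 ygi43 zgi10) (kgi xgi14 ygi11 zgi17) (kgi xgi7 ygi36 zgi40) (kgi xgi12 ygi25 zgi26)) (@D3.rec (fun _ => Pt) (kgi xgi6 ygi41 zgi24) (kgi xgi14 ygi11 zgi23) (kgi xgi6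 ygi41 zgi35) (kgi xgi3 ygi45 zgi9) (kgi xgi6 ygi36 zgi39) (kgi xgi6 ygi36 zgi37) (kgi xgi11 ygi40 zgi19) (kgi xgi14 ygi11 zgi34) (kgi xgi7 ygi45 zgi24) (kgi xgi12 ygi29 zgi2) (kgi xgi3 ygi45 zgi12) (kgi xgi4 ygi18 zgi26) (kgi xgi6 ygi19 zgi9) (kgi xgi3 ygi50 zgi0) (kgi xgi14 ygi11 zgi41) (kgi xgi13 ygi3 zgi33) (kgi xgi12 ygi57 zgi37) (kgi xgi4 ygi40 zgi28) (kgi xgi12 ygi28 zgi37) (kgi xgi12 ygi27 zgi50) (kgi xgi3 ygi45 zgi18) (kgi xgi6 ygi34 zgi18) (kgi xgi4 ygi37 zgi30) (kgi xgi5 ygi9 zgi57) (kgi xgi6 ygi41 zgi12) (kgi xgi6 ygi10 zgi17) (kgi xgi3 ygi45 zgi23) (kgi xgi5 ygi57 zgi58) (kgi xgi14 ygi11 zgi52) (kgi xgi3 ygi45 zgi24) (kgi xgi6 ygi34 zgi22) (kgi xgi12 ygi38 zgi56) (kgi xgi6 ygi11 zgi37) (kgi xgi3 ygi45 zgi37) (kgi xgi6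 ygi22 zgi11) (kgi xgi12 ygi39 zgi4) (kgi xgi5 ygi55 zgi43) (kgi xgi7 ygi33 zgi57) (kgi xgi10 ygi14 zgi19) (kgi xgi12 ygi1 zgi8) (kgi xgi5 ygi58 zgi20) (kgi xgi14 ygi12 zgi0) (kgi xgi3 ygi45 zgi32) (kgi xgi12 ygi58 zgi33) (kgi xgi12 ygi58 zgi30) (kgi xgi14 ygi11 zgi61) (kgi xgi3 ygi45 zgi33) (kgi xgi9 ygi32 zgi49) (kgi xgi14 ygi12 zgi13) (kgi xgi12 ygi2 zgi7) (kgi xgi12 ygi58 zgi36) (kgi xgi12 ygi29 zgi33) (kgi xgi12 ygi29 zgi0) (kgi xgi9 ygi20 zgi41) (kgi xgi6 ygi53 zgi14) (kgi xgi3 ygi45 zgi59) (kgi xgi3 ygi46 zgi52) (kgi xgi13 ygi17 zgi42) (kgi xgi13 ygi18 zgi43) (kgi xgi7 ygi37 zgi42) (kgi xgi13 ygi22 zgi43) (kgi xgi3 ygi45 zgi41)) (@D3.rec (fun _ => Pt) (kgi xgi7 ygi38 zgi15) (kgi xgi6 ygi55 zgi61) (kgi xgi11 ygi41 zgi13) (kgi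 xgi3 ygi45 zgi42) (kgi xgi13 ygi22 zgi45) (kgi xgi14 ygi12 zgi41) (kgi xgi3 ygi45 zgi43) (kgi xgi9 ygi22 zgi19) (kgi xgi6 ygi28 zgi32) (kgi xgi3 ygi45 zgi44) (kgi xgi7 ygi2 zgi53) (kgi xgi13 ygi17 zgi57) (kgi xgi6 ygi52 zgi16) (kgi xgi14 ygi12 zgi51) (kgi xgi14 ygi12 zgi54) (kgi xgi3 ygi45 zgi48) (kgi xgi14 ygi12 zgi49) (kgi xgi14 ygi12 zgi61) (kgi xgi14 ygi12 zgi47) (kgi xgi3 ygi45 zgi49) (kgi xgi7 ygi38 zgi21) (kgi xgi14 ygi13 zgi7) (kgi xgi7 ygi38 zgi18) (kgi xgi13 ygi17 zgi29) (kgi xgi13 ygi41 zgi61) (kgi xgi7 ygi10 zgi16) (kgi xgi3 ygi45 zgi52) (kgi xgi6 ygi59 zgi43) (kgi xgi14 ygi13 zgi18) (kgi xgi9 ygi21 zgi22) (kgi xgi14 ygi13 zgi22) (kgi xgi9 ygi21 zgi19) (kgi xgi3 ygi45 zgi54) (kgi xgi3 ygi45 zgi58) (kgi xgi10 ygi25 zgi41)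 (kgi xgi3 ygi45 zgi55) (kgi xgi6 ygi51 zgi42) (kgi xgi10 ygi7 zgi23) (kgi xgi13 ygi23 zgi13) (kgi xgi14 ygi13 zgi30) (kgi xgi14 ygi13 zgi28) (kgi xgi12 ygi34 zgi10) (kgi xgi3 ygi45 zgi57) (kgi xgi10 ygi23 zgi51) (kgi xgi14 ygi13 zgi38) (kgi xgi12 ygi51 zgi14) (kgi xgi7 ygi43 zgi3) (kgi xgi14 ygi13 zgi41) (kgi xgi12 ygi51 zgi59) (kgi xgi9 ygi23 zgi51) (kgi xgi6 ygi51 zgi46) (kgi xgi14 ygi13 zgi50) (kgi xgi14 ygi13 zgi52) (kgi xgi3 ygi46 zgi0) (kgi xgi13 ygi17 zgi45) (kgi xgi14 ygi13 zgi60) (kgi xgi12 ygi45 zgi54) (kgi xgi14 ygi12 zgi26) (kgi xgi6 ygi10 zgi25) (kgi xgi14 ygi14 zgi9) (kgi xgi9 ygi24 zgi8) (kgi xgi14 ygi14 zgi14)) (@D3.rec (fun _ => Pt) (kgi xgi6 ygi35 zgi10) (kgi xgi14 ygi14 zgi8) (kgi xgi9 ygi23 zgi50) (kgi xgi3 ygi46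 zgi3) (kgi xgi13 ygi18 zgi37) (kgi xgi14 ygi14 zgi31) (kgi xgi13 ygi18 zgi34) (kgi xgi3 ygi46 zgi5) (kgi xgi13 ygi17 zgi21) (kgi xgi14 ygi14 zgi38) (kgi xgi14 ygi14 zgi42) (kgi xgi3 ygi46 zgi9) (kgi xgi14 ygi1 zgi11) (kgi xgi14 ygi14 zgi46) (kgi xgi6 ygi54 zgi2) (kgi xgi6 ygi52 zgi33) (kgi xgi10 ygi40 zgi61) (kgi xgi14 ygi14 zgi54) (kgi xgi14 ygi1 zgi10) (kgi xgi14 ygi14 zgi58) (kgi xgi7 ygi30 zgi28) (kgi xgi14 ygi12 zgi27) (kgi xgi7 ygi1 zgi47) (kgi xgi3 ygi48 zgi8) (kgi xgi14 ygi15 zgi7) (kgi xgi14 ygi14 zgi48) (kgi xgi13 ygi20 zgi1) (kgi xgi3 ygi53 zgi21) (kgi xgi8 ygi42 zgi14) (kgi xgi3 ygi46 zgi13) (kgi xgi7 ygi33 zgi32) (kgi xgi9 ygi53 zgi51) (kgi xgi7 ygi33 zgi29) (kgi xgi13 ygi18 zgi54) (kgi xgi3 ygi46 zgi15) (kgi xgi14 ygi15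 zgi26) (kgi xgi14 ygi15 zgi30) (kgi xgi10 ygi7 zgi45) (kgi xgi14 ygi15 zgi34) (kgi xgi7 ygi11 zgi1) (kgi xgi7 ygi36 zgi30) (kgi xgi6 ygi34 zgi9) (kgi xgi7 ygi17 zgi9) (kgi xgi7 ygi12 zgi39) (kgi xgi13 ygi23 zgi19) (kgi xgi13 ygi34 zgi15) (kgi xgi3 ygi46 zgi22) (kgi xgi9 ygi2 zgi50) (kgi xgi3 ygi46 zgi23) (kgi xgi13 ygi34 zgi17) (kgi xgi14 ygi15 zgi47) (kgi xgi10 ygi16 zgi7) (kgi xgi7 ygi19 zgi37) (kgi xgi12 ygi27 zgi34) (kgi xgi3 ygi46 zgi30) (kgi xgi12 ygi27 zgi35) (kgi xgi14 ygi15 zgi55) (kgi xgi7 ygi31 zgi40) (kgi xgi14 ygi15 zgi60) (kgi xgi12 ygi10 zgi27) (kgi xgi11 ygi42 zgi25) (kgi xgi3 ygi46 zgi34)) (@D3.rec (fun _ => Pt) (kgi xgi14 ygi13 zgi10) (kgi xgi13 ygi15 zgi0) (kgi xgi11 ygi0 zgi47) (kgi xgi13 ygi34 zgi28) (kgi xgi6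 ygi38 zgi18) (kgi xgi12 ygi10 zgi18) (kgi xgi14 ygi13 zgi56) (kgi xgi12 ygi10 zgi21) (kgi xgi9 ygi30 zgi55) (kgi xgi3 ygi46 zgi41) (kgi xgi9 ygi32 zgi0) (kgi xgi14 ygi16 zgi22) (kgi xgi12 ygi51 zgi35) (kgi xgi13 ygi56 zgi11) (kgi xgi7 ygi10 zgi12) (kgi xgi7 ygi15 zgi36) (kgi xgi13 ygi39 zgi19) (kgi xgi13 ygi23 zgi39) (kgi xgi3 ygi46 zgi44) (kgi xgi13 ygi34 zgi27) (kgi xgi14 ygi16 zgi37) (kgi xgi11 ygi26 zgi6) (kgi xgi6 ygi10 zgi34) (kgi xgi14 ygi16 zgi43) (kgi xgi12 ygi44 zgi61) (kgi xgi14 ygi16 zgi48) (kgi xgi6 ygi34 zgi35) (kgi xgi12 ygi57 zgi14) (kgi xgi12 ygi57 zgi25) (kgi xgi3 ygi46 zgi47) (kgi xgi12 ygi56 zgi60) (kgi xgi13 ygi17 zgi54) (kgi xgi6 ygi51 zgi47) (kgi xgi14 ygi17 zgi5) (kgi xgi14 ygi17 zgi8) (kgi xgi14 ygi17 zgi10)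 (kgi xgi13 ygi15 zgi53) (kgi xgi13 ygi15 zgi51) (kgi xgi14 ygi17 zgi17) (kgi xgi14 ygi17 zgi21) (kgi xgi13 ygi45 zgi31) (kgi xgi14 ygi12 zgi46) (kgi xgi14 ygi17 zgi26) (kgi xgi14 ygi17 zgi13) (kgi xgi14 ygi17 zgi32) (kgi xgi6 ygi53 zgi37) (kgi xgi14 ygi17 zgi38) (kgi xgi3 ygi46 zgi58) (kgi xgi6 ygi57 zgi47) (kgi xgi13 ygi17 zgi14) (kgi xgi3 ygi53 zgi29) (kgi xgi13 ygi44 zgi5) (kgi xgi5 ygi57 zgi34) (kgi xgi14 ygi17 zgi45) (kgi xgi3 ygi47 zgi2) (kgi xgi10 ygi47 zgi14) (kgi xgi9 ygi14 zgi12) (kgi xgi3 ygi47 zgi3) (kgi xgi3 ygi48 zgi45) (kgi xgi14 ygi14 zgi12) (kgi xgi3 ygi48 zgi42) (kgi xgi6 ygi55 zgi23)) (@D3.rec (fun _ => Pt) (kgi xgi7 ygi15 zgi37) (kgi xgi3 ygi47 zgi5) (kgi xgi3 ygi48 zgi55) (kgi xgi13 ygi40 zgi13) (kgi xgi13 ygi45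 zgi43) (kgi xgi7 ygi15 zgi41) (kgi xgi7 ygi14 zgi56) (kgi xgi3 ygi47 zgi10) (kgi xgi10 ygi47 zgi17) (kgi xgi10 ygi47 zgi15) (kgi xgi3 ygi47 zgi11) (kgi xgi3 ygi49 zgi33) (kgi xgi14 ygi16 zgi46) (kgi xgi3 ygi49 zgi30) (kgi xgi13 ygi29 zgi58) (kgi xgi13 ygi23 zgi15) (kgi xgi13 ygi36 zgi39) (kgi xgi13 ygi23 zgi55) (kgi xgi3 ygi47 zgi14) (kgi xgi3 ygi49 zgi43) (kgi xgi14 ygi1 zgi23) (kgi xgi7 ygi7 zgi47) (kgi xgi3 ygi52 zgi29) (kgi xgi3 ygi52 zgi5) (kgi xgi14 ygi18 zgi35) (kgi xgi3 ygi47 zgi18) (kgi xgi14 ygi18 zgi37) (kgi xgi14 ygi18 zgi42) (kgi xgi14 ygi18 zgi34) (kgi xgi3 ygi47 zgi19) (kgi xgi3 ygi50 zgi18) (kgi xgi14 ygi18 zgi50) (kgi xgi3 ygi50 zgi15) (kgi xgi7 ygi38 zgi57) (kgi xgi7 ygi51 zgi35) (kgi xgi3 ygi47 zgi54) (kgi xgi3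 ygi47 zgi29) (kgi xgi7 ygi51 zgi43) (kgi xgi13 ygi34 zgi60) (kgi xgi13 ygi34 zgi1) (kgi xgi14 ygi15 zgi57) (kgi xgi10 ygi14 zgi20) (kgi xgi3 ygi47 zgi26) (kgi xgi13 ygi34 zgi3) (kgi xgi14 ygi19 zgi9) (kgi xgi3 ygi47 zgi27) (kgi xgi3 ygi50 zgi42) (kgi xgi14 ygi19 zgi16) (kgi xgi3 ygi50 zgi39) (kgi xgi3 ygi47 zgi28) (kgi xgi7 ygi40 zgi18) (kgi xgi7 ygi49 zgi41) (kgi xgi3 ygi49 zgi58) (kgi xgi6 ygi49 zgi25) (kgi xgi14 ygi19 zgi24) (kgi xgi7 ygi38 zgi11) (kgi xgi14 ygi18 zgi46) (kgi xgi13 ygi40 zgi11) (kgi xgi3 ygi48 zgi56) (kgi xgi3 ygi47 zgi33) (kgi xgi5 ygi58 zgi39) (kgi xgi14 ygi19 zgi38)) (@D3.rec (fun _ => Pt) (kgi xgi13 ygi8 zgi8) (kgi xgi14 ygi19 zgi44) (kgi xgi14 ygi19 zgi47) (kgi xgi6 ygi55 zgi4) (kgi xgi11 ygi35 zgi14) (kgi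 xgi14 ygi19 zgi52) (kgi xgi3 ygi47 zgi38) (kgi xgi3 ygi47 zgi46) (kgi xgi14 ygi19 zgi60) (kgi xgi3 ygi47 zgi43) (kgi xgi6 ygi32 zgi44) (kgi xgi4 ygi34 zgi40) (kgi xgi13 ygi19 zgi53) (kgi xgi9 ygi30 zgi10) (kgi xgi4 ygi48 zgi12) (kgi xgi11 ygi33 zgi43) (kgi xgi3 ygi47 zgi41) (kgi xgi6 ygi54 zgi19) (kgi xgi14 ygi20 zgi12) (kgi xgi10 ygi45 zgi48) (kgi xgi3 ygi47 zgi42) (kgi xgi14 ygi19 zgi54) (kgi xgi14 ygi20 zgi22) (kgi xgi14 ygi19 zgi51) (kgi xgi14 ygi19 zgi20) (kgi xgi7 ygi38 zgi0) (kgi xgi11 ygi0 zgi42) (kgi xgi7 ygi47 zgi43) (kgi xgi14 ygi20 zgi33) (kgi xgi14 ygi20 zgi29) (kgi xgi6 ygi52 zgi29) (kgi xgi3 ygi47 zgi45) (kgi xgi14 ygi20 zgi0) (kgi xgi14 ygi20 zgi44) (kgi xgi14 ygi19 zgi59) (kgi xgi11 ygi44 zgi31) (kgi xgi7 ygi30 zgi60)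 (kgi xgi10 ygi39 zgi54) (kgi xgi14 ygi20 zgi51) (kgi xgi14 ygi20 zgi53) (kgi xgi12 ygi35 zgi23) (kgi xgi14 ygi20 zgi48) (kgi xgi13 ygi19 zgi52) (kgi xgi3 ygi47 zgi49) (kgi xgi3 ygi51 zgi46) (kgi xgi14 ygi21 zgi9) (kgi xgi3 ygi51 zgi43) (kgi xgi3 ygi47 zgi51) (kgi xgi3 ygi50 zgi23) (kgi xgi13 ygi35 zgi18) (kgi xgi3 ygi47 zgi56) (kgi xgi7 ygi47 zgi31) (kgi xgi14 ygi21 zgi21) (kgi xgi3 ygi51 zgi52) (kgi xgi3 ygi51 zgi51) (kgi xgi14 ygi21 zgi25) (kgi xgi14 ygi21 zgi27) (kgi xgi7 ygi47 zgi28) (kgi xgi14 ygi18 zgi33) (kgi xgi7 ygi37 zgi60) (kgi xgi14 ygi21 zgi30) (kgi xgi14 ygi21 zgi23)) (@D3.rec (fun _ => Pt) (kgi xgi7 ygi47 zgi13) (kgi xgi14 ygi21 zgi35) (kgi xgi3 ygi47 zgi60) (kgi xgi3 ygi52 zgi23) (kgi xgi14 ygi21 zgi42) (kgi xgi14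 ygi21 zgi45) (kgi xgi6 ygi58 zgi25) (kgi xgi14 ygi21 zgi47) (kgi xgi13 ygi17 zgi16) (kgi xgi3 ygi48 zgi2) (kgi xgi3 ygi49 zgi18) (kgi xgi14 ygi21 zgi55) (kgi xgi3 ygi48 zgi3) (kgi xgi3 ygi48 zgi7) (kgi xgi14 ygi21 zgi17) (kgi xgi14 ygi22 zgi3) (kgi xgi7 ygi39 zgi48) (kgi xgi3 ygi52 zgi48) (kgi xgi3 ygi52 zgi47) (kgi xgi14 ygi22 zgi11) (kgi xgi13 ygi46 zgi16) (kgi xgi13 ygi45 zgi38) (kgi xgi14 ygi22 zgi17) (kgi xgi7 ygi1 zgi1) (kgi xgi3 ygi51 zgi8) (kgi xgi6 ygi56 zgi58) (kgi xgi3 ygi48 zgi13) (kgi xgi10 ygi47 zgi24) (kgi xgi14 ygi22 zgi28) (kgi xgi3 ygi48 zgi14) (kgi xgi6 ygi56 zgi9) (kgi xgi14 ygi22 zgi31) (kgi xgi6 ygi56 zgi6) (kgi xgi3 ygi48 zgi15) (kgi xgi6 ygi56 zgi12) (kgi xgi13 ygi8 zgi36) (kgi xgi3 ygi48 zgi16) (kgi xgi7 ygi3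 zgi46) (kgi xgi7 ygi10 zgi8) (kgi xgi12 ygi26 zgi29) (kgi xgi7 ygi22 zgi12) (kgi xgi6 ygi30 zgi43) (kgi xgi3 ygi48 zgi38) (kgi xgi3 ygi49 zgi37) (kgi xgi7 ygi31 zgi59) (kgi xgi13 ygi33 zgi33) (kgi xgi14 ygi22 zgi43) (kgi xgi3 ygi48 zgi23) (kgi xgi14 ygi22 zgi45) (kgi xgi14 ygi22 zgi52) (kgi xgi14 ygi22 zgi42) (kgi xgi3 ygi48 zgi24) (kgi xgi7 ygi46 zgi57) (kgi xgi13 ygi23 zgi7) (kgi xgi6 ygi55 zgi24) (kgi xgi13 ygi36 zgi38) (kgi xgi3 ygi55 zgi59) (kgi xgi3 ygi48 zgi28) (kgi xgi14 ygi21 zgi48) (kgi xgi14 ygi23 zgi2) (kgi xgi7 ygi37 zgi0) (kgi xgi7 ygi30 zgi12)) (@D3.rec (fun _ => Pt) (kgi xgi7 ygi36 zgi29) (kgi xgi14 ygi23 zgi7) (kgi xgi3 ygi48 zgi32) (kgi xgi3 ygi48 zgi37) (kgi xgi6 ygi33 zgi31) (kgi xgi8 ygi56 zgi39) (kgi xgi6 ygi33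 zgi16) (kgi xgi3 ygi50 zgi31) (kgi xgi6 ygi43 zgi24) (kgi xgi14 ygi23 zgi17) (kgi xgi7 ygi47 zgi54) (kgi xgi14 ygi23 zgi19) (kgi xgi7 ygi9 zgi48) (kgi xgi6 ygi6 zgi20) (kgi xgi12 ygi51 zgi42) (kgi xgi7 ygi31 zgi61) (kgi xgi7 ygi42 zgi43) (kgi xgi14 ygi23 zgi31) (kgi xgi3 ygi48 zgi39) (kgi xgi7 ygi32 zgi22) (kgi xgi14 ygi23 zgi40) (kgi xgi7 ygi32 zgi19) (kgi xgi9 ygi47 zgi28) (kgi xgi14 ygi23 zgi45) (kgi xgi14 ygi23 zgi48) (kgi xgi7 ygi32 zgi6) (kgi xgi14 ygi22 zgi40) (kgi xgi6 ygi35 zgi28) (kgi xgi14 ygi23 zgi57) (kgi xgi14 ygi23 zgi60) (kgi xgi14 ygi24 zgi0) (kgi xgi6 ygi37 zgi50) (kgi xgi14 ygi23 zgi56) (kgi xgi14 ygi23 zgi36) (kgi xgi3 ygi48 zgi44) (kgi xgi14 ygi17 zgi57) (kgi xgi14 ygi24 zgi20) (kgi xgi14 ygi17 zgi55) (kgi xgi3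 ygi48 zgi46) (kgi xgi13 ygi29 zgi57) (kgi xgi14 ygi24 zgi26) (kgi xgi14 ygi24 zgi30) (kgi xgi3 ygi48 zgi50) (kgi xgi13 ygi42 zgi54) (kgi xgi10 ygi53 zgi29) (kgi xgi6 ygi55 zgi26) (kgi xgi6 ygi55 zgi28) (kgi xgi14 ygi24 zgi41) (kgi xgi14 ygi24 zgi45) (kgi xgi13 ygi13 zgi27) (kgi xgi13 ygi43 zgi3) (kgi xgi14 ygi24 zgi52) (kgi xgi13 ygi15 zgi1) (kgi xgi14 ygi22 zgi41) (kgi xgi7 ygi35 zgi33) (kgi xgi14 ygi25 zgi0) (kgi xgi14 ygi24 zgi38) (kgi xgi7 ygi41 zgi49) (kgi xgi14 ygi25 zgi8) (kgi xgi8 ygi55 zgi61) (kgi xgi13 ygi39 zgi55) (kgi xgi14 ygi25 zgi11)) (@D3.rec (fun _ => Pt) (kgi xgi14 ygi3 zgi31) (kgi xgi3 ygi48 zgi60) (kgi xgi14 ygi24 zgi31) (kgi xgi14 ygi25 zgi20) (kgi xgi3 ygi48 zgi59) (kgi xgi13 ygi50 zgi11) (kgi xgi13 ygi23 zgi36)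 (kgi xgi14 ygi25 zgi27) (kgi xgi13 ygi14 zgi57) (kgi xgi3 ygi49 zgi16) (kgi xgi3 ygi49 zgi13) (kgi xgi3 ygi53 zgi4) (kgi xgi13 ygi41 zgi8) (kgi xgi13 ygi43 zgi27) (kgi xgi12 ygi8 zgi53) (kgi xgi3 ygi49 zgi8) (kgi xgi13 ygi43 zgi29) (kgi xgi14 ygi25 zgi40) (kgi xgi8 ygi47 zgi15) (kgi xgi8 ygi3 zgi41) (kgi xgi3 ygi49 zgi10) (kgi xgi7 ygi14 zgi59) (kgi xgi6 ygi54 zgi36) (kgi xgi14 ygi25 zgi47) (kgi xgi14 ygi25 zgi50) (kgi xgi13 ygi23 zgi40) (kgi xgi14 ygi10 zgi41) (kgi xgi14 ygi25 zgi55) (kgi xgi12 ygi51 zgi39) (kgi xgi5 ygi58 zgi59) (kgi xgi14 ygi25 zgi60) (kgi xgi3 ygi49 zgi29) (kgi xgi14 ygi26 zgi4) (kgi xgi3 ygi49 zgi26) (kgi xgi12 ygi1 zgi55) (kgi xgi14 ygi26 zgi6) (kgi xgi3 ygi49 zgi24) (kgi xgi11 ygi27 zgi38) (kgi xgi14 ygi11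 zgi45) (kgi xgi9 ygi30 zgi16) (kgi xgi14 ygi26 zgi11) (kgi xgi3 ygi49 zgi25) (kgi xgi14 ygi26 zgi0) (kgi xgi14 ygi26 zgi21) (kgi xgi14 ygi25 zgi59) (kgi xgi13 ygi53 zgi52) (kgi xgi13 ygi33 zgi60) (kgi xgi14 ygi26 zgi26) (kgi xgi7 ygi48 zgi25) (kgi xgi3 ygi49 zgi28) (kgi xgi10 ygi47 zgi12) (kgi xgi14 ygi26 zgi38) (kgi xgi14 ygi26 zgi3) (kgi xgi4 ygi37 zgi20) (kgi xgi6 ygi35 zgi17) (kgi xgi14 ygi26 zgi48) (kgi xgi14 ygi26 zgi51) (kgi xgi14 ygi26 zgi53) (kgi xgi6 ygi36 zgi59) (kgi xgi14 ygi26 zgi47) (kgi xgi12 ygi28 zgi0) (kgi xgi3 ygi49 zgi32)) (@D3.rec (fun _ => Pt) (kgi xgi14 ygi18 zgi17) (kgi xgi14 ygi27 zgi11) (kgi xgi14 ygi18 zgi15) (kgi xgi3 ygi55 zgi47) (kgi xgi14 ygi27 zgi18) (kgi xgi14 ygi27 zgi21) (kgi xgi14 ygi27 zgi24) (kgi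 xgi14 ygi18 zgi19) (kgi xgi14 ygi18 zgi18) (kgi xgi14 ygi27 zgi31) (kgi xgi14 ygi27 zgi34) (kgi xgi14 ygi27 zgi20) (kgi xgi14 ygi27 zgi37) (kgi xgi14 ygi22 zgi60) (kgi xgi7 ygi35 zgi50) (kgi xgi7 ygi4 zgi2) (kgi xgi14 ygi27 zgi44) (kgi xgi14 ygi27 zgi27) (kgi xgi7 ygi42 zgi38) (kgi xgi14 ygi27 zgi51) (kgi xgi3 ygi49 zgi42) (kgi xgi13 ygi32 zgi41) (kgi xgi14 ygi27 zgi60) (kgi xgi14 ygi18 zgi29) (kgi xgi14 ygi28 zgi3) (kgi xgi14 ygi28 zgi5) (kgi xgi14 ygi19 zgi57) (kgi xgi14 ygi28 zgi9) (kgi xgi7 ygi6 zgi35) (kgi xgi14 ygi25 zgi23) (kgi xgi7 ygi6 zgi37) (kgi xgi7 ygi16 zgi58) (kgi xgi14 ygi28 zgi15) (kgi xgi7 ygi6 zgi45) (kgi xgi14 ygi28 zgi18) (kgi xgi7 ygi6 zgi47) (kgi xgi7 ygi17 zgi5) (kgi xgi3 ygi49 zgi52) (kgi xgi14 ygi28 zgi22)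 (kgi xgi14 ygi28 zgi26) (kgi xgi13 ygi33 zgi40) (kgi xgi13 ygi26 zgi55) (kgi xgi14 ygi28 zgi33) (kgi xgi7 ygi13 zgi26) (kgi xgi3 ygi49 zgi55) (kgi xgi3 ygi49 zgi59) (kgi xgi11 ygi45 zgi23) (kgi xgi14 ygi28 zgi40) (kgi xgi12 ygi45 zgi25) (kgi xgi3 ygi49 zgi57) (kgi xgi13 ygi21 zgi17) (kgi xgi3 ygi52 zgi26) (kgi xgi12 ygi45 zgi18) (kgi xgi14 ygi19 zgi58) (kgi xgi12 ygi23 zgi49) (kgi xgi14 ygi28 zgi55) (kgi xgi14 ygi20 zgi54) (kgi xgi12 ygi47 zgi48) (kgi xgi11 ygi40 zgi17) (kgi xgi12 ygi33 zgi45) (kgi xgi3 ygi50 zgi1) (kgi xgi3 ygi50 zgi10)) (@D3.rec (fun _ => Pt) (kgi xgi10 ygi47 zgi26) (kgi xgi3 ygi50 zgi7) (kgi xgi12 ygi10 zgi10) (kgi xgi14 ygi29 zgi9) (kgi xgi3 ygi50 zgi3) (kgi xgi14 ygi2 zgi55) (kgi xgi14 ygi29 zgi15) (kgi xgi14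 ygi2 zgi53) (kgi xgi12 ygi33 zgi40) (kgi xgi9 ygi16 zgi26) (kgi xgi3 ygi50 zgi5) (kgi xgi11 ygi29 zgi56) (kgi xgi3 ygi50 zgi6) (kgi xgi14 ygi28 zgi59) (kgi xgi14 ygi29 zgi24) (kgi xgi14 ygi28 zgi57) (kgi xgi6 ygi56 zgi16) (kgi xgi14 ygi28 zgi37) (kgi xgi14 ygi25 zgi14) (kgi xgi14 ygi1 zgi24) (kgi xgi14 ygi19 zgi26) (kgi xgi14 ygi29 zgi27) (kgi xgi14 ygi29 zgi30) (kgi xgi14 ygi28 zgi47) (kgi xgi3 ygi50 zgi9) (kgi xgi14 ygi29 zgi5) (kgi xgi14 ygi2 zgi54) (kgi xgi14 ygi29 zgi3) (kgi xgi14 ygi29 zgi49) (kgi xgi14 ygi29 zgi53) (kgi xgi3 ygi50 zgi14) (kgi xgi7 ygi2 zgi21) (kgi xgi7 ygi44 zgi53) (kgi xgi7 ygi2 zgi22) (kgi xgi14 ygi10 zgi18) (kgi xgi14 ygi30 zgi2) (kgi xgi14 ygi30 zgi5) (kgi xgi6 ygi56 zgi24) (kgi xgi7 ygi45 zgi2) (kgi xgi14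 ygi29 zgi57) (kgi xgi3 ygi50 zgi17) (kgi xgi14 ygi18 zgi52) (kgi xgi14 ygi30 zgi16) (kgi xgi14 ygi18 zgi49) (kgi xgi14 ygi10 zgi19) (kgi xgi14 ygi30 zgi23) (kgi xgi3 ygi50 zgi20) (kgi xgi13 ygi42 zgi30) (kgi xgi14 ygi30 zgi30) (kgi xgi7 ygi38 zgi54) (kgi xgi14 ygi30 zgi35) (kgi xgi14 ygi20 zgi34) (kgi xgi3 ygi52 zgi15) (kgi xgi7 ygi14 zgi2) (kgi xgi3 ygi50 zgi58) (kgi xgi6 ygi54 zgi24) (kgi xgi5 ygi48 zgi31) (kgi xgi14 ygi10 zgi30) (kgi xgi14 ygi30 zgi44) (kgi xgi14 ygi10 zgi31) (kgi xgi13 ygi8 zgi9) (kgi xgi3 ygi50 zgi28)) (@D3.rec (fun _ => Pt) (kgi xgi3 ygi50 zgi38) (kgi xgi14 ygi30 zgi51) (kgi xgi3 ygi50 zgi35) (kgi xgi5 ygi25 zgi9) (kgi xgi11 ygi25 zgi41) (kgi xgi13 ygi45 zgi39) (kgi xgi14 ygi30 zgi57) (kgi xgi13 ygi41 zgi23)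 (kgi xgi7 ygi2 zgi13) (kgi xgi9 ygi6 zgi32) (kgi xgi3 ygi50 zgi34) (kgi xgi11 ygi30 zgi2) (kgi xgi14 ygi31 zgi5) (kgi xgi11 ygi29 zgi61) (kgi xgi13 ygi41 zgi24) (kgi xgi13 ygi34 zgi8) (kgi xgi6 ygi56 zgi4) (kgi xgi14 ygi31 zgi9) (kgi xgi14 ygi21 zgi15) (kgi xgi3 ygi50 zgi37) (kgi xgi14 ygi30 zgi53) (kgi xgi14 ygi31 zgi26) (kgi xgi14 ygi30 zgi50) (kgi xgi14 ygi31 zgi32) (kgi xgi14 ygi31 zgi35) (kgi xgi14 ygi19 zgi46) (kgi xgi14 ygi31 zgi31) (kgi xgi7 ygi2 zgi12) (kgi xgi3 ygi50 zgi41) (kgi xgi14 ygi19 zgi17) (kgi xgi14 ygi31 zgi48) (kgi xgi14 ygi19 zgi15) (kgi xgi14 ygi31 zgi53) (kgi xgi14 ygi19 zgi49) (kgi xgi14 ygi31 zgi59) (kgi xgi3 ygi50 zgi45) (kgi xgi13 ygi32 zgi33) (kgi xgi14 ygi32 zgi2) (kgi xgi7 ygi40 zgi14) (kgi xgi14 ygi32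 zgi7) (kgi xgi4 ygi44 zgi3) (kgi xgi14 ygi32 zgi10) (kgi xgi13 ygi45 zgi47) (kgi xgi12 ygi1 zgi10) (kgi xgi14 ygi32 zgi16) (kgi xgi3 ygi50 zgi50) (kgi xgi13 ygi45 zgi49) (kgi xgi14 ygi32 zgi26) (kgi xgi3 ygi50 zgi51) (kgi xgi14 ygi30 zgi13) (kgi xgi6 ygi56 zgi21) (kgi xgi3 ygi50 zgi52) (kgi xgi13 ygi9 zgi24) (kgi xgi3 ygi50 zgi53) (kgi xgi3 ygi51 zgi4) (kgi xgi11 ygi40 zgi54) (kgi xgi3 ygi51 zgi1) (kgi xgi6 ygi56 zgi15) (kgi xgi14 ygi5 zgi60) (kgi xgi14 ygi32 zgi12) (kgi xgi7 ygi18 zgi42) (kgi xgi3 ygi50 zgi56)) (@D3.rec (fun _ => Pt) (kgi xgi3 ygi51 zgi13) (kgi xgi14 ygi32 zgi51) (kgi xgi3 ygi51 zgi10) (kgi xgi14 ygi32 zgi55) (kgi xgi14 ygi32 zgi58) (kgi xgi3 ygi50 zgi59) (kgi xgi14 ygi33 zgi1) (kgi xgi6 ygi0 zgi36) (kgi xgi6 ygi0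 zgi32) (kgi xgi3 ygi50 zgi61) (kgi xgi6 ygi56 zgi38) (kgi xgi6 ygi56 zgi36) (kgi xgi14 ygi33 zgi9) (kgi xgi3 ygi51 zgi0) (kgi xgi6 ygi50 zgi40) (kgi xgi5 ygi14 zgi39) (kgi xgi6 ygi50 zgi37) (kgi xgi14 ygi32 zgi9) (kgi xgi6 ygi1 zgi15) (kgi xgi14 ygi33 zgi24) (kgi xgi14 ygi33 zgi27) (kgi xgi13 ygi15 zgi15) (kgi xgi5 ygi59 zgi30) (kgi xgi14 ygi33 zgi23) (kgi xgi6 ygi0 zgi45) (kgi xgi3 ygi51 zgi3) (kgi xgi14 ygi33 zgi39) (kgi xgi11 ygi58 zgi57) (kgi xgi3 ygi51 zgi5) (kgi xgi6 ygi55 zgi53) (kgi xgi14 ygi33 zgi48) (kgi xgi14 ygi33 zgi51) (kgi xgi3 ygi51 zgi6) (kgi xgi3 ygi51 zgi9) (kgi xgi14 ygi33 zgi58) (kgi xgi14 ygi34 zgi0) (kgi xgi7 ygi2 zgi5) (kgi xgi12 ygi51 zgi40) (kgi xgi14 ygi22 zgi21) (kgi xgi14 ygi34 zgi7) (kgi xgi14 ygi33 zgi57)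 (kgi xgi10 ygi59 zgi54) (kgi xgi14 ygi32 zgi11) (kgi xgi13 ygi7 zgi58) (kgi xgi14 ygi34 zgi21) (kgi xgi14 ygi34 zgi4) (kgi xgi14 ygi34 zgi16) (kgi xgi14 ygi34 zgi30) (kgi xgi3 ygi51 zgi12) (kgi xgi14 ygi32 zgi53) (kgi xgi14 ygi34 zgi39) (kgi xgi14 ygi5 zgi54) (kgi xgi14 ygi32 zgi50) (kgi xgi14 ygi34 zgi46) (kgi xgi4 ygi46 zgi29) (kgi xgi3 ygi51 zgi15) (kgi xgi9 ygi11 zgi14) (kgi xgi12 ygi14 zgi18) (kgi xgi14 ygi34 zgi54) (kgi xgi3 ygi51 zgi16) (kgi xgi14 ygi34 zgi49) (kgi xgi14 ygi35 zgi1)) (@D3.rec (fun _ => Pt) (kgi xgi14 ygi34 zgi47) (kgi xgi12 ygi45 zgi19) (kgi xgi14 ygi35 zgi8) (kgi xgi14 ygi21 zgi1) (kgi xgi14 ygi35 zgi7) (kgi xgi3 ygi51 zgi19) (kgi xgi13 ygi19 zgi58) (kgi xgi14 ygi35 zgi17) (kgi xgi13 ygi19 zgi55) (kgi xgi9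 ygi30 zgi52) (kgi xgi3 ygi51 zgi22) (kgi xgi6 ygi47 zgi18) (kgi xgi14 ygi35 zgi31) (kgi xgi14 ygi35 zgi22) (kgi xgi14 ygi35 zgi35) (kgi xgi14 ygi35 zgi38) (kgi xgi14 ygi35 zgi34) (kgi xgi3 ygi51 zgi38) (kgi xgi3 ygi51 zgi25) (kgi xgi13 ygi19 zgi32) (kgi xgi13 ygi19 zgi30) (kgi xgi14 ygi35 zgi45) (kgi xgi4 ygi41 zgi40) (kgi xgi12 ygi45 zgi13) (kgi xgi6 ygi1 zgi40) (kgi xgi14 ygi35 zgi50) (kgi xgi14 ygi35 zgi54) (kgi xgi3 ygi51 zgi30) (kgi xgi14 ygi35 zgi56) (kgi xgi11 ygi38 zgi33) (kgi xgi14 ygi35 zgi53) (kgi xgi14 ygi36 zgi5) (kgi xgi14 ygi36 zgi8) (kgi xgi12 ygi45 zgi12) (kgi xgi14 ygi36 zgi4) (kgi xgi3 ygi51 zgi33) (kgi xgi12 ygi45 zgi52) (kgi xgi14 ygi36 zgi16) (kgi xgi12 ygi45 zgi58) (kgi xgi3 ygi51 zgi35) (kgi xgi6 ygi38 zgi22)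 (kgi xgi14 ygi34 zgi50) (kgi xgi10 ygi39 zgi6) (kgi xgi14 ygi36 zgi30) (kgi xgi3 ygi51 zgi36) (kgi xgi12 ygi36 zgi11) (kgi xgi14 ygi36 zgi38) (kgi xgi14 ygi36 zgi40) (kgi xgi3 ygi51 zgi37) (kgi xgi3 ygi51 zgi41) (kgi xgi14 ygi36 zgi47) (kgi xgi14 ygi36 zgi52) (kgi xgi14 ygi20 zgi52) (kgi xgi13 ygi20 zgi58) (kgi xgi13 ygi19 zgi29) (kgi xgi10 ygi42 zgi45) (kgi xgi11 ygi44 zgi39) (kgi xgi4 ygi34 zgi35) (kgi xgi14 ygi36 zgi61) (kgi xgi14 ygi36 zgi37) (kgi xgi12 ygi36 zgi22) (kgi xgi14 ygi36 zgi46)) (@D3.rec (fun _ => Pt) (kgi xgi14 ygi21 zgi18) (kgi xgi3 ygi51 zgi42) (kgi xgi7 ygi41 zgi35) (kgi xgi14 ygi20 zgi61) (kgi xgi14 ygi28 zgi56) (kgi xgi14 ygi37 zgi18) (kgi xgi11 ygi58 zgi50) (kgi xgi14 ygi37 zgi24) (kgi xgi14 ygi36 zgi57) (kgi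 xgi14 ygi37 zgi17) (kgi xgi14 ygi31 zgi42) (kgi xgi14 ygi37 zgi31) (kgi xgi3 ygi51 zgi45) (kgi xgi14 ygi21 zgi12) (kgi xgi14 ygi37 zgi40) (kgi xgi14 ygi37 zgi36) (kgi xgi14 ygi21 zgi8) (kgi xgi14 ygi21 zgi44) (kgi xgi12 ygi45 zgi28) (kgi xgi13 ygi19 zgi13) (kgi xgi7 ygi31 zgi8) (kgi xgi14 ygi37 zgi54) (kgi xgi4 ygi46 zgi33) (kgi xgi14 ygi30 zgi42) (kgi xgi12 ygi35 zgi27) (kgi xgi14 ygi37 zgi53) (kgi xgi13 ygi19 zgi27) (kgi xgi3 ygi51 zgi50) (kgi xgi12 ygi45 zgi31) (kgi xgi14 ygi38 zgi8) (kgi xgi14 ygi28 zgi54) (kgi xgi3 ygi52 zgi11) (kgi xgi6 ygi40 zgi42) (kgi xgi13 ygi34 zgi55) (kgi xgi12 ygi25 zgi24) (kgi xgi14 ygi38 zgi14) (kgi xgi3 ygi51 zgi54) (kgi xgi10 ygi31 zgi48) (kgi xgi6 ygi36 zgi40) (kgi xgi10 ygi39 zgi15) (kgi xgi3 ygi51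 zgi55) (kgi xgi14 ygi38 zgi13) (kgi xgi14 ygi38 zgi25) (kgi xgi14 ygi19 zgi7) (kgi xgi6 ygi57 zgi42) (kgi xgi3 ygi56 zgi50) (kgi xgi11 ygi0 zgi44) (kgi xgi3 ygi52 zgi53) (kgi xgi14 ygi38 zgi33) (kgi xgi3 ygi53 zgi17) (kgi xgi14 ygi37 zgi10) (kgi xgi3 ygi52 zgi0) (kgi xgi3 ygi52 zgi8) (kgi xgi14 ygi38 zgi43) (kgi xgi14 ygi38 zgi46) (kgi xgi3 ygi52 zgi1) (kgi xgi10 ygi31 zgi35) (kgi xgi14 ygi38 zgi54) (kgi xgi14 ygi21 zgi20) (kgi xgi13 ygi22 zgi47) (kgi xgi5 ygi21 zgi35) (kgi xgi6 ygi57 zgi22)) (@D3.rec (fun _ => Pt) (kgi xgi13 ygi35 zgi13) (kgi xgi6 ygi57 zgi23) (kgi xgi14 ygi39 zgi2) (kgi xgi3 ygi52 zgi7) (kgi xgi14 ygi38 zgi60) (kgi xgi13 ygi35 zgi16) (kgi xgi13 ygi18 zgi40) (kgi xgi14 ygi18 zgi56) (kgi xgi12 ygi48 zgi6) (kgi xgi14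 ygi39 zgi9) (kgi xgi3 ygi52 zgi12) (kgi xgi3 ygi52 zgi16) (kgi xgi14 ygi39 zgi14) (kgi xgi14 ygi39 zgi16) (kgi xgi3 ygi52 zgi14) (kgi xgi5 ygi21 zgi39) (kgi xgi14 ygi39 zgi25) (kgi xgi14 ygi21 zgi29) (kgi xgi14 ygi21 zgi14) (kgi xgi5 ygi21 zgi36) (kgi xgi14 ygi39 zgi31) (kgi xgi14 ygi39 zgi32) (kgi xgi10 ygi1 zgi8) (kgi xgi14 ygi39 zgi35) (kgi xgi3 ygi52 zgi18) (kgi xgi14 ygi21 zgi36) (kgi xgi14 ygi39 zgi44) (kgi xgi14 ygi21 zgi34) (kgi xgi14 ygi39 zgi47) (kgi xgi14 ygi39 zgi22) (kgi xgi14 ygi39 zgi53) (kgi xgi14 ygi39 zgi41) (kgi xgi3 ygi52 zgi21) (kgi xgi14 ygi39 zgi59) (kgi xgi14 ygi40 zgi3) (kgi xgi14 ygi40 zgi10) (kgi xgi14 ygi39 zgi60) (kgi xgi13 ygi22 zgi4) (kgi xgi14 ygi40 zgi17) (kgi xgi3 ygi52 zgi24) (kgi xgi14 ygi21 zgi13)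 (kgi xgi14 ygi40 zgi25) (kgi xgi14 ygi10 zgi37) (kgi xgi14 ygi40 zgi29) (kgi xgi14 ygi29 zgi41) (kgi xgi3 ygi52 zgi27) (kgi xgi3 ygi52 zgi30) (kgi xgi14 ygi40 zgi37) (kgi xgi14 ygi40 zgi39) (kgi xgi7 ygi2 zgi61) (kgi xgi14 ygi40 zgi43) (kgi xgi14 ygi14 zgi61) (kgi xgi14 ygi40 zgi49) (kgi xgi14 ygi18 zgi59) (kgi xgi7 ygi37 zgi52) (kgi xgi14 ygi40 zgi55) (kgi xgi14 ygi30 zgi46) (kgi xgi14 ygi40 zgi53) (kgi xgi14 ygi40 zgi61) (kgi xgi3 ygi52 zgi33) (kgi xgi14 ygi10 zgi39) (kgi xgi14 ygi41 zgi7)) (@D3.rec (fun _ => Pt) (kgi xgi13 ygi27 zgi6) (kgi xgi3 ygi52 zgi36) (kgi xgi6 ygi56 zgi14) (kgi xgi14 ygi41 zgi16) (kgi xgi14 ygi41 zgi19) (kgi xgi6 ygi54 zgi25) (kgi xgi7 ygi3 zgi9) (kgi xgi13 ygi10 zgi35) (kgi xgi6 ygi51 zgi36) (kgi xgi3 ygi52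 zgi45) (kgi xgi13 ygi29 zgi59) (kgi xgi13 ygi29 zgi60) (kgi xgi14 ygi41 zgi32) (kgi xgi7 ygi36 zgi59) (kgi xgi14 ygi41 zgi36) (kgi xgi3 ygi55 zgi56) (kgi xgi6 ygi43 zgi25) (kgi xgi13 ygi23 zgi12) (kgi xgi14 ygi22 zgi10) (kgi xgi7 ygi47 zgi50) (kgi xgi3 ygi52 zgi49) (kgi xgi14 ygi22 zgi8) (kgi xgi14 ygi41 zgi51) (kgi xgi14 ygi41 zgi56) (kgi xgi3 ygi52 zgi50) (kgi xgi7 ygi47 zgi52) (kgi xgi14 ygi41 zgi61) (kgi xgi14 ygi41 zgi29) (kgi xgi7 ygi36 zgi51) (kgi xgi14 ygi42 zgi7) (kgi xgi5 ygi25 zgi6) (kgi xgi7 ygi36 zgi57) (kgi xgi7 ygi0 zgi11) (kgi xgi14 ygi42 zgi16) (kgi xgi14 ygi42 zgi19) (kgi xgi14 ygi38 zgi50) (kgi xgi3 ygi52 zgi54) (kgi xgi14 ygi22 zgi4) (kgi xgi14 ygi42 zgi31) (kgi xgi14 ygi22 zgi2) (kgi xgi14 ygi3 zgi25) (kgi xgi7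 ygi32 zgi9) (kgi xgi7 ygi2 zgi59) (kgi xgi14 ygi42 zgi37) (kgi xgi7 ygi0 zgi1) (kgi xgi6 ygi59 zgi60) (kgi xgi14 ygi42 zgi41) (kgi xgi7 ygi0 zgi13) (kgi xgi14 ygi42 zgi45) (kgi xgi7 ygi0 zgi9) (kgi xgi3 ygi52 zgi61) (kgi xgi7 ygi47 zgi19) (kgi xgi7 ygi47 zgi24) (kgi xgi9 ygi16 zgi13) (kgi xgi13 ygi27 zgi25) (kgi xgi14 ygi42 zgi54) (kgi xgi3 ygi53 zgi10) (kgi xgi13 ygi40 zgi44) (kgi xgi13 ygi40 zgi43) (kgi xgi14 ygi42 zgi59) (kgi xgi14 ygi43 zgi1) (kgi xgi3 ygi53 zgi5)) (@D3.rec (fun _ => Pt) (kgi xgi7 ygi7 zgi42) (kgi xgi9 ygi59 zgi0) (kgi xgi8 ygi43 zgi30) (kgi xgi7 ygi0 zgi5) (kgi xgi14 ygi43 zgi11) (kgi xgi14 ygi25 zgi52) (kgi xgi14 ygi21 zgi54) (kgi xgi14 ygi3 zgi36) (kgi xgi3 ygi53 zgi15) (kgi xgi14 ygi21 zgi53) (kgi xgi14 ygi43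 zgi24) (kgi xgi14 ygi43 zgi28) (kgi xgi3 ygi53 zgi16) (kgi xgi13 ygi6 zgi57) (kgi xgi7 ygi20 zgi52) (kgi xgi14 ygi43 zgi35) (kgi xgi10 ygi39 zgi53) (kgi xgi3 ygi53 zgi18) (kgi xgi14 ygi22 zgi19) (kgi xgi14 ygi43 zgi47) (kgi xgi14 ygi22 zgi16) (kgi xgi7 ygi33 zgi37) (kgi xgi7 ygi1 zgi4) (kgi xgi3 ygi53 zgi22) (kgi xgi14 ygi22 zgi5) (kgi xgi13 ygi39 zgi18) (kgi xgi13 ygi23 zgi23) (kgi xgi14 ygi43 zgi57) (kgi xgi14 ygi43 zgi59) (kgi xgi14 ygi23 zgi27) (kgi xgi3 ygi53 zgi27) (kgi xgi3 ygi53 zgi30) (kgi xgi14 ygi40 zgi36) (kgi xgi14 ygi44 zgi9) (kgi xgi7 ygi32 zgi25) (kgi xgi14 ygi44 zgi13) (kgi xgi14 ygi40 zgi34) (kgi xgi14 ygi44 zgi19) (kgi xgi3 ygi55 zgi53) (kgi xgi8 ygi45 zgi55) (kgi xgi7 ygi5 zgi46) (kgi xgi14 ygi44 zgi25) (kgi xgi7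 ygi4 zgi24) (kgi xgi7 ygi12 zgi44) (kgi xgi14 ygi44 zgi31) (kgi xgi6 ygi9 zgi40) (kgi xgi14 ygi44 zgi34) (kgi xgi14 ygi44 zgi36) (kgi xgi9 ygi29 zgi45) (kgi xgi3 ygi53 zgi37) (kgi xgi14 ygi44 zgi41) (kgi xgi8 ygi33 zgi32) (kgi xgi3 ygi53 zgi39) (kgi xgi12 ygi16 zgi29) (kgi xgi13 ygi23 zgi56) (kgi xgi3 ygi53 zgi41) (kgi xgi13 ygi15 zgi7) (kgi xgi13 ygi15 zgi5) (kgi xgi13 ygi16 zgi9) (kgi xgi13 ygi15 zgi28) (kgi xgi14 ygi44 zgi53) (kgi xgi7 ygi3 zgi40)) (@D3.rec (fun _ => Pt) (kgi xgi3 ygi53 zgi44) (kgi xgi13 ygi24 zgi2) (kgi xgi13 ygi24 zgi0) (kgi xgi14 ygi44 zgi61) (kgi xgi14 ygi45 zgi3) (kgi xgi3 ygi53 zgi46) (kgi xgi13 ygi24 zgi5) (kgi xgi13 ygi24 zgi3) (kgi xgi12 ygi8 zgi27) (kgi xgi6 ygi14 zgi50) (kgi xgi14 ygi45 zgi13) (kgi xgi7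 ygi6 zgi18) (kgi xgi13 ygi30 zgi53) (kgi xgi7 ygi16 zgi57) (kgi xgi7 ygi18 zgi25) (kgi xgi14 ygi45 zgi23) (kgi xgi14 ygi45 zgi26) (kgi xgi14 ygi45 zgi29) (kgi xgi3 ygi53 zgi53) (kgi xgi14 ygi10 zgi53) (kgi xgi13 ygi50 zgi50) (kgi xgi7 ygi20 zgi19) (kgi xgi7 ygi26 zgi7) (kgi xgi3 ygi53 zgi55) (kgi xgi7 ygi51 zgi19) (kgi xgi14 ygi45 zgi46) (kgi xgi7 ygi51 zgi16) (kgi xgi3 ygi53 zgi56) (kgi xgi3 ygi54 zgi18) (kgi xgi13 ygi58 zgi57) (kgi xgi3 ygi54 zgi15) (kgi xgi7 ygi5 zgi4) (kgi xgi3 ygi56 zgi3) (kgi xgi3 ygi53 zgi58) (kgi xgi10 ygi35 zgi34) (kgi xgi3 ygi54 zgi25) (kgi xgi7 ygi25 zgi4) (kgi xgi11 ygi51 zgi8) (kgi xgi13 ygi9 zgi38) (kgi xgi7 ygi26 zgi1) (kgi xgi13 ygi9 zgi21) (kgi xgi7 ygi35 zgi36) (kgi xgi7 ygi51 zgi24) (kgi xgi14 ygi24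 zgi39) (kgi xgi14 ygi46 zgi9) (kgi xgi3 ygi54 zgi5) (kgi xgi14 ygi46 zgi10) (kgi xgi14 ygi46 zgi15) (kgi xgi14 ygi46 zgi8) (kgi xgi3 ygi54 zgi6) (kgi xgi14 ygi3 zgi19) (kgi xgi7 ygi51 zgi51) (kgi xgi3 ygi54 zgi22) (kgi xgi7 ygi52 zgi19) (kgi xgi7 ygi54 zgi50) (kgi xgi3 ygi54 zgi11) (kgi xgi7 ygi54 zgi52) (kgi xgi14 ygi46 zgi25) (kgi xgi3 ygi56 zgi15) (kgi xgi12 ygi37 zgi7) (kgi xgi3 ygi54 zgi13) (kgi xgi7 ygi51 zgi57)) (@D3.rec (fun _ => Pt) (kgi xgi7 ygi59 zgi18) (kgi xgi3 ygi54 zgi14) (kgi xgi14 ygi46 zgi36) (kgi xgi9 ygi29 zgi16) (kgi xgi14 ygi6 zgi47) (kgi xgi11 ygi16 zgi51) (kgi xgi14 ygi46 zgi45) (kgi xgi14 ygi46 zgi48) (kgi xgi14 ygi40 zgi8) (kgi xgi14 ygi46 zgi44) (kgi xgi3 ygi54 zgi17) (kgi xgi14 ygi45 zgi52) (kgi xgi12 ygi47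 zgi53) (kgi xgi14 ygi40 zgi4) (kgi xgi3 ygi54 zgi19) (kgi xgi7 ygi51 zgi34) (kgi xgi14 ygi47 zgi4) (kgi xgi14 ygi47 zgi7) (kgi xgi3 ygi54 zgi20) (kgi xgi6 ygi3 zgi50) (kgi xgi14 ygi47 zgi15) (kgi xgi13 ygi32 zgi54) (kgi xgi13 ygi32 zgi53) (kgi xgi14 ygi47 zgi21) (kgi xgi14 ygi47 zgi25) (kgi xgi14 ygi47 zgi11) (kgi xgi14 ygi47 zgi30) (kgi xgi7 ygi28 zgi4) (kgi xgi14 ygi46 zgi7) (kgi xgi6 ygi3 zgi36) (kgi xgi14 ygi47 zgi40) (kgi xgi14 ygi47 zgi17) (kgi xgi14 ygi47 zgi36) (kgi xgi14 ygi47 zgi48) (kgi xgi3 ygi54 zgi27) (kgi xgi13 ygi45 zgi59) (kgi xgi14 ygi47 zgi53) (kgi xgi13 ygi45 zgi57) (kgi xgi14 ygi45 zgi57) (kgi xgi14 ygi47 zgi59) (kgi xgi14 ygi47 zgi61) (kgi xgi13 ygi26 zgi1) (kgi xgi3 ygi54 zgi31) (kgi xgi7 ygi25 zgi7) (kgi xgi14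 ygi48 zgi4) (kgi xgi14 ygi48 zgi6) (kgi xgi3 ygi54 zgi32) (kgi xgi3 ygi54 zgi40) (kgi xgi13 ygi46 zgi14) (kgi xgi14 ygi48 zgi12) (kgi xgi6 ygi58 zgi40) (kgi xgi13 ygi55 zgi8) (kgi xgi7 ygi15 zgi45) (kgi xgi3 ygi54 zgi35) (kgi xgi3 ygi54 zgi42) (kgi xgi14 ygi48 zgi17) (kgi xgi6 ygi55 zgi34) (kgi xgi14 ygi26 zgi24) (kgi xgi7 ygi52 zgi51) (kgi xgi7 ygi10 zgi58) (kgi xgi13 ygi53 zgi59) (kgi xgi13 ygi53 zgi61)) (@D3.rec (fun _ => Pt) (kgi xgi14 ygi48 zgi30) (kgi xgi7 ygi45 zgi35) (kgi xgi14 ygi47 zgi9) (kgi xgi14 ygi48 zgi39) (kgi xgi3 ygi54 zgi41) (kgi xgi7 ygi27 zgi56) (kgi xgi7 ygi25 zgi36) (kgi xgi13 ygi23 zgi35) (kgi xgi6 ygi55 zgi36) (kgi xgi6 ygi54 zgi12) (kgi xgi13 ygi43 zgi10) (kgi xgi14 ygi48 zgi47) (kgi xgi7 ygi13 zgi1) (kgi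 xgi7 ygi25 zgi8) (kgi xgi3 ygi56 zgi31) (kgi xgi14 ygi48 zgi54) (kgi xgi3 ygi54 zgi49) (kgi xgi7 ygi49 zgi26) (kgi xgi14 ygi49 zgi2) (kgi xgi7 ygi49 zgi23) (kgi xgi3 ygi54 zgi50) (kgi xgi3 ygi55 zgi12) (kgi xgi14 ygi8 zgi23) (kgi xgi3 ygi55 zgi9) (kgi xgi14 ygi49 zgi15) (kgi xgi7 ygi11 zgi0) (kgi xgi3 ygi54 zgi52) (kgi xgi14 ygi0 zgi50) (kgi xgi3 ygi55 zgi18) (kgi xgi14 ygi48 zgi25) (kgi xgi14 ygi5 zgi45) (kgi xgi3 ygi55 zgi36) (kgi xgi14 ygi49 zgi29) (kgi xgi3 ygi55 zgi33) (kgi xgi7 ygi38 zgi47) (kgi xgi7 ygi35 zgi37) (kgi xgi11 ygi32 zgi48) (kgi xgi7 ygi54 zgi4) (kgi xgi3 ygi54 zgi61) (kgi xgi7 ygi54 zgi6) (kgi xgi14 ygi49 zgi38) (kgi xgi3 ygi55 zgi0) (kgi xgi13 ygi54 zgi24) (kgi xgi7 ygi35 zgi34) (kgi xgi3 ygi55 zgi15) (kgi xgi7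 ygi50 zgi22) (kgi xgi14 ygi49 zgi45) (kgi xgi3 ygi55 zgi4) (kgi xgi14 ygi49 zgi47) (kgi xgi14 ygi49 zgi50) (kgi xgi14 ygi49 zgi33) (kgi xgi3 ygi55 zgi5) (kgi xgi7 ygi49 zgi51) (kgi xgi13 ygi53 zgi26) (kgi xgi7 ygi49 zgi49) (kgi xgi3 ygi55 zgi7) (kgi xgi4 ygi34 zgi13) (kgi xgi7 ygi49 zgi60) (kgi xgi11 ygi14 zgi15) (kgi xgi3 ygi55 zgi8) (kgi xgi6 ygi42 zgi17) (kgi xgi14 ygi50 zgi13)) (@D3.rec (fun _ => Pt) (kgi xgi6 ygi42 zgi14) (kgi xgi7 ygi2 zgi57) (kgi xgi12 ygi31 zgi10) (kgi xgi14 ygi50 zgi23) (kgi xgi14 ygi50 zgi26) (kgi xgi14 ygi50 zgi27) (kgi xgi14 ygi50 zgi20) (kgi xgi14 ygi50 zgi22) (kgi xgi13 ygi57 zgi30) (kgi xgi3 ygi55 zgi11) (kgi xgi14 ygi49 zgi14) (kgi xgi14 ygi50 zgi44) (kgi xgi14 ygi49 zgi12) (kgi xgi3 ygi55 zgi13) (kgi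 xgi7 ygi49 zgi42) (kgi xgi3 ygi55 zgi14) (kgi xgi14 ygi50 zgi53) (kgi xgi14 ygi50 zgi56) (kgi xgi13 ygi43 zgi25) (kgi xgi11 ygi4 zgi4) (kgi xgi14 ygi50 zgi60) (kgi xgi14 ygi51 zgi1) (kgi xgi14 ygi50 zgi52) (kgi xgi14 ygi51 zgi5) (kgi xgi11 ygi3 zgi50) (kgi xgi13 ygi8 zgi59) (kgi xgi14 ygi51 zgi11) (kgi xgi14 ygi51 zgi8) (kgi xgi3 ygi55 zgi20) (kgi xgi14 ygi49 zgi21) (kgi xgi11 ygi43 zgi2) (kgi xgi6 ygi55 zgi2) (kgi xgi14 ygi49 zgi19) (kgi xgi14 ygi51 zgi25) (kgi xgi14 ygi51 zgi26) (kgi xgi13 ygi36 zgi32) (kgi xgi3 ygi55 zgi23) (kgi xgi7 ygi20 zgi18) (kgi xgi14 ygi51 zgi33) (kgi xgi3 ygi55 zgi24) (kgi xgi3 ygi55 zgi26) (kgi xgi13 ygi37 zgi9) (kgi xgi14 ygi51 zgi44) (kgi xgi14 ygi51 zgi47) (kgi xgi14 ygi3 zgi7) (kgi xgi13 ygi36 zgi61)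 (kgi xgi14 ygi51 zgi55) (kgi xgi3 ygi55 zgi27) (kgi xgi7 ygi22 zgi2) (kgi xgi3 ygi55 zgi29) (kgi xgi14 ygi51 zgi60) (kgi xgi7 ygi53 zgi23) (kgi xgi7 ygi17 zgi2) (kgi xgi14 ygi27 zgi40) (kgi xgi7 ygi50 zgi58) (kgi xgi7 ygi24 zgi32) (kgi xgi14 ygi52 zgi7) (kgi xgi14 ygi52 zgi10) (kgi xgi7 ygi18 zgi36) (kgi xgi13 ygi36 zgi41) (kgi xgi14 ygi52 zgi16) (kgi xgi3 ygi55 zgi37)) (@D3.rec (fun _ => Pt) (kgi xgi7 ygi6 zgi49) (kgi xgi14 ygi52 zgi22) (kgi xgi14 ygi52 zgi26) (kgi xgi7 ygi6 zgi19) (kgi xgi11 ygi44 zgi61) (kgi xgi13 ygi50 zgi6) (kgi xgi12 ygi17 zgi7) (kgi xgi3 ygi55 zgi42) (kgi xgi6 ygi55 zgi32) (kgi xgi11 ygi45 zgi2) (kgi xgi6 ygi55 zgi29) (kgi xgi13 ygi53 zgi53) (kgi xgi14 ygi46 zgi4) (kgi xgi13 ygi24 zgi29) (kgi xgi3 ygi55 zgi45)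 (kgi xgi6 ygi55 zgi41) (kgi xgi13 ygi44 zgi27) (kgi xgi10 ygi6 zgi12) (kgi xgi14 ygi18 zgi27) (kgi xgi3 ygi55 zgi49) (kgi xgi6 ygi54 zgi56) (kgi xgi9 ygi30 zgi43) (kgi xgi6 ygi54 zgi53) (kgi xgi7 ygi52 zgi54) (kgi xgi3 ygi55 zgi51) (kgi xgi6 ygi55 zgi3) (kgi xgi14 ygi22 zgi36) (kgi xgi14 ygi6 zgi0) (kgi xgi14 ygi45 zgi44) (kgi xgi14 ygi25 zgi49) (kgi xgi13 ygi50 zgi4) (kgi xgi6 ygi54 zgi45) (kgi xgi5 ygi24 zgi44) (kgi xgi14 ygi53 zgi3) (kgi xgi3 ygi55 zgi57) (kgi xgi3 ygi55 zgi60) (kgi xgi14 ygi33 zgi55) (kgi xgi14 ygi53 zgi13) (kgi xgi13 ygi5 zgi23) (kgi xgi14 ygi21 zgi58) (kgi xgi14 ygi33 zgi53) (kgi xgi5 ygi24 zgi51) (kgi xgi14 ygi53 zgi18) (kgi xgi7 ygi27 zgi59) (kgi xgi14 ygi53 zgi22) (kgi xgi7 ygi4 zgi59) (kgi xgi7 ygi22 zgi35)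 (kgi xgi14 ygi53 zgi28) (kgi xgi3 ygi56 zgi4) (kgi xgi7 ygi13 zgi61) (kgi xgi14 ygi53 zgi37) (kgi xgi14 ygi53 zgi41) (kgi xgi3 ygi56 zgi5) (kgi xgi13 ygi49 zgi42) (kgi xgi8 ygi44 zgi61) (kgi xgi7 ygi3 zgi4) (kgi xgi3 ygi56 zgi7) (kgi xgi7 ygi25 zgi11) (kgi xgi7 ygi25 zgi15) (kgi xgi14 ygi53 zgi59) (kgi xgi13 ygi25 zgi13) (kgi xgi14 ygi54 zgi3)) (@D3.rec (fun _ => Pt) (kgi xgi3 ygi56 zgi9) (kgi xgi14 ygi54 zgi7) (kgi xgi14 ygi52 zgi59) (kgi xgi14 ygi49 zgi0) (kgi xgi3 ygi56 zgi13) (kgi xgi7 ygi51 zgi37) (kgi xgi7 ygi51 zgi38) (kgi xgi14 ygi54 zgi16) (kgi xgi14 ygi2 zgi32) (kgi xgi14 ygi54 zgi22) (kgi xgi3 ygi56 zgi16) (kgi xgi7 ygi26 zgi8) (kgi xgi6 ygi27 zgi0) (kgi xgi14 ygi54 zgi34) (kgi xgi14 ygi54 zgi12) (kgi xgi14 ygi2 zgi27)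 (kgi xgi14 ygi54 zgi42) (kgi xgi14 ygi46 zgi23) (kgi xgi14 ygi2 zgi30) (kgi xgi14 ygi54 zgi49) (kgi xgi3 ygi56 zgi19) (kgi xgi7 ygi54 zgi27) (kgi xgi14 ygi54 zgi55) (kgi xgi13 ygi24 zgi37) (kgi xgi3 ygi56 zgi20) (kgi xgi3 ygi56 zgi39) (kgi xgi13 ygi25 zgi21) (kgi xgi7 ygi54 zgi20) (kgi xgi14 ygi54 zgi13) (kgi xgi14 ygi55 zgi2) (kgi xgi14 ygi55 zgi4) (kgi xgi7 ygi22 zgi5) (kgi xgi14 ygi55 zgi8) (kgi xgi6 ygi54 zgi30) (kgi xgi7 ygi28 zgi26) (kgi xgi14 ygi55 zgi13) (kgi xgi3 ygi56 zgi27) (kgi xgi14 ygi53 zgi56) (kgi xgi7 ygi28 zgi19) (kgi xgi14 ygi48 zgi42) (kgi xgi7 ygi28 zgi22) (kgi xgi3 ygi56 zgi29) (kgi xgi7 ygi21 zgi12) (kgi xgi14 ygi3 zgi15) (kgi xgi13 ygi25 zgi46) (kgi xgi14 ygi55 zgi29) (kgi xgi7 ygi20 zgi44) (kgi xgi12 ygi48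 zgi2) (kgi xgi13 ygi5 zgi6) (kgi xgi14 ygi55 zgi37) (kgi xgi3 ygi56 zgi34) (kgi xgi7 ygi49 zgi54) (kgi xgi7 ygi49 zgi55) (kgi xgi14 ygi55 zgi44) (kgi xgi13 ygi54 zgi21) (kgi xgi14 ygi55 zgi50) (kgi xgi3 ygi56 zgi36) (kgi xgi9 ygi20 zgi16) (kgi xgi14 ygi55 zgi58) (kgi xgi12 ygi47 zgi58) (kgi xgi13 ygi13 zgi6) (kgi xgi14 ygi56 zgi4)) (@D3.rec (fun _ => Pt) (kgi xgi14 ygi55 zgi41) (kgi xgi13 ygi54 zgi20) (kgi xgi12 ygi48 zgi39) (kgi xgi14 ygi56 zgi14) (kgi xgi7 ygi22 zgi8) (kgi xgi7 ygi55 zgi6) (kgi xgi3 ygi56 zgi40) (kgi xgi7 ygi55 zgi5) (kgi xgi14 ygi56 zgi29) (kgi xgi14 ygi55 zgi36) (kgi xgi14 ygi49 zgi36) (kgi xgi14 ygi56 zgi34) (kgi xgi13 ygi55 zgi11) (kgi xgi7 ygi2 zgi0) (kgi xgi14 ygi56 zgi40) (kgi xgi7 ygi20 zgi59) (kgi xgi12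 ygi25 zgi55) (kgi xgi4 ygi52 zgi33) (kgi xgi5 ygi39 zgi56) (kgi xgi14 ygi56 zgi47) (kgi xgi6 ygi54 zgi15) (kgi xgi10 ygi20 zgi54) (kgi xgi6 ygi52 zgi0) (kgi xgi13 ygi4 zgi30) (kgi xgi7 ygi0 zgi46) (kgi xgi8 ygi34 zgi36) (kgi xgi12 ygi20 zgi17) (kgi xgi14 ygi56 zgi61) (kgi xgi9 ygi33 zgi49) (kgi xgi4 ygi22 zgi15) (kgi xgi4 ygi18 zgi45) (kgi xgi14 ygi57 zgi6) (kgi xgi9 ygi34 zgi54) (kgi xgi14 ygi57 zgi9) (kgi xgi8 ygi25 zgi3) (kgi xgi3 ygi56 zgi60) (kgi xgi4 ygi21 zgi37) (kgi xgi4 ygi21 zgi35) (kgi xgi14 ygi57 zgi18) (kgi xgi8 ygi43 zgi21) (kgi xgi3 ygi57 zgi1) (kgi xgi4 ygi21 zgi46) (kgi xgi4 ygi21 zgi44) (kgi xgi4 ygi6 zgi11) (kgi xgi12 ygi18 zgi15) (kgi xgi3 ygi57 zgi3) (kgi xgi4 ygi21 zgi53) (kgi xgi4 ygi21 zgi50) (kgi xgi3 ygi57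 zgi4) (kgi xgi4 ygi21 zgi61) (kgi xgi4 ygi21 zgi59) (kgi xgi14 ygi57 zgi35) (kgi xgi14 ygi57 zgi28) (kgi xgi14 ygi57 zgi41) (kgi xgi8 ygi37 zgi1) (kgi xgi14 ygi57 zgi33) (kgi xgi3 ygi57 zgi7) (kgi xgi14 ygi57 zgi48) (kgi xgi14 ygi57 zgi53) (kgi xgi14 ygi57 zgi59) (kgi xgi14 ygi57 zgi49) (kgi xgi14 ygi58 zgi1)) (@D3.rec (fun _ => Pt) (kgi xgi9 ygi36 zgi27) (kgi xgi3 ygi57 zgi10) (kgi xgi4 ygi21 zgi28) (kgi xgi4 ygi22 zgi39) (kgi xgi5 ygi28 zgi16) (kgi xgi3 ygi57 zgi12) (kgi xgi14 ygi58 zgi12) (kgi xgi4 ygi6 zgi29) (kgi xgi14 ygi58 zgi15) (kgi xgi14 ygi57 zgi15) (kgi xgi4 ygi22 zgi25) (kgi xgi4 ygi22 zgi24) (kgi xgi3 ygi57 zgi17) (kgi xgi4 ygi22 zgi48) (kgi xgi4 ygi22 zgi46) (kgi xgi13 ygi30 zgi6) (kgi xgi14 ygi58 zgi25) (kgi xgi4 ygi24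 zgi60) (kgi xgi8 ygi43 zgi24) (kgi xgi14 ygi58 zgi31) (kgi xgi13 ygi30 zgi39) (kgi xgi14 ygi58 zgi36) (kgi xgi14 ygi58 zgi39) (kgi xgi6 ygi14 zgi31) (kgi xgi11 ygi23 zgi54) (kgi xgi3 ygi57 zgi30) (kgi xgi11 ygi13 zgi41) (kgi xgi14 ygi58 zgi50) (kgi xgi14 ygi58 zgi56) (kgi xgi12 ygi7 zgi18) (kgi xgi13 ygi30 zgi37) (kgi xgi14 ygi59 zgi0) (kgi xgi9 ygi2 zgi35) (kgi xgi14 ygi59 zgi6) (kgi xgi14 ygi59 zgi9) (kgi xgi14 ygi59 zgi13) (kgi xgi3 ygi57 zgi35) (kgi xgi4 ygi23 zgi42) (kgi xgi4 ygi23 zgi40) (kgi xgi14 ygi59 zgi24) (kgi xgi5 ygi46 zgi45) (kgi xgi8 ygi3 zgi39) (kgi xgi3 ygi57 zgi39) (kgi xgi4 ygi24 zgi17) (kgi xgi11 ygi41 zgi19) (kgi xgi3 ygi57 zgi40) (kgi xgi4 ygi24 zgi7) (kgi xgi4 ygi24 zgi4) (kgi xgi4 ygi36 zgi54) (kgi xgi4 ygi27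 zgi4) (kgi xgi4 ygi24 zgi46) (kgi xgi5 ygi59 zgi49) (kgi xgi11 ygi7 zgi34) (kgi xgi3 ygi57 zgi45) (kgi xgi4 ygi24 zgi40) (kgi xgi4 ygi24 zgi38) (kgi xgi4 ygi36 zgi43) (kgi xgi4 ygi26 zgi56) (kgi xgi4 ygi0 zgi45) (kgi xgi3 ygi57 zgi48) (kgi xgi4 ygi25 zgi20) (kgi xgi14 ygi59 zgi46)) (@D3.rec (fun _ => Pt) (kgi xgi3 ygi57 zgi49) (kgi xgi4 ygi25 zgi10) (kgi xgi12 ygi7 zgi59) (kgi xgi4 ygi25 zgi7) (kgi xgi8 ygi3 zgi44) (kgi xgi11 ygi20 zgi60) (kgi xgi6 ygi14 zgi36) (kgi xgi7 ygi56 zgi56) (kgi xgi12 ygi6 zgi14) (kgi xgi8 ygi48 zgi28) (kgi xgi11 ygi37 zgi32) (kgi xgi9 ygi2 zgi28) (kgi xgi11 ygi50 zgi31) (kgi xgi8 ygi50 zgi1) (kgi xgi15 ygi0 zgi2) (kgi xgi12 ygi6 zgi22) (kgi xgi8 ygi48 zgi6) (kgi xgi11 ygi37 zgi18) (kgi xgi15 ygi0 zgi6)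 (kgi xgi3 ygi57 zgi60) (kgi xgi6 ygi7 zgi39) (kgi xgi15 ygi0 zgi10) (kgi xgi3 ygi57 zgi61) (kgi xgi15 ygi0 zgi3) (kgi xgi15 ygi0 zgi1) (kgi xgi12 ygi6 zgi19) (kgi xgi15 ygi0 zgi25) (kgi xgi15 ygi0 zgi28) (kgi xgi11 ygi34 zgi3) (kgi xgi15 ygi0 zgi24) (kgi xgi11 ygi11 zgi43) (kgi xgi3 ygi58 zgi4) (kgi xgi5 ygi2 zgi46) (kgi xgi15 ygi0 zgi42) (kgi xgi15 ygi0 zgi46) (kgi xgi15 ygi0 zgi49) (kgi xgi10 ygi20 zgi19) (kgi xgi5 ygi27 zgi43) (kgi xgi5 ygi36 zgi56) (kgi xgi8 ygi20 zgi23) (kgi xgi4 ygi31 zgi39) (kgi xgi5 ygi14 zgi57) (kgi xgi15 ygi1 zgi1) (kgi xgi8 ygi20 zgi21) (kgi xgi4 ygi56 zgi9) (kgi xgi15 ygi1 zgi8) (kgi xgi8 ygi7 zgi50) (kgi xgi3 ygi58 zgi30) (kgi xgi8 ygi14 zgi4) (kgi xgi5 ygi20 zgi27) (kgi xgi10 ygi36 zgi49) (kgi xgi4 ygi10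 zgi13) (kgi xgi15 ygi1 zgi19) (kgi xgi5 ygi37 zgi2) (kgi xgi4 ygi10 zgi6) (kgi xgi15 ygi1 zgi25) (kgi xgi3 ygi58 zgi17) (kgi xgi3 ygi58 zgi22) (kgi xgi15 ygi1 zgi34) (kgi xgi10 ygi32 zgi55) (kgi xgi15 ygi1 zgi41) (kgi xgi3 ygi58 zgi18)) (@D3.rec (fun _ => Pt) (kgi xgi5 ygi37 zgi1) (kgi xgi4 ygi30 zgi59) (kgi xgi8 ygi39 zgi47) (kgi xgi4 ygi28 zgi43) (kgi xgi9 ygi37 zgi44) (kgi xgi15 ygi1 zgi53) (kgi xgi15 ygi1 zgi38) (kgi xgi15 ygi1 zgi59) (kgi xgi5 ygi39 zgi39) (kgi xgi5 ygi39 zgi40) (kgi xgi10 ygi39 zgi28) (kgi xgi3 ygi58 zgi25) (kgi xgi15 ygi2 zgi5) (kgi xgi15 ygi2 zgi9) (kgi xgi15 ygi2 zgi12) (kgi xgi3 ygi58 zgi26) (kgi xgi15 ygi1 zgi2) (kgi xgi4 ygi55 zgi57) (kgi xgi10 ygi56 zgi38) (kgi xgi15 ygi2 zgi20) (kgi xgi10 ygi46 zgi32)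 (kgi xgi15 ygi2 zgi26) (kgi xgi3 ygi58 zgi29) (kgi xgi15 ygi1 zgi6) (kgi xgi11 ygi57 zgi10) (kgi xgi15 ygi1 zgi5) (kgi xgi15 ygi2 zgi34) (kgi xgi8 ygi37 zgi36) (kgi xgi15 ygi2 zgi16) (kgi xgi15 ygi2 zgi42) (kgi xgi11 ygi5 zgi1) (kgi xgi15 ygi2 zgi31) (kgi xgi3 ygi58 zgi32) (kgi xgi10 ygi54 zgi36) (kgi xgi10 ygi54 zgi38) (kgi xgi15 ygi2 zgi57) (kgi xgi3 ygi58 zgi33) (kgi xgi10 ygi32 zgi52) (kgi xgi10 ygi32 zgi51) (kgi xgi15 ygi3 zgi4) (kgi xgi8 ygi34 zgi0) (kgi xgi15 ygi3 zgi8) (kgi xgi3 ygi58 zgi35) (kgi xgi8 ygi13 zgi9) (kgi xgi9 ygi0 zgi45) (kgi xgi15 ygi3 zgi16) (kgi xgi3 ygi58 zgi37) (kgi xgi8 ygi27 zgi56) (kgi xgi8 ygi27 zgi54) (kgi xgi4 ygi54 zgi35) (kgi xgi5 ygi3 zgi41) (kgi xgi4 ygi56 zgi30) (kgi xgi4 ygi53 zgi26) (kgi xgi4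 ygi55 zgi33) (kgi xgi10 ygi54 zgi55) (kgi xgi10 ygi59 zgi38) (kgi xgi5 ygi28 zgi51) (kgi xgi8 ygi57 zgi32) (kgi xgi8 ygi57 zgi19) (kgi xgi10 ygi58 zgi55) (kgi xgi10 ygi55 zgi21) (kgi xgi10 ygi57 zgi25)) (@D3.rec (fun _ => Pt) (kgi xgi4 ygi57 zgi46) (kgi xgi4 ygi57 zgi48) (kgi xgi15 ygi3 zgi43) (kgi xgi11 ygi25 zgi56) (kgi xgi4 ygi56 zgi24) (kgi xgi4 ygi31 zgi17) (kgi xgi5 ygi5 zgi59) (kgi xgi6 ygi15 zgi26) (kgi xgi3 ygi59 zgi6) (kgi xgi4 ygi31 zgi56) (kgi xgi5 ygi41 zgi26) (kgi xgi4 ygi57 zgi15) (kgi xgi3 ygi58 zgi59) (kgi xgi3 ygi59 zgi2) (kgi xgi4 ygi32 zgi22) (kgi xgi12 ygi9 zgi17) (kgi xgi5 ygi41 zgi60) (kgi xgi12 ygi9 zgi25) (kgi xgi5 ygi40 zgi47) (kgi xgi5 ygi40 zgi54) (kgi xgi5 ygi40 zgi17) (kgi xgi4 ygi32 zgi8) (kgi xgi5 ygi40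 zgi23) (kgi xgi5 ygi7 zgi34) (kgi xgi4 ygi0 zgi29) (kgi xgi9 ygi19 zgi48) (kgi xgi7 ygi0 zgi43) (kgi xgi9 ygi19 zgi50) (kgi xgi15 ygi4 zgi4) (kgi xgi3 ygi59 zgi5) (kgi xgi3 ygi59 zgi10) (kgi xgi11 ygi23 zgi55) (kgi xgi15 ygi4 zgi11) (kgi xgi11 ygi16 zgi46) (kgi xgi11 ygi21 zgi1) (kgi xgi3 ygi59 zgi8) (kgi xgi5 ygi38 zgi8) (kgi xgi15 ygi4 zgi14) (kgi xgi15 ygi3 zgi49) (kgi xgi11 ygi55 zgi15) (kgi xgi15 ygi4 zgi22) (kgi xgi9 ygi3 zgi38) (kgi xgi3 ygi59 zgi9) (kgi xgi15 ygi4 zgi12) (kgi xgi15 ygi4 zgi10) (kgi xgi15 ygi4 zgi32) (kgi xgi11 ygi22 zgi42) (kgi xgi5 ygi38 zgi13) (kgi xgi12 ygi4 zgi23) (kgi xgi11 ygi55 zgi45) (kgi xgi4 ygi57 zgi58) (kgi xgi3 ygi59 zgi16) (kgi xgi4 ygi57 zgi57) (kgi xgi5 ygi47 zgi15) (kgi xgi4 ygi58 zgi55) (kgi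 xgi5 ygi47 zgi18) (kgi xgi5 ygi53 zgi59) (kgi xgi6 ygi14 zgi17) (kgi xgi11 ygi20 zgi55) (kgi xgi3 ygi59 zgi23) (kgi xgi5 ygi7 zgi13) (kgi xgi9 ygi19 zgi45))
def fi_g_8 : D2 → D3 → Pt := @D2.rec (fun _ => D3 → Pt) (@D3.rec (fun _ => Pt) (kgi xgi3 ygi59 zgi34) (kgi xgi5 ygi53 zgi56) (kgi xgi12 ygi49 zgi26) (kgi xgi11 ygi31 zgi11) (kgi xgi11 ygi36 zgi50) (kgi xgi4 ygi25 zgi16) (kgi xgi4 ygi23 zgi33) (kgi xgi11 ygi38 zgi51) (kgi xgi11 ygi8 zgi2) (kgi xgi4 ygi34 zgi47) (kgi xgi4 ygi24 zgi59) (kgi xgi5 ygi52 zgi55) (kgi xgi12 ygi10 zgi3) (kgi xgi4 ygi35 zgi55) (kgi xgi6 ygi49 zgi19) (kgi xgi12 ygi49 zgi23) (kgi xgi11 ygi31 zgi24) (kgi xgi10 ygi43 zgi24) (kgi xgi5 ygi52 zgi59) (kgi xgi12 ygi10 zgi8) (kgi xgi6 ygi49 zgi37) (kgi xgi14 ygi2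 zgi42) (kgi xgi3 ygi59 zgi40) (kgi xgi3 ygi59 zgi52) (kgi xgi3 ygi59 zgi50) (kgi xgi11 ygi44 zgi17) (kgi xgi3 ygi59 zgi42) (kgi xgi3 ygi59 zgi45) (kgi xgi12 ygi9 zgi50) (kgi xgi5 ygi49 zgi0) (kgi xgi5 ygi48 zgi14) (kgi xgi4 ygi35 zgi16) (kgi xgi11 ygi49 zgi9) (kgi xgi6 ygi49 zgi48) (kgi xgi9 ygi9 zgi24) (kgi xgi6 ygi8 zgi55) (kgi xgi11 ygi49 zgi51) (kgi xgi11 ygi30 zgi55) (kgi xgi5 ygi48 zgi55) (kgi xgi11 ygi28 zgi42) (kgi xgi3 ygi59 zgi49) (kgi xgi15 ygi5 zgi1) (kgi xgi5 ygi40 zgi43) (kgi xgi9 ygi12 zgi14) (kgi xgi6 ygi56 zgi40) (kgi xgi15 ygi5 zgi7) (kgi xgi15 ygi5 zgi28) (kgi xgi9 ygi18 zgi16) (kgi xgi11 ygi50 zgi6) (kgi xgi15 ygi5 zgi23) (kgi xgi15 ygi5 zgi27) (kgi xgi3 ygi59 zgi53) (kgi xgi4 ygi34 zgi28) (kgi xgi5 ygi48 zgi20)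 (kgi xgi15 ygi5 zgi39) (kgi xgi15 ygi5 zgi40) (kgi xgi3 ygi59 zgi57) (kgi xgi5 ygi0 zgi8) (kgi xgi11 ygi31 zgi29) (kgi xgi6 ygi3 zgi1) (kgi xgi4 ygi2 zgi16) (kgi xgi3 ygi59 zgi59)) (@D3.rec (fun _ => Pt) (kgi xgi8 ygi1 zgi43) (kgi xgi8 ygi1 zgi41) (kgi xgi4 ygi25 zgi6) (kgi xgi4 ygi23 zgi51) (kgi xgi6 ygi15 zgi16) (kgi xgi12 ygi6 zgi47) (kgi xgi15 ygi5 zgi50) (kgi xgi6 ygi15 zgi15) (kgi xgi15 ygi5 zgi54) (kgi xgi14 ygi59 zgi21) (kgi xgi4 ygi0 zgi4) (kgi xgi8 ygi2 zgi1) (kgi xgi8 ygi1 zgi61) (kgi xgi15 ygi6 zgi5) (kgi xgi8 ygi46 zgi52) (kgi xgi6 ygi24 zgi24) (kgi xgi15 ygi6 zgi10) (kgi xgi15 ygi6 zgi13) (kgi xgi4 ygi0 zgi10) (kgi xgi12 ygi22 zgi61) (kgi xgi12 ygi22 zgi58) (kgi xgi8 ygi45 zgi45) (kgi xgi15 ygi6 zgi26) (kgi xgi12 ygi22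 zgi43) (kgi xgi15 ygi6 zgi29) (kgi xgi15 ygi6 zgi25) (kgi xgi8 ygi45 zgi56) (kgi xgi4 ygi6 zgi9) (kgi xgi15 ygi6 zgi41) (kgi xgi4 ygi52 zgi58) (kgi xgi4 ygi52 zgi55) (kgi xgi15 ygi6 zgi44) (kgi xgi4 ygi0 zgi17) (kgi xgi4 ygi53 zgi0) (kgi xgi4 ygi0 zgi18) (kgi xgi15 ygi6 zgi46) (kgi xgi15 ygi6 zgi52) (kgi xgi15 ygi6 zgi59) (kgi xgi15 ygi6 zgi47) (kgi xgi15 ygi7 zgi1) (kgi xgi8 ygi42 zgi30) (kgi xgi4 ygi0 zgi22) (kgi xgi8 ygi1 zgi1) (kgi xgi8 ygi0 zgi61) (kgi xgi4 ygi0 zgi25) (kgi xgi4 ygi0 zgi27) (kgi xgi13 ygi30 zgi36) (kgi xgi8 ygi10 zgi27) (kgi xgi4 ygi32 zgi25) (kgi xgi13 ygi30 zgi58) (kgi xgi8 ygi45 zgi28) (kgi xgi9 ygi45 zgi10) (kgi xgi15 ygi7 zgi15) (kgi xgi4 ygi0 zgi28) (kgi xgi15 ygi7 zgi5) (kgi xgi15 ygi7 zgi24) (kgi xgi15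 ygi7 zgi30) (kgi xgi15 ygi7 zgi14) (kgi xgi9 ygi47 zgi3) (kgi xgi15 ygi7 zgi35) (kgi xgi8 ygi45 zgi16) (kgi xgi4 ygi0 zgi31)) (@D3.rec (fun _ => Pt) (kgi xgi8 ygi1 zgi12) (kgi xgi8 ygi1 zgi10) (kgi xgi15 ygi7 zgi47) (kgi xgi6 ygi13 zgi38) (kgi xgi4 ygi2 zgi9) (kgi xgi4 ygi39 zgi34) (kgi xgi11 ygi6 zgi49) (kgi xgi13 ygi31 zgi6) (kgi xgi4 ygi42 zgi45) (kgi xgi4 ygi0 zgi49) (kgi xgi8 ygi4 zgi42) (kgi xgi4 ygi0 zgi41) (kgi xgi11 ygi27 zgi27) (kgi xgi13 ygi46 zgi29) (kgi xgi10 ygi58 zgi51) (kgi xgi4 ygi0 zgi43) (kgi xgi8 ygi5 zgi8) (kgi xgi4 ygi20 zgi7) (kgi xgi15 ygi7 zgi59) (kgi xgi10 ygi52 zgi43) (kgi xgi12 ygi8 zgi36) (kgi xgi4 ygi0 zgi53) (kgi xgi4 ygi0 zgi48) (kgi xgi15 ygi8 zgi5) (kgi xgi14 ygi59 zgi31) (kgi xgi4 ygi35 zgi54) (kgi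 xgi12 ygi32 zgi19) (kgi xgi4 ygi0 zgi51) (kgi xgi15 ygi8 zgi6) (kgi xgi15 ygi8 zgi4) (kgi xgi15 ygi8 zgi19) (kgi xgi15 ygi8 zgi22) (kgi xgi15 ygi8 zgi25) (kgi xgi6 ygi13 zgi34) (kgi xgi14 ygi59 zgi28) (kgi xgi15 ygi8 zgi34) (kgi xgi15 ygi8 zgi37) (kgi xgi15 ygi8 zgi39) (kgi xgi15 ygi8 zgi33) (kgi xgi14 ygi59 zgi30) (kgi xgi4 ygi0 zgi58) (kgi xgi6 ygi13 zgi41) (kgi xgi8 ygi51 zgi46) (kgi xgi5 ygi32 zgi31) (kgi xgi15 ygi8 zgi57) (kgi xgi4 ygi55 zgi12) (kgi xgi5 ygi36 zgi10) (kgi xgi15 ygi9 zgi1) (kgi xgi15 ygi9 zgi3) (kgi xgi15 ygi9 zgi5) (kgi xgi8 ygi14 zgi14) (kgi xgi4 ygi3 zgi13) (kgi xgi4 ygi4 zgi18) (kgi xgi5 ygi31 zgi22) (kgi xgi15 ygi9 zgi11) (kgi xgi9 ygi43 zgi32) (kgi xgi4 ygi1 zgi6) (kgi xgi4 ygi3 zgi60) (kgi xgi15 ygi9 zgi19)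 (kgi xgi4 ygi3 zgi57) (kgi xgi15 ygi9 zgi22) (kgi xgi15 ygi9 zgi26)) (@D3.rec (fun _ => Pt) (kgi xgi4 ygi1 zgi8) (kgi xgi4 ygi4 zgi6) (kgi xgi4 ygi4 zgi4) (kgi xgi4 ygi1 zgi9) (kgi xgi8 ygi9 zgi16) (kgi xgi8 ygi9 zgi17) (kgi xgi4 ygi1 zgi10) (kgi xgi4 ygi3 zgi18) (kgi xgi4 ygi1 zgi43) (kgi xgi15 ygi9 zgi43) (kgi xgi10 ygi7 zgi52) (kgi xgi4 ygi1 zgi13) (kgi xgi8 ygi4 zgi41) (kgi xgi8 ygi4 zgi39) (kgi xgi4 ygi2 zgi14) (kgi xgi4 ygi2 zgi13) (kgi xgi4 ygi2 zgi8) (kgi xgi15 ygi9 zgi55) (kgi xgi15 ygi9 zgi57) (kgi xgi10 ygi8 zgi8) (kgi xgi4 ygi1 zgi20) (kgi xgi8 ygi4 zgi48) (kgi xgi8 ygi4 zgi46) (kgi xgi8 ygi38 zgi7) (kgi xgi15 ygi10 zgi5) (kgi xgi4 ygi1 zgi23) (kgi xgi8 ygi2 zgi4) (kgi xgi7 ygi17 zgi26) (kgi xgi4 ygi1 zgi26) (kgi xgi15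 ygi10 zgi10) (kgi xgi5 ygi7 zgi19) (kgi xgi5 ygi49 zgi12) (kgi xgi15 ygi10 zgi13) (kgi xgi4 ygi25 zgi4) (kgi xgi9 ygi9 zgi51) (kgi xgi4 ygi1 zgi29) (kgi xgi4 ygi1 zgi31) (kgi xgi15 ygi10 zgi20) (kgi xgi8 ygi4 zgi55) (kgi xgi8 ygi4 zgi54) (kgi xgi15 ygi10 zgi24) (kgi xgi7 ygi12 zgi9) (kgi xgi15 ygi10 zgi29) (kgi xgi4 ygi58 zgi5) (kgi xgi4 ygi20 zgi59) (kgi xgi15 ygi10 zgi35) (kgi xgi8 ygi45 zgi39) (kgi xgi15 ygi10 zgi40) (kgi xgi15 ygi10 zgi22) (kgi xgi13 ygi59 zgi18) (kgi xgi15 ygi10 zgi47) (kgi xgi15 ygi10 zgi51) (kgi xgi4 ygi1 zgi37) (kgi xgi8 ygi5 zgi23) (kgi xgi8 ygi5 zgi21) (kgi xgi15 ygi10 zgi61) (kgi xgi4 ygi1 zgi39) (kgi xgi5 ygi6 zgi4) (kgi xgi15 ygi11 zgi3) (kgi xgi4 ygi2 zgi4) (kgi xgi14 ygi57 zgi45) (kgi xgi4 ygi2 zgi30))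 (@D3.rec (fun _ => Pt) (kgi xgi15 ygi9 zgi50) (kgi xgi5 ygi8 zgi42) (kgi xgi5 ygi8 zgi40) (kgi xgi15 ygi11 zgi14) (kgi xgi4 ygi4 zgi57) (kgi xgi9 ygi52 zgi44) (kgi xgi4 ygi1 zgi44) (kgi xgi9 ygi57 zgi21) (kgi xgi5 ygi8 zgi51) (kgi xgi15 ygi11 zgi24) (kgi xgi15 ygi11 zgi27) (kgi xgi10 ygi7 zgi36) (kgi xgi15 ygi11 zgi33) (kgi xgi5 ygi9 zgi1) (kgi xgi5 ygi8 zgi61) (kgi xgi15 ygi11 zgi39) (kgi xgi15 ygi11 zgi42) (kgi xgi10 ygi7 zgi39) (kgi xgi15 ygi11 zgi48) (kgi xgi4 ygi1 zgi51) (kgi xgi5 ygi9 zgi6) (kgi xgi15 ygi11 zgi52) (kgi xgi10 ygi7 zgi28) (kgi xgi15 ygi11 zgi36) (kgi xgi15 ygi11 zgi60) (kgi xgi10 ygi7 zgi34) (kgi xgi9 ygi58 zgi55) (kgi xgi4 ygi1 zgi54) (kgi xgi15 ygi12 zgi4) (kgi xgi15 ygi12 zgi10) (kgi xgi15 ygi12 zgi17) (kgi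 xgi15 ygi12 zgi5) (kgi xgi4 ygi1 zgi55) (kgi xgi4 ygi2 zgi23) (kgi xgi15 ygi12 zgi26) (kgi xgi9 ygi54 zgi43) (kgi xgi15 ygi12 zgi30) (kgi xgi15 ygi12 zgi33) (kgi xgi15 ygi11 zgi11) (kgi xgi4 ygi1 zgi61) (kgi xgi8 ygi3 zgi13) (kgi xgi8 ygi3 zgi11) (kgi xgi8 ygi2 zgi17) (kgi xgi15 ygi12 zgi40) (kgi xgi15 ygi12 zgi43) (kgi xgi9 ygi52 zgi38) (kgi xgi4 ygi2 zgi5) (kgi xgi8 ygi3 zgi22) (kgi xgi8 ygi3 zgi20) (kgi xgi15 ygi12 zgi50) (kgi xgi15 ygi12 zgi54) (kgi xgi15 ygi12 zgi57) (kgi xgi8 ygi3 zgi26) (kgi xgi15 ygi12 zgi61) (kgi xgi4 ygi2 zgi12) (kgi xgi4 ygi24 zgi13) (kgi xgi13 ygi29 zgi22) (kgi xgi15 ygi13 zgi6) (kgi xgi15 ygi13 zgi9) (kgi xgi4 ygi24 zgi58) (kgi xgi4 ygi2 zgi18) (kgi xgi6 ygi15 zgi56)) (@D3.rec (fun _ => Pt) (kgi xgi12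 ygi6 zgi13) (kgi xgi15 ygi7 zgi57) (kgi xgi4 ygi4 zgi48) (kgi xgi4 ygi2 zgi20) (kgi xgi6 ygi16 zgi2) (kgi xgi15 ygi13 zgi15) (kgi xgi8 ygi38 zgi56) (kgi xgi6 ygi15 zgi10) (kgi xgi15 ygi13 zgi27) (kgi xgi4 ygi2 zgi19) (kgi xgi8 ygi38 zgi23) (kgi xgi14 ygi56 zgi26) (kgi xgi15 ygi13 zgi39) (kgi xgi8 ygi2 zgi16) (kgi xgi9 ygi44 zgi33) (kgi xgi14 ygi59 zgi25) (kgi xgi15 ygi13 zgi46) (kgi xgi9 ygi9 zgi53) (kgi xgi15 ygi13 zgi50) (kgi xgi15 ygi13 zgi53) (kgi xgi15 ygi13 zgi57) (kgi xgi4 ygi2 zgi24) (kgi xgi8 ygi3 zgi54) (kgi xgi8 ygi3 zgi52) (kgi xgi15 ygi14 zgi6) (kgi xgi6 ygi13 zgi61) (kgi xgi4 ygi2 zgi27) (kgi xgi8 ygi5 zgi50) (kgi xgi8 ygi5 zgi48) (kgi xgi4 ygi2 zgi28) (kgi xgi8 ygi5 zgi53) (kgi xgi8 ygi5 zgi51) (kgi xgi4 ygi2 zgi29)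 (kgi xgi15 ygi14 zgi12) (kgi xgi15 ygi14 zgi17) (kgi xgi14 ygi8 zgi41) (kgi xgi15 ygi14 zgi13) (kgi xgi15 ygi14 zgi24) (kgi xgi9 ygi54 zgi47) (kgi xgi4 ygi2 zgi32) (kgi xgi8 ygi5 zgi47) (kgi xgi5 ygi9 zgi46) (kgi xgi4 ygi3 zgi59) (kgi xgi8 ygi41 zgi44) (kgi xgi15 ygi14 zgi34) (kgi xgi5 ygi1 zgi25) (kgi xgi5 ygi0 zgi49) (kgi xgi8 ygi5 zgi39) (kgi xgi4 ygi2 zgi37) (kgi xgi8 ygi5 zgi28) (kgi xgi8 ygi5 zgi26) (kgi xgi4 ygi2 zgi38) (kgi xgi8 ygi5 zgi31) (kgi xgi8 ygi5 zgi29) (kgi xgi4 ygi2 zgi39) (kgi xgi15 ygi14 zgi44) (kgi xgi10 ygi13 zgi56) (kgi xgi15 ygi14 zgi55) (kgi xgi15 ygi14 zgi45) (kgi xgi15 ygi14 zgi58) (kgi xgi10 ygi9 zgi33) (kgi xgi4 ygi2 zgi42)) (@D3.rec (fun _ => Pt) (kgi xgi5 ygi19 zgi47) (kgi xgi4 ygi8 zgi40) (kgi xgi8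 ygi36 zgi29) (kgi xgi4 ygi6 zgi27) (kgi xgi15 ygi15 zgi6) (kgi xgi5 ygi30 zgi3) (kgi xgi15 ygi15 zgi9) (kgi xgi4 ygi28 zgi52) (kgi xgi15 ygi15 zgi12) (kgi xgi5 ygi32 zgi22) (kgi xgi15 ygi15 zgi18) (kgi xgi4 ygi2 zgi50) (kgi xgi4 ygi29 zgi32) (kgi xgi4 ygi29 zgi29) (kgi xgi15 ygi15 zgi26) (kgi xgi8 ygi55 zgi43) (kgi xgi15 ygi15 zgi23) (kgi xgi15 ygi15 zgi34) (kgi xgi8 ygi55 zgi48) (kgi xgi5 ygi32 zgi32) (kgi xgi4 ygi2 zgi53) (kgi xgi15 ygi15 zgi38) (kgi xgi15 ygi15 zgi44) (kgi xgi15 ygi15 zgi50) (kgi xgi15 ygi15 zgi39) (kgi xgi4 ygi2 zgi54) (kgi xgi4 ygi9 zgi54) (kgi xgi4 ygi9 zgi52) (kgi xgi15 ygi15 zgi60) (kgi xgi10 ygi23 zgi33) (kgi xgi15 ygi16 zgi1) (kgi xgi4 ygi2 zgi56) (kgi xgi15 ygi16 zgi7) (kgi xgi4 ygi3 zgi3) (kgi xgi15 ygi16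 zgi11) (kgi xgi4 ygi14 zgi24) (kgi xgi15 ygi16 zgi17) (kgi xgi4 ygi2 zgi60) (kgi xgi15 ygi9 zgi2) (kgi xgi9 ygi37 zgi39) (kgi xgi5 ygi10 zgi15) (kgi xgi5 ygi27 zgi44) (kgi xgi15 ygi16 zgi26) (kgi xgi9 ygi33 zgi42) (kgi xgi8 ygi9 zgi42) (kgi xgi4 ygi3 zgi4) (kgi xgi15 ygi16 zgi34) (kgi xgi8 ygi36 zgi43) (kgi xgi5 ygi0 zgi46) (kgi xgi15 ygi16 zgi37) (kgi xgi11 ygi4 zgi32) (kgi xgi15 ygi16 zgi40) (kgi xgi4 ygi3 zgi10) (kgi xgi8 ygi41 zgi5) (kgi xgi11 ygi55 zgi30) (kgi xgi15 ygi16 zgi49) (kgi xgi11 ygi4 zgi36) (kgi xgi11 ygi4 zgi25) (kgi xgi4 ygi3 zgi12) (kgi xgi11 ygi53 zgi28) (kgi xgi11 ygi53 zgi26) (kgi xgi15 ygi16 zgi61)) (@D3.rec (fun _ => Pt) (kgi xgi15 ygi16 zgi46) (kgi xgi15 ygi17 zgi4) (kgi xgi15 ygi16 zgi60) (kgi xgi15 ygi16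 zgi59) (kgi xgi4 ygi3 zgi15) (kgi xgi15 ygi17 zgi8) (kgi xgi15 ygi17 zgi14) (kgi xgi15 ygi17 zgi21) (kgi xgi15 ygi17 zgi9) (kgi xgi9 ygi33 zgi41) (kgi xgi9 ygi33 zgi39) (kgi xgi15 ygi17 zgi29) (kgi xgi8 ygi27 zgi18) (kgi xgi8 ygi9 zgi22) (kgi xgi5 ygi28 zgi19) (kgi xgi4 ygi3 zgi20) (kgi xgi15 ygi17 zgi36) (kgi xgi9 ygi51 zgi43) (kgi xgi11 ygi4 zgi14) (kgi xgi4 ygi27 zgi55) (kgi xgi4 ygi21 zgi10) (kgi xgi8 ygi9 zgi14) (kgi xgi15 ygi17 zgi48) (kgi xgi4 ygi3 zgi25) (kgi xgi8 ygi36 zgi46) (kgi xgi8 ygi36 zgi44) (kgi xgi15 ygi17 zgi54) (kgi xgi15 ygi17 zgi57) (kgi xgi4 ygi3 zgi28) (kgi xgi8 ygi36 zgi49) (kgi xgi8 ygi36 zgi47) (kgi xgi15 ygi18 zgi3) (kgi xgi4 ygi3 zgi29) (kgi xgi9 ygi37 zgi37) (kgi xgi15 ygi18 zgi12) (kgi xgi8 ygi9 zgi52)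 (kgi xgi4 ygi4 zgi26) (kgi xgi10 ygi30 zgi55) (kgi xgi8 ygi27 zgi42) (kgi xgi8 ygi9 zgi33) (kgi xgi4 ygi3 zgi32) (kgi xgi8 ygi39 zgi17) (kgi xgi15 ygi18 zgi22) (kgi xgi8 ygi39 zgi15) (kgi xgi15 ygi18 zgi26) (kgi xgi11 ygi54 zgi26) (kgi xgi10 ygi0 zgi55) (kgi xgi15 ygi16 zgi24) (kgi xgi15 ygi18 zgi30) (kgi xgi15 ygi18 zgi33) (kgi xgi7 ygi58 zgi40) (kgi xgi9 ygi1 zgi17) (kgi xgi4 ygi3 zgi41) (kgi xgi15 ygi18 zgi29) (kgi xgi15 ygi18 zgi41) (kgi xgi15 ygi18 zgi28) (kgi xgi4 ygi3 zgi46) (kgi xgi9 ygi37 zgi34) (kgi xgi9 ygi37 zgi32) (kgi xgi15 ygi18 zgi49) (kgi xgi15 ygi18 zgi51) (kgi xgi8 ygi10 zgi12)) (@D3.rec (fun _ => Pt) (kgi xgi4 ygi4 zgi40) (kgi xgi14 ygi56 zgi57) (kgi xgi15 ygi16 zgi6) (kgi xgi5 ygi39 zgi11) (kgi xgi4 ygi3 zgi50)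 (kgi xgi8 ygi36 zgi59) (kgi xgi11 ygi9 zgi36) (kgi xgi8 ygi36 zgi56) (kgi xgi15 ygi19 zgi4) (kgi xgi4 ygi22 zgi4) (kgi xgi4 ygi3 zgi53) (kgi xgi15 ygi19 zgi10) (kgi xgi8 ygi53 zgi31) (kgi xgi15 ygi19 zgi16) (kgi xgi4 ygi28 zgi14) (kgi xgi4 ygi28 zgi11) (kgi xgi4 ygi3 zgi55) (kgi xgi15 ygi9 zgi23) (kgi xgi15 ygi9 zgi21) (kgi xgi15 ygi19 zgi27) (kgi xgi4 ygi3 zgi56) (kgi xgi15 ygi9 zgi15) (kgi xgi15 ygi19 zgi36) (kgi xgi9 ygi43 zgi30) (kgi xgi5 ygi23 zgi61) (kgi xgi4 ygi4 zgi8) (kgi xgi15 ygi14 zgi10) (kgi xgi8 ygi28 zgi2) (kgi xgi15 ygi19 zgi43) (kgi xgi15 ygi9 zgi38) (kgi xgi15 ygi9 zgi20) (kgi xgi15 ygi19 zgi51) (kgi xgi5 ygi1 zgi22) (kgi xgi15 ygi19 zgi55) (kgi xgi15 ygi19 zgi58) (kgi xgi5 ygi36 zgi32) (kgi xgi9 ygi43 zgi58) (kgi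 xgi4 ygi4 zgi1) (kgi xgi15 ygi19 zgi56) (kgi xgi15 ygi19 zgi54) (kgi xgi4 ygi4 zgi2) (kgi xgi15 ygi9 zgi12) (kgi xgi10 ygi58 zgi58) (kgi xgi15 ygi20 zgi10) (kgi xgi4 ygi4 zgi3) (kgi xgi15 ygi9 zgi28) (kgi xgi15 ygi20 zgi19) (kgi xgi15 ygi9 zgi25) (kgi xgi4 ygi4 zgi10) (kgi xgi5 ygi24 zgi29) (kgi xgi15 ygi20 zgi26) (kgi xgi15 ygi8 zgi55) (kgi xgi8 ygi28 zgi13) (kgi xgi5 ygi24 zgi35) (kgi xgi4 ygi4 zgi7) (kgi xgi5 ygi33 zgi32) (kgi xgi5 ygi33 zgi35) (kgi xgi15 ygi20 zgi35) (kgi xgi15 ygi20 zgi39) (kgi xgi8 ygi27 zgi61) (kgi xgi4 ygi4 zgi9) (kgi xgi8 ygi27 zgi59)) (@D3.rec (fun _ => Pt) (kgi xgi8 ygi27 zgi57) (kgi xgi15 ygi20 zgi48) (kgi xgi15 ygi20 zgi50) (kgi xgi15 ygi20 zgi53) (kgi xgi8 ygi28 zgi10) (kgi xgi4 ygi4 zgi11) (kgi xgi4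 ygi4 zgi13) (kgi xgi15 ygi20 zgi60) (kgi xgi15 ygi21 zgi4) (kgi xgi8 ygi7 zgi21) (kgi xgi15 ygi19 zgi46) (kgi xgi4 ygi4 zgi15) (kgi xgi15 ygi20 zgi31) (kgi xgi15 ygi21 zgi3) (kgi xgi11 ygi8 zgi60) (kgi xgi15 ygi21 zgi25) (kgi xgi8 ygi3 zgi3) (kgi xgi4 ygi4 zgi14) (kgi xgi8 ygi3 zgi5) (kgi xgi15 ygi21 zgi36) (kgi xgi15 ygi21 zgi40) (kgi xgi15 ygi21 zgi43) (kgi xgi4 ygi4 zgi16) (kgi xgi8 ygi7 zgi13) (kgi xgi8 ygi9 zgi25) (kgi xgi4 ygi4 zgi17) (kgi xgi8 ygi9 zgi24) (kgi xgi15 ygi21 zgi57) (kgi xgi4 ygi14 zgi52) (kgi xgi8 ygi7 zgi39) (kgi xgi15 ygi16 zgi57) (kgi xgi8 ygi29 zgi10) (kgi xgi8 ygi28 zgi34) (kgi xgi15 ygi22 zgi0) (kgi xgi15 ygi9 zgi29) (kgi xgi15 ygi22 zgi11) (kgi xgi15 ygi22 zgi15) (kgi xgi4 ygi4 zgi21) (kgi xgi5 ygi38 zgi61)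 (kgi xgi5 ygi36 zgi26) (kgi xgi15 ygi22 zgi19) (kgi xgi15 ygi22 zgi22) (kgi xgi15 ygi22 zgi25) (kgi xgi5 ygi38 zgi56) (kgi xgi4 ygi50 zgi39) (kgi xgi4 ygi4 zgi25) (kgi xgi5 ygi39 zgi6) (kgi xgi5 ygi39 zgi4) (kgi xgi15 ygi22 zgi33) (kgi xgi15 ygi22 zgi36) (kgi xgi8 ygi27 zgi39) (kgi xgi8 ygi26 zgi22) (kgi xgi4 ygi52 zgi47) (kgi xgi15 ygi1 zgi16) (kgi xgi8 ygi7 zgi35) (kgi xgi11 ygi8 zgi37) (kgi xgi4 ygi4 zgi29) (kgi xgi8 ygi27 zgi48) (kgi xgi14 ygi50 zgi59) (kgi xgi4 ygi6 zgi28) (kgi xgi10 ygi4 zgi13) (kgi xgi10 ygi4 zgi11)) (@D3.rec (fun _ => Pt) (kgi xgi15 ygi22 zgi47) (kgi xgi15 ygi22 zgi50) (kgi xgi10 ygi0 zgi58) (kgi xgi4 ygi4 zgi37) (kgi xgi4 ygi31 zgi28) (kgi xgi4 ygi4 zgi39) (kgi xgi8 ygi27 zgi38) (kgi xgi8 ygi27 zgi36) (kgi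 xgi15 ygi23 zgi3) (kgi xgi15 ygi23 zgi6) (kgi xgi5 ygi39 zgi8) (kgi xgi4 ygi55 zgi10) (kgi xgi4 ygi19 zgi12) (kgi xgi4 ygi51 zgi36) (kgi xgi11 ygi4 zgi34) (kgi xgi8 ygi26 zgi48) (kgi xgi8 ygi7 zgi61) (kgi xgi4 ygi4 zgi43) (kgi xgi5 ygi39 zgi20) (kgi xgi15 ygi18 zgi60) (kgi xgi5 ygi39 zgi17) (kgi xgi15 ygi23 zgi27) (kgi xgi4 ygi21 zgi57) (kgi xgi4 ygi4 zgi47) (kgi xgi4 ygi14 zgi45) (kgi xgi4 ygi14 zgi43) (kgi xgi4 ygi23 zgi49) (kgi xgi8 ygi1 zgi50) (kgi xgi4 ygi21 zgi48) (kgi xgi15 ygi23 zgi36) (kgi xgi7 ygi19 zgi13) (kgi xgi4 ygi4 zgi52) (kgi xgi4 ygi4 zgi54) (kgi xgi10 ygi18 zgi24) (kgi xgi11 ygi33 zgi40) (kgi xgi5 ygi54 zgi26) (kgi xgi5 ygi54 zgi24) (kgi xgi15 ygi23 zgi47) (kgi xgi15 ygi23 zgi51) (kgi xgi5 ygi53 zgi54) (kgi xgi15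 ygi23 zgi54) (kgi xgi15 ygi14 zgi2) (kgi xgi4 ygi4 zgi58) (kgi xgi8 ygi26 zgi6) (kgi xgi8 ygi26 zgi4) (kgi xgi15 ygi23 zgi60) (kgi xgi4 ygi5 zgi0) (kgi xgi4 ygi19 zgi22) (kgi xgi15 ygi24 zgi6) (kgi xgi15 ygi24 zgi10) (kgi xgi15 ygi24 zgi13) (kgi xgi8 ygi18 zgi0) (kgi xgi10 ygi0 zgi43) (kgi xgi10 ygi0 zgi41) (kgi xgi4 ygi30 zgi54) (kgi xgi4 ygi7 zgi51) (kgi xgi15 ygi24 zgi23) (kgi xgi4 ygi5 zgi26) (kgi xgi12 ygi55 zgi59) (kgi xgi10 ygi15 zgi36) (kgi xgi4 ygi5 zgi23) (kgi xgi4 ygi55 zgi51)) (@D3.rec (fun _ => Pt) (kgi xgi5 ygi15 zgi33) (kgi xgi10 ygi29 zgi41) (kgi xgi15 ygi24 zgi33) (kgi xgi4 ygi13 zgi14) (kgi xgi5 ygi5 zgi20) (kgi xgi15 ygi24 zgi37) (kgi xgi5 ygi36 zgi9) (kgi xgi5 ygi4 zgi51) (kgi xgi15 ygi24 zgi43) (kgi xgi4 ygi5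 zgi12) (kgi xgi4 ygi5 zgi15) (kgi xgi15 ygi24 zgi50) (kgi xgi8 ygi39 zgi46) (kgi xgi15 ygi24 zgi55) (kgi xgi4 ygi5 zgi13) (kgi xgi5 ygi36 zgi54) (kgi xgi4 ygi5 zgi14) (kgi xgi5 ygi25 zgi50) (kgi xgi5 ygi38 zgi53) (kgi xgi9 ygi31 zgi24) (kgi xgi15 ygi24 zgi53) (kgi xgi10 ygi35 zgi28) (kgi xgi11 ygi57 zgi28) (kgi xgi11 ygi57 zgi29) (kgi xgi15 ygi25 zgi7) (kgi xgi4 ygi5 zgi18) (kgi xgi15 ygi25 zgi12) (kgi xgi15 ygi25 zgi17) (kgi xgi15 ygi25 zgi20) (kgi xgi4 ygi5 zgi19) (kgi xgi15 ygi24 zgi24) (kgi xgi8 ygi14 zgi25) (kgi xgi14 ygi23 zgi18) (kgi xgi6 ygi46 zgi3) (kgi xgi15 ygi25 zgi16) (kgi xgi15 ygi25 zgi33) (kgi xgi4 ygi5 zgi22) (kgi xgi15 ygi1 zgi47) (kgi xgi15 ygi1 zgi45) (kgi xgi15 ygi25 zgi37) (kgi xgi9 ygi56 zgi57) (kgi xgi15 ygi25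 zgi25) (kgi xgi15 ygi25 zgi44) (kgi xgi15 ygi25 zgi40) (kgi xgi11 ygi51 zgi28) (kgi xgi4 ygi5 zgi25) (kgi xgi8 ygi52 zgi51) (kgi xgi8 ygi52 zgi49) (kgi xgi15 ygi25 zgi53) (kgi xgi10 ygi16 zgi44) (kgi xgi10 ygi42 zgi41) (kgi xgi4 ygi5 zgi27) (kgi xgi4 ygi54 zgi42) (kgi xgi4 ygi5 zgi28) (kgi xgi8 ygi27 zgi28) (kgi xgi8 ygi27 zgi26) (kgi xgi8 ygi13 zgi5) (kgi xgi4 ygi52 zgi18) (kgi xgi4 ygi53 zgi27) (kgi xgi5 ygi10 zgi49) (kgi xgi8 ygi14 zgi43) (kgi xgi8 ygi14 zgi41)) (@D3.rec (fun _ => Pt) (kgi xgi10 ygi54 zgi44) (kgi xgi4 ygi5 zgi35) (kgi xgi4 ygi5 zgi37) (kgi xgi6 ygi8 zgi14) (kgi xgi6 ygi8 zgi11) (kgi xgi4 ygi32 zgi30) (kgi xgi5 ygi14 zgi32) (kgi xgi11 ygi25 zgi0) (kgi xgi4 ygi5 zgi42) (kgi xgi5 ygi50 zgi37) (kgi xgi15 ygi26 zgi14)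 (kgi xgi4 ygi5 zgi44) (kgi xgi5 ygi7 zgi22) (kgi xgi12 ygi25 zgi1) (kgi xgi6 ygi7 zgi49) (kgi xgi4 ygi5 zgi59) (kgi xgi4 ygi34 zgi20) (kgi xgi9 ygi32 zgi30) (kgi xgi4 ygi5 zgi50) (kgi xgi4 ygi5 zgi55) (kgi xgi4 ygi42 zgi49) (kgi xgi5 ygi54 zgi51) (kgi xgi6 ygi15 zgi44) (kgi xgi9 ygi44 zgi43) (kgi xgi5 ygi54 zgi54) (kgi xgi5 ygi7 zgi25) (kgi xgi11 ygi57 zgi34) (kgi xgi5 ygi7 zgi45) (kgi xgi5 ygi38 zgi21) (kgi xgi5 ygi54 zgi60) (kgi xgi6 ygi16 zgi28) (kgi xgi5 ygi54 zgi61) (kgi xgi12 ygi30 zgi32) (kgi xgi5 ygi52 zgi57) (kgi xgi4 ygi5 zgi58) (kgi xgi4 ygi6 zgi1) (kgi xgi5 ygi55 zgi9) (kgi xgi12 ygi30 zgi57) (kgi xgi11 ygi33 zgi49) (kgi xgi9 ygi47 zgi33) (kgi xgi11 ygi33 zgi48) (kgi xgi15 ygi26 zgi51) (kgi xgi5 ygi55 zgi6) (kgi xgi15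 ygi26 zgi56) (kgi xgi15 ygi26 zgi59) (kgi xgi12 ygi33 zgi34) (kgi xgi5 ygi54 zgi1) (kgi xgi4 ygi6 zgi0) (kgi xgi12 ygi31 zgi19) (kgi xgi15 ygi26 zgi44) (kgi xgi15 ygi27 zgi8) (kgi xgi8 ygi14 zgi35) (kgi xgi12 ygi30 zgi16) (kgi xgi5 ygi48 zgi3) (kgi xgi11 ygi31 zgi12) (kgi xgi8 ygi14 zgi61) (kgi xgi4 ygi6 zgi7) (kgi xgi8 ygi14 zgi60) (kgi xgi4 ygi6 zgi10) (kgi xgi15 ygi27 zgi17) (kgi xgi8 ygi40 zgi54) (kgi xgi6 ygi48 zgi38)) (@D3.rec (fun _ => Pt) (kgi xgi8 ygi30 zgi49) (kgi xgi4 ygi6 zgi13) (kgi xgi10 ygi35 zgi44) (kgi xgi10 ygi15 zgi42) (kgi xgi4 ygi15 zgi5) (kgi xgi15 ygi27 zgi33) (kgi xgi15 ygi27 zgi36) (kgi xgi15 ygi16 zgi22) (kgi xgi4 ygi6 zgi38) (kgi xgi7 ygi58 zgi42) (kgi xgi5 ygi17 zgi17) (kgi xgi10 ygi9 zgi44) (kgi xgi14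 ygi30 zgi37) (kgi xgi4 ygi20 zgi19) (kgi xgi4 ygi6 zgi20) (kgi xgi5 ygi23 zgi19) (kgi xgi15 ygi27 zgi50) (kgi xgi6 ygi4 zgi36) (kgi xgi11 ygi10 zgi34) (kgi xgi6 ygi4 zgi48) (kgi xgi4 ygi6 zgi24) (kgi xgi4 ygi6 zgi30) (kgi xgi15 ygi28 zgi1) (kgi xgi8 ygi39 zgi27) (kgi xgi15 ygi28 zgi8) (kgi xgi4 ygi6 zgi25) (kgi xgi9 ygi42 zgi45) (kgi xgi6 ygi7 zgi7) (kgi xgi4 ygi6 zgi26) (kgi xgi5 ygi28 zgi12) (kgi xgi8 ygi17 zgi11) (kgi xgi5 ygi19 zgi54) (kgi xgi9 ygi41 zgi0) (kgi xgi15 ygi28 zgi18) (kgi xgi15 ygi28 zgi5) (kgi xgi10 ygi46 zgi33) (kgi xgi15 ygi28 zgi26) (kgi xgi4 ygi6 zgi33) (kgi xgi15 ygi28 zgi31) (kgi xgi15 ygi28 zgi36) (kgi xgi15 ygi28 zgi39) (kgi xgi4 ygi6 zgi34) (kgi xgi15 ygi27 zgi34) (kgi xgi8 ygi11 zgi56) (kgi xgi15 ygi28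 zgi46) (kgi xgi15 ygi28 zgi49) (kgi xgi15 ygi28 zgi35) (kgi xgi15 ygi28 zgi55) (kgi xgi9 ygi41 zgi39) (kgi xgi9 ygi41 zgi37) (kgi xgi15 ygi28 zgi60) (kgi xgi10 ygi11 zgi14) (kgi xgi15 ygi28 zgi44) (kgi xgi15 ygi29 zgi1) (kgi xgi15 ygi28 zgi58) (kgi xgi4 ygi6 zgi40) (kgi xgi15 ygi29 zgi8) (kgi xgi15 ygi29 zgi12) (kgi xgi15 ygi29 zgi17) (kgi xgi10 ygi45 zgi15) (kgi xgi4 ygi6 zgi41) (kgi xgi6 ygi5 zgi22)) (@D3.rec (fun _ => Pt) (kgi xgi6 ygi5 zgi20) (kgi xgi15 ygi29 zgi28) (kgi xgi11 ygi52 zgi40) (kgi xgi15 ygi29 zgi31) (kgi xgi4 ygi6 zgi43) (kgi xgi7 ygi57 zgi48) (kgi xgi15 ygi29 zgi39) (kgi xgi4 ygi20 zgi50) (kgi xgi15 ygi29 zgi42) (kgi xgi8 ygi37 zgi47) (kgi xgi8 ygi37 zgi45) (kgi xgi4 ygi6 zgi50) (kgi xgi4 ygi14 zgi19) (kgi xgi15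 ygi29 zgi49) (kgi xgi8 ygi7 zgi12) (kgi xgi8 ygi7 zgi27) (kgi xgi4 ygi6 zgi52) (kgi xgi6 ygi7 zgi5) (kgi xgi6 ygi7 zgi3) (kgi xgi9 ygi0 zgi1) (kgi xgi10 ygi0 zgi50) (kgi xgi15 ygi29 zgi61) (kgi xgi4 ygi6 zgi55) (kgi xgi8 ygi37 zgi52) (kgi xgi8 ygi37 zgi50) (kgi xgi8 ygi10 zgi56) (kgi xgi4 ygi53 zgi28) (kgi xgi4 ygi6 zgi59) (kgi xgi4 ygi6 zgi61) (kgi xgi15 ygi30 zgi14) (kgi xgi15 ygi30 zgi17) (kgi xgi11 ygi55 zgi47) (kgi xgi4 ygi7 zgi1) (kgi xgi11 ygi55 zgi36) (kgi xgi15 ygi30 zgi16) (kgi xgi5 ygi51 zgi32) (kgi xgi4 ygi7 zgi0) (kgi xgi6 ygi12 zgi44) (kgi xgi15 ygi30 zgi30) (kgi xgi11 ygi26 zgi39) (kgi xgi15 ygi30 zgi34) (kgi xgi4 ygi7 zgi2) (kgi xgi8 ygi11 zgi61) (kgi xgi5 ygi52 zgi26) (kgi xgi9 ygi44 zgi26) (kgi xgi5 ygi13 zgi56)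 (kgi xgi4 ygi7 zgi16) (kgi xgi4 ygi13 zgi30) (kgi xgi6 ygi24 zgi26) (kgi xgi6 ygi17 zgi9) (kgi xgi4 ygi7 zgi20) (kgi xgi11 ygi25 zgi26) (kgi xgi12 ygi29 zgi60) (kgi xgi5 ygi7 zgi58) (kgi xgi15 ygi30 zgi44) (kgi xgi4 ygi7 zgi22) (kgi xgi6 ygi7 zgi25) (kgi xgi11 ygi30 zgi61) (kgi xgi6 ygi12 zgi21) (kgi xgi11 ygi25 zgi45) (kgi xgi8 ygi12 zgi56) (kgi xgi4 ygi7 zgi28)) (@D3.rec (fun _ => Pt) (kgi xgi8 ygi12 zgi55) (kgi xgi5 ygi12 zgi15) (kgi xgi10 ygi10 zgi15) (kgi xgi5 ygi17 zgi29) (kgi xgi10 ygi7 zgi20) (kgi xgi4 ygi13 zgi42) (kgi xgi10 ygi11 zgi53) (kgi xgi15 ygi30 zgi61) (kgi xgi15 ygi31 zgi1) (kgi xgi10 ygi23 zgi43) (kgi xgi10 ygi9 zgi29) (kgi xgi15 ygi31 zgi7) (kgi xgi10 ygi23 zgi38) (kgi xgi15 ygi31 zgi13) (kgi xgi4 ygi7 zgi38)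 (kgi xgi6 ygi5 zgi35) (kgi xgi6 ygi5 zgi33) (kgi xgi15 ygi31 zgi20) (kgi xgi10 ygi44 zgi36) (kgi xgi15 ygi31 zgi25) (kgi xgi6 ygi6 zgi3) (kgi xgi6 ygi6 zgi1) (kgi xgi15 ygi31 zgi30) (kgi xgi10 ygi47 zgi37) (kgi xgi15 ygi31 zgi28) (kgi xgi15 ygi31 zgi34) (kgi xgi10 ygi47 zgi41) (kgi xgi10 ygi44 zgi45) (kgi xgi4 ygi7 zgi43) (kgi xgi15 ygi31 zgi40) (kgi xgi15 ygi31 zgi45) (kgi xgi14 ygi27 zgi8) (kgi xgi15 ygi31 zgi41) (kgi xgi4 ygi7 zgi44) (kgi xgi8 ygi16 zgi20) (kgi xgi10 ygi23 zgi41) (kgi xgi15 ygi31 zgi58) (kgi xgi8 ygi16 zgi16) (kgi xgi10 ygi49 zgi59) (kgi xgi8 ygi11 zgi7) (kgi xgi5 ygi22 zgi17) (kgi xgi4 ygi7 zgi48) (kgi xgi11 ygi55 zgi33) (kgi xgi15 ygi16 zgi58) (kgi xgi15 ygi32 zgi6) (kgi xgi15 ygi24 zgi18) (kgi xgi5 ygi25 zgi42)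 (kgi xgi5 ygi5 zgi30) (kgi xgi8 ygi26 zgi54) (kgi xgi4 ygi7 zgi54) (kgi xgi4 ygi8 zgi37) (kgi xgi9 ygi58 zgi35) (kgi xgi15 ygi32 zgi13) (kgi xgi5 ygi17 zgi43) (kgi xgi5 ygi17 zgi4) (kgi xgi15 ygi32 zgi19) (kgi xgi15 ygi32 zgi21) (kgi xgi5 ygi18 zgi14) (kgi xgi5 ygi29 zgi56) (kgi xgi4 ygi7 zgi59) (kgi xgi5 ygi26 zgi12) (kgi xgi15 ygi32 zgi28)) (@D3.rec (fun _ => Pt) (kgi xgi10 ygi43 zgi32) (kgi xgi15 ygi32 zgi33) (kgi xgi4 ygi8 zgi1) (kgi xgi5 ygi26 zgi48) (kgi xgi5 ygi26 zgi46) (kgi xgi15 ygi32 zgi39) (kgi xgi10 ygi20 zgi45) (kgi xgi11 ygi55 zgi34) (kgi xgi15 ygi32 zgi47) (kgi xgi10 ygi43 zgi30) (kgi xgi15 ygi32 zgi37) (kgi xgi4 ygi8 zgi4) (kgi xgi15 ygi32 zgi53) (kgi xgi15 ygi32 zgi59) (kgi xgi15 ygi33 zgi0) (kgi xgi15 ygi32 zgi54)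 (kgi xgi4 ygi8 zgi5) (kgi xgi8 ygi15 zgi37) (kgi xgi5 ygi17 zgi34) (kgi xgi15 ygi33 zgi11) (kgi xgi8 ygi15 zgi33) (kgi xgi15 ygi16 zgi0) (kgi xgi4 ygi19 zgi28) (kgi xgi15 ygi33 zgi17) (kgi xgi4 ygi28 zgi45) (kgi xgi15 ygi33 zgi21) (kgi xgi5 ygi29 zgi21) (kgi xgi15 ygi33 zgi25) (kgi xgi10 ygi24 zgi1) (kgi xgi15 ygi33 zgi31) (kgi xgi4 ygi8 zgi50) (kgi xgi4 ygi8 zgi47) (kgi xgi15 ygi33 zgi37) (kgi xgi10 ygi50 zgi19) (kgi xgi8 ygi30 zgi25) (kgi xgi4 ygi8 zgi16) (kgi xgi4 ygi9 zgi10) (kgi xgi15 ygi33 zgi45) (kgi xgi15 ygi33 zgi47) (kgi xgi8 ygi17 zgi27) (kgi xgi15 ygi33 zgi53) (kgi xgi4 ygi9 zgi28) (kgi xgi4 ygi9 zgi25) (kgi xgi15 ygi33 zgi59) (kgi xgi8 ygi17 zgi30) (kgi xgi15 ygi34 zgi3) (kgi xgi4 ygi8 zgi21) (kgi xgi4 ygi9 zgi36) (kgi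 xgi15 ygi34 zgi9) (kgi xgi8 ygi17 zgi18) (kgi xgi15 ygi33 zgi56) (kgi xgi15 ygi34 zgi17) (kgi xgi8 ygi17 zgi24) (kgi xgi8 ygi35 zgi16) (kgi xgi4 ygi8 zgi24) (kgi xgi15 ygi16 zgi53) (kgi xgi15 ygi34 zgi27) (kgi xgi15 ygi34 zgi34) (kgi xgi15 ygi34 zgi22) (kgi xgi4 ygi8 zgi25) (kgi xgi4 ygi9 zgi56) (kgi xgi15 ygi34 zgi41)) (@D3.rec (fun _ => Pt) (kgi xgi8 ygi32 zgi30) (kgi xgi4 ygi21 zgi18) (kgi xgi15 ygi34 zgi45) (kgi xgi4 ygi50 zgi59) (kgi xgi15 ygi34 zgi50) (kgi xgi4 ygi8 zgi30) (kgi xgi9 ygi34 zgi14) (kgi xgi9 ygi34 zgi13) (kgi xgi10 ygi24 zgi29) (kgi xgi4 ygi21 zgi4) (kgi xgi15 ygi34 zgi56) (kgi xgi10 ygi24 zgi14) (kgi xgi15 ygi34 zgi59) (kgi xgi10 ygi47 zgi28) (kgi xgi4 ygi8 zgi35) (kgi xgi15 ygi33 zgi22) (kgi xgi5 ygi35 zgi57)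 (kgi xgi15 ygi35 zgi6) (kgi xgi8 ygi16 zgi52) (kgi xgi15 ygi35 zgi11) (kgi xgi4 ygi8 zgi39) (kgi xgi8 ygi31 zgi7) (kgi xgi8 ygi33 zgi24) (kgi xgi15 ygi35 zgi16) (kgi xgi8 ygi16 zgi49) (kgi xgi11 ygi55 zgi28) (kgi xgi15 ygi35 zgi19) (kgi xgi8 ygi16 zgi44) (kgi xgi15 ygi35 zgi15) (kgi xgi15 ygi35 zgi24) (kgi xgi8 ygi16 zgi39) (kgi xgi8 ygi31 zgi5) (kgi xgi4 ygi8 zgi44) (kgi xgi15 ygi33 zgi38) (kgi xgi15 ygi33 zgi36) (kgi xgi15 ygi35 zgi39) (kgi xgi15 ygi35 zgi43) (kgi xgi4 ygi8 zgi45) (kgi xgi4 ygi9 zgi8) (kgi xgi15 ygi35 zgi51) (kgi xgi4 ygi8 zgi46) (kgi xgi15 ygi33 zgi33) (kgi xgi15 ygi35 zgi60) (kgi xgi15 ygi33 zgi30) (kgi xgi15 ygi15 zgi2) (kgi xgi5 ygi17 zgi37) (kgi xgi15 ygi36 zgi1) (kgi xgi8 ygi20 zgi10) (kgi xgi4 ygi8 zgi49)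 (kgi xgi15 ygi36 zgi11) (kgi xgi5 ygi15 zgi57) (kgi xgi5 ygi15 zgi4) (kgi xgi15 ygi36 zgi19) (kgi xgi9 ygi25 zgi40) (kgi xgi14 ygi58 zgi4) (kgi xgi4 ygi19 zgi31) (kgi xgi8 ygi30 zgi47) (kgi xgi4 ygi27 zgi46) (kgi xgi15 ygi24 zgi29) (kgi xgi8 ygi30 zgi53) (kgi xgi15 ygi36 zgi28) (kgi xgi15 ygi36 zgi31)) (@D3.rec (fun _ => Pt) (kgi xgi8 ygi24 zgi0) (kgi xgi8 ygi25 zgi17) (kgi xgi4 ygi8 zgi60) (kgi xgi15 ygi36 zgi24) (kgi xgi8 ygi34 zgi5) (kgi xgi4 ygi10 zgi52) (kgi xgi5 ygi39 zgi15) (kgi xgi15 ygi36 zgi44) (kgi xgi5 ygi30 zgi13) (kgi xgi4 ygi9 zgi3) (kgi xgi15 ygi1 zgi51) (kgi xgi15 ygi36 zgi51) (kgi xgi10 ygi51 zgi37) (kgi xgi4 ygi15 zgi22) (kgi xgi4 ygi9 zgi7) (kgi xgi15 ygi33 zgi26) (kgi xgi15 ygi33 zgi24) (kgi xgi15 ygi37 zgi4)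 (kgi xgi15 ygi37 zgi8) (kgi xgi15 ygi15 zgi61) (kgi xgi4 ygi9 zgi9) (kgi xgi15 ygi33 zgi43) (kgi xgi15 ygi37 zgi20) (kgi xgi10 ygi50 zgi36) (kgi xgi5 ygi29 zgi39) (kgi xgi15 ygi37 zgi23) (kgi xgi4 ygi9 zgi12) (kgi xgi5 ygi27 zgi42) (kgi xgi15 ygi37 zgi30) (kgi xgi5 ygi27 zgi40) (kgi xgi15 ygi37 zgi35) (kgi xgi9 ygi42 zgi25) (kgi xgi15 ygi37 zgi40) (kgi xgi9 ygi34 zgi16) (kgi xgi15 ygi37 zgi45) (kgi xgi4 ygi9 zgi17) (kgi xgi8 ygi36 zgi54) (kgi xgi15 ygi37 zgi49) (kgi xgi8 ygi32 zgi33) (kgi xgi15 ygi37 zgi52) (kgi xgi4 ygi9 zgi20) (kgi xgi15 ygi33 zgi60) (kgi xgi15 ygi33 zgi58) (kgi xgi15 ygi38 zgi0) (kgi xgi15 ygi38 zgi4) (kgi xgi4 ygi9 zgi21) (kgi xgi4 ygi9 zgi33) (kgi xgi15 ygi38 zgi10) (kgi xgi4 ygi9 zgi22) (kgi xgi15 ygi33 zgi55)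 (kgi xgi15 ygi38 zgi19) (kgi xgi15 ygi33 zgi52) (kgi xgi4 ygi9 zgi24) (kgi xgi4 ygi9 zgi43) (kgi xgi10 ygi51 zgi53) (kgi xgi15 ygi34 zgi15) (kgi xgi8 ygi32 zgi39) (kgi xgi15 ygi36 zgi48) (kgi xgi14 ygi57 zgi32) (kgi xgi15 ygi38 zgi31) (kgi xgi8 ygi37 zgi12) (kgi xgi15 ygi38 zgi35)) (@D3.rec (fun _ => Pt) (kgi xgi4 ygi9 zgi31) (kgi xgi15 ygi38 zgi29) (kgi xgi15 ygi38 zgi39) (kgi xgi8 ygi35 zgi7) (kgi xgi4 ygi9 zgi32) (kgi xgi15 ygi33 zgi48) (kgi xgi15 ygi33 zgi46) (kgi xgi15 ygi38 zgi50) (kgi xgi12 ygi0 zgi10) (kgi xgi15 ygi38 zgi56) (kgi xgi4 ygi9 zgi34) (kgi xgi15 ygi34 zgi5) (kgi xgi15 ygi39 zgi2) (kgi xgi15 ygi34 zgi2) (kgi xgi4 ygi9 zgi46) (kgi xgi15 ygi39 zgi5) (kgi xgi15 ygi34 zgi21) (kgi xgi5 ygi15 zgi29) (kgi xgi15 ygi39 zgi10)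 (kgi xgi5 ygi15 zgi28) (kgi xgi4 ygi9 zgi40) (kgi xgi15 ygi34 zgi18) (kgi xgi15 ygi34 zgi16) (kgi xgi15 ygi39 zgi24) (kgi xgi15 ygi39 zgi28) (kgi xgi15 ygi39 zgi31) (kgi xgi9 ygi36 zgi50) (kgi xgi4 ygi9 zgi42) (kgi xgi4 ygi9 zgi45) (kgi xgi15 ygi39 zgi39) (kgi xgi15 ygi39 zgi43) (kgi xgi8 ygi34 zgi46) (kgi xgi4 ygi9 zgi44) (kgi xgi15 ygi34 zgi10) (kgi xgi15 ygi34 zgi8) (kgi xgi15 ygi39 zgi56) (kgi xgi15 ygi39 zgi60) (kgi xgi15 ygi40 zgi2) (kgi xgi15 ygi40 zgi6) (kgi xgi15 ygi34 zgi6) (kgi xgi4 ygi9 zgi47) (kgi xgi4 ygi9 zgi49) (kgi xgi15 ygi40 zgi13) (kgi xgi15 ygi39 zgi37) (kgi xgi12 ygi15 zgi54) (kgi xgi15 ygi39 zgi13) (kgi xgi15 ygi40 zgi17) (kgi xgi15 ygi32 zgi25) (kgi xgi4 ygi9 zgi50) (kgi xgi15 ygi40 zgi9) (kgi xgi15 ygi40 zgi37)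 (kgi xgi9 ygi27 zgi21) (kgi xgi15 ygi40 zgi28) (kgi xgi15 ygi40 zgi42) (kgi xgi15 ygi39 zgi19) (kgi xgi15 ygi40 zgi47) (kgi xgi15 ygi39 zgi51) (kgi xgi10 ygi51 zgi31) (kgi xgi15 ygi40 zgi57) (kgi xgi15 ygi37 zgi13) (kgi xgi4 ygi9 zgi55) (kgi xgi15 ygi34 zgi42)) (@D3.rec (fun _ => Pt) (kgi xgi8 ygi55 zgi60) (kgi xgi15 ygi41 zgi5) (kgi xgi4 ygi9 zgi57) (kgi xgi8 ygi30 zgi10) (kgi xgi15 ygi16 zgi36) (kgi xgi10 ygi50 zgi20) (kgi xgi8 ygi17 zgi47) (kgi xgi8 ygi31 zgi47) (kgi xgi8 ygi21 zgi11) (kgi xgi8 ygi31 zgi10) (kgi xgi15 ygi41 zgi17) (kgi xgi15 ygi34 zgi7) (kgi xgi15 ygi41 zgi27) (kgi xgi15 ygi41 zgi30) (kgi xgi4 ygi9 zgi61) (kgi xgi13 ygi58 zgi33) (kgi xgi8 ygi33 zgi60) (kgi xgi15 ygi41 zgi41) (kgi xgi4 ygi10 zgi1) (kgi xgi4 ygi10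 zgi22) (kgi xgi4 ygi10 zgi20) (kgi xgi7 ygi57 zgi41) (kgi xgi8 ygi9 zgi31) (kgi xgi7 ygi57 zgi37) (kgi xgi15 ygi41 zgi51) (kgi xgi15 ygi41 zgi54) (kgi xgi5 ygi36 zgi57) (kgi xgi4 ygi10 zgi7) (kgi xgi10 ygi38 zgi54) (kgi xgi8 ygi53 zgi18) (kgi xgi15 ygi42 zgi0) (kgi xgi10 ygi32 zgi36) (kgi xgi15 ygi42 zgi6) (kgi xgi4 ygi10 zgi12) (kgi xgi8 ygi33 zgi27) (kgi xgi15 ygi42 zgi13) (kgi xgi10 ygi32 zgi33) (kgi xgi15 ygi42 zgi18) (kgi xgi4 ygi10 zgi49) (kgi xgi4 ygi10 zgi40) (kgi xgi15 ygi42 zgi22) (kgi xgi4 ygi18 zgi3) (kgi xgi10 ygi53 zgi20) (kgi xgi15 ygi42 zgi30) (kgi xgi8 ygi21 zgi56) (kgi xgi12 ygi42 zgi5) (kgi xgi4 ygi10 zgi17) (kgi xgi8 ygi33 zgi57) (kgi xgi8 ygi33 zgi55) (kgi xgi7 ygi45 zgi54) (kgi xgi4 ygi42 zgi18) (kgi xgi4 ygi10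 zgi18) (kgi xgi8 ygi33 zgi39) (kgi xgi15 ygi42 zgi47) (kgi xgi4 ygi10 zgi19) (kgi xgi15 ygi41 zgi43) (kgi xgi15 ygi42 zgi58) (kgi xgi15 ygi41 zgi40) (kgi xgi4 ygi21 zgi7) (kgi xgi15 ygi1 zgi18) (kgi xgi15 ygi42 zgi61) (kgi xgi15 ygi42 zgi11)) (@D3.rec (fun _ => Pt) (kgi xgi4 ygi10 zgi23) (kgi xgi8 ygi33 zgi26) (kgi xgi4 ygi18 zgi25) (kgi xgi7 ygi48 zgi46) (kgi xgi4 ygi53 zgi39) (kgi xgi15 ygi43 zgi9) (kgi xgi12 ygi23 zgi55) (kgi xgi12 ygi18 zgi36) (kgi xgi15 ygi43 zgi12) (kgi xgi8 ygi23 zgi54) (kgi xgi9 ygi34 zgi6) (kgi xgi8 ygi40 zgi13) (kgi xgi15 ygi43 zgi20) (kgi xgi10 ygi38 zgi34) (kgi xgi15 ygi41 zgi29) (kgi xgi14 ygi2 zgi23) (kgi xgi8 ygi33 zgi9) (kgi xgi8 ygi33 zgi52) (kgi xgi15 ygi43 zgi28) (kgi xgi4 ygi17 zgi42) (kgi xgi8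 ygi34 zgi4) (kgi xgi15 ygi43 zgi33) (kgi xgi8 ygi22 zgi32) (kgi xgi10 ygi38 zgi24) (kgi xgi4 ygi10 zgi46) (kgi xgi8 ygi33 zgi7) (kgi xgi8 ygi33 zgi5) (kgi xgi15 ygi43 zgi41) (kgi xgi4 ygi10 zgi47) (kgi xgi8 ygi25 zgi35) (kgi xgi8 ygi25 zgi34) (kgi xgi15 ygi43 zgi48) (kgi xgi4 ygi10 zgi48) (kgi xgi15 ygi43 zgi54) (kgi xgi4 ygi21 zgi40) (kgi xgi10 ygi38 zgi32) (kgi xgi4 ygi10 zgi50) (kgi xgi5 ygi22 zgi50) (kgi xgi15 ygi44 zgi3) (kgi xgi5 ygi22 zgi48) (kgi xgi15 ygi44 zgi8) (kgi xgi14 ygi44 zgi44) (kgi xgi6 ygi17 zgi39) (kgi xgi12 ygi21 zgi24) (kgi xgi12 ygi23 zgi54) (kgi xgi15 ygi43 zgi7) (kgi xgi5 ygi29 zgi52) (kgi xgi4 ygi10 zgi60) (kgi xgi5 ygi28 zgi35) (kgi xgi15 ygi44 zgi18) (kgi xgi6 ygi6 zgi37) (kgi xgi5 ygi28 zgi32) (kgi xgi4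 ygi11 zgi0) (kgi xgi5 ygi28 zgi41) (kgi xgi5 ygi28 zgi39) (kgi xgi15 ygi44 zgi27) (kgi xgi8 ygi20 zgi41) (kgi xgi15 ygi44 zgi33) (kgi xgi4 ygi11 zgi2) (kgi xgi4 ygi11 zgi11) (kgi xgi4 ygi11 zgi8) (kgi xgi15 ygi44 zgi39)) (@D3.rec (fun _ => Pt) (kgi xgi8 ygi35 zgi49) (kgi xgi13 ygi0 zgi22) (kgi xgi4 ygi11 zgi5) (kgi xgi8 ygi34 zgi61) (kgi xgi8 ygi34 zgi59) (kgi xgi15 ygi44 zgi50) (kgi xgi6 ygi37 zgi18) (kgi xgi4 ygi11 zgi6) (kgi xgi8 ygi34 zgi52) (kgi xgi15 ygi44 zgi59) (kgi xgi4 ygi11 zgi7) (kgi xgi15 ygi44 zgi35) (kgi xgi15 ygi45 zgi9) (kgi xgi15 ygi44 zgi32) (kgi xgi4 ygi21 zgi12) (kgi xgi10 ygi32 zgi46) (kgi xgi10 ygi34 zgi1) (kgi xgi4 ygi11 zgi33) (kgi xgi15 ygi45 zgi13) (kgi xgi15 ygi41 zgi34) (kgi xgi15 ygi45 zgi21) (kgi xgi12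 ygi48 zgi34) (kgi xgi8 ygi35 zgi52) (kgi xgi6 ygi17 zgi41) (kgi xgi8 ygi23 zgi28) (kgi xgi4 ygi11 zgi18) (kgi xgi8 ygi29 zgi60) (kgi xgi10 ygi44 zgi11) (kgi xgi10 ygi44 zgi24) (kgi xgi15 ygi45 zgi30) (kgi xgi11 ygi2 zgi10) (kgi xgi15 ygi45 zgi35) (kgi xgi8 ygi21 zgi19) (kgi xgi15 ygi45 zgi3) (kgi xgi4 ygi11 zgi25) (kgi xgi4 ygi11 zgi31) (kgi xgi15 ygi45 zgi43) (kgi xgi15 ygi45 zgi46) (kgi xgi15 ygi41 zgi32) (kgi xgi4 ygi11 zgi28) (kgi xgi8 ygi34 zgi23) (kgi xgi8 ygi34 zgi21) (kgi xgi7 ygi25 zgi54) (kgi xgi4 ygi11 zgi29) (kgi xgi8 ygi34 zgi13) (kgi xgi8 ygi36 zgi15) (kgi xgi15 ygi45 zgi60) (kgi xgi4 ygi11 zgi30) (kgi xgi15 ygi45 zgi40) (kgi xgi15 ygi46 zgi5) (kgi xgi15 ygi45 zgi38) (kgi xgi11 ygi52 zgi3) (kgi xgi11 ygi55 zgi51) (kgi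 xgi14 ygi56 zgi59) (kgi xgi15 ygi46 zgi8) (kgi xgi12 ygi27 zgi4) (kgi xgi15 ygi46 zgi13) (kgi xgi12 ygi21 zgi36) (kgi xgi8 ygi32 zgi10) (kgi xgi12 ygi13 zgi9) (kgi xgi12 ygi4 zgi52) (kgi xgi6 ygi23 zgi6)) (@D3.rec (fun _ => Pt) (kgi xgi7 ygi25 zgi45) (kgi xgi9 ygi39 zgi12) (kgi xgi8 ygi35 zgi29) (kgi xgi4 ygi11 zgi45) (kgi xgi8 ygi35 zgi28) (kgi xgi9 ygi14 zgi36) (kgi xgi8 ygi23 zgi43) (kgi xgi8 ygi35 zgi23) (kgi xgi15 ygi46 zgi26) (kgi xgi5 ygi30 zgi59) (kgi xgi12 ygi15 zgi53) (kgi xgi6 ygi27 zgi32) (kgi xgi8 ygi35 zgi20) (kgi xgi4 ygi53 zgi11) (kgi xgi12 ygi17 zgi26) (kgi xgi4 ygi11 zgi49) (kgi xgi4 ygi11 zgi54) (kgi xgi15 ygi46 zgi35) (kgi xgi15 ygi46 zgi41) (kgi xgi9 ygi28 zgi50) (kgi xgi15 ygi38 zgi44) (kgi xgi4 ygi11 zgi50)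 (kgi xgi12 ygi59 zgi18) (kgi xgi8 ygi21 zgi3) (kgi xgi4 ygi17 zgi5) (kgi xgi4 ygi11 zgi51) (kgi xgi6 ygi28 zgi36) (kgi xgi4 ygi11 zgi53) (kgi xgi8 ygi22 zgi21) (kgi xgi10 ygi50 zgi18) (kgi xgi15 ygi46 zgi40) (kgi xgi6 ygi9 zgi33) (kgi xgi12 ygi59 zgi19) (kgi xgi4 ygi16 zgi29) (kgi xgi8 ygi23 zgi45) (kgi xgi12 ygi59 zgi50) (kgi xgi6 ygi23 zgi47) (kgi xgi15 ygi45 zgi26) (kgi xgi14 ygi11 zgi38) (kgi xgi4 ygi11 zgi60) (kgi xgi4 ygi16 zgi31) (kgi xgi15 ygi47 zgi10) (kgi xgi15 ygi47 zgi14) (kgi xgi4 ygi11 zgi61) (kgi xgi8 ygi23 zgi6) (kgi xgi4 ygi12 zgi0) (kgi xgi8 ygi23 zgi34) (kgi xgi4 ygi43 zgi23) (kgi xgi8 ygi34 zgi58) (kgi xgi8 ygi20 zgi61) (kgi xgi15 ygi44 zgi1) (kgi xgi8 ygi35 zgi14) (kgi xgi8 ygi25 zgi5) (kgi xgi8 ygi35 zgi15) (kgi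 xgi8 ygi21 zgi9) (kgi xgi4 ygi13 zgi45) (kgi xgi4 ygi14 zgi1) (kgi xgi10 ygi4 zgi15) (kgi xgi15 ygi47 zgi32) (kgi xgi15 ygi47 zgi34) (kgi xgi15 ygi47 zgi35) (kgi xgi15 ygi47 zgi37)) (@D3.rec (fun _ => Pt) (kgi xgi8 ygi39 zgi54) (kgi xgi15 ygi47 zgi43) (kgi xgi4 ygi12 zgi13) (kgi xgi15 ygi47 zgi49) (kgi xgi4 ygi21 zgi15) (kgi xgi4 ygi43 zgi40) (kgi xgi4 ygi12 zgi15) (kgi xgi4 ygi12 zgi31) (kgi xgi4 ygi12 zgi29) (kgi xgi15 ygi47 zgi54) (kgi xgi15 ygi47 zgi57) (kgi xgi15 ygi24 zgi3) (kgi xgi15 ygi48 zgi1) (kgi xgi4 ygi12 zgi20) (kgi xgi8 ygi37 zgi19) (kgi xgi5 ygi39 zgi48) (kgi xgi4 ygi15 zgi24) (kgi xgi5 ygi29 zgi43) (kgi xgi12 ygi53 zgi10) (kgi xgi15 ygi24 zgi0) (kgi xgi15 ygi48 zgi11) (kgi xgi4 ygi13 zgi11) (kgi xgi4 ygi12 zgi59)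 (kgi xgi15 ygi48 zgi16) (kgi xgi4 ygi52 zgi22) (kgi xgi15 ygi48 zgi7) (kgi xgi15 ygi48 zgi23) (kgi xgi8 ygi40 zgi3) (kgi xgi15 ygi48 zgi14) (kgi xgi4 ygi12 zgi26) (kgi xgi6 ygi23 zgi43) (kgi xgi9 ygi32 zgi22) (kgi xgi4 ygi12 zgi27) (kgi xgi8 ygi37 zgi8) (kgi xgi15 ygi17 zgi40) (kgi xgi15 ygi48 zgi37) (kgi xgi4 ygi12 zgi28) (kgi xgi4 ygi43 zgi42) (kgi xgi14 ygi58 zgi9) (kgi xgi8 ygi39 zgi55) (kgi xgi5 ygi2 zgi16) (kgi xgi9 ygi34 zgi9) (kgi xgi15 ygi48 zgi43) (kgi xgi4 ygi54 zgi6) (kgi xgi15 ygi48 zgi6) (kgi xgi4 ygi50 zgi31) (kgi xgi13 ygi2 zgi7) (kgi xgi4 ygi51 zgi53) (kgi xgi15 ygi48 zgi59) (kgi xgi4 ygi12 zgi36) (kgi xgi9 ygi34 zgi20) (kgi xgi9 ygi34 zgi18) (kgi xgi6 ygi57 zgi58) (kgi xgi6 ygi12 zgi47) (kgi xgi4 ygi12 zgi38) (kgi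 xgi5 ygi39 zgi55) (kgi xgi5 ygi30 zgi53) (kgi xgi4 ygi13 zgi5) (kgi xgi15 ygi49 zgi5) (kgi xgi15 ygi49 zgi6) (kgi xgi4 ygi50 zgi8) (kgi xgi12 ygi3 zgi11)) (@D3.rec (fun _ => Pt) (kgi xgi6 ygi22 zgi34) (kgi xgi8 ygi23 zgi14) (kgi xgi8 ygi17 zgi4) (kgi xgi8 ygi40 zgi46) (kgi xgi9 ygi38 zgi40) (kgi xgi8 ygi23 zgi52) (kgi xgi9 ygi36 zgi26) (kgi xgi12 ygi59 zgi47) (kgi xgi15 ygi27 zgi20) (kgi xgi15 ygi47 zgi42) (kgi xgi15 ygi49 zgi16) (kgi xgi8 ygi36 zgi20) (kgi xgi8 ygi37 zgi22) (kgi xgi15 ygi49 zgi18) (kgi xgi4 ygi13 zgi1) (kgi xgi15 ygi49 zgi22) (kgi xgi14 ygi57 zgi23) (kgi xgi15 ygi49 zgi25) (kgi xgi15 ygi23 zgi21) (kgi xgi15 ygi49 zgi30) (kgi xgi8 ygi31 zgi31) (kgi xgi15 ygi49 zgi32) (kgi xgi8 ygi36 zgi8) (kgi xgi8 ygi36 zgi7) (kgi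 xgi12 ygi47 zgi38) (kgi xgi4 ygi52 zgi10) (kgi xgi4 ygi43 zgi37) (kgi xgi11 ygi17 zgi3) (kgi xgi8 ygi34 zgi26) (kgi xgi15 ygi49 zgi34) (kgi xgi4 ygi13 zgi8) (kgi xgi6 ygi26 zgi25) (kgi xgi8 ygi36 zgi18) (kgi xgi12 ygi20 zgi52) (kgi xgi4 ygi13 zgi9) (kgi xgi8 ygi21 zgi28) (kgi xgi15 ygi49 zgi50) (kgi xgi4 ygi13 zgi10) (kgi xgi12 ygi20 zgi34) (kgi xgi15 ygi43 zgi56) (kgi xgi9 ygi34 zgi44) (kgi xgi8 ygi40 zgi55) (kgi xgi7 ygi48 zgi54) (kgi xgi7 ygi25 zgi44) (kgi xgi12 ygi21 zgi18) (kgi xgi7 ygi55 zgi39) (kgi xgi15 ygi49 zgi60) (kgi xgi5 ygi20 zgi38) (kgi xgi4 ygi13 zgi26) (kgi xgi8 ygi28 zgi27) (kgi xgi8 ygi28 zgi28) (kgi xgi4 ygi13 zgi27) (kgi xgi4 ygi13 zgi28) (kgi xgi15 ygi50 zgi5) (kgi xgi9 ygi7 zgi37) (kgi xgi4 ygi13 zgi32) (kgi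 xgi9 ygi7 zgi39) (kgi xgi9 ygi17 zgi49) (kgi xgi15 ygi50 zgi12) (kgi xgi4 ygi13 zgi31) (kgi xgi11 ygi34 zgi39) (kgi xgi15 ygi50 zgi19)) (@D3.rec (fun _ => Pt) (kgi xgi15 ygi50 zgi25) (kgi xgi15 ygi50 zgi11) (kgi xgi15 ygi50 zgi29) (kgi xgi15 ygi10 zgi57) (kgi xgi4 ygi13 zgi34) (kgi xgi8 ygi10 zgi44) (kgi xgi8 ygi10 zgi42) (kgi xgi15 ygi50 zgi39) (kgi xgi4 ygi13 zgi36) (kgi xgi5 ygi5 zgi38) (kgi xgi9 ygi55 zgi19) (kgi xgi9 ygi57 zgi39) (kgi xgi15 ygi50 zgi47) (kgi xgi10 ygi19 zgi33) (kgi xgi9 ygi54 zgi46) (kgi xgi4 ygi53 zgi58) (kgi xgi5 ygi12 zgi9) (kgi xgi10 ygi9 zgi55) (kgi xgi10 ygi12 zgi34) (kgi xgi15 ygi50 zgi57) (kgi xgi5 ygi15 zgi38) (kgi xgi15 ygi31 zgi5) (kgi xgi15 ygi35 zgi3) (kgi xgi15 ygi51 zgi0) (kgi xgi15 ygi51 zgi3)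 (kgi xgi4 ygi29 zgi10) (kgi xgi9 ygi43 zgi26) (kgi xgi15 ygi51 zgi9) (kgi xgi15 ygi51 zgi10) (kgi xgi15 ygi51 zgi13) (kgi xgi8 ygi29 zgi12) (kgi xgi15 ygi51 zgi7) (kgi xgi4 ygi15 zgi39) (kgi xgi8 ygi24 zgi41) (kgi xgi11 ygi4 zgi50) (kgi xgi15 ygi51 zgi24) (kgi xgi5 ygi14 zgi56) (kgi xgi10 ygi46 zgi13) (kgi xgi4 ygi14 zgi0) (kgi xgi15 ygi50 zgi61) (kgi xgi8 ygi9 zgi51) (kgi xgi9 ygi0 zgi59) (kgi xgi4 ygi15 zgi37) (kgi xgi8 ygi42 zgi33) (kgi xgi15 ygi51 zgi30) (kgi xgi8 ygi56 zgi24) (kgi xgi4 ygi46 zgi22) (kgi xgi9 ygi41 zgi48) (kgi xgi9 ygi41 zgi47) (kgi xgi15 ygi51 zgi35) (kgi xgi5 ygi27 zgi38) (kgi xgi10 ygi53 zgi37) (kgi xgi4 ygi14 zgi10) (kgi xgi15 ygi51 zgi1) (kgi xgi15 ygi30 zgi56) (kgi xgi9 ygi43 zgi29) (kgi xgi9 ygi43 zgi56)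 (kgi xgi15 ygi51 zgi45) (kgi xgi5 ygi27 zgi46) (kgi xgi8 ygi57 zgi60) (kgi xgi4 ygi14 zgi13) (kgi xgi9 ygi42 zgi29)) (@D3.rec (fun _ => Pt) (kgi xgi15 ygi51 zgi56) (kgi xgi9 ygi42 zgi27) (kgi xgi15 ygi51 zgi59) (kgi xgi5 ygi31 zgi11) (kgi xgi15 ygi51 zgi54) (kgi xgi4 ygi14 zgi15) (kgi xgi15 ygi52 zgi4) (kgi xgi15 ygi52 zgi10) (kgi xgi15 ygi52 zgi16) (kgi xgi15 ygi52 zgi5) (kgi xgi4 ygi16 zgi35) (kgi xgi4 ygi16 zgi33) (kgi xgi15 ygi52 zgi24) (kgi xgi5 ygi27 zgi31) (kgi xgi15 ygi52 zgi27) (kgi xgi4 ygi14 zgi18) (kgi xgi10 ygi19 zgi56) (kgi xgi15 ygi52 zgi33) (kgi xgi8 ygi2 zgi50) (kgi xgi15 ygi52 zgi38) (kgi xgi4 ygi14 zgi20) (kgi xgi6 ygi7 zgi2) (kgi xgi6 ygi7 zgi0) (kgi xgi15 ygi52 zgi43) (kgi xgi11 ygi4 zgi37) (kgi xgi15 ygi52 zgi49)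 (kgi xgi4 ygi14 zgi22) (kgi xgi8 ygi11 zgi55) (kgi xgi8 ygi11 zgi53) (kgi xgi4 ygi14 zgi23) (kgi xgi15 ygi52 zgi53) (kgi xgi15 ygi52 zgi59) (kgi xgi15 ygi53 zgi4) (kgi xgi15 ygi52 zgi54) (kgi xgi15 ygi53 zgi7) (kgi xgi8 ygi28 zgi32) (kgi xgi4 ygi14 zgi27) (kgi xgi8 ygi10 zgi7) (kgi xgi8 ygi10 zgi5) (kgi xgi4 ygi14 zgi28) (kgi xgi8 ygi9 zgi50) (kgi xgi15 ygi53 zgi22) (kgi xgi8 ygi7 zgi36) (kgi xgi7 ygi57 zgi50) (kgi xgi8 ygi28 zgi38) (kgi xgi4 ygi14 zgi31) (kgi xgi5 ygi53 zgi22) (kgi xgi15 ygi53 zgi28) (kgi xgi8 ygi9 zgi56) (kgi xgi15 ygi53 zgi30) (kgi xgi10 ygi0 zgi57) (kgi xgi15 ygi53 zgi32) (kgi xgi5 ygi35 zgi39) (kgi xgi15 ygi53 zgi36) (kgi xgi4 ygi14 zgi35) (kgi xgi7 ygi58 zgi48) (kgi xgi7 ygi58 zgi46) (kgi xgi4 ygi14 zgi36) (kgi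 xgi8 ygi9 zgi0) (kgi xgi8 ygi8 zgi60) (kgi xgi15 ygi53 zgi51) (kgi xgi4 ygi14 zgi37)) (@D3.rec (fun _ => Pt) (kgi xgi8 ygi8 zgi59) (kgi xgi15 ygi53 zgi60) (kgi xgi8 ygi8 zgi25) (kgi xgi7 ygi58 zgi10) (kgi xgi15 ygi11 zgi37) (kgi xgi9 ygi53 zgi56) (kgi xgi9 ygi44 zgi30) (kgi xgi5 ygi1 zgi27) (kgi xgi15 ygi54 zgi1) (kgi xgi5 ygi0 zgi48) (kgi xgi4 ygi14 zgi42) (kgi xgi8 ygi9 zgi4) (kgi xgi15 ygi54 zgi11) (kgi xgi8 ygi8 zgi48) (kgi xgi9 ygi38 zgi57) (kgi xgi10 ygi41 zgi4) (kgi xgi4 ygi14 zgi46) (kgi xgi4 ygi14 zgi48) (kgi xgi10 ygi58 zgi49) (kgi xgi15 ygi54 zgi20) (kgi xgi5 ygi38 zgi58) (kgi xgi15 ygi19 zgi32) (kgi xgi4 ygi14 zgi50) (kgi xgi15 ygi19 zgi21) (kgi xgi10 ygi54 zgi50) (kgi xgi15 ygi22 zgi23) (kgi xgi15 ygi54 zgi40) (kgi xgi8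 ygi25 zgi48) (kgi xgi4 ygi14 zgi49) (kgi xgi8 ygi25 zgi50) (kgi xgi15 ygi54 zgi50) (kgi xgi15 ygi54 zgi53) (kgi xgi4 ygi14 zgi51) (kgi xgi8 ygi27 zgi35) (kgi xgi8 ygi9 zgi28) (kgi xgi15 ygi54 zgi60) (kgi xgi8 ygi27 zgi44) (kgi xgi11 ygi4 zgi23) (kgi xgi11 ygi57 zgi3) (kgi xgi11 ygi9 zgi37) (kgi xgi15 ygi55 zgi3) (kgi xgi11 ygi55 zgi5) (kgi xgi15 ygi55 zgi9) (kgi xgi4 ygi14 zgi56) (kgi xgi5 ygi25 zgi60) (kgi xgi5 ygi25 zgi58) (kgi xgi15 ygi55 zgi15) (kgi xgi9 ygi24 zgi7) (kgi xgi15 ygi55 zgi21) (kgi xgi4 ygi14 zgi58) (kgi xgi5 ygi26 zgi29) (kgi xgi5 ygi26 zgi27) (kgi xgi15 ygi55 zgi28) (kgi xgi10 ygi42 zgi55) (kgi xgi15 ygi55 zgi25) (kgi xgi15 ygi55 zgi36) (kgi xgi4 ygi46 zgi21) (kgi xgi11 ygi56 zgi2) (kgi xgi4 ygi14 zgi61) (kgi xgi15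 ygi55 zgi43) (kgi xgi15 ygi55 zgi49) (kgi xgi15 ygi55 zgi54)) (@D3.rec (fun _ => Pt) (kgi xgi15 ygi55 zgi44) (kgi xgi4 ygi15 zgi0) (kgi xgi5 ygi16 zgi11) (kgi xgi5 ygi16 zgi9) (kgi xgi8 ygi29 zgi30) (kgi xgi15 ygi56 zgi2) (kgi xgi4 ygi15 zgi2) (kgi xgi10 ygi44 zgi9) (kgi xgi15 ygi56 zgi7) (kgi xgi15 ygi27 zgi29) (kgi xgi8 ygi55 zgi36) (kgi xgi15 ygi56 zgi11) (kgi xgi10 ygi43 zgi4) (kgi xgi8 ygi56 zgi30) (kgi xgi15 ygi56 zgi17) (kgi xgi4 ygi45 zgi45) (kgi xgi10 ygi54 zgi6) (kgi xgi4 ygi15 zgi12) (kgi xgi6 ygi6 zgi21) (kgi xgi15 ygi56 zgi20) (kgi xgi9 ygi25 zgi23) (kgi xgi10 ygi44 zgi10) (kgi xgi15 ygi56 zgi28) (kgi xgi9 ygi23 zgi3) (kgi xgi10 ygi54 zgi17) (kgi xgi4 ygi15 zgi15) (kgi xgi15 ygi56 zgi29) (kgi xgi15 ygi56 zgi35) (kgi xgi11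 ygi16 zgi9) (kgi xgi15 ygi56 zgi30) (kgi xgi4 ygi15 zgi16) (kgi xgi8 ygi29 zgi4) (kgi xgi4 ygi46 zgi59) (kgi xgi10 ygi45 zgi61) (kgi xgi15 ygi56 zgi46) (kgi xgi5 ygi30 zgi18) (kgi xgi15 ygi56 zgi50) (kgi xgi10 ygi19 zgi11) (kgi xgi15 ygi48 zgi48) (kgi xgi4 ygi15 zgi49) (kgi xgi4 ygi15 zgi46) (kgi xgi15 ygi56 zgi59) (kgi xgi10 ygi19 zgi16) (kgi xgi8 ygi17 zgi31) (kgi xgi4 ygi15 zgi25) (kgi xgi4 ygi16 zgi0) (kgi xgi15 ygi57 zgi5) (kgi xgi4 ygi15 zgi27) (kgi xgi15 ygi57 zgi10) (kgi xgi8 ygi30 zgi21) (kgi xgi15 ygi57 zgi15) (kgi xgi4 ygi16 zgi11) (kgi xgi4 ygi16 zgi8) (kgi xgi15 ygi57 zgi19) (kgi xgi8 ygi30 zgi24) (kgi xgi15 ygi57 zgi25) (kgi xgi4 ygi15 zgi30) (kgi xgi4 ygi16 zgi17) (kgi xgi15 ygi57 zgi30) (kgi xgi8 ygi30 zgi12) (kgi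 xgi15 ygi57 zgi17) (kgi xgi15 ygi57 zgi35)) (@D3.rec (fun _ => Pt) (kgi xgi8 ygi30 zgi18) (kgi xgi8 ygi22 zgi58) (kgi xgi4 ygi15 zgi33) (kgi xgi15 ygi46 zgi60) (kgi xgi15 ygi57 zgi47) (kgi xgi15 ygi57 zgi54) (kgi xgi15 ygi57 zgi42) (kgi xgi4 ygi15 zgi34) (kgi xgi4 ygi16 zgi37) (kgi xgi15 ygi58 zgi0) (kgi xgi8 ygi20 zgi2) (kgi xgi15 ygi58 zgi3) (kgi xgi8 ygi30 zgi0) (kgi xgi15 ygi58 zgi8) (kgi xgi4 ygi15 zgi38) (kgi xgi5 ygi30 zgi17) (kgi xgi5 ygi30 zgi14) (kgi xgi15 ygi58 zgi12) (kgi xgi8 ygi29 zgi59) (kgi xgi10 ygi50 zgi35) (kgi xgi15 ygi58 zgi18) (kgi xgi8 ygi29 zgi54) (kgi xgi15 ygi58 zgi11) (kgi xgi15 ygi58 zgi24) (kgi xgi8 ygi29 zgi49) (kgi xgi8 ygi18 zgi23) (kgi xgi4 ygi15 zgi43) (kgi xgi15 ygi56 zgi60) (kgi xgi15 ygi56 zgi58)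 (kgi xgi15 ygi58 zgi41) (kgi xgi15 ygi58 zgi45) (kgi xgi4 ygi15 zgi44) (kgi xgi4 ygi15 zgi60) (kgi xgi9 ygi27 zgi8) (kgi xgi4 ygi15 zgi45) (kgi xgi15 ygi56 zgi56) (kgi xgi15 ygi58 zgi55) (kgi xgi15 ygi56 zgi55) (kgi xgi15 ygi51 zgi18) (kgi xgi15 ygi58 zgi56) (kgi xgi8 ygi32 zgi38) (kgi xgi4 ygi15 zgi48) (kgi xgi15 ygi58 zgi60) (kgi xgi5 ygi17 zgi60) (kgi xgi15 ygi59 zgi0) (kgi xgi10 ygi24 zgi41) (kgi xgi9 ygi34 zgi45) (kgi xgi8 ygi18 zgi4) (kgi xgi11 ygi37 zgi48) (kgi xgi8 ygi35 zgi57) (kgi xgi8 ygi37 zgi13) (kgi xgi4 ygi15 zgi55) (kgi xgi8 ygi40 zgi56) (kgi xgi8 ygi21 zgi34) (kgi xgi15 ygi59 zgi8) (kgi xgi4 ygi45 zgi48) (kgi xgi4 ygi15 zgi58) (kgi xgi4 ygi29 zgi12) (kgi xgi4 ygi15 zgi59) (kgi xgi15 ygi56 zgi51) (kgi xgi15 ygi56 zgi49)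 (kgi xgi15 ygi59 zgi20)) (@D3.rec (fun _ => Pt) (kgi xgi12 ygi52 zgi14) (kgi xgi15 ygi59 zgi27) (kgi xgi4 ygi15 zgi61) (kgi xgi15 ygi32 zgi44) (kgi xgi11 ygi55 zgi31) (kgi xgi15 ygi57 zgi2) (kgi xgi15 ygi51 zgi29) (kgi xgi8 ygi17 zgi20) (kgi xgi15 ygi31 zgi26) (kgi xgi15 ygi59 zgi34) (kgi xgi8 ygi20 zgi5) (kgi xgi15 ygi59 zgi38) (kgi xgi4 ygi16 zgi5) (kgi xgi15 ygi57 zgi20) (kgi xgi15 ygi57 zgi18) (kgi xgi15 ygi59 zgi48) (kgi xgi15 ygi59 zgi52) (kgi xgi4 ygi16 zgi6) (kgi xgi4 ygi16 zgi15) (kgi xgi15 ygi59 zgi60) (kgi xgi4 ygi16 zgi7) (kgi xgi15 ygi57 zgi16) (kgi xgi6 ygi42 zgi57) (kgi xgi15 ygi57 zgi14) (kgi xgi4 ygi16 zgi24) (kgi xgi15 ygi55 zgi26) (kgi xgi9 ygi24 zgi26) (kgi xgi16 ygi0 zgi5) (kgi xgi8 ygi20 zgi11) (kgi xgi9 ygi21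 zgi14) (kgi xgi16 ygi0 zgi8) (kgi xgi8 ygi25 zgi16) (kgi xgi12 ygi16 zgi5) (kgi xgi4 ygi16 zgi13) (kgi xgi8 ygi41 zgi29) (kgi xgi6 ygi23 zgi33) (kgi xgi4 ygi16 zgi14) (kgi xgi15 ygi57 zgi11) (kgi xgi15 ygi57 zgi9) (kgi xgi16 ygi0 zgi21) (kgi xgi6 ygi17 zgi44) (kgi xgi16 ygi0 zgi26) (kgi xgi4 ygi16 zgi16) (kgi xgi15 ygi57 zgi27) (kgi xgi15 ygi35 zgi55) (kgi xgi15 ygi57 zgi24) (kgi xgi4 ygi16 zgi28) (kgi xgi10 ygi56 zgi52) (kgi xgi15 ygi57 zgi41) (kgi xgi16 ygi0 zgi42) (kgi xgi5 ygi17 zgi36) (kgi xgi4 ygi16 zgi21) (kgi xgi15 ygi57 zgi36) (kgi xgi15 ygi57 zgi34) (kgi xgi16 ygi0 zgi57) (kgi xgi16 ygi0 zgi61) (kgi xgi16 ygi1 zgi3) (kgi xgi4 ygi50 zgi30) (kgi xgi9 ygi38 zgi52) (kgi xgi4 ygi16 zgi23) (kgi xgi10 ygi52 zgi5) (kgi xgi9 ygi24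 zgi23)) (@D3.rec (fun _ => Pt) (kgi xgi8 ygi22 zgi26) (kgi xgi4 ygi16 zgi25) (kgi xgi15 ygi57 zgi31) (kgi xgi15 ygi57 zgi29) (kgi xgi16 ygi1 zgi23) (kgi xgi16 ygi1 zgi27) (kgi xgi16 ygi1 zgi30) (kgi xgi16 ygi1 zgi34) (kgi xgi16 ygi1 zgi37) (kgi xgi15 ygi36 zgi3) (kgi xgi15 ygi57 zgi28) (kgi xgi16 ygi1 zgi40) (kgi xgi8 ygi22 zgi23) (kgi xgi16 ygi0 zgi46) (kgi xgi16 ygi1 zgi11) (kgi xgi15 ygi47 zgi9) (kgi xgi4 ygi16 zgi32) (kgi xgi15 ygi46 zgi61) (kgi xgi16 ygi1 zgi54) (kgi xgi15 ygi57 zgi58) (kgi xgi16 ygi0 zgi52) (kgi xgi12 ygi57 zgi18) (kgi xgi16 ygi1 zgi17) (kgi xgi16 ygi1 zgi61) (kgi xgi16 ygi2 zgi1) (kgi xgi16 ygi2 zgi5) (kgi xgi4 ygi16 zgi36) (kgi xgi15 ygi58 zgi1) (kgi xgi15 ygi57 zgi61) (kgi xgi16 ygi2 zgi17) (kgi xgi4 ygi16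 zgi38) (kgi xgi8 ygi17 zgi0) (kgi xgi16 ygi2 zgi24) (kgi xgi15 ygi57 zgi8) (kgi xgi8 ygi30 zgi40) (kgi xgi8 ygi19 zgi15) (kgi xgi8 ygi17 zgi54) (kgi xgi8 ygi18 zgi38) (kgi xgi15 ygi33 zgi35) (kgi xgi10 ygi50 zgi59) (kgi xgi8 ygi32 zgi36) (kgi xgi5 ygi44 zgi44) (kgi xgi11 ygi52 zgi10) (kgi xgi16 ygi2 zgi39) (kgi xgi4 ygi16 zgi43) (kgi xgi7 ygi25 zgi25) (kgi xgi12 ygi1 zgi1) (kgi xgi4 ygi16 zgi45) (kgi xgi4 ygi16 zgi58) (kgi xgi4 ygi16 zgi56) (kgi xgi4 ygi16 zgi49) (kgi xgi14 ygi7 zgi58) (kgi xgi11 ygi52 zgi2) (kgi xgi16 ygi2 zgi51) (kgi xgi4 ygi16 zgi47) (kgi xgi5 ygi23 zgi56) (kgi xgi5 ygi23 zgi53) (kgi xgi4 ygi50 zgi51) (kgi xgi16 ygi2 zgi59) (kgi xgi11 ygi51 zgi61) (kgi xgi16 ygi2 zgi61) (kgi xgi4 ygi17 zgi27)) (@D3.rec (fun _ =>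 Pt) (kgi xgi4 ygi17 zgi15) (kgi xgi16 ygi3 zgi2) (kgi xgi16 ygi2 zgi56) (kgi xgi16 ygi3 zgi6) (kgi xgi13 ygi54 zgi23) (kgi xgi4 ygi16 zgi53) (kgi xgi8 ygi21 zgi26) (kgi xgi8 ygi21 zgi24) (kgi xgi9 ygi45 zgi26) (kgi xgi4 ygi16 zgi54) (kgi xgi8 ygi21 zgi16) (kgi xgi16 ygi3 zgi19) (kgi xgi4 ygi16 zgi55) (kgi xgi12 ygi1 zgi3) (kgi xgi16 ygi3 zgi28) (kgi xgi7 ygi55 zgi31) (kgi xgi16 ygi2 zgi48) (kgi xgi5 ygi5 zgi29) (kgi xgi8 ygi17 zgi7) (kgi xgi16 ygi3 zgi30) (kgi xgi4 ygi27 zgi13) (kgi xgi15 ygi41 zgi33) (kgi xgi12 ygi11 zgi44) (kgi xgi16 ygi3 zgi43) (kgi xgi4 ygi17 zgi0) (kgi xgi8 ygi17 zgi22) (kgi xgi8 ygi21 zgi0) (kgi xgi4 ygi17 zgi21) (kgi xgi9 ygi15 zgi52) (kgi xgi6 ygi28 zgi49) (kgi xgi7 ygi48 zgi51) (kgi xgi9 ygi39 zgi5) (kgi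 xgi16 ygi3 zgi50) (kgi xgi6 ygi33 zgi47) (kgi xgi8 ygi42 zgi35) (kgi xgi16 ygi3 zgi60) (kgi xgi10 ygi32 zgi42) (kgi xgi16 ygi2 zgi38) (kgi xgi16 ygi4 zgi4) (kgi xgi8 ygi20 zgi51) (kgi xgi8 ygi21 zgi20) (kgi xgi4 ygi17 zgi18) (kgi xgi4 ygi17 zgi20) (kgi xgi14 ygi49 zgi53) (kgi xgi10 ygi32 zgi45) (kgi xgi16 ygi4 zgi16) (kgi xgi16 ygi4 zgi19) (kgi xgi9 ygi35 zgi26) (kgi xgi16 ygi4 zgi25) (kgi xgi8 ygi20 zgi34) (kgi xgi8 ygi20 zgi33) (kgi xgi16 ygi4 zgi31) (kgi xgi6 ygi38 zgi10) (kgi xgi16 ygi4 zgi36) (kgi xgi16 ygi4 zgi28) (kgi xgi4 ygi17 zgi24) (kgi xgi8 ygi20 zgi48) (kgi xgi8 ygi20 zgi46) (kgi xgi14 ygi38 zgi47) (kgi xgi7 ygi25 zgi56) (kgi xgi4 ygi17 zgi25) (kgi xgi8 ygi20 zgi16)) (@D3.rec (fun _ => Pt) (kgi xgi7 ygi57 zgi46) (kgi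 xgi16 ygi4 zgi50) (kgi xgi4 ygi17 zgi26) (kgi xgi16 ygi4 zgi55) (kgi xgi15 ygi49 zgi53) (kgi xgi8 ygi17 zgi56) (kgi xgi16 ygi2 zgi60) (kgi xgi16 ygi4 zgi58) (kgi xgi6 ygi33 zgi0) (kgi xgi12 ygi13 zgi14) (kgi xgi6 ygi11 zgi38) (kgi xgi12 ygi16 zgi25) (kgi xgi16 ygi5 zgi3) (kgi xgi8 ygi22 zgi43) (kgi xgi16 ygi5 zgi6) (kgi xgi4 ygi17 zgi38) (kgi xgi4 ygi17 zgi46) (kgi xgi4 ygi17 zgi44) (kgi xgi16 ygi5 zgi13) (kgi xgi8 ygi23 zgi48) (kgi xgi16 ygi5 zgi18) (kgi xgi4 ygi17 zgi41) (kgi xgi8 ygi22 zgi41) (kgi xgi8 ygi22 zgi39) (kgi xgi9 ygi45 zgi53) (kgi xgi6 ygi22 zgi12) (kgi xgi8 ygi25 zgi25) (kgi xgi16 ygi5 zgi26) (kgi xgi4 ygi17 zgi43) (kgi xgi16 ygi5 zgi8) (kgi xgi16 ygi5 zgi35) (kgi xgi16 ygi5 zgi5) (kgi xgi7 ygi55 zgi44) (kgi xgi11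 ygi52 zgi5) (kgi xgi11 ygi53 zgi25) (kgi xgi4 ygi18 zgi7) (kgi xgi8 ygi8 zgi1) (kgi xgi16 ygi5 zgi39) (kgi xgi16 ygi4 zgi29) (kgi xgi16 ygi2 zgi42) (kgi xgi16 ygi5 zgi50) (kgi xgi8 ygi23 zgi51) (kgi xgi6 ygi33 zgi2) (kgi xgi8 ygi35 zgi44) (kgi xgi8 ygi23 zgi53) (kgi xgi6 ygi19 zgi44) (kgi xgi8 ygi16 zgi50) (kgi xgi11 ygi55 zgi35) (kgi xgi11 ygi10 zgi45) (kgi xgi12 ygi11 zgi5) (kgi xgi5 ygi32 zgi49) (kgi xgi16 ygi5 zgi61) (kgi xgi8 ygi22 zgi7) (kgi xgi16 ygi5 zgi31) (kgi xgi4 ygi17 zgi61) (kgi xgi4 ygi18 zgi5) (kgi xgi16 ygi6 zgi9) (kgi xgi16 ygi6 zgi12) (kgi xgi16 ygi2 zgi41) (kgi xgi4 ygi18 zgi2) (kgi xgi8 ygi22 zgi4) (kgi xgi8 ygi22 zgi2)) (@D3.rec (fun _ => Pt) (kgi xgi15 ygi42 zgi39) (kgi xgi15 ygi1 zgi22) (kgi xgi16 ygi6 zgi24)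 (kgi xgi4 ygi18 zgi4) (kgi xgi16 ygi6 zgi6) (kgi xgi16 ygi6 zgi31) (kgi xgi16 ygi6 zgi4) (kgi xgi8 ygi18 zgi58) (kgi xgi10 ygi32 zgi37) (kgi xgi10 ygi44 zgi27) (kgi xgi16 ygi6 zgi35) (kgi xgi6 ygi41 zgi42) (kgi xgi4 ygi53 zgi37) (kgi xgi15 ygi46 zgi25) (kgi xgi6 ygi41 zgi22) (kgi xgi6 ygi41 zgi23) (kgi xgi8 ygi19 zgi39) (kgi xgi12 ygi27 zgi6) (kgi xgi6 ygi48 zgi40) (kgi xgi6 ygi23 zgi24) (kgi xgi6 ygi22 zgi46) (kgi xgi4 ygi50 zgi24) (kgi xgi12 ygi59 zgi61) (kgi xgi7 ygi11 zgi46) (kgi xgi12 ygi24 zgi26) (kgi xgi4 ygi18 zgi23) (kgi xgi12 ygi12 zgi6) (kgi xgi9 ygi19 zgi4) (kgi xgi8 ygi23 zgi3) (kgi xgi4 ygi18 zgi22) (kgi xgi8 ygi23 zgi2) (kgi xgi15 ygi48 zgi29) (kgi xgi7 ygi20 zgi12) (kgi xgi8 ygi23 zgi0) (kgi xgi4 ygi51 zgi57) (kgi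 xgi13 ygi52 zgi32) (kgi xgi4 ygi18 zgi24) (kgi xgi4 ygi18 zgi28) (kgi xgi16 ygi6 zgi60) (kgi xgi15 ygi36 zgi59) (kgi xgi8 ygi33 zgi28) (kgi xgi6 ygi19 zgi43) (kgi xgi6 ygi19 zgi11) (kgi xgi4 ygi18 zgi27) (kgi xgi8 ygi34 zgi40) (kgi xgi15 ygi57 zgi7) (kgi xgi15 ygi59 zgi59) (kgi xgi16 ygi3 zgi53) (kgi xgi4 ygi40 zgi12) (kgi xgi8 ygi22 zgi38) (kgi xgi8 ygi33 zgi21) (kgi xgi10 ygi47 zgi59) (kgi xgi8 ygi22 zgi57) (kgi xgi6 ygi26 zgi16) (kgi xgi16 ygi7 zgi11) (kgi xgi9 ygi38 zgi39) (kgi xgi11 ygi19 zgi22) (kgi xgi14 ygi57 zgi4) (kgi xgi16 ygi7 zgi15) (kgi xgi4 ygi18 zgi38) (kgi xgi12 ygi26 zgi16) (kgi xgi12 ygi23 zgi60)) (@D3.rec (fun _ => Pt) (kgi xgi4 ygi18 zgi40) (kgi xgi4 ygi18 zgi54) (kgi xgi4 ygi18 zgi52) (kgi xgi16 ygi7 zgi24) (kgi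 xgi16 ygi7 zgi27) (kgi xgi8 ygi41 zgi27) (kgi xgi12 ygi43 zgi38) (kgi xgi4 ygi18 zgi44) (kgi xgi8 ygi24 zgi57) (kgi xgi16 ygi7 zgi33) (kgi xgi15 ygi27 zgi15) (kgi xgi15 ygi36 zgi38) (kgi xgi4 ygi19 zgi38) (kgi xgi4 ygi19 zgi25) (kgi xgi16 ygi7 zgi39) (kgi xgi4 ygi53 zgi32) (kgi xgi11 ygi10 zgi46) (kgi xgi9 ygi20 zgi27) (kgi xgi4 ygi18 zgi49) (kgi xgi12 ygi56 zgi45) (kgi xgi4 ygi18 zgi50) (kgi xgi8 ygi25 zgi11) (kgi xgi14 ygi6 zgi50) (kgi xgi4 ygi18 zgi51) (kgi xgi12 ygi23 zgi61) (kgi xgi16 ygi7 zgi52) (kgi xgi7 ygi57 zgi52) (kgi xgi14 ygi57 zgi5) (kgi xgi5 ygi9 zgi45) (kgi xgi8 ygi42 zgi38) (kgi xgi16 ygi7 zgi55) (kgi xgi5 ygi9 zgi30) (kgi xgi15 ygi47 zgi46) (kgi xgi4 ygi18 zgi56) (kgi xgi8 ygi18 zgi33) (kgi xgi14 ygi57 zgi22) (kgi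 xgi12 ygi18 zgi58) (kgi xgi4 ygi21 zgi34) (kgi xgi4 ygi51 zgi15) (kgi xgi4 ygi51 zgi17) (kgi xgi15 ygi34 zgi52) (kgi xgi9 ygi36 zgi32) (kgi xgi8 ygi6 zgi45) (kgi xgi6 ygi4 zgi47) (kgi xgi4 ygi19 zgi10) (kgi xgi8 ygi7 zgi25) (kgi xgi8 ygi7 zgi23) (kgi xgi4 ygi19 zgi11) (kgi xgi8 ygi7 zgi30) (kgi xgi8 ygi7 zgi28) (kgi xgi16 ygi8 zgi18) (kgi xgi16 ygi8 zgi22) (kgi xgi5 ygi39 zgi13) (kgi xgi5 ygi20 zgi36) (kgi xgi8 ygi18 zgi35) (kgi xgi15 ygi22 zgi2) (kgi xgi4 ygi19 zgi15) (kgi xgi8 ygi8 zgi7) (kgi xgi15 ygi23 zgi22) (kgi xgi8 ygi8 zgi4) (kgi xgi16 ygi8 zgi31) (kgi xgi7 ygi55 zgi54)) (@D3.rec (fun _ => Pt) (kgi xgi7 ygi56 zgi23) (kgi xgi4 ygi56 zgi59) (kgi xgi16 ygi8 zgi37) (kgi xgi15 ygi25 zgi57) (kgi xgi16 ygi1 zgi42) (kgi xgi15 ygi24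 zgi9) (kgi xgi15 ygi41 zgi19) (kgi xgi12 ygi20 zgi45) (kgi xgi8 ygi24 zgi32) (kgi xgi8 ygi25 zgi26) (kgi xgi16 ygi8 zgi47) (kgi xgi16 ygi8 zgi49) (kgi xgi8 ygi39 zgi60) (kgi xgi16 ygi8 zgi54) (kgi xgi16 ygi8 zgi57) (kgi xgi6 ygi48 zgi25) (kgi xgi8 ygi18 zgi60) (kgi xgi16 ygi9 zgi2) (kgi xgi8 ygi24 zgi15) (kgi xgi8 ygi24 zgi13) (kgi xgi16 ygi9 zgi8) (kgi xgi4 ygi53 zgi20) (kgi xgi8 ygi25 zgi39) (kgi xgi16 ygi9 zgi12) (kgi xgi9 ygi36 zgi57) (kgi xgi16 ygi9 zgi5) (kgi xgi12 ygi18 zgi29) (kgi xgi16 ygi9 zgi19) (kgi xgi4 ygi19 zgi37) (kgi xgi16 ygi9 zgi25) (kgi xgi8 ygi30 zgi46) (kgi xgi15 ygi36 zgi23) (kgi xgi4 ygi19 zgi39) (kgi xgi15 ygi1 zgi26) (kgi xgi16 ygi9 zgi35) (kgi xgi15 ygi1 zgi24) (kgi xgi7 ygi58 zgi30) (kgi xgi4 ygi19 zgi45)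 (kgi xgi4 ygi50 zgi52) (kgi xgi9 ygi34 zgi52) (kgi xgi4 ygi31 zgi22) (kgi xgi4 ygi31 zgi40) (kgi xgi4 ygi42 zgi53) (kgi xgi16 ygi9 zgi45) (kgi xgi10 ygi1 zgi14) (kgi xgi4 ygi19 zgi55) (kgi xgi8 ygi14 zgi10) (kgi xgi5 ygi35 zgi59) (kgi xgi14 ygi50 zgi55) (kgi xgi16 ygi9 zgi53) (kgi xgi4 ygi19 zgi57) (kgi xgi8 ygi14 zgi24) (kgi xgi8 ygi14 zgi22) (kgi xgi16 ygi9 zgi59) (kgi xgi16 ygi9 zgi57) (kgi xgi10 ygi1 zgi1) (kgi xgi4 ygi19 zgi60) (kgi xgi16 ygi10 zgi2) (kgi xgi16 ygi10 zgi8) (kgi xgi16 ygi10 zgi13) (kgi xgi16 ygi10 zgi3) (kgi xgi16 ygi10 zgi17)) (@D3.rec (fun _ => Pt) (kgi xgi16 ygi10 zgi19) (kgi xgi4 ygi20 zgi1) (kgi xgi16 ygi10 zgi22) (kgi xgi16 ygi9 zgi50) (kgi xgi4 ygi20 zgi3) (kgi xgi5 ygi5 zgi3) (kgi xgi5 ygi5 zgi1) (kgi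 xgi9 ygi9 zgi28) (kgi xgi16 ygi10 zgi27) (kgi xgi13 ygi48 zgi37) (kgi xgi15 ygi13 zgi20) (kgi xgi13 ygi27 zgi54) (kgi xgi13 ygi15 zgi40) (kgi xgi4 ygi20 zgi10) (kgi xgi9 ygi15 zgi3) (kgi xgi4 ygi20 zgi14) (kgi xgi9 ygi14 zgi60) (kgi xgi12 ygi22 zgi26) (kgi xgi4 ygi20 zgi13) (kgi xgi16 ygi10 zgi30) (kgi xgi15 ygi50 zgi13) (kgi xgi16 ygi10 zgi44) (kgi xgi16 ygi10 zgi35) (kgi xgi8 ygi5 zgi9) (kgi xgi16 ygi10 zgi50) (kgi xgi16 ygi10 zgi53) (kgi xgi16 ygi10 zgi57) (kgi xgi4 ygi20 zgi17) (kgi xgi8 ygi39 zgi9) (kgi xgi8 ygi39 zgi7) (kgi xgi16 ygi11 zgi4) (kgi xgi15 ygi30 zgi5) (kgi xgi16 ygi11 zgi7) (kgi xgi16 ygi11 zgi10) (kgi xgi11 ygi52 zgi16) (kgi xgi9 ygi43 zgi22) (kgi xgi16 ygi11 zgi15) (kgi xgi4 ygi25 zgi11) (kgi xgi9 ygi0 zgi43)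 (kgi xgi16 ygi11 zgi21) (kgi xgi15 ygi30 zgi6) (kgi xgi4 ygi20 zgi26) (kgi xgi16 ygi11 zgi26) (kgi xgi16 ygi11 zgi31) (kgi xgi16 ygi11 zgi38) (kgi xgi16 ygi11 zgi27) (kgi xgi16 ygi11 zgi43) (kgi xgi11 ygi2 zgi39) (kgi xgi14 ygi39 zgi15) (kgi xgi9 ygi0 zgi34) (kgi xgi4 ygi20 zgi31) (kgi xgi5 ygi12 zgi50) (kgi xgi5 ygi12 zgi47) (kgi xgi16 ygi11 zgi49) (kgi xgi6 ygi59 zgi18) (kgi xgi8 ygi2 zgi15) (kgi xgi8 ygi5 zgi1) (kgi xgi16 ygi11 zgi53) (kgi xgi14 ygi15 zgi49) (kgi xgi16 ygi11 zgi58) (kgi xgi4 ygi20 zgi39) (kgi xgi13 ygi47 zgi32)) (@D3.rec (fun _ => Pt) (kgi xgi16 ygi12 zgi3) (kgi xgi13 ygi15 zgi29) (kgi xgi16 ygi11 zgi57) (kgi xgi16 ygi12 zgi10) (kgi xgi16 ygi12 zgi13) (kgi xgi16 ygi12 zgi16) (kgi xgi14 ygi0 zgi33) (kgi xgi4 ygi20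 zgi44) (kgi xgi8 ygi38 zgi29) (kgi xgi8 ygi38 zgi27) (kgi xgi16 ygi12 zgi25) (kgi xgi14 ygi43 zgi37) (kgi xgi4 ygi20 zgi47) (kgi xgi8 ygi39 zgi35) (kgi xgi8 ygi39 zgi33) (kgi xgi4 ygi20 zgi48) (kgi xgi8 ygi7 zgi43) (kgi xgi8 ygi7 zgi40) (kgi xgi4 ygi20 zgi49) (kgi xgi16 ygi12 zgi31) (kgi xgi16 ygi12 zgi37) (kgi xgi16 ygi12 zgi43) (kgi xgi16 ygi12 zgi32) (kgi xgi16 ygi12 zgi47) (kgi xgi11 ygi2 zgi42) (kgi xgi5 ygi35 zgi13) (kgi xgi16 ygi12 zgi53) (kgi xgi8 ygi13 zgi34) (kgi xgi8 ygi13 zgi4) (kgi xgi15 ygi9 zgi36) (kgi xgi16 ygi12 zgi59) (kgi xgi16 ygi12 zgi60) (kgi xgi4 ygi31 zgi26) (kgi xgi4 ygi20 zgi57) (kgi xgi8 ygi39 zgi14) (kgi xgi8 ygi39 zgi12) (kgi xgi4 ygi20 zgi58) (kgi xgi16 ygi13 zgi4) (kgi xgi16 ygi13 zgi10) (kgi xgi16 ygi13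 zgi15) (kgi xgi16 ygi13 zgi5) (kgi xgi16 ygi13 zgi20) (kgi xgi15 ygi3 zgi46) (kgi xgi4 ygi20 zgi61) (kgi xgi5 ygi23 zgi23) (kgi xgi16 ygi13 zgi26) (kgi xgi8 ygi11 zgi20) (kgi xgi8 ygi10 zgi55) (kgi xgi10 ygi34 zgi59) (kgi xgi16 ygi13 zgi33) (kgi xgi16 ygi13 zgi35) (kgi xgi4 ygi27 zgi48) (kgi xgi5 ygi35 zgi60) (kgi xgi16 ygi13 zgi39) (kgi xgi8 ygi10 zgi51) (kgi xgi8 ygi24 zgi42) (kgi xgi15 ygi33 zgi18) (kgi xgi12 ygi20 zgi18) (kgi xgi14 ygi57 zgi13) (kgi xgi16 ygi13 zgi44) (kgi xgi8 ygi37 zgi16) (kgi xgi9 ygi38 zgi53)) (@D3.rec (fun _ => Pt) (kgi xgi10 ygi37 zgi42) (kgi xgi12 ygi20 zgi19) (kgi xgi16 ygi13 zgi52) (kgi xgi8 ygi24 zgi24) (kgi xgi12 ygi20 zgi23) (kgi xgi4 ygi21 zgi14) (kgi xgi16 ygi13 zgi57) (kgi xgi16 ygi14 zgi1) (kgi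 xgi16 ygi14 zgi8) (kgi xgi16 ygi13 zgi58) (kgi xgi4 ygi28 zgi35) (kgi xgi12 ygi55 zgi7) (kgi xgi9 ygi37 zgi29) (kgi xgi4 ygi21 zgi17) (kgi xgi16 ygi14 zgi19) (kgi xgi4 ygi52 zgi2) (kgi xgi8 ygi24 zgi59) (kgi xgi4 ygi21 zgi19) (kgi xgi15 ygi43 zgi61) (kgi xgi9 ygi34 zgi53) (kgi xgi16 ygi14 zgi27) (kgi xgi8 ygi36 zgi34) (kgi xgi9 ygi39 zgi4) (kgi xgi4 ygi21 zgi24) (kgi xgi14 ygi56 zgi58) (kgi xgi4 ygi21 zgi25) (kgi xgi16 ygi14 zgi33) (kgi xgi9 ygi37 zgi19) (kgi xgi16 ygi14 zgi42) (kgi xgi16 ygi14 zgi34) (kgi xgi9 ygi33 zgi46) (kgi xgi16 ygi14 zgi49) (kgi xgi9 ygi36 zgi31) (kgi xgi16 ygi14 zgi52) (kgi xgi9 ygi35 zgi2) (kgi xgi16 ygi14 zgi56) (kgi xgi4 ygi53 zgi4) (kgi xgi16 ygi9 zgi41) (kgi xgi4 ygi21 zgi32) (kgi xgi14 ygi57 zgi19) (kgi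 xgi14 ygi57 zgi17) (kgi xgi16 ygi15 zgi9) (kgi xgi16 ygi15 zgi13) (kgi xgi16 ygi15 zgi16) (kgi xgi14 ygi57 zgi12) (kgi xgi9 ygi52 zgi28) (kgi xgi8 ygi42 zgi45) (kgi xgi4 ygi22 zgi23) (kgi xgi10 ygi19 zgi55) (kgi xgi14 ygi58 zgi19) (kgi xgi5 ygi1 zgi2) (kgi xgi8 ygi42 zgi31) (kgi xgi10 ygi51 zgi54) (kgi xgi16 ygi15 zgi25) (kgi xgi8 ygi25 zgi8) (kgi xgi8 ygi24 zgi20) (kgi xgi8 ygi30 zgi51) (kgi xgi4 ygi21 zgi41) (kgi xgi14 ygi57 zgi10) (kgi xgi14 ygi57 zgi8) (kgi xgi16 ygi15 zgi42) (kgi xgi16 ygi15 zgi46)) (@D3.rec (fun _ => Pt) (kgi xgi16 ygi15 zgi50) (kgi xgi4 ygi21 zgi43) (kgi xgi16 ygi15 zgi57) (kgi xgi8 ygi25 zgi45) (kgi xgi4 ygi22 zgi43) (kgi xgi8 ygi6 zgi52) (kgi xgi10 ygi37 zgi32) (kgi xgi9 ygi44 zgi57) (kgi xgi4 ygi21 zgi47)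 (kgi xgi9 ygi38 zgi10) (kgi xgi9 ygi38 zgi8) (kgi xgi16 ygi16 zgi11) (kgi xgi16 ygi16 zgi14) (kgi xgi16 ygi16 zgi18) (kgi xgi4 ygi21 zgi49) (kgi xgi9 ygi38 zgi7) (kgi xgi16 ygi16 zgi25) (kgi xgi9 ygi37 zgi46) (kgi xgi4 ygi22 zgi2) (kgi xgi16 ygi12 zgi29) (kgi xgi14 ygi57 zgi39) (kgi xgi10 ygi39 zgi49) (kgi xgi14 ygi58 zgi6) (kgi xgi5 ygi23 zgi30) (kgi xgi15 ygi22 zgi55) (kgi xgi5 ygi23 zgi25) (kgi xgi11 ygi19 zgi31) (kgi xgi8 ygi36 zgi10) (kgi xgi9 ygi39 zgi3) (kgi xgi8 ygi31 zgi33) (kgi xgi4 ygi21 zgi56) (kgi xgi9 ygi38 zgi1) (kgi xgi9 ygi37 zgi61) (kgi xgi16 ygi16 zgi48) (kgi xgi16 ygi16 zgi51) (kgi xgi16 ygi16 zgi54) (kgi xgi4 ygi21 zgi58) (kgi xgi9 ygi38 zgi15) (kgi xgi10 ygi9 zgi0) (kgi xgi9 ygi37 zgi58) (kgi xgi4 ygi22 zgi5)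 (kgi xgi8 ygi5 zgi43) (kgi xgi15 ygi16 zgi45) (kgi xgi14 ygi57 zgi47) (kgi xgi10 ygi29 zgi19) (kgi xgi4 ygi22 zgi0) (kgi xgi14 ygi57 zgi42) (kgi xgi14 ygi57 zgi40) (kgi xgi16 ygi17 zgi14) (kgi xgi16 ygi17 zgi18) (kgi xgi16 ygi17 zgi20) (kgi xgi16 ygi17 zgi24) (kgi xgi14 ygi57 zgi26) (kgi xgi4 ygi22 zgi3) (kgi xgi14 ygi57 zgi36) (kgi xgi14 ygi57 zgi34) (kgi xgi16 ygi17 zgi36) (kgi xgi16 ygi17 zgi40) (kgi xgi12 ygi26 zgi30) (kgi xgi5 ygi8 zgi48) (kgi xgi10 ygi8 zgi44) (kgi xgi14 ygi57 zgi30)) (@D3.rec (fun _ => Pt) (kgi xgi4 ygi22 zgi6) (kgi xgi4 ygi22 zgi8) (kgi xgi16 ygi6 zgi46) (kgi xgi16 ygi17 zgi56) (kgi xgi15 ygi19 zgi6) (kgi xgi16 ygi16 zgi32) (kgi xgi4 ygi22 zgi10) (kgi xgi16 ygi17 zgi5) (kgi xgi16 ygi17 zgi55) (kgi xgi16 ygi17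 zgi59) (kgi xgi16 ygi18 zgi9) (kgi xgi14 ygi59 zgi8) (kgi xgi4 ygi22 zgi9) (kgi xgi14 ygi59 zgi10) (kgi xgi16 ygi18 zgi17) (kgi xgi16 ygi18 zgi21) (kgi xgi16 ygi18 zgi24) (kgi xgi16 ygi17 zgi11) (kgi xgi14 ygi15 zgi20) (kgi xgi16 ygi17 zgi30) (kgi xgi16 ygi18 zgi34) (kgi xgi4 ygi22 zgi13) (kgi xgi14 ygi58 zgi2) (kgi xgi14 ygi58 zgi0) (kgi xgi4 ygi22 zgi14) (kgi xgi9 ygi35 zgi7) (kgi xgi16 ygi18 zgi50) (kgi xgi8 ygi1 zgi40) (kgi xgi8 ygi40 zgi51) (kgi xgi16 ygi14 zgi32) (kgi xgi4 ygi52 zgi3) (kgi xgi16 ygi3 zgi36) (kgi xgi14 ygi57 zgi31) (kgi xgi16 ygi18 zgi58) (kgi xgi16 ygi18 zgi60) (kgi xgi15 ygi33 zgi34) (kgi xgi4 ygi22 zgi19) (kgi xgi15 ygi15 zgi4) (kgi xgi15 ygi15 zgi3) (kgi xgi4 ygi22 zgi22) (kgi xgi9 ygi44 zgi51) (kgi xgi9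 ygi44 zgi49) (kgi xgi16 ygi19 zgi13) (kgi xgi5 ygi1 zgi11) (kgi xgi14 ygi57 zgi14) (kgi xgi7 ygi55 zgi34) (kgi xgi5 ygi1 zgi14) (kgi xgi4 ygi22 zgi26) (kgi xgi5 ygi37 zgi7) (kgi xgi5 ygi24 zgi28) (kgi xgi16 ygi19 zgi21) (kgi xgi16 ygi19 zgi24) (kgi xgi12 ygi8 zgi43) (kgi xgi5 ygi12 zgi27) (kgi xgi5 ygi42 zgi40) (kgi xgi11 ygi38 zgi8) (kgi xgi4 ygi22 zgi32) (kgi xgi9 ygi44 zgi58) (kgi xgi16 ygi19 zgi34) (kgi xgi16 ygi19 zgi37) (kgi xgi4 ygi22 zgi33) (kgi xgi10 ygi2 zgi52)) (@D3.rec (fun _ => Pt) (kgi xgi5 ygi56 zgi24) (kgi xgi4 ygi22 zgi34) (kgi xgi14 ygi58 zgi27) (kgi xgi16 ygi19 zgi50) (kgi xgi14 ygi58 zgi24) (kgi xgi15 ygi13 zgi26) (kgi xgi5 ygi12 zgi55) (kgi xgi5 ygi53 zgi17) (kgi xgi8 ygi25 zgi57) (kgi xgi9 ygi34 zgi50) (kgi xgi16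 ygi19 zgi55) (kgi xgi8 ygi32 zgi42) (kgi xgi8 ygi33 zgi45) (kgi xgi4 ygi22 zgi41) (kgi xgi8 ygi37 zgi30) (kgi xgi4 ygi22 zgi42) (kgi xgi14 ygi58 zgi16) (kgi xgi14 ygi58 zgi14) (kgi xgi16 ygi20 zgi6) (kgi xgi16 ygi20 zgi10) (kgi xgi9 ygi44 zgi55) (kgi xgi8 ygi41 zgi3) (kgi xgi7 ygi56 zgi18) (kgi xgi5 ygi37 zgi12) (kgi xgi7 ygi7 zgi40) (kgi xgi9 ygi14 zgi59) (kgi xgi13 ygi30 zgi7) (kgi xgi4 ygi22 zgi49) (kgi xgi14 ygi58 zgi21) (kgi xgi10 ygi35 zgi6) (kgi xgi10 ygi13 zgi20) (kgi xgi4 ygi22 zgi50) (kgi xgi9 ygi45 zgi3) (kgi xgi9 ygi45 zgi1) (kgi xgi4 ygi27 zgi0) (kgi xgi5 ygi42 zgi42) (kgi xgi4 ygi22 zgi54) (kgi xgi5 ygi42 zgi34) (kgi xgi16 ygi20 zgi40) (kgi xgi5 ygi19 zgi22) (kgi xgi4 ygi22 zgi55) (kgi xgi12 ygi22 zgi5) (kgi xgi15 ygi7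 zgi6) (kgi xgi16 ygi20 zgi45) (kgi xgi16 ygi20 zgi47) (kgi xgi4 ygi22 zgi58) (kgi xgi14 ygi58 zgi32) (kgi xgi16 ygi20 zgi53) (kgi xgi14 ygi58 zgi30) (kgi xgi5 ygi46 zgi44) (kgi xgi11 ygi23 zgi39) (kgi xgi5 ygi46 zgi36) (kgi xgi5 ygi46 zgi39) (kgi xgi12 ygi5 zgi21) (kgi xgi4 ygi23 zgi4) (kgi xgi13 ygi30 zgi9) (kgi xgi9 ygi42 zgi59) (kgi xgi4 ygi23 zgi5) (kgi xgi9 ygi45 zgi9) (kgi xgi9 ygi45 zgi7) (kgi xgi4 ygi23 zgi26) (kgi xgi16 ygi21 zgi13)) (@D3.rec (fun _ => Pt) (kgi xgi4 ygi23 zgi9) (kgi xgi14 ygi58 zgi37) (kgi xgi10 ygi28 zgi47) (kgi xgi14 ygi58 zgi35) (kgi xgi12 ygi6 zgi41) (kgi xgi4 ygi23 zgi36) (kgi xgi4 ygi23 zgi18) (kgi xgi14 ygi58 zgi59) (kgi xgi7 ygi19 zgi15) (kgi xgi4 ygi23 zgi14) (kgi xgi11 ygi13 zgi12) (kgi xgi16 ygi21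 zgi30) (kgi xgi4 ygi23 zgi15) (kgi xgi14 ygi58 zgi40) (kgi xgi14 ygi58 zgi38) (kgi xgi4 ygi23 zgi28) (kgi xgi4 ygi32 zgi10) (kgi xgi13 ygi27 zgi55) (kgi xgi16 ygi21 zgi38) (kgi xgi4 ygi23 zgi19) (kgi xgi5 ygi40 zgi26) (kgi xgi4 ygi31 zgi57) (kgi xgi8 ygi42 zgi49) (kgi xgi11 ygi23 zgi13) (kgi xgi5 ygi6 zgi43) (kgi xgi11 ygi13 zgi29) (kgi xgi5 ygi42 zgi61) (kgi xgi11 ygi7 zgi17) (kgi xgi11 ygi15 zgi47) (kgi xgi16 ygi21 zgi47) (kgi xgi13 ygi27 zgi51) (kgi xgi4 ygi23 zgi27) (kgi xgi4 ygi23 zgi32) (kgi xgi16 ygi21 zgi52) (kgi xgi5 ygi20 zgi13) (kgi xgi16 ygi21 zgi37) (kgi xgi10 ygi29 zgi14) (kgi xgi10 ygi28 zgi51) (kgi xgi5 ygi42 zgi31) (kgi xgi8 ygi57 zgi39) (kgi xgi8 ygi52 zgi20) (kgi xgi4 ygi23 zgi30) (kgi xgi16 ygi21 zgi35) (kgi xgi16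 ygi22 zgi10) (kgi xgi15 ygi2 zgi1) (kgi xgi9 ygi40 zgi6) (kgi xgi16 ygi21 zgi51) (kgi xgi4 ygi23 zgi31) (kgi xgi8 ygi52 zgi28) (kgi xgi16 ygi22 zgi18) (kgi xgi4 ygi25 zgi39) (kgi xgi16 ygi22 zgi22) (kgi xgi9 ygi2 zgi34) (kgi xgi11 ygi13 zgi7) (kgi xgi16 ygi22 zgi28) (kgi xgi4 ygi23 zgi35) (kgi xgi14 ygi59 zgi2) (kgi xgi16 ygi22 zgi36) (kgi xgi10 ygi28 zgi48) (kgi xgi13 ygi30 zgi38) (kgi xgi16 ygi22 zgi42) (kgi xgi16 ygi22 zgi45)) (@D3.rec (fun _ => Pt) (kgi xgi4 ygi23 zgi37) (kgi xgi14 ygi59 zgi7) (kgi xgi14 ygi59 zgi5) (kgi xgi4 ygi23 zgi38) (kgi xgi14 ygi57 zgi57) (kgi xgi14 ygi57 zgi58) (kgi xgi8 ygi5 zgi38) (kgi xgi4 ygi23 zgi39) (kgi xgi14 ygi59 zgi15) (kgi xgi16 ygi23 zgi1) (kgi xgi14 ygi59 zgi12) (kgi xgi11 ygi13 zgi28) (kgi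 xgi8 ygi1 zgi60) (kgi xgi11 ygi59 zgi33) (kgi xgi8 ygi52 zgi15) (kgi xgi16 ygi23 zgi16) (kgi xgi15 ygi5 zgi58) (kgi xgi16 ygi23 zgi12) (kgi xgi10 ygi28 zgi46) (kgi xgi14 ygi59 zgi23) (kgi xgi4 ygi23 zgi43) (kgi xgi14 ygi59 zgi22) (kgi xgi16 ygi23 zgi29) (kgi xgi12 ygi5 zgi16) (kgi xgi8 ygi2 zgi5) (kgi xgi4 ygi24 zgi8) (kgi xgi5 ygi49 zgi6) (kgi xgi14 ygi8 zgi9) (kgi xgi8 ygi1 zgi47) (kgi xgi4 ygi23 zgi50) (kgi xgi6 ygi13 zgi60) (kgi xgi10 ygi16 zgi35) (kgi xgi6 ygi13 zgi57) (kgi xgi11 ygi23 zgi33) (kgi xgi16 ygi23 zgi45) (kgi xgi4 ygi23 zgi53) (kgi xgi6 ygi14 zgi14) (kgi xgi6 ygi14 zgi12) (kgi xgi4 ygi23 zgi55) (kgi xgi9 ygi9 zgi55) (kgi xgi5 ygi55 zgi32) (kgi xgi7 ygi6 zgi9) (kgi xgi11 ygi36 zgi18) (kgi xgi8 ygi51 zgi18) (kgi xgi8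 ygi49 zgi52) (kgi xgi15 ygi8 zgi40) (kgi xgi4 ygi23 zgi61) (kgi xgi6 ygi24 zgi37) (kgi xgi9 ygi11 zgi49) (kgi xgi15 ygi25 zgi31) (kgi xgi4 ygi24 zgi0) (kgi xgi13 ygi38 zgi55) (kgi xgi13 ygi38 zgi53) (kgi xgi16 ygi23 zgi49) (kgi xgi15 ygi8 zgi3) (kgi xgi16 ygi24 zgi7) (kgi xgi15 ygi8 zgi48) (kgi xgi13 ygi38 zgi25) (kgi xgi7 ygi48 zgi39) (kgi xgi8 ygi51 zgi6) (kgi xgi4 ygi24 zgi6) (kgi xgi7 ygi5 zgi41)) (@D3.rec (fun _ => Pt) (kgi xgi7 ygi5 zgi39) (kgi xgi6 ygi13 zgi13) (kgi xgi9 ygi9 zgi37) (kgi xgi5 ygi12 zgi53) (kgi xgi16 ygi24 zgi17) (kgi xgi14 ygi44 zgi24) (kgi xgi8 ygi3 zgi48) (kgi xgi14 ygi59 zgi59) (kgi xgi16 ygi24 zgi24) (kgi xgi12 ygi8 zgi42) (kgi xgi9 ygi3 zgi4) (kgi xgi11 ygi41 zgi16) (kgi xgi16 ygi24 zgi31) (kgi xgi13 ygi38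 zgi29) (kgi xgi13 ygi20 zgi52) (kgi xgi8 ygi1 zgi24) (kgi xgi5 ygi46 zgi48) (kgi xgi13 ygi31 zgi7) (kgi xgi16 ygi24 zgi37) (kgi xgi4 ygi24 zgi21) (kgi xgi16 ygi24 zgi42) (kgi xgi4 ygi24 zgi22) (kgi xgi13 ygi39 zgi9) (kgi xgi16 ygi24 zgi54) (kgi xgi16 ygi24 zgi30) (kgi xgi4 ygi24 zgi23) (kgi xgi9 ygi49 zgi58) (kgi xgi4 ygi24 zgi26) (kgi xgi16 ygi24 zgi60) (kgi xgi16 ygi25 zgi1) (kgi xgi15 ygi8 zgi10) (kgi xgi16 ygi24 zgi59) (kgi xgi8 ygi1 zgi23) (kgi xgi6 ygi24 zgi55) (kgi xgi16 ygi25 zgi9) (kgi xgi6 ygi24 zgi53) (kgi xgi13 ygi58 zgi61) (kgi xgi14 ygi50 zgi29) (kgi xgi16 ygi25 zgi17) (kgi xgi4 ygi24 zgi45) (kgi xgi4 ygi24 zgi34) (kgi xgi15 ygi8 zgi51) (kgi xgi5 ygi56 zgi12) (kgi xgi16 ygi25 zgi25) (kgi xgi9 ygi47 zgi51) (kgi xgi16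 ygi25 zgi29) (kgi xgi4 ygi24 zgi37) (kgi xgi16 ygi25 zgi26) (kgi xgi16 ygi25 zgi24) (kgi xgi12 ygi6 zgi49) (kgi xgi16 ygi25 zgi40) (kgi xgi16 ygi25 zgi43) (kgi xgi16 ygi25 zgi44) (kgi xgi15 ygi6 zgi37) (kgi xgi12 ygi6 zgi55) (kgi xgi12 ygi5 zgi20) (kgi xgi16 ygi25 zgi55) (kgi xgi14 ygi59 zgi36) (kgi xgi16 ygi25 zgi59) (kgi xgi4 ygi24 zgi53) (kgi xgi7 ygi39 zgi18) (kgi xgi4 ygi24 zgi50)) (@D3.rec (fun _ => Pt) (kgi xgi12 ygi6 zgi30) (kgi xgi9 ygi25 zgi35) (kgi xgi16 ygi26 zgi8) (kgi xgi4 ygi24 zgi48) (kgi xgi11 ygi41 zgi14) (kgi xgi16 ygi26 zgi14) (kgi xgi4 ygi24 zgi49) (kgi xgi16 ygi25 zgi61) (kgi xgi16 ygi26 zgi23) (kgi xgi13 ygi26 zgi57) (kgi xgi13 ygi31 zgi22) (kgi xgi13 ygi31 zgi18) (kgi xgi4 ygi24 zgi52) (kgi xgi16 ygi26 zgi3)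 (kgi xgi7 ygi14 zgi37) (kgi xgi16 ygi26 zgi1) (kgi xgi8 ygi1 zgi16) (kgi xgi16 ygi26 zgi44) (kgi xgi16 ygi26 zgi46) (kgi xgi10 ygi52 zgi32) (kgi xgi16 ygi26 zgi43) (kgi xgi12 ygi6 zgi29) (kgi xgi4 ygi24 zgi56) (kgi xgi9 ygi47 zgi2) (kgi xgi16 ygi26 zgi58) (kgi xgi9 ygi46 zgi61) (kgi xgi9 ygi44 zgi38) (kgi xgi16 ygi27 zgi2) (kgi xgi15 ygi8 zgi21) (kgi xgi11 ygi32 zgi37) (kgi xgi16 ygi27 zgi9) (kgi xgi4 ygi27 zgi5) (kgi xgi6 ygi9 zgi16) (kgi xgi16 ygi27 zgi16) (kgi xgi15 ygi8 zgi2) (kgi xgi8 ygi48 zgi48) (kgi xgi16 ygi27 zgi22) (kgi xgi4 ygi25 zgi1) (kgi xgi8 ygi47 zgi40) (kgi xgi16 ygi27 zgi26) (kgi xgi8 ygi47 zgi37) (kgi xgi9 ygi47 zgi12) (kgi xgi16 ygi27 zgi33) (kgi xgi4 ygi25 zgi3) (kgi xgi16 ygi27 zgi36) (kgi xgi14 ygi58 zgi28)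 (kgi xgi16 ygi27 zgi39) (kgi xgi11 ygi33 zgi61) (kgi xgi15 ygi13 zgi12) (kgi xgi16 ygi27 zgi44) (kgi xgi9 ygi9 zgi27) (kgi xgi16 ygi27 zgi48) (kgi xgi16 ygi23 zgi14) (kgi xgi5 ygi38 zgi4) (kgi xgi8 ygi51 zgi24) (kgi xgi12 ygi21 zgi55) (kgi xgi4 ygi25 zgi9) (kgi xgi14 ygi59 zgi54) (kgi xgi16 ygi12 zgi22) (kgi xgi14 ygi59 zgi52) (kgi xgi16 ygi28 zgi4) (kgi xgi16 ygi28 zgi7)) (@D3.rec (fun _ => Pt) (kgi xgi8 ygi2 zgi7) (kgi xgi7 ygi57 zgi16) (kgi xgi16 ygi24 zgi33) (kgi xgi4 ygi26 zgi47) (kgi xgi4 ygi26 zgi10) (kgi xgi15 ygi4 zgi46) (kgi xgi7 ygi14 zgi28) (kgi xgi13 ygi38 zgi30) (kgi xgi16 ygi28 zgi13) (kgi xgi13 ygi31 zgi12) (kgi xgi11 ygi37 zgi42) (kgi xgi16 ygi28 zgi18) (kgi xgi4 ygi25 zgi21) (kgi xgi4 ygi25 zgi29) (kgi xgi11 ygi29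 zgi13) (kgi xgi16 ygi28 zgi23) (kgi xgi4 ygi25 zgi44) (kgi xgi16 ygi28 zgi22) (kgi xgi13 ygi51 zgi31) (kgi xgi11 ygi33 zgi31) (kgi xgi6 ygi18 zgi21) (kgi xgi12 ygi45 zgi43) (kgi xgi4 ygi25 zgi25) (kgi xgi16 ygi28 zgi19) (kgi xgi16 ygi28 zgi34) (kgi xgi13 ygi27 zgi50) (kgi xgi7 ygi8 zgi26) (kgi xgi15 ygi7 zgi61) (kgi xgi6 ygi13 zgi5) (kgi xgi7 ygi8 zgi23) (kgi xgi16 ygi28 zgi43) (kgi xgi4 ygi26 zgi2) (kgi xgi16 ygi28 zgi48) (kgi xgi13 ygi42 zgi42) (kgi xgi16 ygi28 zgi47) (kgi xgi11 ygi23 zgi16) (kgi xgi4 ygi25 zgi32) (kgi xgi11 ygi59 zgi37) (kgi xgi16 ygi28 zgi58) (kgi xgi11 ygi59 zgi34) (kgi xgi4 ygi26 zgi4) (kgi xgi16 ygi29 zgi1) (kgi xgi11 ygi33 zgi13) (kgi xgi13 ygi32 zgi28) (kgi xgi4 ygi25 zgi36) (kgi xgi8 ygi48 zgi47) (kgi xgi14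 ygi27 zgi53) (kgi xgi8 ygi48 zgi44) (kgi xgi8 ygi47 zgi32) (kgi xgi16 ygi29 zgi10) (kgi xgi4 ygi26 zgi16) (kgi xgi16 ygi29 zgi13) (kgi xgi16 ygi22 zgi21) (kgi xgi4 ygi35 zgi35) (kgi xgi9 ygi9 zgi45) (kgi xgi5 ygi38 zgi14) (kgi xgi9 ygi17 zgi46) (kgi xgi11 ygi17 zgi50) (kgi xgi11 ygi28 zgi14) (kgi xgi16 ygi29 zgi20) (kgi xgi13 ygi46 zgi27) (kgi xgi16 ygi29 zgi24)) (@D3.rec (fun _ => Pt) (kgi xgi7 ygi17 zgi24) (kgi xgi5 ygi51 zgi29) (kgi xgi4 ygi25 zgi49) (kgi xgi5 ygi7 zgi55) (kgi xgi4 ygi58 zgi24) (kgi xgi4 ygi36 zgi60) (kgi xgi16 ygi29 zgi30) (kgi xgi4 ygi25 zgi52) (kgi xgi4 ygi26 zgi1) (kgi xgi4 ygi25 zgi53) (kgi xgi11 ygi11 zgi44) (kgi xgi11 ygi59 zgi31) (kgi xgi10 ygi1 zgi28) (kgi xgi4 ygi25 zgi56) (kgi xgi16 ygi23 zgi50) (kgi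 xgi5 ygi5 zgi14) (kgi xgi11 ygi8 zgi24) (kgi xgi6 ygi24 zgi27) (kgi xgi16 ygi29 zgi50) (kgi xgi16 ygi29 zgi54) (kgi xgi16 ygi29 zgi57) (kgi xgi5 ygi50 zgi58) (kgi xgi16 ygi29 zgi60) (kgi xgi5 ygi50 zgi57) (kgi xgi5 ygi40 zgi11) (kgi xgi11 ygi28 zgi44) (kgi xgi5 ygi38 zgi18) (kgi xgi5 ygi38 zgi17) (kgi xgi16 ygi30 zgi5) (kgi xgi11 ygi13 zgi9) (kgi xgi16 ygi27 zgi35) (kgi xgi16 ygi27 zgi34) (kgi xgi16 ygi30 zgi11) (kgi xgi16 ygi28 zgi60) (kgi xgi4 ygi35 zgi18) (kgi xgi9 ygi9 zgi35) (kgi xgi12 ygi8 zgi0) (kgi xgi9 ygi19 zgi35) (kgi xgi4 ygi26 zgi21) (kgi xgi14 ygi50 zgi0) (kgi xgi11 ygi16 zgi39) (kgi xgi4 ygi26 zgi9) (kgi xgi4 ygi26 zgi22) (kgi xgi11 ygi27 zgi25) (kgi xgi13 ygi47 zgi24) (kgi xgi4 ygi26 zgi11) (kgi xgi4 ygi26 zgi14) (kgi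 xgi11 ygi11 zgi39) (kgi xgi4 ygi26 zgi12) (kgi xgi12 ygi8 zgi11) (kgi xgi11 ygi11 zgi45) (kgi xgi4 ygi35 zgi15) (kgi xgi8 ygi45 zgi42) (kgi xgi16 ygi30 zgi35) (kgi xgi11 ygi27 zgi54) (kgi xgi11 ygi29 zgi19) (kgi xgi9 ygi51 zgi0) (kgi xgi4 ygi26 zgi15) (kgi xgi9 ygi51 zgi2) (kgi xgi16 ygi30 zgi18) (kgi xgi9 ygi18 zgi1) (kgi xgi12 ygi8 zgi1)) (@D3.rec (fun _ => Pt) (kgi xgi11 ygi47 zgi14) (kgi xgi4 ygi26 zgi18) (kgi xgi7 ygi57 zgi19) (kgi xgi5 ygi50 zgi11) (kgi xgi16 ygi30 zgi41) (kgi xgi4 ygi26 zgi20) (kgi xgi16 ygi30 zgi22) (kgi xgi11 ygi20 zgi12) (kgi xgi16 ygi30 zgi20) (kgi xgi14 ygi50 zgi32) (kgi xgi16 ygi29 zgi17) (kgi xgi16 ygi30 zgi57) (kgi xgi16 ygi30 zgi58) (kgi xgi16 ygi30 zgi60) (kgi xgi16 ygi30 zgi56) (kgi xgi16 ygi29 zgi12)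 (kgi xgi4 ygi26 zgi25) (kgi xgi16 ygi29 zgi15) (kgi xgi16 ygi31 zgi11) (kgi xgi15 ygi7 zgi53) (kgi xgi16 ygi29 zgi53) (kgi xgi4 ygi35 zgi33) (kgi xgi4 ygi26 zgi27) (kgi xgi5 ygi57 zgi0) (kgi xgi16 ygi19 zgi40) (kgi xgi12 ygi6 zgi20) (kgi xgi16 ygi31 zgi27) (kgi xgi4 ygi26 zgi29) (kgi xgi12 ygi6 zgi16) (kgi xgi6 ygi48 zgi61) (kgi xgi16 ygi31 zgi30) (kgi xgi4 ygi26 zgi30) (kgi xgi13 ygi47 zgi16) (kgi xgi16 ygi31 zgi40) (kgi xgi16 ygi31 zgi26) (kgi xgi16 ygi31 zgi43) (kgi xgi16 ygi31 zgi46) (kgi xgi15 ygi0 zgi7) (kgi xgi16 ygi31 zgi42) (kgi xgi4 ygi26 zgi46) (kgi xgi4 ygi26 zgi33) (kgi xgi9 ygi19 zgi40) (kgi xgi12 ygi22 zgi36) (kgi xgi9 ygi19 zgi38) (kgi xgi8 ygi50 zgi37) (kgi xgi12 ygi49 zgi24) (kgi xgi16 ygi31 zgi60) (kgi xgi4 ygi26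 zgi38) (kgi xgi11 ygi14 zgi11) (kgi xgi16 ygi32 zgi6) (kgi xgi16 ygi31 zgi59) (kgi xgi8 ygi48 zgi8) (kgi xgi16 ygi32 zgi13) (kgi xgi16 ygi32 zgi16) (kgi xgi16 ygi32 zgi18) (kgi xgi16 ygi27 zgi57) (kgi xgi8 ygi50 zgi36) (kgi xgi4 ygi26 zgi41) (kgi xgi8 ygi51 zgi26) (kgi xgi16 ygi32 zgi32) (kgi xgi8 ygi51 zgi33) (kgi xgi4 ygi26 zgi43)) (@D3.rec (fun _ => Pt) (kgi xgi9 ygi8 zgi24) (kgi xgi11 ygi33 zgi24) (kgi xgi16 ygi32 zgi46) (kgi xgi16 ygi32 zgi50) (kgi xgi8 ygi46 zgi18) (kgi xgi16 ygi32 zgi56) (kgi xgi16 ygi32 zgi59) (kgi xgi4 ygi26 zgi45) (kgi xgi4 ygi26 zgi49) (kgi xgi16 ygi33 zgi5) (kgi xgi16 ygi33 zgi9) (kgi xgi15 ygi0 zgi29) (kgi xgi9 ygi19 zgi37) (kgi xgi15 ygi0 zgi21) (kgi xgi15 ygi0 zgi20) (kgi xgi12 ygi38 zgi2) (kgi xgi16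 ygi33 zgi16) (kgi xgi13 ygi47 zgi14) (kgi xgi11 ygi37 zgi25) (kgi xgi16 ygi25 zgi52) (kgi xgi8 ygi46 zgi29) (kgi xgi16 ygi33 zgi4) (kgi xgi8 ygi37 zgi2) (kgi xgi4 ygi26 zgi50) (kgi xgi8 ygi47 zgi51) (kgi xgi12 ygi7 zgi60) (kgi xgi8 ygi50 zgi57) (kgi xgi9 ygi8 zgi26) (kgi xgi16 ygi33 zgi36) (kgi xgi12 ygi8 zgi7) (kgi xgi16 ygi28 zgi14) (kgi xgi16 ygi33 zgi35) (kgi xgi9 ygi19 zgi34) (kgi xgi4 ygi26 zgi54) (kgi xgi8 ygi50 zgi60) (kgi xgi16 ygi33 zgi50) (kgi xgi4 ygi26 zgi55) (kgi xgi4 ygi26 zgi57) (kgi xgi16 ygi33 zgi55) (kgi xgi16 ygi33 zgi59) (kgi xgi7 ygi8 zgi19) (kgi xgi16 ygi24 zgi15) (kgi xgi16 ygi34 zgi4) (kgi xgi5 ygi52 zgi58) (kgi xgi8 ygi2 zgi42) (kgi xgi16 ygi34 zgi10) (kgi xgi12 ygi6 zgi7) (kgi xgi16 ygi34 zgi15) (kgi xgi4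 ygi26 zgi61) (kgi xgi8 ygi51 zgi51) (kgi xgi16 ygi34 zgi22) (kgi xgi8 ygi51 zgi48) (kgi xgi16 ygi34 zgi26) (kgi xgi16 ygi33 zgi54) (kgi xgi16 ygi34 zgi31) (kgi xgi5 ygi0 zgi30) (kgi xgi8 ygi45 zgi53) (kgi xgi13 ygi26 zgi45) (kgi xgi16 ygi33 zgi53) (kgi xgi16 ygi34 zgi38) (kgi xgi5 ygi2 zgi51) (kgi xgi5 ygi2 zgi53)) (@D3.rec (fun _ => Pt) (kgi xgi10 ygi24 zgi54) (kgi xgi16 ygi34 zgi43) (kgi xgi16 ygi34 zgi46) (kgi xgi9 ygi56 zgi27) (kgi xgi10 ygi28 zgi13) (kgi xgi11 ygi13 zgi37) (kgi xgi10 ygi16 zgi42) (kgi xgi16 ygi34 zgi53) (kgi xgi5 ygi5 zgi27) (kgi xgi16 ygi34 zgi57) (kgi xgi10 ygi1 zgi49) (kgi xgi16 ygi35 zgi0) (kgi xgi4 ygi27 zgi15) (kgi xgi5 ygi16 zgi22) (kgi xgi5 ygi16 zgi20) (kgi xgi16 ygi35 zgi6) (kgi xgi10 ygi1 zgi40) (kgi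 xgi16 ygi35 zgi4) (kgi xgi16 ygi35 zgi11) (kgi xgi10 ygi1 zgi46) (kgi xgi10 ygi26 zgi50) (kgi xgi4 ygi27 zgi18) (kgi xgi16 ygi35 zgi18) (kgi xgi16 ygi35 zgi22) (kgi xgi11 ygi23 zgi3) (kgi xgi16 ygi35 zgi19) (kgi xgi4 ygi27 zgi19) (kgi xgi16 ygi35 zgi27) (kgi xgi8 ygi44 zgi34) (kgi xgi16 ygi35 zgi31) (kgi xgi4 ygi27 zgi23) (kgi xgi5 ygi13 zgi12) (kgi xgi16 ygi35 zgi34) (kgi xgi10 ygi16 zgi33) (kgi xgi16 ygi35 zgi40) (kgi xgi4 ygi27 zgi25) (kgi xgi5 ygi18 zgi35) (kgi xgi5 ygi18 zgi33) (kgi xgi16 ygi35 zgi44) (kgi xgi10 ygi16 zgi28) (kgi xgi10 ygi22 zgi18) (kgi xgi14 ygi59 zgi19) (kgi xgi10 ygi16 zgi26) (kgi xgi16 ygi22 zgi4) (kgi xgi4 ygi27 zgi28) (kgi xgi16 ygi35 zgi53) (kgi xgi16 ygi35 zgi57) (kgi xgi16 ygi36 zgi2) (kgi xgi16 ygi35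 zgi54) (kgi xgi4 ygi27 zgi29) (kgi xgi8 ygi11 zgi47) (kgi xgi8 ygi11 zgi45) (kgi xgi16 ygi36 zgi10) (kgi xgi8 ygi52 zgi26) (kgi xgi16 ygi36 zgi14) (kgi xgi11 ygi52 zgi51) (kgi xgi4 ygi27 zgi33) (kgi xgi4 ygi28 zgi1) (kgi xgi16 ygi36 zgi22) (kgi xgi8 ygi53 zgi34) (kgi xgi16 ygi36 zgi28) (kgi xgi4 ygi27 zgi35)) (@D3.rec (fun _ => Pt) (kgi xgi4 ygi28 zgi18) (kgi xgi16 ygi36 zgi33) (kgi xgi8 ygi53 zgi22) (kgi xgi15 ygi19 zgi19) (kgi xgi16 ygi36 zgi38) (kgi xgi8 ygi53 zgi28) (kgi xgi5 ygi32 zgi53) (kgi xgi4 ygi27 zgi38) (kgi xgi16 ygi36 zgi44) (kgi xgi16 ygi36 zgi50) (kgi xgi16 ygi36 zgi57) (kgi xgi16 ygi36 zgi45) (kgi xgi4 ygi27 zgi39) (kgi xgi4 ygi28 zgi39) (kgi xgi16 ygi37 zgi4) (kgi xgi11 ygi54 zgi23) (kgi xgi16 ygi37 zgi8) (kgi xgi11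 ygi5 zgi60) (kgi xgi4 ygi27 zgi43) (kgi xgi8 ygi20 zgi29) (kgi xgi8 ygi20 zgi27) (kgi xgi16 ygi37 zgi14) (kgi xgi8 ygi53 zgi5) (kgi xgi16 ygi37 zgi20) (kgi xgi4 ygi27 zgi47) (kgi xgi5 ygi28 zgi25) (kgi xgi5 ygi28 zgi23) (kgi xgi16 ygi37 zgi26) (kgi xgi8 ygi53 zgi2) (kgi xgi16 ygi37 zgi32) (kgi xgi16 ygi37 zgi35) (kgi xgi8 ygi52 zgi59) (kgi xgi16 ygi37 zgi24) (kgi xgi16 ygi37 zgi43) (kgi xgi8 ygi8 zgi12) (kgi xgi11 ygi53 zgi8) (kgi xgi4 ygi27 zgi52) (kgi xgi16 ygi36 zgi15) (kgi xgi16 ygi36 zgi13) (kgi xgi16 ygi37 zgi60) (kgi xgi16 ygi38 zgi1) (kgi xgi4 ygi27 zgi53) (kgi xgi4 ygi27 zgi61) (kgi xgi16 ygi38 zgi9) (kgi xgi4 ygi27 zgi54) (kgi xgi15 ygi17 zgi44) (kgi xgi16 ygi38 zgi18) (kgi xgi15 ygi17 zgi42) (kgi xgi16 ygi13 zgi37) (kgi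 xgi16 ygi38 zgi21) (kgi xgi8 ygi55 zgi41) (kgi xgi4 ygi27 zgi57) (kgi xgi9 ygi4 zgi5) (kgi xgi5 ygi21 zgi57) (kgi xgi5 ygi20 zgi17) (kgi xgi16 ygi38 zgi35) (kgi xgi10 ygi33 zgi24) (kgi xgi4 ygi27 zgi60) (kgi xgi15 ygi17 zgi37) (kgi xgi15 ygi17 zgi35) (kgi xgi16 ygi38 zgi49) (kgi xgi16 ygi38 zgi53)) (@D3.rec (fun _ => Pt) (kgi xgi16 ygi38 zgi57) (kgi xgi4 ygi28 zgi0) (kgi xgi16 ygi36 zgi19) (kgi xgi16 ygi39 zgi4) (kgi xgi16 ygi36 zgi17) (kgi xgi15 ygi36 zgi26) (kgi xgi10 ygi29 zgi35) (kgi xgi16 ygi39 zgi7) (kgi xgi16 ygi39 zgi12) (kgi xgi16 ygi39 zgi15) (kgi xgi4 ygi28 zgi5) (kgi xgi15 ygi9 zgi10) (kgi xgi10 ygi27 zgi58) (kgi xgi15 ygi9 zgi9) (kgi xgi16 ygi39 zgi21) (kgi xgi11 ygi54 zgi27) (kgi xgi16 ygi39 zgi26) (kgi xgi4 ygi28 zgi8)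 (kgi xgi16 ygi36 zgi23) (kgi xgi16 ygi36 zgi21) (kgi xgi16 ygi39 zgi36) (kgi xgi16 ygi39 zgi38) (kgi xgi4 ygi28 zgi9) (kgi xgi4 ygi28 zgi16) (kgi xgi16 ygi39 zgi43) (kgi xgi4 ygi28 zgi10) (kgi xgi15 ygi19 zgi18) (kgi xgi16 ygi39 zgi52) (kgi xgi15 ygi19 zgi15) (kgi xgi4 ygi28 zgi25) (kgi xgi16 ygi35 zgi5) (kgi xgi16 ygi36 zgi36) (kgi xgi10 ygi29 zgi53) (kgi xgi10 ygi22 zgi19) (kgi xgi16 ygi40 zgi0) (kgi xgi4 ygi28 zgi15) (kgi xgi15 ygi19 zgi11) (kgi xgi15 ygi19 zgi9) (kgi xgi16 ygi40 zgi7) (kgi xgi16 ygi40 zgi11) (kgi xgi16 ygi40 zgi15) (kgi xgi4 ygi28 zgi17) (kgi xgi16 ygi36 zgi30) (kgi xgi16 ygi40 zgi23) (kgi xgi16 ygi36 zgi27) (kgi xgi4 ygi28 zgi29) (kgi xgi16 ygi5 zgi10) (kgi xgi16 ygi36 zgi43) (kgi xgi5 ygi21 zgi38) (kgi xgi4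 ygi28 zgi22) (kgi xgi16 ygi36 zgi39) (kgi xgi16 ygi36 zgi37) (kgi xgi16 ygi40 zgi38) (kgi xgi16 ygi40 zgi42) (kgi xgi15 ygi3 zgi22) (kgi xgi4 ygi28 zgi24) (kgi xgi5 ygi31 zgi61) (kgi xgi4 ygi28 zgi26) (kgi xgi16 ygi36 zgi34) (kgi xgi16 ygi36 zgi32) (kgi xgi16 ygi40 zgi56) (kgi xgi16 ygi40 zgi41)) (@D3.rec (fun _ => Pt) (kgi xgi16 ygi40 zgi61) (kgi xgi16 ygi41 zgi2) (kgi xgi16 ygi40 zgi60) (kgi xgi16 ygi41 zgi6) (kgi xgi16 ygi36 zgi31) (kgi xgi4 ygi28 zgi30) (kgi xgi4 ygi28 zgi32) (kgi xgi16 ygi41 zgi13) (kgi xgi5 ygi31 zgi36) (kgi xgi10 ygi47 zgi47) (kgi xgi16 ygi39 zgi58) (kgi xgi4 ygi28 zgi34) (kgi xgi16 ygi40 zgi30) (kgi xgi16 ygi41 zgi18) (kgi xgi16 ygi41 zgi23) (kgi xgi16 ygi41 zgi36) (kgi xgi16 ygi41 zgi40) (kgi xgi4 ygi28 zgi33)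 (kgi xgi16 ygi41 zgi8) (kgi xgi16 ygi41 zgi49) (kgi xgi16 ygi41 zgi55) (kgi xgi16 ygi41 zgi39) (kgi xgi16 ygi41 zgi59) (kgi xgi16 ygi40 zgi35) (kgi xgi16 ygi42 zgi2) (kgi xgi16 ygi40 zgi51) (kgi xgi16 ygi42 zgi9) (kgi xgi16 ygi42 zgi12) (kgi xgi16 ygi42 zgi15) (kgi xgi4 ygi28 zgi38) (kgi xgi16 ygi37 zgi5) (kgi xgi16 ygi37 zgi3) (kgi xgi16 ygi42 zgi26) (kgi xgi4 ygi28 zgi40) (kgi xgi11 ygi52 zgi38) (kgi xgi16 ygi42 zgi34) (kgi xgi8 ygi20 zgi22) (kgi xgi15 ygi19 zgi8) (kgi xgi8 ygi53 zgi50) (kgi xgi11 ygi53 zgi40) (kgi xgi11 ygi53 zgi16) (kgi xgi10 ygi40 zgi13) (kgi xgi16 ygi42 zgi46) (kgi xgi8 ygi6 zgi18) (kgi xgi16 ygi42 zgi51) (kgi xgi4 ygi28 zgi44) (kgi xgi5 ygi28 zgi36) (kgi xgi16 ygi42 zgi55) (kgi xgi8 ygi6 zgi15) (kgi xgi16 ygi42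 zgi59) (kgi xgi16 ygi42 zgi61) (kgi xgi15 ygi44 zgi14) (kgi xgi16 ygi43 zgi3) (kgi xgi9 ygi24 zgi61) (kgi xgi4 ygi28 zgi49) (kgi xgi5 ygi30 zgi0) (kgi xgi5 ygi29 zgi60) (kgi xgi16 ygi43 zgi13) (kgi xgi4 ygi28 zgi50) (kgi xgi5 ygi29 zgi26) (kgi xgi8 ygi16 zgi61) (kgi xgi4 ygi28 zgi51)) (@D3.rec (fun _ => Pt) (kgi xgi7 ygi38 zgi59) (kgi xgi16 ygi43 zgi21) (kgi xgi11 ygi4 zgi10) (kgi xgi15 ygi33 zgi20) (kgi xgi15 ygi35 zgi1) (kgi xgi10 ygi50 zgi1) (kgi xgi4 ygi28 zgi55) (kgi xgi5 ygi28 zgi28) (kgi xgi5 ygi28 zgi26) (kgi xgi16 ygi43 zgi34) (kgi xgi11 ygi2 zgi5) (kgi xgi16 ygi43 zgi36) (kgi xgi16 ygi43 zgi39) (kgi xgi11 ygi4 zgi59) (kgi xgi11 ygi4 zgi53) (kgi xgi16 ygi43 zgi38) (kgi xgi12 ygi30 zgi33) (kgi xgi5 ygi30 zgi31) (kgi xgi4 ygi28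 zgi60) (kgi xgi5 ygi30 zgi29) (kgi xgi8 ygi47 zgi19) (kgi xgi15 ygi1 zgi15) (kgi xgi15 ygi41 zgi8) (kgi xgi16 ygi44 zgi1) (kgi xgi8 ygi26 zgi36) (kgi xgi15 ygi56 zgi1) (kgi xgi16 ygi44 zgi8) (kgi xgi10 ygi19 zgi20) (kgi xgi16 ygi44 zgi13) (kgi xgi16 ygi44 zgi16) (kgi xgi11 ygi55 zgi10) (kgi xgi16 ygi44 zgi21) (kgi xgi15 ygi37 zgi28) (kgi xgi4 ygi29 zgi9) (kgi xgi5 ygi27 zgi58) (kgi xgi5 ygi27 zgi56) (kgi xgi16 ygi44 zgi34) (kgi xgi16 ygi44 zgi38) (kgi xgi4 ygi47 zgi21) (kgi xgi4 ygi29 zgi11) (kgi xgi7 ygi38 zgi5) (kgi xgi8 ygi26 zgi46) (kgi xgi10 ygi17 zgi4) (kgi xgi16 ygi44 zgi44) (kgi xgi16 ygi44 zgi47) (kgi xgi11 ygi5 zgi30) (kgi xgi11 ygi5 zgi20) (kgi xgi16 ygi44 zgi46) (kgi xgi16 ygi44 zgi59) (kgi xgi5 ygi29 zgi12) (kgi xgi11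 ygi32 zgi20) (kgi xgi4 ygi29 zgi18) (kgi xgi5 ygi29 zgi10) (kgi xgi16 ygi45 zgi9) (kgi xgi16 ygi45 zgi11) (kgi xgi4 ygi29 zgi19) (kgi xgi11 ygi32 zgi17) (kgi xgi13 ygi2 zgi21) (kgi xgi16 ygi43 zgi31) (kgi xgi12 ygi55 zgi57) (kgi xgi9 ygi4 zgi37) (kgi xgi16 ygi45 zgi23)) (@D3.rec (fun _ => Pt) (kgi xgi5 ygi35 zgi5) (kgi xgi16 ygi45 zgi28) (kgi xgi4 ygi29 zgi26) (kgi xgi5 ygi32 zgi19) (kgi xgi5 ygi32 zgi17) (kgi xgi10 ygi51 zgi16) (kgi xgi16 ygi45 zgi35) (kgi xgi16 ygi45 zgi39) (kgi xgi4 ygi29 zgi28) (kgi xgi15 ygi15 zgi20) (kgi xgi8 ygi8 zgi19) (kgi xgi15 ygi15 zgi17) (kgi xgi10 ygi23 zgi25) (kgi xgi10 ygi25 zgi27) (kgi xgi5 ygi24 zgi6) (kgi xgi15 ygi15 zgi32) (kgi xgi15 ygi36 zgi9) (kgi xgi15 ygi16 zgi5) (kgi xgi10 ygi32 zgi12) (kgi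 xgi16 ygi41 zgi19) (kgi xgi16 ygi45 zgi60) (kgi xgi5 ygi35 zgi8) (kgi xgi5 ygi25 zgi19) (kgi xgi8 ygi59 zgi10) (kgi xgi5 ygi32 zgi41) (kgi xgi12 ygi31 zgi48) (kgi xgi16 ygi46 zgi10) (kgi xgi12 ygi31 zgi55) (kgi xgi4 ygi29 zgi37) (kgi xgi16 ygi46 zgi8) (kgi xgi12 ygi49 zgi38) (kgi xgi16 ygi46 zgi6) (kgi xgi16 ygi46 zgi20) (kgi xgi5 ygi35 zgi2) (kgi xgi4 ygi29 zgi41) (kgi xgi5 ygi31 zgi60) (kgi xgi9 ygi44 zgi10) (kgi xgi5 ygi31 zgi58) (kgi xgi5 ygi20 zgi57) (kgi xgi8 ygi44 zgi36) (kgi xgi10 ygi12 zgi19) (kgi xgi11 ygi39 zgi8) (kgi xgi5 ygi34 zgi53) (kgi xgi10 ygi12 zgi48) (kgi xgi5 ygi24 zgi1) (kgi xgi4 ygi29 zgi49) (kgi xgi4 ygi29 zgi55) (kgi xgi4 ygi29 zgi53) (kgi xgi4 ygi29 zgi50) (kgi xgi5 ygi31 zgi8) (kgi xgi5 ygi31 zgi6) (kgi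 xgi10 ygi47 zgi5) (kgi xgi16 ygi46 zgi37) (kgi xgi16 ygi46 zgi40) (kgi xgi4 ygi29 zgi52) (kgi xgi15 ygi52 zgi3) (kgi xgi16 ygi46 zgi46) (kgi xgi15 ygi51 zgi52) (kgi xgi8 ygi26 zgi59) (kgi xgi8 ygi22 zgi27) (kgi xgi16 ygi46 zgi49) (kgi xgi9 ygi44 zgi14)) (@D3.rec (fun _ => Pt) (kgi xgi11 ygi0 zgi26) (kgi xgi7 ygi58 zgi54) (kgi xgi10 ygi59 zgi29) (kgi xgi16 ygi46 zgi60) (kgi xgi5 ygi31 zgi40) (kgi xgi12 ygi30 zgi5) (kgi xgi16 ygi47 zgi2) (kgi xgi4 ygi29 zgi60) (kgi xgi12 ygi30 zgi3) (kgi xgi5 ygi52 zgi29) (kgi xgi4 ygi30 zgi29) (kgi xgi9 ygi36 zgi55) (kgi xgi5 ygi25 zgi10) (kgi xgi5 ygi34 zgi20) (kgi xgi12 ygi55 zgi47) (kgi xgi15 ygi54 zgi47) (kgi xgi4 ygi30 zgi36) (kgi xgi5 ygi34 zgi54) (kgi xgi5 ygi33 zgi55) (kgi xgi9 ygi44 zgi15)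 (kgi xgi5 ygi34 zgi39) (kgi xgi5 ygi33 zgi38) (kgi xgi11 ygi18 zgi49) (kgi xgi16 ygi47 zgi24) (kgi xgi12 ygi32 zgi20) (kgi xgi11 ygi18 zgi47) (kgi xgi16 ygi47 zgi32) (kgi xgi11 ygi17 zgi60) (kgi xgi4 ygi30 zgi9) (kgi xgi5 ygi33 zgi20) (kgi xgi5 ygi33 zgi18) (kgi xgi4 ygi30 zgi10) (kgi xgi5 ygi33 zgi24) (kgi xgi10 ygi55 zgi36) (kgi xgi5 ygi33 zgi21) (kgi xgi5 ygi34 zgi9) (kgi xgi16 ygi47 zgi39) (kgi xgi4 ygi30 zgi37) (kgi xgi16 ygi47 zgi38) (kgi xgi5 ygi34 zgi37) (kgi xgi16 ygi47 zgi49) (kgi xgi5 ygi33 zgi2) (kgi xgi5 ygi33 zgi6) (kgi xgi11 ygi39 zgi60) (kgi xgi4 ygi30 zgi15) (kgi xgi5 ygi32 zgi61) (kgi xgi11 ygi3 zgi45) (kgi xgi16 ygi47 zgi56) (kgi xgi16 ygi47 zgi58) (kgi xgi6 ygi44 zgi44) (kgi xgi4 ygi30 zgi17) (kgi xgi9 ygi10 zgi45)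 (kgi xgi11 ygi56 zgi42) (kgi xgi5 ygi33 zgi25) (kgi xgi10 ygi54 zgi56) (kgi xgi10 ygi48 zgi1) (kgi xgi16 ygi46 zgi24) (kgi xgi4 ygi55 zgi42) (kgi xgi5 ygi33 zgi23) (kgi xgi4 ygi30 zgi22) (kgi xgi4 ygi30 zgi27) (kgi xgi16 ygi48 zgi8)) (@D3.rec (fun _ => Pt) (kgi xgi16 ygi40 zgi3) (kgi xgi4 ygi30 zgi23) (kgi xgi16 ygi48 zgi14) (kgi xgi16 ygi47 zgi35) (kgi xgi5 ygi33 zgi14) (kgi xgi4 ygi30 zgi24) (kgi xgi16 ygi47 zgi37) (kgi xgi5 ygi32 zgi1) (kgi xgi4 ygi30 zgi26) (kgi xgi16 ygi45 zgi31) (kgi xgi8 ygi57 zgi20) (kgi xgi11 ygi9 zgi48) (kgi xgi16 ygi48 zgi28) (kgi xgi15 ygi19 zgi7) (kgi xgi16 ygi39 zgi46) (kgi xgi16 ygi48 zgi31) (kgi xgi16 ygi48 zgi13) (kgi xgi16 ygi48 zgi35) (kgi xgi11 ygi36 zgi61) (kgi xgi5 ygi44 zgi37) (kgi xgi9 ygi11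 zgi24) (kgi xgi13 ygi0 zgi26) (kgi xgi11 ygi28 zgi16) (kgi xgi16 ygi48 zgi40) (kgi xgi5 ygi32 zgi57) (kgi xgi4 ygi30 zgi33) (kgi xgi5 ygi44 zgi39) (kgi xgi8 ygi35 zgi56) (kgi xgi16 ygi48 zgi50) (kgi xgi9 ygi11 zgi22) (kgi xgi4 ygi30 zgi35) (kgi xgi11 ygi56 zgi24) (kgi xgi11 ygi49 zgi37) (kgi xgi5 ygi33 zgi27) (kgi xgi16 ygi48 zgi58) (kgi xgi10 ygi58 zgi44) (kgi xgi16 ygi47 zgi19) (kgi xgi11 ygi48 zgi41) (kgi xgi11 ygi48 zgi40) (kgi xgi4 ygi32 zgi45) (kgi xgi5 ygi33 zgi31) (kgi xgi6 ygi7 zgi48) (kgi xgi9 ygi31 zgi48) (kgi xgi5 ygi32 zgi52) (kgi xgi4 ygi30 zgi44) (kgi xgi5 ygi27 zgi24) (kgi xgi10 ygi27 zgi45) (kgi xgi5 ygi32 zgi16) (kgi xgi8 ygi56 zgi5) (kgi xgi15 ygi32 zgi36) (kgi xgi5 ygi32 zgi38) (kgi xgi5 ygi38 zgi40) (kgi xgi4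 ygi35 zgi10) (kgi xgi11 ygi55 zgi55) (kgi xgi10 ygi43 zgi12) (kgi xgi11 ygi56 zgi7) (kgi xgi5 ygi52 zgi54) (kgi xgi16 ygi49 zgi16) (kgi xgi11 ygi28 zgi18) (kgi xgi15 ygi54 zgi34) (kgi xgi15 ygi44 zgi16) (kgi xgi15 ygi44 zgi22))
def fi_g_9 : D2 → D3 → Pt := @D2.rec (fun _ => D3 → Pt) (@D3.rec (fun _ => Pt) (kgi xgi16 ygi49 zgi19) (kgi xgi16 ygi49 zgi30) (kgi xgi8 ygi53 zgi17) (kgi xgi4 ygi54 zgi61) (kgi xgi4 ygi55 zgi1) (kgi xgi10 ygi35 zgi11) (kgi xgi9 ygi43 zgi28) (kgi xgi4 ygi31 zgi15) (kgi xgi5 ygi37 zgi61) (kgi xgi4 ygi31 zgi13) (kgi xgi12 ygi8 zgi51) (kgi xgi6 ygi9 zgi3) (kgi xgi5 ygi36 zgi24) (kgi xgi5 ygi44 zgi34) (kgi xgi6 ygi9 zgi6) (kgi xgi12 ygi4 zgi39) (kgi xgi4 ygi31 zgi8) (kgi xgi5 ygi39 zgi61) (kgi xgi13 ygi0 zgi0)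 (kgi xgi4 ygi31 zgi9) (kgi xgi11 ygi59 zgi28) (kgi xgi11 ygi59 zgi26) (kgi xgi5 ygi30 zgi42) (kgi xgi9 ygi13 zgi10) (kgi xgi7 ygi25 zgi22) (kgi xgi5 ygi10 zgi26) (kgi xgi10 ygi6 zgi51) (kgi xgi5 ygi38 zgi34) (kgi xgi5 ygi38 zgi43) (kgi xgi16 ygi41 zgi15) (kgi xgi9 ygi51 zgi39) (kgi xgi10 ygi42 zgi49) (kgi xgi16 ygi49 zgi57) (kgi xgi9 ygi51 zgi44) (kgi xgi10 ygi15 zgi58) (kgi xgi16 ygi50 zgi2) (kgi xgi16 ygi50 zgi5) (kgi xgi5 ygi24 zgi31) (kgi xgi16 ygi50 zgi11) (kgi xgi5 ygi35 zgi30) (kgi xgi5 ygi35 zgi28) (kgi xgi16 ygi50 zgi17) (kgi xgi7 ygi58 zgi44) (kgi xgi11 ygi57 zgi21) (kgi xgi16 ygi50 zgi24) (kgi xgi9 ygi43 zgi41) (kgi xgi16 ygi50 zgi14) (kgi xgi4 ygi31 zgi25) (kgi xgi5 ygi35 zgi46) (kgi xgi5 ygi35 zgi44) (kgi xgi16 ygi27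 zgi61) (kgi xgi16 ygi50 zgi38) (kgi xgi5 ygi35 zgi19) (kgi xgi13 ygi16 zgi1) (kgi xgi4 ygi31 zgi27) (kgi xgi16 ygi50 zgi46) (kgi xgi15 ygi22 zgi53) (kgi xgi10 ygi37 zgi21) (kgi xgi10 ygi8 zgi9) (kgi xgi15 ygi36 zgi27) (kgi xgi10 ygi37 zgi31) (kgi xgi16 ygi50 zgi52)) (@D3.rec (fun _ => Pt) (kgi xgi16 ygi50 zgi55) (kgi xgi11 ygi57 zgi27) (kgi xgi6 ygi3 zgi29) (kgi xgi16 ygi50 zgi54) (kgi xgi16 ygi51 zgi1) (kgi xgi11 ygi57 zgi23) (kgi xgi4 ygi31 zgi34) (kgi xgi16 ygi51 zgi4) (kgi xgi5 ygi30 zgi51) (kgi xgi16 ygi51 zgi3) (kgi xgi4 ygi31 zgi35) (kgi xgi6 ygi47 zgi29) (kgi xgi5 ygi39 zgi36) (kgi xgi4 ygi31 zgi37) (kgi xgi4 ygi54 zgi33) (kgi xgi5 ygi23 zgi34) (kgi xgi15 ygi24 zgi42) (kgi xgi16 ygi51 zgi16) (kgi xgi5 ygi37 zgi51) (kgi xgi5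 ygi37 zgi38) (kgi xgi5 ygi37 zgi60) (kgi xgi5 ygi43 zgi39) (kgi xgi15 ygi4 zgi15) (kgi xgi9 ygi9 zgi19) (kgi xgi4 ygi57 zgi55) (kgi xgi4 ygi57 zgi30) (kgi xgi9 ygi9 zgi49) (kgi xgi10 ygi48 zgi54) (kgi xgi4 ygi57 zgi54) (kgi xgi12 ygi25 zgi10) (kgi xgi4 ygi31 zgi50) (kgi xgi5 ygi40 zgi53) (kgi xgi5 ygi40 zgi50) (kgi xgi11 ygi6 zgi57) (kgi xgi11 ygi48 zgi42) (kgi xgi7 ygi50 zgi1) (kgi xgi9 ygi17 zgi40) (kgi xgi11 ygi7 zgi0) (kgi xgi5 ygi28 zgi34) (kgi xgi12 ygi3 zgi58) (kgi xgi5 ygi38 zgi28) (kgi xgi5 ygi40 zgi29) (kgi xgi16 ygi51 zgi37) (kgi xgi4 ygi31 zgi61) (kgi xgi5 ygi40 zgi21) (kgi xgi16 ygi27 zgi52) (kgi xgi16 ygi51 zgi42) (kgi xgi4 ygi32 zgi0) (kgi xgi16 ygi51 zgi38) (kgi xgi16 ygi51 zgi48) (kgi xgi16 ygi51 zgi36) (kgi xgi12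 ygi23 zgi45) (kgi xgi4 ygi57 zgi23) (kgi xgi15 ygi4 zgi5) (kgi xgi4 ygi32 zgi5) (kgi xgi5 ygi41 zgi14) (kgi xgi5 ygi41 zgi12) (kgi xgi16 ygi21 zgi48) (kgi xgi16 ygi51 zgi55) (kgi xgi5 ygi46 zgi14) (kgi xgi16 ygi21 zgi60) (kgi xgi15 ygi4 zgi16)) (@D3.rec (fun _ => Pt) (kgi xgi5 ygi46 zgi2) (kgi xgi5 ygi42 zgi53) (kgi xgi16 ygi52 zgi5) (kgi xgi11 ygi23 zgi48) (kgi xgi16 ygi52 zgi10) (kgi xgi4 ygi32 zgi14) (kgi xgi5 ygi42 zgi35) (kgi xgi16 ygi52 zgi16) (kgi xgi16 ygi52 zgi19) (kgi xgi4 ygi32 zgi15) (kgi xgi16 ygi52 zgi6) (kgi xgi16 ygi52 zgi27) (kgi xgi16 ygi52 zgi4) (kgi xgi11 ygi11 zgi33) (kgi xgi5 ygi43 zgi15) (kgi xgi11 ygi22 zgi37) (kgi xgi16 ygi52 zgi28) (kgi xgi9 ygi5 zgi14) (kgi xgi11 ygi6 zgi35) (kgi xgi4 ygi32 zgi19) (kgi xgi5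 ygi42 zgi20) (kgi xgi5 ygi42 zgi17) (kgi xgi16 ygi52 zgi37) (kgi xgi12 ygi8 zgi57) (kgi xgi7 ygi57 zgi11) (kgi xgi4 ygi33 zgi48) (kgi xgi4 ygi33 zgi10) (kgi xgi12 ygi8 zgi52) (kgi xgi12 ygi8 zgi54) (kgi xgi16 ygi52 zgi46) (kgi xgi5 ygi53 zgi39) (kgi xgi5 ygi41 zgi40) (kgi xgi5 ygi41 zgi52) (kgi xgi16 ygi52 zgi55) (kgi xgi7 ygi56 zgi32) (kgi xgi8 ygi44 zgi52) (kgi xgi4 ygi32 zgi33) (kgi xgi16 ygi53 zgi0) (kgi xgi16 ygi53 zgi5) (kgi xgi16 ygi53 zgi7) (kgi xgi11 ygi6 zgi25) (kgi xgi15 ygi3 zgi60) (kgi xgi10 ygi5 zgi12) (kgi xgi4 ygi32 zgi37) (kgi xgi16 ygi53 zgi15) (kgi xgi16 ygi53 zgi17) (kgi xgi4 ygi32 zgi38) (kgi xgi16 ygi52 zgi56) (kgi xgi16 ygi53 zgi25) (kgi xgi16 ygi52 zgi54) (kgi xgi7 ygi33 zgi46) (kgi xgi5 ygi49 zgi15) (kgi xgi4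 ygi33 zgi3) (kgi xgi5 ygi43 zgi53) (kgi xgi5 ygi43 zgi6) (kgi xgi10 ygi58 zgi38) (kgi xgi5 ygi34 zgi50) (kgi xgi4 ygi33 zgi14) (kgi xgi4 ygi33 zgi15) (kgi xgi16 ygi53 zgi39) (kgi xgi5 ygi46 zgi53) (kgi xgi12 ygi7 zgi21)) (@D3.rec (fun _ => Pt) (kgi xgi11 ygi11 zgi61) (kgi xgi16 ygi53 zgi48) (kgi xgi16 ygi22 zgi6) (kgi xgi11 ygi59 zgi16) (kgi xgi13 ygi29 zgi25) (kgi xgi4 ygi33 zgi0) (kgi xgi9 ygi53 zgi0) (kgi xgi5 ygi13 zgi11) (kgi xgi4 ygi32 zgi58) (kgi xgi4 ygi33 zgi2) (kgi xgi16 ygi53 zgi55) (kgi xgi5 ygi24 zgi23) (kgi xgi16 ygi53 zgi60) (kgi xgi16 ygi52 zgi29) (kgi xgi4 ygi32 zgi59) (kgi xgi5 ygi42 zgi12) (kgi xgi5 ygi43 zgi3) (kgi xgi9 ygi39 zgi23) (kgi xgi16 ygi54 zgi4) (kgi xgi16 ygi54 zgi6) (kgi xgi16 ygi54 zgi9) (kgi xgi16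 ygi53 zgi29) (kgi xgi16 ygi54 zgi14) (kgi xgi16 ygi53 zgi30) (kgi xgi4 ygi41 zgi24) (kgi xgi13 ygi9 zgi59) (kgi xgi11 ygi7 zgi39) (kgi xgi16 ygi54 zgi24) (kgi xgi5 ygi41 zgi61) (kgi xgi16 ygi54 zgi20) (kgi xgi5 ygi45 zgi32) (kgi xgi4 ygi33 zgi8) (kgi xgi4 ygi33 zgi20) (kgi xgi16 ygi54 zgi34) (kgi xgi16 ygi54 zgi38) (kgi xgi4 ygi33 zgi9) (kgi xgi4 ygi33 zgi23) (kgi xgi4 ygi33 zgi21) (kgi xgi7 ygi59 zgi31) (kgi xgi11 ygi13 zgi5) (kgi xgi4 ygi33 zgi11) (kgi xgi4 ygi33 zgi13) (kgi xgi16 ygi54 zgi52) (kgi xgi16 ygi54 zgi55) (kgi xgi16 ygi54 zgi57) (kgi xgi4 ygi33 zgi12) (kgi xgi10 ygi58 zgi22) (kgi xgi5 ygi45 zgi17) (kgi xgi16 ygi55 zgi2) (kgi xgi10 ygi16 zgi48) (kgi xgi12 ygi9 zgi8) (kgi xgi12 ygi23 zgi41) (kgi xgi16 ygi53 zgi35) (kgi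 xgi16 ygi26 zgi18) (kgi xgi5 ygi38 zgi11) (kgi xgi10 ygi38 zgi10) (kgi xgi16 ygi54 zgi61) (kgi xgi14 ygi38 zgi49) (kgi xgi16 ygi21 zgi40) (kgi xgi10 ygi33 zgi22) (kgi xgi16 ygi55 zgi5) (kgi xgi4 ygi33 zgi17)) (@D3.rec (fun _ => Pt) (kgi xgi5 ygi34 zgi21) (kgi xgi5 ygi34 zgi27) (kgi xgi16 ygi55 zgi20) (kgi xgi16 ygi55 zgi23) (kgi xgi5 ygi24 zgi58) (kgi xgi10 ygi34 zgi11) (kgi xgi4 ygi33 zgi19) (kgi xgi16 ygi54 zgi40) (kgi xgi16 ygi55 zgi31) (kgi xgi16 ygi54 zgi37) (kgi xgi16 ygi55 zgi36) (kgi xgi16 ygi53 zgi41) (kgi xgi16 ygi54 zgi50) (kgi xgi5 ygi57 zgi22) (kgi xgi12 ygi3 zgi48) (kgi xgi10 ygi44 zgi61) (kgi xgi16 ygi55 zgi41) (kgi xgi16 ygi55 zgi45) (kgi xgi16 ygi52 zgi25) (kgi xgi16 ygi53 zgi38) (kgi xgi4 ygi33 zgi24) (kgi xgi16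 ygi53 zgi40) (kgi xgi10 ygi44 zgi28) (kgi xgi4 ygi33 zgi25) (kgi xgi16 ygi55 zgi59) (kgi xgi5 ygi45 zgi24) (kgi xgi16 ygi56 zgi3) (kgi xgi4 ygi33 zgi27) (kgi xgi5 ygi45 zgi22) (kgi xgi11 ygi16 zgi1) (kgi xgi16 ygi56 zgi12) (kgi xgi4 ygi33 zgi28) (kgi xgi16 ygi56 zgi4) (kgi xgi16 ygi56 zgi2) (kgi xgi5 ygi43 zgi60) (kgi xgi8 ygi56 zgi60) (kgi xgi5 ygi46 zgi9) (kgi xgi5 ygi13 zgi25) (kgi xgi5 ygi46 zgi13) (kgi xgi5 ygi45 zgi9) (kgi xgi5 ygi47 zgi24) (kgi xgi4 ygi33 zgi33) (kgi xgi5 ygi45 zgi7) (kgi xgi11 ygi13 zgi61) (kgi xgi7 ygi59 zgi57) (kgi xgi5 ygi44 zgi28) (kgi xgi4 ygi33 zgi47) (kgi xgi16 ygi56 zgi29) (kgi xgi16 ygi56 zgi32) (kgi xgi11 ygi28 zgi21) (kgi xgi16 ygi56 zgi31) (kgi xgi11 ygi48 zgi24) (kgi xgi4 ygi33 zgi39) (kgi xgi16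 ygi56 zgi39) (kgi xgi16 ygi56 zgi45) (kgi xgi16 ygi56 zgi37) (kgi xgi16 ygi47 zgi48) (kgi xgi11 ygi36 zgi3) (kgi xgi11 ygi28 zgi11) (kgi xgi6 ygi48 zgi1) (kgi xgi4 ygi33 zgi44) (kgi xgi5 ygi42 zgi29)) (@D3.rec (fun _ => Pt) (kgi xgi16 ygi56 zgi8) (kgi xgi5 ygi56 zgi56) (kgi xgi16 ygi45 zgi7) (kgi xgi10 ygi19 zgi5) (kgi xgi11 ygi12 zgi42) (kgi xgi5 ygi46 zgi0) (kgi xgi5 ygi45 zgi34) (kgi xgi5 ygi45 zgi50) (kgi xgi5 ygi45 zgi49) (kgi xgi13 ygi38 zgi33) (kgi xgi11 ygi49 zgi47) (kgi xgi16 ygi57 zgi9) (kgi xgi16 ygi57 zgi11) (kgi xgi4 ygi33 zgi51) (kgi xgi9 ygi2 zgi15) (kgi xgi5 ygi42 zgi33) (kgi xgi11 ygi49 zgi40) (kgi xgi16 ygi56 zgi20) (kgi xgi16 ygi52 zgi48) (kgi xgi11 ygi14 zgi47) (kgi xgi5 ygi43 zgi5) (kgi xgi4 ygi33 zgi55) (kgi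 xgi4 ygi49 zgi41) (kgi xgi6 ygi41 zgi51) (kgi xgi11 ygi1 zgi60) (kgi xgi4 ygi33 zgi57) (kgi xgi4 ygi34 zgi4) (kgi xgi4 ygi34 zgi1) (kgi xgi6 ygi0 zgi56) (kgi xgi4 ygi34 zgi0) (kgi xgi16 ygi57 zgi26) (kgi xgi15 ygi27 zgi12) (kgi xgi11 ygi1 zgi51) (kgi xgi9 ygi18 zgi3) (kgi xgi12 ygi25 zgi0) (kgi xgi11 ygi49 zgi41) (kgi xgi4 ygi34 zgi3) (kgi xgi5 ygi49 zgi1) (kgi xgi10 ygi55 zgi37) (kgi xgi5 ygi49 zgi36) (kgi xgi6 ygi51 zgi4) (kgi xgi5 ygi47 zgi17) (kgi xgi16 ygi57 zgi33) (kgi xgi5 ygi49 zgi26) (kgi xgi5 ygi49 zgi2) (kgi xgi14 ygi15 zgi56) (kgi xgi16 ygi57 zgi35) (kgi xgi6 ygi8 zgi47) (kgi xgi6 ygi7 zgi61) (kgi xgi6 ygi43 zgi10) (kgi xgi10 ygi42 zgi36) (kgi xgi4 ygi34 zgi26) (kgi xgi4 ygi34 zgi33) (kgi xgi6 ygi56 zgi39) (kgi xgi6 ygi39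 zgi27) (kgi xgi4 ygi46 zgi3) (kgi xgi4 ygi34 zgi32) (kgi xgi16 ygi57 zgi41) (kgi xgi16 ygi55 zgi4) (kgi xgi10 ygi42 zgi32) (kgi xgi15 ygi5 zgi11) (kgi xgi11 ygi30 zgi5)) (@D3.rec (fun _ => Pt) (kgi xgi6 ygi47 zgi27) (kgi xgi12 ygi17 zgi2) (kgi xgi15 ygi5 zgi34) (kgi xgi4 ygi59 zgi37) (kgi xgi12 ygi56 zgi53) (kgi xgi12 ygi17 zgi45) (kgi xgi4 ygi34 zgi38) (kgi xgi5 ygi50 zgi19) (kgi xgi14 ygi20 zgi19) (kgi xgi5 ygi50 zgi16) (kgi xgi4 ygi34 zgi42) (kgi xgi5 ygi50 zgi55) (kgi xgi4 ygi34 zgi44) (kgi xgi16 ygi57 zgi56) (kgi xgi11 ygi47 zgi44) (kgi xgi6 ygi33 zgi7) (kgi xgi16 ygi57 zgi61) (kgi xgi4 ygi34 zgi50) (kgi xgi4 ygi34 zgi57) (kgi xgi16 ygi57 zgi50) (kgi xgi4 ygi34 zgi54) (kgi xgi16 ygi58 zgi7) (kgi xgi6 ygi12 zgi36) (kgi xgi4 ygi34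 zgi53) (kgi xgi16 ygi58 zgi1) (kgi xgi16 ygi58 zgi18) (kgi xgi16 ygi57 zgi60) (kgi xgi11 ygi25 zgi14) (kgi xgi7 ygi42 zgi9) (kgi xgi5 ygi32 zgi50) (kgi xgi12 ygi29 zgi47) (kgi xgi12 ygi29 zgi41) (kgi xgi11 ygi41 zgi51) (kgi xgi12 ygi57 zgi40) (kgi xgi11 ygi25 zgi23) (kgi xgi4 ygi34 zgi56) (kgi xgi16 ygi58 zgi5) (kgi xgi16 ygi58 zgi38) (kgi xgi16 ygi58 zgi3) (kgi xgi16 ygi58 zgi42) (kgi xgi16 ygi57 zgi57) (kgi xgi15 ygi30 zgi19) (kgi xgi15 ygi4 zgi45) (kgi xgi11 ygi41 zgi42) (kgi xgi5 ygi39 zgi43) (kgi xgi16 ygi29 zgi61) (kgi xgi11 ygi42 zgi3) (kgi xgi4 ygi35 zgi0) (kgi xgi6 ygi4 zgi2) (kgi xgi16 ygi58 zgi59) (kgi xgi16 ygi58 zgi6) (kgi xgi16 ygi59 zgi2) (kgi xgi4 ygi59 zgi4) (kgi xgi5 ygi35 zgi4) (kgi xgi4 ygi35 zgi9) (kgi xgi5 ygi53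 zgi0) (kgi xgi4 ygi35 zgi6) (kgi xgi4 ygi59 zgi6) (kgi xgi11 ygi20 zgi34) (kgi xgi4 ygi35 zgi7) (kgi xgi11 ygi33 zgi15) (kgi xgi16 ygi47 zgi9)) (@D3.rec (fun _ => Pt) (kgi xgi4 ygi58 zgi51) (kgi xgi5 ygi58 zgi58) (kgi xgi4 ygi36 zgi35) (kgi xgi4 ygi35 zgi12) (kgi xgi16 ygi59 zgi17) (kgi xgi4 ygi35 zgi13) (kgi xgi16 ygi59 zgi19) (kgi xgi10 ygi59 zgi27) (kgi xgi16 ygi31 zgi6) (kgi xgi4 ygi35 zgi19) (kgi xgi16 ygi59 zgi26) (kgi xgi16 ygi30 zgi61) (kgi xgi6 ygi19 zgi50) (kgi xgi12 ygi2 zgi10) (kgi xgi12 ygi37 zgi42) (kgi xgi6 ygi28 zgi11) (kgi xgi4 ygi35 zgi22) (kgi xgi4 ygi35 zgi32) (kgi xgi14 ygi35 zgi46) (kgi xgi4 ygi35 zgi29) (kgi xgi9 ygi15 zgi2) (kgi xgi4 ygi35 zgi24) (kgi xgi16 ygi59 zgi31) (kgi xgi4 ygi35 zgi37) (kgi xgi6 ygi8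 zgi58) (kgi xgi9 ygi47 zgi50) (kgi xgi14 ygi11 zgi54) (kgi xgi4 ygi35 zgi28) (kgi xgi5 ygi55 zgi51) (kgi xgi14 ygi29 zgi18) (kgi xgi9 ygi18 zgi7) (kgi xgi11 ygi48 zgi3) (kgi xgi10 ygi44 zgi50) (kgi xgi4 ygi35 zgi31) (kgi xgi16 ygi59 zgi29) (kgi xgi16 ygi59 zgi45) (kgi xgi14 ygi35 zgi49) (kgi xgi8 ygi25 zgi56) (kgi xgi5 ygi45 zgi41) (kgi xgi8 ygi25 zgi54) (kgi xgi12 ygi39 zgi11) (kgi xgi16 ygi59 zgi51) (kgi xgi12 ygi28 zgi50) (kgi xgi10 ygi15 zgi31) (kgi xgi16 ygi59 zgi52) (kgi xgi9 ygi12 zgi26) (kgi xgi4 ygi35 zgi39) (kgi xgi16 ygi59 zgi34) (kgi xgi17 ygi0 zgi4) (kgi xgi17 ygi0 zgi6) (kgi xgi10 ygi6 zgi2) (kgi xgi17 ygi0 zgi10) (kgi xgi4 ygi37 zgi14) (kgi xgi9 ygi48 zgi27) (kgi xgi4 ygi39 zgi51) (kgi xgi5 ygi55 zgi27) (kgi xgi4 ygi35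 zgi46) (kgi xgi5 ygi16 zgi45) (kgi xgi5 ygi16 zgi46) (kgi xgi4 ygi35 zgi48) (kgi xgi4 ygi42 zgi37) (kgi xgi15 ygi8 zgi14)) (@D3.rec (fun _ => Pt) (kgi xgi4 ygi35 zgi49) (kgi xgi4 ygi35 zgi56) (kgi xgi9 ygi48 zgi49) (kgi xgi17 ygi0 zgi26) (kgi xgi17 ygi0 zgi29) (kgi xgi6 ygi25 zgi49) (kgi xgi17 ygi0 zgi32) (kgi xgi6 ygi3 zgi25) (kgi xgi5 ygi41 zgi25) (kgi xgi16 ygi59 zgi8) (kgi xgi5 ygi54 zgi13) (kgi xgi17 ygi0 zgi39) (kgi xgi12 ygi7 zgi49) (kgi xgi4 ygi36 zgi10) (kgi xgi5 ygi54 zgi46) (kgi xgi4 ygi36 zgi18) (kgi xgi4 ygi36 zgi17) (kgi xgi14 ygi20 zgi38) (kgi xgi12 ygi5 zgi26) (kgi xgi5 ygi53 zgi13) (kgi xgi4 ygi36 zgi3) (kgi xgi17 ygi0 zgi51) (kgi xgi4 ygi36 zgi25) (kgi xgi11 ygi32 zgi59) (kgi xgi7 ygi57 zgi28) (kgi xgi11 ygi32 zgi61)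 (kgi xgi16 ygi32 zgi19) (kgi xgi17 ygi0 zgi58) (kgi xgi4 ygi36 zgi9) (kgi xgi17 ygi0 zgi41) (kgi xgi17 ygi1 zgi7) (kgi xgi17 ygi0 zgi38) (kgi xgi9 ygi44 zgi37) (kgi xgi13 ygi31 zgi16) (kgi xgi4 ygi36 zgi12) (kgi xgi17 ygi0 zgi44) (kgi xgi17 ygi1 zgi18) (kgi xgi17 ygi0 zgi42) (kgi xgi11 ygi40 zgi33) (kgi xgi6 ygi8 zgi56) (kgi xgi12 ygi9 zgi46) (kgi xgi4 ygi36 zgi16) (kgi xgi11 ygi1 zgi29) (kgi xgi14 ygi20 zgi41) (kgi xgi5 ygi58 zgi37) (kgi xgi9 ygi48 zgi18) (kgi xgi16 ygi57 zgi7) (kgi xgi17 ygi1 zgi30) (kgi xgi12 ygi9 zgi20) (kgi xgi4 ygi36 zgi20) (kgi xgi17 ygi0 zgi46) (kgi xgi17 ygi1 zgi37) (kgi xgi17 ygi1 zgi39) (kgi xgi4 ygi36 zgi22) (kgi xgi12 ygi5 zgi40) (kgi xgi17 ygi1 zgi38) (kgi xgi12 ygi5 zgi38) (kgi xgi10 ygi45 zgi27) (kgi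 xgi5 ygi58 zgi38) (kgi xgi12 ygi5 zgi36) (kgi xgi5 ygi30 zgi47) (kgi xgi12 ygi5 zgi32)) (@D3.rec (fun _ => Pt) (kgi xgi4 ygi36 zgi27) (kgi xgi17 ygi0 zgi54) (kgi xgi17 ygi2 zgi2) (kgi xgi11 ygi31 zgi39) (kgi xgi17 ygi2 zgi8) (kgi xgi4 ygi36 zgi29) (kgi xgi4 ygi37 zgi17) (kgi xgi6 ygi10 zgi54) (kgi xgi6 ygi6 zgi49) (kgi xgi5 ygi57 zgi19) (kgi xgi6 ygi51 zgi34) (kgi xgi5 ygi44 zgi58) (kgi xgi4 ygi37 zgi34) (kgi xgi5 ygi57 zgi28) (kgi xgi4 ygi37 zgi22) (kgi xgi14 ygi46 zgi6) (kgi xgi4 ygi36 zgi36) (kgi xgi5 ygi57 zgi25) (kgi xgi16 ygi55 zgi58) (kgi xgi9 ygi1 zgi26) (kgi xgi4 ygi36 zgi39) (kgi xgi6 ygi20 zgi15) (kgi xgi11 ygi30 zgi25) (kgi xgi17 ygi2 zgi23) (kgi xgi5 ygi54 zgi43) (kgi xgi8 ygi48 zgi14) (kgi xgi12 ygi22 zgi2) (kgi xgi11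 ygi7 zgi44) (kgi xgi9 ygi19 zgi25) (kgi xgi10 ygi6 zgi53) (kgi xgi8 ygi0 zgi34) (kgi xgi17 ygi1 zgi31) (kgi xgi8 ygi49 zgi35) (kgi xgi17 ygi2 zgi29) (kgi xgi16 ygi19 zgi28) (kgi xgi5 ygi49 zgi34) (kgi xgi16 ygi30 zgi46) (kgi xgi5 ygi56 zgi7) (kgi xgi8 ygi1 zgi15) (kgi xgi14 ygi59 zgi44) (kgi xgi17 ygi2 zgi36) (kgi xgi8 ygi46 zgi2) (kgi xgi8 ygi46 zgi6) (kgi xgi8 ygi48 zgi54) (kgi xgi17 ygi2 zgi43) (kgi xgi5 ygi49 zgi54) (kgi xgi17 ygi2 zgi47) (kgi xgi4 ygi39 zgi36) (kgi xgi11 ygi7 zgi12) (kgi xgi9 ygi1 zgi23) (kgi xgi11 ygi7 zgi55) (kgi xgi10 ygi2 zgi51) (kgi xgi8 ygi3 zgi34) (kgi xgi4 ygi37 zgi3) (kgi xgi10 ygi16 zgi15) (kgi xgi12 ygi22 zgi1) (kgi xgi16 ygi26 zgi32) (kgi xgi6 ygi10 zgi8) (kgi xgi17 ygi3 zgi2) (kgi xgi4 ygi37 zgi7)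 (kgi xgi4 ygi40 zgi2) (kgi xgi4 ygi40 zgi0)) (@D3.rec (fun _ => Pt) (kgi xgi10 ygi27 zgi41) (kgi xgi6 ygi11 zgi56) (kgi xgi11 ygi11 zgi8) (kgi xgi4 ygi37 zgi11) (kgi xgi4 ygi37 zgi31) (kgi xgi17 ygi3 zgi13) (kgi xgi4 ygi37 zgi12) (kgi xgi17 ygi0 zgi11) (kgi xgi7 ygi22 zgi50) (kgi xgi13 ygi58 zgi18) (kgi xgi17 ygi3 zgi18) (kgi xgi6 ygi10 zgi52) (kgi xgi5 ygi57 zgi24) (kgi xgi10 ygi17 zgi40) (kgi xgi17 ygi3 zgi22) (kgi xgi10 ygi17 zgi10) (kgi xgi17 ygi3 zgi25) (kgi xgi6 ygi8 zgi15) (kgi xgi17 ygi3 zgi29) (kgi xgi14 ygi26 zgi42) (kgi xgi11 ygi2 zgi2) (kgi xgi17 ygi3 zgi32) (kgi xgi12 ygi10 zgi44) (kgi xgi10 ygi48 zgi33) (kgi xgi4 ygi37 zgi24) (kgi xgi11 ygi29 zgi11) (kgi xgi5 ygi56 zgi49) (kgi xgi9 ygi46 zgi58) (kgi xgi16 ygi30 zgi2)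 (kgi xgi4 ygi37 zgi27) (kgi xgi17 ygi2 zgi51) (kgi xgi17 ygi3 zgi41) (kgi xgi11 ygi7 zgi59) (kgi xgi16 ygi25 zgi20) (kgi xgi4 ygi37 zgi29) (kgi xgi14 ygi52 zgi46) (kgi xgi14 ygi27 zgi39) (kgi xgi6 ygi20 zgi7) (kgi xgi6 ygi34 zgi38) (kgi xgi10 ygi5 zgi21) (kgi xgi4 ygi37 zgi32) (kgi xgi12 ygi58 zgi40) (kgi xgi12 ygi20 zgi21) (kgi xgi17 ygi3 zgi17) (kgi xgi9 ygi48 zgi29) (kgi xgi8 ygi58 zgi50) (kgi xgi6 ygi11 zgi54) (kgi xgi17 ygi2 zgi9) (kgi xgi17 ygi4 zgi3) (kgi xgi17 ygi2 zgi15) (kgi xgi16 ygi59 zgi16) (kgi xgi10 ygi44 zgi58) (kgi xgi17 ygi2 zgi16) (kgi xgi4 ygi37 zgi38) (kgi xgi16 ygi59 zgi12) (kgi xgi17 ygi3 zgi31) (kgi xgi17 ygi4 zgi13) (kgi xgi17 ygi4 zgi15) (kgi xgi17 ygi4 zgi18) (kgi xgi4 ygi37 zgi42) (kgi xgi4 ygi38 zgi14)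 (kgi xgi17 ygi4 zgi27)) (@D3.rec (fun _ => Pt) (kgi xgi4 ygi38 zgi11) (kgi xgi4 ygi42 zgi59) (kgi xgi6 ygi44 zgi20) (kgi xgi16 ygi54 zgi13) (kgi xgi14 ygi33 zgi21) (kgi xgi10 ygi45 zgi26) (kgi xgi17 ygi4 zgi30) (kgi xgi6 ygi3 zgi0) (kgi xgi4 ygi41 zgi47) (kgi xgi6 ygi1 zgi55) (kgi xgi4 ygi37 zgi47) (kgi xgi17 ygi4 zgi39) (kgi xgi17 ygi4 zgi42) (kgi xgi11 ygi1 zgi19) (kgi xgi7 ygi43 zgi55) (kgi xgi6 ygi44 zgi48) (kgi xgi4 ygi38 zgi20) (kgi xgi4 ygi37 zgi50) (kgi xgi6 ygi44 zgi39) (kgi xgi17 ygi4 zgi52) (kgi xgi6 ygi44 zgi36) (kgi xgi4 ygi38 zgi2) (kgi xgi8 ygi59 zgi20) (kgi xgi6 ygi39 zgi5) (kgi xgi8 ygi59 zgi29) (kgi xgi4 ygi37 zgi53) (kgi xgi17 ygi4 zgi60) (kgi xgi6 ygi2 zgi8) (kgi xgi6 ygi37 zgi0) (kgi xgi16 ygi14 zgi15) (kgi xgi4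 ygi37 zgi57) (kgi xgi6 ygi44 zgi29) (kgi xgi8 ygi36 zgi16) (kgi xgi6 ygi44 zgi26) (kgi xgi4 ygi38 zgi6) (kgi xgi9 ygi17 zgi23) (kgi xgi6 ygi38 zgi61) (kgi xgi17 ygi5 zgi13) (kgi xgi4 ygi38 zgi18) (kgi xgi4 ygi37 zgi61) (kgi xgi6 ygi38 zgi52) (kgi xgi6 ygi38 zgi37) (kgi xgi12 ygi14 zgi0) (kgi xgi5 ygi48 zgi30) (kgi xgi17 ygi5 zgi26) (kgi xgi17 ygi5 zgi30) (kgi xgi6 ygi2 zgi0) (kgi xgi4 ygi38 zgi3) (kgi xgi5 ygi56 zgi36) (kgi xgi9 ygi12 zgi56) (kgi xgi17 ygi5 zgi38) (kgi xgi12 ygi53 zgi28) (kgi xgi15 ygi47 zgi44) (kgi xgi8 ygi36 zgi6) (kgi xgi6 ygi38 zgi59) (kgi xgi11 ygi36 zgi37) (kgi xgi17 ygi5 zgi46) (kgi xgi17 ygi5 zgi49) (kgi xgi4 ygi38 zgi10) (kgi xgi17 ygi4 zgi20) (kgi xgi17 ygi5 zgi56) (kgi xgi11 ygi49 zgi15)) (@D3.rec (fun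 _ => Pt) (kgi xgi9 ygi49 zgi16) (kgi xgi5 ygi48 zgi16) (kgi xgi17 ygi6 zgi2) (kgi xgi17 ygi6 zgi5) (kgi xgi17 ygi6 zgi7) (kgi xgi17 ygi5 zgi60) (kgi xgi17 ygi6 zgi1) (kgi xgi9 ygi49 zgi29) (kgi xgi4 ygi38 zgi13) (kgi xgi17 ygi4 zgi28) (kgi xgi16 ygi40 zgi17) (kgi xgi17 ygi4 zgi26) (kgi xgi4 ygi38 zgi15) (kgi xgi5 ygi53 zgi43) (kgi xgi8 ygi0 zgi21) (kgi xgi17 ygi6 zgi18) (kgi xgi17 ygi6 zgi20) (kgi xgi4 ygi38 zgi16) (kgi xgi6 ygi19 zgi38) (kgi xgi17 ygi6 zgi26) (kgi xgi17 ygi6 zgi29) (kgi xgi4 ygi38 zgi17) (kgi xgi4 ygi38 zgi21) (kgi xgi17 ygi6 zgi35) (kgi xgi6 ygi16 zgi55) (kgi xgi17 ygi4 zgi34) (kgi xgi9 ygi15 zgi13) (kgi xgi6 ygi2 zgi37) (kgi xgi6 ygi6 zgi36) (kgi xgi17 ygi6 zgi42) (kgi xgi11 ygi1 zgi52) (kgi xgi12 ygi25 zgi22)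 (kgi xgi17 ygi6 zgi25) (kgi xgi17 ygi4 zgi50) (kgi xgi17 ygi6 zgi34) (kgi xgi11 ygi6 zgi19) (kgi xgi6 ygi25 zgi58) (kgi xgi5 ygi56 zgi25) (kgi xgi5 ygi57 zgi9) (kgi xgi11 ygi49 zgi38) (kgi xgi17 ygi6 zgi59) (kgi xgi17 ygi7 zgi2) (kgi xgi17 ygi6 zgi58) (kgi xgi4 ygi38 zgi27) (kgi xgi5 ygi57 zgi1) (kgi xgi16 ygi37 zgi47) (kgi xgi17 ygi7 zgi14) (kgi xgi6 ygi19 zgi34) (kgi xgi17 ygi7 zgi17) (kgi xgi4 ygi38 zgi29) (kgi xgi4 ygi38 zgi37) (kgi xgi11 ygi39 zgi0) (kgi xgi4 ygi38 zgi34) (kgi xgi6 ygi35 zgi0) (kgi xgi4 ygi49 zgi23) (kgi xgi6 ygi3 zgi9) (kgi xgi9 ygi49 zgi11) (kgi xgi6 ygi36 zgi13) (kgi xgi4 ygi38 zgi33) (kgi xgi17 ygi7 zgi19) (kgi xgi17 ygi7 zgi29) (kgi xgi11 ygi26 zgi20)) (@D3.rec (fun _ => Pt) (kgi xgi5 ygi59 zgi42) (kgi xgi14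 ygi35 zgi47) (kgi xgi11 ygi1 zgi47) (kgi xgi6 ygi45 zgi15) (kgi xgi4 ygi38 zgi36) (kgi xgi17 ygi7 zgi38) (kgi xgi16 ygi48 zgi36) (kgi xgi17 ygi7 zgi40) (kgi xgi4 ygi38 zgi39) (kgi xgi4 ygi38 zgi40) (kgi xgi9 ygi46 zgi44) (kgi xgi5 ygi49 zgi45) (kgi xgi4 ygi48 zgi57) (kgi xgi6 ygi16 zgi58) (kgi xgi6 ygi3 zgi17) (kgi xgi6 ygi1 zgi49) (kgi xgi6 ygi2 zgi57) (kgi xgi4 ygi38 zgi44) (kgi xgi4 ygi38 zgi52) (kgi xgi4 ygi38 zgi49) (kgi xgi17 ygi7 zgi46) (kgi xgi6 ygi45 zgi41) (kgi xgi11 ygi35 zgi28) (kgi xgi4 ygi38 zgi48) (kgi xgi6 ygi2 zgi52) (kgi xgi6 ygi0 zgi2) (kgi xgi15 ygi5 zgi15) (kgi xgi17 ygi7 zgi54) (kgi xgi6 ygi45 zgi45) (kgi xgi6 ygi44 zgi18) (kgi xgi17 ygi7 zgi51) (kgi xgi17 ygi7 zgi53) (kgi xgi4 ygi38 zgi51) (kgi xgi6 ygi44 zgi16)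 (kgi xgi4 ygi38 zgi53) (kgi xgi4 ygi38 zgi55) (kgi xgi17 ygi7 zgi58) (kgi xgi5 ygi50 zgi44) (kgi xgi4 ygi40 zgi4) (kgi xgi17 ygi7 zgi60) (kgi xgi6 ygi0 zgi26) (kgi xgi10 ygi4 zgi0) (kgi xgi12 ygi50 zgi7) (kgi xgi6 ygi2 zgi44) (kgi xgi6 ygi25 zgi27) (kgi xgi12 ygi37 zgi51) (kgi xgi6 ygi2 zgi18) (kgi xgi6 ygi3 zgi13) (kgi xgi14 ygi35 zgi58) (kgi xgi4 ygi39 zgi1) (kgi xgi17 ygi8 zgi9) (kgi xgi17 ygi8 zgi13) (kgi xgi4 ygi39 zgi2) (kgi xgi6 ygi3 zgi10) (kgi xgi17 ygi8 zgi17) (kgi xgi4 ygi39 zgi3) (kgi xgi17 ygi7 zgi44) (kgi xgi6 ygi2 zgi32) (kgi xgi5 ygi59 zgi29) (kgi xgi4 ygi41 zgi34) (kgi xgi5 ygi0 zgi20) (kgi xgi4 ygi40 zgi7)) (@D3.rec (fun _ => Pt) (kgi xgi17 ygi0 zgi23) (kgi xgi6 ygi2 zgi53) (kgi xgi4 ygi39 zgi10) (kgi xgi6 ygi2 zgi51)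 (kgi xgi13 ygi38 zgi38) (kgi xgi5 ygi41 zgi51) (kgi xgi17 ygi8 zgi27) (kgi xgi4 ygi39 zgi32) (kgi xgi14 ygi32 zgi34) (kgi xgi6 ygi3 zgi33) (kgi xgi8 ygi48 zgi42) (kgi xgi4 ygi39 zgi17) (kgi xgi5 ygi27 zgi60) (kgi xgi17 ygi1 zgi35) (kgi xgi13 ygi45 zgi51) (kgi xgi11 ygi31 zgi35) (kgi xgi4 ygi39 zgi19) (kgi xgi6 ygi3 zgi40) (kgi xgi6 ygi3 zgi38) (kgi xgi11 ygi29 zgi28) (kgi xgi17 ygi8 zgi40) (kgi xgi13 ygi32 zgi56) (kgi xgi12 ygi28 zgi9) (kgi xgi4 ygi39 zgi22) (kgi xgi6 ygi3 zgi47) (kgi xgi6 ygi3 zgi45) (kgi xgi9 ygi6 zgi60) (kgi xgi10 ygi59 zgi31) (kgi xgi13 ygi46 zgi3) (kgi xgi17 ygi8 zgi49) (kgi xgi4 ygi39 zgi25) (kgi xgi6 ygi3 zgi54) (kgi xgi6 ygi3 zgi52) (kgi xgi8 ygi11 zgi44) (kgi xgi12 ygi15 zgi19) (kgi xgi15 ygi25 zgi48) (kgi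 xgi9 ygi43 zgi4) (kgi xgi4 ygi39 zgi28) (kgi xgi11 ygi51 zgi36) (kgi xgi11 ygi51 zgi37) (kgi xgi4 ygi58 zgi61) (kgi xgi6 ygi4 zgi6) (kgi xgi10 ygi35 zgi10) (kgi xgi17 ygi8 zgi37) (kgi xgi4 ygi39 zgi33) (kgi xgi5 ygi52 zgi34) (kgi xgi5 ygi52 zgi31) (kgi xgi8 ygi45 zgi24) (kgi xgi14 ygi8 zgi29) (kgi xgi4 ygi39 zgi37) (kgi xgi16 ygi29 zgi31) (kgi xgi16 ygi29 zgi29) (kgi xgi6 ygi14 zgi34) (kgi xgi16 ygi33 zgi11) (kgi xgi16 ygi27 zgi58) (kgi xgi12 ygi46 zgi42) (kgi xgi16 ygi31 zgi52) (kgi xgi11 ygi59 zgi30) (kgi xgi4 ygi39 zgi43) (kgi xgi8 ygi46 zgi3) (kgi xgi8 ygi38 zgi14) (kgi xgi8 ygi42 zgi53)) (@D3.rec (fun _ => Pt) (kgi xgi17 ygi9 zgi25) (kgi xgi6 ygi16 zgi54) (kgi xgi5 ygi13 zgi48) (kgi xgi8 ygi38 zgi16) (kgi xgi17 ygi9 zgi24) (kgi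 xgi17 ygi9 zgi34) (kgi xgi4 ygi39 zgi49) (kgi xgi16 ygi59 zgi30) (kgi xgi17 ygi9 zgi37) (kgi xgi17 ygi9 zgi40) (kgi xgi6 ygi34 zgi19) (kgi xgi4 ygi39 zgi50) (kgi xgi16 ygi59 zgi58) (kgi xgi10 ygi17 zgi16) (kgi xgi6 ygi6 zgi45) (kgi xgi6 ygi6 zgi46) (kgi xgi11 ygi35 zgi60) (kgi xgi5 ygi56 zgi39) (kgi xgi11 ygi29 zgi22) (kgi xgi6 ygi8 zgi30) (kgi xgi4 ygi39 zgi55) (kgi xgi6 ygi8 zgi29) (kgi xgi9 ygi17 zgi55) (kgi xgi9 ygi47 zgi55) (kgi xgi5 ygi57 zgi20) (kgi xgi9 ygi48 zgi26) (kgi xgi10 ygi5 zgi59) (kgi xgi4 ygi39 zgi61) (kgi xgi17 ygi3 zgi4) (kgi xgi17 ygi9 zgi61) (kgi xgi17 ygi3 zgi1) (kgi xgi9 ygi19 zgi52) (kgi xgi17 ygi2 zgi21) (kgi xgi17 ygi6 zgi39) (kgi xgi17 ygi3 zgi8) (kgi xgi17 ygi5 zgi18) (kgi xgi12 ygi53 zgi52) (kgi xgi5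 ygi56 zgi43) (kgi xgi12 ygi17 zgi21) (kgi xgi10 ygi45 zgi49) (kgi xgi12 ygi53 zgi14) (kgi xgi6 ygi50 zgi61) (kgi xgi11 ygi0 zgi49) (kgi xgi9 ygi50 zgi58) (kgi xgi5 ygi6 zgi41) (kgi xgi4 ygi40 zgi10) (kgi xgi6 ygi17 zgi37) (kgi xgi4 ygi40 zgi13) (kgi xgi4 ygi47 zgi37) (kgi xgi17 ygi10 zgi16) (kgi xgi17 ygi10 zgi20) (kgi xgi6 ygi19 zgi48) (kgi xgi14 ygi11 zgi47) (kgi xgi4 ygi43 zgi58) (kgi xgi6 ygi23 zgi53) (kgi xgi4 ygi40 zgi16) (kgi xgi6 ygi17 zgi38) (kgi xgi17 ygi10 zgi25) (kgi xgi12 ygi16 zgi1) (kgi xgi4 ygi40 zgi17) (kgi xgi5 ygi58 zgi4) (kgi xgi12 ygi11 zgi9)) (@D3.rec (fun _ => Pt) (kgi xgi9 ygi23 zgi17) (kgi xgi10 ygi27 zgi27) (kgi xgi16 ygi56 zgi5) (kgi xgi4 ygi40 zgi19) (kgi xgi4 ygi40 zgi44) (kgi xgi9 ygi27 zgi1) (kgi xgi4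 ygi40 zgi41) (kgi xgi4 ygi44 zgi42) (kgi xgi12 ygi51 zgi26) (kgi xgi12 ygi57 zgi12) (kgi xgi4 ygi40 zgi49) (kgi xgi4 ygi44 zgi46) (kgi xgi4 ygi40 zgi27) (kgi xgi14 ygi41 zgi43) (kgi xgi4 ygi40 zgi26) (kgi xgi4 ygi44 zgi58) (kgi xgi4 ygi44 zgi56) (kgi xgi17 ygi10 zgi48) (kgi xgi14 ygi42 zgi0) (kgi xgi17 ygi10 zgi53) (kgi xgi6 ygi32 zgi29) (kgi xgi4 ygi40 zgi30) (kgi xgi9 ygi22 zgi0) (kgi xgi9 ygi21 zgi60) (kgi xgi12 ygi10 zgi20) (kgi xgi13 ygi20 zgi31) (kgi xgi4 ygi40 zgi32) (kgi xgi9 ygi22 zgi28) (kgi xgi13 ygi20 zgi59) (kgi xgi17 ygi11 zgi6) (kgi xgi17 ygi11 zgi9) (kgi xgi13 ygi16 zgi36) (kgi xgi5 ygi59 zgi5) (kgi xgi13 ygi10 zgi37) (kgi xgi9 ygi30 zgi18) (kgi xgi17 ygi11 zgi19) (kgi xgi4 ygi40 zgi38) (kgi xgi17 ygi11 zgi15) (kgi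 xgi13 ygi10 zgi48) (kgi xgi17 ygi11 zgi13) (kgi xgi17 ygi11 zgi26) (kgi xgi17 ygi11 zgi29) (kgi xgi4 ygi40 zgi40) (kgi xgi17 ygi10 zgi37) (kgi xgi17 ygi11 zgi38) (kgi xgi17 ygi10 zgi35) (kgi xgi17 ygi10 zgi59) (kgi xgi6 ygi32 zgi47) (kgi xgi12 ygi52 zgi17) (kgi xgi17 ygi11 zgi49) (kgi xgi6 ygi46 zgi57) (kgi xgi4 ygi44 zgi11) (kgi xgi4 ygi40 zgi43) (kgi xgi17 ygi10 zgi43) (kgi xgi8 ygi19 zgi51) (kgi xgi12 ygi32 zgi58) (kgi xgi6 ygi32 zgi23) (kgi xgi4 ygi40 zgi46) (kgi xgi6 ygi43 zgi22) (kgi xgi12 ygi51 zgi57) (kgi xgi4 ygi44 zgi15) (kgi xgi6 ygi32 zgi34)) (@D3.rec (fun _ => Pt) (kgi xgi4 ygi47 zgi23) (kgi xgi4 ygi44 zgi21) (kgi xgi15 ygi30 zgi29) (kgi xgi6 ygi47 zgi1) (kgi xgi4 ygi40 zgi50) (kgi xgi4 ygi40 zgi54) (kgi xgi9 ygi30 zgi48)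 (kgi xgi4 ygi40 zgi51) (kgi xgi5 ygi57 zgi37) (kgi xgi5 ygi58 zgi15) (kgi xgi11 ygi46 zgi61) (kgi xgi12 ygi9 zgi4) (kgi xgi17 ygi12 zgi16) (kgi xgi5 ygi58 zgi27) (kgi xgi4 ygi40 zgi53) (kgi xgi17 ygi12 zgi13) (kgi xgi17 ygi12 zgi24) (kgi xgi17 ygi12 zgi11) (kgi xgi5 ygi54 zgi45) (kgi xgi17 ygi7 zgi47) (kgi xgi12 ygi4 zgi25) (kgi xgi12 ygi39 zgi23) (kgi xgi17 ygi7 zgi35) (kgi xgi9 ygi11 zgi37) (kgi xgi11 ygi27 zgi20) (kgi xgi9 ygi1 zgi39) (kgi xgi5 ygi47 zgi12) (kgi xgi10 ygi48 zgi13) (kgi xgi4 ygi40 zgi61) (kgi xgi16 ygi7 zgi46) (kgi xgi11 ygi24 zgi9) (kgi xgi6 ygi33 zgi26) (kgi xgi4 ygi41 zgi2) (kgi xgi5 ygi51 zgi22) (kgi xgi12 ygi14 zgi42) (kgi xgi17 ygi12 zgi41) (kgi xgi6 ygi32 zgi33) (kgi xgi12 ygi58 zgi5) (kgi xgi16 ygi58 zgi31)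 (kgi xgi12 ygi55 zgi8) (kgi xgi9 ygi1 zgi34) (kgi xgi8 ygi12 zgi54) (kgi xgi4 ygi58 zgi49) (kgi xgi6 ygi41 zgi59) (kgi xgi12 ygi55 zgi5) (kgi xgi17 ygi12 zgi49) (kgi xgi8 ygi49 zgi15) (kgi xgi10 ygi2 zgi55) (kgi xgi12 ygi33 zgi0) (kgi xgi16 ygi19 zgi19) (kgi xgi9 ygi49 zgi44) (kgi xgi17 ygi12 zgi55) (kgi xgi17 ygi12 zgi57) (kgi xgi17 ygi12 zgi54) (kgi xgi17 ygi12 zgi59) (kgi xgi4 ygi41 zgi30) (kgi xgi9 ygi15 zgi22) (kgi xgi17 ygi13 zgi3) (kgi xgi11 ygi26 zgi55) (kgi xgi17 ygi13 zgi6) (kgi xgi6 ygi16 zgi47) (kgi xgi5 ygi33 zgi15)) (@D3.rec (fun _ => Pt) (kgi xgi12 ygi30 zgi51) (kgi xgi6 ygi1 zgi12) (kgi xgi8 ygi49 zgi60) (kgi xgi9 ygi5 zgi35) (kgi xgi11 ygi27 zgi60) (kgi xgi4 ygi41 zgi38) (kgi xgi6 ygi2 zgi10) (kgi xgi9 ygi7 zgi31)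 (kgi xgi4 ygi41 zgi43) (kgi xgi16 ygi6 zgi33) (kgi xgi4 ygi41 zgi46) (kgi xgi6 ygi25 zgi54) (kgi xgi9 ygi49 zgi30) (kgi xgi12 ygi27 zgi44) (kgi xgi10 ygi12 zgi6) (kgi xgi6 ygi29 zgi48) (kgi xgi13 ygi1 zgi39) (kgi xgi5 ygi47 zgi40) (kgi xgi6 ygi17 zgi48) (kgi xgi12 ygi20 zgi32) (kgi xgi17 ygi13 zgi22) (kgi xgi10 ygi0 zgi6) (kgi xgi6 ygi23 zgi1) (kgi xgi17 ygi13 zgi28) (kgi xgi17 ygi13 zgi31) (kgi xgi4 ygi41 zgi60) (kgi xgi12 ygi59 zgi53) (kgi xgi12 ygi59 zgi54) (kgi xgi4 ygi42 zgi1) (kgi xgi6 ygi21 zgi52) (kgi xgi12 ygi31 zgi21) (kgi xgi4 ygi48 zgi4) (kgi xgi4 ygi48 zgi5) (kgi xgi17 ygi13 zgi45) (kgi xgi6 ygi36 zgi30) (kgi xgi6 ygi21 zgi30) (kgi xgi12 ygi3 zgi9) (kgi xgi4 ygi42 zgi8) (kgi xgi6 ygi21 zgi25) (kgi xgi12 ygi3 zgi10) (kgi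 xgi17 ygi13 zgi54) (kgi xgi9 ygi23 zgi47) (kgi xgi12 ygi5 zgi2) (kgi xgi12 ygi17 zgi10) (kgi xgi17 ygi13 zgi58) (kgi xgi12 ygi15 zgi36) (kgi xgi4 ygi42 zgi13) (kgi xgi17 ygi13 zgi61) (kgi xgi17 ygi13 zgi35) (kgi xgi17 ygi14 zgi0) (kgi xgi4 ygi42 zgi14) (kgi xgi6 ygi22 zgi27) (kgi xgi4 ygi42 zgi16) (kgi xgi6 ygi22 zgi61) (kgi xgi6 ygi22 zgi59) (kgi xgi6 ygi22 zgi35) (kgi xgi13 ygi15 zgi19) (kgi xgi14 ygi3 zgi20) (kgi xgi12 ygi27 zgi10) (kgi xgi12 ygi21 zgi35) (kgi xgi4 ygi42 zgi19) (kgi xgi7 ygi9 zgi58)) (@D3.rec (fun _ => Pt) (kgi xgi4 ygi42 zgi20) (kgi xgi6 ygi22 zgi41) (kgi xgi6 ygi22 zgi39) (kgi xgi10 ygi14 zgi12) (kgi xgi8 ygi35 zgi19) (kgi xgi6 ygi24 zgi16) (kgi xgi17 ygi14 zgi30) (kgi xgi17 ygi14 zgi32) (kgi xgi12 ygi4 zgi53)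 (kgi xgi12 ygi4 zgi59) (kgi xgi17 ygi14 zgi31) (kgi xgi12 ygi58 zgi39) (kgi xgi6 ygi23 zgi54) (kgi xgi12 ygi0 zgi16) (kgi xgi4 ygi42 zgi28) (kgi xgi17 ygi14 zgi44) (kgi xgi9 ygi28 zgi19) (kgi xgi17 ygi14 zgi50) (kgi xgi4 ygi42 zgi29) (kgi xgi6 ygi48 zgi14) (kgi xgi6 ygi23 zgi59) (kgi xgi17 ygi14 zgi57) (kgi xgi6 ygi23 zgi5) (kgi xgi6 ygi47 zgi49) (kgi xgi11 ygi59 zgi45) (kgi xgi8 ygi3 zgi23) (kgi xgi5 ygi53 zgi31) (kgi xgi17 ygi15 zgi1) (kgi xgi17 ygi15 zgi4) (kgi xgi4 ygi42 zgi38) (kgi xgi17 ygi15 zgi2) (kgi xgi17 ygi15 zgi0) (kgi xgi7 ygi57 zgi18) (kgi xgi17 ygi15 zgi15) (kgi xgi16 ygi32 zgi25) (kgi xgi8 ygi49 zgi59) (kgi xgi17 ygi15 zgi14) (kgi xgi7 ygi57 zgi27) (kgi xgi4 ygi42 zgi41) (kgi xgi8 ygi50 zgi43) (kgi xgi8 ygi50 zgi40)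 (kgi xgi17 ygi15 zgi27) (kgi xgi17 ygi15 zgi29) (kgi xgi17 ygi15 zgi32) (kgi xgi17 ygi15 zgi34) (kgi xgi10 ygi5 zgi0) (kgi xgi6 ygi13 zgi14) (kgi xgi17 ygi15 zgi39) (kgi xgi7 ygi59 zgi15) (kgi xgi5 ygi37 zgi36) (kgi xgi7 ygi59 zgi17) (kgi xgi5 ygi47 zgi29) (kgi xgi11 ygi58 zgi34) (kgi xgi4 ygi43 zgi2) (kgi xgi6 ygi2 zgi11) (kgi xgi4 ygi43 zgi17) (kgi xgi11 ygi56 zgi18) (kgi xgi17 ygi15 zgi49) (kgi xgi6 ygi20 zgi9) (kgi xgi17 ygi15 zgi50) (kgi xgi17 ygi15 zgi51) (kgi xgi10 ygi4 zgi38)) (@D3.rec (fun _ => Pt) (kgi xgi17 ygi15 zgi54) (kgi xgi5 ygi3 zgi31) (kgi xgi17 ygi15 zgi56) (kgi xgi17 ygi12 zgi34) (kgi xgi4 ygi43 zgi16) (kgi xgi13 ygi2 zgi32) (kgi xgi11 ygi11 zgi4) (kgi xgi15 ygi47 zgi23) (kgi xgi12 ygi4 zgi0) (kgi xgi15 ygi47 zgi22)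 (kgi xgi4 ygi43 zgi33) (kgi xgi4 ygi43 zgi26) (kgi xgi6 ygi26 zgi46) (kgi xgi7 ygi45 zgi34) (kgi xgi4 ygi48 zgi31) (kgi xgi4 ygi48 zgi34) (kgi xgi13 ygi20 zgi36) (kgi xgi12 ygi49 zgi19) (kgi xgi12 ygi30 zgi35) (kgi xgi17 ygi16 zgi8) (kgi xgi6 ygi18 zgi6) (kgi xgi12 ygi30 zgi34) (kgi xgi13 ygi0 zgi24) (kgi xgi17 ygi16 zgi13) (kgi xgi12 ygi25 zgi12) (kgi xgi6 ygi29 zgi51) (kgi xgi8 ygi37 zgi9) (kgi xgi8 ygi37 zgi28) (kgi xgi17 ygi16 zgi22) (kgi xgi4 ygi43 zgi38) (kgi xgi6 ygi27 zgi27) (kgi xgi6 ygi27 zgi25) (kgi xgi17 ygi16 zgi25) (kgi xgi17 ygi14 zgi29) (kgi xgi13 ygi0 zgi3) (kgi xgi8 ygi35 zgi61) (kgi xgi17 ygi16 zgi33) (kgi xgi6 ygi50 zgi43) (kgi xgi4 ygi43 zgi48) (kgi xgi12 ygi25 zgi51) (kgi xgi6 ygi51 zgi13) (kgi xgi4 ygi43 zgi51)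 (kgi xgi7 ygi31 zgi53) (kgi xgi7 ygi31 zgi33) (kgi xgi6 ygi28 zgi52) (kgi xgi17 ygi16 zgi41) (kgi xgi6 ygi28 zgi47) (kgi xgi6 ygi28 zgi28) (kgi xgi12 ygi20 zgi0) (kgi xgi4 ygi43 zgi60) (kgi xgi17 ygi16 zgi46) (kgi xgi4 ygi46 zgi5) (kgi xgi4 ygi46 zgi11) (kgi xgi4 ygi44 zgi0) (kgi xgi17 ygi16 zgi51) (kgi xgi4 ygi44 zgi1) (kgi xgi15 ygi38 zgi48) (kgi xgi17 ygi16 zgi57) (kgi xgi7 ygi32 zgi46) (kgi xgi6 ygi10 zgi46) (kgi xgi14 ygi35 zgi27) (kgi xgi4 ygi44 zgi4)) (@D3.rec (fun _ => Pt) (kgi xgi17 ygi10 zgi42) (kgi xgi4 ygi44 zgi5) (kgi xgi5 ygi51 zgi3) (kgi xgi17 ygi17 zgi3) (kgi xgi17 ygi10 zgi52) (kgi xgi4 ygi44 zgi7) (kgi xgi6 ygi12 zgi33) (kgi xgi9 ygi23 zgi32) (kgi xgi7 ygi32 zgi1) (kgi xgi6 ygi49 zgi0) (kgi xgi12 ygi12 zgi40) (kgi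 xgi6 ygi11 zgi33) (kgi xgi17 ygi17 zgi11) (kgi xgi6 ygi33 zgi15) (kgi xgi9 ygi25 zgi24) (kgi xgi6 ygi33 zgi12) (kgi xgi4 ygi45 zgi54) (kgi xgi8 ygi31 zgi22) (kgi xgi6 ygi47 zgi15) (kgi xgi4 ygi44 zgi16) (kgi xgi7 ygi32 zgi31) (kgi xgi14 ygi44 zgi0) (kgi xgi7 ygi3 zgi59) (kgi xgi7 ygi33 zgi60) (kgi xgi9 ygi27 zgi48) (kgi xgi17 ygi10 zgi45) (kgi xgi12 ygi56 zgi59) (kgi xgi17 ygi12 zgi5) (kgi xgi4 ygi44 zgi19) (kgi xgi4 ygi44 zgi54) (kgi xgi17 ygi17 zgi38) (kgi xgi9 ygi27 zgi10) (kgi xgi17 ygi10 zgi40) (kgi xgi17 ygi10 zgi30) (kgi xgi17 ygi17 zgi40) (kgi xgi17 ygi17 zgi6) (kgi xgi9 ygi32 zgi42) (kgi xgi17 ygi16 zgi40) (kgi xgi4 ygi44 zgi25) (kgi xgi6 ygi34 zgi48) (kgi xgi6 ygi49 zgi3) (kgi xgi6 ygi29 zgi32) (kgi xgi4 ygi44 zgi28) (kgi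 xgi4 ygi45 zgi18) (kgi xgi14 ygi30 zgi39) (kgi xgi4 ygi44 zgi29) (kgi xgi17 ygi11 zgi47) (kgi xgi4 ygi44 zgi30) (kgi xgi17 ygi17 zgi60) (kgi xgi17 ygi18 zgi2) (kgi xgi12 ygi11 zgi55) (kgi xgi4 ygi44 zgi32) (kgi xgi6 ygi53 zgi56) (kgi xgi17 ygi18 zgi8) (kgi xgi6 ygi32 zgi10) (kgi xgi6 ygi0 zgi9) (kgi xgi12 ygi24 zgi57) (kgi xgi6 ygi50 zgi1) (kgi xgi6 ygi19 zgi26) (kgi xgi6 ygi19 zgi24) (kgi xgi4 ygi44 zgi38) (kgi xgi9 ygi16 zgi23)) (@D3.rec (fun _ => Pt) (kgi xgi9 ygi16 zgi21) (kgi xgi17 ygi18 zgi15) (kgi xgi12 ygi50 zgi33) (kgi xgi13 ygi52 zgi61) (kgi xgi14 ygi17 zgi51) (kgi xgi17 ygi18 zgi20) (kgi xgi11 ygi44 zgi45) (kgi xgi17 ygi18 zgi22) (kgi xgi17 ygi18 zgi26) (kgi xgi9 ygi28 zgi43) (kgi xgi6 ygi12 zgi38) (kgi xgi5 ygi58 zgi21)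 (kgi xgi7 ygi32 zgi2) (kgi xgi10 ygi42 zgi2) (kgi xgi17 ygi17 zgi2) (kgi xgi17 ygi18 zgi33) (kgi xgi4 ygi44 zgi50) (kgi xgi16 ygi57 zgi59) (kgi xgi17 ygi18 zgi43) (kgi xgi7 ygi41 zgi2) (kgi xgi9 ygi26 zgi46) (kgi xgi12 ygi10 zgi51) (kgi xgi15 ygi51 zgi16) (kgi xgi4 ygi44 zgi53) (kgi xgi17 ygi10 zgi51) (kgi xgi17 ygi18 zgi58) (kgi xgi11 ygi55 zgi7) (kgi xgi17 ygi17 zgi37) (kgi xgi4 ygi44 zgi55) (kgi xgi9 ygi16 zgi27) (kgi xgi13 ygi6 zgi36) (kgi xgi5 ygi57 zgi31) (kgi xgi9 ygi22 zgi46) (kgi xgi10 ygi32 zgi25) (kgi xgi9 ygi24 zgi37) (kgi xgi8 ygi12 zgi43) (kgi xgi17 ygi6 zgi38) (kgi xgi4 ygi44 zgi59) (kgi xgi11 ygi33 zgi1) (kgi xgi12 ygi49 zgi28) (kgi xgi14 ygi53 zgi4) (kgi xgi4 ygi44 zgi60) (kgi xgi7 ygi47 zgi53) (kgi xgi4 ygi45 zgi0)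 (kgi xgi4 ygi46 zgi1) (kgi xgi4 ygi45 zgi61) (kgi xgi9 ygi22 zgi34) (kgi xgi16 ygi57 zgi44) (kgi xgi8 ygi28 zgi47) (kgi xgi4 ygi45 zgi2) (kgi xgi4 ygi45 zgi46) (kgi xgi4 ygi46 zgi23) (kgi xgi6 ygi33 zgi17) (kgi xgi12 ygi13 zgi60) (kgi xgi4 ygi45 zgi38) (kgi xgi17 ygi19 zgi21) (kgi xgi10 ygi19 zgi41) (kgi xgi4 ygi46 zgi8) (kgi xgi17 ygi19 zgi25) (kgi xgi4 ygi45 zgi9) (kgi xgi17 ygi19 zgi27) (kgi xgi4 ygi45 zgi10)) (@D3.rec (fun _ => Pt) (kgi xgi4 ygi46 zgi26) (kgi xgi4 ygi46 zgi24) (kgi xgi12 ygi16 zgi54) (kgi xgi8 ygi29 zgi20) (kgi xgi4 ygi45 zgi50) (kgi xgi4 ygi45 zgi13) (kgi xgi4 ygi46 zgi17) (kgi xgi4 ygi46 zgi15) (kgi xgi11 ygi21 zgi25) (kgi xgi17 ygi19 zgi37) (kgi xgi8 ygi17 zgi53) (kgi xgi12 ygi32 zgi39) (kgi xgi6 ygi36 zgi44)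 (kgi xgi9 ygi16 zgi0) (kgi xgi17 ygi19 zgi15) (kgi xgi17 ygi19 zgi29) (kgi xgi6 ygi19 zgi36) (kgi xgi11 ygi40 zgi49) (kgi xgi14 ygi32 zgi60) (kgi xgi9 ygi26 zgi34) (kgi xgi17 ygi19 zgi52) (kgi xgi4 ygi45 zgi19) (kgi xgi5 ygi59 zgi21) (kgi xgi17 ygi19 zgi59) (kgi xgi4 ygi45 zgi20) (kgi xgi17 ygi19 zgi54) (kgi xgi17 ygi20 zgi7) (kgi xgi17 ygi19 zgi51) (kgi xgi4 ygi45 zgi21) (kgi xgi17 ygi20 zgi14) (kgi xgi4 ygi46 zgi56) (kgi xgi17 ygi19 zgi30) (kgi xgi12 ygi4 zgi28) (kgi xgi9 ygi21 zgi7) (kgi xgi6 ygi42 zgi49) (kgi xgi4 ygi45 zgi24) (kgi xgi4 ygi47 zgi10) (kgi xgi17 ygi20 zgi28) (kgi xgi4 ygi47 zgi7) (kgi xgi17 ygi20 zgi31) (kgi xgi9 ygi21 zgi18) (kgi xgi6 ygi47 zgi10) (kgi xgi4 ygi45 zgi28) (kgi xgi5 ygi54 zgi35) (kgi xgi11 ygi25 zgi1)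 (kgi xgi4 ygi59 zgi57) (kgi xgi6 ygi31 zgi41) (kgi xgi11 ygi59 zgi51) (kgi xgi4 ygi45 zgi34) (kgi xgi6 ygi39 zgi34) (kgi xgi12 ygi14 zgi38) (kgi xgi7 ygi0 zgi30) (kgi xgi17 ygi12 zgi2) (kgi xgi6 ygi0 zgi8) (kgi xgi17 ygi20 zgi50) (kgi xgi6 ygi12 zgi37) (kgi xgi4 ygi48 zgi45) (kgi xgi6 ygi43 zgi13) (kgi xgi6 ygi35 zgi47) (kgi xgi17 ygi20 zgi32) (kgi xgi17 ygi20 zgi60) (kgi xgi17 ygi21 zgi2)) (@D3.rec (fun _ => Pt) (kgi xgi4 ygi45 zgi42) (kgi xgi17 ygi21 zgi0) (kgi xgi17 ygi21 zgi12) (kgi xgi17 ygi20 zgi59) (kgi xgi13 ygi19 zgi10) (kgi xgi17 ygi11 zgi35) (kgi xgi17 ygi21 zgi18) (kgi xgi6 ygi6 zgi19) (kgi xgi17 ygi20 zgi44) (kgi xgi14 ygi23 zgi13) (kgi xgi6 ygi46 zgi60) (kgi xgi17 ygi21 zgi24) (kgi xgi12 ygi11 zgi58) (kgi xgi4 ygi47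 zgi53) (kgi xgi17 ygi17 zgi52) (kgi xgi17 ygi17 zgi15) (kgi xgi12 ygi32 zgi41) (kgi xgi17 ygi21 zgi34) (kgi xgi16 ygi46 zgi52) (kgi xgi17 ygi21 zgi33) (kgi xgi4 ygi47 zgi35) (kgi xgi6 ygi12 zgi39) (kgi xgi9 ygi28 zgi17) (kgi xgi4 ygi45 zgi57) (kgi xgi8 ygi31 zgi61) (kgi xgi17 ygi21 zgi41) (kgi xgi8 ygi31 zgi24) (kgi xgi17 ygi19 zgi17) (kgi xgi4 ygi45 zgi59) (kgi xgi12 ygi24 zgi1) (kgi xgi5 ygi48 zgi29) (kgi xgi11 ygi29 zgi38) (kgi xgi12 ygi15 zgi23) (kgi xgi17 ygi21 zgi45) (kgi xgi6 ygi1 zgi20) (kgi xgi4 ygi47 zgi20) (kgi xgi5 ygi48 zgi7) (kgi xgi9 ygi22 zgi32) (kgi xgi15 ygi5 zgi35) (kgi xgi4 ygi46 zgi2) (kgi xgi14 ygi1 zgi38) (kgi xgi10 ygi21 zgi45) (kgi xgi15 ygi5 zgi33) (kgi xgi17 ygi21 zgi55) (kgi xgi10 ygi8 zgi15) (kgi xgi17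 ygi20 zgi48) (kgi xgi10 ygi22 zgi21) (kgi xgi17 ygi21 zgi57) (kgi xgi4 ygi46 zgi7) (kgi xgi17 ygi16 zgi48) (kgi xgi17 ygi19 zgi24) (kgi xgi14 ygi32 zgi57) (kgi xgi17 ygi16 zgi45) (kgi xgi17 ygi16 zgi50) (kgi xgi17 ygi10 zgi22) (kgi xgi6 ygi43 zgi51) (kgi xgi16 ygi7 zgi1) (kgi xgi12 ygi11 zgi17) (kgi xgi4 ygi46 zgi13) (kgi xgi10 ygi43 zgi41) (kgi xgi17 ygi22 zgi14) (kgi xgi10 ygi43 zgi40)) (@D3.rec (fun _ => Pt) (kgi xgi15 ygi58 zgi14) (kgi xgi8 ygi21 zgi42) (kgi xgi6 ygi0 zgi39) (kgi xgi12 ygi49 zgi11) (kgi xgi4 ygi46 zgi50) (kgi xgi13 ygi1 zgi16) (kgi xgi12 ygi51 zgi34) (kgi xgi17 ygi22 zgi18) (kgi xgi16 ygi24 zgi36) (kgi xgi5 ygi6 zgi49) (kgi xgi5 ygi45 zgi30) (kgi xgi11 ygi21 zgi13) (kgi xgi17 ygi22 zgi30) (kgi xgi12 ygi23 zgi38)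 (kgi xgi12 ygi10 zgi37) (kgi xgi17 ygi22 zgi34) (kgi xgi4 ygi46 zgi19) (kgi xgi13 ygi58 zgi35) (kgi xgi17 ygi22 zgi39) (kgi xgi4 ygi46 zgi20) (kgi xgi17 ygi22 zgi32) (kgi xgi17 ygi22 zgi50) (kgi xgi17 ygi22 zgi29) (kgi xgi8 ygi29 zgi23) (kgi xgi9 ygi41 zgi46) (kgi xgi11 ygi47 zgi13) (kgi xgi5 ygi59 zgi36) (kgi xgi4 ygi46 zgi52) (kgi xgi4 ygi47 zgi3) (kgi xgi9 ygi49 zgi51) (kgi xgi14 ygi59 zgi27) (kgi xgi8 ygi50 zgi29) (kgi xgi4 ygi46 zgi27) (kgi xgi12 ygi46 zgi40) (kgi xgi17 ygi22 zgi60) (kgi xgi4 ygi46 zgi28) (kgi xgi8 ygi47 zgi1) (kgi xgi17 ygi23 zgi3) (kgi xgi17 ygi23 zgi7) (kgi xgi5 ygi15 zgi1) (kgi xgi10 ygi19 zgi36) (kgi xgi4 ygi46 zgi31) (kgi xgi17 ygi16 zgi44) (kgi xgi17 ygi23 zgi14) (kgi xgi17 ygi19 zgi39) (kgi xgi6 ygi0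 zgi29) (kgi xgi6 ygi0 zgi27) (kgi xgi7 ygi2 zgi15) (kgi xgi5 ygi50 zgi24) (kgi xgi9 ygi47 zgi46) (kgi xgi15 ygi55 zgi30) (kgi xgi4 ygi46 zgi36) (kgi xgi6 ygi56 zgi23) (kgi xgi6 ygi0 zgi17) (kgi xgi4 ygi46 zgi37) (kgi xgi6 ygi0 zgi37) (kgi xgi14 ygi20 zgi7) (kgi xgi9 ygi47 zgi48) (kgi xgi17 ygi23 zgi27) (kgi xgi17 ygi23 zgi30) (kgi xgi17 ygi23 zgi33) (kgi xgi4 ygi46 zgi41)) (@D3.rec (fun _ => Pt) (kgi xgi4 ygi46 zgi49) (kgi xgi13 ygi10 zgi18) (kgi xgi4 ygi46 zgi46) (kgi xgi11 ygi40 zgi29) (kgi xgi17 ygi23 zgi40) (kgi xgi11 ygi40 zgi27) (kgi xgi4 ygi59 zgi48) (kgi xgi17 ygi23 zgi43) (kgi xgi17 ygi23 zgi46) (kgi xgi4 ygi46 zgi45) (kgi xgi17 ygi23 zgi35) (kgi xgi17 ygi23 zgi57) (kgi xgi17 ygi23 zgi32) (kgi xgi5 ygi26 zgi52) (kgi xgi14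 ygi22 zgi33) (kgi xgi17 ygi23 zgi61) (kgi xgi11 ygi55 zgi40) (kgi xgi6 ygi56 zgi8) (kgi xgi14 ygi33 zgi29) (kgi xgi4 ygi46 zgi48) (kgi xgi17 ygi23 zgi37) (kgi xgi17 ygi24 zgi13) (kgi xgi13 ygi10 zgi16) (kgi xgi17 ygi10 zgi60) (kgi xgi14 ygi49 zgi59) (kgi xgi9 ygi2 zgi8) (kgi xgi4 ygi46 zgi51) (kgi xgi17 ygi11 zgi8) (kgi xgi17 ygi24 zgi29) (kgi xgi15 ygi56 zgi43) (kgi xgi7 ygi45 zgi42) (kgi xgi4 ygi46 zgi53) (kgi xgi17 ygi11 zgi2) (kgi xgi17 ygi11 zgi1) (kgi xgi4 ygi46 zgi54) (kgi xgi9 ygi23 zgi19) (kgi xgi17 ygi24 zgi40) (kgi xgi4 ygi46 zgi55) (kgi xgi9 ygi26 zgi52) (kgi xgi17 ygi24 zgi48) (kgi xgi9 ygi26 zgi53) (kgi xgi9 ygi13 zgi54) (kgi xgi9 ygi22 zgi20) (kgi xgi17 ygi24 zgi58) (kgi xgi17 ygi24 zgi61) (kgi xgi17 ygi25 zgi1) (kgi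 xgi17 ygi24 zgi54) (kgi xgi17 ygi24 zgi57) (kgi xgi4 ygi46 zgi58) (kgi xgi17 ygi20 zgi16) (kgi xgi17 ygi25 zgi14) (kgi xgi17 ygi20 zgi13) (kgi xgi9 ygi26 zgi37) (kgi xgi4 ygi46 zgi60) (kgi xgi9 ygi26 zgi40) (kgi xgi17 ygi25 zgi25) (kgi xgi4 ygi46 zgi61) (kgi xgi17 ygi25 zgi29) (kgi xgi17 ygi25 zgi33) (kgi xgi4 ygi47 zgi0) (kgi xgi4 ygi47 zgi5) (kgi xgi8 ygi30 zgi33)) (@D3.rec (fun _ => Pt) (kgi xgi16 ygi1 zgi51) (kgi xgi9 ygi16 zgi55) (kgi xgi10 ygi13 zgi2) (kgi xgi17 ygi20 zgi17) (kgi xgi10 ygi3 zgi37) (kgi xgi14 ygi19 zgi0) (kgi xgi14 ygi36 zgi32) (kgi xgi12 ygi28 zgi33) (kgi xgi17 ygi17 zgi18) (kgi xgi17 ygi25 zgi51) (kgi xgi9 ygi21 zgi34) (kgi xgi6 ygi47 zgi16) (kgi xgi17 ygi22 zgi27) (kgi xgi17 ygi25 zgi58) (kgi xgi15 ygi51 zgi38)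 (kgi xgi17 ygi25 zgi41) (kgi xgi17 ygi25 zgi57) (kgi xgi17 ygi26 zgi6) (kgi xgi4 ygi47 zgi9) (kgi xgi17 ygi11 zgi60) (kgi xgi17 ygi26 zgi13) (kgi xgi12 ygi56 zgi57) (kgi xgi17 ygi12 zgi39) (kgi xgi17 ygi26 zgi19) (kgi xgi17 ygi17 zgi56) (kgi xgi17 ygi19 zgi34) (kgi xgi17 ygi26 zgi25) (kgi xgi4 ygi47 zgi54) (kgi xgi17 ygi26 zgi24) (kgi xgi4 ygi47 zgi14) (kgi xgi6 ygi43 zgi38) (kgi xgi17 ygi26 zgi37) (kgi xgi17 ygi20 zgi38) (kgi xgi10 ygi18 zgi18) (kgi xgi7 ygi34 zgi24) (kgi xgi17 ygi12 zgi4) (kgi xgi4 ygi47 zgi17) (kgi xgi12 ygi7 zgi33) (kgi xgi17 ygi26 zgi50) (kgi xgi10 ygi2 zgi48) (kgi xgi6 ygi47 zgi6) (kgi xgi12 ygi57 zgi32) (kgi xgi12 ygi57 zgi30) (kgi xgi11 ygi30 zgi9) (kgi xgi17 ygi26 zgi61) (kgi xgi12 ygi34 zgi1) (kgi xgi17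 ygi27 zgi4) (kgi xgi4 ygi47 zgi22) (kgi xgi9 ygi21 zgi26) (kgi xgi17 ygi17 zgi59) (kgi xgi4 ygi48 zgi17) (kgi xgi4 ygi48 zgi25) (kgi xgi11 ygi48 zgi15) (kgi xgi6 ygi43 zgi33) (kgi xgi4 ygi47 zgi50) (kgi xgi6 ygi43 zgi46) (kgi xgi6 ygi48 zgi20) (kgi xgi4 ygi47 zgi59) (kgi xgi4 ygi48 zgi22) (kgi xgi17 ygi10 zgi14) (kgi xgi17 ygi27 zgi25) (kgi xgi17 ygi27 zgi22)) (@D3.rec (fun _ => Pt) (kgi xgi4 ygi47 zgi30) (kgi xgi6 ygi43 zgi39) (kgi xgi17 ygi27 zgi33) (kgi xgi17 ygi27 zgi37) (kgi xgi8 ygi21 zgi45) (kgi xgi4 ygi47 zgi34) (kgi xgi17 ygi27 zgi43) (kgi xgi17 ygi10 zgi13) (kgi xgi17 ygi27 zgi48) (kgi xgi17 ygi10 zgi11) (kgi xgi8 ygi17 zgi23) (kgi xgi9 ygi33 zgi7) (kgi xgi17 ygi27 zgi54) (kgi xgi17 ygi10 zgi19) (kgi xgi4 ygi47 zgi38) (kgi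 xgi17 ygi27 zgi59) (kgi xgi9 ygi19 zgi16) (kgi xgi6 ygi33 zgi18) (kgi xgi17 ygi28 zgi3) (kgi xgi12 ygi20 zgi58) (kgi xgi4 ygi47 zgi41) (kgi xgi12 ygi11 zgi53) (kgi xgi8 ygi31 zgi40) (kgi xgi17 ygi28 zgi14) (kgi xgi4 ygi47 zgi42) (kgi xgi9 ygi28 zgi26) (kgi xgi9 ygi28 zgi24) (kgi xgi17 ygi28 zgi24) (kgi xgi4 ygi47 zgi43) (kgi xgi5 ygi48 zgi6) (kgi xgi17 ygi21 zgi10) (kgi xgi9 ygi22 zgi9) (kgi xgi6 ygi32 zgi45) (kgi xgi15 ygi40 zgi20) (kgi xgi17 ygi10 zgi46) (kgi xgi17 ygi28 zgi35) (kgi xgi7 ygi34 zgi6) (kgi xgi10 ygi32 zgi16) (kgi xgi7 ygi32 zgi56) (kgi xgi12 ygi11 zgi34) (kgi xgi4 ygi47 zgi52) (kgi xgi17 ygi27 zgi18) (kgi xgi17 ygi28 zgi51) (kgi xgi17 ygi28 zgi28) (kgi xgi12 ygi11 zgi25) (kgi xgi17 ygi28 zgi59) (kgi xgi6 ygi21 zgi22)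 (kgi xgi14 ygi33 zgi16) (kgi xgi12 ygi11 zgi23) (kgi xgi17 ygi28 zgi58) (kgi xgi12 ygi33 zgi24) (kgi xgi8 ygi23 zgi19) (kgi xgi4 ygi47 zgi61) (kgi xgi15 ygi40 zgi12) (kgi xgi17 ygi29 zgi14) (kgi xgi17 ygi29 zgi18) (kgi xgi12 ygi4 zgi51) (kgi xgi4 ygi48 zgi2) (kgi xgi6 ygi35 zgi23) (kgi xgi12 ygi13 zgi6) (kgi xgi17 ygi29 zgi25) (kgi xgi17 ygi29 zgi28)) (@D3.rec (fun _ => Pt) (kgi xgi6 ygi24 zgi2) (kgi xgi6 ygi29 zgi50) (kgi xgi12 ygi3 zgi25) (kgi xgi4 ygi48 zgi9) (kgi xgi17 ygi29 zgi32) (kgi xgi17 ygi29 zgi37) (kgi xgi17 ygi29 zgi43) (kgi xgi17 ygi29 zgi33) (kgi xgi6 ygi45 zgi33) (kgi xgi6 ygi43 zgi5) (kgi xgi17 ygi29 zgi48) (kgi xgi4 ygi48 zgi20) (kgi xgi12 ygi32 zgi4) (kgi xgi13 ygi0 zgi49) (kgi xgi4 ygi48 zgi15) (kgi xgi17 ygi29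 zgi55) (kgi xgi4 ygi48 zgi16) (kgi xgi7 ygi50 zgi3) (kgi xgi17 ygi29 zgi61) (kgi xgi14 ygi1 zgi37) (kgi xgi11 ygi10 zgi50) (kgi xgi17 ygi30 zgi3) (kgi xgi4 ygi48 zgi19) (kgi xgi17 ygi27 zgi12) (kgi xgi17 ygi30 zgi12) (kgi xgi17 ygi29 zgi52) (kgi xgi6 ygi39 zgi17) (kgi xgi4 ygi48 zgi24) (kgi xgi12 ygi20 zgi1) (kgi xgi17 ygi30 zgi19) (kgi xgi11 ygi14 zgi35) (kgi xgi12 ygi19 zgi60) (kgi xgi13 ygi2 zgi4) (kgi xgi13 ygi2 zgi0) (kgi xgi4 ygi48 zgi27) (kgi xgi17 ygi27 zgi13) (kgi xgi16 ygi15 zgi60) (kgi xgi17 ygi30 zgi33) (kgi xgi12 ygi24 zgi16) (kgi xgi17 ygi30 zgi38) (kgi xgi17 ygi30 zgi41) (kgi xgi4 ygi48 zgi33) (kgi xgi6 ygi32 zgi51) (kgi xgi17 ygi30 zgi45) (kgi xgi17 ygi30 zgi48) (kgi xgi13 ygi15 zgi59) (kgi xgi6 ygi11 zgi41) (kgi xgi4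 ygi48 zgi38) (kgi xgi17 ygi30 zgi52) (kgi xgi17 ygi30 zgi58) (kgi xgi17 ygi31 zgi2) (kgi xgi17 ygi30 zgi53) (kgi xgi6 ygi44 zgi8) (kgi xgi6 ygi48 zgi26) (kgi xgi4 ygi48 zgi42) (kgi xgi6 ygi0 zgi23) (kgi xgi17 ygi20 zgi43) (kgi xgi5 ygi58 zgi25) (kgi xgi5 ygi59 zgi32) (kgi xgi5 ygi57 zgi35) (kgi xgi4 ygi49 zgi6) (kgi xgi5 ygi59 zgi48)) (@D3.rec (fun _ => Pt) (kgi xgi5 ygi59 zgi46) (kgi xgi17 ygi31 zgi16) (kgi xgi17 ygi31 zgi19) (kgi xgi4 ygi48 zgi47) (kgi xgi6 ygi0 zgi16) (kgi xgi7 ygi53 zgi9) (kgi xgi6 ygi0 zgi13) (kgi xgi17 ygi7 zgi57) (kgi xgi12 ygi32 zgi45) (kgi xgi17 ygi4 zgi40) (kgi xgi13 ygi47 zgi3) (kgi xgi7 ygi45 zgi23) (kgi xgi4 ygi48 zgi52) (kgi xgi17 ygi31 zgi28) (kgi xgi17 ygi31 zgi33) (kgi xgi6 ygi1 zgi52) (kgi xgi9 ygi22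 zgi6) (kgi xgi17 ygi19 zgi23) (kgi xgi5 ygi47 zgi3) (kgi xgi17 ygi31 zgi40) (kgi xgi17 ygi31 zgi43) (kgi xgi17 ygi7 zgi39) (kgi xgi4 ygi49 zgi4) (kgi xgi6 ygi0 zgi0) (kgi xgi5 ygi59 zgi61) (kgi xgi5 ygi53 zgi25) (kgi xgi5 ygi59 zgi44) (kgi xgi17 ygi31 zgi49) (kgi xgi6 ygi49 zgi29) (kgi xgi6 ygi6 zgi34) (kgi xgi17 ygi26 zgi53) (kgi xgi6 ygi45 zgi25) (kgi xgi6 ygi0 zgi19) (kgi xgi4 ygi48 zgi61) (kgi xgi4 ygi49 zgi12) (kgi xgi11 ygi55 zgi37) (kgi xgi4 ygi49 zgi9) (kgi xgi4 ygi49 zgi1) (kgi xgi5 ygi55 zgi38) (kgi xgi9 ygi47 zgi19) (kgi xgi17 ygi31 zgi61) (kgi xgi4 ygi49 zgi2) (kgi xgi17 ygi31 zgi14) (kgi xgi13 ygi8 zgi23) (kgi xgi4 ygi49 zgi3) (kgi xgi4 ygi49 zgi7) (kgi xgi11 ygi54 zgi36) (kgi xgi17 ygi32 zgi12) (kgi xgi9 ygi17 zgi17)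 (kgi xgi5 ygi59 zgi60) (kgi xgi11 ygi29 zgi29) (kgi xgi10 ygi45 zgi16) (kgi xgi7 ygi44 zgi13) (kgi xgi17 ygi32 zgi20) (kgi xgi17 ygi7 zgi50) (kgi xgi12 ygi57 zgi28) (kgi xgi7 ygi53 zgi21) (kgi xgi17 ygi31 zgi24) (kgi xgi5 ygi26 zgi9) (kgi xgi11 ygi42 zgi20) (kgi xgi5 ygi33 zgi34) (kgi xgi12 ygi32 zgi46)) (@D3.rec (fun _ => Pt) (kgi xgi10 ygi44 zgi34) (kgi xgi5 ygi55 zgi17) (kgi xgi10 ygi45 zgi14) (kgi xgi6 ygi5 zgi60) (kgi xgi13 ygi1 zgi22) (kgi xgi17 ygi32 zgi48) (kgi xgi4 ygi49 zgi11) (kgi xgi17 ygi31 zgi57) (kgi xgi17 ygi32 zgi55) (kgi xgi11 ygi55 zgi39) (kgi xgi17 ygi32 zgi61) (kgi xgi17 ygi0 zgi31) (kgi xgi4 ygi49 zgi29) (kgi xgi6 ygi1 zgi47) (kgi xgi6 ygi45 zgi46) (kgi xgi4 ygi49 zgi15) (kgi xgi4 ygi49 zgi16) (kgi xgi6 ygi45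 zgi42) (kgi xgi5 ygi25 zgi55) (kgi xgi17 ygi33 zgi9) (kgi xgi5 ygi6 zgi27) (kgi xgi4 ygi49 zgi53) (kgi xgi17 ygi33 zgi13) (kgi xgi4 ygi50 zgi1) (kgi xgi17 ygi33 zgi15) (kgi xgi12 ygi56 zgi42) (kgi xgi4 ygi49 zgi20) (kgi xgi6 ygi45 zgi37) (kgi xgi6 ygi45 zgi34) (kgi xgi16 ygi59 zgi25) (kgi xgi6 ygi45 zgi16) (kgi xgi6 ygi2 zgi29) (kgi xgi6 ygi45 zgi13) (kgi xgi17 ygi33 zgi26) (kgi xgi17 ygi33 zgi29) (kgi xgi17 ygi33 zgi33) (kgi xgi4 ygi49 zgi25) (kgi xgi16 ygi48 zgi37) (kgi xgi17 ygi8 zgi19) (kgi xgi17 ygi33 zgi37) (kgi xgi11 ygi31 zgi42) (kgi xgi5 ygi53 zgi36) (kgi xgi6 ygi6 zgi18) (kgi xgi15 ygi25 zgi29) (kgi xgi4 ygi56 zgi18) (kgi xgi6 ygi45 zgi61) (kgi xgi6 ygi45 zgi59) (kgi xgi17 ygi33 zgi43) (kgi xgi10 ygi57 zgi42) (kgi xgi17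 ygi33 zgi46) (kgi xgi4 ygi49 zgi35) (kgi xgi6 ygi46 zgi6) (kgi xgi6 ygi46 zgi4) (kgi xgi17 ygi33 zgi49) (kgi xgi4 ygi49 zgi38) (kgi xgi15 ygi32 zgi56) (kgi xgi17 ygi33 zgi55) (kgi xgi17 ygi34 zgi0) (kgi xgi17 ygi33 zgi50) (kgi xgi17 ygi34 zgi5) (kgi xgi11 ygi51 zgi41) (kgi xgi17 ygi10 zgi39)) (@D3.rec (fun _ => Pt) (kgi xgi7 ygi34 zgi9) (kgi xgi17 ygi10 zgi44) (kgi xgi4 ygi49 zgi44) (kgi xgi5 ygi48 zgi19) (kgi xgi17 ygi34 zgi11) (kgi xgi4 ygi49 zgi45) (kgi xgi6 ygi46 zgi59) (kgi xgi4 ygi49 zgi46) (kgi xgi4 ygi58 zgi14) (kgi xgi5 ygi0 zgi0) (kgi xgi9 ygi30 zgi39) (kgi xgi11 ygi56 zgi3) (kgi xgi11 ygi10 zgi41) (kgi xgi17 ygi23 zgi60) (kgi xgi4 ygi49 zgi50) (kgi xgi6 ygi5 zgi36) (kgi xgi17 ygi34 zgi30) (kgi xgi11 ygi7 zgi56) (kgi xgi10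 ygi43 zgi16) (kgi xgi10 ygi49 zgi2) (kgi xgi6 ygi51 zgi12) (kgi xgi17 ygi34 zgi41) (kgi xgi12 ygi18 zgi30) (kgi xgi4 ygi49 zgi54) (kgi xgi6 ygi46 zgi44) (kgi xgi6 ygi46 zgi41) (kgi xgi4 ygi49 zgi55) (kgi xgi6 ygi47 zgi32) (kgi xgi5 ygi40 zgi25) (kgi xgi11 ygi4 zgi58) (kgi xgi8 ygi12 zgi25) (kgi xgi6 ygi42 zgi21) (kgi xgi4 ygi49 zgi60) (kgi xgi5 ygi50 zgi23) (kgi xgi4 ygi50 zgi0) (kgi xgi6 ygi20 zgi32) (kgi xgi17 ygi34 zgi50) (kgi xgi6 ygi3 zgi20) (kgi xgi14 ygi12 zgi2) (kgi xgi6 ygi23 zgi22) (kgi xgi8 ygi25 zgi44) (kgi xgi9 ygi20 zgi21) (kgi xgi12 ygi1 zgi50) (kgi xgi10 ygi51 zgi4) (kgi xgi16 ygi6 zgi40) (kgi xgi13 ygi0 zgi44) (kgi xgi4 ygi50 zgi12) (kgi xgi6 ygi24 zgi18) (kgi xgi9 ygi20 zgi18) (kgi xgi7 ygi31 zgi46) (kgi xgi12 ygi14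 zgi48) (kgi xgi9 ygi19 zgi11) (kgi xgi12 ygi20 zgi35) (kgi xgi12 ygi15 zgi12) (kgi xgi4 ygi50 zgi17) (kgi xgi17 ygi34 zgi51) (kgi xgi17 ygi34 zgi49) (kgi xgi10 ygi27 zgi20) (kgi xgi4 ygi50 zgi18) (kgi xgi4 ygi50 zgi19) (kgi xgi6 ygi48 zgi12) (kgi xgi6 ygi48 zgi10)) (@D3.rec (fun _ => Pt) (kgi xgi12 ygi35 zgi60) (kgi xgi12 ygi20 zgi13) (kgi xgi12 ygi58 zgi56) (kgi xgi4 ygi50 zgi23) (kgi xgi6 ygi9 zgi30) (kgi xgi6 ygi9 zgi28) (kgi xgi17 ygi35 zgi22) (kgi xgi6 ygi17 zgi56) (kgi xgi12 ygi20 zgi26) (kgi xgi17 ygi35 zgi25) (kgi xgi9 ygi18 zgi44) (kgi xgi9 ygi19 zgi6) (kgi xgi17 ygi35 zgi24) (kgi xgi17 ygi35 zgi35) (kgi xgi5 ygi21 zgi30) (kgi xgi11 ygi57 zgi1) (kgi xgi5 ygi21 zgi28) (kgi xgi10 ygi36 zgi18) (kgi xgi15 ygi26 zgi3) (kgi xgi16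 ygi55 zgi26) (kgi xgi17 ygi35 zgi48) (kgi xgi10 ygi10 zgi7) (kgi xgi15 ygi3 zgi10) (kgi xgi17 ygi35 zgi54) (kgi xgi5 ygi39 zgi1) (kgi xgi4 ygi50 zgi40) (kgi xgi5 ygi36 zgi4) (kgi xgi5 ygi36 zgi1) (kgi xgi17 ygi36 zgi0) (kgi xgi9 ygi53 zgi17) (kgi xgi15 ygi26 zgi4) (kgi xgi16 ygi2 zgi23) (kgi xgi15 ygi16 zgi9) (kgi xgi17 ygi35 zgi60) (kgi xgi4 ygi50 zgi43) (kgi xgi17 ygi36 zgi6) (kgi xgi17 ygi36 zgi12) (kgi xgi17 ygi36 zgi19) (kgi xgi17 ygi36 zgi7) (kgi xgi4 ygi50 zgi44) (kgi xgi8 ygi7 zgi10) (kgi xgi6 ygi6 zgi60) (kgi xgi8 ygi6 zgi35) (kgi xgi15 ygi42 zgi54) (kgi xgi4 ygi50 zgi49) (kgi xgi17 ygi36 zgi27) (kgi xgi7 ygi55 zgi28) (kgi xgi16 ygi3 zgi35) (kgi xgi17 ygi36 zgi35) (kgi xgi8 ygi40 zgi30) (kgi xgi8 ygi40 zgi34) (kgi xgi15 ygi45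 zgi5) (kgi xgi17 ygi36 zgi43) (kgi xgi9 ygi34 zgi22) (kgi xgi16 ygi5 zgi44) (kgi xgi4 ygi51 zgi38) (kgi xgi9 ygi34 zgi25) (kgi xgi9 ygi52 zgi53) (kgi xgi4 ygi50 zgi57) (kgi xgi4 ygi51 zgi45) (kgi xgi4 ygi50 zgi58) (kgi xgi17 ygi36 zgi53)) (@D3.rec (fun _ => Pt) (kgi xgi17 ygi36 zgi59) (kgi xgi17 ygi37 zgi4) (kgi xgi17 ygi36 zgi54) (kgi xgi17 ygi37 zgi8) (kgi xgi9 ygi38 zgi33) (kgi xgi17 ygi37 zgi11) (kgi xgi15 ygi56 zgi57) (kgi xgi4 ygi51 zgi2) (kgi xgi15 ygi51 zgi20) (kgi xgi15 ygi51 zgi19) (kgi xgi15 ygi18 zgi61) (kgi xgi17 ygi37 zgi18) (kgi xgi8 ygi36 zgi40) (kgi xgi4 ygi51 zgi6) (kgi xgi8 ygi17 zgi5) (kgi xgi17 ygi37 zgi22) (kgi xgi8 ygi40 zgi21) (kgi xgi17 ygi37 zgi28) (kgi xgi4 ygi51 zgi9) (kgi xgi8 ygi24 zgi51) (kgi xgi8 ygi24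 zgi49) (kgi xgi17 ygi37 zgi33) (kgi xgi9 ygi33 zgi56) (kgi xgi17 ygi37 zgi31) (kgi xgi17 ygi37 zgi40) (kgi xgi9 ygi33 zgi53) (kgi xgi8 ygi43 zgi20) (kgi xgi4 ygi51 zgi12) (kgi xgi17 ygi36 zgi36) (kgi xgi17 ygi36 zgi34) (kgi xgi17 ygi37 zgi57) (kgi xgi17 ygi37 zgi61) (kgi xgi4 ygi51 zgi13) (kgi xgi17 ygi38 zgi5) (kgi xgi4 ygi51 zgi14) (kgi xgi16 ygi8 zgi5) (kgi xgi17 ygi38 zgi12) (kgi xgi17 ygi36 zgi32) (kgi xgi9 ygi34 zgi12) (kgi xgi4 ygi51 zgi16) (kgi xgi17 ygi38 zgi17) (kgi xgi5 ygi1 zgi44) (kgi xgi17 ygi38 zgi19) (kgi xgi9 ygi52 zgi43) (kgi xgi8 ygi43 zgi9) (kgi xgi8 ygi43 zgi14) (kgi xgi17 ygi38 zgi23) (kgi xgi7 ygi58 zgi38) (kgi xgi7 ygi49 zgi47) (kgi xgi4 ygi51 zgi22) (kgi xgi8 ygi25 zgi40) (kgi xgi17 ygi38 zgi29) (kgi xgi8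 ygi40 zgi37) (kgi xgi4 ygi51 zgi25) (kgi xgi8 ygi40 zgi17) (kgi xgi4 ygi51 zgi26) (kgi xgi17 ygi36 zgi28) (kgi xgi17 ygi36 zgi26) (kgi xgi17 ygi38 zgi41) (kgi xgi17 ygi38 zgi45) (kgi xgi17 ygi38 zgi2) (kgi xgi4 ygi51 zgi28)) (@D3.rec (fun _ => Pt) (kgi xgi16 ygi9 zgi39) (kgi xgi17 ygi38 zgi51) (kgi xgi17 ygi36 zgi40) (kgi xgi4 ygi51 zgi31) (kgi xgi16 ygi1 zgi8) (kgi xgi16 ygi1 zgi7) (kgi xgi17 ygi38 zgi59) (kgi xgi8 ygi42 zgi24) (kgi xgi4 ygi51 zgi33) (kgi xgi16 ygi1 zgi19) (kgi xgi16 ygi1 zgi22) (kgi xgi17 ygi39 zgi9) (kgi xgi16 ygi16 zgi15) (kgi xgi4 ygi51 zgi34) (kgi xgi4 ygi51 zgi43) (kgi xgi17 ygi39 zgi19) (kgi xgi4 ygi51 zgi35) (kgi xgi15 ygi23 zgi15) (kgi xgi17 ygi39 zgi26) (kgi xgi17 ygi36 zgi48) (kgi xgi4 ygi51 zgi51) (kgi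 xgi11 ygi9 zgi34) (kgi xgi15 ygi18 zgi56) (kgi xgi9 ygi38 zgi41) (kgi xgi17 ygi39 zgi34) (kgi xgi15 ygi3 zgi17) (kgi xgi8 ygi33 zgi44) (kgi xgi16 ygi5 zgi42) (kgi xgi4 ygi51 zgi41) (kgi xgi17 ygi39 zgi35) (kgi xgi15 ygi48 zgi42) (kgi xgi9 ygi38 zgi61) (kgi xgi4 ygi51 zgi42) (kgi xgi17 ygi36 zgi44) (kgi xgi17 ygi36 zgi42) (kgi xgi17 ygi39 zgi49) (kgi xgi11 ygi59 zgi50) (kgi xgi17 ygi39 zgi53) (kgi xgi4 ygi51 zgi44) (kgi xgi17 ygi36 zgi52) (kgi xgi5 ygi9 zgi5) (kgi xgi17 ygi36 zgi51) (kgi xgi16 ygi9 zgi56) (kgi xgi12 ygi30 zgi44) (kgi xgi16 ygi15 zgi22) (kgi xgi5 ygi1 zgi12) (kgi xgi4 ygi51 zgi49) (kgi xgi16 ygi14 zgi28) (kgi xgi16 ygi14 zgi26) (kgi xgi17 ygi40 zgi6) (kgi xgi17 ygi40 zgi9) (kgi xgi4 ygi51 zgi50) (kgi xgi17 ygi39 zgi48)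 (kgi xgi17 ygi40 zgi13) (kgi xgi9 ygi38 zgi56) (kgi xgi4 ygi51 zgi52) (kgi xgi15 ygi37 zgi41) (kgi xgi15 ygi37 zgi39) (kgi xgi17 ygi40 zgi23) (kgi xgi17 ygi40 zgi26) (kgi xgi17 ygi40 zgi29) (kgi xgi8 ygi4 zgi26)) (@D3.rec (fun _ => Pt) (kgi xgi12 ygi30 zgi45) (kgi xgi4 ygi51 zgi55) (kgi xgi17 ygi40 zgi34) (kgi xgi15 ygi48 zgi55) (kgi xgi6 ygi42 zgi39) (kgi xgi4 ygi51 zgi59) (kgi xgi16 ygi1 zgi16) (kgi xgi17 ygi40 zgi39) (kgi xgi17 ygi40 zgi48) (kgi xgi4 ygi51 zgi58) (kgi xgi17 ygi40 zgi32) (kgi xgi17 ygi40 zgi58) (kgi xgi17 ygi41 zgi2) (kgi xgi17 ygi40 zgi47) (kgi xgi17 ygi41 zgi6) (kgi xgi17 ygi40 zgi3) (kgi xgi17 ygi41 zgi12) (kgi xgi17 ygi40 zgi19) (kgi xgi17 ygi41 zgi16) (kgi xgi17 ygi41 zgi19) (kgi xgi17 ygi41 zgi23) (kgi xgi4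 ygi52 zgi1) (kgi xgi17 ygi37 zgi9) (kgi xgi17 ygi37 zgi7) (kgi xgi17 ygi41 zgi34) (kgi xgi17 ygi41 zgi37) (kgi xgi8 ygi56 zgi22) (kgi xgi8 ygi40 zgi32) (kgi xgi8 ygi36 zgi41) (kgi xgi9 ygi37 zgi59) (kgi xgi8 ygi23 zgi59) (kgi xgi7 ygi56 zgi0) (kgi xgi14 ygi58 zgi20) (kgi xgi16 ygi50 zgi15) (kgi xgi12 ygi59 zgi57) (kgi xgi6 ygi22 zgi23) (kgi xgi4 ygi52 zgi7) (kgi xgi4 ygi52 zgi14) (kgi xgi4 ygi52 zgi12) (kgi xgi17 ygi41 zgi55) (kgi xgi9 ygi39 zgi15) (kgi xgi17 ygi41 zgi59) (kgi xgi17 ygi41 zgi61) (kgi xgi4 ygi52 zgi11) (kgi xgi6 ygi22 zgi25) (kgi xgi17 ygi42 zgi6) (kgi xgi16 ygi1 zgi6) (kgi xgi14 ygi57 zgi24) (kgi xgi11 ygi10 zgi44) (kgi xgi4 ygi52 zgi26) (kgi xgi9 ygi37 zgi45) (kgi xgi17 ygi42 zgi9) (kgi xgi16 ygi9 zgi6) (kgi xgi16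 ygi7 zgi17) (kgi xgi15 ygi30 zgi7) (kgi xgi10 ygi44 zgi31) (kgi xgi17 ygi42 zgi21) (kgi xgi8 ygi37 zgi21) (kgi xgi17 ygi13 zgi12) (kgi xgi4 ygi52 zgi20) (kgi xgi4 ygi52 zgi24) (kgi xgi17 ygi42 zgi26)) (@D3.rec (fun _ => Pt) (kgi xgi16 ygi7 zgi16) (kgi xgi17 ygi42 zgi30) (kgi xgi4 ygi52 zgi23) (kgi xgi17 ygi13 zgi13) (kgi xgi17 ygi16 zgi31) (kgi xgi9 ygi37 zgi52) (kgi xgi15 ygi24 zgi4) (kgi xgi15 ygi26 zgi6) (kgi xgi16 ygi1 zgi35) (kgi xgi15 ygi38 zgi37) (kgi xgi9 ygi37 zgi26) (kgi xgi15 ygi46 zgi20) (kgi xgi4 ygi52 zgi32) (kgi xgi4 ygi52 zgi36) (kgi xgi17 ygi42 zgi46) (kgi xgi17 ygi40 zgi8) (kgi xgi6 ygi42 zgi44) (kgi xgi17 ygi39 zgi46) (kgi xgi14 ygi56 zgi43) (kgi xgi8 ygi40 zgi29) (kgi xgi17 ygi42 zgi50) (kgi xgi4 ygi53 zgi9) (kgi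 xgi9 ygi37 zgi28) (kgi xgi16 ygi17 zgi29) (kgi xgi4 ygi52 zgi40) (kgi xgi17 ygi43 zgi1) (kgi xgi4 ygi52 zgi41) (kgi xgi9 ygi37 zgi10) (kgi xgi4 ygi52 zgi42) (kgi xgi9 ygi38 zgi60) (kgi xgi8 ygi36 zgi32) (kgi xgi16 ygi9 zgi33) (kgi xgi4 ygi52 zgi46) (kgi xgi8 ygi7 zgi58) (kgi xgi8 ygi7 zgi56) (kgi xgi17 ygi43 zgi12) (kgi xgi17 ygi43 zgi16) (kgi xgi8 ygi7 zgi32) (kgi xgi10 ygi35 zgi21) (kgi xgi8 ygi2 zgi47) (kgi xgi5 ygi20 zgi26) (kgi xgi15 ygi9 zgi39) (kgi xgi4 ygi52 zgi54) (kgi xgi15 ygi39 zgi35) (kgi xgi8 ygi18 zgi12) (kgi xgi15 ygi39 zgi34) (kgi xgi4 ygi53 zgi5) (kgi xgi15 ygi49 zgi1) (kgi xgi8 ygi41 zgi17) (kgi xgi15 ygi49 zgi4) (kgi xgi9 ygi36 zgi33) (kgi xgi16 ygi16 zgi36) (kgi xgi17 ygi43 zgi30) (kgi xgi7 ygi23 zgi21) (kgi xgi15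 ygi45 zgi16) (kgi xgi4 ygi52 zgi61) (kgi xgi17 ygi43 zgi31) (kgi xgi9 ygi37 zgi5) (kgi xgi4 ygi53 zgi8) (kgi xgi15 ygi52 zgi52) (kgi xgi8 ygi41 zgi39) (kgi xgi4 ygi53 zgi3)) (@D3.rec (fun _ => Pt) (kgi xgi8 ygi41 zgi32) (kgi xgi8 ygi41 zgi30) (kgi xgi17 ygi43 zgi47) (kgi xgi16 ygi15 zgi37) (kgi xgi17 ygi43 zgi51) (kgi xgi16 ygi21 zgi10) (kgi xgi17 ygi43 zgi56) (kgi xgi8 ygi41 zgi14) (kgi xgi4 ygi53 zgi6) (kgi xgi8 ygi41 zgi10) (kgi xgi8 ygi41 zgi8) (kgi xgi12 ygi30 zgi49) (kgi xgi17 ygi44 zgi6) (kgi xgi16 ygi20 zgi54) (kgi xgi15 ygi12 zgi2) (kgi xgi8 ygi41 zgi36) (kgi xgi17 ygi44 zgi12) (kgi xgi11 ygi9 zgi46) (kgi xgi14 ygi4 zgi46) (kgi xgi15 ygi39 zgi50) (kgi xgi17 ygi44 zgi15) (kgi xgi15 ygi7 zgi34) (kgi xgi4 ygi53 zgi12) (kgi xgi15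 ygi7 zgi36) (kgi xgi17 ygi44 zgi31) (kgi xgi17 ygi44 zgi28) (kgi xgi17 ygi43 zgi43) (kgi xgi16 ygi20 zgi31) (kgi xgi17 ygi44 zgi0) (kgi xgi16 ygi19 zgi46) (kgi xgi4 ygi53 zgi15) (kgi xgi15 ygi7 zgi2) (kgi xgi15 ygi7 zgi0) (kgi xgi4 ygi53 zgi16) (kgi xgi9 ygi34 zgi4) (kgi xgi17 ygi44 zgi52) (kgi xgi5 ygi29 zgi32) (kgi xgi8 ygi25 zgi4) (kgi xgi9 ygi35 zgi42) (kgi xgi8 ygi35 zgi54) (kgi xgi16 ygi8 zgi6) (kgi xgi11 ygi8 zgi57) (kgi xgi4 ygi53 zgi19) (kgi xgi4 ygi53 zgi24) (kgi xgi4 ygi53 zgi22) (kgi xgi17 ygi4 zgi47) (kgi xgi12 ygi20 zgi22) (kgi xgi17 ygi45 zgi1) (kgi xgi12 ygi20 zgi10) (kgi xgi15 ygi6 zgi39) (kgi xgi8 ygi39 zgi61) (kgi xgi15 ygi25 zgi26) (kgi xgi9 ygi35 zgi5) (kgi xgi17 ygi45 zgi3) (kgi xgi15 ygi49 zgi35) (kgi xgi15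 ygi47 zgi47) (kgi xgi8 ygi18 zgi34) (kgi xgi15 ygi23 zgi20) (kgi xgi11 ygi32 zgi53) (kgi xgi17 ygi45 zgi13) (kgi xgi15 ygi47 zgi45) (kgi xgi9 ygi35 zgi24)) (@D3.rec (fun _ => Pt) (kgi xgi8 ygi41 zgi28) (kgi xgi15 ygi30 zgi9) (kgi xgi15 ygi6 zgi45) (kgi xgi16 ygi0 zgi14) (kgi xgi9 ygi36 zgi0) (kgi xgi9 ygi24 zgi20) (kgi xgi4 ygi53 zgi38) (kgi xgi4 ygi53 zgi42) (kgi xgi16 ygi18 zgi3) (kgi xgi17 ygi45 zgi24) (kgi xgi13 ygi1 zgi12) (kgi xgi17 ygi38 zgi37) (kgi xgi8 ygi22 zgi60) (kgi xgi17 ygi45 zgi23) (kgi xgi15 ygi49 zgi8) (kgi xgi9 ygi37 zgi0) (kgi xgi8 ygi24 zgi44) (kgi xgi11 ygi4 zgi52) (kgi xgi5 ygi37 zgi53) (kgi xgi5 ygi49 zgi11) (kgi xgi4 ygi53 zgi56) (kgi xgi5 ygi13 zgi4) (kgi xgi5 ygi13 zgi5) (kgi xgi9 ygi3 zgi6) (kgi xgi17 ygi45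 zgi36) (kgi xgi17 ygi45 zgi38) (kgi xgi17 ygi45 zgi41) (kgi xgi6 ygi24 zgi34) (kgi xgi16 ygi21 zgi54) (kgi xgi5 ygi11 zgi61) (kgi xgi17 ygi45 zgi45) (kgi xgi16 ygi22 zgi8) (kgi xgi17 ygi45 zgi48) (kgi xgi5 ygi6 zgi11) (kgi xgi10 ygi9 zgi32) (kgi xgi17 ygi45 zgi52) (kgi xgi5 ygi19 zgi13) (kgi xgi17 ygi45 zgi58) (kgi xgi5 ygi2 zgi14) (kgi xgi17 ygi46 zgi0) (kgi xgi9 ygi55 zgi2) (kgi xgi17 ygi46 zgi6) (kgi xgi4 ygi54 zgi8) (kgi xgi5 ygi3 zgi23) (kgi xgi5 ygi3 zgi21) (kgi xgi17 ygi46 zgi14) (kgi xgi9 ygi54 zgi52) (kgi xgi17 ygi46 zgi11) (kgi xgi17 ygi46 zgi22) (kgi xgi9 ygi54 zgi59) (kgi xgi10 ygi12 zgi35) (kgi xgi4 ygi54 zgi11) (kgi xgi17 ygi46 zgi27) (kgi xgi17 ygi46 zgi31) (kgi xgi17 ygi46 zgi23) (kgi xgi17 ygi46 zgi28) (kgi xgi4 ygi54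 zgi12) (kgi xgi9 ygi40 zgi33) (kgi xgi5 ygi19 zgi16) (kgi xgi16 ygi35 zgi24) (kgi xgi9 ygi40 zgi29) (kgi xgi17 ygi46 zgi47)) (@D3.rec (fun _ => Pt) (kgi xgi4 ygi54 zgi14) (kgi xgi5 ygi6 zgi6) (kgi xgi9 ygi52 zgi57) (kgi xgi17 ygi46 zgi55) (kgi xgi17 ygi46 zgi58) (kgi xgi5 ygi19 zgi49) (kgi xgi17 ygi46 zgi60) (kgi xgi17 ygi47 zgi0) (kgi xgi5 ygi20 zgi11) (kgi xgi9 ygi56 zgi39) (kgi xgi4 ygi54 zgi21) (kgi xgi5 ygi10 zgi12) (kgi xgi17 ygi47 zgi10) (kgi xgi9 ygi57 zgi29) (kgi xgi17 ygi47 zgi16) (kgi xgi4 ygi54 zgi23) (kgi xgi5 ygi10 zgi58) (kgi xgi5 ygi10 zgi56) (kgi xgi9 ygi39 zgi54) (kgi xgi10 ygi10 zgi55) (kgi xgi9 ygi57 zgi40) (kgi xgi17 ygi47 zgi30) (kgi xgi10 ygi10 zgi53) (kgi xgi17 ygi47 zgi21) (kgi xgi4 ygi54 zgi26) (kgi xgi17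 ygi47 zgi37) (kgi xgi17 ygi47 zgi43) (kgi xgi17 ygi47 zgi44) (kgi xgi17 ygi47 zgi38) (kgi xgi4 ygi54 zgi27) (kgi xgi9 ygi39 zgi60) (kgi xgi5 ygi12 zgi4) (kgi xgi17 ygi47 zgi55) (kgi xgi9 ygi39 zgi56) (kgi xgi17 ygi47 zgi59) (kgi xgi5 ygi9 zgi28) (kgi xgi17 ygi48 zgi3) (kgi xgi10 ygi23 zgi23) (kgi xgi10 ygi35 zgi38) (kgi xgi17 ygi48 zgi9) (kgi xgi10 ygi35 zgi16) (kgi xgi10 ygi37 zgi44) (kgi xgi17 ygi33 zgi42) (kgi xgi9 ygi41 zgi20) (kgi xgi16 ygi45 zgi53) (kgi xgi4 ygi55 zgi24) (kgi xgi4 ygi55 zgi21) (kgi xgi9 ygi41 zgi23) (kgi xgi15 ygi20 zgi27) (kgi xgi4 ygi54 zgi37) (kgi xgi4 ygi55 zgi30) (kgi xgi17 ygi48 zgi27) (kgi xgi8 ygi57 zgi44) (kgi xgi15 ygi3 zgi26) (kgi xgi4 ygi54 zgi39) (kgi xgi17 ygi48 zgi32) (kgi xgi17 ygi48 zgi36) (kgi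 xgi17 ygi48 zgi41) (kgi xgi17 ygi48 zgi33) (kgi xgi4 ygi55 zgi49) (kgi xgi10 ygi27 zgi9) (kgi xgi15 ygi25 zgi56)) (@D3.rec (fun _ => Pt) (kgi xgi17 ygi48 zgi46) (kgi xgi17 ygi48 zgi49) (kgi xgi10 ygi36 zgi59) (kgi xgi4 ygi54 zgi45) (kgi xgi16 ygi13 zgi38) (kgi xgi15 ygi35 zgi2) (kgi xgi17 ygi35 zgi52) (kgi xgi17 ygi48 zgi54) (kgi xgi17 ygi48 zgi57) (kgi xgi5 ygi23 zgi13) (kgi xgi4 ygi54 zgi51) (kgi xgi15 ygi22 zgi44) (kgi xgi8 ygi27 zgi43) (kgi xgi17 ygi49 zgi2) (kgi xgi9 ygi40 zgi52) (kgi xgi17 ygi49 zgi8) (kgi xgi4 ygi54 zgi55) (kgi xgi5 ygi36 zgi17) (kgi xgi5 ygi36 zgi15) (kgi xgi17 ygi49 zgi13) (kgi xgi9 ygi40 zgi47) (kgi xgi17 ygi49 zgi11) (kgi xgi17 ygi49 zgi21) (kgi xgi9 ygi40 zgi43) (kgi xgi15 ygi25 zgi5) (kgi xgi4 ygi54 zgi58)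 (kgi xgi17 ygi48 zgi10) (kgi xgi17 ygi48 zgi8) (kgi xgi17 ygi49 zgi33) (kgi xgi17 ygi49 zgi37) (kgi xgi4 ygi54 zgi59) (kgi xgi17 ygi49 zgi43) (kgi xgi4 ygi54 zgi60) (kgi xgi13 ygi10 zgi45) (kgi xgi17 ygi49 zgi52) (kgi xgi10 ygi35 zgi37) (kgi xgi5 ygi22 zgi37) (kgi xgi4 ygi55 zgi0) (kgi xgi17 ygi49 zgi58) (kgi xgi5 ygi36 zgi61) (kgi xgi17 ygi50 zgi1) (kgi xgi15 ygi27 zgi60) (kgi xgi5 ygi29 zgi34) (kgi xgi15 ygi24 zgi61) (kgi xgi17 ygi50 zgi5) (kgi xgi5 ygi27 zgi27) (kgi xgi8 ygi31 zgi29) (kgi xgi4 ygi55 zgi7) (kgi xgi5 ygi39 zgi12) (kgi xgi17 ygi50 zgi10) (kgi xgi5 ygi23 zgi52) (kgi xgi15 ygi23 zgi9) (kgi xgi10 ygi38 zgi8) (kgi xgi4 ygi55 zgi11) (kgi xgi17 ygi48 zgi4) (kgi xgi17 ygi48 zgi2) (kgi xgi17 ygi50 zgi21) (kgi xgi11 ygi45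 zgi1) (kgi xgi17 ygi50 zgi25) (kgi xgi4 ygi55 zgi13) (kgi xgi16 ygi51 zgi12) (kgi xgi15 ygi5 zgi12)) (@D3.rec (fun _ => Pt) (kgi xgi10 ygi37 zgi41) (kgi xgi16 ygi51 zgi14) (kgi xgi4 ygi55 zgi16) (kgi xgi16 ygi40 zgi45) (kgi xgi17 ygi46 zgi54) (kgi xgi16 ygi40 zgi44) (kgi xgi17 ygi50 zgi39) (kgi xgi15 ygi25 zgi58) (kgi xgi4 ygi55 zgi18) (kgi xgi16 ygi40 zgi53) (kgi xgi16 ygi40 zgi55) (kgi xgi17 ygi50 zgi48) (kgi xgi4 ygi55 zgi19) (kgi xgi4 ygi55 zgi28) (kgi xgi17 ygi50 zgi55) (kgi xgi4 ygi55 zgi20) (kgi xgi17 ygi48 zgi19) (kgi xgi15 ygi19 zgi39) (kgi xgi4 ygi55 zgi36) (kgi xgi17 ygi46 zgi12) (kgi xgi10 ygi38 zgi52) (kgi xgi17 ygi51 zgi0) (kgi xgi9 ygi57 zgi41) (kgi xgi17 ygi51 zgi4) (kgi xgi17 ygi51 zgi8) (kgi xgi8 ygi56 zgi27) (kgi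 xgi16 ygi46 zgi28) (kgi xgi4 ygi55 zgi26) (kgi xgi8 ygi27 zgi1) (kgi xgi8 ygi26 zgi60) (kgi xgi4 ygi55 zgi27) (kgi xgi17 ygi48 zgi15) (kgi xgi17 ygi48 zgi14) (kgi xgi9 ygi43 zgi39) (kgi xgi17 ygi51 zgi21) (kgi xgi17 ygi51 zgi23) (kgi xgi4 ygi55 zgi29) (kgi xgi17 ygi48 zgi24) (kgi xgi17 ygi51 zgi29) (kgi xgi17 ygi48 zgi22) (kgi xgi4 ygi55 zgi39) (kgi xgi17 ygi44 zgi60) (kgi xgi17 ygi48 zgi31) (kgi xgi8 ygi13 zgi27) (kgi xgi17 ygi51 zgi37) (kgi xgi8 ygi13 zgi25) (kgi xgi4 ygi55 zgi34) (kgi xgi17 ygi48 zgi28) (kgi xgi17 ygi48 zgi26) (kgi xgi17 ygi51 zgi50) (kgi xgi17 ygi51 zgi54) (kgi xgi17 ygi51 zgi57) (kgi xgi4 ygi55 zgi35) (kgi xgi9 ygi56 zgi16) (kgi xgi15 ygi38 zgi45) (kgi xgi10 ygi38 zgi49) (kgi xgi4 ygi55 zgi37) (kgi xgi10 ygi38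 zgi45) (kgi xgi10 ygi38 zgi43) (kgi xgi17 ygi52 zgi6) (kgi xgi12 ygi25 zgi23) (kgi xgi9 ygi55 zgi48)) (@D3.rec (fun _ => Pt) (kgi xgi17 ygi52 zgi8) (kgi xgi17 ygi48 zgi25) (kgi xgi4 ygi55 zgi40) (kgi xgi17 ygi52 zgi11) (kgi xgi10 ygi55 zgi32) (kgi xgi16 ygi40 zgi50) (kgi xgi17 ygi52 zgi15) (kgi xgi9 ygi43 zgi38) (kgi xgi4 ygi55 zgi43) (kgi xgi9 ygi58 zgi51) (kgi xgi9 ygi43 zgi37) (kgi xgi17 ygi51 zgi46) (kgi xgi17 ygi48 zgi40) (kgi xgi16 ygi20 zgi16) (kgi xgi10 ygi26 zgi52) (kgi xgi17 ygi52 zgi23) (kgi xgi11 ygi26 zgi8) (kgi xgi10 ygi27 zgi7) (kgi xgi10 ygi26 zgi56) (kgi xgi5 ygi16 zgi44) (kgi xgi4 ygi55 zgi50) (kgi xgi15 ygi24 zgi28) (kgi xgi8 ygi23 zgi60) (kgi xgi10 ygi35 zgi17) (kgi xgi9 ygi0 zgi6) (kgi xgi15 ygi25 zgi36) (kgi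 xgi8 ygi26 zgi31) (kgi xgi15 ygi25 zgi10) (kgi xgi17 ygi52 zgi38) (kgi xgi8 ygi26 zgi23) (kgi xgi8 ygi2 zgi55) (kgi xgi10 ygi8 zgi35) (kgi xgi8 ygi8 zgi23) (kgi xgi8 ygi28 zgi37) (kgi xgi15 ygi19 zgi50) (kgi xgi8 ygi54 zgi9) (kgi xgi10 ygi11 zgi56) (kgi xgi9 ygi43 zgi7) (kgi xgi9 ygi43 zgi10) (kgi xgi17 ygi52 zgi56) (kgi xgi10 ygi49 zgi1) (kgi xgi9 ygi0 zgi42) (kgi xgi15 ygi20 zgi30) (kgi xgi4 ygi56 zgi1) (kgi xgi4 ygi56 zgi7) (kgi xgi4 ygi56 zgi5) (kgi xgi17 ygi52 zgi59) (kgi xgi16 ygi10 zgi20) (kgi xgi17 ygi53 zgi2) (kgi xgi4 ygi56 zgi4) (kgi xgi14 ygi50 zgi30) (kgi xgi13 ygi57 zgi48) (kgi xgi15 ygi20 zgi24) (kgi xgi9 ygi51 zgi28) (kgi xgi9 ygi51 zgi34) (kgi xgi9 ygi36 zgi54) (kgi xgi16 ygi41 zgi3) (kgi xgi10 ygi39 zgi48) (kgi xgi15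 ygi2 zgi48) (kgi xgi11 ygi57 zgi32) (kgi xgi8 ygi57 zgi61) (kgi xgi6 ygi45 zgi58)) (@D3.rec (fun _ => Pt) (kgi xgi8 ygi57 zgi36) (kgi xgi9 ygi51 zgi14) (kgi xgi10 ygi41 zgi23) (kgi xgi17 ygi53 zgi19) (kgi xgi17 ygi53 zgi23) (kgi xgi4 ygi56 zgi13) (kgi xgi17 ygi53 zgi27) (kgi xgi12 ygi59 zgi30) (kgi xgi4 ygi56 zgi14) (kgi xgi10 ygi55 zgi27) (kgi xgi5 ygi28 zgi60) (kgi xgi10 ygi55 zgi35) (kgi xgi6 ygi4 zgi13) (kgi xgi4 ygi56 zgi17) (kgi xgi10 ygi54 zgi47) (kgi xgi8 ygi58 zgi15) (kgi xgi10 ygi55 zgi3) (kgi xgi17 ygi53 zgi38) (kgi xgi8 ygi9 zgi19) (kgi xgi17 ygi53 zgi40) (kgi xgi10 ygi57 zgi24) (kgi xgi4 ygi56 zgi23) (kgi xgi9 ygi51 zgi5) (kgi xgi10 ygi49 zgi45) (kgi xgi11 ygi22 zgi12) (kgi xgi17 ygi53 zgi45) (kgi xgi4 ygi56 zgi27) (kgi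 xgi8 ygi14 zgi44) (kgi xgi10 ygi14 zgi34) (kgi xgi8 ygi9 zgi55) (kgi xgi17 ygi35 zgi59) (kgi xgi8 ygi39 zgi24) (kgi xgi11 ygi4 zgi20) (kgi xgi4 ygi56 zgi33) (kgi xgi8 ygi5 zgi14) (kgi xgi12 ygi7 zgi50) (kgi xgi7 ygi8 zgi21) (kgi xgi9 ygi8 zgi33) (kgi xgi8 ygi47 zgi29) (kgi xgi8 ygi5 zgi7) (kgi xgi4 ygi56 zgi39) (kgi xgi4 ygi56 zgi41) (kgi xgi15 ygi7 zgi10) (kgi xgi8 ygi4 zgi61) (kgi xgi15 ygi3 zgi53) (kgi xgi9 ygi8 zgi19) (kgi xgi11 ygi27 zgi40) (kgi xgi12 ygi5 zgi45) (kgi xgi17 ygi53 zgi57) (kgi xgi4 ygi56 zgi46) (kgi xgi8 ygi42 zgi41) (kgi xgi8 ygi42 zgi39) (kgi xgi17 ygi54 zgi4) (kgi xgi17 ygi37 zgi53) (kgi xgi17 ygi54 zgi10) (kgi xgi4 ygi56 zgi48) (kgi xgi17 ygi54 zgi16) (kgi xgi8 ygi41 zgi4) (kgi xgi8 ygi42 zgi56) (kgi xgi11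 ygi15 zgi13) (kgi xgi17 ygi54 zgi25) (kgi xgi17 ygi54 zgi28)) (@D3.rec (fun _ => Pt) (kgi xgi9 ygi53 zgi49) (kgi xgi4 ygi56 zgi56) (kgi xgi8 ygi43 zgi33) (kgi xgi8 ygi43 zgi31) (kgi xgi11 ygi23 zgi11) (kgi xgi16 ygi20 zgi2) (kgi xgi17 ygi54 zgi40) (kgi xgi4 ygi56 zgi60) (kgi xgi8 ygi43 zgi59) (kgi xgi8 ygi43 zgi57) (kgi xgi8 ygi1 zgi51) (kgi xgi12 ygi31 zgi52) (kgi xgi5 ygi0 zgi5) (kgi xgi11 ygi16 zgi48) (kgi xgi12 ygi8 zgi56) (kgi xgi10 ygi39 zgi31) (kgi xgi10 ygi39 zgi30) (kgi xgi17 ygi54 zgi56) (kgi xgi11 ygi7 zgi3) (kgi xgi5 ygi44 zgi30) (kgi xgi5 ygi42 zgi8) (kgi xgi16 ygi51 zgi29) (kgi xgi5 ygi43 zgi23) (kgi xgi17 ygi55 zgi0) (kgi xgi4 ygi57 zgi11) (kgi xgi4 ygi57 zgi22) (kgi xgi15 ygi43 zgi40) (kgi xgi13 ygi53 zgi6) (kgi xgi13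 ygi55 zgi38) (kgi xgi6 ygi8 zgi53) (kgi xgi5 ygi41 zgi9) (kgi xgi4 ygi57 zgi33) (kgi xgi6 ygi15 zgi24) (kgi xgi12 ygi22 zgi4) (kgi xgi5 ygi54 zgi52) (kgi xgi4 ygi57 zgi18) (kgi xgi5 ygi41 zgi47) (kgi xgi17 ygi55 zgi13) (kgi xgi5 ygi43 zgi26) (kgi xgi17 ygi55 zgi16) (kgi xgi17 ygi55 zgi19) (kgi xgi13 ygi53 zgi9) (kgi xgi13 ygi55 zgi50) (kgi xgi16 ygi51 zgi50) (kgi xgi7 ygi29 zgi17) (kgi xgi16 ygi51 zgi51) (kgi xgi12 ygi31 zgi47) (kgi xgi16 ygi2 zgi35) (kgi xgi13 ygi59 zgi7) (kgi xgi4 ygi57 zgi29) (kgi xgi4 ygi57 zgi41) (kgi xgi4 ygi57 zgi39) (kgi xgi17 ygi55 zgi34) (kgi xgi13 ygi54 zgi11) (kgi xgi11 ygi59 zgi7) (kgi xgi4 ygi57 zgi32) (kgi xgi5 ygi41 zgi23) (kgi xgi17 ygi55 zgi39) (kgi xgi11 ygi11 zgi55) (kgi xgi4 ygi57 zgi35) (kgi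 xgi13 ygi58 zgi28) (kgi xgi13 ygi54 zgi31)) (@D3.rec (fun _ => Pt) (kgi xgi16 ygi5 zgi51) (kgi xgi17 ygi55 zgi48) (kgi xgi4 ygi57 zgi36) (kgi xgi5 ygi44 zgi42) (kgi xgi17 ygi55 zgi53) (kgi xgi6 ygi4 zgi18) (kgi xgi13 ygi59 zgi5) (kgi xgi13 ygi57 zgi36) (kgi xgi11 ygi19 zgi57) (kgi xgi7 ygi29 zgi22) (kgi xgi17 ygi54 zgi53) (kgi xgi13 ygi53 zgi7) (kgi xgi5 ygi52 zgi49) (kgi xgi11 ygi48 zgi25) (kgi xgi17 ygi56 zgi1) (kgi xgi17 ygi56 zgi4) (kgi xgi17 ygi55 zgi37) (kgi xgi17 ygi54 zgi47) (kgi xgi4 ygi57 zgi42) (kgi xgi17 ygi54 zgi49) (kgi xgi14 ygi50 zgi7) (kgi xgi5 ygi52 zgi38) (kgi xgi11 ygi42 zgi61) (kgi xgi4 ygi57 zgi45) (kgi xgi4 ygi58 zgi15) (kgi xgi11 ygi32 zgi26) (kgi xgi17 ygi56 zgi25) (kgi xgi17 ygi56 zgi27) (kgi xgi10 ygi52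 zgi37) (kgi xgi17 ygi56 zgi26) (kgi xgi11 ygi26 zgi28) (kgi xgi4 ygi57 zgi49) (kgi xgi17 ygi56 zgi34) (kgi xgi17 ygi56 zgi40) (kgi xgi17 ygi56 zgi32) (kgi xgi6 ygi40 zgi16) (kgi xgi4 ygi57 zgi52) (kgi xgi16 ygi49 zgi44) (kgi xgi5 ygi52 zgi30) (kgi xgi11 ygi31 zgi13) (kgi xgi12 ygi4 zgi38) (kgi xgi15 ygi4 zgi33) (kgi xgi17 ygi56 zgi47) (kgi xgi17 ygi56 zgi49) (kgi xgi4 ygi57 zgi56) (kgi xgi5 ygi40 zgi6) (kgi xgi11 ygi27 zgi57) (kgi xgi16 ygi49 zgi50) (kgi xgi15 ygi30 zgi20) (kgi xgi11 ygi12 zgi11) (kgi xgi5 ygi40 zgi15) (kgi xgi4 ygi57 zgi60) (kgi xgi6 ygi46 zgi31) (kgi xgi11 ygi22 zgi54) (kgi xgi17 ygi56 zgi54) (kgi xgi8 ygi2 zgi19) (kgi xgi17 ygi56 zgi59) (kgi xgi17 ygi57 zgi0) (kgi xgi15 ygi6 zgi11) (kgi xgi17 ygi56 zgi58) (kgi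 xgi15 ygi6 zgi1) (kgi xgi4 ygi58 zgi2)) (@D3.rec (fun _ => Pt) (kgi xgi8 ygi47 zgi25) (kgi xgi17 ygi57 zgi12) (kgi xgi8 ygi47 zgi22) (kgi xgi4 ygi58 zgi4) (kgi xgi17 ygi57 zgi17) (kgi xgi15 ygi5 zgi44) (kgi xgi17 ygi57 zgi22) (kgi xgi15 ygi10 zgi16) (kgi xgi17 ygi57 zgi26) (kgi xgi8 ygi2 zgi20) (kgi xgi17 ygi57 zgi31) (kgi xgi13 ygi49 zgi11) (kgi xgi4 ygi58 zgi9) (kgi xgi8 ygi47 zgi41) (kgi xgi17 ygi57 zgi37) (kgi xgi17 ygi57 zgi40) (kgi xgi8 ygi43 zgi7) (kgi xgi17 ygi57 zgi41) (kgi xgi12 ygi16 zgi8) (kgi xgi17 ygi34 zgi20) (kgi xgi17 ygi34 zgi22) (kgi xgi11 ygi32 zgi29) (kgi xgi10 ygi19 zgi3) (kgi xgi6 ygi7 zgi60) (kgi xgi17 ygi4 zgi24) (kgi xgi17 ygi57 zgi45) (kgi xgi4 ygi58 zgi23) (kgi xgi9 ygi48 zgi13) (kgi xgi13 ygi9 zgi1) (kgi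 xgi16 ygi29 zgi26) (kgi xgi10 ygi18 zgi16) (kgi xgi5 ygi7 zgi12) (kgi xgi15 ygi26 zgi18) (kgi xgi4 ygi58 zgi26) (kgi xgi8 ygi12 zgi39) (kgi xgi9 ygi17 zgi47) (kgi xgi16 ygi29 zgi27) (kgi xgi10 ygi43 zgi46) (kgi xgi5 ygi7 zgi31) (kgi xgi17 ygi57 zgi55) (kgi xgi5 ygi52 zgi27) (kgi xgi12 ygi28 zgi48) (kgi xgi17 ygi57 zgi58) (kgi xgi5 ygi51 zgi38) (kgi xgi5 ygi51 zgi36) (kgi xgi12 ygi39 zgi32) (kgi xgi9 ygi25 zgi57) (kgi xgi17 ygi57 zgi61) (kgi xgi9 ygi25 zgi49) (kgi xgi11 ygi24 zgi28) (kgi xgi8 ygi46 zgi44) (kgi xgi9 ygi7 zgi25) (kgi xgi4 ygi58 zgi40) (kgi xgi4 ygi59 zgi1) (kgi xgi17 ygi58 zgi10) (kgi xgi4 ygi58 zgi41) (kgi xgi10 ygi18 zgi61) (kgi xgi11 ygi42 zgi12) (kgi xgi17 ygi56 zgi6) (kgi xgi4 ygi58 zgi44) (kgi xgi12 ygi31 zgi39)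 (kgi xgi5 ygi8 zgi21)) (@D3.rec (fun _ => Pt) (kgi xgi5 ygi52 zgi53) (kgi xgi6 ygi7 zgi56) (kgi xgi17 ygi58 zgi16) (kgi xgi5 ygi58 zgi3) (kgi xgi17 ygi58 zgi19) (kgi xgi17 ygi58 zgi21) (kgi xgi10 ygi19 zgi8) (kgi xgi11 ygi28 zgi20) (kgi xgi9 ygi8 zgi45) (kgi xgi6 ygi14 zgi33) (kgi xgi17 ygi3 zgi37) (kgi xgi12 ygi9 zgi59) (kgi xgi11 ygi24 zgi27) (kgi xgi9 ygi47 zgi26) (kgi xgi9 ygi48 zgi15) (kgi xgi4 ygi58 zgi58) (kgi xgi9 ygi48 zgi14) (kgi xgi14 ygi20 zgi43) (kgi xgi5 ygi52 zgi23) (kgi xgi4 ygi58 zgi59) (kgi xgi12 ygi10 zgi2) (kgi xgi4 ygi58 zgi60) (kgi xgi6 ygi51 zgi56) (kgi xgi17 ygi58 zgi37) (kgi xgi5 ygi0 zgi4) (kgi xgi5 ygi59 zgi13) (kgi xgi4 ygi59 zgi0) (kgi xgi9 ygi10 zgi11) (kgi xgi12 ygi24 zgi9) (kgi xgi9 ygi9 zgi7) (kgi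 xgi4 ygi59 zgi2) (kgi xgi12 ygi29 zgi42) (kgi xgi17 ygi58 zgi47) (kgi xgi11 ygi42 zgi10) (kgi xgi12 ygi29 zgi29) (kgi xgi5 ygi32 zgi45) (kgi xgi11 ygi24 zgi26) (kgi xgi12 ygi29 zgi43) (kgi xgi17 ygi58 zgi53) (kgi xgi16 ygi59 zgi3) (kgi xgi11 ygi20 zgi36) (kgi xgi11 ygi55 zgi42) (kgi xgi11 ygi20 zgi32) (kgi xgi4 ygi59 zgi8) (kgi xgi16 ygi59 zgi5) (kgi xgi17 ygi59 zgi0) (kgi xgi17 ygi59 zgi3) (kgi xgi11 ygi42 zgi19) (kgi xgi17 ygi59 zgi8) (kgi xgi9 ygi14 zgi0) (kgi xgi9 ygi18 zgi12) (kgi xgi17 ygi7 zgi30) (kgi xgi10 ygi57 zgi3) (kgi xgi17 ygi8 zgi0) (kgi xgi14 ygi12 zgi22) (kgi xgi4 ygi59 zgi16) (kgi xgi6 ygi36 zgi20) (kgi xgi6 ygi44 zgi33) (kgi xgi4 ygi59 zgi52) (kgi xgi17 ygi59 zgi21) (kgi xgi4 ygi59 zgi49) (kgi xgi5 ygi50 zgi10))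 (@D3.rec (fun _ => Pt) (kgi xgi11 ygi40 zgi30) (kgi xgi12 ygi43 zgi1) (kgi xgi11 ygi31 zgi58) (kgi xgi4 ygi59 zgi21) (kgi xgi17 ygi5 zgi24) (kgi xgi17 ygi59 zgi31) (kgi xgi12 ygi53 zgi40) (kgi xgi14 ygi11 zgi31) (kgi xgi9 ygi59 zgi53) (kgi xgi12 ygi12 zgi26) (kgi xgi4 ygi59 zgi59) (kgi xgi8 ygi45 zgi48) (kgi xgi17 ygi51 zgi27) (kgi xgi4 ygi59 zgi25) (kgi xgi4 ygi59 zgi34) (kgi xgi17 ygi12 zgi32) (kgi xgi4 ygi59 zgi26) (kgi xgi9 ygi12 zgi0) (kgi xgi17 ygi59 zgi45) (kgi xgi12 ygi42 zgi57) (kgi xgi4 ygi59 zgi41) (kgi xgi12 ygi25 zgi37) (kgi xgi4 ygi59 zgi28) (kgi xgi17 ygi59 zgi53) (kgi xgi5 ygi48 zgi60) (kgi xgi14 ygi23 zgi43) (kgi xgi13 ygi1 zgi38) (kgi xgi4 ygi59 zgi32) (kgi xgi5 ygi50 zgi20) (kgi xgi4 ygi59 zgi33) (kgi xgi12 ygi24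 zgi7) (kgi xgi17 ygi0 zgi12) (kgi xgi11 ygi49 zgi24) (kgi xgi18 ygi0 zgi1) (kgi xgi4 ygi59 zgi35) (kgi xgi12 ygi17 zgi3) (kgi xgi18 ygi0 zgi7) (kgi xgi17 ygi31 zgi6) (kgi xgi11 ygi45 zgi17) (kgi xgi12 ygi17 zgi4) (kgi xgi11 ygi44 zgi56) (kgi xgi4 ygi59 zgi39) (kgi xgi14 ygi32 zgi8) (kgi xgi14 ygi12 zgi25) (kgi xgi9 ygi5 zgi46) (kgi xgi18 ygi0 zgi18) (kgi xgi18 ygi0 zgi22) (kgi xgi18 ygi0 zgi26) (kgi xgi5 ygi48 zgi49) (kgi xgi4 ygi59 zgi42) (kgi xgi11 ygi43 zgi46) (kgi xgi9 ygi25 zgi26) (kgi xgi6 ygi21 zgi28) (kgi xgi12 ygi47 zgi25) (kgi xgi12 ygi1 zgi36) (kgi xgi11 ygi45 zgi14) (kgi xgi6 ygi16 zgi44) (kgi xgi18 ygi0 zgi32) (kgi xgi13 ygi27 zgi38) (kgi xgi13 ygi20 zgi32) (kgi xgi4 ygi59 zgi47) (kgi xgi17 ygi23 zgi48)) (@D3.rec (fun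 _ => Pt) (kgi xgi18 ygi0 zgi42) (kgi xgi17 ygi23 zgi45) (kgi xgi18 ygi0 zgi47) (kgi xgi18 ygi0 zgi14) (kgi xgi18 ygi0 zgi53) (kgi xgi6 ygi36 zgi60) (kgi xgi18 ygi0 zgi56) (kgi xgi18 ygi0 zgi52) (kgi xgi4 ygi59 zgi51) (kgi xgi17 ygi59 zgi23) (kgi xgi18 ygi1 zgi6) (kgi xgi17 ygi59 zgi20) (kgi xgi4 ygi59 zgi53) (kgi xgi17 ygi34 zgi18) (kgi xgi18 ygi1 zgi14) (kgi xgi4 ygi59 zgi54) (kgi xgi18 ygi1 zgi17) (kgi xgi18 ygi1 zgi19) (kgi xgi4 ygi59 zgi55) (kgi xgi11 ygi49 zgi2) (kgi xgi17 ygi8 zgi41) (kgi xgi12 ygi26 zgi58) (kgi xgi4 ygi59 zgi56) (kgi xgi4 ygi59 zgi60) (kgi xgi12 ygi24 zgi5) (kgi xgi5 ygi50 zgi36) (kgi xgi11 ygi48 zgi6) (kgi xgi6 ygi2 zgi50) (kgi xgi18 ygi1 zgi32) (kgi xgi18 ygi1 zgi25) (kgi xgi11 ygi6 zgi38) (kgi xgi6 ygi50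 zgi23) (kgi xgi12 ygi53 zgi19) (kgi xgi6 ygi46 zgi38) (kgi xgi6 ygi46 zgi45) (kgi xgi5 ygi26 zgi33) (kgi xgi17 ygi34 zgi35) (kgi xgi12 ygi17 zgi6) (kgi xgi5 ygi0 zgi2) (kgi xgi17 ygi34 zgi19) (kgi xgi11 ygi56 zgi9) (kgi xgi11 ygi39 zgi36) (kgi xgi5 ygi57 zgi27) (kgi xgi11 ygi37 zgi61) (kgi xgi5 ygi53 zgi12) (kgi xgi18 ygi1 zgi51) (kgi xgi5 ygi59 zgi11) (kgi xgi18 ygi1 zgi57) (kgi xgi5 ygi0 zgi7) (kgi xgi17 ygi54 zgi50) (kgi xgi18 ygi2 zgi3) (kgi xgi11 ygi41 zgi36) (kgi xgi9 ygi59 zgi13) (kgi xgi9 ygi15 zgi43) (kgi xgi5 ygi51 zgi40) (kgi xgi5 ygi0 zgi11) (kgi xgi15 ygi5 zgi41) (kgi xgi5 ygi3 zgi34) (kgi xgi5 ygi50 zgi26) (kgi xgi14 ygi49 zgi60) (kgi xgi11 ygi43 zgi31) (kgi xgi15 ygi5 zgi38)) (@D3.rec (fun _ => Pt) (kgi xgi5 ygi0 zgi19)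 (kgi xgi8 ygi49 zgi56) (kgi xgi8 ygi49 zgi57) (kgi xgi5 ygi40 zgi28) (kgi xgi12 ygi31 zgi4) (kgi xgi9 ygi44 zgi21) (kgi xgi16 ygi13 zgi28) (kgi xgi9 ygi17 zgi26) (kgi xgi5 ygi0 zgi24) (kgi xgi11 ygi51 zgi58) (kgi xgi11 ygi51 zgi56) (kgi xgi18 ygi2 zgi19) (kgi xgi7 ygi58 zgi57) (kgi xgi5 ygi0 zgi26) (kgi xgi9 ygi44 zgi12) (kgi xgi5 ygi0 zgi27) (kgi xgi17 ygi56 zgi55) (kgi xgi17 ygi56 zgi53) (kgi xgi18 ygi2 zgi31) (kgi xgi16 ygi57 zgi23) (kgi xgi6 ygi14 zgi48) (kgi xgi5 ygi0 zgi31) (kgi xgi6 ygi16 zgi17) (kgi xgi5 ygi0 zgi32) (kgi xgi12 ygi8 zgi26) (kgi xgi17 ygi57 zgi9) (kgi xgi11 ygi8 zgi7) (kgi xgi15 ygi53 zgi41) (kgi xgi15 ygi51 zgi55) (kgi xgi14 ygi43 zgi40) (kgi xgi5 ygi35 zgi26) (kgi xgi15 ygi53 zgi42) (kgi xgi18 ygi2 zgi45)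 (kgi xgi5 ygi35 zgi34) (kgi xgi9 ygi43 zgi57) (kgi xgi5 ygi0 zgi39) (kgi xgi11 ygi2 zgi37) (kgi xgi11 ygi2 zgi35) (kgi xgi16 ygi10 zgi56) (kgi xgi5 ygi0 zgi40) (kgi xgi9 ygi0 zgi30) (kgi xgi18 ygi2 zgi60) (kgi xgi18 ygi3 zgi0) (kgi xgi8 ygi24 zgi34) (kgi xgi9 ygi0 zgi37) (kgi xgi15 ygi3 zgi23) (kgi xgi5 ygi0 zgi43) (kgi xgi16 ygi49 zgi52) (kgi xgi16 ygi49 zgi51) (kgi xgi18 ygi3 zgi12) (kgi xgi5 ygi0 zgi44) (kgi xgi18 ygi3 zgi16) (kgi xgi8 ygi5 zgi41) (kgi xgi5 ygi0 zgi47) (kgi xgi18 ygi3 zgi21) (kgi xgi5 ygi19 zgi46) (kgi xgi18 ygi3 zgi25) (kgi xgi15 ygi14 zgi38) (kgi xgi10 ygi7 zgi40) (kgi xgi18 ygi3 zgi30) (kgi xgi9 ygi52 zgi40) (kgi xgi18 ygi3 zgi36)) (@D3.rec (fun _ => Pt) (kgi xgi5 ygi1 zgi39) (kgi xgi5 ygi1 zgi37) (kgi xgi18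 ygi3 zgi42) (kgi xgi9 ygi52 zgi31) (kgi xgi18 ygi3 zgi39) (kgi xgi18 ygi3 zgi50) (kgi xgi9 ygi52 zgi37) (kgi xgi10 ygi12 zgi49) (kgi xgi5 ygi0 zgi53) (kgi xgi18 ygi3 zgi56) (kgi xgi18 ygi3 zgi60) (kgi xgi18 ygi4 zgi5) (kgi xgi18 ygi3 zgi57) (kgi xgi5 ygi0 zgi54) (kgi xgi5 ygi2 zgi0) (kgi xgi18 ygi4 zgi12) (kgi xgi10 ygi9 zgi26) (kgi xgi5 ygi28 zgi18) (kgi xgi18 ygi4 zgi16) (kgi xgi15 ygi50 zgi54) (kgi xgi8 ygi15 zgi47) (kgi xgi18 ygi4 zgi20) (kgi xgi5 ygi17 zgi8) (kgi xgi15 ygi36 zgi4) (kgi xgi5 ygi0 zgi61) (kgi xgi15 ygi30 zgi52) (kgi xgi15 ygi30 zgi51) (kgi xgi18 ygi4 zgi27) (kgi xgi9 ygi52 zgi55) (kgi xgi10 ygi19 zgi53) (kgi xgi18 ygi4 zgi32) (kgi xgi9 ygi52 zgi6) (kgi xgi18 ygi4 zgi38) (kgi xgi5 ygi1 zgi4) (kgi xgi10 ygi8 zgi7)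 (kgi xgi10 ygi10 zgi20) (kgi xgi18 ygi4 zgi45) (kgi xgi9 ygi52 zgi3) (kgi xgi15 ygi9 zgi61) (kgi xgi18 ygi4 zgi52) (kgi xgi9 ygi34 zgi43) (kgi xgi18 ygi4 zgi43) (kgi xgi17 ygi44 zgi51) (kgi xgi9 ygi51 zgi60) (kgi xgi10 ygi8 zgi5) (kgi xgi5 ygi1 zgi9) (kgi xgi18 ygi3 zgi26) (kgi xgi18 ygi3 zgi24) (kgi xgi18 ygi5 zgi5) (kgi xgi18 ygi5 zgi8) (kgi xgi5 ygi1 zgi10) (kgi xgi15 ygi23 zgi23) (kgi xgi16 ygi19 zgi16) (kgi xgi9 ygi35 zgi41) (kgi xgi14 ygi58 zgi18) (kgi xgi12 ygi30 zgi46) (kgi xgi9 ygi54 zgi50) (kgi xgi10 ygi7 zgi58) (kgi xgi18 ygi5 zgi15) (kgi xgi5 ygi1 zgi18) (kgi xgi17 ygi45 zgi34) (kgi xgi16 ygi22 zgi9)) (@D3.rec (fun _ => Pt) (kgi xgi9 ygi3 zgi17) (kgi xgi18 ygi5 zgi18) (kgi xgi8 ygi28 zgi8) (kgi xgi16 ygi8 zgi9) (kgi xgi5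 ygi1 zgi24) (kgi xgi18 ygi3 zgi22) (kgi xgi18 ygi3 zgi20) (kgi xgi18 ygi5 zgi28) (kgi xgi18 ygi5 zgi31) (kgi xgi5 ygi1 zgi26) (kgi xgi15 ygi19 zgi53) (kgi xgi9 ygi53 zgi2) (kgi xgi10 ygi7 zgi30) (kgi xgi5 ygi1 zgi28) (kgi xgi5 ygi39 zgi14) (kgi xgi18 ygi5 zgi40) (kgi xgi18 ygi5 zgi43) (kgi xgi9 ygi33 zgi32) (kgi xgi18 ygi5 zgi48) (kgi xgi10 ygi24 zgi32) (kgi xgi5 ygi1 zgi32) (kgi xgi15 ygi30 zgi59) (kgi xgi15 ygi30 zgi58) (kgi xgi18 ygi5 zgi53) (kgi xgi10 ygi9 zgi30) (kgi xgi5 ygi1 zgi34) (kgi xgi14 ygi15 zgi21) (kgi xgi17 ygi38 zgi18) (kgi xgi18 ygi6 zgi1) (kgi xgi18 ygi6 zgi3) (kgi xgi5 ygi1 zgi35) (kgi xgi5 ygi1 zgi42) (kgi xgi18 ygi6 zgi6) (kgi xgi5 ygi1 zgi36) (kgi xgi18 ygi3 zgi38) (kgi xgi18 ygi6 zgi15) (kgi xgi18 ygi3 zgi35)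 (kgi xgi5 ygi1 zgi49) (kgi xgi15 ygi53 zgi43) (kgi xgi18 ygi3 zgi48) (kgi xgi15 ygi53 zgi26) (kgi xgi10 ygi9 zgi35) (kgi xgi5 ygi1 zgi40) (kgi xgi17 ygi45 zgi39) (kgi xgi10 ygi12 zgi31) (kgi xgi5 ygi1 zgi41) (kgi xgi18 ygi3 zgi31) (kgi xgi16 ygi22 zgi59) (kgi xgi18 ygi6 zgi27) (kgi xgi16 ygi18 zgi29) (kgi xgi18 ygi6 zgi30) (kgi xgi5 ygi1 zgi43) (kgi xgi7 ygi33 zgi31) (kgi xgi8 ygi42 zgi18) (kgi xgi16 ygi22 zgi55) (kgi xgi5 ygi1 zgi52) (kgi xgi8 ygi28 zgi4) (kgi xgi18 ygi3 zgi55) (kgi xgi5 ygi1 zgi47) (kgi xgi18 ygi3 zgi51) (kgi xgi18 ygi3 zgi49) (kgi xgi17 ygi46 zgi37)) (@D3.rec (fun _ => Pt) (kgi xgi14 ygi57 zgi61) (kgi xgi16 ygi16 zgi3) (kgi xgi5 ygi1 zgi48) (kgi xgi5 ygi1 zgi51) (kgi xgi18 ygi7 zgi3) (kgi xgi18 ygi7 zgi7) (kgi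 xgi10 ygi12 zgi12) (kgi xgi5 ygi1 zgi50) (kgi xgi18 ygi3 zgi43) (kgi xgi18 ygi3 zgi41) (kgi xgi18 ygi7 zgi20) (kgi xgi18 ygi7 zgi23) (kgi xgi18 ygi7 zgi26) (kgi xgi8 ygi40 zgi43) (kgi xgi17 ygi38 zgi16) (kgi xgi5 ygi1 zgi53) (kgi xgi5 ygi1 zgi55) (kgi xgi18 ygi7 zgi34) (kgi xgi10 ygi11 zgi59) (kgi xgi18 ygi7 zgi0) (kgi xgi17 ygi30 zgi24) (kgi xgi5 ygi1 zgi57) (kgi xgi18 ygi6 zgi42) (kgi xgi12 ygi35 zgi3) (kgi xgi18 ygi7 zgi38) (kgi xgi18 ygi7 zgi49) (kgi xgi18 ygi7 zgi52) (kgi xgi5 ygi1 zgi56) (kgi xgi18 ygi7 zgi29) (kgi xgi18 ygi7 zgi61) (kgi xgi18 ygi8 zgi3) (kgi xgi18 ygi7 zgi51) (kgi xgi18 ygi8 zgi7) (kgi xgi18 ygi6 zgi48) (kgi xgi18 ygi8 zgi13) (kgi xgi18 ygi7 zgi15) (kgi xgi18 ygi8 zgi18) (kgi xgi18 ygi8 zgi22) (kgi xgi18 ygi8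 zgi25) (kgi xgi5 ygi1 zgi61) (kgi xgi18 ygi4 zgi13) (kgi xgi18 ygi4 zgi11) (kgi xgi18 ygi8 zgi37) (kgi xgi5 ygi2 zgi1) (kgi xgi8 ygi4 zgi35) (kgi xgi18 ygi8 zgi44) (kgi xgi8 ygi15 zgi55) (kgi xgi15 ygi14 zgi40) (kgi xgi9 ygi52 zgi56) (kgi xgi10 ygi8 zgi48) (kgi xgi15 ygi11 zgi12) (kgi xgi18 ygi8 zgi53) (kgi xgi9 ygi39 zgi49) (kgi xgi18 ygi8 zgi58) (kgi xgi5 ygi2 zgi5) (kgi xgi10 ygi10 zgi58) (kgi xgi10 ygi10 zgi29) (kgi xgi5 ygi15 zgi2) (kgi xgi18 ygi9 zgi4) (kgi xgi9 ygi39 zgi46) (kgi xgi18 ygi9 zgi8) (kgi xgi5 ygi2 zgi60)) (@D3.rec (fun _ => Pt) (kgi xgi5 ygi2 zgi49) (kgi xgi18 ygi9 zgi13) (kgi xgi5 ygi10 zgi54) (kgi xgi18 ygi9 zgi1) (kgi xgi9 ygi40 zgi13) (kgi xgi9 ygi39 zgi40) (kgi xgi18 ygi9 zgi11) (kgi xgi5 ygi2 zgi11) (kgi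 xgi10 ygi11 zgi2) (kgi xgi10 ygi11 zgi0) (kgi xgi18 ygi9 zgi31) (kgi xgi18 ygi9 zgi35) (kgi xgi18 ygi9 zgi38) (kgi xgi5 ygi2 zgi13) (kgi xgi17 ygi45 zgi60) (kgi xgi18 ygi9 zgi47) (kgi xgi17 ygi45 zgi57) (kgi xgi8 ygi11 zgi5) (kgi xgi10 ygi28 zgi4) (kgi xgi10 ygi7 zgi26) (kgi xgi18 ygi9 zgi50) (kgi xgi17 ygi48 zgi0) (kgi xgi18 ygi9 zgi58) (kgi xgi5 ygi9 zgi13) (kgi xgi18 ygi9 zgi60) (kgi xgi5 ygi2 zgi18) (kgi xgi10 ygi7 zgi32) (kgi xgi5 ygi2 zgi19) (kgi xgi10 ygi10 zgi32) (kgi xgi10 ygi10 zgi30) (kgi xgi5 ygi11 zgi37) (kgi xgi18 ygi10 zgi11) (kgi xgi6 ygi49 zgi2) (kgi xgi5 ygi2 zgi21) (kgi xgi10 ygi10 zgi28) (kgi xgi5 ygi11 zgi17) (kgi xgi10 ygi10 zgi26) (kgi xgi5 ygi2 zgi54) (kgi xgi5 ygi2 zgi30) (kgi xgi10 ygi2 zgi18) (kgi xgi5 ygi2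 zgi25) (kgi xgi10 ygi10 zgi24) (kgi xgi10 ygi10 zgi22) (kgi xgi9 ygi59 zgi37) (kgi xgi18 ygi10 zgi21) (kgi xgi10 ygi55 zgi47) (kgi xgi5 ygi2 zgi28) (kgi xgi10 ygi2 zgi23) (kgi xgi10 ygi2 zgi22) (kgi xgi10 ygi40 zgi45) (kgi xgi5 ygi16 zgi43) (kgi xgi18 ygi10 zgi27) (kgi xgi12 ygi15 zgi24) (kgi xgi5 ygi10 zgi45) (kgi xgi10 ygi2 zgi16) (kgi xgi5 ygi2 zgi31) (kgi xgi10 ygi2 zgi14) (kgi xgi10 ygi2 zgi12) (kgi xgi18 ygi10 zgi37) (kgi xgi10 ygi26 zgi55) (kgi xgi12 ygi15 zgi20) (kgi xgi18 ygi10 zgi40)) (@D3.rec (fun _ => Pt) (kgi xgi18 ygi10 zgi43) (kgi xgi5 ygi11 zgi0) (kgi xgi18 ygi10 zgi16) (kgi xgi18 ygi10 zgi23) (kgi xgi18 ygi10 zgi42) (kgi xgi9 ygi57 zgi48) (kgi xgi18 ygi10 zgi52) (kgi xgi17 ygi42 zgi34) (kgi xgi5 ygi2 zgi36) (kgi xgi10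 ygi11 zgi21) (kgi xgi15 ygi49 zgi43) (kgi xgi5 ygi2 zgi37) (kgi xgi17 ygi42 zgi24) (kgi xgi5 ygi2 zgi38) (kgi xgi10 ygi10 zgi47) (kgi xgi10 ygi3 zgi58) (kgi xgi18 ygi10 zgi24) (kgi xgi18 ygi11 zgi5) (kgi xgi10 ygi0 zgi40) (kgi xgi8 ygi4 zgi38) (kgi xgi18 ygi10 zgi8) (kgi xgi18 ygi11 zgi11) (kgi xgi6 ygi29 zgi11) (kgi xgi18 ygi11 zgi15) (kgi xgi15 ygi0 zgi45) (kgi xgi17 ygi46 zgi46) (kgi xgi18 ygi11 zgi22) (kgi xgi10 ygi10 zgi6) (kgi xgi10 ygi10 zgi60) (kgi xgi18 ygi11 zgi29) (kgi xgi10 ygi32 zgi61) (kgi xgi18 ygi11 zgi33) (kgi xgi18 ygi11 zgi36) (kgi xgi10 ygi21 zgi4) (kgi xgi18 ygi11 zgi42) (kgi xgi10 ygi9 zgi53) (kgi xgi10 ygi9 zgi51) (kgi xgi18 ygi11 zgi48) (kgi xgi5 ygi10 zgi32) (kgi xgi10 ygi11 zgi8) (kgi xgi18 ygi11 zgi55) (kgi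 xgi9 ygi58 zgi14) (kgi xgi18 ygi11 zgi45) (kgi xgi5 ygi2 zgi57) (kgi xgi10 ygi10 zgi3) (kgi xgi10 ygi10 zgi1) (kgi xgi18 ygi12 zgi10) (kgi xgi18 ygi9 zgi27) (kgi xgi18 ygi12 zgi17) (kgi xgi5 ygi2 zgi59) (kgi xgi18 ygi12 zgi23) (kgi xgi18 ygi9 zgi20) (kgi xgi9 ygi40 zgi2) (kgi xgi16 ygi34 zgi42) (kgi xgi5 ygi2 zgi61) (kgi xgi15 ygi24 zgi44) (kgi xgi18 ygi12 zgi33) (kgi xgi8 ygi11 zgi43) (kgi xgi12 ygi1 zgi23) (kgi xgi18 ygi12 zgi37) (kgi xgi5 ygi10 zgi40) (kgi xgi10 ygi11 zgi26)) (@D3.rec (fun _ => Pt) (kgi xgi18 ygi10 zgi30) (kgi xgi18 ygi12 zgi36) (kgi xgi9 ygi58 zgi42) (kgi xgi18 ygi12 zgi47) (kgi xgi7 ygi31 zgi23) (kgi xgi10 ygi11 zgi17) (kgi xgi5 ygi3 zgi7) (kgi xgi10 ygi10 zgi39) (kgi xgi18 ygi12 zgi53) (kgi xgi18 ygi12 zgi55)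 (kgi xgi5 ygi3 zgi8) (kgi xgi18 ygi12 zgi60) (kgi xgi18 ygi10 zgi54) (kgi xgi5 ygi3 zgi9) (kgi xgi10 ygi11 zgi27) (kgi xgi12 ygi15 zgi26) (kgi xgi10 ygi3 zgi0) (kgi xgi18 ygi10 zgi35) (kgi xgi10 ygi49 zgi3) (kgi xgi17 ygi51 zgi17) (kgi xgi10 ygi55 zgi42) (kgi xgi10 ygi8 zgi12) (kgi xgi18 ygi13 zgi5) (kgi xgi10 ygi14 zgi37) (kgi xgi5 ygi3 zgi18) (kgi xgi10 ygi12 zgi23) (kgi xgi10 ygi12 zgi21) (kgi xgi18 ygi13 zgi14) (kgi xgi18 ygi13 zgi18) (kgi xgi5 ygi3 zgi19) (kgi xgi18 ygi9 zgi43) (kgi xgi5 ygi3 zgi20) (kgi xgi17 ygi46 zgi8) (kgi xgi18 ygi13 zgi31) (kgi xgi17 ygi46 zgi5) (kgi xgi15 ygi30 zgi57) (kgi xgi9 ygi40 zgi20) (kgi xgi9 ygi42 zgi22) (kgi xgi5 ygi3 zgi50) (kgi xgi10 ygi8 zgi19) (kgi xgi17 ygi46 zgi20) (kgi xgi18 ygi11 zgi46)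 (kgi xgi17 ygi46 zgi51) (kgi xgi18 ygi7 zgi36) (kgi xgi18 ygi13 zgi47) (kgi xgi10 ygi14 zgi40) (kgi xgi10 ygi9 zgi10) (kgi xgi9 ygi59 zgi60) (kgi xgi9 ygi56 zgi1) (kgi xgi18 ygi13 zgi52) (kgi xgi5 ygi3 zgi27) (kgi xgi10 ygi12 zgi40) (kgi xgi5 ygi3 zgi28) (kgi xgi18 ygi13 zgi54) (kgi xgi18 ygi14 zgi3) (kgi xgi18 ygi13 zgi51) (kgi xgi6 ygi40 zgi43) (kgi xgi12 ygi28 zgi27) (kgi xgi5 ygi18 zgi47) (kgi xgi17 ygi59 zgi12) (kgi xgi17 ygi16 zgi18) (kgi xgi10 ygi22 zgi37)) (@D3.rec (fun _ => Pt) (kgi xgi17 ygi15 zgi61) (kgi xgi11 ygi11 zgi2) (kgi xgi10 ygi12 zgi11) (kgi xgi17 ygi6 zgi40) (kgi xgi9 ygi55 zgi53) (kgi xgi8 ygi4 zgi23) (kgi xgi9 ygi43 zgi33) (kgi xgi10 ygi13 zgi30) (kgi xgi17 ygi56 zgi42) (kgi xgi8 ygi57 zgi42) (kgi xgi18 ygi14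 zgi15) (kgi xgi16 ygi49 zgi41) (kgi xgi5 ygi32 zgi5) (kgi xgi18 ygi14 zgi19) (kgi xgi9 ygi56 zgi38) (kgi xgi18 ygi13 zgi27) (kgi xgi5 ygi3 zgi43) (kgi xgi5 ygi3 zgi48) (kgi xgi18 ygi14 zgi29) (kgi xgi17 ygi46 zgi49) (kgi xgi5 ygi3 zgi45) (kgi xgi10 ygi11 zgi42) (kgi xgi10 ygi11 zgi40) (kgi xgi18 ygi14 zgi39) (kgi xgi18 ygi14 zgi43) (kgi xgi5 ygi3 zgi46) (kgi xgi10 ygi11 zgi33) (kgi xgi18 ygi14 zgi50) (kgi xgi5 ygi3 zgi47) (kgi xgi18 ygi14 zgi26) (kgi xgi18 ygi14 zgi57) (kgi xgi18 ygi14 zgi24) (kgi xgi9 ygi40 zgi3) (kgi xgi15 ygi0 zgi40) (kgi xgi15 ygi3 zgi25) (kgi xgi7 ygi32 zgi44) (kgi xgi18 ygi14 zgi61) (kgi xgi10 ygi22 zgi54) (kgi xgi18 ygi15 zgi6) (kgi xgi5 ygi18 zgi40) (kgi xgi18 ygi15 zgi5) (kgi xgi18 ygi13 zgi49) (kgi xgi9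 ygi56 zgi60) (kgi xgi16 ygi7 zgi51) (kgi xgi5 ygi3 zgi54) (kgi xgi10 ygi11 zgi61) (kgi xgi18 ygi15 zgi14) (kgi xgi18 ygi15 zgi16) (kgi xgi5 ygi3 zgi55) (kgi xgi16 ygi7 zgi19) (kgi xgi5 ygi18 zgi48) (kgi xgi9 ygi43 zgi8) (kgi xgi10 ygi23 zgi1) (kgi xgi5 ygi4 zgi31) (kgi xgi5 ygi32 zgi2) (kgi xgi10 ygi9 zgi1) (kgi xgi10 ygi14 zgi1) (kgi xgi10 ygi13 zgi36) (kgi xgi10 ygi13 zgi17) (kgi xgi13 ygi14 zgi10) (kgi xgi5 ygi4 zgi4) (kgi xgi10 ygi13 zgi15)) (@D3.rec (fun _ => Pt) (kgi xgi5 ygi4 zgi6) (kgi xgi7 ygi48 zgi1) (kgi xgi13 ygi41 zgi50) (kgi xgi13 ygi14 zgi7) (kgi xgi10 ygi13 zgi29) (kgi xgi6 ygi38 zgi42) (kgi xgi5 ygi4 zgi30) (kgi xgi13 ygi0 zgi28) (kgi xgi5 ygi4 zgi9) (kgi xgi6 ygi40 zgi14) (kgi xgi12 ygi52 zgi57) (kgi xgi5 ygi4 zgi10)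 (kgi xgi10 ygi13 zgi9) (kgi xgi8 ygi0 zgi58) (kgi xgi9 ygi55 zgi35) (kgi xgi10 ygi13 zgi52) (kgi xgi10 ygi30 zgi14) (kgi xgi5 ygi4 zgi39) (kgi xgi5 ygi4 zgi23) (kgi xgi18 ygi15 zgi41) (kgi xgi12 ygi2 zgi32) (kgi xgi10 ygi12 zgi60) (kgi xgi18 ygi15 zgi28) (kgi xgi5 ygi4 zgi15) (kgi xgi10 ygi12 zgi58) (kgi xgi10 ygi3 zgi13) (kgi xgi13 ygi52 zgi10) (kgi xgi5 ygi4 zgi16) (kgi xgi6 ygi40 zgi6) (kgi xgi18 ygi16 zgi3) (kgi xgi5 ygi4 zgi17) (kgi xgi18 ygi15 zgi51) (kgi xgi12 ygi0 zgi35) (kgi xgi18 ygi15 zgi49) (kgi xgi10 ygi14 zgi16) (kgi xgi10 ygi13 zgi10) (kgi xgi18 ygi16 zgi10) (kgi xgi9 ygi49 zgi8) (kgi xgi18 ygi14 zgi16) (kgi xgi18 ygi15 zgi43) (kgi xgi10 ygi12 zgi55) (kgi xgi5 ygi16 zgi6) (kgi xgi17 ygi7 zgi22) (kgi xgi18 ygi16 zgi21)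 (kgi xgi18 ygi15 zgi44) (kgi xgi5 ygi4 zgi24) (kgi xgi5 ygi4 zgi29) (kgi xgi18 ygi16 zgi29) (kgi xgi16 ygi16 zgi6) (kgi xgi18 ygi16 zgi38) (kgi xgi18 ygi6 zgi24) (kgi xgi5 ygi4 zgi25) (kgi xgi17 ygi5 zgi20) (kgi xgi9 ygi55 zgi43) (kgi xgi5 ygi4 zgi26) (kgi xgi13 ygi1 zgi59) (kgi xgi10 ygi12 zgi14) (kgi xgi10 ygi12 zgi50) (kgi xgi5 ygi4 zgi28) (kgi xgi12 ygi2 zgi15) (kgi xgi9 ygi57 zgi44) (kgi xgi12 ygi47 zgi18))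
def fi_g_10 : D2 → D3 → Pt := @D2.rec (fun _ => D3 → Pt) (@D3.rec (fun _ => Pt) (kgi xgi17 ygi14 zgi39) (kgi xgi15 ygi14 zgi37) (kgi xgi17 ygi40 zgi20) (kgi xgi18 ygi16 zgi57) (kgi xgi18 ygi16 zgi60) (kgi xgi18 ygi15 zgi22) (kgi xgi12 ygi18 zgi54) (kgi xgi18 ygi15 zgi23) (kgi xgi10 ygi18 zgi29) (kgi xgi18 ygi17 zgi3) (kgi xgi18 ygi16 zgi13) (kgi xgi12 ygi25 zgi49) (kgi xgi11 ygi29 zgi6) (kgi xgi12 ygi30 zgi17) (kgi xgi18 ygi17 zgi6) (kgi xgi5 ygi4 zgi35) (kgi xgi10 ygi18 zgi31) (kgi xgi5 ygi4 zgi36) (kgi xgi11 ygi45 zgi9) (kgi xgi18 ygi17 zgi2) (kgi xgi5 ygi4 zgi37) (kgi xgi10 ygi13 zgi26) (kgi xgi18 ygi17 zgi20) (kgi xgi5 ygi4 zgi38) (kgi xgi10 ygi14 zgi24) (kgi xgi10 ygi14 zgi22) (kgi xgi11 ygi29 zgi60) (kgi xgi18 ygi17 zgi25) (kgi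 xgi5 ygi4 zgi40) (kgi xgi10 ygi14 zgi29) (kgi xgi10 ygi14 zgi26) (kgi xgi10 ygi54 zgi46) (kgi xgi18 ygi17 zgi28) (kgi xgi12 ygi0 zgi40) (kgi xgi15 ygi26 zgi8) (kgi xgi18 ygi17 zgi22) (kgi xgi10 ygi13 zgi14) (kgi xgi10 ygi12 zgi20) (kgi xgi9 ygi55 zgi21) (kgi xgi10 ygi12 zgi39) (kgi xgi9 ygi56 zgi18) (kgi xgi8 ygi10 zgi52) (kgi xgi18 ygi17 zgi41) (kgi xgi8 ygi10 zgi53) (kgi xgi18 ygi17 zgi44) (kgi xgi11 ygi57 zgi11) (kgi xgi5 ygi4 zgi52) (kgi xgi10 ygi33 zgi12) (kgi xgi10 ygi33 zgi10) (kgi xgi18 ygi17 zgi53) (kgi xgi8 ygi27 zgi50) (kgi xgi18 ygi17 zgi59) (kgi xgi5 ygi4 zgi54) (kgi xgi10 ygi15 zgi48) (kgi xgi10 ygi15 zgi46) (kgi xgi8 ygi7 zgi55) (kgi xgi18 ygi18 zgi2) (kgi xgi8 ygi14 zgi20) (kgi xgi9 ygi0 zgi56) (kgi xgi18 ygi18 zgi9)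 (kgi xgi8 ygi37 zgi55) (kgi xgi18 ygi18 zgi0)) (@D3.rec (fun _ => Pt) (kgi xgi18 ygi18 zgi16) (kgi xgi5 ygi13 zgi42) (kgi xgi5 ygi4 zgi60) (kgi xgi10 ygi15 zgi52) (kgi xgi10 ygi15 zgi50) (kgi xgi18 ygi18 zgi28) (kgi xgi18 ygi18 zgi31) (kgi xgi18 ygi18 zgi35) (kgi xgi5 ygi5 zgi0) (kgi xgi7 ygi46 zgi22) (kgi xgi17 ygi53 zgi15) (kgi xgi16 ygi9 zgi49) (kgi xgi8 ygi37 zgi44) (kgi xgi11 ygi52 zgi47) (kgi xgi15 ygi29 zgi44) (kgi xgi16 ygi13 zgi24) (kgi xgi18 ygi18 zgi48) (kgi xgi5 ygi5 zgi5) (kgi xgi13 ygi26 zgi37) (kgi xgi18 ygi18 zgi52) (kgi xgi5 ygi54 zgi23) (kgi xgi18 ygi18 zgi57) (kgi xgi5 ygi5 zgi9) (kgi xgi7 ygi14 zgi32) (kgi xgi10 ygi16 zgi10) (kgi xgi7 ygi16 zgi52) (kgi xgi18 ygi19 zgi0) (kgi xgi15 ygi12 zgi59) (kgi xgi5 ygi13 zgi40)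 (kgi xgi6 ygi15 zgi0) (kgi xgi8 ygi49 zgi12) (kgi xgi15 ygi10 zgi37) (kgi xgi18 ygi19 zgi11) (kgi xgi18 ygi19 zgi14) (kgi xgi18 ygi19 zgi18) (kgi xgi5 ygi5 zgi16) (kgi xgi16 ygi10 zgi28) (kgi xgi13 ygi48 zgi16) (kgi xgi18 ygi19 zgi28) (kgi xgi18 ygi19 zgi30) (kgi xgi8 ygi52 zgi19) (kgi xgi18 ygi19 zgi34) (kgi xgi5 ygi5 zgi19) (kgi xgi10 ygi16 zgi31) (kgi xgi10 ygi15 zgi8) (kgi xgi18 ygi19 zgi40) (kgi xgi8 ygi52 zgi16) (kgi xgi18 ygi19 zgi45) (kgi xgi18 ygi19 zgi47) (kgi xgi5 ygi18 zgi31) (kgi xgi18 ygi19 zgi38) (kgi xgi6 ygi13 zgi59) (kgi xgi8 ygi52 zgi10) (kgi xgi10 ygi29 zgi33) (kgi xgi5 ygi5 zgi24) (kgi xgi10 ygi16 zgi40) (kgi xgi10 ygi16 zgi38) (kgi xgi18 ygi19 zgi60) (kgi xgi5 ygi5 zgi25) (kgi xgi11 ygi37 zgi36) (kgi xgi5 ygi5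 zgi26) (kgi xgi16 ygi34 zgi55)) (@D3.rec (fun _ => Pt) (kgi xgi18 ygi20 zgi7) (kgi xgi16 ygi34 zgi52) (kgi xgi5 ygi21 zgi20) (kgi xgi15 ygi24 zgi36) (kgi xgi11 ygi6 zgi12) (kgi xgi10 ygi29 zgi13) (kgi xgi18 ygi20 zgi15) (kgi xgi5 ygi18 zgi5) (kgi xgi17 ygi22 zgi2) (kgi xgi5 ygi5 zgi31) (kgi xgi10 ygi24 zgi36) (kgi xgi10 ygi24 zgi34) (kgi xgi5 ygi5 zgi32) (kgi xgi9 ygi55 zgi57) (kgi xgi9 ygi55 zgi55) (kgi xgi18 ygi20 zgi31) (kgi xgi5 ygi5 zgi33) (kgi xgi9 ygi55 zgi54) (kgi xgi9 ygi55 zgi38) (kgi xgi5 ygi6 zgi7) (kgi xgi8 ygi26 zgi16) (kgi xgi5 ygi24 zgi61) (kgi xgi5 ygi5 zgi39) (kgi xgi9 ygi55 zgi46) (kgi xgi12 ygi2 zgi25) (kgi xgi12 ygi3 zgi0) (kgi xgi18 ygi10 zgi13) (kgi xgi18 ygi10 zgi3) (kgi xgi12 ygi2 zgi55) (kgi xgi18 ygi20 zgi47)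 (kgi xgi18 ygi20 zgi49) (kgi xgi5 ygi5 zgi43) (kgi xgi18 ygi20 zgi51) (kgi xgi18 ygi16 zgi7) (kgi xgi18 ygi20 zgi48) (kgi xgi9 ygi52 zgi23) (kgi xgi18 ygi20 zgi28) (kgi xgi14 ygi22 zgi13) (kgi xgi10 ygi22 zgi8) (kgi xgi10 ygi38 zgi48) (kgi xgi6 ygi29 zgi4) (kgi xgi10 ygi4 zgi58) (kgi xgi6 ygi30 zgi41) (kgi xgi5 ygi5 zgi53) (kgi xgi5 ygi50 zgi13) (kgi xgi10 ygi4 zgi53) (kgi xgi10 ygi4 zgi34) (kgi xgi6 ygi26 zgi0) (kgi xgi10 ygi18 zgi25) (kgi xgi5 ygi5 zgi56) (kgi xgi7 ygi20 zgi1) (kgi xgi9 ygi9 zgi52) (kgi xgi8 ygi42 zgi60) (kgi xgi15 ygi26 zgi13) (kgi xgi18 ygi21 zgi5) (kgi xgi5 ygi5 zgi60) (kgi xgi18 ygi21 zgi15) (kgi xgi18 ygi21 zgi19) (kgi xgi5 ygi5 zgi61) (kgi xgi17 ygi3 zgi26) (kgi xgi17 ygi3 zgi24) (kgi xgi16 ygi52 zgi11)) (@D3.rec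 (fun _ => Pt) (kgi xgi5 ygi10 zgi21) (kgi xgi9 ygi4 zgi38) (kgi xgi9 ygi4 zgi57) (kgi xgi18 ygi21 zgi31) (kgi xgi9 ygi57 zgi16) (kgi xgi11 ygi2 zgi9) (kgi xgi5 ygi20 zgi1) (kgi xgi18 ygi21 zgi38) (kgi xgi18 ygi21 zgi40) (kgi xgi5 ygi20 zgi4) (kgi xgi16 ygi21 zgi32) (kgi xgi10 ygi14 zgi47) (kgi xgi10 ygi14 zgi45) (kgi xgi18 ygi21 zgi45) (kgi xgi5 ygi18 zgi21) (kgi xgi18 ygi21 zgi48) (kgi xgi5 ygi19 zgi57) (kgi xgi13 ygi40 zgi59) (kgi xgi5 ygi6 zgi10) (kgi xgi10 ygi14 zgi55) (kgi xgi10 ygi14 zgi53) (kgi xgi9 ygi39 zgi32) (kgi xgi18 ygi19 zgi57) (kgi xgi8 ygi42 zgi59) (kgi xgi5 ygi6 zgi12) (kgi xgi18 ygi22 zgi3) (kgi xgi10 ygi29 zgi31) (kgi xgi5 ygi19 zgi2) (kgi xgi17 ygi46 zgi53) (kgi xgi5 ygi6 zgi14) (kgi xgi10 ygi29 zgi38) (kgi xgi8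 ygi55 zgi23) (kgi xgi5 ygi6 zgi16) (kgi xgi11 ygi54 zgi13) (kgi xgi6 ygi5 zgi13) (kgi xgi18 ygi22 zgi15) (kgi xgi18 ygi22 zgi18) (kgi xgi5 ygi11 zgi14) (kgi xgi10 ygi16 zgi61) (kgi xgi17 ygi51 zgi24) (kgi xgi18 ygi22 zgi17) (kgi xgi9 ygi27 zgi4) (kgi xgi13 ygi31 zgi3) (kgi xgi10 ygi16 zgi54) (kgi xgi5 ygi6 zgi20) (kgi xgi17 ygi50 zgi52) (kgi xgi5 ygi6 zgi22) (kgi xgi5 ygi15 zgi3) (kgi xgi11 ygi54 zgi56) (kgi xgi5 ygi15 zgi41) (kgi xgi10 ygi25 zgi11) (kgi xgi18 ygi22 zgi28) (kgi xgi6 ygi44 zgi49) (kgi xgi11 ygi21 zgi35) (kgi xgi5 ygi38 zgi22) (kgi xgi5 ygi55 zgi1) (kgi xgi12 ygi29 zgi13) (kgi xgi5 ygi55 zgi5) (kgi xgi5 ygi9 zgi59) (kgi xgi9 ygi13 zgi41) (kgi xgi12 ygi31 zgi13) (kgi xgi9 ygi56 zgi15)) (@D3.rec (fun _ => Pt) (kgi xgi11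 ygi30 zgi40) (kgi xgi5 ygi55 zgi21) (kgi xgi18 ygi22 zgi40) (kgi xgi6 ygi44 zgi51) (kgi xgi6 ygi2 zgi42) (kgi xgi10 ygi17 zgi23) (kgi xgi6 ygi9 zgi0) (kgi xgi5 ygi6 zgi42) (kgi xgi10 ygi17 zgi29) (kgi xgi11 ygi57 zgi46) (kgi xgi18 ygi22 zgi49) (kgi xgi8 ygi9 zgi60) (kgi xgi18 ygi22 zgi54) (kgi xgi8 ygi9 zgi61) (kgi xgi18 ygi22 zgi58) (kgi xgi5 ygi6 zgi46) (kgi xgi8 ygi23 zgi57) (kgi xgi18 ygi23 zgi2) (kgi xgi13 ygi15 zgi42) (kgi xgi5 ygi6 zgi47) (kgi xgi13 ygi46 zgi51) (kgi xgi11 ygi57 zgi49) (kgi xgi17 ygi25 zgi28) (kgi xgi17 ygi22 zgi44) (kgi xgi5 ygi6 zgi50) (kgi xgi13 ygi1 zgi61) (kgi xgi11 ygi59 zgi12) (kgi xgi10 ygi5 zgi26) (kgi xgi10 ygi2 zgi50) (kgi xgi10 ygi2 zgi49) (kgi xgi5 ygi53 zgi60) (kgi xgi10 ygi5 zgi15) (kgi xgi18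 ygi23 zgi19) (kgi xgi10 ygi2 zgi47) (kgi xgi5 ygi55 zgi18) (kgi xgi15 ygi49 zgi52) (kgi xgi5 ygi55 zgi14) (kgi xgi5 ygi55 zgi0) (kgi xgi5 ygi10 zgi42) (kgi xgi9 ygi58 zgi46) (kgi xgi5 ygi7 zgi0) (kgi xgi10 ygi17 zgi53) (kgi xgi16 ygi56 zgi28) (kgi xgi10 ygi17 zgi51) (kgi xgi15 ygi26 zgi29) (kgi xgi6 ygi50 zgi42) (kgi xgi18 ygi23 zgi25) (kgi xgi18 ygi23 zgi27) (kgi xgi5 ygi7 zgi5) (kgi xgi18 ygi22 zgi39) (kgi xgi5 ygi7 zgi6) (kgi xgi13 ygi1 zgi56) (kgi xgi17 ygi58 zgi15) (kgi xgi5 ygi7 zgi7) (kgi xgi10 ygi2 zgi45) (kgi xgi10 ygi5 zgi47) (kgi xgi18 ygi23 zgi37) (kgi xgi10 ygi2 zgi42) (kgi xgi5 ygi51 zgi61) (kgi xgi5 ygi38 zgi48) (kgi xgi5 ygi51 zgi55) (kgi xgi5 ygi7 zgi52)) (@D3.rec (fun _ => Pt) (kgi xgi12 ygi9 zgi42) (kgi xgi5 ygi51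 zgi45) (kgi xgi11 ygi24 zgi59) (kgi xgi6 ygi7 zgi35) (kgi xgi6 ygi7 zgi38) (kgi xgi11 ygi57 zgi39) (kgi xgi10 ygi17 zgi58) (kgi xgi18 ygi23 zgi49) (kgi xgi18 ygi23 zgi54) (kgi xgi5 ygi7 zgi33) (kgi xgi11 ygi27 zgi16) (kgi xgi10 ygi17 zgi59) (kgi xgi11 ygi13 zgi48) (kgi xgi13 ygi1 zgi33) (kgi xgi5 ygi53 zgi57) (kgi xgi11 ygi35 zgi13) (kgi xgi5 ygi7 zgi48) (kgi xgi11 ygi8 zgi18) (kgi xgi6 ygi46 zgi21) (kgi xgi5 ygi7 zgi28) (kgi xgi10 ygi18 zgi20) (kgi xgi12 ygi15 zgi11) (kgi xgi17 ygi56 zgi33) (kgi xgi10 ygi18 zgi2) (kgi xgi10 ygi18 zgi11) (kgi xgi17 ygi9 zgi23) (kgi xgi17 ygi9 zgi27) (kgi xgi12 ygi49 zgi45) (kgi xgi7 ygi24 zgi60) (kgi xgi11 ygi51 zgi59) (kgi xgi5 ygi7 zgi37) (kgi xgi10 ygi4 zgi55) (kgi xgi12 ygi50 zgi0) (kgi xgi7 ygi26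 zgi45) (kgi xgi5 ygi7 zgi47) (kgi xgi12 ygi47 zgi24) (kgi xgi12 ygi27 zgi27) (kgi xgi18 ygi24 zgi21) (kgi xgi9 ygi10 zgi39) (kgi xgi5 ygi7 zgi41) (kgi xgi11 ygi49 zgi59) (kgi xgi10 ygi18 zgi12) (kgi xgi10 ygi18 zgi22) (kgi xgi12 ygi22 zgi56) (kgi xgi10 ygi17 zgi9) (kgi xgi10 ygi4 zgi21) (kgi xgi18 ygi24 zgi32) (kgi xgi6 ygi7 zgi28) (kgi xgi18 ygi23 zgi29) (kgi xgi18 ygi24 zgi36) (kgi xgi9 ygi19 zgi59) (kgi xgi18 ygi23 zgi59) (kgi xgi18 ygi23 zgi60) (kgi xgi6 ygi28 zgi55) (kgi xgi15 ygi30 zgi47) (kgi xgi5 ygi7 zgi50) (kgi xgi5 ygi8 zgi1) (kgi xgi18 ygi24 zgi46) (kgi xgi18 ygi24 zgi49) (kgi xgi12 ygi23 zgi16) (kgi xgi5 ygi7 zgi51) (kgi xgi5 ygi8 zgi4)) (@D3.rec (fun _ => Pt) (kgi xgi5 ygi8 zgi2) (kgi xgi10 ygi17 zgi56) (kgi xgi9 ygi7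 zgi22) (kgi xgi18 ygi24 zgi57) (kgi xgi5 ygi7 zgi53) (kgi xgi5 ygi7 zgi56) (kgi xgi18 ygi24 zgi60) (kgi xgi17 ygi3 zgi51) (kgi xgi18 ygi25 zgi3) (kgi xgi5 ygi7 zgi54) (kgi xgi18 ygi24 zgi41) (kgi xgi10 ygi18 zgi41) (kgi xgi9 ygi10 zgi19) (kgi xgi18 ygi25 zgi15) (kgi xgi18 ygi25 zgi1) (kgi xgi6 ygi28 zgi61) (kgi xgi5 ygi7 zgi57) (kgi xgi8 ygi12 zgi53) (kgi xgi5 ygi56 zgi31) (kgi xgi5 ygi57 zgi32) (kgi xgi12 ygi44 zgi8) (kgi xgi18 ygi25 zgi9) (kgi xgi12 ygi14 zgi12) (kgi xgi11 ygi8 zgi29) (kgi xgi6 ygi39 zgi2) (kgi xgi5 ygi7 zgi60) (kgi xgi10 ygi14 zgi2) (kgi xgi10 ygi14 zgi10) (kgi xgi17 ygi14 zgi27) (kgi xgi5 ygi7 zgi61) (kgi xgi10 ygi6 zgi31) (kgi xgi10 ygi6 zgi29) (kgi xgi18 ygi25 zgi38) (kgi xgi18 ygi24 zgi48) (kgi xgi5 ygi8 zgi0)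 (kgi xgi13 ygi20 zgi39) (kgi xgi6 ygi38 zgi17) (kgi xgi9 ygi15 zgi26) (kgi xgi18 ygi25 zgi44) (kgi xgi6 ygi19 zgi0) (kgi xgi6 ygi38 zgi57) (kgi xgi18 ygi25 zgi8) (kgi xgi15 ygi30 zgi43) (kgi xgi5 ygi8 zgi5) (kgi xgi11 ygi49 zgi29) (kgi xgi18 ygi25 zgi52) (kgi xgi5 ygi8 zgi7) (kgi xgi17 ygi58 zgi20) (kgi xgi17 ygi58 zgi18) (kgi xgi9 ygi0 zgi26) (kgi xgi5 ygi45 zgi56) (kgi xgi11 ygi8 zgi19) (kgi xgi10 ygi19 zgi7) (kgi xgi8 ygi12 zgi6) (kgi xgi6 ygi31 zgi56) (kgi xgi10 ygi18 zgi34) (kgi xgi18 ygi26 zgi3) (kgi xgi15 ygi5 zgi14) (kgi xgi5 ygi8 zgi13) (kgi xgi18 ygi26 zgi2) (kgi xgi17 ygi59 zgi58) (kgi xgi6 ygi8 zgi57)) (@D3.rec (fun _ => Pt) (kgi xgi18 ygi26 zgi5) (kgi xgi12 ygi1 zgi15) (kgi xgi12 ygi36 zgi33) (kgi xgi18 ygi17 zgi27) (kgi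 xgi18 ygi15 zgi40) (kgi xgi18 ygi26 zgi7) (kgi xgi17 ygi58 zgi1) (kgi xgi12 ygi1 zgi11) (kgi xgi5 ygi8 zgi20) (kgi xgi12 ygi36 zgi1) (kgi xgi9 ygi47 zgi60) (kgi xgi10 ygi19 zgi1) (kgi xgi10 ygi18 zgi53) (kgi xgi12 ygi29 zgi55) (kgi xgi5 ygi8 zgi24) (kgi xgi10 ygi18 zgi15) (kgi xgi18 ygi26 zgi1) (kgi xgi11 ygi24 zgi45) (kgi xgi10 ygi18 zgi51) (kgi xgi17 ygi22 zgi1) (kgi xgi10 ygi54 zgi10) (kgi xgi18 ygi26 zgi26) (kgi xgi5 ygi15 zgi8) (kgi xgi7 ygi32 zgi40) (kgi xgi5 ygi8 zgi31) (kgi xgi15 ygi50 zgi43) (kgi xgi15 ygi50 zgi42) (kgi xgi18 ygi26 zgi29) (kgi xgi8 ygi4 zgi25) (kgi xgi18 ygi26 zgi35) (kgi xgi5 ygi8 zgi33) (kgi xgi9 ygi53 zgi12) (kgi xgi9 ygi55 zgi25) (kgi xgi18 ygi26 zgi41) (kgi xgi8 ygi4 zgi22) (kgi xgi18 ygi26 zgi46) (kgi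 xgi8 ygi4 zgi17) (kgi xgi18 ygi26 zgi39) (kgi xgi18 ygi26 zgi53) (kgi xgi8 ygi4 zgi11) (kgi xgi9 ygi53 zgi10) (kgi xgi5 ygi8 zgi37) (kgi xgi15 ygi11 zgi15) (kgi xgi15 ygi11 zgi13) (kgi xgi18 ygi27 zgi4) (kgi xgi7 ygi24 zgi52) (kgi xgi18 ygi27 zgi7) (kgi xgi5 ygi8 zgi39) (kgi xgi15 ygi11 zgi10) (kgi xgi18 ygi27 zgi13) (kgi xgi15 ygi9 zgi49) (kgi xgi8 ygi3 zgi10) (kgi xgi15 ygi12 zgi37) (kgi xgi10 ygi9 zgi34) (kgi xgi18 ygi27 zgi17) (kgi xgi8 ygi54 zgi34) (kgi xgi5 ygi8 zgi46) (kgi xgi16 ygi42 zgi0) (kgi xgi9 ygi56 zgi52) (kgi xgi15 ygi11 zgi7) (kgi xgi15 ygi11 zgi6) (kgi xgi18 ygi27 zgi6)) (@D3.rec (fun _ => Pt) (kgi xgi18 ygi27 zgi27) (kgi xgi18 ygi27 zgi31) (kgi xgi5 ygi8 zgi50) (kgi xgi15 ygi11 zgi20) (kgi xgi17 ygi36 zgi50) (kgi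 xgi15 ygi10 zgi0) (kgi xgi8 ygi3 zgi19) (kgi xgi9 ygi52 zgi33) (kgi xgi15 ygi12 zgi47) (kgi xgi5 ygi8 zgi53) (kgi xgi9 ygi0 zgi58) (kgi xgi18 ygi27 zgi43) (kgi xgi15 ygi11 zgi22) (kgi xgi18 ygi27 zgi48) (kgi xgi18 ygi27 zgi51) (kgi xgi9 ygi22 zgi56) (kgi xgi18 ygi27 zgi55) (kgi xgi5 ygi8 zgi57) (kgi xgi15 ygi50 zgi45) (kgi xgi15 ygi50 zgi44) (kgi xgi5 ygi8 zgi58) (kgi xgi15 ygi11 zgi43) (kgi xgi15 ygi11 zgi41) (kgi xgi18 ygi28 zgi8) (kgi xgi18 ygi28 zgi11) (kgi xgi5 ygi8 zgi59) (kgi xgi5 ygi9 zgi4) (kgi xgi18 ygi28 zgi19) (kgi xgi5 ygi8 zgi60) (kgi xgi15 ygi11 zgi35) (kgi xgi18 ygi28 zgi26) (kgi xgi15 ygi11 zgi32) (kgi xgi5 ygi9 zgi11) (kgi xgi8 ygi28 zgi6) (kgi xgi15 ygi11 zgi58) (kgi xgi8 ygi44 zgi43) (kgi xgi5 ygi9 zgi2) (kgi xgi17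 ygi46 zgi56) (kgi xgi9 ygi58 zgi32) (kgi xgi5 ygi9 zgi3) (kgi xgi15 ygi11 zgi28) (kgi xgi15 ygi11 zgi26) (kgi xgi18 ygi28 zgi40) (kgi xgi18 ygi28 zgi44) (kgi xgi18 ygi28 zgi46) (kgi xgi15 ygi11 zgi49) (kgi xgi15 ygi11 zgi47) (kgi xgi5 ygi9 zgi14) (kgi xgi15 ygi53 zgi40) (kgi xgi15 ygi12 zgi3) (kgi xgi5 ygi9 zgi9) (kgi xgi15 ygi11 zgi61) (kgi xgi15 ygi11 zgi59) (kgi xgi18 ygi28 zgi60) (kgi xgi5 ygi9 zgi10) (kgi xgi18 ygi29 zgi0) (kgi xgi9 ygi58 zgi5) (kgi xgi5 ygi9 zgi12) (kgi xgi15 ygi11 zgi53) (kgi xgi15 ygi11 zgi51) (kgi xgi18 ygi29 zgi12) (kgi xgi13 ygi7 zgi4)) (@D3.rec (fun _ => Pt) (kgi xgi17 ygi44 zgi11) (kgi xgi9 ygi35 zgi61) (kgi xgi5 ygi9 zgi15) (kgi xgi5 ygi9 zgi17) (kgi xgi14 ygi8 zgi47) (kgi xgi9 ygi57 zgi46) (kgi xgi13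 ygi26 zgi28) (kgi xgi18 ygi28 zgi32) (kgi xgi5 ygi9 zgi19) (kgi xgi18 ygi28 zgi52) (kgi xgi18 ygi29 zgi20) (kgi xgi18 ygi29 zgi23) (kgi xgi18 ygi29 zgi40) (kgi xgi15 ygi13 zgi52) (kgi xgi5 ygi9 zgi18) (kgi xgi15 ygi13 zgi54) (kgi xgi18 ygi29 zgi49) (kgi xgi18 ygi29 zgi52) (kgi xgi18 ygi29 zgi55) (kgi xgi18 ygi28 zgi58) (kgi xgi14 ygi8 zgi46) (kgi xgi18 ygi29 zgi8) (kgi xgi18 ygi30 zgi2) (kgi xgi5 ygi9 zgi22) (kgi xgi15 ygi12 zgi27) (kgi xgi15 ygi12 zgi25) (kgi xgi5 ygi9 zgi23) (kgi xgi9 ygi52 zgi16) (kgi xgi18 ygi30 zgi18) (kgi xgi8 ygi26 zgi21) (kgi xgi8 ygi5 zgi60) (kgi xgi10 ygi7 zgi53) (kgi xgi9 ygi39 zgi28) (kgi xgi9 ygi53 zgi24) (kgi xgi16 ygi19 zgi18) (kgi xgi15 ygi11 zgi50) (kgi xgi10 ygi42 zgi31) (kgi xgi18 ygi30 zgi30) (kgi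 xgi10 ygi32 zgi57) (kgi xgi17 ygi47 zgi58) (kgi xgi18 ygi30 zgi37) (kgi xgi5 ygi21 zgi24) (kgi xgi18 ygi30 zgi42) (kgi xgi5 ygi9 zgi43) (kgi xgi10 ygi16 zgi49) (kgi xgi5 ygi9 zgi32) (kgi xgi5 ygi20 zgi15) (kgi xgi9 ygi33 zgi21) (kgi xgi18 ygi30 zgi49) (kgi xgi15 ygi0 zgi39) (kgi xgi18 ygi30 zgi55) (kgi xgi5 ygi9 zgi34) (kgi xgi9 ygi56 zgi36) (kgi xgi9 ygi55 zgi37) (kgi xgi5 ygi17 zgi2) (kgi xgi11 ygi54 zgi59) (kgi xgi18 ygi31 zgi0) (kgi xgi15 ygi0 zgi36) (kgi xgi18 ygi31 zgi5) (kgi xgi18 ygi31 zgi8) (kgi xgi18 ygi30 zgi59) (kgi xgi18 ygi31 zgi13)) (@D3.rec (fun _ => Pt) (kgi xgi17 ygi47 zgi7) (kgi xgi5 ygi9 zgi40) (kgi xgi9 ygi56 zgi45) (kgi xgi9 ygi56 zgi43) (kgi xgi18 ygi31 zgi24) (kgi xgi18 ygi14 zgi56) (kgi xgi5 ygi9 zgi41) (kgi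 xgi15 ygi0 zgi52) (kgi xgi18 ygi31 zgi32) (kgi xgi5 ygi9 zgi42) (kgi xgi18 ygi30 zgi44) (kgi xgi18 ygi31 zgi41) (kgi xgi18 ygi20 zgi10) (kgi xgi9 ygi39 zgi30) (kgi xgi10 ygi32 zgi58) (kgi xgi9 ygi52 zgi26) (kgi xgi18 ygi31 zgi43) (kgi xgi17 ygi46 zgi50) (kgi xgi18 ygi31 zgi51) (kgi xgi18 ygi31 zgi55) (kgi xgi5 ygi9 zgi47) (kgi xgi9 ygi52 zgi35) (kgi xgi5 ygi9 zgi48) (kgi xgi9 ygi55 zgi42) (kgi xgi9 ygi55 zgi40) (kgi xgi18 ygi32 zgi5) (kgi xgi5 ygi9 zgi49) (kgi xgi9 ygi55 zgi36) (kgi xgi9 ygi55 zgi33) (kgi xgi5 ygi10 zgi6) (kgi xgi5 ygi9 zgi53) (kgi xgi9 ygi55 zgi29) (kgi xgi9 ygi55 zgi27) (kgi xgi6 ygi11 zgi30) (kgi xgi18 ygi32 zgi18) (kgi xgi18 ygi20 zgi33) (kgi xgi18 ygi1 zgi13) (kgi xgi18 ygi32 zgi17) (kgi xgi18 ygi32 zgi28) (kgi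 xgi9 ygi57 zgi6) (kgi xgi12 ygi24 zgi42) (kgi xgi9 ygi57 zgi4) (kgi xgi17 ygi9 zgi47) (kgi xgi17 ygi57 zgi57) (kgi xgi5 ygi9 zgi58) (kgi xgi18 ygi14 zgi58) (kgi xgi12 ygi24 zgi46) (kgi xgi9 ygi56 zgi13) (kgi xgi10 ygi19 zgi52) (kgi xgi18 ygi32 zgi2) (kgi xgi18 ygi32 zgi44) (kgi xgi10 ygi27 zgi49) (kgi xgi11 ygi23 zgi22) (kgi xgi9 ygi40 zgi19) (kgi xgi18 ygi32 zgi50) (kgi xgi9 ygi40 zgi22) (kgi xgi18 ygi32 zgi53) (kgi xgi9 ygi54 zgi56) (kgi xgi9 ygi54 zgi54) (kgi xgi18 ygi32 zgi58) (kgi xgi9 ygi56 zgi51) (kgi xgi18 ygi32 zgi56)) (@D3.rec (fun _ => Pt) (kgi xgi5 ygi10 zgi9) (kgi xgi9 ygi55 zgi9) (kgi xgi9 ygi55 zgi7) (kgi xgi18 ygi33 zgi9) (kgi xgi18 ygi31 zgi21) (kgi xgi18 ygi33 zgi15) (kgi xgi5 ygi10 zgi11) (kgi xgi18 ygi33 zgi21)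 (kgi xgi17 ygi47 zgi5) (kgi xgi10 ygi27 zgi57) (kgi xgi5 ygi10 zgi13) (kgi xgi11 ygi10 zgi29) (kgi xgi18 ygi33 zgi31) (kgi xgi12 ygi57 zgi46) (kgi xgi8 ygi13 zgi53) (kgi xgi18 ygi33 zgi35) (kgi xgi17 ygi47 zgi46) (kgi xgi9 ygi57 zgi12) (kgi xgi18 ygi20 zgi37) (kgi xgi17 ygi47 zgi41) (kgi xgi18 ygi33 zgi44) (kgi xgi9 ygi56 zgi8) (kgi xgi9 ygi56 zgi61) (kgi xgi5 ygi10 zgi19) (kgi xgi18 ygi33 zgi47) (kgi xgi5 ygi10 zgi20) (kgi xgi18 ygi32 zgi30) (kgi xgi9 ygi57 zgi13) (kgi xgi18 ygi32 zgi15) (kgi xgi10 ygi48 zgi61) (kgi xgi8 ygi10 zgi14) (kgi xgi18 ygi33 zgi56) (kgi xgi18 ygi33 zgi58) (kgi xgi9 ygi58 zgi25) (kgi xgi18 ygi34 zgi2) (kgi xgi5 ygi10 zgi29) (kgi xgi5 ygi10 zgi36) (kgi xgi5 ygi10 zgi34) (kgi xgi18 ygi34 zgi9) (kgi xgi10 ygi0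 zgi37) (kgi xgi5 ygi10 zgi31) (kgi xgi9 ygi58 zgi22) (kgi xgi9 ygi58 zgi20) (kgi xgi18 ygi12 zgi5) (kgi xgi18 ygi34 zgi21) (kgi xgi18 ygi34 zgi25) (kgi xgi5 ygi10 zgi33) (kgi xgi18 ygi34 zgi4) (kgi xgi18 ygi34 zgi33) (kgi xgi18 ygi34 zgi1) (kgi xgi9 ygi39 zgi31) (kgi xgi10 ygi33 zgi0) (kgi xgi15 ygi2 zgi17) (kgi xgi9 ygi53 zgi22) (kgi xgi18 ygi34 zgi37) (kgi xgi17 ygi49 zgi56) (kgi xgi17 ygi48 zgi1) (kgi xgi18 ygi34 zgi47) (kgi xgi10 ygi0 zgi39) (kgi xgi9 ygi54 zgi23) (kgi xgi10 ygi13 zgi53) (kgi xgi9 ygi58 zgi44)) (@D3.rec (fun _ => Pt) (kgi xgi18 ygi34 zgi54) (kgi xgi5 ygi10 zgi41) (kgi xgi18 ygi34 zgi56) (kgi xgi18 ygi35 zgi2) (kgi xgi18 ygi34 zgi53) (kgi xgi11 ygi12 zgi39) (kgi xgi9 ygi20 zgi1) (kgi xgi17 ygi56 zgi43) (kgi xgi13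 ygi14 zgi41) (kgi xgi9 ygi58 zgi4) (kgi xgi9 ygi12 zgi29) (kgi xgi9 ygi50 zgi57) (kgi xgi9 ygi52 zgi4) (kgi xgi15 ygi3 zgi24) (kgi xgi9 ygi59 zgi38) (kgi xgi18 ygi32 zgi8) (kgi xgi5 ygi32 zgi4) (kgi xgi18 ygi35 zgi11) (kgi xgi11 ygi10 zgi59) (kgi xgi8 ygi57 zgi43) (kgi xgi17 ygi47 zgi61) (kgi xgi5 ygi10 zgi53) (kgi xgi9 ygi57 zgi26) (kgi xgi9 ygi57 zgi24) (kgi xgi18 ygi9 zgi26) (kgi xgi18 ygi9 zgi46) (kgi xgi18 ygi31 zgi15) (kgi xgi5 ygi10 zgi55) (kgi xgi17 ygi47 zgi18) (kgi xgi18 ygi35 zgi28) (kgi xgi17 ygi47 zgi15) (kgi xgi9 ygi39 zgi25) (kgi xgi9 ygi39 zgi50) (kgi xgi9 ygi43 zgi36) (kgi xgi15 ygi11 zgi40) (kgi xgi17 ygi47 zgi36) (kgi xgi10 ygi27 zgi12) (kgi xgi5 ygi16 zgi36) (kgi xgi17 ygi47 zgi48) (kgi xgi18 ygi34 zgi50) (kgi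 xgi9 ygi57 zgi50) (kgi xgi18 ygi34 zgi59) (kgi xgi12 ygi54 zgi26) (kgi xgi5 ygi11 zgi1) (kgi xgi18 ygi9 zgi48) (kgi xgi18 ygi35 zgi37) (kgi xgi10 ygi27 zgi23) (kgi xgi5 ygi11 zgi38) (kgi xgi8 ygi57 zgi40) (kgi xgi9 ygi54 zgi14) (kgi xgi10 ygi0 zgi7) (kgi xgi18 ygi35 zgi45) (kgi xgi18 ygi35 zgi48) (kgi xgi5 ygi11 zgi45) (kgi xgi10 ygi0 zgi36) (kgi xgi9 ygi59 zgi44) (kgi xgi10 ygi27 zgi13) (kgi xgi6 ygi11 zgi6) (kgi xgi9 ygi59 zgi23) (kgi xgi18 ygi35 zgi61) (kgi xgi5 ygi11 zgi13) (kgi xgi9 ygi59 zgi21)) (@D3.rec (fun _ => Pt) (kgi xgi10 ygi14 zgi50) (kgi xgi18 ygi36 zgi3) (kgi xgi9 ygi25 zgi28) (kgi xgi5 ygi11 zgi15) (kgi xgi14 ygi43 zgi6) (kgi xgi18 ygi36 zgi15) (kgi xgi18 ygi35 zgi60) (kgi xgi12 ygi26 zgi3) (kgi xgi9 ygi59 zgi14)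 (kgi xgi9 ygi59 zgi11) (kgi xgi9 ygi59 zgi59) (kgi xgi16 ygi35 zgi58) (kgi xgi5 ygi11 zgi30) (kgi xgi6 ygi58 zgi19) (kgi xgi18 ygi35 zgi53) (kgi xgi9 ygi58 zgi60) (kgi xgi18 ygi36 zgi10) (kgi xgi5 ygi11 zgi22) (kgi xgi9 ygi58 zgi58) (kgi xgi12 ygi29 zgi3) (kgi xgi14 ygi43 zgi8) (kgi xgi5 ygi11 zgi24) (kgi xgi14 ygi43 zgi7) (kgi xgi12 ygi59 zgi5) (kgi xgi18 ygi36 zgi25) (kgi xgi9 ygi32 zgi39) (kgi xgi10 ygi0 zgi20) (kgi xgi9 ygi59 zgi15) (kgi xgi18 ygi13 zgi50) (kgi xgi17 ygi59 zgi35) (kgi xgi18 ygi35 zgi12) (kgi xgi18 ygi36 zgi21) (kgi xgi9 ygi58 zgi57) (kgi xgi5 ygi18 zgi9) (kgi xgi13 ygi10 zgi46) (kgi xgi18 ygi36 zgi51) (kgi xgi18 ygi36 zgi22) (kgi xgi5 ygi11 zgi31) (kgi xgi5 ygi11 zgi36) (kgi xgi18 ygi36 zgi58) (kgi xgi18 ygi37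 zgi2) (kgi xgi17 ygi54 zgi6) (kgi xgi18 ygi28 zgi36) (kgi xgi5 ygi11 zgi32) (kgi xgi18 ygi37 zgi8) (kgi xgi12 ygi40 zgi44) (kgi xgi9 ygi59 zgi4) (kgi xgi5 ygi11 zgi33) (kgi xgi18 ygi36 zgi18) (kgi xgi9 ygi58 zgi7) (kgi xgi9 ygi58 zgi56) (kgi xgi5 ygi11 zgi35) (kgi xgi18 ygi34 zgi13) (kgi xgi10 ygi11 zgi57) (kgi xgi18 ygi22 zgi16) (kgi xgi18 ygi37 zgi25) (kgi xgi8 ygi5 zgi58) (kgi xgi18 ygi37 zgi1) (kgi xgi18 ygi37 zgi32) (kgi xgi18 ygi37 zgi7) (kgi xgi18 ygi37 zgi37) (kgi xgi18 ygi35 zgi41)) (@D3.rec (fun _ => Pt) (kgi xgi17 ygi13 zgi23) (kgi xgi18 ygi35 zgi42) (kgi xgi10 ygi6 zgi25) (kgi xgi17 ygi59 zgi11) (kgi xgi18 ygi36 zgi46) (kgi xgi18 ygi37 zgi45) (kgi xgi18 ygi37 zgi48) (kgi xgi18 ygi35 zgi46) (kgi xgi11 ygi38 zgi41) (kgi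 xgi18 ygi37 zgi53) (kgi xgi5 ygi11 zgi42) (kgi xgi10 ygi6 zgi27) (kgi xgi18 ygi37 zgi59) (kgi xgi18 ygi37 zgi61) (kgi xgi5 ygi11 zgi43) (kgi xgi18 ygi0 zgi9) (kgi xgi5 ygi11 zgi44) (kgi xgi9 ygi59 zgi34) (kgi xgi18 ygi38 zgi11) (kgi xgi9 ygi59 zgi17) (kgi xgi18 ygi38 zgi12) (kgi xgi18 ygi38 zgi15) (kgi xgi5 ygi11 zgi46) (kgi xgi10 ygi0 zgi25) (kgi xgi10 ygi0 zgi23) (kgi xgi18 ygi38 zgi19) (kgi xgi5 ygi11 zgi48) (kgi xgi10 ygi0 zgi30) (kgi xgi18 ygi38 zgi22) (kgi xgi10 ygi0 zgi28) (kgi xgi18 ygi35 zgi58) (kgi xgi9 ygi44 zgi28) (kgi xgi18 ygi38 zgi25) (kgi xgi6 ygi9 zgi49) (kgi xgi15 ygi30 zgi39) (kgi xgi18 ygi38 zgi18) (kgi xgi9 ygi59 zgi20) (kgi xgi9 ygi58 zgi19) (kgi xgi10 ygi10 zgi17) (kgi xgi17 ygi47 zgi20) (kgi xgi9 ygi58 zgi41)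 (kgi xgi12 ygi28 zgi45) (kgi xgi18 ygi38 zgi38) (kgi xgi5 ygi19 zgi32) (kgi xgi18 ygi38 zgi42) (kgi xgi5 ygi11 zgi60) (kgi xgi10 ygi3 zgi12) (kgi xgi10 ygi2 zgi19) (kgi xgi10 ygi30 zgi11) (kgi xgi5 ygi19 zgi29) (kgi xgi18 ygi15 zgi47) (kgi xgi5 ygi16 zgi27) (kgi xgi13 ygi30 zgi10) (kgi xgi5 ygi12 zgi3) (kgi xgi10 ygi3 zgi20) (kgi xgi10 ygi3 zgi18) (kgi xgi10 ygi26 zgi25) (kgi xgi18 ygi38 zgi49) (kgi xgi18 ygi38 zgi53) (kgi xgi5 ygi12 zgi5) (kgi xgi10 ygi28 zgi23) (kgi xgi18 ygi38 zgi61)) (@D3.rec (fun _ => Pt) (kgi xgi10 ygi28 zgi20) (kgi xgi5 ygi19 zgi9) (kgi xgi17 ygi45 zgi44) (kgi xgi18 ygi39 zgi2) (kgi xgi10 ygi30 zgi28) (kgi xgi5 ygi12 zgi10) (kgi xgi10 ygi20 zgi4) (kgi xgi10 ygi20 zgi2) (kgi xgi5 ygi13 zgi6) (kgi xgi9 ygi53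 zgi19) (kgi xgi18 ygi39 zgi10) (kgi xgi18 ygi39 zgi13) (kgi xgi13 ygi30 zgi11) (kgi xgi9 ygi42 zgi35) (kgi xgi18 ygi39 zgi12) (kgi xgi16 ygi21 zgi3) (kgi xgi18 ygi39 zgi22) (kgi xgi5 ygi12 zgi19) (kgi xgi18 ygi39 zgi24) (kgi xgi18 ygi36 zgi36) (kgi xgi18 ygi39 zgi21) (kgi xgi18 ygi4 zgi24) (kgi xgi10 ygi26 zgi24) (kgi xgi10 ygi5 zgi25) (kgi xgi5 ygi12 zgi28) (kgi xgi5 ygi12 zgi30) (kgi xgi11 ygi41 zgi32) (kgi xgi6 ygi32 zgi18) (kgi xgi11 ygi13 zgi55) (kgi xgi5 ygi45 zgi21) (kgi xgi5 ygi45 zgi44) (kgi xgi18 ygi39 zgi39) (kgi xgi11 ygi36 zgi14) (kgi xgi18 ygi39 zgi45) (kgi xgi5 ygi12 zgi36) (kgi xgi11 ygi17 zgi42) (kgi xgi8 ygi11 zgi49) (kgi xgi8 ygi59 zgi57) (kgi xgi5 ygi12 zgi37) (kgi xgi18 ygi39 zgi7) (kgi xgi10 ygi35 zgi30) (kgi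 xgi18 ygi39 zgi54) (kgi xgi8 ygi13 zgi2) (kgi xgi18 ygi39 zgi56) (kgi xgi18 ygi39 zgi58) (kgi xgi18 ygi13 zgi3) (kgi xgi5 ygi12 zgi42) (kgi xgi10 ygi0 zgi54) (kgi xgi10 ygi0 zgi52) (kgi xgi18 ygi40 zgi1) (kgi xgi5 ygi12 zgi44) (kgi xgi10 ygi1 zgi4) (kgi xgi10 ygi1 zgi2) (kgi xgi18 ygi40 zgi10) (kgi xgi18 ygi40 zgi14) (kgi xgi18 ygi40 zgi17) (kgi xgi5 ygi12 zgi46) (kgi xgi18 ygi40 zgi23) (kgi xgi11 ygi3 zgi23) (kgi xgi8 ygi38 zgi38) (kgi xgi10 ygi29 zgi15) (kgi xgi16 ygi14 zgi25)) (@D3.rec (fun _ => Pt) (kgi xgi5 ygi12 zgi49) (kgi xgi15 ygi12 zgi31) (kgi xgi18 ygi10 zgi2) (kgi xgi15 ygi12 zgi29) (kgi xgi18 ygi40 zgi32) (kgi xgi18 ygi40 zgi35) (kgi xgi10 ygi1 zgi17) (kgi xgi8 ygi38 zgi58) (kgi xgi7 ygi5 zgi42) (kgi xgi18 ygi40 zgi40)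 (kgi xgi5 ygi12 zgi56) (kgi xgi10 ygi1 zgi24) (kgi xgi5 ygi46 zgi31) (kgi xgi11 ygi39 zgi34) (kgi xgi8 ygi49 zgi13) (kgi xgi15 ygi13 zgi48) (kgi xgi18 ygi40 zgi47) (kgi xgi18 ygi40 zgi43) (kgi xgi18 ygi40 zgi52) (kgi xgi18 ygi40 zgi55) (kgi xgi18 ygi40 zgi58) (kgi xgi5 ygi13 zgi1) (kgi xgi16 ygi11 zgi50) (kgi xgi16 ygi11 zgi48) (kgi xgi7 ygi19 zgi36) (kgi xgi18 ygi41 zgi7) (kgi xgi8 ygi52 zgi39) (kgi xgi18 ygi41 zgi11) (kgi xgi8 ygi52 zgi42) (kgi xgi18 ygi41 zgi16) (kgi xgi10 ygi1 zgi44) (kgi xgi10 ygi1 zgi42) (kgi xgi16 ygi26 zgi5) (kgi xgi5 ygi16 zgi18) (kgi xgi10 ygi3 zgi26) (kgi xgi12 ygi6 zgi35) (kgi xgi8 ygi52 zgi33) (kgi xgi18 ygi41 zgi19) (kgi xgi5 ygi13 zgi9) (kgi xgi10 ygi1 zgi56) (kgi xgi10 ygi1 zgi54) (kgi xgi12 ygi47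 zgi3) (kgi xgi5 ygi13 zgi10) (kgi xgi8 ygi52 zgi6) (kgi xgi8 ygi10 zgi59) (kgi xgi8 ygi52 zgi0) (kgi xgi5 ygi13 zgi13) (kgi xgi10 ygi31 zgi25) (kgi xgi9 ygi3 zgi43) (kgi xgi5 ygi13 zgi15) (kgi xgi17 ygi34 zgi39) (kgi xgi5 ygi22 zgi2) (kgi xgi18 ygi41 zgi39) (kgi xgi18 ygi41 zgi42) (kgi xgi10 ygi3 zgi45) (kgi xgi18 ygi32 zgi10) (kgi xgi18 ygi41 zgi41) (kgi xgi18 ygi41 zgi50) (kgi xgi10 ygi3 zgi38) (kgi xgi5 ygi13 zgi19) (kgi xgi10 ygi39 zgi5) (kgi xgi13 ygi41 zgi44)) (@D3.rec (fun _ => Pt) (kgi xgi9 ygi43 zgi61) (kgi xgi5 ygi13 zgi22) (kgi xgi5 ygi17 zgi3) (kgi xgi15 ygi30 zgi54) (kgi xgi5 ygi17 zgi46) (kgi xgi10 ygi20 zgi43) (kgi xgi18 ygi41 zgi58) (kgi xgi5 ygi13 zgi26) (kgi xgi10 ygi43 zgi15) (kgi xgi11 ygi57 zgi45) (kgi xgi5 ygi13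 zgi28) (kgi xgi9 ygi10 zgi15) (kgi xgi17 ygi25 zgi27) (kgi xgi17 ygi10 zgi58) (kgi xgi5 ygi13 zgi29) (kgi xgi9 ygi15 zgi17) (kgi xgi9 ygi7 zgi45) (kgi xgi6 ygi2 zgi43) (kgi xgi18 ygi42 zgi13) (kgi xgi11 ygi35 zgi40) (kgi xgi11 ygi25 zgi9) (kgi xgi6 ygi31 zgi19) (kgi xgi10 ygi4 zgi6) (kgi xgi9 ygi15 zgi44) (kgi xgi5 ygi13 zgi34) (kgi xgi6 ygi32 zgi20) (kgi xgi11 ygi33 zgi44) (kgi xgi6 ygi26 zgi1) (kgi xgi5 ygi54 zgi20) (kgi xgi10 ygi4 zgi7) (kgi xgi15 ygi10 zgi17) (kgi xgi18 ygi42 zgi25) (kgi xgi15 ygi30 zgi41) (kgi xgi12 ygi48 zgi19) (kgi xgi18 ygi42 zgi33) (kgi xgi5 ygi13 zgi43) (kgi xgi15 ygi47 zgi33) (kgi xgi18 ygi42 zgi43) (kgi xgi15 ygi47 zgi31) (kgi xgi18 ygi42 zgi46) (kgi xgi5 ygi13 zgi46) (kgi xgi9 ygi10 zgi13) (kgi xgi18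 ygi42 zgi3) (kgi xgi15 ygi26 zgi26) (kgi xgi5 ygi13 zgi47) (kgi xgi6 ygi50 zgi50) (kgi xgi10 ygi4 zgi39) (kgi xgi18 ygi42 zgi45) (kgi xgi6 ygi36 zgi42) (kgi xgi9 ygi7 zgi41) (kgi xgi6 ygi26 zgi2) (kgi xgi5 ygi13 zgi50) (kgi xgi10 ygi4 zgi43) (kgi xgi10 ygi4 zgi40) (kgi xgi11 ygi57 zgi36) (kgi xgi10 ygi7 zgi17) (kgi xgi5 ygi47 zgi59) (kgi xgi6 ygi16 zgi1) (kgi xgi8 ygi3 zgi30) (kgi xgi8 ygi12 zgi12) (kgi xgi17 ygi16 zgi35) (kgi xgi10 ygi5 zgi3)) (@D3.rec (fun _ => Pt) (kgi xgi18 ygi43 zgi6) (kgi xgi7 ygi49 zgi3) (kgi xgi10 ygi5 zgi28) (kgi xgi6 ygi51 zgi9) (kgi xgi12 ygi24 zgi50) (kgi xgi10 ygi5 zgi4) (kgi xgi5 ygi41 zgi48) (kgi xgi18 ygi43 zgi14) (kgi xgi5 ygi14 zgi4) (kgi xgi18 ygi43 zgi4) (kgi xgi18 ygi43 zgi3) (kgi xgi9 ygi1 zgi51)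 (kgi xgi10 ygi5 zgi22) (kgi xgi6 ygi30 zgi35) (kgi xgi11 ygi8 zgi35) (kgi xgi6 ygi8 zgi5) (kgi xgi9 ygi47 zgi32) (kgi xgi18 ygi21 zgi3) (kgi xgi6 ygi46 zgi22) (kgi xgi14 ygi2 zgi41) (kgi xgi5 ygi14 zgi20) (kgi xgi12 ygi15 zgi22) (kgi xgi10 ygi5 zgi52) (kgi xgi10 ygi5 zgi20) (kgi xgi8 ygi10 zgi34) (kgi xgi17 ygi26 zgi51) (kgi xgi18 ygi43 zgi25) (kgi xgi5 ygi14 zgi26) (kgi xgi10 ygi4 zgi59) (kgi xgi5 ygi14 zgi27) (kgi xgi10 ygi0 zgi8) (kgi xgi10 ygi0 zgi15) (kgi xgi6 ygi2 zgi39) (kgi xgi13 ygi1 zgi46) (kgi xgi5 ygi54 zgi33) (kgi xgi18 ygi43 zgi32) (kgi xgi11 ygi22 zgi9) (kgi xgi18 ygi43 zgi36) (kgi xgi5 ygi14 zgi33) (kgi xgi18 ygi43 zgi33) (kgi xgi18 ygi43 zgi31) (kgi xgi10 ygi5 zgi54) (kgi xgi5 ygi38 zgi33) (kgi xgi9 ygi5 zgi3) (kgi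 xgi10 ygi7 zgi16) (kgi xgi6 ygi8 zgi0) (kgi xgi14 ygi33 zgi15) (kgi xgi9 ygi48 zgi3) (kgi xgi11 ygi47 zgi6) (kgi xgi14 ygi33 zgi14) (kgi xgi6 ygi50 zgi39) (kgi xgi17 ygi12 zgi44) (kgi xgi10 ygi6 zgi17) (kgi xgi5 ygi14 zgi48) (kgi xgi18 ygi43 zgi44) (kgi xgi6 ygi30 zgi40) (kgi xgi18 ygi38 zgi20) (kgi xgi6 ygi11 zgi0) (kgi xgi18 ygi43 zgi46) (kgi xgi9 ygi47 zgi47) (kgi xgi9 ygi47 zgi56) (kgi xgi6 ygi10 zgi51)) (@D3.rec (fun _ => Pt) (kgi xgi5 ygi40 zgi13) (kgi xgi5 ygi50 zgi45) (kgi xgi9 ygi47 zgi59) (kgi xgi9 ygi47 zgi61) (kgi xgi18 ygi43 zgi56) (kgi xgi5 ygi14 zgi50) (kgi xgi10 ygi5 zgi2) (kgi xgi10 ygi49 zgi7) (kgi xgi18 ygi43 zgi17) (kgi xgi10 ygi7 zgi0) (kgi xgi18 ygi43 zgi59) (kgi xgi8 ygi29 zgi42) (kgi xgi5 ygi14 zgi55) (kgi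 xgi10 ygi45 zgi57) (kgi xgi10 ygi45 zgi55) (kgi xgi18 ygi44 zgi10) (kgi xgi8 ygi29 zgi37) (kgi xgi18 ygi44 zgi14) (kgi xgi15 ygi0 zgi58) (kgi xgi9 ygi37 zgi8) (kgi xgi8 ygi18 zgi31) (kgi xgi5 ygi31 zgi23) (kgi xgi5 ygi14 zgi60) (kgi xgi16 ygi44 zgi2) (kgi xgi16 ygi44 zgi0) (kgi xgi18 ygi44 zgi28) (kgi xgi5 ygi14 zgi61) (kgi xgi18 ygi44 zgi34) (kgi xgi5 ygi25 zgi52) (kgi xgi18 ygi44 zgi37) (kgi xgi18 ygi44 zgi40) (kgi xgi8 ygi26 zgi13) (kgi xgi17 ygi23 zgi28) (kgi xgi15 ygi36 zgi16) (kgi xgi10 ygi24 zgi42) (kgi xgi18 ygi44 zgi49) (kgi xgi9 ygi23 zgi10) (kgi xgi18 ygi13 zgi39) (kgi xgi5 ygi15 zgi51) (kgi xgi5 ygi15 zgi49) (kgi xgi18 ygi44 zgi59) (kgi xgi9 ygi24 zgi44) (kgi xgi10 ygi26 zgi51) (kgi xgi5 ygi15 zgi7) (kgi xgi18 ygi45 zgi4)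 (kgi xgi18 ygi45 zgi9) (kgi xgi18 ygi45 zgi15) (kgi xgi18 ygi45 zgi5) (kgi xgi5 ygi16 zgi13) (kgi xgi17 ygi18 zgi56) (kgi xgi10 ygi26 zgi16) (kgi xgi18 ygi45 zgi24) (kgi xgi16 ygi15 zgi20) (kgi xgi5 ygi15 zgi13) (kgi xgi9 ygi52 zgi29) (kgi xgi8 ygi40 zgi50) (kgi xgi8 ygi27 zgi15) (kgi xgi18 ygi12 zgi30) (kgi xgi11 ygi45 zgi47) (kgi xgi15 ygi55 zgi13) (kgi xgi5 ygi15 zgi19) (kgi xgi18 ygi44 zgi38)) (@D3.rec (fun _ => Pt) (kgi xgi11 ygi56 zgi61) (kgi xgi18 ygi45 zgi34) (kgi xgi5 ygi15 zgi22) (kgi xgi10 ygi15 zgi7) (kgi xgi10 ygi15 zgi5) (kgi xgi18 ygi13 zgi15) (kgi xgi18 ygi45 zgi39) (kgi xgi10 ygi25 zgi7) (kgi xgi5 ygi15 zgi25) (kgi xgi18 ygi44 zgi44) (kgi xgi18 ygi44 zgi43) (kgi xgi18 ygi45 zgi47) (kgi xgi5 ygi15 zgi26) (kgi xgi5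 ygi15 zgi27) (kgi xgi15 ygi39 zgi12) (kgi xgi15 ygi39 zgi9) (kgi xgi15 ygi50 zgi41) (kgi xgi10 ygi24 zgi59) (kgi xgi18 ygi45 zgi55) (kgi xgi10 ygi9 zgi38) (kgi xgi9 ygi42 zgi23) (kgi xgi5 ygi15 zgi32) (kgi xgi10 ygi16 zgi45) (kgi xgi5 ygi35 zgi32) (kgi xgi18 ygi46 zgi1) (kgi xgi5 ygi27 zgi47) (kgi xgi5 ygi15 zgi35) (kgi xgi18 ygi46 zgi5) (kgi xgi15 ygi24 zgi60) (kgi xgi5 ygi17 zgi1) (kgi xgi5 ygi15 zgi37) (kgi xgi18 ygi44 zgi41) (kgi xgi18 ygi44 zgi39) (kgi xgi18 ygi46 zgi16) (kgi xgi10 ygi36 zgi8) (kgi xgi10 ygi21 zgi57) (kgi xgi5 ygi15 zgi39) (kgi xgi18 ygi22 zgi23) (kgi xgi18 ygi46 zgi24) (kgi xgi18 ygi44 zgi47) (kgi xgi18 ygi22 zgi25) (kgi xgi5 ygi30 zgi11) (kgi xgi18 ygi46 zgi28) (kgi xgi10 ygi47 zgi39) (kgi xgi18 ygi46 zgi33)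 (kgi xgi8 ygi16 zgi9) (kgi xgi5 ygi15 zgi44) (kgi xgi10 ygi29 zgi16) (kgi xgi18 ygi9 zgi32) (kgi xgi10 ygi26 zgi19) (kgi xgi5 ygi15 zgi46) (kgi xgi15 ygi36 zgi20) (kgi xgi15 ygi36 zgi18) (kgi xgi9 ygi25 zgi58) (kgi xgi18 ygi46 zgi49) (kgi xgi5 ygi15 zgi47) (kgi xgi18 ygi46 zgi54) (kgi xgi5 ygi15 zgi48) (kgi xgi18 ygi44 zgi56) (kgi xgi18 ygi46 zgi61) (kgi xgi18 ygi44 zgi54) (kgi xgi5 ygi16 zgi0)) (@D3.rec (fun _ => Pt) (kgi xgi10 ygi53 zgi38) (kgi xgi18 ygi27 zgi57) (kgi xgi5 ygi31 zgi24) (kgi xgi18 ygi47 zgi6) (kgi xgi9 ygi56 zgi30) (kgi xgi18 ygi13 zgi37) (kgi xgi5 ygi15 zgi53) (kgi xgi16 ygi13 zgi43) (kgi xgi10 ygi26 zgi49) (kgi xgi5 ygi15 zgi54) (kgi xgi18 ygi44 zgi50) (kgi xgi18 ygi44 zgi48) (kgi xgi18 ygi47 zgi20) (kgi xgi18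 ygi47 zgi24) (kgi xgi17 ygi11 zgi33) (kgi xgi5 ygi15 zgi56) (kgi xgi15 ygi36 zgi14) (kgi xgi18 ygi47 zgi34) (kgi xgi15 ygi36 zgi10) (kgi xgi5 ygi16 zgi3) (kgi xgi15 ygi15 zgi22) (kgi xgi18 ygi45 zgi3) (kgi xgi5 ygi15 zgi60) (kgi xgi18 ygi44 zgi60) (kgi xgi18 ygi44 zgi58) (kgi xgi18 ygi47 zgi47) (kgi xgi18 ygi47 zgi49) (kgi xgi5 ygi15 zgi61) (kgi xgi18 ygi47 zgi54) (kgi xgi18 ygi47 zgi57) (kgi xgi10 ygi26 zgi37) (kgi xgi5 ygi16 zgi1) (kgi xgi18 ygi27 zgi52) (kgi xgi18 ygi27 zgi50) (kgi xgi18 ygi48 zgi6) (kgi xgi14 ygi14 zgi29) (kgi xgi18 ygi48 zgi13) (kgi xgi18 ygi48 zgi15) (kgi xgi15 ygi36 zgi8) (kgi xgi5 ygi16 zgi4) (kgi xgi12 ygi3 zgi45) (kgi xgi9 ygi24 zgi41) (kgi xgi18 ygi35 zgi3) (kgi xgi5 ygi16 zgi8) (kgi xgi18 ygi7 zgi14) (kgi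 xgi18 ygi48 zgi21) (kgi xgi5 ygi25 zgi37) (kgi xgi16 ygi54 zgi0) (kgi xgi5 ygi16 zgi7) (kgi xgi18 ygi48 zgi36) (kgi xgi18 ygi48 zgi42) (kgi xgi16 ygi54 zgi10) (kgi xgi5 ygi25 zgi30) (kgi xgi18 ygi47 zgi43) (kgi xgi18 ygi48 zgi1) (kgi xgi18 ygi48 zgi49) (kgi xgi5 ygi42 zgi56) (kgi xgi18 ygi48 zgi53) (kgi xgi5 ygi16 zgi12) (kgi xgi18 ygi45 zgi21) (kgi xgi15 ygi55 zgi7) (kgi xgi17 ygi18 zgi47)) (@D3.rec (fun _ => Pt) (kgi xgi5 ygi16 zgi14) (kgi xgi10 ygi23 zgi61) (kgi xgi18 ygi49 zgi4) (kgi xgi15 ygi36 zgi17) (kgi xgi10 ygi2 zgi38) (kgi xgi10 ygi25 zgi42) (kgi xgi5 ygi19 zgi7) (kgi xgi10 ygi25 zgi14) (kgi xgi15 ygi36 zgi5) (kgi xgi13 ygi29 zgi31) (kgi xgi10 ygi27 zgi47) (kgi xgi8 ygi45 zgi52) (kgi xgi5 ygi16 zgi19) (kgi xgi16 ygi35 zgi1)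 (kgi xgi16 ygi34 zgi61) (kgi xgi5 ygi21 zgi22) (kgi xgi8 ygi52 zgi40) (kgi xgi8 ygi54 zgi33) (kgi xgi16 ygi35 zgi10) (kgi xgi10 ygi37 zgi2) (kgi xgi10 ygi30 zgi29) (kgi xgi9 ygi24 zgi47) (kgi xgi8 ygi57 zgi17) (kgi xgi8 ygi57 zgi33) (kgi xgi16 ygi20 zgi55) (kgi xgi10 ygi30 zgi27) (kgi xgi18 ygi49 zgi34) (kgi xgi5 ygi16 zgi28) (kgi xgi10 ygi29 zgi51) (kgi xgi18 ygi49 zgi41) (kgi xgi10 ygi29 zgi48) (kgi xgi5 ygi19 zgi5) (kgi xgi5 ygi19 zgi33) (kgi xgi5 ygi32 zgi0) (kgi xgi10 ygi30 zgi7) (kgi xgi10 ygi27 zgi39) (kgi xgi18 ygi35 zgi54) (kgi xgi17 ygi48 zgi43) (kgi xgi18 ygi29 zgi22) (kgi xgi18 ygi49 zgi48) (kgi xgi18 ygi49 zgi51) (kgi xgi5 ygi16 zgi37) (kgi xgi5 ygi16 zgi42) (kgi xgi18 ygi49 zgi56) (kgi xgi18 ygi49 zgi61) (kgi xgi18 ygi50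 zgi2) (kgi xgi18 ygi47 zgi15) (kgi xgi5 ygi16 zgi38) (kgi xgi9 ygi57 zgi56) (kgi xgi5 ygi16 zgi39) (kgi xgi18 ygi35 zgi4) (kgi xgi9 ygi57 zgi61) (kgi xgi9 ygi58 zgi52) (kgi xgi5 ygi16 zgi41) (kgi xgi6 ygi34 zgi17) (kgi xgi6 ygi11 zgi11) (kgi xgi18 ygi50 zgi12) (kgi xgi15 ygi36 zgi15) (kgi xgi18 ygi49 zgi60) (kgi xgi18 ygi50 zgi18) (kgi xgi18 ygi50 zgi21) (kgi xgi17 ygi52 zgi28)) (@D3.rec (fun _ => Pt) (kgi xgi13 ygi37 zgi53) (kgi xgi5 ygi25 zgi34) (kgi xgi17 ygi0 zgi3) (kgi xgi16 ygi59 zgi40) (kgi xgi18 ygi49 zgi47) (kgi xgi18 ygi50 zgi30) (kgi xgi18 ygi22 zgi38) (kgi xgi18 ygi50 zgi29) (kgi xgi5 ygi16 zgi48) (kgi xgi16 ygi25 zgi27) (kgi xgi12 ygi44 zgi38) (kgi xgi18 ygi50 zgi43) (kgi xgi5 ygi16 zgi49) (kgi xgi6 ygi34 zgi24) (kgi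 xgi5 ygi16 zgi50) (kgi xgi17 ygi9 zgi42) (kgi xgi5 ygi34 zgi59) (kgi xgi18 ygi50 zgi52) (kgi xgi11 ygi2 zgi13) (kgi xgi18 ygi22 zgi35) (kgi xgi10 ygi26 zgi42) (kgi xgi10 ygi2 zgi5) (kgi xgi18 ygi50 zgi58) (kgi xgi9 ygi40 zgi40) (kgi xgi5 ygi29 zgi49) (kgi xgi8 ygi57 zgi15) (kgi xgi18 ygi51 zgi3) (kgi xgi5 ygi29 zgi46) (kgi xgi10 ygi56 zgi4) (kgi xgi5 ygi16 zgi58) (kgi xgi10 ygi49 zgi57) (kgi xgi10 ygi49 zgi55) (kgi xgi18 ygi51 zgi16) (kgi xgi5 ygi16 zgi59) (kgi xgi8 ygi6 zgi29) (kgi xgi18 ygi51 zgi24) (kgi xgi18 ygi51 zgi26) (kgi xgi18 ygi51 zgi28) (kgi xgi5 ygi26 zgi10) (kgi xgi11 ygi2 zgi31) (kgi xgi18 ygi51 zgi32) (kgi xgi8 ygi15 zgi9) (kgi xgi18 ygi51 zgi36) (kgi xgi8 ygi15 zgi35) (kgi xgi10 ygi20 zgi7) (kgi xgi18 ygi51 zgi43)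 (kgi xgi10 ygi24 zgi38) (kgi xgi5 ygi17 zgi55) (kgi xgi5 ygi17 zgi53) (kgi xgi18 ygi51 zgi48) (kgi xgi10 ygi15 zgi9) (kgi xgi7 ygi32 zgi42) (kgi xgi5 ygi17 zgi7) (kgi xgi18 ygi51 zgi52) (kgi xgi18 ygi51 zgi58) (kgi xgi18 ygi52 zgi3) (kgi xgi18 ygi51 zgi53) (kgi xgi5 ygi18 zgi16) (kgi xgi8 ygi15 zgi12) (kgi xgi17 ygi21 zgi19) (kgi xgi5 ygi18 zgi12) (kgi xgi10 ygi22 zgi0)) (@D3.rec (fun _ => Pt) (kgi xgi18 ygi52 zgi16) (kgi xgi8 ygi16 zgi33) (kgi xgi9 ygi39 zgi2) (kgi xgi18 ygi33 zgi28) (kgi xgi18 ygi52 zgi24) (kgi xgi15 ygi31 zgi17) (kgi xgi5 ygi17 zgi16) (kgi xgi15 ygi51 zgi57) (kgi xgi11 ygi4 zgi11) (kgi xgi8 ygi9 zgi40) (kgi xgi18 ygi52 zgi33) (kgi xgi8 ygi55 zgi49) (kgi xgi5 ygi17 zgi20) (kgi xgi11 ygi5 zgi18) (kgi xgi15 ygi28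 zgi14) (kgi xgi5 ygi17 zgi22) (kgi xgi18 ygi51 zgi27) (kgi xgi15 ygi30 zgi2) (kgi xgi11 ygi4 zgi24) (kgi xgi5 ygi17 zgi24) (kgi xgi15 ygi28 zgi47) (kgi xgi15 ygi28 zgi45) (kgi xgi5 ygi17 zgi25) (kgi xgi18 ygi52 zgi41) (kgi xgi18 ygi52 zgi47) (kgi xgi18 ygi52 zgi53) (kgi xgi18 ygi52 zgi42) (kgi xgi18 ygi52 zgi56) (kgi xgi15 ygi16 zgi3) (kgi xgi5 ygi17 zgi28) (kgi xgi8 ygi17 zgi8) (kgi xgi18 ygi52 zgi61) (kgi xgi10 ygi23 zgi50) (kgi xgi18 ygi53 zgi5) (kgi xgi5 ygi17 zgi30) (kgi xgi10 ygi2 zgi11) (kgi xgi10 ygi2 zgi9) (kgi xgi18 ygi53 zgi10) (kgi xgi8 ygi30 zgi45) (kgi xgi18 ygi53 zgi8) (kgi xgi18 ygi53 zgi17) (kgi xgi10 ygi23 zgi46) (kgi xgi10 ygi20 zgi39) (kgi xgi5 ygi17 zgi33) (kgi xgi18 ygi51 zgi37) (kgi xgi18 ygi51 zgi35) (kgi xgi18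 ygi53 zgi33) (kgi xgi18 ygi53 zgi36) (kgi xgi18 ygi53 zgi39) (kgi xgi5 ygi17 zgi35) (kgi xgi16 ygi0 zgi45) (kgi xgi17 ygi20 zgi25) (kgi xgi16 ygi0 zgi41) (kgi xgi15 ygi30 zgi50) (kgi xgi10 ygi20 zgi22) (kgi xgi18 ygi53 zgi45) (kgi xgi9 ygi56 zgi31) (kgi xgi5 ygi17 zgi40) (kgi xgi18 ygi53 zgi49) (kgi xgi10 ygi3 zgi27) (kgi xgi5 ygi17 zgi42) (kgi xgi18 ygi51 zgi33)) (@D3.rec (fun _ => Pt) (kgi xgi18 ygi51 zgi31) (kgi xgi18 ygi53 zgi61) (kgi xgi18 ygi54 zgi3) (kgi xgi18 ygi54 zgi7) (kgi xgi5 ygi17 zgi44) (kgi xgi15 ygi51 zgi39) (kgi xgi10 ygi53 zgi35) (kgi xgi18 ygi51 zgi41) (kgi xgi5 ygi31 zgi16) (kgi xgi8 ygi56 zgi42) (kgi xgi18 ygi54 zgi13) (kgi xgi10 ygi42 zgi57) (kgi xgi11 ygi16 zgi8) (kgi xgi18 ygi54 zgi18) (kgi xgi10 ygi22 zgi3)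 (kgi xgi5 ygi17 zgi50) (kgi xgi13 ygi4 zgi60) (kgi xgi15 ygi58 zgi61) (kgi xgi18 ygi54 zgi29) (kgi xgi14 ygi33 zgi0) (kgi xgi5 ygi17 zgi51) (kgi xgi5 ygi17 zgi58) (kgi xgi5 ygi17 zgi52) (kgi xgi6 ygi32 zgi58) (kgi xgi5 ygi18 zgi3) (kgi xgi15 ygi15 zgi24) (kgi xgi6 ygi43 zgi23) (kgi xgi8 ygi57 zgi16) (kgi xgi5 ygi17 zgi56) (kgi xgi10 ygi28 zgi1) (kgi xgi10 ygi22 zgi31) (kgi xgi5 ygi17 zgi57) (kgi xgi18 ygi51 zgi44) (kgi xgi18 ygi51 zgi42) (kgi xgi18 ygi54 zgi45) (kgi xgi18 ygi54 zgi49) (kgi xgi14 ygi11 zgi3) (kgi xgi5 ygi17 zgi59) (kgi xgi13 ygi5 zgi1) (kgi xgi13 ygi4 zgi61) (kgi xgi15 ygi58 zgi59) (kgi xgi5 ygi18 zgi6) (kgi xgi10 ygi53 zgi36) (kgi xgi7 ygi32 zgi34) (kgi xgi5 ygi18 zgi1) (kgi xgi18 ygi51 zgi49) (kgi xgi18 ygi51 zgi47)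 (kgi xgi18 ygi55 zgi1) (kgi xgi18 ygi55 zgi4) (kgi xgi5 ygi18 zgi2) (kgi xgi5 ygi18 zgi4) (kgi xgi18 ygi5 zgi49) (kgi xgi18 ygi5 zgi47) (kgi xgi5 ygi18 zgi7) (kgi xgi18 ygi55 zgi13) (kgi xgi18 ygi20 zgi17) (kgi xgi9 ygi43 zgi16) (kgi xgi5 ygi18 zgi11) (kgi xgi18 ygi29 zgi7) (kgi xgi18 ygi55 zgi18) (kgi xgi13 ygi53 zgi44) (kgi xgi18 ygi55 zgi24)) (@D3.rec (fun _ => Pt) (kgi xgi5 ygi18 zgi10) (kgi xgi18 ygi55 zgi12) (kgi xgi18 ygi55 zgi34) (kgi xgi18 ygi55 zgi37) (kgi xgi18 ygi55 zgi23) (kgi xgi10 ygi42 zgi8) (kgi xgi18 ygi54 zgi59) (kgi xgi15 ygi40 zgi39) (kgi xgi18 ygi55 zgi10) (kgi xgi16 ygi46 zgi45) (kgi xgi15 ygi40 zgi55) (kgi xgi18 ygi55 zgi47) (kgi xgi5 ygi18 zgi15) (kgi xgi18 ygi52 zgi12) (kgi xgi18 ygi52 zgi11) (kgi xgi13 ygi27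 zgi30) (kgi xgi5 ygi18 zgi17) (kgi xgi10 ygi19 zgi50) (kgi xgi18 ygi55 zgi61) (kgi xgi15 ygi32 zgi18) (kgi xgi10 ygi15 zgi22) (kgi xgi10 ygi21 zgi20) (kgi xgi8 ygi52 zgi4) (kgi xgi10 ygi20 zgi49) (kgi xgi15 ygi39 zgi8) (kgi xgi18 ygi21 zgi52) (kgi xgi10 ygi23 zgi20) (kgi xgi18 ygi56 zgi11) (kgi xgi5 ygi18 zgi22) (kgi xgi10 ygi28 zgi36) (kgi xgi18 ygi56 zgi17) (kgi xgi10 ygi28 zgi33) (kgi xgi5 ygi19 zgi11) (kgi xgi5 ygi20 zgi2) (kgi xgi5 ygi24 zgi27) (kgi xgi10 ygi15 zgi60) (kgi xgi16 ygi38 zgi27) (kgi xgi10 ygi8 zgi16) (kgi xgi5 ygi31 zgi25) (kgi xgi5 ygi31 zgi57) (kgi xgi18 ygi56 zgi28) (kgi xgi16 ygi24 zgi11) (kgi xgi10 ygi29 zgi12) (kgi xgi15 ygi24 zgi40) (kgi xgi15 ygi8 zgi43) (kgi xgi5 ygi18 zgi32) (kgi xgi16 ygi35 zgi42) (kgi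 xgi18 ygi56 zgi38) (kgi xgi16 ygi35 zgi39) (kgi xgi8 ygi39 zgi57) (kgi xgi16 ygi22 zgi2) (kgi xgi10 ygi21 zgi38) (kgi xgi10 ygi23 zgi14) (kgi xgi10 ygi12 zgi36) (kgi xgi18 ygi15 zgi25) (kgi xgi18 ygi0 zgi12) (kgi xgi9 ygi40 zgi60) (kgi xgi18 ygi1 zgi11) (kgi xgi18 ygi56 zgi48) (kgi xgi5 ygi18 zgi41) (kgi xgi5 ygi18 zgi46) (kgi xgi18 ygi56 zgi54)) (@D3.rec (fun _ => Pt) (kgi xgi18 ygi56 zgi56) (kgi xgi10 ygi36 zgi39) (kgi xgi18 ygi54 zgi41) (kgi xgi5 ygi18 zgi42) (kgi xgi6 ygi56 zgi30) (kgi xgi17 ygi13 zgi16) (kgi xgi9 ygi55 zgi59) (kgi xgi5 ygi18 zgi43) (kgi xgi18 ygi14 zgi9) (kgi xgi9 ygi43 zgi18) (kgi xgi10 ygi12 zgi46) (kgi xgi5 ygi18 zgi45) (kgi xgi18 ygi13 zgi45) (kgi xgi10 ygi12 zgi52) (kgi xgi18 ygi13 zgi55) (kgi xgi18 ygi57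 zgi12) (kgi xgi15 ygi32 zgi16) (kgi xgi18 ygi56 zgi55) (kgi xgi13 ygi19 zgi47) (kgi xgi6 ygi46 zgi56) (kgi xgi18 ygi57 zgi21) (kgi xgi13 ygi19 zgi49) (kgi xgi12 ygi21 zgi14) (kgi xgi10 ygi42 zgi17) (kgi xgi11 ygi35 zgi43) (kgi xgi18 ygi57 zgi29) (kgi xgi12 ygi2 zgi53) (kgi xgi18 ygi57 zgi30) (kgi xgi18 ygi11 zgi3) (kgi xgi18 ygi10 zgi55) (kgi xgi9 ygi16 zgi1) (kgi xgi18 ygi57 zgi39) (kgi xgi5 ygi18 zgi52) (kgi xgi11 ygi35 zgi45) (kgi xgi14 ygi16 zgi51) (kgi xgi14 ygi26 zgi57) (kgi xgi5 ygi18 zgi53) (kgi xgi12 ygi35 zgi12) (kgi xgi18 ygi57 zgi28) (kgi xgi5 ygi18 zgi54) (kgi xgi10 ygi22 zgi35) (kgi xgi18 ygi10 zgi56) (kgi xgi8 ygi59 zgi46) (kgi xgi18 ygi58 zgi0) (kgi xgi12 ygi35 zgi7) (kgi xgi10 ygi45 zgi53) (kgi xgi18 ygi11 zgi2) (kgi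 xgi10 ygi22 zgi25) (kgi xgi10 ygi15 zgi4) (kgi xgi10 ygi10 zgi51) (kgi xgi18 ygi20 zgi24) (kgi xgi18 ygi58 zgi9) (kgi xgi15 ygi48 zgi46) (kgi xgi5 ygi19 zgi0) (kgi xgi10 ygi28 zgi6) (kgi xgi10 ygi15 zgi1) (kgi xgi18 ygi32 zgi48) (kgi xgi10 ygi9 zgi58) (kgi xgi10 ygi24 zgi57) (kgi xgi5 ygi19 zgi4) (kgi xgi10 ygi28 zgi8) (kgi xgi10 ygi26 zgi32)) (@D3.rec (fun _ => Pt) (kgi xgi10 ygi25 zgi30) (kgi xgi10 ygi25 zgi28) (kgi xgi5 ygi21 zgi25) (kgi xgi18 ygi8 zgi55) (kgi xgi9 ygi55 zgi20) (kgi xgi10 ygi27 zgi55) (kgi xgi10 ygi27 zgi53) (kgi xgi10 ygi27 zgi61) (kgi xgi10 ygi27 zgi59) (kgi xgi5 ygi19 zgi12) (kgi xgi10 ygi30 zgi21) (kgi xgi18 ygi13 zgi4) (kgi xgi18 ygi14 zgi28) (kgi xgi5 ygi19 zgi14) (kgi xgi5 ygi19 zgi15) (kgi xgi10 ygi29 zgi27)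 (kgi xgi10 ygi29 zgi25) (kgi xgi18 ygi47 zgi38) (kgi xgi18 ygi58 zgi41) (kgi xgi18 ygi58 zgi45) (kgi xgi5 ygi19 zgi17) (kgi xgi10 ygi15 zgi0) (kgi xgi18 ygi58 zgi51) (kgi xgi10 ygi14 zgi59) (kgi xgi15 ygi11 zgi1) (kgi xgi18 ygi58 zgi54) (kgi xgi10 ygi23 zgi21) (kgi xgi5 ygi19 zgi21) (kgi xgi10 ygi29 zgi44) (kgi xgi10 ygi29 zgi42) (kgi xgi18 ygi59 zgi4) (kgi xgi18 ygi59 zgi8) (kgi xgi18 ygi59 zgi12) (kgi xgi5 ygi19 zgi23) (kgi xgi10 ygi26 zgi31) (kgi xgi18 ygi59 zgi19) (kgi xgi10 ygi26 zgi28) (kgi xgi5 ygi19 zgi30) (kgi xgi10 ygi31 zgi41) (kgi xgi10 ygi30 zgi0) (kgi xgi5 ygi24 zgi26) (kgi xgi5 ygi21 zgi42) (kgi xgi18 ygi59 zgi27) (kgi xgi5 ygi20 zgi16) (kgi xgi5 ygi19 zgi28) (kgi xgi10 ygi30 zgi2) (kgi xgi10 ygi30 zgi1) (kgi xgi18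 ygi39 zgi14) (kgi xgi7 ygi56 zgi31) (kgi xgi16 ygi40 zgi1) (kgi xgi18 ygi59 zgi40) (kgi xgi10 ygi26 zgi33) (kgi xgi5 ygi19 zgi31) (kgi xgi10 ygi29 zgi57) (kgi xgi10 ygi29 zgi55) (kgi xgi5 ygi41 zgi43) (kgi xgi18 ygi59 zgi55) (kgi xgi18 ygi59 zgi58) (kgi xgi19 ygi0 zgi0) (kgi xgi10 ygi29 zgi52) (kgi xgi16 ygi23 zgi22) (kgi xgi18 ygi59 zgi25)) (@D3.rec (fun _ => Pt) (kgi xgi18 ygi59 zgi31) (kgi xgi19 ygi0 zgi12) (kgi xgi18 ygi35 zgi49) (kgi xgi19 ygi0 zgi17) (kgi xgi18 ygi59 zgi47) (kgi xgi19 ygi0 zgi22) (kgi xgi19 ygi0 zgi26) (kgi xgi5 ygi19 zgi40) (kgi xgi10 ygi30 zgi25) (kgi xgi10 ygi30 zgi23) (kgi xgi8 ygi44 zgi47) (kgi xgi16 ygi30 zgi48) (kgi xgi10 ygi26 zgi26) (kgi xgi10 ygi28 zgi26) (kgi xgi8 ygi44 zgi39) (kgi xgi5 ygi19 zgi43)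 (kgi xgi10 ygi20 zgi46) (kgi xgi5 ygi19 zgi44) (kgi xgi15 ygi14 zgi32) (kgi xgi8 ygi41 zgi41) (kgi xgi5 ygi19 zgi45) (kgi xgi10 ygi30 zgi18) (kgi xgi18 ygi5 zgi52) (kgi xgi19 ygi0 zgi44) (kgi xgi19 ygi0 zgi46) (kgi xgi5 ygi19 zgi48) (kgi xgi10 ygi28 zgi16) (kgi xgi10 ygi28 zgi14) (kgi xgi19 ygi0 zgi53) (kgi xgi5 ygi41 zgi42) (kgi xgi16 ygi19 zgi27) (kgi xgi5 ygi19 zgi50) (kgi xgi19 ygi0 zgi61) (kgi xgi10 ygi3 zgi24) (kgi xgi10 ygi7 zgi55) (kgi xgi5 ygi19 zgi52) (kgi xgi8 ygi54 zgi6) (kgi xgi16 ygi41 zgi61) (kgi xgi10 ygi3 zgi29) (kgi xgi19 ygi1 zgi8) (kgi xgi11 ygi52 zgi28) (kgi xgi10 ygi3 zgi32) (kgi xgi5 ygi19 zgi56) (kgi xgi10 ygi28 zgi29) (kgi xgi10 ygi28 zgi27) (kgi xgi18 ygi58 zgi35) (kgi xgi19 ygi1 zgi19) (kgi xgi19 ygi1 zgi23)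 (kgi xgi5 ygi19 zgi58) (kgi xgi10 ygi22 zgi30) (kgi xgi18 ygi20 zgi2) (kgi xgi10 ygi22 zgi27) (kgi xgi5 ygi20 zgi5) (kgi xgi8 ygi54 zgi30) (kgi xgi10 ygi28 zgi59) (kgi xgi5 ygi20 zgi0) (kgi xgi10 ygi28 zgi54) (kgi xgi10 ygi28 zgi52) (kgi xgi11 ygi13 zgi40) (kgi xgi14 ygi58 zgi45) (kgi xgi19 ygi1 zgi37) (kgi xgi19 ygi1 zgi40)) (@D3.rec (fun _ => Pt) (kgi xgi10 ygi28 zgi37) (kgi xgi5 ygi20 zgi3) (kgi xgi10 ygi28 zgi44) (kgi xgi11 ygi23 zgi34) (kgi xgi19 ygi1 zgi46) (kgi xgi18 ygi58 zgi57) (kgi xgi18 ygi20 zgi12) (kgi xgi10 ygi22 zgi32) (kgi xgi5 ygi20 zgi8) (kgi xgi18 ygi15 zgi45) (kgi xgi12 ygi19 zgi22) (kgi xgi18 ygi21 zgi41) (kgi xgi16 ygi21 zgi57) (kgi xgi5 ygi20 zgi10) (kgi xgi9 ygi59 zgi19) (kgi xgi19 ygi1 zgi58) (kgi xgi10 ygi14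 zgi48) (kgi xgi19 ygi2 zgi11) (kgi xgi10 ygi29 zgi20) (kgi xgi19 ygi2 zgi17) (kgi xgi19 ygi2 zgi20) (kgi xgi10 ygi28 zgi9) (kgi xgi19 ygi2 zgi23) (kgi xgi5 ygi20 zgi12) (kgi xgi10 ygi29 zgi9) (kgi xgi10 ygi29 zgi7) (kgi xgi19 ygi2 zgi30) (kgi xgi10 ygi22 zgi10) (kgi xgi16 ygi3 zgi34) (kgi xgi10 ygi22 zgi33) (kgi xgi14 ygi39 zgi8) (kgi xgi5 ygi22 zgi60) (kgi xgi19 ygi2 zgi37) (kgi xgi10 ygi33 zgi21) (kgi xgi19 ygi2 zgi43) (kgi xgi5 ygi21 zgi53) (kgi xgi5 ygi21 zgi51) (kgi xgi19 ygi2 zgi48) (kgi xgi10 ygi33 zgi14) (kgi xgi19 ygi2 zgi46) (kgi xgi19 ygi2 zgi56) (kgi xgi10 ygi33 zgi19) (kgi xgi11 ygi56 zgi8) (kgi xgi5 ygi20 zgi21) (kgi xgi19 ygi3 zgi1) (kgi xgi19 ygi3 zgi6) (kgi xgi19 ygi3 zgi12) (kgi xgi19 ygi3 zgi2) (kgi xgi5 ygi20 zgi22)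 (kgi xgi5 ygi22 zgi13) (kgi xgi19 ygi3 zgi19) (kgi xgi5 ygi22 zgi9) (kgi xgi5 ygi25 zgi39) (kgi xgi19 ygi3 zgi22) (kgi xgi11 ygi2 zgi54) (kgi xgi5 ygi28 zgi4) (kgi xgi19 ygi3 zgi25) (kgi xgi19 ygi3 zgi28) (kgi xgi15 ygi44 zgi0) (kgi xgi19 ygi3 zgi34) (kgi xgi14 ygi39 zgi29) (kgi xgi5 ygi20 zgi30)) (@D3.rec (fun _ => Pt) (kgi xgi5 ygi23 zgi42) (kgi xgi5 ygi23 zgi40) (kgi xgi19 ygi3 zgi43) (kgi xgi5 ygi20 zgi31) (kgi xgi19 ygi3 zgi48) (kgi xgi5 ygi20 zgi32) (kgi xgi5 ygi23 zgi10) (kgi xgi19 ygi3 zgi55) (kgi xgi5 ygi23 zgi7) (kgi xgi16 ygi43 zgi60) (kgi xgi10 ygi32 zgi30) (kgi xgi19 ygi3 zgi60) (kgi xgi5 ygi39 zgi46) (kgi xgi5 ygi23 zgi35) (kgi xgi5 ygi20 zgi37) (kgi xgi5 ygi23 zgi1) (kgi xgi5 ygi22 zgi61) (kgi xgi19 ygi4 zgi5) (kgi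 xgi19 ygi4 zgi8) (kgi xgi19 ygi4 zgi11) (kgi xgi5 ygi20 zgi39) (kgi xgi5 ygi23 zgi49) (kgi xgi19 ygi4 zgi18) (kgi xgi5 ygi23 zgi46) (kgi xgi15 ygi36 zgi42) (kgi xgi10 ygi16 zgi46) (kgi xgi5 ygi20 zgi42) (kgi xgi15 ygi12 zgi48) (kgi xgi5 ygi31 zgi18) (kgi xgi19 ygi4 zgi23) (kgi xgi5 ygi25 zgi47) (kgi xgi5 ygi20 zgi44) (kgi xgi5 ygi24 zgi38) (kgi xgi5 ygi24 zgi36) (kgi xgi10 ygi37 zgi53) (kgi xgi7 ygi45 zgi55) (kgi xgi18 ygi46 zgi12) (kgi xgi5 ygi24 zgi21) (kgi xgi6 ygi25 zgi21) (kgi xgi5 ygi24 zgi18) (kgi xgi5 ygi25 zgi0) (kgi xgi5 ygi25 zgi45) (kgi xgi5 ygi20 zgi49) (kgi xgi15 ygi8 zgi54) (kgi xgi5 ygi20 zgi50) (kgi xgi5 ygi24 zgi12) (kgi xgi5 ygi24 zgi10) (kgi xgi10 ygi36 zgi27) (kgi xgi7 ygi45 zgi36) (kgi xgi13 ygi19 zgi43) (kgi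 xgi5 ygi20 zgi52) (kgi xgi5 ygi24 zgi43) (kgi xgi5 ygi24 zgi41) (kgi xgi5 ygi20 zgi61) (kgi xgi8 ygi22 zgi16) (kgi xgi5 ygi20 zgi55) (kgi xgi5 ygi25 zgi3) (kgi xgi5 ygi25 zgi1) (kgi xgi19 ygi4 zgi55) (kgi xgi19 ygi4 zgi58) (kgi xgi9 ygi55 zgi49) (kgi xgi5 ygi20 zgi58)) (@D3.rec (fun _ => Pt) (kgi xgi5 ygi24 zgi53) (kgi xgi19 ygi5 zgi0) (kgi xgi8 ygi28 zgi15) (kgi xgi19 ygi5 zgi1) (kgi xgi5 ygi21 zgi0) (kgi xgi5 ygi21 zgi2) (kgi xgi14 ygi43 zgi27) (kgi xgi16 ygi39 zgi31) (kgi xgi8 ygi57 zgi18) (kgi xgi14 ygi41 zgi55) (kgi xgi5 ygi21 zgi4) (kgi xgi19 ygi5 zgi6) (kgi xgi18 ygi22 zgi24) (kgi xgi17 ygi52 zgi22) (kgi xgi5 ygi21 zgi3) (kgi xgi17 ygi52 zgi24) (kgi xgi9 ygi28 zgi39) (kgi xgi19 ygi4 zgi51) (kgi xgi10 ygi26 zgi5) (kgi xgi19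 ygi4 zgi61) (kgi xgi17 ygi48 zgi42) (kgi xgi5 ygi21 zgi7) (kgi xgi5 ygi25 zgi35) (kgi xgi5 ygi21 zgi8) (kgi xgi5 ygi22 zgi14) (kgi xgi19 ygi5 zgi32) (kgi xgi5 ygi24 zgi8) (kgi xgi10 ygi31 zgi10) (kgi xgi8 ygi39 zgi48) (kgi xgi16 ygi38 zgi33) (kgi xgi10 ygi33 zgi34) (kgi xgi5 ygi24 zgi45) (kgi xgi19 ygi5 zgi38) (kgi xgi8 ygi20 zgi31) (kgi xgi15 ygi44 zgi37) (kgi xgi19 ygi5 zgi42) (kgi xgi8 ygi20 zgi36) (kgi xgi8 ygi35 zgi10) (kgi xgi5 ygi21 zgi13) (kgi xgi15 ygi41 zgi28) (kgi xgi15 ygi41 zgi26) (kgi xgi13 ygi46 zgi15) (kgi xgi5 ygi21 zgi14) (kgi xgi8 ygi33 zgi36) (kgi xgi19 ygi5 zgi58) (kgi xgi8 ygi33 zgi47) (kgi xgi8 ygi22 zgi18) (kgi xgi5 ygi21 zgi16) (kgi xgi16 ygi3 zgi61) (kgi xgi16 ygi3 zgi59) (kgi xgi19 ygi6 zgi5) (kgi xgi5 ygi21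 zgi17) (kgi xgi7 ygi58 zgi36) (kgi xgi17 ygi53 zgi5) (kgi xgi19 ygi6 zgi13) (kgi xgi7 ygi58 zgi6) (kgi xgi19 ygi6 zgi17) (kgi xgi7 ygi57 zgi36) (kgi xgi10 ygi10 zgi16) (kgi xgi15 ygi38 zgi41) (kgi xgi15 ygi9 zgi48) (kgi xgi9 ygi56 zgi33)) (@D3.rec (fun _ => Pt) (kgi xgi10 ygi11 zgi54) (kgi xgi16 ygi34 zgi44) (kgi xgi15 ygi14 zgi8) (kgi xgi5 ygi21 zgi23) (kgi xgi18 ygi34 zgi10) (kgi xgi18 ygi34 zgi8) (kgi xgi19 ygi6 zgi40) (kgi xgi19 ygi6 zgi43) (kgi xgi19 ygi6 zgi46) (kgi xgi19 ygi6 zgi47) (kgi xgi5 ygi21 zgi27) (kgi xgi10 ygi0 zgi48) (kgi xgi10 ygi0 zgi46) (kgi xgi19 ygi6 zgi50) (kgi xgi10 ygi30 zgi41) (kgi xgi16 ygi54 zgi22) (kgi xgi5 ygi21 zgi29) (kgi xgi5 ygi23 zgi51) (kgi xgi12 ygi56 zgi31) (kgi xgi10 ygi30 zgi38) (kgi xgi14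 ygi34 zgi15) (kgi xgi8 ygi53 zgi56) (kgi xgi9 ygi3 zgi55) (kgi xgi19 ygi7 zgi3) (kgi xgi10 ygi30 zgi33) (kgi xgi5 ygi21 zgi33) (kgi xgi14 ygi39 zgi11) (kgi xgi19 ygi7 zgi15) (kgi xgi5 ygi21 zgi34) (kgi xgi5 ygi21 zgi40) (kgi xgi14 ygi30 zgi49) (kgi xgi14 ygi39 zgi30) (kgi xgi17 ygi35 zgi39) (kgi xgi19 ygi7 zgi23) (kgi xgi10 ygi32 zgi27) (kgi xgi14 ygi31 zgi41) (kgi xgi19 ygi7 zgi27) (kgi xgi5 ygi21 zgi41) (kgi xgi19 ygi7 zgi33) (kgi xgi17 ygi35 zgi43) (kgi xgi17 ygi33 zgi51) (kgi xgi19 ygi7 zgi40) (kgi xgi5 ygi21 zgi45) (kgi xgi15 ygi32 zgi2) (kgi xgi15 ygi16 zgi43) (kgi xgi19 ygi7 zgi46) (kgi xgi5 ygi25 zgi43) (kgi xgi19 ygi7 zgi50) (kgi xgi5 ygi21 zgi48) (kgi xgi16 ygi38 zgi36) (kgi xgi16 ygi38 zgi34) (kgi xgi19 ygi7 zgi58) (kgi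 xgi19 ygi8 zgi0) (kgi xgi5 ygi21 zgi49) (kgi xgi5 ygi21 zgi55) (kgi xgi19 ygi8 zgi8) (kgi xgi5 ygi21 zgi50) (kgi xgi19 ygi2 zgi45) (kgi xgi19 ygi8 zgi16) (kgi xgi19 ygi2 zgi42) (kgi xgi5 ygi22 zgi0) (kgi xgi15 ygi43 zgi60)) (@D3.rec (fun _ => Pt) (kgi xgi19 ygi2 zgi54) (kgi xgi5 ygi25 zgi49) (kgi xgi5 ygi21 zgi54) (kgi xgi19 ygi2 zgi38) (kgi xgi19 ygi2 zgi36) (kgi xgi19 ygi8 zgi30) (kgi xgi19 ygi8 zgi33) (kgi xgi19 ygi8 zgi36) (kgi xgi5 ygi21 zgi56) (kgi xgi16 ygi38 zgi31) (kgi xgi10 ygi36 zgi47) (kgi xgi16 ygi38 zgi28) (kgi xgi5 ygi22 zgi3) (kgi xgi10 ygi28 zgi38) (kgi xgi19 ygi3 zgi0) (kgi xgi5 ygi21 zgi60) (kgi xgi19 ygi2 zgi57) (kgi xgi19 ygi2 zgi55) (kgi xgi19 ygi8 zgi57) (kgi xgi19 ygi8 zgi60) (kgi xgi5 ygi21 zgi61) (kgi xgi19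 ygi9 zgi2) (kgi xgi19 ygi9 zgi5) (kgi xgi11 ygi55 zgi50) (kgi xgi5 ygi22 zgi1) (kgi xgi19 ygi2 zgi49) (kgi xgi19 ygi2 zgi47) (kgi xgi19 ygi9 zgi17) (kgi xgi19 ygi9 zgi21) (kgi xgi19 ygi9 zgi25) (kgi xgi10 ygi36 zgi58) (kgi xgi16 ygi38 zgi26) (kgi xgi5 ygi22 zgi4) (kgi xgi5 ygi22 zgi6) (kgi xgi19 ygi9 zgi35) (kgi xgi6 ygi51 zgi14) (kgi xgi18 ygi41 zgi37) (kgi xgi19 ygi8 zgi21) (kgi xgi5 ygi22 zgi8) (kgi xgi19 ygi8 zgi48) (kgi xgi16 ygi2 zgi3) (kgi xgi19 ygi9 zgi49) (kgi xgi5 ygi22 zgi7) (kgi xgi19 ygi9 zgi30) (kgi xgi19 ygi9 zgi59) (kgi xgi19 ygi10 zgi3) (kgi xgi19 ygi9 zgi48) (kgi xgi19 ygi10 zgi5) (kgi xgi19 ygi8 zgi53) (kgi xgi13 ygi8 zgi10) (kgi xgi19 ygi9 zgi12) (kgi xgi19 ygi10 zgi12) (kgi xgi19 ygi6 zgi42) (kgi xgi19 ygi10 zgi17)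 (kgi xgi5 ygi22 zgi12) (kgi xgi19 ygi3 zgi20) (kgi xgi19 ygi3 zgi18) (kgi xgi19 ygi10 zgi28) (kgi xgi9 ygi22 zgi33) (kgi xgi5 ygi22 zgi15) (kgi xgi5 ygi22 zgi16) (kgi xgi10 ygi35 zgi26)) (@D3.rec (fun _ => Pt) (kgi xgi10 ygi35 zgi24) (kgi xgi19 ygi10 zgi32) (kgi xgi18 ygi0 zgi61) (kgi xgi5 ygi22 zgi19) (kgi xgi10 ygi37 zgi37) (kgi xgi10 ygi37 zgi35) (kgi xgi19 ygi10 zgi39) (kgi xgi19 ygi10 zgi42) (kgi xgi9 ygi40 zgi57) (kgi xgi10 ygi35 zgi36) (kgi xgi11 ygi51 zgi50) (kgi xgi9 ygi41 zgi36) (kgi xgi19 ygi10 zgi30) (kgi xgi5 ygi22 zgi24) (kgi xgi10 ygi35 zgi43) (kgi xgi10 ygi35 zgi40) (kgi xgi9 ygi40 zgi37) (kgi xgi9 ygi43 zgi27) (kgi xgi8 ygi15 zgi46) (kgi xgi19 ygi10 zgi47) (kgi xgi5 ygi35 zgi61) (kgi xgi9 ygi37 zgi40) (kgi xgi19 ygi10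 zgi50) (kgi xgi11 ygi4 zgi51) (kgi xgi5 ygi22 zgi33) (kgi xgi10 ygi35 zgi0) (kgi xgi10 ygi34 zgi60) (kgi xgi19 ygi10 zgi56) (kgi xgi19 ygi10 zgi58) (kgi xgi10 ygi15 zgi38) (kgi xgi8 ygi15 zgi40) (kgi xgi5 ygi22 zgi36) (kgi xgi19 ygi3 zgi61) (kgi xgi19 ygi3 zgi59) (kgi xgi7 ygi50 zgi38) (kgi xgi6 ygi4 zgi4) (kgi xgi5 ygi36 zgi53) (kgi xgi9 ygi40 zgi38) (kgi xgi9 ygi41 zgi35) (kgi xgi19 ygi5 zgi33) (kgi xgi5 ygi22 zgi40) (kgi xgi10 ygi35 zgi15) (kgi xgi11 ygi8 zgi12) (kgi xgi10 ygi35 zgi13) (kgi xgi8 ygi13 zgi3) (kgi xgi19 ygi11 zgi16) (kgi xgi15 ygi27 zgi55) (kgi xgi5 ygi22 zgi45) (kgi xgi19 ygi3 zgi26) (kgi xgi19 ygi3 zgi24) (kgi xgi19 ygi11 zgi26) (kgi xgi5 ygi22 zgi47) (kgi xgi15 ygi44 zgi6) (kgi xgi10 ygi34 zgi22) (kgi xgi15 ygi44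 zgi2) (kgi xgi5 ygi23 zgi26) (kgi xgi5 ygi22 zgi56) (kgi xgi19 ygi3 zgi32) (kgi xgi5 ygi22 zgi51) (kgi xgi15 ygi44 zgi9) (kgi xgi15 ygi44 zgi7) (kgi xgi10 ygi41 zgi12)) (@D3.rec (fun _ => Pt) (kgi xgi19 ygi11 zgi43) (kgi xgi19 ygi11 zgi46) (kgi xgi5 ygi22 zgi53) (kgi xgi18 ygi59 zgi30) (kgi xgi19 ygi11 zgi54) (kgi xgi5 ygi22 zgi54) (kgi xgi19 ygi3 zgi35) (kgi xgi19 ygi3 zgi33) (kgi xgi19 ygi12 zgi3) (kgi xgi19 ygi12 zgi6) (kgi xgi18 ygi10 zgi34) (kgi xgi10 ygi33 zgi58) (kgi xgi15 ygi43 zgi59) (kgi xgi5 ygi22 zgi57) (kgi xgi19 ygi3 zgi29) (kgi xgi19 ygi3 zgi27) (kgi xgi19 ygi12 zgi21) (kgi xgi19 ygi12 zgi25) (kgi xgi18 ygi52 zgi31) (kgi xgi19 ygi12 zgi28) (kgi xgi19 ygi12 zgi32) (kgi xgi19 ygi12 zgi34) (kgi xgi19 ygi12 zgi39) (kgi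 xgi10 ygi31 zgi47) (kgi xgi19 ygi11 zgi36) (kgi xgi19 ygi11 zgi56) (kgi xgi14 ygi36 zgi7) (kgi xgi10 ygi39 zgi9) (kgi xgi14 ygi21 zgi31) (kgi xgi19 ygi4 zgi4) (kgi xgi19 ygi12 zgi52) (kgi xgi5 ygi23 zgi2) (kgi xgi16 ygi21 zgi25) (kgi xgi19 ygi12 zgi57) (kgi xgi5 ygi23 zgi3) (kgi xgi14 ygi40 zgi18) (kgi xgi19 ygi13 zgi4) (kgi xgi14 ygi38 zgi11) (kgi xgi19 ygi12 zgi0) (kgi xgi11 ygi26 zgi4) (kgi xgi19 ygi12 zgi17) (kgi xgi18 ygi50 zgi5) (kgi xgi5 ygi23 zgi6) (kgi xgi18 ygi50 zgi50) (kgi xgi19 ygi13 zgi19) (kgi xgi18 ygi49 zgi54) (kgi xgi19 ygi12 zgi1) (kgi xgi19 ygi13 zgi25) (kgi xgi14 ygi19 zgi33) (kgi xgi9 ygi41 zgi12) (kgi xgi10 ygi34 zgi10) (kgi xgi10 ygi42 zgi53) (kgi xgi5 ygi23 zgi9) (kgi xgi19 ygi3 zgi57) (kgi xgi19 ygi13 zgi40)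 (kgi xgi19 ygi3 zgi54) (kgi xgi5 ygi23 zgi11) (kgi xgi19 ygi11 zgi24) (kgi xgi19 ygi13 zgi49) (kgi xgi10 ygi49 zgi53) (kgi xgi10 ygi47 zgi57) (kgi xgi10 ygi34 zgi30)) (@D3.rec (fun _ => Pt) (kgi xgi16 ygi57 zgi45) (kgi xgi11 ygi52 zgi29) (kgi xgi10 ygi22 zgi17) (kgi xgi11 ygi53 zgi58) (kgi xgi5 ygi23 zgi17) (kgi xgi11 ygi53 zgi38) (kgi xgi19 ygi14 zgi2) (kgi xgi19 ygi14 zgi7) (kgi xgi11 ygi53 zgi35) (kgi xgi11 ygi52 zgi25) (kgi xgi19 ygi14 zgi12) (kgi xgi11 ygi52 zgi15) (kgi xgi11 ygi54 zgi29) (kgi xgi5 ygi23 zgi21) (kgi xgi6 ygi5 zgi4) (kgi xgi10 ygi37 zgi16) (kgi xgi5 ygi23 zgi22) (kgi xgi10 ygi37 zgi15) (kgi xgi15 ygi27 zgi53) (kgi xgi19 ygi14 zgi25) (kgi xgi19 ygi14 zgi27) (kgi xgi9 ygi0 zgi60) (kgi xgi16 ygi11 zgi47) (kgi xgi5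 ygi23 zgi27) (kgi xgi19 ygi3 zgi23) (kgi xgi19 ygi3 zgi21) (kgi xgi19 ygi14 zgi40) (kgi xgi19 ygi14 zgi44) (kgi xgi19 ygi14 zgi48) (kgi xgi5 ygi23 zgi29) (kgi xgi19 ygi14 zgi54) (kgi xgi9 ygi0 zgi57) (kgi xgi5 ygi23 zgi31) (kgi xgi8 ygi41 zgi6) (kgi xgi16 ygi3 zgi44) (kgi xgi5 ygi23 zgi33) (kgi xgi10 ygi35 zgi5) (kgi xgi10 ygi35 zgi3) (kgi xgi19 ygi15 zgi1) (kgi xgi6 ygi2 zgi13) (kgi xgi16 ygi51 zgi13) (kgi xgi9 ygi40 zgi41) (kgi xgi8 ygi22 zgi14) (kgi xgi18 ygi17 zgi40) (kgi xgi9 ygi42 zgi0) (kgi xgi5 ygi23 zgi37) (kgi xgi15 ygi36 zgi40) (kgi xgi12 ygi43 zgi37) (kgi xgi19 ygi15 zgi7) (kgi xgi19 ygi15 zgi12) (kgi xgi10 ygi31 zgi34) (kgi xgi15 ygi44 zgi25) (kgi xgi19 ygi15 zgi11) (kgi xgi10 ygi39 zgi55) (kgi xgi14 ygi37 zgi25) (kgi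 xgi19 ygi3 zgi42) (kgi xgi14 ygi39 zgi24) (kgi xgi5 ygi23 zgi43) (kgi xgi19 ygi3 zgi41) (kgi xgi19 ygi15 zgi31) (kgi xgi16 ygi18 zgi15) (kgi xgi5 ygi23 zgi44)) (@D3.rec (fun _ => Pt) (kgi xgi14 ygi40 zgi21) (kgi xgi7 ygi41 zgi45) (kgi xgi19 ygi15 zgi25) (kgi xgi5 ygi23 zgi45) (kgi xgi19 ygi4 zgi13) (kgi xgi19 ygi15 zgi52) (kgi xgi19 ygi4 zgi10) (kgi xgi19 ygi12 zgi18) (kgi xgi8 ygi18 zgi6) (kgi xgi19 ygi16 zgi0) (kgi xgi9 ygi3 zgi59) (kgi xgi19 ygi16 zgi3) (kgi xgi19 ygi15 zgi61) (kgi xgi5 ygi23 zgi48) (kgi xgi19 ygi4 zgi20) (kgi xgi19 ygi16 zgi15) (kgi xgi19 ygi4 zgi17) (kgi xgi5 ygi23 zgi50) (kgi xgi16 ygi45 zgi19) (kgi xgi19 ygi16 zgi26) (kgi xgi16 ygi54 zgi26) (kgi xgi19 ygi16 zgi29) (kgi xgi19 ygi16 zgi25) (kgi xgi8 ygi21 zgi23)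 (kgi xgi16 ygi3 zgi4) (kgi xgi5 ygi23 zgi55) (kgi xgi16 ygi2 zgi53) (kgi xgi19 ygi16 zgi37) (kgi xgi19 ygi5 zgi41) (kgi xgi16 ygi2 zgi50) (kgi xgi19 ygi16 zgi45) (kgi xgi8 ygi21 zgi13) (kgi xgi8 ygi20 zgi37) (kgi xgi19 ygi16 zgi52) (kgi xgi6 ygi4 zgi19) (kgi xgi16 ygi2 zgi46) (kgi xgi5 ygi23 zgi59) (kgi xgi14 ygi7 zgi57) (kgi xgi16 ygi2 zgi58) (kgi xgi14 ygi7 zgi55) (kgi xgi5 ygi23 zgi60) (kgi xgi14 ygi7 zgi43) (kgi xgi5 ygi24 zgi3) (kgi xgi5 ygi24 zgi0) (kgi xgi9 ygi42 zgi58) (kgi xgi9 ygi42 zgi56) (kgi xgi13 ygi30 zgi8) (kgi xgi19 ygi17 zgi10) (kgi xgi18 ygi11 zgi4) (kgi xgi5 ygi24 zgi2) (kgi xgi9 ygi42 zgi55) (kgi xgi19 ygi17 zgi15) (kgi xgi9 ygi42 zgi18) (kgi xgi18 ygi58 zgi17) (kgi xgi15 ygi32 zgi4) (kgi xgi18 ygi47 zgi12) (kgi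 xgi18 ygi58 zgi24) (kgi xgi10 ygi20 zgi21) (kgi xgi5 ygi24 zgi7) (kgi xgi15 ygi49 zgi61) (kgi xgi15 ygi49 zgi59) (kgi xgi19 ygi17 zgi26)) (@D3.rec (fun _ => Pt) (kgi xgi16 ygi57 zgi49) (kgi xgi5 ygi24 zgi9) (kgi xgi19 ygi4 zgi24) (kgi xgi5 ygi34 zgi13) (kgi xgi5 ygi33 zgi58) (kgi xgi17 ygi53 zgi28) (kgi xgi19 ygi5 zgi35) (kgi xgi16 ygi36 zgi52) (kgi xgi10 ygi16 zgi60) (kgi xgi10 ygi36 zgi23) (kgi xgi19 ygi17 zgi42) (kgi xgi5 ygi24 zgi13) (kgi xgi19 ygi4 zgi39) (kgi xgi7 ygi56 zgi20) (kgi xgi17 ygi23 zgi4) (kgi xgi5 ygi24 zgi14) (kgi xgi7 ygi45 zgi39) (kgi xgi19 ygi17 zgi55) (kgi xgi19 ygi17 zgi41) (kgi xgi18 ygi46 zgi14) (kgi xgi19 ygi17 zgi61) (kgi xgi19 ygi17 zgi32) (kgi xgi18 ygi20 zgi25) (kgi xgi5 ygi24 zgi17) (kgi xgi18 ygi20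 zgi38) (kgi xgi11 ygi16 zgi25) (kgi xgi18 ygi39 zgi17) (kgi xgi19 ygi17 zgi23) (kgi xgi10 ygi40 zgi40) (kgi xgi18 ygi56 zgi24) (kgi xgi5 ygi24 zgi20) (kgi xgi5 ygi38 zgi0) (kgi xgi5 ygi37 zgi14) (kgi xgi14 ygi41 zgi58) (kgi xgi5 ygi24 zgi24) (kgi xgi19 ygi18 zgi15) (kgi xgi19 ygi5 zgi29) (kgi xgi8 ygi44 zgi22) (kgi xgi9 ygi45 zgi4) (kgi xgi5 ygi24 zgi33) (kgi xgi5 ygi24 zgi30) (kgi xgi18 ygi2 zgi41) (kgi xgi14 ygi43 zgi44) (kgi xgi19 ygi18 zgi25) (kgi xgi19 ygi18 zgi29) (kgi xgi5 ygi24 zgi32) (kgi xgi18 ygi2 zgi51) (kgi xgi12 ygi5 zgi51) (kgi xgi9 ygi43 zgi54) (kgi xgi8 ygi41 zgi19) (kgi xgi7 ygi43 zgi41) (kgi xgi7 ygi48 zgi16) (kgi xgi5 ygi33 zgi47) (kgi xgi19 ygi18 zgi39) (kgi xgi7 ygi36 zgi41) (kgi xgi10 ygi37 zgi50) (kgi xgi5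 ygi24 zgi39) (kgi xgi19 ygi4 zgi29) (kgi xgi19 ygi18 zgi51) (kgi xgi5 ygi24 zgi40) (kgi xgi19 ygi4 zgi41) (kgi xgi13 ygi19 zgi45)) (@D3.rec (fun _ => Pt) (kgi xgi19 ygi17 zgi33) (kgi xgi10 ygi32 zgi2) (kgi xgi14 ygi17 zgi39) (kgi xgi19 ygi19 zgi2) (kgi xgi7 ygi43 zgi30) (kgi xgi14 ygi39 zgi28) (kgi xgi5 ygi25 zgi21) (kgi xgi19 ygi19 zgi8) (kgi xgi19 ygi19 zgi11) (kgi xgi16 ygi2 zgi55) (kgi xgi13 ygi3 zgi54) (kgi xgi15 ygi24 zgi31) (kgi xgi19 ygi19 zgi14) (kgi xgi8 ygi55 zgi38) (kgi xgi5 ygi24 zgi49) (kgi xgi11 ygi52 zgi58) (kgi xgi19 ygi19 zgi23) (kgi xgi16 ygi40 zgi22) (kgi xgi11 ygi52 zgi55) (kgi xgi19 ygi19 zgi29) (kgi xgi19 ygi19 zgi32) (kgi xgi5 ygi25 zgi29) (kgi xgi19 ygi5 zgi30) (kgi xgi14 ygi43 zgi16) (kgi xgi19 ygi19 zgi31)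 (kgi xgi19 ygi5 zgi19) (kgi xgi15 ygi15 zgi33) (kgi xgi17 ygi44 zgi4) (kgi xgi14 ygi53 zgi12) (kgi xgi5 ygi24 zgi54) (kgi xgi14 ygi53 zgi17) (kgi xgi19 ygi19 zgi48) (kgi xgi19 ygi19 zgi51) (kgi xgi5 ygi24 zgi55) (kgi xgi13 ygi4 zgi48) (kgi xgi19 ygi19 zgi57) (kgi xgi14 ygi3 zgi51) (kgi xgi5 ygi24 zgi56) (kgi xgi14 ygi52 zgi58) (kgi xgi17 ygi50 zgi35) (kgi xgi8 ygi28 zgi3) (kgi xgi19 ygi20 zgi5) (kgi xgi5 ygi25 zgi20) (kgi xgi18 ygi20 zgi14) (kgi xgi18 ygi20 zgi35) (kgi xgi18 ygi20 zgi36) (kgi xgi15 ygi2 zgi52) (kgi xgi5 ygi25 zgi31) (kgi xgi5 ygi25 zgi13) (kgi xgi18 ygi33 zgi33) (kgi xgi19 ygi5 zgi15) (kgi xgi19 ygi20 zgi15) (kgi xgi15 ygi2 zgi4) (kgi xgi19 ygi4 zgi54) (kgi xgi5 ygi25 zgi4) (kgi xgi15 ygi2 zgi6) (kgi xgi19 ygi20 zgi22)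 (kgi xgi19 ygi20 zgi24) (kgi xgi5 ygi25 zgi5) (kgi xgi19 ygi4 zgi52) (kgi xgi19 ygi20 zgi32) (kgi xgi13 ygi6 zgi47)) (@D3.rec (fun _ => Pt) (kgi xgi14 ygi23 zgi0) (kgi xgi14 ygi42 zgi9) (kgi xgi5 ygi25 zgi7) (kgi xgi14 ygi53 zgi2) (kgi xgi10 ygi40 zgi1) (kgi xgi5 ygi25 zgi8) (kgi xgi7 ygi20 zgi56) (kgi xgi7 ygi20 zgi53) (kgi xgi18 ygi21 zgi0) (kgi xgi5 ygi25 zgi23) (kgi xgi19 ygi10 zgi4) (kgi xgi16 ygi22 zgi43) (kgi xgi18 ygi46 zgi25) (kgi xgi19 ygi18 zgi16) (kgi xgi15 ygi54 zgi45) (kgi xgi19 ygi4 zgi50) (kgi xgi19 ygi20 zgi50) (kgi xgi14 ygi42 zgi23) (kgi xgi14 ygi43 zgi43) (kgi xgi5 ygi25 zgi14) (kgi xgi9 ygi44 zgi13) (kgi xgi10 ygi52 zgi22) (kgi xgi16 ygi46 zgi15) (kgi xgi5 ygi32 zgi36) (kgi xgi5 ygi25 zgi15) (kgi xgi19 ygi21 zgi6)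 (kgi xgi18 ygi45 zgi35) (kgi xgi10 ygi35 zgi61) (kgi xgi5 ygi25 zgi16) (kgi xgi16 ygi53 zgi50) (kgi xgi11 ygi21 zgi5) (kgi xgi16 ygi47 zgi11) (kgi xgi5 ygi25 zgi18) (kgi xgi19 ygi17 zgi5) (kgi xgi8 ygi44 zgi11) (kgi xgi14 ygi53 zgi5) (kgi xgi19 ygi20 zgi59) (kgi xgi14 ygi38 zgi27) (kgi xgi19 ygi21 zgi5) (kgi xgi18 ygi45 zgi53) (kgi xgi19 ygi19 zgi5) (kgi xgi14 ygi22 zgi6) (kgi xgi14 ygi41 zgi46) (kgi xgi5 ygi25 zgi22) (kgi xgi5 ygi25 zgi27) (kgi xgi19 ygi21 zgi33) (kgi xgi18 ygi45 zgi13) (kgi xgi19 ygi20 zgi47) (kgi xgi19 ygi21 zgi40) (kgi xgi19 ygi21 zgi44) (kgi xgi14 ygi58 zgi60) (kgi xgi19 ygi21 zgi39) (kgi xgi19 ygi20 zgi40) (kgi xgi5 ygi25 zgi25) (kgi xgi5 ygi25 zgi32) (kgi xgi19 ygi21 zgi58) (kgi xgi19 ygi22 zgi0) (kgi xgi19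 ygi21 zgi34) (kgi xgi5 ygi25 zgi26) (kgi xgi18 ygi47 zgi37) (kgi xgi19 ygi21 zgi35) (kgi xgi19 ygi22 zgi13)) (@D3.rec (fun _ => Pt) (kgi xgi5 ygi25 zgi28) (kgi xgi19 ygi9 zgi31) (kgi xgi15 ygi26 zgi55) (kgi xgi16 ygi15 zgi10) (kgi xgi19 ygi22 zgi24) (kgi xgi19 ygi22 zgi27) (kgi xgi18 ygi48 zgi44) (kgi xgi19 ygi22 zgi32) (kgi xgi18 ygi48 zgi18) (kgi xgi19 ygi4 zgi48) (kgi xgi18 ygi11 zgi34) (kgi xgi19 ygi22 zgi40) (kgi xgi19 ygi5 zgi24) (kgi xgi19 ygi22 zgi44) (kgi xgi19 ygi5 zgi22) (kgi xgi5 ygi25 zgi33) (kgi xgi10 ygi35 zgi8) (kgi xgi10 ygi27 zgi10) (kgi xgi19 ygi22 zgi50) (kgi xgi19 ygi19 zgi41) (kgi xgi17 ygi49 zgi41) (kgi xgi19 ygi22 zgi59) (kgi xgi18 ygi48 zgi25) (kgi xgi19 ygi23 zgi1) (kgi xgi18 ygi16 zgi6) (kgi xgi19 ygi22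 zgi58) (kgi xgi10 ygi25 zgi56) (kgi xgi5 ygi25 zgi38) (kgi xgi17 ygi52 zgi26) (kgi xgi19 ygi23 zgi12) (kgi xgi11 ygi59 zgi2) (kgi xgi5 ygi38 zgi51) (kgi xgi9 ygi5 zgi50) (kgi xgi19 ygi8 zgi45) (kgi xgi19 ygi9 zgi13) (kgi xgi10 ygi9 zgi36) (kgi xgi9 ygi5 zgi59) (kgi xgi19 ygi4 zgi46) (kgi xgi5 ygi25 zgi41) (kgi xgi12 ygi4 zgi33) (kgi xgi11 ygi30 zgi24) (kgi xgi9 ygi40 zgi61) (kgi xgi10 ygi35 zgi12) (kgi xgi19 ygi17 zgi19) (kgi xgi19 ygi4 zgi38) (kgi xgi6 ygi0 zgi4) (kgi xgi19 ygi8 zgi40) (kgi xgi5 ygi25 zgi44) (kgi xgi10 ygi36 zgi51) (kgi xgi8 ygi38 zgi0) (kgi xgi16 ygi10 zgi24) (kgi xgi15 ygi20 zgi25) (kgi xgi19 ygi4 zgi43) (kgi xgi19 ygi23 zgi30) (kgi xgi19 ygi23 zgi39) (kgi xgi8 ygi28 zgi56) (kgi xgi19 ygi23 zgi44) (kgi xgi5 ygi25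 zgi51) (kgi xgi19 ygi23 zgi47) (kgi xgi19 ygi23 zgi50) (kgi xgi18 ygi22 zgi27) (kgi xgi19 ygi23 zgi54)) (@D3.rec (fun _ => Pt) (kgi xgi11 ygi55 zgi2) (kgi xgi6 ygi45 zgi48) (kgi xgi19 ygi23 zgi60) (kgi xgi19 ygi24 zgi0) (kgi xgi5 ygi25 zgi56) (kgi xgi5 ygi25 zgi57) (kgi xgi15 ygi55 zgi11) (kgi xgi16 ygi46 zgi44) (kgi xgi15 ygi55 zgi8) (kgi xgi18 ygi44 zgi36) (kgi xgi11 ygi52 zgi43) (kgi xgi18 ygi45 zgi31) (kgi xgi10 ygi46 zgi3) (kgi xgi5 ygi25 zgi61) (kgi xgi6 ygi44 zgi53) (kgi xgi10 ygi17 zgi7) (kgi xgi12 ygi56 zgi36) (kgi xgi12 ygi55 zgi25) (kgi xgi6 ygi6 zgi27) (kgi xgi15 ygi4 zgi20) (kgi xgi12 ygi57 zgi44) (kgi xgi12 ygi55 zgi28) (kgi xgi10 ygi44 zgi16) (kgi xgi11 ygi34 zgi55) (kgi xgi11 ygi31 zgi47) (kgi xgi5 ygi26 zgi3) (kgi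 xgi6 ygi15 zgi47) (kgi xgi5 ygi26 zgi4) (kgi xgi11 ygi31 zgi60) (kgi xgi19 ygi24 zgi30) (kgi xgi8 ygi16 zgi6) (kgi xgi15 ygi40 zgi54) (kgi xgi6 ygi5 zgi61) (kgi xgi5 ygi30 zgi9) (kgi xgi19 ygi24 zgi41) (kgi xgi8 ygi16 zgi0) (kgi xgi18 ygi46 zgi26) (kgi xgi11 ygi54 zgi34) (kgi xgi19 ygi24 zgi47) (kgi xgi16 ygi43 zgi10) (kgi xgi5 ygi26 zgi11) (kgi xgi9 ygi24 zgi58) (kgi xgi15 ygi32 zgi26) (kgi xgi10 ygi24 zgi11) (kgi xgi19 ygi24 zgi53) (kgi xgi12 ygi55 zgi2) (kgi xgi6 ygi6 zgi7) (kgi xgi5 ygi30 zgi38) (kgi xgi19 ygi24 zgi55) (kgi xgi17 ygi55 zgi36) (kgi xgi5 ygi26 zgi17) (kgi xgi11 ygi54 zgi51) (kgi xgi5 ygi26 zgi18) (kgi xgi9 ygi32 zgi19) (kgi xgi11 ygi5 zgi31) (kgi xgi15 ygi5 zgi8) (kgi xgi11 ygi58 zgi26) (kgi xgi19 ygi25 zgi13) (kgi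 xgi5 ygi34 zgi60) (kgi xgi11 ygi55 zgi57) (kgi xgi9 ygi31 zgi42) (kgi xgi19 ygi25 zgi20)) (@D3.rec (fun _ => Pt) (kgi xgi19 ygi25 zgi24) (kgi xgi8 ygi29 zgi15) (kgi xgi19 ygi25 zgi28) (kgi xgi5 ygi26 zgi26) (kgi xgi15 ygi55 zgi23) (kgi xgi19 ygi25 zgi35) (kgi xgi15 ygi55 zgi20) (kgi xgi8 ygi29 zgi21) (kgi xgi8 ygi31 zgi28) (kgi xgi11 ygi53 zgi14) (kgi xgi15 ygi55 zgi34) (kgi xgi15 ygi56 zgi4) (kgi xgi17 ygi33 zgi0) (kgi xgi5 ygi35 zgi1) (kgi xgi11 ygi54 zgi4) (kgi xgi10 ygi45 zgi30) (kgi xgi10 ygi43 zgi18) (kgi xgi16 ygi59 zgi10) (kgi xgi11 ygi33 zgi54) (kgi xgi5 ygi26 zgi34) (kgi xgi15 ygi4 zgi58) (kgi xgi19 ygi25 zgi51) (kgi xgi15 ygi30 zgi13) (kgi xgi11 ygi4 zgi60) (kgi xgi5 ygi35 zgi9) (kgi xgi12 ygi14 zgi35) (kgi xgi11 ygi52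 zgi26) (kgi xgi8 ygi34 zgi39) (kgi xgi11 ygi39 zgi25) (kgi xgi9 ygi8 zgi57) (kgi xgi11 ygi14 zgi50) (kgi xgi5 ygi34 zgi56) (kgi xgi5 ygi26 zgi43) (kgi xgi11 ygi55 zgi22) (kgi xgi9 ygi31 zgi3) (kgi xgi19 ygi26 zgi0) (kgi xgi5 ygi26 zgi44) (kgi xgi8 ygi15 zgi18) (kgi xgi17 ygi12 zgi0) (kgi xgi5 ygi26 zgi45) (kgi xgi15 ygi32 zgi34) (kgi xgi19 ygi26 zgi11) (kgi xgi15 ygi32 zgi32) (kgi xgi8 ygi15 zgi27) (kgi xgi10 ygi22 zgi22) (kgi xgi15 ygi32 zgi52) (kgi xgi15 ygi30 zgi23) (kgi xgi6 ygi46 zgi29) (kgi xgi11 ygi58 zgi14) (kgi xgi12 ygi55 zgi37) (kgi xgi5 ygi27 zgi20) (kgi xgi5 ygi34 zgi51) (kgi xgi11 ygi56 zgi21) (kgi xgi11 ygi32 zgi50) (kgi xgi5 ygi26 zgi56) (kgi xgi11 ygi36 zgi43) (kgi xgi19 ygi26 zgi30) (kgi xgi19 ygi26 zgi34) (kgi xgi5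 ygi26 zgi57) (kgi xgi9 ygi10 zgi51) (kgi xgi9 ygi5 zgi15) (kgi xgi6 ygi12 zgi7)) (@D3.rec (fun _ => Pt) (kgi xgi9 ygi1 zgi38) (kgi xgi17 ygi36 zgi13) (kgi xgi5 ygi27 zgi5) (kgi xgi17 ygi34 zgi23) (kgi xgi16 ygi47 zgi15) (kgi xgi11 ygi56 zgi13) (kgi xgi5 ygi27 zgi1) (kgi xgi11 ygi56 zgi12) (kgi xgi18 ygi16 zgi34) (kgi xgi9 ygi30 zgi37) (kgi xgi5 ygi34 zgi34) (kgi xgi13 ygi2 zgi22) (kgi xgi19 ygi25 zgi55) (kgi xgi11 ygi32 zgi55) (kgi xgi11 ygi56 zgi10) (kgi xgi8 ygi13 zgi57) (kgi xgi9 ygi30 zgi25) (kgi xgi19 ygi27 zgi0) (kgi xgi9 ygi31 zgi2) (kgi xgi5 ygi27 zgi6) (kgi xgi5 ygi27 zgi11) (kgi xgi19 ygi27 zgi6) (kgi xgi19 ygi27 zgi12) (kgi xgi19 ygi27 zgi16) (kgi xgi13 ygi2 zgi24) (kgi xgi11 ygi57 zgi42) (kgi xgi9 ygi12 zgi13) (kgi xgi5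 ygi27 zgi8) (kgi xgi19 ygi26 zgi41) (kgi xgi11 ygi32 zgi54) (kgi xgi10 ygi44 zgi12) (kgi xgi16 ygi38 zgi32) (kgi xgi19 ygi27 zgi11) (kgi xgi19 ygi27 zgi31) (kgi xgi12 ygi56 zgi22) (kgi xgi11 ygi58 zgi8) (kgi xgi19 ygi27 zgi35) (kgi xgi19 ygi26 zgi56) (kgi xgi19 ygi27 zgi39) (kgi xgi19 ygi27 zgi38) (kgi xgi5 ygi27 zgi17) (kgi xgi6 ygi50 zgi33) (kgi xgi19 ygi27 zgi42) (kgi xgi5 ygi27 zgi18) (kgi xgi19 ygi27 zgi36) (kgi xgi19 ygi27 zgi34) (kgi xgi5 ygi27 zgi19) (kgi xgi5 ygi33 zgi45) (kgi xgi19 ygi27 zgi53) (kgi xgi11 ygi56 zgi20) (kgi xgi12 ygi42 zgi42) (kgi xgi19 ygi27 zgi55) (kgi xgi17 ygi7 zgi56) (kgi xgi10 ygi27 zgi42) (kgi xgi5 ygi27 zgi25) (kgi xgi5 ygi27 zgi26) (kgi xgi10 ygi19 zgi14) (kgi xgi10 ygi19 zgi12) (kgi xgi19 ygi28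 zgi8) (kgi xgi19 ygi28 zgi11) (kgi xgi19 ygi28 zgi13) (kgi xgi5 ygi27 zgi28)) (@D3.rec (fun _ => Pt) (kgi xgi8 ygi29 zgi33) (kgi xgi19 ygi28 zgi20) (kgi xgi5 ygi31 zgi5) (kgi xgi10 ygi46 zgi14) (kgi xgi11 ygi56 zgi1) (kgi xgi5 ygi27 zgi30) (kgi xgi15 ygi59 zgi9) (kgi xgi15 ygi59 zgi7) (kgi xgi19 ygi28 zgi35) (kgi xgi19 ygi28 zgi37) (kgi xgi5 ygi27 zgi32) (kgi xgi5 ygi28 zgi3) (kgi xgi8 ygi26 zgi37) (kgi xgi13 ygi10 zgi32) (kgi xgi8 ygi59 zgi54) (kgi xgi19 ygi28 zgi44) (kgi xgi5 ygi28 zgi8) (kgi xgi5 ygi27 zgi37) (kgi xgi16 ygi44 zgi9) (kgi xgi16 ygi44 zgi7) (kgi xgi18 ygi44 zgi6) (kgi xgi19 ygi28 zgi56) (kgi xgi17 ygi20 zgi30) (kgi xgi5 ygi27 zgi39) (kgi xgi15 ygi37 zgi33) (kgi xgi15 ygi56 zgi25) (kgi xgi15 ygi37 zgi29) (kgi xgi5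 ygi27 zgi52) (kgi xgi8 ygi32 zgi35) (kgi xgi11 ygi2 zgi17) (kgi xgi16 ygi44 zgi25) (kgi xgi19 ygi29 zgi12) (kgi xgi7 ygi58 zgi13) (kgi xgi19 ygi29 zgi17) (kgi xgi15 ygi16 zgi23) (kgi xgi6 ygi4 zgi49) (kgi xgi5 ygi27 zgi45) (kgi xgi15 ygi37 zgi36) (kgi xgi15 ygi37 zgi34) (kgi xgi19 ygi29 zgi28) (kgi xgi19 ygi29 zgi32) (kgi xgi19 ygi29 zgi36) (kgi xgi11 ygi55 zgi11) (kgi xgi19 ygi29 zgi42) (kgi xgi15 ygi24 zgi59) (kgi xgi11 ygi55 zgi8) (kgi xgi5 ygi27 zgi50) (kgi xgi16 ygi44 zgi17) (kgi xgi16 ygi44 zgi15) (kgi xgi19 ygi29 zgi55) (kgi xgi19 ygi29 zgi59) (kgi xgi19 ygi30 zgi1) (kgi xgi10 ygi44 zgi5) (kgi xgi15 ygi37 zgi27) (kgi xgi5 ygi27 zgi53) (kgi xgi16 ygi44 zgi22) (kgi xgi16 ygi44 zgi20) (kgi xgi19 ygi10 zgi22) (kgi xgi19 ygi30 zgi17)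 (kgi xgi19 ygi30 zgi21) (kgi xgi19 ygi30 zgi24) (kgi xgi8 ygi29 zgi13)) (@D3.rec (fun _ => Pt) (kgi xgi13 ygi9 zgi30) (kgi xgi12 ygi10 zgi7) (kgi xgi8 ygi57 zgi51) (kgi xgi19 ygi29 zgi9) (kgi xgi19 ygi29 zgi47) (kgi xgi10 ygi53 zgi48) (kgi xgi19 ygi30 zgi41) (kgi xgi16 ygi44 zgi33) (kgi xgi6 ygi3 zgi27) (kgi xgi5 ygi27 zgi59) (kgi xgi16 ygi44 zgi31) (kgi xgi19 ygi30 zgi50) (kgi xgi7 ygi39 zgi49) (kgi xgi7 ygi34 zgi56) (kgi xgi7 ygi34 zgi54) (kgi xgi5 ygi27 zgi61) (kgi xgi7 ygi35 zgi9) (kgi xgi7 ygi35 zgi7) (kgi xgi14 ygi13 zgi29) (kgi xgi19 ygi29 zgi51) (kgi xgi19 ygi30 zgi59) (kgi xgi7 ygi42 zgi6) (kgi xgi7 ygi15 zgi31) (kgi xgi19 ygi29 zgi7) (kgi xgi7 ygi37 zgi26) (kgi xgi5 ygi35 zgi20) (kgi xgi7 ygi41 zgi27) (kgi xgi19 ygi31 zgi3)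 (kgi xgi19 ygi31 zgi5) (kgi xgi5 ygi35 zgi6) (kgi xgi15 ygi1 zgi43) (kgi xgi19 ygi31 zgi12) (kgi xgi19 ygi31 zgi13) (kgi xgi13 ygi20 zgi26) (kgi xgi19 ygi28 zgi61) (kgi xgi8 ygi17 zgi13) (kgi xgi19 ygi31 zgi23) (kgi xgi8 ygi15 zgi26) (kgi xgi19 ygi31 zgi29) (kgi xgi5 ygi28 zgi13) (kgi xgi19 ygi31 zgi33) (kgi xgi8 ygi15 zgi23) (kgi xgi19 ygi31 zgi37) (kgi xgi5 ygi30 zgi50) (kgi xgi5 ygi28 zgi20) (kgi xgi16 ygi37 zgi27) (kgi xgi16 ygi37 zgi25) (kgi xgi8 ygi55 zgi14) (kgi xgi19 ygi31 zgi49) (kgi xgi19 ygi31 zgi53) (kgi xgi5 ygi28 zgi22) (kgi xgi16 ygi37 zgi22) (kgi xgi19 ygi31 zgi61) (kgi xgi16 ygi37 zgi19) (kgi xgi8 ygi20 zgi24) (kgi xgi15 ygi17 zgi34) (kgi xgi8 ygi35 zgi51) (kgi xgi11 ygi2 zgi21) (kgi xgi16 ygi37 zgi41) (kgi xgi11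 ygi53 zgi23) (kgi xgi16 ygi38 zgi43) (kgi xgi5 ygi39 zgi23)) (@D3.rec (fun _ => Pt) (kgi xgi10 ygi49 zgi28) (kgi xgi8 ygi59 zgi4) (kgi xgi19 ygi32 zgi15) (kgi xgi16 ygi7 zgi12) (kgi xgi10 ygi57 zgi52) (kgi xgi5 ygi28 zgi30) (kgi xgi16 ygi55 zgi51) (kgi xgi19 ygi32 zgi14) (kgi xgi5 ygi28 zgi31) (kgi xgi10 ygi58 zgi36) (kgi xgi16 ygi56 zgi52) (kgi xgi10 ygi58 zgi33) (kgi xgi5 ygi39 zgi30) (kgi xgi11 ygi32 zgi52) (kgi xgi16 ygi51 zgi2) (kgi xgi9 ygi17 zgi27) (kgi xgi5 ygi40 zgi61) (kgi xgi5 ygi29 zgi59) (kgi xgi5 ygi30 zgi28) (kgi xgi11 ygi55 zgi48) (kgi xgi16 ygi44 zgi61) (kgi xgi6 ygi46 zgi55) (kgi xgi16 ygi49 zgi26) (kgi xgi19 ygi3 zgi40) (kgi xgi5 ygi36 zgi45) (kgi xgi10 ygi52 zgi21) (kgi xgi15 ygi45 zgi31) (kgi xgi17 ygi1 zgi34)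 (kgi xgi17 ygi53 zgi20) (kgi xgi12 ygi9 zgi56) (kgi xgi5 ygi28 zgi43) (kgi xgi19 ygi25 zgi10) (kgi xgi19 ygi32 zgi41) (kgi xgi11 ygi58 zgi22) (kgi xgi16 ygi49 zgi32) (kgi xgi5 ygi28 zgi46) (kgi xgi11 ygi55 zgi19) (kgi xgi6 ygi12 zgi29) (kgi xgi16 ygi44 zgi53) (kgi xgi19 ygi32 zgi45) (kgi xgi5 ygi30 zgi43) (kgi xgi5 ygi30 zgi21) (kgi xgi16 ygi49 zgi27) (kgi xgi11 ygi5 zgi7) (kgi xgi10 ygi54 zgi31) (kgi xgi19 ygi32 zgi56) (kgi xgi5 ygi28 zgi50) (kgi xgi11 ygi5 zgi9) (kgi xgi15 ygi2 zgi53) (kgi xgi19 ygi33 zgi3) (kgi xgi19 ygi33 zgi7) (kgi xgi15 ygi3 zgi33) (kgi xgi5 ygi28 zgi52) (kgi xgi19 ygi32 zgi57) (kgi xgi11 ygi7 zgi38) (kgi xgi19 ygi32 zgi55) (kgi xgi5 ygi28 zgi53) (kgi xgi11 ygi11 zgi12) (kgi xgi10 ygi55 zgi24) (kgi xgi9 ygi0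 zgi12) (kgi xgi16 ygi43 zgi47) (kgi xgi9 ygi43 zgi40)) (@D3.rec (fun _ => Pt) (kgi xgi5 ygi29 zgi2) (kgi xgi10 ygi11 zgi29) (kgi xgi11 ygi31 zgi33) (kgi xgi5 ygi28 zgi59) (kgi xgi9 ygi57 zgi18) (kgi xgi18 ygi50 zgi53) (kgi xgi12 ygi56 zgi35) (kgi xgi18 ygi26 zgi0) (kgi xgi5 ygi52 zgi22) (kgi xgi5 ygi29 zgi1) (kgi xgi11 ygi5 zgi33) (kgi xgi11 ygi29 zgi23) (kgi xgi11 ygi9 zgi9) (kgi xgi11 ygi4 zgi54) (kgi xgi17 ygi53 zgi30) (kgi xgi14 ygi50 zgi15) (kgi xgi5 ygi29 zgi3) (kgi xgi5 ygi29 zgi7) (kgi xgi19 ygi33 zgi29) (kgi xgi19 ygi33 zgi34) (kgi xgi19 ygi33 zgi38) (kgi xgi19 ygi33 zgi41) (kgi xgi17 ygi53 zgi21) (kgi xgi5 ygi29 zgi5) (kgi xgi10 ygi44 zgi21) (kgi xgi11 ygi4 zgi57) (kgi xgi5 ygi29 zgi6) (kgi xgi16 ygi44 zgi52) (kgi xgi10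 ygi47 zgi60) (kgi xgi15 ygi3 zgi27) (kgi xgi19 ygi33 zgi59) (kgi xgi8 ygi26 zgi44) (kgi xgi19 ygi33 zgi33) (kgi xgi19 ygi34 zgi5) (kgi xgi18 ygi48 zgi55) (kgi xgi16 ygi57 zgi32) (kgi xgi11 ygi55 zgi17) (kgi xgi19 ygi34 zgi11) (kgi xgi11 ygi55 zgi16) (kgi xgi16 ygi45 zgi8) (kgi xgi12 ygi10 zgi61) (kgi xgi14 ygi26 zgi9) (kgi xgi5 ygi46 zgi6) (kgi xgi9 ygi46 zgi26) (kgi xgi11 ygi1 zgi1) (kgi xgi11 ygi49 zgi42) (kgi xgi5 ygi29 zgi14) (kgi xgi16 ygi45 zgi0) (kgi xgi19 ygi34 zgi30) (kgi xgi11 ygi50 zgi34) (kgi xgi9 ygi6 zgi42) (kgi xgi11 ygi50 zgi35) (kgi xgi19 ygi33 zgi47) (kgi xgi5 ygi29 zgi17) (kgi xgi19 ygi34 zgi42) (kgi xgi5 ygi29 zgi18) (kgi xgi10 ygi23 zgi31) (kgi xgi10 ygi23 zgi29) (kgi xgi19 ygi34 zgi52) (kgi xgi5 ygi29 zgi19)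 (kgi xgi8 ygi15 zgi38) (kgi xgi19 ygi34 zgi60)) (@D3.rec (fun _ => Pt) (kgi xgi11 ygi55 zgi21) (kgi xgi15 ygi31 zgi18) (kgi xgi5 ygi32 zgi30) (kgi xgi19 ygi35 zgi5) (kgi xgi8 ygi30 zgi19) (kgi xgi5 ygi29 zgi22) (kgi xgi5 ygi29 zgi40) (kgi xgi5 ygi29 zgi25) (kgi xgi15 ygi15 zgi7) (kgi xgi15 ygi15 zgi5) (kgi xgi19 ygi35 zgi20) (kgi xgi19 ygi35 zgi24) (kgi xgi19 ygi35 zgi27) (kgi xgi5 ygi29 zgi27) (kgi xgi19 ygi35 zgi31) (kgi xgi5 ygi30 zgi6) (kgi xgi15 ygi1 zgi50) (kgi xgi9 ygi36 zgi30) (kgi xgi19 ygi35 zgi36) (kgi xgi8 ygi16 zgi28) (kgi xgi8 ygi20 zgi9) (kgi xgi19 ygi35 zgi43) (kgi xgi15 ygi59 zgi29) (kgi xgi8 ygi26 zgi43) (kgi xgi15 ygi49 zgi2) (kgi xgi19 ygi35 zgi47) (kgi xgi16 ygi3 zgi46) (kgi xgi5 ygi29 zgi37) (kgi xgi15 ygi49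 zgi28) (kgi xgi15 ygi49 zgi27) (kgi xgi5 ygi29 zgi38) (kgi xgi16 ygi18 zgi61) (kgi xgi16 ygi18 zgi59) (kgi xgi19 ygi35 zgi61) (kgi xgi19 ygi36 zgi2) (kgi xgi15 ygi33 zgi44) (kgi xgi8 ygi16 zgi34) (kgi xgi15 ygi26 zgi0) (kgi xgi15 ygi36 zgi50) (kgi xgi19 ygi36 zgi7) (kgi xgi5 ygi29 zgi42) (kgi xgi15 ygi51 zgi22) (kgi xgi15 ygi51 zgi21) (kgi xgi5 ygi29 zgi45) (kgi xgi16 ygi42 zgi47) (kgi xgi16 ygi42 zgi45) (kgi xgi19 ygi36 zgi20) (kgi xgi19 ygi36 zgi23) (kgi xgi5 ygi29 zgi47) (kgi xgi12 ygi52 zgi43) (kgi xgi5 ygi29 zgi48) (kgi xgi16 ygi42 zgi56) (kgi xgi16 ygi42 zgi54) (kgi xgi18 ygi51 zgi12) (kgi xgi19 ygi36 zgi35) (kgi xgi5 ygi29 zgi50) (kgi xgi16 ygi42 zgi52) (kgi xgi16 ygi42 zgi50) (kgi xgi15 ygi59 zgi30) (kgi xgi11 ygi55 zgi32)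 (kgi xgi5 ygi29 zgi53) (kgi xgi16 ygi43 zgi0)) (@D3.rec (fun _ => Pt) (kgi xgi16 ygi42 zgi60) (kgi xgi19 ygi36 zgi52) (kgi xgi19 ygi36 zgi4) (kgi xgi12 ygi0 zgi29) (kgi xgi12 ygi33 zgi14) (kgi xgi5 ygi29 zgi57) (kgi xgi16 ygi43 zgi4) (kgi xgi16 ygi43 zgi2) (kgi xgi17 ygi57 zgi4) (kgi xgi19 ygi37 zgi0) (kgi xgi16 ygi42 zgi53) (kgi xgi19 ygi37 zgi2) (kgi xgi16 ygi43 zgi29) (kgi xgi8 ygi57 zgi5) (kgi xgi12 ygi58 zgi13) (kgi xgi19 ygi36 zgi43) (kgi xgi10 ygi56 zgi16) (kgi xgi19 ygi37 zgi17) (kgi xgi16 ygi43 zgi12) (kgi xgi17 ygi32 zgi34) (kgi xgi5 ygi30 zgi1) (kgi xgi16 ygi43 zgi11) (kgi xgi19 ygi37 zgi32) (kgi xgi19 ygi37 zgi36) (kgi xgi5 ygi30 zgi2) (kgi xgi19 ygi37 zgi24) (kgi xgi19 ygi37 zgi44) (kgi xgi19 ygi37 zgi22) (kgi xgi19 ygi36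 zgi48) (kgi xgi19 ygi37 zgi48) (kgi xgi16 ygi26 zgi52) (kgi xgi15 ygi41 zgi2) (kgi xgi5 ygi30 zgi5) (kgi xgi19 ygi35 zgi29) (kgi xgi8 ygi8 zgi43) (kgi xgi19 ygi35 zgi26) (kgi xgi19 ygi36 zgi49) (kgi xgi7 ygi58 zgi4) (kgi xgi19 ygi38 zgi5) (kgi xgi18 ygi22 zgi26) (kgi xgi16 ygi8 zgi21) (kgi xgi19 ygi38 zgi4) (kgi xgi5 ygi30 zgi8) (kgi xgi19 ygi35 zgi33) (kgi xgi19 ygi38 zgi16) (kgi xgi19 ygi35 zgi30) (kgi xgi5 ygi30 zgi10) (kgi xgi19 ygi36 zgi16) (kgi xgi19 ygi38 zgi28) (kgi xgi18 ygi46 zgi27) (kgi xgi19 ygi38 zgi32) (kgi xgi19 ygi38 zgi27) (kgi xgi15 ygi36 zgi52) (kgi xgi5 ygi35 zgi7) (kgi xgi10 ygi37 zgi47) (kgi xgi15 ygi58 zgi23) (kgi xgi8 ygi18 zgi54) (kgi xgi5 ygi30 zgi16) (kgi xgi15 ygi58 zgi9) (kgi xgi12 ygi11 zgi35) (kgi xgi15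 ygi34 zgi14) (kgi xgi15 ygi58 zgi7)) (@D3.rec (fun _ => Pt) (kgi xgi19 ygi38 zgi51) (kgi xgi8 ygi17 zgi25) (kgi xgi5 ygi30 zgi19) (kgi xgi15 ygi46 zgi46) (kgi xgi6 ygi48 zgi19) (kgi xgi8 ygi32 zgi14) (kgi xgi19 ygi38 zgi60) (kgi xgi11 ygi3 zgi41) (kgi xgi11 ygi5 zgi22) (kgi xgi19 ygi39 zgi4) (kgi xgi19 ygi39 zgi7) (kgi xgi5 ygi30 zgi22) (kgi xgi5 ygi30 zgi26) (kgi xgi19 ygi39 zgi12) (kgi xgi19 ygi39 zgi16) (kgi xgi19 ygi39 zgi18) (kgi xgi19 ygi39 zgi20) (kgi xgi5 ygi49 zgi23) (kgi xgi6 ygi12 zgi22) (kgi xgi5 ygi30 zgi25) (kgi xgi16 ygi43 zgi46) (kgi xgi10 ygi48 zgi23) (kgi xgi10 ygi41 zgi36) (kgi xgi19 ygi39 zgi29) (kgi xgi15 ygi33 zgi19) (kgi xgi16 ygi48 zgi22) (kgi xgi19 ygi39 zgi36) (kgi xgi16 ygi48 zgi25) (kgi xgi19 ygi39 zgi42)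 (kgi xgi16 ygi43 zgi45) (kgi xgi19 ygi39 zgi45) (kgi xgi16 ygi43 zgi43) (kgi xgi16 ygi43 zgi58) (kgi xgi12 ygi11 zgi2) (kgi xgi5 ygi30 zgi30) (kgi xgi19 ygi39 zgi52) (kgi xgi5 ygi30 zgi35) (kgi xgi19 ygi39 zgi0) (kgi xgi11 ygi1 zgi42) (kgi xgi9 ygi44 zgi25) (kgi xgi5 ygi49 zgi16) (kgi xgi11 ygi21 zgi39) (kgi xgi16 ygi57 zgi12) (kgi xgi5 ygi30 zgi33) (kgi xgi17 ygi57 zgi7) (kgi xgi8 ygi46 zgi49) (kgi xgi5 ygi30 zgi34) (kgi xgi19 ygi39 zgi1) (kgi xgi11 ygi10 zgi21) (kgi xgi19 ygi40 zgi12) (kgi xgi16 ygi49 zgi48) (kgi xgi11 ygi31 zgi40) (kgi xgi19 ygi40 zgi10) (kgi xgi19 ygi40 zgi11) (kgi xgi5 ygi30 zgi37) (kgi xgi19 ygi39 zgi53) (kgi xgi19 ygi40 zgi23) (kgi xgi16 ygi45 zgi12) (kgi xgi9 ygi44 zgi24) (kgi xgi9 ygi1 zgi11) (kgi xgi5 ygi30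 zgi41) (kgi xgi5 ygi30 zgi44)) (@D3.rec (fun _ => Pt) (kgi xgi11 ygi10 zgi36) (kgi xgi19 ygi40 zgi27) (kgi xgi19 ygi40 zgi29) (kgi xgi5 ygi52 zgi25) (kgi xgi5 ygi30 zgi45) (kgi xgi12 ygi43 zgi7) (kgi xgi15 ygi44 zgi24) (kgi xgi19 ygi40 zgi36) (kgi xgi11 ygi21 zgi3) (kgi xgi5 ygi30 zgi48) (kgi xgi5 ygi30 zgi52) (kgi xgi12 ygi14 zgi6) (kgi xgi16 ygi36 zgi20) (kgi xgi19 ygi40 zgi42) (kgi xgi19 ygi40 zgi44) (kgi xgi16 ygi45 zgi20) (kgi xgi5 ygi57 zgi5) (kgi xgi19 ygi40 zgi47) (kgi xgi6 ygi28 zgi45) (kgi xgi11 ygi38 zgi54) (kgi xgi16 ygi4 zgi40) (kgi xgi6 ygi36 zgi31) (kgi xgi5 ygi30 zgi58) (kgi xgi12 ygi15 zgi38) (kgi xgi12 ygi15 zgi40) (kgi xgi5 ygi30 zgi60) (kgi xgi15 ygi51 zgi60) (kgi xgi15 ygi51 zgi58) (kgi xgi19 ygi40 zgi59) (kgi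 xgi19 ygi40 zgi61) (kgi xgi19 ygi41 zgi2) (kgi xgi5 ygi31 zgi0) (kgi xgi5 ygi31 zgi17) (kgi xgi18 ygi41 zgi53) (kgi xgi5 ygi31 zgi14) (kgi xgi8 ygi26 zgi51) (kgi xgi18 ygi44 zgi57) (kgi xgi10 ygi25 zgi6) (kgi xgi5 ygi35 zgi0) (kgi xgi5 ygi31 zgi4) (kgi xgi15 ygi51 zgi4) (kgi xgi15 ygi51 zgi2) (kgi xgi19 ygi41 zgi18) (kgi xgi19 ygi41 zgi21) (kgi xgi19 ygi41 zgi23) (kgi xgi5 ygi33 zgi46) (kgi xgi16 ygi49 zgi12) (kgi xgi19 ygi41 zgi11) (kgi xgi10 ygi47 zgi2) (kgi xgi19 ygi41 zgi32) (kgi xgi5 ygi31 zgi9) (kgi xgi16 ygi46 zgi32) (kgi xgi19 ygi41 zgi41) (kgi xgi13 ygi34 zgi30) (kgi xgi5 ygi31 zgi10) (kgi xgi19 ygi41 zgi33) (kgi xgi19 ygi41 zgi48) (kgi xgi19 ygi41 zgi31) (kgi xgi19 ygi41 zgi14) (kgi xgi19 ygi41 zgi53) (kgi xgi15 ygi52 zgi12)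 (kgi xgi17 ygi26 zgi44)) (@D3.rec (fun _ => Pt) (kgi xgi5 ygi31 zgi13) (kgi xgi18 ygi4 zgi23) (kgi xgi10 ygi2 zgi35) (kgi xgi17 ygi12 zgi40) (kgi xgi19 ygi41 zgi15) (kgi xgi19 ygi42 zgi3) (kgi xgi11 ygi55 zgi61) (kgi xgi19 ygi42 zgi4) (kgi xgi18 ygi55 zgi60) (kgi xgi19 ygi28 zgi24) (kgi xgi15 ygi30 zgi55) (kgi xgi5 ygi31 zgi26) (kgi xgi8 ygi27 zgi53) (kgi xgi18 ygi39 zgi61) (kgi xgi5 ygi31 zgi19) (kgi xgi19 ygi28 zgi4) (kgi xgi19 ygi41 zgi8) (kgi xgi15 ygi55 zgi42) (kgi xgi5 ygi31 zgi20) (kgi xgi18 ygi46 zgi59) (kgi xgi15 ygi2 zgi13) (kgi xgi18 ygi49 zgi42) (kgi xgi16 ygi42 zgi37) (kgi xgi19 ygi42 zgi21) (kgi xgi18 ygi49 zgi8) (kgi xgi19 ygi28 zgi17) (kgi xgi19 ygi41 zgi7) (kgi xgi10 ygi21 zgi0) (kgi xgi19 ygi42 zgi29) (kgi xgi18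 ygi54 zgi11) (kgi xgi19 ygi42 zgi31) (kgi xgi5 ygi31 zgi48) (kgi xgi5 ygi32 zgi34) (kgi xgi16 ygi47 zgi16) (kgi xgi10 ygi48 zgi44) (kgi xgi16 ygi30 zgi1) (kgi xgi7 ygi58 zgi32) (kgi xgi15 ygi30 zgi33) (kgi xgi5 ygi31 zgi30) (kgi xgi19 ygi32 zgi61) (kgi xgi19 ygi42 zgi47) (kgi xgi5 ygi31 zgi31) (kgi xgi15 ygi30 zgi10) (kgi xgi19 ygi42 zgi55) (kgi xgi5 ygi31 zgi32) (kgi xgi8 ygi12 zgi0) (kgi xgi10 ygi0 zgi34) (kgi xgi9 ygi43 zgi60) (kgi xgi12 ygi29 zgi17) (kgi xgi5 ygi31 zgi37) (kgi xgi8 ygi28 zgi19) (kgi xgi19 ygi33 zgi28) (kgi xgi19 ygi42 zgi61) (kgi xgi5 ygi31 zgi35) (kgi xgi14 ygi2 zgi43) (kgi xgi16 ygi41 zgi22) (kgi xgi8 ygi59 zgi0) (kgi xgi8 ygi26 zgi57) (kgi xgi19 ygi33 zgi26) (kgi xgi16 ygi47 zgi1) (kgi xgi19 ygi43 zgi9) (kgi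 xgi5 ygi31 zgi39)) (@D3.rec (fun _ => Pt) (kgi xgi5 ygi31 zgi47) (kgi xgi5 ygi42 zgi0) (kgi xgi5 ygi31 zgi44) (kgi xgi19 ygi20 zgi58) (kgi xgi19 ygi43 zgi16) (kgi xgi9 ygi5 zgi42) (kgi xgi16 ygi41 zgi32) (kgi xgi11 ygi0 zgi32) (kgi xgi19 ygi20 zgi61) (kgi xgi5 ygi31 zgi42) (kgi xgi16 ygi47 zgi0) (kgi xgi19 ygi34 zgi27) (kgi xgi19 ygi25 zgi45) (kgi xgi5 ygi31 zgi43) (kgi xgi19 ygi43 zgi10) (kgi xgi19 ygi43 zgi8) (kgi xgi19 ygi42 zgi59) (kgi xgi19 ygi43 zgi45) (kgi xgi19 ygi43 zgi44) (kgi xgi19 ygi43 zgi0) (kgi xgi5 ygi31 zgi46) (kgi xgi7 ygi58 zgi56) (kgi xgi10 ygi59 zgi46) (kgi xgi10 ygi5 zgi40) (kgi xgi5 ygi31 zgi51) (kgi xgi10 ygi48 zgi58) (kgi xgi11 ygi22 zgi18) (kgi xgi10 ygi48 zgi56) (kgi xgi19 ygi42 zgi37) (kgi xgi11 ygi31 zgi21)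 (kgi xgi5 ygi31 zgi55) (kgi xgi10 ygi59 zgi44) (kgi xgi8 ygi23 zgi5) (kgi xgi19 ygi42 zgi38) (kgi xgi8 ygi58 zgi33) (kgi xgi12 ygi58 zgi8) (kgi xgi10 ygi58 zgi45) (kgi xgi9 ygi1 zgi37) (kgi xgi16 ygi41 zgi12) (kgi xgi10 ygi47 zgi42) (kgi xgi18 ygi49 zgi20) (kgi xgi15 ygi8 zgi59) (kgi xgi9 ygi55 zgi45) (kgi xgi5 ygi34 zgi4) (kgi xgi5 ygi34 zgi6) (kgi xgi19 ygi27 zgi52) (kgi xgi19 ygi17 zgi37) (kgi xgi9 ygi57 zgi20) (kgi xgi5 ygi32 zgi6) (kgi xgi17 ygi49 zgi4) (kgi xgi18 ygi13 zgi1) (kgi xgi17 ygi49 zgi1) (kgi xgi5 ygi32 zgi7) (kgi xgi5 ygi36 zgi12) (kgi xgi18 ygi58 zgi1) (kgi xgi5 ygi32 zgi8) (kgi xgi15 ygi15 zgi13) (kgi xgi15 ygi15 zgi11) (kgi xgi19 ygi44 zgi27) (kgi xgi19 ygi44 zgi31) (kgi xgi19 ygi44 zgi35) (kgi xgi5 ygi32 zgi10))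 (@D3.rec (fun _ => Pt) (kgi xgi5 ygi32 zgi28) (kgi xgi19 ygi44 zgi43) (kgi xgi5 ygi32 zgi25) (kgi xgi10 ygi23 zgi28) (kgi xgi14 ygi53 zgi10) (kgi xgi5 ygi32 zgi14) (kgi xgi16 ygi45 zgi24) (kgi xgi15 ygi21 zgi20) (kgi xgi5 ygi32 zgi15) (kgi xgi16 ygi45 zgi29) (kgi xgi16 ygi45 zgi27) (kgi xgi19 ygi45 zgi0) (kgi xgi19 ygi45 zgi3) (kgi xgi19 ygi45 zgi5) (kgi xgi15 ygi20 zgi58) (kgi xgi19 ygi45 zgi9) (kgi xgi10 ygi51 zgi13) (kgi xgi19 ygi45 zgi14) (kgi xgi5 ygi32 zgi20) (kgi xgi16 ygi45 zgi33) (kgi xgi19 ygi45 zgi22) (kgi xgi19 ygi45 zgi24) (kgi xgi5 ygi32 zgi21) (kgi xgi17 ygi58 zgi50) (kgi xgi19 ygi45 zgi33) (kgi xgi19 ygi45 zgi13) (kgi xgi19 ygi44 zgi54) (kgi xgi16 ygi26 zgi45) (kgi xgi6 ygi48 zgi18) (kgi xgi5 ygi32 zgi24) (kgi xgi19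 ygi44 zgi37) (kgi xgi19 ygi45 zgi49) (kgi xgi19 ygi44 zgi34) (kgi xgi14 ygi34 zgi10) (kgi xgi7 ygi58 zgi18) (kgi xgi11 ygi54 zgi41) (kgi xgi16 ygi5 zgi57) (kgi xgi19 ygi45 zgi59) (kgi xgi18 ygi2 zgi40) (kgi xgi17 ygi10 zgi29) (kgi xgi8 ygi15 zgi19) (kgi xgi5 ygi32 zgi27) (kgi xgi19 ygi44 zgi45) (kgi xgi19 ygi46 zgi9) (kgi xgi19 ygi44 zgi42) (kgi xgi5 ygi32 zgi29) (kgi xgi15 ygi15 zgi48) (kgi xgi19 ygi46 zgi21) (kgi xgi19 ygi46 zgi24) (kgi xgi19 ygi46 zgi26) (kgi xgi19 ygi46 zgi20) (kgi xgi8 ygi15 zgi24) (kgi xgi15 ygi33 zgi57) (kgi xgi10 ygi57 zgi56) (kgi xgi7 ygi58 zgi58) (kgi xgi5 ygi32 zgi35) (kgi xgi5 ygi32 zgi37) (kgi xgi19 ygi46 zgi39) (kgi xgi19 ygi39 zgi11) (kgi xgi19 ygi22 zgi19) (kgi xgi19 ygi39 zgi10) (kgi xgi19 ygi46 zgi42))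 (@D3.rec (fun _ => Pt) (kgi xgi11 ygi55 zgi38) (kgi xgi19 ygi46 zgi45) (kgi xgi16 ygi46 zgi9) (kgi xgi9 ygi49 zgi24) (kgi xgi5 ygi32 zgi40) (kgi xgi5 ygi32 zgi47) (kgi xgi19 ygi46 zgi32) (kgi xgi19 ygi46 zgi53) (kgi xgi19 ygi43 zgi55) (kgi xgi9 ygi44 zgi3) (kgi xgi19 ygi46 zgi52) (kgi xgi5 ygi32 zgi43) (kgi xgi16 ygi46 zgi4) (kgi xgi17 ygi56 zgi56) (kgi xgi15 ygi8 zgi18) (kgi xgi9 ygi49 zgi22) (kgi xgi19 ygi46 zgi33) (kgi xgi19 ygi46 zgi38) (kgi xgi6 ygi21 zgi39) (kgi xgi16 ygi5 zgi58) (kgi xgi17 ygi58 zgi31) (kgi xgi19 ygi47 zgi8) (kgi xgi12 ygi29 zgi49) (kgi xgi11 ygi55 zgi41) (kgi xgi5 ygi32 zgi48) (kgi xgi12 ygi57 zgi57) (kgi xgi19 ygi47 zgi18) (kgi xgi5 ygi32 zgi51) (kgi xgi5 ygi34 zgi7) (kgi xgi19 ygi47 zgi21) (kgi xgi16 ygi41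 zgi38) (kgi xgi14 ygi40 zgi44) (kgi xgi5 ygi34 zgi8) (kgi xgi12 ygi9 zgi55) (kgi xgi12 ygi55 zgi52) (kgi xgi5 ygi32 zgi56) (kgi xgi5 ygi32 zgi59) (kgi xgi18 ygi44 zgi1) (kgi xgi19 ygi47 zgi36) (kgi xgi19 ygi47 zgi40) (kgi xgi19 ygi47 zgi42) (kgi xgi5 ygi45 zgi46) (kgi xgi5 ygi32 zgi58) (kgi xgi16 ygi49 zgi6) (kgi xgi9 ygi51 zgi32) (kgi xgi19 ygi47 zgi35) (kgi xgi16 ygi48 zgi48) (kgi xgi9 ygi13 zgi2) (kgi xgi15 ygi20 zgi47) (kgi xgi11 ygi3 zgi42) (kgi xgi19 ygi47 zgi57) (kgi xgi16 ygi47 zgi57) (kgi xgi19 ygi48 zgi1) (kgi xgi5 ygi33 zgi13) (kgi xgi19 ygi48 zgi4) (kgi xgi5 ygi33 zgi10) (kgi xgi10 ygi54 zgi32) (kgi xgi5 ygi35 zgi47) (kgi xgi16 ygi49 zgi4) (kgi xgi19 ygi48 zgi10) (kgi xgi16 ygi50 zgi35) (kgi xgi5 ygi33 zgi4)) (@D3.rec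 (fun _ => Pt) (kgi xgi16 ygi47 zgi50) (kgi xgi19 ygi48 zgi20) (kgi xgi19 ygi48 zgi25) (kgi xgi5 ygi33 zgi5) (kgi xgi19 ygi47 zgi59) (kgi xgi19 ygi6 zgi0) (kgi xgi19 ygi47 zgi56) (kgi xgi19 ygi47 zgi25) (kgi xgi16 ygi25 zgi30) (kgi xgi6 ygi16 zgi45) (kgi xgi19 ygi48 zgi37) (kgi xgi16 ygi48 zgi3) (kgi xgi5 ygi33 zgi8) (kgi xgi16 ygi47 zgi51) (kgi xgi19 ygi48 zgi45) (kgi xgi6 ygi40 zgi49) (kgi xgi5 ygi33 zgi9) (kgi xgi16 ygi54 zgi12) (kgi xgi10 ygi48 zgi4) (kgi xgi17 ygi15 zgi45) (kgi xgi19 ygi47 zgi31) (kgi xgi16 ygi4 zgi43) (kgi xgi9 ygi3 zgi45) (kgi xgi19 ygi47 zgi46) (kgi xgi5 ygi33 zgi12) (kgi xgi17 ygi6 zgi32) (kgi xgi19 ygi48 zgi54) (kgi xgi12 ygi54 zgi59) (kgi xgi15 ygi27 zgi19) (kgi xgi16 ygi54 zgi18) (kgi xgi5 ygi34 zgi3) (kgi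 xgi19 ygi21 zgi21) (kgi xgi19 ygi23 zgi61) (kgi xgi5 ygi33 zgi17) (kgi xgi10 ygi48 zgi11) (kgi xgi11 ygi21 zgi57) (kgi xgi10 ygi48 zgi8) (kgi xgi16 ygi53 zgi23) (kgi xgi11 ygi2 zgi0) (kgi xgi16 ygi48 zgi4) (kgi xgi17 ygi8 zgi24) (kgi xgi5 ygi42 zgi16) (kgi xgi11 ygi5 zgi48) (kgi xgi5 ygi34 zgi11) (kgi xgi5 ygi49 zgi57) (kgi xgi10 ygi55 zgi34) (kgi xgi5 ygi34 zgi41) (kgi xgi5 ygi33 zgi26) (kgi xgi5 ygi33 zgi29) (kgi xgi19 ygi49 zgi12) (kgi xgi15 ygi54 zgi15) (kgi xgi19 ygi39 zgi49) (kgi xgi5 ygi34 zgi48) (kgi xgi5 ygi33 zgi28) (kgi xgi5 ygi33 zgi51) (kgi xgi7 ygi58 zgi55) (kgi xgi5 ygi34 zgi23) (kgi xgi19 ygi27 zgi48) (kgi xgi8 ygi2 zgi54) (kgi xgi15 ygi54 zgi32) (kgi xgi19 ygi49 zgi29) (kgi xgi8 ygi2 zgi14)) (@D3.rec (fun _ => Pt)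 (kgi xgi7 ygi30 zgi41) (kgi xgi6 ygi42 zgi37) (kgi xgi19 ygi49 zgi35) (kgi xgi16 ygi47 zgi23) (kgi xgi5 ygi33 zgi44) (kgi xgi15 ygi21 zgi16) (kgi xgi15 ygi9 zgi30) (kgi xgi19 ygi49 zgi32) (kgi xgi5 ygi33 zgi37) (kgi xgi11 ygi42 zgi44) (kgi xgi19 ygi49 zgi51) (kgi xgi19 ygi49 zgi34) (kgi xgi16 ygi48 zgi19) (kgi xgi15 ygi8 zgi17) (kgi xgi19 ygi49 zgi0) (kgi xgi5 ygi33 zgi53) (kgi xgi19 ygi49 zgi53) (kgi xgi11 ygi58 zgi40) (kgi xgi5 ygi33 zgi40) (kgi xgi16 ygi47 zgi20) (kgi xgi19 ygi50 zgi3) (kgi xgi19 ygi50 zgi6) (kgi xgi16 ygi48 zgi20) (kgi xgi19 ygi49 zgi11) (kgi xgi17 ygi45 zgi11) (kgi xgi11 ygi41 zgi55) (kgi xgi19 ygi50 zgi9) (kgi xgi11 ygi42 zgi57) (kgi xgi7 ygi36 zgi19) (kgi xgi8 ygi58 zgi0) (kgi xgi11 ygi5 zgi36) (kgi xgi15 ygi4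 zgi17) (kgi xgi5 ygi33 zgi61) (kgi xgi19 ygi39 zgi26) (kgi xgi19 ygi50 zgi20) (kgi xgi19 ygi39 zgi28) (kgi xgi19 ygi49 zgi2) (kgi xgi19 ygi49 zgi6) (kgi xgi7 ygi58 zgi59) (kgi xgi16 ygi56 zgi30) (kgi xgi11 ygi10 zgi1) (kgi xgi16 ygi47 zgi28) (kgi xgi15 ygi2 zgi39) (kgi xgi19 ygi32 zgi52) (kgi xgi19 ygi50 zgi30) (kgi xgi19 ygi49 zgi18) (kgi xgi19 ygi32 zgi54) (kgi xgi19 ygi50 zgi36) (kgi xgi19 ygi49 zgi57) (kgi xgi5 ygi33 zgi54) (kgi xgi19 ygi50 zgi27) (kgi xgi19 ygi50 zgi41) (kgi xgi11 ygi47 zgi45) (kgi xgi19 ygi50 zgi12) (kgi xgi19 ygi17 zgi22) (kgi xgi19 ygi21 zgi53) (kgi xgi19 ygi27 zgi49) (kgi xgi19 ygi21 zgi50) (kgi xgi19 ygi17 zgi30) (kgi xgi19 ygi4 zgi37) (kgi xgi18 ygi46 zgi21) (kgi xgi19 ygi50 zgi52))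
def fi_g_11 : D2 → D3 → Pt := @D2.rec (fun _ => D3 → Pt) (@D3.rec (fun _ => Pt) (kgi xgi19 ygi17 zgi34) (kgi xgi5 ygi33 zgi59) (kgi xgi5 ygi34 zgi14) (kgi xgi19 ygi20 zgi7) (kgi xgi19 ygi51 zgi2) (kgi xgi19 ygi18 zgi47) (kgi xgi5 ygi33 zgi60) (kgi xgi19 ygi44 zgi8) (kgi xgi19 ygi51 zgi8) (kgi xgi19 ygi50 zgi19) (kgi xgi7 ygi45 zgi46) (kgi xgi19 ygi20 zgi60) (kgi xgi6 ygi16 zgi35) (kgi xgi5 ygi34 zgi1) (kgi xgi5 ygi34 zgi16) (kgi xgi14 ygi42 zgi30) (kgi xgi19 ygi20 zgi0) (kgi xgi18 ygi47 zgi39) (kgi xgi19 ygi50 zgi22) (kgi xgi5 ygi34 zgi2) (kgi xgi16 ygi47 zgi34) (kgi xgi6 ygi1 zgi61) (kgi xgi5 ygi34 zgi5) (kgi xgi15 ygi0 zgi19) (kgi xgi16 ygi47 zgi36) (kgi xgi5 ygi34 zgi25) (kgi xgi8 ygi58 zgi2) (kgi xgi19 ygi43 zgi32) (kgi xgi19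 ygi51 zgi27) (kgi xgi19 ygi51 zgi29) (kgi xgi16 ygi44 zgi49) (kgi xgi19 ygi51 zgi35) (kgi xgi10 ygi55 zgi4) (kgi xgi17 ygi4 zgi44) (kgi xgi5 ygi34 zgi12) (kgi xgi19 ygi51 zgi28) (kgi xgi9 ygi9 zgi31) (kgi xgi16 ygi47 zgi60) (kgi xgi10 ygi36 zgi16) (kgi xgi19 ygi4 zgi44) (kgi xgi19 ygi21 zgi3) (kgi xgi13 ygi4 zgi51) (kgi xgi5 ygi34 zgi15) (kgi xgi7 ygi36 zgi26) (kgi xgi19 ygi51 zgi11) (kgi xgi16 ygi53 zgi52) (kgi xgi19 ygi51 zgi21) (kgi xgi19 ygi51 zgi46) (kgi xgi6 ygi1 zgi59) (kgi xgi19 ygi51 zgi48) (kgi xgi6 ygi1 zgi44) (kgi xgi6 ygi45 zgi50) (kgi xgi16 ygi54 zgi33) (kgi xgi16 ygi55 zgi19) (kgi xgi19 ygi51 zgi52) (kgi xgi5 ygi34 zgi22) (kgi xgi5 ygi34 zgi33) (kgi xgi5 ygi34 zgi31) (kgi xgi16 ygi47 zgi17) (kgi xgi5 ygi34 zgi24) (kgi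 xgi5 ygi34 zgi26) (kgi xgi14 ygi42 zgi25)) (@D3.rec (fun _ => Pt) (kgi xgi19 ygi52 zgi0) (kgi xgi10 ygi49 zgi41) (kgi xgi16 ygi54 zgi49) (kgi xgi19 ygi51 zgi61) (kgi xgi19 ygi52 zgi5) (kgi xgi16 ygi43 zgi55) (kgi xgi19 ygi32 zgi34) (kgi xgi11 ygi28 zgi9) (kgi xgi19 ygi52 zgi8) (kgi xgi5 ygi34 zgi29) (kgi xgi16 ygi55 zgi17) (kgi xgi19 ygi21 zgi57) (kgi xgi19 ygi52 zgi15) (kgi xgi5 ygi34 zgi30) (kgi xgi19 ygi51 zgi54) (kgi xgi19 ygi52 zgi25) (kgi xgi12 ygi25 zgi6) (kgi xgi19 ygi50 zgi25) (kgi xgi19 ygi51 zgi59) (kgi xgi9 ygi11 zgi9) (kgi xgi19 ygi52 zgi35) (kgi xgi19 ygi52 zgi31) (kgi xgi12 ygi10 zgi0) (kgi xgi19 ygi49 zgi19) (kgi xgi19 ygi18 zgi42) (kgi xgi9 ygi8 zgi42) (kgi xgi11 ygi32 zgi32) (kgi xgi12 ygi55 zgi48) (kgi xgi19 ygi27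 zgi4) (kgi xgi11 ygi33 zgi53) (kgi xgi19 ygi47 zgi20) (kgi xgi5 ygi34 zgi36) (kgi xgi19 ygi26 zgi52) (kgi xgi16 ygi57 zgi39) (kgi xgi16 ygi48 zgi57) (kgi xgi5 ygi34 zgi38) (kgi xgi16 ygi48 zgi44) (kgi xgi18 ygi56 zgi33) (kgi xgi16 ygi29 zgi19) (kgi xgi5 ygi34 zgi40) (kgi xgi15 ygi7 zgi54) (kgi xgi19 ygi52 zgi60) (kgi xgi10 ygi52 zgi41) (kgi xgi5 ygi45 zgi36) (kgi xgi16 ygi43 zgi7) (kgi xgi5 ygi34 zgi47) (kgi xgi5 ygi34 zgi44) (kgi xgi5 ygi34 zgi45) (kgi xgi16 ygi47 zgi43) (kgi xgi19 ygi52 zgi54) (kgi xgi5 ygi45 zgi42) (kgi xgi9 ygi5 zgi24) (kgi xgi18 ygi22 zgi36) (kgi xgi16 ygi49 zgi0) (kgi xgi5 ygi52 zgi24) (kgi xgi11 ygi28 zgi22) (kgi xgi11 ygi43 zgi53) (kgi xgi16 ygi48 zgi59) (kgi xgi19 ygi53 zgi12) (kgi xgi5 ygi43 zgi52) (kgi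 xgi9 ygi5 zgi32) (kgi xgi10 ygi3 zgi53)) (@D3.rec (fun _ => Pt) (kgi xgi5 ygi46 zgi17) (kgi xgi16 ygi47 zgi54) (kgi xgi11 ygi29 zgi4) (kgi xgi9 ygi14 zgi20) (kgi xgi10 ygi3 zgi60) (kgi xgi10 ygi43 zgi56) (kgi xgi12 ygi49 zgi52) (kgi xgi10 ygi3 zgi56) (kgi xgi17 ygi32 zgi35) (kgi xgi18 ygi39 zgi43) (kgi xgi8 ygi56 zgi59) (kgi xgi11 ygi49 zgi33) (kgi xgi18 ygi50 zgi48) (kgi xgi10 ygi23 zgi16) (kgi xgi16 ygi46 zgi31) (kgi xgi19 ygi53 zgi28) (kgi xgi19 ygi42 zgi8) (kgi xgi5 ygi34 zgi61) (kgi xgi10 ygi47 zgi23) (kgi xgi15 ygi26 zgi40) (kgi xgi10 ygi43 zgi54) (kgi xgi11 ygi54 zgi30) (kgi xgi10 ygi49 zgi52) (kgi xgi19 ygi25 zgi59) (kgi xgi19 ygi53 zgi40) (kgi xgi19 ygi38 zgi13) (kgi xgi15 ygi16 zgi4) (kgi xgi19 ygi53 zgi45) (kgi xgi19 ygi40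 zgi21) (kgi xgi5 ygi39 zgi44) (kgi xgi17 ygi58 zgi54) (kgi xgi5 ygi35 zgi11) (kgi xgi10 ygi23 zgi39) (kgi xgi15 ygi3 zgi2) (kgi xgi9 ygi44 zgi31) (kgi xgi5 ygi35 zgi14) (kgi xgi9 ygi51 zgi37) (kgi xgi9 ygi51 zgi35) (kgi xgi19 ygi53 zgi61) (kgi xgi5 ygi35 zgi16) (kgi xgi8 ygi38 zgi47) (kgi xgi19 ygi54 zgi5) (kgi xgi11 ygi2 zgi34) (kgi xgi11 ygi2 zgi55) (kgi xgi15 ygi22 zgi43) (kgi xgi5 ygi35 zgi18) (kgi xgi15 ygi22 zgi51) (kgi xgi15 ygi22 zgi49) (kgi xgi19 ygi54 zgi16) (kgi xgi19 ygi54 zgi19) (kgi xgi5 ygi35 zgi56) (kgi xgi19 ygi54 zgi22) (kgi xgi5 ygi35 zgi53) (kgi xgi10 ygi30 zgi54) (kgi xgi19 ygi10 zgi48) (kgi xgi9 ygi44 zgi32) (kgi xgi5 ygi35 zgi24) (kgi xgi15 ygi34 zgi57) (kgi xgi15 ygi34 zgi55) (kgi xgi5 ygi35 zgi25) (kgi xgi16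 ygi49 zgi58) (kgi xgi16 ygi49 zgi56)) (@D3.rec (fun _ => Pt) (kgi xgi16 ygi27 zgi49) (kgi xgi19 ygi54 zgi33) (kgi xgi19 ygi54 zgi37) (kgi xgi5 ygi35 zgi27) (kgi xgi16 ygi50 zgi13) (kgi xgi16 ygi11 zgi24) (kgi xgi16 ygi50 zgi10) (kgi xgi5 ygi35 zgi40) (kgi xgi9 ygi38 zgi38) (kgi xgi16 ygi9 zgi51) (kgi xgi16 ygi50 zgi30) (kgi xgi19 ygi54 zgi52) (kgi xgi19 ygi54 zgi55) (kgi xgi17 ygi48 zgi47) (kgi xgi8 ygi13 zgi32) (kgi xgi5 ygi35 zgi33) (kgi xgi16 ygi50 zgi6) (kgi xgi16 ygi50 zgi4) (kgi xgi19 ygi55 zgi3) (kgi xgi19 ygi55 zgi7) (kgi xgi19 ygi55 zgi11) (kgi xgi10 ygi15 zgi56) (kgi xgi19 ygi55 zgi16) (kgi xgi8 ygi38 zgi49) (kgi xgi11 ygi57 zgi19) (kgi xgi5 ygi35 zgi38) (kgi xgi16 ygi50 zgi18) (kgi xgi16 ygi50 zgi16) (kgi xgi19 ygi55 zgi30)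 (kgi xgi19 ygi55 zgi34) (kgi xgi16 ygi4 zgi15) (kgi xgi19 ygi55 zgi41) (kgi xgi15 ygi30 zgi0) (kgi xgi16 ygi9 zgi43) (kgi xgi5 ygi35 zgi41) (kgi xgi16 ygi50 zgi25) (kgi xgi16 ygi50 zgi23) (kgi xgi19 ygi55 zgi54) (kgi xgi14 ygi39 zgi56) (kgi xgi19 ygi55 zgi60) (kgi xgi19 ygi56 zgi2) (kgi xgi10 ygi48 zgi41) (kgi xgi8 ygi58 zgi46) (kgi xgi19 ygi32 zgi25) (kgi xgi19 ygi55 zgi21) (kgi xgi10 ygi57 zgi49) (kgi xgi19 ygi56 zgi11) (kgi xgi16 ygi47 zgi53) (kgi xgi19 ygi47 zgi49) (kgi xgi19 ygi56 zgi17) (kgi xgi5 ygi35 zgi48) (kgi xgi7 ygi52 zgi24) (kgi xgi19 ygi56 zgi20) (kgi xgi14 ygi8 zgi56) (kgi xgi19 ygi56 zgi24) (kgi xgi7 ygi49 zgi17) (kgi xgi19 ygi56 zgi29) (kgi xgi13 ygi59 zgi36) (kgi xgi19 ygi56 zgi30) (kgi xgi5 ygi35 zgi52) (kgi xgi7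 ygi23 zgi59) (kgi xgi7 ygi23 zgi0)) (@D3.rec (fun _ => Pt) (kgi xgi19 ygi54 zgi18) (kgi xgi14 ygi8 zgi59) (kgi xgi8 ygi14 zgi8) (kgi xgi19 ygi56 zgi36) (kgi xgi7 ygi15 zgi6) (kgi xgi19 ygi54 zgi49) (kgi xgi5 ygi35 zgi55) (kgi xgi13 ygi37 zgi8) (kgi xgi19 ygi56 zgi41) (kgi xgi19 ygi54 zgi21) (kgi xgi8 ygi6 zgi6) (kgi xgi8 ygi27 zgi0) (kgi xgi5 ygi35 zgi58) (kgi xgi14 ygi0 zgi36) (kgi xgi8 ygi53 zgi47) (kgi xgi19 ygi56 zgi50) (kgi xgi17 ygi4 zgi7) (kgi xgi7 ygi50 zgi43) (kgi xgi19 ygi23 zgi35) (kgi xgi5 ygi36 zgi0) (kgi xgi11 ygi2 zgi43) (kgi xgi8 ygi26 zgi28) (kgi xgi8 ygi6 zgi57) (kgi xgi9 ygi58 zgi6) (kgi xgi17 ygi35 zgi46) (kgi xgi17 ygi36 zgi5) (kgi xgi5 ygi36 zgi3) (kgi xgi14 ygi51 zgi2) (kgi xgi15 ygi53 zgi17) (kgi xgi15 ygi16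 zgi56) (kgi xgi19 ygi36 zgi10) (kgi xgi19 ygi57 zgi6) (kgi xgi8 ygi6 zgi56) (kgi xgi19 ygi57 zgi12) (kgi xgi5 ygi36 zgi7) (kgi xgi19 ygi57 zgi16) (kgi xgi8 ygi6 zgi50) (kgi xgi5 ygi36 zgi11) (kgi xgi8 ygi27 zgi24) (kgi xgi19 ygi57 zgi25) (kgi xgi16 ygi9 zgi17) (kgi xgi19 ygi57 zgi27) (kgi xgi5 ygi36 zgi14) (kgi xgi17 ygi49 zgi10) (kgi xgi19 ygi7 zgi41) (kgi xgi17 ygi49 zgi7) (kgi xgi15 ygi34 zgi54) (kgi xgi10 ygi35 zgi23) (kgi xgi9 ygi39 zgi17) (kgi xgi11 ygi57 zgi12) (kgi xgi10 ygi50 zgi42) (kgi xgi17 ygi49 zgi19) (kgi xgi15 ygi25 zgi24) (kgi xgi10 ygi52 zgi20) (kgi xgi8 ygi56 zgi43) (kgi xgi5 ygi36 zgi21) (kgi xgi15 ygi4 zgi36) (kgi xgi8 ygi56 zgi48) (kgi xgi10 ygi44 zgi23) (kgi xgi10 ygi52 zgi31) (kgi xgi9 ygi32 zgi29) (kgi xgi5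 ygi39 zgi3)) (@D3.rec (fun _ => Pt) (kgi xgi19 ygi57 zgi48) (kgi xgi7 ygi58 zgi27) (kgi xgi19 ygi57 zgi52) (kgi xgi5 ygi36 zgi36) (kgi xgi5 ygi36 zgi34) (kgi xgi19 ygi57 zgi56) (kgi xgi15 ygi2 zgi0) (kgi xgi5 ygi36 zgi31) (kgi xgi10 ygi48 zgi43) (kgi xgi10 ygi48 zgi46) (kgi xgi10 ygi59 zgi43) (kgi xgi19 ygi58 zgi6) (kgi xgi19 ygi58 zgi10) (kgi xgi5 ygi36 zgi33) (kgi xgi19 ygi57 zgi54) (kgi xgi19 ygi58 zgi19) (kgi xgi11 ygi53 zgi0) (kgi xgi15 ygi1 zgi32) (kgi xgi10 ygi24 zgi12) (kgi xgi19 ygi29 zgi19) (kgi xgi10 ygi49 zgi27) (kgi xgi19 ygi58 zgi26) (kgi xgi8 ygi56 zgi11) (kgi xgi11 ygi10 zgi0) (kgi xgi6 ygi47 zgi23) (kgi xgi16 ygi58 zgi34) (kgi xgi5 ygi36 zgi40) (kgi xgi19 ygi58 zgi33) (kgi xgi19 ygi58 zgi39) (kgi xgi17 ygi34 zgi27)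 (kgi xgi10 ygi49 zgi38) (kgi xgi5 ygi36 zgi42) (kgi xgi16 ygi57 zgi55) (kgi xgi10 ygi49 zgi9) (kgi xgi15 ygi16 zgi32) (kgi xgi16 ygi44 zgi27) (kgi xgi11 ygi0 zgi27) (kgi xgi19 ygi58 zgi45) (kgi xgi5 ygi36 zgi46) (kgi xgi5 ygi36 zgi50) (kgi xgi19 ygi58 zgi48) (kgi xgi19 ygi58 zgi53) (kgi xgi19 ygi58 zgi57) (kgi xgi19 ygi58 zgi61) (kgi xgi8 ygi59 zgi3) (kgi xgi5 ygi36 zgi48) (kgi xgi10 ygi44 zgi60) (kgi xgi15 ygi44 zgi15) (kgi xgi8 ygi58 zgi58) (kgi xgi17 ygi8 zgi36) (kgi xgi10 ygi37 zgi20) (kgi xgi19 ygi58 zgi52) (kgi xgi19 ygi59 zgi11) (kgi xgi19 ygi58 zgi60) (kgi xgi9 ygi17 zgi54) (kgi xgi11 ygi57 zgi25) (kgi xgi18 ygi12 zgi54) (kgi xgi11 ygi57 zgi24) (kgi xgi10 ygi33 zgi9) (kgi xgi15 ygi1 zgi40) (kgi xgi15 ygi41 zgi58) (kgi xgi15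 ygi29 zgi34)) (@D3.rec (fun _ => Pt) (kgi xgi15 ygi1 zgi44) (kgi xgi15 ygi29 zgi6) (kgi xgi19 ygi59 zgi29) (kgi xgi5 ygi36 zgi58) (kgi xgi17 ygi51 zgi35) (kgi xgi15 ygi29 zgi37) (kgi xgi8 ygi13 zgi54) (kgi xgi18 ygi34 zgi6) (kgi xgi10 ygi26 zgi43) (kgi xgi19 ygi59 zgi37) (kgi xgi5 ygi46 zgi25) (kgi xgi16 ygi19 zgi54) (kgi xgi10 ygi2 zgi3) (kgi xgi19 ygi59 zgi39) (kgi xgi5 ygi37 zgi10) (kgi xgi16 ygi8 zgi38) (kgi xgi8 ygi51 zgi22) (kgi xgi16 ygi20 zgi20) (kgi xgi11 ygi11 zgi18) (kgi xgi12 ygi10 zgi42) (kgi xgi16 ygi54 zgi28) (kgi xgi19 ygi59 zgi50) (kgi xgi5 ygi37 zgi15) (kgi xgi19 ygi59 zgi48) (kgi xgi9 ygi12 zgi35) (kgi xgi11 ygi13 zgi56) (kgi xgi5 ygi37 zgi21) (kgi xgi11 ygi14 zgi29) (kgi xgi5 ygi44 zgi35) (kgi xgi17 ygi58 zgi4)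 (kgi xgi5 ygi37 zgi22) (kgi xgi11 ygi16 zgi60) (kgi xgi11 ygi16 zgi58) (kgi xgi9 ygi2 zgi42) (kgi xgi11 ygi1 zgi61) (kgi xgi9 ygi18 zgi4) (kgi xgi5 ygi40 zgi4) (kgi xgi11 ygi11 zgi54) (kgi xgi6 ygi31 zgi50) (kgi xgi8 ygi32 zgi51) (kgi xgi5 ygi37 zgi32) (kgi xgi9 ygi50 zgi30) (kgi xgi5 ygi39 zgi60) (kgi xgi18 ygi23 zgi34) (kgi xgi15 ygi3 zgi52) (kgi xgi15 ygi26 zgi35) (kgi xgi15 ygi3 zgi51) (kgi xgi19 ygi43 zgi51) (kgi xgi5 ygi38 zgi37) (kgi xgi12 ygi6 zgi12) (kgi xgi5 ygi37 zgi43) (kgi xgi19 ygi41 zgi47) (kgi xgi18 ygi41 zgi48) (kgi xgi6 ygi15 zgi53) (kgi xgi9 ygi1 zgi53) (kgi xgi5 ygi37 zgi52) (kgi xgi11 ygi13 zgi49) (kgi xgi11 ygi12 zgi7) (kgi xgi5 ygi37 zgi46) (kgi xgi20 ygi0 zgi7) (kgi xgi20 ygi0 zgi6) (kgi xgi5 ygi38 zgi3)) (@D3.rec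 (fun _ => Pt) (kgi xgi9 ygi5 zgi38) (kgi xgi11 ygi15 zgi29) (kgi xgi15 ygi26 zgi31) (kgi xgi7 ygi59 zgi22) (kgi xgi5 ygi47 zgi57) (kgi xgi11 ygi11 zgi25) (kgi xgi20 ygi0 zgi24) (kgi xgi5 ygi38 zgi25) (kgi xgi8 ygi49 zgi61) (kgi xgi5 ygi37 zgi58) (kgi xgi5 ygi38 zgi2) (kgi xgi20 ygi0 zgi34) (kgi xgi20 ygi0 zgi35) (kgi xgi11 ygi23 zgi47) (kgi xgi5 ygi37 zgi59) (kgi xgi9 ygi51 zgi3) (kgi xgi5 ygi38 zgi24) (kgi xgi8 ygi44 zgi20) (kgi xgi20 ygi0 zgi39) (kgi xgi17 ygi12 zgi20) (kgi xgi20 ygi0 zgi43) (kgi xgi9 ygi9 zgi48) (kgi xgi20 ygi0 zgi49) (kgi xgi9 ygi32 zgi28) (kgi xgi11 ygi34 zgi21) (kgi xgi11 ygi11 zgi41) (kgi xgi5 ygi38 zgi5) (kgi xgi5 ygi38 zgi20) (kgi xgi16 ygi49 zgi35) (kgi xgi12 ygi11 zgi4) (kgi xgi6 ygi7 zgi55) (kgi xgi15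 ygi4 zgi6) (kgi xgi20 ygi0 zgi57) (kgi xgi5 ygi38 zgi12) (kgi xgi20 ygi0 zgi59) (kgi xgi20 ygi1 zgi1) (kgi xgi20 ygi1 zgi4) (kgi xgi5 ygi38 zgi10) (kgi xgi15 ygi4 zgi35) (kgi xgi9 ygi3 zgi29) (kgi xgi16 ygi55 zgi29) (kgi xgi11 ygi32 zgi57) (kgi xgi11 ygi17 zgi21) (kgi xgi11 ygi20 zgi10) (kgi xgi14 ygi59 zgi57) (kgi xgi5 ygi40 zgi31) (kgi xgi17 ygi9 zgi11) (kgi xgi11 ygi11 zgi46) (kgi xgi17 ygi56 zgi45) (kgi xgi5 ygi38 zgi16) (kgi xgi11 ygi7 zgi51) (kgi xgi11 ygi7 zgi49) (kgi xgi12 ygi22 zgi0) (kgi xgi16 ygi28 zgi52) (kgi xgi20 ygi0 zgi20) (kgi xgi9 ygi10 zgi32) (kgi xgi11 ygi10 zgi38) (kgi xgi11 ygi48 zgi43) (kgi xgi12 ygi31 zgi46) (kgi xgi9 ygi9 zgi50) (kgi xgi9 ygi32 zgi17) (kgi xgi20 ygi1 zgi8)) (@D3.rec (fun _ => Pt) (kgi xgi12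 ygi10 zgi58) (kgi xgi8 ygi42 zgi55) (kgi xgi9 ygi50 zgi41) (kgi xgi5 ygi58 zgi50) (kgi xgi20 ygi1 zgi41) (kgi xgi20 ygi0 zgi36) (kgi xgi17 ygi45 zgi33) (kgi xgi11 ygi8 zgi26) (kgi xgi8 ygi49 zgi22) (kgi xgi5 ygi58 zgi49) (kgi xgi5 ygi38 zgi27) (kgi xgi11 ygi51 zgi54) (kgi xgi15 ygi29 zgi7) (kgi xgi20 ygi1 zgi51) (kgi xgi11 ygi29 zgi31) (kgi xgi20 ygi1 zgi56) (kgi xgi19 ygi25 zgi3) (kgi xgi13 ygi58 zgi42) (kgi xgi11 ygi6 zgi43) (kgi xgi10 ygi6 zgi49) (kgi xgi9 ygi51 zgi20) (kgi xgi5 ygi49 zgi17) (kgi xgi7 ygi57 zgi12) (kgi xgi5 ygi38 zgi41) (kgi xgi8 ygi49 zgi33) (kgi xgi7 ygi8 zgi59) (kgi xgi13 ygi38 zgi28) (kgi xgi5 ygi38 zgi46) (kgi xgi6 ygi39 zgi13) (kgi xgi10 ygi6 zgi20) (kgi xgi17 ygi5 zgi45) (kgi xgi5 ygi38 zgi47) (kgi xgi16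 ygi30 zgi0) (kgi xgi18 ygi23 zgi36) (kgi xgi10 ygi18 zgi28) (kgi xgi10 ygi18 zgi27) (kgi xgi12 ygi48 zgi57) (kgi xgi15 ygi52 zgi41) (kgi xgi8 ygi28 zgi14) (kgi xgi5 ygi38 zgi54) (kgi xgi15 ygi22 zgi12) (kgi xgi15 ygi22 zgi10) (kgi xgi20 ygi2 zgi16) (kgi xgi5 ygi38 zgi55) (kgi xgi15 ygi22 zgi27) (kgi xgi20 ygi2 zgi25) (kgi xgi8 ygi6 zgi44) (kgi xgi5 ygi38 zgi57) (kgi xgi17 ygi48 zgi55) (kgi xgi16 ygi9 zgi29) (kgi xgi15 ygi22 zgi21) (kgi xgi20 ygi2 zgi32) (kgi xgi5 ygi38 zgi59) (kgi xgi15 ygi22 zgi17) (kgi xgi15 ygi16 zgi41) (kgi xgi15 ygi22 zgi14) (kgi xgi15 ygi17 zgi50) (kgi xgi15 ygi26 zgi2) (kgi xgi5 ygi39 zgi0) (kgi xgi15 ygi17 zgi45) (kgi xgi8 ygi9 zgi9) (kgi xgi20 ygi2 zgi49)) (@D3.rec (fun _ => Pt) (kgi xgi20 ygi2 zgi53) (kgi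 xgi8 ygi14 zgi15) (kgi xgi5 ygi39 zgi2) (kgi xgi15 ygi17 zgi55) (kgi xgi15 ygi17 zgi53) (kgi xgi20 ygi3 zgi0) (kgi xgi15 ygi52 zgi50) (kgi xgi15 ygi17 zgi47) (kgi xgi20 ygi3 zgi6) (kgi xgi10 ygi49 zgi0) (kgi xgi19 ygi32 zgi42) (kgi xgi20 ygi2 zgi44) (kgi xgi20 ygi3 zgi15) (kgi xgi20 ygi3 zgi19) (kgi xgi5 ygi39 zgi7) (kgi xgi19 ygi40 zgi16) (kgi xgi20 ygi3 zgi18) (kgi xgi19 ygi38 zgi25) (kgi xgi20 ygi3 zgi30) (kgi xgi18 ygi5 zgi37) (kgi xgi20 ygi3 zgi33) (kgi xgi20 ygi3 zgi29) (kgi xgi5 ygi39 zgi10) (kgi xgi15 ygi23 zgi8) (kgi xgi20 ygi3 zgi41) (kgi xgi14 ygi30 zgi17) (kgi xgi8 ygi30 zgi55) (kgi xgi18 ygi45 zgi27) (kgi xgi20 ygi2 zgi13) (kgi xgi20 ygi3 zgi50) (kgi xgi18 ygi5 zgi39) (kgi xgi20 ygi3 zgi53) (kgi xgi20 ygi3 zgi49) (kgi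 xgi8 ygi8 zgi6) (kgi xgi8 ygi28 zgi39) (kgi xgi15 ygi47 zgi55) (kgi xgi16 ygi8 zgi29) (kgi xgi9 ygi35 zgi21) (kgi xgi5 ygi39 zgi19) (kgi xgi15 ygi23 zgi25) (kgi xgi20 ygi4 zgi7) (kgi xgi15 ygi37 zgi46) (kgi xgi15 ygi18 zgi59) (kgi xgi5 ygi39 zgi21) (kgi xgi14 ygi56 zgi46) (kgi xgi13 ygi52 zgi31) (kgi xgi9 ygi38 zgi20) (kgi xgi20 ygi4 zgi17) (kgi xgi19 ygi44 zgi0) (kgi xgi12 ygi24 zgi48) (kgi xgi5 ygi39 zgi24) (kgi xgi5 ygi39 zgi28) (kgi xgi20 ygi4 zgi21) (kgi xgi20 ygi2 zgi12) (kgi xgi20 ygi4 zgi26) (kgi xgi20 ygi4 zgi29) (kgi xgi9 ygi17 zgi59) (kgi xgi5 ygi39 zgi26) (kgi xgi17 ygi58 zgi17) (kgi xgi8 ygi14 zgi19) (kgi xgi5 ygi39 zgi27) (kgi xgi16 ygi49 zgi25)) (@D3.rec (fun _ => Pt) (kgi xgi11 ygi5 zgi21) (kgi xgi10 ygi59 zgi48) (kgi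 xgi20 ygi4 zgi38) (kgi xgi17 ygi53 zgi33) (kgi xgi20 ygi4 zgi42) (kgi xgi17 ygi53 zgi36) (kgi xgi20 ygi4 zgi48) (kgi xgi16 ygi49 zgi24) (kgi xgi20 ygi4 zgi49) (kgi xgi16 ygi49 zgi23) (kgi xgi5 ygi39 zgi31) (kgi xgi5 ygi39 zgi35) (kgi xgi17 ygi31 zgi54) (kgi xgi5 ygi39 zgi32) (kgi xgi5 ygi39 zgi34) (kgi xgi19 ygi37 zgi39) (kgi xgi19 ygi40 zgi39) (kgi xgi11 ygi18 zgi45) (kgi xgi17 ygi1 zgi51) (kgi xgi19 ygi37 zgi42) (kgi xgi20 ygi4 zgi58) (kgi xgi10 ygi52 zgi52) (kgi xgi17 ygi32 zgi36) (kgi xgi19 ygi32 zgi31) (kgi xgi5 ygi39 zgi37) (kgi xgi20 ygi5 zgi3) (kgi xgi10 ygi52 zgi59) (kgi xgi15 ygi1 zgi58) (kgi xgi8 ygi7 zgi51) (kgi xgi10 ygi11 zgi10) (kgi xgi5 ygi39 zgi41) (kgi xgi19 ygi58 zgi0) (kgi xgi20 ygi5 zgi15) (kgi xgi20 ygi5 zgi19)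 (kgi xgi5 ygi39 zgi42) (kgi xgi8 ygi13 zgi18) (kgi xgi10 ygi48 zgi40) (kgi xgi20 ygi5 zgi24) (kgi xgi11 ygi7 zgi60) (kgi xgi5 ygi39 zgi47) (kgi xgi6 ygi20 zgi33) (kgi xgi6 ygi13 zgi30) (kgi xgi20 ygi5 zgi28) (kgi xgi8 ygi37 zgi25) (kgi xgi9 ygi36 zgi52) (kgi xgi8 ygi34 zgi50) (kgi xgi15 ygi49 zgi44) (kgi xgi5 ygi39 zgi53) (kgi xgi5 ygi47 zgi10) (kgi xgi5 ygi43 zgi33) (kgi xgi9 ygi29 zgi21) (kgi xgi16 ygi28 zgi28) (kgi xgi20 ygi5 zgi37) (kgi xgi11 ygi12 zgi25) (kgi xgi11 ygi12 zgi24) (kgi xgi20 ygi5 zgi39) (kgi xgi5 ygi40 zgi0) (kgi xgi17 ygi56 zgi7) (kgi xgi8 ygi48 zgi21) (kgi xgi10 ygi12 zgi15) (kgi xgi10 ygi52 zgi30) (kgi xgi20 ygi5 zgi43)) (@D3.rec (fun _ => Pt) (kgi xgi6 ygi37 zgi32) (kgi xgi14 ygi7 zgi42) (kgi xgi9 ygi58 zgi0)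 (kgi xgi20 ygi5 zgi49) (kgi xgi9 ygi19 zgi56) (kgi xgi10 ygi12 zgi5) (kgi xgi5 ygi40 zgi10) (kgi xgi16 ygi29 zgi47) (kgi xgi12 ygi15 zgi6) (kgi xgi20 ygi5 zgi38) (kgi xgi7 ygi57 zgi10) (kgi xgi11 ygi23 zgi58) (kgi xgi19 ygi43 zgi56) (kgi xgi13 ygi58 zgi37) (kgi xgi17 ygi59 zgi40) (kgi xgi19 ygi43 zgi43) (kgi xgi11 ygi12 zgi45) (kgi xgi11 ygi20 zgi24) (kgi xgi11 ygi6 zgi17) (kgi xgi11 ygi20 zgi9) (kgi xgi20 ygi5 zgi56) (kgi xgi16 ygi29 zgi34) (kgi xgi5 ygi40 zgi22) (kgi xgi5 ygi40 zgi35) (kgi xgi5 ygi40 zgi33) (kgi xgi11 ygi6 zgi55) (kgi xgi20 ygi5 zgi59) (kgi xgi5 ygi40 zgi27) (kgi xgi20 ygi6 zgi1) (kgi xgi15 ygi10 zgi38) (kgi xgi20 ygi6 zgi7) (kgi xgi11 ygi7 zgi23) (kgi xgi11 ygi6 zgi61) (kgi xgi9 ygi3 zgi13) (kgi xgi12 ygi31 zgi34)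 (kgi xgi20 ygi6 zgi16) (kgi xgi17 ygi2 zgi50) (kgi xgi7 ygi6 zgi7) (kgi xgi11 ygi7 zgi15) (kgi xgi11 ygi7 zgi14) (kgi xgi20 ygi6 zgi23) (kgi xgi8 ygi49 zgi10) (kgi xgi20 ygi6 zgi10) (kgi xgi8 ygi51 zgi25) (kgi xgi11 ygi7 zgi25) (kgi xgi8 ygi49 zgi36) (kgi xgi11 ygi7 zgi45) (kgi xgi10 ygi30 zgi6) (kgi xgi20 ygi6 zgi32) (kgi xgi17 ygi54 zgi57) (kgi xgi17 ygi56 zgi46) (kgi xgi17 ygi29 zgi58) (kgi xgi16 ygi30 zgi45) (kgi xgi17 ygi34 zgi46) (kgi xgi5 ygi40 zgi36) (kgi xgi7 ygi23 zgi23) (kgi xgi13 ygi59 zgi10) (kgi xgi5 ygi40 zgi37) (kgi xgi17 ygi55 zgi1) (kgi xgi14 ygi50 zgi8) (kgi xgi5 ygi49 zgi35) (kgi xgi10 ygi55 zgi20)) (@D3.rec (fun _ => Pt) (kgi xgi14 ygi50 zgi1) (kgi xgi10 ygi55 zgi1) (kgi xgi15 ygi5 zgi20) (kgi xgi15 ygi5 zgi0)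 (kgi xgi11 ygi10 zgi54) (kgi xgi5 ygi40 zgi48) (kgi xgi7 ygi50 zgi0) (kgi xgi15 ygi3 zgi59) (kgi xgi14 ygi50 zgi3) (kgi xgi20 ygi6 zgi48) (kgi xgi5 ygi40 zgi49) (kgi xgi9 ygi46 zgi46) (kgi xgi11 ygi24 zgi35) (kgi xgi6 ygi43 zgi60) (kgi xgi8 ygi49 zgi54) (kgi xgi20 ygi6 zgi46) (kgi xgi6 ygi44 zgi1) (kgi xgi5 ygi40 zgi52) (kgi xgi6 ygi27 zgi18) (kgi xgi20 ygi6 zgi55) (kgi xgi5 ygi41 zgi3) (kgi xgi15 ygi0 zgi5) (kgi xgi12 ygi46 zgi10) (kgi xgi20 ygi6 zgi60) (kgi xgi5 ygi40 zgi56) (kgi xgi11 ygi6 zgi42) (kgi xgi20 ygi7 zgi0) (kgi xgi17 ygi34 zgi4) (kgi xgi5 ygi40 zgi58) (kgi xgi19 ygi47 zgi60) (kgi xgi19 ygi52 zgi55) (kgi xgi5 ygi40 zgi59) (kgi xgi5 ygi41 zgi6) (kgi xgi12 ygi8 zgi45) (kgi xgi20 ygi7 zgi8) (kgi xgi20 ygi7 zgi10) (kgi xgi9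 ygi17 zgi25) (kgi xgi5 ygi41 zgi2) (kgi xgi10 ygi23 zgi19) (kgi xgi17 ygi15 zgi52) (kgi xgi17 ygi55 zgi5) (kgi xgi17 ygi55 zgi17) (kgi xgi6 ygi26 zgi60) (kgi xgi5 ygi41 zgi7) (kgi xgi11 ygi6 zgi54) (kgi xgi5 ygi52 zgi18) (kgi xgi7 ygi50 zgi7) (kgi xgi14 ygi8 zgi4) (kgi xgi16 ygi51 zgi47) (kgi xgi11 ygi11 zgi16) (kgi xgi11 ygi27 zgi36) (kgi xgi5 ygi43 zgi38) (kgi xgi20 ygi4 zgi39) (kgi xgi11 ygi29 zgi30) (kgi xgi15 ygi3 zgi48) (kgi xgi5 ygi41 zgi21) (kgi xgi5 ygi41 zgi28) (kgi xgi8 ygi44 zgi53) (kgi xgi15 ygi26 zgi36) (kgi xgi5 ygi41 zgi29) (kgi xgi20 ygi7 zgi29) (kgi xgi20 ygi7 zgi33)) (@D3.rec (fun _ => Pt) (kgi xgi5 ygi41 zgi24) (kgi xgi16 ygi57 zgi22) (kgi xgi5 ygi46 zgi10) (kgi xgi15 ygi26 zgi41) (kgi xgi15 ygi26 zgi25) (kgi xgi15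 ygi4 zgi7) (kgi xgi16 ygi54 zgi43) (kgi xgi20 ygi7 zgi25) (kgi xgi18 ygi58 zgi61) (kgi xgi8 ygi49 zgi11) (kgi xgi17 ygi55 zgi10) (kgi xgi17 ygi56 zgi8) (kgi xgi8 ygi44 zgi9) (kgi xgi16 ygi52 zgi61) (kgi xgi10 ygi29 zgi58) (kgi xgi20 ygi7 zgi52) (kgi xgi16 ygi53 zgi14) (kgi xgi20 ygi7 zgi55) (kgi xgi5 ygi41 zgi34) (kgi xgi5 ygi41 zgi59) (kgi xgi5 ygi41 zgi56) (kgi xgi6 ygi15 zgi27) (kgi xgi5 ygi41 zgi36) (kgi xgi20 ygi7 zgi60) (kgi xgi20 ygi7 zgi24) (kgi xgi8 ygi51 zgi43) (kgi xgi6 ygi14 zgi7) (kgi xgi16 ygi23 zgi24) (kgi xgi20 ygi8 zgi3) (kgi xgi8 ygi44 zgi23) (kgi xgi20 ygi8 zgi6) (kgi xgi19 ygi0 zgi50) (kgi xgi20 ygi8 zgi5) (kgi xgi20 ygi8 zgi12) (kgi xgi16 ygi52 zgi50) (kgi xgi20 ygi8 zgi18) (kgi xgi20 ygi7 zgi30) (kgi xgi16 ygi35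 zgi32) (kgi xgi18 ygi59 zgi51) (kgi xgi20 ygi8 zgi22) (kgi xgi18 ygi59 zgi49) (kgi xgi7 ygi56 zgi25) (kgi xgi19 ygi21 zgi23) (kgi xgi5 ygi41 zgi50) (kgi xgi8 ygi50 zgi56) (kgi xgi14 ygi59 zgi61) (kgi xgi20 ygi8 zgi30) (kgi xgi15 ygi26 zgi10) (kgi xgi11 ygi6 zgi33) (kgi xgi11 ygi6 zgi53) (kgi xgi20 ygi8 zgi34) (kgi xgi19 ygi43 zgi61) (kgi xgi20 ygi8 zgi28) (kgi xgi8 ygi50 zgi44) (kgi xgi16 ygi31 zgi47) (kgi xgi18 ygi21 zgi32) (kgi xgi16 ygi53 zgi8) (kgi xgi20 ygi8 zgi40) (kgi xgi9 ygi4 zgi43) (kgi xgi18 ygi43 zgi7) (kgi xgi20 ygi8 zgi48) (kgi xgi11 ygi20 zgi43)) (@D3.rec (fun _ => Pt) (kgi xgi12 ygi8 zgi49) (kgi xgi5 ygi41 zgi54) (kgi xgi16 ygi52 zgi52) (kgi xgi20 ygi7 zgi26) (kgi xgi20 ygi8 zgi58) (kgi xgi5 ygi41 zgi55) (kgi xgi20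 ygi7 zgi57) (kgi xgi20 ygi9 zgi3) (kgi xgi15 ygi4 zgi37) (kgi xgi20 ygi9 zgi6) (kgi xgi16 ygi53 zgi49) (kgi xgi8 ygi50 zgi47) (kgi xgi20 ygi9 zgi5) (kgi xgi15 ygi0 zgi9) (kgi xgi5 ygi41 zgi58) (kgi xgi11 ygi12 zgi8) (kgi xgi16 ygi53 zgi47) (kgi xgi15 ygi7 zgi18) (kgi xgi9 ygi3 zgi39) (kgi xgi15 ygi44 zgi20) (kgi xgi20 ygi9 zgi17) (kgi xgi7 ygi59 zgi39) (kgi xgi16 ygi53 zgi21) (kgi xgi20 ygi9 zgi23) (kgi xgi5 ygi42 zgi3) (kgi xgi6 ygi12 zgi8) (kgi xgi5 ygi42 zgi52) (kgi xgi12 ygi23 zgi44) (kgi xgi6 ygi16 zgi57) (kgi xgi11 ygi6 zgi26) (kgi xgi9 ygi29 zgi30) (kgi xgi11 ygi18 zgi2) (kgi xgi17 ygi30 zgi5) (kgi xgi5 ygi42 zgi9) (kgi xgi20 ygi9 zgi31) (kgi xgi6 ygi1 zgi24) (kgi xgi16 ygi52 zgi12) (kgi xgi7 ygi2 zgi52) (kgi xgi5 ygi46 zgi5)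 (kgi xgi5 ygi42 zgi15) (kgi xgi11 ygi58 zgi38) (kgi xgi5 ygi43 zgi34) (kgi xgi5 ygi43 zgi35) (kgi xgi20 ygi9 zgi42) (kgi xgi11 ygi20 zgi18) (kgi xgi20 ygi9 zgi46) (kgi xgi5 ygi46 zgi51) (kgi xgi9 ygi5 zgi16) (kgi xgi18 ygi42 zgi15) (kgi xgi11 ygi16 zgi53) (kgi xgi6 ygi12 zgi10) (kgi xgi5 ygi42 zgi19) (kgi xgi6 ygi27 zgi13) (kgi xgi20 ygi9 zgi54) (kgi xgi11 ygi24 zgi1) (kgi xgi6 ygi31 zgi27) (kgi xgi5 ygi42 zgi22) (kgi xgi6 ygi12 zgi17) (kgi xgi5 ygi42 zgi23) (kgi xgi20 ygi9 zgi56) (kgi xgi19 ygi59 zgi14) (kgi xgi20 ygi10 zgi0)) (@D3.rec (fun _ => Pt) (kgi xgi20 ygi9 zgi57) (kgi xgi11 ygi19 zgi9) (kgi xgi10 ygi13 zgi7) (kgi xgi5 ygi42 zgi26) (kgi xgi11 ygi24 zgi3) (kgi xgi5 ygi42 zgi27) (kgi xgi9 ygi44 zgi59) (kgi xgi5 ygi42 zgi28)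 (kgi xgi5 ygi42 zgi32) (kgi xgi20 ygi10 zgi7) (kgi xgi20 ygi10 zgi12) (kgi xgi20 ygi10 zgi16) (kgi xgi14 ygi8 zgi17) (kgi xgi16 ygi19 zgi26) (kgi xgi20 ygi10 zgi21) (kgi xgi20 ygi10 zgi22) (kgi xgi20 ygi10 zgi11) (kgi xgi20 ygi10 zgi24) (kgi xgi16 ygi51 zgi59) (kgi xgi11 ygi23 zgi12) (kgi xgi20 ygi10 zgi26) (kgi xgi16 ygi52 zgi15) (kgi xgi8 ygi29 zgi28) (kgi xgi5 ygi42 zgi36) (kgi xgi5 ygi42 zgi60) (kgi xgi16 ygi56 zgi51) (kgi xgi5 ygi42 zgi57) (kgi xgi16 ygi48 zgi47) (kgi xgi16 ygi24 zgi27) (kgi xgi7 ygi59 zgi36) (kgi xgi20 ygi10 zgi39) (kgi xgi15 ygi7 zgi43) (kgi xgi20 ygi10 zgi38) (kgi xgi20 ygi10 zgi48) (kgi xgi7 ygi13 zgi50) (kgi xgi20 ygi10 zgi51) (kgi xgi20 ygi10 zgi56) (kgi xgi18 ygi9 zgi17) (kgi xgi18 ygi41 zgi30) (kgi xgi5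 ygi42 zgi44) (kgi xgi16 ygi20 zgi35) (kgi xgi20 ygi11 zgi7) (kgi xgi20 ygi10 zgi13) (kgi xgi20 ygi11 zgi13) (kgi xgi5 ygi42 zgi45) (kgi xgi13 ygi14 zgi24) (kgi xgi13 ygi30 zgi4) (kgi xgi7 ygi59 zgi23) (kgi xgi5 ygi42 zgi48) (kgi xgi5 ygi42 zgi51) (kgi xgi20 ygi11 zgi25) (kgi xgi20 ygi11 zgi30) (kgi xgi20 ygi11 zgi33) (kgi xgi5 ygi42 zgi49) (kgi xgi6 ygi3 zgi16) (kgi xgi20 ygi11 zgi39) (kgi xgi20 ygi11 zgi29) (kgi xgi20 ygi11 zgi44) (kgi xgi6 ygi11 zgi59) (kgi xgi15 ygi55 zgi59) (kgi xgi9 ygi4 zgi29) (kgi xgi20 ygi9 zgi33)) (@D3.rec (fun _ => Pt) (kgi xgi20 ygi11 zgi52) (kgi xgi11 ygi21 zgi12) (kgi xgi12 ygi54 zgi21) (kgi xgi5 ygi42 zgi55) (kgi xgi16 ygi52 zgi2) (kgi xgi20 ygi10 zgi3) (kgi xgi20 ygi12 zgi1) (kgi xgi18 ygi48 zgi50)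 (kgi xgi19 ygi23 zgi48) (kgi xgi18 ygi48 zgi51) (kgi xgi20 ygi11 zgi23) (kgi xgi11 ygi17 zgi33) (kgi xgi20 ygi12 zgi6) (kgi xgi11 ygi5 zgi44) (kgi xgi5 ygi42 zgi59) (kgi xgi20 ygi10 zgi33) (kgi xgi20 ygi12 zgi16) (kgi xgi12 ygi53 zgi50) (kgi xgi11 ygi28 zgi6) (kgi xgi5 ygi43 zgi1) (kgi xgi11 ygi28 zgi4) (kgi xgi5 ygi44 zgi36) (kgi xgi5 ygi43 zgi2) (kgi xgi5 ygi43 zgi36) (kgi xgi12 ygi4 zgi2) (kgi xgi20 ygi12 zgi25) (kgi xgi16 ygi54 zgi16) (kgi xgi16 ygi49 zgi2) (kgi xgi20 ygi12 zgi27) (kgi xgi9 ygi13 zgi11) (kgi xgi5 ygi44 zgi1) (kgi xgi5 ygi52 zgi28) (kgi xgi20 ygi12 zgi30) (kgi xgi20 ygi12 zgi32) (kgi xgi5 ygi43 zgi11) (kgi xgi5 ygi44 zgi60) (kgi xgi17 ygi32 zgi60) (kgi xgi5 ygi44 zgi61) (kgi xgi6 ygi1 zgi36) (kgi xgi8 ygi50 zgi8)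 (kgi xgi5 ygi43 zgi14) (kgi xgi20 ygi12 zgi40) (kgi xgi17 ygi41 zgi58) (kgi xgi20 ygi12 zgi43) (kgi xgi5 ygi43 zgi17) (kgi xgi11 ygi10 zgi8) (kgi xgi11 ygi6 zgi36) (kgi xgi11 ygi18 zgi23) (kgi xgi9 ygi45 zgi29) (kgi xgi7 ygi27 zgi12) (kgi xgi19 ygi16 zgi60) (kgi xgi5 ygi43 zgi24) (kgi xgi7 ygi50 zgi5) (kgi xgi11 ygi16 zgi44) (kgi xgi11 ygi16 zgi11) (kgi xgi20 ygi12 zgi49) (kgi xgi11 ygi18 zgi5) (kgi xgi20 ygi12 zgi53) (kgi xgi5 ygi43 zgi27) (kgi xgi11 ygi6 zgi32) (kgi xgi11 ygi6 zgi30) (kgi xgi20 ygi12 zgi58)) (@D3.rec (fun _ => Pt) (kgi xgi8 ygi25 zgi27) (kgi xgi20 ygi12 zgi56) (kgi xgi18 ygi12 zgi34) (kgi xgi11 ygi17 zgi57) (kgi xgi13 ygi27 zgi44) (kgi xgi20 ygi13 zgi5) (kgi xgi5 ygi43 zgi31) (kgi xgi5 ygi43 zgi49) (kgi xgi20 ygi13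 zgi12) (kgi xgi5 ygi43 zgi32) (kgi xgi20 ygi9 zgi38) (kgi xgi20 ygi13 zgi16) (kgi xgi20 ygi12 zgi42) (kgi xgi20 ygi13 zgi19) (kgi xgi17 ygi54 zgi60) (kgi xgi20 ygi9 zgi44) (kgi xgi16 ygi53 zgi33) (kgi xgi5 ygi44 zgi56) (kgi xgi20 ygi13 zgi24) (kgi xgi5 ygi48 zgi41) (kgi xgi12 ygi46 zgi22) (kgi xgi11 ygi7 zgi35) (kgi xgi20 ygi13 zgi32) (kgi xgi5 ygi43 zgi42) (kgi xgi20 ygi13 zgi26) (kgi xgi17 ygi9 zgi6) (kgi xgi16 ygi53 zgi19) (kgi xgi11 ygi25 zgi18) (kgi xgi5 ygi48 zgi43) (kgi xgi13 ygi57 zgi32) (kgi xgi5 ygi43 zgi46) (kgi xgi20 ygi12 zgi46) (kgi xgi11 ygi21 zgi55) (kgi xgi20 ygi12 zgi47) (kgi xgi5 ygi43 zgi48) (kgi xgi16 ygi7 zgi44) (kgi xgi6 ygi41 zgi7) (kgi xgi13 ygi0 zgi19) (kgi xgi20 ygi13 zgi45) (kgi xgi17 ygi42 zgi25) (kgi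 xgi5 ygi43 zgi50) (kgi xgi20 ygi12 zgi22) (kgi xgi18 ygi17 zgi45) (kgi xgi20 ygi13 zgi18) (kgi xgi20 ygi12 zgi24) (kgi xgi16 ygi47 zgi26) (kgi xgi5 ygi59 zgi33) (kgi xgi19 ygi53 zgi14) (kgi xgi20 ygi13 zgi60) (kgi xgi19 ygi53 zgi11) (kgi xgi8 ygi48 zgi4) (kgi xgi12 ygi31 zgi3) (kgi xgi20 ygi12 zgi13) (kgi xgi16 ygi28 zgi44) (kgi xgi5 ygi43 zgi59) (kgi xgi5 ygi44 zgi0) (kgi xgi20 ygi14 zgi5) (kgi xgi11 ygi17 zgi0) (kgi xgi20 ygi14 zgi8) (kgi xgi5 ygi44 zgi21) (kgi xgi8 ygi58 zgi22) (kgi xgi5 ygi44 zgi18)) (@D3.rec (fun _ => Pt) (kgi xgi11 ygi37 zgi34) (kgi xgi12 ygi59 zgi48) (kgi xgi11 ygi16 zgi56) (kgi xgi20 ygi14 zgi11) (kgi xgi20 ygi14 zgi15) (kgi xgi11 ygi14 zgi31) (kgi xgi16 ygi54 zgi19) (kgi xgi5 ygi44 zgi4) (kgi xgi16 ygi48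 zgi38) (kgi xgi20 ygi12 zgi29) (kgi xgi20 ygi14 zgi27) (kgi xgi20 ygi14 zgi31) (kgi xgi5 ygi44 zgi5) (kgi xgi5 ygi44 zgi46) (kgi xgi12 ygi17 zgi58) (kgi xgi5 ygi44 zgi6) (kgi xgi5 ygi44 zgi50) (kgi xgi20 ygi14 zgi44) (kgi xgi5 ygi44 zgi47) (kgi xgi11 ygi11 zgi19) (kgi xgi20 ygi14 zgi3) (kgi xgi5 ygi59 zgi7) (kgi xgi20 ygi14 zgi52) (kgi xgi20 ygi7 zgi11) (kgi xgi20 ygi14 zgi50) (kgi xgi16 ygi56 zgi19) (kgi xgi13 ygi54 zgi12) (kgi xgi5 ygi44 zgi12) (kgi xgi6 ygi30 zgi54) (kgi xgi17 ygi8 zgi50) (kgi xgi12 ygi12 zgi58) (kgi xgi20 ygi12 zgi36) (kgi xgi16 ygi29 zgi48) (kgi xgi5 ygi44 zgi57) (kgi xgi20 ygi5 zgi46) (kgi xgi5 ygi44 zgi16) (kgi xgi5 ygi44 zgi24) (kgi xgi5 ygi44 zgi17) (kgi xgi20 ygi14 zgi10) (kgi xgi18 ygi0 zgi37) (kgi xgi20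 ygi14 zgi7) (kgi xgi5 ygi44 zgi32) (kgi xgi11 ygi10 zgi17) (kgi xgi20 ygi14 zgi56) (kgi xgi11 ygi23 zgi57) (kgi xgi15 ygi29 zgi58) (kgi xgi18 ygi39 zgi36) (kgi xgi5 ygi44 zgi20) (kgi xgi20 ygi15 zgi25) (kgi xgi8 ygi58 zgi27) (kgi xgi5 ygi44 zgi23) (kgi xgi15 ygi49 zgi38) (kgi xgi20 ygi14 zgi4) (kgi xgi15 ygi49 zgi36) (kgi xgi20 ygi15 zgi35) (kgi xgi5 ygi44 zgi25) (kgi xgi12 ygi36 zgi17) (kgi xgi12 ygi12 zgi51) (kgi xgi17 ygi59 zgi38) (kgi xgi5 ygi44 zgi55) (kgi xgi11 ygi40 zgi42) (kgi xgi5 ygi44 zgi29)) (@D3.rec (fun _ => Pt) (kgi xgi17 ygi59 zgi41) (kgi xgi17 ygi43 zgi48) (kgi xgi20 ygi15 zgi45) (kgi xgi16 ygi15 zgi26) (kgi xgi20 ygi15 zgi20) (kgi xgi16 ygi49 zgi46) (kgi xgi5 ygi44 zgi31) (kgi xgi20 ygi9 zgi58) (kgi xgi16 ygi56 zgi17)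 (kgi xgi5 ygi44 zgi33) (kgi xgi6 ygi44 zgi10) (kgi xgi11 ygi14 zgi46) (kgi xgi12 ygi12 zgi27) (kgi xgi20 ygi5 zgi53) (kgi xgi20 ygi15 zgi56) (kgi xgi20 ygi15 zgi57) (kgi xgi20 ygi12 zgi21) (kgi xgi20 ygi15 zgi58) (kgi xgi16 ygi45 zgi5) (kgi xgi16 ygi7 zgi26) (kgi xgi16 ygi47 zgi47) (kgi xgi19 ygi34 zgi19) (kgi xgi15 ygi27 zgi18) (kgi xgi20 ygi16 zgi1) (kgi xgi5 ygi44 zgi40) (kgi xgi20 ygi16 zgi4) (kgi xgi20 ygi16 zgi7) (kgi xgi5 ygi44 zgi41) (kgi xgi20 ygi16 zgi2) (kgi xgi9 ygi41 zgi21) (kgi xgi20 ygi16 zgi0) (kgi xgi17 ygi43 zgi44) (kgi xgi20 ygi16 zgi20) (kgi xgi20 ygi16 zgi22) (kgi xgi14 ygi50 zgi37) (kgi xgi14 ygi54 zgi29) (kgi xgi5 ygi44 zgi45) (kgi xgi12 ygi17 zgi18) (kgi xgi6 ygi42 zgi60) (kgi xgi20 ygi15 zgi43) (kgi xgi16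 ygi49 zgi39) (kgi xgi20 ygi16 zgi40) (kgi xgi20 ygi16 zgi43) (kgi xgi16 ygi57 zgi27) (kgi xgi20 ygi16 zgi35) (kgi xgi20 ygi16 zgi39) (kgi xgi20 ygi15 zgi18) (kgi xgi5 ygi44 zgi49) (kgi xgi20 ygi14 zgi46) (kgi xgi20 ygi16 zgi56) (kgi xgi20 ygi14 zgi43) (kgi xgi12 ygi25 zgi18) (kgi xgi5 ygi44 zgi51) (kgi xgi20 ygi12 zgi33) (kgi xgi6 ygi44 zgi0) (kgi xgi5 ygi44 zgi52) (kgi xgi11 ygi16 zgi47) (kgi xgi9 ygi45 zgi48) (kgi xgi11 ygi42 zgi14) (kgi xgi11 ygi44 zgi28) (kgi xgi5 ygi44 zgi53) (kgi xgi15 ygi45 zgi58)) (@D3.rec (fun _ => Pt) (kgi xgi20 ygi17 zgi10) (kgi xgi20 ygi17 zgi13) (kgi xgi5 ygi44 zgi54) (kgi xgi20 ygi17 zgi16) (kgi xgi11 ygi45 zgi11) (kgi xgi20 ygi14 zgi53) (kgi xgi11 ygi40 zgi13) (kgi xgi16 ygi56 zgi27) (kgi xgi20 ygi13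 zgi22) (kgi xgi20 ygi13 zgi23) (kgi xgi12 ygi22 zgi18) (kgi xgi20 ygi17 zgi24) (kgi xgi20 ygi17 zgi25) (kgi xgi20 ygi17 zgi27) (kgi xgi20 ygi17 zgi9) (kgi xgi20 ygi15 zgi11) (kgi xgi20 ygi17 zgi15) (kgi xgi5 ygi44 zgi59) (kgi xgi11 ygi17 zgi15) (kgi xgi20 ygi12 zgi44) (kgi xgi11 ygi16 zgi45) (kgi xgi20 ygi14 zgi2) (kgi xgi20 ygi17 zgi41) (kgi xgi12 ygi30 zgi22) (kgi xgi20 ygi7 zgi20) (kgi xgi20 ygi15 zgi1) (kgi xgi19 ygi32 zgi19) (kgi xgi20 ygi12 zgi28) (kgi xgi5 ygi45 zgi1) (kgi xgi17 ygi31 zgi58) (kgi xgi19 ygi47 zgi15) (kgi xgi5 ygi58 zgi47) (kgi xgi9 ygi7 zgi1) (kgi xgi20 ygi17 zgi57) (kgi xgi9 ygi48 zgi40) (kgi xgi5 ygi53 zgi26) (kgi xgi9 ygi6 zgi58) (kgi xgi14 ygi4 zgi28) (kgi xgi5 ygi45 zgi6) (kgi xgi5 ygi57 zgi30) (kgi xgi20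 ygi18 zgi7) (kgi xgi17 ygi59 zgi6) (kgi xgi20 ygi1 zgi36) (kgi xgi11 ygi13 zgi58) (kgi xgi20 ygi18 zgi16) (kgi xgi5 ygi45 zgi8) (kgi xgi5 ygi45 zgi16) (kgi xgi5 ygi45 zgi13) (kgi xgi16 ygi57 zgi17) (kgi xgi15 ygi6 zgi9) (kgi xgi16 ygi57 zgi3) (kgi xgi5 ygi45 zgi11) (kgi xgi16 ygi56 zgi21) (kgi xgi20 ygi18 zgi28) (kgi xgi20 ygi18 zgi32) (kgi xgi5 ygi45 zgi12) (kgi xgi7 ygi59 zgi58) (kgi xgi20 ygi18 zgi42) (kgi xgi20 ygi18 zgi15) (kgi xgi17 ygi3 zgi35) (kgi xgi17 ygi2 zgi25) (kgi xgi10 ygi53 zgi8)) (@D3.rec (fun _ => Pt) (kgi xgi12 ygi25 zgi44) (kgi xgi7 ygi59 zgi37) (kgi xgi7 ygi57 zgi5) (kgi xgi12 ygi54 zgi3) (kgi xgi20 ygi7 zgi36) (kgi xgi10 ygi41 zgi13) (kgi xgi16 ygi54 zgi29) (kgi xgi12 ygi54 zgi60) (kgi xgi11 ygi22 zgi33) (kgi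 xgi6 ygi3 zgi23) (kgi xgi10 ygi3 zgi1) (kgi xgi17 ygi1 zgi3) (kgi xgi11 ygi15 zgi60) (kgi xgi9 ygi23 zgi8) (kgi xgi5 ygi45 zgi23) (kgi xgi5 ygi45 zgi31) (kgi xgi5 ygi45 zgi28) (kgi xgi5 ygi46 zgi3) (kgi xgi16 ygi55 zgi9) (kgi xgi19 ygi59 zgi5) (kgi xgi5 ygi45 zgi26) (kgi xgi16 ygi56 zgi0) (kgi xgi20 ygi19 zgi6) (kgi xgi18 ygi14 zgi40) (kgi xgi9 ygi25 zgi16) (kgi xgi9 ygi25 zgi11) (kgi xgi5 ygi46 zgi55) (kgi xgi11 ygi44 zgi11) (kgi xgi5 ygi52 zgi12) (kgi xgi20 ygi12 zgi26) (kgi xgi17 ygi19 zgi2) (kgi xgi12 ygi3 zgi32) (kgi xgi12 ygi31 zgi45) (kgi xgi20 ygi19 zgi14) (kgi xgi9 ygi17 zgi22) (kgi xgi11 ygi6 zgi34) (kgi xgi5 ygi45 zgi35) (kgi xgi5 ygi45 zgi37) (kgi xgi20 ygi19 zgi19) (kgi xgi10 ygi52 zgi38) (kgi xgi11 ygi37 zgi54) (kgi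 xgi20 ygi19 zgi18) (kgi xgi5 ygi45 zgi38) (kgi xgi16 ygi59 zgi50) (kgi xgi5 ygi45 zgi39) (kgi xgi20 ygi19 zgi17) (kgi xgi19 ygi59 zgi17) (kgi xgi20 ygi19 zgi30) (kgi xgi20 ygi19 zgi27) (kgi xgi20 ygi19 zgi29) (kgi xgi16 ygi59 zgi49) (kgi xgi18 ygi37 zgi23) (kgi xgi5 ygi45 zgi43) (kgi xgi12 ygi32 zgi29) (kgi xgi12 ygi32 zgi9) (kgi xgi20 ygi14 zgi0) (kgi xgi5 ygi45 zgi47) (kgi xgi19 ygi32 zgi23) (kgi xgi16 ygi56 zgi48) (kgi xgi16 ygi56 zgi47) (kgi xgi20 ygi19 zgi39) (kgi xgi20 ygi19 zgi41)) (@D3.rec (fun _ => Pt) (kgi xgi12 ygi38 zgi35) (kgi xgi14 ygi44 zgi27) (kgi xgi16 ygi56 zgi22) (kgi xgi11 ygi49 zgi44) (kgi xgi5 ygi45 zgi51) (kgi xgi17 ygi56 zgi57) (kgi xgi14 ygi21 zgi46) (kgi xgi20 ygi19 zgi49) (kgi xgi5 ygi45 zgi52) (kgi xgi5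 ygi45 zgi53) (kgi xgi10 ygi18 zgi36) (kgi xgi11 ygi57 zgi44) (kgi xgi5 ygi52 zgi21) (kgi xgi5 ygi45 zgi55) (kgi xgi16 ygi43 zgi54) (kgi xgi20 ygi19 zgi56) (kgi xgi20 ygi19 zgi57) (kgi xgi5 ygi48 zgi58) (kgi xgi19 ygi33 zgi19) (kgi xgi16 ygi54 zgi42) (kgi xgi9 ygi15 zgi18) (kgi xgi20 ygi10 zgi15) (kgi xgi16 ygi56 zgi57) (kgi xgi11 ygi50 zgi13) (kgi xgi16 ygi52 zgi34) (kgi xgi16 ygi56 zgi55) (kgi xgi20 ygi20 zgi8) (kgi xgi20 ygi20 zgi10) (kgi xgi20 ygi20 zgi14) (kgi xgi5 ygi46 zgi4) (kgi xgi16 ygi56 zgi56) (kgi xgi20 ygi20 zgi20) (kgi xgi12 ygi3 zgi36) (kgi xgi20 ygi20 zgi23) (kgi xgi16 ygi54 zgi2) (kgi xgi16 ygi57 zgi0) (kgi xgi16 ygi56 zgi61) (kgi xgi9 ygi2 zgi17) (kgi xgi16 ygi56 zgi24) (kgi xgi19 ygi58 zgi44) (kgi xgi20 ygi18 zgi53)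 (kgi xgi16 ygi43 zgi57) (kgi xgi12 ygi25 zgi8) (kgi xgi5 ygi46 zgi12) (kgi xgi5 ygi46 zgi16) (kgi xgi17 ygi29 zgi47) (kgi xgi6 ygi45 zgi27) (kgi xgi20 ygi19 zgi0) (kgi xgi20 ygi12 zgi14) (kgi xgi19 ygi34 zgi23) (kgi xgi20 ygi6 zgi50) (kgi xgi16 ygi52 zgi47) (kgi xgi9 ygi46 zgi53) (kgi xgi10 ygi44 zgi53) (kgi xgi12 ygi56 zgi29) (kgi xgi17 ygi3 zgi34) (kgi xgi5 ygi46 zgi20) (kgi xgi6 ygi46 zgi14) (kgi xgi20 ygi17 zgi7) (kgi xgi5 ygi46 zgi21) (kgi xgi6 ygi3 zgi61) (kgi xgi6 ygi3 zgi59)) (@D3.rec (fun _ => Pt) (kgi xgi6 ygi14 zgi8) (kgi xgi7 ygi18 zgi55) (kgi xgi9 ygi9 zgi47) (kgi xgi20 ygi20 zgi47) (kgi xgi13 ygi59 zgi2) (kgi xgi5 ygi46 zgi27) (kgi xgi20 ygi20 zgi48) (kgi xgi10 ygi1 zgi39) (kgi xgi8 ygi52 zgi24) (kgi xgi15 ygi5 zgi43)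 (kgi xgi11 ygi39 zgi31) (kgi xgi5 ygi46 zgi30) (kgi xgi8 ygi43 zgi38) (kgi xgi8 ygi44 zgi25) (kgi xgi5 ygi54 zgi12) (kgi xgi17 ygi46 zgi33) (kgi xgi16 ygi33 zgi3) (kgi xgi6 ygi40 zgi29) (kgi xgi17 ygi46 zgi29) (kgi xgi8 ygi47 zgi52) (kgi xgi5 ygi46 zgi34) (kgi xgi12 ygi7 zgi12) (kgi xgi18 ygi8 zgi54) (kgi xgi12 ygi7 zgi9) (kgi xgi15 ygi5 zgi45) (kgi xgi20 ygi21 zgi8) (kgi xgi12 ygi6 zgi10) (kgi xgi13 ygi30 zgi59) (kgi xgi15 ygi5 zgi48) (kgi xgi20 ygi21 zgi13) (kgi xgi8 ygi45 zgi33) (kgi xgi20 ygi21 zgi18) (kgi xgi13 ygi41 zgi43) (kgi xgi12 ygi6 zgi42) (kgi xgi18 ygi59 zgi34) (kgi xgi5 ygi46 zgi42) (kgi xgi11 ygi23 zgi38) (kgi xgi20 ygi21 zgi23) (kgi xgi11 ygi23 zgi35) (kgi xgi12 ygi7 zgi13) (kgi xgi20 ygi21 zgi30) (kgi xgi16 ygi21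 zgi0) (kgi xgi16 ygi19 zgi45) (kgi xgi13 ygi29 zgi24) (kgi xgi16 ygi20 zgi60) (kgi xgi20 ygi21 zgi36) (kgi xgi16 ygi24 zgi49) (kgi xgi20 ygi6 zgi21) (kgi xgi5 ygi46 zgi50) (kgi xgi9 ygi2 zgi3) (kgi xgi20 ygi21 zgi44) (kgi xgi20 ygi10 zgi5) (kgi xgi11 ygi19 zgi11) (kgi xgi11 ygi59 zgi14) (kgi xgi7 ygi56 zgi29) (kgi xgi7 ygi59 zgi41) (kgi xgi16 ygi56 zgi26) (kgi xgi11 ygi18 zgi41) (kgi xgi11 ygi11 zgi14) (kgi xgi11 ygi59 zgi20) (kgi xgi11 ygi59 zgi19) (kgi xgi20 ygi9 zgi60)) (@D3.rec (fun _ => Pt) (kgi xgi9 ygi59 zgi10) (kgi xgi5 ygi46 zgi57) (kgi xgi11 ygi14 zgi54) (kgi xgi11 ygi15 zgi3) (kgi xgi5 ygi46 zgi58) (kgi xgi20 ygi21 zgi52) (kgi xgi20 ygi21 zgi57) (kgi xgi20 ygi21 zgi53) (kgi xgi12 ygi56 zgi16) (kgi xgi5 ygi46 zgi60) (kgi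 xgi9 ygi17 zgi30) (kgi xgi8 ygi49 zgi43) (kgi xgi12 ygi12 zgi34) (kgi xgi20 ygi21 zgi61) (kgi xgi5 ygi47 zgi1) (kgi xgi5 ygi47 zgi8) (kgi xgi18 ygi1 zgi40) (kgi xgi5 ygi47 zgi5) (kgi xgi20 ygi15 zgi10) (kgi xgi5 ygi47 zgi4) (kgi xgi20 ygi22 zgi0) (kgi xgi20 ygi13 zgi1) (kgi xgi17 ygi12 zgi14) (kgi xgi9 ygi47 zgi25) (kgi xgi9 ygi47 zgi49) (kgi xgi12 ygi4 zgi24) (kgi xgi11 ygi31 zgi59) (kgi xgi11 ygi31 zgi10) (kgi xgi20 ygi22 zgi12) (kgi xgi20 ygi22 zgi14) (kgi xgi9 ygi47 zgi58) (kgi xgi5 ygi47 zgi7) (kgi xgi20 ygi22 zgi3) (kgi xgi20 ygi0 zgi16) (kgi xgi11 ygi12 zgi41) (kgi xgi20 ygi13 zgi13) (kgi xgi20 ygi22 zgi19) (kgi xgi5 ygi47 zgi14) (kgi xgi20 ygi5 zgi35) (kgi xgi20 ygi5 zgi34) (kgi xgi16 ygi24 zgi4) (kgi xgi6 ygi16 zgi34) (kgi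 xgi20 ygi8 zgi53) (kgi xgi20 ygi22 zgi26) (kgi xgi10 ygi6 zgi39) (kgi xgi18 ygi42 zgi60) (kgi xgi5 ygi47 zgi21) (kgi xgi5 ygi47 zgi36) (kgi xgi5 ygi47 zgi34) (kgi xgi5 ygi52 zgi7) (kgi xgi5 ygi47 zgi25) (kgi xgi20 ygi19 zgi52) (kgi xgi20 ygi22 zgi25) (kgi xgi20 ygi22 zgi32) (kgi xgi11 ygi29 zgi40) (kgi xgi6 ygi28 zgi53) (kgi xgi11 ygi33 zgi22) (kgi xgi6 ygi30 zgi10) (kgi xgi11 ygi28 zgi29) (kgi xgi5 ygi47 zgi33) (kgi xgi11 ygi2 zgi22) (kgi xgi9 ygi47 zgi39)) (@D3.rec (fun _ => Pt) (kgi xgi17 ygi15 zgi46) (kgi xgi17 ygi13 zgi19) (kgi xgi11 ygi31 zgi3) (kgi xgi11 ygi29 zgi45) (kgi xgi8 ygi12 zgi7) (kgi xgi9 ygi23 zgi44) (kgi xgi11 ygi31 zgi49) (kgi xgi7 ygi42 zgi4) (kgi xgi20 ygi2 zgi7) (kgi xgi10 ygi17 zgi17) (kgi xgi17 ygi59 zgi27)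 (kgi xgi5 ygi47 zgi51) (kgi xgi18 ygi24 zgi4) (kgi xgi11 ygi30 zgi47) (kgi xgi20 ygi22 zgi44) (kgi xgi5 ygi47 zgi46) (kgi xgi20 ygi22 zgi43) (kgi xgi20 ygi22 zgi42) (kgi xgi11 ygi17 zgi27) (kgi xgi5 ygi47 zgi48) (kgi xgi12 ygi9 zgi1) (kgi xgi9 ygi6 zgi22) (kgi xgi12 ygi4 zgi37) (kgi xgi18 ygi2 zgi10) (kgi xgi5 ygi48 zgi45) (kgi xgi20 ygi22 zgi49) (kgi xgi10 ygi4 zgi61) (kgi xgi9 ygi6 zgi31) (kgi xgi5 ygi47 zgi56) (kgi xgi20 ygi22 zgi51) (kgi xgi7 ygi27 zgi21) (kgi xgi11 ygi30 zgi37) (kgi xgi10 ygi6 zgi1) (kgi xgi5 ygi47 zgi60) (kgi xgi16 ygi57 zgi38) (kgi xgi7 ygi26 zgi61) (kgi xgi16 ygi57 zgi36) (kgi xgi5 ygi48 zgi1) (kgi xgi11 ygi29 zgi50) (kgi xgi20 ygi23 zgi7) (kgi xgi11 ygi29 zgi47) (kgi xgi11 ygi30 zgi8) (kgi xgi20 ygi22 zgi39)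 (kgi xgi9 ygi6 zgi30) (kgi xgi6 ygi44 zgi35) (kgi xgi10 ygi6 zgi16) (kgi xgi10 ygi5 zgi53) (kgi xgi20 ygi23 zgi18) (kgi xgi18 ygi24 zgi15) (kgi xgi17 ygi20 zgi56) (kgi xgi5 ygi48 zgi25) (kgi xgi20 ygi23 zgi23) (kgi xgi5 ygi48 zgi22) (kgi xgi9 ygi30 zgi11) (kgi xgi7 ygi59 zgi3) (kgi xgi20 ygi22 zgi41) (kgi xgi12 ygi25 zgi7) (kgi xgi5 ygi48 zgi10) (kgi xgi5 ygi48 zgi37) (kgi xgi5 ygi48 zgi34) (kgi xgi12 ygi11 zgi0) (kgi xgi14 ygi1 zgi55)) (@D3.rec (fun _ => Pt) (kgi xgi6 ygi51 zgi10) (kgi xgi5 ygi48 zgi15) (kgi xgi12 ygi54 zgi49) (kgi xgi5 ygi48 zgi17) (kgi xgi18 ygi56 zgi58) (kgi xgi6 ygi25 zgi61) (kgi xgi20 ygi23 zgi37) (kgi xgi17 ygi12 zgi7) (kgi xgi10 ygi42 zgi26) (kgi xgi20 ygi23 zgi41) (kgi xgi13 ygi6 zgi42) (kgi xgi20 ygi23 zgi45)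 (kgi xgi5 ygi59 zgi28) (kgi xgi20 ygi23 zgi44) (kgi xgi5 ygi48 zgi24) (kgi xgi19 ygi13 zgi55) (kgi xgi20 ygi23 zgi57) (kgi xgi20 ygi23 zgi22) (kgi xgi5 ygi48 zgi26) (kgi xgi6 ygi51 zgi0) (kgi xgi9 ygi12 zgi48) (kgi xgi19 ygi39 zgi55) (kgi xgi5 ygi48 zgi27) (kgi xgi20 ygi24 zgi5) (kgi xgi17 ygi17 zgi51) (kgi xgi5 ygi48 zgi28) (kgi xgi5 ygi48 zgi32) (kgi xgi20 ygi24 zgi11) (kgi xgi9 ygi46 zgi34) (kgi xgi20 ygi24 zgi15) (kgi xgi18 ygi1 zgi38) (kgi xgi14 ygi28 zgi45) (kgi xgi20 ygi24 zgi4) (kgi xgi14 ygi35 zgi26) (kgi xgi20 ygi24 zgi10) (kgi xgi9 ygi1 zgi49) (kgi xgi11 ygi25 zgi22) (kgi xgi20 ygi22 zgi40) (kgi xgi20 ygi24 zgi31) (kgi xgi11 ygi29 zgi55) (kgi xgi10 ygi55 zgi28) (kgi xgi17 ygi59 zgi33) (kgi xgi20 ygi24 zgi30) (kgi xgi8 ygi14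 zgi39) (kgi xgi5 ygi48 zgi36) (kgi xgi14 ygi48 zgi56) (kgi xgi7 ygi46 zgi28) (kgi xgi14 ygi48 zgi53) (kgi xgi12 ygi10 zgi55) (kgi xgi5 ygi48 zgi40) (kgi xgi20 ygi12 zgi20) (kgi xgi20 ygi24 zgi25) (kgi xgi6 ygi53 zgi47) (kgi xgi19 ygi50 zgi24) (kgi xgi12 ygi8 zgi50) (kgi xgi9 ygi17 zgi48) (kgi xgi20 ygi24 zgi51) (kgi xgi5 ygi48 zgi46) (kgi xgi6 ygi55 zgi13) (kgi xgi20 ygi24 zgi54) (kgi xgi5 ygi48 zgi47) (kgi xgi18 ygi24 zgi27)) (@D3.rec (fun _ => Pt) (kgi xgi10 ygi55 zgi23) (kgi xgi13 ygi57 zgi47) (kgi xgi13 ygi58 zgi1) (kgi xgi20 ygi24 zgi61) (kgi xgi5 ygi48 zgi50) (kgi xgi12 ygi25 zgi35) (kgi xgi19 ygi49 zgi17) (kgi xgi6 ygi2 zgi4) (kgi xgi11 ygi28 zgi43) (kgi xgi15 ygi5 zgi9) (kgi xgi12 ygi25 zgi4) (kgi xgi12 ygi24 zgi51) (kgi xgi20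 ygi25 zgi10) (kgi xgi5 ygi48 zgi56) (kgi xgi12 ygi25 zgi3) (kgi xgi12 ygi10 zgi56) (kgi xgi5 ygi48 zgi57) (kgi xgi10 ygi5 zgi10) (kgi xgi20 ygi25 zgi18) (kgi xgi10 ygi55 zgi26) (kgi xgi9 ygi17 zgi20) (kgi xgi8 ygi2 zgi30) (kgi xgi11 ygi30 zgi39) (kgi xgi12 ygi25 zgi2) (kgi xgi20 ygi25 zgi23) (kgi xgi6 ygi16 zgi48) (kgi xgi16 ygi57 zgi30) (kgi xgi5 ygi49 zgi50) (kgi xgi6 ygi32 zgi3) (kgi xgi8 ygi2 zgi12) (kgi xgi20 ygi19 zgi55) (kgi xgi6 ygi16 zgi36) (kgi xgi20 ygi25 zgi27) (kgi xgi6 ygi13 zgi21) (kgi xgi6 ygi16 zgi25) (kgi xgi16 ygi57 zgi1) (kgi xgi14 ygi8 zgi1) (kgi xgi12 ygi10 zgi53) (kgi xgi7 ygi39 zgi35) (kgi xgi16 ygi45 zgi1) (kgi xgi6 ygi16 zgi23) (kgi xgi9 ygi44 zgi46) (kgi xgi9 ygi48 zgi19) (kgi xgi18 ygi2 zgi27) (kgi xgi6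 ygi32 zgi6) (kgi xgi8 ygi46 zgi30) (kgi xgi6 ygi32 zgi8) (kgi xgi5 ygi52 zgi2) (kgi xgi11 ygi50 zgi26) (kgi xgi20 ygi25 zgi32) (kgi xgi5 ygi49 zgi29) (kgi xgi11 ygi50 zgi28) (kgi xgi5 ygi49 zgi30) (kgi xgi12 ygi10 zgi35) (kgi xgi5 ygi49 zgi33) (kgi xgi16 ygi51 zgi28) (kgi xgi20 ygi6 zgi53) (kgi xgi9 ygi46 zgi49) (kgi xgi12 ygi10 zgi60) (kgi xgi20 ygi25 zgi7) (kgi xgi9 ygi2 zgi18) (kgi xgi20 ygi25 zgi38)) (@D3.rec (fun _ => Pt) (kgi xgi5 ygi49 zgi40) (kgi xgi7 ygi6 zgi34) (kgi xgi20 ygi25 zgi42) (kgi xgi6 ygi16 zgi16) (kgi xgi11 ygi16 zgi19) (kgi xgi11 ygi16 zgi26) (kgi xgi5 ygi49 zgi43) (kgi xgi11 ygi16 zgi18) (kgi xgi13 ygi9 zgi56) (kgi xgi6 ygi17 zgi4) (kgi xgi19 ygi25 zgi21) (kgi xgi6 ygi2 zgi6) (kgi xgi6 ygi16 zgi33) (kgi xgi16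 ygi48 zgi26) (kgi xgi8 ygi48 zgi16) (kgi xgi16 ygi43 zgi56) (kgi xgi5 ygi49 zgi51) (kgi xgi8 ygi59 zgi22) (kgi xgi10 ygi51 zgi12) (kgi xgi11 ygi7 zgi30) (kgi xgi9 ygi48 zgi47) (kgi xgi6 ygi16 zgi30) (kgi xgi8 ygi59 zgi37) (kgi xgi17 ygi9 zgi1) (kgi xgi11 ygi28 zgi56) (kgi xgi5 ygi49 zgi61) (kgi xgi20 ygi25 zgi56) (kgi xgi20 ygi22 zgi53) (kgi xgi5 ygi50 zgi1) (kgi xgi11 ygi24 zgi49) (kgi xgi13 ygi58 zgi44) (kgi xgi14 ygi23 zgi47) (kgi xgi14 ygi52 zgi33) (kgi xgi5 ygi50 zgi5) (kgi xgi20 ygi25 zgi58) (kgi xgi11 ygi30 zgi44) (kgi xgi5 ygi50 zgi6) (kgi xgi11 ygi21 zgi28) (kgi xgi12 ygi31 zgi15) (kgi xgi5 ygi50 zgi7) (kgi xgi6 ygi8 zgi27) (kgi xgi8 ygi14 zgi58) (kgi xgi7 ygi57 zgi20) (kgi xgi8 ygi0 zgi28) (kgi xgi5 ygi50 zgi15) (kgi xgi8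 ygi49 zgi25) (kgi xgi19 ygi42 zgi54) (kgi xgi11 ygi30 zgi49) (kgi xgi20 ygi26 zgi5) (kgi xgi13 ygi1 zgi41) (kgi xgi17 ygi22 zgi35) (kgi xgi12 ygi9 zgi47) (kgi xgi6 ygi50 zgi24) (kgi xgi12 ygi9 zgi44) (kgi xgi17 ygi16 zgi37) (kgi xgi5 ygi50 zgi29) (kgi xgi11 ygi28 zgi27) (kgi xgi5 ygi50 zgi30) (kgi xgi5 ygi54 zgi28) (kgi xgi5 ygi50 zgi31) (kgi xgi17 ygi16 zgi38) (kgi xgi10 ygi48 zgi37)) (@D3.rec (fun _ => Pt) (kgi xgi12 ygi38 zgi40) (kgi xgi11 ygi46 zgi41) (kgi xgi5 ygi50 zgi35) (kgi xgi12 ygi17 zgi5) (kgi xgi12 ygi29 zgi23) (kgi xgi7 ygi33 zgi53) (kgi xgi11 ygi30 zgi38) (kgi xgi11 ygi38 zgi27) (kgi xgi11 ygi38 zgi25) (kgi xgi9 ygi8 zgi47) (kgi xgi9 ygi10 zgi26) (kgi xgi9 ygi10 zgi24) (kgi xgi20 ygi26 zgi18) (kgi xgi13 ygi42 zgi2)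 (kgi xgi17 ygi1 zgi2) (kgi xgi13 ygi58 zgi60) (kgi xgi5 ygi50 zgi52) (kgi xgi12 ygi23 zgi53) (kgi xgi12 ygi23 zgi51) (kgi xgi5 ygi50 zgi53) (kgi xgi8 ygi49 zgi55) (kgi xgi20 ygi26 zgi28) (kgi xgi5 ygi52 zgi8) (kgi xgi11 ygi56 zgi47) (kgi xgi12 ygi5 zgi39) (kgi xgi11 ygi8 zgi8) (kgi xgi5 ygi50 zgi59) (kgi xgi16 ygi29 zgi59) (kgi xgi11 ygi32 zgi44) (kgi xgi5 ygi50 zgi60) (kgi xgi5 ygi50 zgi61) (kgi xgi9 ygi51 zgi11) (kgi xgi5 ygi51 zgi0) (kgi xgi16 ygi51 zgi33) (kgi xgi15 ygi1 zgi39) (kgi xgi11 ygi42 zgi2) (kgi xgi20 ygi0 zgi30) (kgi xgi7 ygi42 zgi8) (kgi xgi13 ygi1 zgi30) (kgi xgi10 ygi42 zgi40) (kgi xgi6 ygi51 zgi55) (kgi xgi9 ygi24 zgi31) (kgi xgi11 ygi25 zgi3) (kgi xgi5 ygi51 zgi8) (kgi xgi20 ygi26 zgi47) (kgi xgi20 ygi26 zgi46)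 (kgi xgi5 ygi51 zgi30) (kgi xgi5 ygi51 zgi10) (kgi xgi11 ygi25 zgi40) (kgi xgi20 ygi26 zgi58) (kgi xgi11 ygi25 zgi37) (kgi xgi5 ygi51 zgi21) (kgi xgi20 ygi26 zgi61) (kgi xgi14 ygi30 zgi55) (kgi xgi11 ygi30 zgi22) (kgi xgi11 ygi26 zgi43) (kgi xgi7 ygi41 zgi10) (kgi xgi5 ygi51 zgi15) (kgi xgi17 ygi57 zgi47) (kgi xgi11 ygi24 zgi23) (kgi xgi17 ygi17 zgi7) (kgi xgi5 ygi51 zgi17)) (@D3.rec (fun _ => Pt) (kgi xgi7 ygi42 zgi13) (kgi xgi20 ygi27 zgi14) (kgi xgi7 ygi42 zgi10) (kgi xgi16 ygi58 zgi11) (kgi xgi12 ygi58 zgi2) (kgi xgi5 ygi51 zgi28) (kgi xgi14 ygi24 zgi1) (kgi xgi20 ygi3 zgi44) (kgi xgi11 ygi25 zgi7) (kgi xgi20 ygi27 zgi21) (kgi xgi11 ygi25 zgi21) (kgi xgi13 ygi21 zgi34) (kgi xgi5 ygi51 zgi24) (kgi xgi13 ygi5 zgi28) (kgi xgi7 ygi4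 zgi16) (kgi xgi5 ygi51 zgi25) (kgi xgi11 ygi24 zgi54) (kgi xgi20 ygi27 zgi30) (kgi xgi5 ygi51 zgi26) (kgi xgi10 ygi39 zgi0) (kgi xgi5 ygi51 zgi27) (kgi xgi5 ygi51 zgi31) (kgi xgi11 ygi29 zgi52) (kgi xgi9 ygi5 zgi61) (kgi xgi6 ygi12 zgi41) (kgi xgi9 ygi10 zgi9) (kgi xgi14 ygi20 zgi1) (kgi xgi18 ygi17 zgi5) (kgi xgi16 ygi53 zgi28) (kgi xgi20 ygi26 zgi54) (kgi xgi14 ygi12 zgi29) (kgi xgi5 ygi52 zgi48) (kgi xgi20 ygi27 zgi38) (kgi xgi5 ygi51 zgi35) (kgi xgi17 ygi57 zgi60) (kgi xgi20 ygi27 zgi46) (kgi xgi11 ygi58 zgi58) (kgi xgi11 ygi25 zgi25) (kgi xgi17 ygi58 zgi3) (kgi xgi12 ygi29 zgi44) (kgi xgi10 ygi3 zgi59) (kgi xgi12 ygi29 zgi7) (kgi xgi5 ygi51 zgi43) (kgi xgi13 ygi2 zgi14) (kgi xgi11 ygi28 zgi30) (kgi xgi12 ygi24 zgi3) (kgi xgi12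 ygi30 zgi10) (kgi xgi11 ygi25 zgi17) (kgi xgi18 ygi43 zgi10) (kgi xgi12 ygi30 zgi13) (kgi xgi5 ygi51 zgi47) (kgi xgi18 ygi23 zgi41) (kgi xgi18 ygi23 zgi57) (kgi xgi20 ygi27 zgi48) (kgi xgi20 ygi27 zgi57) (kgi xgi5 ygi51 zgi51) (kgi xgi8 ygi0 zgi37) (kgi xgi20 ygi22 zgi33) (kgi xgi5 ygi51 zgi52) (kgi xgi17 ygi58 zgi12) (kgi xgi11 ygi24 zgi30) (kgi xgi10 ygi18 zgi13)) (@D3.rec (fun _ => Pt) (kgi xgi11 ygi25 zgi2) (kgi xgi5 ygi51 zgi60) (kgi xgi19 ygi27 zgi40) (kgi xgi20 ygi27 zgi59) (kgi xgi17 ygi18 zgi7) (kgi xgi7 ygi59 zgi46) (kgi xgi5 ygi52 zgi19) (kgi xgi9 ygi10 zgi23) (kgi xgi5 ygi52 zgi6) (kgi xgi17 ygi58 zgi27) (kgi xgi17 ygi58 zgi26) (kgi xgi11 ygi28 zgi28) (kgi xgi5 ygi52 zgi16) (kgi xgi9 ygi1 zgi28) (kgi xgi15 ygi30 zgi38)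 (kgi xgi5 ygi52 zgi11) (kgi xgi17 ygi57 zgi56) (kgi xgi11 ygi24 zgi61) (kgi xgi11 ygi28 zgi36) (kgi xgi10 ygi19 zgi9) (kgi xgi5 ygi52 zgi17) (kgi xgi9 ygi46 zgi50) (kgi xgi18 ygi24 zgi51) (kgi xgi19 ygi24 zgi24) (kgi xgi11 ygi31 zgi46) (kgi xgi16 ygi47 zgi4) (kgi xgi20 ygi16 zgi46) (kgi xgi7 ygi30 zgi40) (kgi xgi18 ygi38 zgi21) (kgi xgi9 ygi50 zgi52) (kgi xgi11 ygi28 zgi61) (kgi xgi12 ygi5 zgi37) (kgi xgi9 ygi14 zgi15) (kgi xgi10 ygi43 zgi53) (kgi xgi12 ygi29 zgi14) (kgi xgi11 ygi50 zgi50) (kgi xgi5 ygi52 zgi33) (kgi xgi12 ygi18 zgi26) (kgi xgi17 ygi6 zgi24) (kgi xgi9 ygi8 zgi21) (kgi xgi20 ygi28 zgi16) (kgi xgi19 ygi12 zgi60) (kgi xgi10 ygi53 zgi4) (kgi xgi17 ygi49 zgi48) (kgi xgi20 ygi28 zgi20) (kgi xgi11 ygi51 zgi34) (kgi xgi15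 ygi4 zgi56) (kgi xgi5 ygi52 zgi52) (kgi xgi11 ygi24 zgi57) (kgi xgi20 ygi25 zgi13) (kgi xgi5 ygi52 zgi44) (kgi xgi19 ygi27 zgi33) (kgi xgi5 ygi52 zgi45) (kgi xgi20 ygi28 zgi28) (kgi xgi11 ygi25 zgi6) (kgi xgi12 ygi29 zgi30) (kgi xgi20 ygi28 zgi32) (kgi xgi18 ygi1 zgi4) (kgi xgi6 ygi31 zgi57) (kgi xgi17 ygi55 zgi30) (kgi xgi10 ygi43 zgi27) (kgi xgi20 ygi28 zgi37)) (@D3.rec (fun _ => Pt) (kgi xgi20 ygi28 zgi39) (kgi xgi15 ygi4 zgi52) (kgi xgi15 ygi4 zgi59) (kgi xgi16 ygi49 zgi15) (kgi xgi9 ygi14 zgi26) (kgi xgi11 ygi13 zgi25) (kgi xgi20 ygi28 zgi47) (kgi xgi20 ygi28 zgi49) (kgi xgi5 ygi53 zgi40) (kgi xgi18 ygi56 zgi27) (kgi xgi11 ygi38 zgi3) (kgi xgi16 ygi52 zgi49) (kgi xgi11 ygi50 zgi52) (kgi xgi7 ygi34 zgi15) (kgi xgi11 ygi47 zgi28)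 (kgi xgi19 ygi45 zgi31) (kgi xgi5 ygi53 zgi3) (kgi xgi8 ygi56 zgi55) (kgi xgi10 ygi47 zgi8) (kgi xgi20 ygi29 zgi2) (kgi xgi5 ygi53 zgi6) (kgi xgi8 ygi56 zgi50) (kgi xgi20 ygi17 zgi60) (kgi xgi5 ygi59 zgi15) (kgi xgi13 ygi52 zgi21) (kgi xgi16 ygi59 zgi18) (kgi xgi9 ygi47 zgi21) (kgi xgi18 ygi14 zgi14) (kgi xgi5 ygi58 zgi46) (kgi xgi9 ygi46 zgi25) (kgi xgi17 ygi58 zgi40) (kgi xgi6 ygi13 zgi27) (kgi xgi20 ygi29 zgi23) (kgi xgi5 ygi53 zgi15) (kgi xgi5 ygi55 zgi41) (kgi xgi20 ygi29 zgi29) (kgi xgi16 ygi28 zgi20) (kgi xgi8 ygi47 zgi26) (kgi xgi20 ygi29 zgi35) (kgi xgi9 ygi47 zgi16) (kgi xgi20 ygi29 zgi40) (kgi xgi5 ygi53 zgi18) (kgi xgi16 ygi27 zgi45) (kgi xgi16 ygi27 zgi43) (kgi xgi17 ygi8 zgi38) (kgi xgi5 ygi53 zgi20) (kgi xgi5 ygi55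 zgi46) (kgi xgi15 ygi53 zgi27) (kgi xgi7 ygi52 zgi13) (kgi xgi20 ygi29 zgi52) (kgi xgi5 ygi53 zgi21) (kgi xgi5 ygi57 zgi2) (kgi xgi10 ygi48 zgi15) (kgi xgi8 ygi59 zgi43) (kgi xgi10 ygi45 zgi12) (kgi xgi10 ygi45 zgi2) (kgi xgi6 ygi0 zgi41) (kgi xgi20 ygi29 zgi60) (kgi xgi12 ygi9 zgi29) (kgi xgi9 ygi8 zgi25) (kgi xgi20 ygi30 zgi3) (kgi xgi9 ygi8 zgi23)) (@D3.rec (fun _ => Pt) (kgi xgi13 ygi39 zgi4) (kgi xgi9 ygi22 zgi37) (kgi xgi16 ygi32 zgi20) (kgi xgi5 ygi53 zgi32) (kgi xgi17 ygi0 zgi28) (kgi xgi20 ygi30 zgi17) (kgi xgi17 ygi0 zgi25) (kgi xgi5 ygi53 zgi33) (kgi xgi15 ygi4 zgi51) (kgi xgi20 ygi30 zgi22) (kgi xgi5 ygi53 zgi35) (kgi xgi6 ygi45 zgi39) (kgi xgi11 ygi56 zgi6) (kgi xgi17 ygi8 zgi30) (kgi xgi20 ygi30 zgi26) (kgi xgi11 ygi32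 zgi4) (kgi xgi20 ygi30 zgi31) (kgi xgi20 ygi30 zgi34) (kgi xgi15 ygi4 zgi60) (kgi xgi7 ygi57 zgi17) (kgi xgi20 ygi30 zgi38) (kgi xgi17 ygi7 zgi59) (kgi xgi6 ygi1 zgi48) (kgi xgi15 ygi5 zgi4) (kgi xgi20 ygi30 zgi39) (kgi xgi5 ygi53 zgi45) (kgi xgi17 ygi0 zgi21) (kgi xgi17 ygi0 zgi20) (kgi xgi5 ygi53 zgi46) (kgi xgi12 ygi30 zgi58) (kgi xgi5 ygi53 zgi48) (kgi xgi6 ygi40 zgi28) (kgi xgi20 ygi30 zgi46) (kgi xgi18 ygi40 zgi42) (kgi xgi20 ygi30 zgi50) (kgi xgi16 ygi54 zgi47) (kgi xgi5 ygi53 zgi52) (kgi xgi5 ygi54 zgi19) (kgi xgi20 ygi30 zgi58) (kgi xgi5 ygi54 zgi16) (kgi xgi8 ygi10 zgi33) (kgi xgi20 ygi31 zgi0) (kgi xgi15 ygi26 zgi24) (kgi xgi15 ygi26 zgi28) (kgi xgi16 ygi56 zgi38) (kgi xgi15 ygi13 zgi14) (kgi xgi7 ygi36 zgi15) (kgi xgi9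 ygi13 zgi22) (kgi xgi8 ygi12 zgi38) (kgi xgi8 ygi12 zgi40) (kgi xgi10 ygi17 zgi19) (kgi xgi20 ygi31 zgi12) (kgi xgi17 ygi26 zgi52) (kgi xgi11 ygi1 zgi25) (kgi xgi9 ygi50 zgi35) (kgi xgi5 ygi54 zgi4) (kgi xgi5 ygi54 zgi7) (kgi xgi20 ygi31 zgi18) (kgi xgi5 ygi54 zgi5) (kgi xgi16 ygi32 zgi28) (kgi xgi8 ygi51 zgi27) (kgi xgi5 ygi54 zgi6)) (@D3.rec (fun _ => Pt) (kgi xgi8 ygi47 zgi47) (kgi xgi20 ygi31 zgi29) (kgi xgi8 ygi50 zgi61) (kgi xgi8 ygi51 zgi0) (kgi xgi5 ygi54 zgi9) (kgi xgi5 ygi54 zgi11) (kgi xgi20 ygi31 zgi33) (kgi xgi5 ygi54 zgi10) (kgi xgi12 ygi7 zgi25) (kgi xgi15 ygi23 zgi57) (kgi xgi9 ygi14 zgi52) (kgi xgi11 ygi45 zgi22) (kgi xgi20 ygi31 zgi47) (kgi xgi12 ygi7 zgi17) (kgi xgi6 ygi40 zgi31) (kgi xgi20 ygi31 zgi40) (kgi xgi19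 ygi20 zgi42) (kgi xgi5 ygi54 zgi15) (kgi xgi20 ygi30 zgi52) (kgi xgi20 ygi31 zgi55) (kgi xgi19 ygi21 zgi12) (kgi xgi11 ygi36 zgi17) (kgi xgi19 ygi52 zgi6) (kgi xgi20 ygi32 zgi1) (kgi xgi20 ygi32 zgi2) (kgi xgi20 ygi26 zgi19) (kgi xgi16 ygi55 zgi13) (kgi xgi20 ygi32 zgi0) (kgi xgi20 ygi31 zgi39) (kgi xgi5 ygi54 zgi18) (kgi xgi20 ygi30 zgi60) (kgi xgi20 ygi32 zgi18) (kgi xgi20 ygi30 zgi57) (kgi xgi15 ygi50 zgi9) (kgi xgi5 ygi54 zgi21) (kgi xgi20 ygi32 zgi26) (kgi xgi20 ygi32 zgi29) (kgi xgi20 ygi32 zgi25) (kgi xgi20 ygi32 zgi33) (kgi xgi8 ygi25 zgi59) (kgi xgi15 ygi23 zgi46) (kgi xgi20 ygi32 zgi40) (kgi xgi5 ygi54 zgi25) (kgi xgi15 ygi23 zgi44) (kgi xgi20 ygi32 zgi47) (kgi xgi20 ygi32 zgi51) (kgi xgi20 ygi30 zgi61) (kgi xgi20 ygi32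 zgi55) (kgi xgi5 ygi54 zgi42) (kgi xgi12 ygi17 zgi44) (kgi xgi12 ygi55 zgi26) (kgi xgi5 ygi54 zgi30) (kgi xgi6 ygi8 zgi26) (kgi xgi6 ygi50 zgi14) (kgi xgi8 ygi12 zgi32) (kgi xgi5 ygi54 zgi36) (kgi xgi10 ygi43 zgi23) (kgi xgi17 ygi12 zgi27) (kgi xgi12 ygi9 zgi23) (kgi xgi11 ygi14 zgi22) (kgi xgi12 ygi9 zgi21) (kgi xgi5 ygi54 zgi40)) (@D3.rec (fun _ => Pt) (kgi xgi13 ygi1 zgi5) (kgi xgi19 ygi17 zgi27) (kgi xgi11 ygi58 zgi33) (kgi xgi6 ygi8 zgi54) (kgi xgi18 ygi23 zgi17) (kgi xgi12 ygi9 zgi18) (kgi xgi11 ygi40 zgi32) (kgi xgi20 ygi33 zgi3) (kgi xgi12 ygi1 zgi12) (kgi xgi20 ygi33 zgi4) (kgi xgi17 ygi2 zgi56) (kgi xgi18 ygi18 zgi54) (kgi xgi20 ygi33 zgi11) (kgi xgi6 ygi46 zgi58) (kgi xgi6 ygi39 zgi16) (kgi xgi20 ygi33 zgi15) (kgi xgi20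 ygi33 zgi18) (kgi xgi5 ygi54 zgi55) (kgi xgi17 ygi8 zgi21) (kgi xgi10 ygi17 zgi26) (kgi xgi5 ygi58 zgi60) (kgi xgi15 ygi26 zgi21) (kgi xgi10 ygi1 zgi18) (kgi xgi20 ygi32 zgi23) (kgi xgi20 ygi33 zgi29) (kgi xgi20 ygi33 zgi14) (kgi xgi11 ygi45 zgi37) (kgi xgi13 ygi2 zgi18) (kgi xgi17 ygi26 zgi46) (kgi xgi20 ygi33 zgi34) (kgi xgi5 ygi55 zgi2) (kgi xgi5 ygi55 zgi4) (kgi xgi13 ygi16 zgi50) (kgi xgi14 ygi20 zgi9) (kgi xgi20 ygi33 zgi42) (kgi xgi5 ygi55 zgi3) (kgi xgi10 ygi15 zgi28) (kgi xgi20 ygi33 zgi39) (kgi xgi7 ygi35 zgi56) (kgi xgi18 ygi22 zgi31) (kgi xgi17 ygi9 zgi45) (kgi xgi15 ygi26 zgi58) (kgi xgi18 ygi21 zgi33) (kgi xgi5 ygi55 zgi7) (kgi xgi10 ygi27 zgi24) (kgi xgi10 ygi27 zgi32) (kgi xgi20 ygi33 zgi58) (kgi xgi5 ygi55 zgi8) (kgi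 xgi15 ygi26 zgi54) (kgi xgi20 ygi32 zgi50) (kgi xgi20 ygi34 zgi3) (kgi xgi18 ygi43 zgi22) (kgi xgi19 ygi10 zgi6) (kgi xgi5 ygi55 zgi10) (kgi xgi17 ygi0 zgi45) (kgi xgi12 ygi23 zgi11) (kgi xgi20 ygi34 zgi12) (kgi xgi9 ygi15 zgi38) (kgi xgi5 ygi55 zgi13) (kgi xgi11 ygi48 zgi54) (kgi xgi10 ygi17 zgi27) (kgi xgi13 ygi1 zgi21)) (@D3.rec (fun _ => Pt) (kgi xgi7 ygi19 zgi61) (kgi xgi11 ygi23 zgi60) (kgi xgi10 ygi17 zgi21) (kgi xgi5 ygi55 zgi22) (kgi xgi5 ygi55 zgi23) (kgi xgi6 ygi34 zgi23) (kgi xgi14 ygi11 zgi49) (kgi xgi6 ygi34 zgi15) (kgi xgi17 ygi10 zgi31) (kgi xgi18 ygi21 zgi35) (kgi xgi18 ygi33 zgi46) (kgi xgi17 ygi10 zgi34) (kgi xgi20 ygi34 zgi24) (kgi xgi6 ygi8 zgi16) (kgi xgi18 ygi21 zgi36) (kgi xgi10 ygi17 zgi18) (kgi xgi6 ygi24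 zgi33) (kgi xgi20 ygi0 zgi52) (kgi xgi8 ygi45 zgi44) (kgi xgi16 ygi35 zgi9) (kgi xgi20 ygi24 zgi49) (kgi xgi5 ygi56 zgi15) (kgi xgi15 ygi8 zgi41) (kgi xgi5 ygi55 zgi33) (kgi xgi16 ygi30 zgi23) (kgi xgi12 ygi40 zgi41) (kgi xgi12 ygi44 zgi19) (kgi xgi6 ygi2 zgi30) (kgi xgi5 ygi55 zgi36) (kgi xgi5 ygi55 zgi37) (kgi xgi16 ygi33 zgi14) (kgi xgi20 ygi34 zgi43) (kgi xgi5 ygi55 zgi40) (kgi xgi16 ygi59 zgi24) (kgi xgi20 ygi34 zgi50) (kgi xgi16 ygi59 zgi23) (kgi xgi14 ygi27 zgi17) (kgi xgi5 ygi55 zgi42) (kgi xgi12 ygi47 zgi19) (kgi xgi12 ygi35 zgi13) (kgi xgi5 ygi55 zgi44) (kgi xgi6 ygi45 zgi12) (kgi xgi15 ygi47 zgi40) (kgi xgi10 ygi44 zgi54) (kgi xgi20 ygi15 zgi39) (kgi xgi16 ygi0 zgi10) (kgi xgi5 ygi55 zgi48) (kgi xgi5 ygi56 zgi20) (kgi xgi20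 ygi35 zgi3) (kgi xgi5 ygi56 zgi17) (kgi xgi8 ygi0 zgi9) (kgi xgi11 ygi57 zgi48) (kgi xgi5 ygi55 zgi50) (kgi xgi5 ygi56 zgi28) (kgi xgi20 ygi35 zgi12) (kgi xgi5 ygi56 zgi46) (kgi xgi5 ygi55 zgi53) (kgi xgi5 ygi56 zgi48) (kgi xgi12 ygi23 zgi17) (kgi xgi20 ygi35 zgi21) (kgi xgi12 ygi1 zgi16) (kgi xgi8 ygi58 zgi10)) (@D3.rec (fun _ => Pt) (kgi xgi5 ygi55 zgi56) (kgi xgi5 ygi56 zgi60) (kgi xgi20 ygi35 zgi27) (kgi xgi5 ygi56 zgi57) (kgi xgi15 ygi4 zgi49) (kgi xgi18 ygi1 zgi44) (kgi xgi5 ygi55 zgi60) (kgi xgi5 ygi57 zgi12) (kgi xgi20 ygi35 zgi39) (kgi xgi20 ygi35 zgi42) (kgi xgi8 ygi50 zgi25) (kgi xgi20 ygi35 zgi46) (kgi xgi8 ygi0 zgi48) (kgi xgi5 ygi56 zgi1) (kgi xgi5 ygi56 zgi4) (kgi xgi20 ygi6 zgi56) (kgi xgi5 ygi56 zgi2) (kgi xgi8 ygi1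 zgi21) (kgi xgi6 ygi31 zgi55) (kgi xgi17 ygi13 zgi8) (kgi xgi6 ygi33 zgi55) (kgi xgi20 ygi20 zgi21) (kgi xgi5 ygi56 zgi5) (kgi xgi16 ygi23 zgi56) (kgi xgi20 ygi35 zgi56) (kgi xgi16 ygi23 zgi54) (kgi xgi5 ygi56 zgi6) (kgi xgi16 ygi20 zgi34) (kgi xgi20 ygi35 zgi60) (kgi xgi8 ygi48 zgi10) (kgi xgi5 ygi56 zgi8) (kgi xgi5 ygi56 zgi10) (kgi xgi7 ygi25 zgi21) (kgi xgi11 ygi22 zgi7) (kgi xgi11 ygi18 zgi57) (kgi xgi20 ygi36 zgi2) (kgi xgi5 ygi56 zgi11) (kgi xgi10 ygi1 zgi59) (kgi xgi20 ygi36 zgi9) (kgi xgi12 ygi21 zgi60) (kgi xgi16 ygi7 zgi30) (kgi xgi20 ygi36 zgi6) (kgi xgi5 ygi56 zgi14) (kgi xgi6 ygi10 zgi44) (kgi xgi20 ygi36 zgi13) (kgi xgi18 ygi50 zgi42) (kgi xgi5 ygi56 zgi16) (kgi xgi20 ygi14 zgi17) (kgi xgi20 ygi36 zgi19) (kgi xgi20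 ygi15 zgi41) (kgi xgi17 ygi2 zgi39) (kgi xgi11 ygi21 zgi40) (kgi xgi20 ygi36 zgi27) (kgi xgi20 ygi36 zgi29) (kgi xgi20 ygi36 zgi23) (kgi xgi20 ygi36 zgi26) (kgi xgi18 ygi41 zgi32) (kgi xgi5 ygi56 zgi19) (kgi xgi20 ygi35 zgi5) (kgi xgi20 ygi36 zgi42) (kgi xgi20 ygi8 zgi43) (kgi xgi11 ygi32 zgi10)) (@D3.rec (fun _ => Pt) (kgi xgi5 ygi56 zgi22) (kgi xgi20 ygi36 zgi49) (kgi xgi20 ygi36 zgi53) (kgi xgi9 ygi50 zgi43) (kgi xgi20 ygi36 zgi48) (kgi xgi18 ygi41 zgi25) (kgi xgi16 ygi25 zgi54) (kgi xgi20 ygi37 zgi1) (kgi xgi6 ygi7 zgi42) (kgi xgi20 ygi37 zgi6) (kgi xgi15 ygi4 zgi54) (kgi xgi20 ygi37 zgi0) (kgi xgi20 ygi37 zgi13) (kgi xgi5 ygi56 zgi27) (kgi xgi17 ygi6 zgi51) (kgi xgi14 ygi22 zgi35) (kgi xgi17 ygi7 zgi15) (kgi xgi20 ygi35 zgi11)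 (kgi xgi20 ygi37 zgi27) (kgi xgi5 ygi56 zgi54) (kgi xgi12 ygi23 zgi30) (kgi xgi20 ygi37 zgi29) (kgi xgi12 ygi23 zgi27) (kgi xgi5 ygi56 zgi42) (kgi xgi11 ygi21 zgi34) (kgi xgi5 ygi56 zgi34) (kgi xgi11 ygi29 zgi8) (kgi xgi6 ygi8 zgi43) (kgi xgi5 ygi56 zgi35) (kgi xgi12 ygi14 zgi2) (kgi xgi20 ygi37 zgi38) (kgi xgi5 ygi56 zgi37) (kgi xgi12 ygi23 zgi21) (kgi xgi20 ygi37 zgi44) (kgi xgi12 ygi23 zgi18) (kgi xgi16 ygi59 zgi37) (kgi xgi11 ygi35 zgi57) (kgi xgi5 ygi56 zgi52) (kgi xgi10 ygi17 zgi15) (kgi xgi17 ygi18 zgi12) (kgi xgi10 ygi17 zgi14) (kgi xgi10 ygi14 zgi5) (kgi xgi9 ygi19 zgi21) (kgi xgi6 ygi12 zgi1) (kgi xgi20 ygi37 zgi54) (kgi xgi12 ygi23 zgi22) (kgi xgi12 ygi41 zgi1) (kgi xgi8 ygi0 zgi7) (kgi xgi18 ygi21 zgi2) (kgi xgi20 ygi38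 zgi3) (kgi xgi12 ygi39 zgi38) (kgi xgi13 ygi3 zgi20) (kgi xgi20 ygi38 zgi1) (kgi xgi20 ygi20 zgi3) (kgi xgi16 ygi57 zgi24) (kgi xgi5 ygi56 zgi50) (kgi xgi12 ygi2 zgi13) (kgi xgi20 ygi38 zgi13) (kgi xgi20 ygi38 zgi16) (kgi xgi5 ygi56 zgi51) (kgi xgi20 ygi38 zgi21) (kgi xgi20 ygi20 zgi18)) (@D3.rec (fun _ => Pt) (kgi xgi9 ygi13 zgi6) (kgi xgi6 ygi8 zgi60) (kgi xgi10 ygi59 zgi22) (kgi xgi17 ygi12 zgi15) (kgi xgi10 ygi14 zgi18) (kgi xgi20 ygi38 zgi12) (kgi xgi18 ygi25 zgi20) (kgi xgi20 ygi38 zgi20) (kgi xgi8 ygi59 zgi5) (kgi xgi20 ygi38 zgi35) (kgi xgi11 ygi55 zgi18) (kgi xgi11 ygi42 zgi18) (kgi xgi20 ygi38 zgi34) (kgi xgi5 ygi56 zgi59) (kgi xgi20 ygi35 zgi30) (kgi xgi20 ygi38 zgi45) (kgi xgi20 ygi35 zgi26) (kgi xgi17 ygi6 zgi56) (kgi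 xgi12 ygi5 zgi3) (kgi xgi16 ygi31 zgi21) (kgi xgi18 ygi19 zgi46) (kgi xgi20 ygi38 zgi55) (kgi xgi17 ygi7 zgi13) (kgi xgi20 ygi38 zgi61) (kgi xgi6 ygi6 zgi43) (kgi xgi16 ygi55 zgi55) (kgi xgi5 ygi57 zgi3) (kgi xgi5 ygi57 zgi7) (kgi xgi20 ygi39 zgi7) (kgi xgi20 ygi39 zgi12) (kgi xgi20 ygi39 zgi15) (kgi xgi10 ygi16 zgi13) (kgi xgi16 ygi38 zgi14) (kgi xgi20 ygi39 zgi11) (kgi xgi11 ygi23 zgi10) (kgi xgi14 ygi49 zgi3) (kgi xgi8 ygi0 zgi8) (kgi xgi20 ygi39 zgi26) (kgi xgi10 ygi53 zgi14) (kgi xgi20 ygi39 zgi30) (kgi xgi20 ygi39 zgi25) (kgi xgi5 ygi57 zgi11) (kgi xgi17 ygi6 zgi54) (kgi xgi16 ygi31 zgi23) (kgi xgi20 ygi39 zgi41) (kgi xgi20 ygi35 zgi41) (kgi xgi20 ygi39 zgi45) (kgi xgi5 ygi57 zgi13) (kgi xgi17 ygi6 zgi57) (kgi xgi5 ygi57 zgi23)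 (kgi xgi6 ygi8 zgi35) (kgi xgi17 ygi32 zgi40) (kgi xgi20 ygi39 zgi53) (kgi xgi13 ygi10 zgi17) (kgi xgi5 ygi57 zgi17) (kgi xgi11 ygi44 zgi30) (kgi xgi6 ygi8 zgi50) (kgi xgi17 ygi2 zgi10) (kgi xgi12 ygi44 zgi45) (kgi xgi17 ygi6 zgi12) (kgi xgi5 ygi57 zgi21) (kgi xgi19 ygi47 zgi6)) (@D3.rec (fun _ => Pt) (kgi xgi5 ygi58 zgi28) (kgi xgi17 ygi58 zgi38) (kgi xgi14 ygi21 zgi43) (kgi xgi15 ygi22 zgi32) (kgi xgi20 ygi40 zgi7) (kgi xgi5 ygi59 zgi20) (kgi xgi17 ygi4 zgi5) (kgi xgi20 ygi40 zgi11) (kgi xgi17 ygi58 zgi23) (kgi xgi6 ygi8 zgi48) (kgi xgi6 ygi1 zgi0) (kgi xgi6 ygi1 zgi1) (kgi xgi11 ygi40 zgi37) (kgi xgi11 ygi40 zgi36) (kgi xgi5 ygi57 zgi38) (kgi xgi11 ygi42 zgi7) (kgi xgi11 ygi42 zgi5) (kgi xgi7 ygi35 zgi40) (kgi xgi20 ygi40 zgi20)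 (kgi xgi12 ygi14 zgi57) (kgi xgi6 ygi31 zgi5) (kgi xgi13 ygi1 zgi3) (kgi xgi5 ygi57 zgi43) (kgi xgi11 ygi40 zgi45) (kgi xgi12 ygi32 zgi28) (kgi xgi20 ygi40 zgi23) (kgi xgi15 ygi26 zgi12) (kgi xgi9 ygi26 zgi3) (kgi xgi12 ygi35 zgi20) (kgi xgi9 ygi26 zgi5) (kgi xgi9 ygi49 zgi1) (kgi xgi11 ygi34 zgi61) (kgi xgi8 ygi0 zgi14) (kgi xgi9 ygi22 zgi31) (kgi xgi12 ygi35 zgi0) (kgi xgi18 ygi50 zgi36) (kgi xgi5 ygi57 zgi56) (kgi xgi9 ygi17 zgi8) (kgi xgi5 ygi57 zgi57) (kgi xgi14 ygi12 zgi31) (kgi xgi6 ygi34 zgi29) (kgi xgi11 ygi18 zgi60) (kgi xgi6 ygi49 zgi46) (kgi xgi5 ygi57 zgi61) (kgi xgi6 ygi31 zgi30) (kgi xgi11 ygi40 zgi22) (kgi xgi5 ygi58 zgi53) (kgi xgi5 ygi58 zgi1) (kgi xgi20 ygi40 zgi33) (kgi xgi9 ygi23 zgi13) (kgi xgi20 ygi40 zgi35)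 (kgi xgi20 ygi40 zgi38) (kgi xgi5 ygi58 zgi6) (kgi xgi6 ygi8 zgi42) (kgi xgi7 ygi43 zgi27) (kgi xgi6 ygi8 zgi39) (kgi xgi5 ygi58 zgi13) (kgi xgi14 ygi33 zgi22) (kgi xgi20 ygi40 zgi16) (kgi xgi14 ygi33 zgi31) (kgi xgi5 ygi58 zgi9) (kgi xgi6 ygi8 zgi7)) (@D3.rec (fun _ => Pt) (kgi xgi5 ygi58 zgi11) (kgi xgi20 ygi18 zgi58) (kgi xgi20 ygi40 zgi46) (kgi xgi20 ygi40 zgi49) (kgi xgi11 ygi46 zgi57) (kgi xgi6 ygi8 zgi44) (kgi xgi19 ygi34 zgi21) (kgi xgi20 ygi40 zgi54) (kgi xgi17 ygi12 zgi10) (kgi xgi5 ygi58 zgi16) (kgi xgi5 ygi58 zgi18) (kgi xgi12 ygi1 zgi56) (kgi xgi20 ygi40 zgi43) (kgi xgi17 ygi18 zgi29) (kgi xgi8 ygi47 zgi3) (kgi xgi20 ygi41 zgi3) (kgi xgi7 ygi56 zgi44) (kgi xgi8 ygi46 zgi19) (kgi xgi20 ygi41 zgi7) (kgi xgi8 ygi46 zgi11)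 (kgi xgi14 ygi12 zgi1) (kgi xgi14 ygi23 zgi46) (kgi xgi18 ygi0 zgi39) (kgi xgi20 ygi41 zgi15) (kgi xgi7 ygi20 zgi50) (kgi xgi20 ygi41 zgi19) (kgi xgi5 ygi58 zgi26) (kgi xgi5 ygi59 zgi4) (kgi xgi20 ygi41 zgi26) (kgi xgi13 ygi1 zgi6) (kgi xgi20 ygi41 zgi29) (kgi xgi10 ygi15 zgi27) (kgi xgi10 ygi15 zgi25) (kgi xgi5 ygi58 zgi35) (kgi xgi5 ygi59 zgi19) (kgi xgi20 ygi41 zgi36) (kgi xgi11 ygi48 zgi1) (kgi xgi5 ygi58 zgi36) (kgi xgi5 ygi59 zgi27) (kgi xgi5 ygi58 zgi45) (kgi xgi20 ygi41 zgi39) (kgi xgi5 ygi58 zgi42) (kgi xgi9 ygi6 zgi46) (kgi xgi12 ygi33 zgi55) (kgi xgi13 ygi41 zgi27) (kgi xgi7 ygi18 zgi53) (kgi xgi20 ygi41 zgi48) (kgi xgi7 ygi3 zgi3) (kgi xgi5 ygi58 zgi41) (kgi xgi14 ygi30 zgi60) (kgi xgi20 ygi41 zgi56) (kgi xgi9 ygi6 zgi28)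 (kgi xgi11 ygi29 zgi9) (kgi xgi10 ygi59 zgi25) (kgi xgi20 ygi39 zgi59) (kgi xgi20 ygi41 zgi59) (kgi xgi20 ygi17 zgi20) (kgi xgi5 ygi58 zgi44) (kgi xgi20 ygi41 zgi41) (kgi xgi20 ygi42 zgi2) (kgi xgi17 ygi1 zgi33) (kgi xgi20 ygi17 zgi48)) (@D3.rec (fun _ => Pt) (kgi xgi20 ygi4 zgi51) (kgi xgi20 ygi42 zgi9) (kgi xgi20 ygi42 zgi13) (kgi xgi9 ygi6 zgi43) (kgi xgi17 ygi5 zgi50) (kgi xgi5 ygi58 zgi51) (kgi xgi11 ygi40 zgi16) (kgi xgi11 ygi40 zgi14) (kgi xgi20 ygi42 zgi21) (kgi xgi20 ygi42 zgi24) (kgi xgi9 ygi47 zgi57) (kgi xgi18 ygi43 zgi28) (kgi xgi9 ygi48 zgi33) (kgi xgi16 ygi48 zgi27) (kgi xgi20 ygi40 zgi31) (kgi xgi5 ygi58 zgi55) (kgi xgi11 ygi47 zgi37) (kgi xgi17 ygi58 zgi51) (kgi xgi11 ygi47 zgi36) (kgi xgi9 ygi48 zgi7) (kgi xgi11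 ygi10 zgi14) (kgi xgi20 ygi42 zgi36) (kgi xgi13 ygi43 zgi9) (kgi xgi14 ygi23 zgi34) (kgi xgi17 ygi18 zgi54) (kgi xgi5 ygi58 zgi61) (kgi xgi17 ygi17 zgi32) (kgi xgi5 ygi59 zgi0) (kgi xgi20 ygi41 zgi17) (kgi xgi20 ygi42 zgi53) (kgi xgi20 ygi41 zgi18) (kgi xgi9 ygi47 zgi40) (kgi xgi20 ygi42 zgi58) (kgi xgi14 ygi52 zgi48) (kgi xgi7 ygi32 zgi14) (kgi xgi20 ygi42 zgi57) (kgi xgi17 ygi12 zgi18) (kgi xgi5 ygi59 zgi3) (kgi xgi13 ygi5 zgi18) (kgi xgi20 ygi43 zgi10) (kgi xgi20 ygi41 zgi25) (kgi xgi13 ygi9 zgi57) (kgi xgi20 ygi39 zgi52) (kgi xgi17 ygi11 zgi22) (kgi xgi10 ygi59 zgi8) (kgi xgi20 ygi40 zgi4) (kgi xgi5 ygi59 zgi9) (kgi xgi20 ygi39 zgi49) (kgi xgi19 ygi37 zgi60) (kgi xgi20 ygi43 zgi29) (kgi xgi20 ygi41 zgi28) (kgi xgi20 ygi29 zgi13)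 (kgi xgi14 ygi51 zgi36) (kgi xgi17 ygi59 zgi4) (kgi xgi20 ygi43 zgi37) (kgi xgi5 ygi59 zgi12) (kgi xgi6 ygi6 zgi35) (kgi xgi16 ygi59 zgi22) (kgi xgi14 ygi51 zgi28) (kgi xgi19 ygi19 zgi49) (kgi xgi20 ygi43 zgi44) (kgi xgi9 ygi46 zgi21)) (@D3.rec (fun _ => Pt) (kgi xgi18 ygi1 zgi60) (kgi xgi19 ygi40 zgi22) (kgi xgi20 ygi43 zgi47) (kgi xgi18 ygi2 zgi1) (kgi xgi5 ygi59 zgi17) (kgi xgi17 ygi43 zgi11) (kgi xgi20 ygi43 zgi54) (kgi xgi17 ygi43 zgi14) (kgi xgi5 ygi59 zgi18) (kgi xgi20 ygi29 zgi11) (kgi xgi16 ygi59 zgi7) (kgi xgi14 ygi18 zgi30) (kgi xgi9 ygi50 zgi51) (kgi xgi6 ygi42 zgi25) (kgi xgi12 ygi31 zgi16) (kgi xgi11 ygi45 zgi56) (kgi xgi20 ygi44 zgi9) (kgi xgi5 ygi59 zgi22) (kgi xgi6 ygi43 zgi37) (kgi xgi20 ygi44 zgi16) (kgi xgi17 ygi17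 zgi53) (kgi xgi5 ygi59 zgi23) (kgi xgi6 ygi0 zgi52) (kgi xgi20 ygi44 zgi24) (kgi xgi6 ygi0 zgi49) (kgi xgi12 ygi45 zgi20) (kgi xgi6 ygi56 zgi43) (kgi xgi5 ygi59 zgi25) (kgi xgi6 ygi0 zgi61) (kgi xgi20 ygi44 zgi34) (kgi xgi6 ygi0 zgi58) (kgi xgi7 ygi1 zgi36) (kgi xgi17 ygi8 zgi23) (kgi xgi17 ygi7 zgi48) (kgi xgi6 ygi43 zgi29) (kgi xgi20 ygi44 zgi46) (kgi xgi13 ygi1 zgi50) (kgi xgi20 ygi13 zgi52) (kgi xgi6 ygi0 zgi22) (kgi xgi13 ygi55 zgi44) (kgi xgi12 ygi42 zgi56) (kgi xgi20 ygi44 zgi52) (kgi xgi13 ygi12 zgi13) (kgi xgi20 ygi44 zgi49) (kgi xgi5 ygi59 zgi35) (kgi xgi5 ygi59 zgi39) (kgi xgi9 ygi49 zgi49) (kgi xgi9 ygi9 zgi39) (kgi xgi14 ygi34 zgi56) (kgi xgi20 ygi44 zgi60) (kgi xgi9 ygi49 zgi48) (kgi xgi20 ygi45 zgi3) (kgi xgi9 ygi49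 zgi20) (kgi xgi10 ygi58 zgi52) (kgi xgi12 ygi30 zgi50) (kgi xgi17 ygi31 zgi59) (kgi xgi5 ygi59 zgi41) (kgi xgi17 ygi31 zgi46) (kgi xgi17 ygi13 zgi10) (kgi xgi5 ygi59 zgi43) (kgi xgi17 ygi19 zgi10) (kgi xgi14 ygi52 zgi50)) (@D3.rec (fun _ => Pt) (kgi xgi20 ygi17 zgi35) (kgi xgi9 ygi25 zgi31) (kgi xgi17 ygi31 zgi52) (kgi xgi6 ygi35 zgi43) (kgi xgi20 ygi44 zgi53) (kgi xgi20 ygi45 zgi13) (kgi xgi20 ygi45 zgi17) (kgi xgi5 ygi59 zgi50) (kgi xgi20 ygi45 zgi15) (kgi xgi20 ygi45 zgi24) (kgi xgi12 ygi42 zgi13) (kgi xgi11 ygi21 zgi30) (kgi xgi20 ygi45 zgi29) (kgi xgi5 ygi59 zgi53) (kgi xgi17 ygi31 zgi41) (kgi xgi7 ygi20 zgi60) (kgi xgi17 ygi31 zgi39) (kgi xgi11 ygi45 zgi25) (kgi xgi13 ygi6 zgi53) (kgi xgi5 ygi59 zgi55) (kgi xgi13 ygi6 zgi52)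 (kgi xgi20 ygi45 zgi44) (kgi xgi17 ygi31 zgi42) (kgi xgi5 ygi59 zgi57) (kgi xgi5 ygi59 zgi59) (kgi xgi19 ygi39 zgi57) (kgi xgi20 ygi45 zgi52) (kgi xgi11 ygi17 zgi52) (kgi xgi13 ygi54 zgi46) (kgi xgi19 ygi50 zgi5) (kgi xgi11 ygi39 zgi54) (kgi xgi7 ygi44 zgi56) (kgi xgi6 ygi0 zgi7) (kgi xgi6 ygi0 zgi5) (kgi xgi6 ygi0 zgi3) (kgi xgi12 ygi33 zgi7) (kgi xgi7 ygi36 zgi13) (kgi xgi20 ygi45 zgi60) (kgi xgi7 ygi45 zgi8) (kgi xgi7 ygi36 zgi35) (kgi xgi20 ygi46 zgi3) (kgi xgi17 ygi32 zgi25) (kgi xgi20 ygi46 zgi2) (kgi xgi14 ygi4 zgi41) (kgi xgi6 ygi1 zgi21) (kgi xgi7 ygi39 zgi39) (kgi xgi17 ygi21 zgi25) (kgi xgi10 ygi43 zgi61) (kgi xgi6 ygi0 zgi11) (kgi xgi11 ygi32 zgi19) (kgi xgi17 ygi19 zgi14) (kgi xgi6 ygi0 zgi12) (kgi xgi17 ygi31 zgi21)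 (kgi xgi20 ygi46 zgi12) (kgi xgi13 ygi24 zgi28) (kgi xgi17 ygi19 zgi11) (kgi xgi9 ygi25 zgi48) (kgi xgi14 ygi52 zgi34) (kgi xgi13 ygi5 zgi48) (kgi xgi20 ygi46 zgi15) (kgi xgi14 ygi52 zgi32) (kgi xgi6 ygi1 zgi8)) (@D3.rec (fun _ => Pt) (kgi xgi6 ygi0 zgi15) (kgi xgi14 ygi32 zgi29) (kgi xgi13 ygi9 zgi14) (kgi xgi13 ygi10 zgi39) (kgi xgi14 ygi11 zgi8) (kgi xgi6 ygi0 zgi18) (kgi xgi6 ygi0 zgi21) (kgi xgi17 ygi19 zgi43) (kgi xgi13 ygi10 zgi36) (kgi xgi10 ygi0 zgi17) (kgi xgi6 ygi8 zgi45) (kgi xgi9 ygi17 zgi13) (kgi xgi20 ygi46 zgi27) (kgi xgi6 ygi1 zgi4) (kgi xgi6 ygi0 zgi25) (kgi xgi19 ygi27 zgi58) (kgi xgi6 ygi34 zgi58) (kgi xgi6 ygi21 zgi27) (kgi xgi12 ygi36 zgi9) (kgi xgi14 ygi31 zgi43) (kgi xgi12 ygi15 zgi8) (kgi xgi7 ygi2 zgi11)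 (kgi xgi6 ygi0 zgi31) (kgi xgi7 ygi40 zgi54) (kgi xgi20 ygi46 zgi38) (kgi xgi6 ygi50 zgi35) (kgi xgi17 ygi11 zgi25) (kgi xgi14 ygi56 zgi38) (kgi xgi6 ygi0 zgi34) (kgi xgi17 ygi23 zgi29) (kgi xgi10 ygi20 zgi53) (kgi xgi6 ygi0 zgi35) (kgi xgi14 ygi32 zgi61) (kgi xgi20 ygi46 zgi50) (kgi xgi17 ygi23 zgi9) (kgi xgi12 ygi51 zgi31) (kgi xgi6 ygi0 zgi55) (kgi xgi17 ygi24 zgi0) (kgi xgi14 ygi20 zgi20) (kgi xgi17 ygi10 zgi0) (kgi xgi20 ygi46 zgi59) (kgi xgi6 ygi0 zgi42) (kgi xgi14 ygi35 zgi6) (kgi xgi14 ygi19 zgi30) (kgi xgi17 ygi22 zgi41) (kgi xgi6 ygi0 zgi43) (kgi xgi17 ygi23 zgi21) (kgi xgi20 ygi47 zgi9) (kgi xgi17 ygi23 zgi19) (kgi xgi6 ygi0 zgi44) (kgi xgi14 ygi52 zgi36) (kgi xgi14 ygi32 zgi30) (kgi xgi6 ygi0 zgi46) (kgi xgi13 ygi20 zgi38)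 (kgi xgi20 ygi47 zgi20) (kgi xgi17 ygi23 zgi39) (kgi xgi6 ygi0 zgi47) (kgi xgi11 ygi43 zgi15) (kgi xgi17 ygi23 zgi42) (kgi xgi18 ygi13 zgi53) (kgi xgi6 ygi0 zgi48) (kgi xgi18 ygi0 zgi45)) (@D3.rec (fun _ => Pt) (kgi xgi20 ygi47 zgi27) (kgi xgi18 ygi0 zgi46) (kgi xgi13 ygi20 zgi54) (kgi xgi17 ygi58 zgi7) (kgi xgi6 ygi57 zgi9) (kgi xgi20 ygi47 zgi39) (kgi xgi20 ygi47 zgi42) (kgi xgi20 ygi47 zgi36) (kgi xgi13 ygi20 zgi30) (kgi xgi6 ygi0 zgi51) (kgi xgi20 ygi44 zgi26) (kgi xgi20 ygi47 zgi54) (kgi xgi20 ygi44 zgi23) (kgi xgi6 ygi0 zgi53) (kgi xgi11 ygi37 zgi12) (kgi xgi18 ygi2 zgi7) (kgi xgi6 ygi0 zgi54) (kgi xgi6 ygi0 zgi57) (kgi xgi20 ygi48 zgi4) (kgi xgi20 ygi48 zgi7) (kgi xgi12 ygi45 zgi23) (kgi xgi20 ygi8 zgi38) (kgi xgi20 ygi48 zgi10)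 (kgi xgi20 ygi47 zgi60) (kgi xgi20 ygi48 zgi3) (kgi xgi12 ygi45 zgi24) (kgi xgi20 ygi48 zgi16) (kgi xgi13 ygi11 zgi10) (kgi xgi11 ygi43 zgi29) (kgi xgi20 ygi48 zgi8) (kgi xgi20 ygi48 zgi15) (kgi xgi13 ygi11 zgi7) (kgi xgi13 ygi11 zgi50) (kgi xgi6 ygi0 zgi60) (kgi xgi20 ygi16 zgi57) (kgi xgi20 ygi48 zgi29) (kgi xgi20 ygi16 zgi55) (kgi xgi11 ygi46 zgi28) (kgi xgi14 ygi41 zgi22) (kgi xgi12 ygi41 zgi6) (kgi xgi20 ygi48 zgi38) (kgi xgi12 ygi39 zgi47) (kgi xgi6 ygi1 zgi3) (kgi xgi14 ygi4 zgi43) (kgi xgi14 ygi4 zgi44) (kgi xgi6 ygi49 zgi52) (kgi xgi20 ygi23 zgi42) (kgi xgi20 ygi17 zgi18) (kgi xgi6 ygi1 zgi6) (kgi xgi17 ygi20 zgi53) (kgi xgi20 ygi48 zgi49) (kgi xgi12 ygi42 zgi31) (kgi xgi6 ygi1 zgi7) (kgi xgi6 ygi1 zgi22) (kgi xgi13 ygi12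 zgi3) (kgi xgi20 ygi48 zgi59) (kgi xgi7 ygi53 zgi4) (kgi xgi20 ygi48 zgi61) (kgi xgi20 ygi16 zgi52) (kgi xgi16 ygi47 zgi31) (kgi xgi20 ygi16 zgi54) (kgi xgi11 ygi18 zgi21)) (@D3.rec (fun _ => Pt) (kgi xgi6 ygi1 zgi11) (kgi xgi6 ygi1 zgi23) (kgi xgi20 ygi49 zgi8) (kgi xgi20 ygi15 zgi3) (kgi xgi16 ygi23 zgi57) (kgi xgi6 ygi8 zgi49) (kgi xgi11 ygi58 zgi5) (kgi xgi9 ygi50 zgi60) (kgi xgi20 ygi44 zgi40) (kgi xgi15 ygi4 zgi55) (kgi xgi11 ygi26 zgi3) (kgi xgi20 ygi49 zgi14) (kgi xgi20 ygi49 zgi18) (kgi xgi11 ygi26 zgi24) (kgi xgi6 ygi1 zgi19) (kgi xgi8 ygi50 zgi0) (kgi xgi12 ygi22 zgi22) (kgi xgi16 ygi51 zgi18) (kgi xgi6 ygi1 zgi46) (kgi xgi20 ygi44 zgi44) (kgi xgi20 ygi44 zgi43) (kgi xgi20 ygi49 zgi22) (kgi xgi13 ygi7 zgi32) (kgi xgi20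 ygi49 zgi24) (kgi xgi20 ygi17 zgi6) (kgi xgi20 ygi5 zgi33) (kgi xgi6 ygi1 zgi29) (kgi xgi20 ygi49 zgi28) (kgi xgi20 ygi49 zgi31) (kgi xgi20 ygi49 zgi33) (kgi xgi6 ygi1 zgi28) (kgi xgi20 ygi17 zgi58) (kgi xgi12 ygi18 zgi28) (kgi xgi20 ygi49 zgi40) (kgi xgi11 ygi32 zgi14) (kgi xgi11 ygi32 zgi0) (kgi xgi6 ygi1 zgi30) (kgi xgi11 ygi42 zgi15) (kgi xgi6 ygi1 zgi34) (kgi xgi20 ygi49 zgi48) (kgi xgi13 ygi43 zgi45) (kgi xgi20 ygi49 zgi54) (kgi xgi6 ygi1 zgi32) (kgi xgi6 ygi30 zgi55) (kgi xgi9 ygi6 zgi40) (kgi xgi10 ygi59 zgi41) (kgi xgi20 ygi50 zgi0) (kgi xgi16 ygi59 zgi11) (kgi xgi8 ygi57 zgi6) (kgi xgi6 ygi1 zgi35) (kgi xgi14 ygi4 zgi27) (kgi xgi20 ygi14 zgi59) (kgi xgi20 ygi50 zgi11) (kgi xgi20 ygi25 zgi53) (kgi xgi20 ygi49 zgi57) (kgi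 xgi20 ygi50 zgi16) (kgi xgi20 ygi42 zgi34) (kgi xgi19 ygi46 zgi36) (kgi xgi6 ygi1 zgi38) (kgi xgi20 ygi18 zgi8) (kgi xgi19 ygi26 zgi15) (kgi xgi20 ygi50 zgi31)) (@D3.rec (fun _ => Pt) (kgi xgi6 ygi1 zgi39) (kgi xgi11 ygi43 zgi12) (kgi xgi20 ygi50 zgi39) (kgi xgi9 ygi7 zgi30) (kgi xgi12 ygi44 zgi13) (kgi xgi20 ygi50 zgi41) (kgi xgi9 ygi48 zgi61) (kgi xgi17 ygi7 zgi42) (kgi xgi20 ygi50 zgi44) (kgi xgi20 ygi50 zgi46) (kgi xgi6 ygi12 zgi5) (kgi xgi11 ygi24 zgi56) (kgi xgi12 ygi14 zgi59) (kgi xgi10 ygi4 zgi32) (kgi xgi12 ygi34 zgi17) (kgi xgi11 ygi25 zgi49) (kgi xgi6 ygi1 zgi51) (kgi xgi15 ygi5 zgi24) (kgi xgi20 ygi50 zgi49) (kgi xgi6 ygi1 zgi53) (kgi xgi9 ygi46 zgi13) (kgi xgi6 ygi1 zgi54) (kgi xgi6 ygi1 zgi57) (kgi xgi14 ygi43 zgi55)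 (kgi xgi9 ygi4 zgi55) (kgi xgi20 ygi27 zgi51) (kgi xgi14 ygi43 zgi54) (kgi xgi20 ygi25 zgi44) (kgi xgi12 ygi9 zgi19) (kgi xgi17 ygi31 zgi27) (kgi xgi7 ygi34 zgi2) (kgi xgi9 ygi15 zgi42) (kgi xgi6 ygi1 zgi60) (kgi xgi19 ygi51 zgi47) (kgi xgi20 ygi30 zgi37) (kgi xgi20 ygi50 zgi43) (kgi xgi17 ygi4 zgi41) (kgi xgi20 ygi51 zgi7) (kgi xgi6 ygi2 zgi1) (kgi xgi20 ygi51 zgi12) (kgi xgi11 ygi1 zgi48) (kgi xgi11 ygi1 zgi55) (kgi xgi9 ygi1 zgi36) (kgi xgi11 ygi11 zgi50) (kgi xgi10 ygi48 zgi10) (kgi xgi6 ygi12 zgi31) (kgi xgi17 ygi59 zgi32) (kgi xgi9 ygi15 zgi36) (kgi xgi12 ygi27 zgi41) (kgi xgi17 ygi8 zgi12) (kgi xgi18 ygi17 zgi47) (kgi xgi6 ygi2 zgi26) (kgi xgi20 ygi51 zgi20) (kgi xgi6 ygi2 zgi23) (kgi xgi11 ygi35 zgi58) (kgi xgi17 ygi50 zgi32)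 (kgi xgi6 ygi2 zgi17) (kgi xgi6 ygi10 zgi32) (kgi xgi14 ygi11 zgi32) (kgi xgi20 ygi51 zgi27) (kgi xgi6 ygi36 zgi22) (kgi xgi18 ygi14 zgi6)) (@D3.rec (fun _ => Pt) (kgi xgi6 ygi24 zgi39) (kgi xgi13 ygi0 zgi58) (kgi xgi6 ygi39 zgi1) (kgi xgi6 ygi2 zgi22) (kgi xgi17 ygi51 zgi33) (kgi xgi6 ygi41 zgi14) (kgi xgi20 ygi51 zgi24) (kgi xgi8 ygi0 zgi32) (kgi xgi17 ygi33 zgi31) (kgi xgi20 ygi51 zgi38) (kgi xgi17 ygi8 zgi4) (kgi xgi6 ygi2 zgi25) (kgi xgi20 ygi51 zgi21) (kgi xgi17 ygi52 zgi32) (kgi xgi6 ygi2 zgi27) (kgi xgi9 ygi10 zgi58) (kgi xgi20 ygi51 zgi50) (kgi xgi6 ygi2 zgi28) (kgi xgi12 ygi2 zgi26) (kgi xgi16 ygi5 zgi55) (kgi xgi16 ygi13 zgi47) (kgi xgi12 ygi23 zgi23) (kgi xgi11 ygi58 zgi31) (kgi xgi10 ygi49 zgi11) (kgi xgi17 ygi4 zgi23)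 (kgi xgi6 ygi2 zgi36) (kgi xgi6 ygi44 zgi30) (kgi xgi12 ygi43 zgi6) (kgi xgi17 ygi3 zgi6) (kgi xgi10 ygi6 zgi43) (kgi xgi15 ygi5 zgi6) (kgi xgi17 ygi7 zgi61) (kgi xgi6 ygi45 zgi0) (kgi xgi9 ygi25 zgi15) (kgi xgi15 ygi5 zgi26) (kgi xgi6 ygi2 zgi46) (kgi xgi20 ygi51 zgi56) (kgi xgi17 ygi10 zgi3) (kgi xgi11 ygi39 zgi17) (kgi xgi8 ygi59 zgi32) (kgi xgi9 ygi5 zgi19) (kgi xgi9 ygi5 zgi33) (kgi xgi17 ygi53 zgi42) (kgi xgi11 ygi34 zgi52) (kgi xgi9 ygi5 zgi10) (kgi xgi17 ygi4 zgi35) (kgi xgi12 ygi7 zgi51) (kgi xgi11 ygi22 zgi3) (kgi xgi6 ygi2 zgi55) (kgi xgi17 ygi8 zgi22) (kgi xgi7 ygi3 zgi39) (kgi xgi9 ygi49 zgi28) (kgi xgi17 ygi6 zgi21) (kgi xgi6 ygi45 zgi43) (kgi xgi11 ygi34 zgi51) (kgi xgi17 ygi3 zgi54) (kgi xgi18 ygi1 zgi18) (kgi xgi6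 ygi16 zgi37) (kgi xgi17 ygi12 zgi60) (kgi xgi11 ygi27 zgi0) (kgi xgi6 ygi3 zgi6) (kgi xgi17 ygi8 zgi28)) (@D3.rec (fun _ => Pt) (kgi xgi17 ygi8 zgi26) (kgi xgi12 ygi40 zgi48) (kgi xgi20 ygi34 zgi41) (kgi xgi17 ygi8 zgi8) (kgi xgi9 ygi26 zgi41) (kgi xgi6 ygi35 zgi7) (kgi xgi11 ygi46 zgi14) (kgi xgi20 ygi35 zgi52) (kgi xgi6 ygi3 zgi12) (kgi xgi17 ygi8 zgi3) (kgi xgi20 ygi52 zgi21) (kgi xgi12 ygi21 zgi59) (kgi xgi20 ygi52 zgi24) (kgi xgi9 ygi5 zgi1) (kgi xgi20 ygi52 zgi23) (kgi xgi12 ygi54 zgi19) (kgi xgi6 ygi3 zgi15) (kgi xgi17 ygi8 zgi5) (kgi xgi19 ygi51 zgi14) (kgi xgi20 ygi20 zgi7) (kgi xgi16 ygi52 zgi14) (kgi xgi20 ygi52 zgi42) (kgi xgi17 ygi6 zgi41) (kgi xgi6 ygi45 zgi24) (kgi xgi6 ygi3 zgi19) (kgi xgi17 ygi7 zgi43) (kgi xgi6 ygi3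 zgi21) (kgi xgi11 ygi27 zgi48) (kgi xgi11 ygi27 zgi50) (kgi xgi10 ygi49 zgi35) (kgi xgi6 ygi26 zgi4) (kgi xgi6 ygi3 zgi24) (kgi xgi13 ygi42 zgi19) (kgi xgi20 ygi52 zgi49) (kgi xgi10 ygi49 zgi51) (kgi xgi10 ygi49 zgi49) (kgi xgi16 ygi51 zgi5) (kgi xgi11 ygi32 zgi13) (kgi xgi20 ygi52 zgi54) (kgi xgi6 ygi3 zgi28) (kgi xgi20 ygi30 zgi27) (kgi xgi20 ygi30 zgi25) (kgi xgi19 ygi11 zgi5) (kgi xgi6 ygi3 zgi31) (kgi xgi6 ygi56 zgi27) (kgi xgi20 ygi14 zgi35) (kgi xgi14 ygi9 zgi4) (kgi xgi14 ygi46 zgi55) (kgi xgi6 ygi3 zgi37) (kgi xgi12 ygi17 zgi20) (kgi xgi11 ygi31 zgi32) (kgi xgi16 ygi57 zgi16) (kgi xgi6 ygi3 zgi41) (kgi xgi20 ygi53 zgi4) (kgi xgi6 ygi3 zgi42) (kgi xgi20 ygi30 zgi32) (kgi xgi20 ygi30 zgi30) (kgi xgi6 ygi3 zgi43) (kgi xgi14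 ygi52 zgi39) (kgi xgi13 ygi46 zgi4) (kgi xgi20 ygi53 zgi15) (kgi xgi6 ygi3 zgi44)) (@D3.rec (fun _ => Pt) (kgi xgi10 ygi0 zgi32) (kgi xgi12 ygi43 zgi4) (kgi xgi11 ygi57 zgi53) (kgi xgi6 ygi3 zgi56) (kgi xgi10 ygi3 zgi5) (kgi xgi17 ygi8 zgi55) (kgi xgi6 ygi3 zgi48) (kgi xgi16 ygi59 zgi14) (kgi xgi7 ygi49 zgi38) (kgi xgi20 ygi53 zgi26) (kgi xgi15 ygi42 zgi42) (kgi xgi14 ygi45 zgi53) (kgi xgi20 ygi53 zgi30) (kgi xgi6 ygi3 zgi51) (kgi xgi17 ygi8 zgi48) (kgi xgi6 ygi3 zgi58) (kgi xgi6 ygi45 zgi36) (kgi xgi10 ygi53 zgi19) (kgi xgi12 ygi4 zgi6) (kgi xgi6 ygi3 zgi55) (kgi xgi17 ygi8 zgi57) (kgi xgi17 ygi8 zgi56) (kgi xgi20 ygi53 zgi40) (kgi xgi12 ygi36 zgi56) (kgi xgi10 ygi27 zgi43) (kgi xgi17 ygi8 zgi43) (kgi xgi6 ygi3 zgi57) (kgi xgi17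 ygi8 zgi52) (kgi xgi17 ygi8 zgi51) (kgi xgi20 ygi53 zgi47) (kgi xgi20 ygi53 zgi51) (kgi xgi11 ygi31 zgi45) (kgi xgi9 ygi11 zgi19) (kgi xgi20 ygi53 zgi50) (kgi xgi20 ygi53 zgi55) (kgi xgi17 ygi42 zgi22) (kgi xgi9 ygi14 zgi37) (kgi xgi6 ygi4 zgi0) (kgi xgi9 ygi14 zgi39) (kgi xgi20 ygi54 zgi6) (kgi xgi20 ygi54 zgi10) (kgi xgi6 ygi4 zgi1) (kgi xgi9 ygi31 zgi60) (kgi xgi20 ygi54 zgi13) (kgi xgi16 ygi58 zgi58) (kgi xgi20 ygi54 zgi18) (kgi xgi6 ygi4 zgi3) (kgi xgi16 ygi58 zgi41) (kgi xgi16 ygi59 zgi1) (kgi xgi17 ygi9 zgi2) (kgi xgi13 ygi9 zgi28) (kgi xgi20 ygi54 zgi30) (kgi xgi14 ygi20 zgi23) (kgi xgi6 ygi17 zgi12) (kgi xgi11 ygi8 zgi10) (kgi xgi20 ygi54 zgi34) (kgi xgi6 ygi4 zgi12) (kgi xgi9 ygi51 zgi10) (kgi xgi9 ygi51 zgi8) (kgi xgi11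 ygi26 zgi54) (kgi xgi20 ygi54 zgi38) (kgi xgi8 ygi32 zgi52)) (@D3.rec (fun _ => Pt) (kgi xgi16 ygi5 zgi11) (kgi xgi20 ygi54 zgi43) (kgi xgi8 ygi32 zgi59) (kgi xgi8 ygi22 zgi54) (kgi xgi20 ygi54 zgi50) (kgi xgi8 ygi34 zgi37) (kgi xgi6 ygi4 zgi21) (kgi xgi15 ygi43 zgi21) (kgi xgi15 ygi43 zgi19) (kgi xgi20 ygi54 zgi56) (kgi xgi6 ygi4 zgi22) (kgi xgi14 ygi46 zgi39) (kgi xgi6 ygi4 zgi23) (kgi xgi6 ygi4 zgi24) (kgi xgi20 ygi55 zgi0) (kgi xgi8 ygi38 zgi34) (kgi xgi10 ygi37 zgi11) (kgi xgi8 ygi53 zgi35) (kgi xgi6 ygi4 zgi25) (kgi xgi6 ygi4 zgi53) (kgi xgi20 ygi55 zgi7) (kgi xgi20 ygi55 zgi10) (kgi xgi6 ygi5 zgi1) (kgi xgi6 ygi4 zgi61) (kgi xgi20 ygi55 zgi15) (kgi xgi10 ygi29 zgi40) (kgi xgi20 ygi55 zgi13) (kgi xgi12 ygi54 zgi15) (kgi xgi10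 ygi37 zgi9) (kgi xgi10 ygi37 zgi3) (kgi xgi6 ygi4 zgi30) (kgi xgi20 ygi55 zgi24) (kgi xgi20 ygi55 zgi30) (kgi xgi20 ygi55 zgi37) (kgi xgi20 ygi55 zgi25) (kgi xgi6 ygi4 zgi31) (kgi xgi6 ygi5 zgi24) (kgi xgi20 ygi55 zgi45) (kgi xgi8 ygi55 zgi33) (kgi xgi8 ygi6 zgi40) (kgi xgi8 ygi13 zgi7) (kgi xgi17 ygi51 zgi34) (kgi xgi6 ygi4 zgi35) (kgi xgi11 ygi52 zgi46) (kgi xgi20 ygi55 zgi52) (kgi xgi15 ygi28 zgi12) (kgi xgi6 ygi4 zgi37) (kgi xgi11 ygi52 zgi42) (kgi xgi20 ygi55 zgi58) (kgi xgi19 ygi1 zgi5) (kgi xgi20 ygi56 zgi0) (kgi xgi8 ygi54 zgi4) (kgi xgi6 ygi4 zgi40) (kgi xgi6 ygi4 zgi51) (kgi xgi20 ygi56 zgi6) (kgi xgi6 ygi4 zgi41) (kgi xgi10 ygi40 zgi18) (kgi xgi20 ygi56 zgi13) (kgi xgi10 ygi40 zgi14) (kgi xgi15 ygi27 zgi48) (kgi xgi20 ygi56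 zgi14) (kgi xgi15 ygi41 zgi9)) (@D3.rec (fun _ => Pt) (kgi xgi11 ygi5 zgi2) (kgi xgi6 ygi4 zgi50) (kgi xgi20 ygi55 zgi1) (kgi xgi20 ygi54 zgi61) (kgi xgi20 ygi56 zgi23) (kgi xgi20 ygi56 zgi27) (kgi xgi6 ygi4 zgi52) (kgi xgi20 ygi56 zgi34) (kgi xgi19 ygi54 zgi57) (kgi xgi15 ygi28 zgi16) (kgi xgi20 ygi56 zgi36) (kgi xgi20 ygi56 zgi41) (kgi xgi6 ygi4 zgi57) (kgi xgi15 ygi36 zgi39) (kgi xgi15 ygi56 zgi5) (kgi xgi12 ygi54 zgi39) (kgi xgi8 ygi55 zgi37) (kgi xgi20 ygi56 zgi50) (kgi xgi6 ygi4 zgi60) (kgi xgi20 ygi55 zgi12) (kgi xgi20 ygi56 zgi57) (kgi xgi20 ygi55 zgi9) (kgi xgi6 ygi5 zgi11) (kgi xgi10 ygi47 zgi56) (kgi xgi20 ygi55 zgi20) (kgi xgi8 ygi34 zgi38) (kgi xgi6 ygi5 zgi2) (kgi xgi8 ygi6 zgi60) (kgi xgi8 ygi6 zgi58) (kgi xgi6 ygi5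 zgi3) (kgi xgi11 ygi53 zgi32) (kgi xgi20 ygi55 zgi6) (kgi xgi11 ygi53 zgi29) (kgi xgi17 ygi7 zgi8) (kgi xgi20 ygi57 zgi12) (kgi xgi6 ygi5 zgi5) (kgi xgi10 ygi37 zgi8) (kgi xgi16 ygi38 zgi13) (kgi xgi10 ygi37 zgi4) (kgi xgi6 ygi5 zgi14) (kgi xgi16 ygi35 zgi3) (kgi xgi20 ygi55 zgi23) (kgi xgi6 ygi5 zgi9) (kgi xgi11 ygi54 zgi1) (kgi xgi12 ygi54 zgi29) (kgi xgi20 ygi57 zgi31) (kgi xgi6 ygi5 zgi10) (kgi xgi20 ygi57 zgi36) (kgi xgi19 ygi32 zgi1) (kgi xgi10 ygi44 zgi26) (kgi xgi6 ygi5 zgi12) (kgi xgi20 ygi55 zgi16) (kgi xgi20 ygi55 zgi14) (kgi xgi20 ygi57 zgi45) (kgi xgi20 ygi57 zgi49) (kgi xgi16 ygi37 zgi30) (kgi xgi20 ygi57 zgi54) (kgi xgi16 ygi38 zgi23) (kgi xgi10 ygi37 zgi1) (kgi xgi6 ygi5 zgi15) (kgi xgi6 ygi5 zgi17) (kgi xgi20 ygi57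 zgi61)) (@D3.rec (fun _ => Pt) (kgi xgi10 ygi44 zgi14) (kgi xgi11 ygi53 zgi42) (kgi xgi20 ygi29 zgi57) (kgi xgi6 ygi5 zgi19) (kgi xgi12 ygi54 zgi33) (kgi xgi16 ygi55 zgi57) (kgi xgi20 ygi58 zgi6) (kgi xgi6 ygi5 zgi18) (kgi xgi20 ygi57 zgi58) (kgi xgi20 ygi58 zgi13) (kgi xgi20 ygi58 zgi18) (kgi xgi15 ygi27 zgi47) (kgi xgi20 ygi58 zgi21) (kgi xgi12 ygi54 zgi0) (kgi xgi20 ygi58 zgi23) (kgi xgi16 ygi41 zgi57) (kgi xgi20 ygi58 zgi29) (kgi xgi20 ygi58 zgi33) (kgi xgi20 ygi58 zgi36) (kgi xgi6 ygi5 zgi23) (kgi xgi20 ygi55 zgi46) (kgi xgi20 ygi55 zgi44) (kgi xgi16 ygi41 zgi43) (kgi xgi6 ygi5 zgi25) (kgi xgi8 ygi53 zgi15) (kgi xgi20 ygi58 zgi52) (kgi xgi8 ygi39 zgi29) (kgi xgi10 ygi37 zgi12) (kgi xgi8 ygi54 zgi46) (kgi xgi8 ygi54 zgi15) (kgi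 xgi10 ygi36 zgi60) (kgi xgi20 ygi59 zgi0) (kgi xgi18 ygi41 zgi56) (kgi xgi20 ygi59 zgi4) (kgi xgi6 ygi5 zgi30) (kgi xgi10 ygi43 zgi37) (kgi xgi9 ygi30 zgi58) (kgi xgi17 ygi32 zgi39) (kgi xgi20 ygi59 zgi13) (kgi xgi6 ygi5 zgi32) (kgi xgi15 ygi31 zgi15) (kgi xgi10 ygi56 zgi39) (kgi xgi15 ygi31 zgi12) (kgi xgi14 ygi34 zgi32) (kgi xgi18 ygi52 zgi28) (kgi xgi17 ygi34 zgi29) (kgi xgi20 ygi59 zgi24) (kgi xgi17 ygi32 zgi7) (kgi xgi11 ygi8 zgi16) (kgi xgi6 ygi46 zgi35) (kgi xgi17 ygi32 zgi6) (kgi xgi10 ygi43 zgi50) (kgi xgi6 ygi5 zgi40) (kgi xgi6 ygi50 zgi21) (kgi xgi15 ygi27 zgi43) (kgi xgi14 ygi14 zgi22) (kgi xgi10 ygi20 zgi40) (kgi xgi6 ygi5 zgi43) (kgi xgi19 ygi54 zgi26) (kgi xgi15 ygi50 zgi53) (kgi xgi20 ygi59 zgi37) (kgi xgi20 ygi59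 zgi40)) (@D3.rec (fun _ => Pt) (kgi xgi20 ygi59 zgi43) (kgi xgi10 ygi43 zgi1) (kgi xgi9 ygi31 zgi18) (kgi xgi19 ygi43 zgi41) (kgi xgi10 ygi47 zgi6) (kgi xgi6 ygi5 zgi49) (kgi xgi8 ygi28 zgi41) (kgi xgi9 ygi16 zgi18) (kgi xgi6 ygi5 zgi50) (kgi xgi20 ygi59 zgi60) (kgi xgi10 ygi46 zgi61) (kgi xgi10 ygi20 zgi25) (kgi xgi17 ygi33 zgi2) (kgi xgi17 ygi34 zgi28) (kgi xgi17 ygi33 zgi4) (kgi xgi20 ygi9 zgi20) (kgi xgi8 ygi56 zgi45) (kgi xgi6 ygi5 zgi56) (kgi xgi12 ygi54 zgi10) (kgi xgi10 ygi48 zgi35) (kgi xgi21 ygi0 zgi14) (kgi xgi8 ygi59 zgi47) (kgi xgi10 ygi44 zgi32) (kgi xgi17 ygi32 zgi9) (kgi xgi20 ygi17 zgi47) (kgi xgi21 ygi0 zgi20) (kgi xgi6 ygi6 zgi0) (kgi xgi15 ygi31 zgi27) (kgi xgi15 ygi57 zgi3) (kgi xgi10 ygi56 zgi40) (kgi xgi8 ygi2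 zgi48) (kgi xgi8 ygi16 zgi7) (kgi xgi8 ygi18 zgi56) (kgi xgi10 ygi33 zgi44) (kgi xgi8 ygi31 zgi4) (kgi xgi10 ygi50 zgi2) (kgi xgi20 ygi58 zgi1) (kgi xgi9 ygi31 zgi9) (kgi xgi8 ygi59 zgi50) (kgi xgi9 ygi30 zgi35) (kgi xgi9 ygi26 zgi13) (kgi xgi11 ygi32 zgi16) (kgi xgi6 ygi6 zgi8) (kgi xgi9 ygi48 zgi41) (kgi xgi19 ygi39 zgi46) (kgi xgi6 ygi12 zgi43) (kgi xgi9 ygi32 zgi12) (kgi xgi9 ygi6 zgi41) (kgi xgi10 ygi48 zgi21) (kgi xgi12 ygi40 zgi51) (kgi xgi10 ygi30 zgi39) (kgi xgi8 ygi22 zgi19) (kgi xgi6 ygi37 zgi34) (kgi xgi21 ygi0 zgi45) (kgi xgi21 ygi0 zgi48) (kgi xgi10 ygi46 zgi2) (kgi xgi10 ygi43 zgi60) (kgi xgi6 ygi46 zgi1) (kgi xgi19 ygi23 zgi57) (kgi xgi13 ygi22 zgi49) (kgi xgi13 ygi17 zgi35) (kgi xgi14 ygi23 zgi10)) (@D3.rec (fun _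 => Pt) (kgi xgi8 ygi28 zgi57) (kgi xgi10 ygi26 zgi38) (kgi xgi13 ygi45 zgi55) (kgi xgi9 ygi47 zgi20) (kgi xgi11 ygi33 zgi12) (kgi xgi8 ygi14 zgi29) (kgi xgi12 ygi55 zgi20) (kgi xgi10 ygi54 zgi53) (kgi xgi10 ygi34 zgi31) (kgi xgi21 ygi0 zgi60) (kgi xgi10 ygi45 zgi18) (kgi xgi9 ygi50 zgi40) (kgi xgi10 ygi45 zgi6) (kgi xgi6 ygi6 zgi33) (kgi xgi10 ygi45 zgi5) (kgi xgi21 ygi1 zgi3) (kgi xgi20 ygi43 zgi36) (kgi xgi20 ygi4 zgi50) (kgi xgi9 ygi20 zgi6) (kgi xgi16 ygi11 zgi32) (kgi xgi6 ygi6 zgi51) (kgi xgi6 ygi6 zgi39) (kgi xgi10 ygi44 zgi52) (kgi xgi21 ygi1 zgi14) (kgi xgi8 ygi59 zgi30) (kgi xgi6 ygi45 zgi8) (kgi xgi6 ygi6 zgi42) (kgi xgi6 ygi6 zgi44) (kgi xgi21 ygi1 zgi20) (kgi xgi21 ygi1 zgi23) (kgi xgi20 ygi38 zgi60) (kgi xgi10 ygi37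 zgi10) (kgi xgi12 ygi54 zgi31) (kgi xgi17 ygi3 zgi16) (kgi xgi11 ygi48 zgi47) (kgi xgi18 ygi50 zgi38) (kgi xgi17 ygi9 zgi57) (kgi xgi6 ygi6 zgi48) (kgi xgi17 ygi9 zgi38) (kgi xgi17 ygi4 zgi46) (kgi xgi20 ygi53 zgi58) (kgi xgi17 ygi2 zgi13) (kgi xgi6 ygi6 zgi50) (kgi xgi8 ygi58 zgi52) (kgi xgi9 ygi13 zgi37) (kgi xgi11 ygi33 zgi21) (kgi xgi18 ygi17 zgi9) (kgi xgi11 ygi49 zgi23) (kgi xgi21 ygi1 zgi42) (kgi xgi18 ygi33 zgi54) (kgi xgi21 ygi1 zgi46) (kgi xgi6 ygi6 zgi59) (kgi xgi15 ygi29 zgi50) (kgi xgi15 ygi29 zgi48) (kgi xgi18 ygi7 zgi60) (kgi xgi21 ygi1 zgi51) (kgi xgi21 ygi1 zgi54) (kgi xgi6 ygi6 zgi61) (kgi xgi15 ygi52 zgi40) (kgi xgi15 ygi54 zgi9) (kgi xgi15 ygi52 zgi37) (kgi xgi10 ygi19 zgi29)) (@D3.rec (fun _ => Pt) (kgi xgi15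 ygi9 zgi0) (kgi xgi15 ygi27 zgi44) (kgi xgi15 ygi16 zgi19) (kgi xgi8 ygi28 zgi36) (kgi xgi21 ygi2 zgi5) (kgi xgi16 ygi56 zgi18) (kgi xgi18 ygi41 zgi59) (kgi xgi17 ygi34 zgi36) (kgi xgi11 ygi52 zgi41) (kgi xgi8 ygi11 zgi14) (kgi xgi8 ygi11 zgi15) (kgi xgi12 ygi47 zgi46) (kgi xgi15 ygi25 zgi61) (kgi xgi6 ygi7 zgi12) (kgi xgi12 ygi54 zgi52) (kgi xgi15 ygi29 zgi38) (kgi xgi19 ygi56 zgi22) (kgi xgi11 ygi3 zgi46) (kgi xgi18 ygi19 zgi24) (kgi xgi6 ygi7 zgi14) (kgi xgi21 ygi2 zgi27) (kgi xgi10 ygi15 zgi59) (kgi xgi12 ygi54 zgi53) (kgi xgi9 ygi1 zgi9) (kgi xgi9 ygi1 zgi1) (kgi xgi6 ygi7 zgi19) (kgi xgi9 ygi15 zgi5) (kgi xgi11 ygi5 zgi57) (kgi xgi6 ygi7 zgi22) (kgi xgi8 ygi10 zgi54) (kgi xgi15 ygi32 zgi1) (kgi xgi8 ygi12 zgi41) (kgi xgi6 ygi51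 zgi16) (kgi xgi9 ygi43 zgi59) (kgi xgi8 ygi12 zgi16) (kgi xgi18 ygi24 zgi44) (kgi xgi10 ygi17 zgi57) (kgi xgi17 ygi9 zgi52) (kgi xgi8 ygi50 zgi3) (kgi xgi7 ygi57 zgi6) (kgi xgi21 ygi2 zgi41) (kgi xgi21 ygi2 zgi44) (kgi xgi10 ygi45 zgi34) (kgi xgi21 ygi2 zgi46) (kgi xgi10 ygi6 zgi56) (kgi xgi6 ygi7 zgi41) (kgi xgi18 ygi42 zgi19) (kgi xgi21 ygi2 zgi50) (kgi xgi9 ygi9 zgi34) (kgi xgi6 ygi7 zgi43) (kgi xgi14 ygi26 zgi43) (kgi xgi6 ygi7 zgi44) (kgi xgi18 ygi21 zgi11) (kgi xgi21 ygi2 zgi60) (kgi xgi6 ygi50 zgi5) (kgi xgi11 ygi54 zgi5) (kgi xgi6 ygi7 zgi57) (kgi xgi17 ygi9 zgi35) (kgi xgi15 ygi26 zgi16) (kgi xgi12 ygi30 zgi25) (kgi xgi18 ygi24 zgi13) (kgi xgi21 ygi3 zgi2)) (@D3.rec (fun _ => Pt) (kgi xgi7 ygi26 zgi51) (kgi xgi21 ygi3 zgi5)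 (kgi xgi20 ygi4 zgi31) (kgi xgi21 ygi3 zgi6) (kgi xgi12 ygi31 zgi7) (kgi xgi6 ygi8 zgi1) (kgi xgi18 ygi43 zgi43) (kgi xgi21 ygi3 zgi10) (kgi xgi6 ygi8 zgi3) (kgi xgi10 ygi45 zgi35) (kgi xgi10 ygi45 zgi40) (kgi xgi9 ygi48 zgi5) (kgi xgi19 ygi25 zgi8) (kgi xgi10 ygi7 zgi15) (kgi xgi8 ygi57 zgi21) (kgi xgi9 ygi48 zgi6) (kgi xgi18 ygi25 zgi59) (kgi xgi20 ygi23 zgi1) (kgi xgi20 ygi40 zgi22) (kgi xgi6 ygi8 zgi10) (kgi xgi20 ygi40 zgi24) (kgi xgi17 ygi6 zgi43) (kgi xgi11 ygi31 zgi7) (kgi xgi14 ygi27 zgi4) (kgi xgi14 ygi17 zgi49) (kgi xgi14 ygi10 zgi54) (kgi xgi8 ygi56 zgi10) (kgi xgi16 ygi59 zgi46) (kgi xgi17 ygi32 zgi42) (kgi xgi20 ygi27 zgi61) (kgi xgi20 ygi27 zgi60) (kgi xgi10 ygi6 zgi57) (kgi xgi6 ygi8 zgi22) (kgi xgi20 ygi26 zgi7) (kgi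 xgi12 ygi9 zgi33) (kgi xgi10 ygi4 zgi36) (kgi xgi12 ygi12 zgi11) (kgi xgi12 ygi9 zgi53) (kgi xgi21 ygi3 zgi22) (kgi xgi11 ygi14 zgi40) (kgi xgi20 ygi4 zgi30) (kgi xgi20 ygi46 zgi24) (kgi xgi6 ygi8 zgi36) (kgi xgi13 ygi16 zgi38) (kgi xgi21 ygi3 zgi26) (kgi xgi21 ygi3 zgi29) (kgi xgi6 ygi8 zgi38) (kgi xgi20 ygi40 zgi40) (kgi xgi21 ygi3 zgi35) (kgi xgi20 ygi31 zgi60) (kgi xgi7 ygi45 zgi10) (kgi xgi14 ygi32 zgi35) (kgi xgi20 ygi33 zgi36) (kgi xgi14 ygi32 zgi37) (kgi xgi20 ygi39 zgi51) (kgi xgi7 ygi43 zgi25) (kgi xgi20 ygi49 zgi34) (kgi xgi7 ygi42 zgi55) (kgi xgi9 ygi47 zgi42) (kgi xgi20 ygi40 zgi58) (kgi xgi10 ygi42 zgi30) (kgi xgi15 ygi5 zgi13)) (@D3.rec (fun _ => Pt) (kgi xgi17 ygi1 zgi27) (kgi xgi17 ygi18 zgi24) (kgi xgi20 ygi46 zgi20)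 (kgi xgi20 ygi41 zgi23) (kgi xgi12 ygi30 zgi52) (kgi xgi11 ygi40 zgi24) (kgi xgi15 ygi43 zgi42) (kgi xgi7 ygi20 zgi33) (kgi xgi20 ygi51 zgi42) (kgi xgi20 ygi35 zgi16) (kgi xgi6 ygi8 zgi59) (kgi xgi7 ygi32 zgi52) (kgi xgi9 ygi10 zgi14) (kgi xgi9 ygi32 zgi33) (kgi xgi6 ygi9 zgi4) (kgi xgi11 ygi23 zgi53) (kgi xgi9 ygi3 zgi2) (kgi xgi20 ygi15 zgi17) (kgi xgi18 ygi43 zgi53) (kgi xgi6 ygi9 zgi7) (kgi xgi11 ygi21 zgi26) (kgi xgi6 ygi9 zgi8) (kgi xgi20 ygi7 zgi1) (kgi xgi20 ygi6 zgi61) (kgi xgi16 ygi25 zgi33) (kgi xgi8 ygi35 zgi22) (kgi xgi6 ygi9 zgi10) (kgi xgi9 ygi0 zgi21) (kgi xgi9 ygi0 zgi19) (kgi xgi21 ygi4 zgi10) (kgi xgi21 ygi4 zgi12) (kgi xgi8 ygi49 zgi29) (kgi xgi16 ygi33 zgi44) (kgi xgi8 ygi45 zgi17) (kgi xgi6 ygi9 zgi13) (kgi xgi8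 ygi48 zgi39) (kgi xgi16 ygi26 zgi55) (kgi xgi8 ygi48 zgi36) (kgi xgi21 ygi4 zgi21) (kgi xgi13 ygi28 zgi32) (kgi xgi21 ygi4 zgi25) (kgi xgi13 ygi52 zgi28) (kgi xgi21 ygi4 zgi27) (kgi xgi6 ygi50 zgi58) (kgi xgi6 ygi50 zgi57) (kgi xgi12 ygi21 zgi48) (kgi xgi18 ygi8 zgi32) (kgi xgi13 ygi7 zgi7) (kgi xgi12 ygi19 zgi24) (kgi xgi12 ygi21 zgi47) (kgi xgi21 ygi4 zgi30) (kgi xgi12 ygi12 zgi4) (kgi xgi6 ygi9 zgi26) (kgi xgi16 ygi14 zgi39) (kgi xgi17 ygi35 zgi15) (kgi xgi21 ygi4 zgi35) (kgi xgi6 ygi9 zgi27) (kgi xgi6 ygi52 zgi42) (kgi xgi18 ygi16 zgi32) (kgi xgi21 ygi4 zgi41) (kgi xgi21 ygi4 zgi42) (kgi xgi12 ygi12 zgi5))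
def fi_g_12 : D2 → D3 → Pt := @D2.rec (fun _ => D3 → Pt) (@D3.rec (fun _ => Pt) (kgi xgi12 ygi26 zgi49) (kgi xgi13 ygi0 zgi17) (kgi xgi7 ygi31 zgi49) (kgi xgi6 ygi9 zgi31) (kgi xgi6 ygi28 zgi17) (kgi xgi6 ygi27 zgi51) (kgi xgi21 ygi4 zgi57) (kgi xgi17 ygi16 zgi56) (kgi xgi21 ygi4 zgi61) (kgi xgi10 ygi56 zgi28) (kgi xgi21 ygi5 zgi3) (kgi xgi12 ygi33 zgi31) (kgi xgi6 ygi9 zgi37) (kgi xgi21 ygi5 zgi7) (kgi xgi15 ygi46 zgi57) (kgi xgi21 ygi5 zgi13) (kgi xgi6 ygi9 zgi38) (kgi xgi6 ygi18 zgi41) (kgi xgi21 ygi5 zgi19) (kgi xgi17 ygi16 zgi54) (kgi xgi21 ygi5 zgi23) (kgi xgi6 ygi48 zgi30) (kgi xgi12 ygi21 zgi51) (kgi xgi12 ygi59 zgi37) (kgi xgi6 ygi9 zgi43) (kgi xgi12 ygi59 zgi14) (kgi xgi12 ygi59 zgi13) (kgi xgi21 ygi5 zgi32) (kgi xgi6 ygi9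 zgi44) (kgi xgi12 ygi0 zgi28) (kgi xgi19 ygi26 zgi3) (kgi xgi21 ygi5 zgi38) (kgi xgi12 ygi21 zgi52) (kgi xgi17 ygi14 zgi24) (kgi xgi21 ygi5 zgi37) (kgi xgi21 ygi5 zgi48) (kgi xgi6 ygi9 zgi48) (kgi xgi6 ygi10 zgi10) (kgi xgi18 ygi38 zgi2) (kgi xgi6 ygi11 zgi12) (kgi xgi12 ygi16 zgi44) (kgi xgi6 ygi11 zgi13) (kgi xgi6 ygi36 zgi33) (kgi xgi12 ygi16 zgi45) (kgi xgi21 ygi5 zgi56) (kgi xgi6 ygi18 zgi43) (kgi xgi6 ygi27 zgi53) (kgi xgi14 ygi54 zgi40) (kgi xgi12 ygi18 zgi46) (kgi xgi21 ygi6 zgi4) (kgi xgi21 ygi6 zgi7) (kgi xgi6 ygi41 zgi34) (kgi xgi6 ygi10 zgi1) (kgi xgi16 ygi6 zgi2) (kgi xgi21 ygi6 zgi15) (kgi xgi21 ygi6 zgi19) (kgi xgi21 ygi6 zgi10) (kgi xgi6 ygi10 zgi2) (kgi xgi6 ygi41 zgi36) (kgi xgi21 ygi6 zgi27) (kgi xgi21 ygi6 zgi30)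 (kgi xgi12 ygi21 zgi37)) (@D3.rec (fun _ => Pt) (kgi xgi21 ygi3 zgi57) (kgi xgi6 ygi10 zgi6) (kgi xgi8 ygi32 zgi46) (kgi xgi8 ygi33 zgi12) (kgi xgi21 ygi6 zgi41) (kgi xgi6 ygi10 zgi7) (kgi xgi12 ygi3 zgi22) (kgi xgi21 ygi6 zgi47) (kgi xgi21 ygi6 zgi49) (kgi xgi11 ygi35 zgi8) (kgi xgi6 ygi33 zgi19) (kgi xgi6 ygi34 zgi53) (kgi xgi12 ygi35 zgi11) (kgi xgi17 ygi3 zgi60) (kgi xgi7 ygi2 zgi6) (kgi xgi18 ygi37 zgi44) (kgi xgi11 ygi36 zgi58) (kgi xgi6 ygi10 zgi12) (kgi xgi10 ygi7 zgi1) (kgi xgi6 ygi11 zgi4) (kgi xgi6 ygi11 zgi1) (kgi xgi8 ygi24 zgi61) (kgi xgi6 ygi34 zgi60) (kgi xgi6 ygi49 zgi5) (kgi xgi12 ygi29 zgi39) (kgi xgi6 ygi11 zgi24) (kgi xgi6 ygi10 zgi38) (kgi xgi9 ygi56 zgi58) (kgi xgi6 ygi18 zgi15) (kgi xgi6 ygi10 zgi23) (kgi xgi6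 ygi33 zgi57) (kgi xgi21 ygi6 zgi61) (kgi xgi6 ygi10 zgi27) (kgi xgi6 ygi34 zgi52) (kgi xgi6 ygi34 zgi50) (kgi xgi6 ygi11 zgi29) (kgi xgi18 ygi50 zgi45) (kgi xgi21 ygi7 zgi0) (kgi xgi10 ygi5 zgi35) (kgi xgi6 ygi10 zgi33) (kgi xgi21 ygi7 zgi1) (kgi xgi17 ygi14 zgi37) (kgi xgi17 ygi3 zgi52) (kgi xgi21 ygi7 zgi9) (kgi xgi6 ygi34 zgi32) (kgi xgi6 ygi10 zgi35) (kgi xgi6 ygi33 zgi60) (kgi xgi21 ygi4 zgi52) (kgi xgi6 ygi34 zgi41) (kgi xgi14 ygi23 zgi29) (kgi xgi12 ygi38 zgi16) (kgi xgi6 ygi11 zgi8) (kgi xgi9 ygi7 zgi13) (kgi xgi7 ygi39 zgi34) (kgi xgi12 ygi31 zgi28) (kgi xgi6 ygi53 zgi7) (kgi xgi8 ygi48 zgi20) (kgi xgi12 ygi12 zgi44) (kgi xgi6 ygi10 zgi45) (kgi xgi6 ygi39 zgi43) (kgi xgi21 ygi7 zgi22) (kgi xgi6 ygi39 zgi40)) (@D3.rec (fun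 _ => Pt) (kgi xgi6 ygi28 zgi8) (kgi xgi6 ygi10 zgi47) (kgi xgi6 ygi47 zgi53) (kgi xgi6 ygi10 zgi48) (kgi xgi6 ygi39 zgi39) (kgi xgi21 ygi7 zgi30) (kgi xgi6 ygi39 zgi36) (kgi xgi6 ygi10 zgi49) (kgi xgi12 ygi35 zgi50) (kgi xgi17 ygi13 zgi15) (kgi xgi6 ygi10 zgi53) (kgi xgi21 ygi7 zgi34) (kgi xgi21 ygi7 zgi36) (kgi xgi21 ygi7 zgi38) (kgi xgi6 ygi10 zgi56) (kgi xgi9 ygi59 zgi35) (kgi xgi6 ygi10 zgi59) (kgi xgi21 ygi7 zgi41) (kgi xgi6 ygi10 zgi58) (kgi xgi21 ygi7 zgi40) (kgi xgi21 ygi7 zgi45) (kgi xgi11 ygi38 zgi56) (kgi xgi10 ygi2 zgi24) (kgi xgi20 ygi19 zgi60) (kgi xgi18 ygi35 zgi55) (kgi xgi18 ygi33 zgi2) (kgi xgi11 ygi49 zgi20) (kgi xgi9 ygi59 zgi58) (kgi xgi21 ygi7 zgi49) (kgi xgi21 ygi7 zgi50) (kgi xgi18 ygi39 zgi29) (kgi xgi12 ygi42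 zgi44) (kgi xgi6 ygi11 zgi3) (kgi xgi21 ygi7 zgi58) (kgi xgi7 ygi35 zgi41) (kgi xgi21 ygi8 zgi0) (kgi xgi6 ygi30 zgi1) (kgi xgi12 ygi13 zgi5) (kgi xgi6 ygi40 zgi35) (kgi xgi6 ygi32 zgi37) (kgi xgi6 ygi11 zgi10) (kgi xgi6 ygi37 zgi8) (kgi xgi6 ygi40 zgi32) (kgi xgi10 ygi0 zgi33) (kgi xgi6 ygi11 zgi15) (kgi xgi12 ygi42 zgi37) (kgi xgi12 ygi46 zgi12) (kgi xgi17 ygi29 zgi1) (kgi xgi6 ygi34 zgi46) (kgi xgi13 ygi9 zgi10) (kgi xgi6 ygi29 zgi29) (kgi xgi6 ygi36 zgi43) (kgi xgi12 ygi41 zgi36) (kgi xgi18 ygi43 zgi27) (kgi xgi6 ygi11 zgi20) (kgi xgi10 ygi2 zgi25) (kgi xgi12 ygi29 zgi37) (kgi xgi6 ygi34 zgi40) (kgi xgi12 ygi14 zgi53) (kgi xgi17 ygi0 zgi14) (kgi xgi9 ygi56 zgi3) (kgi xgi21 ygi8 zgi12)) (@D3.rec (fun _ => Pt) (kgi xgi10 ygi2 zgi28)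 (kgi xgi21 ygi8 zgi16) (kgi xgi6 ygi11 zgi31) (kgi xgi6 ygi36 zgi61) (kgi xgi6 ygi18 zgi30) (kgi xgi21 ygi1 zgi31) (kgi xgi6 ygi40 zgi46) (kgi xgi12 ygi25 zgi60) (kgi xgi12 ygi12 zgi30) (kgi xgi12 ygi16 zgi47) (kgi xgi12 ygi16 zgi48) (kgi xgi6 ygi32 zgi15) (kgi xgi20 ygi46 zgi32) (kgi xgi9 ygi18 zgi36) (kgi xgi6 ygi34 zgi37) (kgi xgi9 ygi18 zgi39) (kgi xgi6 ygi24 zgi4) (kgi xgi6 ygi11 zgi43) (kgi xgi12 ygi39 zgi0) (kgi xgi21 ygi8 zgi34) (kgi xgi16 ygi16 zgi37) (kgi xgi21 ygi8 zgi40) (kgi xgi12 ygi1 zgi5) (kgi xgi21 ygi8 zgi43) (kgi xgi21 ygi8 zgi45) (kgi xgi12 ygi36 zgi49) (kgi xgi6 ygi11 zgi48) (kgi xgi6 ygi41 zgi45) (kgi xgi6 ygi41 zgi43) (kgi xgi21 ygi8 zgi57) (kgi xgi16 ygi50 zgi39) (kgi xgi11 ygi21 zgi31) (kgi xgi12 ygi56 zgi50)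 (kgi xgi6 ygi11 zgi53) (kgi xgi6 ygi11 zgi57) (kgi xgi17 ygi19 zgi36) (kgi xgi11 ygi14 zgi38) (kgi xgi16 ygi7 zgi42) (kgi xgi21 ygi9 zgi3) (kgi xgi15 ygi50 zgi49) (kgi xgi21 ygi9 zgi10) (kgi xgi20 ygi11 zgi57) (kgi xgi6 ygi11 zgi61) (kgi xgi20 ygi11 zgi46) (kgi xgi21 ygi9 zgi18) (kgi xgi21 ygi9 zgi21) (kgi xgi20 ygi11 zgi43) (kgi xgi21 ygi9 zgi24) (kgi xgi6 ygi12 zgi2) (kgi xgi9 ygi4 zgi14) (kgi xgi21 ygi9 zgi28) (kgi xgi6 ygi12 zgi42) (kgi xgi6 ygi12 zgi4) (kgi xgi6 ygi12 zgi6) (kgi xgi17 ygi23 zgi18) (kgi xgi20 ygi5 zgi54) (kgi xgi11 ygi13 zgi6) (kgi xgi21 ygi9 zgi33) (kgi xgi11 ygi12 zgi36) (kgi xgi16 ygi53 zgi51) (kgi xgi21 ygi9 zgi35) (kgi xgi21 ygi9 zgi36)) (@D3.rec (fun _ => Pt) (kgi xgi9 ygi19 zgi57) (kgi xgi10 ygi44 zgi30)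 (kgi xgi11 ygi17 zgi44) (kgi xgi17 ygi34 zgi55) (kgi xgi6 ygi12 zgi13) (kgi xgi12 ygi55 zgi17) (kgi xgi11 ygi51 zgi16) (kgi xgi19 ygi48 zgi43) (kgi xgi6 ygi20 zgi14) (kgi xgi8 ygi25 zgi33) (kgi xgi6 ygi12 zgi16) (kgi xgi17 ygi33 zgi60) (kgi xgi17 ygi33 zgi61) (kgi xgi20 ygi40 zgi32) (kgi xgi6 ygi12 zgi27) (kgi xgi6 ygi12 zgi25) (kgi xgi21 ygi9 zgi47) (kgi xgi12 ygi29 zgi18) (kgi xgi9 ygi20 zgi17) (kgi xgi6 ygi32 zgi9) (kgi xgi6 ygi31 zgi42) (kgi xgi14 ygi4 zgi51) (kgi xgi17 ygi16 zgi36) (kgi xgi6 ygi12 zgi28) (kgi xgi11 ygi24 zgi29) (kgi xgi9 ygi17 zgi24) (kgi xgi20 ygi25 zgi46) (kgi xgi13 ygi9 zgi61) (kgi xgi9 ygi23 zgi33) (kgi xgi21 ygi9 zgi52) (kgi xgi12 ygi57 zgi29) (kgi xgi9 ygi23 zgi40) (kgi xgi17 ygi26 zgi55) (kgi xgi10 ygi42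 zgi38) (kgi xgi21 ygi9 zgi56) (kgi xgi12 ygi15 zgi39) (kgi xgi12 ygi15 zgi42) (kgi xgi6 ygi12 zgi40) (kgi xgi9 ygi1 zgi24) (kgi xgi9 ygi46 zgi36) (kgi xgi21 ygi9 zgi60) (kgi xgi6 ygi22 zgi18) (kgi xgi20 ygi34 zgi25) (kgi xgi9 ygi18 zgi30) (kgi xgi12 ygi42 zgi38) (kgi xgi6 ygi18 zgi54) (kgi xgi12 ygi15 zgi47) (kgi xgi12 ygi28 zgi36) (kgi xgi12 ygi15 zgi50) (kgi xgi6 ygi22 zgi16) (kgi xgi12 ygi42 zgi32) (kgi xgi12 ygi36 zgi47) (kgi xgi8 ygi23 zgi1) (kgi xgi21 ygi10 zgi5) (kgi xgi6 ygi12 zgi61) (kgi xgi21 ygi10 zgi0) (kgi xgi21 ygi9 zgi61) (kgi xgi17 ygi19 zgi40) (kgi xgi6 ygi13 zgi0) (kgi xgi21 ygi10 zgi10) (kgi xgi16 ygi6 zgi29) (kgi xgi12 ygi20 zgi51)) (@D3.rec (fun _ => Pt) (kgi xgi12 ygi20 zgi16) (kgi xgi21 ygi10 zgi13) (kgi xgi12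 ygi18 zgi12) (kgi xgi6 ygi13 zgi4) (kgi xgi11 ygi39 zgi18) (kgi xgi21 ygi10 zgi25) (kgi xgi6 ygi13 zgi7) (kgi xgi16 ygi27 zgi11) (kgi xgi21 ygi10 zgi31) (kgi xgi12 ygi8 zgi41) (kgi xgi21 ygi10 zgi36) (kgi xgi8 ygi48 zgi9) (kgi xgi6 ygi13 zgi40) (kgi xgi21 ygi10 zgi43) (kgi xgi12 ygi6 zgi6) (kgi xgi21 ygi10 zgi48) (kgi xgi6 ygi13 zgi10) (kgi xgi8 ygi45 zgi23) (kgi xgi21 ygi10 zgi55) (kgi xgi21 ygi10 zgi58) (kgi xgi6 ygi13 zgi12) (kgi xgi7 ygi56 zgi49) (kgi xgi11 ygi38 zgi6) (kgi xgi18 ygi2 zgi34) (kgi xgi21 ygi11 zgi4) (kgi xgi11 ygi38 zgi10) (kgi xgi7 ygi59 zgi54) (kgi xgi6 ygi13 zgi18) (kgi xgi6 ygi13 zgi28) (kgi xgi9 ygi44 zgi47) (kgi xgi6 ygi13 zgi25) (kgi xgi21 ygi11 zgi11) (kgi xgi9 ygi8 zgi59) (kgi xgi11 ygi51 zgi52) (kgi xgi9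 ygi6 zgi45) (kgi xgi14 ygi25 zgi35) (kgi xgi9 ygi8 zgi61) (kgi xgi21 ygi11 zgi20) (kgi xgi9 ygi8 zgi54) (kgi xgi9 ygi6 zgi39) (kgi xgi9 ygi8 zgi56) (kgi xgi10 ygi41 zgi22) (kgi xgi20 ygi29 zgi20) (kgi xgi21 ygi11 zgi28) (kgi xgi17 ygi0 zgi53) (kgi xgi17 ygi1 zgi42) (kgi xgi21 ygi11 zgi34) (kgi xgi6 ygi13 zgi29) (kgi xgi18 ygi2 zgi29) (kgi xgi18 ygi2 zgi30) (kgi xgi16 ygi25 zgi45) (kgi xgi21 ygi11 zgi38) (kgi xgi6 ygi13 zgi33) (kgi xgi16 ygi25 zgi15) (kgi xgi16 ygi25 zgi14) (kgi xgi21 ygi11 zgi46) (kgi xgi16 ygi24 zgi12) (kgi xgi16 ygi24 zgi39) (kgi xgi21 ygi11 zgi45) (kgi xgi6 ygi24 zgi49) (kgi xgi6 ygi13 zgi36) (kgi xgi15 ygi8 zgi27)) (@D3.rec (fun _ => Pt) (kgi xgi16 ygi32 zgi29) (kgi xgi15 ygi8 zgi24) (kgi xgi21 ygi12 zgi0) (kgi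 xgi16 ygi21 zgi2) (kgi xgi21 ygi12 zgi5) (kgi xgi21 ygi12 zgi8) (kgi xgi12 ygi5 zgi12) (kgi xgi8 ygi51 zgi44) (kgi xgi21 ygi12 zgi15) (kgi xgi7 ygi57 zgi8) (kgi xgi6 ygi13 zgi44) (kgi xgi11 ygi23 zgi32) (kgi xgi6 ygi14 zgi3) (kgi xgi8 ygi5 zgi5) (kgi xgi12 ygi23 zgi46) (kgi xgi7 ygi19 zgi14) (kgi xgi8 ygi50 zgi27) (kgi xgi8 ygi51 zgi30) (kgi xgi8 ygi46 zgi26) (kgi xgi8 ygi51 zgi14) (kgi xgi6 ygi13 zgi51) (kgi xgi7 ygi14 zgi50) (kgi xgi13 ygi50 zgi31) (kgi xgi14 ygi45 zgi9) (kgi xgi8 ygi51 zgi29) (kgi xgi21 ygi12 zgi26) (kgi xgi6 ygi13 zgi56) (kgi xgi16 ygi25 zgi13) (kgi xgi16 ygi25 zgi12) (kgi xgi17 ygi57 zgi6) (kgi xgi16 ygi24 zgi26) (kgi xgi17 ygi45 zgi40) (kgi xgi8 ygi46 zgi51) (kgi xgi16 ygi23 zgi42) (kgi xgi21 ygi12 zgi36) (kgi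 xgi16 ygi23 zgi40) (kgi xgi17 ygi54 zgi46) (kgi xgi11 ygi15 zgi34) (kgi xgi18 ygi21 zgi47) (kgi xgi6 ygi14 zgi1) (kgi xgi18 ygi11 zgi51) (kgi xgi12 ygi6 zgi39) (kgi xgi11 ygi23 zgi30) (kgi xgi21 ygi12 zgi47) (kgi xgi13 ygi41 zgi41) (kgi xgi8 ygi1 zgi5) (kgi xgi21 ygi12 zgi51) (kgi xgi16 ygi20 zgi58) (kgi xgi21 ygi12 zgi56) (kgi xgi16 ygi47 zgi18) (kgi xgi6 ygi14 zgi11) (kgi xgi20 ygi13 zgi61) (kgi xgi20 ygi13 zgi59) (kgi xgi8 ygi47 zgi2) (kgi xgi21 ygi13 zgi0) (kgi xgi21 ygi13 zgi2) (kgi xgi11 ygi37 zgi39) (kgi xgi12 ygi22 zgi42) (kgi xgi8 ygi47 zgi18) (kgi xgi9 ygi4 zgi40) (kgi xgi21 ygi13 zgi9) (kgi xgi19 ygi49 zgi4)) (@D3.rec (fun _ => Pt) (kgi xgi6 ygi14 zgi18) (kgi xgi21 ygi13 zgi10) (kgi xgi18 ygi58 zgi32) (kgi xgi21 ygi13 zgi8)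 (kgi xgi20 ygi7 zgi21) (kgi xgi21 ygi13 zgi16) (kgi xgi11 ygi34 zgi14) (kgi xgi12 ygi8 zgi6) (kgi xgi14 ygi59 zgi49) (kgi xgi6 ygi14 zgi24) (kgi xgi11 ygi23 zgi23) (kgi xgi9 ygi54 zgi51) (kgi xgi11 ygi23 zgi20) (kgi xgi6 ygi14 zgi27) (kgi xgi21 ygi13 zgi25) (kgi xgi21 ygi13 zgi27) (kgi xgi21 ygi13 zgi21) (kgi xgi11 ygi23 zgi14) (kgi xgi7 ygi56 zgi24) (kgi xgi11 ygi8 zgi20) (kgi xgi15 ygi3 zgi54) (kgi xgi11 ygi6 zgi50) (kgi xgi21 ygi13 zgi31) (kgi xgi11 ygi34 zgi10) (kgi xgi21 ygi13 zgi34) (kgi xgi11 ygi34 zgi7) (kgi xgi18 ygi23 zgi39) (kgi xgi14 ygi12 zgi33) (kgi xgi21 ygi13 zgi39) (kgi xgi6 ygi14 zgi38) (kgi xgi6 ygi14 zgi45) (kgi xgi6 ygi14 zgi42) (kgi xgi11 ygi6 zgi48) (kgi xgi9 ygi23 zgi39) (kgi xgi6 ygi14 zgi41) (kgi xgi21 ygi13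 zgi41) (kgi xgi21 ygi13 zgi48) (kgi xgi21 ygi13 zgi38) (kgi xgi11 ygi36 zgi19) (kgi xgi20 ygi31 zgi16) (kgi xgi21 ygi13 zgi57) (kgi xgi21 ygi13 zgi59) (kgi xgi17 ygi15 zgi25) (kgi xgi21 ygi13 zgi55) (kgi xgi13 ygi14 zgi17) (kgi xgi20 ygi31 zgi22) (kgi xgi6 ygi14 zgi44) (kgi xgi7 ygi17 zgi13) (kgi xgi7 ygi17 zgi11) (kgi xgi9 ygi8 zgi37) (kgi xgi8 ygi3 zgi31) (kgi xgi6 ygi14 zgi49) (kgi xgi7 ygi57 zgi15) (kgi xgi13 ygi28 zgi21) (kgi xgi20 ygi6 zgi22) (kgi xgi6 ygi14 zgi53) (kgi xgi14 ygi47 zgi19) (kgi xgi14 ygi45 zgi17) (kgi xgi8 ygi51 zgi23) (kgi xgi8 ygi47 zgi59) (kgi xgi7 ygi57 zgi30) (kgi xgi8 ygi49 zgi48)) (@D3.rec (fun _ => Pt) (kgi xgi8 ygi49 zgi50) (kgi xgi20 ygi0 zgi26) (kgi xgi21 ygi14 zgi19) (kgi xgi17 ygi34 zgi45) (kgi xgi14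 ygi44 zgi21) (kgi xgi6 ygi14 zgi54) (kgi xgi12 ygi7 zgi5) (kgi xgi16 ygi32 zgi17) (kgi xgi7 ygi23 zgi4) (kgi xgi12 ygi21 zgi57) (kgi xgi21 ygi14 zgi23) (kgi xgi21 ygi14 zgi16) (kgi xgi7 ygi23 zgi11) (kgi xgi13 ygi32 zgi30) (kgi xgi6 ygi14 zgi57) (kgi xgi7 ygi4 zgi25) (kgi xgi21 ygi14 zgi34) (kgi xgi7 ygi21 zgi52) (kgi xgi7 ygi17 zgi17) (kgi xgi7 ygi17 zgi8) (kgi xgi14 ygi31 zgi12) (kgi xgi15 ygi3 zgi47) (kgi xgi16 ygi22 zgi20) (kgi xgi6 ygi15 zgi1) (kgi xgi7 ygi14 zgi58) (kgi xgi7 ygi13 zgi0) (kgi xgi12 ygi5 zgi23) (kgi xgi13 ygi51 zgi33) (kgi xgi21 ygi14 zgi45) (kgi xgi6 ygi15 zgi5) (kgi xgi7 ygi16 zgi54) (kgi xgi16 ygi24 zgi8) (kgi xgi6 ygi15 zgi7) (kgi xgi7 ygi17 zgi20) (kgi xgi13 ygi28 zgi3) (kgi xgi9 ygi44 zgi39) (kgi xgi17 ygi57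 zgi15) (kgi xgi15 ygi13 zgi21) (kgi xgi7 ygi9 zgi16) (kgi xgi21 ygi14 zgi59) (kgi xgi7 ygi9 zgi17) (kgi xgi12 ygi5 zgi7) (kgi xgi6 ygi15 zgi14) (kgi xgi7 ygi56 zgi40) (kgi xgi11 ygi15 zgi28) (kgi xgi20 ygi8 zgi1) (kgi xgi21 ygi15 zgi5) (kgi xgi11 ygi12 zgi33) (kgi xgi17 ygi54 zgi34) (kgi xgi12 ygi22 zgi20) (kgi xgi10 ygi5 zgi29) (kgi xgi9 ygi45 zgi31) (kgi xgi9 ygi2 zgi23) (kgi xgi12 ygi9 zgi60) (kgi xgi9 ygi2 zgi24) (kgi xgi20 ygi18 zgi38) (kgi xgi9 ygi1 zgi25) (kgi xgi9 ygi2 zgi27) (kgi xgi20 ygi6 zgi51) (kgi xgi21 ygi15 zgi14) (kgi xgi6 ygi15 zgi34) (kgi xgi20 ygi6 zgi59)) (@D3.rec (fun _ => Pt) (kgi xgi20 ygi6 zgi58) (kgi xgi6 ygi15 zgi35) (kgi xgi11 ygi25 zgi20) (kgi xgi19 ygi59 zgi60) (kgi xgi11 ygi25 zgi19) (kgi xgi21 ygi15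 zgi21) (kgi xgi16 ygi51 zgi24) (kgi xgi20 ygi18 zgi11) (kgi xgi9 ygi24 zgi39) (kgi xgi21 ygi13 zgi17) (kgi xgi6 ygi15 zgi42) (kgi xgi17 ygi15 zgi41) (kgi xgi21 ygi15 zgi29) (kgi xgi17 ygi15 zgi38) (kgi xgi6 ygi15 zgi43) (kgi xgi17 ygi15 zgi43) (kgi xgi11 ygi13 zgi42) (kgi xgi7 ygi59 zgi25) (kgi xgi9 ygi8 zgi39) (kgi xgi11 ygi48 zgi10) (kgi xgi11 ygi22 zgi8) (kgi xgi6 ygi15 zgi49) (kgi xgi12 ygi9 zgi24) (kgi xgi6 ygi45 zgi44) (kgi xgi20 ygi32 zgi61) (kgi xgi7 ygi59 zgi27) (kgi xgi15 ygi5 zgi29) (kgi xgi9 ygi9 zgi26) (kgi xgi18 ygi26 zgi4) (kgi xgi11 ygi35 zgi10) (kgi xgi6 ygi50 zgi60) (kgi xgi19 ygi52 zgi46) (kgi xgi11 ygi58 zgi32) (kgi xgi9 ygi15 zgi31) (kgi xgi18 ygi45 zgi12) (kgi xgi6 ygi15 zgi60) (kgi xgi17 ygi15 zgi36) (kgi xgi21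 ygi15 zgi40) (kgi xgi17 ygi15 zgi33) (kgi xgi15 ygi4 zgi42) (kgi xgi15 ygi4 zgi43) (kgi xgi18 ygi23 zgi44) (kgi xgi7 ygi59 zgi61) (kgi xgi20 ygi22 zgi29) (kgi xgi6 ygi16 zgi4) (kgi xgi11 ygi28 zgi53) (kgi xgi11 ygi35 zgi3) (kgi xgi8 ygi0 zgi35) (kgi xgi9 ygi8 zgi46) (kgi xgi6 ygi30 zgi33) (kgi xgi11 ygi27 zgi8) (kgi xgi20 ygi22 zgi28) (kgi xgi11 ygi27 zgi18) (kgi xgi21 ygi15 zgi46) (kgi xgi12 ygi10 zgi59) (kgi xgi11 ygi0 zgi25) (kgi xgi19 ygi51 zgi16) (kgi xgi6 ygi16 zgi42) (kgi xgi6 ygi16 zgi38) (kgi xgi21 ygi11 zgi8) (kgi xgi14 ygi25 zgi34) (kgi xgi11 ygi1 zgi7)) (@D3.rec (fun _ => Pt) (kgi xgi21 ygi13 zgi11) (kgi xgi13 ygi54 zgi2) (kgi xgi20 ygi25 zgi30) (kgi xgi11 ygi32 zgi1) (kgi xgi12 ygi10 zgi57) (kgi xgi16 ygi45 zgi3) (kgi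 xgi9 ygi4 zgi49) (kgi xgi9 ygi0 zgi61) (kgi xgi11 ygi32 zgi2) (kgi xgi12 ygi32 zgi16) (kgi xgi7 ygi32 zgi7) (kgi xgi20 ygi25 zgi35) (kgi xgi19 ygi51 zgi15) (kgi xgi18 ygi42 zgi16) (kgi xgi10 ygi48 zgi29) (kgi xgi14 ygi41 zgi9) (kgi xgi20 ygi33 zgi22) (kgi xgi19 ygi48 zgi36) (kgi xgi7 ygi34 zgi7) (kgi xgi20 ygi52 zgi35) (kgi xgi9 ygi26 zgi23) (kgi xgi7 ygi34 zgi5) (kgi xgi21 ygi16 zgi0) (kgi xgi6 ygi16 zgi40) (kgi xgi17 ygi24 zgi36) (kgi xgi21 ygi16 zgi6) (kgi xgi12 ygi31 zgi33) (kgi xgi6 ygi16 zgi41) (kgi xgi7 ygi33 zgi59) (kgi xgi11 ygi27 zgi24) (kgi xgi6 ygi16 zgi43) (kgi xgi16 ygi54 zgi17) (kgi xgi21 ygi16 zgi12) (kgi xgi11 ygi5 zgi54) (kgi xgi12 ygi29 zgi57) (kgi xgi6 ygi16 zgi50) (kgi xgi11 ygi27 zgi53) (kgi xgi11 ygi27 zgi52)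 (kgi xgi6 ygi16 zgi51) (kgi xgi6 ygi16 zgi53) (kgi xgi8 ygi49 zgi39) (kgi xgi9 ygi10 zgi22) (kgi xgi11 ygi6 zgi24) (kgi xgi18 ygi21 zgi6) (kgi xgi12 ygi14 zgi61) (kgi xgi6 ygi25 zgi24) (kgi xgi6 ygi25 zgi26) (kgi xgi18 ygi42 zgi57) (kgi xgi19 ygi48 zgi52) (kgi xgi6 ygi16 zgi56) (kgi xgi17 ygi8 zgi1) (kgi xgi11 ygi35 zgi20) (kgi xgi11 ygi27 zgi59) (kgi xgi9 ygi2 zgi51) (kgi xgi16 ygi51 zgi53) (kgi xgi11 ygi25 zgi60) (kgi xgi21 ygi16 zgi15) (kgi xgi12 ygi9 zgi54) (kgi xgi11 ygi7 zgi29) (kgi xgi12 ygi10 zgi4) (kgi xgi15 ygi8 zgi15) (kgi xgi10 ygi52 zgi46)) (@D3.rec (fun _ => Pt) (kgi xgi11 ygi26 zgi48) (kgi xgi11 ygi22 zgi16) (kgi xgi6 ygi17 zgi11) (kgi xgi10 ygi52 zgi33) (kgi xgi11 ygi8 zgi0) (kgi xgi7 ygi31 zgi11) (kgi xgi6 ygi17 zgi19)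 (kgi xgi21 ygi16 zgi22) (kgi xgi12 ygi15 zgi58) (kgi xgi6 ygi17 zgi20) (kgi xgi9 ygi15 zgi61) (kgi xgi18 ygi57 zgi52) (kgi xgi6 ygi17 zgi21) (kgi xgi6 ygi17 zgi29) (kgi xgi17 ygi26 zgi28) (kgi xgi6 ygi17 zgi26) (kgi xgi9 ygi22 zgi10) (kgi xgi9 ygi24 zgi21) (kgi xgi21 ygi16 zgi35) (kgi xgi6 ygi17 zgi25) (kgi xgi17 ygi11 zgi31) (kgi xgi21 ygi16 zgi41) (kgi xgi17 ygi11 zgi28) (kgi xgi9 ygi28 zgi44) (kgi xgi14 ygi37 zgi15) (kgi xgi9 ygi28 zgi48) (kgi xgi9 ygi21 zgi35) (kgi xgi6 ygi17 zgi28) (kgi xgi21 ygi16 zgi32) (kgi xgi17 ygi28 zgi54) (kgi xgi13 ygi15 zgi14) (kgi xgi6 ygi29 zgi35) (kgi xgi6 ygi17 zgi31) (kgi xgi9 ygi22 zgi13) (kgi xgi9 ygi28 zgi37) (kgi xgi21 ygi16 zgi56) (kgi xgi9 ygi21 zgi27) (kgi xgi10 ygi51 zgi59) (kgi xgi6 ygi17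 zgi36) (kgi xgi12 ygi52 zgi11) (kgi xgi21 ygi17 zgi4) (kgi xgi21 ygi17 zgi8) (kgi xgi21 ygi17 zgi12) (kgi xgi17 ygi10 zgi28) (kgi xgi12 ygi52 zgi24) (kgi xgi21 ygi17 zgi18) (kgi xgi17 ygi27 zgi41) (kgi xgi21 ygi17 zgi23) (kgi xgi6 ygi23 zgi57) (kgi xgi16 ygi0 zgi29) (kgi xgi12 ygi21 zgi5) (kgi xgi9 ygi21 zgi17) (kgi xgi9 ygi28 zgi22) (kgi xgi9 ygi28 zgi20) (kgi xgi21 ygi17 zgi36) (kgi xgi6 ygi17 zgi45) (kgi xgi9 ygi21 zgi50) (kgi xgi21 ygi17 zgi43) (kgi xgi9 ygi24 zgi9) (kgi xgi12 ygi52 zgi26) (kgi xgi6 ygi38 zgi33) (kgi xgi6 ygi27 zgi48)) (@D3.rec (fun _ => Pt) (kgi xgi6 ygi30 zgi12) (kgi xgi6 ygi17 zgi50) (kgi xgi6 ygi21 zgi59) (kgi xgi21 ygi17 zgi49) (kgi xgi9 ygi18 zgi41) (kgi xgi14 ygi12 zgi10) (kgi xgi8 ygi35 zgi24) (kgi xgi6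 ygi17 zgi58) (kgi xgi12 ygi39 zgi27) (kgi xgi21 ygi17 zgi54) (kgi xgi21 ygi17 zgi51) (kgi xgi6 ygi17 zgi59) (kgi xgi12 ygi4 zgi58) (kgi xgi21 ygi17 zgi56) (kgi xgi21 ygi17 zgi57) (kgi xgi12 ygi59 zgi51) (kgi xgi12 ygi20 zgi14) (kgi xgi21 ygi4 zgi48) (kgi xgi17 ygi13 zgi59) (kgi xgi21 ygi18 zgi6) (kgi xgi12 ygi32 zgi50) (kgi xgi12 ygi32 zgi52) (kgi xgi6 ygi18 zgi7) (kgi xgi21 ygi18 zgi15) (kgi xgi21 ygi5 zgi60) (kgi xgi6 ygi18 zgi8) (kgi xgi9 ygi55 zgi32) (kgi xgi11 ygi59 zgi18) (kgi xgi12 ygi45 zgi61) (kgi xgi6 ygi18 zgi10) (kgi xgi12 ygi0 zgi43) (kgi xgi6 ygi18 zgi12) (kgi xgi21 ygi18 zgi23) (kgi xgi21 ygi18 zgi12) (kgi xgi6 ygi18 zgi13) (kgi xgi11 ygi24 zgi12) (kgi xgi21 ygi3 zgi25) (kgi xgi18 ygi32 zgi36) (kgi xgi11 ygi18 zgi30)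 (kgi xgi6 ygi59 zgi5) (kgi xgi12 ygi2 zgi40) (kgi xgi6 ygi59 zgi6) (kgi xgi21 ygi18 zgi30) (kgi xgi12 ygi18 zgi39) (kgi xgi11 ygi37 zgi43) (kgi xgi17 ygi30 zgi56) (kgi xgi6 ygi18 zgi23) (kgi xgi6 ygi34 zgi61) (kgi xgi6 ygi35 zgi4) (kgi xgi14 ygi4 zgi48) (kgi xgi21 ygi18 zgi38) (kgi xgi11 ygi18 zgi0) (kgi xgi21 ygi18 zgi42) (kgi xgi17 ygi59 zgi13) (kgi xgi20 ygi15 zgi8) (kgi xgi6 ygi18 zgi27) (kgi xgi21 ygi18 zgi28) (kgi xgi21 ygi18 zgi49) (kgi xgi20 ygi36 zgi24) (kgi xgi18 ygi50 zgi33) (kgi xgi6 ygi37 zgi2) (kgi xgi21 ygi17 zgi45)) (@D3.rec (fun _ => Pt) (kgi xgi6 ygi18 zgi32) (kgi xgi20 ygi40 zgi60) (kgi xgi9 ygi28 zgi56) (kgi xgi6 ygi18 zgi33) (kgi xgi9 ygi28 zgi59) (kgi xgi12 ygi1 zgi51) (kgi xgi12 ygi36 zgi48) (kgi xgi9 ygi18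 zgi56) (kgi xgi6 ygi37 zgi15) (kgi xgi8 ygi23 zgi27) (kgi xgi21 ygi18 zgi61) (kgi xgi21 ygi19 zgi1) (kgi xgi21 ygi19 zgi3) (kgi xgi21 ygi18 zgi22) (kgi xgi8 ygi34 zgi7) (kgi xgi6 ygi18 zgi42) (kgi xgi8 ygi25 zgi0) (kgi xgi21 ygi19 zgi8) (kgi xgi12 ygi33 zgi6) (kgi xgi12 ygi40 zgi15) (kgi xgi21 ygi19 zgi14) (kgi xgi13 ygi37 zgi46) (kgi xgi6 ygi22 zgi38) (kgi xgi6 ygi18 zgi47) (kgi xgi12 ygi27 zgi13) (kgi xgi12 ygi27 zgi11) (kgi xgi13 ygi55 zgi60) (kgi xgi6 ygi18 zgi48) (kgi xgi12 ygi13 zgi29) (kgi xgi12 ygi13 zgi27) (kgi xgi21 ygi19 zgi30) (kgi xgi12 ygi26 zgi20) (kgi xgi12 ygi27 zgi47) (kgi xgi6 ygi18 zgi53) (kgi xgi21 ygi19 zgi33) (kgi xgi21 ygi19 zgi36) (kgi xgi21 ygi19 zgi40) (kgi xgi18 ygi26 zgi18) (kgi xgi12 ygi11 zgi61) (kgi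 xgi21 ygi19 zgi43) (kgi xgi21 ygi19 zgi44) (kgi xgi17 ygi13 zgi37) (kgi xgi12 ygi20 zgi27) (kgi xgi11 ygi19 zgi36) (kgi xgi6 ygi18 zgi59) (kgi xgi21 ygi19 zgi55) (kgi xgi14 ygi5 zgi7) (kgi xgi6 ygi23 zgi58) (kgi xgi6 ygi18 zgi61) (kgi xgi6 ygi22 zgi49) (kgi xgi21 ygi19 zgi61) (kgi xgi14 ygi4 zgi24) (kgi xgi11 ygi24 zgi44) (kgi xgi6 ygi27 zgi5) (kgi xgi6 ygi23 zgi17) (kgi xgi6 ygi47 zgi56) (kgi xgi12 ygi28 zgi32) (kgi xgi12 ygi14 zgi29) (kgi xgi12 ygi15 zgi45) (kgi xgi12 ygi28 zgi34) (kgi xgi9 ygi24 zgi27) (kgi xgi12 ygi0 zgi9)) (@D3.rec (fun _ => Pt) (kgi xgi6 ygi25 zgi15) (kgi xgi18 ygi38 zgi1) (kgi xgi21 ygi20 zgi6) (kgi xgi12 ygi27 zgi49) (kgi xgi6 ygi19 zgi21) (kgi xgi12 ygi28 zgi14) (kgi xgi10 ygi53 zgi18) (kgi xgi12 ygi27 zgi45)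 (kgi xgi12 ygi28 zgi41) (kgi xgi6 ygi19 zgi28) (kgi xgi12 ygi42 zgi29) (kgi xgi12 ygi45 zgi4) (kgi xgi12 ygi42 zgi27) (kgi xgi12 ygi43 zgi26) (kgi xgi6 ygi47 zgi48) (kgi xgi12 ygi28 zgi44) (kgi xgi21 ygi20 zgi15) (kgi xgi12 ygi15 zgi16) (kgi xgi14 ygi14 zgi20) (kgi xgi17 ygi33 zgi21) (kgi xgi18 ygi0 zgi15) (kgi xgi6 ygi19 zgi37) (kgi xgi11 ygi38 zgi44) (kgi xgi6 ygi20 zgi27) (kgi xgi9 ygi57 zgi15) (kgi xgi6 ygi20 zgi24) (kgi xgi17 ygi3 zgi11) (kgi xgi21 ygi20 zgi25) (kgi xgi6 ygi19 zgi41) (kgi xgi12 ygi13 zgi58) (kgi xgi12 ygi42 zgi14) (kgi xgi6 ygi19 zgi49) (kgi xgi17 ygi10 zgi21) (kgi xgi20 ygi51 zgi51) (kgi xgi12 ygi40 zgi42) (kgi xgi11 ygi11 zgi0) (kgi xgi6 ygi19 zgi53) (kgi xgi12 ygi40 zgi50) (kgi xgi6 ygi19 zgi57) (kgi xgi7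 ygi38 zgi24) (kgi xgi14 ygi16 zgi47) (kgi xgi17 ygi25 zgi22) (kgi xgi12 ygi4 zgi30) (kgi xgi12 ygi37 zgi47) (kgi xgi6 ygi20 zgi48) (kgi xgi6 ygi20 zgi0) (kgi xgi12 ygi38 zgi3) (kgi xgi21 ygi20 zgi35) (kgi xgi6 ygi20 zgi1) (kgi xgi9 ygi32 zgi50) (kgi xgi12 ygi44 zgi5) (kgi xgi6 ygi20 zgi3) (kgi xgi12 ygi21 zgi50) (kgi xgi12 ygi14 zgi14) (kgi xgi17 ygi7 zgi27) (kgi xgi6 ygi20 zgi30) (kgi xgi17 ygi3 zgi15) (kgi xgi14 ygi11 zgi30) (kgi xgi21 ygi20 zgi26) (kgi xgi8 ygi0 zgi33) (kgi xgi14 ygi14 zgi18) (kgi xgi12 ygi10 zgi41)) (@D3.rec (fun _ => Pt) (kgi xgi6 ygi20 zgi12) (kgi xgi17 ygi15 zgi57) (kgi xgi18 ygi25 zgi4) (kgi xgi6 ygi20 zgi13) (kgi xgi12 ygi58 zgi41) (kgi xgi20 ygi25 zgi37) (kgi xgi17 ygi3 zgi9) (kgi xgi17 ygi15 zgi48) (kgi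 xgi11 ygi45 zgi18) (kgi xgi6 ygi20 zgi31) (kgi xgi11 ygi25 zgi48) (kgi xgi10 ygi5 zgi38) (kgi xgi6 ygi20 zgi18) (kgi xgi9 ygi32 zgi53) (kgi xgi6 ygi20 zgi19) (kgi xgi12 ygi19 zgi42) (kgi xgi12 ygi13 zgi55) (kgi xgi17 ygi59 zgi18) (kgi xgi6 ygi20 zgi22) (kgi xgi11 ygi51 zgi25) (kgi xgi12 ygi28 zgi26) (kgi xgi14 ygi11 zgi14) (kgi xgi9 ygi24 zgi32) (kgi xgi10 ygi18 zgi21) (kgi xgi18 ygi0 zgi13) (kgi xgi6 ygi20 zgi26) (kgi xgi15 ygi46 zgi24) (kgi xgi6 ygi20 zgi28) (kgi xgi14 ygi11 zgi15) (kgi xgi20 ygi33 zgi0) (kgi xgi10 ygi5 zgi37) (kgi xgi21 ygi20 zgi24) (kgi xgi21 ygi20 zgi23) (kgi xgi17 ygi5 zgi51) (kgi xgi8 ygi55 zgi28) (kgi xgi21 ygi20 zgi41) (kgi xgi9 ygi18 zgi43) (kgi xgi21 ygi20 zgi53) (kgi xgi10 ygi53 zgi22) (kgi xgi19 ygi5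 zgi2) (kgi xgi6 ygi20 zgi39) (kgi xgi10 ygi53 zgi24) (kgi xgi21 ygi16 zgi33) (kgi xgi21 ygi19 zgi41) (kgi xgi6 ygi20 zgi42) (kgi xgi12 ygi13 zgi57) (kgi xgi13 ygi18 zgi32) (kgi xgi12 ygi33 zgi49) (kgi xgi6 ygi20 zgi47) (kgi xgi17 ygi10 zgi10) (kgi xgi12 ygi33 zgi50) (kgi xgi12 ygi45 zgi53) (kgi xgi17 ygi50 zgi27) (kgi xgi8 ygi23 zgi26) (kgi xgi9 ygi28 zgi33) (kgi xgi12 ygi16 zgi30) (kgi xgi6 ygi48 zgi13) (kgi xgi15 ygi47 zgi19) (kgi xgi12 ygi11 zgi46) (kgi xgi21 ygi5 zgi15) (kgi xgi6 ygi20 zgi56) (kgi xgi13 ygi15 zgi16)) (@D3.rec (fun _ => Pt) (kgi xgi10 ygi27 zgi22) (kgi xgi12 ygi11 zgi43) (kgi xgi17 ygi12 zgi6) (kgi xgi6 ygi20 zgi60) (kgi xgi17 ygi18 zgi10) (kgi xgi12 ygi26 zgi52) (kgi xgi8 ygi1 zgi31) (kgi xgi8 ygi31 zgi32) (kgi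 xgi6 ygi21 zgi4) (kgi xgi9 ygi47 zgi18) (kgi xgi18 ygi36 zgi16) (kgi xgi6 ygi21 zgi6) (kgi xgi6 ygi21 zgi17) (kgi xgi12 ygi41 zgi52) (kgi xgi6 ygi21 zgi7) (kgi xgi12 ygi38 zgi39) (kgi xgi12 ygi38 zgi37) (kgi xgi21 ygi21 zgi17) (kgi xgi6 ygi21 zgi9) (kgi xgi21 ygi21 zgi14) (kgi xgi21 ygi21 zgi23) (kgi xgi21 ygi21 zgi13) (kgi xgi6 ygi21 zgi10) (kgi xgi12 ygi36 zgi61) (kgi xgi21 ygi21 zgi33) (kgi xgi12 ygi52 zgi22) (kgi xgi17 ygi22 zgi59) (kgi xgi6 ygi38 zgi47) (kgi xgi6 ygi38 zgi5) (kgi xgi7 ygi48 zgi52) (kgi xgi9 ygi21 zgi56) (kgi xgi6 ygi38 zgi0) (kgi xgi15 ygi46 zgi18) (kgi xgi6 ygi38 zgi4) (kgi xgi6 ygi21 zgi16) (kgi xgi13 ygi15 zgi56) (kgi xgi13 ygi53 zgi18) (kgi xgi12 ygi37 zgi8) (kgi xgi12 ygi41 zgi51) (kgi xgi6 ygi21 zgi19)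 (kgi xgi14 ygi54 zgi32) (kgi xgi10 ygi0 zgi4) (kgi xgi17 ygi58 zgi48) (kgi xgi12 ygi38 zgi60) (kgi xgi12 ygi2 zgi43) (kgi xgi12 ygi3 zgi8) (kgi xgi17 ygi10 zgi1) (kgi xgi12 ygi3 zgi13) (kgi xgi12 ygi3 zgi15) (kgi xgi18 ygi0 zgi11) (kgi xgi12 ygi38 zgi54) (kgi xgi12 ygi16 zgi49) (kgi xgi21 ygi22 zgi8) (kgi xgi12 ygi38 zgi53) (kgi xgi21 ygi8 zgi4) (kgi xgi21 ygi22 zgi14) (kgi xgi17 ygi30 zgi51) (kgi xgi6 ygi22 zgi0) (kgi xgi16 ygi5 zgi1) (kgi xgi6 ygi21 zgi32) (kgi xgi15 ygi42 zgi37) (kgi xgi21 ygi22 zgi20)) (@D3.rec (fun _ => Pt) (kgi xgi12 ygi39 zgi3) (kgi xgi6 ygi40 zgi20) (kgi xgi12 ygi43 zgi29) (kgi xgi9 ygi49 zgi34) (kgi xgi9 ygi6 zgi3) (kgi xgi11 ygi29 zgi2) (kgi xgi12 ygi29 zgi48) (kgi xgi6 ygi21 zgi38) (kgi xgi7 ygi53 zgi6)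 (kgi xgi21 ygi22 zgi27) (kgi xgi9 ygi18 zgi45) (kgi xgi21 ygi7 zgi17) (kgi xgi6 ygi42 zgi61) (kgi xgi21 ygi22 zgi35) (kgi xgi6 ygi42 zgi59) (kgi xgi6 ygi21 zgi46) (kgi xgi17 ygi13 zgi55) (kgi xgi17 ygi13 zgi53) (kgi xgi21 ygi19 zgi52) (kgi xgi20 ygi12 zgi51) (kgi xgi11 ygi50 zgi48) (kgi xgi11 ygi38 zgi36) (kgi xgi11 ygi46 zgi45) (kgi xgi12 ygi31 zgi24) (kgi xgi21 ygi22 zgi50) (kgi xgi12 ygi4 zgi43) (kgi xgi6 ygi22 zgi50) (kgi xgi6 ygi29 zgi45) (kgi xgi20 ygi22 zgi30) (kgi xgi9 ygi50 zgi25) (kgi xgi11 ygi28 zgi52) (kgi xgi11 ygi28 zgi55) (kgi xgi15 ygi48 zgi56) (kgi xgi6 ygi22 zgi58) (kgi xgi17 ygi20 zgi40) (kgi xgi12 ygi49 zgi46) (kgi xgi13 ygi1 zgi11) (kgi xgi21 ygi22 zgi58) (kgi xgi17 ygi45 zgi27) (kgi xgi13 ygi13 zgi31) (kgi xgi6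 ygi21 zgi60) (kgi xgi6 ygi41 zgi58) (kgi xgi12 ygi50 zgi1) (kgi xgi9 ygi5 zgi60) (kgi xgi9 ygi15 zgi41) (kgi xgi9 ygi49 zgi27) (kgi xgi8 ygi0 zgi47) (kgi xgi13 ygi1 zgi42) (kgi xgi9 ygi6 zgi2) (kgi xgi6 ygi22 zgi7) (kgi xgi17 ygi13 zgi46) (kgi xgi17 ygi13 zgi44) (kgi xgi21 ygi23 zgi14) (kgi xgi8 ygi39 zgi53) (kgi xgi21 ygi23 zgi10) (kgi xgi12 ygi27 zgi8) (kgi xgi21 ygi19 zgi23) (kgi xgi21 ygi8 zgi26) (kgi xgi11 ygi19 zgi38) (kgi xgi21 ygi23 zgi22) (kgi xgi6 ygi22 zgi14) (kgi xgi21 ygi23 zgi25)) (@D3.rec (fun _ => Pt) (kgi xgi20 ygi27 zgi47) (kgi xgi6 ygi22 zgi17) (kgi xgi12 ygi50 zgi48) (kgi xgi12 ygi50 zgi47) (kgi xgi21 ygi23 zgi32) (kgi xgi6 ygi22 zgi19) (kgi xgi9 ygi33 zgi10) (kgi xgi21 ygi17 zgi33) (kgi xgi21 ygi23 zgi40) (kgi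 xgi6 ygi22 zgi20) (kgi xgi6 ygi22 zgi22) (kgi xgi13 ygi0 zgi12) (kgi xgi13 ygi0 zgi14) (kgi xgi20 ygi16 zgi6) (kgi xgi21 ygi23 zgi49) (kgi xgi15 ygi57 zgi6) (kgi xgi21 ygi23 zgi43) (kgi xgi12 ygi25 zgi9) (kgi xgi20 ygi13 zgi10) (kgi xgi21 ygi23 zgi54) (kgi xgi15 ygi48 zgi20) (kgi xgi6 ygi22 zgi26) (kgi xgi17 ygi41 zgi51) (kgi xgi21 ygi24 zgi6) (kgi xgi21 ygi24 zgi11) (kgi xgi21 ygi18 zgi4) (kgi xgi11 ygi31 zgi36) (kgi xgi21 ygi23 zgi46) (kgi xgi11 ygi20 zgi33) (kgi xgi6 ygi22 zgi30) (kgi xgi12 ygi56 zgi39) (kgi xgi11 ygi4 zgi40) (kgi xgi21 ygi24 zgi19) (kgi xgi12 ygi27 zgi7) (kgi xgi21 ygi24 zgi24) (kgi xgi21 ygi4 zgi55) (kgi xgi8 ygi21 zgi8) (kgi xgi12 ygi13 zgi16) (kgi xgi12 ygi13 zgi15) (kgi xgi6 ygi27 zgi58) (kgi xgi21 ygi24 zgi30)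 (kgi xgi12 ygi12 zgi43) (kgi xgi6 ygi22 zgi37) (kgi xgi17 ygi14 zgi16) (kgi xgi17 ygi14 zgi15) (kgi xgi21 ygi19 zgi22) (kgi xgi12 ygi13 zgi22) (kgi xgi21 ygi24 zgi43) (kgi xgi15 ygi48 zgi44) (kgi xgi21 ygi24 zgi47) (kgi xgi6 ygi27 zgi12) (kgi xgi12 ygi59 zgi0) (kgi xgi21 ygi24 zgi46) (kgi xgi21 ygi24 zgi53) (kgi xgi17 ygi13 zgi24) (kgi xgi6 ygi22 zgi42) (kgi xgi17 ygi13 zgi25) (kgi xgi18 ygi20 zgi56) (kgi xgi6 ygi27 zgi8) (kgi xgi21 ygi24 zgi60) (kgi xgi14 ygi9 zgi41) (kgi xgi8 ygi23 zgi12)) (@D3.rec (fun _ => Pt) (kgi xgi21 ygi25 zgi3) (kgi xgi12 ygi21 zgi49) (kgi xgi6 ygi22 zgi48) (kgi xgi6 ygi22 zgi56) (kgi xgi21 ygi25 zgi7) (kgi xgi14 ygi9 zgi54) (kgi xgi8 ygi21 zgi5) (kgi xgi17 ygi38 zgi9) (kgi xgi6 ygi27 zgi39) (kgi xgi18 ygi8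 zgi4) (kgi xgi7 ygi5 zgi25) (kgi xgi12 ygi58 zgi15) (kgi xgi6 ygi22 zgi53) (kgi xgi13 ygi37 zgi15) (kgi xgi13 ygi37 zgi13) (kgi xgi21 ygi25 zgi25) (kgi xgi18 ygi8 zgi14) (kgi xgi6 ygi22 zgi54) (kgi xgi7 ygi11 zgi28) (kgi xgi21 ygi25 zgi33) (kgi xgi6 ygi22 zgi55) (kgi xgi12 ygi58 zgi54) (kgi xgi10 ygi30 zgi15) (kgi xgi18 ygi7 zgi54) (kgi xgi19 ygi0 zgi42) (kgi xgi12 ygi20 zgi54) (kgi xgi11 ygi59 zgi48) (kgi xgi21 ygi25 zgi39) (kgi xgi21 ygi25 zgi41) (kgi xgi21 ygi25 zgi44) (kgi xgi12 ygi59 zgi29) (kgi xgi12 ygi59 zgi20) (kgi xgi12 ygi27 zgi30) (kgi xgi12 ygi52 zgi53) (kgi xgi21 ygi23 zgi7) (kgi xgi6 ygi23 zgi0) (kgi xgi21 ygi25 zgi52) (kgi xgi21 ygi25 zgi57) (kgi xgi21 ygi25 zgi50) (kgi xgi12 ygi59 zgi25) (kgi xgi21 ygi7 zgi27) (kgi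 xgi15 ygi48 zgi41) (kgi xgi12 ygi15 zgi14) (kgi xgi10 ygi5 zgi36) (kgi xgi16 ygi17 zgi34) (kgi xgi17 ygi30 zgi16) (kgi xgi6 ygi23 zgi9) (kgi xgi6 ygi23 zgi15) (kgi xgi16 ygi17 zgi0) (kgi xgi21 ygi26 zgi0) (kgi xgi6 ygi23 zgi12) (kgi xgi12 ygi26 zgi41) (kgi xgi12 ygi26 zgi39) (kgi xgi21 ygi26 zgi5) (kgi xgi21 ygi26 zgi7) (kgi xgi18 ygi29 zgi26) (kgi xgi6 ygi23 zgi14) (kgi xgi12 ygi50 zgi20) (kgi xgi17 ygi29 zgi57) (kgi xgi17 ygi27 zgi21) (kgi xgi9 ygi29 zgi28) (kgi xgi16 ygi6 zgi49)) (@D3.rec (fun _ => Pt) (kgi xgi9 ygi20 zgi7) (kgi xgi9 ygi29 zgi31) (kgi xgi21 ygi4 zgi47) (kgi xgi16 ygi16 zgi50) (kgi xgi21 ygi26 zgi19) (kgi xgi6 ygi23 zgi21) (kgi xgi21 ygi26 zgi21) (kgi xgi10 ygi13 zgi60) (kgi xgi21 ygi26 zgi18) (kgi xgi9 ygi33 zgi8)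 (kgi xgi8 ygi40 zgi4) (kgi xgi13 ygi0 zgi15) (kgi xgi12 ygi5 zgi0) (kgi xgi11 ygi59 zgi54) (kgi xgi17 ygi35 zgi31) (kgi xgi21 ygi26 zgi33) (kgi xgi13 ygi0 zgi16) (kgi xgi8 ygi40 zgi24) (kgi xgi10 ygi21 zgi8) (kgi xgi8 ygi16 zgi37) (kgi xgi21 ygi26 zgi35) (kgi xgi6 ygi47 zgi57) (kgi xgi6 ygi23 zgi30) (kgi xgi9 ygi38 zgi48) (kgi xgi9 ygi32 zgi52) (kgi xgi6 ygi23 zgi32) (kgi xgi20 ygi13 zgi8) (kgi xgi12 ygi13 zgi40) (kgi xgi6 ygi48 zgi52) (kgi xgi20 ygi27 zgi36) (kgi xgi21 ygi26 zgi42) (kgi xgi21 ygi19 zgi47) (kgi xgi16 ygi13 zgi54) (kgi xgi12 ygi58 zgi34) (kgi xgi18 ygi15 zgi12) (kgi xgi12 ygi58 zgi35) (kgi xgi6 ygi26 zgi22) (kgi xgi21 ygi26 zgi29) (kgi xgi21 ygi24 zgi58) (kgi xgi6 ygi23 zgi39) (kgi xgi13 ygi37 zgi47) (kgi xgi21 ygi26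 zgi46) (kgi xgi20 ygi23 zgi15) (kgi xgi6 ygi26 zgi24) (kgi xgi15 ygi49 zgi15) (kgi xgi6 ygi23 zgi40) (kgi xgi8 ygi37 zgi7) (kgi xgi15 ygi47 zgi48) (kgi xgi13 ygi37 zgi52) (kgi xgi21 ygi26 zgi61) (kgi xgi9 ygi33 zgi13) (kgi xgi13 ygi0 zgi27) (kgi xgi12 ygi24 zgi47) (kgi xgi6 ygi23 zgi46) (kgi xgi12 ygi19 zgi27) (kgi xgi9 ygi38 zgi2) (kgi xgi18 ygi15 zgi39) (kgi xgi21 ygi27 zgi2) (kgi xgi9 ygi28 zgi16) (kgi xgi21 ygi27 zgi7) (kgi xgi6 ygi43 zgi58) (kgi xgi15 ygi35 zgi56)) (@D3.rec (fun _ => Pt) (kgi xgi6 ygi23 zgi56) (kgi xgi17 ygi14 zgi45) (kgi xgi15 ygi33 zgi28) (kgi xgi21 ygi17 zgi32) (kgi xgi21 ygi27 zgi18) (kgi xgi12 ygi11 zgi48) (kgi xgi21 ygi27 zgi23) (kgi xgi12 ygi33 zgi23) (kgi xgi17 ygi16 zgi29) (kgi xgi21 ygi27 zgi26) (kgi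 xgi6 ygi27 zgi17) (kgi xgi6 ygi28 zgi0) (kgi xgi21 ygi27 zgi25) (kgi xgi15 ygi36 zgi56) (kgi xgi21 ygi21 zgi9) (kgi xgi6 ygi24 zgi0) (kgi xgi21 ygi21 zgi10) (kgi xgi18 ygi39 zgi28) (kgi xgi6 ygi43 zgi61) (kgi xgi21 ygi27 zgi44) (kgi xgi17 ygi14 zgi21) (kgi xgi6 ygi24 zgi11) (kgi xgi6 ygi24 zgi9) (kgi xgi21 ygi27 zgi50) (kgi xgi8 ygi21 zgi41) (kgi xgi6 ygi24 zgi6) (kgi xgi13 ygi37 zgi42) (kgi xgi13 ygi37 zgi40) (kgi xgi12 ygi48 zgi40) (kgi xgi21 ygi28 zgi0) (kgi xgi18 ygi40 zgi38) (kgi xgi6 ygi24 zgi8) (kgi xgi21 ygi18 zgi13) (kgi xgi21 ygi28 zgi10) (kgi xgi17 ygi14 zgi22) (kgi xgi12 ygi0 zgi61) (kgi xgi8 ygi22 zgi22) (kgi xgi9 ygi18 zgi59) (kgi xgi21 ygi26 zgi49) (kgi xgi16 ygi3 zgi24) (kgi xgi15 ygi48 zgi28) (kgi xgi15 ygi48 zgi39)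 (kgi xgi21 ygi5 zgi43) (kgi xgi17 ygi16 zgi14) (kgi xgi17 ygi33 zgi25) (kgi xgi6 ygi24 zgi15) (kgi xgi17 ygi33 zgi22) (kgi xgi6 ygi24 zgi17) (kgi xgi6 ygi48 zgi3) (kgi xgi12 ygi19 zgi23) (kgi xgi12 ygi14 zgi51) (kgi xgi12 ygi15 zgi59) (kgi xgi12 ygi42 zgi47) (kgi xgi8 ygi48 zgi18) (kgi xgi18 ygi29 zgi58) (kgi xgi21 ygi28 zgi39) (kgi xgi17 ygi15 zgi21) (kgi xgi8 ygi48 zgi33) (kgi xgi14 ygi44 zgi54) (kgi xgi21 ygi28 zgi42) (kgi xgi6 ygi24 zgi28) (kgi xgi15 ygi14 zgi1)) (@D3.rec (fun _ => Pt) (kgi xgi16 ygi29 zgi44) (kgi xgi8 ygi3 zgi46) (kgi xgi6 ygi32 zgi0) (kgi xgi21 ygi28 zgi49) (kgi xgi11 ygi12 zgi54) (kgi xgi9 ygi3 zgi7) (kgi xgi17 ygi19 zgi56) (kgi xgi21 ygi28 zgi52) (kgi xgi6 ygi24 zgi38) (kgi xgi6 ygi24 zgi44) (kgi xgi6 ygi24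 zgi41) (kgi xgi12 ygi44 zgi37) (kgi xgi6 ygi24 zgi40) (kgi xgi21 ygi28 zgi54) (kgi xgi21 ygi28 zgi60) (kgi xgi21 ygi28 zgi51) (kgi xgi16 ygi24 zgi32) (kgi xgi18 ygi57 zgi2) (kgi xgi20 ygi1 zgi15) (kgi xgi18 ygi19 zgi53) (kgi xgi17 ygi8 zgi25) (kgi xgi20 ygi35 zgi50) (kgi xgi6 ygi24 zgi43) (kgi xgi11 ygi47 zgi16) (kgi xgi18 ygi2 zgi11) (kgi xgi21 ygi29 zgi7) (kgi xgi8 ygi38 zgi22) (kgi xgi6 ygi24 zgi47) (kgi xgi11 ygi27 zgi45) (kgi xgi6 ygi32 zgi12) (kgi xgi6 ygi24 zgi48) (kgi xgi6 ygi24 zgi51) (kgi xgi21 ygi29 zgi15) (kgi xgi21 ygi29 zgi19) (kgi xgi16 ygi25 zgi2) (kgi xgi8 ygi51 zgi20) (kgi xgi14 ygi5 zgi16) (kgi xgi21 ygi12 zgi34) (kgi xgi21 ygi29 zgi24) (kgi xgi21 ygi29 zgi14) (kgi xgi12 ygi5 zgi50) (kgi xgi6 ygi24 zgi52) (kgi xgi12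 ygi6 zgi54) (kgi xgi15 ygi8 zgi38) (kgi xgi8 ygi50 zgi42) (kgi xgi16 ygi23 zgi39) (kgi xgi21 ygi29 zgi35) (kgi xgi6 ygi24 zgi54) (kgi xgi16 ygi25 zgi11) (kgi xgi21 ygi29 zgi43) (kgi xgi16 ygi25 zgi8) (kgi xgi13 ygi38 zgi22) (kgi xgi21 ygi29 zgi44) (kgi xgi6 ygi24 zgi57) (kgi xgi16 ygi23 zgi46) (kgi xgi16 ygi23 zgi44) (kgi xgi10 ygi5 zgi43) (kgi xgi21 ygi29 zgi52) (kgi xgi6 ygi24 zgi59) (kgi xgi8 ygi1 zgi20) (kgi xgi18 ygi49 zgi31) (kgi xgi8 ygi1 zgi18)) (@D3.rec (fun _ => Pt) (kgi xgi13 ygi18 zgi61) (kgi xgi7 ygi50 zgi8) (kgi xgi14 ygi50 zgi28) (kgi xgi6 ygi25 zgi0) (kgi xgi14 ygi18 zgi54) (kgi xgi7 ygi29 zgi23) (kgi xgi6 ygi25 zgi2) (kgi xgi16 ygi25 zgi18) (kgi xgi16 ygi25 zgi16) (kgi xgi21 ygi30 zgi7) (kgi xgi20 ygi30 zgi54) (kgi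 xgi17 ygi58 zgi41) (kgi xgi12 ygi37 zgi61) (kgi xgi6 ygi25 zgi6) (kgi xgi16 ygi36 zgi6) (kgi xgi17 ygi12 zgi48) (kgi xgi10 ygi6 zgi37) (kgi xgi11 ygi36 zgi60) (kgi xgi6 ygi25 zgi9) (kgi xgi11 ygi38 zgi34) (kgi xgi14 ygi36 zgi3) (kgi xgi11 ygi38 zgi31) (kgi xgi9 ygi7 zgi24) (kgi xgi11 ygi59 zgi10) (kgi xgi8 ygi15 zgi45) (kgi xgi12 ygi27 zgi57) (kgi xgi21 ygi30 zgi22) (kgi xgi6 ygi25 zgi17) (kgi xgi11 ygi38 zgi22) (kgi xgi21 ygi30 zgi28) (kgi xgi10 ygi6 zgi18) (kgi xgi11 ygi38 zgi43) (kgi xgi11 ygi14 zgi25) (kgi xgi21 ygi30 zgi34) (kgi xgi11 ygi14 zgi24) (kgi xgi21 ygi30 zgi38) (kgi xgi16 ygi54 zgi31) (kgi xgi10 ygi12 zgi10) (kgi xgi6 ygi25 zgi23) (kgi xgi9 ygi25 zgi10) (kgi xgi6 ygi35 zgi42) (kgi xgi9 ygi2 zgi57) (kgi xgi11 ygi57 zgi26)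 (kgi xgi12 ygi49 zgi8) (kgi xgi10 ygi4 zgi42) (kgi xgi10 ygi5 zgi24) (kgi xgi12 ygi6 zgi9) (kgi xgi11 ygi34 zgi25) (kgi xgi21 ygi30 zgi45) (kgi xgi7 ygi40 zgi46) (kgi xgi7 ygi23 zgi41) (kgi xgi6 ygi25 zgi35) (kgi xgi11 ygi29 zgi18) (kgi xgi11 ygi29 zgi16) (kgi xgi8 ygi21 zgi6) (kgi xgi8 ygi21 zgi44) (kgi xgi12 ygi51 zgi1) (kgi xgi6 ygi25 zgi46) (kgi xgi12 ygi24 zgi33) (kgi xgi12 ygi24 zgi31) (kgi xgi6 ygi25 zgi47) (kgi xgi8 ygi36 zgi23)) (@D3.rec (fun _ => Pt) (kgi xgi9 ygi24 zgi30) (kgi xgi9 ygi24 zgi28) (kgi xgi10 ygi18 zgi3) (kgi xgi11 ygi30 zgi48) (kgi xgi13 ygi10 zgi59) (kgi xgi9 ygi23 zgi45) (kgi xgi14 ygi6 zgi49) (kgi xgi9 ygi48 zgi50) (kgi xgi6 ygi44 zgi61) (kgi xgi13 ygi57 zgi11) (kgi xgi18 ygi16 zgi46) (kgi xgi6 ygi44 zgi41)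 (kgi xgi7 ygi36 zgi10) (kgi xgi13 ygi6 zgi43) (kgi xgi12 ygi27 zgi55) (kgi xgi7 ygi24 zgi55) (kgi xgi9 ygi29 zgi15) (kgi xgi18 ygi37 zgi38) (kgi xgi18 ygi50 zgi22) (kgi xgi21 ygi31 zgi2) (kgi xgi6 ygi26 zgi9) (kgi xgi12 ygi54 zgi27) (kgi xgi17 ygi3 zgi57) (kgi xgi21 ygi31 zgi9) (kgi xgi6 ygi27 zgi34) (kgi xgi17 ygi29 zgi40) (kgi xgi8 ygi35 zgi26) (kgi xgi6 ygi26 zgi14) (kgi xgi17 ygi16 zgi34) (kgi xgi17 ygi16 zgi32) (kgi xgi21 ygi31 zgi19) (kgi xgi6 ygi26 zgi17) (kgi xgi12 ygi23 zgi59) (kgi xgi12 ygi23 zgi57) (kgi xgi21 ygi31 zgi24) (kgi xgi6 ygi26 zgi20) (kgi xgi17 ygi13 zgi21) (kgi xgi6 ygi26 zgi21) (kgi xgi13 ygi37 zgi54) (kgi xgi21 ygi31 zgi32) (kgi xgi21 ygi31 zgi34) (kgi xgi16 ygi16 zgi40) (kgi xgi10 ygi10 zgi46) (kgi xgi12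 ygi28 zgi20) (kgi xgi21 ygi31 zgi29) (kgi xgi21 ygi24 zgi49) (kgi xgi10 ygi10 zgi40) (kgi xgi12 ygi4 zgi9) (kgi xgi13 ygi1 zgi23) (kgi xgi13 ygi1 zgi26) (kgi xgi6 ygi26 zgi28) (kgi xgi8 ygi0 zgi38) (kgi xgi18 ygi2 zgi17) (kgi xgi6 ygi26 zgi29) (kgi xgi12 ygi49 zgi21) (kgi xgi20 ygi49 zgi56) (kgi xgi6 ygi30 zgi60) (kgi xgi12 ygi15 zgi55) (kgi xgi14 ygi4 zgi33) (kgi xgi12 ygi58 zgi22) (kgi xgi21 ygi31 zgi55) (kgi xgi21 ygi25 zgi16)) (@D3.rec (fun _ => Pt) (kgi xgi7 ygi43 zgi8) (kgi xgi13 ygi2 zgi11) (kgi xgi9 ygi5 zgi40) (kgi xgi11 ygi27 zgi13) (kgi xgi6 ygi26 zgi35) (kgi xgi11 ygi27 zgi10) (kgi xgi11 ygi0 zgi54) (kgi xgi11 ygi25 zgi54) (kgi xgi11 ygi31 zgi5) (kgi xgi21 ygi32 zgi0) (kgi xgi9 ygi20 zgi24) (kgi xgi21 ygi32 zgi4) (kgi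 xgi9 ygi1 zgi29) (kgi xgi21 ygi32 zgi8) (kgi xgi21 ygi32 zgi12) (kgi xgi6 ygi26 zgi41) (kgi xgi17 ygi16 zgi9) (kgi xgi17 ygi16 zgi7) (kgi xgi11 ygi16 zgi33) (kgi xgi6 ygi38 zgi38) (kgi xgi21 ygi18 zgi8) (kgi xgi16 ygi3 zgi56) (kgi xgi12 ygi15 zgi21) (kgi xgi7 ygi45 zgi38) (kgi xgi12 ygi34 zgi29) (kgi xgi21 ygi32 zgi28) (kgi xgi6 ygi26 zgi49) (kgi xgi7 ygi30 zgi61) (kgi xgi19 ygi21 zgi20) (kgi xgi19 ygi7 zgi39) (kgi xgi6 ygi41 zgi13) (kgi xgi6 ygi33 zgi49) (kgi xgi21 ygi21 zgi46) (kgi xgi7 ygi26 zgi3) (kgi xgi12 ygi47 zgi52) (kgi xgi11 ygi27 zgi4) (kgi xgi9 ygi50 zgi34) (kgi xgi6 ygi26 zgi57) (kgi xgi9 ygi49 zgi21) (kgi xgi21 ygi32 zgi40) (kgi xgi11 ygi27 zgi30) (kgi xgi6 ygi26 zgi58) (kgi xgi12 ygi56 zgi47) (kgi xgi20 ygi22 zgi2)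 (kgi xgi21 ygi32 zgi46) (kgi xgi10 ygi48 zgi57) (kgi xgi14 ygi54 zgi30) (kgi xgi7 ygi54 zgi57) (kgi xgi13 ygi37 zgi6) (kgi xgi10 ygi0 zgi13) (kgi xgi9 ygi32 zgi41) (kgi xgi9 ygi20 zgi38) (kgi xgi13 ygi2 zgi1) (kgi xgi21 ygi25 zgi22) (kgi xgi21 ygi31 zgi53) (kgi xgi9 ygi37 zgi18) (kgi xgi6 ygi27 zgi7) (kgi xgi11 ygi19 zgi54) (kgi xgi8 ygi40 zgi53) (kgi xgi8 ygi33 zgi59) (kgi xgi12 ygi40 zgi11) (kgi xgi7 ygi20 zgi42)) (@D3.rec (fun _ => Pt) (kgi xgi12 ygi52 zgi49) (kgi xgi7 ygi2 zgi4) (kgi xgi18 ygi25 zgi33) (kgi xgi6 ygi40 zgi15) (kgi xgi6 ygi27 zgi15) (kgi xgi13 ygi37 zgi49) (kgi xgi21 ygi27 zgi56) (kgi xgi17 ygi16 zgi12) (kgi xgi17 ygi16 zgi11) (kgi xgi15 ygi37 zgi2) (kgi xgi6 ygi36 zgi50) (kgi xgi6 ygi27 zgi20) (kgi xgi6 ygi27 zgi22)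 (kgi xgi21 ygi33 zgi12) (kgi xgi20 ygi39 zgi61) (kgi xgi20 ygi6 zgi54) (kgi xgi15 ygi49 zgi17) (kgi xgi6 ygi27 zgi24) (kgi xgi21 ygi32 zgi60) (kgi xgi21 ygi33 zgi20) (kgi xgi17 ygi5 zgi3) (kgi xgi21 ygi33 zgi31) (kgi xgi6 ygi27 zgi23) (kgi xgi21 ygi33 zgi10) (kgi xgi21 ygi33 zgi35) (kgi xgi20 ygi17 zgi38) (kgi xgi21 ygi28 zgi26) (kgi xgi21 ygi33 zgi6) (kgi xgi20 ygi19 zgi28) (kgi xgi6 ygi52 zgi14) (kgi xgi21 ygi33 zgi38) (kgi xgi6 ygi42 zgi47) (kgi xgi6 ygi27 zgi43) (kgi xgi6 ygi27 zgi41) (kgi xgi21 ygi33 zgi43) (kgi xgi21 ygi33 zgi46) (kgi xgi6 ygi31 zgi43) (kgi xgi21 ygi33 zgi49) (kgi xgi21 ygi33 zgi51) (kgi xgi6 ygi27 zgi38) (kgi xgi12 ygi19 zgi52) (kgi xgi12 ygi19 zgi50) (kgi xgi21 ygi25 zgi21) (kgi xgi21 ygi33 zgi58) (kgi xgi21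 ygi33 zgi60) (kgi xgi21 ygi34 zgi0) (kgi xgi6 ygi42 zgi1) (kgi xgi12 ygi49 zgi5) (kgi xgi12 ygi49 zgi4) (kgi xgi21 ygi34 zgi4) (kgi xgi21 ygi34 zgi5) (kgi xgi12 ygi20 zgi55) (kgi xgi12 ygi16 zgi7) (kgi xgi17 ygi14 zgi36) (kgi xgi12 ygi18 zgi3) (kgi xgi21 ygi23 zgi0) (kgi xgi6 ygi27 zgi47) (kgi xgi21 ygi34 zgi10) (kgi xgi6 ygi38 zgi54) (kgi xgi18 ygi43 zgi52) (kgi xgi12 ygi4 zgi45) (kgi xgi21 ygi34 zgi13)) (@D3.rec (fun _ => Pt) (kgi xgi21 ygi34 zgi16) (kgi xgi21 ygi5 zgi58) (kgi xgi21 ygi34 zgi21) (kgi xgi21 ygi5 zgi17) (kgi xgi8 ygi22 zgi56) (kgi xgi8 ygi23 zgi36) (kgi xgi8 ygi35 zgi43) (kgi xgi9 ygi18 zgi58) (kgi xgi7 ygi31 zgi35) (kgi xgi21 ygi34 zgi28) (kgi xgi12 ygi18 zgi33) (kgi xgi6 ygi27 zgi57) (kgi xgi12 ygi13 zgi25) (kgi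 xgi12 ygi13 zgi23) (kgi xgi21 ygi24 zgi35) (kgi xgi21 ygi34 zgi40) (kgi xgi17 ygi45 zgi15) (kgi xgi17 ygi55 zgi52) (kgi xgi11 ygi59 zgi59) (kgi xgi21 ygi26 zgi44) (kgi xgi13 ygi0 zgi18) (kgi xgi12 ygi0 zgi26) (kgi xgi21 ygi34 zgi49) (kgi xgi6 ygi28 zgi1) (kgi xgi6 ygi28 zgi4) (kgi xgi21 ygi34 zgi53) (kgi xgi21 ygi34 zgi56) (kgi xgi6 ygi28 zgi2) (kgi xgi6 ygi28 zgi3) (kgi xgi21 ygi25 zgi17) (kgi xgi12 ygi19 zgi29) (kgi xgi12 ygi21 zgi17) (kgi xgi21 ygi34 zgi55) (kgi xgi21 ygi24 zgi55) (kgi xgi6 ygi28 zgi7) (kgi xgi7 ygi33 zgi54) (kgi xgi18 ygi15 zgi31) (kgi xgi20 ygi22 zgi24) (kgi xgi19 ygi22 zgi49) (kgi xgi6 ygi34 zgi14) (kgi xgi11 ygi30 zgi15) (kgi xgi9 ygi18 zgi13) (kgi xgi12 ygi14 zgi16) (kgi xgi6 ygi34 zgi20) (kgi xgi11 ygi48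 zgi48) (kgi xgi17 ygi50 zgi34) (kgi xgi12 ygi53 zgi21) (kgi xgi12 ygi13 zgi56) (kgi xgi21 ygi4 zgi53) (kgi xgi12 ygi14 zgi15) (kgi xgi16 ygi3 zgi48) (kgi xgi6 ygi28 zgi21) (kgi xgi6 ygi38 zgi32) (kgi xgi6 ygi38 zgi29) (kgi xgi12 ygi36 zgi3) (kgi xgi6 ygi40 zgi38) (kgi xgi16 ygi3 zgi49) (kgi xgi21 ygi25 zgi55) (kgi xgi16 ygi59 zgi42) (kgi xgi15 ygi43 zgi11) (kgi xgi6 ygi28 zgi37) (kgi xgi6 ygi28 zgi34)) (@D3.rec (fun _ => Pt) (kgi xgi21 ygi35 zgi6) (kgi xgi7 ygi31 zgi19) (kgi xgi21 ygi35 zgi7) (kgi xgi18 ygi16 zgi1) (kgi xgi6 ygi28 zgi41) (kgi xgi21 ygi35 zgi8) (kgi xgi7 ygi44 zgi38) (kgi xgi20 ygi37 zgi40) (kgi xgi6 ygi28 zgi42) (kgi xgi11 ygi51 zgi1) (kgi xgi6 ygi38 zgi39) (kgi xgi17 ygi5 zgi22) (kgi xgi10 ygi14 zgi13) (kgi xgi6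 ygi29 zgi12) (kgi xgi12 ygi14 zgi4) (kgi xgi6 ygi29 zgi5) (kgi xgi12 ygi39 zgi6) (kgi xgi21 ygi35 zgi3) (kgi xgi12 ygi53 zgi34) (kgi xgi12 ygi39 zgi52) (kgi xgi12 ygi20 zgi42) (kgi xgi7 ygi2 zgi10) (kgi xgi6 ygi29 zgi3) (kgi xgi12 ygi53 zgi39) (kgi xgi21 ygi35 zgi16) (kgi xgi11 ygi25 zgi44) (kgi xgi6 ygi29 zgi0) (kgi xgi12 ygi15 zgi18) (kgi xgi12 ygi39 zgi34) (kgi xgi21 ygi7 zgi42) (kgi xgi18 ygi24 zgi22) (kgi xgi20 ygi13 zgi6) (kgi xgi12 ygi13 zgi32) (kgi xgi6 ygi50 zgi49) (kgi xgi12 ygi14 zgi8) (kgi xgi17 ygi20 zgi36) (kgi xgi9 ygi16 zgi59) (kgi xgi6 ygi29 zgi8) (kgi xgi7 ygi31 zgi18) (kgi xgi6 ygi29 zgi9) (kgi xgi21 ygi35 zgi25) (kgi xgi12 ygi13 zgi59) (kgi xgi18 ygi20 zgi57) (kgi xgi16 ygi33 zgi15) (kgi xgi12 ygi14 zgi3) (kgi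 xgi10 ygi14 zgi41) (kgi xgi6 ygi29 zgi14) (kgi xgi21 ygi7 zgi28) (kgi xgi6 ygi29 zgi16) (kgi xgi9 ygi47 zgi41) (kgi xgi9 ygi7 zgi44) (kgi xgi6 ygi36 zgi11) (kgi xgi6 ygi29 zgi24) (kgi xgi6 ygi33 zgi21) (kgi xgi21 ygi35 zgi35) (kgi xgi21 ygi35 zgi38) (kgi xgi6 ygi29 zgi23) (kgi xgi21 ygi18 zgi45) (kgi xgi19 ygi48 zgi42) (kgi xgi21 ygi18 zgi44) (kgi xgi12 ygi36 zgi18) (kgi xgi7 ygi31 zgi9)) (@D3.rec (fun _ => Pt) (kgi xgi12 ygi35 zgi40) (kgi xgi21 ygi35 zgi49) (kgi xgi12 ygi38 zgi25) (kgi xgi12 ygi38 zgi10) (kgi xgi6 ygi36 zgi14) (kgi xgi16 ygi59 zgi32) (kgi xgi12 ygi41 zgi59) (kgi xgi6 ygi29 zgi34) (kgi xgi11 ygi30 zgi41) (kgi xgi21 ygi35 zgi55) (kgi xgi6 ygi29 zgi43) (kgi xgi6 ygi42 zgi26) (kgi xgi6 ygi29 zgi40) (kgi xgi6 ygi31 zgi31)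 (kgi xgi20 ygi43 zgi23) (kgi xgi10 ygi54 zgi48) (kgi xgi15 ygi26 zgi42) (kgi xgi12 ygi49 zgi0) (kgi xgi10 ygi52 zgi18) (kgi xgi6 ygi42 zgi24) (kgi xgi21 ygi36 zgi3) (kgi xgi6 ygi41 zgi56) (kgi xgi6 ygi42 zgi32) (kgi xgi9 ygi10 zgi20) (kgi xgi6 ygi32 zgi26) (kgi xgi6 ygi42 zgi38) (kgi xgi21 ygi33 zgi30) (kgi xgi6 ygi41 zgi10) (kgi xgi6 ygi29 zgi61) (kgi xgi6 ygi29 zgi54) (kgi xgi11 ygi30 zgi31) (kgi xgi20 ygi13 zgi0) (kgi xgi21 ygi36 zgi15) (kgi xgi6 ygi29 zgi55) (kgi xgi7 ygi31 zgi51) (kgi xgi12 ygi46 zgi27) (kgi xgi21 ygi36 zgi24) (kgi xgi6 ygi29 zgi56) (kgi xgi6 ygi41 zgi15) (kgi xgi12 ygi2 zgi57) (kgi xgi18 ygi1 zgi12) (kgi xgi17 ygi3 zgi53) (kgi xgi9 ygi48 zgi30) (kgi xgi9 ygi6 zgi52) (kgi xgi18 ygi43 zgi48) (kgi xgi6 ygi30 zgi4)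 (kgi xgi17 ygi59 zgi51) (kgi xgi20 ygi23 zgi13) (kgi xgi6 ygi30 zgi6) (kgi xgi10 ygi57 zgi18) (kgi xgi20 ygi19 zgi40) (kgi xgi6 ygi30 zgi9) (kgi xgi6 ygi50 zgi53) (kgi xgi6 ygi30 zgi16) (kgi xgi11 ygi31 zgi48) (kgi xgi11 ygi31 zgi50) (kgi xgi10 ygi52 zgi17) (kgi xgi21 ygi36 zgi34) (kgi xgi19 ygi46 zgi57) (kgi xgi12 ygi32 zgi5) (kgi xgi12 ygi31 zgi20) (kgi xgi6 ygi31 zgi14)) (@D3.rec (fun _ => Pt) (kgi xgi12 ygi24 zgi15) (kgi xgi9 ygi6 zgi27) (kgi xgi19 ygi32 zgi36) (kgi xgi8 ygi58 zgi7) (kgi xgi11 ygi30 zgi46) (kgi xgi6 ygi30 zgi22) (kgi xgi8 ygi58 zgi5) (kgi xgi21 ygi36 zgi44) (kgi xgi6 ygi30 zgi23) (kgi xgi18 ygi43 zgi38) (kgi xgi21 ygi36 zgi40) (kgi xgi9 ygi6 zgi34) (kgi xgi16 ygi15 zgi28) (kgi xgi20 ygi26 zgi4) (kgi xgi17 ygi59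 zgi59) (kgi xgi6 ygi49 zgi36) (kgi xgi10 ygi4 zgi60) (kgi xgi10 ygi0 zgi11) (kgi xgi6 ygi30 zgi39) (kgi xgi10 ygi4 zgi47) (kgi xgi7 ygi25 zgi35) (kgi xgi12 ygi10 zgi43) (kgi xgi12 ygi32 zgi21) (kgi xgi14 ygi49 zgi9) (kgi xgi13 ygi2 zgi10) (kgi xgi6 ygi30 zgi51) (kgi xgi11 ygi57 zgi59) (kgi xgi20 ygi53 zgi7) (kgi xgi21 ygi36 zgi50) (kgi xgi7 ygi23 zgi42) (kgi xgi14 ygi4 zgi15) (kgi xgi20 ygi49 zgi53) (kgi xgi14 ygi20 zgi4) (kgi xgi10 ygi43 zgi52) (kgi xgi12 ygi25 zgi50) (kgi xgi7 ygi20 zgi5) (kgi xgi21 ygi36 zgi60) (kgi xgi13 ygi1 zgi28) (kgi xgi13 ygi52 zgi22) (kgi xgi21 ygi37 zgi3) (kgi xgi21 ygi37 zgi6) (kgi xgi12 ygi58 zgi49) (kgi xgi21 ygi37 zgi10) (kgi xgi12 ygi58 zgi52) (kgi xgi6 ygi31 zgi3) (kgi xgi8 ygi40 zgi22) (kgi xgi8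 ygi40 zgi45) (kgi xgi6 ygi31 zgi4) (kgi xgi13 ygi0 zgi46) (kgi xgi16 ygi16 zgi9) (kgi xgi17 ygi5 zgi19) (kgi xgi7 ygi27 zgi11) (kgi xgi6 ygi42 zgi36) (kgi xgi11 ygi57 zgi61) (kgi xgi20 ygi28 zgi6) (kgi xgi10 ygi45 zgi41) (kgi xgi14 ygi4 zgi58) (kgi xgi8 ygi12 zgi49) (kgi xgi6 ygi31 zgi12) (kgi xgi11 ygi33 zgi29) (kgi xgi19 ygi39 zgi59) (kgi xgi21 ygi20 zgi4)) (@D3.rec (fun _ => Pt) (kgi xgi6 ygi32 zgi13) (kgi xgi16 ygi25 zgi3) (kgi xgi14 ygi4 zgi47) (kgi xgi9 ygi51 zgi4) (kgi xgi11 ygi17 zgi51) (kgi xgi11 ygi36 zgi2) (kgi xgi20 ygi0 zgi27) (kgi xgi6 ygi31 zgi24) (kgi xgi11 ygi58 zgi4) (kgi xgi20 ygi9 zgi49) (kgi xgi7 ygi52 zgi6) (kgi xgi14 ygi4 zgi49) (kgi xgi11 ygi16 zgi49) (kgi xgi18 ygi42 zgi14) (kgi xgi18 ygi39 zgi37) (kgi xgi18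 ygi42 zgi11) (kgi xgi11 ygi40 zgi5) (kgi xgi14 ygi11 zgi60) (kgi xgi6 ygi32 zgi24) (kgi xgi8 ygi12 zgi47) (kgi xgi6 ygi32 zgi7) (kgi xgi12 ygi17 zgi25) (kgi xgi15 ygi6 zgi51) (kgi xgi21 ygi22 zgi53) (kgi xgi6 ygi49 zgi57) (kgi xgi12 ygi1 zgi54) (kgi xgi6 ygi31 zgi60) (kgi xgi14 ygi3 zgi54) (kgi xgi14 ygi11 zgi59) (kgi xgi20 ygi28 zgi27) (kgi xgi12 ygi49 zgi9) (kgi xgi18 ygi26 zgi15) (kgi xgi6 ygi31 zgi48) (kgi xgi12 ygi10 zgi25) (kgi xgi21 ygi37 zgi38) (kgi xgi6 ygi31 zgi49) (kgi xgi18 ygi32 zgi34) (kgi xgi17 ygi57 zgi51) (kgi xgi21 ygi3 zgi4) (kgi xgi18 ygi26 zgi21) (kgi xgi18 ygi15 zgi38) (kgi xgi17 ygi7 zgi45) (kgi xgi9 ygi49 zgi2) (kgi xgi21 ygi22 zgi47) (kgi xgi14 ygi1 zgi39) (kgi xgi17 ygi19 zgi45) (kgi xgi21 ygi37 zgi47) (kgi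 xgi6 ygi31 zgi61) (kgi xgi8 ygi57 zgi31) (kgi xgi17 ygi21 zgi52) (kgi xgi6 ygi53 zgi50) (kgi xgi8 ygi57 zgi27) (kgi xgi9 ygi46 zgi17) (kgi xgi20 ygi25 zgi17) (kgi xgi14 ygi2 zgi15) (kgi xgi17 ygi55 zgi27) (kgi xgi21 ygi37 zgi48) (kgi xgi14 ygi8 zgi10) (kgi xgi16 ygi23 zgi35) (kgi xgi9 ygi45 zgi44) (kgi xgi6 ygi32 zgi5) (kgi xgi14 ygi4 zgi53)) (@D3.rec (fun _ => Pt) (kgi xgi21 ygi38 zgi1) (kgi xgi18 ygi24 zgi52) (kgi xgi18 ygi2 zgi13) (kgi xgi19 ygi33 zgi18) (kgi xgi9 ygi29 zgi25) (kgi xgi12 ygi12 zgi0) (kgi xgi20 ygi14 zgi1) (kgi xgi20 ygi16 zgi10) (kgi xgi11 ygi21 zgi54) (kgi xgi14 ygi10 zgi56) (kgi xgi12 ygi32 zgi12) (kgi xgi20 ygi18 zgi40) (kgi xgi12 ygi22 zgi29) (kgi xgi20 ygi19 zgi35) (kgi xgi6 ygi32 zgi16) (kgi xgi14 ygi4 zgi39)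 (kgi xgi21 ygi38 zgi15) (kgi xgi11 ygi35 zgi29) (kgi xgi6 ygi32 zgi25) (kgi xgi12 ygi22 zgi27) (kgi xgi11 ygi17 zgi45) (kgi xgi20 ygi14 zgi13) (kgi xgi11 ygi35 zgi9) (kgi xgi11 ygi21 zgi53) (kgi xgi6 ygi49 zgi33) (kgi xgi21 ygi36 zgi38) (kgi xgi21 ygi37 zgi25) (kgi xgi20 ygi19 zgi32) (kgi xgi17 ygi58 zgi14) (kgi xgi6 ygi49 zgi21) (kgi xgi12 ygi24 zgi49) (kgi xgi21 ygi38 zgi26) (kgi xgi12 ygi32 zgi43) (kgi xgi6 ygi32 zgi30) (kgi xgi17 ygi10 zgi56) (kgi xgi12 ygi57 zgi27) (kgi xgi21 ygi38 zgi40) (kgi xgi6 ygi32 zgi31) (kgi xgi17 ygi12 zgi42) (kgi xgi9 ygi25 zgi44) (kgi xgi12 ygi11 zgi26) (kgi xgi6 ygi32 zgi32) (kgi xgi9 ygi26 zgi18) (kgi xgi9 ygi16 zgi30) (kgi xgi14 ygi11 zgi46) (kgi xgi6 ygi32 zgi35) (kgi xgi9 ygi30 zgi32) (kgi xgi6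 ygi32 zgi36) (kgi xgi12 ygi47 zgi40) (kgi xgi12 ygi50 zgi38) (kgi xgi12 ygi25 zgi20) (kgi xgi12 ygi44 zgi46) (kgi xgi12 ygi25 zgi21) (kgi xgi21 ygi36 zgi19) (kgi xgi6 ygi47 zgi58) (kgi xgi12 ygi24 zgi12) (kgi xgi17 ygi22 zgi48) (kgi xgi13 ygi19 zgi16) (kgi xgi9 ygi16 zgi5) (kgi xgi17 ygi12 zgi8) (kgi xgi6 ygi32 zgi48) (kgi xgi6 ygi56 zgi29)) (@D3.rec (fun _ => Pt) (kgi xgi9 ygi17 zgi58) (kgi xgi6 ygi35 zgi49) (kgi xgi21 ygi38 zgi59) (kgi xgi17 ygi30 zgi40) (kgi xgi17 ygi30 zgi44) (kgi xgi20 ygi54 zgi46) (kgi xgi12 ygi13 zgi13) (kgi xgi11 ygi44 zgi34) (kgi xgi14 ygi32 zgi36) (kgi xgi13 ygi4 zgi56) (kgi xgi6 ygi32 zgi56) (kgi xgi21 ygi39 zgi10) (kgi xgi6 ygi32 zgi57) (kgi xgi7 ygi15 zgi52) (kgi xgi17 ygi34 zgi58) (kgi xgi6 ygi32 zgi60)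 (kgi xgi6 ygi43 zgi56) (kgi xgi21 ygi39 zgi18) (kgi xgi21 ygi39 zgi21) (kgi xgi21 ygi39 zgi24) (kgi xgi12 ygi59 zgi10) (kgi xgi6 ygi48 zgi34) (kgi xgi15 ygi38 zgi58) (kgi xgi12 ygi59 zgi7) (kgi xgi9 ygi28 zgi51) (kgi xgi21 ygi39 zgi34) (kgi xgi12 ygi21 zgi7) (kgi xgi6 ygi33 zgi5) (kgi xgi21 ygi4 zgi58) (kgi xgi21 ygi4 zgi56) (kgi xgi21 ygi39 zgi46) (kgi xgi6 ygi33 zgi6) (kgi xgi12 ygi0 zgi11) (kgi xgi6 ygi59 zgi49) (kgi xgi14 ygi23 zgi12) (kgi xgi13 ygi2 zgi47) (kgi xgi20 ygi27 zgi17) (kgi xgi13 ygi16 zgi44) (kgi xgi6 ygi33 zgi36) (kgi xgi6 ygi33 zgi34) (kgi xgi6 ygi33 zgi11) (kgi xgi7 ygi41 zgi8) (kgi xgi7 ygi35 zgi53) (kgi xgi21 ygi39 zgi57) (kgi xgi6 ygi42 zgi48) (kgi xgi7 ygi41 zgi15) (kgi xgi17 ygi19 zgi16) (kgi xgi12 ygi52 zgi20)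 (kgi xgi17 ygi17 zgi1) (kgi xgi15 ygi45 zgi28) (kgi xgi21 ygi10 zgi3) (kgi xgi9 ygi24 zgi22) (kgi xgi21 ygi40 zgi2) (kgi xgi14 ygi26 zgi55) (kgi xgi20 ygi5 zgi44) (kgi xgi7 ygi35 zgi60) (kgi xgi17 ygi17 zgi43) (kgi xgi6 ygi33 zgi24) (kgi xgi13 ygi10 zgi2) (kgi xgi21 ygi40 zgi9) (kgi xgi6 ygi33 zgi25) (kgi xgi7 ygi11 zgi8)) (@D3.rec (fun _ => Pt) (kgi xgi21 ygi40 zgi15) (kgi xgi8 ygi32 zgi19) (kgi xgi6 ygi33 zgi29) (kgi xgi14 ygi17 zgi47) (kgi xgi14 ygi17 zgi44) (kgi xgi17 ygi20 zgi19) (kgi xgi13 ygi44 zgi40) (kgi xgi7 ygi0 zgi50) (kgi xgi7 ygi30 zgi44) (kgi xgi14 ygi42 zgi49) (kgi xgi21 ygi40 zgi26) (kgi xgi14 ygi42 zgi51) (kgi xgi12 ygi59 zgi46) (kgi xgi17 ygi5 zgi33) (kgi xgi11 ygi48 zgi14) (kgi xgi6 ygi38 zgi1) (kgi xgi6 ygi37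 zgi28) (kgi xgi12 ygi39 zgi15) (kgi xgi17 ygi5 zgi15) (kgi xgi6 ygi33 zgi41) (kgi xgi17 ygi4 zgi17) (kgi xgi21 ygi40 zgi42) (kgi xgi17 ygi4 zgi14) (kgi xgi6 ygi33 zgi42) (kgi xgi6 ygi40 zgi40) (kgi xgi6 ygi37 zgi37) (kgi xgi21 ygi36 zgi28) (kgi xgi12 ygi35 zgi46) (kgi xgi12 ygi25 zgi59) (kgi xgi9 ygi20 zgi13) (kgi xgi21 ygi40 zgi51) (kgi xgi21 ygi18 zgi10) (kgi xgi6 ygi41 zgi25) (kgi xgi6 ygi33 zgi51) (kgi xgi21 ygi5 zgi57) (kgi xgi21 ygi5 zgi55) (kgi xgi21 ygi40 zgi60) (kgi xgi21 ygi41 zgi1) (kgi xgi10 ygi13 zgi5) (kgi xgi12 ygi29 zgi1) (kgi xgi18 ygi50 zgi34) (kgi xgi6 ygi34 zgi26) (kgi xgi6 ygi33 zgi58) (kgi xgi6 ygi34 zgi25) (kgi xgi6 ygi33 zgi59) (kgi xgi21 ygi18 zgi39) (kgi xgi21 ygi23 zgi52) (kgi xgi21 ygi18 zgi37) (kgi xgi21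 ygi7 zgi12) (kgi xgi7 ygi22 zgi42) (kgi xgi7 ygi0 zgi0) (kgi xgi6 ygi59 zgi42) (kgi xgi21 ygi41 zgi14) (kgi xgi13 ygi44 zgi59) (kgi xgi6 ygi34 zgi8) (kgi xgi13 ygi44 zgi52) (kgi xgi21 ygi41 zgi25) (kgi xgi13 ygi18 zgi52) (kgi xgi7 ygi8 zgi37) (kgi xgi14 ygi11 zgi28) (kgi xgi10 ygi27 zgi26) (kgi xgi12 ygi39 zgi31)) (@D3.rec (fun _ => Pt) (kgi xgi11 ygi19 zgi15) (kgi xgi20 ygi37 zgi58) (kgi xgi18 ygi32 zgi33) (kgi xgi9 ygi54 zgi18) (kgi xgi6 ygi34 zgi16) (kgi xgi17 ygi52 zgi21) (kgi xgi12 ygi39 zgi35) (kgi xgi17 ygi9 zgi44) (kgi xgi10 ygi27 zgi44) (kgi xgi12 ygi39 zgi33) (kgi xgi12 ygi38 zgi41) (kgi xgi12 ygi1 zgi9) (kgi xgi10 ygi27 zgi36) (kgi xgi20 ygi34 zgi31) (kgi xgi17 ygi52 zgi9) (kgi xgi20 ygi27 zgi35) (kgi xgi11 ygi36 zgi39)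 (kgi xgi21 ygi31 zgi0) (kgi xgi17 ygi0 zgi16) (kgi xgi21 ygi41 zgi41) (kgi xgi12 ygi44 zgi4) (kgi xgi21 ygi22 zgi5) (kgi xgi20 ygi51 zgi45) (kgi xgi7 ygi36 zgi36) (kgi xgi6 ygi34 zgi31) (kgi xgi14 ygi11 zgi37) (kgi xgi21 ygi41 zgi51) (kgi xgi7 ygi45 zgi20) (kgi xgi21 ygi28 zgi30) (kgi xgi21 ygi20 zgi17) (kgi xgi13 ygi2 zgi31) (kgi xgi21 ygi41 zgi54) (kgi xgi7 ygi44 zgi47) (kgi xgi6 ygi34 zgi34) (kgi xgi21 ygi7 zgi10) (kgi xgi18 ygi4 zgi58) (kgi xgi17 ygi41 zgi57) (kgi xgi6 ygi34 zgi39) (kgi xgi17 ygi34 zgi56) (kgi xgi15 ygi48 zgi15) (kgi xgi14 ygi11 zgi55) (kgi xgi14 ygi12 zgi19) (kgi xgi14 ygi12 zgi18) (kgi xgi9 ygi57 zgi9) (kgi xgi21 ygi42 zgi2) (kgi xgi21 ygi42 zgi8) (kgi xgi12 ygi34 zgi26) (kgi xgi20 ygi28 zgi31) (kgi xgi12 ygi2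 zgi8) (kgi xgi21 ygi26 zgi32) (kgi xgi14 ygi12 zgi16) (kgi xgi6 ygi34 zgi43) (kgi xgi12 ygi35 zgi54) (kgi xgi14 ygi56 zgi7) (kgi xgi12 ygi35 zgi51) (kgi xgi6 ygi34 zgi44) (kgi xgi21 ygi5 zgi49) (kgi xgi21 ygi42 zgi20) (kgi xgi15 ygi25 zgi4) (kgi xgi21 ygi38 zgi49) (kgi xgi21 ygi42 zgi26) (kgi xgi17 ygi16 zgi39)) (@D3.rec (fun _ => Pt) (kgi xgi12 ygi37 zgi59) (kgi xgi10 ygi7 zgi8) (kgi xgi12 ygi28 zgi12) (kgi xgi12 ygi37 zgi33) (kgi xgi10 ygi7 zgi7) (kgi xgi7 ygi2 zgi41) (kgi xgi7 ygi2 zgi31) (kgi xgi9 ygi49 zgi54) (kgi xgi20 ygi35 zgi17) (kgi xgi11 ygi45 zgi20) (kgi xgi21 ygi41 zgi47) (kgi xgi20 ygi51 zgi18) (kgi xgi6 ygi41 zgi18) (kgi xgi6 ygi35 zgi3) (kgi xgi17 ygi8 zgi6) (kgi xgi20 ygi51 zgi25) (kgi xgi21 ygi8 zgi14) (kgi xgi11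 ygi18 zgi55) (kgi xgi18 ygi50 zgi31) (kgi xgi6 ygi35 zgi6) (kgi xgi14 ygi46 zgi31) (kgi xgi17 ygi31 zgi3) (kgi xgi21 ygi42 zgi39) (kgi xgi20 ygi52 zgi17) (kgi xgi6 ygi35 zgi9) (kgi xgi20 ygi52 zgi14) (kgi xgi21 ygi6 zgi60) (kgi xgi6 ygi35 zgi11) (kgi xgi6 ygi37 zgi27) (kgi xgi6 ygi37 zgi25) (kgi xgi21 ygi42 zgi46) (kgi xgi6 ygi41 zgi3) (kgi xgi21 ygi22 zgi6) (kgi xgi10 ygi7 zgi5) (kgi xgi6 ygi35 zgi16) (kgi xgi21 ygi42 zgi47) (kgi xgi15 ygi49 zgi42) (kgi xgi17 ygi5 zgi8) (kgi xgi21 ygi34 zgi45) (kgi xgi6 ygi36 zgi56) (kgi xgi12 ygi28 zgi19) (kgi xgi21 ygi8 zgi20) (kgi xgi21 ygi6 zgi59) (kgi xgi6 ygi35 zgi20) (kgi xgi21 ygi42 zgi56) (kgi xgi6 ygi37 zgi3) (kgi xgi21 ygi40 zgi34) (kgi xgi12 ygi13 zgi2) (kgi xgi12 ygi13 zgi4) (kgi xgi12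 ygi48 zgi27) (kgi xgi6 ygi35 zgi25) (kgi xgi21 ygi43 zgi4) (kgi xgi6 ygi35 zgi26) (kgi xgi6 ygi36 zgi24) (kgi xgi6 ygi35 zgi27) (kgi xgi20 ygi51 zgi31) (kgi xgi21 ygi43 zgi8) (kgi xgi20 ygi51 zgi29) (kgi xgi21 ygi42 zgi40) (kgi xgi6 ygi37 zgi47) (kgi xgi17 ygi59 zgi16) (kgi xgi12 ygi16 zgi22)) (@D3.rec (fun _ => Pt) (kgi xgi6 ygi35 zgi30) (kgi xgi6 ygi37 zgi58) (kgi xgi21 ygi43 zgi19) (kgi xgi6 ygi37 zgi55) (kgi xgi7 ygi48 zgi48) (kgi xgi6 ygi35 zgi33) (kgi xgi6 ygi38 zgi12) (kgi xgi7 ygi54 zgi8) (kgi xgi21 ygi43 zgi30) (kgi xgi6 ygi38 zgi8) (kgi xgi6 ygi35 zgi35) (kgi xgi6 ygi38 zgi36) (kgi xgi12 ygi39 zgi61) (kgi xgi12 ygi51 zgi33) (kgi xgi6 ygi36 zgi2) (kgi xgi6 ygi53 zgi22) (kgi xgi14 ygi34 zgi60) (kgi xgi6 ygi35 zgi39) (kgi xgi21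 ygi21 zgi37) (kgi xgi21 ygi43 zgi42) (kgi xgi6 ygi35 zgi40) (kgi xgi6 ygi38 zgi46) (kgi xgi21 ygi43 zgi45) (kgi xgi6 ygi38 zgi43) (kgi xgi6 ygi35 zgi41) (kgi xgi6 ygi38 zgi50) (kgi xgi12 ygi41 zgi39) (kgi xgi20 ygi51 zgi58) (kgi xgi17 ygi0 zgi36) (kgi xgi17 ygi21 zgi8) (kgi xgi6 ygi35 zgi45) (kgi xgi21 ygi43 zgi34) (kgi xgi6 ygi37 zgi7) (kgi xgi6 ygi35 zgi46) (kgi xgi17 ygi5 zgi21) (kgi xgi18 ygi15 zgi30) (kgi xgi16 ygi25 zgi57) (kgi xgi20 ygi45 zgi21) (kgi xgi17 ygi50 zgi31) (kgi xgi21 ygi38 zgi58) (kgi xgi21 ygi44 zgi6) (kgi xgi14 ygi32 zgi56) (kgi xgi9 ygi13 zgi45) (kgi xgi6 ygi35 zgi51) (kgi xgi6 ygi35 zgi58) (kgi xgi12 ygi23 zgi12) (kgi xgi6 ygi35 zgi55) (kgi xgi11 ygi36 zgi25) (kgi xgi21 ygi7 zgi26) (kgi xgi11 ygi36 zgi26) (kgi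 xgi20 ygi38 zgi30) (kgi xgi9 ygi7 zgi14) (kgi xgi10 ygi4 zgi27) (kgi xgi17 ygi20 zgi57) (kgi xgi21 ygi44 zgi20) (kgi xgi12 ygi47 zgi17) (kgi xgi18 ygi15 zgi32) (kgi xgi21 ygi44 zgi16) (kgi xgi21 ygi44 zgi19) (kgi xgi21 ygi43 zgi55) (kgi xgi6 ygi35 zgi57) (kgi xgi15 ygi25 zgi2)) (@D3.rec (fun _ => Pt) (kgi xgi8 ygi51 zgi15) (kgi xgi7 ygi32 zgi49) (kgi xgi21 ygi44 zgi31) (kgi xgi12 ygi14 zgi45) (kgi xgi6 ygi35 zgi61) (kgi xgi6 ygi39 zgi59) (kgi xgi13 ygi38 zgi47) (kgi xgi6 ygi39 zgi56) (kgi xgi6 ygi36 zgi1) (kgi xgi6 ygi36 zgi3) (kgi xgi12 ygi47 zgi12) (kgi xgi6 ygi40 zgi3) (kgi xgi6 ygi40 zgi2) (kgi xgi20 ygi22 zgi22) (kgi xgi18 ygi16 zgi2) (kgi xgi21 ygi44 zgi47) (kgi xgi9 ygi21 zgi36) (kgi xgi18 ygi15 zgi35) (kgi xgi12 ygi39 zgi14)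 (kgi xgi21 ygi28 zgi35) (kgi xgi21 ygi44 zgi42) (kgi xgi6 ygi36 zgi7) (kgi xgi6 ygi40 zgi33) (kgi xgi21 ygi44 zgi55) (kgi xgi9 ygi7 zgi40) (kgi xgi12 ygi28 zgi61) (kgi xgi6 ygi36 zgi10) (kgi xgi6 ygi37 zgi36) (kgi xgi18 ygi45 zgi48) (kgi xgi16 ygi32 zgi12) (kgi xgi13 ygi27 zgi45) (kgi xgi12 ygi41 zgi11) (kgi xgi6 ygi40 zgi48) (kgi xgi6 ygi40 zgi47) (kgi xgi19 ygi48 zgi0) (kgi xgi12 ygi58 zgi46) (kgi xgi18 ygi20 zgi45) (kgi xgi6 ygi36 zgi16) (kgi xgi12 ygi16 zgi16) (kgi xgi12 ygi16 zgi14) (kgi xgi20 ygi46 zgi30) (kgi xgi7 ygi31 zgi31) (kgi xgi18 ygi14 zgi7) (kgi xgi10 ygi22 zgi48) (kgi xgi19 ygi53 zgi25) (kgi xgi6 ygi36 zgi25) (kgi xgi18 ygi57 zgi53) (kgi xgi21 ygi45 zgi0) (kgi xgi6 ygi36 zgi26) (kgi xgi21 ygi35 zgi36) (kgi xgi21 ygi45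 zgi3) (kgi xgi21 ygi35 zgi34) (kgi xgi18 ygi57 zgi60) (kgi xgi9 ygi49 zgi52) (kgi xgi6 ygi36 zgi28) (kgi xgi12 ygi2 zgi49) (kgi xgi12 ygi35 zgi10) (kgi xgi21 ygi38 zgi56) (kgi xgi12 ygi16 zgi43) (kgi xgi17 ygi13 zgi49) (kgi xgi18 ygi38 zgi28) (kgi xgi17 ygi13 zgi50)) (@D3.rec (fun _ => Pt) (kgi xgi12 ygi3 zgi17) (kgi xgi8 ygi34 zgi25) (kgi xgi21 ygi45 zgi20) (kgi xgi21 ygi45 zgi24) (kgi xgi12 ygi17 zgi55) (kgi xgi11 ygi43 zgi54) (kgi xgi6 ygi36 zgi52) (kgi xgi6 ygi37 zgi35) (kgi xgi12 ygi28 zgi16) (kgi xgi17 ygi20 zgi39) (kgi xgi10 ygi41 zgi35) (kgi xgi6 ygi45 zgi1) (kgi xgi18 ygi42 zgi54) (kgi xgi16 ygi59 zgi57) (kgi xgi10 ygi16 zgi41) (kgi xgi12 ygi34 zgi14) (kgi xgi17 ygi20 zgi3) (kgi xgi18 ygi50 zgi32) (kgi xgi6 ygi36 zgi46) (kgi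 xgi6 ygi36 zgi51) (kgi xgi17 ygi29 zgi30) (kgi xgi6 ygi36 zgi48) (kgi xgi17 ygi14 zgi56) (kgi xgi11 ygi38 zgi23) (kgi xgi20 ygi51 zgi32) (kgi xgi18 ygi0 zgi51) (kgi xgi21 ygi22 zgi25) (kgi xgi12 ygi12 zgi7) (kgi xgi21 ygi33 zgi9) (kgi xgi21 ygi45 zgi40) (kgi xgi21 ygi33 zgi7) (kgi xgi12 ygi27 zgi39) (kgi xgi12 ygi43 zgi25) (kgi xgi12 ygi27 zgi43) (kgi xgi12 ygi27 zgi46) (kgi xgi6 ygi36 zgi55) (kgi xgi12 ygi35 zgi6) (kgi xgi14 ygi36 zgi41) (kgi xgi12 ygi35 zgi4) (kgi xgi20 ygi23 zgi17) (kgi xgi21 ygi45 zgi51) (kgi xgi21 ygi45 zgi54) (kgi xgi21 ygi45 zgi50) (kgi xgi13 ygi20 zgi42) (kgi xgi6 ygi36 zgi58) (kgi xgi21 ygi5 zgi40) (kgi xgi21 ygi31 zgi37) (kgi xgi14 ygi11 zgi27) (kgi xgi20 ygi27 zgi43) (kgi xgi16 ygi1 zgi4) (kgi xgi12 ygi12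 zgi16) (kgi xgi17 ygi5 zgi2) (kgi xgi17 ygi5 zgi4) (kgi xgi21 ygi46 zgi5) (kgi xgi9 ygi18 zgi19) (kgi xgi21 ygi18 zgi55) (kgi xgi21 ygi46 zgi11) (kgi xgi21 ygi45 zgi29) (kgi xgi12 ygi37 zgi12) (kgi xgi21 ygi33 zgi4) (kgi xgi12 ygi13 zgi31) (kgi xgi12 ygi42 zgi54)) (@D3.rec (fun _ => Pt) (kgi xgi20 ygi15 zgi4) (kgi xgi6 ygi37 zgi5) (kgi xgi21 ygi42 zgi58) (kgi xgi21 ygi46 zgi23) (kgi xgi17 ygi21 zgi35) (kgi xgi21 ygi42 zgi55) (kgi xgi21 ygi46 zgi30) (kgi xgi21 ygi46 zgi32) (kgi xgi21 ygi44 zgi29) (kgi xgi6 ygi37 zgi13) (kgi xgi21 ygi18 zgi51) (kgi xgi16 ygi3 zgi10) (kgi xgi6 ygi37 zgi11) (kgi xgi6 ygi37 zgi14) (kgi xgi12 ygi48 zgi26) (kgi xgi17 ygi16 zgi1) (kgi xgi21 ygi8 zgi19) (kgi xgi9 ygi32 zgi45) (kgi xgi21 ygi46 zgi41) (kgi xgi21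 ygi18 zgi59) (kgi xgi21 ygi46 zgi37) (kgi xgi16 ygi0 zgi59) (kgi xgi21 ygi18 zgi57) (kgi xgi21 ygi46 zgi45) (kgi xgi21 ygi46 zgi48) (kgi xgi21 ygi46 zgi51) (kgi xgi21 ygi46 zgi47) (kgi xgi6 ygi37 zgi20) (kgi xgi15 ygi44 zgi30) (kgi xgi21 ygi46 zgi56) (kgi xgi17 ygi55 zgi35) (kgi xgi14 ygi56 zgi2) (kgi xgi6 ygi37 zgi21) (kgi xgi15 ygi44 zgi53) (kgi xgi21 ygi46 zgi26) (kgi xgi21 ygi47 zgi2) (kgi xgi21 ygi43 zgi3) (kgi xgi9 ygi7 zgi12) (kgi xgi21 ygi47 zgi6) (kgi xgi11 ygi55 zgi49) (kgi xgi6 ygi40 zgi61) (kgi xgi12 ygi14 zgi43) (kgi xgi21 ygi47 zgi5) (kgi xgi11 ygi50 zgi1) (kgi xgi18 ygi24 zgi6) (kgi xgi6 ygi37 zgi29) (kgi xgi21 ygi47 zgi8) (kgi xgi21 ygi47 zgi11) (kgi xgi17 ygi5 zgi44) (kgi xgi6 ygi40 zgi26) (kgi xgi12 ygi14 zgi36)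 (kgi xgi16 ygi49 zgi38) (kgi xgi6 ygi44 zgi19) (kgi xgi21 ygi47 zgi15) (kgi xgi9 ygi49 zgi53) (kgi xgi21 ygi40 zgi47) (kgi xgi17 ygi48 zgi30) (kgi xgi20 ygi51 zgi35) (kgi xgi18 ygi38 zgi3) (kgi xgi6 ygi37 zgi39) (kgi xgi6 ygi37 zgi46) (kgi xgi21 ygi47 zgi21)) (@D3.rec (fun _ => Pt) (kgi xgi6 ygi37 zgi43) (kgi xgi21 ygi45 zgi44) (kgi xgi6 ygi37 zgi42) (kgi xgi21 ygi47 zgi19) (kgi xgi21 ygi47 zgi26) (kgi xgi18 ygi0 zgi8) (kgi xgi18 ygi0 zgi57) (kgi xgi20 ygi51 zgi23) (kgi xgi21 ygi47 zgi30) (kgi xgi14 ygi14 zgi5) (kgi xgi21 ygi47 zgi29) (kgi xgi10 ygi22 zgi39) (kgi xgi6 ygi37 zgi45) (kgi xgi21 ygi47 zgi23) (kgi xgi21 ygi47 zgi38) (kgi xgi13 ygi46 zgi7) (kgi xgi9 ygi20 zgi45) (kgi xgi21 ygi47 zgi43) (kgi xgi21 ygi47 zgi45) (kgi xgi21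 ygi47 zgi47) (kgi xgi14 ygi37 zgi4) (kgi xgi21 ygi45 zgi43) (kgi xgi6 ygi37 zgi49) (kgi xgi21 ygi43 zgi13) (kgi xgi21 ygi48 zgi0) (kgi xgi21 ygi43 zgi11) (kgi xgi6 ygi37 zgi51) (kgi xgi21 ygi48 zgi7) (kgi xgi6 ygi37 zgi52) (kgi xgi6 ygi37 zgi53) (kgi xgi21 ygi48 zgi14) (kgi xgi21 ygi48 zgi19) (kgi xgi21 ygi48 zgi13) (kgi xgi20 ygi2 zgi47) (kgi xgi21 ygi20 zgi47) (kgi xgi12 ygi37 zgi26) (kgi xgi12 ygi3 zgi14) (kgi xgi21 ygi48 zgi29) (kgi xgi11 ygi46 zgi40) (kgi xgi12 ygi43 zgi20) (kgi xgi16 ygi13 zgi61) (kgi xgi6 ygi37 zgi57) (kgi xgi21 ygi43 zgi22) (kgi xgi21 ygi48 zgi40) (kgi xgi20 ygi2 zgi50) (kgi xgi21 ygi43 zgi18) (kgi xgi21 ygi48 zgi47) (kgi xgi6 ygi37 zgi59) (kgi xgi6 ygi38 zgi2) (kgi xgi20 ygi2 zgi48) (kgi xgi21 ygi48 zgi51)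 (kgi xgi12 ygi16 zgi13) (kgi xgi12 ygi16 zgi38) (kgi xgi7 ygi54 zgi22) (kgi xgi13 ygi15 zgi58) (kgi xgi10 ygi13 zgi34) (kgi xgi21 ygi48 zgi58) (kgi xgi21 ygi21 zgi42) (kgi xgi21 ygi49 zgi0) (kgi xgi12 ygi2 zgi48) (kgi xgi19 ygi16 zgi48) (kgi xgi21 ygi48 zgi61)) (@D3.rec (fun _ => Pt) (kgi xgi21 ygi49 zgi7) (kgi xgi21 ygi21 zgi49) (kgi xgi21 ygi49 zgi12) (kgi xgi21 ygi21 zgi50) (kgi xgi8 ygi21 zgi17) (kgi xgi8 ygi21 zgi32) (kgi xgi21 ygi49 zgi20) (kgi xgi6 ygi38 zgi11) (kgi xgi21 ygi43 zgi33) (kgi xgi21 ygi48 zgi44) (kgi xgi21 ygi49 zgi30) (kgi xgi12 ygi16 zgi37) (kgi xgi9 ygi49 zgi12) (kgi xgi11 ygi44 zgi5) (kgi xgi7 ygi44 zgi33) (kgi xgi6 ygi38 zgi16) (kgi xgi21 ygi8 zgi1) (kgi xgi6 ygi40 zgi36) (kgi xgi7 ygi44 zgi21) (kgi xgi21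 ygi49 zgi35) (kgi xgi12 ygi12 zgi28) (kgi xgi6 ygi38 zgi21) (kgi xgi6 ygi38 zgi28) (kgi xgi6 ygi38 zgi25) (kgi xgi14 ygi21 zgi5) (kgi xgi14 ygi2 zgi57) (kgi xgi7 ygi38 zgi29) (kgi xgi6 ygi38 zgi24) (kgi xgi12 ygi59 zgi2) (kgi xgi12 ygi14 zgi9) (kgi xgi12 ygi23 zgi26) (kgi xgi14 ygi16 zgi8) (kgi xgi21 ygi17 zgi50) (kgi xgi17 ygi25 zgi43) (kgi xgi21 ygi43 zgi52) (kgi xgi11 ygi46 zgi51) (kgi xgi12 ygi4 zgi50) (kgi xgi12 ygi2 zgi47) (kgi xgi6 ygi38 zgi27) (kgi xgi12 ygi4 zgi44) (kgi xgi21 ygi49 zgi56) (kgi xgi21 ygi17 zgi48) (kgi xgi13 ygi20 zgi40) (kgi xgi12 ygi45 zgi2) (kgi xgi21 ygi49 zgi60) (kgi xgi17 ygi5 zgi42) (kgi xgi12 ygi45 zgi39) (kgi xgi6 ygi38 zgi31) (kgi xgi21 ygi5 zgi27) (kgi xgi21 ygi5 zgi41) (kgi xgi21 ygi40 zgi33) (kgi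 xgi6 ygi38 zgi35) (kgi xgi21 ygi50 zgi5) (kgi xgi21 ygi50 zgi10) (kgi xgi12 ygi39 zgi58) (kgi xgi21 ygi22 zgi34) (kgi xgi14 ygi11 zgi26) (kgi xgi9 ygi48 zgi51) (kgi xgi18 ygi15 zgi34) (kgi xgi9 ygi44 zgi19) (kgi xgi12 ygi24 zgi14) (kgi xgi21 ygi43 zgi60)) (@D3.rec (fun _ => Pt) (kgi xgi12 ygi55 zgi10) (kgi xgi9 ygi49 zgi0) (kgi xgi18 ygi38 zgi26) (kgi xgi11 ygi50 zgi61) (kgi xgi9 ygi14 zgi22) (kgi xgi10 ygi53 zgi5) (kgi xgi12 ygi53 zgi31) (kgi xgi14 ygi36 zgi9) (kgi xgi12 ygi2 zgi29) (kgi xgi6 ygi38 zgi45) (kgi xgi21 ygi43 zgi47) (kgi xgi21 ygi50 zgi23) (kgi xgi21 ygi43 zgi44) (kgi xgi6 ygi39 zgi4) (kgi xgi18 ygi13 zgi44) (kgi xgi21 ygi50 zgi28) (kgi xgi6 ygi38 zgi49) (kgi xgi21 ygi21 zgi39) (kgi xgi21 ygi50 zgi34) (kgi xgi21 ygi21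 zgi55) (kgi xgi12 ygi41 zgi35) (kgi xgi15 ygi21 zgi38) (kgi xgi11 ygi43 zgi40) (kgi xgi18 ygi16 zgi43) (kgi xgi13 ygi1 zgi9) (kgi xgi17 ygi58 zgi0) (kgi xgi18 ygi25 zgi29) (kgi xgi9 ygi50 zgi21) (kgi xgi17 ygi58 zgi2) (kgi xgi6 ygi38 zgi55) (kgi xgi12 ygi53 zgi26) (kgi xgi18 ygi25 zgi51) (kgi xgi6 ygi38 zgi58) (kgi xgi15 ygi48 zgi50) (kgi xgi15 ygi49 zgi14) (kgi xgi18 ygi16 zgi53) (kgi xgi6 ygi38 zgi60) (kgi xgi8 ygi40 zgi52) (kgi xgi15 ygi49 zgi33) (kgi xgi6 ygi39 zgi26) (kgi xgi9 ygi50 zgi19) (kgi xgi21 ygi50 zgi51) (kgi xgi16 ygi23 zgi60) (kgi xgi17 ygi5 zgi28) (kgi xgi21 ygi50 zgi54) (kgi xgi17 ygi5 zgi25) (kgi xgi20 ygi51 zgi6) (kgi xgi6 ygi39 zgi25) (kgi xgi17 ygi5 zgi32) (kgi xgi21 ygi50 zgi59) (kgi xgi17 ygi5 zgi29) (kgi xgi6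 ygi39 zgi6) (kgi xgi6 ygi39 zgi21) (kgi xgi21 ygi51 zgi5) (kgi xgi6 ygi39 zgi18) (kgi xgi17 ygi5 zgi35) (kgi xgi21 ygi51 zgi8) (kgi xgi18 ygi16 zgi51) (kgi xgi18 ygi16 zgi41) (kgi xgi6 ygi47 zgi17) (kgi xgi21 ygi44 zgi40) (kgi xgi12 ygi32 zgi51)) (@D3.rec (fun _ => Pt) (kgi xgi6 ygi39 zgi9) (kgi xgi6 ygi39 zgi33) (kgi xgi20 ygi58 zgi15) (kgi xgi6 ygi39 zgi30) (kgi xgi20 ygi40 zgi25) (kgi xgi21 ygi51 zgi19) (kgi xgi6 ygi39 zgi12) (kgi xgi6 ygi39 zgi14) (kgi xgi10 ygi6 zgi23) (kgi xgi6 ygi39 zgi15) (kgi xgi17 ygi5 zgi48) (kgi xgi16 ygi7 zgi14) (kgi xgi7 ygi36 zgi4) (kgi xgi11 ygi48 zgi17) (kgi xgi16 ygi30 zgi44) (kgi xgi21 ygi51 zgi28) (kgi xgi16 ygi30 zgi42) (kgi xgi21 ygi51 zgi21) (kgi xgi21 ygi51 zgi33) (kgi xgi21 ygi7 zgi18) (kgi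 xgi21 ygi51 zgi31) (kgi xgi21 ygi51 zgi32) (kgi xgi20 ygi2 zgi2) (kgi xgi6 ygi39 zgi20) (kgi xgi21 ygi51 zgi6) (kgi xgi13 ygi22 zgi56) (kgi xgi21 ygi51 zgi4) (kgi xgi6 ygi39 zgi22) (kgi xgi19 ygi59 zgi58) (kgi xgi6 ygi39 zgi23) (kgi xgi12 ygi58 zgi3) (kgi xgi6 ygi39 zgi24) (kgi xgi6 ygi39 zgi28) (kgi xgi21 ygi51 zgi47) (kgi xgi21 ygi51 zgi48) (kgi xgi18 ygi16 zgi19) (kgi xgi17 ygi9 zgi31) (kgi xgi12 ygi47 zgi5) (kgi xgi21 ygi51 zgi53) (kgi xgi21 ygi49 zgi44) (kgi xgi21 ygi0 zgi4) (kgi xgi21 ygi50 zgi44) (kgi xgi15 ygi56 zgi40) (kgi xgi21 ygi51 zgi60) (kgi xgi6 ygi39 zgi29) (kgi xgi12 ygi26 zgi14) (kgi xgi21 ygi50 zgi47) (kgi xgi20 ygi16 zgi44) (kgi xgi21 ygi52 zgi2) (kgi xgi17 ygi0 zgi13) (kgi xgi21 ygi52 zgi5) (kgi xgi20 ygi16 zgi12)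 (kgi xgi15 ygi56 zgi22) (kgi xgi17 ygi9 zgi48) (kgi xgi16 ygi25 zgi22) (kgi xgi6 ygi39 zgi32) (kgi xgi21 ygi51 zgi17) (kgi xgi12 ygi9 zgi9) (kgi xgi21 ygi52 zgi12) (kgi xgi21 ygi1 zgi34) (kgi xgi20 ygi14 zgi26) (kgi xgi17 ygi26 zgi41)) (@D3.rec (fun _ => Pt) (kgi xgi6 ygi39 zgi35) (kgi xgi6 ygi39 zgi55) (kgi xgi12 ygi42 zgi46) (kgi xgi7 ygi44 zgi25) (kgi xgi21 ygi25 zgi59) (kgi xgi12 ygi14 zgi11) (kgi xgi7 ygi44 zgi32) (kgi xgi6 ygi39 zgi38) (kgi xgi21 ygi7 zgi31) (kgi xgi16 ygi17 zgi49) (kgi xgi21 ygi7 zgi29) (kgi xgi20 ygi5 zgi45) (kgi xgi12 ygi14 zgi30) (kgi xgi9 ygi13 zgi1) (kgi xgi21 ygi44 zgi36) (kgi xgi6 ygi39 zgi42) (kgi xgi21 ygi7 zgi23) (kgi xgi21 ygi7 zgi21) (kgi xgi6 ygi49 zgi60) (kgi xgi9 ygi25 zgi56) (kgi xgi6 ygi39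 zgi46) (kgi xgi11 ygi43 zgi25) (kgi xgi21 ygi52 zgi29) (kgi xgi11 ygi45 zgi36) (kgi xgi21 ygi52 zgi31) (kgi xgi21 ygi52 zgi34) (kgi xgi11 ygi46 zgi25) (kgi xgi7 ygi44 zgi15) (kgi xgi6 ygi39 zgi49) (kgi xgi7 ygi45 zgi18) (kgi xgi21 ygi52 zgi46) (kgi xgi7 ygi45 zgi27) (kgi xgi6 ygi39 zgi51) (kgi xgi21 ygi52 zgi51) (kgi xgi6 ygi39 zgi52) (kgi xgi6 ygi39 zgi54) (kgi xgi14 ygi24 zgi11) (kgi xgi20 ygi35 zgi45) (kgi xgi12 ygi53 zgi3) (kgi xgi12 ygi42 zgi43) (kgi xgi21 ygi7 zgi20) (kgi xgi21 ygi52 zgi60) (kgi xgi21 ygi35 zgi30) (kgi xgi20 ygi5 zgi41) (kgi xgi21 ygi52 zgi59) (kgi xgi14 ygi45 zgi15) (kgi xgi6 ygi39 zgi58) (kgi xgi21 ygi44 zgi38) (kgi xgi21 ygi53 zgi1) (kgi xgi21 ygi53 zgi3) (kgi xgi21 ygi44 zgi37) (kgi xgi21 ygi44 zgi54) (kgi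 xgi7 ygi44 zgi35) (kgi xgi12 ygi14 zgi44) (kgi xgi7 ygi0 zgi28) (kgi xgi21 ygi53 zgi12) (kgi xgi21 ygi35 zgi33) (kgi xgi21 ygi53 zgi11) (kgi xgi6 ygi40 zgi1) (kgi xgi21 ygi53 zgi19) (kgi xgi14 ygi16 zgi15) (kgi xgi6 ygi40 zgi23)) (@D3.rec (fun _ => Pt) (kgi xgi13 ygi19 zgi8) (kgi xgi21 ygi44 zgi44) (kgi xgi6 ygi40 zgi4) (kgi xgi21 ygi53 zgi25) (kgi xgi6 ygi40 zgi5) (kgi xgi21 ygi44 zgi43) (kgi xgi21 ygi9 zgi40) (kgi xgi21 ygi41 zgi4) (kgi xgi21 ygi28 zgi58) (kgi xgi6 ygi40 zgi51) (kgi xgi12 ygi9 zgi0) (kgi xgi6 ygi41 zgi6) (kgi xgi12 ygi28 zgi53) (kgi xgi20 ygi9 zgi51) (kgi xgi6 ygi40 zgi10) (kgi xgi6 ygi40 zgi18) (kgi xgi13 ygi38 zgi39) (kgi xgi7 ygi17 zgi15) (kgi xgi21 ygi9 zgi31) (kgi xgi11 ygi24 zgi0) (kgi xgi16 ygi6 zgi45) (kgi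 xgi16 ygi52 zgi53) (kgi xgi21 ygi53 zgi36) (kgi xgi6 ygi40 zgi19) (kgi xgi21 ygi44 zgi49) (kgi xgi20 ygi36 zgi14) (kgi xgi21 ygi44 zgi46) (kgi xgi14 ygi12 zgi21) (kgi xgi21 ygi43 zgi37) (kgi xgi21 ygi18 zgi41) (kgi xgi21 ygi49 zgi37) (kgi xgi6 ygi40 zgi24) (kgi xgi6 ygi40 zgi27) (kgi xgi21 ygi53 zgi45) (kgi xgi6 ygi40 zgi25) (kgi xgi20 ygi36 zgi12) (kgi xgi21 ygi53 zgi49) (kgi xgi21 ygi44 zgi52) (kgi xgi18 ygi15 zgi33) (kgi xgi21 ygi53 zgi53) (kgi xgi9 ygi25 zgi32) (kgi xgi16 ygi36 zgi0) (kgi xgi20 ygi31 zgi36) (kgi xgi20 ygi26 zgi25) (kgi xgi8 ygi52 zgi18) (kgi xgi21 ygi53 zgi58) (kgi xgi6 ygi40 zgi34) (kgi xgi21 ygi44 zgi39) (kgi xgi21 ygi54 zgi5) (kgi xgi21 ygi54 zgi7) (kgi xgi6 ygi40 zgi37) (kgi xgi6 ygi40 zgi39) (kgi xgi21 ygi54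 zgi11) (kgi xgi21 ygi54 zgi16) (kgi xgi13 ygi7 zgi56) (kgi xgi21 ygi54 zgi21) (kgi xgi21 ygi43 zgi38) (kgi xgi12 ygi39 zgi10) (kgi xgi16 ygi8 zgi60) (kgi xgi14 ygi34 zgi5) (kgi xgi7 ygi46 zgi8) (kgi xgi6 ygi40 zgi45)) (@D3.rec (fun _ => Pt) (kgi xgi14 ygi11 zgi29) (kgi xgi14 ygi11 zgi33) (kgi xgi21 ygi32 zgi45) (kgi xgi12 ygi38 zgi18) (kgi xgi21 ygi54 zgi30) (kgi xgi18 ygi16 zgi14) (kgi xgi18 ygi50 zgi35) (kgi xgi19 ygi48 zgi47) (kgi xgi19 ygi48 zgi46) (kgi xgi21 ygi54 zgi34) (kgi xgi21 ygi54 zgi35) (kgi xgi8 ygi25 zgi36) (kgi xgi10 ygi13 zgi19) (kgi xgi18 ygi0 zgi34) (kgi xgi21 ygi54 zgi41) (kgi xgi13 ygi14 zgi18) (kgi xgi7 ygi12 zgi19) (kgi xgi14 ygi16 zgi50) (kgi xgi12 ygi43 zgi57) (kgi xgi18 ygi15 zgi29) (kgi xgi21 ygi25 zgi51)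 (kgi xgi21 ygi25 zgi56) (kgi xgi18 ygi38 zgi9) (kgi xgi6 ygi44 zgi45) (kgi xgi18 ygi37 zgi10) (kgi xgi21 ygi47 zgi16) (kgi xgi21 ygi44 zgi59) (kgi xgi21 ygi42 zgi50) (kgi xgi6 ygi41 zgi4) (kgi xgi20 ygi47 zgi25) (kgi xgi16 ygi54 zgi8) (kgi xgi21 ygi54 zgi55) (kgi xgi6 ygi41 zgi5) (kgi xgi21 ygi54 zgi50) (kgi xgi21 ygi54 zgi59) (kgi xgi21 ygi54 zgi48) (kgi xgi21 ygi55 zgi0) (kgi xgi8 ygi51 zgi17) (kgi xgi11 ygi18 zgi53) (kgi xgi8 ygi25 zgi38) (kgi xgi12 ygi35 zgi59) (kgi xgi6 ygi41 zgi11) (kgi xgi18 ygi29 zgi36) (kgi xgi13 ygi14 zgi39) (kgi xgi7 ygi54 zgi47) (kgi xgi21 ygi32 zgi22) (kgi xgi15 ygi24 zgi57) (kgi xgi6 ygi41 zgi19) (kgi xgi7 ygi45 zgi31) (kgi xgi21 ygi55 zgi10) (kgi xgi12 ygi13 zgi19) (kgi xgi6 ygi41 zgi20) (kgi xgi14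 ygi0 zgi60) (kgi xgi21 ygi55 zgi12) (kgi xgi21 ygi55 zgi14) (kgi xgi12 ygi25 zgi34) (kgi xgi16 ygi5 zgi21) (kgi xgi16 ygi5 zgi34) (kgi xgi14 ygi54 zgi36) (kgi xgi14 ygi21 zgi22) (kgi xgi16 ygi5 zgi53) (kgi xgi14 ygi54 zgi27)) (@D3.rec (fun _ => Pt) (kgi xgi14 ygi18 zgi55) (kgi xgi6 ygi41 zgi27) (kgi xgi13 ygi53 zgi28) (kgi xgi13 ygi25 zgi28) (kgi xgi6 ygi41 zgi28) (kgi xgi21 ygi40 zgi55) (kgi xgi21 ygi54 zgi27) (kgi xgi21 ygi55 zgi29) (kgi xgi21 ygi55 zgi31) (kgi xgi21 ygi55 zgi33) (kgi xgi21 ygi27 zgi48) (kgi xgi21 ygi55 zgi37) (kgi xgi7 ygi19 zgi34) (kgi xgi6 ygi41 zgi33) (kgi xgi16 ygi2 zgi43) (kgi xgi21 ygi8 zgi39) (kgi xgi7 ygi30 zgi8) (kgi xgi21 ygi55 zgi52) (kgi xgi21 ygi55 zgi54) (kgi xgi18 ygi23 zgi3) (kgi xgi6 ygi41 zgi37)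 (kgi xgi21 ygi8 zgi44) (kgi xgi14 ygi54 zgi38) (kgi xgi21 ygi56 zgi3) (kgi xgi15 ygi45 zgi19) (kgi xgi21 ygi56 zgi8) (kgi xgi12 ygi40 zgi19) (kgi xgi9 ygi29 zgi2) (kgi xgi6 ygi41 zgi40) (kgi xgi21 ygi8 zgi46) (kgi xgi16 ygi6 zgi37) (kgi xgi21 ygi56 zgi17) (kgi xgi21 ygi56 zgi20) (kgi xgi15 ygi43 zgi16) (kgi xgi8 ygi22 zgi24) (kgi xgi14 ygi54 zgi26) (kgi xgi13 ygi0 zgi42) (kgi xgi12 ygi21 zgi28) (kgi xgi12 ygi18 zgi13) (kgi xgi14 ygi54 zgi43) (kgi xgi21 ygi56 zgi28) (kgi xgi21 ygi56 zgi35) (kgi xgi21 ygi8 zgi56) (kgi xgi6 ygi41 zgi46) (kgi xgi21 ygi8 zgi55) (kgi xgi21 ygi56 zgi44) (kgi xgi13 ygi26 zgi9) (kgi xgi21 ygi55 zgi61) (kgi xgi21 ygi56 zgi53) (kgi xgi11 ygi3 zgi58) (kgi xgi21 ygi56 zgi58) (kgi xgi13 ygi46 zgi32) (kgi xgi21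 ygi57 zgi1) (kgi xgi6 ygi41 zgi50) (kgi xgi21 ygi41 zgi2) (kgi xgi19 ygi56 zgi32) (kgi xgi20 ygi26 zgi2) (kgi xgi6 ygi50 zgi20) (kgi xgi6 ygi41 zgi53) (kgi xgi16 ygi57 zgi54) (kgi xgi21 ygi11 zgi16) (kgi xgi14 ygi20 zgi16)) (@D3.rec (fun _ => Pt) (kgi xgi12 ygi29 zgi15) (kgi xgi20 ygi43 zgi33) (kgi xgi9 ygi13 zgi42) (kgi xgi20 ygi4 zgi6) (kgi xgi12 ygi26 zgi47) (kgi xgi12 ygi26 zgi48) (kgi xgi21 ygi57 zgi16) (kgi xgi21 ygi57 zgi19) (kgi xgi12 ygi23 zgi40) (kgi xgi6 ygi42 zgi11) (kgi xgi17 ygi29 zgi50) (kgi xgi9 ygi25 zgi7) (kgi xgi12 ygi31 zgi30) (kgi xgi21 ygi46 zgi4) (kgi xgi21 ygi57 zgi28) (kgi xgi6 ygi42 zgi5) (kgi xgi18 ygi43 zgi9) (kgi xgi21 ygi57 zgi36) (kgi xgi21 ygi57 zgi27) (kgi xgi6 ygi42 zgi6) (kgi xgi21 ygi57 zgi41) (kgi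 xgi12 ygi24 zgi53) (kgi xgi10 ygi4 zgi46) (kgi xgi8 ygi0 zgi2) (kgi xgi6 ygi42 zgi12) (kgi xgi6 ygi42 zgi22) (kgi xgi8 ygi0 zgi15) (kgi xgi8 ygi50 zgi45) (kgi xgi12 ygi31 zgi32) (kgi xgi20 ygi6 zgi57) (kgi xgi11 ygi6 zgi40) (kgi xgi15 ygi5 zgi18) (kgi xgi21 ygi57 zgi25) (kgi xgi6 ygi55 zgi15) (kgi xgi17 ygi34 zgi24) (kgi xgi19 ygi32 zgi30) (kgi xgi13 ygi55 zgi42) (kgi xgi17 ygi54 zgi48) (kgi xgi18 ygi1 zgi29) (kgi xgi6 ygi42 zgi16) (kgi xgi16 ygi49 zgi22) (kgi xgi14 ygi50 zgi12) (kgi xgi6 ygi42 zgi18) (kgi xgi14 ygi1 zgi35) (kgi xgi21 ygi57 zgi60) (kgi xgi21 ygi58 zgi0) (kgi xgi12 ygi16 zgi57) (kgi xgi6 ygi42 zgi20) (kgi xgi6 ygi42 zgi23) (kgi xgi11 ygi2 zgi6) (kgi xgi16 ygi46 zgi61) (kgi xgi15 ygi5 zgi19) (kgi xgi21 ygi58 zgi2) (kgi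 xgi21 ygi57 zgi26) (kgi xgi21 ygi36 zgi2) (kgi xgi20 ygi44 zgi4) (kgi xgi21 ygi58 zgi10) (kgi xgi21 ygi58 zgi13) (kgi xgi20 ygi29 zgi12) (kgi xgi19 ygi24 zgi15) (kgi xgi6 ygi42 zgi28) (kgi xgi14 ygi4 zgi21)) (@D3.rec (fun _ => Pt) (kgi xgi20 ygi33 zgi5) (kgi xgi21 ygi58 zgi1) (kgi xgi12 ygi17 zgi42) (kgi xgi21 ygi58 zgi20) (kgi xgi13 ygi1 zgi29) (kgi xgi17 ygi13 zgi39) (kgi xgi11 ygi59 zgi4) (kgi xgi20 ygi49 zgi37) (kgi xgi12 ygi55 zgi58) (kgi xgi19 ygi49 zgi28) (kgi xgi16 ygi16 zgi33) (kgi xgi17 ygi40 zgi42) (kgi xgi6 ygi42 zgi42) (kgi xgi21 ygi58 zgi26) (kgi xgi21 ygi25 zgi60) (kgi xgi6 ygi42 zgi41) (kgi xgi17 ygi36 zgi58) (kgi xgi21 ygi58 zgi25) (kgi xgi21 ygi58 zgi30) (kgi xgi21 ygi33 zgi61) (kgi xgi12 ygi19 zgi56) (kgi xgi6 ygi42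 zgi45) (kgi xgi21 ygi58 zgi35) (kgi xgi21 ygi58 zgi39) (kgi xgi21 ygi58 zgi43) (kgi xgi17 ygi39 zgi23) (kgi xgi6 ygi42 zgi46) (kgi xgi17 ygi42 zgi54) (kgi xgi19 ygi49 zgi30) (kgi xgi21 ygi58 zgi49) (kgi xgi21 ygi22 zgi54) (kgi xgi19 ygi35 zgi50) (kgi xgi19 ygi41 zgi10) (kgi xgi7 ygi31 zgi16) (kgi xgi6 ygi42 zgi50) (kgi xgi16 ygi0 zgi0) (kgi xgi21 ygi58 zgi56) (kgi xgi21 ygi21 zgi36) (kgi xgi21 ygi58 zgi59) (kgi xgi6 ygi42 zgi53) (kgi xgi17 ygi29 zgi29) (kgi xgi17 ygi29 zgi27) (kgi xgi6 ygi42 zgi54) (kgi xgi17 ygi29 zgi26) (kgi xgi17 ygi29 zgi24) (kgi xgi21 ygi59 zgi7) (kgi xgi15 ygi35 zgi14) (kgi xgi6 ygi42 zgi58) (kgi xgi12 ygi18 zgi1) (kgi xgi21 ygi33 zgi56) (kgi xgi21 ygi23 zgi9) (kgi xgi21 ygi59 zgi15) (kgi xgi21 ygi22 zgi43)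 (kgi xgi6 ygi43 zgi0) (kgi xgi6 ygi43 zgi2) (kgi xgi21 ygi59 zgi22) (kgi xgi21 ygi59 zgi26) (kgi xgi21 ygi22 zgi33) (kgi xgi12 ygi52 zgi37) (kgi xgi6 ygi43 zgi4) (kgi xgi21 ygi59 zgi8) (kgi xgi21 ygi59 zgi25)) (@D3.rec (fun _ => Pt) (kgi xgi21 ygi53 zgi17) (kgi xgi18 ygi39 zgi23) (kgi xgi21 ygi59 zgi40) (kgi xgi6 ygi43 zgi3) (kgi xgi21 ygi59 zgi17) (kgi xgi20 ygi48 zgi52) (kgi xgi21 ygi59 zgi48) (kgi xgi21 ygi54 zgi10) (kgi xgi21 ygi59 zgi51) (kgi xgi21 ygi34 zgi9) (kgi xgi15 ygi26 zgi52) (kgi xgi6 ygi43 zgi7) (kgi xgi16 ygi6 zgi51) (kgi xgi16 ygi57 zgi20) (kgi xgi7 ygi0 zgi27) (kgi xgi17 ygi19 zgi19) (kgi xgi14 ygi10 zgi24) (kgi xgi17 ygi20 zgi54) (kgi xgi21 ygi59 zgi60) (kgi xgi6 ygi43 zgi28) (kgi xgi21 ygi40 zgi27) (kgi xgi17 ygi20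 zgi46) (kgi xgi6 ygi43 zgi16) (kgi xgi6 ygi43 zgi36) (kgi xgi22 ygi0 zgi10) (kgi xgi13 ygi1 zgi18) (kgi xgi9 ygi17 zgi1) (kgi xgi6 ygi43 zgi18) (kgi xgi6 ygi43 zgi50) (kgi xgi22 ygi0 zgi19) (kgi xgi22 ygi0 zgi22) (kgi xgi9 ygi25 zgi6) (kgi xgi17 ygi21 zgi26) (kgi xgi12 ygi37 zgi15) (kgi xgi11 ygi45 zgi35) (kgi xgi6 ygi43 zgi21) (kgi xgi7 ygi34 zgi12) (kgi xgi22 ygi0 zgi33) (kgi xgi22 ygi0 zgi36) (kgi xgi7 ygi34 zgi50) (kgi xgi7 ygi37 zgi24) (kgi xgi22 ygi0 zgi41) (kgi xgi13 ygi29 zgi53) (kgi xgi14 ygi13 zgi35) (kgi xgi6 ygi43 zgi27) (kgi xgi14 ygi41 zgi39) (kgi xgi22 ygi0 zgi51) (kgi xgi22 ygi0 zgi1) (kgi xgi22 ygi0 zgi56) (kgi xgi6 ygi43 zgi30) (kgi xgi6 ygi43 zgi32) (kgi xgi22 ygi1 zgi0) (kgi xgi22 ygi1 zgi3) (kgi xgi22 ygi0 zgi61)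 (kgi xgi22 ygi1 zgi9) (kgi xgi14 ygi25 zgi56) (kgi xgi22 ygi1 zgi15) (kgi xgi12 ygi4 zgi47) (kgi xgi10 ygi26 zgi18) (kgi xgi21 ygi52 zgi50) (kgi xgi22 ygi1 zgi14) (kgi xgi22 ygi1 zgi24)) (@D3.rec (fun _ => Pt) (kgi xgi6 ygi43 zgi35) (kgi xgi17 ygi27 zgi16) (kgi xgi22 ygi1 zgi33) (kgi xgi17 ygi27 zgi38) (kgi xgi22 ygi0 zgi9) (kgi xgi22 ygi1 zgi40) (kgi xgi20 ygi44 zgi15) (kgi xgi17 ygi26 zgi36) (kgi xgi22 ygi1 zgi46) (kgi xgi22 ygi1 zgi49) (kgi xgi17 ygi27 zgi36) (kgi xgi12 ygi11 zgi38) (kgi xgi6 ygi43 zgi41) (kgi xgi6 ygi43 zgi44) (kgi xgi22 ygi1 zgi57) (kgi xgi22 ygi1 zgi60) (kgi xgi15 ygi43 zgi6) (kgi xgi12 ygi33 zgi47) (kgi xgi22 ygi2 zgi2) (kgi xgi22 ygi1 zgi59) (kgi xgi9 ygi16 zgi48) (kgi xgi22 ygi2 zgi8) (kgi xgi6 ygi50 zgi0)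 (kgi xgi22 ygi2 zgi11) (kgi xgi16 ygi3 zgi40) (kgi xgi22 ygi2 zgi10) (kgi xgi17 ygi17 zgi16) (kgi xgi6 ygi43 zgi48) (kgi xgi22 ygi2 zgi12) (kgi xgi21 ygi46 zgi14) (kgi xgi22 ygi2 zgi18) (kgi xgi21 ygi33 zgi14) (kgi xgi6 ygi43 zgi49) (kgi xgi17 ygi27 zgi20) (kgi xgi17 ygi26 zgi39) (kgi xgi10 ygi23 zgi37) (kgi xgi21 ygi0 zgi21) (kgi xgi22 ygi2 zgi27) (kgi xgi22 ygi2 zgi29) (kgi xgi6 ygi43 zgi55) (kgi xgi17 ygi30 zgi49) (kgi xgi17 ygi30 zgi47) (kgi xgi22 ygi2 zgi36) (kgi xgi10 ygi50 zgi48) (kgi xgi6 ygi43 zgi57) (kgi xgi17 ygi30 zgi39) (kgi xgi17 ygi30 zgi37) (kgi xgi17 ygi19 zgi26) (kgi xgi22 ygi2 zgi47) (kgi xgi6 ygi43 zgi59) (kgi xgi12 ygi26 zgi0) (kgi xgi13 ygi20 zgi37) (kgi xgi12 ygi25 zgi57) (kgi xgi12 ygi25 zgi56) (kgi xgi22 ygi2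 zgi56) (kgi xgi21 ygi32 zgi19) (kgi xgi12 ygi43 zgi28) (kgi xgi12 ygi46 zgi19) (kgi xgi6 ygi44 zgi3) (kgi xgi6 ygi44 zgi5) (kgi xgi22 ygi2 zgi60) (kgi xgi12 ygi45 zgi38)) (@D3.rec (fun _ => Pt) (kgi xgi6 ygi44 zgi7) (kgi xgi22 ygi2 zgi48) (kgi xgi22 ygi2 zgi59) (kgi xgi16 ygi31 zgi28) (kgi xgi21 ygi53 zgi48) (kgi xgi6 ygi44 zgi6) (kgi xgi21 ygi54 zgi1) (kgi xgi22 ygi3 zgi9) (kgi xgi20 ygi36 zgi15) (kgi xgi22 ygi3 zgi4) (kgi xgi16 ygi8 zgi59) (kgi xgi14 ygi56 zgi37) (kgi xgi20 ygi14 zgi36) (kgi xgi6 ygi51 zgi11) (kgi xgi11 ygi34 zgi48) (kgi xgi10 ygi18 zgi7) (kgi xgi17 ygi6 zgi16) (kgi xgi11 ygi43 zgi48) (kgi xgi17 ygi44 zgi61) (kgi xgi12 ygi43 zgi59) (kgi xgi17 ygi9 zgi39) (kgi xgi12 ygi28 zgi28) (kgi xgi6 ygi44 zgi25) (kgi xgi17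 ygi5 zgi7) (kgi xgi17 ygi5 zgi5) (kgi xgi21 ygi22 zgi13) (kgi xgi9 ygi11 zgi51) (kgi xgi10 ygi12 zgi42) (kgi xgi12 ygi43 zgi30) (kgi xgi17 ygi4 zgi32) (kgi xgi6 ygi44 zgi28) (kgi xgi19 ygi15 zgi3) (kgi xgi6 ygi45 zgi5) (kgi xgi6 ygi44 zgi50) (kgi xgi11 ygi24 zgi55) (kgi xgi14 ygi24 zgi5) (kgi xgi16 ygi9 zgi10) (kgi xgi12 ygi28 zgi25) (kgi xgi21 ygi20 zgi49) (kgi xgi10 ygi6 zgi15) (kgi xgi9 ygi11 zgi43) (kgi xgi21 ygi1 zgi36) (kgi xgi17 ygi6 zgi47) (kgi xgi11 ygi46 zgi39) (kgi xgi22 ygi3 zgi23) (kgi xgi6 ygi44 zgi38) (kgi xgi17 ygi4 zgi54) (kgi xgi21 ygi33 zgi8) (kgi xgi11 ygi51 zgi32) (kgi xgi20 ygi51 zgi11) (kgi xgi11 ygi15 zgi25) (kgi xgi20 ygi51 zgi15) (kgi xgi11 ygi56 zgi34) (kgi xgi6 ygi44 zgi43) (kgi xgi17 ygi5 zgi1) (kgi xgi11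 ygi14 zgi53) (kgi xgi22 ygi3 zgi40) (kgi xgi17 ygi4 zgi59) (kgi xgi22 ygi3 zgi43) (kgi xgi17 ygi7 zgi55) (kgi xgi21 ygi54 zgi51) (kgi xgi17 ygi5 zgi9)) (@D3.rec (fun _ => Pt) (kgi xgi18 ygi22 zgi13) (kgi xgi6 ygi51 zgi7) (kgi xgi19 ygi6 zgi55) (kgi xgi11 ygi20 zgi61) (kgi xgi21 ygi47 zgi14) (kgi xgi21 ygi1 zgi29) (kgi xgi6 ygi44 zgi55) (kgi xgi6 ygi45 zgi2) (kgi xgi21 ygi51 zgi45) (kgi xgi21 ygi0 zgi5) (kgi xgi16 ygi43 zgi32) (kgi xgi21 ygi51 zgi56) (kgi xgi6 ygi44 zgi58) (kgi xgi6 ygi45 zgi4) (kgi xgi22 ygi3 zgi59) (kgi xgi11 ygi53 zgi44) (kgi xgi22 ygi4 zgi2) (kgi xgi6 ygi44 zgi59) (kgi xgi16 ygi45 zgi22) (kgi xgi8 ygi59 zgi6) (kgi xgi17 ygi33 zgi18) (kgi xgi18 ygi45 zgi49) (kgi xgi21 ygi4 zgi4) (kgi xgi18 ygi15 zgi15) (kgi xgi21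 ygi51 zgi43) (kgi xgi22 ygi4 zgi9) (kgi xgi6 ygi45 zgi3) (kgi xgi12 ygi24 zgi20) (kgi xgi22 ygi3 zgi15) (kgi xgi11 ygi52 zgi27) (kgi xgi19 ygi47 zgi29) (kgi xgi11 ygi56 zgi29) (kgi xgi22 ygi4 zgi13) (kgi xgi11 ygi54 zgi0) (kgi xgi22 ygi4 zgi12) (kgi xgi21 ygi1 zgi40) (kgi xgi6 ygi45 zgi10) (kgi xgi21 ygi1 zgi21) (kgi xgi19 ygi14 zgi20) (kgi xgi16 ygi11 zgi11) (kgi xgi6 ygi45 zgi11) (kgi xgi21 ygi1 zgi17) (kgi xgi21 ygi52 zgi11) (kgi xgi22 ygi4 zgi23) (kgi xgi20 ygi16 zgi3) (kgi xgi17 ygi15 zgi47) (kgi xgi17 ygi33 zgi32) (kgi xgi11 ygi21 zgi7) (kgi xgi6 ygi45 zgi21) (kgi xgi11 ygi26 zgi1) (kgi xgi20 ygi51 zgi26) (kgi xgi6 ygi45 zgi17) (kgi xgi11 ygi57 zgi13) (kgi xgi6 ygi45 zgi19) (kgi xgi11 ygi57 zgi22) (kgi xgi22 ygi4 zgi38) (kgi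 xgi15 ygi44 zgi54) (kgi xgi6 ygi45 zgi20) (kgi xgi16 ygi51 zgi8) (kgi xgi10 ygi57 zgi54) (kgi xgi22 ygi4 zgi30) (kgi xgi12 ygi45 zgi3)) (@D3.rec (fun _ => Pt) (kgi xgi17 ygi32 zgi0) (kgi xgi22 ygi4 zgi47) (kgi xgi10 ygi43 zgi48) (kgi xgi19 ygi37 zgi8) (kgi xgi21 ygi9 zgi45) (kgi xgi9 ygi17 zgi39) (kgi xgi10 ygi49 zgi5) (kgi xgi22 ygi4 zgi55) (kgi xgi9 ygi17 zgi44) (kgi xgi18 ygi17 zgi38) (kgi xgi12 ygi43 zgi2) (kgi xgi6 ygi45 zgi32) (kgi xgi17 ygi33 zgi38) (kgi xgi17 ygi33 zgi36) (kgi xgi22 ygi5 zgi5) (kgi xgi17 ygi31 zgi50) (kgi xgi12 ygi46 zgi20) (kgi xgi12 ygi4 zgi4) (kgi xgi22 ygi5 zgi9) (kgi xgi13 ygi58 zgi39) (kgi xgi11 ygi56 zgi4) (kgi xgi20 ygi7 zgi37) (kgi xgi17 ygi1 zgi55) (kgi xgi20 ygi9 zgi11) (kgi xgi11 ygi57 zgi6) (kgi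 xgi10 ygi43 zgi21) (kgi xgi9 ygi17 zgi18) (kgi xgi17 ygi8 zgi34) (kgi xgi10 ygi43 zgi17) (kgi xgi16 ygi50 zgi53) (kgi xgi6 ygi45 zgi49) (kgi xgi17 ygi32 zgi15) (kgi xgi19 ygi47 zgi12) (kgi xgi19 ygi24 zgi22) (kgi xgi6 ygi45 zgi52) (kgi xgi17 ygi33 zgi16) (kgi xgi8 ygi11 zgi19) (kgi xgi6 ygi45 zgi54) (kgi xgi10 ygi44 zgi49) (kgi xgi7 ygi50 zgi49) (kgi xgi22 ygi5 zgi25) (kgi xgi8 ygi39 zgi45) (kgi xgi16 ygi57 zgi21) (kgi xgi6 ygi45 zgi57) (kgi xgi17 ygi33 zgi47) (kgi xgi14 ygi47 zgi13) (kgi xgi22 ygi5 zgi34) (kgi xgi8 ygi59 zgi8) (kgi xgi20 ygi53 zgi10) (kgi xgi20 ygi46 zgi9) (kgi xgi10 ygi43 zgi2) (kgi xgi11 ygi2 zgi14) (kgi xgi6 ygi46 zgi2) (kgi xgi10 ygi57 zgi34) (kgi xgi11 ygi1 zgi27) (kgi xgi15 ygi25 zgi28) (kgi xgi15 ygi24 zgi20)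 (kgi xgi8 ygi22 zgi30) (kgi xgi17 ygi32 zgi49) (kgi xgi6 ygi46 zgi7) (kgi xgi8 ygi10 zgi58) (kgi xgi17 ygi33 zgi48)) (@D3.rec (fun _ => Pt) (kgi xgi15 ygi27 zgi35) (kgi xgi6 ygi46 zgi8) (kgi xgi6 ygi46 zgi10) (kgi xgi22 ygi5 zgi49) (kgi xgi20 ygi51 zgi14) (kgi xgi9 ygi43 zgi5) (kgi xgi6 ygi46 zgi12) (kgi xgi8 ygi11 zgi39) (kgi xgi22 ygi5 zgi55) (kgi xgi22 ygi6 zgi2) (kgi xgi17 ygi12 zgi35) (kgi xgi6 ygi46 zgi11) (kgi xgi17 ygi12 zgi36) (kgi xgi22 ygi6 zgi4) (kgi xgi20 ygi44 zgi55) (kgi xgi22 ygi6 zgi7) (kgi xgi6 ygi46 zgi13) (kgi xgi11 ygi24 zgi8) (kgi xgi10 ygi5 zgi9) (kgi xgi22 ygi6 zgi8) (kgi xgi18 ygi24 zgi35) (kgi xgi10 ygi5 zgi48) (kgi xgi10 ygi45 zgi25) (kgi xgi17 ygi34 zgi38) (kgi xgi6 ygi50 zgi31) (kgi xgi6 ygi46 zgi28) (kgi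 xgi6 ygi51 zgi5) (kgi xgi22 ygi6 zgi10) (kgi xgi22 ygi6 zgi11) (kgi xgi11 ygi22 zgi52) (kgi xgi6 ygi51 zgi8) (kgi xgi12 ygi54 zgi2) (kgi xgi22 ygi6 zgi16) (kgi xgi19 ygi7 zgi8) (kgi xgi17 ygi52 zgi57) (kgi xgi6 ygi46 zgi37) (kgi xgi17 ygi34 zgi17) (kgi xgi15 ygi29 zgi55) (kgi xgi15 ygi24 zgi48) (kgi xgi8 ygi24 zgi31) (kgi xgi22 ygi6 zgi9) (kgi xgi20 ygi9 zgi19) (kgi xgi12 ygi51 zgi11) (kgi xgi6 ygi46 zgi43) (kgi xgi12 ygi58 zgi9) (kgi xgi15 ygi49 zgi47) (kgi xgi12 ygi25 zgi36) (kgi xgi12 ygi25 zgi41) (kgi xgi22 ygi6 zgi27) (kgi xgi9 ygi30 zgi22) (kgi xgi12 ygi3 zgi31) (kgi xgi10 ygi58 zgi35) (kgi xgi13 ygi1 zgi47) (kgi xgi9 ygi32 zgi34) (kgi xgi17 ygi16 zgi59) (kgi xgi20 ygi34 zgi15) (kgi xgi16 ygi56 zgi46) (kgi xgi9 ygi16 zgi54)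 (kgi xgi22 ygi6 zgi36) (kgi xgi9 ygi21 zgi24) (kgi xgi7 ygi34 zgi29) (kgi xgi22 ygi0 zgi35)) (@D3.rec (fun _ => Pt) (kgi xgi15 ygi30 zgi31) (kgi xgi17 ygi34 zgi10) (kgi xgi16 ygi57 zgi43) (kgi xgi6 ygi47 zgi4) (kgi xgi17 ygi34 zgi9) (kgi xgi22 ygi6 zgi47) (kgi xgi22 ygi6 zgi50) (kgi xgi6 ygi47 zgi5) (kgi xgi17 ygi26 zgi57) (kgi xgi22 ygi6 zgi55) (kgi xgi22 ygi0 zgi30) (kgi xgi17 ygi11 zgi55) (kgi xgi9 ygi16 zgi7) (kgi xgi22 ygi7 zgi0) (kgi xgi7 ygi34 zgi23) (kgi xgi17 ygi11 zgi57) (kgi xgi6 ygi47 zgi8) (kgi xgi15 ygi40 zgi30) (kgi xgi17 ygi17 zgi8) (kgi xgi20 ygi43 zgi56) (kgi xgi6 ygi47 zgi9) (kgi xgi22 ygi6 zgi38) (kgi xgi22 ygi7 zgi13) (kgi xgi22 ygi6 zgi35) (kgi xgi22 ygi0 zgi31) (kgi xgi22 ygi7 zgi16) (kgi xgi6 ygi47 zgi12) (kgi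 xgi22 ygi7 zgi20) (kgi xgi14 ygi16 zgi12) (kgi xgi9 ygi17 zgi34) (kgi xgi6 ygi47 zgi14) (kgi xgi9 ygi27 zgi42) (kgi xgi9 ygi24 zgi35) (kgi xgi20 ygi27 zgi23) (kgi xgi8 ygi32 zgi21) (kgi xgi22 ygi7 zgi27) (kgi xgi17 ygi20 zgi5) (kgi xgi9 ygi22 zgi2) (kgi xgi14 ygi35 zgi30) (kgi xgi6 ygi47 zgi19) (kgi xgi9 ygi6 zgi29) (kgi xgi6 ygi47 zgi24) (kgi xgi10 ygi43 zgi44) (kgi xgi21 ygi2 zgi8) (kgi xgi18 ygi1 zgi37) (kgi xgi22 ygi7 zgi34) (kgi xgi6 ygi47 zgi22) (kgi xgi10 ygi11 zgi13) (kgi xgi22 ygi7 zgi40) (kgi xgi15 ygi29 zgi10) (kgi xgi16 ygi58 zgi55) (kgi xgi20 ygi5 zgi23) (kgi xgi20 ygi23 zgi35) (kgi xgi14 ygi35 zgi29) (kgi xgi12 ygi17 zgi48) (kgi xgi21 ygi36 zgi33) (kgi xgi22 ygi7 zgi45) (kgi xgi6 ygi47 zgi26) (kgi xgi15 ygi2 zgi54) (kgi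 xgi6 ygi47 zgi28) (kgi xgi15 ygi24 zgi39) (kgi xgi17 ygi34 zgi40)) (@D3.rec (fun _ => Pt) (kgi xgi21 ygi52 zgi16) (kgi xgi22 ygi7 zgi56) (kgi xgi9 ygi17 zgi37) (kgi xgi21 ygi32 zgi44) (kgi xgi22 ygi7 zgi55) (kgi xgi11 ygi30 zgi4) (kgi xgi20 ygi6 zgi27) (kgi xgi15 ygi3 zgi34) (kgi xgi6 ygi47 zgi36) (kgi xgi12 ygi56 zgi43) (kgi xgi6 ygi47 zgi37) (kgi xgi6 ygi47 zgi59) (kgi xgi6 ygi50 zgi22) (kgi xgi22 ygi8 zgi5) (kgi xgi13 ygi0 zgi56) (kgi xgi6 ygi47 zgi41) (kgi xgi12 ygi24 zgi61) (kgi xgi12 ygi17 zgi39) (kgi xgi18 ygi16 zgi61) (kgi xgi6 ygi47 zgi45) (kgi xgi17 ygi34 zgi53) (kgi xgi14 ygi12 zgi6) (kgi xgi6 ygi47 zgi46) (kgi xgi17 ygi16 zgi10) (kgi xgi17 ygi45 zgi19) (kgi xgi17 ygi14 zgi55) (kgi xgi6 ygi47 zgi51) (kgi xgi17 ygi16 zgi49)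 (kgi xgi21 ygi46 zgi10) (kgi xgi19 ygi26 zgi8) (kgi xgi6 ygi47 zgi52) (kgi xgi7 ygi31 zgi44) (kgi xgi12 ygi40 zgi17) (kgi xgi7 ygi31 zgi42) (kgi xgi6 ygi47 zgi54) (kgi xgi12 ygi20 zgi24) (kgi xgi12 ygi35 zgi42) (kgi xgi6 ygi47 zgi55) (kgi xgi9 ygi10 zgi42) (kgi xgi17 ygi34 zgi61) (kgi xgi9 ygi10 zgi40) (kgi xgi12 ygi15 zgi3) (kgi xgi22 ygi8 zgi30) (kgi xgi22 ygi8 zgi34) (kgi xgi21 ygi20 zgi16) (kgi xgi22 ygi8 zgi33) (kgi xgi18 ygi50 zgi6) (kgi xgi6 ygi48 zgi0) (kgi xgi12 ygi44 zgi39) (kgi xgi12 ygi30 zgi43) (kgi xgi19 ygi0 zgi43) (kgi xgi22 ygi8 zgi42) (kgi xgi12 ygi30 zgi41) (kgi xgi22 ygi8 zgi44) (kgi xgi12 ygi19 zgi20) (kgi xgi22 ygi8 zgi48) (kgi xgi7 ygi55 zgi20) (kgi xgi6 ygi48 zgi8) (kgi xgi14 ygi56 zgi41) (kgi xgi14 ygi56 zgi39)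 (kgi xgi18 ygi5 zgi9) (kgi xgi22 ygi8 zgi54)) (@D3.rec (fun _ => Pt) (kgi xgi16 ygi0 zgi13) (kgi xgi22 ygi8 zgi57) (kgi xgi12 ygi19 zgi40) (kgi xgi12 ygi19 zgi28) (kgi xgi22 ygi8 zgi56) (kgi xgi21 ygi27 zgi41) (kgi xgi22 ygi9 zgi5) (kgi xgi12 ygi33 zgi26) (kgi xgi17 ygi14 zgi49) (kgi xgi22 ygi9 zgi12) (kgi xgi6 ygi49 zgi11) (kgi xgi12 ygi33 zgi20) (kgi xgi17 ygi14 zgi52) (kgi xgi6 ygi48 zgi17) (kgi xgi12 ygi0 zgi24) (kgi xgi22 ygi9 zgi21) (kgi xgi22 ygi9 zgi25) (kgi xgi19 ygi45 zgi43) (kgi xgi8 ygi23 zgi32) (kgi xgi8 ygi23 zgi22) (kgi xgi15 ygi33 zgi16) (kgi xgi22 ygi9 zgi29) (kgi xgi12 ygi18 zgi57) (kgi xgi12 ygi18 zgi48) (kgi xgi22 ygi9 zgi28) (kgi xgi12 ygi42 zgi49) (kgi xgi8 ygi24 zgi18) (kgi xgi16 ygi8 zgi58) (kgi xgi12 ygi18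 zgi53) (kgi xgi15 ygi36 zgi22) (kgi xgi11 ygi51 zgi13) (kgi xgi22 ygi9 zgi40) (kgi xgi6 ygi48 zgi29) (kgi xgi13 ygi0 zgi38) (kgi xgi13 ygi0 zgi36) (kgi xgi21 ygi5 zgi29) (kgi xgi22 ygi9 zgi46) (kgi xgi12 ygi0 zgi21) (kgi xgi10 ygi51 zgi29) (kgi xgi15 ygi35 zgi17) (kgi xgi17 ygi14 zgi53) (kgi xgi21 ygi39 zgi41) (kgi xgi12 ygi27 zgi16) (kgi xgi21 ygi17 zgi61) (kgi xgi8 ygi25 zgi7) (kgi xgi15 ygi27 zgi22) (kgi xgi11 ygi19 zgi17) (kgi xgi15 ygi27 zgi23) (kgi xgi11 ygi19 zgi10) (kgi xgi6 ygi48 zgi59) (kgi xgi8 ygi23 zgi37) (kgi xgi17 ygi35 zgi37) (kgi xgi8 ygi36 zgi19) (kgi xgi9 ygi18 zgi25) (kgi xgi6 ygi48 zgi48) (kgi xgi9 ygi18 zgi27) (kgi xgi16 ygi13 zgi51) (kgi xgi6 ygi48 zgi49) (kgi xgi9 ygi36 zgi34) (kgi xgi22 ygi10 zgi0) (kgi xgi17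 ygi45 zgi12) (kgi xgi6 ygi48 zgi50))
def fi_g_13 : D2 → D3 → Pt := @D2.rec (fun _ => D3 → Pt) (@D3.rec (fun _ => Pt) (kgi xgi12 ygi20 zgi53) (kgi xgi21 ygi10 zgi11) (kgi xgi9 ygi19 zgi9) (kgi xgi22 ygi10 zgi6) (kgi xgi22 ygi10 zgi8) (kgi xgi6 ygi48 zgi53) (kgi xgi6 ygi48 zgi57) (kgi xgi22 ygi10 zgi14) (kgi xgi22 ygi10 zgi19) (kgi xgi22 ygi10 zgi23) (kgi xgi22 ygi10 zgi26) (kgi xgi12 ygi20 zgi49) (kgi xgi6 ygi48 zgi55) (kgi xgi12 ygi18 zgi27) (kgi xgi9 ygi18 zgi42) (kgi xgi6 ygi48 zgi56) (kgi xgi12 ygi20 zgi12) (kgi xgi11 ygi59 zgi60) (kgi xgi12 ygi20 zgi37) (kgi xgi9 ygi36 zgi39) (kgi xgi13 ygi15 zgi13) (kgi xgi22 ygi10 zgi18) (kgi xgi16 ygi6 zgi13) (kgi xgi22 ygi8 zgi61) (kgi xgi12 ygi26 zgi8) (kgi xgi21 ygi10 zgi17) (kgi xgi8 ygi59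 zgi23) (kgi xgi21 ygi10 zgi16) (kgi xgi12 ygi12 zgi25) (kgi xgi21 ygi53 zgi22) (kgi xgi6 ygi49 zgi4) (kgi xgi21 ygi21 zgi18) (kgi xgi22 ygi10 zgi44) (kgi xgi21 ygi21 zgi16) (kgi xgi22 ygi10 zgi47) (kgi xgi22 ygi10 zgi49) (kgi xgi6 ygi49 zgi10) (kgi xgi12 ygi59 zgi34) (kgi xgi12 ygi59 zgi32) (kgi xgi21 ygi34 zgi47) (kgi xgi8 ygi20 zgi1) (kgi xgi22 ygi10 zgi57) (kgi xgi12 ygi13 zgi39) (kgi xgi17 ygi35 zgi32) (kgi xgi12 ygi58 zgi32) (kgi xgi22 ygi11 zgi1) (kgi xgi12 ygi30 zgi47) (kgi xgi6 ygi49 zgi16) (kgi xgi6 ygi49 zgi39) (kgi xgi6 ygi49 zgi47) (kgi xgi20 ygi34 zgi7) (kgi xgi21 ygi36 zgi37) (kgi xgi12 ygi33 zgi42) (kgi xgi7 ygi28 zgi27) (kgi xgi7 ygi1 zgi61) (kgi xgi11 ygi19 zgi59) (kgi xgi12 ygi50 zgi4) (kgi xgi6 ygi50 zgi16) (kgi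 xgi20 ygi45 zgi10) (kgi xgi12 ygi17 zgi24) (kgi xgi14 ygi13 zgi49) (kgi xgi11 ygi49 zgi1)) (@D3.rec (fun _ => Pt) (kgi xgi18 ygi37 zgi22) (kgi xgi6 ygi49 zgi40) (kgi xgi18 ygi15 zgi13) (kgi xgi11 ygi40 zgi20) (kgi xgi12 ygi30 zgi53) (kgi xgi6 ygi51 zgi1) (kgi xgi6 ygi49 zgi49) (kgi xgi11 ygi41 zgi29) (kgi xgi21 ygi3 zgi51) (kgi xgi12 ygi31 zgi43) (kgi xgi22 ygi11 zgi4) (kgi xgi12 ygi12 zgi2) (kgi xgi12 ygi4 zgi49) (kgi xgi22 ygi11 zgi13) (kgi xgi22 ygi11 zgi17) (kgi xgi7 ygi40 zgi52) (kgi xgi18 ygi42 zgi48) (kgi xgi13 ygi11 zgi9) (kgi xgi12 ygi50 zgi37) (kgi xgi11 ygi56 zgi45) (kgi xgi20 ygi52 zgi46) (kgi xgi6 ygi50 zgi6) (kgi xgi9 ygi31 zgi1) (kgi xgi6 ygi50 zgi8) (kgi xgi10 ygi52 zgi15) (kgi xgi20 ygi4 zgi19) (kgi xgi6 ygi50 zgi12)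 (kgi xgi22 ygi11 zgi26) (kgi xgi22 ygi11 zgi29) (kgi xgi12 ygi58 zgi14) (kgi xgi11 ygi29 zgi41) (kgi xgi9 ygi8 zgi5) (kgi xgi11 ygi30 zgi26) (kgi xgi6 ygi50 zgi41) (kgi xgi16 ygi57 zgi25) (kgi xgi11 ygi8 zgi36) (kgi xgi10 ygi51 zgi14) (kgi xgi20 ygi28 zgi3) (kgi xgi12 ygi31 zgi41) (kgi xgi12 ygi17 zgi46) (kgi xgi11 ygi58 zgi11) (kgi xgi20 ygi32 zgi56) (kgi xgi6 ygi50 zgi30) (kgi xgi17 ygi26 zgi40) (kgi xgi12 ygi30 zgi55) (kgi xgi14 ygi19 zgi11) (kgi xgi11 ygi49 zgi30) (kgi xgi6 ygi50 zgi36) (kgi xgi12 ygi56 zgi52) (kgi xgi14 ygi4 zgi61) (kgi xgi6 ygi53 zgi23) (kgi xgi20 ygi28 zgi4) (kgi xgi17 ygi24 zgi3) (kgi xgi11 ygi43 zgi36) (kgi xgi10 ygi5 zgi13) (kgi xgi18 ygi43 zgi24) (kgi xgi10 ygi4 zgi50) (kgi xgi6 ygi50 zgi44) (kgi xgi17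 ygi29 zgi51) (kgi xgi20 ygi9 zgi30) (kgi xgi18 ygi42 zgi51) (kgi xgi10 ygi4 zgi24)) (@D3.rec (fun _ => Pt) (kgi xgi9 ygi29 zgi32) (kgi xgi8 ygi25 zgi43) (kgi xgi18 ygi42 zgi53) (kgi xgi18 ygi39 zgi34) (kgi xgi9 ygi29 zgi33) (kgi xgi22 ygi11 zgi46) (kgi xgi22 ygi11 zgi49) (kgi xgi15 ygi43 zgi8) (kgi xgi12 ygi17 zgi40) (kgi xgi20 ygi23 zgi31) (kgi xgi12 ygi30 zgi28) (kgi xgi6 ygi51 zgi3) (kgi xgi14 ygi20 zgi39) (kgi xgi17 ygi34 zgi43) (kgi xgi11 ygi30 zgi53) (kgi xgi17 ygi34 zgi25) (kgi xgi16 ygi57 zgi48) (kgi xgi12 ygi56 zgi21) (kgi xgi10 ygi4 zgi37) (kgi xgi17 ygi10 zgi9) (kgi xgi19 ygi24 zgi14) (kgi xgi17 ygi58 zgi33) (kgi xgi10 ygi45 zgi24) (kgi xgi15 ygi30 zgi11) (kgi xgi10 ygi45 zgi11) (kgi xgi19 ygi22 zgi16) (kgi xgi6 ygi51 zgi17)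 (kgi xgi22 ygi6 zgi12) (kgi xgi21 ygi59 zgi29) (kgi xgi22 ygi12 zgi3) (kgi xgi18 ygi36 zgi19) (kgi xgi18 ygi24 zgi24) (kgi xgi9 ygi20 zgi4) (kgi xgi22 ygi12 zgi7) (kgi xgi22 ygi12 zgi9) (kgi xgi6 ygi51 zgi25) (kgi xgi13 ygi26 zgi17) (kgi xgi13 ygi26 zgi15) (kgi xgi22 ygi12 zgi13) (kgi xgi6 ygi57 zgi60) (kgi xgi22 ygi12 zgi16) (kgi xgi13 ygi56 zgi12) (kgi xgi6 ygi51 zgi30) (kgi xgi7 ygi28 zgi9) (kgi xgi14 ygi0 zgi40) (kgi xgi6 ygi51 zgi31) (kgi xgi19 ygi47 zgi48) (kgi xgi12 ygi33 zgi33) (kgi xgi21 ygi37 zgi23) (kgi xgi6 ygi51 zgi33) (kgi xgi13 ygi14 zgi55) (kgi xgi22 ygi12 zgi32) (kgi xgi13 ygi14 zgi52) (kgi xgi14 ygi33 zgi28) (kgi xgi22 ygi12 zgi36) (kgi xgi7 ygi16 zgi33) (kgi xgi13 ygi12 zgi49) (kgi xgi6 ygi52 zgi2) (kgi xgi6 ygi51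 zgi38) (kgi xgi13 ygi12 zgi53) (kgi xgi13 ygi12 zgi55) (kgi xgi6 ygi57 zgi55)) (@D3.rec (fun _ => Pt) (kgi xgi13 ygi4 zgi53) (kgi xgi13 ygi4 zgi55) (kgi xgi19 ygi21 zgi56) (kgi xgi22 ygi12 zgi45) (kgi xgi6 ygi52 zgi19) (kgi xgi13 ygi17 zgi51) (kgi xgi13 ygi18 zgi1) (kgi xgi6 ygi51 zgi48) (kgi xgi6 ygi53 zgi27) (kgi xgi22 ygi12 zgi49) (kgi xgi6 ygi53 zgi24) (kgi xgi7 ygi11 zgi37) (kgi xgi6 ygi51 zgi50) (kgi xgi6 ygi53 zgi36) (kgi xgi13 ygi35 zgi45) (kgi xgi13 ygi20 zgi12) (kgi xgi22 ygi12 zgi37) (kgi xgi6 ygi51 zgi53) (kgi xgi13 ygi4 zgi58) (kgi xgi18 ygi54 zgi48) (kgi xgi11 ygi38 zgi47) (kgi xgi17 ygi9 zgi4) (kgi xgi6 ygi51 zgi57) (kgi xgi17 ygi11 zgi12) (kgi xgi22 ygi13 zgi10) (kgi xgi6 ygi51 zgi58) (kgi xgi13 ygi19 zgi33) (kgi xgi22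 ygi13 zgi18) (kgi xgi22 ygi13 zgi21) (kgi xgi6 ygi51 zgi59) (kgi xgi22 ygi13 zgi26) (kgi xgi22 ygi13 zgi30) (kgi xgi12 ygi34 zgi8) (kgi xgi13 ygi22 zgi36) (kgi xgi22 ygi13 zgi35) (kgi xgi19 ygi31 zgi4) (kgi xgi22 ygi13 zgi25) (kgi xgi22 ygi13 zgi39) (kgi xgi22 ygi12 zgi60) (kgi xgi13 ygi5 zgi20) (kgi xgi22 ygi13 zgi47) (kgi xgi22 ygi13 zgi32) (kgi xgi22 ygi13 zgi43) (kgi xgi6 ygi52 zgi4) (kgi xgi6 ygi57 zgi13) (kgi xgi22 ygi13 zgi55) (kgi xgi6 ygi57 zgi10) (kgi xgi22 ygi12 zgi39) (kgi xgi20 ygi47 zgi19) (kgi xgi14 ygi15 zgi59) (kgi xgi6 ygi57 zgi35) (kgi xgi6 ygi52 zgi9) (kgi xgi6 ygi53 zgi13) (kgi xgi22 ygi14 zgi6) (kgi xgi10 ygi40 zgi7) (kgi xgi6 ygi52 zgi10) (kgi xgi6 ygi52 zgi17) (kgi xgi14 ygi56 zgi54) (kgi xgi22 ygi14 zgi18)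 (kgi xgi7 ygi52 zgi55) (kgi xgi14 ygi5 zgi61) (kgi xgi6 ygi57 zgi4)) (@D3.rec (fun _ => Pt) (kgi xgi6 ygi52 zgi13) (kgi xgi19 ygi19 zgi13) (kgi xgi6 ygi54 zgi44) (kgi xgi7 ygi37 zgi39) (kgi xgi6 ygi52 zgi15) (kgi xgi14 ygi24 zgi48) (kgi xgi13 ygi18 zgi39) (kgi xgi22 ygi13 zgi23) (kgi xgi22 ygi14 zgi30) (kgi xgi6 ygi52 zgi18) (kgi xgi6 ygi54 zgi58) (kgi xgi13 ygi23 zgi4) (kgi xgi6 ygi57 zgi21) (kgi xgi6 ygi52 zgi20) (kgi xgi14 ygi44 zgi56) (kgi xgi7 ygi19 zgi55) (kgi xgi6 ygi52 zgi23) (kgi xgi6 ygi52 zgi24) (kgi xgi13 ygi44 zgi4) (kgi xgi6 ygi52 zgi27) (kgi xgi7 ygi20 zgi55) (kgi xgi7 ygi33 zgi40) (kgi xgi14 ygi15 zgi24) (kgi xgi22 ygi14 zgi46) (kgi xgi22 ygi14 zgi49) (kgi xgi13 ygi18 zgi48) (kgi xgi22 ygi14 zgi54) (kgi xgi6 ygi52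 zgi35) (kgi xgi14 ygi56 zgi48) (kgi xgi14 ygi32 zgi21) (kgi xgi13 ygi49 zgi44) (kgi xgi22 ygi14 zgi61) (kgi xgi19 ygi15 zgi10) (kgi xgi6 ygi52 zgi37) (kgi xgi13 ygi26 zgi34) (kgi xgi13 ygi26 zgi32) (kgi xgi14 ygi22 zgi26) (kgi xgi7 ygi1 zgi55) (kgi xgi10 ygi37 zgi60) (kgi xgi22 ygi15 zgi9) (kgi xgi22 ygi15 zgi13) (kgi xgi6 ygi52 zgi43) (kgi xgi22 ygi14 zgi47) (kgi xgi22 ygi14 zgi45) (kgi xgi6 ygi52 zgi47) (kgi xgi7 ygi26 zgi23) (kgi xgi7 ygi26 zgi21) (kgi xgi13 ygi18 zgi38) (kgi xgi10 ygi40 zgi33) (kgi xgi6 ygi52 zgi49) (kgi xgi7 ygi1 zgi10) (kgi xgi22 ygi14 zgi44) (kgi xgi18 ygi53 zgi31) (kgi xgi6 ygi52 zgi51) (kgi xgi13 ygi3 zgi0) (kgi xgi7 ygi32 zgi36) (kgi xgi6 ygi52 zgi53) (kgi xgi12 ygi33 zgi9) (kgi xgi13 ygi3 zgi17) (kgi xgi22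 ygi15 zgi30) (kgi xgi10 ygi25 zgi15) (kgi xgi6 ygi52 zgi55)) (@D3.rec (fun _ => Pt) (kgi xgi10 ygi25 zgi39) (kgi xgi10 ygi25 zgi37) (kgi xgi22 ygi15 zgi35) (kgi xgi22 ygi15 zgi39) (kgi xgi6 ygi52 zgi58) (kgi xgi18 ygi53 zgi38) (kgi xgi6 ygi52 zgi59) (kgi xgi7 ygi54 zgi48) (kgi xgi13 ygi26 zgi7) (kgi xgi14 ygi4 zgi5) (kgi xgi22 ygi15 zgi49) (kgi xgi7 ygi29 zgi35) (kgi xgi6 ygi54 zgi10) (kgi xgi13 ygi34 zgi23) (kgi xgi22 ygi15 zgi55) (kgi xgi6 ygi53 zgi8) (kgi xgi14 ygi16 zgi0) (kgi xgi22 ygi16 zgi2) (kgi xgi11 ygi42 zgi37) (kgi xgi6 ygi53 zgi10) (kgi xgi13 ygi3 zgi42) (kgi xgi11 ygi41 zgi24) (kgi xgi14 ygi34 zgi3) (kgi xgi7 ygi26 zgi12) (kgi xgi13 ygi12 zgi41) (kgi xgi22 ygi16 zgi11) (kgi xgi11 ygi30 zgi14) (kgi xgi9 ygi3 zgi12) (kgi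 xgi11 ygi30 zgi12) (kgi xgi6 ygi53 zgi16) (kgi xgi6 ygi53 zgi21) (kgi xgi22 ygi16 zgi18) (kgi xgi6 ygi53 zgi18) (kgi xgi15 ygi26 zgi57) (kgi xgi22 ygi16 zgi24) (kgi xgi14 ygi46 zgi3) (kgi xgi13 ygi40 zgi16) (kgi xgi22 ygi16 zgi23) (kgi xgi22 ygi14 zgi4) (kgi xgi6 ygi53 zgi20) (kgi xgi22 ygi16 zgi20) (kgi xgi22 ygi16 zgi34) (kgi xgi22 ygi16 zgi17) (kgi xgi21 ygi49 zgi39) (kgi xgi20 ygi40 zgi15) (kgi xgi21 ygi43 zgi36) (kgi xgi20 ygi40 zgi56) (kgi xgi20 ygi25 zgi60) (kgi xgi22 ygi11 zgi37) (kgi xgi6 ygi53 zgi26) (kgi xgi22 ygi12 zgi51) (kgi xgi22 ygi16 zgi49) (kgi xgi22 ygi12 zgi48) (kgi xgi6 ygi53 zgi28) (kgi xgi22 ygi16 zgi57) (kgi xgi22 ygi16 zgi61) (kgi xgi6 ygi53 zgi31) (kgi xgi13 ygi35 zgi43) (kgi xgi22 ygi17 zgi3) (kgi xgi13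 ygi35 zgi38) (kgi xgi22 ygi17 zgi8) (kgi xgi7 ygi53 zgi27)) (@D3.rec (fun _ => Pt) (kgi xgi22 ygi15 zgi53) (kgi xgi7 ygi30 zgi54) (kgi xgi22 ygi17 zgi16) (kgi xgi13 ygi45 zgi12) (kgi xgi22 ygi17 zgi21) (kgi xgi6 ygi53 zgi35) (kgi xgi22 ygi17 zgi25) (kgi xgi13 ygi6 zgi5) (kgi xgi13 ygi35 zgi52) (kgi xgi22 ygi17 zgi32) (kgi xgi13 ygi45 zgi19) (kgi xgi22 ygi17 zgi35) (kgi xgi13 ygi49 zgi57) (kgi xgi22 ygi17 zgi39) (kgi xgi7 ygi5 zgi12) (kgi xgi7 ygi6 zgi55) (kgi xgi7 ygi1 zgi52) (kgi xgi7 ygi21 zgi55) (kgi xgi7 ygi22 zgi30) (kgi xgi13 ygi8 zgi49) (kgi xgi14 ygi6 zgi24) (kgi xgi14 ygi1 zgi41) (kgi xgi14 ygi9 zgi37) (kgi xgi14 ygi2 zgi6) (kgi xgi7 ygi29 zgi3) (kgi xgi22 ygi17 zgi48) (kgi xgi6 ygi53 zgi48) (kgi xgi14 ygi9 zgi39) (kgi xgi22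 ygi17 zgi54) (kgi xgi7 ygi29 zgi24) (kgi xgi22 ygi17 zgi56) (kgi xgi14 ygi2 zgi12) (kgi xgi7 ygi29 zgi48) (kgi xgi7 ygi38 zgi22) (kgi xgi12 ygi29 zgi16) (kgi xgi14 ygi12 zgi50) (kgi xgi11 ygi28 zgi31) (kgi xgi6 ygi53 zgi58) (kgi xgi22 ygi16 zgi7) (kgi xgi13 ygi17 zgi30) (kgi xgi14 ygi14 zgi15) (kgi xgi14 ygi3 zgi45) (kgi xgi11 ygi46 zgi46) (kgi xgi13 ygi2 zgi2) (kgi xgi6 ygi54 zgi1) (kgi xgi14 ygi14 zgi27) (kgi xgi13 ygi18 zgi30) (kgi xgi7 ygi26 zgi24) (kgi xgi7 ygi52 zgi53) (kgi xgi6 ygi54 zgi3) (kgi xgi22 ygi18 zgi12) (kgi xgi9 ygi24 zgi45) (kgi xgi11 ygi44 zgi19) (kgi xgi6 ygi54 zgi5) (kgi xgi11 ygi44 zgi18) (kgi xgi22 ygi18 zgi23) (kgi xgi19 ygi19 zgi36) (kgi xgi22 ygi18 zgi25) (kgi xgi13 ygi33 zgi59) (kgi xgi22 ygi18 zgi29) (kgi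 xgi13 ygi18 zgi21) (kgi xgi22 ygi12 zgi18)) (@D3.rec (fun _ => Pt) (kgi xgi22 ygi18 zgi36) (kgi xgi22 ygi18 zgi38) (kgi xgi22 ygi18 zgi40) (kgi xgi13 ygi18 zgi16) (kgi xgi11 ygi59 zgi47) (kgi xgi22 ygi18 zgi45) (kgi xgi22 ygi18 zgi32) (kgi xgi10 ygi8 zgi61) (kgi xgi19 ygi5 zgi21) (kgi xgi22 ygi18 zgi55) (kgi xgi14 ygi15 zgi25) (kgi xgi13 ygi16 zgi42) (kgi xgi20 ygi46 zgi47) (kgi xgi14 ygi20 zgi11) (kgi xgi14 ygi18 zgi31) (kgi xgi13 ygi7 zgi61) (kgi xgi14 ygi41 zgi20) (kgi xgi13 ygi12 zgi50) (kgi xgi14 ygi41 zgi11) (kgi xgi14 ygi41 zgi38) (kgi xgi14 ygi40 zgi33) (kgi xgi6 ygi54 zgi22) (kgi xgi14 ygi10 zgi29) (kgi xgi22 ygi19 zgi19) (kgi xgi14 ygi10 zgi26) (kgi xgi6 ygi56 zgi47) (kgi xgi6 ygi56 zgi46) (kgi xgi22 ygi19 zgi26) (kgi xgi13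 ygi11 zgi36) (kgi xgi20 ygi44 zgi33) (kgi xgi14 ygi22 zgi22) (kgi xgi13 ygi7 zgi59) (kgi xgi11 ygi46 zgi54) (kgi xgi22 ygi19 zgi23) (kgi xgi13 ygi12 zgi30) (kgi xgi20 ygi44 zgi22) (kgi xgi6 ygi54 zgi28) (kgi xgi6 ygi57 zgi14) (kgi xgi22 ygi19 zgi40) (kgi xgi20 ygi48 zgi6) (kgi xgi13 ygi53 zgi58) (kgi xgi6 ygi54 zgi32) (kgi xgi6 ygi55 zgi22) (kgi xgi14 ygi44 zgi4) (kgi xgi6 ygi54 zgi33) (kgi xgi6 ygi54 zgi35) (kgi xgi14 ygi41 zgi21) (kgi xgi7 ygi38 zgi49) (kgi xgi13 ygi52 zgi20) (kgi xgi22 ygi19 zgi51) (kgi xgi7 ygi9 zgi11) (kgi xgi7 ygi6 zgi60) (kgi xgi6 ygi55 zgi35) (kgi xgi14 ygi26 zgi1) (kgi xgi6 ygi54 zgi42) (kgi xgi14 ygi21 zgi51) (kgi xgi12 ygi46 zgi52) (kgi xgi6 ygi54 zgi43) (kgi xgi7 ygi43 zgi46) (kgi xgi13 ygi7 zgi34) (kgi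 xgi20 ygi59 zgi32) (kgi xgi13 ygi7 zgi19)) (@D3.rec (fun _ => Pt) (kgi xgi16 ygi40 zgi24) (kgi xgi6 ygi54 zgi48) (kgi xgi6 ygi54 zgi52) (kgi xgi22 ygi20 zgi1) (kgi xgi6 ygi54 zgi49) (kgi xgi7 ygi41 zgi60) (kgi xgi10 ygi34 zgi49) (kgi xgi13 ygi12 zgi60) (kgi xgi22 ygi20 zgi5) (kgi xgi7 ygi16 zgi19) (kgi xgi22 ygi20 zgi3) (kgi xgi14 ygi53 zgi1) (kgi xgi6 ygi54 zgi51) (kgi xgi17 ygi3 zgi49) (kgi xgi14 ygi31 zgi22) (kgi xgi22 ygi20 zgi0) (kgi xgi14 ygi11 zgi58) (kgi xgi17 ygi31 zgi13) (kgi xgi20 ygi42 zgi61) (kgi xgi17 ygi32 zgi1) (kgi xgi6 ygi54 zgi55) (kgi xgi14 ygi52 zgi52) (kgi xgi16 ygi43 zgi15) (kgi xgi9 ygi30 zgi56) (kgi xgi6 ygi54 zgi57) (kgi xgi22 ygi20 zgi35) (kgi xgi22 ygi20 zgi39) (kgi xgi6 ygi54 zgi60) (kgi xgi13 ygi36 zgi24)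 (kgi xgi19 ygi45 zgi17) (kgi xgi13 ygi36 zgi21) (kgi xgi20 ygi41 zgi13) (kgi xgi13 ygi24 zgi13) (kgi xgi22 ygi19 zgi53) (kgi xgi7 ygi37 zgi35) (kgi xgi22 ygi20 zgi52) (kgi xgi13 ygi10 zgi26) (kgi xgi22 ygi20 zgi57) (kgi xgi22 ygi20 zgi60) (kgi xgi14 ygi22 zgi34) (kgi xgi22 ygi21 zgi3) (kgi xgi14 ygi28 zgi4) (kgi xgi13 ygi36 zgi58) (kgi xgi19 ygi45 zgi21) (kgi xgi14 ygi4 zgi2) (kgi xgi6 ygi55 zgi21) (kgi xgi6 ygi55 zgi18) (kgi xgi6 ygi57 zgi39) (kgi xgi14 ygi3 zgi11) (kgi xgi13 ygi6 zgi17) (kgi xgi14 ygi29 zgi33) (kgi xgi13 ygi55 zgi32) (kgi xgi15 ygi43 zgi43) (kgi xgi6 ygi55 zgi14) (kgi xgi14 ygi24 zgi37) (kgi xgi17 ygi4 zgi10) (kgi xgi22 ygi21 zgi17) (kgi xgi13 ygi55 zgi39) (kgi xgi6 ygi55 zgi16) (kgi xgi7 ygi52 zgi27) (kgi xgi22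 ygi21 zgi22) (kgi xgi19 ygi32 zgi0)) (@D3.rec (fun _ => Pt) (kgi xgi14 ygi25 zgi2) (kgi xgi13 ygi6 zgi33) (kgi xgi20 ygi41 zgi21) (kgi xgi6 ygi55 zgi25) (kgi xgi14 ygi24 zgi16) (kgi xgi14 ygi24 zgi44) (kgi xgi6 ygi55 zgi27) (kgi xgi22 ygi21 zgi38) (kgi xgi14 ygi17 zgi60) (kgi xgi17 ygi31 zgi23) (kgi xgi21 ygi45 zgi7) (kgi xgi17 ygi31 zgi25) (kgi xgi11 ygi45 zgi0) (kgi xgi20 ygi47 zgi13) (kgi xgi9 ygi30 zgi5) (kgi xgi22 ygi21 zgi52) (kgi xgi14 ygi17 zgi48) (kgi xgi14 ygi52 zgi37) (kgi xgi22 ygi21 zgi57) (kgi xgi22 ygi21 zgi60) (kgi xgi12 ygi41 zgi14) (kgi xgi7 ygi4 zgi22) (kgi xgi22 ygi22 zgi2) (kgi xgi22 ygi21 zgi54) (kgi xgi11 ygi50 zgi43) (kgi xgi20 ygi45 zgi4) (kgi xgi6 ygi55 zgi40) (kgi xgi13 ygi45 zgi41) (kgi xgi9 ygi14 zgi42)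 (kgi xgi14 ygi32 zgi31) (kgi xgi17 ygi50 zgi15) (kgi xgi14 ygi25 zgi10) (kgi xgi14 ygi10 zgi23) (kgi xgi22 ygi22 zgi10) (kgi xgi22 ygi21 zgi7) (kgi xgi7 ygi49 zgi31) (kgi xgi7 ygi4 zgi39) (kgi xgi22 ygi22 zgi14) (kgi xgi7 ygi49 zgi37) (kgi xgi7 ygi4 zgi46) (kgi xgi6 ygi55 zgi49) (kgi xgi22 ygi22 zgi17) (kgi xgi22 ygi22 zgi21) (kgi xgi14 ygi48 zgi26) (kgi xgi14 ygi5 zgi42) (kgi xgi11 ygi5 zgi50) (kgi xgi7 ygi25 zgi3) (kgi xgi13 ygi30 zgi30) (kgi xgi14 ygi32 zgi47) (kgi xgi13 ygi41 zgi35) (kgi xgi14 ygi22 zgi49) (kgi xgi22 ygi19 zgi31) (kgi xgi6 ygi55 zgi57) (kgi xgi14 ygi31 zgi21) (kgi xgi6 ygi56 zgi1) (kgi xgi13 ygi10 zgi12) (kgi xgi11 ygi40 zgi38) (kgi xgi9 ygi21 zgi33) (kgi xgi9 ygi21 zgi8) (kgi xgi11 ygi15 zgi27) (kgi xgi21 ygi30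 zgi11) (kgi xgi6 ygi56 zgi0)) (@D3.rec (fun _ => Pt) (kgi xgi12 ygi4 zgi27) (kgi xgi17 ygi20 zgi1) (kgi xgi12 ygi33 zgi57) (kgi xgi13 ygi30 zgi21) (kgi xgi13 ygi36 zgi52) (kgi xgi13 ygi35 zgi37) (kgi xgi14 ygi19 zgi40) (kgi xgi14 ygi27 zgi26) (kgi xgi13 ygi43 zgi55) (kgi xgi14 ygi33 zgi47) (kgi xgi6 ygi56 zgi3) (kgi xgi22 ygi22 zgi25) (kgi xgi20 ygi37 zgi14) (kgi xgi20 ygi37 zgi19) (kgi xgi14 ygi29 zgi48) (kgi xgi14 ygi10 zgi15) (kgi xgi9 ygi26 zgi1) (kgi xgi20 ygi45 zgi55) (kgi xgi9 ygi26 zgi22) (kgi xgi17 ygi32 zgi4) (kgi xgi14 ygi22 zgi30) (kgi xgi14 ygi10 zgi16) (kgi xgi20 ygi37 zgi23) (kgi xgi6 ygi56 zgi11) (kgi xgi13 ygi36 zgi50) (kgi xgi15 ygi53 zgi19) (kgi xgi13 ygi8 zgi34) (kgi xgi22 ygi23 zgi5) (kgi xgi22 ygi19 zgi8) (kgi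 xgi6 ygi57 zgi6) (kgi xgi14 ygi34 zgi23) (kgi xgi6 ygi56 zgi20) (kgi xgi10 ygi46 zgi12) (kgi xgi6 ygi56 zgi17) (kgi xgi14 ygi19 zgi21) (kgi xgi14 ygi41 zgi14) (kgi xgi11 ygi45 zgi3) (kgi xgi9 ygi16 zgi39) (kgi xgi14 ygi19 zgi31) (kgi xgi11 ygi45 zgi8) (kgi xgi11 ygi42 zgi43) (kgi xgi19 ygi40 zgi31) (kgi xgi20 ygi16 zgi29) (kgi xgi14 ygi19 zgi34) (kgi xgi22 ygi23 zgi18) (kgi xgi9 ygi41 zgi32) (kgi xgi21 ygi44 zgi22) (kgi xgi20 ygi34 zgi23) (kgi xgi22 ygi23 zgi21) (kgi xgi9 ygi16 zgi38) (kgi xgi12 ygi32 zgi42) (kgi xgi6 ygi56 zgi33) (kgi xgi14 ygi11 zgi12) (kgi xgi22 ygi23 zgi27) (kgi xgi14 ygi11 zgi9) (kgi xgi6 ygi56 zgi35) (kgi xgi14 ygi33 zgi3) (kgi xgi22 ygi23 zgi34) (kgi xgi22 ygi11 zgi35) (kgi xgi9 ygi49 zgi25) (kgi xgi15 ygi5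 zgi2) (kgi xgi17 ygi24 zgi51)) (@D3.rec (fun _ => Pt) (kgi xgi20 ygi14 zgi40) (kgi xgi15 ygi4 zgi25) (kgi xgi6 ygi56 zgi42) (kgi xgi15 ygi5 zgi22) (kgi xgi17 ygi8 zgi20) (kgi xgi20 ygi44 zgi14) (kgi xgi13 ygi12 zgi0) (kgi xgi11 ygi46 zgi27) (kgi xgi22 ygi23 zgi42) (kgi xgi17 ygi17 zgi55) (kgi xgi11 ygi46 zgi31) (kgi xgi6 ygi56 zgi45) (kgi xgi20 ygi44 zgi28) (kgi xgi22 ygi23 zgi48) (kgi xgi22 ygi23 zgi51) (kgi xgi14 ygi22 zgi46) (kgi xgi6 ygi57 zgi2) (kgi xgi22 ygi19 zgi25) (kgi xgi22 ygi14 zgi57) (kgi xgi22 ygi23 zgi56) (kgi xgi6 ygi56 zgi49) (kgi xgi22 ygi19 zgi24) (kgi xgi20 ygi39 zgi27) (kgi xgi22 ygi24 zgi3) (kgi xgi6 ygi56 zgi50) (kgi xgi22 ygi23 zgi55) (kgi xgi22 ygi24 zgi9) (kgi xgi14 ygi32 zgi24) (kgi xgi14 ygi10 zgi22) (kgi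 xgi6 ygi57 zgi28) (kgi xgi11 ygi46 zgi11) (kgi xgi6 ygi57 zgi50) (kgi xgi20 ygi47 zgi58) (kgi xgi6 ygi56 zgi53) (kgi xgi6 ygi56 zgi61) (kgi xgi22 ygi24 zgi24) (kgi xgi6 ygi56 zgi54) (kgi xgi13 ygi7 zgi28) (kgi xgi22 ygi14 zgi0) (kgi xgi22 ygi19 zgi29) (kgi xgi14 ygi41 zgi15) (kgi xgi13 ygi35 zgi40) (kgi xgi6 ygi56 zgi59) (kgi xgi14 ygi41 zgi13) (kgi xgi22 ygi24 zgi38) (kgi xgi17 ygi26 zgi35) (kgi xgi6 ygi56 zgi60) (kgi xgi13 ygi35 zgi41) (kgi xgi22 ygi24 zgi47) (kgi xgi22 ygi24 zgi49) (kgi xgi13 ygi11 zgi51) (kgi xgi6 ygi57 zgi0) (kgi xgi22 ygi24 zgi54) (kgi xgi20 ygi48 zgi25) (kgi xgi22 ygi12 zgi52) (kgi xgi14 ygi30 zgi40) (kgi xgi22 ygi24 zgi59) (kgi xgi22 ygi13 zgi3) (kgi xgi22 ygi25 zgi3) (kgi xgi6 ygi57 zgi3) (kgi xgi6 ygi57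 zgi7) (kgi xgi22 ygi25 zgi10)) (@D3.rec (fun _ => Pt) (kgi xgi6 ygi57 zgi5) (kgi xgi13 ygi11 zgi6) (kgi xgi20 ygi17 zgi11) (kgi xgi11 ygi47 zgi22) (kgi xgi14 ygi41 zgi12) (kgi xgi22 ygi0 zgi54) (kgi xgi22 ygi25 zgi22) (kgi xgi17 ygi25 zgi23) (kgi xgi22 ygi25 zgi26) (kgi xgi22 ygi25 zgi30) (kgi xgi22 ygi25 zgi31) (kgi xgi20 ygi44 zgi19) (kgi xgi22 ygi25 zgi35) (kgi xgi11 ygi43 zgi35) (kgi xgi22 ygi25 zgi39) (kgi xgi20 ygi47 zgi45) (kgi xgi6 ygi57 zgi12) (kgi xgi22 ygi25 zgi43) (kgi xgi22 ygi25 zgi49) (kgi xgi22 ygi25 zgi55) (kgi xgi22 ygi25 zgi44) (kgi xgi20 ygi43 zgi8) (kgi xgi22 ygi25 zgi61) (kgi xgi6 ygi57 zgi15) (kgi xgi20 ygi44 zgi29) (kgi xgi7 ygi42 zgi18) (kgi xgi6 ygi57 zgi20) (kgi xgi13 ygi53 zgi54) (kgi xgi13 ygi53 zgi55)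 (kgi xgi22 ygi26 zgi14) (kgi xgi13 ygi7 zgi31) (kgi xgi22 ygi26 zgi20) (kgi xgi7 ygi53 zgi31) (kgi xgi22 ygi14 zgi23) (kgi xgi14 ygi39 zgi1) (kgi xgi13 ygi12 zgi56) (kgi xgi6 ygi57 zgi24) (kgi xgi14 ygi38 zgi59) (kgi xgi22 ygi26 zgi29) (kgi xgi6 ygi57 zgi25) (kgi xgi13 ygi12 zgi58) (kgi xgi22 ygi26 zgi31) (kgi xgi22 ygi26 zgi11) (kgi xgi22 ygi26 zgi37) (kgi xgi14 ygi25 zgi54) (kgi xgi7 ygi51 zgi9) (kgi xgi22 ygi26 zgi41) (kgi xgi13 ygi34 zgi41) (kgi xgi13 ygi5 zgi19) (kgi xgi13 ygi3 zgi47) (kgi xgi22 ygi26 zgi45) (kgi xgi13 ygi2 zgi55) (kgi xgi22 ygi26 zgi49) (kgi xgi13 ygi2 zgi60) (kgi xgi22 ygi0 zgi39) (kgi xgi13 ygi2 zgi59) (kgi xgi6 ygi57 zgi34) (kgi xgi13 ygi12 zgi35) (kgi xgi13 ygi12 zgi39) (kgi xgi20 ygi27 zgi24) (kgi xgi22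 ygi14 zgi41) (kgi xgi22 ygi27 zgi1)) (@D3.rec (fun _ => Pt) (kgi xgi14 ygi2 zgi25) (kgi xgi14 ygi2 zgi24) (kgi xgi16 ygi6 zgi28) (kgi xgi22 ygi27 zgi5) (kgi xgi6 ygi57 zgi40) (kgi xgi7 ygi21 zgi18) (kgi xgi7 ygi55 zgi1) (kgi xgi22 ygi27 zgi12) (kgi xgi7 ygi11 zgi54) (kgi xgi22 ygi27 zgi14) (kgi xgi22 ygi21 zgi24) (kgi xgi22 ygi19 zgi44) (kgi xgi13 ygi27 zgi23) (kgi xgi6 ygi57 zgi48) (kgi xgi22 ygi19 zgi43) (kgi xgi22 ygi27 zgi26) (kgi xgi22 ygi27 zgi30) (kgi xgi6 ygi57 zgi49) (kgi xgi7 ygi34 zgi33) (kgi xgi22 ygi27 zgi36) (kgi xgi20 ygi48 zgi23) (kgi xgi6 ygi57 zgi51) (kgi xgi22 ygi19 zgi50) (kgi xgi22 ygi27 zgi44) (kgi xgi13 ygi6 zgi12) (kgi xgi6 ygi57 zgi54) (kgi xgi22 ygi19 zgi48) (kgi xgi22 ygi15 zgi22) (kgi xgi14 ygi13 zgi1)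 (kgi xgi22 ygi8 zgi51) (kgi xgi9 ygi54 zgi30) (kgi xgi17 ygi30 zgi25) (kgi xgi6 ygi57 zgi59) (kgi xgi13 ygi26 zgi4) (kgi xgi13 ygi26 zgi2) (kgi xgi13 ygi55 zgi15) (kgi xgi22 ygi28 zgi2) (kgi xgi6 ygi57 zgi61) (kgi xgi13 ygi26 zgi22) (kgi xgi13 ygi26 zgi20) (kgi xgi22 ygi28 zgi6) (kgi xgi22 ygi28 zgi9) (kgi xgi6 ygi58 zgi1) (kgi xgi13 ygi15 zgi12) (kgi xgi13 ygi15 zgi10) (kgi xgi13 ygi57 zgi44) (kgi xgi22 ygi28 zgi15) (kgi xgi14 ygi45 zgi7) (kgi xgi7 ygi21 zgi37) (kgi xgi7 ygi24 zgi37) (kgi xgi22 ygi28 zgi23) (kgi xgi22 ygi28 zgi26) (kgi xgi22 ygi28 zgi30) (kgi xgi6 ygi58 zgi7) (kgi xgi22 ygi15 zgi50) (kgi xgi14 ygi8 zgi33) (kgi xgi6 ygi58 zgi8) (kgi xgi7 ygi13 zgi32) (kgi xgi7 ygi13 zgi33) (kgi xgi13 ygi30 zgi16) (kgi xgi6 ygi58 zgi10)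 (kgi xgi22 ygi28 zgi41)) (@D3.rec (fun _ => Pt) (kgi xgi14 ygi10 zgi44) (kgi xgi13 ygi39 zgi32) (kgi xgi6 ygi58 zgi14) (kgi xgi7 ygi14 zgi6) (kgi xgi7 ygi14 zgi9) (kgi xgi22 ygi28 zgi46) (kgi xgi16 ygi35 zgi47) (kgi xgi9 ygi58 zgi59) (kgi xgi22 ygi28 zgi50) (kgi xgi13 ygi30 zgi52) (kgi xgi9 ygi59 zgi3) (kgi xgi22 ygi28 zgi57) (kgi xgi6 ygi58 zgi18) (kgi xgi13 ygi14 zgi29) (kgi xgi21 ygi13 zgi44) (kgi xgi21 ygi29 zgi60) (kgi xgi7 ygi12 zgi16) (kgi xgi12 ygi7 zgi40) (kgi xgi7 ygi6 zgi15) (kgi xgi16 ygi33 zgi20) (kgi xgi22 ygi28 zgi37) (kgi xgi7 ygi6 zgi11) (kgi xgi6 ygi58 zgi26) (kgi xgi7 ygi7 zgi36) (kgi xgi11 ygi15 zgi44) (kgi xgi13 ygi40 zgi55) (kgi xgi7 ygi7 zgi21) (kgi xgi22 ygi29 zgi11) (kgi xgi7 ygi30 zgi30) (kgi xgi13 ygi14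 zgi12) (kgi xgi22 ygi29 zgi16) (kgi xgi6 ygi58 zgi31) (kgi xgi7 ygi8 zgi3) (kgi xgi7 ygi8 zgi4) (kgi xgi20 ygi21 zgi17) (kgi xgi13 ygi41 zgi36) (kgi xgi22 ygi29 zgi27) (kgi xgi22 ygi29 zgi21) (kgi xgi22 ygi29 zgi32) (kgi xgi6 ygi58 zgi35) (kgi xgi12 ygi47 zgi43) (kgi xgi10 ygi22 zgi49) (kgi xgi18 ygi15 zgi17) (kgi xgi6 ygi58 zgi36) (kgi xgi22 ygi29 zgi17) (kgi xgi22 ygi29 zgi40) (kgi xgi22 ygi29 zgi15) (kgi xgi13 ygi41 zgi37) (kgi xgi12 ygi7 zgi57) (kgi xgi13 ygi46 zgi59) (kgi xgi7 ygi10 zgi22) (kgi xgi7 ygi27 zgi39) (kgi xgi6 ygi58 zgi43) (kgi xgi13 ygi2 zgi52) (kgi xgi22 ygi19 zgi7) (kgi xgi13 ygi2 zgi49) (kgi xgi7 ygi1 zgi34) (kgi xgi13 ygi29 zgi50) (kgi xgi21 ygi41 zgi16) (kgi xgi7 ygi39 zgi8) (kgi xgi13 ygi41 zgi18) (kgi xgi7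 ygi3 zgi6)) (@D3.rec (fun _ => Pt) (kgi xgi7 ygi0 zgi51) (kgi xgi13 ygi29 zgi52) (kgi xgi7 ygi38 zgi52) (kgi xgi6 ygi58 zgi50) (kgi xgi7 ygi30 zgi32) (kgi xgi6 ygi58 zgi52) (kgi xgi7 ygi48 zgi57) (kgi xgi7 ygi48 zgi55) (kgi xgi13 ygi51 zgi61) (kgi xgi22 ygi30 zgi10) (kgi xgi6 ygi58 zgi57) (kgi xgi13 ygi13 zgi44) (kgi xgi13 ygi13 zgi42) (kgi xgi22 ygi30 zgi15) (kgi xgi12 ygi11 zgi14) (kgi xgi9 ygi28 zgi32) (kgi xgi12 ygi15 zgi60) (kgi xgi17 ygi29 zgi21) (kgi xgi17 ygi29 zgi20) (kgi xgi6 ygi59 zgi9) (kgi xgi6 ygi59 zgi10) (kgi xgi13 ygi34 zgi37) (kgi xgi13 ygi34 zgi35) (kgi xgi22 ygi30 zgi22) (kgi xgi21 ygi57 zgi6) (kgi xgi13 ygi49 zgi43) (kgi xgi7 ygi55 zgi23) (kgi xgi13 ygi49 zgi28) (kgi xgi13 ygi43 zgi52) (kgi xgi22 ygi30 zgi27)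 (kgi xgi6 ygi59 zgi15) (kgi xgi6 ygi59 zgi17) (kgi xgi7 ygi9 zgi19) (kgi xgi14 ygi48 zgi2) (kgi xgi7 ygi19 zgi45) (kgi xgi7 ygi7 zgi5) (kgi xgi6 ygi59 zgi19) (kgi xgi14 ygi10 zgi48) (kgi xgi7 ygi24 zgi27) (kgi xgi22 ygi30 zgi32) (kgi xgi13 ygi51 zgi48) (kgi xgi16 ygi11 zgi51) (kgi xgi14 ygi0 zgi52) (kgi xgi22 ygi30 zgi44) (kgi xgi8 ygi38 zgi12) (kgi xgi22 ygi30 zgi26) (kgi xgi22 ygi30 zgi49) (kgi xgi6 ygi59 zgi21) (kgi xgi22 ygi30 zgi11) (kgi xgi18 ygi42 zgi21) (kgi xgi22 ygi30 zgi58) (kgi xgi6 ygi59 zgi23) (kgi xgi7 ygi34 zgi37) (kgi xgi7 ygi31 zgi56) (kgi xgi22 ygi31 zgi2) (kgi xgi18 ygi55 zgi45) (kgi xgi12 ygi16 zgi34) (kgi xgi22 ygi31 zgi8) (kgi xgi12 ygi41 zgi57) (kgi xgi12 ygi37 zgi4) (kgi xgi6 ygi59 zgi30) (kgi xgi14 ygi44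 zgi42)) (@D3.rec (fun _ => Pt) (kgi xgi14 ygi44 zgi40) (kgi xgi13 ygi59 zgi42) (kgi xgi22 ygi31 zgi21) (kgi xgi7 ygi12 zgi30) (kgi xgi7 ygi17 zgi0) (kgi xgi7 ygi55 zgi24) (kgi xgi13 ygi18 zgi5) (kgi xgi13 ygi20 zgi6) (kgi xgi7 ygi48 zgi58) (kgi xgi22 ygi30 zgi7) (kgi xgi13 ygi52 zgi2) (kgi xgi6 ygi59 zgi37) (kgi xgi13 ygi52 zgi0) (kgi xgi19 ygi59 zgi9) (kgi xgi22 ygi31 zgi38) (kgi xgi22 ygi31 zgi23) (kgi xgi22 ygi31 zgi44) (kgi xgi14 ygi15 zgi44) (kgi xgi16 ygi12 zgi7) (kgi xgi22 ygi31 zgi50) (kgi xgi22 ygi31 zgi54) (kgi xgi6 ygi59 zgi41) (kgi xgi13 ygi51 zgi59) (kgi xgi13 ygi51 zgi56) (kgi xgi22 ygi31 zgi61) (kgi xgi13 ygi17 zgi36) (kgi xgi7 ygi6 zgi58) (kgi xgi6 ygi59 zgi45) (kgi xgi22 ygi32 zgi3) (kgi xgi14 ygi13 zgi31) (kgi xgi13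 ygi4 zgi22) (kgi xgi6 ygi59 zgi48) (kgi xgi6 ygi59 zgi54) (kgi xgi14 ygi20 zgi31) (kgi xgi6 ygi59 zgi51) (kgi xgi14 ygi7 zgi61) (kgi xgi6 ygi59 zgi50) (kgi xgi9 ygi16 zgi31) (kgi xgi11 ygi58 zgi42) (kgi xgi22 ygi11 zgi5) (kgi xgi12 ygi33 zgi37) (kgi xgi14 ygi42 zgi38) (kgi xgi13 ygi27 zgi12) (kgi xgi20 ygi51 zgi4) (kgi xgi22 ygi16 zgi12) (kgi xgi22 ygi32 zgi14) (kgi xgi13 ygi6 zgi11) (kgi xgi6 ygi59 zgi53) (kgi xgi16 ygi32 zgi37) (kgi xgi20 ygi30 zgi41) (kgi xgi14 ygi18 zgi45) (kgi xgi7 ygi2 zgi20) (kgi xgi7 ygi2 zgi17) (kgi xgi6 ygi59 zgi59) (kgi xgi7 ygi1 zgi32) (kgi xgi22 ygi32 zgi26) (kgi xgi22 ygi32 zgi29) (kgi xgi13 ygi22 zgi59) (kgi xgi22 ygi32 zgi33) (kgi xgi7 ygi2 zgi26) (kgi xgi7 ygi2 zgi25) (kgi xgi22 ygi32 zgi38)) (@D3.rec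 (fun _ => Pt) (kgi xgi13 ygi22 zgi57) (kgi xgi17 ygi23 zgi17) (kgi xgi16 ygi54 zgi1) (kgi xgi13 ygi17 zgi33) (kgi xgi22 ygi32 zgi45) (kgi xgi7 ygi0 zgi3) (kgi xgi22 ygi32 zgi49) (kgi xgi7 ygi4 zgi6) (kgi xgi13 ygi6 zgi37) (kgi xgi7 ygi0 zgi8) (kgi xgi22 ygi26 zgi38) (kgi xgi14 ygi38 zgi36) (kgi xgi22 ygi32 zgi56) (kgi xgi7 ygi3 zgi30) (kgi xgi7 ygi37 zgi53) (kgi xgi7 ygi34 zgi17) (kgi xgi7 ygi7 zgi32) (kgi xgi14 ygi38 zgi30) (kgi xgi22 ygi33 zgi4) (kgi xgi14 ygi41 zgi48) (kgi xgi7 ygi37 zgi8) (kgi xgi7 ygi1 zgi3) (kgi xgi7 ygi32 zgi45) (kgi xgi22 ygi33 zgi9) (kgi xgi7 ygi0 zgi19) (kgi xgi22 ygi33 zgi11) (kgi xgi22 ygi33 zgi17) (kgi xgi22 ygi33 zgi8) (kgi xgi13 ygi22 zgi30) (kgi xgi7 ygi7 zgi27) (kgi xgi7 ygi0 zgi22) (kgi xgi13 ygi6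 zgi39) (kgi xgi16 ygi53 zgi58) (kgi xgi7 ygi45 zgi59) (kgi xgi7 ygi16 zgi42) (kgi xgi13 ygi40 zgi7) (kgi xgi14 ygi17 zgi36) (kgi xgi13 ygi27 zgi27) (kgi xgi17 ygi17 zgi21) (kgi xgi7 ygi0 zgi26) (kgi xgi13 ygi44 zgi39) (kgi xgi15 ygi39 zgi0) (kgi xgi7 ygi31 zgi55) (kgi xgi22 ygi33 zgi29) (kgi xgi17 ygi28 zgi48) (kgi xgi7 ygi32 zgi53) (kgi xgi18 ygi21 zgi10) (kgi xgi22 ygi1 zgi18) (kgi xgi22 ygi33 zgi7) (kgi xgi17 ygi34 zgi14) (kgi xgi12 ygi14 zgi40) (kgi xgi17 ygi34 zgi7) (kgi xgi21 ygi49 zgi41) (kgi xgi21 ygi53 zgi10) (kgi xgi7 ygi0 zgi33) (kgi xgi7 ygi34 zgi31) (kgi xgi7 ygi34 zgi32) (kgi xgi7 ygi18 zgi32) (kgi xgi22 ygi27 zgi18) (kgi xgi22 ygi33 zgi46) (kgi xgi22 ygi33 zgi48) (kgi xgi22 ygi30 zgi61)) (@D3.rec (fun _ => Pt) (kgi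 xgi13 ygi36 zgi14) (kgi xgi22 ygi33 zgi43) (kgi xgi22 ygi33 zgi58) (kgi xgi13 ygi38 zgi61) (kgi xgi13 ygi48 zgi60) (kgi xgi7 ygi0 zgi44) (kgi xgi13 ygi16 zgi6) (kgi xgi22 ygi34 zgi3) (kgi xgi8 ygi3 zgi40) (kgi xgi7 ygi17 zgi57) (kgi xgi22 ygi34 zgi8) (kgi xgi7 ygi48 zgi26) (kgi xgi7 ygi34 zgi1) (kgi xgi22 ygi34 zgi11) (kgi xgi7 ygi33 zgi61) (kgi xgi7 ygi0 zgi57) (kgi xgi22 ygi34 zgi13) (kgi xgi7 ygi0 zgi54) (kgi xgi7 ygi0 zgi53) (kgi xgi18 ygi55 zgi3) (kgi xgi13 ygi6 zgi51) (kgi xgi13 ygi5 zgi12) (kgi xgi14 ygi43 zgi33) (kgi xgi7 ygi9 zgi44) (kgi xgi14 ygi43 zgi17) (kgi xgi21 ygi40 zgi23) (kgi xgi7 ygi0 zgi56) (kgi xgi18 ygi51 zgi51) (kgi xgi14 ygi58 zgi48) (kgi xgi13 ygi7 zgi3) (kgi xgi13 ygi6 zgi40) (kgi xgi22 ygi34 zgi29) (kgi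 xgi17 ygi21 zgi21) (kgi xgi17 ygi22 zgi0) (kgi xgi7 ygi0 zgi60) (kgi xgi7 ygi33 zgi6) (kgi xgi18 ygi6 zgi2) (kgi xgi7 ygi33 zgi3) (kgi xgi14 ygi3 zgi46) (kgi xgi14 ygi52 zgi2) (kgi xgi14 ygi1 zgi26) (kgi xgi22 ygi34 zgi44) (kgi xgi7 ygi33 zgi8) (kgi xgi7 ygi33 zgi7) (kgi xgi22 ygi34 zgi50) (kgi xgi22 ygi34 zgi54) (kgi xgi7 ygi46 zgi6) (kgi xgi22 ygi34 zgi58) (kgi xgi13 ygi6 zgi41) (kgi xgi12 ygi34 zgi57) (kgi xgi22 ygi35 zgi3) (kgi xgi22 ygi34 zgi46) (kgi xgi13 ygi20 zgi2) (kgi xgi16 ygi18 zgi12) (kgi xgi7 ygi1 zgi8) (kgi xgi7 ygi33 zgi33) (kgi xgi9 ygi45 zgi0) (kgi xgi11 ygi0 zgi41) (kgi xgi22 ygi32 zgi6) (kgi xgi14 ygi1 zgi13) (kgi xgi22 ygi35 zgi19) (kgi xgi13 ygi20 zgi56)) (@D3.rec (fun _ => Pt) (kgi xgi14 ygi6 zgi58) (kgi xgi7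 ygi1 zgi14) (kgi xgi14 ygi40 zgi32) (kgi xgi7 ygi3 zgi0) (kgi xgi13 ygi57 zgi22) (kgi xgi12 ygi23 zgi0) (kgi xgi21 ygi14 zgi26) (kgi xgi14 ygi38 zgi12) (kgi xgi12 ygi32 zgi57) (kgi xgi13 ygi44 zgi55) (kgi xgi12 ygi42 zgi25) (kgi xgi22 ygi35 zgi34) (kgi xgi18 ygi23 zgi4) (kgi xgi11 ygi26 zgi31) (kgi xgi12 ygi46 zgi2) (kgi xgi22 ygi35 zgi42) (kgi xgi12 ygi46 zgi0) (kgi xgi7 ygi30 zgi46) (kgi xgi14 ygi6 zgi37) (kgi xgi13 ygi28 zgi56) (kgi xgi13 ygi40 zgi8) (kgi xgi13 ygi40 zgi15) (kgi xgi13 ygi34 zgi59) (kgi xgi7 ygi1 zgi26) (kgi xgi13 ygi44 zgi51) (kgi xgi22 ygi35 zgi57) (kgi xgi22 ygi35 zgi59) (kgi xgi11 ygi45 zgi19) (kgi xgi13 ygi20 zgi50) (kgi xgi7 ygi36 zgi38) (kgi xgi7 ygi1 zgi29) (kgi xgi7 ygi44 zgi20) (kgi xgi7 ygi44 zgi18) (kgi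 xgi13 ygi2 zgi54) (kgi xgi20 ygi41 zgi51) (kgi xgi22 ygi36 zgi6) (kgi xgi20 ygi27 zgi25) (kgi xgi7 ygi1 zgi35) (kgi xgi7 ygi1 zgi40) (kgi xgi19 ygi15 zgi47) (kgi xgi7 ygi1 zgi37) (kgi xgi19 ygi13 zgi10) (kgi xgi13 ygi47 zgi4) (kgi xgi10 ygi39 zgi61) (kgi xgi14 ygi1 zgi22) (kgi xgi10 ygi31 zgi49) (kgi xgi22 ygi32 zgi24) (kgi xgi7 ygi1 zgi39) (kgi xgi10 ygi27 zgi18) (kgi xgi9 ygi58 zgi50) (kgi xgi22 ygi36 zgi9) (kgi xgi22 ygi36 zgi18) (kgi xgi7 ygi45 zgi3) (kgi xgi15 ygi26 zgi39) (kgi xgi22 ygi36 zgi17) (kgi xgi7 ygi1 zgi43) (kgi xgi7 ygi44 zgi8) (kgi xgi14 ygi14 zgi28) (kgi xgi7 ygi44 zgi5) (kgi xgi18 ygi49 zgi59) (kgi xgi19 ygi22 zgi9) (kgi xgi19 ygi15 zgi24)) (@D3.rec (fun _ => Pt) (kgi xgi22 ygi36 zgi25) (kgi xgi7 ygi33 zgi22) (kgi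 xgi13 ygi18 zgi49) (kgi xgi18 ygi5 zgi57) (kgi xgi22 ygi36 zgi28) (kgi xgi13 ygi45 zgi5) (kgi xgi7 ygi1 zgi51) (kgi xgi13 ygi16 zgi7) (kgi xgi22 ygi36 zgi38) (kgi xgi22 ygi12 zgi57) (kgi xgi7 ygi30 zgi45) (kgi xgi13 ygi53 zgi32) (kgi xgi22 ygi36 zgi29) (kgi xgi7 ygi11 zgi16) (kgi xgi12 ygi52 zgi51) (kgi xgi7 ygi2 zgi2) (kgi xgi7 ygi1 zgi58) (kgi xgi13 ygi3 zgi15) (kgi xgi22 ygi36 zgi49) (kgi xgi22 ygi23 zgi60) (kgi xgi7 ygi1 zgi59) (kgi xgi22 ygi36 zgi52) (kgi xgi20 ygi47 zgi49) (kgi xgi17 ygi17 zgi19) (kgi xgi22 ygi11 zgi6) (kgi xgi22 ygi36 zgi55) (kgi xgi10 ygi47 zgi27) (kgi xgi22 ygi20 zgi47) (kgi xgi17 ygi24 zgi35) (kgi xgi9 ygi49 zgi59) (kgi xgi22 ygi36 zgi57) (kgi xgi9 ygi26 zgi33) (kgi xgi22 ygi16 zgi8) (kgi xgi22 ygi36 zgi60)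 (kgi xgi14 ygi55 zgi55) (kgi xgi22 ygi37 zgi1) (kgi xgi12 ygi25 zgi47) (kgi xgi14 ygi3 zgi27) (kgi xgi11 ygi45 zgi52) (kgi xgi10 ygi6 zgi34) (kgi xgi19 ygi27 zgi54) (kgi xgi19 ygi17 zgi38) (kgi xgi22 ygi37 zgi5) (kgi xgi22 ygi37 zgi8) (kgi xgi14 ygi21 zgi3) (kgi xgi11 ygi29 zgi37) (kgi xgi18 ygi57 zgi31) (kgi xgi12 ygi41 zgi18) (kgi xgi13 ygi36 zgi7) (kgi xgi7 ygi2 zgi16) (kgi xgi13 ygi19 zgi26) (kgi xgi11 ygi35 zgi32) (kgi xgi8 ygi46 zgi17) (kgi xgi22 ygi37 zgi18) (kgi xgi22 ygi37 zgi20) (kgi xgi7 ygi2 zgi19) (kgi xgi13 ygi19 zgi5) (kgi xgi22 ygi32 zgi48) (kgi xgi14 ygi29 zgi60) (kgi xgi14 ygi11 zgi39) (kgi xgi14 ygi36 zgi55) (kgi xgi14 ygi30 zgi10)) (@D3.rec (fun _ => Pt) (kgi xgi14 ygi35 zgi41) (kgi xgi14 ygi19 zgi13) (kgi xgi7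 ygi2 zgi24) (kgi xgi14 ygi30 zgi0) (kgi xgi22 ygi37 zgi38) (kgi xgi22 ygi35 zgi30) (kgi xgi7 ygi2 zgi49) (kgi xgi22 ygi32 zgi37) (kgi xgi22 ygi37 zgi45) (kgi xgi22 ygi37 zgi48) (kgi xgi22 ygi37 zgi51) (kgi xgi7 ygi2 zgi28) (kgi xgi22 ygi32 zgi36) (kgi xgi22 ygi37 zgi55) (kgi xgi13 ygi38 zgi58) (kgi xgi7 ygi2 zgi29) (kgi xgi22 ygi37 zgi47) (kgi xgi22 ygi37 zgi61) (kgi xgi21 ygi41 zgi23) (kgi xgi22 ygi32 zgi5) (kgi xgi7 ygi3 zgi26) (kgi xgi22 ygi38 zgi5) (kgi xgi7 ygi3 zgi51) (kgi xgi22 ygi37 zgi16) (kgi xgi7 ygi2 zgi35) (kgi xgi7 ygi2 zgi46) (kgi xgi17 ygi53 zgi12) (kgi xgi22 ygi38 zgi13) (kgi xgi7 ygi2 zgi36) (kgi xgi22 ygi32 zgi34) (kgi xgi22 ygi38 zgi22) (kgi xgi22 ygi32 zgi32) (kgi xgi14 ygi22 zgi58) (kgi xgi20 ygi9 zgi34) (kgi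 xgi13 ygi3 zgi51) (kgi xgi22 ygi32 zgi25) (kgi xgi13 ygi44 zgi18) (kgi xgi13 ygi3 zgi52) (kgi xgi22 ygi26 zgi58) (kgi xgi7 ygi2 zgi43) (kgi xgi22 ygi32 zgi23) (kgi xgi22 ygi38 zgi35) (kgi xgi21 ygi9 zgi27) (kgi xgi7 ygi2 zgi44) (kgi xgi13 ygi44 zgi20) (kgi xgi22 ygi38 zgi39) (kgi xgi22 ygi38 zgi41) (kgi xgi13 ygi19 zgi11) (kgi xgi7 ygi2 zgi47) (kgi xgi22 ygi32 zgi42) (kgi xgi22 ygi38 zgi48) (kgi xgi22 ygi32 zgi41) (kgi xgi14 ygi17 zgi59) (kgi xgi9 ygi26 zgi30) (kgi xgi22 ygi38 zgi53) (kgi xgi20 ygi11 zgi55) (kgi xgi7 ygi2 zgi50) (kgi xgi22 ygi38 zgi60) (kgi xgi7 ygi2 zgi51) (kgi xgi22 ygi32 zgi46) (kgi xgi18 ygi27 zgi0) (kgi xgi22 ygi32 zgi44)) (@D3.rec (fun _ => Pt) (kgi xgi16 ygi52 zgi33) (kgi xgi7 ygi2 zgi54) (kgi xgi14 ygi38 zgi56)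 (kgi xgi14 ygi38 zgi53) (kgi xgi22 ygi37 zgi23) (kgi xgi22 ygi39 zgi2) (kgi xgi22 ygi39 zgi8) (kgi xgi14 ygi50 zgi16) (kgi xgi14 ygi49 zgi8) (kgi xgi11 ygi40 zgi2) (kgi xgi14 ygi50 zgi17) (kgi xgi22 ygi39 zgi14) (kgi xgi20 ygi24 zgi40) (kgi xgi7 ygi2 zgi60) (kgi xgi22 ygi32 zgi22) (kgi xgi22 ygi39 zgi22) (kgi xgi13 ygi34 zgi51) (kgi xgi22 ygi39 zgi26) (kgi xgi14 ygi38 zgi18) (kgi xgi7 ygi3 zgi1) (kgi xgi22 ygi39 zgi31) (kgi xgi22 ygi39 zgi33) (kgi xgi22 ygi39 zgi36) (kgi xgi14 ygi31 zgi23) (kgi xgi14 ygi24 zgi55) (kgi xgi22 ygi39 zgi42) (kgi xgi21 ygi41 zgi15) (kgi xgi13 ygi17 zgi28) (kgi xgi22 ygi39 zgi49) (kgi xgi22 ygi36 zgi8) (kgi xgi14 ygi13 zgi13) (kgi xgi22 ygi39 zgi55) (kgi xgi7 ygi3 zgi8) (kgi xgi14 ygi53 zgi47) (kgi xgi22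 ygi40 zgi0) (kgi xgi14 ygi53 zgi45) (kgi xgi7 ygi3 zgi11) (kgi xgi22 ygi40 zgi7) (kgi xgi21 ygi54 zgi26) (kgi xgi22 ygi14 zgi13) (kgi xgi22 ygi40 zgi14) (kgi xgi22 ygi15 zgi33) (kgi xgi7 ygi9 zgi7) (kgi xgi7 ygi3 zgi20) (kgi xgi7 ygi31 zgi60) (kgi xgi7 ygi32 zgi3) (kgi xgi22 ygi40 zgi20) (kgi xgi13 ygi17 zgi3) (kgi xgi17 ygi18 zgi52) (kgi xgi7 ygi3 zgi22) (kgi xgi11 ygi55 zgi59) (kgi xgi18 ygi47 zgi53) (kgi xgi19 ygi25 zgi27) (kgi xgi7 ygi3 zgi23) (kgi xgi21 ygi40 zgi28) (kgi xgi7 ygi32 zgi41) (kgi xgi22 ygi40 zgi17) (kgi xgi13 ygi16 zgi57) (kgi xgi18 ygi48 zgi8) (kgi xgi13 ygi17 zgi0) (kgi xgi22 ygi40 zgi40) (kgi xgi22 ygi38 zgi19)) (@D3.rec (fun _ => Pt) (kgi xgi7 ygi3 zgi27) (kgi xgi22 ygi32 zgi58) (kgi xgi22 ygi40 zgi52) (kgi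 xgi22 ygi32 zgi55) (kgi xgi16 ygi4 zgi56) (kgi xgi7 ygi37 zgi51) (kgi xgi7 ygi46 zgi42) (kgi xgi7 ygi34 zgi49) (kgi xgi22 ygi40 zgi60) (kgi xgi22 ygi40 zgi61) (kgi xgi7 ygi3 zgi33) (kgi xgi13 ygi44 zgi37) (kgi xgi7 ygi38 zgi1) (kgi xgi19 ygi31 zgi0) (kgi xgi22 ygi41 zgi5) (kgi xgi7 ygi35 zgi17) (kgi xgi14 ygi59 zgi32) (kgi xgi7 ygi12 zgi37) (kgi xgi13 ygi38 zgi32) (kgi xgi13 ygi38 zgi31) (kgi xgi22 ygi41 zgi11) (kgi xgi13 ygi42 zgi49) (kgi xgi22 ygi41 zgi13) (kgi xgi17 ygi19 zgi9) (kgi xgi7 ygi3 zgi49) (kgi xgi20 ygi50 zgi42) (kgi xgi11 ygi44 zgi47) (kgi xgi7 ygi3 zgi50) (kgi xgi13 ygi44 zgi9) (kgi xgi20 ygi24 zgi8) (kgi xgi21 ygi30 zgi46) (kgi xgi7 ygi3 zgi52) (kgi xgi15 ygi55 zgi17) (kgi xgi15 ygi55 zgi14) (kgi xgi22 ygi33 zgi3)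 (kgi xgi22 ygi33 zgi23) (kgi xgi7 ygi39 zgi2) (kgi xgi7 ygi3 zgi55) (kgi xgi22 ygi32 zgi60) (kgi xgi14 ygi43 zgi19) (kgi xgi7 ygi48 zgi5) (kgi xgi22 ygi41 zgi27) (kgi xgi7 ygi40 zgi32) (kgi xgi7 ygi30 zgi42) (kgi xgi22 ygi41 zgi32) (kgi xgi7 ygi3 zgi60) (kgi xgi7 ygi4 zgi1) (kgi xgi14 ygi53 zgi51) (kgi xgi22 ygi41 zgi41) (kgi xgi22 ygi41 zgi43) (kgi xgi7 ygi7 zgi16) (kgi xgi22 ygi26 zgi54) (kgi xgi13 ygi6 zgi58) (kgi xgi22 ygi39 zgi29) (kgi xgi22 ygi41 zgi54) (kgi xgi7 ygi35 zgi15) (kgi xgi7 ygi4 zgi3) (kgi xgi7 ygi19 zgi44) (kgi xgi7 ygi19 zgi43) (kgi xgi22 ygi30 zgi29) (kgi xgi16 ygi21 zgi11) (kgi xgi22 ygi41 zgi60)) (@D3.rec (fun _ => Pt) (kgi xgi7 ygi4 zgi7) (kgi xgi7 ygi49 zgi2) (kgi xgi7 ygi49 zgi0) (kgi xgi7 ygi4 zgi8) (kgi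 xgi7 ygi49 zgi7) (kgi xgi7 ygi49 zgi5) (kgi xgi22 ygi42 zgi3) (kgi xgi22 ygi42 zgi12) (kgi xgi22 ygi42 zgi6) (kgi xgi22 ygi42 zgi18) (kgi xgi7 ygi4 zgi11) (kgi xgi21 ygi57 zgi2) (kgi xgi21 ygi57 zgi0) (kgi xgi13 ygi53 zgi34) (kgi xgi13 ygi8 zgi32) (kgi xgi7 ygi30 zgi56) (kgi xgi22 ygi34 zgi7) (kgi xgi22 ygi42 zgi25) (kgi xgi22 ygi26 zgi26) (kgi xgi7 ygi4 zgi17) (kgi xgi7 ygi4 zgi21) (kgi xgi22 ygi42 zgi31) (kgi xgi13 ygi7 zgi40) (kgi xgi22 ygi42 zgi34) (kgi xgi7 ygi20 zgi39) (kgi xgi14 ygi42 zgi47) (kgi xgi7 ygi34 zgi34) (kgi xgi22 ygi2 zgi49) (kgi xgi9 ygi30 zgi2) (kgi xgi7 ygi53 zgi12) (kgi xgi7 ygi4 zgi23) (kgi xgi7 ygi12 zgi47) (kgi xgi22 ygi40 zgi58) (kgi xgi21 ygi7 zgi59) (kgi xgi13 ygi33 zgi56) (kgi xgi20 ygi26 zgi20) (kgi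 xgi21 ygi14 zgi33) (kgi xgi7 ygi54 zgi34) (kgi xgi22 ygi42 zgi54) (kgi xgi7 ygi4 zgi27) (kgi xgi22 ygi42 zgi59) (kgi xgi21 ygi55 zgi6) (kgi xgi13 ygi25 zgi43) (kgi xgi21 ygi26 zgi39) (kgi xgi7 ygi4 zgi42) (kgi xgi14 ygi4 zgi6) (kgi xgi7 ygi4 zgi31) (kgi xgi7 ygi22 zgi47) (kgi xgi7 ygi22 zgi52) (kgi xgi22 ygi43 zgi8) (kgi xgi13 ygi56 zgi5) (kgi xgi22 ygi43 zgi14) (kgi xgi7 ygi4 zgi34) (kgi xgi7 ygi22 zgi38) (kgi xgi22 ygi43 zgi23) (kgi xgi22 ygi43 zgi26) (kgi xgi22 ygi43 zgi4) (kgi xgi13 ygi55 zgi59) (kgi xgi22 ygi43 zgi33) (kgi xgi14 ygi7 zgi26) (kgi xgi13 ygi56 zgi2) (kgi xgi22 ygi43 zgi1)) (@D3.rec (fun _ => Pt) (kgi xgi7 ygi4 zgi37) (kgi xgi13 ygi25 zgi26) (kgi xgi22 ygi43 zgi43) (kgi xgi7 ygi53 zgi60) (kgi xgi21 ygi34 zgi37) (kgi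 xgi7 ygi4 zgi38) (kgi xgi21 ygi24 zgi52) (kgi xgi22 ygi43 zgi2) (kgi xgi22 ygi43 zgi5) (kgi xgi22 ygi43 zgi54) (kgi xgi22 ygi43 zgi55) (kgi xgi7 ygi25 zgi30) (kgi xgi21 ygi55 zgi26) (kgi xgi7 ygi21 zgi22) (kgi xgi22 ygi43 zgi60) (kgi xgi21 ygi14 zgi31) (kgi xgi7 ygi26 zgi0) (kgi xgi7 ygi18 zgi44) (kgi xgi7 ygi4 zgi51) (kgi xgi7 ygi28 zgi13) (kgi xgi13 ygi56 zgi51) (kgi xgi7 ygi55 zgi4) (kgi xgi22 ygi44 zgi11) (kgi xgi7 ygi28 zgi3) (kgi xgi22 ygi44 zgi17) (kgi xgi13 ygi54 zgi39) (kgi xgi13 ygi25 zgi0) (kgi xgi22 ygi44 zgi23) (kgi xgi22 ygi44 zgi25) (kgi xgi7 ygi4 zgi57) (kgi xgi7 ygi28 zgi54) (kgi xgi7 ygi28 zgi55) (kgi xgi22 ygi44 zgi31) (kgi xgi13 ygi57 zgi39) (kgi xgi22 ygi44 zgi37) (kgi xgi14 ygi34 zgi33) (kgi xgi22 ygi44 zgi43)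 (kgi xgi13 ygi57 zgi23) (kgi xgi14 ygi6 zgi27) (kgi xgi13 ygi25 zgi4) (kgi xgi22 ygi44 zgi28) (kgi xgi14 ygi6 zgi21) (kgi xgi22 ygi44 zgi54) (kgi xgi7 ygi5 zgi0) (kgi xgi13 ygi24 zgi42) (kgi xgi22 ygi44 zgi60) (kgi xgi7 ygi25 zgi33) (kgi xgi22 ygi45 zgi1) (kgi xgi7 ygi5 zgi1) (kgi xgi22 ygi44 zgi24) (kgi xgi18 ygi1 zgi34) (kgi xgi22 ygi44 zgi22) (kgi xgi13 ygi57 zgi24) (kgi xgi22 ygi45 zgi11) (kgi xgi14 ygi45 zgi61) (kgi xgi7 ygi5 zgi5) (kgi xgi22 ygi45 zgi14) (kgi xgi14 ygi1 zgi6) (kgi xgi22 ygi45 zgi17) (kgi xgi22 ygi45 zgi19) (kgi xgi7 ygi54 zgi44) (kgi xgi22 ygi45 zgi22)) (@D3.rec (fun _ => Pt) (kgi xgi13 ygi55 zgi28) (kgi xgi7 ygi20 zgi16) (kgi xgi7 ygi5 zgi14) (kgi xgi13 ygi13 zgi34) (kgi xgi13 ygi13 zgi32) (kgi xgi14 ygi10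 zgi0) (kgi xgi22 ygi45 zgi30) (kgi xgi7 ygi5 zgi16) (kgi xgi13 ygi5 zgi8) (kgi xgi13 ygi54 zgi38) (kgi xgi22 ygi45 zgi39) (kgi xgi7 ygi29 zgi56) (kgi xgi7 ygi29 zgi55) (kgi xgi22 ygi45 zgi43) (kgi xgi21 ygi8 zgi41) (kgi xgi7 ygi5 zgi20) (kgi xgi13 ygi2 zgi37) (kgi xgi13 ygi2 zgi35) (kgi xgi14 ygi5 zgi10) (kgi xgi22 ygi45 zgi51) (kgi xgi7 ygi5 zgi22) (kgi xgi13 ygi13 zgi39) (kgi xgi13 ygi13 zgi37) (kgi xgi22 ygi45 zgi57) (kgi xgi22 ygi45 zgi61) (kgi xgi22 ygi30 zgi14) (kgi xgi22 ygi46 zgi2) (kgi xgi22 ygi46 zgi5) (kgi xgi10 ygi9 zgi11) (kgi xgi7 ygi5 zgi26) (kgi xgi22 ygi45 zgi40) (kgi xgi22 ygi45 zgi38) (kgi xgi7 ygi5 zgi30) (kgi xgi13 ygi4 zgi35) (kgi xgi13 ygi4 zgi33) (kgi xgi19 ygi50 zgi56) (kgi xgi22 ygi46 zgi13) (kgi xgi18 ygi40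 zgi37) (kgi xgi13 ygi33 zgi11) (kgi xgi13 ygi50 zgi13) (kgi xgi14 ygi44 zgi23) (kgi xgi22 ygi14 zgi36) (kgi xgi22 ygi46 zgi15) (kgi xgi11 ygi4 zgi8) (kgi xgi13 ygi38 zgi27) (kgi xgi21 ygi10 zgi60) (kgi xgi7 ygi14 zgi30) (kgi xgi7 ygi5 zgi43) (kgi xgi7 ygi33 zgi43) (kgi xgi20 ygi19 zgi43) (kgi xgi22 ygi37 zgi57) (kgi xgi22 ygi46 zgi25) (kgi xgi7 ygi6 zgi6) (kgi xgi7 ygi6 zgi8) (kgi xgi22 ygi46 zgi27) (kgi xgi7 ygi40 zgi39) (kgi xgi22 ygi37 zgi44) (kgi xgi8 ygi46 zgi58) (kgi xgi7 ygi13 zgi10) (kgi xgi17 ygi0 zgi18) (kgi xgi7 ygi17 zgi22) (kgi xgi20 ygi6 zgi0)) (@D3.rec (fun _ => Pt) (kgi xgi20 ygi6 zgi20) (kgi xgi13 ygi50 zgi37) (kgi xgi18 ygi19 zgi49) (kgi xgi7 ygi5 zgi50) (kgi xgi13 ygi39 zgi8) (kgi xgi22 ygi42 zgi47) (kgi xgi7 ygi48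 zgi43) (kgi xgi7 ygi5 zgi52) (kgi xgi22 ygi46 zgi39) (kgi xgi22 ygi46 zgi40) (kgi xgi14 ygi41 zgi4) (kgi xgi22 ygi46 zgi44) (kgi xgi22 ygi18 zgi59) (kgi xgi7 ygi10 zgi26) (kgi xgi7 ygi5 zgi57) (kgi xgi14 ygi1 zgi33) (kgi xgi22 ygi46 zgi53) (kgi xgi7 ygi5 zgi58) (kgi xgi7 ygi6 zgi57) (kgi xgi7 ygi5 zgi59) (kgi xgi13 ygi39 zgi15) (kgi xgi13 ygi39 zgi13) (kgi xgi13 ygi13 zgi17) (kgi xgi7 ygi11 zgi36) (kgi xgi7 ygi11 zgi33) (kgi xgi14 ygi22 zgi9) (kgi xgi13 ygi29 zgi1) (kgi xgi13 ygi17 zgi34) (kgi xgi7 ygi6 zgi2) (kgi xgi13 ygi46 zgi19) (kgi xgi17 ygi1 zgi19) (kgi xgi7 ygi6 zgi3) (kgi xgi13 ygi39 zgi24) (kgi xgi13 ygi39 zgi22) (kgi xgi13 ygi15 zgi8) (kgi xgi14 ygi44 zgi51) (kgi xgi13 ygi49 zgi34) (kgi xgi11 ygi7 zgi13) (kgi xgi12 ygi6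 zgi18) (kgi xgi21 ygi13 zgi4) (kgi xgi22 ygi47 zgi13) (kgi xgi22 ygi14 zgi38) (kgi xgi22 ygi47 zgi15) (kgi xgi11 ygi17 zgi20) (kgi xgi22 ygi11 zgi38) (kgi xgi12 ygi47 zgi16) (kgi xgi16 ygi24 zgi53) (kgi xgi22 ygi46 zgi38) (kgi xgi13 ygi46 zgi33) (kgi xgi22 ygi14 zgi34) (kgi xgi8 ygi48 zgi11) (kgi xgi8 ygi43 zgi60) (kgi xgi22 ygi29 zgi18) (kgi xgi13 ygi29 zgi16) (kgi xgi8 ygi38 zgi11) (kgi xgi8 ygi44 zgi6) (kgi xgi13 ygi41 zgi58) (kgi xgi7 ygi6 zgi25) (kgi xgi13 ygi31 zgi11) (kgi xgi22 ygi47 zgi22) (kgi xgi13 ygi31 zgi8) (kgi xgi12 ygi8 zgi20)) (@D3.rec (fun _ => Pt) (kgi xgi12 ygi8 zgi34) (kgi xgi14 ygi28 zgi12) (kgi xgi20 ygi25 zgi39) (kgi xgi22 ygi47 zgi27) (kgi xgi13 ygi42 zgi23) (kgi xgi13 ygi14 zgi0) (kgi xgi7 ygi6 zgi28) (kgi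 xgi13 ygi39 zgi36) (kgi xgi22 ygi47 zgi39) (kgi xgi13 ygi39 zgi33) (kgi xgi7 ygi39 zgi19) (kgi xgi16 ygi28 zgi21) (kgi xgi7 ygi8 zgi30) (kgi xgi21 ygi10 zgi61) (kgi xgi7 ygi8 zgi27) (kgi xgi22 ygi47 zgi49) (kgi xgi13 ygi33 zgi16) (kgi xgi22 ygi47 zgi53) (kgi xgi7 ygi8 zgi32) (kgi xgi7 ygi8 zgi31) (kgi xgi22 ygi47 zgi58) (kgi xgi20 ygi52 zgi1) (kgi xgi13 ygi33 zgi13) (kgi xgi16 ygi28 zgi37) (kgi xgi8 ygi48 zgi43) (kgi xgi13 ygi29 zgi12) (kgi xgi22 ygi48 zgi5) (kgi xgi22 ygi47 zgi55) (kgi xgi13 ygi33 zgi0) (kgi xgi22 ygi48 zgi13) (kgi xgi7 ygi6 zgi41) (kgi xgi7 ygi9 zgi5) (kgi xgi18 ygi51 zgi30) (kgi xgi7 ygi9 zgi1) (kgi xgi22 ygi48 zgi21) (kgi xgi7 ygi40 zgi43) (kgi xgi7 ygi6 zgi44) (kgi xgi7 ygi7 zgi33) (kgi xgi13 ygi43 zgi42) (kgi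 xgi14 ygi27 zgi54) (kgi xgi22 ygi48 zgi28) (kgi xgi22 ygi48 zgi31) (kgi xgi14 ygi27 zgi57) (kgi xgi16 ygi24 zgi38) (kgi xgi7 ygi6 zgi48) (kgi xgi22 ygi48 zgi37) (kgi xgi14 ygi52 zgi21) (kgi xgi22 ygi48 zgi43) (kgi xgi7 ygi6 zgi50) (kgi xgi7 ygi10 zgi29) (kgi xgi7 ygi10 zgi27) (kgi xgi22 ygi48 zgi48) (kgi xgi22 ygi48 zgi52) (kgi xgi7 ygi6 zgi52) (kgi xgi7 ygi10 zgi21) (kgi xgi7 ygi10 zgi19) (kgi xgi13 ygi19 zgi22) (kgi xgi7 ygi41 zgi23) (kgi xgi22 ygi48 zgi61) (kgi xgi22 ygi49 zgi1) (kgi xgi13 ygi27 zgi26) (kgi xgi7 ygi13 zgi20)) (@D3.rec (fun _ => Pt) (kgi xgi22 ygi48 zgi45) (kgi xgi22 ygi49 zgi3) (kgi xgi13 ygi45 zgi21) (kgi xgi13 ygi9 zgi32) (kgi xgi13 ygi36 zgi1) (kgi xgi13 ygi36 zgi3) (kgi xgi22 ygi49 zgi20) (kgi xgi22 ygi49 zgi24)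 (kgi xgi7 ygi6 zgi59) (kgi xgi7 ygi10 zgi52) (kgi xgi7 ygi10 zgi50) (kgi xgi7 ygi7 zgi0) (kgi xgi13 ygi28 zgi28) (kgi xgi7 ygi7 zgi1) (kgi xgi7 ygi7 zgi2) (kgi xgi22 ygi41 zgi45) (kgi xgi22 ygi28 zgi39) (kgi xgi22 ygi49 zgi35) (kgi xgi7 ygi7 zgi4) (kgi xgi18 ygi21 zgi50) (kgi xgi22 ygi49 zgi47) (kgi xgi21 ygi12 zgi39) (kgi xgi15 ygi10 zgi23) (kgi xgi11 ygi23 zgi43) (kgi xgi21 ygi15 zgi1) (kgi xgi7 ygi7 zgi10) (kgi xgi7 ygi7 zgi12) (kgi xgi13 ygi40 zgi24) (kgi xgi22 ygi49 zgi59) (kgi xgi22 ygi50 zgi1) (kgi xgi14 ygi53 zgi34) (kgi xgi18 ygi56 zgi29) (kgi xgi22 ygi50 zgi2) (kgi xgi14 ygi53 zgi31) (kgi xgi18 ygi56 zgi35) (kgi xgi14 ygi25 zgi32) (kgi xgi7 ygi14 zgi25) (kgi xgi22 ygi50 zgi13) (kgi xgi11 ygi15 zgi46) (kgi xgi13 ygi30 zgi47)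 (kgi xgi22 ygi50 zgi20) (kgi xgi7 ygi7 zgi19) (kgi xgi13 ygi41 zgi19) (kgi xgi22 ygi50 zgi25) (kgi xgi13 ygi41 zgi15) (kgi xgi9 ygi59 zgi25) (kgi xgi18 ygi49 zgi25) (kgi xgi22 ygi28 zgi42) (kgi xgi22 ygi50 zgi31) (kgi xgi13 ygi29 zgi3) (kgi xgi13 ygi14 zgi59) (kgi xgi22 ygi50 zgi35) (kgi xgi13 ygi15 zgi2) (kgi xgi7 ygi7 zgi26) (kgi xgi14 ygi23 zgi11) (kgi xgi7 ygi32 zgi30) (kgi xgi22 ygi50 zgi41) (kgi xgi7 ygi9 zgi30) (kgi xgi7 ygi40 zgi8) (kgi xgi7 ygi47 zgi9) (kgi xgi7 ygi7 zgi31) (kgi xgi7 ygi47 zgi11)) (@D3.rec (fun _ => Pt) (kgi xgi21 ygi54 zgi12) (kgi xgi7 ygi40 zgi40) (kgi xgi14 ygi43 zgi2) (kgi xgi7 ygi48 zgi59) (kgi xgi7 ygi7 zgi37) (kgi xgi22 ygi50 zgi58) (kgi xgi8 ygi43 zgi26) (kgi xgi7 ygi56 zgi15) (kgi xgi17 ygi52 zgi5)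 (kgi xgi8 ygi43 zgi54) (kgi xgi9 ygi3 zgi18) (kgi xgi7 ygi14 zgi18) (kgi xgi22 ygi51 zgi1) (kgi xgi14 ygi42 zgi55) (kgi xgi10 ygi15 zgi12) (kgi xgi15 ygi6 zgi32) (kgi xgi7 ygi7 zgi46) (kgi xgi13 ygi13 zgi59) (kgi xgi18 ygi20 zgi32) (kgi xgi14 ygi32 zgi22) (kgi xgi13 ygi39 zgi49) (kgi xgi13 ygi10 zgi7) (kgi xgi22 ygi48 zgi7) (kgi xgi7 ygi7 zgi51) (kgi xgi7 ygi7 zgi56) (kgi xgi7 ygi7 zgi53) (kgi xgi22 ygi41 zgi23) (kgi xgi14 ygi19 zgi35) (kgi xgi14 ygi53 zgi43) (kgi xgi7 ygi48 zgi41) (kgi xgi22 ygi29 zgi8) (kgi xgi22 ygi51 zgi13) (kgi xgi7 ygi7 zgi55) (kgi xgi16 ygi53 zgi6) (kgi xgi22 ygi51 zgi23) (kgi xgi16 ygi53 zgi4) (kgi xgi8 ygi1 zgi49) (kgi xgi8 ygi44 zgi59) (kgi xgi7 ygi56 zgi30) (kgi xgi7 ygi7 zgi59) (kgi xgi19 ygi20 zgi43)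 (kgi xgi13 ygi39 zgi26) (kgi xgi22 ygi51 zgi34) (kgi xgi8 ygi51 zgi16) (kgi xgi7 ygi8 zgi0) (kgi xgi13 ygi42 zgi0) (kgi xgi22 ygi51 zgi42) (kgi xgi13 ygi29 zgi36) (kgi xgi18 ygi57 zgi7) (kgi xgi13 ygi42 zgi60) (kgi xgi13 ygi9 zgi47) (kgi xgi13 ygi14 zgi9) (kgi xgi22 ygi29 zgi29) (kgi xgi20 ygi25 zgi41) (kgi xgi7 ygi8 zgi6) (kgi xgi20 ygi21 zgi19) (kgi xgi22 ygi51 zgi54) (kgi xgi11 ygi23 zgi27) (kgi xgi8 ygi1 zgi46) (kgi xgi21 ygi12 zgi17) (kgi xgi7 ygi8 zgi9) (kgi xgi13 ygi41 zgi45)) (@D3.rec (fun _ => Pt) (kgi xgi22 ygi51 zgi61) (kgi xgi22 ygi29 zgi10) (kgi xgi22 ygi52 zgi4) (kgi xgi7 ygi8 zgi13) (kgi xgi10 ygi3 zgi42) (kgi xgi22 ygi52 zgi7) (kgi xgi7 ygi8 zgi14) (kgi xgi8 ygi46 zgi14) (kgi xgi7 ygi8 zgi16) (kgi xgi13 ygi27 zgi60)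 (kgi xgi16 ygi31 zgi13) (kgi xgi13 ygi27 zgi57) (kgi xgi16 ygi28 zgi39) (kgi xgi7 ygi14 zgi38) (kgi xgi16 ygi26 zgi37) (kgi xgi7 ygi14 zgi35) (kgi xgi9 ygi8 zgi32) (kgi xgi7 ygi8 zgi22) (kgi xgi8 ygi47 zgi10) (kgi xgi22 ygi52 zgi24) (kgi xgi22 ygi52 zgi29) (kgi xgi7 ygi19 zgi21) (kgi xgi8 ygi47 zgi11) (kgi xgi22 ygi52 zgi23) (kgi xgi14 ygi28 zgi14) (kgi xgi22 ygi52 zgi39) (kgi xgi22 ygi52 zgi44) (kgi xgi20 ygi36 zgi60) (kgi xgi22 ygi52 zgi50) (kgi xgi7 ygi8 zgi29) (kgi xgi22 ygi47 zgi47) (kgi xgi22 ygi47 zgi46) (kgi xgi22 ygi48 zgi20) (kgi xgi14 ygi19 zgi37) (kgi xgi7 ygi8 zgi55) (kgi xgi22 ygi47 zgi57) (kgi xgi22 ygi29 zgi43) (kgi xgi22 ygi53 zgi1) (kgi xgi7 ygi8 zgi34) (kgi xgi22 ygi47 zgi56) (kgi xgi22 ygi53 zgi9) (kgi xgi22 ygi53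 zgi14) (kgi xgi7 ygi8 zgi35) (kgi xgi13 ygi39 zgi17) (kgi xgi20 ygi32 zgi30) (kgi xgi13 ygi39 zgi29) (kgi xgi7 ygi9 zgi22) (kgi xgi22 ygi53 zgi22) (kgi xgi7 ygi9 zgi40) (kgi xgi22 ygi52 zgi38) (kgi xgi7 ygi8 zgi41) (kgi xgi7 ygi8 zgi51) (kgi xgi22 ygi53 zgi28) (kgi xgi14 ygi18 zgi23) (kgi xgi22 ygi53 zgi34) (kgi xgi7 ygi8 zgi42) (kgi xgi22 ygi47 zgi54) (kgi xgi22 ygi53 zgi44) (kgi xgi22 ygi47 zgi52) (kgi xgi13 ygi49 zgi1) (kgi xgi20 ygi1 zgi60) (kgi xgi7 ygi50 zgi42)) (@D3.rec (fun _ => Pt) (kgi xgi16 ygi28 zgi50) (kgi xgi13 ygi41 zgi55) (kgi xgi15 ygi18 zgi21) (kgi xgi22 ygi53 zgi51) (kgi xgi7 ygi8 zgi47) (kgi xgi20 ygi25 zgi40) (kgi xgi9 ygi47 zgi17) (kgi xgi7 ygi8 zgi48) (kgi xgi22 ygi53 zgi50) (kgi xgi21 ygi14 zgi51) (kgi xgi22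 ygi42 zgi7) (kgi xgi15 ygi34 zgi1) (kgi xgi14 ygi18 zgi21) (kgi xgi22 ygi53 zgi59) (kgi xgi7 ygi8 zgi52) (kgi xgi22 ygi48 zgi2) (kgi xgi22 ygi48 zgi1) (kgi xgi13 ygi41 zgi25) (kgi xgi22 ygi54 zgi8) (kgi xgi13 ygi47 zgi12) (kgi xgi22 ygi54 zgi14) (kgi xgi7 ygi8 zgi56) (kgi xgi7 ygi8 zgi60) (kgi xgi22 ygi54 zgi17) (kgi xgi22 ygi54 zgi19) (kgi xgi7 ygi8 zgi58) (kgi xgi22 ygi48 zgi6) (kgi xgi22 ygi48 zgi4) (kgi xgi20 ygi1 zgi61) (kgi xgi15 ygi18 zgi9) (kgi xgi22 ygi54 zgi31) (kgi xgi21 ygi4 zgi16) (kgi xgi18 ygi51 zgi23) (kgi xgi7 ygi42 zgi35) (kgi xgi22 ygi54 zgi37) (kgi xgi7 ygi9 zgi0) (kgi xgi22 ygi48 zgi14) (kgi xgi22 ygi48 zgi12) (kgi xgi16 ygi29 zgi5) (kgi xgi22 ygi54 zgi24) (kgi xgi14 ygi27 zgi56) (kgi xgi7 ygi40 zgi20) (kgi xgi15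 ygi32 zgi23) (kgi xgi7 ygi9 zgi3) (kgi xgi20 ygi44 zgi2) (kgi xgi22 ygi54 zgi57) (kgi xgi20 ygi44 zgi1) (kgi xgi7 ygi9 zgi4) (kgi xgi7 ygi9 zgi56) (kgi xgi22 ygi55 zgi3) (kgi xgi22 ygi55 zgi6) (kgi xgi7 ygi9 zgi6) (kgi xgi22 ygi47 zgi48) (kgi xgi7 ygi9 zgi9) (kgi xgi7 ygi49 zgi52) (kgi xgi22 ygi55 zgi18) (kgi xgi11 ygi51 zgi11) (kgi xgi22 ygi5 zgi61) (kgi xgi7 ygi9 zgi14) (kgi xgi13 ygi40 zgi26) (kgi xgi13 ygi40 zgi27) (kgi xgi15 ygi4 zgi53)) (@D3.rec (fun _ => Pt) (kgi xgi13 ygi28 zgi25) (kgi xgi22 ygi55 zgi28) (kgi xgi7 ygi52 zgi37) (kgi xgi21 ygi14 zgi58) (kgi xgi22 ygi48 zgi30) (kgi xgi13 ygi49 zgi24) (kgi xgi7 ygi9 zgi18) (kgi xgi21 ygi11 zgi54) (kgi xgi22 ygi55 zgi41) (kgi xgi22 ygi55 zgi46) (kgi xgi13 ygi49 zgi25) (kgi xgi22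 ygi55 zgi48) (kgi xgi20 ygi31 zgi28) (kgi xgi13 ygi28 zgi16) (kgi xgi22 ygi55 zgi52) (kgi xgi13 ygi43 zgi51) (kgi xgi13 ygi28 zgi22) (kgi xgi22 ygi55 zgi56) (kgi xgi16 ygi27 zgi1) (kgi xgi22 ygi53 zgi40) (kgi xgi7 ygi9 zgi23) (kgi xgi22 ygi48 zgi29) (kgi xgi22 ygi56 zgi9) (kgi xgi22 ygi48 zgi27) (kgi xgi7 ygi18 zgi1) (kgi xgi14 ygi49 zgi28) (kgi xgi22 ygi33 zgi15) (kgi xgi7 ygi9 zgi28) (kgi xgi22 ygi41 zgi1) (kgi xgi7 ygi32 zgi38) (kgi xgi14 ygi23 zgi16) (kgi xgi22 ygi56 zgi19) (kgi xgi7 ygi38 zgi39) (kgi xgi7 ygi38 zgi38) (kgi xgi22 ygi56 zgi24) (kgi xgi22 ygi56 zgi27) (kgi xgi13 ygi21 zgi52) (kgi xgi22 ygi56 zgi30) (kgi xgi22 ygi56 zgi32) (kgi xgi7 ygi13 zgi12) (kgi xgi22 ygi50 zgi51) (kgi xgi14 ygi28 zgi25) (kgi xgi13 ygi40 zgi58)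 (kgi xgi7 ygi9 zgi38) (kgi xgi22 ygi48 zgi24) (kgi xgi22 ygi56 zgi44) (kgi xgi16 ygi23 zgi55) (kgi xgi7 ygi9 zgi39) (kgi xgi13 ygi27 zgi39) (kgi xgi13 ygi44 zgi3) (kgi xgi22 ygi48 zgi40) (kgi xgi22 ygi54 zgi3) (kgi xgi7 ygi9 zgi41) (kgi xgi21 ygi11 zgi55) (kgi xgi22 ygi56 zgi56) (kgi xgi22 ygi48 zgi35) (kgi xgi13 ygi27 zgi10) (kgi xgi7 ygi12 zgi40) (kgi xgi22 ygi34 zgi10) (kgi xgi14 ygi26 zgi33) (kgi xgi7 ygi39 zgi47) (kgi xgi22 ygi57 zgi1)) (@D3.rec (fun _ => Pt) (kgi xgi13 ygi38 zgi21) (kgi xgi7 ygi9 zgi51) (kgi xgi7 ygi35 zgi39) (kgi xgi7 ygi35 zgi42) (kgi xgi22 ygi57 zgi11) (kgi xgi19 ygi35 zgi21) (kgi xgi22 ygi57 zgi8) (kgi xgi22 ygi57 zgi19) (kgi xgi7 ygi42 zgi17) (kgi xgi22 ygi57 zgi22) (kgi xgi22 ygi57 zgi23) (kgi xgi22 ygi57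 zgi25) (kgi xgi7 ygi9 zgi57) (kgi xgi22 ygi48 zgi44) (kgi xgi22 ygi48 zgi42) (kgi xgi7 ygi9 zgi59) (kgi xgi7 ygi33 zgi45) (kgi xgi7 ygi33 zgi48) (kgi xgi20 ygi33 zgi10) (kgi xgi22 ygi57 zgi36) (kgi xgi7 ygi9 zgi61) (kgi xgi7 ygi16 zgi6) (kgi xgi7 ygi16 zgi4) (kgi xgi13 ygi5 zgi53) (kgi xgi7 ygi17 zgi36) (kgi xgi7 ygi12 zgi53) (kgi xgi13 ygi34 zgi40) (kgi xgi7 ygi34 zgi18) (kgi xgi7 ygi10 zgi3) (kgi xgi7 ygi34 zgi3) (kgi xgi22 ygi57 zgi48) (kgi xgi18 ygi55 zgi0) (kgi xgi7 ygi10 zgi4) (kgi xgi13 ygi44 zgi45) (kgi xgi13 ygi44 zgi43) (kgi xgi7 ygi10 zgi5) (kgi xgi13 ygi15 zgi22) (kgi xgi13 ygi15 zgi20) (kgi xgi22 ygi57 zgi60) (kgi xgi22 ygi57 zgi61) (kgi xgi13 ygi34 zgi25) (kgi xgi22 ygi26 zgi53) (kgi xgi22 ygi58 zgi1) (kgi xgi22 ygi58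 zgi3) (kgi xgi7 ygi10 zgi13) (kgi xgi13 ygi18 zgi13) (kgi xgi13 ygi12 zgi47) (kgi xgi7 ygi10 zgi14) (kgi xgi13 ygi46 zgi23) (kgi xgi22 ygi58 zgi12) (kgi xgi13 ygi46 zgi21) (kgi xgi13 ygi14 zgi60) (kgi xgi13 ygi7 zgi17) (kgi xgi13 ygi11 zgi41) (kgi xgi22 ygi45 zgi56) (kgi xgi7 ygi45 zgi43) (kgi xgi22 ygi28 zgi5) (kgi xgi22 ygi58 zgi17) (kgi xgi7 ygi24 zgi41) (kgi xgi13 ygi19 zgi19) (kgi xgi7 ygi40 zgi51) (kgi xgi22 ygi12 zgi10)) (@D3.rec (fun _ => Pt) (kgi xgi22 ygi58 zgi27) (kgi xgi7 ygi10 zgi23) (kgi xgi22 ygi48 zgi56) (kgi xgi22 ygi58 zgi35) (kgi xgi22 ygi58 zgi38) (kgi xgi7 ygi40 zgi49) (kgi xgi22 ygi58 zgi43) (kgi xgi7 ygi10 zgi25) (kgi xgi22 ygi48 zgi53) (kgi xgi22 ygi58 zgi50) (kgi xgi22 ygi48 zgi51) (kgi xgi14 ygi44 zgi2) (kgi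 xgi22 ygi49 zgi8) (kgi xgi7 ygi46 zgi5) (kgi xgi7 ygi10 zgi46) (kgi xgi7 ygi10 zgi35) (kgi xgi7 ygi46 zgi0) (kgi xgi13 ygi45 zgi6) (kgi xgi22 ygi26 zgi9) (kgi xgi22 ygi48 zgi47) (kgi xgi22 ygi59 zgi4) (kgi xgi7 ygi10 zgi30) (kgi xgi22 ygi48 zgi46) (kgi xgi21 ygi27 zgi19) (kgi xgi22 ygi59 zgi14) (kgi xgi7 ygi10 zgi31) (kgi xgi22 ygi59 zgi6) (kgi xgi13 ygi19 zgi35) (kgi xgi22 ygi58 zgi61) (kgi xgi7 ygi10 zgi32) (kgi xgi22 ygi49 zgi0) (kgi xgi22 ygi59 zgi25) (kgi xgi14 ygi35 zgi40) (kgi xgi7 ygi32 zgi24) (kgi xgi14 ygi44 zgi46) (kgi xgi13 ygi10 zgi5) (kgi xgi22 ygi59 zgi30) (kgi xgi22 ygi58 zgi58) (kgi xgi13 ygi5 zgi57) (kgi xgi22 ygi47 zgi38) (kgi xgi7 ygi10 zgi39) (kgi xgi13 ygi11 zgi46) (kgi xgi14 ygi11 zgi1) (kgi xgi13 ygi5 zgi59)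 (kgi xgi22 ygi59 zgi37) (kgi xgi13 ygi6 zgi8) (kgi xgi22 ygi59 zgi39) (kgi xgi22 ygi35 zgi51) (kgi xgi22 ygi12 zgi54) (kgi xgi18 ygi53 zgi28) (kgi xgi22 ygi59 zgi44) (kgi xgi22 ygi59 zgi47) (kgi xgi13 ygi3 zgi14) (kgi xgi7 ygi10 zgi44) (kgi xgi22 ygi59 zgi40) (kgi xgi22 ygi59 zgi38) (kgi xgi22 ygi59 zgi57) (kgi xgi13 ygi45 zgi7) (kgi xgi21 ygi5 zgi5) (kgi xgi19 ygi12 zgi9) (kgi xgi7 ygi10 zgi47) (kgi xgi13 ygi45 zgi3)) (@D3.rec (fun _ => Pt) (kgi xgi13 ygi45 zgi0) (kgi xgi7 ygi10 zgi48) (kgi xgi13 ygi29 zgi4) (kgi xgi13 ygi16 zgi26) (kgi xgi23 ygi0 zgi7) (kgi xgi7 ygi10 zgi49) (kgi xgi13 ygi36 zgi17) (kgi xgi23 ygi0 zgi14) (kgi xgi13 ygi36 zgi18) (kgi xgi22 ygi35 zgi56) (kgi xgi13 ygi18 zgi0) (kgi xgi23 ygi0 zgi26) (kgi xgi23 ygi0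 zgi29) (kgi xgi23 ygi0 zgi31) (kgi xgi14 ygi17 zgi27) (kgi xgi23 ygi0 zgi25) (kgi xgi22 ygi36 zgi2) (kgi xgi13 ygi36 zgi5) (kgi xgi7 ygi10 zgi53) (kgi xgi13 ygi36 zgi8) (kgi xgi22 ygi22 zgi24) (kgi xgi13 ygi8 zgi28) (kgi xgi20 ygi43 zgi30) (kgi xgi14 ygi22 zgi25) (kgi xgi13 ygi8 zgi30) (kgi xgi23 ygi0 zgi52) (kgi xgi7 ygi10 zgi56) (kgi xgi13 ygi36 zgi45) (kgi xgi14 ygi49 zgi25) (kgi xgi7 ygi10 zgi57) (kgi xgi19 ygi45 zgi11) (kgi xgi14 ygi5 zgi21) (kgi xgi7 ygi25 zgi5) (kgi xgi14 ygi9 zgi61) (kgi xgi7 ygi52 zgi35) (kgi xgi14 ygi6 zgi61) (kgi xgi14 ygi49 zgi23) (kgi xgi23 ygi1 zgi6) (kgi xgi7 ygi11 zgi2) (kgi xgi7 ygi40 zgi3) (kgi xgi7 ygi40 zgi13) (kgi xgi7 ygi52 zgi31) (kgi xgi23 ygi1 zgi9) (kgi xgi22 ygi48 zgi36) (kgi xgi7 ygi36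 zgi27) (kgi xgi13 ygi36 zgi26) (kgi xgi17 ygi23 zgi34) (kgi xgi22 ygi44 zgi20) (kgi xgi7 ygi51 zgi25) (kgi xgi21 ygi40 zgi14) (kgi xgi13 ygi10 zgi23) (kgi xgi23 ygi1 zgi18) (kgi xgi13 ygi10 zgi8) (kgi xgi14 ygi48 zgi22) (kgi xgi23 ygi1 zgi23) (kgi xgi21 ygi40 zgi11) (kgi xgi14 ygi52 zgi53) (kgi xgi23 ygi1 zgi27) (kgi xgi7 ygi11 zgi12) (kgi xgi13 ygi8 zgi42) (kgi xgi15 ygi18 zgi4) (kgi xgi7 ygi52 zgi41)) (@D3.rec (fun _ => Pt) (kgi xgi23 ygi1 zgi37) (kgi xgi7 ygi11 zgi13) (kgi xgi20 ygi46 zgi45) (kgi xgi17 ygi23 zgi59) (kgi xgi13 ygi10 zgi9) (kgi xgi22 ygi58 zgi16) (kgi xgi20 ygi16 zgi60) (kgi xgi13 ygi9 zgi37) (kgi xgi11 ygi4 zgi6) (kgi xgi7 ygi52 zgi45) (kgi xgi15 ygi53 zgi34) (kgi xgi7 ygi47 zgi40) (kgi xgi23 ygi1 zgi52) (kgi xgi7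 ygi11 zgi22) (kgi xgi12 ygi19 zgi14) (kgi xgi12 ygi19 zgi12) (kgi xgi21 ygi33 zgi55) (kgi xgi23 ygi1 zgi58) (kgi xgi13 ygi54 zgi41) (kgi xgi23 ygi2 zgi0) (kgi xgi7 ygi29 zgi32) (kgi xgi7 ygi29 zgi31) (kgi xgi7 ygi11 zgi27) (kgi xgi7 ygi28 zgi52) (kgi xgi23 ygi2 zgi2) (kgi xgi23 ygi2 zgi5) (kgi xgi7 ygi11 zgi29) (kgi xgi23 ygi2 zgi1) (kgi xgi23 ygi1 zgi61) (kgi xgi22 ygi46 zgi60) (kgi xgi22 ygi26 zgi59) (kgi xgi13 ygi8 zgi7) (kgi xgi22 ygi16 zgi15) (kgi xgi7 ygi16 zgi10) (kgi xgi23 ygi2 zgi19) (kgi xgi23 ygi2 zgi21) (kgi xgi7 ygi21 zgi45) (kgi xgi13 ygi17 zgi58) (kgi xgi13 ygi49 zgi50) (kgi xgi23 ygi2 zgi26) (kgi xgi7 ygi11 zgi38) (kgi xgi12 ygi21 zgi27) (kgi xgi12 ygi21 zgi25) (kgi xgi21 ygi8 zgi53) (kgi xgi23 ygi2 zgi34) (kgi xgi23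 ygi2 zgi37) (kgi xgi12 ygi12 zgi33) (kgi xgi12 ygi27 zgi29) (kgi xgi21 ygi6 zgi38) (kgi xgi9 ygi20 zgi23) (kgi xgi9 ygi20 zgi32) (kgi xgi22 ygi9 zgi32) (kgi xgi23 ygi2 zgi47) (kgi xgi12 ygi24 zgi37) (kgi xgi7 ygi11 zgi44) (kgi xgi12 ygi24 zgi38) (kgi xgi8 ygi23 zgi7) (kgi xgi13 ygi46 zgi38) (kgi xgi23 ygi2 zgi56) (kgi xgi7 ygi19 zgi23) (kgi xgi7 ygi19 zgi22) (kgi xgi23 ygi2 zgi60)) (@D3.rec (fun _ => Pt) (kgi xgi7 ygi11 zgi51) (kgi xgi7 ygi19 zgi5) (kgi xgi23 ygi3 zgi0) (kgi xgi23 ygi3 zgi4) (kgi xgi7 ygi11 zgi53) (kgi xgi23 ygi2 zgi57) (kgi xgi23 ygi2 zgi55) (kgi xgi13 ygi31 zgi59) (kgi xgi13 ygi46 zgi35) (kgi xgi7 ygi18 zgi8) (kgi xgi22 ygi55 zgi36) (kgi xgi7 ygi18 zgi9) (kgi xgi7 ygi12 zgi2) (kgi xgi7 ygi12 zgi6) (kgi xgi7 ygi12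 zgi3) (kgi xgi7 ygi27 zgi45) (kgi xgi22 ygi29 zgi1) (kgi xgi13 ygi23 zgi49) (kgi xgi22 ygi46 zgi37) (kgi xgi7 ygi27 zgi50) (kgi xgi23 ygi3 zgi23) (kgi xgi13 ygi51 zgi50) (kgi xgi7 ygi12 zgi5) (kgi xgi12 ygi22 zgi51) (kgi xgi21 ygi13 zgi60) (kgi xgi12 ygi23 zgi3) (kgi xgi12 ygi5 zgi22) (kgi xgi10 ygi16 zgi8) (kgi xgi9 ygi51 zgi26) (kgi xgi7 ygi12 zgi11) (kgi xgi8 ygi48 zgi2) (kgi xgi7 ygi12 zgi12) (kgi xgi11 ygi49 zgi50) (kgi xgi11 ygi22 zgi2) (kgi xgi23 ygi3 zgi40) (kgi xgi7 ygi12 zgi32) (kgi xgi7 ygi12 zgi34) (kgi xgi18 ygi15 zgi27) (kgi xgi11 ygi24 zgi40) (kgi xgi7 ygi19 zgi11) (kgi xgi20 ygi13 zgi27) (kgi xgi10 ygi12 zgi3) (kgi xgi12 ygi22 zgi16) (kgi xgi7 ygi12 zgi21) (kgi xgi23 ygi3 zgi47) (kgi xgi23 ygi3 zgi49) (kgi xgi22 ygi14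 zgi39) (kgi xgi12 ygi45 zgi50) (kgi xgi7 ygi17 zgi50) (kgi xgi13 ygi50 zgi15) (kgi xgi13 ygi49 zgi45) (kgi xgi20 ygi36 zgi8) (kgi xgi13 ygi44 zgi6) (kgi xgi7 ygi12 zgi33) (kgi xgi23 ygi3 zgi55) (kgi xgi8 ygi45 zgi50) (kgi xgi23 ygi3 zgi59) (kgi xgi18 ygi49 zgi19) (kgi xgi14 ygi40 zgi58) (kgi xgi23 ygi4 zgi3) (kgi xgi13 ygi26 zgi48) (kgi xgi13 ygi26 zgi47)) (@D3.rec (fun _ => Pt) (kgi xgi23 ygi4 zgi8) (kgi xgi23 ygi4 zgi11) (kgi xgi13 ygi21 zgi14) (kgi xgi7 ygi19 zgi2) (kgi xgi23 ygi4 zgi5) (kgi xgi13 ygi47 zgi27) (kgi xgi16 ygi32 zgi55) (kgi xgi23 ygi4 zgi17) (kgi xgi13 ygi27 zgi3) (kgi xgi8 ygi46 zgi21) (kgi xgi20 ygi19 zgi31) (kgi xgi22 ygi41 zgi8) (kgi xgi14 ygi59 zgi60) (kgi xgi7 ygi12 zgi49) (kgi xgi13 ygi27 zgi21) (kgi xgi13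 ygi27 zgi19) (kgi xgi22 ygi20 zgi38) (kgi xgi13 ygi31 zgi42) (kgi xgi7 ygi37 zgi16) (kgi xgi7 ygi34 zgi14) (kgi xgi23 ygi4 zgi28) (kgi xgi23 ygi4 zgi32) (kgi xgi7 ygi12 zgi54) (kgi xgi13 ygi27 zgi33) (kgi xgi13 ygi27 zgi31) (kgi xgi13 ygi40 zgi39) (kgi xgi13 ygi31 zgi1) (kgi xgi11 ygi27 zgi61) (kgi xgi13 ygi40 zgi35) (kgi xgi23 ygi4 zgi43) (kgi xgi21 ygi14 zgi56) (kgi xgi13 ygi31 zgi45) (kgi xgi13 ygi29 zgi47) (kgi xgi7 ygi12 zgi60) (kgi xgi13 ygi28 zgi9) (kgi xgi22 ygi24 zgi53) (kgi xgi13 ygi28 zgi6) (kgi xgi23 ygi4 zgi55) (kgi xgi7 ygi13 zgi3) (kgi xgi13 ygi43 zgi43) (kgi xgi22 ygi23 zgi28) (kgi xgi7 ygi14 zgi40) (kgi xgi7 ygi14 zgi39) (kgi xgi20 ygi7 zgi27) (kgi xgi13 ygi43 zgi40) (kgi xgi21 ygi12 zgi21) (kgi xgi13 ygi30 zgi49)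 (kgi xgi13 ygi40 zgi33) (kgi xgi23 ygi5 zgi9) (kgi xgi23 ygi5 zgi1) (kgi xgi13 ygi43 zgi31) (kgi xgi23 ygi5 zgi14) (kgi xgi7 ygi13 zgi6) (kgi xgi7 ygi15 zgi4) (kgi xgi23 ygi5 zgi18) (kgi xgi7 ygi35 zgi3) (kgi xgi7 ygi15 zgi0) (kgi xgi23 ygi5 zgi25) (kgi xgi7 ygi39 zgi20) (kgi xgi7 ygi13 zgi9) (kgi xgi7 ygi13 zgi44) (kgi xgi13 ygi33 zgi15)) (@D3.rec (fun _ => Pt) (kgi xgi14 ygi48 zgi44) (kgi xgi23 ygi5 zgi31) (kgi xgi7 ygi15 zgi11) (kgi xgi7 ygi15 zgi10) (kgi xgi17 ygi56 zgi61) (kgi xgi14 ygi48 zgi49) (kgi xgi23 ygi5 zgi36) (kgi xgi19 ygi28 zgi39) (kgi xgi23 ygi5 zgi38) (kgi xgi7 ygi13 zgi15) (kgi xgi14 ygi48 zgi14) (kgi xgi21 ygi15 zgi54) (kgi xgi13 ygi16 zgi46) (kgi xgi7 ygi38 zgi60) (kgi xgi23 ygi5 zgi47) (kgi xgi14 ygi10 zgi60)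 (kgi xgi13 ygi44 zgi38) (kgi xgi14 ygi15 zgi43) (kgi xgi13 ygi5 zgi36) (kgi xgi23 ygi5 zgi52) (kgi xgi23 ygi5 zgi55) (kgi xgi7 ygi13 zgi21) (kgi xgi7 ygi16 zgi16) (kgi xgi7 ygi16 zgi14) (kgi xgi7 ygi13 zgi54) (kgi xgi7 ygi47 zgi58) (kgi xgi13 ygi32 zgi58) (kgi xgi7 ygi13 zgi25) (kgi xgi13 ygi32 zgi60) (kgi xgi23 ygi6 zgi1) (kgi xgi14 ygi28 zgi28) (kgi xgi7 ygi13 zgi28) (kgi xgi7 ygi15 zgi9) (kgi xgi13 ygi39 zgi50) (kgi xgi13 ygi51 zgi55) (kgi xgi13 ygi39 zgi30) (kgi xgi7 ygi20 zgi23) (kgi xgi23 ygi6 zgi9) (kgi xgi13 ygi14 zgi15) (kgi xgi22 ygi29 zgi9) (kgi xgi7 ygi20 zgi28) (kgi xgi23 ygi6 zgi8) (kgi xgi13 ygi33 zgi5) (kgi xgi7 ygi13 zgi35) (kgi xgi7 ygi39 zgi11) (kgi xgi23 ygi6 zgi18) (kgi xgi7 ygi13 zgi38) (kgi xgi7 ygi13 zgi46)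 (kgi xgi7 ygi13 zgi48) (kgi xgi16 ygi20 zgi17) (kgi xgi7 ygi17 zgi1) (kgi xgi17 ygi55 zgi7) (kgi xgi23 ygi6 zgi22) (kgi xgi10 ygi3 zgi17) (kgi xgi23 ygi6 zgi24) (kgi xgi7 ygi13 zgi42) (kgi xgi13 ygi14 zgi25) (kgi xgi17 ygi30 zgi14) (kgi xgi13 ygi33 zgi49) (kgi xgi7 ygi13 zgi47) (kgi xgi18 ygi26 zgi37) (kgi xgi12 ygi8 zgi44)) (@D3.rec (fun _ => Pt) (kgi xgi12 ygi6 zgi37) (kgi xgi23 ygi6 zgi29) (kgi xgi14 ygi44 zgi48) (kgi xgi7 ygi13 zgi52) (kgi xgi7 ygi13 zgi55) (kgi xgi14 ygi53 zgi44) (kgi xgi10 ygi26 zgi40) (kgi xgi13 ygi29 zgi27) (kgi xgi13 ygi29 zgi26) (kgi xgi23 ygi6 zgi41) (kgi xgi13 ygi48 zgi26) (kgi xgi20 ygi21 zgi34) (kgi xgi23 ygi6 zgi49) (kgi xgi23 ygi6 zgi38) (kgi xgi23 ygi6 zgi54) (kgi xgi7 ygi13 zgi58) (kgi xgi13 ygi29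 zgi44) (kgi xgi18 ygi53 zgi7) (kgi xgi13 ygi22 zgi16) (kgi xgi13 ygi29 zgi41) (kgi xgi22 ygi28 zgi40) (kgi xgi14 ygi53 zgi36) (kgi xgi16 ygi22 zgi40) (kgi xgi11 ygi41 zgi44) (kgi xgi13 ygi10 zgi6) (kgi xgi13 ygi28 zgi27) (kgi xgi13 ygi28 zgi2) (kgi xgi7 ygi42 zgi7) (kgi xgi20 ygi28 zgi52) (kgi xgi11 ygi50 zgi32) (kgi xgi16 ygi21 zgi34) (kgi xgi7 ygi14 zgi19) (kgi xgi13 ygi9 zgi49) (kgi xgi13 ygi14 zgi35) (kgi xgi18 ygi21 zgi44) (kgi xgi23 ygi6 zgi37) (kgi xgi22 ygi28 zgi47) (kgi xgi13 ygi31 zgi36) (kgi xgi7 ygi14 zgi11) (kgi xgi22 ygi28 zgi45) (kgi xgi23 ygi7 zgi10) (kgi xgi14 ygi58 zgi46) (kgi xgi12 ygi6 zgi44) (kgi xgi7 ygi14 zgi14) (kgi xgi10 ygi16 zgi58) (kgi xgi13 ygi30 zgi60) (kgi xgi13 ygi27 zgi56) (kgi xgi23 ygi7 zgi15) (kgi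 xgi23 ygi7 zgi18) (kgi xgi20 ygi38 zgi28) (kgi xgi12 ygi46 zgi17) (kgi xgi7 ygi14 zgi22) (kgi xgi7 ygi14 zgi20) (kgi xgi14 ygi30 zgi38) (kgi xgi14 ygi53 zgi33) (kgi xgi13 ygi32 zgi10) (kgi xgi23 ygi7 zgi23) (kgi xgi23 ygi7 zgi25) (kgi xgi18 ygi21 zgi42) (kgi xgi16 ygi33 zgi12) (kgi xgi23 ygi7 zgi30) (kgi xgi22 ygi33 zgi21)) (@D3.rec (fun _ => Pt) (kgi xgi13 ygi30 zgi44) (kgi xgi19 ygi2 zgi6) (kgi xgi9 ygi9 zgi25) (kgi xgi14 ygi59 zgi34) (kgi xgi7 ygi14 zgi31) (kgi xgi7 ygi14 zgi34) (kgi xgi16 ygi26 zgi26) (kgi xgi23 ygi7 zgi46) (kgi xgi7 ygi17 zgi35) (kgi xgi16 ygi26 zgi27) (kgi xgi23 ygi4 zgi58) (kgi xgi14 ygi25 zgi42) (kgi xgi23 ygi7 zgi59) (kgi xgi23 ygi7 zgi55) (kgi xgi23 ygi8 zgi3) (kgi xgi16 ygi26 zgi34) (kgi xgi16 ygi26 zgi2)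 (kgi xgi23 ygi5 zgi24) (kgi xgi20 ygi28 zgi55) (kgi xgi7 ygi14 zgi54) (kgi xgi17 ygi0 zgi30) (kgi xgi7 ygi14 zgi41) (kgi xgi23 ygi8 zgi9) (kgi xgi13 ygi28 zgi1) (kgi xgi7 ygi15 zgi15) (kgi xgi23 ygi8 zgi15) (kgi xgi7 ygi15 zgi22) (kgi xgi23 ygi7 zgi54) (kgi xgi7 ygi14 zgi44) (kgi xgi7 ygi14 zgi51) (kgi xgi7 ygi41 zgi46) (kgi xgi23 ygi8 zgi23) (kgi xgi7 ygi14 zgi45) (kgi xgi23 ygi5 zgi0) (kgi xgi23 ygi4 zgi61) (kgi xgi21 ygi14 zgi41) (kgi xgi7 ygi52 zgi36) (kgi xgi23 ygi4 zgi54) (kgi xgi23 ygi8 zgi35) (kgi xgi7 ygi14 zgi49) (kgi xgi21 ygi14 zgi40) (kgi xgi22 ygi55 zgi37) (kgi xgi12 ygi8 zgi9) (kgi xgi23 ygi8 zgi45) (kgi xgi23 ygi8 zgi48) (kgi xgi7 ygi14 zgi52) (kgi xgi23 ygi5 zgi4) (kgi xgi23 ygi8 zgi55) (kgi xgi23 ygi5 zgi3) (kgi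 xgi13 ygi27 zgi41) (kgi xgi13 ygi30 zgi20) (kgi xgi13 ygi50 zgi29) (kgi xgi20 ygi18 zgi22) (kgi xgi7 ygi14 zgi55) (kgi xgi7 ygi38 zgi50) (kgi xgi23 ygi9 zgi2) (kgi xgi7 ygi14 zgi57) (kgi xgi23 ygi5 zgi10) (kgi xgi23 ygi9 zgi9) (kgi xgi23 ygi5 zgi8) (kgi xgi21 ygi14 zgi43) (kgi xgi22 ygi55 zgi32)) (@D3.rec (fun _ => Pt) (kgi xgi23 ygi9 zgi14) (kgi xgi23 ygi9 zgi16) (kgi xgi23 ygi9 zgi19) (kgi xgi7 ygi38 zgi43) (kgi xgi23 ygi9 zgi23) (kgi xgi7 ygi14 zgi61) (kgi xgi23 ygi5 zgi15) (kgi xgi23 ygi9 zgi32) (kgi xgi23 ygi5 zgi13) (kgi xgi11 ygi43 zgi10) (kgi xgi14 ygi18 zgi3) (kgi xgi16 ygi0 zgi48) (kgi xgi16 ygi1 zgi60) (kgi xgi7 ygi51 zgi10) (kgi xgi23 ygi9 zgi29) (kgi xgi7 ygi15 zgi2) (kgi xgi23 ygi9 zgi36) (kgi xgi23 ygi9 zgi38) (kgi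 xgi23 ygi9 zgi43) (kgi xgi16 ygi26 zgi35) (kgi xgi7 ygi15 zgi3) (kgi xgi23 ygi9 zgi47) (kgi xgi23 ygi9 zgi50) (kgi xgi7 ygi15 zgi5) (kgi xgi22 ygi52 zgi18) (kgi xgi7 ygi51 zgi44) (kgi xgi14 ygi51 zgi39) (kgi xgi7 ygi15 zgi8) (kgi xgi7 ygi39 zgi13) (kgi xgi7 ygi39 zgi15) (kgi xgi23 ygi10 zgi0) (kgi xgi13 ygi39 zgi47) (kgi xgi23 ygi10 zgi4) (kgi xgi16 ygi27 zgi21) (kgi xgi23 ygi5 zgi33) (kgi xgi7 ygi15 zgi12) (kgi xgi15 ygi53 zgi23) (kgi xgi15 ygi53 zgi21) (kgi xgi22 ygi16 zgi50) (kgi xgi23 ygi9 zgi59) (kgi xgi13 ygi39 zgi39) (kgi xgi23 ygi10 zgi16) (kgi xgi13 ygi33 zgi41) (kgi xgi13 ygi39 zgi44) (kgi xgi23 ygi10 zgi22) (kgi xgi11 ygi47 zgi47) (kgi xgi23 ygi8 zgi28) (kgi xgi7 ygi15 zgi16) (kgi xgi23 ygi5 zgi32) (kgi xgi23 ygi5 zgi30)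 (kgi xgi20 ygi37 zgi12) (kgi xgi23 ygi5 zgi27) (kgi xgi13 ygi30 zgi3) (kgi xgi7 ygi15 zgi20) (kgi xgi23 ygi1 zgi20) (kgi xgi13 ygi10 zgi4) (kgi xgi11 ygi38 zgi2) (kgi xgi7 ygi15 zgi21) (kgi xgi13 ygi38 zgi56) (kgi xgi16 ygi43 zgi20) (kgi xgi23 ygi8 zgi53) (kgi xgi7 ygi15 zgi23)) (@D3.rec (fun _ => Pt) (kgi xgi23 ygi5 zgi37) (kgi xgi12 ygi53 zgi7) (kgi xgi23 ygi5 zgi35) (kgi xgi13 ygi33 zgi42) (kgi xgi13 ygi38 zgi46) (kgi xgi7 ygi15 zgi26) (kgi xgi13 ygi49 zgi41) (kgi xgi14 ygi12 zgi39) (kgi xgi13 ygi26 zgi43) (kgi xgi13 ygi23 zgi27) (kgi xgi13 ygi18 zgi25) (kgi xgi23 ygi10 zgi53) (kgi xgi13 ygi51 zgi60) (kgi xgi7 ygi15 zgi40) (kgi xgi23 ygi5 zgi39) (kgi xgi13 ygi19 zgi20) (kgi xgi14 ygi28 zgi61) (kgi xgi23 ygi10 zgi60) (kgi xgi7 ygi15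 zgi42) (kgi xgi13 ygi21 zgi36) (kgi xgi13 ygi21 zgi43) (kgi xgi23 ygi11 zgi5) (kgi xgi14 ygi18 zgi40) (kgi xgi13 ygi19 zgi46) (kgi xgi23 ygi11 zgi8) (kgi xgi23 ygi11 zgi10) (kgi xgi19 ygi28 zgi42) (kgi xgi13 ygi9 zgi29) (kgi xgi17 ygi59 zgi46) (kgi xgi19 ygi16 zgi13) (kgi xgi19 ygi35 zgi11) (kgi xgi23 ygi11 zgi16) (kgi xgi23 ygi11 zgi20) (kgi xgi7 ygi15 zgi50) (kgi xgi23 ygi5 zgi48) (kgi xgi23 ygi5 zgi46) (kgi xgi19 ygi15 zgi44) (kgi xgi13 ygi17 zgi19) (kgi xgi13 ygi40 zgi18) (kgi xgi13 ygi17 zgi39) (kgi xgi7 ygi15 zgi56) (kgi xgi12 ygi34 zgi6) (kgi xgi15 ygi58 zgi54) (kgi xgi7 ygi15 zgi57) (kgi xgi13 ygi34 zgi34) (kgi xgi13 ygi34 zgi32) (kgi xgi22 ygi16 zgi54) (kgi xgi13 ygi22 zgi18) (kgi xgi13 ygi16 zgi24) (kgi xgi13 ygi57 zgi41)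 (kgi xgi7 ygi21 zgi43) (kgi xgi13 ygi19 zgi23) (kgi xgi12 ygi34 zgi54) (kgi xgi7 ygi22 zgi14) (kgi xgi23 ygi11 zgi40) (kgi xgi7 ygi16 zgi0) (kgi xgi13 ygi19 zgi9) (kgi xgi23 ygi11 zgi45) (kgi xgi23 ygi11 zgi48) (kgi xgi7 ygi16 zgi1) (kgi xgi12 ygi34 zgi53) (kgi xgi23 ygi11 zgi52)) (@D3.rec (fun _ => Pt) (kgi xgi7 ygi16 zgi2) (kgi xgi13 ygi36 zgi0) (kgi xgi18 ygi54 zgi22) (kgi xgi13 ygi35 zgi60) (kgi xgi13 ygi50 zgi19) (kgi xgi7 ygi16 zgi8) (kgi xgi13 ygi35 zgi14) (kgi xgi7 ygi16 zgi7) (kgi xgi13 ygi35 zgi57) (kgi xgi17 ygi16 zgi55) (kgi xgi13 ygi20 zgi5) (kgi xgi23 ygi12 zgi0) (kgi xgi13 ygi6 zgi1) (kgi xgi18 ygi54 zgi28) (kgi xgi23 ygi12 zgi5) (kgi xgi23 ygi12 zgi8) (kgi xgi7 ygi16 zgi11) (kgi xgi22 ygi17 zgi40) (kgi xgi22 ygi17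 zgi38) (kgi xgi7 ygi16 zgi12) (kgi xgi13 ygi6 zgi10) (kgi xgi13 ygi28 zgi61) (kgi xgi23 ygi12 zgi19) (kgi xgi7 ygi16 zgi13) (kgi xgi13 ygi45 zgi34) (kgi xgi13 ygi45 zgi35) (kgi xgi22 ygi58 zgi33) (kgi xgi7 ygi34 zgi40) (kgi xgi23 ygi12 zgi32) (kgi xgi14 ygi35 zgi37) (kgi xgi23 ygi12 zgi34) (kgi xgi22 ygi33 zgi49) (kgi xgi14 ygi30 zgi4) (kgi xgi22 ygi36 zgi0) (kgi xgi13 ygi45 zgi23) (kgi xgi7 ygi16 zgi17) (kgi xgi13 ygi45 zgi25) (kgi xgi19 ygi2 zgi40) (kgi xgi7 ygi37 zgi14) (kgi xgi7 ygi38 zgi7) (kgi xgi19 ygi30 zgi60) (kgi xgi13 ygi9 zgi26) (kgi xgi16 ygi44 zgi26) (kgi xgi7 ygi16 zgi21) (kgi xgi23 ygi12 zgi51) (kgi xgi13 ygi46 zgi5) (kgi xgi23 ygi12 zgi56) (kgi xgi7 ygi16 zgi23) (kgi xgi7 ygi42 zgi42) (kgi xgi7 ygi42 zgi45) (kgi xgi19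 ygi34 zgi36) (kgi xgi11 ygi50 zgi44) (kgi xgi17 ygi50 zgi4) (kgi xgi20 ygi28 zgi54) (kgi xgi15 ygi55 zgi27) (kgi xgi11 ygi56 zgi0) (kgi xgi23 ygi12 zgi61) (kgi xgi7 ygi16 zgi27) (kgi xgi7 ygi50 zgi37) (kgi xgi7 ygi50 zgi34) (kgi xgi23 ygi13 zgi3) (kgi xgi7 ygi16 zgi28)) (@D3.rec (fun _ => Pt) (kgi xgi23 ygi12 zgi57) (kgi xgi19 ygi42 zgi11) (kgi xgi14 ygi32 zgi23) (kgi xgi11 ygi50 zgi59) (kgi xgi9 ygi14 zgi28) (kgi xgi7 ygi16 zgi31) (kgi xgi13 ygi45 zgi45) (kgi xgi12 ygi40 zgi61) (kgi xgi7 ygi16 zgi32) (kgi xgi22 ygi22 zgi11) (kgi xgi23 ygi13 zgi19) (kgi xgi22 ygi22 zgi9) (kgi xgi22 ygi12 zgi41) (kgi xgi14 ygi7 zgi27) (kgi xgi7 ygi51 zgi2) (kgi xgi23 ygi13 zgi27) (kgi xgi14 ygi42 zgi52) (kgi xgi22 ygi46 zgi57) (kgi xgi7 ygi37 zgi20)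 (kgi xgi13 ygi27 zgi28) (kgi xgi23 ygi13 zgi32) (kgi xgi7 ygi16 zgi43) (kgi xgi13 ygi34 zgi50) (kgi xgi13 ygi34 zgi47) (kgi xgi21 ygi14 zgi52) (kgi xgi13 ygi38 zgi18) (kgi xgi13 ygi50 zgi44) (kgi xgi7 ygi16 zgi47) (kgi xgi18 ygi19 zgi2) (kgi xgi8 ygi49 zgi0) (kgi xgi13 ygi50 zgi39) (kgi xgi13 ygi38 zgi8) (kgi xgi14 ygi10 zgi49) (kgi xgi14 ygi18 zgi5) (kgi xgi21 ygi14 zgi46) (kgi xgi22 ygi41 zgi57) (kgi xgi12 ygi48 zgi51) (kgi xgi13 ygi27 zgi9) (kgi xgi7 ygi16 zgi50) (kgi xgi13 ygi37 zgi57) (kgi xgi23 ygi13 zgi57) (kgi xgi13 ygi50 zgi16) (kgi xgi15 ygi10 zgi25) (kgi xgi7 ygi17 zgi32) (kgi xgi14 ygi0 zgi32) (kgi xgi13 ygi49 zgi15) (kgi xgi7 ygi17 zgi37) (kgi xgi23 ygi7 zgi6) (kgi xgi21 ygi14 zgi9) (kgi xgi13 ygi49 zgi13) (kgi xgi23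 ygi14 zgi9) (kgi xgi8 ygi38 zgi9) (kgi xgi13 ygi38 zgi7) (kgi xgi23 ygi14 zgi15) (kgi xgi7 ygi16 zgi60) (kgi xgi23 ygi14 zgi20) (kgi xgi23 ygi14 zgi22) (kgi xgi13 ygi15 zgi27) (kgi xgi7 ygi17 zgi4) (kgi xgi14 ygi45 zgi18) (kgi xgi23 ygi14 zgi29) (kgi xgi23 ygi6 zgi15)) (@D3.rec (fun _ => Pt) (kgi xgi22 ygi49 zgi44) (kgi xgi13 ygi14 zgi49) (kgi xgi23 ygi14 zgi36) (kgi xgi11 ygi44 zgi36) (kgi xgi22 ygi13 zgi1) (kgi xgi13 ygi50 zgi12) (kgi xgi14 ygi15 zgi39) (kgi xgi21 ygi13 zgi33) (kgi xgi22 ygi41 zgi22) (kgi xgi23 ygi3 zgi45) (kgi xgi23 ygi4 zgi4) (kgi xgi23 ygi14 zgi42) (kgi xgi13 ygi51 zgi1) (kgi xgi8 ygi49 zgi44) (kgi xgi21 ygi53 zgi38) (kgi xgi21 ygi51 zgi10) (kgi xgi8 ygi50 zgi31) (kgi xgi21 ygi14 zgi38) (kgi xgi22 ygi42 zgi41)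 (kgi xgi13 ygi51 zgi20) (kgi xgi22 ygi53 zgi49) (kgi xgi21 ygi14 zgi48) (kgi xgi7 ygi17 zgi19) (kgi xgi17 ygi15 zgi31) (kgi xgi23 ygi3 zgi46) (kgi xgi21 ygi54 zgi61) (kgi xgi20 ygi44 zgi21) (kgi xgi13 ygi39 zgi3) (kgi xgi21 ygi38 zgi7) (kgi xgi15 ygi13 zgi23) (kgi xgi15 ygi7 zgi49) (kgi xgi7 ygi19 zgi18) (kgi xgi8 ygi38 zgi60) (kgi xgi7 ygi17 zgi29) (kgi xgi7 ygi17 zgi31) (kgi xgi23 ygi15 zgi2) (kgi xgi23 ygi15 zgi7) (kgi xgi23 ygi15 zgi1) (kgi xgi14 ygi45 zgi19) (kgi xgi22 ygi34 zgi5) (kgi xgi23 ygi15 zgi17) (kgi xgi23 ygi15 zgi12) (kgi xgi23 ygi9 zgi30) (kgi xgi7 ygi17 zgi34) (kgi xgi23 ygi14 zgi1) (kgi xgi23 ygi15 zgi29) (kgi xgi23 ygi15 zgi33) (kgi xgi23 ygi13 zgi60) (kgi xgi18 ygi42 zgi40) (kgi xgi14 ygi15 zgi40) (kgi xgi7 ygi17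 zgi53) (kgi xgi20 ygi32 zgi16) (kgi xgi23 ygi8 zgi58) (kgi xgi7 ygi17 zgi38) (kgi xgi22 ygi57 zgi38) (kgi xgi23 ygi15 zgi45) (kgi xgi23 ygi15 zgi50) (kgi xgi7 ygi17 zgi39) (kgi xgi22 ygi41 zgi17) (kgi xgi13 ygi50 zgi10) (kgi xgi7 ygi18 zgi14) (kgi xgi23 ygi15 zgi59)) (@D3.rec (fun _ => Pt) (kgi xgi7 ygi17 zgi41) (kgi xgi7 ygi17 zgi48) (kgi xgi23 ygi16 zgi4) (kgi xgi23 ygi15 zgi13) (kgi xgi7 ygi17 zgi42) (kgi xgi23 ygi9 zgi34) (kgi xgi23 ygi9 zgi31) (kgi xgi10 ygi4 zgi19) (kgi xgi7 ygi24 zgi16) (kgi xgi23 ygi14 zgi3) (kgi xgi13 ygi50 zgi42) (kgi xgi7 ygi24 zgi17) (kgi xgi22 ygi30 zgi31) (kgi xgi7 ygi17 zgi46) (kgi xgi21 ygi14 zgi47) (kgi xgi7 ygi29 zgi40) (kgi xgi8 ygi38 zgi8) (kgi xgi7 ygi17 zgi47) (kgi xgi23 ygi7 zgi4) (kgi xgi21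 ygi14 zgi24) (kgi xgi23 ygi16 zgi24) (kgi xgi23 ygi16 zgi27) (kgi xgi7 ygi17 zgi49) (kgi xgi23 ygi14 zgi10) (kgi xgi21 ygi41 zgi26) (kgi xgi23 ygi14 zgi8) (kgi xgi13 ygi41 zgi5) (kgi xgi13 ygi50 zgi20) (kgi xgi20 ygi33 zgi9) (kgi xgi17 ygi2 zgi26) (kgi xgi7 ygi17 zgi54) (kgi xgi23 ygi16 zgi29) (kgi xgi23 ygi16 zgi40) (kgi xgi7 ygi17 zgi55) (kgi xgi23 ygi14 zgi16) (kgi xgi23 ygi16 zgi49) (kgi xgi23 ygi14 zgi14) (kgi xgi10 ygi4 zgi20) (kgi xgi13 ygi13 zgi45) (kgi xgi23 ygi16 zgi55) (kgi xgi23 ygi16 zgi57) (kgi xgi23 ygi16 zgi60) (kgi xgi7 ygi17 zgi58) (kgi xgi22 ygi53 zgi46) (kgi xgi22 ygi53 zgi43) (kgi xgi23 ygi17 zgi6) (kgi xgi23 ygi16 zgi46) (kgi xgi23 ygi17 zgi13) (kgi xgi23 ygi17 zgi4) (kgi xgi7 ygi17 zgi61) (kgi xgi23 ygi17 zgi15)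 (kgi xgi23 ygi17 zgi21) (kgi xgi23 ygi17 zgi28) (kgi xgi23 ygi17 zgi16) (kgi xgi23 ygi17 zgi32) (kgi xgi23 ygi17 zgi35) (kgi xgi7 ygi18 zgi2) (kgi xgi23 ygi14 zgi2) (kgi xgi7 ygi18 zgi4) (kgi xgi14 ygi0 zgi41) (kgi xgi7 ygi18 zgi6) (kgi xgi13 ygi18 zgi4)) (@D3.rec (fun _ => Pt) (kgi xgi23 ygi17 zgi46) (kgi xgi13 ygi46 zgi52) (kgi xgi23 ygi17 zgi52) (kgi xgi13 ygi49 zgi26) (kgi xgi23 ygi14 zgi31) (kgi xgi7 ygi18 zgi10) (kgi xgi23 ygi3 zgi17) (kgi xgi23 ygi17 zgi60) (kgi xgi23 ygi18 zgi3) (kgi xgi7 ygi18 zgi11) (kgi xgi19 ygi56 zgi42) (kgi xgi16 ygi27 zgi23) (kgi xgi23 ygi17 zgi44) (kgi xgi13 ygi46 zgi45) (kgi xgi23 ygi18 zgi12) (kgi xgi13 ygi46 zgi49) (kgi xgi23 ygi18 zgi16) (kgi xgi23 ygi18 zgi19) (kgi xgi23 ygi16 zgi13) (kgi xgi7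 ygi18 zgi15) (kgi xgi23 ygi14 zgi30) (kgi xgi23 ygi18 zgi30) (kgi xgi23 ygi14 zgi28) (kgi xgi22 ygi57 zgi57) (kgi xgi7 ygi18 zgi19) (kgi xgi13 ygi15 zgi32) (kgi xgi13 ygi38 zgi10) (kgi xgi23 ygi18 zgi34) (kgi xgi22 ygi31 zgi40) (kgi xgi13 ygi27 zgi36) (kgi xgi7 ygi18 zgi23) (kgi xgi22 ygi31 zgi42) (kgi xgi18 ygi20 zgi9) (kgi xgi7 ygi18 zgi24) (kgi xgi13 ygi52 zgi12) (kgi xgi23 ygi15 zgi57) (kgi xgi23 ygi16 zgi34) (kgi xgi7 ygi18 zgi26) (kgi xgi23 ygi14 zgi37) (kgi xgi23 ygi18 zgi47) (kgi xgi23 ygi14 zgi35) (kgi xgi13 ygi52 zgi1) (kgi xgi13 ygi22 zgi35) (kgi xgi7 ygi18 zgi30) (kgi xgi13 ygi15 zgi26) (kgi xgi13 ygi15 zgi45) (kgi xgi23 ygi18 zgi49) (kgi xgi7 ygi34 zgi41) (kgi xgi23 ygi18 zgi54) (kgi xgi22 ygi29 zgi48) (kgi xgi13 ygi37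 zgi33) (kgi xgi23 ygi18 zgi58) (kgi xgi7 ygi18 zgi37) (kgi xgi7 ygi30 zgi47) (kgi xgi22 ygi36 zgi35) (kgi xgi14 ygi0 zgi57) (kgi xgi15 ygi8 zgi1) (kgi xgi7 ygi18 zgi39) (kgi xgi23 ygi19 zgi3) (kgi xgi7 ygi18 zgi40) (kgi xgi23 ygi18 zgi59) (kgi xgi23 ygi19 zgi12)) (@D3.rec (fun _ => Pt) (kgi xgi23 ygi18 zgi57) (kgi xgi22 ygi36 zgi36) (kgi xgi14 ygi5 zgi53) (kgi xgi13 ygi5 zgi38) (kgi xgi7 ygi53 zgi5) (kgi xgi14 ygi42 zgi11) (kgi xgi7 ygi53 zgi30) (kgi xgi13 ygi26 zgi42) (kgi xgi12 ygi8 zgi28) (kgi xgi13 ygi26 zgi39) (kgi xgi7 ygi30 zgi33) (kgi xgi7 ygi40 zgi29) (kgi xgi14 ygi17 zgi12) (kgi xgi23 ygi3 zgi16) (kgi xgi13 ygi47 zgi59) (kgi xgi13 ygi38 zgi45) (kgi xgi7 ygi18 zgi52) (kgi xgi13 ygi46 zgi41) (kgi xgi23 ygi19 zgi36) (kgi xgi22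 ygi36 zgi34) (kgi xgi13 ygi31 zgi44) (kgi xgi13 ygi46 zgi34) (kgi xgi14 ygi44 zgi60) (kgi xgi7 ygi18 zgi57) (kgi xgi7 ygi18 zgi61) (kgi xgi7 ygi18 zgi58) (kgi xgi20 ygi50 zgi45) (kgi xgi22 ygi14 zgi37) (kgi xgi16 ygi30 zgi31) (kgi xgi13 ygi47 zgi52) (kgi xgi18 ygi1 zgi31) (kgi xgi12 ygi7 zgi52) (kgi xgi13 ygi46 zgi26) (kgi xgi23 ygi19 zgi44) (kgi xgi22 ygi38 zgi55) (kgi xgi17 ygi6 zgi33) (kgi xgi14 ygi44 zgi5) (kgi xgi13 ygi26 zgi60) (kgi xgi16 ygi31 zgi33) (kgi xgi23 ygi11 zgi57) (kgi xgi16 ygi30 zgi17) (kgi xgi9 ygi14 zgi57) (kgi xgi13 ygi48 zgi19) (kgi xgi22 ygi54 zgi28) (kgi xgi16 ygi30 zgi26) (kgi xgi15 ygi13 zgi1) (kgi xgi7 ygi19 zgi16) (kgi xgi16 ygi11 zgi61) (kgi xgi23 ygi19 zgi56) (kgi xgi16 ygi12 zgi0) (kgi xgi7 ygi30 zgi34)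 (kgi xgi14 ygi15 zgi50) (kgi xgi23 ygi20 zgi1) (kgi xgi16 ygi11 zgi55) (kgi xgi22 ygi54 zgi43) (kgi xgi7 ygi19 zgi20) (kgi xgi21 ygi28 zgi4) (kgi xgi23 ygi20 zgi11) (kgi xgi23 ygi20 zgi16) (kgi xgi21 ygi28 zgi2) (kgi xgi22 ygi15 zgi28) (kgi xgi7 ygi19 zgi33)) (@D3.rec (fun _ => Pt) (kgi xgi22 ygi42 zgi1) (kgi xgi22 ygi54 zgi12) (kgi xgi7 ygi19 zgi24) (kgi xgi22 ygi42 zgi8) (kgi xgi23 ygi20 zgi19) (kgi xgi15 ygi26 zgi22) (kgi xgi7 ygi19 zgi25) (kgi xgi22 ygi54 zgi5) (kgi xgi7 ygi19 zgi26) (kgi xgi22 ygi42 zgi19) (kgi xgi22 ygi42 zgi17) (kgi xgi14 ygi45 zgi8) (kgi xgi22 ygi42 zgi5) (kgi xgi13 ygi47 zgi19) (kgi xgi7 ygi19 zgi29) (kgi xgi22 ygi42 zgi14) (kgi xgi14 ygi9 zgi12) (kgi xgi8 ygi10 zgi45) (kgi xgi7 ygi19 zgi30) (kgi xgi23 ygi20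 zgi30) (kgi xgi23 ygi20 zgi29) (kgi xgi7 ygi19 zgi31) (kgi xgi22 ygi42 zgi13) (kgi xgi22 ygi42 zgi11) (kgi xgi10 ygi18 zgi1) (kgi xgi23 ygi20 zgi40) (kgi xgi23 ygi20 zgi45) (kgi xgi16 ygi3 zgi25) (kgi xgi23 ygi20 zgi49) (kgi xgi7 ygi19 zgi35) (kgi xgi14 ygi45 zgi14) (kgi xgi21 ygi28 zgi34) (kgi xgi14 ygi45 zgi12) (kgi xgi14 ygi45 zgi10) (kgi xgi21 ygi19 zgi57) (kgi xgi23 ygi21 zgi0) (kgi xgi21 ygi55 zgi47) (kgi xgi10 ygi4 zgi17) (kgi xgi7 ygi19 zgi38) (kgi xgi14 ygi45 zgi4) (kgi xgi14 ygi45 zgi2) (kgi xgi23 ygi21 zgi7) (kgi xgi23 ygi20 zgi54) (kgi xgi23 ygi21 zgi13) (kgi xgi23 ygi21 zgi5) (kgi xgi7 ygi19 zgi41) (kgi xgi23 ygi3 zgi1) (kgi xgi23 ygi2 zgi61) (kgi xgi13 ygi15 zgi44) (kgi xgi16 ygi11 zgi1) (kgi xgi22 ygi57 zgi3) (kgi xgi7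 ygi24 zgi18) (kgi xgi23 ygi21 zgi24) (kgi xgi7 ygi19 zgi46) (kgi xgi22 ygi57 zgi4) (kgi xgi21 ygi14 zgi61) (kgi xgi7 ygi19 zgi47) (kgi xgi13 ygi16 zgi23) (kgi xgi23 ygi21 zgi37) (kgi xgi13 ygi16 zgi21) (kgi xgi22 ygi41 zgi30) (kgi xgi14 ygi44 zgi47)) (@D3.rec (fun _ => Pt) (kgi xgi13 ygi16 zgi11) (kgi xgi13 ygi38 zgi52) (kgi xgi7 ygi19 zgi52) (kgi xgi13 ygi16 zgi10) (kgi xgi23 ygi21 zgi46) (kgi xgi16 ygi10 zgi38) (kgi xgi7 ygi19 zgi53) (kgi xgi13 ygi41 zgi1) (kgi xgi7 ygi19 zgi54) (kgi xgi22 ygi41 zgi61) (kgi xgi23 ygi21 zgi53) (kgi xgi22 ygi41 zgi59) (kgi xgi13 ygi49 zgi29) (kgi xgi22 ygi13 zgi2) (kgi xgi23 ygi21 zgi57) (kgi xgi23 ygi21 zgi61) (kgi xgi7 ygi19 zgi59) (kgi xgi22 ygi18 zgi61) (kgi xgi20 ygi44 zgi25) (kgi xgi22 ygi18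 zgi60) (kgi xgi13 ygi7 zgi46) (kgi xgi11 ygi42 zgi51) (kgi xgi7 ygi26 zgi55) (kgi xgi21 ygi25 zgi2) (kgi xgi12 ygi30 zgi38) (kgi xgi23 ygi22 zgi13) (kgi xgi17 ygi34 zgi57) (kgi xgi23 ygi22 zgi19) (kgi xgi7 ygi26 zgi58) (kgi xgi23 ygi22 zgi24) (kgi xgi11 ygi59 zgi41) (kgi xgi8 ygi24 zgi58) (kgi xgi7 ygi20 zgi8) (kgi xgi23 ygi22 zgi29) (kgi xgi23 ygi22 zgi32) (kgi xgi7 ygi20 zgi13) (kgi xgi21 ygi4 zgi31) (kgi xgi9 ygi35 zgi36) (kgi xgi23 ygi22 zgi39) (kgi xgi19 ygi19 zgi56) (kgi xgi7 ygi20 zgi15) (kgi xgi7 ygi46 zgi12) (kgi xgi13 ygi55 zgi35) (kgi xgi13 ygi9 zgi46) (kgi xgi14 ygi45 zgi42) (kgi xgi14 ygi38 zgi57) (kgi xgi17 ygi57 zgi1) (kgi xgi23 ygi22 zgi46) (kgi xgi7 ygi20 zgi25) (kgi xgi7 ygi20 zgi24) (kgi xgi23 ygi22 zgi44) (kgi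 xgi23 ygi22 zgi51) (kgi xgi23 ygi22 zgi43) (kgi xgi22 ygi42 zgi36) (kgi xgi7 ygi53 zgi42) (kgi xgi14 ygi54 zgi5) (kgi xgi14 ygi11 zgi21) (kgi xgi7 ygi20 zgi27) (kgi xgi21 ygi32 zgi56) (kgi xgi17 ygi38 zgi47) (kgi xgi23 ygi22 zgi45) (kgi xgi12 ygi10 zgi1)) (@D3.rec (fun _ => Pt) (kgi xgi23 ygi23 zgi2) (kgi xgi7 ygi20 zgi30) (kgi xgi14 ygi2 zgi11) (kgi xgi23 ygi23 zgi7) (kgi xgi14 ygi2 zgi8) (kgi xgi15 ygi43 zgi30) (kgi xgi9 ygi45 zgi41) (kgi xgi9 ygi46 zgi14) (kgi xgi23 ygi23 zgi13) (kgi xgi9 ygi45 zgi27) (kgi xgi21 ygi37 zgi56) (kgi xgi9 ygi45 zgi54) (kgi xgi14 ygi3 zgi4) (kgi xgi7 ygi20 zgi35) (kgi xgi14 ygi1 zgi42) (kgi xgi23 ygi23 zgi23) (kgi xgi23 ygi23 zgi27) (kgi xgi14 ygi54 zgi28) (kgi xgi23 ygi23 zgi28) (kgi xgi23 ygi23 zgi30)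 (kgi xgi14 ygi54 zgi25) (kgi xgi23 ygi23 zgi34) (kgi xgi15 ygi43 zgi31) (kgi xgi7 ygi51 zgi53) (kgi xgi23 ygi23 zgi38) (kgi xgi14 ygi55 zgi23) (kgi xgi14 ygi46 zgi18) (kgi xgi12 ygi40 zgi30) (kgi xgi12 ygi47 zgi44) (kgi xgi14 ygi54 zgi9) (kgi xgi23 ygi23 zgi43) (kgi xgi14 ygi20 zgi32) (kgi xgi13 ygi20 zgi13) (kgi xgi23 ygi23 zgi46) (kgi xgi13 ygi24 zgi14) (kgi xgi7 ygi20 zgi49) (kgi xgi14 ygi41 zgi59) (kgi xgi13 ygi5 zgi27) (kgi xgi21 ygi54 zgi46) (kgi xgi7 ygi20 zgi51) (kgi xgi14 ygi3 zgi40) (kgi xgi14 ygi3 zgi38) (kgi xgi10 ygi25 zgi60) (kgi xgi19 ygi21 zgi26) (kgi xgi19 ygi23 zgi10) (kgi xgi17 ygi50 zgi54) (kgi xgi23 ygi23 zgi49) (kgi xgi23 ygi23 zgi54) (kgi xgi20 ygi45 zgi40) (kgi xgi23 ygi23 zgi59) (kgi xgi23 ygi23 zgi61) (kgi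 xgi14 ygi3 zgi53) (kgi xgi7 ygi50 zgi57) (kgi xgi13 ygi9 zgi17) (kgi xgi13 ygi12 zgi26) (kgi xgi7 ygi21 zgi3) (kgi xgi13 ygi12 zgi28) (kgi xgi14 ygi41 zgi2) (kgi xgi7 ygi21 zgi4) (kgi xgi7 ygi21 zgi7) (kgi xgi13 ygi9 zgi43) (kgi xgi7 ygi49 zgi36)) (@D3.rec (fun _ => Pt) (kgi xgi22 ygi38 zgi10) (kgi xgi14 ygi55 zgi24) (kgi xgi9 ygi22 zgi3) (kgi xgi22 ygi38 zgi44) (kgi xgi7 ygi21 zgi11) (kgi xgi23 ygi23 zgi16) (kgi xgi14 ygi2 zgi60) (kgi xgi22 ygi27 zgi6) (kgi xgi7 ygi54 zgi39) (kgi xgi7 ygi21 zgi13) (kgi xgi23 ygi24 zgi23) (kgi xgi14 ygi2 zgi56) (kgi xgi7 ygi26 zgi52) (kgi xgi16 ygi5 zgi2) (kgi xgi23 ygi24 zgi26) (kgi xgi11 ygi18 zgi26) (kgi xgi18 ygi18 zgi32) (kgi xgi7 ygi21 zgi16) (kgi xgi13 ygi25 zgi14) (kgi xgi8 ygi32 zgi45) (kgi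 xgi7 ygi54 zgi60) (kgi xgi7 ygi51 zgi42) (kgi xgi15 ygi41 zgi35) (kgi xgi8 ygi34 zgi2) (kgi xgi7 ygi54 zgi54) (kgi xgi21 ygi24 zgi29) (kgi xgi14 ygi44 zgi38) (kgi xgi13 ygi55 zgi26) (kgi xgi14 ygi7 zgi32) (kgi xgi14 ygi7 zgi37) (kgi xgi12 ygi23 zgi4) (kgi xgi7 ygi59 zgi2) (kgi xgi7 ygi21 zgi27) (kgi xgi14 ygi3 zgi61) (kgi xgi23 ygi24 zgi48) (kgi xgi14 ygi3 zgi58) (kgi xgi14 ygi7 zgi19) (kgi xgi13 ygi55 zgi18) (kgi xgi21 ygi56 zgi48) (kgi xgi13 ygi36 zgi47) (kgi xgi22 ygi45 zgi41) (kgi xgi7 ygi21 zgi30) (kgi xgi13 ygi37 zgi18) (kgi xgi23 ygi25 zgi2) (kgi xgi14 ygi4 zgi7) (kgi xgi11 ygi29 zgi15) (kgi xgi13 ygi0 zgi55) (kgi xgi20 ygi6 zgi42) (kgi xgi23 ygi25 zgi12) (kgi xgi23 ygi25 zgi14) (kgi xgi23 ygi25 zgi9) (kgi xgi7 ygi21 zgi34)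 (kgi xgi7 ygi23 zgi48) (kgi xgi23 ygi25 zgi20) (kgi xgi7 ygi23 zgi45) (kgi xgi7 ygi23 zgi50) (kgi xgi7 ygi23 zgi49) (kgi xgi19 ygi56 zgi16) (kgi xgi14 ygi0 zgi38) (kgi xgi23 ygi25 zgi25) (kgi xgi14 ygi7 zgi21) (kgi xgi13 ygi55 zgi16)) (@D3.rec (fun _ => Pt) (kgi xgi23 ygi25 zgi31) (kgi xgi23 ygi25 zgi22) (kgi xgi14 ygi0 zgi27) (kgi xgi15 ygi13 zgi36) (kgi xgi7 ygi21 zgi40) (kgi xgi7 ygi24 zgi12) (kgi xgi23 ygi25 zgi42) (kgi xgi23 ygi25 zgi45) (kgi xgi13 ygi14 zgi51) (kgi xgi14 ygi9 zgi53) (kgi xgi7 ygi21 zgi44) (kgi xgi22 ygi28 zgi18) (kgi xgi23 ygi25 zgi52) (kgi xgi7 ygi55 zgi12) (kgi xgi23 ygi25 zgi56) (kgi xgi22 ygi45 zgi26) (kgi xgi13 ygi55 zgi2) (kgi xgi13 ygi2 zgi38) (kgi xgi13 ygi54 zgi40) (kgi xgi10 ygi4 zgi18) (kgi xgi7 ygi21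 zgi51) (kgi xgi21 ygi14 zgi50) (kgi xgi23 ygi26 zgi5) (kgi xgi21 ygi14 zgi49) (kgi xgi14 ygi55 zgi6) (kgi xgi13 ygi24 zgi23) (kgi xgi22 ygi44 zgi14) (kgi xgi23 ygi26 zgi8) (kgi xgi14 ygi9 zgi45) (kgi xgi7 ygi21 zgi54) (kgi xgi21 ygi14 zgi37) (kgi xgi21 ygi29 zgi42) (kgi xgi11 ygi26 zgi58) (kgi xgi7 ygi28 zgi37) (kgi xgi23 ygi26 zgi18) (kgi xgi7 ygi21 zgi56) (kgi xgi13 ygi52 zgi42) (kgi xgi10 ygi1 zgi6) (kgi xgi13 ygi52 zgi40) (kgi xgi7 ygi21 zgi58) (kgi xgi13 ygi8 zgi57) (kgi xgi23 ygi26 zgi27) (kgi xgi12 ygi49 zgi33) (kgi xgi22 ygi17 zgi44) (kgi xgi7 ygi27 zgi0) (kgi xgi17 ygi56 zgi12) (kgi xgi23 ygi26 zgi31) (kgi xgi23 ygi26 zgi32) (kgi xgi11 ygi43 zgi39) (kgi xgi17 ygi56 zgi3) (kgi xgi23 ygi26 zgi20) (kgi xgi7 ygi21 zgi61) (kgi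 xgi14 ygi6 zgi20) (kgi xgi23 ygi26 zgi46) (kgi xgi14 ygi6 zgi17) (kgi xgi7 ygi22 zgi1) (kgi xgi14 ygi5 zgi1) (kgi xgi23 ygi26 zgi55) (kgi xgi23 ygi26 zgi59) (kgi xgi13 ygi24 zgi60) (kgi xgi21 ygi34 zgi36) (kgi xgi7 ygi22 zgi20)) (@D3.rec (fun _ => Pt) (kgi xgi7 ygi22 zgi22) (kgi xgi23 ygi27 zgi2) (kgi xgi13 ygi24 zgi57) (kgi xgi23 ygi27 zgi5) (kgi xgi22 ygi17 zgi45) (kgi xgi7 ygi29 zgi1) (kgi xgi23 ygi27 zgi10) (kgi xgi23 ygi26 zgi61) (kgi xgi13 ygi24 zgi50) (kgi xgi13 ygi25 zgi33) (kgi xgi23 ygi27 zgi15) (kgi xgi7 ygi24 zgi30) (kgi xgi13 ygi6 zgi61) (kgi xgi7 ygi22 zgi11) (kgi xgi22 ygi32 zgi51) (kgi xgi14 ygi1 zgi7) (kgi xgi23 ygi26 zgi33) (kgi xgi23 ygi27 zgi11) (kgi xgi12 ygi14 zgi39) (kgi xgi23 ygi26 zgi23) (kgi xgi21 ygi14 zgi0)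 (kgi xgi7 ygi22 zgi19) (kgi xgi23 ygi26 zgi43) (kgi xgi14 ygi6 zgi11) (kgi xgi23 ygi27 zgi1) (kgi xgi13 ygi25 zgi57) (kgi xgi7 ygi22 zgi21) (kgi xgi23 ygi27 zgi37) (kgi xgi14 ygi6 zgi29) (kgi xgi14 ygi6 zgi3) (kgi xgi23 ygi27 zgi45) (kgi xgi23 ygi27 zgi48) (kgi xgi12 ygi31 zgi12) (kgi xgi23 ygi27 zgi44) (kgi xgi23 ygi26 zgi22) (kgi xgi7 ygi22 zgi25) (kgi xgi14 ygi5 zgi34) (kgi xgi23 ygi28 zgi0) (kgi xgi14 ygi5 zgi31) (kgi xgi23 ygi28 zgi5) (kgi xgi21 ygi32 zgi26) (kgi xgi7 ygi22 zgi28) (kgi xgi7 ygi22 zgi31) (kgi xgi14 ygi34 zgi27) (kgi xgi23 ygi28 zgi11) (kgi xgi14 ygi5 zgi36) (kgi xgi14 ygi5 zgi35) (kgi xgi23 ygi28 zgi16) (kgi xgi23 ygi28 zgi20) (kgi xgi14 ygi34 zgi18) (kgi xgi23 ygi28 zgi24) (kgi xgi14 ygi6 zgi4) (kgi xgi7 ygi28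 zgi49) (kgi xgi23 ygi28 zgi30) (kgi xgi23 ygi28 zgi13) (kgi xgi13 ygi58 zgi13) (kgi xgi23 ygi28 zgi37) (kgi xgi20 ygi59 zgi22) (kgi xgi14 ygi5 zgi50) (kgi xgi23 ygi28 zgi41) (kgi xgi22 ygi42 zgi58) (kgi xgi22 ygi43 zgi22)) (@D3.rec (fun _ => Pt) (kgi xgi23 ygi28 zgi47) (kgi xgi13 ygi19 zgi21) (kgi xgi14 ygi4 zgi14) (kgi xgi13 ygi13 zgi40) (kgi xgi14 ygi4 zgi3) (kgi xgi21 ygi39 zgi11) (kgi xgi23 ygi25 zgi15) (kgi xgi23 ygi25 zgi33) (kgi xgi13 ygi55 zgi33) (kgi xgi23 ygi28 zgi55) (kgi xgi22 ygi43 zgi7) (kgi xgi17 ygi13 zgi0) (kgi xgi11 ygi52 zgi4) (kgi xgi14 ygi6 zgi41) (kgi xgi7 ygi22 zgi51) (kgi xgi23 ygi28 zgi57) (kgi xgi23 ygi29 zgi5) (kgi xgi23 ygi28 zgi54) (kgi xgi13 ygi19 zgi4) (kgi xgi13 ygi25 zgi37) (kgi xgi22 ygi40 zgi55)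 (kgi xgi22 ygi32 zgi35) (kgi xgi23 ygi28 zgi12) (kgi xgi22 ygi43 zgi28) (kgi xgi14 ygi8 zgi52) (kgi xgi7 ygi22 zgi54) (kgi xgi22 ygi43 zgi6) (kgi xgi23 ygi29 zgi20) (kgi xgi11 ygi27 zgi2) (kgi xgi17 ygi55 zgi57) (kgi xgi23 ygi29 zgi22) (kgi xgi13 ygi59 zgi6) (kgi xgi14 ygi8 zgi42) (kgi xgi7 ygi22 zgi57) (kgi xgi14 ygi7 zgi36) (kgi xgi23 ygi29 zgi27) (kgi xgi14 ygi7 zgi34) (kgi xgi14 ygi3 zgi57) (kgi xgi23 ygi29 zgi33) (kgi xgi7 ygi22 zgi60) (kgi xgi23 ygi26 zgi14) (kgi xgi13 ygi44 zgi46) (kgi xgi7 ygi24 zgi5) (kgi xgi14 ygi8 zgi26) (kgi xgi14 ygi9 zgi24) (kgi xgi21 ygi14 zgi21) (kgi xgi7 ygi23 zgi8) (kgi xgi13 ygi20 zgi55) (kgi xgi7 ygi52 zgi5) (kgi xgi14 ygi40 zgi9) (kgi xgi7 ygi23 zgi7) (kgi xgi23 ygi3 zgi35) (kgi xgi23 ygi29 zgi47)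 (kgi xgi23 ygi3 zgi33) (kgi xgi21 ygi41 zgi12) (kgi xgi22 ygi43 zgi19) (kgi xgi13 ygi25 zgi59) (kgi xgi23 ygi29 zgi52) (kgi xgi7 ygi23 zgi10) (kgi xgi23 ygi29 zgi41) (kgi xgi23 ygi29 zgi59) (kgi xgi21 ygi14 zgi15)) (@D3.rec (fun _ => Pt) (kgi xgi23 ygi30 zgi1) (kgi xgi23 ygi24 zgi37) (kgi xgi23 ygi30 zgi0) (kgi xgi7 ygi52 zgi4) (kgi xgi7 ygi23 zgi14) (kgi xgi14 ygi7 zgi11) (kgi xgi23 ygi30 zgi11) (kgi xgi14 ygi7 zgi8) (kgi xgi22 ygi42 zgi57) (kgi xgi19 ygi45 zgi34) (kgi xgi7 ygi23 zgi17) (kgi xgi14 ygi7 zgi17) (kgi xgi23 ygi30 zgi23) (kgi xgi13 ygi56 zgi52) (kgi xgi23 ygi30 zgi28) (kgi xgi13 ygi6 zgi24) (kgi xgi7 ygi23 zgi20) (kgi xgi14 ygi7 zgi39) (kgi xgi9 ygi9 zgi22) (kgi xgi14 ygi4 zgi13) (kgi xgi9 ygi45 zgi58) (kgi xgi23 ygi30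 zgi30) (kgi xgi7 ygi23 zgi25) (kgi xgi19 ygi17 zgi2) (kgi xgi8 ygi43 zgi10) (kgi xgi16 ygi17 zgi37) (kgi xgi14 ygi56 zgi27) (kgi xgi14 ygi8 zgi36) (kgi xgi9 ygi45 zgi59) (kgi xgi23 ygi30 zgi34) (kgi xgi7 ygi23 zgi40) (kgi xgi7 ygi23 zgi28) (kgi xgi14 ygi7 zgi53) (kgi xgi13 ygi54 zgi22) (kgi xgi14 ygi7 zgi50) (kgi xgi17 ygi2 zgi45) (kgi xgi14 ygi29 zgi50) (kgi xgi20 ygi15 zgi37) (kgi xgi20 ygi28 zgi2) (kgi xgi7 ygi23 zgi33) (kgi xgi12 ygi55 zgi19) (kgi xgi20 ygi28 zgi1) (kgi xgi23 ygi30 zgi45) (kgi xgi23 ygi30 zgi46) (kgi xgi11 ygi28 zgi35) (kgi xgi7 ygi23 zgi37) (kgi xgi14 ygi6 zgi34) (kgi xgi9 ygi15 zgi9) (kgi xgi23 ygi30 zgi51) (kgi xgi23 ygi30 zgi53) (kgi xgi7 ygi23 zgi38) (kgi xgi16 ygi52 zgi31) (kgi xgi7 ygi23 zgi39) (kgi xgi7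 ygi23 zgi43) (kgi xgi23 ygi30 zgi60) (kgi xgi23 ygi31 zgi1) (kgi xgi23 ygi25 zgi13) (kgi xgi7 ygi50 zgi13) (kgi xgi14 ygi7 zgi49) (kgi xgi21 ygi30 zgi47) (kgi xgi21 ygi30 zgi49) (kgi xgi12 ygi6 zgi28)) (@D3.rec (fun _ => Pt) (kgi xgi23 ygi31 zgi8) (kgi xgi17 ygi15 zgi19) (kgi xgi23 ygi31 zgi13) (kgi xgi23 ygi17 zgi3) (kgi xgi22 ygi28 zgi19) (kgi xgi7 ygi23 zgi44) (kgi xgi13 ygi57 zgi29) (kgi xgi9 ygi46 zgi8) (kgi xgi16 ygi10 zgi37) (kgi xgi23 ygi31 zgi21) (kgi xgi14 ygi7 zgi7) (kgi xgi15 ygi13 zgi37) (kgi xgi23 ygi31 zgi5) (kgi xgi23 ygi31 zgi20) (kgi xgi11 ygi11 zgi56) (kgi xgi19 ygi54 zgi13) (kgi xgi7 ygi23 zgi47) (kgi xgi22 ygi16 zgi51) (kgi xgi15 ygi13 zgi51) (kgi xgi22 ygi16 zgi48) (kgi xgi15 ygi13 zgi33) (kgi xgi23 ygi25 zgi44)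 (kgi xgi22 ygi17 zgi49) (kgi xgi7 ygi24 zgi2) (kgi xgi7 ygi23 zgi51) (kgi xgi19 ygi56 zgi18) (kgi xgi19 ygi0 zgi13) (kgi xgi7 ygi23 zgi52) (kgi xgi17 ygi2 zgi17) (kgi xgi14 ygi4 zgi1) (kgi xgi7 ygi24 zgi22) (kgi xgi23 ygi31 zgi37) (kgi xgi7 ygi23 zgi54) (kgi xgi7 ygi23 zgi61) (kgi xgi18 ygi42 zgi27) (kgi xgi23 ygi31 zgi39) (kgi xgi7 ygi23 zgi55) (kgi xgi11 ygi3 zgi57) (kgi xgi19 ygi54 zgi15) (kgi xgi23 ygi25 zgi27) (kgi xgi14 ygi7 zgi25) (kgi xgi12 ygi48 zgi49) (kgi xgi16 ygi50 zgi41) (kgi xgi7 ygi23 zgi60) (kgi xgi19 ygi56 zgi43) (kgi xgi21 ygi55 zgi21) (kgi xgi18 ygi42 zgi26) (kgi xgi23 ygi31 zgi49) (kgi xgi7 ygi24 zgi0) (kgi xgi23 ygi25 zgi26) (kgi xgi21 ygi8 zgi49) (kgi xgi21 ygi56 zgi38) (kgi xgi14 ygi3 zgi8) (kgi xgi14 ygi6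 zgi35) (kgi xgi20 ygi32 zgi36) (kgi xgi23 ygi21 zgi44) (kgi xgi7 ygi24 zgi3) (kgi xgi7 ygi24 zgi6) (kgi xgi23 ygi32 zgi4) (kgi xgi21 ygi56 zgi61) (kgi xgi7 ygi24 zgi4) (kgi xgi23 ygi25 zgi32))
def fi_g_14 : D2 → D3 → Pt := @D2.rec (fun _ => D3 → Pt) (@D3.rec (fun _ => Pt) (kgi xgi22 ygi43 zgi46) (kgi xgi23 ygi25 zgi30) (kgi xgi23 ygi17 zgi41) (kgi xgi12 ygi48 zgi31) (kgi xgi23 ygi32 zgi20) (kgi xgi23 ygi32 zgi22) (kgi xgi23 ygi32 zgi25) (kgi xgi7 ygi24 zgi7) (kgi xgi23 ygi25 zgi38) (kgi xgi23 ygi25 zgi37) (kgi xgi23 ygi32 zgi31) (kgi xgi23 ygi32 zgi13) (kgi xgi23 ygi32 zgi37) (kgi xgi15 ygi13 zgi29) (kgi xgi7 ygi24 zgi10) (kgi xgi23 ygi32 zgi41) (kgi xgi15 ygi14 zgi0) (kgi xgi23 ygi32 zgi50) (kgi xgi23 ygi32 zgi42) (kgi xgi23 ygi32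 zgi52) (kgi xgi23 ygi32 zgi55) (kgi xgi7 ygi24 zgi13) (kgi xgi23 ygi25 zgi21) (kgi xgi7 ygi24 zgi14) (kgi xgi14 ygi5 zgi3) (kgi xgi14 ygi5 zgi4) (kgi xgi23 ygi33 zgi5) (kgi xgi13 ygi54 zgi61) (kgi xgi23 ygi33 zgi11) (kgi xgi22 ygi30 zgi37) (kgi xgi23 ygi0 zgi61) (kgi xgi23 ygi16 zgi16) (kgi xgi13 ygi48 zgi9) (kgi xgi16 ygi10 zgi58) (kgi xgi7 ygi24 zgi19) (kgi xgi23 ygi1 zgi0) (kgi xgi22 ygi55 zgi31) (kgi xgi23 ygi33 zgi2) (kgi xgi13 ygi48 zgi59) (kgi xgi15 ygi13 zgi18) (kgi xgi14 ygi10 zgi1) (kgi xgi13 ygi54 zgi58) (kgi xgi23 ygi19 zgi35) (kgi xgi20 ygi33 zgi30) (kgi xgi23 ygi31 zgi41) (kgi xgi7 ygi24 zgi23) (kgi xgi23 ygi25 zgi53) (kgi xgi15 ygi53 zgi14) (kgi xgi23 ygi25 zgi51) (kgi xgi13 ygi8 zgi58) (kgi xgi7 ygi52 zgi32) (kgi xgi14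 ygi48 zgi5) (kgi xgi13 ygi55 zgi19) (kgi xgi23 ygi33 zgi28) (kgi xgi7 ygi34 zgi13) (kgi xgi23 ygi33 zgi32) (kgi xgi21 ygi54 zgi13) (kgi xgi13 ygi11 zgi54) (kgi xgi23 ygi33 zgi37) (kgi xgi22 ygi58 zgi23) (kgi xgi12 ygi47 zgi55) (kgi xgi7 ygi24 zgi35)) (@D3.rec (fun _ => Pt) (kgi xgi7 ygi24 zgi36) (kgi xgi20 ygi33 zgi23) (kgi xgi23 ygi31 zgi54) (kgi xgi7 ygi24 zgi38) (kgi xgi23 ygi25 zgi57) (kgi xgi23 ygi25 zgi55) (kgi xgi14 ygi10 zgi2) (kgi xgi13 ygi44 zgi54) (kgi xgi18 ygi40 zgi3) (kgi xgi23 ygi11 zgi50) (kgi xgi7 ygi33 zgi12) (kgi xgi7 ygi33 zgi18) (kgi xgi23 ygi33 zgi55) (kgi xgi7 ygi24 zgi45) (kgi xgi13 ygi18 zgi59) (kgi xgi23 ygi33 zgi58) (kgi xgi18 ygi5 zgi3) (kgi xgi7 ygi24 zgi46) (kgi xgi14 ygi15 zgi35) (kgi xgi23 ygi34 zgi4)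 (kgi xgi14 ygi15 zgi33) (kgi xgi23 ygi11 zgi51) (kgi xgi23 ygi11 zgi1) (kgi xgi7 ygi40 zgi23) (kgi xgi23 ygi34 zgi6) (kgi xgi21 ygi41 zgi22) (kgi xgi13 ygi18 zgi46) (kgi xgi23 ygi34 zgi11) (kgi xgi23 ygi34 zgi15) (kgi xgi7 ygi24 zgi53) (kgi xgi22 ygi35 zgi20) (kgi xgi23 ygi34 zgi23) (kgi xgi22 ygi35 zgi18) (kgi xgi13 ygi27 zgi5) (kgi xgi12 ygi32 zgi25) (kgi xgi12 ygi39 zgi53) (kgi xgi12 ygi48 zgi56) (kgi xgi23 ygi34 zgi30) (kgi xgi12 ygi31 zgi26) (kgi xgi7 ygi24 zgi59) (kgi xgi12 ygi31 zgi44) (kgi xgi7 ygi25 zgi18) (kgi xgi7 ygi26 zgi2) (kgi xgi13 ygi6 zgi21) (kgi xgi13 ygi13 zgi1) (kgi xgi14 ygi47 zgi60) (kgi xgi7 ygi25 zgi2) (kgi xgi14 ygi48 zgi0) (kgi xgi14 ygi40 zgi22) (kgi xgi11 ygi42 zgi58) (kgi xgi14 ygi48 zgi60) (kgi xgi23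 ygi33 zgi13) (kgi xgi16 ygi25 zgi46) (kgi xgi14 ygi53 zgi58) (kgi xgi21 ygi30 zgi5) (kgi xgi11 ygi25 zgi61) (kgi xgi20 ygi26 zgi26) (kgi xgi7 ygi25 zgi14) (kgi xgi23 ygi34 zgi42) (kgi xgi23 ygi34 zgi51) (kgi xgi23 ygi34 zgi40) (kgi xgi22 ygi43 zgi57)) (@D3.rec (fun _ => Pt) (kgi xgi7 ygi54 zgi30) (kgi xgi14 ygi55 zgi32) (kgi xgi23 ygi34 zgi54) (kgi xgi7 ygi25 zgi17) (kgi xgi14 ygi53 zgi57) (kgi xgi23 ygi35 zgi2) (kgi xgi11 ygi26 zgi52) (kgi xgi23 ygi35 zgi5) (kgi xgi7 ygi25 zgi19) (kgi xgi13 ygi53 zgi4) (kgi xgi23 ygi35 zgi11) (kgi xgi13 ygi53 zgi1) (kgi xgi7 ygi25 zgi20) (kgi xgi13 ygi6 zgi31) (kgi xgi23 ygi35 zgi17) (kgi xgi12 ygi31 zgi50) (kgi xgi16 ygi49 zgi45) (kgi xgi23 ygi35 zgi20) (kgi xgi15 ygi45 zgi53) (kgi xgi15 ygi45 zgi34)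 (kgi xgi13 ygi21 zgi46) (kgi xgi13 ygi54 zgi19) (kgi xgi14 ygi49 zgi41) (kgi xgi13 ygi54 zgi17) (kgi xgi7 ygi25 zgi27) (kgi xgi13 ygi8 zgi47) (kgi xgi23 ygi35 zgi27) (kgi xgi7 ygi54 zgi18) (kgi xgi7 ygi25 zgi55) (kgi xgi7 ygi25 zgi57) (kgi xgi7 ygi54 zgi15) (kgi xgi14 ygi56 zgi21) (kgi xgi7 ygi49 zgi59) (kgi xgi23 ygi35 zgi30) (kgi xgi23 ygi34 zgi36) (kgi xgi7 ygi25 zgi37) (kgi xgi22 ygi12 zgi8) (kgi xgi22 ygi12 zgi6) (kgi xgi22 ygi17 zgi51) (kgi xgi7 ygi29 zgi42) (kgi xgi23 ygi35 zgi41) (kgi xgi17 ygi22 zgi19) (kgi xgi8 ygi0 zgi43) (kgi xgi12 ygi49 zgi51) (kgi xgi23 ygi35 zgi45) (kgi xgi23 ygi35 zgi47) (kgi xgi8 ygi35 zgi33) (kgi xgi23 ygi35 zgi49) (kgi xgi7 ygi25 zgi47) (kgi xgi21 ygi31 zgi10) (kgi xgi21 ygi31 zgi8) (kgi xgi23 ygi35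 zgi58) (kgi xgi17 ygi45 zgi21) (kgi xgi7 ygi25 zgi49) (kgi xgi23 ygi1 zgi3) (kgi xgi7 ygi41 zgi4) (kgi xgi8 ygi34 zgi24) (kgi xgi9 ygi24 zgi4) (kgi xgi23 ygi35 zgi14) (kgi xgi14 ygi48 zgi35) (kgi xgi13 ygi54 zgi0) (kgi xgi15 ygi45 zgi51)) (@D3.rec (fun _ => Pt) (kgi xgi17 ygi55 zgi31) (kgi xgi15 ygi45 zgi56) (kgi xgi17 ygi54 zgi52) (kgi xgi17 ygi56 zgi19) (kgi xgi7 ygi25 zgi60) (kgi xgi13 ygi53 zgi12) (kgi xgi23 ygi36 zgi7) (kgi xgi14 ygi55 zgi19) (kgi xgi14 ygi55 zgi53) (kgi xgi21 ygi21 zgi54) (kgi xgi13 ygi53 zgi14) (kgi xgi13 ygi53 zgi13) (kgi xgi23 ygi36 zgi14) (kgi xgi13 ygi59 zgi52) (kgi xgi17 ygi55 zgi23) (kgi xgi13 ygi54 zgi1) (kgi xgi7 ygi49 zgi50) (kgi xgi16 ygi4 zgi42) (kgi xgi16 ygi4 zgi53) (kgi xgi14 ygi49 zgi57) (kgi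 xgi12 ygi18 zgi44) (kgi xgi21 ygi46 zgi57) (kgi xgi16 ygi2 zgi36) (kgi xgi23 ygi36 zgi30) (kgi xgi7 ygi26 zgi11) (kgi xgi14 ygi42 zgi46) (kgi xgi13 ygi17 zgi32) (kgi xgi13 ygi20 zgi14) (kgi xgi12 ygi47 zgi30) (kgi xgi18 ygi8 zgi5) (kgi xgi21 ygi32 zgi48) (kgi xgi7 ygi26 zgi15) (kgi xgi7 ygi39 zgi0) (kgi xgi19 ygi22 zgi5) (kgi xgi18 ygi46 zgi46) (kgi xgi7 ygi48 zgi12) (kgi xgi7 ygi48 zgi14) (kgi xgi23 ygi36 zgi42) (kgi xgi7 ygi26 zgi19) (kgi xgi13 ygi53 zgi41) (kgi xgi13 ygi53 zgi39) (kgi xgi23 ygi27 zgi18) (kgi xgi23 ygi36 zgi47) (kgi xgi23 ygi36 zgi49) (kgi xgi14 ygi56 zgi32) (kgi xgi13 ygi4 zgi25) (kgi xgi14 ygi14 zgi49) (kgi xgi18 ygi9 zgi54) (kgi xgi23 ygi36 zgi57) (kgi xgi23 ygi36 zgi59) (kgi xgi18 ygi45 zgi44) (kgi xgi7 ygi26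 zgi26) (kgi xgi10 ygi40 zgi36) (kgi xgi11 ygi44 zgi15) (kgi xgi14 ygi23 zgi44) (kgi xgi22 ygi15 zgi60) (kgi xgi14 ygi5 zgi19) (kgi xgi13 ygi58 zgi8) (kgi xgi7 ygi26 zgi34) (kgi xgi13 ygi54 zgi35) (kgi xgi23 ygi37 zgi11) (kgi xgi13 ygi54 zgi32)) (@D3.rec (fun _ => Pt) (kgi xgi14 ygi5 zgi9) (kgi xgi13 ygi5 zgi9) (kgi xgi13 ygi9 zgi34) (kgi xgi22 ygi18 zgi31) (kgi xgi23 ygi16 zgi17) (kgi xgi13 ygi59 zgi29) (kgi xgi13 ygi24 zgi41) (kgi xgi7 ygi26 zgi37) (kgi xgi13 ygi54 zgi44) (kgi xgi23 ygi37 zgi30) (kgi xgi13 ygi57 zgi43) (kgi xgi12 ygi30 zgi30) (kgi xgi23 ygi37 zgi33) (kgi xgi17 ygi55 zgi59) (kgi xgi23 ygi37 zgi34) (kgi xgi20 ygi45 zgi53) (kgi xgi23 ygi29 zgi23) (kgi xgi13 ygi58 zgi27) (kgi xgi7 ygi26 zgi40) (kgi xgi7 ygi29 zgi30)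 (kgi xgi7 ygi29 zgi27) (kgi xgi12 ygi15 zgi33) (kgi xgi21 ygi20 zgi5) (kgi xgi23 ygi37 zgi48) (kgi xgi12 ygi19 zgi5) (kgi xgi9 ygi29 zgi29) (kgi xgi16 ygi49 zgi3) (kgi xgi11 ygi47 zgi49) (kgi xgi7 ygi26 zgi53) (kgi xgi11 ygi20 zgi37) (kgi xgi21 ygi31 zgi47) (kgi xgi18 ygi6 zgi8) (kgi xgi22 ygi11 zgi8) (kgi xgi12 ygi24 zgi56) (kgi xgi7 ygi26 zgi57) (kgi xgi17 ygi39 zgi58) (kgi xgi17 ygi37 zgi1) (kgi xgi23 ygi37 zgi59) (kgi xgi8 ygi41 zgi11) (kgi xgi12 ygi28 zgi29) (kgi xgi20 ygi23 zgi0) (kgi xgi23 ygi38 zgi1) (kgi xgi16 ygi57 zgi37) (kgi xgi11 ygi46 zgi42) (kgi xgi11 ygi45 zgi13) (kgi xgi21 ygi23 zgi2) (kgi xgi12 ygi26 zgi36) (kgi xgi12 ygi32 zgi27) (kgi xgi11 ygi37 zgi19) (kgi xgi11 ygi14 zgi55) (kgi xgi20 ygi26 zgi0) (kgi xgi12 ygi4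 zgi22) (kgi xgi7 ygi31 zgi39) (kgi xgi12 ygi30 zgi61) (kgi xgi12 ygi30 zgi54) (kgi xgi20 ygi22 zgi58) (kgi xgi20 ygi22 zgi57) (kgi xgi20 ygi22 zgi50) (kgi xgi17 ygi57 zgi43) (kgi xgi23 ygi34 zgi34) (kgi xgi17 ygi56 zgi15) (kgi xgi7 ygi27 zgi32)) (@D3.rec (fun _ => Pt) (kgi xgi13 ygi1 zgi49) (kgi xgi7 ygi28 zgi21) (kgi xgi13 ygi56 zgi46) (kgi xgi14 ygi0 zgi23) (kgi xgi7 ygi27 zgi38) (kgi xgi14 ygi0 zgi25) (kgi xgi23 ygi38 zgi19) (kgi xgi12 ygi18 zgi60) (kgi xgi14 ygi48 zgi7) (kgi xgi14 ygi4 zgi4) (kgi xgi22 ygi12 zgi12) (kgi xgi23 ygi22 zgi55) (kgi xgi7 ygi27 zgi47) (kgi xgi7 ygi27 zgi46) (kgi xgi16 ygi31 zgi57) (kgi xgi23 ygi29 zgi58) (kgi xgi12 ygi22 zgi44) (kgi xgi14 ygi53 zgi20) (kgi xgi13 ygi25 zgi10) (kgi xgi22 ygi42 zgi56) (kgi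 xgi23 ygi38 zgi27) (kgi xgi14 ygi0 zgi30) (kgi xgi7 ygi27 zgi49) (kgi xgi23 ygi38 zgi23) (kgi xgi23 ygi38 zgi40) (kgi xgi23 ygi38 zgi22) (kgi xgi22 ygi21 zgi9) (kgi xgi23 ygi38 zgi49) (kgi xgi23 ygi38 zgi51) (kgi xgi23 ygi38 zgi48) (kgi xgi17 ygi12 zgi23) (kgi xgi7 ygi27 zgi53) (kgi xgi13 ygi56 zgi38) (kgi xgi23 ygi38 zgi61) (kgi xgi13 ygi56 zgi35) (kgi xgi7 ygi27 zgi55) (kgi xgi13 ygi6 zgi18) (kgi xgi23 ygi39 zgi7) (kgi xgi16 ygi4 zgi54) (kgi xgi22 ygi43 zgi20) (kgi xgi23 ygi39 zgi12) (kgi xgi23 ygi39 zgi14) (kgi xgi13 ygi9 zgi42) (kgi xgi22 ygi43 zgi17) (kgi xgi23 ygi39 zgi20) (kgi xgi7 ygi51 zgi29) (kgi xgi23 ygi38 zgi12) (kgi xgi23 ygi39 zgi26) (kgi xgi22 ygi44 zgi4) (kgi xgi23 ygi39 zgi31) (kgi xgi7 ygi28 zgi1) (kgi xgi13 ygi56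 zgi58) (kgi xgi23 ygi39 zgi37) (kgi xgi22 ygi44 zgi40) (kgi xgi7 ygi53 zgi46) (kgi xgi23 ygi39 zgi44) (kgi xgi22 ygi44 zgi16) (kgi xgi14 ygi34 zgi36) (kgi xgi23 ygi39 zgi50) (kgi xgi14 ygi17 zgi37) (kgi xgi7 ygi42 zgi60) (kgi xgi13 ygi7 zgi57)) (@D3.rec (fun _ => Pt) (kgi xgi7 ygi28 zgi8) (kgi xgi13 ygi50 zgi2) (kgi xgi13 ygi26 zgi5) (kgi xgi23 ygi38 zgi52) (kgi xgi22 ygi44 zgi5) (kgi xgi7 ygi28 zgi12) (kgi xgi21 ygi34 zgi30) (kgi xgi13 ygi56 zgi29) (kgi xgi14 ygi55 zgi20) (kgi xgi7 ygi28 zgi14) (kgi xgi23 ygi40 zgi5) (kgi xgi13 ygi56 zgi16) (kgi xgi22 ygi45 zgi7) (kgi xgi23 ygi40 zgi8) (kgi xgi15 ygi43 zgi47) (kgi xgi22 ygi45 zgi3) (kgi xgi17 ygi55 zgi26) (kgi xgi7 ygi28 zgi17) (kgi xgi13 ygi55 zgi54) (kgi xgi17 ygi55 zgi58) (kgi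 xgi13 ygi55 zgi51) (kgi xgi13 ygi25 zgi38) (kgi xgi12 ygi27 zgi14) (kgi xgi13 ygi55 zgi56) (kgi xgi13 ygi55 zgi55) (kgi xgi23 ygi40 zgi23) (kgi xgi17 ygi4 zgi11) (kgi xgi13 ygi25 zgi41) (kgi xgi23 ygi40 zgi25) (kgi xgi13 ygi56 zgi17) (kgi xgi23 ygi40 zgi29) (kgi xgi23 ygi40 zgi19) (kgi xgi23 ygi40 zgi33) (kgi xgi21 ygi41 zgi21) (kgi xgi13 ygi54 zgi49) (kgi xgi13 ygi55 zgi1) (kgi xgi13 ygi54 zgi30) (kgi xgi12 ygi48 zgi7) (kgi xgi11 ygi35 zgi55) (kgi xgi22 ygi5 zgi56) (kgi xgi21 ygi1 zgi16) (kgi xgi9 ygi10 zgi8) (kgi xgi21 ygi29 zgi39) (kgi xgi7 ygi28 zgi34) (kgi xgi7 ygi28 zgi42) (kgi xgi23 ygi40 zgi49) (kgi xgi7 ygi28 zgi39) (kgi xgi11 ygi52 zgi11) (kgi xgi13 ygi57 zgi8) (kgi xgi9 ygi12 zgi33) (kgi xgi18 ygi34 zgi55) (kgi xgi7 ygi28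 zgi38) (kgi xgi23 ygi40 zgi44) (kgi xgi23 ygi40 zgi60) (kgi xgi19 ygi16 zgi49) (kgi xgi21 ygi41 zgi13) (kgi xgi14 ygi53 zgi24) (kgi xgi13 ygi25 zgi12) (kgi xgi22 ygi44 zgi13) (kgi xgi22 ygi40 zgi4) (kgi xgi23 ygi41 zgi3) (kgi xgi11 ygi3 zgi52)) (@D3.rec (fun _ => Pt) (kgi xgi7 ygi28 zgi41) (kgi xgi23 ygi40 zgi51) (kgi xgi23 ygi41 zgi18) (kgi xgi23 ygi40 zgi48) (kgi xgi13 ygi54 zgi28) (kgi xgi23 ygi41 zgi24) (kgi xgi14 ygi8 zgi35) (kgi xgi13 ygi59 zgi14) (kgi xgi7 ygi28 zgi45) (kgi xgi13 ygi58 zgi7) (kgi xgi23 ygi27 zgi59) (kgi xgi13 ygi58 zgi4) (kgi xgi13 ygi54 zgi29) (kgi xgi23 ygi41 zgi38) (kgi xgi23 ygi41 zgi41) (kgi xgi23 ygi41 zgi43) (kgi xgi14 ygi53 zgi8) (kgi xgi13 ygi58 zgi10) (kgi xgi23 ygi41 zgi50) (kgi xgi23 ygi11 zgi37)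 (kgi xgi7 ygi29 zgi47) (kgi xgi14 ygi0 zgi2) (kgi xgi22 ygi44 zgi30) (kgi xgi13 ygi19 zgi0) (kgi xgi13 ygi24 zgi59) (kgi xgi13 ygi25 zgi9) (kgi xgi22 ygi44 zgi50) (kgi xgi22 ygi45 zgi12) (kgi xgi7 ygi28 zgi57) (kgi xgi22 ygi44 zgi29) (kgi xgi23 ygi41 zgi58) (kgi xgi14 ygi50 zgi38) (kgi xgi20 ygi24 zgi59) (kgi xgi20 ygi17 zgi2) (kgi xgi7 ygi28 zgi60) (kgi xgi23 ygi26 zgi44) (kgi xgi13 ygi57 zgi33) (kgi xgi22 ygi44 zgi15) (kgi xgi23 ygi39 zgi29) (kgi xgi13 ygi58 zgi16) (kgi xgi23 ygi42 zgi7) (kgi xgi13 ygi58 zgi15) (kgi xgi23 ygi42 zgi9) (kgi xgi7 ygi29 zgi4) (kgi xgi10 ygi38 zgi41) (kgi xgi23 ygi42 zgi18) (kgi xgi23 ygi42 zgi6) (kgi xgi20 ygi16 zgi23) (kgi xgi23 ygi37 zgi40) (kgi xgi13 ygi54 zgi48) (kgi xgi7 ygi29 zgi7) (kgi xgi13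 ygi58 zgi34) (kgi xgi8 ygi33 zgi38) (kgi xgi13 ygi58 zgi31) (kgi xgi17 ygi55 zgi38) (kgi xgi7 ygi29 zgi10) (kgi xgi10 ygi38 zgi39) (kgi xgi10 ygi38 zgi36) (kgi xgi7 ygi29 zgi11) (kgi xgi16 ygi29 zgi32) (kgi xgi13 ygi16 zgi35) (kgi xgi21 ygi13 zgi6)) (@D3.rec (fun _ => Pt) (kgi xgi7 ygi29 zgi14) (kgi xgi20 ygi7 zgi12) (kgi xgi17 ygi12 zgi28) (kgi xgi20 ygi5 zgi52) (kgi xgi16 ygi46 zgi5) (kgi xgi23 ygi42 zgi30) (kgi xgi11 ygi12 zgi47) (kgi xgi16 ygi49 zgi49) (kgi xgi12 ygi31 zgi59) (kgi xgi23 ygi42 zgi34) (kgi xgi11 ygi27 zgi28) (kgi xgi7 ygi29 zgi19) (kgi xgi13 ygi57 zgi2) (kgi xgi22 ygi31 zgi52) (kgi xgi23 ygi42 zgi42) (kgi xgi7 ygi29 zgi20) (kgi xgi11 ygi16 zgi28) (kgi xgi11 ygi56 zgi17) (kgi xgi7 ygi29 zgi21) (kgi xgi7 ygi29 zgi25)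 (kgi xgi18 ygi26 zgi48) (kgi xgi23 ygi42 zgi52) (kgi xgi17 ygi55 zgi60) (kgi xgi7 ygi52 zgi12) (kgi xgi13 ygi58 zgi19) (kgi xgi21 ygi29 zgi47) (kgi xgi21 ygi30 zgi1) (kgi xgi18 ygi40 zgi61) (kgi xgi23 ygi42 zgi59) (kgi xgi23 ygi43 zgi0) (kgi xgi19 ygi49 zgi55) (kgi xgi23 ygi24 zgi25) (kgi xgi23 ygi42 zgi49) (kgi xgi13 ygi5 zgi10) (kgi xgi7 ygi29 zgi26) (kgi xgi14 ygi7 zgi5) (kgi xgi23 ygi37 zgi39) (kgi xgi23 ygi40 zgi41) (kgi xgi8 ygi5 zgi35) (kgi xgi10 ygi9 zgi16) (kgi xgi23 ygi42 zgi54) (kgi xgi15 ygi50 zgi30) (kgi xgi16 ygi51 zgi52) (kgi xgi23 ygi43 zgi19) (kgi xgi7 ygi29 zgi29) (kgi xgi21 ygi25 zgi35) (kgi xgi23 ygi43 zgi26) (kgi xgi23 ygi43 zgi29) (kgi xgi21 ygi25 zgi32) (kgi xgi13 ygi44 zgi48) (kgi xgi7 ygi29 zgi44) (kgi xgi22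 ygi45 zgi54) (kgi xgi22 ygi45 zgi9) (kgi xgi7 ygi29 zgi33) (kgi xgi22 ygi45 zgi58) (kgi xgi23 ygi43 zgi42) (kgi xgi23 ygi43 zgi46) (kgi xgi7 ygi29 zgi34) (kgi xgi22 ygi45 zgi10) (kgi xgi23 ygi43 zgi51) (kgi xgi23 ygi43 zgi54) (kgi xgi23 ygi43 zgi58)) (@D3.rec (fun _ => Pt) (kgi xgi7 ygi29 zgi36) (kgi xgi22 ygi46 zgi3) (kgi xgi19 ygi11 zgi2) (kgi xgi22 ygi46 zgi1) (kgi xgi9 ygi14 zgi8) (kgi xgi22 ygi28 zgi12) (kgi xgi22 ygi30 zgi13) (kgi xgi13 ygi57 zgi56) (kgi xgi22 ygi30 zgi38) (kgi xgi23 ygi44 zgi9) (kgi xgi7 ygi29 zgi41) (kgi xgi22 ygi45 zgi20) (kgi xgi23 ygi44 zgi12) (kgi xgi23 ygi44 zgi16) (kgi xgi7 ygi29 zgi43) (kgi xgi22 ygi46 zgi0) (kgi xgi22 ygi45 zgi60) (kgi xgi13 ygi57 zgi3) (kgi xgi23 ygi44 zgi23) (kgi xgi23 ygi44 zgi25)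 (kgi xgi7 ygi29 zgi45) (kgi xgi7 ygi29 zgi46) (kgi xgi22 ygi28 zgi16) (kgi xgi22 ygi28 zgi14) (kgi xgi13 ygi48 zgi38) (kgi xgi23 ygi20 zgi57) (kgi xgi23 ygi44 zgi31) (kgi xgi7 ygi29 zgi49) (kgi xgi22 ygi28 zgi10) (kgi xgi22 ygi28 zgi8) (kgi xgi10 ygi9 zgi17) (kgi xgi21 ygi25 zgi48) (kgi xgi23 ygi44 zgi37) (kgi xgi23 ygi42 zgi50) (kgi xgi7 ygi29 zgi52) (kgi xgi23 ygi2 zgi3) (kgi xgi16 ygi17 zgi44) (kgi xgi7 ygi29 zgi53) (kgi xgi13 ygi6 zgi22) (kgi xgi13 ygi6 zgi26) (kgi xgi23 ygi35 zgi36) (kgi xgi12 ygi13 zgi46) (kgi xgi23 ygi44 zgi46) (kgi xgi13 ygi26 zgi18) (kgi xgi22 ygi31 zgi18) (kgi xgi22 ygi45 zgi24) (kgi xgi7 ygi29 zgi57) (kgi xgi22 ygi45 zgi42) (kgi xgi23 ygi44 zgi53) (kgi xgi7 ygi29 zgi58) (kgi xgi19 ygi56 zgi46) (kgi xgi23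 ygi44 zgi42) (kgi xgi23 ygi44 zgi58) (kgi xgi14 ygi0 zgi59) (kgi xgi12 ygi13 zgi51) (kgi xgi23 ygi45 zgi1) (kgi xgi23 ygi44 zgi19) (kgi xgi23 ygi44 zgi1) (kgi xgi7 ygi30 zgi0) (kgi xgi22 ygi12 zgi26) (kgi xgi22 ygi12 zgi25) (kgi xgi14 ygi29 zgi47)) (@D3.rec (fun _ => Pt) (kgi xgi22 ygi27 zgi60) (kgi xgi22 ygi12 zgi21) (kgi xgi13 ygi56 zgi25) (kgi xgi7 ygi30 zgi5) (kgi xgi22 ygi12 zgi20) (kgi xgi23 ygi14 zgi4) (kgi xgi23 ygi45 zgi18) (kgi xgi7 ygi30 zgi6) (kgi xgi14 ygi3 zgi6) (kgi xgi23 ygi45 zgi23) (kgi xgi23 ygi44 zgi20) (kgi xgi21 ygi6 zgi13) (kgi xgi21 ygi55 zgi48) (kgi xgi21 ygi40 zgi12) (kgi xgi14 ygi18 zgi7) (kgi xgi7 ygi42 zgi25) (kgi xgi7 ygi42 zgi33) (kgi xgi14 ygi23 zgi20) (kgi xgi13 ygi10 zgi38) (kgi xgi13 ygi10 zgi43)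 (kgi xgi13 ygi10 zgi28) (kgi xgi12 ygi51 zgi16) (kgi xgi22 ygi46 zgi46) (kgi xgi13 ygi29 zgi49) (kgi xgi14 ygi38 zgi61) (kgi xgi13 ygi11 zgi28) (kgi xgi7 ygi30 zgi20) (kgi xgi13 ygi7 zgi24) (kgi xgi23 ygi45 zgi49) (kgi xgi13 ygi7 zgi21) (kgi xgi7 ygi30 zgi22) (kgi xgi7 ygi35 zgi22) (kgi xgi23 ygi45 zgi55) (kgi xgi23 ygi45 zgi58) (kgi xgi7 ygi41 zgi58) (kgi xgi14 ygi17 zgi41) (kgi xgi22 ygi26 zgi15) (kgi xgi7 ygi30 zgi25) (kgi xgi22 ygi23 zgi45) (kgi xgi7 ygi46 zgi59) (kgi xgi23 ygi46 zgi6) (kgi xgi7 ygi30 zgi27) (kgi xgi13 ygi12 zgi44) (kgi xgi23 ygi46 zgi12) (kgi xgi7 ygi30 zgi29) (kgi xgi23 ygi46 zgi15) (kgi xgi13 ygi15 zgi37) (kgi xgi22 ygi42 zgi4) (kgi xgi23 ygi6 zgi13) (kgi xgi13 ygi46 zgi36) (kgi xgi23 ygi46 zgi21) (kgi xgi19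 ygi48 zgi21) (kgi xgi7 ygi49 zgi20) (kgi xgi7 ygi49 zgi18) (kgi xgi11 ygi36 zgi13) (kgi xgi16 ygi56 zgi50) (kgi xgi12 ygi32 zgi8) (kgi xgi23 ygi40 zgi46) (kgi xgi13 ygi3 zgi41) (kgi xgi22 ygi59 zgi33) (kgi xgi13 ygi57 zgi1) (kgi xgi13 ygi35 zgi42)) (@D3.rec (fun _ => Pt) (kgi xgi13 ygi44 zgi26) (kgi xgi15 ygi40 zgi7) (kgi xgi21 ygi40 zgi25) (kgi xgi7 ygi30 zgi49) (kgi xgi10 ygi25 zgi36) (kgi xgi16 ygi6 zgi43) (kgi xgi17 ygi11 zgi24) (kgi xgi17 ygi11 zgi14) (kgi xgi7 ygi43 zgi20) (kgi xgi7 ygi30 zgi52) (kgi xgi13 ygi10 zgi54) (kgi xgi22 ygi16 zgi46) (kgi xgi13 ygi10 zgi51) (kgi xgi23 ygi46 zgi47) (kgi xgi9 ygi12 zgi31) (kgi xgi12 ygi14 zgi27) (kgi xgi7 ygi30 zgi59) (kgi xgi20 ygi45 zgi1) (kgi xgi18 ygi12 zgi56) (kgi xgi22 ygi37 zgi6)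 (kgi xgi19 ygi21 zgi17) (kgi xgi13 ygi52 zgi53) (kgi xgi7 ygi31 zgi1) (kgi xgi22 ygi30 zgi16) (kgi xgi13 ygi0 zgi20) (kgi xgi23 ygi46 zgi60) (kgi xgi12 ygi43 zgi22) (kgi xgi11 ygi29 zgi1) (kgi xgi11 ygi40 zgi40) (kgi xgi12 ygi46 zgi61) (kgi xgi7 ygi31 zgi6) (kgi xgi17 ygi5 zgi43) (kgi xgi12 ygi36 zgi15) (kgi xgi7 ygi31 zgi7) (kgi xgi12 ygi47 zgi1) (kgi xgi20 ygi15 zgi38) (kgi xgi23 ygi3 zgi50) (kgi xgi12 ygi35 zgi24) (kgi xgi8 ygi35 zgi42) (kgi xgi16 ygi58 zgi27) (kgi xgi7 ygi31 zgi14) (kgi xgi17 ygi11 zgi4) (kgi xgi14 ygi36 zgi31) (kgi xgi22 ygi13 zgi48) (kgi xgi23 ygi47 zgi14) (kgi xgi11 ygi42 zgi23) (kgi xgi9 ygi17 zgi35) (kgi xgi8 ygi35 zgi40) (kgi xgi21 ygi20 zgi28) (kgi xgi9 ygi7 zgi29) (kgi xgi18 ygi57 zgi51) (kgi xgi7 ygi31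 zgi28) (kgi xgi23 ygi47 zgi17) (kgi xgi20 ygi22 zgi9) (kgi xgi10 ygi23 zgi3) (kgi xgi7 ygi31 zgi52) (kgi xgi21 ygi22 zgi18) (kgi xgi10 ygi0 zgi10) (kgi xgi20 ygi34 zgi20) (kgi xgi12 ygi31 zgi25) (kgi xgi11 ygi21 zgi33) (kgi xgi7 ygi31 zgi41)) (@D3.rec (fun _ => Pt) (kgi xgi7 ygi31 zgi45) (kgi xgi14 ygi15 zgi58) (kgi xgi12 ygi58 zgi21) (kgi xgi21 ygi35 zgi53) (kgi xgi21 ygi42 zgi17) (kgi xgi11 ygi41 zgi20) (kgi xgi9 ygi32 zgi38) (kgi xgi10 ygi0 zgi27) (kgi xgi22 ygi8 zgi22) (kgi xgi21 ygi6 zgi53) (kgi xgi21 ygi4 zgi46) (kgi xgi20 ygi39 zgi60) (kgi xgi7 ygi31 zgi48) (kgi xgi14 ygi12 zgi15) (kgi xgi12 ygi25 zgi54) (kgi xgi14 ygi12 zgi12) (kgi xgi12 ygi35 zgi48) (kgi xgi12 ygi50 zgi58) (kgi xgi7 ygi31 zgi50) (kgi xgi9 ygi10 zgi38) (kgi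 xgi23 ygi47 zgi38) (kgi xgi21 ygi36 zgi21) (kgi xgi9 ygi49 zgi43) (kgi xgi7 ygi34 zgi25) (kgi xgi7 ygi34 zgi43) (kgi xgi9 ygi48 zgi54) (kgi xgi21 ygi40 zgi30) (kgi xgi22 ygi35 zgi6) (kgi xgi22 ygi40 zgi19) (kgi xgi11 ygi40 zgi39) (kgi xgi14 ygi17 zgi52) (kgi xgi11 ygi30 zgi30) (kgi xgi14 ygi26 zgi54) (kgi xgi20 ygi41 zgi6) (kgi xgi13 ygi5 zgi25) (kgi xgi8 ygi49 zgi49) (kgi xgi14 ygi42 zgi43) (kgi xgi22 ygi32 zgi59) (kgi xgi22 ygi40 zgi32) (kgi xgi14 ygi25 zgi48) (kgi xgi7 ygi32 zgi5) (kgi xgi22 ygi40 zgi18) (kgi xgi23 ygi47 zgi55) (kgi xgi14 ygi27 zgi3) (kgi xgi18 ygi47 zgi61) (kgi xgi16 ygi3 zgi17) (kgi xgi22 ygi33 zgi54) (kgi xgi7 ygi32 zgi12) (kgi xgi13 ygi13 zgi28) (kgi xgi7 ygi32 zgi15) (kgi xgi7 ygi32 zgi13) (kgi xgi13 ygi6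 zgi35) (kgi xgi17 ygi13 zgi14) (kgi xgi23 ygi48 zgi1) (kgi xgi20 ygi40 zgi44) (kgi xgi23 ygi48 zgi4) (kgi xgi16 ygi58 zgi12) (kgi xgi22 ygi27 zgi50) (kgi xgi22 ygi27 zgi49) (kgi xgi13 ygi6 zgi48) (kgi xgi7 ygi32 zgi17) (kgi xgi23 ygi47 zgi61)) (@D3.rec (fun _ => Pt) (kgi xgi23 ygi48 zgi17) (kgi xgi23 ygi47 zgi59) (kgi xgi23 ygi48 zgi22) (kgi xgi14 ygi24 zgi12) (kgi xgi14 ygi16 zgi58) (kgi xgi14 ygi18 zgi12) (kgi xgi7 ygi32 zgi21) (kgi xgi14 ygi23 zgi42) (kgi xgi14 ygi36 zgi56) (kgi xgi14 ygi23 zgi39) (kgi xgi22 ygi26 zgi43) (kgi xgi23 ygi48 zgi36) (kgi xgi23 ygi48 zgi39) (kgi xgi13 ygi22 zgi27) (kgi xgi23 ygi48 zgi44) (kgi xgi7 ygi32 zgi39) (kgi xgi22 ygi12 zgi29) (kgi xgi7 ygi32 zgi28) (kgi xgi22 ygi38 zgi30) (kgi xgi23 ygi48 zgi52)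 (kgi xgi22 ygi12 zgi28) (kgi xgi22 ygi41 zgi31) (kgi xgi17 ygi17 zgi25) (kgi xgi22 ygi13 zgi49) (kgi xgi17 ygi17 zgi23) (kgi xgi13 ygi16 zgi29) (kgi xgi15 ygi30 zgi60) (kgi xgi13 ygi44 zgi21) (kgi xgi7 ygi32 zgi37) (kgi xgi10 ygi46 zgi9) (kgi xgi22 ygi15 zgi26) (kgi xgi14 ygi15 zgi23) (kgi xgi19 ygi21 zgi11) (kgi xgi23 ygi47 zgi46) (kgi xgi17 ygi21 zgi61) (kgi xgi12 ygi51 zgi41) (kgi xgi13 ygi3 zgi2) (kgi xgi18 ygi52 zgi0) (kgi xgi8 ygi15 zgi51) (kgi xgi21 ygi59 zgi57) (kgi xgi7 ygi32 zgi47) (kgi xgi21 ygi40 zgi36) (kgi xgi23 ygi49 zgi13) (kgi xgi20 ygi45 zgi12) (kgi xgi7 ygi32 zgi48) (kgi xgi14 ygi38 zgi5) (kgi xgi22 ygi0 zgi5) (kgi xgi13 ygi1 zgi32) (kgi xgi17 ygi10 zgi8) (kgi xgi7 ygi32 zgi51) (kgi xgi13 ygi0 zgi60) (kgi xgi23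 ygi49 zgi22) (kgi xgi21 ygi3 zgi61) (kgi xgi23 ygi49 zgi25) (kgi xgi16 ygi57 zgi42) (kgi xgi23 ygi49 zgi28) (kgi xgi17 ygi28 zgi37) (kgi xgi14 ygi27 zgi2) (kgi xgi7 ygi32 zgi60) (kgi xgi7 ygi32 zgi55) (kgi xgi22 ygi33 zgi33) (kgi xgi14 ygi21 zgi6)) (@D3.rec (fun _ => Pt) (kgi xgi22 ygi33 zgi32) (kgi xgi7 ygi32 zgi57) (kgi xgi21 ygi44 zgi2) (kgi xgi23 ygi49 zgi40) (kgi xgi21 ygi43 zgi53) (kgi xgi12 ygi41 zgi7) (kgi xgi21 ygi35 zgi42) (kgi xgi14 ygi37 zgi5) (kgi xgi7 ygi32 zgi59) (kgi xgi7 ygi33 zgi1) (kgi xgi23 ygi49 zgi53) (kgi xgi23 ygi49 zgi57) (kgi xgi7 ygi38 zgi37) (kgi xgi12 ygi15 zgi46) (kgi xgi13 ygi6 zgi44) (kgi xgi13 ygi6 zgi46) (kgi xgi21 ygi37 zgi39) (kgi xgi23 ygi50 zgi0) (kgi xgi9 ygi20 zgi2) (kgi xgi23 ygi49 zgi45) (kgi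 xgi14 ygi34 zgi51) (kgi xgi23 ygi49 zgi52) (kgi xgi14 ygi43 zgi51) (kgi xgi18 ygi13 zgi32) (kgi xgi13 ygi19 zgi57) (kgi xgi14 ygi23 zgi38) (kgi xgi23 ygi50 zgi12) (kgi xgi18 ygi55 zgi16) (kgi xgi14 ygi35 zgi20) (kgi xgi23 ygi50 zgi18) (kgi xgi7 ygi33 zgi5) (kgi xgi18 ygi5 zgi61) (kgi xgi23 ygi50 zgi24) (kgi xgi13 ygi50 zgi8) (kgi xgi7 ygi33 zgi21) (kgi xgi22 ygi34 zgi49) (kgi xgi22 ygi56 zgi13) (kgi xgi7 ygi33 zgi9) (kgi xgi22 ygi34 zgi47) (kgi xgi23 ygi21 zgi55) (kgi xgi23 ygi50 zgi37) (kgi xgi7 ygi33 zgi10) (kgi xgi22 ygi56 zgi14) (kgi xgi23 ygi50 zgi43) (kgi xgi21 ygi4 zgi44) (kgi xgi7 ygi33 zgi13) (kgi xgi22 ygi34 zgi45) (kgi xgi22 ygi34 zgi43) (kgi xgi13 ygi6 zgi49) (kgi xgi13 ygi4 zgi47) (kgi xgi13 ygi4 zgi11) (kgi xgi18 ygi33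 zgi16) (kgi xgi23 ygi50 zgi58) (kgi xgi7 ygi33 zgi17) (kgi xgi22 ygi27 zgi21) (kgi xgi23 ygi51 zgi0) (kgi xgi23 ygi51 zgi4) (kgi xgi7 ygi33 zgi19) (kgi xgi22 ygi34 zgi59) (kgi xgi23 ygi51 zgi11) (kgi xgi22 ygi34 zgi57) (kgi xgi7 ygi46 zgi47)) (@D3.rec (fun _ => Pt) (kgi xgi22 ygi33 zgi6) (kgi xgi22 ygi13 zgi4) (kgi xgi22 ygi50 zgi48) (kgi xgi23 ygi6 zgi35) (kgi xgi23 ygi51 zgi22) (kgi xgi23 ygi51 zgi26) (kgi xgi7 ygi33 zgi24) (kgi xgi22 ygi35 zgi5) (kgi xgi23 ygi51 zgi33) (kgi xgi22 ygi35 zgi2) (kgi xgi23 ygi51 zgi37) (kgi xgi10 ygi42 zgi11) (kgi xgi18 ygi3 zgi53) (kgi xgi23 ygi51 zgi48) (kgi xgi7 ygi33 zgi28) (kgi xgi19 ygi40 zgi57) (kgi xgi14 ygi58 zgi51) (kgi xgi19 ygi22 zgi54) (kgi xgi10 ygi8 zgi24) (kgi xgi23 ygi51 zgi56) (kgi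 xgi17 ygi54 zgi31) (kgi xgi9 ygi53 zgi25) (kgi xgi22 ygi15 zgi32) (kgi xgi14 ygi13 zgi25) (kgi xgi14 ygi15 zgi37) (kgi xgi7 ygi33 zgi35) (kgi xgi13 ygi7 zgi10) (kgi xgi23 ygi52 zgi1) (kgi xgi23 ygi52 zgi4) (kgi xgi7 ygi33 zgi36) (kgi xgi14 ygi49 zgi30) (kgi xgi23 ygi52 zgi8) (kgi xgi9 ygi52 zgi49) (kgi xgi7 ygi33 zgi38) (kgi xgi14 ygi1 zgi20) (kgi xgi14 ygi1 zgi17) (kgi xgi22 ygi37 zgi60) (kgi xgi13 ygi16 zgi30) (kgi xgi22 ygi40 zgi2) (kgi xgi13 ygi47 zgi10) (kgi xgi13 ygi40 zgi17) (kgi xgi13 ygi16 zgi17) (kgi xgi7 ygi40 zgi34) (kgi xgi13 ygi47 zgi49) (kgi xgi22 ygi30 zgi20) (kgi xgi22 ygi41 zgi14) (kgi xgi7 ygi33 zgi50) (kgi xgi20 ygi33 zgi12) (kgi xgi22 ygi53 zgi18) (kgi xgi7 ygi33 zgi51) (kgi xgi13 ygi50 zgi53) (kgi xgi23 ygi52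 zgi36) (kgi xgi21 ygi18 zgi19) (kgi xgi10 ygi0 zgi35) (kgi xgi7 ygi33 zgi56) (kgi xgi20 ygi9 zgi52) (kgi xgi11 ygi27 zgi55) (kgi xgi7 ygi40 zgi58) (kgi xgi14 ygi12 zgi5) (kgi xgi7 ygi33 zgi58) (kgi xgi13 ygi3 zgi49) (kgi xgi23 ygi52 zgi43)) (@D3.rec (fun _ => Pt) (kgi xgi13 ygi5 zgi15) (kgi xgi20 ygi41 zgi47) (kgi xgi20 ygi42 zgi44) (kgi xgi22 ygi41 zgi47) (kgi xgi7 ygi34 zgi0) (kgi xgi23 ygi52 zgi52) (kgi xgi13 ygi34 zgi45) (kgi xgi10 ygi53 zgi53) (kgi xgi12 ygi42 zgi35) (kgi xgi23 ygi52 zgi60) (kgi xgi19 ygi52 zgi1) (kgi xgi17 ygi28 zgi38) (kgi xgi7 ygi34 zgi8) (kgi xgi14 ygi26 zgi18) (kgi xgi17 ygi20 zgi49) (kgi xgi12 ygi42 zgi19) (kgi xgi21 ygi16 zgi1) (kgi xgi22 ygi6 zgi57) (kgi xgi18 ygi42 zgi47) (kgi xgi17 ygi34 zgi12) (kgi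 xgi17 ygi27 zgi7) (kgi xgi7 ygi34 zgi11) (kgi xgi17 ygi34 zgi6) (kgi xgi14 ygi16 zgi13) (kgi xgi22 ygi0 zgi32) (kgi xgi23 ygi33 zgi31) (kgi xgi23 ygi53 zgi23) (kgi xgi23 ygi53 zgi25) (kgi xgi23 ygi53 zgi29) (kgi xgi23 ygi53 zgi24) (kgi xgi22 ygi6 zgi59) (kgi xgi23 ygi27 zgi17) (kgi xgi23 ygi53 zgi37) (kgi xgi23 ygi53 zgi42) (kgi xgi23 ygi53 zgi36) (kgi xgi19 ygi30 zgi30) (kgi xgi7 ygi34 zgi20) (kgi xgi22 ygi57 zgi43) (kgi xgi23 ygi53 zgi49) (kgi xgi7 ygi34 zgi21) (kgi xgi13 ygi3 zgi5) (kgi xgi22 ygi6 zgi44) (kgi xgi18 ygi5 zgi6) (kgi xgi7 ygi34 zgi27) (kgi xgi18 ygi55 zgi44) (kgi xgi23 ygi53 zgi59) (kgi xgi7 ygi40 zgi2) (kgi xgi17 ygi26 zgi42) (kgi xgi21 ygi44 zgi18) (kgi xgi18 ygi10 zgi39) (kgi xgi21 ygi44 zgi5) (kgi xgi20 ygi33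 zgi56) (kgi xgi23 ygi54 zgi2) (kgi xgi21 ygi55 zgi4) (kgi xgi22 ygi37 zgi12) (kgi xgi14 ygi20 zgi47) (kgi xgi18 ygi4 zgi22) (kgi xgi7 ygi34 zgi28) (kgi xgi14 ygi13 zgi2) (kgi xgi17 ygi21 zgi22) (kgi xgi20 ygi23 zgi38) (kgi xgi12 ygi42 zgi26)) (@D3.rec (fun _ => Pt) (kgi xgi23 ygi54 zgi17) (kgi xgi23 ygi53 zgi61) (kgi xgi23 ygi54 zgi22) (kgi xgi13 ygi37 zgi37) (kgi xgi7 ygi51 zgi7) (kgi xgi22 ygi27 zgi33) (kgi xgi23 ygi54 zgi30) (kgi xgi23 ygi54 zgi34) (kgi xgi22 ygi21 zgi35) (kgi xgi7 ygi34 zgi35) (kgi xgi22 ygi31 zgi6) (kgi xgi22 ygi31 zgi5) (kgi xgi22 ygi36 zgi31) (kgi xgi22 ygi33 zgi50) (kgi xgi22 ygi31 zgi1) (kgi xgi22 ygi33 zgi13) (kgi xgi7 ygi34 zgi38) (kgi xgi22 ygi31 zgi0) (kgi xgi22 ygi59 zgi31) (kgi xgi23 ygi54 zgi52) (kgi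 xgi7 ygi34 zgi39) (kgi xgi22 ygi41 zgi0) (kgi xgi22 ygi33 zgi47) (kgi xgi13 ygi3 zgi6) (kgi xgi23 ygi54 zgi58) (kgi xgi7 ygi34 zgi42) (kgi xgi22 ygi33 zgi53) (kgi xgi13 ygi36 zgi10) (kgi xgi22 ygi30 zgi60) (kgi xgi23 ygi12 zgi1) (kgi xgi23 ygi55 zgi6) (kgi xgi7 ygi34 zgi44) (kgi xgi22 ygi33 zgi59) (kgi xgi23 ygi55 zgi12) (kgi xgi22 ygi33 zgi57) (kgi xgi13 ygi45 zgi4) (kgi xgi22 ygi16 zgi14) (kgi xgi7 ygi34 zgi46) (kgi xgi14 ygi5 zgi59) (kgi xgi10 ygi40 zgi5) (kgi xgi23 ygi50 zgi60) (kgi xgi13 ygi21 zgi32) (kgi xgi22 ygi32 zgi53) (kgi xgi11 ygi59 zgi1) (kgi xgi7 ygi34 zgi53) (kgi xgi12 ygi34 zgi4) (kgi xgi16 ygi44 zgi37) (kgi xgi12 ygi34 zgi2) (kgi xgi13 ygi7 zgi52) (kgi xgi11 ygi30 zgi6) (kgi xgi23 ygi55 zgi30) (kgi xgi21 ygi49 zgi42)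 (kgi xgi23 ygi55 zgi33) (kgi xgi21 ygi21 zgi3) (kgi xgi14 ygi13 zgi3) (kgi xgi7 ygi34 zgi59) (kgi xgi19 ygi35 zgi23) (kgi xgi7 ygi38 zgi34) (kgi xgi23 ygi54 zgi37) (kgi xgi14 ygi25 zgi15) (kgi xgi13 ygi9 zgi0) (kgi xgi23 ygi55 zgi49)) (@D3.rec (fun _ => Pt) (kgi xgi22 ygi56 zgi21) (kgi xgi15 ygi55 zgi6) (kgi xgi17 ygi0 zgi34) (kgi xgi13 ygi43 zgi13) (kgi xgi23 ygi55 zgi61) (kgi xgi22 ygi47 zgi16) (kgi xgi22 ygi41 zgi3) (kgi xgi14 ygi19 zgi43) (kgi xgi22 ygi56 zgi16) (kgi xgi15 ygi59 zgi26) (kgi xgi14 ygi12 zgi32) (kgi xgi21 ygi20 zgi31) (kgi xgi23 ygi49 zgi51) (kgi xgi23 ygi56 zgi11) (kgi xgi14 ygi12 zgi43) (kgi xgi7 ygi35 zgi12) (kgi xgi23 ygi56 zgi18) (kgi xgi7 ygi39 zgi61) (kgi xgi7 ygi35 zgi14) (kgi xgi7 ygi37 zgi43) (kgi xgi23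 ygi50 zgi41) (kgi xgi13 ygi31 zgi53) (kgi xgi23 ygi48 zgi11) (kgi xgi13 ygi32 zgi12) (kgi xgi23 ygi56 zgi24) (kgi xgi22 ygi50 zgi44) (kgi xgi23 ygi56 zgi27) (kgi xgi9 ygi10 zgi36) (kgi xgi23 ygi56 zgi29) (kgi xgi7 ygi35 zgi20) (kgi xgi13 ygi32 zgi46) (kgi xgi22 ygi28 zgi43) (kgi xgi7 ygi46 zgi56) (kgi xgi7 ygi46 zgi18) (kgi xgi7 ygi35 zgi24) (kgi xgi7 ygi35 zgi28) (kgi xgi19 ygi34 zgi33) (kgi xgi7 ygi35 zgi25) (kgi xgi13 ygi30 zgi19) (kgi xgi13 ygi44 zgi22) (kgi xgi22 ygi38 zgi29) (kgi xgi7 ygi35 zgi27) (kgi xgi23 ygi11 zgi13) (kgi xgi15 ygi22 zgi37) (kgi xgi14 ygi37 zgi12) (kgi xgi13 ygi20 zgi51) (kgi xgi20 ygi33 zgi48) (kgi xgi14 ygi21 zgi0) (kgi xgi13 ygi20 zgi61) (kgi xgi7 ygi35 zgi31) (kgi xgi7 ygi41 zgi43) (kgi xgi14 ygi24 zgi17)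 (kgi xgi7 ygi41 zgi40) (kgi xgi23 ygi56 zgi51) (kgi xgi14 ygi6 zgi36) (kgi xgi12 ygi47 zgi59) (kgi xgi7 ygi36 zgi61) (kgi xgi13 ygi7 zgi18) (kgi xgi14 ygi55 zgi38) (kgi xgi22 ygi37 zgi46) (kgi xgi22 ygi57 zgi10) (kgi xgi11 ygi36 zgi10)) (@D3.rec (fun _ => Pt) (kgi xgi18 ygi36 zgi6) (kgi xgi10 ygi0 zgi26) (kgi xgi14 ygi49 zgi31) (kgi xgi14 ygi52 zgi18) (kgi xgi16 ygi30 zgi13) (kgi xgi22 ygi55 zgi14) (kgi xgi22 ygi57 zgi15) (kgi xgi7 ygi45 zgi33) (kgi xgi7 ygi35 zgi44) (kgi xgi22 ygi57 zgi9) (kgi xgi13 ygi35 zgi4) (kgi xgi7 ygi36 zgi1) (kgi xgi20 ygi46 zgi33) (kgi xgi23 ygi57 zgi13) (kgi xgi14 ygi38 zgi0) (kgi xgi7 ygi35 zgi47) (kgi xgi7 ygi42 zgi31) (kgi xgi7 ygi42 zgi28) (kgi xgi7 ygi36 zgi2) (kgi xgi23 ygi57 zgi17) (kgi xgi14 ygi54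 zgi10) (kgi xgi7 ygi41 zgi20) (kgi xgi17 ygi17 zgi14) (kgi xgi7 ygi35 zgi54) (kgi xgi14 ygi47 zgi0) (kgi xgi19 ygi28 zgi41) (kgi xgi13 ygi10 zgi34) (kgi xgi7 ygi35 zgi55) (kgi xgi10 ygi47 zgi19) (kgi xgi14 ygi23 zgi9) (kgi xgi23 ygi56 zgi46) (kgi xgi7 ygi41 zgi34) (kgi xgi7 ygi35 zgi57) (kgi xgi23 ygi57 zgi30) (kgi xgi7 ygi41 zgi44) (kgi xgi7 ygi36 zgi28) (kgi xgi20 ygi27 zgi10) (kgi xgi7 ygi35 zgi61) (kgi xgi13 ygi31 zgi33) (kgi xgi23 ygi57 zgi41) (kgi xgi7 ygi42 zgi14) (kgi xgi7 ygi36 zgi0) (kgi xgi22 ygi20 zgi13) (kgi xgi22 ygi19 zgi59) (kgi xgi13 ygi1 zgi45) (kgi xgi20 ygi33 zgi33) (kgi xgi13 ygi10 zgi15) (kgi xgi16 ygi30 zgi12) (kgi xgi23 ygi57 zgi50) (kgi xgi13 ygi10 zgi21) (kgi xgi12 ygi10 zgi40) (kgi xgi7 ygi36 zgi5) (kgi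 xgi7 ygi36 zgi23) (kgi xgi23 ygi57 zgi56) (kgi xgi7 ygi36 zgi20) (kgi xgi7 ygi41 zgi51) (kgi xgi14 ygi23 zgi5) (kgi xgi13 ygi53 zgi31) (kgi xgi23 ygi36 zgi11) (kgi xgi7 ygi36 zgi8) (kgi xgi7 ygi36 zgi34) (kgi xgi11 ygi31 zgi31)) (@D3.rec (fun _ => Pt) (kgi xgi7 ygi36 zgi31) (kgi xgi14 ygi13 zgi47) (kgi xgi9 ygi23 zgi9) (kgi xgi12 ygi49 zgi22) (kgi xgi11 ygi34 zgi54) (kgi xgi7 ygi36 zgi12) (kgi xgi22 ygi36 zgi20) (kgi xgi7 ygi44 zgi1) (kgi xgi17 ygi32 zgi16) (kgi xgi11 ygi35 zgi37) (kgi xgi11 ygi48 zgi13) (kgi xgi7 ygi36 zgi18) (kgi xgi13 ygi7 zgi13) (kgi xgi15 ygi3 zgi57) (kgi xgi17 ygi1 zgi25) (kgi xgi12 ygi32 zgi56) (kgi xgi9 ygi6 zgi8) (kgi xgi20 ygi33 zgi20) (kgi xgi20 ygi46 zgi0) (kgi xgi12 ygi48 zgi61) (kgi xgi11 ygi45 zgi44)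 (kgi xgi7 ygi36 zgi22) (kgi xgi21 ygi3 zgi41) (kgi xgi21 ygi11 zgi15) (kgi xgi23 ygi57 zgi55) (kgi xgi7 ygi36 zgi24) (kgi xgi7 ygi40 zgi53) (kgi xgi23 ygi58 zgi18) (kgi xgi23 ygi58 zgi20) (kgi xgi7 ygi36 zgi25) (kgi xgi14 ygi41 zgi60) (kgi xgi13 ygi16 zgi49) (kgi xgi7 ygi40 zgi26) (kgi xgi13 ygi30 zgi27) (kgi xgi23 ygi6 zgi16) (kgi xgi22 ygi58 zgi55) (kgi xgi19 ygi22 zgi1) (kgi xgi23 ygi57 zgi19) (kgi xgi9 ygi8 zgi43) (kgi xgi13 ygi2 zgi20) (kgi xgi23 ygi58 zgi23) (kgi xgi9 ygi8 zgi17) (kgi xgi23 ygi58 zgi34) (kgi xgi7 ygi36 zgi33) (kgi xgi9 ygi48 zgi17) (kgi xgi23 ygi58 zgi38) (kgi xgi23 ygi58 zgi39) (kgi xgi21 ygi41 zgi60) (kgi xgi7 ygi36 zgi37) (kgi xgi19 ygi18 zgi22) (kgi xgi23 ygi58 zgi44) (kgi xgi7 ygi44 zgi54) (kgi xgi7 ygi44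 zgi17) (kgi xgi7 ygi44 zgi40) (kgi xgi7 ygi44 zgi39) (kgi xgi19 ygi7 zgi53) (kgi xgi20 ygi51 zgi36) (kgi xgi19 ygi15 zgi0) (kgi xgi14 ygi14 zgi7) (kgi xgi23 ygi58 zgi41) (kgi xgi7 ygi45 zgi50) (kgi xgi7 ygi36 zgi42)) (@D3.rec (fun _ => Pt) (kgi xgi14 ygi18 zgi44) (kgi xgi7 ygi45 zgi1) (kgi xgi14 ygi13 zgi61) (kgi xgi7 ygi42 zgi27) (kgi xgi10 ygi37 zgi54) (kgi xgi21 ygi59 zgi45) (kgi xgi23 ygi58 zgi59) (kgi xgi21 ygi56 zgi23) (kgi xgi7 ygi36 zgi45) (kgi xgi7 ygi45 zgi16) (kgi xgi23 ygi59 zgi12) (kgi xgi23 ygi59 zgi16) (kgi xgi7 ygi45 zgi12) (kgi xgi7 ygi46 zgi39) (kgi xgi7 ygi36 zgi58) (kgi xgi22 ygi26 zgi8) (kgi xgi7 ygi36 zgi49) (kgi xgi7 ygi37 zgi21) (kgi xgi23 ygi58 zgi57) (kgi xgi8 ygi33 zgi58) (kgi xgi7 ygi36 zgi52) (kgi xgi7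 ygi45 zgi58) (kgi xgi12 ygi48 zgi0) (kgi xgi7 ygi46 zgi7) (kgi xgi7 ygi41 zgi19) (kgi xgi7 ygi45 zgi32) (kgi xgi7 ygi36 zgi56) (kgi xgi22 ygi27 zgi59) (kgi xgi23 ygi59 zgi21) (kgi xgi7 ygi36 zgi60) (kgi xgi7 ygi46 zgi17) (kgi xgi23 ygi59 zgi23) (kgi xgi13 ygi55 zgi37) (kgi xgi23 ygi59 zgi27) (kgi xgi7 ygi37 zgi1) (kgi xgi7 ygi46 zgi27) (kgi xgi7 ygi46 zgi24) (kgi xgi22 ygi39 zgi16) (kgi xgi21 ygi2 zgi11) (kgi xgi14 ygi48 zgi55) (kgi xgi23 ygi59 zgi33) (kgi xgi7 ygi37 zgi4) (kgi xgi22 ygi39 zgi12) (kgi xgi14 ygi50 zgi39) (kgi xgi7 ygi37 zgi5) (kgi xgi7 ygi45 zgi17) (kgi xgi14 ygi25 zgi38) (kgi xgi7 ygi37 zgi56) (kgi xgi7 ygi37 zgi57) (kgi xgi23 ygi59 zgi45) (kgi xgi23 ygi59 zgi49) (kgi xgi13 ygi7 zgi54) (kgi xgi22 ygi32 zgi61) (kgi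 xgi7 ygi48 zgi8) (kgi xgi7 ygi37 zgi11) (kgi xgi7 ygi48 zgi6) (kgi xgi16 ygi46 zgi41) (kgi xgi23 ygi59 zgi58) (kgi xgi10 ygi41 zgi1) (kgi xgi24 ygi0 zgi0) (kgi xgi22 ygi50 zgi47) (kgi xgi24 ygi0 zgi5)) (@D3.rec (fun _ => Pt) (kgi xgi24 ygi0 zgi7) (kgi xgi19 ygi48 zgi28) (kgi xgi7 ygi37 zgi15) (kgi xgi7 ygi47 zgi39) (kgi xgi7 ygi47 zgi36) (kgi xgi7 ygi48 zgi23) (kgi xgi14 ygi19 zgi56) (kgi xgi17 ygi28 zgi34) (kgi xgi7 ygi47 zgi20) (kgi xgi7 ygi38 zgi10) (kgi xgi7 ygi37 zgi19) (kgi xgi7 ygi47 zgi18) (kgi xgi24 ygi0 zgi19) (kgi xgi10 ygi20 zgi16) (kgi xgi24 ygi0 zgi23) (kgi xgi19 ygi4 zgi28) (kgi xgi7 ygi37 zgi22) (kgi xgi7 ygi48 zgi20) (kgi xgi24 ygi0 zgi28) (kgi xgi7 ygi48 zgi17) (kgi xgi7 ygi43 zgi45) (kgi xgi7 ygi42 zgi57) (kgi xgi13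 ygi12 zgi4) (kgi xgi14 ygi46 zgi5) (kgi xgi13 ygi36 zgi23) (kgi xgi23 ygi1 zgi25) (kgi xgi17 ygi24 zgi33) (kgi xgi7 ygi37 zgi28) (kgi xgi18 ygi44 zgi32) (kgi xgi20 ygi39 zgi57) (kgi xgi7 ygi37 zgi31) (kgi xgi13 ygi10 zgi20) (kgi xgi22 ygi20 zgi27) (kgi xgi9 ygi26 zgi17) (kgi xgi7 ygi53 zgi26) (kgi xgi24 ygi0 zgi42) (kgi xgi13 ygi8 zgi39) (kgi xgi24 ygi0 zgi47) (kgi xgi7 ygi39 zgi57) (kgi xgi7 ygi40 zgi17) (kgi xgi23 ygi55 zgi34) (kgi xgi23 ygi55 zgi51) (kgi xgi7 ygi37 zgi46) (kgi xgi7 ygi37 zgi50) (kgi xgi23 ygi47 zgi50) (kgi xgi7 ygi37 zgi47) (kgi xgi13 ygi9 zgi50) (kgi xgi22 ygi46 zgi48) (kgi xgi13 ygi29 zgi51) (kgi xgi13 ygi11 zgi15) (kgi xgi24 ygi0 zgi58) (kgi xgi7 ygi37 zgi49) (kgi xgi24 ygi0 zgi56) (kgi xgi22 ygi19 zgi32) (kgi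 xgi24 ygi0 zgi55) (kgi xgi7 ygi39 zgi27) (kgi xgi24 ygi1 zgi9) (kgi xgi24 ygi1 zgi12) (kgi xgi14 ygi10 zgi35) (kgi xgi24 ygi1 zgi17) (kgi xgi22 ygi18 zgi8) (kgi xgi23 ygi19 zgi18)) (@D3.rec (fun _ => Pt) (kgi xgi7 ygi47 zgi30) (kgi xgi7 ygi37 zgi59) (kgi xgi23 ygi59 zgi44) (kgi xgi24 ygi1 zgi25) (kgi xgi24 ygi1 zgi29) (kgi xgi10 ygi41 zgi41) (kgi xgi17 ygi1 zgi36) (kgi xgi7 ygi47 zgi17) (kgi xgi14 ygi34 zgi24) (kgi xgi14 ygi10 zgi17) (kgi xgi8 ygi29 zgi16) (kgi xgi7 ygi48 zgi29) (kgi xgi15 ygi27 zgi1) (kgi xgi9 ygi24 zgi12) (kgi xgi9 ygi21 zgi25) (kgi xgi24 ygi1 zgi38) (kgi xgi24 ygi1 zgi40) (kgi xgi7 ygi38 zgi13) (kgi xgi15 ygi51 zgi11) (kgi xgi14 ygi19 zgi27) (kgi xgi14 ygi19 zgi29) (kgi xgi24 ygi1 zgi43) (kgi xgi22 ygi19 zgi4)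 (kgi xgi13 ygi33 zgi30) (kgi xgi8 ygi11 zgi32) (kgi xgi18 ygi56 zgi26) (kgi xgi17 ygi17 zgi20) (kgi xgi13 ygi29 zgi54) (kgi xgi24 ygi1 zgi52) (kgi xgi12 ygi35 zgi56) (kgi xgi7 ygi38 zgi17) (kgi xgi24 ygi1 zgi54) (kgi xgi24 ygi1 zgi60) (kgi xgi21 ygi41 zgi37) (kgi xgi7 ygi39 zgi38) (kgi xgi23 ygi54 zgi11) (kgi xgi23 ygi55 zgi41) (kgi xgi22 ygi33 zgi39) (kgi xgi7 ygi39 zgi56) (kgi xgi7 ygi38 zgi20) (kgi xgi14 ygi13 zgi9) (kgi xgi22 ygi37 zgi35) (kgi xgi14 ygi13 zgi6) (kgi xgi12 ygi24 zgi4) (kgi xgi17 ygi18 zgi11) (kgi xgi11 ygi41 zgi0) (kgi xgi24 ygi2 zgi17) (kgi xgi9 ygi22 zgi30) (kgi xgi13 ygi56 zgi18) (kgi xgi7 ygi38 zgi26) (kgi xgi14 ygi12 zgi30) (kgi xgi14 ygi32 zgi14) (kgi xgi24 ygi2 zgi23) (kgi xgi21 ygi41 zgi27) (kgi xgi24 ygi2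 zgi28) (kgi xgi22 ygi37 zgi13) (kgi xgi7 ygi38 zgi28) (kgi xgi7 ygi38 zgi32) (kgi xgi24 ygi2 zgi35) (kgi xgi15 ygi52 zgi0) (kgi xgi14 ygi16 zgi61) (kgi xgi9 ygi22 zgi4)) (@D3.rec (fun _ => Pt) (kgi xgi13 ygi9 zgi3) (kgi xgi11 ygi58 zgi24) (kgi xgi17 ygi57 zgi54) (kgi xgi24 ygi2 zgi46) (kgi xgi24 ygi2 zgi50) (kgi xgi17 ygi16 zgi42) (kgi xgi23 ygi58 zgi51) (kgi xgi21 ygi41 zgi31) (kgi xgi23 ygi58 zgi58) (kgi xgi13 ygi44 zgi11) (kgi xgi7 ygi38 zgi33) (kgi xgi12 ygi45 zgi33) (kgi xgi21 ygi53 zgi0) (kgi xgi24 ygi0 zgi51) (kgi xgi14 ygi18 zgi51) (kgi xgi8 ygi29 zgi11) (kgi xgi24 ygi2 zgi40) (kgi xgi14 ygi30 zgi19) (kgi xgi16 ygi18 zgi18) (kgi xgi7 ygi38 zgi36) (kgi xgi19 ygi35 zgi19) (kgi xgi24 ygi3 zgi17) (kgi xgi13 ygi39 zgi27) (kgi xgi7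 ygi38 zgi53) (kgi xgi22 ygi56 zgi23) (kgi xgi7 ygi38 zgi40) (kgi xgi22 ygi56 zgi22) (kgi xgi23 ygi13 zgi9) (kgi xgi24 ygi3 zgi31) (kgi xgi7 ygi38 zgi41) (kgi xgi22 ygi15 zgi21) (kgi xgi7 ygi39 zgi6) (kgi xgi24 ygi3 zgi0) (kgi xgi20 ygi12 zgi38) (kgi xgi24 ygi3 zgi36) (kgi xgi7 ygi38 zgi44) (kgi xgi19 ygi41 zgi1) (kgi xgi13 ygi8 zgi53) (kgi xgi13 ygi9 zgi6) (kgi xgi7 ygi50 zgi14) (kgi xgi22 ygi42 zgi38) (kgi xgi7 ygi50 zgi15) (kgi xgi23 ygi29 zgi14) (kgi xgi23 ygi41 zgi16) (kgi xgi7 ygi38 zgi48) (kgi xgi13 ygi9 zgi5) (kgi xgi24 ygi3 zgi53) (kgi xgi24 ygi3 zgi58) (kgi xgi23 ygi47 zgi58) (kgi xgi15 ygi32 zgi50) (kgi xgi24 ygi4 zgi4) (kgi xgi7 ygi38 zgi51) (kgi xgi22 ygi56 zgi31) (kgi xgi24 ygi4 zgi8) (kgi xgi22 ygi56 zgi29) (kgi xgi13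 ygi22 zgi20) (kgi xgi22 ygi50 zgi43) (kgi xgi14 ygi32 zgi27) (kgi xgi24 ygi4 zgi18) (kgi xgi20 ygi42 zgi33) (kgi xgi24 ygi4 zgi24) (kgi xgi7 ygi38 zgi55)) (@D3.rec (fun _ => Pt) (kgi xgi23 ygi55 zgi50) (kgi xgi23 ygi55 zgi48) (kgi xgi13 ygi9 zgi8) (kgi xgi24 ygi4 zgi31) (kgi xgi24 ygi4 zgi36) (kgi xgi15 ygi34 zgi61) (kgi xgi24 ygi4 zgi42) (kgi xgi7 ygi38 zgi58) (kgi xgi23 ygi55 zgi55) (kgi xgi23 ygi55 zgi54) (kgi xgi7 ygi38 zgi61) (kgi xgi13 ygi9 zgi31) (kgi xgi24 ygi4 zgi50) (kgi xgi19 ygi21 zgi24) (kgi xgi7 ygi41 zgi22) (kgi xgi13 ygi33 zgi36) (kgi xgi24 ygi4 zgi57) (kgi xgi24 ygi4 zgi60) (kgi xgi15 ygi15 zgi15) (kgi xgi7 ygi39 zgi3) (kgi xgi14 ygi48 zgi48) (kgi xgi14 ygi48 zgi46) (kgi xgi13 ygi47 zgi21) (kgi xgi7 ygi39 zgi5) (kgi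 xgi24 ygi5 zgi11) (kgi xgi23 ygi47 zgi31) (kgi xgi7 ygi39 zgi7) (kgi xgi23 ygi56 zgi0) (kgi xgi24 ygi5 zgi22) (kgi xgi23 ygi55 zgi60) (kgi xgi22 ygi29 zgi61) (kgi xgi13 ygi30 zgi13) (kgi xgi20 ygi11 zgi17) (kgi xgi23 ygi9 zgi61) (kgi xgi7 ygi39 zgi14) (kgi xgi12 ygi5 zgi31) (kgi xgi22 ygi56 zgi34) (kgi xgi23 ygi10 zgi11) (kgi xgi14 ygi43 zgi12) (kgi xgi7 ygi39 zgi17) (kgi xgi23 ygi9 zgi60) (kgi xgi22 ygi48 zgi8) (kgi xgi13 ygi42 zgi13) (kgi xgi13 ygi9 zgi55) (kgi xgi24 ygi5 zgi40) (kgi xgi24 ygi5 zgi42) (kgi xgi7 ygi39 zgi23) (kgi xgi23 ygi10 zgi50) (kgi xgi23 ygi10 zgi49) (kgi xgi7 ygi39 zgi24) (kgi xgi7 ygi53 zgi29) (kgi xgi21 ygi32 zgi20) (kgi xgi7 ygi39 zgi25) (kgi xgi24 ygi5 zgi49) (kgi xgi23 ygi46 zgi8) (kgi xgi23 ygi46 zgi7)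 (kgi xgi22 ygi25 zgi48) (kgi xgi22 ygi0 zgi46) (kgi xgi23 ygi55 zgi25) (kgi xgi7 ygi39 zgi30) (kgi xgi7 ygi39 zgi44) (kgi xgi23 ygi53 zgi3)) (@D3.rec (fun _ => Pt) (kgi xgi7 ygi39 zgi41) (kgi xgi13 ygi8 zgi24) (kgi xgi22 ygi41 zgi50) (kgi xgi7 ygi39 zgi32) (kgi xgi7 ygi39 zgi52) (kgi xgi24 ygi6 zgi4) (kgi xgi7 ygi39 zgi37) (kgi xgi24 ygi6 zgi8) (kgi xgi24 ygi6 zgi10) (kgi xgi10 ygi49 zgi44) (kgi xgi7 ygi39 zgi40) (kgi xgi22 ygi6 zgi58) (kgi xgi22 ygi0 zgi27) (kgi xgi24 ygi5 zgi57) (kgi xgi18 ygi35 zgi52) (kgi xgi20 ygi33 zgi37) (kgi xgi24 ygi6 zgi17) (kgi xgi24 ygi6 zgi14) (kgi xgi22 ygi7 zgi22) (kgi xgi9 ygi22 zgi7) (kgi xgi7 ygi39 zgi43) (kgi xgi16 ygi44 zgi36) (kgi xgi19 ygi34 zgi32) (kgi xgi17 ygi32 zgi26) (kgi xgi7 ygi39 zgi45)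 (kgi xgi24 ygi6 zgi27) (kgi xgi7 ygi39 zgi46) (kgi xgi24 ygi6 zgi33) (kgi xgi24 ygi6 zgi35) (kgi xgi24 ygi6 zgi32) (kgi xgi24 ygi6 zgi40) (kgi xgi23 ygi24 zgi2) (kgi xgi23 ygi53 zgi14) (kgi xgi13 ygi23 zgi52) (kgi xgi24 ygi6 zgi47) (kgi xgi24 ygi6 zgi44) (kgi xgi23 ygi4 zgi27) (kgi xgi7 ygi39 zgi51) (kgi xgi19 ygi30 zgi52) (kgi xgi13 ygi35 zgi24) (kgi xgi24 ygi6 zgi59) (kgi xgi24 ygi6 zgi3) (kgi xgi7 ygi53 zgi17) (kgi xgi18 ygi23 zgi7) (kgi xgi24 ygi7 zgi5) (kgi xgi24 ygi7 zgi8) (kgi xgi24 ygi7 zgi11) (kgi xgi7 ygi39 zgi55) (kgi xgi7 ygi39 zgi59) (kgi xgi19 ygi31 zgi25) (kgi xgi23 ygi50 zgi49) (kgi xgi14 ygi14 zgi25) (kgi xgi14 ygi13 zgi5) (kgi xgi23 ygi56 zgi8) (kgi xgi23 ygi56 zgi7) (kgi xgi22 ygi22 zgi28) (kgi xgi24 ygi7 zgi26)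 (kgi xgi21 ygi41 zgi35) (kgi xgi18 ygi24 zgi59) (kgi xgi24 ygi7 zgi7) (kgi xgi14 ygi37 zgi29) (kgi xgi24 ygi7 zgi15)) (@D3.rec (fun _ => Pt) (kgi xgi22 ygi41 zgi6) (kgi xgi7 ygi39 zgi60) (kgi xgi14 ygi13 zgi55) (kgi xgi21 ygi16 zgi54) (kgi xgi9 ygi10 zgi18) (kgi xgi8 ygi15 zgi31) (kgi xgi24 ygi7 zgi42) (kgi xgi24 ygi7 zgi20) (kgi xgi14 ygi31 zgi50) (kgi xgi23 ygi55 zgi10) (kgi xgi7 ygi40 zgi1) (kgi xgi23 ygi56 zgi19) (kgi xgi22 ygi6 zgi46) (kgi xgi24 ygi7 zgi55) (kgi xgi23 ygi56 zgi17) (kgi xgi19 ygi28 zgi34) (kgi xgi14 ygi52 zgi3) (kgi xgi7 ygi40 zgi4) (kgi xgi11 ygi36 zgi36) (kgi xgi24 ygi7 zgi61) (kgi xgi7 ygi40 zgi5) (kgi xgi7 ygi40 zgi11) (kgi xgi24 ygi8 zgi5) (kgi xgi7 ygi40 zgi6) (kgi xgi23 ygi55 zgi14) (kgi xgi23 ygi55 zgi11)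 (kgi xgi13 ygi10 zgi3) (kgi xgi20 ygi37 zgi11) (kgi xgi23 ygi50 zgi39) (kgi xgi14 ygi42 zgi40) (kgi xgi7 ygi40 zgi9) (kgi xgi23 ygi56 zgi21) (kgi xgi24 ygi8 zgi17) (kgi xgi7 ygi40 zgi10) (kgi xgi14 ygi42 zgi42) (kgi xgi24 ygi8 zgi20) (kgi xgi7 ygi40 zgi12) (kgi xgi23 ygi56 zgi25) (kgi xgi23 ygi56 zgi23) (kgi xgi7 ygi53 zgi18) (kgi xgi14 ygi12 zgi59) (kgi xgi19 ygi9 zgi19) (kgi xgi24 ygi8 zgi29) (kgi xgi7 ygi40 zgi16) (kgi xgi20 ygi37 zgi2) (kgi xgi24 ygi8 zgi36) (kgi xgi23 ygi56 zgi26) (kgi xgi23 ygi56 zgi20) (kgi xgi24 ygi8 zgi40) (kgi xgi21 ygi5 zgi46) (kgi xgi7 ygi40 zgi19) (kgi xgi23 ygi56 zgi30) (kgi xgi18 ygi48 zgi10) (kgi xgi19 ygi37 zgi49) (kgi xgi13 ygi28 zgi42) (kgi xgi24 ygi8 zgi33) (kgi xgi19 ygi37 zgi27) (kgi xgi13 ygi28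 zgi39) (kgi xgi22 ygi9 zgi17) (kgi xgi7 ygi40 zgi22) (kgi xgi24 ygi8 zgi49) (kgi xgi24 ygi8 zgi53)) (@D3.rec (fun _ => Pt) (kgi xgi16 ygi27 zgi20) (kgi xgi19 ygi35 zgi18) (kgi xgi7 ygi40 zgi24) (kgi xgi15 ygi52 zgi20) (kgi xgi7 ygi40 zgi25) (kgi xgi13 ygi8 zgi41) (kgi xgi24 ygi9 zgi4) (kgi xgi24 ygi9 zgi8) (kgi xgi7 ygi40 zgi27) (kgi xgi14 ygi52 zgi27) (kgi xgi14 ygi52 zgi25) (kgi xgi24 ygi9 zgi16) (kgi xgi13 ygi28 zgi4) (kgi xgi13 ygi46 zgi37) (kgi xgi24 ygi9 zgi20) (kgi xgi22 ygi41 zgi29) (kgi xgi13 ygi44 zgi12) (kgi xgi24 ygi9 zgi23) (kgi xgi20 ygi28 zgi57) (kgi xgi22 ygi41 zgi10) (kgi xgi22 ygi34 zgi1) (kgi xgi24 ygi9 zgi27) (kgi xgi7 ygi40 zgi37) (kgi xgi22 ygi33 zgi61) (kgi xgi22 ygi36 zgi33) (kgi xgi13 ygi28 zgi38) (kgi xgi7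 ygi40 zgi41) (kgi xgi24 ygi9 zgi29) (kgi xgi22 ygi48 zgi23) (kgi xgi24 ygi8 zgi27) (kgi xgi24 ygi9 zgi33) (kgi xgi13 ygi40 zgi30) (kgi xgi7 ygi40 zgi42) (kgi xgi23 ygi21 zgi38) (kgi xgi23 ygi21 zgi36) (kgi xgi24 ygi9 zgi44) (kgi xgi22 ygi57 zgi5) (kgi xgi7 ygi41 zgi21) (kgi xgi15 ygi39 zgi25) (kgi xgi7 ygi40 zgi47) (kgi xgi14 ygi55 zgi31) (kgi xgi24 ygi9 zgi50) (kgi xgi23 ygi24 zgi5) (kgi xgi7 ygi40 zgi48) (kgi xgi21 ygi52 zgi42) (kgi xgi7 ygi45 zgi19) (kgi xgi22 ygi58 zgi42) (kgi xgi22 ygi48 zgi60) (kgi xgi7 ygi40 zgi50) (kgi xgi14 ygi22 zgi56) (kgi xgi7 ygi46 zgi53) (kgi xgi23 ygi57 zgi54) (kgi xgi23 ygi57 zgi60) (kgi xgi24 ygi10 zgi3) (kgi xgi7 ygi40 zgi55) (kgi xgi7 ygi45 zgi30) (kgi xgi19 ygi23 zgi31) (kgi xgi7 ygi40 zgi59) (kgi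 xgi16 ygi44 zgi42) (kgi xgi7 ygi41 zgi12) (kgi xgi14 ygi49 zgi43) (kgi xgi14 ygi51 zgi48)) (@D3.rec (fun _ => Pt) (kgi xgi24 ygi3 zgi45) (kgi xgi13 ygi44 zgi16) (kgi xgi7 ygi46 zgi44) (kgi xgi7 ygi41 zgi0) (kgi xgi7 ygi41 zgi6) (kgi xgi7 ygi41 zgi24) (kgi xgi17 ygi19 zgi6) (kgi xgi22 ygi40 zgi25) (kgi xgi7 ygi41 zgi3) (kgi xgi22 ygi40 zgi24) (kgi xgi24 ygi10 zgi19) (kgi xgi23 ygi27 zgi25) (kgi xgi14 ygi48 zgi9) (kgi xgi24 ygi10 zgi21) (kgi xgi13 ygi54 zgi8) (kgi xgi23 ygi35 zgi59) (kgi xgi7 ygi41 zgi26) (kgi xgi23 ygi47 zgi7) (kgi xgi11 ygi36 zgi6) (kgi xgi24 ygi10 zgi26) (kgi xgi18 ygi42 zgi4) (kgi xgi24 ygi10 zgi25) (kgi xgi23 ygi47 zgi6) (kgi xgi7 ygi41 zgi14) (kgi xgi19 ygi28 zgi49) (kgi xgi21 ygi22 zgi16) (kgi xgi24 ygi10 zgi6)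 (kgi xgi7 ygi41 zgi17) (kgi xgi24 ygi10 zgi8) (kgi xgi23 ygi36 zgi44) (kgi xgi7 ygi41 zgi18) (kgi xgi24 ygi10 zgi9) (kgi xgi13 ygi44 zgi61) (kgi xgi7 ygi52 zgi34) (kgi xgi20 ygi30 zgi35) (kgi xgi23 ygi45 zgi34) (kgi xgi24 ygi10 zgi11) (kgi xgi24 ygi9 zgi47) (kgi xgi24 ygi10 zgi7) (kgi xgi24 ygi10 zgi48) (kgi xgi22 ygi35 zgi24) (kgi xgi22 ygi48 zgi57) (kgi xgi24 ygi10 zgi52) (kgi xgi19 ygi29 zgi22) (kgi xgi19 ygi55 zgi49) (kgi xgi24 ygi10 zgi55) (kgi xgi11 ygi4 zgi13) (kgi xgi22 ygi22 zgi15) (kgi xgi7 ygi41 zgi28) (kgi xgi13 ygi10 zgi14) (kgi xgi11 ygi23 zgi56) (kgi xgi20 ygi33 zgi2) (kgi xgi7 ygi41 zgi29) (kgi xgi17 ygi11 zgi11) (kgi xgi24 ygi10 zgi60) (kgi xgi21 ygi37 zgi21) (kgi xgi23 ygi58 zgi46) (kgi xgi20 ygi33 zgi38) (kgi xgi22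 ygi36 zgi1) (kgi xgi7 ygi42 zgi24) (kgi xgi7 ygi41 zgi32) (kgi xgi24 ygi2 zgi10)) (@D3.rec (fun _ => Pt) (kgi xgi13 ygi21 zgi2) (kgi xgi20 ygi47 zgi1) (kgi xgi7 ygi41 zgi38) (kgi xgi24 ygi2 zgi34) (kgi xgi13 ygi45 zgi28) (kgi xgi13 ygi20 zgi49) (kgi xgi14 ygi33 zgi34) (kgi xgi24 ygi2 zgi32) (kgi xgi13 ygi44 zgi24) (kgi xgi7 ygi41 zgi39) (kgi xgi21 ygi52 zgi40) (kgi xgi23 ygi45 zgi31) (kgi xgi24 ygi11 zgi12) (kgi xgi11 ygi45 zgi49) (kgi xgi19 ygi15 zgi34) (kgi xgi7 ygi41 zgi42) (kgi xgi23 ygi56 zgi50) (kgi xgi8 ygi10 zgi9) (kgi xgi24 ygi11 zgi26) (kgi xgi14 ygi24 zgi14) (kgi xgi19 ygi35 zgi15) (kgi xgi24 ygi11 zgi31) (kgi xgi24 ygi11 zgi35) (kgi xgi19 ygi15 zgi42) (kgi xgi19 ygi15 zgi26) (kgi xgi24 ygi11 zgi40) (kgi xgi24 ygi11 zgi37)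 (kgi xgi17 ygi58 zgi59) (kgi xgi23 ygi11 zgi28) (kgi xgi7 ygi41 zgi48) (kgi xgi23 ygi33 zgi16) (kgi xgi17 ygi58 zgi22) (kgi xgi24 ygi11 zgi52) (kgi xgi24 ygi11 zgi56) (kgi xgi7 ygi41 zgi50) (kgi xgi23 ygi11 zgi14) (kgi xgi23 ygi58 zgi29) (kgi xgi17 ygi35 zgi41) (kgi xgi13 ygi41 zgi34) (kgi xgi11 ygi43 zgi20) (kgi xgi13 ygi7 zgi33) (kgi xgi24 ygi12 zgi1) (kgi xgi11 ygi25 zgi53) (kgi xgi23 ygi45 zgi54) (kgi xgi23 ygi45 zgi52) (kgi xgi8 ygi54 zgi43) (kgi xgi23 ygi45 zgi60) (kgi xgi19 ygi28 zgi38) (kgi xgi10 ygi33 zgi30) (kgi xgi14 ygi52 zgi19) (kgi xgi7 ygi42 zgi1) (kgi xgi7 ygi42 zgi22) (kgi xgi22 ygi20 zgi14) (kgi xgi7 ygi42 zgi19) (kgi xgi24 ygi12 zgi21) (kgi xgi11 ygi29 zgi51) (kgi xgi24 ygi1 zgi37) (kgi xgi19 ygi30 zgi9) (kgi xgi23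 ygi56 zgi36) (kgi xgi22 ygi7 zgi47) (kgi xgi11 ygi41 zgi48) (kgi xgi18 ygi42 zgi1)) (@D3.rec (fun _ => Pt) (kgi xgi24 ygi12 zgi33) (kgi xgi24 ygi12 zgi36) (kgi xgi20 ygi24 zgi21) (kgi xgi19 ygi23 zgi32) (kgi xgi7 ygi42 zgi12) (kgi xgi20 ygi27 zgi16) (kgi xgi22 ygi7 zgi23) (kgi xgi20 ygi27 zgi13) (kgi xgi24 ygi12 zgi45) (kgi xgi7 ygi42 zgi15) (kgi xgi18 ygi45 zgi59) (kgi xgi22 ygi57 zgi30) (kgi xgi22 ygi47 zgi25) (kgi xgi13 ygi36 zgi20) (kgi xgi7 ygi43 zgi31) (kgi xgi21 ygi10 zgi52) (kgi xgi24 ygi12 zgi59) (kgi xgi23 ygi7 zgi0) (kgi xgi13 ygi8 zgi14) (kgi xgi13 ygi22 zgi23) (kgi xgi10 ygi34 zgi7) (kgi xgi13 ygi10 zgi13) (kgi xgi18 ygi2 zgi35) (kgi xgi19 ygi7 zgi21) (kgi xgi24 ygi13 zgi12) (kgi xgi7 ygi42 zgi21) (kgi xgi24 ygi12 zgi19)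 (kgi xgi24 ygi13 zgi20) (kgi xgi24 ygi13 zgi25) (kgi xgi22 ygi20 zgi11) (kgi xgi24 ygi13 zgi30) (kgi xgi7 ygi42 zgi23) (kgi xgi7 ygi42 zgi26) (kgi xgi24 ygi7 zgi14) (kgi xgi23 ygi52 zgi11) (kgi xgi14 ygi35 zgi14) (kgi xgi13 ygi21 zgi1) (kgi xgi18 ygi22 zgi33) (kgi xgi24 ygi13 zgi33) (kgi xgi21 ygi3 zgi24) (kgi xgi24 ygi7 zgi12) (kgi xgi7 ygi46 zgi16) (kgi xgi7 ygi45 zgi6) (kgi xgi7 ygi45 zgi26) (kgi xgi24 ygi13 zgi37) (kgi xgi23 ygi57 zgi47) (kgi xgi22 ygi49 zgi30) (kgi xgi7 ygi42 zgi30) (kgi xgi15 ygi31 zgi49) (kgi xgi15 ygi37 zgi6) (kgi xgi14 ygi27 zgi5) (kgi xgi22 ygi57 zgi13) (kgi xgi7 ygi42 zgi32) (kgi xgi23 ygi57 zgi18) (kgi xgi24 ygi13 zgi52) (kgi xgi23 ygi0 zgi37) (kgi xgi24 ygi13 zgi55) (kgi xgi24 ygi13 zgi59) (kgi xgi7 ygi42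 zgi34) (kgi xgi22 ygi10 zgi53) (kgi xgi23 ygi34 zgi3) (kgi xgi24 ygi13 zgi50)) (@D3.rec (fun _ => Pt) (kgi xgi22 ygi9 zgi30) (kgi xgi7 ygi42 zgi37) (kgi xgi24 ygi14 zgi5) (kgi xgi24 ygi14 zgi10) (kgi xgi24 ygi14 zgi6) (kgi xgi24 ygi14 zgi16) (kgi xgi7 ygi42 zgi39) (kgi xgi22 ygi57 zgi14) (kgi xgi9 ygi49 zgi41) (kgi xgi9 ygi28 zgi47) (kgi xgi7 ygi43 zgi28) (kgi xgi24 ygi14 zgi21) (kgi xgi7 ygi43 zgi29) (kgi xgi23 ygi12 zgi59) (kgi xgi24 ygi14 zgi24) (kgi xgi7 ygi42 zgi44) (kgi xgi17 ygi17 zgi13) (kgi xgi24 ygi14 zgi31) (kgi xgi17 ygi17 zgi10) (kgi xgi13 ygi41 zgi26) (kgi xgi13 ygi46 zgi2) (kgi xgi7 ygi55 zgi19) (kgi xgi21 ygi15 zgi55) (kgi xgi15 ygi55 zgi39) (kgi xgi13 ygi11 zgi18) (kgi xgi7 ygi42 zgi47) (kgi xgi19 ygi28 zgi46) (kgi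 xgi24 ygi14 zgi43) (kgi xgi17 ygi23 zgi22) (kgi xgi17 ygi50 zgi22) (kgi xgi9 ygi25 zgi52) (kgi xgi7 ygi53 zgi16) (kgi xgi24 ygi14 zgi50) (kgi xgi17 ygi49 zgi36) (kgi xgi11 ygi50 zgi46) (kgi xgi11 ygi58 zgi53) (kgi xgi24 ygi14 zgi20) (kgi xgi11 ygi58 zgi51) (kgi xgi24 ygi14 zgi59) (kgi xgi12 ygi46 zgi59) (kgi xgi19 ygi51 zgi5) (kgi xgi19 ygi19 zgi3) (kgi xgi14 ygi53 zgi6) (kgi xgi19 ygi4 zgi27) (kgi xgi13 ygi10 zgi30) (kgi xgi14 ygi52 zgi30) (kgi xgi24 ygi15 zgi9) (kgi xgi24 ygi14 zgi23) (kgi xgi14 ygi52 zgi61) (kgi xgi23 ygi59 zgi32) (kgi xgi7 ygi43 zgi1) (kgi xgi7 ygi43 zgi52) (kgi xgi20 ygi42 zgi29) (kgi xgi7 ygi43 zgi48) (kgi xgi24 ygi15 zgi20) (kgi xgi9 ygi20 zgi58) (kgi xgi12 ygi34 zgi15) (kgi xgi7 ygi43 zgi4) (kgi xgi9 ygi24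 zgi51) (kgi xgi24 ygi15 zgi25) (kgi xgi12 ygi33 zgi10) (kgi xgi11 ygi45 zgi31)) (@D3.rec (fun _ => Pt) (kgi xgi7 ygi43 zgi6) (kgi xgi10 ygi25 zgi19) (kgi xgi22 ygi18 zgi21) (kgi xgi13 ygi10 zgi55) (kgi xgi10 ygi52 zgi39) (kgi xgi17 ygi0 zgi22) (kgi xgi21 ygi30 zgi54) (kgi xgi20 ygi51 zgi41) (kgi xgi7 ygi43 zgi12) (kgi xgi21 ygi23 zgi3) (kgi xgi17 ygi57 zgi53) (kgi xgi21 ygi20 zgi20) (kgi xgi18 ygi23 zgi32) (kgi xgi19 ygi24 zgi59) (kgi xgi7 ygi43 zgi15) (kgi xgi10 ygi18 zgi50) (kgi xgi7 ygi43 zgi17) (kgi xgi12 ygi33 zgi8) (kgi xgi24 ygi15 zgi21) (kgi xgi19 ygi17 zgi24) (kgi xgi24 ygi15 zgi38) (kgi xgi9 ygi12 zgi27) (kgi xgi11 ygi40 zgi59) (kgi xgi7 ygi43 zgi19) (kgi xgi7 ygi43 zgi23) (kgi xgi19 ygi19 zgi35) (kgi xgi24 ygi15 zgi46)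 (kgi xgi11 ygi45 zgi4) (kgi xgi11 ygi58 zgi41) (kgi xgi13 ygi10 zgi50) (kgi xgi21 ygi16 zgi30) (kgi xgi11 ygi40 zgi57) (kgi xgi19 ygi45 zgi10) (kgi xgi23 ygi39 zgi52) (kgi xgi14 ygi32 zgi28) (kgi xgi24 ygi14 zgi19) (kgi xgi21 ygi3 zgi44) (kgi xgi24 ygi16 zgi1) (kgi xgi7 ygi43 zgi26) (kgi xgi21 ygi3 zgi42) (kgi xgi24 ygi16 zgi7) (kgi xgi21 ygi24 zgi7) (kgi xgi24 ygi14 zgi58) (kgi xgi24 ygi15 zgi19) (kgi xgi22 ygi47 zgi19) (kgi xgi7 ygi43 zgi42) (kgi xgi19 ygi4 zgi42) (kgi xgi22 ygi58 zgi60) (kgi xgi19 ygi17 zgi21) (kgi xgi24 ygi16 zgi17) (kgi xgi19 ygi18 zgi11) (kgi xgi23 ygi1 zgi44) (kgi xgi21 ygi51 zgi35) (kgi xgi7 ygi53 zgi36) (kgi xgi24 ygi16 zgi23) (kgi xgi7 ygi53 zgi40) (kgi xgi24 ygi15 zgi55) (kgi xgi7 ygi43 zgi34) (kgi xgi7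 ygi43 zgi40) (kgi xgi24 ygi16 zgi31) (kgi xgi19 ygi19 zgi60) (kgi xgi7 ygi43 zgi35)) (@D3.rec (fun _ => Pt) (kgi xgi24 ygi15 zgi2) (kgi xgi17 ygi23 zgi52) (kgi xgi23 ygi59 zgi20) (kgi xgi18 ygi0 zgi35) (kgi xgi24 ygi0 zgi29) (kgi xgi24 ygi14 zgi61) (kgi xgi7 ygi43 zgi39) (kgi xgi22 ygi0 zgi40) (kgi xgi14 ygi41 zgi44) (kgi xgi18 ygi46 zgi23) (kgi xgi22 ygi2 zgi23) (kgi xgi19 ygi4 zgi60) (kgi xgi19 ygi18 zgi38) (kgi xgi13 ygi9 zgi48) (kgi xgi24 ygi16 zgi48) (kgi xgi24 ygi16 zgi52) (kgi xgi7 ygi43 zgi43) (kgi xgi24 ygi16 zgi55) (kgi xgi13 ygi56 zgi43) (kgi xgi24 ygi16 zgi61) (kgi xgi7 ygi43 zgi44) (kgi xgi24 ygi15 zgi10) (kgi xgi23 ygi59 zgi22) (kgi xgi24 ygi0 zgi31) (kgi xgi14 ygi41 zgi40) (kgi xgi24 ygi17 zgi12) (kgi xgi24 ygi17 zgi15)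 (kgi xgi13 ygi56 zgi49) (kgi xgi24 ygi17 zgi19) (kgi xgi7 ygi43 zgi47) (kgi xgi24 ygi15 zgi16) (kgi xgi24 ygi15 zgi15) (kgi xgi11 ygi54 zgi44) (kgi xgi14 ygi5 zgi57) (kgi xgi24 ygi17 zgi3) (kgi xgi24 ygi4 zgi40) (kgi xgi13 ygi25 zgi35) (kgi xgi24 ygi17 zgi22) (kgi xgi7 ygi43 zgi50) (kgi xgi24 ygi17 zgi33) (kgi xgi24 ygi17 zgi38) (kgi xgi24 ygi17 zgi45) (kgi xgi24 ygi17 zgi34) (kgi xgi24 ygi17 zgi48) (kgi xgi24 ygi17 zgi51) (kgi xgi7 ygi43 zgi53) (kgi xgi21 ygi3 zgi43) (kgi xgi7 ygi43 zgi54) (kgi xgi24 ygi17 zgi59) (kgi xgi7 ygi43 zgi59) (kgi xgi17 ygi5 zgi10) (kgi xgi7 ygi43 zgi57) (kgi xgi7 ygi44 zgi60) (kgi xgi7 ygi43 zgi58) (kgi xgi17 ygi6 zgi22) (kgi xgi24 ygi18 zgi3) (kgi xgi21 ygi22 zgi11) (kgi xgi24 ygi18 zgi6) (kgi xgi17 ygi13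 zgi47) (kgi xgi23 ygi58 zgi2) (kgi xgi12 ygi42 zgi17) (kgi xgi23 ygi6 zgi56)) (@D3.rec (fun _ => Pt) (kgi xgi7 ygi43 zgi61) (kgi xgi24 ygi17 zgi61) (kgi xgi24 ygi18 zgi11) (kgi xgi19 ygi12 zgi55) (kgi xgi18 ygi23 zgi20) (kgi xgi24 ygi18 zgi15) (kgi xgi11 ygi45 zgi41) (kgi xgi7 ygi44 zgi2) (kgi xgi7 ygi44 zgi4) (kgi xgi23 ygi49 zgi50) (kgi xgi24 ygi18 zgi19) (kgi xgi23 ygi49 zgi48) (kgi xgi14 ygi1 zgi12) (kgi xgi21 ygi52 zgi23) (kgi xgi14 ygi29 zgi59) (kgi xgi24 ygi18 zgi24) (kgi xgi7 ygi44 zgi7) (kgi xgi22 ygi36 zgi21) (kgi xgi24 ygi18 zgi29) (kgi xgi24 ygi18 zgi32) (kgi xgi14 ygi14 zgi24) (kgi xgi18 ygi5 zgi60) (kgi xgi7 ygi44 zgi9) (kgi xgi24 ygi18 zgi35) (kgi xgi20 ygi45 zgi57) (kgi xgi24 ygi18 zgi37) (kgi xgi17 ygi34 zgi44) (kgi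 xgi12 ygi56 zgi54) (kgi xgi20 ygi27 zgi34) (kgi xgi12 ygi57 zgi56) (kgi xgi7 ygi44 zgi12) (kgi xgi12 ygi57 zgi38) (kgi xgi24 ygi18 zgi47) (kgi xgi24 ygi18 zgi34) (kgi xgi7 ygi44 zgi14) (kgi xgi7 ygi44 zgi16) (kgi xgi23 ygi5 zgi61) (kgi xgi24 ygi18 zgi53) (kgi xgi21 ygi52 zgi14) (kgi xgi22 ygi7 zgi1) (kgi xgi13 ygi28 zgi58) (kgi xgi13 ygi20 zgi60) (kgi xgi23 ygi0 zgi40) (kgi xgi15 ygi26 zgi38) (kgi xgi23 ygi0 zgi43) (kgi xgi20 ygi27 zgi32) (kgi xgi9 ygi7 zgi36) (kgi xgi7 ygi44 zgi23) (kgi xgi21 ygi52 zgi22) (kgi xgi9 ygi7 zgi18) (kgi xgi12 ygi54 zgi61) (kgi xgi21 ygi30 zgi26) (kgi xgi20 ygi2 zgi1) (kgi xgi7 ygi44 zgi26) (kgi xgi7 ygi44 zgi30) (kgi xgi12 ygi23 zgi20) (kgi xgi7 ygi44 zgi27) (kgi xgi24 ygi18 zgi61) (kgi xgi9 ygi13 zgi57)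 (kgi xgi21 ygi30 zgi18) (kgi xgi24 ygi19 zgi10) (kgi xgi12 ygi15 zgi43)) (@D3.rec (fun _ => Pt) (kgi xgi21 ygi30 zgi17) (kgi xgi7 ygi44 zgi29) (kgi xgi24 ygi19 zgi16) (kgi xgi20 ygi37 zgi46) (kgi xgi7 ygi44 zgi31) (kgi xgi7 ygi44 zgi34) (kgi xgi24 ygi19 zgi24) (kgi xgi10 ygi36 zgi22) (kgi xgi21 ygi7 zgi55) (kgi xgi12 ygi43 zgi5) (kgi xgi24 ygi19 zgi23) (kgi xgi18 ygi2 zgi24) (kgi xgi23 ygi46 zgi54) (kgi xgi21 ygi59 zgi21) (kgi xgi24 ygi19 zgi30) (kgi xgi7 ygi44 zgi37) (kgi xgi21 ygi53 zgi8) (kgi xgi24 ygi19 zgi36) (kgi xgi24 ygi19 zgi41) (kgi xgi21 ygi53 zgi18) (kgi xgi21 ygi54 zgi4) (kgi xgi7 ygi45 zgi4) (kgi xgi9 ygi27 zgi6) (kgi xgi7 ygi44 zgi41) (kgi xgi16 ygi14 zgi0) (kgi xgi18 ygi57 zgi10) (kgi xgi7 ygi44 zgi42) (kgi xgi19 ygi17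 zgi6) (kgi xgi24 ygi19 zgi49) (kgi xgi7 ygi44 zgi43) (kgi xgi24 ygi19 zgi44) (kgi xgi24 ygi19 zgi53) (kgi xgi22 ygi35 zgi40) (kgi xgi21 ygi41 zgi44) (kgi xgi7 ygi44 zgi45) (kgi xgi24 ygi19 zgi57) (kgi xgi18 ygi37 zgi36) (kgi xgi7 ygi44 zgi46) (kgi xgi7 ygi44 zgi59) (kgi xgi24 ygi19 zgi22) (kgi xgi21 ygi41 zgi58) (kgi xgi21 ygi41 zgi33) (kgi xgi14 ygi16 zgi55) (kgi xgi19 ygi27 zgi51) (kgi xgi23 ygi49 zgi29) (kgi xgi23 ygi49 zgi32) (kgi xgi7 ygi44 zgi50) (kgi xgi7 ygi44 zgi61) (kgi xgi21 ygi23 zgi33) (kgi xgi24 ygi20 zgi10) (kgi xgi24 ygi20 zgi12) (kgi xgi7 ygi44 zgi51) (kgi xgi23 ygi58 zgi45) (kgi xgi22 ygi39 zgi44) (kgi xgi23 ygi58 zgi43) (kgi xgi13 ygi21 zgi0) (kgi xgi24 ygi2 zgi14) (kgi xgi19 ygi5 zgi37) (kgi xgi20 ygi44 zgi39)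 (kgi xgi8 ygi0 zgi55) (kgi xgi7 ygi44 zgi58) (kgi xgi24 ygi20 zgi20)) (@D3.rec (fun _ => Pt) (kgi xgi20 ygi23 zgi2) (kgi xgi24 ygi20 zgi18) (kgi xgi24 ygi19 zgi21) (kgi xgi21 ygi48 zgi30) (kgi xgi12 ygi41 zgi17) (kgi xgi21 ygi20 zgi44) (kgi xgi24 ygi20 zgi9) (kgi xgi14 ygi42 zgi14) (kgi xgi7 ygi45 zgi0) (kgi xgi24 ygi20 zgi30) (kgi xgi23 ygi58 zgi55) (kgi xgi23 ygi55 zgi31) (kgi xgi14 ygi18 zgi47) (kgi xgi12 ygi42 zgi24) (kgi xgi21 ygi36 zgi25) (kgi xgi18 ygi38 zgi13) (kgi xgi10 ygi36 zgi24) (kgi xgi7 ygi45 zgi5) (kgi xgi7 ygi45 zgi9) (kgi xgi21 ygi59 zgi53) (kgi xgi24 ygi20 zgi51) (kgi xgi24 ygi20 zgi54) (kgi xgi14 ygi26 zgi60) (kgi xgi7 ygi45 zgi7) (kgi xgi23 ygi12 zgi22) (kgi xgi23 ygi58 zgi61) (kgi xgi19 ygi54 zgi24) (kgi xgi24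 ygi20 zgi50) (kgi xgi8 ygi35 zgi0) (kgi xgi21 ygi45 zgi59) (kgi xgi7 ygi45 zgi11) (kgi xgi23 ygi59 zgi5) (kgi xgi23 ygi59 zgi4) (kgi xgi24 ygi21 zgi1) (kgi xgi17 ygi52 zgi61) (kgi xgi24 ygi20 zgi60) (kgi xgi23 ygi59 zgi18) (kgi xgi24 ygi21 zgi5) (kgi xgi15 ygi46 zgi52) (kgi xgi7 ygi45 zgi14) (kgi xgi24 ygi21 zgi11) (kgi xgi17 ygi53 zgi50) (kgi xgi19 ygi54 zgi9) (kgi xgi19 ygi54 zgi7) (kgi xgi7 ygi45 zgi15) (kgi xgi24 ygi19 zgi40) (kgi xgi7 ygi46 zgi30) (kgi xgi23 ygi59 zgi6) (kgi xgi22 ygi39 zgi13) (kgi xgi19 ygi8 zgi34) (kgi xgi21 ygi52 zgi45) (kgi xgi24 ygi21 zgi22) (kgi xgi20 ygi12 zgi41) (kgi xgi7 ygi45 zgi21) (kgi xgi7 ygi45 zgi25) (kgi xgi24 ygi21 zgi25) (kgi xgi24 ygi21 zgi30) (kgi xgi24 ygi21 zgi32) (kgi xgi24 ygi2 zgi56)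 (kgi xgi10 ygi5 zgi49) (kgi xgi24 ygi3 zgi1) (kgi xgi22 ygi46 zgi47)) (@D3.rec (fun _ => Pt) (kgi xgi14 ygi19 zgi12) (kgi xgi22 ygi35 zgi38) (kgi xgi14 ygi13 zgi45) (kgi xgi24 ygi21 zgi38) (kgi xgi24 ygi12 zgi3) (kgi xgi24 ygi21 zgi36) (kgi xgi24 ygi21 zgi43) (kgi xgi7 ygi45 zgi29) (kgi xgi21 ygi52 zgi48) (kgi xgi24 ygi21 zgi48) (kgi xgi24 ygi21 zgi52) (kgi xgi10 ygi36 zgi30) (kgi xgi13 ygi21 zgi6) (kgi xgi7 ygi45 zgi40) (kgi xgi14 ygi48 zgi33) (kgi xgi14 ygi48 zgi28) (kgi xgi19 ygi7 zgi56) (kgi xgi19 ygi50 zgi55) (kgi xgi14 ygi39 zgi7) (kgi xgi12 ygi40 zgi56) (kgi xgi19 ygi17 zgi9) (kgi xgi19 ygi17 zgi54) (kgi xgi24 ygi10 zgi4) (kgi xgi23 ygi58 zgi22) (kgi xgi24 ygi21 zgi61) (kgi xgi13 ygi21 zgi53) (kgi xgi24 ygi22 zgi4) (kgi xgi17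 ygi1 zgi28) (kgi xgi19 ygi26 zgi54) (kgi xgi11 ygi39 zgi61) (kgi xgi13 ygi17 zgi11) (kgi xgi24 ygi22 zgi8) (kgi xgi7 ygi45 zgi48) (kgi xgi23 ygi12 zgi42) (kgi xgi23 ygi12 zgi45) (kgi xgi24 ygi22 zgi14) (kgi xgi13 ygi17 zgi17) (kgi xgi24 ygi22 zgi19) (kgi xgi15 ygi42 zgi45) (kgi xgi24 ygi22 zgi13) (kgi xgi21 ygi57 zgi49) (kgi xgi24 ygi20 zgi27) (kgi xgi7 ygi45 zgi53) (kgi xgi18 ygi2 zgi48) (kgi xgi23 ygi35 zgi24) (kgi xgi20 ygi53 zgi24) (kgi xgi15 ygi42 zgi40) (kgi xgi14 ygi42 zgi24) (kgi xgi7 ygi47 zgi35) (kgi xgi22 ygi37 zgi9) (kgi xgi16 ygi6 zgi41) (kgi xgi9 ygi3 zgi57) (kgi xgi19 ygi8 zgi35) (kgi xgi7 ygi45 zgi57) (kgi xgi13 ygi22 zgi3) (kgi xgi8 ygi21 zgi27) (kgi xgi13 ygi22 zgi1) (kgi xgi21 ygi11 zgi39) (kgi xgi8 ygi13 zgi12)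 (kgi xgi13 ygi12 zgi36) (kgi xgi7 ygi46 zgi3) (kgi xgi14 ygi10 zgi21)) (@D3.rec (fun _ => Pt) (kgi xgi20 ygi23 zgi40) (kgi xgi7 ygi46 zgi2) (kgi xgi13 ygi12 zgi34) (kgi xgi16 ygi40 zgi19) (kgi xgi24 ygi22 zgi50) (kgi xgi14 ygi44 zgi57) (kgi xgi24 ygi22 zgi52) (kgi xgi13 ygi44 zgi47) (kgi xgi7 ygi46 zgi9) (kgi xgi10 ygi30 zgi30) (kgi xgi24 ygi22 zgi57) (kgi xgi10 ygi33 zgi25) (kgi xgi24 ygi22 zgi60) (kgi xgi22 ygi21 zgi16) (kgi xgi18 ygi18 zgi33) (kgi xgi7 ygi46 zgi13) (kgi xgi8 ygi38 zgi48) (kgi xgi18 ygi19 zgi13) (kgi xgi16 ygi10 zgi21) (kgi xgi18 ygi41 zgi61) (kgi xgi7 ygi46 zgi29) (kgi xgi19 ygi8 zgi27) (kgi xgi23 ygi59 zgi37) (kgi xgi19 ygi2 zgi39) (kgi xgi10 ygi38 zgi2) (kgi xgi10 ygi33 zgi35) (kgi xgi24 ygi23 zgi10) (kgi xgi22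 ygi57 zgi21) (kgi xgi10 ygi40 zgi2) (kgi xgi10 ygi33 zgi37) (kgi xgi7 ygi46 zgi20) (kgi xgi10 ygi33 zgi31) (kgi xgi10 ygi30 zgi31) (kgi xgi24 ygi23 zgi16) (kgi xgi7 ygi46 zgi23) (kgi xgi23 ygi59 zgi29) (kgi xgi21 ygi19 zgi26) (kgi xgi23 ygi59 zgi26) (kgi xgi7 ygi46 zgi31) (kgi xgi22 ygi37 zgi36) (kgi xgi23 ygi58 zgi36) (kgi xgi23 ygi59 zgi41) (kgi xgi22 ygi16 zgi3) (kgi xgi7 ygi46 zgi26) (kgi xgi22 ygi39 zgi34) (kgi xgi23 ygi52 zgi41) (kgi xgi22 ygi39 zgi32) (kgi xgi20 ygi24 zgi43) (kgi xgi20 ygi24 zgi45) (kgi xgi19 ygi19 zgi19) (kgi xgi24 ygi23 zgi36) (kgi xgi24 ygi23 zgi40) (kgi xgi21 ygi56 zgi21) (kgi xgi23 ygi59 zgi34) (kgi xgi18 ygi18 zgi43) (kgi xgi22 ygi22 zgi3) (kgi xgi24 ygi23 zgi47) (kgi xgi21 ygi19 zgi7) (kgi xgi23 ygi59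 zgi30) (kgi xgi7 ygi46 zgi32) (kgi xgi7 ygi46 zgi34) (kgi xgi18 ygi18 zgi45)) (@D3.rec (fun _ => Pt) (kgi xgi24 ygi23 zgi58) (kgi xgi22 ygi38 zgi2) (kgi xgi24 ygi23 zgi7) (kgi xgi7 ygi46 zgi36) (kgi xgi7 ygi49 zgi29) (kgi xgi24 ygi23 zgi57) (kgi xgi23 ygi30 zgi32) (kgi xgi24 ygi24 zgi9) (kgi xgi21 ygi29 zgi55) (kgi xgi7 ygi46 zgi35) (kgi xgi13 ygi57 zgi49) (kgi xgi15 ygi0 zgi13) (kgi xgi14 ygi49 zgi5) (kgi xgi7 ygi50 zgi31) (kgi xgi7 ygi46 zgi37) (kgi xgi14 ygi42 zgi36) (kgi xgi7 ygi46 zgi38) (kgi xgi22 ygi39 zgi15) (kgi xgi10 ygi36 zgi34) (kgi xgi14 ygi1 zgi48) (kgi xgi24 ygi24 zgi23) (kgi xgi10 ygi37 zgi61) (kgi xgi23 ygi24 zgi10) (kgi xgi24 ygi24 zgi22) (kgi xgi7 ygi46 zgi41) (kgi xgi21 ygi52 zgi49) (kgi xgi24 ygi24 zgi32) (kgi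 xgi24 ygi24 zgi36) (kgi xgi7 ygi46 zgi43) (kgi xgi22 ygi58 zgi26) (kgi xgi20 ygi48 zgi27) (kgi xgi24 ygi24 zgi42) (kgi xgi24 ygi24 zgi45) (kgi xgi13 ygi7 zgi16) (kgi xgi7 ygi48 zgi32) (kgi xgi24 ygi21 zgi26) (kgi xgi7 ygi48 zgi36) (kgi xgi7 ygi46 zgi51) (kgi xgi7 ygi46 zgi48) (kgi xgi23 ygi45 zgi59) (kgi xgi24 ygi24 zgi55) (kgi xgi22 ygi24 zgi20) (kgi xgi7 ygi46 zgi50) (kgi xgi23 ygi45 zgi53) (kgi xgi22 ygi26 zgi23) (kgi xgi24 ygi25 zgi0) (kgi xgi16 ygi55 zgi33) (kgi xgi24 ygi25 zgi3) (kgi xgi7 ygi46 zgi52) (kgi xgi22 ygi58 zgi52) (kgi xgi22 ygi58 zgi49) (kgi xgi20 ygi49 zgi23) (kgi xgi24 ygi25 zgi10) (kgi xgi7 ygi46 zgi54) (kgi xgi7 ygi46 zgi55) (kgi xgi23 ygi46 zgi1) (kgi xgi24 ygi25 zgi16) (kgi xgi20 ygi52 zgi8) (kgi xgi13 ygi39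 zgi2) (kgi xgi24 ygi25 zgi9) (kgi xgi7 ygi46 zgi58) (kgi xgi22 ygi38 zgi24)) (@D3.rec (fun _ => Pt) (kgi xgi22 ygi38 zgi21) (kgi xgi24 ygi25 zgi21) (kgi xgi22 ygi26 zgi12) (kgi xgi24 ygi25 zgi25) (kgi xgi13 ygi24 zgi34) (kgi xgi20 ygi48 zgi12) (kgi xgi7 ygi46 zgi61) (kgi xgi24 ygi24 zgi37) (kgi xgi24 ygi24 zgi35) (kgi xgi24 ygi25 zgi37) (kgi xgi24 ygi25 zgi40) (kgi xgi14 ygi46 zgi11) (kgi xgi13 ygi7 zgi30) (kgi xgi13 ygi11 zgi42) (kgi xgi14 ygi41 zgi23) (kgi xgi7 ygi47 zgi3) (kgi xgi13 ygi11 zgi40) (kgi xgi24 ygi25 zgi51) (kgi xgi7 ygi47 zgi4) (kgi xgi14 ygi41 zgi24) (kgi xgi13 ygi7 zgi20) (kgi xgi13 ygi7 zgi48) (kgi xgi24 ygi25 zgi57) (kgi xgi7 ygi47 zgi7) (kgi xgi14 ygi41 zgi18) (kgi xgi14 ygi11 zgi43) (kgi xgi22 ygi12 zgi43) (kgi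 xgi24 ygi26 zgi3) (kgi xgi7 ygi47 zgi27) (kgi xgi24 ygi0 zgi2) (kgi xgi22 ygi50 zgi49) (kgi xgi7 ygi47 zgi12) (kgi xgi22 ygi50 zgi45) (kgi xgi14 ygi34 zgi14) (kgi xgi24 ygi26 zgi13) (kgi xgi7 ygi47 zgi14) (kgi xgi23 ygi49 zgi36) (kgi xgi23 ygi59 zgi48) (kgi xgi13 ygi7 zgi15) (kgi xgi12 ygi51 zgi44) (kgi xgi24 ygi1 zgi33) (kgi xgi24 ygi0 zgi18) (kgi xgi10 ygi39 zgi33) (kgi xgi9 ygi22 zgi42) (kgi xgi24 ygi26 zgi26) (kgi xgi24 ygi26 zgi29) (kgi xgi10 ygi41 zgi31) (kgi xgi14 ygi34 zgi8) (kgi xgi13 ygi23 zgi11) (kgi xgi11 ygi2 zgi15) (kgi xgi7 ygi47 zgi22) (kgi xgi24 ygi0 zgi14) (kgi xgi24 ygi26 zgi42) (kgi xgi24 ygi26 zgi45) (kgi xgi16 ygi37 zgi45) (kgi xgi7 ygi47 zgi23) (kgi xgi10 ygi32 zgi9) (kgi xgi24 ygi26 zgi53) (kgi xgi24 ygi26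 zgi25) (kgi xgi7 ygi53 zgi33) (kgi xgi24 ygi8 zgi19) (kgi xgi9 ygi22 zgi41)) (@D3.rec (fun _ => Pt) (kgi xgi9 ygi22 zgi26) (kgi xgi22 ygi50 zgi46) (kgi xgi14 ygi33 zgi49) (kgi xgi24 ygi27 zgi1) (kgi xgi23 ygi26 zgi24) (kgi xgi16 ygi9 zgi61) (kgi xgi7 ygi47 zgi29) (kgi xgi24 ygi0 zgi1) (kgi xgi23 ygi59 zgi61) (kgi xgi7 ygi53 zgi39) (kgi xgi24 ygi27 zgi16) (kgi xgi24 ygi27 zgi20) (kgi xgi24 ygi27 zgi22) (kgi xgi24 ygi27 zgi24) (kgi xgi24 ygi27 zgi27) (kgi xgi7 ygi47 zgi33) (kgi xgi24 ygi0 zgi6) (kgi xgi23 ygi49 zgi33) (kgi xgi7 ygi47 zgi34) (kgi xgi20 ygi24 zgi41) (kgi xgi24 ygi0 zgi22) (kgi xgi24 ygi27 zgi40) (kgi xgi21 ygi24 zgi28) (kgi xgi24 ygi26 zgi5) (kgi xgi14 ygi21 zgi19) (kgi xgi24 ygi27 zgi48) (kgi xgi23 ygi49 zgi30) (kgi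 xgi10 ygi31 zgi59) (kgi xgi11 ygi0 zgi61) (kgi xgi24 ygi27 zgi9) (kgi xgi7 ygi47 zgi38) (kgi xgi11 ygi0 zgi15) (kgi xgi24 ygi22 zgi42) (kgi xgi14 ygi43 zgi56) (kgi xgi21 ygi9 zgi13) (kgi xgi24 ygi27 zgi59) (kgi xgi13 ygi22 zgi12) (kgi xgi13 ygi36 zgi44) (kgi xgi13 ygi16 zgi45) (kgi xgi24 ygi27 zgi61) (kgi xgi7 ygi47 zgi46) (kgi xgi14 ygi27 zgi29) (kgi xgi14 ygi27 zgi33) (kgi xgi14 ygi12 zgi38) (kgi xgi24 ygi28 zgi3) (kgi xgi14 ygi3 zgi24) (kgi xgi13 ygi37 zgi11) (kgi xgi22 ygi17 zgi58) (kgi xgi24 ygi28 zgi5) (kgi xgi12 ygi34 zgi11) (kgi xgi23 ygi57 zgi58) (kgi xgi12 ygi34 zgi9) (kgi xgi13 ygi46 zgi18) (kgi xgi7 ygi47 zgi55) (kgi xgi18 ygi48 zgi47) (kgi xgi23 ygi6 zgi21) (kgi xgi23 ygi6 zgi17) (kgi xgi23 ygi6 zgi0) (kgi xgi7 ygi47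 zgi59) (kgi xgi16 ygi34 zgi60) (kgi xgi18 ygi59 zgi7) (kgi xgi20 ygi7 zgi23)) (@D3.rec (fun _ => Pt) (kgi xgi7 ygi47 zgi60) (kgi xgi14 ygi44 zgi45) (kgi xgi13 ygi29 zgi32) (kgi xgi20 ygi7 zgi45) (kgi xgi22 ygi28 zgi36) (kgi xgi18 ygi15 zgi59) (kgi xgi10 ygi13 zgi3) (kgi xgi10 ygi13 zgi21) (kgi xgi7 ygi48 zgi2) (kgi xgi16 ygi20 zgi25) (kgi xgi7 ygi48 zgi4) (kgi xgi20 ygi52 zgi3) (kgi xgi11 ygi22 zgi6) (kgi xgi24 ygi5 zgi48) (kgi xgi24 ygi28 zgi32) (kgi xgi23 ygi59 zgi54) (kgi xgi24 ygi28 zgi35) (kgi xgi13 ygi18 zgi22) (kgi xgi24 ygi28 zgi39) (kgi xgi13 ygi17 zgi15) (kgi xgi24 ygi27 zgi31) (kgi xgi24 ygi28 zgi38) (kgi xgi24 ygi28 zgi45) (kgi xgi7 ygi48 zgi10) (kgi xgi23 ygi59 zgi50) (kgi xgi24 ygi28 zgi50) (kgi xgi24 ygi28 zgi54) (kgi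 xgi7 ygi48 zgi11) (kgi xgi10 ygi32 zgi6) (kgi xgi24 ygi29 zgi0) (kgi xgi10 ygi40 zgi23) (kgi xgi7 ygi48 zgi13) (kgi xgi24 ygi29 zgi6) (kgi xgi13 ygi18 zgi24) (kgi xgi7 ygi48 zgi15) (kgi xgi24 ygi0 zgi8) (kgi xgi17 ygi53 zgi8) (kgi xgi17 ygi52 zgi60) (kgi xgi19 ygi48 zgi13) (kgi xgi16 ygi47 zgi52) (kgi xgi10 ygi39 zgi42) (kgi xgi16 ygi18 zgi19) (kgi xgi24 ygi29 zgi22) (kgi xgi10 ygi41 zgi15) (kgi xgi9 ygi51 zgi29) (kgi xgi17 ygi28 zgi42) (kgi xgi7 ygi48 zgi19) (kgi xgi20 ygi59 zgi35) (kgi xgi19 ygi18 zgi48) (kgi xgi24 ygi0 zgi27) (kgi xgi18 ygi6 zgi34) (kgi xgi20 ygi59 zgi33) (kgi xgi22 ygi19 zgi54) (kgi xgi13 ygi30 zgi29) (kgi xgi11 ygi48 zgi23) (kgi xgi11 ygi48 zgi26) (kgi xgi7 ygi48 zgi27) (kgi xgi14 ygi42 zgi33) (kgi xgi7 ygi48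 zgi28) (kgi xgi22 ygi0 zgi0) (kgi xgi24 ygi25 zgi49) (kgi xgi24 ygi29 zgi46)) (@D3.rec (fun _ => Pt) (kgi xgi14 ygi13 zgi24) (kgi xgi24 ygi0 zgi53) (kgi xgi13 ygi50 zgi36) (kgi xgi24 ygi29 zgi54) (kgi xgi13 ygi13 zgi11) (kgi xgi13 ygi35 zgi11) (kgi xgi24 ygi29 zgi57) (kgi xgi24 ygi24 zgi53) (kgi xgi7 ygi48 zgi33) (kgi xgi23 ygi46 zgi13) (kgi xgi24 ygi30 zgi6) (kgi xgi23 ygi46 zgi11) (kgi xgi7 ygi48 zgi35) (kgi xgi22 ygi0 zgi38) (kgi xgi24 ygi30 zgi13) (kgi xgi24 ygi30 zgi16) (kgi xgi24 ygi30 zgi19) (kgi xgi24 ygi25 zgi8) (kgi xgi7 ygi48 zgi37) (kgi xgi22 ygi46 zgi54) (kgi xgi22 ygi46 zgi52) (kgi xgi12 ygi7 zgi56) (kgi xgi14 ygi59 zgi29) (kgi xgi9 ygi46 zgi57) (kgi xgi16 ygi26 zgi10) (kgi xgi14 ygi43 zgi53) (kgi xgi12 ygi7 zgi53) (kgi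 xgi11 ygi13 zgi11) (kgi xgi11 ygi41 zgi23) (kgi xgi24 ygi30 zgi35) (kgi xgi7 ygi48 zgi44) (kgi xgi23 ygi19 zgi45) (kgi xgi23 ygi19 zgi43) (kgi xgi24 ygi30 zgi42) (kgi xgi8 ygi23 zgi23) (kgi xgi7 ygi48 zgi47) (kgi xgi21 ygi27 zgi51) (kgi xgi21 ygi27 zgi49) (kgi xgi24 ygi30 zgi50) (kgi xgi17 ygi30 zgi46) (kgi xgi7 ygi48 zgi50) (kgi xgi13 ygi16 zgi0) (kgi xgi13 ygi15 zgi60) (kgi xgi14 ygi42 zgi32) (kgi xgi8 ygi21 zgi43) (kgi xgi14 ygi43 zgi0) (kgi xgi13 ygi35 zgi15) (kgi xgi13 ygi27 zgi34) (kgi xgi13 ygi43 zgi57) (kgi xgi24 ygi30 zgi57) (kgi xgi24 ygi30 zgi61) (kgi xgi13 ygi26 zgi54) (kgi xgi7 ygi48 zgi60) (kgi xgi22 ygi30 zgi56) (kgi xgi21 ygi44 zgi51) (kgi xgi22 ygi30 zgi57) (kgi xgi13 ygi27 zgi49) (kgi xgi22 ygi14 zgi58) (kgi xgi22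 ygi30 zgi3) (kgi xgi14 ygi39 zgi5) (kgi xgi13 ygi50 zgi61) (kgi xgi13 ygi51 zgi24)) (@D3.rec (fun _ => Pt) (kgi xgi24 ygi31 zgi12) (kgi xgi24 ygi31 zgi15) (kgi xgi7 ygi49 zgi4) (kgi xgi13 ygi51 zgi40) (kgi xgi13 ygi51 zgi38) (kgi xgi22 ygi58 zgi59) (kgi xgi13 ygi13 zgi47) (kgi xgi14 ygi56 zgi35) (kgi xgi10 ygi16 zgi24) (kgi xgi12 ygi6 zgi21) (kgi xgi7 ygi49 zgi8) (kgi xgi14 ygi9 zgi25) (kgi xgi7 ygi49 zgi10) (kgi xgi13 ygi51 zgi32) (kgi xgi13 ygi51 zgi29) (kgi xgi13 ygi38 zgi37) (kgi xgi7 ygi49 zgi12) (kgi xgi22 ygi29 zgi20) (kgi xgi13 ygi47 zgi1) (kgi xgi24 ygi31 zgi29) (kgi xgi24 ygi31 zgi32) (kgi xgi24 ygi31 zgi36) (kgi xgi7 ygi49 zgi15) (kgi xgi24 ygi31 zgi30) (kgi xgi13 ygi47 zgi38) (kgi xgi7 ygi49 zgi16) (kgi xgi21 ygi40 zgi58)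 (kgi xgi21 ygi40 zgi59) (kgi xgi19 ygi18 zgi43) (kgi xgi19 ygi55 zgi48) (kgi xgi19 ygi56 zgi27) (kgi xgi20 ygi1 zgi22) (kgi xgi21 ygi6 zgi9) (kgi xgi24 ygi31 zgi51) (kgi xgi15 ygi12 zgi39) (kgi xgi24 ygi31 zgi50) (kgi xgi19 ygi52 zgi58) (kgi xgi23 ygi19 zgi55) (kgi xgi13 ygi52 zgi55) (kgi xgi14 ygi49 zgi54) (kgi xgi13 ygi52 zgi44) (kgi xgi22 ygi22 zgi12) (kgi xgi22 ygi55 zgi30) (kgi xgi14 ygi50 zgi50) (kgi xgi7 ygi54 zgi2) (kgi xgi7 ygi49 zgi25) (kgi xgi14 ygi49 zgi4) (kgi xgi20 ygi35 zgi36) (kgi xgi14 ygi49 zgi1) (kgi xgi24 ygi27 zgi34) (kgi xgi23 ygi42 zgi22) (kgi xgi18 ygi17 zgi46) (kgi xgi7 ygi50 zgi10) (kgi xgi9 ygi14 zgi21) (kgi xgi24 ygi32 zgi10) (kgi xgi14 ygi49 zgi44) (kgi xgi24 ygi32 zgi14) (kgi xgi7 ygi49 zgi34) (kgi xgi20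 ygi28 zgi22) (kgi xgi24 ygi32 zgi16) (kgi xgi14 ygi51 zgi38) (kgi xgi17 ygi9 zgi0)) (@D3.rec (fun _ => Pt) (kgi xgi16 ygi11 zgi20) (kgi xgi13 ygi25 zgi54) (kgi xgi24 ygi22 zgi32) (kgi xgi19 ygi19 zgi10) (kgi xgi7 ygi53 zgi13) (kgi xgi14 ygi19 zgi4) (kgi xgi9 ygi10 zgi52) (kgi xgi23 ygi43 zgi37) (kgi xgi7 ygi49 zgi44) (kgi xgi7 ygi49 zgi48) (kgi xgi7 ygi49 zgi45) (kgi xgi14 ygi18 zgi57) (kgi xgi14 ygi55 zgi52) (kgi xgi7 ygi53 zgi44) (kgi xgi19 ygi32 zgi9) (kgi xgi16 ygi3 zgi0) (kgi xgi14 ygi48 zgi52) (kgi xgi8 ygi20 zgi30) (kgi xgi13 ygi53 zgi23) (kgi xgi24 ygi32 zgi33) (kgi xgi14 ygi55 zgi43) (kgi xgi7 ygi54 zgi17) (kgi xgi7 ygi54 zgi29) (kgi xgi14 ygi56 zgi6) (kgi xgi7 ygi49 zgi57) (kgi xgi14 ygi55 zgi42) (kgi xgi24 ygi32 zgi38)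 (kgi xgi14 ygi55 zgi33) (kgi xgi21 ygi55 zgi46) (kgi xgi24 ygi32 zgi42) (kgi xgi17 ygi2 zgi33) (kgi xgi21 ygi57 zgi44) (kgi xgi17 ygi56 zgi10) (kgi xgi16 ygi51 zgi27) (kgi xgi17 ygi54 zgi61) (kgi xgi7 ygi50 zgi2) (kgi xgi16 ygi51 zgi32) (kgi xgi11 ygi20 zgi15) (kgi xgi17 ygi29 zgi60) (kgi xgi7 ygi50 zgi4) (kgi xgi13 ygi57 zgi12) (kgi xgi23 ygi40 zgi53) (kgi xgi19 ygi6 zgi11) (kgi xgi24 ygi32 zgi53) (kgi xgi7 ygi50 zgi6) (kgi xgi7 ygi50 zgi9) (kgi xgi24 ygi32 zgi56) (kgi xgi24 ygi32 zgi59) (kgi xgi20 ygi6 zgi40) (kgi xgi24 ygi22 zgi15) (kgi xgi24 ygi32 zgi55) (kgi xgi22 ygi22 zgi13) (kgi xgi23 ygi40 zgi52) (kgi xgi11 ygi50 zgi47) (kgi xgi9 ygi50 zgi10) (kgi xgi24 ygi33 zgi4) (kgi xgi23 ygi32 zgi29) (kgi xgi7 ygi50 zgi12) (kgi xgi24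 ygi18 zgi1) (kgi xgi21 ygi36 zgi27) (kgi xgi21 ygi40 zgi48) (kgi xgi24 ygi21 zgi14)) (@D3.rec (fun _ => Pt) (kgi xgi14 ygi19 zgi23) (kgi xgi7 ygi50 zgi28) (kgi xgi17 ygi38 zgi25) (kgi xgi7 ygi50 zgi16) (kgi xgi24 ygi3 zgi42) (kgi xgi16 ygi4 zgi48) (kgi xgi7 ygi50 zgi17) (kgi xgi14 ygi56 zgi33) (kgi xgi14 ygi48 zgi59) (kgi xgi7 ygi50 zgi48) (kgi xgi23 ygi26 zgi48) (kgi xgi7 ygi50 zgi19) (kgi xgi19 ygi11 zgi8) (kgi xgi9 ygi31 zgi49) (kgi xgi7 ygi50 zgi20) (kgi xgi22 ygi55 zgi23) (kgi xgi22 ygi55 zgi22) (kgi xgi24 ygi24 zgi13) (kgi xgi22 ygi55 zgi17) (kgi xgi12 ygi8 zgi4) (kgi xgi7 ygi50 zgi23) (kgi xgi22 ygi55 zgi16) (kgi xgi24 ygi33 zgi41) (kgi xgi24 ygi33 zgi45) (kgi xgi7 ygi50 zgi24) (kgi xgi24 ygi30 zgi29) (kgi xgi21 ygi14 zgi22)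 (kgi xgi18 ygi2 zgi22) (kgi xgi20 ygi16 zgi34) (kgi xgi7 ygi50 zgi26) (kgi xgi24 ygi32 zgi11) (kgi xgi24 ygi33 zgi60) (kgi xgi24 ygi32 zgi9) (kgi xgi11 ygi4 zgi1) (kgi xgi24 ygi34 zgi3) (kgi xgi19 ygi5 zgi59) (kgi xgi7 ygi50 zgi29) (kgi xgi17 ygi49 zgi51) (kgi xgi21 ygi21 zgi2) (kgi xgi7 ygi50 zgi30) (kgi xgi24 ygi32 zgi15) (kgi xgi24 ygi32 zgi13) (kgi xgi22 ygi55 zgi15) (kgi xgi16 ygi43 zgi18) (kgi xgi11 ygi3 zgi44) (kgi xgi24 ygi34 zgi15) (kgi xgi17 ygi50 zgi14) (kgi xgi7 ygi50 zgi33) (kgi xgi23 ygi44 zgi4) (kgi xgi19 ygi10 zgi61) (kgi xgi24 ygi2 zgi27) (kgi xgi24 ygi14 zgi47) (kgi xgi7 ygi50 zgi36) (kgi xgi24 ygi34 zgi20) (kgi xgi23 ygi12 zgi49) (kgi xgi15 ygi25 zgi46) (kgi xgi20 ygi54 zgi27) (kgi xgi24 ygi20 zgi39) (kgi xgi7 ygi50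 zgi39) (kgi xgi24 ygi32 zgi7) (kgi xgi7 ygi50 zgi40) (kgi xgi14 ygi1 zgi45)) (@D3.rec (fun _ => Pt) (kgi xgi14 ygi1 zgi46) (kgi xgi24 ygi20 zgi47) (kgi xgi13 ygi15 zgi38) (kgi xgi7 ygi50 zgi44) (kgi xgi15 ygi18 zgi24) (kgi xgi7 ygi50 zgi45) (kgi xgi14 ygi0 zgi51) (kgi xgi22 ygi30 zgi39) (kgi xgi23 ygi29 zgi28) (kgi xgi14 ygi29 zgi13) (kgi xgi24 ygi22 zgi37) (kgi xgi22 ygi5 zgi60) (kgi xgi16 ygi11 zgi22) (kgi xgi18 ygi18 zgi24) (kgi xgi13 ygi40 zgi9) (kgi xgi23 ygi27 zgi22) (kgi xgi7 ygi50 zgi55) (kgi xgi23 ygi54 zgi36) (kgi xgi13 ygi5 zgi35) (kgi xgi22 ygi20 zgi2) (kgi xgi12 ygi55 zgi49) (kgi xgi24 ygi6 zgi26) (kgi xgi13 ygi36 zgi56) (kgi xgi24 ygi34 zgi40) (kgi xgi24 ygi34 zgi42) (kgi xgi7 ygi51 zgi30) (kgi xgi19 ygi56 zgi45) (kgi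 xgi22 ygi22 zgi20) (kgi xgi14 ygi2 zgi59) (kgi xgi7 ygi51 zgi0) (kgi xgi15 ygi18 zgi23) (kgi xgi19 ygi8 zgi32) (kgi xgi14 ygi42 zgi5) (kgi xgi7 ygi51 zgi1) (kgi xgi13 ygi21 zgi9) (kgi xgi14 ygi38 zgi15) (kgi xgi14 ygi47 zgi55) (kgi xgi24 ygi33 zgi58) (kgi xgi7 ygi51 zgi3) (kgi xgi16 ygi11 zgi23) (kgi xgi24 ygi34 zgi52) (kgi xgi24 ygi32 zgi18) (kgi xgi14 ygi29 zgi14) (kgi xgi20 ygi16 zgi41) (kgi xgi13 ygi40 zgi5) (kgi xgi24 ygi34 zgi57) (kgi xgi7 ygi51 zgi11) (kgi xgi14 ygi25 zgi21) (kgi xgi14 ygi25 zgi19) (kgi xgi13 ygi40 zgi0) (kgi xgi24 ygi35 zgi2) (kgi xgi14 ygi2 zgi1) (kgi xgi14 ygi46 zgi27) (kgi xgi7 ygi51 zgi15) (kgi xgi11 ygi26 zgi47) (kgi xgi14 ygi39 zgi48) (kgi xgi11 ygi26 zgi44) (kgi xgi14 ygi28 zgi36) (kgi xgi14 ygi1 zgi50)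 (kgi xgi23 ygi1 zgi15) (kgi xgi19 ygi56 zgi53) (kgi xgi14 ygi47 zgi8)) (@D3.rec (fun _ => Pt) (kgi xgi13 ygi53 zgi29) (kgi xgi7 ygi51 zgi18) (kgi xgi14 ygi45 zgi48) (kgi xgi24 ygi35 zgi17) (kgi xgi14 ygi45 zgi45) (kgi xgi12 ygi23 zgi2) (kgi xgi12 ygi30 zgi23) (kgi xgi24 ygi35 zgi23) (kgi xgi13 ygi22 zgi10) (kgi xgi20 ygi9 zgi50) (kgi xgi23 ygi30 zgi29) (kgi xgi14 ygi7 zgi31) (kgi xgi7 ygi51 zgi22) (kgi xgi24 ygi35 zgi27) (kgi xgi7 ygi52 zgi9) (kgi xgi7 ygi52 zgi14) (kgi xgi24 ygi35 zgi33) (kgi xgi14 ygi1 zgi49) (kgi xgi24 ygi35 zgi36) (kgi xgi7 ygi51 zgi27) (kgi xgi8 ygi7 zgi31) (kgi xgi7 ygi52 zgi28) (kgi xgi24 ygi35 zgi42) (kgi xgi13 ygi36 zgi28) (kgi xgi24 ygi35 zgi44) (kgi xgi13 ygi36 zgi36) (kgi xgi24 ygi27 zgi4) (kgi xgi24 ygi35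 zgi49) (kgi xgi7 ygi51 zgi32) (kgi xgi13 ygi33 zgi25) (kgi xgi14 ygi15 zgi29) (kgi xgi14 ygi19 zgi5) (kgi xgi14 ygi54 zgi15) (kgi xgi7 ygi51 zgi46) (kgi xgi7 ygi54 zgi59) (kgi xgi7 ygi54 zgi32) (kgi xgi14 ygi3 zgi44) (kgi xgi7 ygi51 zgi40) (kgi xgi14 ygi54 zgi14) (kgi xgi24 ygi35 zgi59) (kgi xgi14 ygi45 zgi39) (kgi xgi23 ygi24 zgi32) (kgi xgi24 ygi36 zgi3) (kgi xgi14 ygi29 zgi0) (kgi xgi14 ygi47 zgi42) (kgi xgi7 ygi51 zgi50) (kgi xgi21 ygi19 zgi11) (kgi xgi7 ygi51 zgi47) (kgi xgi21 ygi55 zgi20) (kgi xgi7 ygi51 zgi49) (kgi xgi24 ygi36 zgi5) (kgi xgi24 ygi36 zgi9) (kgi xgi24 ygi35 zgi55) (kgi xgi15 ygi42 zgi1) (kgi xgi14 ygi54 zgi6) (kgi xgi15 ygi43 zgi0) (kgi xgi21 ygi28 zgi22) (kgi xgi14 ygi3 zgi16) (kgi xgi24 ygi36 zgi16) (kgi xgi16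 ygi30 zgi27) (kgi xgi21 ygi37 zgi44) (kgi xgi20 ygi35 zgi51)) (@D3.rec (fun _ => Pt) (kgi xgi14 ygi19 zgi50) (kgi xgi11 ygi12 zgi3) (kgi xgi16 ygi53 zgi46) (kgi xgi7 ygi51 zgi58) (kgi xgi10 ygi52 zgi23) (kgi xgi20 ygi0 zgi18) (kgi xgi19 ygi57 zgi43) (kgi xgi24 ygi36 zgi24) (kgi xgi9 ygi45 zgi23) (kgi xgi24 ygi36 zgi25) (kgi xgi9 ygi46 zgi20) (kgi xgi16 ygi46 zgi19) (kgi xgi7 ygi51 zgi61) (kgi xgi12 ygi49 zgi41) (kgi xgi11 ygi10 zgi4) (kgi xgi12 ygi49 zgi39) (kgi xgi7 ygi52 zgi1) (kgi xgi13 ygi22 zgi8) (kgi xgi14 ygi38 zgi29) (kgi xgi20 ygi54 zgi58) (kgi xgi7 ygi52 zgi2) (kgi xgi17 ygi13 zgi9) (kgi xgi7 ygi52 zgi3) (kgi xgi7 ygi52 zgi7) (kgi xgi24 ygi36 zgi41) (kgi xgi15 ygi53 zgi31) (kgi xgi17 ygi12 zgi21) (kgi xgi9 ygi43 zgi51) (kgi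 xgi14 ygi40 zgi12) (kgi xgi12 ygi5 zgi54) (kgi xgi9 ygi43 zgi49) (kgi xgi16 ygi19 zgi57) (kgi xgi24 ygi36 zgi47) (kgi xgi20 ygi48 zgi41) (kgi xgi24 ygi22 zgi27) (kgi xgi23 ygi1 zgi16) (kgi xgi7 ygi52 zgi8) (kgi xgi14 ygi7 zgi47) (kgi xgi16 ygi46 zgi18) (kgi xgi13 ygi22 zgi9) (kgi xgi22 ygi21 zgi18) (kgi xgi18 ygi1 zgi7) (kgi xgi24 ygi23 zgi0) (kgi xgi7 ygi52 zgi11) (kgi xgi24 ygi35 zgi30) (kgi xgi20 ygi43 zgi24) (kgi xgi24 ygi37 zgi2) (kgi xgi24 ygi35 zgi26) (kgi xgi24 ygi35 zgi41) (kgi xgi22 ygi57 zgi7) (kgi xgi14 ygi45 zgi41) (kgi xgi24 ygi37 zgi9) (kgi xgi7 ygi52 zgi16) (kgi xgi7 ygi52 zgi22) (kgi xgi15 ygi52 zgi42) (kgi xgi7 ygi52 zgi17) (kgi xgi8 ygi37 zgi48) (kgi xgi15 ygi53 zgi29) (kgi xgi14 ygi46 zgi22) (kgi xgi7 ygi52 zgi20)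 (kgi xgi8 ygi9 zgi58) (kgi xgi15 ygi29 zgi60)) (@D3.rec (fun _ => Pt) (kgi xgi7 ygi52 zgi21) (kgi xgi14 ygi55 zgi3) (kgi xgi11 ygi4 zgi26) (kgi xgi24 ygi37 zgi23) (kgi xgi7 ygi52 zgi23) (kgi xgi24 ygi35 zgi34) (kgi xgi24 ygi35 zgi32) (kgi xgi16 ygi50 zgi37) (kgi xgi7 ygi52 zgi25) (kgi xgi15 ygi23 zgi2) (kgi xgi7 ygi52 zgi26) (kgi xgi15 ygi22 zgi52) (kgi xgi20 ygi16 zgi25) (kgi xgi24 ygi35 zgi35) (kgi xgi20 ygi41 zgi37) (kgi xgi24 ygi37 zgi34) (kgi xgi23 ygi56 zgi38) (kgi xgi16 ygi8 zgi10) (kgi xgi7 ygi52 zgi30) (kgi xgi20 ygi43 zgi48) (kgi xgi20 ygi43 zgi60) (kgi xgi20 ygi41 zgi32) (kgi xgi22 ygi54 zgi51) (kgi xgi24 ygi37 zgi40) (kgi xgi7 ygi52 zgi33) (kgi xgi24 ygi35 zgi31) (kgi xgi13 ygi8 zgi50) (kgi xgi24 ygi37 zgi49) (kgi xgi14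 ygi49 zgi17) (kgi xgi24 ygi37 zgi54) (kgi xgi23 ygi1 zgi1) (kgi xgi23 ygi8 zgi34) (kgi xgi7 ygi52 zgi38) (kgi xgi23 ygi8 zgi33) (kgi xgi20 ygi18 zgi3) (kgi xgi16 ygi4 zgi49) (kgi xgi13 ygi43 zgi26) (kgi xgi24 ygi38 zgi2) (kgi xgi14 ygi48 zgi27) (kgi xgi11 ygi42 zgi52) (kgi xgi24 ygi38 zgi7) (kgi xgi24 ygi38 zgi8) (kgi xgi24 ygi37 zgi17) (kgi xgi7 ygi52 zgi42) (kgi xgi24 ygi35 zgi45) (kgi xgi24 ygi35 zgi43) (kgi xgi7 ygi52 zgi43) (kgi xgi23 ygi10 zgi58) (kgi xgi14 ygi29 zgi1) (kgi xgi24 ygi38 zgi18) (kgi xgi7 ygi52 zgi44) (kgi xgi13 ygi56 zgi39) (kgi xgi24 ygi12 zgi23) (kgi xgi24 ygi37 zgi29) (kgi xgi7 ygi52 zgi46) (kgi xgi24 ygi35 zgi48) (kgi xgi24 ygi38 zgi30) (kgi xgi24 ygi35 zgi47) (kgi xgi22 ygi16 zgi0) (kgi xgi7 ygi52 zgi50)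 (kgi xgi23 ygi11 zgi2) (kgi xgi14 ygi13 zgi27)) (@D3.rec (fun _ => Pt) (kgi xgi22 ygi19 zgi60) (kgi xgi24 ygi38 zgi37) (kgi xgi22 ygi14 zgi27) (kgi xgi14 ygi18 zgi22) (kgi xgi13 ygi17 zgi59) (kgi xgi24 ygi38 zgi40) (kgi xgi7 ygi52 zgi56) (kgi xgi24 ygi35 zgi50) (kgi xgi22 ygi13 zgi0) (kgi xgi7 ygi52 zgi57) (kgi xgi21 ygi0 zgi51) (kgi xgi19 ygi31 zgi17) (kgi xgi14 ygi11 zgi2) (kgi xgi15 ygi15 zgi58) (kgi xgi24 ygi38 zgi47) (kgi xgi7 ygi52 zgi60) (kgi xgi24 ygi0 zgi48) (kgi xgi24 ygi0 zgi46) (kgi xgi14 ygi19 zgi6) (kgi xgi14 ygi30 zgi48) (kgi xgi24 ygi38 zgi59) (kgi xgi7 ygi53 zgi1) (kgi xgi13 ygi28 zgi46) (kgi xgi15 ygi40 zgi1) (kgi xgi24 ygi39 zgi3) (kgi xgi7 ygi53 zgi2) (kgi xgi14 ygi28 zgi10) (kgi xgi14 ygi28 zgi8) (kgi xgi13 ygi50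 zgi43) (kgi xgi11 ygi41 zgi4) (kgi xgi14 ygi32 zgi48) (kgi xgi21 ygi5 zgi53) (kgi xgi11 ygi44 zgi57) (kgi xgi11 ygi41 zgi8) (kgi xgi11 ygi44 zgi60) (kgi xgi11 ygi42 zgi36) (kgi xgi24 ygi11 zgi14) (kgi xgi7 ygi53 zgi11) (kgi xgi24 ygi3 zgi24) (kgi xgi11 ygi50 zgi57) (kgi xgi24 ygi39 zgi17) (kgi xgi21 ygi47 zgi22) (kgi xgi23 ygi24 zgi3) (kgi xgi24 ygi39 zgi21) (kgi xgi18 ygi0 zgi27) (kgi xgi18 ygi24 zgi30) (kgi xgi9 ygi10 zgi34) (kgi xgi11 ygi43 zgi61) (kgi xgi20 ygi45 zgi39) (kgi xgi18 ygi35 zgi57) (kgi xgi24 ygi39 zgi26) (kgi xgi24 ygi0 zgi38) (kgi xgi13 ygi8 zgi20) (kgi xgi13 ygi36 zgi53) (kgi xgi19 ygi37 zgi16) (kgi xgi22 ygi54 zgi52) (kgi xgi24 ygi6 zgi25) (kgi xgi19 ygi22 zgi55) (kgi xgi10 ygi40 zgi37) (kgi xgi7 ygi53 zgi28) (kgi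 xgi21 ygi18 zgi9) (kgi xgi14 ygi32 zgi45)) (@D3.rec (fun _ => Pt) (kgi xgi17 ygi48 zgi59) (kgi xgi13 ygi53 zgi35) (kgi xgi10 ygi41 zgi2) (kgi xgi13 ygi53 zgi36) (kgi xgi20 ygi6 zgi36) (kgi xgi12 ygi46 zgi57) (kgi xgi14 ygi7 zgi16) (kgi xgi10 ygi34 zgi19) (kgi xgi14 ygi32 zgi42) (kgi xgi24 ygi39 zgi48) (kgi xgi10 ygi56 zgi3) (kgi xgi24 ygi16 zgi35) (kgi xgi7 ygi53 zgi37) (kgi xgi10 ygi40 zgi28) (kgi xgi24 ygi39 zgi55) (kgi xgi24 ygi39 zgi56) (kgi xgi24 ygi39 zgi60) (kgi xgi10 ygi40 zgi29) (kgi xgi22 ygi53 zgi48) (kgi xgi22 ygi45 zgi45) (kgi xgi14 ygi5 zgi20) (kgi xgi24 ygi40 zgi4) (kgi xgi22 ygi27 zgi48) (kgi xgi22 ygi45 zgi55) (kgi xgi14 ygi6 zgi60) (kgi xgi24 ygi17 zgi47) (kgi xgi24 ygi40 zgi11) (kgi xgi7 ygi53 zgi47) (kgi xgi23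 ygi41 zgi39) (kgi xgi23 ygi41 zgi37) (kgi xgi22 ygi51 zgi10) (kgi xgi13 ygi29 zgi30) (kgi xgi24 ygi40 zgi22) (kgi xgi13 ygi41 zgi56) (kgi xgi13 ygi29 zgi33) (kgi xgi24 ygi40 zgi26) (kgi xgi7 ygi53 zgi50) (kgi xgi13 ygi41 zgi21) (kgi xgi24 ygi40 zgi31) (kgi xgi8 ygi26 zgi19) (kgi xgi7 ygi53 zgi51) (kgi xgi22 ygi50 zgi32) (kgi xgi22 ygi50 zgi30) (kgi xgi13 ygi30 zgi31) (kgi xgi13 ygi41 zgi10) (kgi xgi7 ygi53 zgi53) (kgi xgi18 ygi50 zgi1) (kgi xgi13 ygi22 zgi32) (kgi xgi18 ygi47 zgi29) (kgi xgi7 ygi53 zgi54) (kgi xgi16 ygi22 zgi46) (kgi xgi13 ygi23 zgi53) (kgi xgi24 ygi40 zgi42) (kgi xgi22 ygi27 zgi8) (kgi xgi14 ygi45 zgi38) (kgi xgi24 ygi40 zgi44) (kgi xgi14 ygi55 zgi5) (kgi xgi14 ygi2 zgi3) (kgi xgi7 ygi53 zgi59) (kgi xgi14 ygi1 zgi53)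 (kgi xgi24 ygi40 zgi55) (kgi xgi24 ygi40 zgi60)) (@D3.rec (fun _ => Pt) (kgi xgi16 ygi19 zgi58) (kgi xgi24 ygi34 zgi10) (kgi xgi7 ygi53 zgi61) (kgi xgi14 ygi55 zgi30) (kgi xgi14 ygi55 zgi28) (kgi xgi14 ygi53 zgi54) (kgi xgi14 ygi49 zgi40) (kgi xgi12 ygi48 zgi1) (kgi xgi22 ygi8 zgi40) (kgi xgi7 ygi54 zgi3) (kgi xgi14 ygi20 zgi25) (kgi xgi7 ygi54 zgi14) (kgi xgi14 ygi55 zgi60) (kgi xgi14 ygi55 zgi9) (kgi xgi14 ygi49 zgi37) (kgi xgi7 ygi54 zgi7) (kgi xgi14 ygi49 zgi32) (kgi xgi24 ygi41 zgi18) (kgi xgi19 ygi16 zgi41) (kgi xgi24 ygi41 zgi22) (kgi xgi24 ygi41 zgi25) (kgi xgi7 ygi54 zgi9) (kgi xgi14 ygi55 zgi51) (kgi xgi14 ygi55 zgi49) (kgi xgi24 ygi32 zgi22) (kgi xgi13 ygi53 zgi17) (kgi xgi19 ygi5 zgi52) (kgi xgi14 ygi49 zgi48) (kgi xgi13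 ygi53 zgi20) (kgi xgi21 ygi19 zgi51) (kgi xgi7 ygi54 zgi12) (kgi xgi24 ygi41 zgi39) (kgi xgi12 ygi16 zgi42) (kgi xgi7 ygi54 zgi13) (kgi xgi23 ygi23 zgi44) (kgi xgi23 ygi23 zgi42) (kgi xgi14 ygi49 zgi34) (kgi xgi24 ygi41 zgi43) (kgi xgi12 ygi3 zgi23) (kgi xgi23 ygi36 zgi9) (kgi xgi15 ygi45 zgi36) (kgi xgi7 ygi54 zgi16) (kgi xgi14 ygi56 zgi12) (kgi xgi14 ygi56 zgi11) (kgi xgi14 ygi55 zgi39) (kgi xgi21 ygi42 zgi15) (kgi xgi24 ygi41 zgi56) (kgi xgi24 ygi41 zgi58) (kgi xgi7 ygi54 zgi19) (kgi xgi14 ygi56 zgi5) (kgi xgi14 ygi56 zgi3) (kgi xgi18 ygi7 zgi8) (kgi xgi23 ygi42 zgi21) (kgi xgi21 ygi21 zgi43) (kgi xgi24 ygi42 zgi1) (kgi xgi14 ygi56 zgi15) (kgi xgi14 ygi56 zgi13) (kgi xgi24 ygi42 zgi12) (kgi xgi24 ygi41 zgi15) (kgi xgi21 ygi19 zgi45)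 (kgi xgi24 ygi42 zgi18) (kgi xgi24 ygi41 zgi51)) (@D3.rec (fun _ => Pt) (kgi xgi7 ygi54 zgi28) (kgi xgi14 ygi49 zgi35) (kgi xgi14 ygi50 zgi58) (kgi xgi14 ygi51 zgi0) (kgi xgi14 ygi55 zgi16) (kgi xgi14 ygi55 zgi15) (kgi xgi13 ygi55 zgi27) (kgi xgi23 ygi26 zgi60) (kgi xgi14 ygi55 zgi1) (kgi xgi14 ygi55 zgi0) (kgi xgi23 ygi30 zgi17) (kgi xgi23 ygi29 zgi32) (kgi xgi7 ygi54 zgi35) (kgi xgi14 ygi56 zgi18) (kgi xgi22 ygi21 zgi13) (kgi xgi7 ygi54 zgi37) (kgi xgi14 ygi2 zgi0) (kgi xgi21 ygi14 zgi30) (kgi xgi24 ygi42 zgi38) (kgi xgi14 ygi51 zgi50) (kgi xgi14 ygi5 zgi41) (kgi xgi23 ygi40 zgi18) (kgi xgi14 ygi10 zgi8) (kgi xgi13 ygi54 zgi9) (kgi xgi7 ygi54 zgi43) (kgi xgi24 ygi42 zgi46) (kgi xgi21 ygi21 zgi41) (kgi xgi24 ygi42 zgi50) (kgi xgi7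 ygi54 zgi45) (kgi xgi14 ygi54 zgi4) (kgi xgi14 ygi54 zgi2) (kgi xgi14 ygi28 zgi39) (kgi xgi22 ygi8 zgi38) (kgi xgi14 ygi46 zgi16) (kgi xgi24 ygi42 zgi57) (kgi xgi24 ygi42 zgi59) (kgi xgi7 ygi54 zgi49) (kgi xgi7 ygi55 zgi9) (kgi xgi14 ygi28 zgi42) (kgi xgi7 ygi55 zgi0) (kgi xgi7 ygi55 zgi11) (kgi xgi14 ygi54 zgi44) (kgi xgi14 ygi46 zgi24) (kgi xgi7 ygi54 zgi53) (kgi xgi14 ygi46 zgi20) (kgi xgi23 ygi22 zgi57) (kgi xgi24 ygi43 zgi13) (kgi xgi24 ygi43 zgi16) (kgi xgi21 ygi22 zgi17) (kgi xgi7 ygi54 zgi55) (kgi xgi14 ygi54 zgi23) (kgi xgi14 ygi54 zgi21) (kgi xgi14 ygi46 zgi14) (kgi xgi14 ygi3 zgi13) (kgi xgi24 ygi43 zgi24) (kgi xgi12 ygi26 zgi1) (kgi xgi18 ygi25 zgi27) (kgi xgi7 ygi54 zgi58) (kgi xgi23 ygi36 zgi28) (kgi xgi23 ygi36 zgi27)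 (kgi xgi14 ygi54 zgi11) (kgi xgi24 ygi43 zgi28)) (@D3.rec (fun _ => Pt) (kgi xgi21 ygi8 zgi30) (kgi xgi24 ygi43 zgi33) (kgi xgi12 ygi40 zgi29) (kgi xgi7 ygi54 zgi61) (kgi xgi14 ygi54 zgi50) (kgi xgi14 ygi54 zgi48) (kgi xgi14 ygi46 zgi21) (kgi xgi23 ygi22 zgi53) (kgi xgi17 ygi39 zgi38) (kgi xgi24 ygi40 zgi49) (kgi xgi12 ygi27 zgi9) (kgi xgi7 ygi55 zgi2) (kgi xgi14 ygi54 zgi41) (kgi xgi7 ygi55 zgi3) (kgi xgi14 ygi54 zgi56) (kgi xgi12 ygi41 zgi53) (kgi xgi24 ygi43 zgi45) (kgi xgi24 ygi43 zgi49) (kgi xgi14 ygi55 zgi12) (kgi xgi14 ygi56 zgi28) (kgi xgi21 ygi55 zgi17) (kgi xgi22 ygi27 zgi10) (kgi xgi8 ygi5 zgi11) (kgi xgi23 ygi30 zgi36) (kgi xgi24 ygi43 zgi55) (kgi xgi14 ygi2 zgi31) (kgi xgi16 ygi10 zgi47) (kgi xgi13 ygi58 zgi29) (kgi xgi7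 ygi55 zgi8) (kgi xgi14 ygi56 zgi19) (kgi xgi15 ygi13 zgi13) (kgi xgi23 ygi31 zgi36) (kgi xgi7 ygi55 zgi10) (kgi xgi14 ygi47 zgi6) (kgi xgi22 ygi28 zgi17) (kgi xgi14 ygi45 zgi6) (kgi xgi24 ygi44 zgi5) (kgi xgi13 ygi24 zgi27) (kgi xgi17 ygi11 zgi21) (kgi xgi7 ygi55 zgi14) (kgi xgi12 ygi58 zgi59) (kgi xgi12 ygi58 zgi57) (kgi xgi8 ygi40 zgi33) (kgi xgi7 ygi55 zgi16) (kgi xgi17 ygi44 zgi32) (kgi xgi15 ygi49 zgi56) (kgi xgi11 ygi9 zgi43) (kgi xgi13 ygi4 zgi29) (kgi xgi13 ygi4 zgi27) (kgi xgi24 ygi44 zgi10) (kgi xgi24 ygi44 zgi14) (kgi xgi7 ygi55 zgi21) (kgi xgi22 ygi40 zgi12) (kgi xgi18 ygi46 zgi51) (kgi xgi13 ygi4 zgi7) (kgi xgi13 ygi26 zgi36) (kgi xgi24 ygi44 zgi25) (kgi xgi7 ygi55 zgi25) (kgi xgi7 ygi55 zgi26) (kgi xgi8 ygi40 zgi23)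 (kgi xgi7 ygi55 zgi27) (kgi xgi17 ygi38 zgi60)) (@D3.rec (fun _ => Pt) (kgi xgi17 ygi38 zgi58) (kgi xgi17 ygi36 zgi39) (kgi xgi24 ygi44 zgi36) (kgi xgi11 ygi19 zgi3) (kgi xgi8 ygi13 zgi0) (kgi xgi8 ygi36 zgi30) (kgi xgi15 ygi56 zgi47) (kgi xgi15 ygi56 zgi45) (kgi xgi7 ygi55 zgi33) (kgi xgi8 ygi40 zgi59) (kgi xgi8 ygi40 zgi57) (kgi xgi22 ygi8 zgi58) (kgi xgi8 ygi36 zgi37) (kgi xgi8 ygi16 zgi23) (kgi xgi7 ygi56 zgi9) (kgi xgi8 ygi42 zgi44) (kgi xgi14 ygi58 zgi7) (kgi xgi7 ygi55 zgi38) (kgi xgi8 ygi40 zgi40) (kgi xgi8 ygi40 zgi38) (kgi xgi24 ygi44 zgi51) (kgi xgi24 ygi44 zgi55) (kgi xgi8 ygi41 zgi1) (kgi xgi8 ygi25 zgi20) (kgi xgi9 ygi36 zgi51) (kgi xgi15 ygi57 zgi4) (kgi xgi7 ygi55 zgi52) (kgi xgi16 ygi13 zgi3) (kgi xgi8 ygi41 zgi52)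 (kgi xgi8 ygi42 zgi29) (kgi xgi7 ygi55 zgi55) (kgi xgi21 ygi0 zgi25) (kgi xgi8 ygi19 zgi3) (kgi xgi8 ygi41 zgi61) (kgi xgi7 ygi55 zgi51) (kgi xgi8 ygi41 zgi55) (kgi xgi8 ygi41 zgi53) (kgi xgi22 ygi11 zgi10) (kgi xgi21 ygi58 zgi28) (kgi xgi8 ygi41 zgi18) (kgi xgi7 ygi55 zgi53) (kgi xgi8 ygi41 zgi47) (kgi xgi8 ygi41 zgi45) (kgi xgi16 ygi19 zgi9) (kgi xgi24 ygi45 zgi10) (kgi xgi10 ygi7 zgi60) (kgi xgi15 ygi11 zgi46) (kgi xgi8 ygi41 zgi40) (kgi xgi7 ygi55 zgi56) (kgi xgi7 ygi55 zgi58) (kgi xgi24 ygi45 zgi16) (kgi xgi24 ygi45 zgi19) (kgi xgi24 ygi44 zgi61) (kgi xgi7 ygi55 zgi60) (kgi xgi20 ygi16 zgi17) (kgi xgi24 ygi45 zgi18) (kgi xgi21 ygi56 zgi15) (kgi xgi8 ygi45 zgi3) (kgi xgi7 ygi55 zgi59) (kgi xgi8 ygi45 zgi5) (kgi xgi24 ygi45 zgi32)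 (kgi xgi24 ygi45 zgi33)) (@D3.rec (fun _ => Pt) (kgi xgi7 ygi55 zgi61) (kgi xgi8 ygi42 zgi23) (kgi xgi8 ygi42 zgi21) (kgi xgi24 ygi45 zgi41) (kgi xgi8 ygi32 zgi40) (kgi xgi14 ygi57 zgi16) (kgi xgi24 ygi44 zgi27) (kgi xgi15 ygi34 zgi53) (kgi xgi8 ygi41 zgi42) (kgi xgi17 ygi37 zgi15) (kgi xgi11 ygi9 zgi35) (kgi xgi7 ygi56 zgi6) (kgi xgi24 ygi45 zgi46) (kgi xgi8 ygi24 zgi38) (kgi xgi7 ygi56 zgi8) (kgi xgi8 ygi43 zgi17) (kgi xgi8 ygi43 zgi15) (kgi xgi12 ygi58 zgi53) (kgi xgi9 ygi35 zgi44) (kgi xgi8 ygi40 zgi47) (kgi xgi9 ygi36 zgi28) (kgi xgi8 ygi43 zgi27) (kgi xgi9 ygi43 zgi13) (kgi xgi18 ygi36 zgi5) (kgi xgi7 ygi56 zgi16) (kgi xgi8 ygi43 zgi4) (kgi xgi23 ygi10 zgi7) (kgi xgi8 ygi43 zgi1) (kgi xgi8 ygi47 zgi48) (kgi xgi10 ygi38 zgi46)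 (kgi xgi7 ygi56 zgi19) (kgi xgi8 ygi43 zgi48) (kgi xgi8 ygi43 zgi45) (kgi xgi19 ygi21 zgi16) (kgi xgi22 ygi51 zgi46) (kgi xgi7 ygi56 zgi21) (kgi xgi8 ygi44 zgi3) (kgi xgi8 ygi44 zgi0) (kgi xgi7 ygi56 zgi22) (kgi xgi8 ygi44 zgi14) (kgi xgi8 ygi44 zgi12) (kgi xgi12 ygi9 zgi16) (kgi xgi24 ygi46 zgi6) (kgi xgi18 ygi59 zgi48) (kgi xgi20 ygi7 zgi41) (kgi xgi24 ygi46 zgi11) (kgi xgi13 ygi41 zgi42) (kgi xgi20 ygi9 zgi14) (kgi xgi16 ygi35 zgi14) (kgi xgi7 ygi56 zgi27) (kgi xgi20 ygi8 zgi24) (kgi xgi13 ygi18 zgi53) (kgi xgi24 ygi46 zgi16) (kgi xgi18 ygi47 zgi40) (kgi xgi24 ygi46 zgi5) (kgi xgi7 ygi56 zgi28) (kgi xgi19 ygi0 zgi31) (kgi xgi24 ygi46 zgi8) (kgi xgi22 ygi29 zgi25) (kgi xgi8 ygi44 zgi5) (kgi xgi20 ygi10 zgi35) (kgi xgi14 ygi35 zgi2))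 (@D3.rec (fun _ => Pt) (kgi xgi8 ygi44 zgi58) (kgi xgi24 ygi46 zgi34) (kgi xgi8 ygi44 zgi55) (kgi xgi16 ygi52 zgi43) (kgi xgi24 ygi46 zgi37) (kgi xgi7 ygi56 zgi33) (kgi xgi8 ygi45 zgi2) (kgi xgi8 ygi45 zgi0) (kgi xgi7 ygi56 zgi34) (kgi xgi8 ygi42 zgi11) (kgi xgi8 ygi42 zgi12) (kgi xgi18 ygi28 zgi2) (kgi xgi7 ygi56 zgi35) (kgi xgi8 ygi45 zgi10) (kgi xgi24 ygi46 zgi48) (kgi xgi8 ygi45 zgi7) (kgi xgi21 ygi12 zgi23) (kgi xgi8 ygi1 zgi9) (kgi xgi8 ygi48 zgi35) (kgi xgi16 ygi35 zgi7) (kgi xgi20 ygi8 zgi4) (kgi xgi15 ygi7 zgi39) (kgi xgi8 ygi45 zgi20) (kgi xgi7 ygi56 zgi39) (kgi xgi8 ygi45 zgi19) (kgi xgi13 ygi50 zgi45) (kgi xgi12 ygi5 zgi57) (kgi xgi9 ygi25 zgi27) (kgi xgi15 ygi6 zgi30) (kgi xgi13 ygi23 zgi16) (kgi xgi15 ygi6 zgi38) (kgi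 xgi24 ygi46 zgi59) (kgi xgi14 ygi44 zgi22) (kgi xgi12 ygi5 zgi56) (kgi xgi12 ygi6 zgi3) (kgi xgi20 ygi0 zgi60) (kgi xgi7 ygi56 zgi51) (kgi xgi24 ygi47 zgi1) (kgi xgi7 ygi56 zgi52) (kgi xgi16 ygi51 zgi20) (kgi xgi24 ygi47 zgi6) (kgi xgi15 ygi8 zgi47) (kgi xgi16 ygi23 zgi21) (kgi xgi9 ygi14 zgi55) (kgi xgi15 ygi6 zgi8) (kgi xgi7 ygi56 zgi61) (kgi xgi20 ygi30 zgi47) (kgi xgi20 ygi30 zgi45) (kgi xgi16 ygi33 zgi30) (kgi xgi20 ygi20 zgi61) (kgi xgi15 ygi0 zgi34) (kgi xgi9 ygi14 zgi54) (kgi xgi7 ygi57 zgi2) (kgi xgi16 ygi11 zgi0) (kgi xgi8 ygi47 zgi56) (kgi xgi24 ygi47 zgi17) (kgi xgi21 ygi14 zgi14) (kgi xgi8 ygi47 zgi50) (kgi xgi12 ygi9 zgi41) (kgi xgi8 ygi46 zgi4) (kgi xgi22 ygi42 zgi49) (kgi xgi11 ygi13 zgi52))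
def fi_g_15 : D2 → D3 → Pt := @D2.rec (fun _ => D3 → Pt) (@D3.rec (fun _ => Pt) (kgi xgi24 ygi47 zgi19) (kgi xgi7 ygi57 zgi14) (kgi xgi7 ygi57 zgi24) (kgi xgi7 ygi57 zgi22) (kgi xgi23 ygi14 zgi54) (kgi xgi21 ygi29 zgi1) (kgi xgi16 ygi31 zgi58) (kgi xgi11 ygi13 zgi53) (kgi xgi11 ygi49 zgi34) (kgi xgi7 ygi57 zgi21) (kgi xgi11 ygi14 zgi13) (kgi xgi16 ygi57 zgi18) (kgi xgi20 ygi0 zgi0) (kgi xgi11 ygi28 zgi2) (kgi xgi24 ygi47 zgi32) (kgi xgi11 ygi13 zgi46) (kgi xgi24 ygi47 zgi34) (kgi xgi24 ygi36 zgi22) (kgi xgi24 ygi47 zgi31) (kgi xgi16 ygi51 zgi39) (kgi xgi7 ygi57 zgi25) (kgi xgi8 ygi48 zgi3) (kgi xgi13 ygi41 zgi59) (kgi xgi23 ygi20 zgi53) (kgi xgi7 ygi57 zgi26) (kgi xgi7 ygi57 zgi29) (kgi xgi24 ygi47 zgi48) (kgi xgi24 ygi29 zgi7) (kgi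 xgi8 ygi51 zgi12) (kgi xgi8 ygi50 zgi39) (kgi xgi20 ygi30 zgi40) (kgi xgi24 ygi47 zgi52) (kgi xgi20 ygi32 zgi15) (kgi xgi24 ygi47 zgi47) (kgi xgi14 ygi59 zgi48) (kgi xgi24 ygi47 zgi57) (kgi xgi10 ygi9 zgi49) (kgi xgi18 ygi34 zgi7) (kgi xgi24 ygi48 zgi1) (kgi xgi10 ygi9 zgi57) (kgi xgi9 ygi58 zgi36) (kgi xgi7 ygi57 zgi33) (kgi xgi18 ygi30 zgi31) (kgi xgi18 ygi30 zgi29) (kgi xgi22 ygi55 zgi44) (kgi xgi7 ygi57 zgi34) (kgi xgi9 ygi56 zgi24) (kgi xgi24 ygi48 zgi19) (kgi xgi7 ygi57 zgi35) (kgi xgi18 ygi11 zgi16) (kgi xgi18 ygi11 zgi14) (kgi xgi24 ygi48 zgi27) (kgi xgi10 ygi9 zgi47) (kgi xgi24 ygi48 zgi31) (kgi xgi19 ygi37 zgi4) (kgi xgi10 ygi19 zgi18) (kgi xgi10 ygi47 zgi30) (kgi xgi19 ygi12 zgi36) (kgi xgi15 ygi41 zgi48) (kgi xgi15 ygi27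 zgi61) (kgi xgi19 ygi45 zgi7) (kgi xgi15 ygi1 zgi28)) (@D3.rec (fun _ => Pt) (kgi xgi10 ygi54 zgi20) (kgi xgi7 ygi58 zgi17) (kgi xgi7 ygi58 zgi15) (kgi xgi15 ygi1 zgi31) (kgi xgi24 ygi48 zgi49) (kgi xgi7 ygi57 zgi44) (kgi xgi7 ygi58 zgi22) (kgi xgi7 ygi57 zgi45) (kgi xgi19 ygi42 zgi39) (kgi xgi24 ygi48 zgi54) (kgi xgi24 ygi48 zgi61) (kgi xgi24 ygi48 zgi52) (kgi xgi24 ygi49 zgi4) (kgi xgi15 ygi22 zgi3) (kgi xgi19 ygi20 zgi30) (kgi xgi10 ygi31 zgi9) (kgi xgi9 ygi41 zgi10) (kgi xgi24 ygi49 zgi10) (kgi xgi8 ygi20 zgi60) (kgi xgi16 ygi7 zgi54) (kgi xgi15 ygi42 zgi51) (kgi xgi24 ygi49 zgi16) (kgi xgi8 ygi8 zgi35) (kgi xgi24 ygi49 zgi20) (kgi xgi7 ygi57 zgi55) (kgi xgi8 ygi37 zgi35) (kgi xgi8 ygi37 zgi32) (kgi xgi24 ygi49 zgi26) (kgi xgi15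 ygi1 zgi3) (kgi xgi24 ygi49 zgi24) (kgi xgi24 ygi49 zgi33) (kgi xgi15 ygi0 zgi61) (kgi xgi11 ygi5 zgi19) (kgi xgi7 ygi57 zgi58) (kgi xgi19 ygi42 zgi17) (kgi xgi24 ygi48 zgi37) (kgi xgi15 ygi1 zgi0) (kgi xgi24 ygi49 zgi44) (kgi xgi7 ygi57 zgi59) (kgi xgi24 ygi49 zgi49) (kgi xgi7 ygi57 zgi60) (kgi xgi11 ygi5 zgi59) (kgi xgi24 ygi49 zgi55) (kgi xgi15 ygi41 zgi59) (kgi xgi8 ygi20 zgi26) (kgi xgi7 ygi58 zgi0) (kgi xgi18 ygi2 zgi25) (kgi xgi8 ygi11 zgi36) (kgi xgi15 ygi24 zgi49) (kgi xgi24 ygi50 zgi2) (kgi xgi8 ygi18 zgi57) (kgi xgi8 ygi18 zgi9) (kgi xgi7 ygi58 zgi5) (kgi xgi24 ygi48 zgi33) (kgi xgi24 ygi48 zgi32) (kgi xgi24 ygi50 zgi12) (kgi xgi24 ygi50 zgi15) (kgi xgi24 ygi50 zgi19) (kgi xgi7 ygi58 zgi7) (kgi xgi11 ygi10 zgi27) (kgi xgi24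 ygi50 zgi25) (kgi xgi24 ygi48 zgi40)) (@D3.rec (fun _ => Pt) (kgi xgi11 ygi10 zgi30) (kgi xgi9 ygi4 zgi4) (kgi xgi24 ygi50 zgi31) (kgi xgi15 ygi29 zgi33) (kgi xgi7 ygi58 zgi12) (kgi xgi10 ygi40 zgi52) (kgi xgi10 ygi40 zgi54) (kgi xgi18 ygi33 zgi29) (kgi xgi24 ygi50 zgi40) (kgi xgi7 ygi58 zgi20) (kgi xgi24 ygi50 zgi44) (kgi xgi7 ygi58 zgi14) (kgi xgi19 ygi20 zgi19) (kgi xgi15 ygi1 zgi36) (kgi xgi7 ygi58 zgi28) (kgi xgi18 ygi33 zgi27) (kgi xgi16 ygi39 zgi16) (kgi xgi10 ygi11 zgi55) (kgi xgi9 ygi43 zgi53) (kgi xgi7 ygi58 zgi19) (kgi xgi24 ygi48 zgi43) (kgi xgi24 ygi48 zgi42) (kgi xgi24 ygi50 zgi53) (kgi xgi24 ygi50 zgi57) (kgi xgi24 ygi50 zgi61) (kgi xgi7 ygi58 zgi21) (kgi xgi24 ygi48 zgi51) (kgi xgi24 ygi51 zgi8) (kgi xgi24 ygi48 zgi48)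 (kgi xgi7 ygi58 zgi31) (kgi xgi17 ygi41 zgi53) (kgi xgi15 ygi20 zgi3) (kgi xgi18 ygi17 zgi50) (kgi xgi7 ygi58 zgi26) (kgi xgi15 ygi19 zgi59) (kgi xgi15 ygi19 zgi57) (kgi xgi24 ygi51 zgi20) (kgi xgi15 ygi18 zgi35) (kgi xgi24 ygi51 zgi25) (kgi xgi20 ygi5 zgi20) (kgi xgi9 ygi43 zgi35) (kgi xgi7 ygi58 zgi29) (kgi xgi16 ygi39 zgi13) (kgi xgi16 ygi39 zgi11) (kgi xgi24 ygi51 zgi36) (kgi xgi24 ygi51 zgi40) (kgi xgi24 ygi51 zgi43) (kgi xgi24 ygi51 zgi47) (kgi xgi15 ygi20 zgi1) (kgi xgi24 ygi51 zgi49) (kgi xgi10 ygi48 zgi48) (kgi xgi16 ygi46 zgi21) (kgi xgi10 ygi40 zgi49) (kgi xgi19 ygi58 zgi1) (kgi xgi19 ygi47 zgi17) (kgi xgi19 ygi32 zgi58) (kgi xgi7 ygi58 zgi35) (kgi xgi19 ygi42 zgi40) (kgi xgi16 ygi8 zgi51) (kgi xgi24 ygi51 zgi17) (kgi xgi24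 ygi3 zgi46) (kgi xgi24 ygi51 zgi31)) (@D3.rec (fun _ => Pt) (kgi xgi24 ygi52 zgi1) (kgi xgi23 ygi13 zgi28) (kgi xgi16 ygi12 zgi61) (kgi xgi7 ygi58 zgi39) (kgi xgi24 ygi49 zgi5) (kgi xgi24 ygi49 zgi3) (kgi xgi24 ygi27 zgi17) (kgi xgi7 ygi58 zgi41) (kgi xgi15 ygi27 zgi41) (kgi xgi24 ygi52 zgi17) (kgi xgi9 ygi41 zgi6) (kgi xgi15 ygi41 zgi49) (kgi xgi11 ygi6 zgi7) (kgi xgi15 ygi28 zgi29) (kgi xgi24 ygi52 zgi22) (kgi xgi7 ygi58 zgi45) (kgi xgi15 ygi53 zgi38) (kgi xgi19 ygi5 zgi39) (kgi xgi10 ygi54 zgi12) (kgi xgi10 ygi40 zgi39) (kgi xgi9 ygi51 zgi45) (kgi xgi9 ygi53 zgi41) (kgi xgi9 ygi42 zgi5) (kgi xgi18 ygi2 zgi44) (kgi xgi11 ygi2 zgi44) (kgi xgi9 ygi57 zgi42) (kgi xgi9 ygi43 zgi1) (kgi xgi19 ygi43 zgi22) (kgi xgi19 ygi43 zgi46) (kgi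 xgi24 ygi52 zgi37) (kgi xgi24 ygi52 zgi42) (kgi xgi19 ygi50 zgi39) (kgi xgi19 ygi50 zgi33) (kgi xgi11 ygi12 zgi48) (kgi xgi16 ygi46 zgi23) (kgi xgi10 ygi52 zgi9) (kgi xgi19 ygi46 zgi48) (kgi xgi15 ygi41 zgi47) (kgi xgi24 ygi52 zgi41) (kgi xgi19 ygi50 zgi13) (kgi xgi19 ygi49 zgi58) (kgi xgi16 ygi43 zgi52) (kgi xgi19 ygi49 zgi23) (kgi xgi9 ygi45 zgi61) (kgi xgi15 ygi46 zgi14) (kgi xgi22 ygi41 zgi18) (kgi xgi9 ygi43 zgi47) (kgi xgi10 ygi1 zgi29) (kgi xgi9 ygi45 zgi33) (kgi xgi7 ygi59 zgi35) (kgi xgi19 ygi39 zgi30) (kgi xgi11 ygi6 zgi44) (kgi xgi11 ygi6 zgi46) (kgi xgi9 ygi44 zgi42) (kgi xgi16 ygi8 zgi33) (kgi xgi10 ygi28 zgi30) (kgi xgi20 ygi18 zgi49) (kgi xgi20 ygi9 zgi8) (kgi xgi11 ygi12 zgi15) (kgi xgi9 ygi1 zgi33) (kgi xgi9 ygi2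 zgi39) (kgi xgi20 ygi12 zgi4)) (@D3.rec (fun _ => Pt) (kgi xgi8 ygi43 zgi42) (kgi xgi12 ygi7 zgi20) (kgi xgi13 ygi41 zgi13) (kgi xgi24 ygi53 zgi2) (kgi xgi11 ygi12 zgi43) (kgi xgi11 ygi12 zgi44) (kgi xgi9 ygi1 zgi22) (kgi xgi11 ygi14 zgi18) (kgi xgi10 ygi43 zgi19) (kgi xgi24 ygi53 zgi7) (kgi xgi7 ygi59 zgi32) (kgi xgi7 ygi59 zgi44) (kgi xgi7 ygi59 zgi42) (kgi xgi20 ygi15 zgi12) (kgi xgi7 ygi59 zgi34) (kgi xgi11 ygi7 zgi31) (kgi xgi9 ygi1 zgi58) (kgi xgi17 ygi8 zgi45) (kgi xgi11 ygi7 zgi54) (kgi xgi20 ygi59 zgi46) (kgi xgi16 ygi53 zgi45) (kgi xgi7 ygi59 zgi40) (kgi xgi23 ygi35 zgi43) (kgi xgi16 ygi55 zgi39) (kgi xgi23 ygi30 zgi43) (kgi xgi13 ygi11 zgi0) (kgi xgi15 ygi5 zgi25) (kgi xgi20 ygi20 zgi6) (kgi xgi15 ygi5 zgi31) (kgi xgi24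 ygi52 zgi56) (kgi xgi24 ygi52 zgi57) (kgi xgi7 ygi59 zgi45) (kgi xgi24 ygi52 zgi58) (kgi xgi7 ygi59 zgi47) (kgi xgi11 ygi7 zgi48) (kgi xgi9 ygi1 zgi27) (kgi xgi11 ygi4 zgi55) (kgi xgi11 ygi13 zgi17) (kgi xgi21 ygi15 zgi10) (kgi xgi24 ygi47 zgi27) (kgi xgi15 ygi26 zgi20) (kgi xgi20 ygi18 zgi41) (kgi xgi12 ygi9 zgi40) (kgi xgi12 ygi9 zgi39) (kgi xgi12 ygi7 zgi26) (kgi xgi19 ygi33 zgi51) (kgi xgi8 ygi48 zgi27) (kgi xgi12 ygi8 zgi22) (kgi xgi20 ygi38 zgi42) (kgi xgi11 ygi37 zgi5) (kgi xgi8 ygi47 zgi34) (kgi xgi11 ygi33 zgi7) (kgi xgi8 ygi0 zgi12) (kgi xgi20 ygi37 zgi8) (kgi xgi21 ygi11 zgi6) (kgi xgi11 ygi47 zgi18) (kgi xgi8 ygi0 zgi16) (kgi xgi24 ygi53 zgi29) (kgi xgi10 ygi44 zgi19) (kgi xgi8 ygi0 zgi19) (kgi xgi23 ygi5 zgi42) (kgi xgi12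 ygi49 zgi10)) (@D3.rec (fun _ => Pt) (kgi xgi11 ygi12 zgi0) (kgi xgi8 ygi0 zgi40) (kgi xgi9 ygi5 zgi53) (kgi xgi11 ygi33 zgi23) (kgi xgi19 ygi27 zgi20) (kgi xgi9 ygi50 zgi59) (kgi xgi10 ygi18 zgi33) (kgi xgi8 ygi0 zgi49) (kgi xgi10 ygi48 zgi27) (kgi xgi8 ygi0 zgi29) (kgi xgi24 ygi53 zgi33) (kgi xgi20 ygi51 zgi19) (kgi xgi11 ygi48 zgi55) (kgi xgi13 ygi1 zgi8) (kgi xgi11 ygi49 zgi22) (kgi xgi9 ygi13 zgi30) (kgi xgi10 ygi18 zgi17) (kgi xgi16 ygi43 zgi49) (kgi xgi20 ygi0 zgi3) (kgi xgi10 ygi54 zgi54) (kgi xgi8 ygi0 zgi42) (kgi xgi17 ygi6 zgi17) (kgi xgi13 ygi11 zgi2) (kgi xgi8 ygi0 zgi45) (kgi xgi11 ygi48 zgi4) (kgi xgi15 ygi4 zgi28) (kgi xgi19 ygi47 zgi27) (kgi xgi8 ygi0 zgi46) (kgi xgi8 ygi0 zgi50) (kgi xgi20 ygi8 zgi35) (kgi xgi20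 ygi52 zgi32) (kgi xgi15 ygi4 zgi26) (kgi xgi12 ygi9 zgi26) (kgi xgi9 ygi5 zgi55) (kgi xgi12 ygi57 zgi54) (kgi xgi8 ygi0 zgi53) (kgi xgi24 ygi53 zgi42) (kgi xgi11 ygi44 zgi55) (kgi xgi8 ygi0 zgi54) (kgi xgi9 ygi50 zgi61) (kgi xgi18 ygi25 zgi18) (kgi xgi9 ygi50 zgi55) (kgi xgi10 ygi58 zgi29) (kgi xgi11 ygi6 zgi9) (kgi xgi9 ygi47 zgi7) (kgi xgi11 ygi23 zgi28) (kgi xgi24 ygi53 zgi47) (kgi xgi24 ygi53 zgi51) (kgi xgi11 ygi23 zgi24) (kgi xgi8 ygi1 zgi6) (kgi xgi21 ygi29 zgi59) (kgi xgi21 ygi12 zgi33) (kgi xgi24 ygi53 zgi59) (kgi xgi8 ygi1 zgi8) (kgi xgi15 ygi6 zgi57) (kgi xgi15 ygi6 zgi58) (kgi xgi15 ygi11 zgi34) (kgi xgi24 ygi47 zgi55) (kgi xgi8 ygi45 zgi12) (kgi xgi16 ygi19 zgi32) (kgi xgi9 ygi46 zgi60) (kgi xgi23 ygi6 zgi11)) (@D3.rec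 (fun _ => Pt) (kgi xgi18 ygi17 zgi33) (kgi xgi16 ygi26 zgi50) (kgi xgi16 ygi19 zgi44) (kgi xgi15 ygi7 zgi46) (kgi xgi8 ygi1 zgi13) (kgi xgi15 ygi7 zgi45) (kgi xgi8 ygi1 zgi14) (kgi xgi12 ygi22 zgi40) (kgi xgi11 ygi43 zgi47) (kgi xgi20 ygi35 zgi0) (kgi xgi16 ygi26 zgi39) (kgi xgi16 ygi26 zgi40) (kgi xgi8 ygi1 zgi17) (kgi xgi21 ygi29 zgi54) (kgi xgi24 ygi54 zgi19) (kgi xgi21 ygi29 zgi51) (kgi xgi11 ygi29 zgi36) (kgi xgi24 ygi54 zgi23) (kgi xgi21 ygi29 zgi26) (kgi xgi20 ygi35 zgi47) (kgi xgi24 ygi54 zgi22) (kgi xgi19 ygi49 zgi60) (kgi xgi16 ygi23 zgi59) (kgi xgi20 ygi11 zgi19) (kgi xgi20 ygi8 zgi44) (kgi xgi8 ygi1 zgi22) (kgi xgi8 ygi1 zgi25) (kgi xgi16 ygi33 zgi2) (kgi xgi24 ygi54 zgi36) (kgi xgi15 ygi8 zgi29) (kgi xgi15 ygi8 zgi28)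 (kgi xgi24 ygi20 zgi17) (kgi xgi21 ygi7 zgi51) (kgi xgi11 ygi7 zgi11) (kgi xgi16 ygi33 zgi0) (kgi xgi8 ygi10 zgi29) (kgi xgi8 ygi1 zgi26) (kgi xgi8 ygi46 zgi50) (kgi xgi15 ygi8 zgi46) (kgi xgi17 ygi38 zgi56) (kgi xgi8 ygi1 zgi28) (kgi xgi24 ygi54 zgi44) (kgi xgi9 ygi38 zgi49) (kgi xgi9 ygi43 zgi55) (kgi xgi18 ygi52 zgi20) (kgi xgi15 ygi38 zgi59) (kgi xgi8 ygi1 zgi34) (kgi xgi8 ygi1 zgi36) (kgi xgi24 ygi54 zgi51) (kgi xgi17 ygi39 zgi4) (kgi xgi15 ygi23 zgi29) (kgi xgi16 ygi16 zgi22) (kgi xgi8 ygi1 zgi38) (kgi xgi16 ygi16 zgi4) (kgi xgi18 ygi4 zgi49) (kgi xgi24 ygi54 zgi54) (kgi xgi21 ygi19 zgi53) (kgi xgi15 ygi5 zgi53) (kgi xgi8 ygi1 zgi37) (kgi xgi15 ygi5 zgi55) (kgi xgi24 ygi55 zgi11) (kgi xgi24 ygi55 zgi15)) (@D3.rec (fun _ => Pt)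 (kgi xgi8 ygi1 zgi39) (kgi xgi9 ygi38 zgi32) (kgi xgi9 ygi38 zgi30) (kgi xgi17 ygi41 zgi36) (kgi xgi15 ygi23 zgi31) (kgi xgi8 ygi1 zgi53) (kgi xgi15 ygi13 zgi42) (kgi xgi22 ygi51 zgi29) (kgi xgi24 ygi55 zgi26) (kgi xgi24 ygi45 zgi60) (kgi xgi9 ygi44 zgi44) (kgi xgi22 ygi51 zgi60) (kgi xgi24 ygi55 zgi25) (kgi xgi22 ygi49 zgi42) (kgi xgi8 ygi1 zgi52) (kgi xgi8 ygi1 zgi57) (kgi xgi24 ygi55 zgi38) (kgi xgi24 ygi55 zgi43) (kgi xgi11 ygi13 zgi4) (kgi xgi24 ygi55 zgi47) (kgi xgi24 ygi45 zgi53) (kgi xgi24 ygi55 zgi46) (kgi xgi24 ygi55 zgi56) (kgi xgi8 ygi1 zgi55) (kgi xgi24 ygi55 zgi21) (kgi xgi22 ygi15 zgi11) (kgi xgi24 ygi56 zgi7) (kgi xgi18 ygi5 zgi54) (kgi xgi16 ygi21 zgi56) (kgi xgi8 ygi1 zgi56) (kgi xgi24 ygi55 zgi44) (kgi xgi24 ygi55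 zgi42) (kgi xgi16 ygi15 zgi43) (kgi xgi17 ygi57 zgi16) (kgi xgi8 ygi1 zgi59) (kgi xgi9 ygi38 zgi21) (kgi xgi9 ygi38 zgi22) (kgi xgi24 ygi56 zgi27) (kgi xgi16 ygi33 zgi26) (kgi xgi14 ygi59 zgi17) (kgi xgi18 ygi38 zgi31) (kgi xgi8 ygi47 zgi21) (kgi xgi24 ygi56 zgi32) (kgi xgi24 ygi56 zgi33) (kgi xgi24 ygi45 zgi52) (kgi xgi15 ygi6 zgi4) (kgi xgi8 ygi2 zgi2) (kgi xgi15 ygi6 zgi3) (kgi xgi24 ygi56 zgi43) (kgi xgi8 ygi4 zgi49) (kgi xgi15 ygi13 zgi17) (kgi xgi24 ygi56 zgi44) (kgi xgi10 ygi57 zgi14) (kgi xgi8 ygi2 zgi18) (kgi xgi11 ygi1 zgi39) (kgi xgi23 ygi14 zgi59) (kgi xgi16 ygi12 zgi21) (kgi xgi8 ygi5 zgi6) (kgi xgi24 ygi56 zgi50) (kgi xgi8 ygi50 zgi19) (kgi xgi13 ygi31 zgi10) (kgi xgi8 ygi48 zgi5)) (@D3.rec (fun _ => Pt) (kgi xgi19 ygi40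 zgi1) (kgi xgi22 ygi47 zgi23) (kgi xgi17 ygi57 zgi28) (kgi xgi23 ygi3 zgi31) (kgi xgi8 ygi2 zgi23) (kgi xgi8 ygi2 zgi29) (kgi xgi8 ygi2 zgi27) (kgi xgi8 ygi2 zgi24) (kgi xgi8 ygi45 zgi54) (kgi xgi24 ygi56 zgi58) (kgi xgi12 ygi22 zgi28) (kgi xgi11 ygi33 zgi20) (kgi xgi24 ygi57 zgi0) (kgi xgi24 ygi57 zgi3) (kgi xgi11 ygi33 zgi27) (kgi xgi17 ygi59 zgi56) (kgi xgi24 ygi56 zgi61) (kgi xgi10 ygi59 zgi16) (kgi xgi17 ygi59 zgi50) (kgi xgi20 ygi25 zgi19) (kgi xgi24 ygi57 zgi7) (kgi xgi8 ygi2 zgi31) (kgi xgi8 ygi47 zgi28) (kgi xgi24 ygi57 zgi13) (kgi xgi8 ygi2 zgi32) (kgi xgi12 ygi6 zgi1) (kgi xgi16 ygi33 zgi47) (kgi xgi12 ygi5 zgi60) (kgi xgi8 ygi2 zgi34) (kgi xgi8 ygi46 zgi15) (kgi xgi20 ygi41 zgi9) (kgi xgi13 ygi40 zgi54) (kgi xgi24 ygi57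 zgi27) (kgi xgi8 ygi2 zgi35) (kgi xgi8 ygi2 zgi38) (kgi xgi24 ygi47 zgi46) (kgi xgi24 ygi57 zgi32) (kgi xgi12 ygi22 zgi41) (kgi xgi8 ygi46 zgi32) (kgi xgi11 ygi37 zgi16) (kgi xgi11 ygi37 zgi17) (kgi xgi20 ygi52 zgi10) (kgi xgi20 ygi36 zgi34) (kgi xgi23 ygi3 zgi54) (kgi xgi24 ygi47 zgi44) (kgi xgi8 ygi43 zgi44) (kgi xgi8 ygi2 zgi39) (kgi xgi14 ygi59 zgi40) (kgi xgi15 ygi6 zgi36) (kgi xgi8 ygi46 zgi56) (kgi xgi24 ygi57 zgi46) (kgi xgi9 ygi10 zgi33) (kgi xgi24 ygi57 zgi49) (kgi xgi24 ygi13 zgi22) (kgi xgi8 ygi2 zgi43) (kgi xgi10 ygi31 zgi42) (kgi xgi8 ygi2 zgi44) (kgi xgi15 ygi21 zgi28) (kgi xgi9 ygi44 zgi18) (kgi xgi21 ygi7 zgi56) (kgi xgi18 ygi36 zgi52) (kgi xgi24 ygi57 zgi54)) (@D3.rec (fun _ => Pt) (kgi xgi11 ygi57 zgi2) (kgi xgi8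 ygi6 zgi39) (kgi xgi8 ygi6 zgi37) (kgi xgi8 ygi6 zgi54) (kgi xgi8 ygi2 zgi49) (kgi xgi24 ygi57 zgi55) (kgi xgi24 ygi57 zgi61) (kgi xgi24 ygi58 zgi6) (kgi xgi24 ygi57 zgi56) (kgi xgi8 ygi2 zgi53) (kgi xgi8 ygi54 zgi10) (kgi xgi8 ygi8 zgi42) (kgi xgi8 ygi8 zgi40) (kgi xgi24 ygi58 zgi11) (kgi xgi24 ygi58 zgi14) (kgi xgi8 ygi8 zgi20) (kgi xgi15 ygi14 zgi42) (kgi xgi16 ygi22 zgi54) (kgi xgi8 ygi9 zgi30) (kgi xgi8 ygi8 zgi32) (kgi xgi8 ygi5 zgi42) (kgi xgi8 ygi2 zgi60) (kgi xgi8 ygi8 zgi18) (kgi xgi8 ygi8 zgi16) (kgi xgi24 ygi58 zgi23) (kgi xgi8 ygi2 zgi61) (kgi xgi8 ygi8 zgi47) (kgi xgi17 ygi57 zgi21) (kgi xgi8 ygi8 zgi44) (kgi xgi15 ygi37 zgi47) (kgi xgi24 ygi58 zgi31) (kgi xgi17 ygi51 zgi44) (kgi xgi15 ygi53 zgi56) (kgi xgi15 ygi53 zgi44)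 (kgi xgi24 ygi58 zgi33) (kgi xgi24 ygi58 zgi43) (kgi xgi8 ygi7 zgi45) (kgi xgi9 ygi37 zgi41) (kgi xgi20 ygi57 zgi2) (kgi xgi15 ygi16 zgi20) (kgi xgi8 ygi8 zgi50) (kgi xgi23 ygi43 zgi16) (kgi xgi8 ygi3 zgi9) (kgi xgi15 ygi12 zgi44) (kgi xgi15 ygi12 zgi42) (kgi xgi23 ygi51 zgi1) (kgi xgi16 ygi33 zgi8) (kgi xgi9 ygi56 zgi19) (kgi xgi8 ygi19 zgi2) (kgi xgi8 ygi4 zgi0) (kgi xgi10 ygi7 zgi50) (kgi xgi15 ygi14 zgi28) (kgi xgi24 ygi58 zgi56) (kgi xgi24 ygi58 zgi57) (kgi xgi8 ygi3 zgi17) (kgi xgi15 ygi12 zgi41) (kgi xgi8 ygi3 zgi18) (kgi xgi15 ygi12 zgi34) (kgi xgi15 ygi12 zgi32) (kgi xgi24 ygi55 zgi27) (kgi xgi9 ygi35 zgi60) (kgi xgi15 ygi11 zgi21)) (@D3.rec (fun _ => Pt) (kgi xgi8 ygi4 zgi5) (kgi xgi15 ygi16 zgi33) (kgi xgi13 ygi48 zgi29)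 (kgi xgi24 ygi59 zgi11) (kgi xgi8 ygi3 zgi24) (kgi xgi15 ygi12 zgi55) (kgi xgi15 ygi12 zgi53) (kgi xgi21 ygi6 zgi25) (kgi xgi24 ygi59 zgi20) (kgi xgi8 ygi3 zgi29) (kgi xgi15 ygi12 zgi58) (kgi xgi15 ygi12 zgi56) (kgi xgi8 ygi3 zgi32) (kgi xgi15 ygi13 zgi0) (kgi xgi24 ygi59 zgi30) (kgi xgi15 ygi12 zgi60) (kgi xgi9 ygi47 zgi5) (kgi xgi16 ygi29 zgi37) (kgi xgi19 ygi1 zgi24) (kgi xgi8 ygi3 zgi37) (kgi xgi15 ygi13 zgi7) (kgi xgi15 ygi13 zgi5) (kgi xgi9 ygi9 zgi42) (kgi xgi15 ygi13 zgi3) (kgi xgi15 ygi13 zgi2) (kgi xgi13 ygi47 zgi47) (kgi xgi24 ygi59 zgi43) (kgi xgi16 ygi25 zgi19) (kgi xgi8 ygi3 zgi42) (kgi xgi15 ygi13 zgi11) (kgi xgi24 ygi59 zgi50) (kgi xgi15 ygi13 zgi8) (kgi xgi24 ygi37 zgi16) (kgi xgi24 ygi59 zgi53) (kgi xgi8 ygi3 zgi45)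 (kgi xgi16 ygi12 zgi14) (kgi xgi16 ygi12 zgi12) (kgi xgi17 ygi12 zgi51) (kgi xgi11 ygi11 zgi36) (kgi xgi8 ygi3 zgi47) (kgi xgi15 ygi13 zgi47) (kgi xgi15 ygi13 zgi45) (kgi xgi23 ygi15 zgi0) (kgi xgi24 ygi59 zgi59) (kgi xgi8 ygi3 zgi49) (kgi xgi15 ygi13 zgi49) (kgi xgi8 ygi3 zgi50) (kgi xgi15 ygi12 zgi15) (kgi xgi15 ygi12 zgi16) (kgi xgi25 ygi0 zgi1) (kgi xgi8 ygi3 zgi51) (kgi xgi15 ygi13 zgi59) (kgi xgi17 ygi46 zgi36) (kgi xgi15 ygi13 zgi56) (kgi xgi11 ygi37 zgi38) (kgi xgi8 ygi26 zgi3) (kgi xgi23 ygi18 zgi46) (kgi xgi15 ygi12 zgi0) (kgi xgi16 ygi20 zgi32) (kgi xgi15 ygi14 zgi5) (kgi xgi8 ygi3 zgi55) (kgi xgi15 ygi14 zgi4)) (@D3.rec (fun _ => Pt) (kgi xgi18 ygi10 zgi1) (kgi xgi10 ygi28 zgi25) (kgi xgi8 ygi3 zgi58) (kgi xgi17 ygi45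 zgi46) (kgi xgi10 ygi10 zgi13) (kgi xgi25 ygi0 zgi15) (kgi xgi8 ygi3 zgi60) (kgi xgi8 ygi41 zgi59) (kgi xgi24 ygi59 zgi18) (kgi xgi18 ygi6 zgi36) (kgi xgi10 ygi7 zgi47) (kgi xgi15 ygi9 zgi47) (kgi xgi9 ygi54 zgi48) (kgi xgi8 ygi4 zgi3) (kgi xgi10 ygi7 zgi43) (kgi xgi10 ygi7 zgi41) (kgi xgi25 ygi0 zgi21) (kgi xgi18 ygi5 zgi1) (kgi xgi24 ygi58 zgi59) (kgi xgi9 ygi35 zgi37) (kgi xgi10 ygi8 zgi2) (kgi xgi8 ygi4 zgi45) (kgi xgi8 ygi4 zgi7) (kgi xgi8 ygi4 zgi9) (kgi xgi17 ygi45 zgi47) (kgi xgi10 ygi11 zgi50) (kgi xgi8 ygi4 zgi10) (kgi xgi10 ygi8 zgi41) (kgi xgi10 ygi8 zgi39) (kgi xgi18 ygi27 zgi23) (kgi xgi9 ygi44 zgi54) (kgi xgi24 ygi59 zgi28) (kgi xgi8 ygi4 zgi12) (kgi xgi10 ygi8 zgi31) (kgi xgi25 ygi0 zgi42) (kgi xgi10 ygi8 zgi28) (kgi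 xgi10 ygi8 zgi56) (kgi xgi8 ygi28 zgi5) (kgi xgi8 ygi4 zgi15) (kgi xgi15 ygi50 zgi56) (kgi xgi15 ygi50 zgi55) (kgi xgi8 ygi4 zgi16) (kgi xgi10 ygi8 zgi22) (kgi xgi10 ygi8 zgi20) (kgi xgi18 ygi27 zgi1) (kgi xgi21 ygi4 zgi33) (kgi xgi16 ygi17 zgi48) (kgi xgi8 ygi4 zgi18) (kgi xgi10 ygi8 zgi46) (kgi xgi9 ygi35 zgi40) (kgi xgi15 ygi3 zgi21) (kgi xgi8 ygi4 zgi21) (kgi xgi10 ygi8 zgi59) (kgi xgi10 ygi8 zgi57) (kgi xgi23 ygi2 zgi8) (kgi xgi22 ygi18 zgi19) (kgi xgi15 ygi14 zgi54) (kgi xgi25 ygi0 zgi51) (kgi xgi10 ygi8 zgi32) (kgi xgi8 ygi4 zgi24) (kgi xgi10 ygi8 zgi52) (kgi xgi10 ygi8 zgi50)) (@D3.rec (fun _ => Pt) (kgi xgi15 ygi10 zgi55) (kgi xgi23 ygi37 zgi55) (kgi xgi16 ygi16 zgi61) (kgi xgi10 ygi8 zgi47) (kgi xgi8 ygi4 zgi27) (kgi xgi8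 ygi4 zgi29) (kgi xgi25 ygi0 zgi61) (kgi xgi18 ygi5 zgi59) (kgi xgi18 ygi26 zgi31) (kgi xgi24 ygi56 zgi22) (kgi xgi8 ygi4 zgi31) (kgi xgi16 ygi23 zgi20) (kgi xgi25 ygi1 zgi1) (kgi xgi21 ygi25 zgi1) (kgi xgi25 ygi1 zgi13) (kgi xgi15 ygi10 zgi46) (kgi xgi8 ygi4 zgi30) (kgi xgi15 ygi10 zgi48) (kgi xgi23 ygi42 zgi51) (kgi xgi23 ygi44 zgi40) (kgi xgi24 ygi56 zgi29) (kgi xgi21 ygi25 zgi27) (kgi xgi23 ygi43 zgi27) (kgi xgi25 ygi0 zgi34) (kgi xgi25 ygi1 zgi23) (kgi xgi8 ygi4 zgi34) (kgi xgi10 ygi9 zgi25) (kgi xgi10 ygi9 zgi23) (kgi xgi16 ygi18 zgi32) (kgi xgi8 ygi4 zgi36) (kgi xgi10 ygi16 zgi3) (kgi xgi10 ygi16 zgi0) (kgi xgi8 ygi4 zgi37) (kgi xgi15 ygi9 zgi58) (kgi xgi15 ygi9 zgi56) (kgi xgi25 ygi1 zgi33) (kgi xgi18 ygi6 zgi41) (kgi xgi10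 ygi7 zgi51) (kgi xgi15 ygi14 zgi61) (kgi xgi8 ygi4 zgi43) (kgi xgi14 ygi45 zgi34) (kgi xgi15 ygi9 zgi54) (kgi xgi8 ygi4 zgi44) (kgi xgi15 ygi9 zgi44) (kgi xgi15 ygi9 zgi42) (kgi xgi25 ygi1 zgi45) (kgi xgi16 ygi14 zgi31) (kgi xgi10 ygi8 zgi6) (kgi xgi10 ygi31 zgi26) (kgi xgi18 ygi21 zgi37) (kgi xgi13 ygi47 zgi30) (kgi xgi25 ygi1 zgi50) (kgi xgi23 ygi8 zgi27) (kgi xgi8 ygi4 zgi50) (kgi xgi15 ygi10 zgi6) (kgi xgi15 ygi10 zgi4) (kgi xgi8 ygi4 zgi51) (kgi xgi15 ygi10 zgi11) (kgi xgi15 ygi10 zgi9) (kgi xgi8 ygi25 zgi53) (kgi xgi8 ygi4 zgi53) (kgi xgi15 ygi10 zgi15)) (@D3.rec (fun _ => Pt) (kgi xgi15 ygi10 zgi12) (kgi xgi8 ygi5 zgi15) (kgi xgi13 ygi18 zgi8) (kgi xgi8 ygi4 zgi56) (kgi xgi18 ygi38 zgi50) (kgi xgi8 ygi4 zgi57) (kgi xgi15 ygi10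 zgi21) (kgi xgi15 ygi10 zgi19) (kgi xgi8 ygi4 zgi58) (kgi xgi15 ygi10 zgi31) (kgi xgi25 ygi2 zgi8) (kgi xgi15 ygi10 zgi28) (kgi xgi8 ygi47 zgi45) (kgi xgi8 ygi38 zgi10) (kgi xgi11 ygi33 zgi42) (kgi xgi8 ygi5 zgi0) (kgi xgi13 ygi47 zgi29) (kgi xgi15 ygi7 zgi4) (kgi xgi23 ygi13 zgi39) (kgi xgi25 ygi2 zgi2) (kgi xgi14 ygi56 zgi30) (kgi xgi8 ygi43 zgi5) (kgi xgi11 ygi35 zgi21) (kgi xgi23 ygi13 zgi40) (kgi xgi14 ygi0 zgi39) (kgi xgi25 ygi2 zgi27) (kgi xgi12 ygi8 zgi37) (kgi xgi8 ygi5 zgi13) (kgi xgi13 ygi59 zgi11) (kgi xgi18 ygi23 zgi50) (kgi xgi25 ygi2 zgi34) (kgi xgi19 ygi49 zgi61) (kgi xgi25 ygi2 zgi33) (kgi xgi13 ygi54 zgi53) (kgi xgi23 ygi37 zgi42) (kgi xgi25 ygi2 zgi40) (kgi xgi14 ygi0 zgi9) (kgi xgi24 ygi42 zgi61) (kgi xgi8 ygi5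 zgi12) (kgi xgi25 ygi2 zgi32) (kgi xgi14 ygi0 zgi13) (kgi xgi23 ygi52 zgi30) (kgi xgi15 ygi4 zgi0) (kgi xgi25 ygi2 zgi50) (kgi xgi13 ygi49 zgi16) (kgi xgi8 ygi5 zgi16) (kgi xgi15 ygi10 zgi41) (kgi xgi15 ygi10 zgi39) (kgi xgi16 ygi29 zgi39) (kgi xgi8 ygi5 zgi18) (kgi xgi15 ygi10 zgi45) (kgi xgi15 ygi10 zgi44) (kgi xgi8 ygi5 zgi19) (kgi xgi10 ygi9 zgi13) (kgi xgi10 ygi9 zgi14) (kgi xgi23 ygi44 zgi39) (kgi xgi8 ygi5 zgi20) (kgi xgi15 ygi10 zgi53) (kgi xgi25 ygi2 zgi59) (kgi xgi15 ygi10 zgi50) (kgi xgi16 ygi26 zgi9) (kgi xgi8 ygi10 zgi41)) (@D3.rec (fun _ => Pt) (kgi xgi14 ygi0 zgi18) (kgi xgi20 ygi36 zgi11) (kgi xgi15 ygi50 zgi32) (kgi xgi17 ygi54 zgi35) (kgi xgi15 ygi10 zgi60) (kgi xgi8 ygi5 zgi24) (kgi xgi15 ygi10 zgi59) (kgi xgi25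 ygi3 zgi13) (kgi xgi8 ygi52 zgi1) (kgi xgi15 ygi9 zgi18) (kgi xgi8 ygi8 zgi28) (kgi xgi10 ygi54 zgi13) (kgi xgi8 ygi5 zgi32) (kgi xgi8 ygi5 zgi34) (kgi xgi25 ygi3 zgi16) (kgi xgi23 ygi43 zgi30) (kgi xgi25 ygi0 zgi40) (kgi xgi8 ygi5 zgi36) (kgi xgi25 ygi0 zgi32) (kgi xgi23 ygi42 zgi35) (kgi xgi25 ygi3 zgi25) (kgi xgi15 ygi50 zgi28) (kgi xgi24 ygi55 zgi41) (kgi xgi8 ygi5 zgi37) (kgi xgi15 ygi14 zgi59) (kgi xgi15 ygi14 zgi57) (kgi xgi25 ygi3 zgi33) (kgi xgi15 ygi9 zgi51) (kgi xgi18 ygi45 zgi26) (kgi xgi15 ygi14 zgi43) (kgi xgi24 ygi45 zgi34) (kgi xgi9 ygi43 zgi34) (kgi xgi10 ygi29 zgi17) (kgi xgi8 ygi5 zgi44) (kgi xgi19 ygi2 zgi14) (kgi xgi10 ygi0 zgi1) (kgi xgi24 ygi45 zgi44) (kgi xgi17 ygi44 zgi48) (kgi xgi9 ygi51 zgi55) (kgi xgi25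 ygi3 zgi47) (kgi xgi8 ygi45 zgi6) (kgi xgi8 ygi8 zgi29) (kgi xgi15 ygi9 zgi17) (kgi xgi15 ygi19 zgi45) (kgi xgi8 ygi5 zgi54) (kgi xgi8 ygi5 zgi56) (kgi xgi25 ygi3 zgi51) (kgi xgi18 ygi28 zgi16) (kgi xgi18 ygi28 zgi24) (kgi xgi18 ygi28 zgi0) (kgi xgi25 ygi3 zgi50) (kgi xgi18 ygi30 zgi10) (kgi xgi25 ygi3 zgi57) (kgi xgi15 ygi23 zgi53) (kgi xgi8 ygi5 zgi57) (kgi xgi15 ygi11 zgi56) (kgi xgi8 ygi41 zgi38) (kgi xgi8 ygi5 zgi59) (kgi xgi15 ygi14 zgi25) (kgi xgi15 ygi14 zgi23) (kgi xgi15 ygi12 zgi38) (kgi xgi16 ygi15 zgi23)) (@D3.rec (fun _ => Pt) (kgi xgi15 ygi14 zgi11) (kgi xgi23 ygi24 zgi18) (kgi xgi8 ygi17 zgi46) (kgi xgi8 ygi6 zgi2) (kgi xgi8 ygi42 zgi36) (kgi xgi8 ygi6 zgi4) (kgi xgi10 ygi50 zgi9) (kgi xgi10 ygi50 zgi7) (kgi xgi14 ygi28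 zgi1) (kgi xgi8 ygi56 zgi2) (kgi xgi23 ygi56 zgi4) (kgi xgi8 ygi6 zgi8) (kgi xgi10 ygi55 zgi57) (kgi xgi10 ygi55 zgi55) (kgi xgi19 ygi35 zgi16) (kgi xgi24 ygi34 zgi59) (kgi xgi23 ygi1 zgi32) (kgi xgi8 ygi6 zgi10) (kgi xgi8 ygi57 zgi11) (kgi xgi15 ygi19 zgi26) (kgi xgi8 ygi57 zgi8) (kgi xgi8 ygi6 zgi16) (kgi xgi18 ygi51 zgi46) (kgi xgi18 ygi51 zgi1) (kgi xgi8 ygi59 zgi49) (kgi xgi8 ygi6 zgi14) (kgi xgi18 ygi51 zgi4) (kgi xgi18 ygi51 zgi2) (kgi xgi25 ygi4 zgi42) (kgi xgi25 ygi4 zgi46) (kgi xgi25 ygi4 zgi50) (kgi xgi19 ygi38 zgi31) (kgi xgi8 ygi57 zgi12) (kgi xgi8 ygi6 zgi17) (kgi xgi10 ygi40 zgi26) (kgi xgi25 ygi4 zgi58) (kgi xgi25 ygi4 zgi61) (kgi xgi25 ygi5 zgi3) (kgi xgi8 ygi6 zgi20) (kgi xgi8 ygi6 zgi22) (kgi xgi10 ygi56 zgi57)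 (kgi xgi19 ygi49 zgi13) (kgi xgi16 ygi42 zgi48) (kgi xgi25 ygi4 zgi31) (kgi xgi8 ygi6 zgi24) (kgi xgi25 ygi4 zgi33) (kgi xgi16 ygi47 zgi13) (kgi xgi19 ygi36 zgi17) (kgi xgi25 ygi5 zgi23) (kgi xgi8 ygi6 zgi23) (kgi xgi22 ygi54 zgi20) (kgi xgi22 ygi54 zgi18) (kgi xgi25 ygi5 zgi30) (kgi xgi25 ygi4 zgi38) (kgi xgi18 ygi52 zgi19) (kgi xgi25 ygi4 zgi57) (kgi xgi21 ygi5 zgi11) (kgi xgi25 ygi5 zgi44) (kgi xgi22 ygi10 zgi56) (kgi xgi8 ygi6 zgi28) (kgi xgi18 ygi51 zgi25) (kgi xgi25 ygi5 zgi49)) (@D3.rec (fun _ => Pt) (kgi xgi8 ygi6 zgi30) (kgi xgi8 ygi16 zgi21) (kgi xgi25 ygi5 zgi56) (kgi xgi8 ygi57 zgi0) (kgi xgi10 ygi47 zgi29) (kgi xgi10 ygi44 zgi44) (kgi xgi8 ygi6 zgi32) (kgi xgi8 ygi8 zgi2) (kgi xgi25 ygi6 zgi0) (kgi xgi9 ygi33 zgi29) (kgi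 xgi8 ygi6 zgi34) (kgi xgi20 ygi56 zgi15) (kgi xgi15 ygi41 zgi12) (kgi xgi19 ygi38 zgi44) (kgi xgi25 ygi6 zgi11) (kgi xgi22 ygi9 zgi11) (kgi xgi8 ygi6 zgi36) (kgi xgi20 ygi2 zgi23) (kgi xgi24 ygi58 zgi29) (kgi xgi11 ygi57 zgi0) (kgi xgi15 ygi9 zgi37) (kgi xgi24 ygi51 zgi22) (kgi xgi8 ygi14 zgi2) (kgi xgi8 ygi6 zgi41) (kgi xgi10 ygi46 zgi35) (kgi xgi8 ygi6 zgi42) (kgi xgi22 ygi9 zgi15) (kgi xgi24 ygi57 zgi53) (kgi xgi17 ygi14 zgi54) (kgi xgi17 ygi43 zgi10) (kgi xgi25 ygi6 zgi28) (kgi xgi25 ygi6 zgi31) (kgi xgi9 ygi33 zgi24) (kgi xgi8 ygi6 zgi46) (kgi xgi15 ygi10 zgi1) (kgi xgi18 ygi31 zgi60) (kgi xgi8 ygi6 zgi49) (kgi xgi8 ygi20 zgi4) (kgi xgi25 ygi6 zgi37) (kgi xgi8 ygi6 zgi51) (kgi xgi16 ygi16 zgi1) (kgi xgi25 ygi6 zgi43) (kgi xgi15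 ygi26 zgi1) (kgi xgi8 ygi15 zgi42) (kgi xgi8 ygi7 zgi0) (kgi xgi16 ygi5 zgi45) (kgi xgi15 ygi52 zgi51) (kgi xgi8 ygi9 zgi34) (kgi xgi8 ygi6 zgi55) (kgi xgi15 ygi47 zgi15) (kgi xgi17 ygi35 zgi61) (kgi xgi15 ygi47 zgi13) (kgi xgi25 ygi6 zgi54) (kgi xgi8 ygi16 zgi54) (kgi xgi15 ygi18 zgi7) (kgi xgi17 ygi35 zgi58) (kgi xgi8 ygi7 zgi3) (kgi xgi15 ygi14 zgi9) (kgi xgi15 ygi41 zgi61) (kgi xgi11 ygi4 zgi29) (kgi xgi8 ygi6 zgi61) (kgi xgi8 ygi7 zgi2)) (@D3.rec (fun _ => Pt) (kgi xgi25 ygi7 zgi2) (kgi xgi20 ygi3 zgi5) (kgi xgi15 ygi52 zgi48) (kgi xgi8 ygi7 zgi1) (kgi xgi15 ygi52 zgi44) (kgi xgi25 ygi7 zgi11) (kgi xgi15 ygi57 zgi44) (kgi xgi15 ygi18 zgi15) (kgi xgi8 ygi7 zgi4) (kgi xgi8 ygi7 zgi6) (kgi xgi25 ygi7 zgi15) (kgi xgi17 ygi32 zgi38)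 (kgi xgi25 ygi6 zgi61) (kgi xgi23 ygi8 zgi49) (kgi xgi8 ygi7 zgi8) (kgi xgi20 ygi57 zgi4) (kgi xgi24 ygi7 zgi57) (kgi xgi25 ygi7 zgi21) (kgi xgi25 ygi7 zgi27) (kgi xgi21 ygi46 zgi0) (kgi xgi8 ygi7 zgi7) (kgi xgi21 ygi42 zgi51) (kgi xgi15 ygi58 zgi21) (kgi xgi25 ygi7 zgi34) (kgi xgi25 ygi7 zgi8) (kgi xgi25 ygi7 zgi37) (kgi xgi25 ygi7 zgi41) (kgi xgi25 ygi7 zgi44) (kgi xgi8 ygi7 zgi11) (kgi xgi15 ygi17 zgi31) (kgi xgi15 ygi21 zgi56) (kgi xgi15 ygi17 zgi28) (kgi xgi25 ygi7 zgi54) (kgi xgi25 ygi7 zgi57) (kgi xgi10 ygi47 zgi58) (kgi xgi8 ygi7 zgi16) (kgi xgi8 ygi53 zgi59) (kgi xgi8 ygi53 zgi57) (kgi xgi25 ygi8 zgi4) (kgi xgi25 ygi8 zgi8) (kgi xgi8 ygi7 zgi17) (kgi xgi25 ygi8 zgi14) (kgi xgi8 ygi7 zgi18) (kgi xgi20 ygi57 zgi18) (kgi xgi8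 ygi53 zgi44) (kgi xgi11 ygi8 zgi58) (kgi xgi25 ygi8 zgi22) (kgi xgi8 ygi7 zgi22) (kgi xgi11 ygi9 zgi7) (kgi xgi15 ygi17 zgi1) (kgi xgi11 ygi4 zgi61) (kgi xgi8 ygi7 zgi48) (kgi xgi8 ygi42 zgi32) (kgi xgi8 ygi7 zgi26) (kgi xgi11 ygi9 zgi4) (kgi xgi11 ygi9 zgi2) (kgi xgi25 ygi8 zgi38) (kgi xgi11 ygi9 zgi1) (kgi xgi25 ygi8 zgi43) (kgi xgi25 ygi8 zgi46) (kgi xgi20 ygi2 zgi37) (kgi xgi15 ygi54 zgi18)) (@D3.rec (fun _ => Pt) (kgi xgi25 ygi8 zgi45) (kgi xgi25 ygi8 zgi56) (kgi xgi24 ygi35 zgi39) (kgi xgi20 ygi43 zgi51) (kgi xgi15 ygi15 zgi16) (kgi xgi24 ygi35 zgi38) (kgi xgi15 ygi54 zgi39) (kgi xgi13 ygi32 zgi29) (kgi xgi23 ygi56 zgi32) (kgi xgi15 ygi16 zgi54) (kgi xgi15 ygi22 zgi9) (kgi xgi8 ygi7 zgi34) (kgi xgi17 ygi43 zgi17) (kgi xgi17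 ygi43 zgi15) (kgi xgi15 ygi21 zgi24) (kgi xgi19 ygi57 zgi3) (kgi xgi10 ygi42 zgi50) (kgi xgi25 ygi9 zgi5) (kgi xgi15 ygi17 zgi7) (kgi xgi20 ygi2 zgi9) (kgi xgi16 ygi16 zgi31) (kgi xgi8 ygi7 zgi42) (kgi xgi13 ygi32 zgi2) (kgi xgi14 ygi48 zgi29) (kgi xgi14 ygi48 zgi3) (kgi xgi8 ygi7 zgi44) (kgi xgi16 ygi9 zgi60) (kgi xgi16 ygi9 zgi58) (kgi xgi8 ygi7 zgi46) (kgi xgi8 ygi7 zgi52) (kgi xgi15 ygi41 zgi52) (kgi xgi10 ygi47 zgi54) (kgi xgi8 ygi7 zgi49) (kgi xgi15 ygi41 zgi55) (kgi xgi15 ygi41 zgi53) (kgi xgi25 ygi9 zgi19) (kgi xgi25 ygi9 zgi23) (kgi xgi24 ygi50 zgi58) (kgi xgi25 ygi9 zgi28) (kgi xgi18 ygi53 zgi48) (kgi xgi8 ygi7 zgi54) (kgi xgi15 ygi36 zgi29) (kgi xgi15 ygi35 zgi13) (kgi xgi25 ygi9 zgi32) (kgi xgi20 ygi2 zgi21) (kgi xgi20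 ygi2 zgi10) (kgi xgi25 ygi9 zgi31) (kgi xgi25 ygi9 zgi39) (kgi xgi8 ygi7 zgi59) (kgi xgi19 ygi24 zgi39) (kgi xgi8 ygi7 zgi60) (kgi xgi16 ygi8 zgi24) (kgi xgi25 ygi9 zgi48) (kgi xgi24 ygi11 zgi22) (kgi xgi25 ygi9 zgi52) (kgi xgi19 ygi57 zgi14) (kgi xgi9 ygi35 zgi20) (kgi xgi24 ygi20 zgi23) (kgi xgi25 ygi9 zgi51) (kgi xgi8 ygi10 zgi19) (kgi xgi11 ygi9 zgi42) (kgi xgi10 ygi37 zgi34)) (@D3.rec (fun _ => Pt) (kgi xgi25 ygi10 zgi0) (kgi xgi17 ygi36 zgi49) (kgi xgi15 ygi23 zgi19) (kgi xgi8 ygi8 zgi8) (kgi xgi16 ygi14 zgi53) (kgi xgi14 ygi56 zgi42) (kgi xgi8 ygi42 zgi9) (kgi xgi25 ygi10 zgi4) (kgi xgi8 ygi55 zgi40) (kgi xgi8 ygi8 zgi11) (kgi xgi8 ygi54 zgi37) (kgi xgi8 ygi54 zgi35) (kgi xgi16 ygi38 zgi44) (kgi xgi25 ygi10 zgi14) (kgi xgi17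 ygi50 zgi45) (kgi xgi8 ygi8 zgi13) (kgi xgi8 ygi54 zgi28) (kgi xgi19 ygi43 zgi1) (kgi xgi8 ygi54 zgi25) (kgi xgi8 ygi54 zgi56) (kgi xgi8 ygi55 zgi39) (kgi xgi25 ygi5 zgi8) (kgi xgi25 ygi10 zgi23) (kgi xgi15 ygi54 zgi56) (kgi xgi15 ygi54 zgi44) (kgi xgi15 ygi21 zgi17) (kgi xgi16 ygi45 zgi49) (kgi xgi16 ygi45 zgi47) (kgi xgi19 ygi31 zgi31) (kgi xgi15 ygi15 zgi19) (kgi xgi15 ygi54 zgi48) (kgi xgi16 ygi45 zgi44) (kgi xgi25 ygi10 zgi34) (kgi xgi25 ygi10 zgi32) (kgi xgi15 ygi54 zgi55) (kgi xgi8 ygi8 zgi22) (kgi xgi24 ygi58 zgi16) (kgi xgi25 ygi10 zgi44) (kgi xgi19 ygi57 zgi13) (kgi xgi9 ygi40 zgi44) (kgi xgi18 ygi58 zgi25) (kgi xgi15 ygi21 zgi35) (kgi xgi25 ygi10 zgi47) (kgi xgi8 ygi8 zgi26) (kgi xgi18 ygi28 zgi34) (kgi xgi16 ygi21 zgi58)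 (kgi xgi25 ygi10 zgi50) (kgi xgi25 ygi10 zgi46) (kgi xgi15 ygi21 zgi47) (kgi xgi17 ygi44 zgi24) (kgi xgi15 ygi54 zgi4) (kgi xgi9 ygi53 zgi9) (kgi xgi25 ygi10 zgi57) (kgi xgi9 ygi51 zgi58) (kgi xgi8 ygi8 zgi33) (kgi xgi8 ygi8 zgi39) (kgi xgi8 ygi8 zgi37) (kgi xgi8 ygi8 zgi34) (kgi xgi15 ygi2 zgi35) (kgi xgi15 ygi2 zgi33) (kgi xgi25 ygi11 zgi2) (kgi xgi25 ygi11 zgi6)) (@D3.rec (fun _ => Pt) (kgi xgi25 ygi11 zgi10) (kgi xgi8 ygi8 zgi36) (kgi xgi21 ygi2 zgi9) (kgi xgi15 ygi2 zgi29) (kgi xgi25 ygi11 zgi17) (kgi xgi25 ygi11 zgi19) (kgi xgi8 ygi28 zgi18) (kgi xgi25 ygi11 zgi18) (kgi xgi15 ygi38 zgi25) (kgi xgi19 ygi38 zgi1) (kgi xgi19 ygi37 zgi61) (kgi xgi15 ygi39 zgi41) (kgi xgi19 ygi35 zgi28) (kgi xgi8 ygi28 zgi26) (kgi xgi19 ygi37 zgi58)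 (kgi xgi19 ygi38 zgi11) (kgi xgi25 ygi11 zgi32) (kgi xgi25 ygi6 zgi18) (kgi xgi8 ygi8 zgi46) (kgi xgi24 ygi58 zgi30) (kgi xgi21 ygi2 zgi3) (kgi xgi8 ygi9 zgi15) (kgi xgi15 ygi52 zgi39) (kgi xgi17 ygi39 zgi31) (kgi xgi9 ygi43 zgi42) (kgi xgi14 ygi57 zgi27) (kgi xgi16 ygi8 zgi26) (kgi xgi9 ygi42 zgi39) (kgi xgi24 ygi58 zgi44) (kgi xgi21 ygi1 zgi61) (kgi xgi9 ygi43 zgi52) (kgi xgi25 ygi11 zgi48) (kgi xgi15 ygi21 zgi30) (kgi xgi24 ygi39 zgi50) (kgi xgi8 ygi8 zgi57) (kgi xgi20 ygi15 zgi23) (kgi xgi24 ygi16 zgi5) (kgi xgi18 ygi1 zgi55) (kgi xgi8 ygi8 zgi58) (kgi xgi15 ygi54 zgi0) (kgi xgi24 ygi21 zgi16) (kgi xgi15 ygi53 zgi59) (kgi xgi24 ygi58 zgi39) (kgi xgi18 ygi2 zgi55) (kgi xgi8 ygi9 zgi7) (kgi xgi25 ygi11 zgi57) (kgi xgi25 ygi11 zgi60)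 (kgi xgi8 ygi9 zgi1) (kgi xgi10 ygi57 zgi48) (kgi xgi8 ygi9 zgi2) (kgi xgi20 ygi43 zgi18) (kgi xgi25 ygi12 zgi4) (kgi xgi8 ygi9 zgi3) (kgi xgi15 ygi54 zgi13) (kgi xgi9 ygi47 zgi6) (kgi xgi15 ygi54 zgi10) (kgi xgi25 ygi7 zgi33) (kgi xgi10 ygi59 zgi5) (kgi xgi22 ygi54 zgi48) (kgi xgi25 ygi10 zgi51) (kgi xgi19 ygi17 zgi20) (kgi xgi15 ygi53 zgi47)) (@D3.rec (fun _ => Pt) (kgi xgi20 ygi3 zgi13) (kgi xgi25 ygi12 zgi16) (kgi xgi19 ygi20 zgi10) (kgi xgi8 ygi9 zgi8) (kgi xgi8 ygi9 zgi13) (kgi xgi19 ygi4 zgi59) (kgi xgi19 ygi37 zgi14) (kgi xgi25 ygi12 zgi26) (kgi xgi10 ygi56 zgi14) (kgi xgi21 ygi48 zgi22) (kgi xgi15 ygi18 zgi57) (kgi xgi8 ygi9 zgi10) (kgi xgi25 ygi11 zgi55) (kgi xgi15 ygi53 zgi54) (kgi xgi15 ygi54 zgi8) (kgi xgi8 ygi9 zgi12)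 (kgi xgi25 ygi10 zgi9) (kgi xgi15 ygi19 zgi22) (kgi xgi15 ygi22 zgi57) (kgi xgi25 ygi12 zgi40) (kgi xgi8 ygi56 zgi61) (kgi xgi25 ygi12 zgi21) (kgi xgi24 ygi16 zgi30) (kgi xgi21 ygi43 zgi16) (kgi xgi25 ygi12 zgi44) (kgi xgi24 ygi16 zgi18) (kgi xgi14 ygi27 zgi35) (kgi xgi25 ygi11 zgi40) (kgi xgi15 ygi8 zgi56) (kgi xgi25 ygi12 zgi50) (kgi xgi19 ygi49 zgi41) (kgi xgi25 ygi12 zgi53) (kgi xgi15 ygi20 zgi28) (kgi xgi15 ygi20 zgi42) (kgi xgi22 ygi5 zgi53) (kgi xgi25 ygi13 zgi1) (kgi xgi15 ygi8 zgi58) (kgi xgi19 ygi44 zgi6) (kgi xgi25 ygi13 zgi3) (kgi xgi8 ygi9 zgi20) (kgi xgi25 ygi12 zgi51) (kgi xgi25 ygi12 zgi49) (kgi xgi8 ygi9 zgi21) (kgi xgi25 ygi7 zgi14) (kgi xgi17 ygi29 zgi5) (kgi xgi15 ygi20 zgi46) (kgi xgi25 ygi13 zgi18) (kgi xgi19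 ygi57 zgi0) (kgi xgi25 ygi9 zgi9) (kgi xgi15 ygi20 zgi23) (kgi xgi10 ygi59 zgi7) (kgi xgi25 ygi13 zgi26) (kgi xgi25 ygi6 zgi58) (kgi xgi25 ygi7 zgi9) (kgi xgi25 ygi13 zgi25) (kgi xgi15 ygi54 zgi7) (kgi xgi8 ygi9 zgi27) (kgi xgi15 ygi17 zgi30) (kgi xgi15 ygi35 zgi9) (kgi xgi21 ygi16 zgi60) (kgi xgi15 ygi34 zgi26) (kgi xgi19 ygi56 zgi59)) (@D3.rec (fun _ => Pt) (kgi xgi8 ygi9 zgi29) (kgi xgi15 ygi18 zgi10) (kgi xgi9 ygi53 zgi3) (kgi xgi8 ygi14 zgi3) (kgi xgi19 ygi24 zgi11) (kgi xgi25 ygi9 zgi30) (kgi xgi25 ygi6 zgi52) (kgi xgi25 ygi13 zgi40) (kgi xgi20 ygi4 zgi1) (kgi xgi21 ygi2 zgi4) (kgi xgi8 ygi9 zgi35) (kgi xgi11 ygi8 zgi41) (kgi xgi11 ygi8 zgi39) (kgi xgi25 ygi13 zgi54) (kgi xgi8 ygi9 zgi36) (kgi xgi11 ygi8 zgi55) (kgi xgi17 ygi36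 zgi2) (kgi xgi11 ygi8 zgi52) (kgi xgi9 ygi36 zgi29) (kgi xgi18 ygi52 zgi30) (kgi xgi9 ygi33 zgi17) (kgi xgi8 ygi9 zgi41) (kgi xgi11 ygi8 zgi50) (kgi xgi8 ygi28 zgi20) (kgi xgi25 ygi14 zgi7) (kgi xgi11 ygi8 zgi46) (kgi xgi25 ygi13 zgi41) (kgi xgi11 ygi8 zgi43) (kgi xgi25 ygi14 zgi15) (kgi xgi25 ygi8 zgi27) (kgi xgi15 ygi21 zgi0) (kgi xgi25 ygi14 zgi21) (kgi xgi8 ygi9 zgi48) (kgi xgi11 ygi40 zgi3) (kgi xgi18 ygi1 zgi54) (kgi xgi8 ygi9 zgi49) (kgi xgi15 ygi53 zgi24) (kgi xgi14 ygi51 zgi16) (kgi xgi22 ygi54 zgi27) (kgi xgi19 ygi23 zgi21) (kgi xgi11 ygi42 zgi60) (kgi xgi17 ygi36 zgi4) (kgi xgi24 ygi58 zgi46) (kgi xgi10 ygi12 zgi13) (kgi xgi16 ygi11 zgi8) (kgi xgi25 ygi14 zgi34) (kgi xgi8 ygi10 zgi0) (kgi xgi16 ygi11 zgi54) (kgi xgi16 ygi11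 zgi52) (kgi xgi8 ygi10 zgi1) (kgi xgi11 ygi2 zgi47) (kgi xgi11 ygi2 zgi45) (kgi xgi14 ygi51 zgi10) (kgi xgi8 ygi10 zgi2) (kgi xgi20 ygi54 zgi54) (kgi xgi9 ygi0 zgi54) (kgi xgi8 ygi17 zgi58) (kgi xgi25 ygi14 zgi46) (kgi xgi23 ygi33 zgi24) (kgi xgi25 ygi8 zgi40) (kgi xgi19 ygi11 zgi61) (kgi xgi23 ygi1 zgi4)) (@D3.rec (fun _ => Pt) (kgi xgi25 ygi14 zgi59) (kgi xgi25 ygi15 zgi1) (kgi xgi8 ygi10 zgi8) (kgi xgi14 ygi51 zgi9) (kgi xgi25 ygi15 zgi11) (kgi xgi25 ygi15 zgi0) (kgi xgi11 ygi9 zgi25) (kgi xgi25 ygi15 zgi16) (kgi xgi11 ygi9 zgi22) (kgi xgi8 ygi10 zgi11) (kgi xgi9 ygi36 zgi46) (kgi xgi18 ygi33 zgi25) (kgi xgi25 ygi14 zgi4) (kgi xgi25 ygi15 zgi25) (kgi xgi19 ygi57 zgi11) (kgi xgi9 ygi35 zgi16) (kgi xgi20 ygi23 zgi8) (kgi xgi25 ygi13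 zgi48) (kgi xgi8 ygi24 zgi9) (kgi xgi8 ygi36 zgi58) (kgi xgi11 ygi8 zgi38) (kgi xgi10 ygi50 zgi29) (kgi xgi15 ygi19 zgi2) (kgi xgi24 ygi45 zgi0) (kgi xgi9 ygi35 zgi53) (kgi xgi11 ygi9 zgi38) (kgi xgi8 ygi10 zgi21) (kgi xgi16 ygi14 zgi57) (kgi xgi16 ygi14 zgi55) (kgi xgi15 ygi6 zgi55) (kgi xgi25 ygi15 zgi48) (kgi xgi15 ygi7 zgi50) (kgi xgi24 ygi55 zgi32) (kgi xgi25 ygi15 zgi54) (kgi xgi15 ygi46 zgi30) (kgi xgi19 ygi59 zgi45) (kgi xgi16 ygi20 zgi48) (kgi xgi15 ygi8 zgi45) (kgi xgi20 ygi31 zgi3) (kgi xgi24 ygi59 zgi23) (kgi xgi20 ygi31 zgi6) (kgi xgi25 ygi16 zgi4) (kgi xgi20 ygi33 zgi6) (kgi xgi21 ygi2 zgi40) (kgi xgi11 ygi34 zgi42) (kgi xgi23 ygi20 zgi43) (kgi xgi8 ygi10 zgi37) (kgi xgi11 ygi34 zgi40) (kgi xgi25 ygi16 zgi13) (kgi xgi20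 ygi30 zgi1) (kgi xgi8 ygi10 zgi38) (kgi xgi18 ygi23 zgi46) (kgi xgi25 ygi16 zgi17) (kgi xgi8 ygi10 zgi40) (kgi xgi15 ygi14 zgi53) (kgi xgi16 ygi28 zgi26) (kgi xgi25 ygi16 zgi25) (kgi xgi21 ygi13 zgi36) (kgi xgi17 ygi38 zgi13) (kgi xgi15 ygi50 zgi38) (kgi xgi15 ygi50 zgi37) (kgi xgi25 ygi16 zgi33)) (@D3.rec (fun _ => Pt) (kgi xgi8 ygi24 zgi11) (kgi xgi17 ygi5 zgi16) (kgi xgi25 ygi16 zgi36) (kgi xgi8 ygi24 zgi19) (kgi xgi9 ygi37 zgi9) (kgi xgi8 ygi10 zgi48) (kgi xgi15 ygi47 zgi38) (kgi xgi15 ygi47 zgi36) (kgi xgi25 ygi16 zgi41) (kgi xgi8 ygi10 zgi49) (kgi xgi8 ygi37 zgi5) (kgi xgi15 ygi24 zgi51) (kgi xgi8 ygi10 zgi50) (kgi xgi16 ygi8 zgi41) (kgi xgi16 ygi8 zgi40) (kgi xgi21 ygi59 zgi49) (kgi xgi8 ygi11 zgi11) (kgi xgi15 ygi24 zgi11)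 (kgi xgi16 ygi13 zgi30) (kgi xgi9 ygi41 zgi24) (kgi xgi9 ygi31 zgi43) (kgi xgi15 ygi24 zgi46) (kgi xgi20 ygi16 zgi15) (kgi xgi8 ygi11 zgi31) (kgi xgi8 ygi11 zgi29) (kgi xgi11 ygi6 zgi8) (kgi xgi21 ygi9 zgi50) (kgi xgi25 ygi16 zgi51) (kgi xgi9 ygi43 zgi20) (kgi xgi15 ygi51 zgi27) (kgi xgi16 ygi42 zgi25) (kgi xgi10 ygi40 zgi12) (kgi xgi8 ygi11 zgi2) (kgi xgi15 ygi27 zgi51) (kgi xgi15 ygi27 zgi49) (kgi xgi20 ygi0 zgi11) (kgi xgi10 ygi2 zgi4) (kgi xgi17 ygi39 zgi43) (kgi xgi17 ygi39 zgi41) (kgi xgi12 ygi57 zgi59) (kgi xgi15 ygi24 zgi25) (kgi xgi25 ygi16 zgi57) (kgi xgi8 ygi11 zgi8) (kgi xgi9 ygi1 zgi16) (kgi xgi9 ygi56 zgi54) (kgi xgi22 ygi5 zgi1) (kgi xgi15 ygi1 zgi48) (kgi xgi15 ygi36 zgi33) (kgi xgi12 ygi46 zgi36) (kgi xgi15 ygi24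 zgi21) (kgi xgi22 ygi5 zgi19) (kgi xgi25 ygi16 zgi46) (kgi xgi25 ygi17 zgi7) (kgi xgi8 ygi11 zgi12) (kgi xgi8 ygi11 zgi13) (kgi xgi21 ygi2 zgi10) (kgi xgi18 ygi17 zgi49) (kgi xgi10 ygi0 zgi45) (kgi xgi20 ygi47 zgi11) (kgi xgi8 ygi56 zgi28) (kgi xgi8 ygi11 zgi18) (kgi xgi10 ygi20 zgi26)) (@D3.rec (fun _ => Pt) (kgi xgi12 ygi3 zgi54) (kgi xgi25 ygi17 zgi16) (kgi xgi12 ygi37 zgi45) (kgi xgi8 ygi11 zgi21) (kgi xgi25 ygi17 zgi19) (kgi xgi19 ygi10 zgi59) (kgi xgi8 ygi11 zgi24) (kgi xgi16 ygi11 zgi6) (kgi xgi16 ygi11 zgi5) (kgi xgi25 ygi17 zgi23) (kgi xgi9 ygi43 zgi23) (kgi xgi8 ygi11 zgi26) (kgi xgi20 ygi57 zgi42) (kgi xgi20 ygi57 zgi44) (kgi xgi15 ygi27 zgi21) (kgi xgi25 ygi17 zgi32) (kgi xgi8 ygi11 zgi27) (kgi xgi8 ygi11 zgi34) (kgi xgi20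 ygi15 zgi60) (kgi xgi8 ygi11 zgi28) (kgi xgi25 ygi16 zgi49) (kgi xgi21 ygi38 zgi57) (kgi xgi20 ygi16 zgi11) (kgi xgi8 ygi11 zgi41) (kgi xgi11 ygi4 zgi48) (kgi xgi19 ygi7 zgi42) (kgi xgi9 ygi38 zgi54) (kgi xgi11 ygi4 zgi21) (kgi xgi8 ygi11 zgi33) (kgi xgi12 ygi55 zgi56) (kgi xgi12 ygi3 zgi61) (kgi xgi23 ygi3 zgi58) (kgi xgi8 ygi11 zgi35) (kgi xgi24 ygi50 zgi0) (kgi xgi17 ygi49 zgi47) (kgi xgi24 ygi49 zgi60) (kgi xgi17 ygi46 zgi10) (kgi xgi20 ygi13 zgi51) (kgi xgi22 ygi5 zgi47) (kgi xgi24 ygi33 zgi55) (kgi xgi8 ygi11 zgi40) (kgi xgi12 ygi10 zgi32) (kgi xgi15 ygi30 zgi8) (kgi xgi8 ygi11 zgi42) (kgi xgi19 ygi7 zgi38) (kgi xgi19 ygi7 zgi37) (kgi xgi20 ygi20 zgi42) (kgi xgi25 ygi17 zgi47) (kgi xgi11 ygi51 zgi21) (kgi xgi25 ygi17 zgi45)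 (kgi xgi20 ygi36 zgi1) (kgi xgi16 ygi30 zgi39) (kgi xgi8 ygi11 zgi48) (kgi xgi18 ygi57 zgi1) (kgi xgi20 ygi52 zgi19) (kgi xgi25 ygi17 zgi54) (kgi xgi8 ygi11 zgi50) (kgi xgi15 ygi27 zgi45) (kgi xgi16 ygi13 zgi31) (kgi xgi9 ygi42 zgi41) (kgi xgi9 ygi42 zgi7) (kgi xgi16 ygi49 zgi34)) (@D3.rec (fun _ => Pt) (kgi xgi10 ygi50 zgi39) (kgi xgi9 ygi33 zgi30) (kgi xgi9 ygi35 zgi23) (kgi xgi15 ygi28 zgi27) (kgi xgi15 ygi16 zgi42) (kgi xgi11 ygi53 zgi11) (kgi xgi9 ygi36 zgi53) (kgi xgi20 ygi28 zgi5) (kgi xgi10 ygi0 zgi31) (kgi xgi9 ygi12 zgi30) (kgi xgi10 ygi18 zgi6) (kgi xgi9 ygi7 zgi51) (kgi xgi11 ygi58 zgi6) (kgi xgi8 ygi12 zgi10) (kgi xgi10 ygi2 zgi53) (kgi xgi18 ygi25 zgi12) (kgi xgi11 ygi58 zgi2) (kgi xgi18 ygi25 zgi58) (kgi xgi9 ygi47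 zgi30) (kgi xgi15 ygi4 zgi40) (kgi xgi18 ygi23 zgi58) (kgi xgi15 ygi30 zgi40) (kgi xgi18 ygi43 zgi21) (kgi xgi25 ygi18 zgi13) (kgi xgi11 ygi33 zgi45) (kgi xgi11 ygi14 zgi17) (kgi xgi13 ygi1 zgi60) (kgi xgi14 ygi35 zgi43) (kgi xgi11 ygi33 zgi46) (kgi xgi8 ygi12 zgi27) (kgi xgi25 ygi18 zgi19) (kgi xgi8 ygi12 zgi28) (kgi xgi9 ygi6 zgi13) (kgi xgi13 ygi51 zgi5) (kgi xgi25 ygi18 zgi24) (kgi xgi8 ygi12 zgi30) (kgi xgi9 ygi8 zgi4) (kgi xgi14 ygi35 zgi24) (kgi xgi20 ygi31 zgi10) (kgi xgi14 ygi20 zgi5) (kgi xgi21 ygi57 zgi38) (kgi xgi9 ygi8 zgi9) (kgi xgi15 ygi30 zgi45) (kgi xgi18 ygi23 zgi18) (kgi xgi8 ygi12 zgi37) (kgi xgi17 ygi10 zgi41) (kgi xgi20 ygi31 zgi8) (kgi xgi18 ygi25 zgi50) (kgi xgi24 ygi5 zgi58) (kgi xgi20 ygi31 zgi4) (kgi xgi20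 ygi34 zgi10) (kgi xgi17 ygi18 zgi6) (kgi xgi12 ygi48 zgi60) (kgi xgi17 ygi12 zgi17) (kgi xgi11 ygi35 zgi47) (kgi xgi12 ygi11 zgi33) (kgi xgi15 ygi30 zgi25) (kgi xgi17 ygi34 zgi8) (kgi xgi8 ygi12 zgi44) (kgi xgi11 ygi35 zgi41) (kgi xgi25 ygi16 zgi12) (kgi xgi25 ygi18 zgi43)) (@D3.rec (fun _ => Pt) (kgi xgi20 ygi33 zgi13) (kgi xgi8 ygi12 zgi45) (kgi xgi17 ygi21 zgi6) (kgi xgi21 ygi39 zgi53) (kgi xgi25 ygi18 zgi49) (kgi xgi18 ygi25 zgi16) (kgi xgi21 ygi37 zgi22) (kgi xgi8 ygi12 zgi50) (kgi xgi21 ygi37 zgi28) (kgi xgi19 ygi25 zgi4) (kgi xgi20 ygi27 zgi33) (kgi xgi21 ygi37 zgi40) (kgi xgi21 ygi4 zgi9) (kgi xgi9 ygi5 zgi31) (kgi xgi25 ygi18 zgi55) (kgi xgi8 ygi36 zgi5) (kgi xgi17 ygi41 zgi54) (kgi xgi11 ygi19 zgi24) (kgi xgi8 ygi59 zgi27)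 (kgi xgi19 ygi32 zgi13) (kgi xgi8 ygi12 zgi60) (kgi xgi25 ygi19 zgi0) (kgi xgi8 ygi12 zgi61) (kgi xgi12 ygi59 zgi44) (kgi xgi25 ygi19 zgi3) (kgi xgi20 ygi57 zgi46) (kgi xgi25 ygi19 zgi5) (kgi xgi8 ygi29 zgi9) (kgi xgi25 ygi19 zgi9) (kgi xgi16 ygi12 zgi57) (kgi xgi25 ygi19 zgi13) (kgi xgi15 ygi27 zgi57) (kgi xgi19 ygi25 zgi41) (kgi xgi8 ygi13 zgi43) (kgi xgi8 ygi13 zgi41) (kgi xgi8 ygi13 zgi6) (kgi xgi12 ygi56 zgi0) (kgi xgi25 ygi19 zgi23) (kgi xgi20 ygi12 zgi5) (kgi xgi25 ygi19 zgi20) (kgi xgi25 ygi19 zgi33) (kgi xgi15 ygi3 zgi7) (kgi xgi25 ygi19 zgi37) (kgi xgi13 ygi7 zgi60) (kgi xgi17 ygi35 zgi40) (kgi xgi16 ygi8 zgi39) (kgi xgi25 ygi19 zgi38) (kgi xgi11 ygi54 zgi6) (kgi xgi11 ygi52 zgi60) (kgi xgi8 ygi13 zgi16) (kgi xgi15 ygi24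 zgi34) (kgi xgi15 ygi24 zgi32) (kgi xgi22 ygi7 zgi39) (kgi xgi10 ygi35 zgi46) (kgi xgi20 ygi5 zgi18) (kgi xgi10 ygi37 zgi18) (kgi xgi25 ygi19 zgi44) (kgi xgi9 ygi41 zgi41) (kgi xgi19 ygi20 zgi21) (kgi xgi15 ygi28 zgi3) (kgi xgi15 ygi27 zgi31) (kgi xgi15 ygi1 zgi61)) (@D3.rec (fun _ => Pt) (kgi xgi8 ygi13 zgi22) (kgi xgi25 ygi19 zgi10) (kgi xgi25 ygi19 zgi8) (kgi xgi24 ygi48 zgi46) (kgi xgi24 ygi10 zgi2) (kgi xgi8 ygi13 zgi23) (kgi xgi25 ygi20 zgi2) (kgi xgi8 ygi13 zgi24) (kgi xgi17 ygi51 zgi40) (kgi xgi25 ygi20 zgi8) (kgi xgi17 ygi51 zgi36) (kgi xgi11 ygi52 zgi45) (kgi xgi19 ygi58 zgi17) (kgi xgi15 ygi29 zgi18) (kgi xgi8 ygi13 zgi30) (kgi xgi8 ygi55 zgi32) (kgi xgi11 ygi53 zgi10) (kgi xgi8 ygi13 zgi33) (kgi xgi25 ygi19 zgi6) (kgi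 xgi25 ygi19 zgi4) (kgi xgi17 ygi32 zgi21) (kgi xgi24 ygi27 zgi18) (kgi xgi25 ygi20 zgi26) (kgi xgi8 ygi13 zgi35) (kgi xgi25 ygi20 zgi33) (kgi xgi8 ygi13 zgi36) (kgi xgi16 ygi19 zgi60) (kgi xgi17 ygi35 zgi44) (kgi xgi25 ygi20 zgi39) (kgi xgi15 ygi3 zgi11) (kgi xgi8 ygi13 zgi38) (kgi xgi17 ygi50 zgi2) (kgi xgi17 ygi50 zgi0) (kgi xgi16 ygi12 zgi54) (kgi xgi25 ygi20 zgi50) (kgi xgi8 ygi13 zgi39) (kgi xgi8 ygi13 zgi46) (kgi xgi25 ygi20 zgi56) (kgi xgi8 ygi13 zgi40) (kgi xgi25 ygi19 zgi19) (kgi xgi25 ygi21 zgi2) (kgi xgi25 ygi19 zgi17) (kgi xgi8 ygi13 zgi52) (kgi xgi16 ygi9 zgi31) (kgi xgi20 ygi56 zgi43) (kgi xgi8 ygi13 zgi44) (kgi xgi10 ygi24 zgi21) (kgi xgi10 ygi24 zgi19) (kgi xgi8 ygi13 zgi45) (kgi xgi25 ygi19 zgi14) (kgi xgi25 ygi19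 zgi12) (kgi xgi17 ygi32 zgi41) (kgi xgi20 ygi49 zgi58) (kgi xgi25 ygi21 zgi16) (kgi xgi8 ygi13 zgi47) (kgi xgi17 ygi49 zgi61) (kgi xgi24 ygi49 zgi51) (kgi xgi17 ygi49 zgi57) (kgi xgi19 ygi11 zgi13) (kgi xgi8 ygi13 zgi50) (kgi xgi19 ygi11 zgi17) (kgi xgi19 ygi11 zgi15)) (@D3.rec (fun _ => Pt) (kgi xgi25 ygi21 zgi32) (kgi xgi8 ygi13 zgi51) (kgi xgi25 ygi21 zgi38) (kgi xgi25 ygi21 zgi41) (kgi xgi15 ygi26 zgi5) (kgi xgi25 ygi21 zgi45) (kgi xgi24 ygi49 zgi59) (kgi xgi17 ygi49 zgi55) (kgi xgi8 ygi13 zgi55) (kgi xgi25 ygi21 zgi52) (kgi xgi18 ygi33 zgi34) (kgi xgi21 ygi0 zgi40) (kgi xgi8 ygi13 zgi59) (kgi xgi19 ygi9 zgi11) (kgi xgi12 ygi57 zgi49) (kgi xgi22 ygi7 zgi38) (kgi xgi8 ygi13 zgi58) (kgi xgi25 ygi21 zgi50) (kgi xgi18 ygi52 zgi25)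 (kgi xgi24 ygi49 zgi17) (kgi xgi22 ygi7 zgi37) (kgi xgi19 ygi52 zgi39) (kgi xgi20 ygi55 zgi51) (kgi xgi25 ygi22 zgi16) (kgi xgi25 ygi22 zgi20) (kgi xgi25 ygi22 zgi24) (kgi xgi25 ygi22 zgi27) (kgi xgi8 ygi14 zgi1) (kgi xgi25 ygi19 zgi34) (kgi xgi25 ygi19 zgi32) (kgi xgi25 ygi22 zgi37) (kgi xgi15 ygi1 zgi13) (kgi xgi25 ygi22 zgi43) (kgi xgi16 ygi12 zgi58) (kgi xgi11 ygi6 zgi5) (kgi xgi15 ygi2 zgi30) (kgi xgi15 ygi2 zgi3) (kgi xgi11 ygi5 zgi61) (kgi xgi8 ygi14 zgi6) (kgi xgi11 ygi57 zgi15) (kgi xgi19 ygi26 zgi28) (kgi xgi18 ygi41 zgi3) (kgi xgi16 ygi9 zgi48) (kgi xgi17 ygi53 zgi9) (kgi xgi10 ygi1 zgi12) (kgi xgi25 ygi22 zgi51) (kgi xgi25 ygi22 zgi54) (kgi xgi18 ygi5 zgi38) (kgi xgi8 ygi14 zgi13) (kgi xgi11 ygi56 zgi53) (kgi xgi11 ygi56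 zgi51) (kgi xgi19 ygi26 zgi50) (kgi xgi15 ygi22 zgi31) (kgi xgi25 ygi22 zgi60) (kgi xgi25 ygi23 zgi2) (kgi xgi25 ygi23 zgi4) (kgi xgi17 ygi32 zgi19) (kgi xgi12 ygi56 zgi37) (kgi xgi11 ygi18 zgi42) (kgi xgi18 ygi42 zgi41) (kgi xgi8 ygi14 zgi21) (kgi xgi14 ygi50 zgi61)) (@D3.rec (fun _ => Pt) (kgi xgi25 ygi23 zgi17) (kgi xgi16 ygi9 zgi52) (kgi xgi10 ygi23 zgi36) (kgi xgi8 ygi38 zgi40) (kgi xgi9 ygi37 zgi50) (kgi xgi15 ygi25 zgi8) (kgi xgi16 ygi10 zgi1) (kgi xgi15 ygi6 zgi43) (kgi xgi10 ygi33 zgi41) (kgi xgi9 ygi38 zgi55) (kgi xgi10 ygi54 zgi41) (kgi xgi10 ygi44 zgi46) (kgi xgi21 ygi1 zgi0) (kgi xgi20 ygi5 zgi26) (kgi xgi20 ygi36 zgi46) (kgi xgi24 ygi36 zgi28) (kgi xgi8 ygi14 zgi30) (kgi xgi8 ygi14 zgi34) (kgi xgi25 ygi23 zgi34) (kgi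 xgi8 ygi14 zgi31) (kgi xgi11 ygi7 zgi37) (kgi xgi10 ygi44 zgi22) (kgi xgi8 ygi14 zgi33) (kgi xgi13 ygi2 zgi23) (kgi xgi16 ygi12 zgi55) (kgi xgi9 ygi22 zgi35) (kgi xgi18 ygi43 zgi47) (kgi xgi22 ygi37 zgi10) (kgi xgi20 ygi59 zgi30) (kgi xgi8 ygi14 zgi38) (kgi xgi9 ygi17 zgi2) (kgi xgi11 ygi26 zgi7) (kgi xgi20 ygi23 zgi52) (kgi xgi8 ygi14 zgi40) (kgi xgi10 ygi54 zgi37) (kgi xgi20 ygi54 zgi23) (kgi xgi20 ygi59 zgi31) (kgi xgi20 ygi25 zgi57) (kgi xgi9 ygi46 zgi38) (kgi xgi10 ygi14 zgi31) (kgi xgi15 ygi13 zgi22) (kgi xgi11 ygi34 zgi33) (kgi xgi21 ygi30 zgi16) (kgi xgi8 ygi14 zgi54) (kgi xgi10 ygi6 zgi42) (kgi xgi13 ygi6 zgi34) (kgi xgi16 ygi49 zgi47) (kgi xgi10 ygi6 zgi11) (kgi xgi16 ygi51 zgi31) (kgi xgi25 ygi23 zgi52) (kgi xgi10 ygi15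 zgi21) (kgi xgi8 ygi15 zgi2) (kgi xgi9 ygi52 zgi24) (kgi xgi22 ygi57 zgi52) (kgi xgi10 ygi25 zgi8) (kgi xgi8 ygi15 zgi4) (kgi xgi15 ygi32 zgi11) (kgi xgi18 ygi27 zgi59) (kgi xgi8 ygi15 zgi6) (kgi xgi9 ygi53 zgi20) (kgi xgi8 ygi15 zgi7) (kgi xgi14 ygi13 zgi26)) (@D3.rec (fun _ => Pt) (kgi xgi8 ygi15 zgi8) (kgi xgi18 ygi54 zgi19) (kgi xgi18 ygi54 zgi17) (kgi xgi25 ygi24 zgi4) (kgi xgi9 ygi16 zgi44) (kgi xgi8 ygi15 zgi10) (kgi xgi8 ygi15 zgi11) (kgi xgi15 ygi32 zgi22) (kgi xgi15 ygi32 zgi20) (kgi xgi22 ygi48 zgi18) (kgi xgi23 ygi11 zgi22) (kgi xgi25 ygi24 zgi15) (kgi xgi8 ygi15 zgi13) (kgi xgi11 ygi54 zgi42) (kgi xgi19 ygi44 zgi41) (kgi xgi11 ygi54 zgi39) (kgi xgi10 ygi24 zgi5) (kgi xgi19 ygi36 zgi26) (kgi xgi8 ygi59 zgi48) (kgi xgi8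 ygi15 zgi17) (kgi xgi15 ygi32 zgi29) (kgi xgi15 ygi32 zgi27) (kgi xgi25 ygi24 zgi28) (kgi xgi24 ygi11 zgi11) (kgi xgi15 ygi39 zgi3) (kgi xgi11 ygi55 zgi29) (kgi xgi8 ygi31 zgi6) (kgi xgi11 ygi55 zgi26) (kgi xgi15 ygi32 zgi45) (kgi xgi8 ygi15 zgi22) (kgi xgi15 ygi32 zgi48) (kgi xgi15 ygi32 zgi46) (kgi xgi25 ygi24 zgi39) (kgi xgi8 ygi15 zgi25) (kgi xgi15 ygi32 zgi40) (kgi xgi15 ygi32 zgi38) (kgi xgi23 ygi1 zgi22) (kgi xgi20 ygi50 zgi17) (kgi xgi17 ygi11 zgi45) (kgi xgi15 ygi32 zgi35) (kgi xgi8 ygi15 zgi28) (kgi xgi8 ygi15 zgi30) (kgi xgi17 ygi32 zgi50) (kgi xgi24 ygi7 zgi56) (kgi xgi25 ygi24 zgi31) (kgi xgi8 ygi15 zgi32) (kgi xgi25 ygi24 zgi33) (kgi xgi21 ygi0 zgi61) (kgi xgi20 ygi50 zgi25) (kgi xgi14 ygi31 zgi47) (kgi xgi25 ygi24 zgi55)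 (kgi xgi12 ygi57 zgi5) (kgi xgi25 ygi24 zgi60) (kgi xgi25 ygi24 zgi42) (kgi xgi25 ygi25 zgi4) (kgi xgi25 ygi25 zgi7) (kgi xgi25 ygi25 zgi9) (kgi xgi8 ygi15 zgi36) (kgi xgi15 ygi33 zgi12) (kgi xgi15 ygi33 zgi10) (kgi xgi25 ygi25 zgi15) (kgi xgi19 ygi34 zgi59)) (@D3.rec (fun _ => Pt) (kgi xgi21 ygi55 zgi13) (kgi xgi10 ygi35 zgi2) (kgi xgi10 ygi33 zgi42) (kgi xgi8 ygi15 zgi43) (kgi xgi15 ygi41 zgi60) (kgi xgi8 ygi15 zgi44) (kgi xgi25 ygi17 zgi24) (kgi xgi25 ygi17 zgi22) (kgi xgi12 ygi44 zgi50) (kgi xgi25 ygi25 zgi30) (kgi xgi25 ygi25 zgi33) (kgi xgi8 ygi15 zgi48) (kgi xgi8 ygi15 zgi52) (kgi xgi25 ygi25 zgi34) (kgi xgi10 ygi27 zgi16) (kgi xgi25 ygi25 zgi38) (kgi xgi19 ygi1 zgi55) (kgi xgi17 ygi10 zgi36) (kgi xgi10 ygi26 zgi23) (kgi xgi8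 ygi26 zgi14) (kgi xgi8 ygi15 zgi56) (kgi xgi15 ygi31 zgi8) (kgi xgi15 ygi31 zgi6) (kgi xgi25 ygi25 zgi46) (kgi xgi25 ygi4 zgi11) (kgi xgi8 ygi19 zgi52) (kgi xgi8 ygi15 zgi58) (kgi xgi8 ygi15 zgi61) (kgi xgi15 ygi31 zgi21) (kgi xgi15 ygi31 zgi19) (kgi xgi25 ygi24 zgi11) (kgi xgi25 ygi25 zgi53) (kgi xgi8 ygi16 zgi1) (kgi xgi10 ygi44 zgi42) (kgi xgi10 ygi44 zgi39) (kgi xgi8 ygi16 zgi10) (kgi xgi10 ygi25 zgi25) (kgi xgi15 ygi31 zgi39) (kgi xgi8 ygi16 zgi5) (kgi xgi15 ygi31 zgi35) (kgi xgi15 ygi31 zgi33) (kgi xgi25 ygi26 zgi0) (kgi xgi25 ygi26 zgi2) (kgi xgi15 ygi38 zgi60) (kgi xgi8 ygi31 zgi2) (kgi xgi10 ygi56 zgi51) (kgi xgi8 ygi16 zgi8) (kgi xgi15 ygi31 zgi31) (kgi xgi15 ygi31 zgi29) (kgi xgi25 ygi26 zgi7) (kgi xgi25 ygi26 zgi8) (kgi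 xgi16 ygi43 zgi24) (kgi xgi10 ygi44 zgi43) (kgi xgi8 ygi16 zgi11) (kgi xgi8 ygi16 zgi13) (kgi xgi25 ygi26 zgi13) (kgi xgi9 ygi31 zgi54) (kgi xgi18 ygi46 zgi35) (kgi xgi21 ygi0 zgi28) (kgi xgi8 ygi16 zgi15) (kgi xgi25 ygi26 zgi17) (kgi xgi8 ygi16 zgi14)) (@D3.rec (fun _ => Pt) (kgi xgi24 ygi13 zgi45) (kgi xgi25 ygi26 zgi28) (kgi xgi24 ygi13 zgi44) (kgi xgi25 ygi26 zgi34) (kgi xgi25 ygi25 zgi59) (kgi xgi25 ygi26 zgi39) (kgi xgi15 ygi40 zgi59) (kgi xgi15 ygi46 zgi32) (kgi xgi25 ygi26 zgi42) (kgi xgi22 ygi24 zgi43) (kgi xgi8 ygi16 zgi19) (kgi xgi15 ygi31 zgi59) (kgi xgi15 ygi31 zgi57) (kgi xgi18 ygi55 zgi52) (kgi xgi25 ygi5 zgi55) (kgi xgi17 ygi50 zgi59) (kgi xgi15 ygi47 zgi52) (kgi xgi8 ygi39 zgi58) (kgi xgi8 ygi20 zgi58) (kgi xgi19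 ygi15 zgi9) (kgi xgi8 ygi56 zgi4) (kgi xgi8 ygi17 zgi16) (kgi xgi8 ygi17 zgi14) (kgi xgi25 ygi26 zgi57) (kgi xgi8 ygi16 zgi27) (kgi xgi8 ygi18 zgi16) (kgi xgi8 ygi18 zgi14) (kgi xgi25 ygi26 zgi61) (kgi xgi9 ygi19 zgi15) (kgi xgi19 ygi37 zgi59) (kgi xgi8 ygi16 zgi29) (kgi xgi8 ygi17 zgi43) (kgi xgi16 ygi0 zgi34) (kgi xgi8 ygi17 zgi40) (kgi xgi16 ygi3 zgi57) (kgi xgi8 ygi32 zgi34) (kgi xgi8 ygi16 zgi32) (kgi xgi8 ygi17 zgi34) (kgi xgi8 ygi17 zgi32) (kgi xgi20 ygi29 zgi19) (kgi xgi15 ygi58 zgi37) (kgi xgi8 ygi19 zgi59) (kgi xgi25 ygi27 zgi21) (kgi xgi8 ygi18 zgi20) (kgi xgi10 ygi50 zgi4) (kgi xgi8 ygi40 zgi1) (kgi xgi8 ygi16 zgi38) (kgi xgi8 ygi19 zgi6) (kgi xgi8 ygi19 zgi4) (kgi xgi15 ygi36 zgi61) (kgi xgi17 ygi29 zgi7) (kgi xgi19 ygi45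 zgi45) (kgi xgi8 ygi16 zgi40) (kgi xgi8 ygi18 zgi51) (kgi xgi25 ygi27 zgi36) (kgi xgi8 ygi18 zgi48) (kgi xgi8 ygi19 zgi31) (kgi xgi8 ygi20 zgi7) (kgi xgi8 ygi16 zgi43) (kgi xgi8 ygi18 zgi42) (kgi xgi8 ygi18 zgi40) (kgi xgi15 ygi35 zgi34)) (@D3.rec (fun _ => Pt) (kgi xgi25 ygi27 zgi44) (kgi xgi25 ygi27 zgi47) (kgi xgi8 ygi16 zgi45) (kgi xgi8 ygi19 zgi13) (kgi xgi23 ygi13 zgi31) (kgi xgi8 ygi19 zgi10) (kgi xgi8 ygi16 zgi53) (kgi xgi10 ygi44 zgi8) (kgi xgi8 ygi16 zgi48) (kgi xgi8 ygi19 zgi34) (kgi xgi8 ygi19 zgi32) (kgi xgi19 ygi35 zgi57) (kgi xgi25 ygi27 zgi58) (kgi xgi15 ygi20 zgi11) (kgi xgi25 ygi27 zgi60) (kgi xgi8 ygi18 zgi53) (kgi xgi8 ygi16 zgi51) (kgi xgi8 ygi19 zgi22) (kgi xgi8 ygi19 zgi20) (kgi xgi25 ygi28 zgi8) (kgi xgi15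 ygi43 zgi18) (kgi xgi8 ygi19 zgi14) (kgi xgi8 ygi16 zgi56) (kgi xgi25 ygi28 zgi13) (kgi xgi15 ygi59 zgi43) (kgi xgi15 ygi35 zgi8) (kgi xgi15 ygi22 zgi7) (kgi xgi8 ygi16 zgi58) (kgi xgi25 ygi27 zgi51) (kgi xgi15 ygi52 zgi47) (kgi xgi25 ygi28 zgi21) (kgi xgi13 ygi0 zgi35) (kgi xgi25 ygi5 zgi43) (kgi xgi8 ygi16 zgi57) (kgi xgi25 ygi5 zgi45) (kgi xgi25 ygi28 zgi36) (kgi xgi25 ygi11 zgi36) (kgi xgi25 ygi27 zgi54) (kgi xgi22 ygi9 zgi14) (kgi xgi25 ygi28 zgi5) (kgi xgi10 ygi26 zgi10) (kgi xgi8 ygi20 zgi0) (kgi xgi8 ygi19 zgi60) (kgi xgi25 ygi28 zgi46) (kgi xgi8 ygi17 zgi2) (kgi xgi17 ygi38 zgi30) (kgi xgi17 ygi38 zgi28) (kgi xgi25 ygi28 zgi53) (kgi xgi25 ygi28 zgi57) (kgi xgi25 ygi28 zgi59) (kgi xgi15 ygi49 zgi9) (kgi xgi17 ygi43 zgi37)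 (kgi xgi9 ygi34 zgi38) (kgi xgi14 ygi58 zgi5) (kgi xgi19 ygi36 zgi8) (kgi xgi8 ygi17 zgi10) (kgi xgi11 ygi2 zgi58) (kgi xgi11 ygi2 zgi56) (kgi xgi8 ygi17 zgi12) (kgi xgi24 ygi50 zgi3) (kgi xgi24 ygi50 zgi1) (kgi xgi24 ygi11 zgi41)) (@D3.rec (fun _ => Pt) (kgi xgi25 ygi25 zgi57) (kgi xgi8 ygi56 zgi3) (kgi xgi8 ygi39 zgi52) (kgi xgi8 ygi26 zgi40) (kgi xgi19 ygi53 zgi50) (kgi xgi8 ygi17 zgi17) (kgi xgi22 ygi2 zgi9) (kgi xgi25 ygi26 zgi56) (kgi xgi15 ygi34 zgi30) (kgi xgi25 ygi7 zgi46) (kgi xgi8 ygi17 zgi19) (kgi xgi15 ygi59 zgi31) (kgi xgi16 ygi3 zgi42) (kgi xgi8 ygi17 zgi60) (kgi xgi8 ygi17 zgi28) (kgi xgi12 ygi50 zgi46) (kgi xgi16 ygi3 zgi41) (kgi xgi15 ygi40 zgi11) (kgi xgi8 ygi17 zgi26) (kgi xgi19 ygi35 zgi44) (kgi xgi19 ygi35 zgi42)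 (kgi xgi22 ygi53 zgi25) (kgi xgi16 ygi3 zgi45) (kgi xgi8 ygi17 zgi29) (kgi xgi19 ygi35 zgi48) (kgi xgi19 ygi35 zgi46) (kgi xgi25 ygi29 zgi33) (kgi xgi25 ygi29 zgi36) (kgi xgi25 ygi29 zgi37) (kgi xgi25 ygi29 zgi40) (kgi xgi15 ygi33 zgi61) (kgi xgi25 ygi29 zgi17) (kgi xgi25 ygi29 zgi20) (kgi xgi17 ygi45 zgi28) (kgi xgi15 ygi37 zgi59) (kgi xgi25 ygi29 zgi55) (kgi xgi25 ygi27 zgi16) (kgi xgi18 ygi8 zgi1) (kgi xgi8 ygi17 zgi35) (kgi xgi25 ygi27 zgi14) (kgi xgi25 ygi30 zgi4) (kgi xgi25 ygi30 zgi7) (kgi xgi8 ygi17 zgi36) (kgi xgi25 ygi30 zgi0) (kgi xgi25 ygi30 zgi13) (kgi xgi25 ygi29 zgi60) (kgi xgi25 ygi29 zgi24) (kgi xgi25 ygi5 zgi47) (kgi xgi25 ygi29 zgi30) (kgi xgi25 ygi5 zgi37) (kgi xgi8 ygi17 zgi39) (kgi xgi25 ygi27 zgi3) (kgi xgi25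 ygi30 zgi20) (kgi xgi19 ygi37 zgi55) (kgi xgi25 ygi29 zgi25) (kgi xgi17 ygi28 zgi1) (kgi xgi25 ygi30 zgi26) (kgi xgi8 ygi31 zgi44) (kgi xgi15 ygi41 zgi25) (kgi xgi8 ygi17 zgi42) (kgi xgi25 ygi27 zgi8) (kgi xgi25 ygi30 zgi40)) (@D3.rec (fun _ => Pt) (kgi xgi16 ygi0 zgi31) (kgi xgi8 ygi17 zgi44) (kgi xgi21 ygi27 zgi31) (kgi xgi21 ygi16 zgi25) (kgi xgi10 ygi54 zgi2) (kgi xgi10 ygi22 zgi4) (kgi xgi8 ygi32 zgi9) (kgi xgi25 ygi6 zgi10) (kgi xgi10 ygi19 zgi42) (kgi xgi8 ygi57 zgi13) (kgi xgi8 ygi17 zgi49) (kgi xgi10 ygi21 zgi18) (kgi xgi22 ygi23 zgi33) (kgi xgi24 ygi0 zgi36) (kgi xgi10 ygi21 zgi15) (kgi xgi22 ygi40 zgi3) (kgi xgi10 ygi19 zgi31) (kgi xgi10 ygi22 zgi7) (kgi xgi8 ygi17 zgi52) (kgi xgi10 ygi20 zgi52) (kgi xgi10 ygi20 zgi50)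 (kgi xgi17 ygi25 zgi11) (kgi xgi21 ygi23 zgi12) (kgi xgi8 ygi36 zgi11) (kgi xgi8 ygi18 zgi2) (kgi xgi25 ygi31 zgi1) (kgi xgi8 ygi54 zgi7) (kgi xgi15 ygi51 zgi26) (kgi xgi15 ygi18 zgi42) (kgi xgi15 ygi18 zgi40) (kgi xgi8 ygi17 zgi61) (kgi xgi21 ygi25 zgi43) (kgi xgi17 ygi50 zgi58) (kgi xgi17 ygi50 zgi29) (kgi xgi25 ygi31 zgi7) (kgi xgi25 ygi31 zgi9) (kgi xgi8 ygi18 zgi1) (kgi xgi25 ygi31 zgi12) (kgi xgi8 ygi37 zgi31) (kgi xgi11 ygi53 zgi12) (kgi xgi10 ygi37 zgi45) (kgi xgi19 ygi19 zgi54) (kgi xgi8 ygi22 zgi20) (kgi xgi8 ygi18 zgi7) (kgi xgi25 ygi26 zgi53) (kgi xgi10 ygi52 zgi24) (kgi xgi25 ygi15 zgi12) (kgi xgi25 ygi31 zgi21) (kgi xgi10 ygi50 zgi16) (kgi xgi18 ygi52 zgi21) (kgi xgi8 ygi18 zgi11) (kgi xgi10 ygi50 zgi38) (kgi xgi10 ygi51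 zgi55) (kgi xgi16 ygi8 zgi56) (kgi xgi25 ygi31 zgi26) (kgi xgi25 ygi31 zgi28) (kgi xgi22 ygi10 zgi30) (kgi xgi15 ygi33 zgi49) (kgi xgi15 ygi59 zgi25) (kgi xgi8 ygi35 zgi47) (kgi xgi12 ygi21 zgi13) (kgi xgi15 ygi38 zgi47)) (@D3.rec (fun _ => Pt) (kgi xgi25 ygi31 zgi36) (kgi xgi18 ygi12 zgi24) (kgi xgi15 ygi59 zgi13) (kgi xgi8 ygi18 zgi17) (kgi xgi25 ygi26 zgi60) (kgi xgi18 ygi45 zgi60) (kgi xgi15 ygi33 zgi2) (kgi xgi8 ygi18 zgi18) (kgi xgi25 ygi31 zgi40) (kgi xgi16 ygi42 zgi58) (kgi xgi12 ygi26 zgi9) (kgi xgi8 ygi18 zgi19) (kgi xgi25 ygi31 zgi50) (kgi xgi22 ygi54 zgi34) (kgi xgi24 ygi35 zgi56) (kgi xgi25 ygi31 zgi56) (kgi xgi15 ygi58 zgi10) (kgi xgi25 ygi31 zgi59) (kgi xgi25 ygi31 zgi55) (kgi xgi8 ygi18 zgi22) (kgi xgi25 ygi27 zgi23)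 (kgi xgi25 ygi32 zgi4) (kgi xgi22 ygi2 zgi5) (kgi xgi8 ygi18 zgi24) (kgi xgi25 ygi32 zgi12) (kgi xgi25 ygi32 zgi14) (kgi xgi25 ygi32 zgi11) (kgi xgi8 ygi56 zgi32) (kgi xgi10 ygi46 zgi53) (kgi xgi8 ygi18 zgi28) (kgi xgi10 ygi46 zgi26) (kgi xgi25 ygi32 zgi25) (kgi xgi15 ygi55 zgi33) (kgi xgi10 ygi46 zgi23) (kgi xgi8 ygi18 zgi30) (kgi xgi10 ygi46 zgi38) (kgi xgi10 ygi46 zgi36) (kgi xgi18 ygi44 zgi25) (kgi xgi9 ygi27 zgi23) (kgi xgi8 ygi18 zgi32) (kgi xgi9 ygi35 zgi57) (kgi xgi9 ygi35 zgi55) (kgi xgi25 ygi32 zgi44) (kgi xgi25 ygi32 zgi47) (kgi xgi9 ygi35 zgi35) (kgi xgi9 ygi35 zgi54) (kgi xgi25 ygi15 zgi41) (kgi xgi15 ygi16 zgi47) (kgi xgi8 ygi18 zgi37) (kgi xgi18 ygi52 zgi17) (kgi xgi18 ygi52 zgi15) (kgi xgi8 ygi18 zgi39) (kgi xgi19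 ygi35 zgi37) (kgi xgi8 ygi23 zgi29) (kgi xgi8 ygi23 zgi17) (kgi xgi17 ygi42 zgi47) (kgi xgi16 ygi2 zgi25) (kgi xgi15 ygi57 zgi49) (kgi xgi15 ygi40 zgi24) (kgi xgi15 ygi35 zgi30) (kgi xgi25 ygi33 zgi2) (kgi xgi8 ygi18 zgi43)) (@D3.rec (fun _ => Pt) (kgi xgi25 ygi27 zgi39) (kgi xgi25 ygi33 zgi8) (kgi xgi15 ygi20 zgi51) (kgi xgi8 ygi18 zgi44) (kgi xgi25 ygi33 zgi4) (kgi xgi25 ygi33 zgi17) (kgi xgi25 ygi13 zgi16) (kgi xgi25 ygi32 zgi51) (kgi xgi25 ygi32 zgi57) (kgi xgi8 ygi18 zgi47) (kgi xgi25 ygi27 zgi32) (kgi xgi25 ygi33 zgi26) (kgi xgi19 ygi45 zgi41) (kgi xgi25 ygi32 zgi52) (kgi xgi19 ygi38 zgi38) (kgi xgi25 ygi33 zgi32) (kgi xgi19 ygi38 zgi41) (kgi xgi16 ygi2 zgi33) (kgi xgi8 ygi18 zgi50) (kgi xgi25 ygi27 zgi38) (kgi xgi25 ygi33 zgi45)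 (kgi xgi25 ygi27 zgi35) (kgi xgi25 ygi28 zgi12) (kgi xgi15 ygi20 zgi8) (kgi xgi19 ygi38 zgi10) (kgi xgi19 ygi38 zgi46) (kgi xgi16 ygi2 zgi22) (kgi xgi23 ygi56 zgi48) (kgi xgi25 ygi15 zgi3) (kgi xgi8 ygi19 zgi0) (kgi xgi8 ygi18 zgi59) (kgi xgi25 ygi16 zgi34) (kgi xgi25 ygi16 zgi32) (kgi xgi21 ygi59 zgi36) (kgi xgi8 ygi18 zgi61) (kgi xgi21 ygi31 zgi16) (kgi xgi16 ygi7 zgi57) (kgi xgi9 ygi37 zgi6) (kgi xgi20 ygi56 zgi44) (kgi xgi10 ygi32 zgi60) (kgi xgi16 ygi7 zgi58) (kgi xgi10 ygi2 zgi2) (kgi xgi24 ygi8 zgi6) (kgi xgi9 ygi42 zgi54) (kgi xgi8 ygi23 zgi8) (kgi xgi19 ygi17 zgi16) (kgi xgi25 ygi34 zgi4) (kgi xgi15 ygi36 zgi57) (kgi xgi21 ygi5 zgi4) (kgi xgi8 ygi19 zgi7) (kgi xgi25 ygi27 zgi28) (kgi xgi25 ygi34 zgi11) (kgi xgi25 ygi34 zgi13)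 (kgi xgi8 ygi19 zgi8) (kgi xgi9 ygi20 zgi56) (kgi xgi8 ygi19 zgi9) (kgi xgi25 ygi26 zgi48) (kgi xgi13 ygi32 zgi11) (kgi xgi25 ygi32 zgi58) (kgi xgi10 ygi24 zgi2) (kgi xgi13 ygi17 zgi41) (kgi xgi25 ygi34 zgi22)) (@D3.rec (fun _ => Pt) (kgi xgi15 ygi32 zgi43) (kgi xgi8 ygi19 zgi12) (kgi xgi23 ygi13 zgi30) (kgi xgi17 ygi37 zgi14) (kgi xgi25 ygi34 zgi26) (kgi xgi10 ygi46 zgi28) (kgi xgi22 ygi9 zgi39) (kgi xgi15 ygi31 zgi24) (kgi xgi10 ygi26 zgi20) (kgi xgi8 ygi19 zgi18) (kgi xgi10 ygi20 zgi15) (kgi xgi22 ygi14 zgi60) (kgi xgi10 ygi20 zgi13) (kgi xgi25 ygi34 zgi30) (kgi xgi25 ygi34 zgi31) (kgi xgi8 ygi19 zgi54) (kgi xgi16 ygi2 zgi19) (kgi xgi25 ygi28 zgi17) (kgi xgi23 ygi36 zgi1) (kgi xgi24 ygi7 zgi51) (kgi xgi16 ygi5 zgi54) (kgi xgi22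 ygi57 zgi24) (kgi xgi25 ygi34 zgi41) (kgi xgi8 ygi19 zgi23) (kgi xgi20 ygi54 zgi44) (kgi xgi17 ygi55 zgi41) (kgi xgi25 ygi34 zgi45) (kgi xgi8 ygi19 zgi24) (kgi xgi22 ygi48 zgi41) (kgi xgi22 ygi55 zgi2) (kgi xgi8 ygi19 zgi25) (kgi xgi25 ygi34 zgi42) (kgi xgi19 ygi16 zgi16) (kgi xgi25 ygi34 zgi40) (kgi xgi8 ygi19 zgi26) (kgi xgi9 ygi37 zgi42) (kgi xgi25 ygi28 zgi11) (kgi xgi8 ygi19 zgi46) (kgi xgi8 ygi19 zgi29) (kgi xgi20 ygi43 zgi26) (kgi xgi19 ygi37 zgi56) (kgi xgi25 ygi27 zgi59) (kgi xgi8 ygi19 zgi30) (kgi xgi20 ygi43 zgi57) (kgi xgi25 ygi35 zgi4) (kgi xgi10 ygi51 zgi60) (kgi xgi17 ygi52 zgi0) (kgi xgi9 ygi38 zgi19) (kgi xgi8 ygi19 zgi56) (kgi xgi8 ygi19 zgi42) (kgi xgi21 ygi58 zgi33) (kgi xgi25 ygi28 zgi39) (kgi xgi25 ygi35 zgi11)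 (kgi xgi19 ygi35 zgi53) (kgi xgi25 ygi35 zgi13) (kgi xgi8 ygi19 zgi35) (kgi xgi25 ygi27 zgi55) (kgi xgi17 ygi51 zgi10) (kgi xgi22 ygi48 zgi25) (kgi xgi8 ygi19 zgi36) (kgi xgi25 ygi35 zgi14) (kgi xgi25 ygi35 zgi27)) (@D3.rec (fun _ => Pt) (kgi xgi22 ygi9 zgi42) (kgi xgi8 ygi19 zgi37) (kgi xgi14 ygi52 zgi23) (kgi xgi11 ygi59 zgi39) (kgi xgi19 ygi45 zgi47) (kgi xgi8 ygi19 zgi38) (kgi xgi22 ygi59 zgi35) (kgi xgi14 ygi10 zgi61) (kgi xgi22 ygi33 zgi25) (kgi xgi8 ygi19 zgi48) (kgi xgi25 ygi28 zgi0) (kgi xgi22 ygi9 zgi49) (kgi xgi9 ygi28 zgi52) (kgi xgi22 ygi9 zgi44) (kgi xgi22 ygi9 zgi45) (kgi xgi25 ygi35 zgi41) (kgi xgi25 ygi35 zgi44) (kgi xgi8 ygi19 zgi43) (kgi xgi23 ygi46 zgi38) (kgi xgi25 ygi35 zgi0) (kgi xgi8 ygi19 zgi44) (kgi xgi21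 ygi21 zgi0) (kgi xgi8 ygi19 zgi45) (kgi xgi25 ygi32 zgi39) (kgi xgi15 ygi37 zgi55) (kgi xgi25 ygi34 zgi47) (kgi xgi25 ygi35 zgi46) (kgi xgi24 ygi59 zgi33) (kgi xgi8 ygi19 zgi47) (kgi xgi10 ygi26 zgi7) (kgi xgi12 ygi57 zgi16) (kgi xgi25 ygi35 zgi38) (kgi xgi17 ygi11 zgi58) (kgi xgi20 ygi59 zgi12) (kgi xgi18 ygi2 zgi6) (kgi xgi25 ygi36 zgi6) (kgi xgi8 ygi19 zgi50) (kgi xgi25 ygi35 zgi32) (kgi xgi25 ygi36 zgi12) (kgi xgi25 ygi36 zgi2) (kgi xgi11 ygi43 zgi6) (kgi xgi8 ygi19 zgi53) (kgi xgi15 ygi47 zgi0) (kgi xgi25 ygi28 zgi2) (kgi xgi22 ygi49 zgi27) (kgi xgi25 ygi36 zgi17) (kgi xgi8 ygi19 zgi55) (kgi xgi25 ygi28 zgi42) (kgi xgi25 ygi36 zgi21) (kgi xgi19 ygi37 zgi57) (kgi xgi22 ygi21 zgi1) (kgi xgi13 ygi36 zgi51) (kgi xgi19 ygi37 zgi30)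 (kgi xgi8 ygi19 zgi57) (kgi xgi20 ygi59 zgi1) (kgi xgi19 ygi37 zgi53) (kgi xgi8 ygi19 zgi58) (kgi xgi18 ygi51 zgi14) (kgi xgi18 ygi51 zgi15) (kgi xgi25 ygi24 zgi57) (kgi xgi15 ygi32 zgi55) (kgi xgi25 ygi34 zgi39)) (@D3.rec (fun _ => Pt) (kgi xgi17 ygi26 zgi9) (kgi xgi14 ygi52 zgi51) (kgi xgi15 ygi40 zgi53) (kgi xgi17 ygi26 zgi11) (kgi xgi14 ygi52 zgi13) (kgi xgi22 ygi10 zgi55) (kgi xgi16 ygi45 zgi40) (kgi xgi25 ygi28 zgi6) (kgi xgi8 ygi25 zgi6) (kgi xgi15 ygi16 zgi12) (kgi xgi16 ygi0 zgi38) (kgi xgi16 ygi1 zgi18) (kgi xgi11 ygi52 zgi61) (kgi xgi25 ygi27 zgi50) (kgi xgi10 ygi45 zgi8) (kgi xgi25 ygi36 zgi51) (kgi xgi16 ygi0 zgi32) (kgi xgi8 ygi20 zgi6) (kgi xgi15 ygi35 zgi58) (kgi xgi8 ygi35 zgi58) (kgi xgi25 ygi36 zgi55) (kgi xgi16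 ygi6 zgi34) (kgi xgi16 ygi0 zgi18) (kgi xgi25 ygi36 zgi50) (kgi xgi25 ygi27 zgi48) (kgi xgi25 ygi36 zgi53) (kgi xgi8 ygi20 zgi12) (kgi xgi10 ygi32 zgi40) (kgi xgi10 ygi32 zgi38) (kgi xgi8 ygi20 zgi13) (kgi xgi8 ygi21 zgi14) (kgi xgi25 ygi37 zgi4) (kgi xgi8 ygi22 zgi0) (kgi xgi15 ygi41 zgi46) (kgi xgi8 ygi22 zgi52) (kgi xgi8 ygi20 zgi15) (kgi xgi14 ygi7 zgi52) (kgi xgi24 ygi38 zgi6) (kgi xgi21 ygi55 zgi30) (kgi xgi25 ygi37 zgi12) (kgi xgi8 ygi20 zgi17) (kgi xgi8 ygi20 zgi57) (kgi xgi25 ygi37 zgi17) (kgi xgi8 ygi20 zgi54) (kgi xgi16 ygi4 zgi9) (kgi xgi24 ygi32 zgi29) (kgi xgi8 ygi35 zgi50) (kgi xgi19 ygi6 zgi16) (kgi xgi15 ygi0 zgi55) (kgi xgi15 ygi3 zgi13) (kgi xgi16 ygi9 zgi32) (kgi xgi15 ygi18 zgi31) (kgi xgi15 ygi17 zgi51) (kgi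 xgi8 ygi20 zgi25) (kgi xgi15 ygi18 zgi34) (kgi xgi15 ygi18 zgi32) (kgi xgi25 ygi37 zgi33) (kgi xgi20 ygi1 zgi49) (kgi xgi9 ygi0 zgi2) (kgi xgi15 ygi0 zgi56) (kgi xgi8 ygi20 zgi28) (kgi xgi15 ygi32 zgi3)) (@D3.rec (fun _ => Pt) (kgi xgi16 ygi4 zgi12) (kgi xgi16 ygi4 zgi11) (kgi xgi19 ygi5 zgi51) (kgi xgi21 ygi22 zgi39) (kgi xgi25 ygi37 zgi45) (kgi xgi8 ygi20 zgi32) (kgi xgi16 ygi4 zgi27) (kgi xgi20 ygi54 zgi51) (kgi xgi16 ygi4 zgi24) (kgi xgi8 ygi20 zgi42) (kgi xgi11 ygi54 zgi28) (kgi xgi15 ygi47 zgi27) (kgi xgi8 ygi20 zgi35) (kgi xgi16 ygi4 zgi20) (kgi xgi16 ygi4 zgi18) (kgi xgi15 ygi20 zgi40) (kgi xgi13 ygi15 zgi57) (kgi xgi19 ygi55 zgi39) (kgi xgi8 ygi21 zgi35) (kgi xgi25 ygi38 zgi1) (kgi xgi8 ygi43 zgi12) (kgi xgi8 ygi20 zgi40)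 (kgi xgi16 ygi4 zgi32) (kgi xgi16 ygi4 zgi30) (kgi xgi22 ygi4 zgi29) (kgi xgi15 ygi44 zgi60) (kgi xgi24 ygi20 zgi45) (kgi xgi8 ygi34 zgi30) (kgi xgi16 ygi3 zgi47) (kgi xgi8 ygi20 zgi43) (kgi xgi16 ygi4 zgi37) (kgi xgi16 ygi4 zgi35) (kgi xgi25 ygi38 zgi27) (kgi xgi21 ygi28 zgi25) (kgi xgi25 ygi38 zgi31) (kgi xgi23 ygi29 zgi34) (kgi xgi25 ygi38 zgi36) (kgi xgi12 ygi16 zgi59) (kgi xgi13 ygi53 zgi24) (kgi xgi15 ygi44 zgi48) (kgi xgi8 ygi20 zgi49) (kgi xgi14 ygi36 zgi50) (kgi xgi19 ygi48 zgi2) (kgi xgi24 ygi29 zgi19) (kgi xgi25 ygi38 zgi22) (kgi xgi24 ygi27 zgi25) (kgi xgi8 ygi20 zgi53) (kgi xgi24 ygi37 zgi60) (kgi xgi25 ygi38 zgi52) (kgi xgi25 ygi37 zgi11) (kgi xgi25 ygi38 zgi7) (kgi xgi9 ygi33 zgi43) (kgi xgi15 ygi46 zgi7) (kgi xgi18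 ygi50 zgi24) (kgi xgi15 ygi1 zgi20) (kgi xgi15 ygi45 zgi39) (kgi xgi25 ygi37 zgi53) (kgi xgi8 ygi20 zgi56) (kgi xgi23 ygi39 zgi8) (kgi xgi25 ygi39 zgi11) (kgi xgi25 ygi37 zgi16) (kgi xgi8 ygi20 zgi59)) (@D3.rec (fun _ => Pt) (kgi xgi17 ygi14 zgi25) (kgi xgi25 ygi39 zgi15) (kgi xgi12 ygi13 zgi17) (kgi xgi17 ygi43 zgi33) (kgi xgi25 ygi37 zgi48) (kgi xgi12 ygi52 zgi16) (kgi xgi15 ygi44 zgi11) (kgi xgi15 ygi46 zgi47) (kgi xgi15 ygi48 zgi53) (kgi xgi15 ygi48 zgi54) (kgi xgi16 ygi6 zgi55) (kgi xgi12 ygi28 zgi15) (kgi xgi8 ygi21 zgi7) (kgi xgi25 ygi39 zgi26) (kgi xgi12 ygi48 zgi33) (kgi xgi16 ygi4 zgi10) (kgi xgi25 ygi39 zgi27) (kgi xgi8 ygi21 zgi10) (kgi xgi15 ygi40 zgi8) (kgi xgi8 ygi21 zgi12) (kgi xgi11 ygi52 zgi8) (kgi xgi11 ygi52 zgi6)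 (kgi xgi19 ygi17 zgi1) (kgi xgi25 ygi39 zgi35) (kgi xgi24 ygi32 zgi52) (kgi xgi25 ygi37 zgi3) (kgi xgi21 ygi49 zgi19) (kgi xgi8 ygi21 zgi18) (kgi xgi16 ygi3 zgi3) (kgi xgi16 ygi3 zgi1) (kgi xgi23 ygi36 zgi3) (kgi xgi23 ygi36 zgi24) (kgi xgi8 ygi21 zgi21) (kgi xgi16 ygi3 zgi7) (kgi xgi16 ygi3 zgi5) (kgi xgi21 ygi59 zgi6) (kgi xgi13 ygi53 zgi5) (kgi xgi15 ygi44 zgi34) (kgi xgi16 ygi2 zgi54) (kgi xgi25 ygi39 zgi50) (kgi xgi16 ygi3 zgi12) (kgi xgi16 ygi3 zgi11) (kgi xgi25 ygi39 zgi43) (kgi xgi22 ygi40 zgi23) (kgi xgi12 ygi56 zgi13) (kgi xgi22 ygi9 zgi60) (kgi xgi13 ygi38 zgi41) (kgi xgi8 ygi21 zgi31) (kgi xgi14 ygi6 zgi14) (kgi xgi25 ygi40 zgi0) (kgi xgi23 ygi26 zgi29) (kgi xgi25 ygi39 zgi44) (kgi xgi25 ygi38 zgi34) (kgi xgi8 ygi21 zgi33)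 (kgi xgi21 ygi49 zgi18) (kgi xgi25 ygi40 zgi17) (kgi xgi8 ygi25 zgi12) (kgi xgi22 ygi45 zgi0) (kgi xgi23 ygi41 zgi17) (kgi xgi10 ygi30 zgi58) (kgi xgi8 ygi23 zgi50) (kgi xgi10 ygi15 zgi61)) (@D3.rec (fun _ => Pt) (kgi xgi10 ygi36 zgi12) (kgi xgi10 ygi33 zgi61) (kgi xgi8 ygi21 zgi38) (kgi xgi10 ygi35 zgi54) (kgi xgi25 ygi40 zgi30) (kgi xgi19 ygi2 zgi53) (kgi xgi10 ygi35 zgi51) (kgi xgi8 ygi21 zgi40) (kgi xgi10 ygi35 zgi60) (kgi xgi10 ygi35 zgi58) (kgi xgi23 ygi30 zgi38) (kgi xgi15 ygi43 zgi5) (kgi xgi16 ygi2 zgi47) (kgi xgi16 ygi7 zgi3) (kgi xgi10 ygi51 zgi10) (kgi xgi9 ygi1 zgi4) (kgi xgi11 ygi10 zgi9) (kgi xgi8 ygi21 zgi49) (kgi xgi25 ygi40 zgi39) (kgi xgi20 ygi18 zgi48) (kgi xgi19 ygi26 zgi55) (kgi xgi25 ygi40 zgi40) (kgi xgi11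 ygi9 zgi61) (kgi xgi10 ygi37 zgi51) (kgi xgi8 ygi22 zgi29) (kgi xgi16 ygi43 zgi48) (kgi xgi8 ygi21 zgi55) (kgi xgi16 ygi6 zgi0) (kgi xgi16 ygi5 zgi60) (kgi xgi25 ygi40 zgi50) (kgi xgi12 ygi40 zgi27) (kgi xgi25 ygi40 zgi52) (kgi xgi8 ygi21 zgi57) (kgi xgi8 ygi22 zgi13) (kgi xgi25 ygi40 zgi56) (kgi xgi8 ygi22 zgi10) (kgi xgi10 ygi32 zgi34) (kgi xgi19 ygi5 zgi61) (kgi xgi8 ygi21 zgi61) (kgi xgi16 ygi6 zgi10) (kgi xgi16 ygi6 zgi8) (kgi xgi25 ygi41 zgi9) (kgi xgi25 ygi41 zgi12) (kgi xgi8 ygi22 zgi1) (kgi xgi16 ygi6 zgi11) (kgi xgi24 ygi45 zgi20) (kgi xgi16 ygi7 zgi7) (kgi xgi25 ygi41 zgi1) (kgi xgi14 ygi37 zgi28) (kgi xgi8 ygi22 zgi5) (kgi xgi16 ygi6 zgi19) (kgi xgi19 ygi51 zgi60) (kgi xgi19 ygi14 zgi38) (kgi xgi12 ygi40 zgi32) (kgi xgi25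 ygi41 zgi5) (kgi xgi25 ygi41 zgi28) (kgi xgi18 ygi27 zgi44) (kgi xgi24 ygi37 zgi50) (kgi xgi8 ygi22 zgi9) (kgi xgi25 ygi40 zgi54) (kgi xgi25 ygi41 zgi40) (kgi xgi25 ygi40 zgi51)) (@D3.rec (fun _ => Pt) (kgi xgi25 ygi41 zgi6) (kgi xgi9 ygi33 zgi51) (kgi xgi19 ygi16 zgi30) (kgi xgi8 ygi22 zgi50) (kgi xgi21 ygi10 zgi21) (kgi xgi19 ygi15 zgi59) (kgi xgi19 ygi16 zgi31) (kgi xgi22 ygi27 zgi9) (kgi xgi8 ygi22 zgi12) (kgi xgi25 ygi40 zgi58) (kgi xgi25 ygi41 zgi55) (kgi xgi15 ygi43 zgi37) (kgi xgi19 ygi7 zgi44) (kgi xgi8 ygi22 zgi15) (kgi xgi24 ygi43 zgi21) (kgi xgi12 ygi48 zgi24) (kgi xgi20 ygi54 zgi49) (kgi xgi19 ygi8 zgi15) (kgi xgi21 ygi8 zgi47) (kgi xgi19 ygi16 zgi35) (kgi xgi25 ygi37 zgi1) (kgi xgi10 ygi31 zgi24) (kgi xgi20 ygi28 zgi15)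 (kgi xgi19 ygi23 zgi24) (kgi xgi11 ygi19 zgi25) (kgi xgi21 ygi32 zgi35) (kgi xgi8 ygi23 zgi35) (kgi xgi10 ygi32 zgi35) (kgi xgi12 ygi4 zgi46) (kgi xgi19 ygi25 zgi50) (kgi xgi10 ygi53 zgi6) (kgi xgi9 ygi8 zgi60) (kgi xgi19 ygi52 zgi50) (kgi xgi17 ygi3 zgi33) (kgi xgi8 ygi22 zgi31) (kgi xgi14 ygi2 zgi19) (kgi xgi21 ygi5 zgi61) (kgi xgi25 ygi42 zgi14) (kgi xgi8 ygi22 zgi33) (kgi xgi15 ygi42 zgi52) (kgi xgi8 ygi22 zgi47) (kgi xgi9 ygi37 zgi54) (kgi xgi8 ygi22 zgi36) (kgi xgi16 ygi5 zgi14) (kgi xgi16 ygi5 zgi12) (kgi xgi8 ygi22 zgi37) (kgi xgi16 ygi5 zgi19) (kgi xgi16 ygi5 zgi17) (kgi xgi25 ygi42 zgi27) (kgi xgi25 ygi41 zgi11) (kgi xgi23 ygi22 zgi47) (kgi xgi14 ygi3 zgi2) (kgi xgi21 ygi28 zgi15) (kgi xgi8 ygi22 zgi42) (kgi xgi17 ygi21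 zgi14) (kgi xgi22 ygi32 zgi31) (kgi xgi23 ygi23 zgi10) (kgi xgi21 ygi18 zgi27) (kgi xgi25 ygi42 zgi33) (kgi xgi8 ygi22 zgi46) (kgi xgi25 ygi42 zgi15) (kgi xgi25 ygi42 zgi41)) (@D3.rec (fun _ => Pt) (kgi xgi25 ygi42 zgi13) (kgi xgi25 ygi42 zgi23) (kgi xgi21 ygi0 zgi43) (kgi xgi25 ygi42 zgi45) (kgi xgi8 ygi22 zgi49) (kgi xgi25 ygi42 zgi18) (kgi xgi24 ygi42 zgi31) (kgi xgi15 ygi42 zgi55) (kgi xgi8 ygi22 zgi51) (kgi xgi24 ygi49 zgi13) (kgi xgi25 ygi42 zgi1) (kgi xgi12 ygi12 zgi32) (kgi xgi23 ygi29 zgi9) (kgi xgi8 ygi22 zgi55) (kgi xgi17 ygi55 zgi43) (kgi xgi21 ygi27 zgi53) (kgi xgi21 ygi21 zgi45) (kgi xgi25 ygi30 zgi46) (kgi xgi12 ygi25 zgi32) (kgi xgi19 ygi5 zgi47) (kgi xgi9 ygi37 zgi17) (kgi xgi15 ygi24 zgi2) (kgi xgi17 ygi42 zgi20)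 (kgi xgi25 ygi43 zgi5) (kgi xgi12 ygi14 zgi24) (kgi xgi8 ygi35 zgi11) (kgi xgi8 ygi23 zgi20) (kgi xgi25 ygi34 zgi23) (kgi xgi16 ygi4 zgi61) (kgi xgi16 ygi16 zgi41) (kgi xgi20 ygi4 zgi13) (kgi xgi25 ygi32 zgi50) (kgi xgi25 ygi25 zgi5) (kgi xgi15 ygi47 zgi16) (kgi xgi15 ygi33 zgi7) (kgi xgi25 ygi32 zgi55) (kgi xgi16 ygi17 zgi10) (kgi xgi25 ygi43 zgi16) (kgi xgi19 ygi53 zgi21) (kgi xgi16 ygi17 zgi6) (kgi xgi8 ygi23 zgi18) (kgi xgi8 ygi23 zgi30) (kgi xgi23 ygi11 zgi30) (kgi xgi25 ygi43 zgi23) (kgi xgi22 ygi2 zgi0) (kgi xgi17 ygi28 zgi61) (kgi xgi10 ygi52 zgi2) (kgi xgi9 ygi28 zgi4) (kgi xgi17 ygi37 zgi47) (kgi xgi22 ygi9 zgi54) (kgi xgi17 ygi22 zgi6) (kgi xgi10 ygi58 zgi5) (kgi xgi16 ygi4 zgi60) (kgi xgi15 ygi35 zgi26) (kgi xgi25 ygi27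 zgi49) (kgi xgi25 ygi35 zgi45) (kgi xgi24 ygi8 zgi3) (kgi xgi12 ygi0 zgi19) (kgi xgi8 ygi30 zgi23) (kgi xgi17 ygi25 zgi36) (kgi xgi8 ygi30 zgi2) (kgi xgi8 ygi32 zgi16)) (@D3.rec (fun _ => Pt) (kgi xgi15 ygi40 zgi41) (kgi xgi17 ygi39 zgi2) (kgi xgi25 ygi43 zgi42) (kgi xgi8 ygi31 zgi11) (kgi xgi25 ygi43 zgi41) (kgi xgi25 ygi43 zgi48) (kgi xgi15 ygi58 zgi13) (kgi xgi16 ygi16 zgi8) (kgi xgi19 ygi38 zgi56) (kgi xgi8 ygi23 zgi41) (kgi xgi8 ygi32 zgi15) (kgi xgi22 ygi7 zgi26) (kgi xgi25 ygi43 zgi59) (kgi xgi8 ygi23 zgi42) (kgi xgi15 ygi16 zgi51) (kgi xgi15 ygi16 zgi48) (kgi xgi22 ygi8 zgi20) (kgi xgi15 ygi46 zgi33) (kgi xgi25 ygi34 zgi3) (kgi xgi9 ygi20 zgi9) (kgi xgi16 ygi6 zgi44) (kgi xgi16 ygi6 zgi58) (kgi xgi12 ygi15 zgi57) (kgi xgi9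 ygi20 zgi48) (kgi xgi16 ygi6 zgi18) (kgi xgi25 ygi44 zgi8) (kgi xgi25 ygi40 zgi14) (kgi xgi8 ygi23 zgi49) (kgi xgi15 ygi42 zgi56) (kgi xgi18 ygi40 zgi6) (kgi xgi25 ygi44 zgi15) (kgi xgi8 ygi23 zgi58) (kgi xgi10 ygi17 zgi38) (kgi xgi10 ygi17 zgi35) (kgi xgi10 ygi50 zgi17) (kgi xgi8 ygi38 zgi35) (kgi xgi8 ygi23 zgi61) (kgi xgi15 ygi24 zgi7) (kgi xgi15 ygi24 zgi5) (kgi xgi25 ygi44 zgi24) (kgi xgi12 ygi54 zgi44) (kgi xgi16 ygi42 zgi22) (kgi xgi8 ygi24 zgi1) (kgi xgi8 ygi25 zgi9) (kgi xgi12 ygi43 zgi34) (kgi xgi8 ygi40 zgi12) (kgi xgi15 ygi47 zgi53) (kgi xgi9 ygi39 zgi1) (kgi xgi8 ygi24 zgi3) (kgi xgi12 ygi20 zgi47) (kgi xgi25 ygi44 zgi30) (kgi xgi25 ygi44 zgi33) (kgi xgi12 ygi19 zgi31) (kgi xgi9 ygi37 zgi30) (kgi xgi17 ygi38 zgi27) (kgi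 xgi19 ygi16 zgi32) (kgi xgi8 ygi24 zgi10) (kgi xgi16 ygi8 zgi50) (kgi xgi16 ygi8 zgi48) (kgi xgi24 ygi51 zgi53) (kgi xgi17 ygi52 zgi36) (kgi xgi23 ygi13 zgi10)) (@D3.rec (fun _ => Pt) (kgi xgi8 ygi24 zgi12) (kgi xgi16 ygi9 zgi4) (kgi xgi24 ygi44 zgi59) (kgi xgi16 ygi9 zgi1) (kgi xgi8 ygi24 zgi25) (kgi xgi15 ygi29 zgi35) (kgi xgi16 ygi7 zgi22) (kgi xgi16 ygi9 zgi16) (kgi xgi25 ygi44 zgi50) (kgi xgi21 ygi40 zgi45) (kgi xgi25 ygi44 zgi52) (kgi xgi8 ygi25 zgi41) (kgi xgi21 ygi37 zgi35) (kgi xgi8 ygi30 zgi50) (kgi xgi8 ygi25 zgi37) (kgi xgi8 ygi24 zgi23) (kgi xgi12 ygi35 zgi39) (kgi xgi16 ygi9 zgi7) (kgi xgi16 ygi14 zgi4) (kgi xgi21 ygi36 zgi23) (kgi xgi9 ygi36 zgi45) (kgi xgi11 ygi10 zgi43) (kgi xgi8 ygi24 zgi26) (kgi xgi16 ygi9 zgi13)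 (kgi xgi16 ygi9 zgi11) (kgi xgi17 ygi51 zgi58) (kgi xgi21 ygi36 zgi11) (kgi xgi21 ygi48 zgi5) (kgi xgi23 ygi2 zgi49) (kgi xgi11 ygi51 zgi15) (kgi xgi25 ygi45 zgi0) (kgi xgi16 ygi51 zgi11) (kgi xgi25 ygi45 zgi4) (kgi xgi17 ygi6 zgi46) (kgi xgi25 ygi45 zgi8) (kgi xgi25 ygi45 zgi10) (kgi xgi8 ygi24 zgi35) (kgi xgi25 ygi44 zgi34) (kgi xgi25 ygi44 zgi32) (kgi xgi23 ygi2 zgi45) (kgi xgi12 ygi21 zgi8) (kgi xgi25 ygi44 zgi47) (kgi xgi15 ygi24 zgi38) (kgi xgi8 ygi24 zgi39) (kgi xgi21 ygi27 zgi54) (kgi xgi12 ygi18 zgi51) (kgi xgi18 ygi58 zgi22) (kgi xgi10 ygi14 zgi38) (kgi xgi8 ygi30 zgi37) (kgi xgi17 ygi44 zgi54) (kgi xgi25 ygi36 zgi56) (kgi xgi10 ygi27 zgi52) (kgi xgi25 ygi15 zgi20) (kgi xgi8 ygi24 zgi46) (kgi xgi12 ygi19 zgi6) (kgi xgi9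 ygi36 zgi7) (kgi xgi12 ygi17 zgi34) (kgi xgi25 ygi45 zgi24) (kgi xgi8 ygi24 zgi48) (kgi xgi16 ygi15 zgi55) (kgi xgi8 ygi41 zgi16) (kgi xgi17 ygi37 zgi27)) (@D3.rec (fun _ => Pt) (kgi xgi17 ygi36 zgi25) (kgi xgi9 ygi37 zgi49) (kgi xgi16 ygi7 zgi25) (kgi xgi17 ygi37 zgi38) (kgi xgi9 ygi37 zgi47) (kgi xgi11 ygi9 zgi45) (kgi xgi16 ygi9 zgi40) (kgi xgi23 ygi22 zgi10) (kgi xgi9 ygi39 zgi11) (kgi xgi8 ygi25 zgi2) (kgi xgi24 ygi45 zgi45) (kgi xgi25 ygi45 zgi33) (kgi xgi12 ygi14 zgi47) (kgi xgi20 ygi2 zgi4) (kgi xgi9 ygi11 zgi52) (kgi xgi8 ygi25 zgi10) (kgi xgi12 ygi20 zgi44) (kgi xgi16 ygi7 zgi18) (kgi xgi8 ygi43 zgi13) (kgi xgi20 ygi36 zgi21) (kgi xgi16 ygi7 zgi21) (kgi xgi8 ygi25 zgi15) (kgi xgi16 ygi7 zgi28) (kgi xgi22 ygi3 zgi0) (kgi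 xgi25 ygi45 zgi40) (kgi xgi15 ygi36 zgi36) (kgi xgi25 ygi45 zgi43) (kgi xgi8 ygi25 zgi18) (kgi xgi10 ygi50 zgi27) (kgi xgi8 ygi25 zgi19) (kgi xgi16 ygi7 zgi34) (kgi xgi16 ygi7 zgi32) (kgi xgi12 ygi43 zgi36) (kgi xgi9 ygi11 zgi53) (kgi xgi12 ygi53 zgi30) (kgi xgi9 ygi38 zgi51) (kgi xgi8 ygi25 zgi24) (kgi xgi16 ygi7 zgi38) (kgi xgi11 ygi18 zgi50) (kgi xgi25 ygi45 zgi50) (kgi xgi11 ygi11 zgi1) (kgi xgi21 ygi32 zgi2) (kgi xgi25 ygi45 zgi52) (kgi xgi16 ygi13 zgi56) (kgi xgi9 ygi11 zgi32) (kgi xgi25 ygi45 zgi54) (kgi xgi23 ygi2 zgi53) (kgi xgi12 ygi59 zgi52) (kgi xgi21 ygi57 zgi52) (kgi xgi25 ygi45 zgi57) (kgi xgi18 ygi42 zgi55) (kgi xgi21 ygi33 zgi28) (kgi xgi11 ygi21 zgi43) (kgi xgi8 ygi33 zgi40) (kgi xgi21 ygi51 zgi54) (kgi xgi21 ygi38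 zgi0) (kgi xgi14 ygi3 zgi30) (kgi xgi14 ygi57 zgi3) (kgi xgi25 ygi45 zgi61) (kgi xgi8 ygi25 zgi46) (kgi xgi10 ygi38 zgi60) (kgi xgi10 ygi38 zgi58)) (@D3.rec (fun _ => Pt) (kgi xgi25 ygi46 zgi5) (kgi xgi10 ygi22 zgi59) (kgi xgi25 ygi10 zgi27) (kgi xgi17 ygi52 zgi47) (kgi xgi25 ygi11 zgi33) (kgi xgi10 ygi1 zgi27) (kgi xgi13 ygi46 zgi28) (kgi xgi18 ygi24 zgi5) (kgi xgi25 ygi0 zgi12) (kgi xgi10 ygi17 zgi32) (kgi xgi25 ygi46 zgi17) (kgi xgi8 ygi25 zgi58) (kgi xgi8 ygi26 zgi1) (kgi xgi25 ygi46 zgi20) (kgi xgi16 ygi30 zgi59) (kgi xgi16 ygi10 zgi39) (kgi xgi19 ygi59 zgi8) (kgi xgi25 ygi46 zgi26) (kgi xgi8 ygi25 zgi61) (kgi xgi20 ygi32 zgi35) (kgi xgi17 ygi55 zgi25) (kgi xgi25 ygi46 zgi31) (kgi xgi25 ygi46 zgi33) (kgi xgi8 ygi38 zgi20) (kgi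 xgi8 ygi26 zgi0) (kgi xgi25 ygi46 zgi25) (kgi xgi25 ygi46 zgi24) (kgi xgi23 ygi25 zgi34) (kgi xgi8 ygi26 zgi2) (kgi xgi15 ygi14 zgi21) (kgi xgi14 ygi8 zgi38) (kgi xgi18 ygi29 zgi11) (kgi xgi15 ygi13 zgi61) (kgi xgi12 ygi7 zgi24) (kgi xgi25 ygi46 zgi40) (kgi xgi21 ygi53 zgi55) (kgi xgi16 ygi22 zgi50) (kgi xgi13 ygi51 zgi17) (kgi xgi8 ygi26 zgi7) (kgi xgi15 ygi23 zgi59) (kgi xgi24 ygi53 zgi1) (kgi xgi10 ygi2 zgi37) (kgi xgi8 ygi26 zgi10) (kgi xgi10 ygi7 zgi24) (kgi xgi8 ygi26 zgi11) (kgi xgi10 ygi8 zgi17) (kgi xgi8 ygi26 zgi12) (kgi xgi18 ygi46 zgi38) (kgi xgi18 ygi46 zgi37) (kgi xgi12 ygi3 zgi41) (kgi xgi17 ygi24 zgi27) (kgi xgi8 ygi44 zgi45) (kgi xgi25 ygi46 zgi50) (kgi xgi8 ygi26 zgi17) (kgi xgi11 ygi54 zgi57) (kgi xgi8 ygi26 zgi18)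 (kgi xgi15 ygi11 zgi38) (kgi xgi24 ygi40 zgi32) (kgi xgi10 ygi22 zgi57) (kgi xgi22 ygi38 zgi58) (kgi xgi20 ygi11 zgi47) (kgi xgi8 ygi26 zgi38)) (@D3.rec (fun _ => Pt) (kgi xgi8 ygi26 zgi55) (kgi xgi8 ygi26 zgi52) (kgi xgi8 ygi26 zgi24) (kgi xgi10 ygi53 zgi41) (kgi xgi10 ygi53 zgi39) (kgi xgi25 ygi46 zgi59) (kgi xgi25 ygi46 zgi61) (kgi xgi8 ygi26 zgi26) (kgi xgi8 ygi26 zgi27) (kgi xgi19 ygi35 zgi9) (kgi xgi15 ygi25 zgi27) (kgi xgi14 ygi23 zgi24) (kgi xgi8 ygi26 zgi29) (kgi xgi19 ygi16 zgi28) (kgi xgi21 ygi0 zgi47) (kgi xgi12 ygi3 zgi59) (kgi xgi21 ygi20 zgi33) (kgi xgi25 ygi47 zgi10) (kgi xgi8 ygi30 zgi39) (kgi xgi8 ygi26 zgi33) (kgi xgi9 ygi34 zgi7) (kgi xgi8 ygi26 zgi34) (kgi xgi10 ygi50 zgi40) (kgi xgi8 ygi26 zgi35) (kgi xgi17 ygi50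 zgi6) (kgi xgi15 ygi52 zgi30) (kgi xgi8 ygi26 zgi41) (kgi xgi15 ygi22 zgi56) (kgi xgi21 ygi58 zgi14) (kgi xgi8 ygi31 zgi8) (kgi xgi19 ygi28 zgi45) (kgi xgi16 ygi44 zgi56) (kgi xgi25 ygi47 zgi22) (kgi xgi24 ygi14 zgi30) (kgi xgi8 ygi26 zgi49) (kgi xgi17 ygi51 zgi9) (kgi xgi17 ygi51 zgi7) (kgi xgi25 ygi35 zgi12) (kgi xgi18 ygi47 zgi30) (kgi xgi10 ygi25 zgi4) (kgi xgi18 ygi13 zgi40) (kgi xgi19 ygi42 zgi15) (kgi xgi18 ygi27 zgi60) (kgi xgi8 ygi26 zgi56) (kgi xgi16 ygi41 zgi1) (kgi xgi16 ygi40 zgi36) (kgi xgi16 ygi40 zgi37) (kgi xgi25 ygi47 zgi30) (kgi xgi25 ygi47 zgi33) (kgi xgi25 ygi47 zgi37) (kgi xgi23 ygi46 zgi34) (kgi xgi16 ygi46 zgi27) (kgi xgi8 ygi27 zgi4) (kgi xgi17 ygi21 zgi31) (kgi xgi8 ygi57 zgi57) (kgi xgi15 ygi2 zgi18) (kgi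 xgi10 ygi24 zgi8) (kgi xgi10 ygi24 zgi6) (kgi xgi8 ygi27 zgi2) (kgi xgi10 ygi53 zgi27) (kgi xgi10 ygi53 zgi25) (kgi xgi19 ygi28 zgi32)) (@D3.rec (fun _ => Pt) (kgi xgi25 ygi47 zgi44) (kgi xgi19 ygi38 zgi57) (kgi xgi19 ygi24 zgi4) (kgi xgi8 ygi57 zgi54) (kgi xgi8 ygi27 zgi5) (kgi xgi8 ygi27 zgi7) (kgi xgi25 ygi47 zgi48) (kgi xgi15 ygi20 zgi32) (kgi xgi10 ygi53 zgi60) (kgi xgi10 ygi54 zgi7) (kgi xgi8 ygi27 zgi9) (kgi xgi10 ygi53 zgi44) (kgi xgi19 ygi30 zgi12) (kgi xgi25 ygi48 zgi1) (kgi xgi25 ygi48 zgi4) (kgi xgi8 ygi27 zgi8) (kgi xgi19 ygi6 zgi58) (kgi xgi25 ygi48 zgi9) (kgi xgi25 ygi48 zgi14) (kgi xgi22 ygi20 zgi19) (kgi xgi14 ygi28 zgi2) (kgi xgi25 ygi48 zgi16) (kgi xgi25 ygi48 zgi17) (kgi xgi8 ygi27 zgi12) (kgi xgi25 ygi47 zgi0)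 (kgi xgi25 ygi46 zgi60) (kgi xgi25 ygi48 zgi26) (kgi xgi10 ygi43 zgi58) (kgi xgi15 ygi51 zgi25) (kgi xgi19 ygi56 zgi57) (kgi xgi25 ygi48 zgi27) (kgi xgi17 ygi51 zgi14) (kgi xgi8 ygi27 zgi17) (kgi xgi17 ygi35 zgi55) (kgi xgi17 ygi35 zgi53) (kgi xgi25 ygi48 zgi33) (kgi xgi25 ygi48 zgi36) (kgi xgi8 ygi27 zgi19) (kgi xgi11 ygi56 zgi60) (kgi xgi15 ygi20 zgi29) (kgi xgi11 ygi56 zgi57) (kgi xgi9 ygi44 zgi29) (kgi xgi8 ygi27 zgi23) (kgi xgi14 ygi50 zgi54) (kgi xgi15 ygi17 zgi3) (kgi xgi25 ygi48 zgi46) (kgi xgi24 ygi38 zgi24) (kgi xgi15 ygi34 zgi24) (kgi xgi8 ygi27 zgi25) (kgi xgi15 ygi17 zgi2) (kgi xgi25 ygi8 zgi31) (kgi xgi15 ygi16 zgi44) (kgi xgi15 ygi22 zgi18) (kgi xgi8 ygi27 zgi29) (kgi xgi8 ygi27 zgi31) (kgi xgi19 ygi26 zgi42) (kgi xgi25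 ygi48 zgi58) (kgi xgi19 ygi57 zgi8) (kgi xgi25 ygi6 zgi41) (kgi xgi8 ygi27 zgi33) (kgi xgi25 ygi6 zgi35) (kgi xgi19 ygi16 zgi2)) (@D3.rec (fun _ => Pt) (kgi xgi25 ygi48 zgi60) (kgi xgi25 ygi49 zgi5) (kgi xgi25 ygi7 zgi40) (kgi xgi8 ygi27 zgi32) (kgi xgi25 ygi7 zgi42) (kgi xgi25 ygi49 zgi8) (kgi xgi8 ygi27 zgi34) (kgi xgi15 ygi53 zgi9) (kgi xgi15 ygi54 zgi59) (kgi xgi15 ygi53 zgi6) (kgi xgi25 ygi12 zgi32) (kgi xgi14 ygi0 zgi47) (kgi xgi20 ygi2 zgi42) (kgi xgi20 ygi2 zgi56) (kgi xgi25 ygi49 zgi10) (kgi xgi24 ygi36 zgi53) (kgi xgi20 ygi2 zgi59) (kgi xgi13 ygi10 zgi25) (kgi xgi25 ygi12 zgi46) (kgi xgi11 ygi4 zgi28) (kgi xgi15 ygi55 zgi1) (kgi xgi8 ygi27 zgi41) (kgi xgi13 ygi43 zgi37) (kgi xgi13 ygi43 zgi35) (kgi xgi15 ygi22 zgi35) (kgi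 xgi8 ygi38 zgi32) (kgi xgi9 ygi53 zgi38) (kgi xgi8 ygi27 zgi47) (kgi xgi11 ygi32 zgi47) (kgi xgi8 ygi27 zgi49) (kgi xgi14 ygi50 zgi57) (kgi xgi8 ygi27 zgi51) (kgi xgi14 ygi50 zgi25) (kgi xgi25 ygi14 zgi41) (kgi xgi25 ygi49 zgi35) (kgi xgi25 ygi49 zgi36) (kgi xgi15 ygi3 zgi18) (kgi xgi10 ygi32 zgi32) (kgi xgi15 ygi3 zgi15) (kgi xgi9 ygi51 zgi31) (kgi xgi18 ygi3 zgi40) (kgi xgi19 ygi20 zgi3) (kgi xgi18 ygi3 zgi6) (kgi xgi9 ygi53 zgi40) (kgi xgi25 ygi12 zgi60) (kgi xgi19 ygi53 zgi57) (kgi xgi15 ygi21 zgi53) (kgi xgi15 ygi21 zgi2) (kgi xgi15 ygi54 zgi33) (kgi xgi25 ygi37 zgi10) (kgi xgi8 ygi27 zgi60) (kgi xgi25 ygi49 zgi44) (kgi xgi22 ygi5 zgi6) (kgi xgi24 ygi38 zgi5) (kgi xgi15 ygi20 zgi59) (kgi xgi25 ygi49 zgi48) (kgi xgi25 ygi13 zgi2)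 (kgi xgi25 ygi49 zgi47) (kgi xgi15 ygi21 zgi52) (kgi xgi8 ygi28 zgi1) (kgi xgi15 ygi20 zgi41) (kgi xgi16 ygi4 zgi21)) (@D3.rec (fun _ => Pt) (kgi xgi15 ygi20 zgi38) (kgi xgi9 ygi53 zgi11) (kgi xgi15 ygi23 zgi34) (kgi xgi25 ygi49 zgi60) (kgi xgi15 ygi14 zgi31) (kgi xgi15 ygi9 zgi35) (kgi xgi11 ygi56 zgi59) (kgi xgi17 ygi45 zgi10) (kgi xgi15 ygi21 zgi27) (kgi xgi25 ygi48 zgi41) (kgi xgi8 ygi28 zgi12) (kgi xgi15 ygi20 zgi55) (kgi xgi8 ygi47 zgi27) (kgi xgi15 ygi20 zgi52) (kgi xgi25 ygi49 zgi7) (kgi xgi10 ygi58 zgi59) (kgi xgi16 ygi46 zgi55) (kgi xgi25 ygi10 zgi35) (kgi xgi25 ygi50 zgi12) (kgi xgi25 ygi50 zgi15) (kgi xgi8 ygi28 zgi24) (kgi xgi19 ygi44 zgi20) (kgi xgi25 ygi50 zgi20) (kgi xgi19 ygi15 zgi50) (kgi xgi19 ygi16 zgi7) (kgi xgi25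 ygi50 zgi26) (kgi xgi11 ygi9 zgi31) (kgi xgi8 ygi28 zgi21) (kgi xgi25 ygi10 zgi41) (kgi xgi17 ygi52 zgi45) (kgi xgi24 ygi58 zgi28) (kgi xgi8 ygi28 zgi23) (kgi xgi10 ygi58 zgi50) (kgi xgi15 ygi53 zgi45) (kgi xgi9 ygi0 zgi0) (kgi xgi25 ygi50 zgi39) (kgi xgi25 ygi50 zgi19) (kgi xgi25 ygi50 zgi45) (kgi xgi25 ygi49 zgi18) (kgi xgi25 ygi14 zgi29) (kgi xgi25 ygi11 zgi27) (kgi xgi25 ygi50 zgi51) (kgi xgi25 ygi11 zgi28) (kgi xgi25 ygi50 zgi55) (kgi xgi19 ygi49 zgi14) (kgi xgi10 ygi40 zgi48) (kgi xgi15 ygi20 zgi16) (kgi xgi8 ygi58 zgi19) (kgi xgi25 ygi50 zgi60) (kgi xgi8 ygi28 zgi30) (kgi xgi25 ygi50 zgi56) (kgi xgi25 ygi50 zgi54) (kgi xgi8 ygi28 zgi31) (kgi xgi19 ygi16 zgi27) (kgi xgi19 ygi16 zgi42) (kgi xgi25 ygi51 zgi14) (kgi xgi21 ygi9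 zgi58) (kgi xgi25 ygi9 zgi0) (kgi xgi15 ygi20 zgi15) (kgi xgi8 ygi28 zgi35) (kgi xgi15 ygi53 zgi8) (kgi xgi25 ygi7 zgi51)) (@D3.rec (fun _ => Pt) (kgi xgi15 ygi53 zgi20) (kgi xgi21 ygi1 zgi59) (kgi xgi8 ygi28 zgi40) (kgi xgi15 ygi56 zgi12) (kgi xgi14 ygi24 zgi15) (kgi xgi20 ygi12 zgi9) (kgi xgi14 ygi25 zgi9) (kgi xgi10 ygi19 zgi49) (kgi xgi8 ygi28 zgi42) (kgi xgi10 ygi43 zgi8) (kgi xgi25 ygi47 zgi39) (kgi xgi10 ygi43 zgi5) (kgi xgi10 ygi19 zgi59) (kgi xgi25 ygi51 zgi28) (kgi xgi8 ygi28 zgi46) (kgi xgi13 ygi23 zgi33) (kgi xgi15 ygi56 zgi16) (kgi xgi13 ygi23 zgi31) (kgi xgi14 ygi24 zgi9) (kgi xgi25 ygi51 zgi34) (kgi xgi8 ygi28 zgi48) (kgi xgi10 ygi44 zgi6) (kgi xgi19 ygi30 zgi6) (kgi xgi10 ygi44 zgi3) (kgi xgi8 ygi28 zgi54) (kgi xgi15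 ygi56 zgi26) (kgi xgi8 ygi31 zgi27) (kgi xgi8 ygi28 zgi52) (kgi xgi13 ygi45 zgi54) (kgi xgi15 ygi56 zgi27) (kgi xgi11 ygi45 zgi48) (kgi xgi20 ygi17 zgi31) (kgi xgi23 ygi4 zgi12) (kgi xgi19 ygi29 zgi4) (kgi xgi10 ygi44 zgi7) (kgi xgi8 ygi28 zgi55) (kgi xgi15 ygi56 zgi21) (kgi xgi15 ygi56 zgi19) (kgi xgi21 ygi51 zgi15) (kgi xgi14 ygi32 zgi20) (kgi xgi25 ygi51 zgi51) (kgi xgi14 ygi11 zgi0) (kgi xgi15 ygi56 zgi18) (kgi xgi8 ygi28 zgi58) (kgi xgi8 ygi28 zgi60) (kgi xgi21 ygi0 zgi54) (kgi xgi25 ygi51 zgi58) (kgi xgi19 ygi23 zgi41) (kgi xgi25 ygi51 zgi42) (kgi xgi8 ygi29 zgi0) (kgi xgi19 ygi26 zgi19) (kgi xgi16 ygi26 zgi7) (kgi xgi25 ygi52 zgi2) (kgi xgi8 ygi28 zgi61) (kgi xgi25 ygi51 zgi53) (kgi xgi15 ygi8 zgi32) (kgi xgi25 ygi52 zgi1)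 (kgi xgi25 ygi52 zgi12) (kgi xgi17 ygi23 zgi56) (kgi xgi15 ygi50 zgi60) (kgi xgi21 ygi30 zgi35) (kgi xgi25 ygi52 zgi16)) (@D3.rec (fun _ => Pt) (kgi xgi17 ygi24 zgi34) (kgi xgi8 ygi29 zgi5) (kgi xgi8 ygi56 zgi25) (kgi xgi25 ygi52 zgi23) (kgi xgi8 ygi57 zgi59) (kgi xgi8 ygi29 zgi7) (kgi xgi8 ygi29 zgi8) (kgi xgi25 ygi20 zgi40) (kgi xgi25 ygi20 zgi38) (kgi xgi25 ygi52 zgi32) (kgi xgi19 ygi55 zgi31) (kgi xgi15 ygi55 zgi4) (kgi xgi15 ygi55 zgi2) (kgi xgi24 ygi29 zgi37) (kgi xgi19 ygi28 zgi33) (kgi xgi24 ygi1 zgi50) (kgi xgi8 ygi29 zgi14) (kgi xgi15 ygi55 zgi16) (kgi xgi8 ygi29 zgi24) (kgi xgi8 ygi29 zgi19) (kgi xgi15 ygi55 zgi37) (kgi xgi15 ygi55 zgi35) (kgi xgi12 ygi44 zgi48) (kgi xgi25 ygi52 zgi47) (kgi xgi21 ygi16 zgi39) (kgi xgi25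 ygi32 zgi32) (kgi xgi15 ygi55 zgi24) (kgi xgi8 ygi29 zgi22) (kgi xgi15 ygi55 zgi29) (kgi xgi8 ygi29 zgi25) (kgi xgi8 ygi29 zgi27) (kgi xgi25 ygi52 zgi61) (kgi xgi25 ygi19 zgi41) (kgi xgi17 ygi22 zgi40) (kgi xgi19 ygi25 zgi43) (kgi xgi8 ygi29 zgi29) (kgi xgi22 ygi7 zgi41) (kgi xgi17 ygi22 zgi28) (kgi xgi24 ygi53 zgi5) (kgi xgi25 ygi53 zgi12) (kgi xgi12 ygi44 zgi33) (kgi xgi15 ygi50 zgi50) (kgi xgi25 ygi52 zgi57) (kgi xgi9 ygi16 zgi29) (kgi xgi19 ygi28 zgi19) (kgi xgi8 ygi29 zgi34) (kgi xgi14 ygi57 zgi7) (kgi xgi8 ygi33 zgi15) (kgi xgi25 ygi53 zgi21) (kgi xgi8 ygi29 zgi36) (kgi xgi8 ygi30 zgi60) (kgi xgi8 ygi30 zgi58) (kgi xgi25 ygi53 zgi25) (kgi xgi12 ygi0 zgi13) (kgi xgi17 ygi20 zgi21) (kgi xgi8 ygi29 zgi38) (kgi xgi8 ygi30 zgi34)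 (kgi xgi15 ygi43 zgi17) (kgi xgi8 ygi29 zgi41) (kgi xgi8 ygi30 zgi28) (kgi xgi8 ygi30 zgi26) (kgi xgi25 ygi53 zgi31)) (@D3.rec (fun _ => Pt) (kgi xgi15 ygi35 zgi35) (kgi xgi16 ygi43 zgi26) (kgi xgi8 ygi29 zgi43) (kgi xgi10 ygi52 zgi1) (kgi xgi8 ygi29 zgi46) (kgi xgi14 ygi57 zgi25) (kgi xgi8 ygi34 zgi32) (kgi xgi25 ygi43 zgi45) (kgi xgi8 ygi32 zgi37) (kgi xgi8 ygi29 zgi48) (kgi xgi8 ygi31 zgi38) (kgi xgi8 ygi31 zgi36) (kgi xgi15 ygi59 zgi15) (kgi xgi12 ygi18 zgi7) (kgi xgi8 ygi29 zgi50) (kgi xgi8 ygi31 zgi23) (kgi xgi8 ygi31 zgi20) (kgi xgi8 ygi32 zgi0) (kgi xgi8 ygi29 zgi53) (kgi xgi8 ygi31 zgi14) (kgi xgi8 ygi31 zgi12) (kgi xgi15 ygi58 zgi36) (kgi xgi25 ygi53 zgi45) (kgi xgi25 ygi53 zgi48) (kgi xgi8 ygi29 zgi55) (kgi xgi8 ygi31 zgi45)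 (kgi xgi25 ygi27 zgi5) (kgi xgi8 ygi31 zgi42) (kgi xgi8 ygi30 zgi1) (kgi xgi8 ygi29 zgi58) (kgi xgi8 ygi32 zgi3) (kgi xgi8 ygi32 zgi1) (kgi xgi25 ygi53 zgi60) (kgi xgi25 ygi54 zgi0) (kgi xgi8 ygi29 zgi61) (kgi xgi8 ygi31 zgi53) (kgi xgi8 ygi31 zgi51) (kgi xgi25 ygi54 zgi9) (kgi xgi25 ygi54 zgi13) (kgi xgi25 ygi54 zgi17) (kgi xgi16 ygi3 zgi58) (kgi xgi8 ygi31 zgi46) (kgi xgi8 ygi30 zgi4) (kgi xgi25 ygi54 zgi21) (kgi xgi15 ygi37 zgi57) (kgi xgi15 ygi58 zgi5) (kgi xgi25 ygi13 zgi46) (kgi xgi8 ygi30 zgi6) (kgi xgi25 ygi53 zgi53) (kgi xgi15 ygi17 zgi6) (kgi xgi25 ygi54 zgi25) (kgi xgi21 ygi16 zgi20) (kgi xgi25 ygi48 zgi15) (kgi xgi8 ygi30 zgi5) (kgi xgi25 ygi43 zgi38) (kgi xgi25 ygi54 zgi44) (kgi xgi25 ygi54 zgi39) (kgi xgi25 ygi53 zgi58)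 (kgi xgi9 ygi27 zgi45) (kgi xgi25 ygi54 zgi4) (kgi xgi19 ygi26 zgi10) (kgi xgi8 ygi30 zgi9)) (@D3.rec (fun _ => Pt) (kgi xgi8 ygi32 zgi28) (kgi xgi8 ygi32 zgi26) (kgi xgi8 ygi30 zgi11) (kgi xgi25 ygi43 zgi28) (kgi xgi25 ygi53 zgi20) (kgi xgi15 ygi57 zgi50) (kgi xgi23 ygi10 zgi37) (kgi xgi8 ygi30 zgi13) (kgi xgi10 ygi51 zgi61) (kgi xgi10 ygi51 zgi57) (kgi xgi8 ygi30 zgi22) (kgi xgi15 ygi37 zgi16) (kgi xgi10 ygi52 zgi4) (kgi xgi15 ygi47 zgi8) (kgi xgi9 ygi22 zgi60) (kgi xgi17 ygi26 zgi18) (kgi xgi25 ygi36 zgi48) (kgi xgi8 ygi30 zgi20) (kgi xgi22 ygi9 zgi35) (kgi xgi25 ygi44 zgi49) (kgi xgi25 ygi55 zgi17) (kgi xgi25 ygi55 zgi19) (kgi xgi25 ygi55 zgi22) (kgi xgi10 ygi51 zgi52) (kgi xgi25 ygi31 zgi27) (kgi xgi25 ygi31 zgi25) (kgi xgi25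 ygi55 zgi28) (kgi xgi24 ygi41 zgi17) (kgi xgi25 ygi55 zgi33) (kgi xgi22 ygi3 zgi32) (kgi xgi25 ygi43 zgi31) (kgi xgi25 ygi10 zgi3) (kgi xgi15 ygi57 zgi21) (kgi xgi25 ygi55 zgi2) (kgi xgi25 ygi55 zgi9) (kgi xgi17 ygi42 zgi55) (kgi xgi15 ygi59 zgi45) (kgi xgi22 ygi11 zgi30) (kgi xgi25 ygi53 zgi30) (kgi xgi25 ygi55 zgi48) (kgi xgi8 ygi30 zgi29) (kgi xgi25 ygi53 zgi28) (kgi xgi25 ygi55 zgi56) (kgi xgi22 ygi22 zgi57) (kgi xgi8 ygi30 zgi30) (kgi xgi25 ygi55 zgi50) (kgi xgi25 ygi56 zgi0) (kgi xgi25 ygi55 zgi47) (kgi xgi25 ygi55 zgi13) (kgi xgi25 ygi48 zgi24) (kgi xgi25 ygi55 zgi24) (kgi xgi25 ygi43 zgi37) (kgi xgi24 ygi30 zgi43) (kgi xgi16 ygi2 zgi34) (kgi xgi8 ygi30 zgi36) (kgi xgi13 ygi44 zgi42) (kgi xgi8 ygi30 zgi38) (kgi xgi21 ygi5 zgi22)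 (kgi xgi25 ygi54 zgi60) (kgi xgi8 ygi30 zgi42) (kgi xgi10 ygi25 zgi40) (kgi xgi8 ygi30 zgi44)) (@D3.rec (fun _ => Pt) (kgi xgi10 ygi25 zgi17) (kgi xgi8 ygi30 zgi48) (kgi xgi20 ygi34 zgi59) (kgi xgi21 ygi53 zgi40) (kgi xgi12 ygi35 zgi57) (kgi xgi9 ygi7 zgi49) (kgi xgi11 ygi21 zgi51) (kgi xgi8 ygi30 zgi54) (kgi xgi10 ygi46 zgi7) (kgi xgi10 ygi46 zgi5) (kgi xgi25 ygi56 zgi25) (kgi xgi20 ygi15 zgi6) (kgi xgi15 ygi57 zgi12) (kgi xgi15 ygi37 zgi10) (kgi xgi21 ygi27 zgi40) (kgi xgi16 ygi0 zgi19) (kgi xgi25 ygi56 zgi32) (kgi xgi25 ygi53 zgi24) (kgi xgi15 ygi36 zgi58) (kgi xgi8 ygi30 zgi61) (kgi xgi25 ygi53 zgi23) (kgi xgi25 ygi56 zgi42) (kgi xgi24 ygi5 zgi43) (kgi xgi8 ygi31 zgi0) (kgi xgi17 ygi27 zgi35) (kgi xgi21 ygi31 zgi4) (kgi xgi8 ygi31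 zgi1) (kgi xgi14 ygi18 zgi9) (kgi xgi25 ygi55 zgi25) (kgi xgi9 ygi41 zgi42) (kgi xgi10 ygi48 zgi17) (kgi xgi15 ygi35 zgi10) (kgi xgi25 ygi56 zgi49) (kgi xgi8 ygi31 zgi9) (kgi xgi18 ygi43 zgi60) (kgi xgi18 ygi43 zgi58) (kgi xgi25 ygi56 zgi55) (kgi xgi19 ygi26 zgi47) (kgi xgi25 ygi43 zgi44) (kgi xgi8 ygi35 zgi45) (kgi xgi8 ygi35 zgi38) (kgi xgi16 ygi17 zgi50) (kgi xgi15 ygi41 zgi14) (kgi xgi15 ygi34 zgi29) (kgi xgi16 ygi1 zgi45) (kgi xgi15 ygi58 zgi32) (kgi xgi25 ygi56 zgi60) (kgi xgi8 ygi31 zgi15) (kgi xgi25 ygi53 zgi41) (kgi xgi25 ygi57 zgi4) (kgi xgi25 ygi33 zgi0) (kgi xgi8 ygi31 zgi16) (kgi xgi25 ygi57 zgi0) (kgi xgi25 ygi57 zgi10) (kgi xgi25 ygi56 zgi59) (kgi xgi25 ygi56 zgi53) (kgi xgi25 ygi57 zgi12) (kgi xgi25 ygi56 zgi57) (kgi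 xgi25 ygi57 zgi17) (kgi xgi8 ygi31 zgi19) (kgi xgi8 ygi35 zgi46) (kgi xgi25 ygi56 zgi54))
def fi_g_16 : D2 → D3 → Pt := @D2.rec (fun _ => D3 → Pt) (@D3.rec (fun _ => Pt) (kgi xgi12 ygi50 zgi34) (kgi xgi25 ygi57 zgi23) (kgi xgi15 ygi41 zgi24) (kgi xgi25 ygi54 zgi20) (kgi xgi12 ygi11 zgi59) (kgi xgi8 ygi31 zgi25) (kgi xgi15 ygi41 zgi13) (kgi xgi8 ygi31 zgi30) (kgi xgi25 ygi18 zgi56) (kgi xgi25 ygi18 zgi54) (kgi xgi11 ygi37 zgi49) (kgi xgi17 ygi35 zgi19) (kgi xgi25 ygi57 zgi30) (kgi xgi15 ygi48 zgi45) (kgi xgi9 ygi39 zgi0) (kgi xgi19 ygi7 zgi43) (kgi xgi25 ygi57 zgi33) (kgi xgi12 ygi12 zgi15) (kgi xgi24 ygi19 zgi1) (kgi xgi15 ygi59 zgi12) (kgi xgi8 ygi31 zgi39) (kgi xgi25 ygi53 zgi38) (kgi xgi25 ygi35 zgi58) (kgi xgi23 ygi54 zgi40) (kgi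 xgi12 ygi21 zgi3) (kgi xgi8 ygi31 zgi41) (kgi xgi25 ygi43 zgi43) (kgi xgi25 ygi57 zgi46) (kgi xgi17 ygi25 zgi60) (kgi xgi17 ygi28 zgi4) (kgi xgi10 ygi19 zgi19) (kgi xgi15 ygi33 zgi32) (kgi xgi19 ygi46 zgi31) (kgi xgi25 ygi57 zgi50) (kgi xgi15 ygi36 zgi0) (kgi xgi19 ygi46 zgi7) (kgi xgi25 ygi27 zgi6) (kgi xgi16 ygi19 zgi1) (kgi xgi19 ygi32 zgi28) (kgi xgi21 ygi18 zgi1) (kgi xgi25 ygi57 zgi54) (kgi xgi8 ygi31 zgi49) (kgi xgi10 ygi24 zgi52) (kgi xgi25 ygi58 zgi1) (kgi xgi9 ygi27 zgi14) (kgi xgi10 ygi24 zgi49) (kgi xgi25 ygi43 zgi52) (kgi xgi25 ygi41 zgi4) (kgi xgi8 ygi32 zgi20) (kgi xgi15 ygi41 zgi7) (kgi xgi25 ygi42 zgi22) (kgi xgi25 ygi58 zgi7) (kgi xgi13 ygi43 zgi11) (kgi xgi15 ygi45 zgi27) (kgi xgi25 ygi54 zgi8) (kgi xgi21 ygi46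 zgi13) (kgi xgi8 ygi31 zgi54) (kgi xgi19 ygi5 zgi43) (kgi xgi25 ygi58 zgi23) (kgi xgi12 ygi40 zgi22) (kgi xgi8 ygi31 zgi55) (kgi xgi25 ygi54 zgi6)) (@D3.rec (fun _ => Pt) (kgi xgi25 ygi58 zgi28) (kgi xgi25 ygi58 zgi30) (kgi xgi8 ygi31 zgi56) (kgi xgi25 ygi58 zgi19) (kgi xgi12 ygi39 zgi55) (kgi xgi21 ygi46 zgi17) (kgi xgi17 ygi43 zgi20) (kgi xgi8 ygi31 zgi58) (kgi xgi9 ygi35 zgi3) (kgi xgi25 ygi54 zgi19) (kgi xgi25 ygi58 zgi35) (kgi xgi8 ygi31 zgi60) (kgi xgi21 ygi17 zgi60) (kgi xgi9 ygi36 zgi6) (kgi xgi8 ygi32 zgi22) (kgi xgi8 ygi32 zgi11) (kgi xgi25 ygi58 zgi38) (kgi xgi25 ygi30 zgi2) (kgi xgi25 ygi58 zgi46) (kgi xgi9 ygi35 zgi8) (kgi xgi25 ygi35 zgi56) (kgi xgi25 ygi58 zgi50) (kgi xgi8 ygi32 zgi4) (kgi xgi9 ygi35 zgi10) (kgi xgi17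 ygi37 zgi52) (kgi xgi25 ygi58 zgi55) (kgi xgi8 ygi32 zgi5) (kgi xgi25 ygi29 zgi54) (kgi xgi25 ygi58 zgi59) (kgi xgi8 ygi32 zgi6) (kgi xgi25 ygi58 zgi52) (kgi xgi25 ygi59 zgi4) (kgi xgi25 ygi58 zgi49) (kgi xgi8 ygi32 zgi7) (kgi xgi18 ygi44 zgi18) (kgi xgi16 ygi0 zgi30) (kgi xgi8 ygi32 zgi8) (kgi xgi25 ygi43 zgi51) (kgi xgi25 ygi54 zgi16) (kgi xgi25 ygi27 zgi9) (kgi xgi25 ygi43 zgi49) (kgi xgi25 ygi43 zgi47) (kgi xgi15 ygi24 zgi14) (kgi xgi8 ygi32 zgi13) (kgi xgi16 ygi16 zgi5) (kgi xgi15 ygi59 zgi41) (kgi xgi20 ygi49 zgi52) (kgi xgi25 ygi47 zgi36) (kgi xgi25 ygi59 zgi9) (kgi xgi9 ygi27 zgi0) (kgi xgi25 ygi58 zgi5) (kgi xgi25 ygi59 zgi15) (kgi xgi25 ygi59 zgi20) (kgi xgi8 ygi32 zgi18) (kgi xgi22 ygi7 zgi28) (kgi xgi25 ygi59 zgi26) (kgi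 xgi25 ygi54 zgi2) (kgi xgi25 ygi59 zgi31) (kgi xgi25 ygi59 zgi35) (kgi xgi25 ygi53 zgi55) (kgi xgi8 ygi32 zgi23) (kgi xgi13 ygi43 zgi12)) (@D3.rec (fun _ => Pt) (kgi xgi8 ygi32 zgi24) (kgi xgi25 ygi46 zgi57) (kgi xgi25 ygi46 zgi58) (kgi xgi10 ygi34 zgi36) (kgi xgi8 ygi32 zgi25) (kgi xgi19 ygi6 zgi52) (kgi xgi19 ygi6 zgi49) (kgi xgi25 ygi48 zgi25) (kgi xgi25 ygi58 zgi15) (kgi xgi16 ygi44 zgi5) (kgi xgi25 ygi59 zgi53) (kgi xgi25 ygi59 zgi19) (kgi xgi24 ygi39 zgi29) (kgi xgi19 ygi28 zgi14) (kgi xgi25 ygi59 zgi52) (kgi xgi25 ygi8 zgi51) (kgi xgi8 ygi32 zgi29) (kgi xgi25 ygi48 zgi18) (kgi xgi26 ygi0 zgi0) (kgi xgi25 ygi54 zgi5) (kgi xgi15 ygi39 zgi4) (kgi xgi15 ygi39 zgi52) (kgi xgi19 ygi36 zgi42) (kgi xgi8 ygi32 zgi32) (kgi xgi9 ygi33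 zgi31) (kgi xgi11 ygi56 zgi15) (kgi xgi25 ygi30 zgi33) (kgi xgi15 ygi38 zgi61) (kgi xgi15 ygi58 zgi53) (kgi xgi25 ygi26 zgi52) (kgi xgi12 ygi20 zgi30) (kgi xgi15 ygi38 zgi46) (kgi xgi26 ygi0 zgi8) (kgi xgi21 ygi0 zgi27) (kgi xgi25 ygi7 zgi30) (kgi xgi9 ygi46 zgi5) (kgi xgi14 ygi55 zgi59) (kgi xgi23 ygi29 zgi3) (kgi xgi8 ygi32 zgi43) (kgi xgi8 ygi33 zgi37) (kgi xgi21 ygi56 zgi5) (kgi xgi8 ygi34 zgi19) (kgi xgi8 ygi35 zgi9) (kgi xgi12 ygi48 zgi13) (kgi xgi21 ygi6 zgi40) (kgi xgi10 ygi38 zgi35) (kgi xgi26 ygi0 zgi16) (kgi xgi25 ygi31 zgi30) (kgi xgi8 ygi33 zgi19) (kgi xgi24 ygi36 zgi15) (kgi xgi8 ygi32 zgi53) (kgi xgi10 ygi38 zgi29) (kgi xgi19 ygi5 zgi60) (kgi xgi10 ygi38 zgi25) (kgi xgi8 ygi33 zgi2) (kgi xgi10 ygi32 zgi31) (kgi xgi15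 ygi43 zgi38) (kgi xgi26 ygi0 zgi25) (kgi xgi8 ygi32 zgi58) (kgi xgi10 ygi38 zgi38) (kgi xgi8 ygi32 zgi60) (kgi xgi8 ygi34 zgi6)) (@D3.rec (fun _ => Pt) (kgi xgi9 ygi34 zgi48) (kgi xgi8 ygi33 zgi1) (kgi xgi15 ygi43 zgi29) (kgi xgi15 ygi43 zgi27) (kgi xgi10 ygi38 zgi23) (kgi xgi8 ygi33 zgi3) (kgi xgi15 ygi43 zgi34) (kgi xgi15 ygi43 zgi32) (kgi xgi23 ygi22 zgi59) (kgi xgi23 ygi22 zgi50) (kgi xgi12 ygi3 zgi7) (kgi xgi14 ygi38 zgi55) (kgi xgi8 ygi33 zgi8) (kgi xgi26 ygi0 zgi38) (kgi xgi21 ygi3 zgi56) (kgi xgi22 ygi6 zgi3) (kgi xgi26 ygi0 zgi33) (kgi xgi22 ygi21 zgi11) (kgi xgi8 ygi33 zgi11) (kgi xgi23 ygi40 zgi10) (kgi xgi17 ygi9 zgi21) (kgi xgi25 ygi45 zgi56) (kgi xgi26 ygi0 zgi31) (kgi xgi13 ygi51 zgi27) (kgi xgi12 ygi21 zgi42) (kgi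 xgi16 ygi6 zgi5) (kgi xgi25 ygi37 zgi7) (kgi xgi8 ygi33 zgi14) (kgi xgi21 ygi6 zgi39) (kgi xgi23 ygi17 zgi42) (kgi xgi8 ygi33 zgi16) (kgi xgi23 ygi42 zgi26) (kgi xgi26 ygi0 zgi56) (kgi xgi19 ygi18 zgi20) (kgi xgi10 ygi27 zgi48) (kgi xgi9 ygi34 zgi37) (kgi xgi8 ygi42 zgi28) (kgi xgi17 ygi39 zgi39) (kgi xgi26 ygi0 zgi22) (kgi xgi17 ygi39 zgi42) (kgi xgi8 ygi33 zgi22) (kgi xgi9 ygi28 zgi10) (kgi xgi8 ygi33 zgi23) (kgi xgi15 ygi35 zgi12) (kgi xgi9 ygi34 zgi10) (kgi xgi10 ygi50 zgi26) (kgi xgi15 ygi35 zgi22) (kgi xgi8 ygi33 zgi54) (kgi xgi12 ygi28 zgi1) (kgi xgi12 ygi28 zgi13) (kgi xgi8 ygi33 zgi30) (kgi xgi23 ygi2 zgi29) (kgi xgi21 ygi34 zgi25) (kgi xgi8 ygi35 zgi39) (kgi xgi10 ygi38 zgi30) (kgi xgi23 ygi42 zgi13) (kgi xgi12 ygi12 zgi21)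 (kgi xgi8 ygi33 zgi34) (kgi xgi16 ygi1 zgi39) (kgi xgi8 ygi33 zgi35) (kgi xgi10 ygi32 zgi49) (kgi xgi10 ygi32 zgi47)) (@D3.rec (fun _ => Pt) (kgi xgi26 ygi1 zgi9) (kgi xgi26 ygi1 zgi11) (kgi xgi8 ygi39 zgi31) (kgi xgi26 ygi0 zgi14) (kgi xgi15 ygi41 zgi36) (kgi xgi26 ygi1 zgi16) (kgi xgi20 ygi53 zgi22) (kgi xgi22 ygi17 zgi52) (kgi xgi26 ygi1 zgi19) (kgi xgi15 ygi41 zgi45) (kgi xgi26 ygi1 zgi22) (kgi xgi8 ygi33 zgi43) (kgi xgi14 ygi46 zgi17) (kgi xgi24 ygi34 zgi12) (kgi xgi22 ygi43 zgi45) (kgi xgi26 ygi1 zgi28) (kgi xgi15 ygi42 zgi20) (kgi xgi26 ygi1 zgi34) (kgi xgi8 ygi33 zgi46) (kgi xgi15 ygi42 zgi14) (kgi xgi15 ygi42 zgi12) (kgi xgi19 ygi6 zgi2) (kgi xgi25 ygi14 zgi44) (kgi xgi24 ygi33 zgi18) (kgi xgi8 ygi33 zgi48) (kgi xgi15 ygi42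 zgi8) (kgi xgi20 ygi54 zgi42) (kgi xgi15 ygi42 zgi5) (kgi xgi15 ygi42 zgi28) (kgi xgi8 ygi34 zgi34) (kgi xgi8 ygi33 zgi51) (kgi xgi15 ygi42 zgi23) (kgi xgi15 ygi42 zgi21) (kgi xgi26 ygi1 zgi45) (kgi xgi25 ygi44 zgi11) (kgi xgi8 ygi33 zgi53) (kgi xgi15 ygi42 zgi31) (kgi xgi15 ygi42 zgi29) (kgi xgi26 ygi1 zgi51) (kgi xgi16 ygi5 zgi7) (kgi xgi15 ygi42 zgi9) (kgi xgi23 ygi22 zgi58) (kgi xgi21 ygi24 zgi36) (kgi xgi10 ygi58 zgi20) (kgi xgi14 ygi42 zgi13) (kgi xgi24 ygi52 zgi31) (kgi xgi25 ygi11 zgi58) (kgi xgi19 ygi50 zgi28) (kgi xgi26 ygi2 zgi0) (kgi xgi8 ygi34 zgi1) (kgi xgi14 ygi51 zgi35) (kgi xgi23 ygi28 zgi19) (kgi xgi22 ygi21 zgi12) (kgi xgi23 ygi23 zgi36) (kgi xgi8 ygi34 zgi3) (kgi xgi14 ygi5 zgi38) (kgi xgi14 ygi14 zgi50) (kgi xgi26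 ygi1 zgi17) (kgi xgi8 ygi34 zgi9) (kgi xgi24 ygi36 zgi1) (kgi xgi21 ygi56 zgi24) (kgi xgi15 ygi46 zgi50)) (@D3.rec (fun _ => Pt) (kgi xgi15 ygi1 zgi17) (kgi xgi12 ygi16 zgi56) (kgi xgi8 ygi34 zgi12) (kgi xgi13 ygi54 zgi13) (kgi xgi21 ygi45 zgi19) (kgi xgi8 ygi34 zgi14) (kgi xgi8 ygi34 zgi31) (kgi xgi25 ygi38 zgi18) (kgi xgi8 ygi34 zgi28) (kgi xgi11 ygi52 zgi0) (kgi xgi15 ygi42 zgi10) (kgi xgi20 ygi54 zgi52) (kgi xgi8 ygi34 zgi18) (kgi xgi15 ygi45 zgi44) (kgi xgi15 ygi45 zgi42) (kgi xgi26 ygi2 zgi17) (kgi xgi25 ygi44 zgi13) (kgi xgi8 ygi34 zgi20) (kgi xgi15 ygi45 zgi47) (kgi xgi15 ygi45 zgi45) (kgi xgi26 ygi2 zgi22) (kgi xgi15 ygi47 zgi24) (kgi xgi26 ygi2 zgi26) (kgi xgi12 ygi17 zgi0) (kgi xgi21 ygi33 zgi22) (kgi xgi8 ygi34 zgi27)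 (kgi xgi21 ygi33 zgi36) (kgi xgi26 ygi2 zgi34) (kgi xgi21 ygi33 zgi34) (kgi xgi26 ygi2 zgi15) (kgi xgi21 ygi2 zgi32) (kgi xgi8 ygi35 zgi6) (kgi xgi26 ygi2 zgi37) (kgi xgi26 ygi1 zgi41) (kgi xgi13 ygi13 zgi2) (kgi xgi25 ygi38 zgi16) (kgi xgi17 ygi42 zgi19) (kgi xgi16 ygi4 zgi39) (kgi xgi20 ygi56 zgi46) (kgi xgi8 ygi34 zgi33) (kgi xgi11 ygi19 zgi35) (kgi xgi21 ygi2 zgi12) (kgi xgi19 ygi5 zgi46) (kgi xgi20 ygi56 zgi56) (kgi xgi9 ygi35 zgi19) (kgi xgi14 ygi58 zgi8) (kgi xgi21 ygi18 zgi20) (kgi xgi19 ygi40 zgi7) (kgi xgi24 ygi32 zgi23) (kgi xgi26 ygi2 zgi47) (kgi xgi8 ygi34 zgi43) (kgi xgi23 ygi30 zgi35) (kgi xgi14 ygi44 zgi43) (kgi xgi26 ygi2 zgi56) (kgi xgi11 ygi52 zgi1) (kgi xgi17 ygi5 zgi52) (kgi xgi19 ygi49 zgi26) (kgi xgi21 ygi0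 zgi24) (kgi xgi21 ygi0 zgi39) (kgi xgi21 ygi36 zgi42) (kgi xgi8 ygi34 zgi51) (kgi xgi15 ygi44 zgi28)) (@D3.rec (fun _ => Pt) (kgi xgi15 ygi44 zgi26) (kgi xgi23 ygi30 zgi40) (kgi xgi12 ygi0 zgi52) (kgi xgi22 ygi4 zgi35) (kgi xgi8 ygi34 zgi53) (kgi xgi16 ygi3 zgi23) (kgi xgi8 ygi35 zgi3) (kgi xgi9 ygi35 zgi27) (kgi xgi8 ygi34 zgi56) (kgi xgi15 ygi44 zgi40) (kgi xgi15 ygi44 zgi38) (kgi xgi8 ygi34 zgi57) (kgi xgi15 ygi44 zgi44) (kgi xgi15 ygi44 zgi43) (kgi xgi20 ygi51 zgi28) (kgi xgi26 ygi2 zgi18) (kgi xgi18 ygi18 zgi14) (kgi xgi26 ygi3 zgi5) (kgi xgi12 ygi47 zgi56) (kgi xgi15 ygi44 zgi49) (kgi xgi25 ygi39 zgi30) (kgi xgi26 ygi3 zgi16) (kgi xgi25 ygi22 zgi4) (kgi xgi8 ygi35 zgi2) (kgi xgi26 ygi3 zgi4) (kgi xgi26 ygi3 zgi25) (kgi xgi25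 ygi19 zgi57) (kgi xgi26 ygi3 zgi7) (kgi xgi12 ygi47 zgi57) (kgi xgi12 ygi5 zgi1) (kgi xgi8 ygi35 zgi5) (kgi xgi23 ygi20 zgi46) (kgi xgi23 ygi25 zgi28) (kgi xgi9 ygi36 zgi58) (kgi xgi25 ygi52 zgi25) (kgi xgi8 ygi35 zgi8) (kgi xgi26 ygi0 zgi21) (kgi xgi12 ygi3 zgi24) (kgi xgi26 ygi0 zgi54) (kgi xgi12 ygi48 zgi41) (kgi xgi9 ygi27 zgi60) (kgi xgi14 ygi38 zgi48) (kgi xgi12 ygi47 zgi60) (kgi xgi11 ygi55 zgi25) (kgi xgi17 ygi14 zgi23) (kgi xgi18 ygi36 zgi20) (kgi xgi9 ygi37 zgi23) (kgi xgi8 ygi41 zgi26) (kgi xgi17 ygi16 zgi0) (kgi xgi13 ygi52 zgi23) (kgi xgi8 ygi39 zgi59) (kgi xgi9 ygi29 zgi8) (kgi xgi10 ygi38 zgi51) (kgi xgi16 ygi13 zgi59) (kgi xgi25 ygi53 zgi57) (kgi xgi25 ygi45 zgi20) (kgi xgi25 ygi56 zgi52) (kgi xgi25 ygi43 zgi33) (kgi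 xgi15 ygi47 zgi18) (kgi xgi25 ygi43 zgi8) (kgi xgi25 ygi43 zgi40) (kgi xgi17 ygi39 zgi5)) (@D3.rec (fun _ => Pt) (kgi xgi16 ygi19 zgi4) (kgi xgi9 ygi24 zgi54) (kgi xgi26 ygi3 zgi48) (kgi xgi14 ygi28 zgi53) (kgi xgi15 ygi58 zgi26) (kgi xgi23 ygi56 zgi2) (kgi xgi25 ygi25 zgi3) (kgi xgi15 ygi45 zgi52) (kgi xgi25 ygi39 zgi3) (kgi xgi23 ygi35 zgi26) (kgi xgi16 ygi3 zgi26) (kgi xgi8 ygi35 zgi55) (kgi xgi16 ygi48 zgi11) (kgi xgi16 ygi59 zgi27) (kgi xgi26 ygi3 zgi55) (kgi xgi8 ygi37 zgi6) (kgi xgi9 ygi36 zgi40) (kgi xgi9 ygi37 zgi7) (kgi xgi8 ygi35 zgi60) (kgi xgi9 ygi58 zgi48) (kgi xgi15 ygi49 zgi20) (kgi xgi18 ygi37 zgi26) (kgi xgi9 ygi39 zgi16) (kgi xgi8 ygi36 zgi3) (kgi xgi16 ygi19 zgi61) (kgi xgi19 ygi35 zgi45) (kgi xgi8 ygi36 zgi4)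 (kgi xgi11 ygi19 zgi19) (kgi xgi15 ygi49 zgi21) (kgi xgi21 ygi43 zgi58) (kgi xgi9 ygi49 zgi31) (kgi xgi15 ygi25 zgi59) (kgi xgi8 ygi36 zgi9) (kgi xgi15 ygi49 zgi31) (kgi xgi15 ygi49 zgi29) (kgi xgi21 ygi35 zgi39) (kgi xgi23 ygi42 zgi10) (kgi xgi21 ygi51 zgi36) (kgi xgi8 ygi36 zgi14) (kgi xgi15 ygi49 zgi37) (kgi xgi26 ygi4 zgi10) (kgi xgi24 ygi19 zgi45) (kgi xgi9 ygi38 zgi47) (kgi xgi26 ygi4 zgi12) (kgi xgi11 ygi17 zgi34) (kgi xgi24 ygi32 zgi49) (kgi xgi12 ygi56 zgi10) (kgi xgi8 ygi36 zgi22) (kgi xgi26 ygi4 zgi9) (kgi xgi21 ygi27 zgi35) (kgi xgi17 ygi5 zgi6) (kgi xgi8 ygi36 zgi25) (kgi xgi9 ygi58 zgi43) (kgi xgi26 ygi4 zgi22) (kgi xgi8 ygi36 zgi26) (kgi xgi8 ygi36 zgi27) (kgi xgi21 ygi34 zgi50) (kgi xgi26 ygi4 zgi25) (kgi xgi19 ygi6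 zgi23) (kgi xgi10 ygi0 zgi38) (kgi xgi17 ygi41 zgi39) (kgi xgi9 ygi59 zgi32)) (@D3.rec (fun _ => Pt) (kgi xgi15 ygi38 zgi36) (kgi xgi17 ygi5 zgi41) (kgi xgi15 ygi38 zgi40) (kgi xgi26 ygi4 zgi33) (kgi xgi26 ygi4 zgi37) (kgi xgi9 ygi34 zgi34) (kgi xgi9 ygi38 zgi37) (kgi xgi9 ygi38 zgi14) (kgi xgi16 ygi18 zgi54) (kgi xgi8 ygi36 zgi55) (kgi xgi19 ygi49 zgi9) (kgi xgi26 ygi4 zgi42) (kgi xgi25 ygi14 zgi10) (kgi xgi25 ygi5 zgi21) (kgi xgi26 ygi4 zgi41) (kgi xgi26 ygi4 zgi53) (kgi xgi25 ygi36 zgi47) (kgi xgi8 ygi36 zgi50) (kgi xgi26 ygi4 zgi56) (kgi xgi26 ygi5 zgi2) (kgi xgi26 ygi4 zgi55) (kgi xgi8 ygi36 zgi51) (kgi xgi10 ygi51 zgi40) (kgi xgi19 ygi54 zgi28) (kgi xgi15 ygi18 zgi50) (kgi xgi18 ygi39 zgi44) (kgi xgi15 ygi9 zgi40) (kgi xgi26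 ygi5 zgi11) (kgi xgi9 ygi35 zgi18) (kgi xgi11 ygi9 zgi33) (kgi xgi8 ygi36 zgi60) (kgi xgi17 ygi53 zgi58) (kgi xgi17 ygi53 zgi56) (kgi xgi15 ygi4 zgi1) (kgi xgi26 ygi5 zgi20) (kgi xgi16 ygi17 zgi52) (kgi xgi25 ygi15 zgi58) (kgi xgi11 ygi6 zgi16) (kgi xgi11 ygi6 zgi14) (kgi xgi8 ygi37 zgi3) (kgi xgi8 ygi37 zgi4) (kgi xgi15 ygi24 zgi12) (kgi xgi12 ygi51 zgi6) (kgi xgi17 ygi48 zgi12) (kgi xgi21 ygi24 zgi10) (kgi xgi21 ygi48 zgi9) (kgi xgi17 ygi16 zgi21) (kgi xgi9 ygi34 zgi49) (kgi xgi8 ygi37 zgi11) (kgi xgi15 ygi47 zgi58) (kgi xgi15 ygi47 zgi56) (kgi xgi25 ygi44 zgi20) (kgi xgi24 ygi36 zgi12) (kgi xgi26 ygi5 zgi42) (kgi xgi15 ygi48 zgi13) (kgi xgi23 ygi38 zgi7) (kgi xgi8 ygi37 zgi14) (kgi xgi15 ygi36 zgi53) (kgi xgi8 ygi37 zgi15) (kgi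 xgi12 ygi59 zgi26) (kgi xgi17 ygi53 zgi29) (kgi xgi12 ygi4 zgi40)) (@D3.rec (fun _ => Pt) (kgi xgi26 ygi5 zgi47) (kgi xgi8 ygi37 zgi17) (kgi xgi15 ygi48 zgi3) (kgi xgi25 ygi18 zgi59) (kgi xgi15 ygi48 zgi0) (kgi xgi15 ygi48 zgi21) (kgi xgi9 ygi36 zgi48) (kgi xgi8 ygi37 zgi20) (kgi xgi15 ygi48 zgi17) (kgi xgi26 ygi5 zgi53) (kgi xgi20 ygi53 zgi21) (kgi xgi8 ygi37 zgi23) (kgi xgi15 ygi48 zgi24) (kgi xgi15 ygi48 zgi22) (kgi xgi9 ygi42 zgi51) (kgi xgi21 ygi58 zgi61) (kgi xgi15 ygi48 zgi4) (kgi xgi21 ygi24 zgi17) (kgi xgi8 ygi37 zgi27) (kgi xgi26 ygi5 zgi35) (kgi xgi26 ygi5 zgi60) (kgi xgi26 ygi5 zgi33) (kgi xgi24 ygi36 zgi14) (kgi xgi20 ygi6 zgi52) (kgi xgi8 ygi37 zgi29) (kgi xgi17 ygi16 zgi20) (kgi xgi26 ygi6 zgi7) (kgi xgi26 ygi5 zgi38)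 (kgi xgi26 ygi4 zgi4) (kgi xgi9 ygi41 zgi7) (kgi xgi15 ygi41 zgi50) (kgi xgi9 ygi37 zgi31) (kgi xgi24 ygi49 zgi32) (kgi xgi15 ygi28 zgi43) (kgi xgi8 ygi37 zgi34) (kgi xgi24 ygi49 zgi22) (kgi xgi20 ygi56 zgi42) (kgi xgi19 ygi32 zgi2) (kgi xgi26 ygi6 zgi21) (kgi xgi9 ygi34 zgi61) (kgi xgi8 ygi40 zgi16) (kgi xgi8 ygi37 zgi39) (kgi xgi21 ygi31 zgi50) (kgi xgi9 ygi0 zgi46) (kgi xgi8 ygi37 zgi43) (kgi xgi16 ygi11 zgi16) (kgi xgi16 ygi11 zgi14) (kgi xgi25 ygi11 zgi47) (kgi xgi11 ygi4 zgi2) (kgi xgi8 ygi38 zgi3) (kgi xgi10 ygi1 zgi11) (kgi xgi11 ygi4 zgi19) (kgi xgi8 ygi37 zgi49) (kgi xgi15 ygi30 zgi1) (kgi xgi19 ygi55 zgi46) (kgi xgi8 ygi37 zgi54) (kgi xgi11 ygi3 zgi8) (kgi xgi16 ygi11 zgi25) (kgi xgi8 ygi37 zgi53) (kgi xgi15 ygi18 zgi27)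 (kgi xgi15 ygi18 zgi25) (kgi xgi24 ygi22 zgi26)) (@D3.rec (fun _ => Pt) (kgi xgi19 ygi54 zgi46) (kgi xgi15 ygi30 zgi3) (kgi xgi8 ygi37 zgi56) (kgi xgi8 ygi37 zgi58) (kgi xgi21 ygi1 zgi8) (kgi xgi25 ygi25 zgi58) (kgi xgi18 ygi18 zgi11) (kgi xgi26 ygi6 zgi43) (kgi xgi8 ygi37 zgi60) (kgi xgi21 ygi0 zgi31) (kgi xgi26 ygi6 zgi56) (kgi xgi16 ygi12 zgi15) (kgi xgi8 ygi37 zgi59) (kgi xgi16 ygi12 zgi17) (kgi xgi26 ygi7 zgi9) (kgi xgi18 ygi3 zgi15) (kgi xgi8 ygi37 zgi61) (kgi xgi16 ygi11 zgi44) (kgi xgi16 ygi11 zgi42) (kgi xgi9 ygi0 zgi31) (kgi xgi8 ygi39 zgi42) (kgi xgi8 ygi38 zgi2) (kgi xgi14 ygi39 zgi18) (kgi xgi19 ygi18 zgi36) (kgi xgi16 ygi12 zgi50) (kgi xgi18 ygi42 zgi61) (kgi xgi20 ygi32 zgi28) (kgi xgi10 ygi1 zgi37) (kgi xgi10 ygi1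 zgi35) (kgi xgi26 ygi7 zgi23) (kgi xgi8 ygi38 zgi18) (kgi xgi23 ygi30 zgi47) (kgi xgi10 ygi15 zgi23) (kgi xgi23 ygi25 zgi16) (kgi xgi26 ygi0 zgi51) (kgi xgi8 ygi38 zgi17) (kgi xgi19 ygi48 zgi14) (kgi xgi15 ygi50 zgi15) (kgi xgi26 ygi7 zgi29) (kgi xgi13 ygi59 zgi8) (kgi xgi26 ygi7 zgi31) (kgi xgi26 ygi7 zgi33) (kgi xgi16 ygi50 zgi57) (kgi xgi8 ygi38 zgi21) (kgi xgi26 ygi7 zgi27) (kgi xgi19 ygi48 zgi17) (kgi xgi26 ygi7 zgi38) (kgi xgi14 ygi56 zgi22) (kgi xgi26 ygi7 zgi40) (kgi xgi8 ygi38 zgi24) (kgi xgi16 ygi12 zgi11) (kgi xgi16 ygi12 zgi9) (kgi xgi8 ygi38 zgi25) (kgi xgi16 ygi11 zgi36) (kgi xgi16 ygi11 zgi37) (kgi xgi18 ygi3 zgi11) (kgi xgi8 ygi38 zgi26) (kgi xgi9 ygi51 zgi38) (kgi xgi16 ygi12 zgi18) (kgi xgi15 ygi13 zgi31) (kgi xgi14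 ygi59 zgi53) (kgi xgi26 ygi7 zgi47)) (@D3.rec (fun _ => Pt) (kgi xgi16 ygi28 zgi1) (kgi xgi13 ygi23 zgi59) (kgi xgi16 ygi12 zgi24) (kgi xgi8 ygi38 zgi30) (kgi xgi16 ygi12 zgi23) (kgi xgi8 ygi38 zgi31) (kgi xgi15 ygi25 zgi6) (kgi xgi17 ygi49 zgi0) (kgi xgi17 ygi48 zgi61) (kgi xgi8 ygi38 zgi33) (kgi xgi20 ygi56 zgi48) (kgi xgi20 ygi56 zgi47) (kgi xgi26 ygi7 zgi56) (kgi xgi26 ygi7 zgi59) (kgi xgi8 ygi38 zgi36) (kgi xgi16 ygi9 zgi46) (kgi xgi16 ygi9 zgi44) (kgi xgi19 ygi54 zgi14) (kgi xgi26 ygi7 zgi20) (kgi xgi23 ygi29 zgi54) (kgi xgi8 ygi38 zgi39) (kgi xgi14 ygi46 zgi0) (kgi xgi12 ygi55 zgi39) (kgi xgi14 ygi48 zgi38) (kgi xgi26 ygi8 zgi6) (kgi xgi16 ygi9 zgi55) (kgi xgi8 ygi38 zgi41) (kgi xgi8 ygi38 zgi43) (kgi xgi24 ygi38 zgi11) (kgi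 xgi18 ygi22 zgi60) (kgi xgi25 ygi23 zgi24) (kgi xgi8 ygi38 zgi45) (kgi xgi9 ygi31 zgi47) (kgi xgi20 ygi57 zgi48) (kgi xgi26 ygi8 zgi15) (kgi xgi24 ygi37 zgi58) (kgi xgi16 ygi10 zgi52) (kgi xgi8 ygi38 zgi44) (kgi xgi16 ygi10 zgi54) (kgi xgi26 ygi8 zgi26) (kgi xgi26 ygi8 zgi28) (kgi xgi26 ygi8 zgi30) (kgi xgi8 ygi38 zgi46) (kgi xgi16 ygi10 zgi18) (kgi xgi16 ygi10 zgi16) (kgi xgi19 ygi54 zgi4) (kgi xgi26 ygi8 zgi36) (kgi xgi10 ygi35 zgi55) (kgi xgi8 ygi38 zgi53) (kgi xgi10 ygi16 zgi23) (kgi xgi10 ygi16 zgi21) (kgi xgi8 ygi38 zgi54) (kgi xgi8 ygi38 zgi57) (kgi xgi15 ygi22 zgi48) (kgi xgi15 ygi22 zgi46) (kgi xgi13 ygi50 zgi51) (kgi xgi22 ygi57 zgi35) (kgi xgi8 ygi38 zgi59) (kgi xgi8 ygi39 zgi2) (kgi xgi21 ygi12 zgi19) (kgi xgi13 ygi16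 zgi18) (kgi xgi13 ygi50 zgi49)) (@D3.rec (fun _ => Pt) (kgi xgi13 ygi50 zgi47) (kgi xgi26 ygi8 zgi53) (kgi xgi8 ygi39 zgi0) (kgi xgi23 ygi14 zgi57) (kgi xgi23 ygi15 zgi34) (kgi xgi23 ygi19 zgi52) (kgi xgi8 ygi39 zgi1) (kgi xgi20 ygi6 zgi3) (kgi xgi18 ygi19 zgi7) (kgi xgi8 ygi39 zgi3) (kgi xgi16 ygi10 zgi51) (kgi xgi16 ygi10 zgi49) (kgi xgi8 ygi39 zgi4) (kgi xgi15 ygi10 zgi36) (kgi xgi15 ygi10 zgi34) (kgi xgi8 ygi39 zgi5) (kgi xgi16 ygi10 zgi11) (kgi xgi16 ygi10 zgi12) (kgi xgi8 ygi39 zgi6) (kgi xgi8 ygi47 zgi58) (kgi xgi26 ygi9 zgi5) (kgi xgi25 ygi2 zgi37) (kgi xgi24 ygi47 zgi15) (kgi xgi16 ygi11 zgi3) (kgi xgi8 ygi39 zgi10) (kgi xgi16 ygi11 zgi2) (kgi xgi8 ygi39 zgi11) (kgi xgi17 ygi52 zgi58) (kgi xgi14 ygi57 zgi29) (kgi xgi8 ygi41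 zgi21) (kgi xgi19 ygi0 zgi35) (kgi xgi8 ygi39 zgi18) (kgi xgi8 ygi39 zgi20) (kgi xgi24 ygi33 zgi32) (kgi xgi19 ygi25 zgi17) (kgi xgi18 ygi17 zgi55) (kgi xgi25 ygi23 zgi14) (kgi xgi8 ygi39 zgi22) (kgi xgi19 ygi8 zgi26) (kgi xgi26 ygi9 zgi18) (kgi xgi26 ygi9 zgi22) (kgi xgi24 ygi47 zgi16) (kgi xgi8 ygi39 zgi21) (kgi xgi24 ygi47 zgi18) (kgi xgi26 ygi9 zgi37) (kgi xgi23 ygi59 zgi7) (kgi xgi8 ygi39 zgi23) (kgi xgi16 ygi13 zgi21) (kgi xgi16 ygi13 zgi19) (kgi xgi26 ygi9 zgi44) (kgi xgi15 ygi18 zgi16) (kgi xgi15 ygi18 zgi20) (kgi xgi8 ygi39 zgi26) (kgi xgi25 ygi19 zgi55) (kgi xgi15 ygi30 zgi24) (kgi xgi15 ygi28 zgi33) (kgi xgi26 ygi9 zgi48) (kgi xgi15 ygi27 zgi27) (kgi xgi15 ygi29 zgi36) (kgi xgi10 ygi31 zgi28) (kgi xgi19 ygi53 zgi52) (kgi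 xgi19 ygi53 zgi51)) (@D3.rec (fun _ => Pt) (kgi xgi23 ygi43 zgi47) (kgi xgi26 ygi7 zgi8) (kgi xgi8 ygi41 zgi22) (kgi xgi10 ygi42 zgi51) (kgi xgi8 ygi39 zgi36) (kgi xgi8 ygi39 zgi38) (kgi xgi26 ygi9 zgi55) (kgi xgi25 ygi21 zgi29) (kgi xgi18 ygi22 zgi51) (kgi xgi26 ygi6 zgi36) (kgi xgi8 ygi39 zgi40) (kgi xgi26 ygi9 zgi58) (kgi xgi26 ygi9 zgi60) (kgi xgi16 ygi28 zgi3) (kgi xgi8 ygi39 zgi39) (kgi xgi16 ygi28 zgi5) (kgi xgi26 ygi10 zgi9) (kgi xgi26 ygi10 zgi12) (kgi xgi26 ygi10 zgi14) (kgi xgi8 ygi39 zgi41) (kgi xgi16 ygi12 zgi48) (kgi xgi16 ygi12 zgi46) (kgi xgi26 ygi10 zgi18) (kgi xgi10 ygi1 zgi15) (kgi xgi17 ygi43 zgi18) (kgi xgi16 ygi12 zgi30) (kgi xgi21 ygi53 zgi47) (kgi xgi9 ygi51 zgi6) (kgi xgi22 ygi5 zgi28) (kgi xgi26 ygi10 zgi24)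 (kgi xgi12 ygi23 zgi24) (kgi xgi15 ygi25 zgi60) (kgi xgi8 ygi39 zgi49) (kgi xgi17 ygi42 zgi27) (kgi xgi8 ygi39 zgi50) (kgi xgi17 ygi41 zgi56) (kgi xgi16 ygi39 zgi56) (kgi xgi8 ygi53 zgi49) (kgi xgi9 ygi41 zgi3) (kgi xgi21 ygi23 zgi15) (kgi xgi26 ygi10 zgi33) (kgi xgi26 ygi10 zgi36) (kgi xgi15 ygi41 zgi20) (kgi xgi10 ygi21 zgi6) (kgi xgi21 ygi31 zgi15) (kgi xgi15 ygi46 zgi21) (kgi xgi24 ygi39 zgi15) (kgi xgi11 ygi49 zgi18) (kgi xgi17 ygi5 zgi12) (kgi xgi19 ygi4 zgi36) (kgi xgi16 ygi2 zgi30) (kgi xgi8 ygi40 zgi2) (kgi xgi12 ygi59 zgi56) (kgi xgi20 ygi20 zgi45) (kgi xgi12 ygi39 zgi54) (kgi xgi12 ygi53 zgi18) (kgi xgi18 ygi10 zgi57) (kgi xgi8 ygi40 zgi5) (kgi xgi8 ygi40 zgi7) (kgi xgi25 ygi34 zgi2) (kgi xgi17 ygi43 zgi41) (kgi xgi15 ygi48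 zgi18)) (@D3.rec (fun _ => Pt) (kgi xgi21 ygi7 zgi11) (kgi xgi8 ygi40 zgi9) (kgi xgi26 ygi10 zgi39) (kgi xgi26 ygi10 zgi47) (kgi xgi12 ygi41 zgi40) (kgi xgi26 ygi11 zgi0) (kgi xgi25 ygi44 zgi58) (kgi xgi8 ygi40 zgi8) (kgi xgi24 ygi2 zgi30) (kgi xgi24 ygi34 zgi58) (kgi xgi26 ygi11 zgi10) (kgi xgi26 ygi11 zgi12) (kgi xgi15 ygi24 zgi30) (kgi xgi8 ygi40 zgi11) (kgi xgi17 ygi33 zgi11) (kgi xgi12 ygi53 zgi24) (kgi xgi16 ygi13 zgi42) (kgi xgi16 ygi0 zgi15) (kgi xgi8 ygi40 zgi14) (kgi xgi17 ygi37 zgi19) (kgi xgi17 ygi37 zgi17) (kgi xgi26 ygi11 zgi24) (kgi xgi24 ygi44 zgi41) (kgi xgi26 ygi11 zgi30) (kgi xgi21 ygi37 zgi0) (kgi xgi8 ygi40 zgi18) (kgi xgi8 ygi40 zgi20) (kgi xgi9 ygi35 zgi48) (kgi xgi9 ygi35 zgi46) (kgi xgi26 ygi11 zgi36) (kgi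 xgi21 ygi4 zgi43) (kgi xgi17 ygi39 zgi50) (kgi xgi16 ygi12 zgi28) (kgi xgi8 ygi40 zgi25) (kgi xgi8 ygi40 zgi27) (kgi xgi17 ygi39 zgi17) (kgi xgi17 ygi39 zgi1) (kgi xgi21 ygi59 zgi50) (kgi xgi26 ygi11 zgi41) (kgi xgi11 ygi59 zgi52) (kgi xgi26 ygi11 zgi49) (kgi xgi8 ygi40 zgi28) (kgi xgi26 ygi11 zgi39) (kgi xgi26 ygi11 zgi57) (kgi xgi26 ygi12 zgi0) (kgi xgi26 ygi11 zgi48) (kgi xgi12 ygi45 zgi9) (kgi xgi26 ygi12 zgi6) (kgi xgi8 ygi40 zgi31) (kgi xgi24 ygi44 zgi37) (kgi xgi24 ygi44 zgi35) (kgi xgi24 ygi45 zgi40) (kgi xgi15 ygi19 zgi5) (kgi xgi15 ygi19 zgi3) (kgi xgi26 ygi12 zgi18) (kgi xgi8 ygi40 zgi35) (kgi xgi15 ygi23 zgi28) (kgi xgi15 ygi23 zgi26) (kgi xgi24 ygi54 zgi49) (kgi xgi26 ygi12 zgi25) (kgi xgi26 ygi5 zgi25) (kgi xgi26 ygi6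 zgi26)) (@D3.rec (fun _ => Pt) (kgi xgi26 ygi12 zgi27) (kgi xgi19 ygi38 zgi55) (kgi xgi9 ygi38 zgi11) (kgi xgi20 ygi4 zgi4) (kgi xgi20 ygi4 zgi11) (kgi xgi26 ygi12 zgi31) (kgi xgi17 ygi43 zgi60) (kgi xgi26 ygi12 zgi38) (kgi xgi8 ygi40 zgi41) (kgi xgi17 ygi44 zgi38) (kgi xgi10 ygi32 zgi19) (kgi xgi9 ygi54 zgi11) (kgi xgi8 ygi40 zgi42) (kgi xgi26 ygi12 zgi40) (kgi xgi26 ygi12 zgi49) (kgi xgi25 ygi1 zgi14) (kgi xgi17 ygi44 zgi37) (kgi xgi16 ygi20 zgi27) (kgi xgi22 ygi8 zgi41) (kgi xgi16 ygi18 zgi57) (kgi xgi18 ygi4 zgi30) (kgi xgi26 ygi5 zgi18) (kgi xgi9 ygi52 zgi54) (kgi xgi15 ygi14 zgi60) (kgi xgi17 ygi44 zgi59) (kgi xgi21 ygi31 zgi28) (kgi xgi15 ygi49 zgi57) (kgi xgi17 ygi54 zgi59) (kgi xgi21 ygi30 zgi61) (kgi xgi16 ygi59 zgi33) (kgi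 xgi20 ygi19 zgi26) (kgi xgi26 ygi12 zgi60) (kgi xgi21 ygi54 zgi56) (kgi xgi9 ygi38 zgi3) (kgi xgi21 ygi25 zgi49) (kgi xgi25 ygi44 zgi61) (kgi xgi26 ygi13 zgi1) (kgi xgi16 ygi16 zgi46) (kgi xgi17 ygi13 zgi56) (kgi xgi17 ygi43 zgi39) (kgi xgi26 ygi11 zgi19) (kgi xgi8 ygi40 zgi60) (kgi xgi17 ygi44 zgi34) (kgi xgi26 ygi13 zgi21) (kgi xgi23 ygi6 zgi59) (kgi xgi8 ygi40 zgi61) (kgi xgi26 ygi13 zgi14) (kgi xgi24 ygi18 zgi20) (kgi xgi26 ygi13 zgi12) (kgi xgi8 ygi41 zgi0) (kgi xgi17 ygi44 zgi41) (kgi xgi26 ygi13 zgi32) (kgi xgi16 ygi19 zgi42) (kgi xgi26 ygi12 zgi23) (kgi xgi26 ygi4 zgi36) (kgi xgi15 ygi48 zgi58) (kgi xgi8 ygi41 zgi2) (kgi xgi24 ygi44 zgi57) (kgi xgi26 ygi13 zgi41) (kgi xgi24 ygi44 zgi54) (kgi xgi26 ygi12 zgi16) (kgi xgi9 ygi54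 zgi1)) (@D3.rec (fun _ => Pt) (kgi xgi17 ygi37 zgi30) (kgi xgi15 ygi16 zgi39) (kgi xgi23 ygi35 zgi0) (kgi xgi26 ygi13 zgi46) (kgi xgi26 ygi10 zgi48) (kgi xgi15 ygi47 zgi7) (kgi xgi10 ygi0 zgi2) (kgi xgi15 ygi54 zgi3) (kgi xgi16 ygi1 zgi44) (kgi xgi16 ygi15 zgi2) (kgi xgi26 ygi13 zgi61) (kgi xgi17 ygi44 zgi2) (kgi xgi26 ygi14 zgi3) (kgi xgi8 ygi41 zgi12) (kgi xgi26 ygi14 zgi1) (kgi xgi26 ygi14 zgi8) (kgi xgi26 ygi13 zgi60) (kgi xgi8 ygi41 zgi13) (kgi xgi17 ygi43 zgi55) (kgi xgi18 ygi3 zgi54) (kgi xgi16 ygi21 zgi6) (kgi xgi26 ygi14 zgi18) (kgi xgi21 ygi37 zgi30) (kgi xgi26 ygi14 zgi17) (kgi xgi17 ygi44 zgi49) (kgi xgi17 ygi43 zgi58) (kgi xgi26 ygi14 zgi23) (kgi xgi17 ygi37 zgi29) (kgi xgi24 ygi45 zgi15) (kgi xgi12 ygi50 zgi10) (kgi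 xgi25 ygi45 zgi28) (kgi xgi18 ygi40 zgi28) (kgi xgi21 ygi59 zgi38) (kgi xgi25 ygi15 zgi38) (kgi xgi17 ygi41 zgi49) (kgi xgi19 ygi18 zgi34) (kgi xgi10 ygi37 zgi29) (kgi xgi21 ygi45 zgi16) (kgi xgi26 ygi1 zgi36) (kgi xgi26 ygi14 zgi40) (kgi xgi12 ygi24 zgi45) (kgi xgi17 ygi44 zgi19) (kgi xgi26 ygi10 zgi29) (kgi xgi15 ygi6 zgi48) (kgi xgi26 ygi14 zgi41) (kgi xgi26 ygi14 zgi43) (kgi xgi16 ygi15 zgi33) (kgi xgi8 ygi41 zgi33) (kgi xgi17 ygi43 zgi45) (kgi xgi23 ygi43 zgi24) (kgi xgi8 ygi41 zgi34) (kgi xgi12 ygi20 zgi3) (kgi xgi18 ygi29 zgi39) (kgi xgi8 ygi41 zgi35) (kgi xgi17 ygi44 zgi10) (kgi xgi26 ygi14 zgi57) (kgi xgi16 ygi20 zgi50) (kgi xgi15 ygi6 zgi56) (kgi xgi17 ygi37 zgi20) (kgi xgi25 ygi6 zgi48) (kgi xgi23 ygi44 zgi14) (kgi xgi16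 ygi8 zgi7)) (@D3.rec (fun _ => Pt) (kgi xgi8 ygi42 zgi10) (kgi xgi17 ygi36 zgi33) (kgi xgi18 ygi6 zgi58) (kgi xgi21 ygi33 zgi54) (kgi xgi17 ygi38 zgi14) (kgi xgi9 ygi39 zgi8) (kgi xgi15 ygi46 zgi36) (kgi xgi8 ygi42 zgi17) (kgi xgi17 ygi41 zgi41) (kgi xgi17 ygi36 zgi61) (kgi xgi15 ygi46 zgi39) (kgi xgi17 ygi54 zgi1) (kgi xgi16 ygi19 zgi5) (kgi xgi8 ygi41 zgi48) (kgi xgi24 ygi45 zgi5) (kgi xgi26 ygi15 zgi9) (kgi xgi22 ygi11 zgi40) (kgi xgi8 ygi41 zgi49) (kgi xgi21 ygi57 zgi14) (kgi xgi8 ygi41 zgi50) (kgi xgi17 ygi54 zgi42) (kgi xgi17 ygi38 zgi21) (kgi xgi17 ygi54 zgi39) (kgi xgi8 ygi41 zgi51) (kgi xgi17 ygi39 zgi29) (kgi xgi24 ygi54 zgi57) (kgi xgi21 ygi33 zgi53) (kgi xgi26 ygi2 zgi20) (kgi xgi8 ygi42 zgi19) (kgi xgi8 ygi42 zgi2) (kgi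 xgi17 ygi54 zgi29) (kgi xgi26 ygi15 zgi24) (kgi xgi20 ygi54 zgi37) (kgi xgi16 ygi20 zgi1) (kgi xgi21 ygi33 zgi39) (kgi xgi8 ygi41 zgi56) (kgi xgi20 ygi54 zgi39) (kgi xgi13 ygi58 zgi21) (kgi xgi26 ygi15 zgi28) (kgi xgi8 ygi41 zgi57) (kgi xgi17 ygi54 zgi38) (kgi xgi26 ygi15 zgi37) (kgi xgi26 ygi15 zgi40) (kgi xgi8 ygi41 zgi58) (kgi xgi13 ygi37 zgi24) (kgi xgi12 ygi19 zgi44) (kgi xgi15 ygi11 zgi29) (kgi xgi8 ygi41 zgi60) (kgi xgi18 ygi28 zgi47) (kgi xgi26 ygi12 zgi3) (kgi xgi15 ygi59 zgi44) (kgi xgi26 ygi15 zgi45) (kgi xgi18 ygi3 zgi28) (kgi xgi21 ygi42 zgi10) (kgi xgi25 ygi45 zgi59) (kgi xgi8 ygi42 zgi3) (kgi xgi8 ygi42 zgi8) (kgi xgi18 ygi2 zgi28) (kgi xgi25 ygi33 zgi55) (kgi xgi8 ygi42 zgi4) (kgi xgi24 ygi5 zgi5) (kgi xgi26 ygi15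 zgi16)) (@D3.rec (fun _ => Pt) (kgi xgi16 ygi8 zgi35) (kgi xgi8 ygi42 zgi5) (kgi xgi21 ygi26 zgi30) (kgi xgi8 ygi42 zgi7) (kgi xgi14 ygi2 zgi52) (kgi xgi21 ygi33 zgi50) (kgi xgi21 ygi43 zgi49) (kgi xgi18 ygi36 zgi33) (kgi xgi23 ygi33 zgi61) (kgi xgi12 ygi19 zgi48) (kgi xgi26 ygi15 zgi55) (kgi xgi21 ygi33 zgi48) (kgi xgi14 ygi15 zgi16) (kgi xgi26 ygi15 zgi60) (kgi xgi10 ygi42 zgi4) (kgi xgi22 ygi15 zgi6) (kgi xgi18 ygi28 zgi13) (kgi xgi14 ygi15 zgi14) (kgi xgi25 ygi51 zgi21) (kgi xgi14 ygi14 zgi26) (kgi xgi8 ygi42 zgi15) (kgi xgi26 ygi15 zgi61) (kgi xgi26 ygi15 zgi59) (kgi xgi8 ygi42 zgi16) (kgi xgi21 ygi41 zgi61) (kgi xgi26 ygi16 zgi8) (kgi xgi17 ygi54 zgi3) (kgi xgi26 ygi16 zgi12) (kgi xgi10 ygi0 zgi3) (kgi xgi13 ygi18 zgi56) (kgi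 xgi17 ygi54 zgi27) (kgi xgi26 ygi16 zgi18) (kgi xgi9 ygi54 zgi45) (kgi xgi8 ygi42 zgi20) (kgi xgi17 ygi54 zgi12) (kgi xgi26 ygi16 zgi22) (kgi xgi15 ygi11 zgi30) (kgi xgi26 ygi15 zgi5) (kgi xgi26 ygi16 zgi29) (kgi xgi18 ygi28 zgi38) (kgi xgi26 ygi16 zgi31) (kgi xgi18 ygi27 zgi28) (kgi xgi18 ygi6 zgi31) (kgi xgi18 ygi4 zgi34) (kgi xgi26 ygi16 zgi37) (kgi xgi17 ygi39 zgi56) (kgi xgi17 ygi39 zgi47) (kgi xgi26 ygi16 zgi36) (kgi xgi24 ygi45 zgi2) (kgi xgi8 ygi42 zgi26) (kgi xgi17 ygi39 zgi0) (kgi xgi26 ygi16 zgi42) (kgi xgi17 ygi44 zgi1) (kgi xgi21 ygi36 zgi61) (kgi xgi16 ygi15 zgi19) (kgi xgi26 ygi11 zgi33) (kgi xgi17 ygi30 zgi17) (kgi xgi16 ygi8 zgi8) (kgi xgi10 ygi50 zgi23) (kgi xgi8 ygi42 zgi34) (kgi xgi10 ygi50 zgi32) (kgi xgi10 ygi50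 zgi30)) (@D3.rec (fun _ => Pt) (kgi xgi26 ygi16 zgi50) (kgi xgi16 ygi0 zgi40) (kgi xgi19 ygi27 zgi59) (kgi xgi23 ygi36 zgi36) (kgi xgi26 ygi16 zgi54) (kgi xgi14 ygi57 zgi43) (kgi xgi25 ygi15 zgi36) (kgi xgi26 ygi5 zgi16) (kgi xgi16 ygi7 zgi0) (kgi xgi16 ygi17 zgi12) (kgi xgi26 ygi17 zgi3) (kgi xgi26 ygi17 zgi5) (kgi xgi8 ygi42 zgi42) (kgi xgi26 ygi17 zgi7) (kgi xgi26 ygi17 zgi9) (kgi xgi25 ygi3 zgi26) (kgi xgi8 ygi42 zgi43) (kgi xgi18 ygi8 zgi29) (kgi xgi10 ygi9 zgi31) (kgi xgi8 ygi43 zgi8) (kgi xgi8 ygi42 zgi50) (kgi xgi16 ygi21 zgi14) (kgi xgi16 ygi21 zgi12) (kgi xgi8 ygi42 zgi51) (kgi xgi16 ygi20 zgi46) (kgi xgi16 ygi20 zgi44) (kgi xgi11 ygi15 zgi6) (kgi xgi18 ygi21 zgi61) (kgi xgi11 ygi36 zgi51) (kgi xgi20 ygi10 zgi1) (kgi xgi24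 ygi56 zgi39) (kgi xgi16 ygi21 zgi61) (kgi xgi17 ygi45 zgi50) (kgi xgi8 ygi42 zgi58) (kgi xgi17 ygi54 zgi19) (kgi xgi20 ygi11 zgi4) (kgi xgi26 ygi17 zgi35) (kgi xgi18 ygi21 zgi59) (kgi xgi23 ygi10 zgi33) (kgi xgi10 ygi29 zgi30) (kgi xgi11 ygi39 zgi19) (kgi xgi24 ygi55 zgi35) (kgi xgi9 ygi38 zgi29) (kgi xgi26 ygi17 zgi44) (kgi xgi17 ygi46 zgi42) (kgi xgi21 ygi15 zgi6) (kgi xgi16 ygi15 zgi52) (kgi xgi26 ygi17 zgi43) (kgi xgi24 ygi56 zgi38) (kgi xgi8 ygi43 zgi3) (kgi xgi24 ygi45 zgi57) (kgi xgi25 ygi14 zgi28) (kgi xgi17 ygi57 zgi5) (kgi xgi26 ygi17 zgi59) (kgi xgi11 ygi8 zgi23) (kgi xgi19 ygi16 zgi53) (kgi xgi19 ygi16 zgi51) (kgi xgi26 ygi15 zgi27) (kgi xgi23 ygi35 zgi31) (kgi xgi25 ygi42 zgi58) (kgi xgi15 ygi28 zgi25) (kgi xgi16 ygi7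 zgi23)) (@D3.rec (fun _ => Pt) (kgi xgi26 ygi18 zgi1) (kgi xgi9 ygi45 zgi5) (kgi xgi16 ygi17 zgi33) (kgi xgi26 ygi18 zgi6) (kgi xgi17 ygi38 zgi36) (kgi xgi8 ygi43 zgi18) (kgi xgi26 ygi18 zgi9) (kgi xgi9 ygi55 zgi24) (kgi xgi18 ygi35 zgi7) (kgi xgi8 ygi43 zgi19) (kgi xgi17 ygi54 zgi18) (kgi xgi26 ygi18 zgi15) (kgi xgi17 ygi54 zgi15) (kgi xgi26 ygi15 zgi14) (kgi xgi25 ygi45 zgi60) (kgi xgi26 ygi18 zgi21) (kgi xgi19 ygi10 zgi38) (kgi xgi14 ygi43 zgi9) (kgi xgi18 ygi36 zgi34) (kgi xgi15 ygi6 zgi0) (kgi xgi11 ygi6 zgi18) (kgi xgi18 ygi36 zgi14) (kgi xgi14 ygi43 zgi3) (kgi xgi8 ygi43 zgi29) (kgi xgi10 ygi22 zgi56) (kgi xgi13 ygi40 zgi49) (kgi xgi11 ygi23 zgi45) (kgi xgi9 ygi38 zgi27) (kgi xgi15 ygi10 zgi58) (kgi xgi14 ygi43 zgi4) (kgi xgi24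 ygi55 zgi58) (kgi xgi16 ygi15 zgi17) (kgi xgi25 ygi3 zgi9) (kgi xgi15 ygi5 zgi61) (kgi xgi11 ygi37 zgi26) (kgi xgi11 ygi15 zgi39) (kgi xgi16 ygi21 zgi43) (kgi xgi26 ygi18 zgi30) (kgi xgi16 ygi21 zgi44) (kgi xgi26 ygi18 zgi34) (kgi xgi11 ygi15 zgi19) (kgi xgi26 ygi17 zgi34) (kgi xgi16 ygi21 zgi39) (kgi xgi26 ygi18 zgi41) (kgi xgi8 ygi43 zgi43) (kgi xgi16 ygi19 zgi25) (kgi xgi16 ygi19 zgi23) (kgi xgi15 ygi23 zgi37) (kgi xgi15 ygi6 zgi35) (kgi xgi18 ygi58 zgi33) (kgi xgi9 ygi38 zgi13) (kgi xgi10 ygi22 zgi24) (kgi xgi15 ygi6 zgi28) (kgi xgi18 ygi21 zgi49) (kgi xgi16 ygi16 zgi56) (kgi xgi17 ygi46 zgi59) (kgi xgi26 ygi18 zgi43) (kgi xgi8 ygi43 zgi47) (kgi xgi12 ygi6 zgi45) (kgi xgi26 ygi18 zgi60) (kgi xgi11 ygi23 zgi41) (kgi xgi26 ygi19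 zgi0)) (@D3.rec (fun _ => Pt) (kgi xgi11 ygi23 zgi44) (kgi xgi26 ygi19 zgi4) (kgi xgi13 ygi42 zgi3) (kgi xgi10 ygi16 zgi59) (kgi xgi18 ygi19 zgi59) (kgi xgi8 ygi43 zgi56) (kgi xgi9 ygi38 zgi5) (kgi xgi13 ygi23 zgi60) (kgi xgi26 ygi19 zgi9) (kgi xgi24 ygi55 zgi34) (kgi xgi16 ygi16 zgi20) (kgi xgi26 ygi19 zgi8) (kgi xgi8 ygi43 zgi61) (kgi xgi16 ygi19 zgi22) (kgi xgi16 ygi19 zgi20) (kgi xgi16 ygi53 zgi43) (kgi xgi18 ygi59 zgi45) (kgi xgi8 ygi51 zgi10) (kgi xgi26 ygi19 zgi16) (kgi xgi8 ygi44 zgi2) (kgi xgi26 ygi19 zgi25) (kgi xgi10 ygi30 zgi3) (kgi xgi26 ygi19 zgi29) (kgi xgi8 ygi45 zgi15) (kgi xgi8 ygi44 zgi35) (kgi xgi10 ygi36 zgi31) (kgi xgi13 ygi42 zgi58) (kgi xgi19 ygi59 zgi44) (kgi xgi8 ygi44 zgi18) (kgi xgi26 ygi19 zgi34) (kgi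 xgi19 ygi21 zgi18) (kgi xgi25 ygi50 zgi27) (kgi xgi8 ygi44 zgi29) (kgi xgi26 ygi19 zgi38) (kgi xgi13 ygi14 zgi5) (kgi xgi8 ygi44 zgi41) (kgi xgi18 ygi49 zgi27) (kgi xgi25 ygi2 zgi15) (kgi xgi20 ygi20 zgi53) (kgi xgi25 ygi2 zgi48) (kgi xgi9 ygi3 zgi54) (kgi xgi11 ygi11 zgi51) (kgi xgi18 ygi38 zgi41) (kgi xgi16 ygi20 zgi38) (kgi xgi16 ygi20 zgi36) (kgi xgi22 ygi51 zgi19) (kgi xgi18 ygi48 zgi40) (kgi xgi10 ygi3 zgi10) (kgi xgi9 ygi1 zgi60) (kgi xgi22 ygi51 zgi58) (kgi xgi8 ygi52 zgi43) (kgi xgi8 ygi44 zgi33) (kgi xgi8 ygi44 zgi46) (kgi xgi25 ygi23 zgi57) (kgi xgi9 ygi39 zgi34) (kgi xgi22 ygi51 zgi27) (kgi xgi15 ygi7 zgi16) (kgi xgi26 ygi19 zgi54) (kgi xgi15 ygi14 zgi29) (kgi xgi26 ygi19 zgi57) (kgi xgi9 ygi1 zgi57) (kgi xgi16 ygi19 zgi29))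 (@D3.rec (fun _ => Pt) (kgi xgi16 ygi35 zgi25) (kgi xgi15 ygi19 zgi40) (kgi xgi8 ygi44 zgi40) (kgi xgi26 ygi20 zgi4) (kgi xgi16 ygi35 zgi17) (kgi xgi19 ygi5 zgi11) (kgi xgi9 ygi3 zgi3) (kgi xgi9 ygi52 zgi61) (kgi xgi15 ygi11 zgi25) (kgi xgi19 ygi15 zgi60) (kgi xgi9 ygi43 zgi31) (kgi xgi24 ygi52 zgi18) (kgi xgi25 ygi0 zgi13) (kgi xgi26 ygi20 zgi8) (kgi xgi19 ygi2 zgi16) (kgi xgi19 ygi0 zgi33) (kgi xgi18 ygi49 zgi44) (kgi xgi8 ygi44 zgi49) (kgi xgi19 ygi0 zgi32) (kgi xgi16 ygi40 zgi2) (kgi xgi17 ygi1 zgi13) (kgi xgi8 ygi44 zgi51) (kgi xgi8 ygi48 zgi52) (kgi xgi21 ygi2 zgi53) (kgi xgi16 ygi52 zgi38) (kgi xgi26 ygi20 zgi20) (kgi xgi20 ygi18 zgi27) (kgi xgi8 ygi44 zgi54) (kgi xgi24 ygi28 zgi17) (kgi xgi26 ygi20 zgi25) (kgi xgi26 ygi20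 zgi19) (kgi xgi21 ygi13 zgi29) (kgi xgi26 ygi20 zgi29) (kgi xgi26 ygi20 zgi28) (kgi xgi18 ygi19 zgi25) (kgi xgi8 ygi44 zgi57) (kgi xgi24 ygi46 zgi35) (kgi xgi25 ygi9 zgi2) (kgi xgi21 ygi4 zgi15) (kgi xgi10 ygi41 zgi50) (kgi xgi14 ygi53 zgi50) (kgi xgi8 ygi44 zgi60) (kgi xgi24 ygi46 zgi27) (kgi xgi10 ygi41 zgi33) (kgi xgi26 ygi20 zgi40) (kgi xgi14 ygi53 zgi49) (kgi xgi13 ygi41 zgi22) (kgi xgi15 ygi50 zgi36) (kgi xgi13 ygi48 zgi18) (kgi xgi22 ygi29 zgi36) (kgi xgi25 ygi16 zgi29) (kgi xgi8 ygi45 zgi14) (kgi xgi26 ygi20 zgi45) (kgi xgi26 ygi15 zgi18) (kgi xgi15 ygi9 zgi16) (kgi xgi9 ygi34 zgi40) (kgi xgi26 ygi20 zgi51) (kgi xgi26 ygi15 zgi23) (kgi xgi26 ygi20 zgi56) (kgi xgi9 ygi51 zgi59) (kgi xgi18 ygi38 zgi8) (kgi xgi24 ygi54 zgi0))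 (@D3.rec (fun _ => Pt) (kgi xgi8 ygi45 zgi9) (kgi xgi24 ygi46 zgi50) (kgi xgi26 ygi21 zgi5) (kgi xgi24 ygi46 zgi47) (kgi xgi8 ygi45 zgi11) (kgi xgi16 ygi52 zgi58) (kgi xgi20 ygi7 zgi46) (kgi xgi17 ygi1 zgi5) (kgi xgi19 ygi0 zgi21) (kgi xgi26 ygi13 zgi20) (kgi xgi25 ygi3 zgi54) (kgi xgi26 ygi21 zgi11) (kgi xgi8 ygi45 zgi13) (kgi xgi14 ygi59 zgi42) (kgi xgi16 ygi31 zgi53) (kgi xgi8 ygi52 zgi41) (kgi xgi21 ygi53 zgi5) (kgi xgi24 ygi21 zgi51) (kgi xgi10 ygi30 zgi9) (kgi xgi18 ygi30 zgi14) (kgi xgi26 ygi13 zgi28) (kgi xgi16 ygi25 zgi53) (kgi xgi16 ygi21 zgi16) (kgi xgi21 ygi10 zgi57) (kgi xgi11 ygi13 zgi23) (kgi xgi26 ygi21 zgi19) (kgi xgi10 ygi30 zgi4) (kgi xgi26 ygi21 zgi18) (kgi xgi8 ygi45 zgi22) (kgi xgi16 ygi32 zgi36) (kgi xgi26 ygi21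 zgi30) (kgi xgi26 ygi21 zgi34) (kgi xgi12 ygi31 zgi58) (kgi xgi8 ygi45 zgi27) (kgi xgi26 ygi21 zgi36) (kgi xgi23 ygi42 zgi36) (kgi xgi24 ygi55 zgi24) (kgi xgi8 ygi46 zgi8) (kgi xgi18 ygi56 zgi30) (kgi xgi12 ygi22 zgi37) (kgi xgi8 ygi45 zgi31) (kgi xgi18 ygi33 zgi4) (kgi xgi10 ygi1 zgi51) (kgi xgi26 ygi21 zgi44) (kgi xgi8 ygi45 zgi34) (kgi xgi12 ygi22 zgi55) (kgi xgi12 ygi22 zgi53) (kgi xgi21 ygi29 zgi31) (kgi xgi16 ygi25 zgi6) (kgi xgi16 ygi34 zgi33) (kgi xgi16 ygi29 zgi45) (kgi xgi17 ygi24 zgi37) (kgi xgi26 ygi21 zgi48) (kgi xgi20 ygi34 zgi46) (kgi xgi8 ygi45 zgi43) (kgi xgi24 ygi57 zgi16) (kgi xgi11 ygi37 zgi22) (kgi xgi12 ygi36 zgi19) (kgi xgi11 ygi12 zgi19) (kgi xgi24 ygi57 zgi34) (kgi xgi11 ygi38 zgi30) (kgi xgi8 ygi45 zgi49))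 (@D3.rec (fun _ => Pt) (kgi xgi26 ygi21 zgi54) (kgi xgi21 ygi13 zgi53) (kgi xgi20 ygi34 zgi28) (kgi xgi24 ygi57 zgi40) (kgi xgi9 ygi14 zgi4) (kgi xgi26 ygi21 zgi57) (kgi xgi22 ygi47 zgi32) (kgi xgi8 ygi45 zgi58) (kgi xgi13 ygi55 zgi23) (kgi xgi21 ygi54 zgi38) (kgi xgi8 ygi45 zgi59) (kgi xgi16 ygi23 zgi38) (kgi xgi16 ygi32 zgi60) (kgi xgi13 ygi46 zgi25) (kgi xgi12 ygi6 zgi58) (kgi xgi8 ygi51 zgi38) (kgi xgi21 ygi53 zgi44) (kgi xgi8 ygi46 zgi7) (kgi xgi25 ygi51 zgi55) (kgi xgi8 ygi46 zgi5) (kgi xgi15 ygi10 zgi56) (kgi xgi12 ygi6 zgi53) (kgi xgi18 ygi40 zgi49) (kgi xgi18 ygi50 zgi14) (kgi xgi16 ygi26 zgi6) (kgi xgi10 ygi1 zgi48) (kgi xgi16 ygi26 zgi4) (kgi xgi13 ygi40 zgi61) (kgi xgi21 ygi6 zgi50) (kgi xgi26 ygi22 zgi7) (kgi xgi8 ygi46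 zgi12) (kgi xgi8 ygi46 zgi24) (kgi xgi23 ygi3 zgi44) (kgi xgi8 ygi48 zgi7) (kgi xgi22 ygi39 zgi17) (kgi xgi24 ygi36 zgi43) (kgi xgi9 ygi25 zgi4) (kgi xgi16 ygi32 zgi52) (kgi xgi13 ygi33 zgi55) (kgi xgi16 ygi32 zgi53) (kgi xgi15 ygi6 zgi31) (kgi xgi8 ygi46 zgi20) (kgi xgi23 ygi4 zgi20) (kgi xgi26 ygi22 zgi19) (kgi xgi26 ygi22 zgi6) (kgi xgi11 ygi32 zgi60) (kgi xgi16 ygi31 zgi41) (kgi xgi21 ygi53 zgi43) (kgi xgi26 ygi22 zgi27) (kgi xgi12 ygi22 zgi24) (kgi xgi23 ygi19 zgi48) (kgi xgi20 ygi17 zgi22) (kgi xgi24 ygi57 zgi22) (kgi xgi8 ygi46 zgi23) (kgi xgi13 ygi27 zgi46) (kgi xgi18 ygi0 zgi38) (kgi xgi15 ygi6 zgi19) (kgi xgi12 ygi6 zgi32) (kgi xgi26 ygi22 zgi36) (kgi xgi8 ygi46 zgi28) (kgi xgi8 ygi46 zgi31) (kgi xgi26 ygi22 zgi39)) (@D3.rec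 (fun _ => Pt) (kgi xgi25 ygi12 zgi7) (kgi xgi12 ygi22 zgi35) (kgi xgi12 ygi5 zgi59) (kgi xgi12 ygi32 zgi13) (kgi xgi24 ygi56 zgi54) (kgi xgi26 ygi22 zgi38) (kgi xgi16 ygi23 zgi47) (kgi xgi15 ygi6 zgi18) (kgi xgi8 ygi46 zgi34) (kgi xgi12 ygi22 zgi50) (kgi xgi26 ygi22 zgi49) (kgi xgi12 ygi22 zgi47) (kgi xgi8 ygi46 zgi36) (kgi xgi12 ygi6 zgi26) (kgi xgi8 ygi46 zgi37) (kgi xgi12 ygi5 zgi52) (kgi xgi8 ygi46 zgi38) (kgi xgi12 ygi23 zgi8) (kgi xgi12 ygi23 zgi6) (kgi xgi22 ygi47 zgi41) (kgi xgi8 ygi46 zgi41) (kgi xgi20 ygi29 zgi25) (kgi xgi17 ygi19 zgi47) (kgi xgi26 ygi22 zgi55) (kgi xgi8 ygi46 zgi43) (kgi xgi8 ygi46 zgi48) (kgi xgi8 ygi46 zgi46) (kgi xgi10 ygi23 zgi8) (kgi xgi8 ygi46 zgi45) (kgi xgi26 ygi22 zgi56) (kgi xgi10 ygi58 zgi10)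 (kgi xgi20 ygi31 zgi58) (kgi xgi9 ygi9 zgi40) (kgi xgi19 ygi47 zgi61) (kgi xgi26 ygi23 zgi1) (kgi xgi26 ygi23 zgi2) (kgi xgi11 ygi59 zgi24) (kgi xgi26 ygi23 zgi0) (kgi xgi21 ygi28 zgi44) (kgi xgi14 ygi0 zgi44) (kgi xgi8 ygi46 zgi53) (kgi xgi26 ygi23 zgi9) (kgi xgi26 ygi21 zgi46) (kgi xgi16 ygi24 zgi57) (kgi xgi15 ygi6 zgi6) (kgi xgi15 ygi6 zgi7) (kgi xgi14 ygi1 zgi60) (kgi xgi24 ygi54 zgi29) (kgi xgi21 ygi29 zgi18) (kgi xgi19 ygi48 zgi16) (kgi xgi10 ygi16 zgi9) (kgi xgi8 ygi46 zgi54) (kgi xgi8 ygi51 zgi5) (kgi xgi16 ygi23 zgi13) (kgi xgi13 ygi38 zgi26) (kgi xgi21 ygi10 zgi59) (kgi xgi22 ygi47 zgi42) (kgi xgi12 ygi37 zgi28) (kgi xgi26 ygi23 zgi20) (kgi xgi8 ygi47 zgi9) (kgi xgi26 ygi22 zgi28) (kgi xgi8 ygi47 zgi6)) (@D3.rec (fun _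 => Pt) (kgi xgi15 ygi10 zgi27) (kgi xgi8 ygi46 zgi60) (kgi xgi13 ygi31 zgi14) (kgi xgi8 ygi47 zgi12) (kgi xgi8 ygi47 zgi0) (kgi xgi18 ygi19 zgi48) (kgi xgi16 ygi23 zgi37) (kgi xgi15 ygi55 zgi47) (kgi xgi16 ygi24 zgi21) (kgi xgi25 ygi0 zgi7) (kgi xgi16 ygi24 zgi19) (kgi xgi21 ygi12 zgi31) (kgi xgi26 ygi9 zgi19) (kgi xgi8 ygi47 zgi5) (kgi xgi26 ygi23 zgi22) (kgi xgi26 ygi23 zgi39) (kgi xgi22 ygi42 zgi48) (kgi xgi9 ygi48 zgi10) (kgi xgi17 ygi23 zgi1) (kgi xgi9 ygi3 zgi53) (kgi xgi23 ygi10 zgi15) (kgi xgi22 ygi46 zgi24) (kgi xgi8 ygi47 zgi8) (kgi xgi25 ygi59 zgi14) (kgi xgi25 ygi58 zgi41) (kgi xgi26 ygi23 zgi23) (kgi xgi13 ygi42 zgi9) (kgi xgi13 ygi42 zgi6) (kgi xgi16 ygi1 zgi0) (kgi xgi9 ygi48 zgi11) (kgi xgi16 ygi33 zgi61) (kgi xgi26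 ygi23 zgi50) (kgi xgi8 ygi51 zgi52) (kgi xgi22 ygi52 zgi15) (kgi xgi8 ygi47 zgi14) (kgi xgi13 ygi43 zgi17) (kgi xgi11 ygi47 zgi39) (kgi xgi13 ygi42 zgi16) (kgi xgi22 ygi30 zgi54) (kgi xgi8 ygi47 zgi16) (kgi xgi9 ygi10 zgi27) (kgi xgi26 ygi23 zgi59) (kgi xgi22 ygi29 zgi5) (kgi xgi8 ygi47 zgi17) (kgi xgi8 ygi47 zgi20) (kgi xgi19 ygi36 zgi59) (kgi xgi16 ygi24 zgi14) (kgi xgi13 ygi35 zgi51) (kgi xgi24 ygi56 zgi15) (kgi xgi10 ygi56 zgi27) (kgi xgi15 ygi5 zgi60) (kgi xgi8 ygi51 zgi59) (kgi xgi11 ygi59 zgi36) (kgi xgi26 ygi24 zgi9) (kgi xgi19 ygi39 zgi48) (kgi xgi10 ygi51 zgi30) (kgi xgi21 ygi1 zgi60) (kgi xgi8 ygi47 zgi24) (kgi xgi17 ygi57 zgi13) (kgi xgi25 ygi5 zgi38) (kgi xgi18 ygi2 zgi56) (kgi xgi17 ygi57 zgi11)) (@D3.rec (fun _ => Pt)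 (kgi xgi17 ygi57 zgi39) (kgi xgi26 ygi24 zgi15) (kgi xgi17 ygi57 zgi23) (kgi xgi15 ygi20 zgi54) (kgi xgi24 ygi57 zgi12) (kgi xgi26 ygi24 zgi18) (kgi xgi26 ygi24 zgi20) (kgi xgi15 ygi39 zgi36) (kgi xgi8 ygi47 zgi30) (kgi xgi17 ygi57 zgi27) (kgi xgi17 ygi57 zgi25) (kgi xgi12 ygi5 zgi9) (kgi xgi26 ygi24 zgi27) (kgi xgi22 ygi54 zgi45) (kgi xgi25 ygi35 zgi31) (kgi xgi8 ygi47 zgi33) (kgi xgi17 ygi57 zgi33) (kgi xgi17 ygi57 zgi30) (kgi xgi22 ygi16 zgi42) (kgi xgi26 ygi24 zgi36) (kgi xgi14 ygi27 zgi61) (kgi xgi8 ygi47 zgi36) (kgi xgi13 ygi43 zgi33) (kgi xgi17 ygi57 zgi34) (kgi xgi26 ygi24 zgi31) (kgi xgi8 ygi47 zgi39) (kgi xgi26 ygi24 zgi38) (kgi xgi25 ygi5 zgi46) (kgi xgi26 ygi24 zgi43) (kgi xgi26 ygi24 zgi39) (kgi xgi24 ygi13 zgi42) (kgi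 xgi26 ygi24 zgi46) (kgi xgi8 ygi47 zgi42) (kgi xgi17 ygi57 zgi14) (kgi xgi8 ygi48 zgi40) (kgi xgi8 ygi47 zgi44) (kgi xgi8 ygi49 zgi30) (kgi xgi20 ygi52 zgi22) (kgi xgi8 ygi47 zgi46) (kgi xgi17 ygi57 zgi42) (kgi xgi13 ygi32 zgi6) (kgi xgi26 ygi24 zgi53) (kgi xgi26 ygi24 zgi24) (kgi xgi8 ygi47 zgi49) (kgi xgi11 ygi32 zgi43) (kgi xgi11 ygi32 zgi41) (kgi xgi20 ygi32 zgi11) (kgi xgi26 ygi24 zgi61) (kgi xgi8 ygi47 zgi54) (kgi xgi26 ygi23 zgi8) (kgi xgi26 ygi22 zgi51) (kgi xgi12 ygi7 zgi8) (kgi xgi11 ygi11 zgi21) (kgi xgi19 ygi33 zgi17) (kgi xgi11 ygi3 zgi0) (kgi xgi10 ygi4 zgi14) (kgi xgi8 ygi47 zgi55) (kgi xgi8 ygi50 zgi52) (kgi xgi16 ygi32 zgi27) (kgi xgi14 ygi45 zgi31) (kgi xgi26 ygi25 zgi12) (kgi xgi11 ygi3 zgi47)) (@D3.rec (fun _ =>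 Pt) (kgi xgi19 ygi44 zgi59) (kgi xgi16 ygi10 zgi60) (kgi xgi18 ygi40 zgi51) (kgi xgi8 ygi47 zgi60) (kgi xgi16 ygi13 zgi13) (kgi xgi16 ygi13 zgi14) (kgi xgi8 ygi47 zgi61) (kgi xgi18 ygi40 zgi53) (kgi xgi24 ygi47 zgi35) (kgi xgi15 ygi0 zgi16) (kgi xgi22 ygi52 zgi10) (kgi xgi14 ygi38 zgi26) (kgi xgi21 ygi33 zgi15) (kgi xgi16 ygi32 zgi9) (kgi xgi16 ygi32 zgi10) (kgi xgi22 ygi52 zgi33) (kgi xgi20 ygi10 zgi34) (kgi xgi16 ygi49 zgi37) (kgi xgi8 ygi48 zgi25) (kgi xgi8 ygi48 zgi22) (kgi xgi13 ygi28 zgi11) (kgi xgi11 ygi32 zgi36) (kgi xgi8 ygi48 zgi15) (kgi xgi8 ygi48 zgi17) (kgi xgi26 ygi25 zgi30) (kgi xgi22 ygi5 zgi52) (kgi xgi25 ygi46 zgi41) (kgi xgi17 ygi11 zgi51) (kgi xgi11 ygi24 zgi39) (kgi xgi20 ygi5 zgi42) (kgi xgi26 ygi25 zgi29) (kgi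 xgi25 ygi45 zgi49) (kgi xgi24 ygi9 zgi15) (kgi xgi8 ygi48 zgi24) (kgi xgi22 ygi52 zgi45) (kgi xgi22 ygi52 zgi43) (kgi xgi23 ygi1 zgi30) (kgi xgi13 ygi32 zgi16) (kgi xgi22 ygi52 zgi9) (kgi xgi12 ygi5 zgi11) (kgi xgi24 ygi57 zgi43) (kgi xgi26 ygi25 zgi43) (kgi xgi8 ygi48 zgi30) (kgi xgi22 ygi47 zgi44) (kgi xgi9 ygi10 zgi28) (kgi xgi26 ygi25 zgi46) (kgi xgi26 ygi25 zgi50) (kgi xgi8 ygi48 zgi32) (kgi xgi8 ygi48 zgi34) (kgi xgi26 ygi24 zgi0) (kgi xgi13 ygi28 zgi15) (kgi xgi19 ygi39 zgi14) (kgi xgi8 ygi49 zgi28) (kgi xgi8 ygi51 zgi32) (kgi xgi22 ygi54 zgi33) (kgi xgi20 ygi7 zgi28) (kgi xgi25 ygi6 zgi17) (kgi xgi8 ygi48 zgi38) (kgi xgi19 ygi37 zgi50) (kgi xgi21 ygi4 zgi24) (kgi xgi8 ygi49 zgi16) (kgi xgi26 ygi26 zgi0)) (@D3.rec (fun _ =>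 Pt) (kgi xgi8 ygi48 zgi41) (kgi xgi21 ygi4 zgi23) (kgi xgi26 ygi26 zgi7) (kgi xgi21 ygi4 zgi20) (kgi xgi22 ygi9 zgi13) (kgi xgi26 ygi26 zgi10) (kgi xgi8 ygi48 zgi46) (kgi xgi12 ygi59 zgi38) (kgi xgi25 ygi28 zgi34) (kgi xgi8 ygi48 zgi49) (kgi xgi21 ygi4 zgi19) (kgi xgi24 ygi36 zgi48) (kgi xgi8 ygi48 zgi51) (kgi xgi8 ygi50 zgi15) (kgi xgi26 ygi26 zgi16) (kgi xgi8 ygi50 zgi16) (kgi xgi26 ygi17 zgi21) (kgi xgi17 ygi31 zgi45) (kgi xgi16 ygi36 zgi5) (kgi xgi8 ygi48 zgi59) (kgi xgi11 ygi1 zgi38) (kgi xgi14 ygi10 zgi51) (kgi xgi15 ygi50 zgi6) (kgi xgi8 ygi48 zgi61) (kgi xgi23 ygi13 zgi38) (kgi xgi24 ygi56 zgi47) (kgi xgi8 ygi49 zgi1) (kgi xgi8 ygi49 zgi3) (kgi xgi23 ygi43 zgi1) (kgi xgi8 ygi49 zgi6) (kgi xgi9 ygi14 zgi51) (kgi xgi9 ygi14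 zgi49) (kgi xgi20 ygi45 zgi27) (kgi xgi20 ygi7 zgi15) (kgi xgi9 ygi1 zgi45) (kgi xgi9 ygi46 zgi42) (kgi xgi21 ygi4 zgi17) (kgi xgi18 ygi21 zgi7) (kgi xgi23 ygi13 zgi55) (kgi xgi9 ygi9 zgi54) (kgi xgi19 ygi1 zgi32) (kgi xgi8 ygi49 zgi14) (kgi xgi26 ygi26 zgi33) (kgi xgi26 ygi26 zgi36) (kgi xgi17 ygi2 zgi57) (kgi xgi16 ygi29 zgi41) (kgi xgi17 ygi3 zgi48) (kgi xgi11 ygi11 zgi6) (kgi xgi17 ygi35 zgi36) (kgi xgi8 ygi49 zgi18) (kgi xgi21 ygi30 zgi9) (kgi xgi26 ygi26 zgi41) (kgi xgi17 ygi0 zgi61) (kgi xgi8 ygi49 zgi19) (kgi xgi8 ygi50 zgi20) (kgi xgi20 ygi35 zgi10) (kgi xgi8 ygi49 zgi20) (kgi xgi17 ygi58 zgi28) (kgi xgi23 ygi58 zgi37) (kgi xgi11 ygi29 zgi26) (kgi xgi11 ygi29 zgi25) (kgi xgi17 ygi4 zgi8)) (@D3.rec (fun _ => Pt) (kgi xgi11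 ygi8 zgi31) (kgi xgi10 ygi55 zgi30) (kgi xgi11 ygi17 zgi53) (kgi xgi26 ygi25 zgi45) (kgi xgi10 ygi30 zgi26) (kgi xgi11 ygi7 zgi53) (kgi xgi10 ygi19 zgi25) (kgi xgi26 ygi25 zgi54) (kgi xgi26 ygi26 zgi57) (kgi xgi22 ygi47 zgi36) (kgi xgi8 ygi49 zgi32) (kgi xgi24 ygi32 zgi20) (kgi xgi14 ygi19 zgi18) (kgi xgi14 ygi22 zgi23) (kgi xgi17 ygi3 zgi46) (kgi xgi26 ygi27 zgi1) (kgi xgi16 ygi35 zgi48) (kgi xgi13 ygi50 zgi28) (kgi xgi8 ygi49 zgi37) (kgi xgi17 ygi15 zgi23) (kgi xgi8 ygi49 zgi40) (kgi xgi20 ygi17 zgi21) (kgi xgi8 ygi50 zgi5) (kgi xgi9 ygi7 zgi11) (kgi xgi20 ygi6 zgi31) (kgi xgi16 ygi51 zgi41) (kgi xgi13 ygi50 zgi32) (kgi xgi17 ygi24 zgi19) (kgi xgi20 ygi6 zgi38) (kgi xgi20 ygi1 zgi39) (kgi xgi21 ygi14 zgi18) (kgi xgi13 ygi50 zgi40)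 (kgi xgi17 ygi3 zgi10) (kgi xgi18 ygi56 zgi46) (kgi xgi8 ygi49 zgi53) (kgi xgi18 ygi2 zgi14) (kgi xgi17 ygi15 zgi7) (kgi xgi15 ygi25 zgi51) (kgi xgi22 ygi7 zgi61) (kgi xgi23 ygi46 zgi28) (kgi xgi8 ygi50 zgi12) (kgi xgi12 ygi44 zgi16) (kgi xgi8 ygi50 zgi4) (kgi xgi21 ygi38 zgi18) (kgi xgi9 ygi29 zgi26) (kgi xgi9 ygi9 zgi36) (kgi xgi11 ygi11 zgi52) (kgi xgi8 ygi50 zgi7) (kgi xgi16 ygi22 zgi15) (kgi xgi20 ygi17 zgi26) (kgi xgi24 ygi35 zgi22) (kgi xgi8 ygi50 zgi9) (kgi xgi11 ygi10 zgi2) (kgi xgi8 ygi50 zgi10) (kgi xgi22 ygi52 zgi2) (kgi xgi19 ygi39 zgi41) (kgi xgi8 ygi50 zgi11) (kgi xgi8 ygi50 zgi14) (kgi xgi16 ygi51 zgi35) (kgi xgi15 ygi50 zgi26) (kgi xgi11 ygi36 zgi23) (kgi xgi11 ygi36 zgi24)) (@D3.rec (fun _ => Pt) (kgi xgi26 ygi27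 zgi21) (kgi xgi26 ygi26 zgi15) (kgi xgi17 ygi59 zgi10) (kgi xgi17 ygi2 zgi27) (kgi xgi26 ygi27 zgi25) (kgi xgi16 ygi51 zgi40) (kgi xgi11 ygi36 zgi35) (kgi xgi19 ygi33 zgi16) (kgi xgi20 ygi1 zgi19) (kgi xgi11 ygi13 zgi51) (kgi xgi8 ygi50 zgi18) (kgi xgi26 ygi26 zgi18) (kgi xgi26 ygi27 zgi35) (kgi xgi22 ygi47 zgi24) (kgi xgi20 ygi35 zgi8) (kgi xgi26 ygi27 zgi44) (kgi xgi24 ygi56 zgi45) (kgi xgi17 ygi2 zgi32) (kgi xgi26 ygi27 zgi51) (kgi xgi20 ygi35 zgi7) (kgi xgi26 ygi27 zgi56) (kgi xgi8 ygi50 zgi24) (kgi xgi26 ygi27 zgi59) (kgi xgi11 ygi38 zgi16) (kgi xgi17 ygi9 zgi54) (kgi xgi26 ygi28 zgi2) (kgi xgi8 ygi50 zgi26) (kgi xgi8 ygi50 zgi34) (kgi xgi12 ygi52 zgi61) (kgi xgi8 ygi50 zgi30) (kgi xgi21 ygi53 zgi34) (kgi xgi26 ygi28 zgi7) (kgi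 xgi21 ygi28 zgi61) (kgi xgi8 ygi50 zgi33) (kgi xgi20 ygi44 zgi50) (kgi xgi26 ygi28 zgi11) (kgi xgi21 ygi53 zgi31) (kgi xgi20 ygi49 zgi25) (kgi xgi21 ygi53 zgi59) (kgi xgi24 ygi47 zgi41) (kgi xgi13 ygi50 zgi38) (kgi xgi16 ygi24 zgi50) (kgi xgi8 ygi50 zgi35) (kgi xgi8 ygi50 zgi38) (kgi xgi23 ygi31 zgi7) (kgi xgi22 ygi37 zgi56) (kgi xgi11 ygi13 zgi44) (kgi xgi9 ygi14 zgi5) (kgi xgi26 ygi28 zgi21) (kgi xgi24 ygi47 zgi22) (kgi xgi23 ygi31 zgi12) (kgi xgi11 ygi29 zgi12) (kgi xgi9 ygi14 zgi53) (kgi xgi11 ygi23 zgi19) (kgi xgi26 ygi28 zgi23) (kgi xgi24 ygi47 zgi30) (kgi xgi21 ygi29 zgi28) (kgi xgi14 ygi5 zgi13) (kgi xgi9 ygi19 zgi32) (kgi xgi8 ygi50 zgi46) (kgi xgi8 ygi50 zgi50) (kgi xgi26 ygi28 zgi29)) (@D3.rec (fun _ => Pt) (kgi xgi9 ygi19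 zgi42) (kgi xgi26 ygi28 zgi33) (kgi xgi16 ygi53 zgi20) (kgi xgi22 ygi38 zgi52) (kgi xgi26 ygi28 zgi32) (kgi xgi8 ygi50 zgi49) (kgi xgi20 ygi9 zgi9) (kgi xgi26 ygi28 zgi43) (kgi xgi22 ygi47 zgi60) (kgi xgi8 ygi50 zgi51) (kgi xgi12 ygi6 zgi17) (kgi xgi26 ygi28 zgi48) (kgi xgi12 ygi38 zgi36) (kgi xgi8 ygi50 zgi55) (kgi xgi26 ygi28 zgi52) (kgi xgi26 ygi28 zgi55) (kgi xgi12 ygi8 zgi5) (kgi xgi12 ygi6 zgi24) (kgi xgi11 ygi33 zgi58) (kgi xgi11 ygi33 zgi60) (kgi xgi17 ygi18 zgi35) (kgi xgi20 ygi32 zgi9) (kgi xgi26 ygi29 zgi2) (kgi xgi26 ygi28 zgi51) (kgi xgi16 ygi29 zgi2) (kgi xgi16 ygi28 zgi53) (kgi xgi12 ygi6 zgi0) (kgi xgi14 ygi59 zgi51) (kgi xgi20 ygi28 zgi50) (kgi xgi24 ygi57 zgi20) (kgi xgi24 ygi48 zgi14) (kgi xgi8 ygi50 zgi59) (kgi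 xgi16 ygi33 zgi31) (kgi xgi26 ygi29 zgi16) (kgi xgi26 ygi21 zgi4) (kgi xgi16 ygi33 zgi49) (kgi xgi16 ygi23 zgi28) (kgi xgi13 ygi16 zgi47) (kgi xgi17 ygi0 zgi19) (kgi xgi22 ygi51 zgi21) (kgi xgi26 ygi29 zgi22) (kgi xgi8 ygi51 zgi1) (kgi xgi11 ygi41 zgi18) (kgi xgi14 ygi42 zgi50) (kgi xgi10 ygi19 zgi46) (kgi xgi8 ygi51 zgi2) (kgi xgi20 ygi31 zgi30) (kgi xgi26 ygi29 zgi30) (kgi xgi26 ygi29 zgi32) (kgi xgi8 ygi51 zgi3) (kgi xgi26 ygi29 zgi23) (kgi xgi17 ygi15 zgi12) (kgi xgi8 ygi51 zgi4) (kgi xgi14 ygi59 zgi26) (kgi xgi26 ygi29 zgi38) (kgi xgi20 ygi6 zgi4) (kgi xgi8 ygi51 zgi19) (kgi xgi26 ygi28 zgi50) (kgi xgi26 ygi29 zgi45) (kgi xgi16 ygi24 zgi10) (kgi xgi14 ygi59 zgi33) (kgi xgi24 ygi47 zgi21)) (@D3.rec (fun _ => Pt) (kgi xgi15 ygi6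 zgi27) (kgi xgi26 ygi19 zgi18) (kgi xgi15 ygi6 zgi34) (kgi xgi14 ygi59 zgi18) (kgi xgi8 ygi51 zgi9) (kgi xgi8 ygi51 zgi21) (kgi xgi26 ygi29 zgi53) (kgi xgi15 ygi7 zgi38) (kgi xgi25 ygi1 zgi36) (kgi xgi19 ygi59 zgi47) (kgi xgi24 ygi46 zgi1) (kgi xgi9 ygi14 zgi56) (kgi xgi22 ygi51 zgi37) (kgi xgi13 ygi14 zgi19) (kgi xgi11 ygi50 zgi2) (kgi xgi12 ygi45 zgi42) (kgi xgi22 ygi51 zgi36) (kgi xgi26 ygi29 zgi59) (kgi xgi22 ygi51 zgi30) (kgi xgi26 ygi30 zgi0) (kgi xgi19 ygi50 zgi0) (kgi xgi26 ygi23 zgi4) (kgi xgi16 ygi53 zgi12) (kgi xgi26 ygi25 zgi9) (kgi xgi16 ygi27 zgi12) (kgi xgi23 ygi22 zgi5) (kgi xgi24 ygi54 zgi4) (kgi xgi16 ygi14 zgi60) (kgi xgi26 ygi30 zgi11) (kgi xgi23 ygi43 zgi15) (kgi xgi14 ygi59 zgi50) (kgi xgi16 ygi32 zgi31) (kgi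 xgi9 ygi22 zgi15) (kgi xgi26 ygi25 zgi56) (kgi xgi21 ygi14 zgi5) (kgi xgi8 ygi51 zgi28) (kgi xgi8 ygi51 zgi31) (kgi xgi26 ygi29 zgi42) (kgi xgi26 ygi30 zgi25) (kgi xgi21 ygi44 zgi33) (kgi xgi26 ygi30 zgi28) (kgi xgi19 ygi39 zgi21) (kgi xgi26 ygi23 zgi15) (kgi xgi21 ygi4 zgi22) (kgi xgi11 ygi59 zgi29) (kgi xgi11 ygi32 zgi7) (kgi xgi15 ygi8 zgi26) (kgi xgi21 ygi11 zgi59) (kgi xgi25 ygi1 zgi55) (kgi xgi8 ygi51 zgi35) (kgi xgi16 ygi32 zgi35) (kgi xgi19 ygi6 zgi21) (kgi xgi26 ygi30 zgi45) (kgi xgi8 ygi51 zgi53) (kgi xgi8 ygi51 zgi58) (kgi xgi8 ygi51 zgi41) (kgi xgi26 ygi30 zgi51) (kgi xgi26 ygi30 zgi53) (kgi xgi8 ygi51 zgi39) (kgi xgi21 ygi10 zgi32) (kgi xgi21 ygi10 zgi30) (kgi xgi16 ygi26 zgi33)) (@D3.rec (fun _ => Pt) (kgi xgi26 ygi30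 zgi61) (kgi xgi26 ygi31 zgi1) (kgi xgi26 ygi31 zgi4) (kgi xgi8 ygi51 zgi42) (kgi xgi21 ygi10 zgi37) (kgi xgi21 ygi10 zgi35) (kgi xgi26 ygi31 zgi10) (kgi xgi22 ygi55 zgi39) (kgi xgi26 ygi31 zgi14) (kgi xgi8 ygi51 zgi45) (kgi xgi21 ygi10 zgi44) (kgi xgi21 ygi10 zgi42) (kgi xgi26 ygi31 zgi24) (kgi xgi26 ygi31 zgi27) (kgi xgi8 ygi51 zgi47) (kgi xgi21 ygi10 zgi49) (kgi xgi21 ygi10 zgi47) (kgi xgi24 ygi12 zgi11) (kgi xgi26 ygi31 zgi20) (kgi xgi26 ygi31 zgi36) (kgi xgi26 ygi31 zgi33) (kgi xgi8 ygi51 zgi50) (kgi xgi26 ygi21 zgi35) (kgi xgi26 ygi21 zgi33) (kgi xgi26 ygi31 zgi47) (kgi xgi26 ygi31 zgi51) (kgi xgi9 ygi9 zgi56) (kgi xgi18 ygi42 zgi49) (kgi xgi24 ygi12 zgi15) (kgi xgi18 ygi30 zgi51) (kgi xgi8 ygi51 zgi54) (kgi xgi21 ygi11 zgi5)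 (kgi xgi21 ygi11 zgi3) (kgi xgi8 ygi51 zgi56) (kgi xgi8 ygi51 zgi57) (kgi xgi26 ygi31 zgi61) (kgi xgi24 ygi13 zgi2) (kgi xgi26 ygi31 zgi8) (kgi xgi18 ygi2 zgi38) (kgi xgi18 ygi2 zgi37) (kgi xgi26 ygi32 zgi6) (kgi xgi26 ygi32 zgi8) (kgi xgi9 ygi54 zgi60) (kgi xgi10 ygi33 zgi2) (kgi xgi10 ygi22 zgi15) (kgi xgi8 ygi52 zgi2) (kgi xgi18 ygi14 zgi30) (kgi xgi26 ygi32 zgi15) (kgi xgi8 ygi52 zgi5) (kgi xgi16 ygi35 zgi30) (kgi xgi21 ygi53 zgi52) (kgi xgi26 ygi29 zgi31) (kgi xgi8 ygi52 zgi7) (kgi xgi10 ygi2 zgi1) (kgi xgi13 ygi49 zgi32) (kgi xgi10 ygi1 zgi60) (kgi xgi8 ygi52 zgi9) (kgi xgi16 ygi35 zgi35) (kgi xgi16 ygi35 zgi33) (kgi xgi16 ygi53 zgi18) (kgi xgi14 ygi42 zgi58) (kgi xgi8 ygi52 zgi11)) (@D3.rec (fun _ => Pt) (kgi xgi10 ygi22 zgi14)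 (kgi xgi10 ygi22 zgi12) (kgi xgi8 ygi52 zgi17) (kgi xgi15 ygi19 zgi20) (kgi xgi16 ygi35 zgi49) (kgi xgi8 ygi54 zgi32) (kgi xgi16 ygi22 zgi51) (kgi xgi16 ygi23 zgi15) (kgi xgi26 ygi17 zgi13) (kgi xgi21 ygi13 zgi51) (kgi xgi10 ygi22 zgi16) (kgi xgi16 ygi35 zgi45) (kgi xgi16 ygi35 zgi43) (kgi xgi21 ygi14 zgi4) (kgi xgi22 ygi34 zgi25) (kgi xgi19 ygi49 zgi37) (kgi xgi18 ygi58 zgi56) (kgi xgi16 ygi21 zgi50) (kgi xgi8 ygi52 zgi21) (kgi xgi8 ygi52 zgi23) (kgi xgi9 ygi39 zgi59) (kgi xgi26 ygi32 zgi28) (kgi xgi8 ygi52 zgi25) (kgi xgi16 ygi23 zgi8) (kgi xgi17 ygi47 zgi56) (kgi xgi26 ygi32 zgi43) (kgi xgi8 ygi52 zgi27) (kgi xgi16 ygi36 zgi11) (kgi xgi16 ygi36 zgi9) (kgi xgi16 ygi30 zgi4) (kgi xgi8 ygi52 zgi29) (kgi xgi16 ygi34 zgi49) (kgi xgi16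 ygi34 zgi48) (kgi xgi8 ygi52 zgi32) (kgi xgi16 ygi34 zgi58) (kgi xgi16 ygi34 zgi56) (kgi xgi9 ygi2 zgi45) (kgi xgi24 ygi28 zgi22) (kgi xgi24 ygi57 zgi36) (kgi xgi8 ygi52 zgi34) (kgi xgi10 ygi26 zgi48) (kgi xgi18 ygi38 zgi57) (kgi xgi10 ygi26 zgi45) (kgi xgi8 ygi52 zgi38) (kgi xgi16 ygi35 zgi12) (kgi xgi12 ygi46 zgi44) (kgi xgi16 ygi33 zgi34) (kgi xgi22 ygi29 zgi23) (kgi xgi20 ygi34 zgi29) (kgi xgi16 ygi35 zgi2) (kgi xgi26 ygi19 zgi15) (kgi xgi11 ygi11 zgi20) (kgi xgi18 ygi39 zgi4) (kgi xgi8 ygi52 zgi44) (kgi xgi8 ygi52 zgi46) (kgi xgi21 ygi25 zgi34) (kgi xgi18 ygi41 zgi13) (kgi xgi8 ygi52 zgi48) (kgi xgi10 ygi13 zgi13) (kgi xgi23 ygi43 zgi31) (kgi xgi26 ygi32 zgi61) (kgi xgi26 ygi33 zgi2)) (@D3.rec (fun _ => Pt) (kgi xgi16 ygi29 zgi18)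 (kgi xgi8 ygi52 zgi47) (kgi xgi20 ygi19 zgi37) (kgi xgi11 ygi17 zgi32) (kgi xgi23 ygi3 zgi48) (kgi xgi12 ygi46 zgi41) (kgi xgi12 ygi23 zgi13) (kgi xgi18 ygi0 zgi16) (kgi xgi21 ygi33 zgi0) (kgi xgi8 ygi52 zgi52) (kgi xgi16 ygi35 zgi28) (kgi xgi16 ygi35 zgi26) (kgi xgi17 ygi15 zgi18) (kgi xgi8 ygi52 zgi54) (kgi xgi8 ygi53 zgi38) (kgi xgi8 ygi53 zgi36) (kgi xgi20 ygi56 zgi4) (kgi xgi8 ygi52 zgi55) (kgi xgi26 ygi33 zgi14) (kgi xgi8 ygi54 zgi1) (kgi xgi10 ygi47 zgi43) (kgi xgi8 ygi52 zgi58) (kgi xgi8 ygi54 zgi19) (kgi xgi8 ygi54 zgi17) (kgi xgi16 ygi37 zgi55) (kgi xgi24 ygi26 zgi36) (kgi xgi9 ygi12 zgi10) (kgi xgi8 ygi52 zgi60) (kgi xgi8 ygi54 zgi44) (kgi xgi19 ygi19 zgi18) (kgi xgi8 ygi54 zgi41) (kgi xgi8 ygi53 zgi6) (kgi xgi8 ygi53 zgi1)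 (kgi xgi8 ygi54 zgi59) (kgi xgi8 ygi54 zgi57) (kgi xgi26 ygi33 zgi30) (kgi xgi8 ygi54 zgi29) (kgi xgi8 ygi53 zgi4) (kgi xgi8 ygi54 zgi51) (kgi xgi8 ygi54 zgi49) (kgi xgi26 ygi33 zgi37) (kgi xgi26 ygi33 zgi41) (kgi xgi19 ygi19 zgi15) (kgi xgi8 ygi54 zgi45) (kgi xgi8 ygi53 zgi7) (kgi xgi8 ygi53 zgi9) (kgi xgi26 ygi33 zgi47) (kgi xgi10 ygi39 zgi7) (kgi xgi16 ygi37 zgi16) (kgi xgi24 ygi26 zgi50) (kgi xgi8 ygi53 zgi11) (kgi xgi24 ygi58 zgi20) (kgi xgi26 ygi33 zgi49) (kgi xgi16 ygi45 zgi48) (kgi xgi24 ygi0 zgi16) (kgi xgi26 ygi11 zgi11) (kgi xgi8 ygi53 zgi10) (kgi xgi26 ygi11 zgi13) (kgi xgi25 ygi4 zgi27) (kgi xgi26 ygi34 zgi1) (kgi xgi17 ygi29 zgi3) (kgi xgi26 ygi33 zgi29)) (@D3.rec (fun _ => Pt) (kgi xgi26 ygi34 zgi7) (kgi xgi10 ygi29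 zgi37) (kgi xgi20 ygi39 zgi46) (kgi xgi8 ygi53 zgi14) (kgi xgi8 ygi55 zgi31) (kgi xgi8 ygi55 zgi29) (kgi xgi20 ygi58 zgi51) (kgi xgi8 ygi53 zgi16) (kgi xgi19 ygi57 zgi57) (kgi xgi19 ygi57 zgi55) (kgi xgi26 ygi34 zgi22) (kgi xgi25 ygi21 zgi26) (kgi xgi15 ygi22 zgi4) (kgi xgi8 ygi53 zgi21) (kgi xgi25 ygi7 zgi55) (kgi xgi25 ygi7 zgi53) (kgi xgi16 ygi36 zgi53) (kgi xgi26 ygi34 zgi33) (kgi xgi26 ygi34 zgi36) (kgi xgi8 ygi53 zgi23) (kgi xgi10 ygi47 zgi53) (kgi xgi11 ygi53 zgi48) (kgi xgi10 ygi47 zgi50) (kgi xgi8 ygi53 zgi32) (kgi xgi20 ygi56 zgi32) (kgi xgi8 ygi53 zgi27) (kgi xgi10 ygi47 zgi46) (kgi xgi10 ygi47 zgi44) (kgi xgi16 ygi41 zgi11) (kgi xgi26 ygi34 zgi49) (kgi xgi26 ygi34 zgi51) (kgi xgi8 ygi53 zgi29) (kgi xgi20 ygi55 zgi5) (kgi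 xgi22 ygi23 zgi61) (kgi xgi8 ygi53 zgi30) (kgi xgi19 ygi54 zgi53) (kgi xgi19 ygi54 zgi51) (kgi xgi16 ygi39 zgi39) (kgi xgi26 ygi35 zgi0) (kgi xgi26 ygi35 zgi3) (kgi xgi11 ygi53 zgi20) (kgi xgi10 ygi47 zgi55) (kgi xgi8 ygi53 zgi33) (kgi xgi25 ygi7 zgi58) (kgi xgi25 ygi7 zgi56) (kgi xgi19 ygi5 zgi7) (kgi xgi25 ygi32 zgi7) (kgi xgi20 ygi54 zgi1) (kgi xgi22 ygi23 zgi57) (kgi xgi26 ygi35 zgi16) (kgi xgi26 ygi35 zgi18) (kgi xgi16 ygi36 zgi24) (kgi xgi26 ygi34 zgi43) (kgi xgi26 ygi34 zgi54) (kgi xgi19 ygi32 zgi46) (kgi xgi16 ygi39 zgi33) (kgi xgi20 ygi56 zgi29) (kgi xgi25 ygi45 zgi7) (kgi xgi26 ygi35 zgi33) (kgi xgi8 ygi53 zgi39) (kgi xgi22 ygi4 zgi5) (kgi xgi26 ygi35 zgi40)) (@D3.rec (fun _ => Pt) (kgi xgi8 ygi53 zgi40) (kgi xgi26 ygi35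 zgi35) (kgi xgi26 ygi35 zgi50) (kgi xgi26 ygi35 zgi32) (kgi xgi25 ygi22 zgi32) (kgi xgi22 ygi3 zgi54) (kgi xgi26 ygi35 zgi9) (kgi xgi26 ygi35 zgi54) (kgi xgi8 ygi53 zgi43) (kgi xgi25 ygi8 zgi16) (kgi xgi26 ygi36 zgi1) (kgi xgi25 ygi8 zgi13) (kgi xgi24 ygi35 zgi16) (kgi xgi19 ygi14 zgi10) (kgi xgi26 ygi36 zgi7) (kgi xgi11 ygi53 zgi37) (kgi xgi16 ygi42 zgi44) (kgi xgi8 ygi53 zgi46) (kgi xgi25 ygi8 zgi19) (kgi xgi26 ygi36 zgi21) (kgi xgi20 ygi57 zgi15) (kgi xgi8 ygi53 zgi48) (kgi xgi26 ygi34 zgi28) (kgi xgi26 ygi36 zgi29) (kgi xgi11 ygi53 zgi57) (kgi xgi26 ygi34 zgi38) (kgi xgi10 ygi30 zgi42) (kgi xgi10 ygi26 zgi34) (kgi xgi8 ygi53 zgi52) (kgi xgi26 ygi36 zgi40) (kgi xgi19 ygi3 zgi51) (kgi xgi10 ygi34 zgi8) (kgi xgi25 ygi53 zgi0) (kgi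 xgi10 ygi32 zgi26) (kgi xgi8 ygi53 zgi55) (kgi xgi10 ygi33 zgi50) (kgi xgi10 ygi33 zgi48) (kgi xgi19 ygi7 zgi13) (kgi xgi24 ygi13 zgi6) (kgi xgi26 ygi36 zgi50) (kgi xgi25 ygi8 zgi34) (kgi xgi15 ygi19 zgi12) (kgi xgi20 ygi56 zgi25) (kgi xgi10 ygi48 zgi0) (kgi xgi16 ygi40 zgi5) (kgi xgi26 ygi36 zgi57) (kgi xgi25 ygi8 zgi3) (kgi xgi20 ygi56 zgi18) (kgi xgi8 ygi53 zgi60) (kgi xgi25 ygi8 zgi1) (kgi xgi26 ygi37 zgi7) (kgi xgi26 ygi37 zgi10) (kgi xgi8 ygi53 zgi61) (kgi xgi26 ygi37 zgi2) (kgi xgi26 ygi37 zgi18) (kgi xgi26 ygi37 zgi0) (kgi xgi8 ygi54 zgi0) (kgi xgi25 ygi45 zgi11) (kgi xgi21 ygi1 zgi19) (kgi xgi25 ygi45 zgi9) (kgi xgi26 ygi35 zgi10) (kgi xgi19 ygi40 zgi46)) (@D3.rec (fun _ => Pt) (kgi xgi19 ygi1 zgi4) (kgi xgi26 ygi37 zgi26)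 (kgi xgi16 ygi51 zgi10) (kgi xgi8 ygi54 zgi3) (kgi xgi26 ygi33 zgi15) (kgi xgi20 ygi38 zgi19) (kgi xgi26 ygi33 zgi13) (kgi xgi8 ygi54 zgi5) (kgi xgi16 ygi37 zgi1) (kgi xgi26 ygi37 zgi36) (kgi xgi19 ygi31 zgi42) (kgi xgi8 ygi54 zgi8) (kgi xgi15 ygi2 zgi43) (kgi xgi15 ygi2 zgi41) (kgi xgi26 ygi37 zgi42) (kgi xgi15 ygi2 zgi40) (kgi xgi15 ygi2 zgi14) (kgi xgi26 ygi32 zgi10) (kgi xgi18 ygi54 zgi38) (kgi xgi19 ygi6 zgi28) (kgi xgi8 ygi54 zgi14) (kgi xgi18 ygi3 zgi1) (kgi xgi18 ygi2 zgi61) (kgi xgi26 ygi37 zgi48) (kgi xgi26 ygi37 zgi50) (kgi xgi8 ygi54 zgi16) (kgi xgi25 ygi10 zgi5) (kgi xgi8 ygi59 zgi13) (kgi xgi8 ygi54 zgi24) (kgi xgi24 ygi52 zgi38) (kgi xgi20 ygi58 zgi55) (kgi xgi10 ygi32 zgi11) (kgi xgi16 ygi41 zgi30) (kgi xgi16 ygi37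 zgi51) (kgi xgi16 ygi37 zgi37) (kgi xgi8 ygi54 zgi20) (kgi xgi20 ygi38 zgi33) (kgi xgi8 ygi54 zgi21) (kgi xgi26 ygi37 zgi46) (kgi xgi26 ygi37 zgi57) (kgi xgi11 ygi51 zgi39) (kgi xgi24 ygi26 zgi24) (kgi xgi26 ygi38 zgi5) (kgi xgi25 ygi10 zgi17) (kgi xgi26 ygi38 zgi9) (kgi xgi17 ygi50 zgi42) (kgi xgi8 ygi58 zgi61) (kgi xgi26 ygi38 zgi13) (kgi xgi8 ygi54 zgi38) (kgi xgi26 ygi38 zgi12) (kgi xgi18 ygi49 zgi28) (kgi xgi8 ygi54 zgi27) (kgi xgi25 ygi10 zgi21) (kgi xgi26 ygi33 zgi32) (kgi xgi25 ygi10 zgi8) (kgi xgi26 ygi33 zgi46) (kgi xgi19 ygi31 zgi38) (kgi xgi26 ygi32 zgi26) (kgi xgi26 ygi38 zgi22) (kgi xgi16 ygi13 zgi36) (kgi xgi20 ygi58 zgi50) (kgi xgi19 ygi1 zgi28)) (@D3.rec (fun _ => Pt) (kgi xgi10 ygi29 zgi34) (kgi xgi19 ygi1 zgi39)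 (kgi xgi20 ygi38 zgi53) (kgi xgi8 ygi58 zgi54) (kgi xgi26 ygi38 zgi34) (kgi xgi16 ygi38 zgi41) (kgi xgi26 ygi38 zgi38) (kgi xgi25 ygi10 zgi11) (kgi xgi24 ygi3 zgi34) (kgi xgi26 ygi38 zgi44) (kgi xgi8 ygi54 zgi39) (kgi xgi26 ygi38 zgi40) (kgi xgi26 ygi38 zgi52) (kgi xgi26 ygi38 zgi37) (kgi xgi8 ygi54 zgi40) (kgi xgi20 ygi38 zgi22) (kgi xgi26 ygi38 zgi59) (kgi xgi26 ygi33 zgi23) (kgi xgi26 ygi37 zgi51) (kgi xgi10 ygi40 zgi17) (kgi xgi26 ygi2 zgi13) (kgi xgi24 ygi26 zgi43) (kgi xgi14 ygi39 zgi3) (kgi xgi24 ygi12 zgi6) (kgi xgi13 ygi12 zgi33) (kgi xgi19 ygi19 zgi20) (kgi xgi8 ygi55 zgi15) (kgi xgi23 ygi45 zgi56) (kgi xgi26 ygi39 zgi10) (kgi xgi24 ygi12 zgi4) (kgi xgi26 ygi39 zgi12) (kgi xgi19 ygi41 zgi13) (kgi xgi20 ygi58 zgi45) (kgi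 xgi19 ygi44 zgi53) (kgi xgi26 ygi38 zgi18) (kgi xgi18 ygi22 zgi11) (kgi xgi10 ygi54 zgi57) (kgi xgi8 ygi54 zgi52) (kgi xgi15 ygi51 zgi46) (kgi xgi25 ygi47 zgi19) (kgi xgi26 ygi39 zgi26) (kgi xgi8 ygi54 zgi53) (kgi xgi8 ygi54 zgi61) (kgi xgi24 ygi3 zgi29) (kgi xgi8 ygi54 zgi54) (kgi xgi9 ygi42 zgi2) (kgi xgi26 ygi33 zgi45) (kgi xgi20 ygi57 zgi52) (kgi xgi8 ygi55 zgi25) (kgi xgi8 ygi55 zgi7) (kgi xgi17 ygi42 zgi23) (kgi xgi26 ygi34 zgi3) (kgi xgi26 ygi39 zgi37) (kgi xgi9 ygi42 zgi8) (kgi xgi26 ygi33 zgi40) (kgi xgi8 ygi54 zgi60) (kgi xgi9 ygi42 zgi10) (kgi xgi17 ygi49 zgi28) (kgi xgi26 ygi39 zgi25) (kgi xgi26 ygi33 zgi36) (kgi xgi8 ygi55 zgi0) (kgi xgi8 ygi55 zgi2)) (@D3.rec (fun _ => Pt) (kgi xgi26 ygi39 zgi52) (kgi xgi8 ygi55 zgi1)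 (kgi xgi15 ygi51 zgi44) (kgi xgi15 ygi51 zgi43) (kgi xgi26 ygi39 zgi51) (kgi xgi8 ygi55 zgi3) (kgi xgi26 ygi33 zgi43) (kgi xgi19 ygi19 zgi16) (kgi xgi8 ygi55 zgi17) (kgi xgi20 ygi58 zgi20) (kgi xgi19 ygi14 zgi11) (kgi xgi19 ygi31 zgi44) (kgi xgi26 ygi38 zgi23) (kgi xgi26 ygi39 zgi33) (kgi xgi26 ygi33 zgi28) (kgi xgi9 ygi51 zgi48) (kgi xgi26 ygi39 zgi56) (kgi xgi25 ygi10 zgi24) (kgi xgi8 ygi55 zgi8) (kgi xgi10 ygi56 zgi54) (kgi xgi10 ygi55 zgi6) (kgi xgi10 ygi55 zgi17) (kgi xgi8 ygi58 zgi1) (kgi xgi8 ygi55 zgi9) (kgi xgi16 ygi37 zgi28) (kgi xgi8 ygi55 zgi10) (kgi xgi10 ygi55 zgi38) (kgi xgi10 ygi57 zgi30) (kgi xgi8 ygi55 zgi12) (kgi xgi22 ygi4 zgi3) (kgi xgi16 ygi39 zgi29) (kgi xgi26 ygi40 zgi9) (kgi xgi19 ygi33 zgi53) (kgi xgi26 ygi40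 zgi12) (kgi xgi26 ygi1 zgi48) (kgi xgi24 ygi27 zgi37) (kgi xgi26 ygi39 zgi7) (kgi xgi20 ygi35 zgi29) (kgi xgi20 ygi38 zgi18) (kgi xgi8 ygi55 zgi16) (kgi xgi8 ygi55 zgi21) (kgi xgi26 ygi40 zgi16) (kgi xgi26 ygi40 zgi19) (kgi xgi25 ygi22 zgi28) (kgi xgi26 ygi40 zgi23) (kgi xgi18 ygi22 zgi12) (kgi xgi25 ygi38 zgi26) (kgi xgi26 ygi40 zgi29) (kgi xgi8 ygi55 zgi19) (kgi xgi21 ygi56 zgi36) (kgi xgi15 ygi42 zgi2) (kgi xgi16 ygi6 zgi39) (kgi xgi26 ygi40 zgi34) (kgi xgi26 ygi2 zgi7) (kgi xgi8 ygi55 zgi20) (kgi xgi26 ygi40 zgi20) (kgi xgi20 ygi39 zgi23) (kgi xgi22 ygi3 zgi57) (kgi xgi8 ygi55 zgi22) (kgi xgi20 ygi57 zgi59) (kgi xgi26 ygi40 zgi43) (kgi xgi16 ygi39 zgi8)) (@D3.rec (fun _ => Pt) (kgi xgi25 ygi19 zgi39) (kgi xgi8 ygi55 zgi24) (kgi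 xgi26 ygi34 zgi9) (kgi xgi26 ygi40 zgi48) (kgi xgi26 ygi34 zgi6) (kgi xgi26 ygi33 zgi26) (kgi xgi26 ygi40 zgi54) (kgi xgi26 ygi40 zgi58) (kgi xgi8 ygi55 zgi26) (kgi xgi26 ygi34 zgi11) (kgi xgi25 ygi45 zgi13) (kgi xgi8 ygi55 zgi27) (kgi xgi20 ygi13 zgi48) (kgi xgi25 ygi45 zgi3) (kgi xgi19 ygi4 zgi0) (kgi xgi21 ygi20 zgi55) (kgi xgi12 ygi53 zgi35) (kgi xgi21 ygi20 zgi54) (kgi xgi15 ygi47 zgi41) (kgi xgi26 ygi41 zgi5) (kgi xgi24 ygi32 zgi3) (kgi xgi11 ygi54 zgi10) (kgi xgi26 ygi5 zgi30) (kgi xgi26 ygi41 zgi4) (kgi xgi17 ygi48 zgi48) (kgi xgi25 ygi20 zgi15) (kgi xgi25 ygi20 zgi14) (kgi xgi11 ygi53 zgi61) (kgi xgi26 ygi33 zgi34) (kgi xgi26 ygi40 zgi28) (kgi xgi20 ygi57 zgi22) (kgi xgi16 ygi41 zgi60) (kgi xgi26 ygi1 zgi42) (kgi xgi8 ygi55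 zgi35) (kgi xgi20 ygi55 zgi47) (kgi xgi26 ygi41 zgi19) (kgi xgi16 ygi37 zgi12) (kgi xgi19 ygi11 zgi10) (kgi xgi26 ygi33 zgi18) (kgi xgi26 ygi41 zgi26) (kgi xgi20 ygi57 zgi16) (kgi xgi16 ygi38 zgi16) (kgi xgi20 ygi57 zgi5) (kgi xgi26 ygi41 zgi25) (kgi xgi19 ygi19 zgi21) (kgi xgi8 ygi55 zgi42) (kgi xgi10 ygi50 zgi45) (kgi xgi10 ygi50 zgi43) (kgi xgi15 ygi15 zgi47) (kgi xgi26 ygi41 zgi34) (kgi xgi8 ygi55 zgi44) (kgi xgi10 ygi50 zgi57) (kgi xgi10 ygi50 zgi55) (kgi xgi8 ygi55 zgi51) (kgi xgi8 ygi55 zgi47) (kgi xgi10 ygi50 zgi52) (kgi xgi10 ygi50 zgi50) (kgi xgi19 ygi34 zgi48) (kgi xgi26 ygi41 zgi46) (kgi xgi10 ygi43 zgi43) (kgi xgi8 ygi55 zgi50) (kgi xgi10 ygi51 zgi0)) (@D3.rec (fun _ => Pt) (kgi xgi10 ygi50 zgi60) (kgi xgi17 ygi27 zgi24)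 (kgi xgi8 ygi55 zgi52) (kgi xgi10 ygi51 zgi7) (kgi xgi10 ygi51 zgi5) (kgi xgi26 ygi41 zgi56) (kgi xgi26 ygi41 zgi57) (kgi xgi10 ygi47 zgi61) (kgi xgi19 ygi57 zgi44) (kgi xgi25 ygi8 zgi35) (kgi xgi21 ygi36 zgi58) (kgi xgi10 ygi51 zgi20) (kgi xgi8 ygi55 zgi57) (kgi xgi10 ygi51 zgi18) (kgi xgi22 ygi59 zgi54) (kgi xgi24 ygi39 zgi30) (kgi xgi19 ygi3 zgi13) (kgi xgi26 ygi41 zgi51) (kgi xgi26 ygi5 zgi6) (kgi xgi19 ygi35 zgi3) (kgi xgi8 ygi56 zgi1) (kgi xgi13 ygi43 zgi59) (kgi xgi23 ygi56 zgi1) (kgi xgi23 ygi7 zgi43) (kgi xgi15 ygi57 zgi1) (kgi xgi17 ygi58 zgi56) (kgi xgi15 ygi32 zgi51) (kgi xgi26 ygi41 zgi37) (kgi xgi19 ygi33 zgi52) (kgi xgi8 ygi59 zgi58) (kgi xgi16 ygi44 zgi54) (kgi xgi10 ygi53 zgi16) (kgi xgi11 ygi39 zgi10) (kgi xgi8 ygi56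 zgi9) (kgi xgi21 ygi0 zgi12) (kgi xgi23 ygi38 zgi6) (kgi xgi10 ygi52 zgi8) (kgi xgi26 ygi42 zgi21) (kgi xgi8 ygi56 zgi12) (kgi xgi8 ygi56 zgi15) (kgi xgi24 ygi11 zgi54) (kgi xgi19 ygi46 zgi37) (kgi xgi26 ygi42 zgi29) (kgi xgi8 ygi56 zgi13) (kgi xgi11 ygi55 zgi44) (kgi xgi10 ygi48 zgi18) (kgi xgi8 ygi56 zgi14) (kgi xgi10 ygi52 zgi19) (kgi xgi15 ygi44 zgi23) (kgi xgi20 ygi25 zgi9) (kgi xgi19 ygi46 zgi35) (kgi xgi22 ygi11 zgi24) (kgi xgi17 ygi56 zgi29) (kgi xgi11 ygi28 zgi15) (kgi xgi9 ygi5 zgi12) (kgi xgi8 ygi56 zgi54) (kgi xgi16 ygi48 zgi41) (kgi xgi17 ygi53 zgi46) (kgi xgi8 ygi56 zgi20) (kgi xgi16 ygi26 zgi54) (kgi xgi8 ygi56 zgi21) (kgi xgi19 ygi9 zgi29)) (@D3.rec (fun _ => Pt) (kgi xgi8 ygi56 zgi23) (kgi xgi10 ygi19 zgi24) (kgi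 xgi10 ygi19 zgi22) (kgi xgi25 ygi32 zgi35) (kgi xgi26 ygi42 zgi46) (kgi xgi16 ygi2 zgi13) (kgi xgi25 ygi52 zgi22) (kgi xgi8 ygi56 zgi26) (kgi xgi10 ygi46 zgi19) (kgi xgi10 ygi46 zgi17) (kgi xgi19 ygi28 zgi3) (kgi xgi26 ygi42 zgi55) (kgi xgi26 ygi42 zgi58) (kgi xgi10 ygi46 zgi44) (kgi xgi26 ygi43 zgi1) (kgi xgi8 ygi56 zgi29) (kgi xgi10 ygi46 zgi48) (kgi xgi10 ygi46 zgi46) (kgi xgi26 ygi43 zgi8) (kgi xgi19 ygi53 zgi31) (kgi xgi8 ygi56 zgi31) (kgi xgi10 ygi46 zgi56) (kgi xgi10 ygi46 zgi54) (kgi xgi26 ygi43 zgi15) (kgi xgi15 ygi55 zgi22) (kgi xgi10 ygi46 zgi27) (kgi xgi22 ygi21 zgi50) (kgi xgi10 ygi48 zgi24) (kgi xgi19 ygi58 zgi42) (kgi xgi26 ygi43 zgi3) (kgi xgi24 ygi46 zgi17) (kgi xgi10 ygi47 zgi9) (kgi xgi11 ygi44 zgi49) (kgi xgi8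 ygi56 zgi36) (kgi xgi10 ygi47 zgi7) (kgi xgi26 ygi43 zgi33) (kgi xgi14 ygi26 zgi20) (kgi xgi8 ygi56 zgi37) (kgi xgi14 ygi17 zgi46) (kgi xgi25 ygi18 zgi45) (kgi xgi18 ygi41 zgi55) (kgi xgi14 ygi30 zgi54) (kgi xgi14 ygi29 zgi26) (kgi xgi18 ygi54 zgi12) (kgi xgi10 ygi49 zgi13) (kgi xgi26 ygi43 zgi40) (kgi xgi8 ygi56 zgi44) (kgi xgi8 ygi56 zgi47) (kgi xgi25 ygi13 zgi49) (kgi xgi19 ygi42 zgi58) (kgi xgi26 ygi43 zgi46) (kgi xgi19 ygi53 zgi35) (kgi xgi8 ygi56 zgi46) (kgi xgi10 ygi49 zgi26) (kgi xgi16 ygi43 zgi28) (kgi xgi26 ygi43 zgi51) (kgi xgi10 ygi46 zgi15) (kgi xgi11 ygi0 zgi30) (kgi xgi26 ygi43 zgi55) (kgi xgi10 ygi49 zgi25) (kgi xgi19 ygi25 zgi46) (kgi xgi10 ygi49 zgi23)) (@D3.rec (fun _ => Pt) (kgi xgi10 ygi49 zgi46) (kgi xgi10 ygi52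 zgi40) (kgi xgi10 ygi52 zgi51) (kgi xgi16 ygi56 zgi35) (kgi xgi11 ygi22 zgi49) (kgi xgi11 ygi19 zgi21) (kgi xgi12 ygi10 zgi5) (kgi xgi11 ygi22 zgi36) (kgi xgi8 ygi56 zgi53) (kgi xgi10 ygi49 zgi39) (kgi xgi19 ygi43 zgi36) (kgi xgi11 ygi1 zgi5) (kgi xgi10 ygi52 zgi35) (kgi xgi22 ygi5 zgi18) (kgi xgi20 ygi5 zgi27) (kgi xgi16 ygi58 zgi47) (kgi xgi20 ygi52 zgi52) (kgi xgi26 ygi44 zgi10) (kgi xgi8 ygi56 zgi57) (kgi xgi19 ygi41 zgi19) (kgi xgi9 ygi1 zgi8) (kgi xgi25 ygi37 zgi51) (kgi xgi12 ygi54 zgi17) (kgi xgi10 ygi56 zgi7) (kgi xgi10 ygi56 zgi5) (kgi xgi19 ygi45 zgi2) (kgi xgi19 ygi53 zgi47) (kgi xgi8 ygi57 zgi1) (kgi xgi10 ygi56 zgi10) (kgi xgi10 ygi56 zgi8) (kgi xgi26 ygi44 zgi20) (kgi xgi8 ygi58 zgi53) (kgi xgi11 ygi2 zgi23) (kgi xgi10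 ygi56 zgi18) (kgi xgi20 ygi50 zgi7) (kgi xgi20 ygi50 zgi5) (kgi xgi26 ygi44 zgi24) (kgi xgi20 ygi14 zgi60) (kgi xgi8 ygi57 zgi7) (kgi xgi23 ygi1 zgi33) (kgi xgi26 ygi44 zgi27) (kgi xgi26 ygi44 zgi15) (kgi xgi9 ygi51 zgi27) (kgi xgi26 ygi4 zgi60) (kgi xgi15 ygi19 zgi33) (kgi xgi25 ygi36 zgi43) (kgi xgi12 ygi58 zgi29) (kgi xgi8 ygi57 zgi10) (kgi xgi16 ygi36 zgi48) (kgi xgi15 ygi19 zgi29) (kgi xgi25 ygi5 zgi7) (kgi xgi26 ygi44 zgi39) (kgi xgi18 ygi54 zgi36) (kgi xgi9 ygi42 zgi17) (kgi xgi16 ygi22 zgi1) (kgi xgi10 ygi42 zgi43) (kgi xgi26 ygi44 zgi42) (kgi xgi26 ygi0 zgi11) (kgi xgi25 ygi30 zgi52) (kgi xgi26 ygi44 zgi45) (kgi xgi8 ygi57 zgi23) (kgi xgi18 ygi2 zgi53)) (@D3.rec (fun _ => Pt) (kgi xgi25 ygi36 zgi29) (kgi xgi24 ygi16 zgi4)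 (kgi xgi17 ygi53 zgi48) (kgi xgi26 ygi42 zgi24) (kgi xgi10 ygi57 zgi11) (kgi xgi14 ygi8 zgi6) (kgi xgi8 ygi57 zgi25) (kgi xgi14 ygi50 zgi11) (kgi xgi8 ygi57 zgi28) (kgi xgi8 ygi57 zgi26) (kgi xgi10 ygi57 zgi2) (kgi xgi16 ygi26 zgi47) (kgi xgi24 ygi46 zgi61) (kgi xgi26 ygi39 zgi59) (kgi xgi26 ygi44 zgi46) (kgi xgi17 ygi53 zgi25) (kgi xgi26 ygi44 zgi49) (kgi xgi8 ygi57 zgi30) (kgi xgi14 ygi49 zgi11) (kgi xgi19 ygi25 zgi2) (kgi xgi9 ygi51 zgi12) (kgi xgi19 ygi50 zgi32) (kgi xgi20 ygi54 zgi33) (kgi xgi18 ygi2 zgi12) (kgi xgi8 ygi59 zgi7) (kgi xgi17 ygi7 zgi1) (kgi xgi15 ygi21 zgi37) (kgi xgi9 ygi42 zgi26) (kgi xgi15 ygi51 zgi51) (kgi xgi25 ygi47 zgi58) (kgi xgi25 ygi46 zgi55) (kgi xgi22 ygi5 zgi37) (kgi xgi10 ygi53 zgi50) (kgi xgi21 ygi36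 zgi43) (kgi xgi19 ygi34 zgi2) (kgi xgi24 ygi6 zgi36) (kgi xgi8 ygi57 zgi52) (kgi xgi21 ygi36 zgi39) (kgi xgi14 ygi16 zgi28) (kgi xgi8 ygi57 zgi53) (kgi xgi24 ygi8 zgi8) (kgi xgi14 ygi43 zgi15) (kgi xgi10 ygi43 zgi7) (kgi xgi25 ygi48 zgi3) (kgi xgi25 ygi51 zgi27) (kgi xgi8 ygi57 zgi56) (kgi xgi10 ygi26 zgi9) (kgi xgi25 ygi24 zgi59) (kgi xgi19 ygi24 zgi6) (kgi xgi8 ygi57 zgi58) (kgi xgi18 ygi44 zgi7) (kgi xgi26 ygi45 zgi19) (kgi xgi9 ygi24 zgi15) (kgi xgi26 ygi45 zgi21) (kgi xgi26 ygi45 zgi18) (kgi xgi15 ygi54 zgi24) (kgi xgi26 ygi43 zgi42) (kgi xgi25 ygi23 zgi43) (kgi xgi26 ygi43 zgi41) (kgi xgi19 ygi52 zgi45) (kgi xgi10 ygi44 zgi13) (kgi xgi12 ygi49 zgi25)) (@D3.rec (fun _ => Pt) (kgi xgi10 ygi55 zgi9) (kgi xgi8 ygi58 zgi6) (kgi xgi10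 ygi54 zgi59) (kgi xgi26 ygi44 zgi4) (kgi xgi17 ygi53 zgi31) (kgi xgi19 ygi51 zgi26) (kgi xgi15 ygi45 zgi29) (kgi xgi20 ygi38 zgi7) (kgi xgi19 ygi51 zgi37) (kgi xgi10 ygi44 zgi17) (kgi xgi26 ygi37 zgi33) (kgi xgi10 ygi41 zgi42) (kgi xgi17 ygi32 zgi47) (kgi xgi15 ygi15 zgi41) (kgi xgi21 ygi35 zgi61) (kgi xgi8 ygi58 zgi17) (kgi xgi10 ygi54 zgi30) (kgi xgi9 ygi4 zgi47) (kgi xgi10 ygi52 zgi45) (kgi xgi11 ygi1 zgi57) (kgi xgi10 ygi59 zgi18) (kgi xgi21 ygi37 zgi26) (kgi xgi20 ygi4 zgi60) (kgi xgi8 ygi58 zgi23) (kgi xgi10 ygi59 zgi3) (kgi xgi21 ygi36 zgi36) (kgi xgi8 ygi58 zgi24) (kgi xgi20 ygi17 zgi46) (kgi xgi10 ygi59 zgi52) (kgi xgi20 ygi15 zgi24) (kgi xgi18 ygi25 zgi53) (kgi xgi8 ygi58 zgi26) (kgi xgi11 ygi46 zgi59) (kgi xgi19 ygi59 zgi61)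 (kgi xgi10 ygi59 zgi36) (kgi xgi11 ygi16 zgi13) (kgi xgi10 ygi59 zgi37) (kgi xgi11 ygi50 zgi15) (kgi xgi8 ygi58 zgi36) (kgi xgi8 ygi58 zgi38) (kgi xgi19 ygi27 zgi61) (kgi xgi26 ygi0 zgi52) (kgi xgi11 ygi19 zgi20) (kgi xgi8 ygi59 zgi38) (kgi xgi9 ygi42 zgi49) (kgi xgi26 ygi45 zgi54) (kgi xgi25 ygi38 zgi14) (kgi xgi17 ygi56 zgi30) (kgi xgi11 ygi21 zgi59) (kgi xgi10 ygi44 zgi51) (kgi xgi10 ygi57 zgi61) (kgi xgi10 ygi58 zgi12) (kgi xgi14 ygi22 zgi15) (kgi xgi9 ygi0 zgi50) (kgi xgi25 ygi37 zgi46) (kgi xgi8 ygi58 zgi47) (kgi xgi17 ygi4 zgi1) (kgi xgi8 ygi58 zgi48) (kgi xgi10 ygi57 zgi51) (kgi xgi22 ygi2 zgi43) (kgi xgi11 ygi0 zgi28) (kgi xgi26 ygi1 zgi56)) (@D3.rec (fun _ => Pt) (kgi xgi10 ygi59 zgi12) (kgi xgi25 ygi10 zgi18) (kgi xgi19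 ygi43 zgi23) (kgi xgi19 ygi59 zgi4) (kgi xgi22 ygi4 zgi6) (kgi xgi26 ygi40 zgi31) (kgi xgi21 ygi1 zgi38) (kgi xgi26 ygi40 zgi33) (kgi xgi8 ygi59 zgi14) (kgi xgi19 ygi31 zgi46) (kgi xgi26 ygi38 zgi11) (kgi xgi19 ygi32 zgi16) (kgi xgi9 ygi17 zgi52) (kgi xgi8 ygi59 zgi2) (kgi xgi8 ygi59 zgi16) (kgi xgi26 ygi46 zgi7) (kgi xgi10 ygi58 zgi11) (kgi xgi16 ygi53 zgi56) (kgi xgi10 ygi58 zgi39) (kgi xgi19 ygi37 zgi7) (kgi xgi20 ygi17 zgi50) (kgi xgi25 ygi26 zgi50) (kgi xgi10 ygi52 zgi14) (kgi xgi19 ygi46 zgi49) (kgi xgi8 ygi59 zgi11) (kgi xgi10 ygi52 zgi16) (kgi xgi11 ygi43 zgi58) (kgi xgi8 ygi59 zgi12) (kgi xgi11 ygi42 zgi13) (kgi xgi26 ygi33 zgi25) (kgi xgi8 ygi59 zgi15) (kgi xgi20 ygi35 zgi23) (kgi xgi26 ygi46 zgi24) (kgi xgi11 ygi17 zgi2)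 (kgi xgi26 ygi46 zgi26) (kgi xgi9 ygi13 zgi4) (kgi xgi9 ygi12 zgi51) (kgi xgi9 ygi31 zgi36) (kgi xgi11 ygi18 zgi7) (kgi xgi26 ygi46 zgi31) (kgi xgi8 ygi59 zgi21) (kgi xgi16 ygi43 zgi53) (kgi xgi11 ygi18 zgi32) (kgi xgi25 ygi45 zgi55) (kgi xgi11 ygi1 zgi35) (kgi xgi21 ygi35 zgi41) (kgi xgi10 ygi49 zgi43) (kgi xgi9 ygi3 zgi25) (kgi xgi10 ygi57 zgi40) (kgi xgi8 ygi59 zgi28) (kgi xgi20 ygi51 zgi10) (kgi xgi25 ygi31 zgi6) (kgi xgi26 ygi46 zgi30) (kgi xgi21 ygi57 zgi61) (kgi xgi12 ygi50 zgi8) (kgi xgi16 ygi59 zgi35) (kgi xgi18 ygi25 zgi39) (kgi xgi8 ygi59 zgi34) (kgi xgi11 ygi1 zgi34) (kgi xgi8 ygi59 zgi36) (kgi xgi20 ygi25 zgi3) (kgi xgi20 ygi45 zgi51)) (@D3.rec (fun _ => Pt) (kgi xgi11 ygi1 zgi45) (kgi xgi9 ygi3 zgi22) (kgi xgi9 ygi5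 zgi20) (kgi xgi11 ygi58 zgi1) (kgi xgi21 ygi1 zgi12) (kgi xgi10 ygi53 zgi17) (kgi xgi11 ygi28 zgi50) (kgi xgi10 ygi56 zgi15) (kgi xgi26 ygi46 zgi41) (kgi xgi17 ygi22 zgi11) (kgi xgi16 ygi43 zgi19) (kgi xgi9 ygi48 zgi48) (kgi xgi21 ygi0 zgi50) (kgi xgi19 ygi31 zgi1) (kgi xgi19 ygi24 zgi7) (kgi xgi19 ygi24 zgi28) (kgi xgi18 ygi39 zgi49) (kgi xgi18 ygi0 zgi50) (kgi xgi20 ygi9 zgi47) (kgi xgi8 ygi59 zgi59) (kgi xgi19 ygi36 zgi12) (kgi xgi14 ygi51 zgi17) (kgi xgi24 ygi36 zgi35) (kgi xgi8 ygi59 zgi60) (kgi xgi10 ygi48 zgi12) (kgi xgi8 ygi59 zgi61) (kgi xgi11 ygi9 zgi60) (kgi xgi10 ygi48 zgi39) (kgi xgi21 ygi36 zgi52) (kgi xgi26 ygi46 zgi55) (kgi xgi11 ygi9 zgi59) (kgi xgi10 ygi6 zgi45) (kgi xgi11 ygi9 zgi57) (kgi xgi25 ygi21 zgi49) (kgi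 xgi11 ygi4 zgi49) (kgi xgi11 ygi8 zgi6) (kgi xgi16 ygi44 zgi60) (kgi xgi16 ygi28 zgi29) (kgi xgi12 ygi40 zgi39) (kgi xgi11 ygi19 zgi44) (kgi xgi12 ygi33 zgi54) (kgi xgi9 ygi58 zgi8) (kgi xgi11 ygi18 zgi34) (kgi xgi21 ygi3 zgi27) (kgi xgi10 ygi12 zgi7) (kgi xgi21 ygi11 zgi24) (kgi xgi20 ygi21 zgi50) (kgi xgi15 ygi30 zgi48) (kgi xgi10 ygi43 zgi49) (kgi xgi18 ygi25 zgi60) (kgi xgi10 ygi18 zgi42) (kgi xgi9 ygi0 zgi29) (kgi xgi9 ygi51 zgi46) (kgi xgi26 ygi47 zgi4) (kgi xgi26 ygi47 zgi7) (kgi xgi19 ygi53 zgi60) (kgi xgi9 ygi0 zgi32) (kgi xgi11 ygi2 zgi61) (kgi xgi11 ygi2 zgi59) (kgi xgi19 ygi53 zgi58) (kgi xgi26 ygi47 zgi10) (kgi xgi22 ygi45 zgi49)) (@D3.rec (fun _ => Pt) (kgi xgi26 ygi47 zgi15) (kgi xgi9 ygi0 zgi35) (kgi xgi25 ygi28 zgi61)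 (kgi xgi11 ygi4 zgi46) (kgi xgi9 ygi0 zgi36) (kgi xgi11 ygi3 zgi17) (kgi xgi11 ygi3 zgi15) (kgi xgi18 ygi3 zgi8) (kgi xgi26 ygi47 zgi25) (kgi xgi26 ygi47 zgi29) (kgi xgi9 ygi0 zgi38) (kgi xgi11 ygi3 zgi6) (kgi xgi16 ygi10 zgi0) (kgi xgi11 ygi3 zgi3) (kgi xgi11 ygi3 zgi33) (kgi xgi15 ygi30 zgi4) (kgi xgi9 ygi0 zgi41) (kgi xgi11 ygi3 zgi27) (kgi xgi11 ygi3 zgi25) (kgi xgi24 ygi52 zgi4) (kgi xgi24 ygi33 zgi3) (kgi xgi26 ygi47 zgi45) (kgi xgi26 ygi47 zgi49) (kgi xgi9 ygi0 zgi44) (kgi xgi11 ygi3 zgi36) (kgi xgi11 ygi3 zgi34) (kgi xgi24 ygi29 zgi15) (kgi xgi26 ygi47 zgi54) (kgi xgi26 ygi47 zgi58) (kgi xgi16 ygi9 zgi54) (kgi xgi11 ygi3 zgi7) (kgi xgi26 ygi48 zgi0) (kgi xgi21 ygi2 zgi21) (kgi xgi19 ygi36 zgi57) (kgi xgi26 ygi48 zgi3) (kgi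 xgi10 ygi57 zgi57) (kgi xgi26 ygi45 zgi58) (kgi xgi9 ygi0 zgi51) (kgi xgi14 ygi51 zgi7) (kgi xgi14 ygi45 zgi30) (kgi xgi26 ygi48 zgi9) (kgi xgi9 ygi0 zgi53) (kgi xgi24 ygi34 zgi6) (kgi xgi26 ygi1 zgi37) (kgi xgi18 ygi17 zgi58) (kgi xgi9 ygi0 zgi55) (kgi xgi24 ygi41 zgi34) (kgi xgi26 ygi48 zgi16) (kgi xgi24 ygi43 zgi18) (kgi xgi18 ygi27 zgi42) (kgi xgi26 ygi2 zgi40) (kgi xgi26 ygi48 zgi17) (kgi xgi10 ygi47 zgi1) (kgi xgi24 ygi18 zgi13) (kgi xgi9 ygi1 zgi0) (kgi xgi9 ygi1 zgi3) (kgi xgi19 ygi28 zgi48) (kgi xgi19 ygi47 zgi30) (kgi xgi26 ygi48 zgi26) (kgi xgi19 ygi53 zgi20) (kgi xgi10 ygi35 zgi19) (kgi xgi16 ygi10 zgi42)) (@D3.rec (fun _ => Pt) (kgi xgi25 ygi41 zgi26) (kgi xgi11 ygi5 zgi47) (kgi xgi11 ygi5 zgi45) (kgi xgi9 ygi1 zgi5)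 (kgi xgi9 ygi1 zgi6) (kgi xgi12 ygi55 zgi30) (kgi xgi26 ygi2 zgi12) (kgi xgi21 ygi1 zgi39) (kgi xgi12 ygi54 zgi57) (kgi xgi25 ygi41 zgi33) (kgi xgi16 ygi38 zgi61) (kgi xgi16 ygi42 zgi17) (kgi xgi9 ygi41 zgi59) (kgi xgi10 ygi31 zgi12) (kgi xgi9 ygi1 zgi15) (kgi xgi21 ygi27 zgi34) (kgi xgi11 ygi10 zgi28) (kgi xgi25 ygi21 zgi10) (kgi xgi12 ygi31 zgi6) (kgi xgi24 ygi53 zgi15) (kgi xgi14 ygi59 zgi35) (kgi xgi20 ygi0 zgi32) (kgi xgi20 ygi17 zgi19) (kgi xgi21 ygi37 zgi53) (kgi xgi20 ygi30 zgi0) (kgi xgi20 ygi0 zgi29) (kgi xgi20 ygi17 zgi42) (kgi xgi12 ygi8 zgi58) (kgi xgi9 ygi5 zgi45) (kgi xgi14 ygi46 zgi34) (kgi xgi26 ygi48 zgi47) (kgi xgi15 ygi30 zgi46) (kgi xgi14 ygi46 zgi35) (kgi xgi11 ygi29 zgi32) (kgi xgi16 ygi35 zgi15) (kgi xgi16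 ygi30 zgi40) (kgi xgi9 ygi1 zgi42) (kgi xgi9 ygi1 zgi50) (kgi xgi9 ygi1 zgi47) (kgi xgi19 ygi51 zgi25) (kgi xgi12 ygi58 zgi6) (kgi xgi9 ygi1 zgi46) (kgi xgi16 ygi30 zgi25) (kgi xgi20 ygi0 zgi22) (kgi xgi20 ygi0 zgi33) (kgi xgi18 ygi48 zgi35) (kgi xgi20 ygi13 zgi34) (kgi xgi10 ygi48 zgi51) (kgi xgi20 ygi19 zgi59) (kgi xgi20 ygi23 zgi29) (kgi xgi9 ygi1 zgi52) (kgi xgi9 ygi45 zgi30) (kgi xgi11 ygi17 zgi29) (kgi xgi20 ygi25 zgi28) (kgi xgi26 ygi20 zgi12) (kgi xgi9 ygi1 zgi61) (kgi xgi26 ygi49 zgi0) (kgi xgi20 ygi21 zgi41) (kgi xgi13 ygi24 zgi25) (kgi xgi9 ygi1 zgi59) (kgi xgi21 ygi49 zgi40) (kgi xgi20 ygi21 zgi38)) (@D3.rec (fun _ => Pt) (kgi xgi24 ygi53 zgi16) (kgi xgi26 ygi49 zgi7) (kgi xgi11 ygi16 zgi3) (kgi xgi17 ygi24 zgi23) (kgi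 xgi9 ygi2 zgi2) (kgi xgi9 ygi2 zgi12) (kgi xgi9 ygi2 zgi9) (kgi xgi23 ygi0 zgi23) (kgi xgi20 ygi10 zgi4) (kgi xgi17 ygi6 zgi36) (kgi xgi11 ygi15 zgi54) (kgi xgi18 ygi39 zgi40) (kgi xgi11 ygi15 zgi53) (kgi xgi25 ygi52 zgi4) (kgi xgi17 ygi22 zgi22) (kgi xgi9 ygi2 zgi7) (kgi xgi11 ygi15 zgi21) (kgi xgi26 ygi17 zgi31) (kgi xgi26 ygi49 zgi20) (kgi xgi17 ygi24 zgi21) (kgi xgi26 ygi49 zgi25) (kgi xgi17 ygi24 zgi18) (kgi xgi20 ygi21 zgi42) (kgi xgi9 ygi4 zgi18) (kgi xgi26 ygi49 zgi27) (kgi xgi20 ygi20 zgi4) (kgi xgi12 ygi3 zgi40) (kgi xgi9 ygi3 zgi15) (kgi xgi9 ygi3 zgi14) (kgi xgi9 ygi2 zgi13) (kgi xgi19 ygi59 zgi56) (kgi xgi20 ygi17 zgi36) (kgi xgi17 ygi9 zgi51) (kgi xgi13 ygi17 zgi2) (kgi xgi11 ygi22 zgi34) (kgi xgi12 ygi3 zgi60) (kgi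 xgi9 ygi2 zgi22) (kgi xgi20 ygi15 zgi52) (kgi xgi14 ygi59 zgi3) (kgi xgi16 ygi23 zgi6) (kgi xgi26 ygi49 zgi37) (kgi xgi22 ygi42 zgi40) (kgi xgi19 ygi27 zgi23) (kgi xgi16 ygi22 zgi24) (kgi xgi24 ygi53 zgi4) (kgi xgi19 ygi33 zgi49) (kgi xgi11 ygi13 zgi2) (kgi xgi19 ygi26 zgi36) (kgi xgi11 ygi13 zgi0) (kgi xgi11 ygi32 zgi8) (kgi xgi10 ygi29 zgi29) (kgi xgi26 ygi49 zgi43) (kgi xgi11 ygi14 zgi1) (kgi xgi16 ygi34 zgi59) (kgi xgi9 ygi2 zgi33) (kgi xgi9 ygi2 zgi49) (kgi xgi9 ygi2 zgi46) (kgi xgi20 ygi7 zgi22) (kgi xgi14 ygi59 zgi20) (kgi xgi17 ygi55 zgi6) (kgi xgi26 ygi5 zgi24) (kgi xgi9 ygi2 zgi37)) (@D3.rec (fun _ => Pt) (kgi xgi11 ygi13 zgi13) (kgi xgi26 ygi49 zgi50) (kgi xgi24 ygi53 zgi26) (kgi xgi22 ygi51 zgi4) (kgi xgi9 ygi2 zgi38)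 (kgi xgi13 ygi30 zgi35) (kgi xgi13 ygi30 zgi32) (kgi xgi9 ygi2 zgi41) (kgi xgi9 ygi2 zgi40) (kgi xgi26 ygi26 zgi14) (kgi xgi17 ygi8 zgi31) (kgi xgi22 ygi11 zgi55) (kgi xgi18 ygi41 zgi24) (kgi xgi11 ygi24 zgi42) (kgi xgi9 ygi2 zgi44) (kgi xgi11 ygi13 zgi16) (kgi xgi26 ygi49 zgi36) (kgi xgi26 ygi32 zgi17) (kgi xgi12 ygi46 zgi21) (kgi xgi11 ygi17 zgi18) (kgi xgi26 ygi49 zgi54) (kgi xgi20 ygi32 zgi59) (kgi xgi16 ygi32 zgi2) (kgi xgi11 ygi0 zgi19) (kgi xgi9 ygi2 zgi48) (kgi xgi21 ygi15 zgi50) (kgi xgi21 ygi9 zgi6) (kgi xgi11 ygi1 zgi22) (kgi xgi9 ygi3 zgi60) (kgi xgi9 ygi2 zgi52) (kgi xgi9 ygi3 zgi16) (kgi xgi19 ygi4 zgi32) (kgi xgi17 ygi12 zgi33) (kgi xgi11 ygi17 zgi49) (kgi xgi18 ygi48 zgi30) (kgi xgi9 ygi3 zgi30) (kgi xgi26 ygi50 zgi0)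 (kgi xgi26 ygi50 zgi3) (kgi xgi9 ygi2 zgi59) (kgi xgi9 ygi4 zgi19) (kgi xgi9 ygi4 zgi20) (kgi xgi21 ygi9 zgi32) (kgi xgi21 ygi15 zgi34) (kgi xgi17 ygi46 zgi52) (kgi xgi26 ygi50 zgi9) (kgi xgi15 ygi4 zgi8) (kgi xgi14 ygi50 zgi5) (kgi xgi9 ygi3 zgi1) (kgi xgi11 ygi14 zgi16) (kgi xgi11 ygi14 zgi14) (kgi xgi24 ygi47 zgi51) (kgi xgi21 ygi30 zgi32) (kgi xgi10 ygi21 zgi55) (kgi xgi19 ygi59 zgi53) (kgi xgi9 ygi3 zgi10) (kgi xgi21 ygi9 zgi16) (kgi xgi20 ygi52 zgi29) (kgi xgi24 ygi27 zgi52) (kgi xgi22 ygi17 zgi59) (kgi xgi16 ygi48 zgi17) (kgi xgi13 ygi53 zgi37) (kgi xgi9 ygi22 zgi40)) (@D3.rec (fun _ => Pt) (kgi xgi10 ygi21 zgi51) (kgi xgi13 ygi22 zgi0) (kgi xgi11 ygi22 zgi24) (kgi xgi25 ygi0 zgi11) (kgi xgi10 ygi14 zgi52) (kgi xgi9 ygi3 zgi19)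 (kgi xgi20 ygi15 zgi51) (kgi xgi24 ygi39 zgi54) (kgi xgi23 ygi36 zgi33) (kgi xgi10 ygi21 zgi48) (kgi xgi10 ygi21 zgi47) (kgi xgi19 ygi18 zgi9) (kgi xgi10 ygi58 zgi16) (kgi xgi9 ygi11 zgi7) (kgi xgi20 ygi25 zgi45) (kgi xgi26 ygi50 zgi29) (kgi xgi17 ygi7 zgi34) (kgi xgi9 ygi49 zgi56) (kgi xgi23 ygi46 zgi27) (kgi xgi11 ygi19 zgi16) (kgi xgi9 ygi3 zgi26) (kgi xgi20 ygi40 zgi48) (kgi xgi10 ygi38 zgi20) (kgi xgi20 ygi1 zgi33) (kgi xgi9 ygi3 zgi47) (kgi xgi16 ygi56 zgi14) (kgi xgi10 ygi33 zgi15) (kgi xgi22 ygi37 zgi7) (kgi xgi12 ygi23 zgi36) (kgi xgi26 ygi50 zgi36) (kgi xgi19 ygi17 zgi52) (kgi xgi11 ygi6 zgi20) (kgi xgi11 ygi21 zgi32) (kgi xgi9 ygi3 zgi33) (kgi xgi11 ygi0 zgi52) (kgi xgi17 ygi11 zgi27) (kgi xgi22 ygi36 zgi50) (kgi xgi9 ygi3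 zgi34) (kgi xgi9 ygi4 zgi9) (kgi xgi14 ygi40 zgi46) (kgi xgi9 ygi4 zgi6) (kgi xgi20 ygi1 zgi9) (kgi xgi9 ygi10 zgi46) (kgi xgi19 ygi27 zgi21) (kgi xgi26 ygi50 zgi49) (kgi xgi11 ygi21 zgi8) (kgi xgi20 ygi0 zgi53) (kgi xgi11 ygi34 zgi20) (kgi xgi18 ygi48 zgi23) (kgi xgi9 ygi24 zgi5) (kgi xgi9 ygi4 zgi16) (kgi xgi9 ygi3 zgi42) (kgi xgi20 ygi40 zgi45) (kgi xgi16 ygi56 zgi15) (kgi xgi26 ygi46 zgi14) (kgi xgi9 ygi3 zgi49) (kgi xgi9 ygi3 zgi44) (kgi xgi17 ygi19 zgi5) (kgi xgi10 ygi26 zgi3) (kgi xgi26 ygi50 zgi34) (kgi xgi9 ygi3 zgi56) (kgi xgi21 ygi37 zgi46)) (@D3.rec (fun _ => Pt) (kgi xgi18 ygi21 zgi26) (kgi xgi9 ygi3 zgi48) (kgi xgi20 ygi15 zgi47) (kgi xgi26 ygi51 zgi11) (kgi xgi10 ygi37 zgi0) (kgi xgi11 ygi30 zgi28) (kgi xgi19 ygi17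 zgi49) (kgi xgi13 ygi24 zgi35) (kgi xgi26 ygi5 zgi29) (kgi xgi24 ygi47 zgi4) (kgi xgi11 ygi7 zgi58) (kgi xgi19 ygi48 zgi55) (kgi xgi11 ygi21 zgi6) (kgi xgi11 ygi34 zgi22) (kgi xgi19 ygi15 zgi58) (kgi xgi20 ygi1 zgi28) (kgi xgi19 ygi51 zgi13) (kgi xgi11 ygi1 zgi9) (kgi xgi26 ygi51 zgi28) (kgi xgi9 ygi4 zgi2) (kgi xgi11 ygi0 zgi53) (kgi xgi26 ygi51 zgi33) (kgi xgi9 ygi4 zgi3) (kgi xgi26 ygi51 zgi30) (kgi xgi26 ygi51 zgi39) (kgi xgi26 ygi51 zgi27) (kgi xgi18 ygi52 zgi39) (kgi xgi11 ygi7 zgi40) (kgi xgi21 ygi9 zgi25) (kgi xgi26 ygi51 zgi42) (kgi xgi9 ygi4 zgi8) (kgi xgi26 ygi50 zgi48) (kgi xgi26 ygi51 zgi50) (kgi xgi20 ygi24 zgi7) (kgi xgi26 ygi50 zgi2) (kgi xgi9 ygi4 zgi10) (kgi xgi26 ygi50 zgi5) (kgi xgi26 ygi51 zgi60) (kgi xgi9 ygi4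 zgi11) (kgi xgi15 ygi4 zgi9) (kgi xgi26 ygi52 zgi1) (kgi xgi9 ygi4 zgi12) (kgi xgi26 ygi50 zgi58) (kgi xgi26 ygi52 zgi8) (kgi xgi19 ygi25 zgi26) (kgi xgi9 ygi4 zgi13) (kgi xgi26 ygi52 zgi12) (kgi xgi26 ygi52 zgi7) (kgi xgi26 ygi52 zgi11) (kgi xgi11 ygi14 zgi19) (kgi xgi26 ygi50 zgi32) (kgi xgi10 ygi48 zgi5) (kgi xgi26 ygi49 zgi30) (kgi xgi26 ygi50 zgi55) (kgi xgi26 ygi49 zgi61) (kgi xgi9 ygi4 zgi22) (kgi xgi26 ygi52 zgi20) (kgi xgi21 ygi3 zgi0) (kgi xgi9 ygi4 zgi24) (kgi xgi9 ygi9 zgi18) (kgi xgi26 ygi52 zgi26) (kgi xgi26 ygi52 zgi29)) (@D3.rec (fun _ => Pt) (kgi xgi11 ygi21 zgi20) (kgi xgi21 ygi16 zgi37) (kgi xgi9 ygi4 zgi26) (kgi xgi9 ygi4 zgi33) (kgi xgi9 ygi4 zgi31) (kgi xgi9 ygi16 zgi45) (kgi xgi11 ygi22 zgi47) (kgi xgi17 ygi23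 zgi0) (kgi xgi11 ygi22 zgi22) (kgi xgi20 ygi11 zgi1) (kgi xgi26 ygi52 zgi40) (kgi xgi9 ygi4 zgi30) (kgi xgi17 ygi22 zgi36) (kgi xgi26 ygi52 zgi45) (kgi xgi16 ygi54 zgi53) (kgi xgi16 ygi54 zgi25) (kgi xgi26 ygi49 zgi2) (kgi xgi11 ygi18 zgi3) (kgi xgi20 ygi4 zgi53) (kgi xgi11 ygi20 zgi19) (kgi xgi10 ygi15 zgi29) (kgi xgi11 ygi20 zgi51) (kgi xgi9 ygi5 zgi9) (kgi xgi20 ygi36 zgi22) (kgi xgi26 ygi49 zgi40) (kgi xgi19 ygi0 zgi56) (kgi xgi13 ygi58 zgi36) (kgi xgi11 ygi18 zgi22) (kgi xgi11 ygi14 zgi27) (kgi xgi11 ygi0 zgi58) (kgi xgi10 ygi58 zgi56) (kgi xgi9 ygi4 zgi48) (kgi xgi9 ygi4 zgi50) (kgi xgi15 ygi45 zgi54) (kgi xgi19 ygi51 zgi20) (kgi xgi16 ygi45 zgi6) (kgi xgi19 ygi51 zgi18) (kgi xgi9 ygi4 zgi51) (kgi xgi11 ygi35 zgi19) (kgi xgi9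 ygi4 zgi52) (kgi xgi26 ygi52 zgi52) (kgi xgi26 ygi52 zgi53) (kgi xgi20 ygi25 zgi50) (kgi xgi20 ygi50 zgi53) (kgi xgi22 ygi46 zgi41) (kgi xgi11 ygi35 zgi17) (kgi xgi26 ygi52 zgi60) (kgi xgi9 ygi4 zgi56) (kgi xgi10 ygi57 zgi41) (kgi xgi22 ygi47 zgi17) (kgi xgi11 ygi31 zgi27) (kgi xgi11 ygi16 zgi17) (kgi xgi19 ygi49 zgi1) (kgi xgi18 ygi57 zgi23) (kgi xgi26 ygi49 zgi4) (kgi xgi11 ygi21 zgi17) (kgi xgi11 ygi22 zgi29) (kgi xgi9 ygi5 zgi0) (kgi xgi26 ygi44 zgi5) (kgi xgi20 ygi52 zgi33) (kgi xgi11 ygi38 zgi53) (kgi xgi9 ygi5 zgi2)) (@D3.rec (fun _ => Pt) (kgi xgi10 ygi49 zgi42) (kgi xgi21 ygi16 zgi16) (kgi xgi24 ygi30 zgi30) (kgi xgi11 ygi22 zgi4) (kgi xgi11 ygi21 zgi0) (kgi xgi26 ygi21 zgi61) (kgi xgi20 ygi6 zgi49) (kgi xgi19 ygi27 zgi46)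 (kgi xgi9 ygi5 zgi11) (kgi xgi18 ygi43 zgi35) (kgi xgi19 ygi27 zgi24) (kgi xgi11 ygi22 zgi14) (kgi xgi11 ygi22 zgi13) (kgi xgi11 ygi21 zgi19) (kgi xgi26 ygi50 zgi20) (kgi xgi12 ygi51 zgi13) (kgi xgi9 ygi31 zgi22) (kgi xgi19 ygi25 zgi52) (kgi xgi20 ygi9 zgi10) (kgi xgi21 ygi13 zgi7) (kgi xgi19 ygi57 zgi41) (kgi xgi9 ygi51 zgi19) (kgi xgi12 ygi55 zgi21) (kgi xgi12 ygi55 zgi42) (kgi xgi11 ygi51 zgi17) (kgi xgi21 ygi52 zgi26) (kgi xgi9 ygi5 zgi29) (kgi xgi20 ygi20 zgi37) (kgi xgi21 ygi30 zgi56) (kgi xgi11 ygi27 zgi32) (kgi xgi19 ygi47 zgi4) (kgi xgi17 ygi4 zgi43) (kgi xgi19 ygi43 zgi21) (kgi xgi19 ygi43 zgi20) (kgi xgi12 ygi15 zgi5) (kgi xgi9 ygi17 zgi50) (kgi xgi9 ygi5 zgi47) (kgi xgi11 ygi58 zgi17) (kgi xgi11 ygi25 zgi33) (kgi xgi19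 ygi22 zgi20) (kgi xgi17 ygi19 zgi4) (kgi xgi9 ygi5 zgi56) (kgi xgi14 ygi13 zgi48) (kgi xgi9 ygi27 zgi44) (kgi xgi24 ygi53 zgi40) (kgi xgi9 ygi5 zgi58) (kgi xgi25 ygi40 zgi27) (kgi xgi20 ygi27 zgi6) (kgi xgi26 ygi53 zgi24) (kgi xgi20 ygi27 zgi12) (kgi xgi9 ygi6 zgi38) (kgi xgi9 ygi50 zgi17) (kgi xgi23 ygi38 zgi10) (kgi xgi20 ygi54 zgi26) (kgi xgi12 ygi48 zgi58) (kgi xgi10 ygi45 zgi52) (kgi xgi20 ygi35 zgi6) (kgi xgi9 ygi6 zgi14) (kgi xgi20 ygi41 zgi43) (kgi xgi9 ygi22 zgi16) (kgi xgi9 ygi6 zgi16) (kgi xgi9 ygi6 zgi26)) (@D3.rec (fun _ => Pt) (kgi xgi26 ygi53 zgi21) (kgi xgi9 ygi6 zgi23) (kgi xgi9 ygi17 zgi38) (kgi xgi9 ygi6 zgi19) (kgi xgi26 ygi53 zgi33) (kgi xgi9 ygi6 zgi35) (kgi xgi9 ygi6 zgi21) (kgi xgi9 ygi6 zgi50) (kgi xgi26 ygi53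 zgi40) (kgi xgi20 ygi26 zgi44) (kgi xgi12 ygi57 zgi33) (kgi xgi9 ygi17 zgi33) (kgi xgi13 ygi9 zgi2) (kgi xgi17 ygi27 zgi0) (kgi xgi21 ygi36 zgi32) (kgi xgi22 ygi6 zgi43) (kgi xgi19 ygi23 zgi7) (kgi xgi9 ygi6 zgi25) (kgi xgi26 ygi53 zgi31) (kgi xgi26 ygi53 zgi51) (kgi xgi26 ygi53 zgi29) (kgi xgi26 ygi53 zgi56) (kgi xgi26 ygi53 zgi58) (kgi xgi26 ygi53 zgi61) (kgi xgi26 ygi54 zgi1) (kgi xgi10 ygi57 zgi16) (kgi xgi20 ygi22 zgi11) (kgi xgi9 ygi16 zgi28) (kgi xgi26 ygi53 zgi57) (kgi xgi14 ygi31 zgi1) (kgi xgi26 ygi54 zgi0) (kgi xgi19 ygi23 zgi13) (kgi xgi20 ygi22 zgi45) (kgi xgi20 ygi41 zgi40) (kgi xgi11 ygi5 zgi29) (kgi xgi21 ygi36 zgi30) (kgi xgi20 ygi42 zgi5) (kgi xgi9 ygi6 zgi37) (kgi xgi26 ygi53 zgi36) (kgi xgi26 ygi54 zgi18) (kgi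 xgi26 ygi53 zgi32) (kgi xgi11 ygi51 zgi46) (kgi xgi11 ygi29 zgi24) (kgi xgi21 ygi0 zgi36) (kgi xgi24 ygi33 zgi20) (kgi xgi20 ygi42 zgi14) (kgi xgi25 ygi23 zgi33) (kgi xgi19 ygi40 zgi18) (kgi xgi26 ygi35 zgi43) (kgi xgi20 ygi26 zgi36) (kgi xgi25 ygi22 zgi40) (kgi xgi24 ygi33 zgi17) (kgi xgi20 ygi26 zgi39) (kgi xgi14 ygi25 zgi3) (kgi xgi20 ygi1 zgi54) (kgi xgi11 ygi10 zgi31) (kgi xgi26 ygi54 zgi37) (kgi xgi18 ygi2 zgi20) (kgi xgi9 ygi6 zgi49) (kgi xgi11 ygi51 zgi44) (kgi xgi26 ygi54 zgi45) (kgi xgi20 ygi26 zgi34)) (@D3.rec (fun _ => Pt) (kgi xgi26 ygi54 zgi48) (kgi xgi9 ygi6 zgi51) (kgi xgi11 ygi51 zgi48) (kgi xgi9 ygi48 zgi0) (kgi xgi11 ygi42 zgi17) (kgi xgi9 ygi48 zgi43) (kgi xgi11 ygi2 zgi30) (kgi xgi11 ygi42 zgi22) (kgi xgi11 ygi13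 zgi3) (kgi xgi26 ygi45 zgi4) (kgi xgi9 ygi6 zgi61) (kgi xgi11 ygi47 zgi40) (kgi xgi9 ygi10 zgi53) (kgi xgi11 ygi40 zgi6) (kgi xgi11 ygi51 zgi6) (kgi xgi18 ygi35 zgi10) (kgi xgi9 ygi7 zgi4) (kgi xgi9 ygi10 zgi50) (kgi xgi9 ygi7 zgi6) (kgi xgi11 ygi32 zgi25) (kgi xgi25 ygi14 zgi26) (kgi xgi19 ygi49 zgi49) (kgi xgi9 ygi7 zgi7) (kgi xgi9 ygi7 zgi8) (kgi xgi11 ygi36 zgi32) (kgi xgi9 ygi7 zgi10) (kgi xgi9 ygi31 zgi29) (kgi xgi25 ygi44 zgi23) (kgi xgi21 ygi20 zgi3) (kgi xgi9 ygi7 zgi33) (kgi xgi9 ygi15 zgi6) (kgi xgi9 ygi7 zgi50) (kgi xgi18 ygi17 zgi31) (kgi xgi21 ygi44 zgi14) (kgi xgi9 ygi7 zgi46) (kgi xgi11 ygi58 zgi27) (kgi xgi17 ygi8 zgi14) (kgi xgi9 ygi15 zgi37) (kgi xgi18 ygi25 zgi45) (kgi xgi26 ygi55 zgi9) (kgi xgi9 ygi7 zgi26) (kgi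 xgi11 ygi10 zgi42) (kgi xgi19 ygi26 zgi22) (kgi xgi17 ygi9 zgi28) (kgi xgi9 ygi7 zgi35) (kgi xgi20 ygi40 zgi59) (kgi xgi16 ygi48 zgi55) (kgi xgi17 ygi9 zgi29) (kgi xgi26 ygi55 zgi11) (kgi xgi9 ygi7 zgi38) (kgi xgi10 ygi4 zgi35) (kgi xgi18 ygi15 zgi11) (kgi xgi9 ygi7 zgi42) (kgi xgi12 ygi39 zgi13) (kgi xgi21 ygi48 zgi24) (kgi xgi9 ygi7 zgi43) (kgi xgi10 ygi2 zgi61) (kgi xgi20 ygi17 zgi8) (kgi xgi9 ygi15 zgi11) (kgi xgi12 ygi33 zgi53) (kgi xgi18 ygi23 zgi16) (kgi xgi18 ygi39 zgi41))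
def fi_g_17 : D2 → D3 → Pt := @D2.rec (fun _ => D3 → Pt) (@D3.rec (fun _ => Pt) (kgi xgi26 ygi55 zgi15) (kgi xgi26 ygi55 zgi13) (kgi xgi9 ygi15 zgi29) (kgi xgi9 ygi7 zgi48) (kgi xgi10 ygi23 zgi2) (kgi xgi21 ygi51 zgi7) (kgi xgi21 ygi53 zgi27) (kgi xgi26 ygi55 zgi20) (kgi xgi16 ygi15 zgi29) (kgi xgi18 ygi26 zgi16) (kgi xgi25 ygi18 zgi6) (kgi xgi9 ygi10 zgi6) (kgi xgi11 ygi37 zgi40) (kgi xgi12 ygi44 zgi53) (kgi xgi12 ygi1 zgi35) (kgi xgi12 ygi34 zgi39) (kgi xgi18 ygi13 zgi0) (kgi xgi12 ygi34 zgi40) (kgi xgi23 ygi4 zgi13) (kgi xgi15 ygi0 zgi30) (kgi xgi9 ygi7 zgi61) (kgi xgi11 ygi33 zgi25) (kgi xgi14 ygi12 zgi52) (kgi xgi9 ygi8 zgi2) (kgi xgi16 ygi45 zgi4) (kgi xgi9 ygi8 zgi3) (kgi xgi11 ygi33 zgi6) (kgi xgi26 ygi55 zgi33) (kgi xgi11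 ygi33 zgi3) (kgi xgi11 ygi12 zgi58) (kgi xgi13 ygi39 zgi43) (kgi xgi9 ygi8 zgi6) (kgi xgi9 ygi31 zgi11) (kgi xgi12 ygi55 zgi27) (kgi xgi13 ygi45 zgi44) (kgi xgi19 ygi34 zgi34) (kgi xgi12 ygi37 zgi36) (kgi xgi26 ygi51 zgi0) (kgi xgi9 ygi8 zgi11) (kgi xgi9 ygi8 zgi31) (kgi xgi26 ygi55 zgi41) (kgi xgi9 ygi8 zgi28) (kgi xgi9 ygi8 zgi12) (kgi xgi21 ygi15 zgi48) (kgi xgi9 ygi8 zgi34) (kgi xgi11 ygi35 zgi53) (kgi xgi9 ygi8 zgi49) (kgi xgi26 ygi55 zgi47) (kgi xgi24 ygi5 zgi26) (kgi xgi19 ygi27 zgi30) (kgi xgi9 ygi48 zgi20) (kgi xgi9 ygi9 zgi3) (kgi xgi26 ygi55 zgi55) (kgi xgi26 ygi55 zgi57) (kgi xgi9 ygi9 zgi0) (kgi xgi14 ygi20 zgi14) (kgi xgi20 ygi30 zgi14) (kgi xgi9 ygi8 zgi27) (kgi xgi26 ygi55 zgi38) (kgi xgi17 ygi1 zgi8) (kgi xgi26 ygi23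 zgi41) (kgi xgi12 ygi23 zgi9)) (@D3.rec (fun _ => Pt) (kgi xgi11 ygi21 zgi11) (kgi xgi26 ygi56 zgi9) (kgi xgi21 ygi15 zgi11) (kgi xgi26 ygi43 zgi58) (kgi xgi26 ygi56 zgi8) (kgi xgi12 ygi45 zgi48) (kgi xgi9 ygi8 zgi30) (kgi xgi26 ygi55 zgi42) (kgi xgi20 ygi34 zgi4) (kgi xgi26 ygi55 zgi40) (kgi xgi26 ygi56 zgi17) (kgi xgi20 ygi33 zgi40) (kgi xgi26 ygi56 zgi22) (kgi xgi15 ygi4 zgi47) (kgi xgi17 ygi58 zgi25) (kgi xgi26 ygi56 zgi25) (kgi xgi22 ygi58 zgi45) (kgi xgi9 ygi8 zgi36) (kgi xgi26 ygi55 zgi45) (kgi xgi18 ygi55 zgi54) (kgi xgi26 ygi56 zgi34) (kgi xgi26 ygi23 zgi47) (kgi xgi26 ygi56 zgi36) (kgi xgi18 ygi43 zgi29) (kgi xgi17 ygi18 zgi39) (kgi xgi20 ygi18 zgi52) (kgi xgi20 ygi28 zgi10) (kgi xgi26 ygi56 zgi37) (kgi xgi19 ygi21 zgi22)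 (kgi xgi17 ygi56 zgi9) (kgi xgi11 ygi41 zgi52) (kgi xgi19 ygi51 zgi39) (kgi xgi10 ygi18 zgi37) (kgi xgi11 ygi41 zgi40) (kgi xgi10 ygi43 zgi55) (kgi xgi26 ygi55 zgi37) (kgi xgi9 ygi8 zgi51) (kgi xgi14 ygi23 zgi6) (kgi xgi9 ygi8 zgi52) (kgi xgi9 ygi8 zgi55) (kgi xgi17 ygi53 zgi52) (kgi xgi26 ygi56 zgi42) (kgi xgi12 ygi5 zgi29) (kgi xgi19 ygi44 zgi10) (kgi xgi26 ygi56 zgi48) (kgi xgi21 ygi11 zgi19) (kgi xgi22 ygi52 zgi19) (kgi xgi26 ygi49 zgi58) (kgi xgi19 ygi8 zgi39) (kgi xgi21 ygi11 zgi14) (kgi xgi19 ygi27 zgi15) (kgi xgi26 ygi56 zgi57) (kgi xgi26 ygi56 zgi59) (kgi xgi26 ygi57 zgi1) (kgi xgi26 ygi57 zgi3) (kgi xgi11 ygi10 zgi23) (kgi xgi10 ygi36 zgi48) (kgi xgi26 ygi57 zgi0) (kgi xgi14 ygi41 zgi34) (kgi xgi20 ygi29 zgi21) (kgi xgi10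 ygi38 zgi18) (kgi xgi26 ygi57 zgi14)) (@D3.rec (fun _ => Pt) (kgi xgi21 ygi11 zgi26) (kgi xgi9 ygi9 zgi2) (kgi xgi26 ygi55 zgi59) (kgi xgi26 ygi56 zgi33) (kgi xgi26 ygi57 zgi23) (kgi xgi12 ygi5 zgi44) (kgi xgi20 ygi54 zgi31) (kgi xgi9 ygi9 zgi4) (kgi xgi26 ygi55 zgi46) (kgi xgi9 ygi9 zgi12) (kgi xgi9 ygi15 zgi24) (kgi xgi21 ygi52 zgi1) (kgi xgi26 ygi57 zgi28) (kgi xgi9 ygi9 zgi8) (kgi xgi17 ygi24 zgi6) (kgi xgi9 ygi10 zgi12) (kgi xgi9 ygi9 zgi15) (kgi xgi13 ygi59 zgi27) (kgi xgi9 ygi10 zgi56) (kgi xgi19 ygi14 zgi0) (kgi xgi24 ygi53 zgi25) (kgi xgi9 ygi15 zgi34) (kgi xgi12 ygi14 zgi56) (kgi xgi9 ygi12 zgi12) (kgi xgi20 ygi18 zgi35) (kgi xgi11 ygi21 zgi2) (kgi xgi17 ygi15 zgi37) (kgi xgi16 ygi31 zgi7) (kgi xgi9 ygi9 zgi33) (kgi xgi26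 ygi22 zgi12) (kgi xgi23 ygi10 zgi36) (kgi xgi26 ygi22 zgi11) (kgi xgi16 ygi31 zgi19) (kgi xgi20 ygi41 zgi11) (kgi xgi15 ygi6 zgi16) (kgi xgi26 ygi22 zgi57) (kgi xgi25 ygi45 zgi48) (kgi xgi23 ygi3 zgi43) (kgi xgi20 ygi18 zgi37) (kgi xgi16 ygi56 zgi23) (kgi xgi23 ygi14 zgi60) (kgi xgi17 ygi9 zgi12) (kgi xgi9 ygi9 zgi44) (kgi xgi21 ygi29 zgi9) (kgi xgi21 ygi29 zgi6) (kgi xgi17 ygi22 zgi20) (kgi xgi9 ygi9 zgi46) (kgi xgi21 ygi15 zgi22) (kgi xgi21 ygi12 zgi29) (kgi xgi11 ygi20 zgi59) (kgi xgi11 ygi11 zgi29) (kgi xgi9 ygi10 zgi29) (kgi xgi18 ygi44 zgi29) (kgi xgi18 ygi22 zgi44) (kgi xgi18 ygi22 zgi42) (kgi xgi26 ygi57 zgi45) (kgi xgi11 ygi32 zgi58) (kgi xgi11 ygi7 zgi52) (kgi xgi18 ygi20 zgi6) (kgi xgi23 ygi18 zgi25) (kgi xgi18 ygi42 zgi22)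 (kgi xgi10 ygi1 zgi31)) (@D3.rec (fun _ => Pt) (kgi xgi26 ygi57 zgi50) (kgi xgi9 ygi9 zgi58) (kgi xgi9 ygi15 zgi30) (kgi xgi17 ygi6 zgi6) (kgi xgi9 ygi15 zgi27) (kgi xgi9 ygi10 zgi0) (kgi xgi24 ygi15 zgi41) (kgi xgi11 ygi49 zgi28) (kgi xgi9 ygi15 zgi32) (kgi xgi9 ygi10 zgi2) (kgi xgi11 ygi27 zgi56) (kgi xgi12 ygi15 zgi32) (kgi xgi9 ygi10 zgi5) (kgi xgi18 ygi24 zgi16) (kgi xgi11 ygi17 zgi5) (kgi xgi20 ygi2 zgi6) (kgi xgi9 ygi15 zgi8) (kgi xgi9 ygi10 zgi10) (kgi xgi9 ygi10 zgi43) (kgi xgi26 ygi2 zgi33) (kgi xgi18 ygi42 zgi2) (kgi xgi26 ygi57 zgi58) (kgi xgi10 ygi4 zgi26) (kgi xgi26 ygi57 zgi60) (kgi xgi9 ygi10 zgi16) (kgi xgi10 ygi2 zgi60) (kgi xgi10 ygi2 zgi58) (kgi xgi11 ygi57 zgi50) (kgi xgi11 ygi41 zgi2) (kgi xgi11 ygi58 zgi23)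 (kgi xgi21 ygi2 zgi55) (kgi xgi9 ygi10 zgi21) (kgi xgi9 ygi10 zgi55) (kgi xgi11 ygi22 zgi55) (kgi xgi15 ygi45 zgi33) (kgi xgi20 ygi7 zgi43) (kgi xgi26 ygi58 zgi4) (kgi xgi19 ygi39 zgi47) (kgi xgi26 ygi58 zgi3) (kgi xgi18 ygi56 zgi9) (kgi xgi9 ygi10 zgi31) (kgi xgi26 ygi57 zgi42) (kgi xgi26 ygi26 zgi52) (kgi xgi26 ygi57 zgi43) (kgi xgi20 ygi29 zgi26) (kgi xgi26 ygi58 zgi13) (kgi xgi16 ygi29 zgi46) (kgi xgi26 ygi58 zgi17) (kgi xgi16 ygi30 zgi14) (kgi xgi13 ygi8 zgi12) (kgi xgi12 ygi35 zgi30) (kgi xgi10 ygi6 zgi14) (kgi xgi12 ygi1 zgi37) (kgi xgi11 ygi25 zgi27) (kgi xgi12 ygi24 zgi22) (kgi xgi11 ygi56 zgi40) (kgi xgi11 ygi42 zgi8) (kgi xgi11 ygi49 zgi55) (kgi xgi10 ygi11 zgi24) (kgi xgi21 ygi32 zgi3) (kgi xgi12 ygi35 zgi55) (kgi xgi21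 ygi51 zgi12)) (@D3.rec (fun _ => Pt) (kgi xgi12 ygi2 zgi23) (kgi xgi16 ygi47 zgi55) (kgi xgi9 ygi10 zgi48) (kgi xgi26 ygi57 zgi26) (kgi xgi26 ygi2 zgi31) (kgi xgi26 ygi54 zgi57) (kgi xgi19 ygi26 zgi33) (kgi xgi23 ygi34 zgi38) (kgi xgi12 ygi5 zgi34) (kgi xgi14 ygi6 zgi26) (kgi xgi24 ygi3 zgi40) (kgi xgi20 ygi29 zgi48) (kgi xgi26 ygi58 zgi33) (kgi xgi23 ygi46 zgi26) (kgi xgi9 ygi10 zgi57) (kgi xgi12 ygi34 zgi22) (kgi xgi26 ygi58 zgi36) (kgi xgi12 ygi34 zgi19) (kgi xgi9 ygi11 zgi61) (kgi xgi26 ygi58 zgi39) (kgi xgi9 ygi11 zgi58) (kgi xgi12 ygi42 zgi12) (kgi xgi26 ygi58 zgi42) (kgi xgi17 ygi59 zgi61) (kgi xgi9 ygi50 zgi15) (kgi xgi20 ygi40 zgi1) (kgi xgi9 ygi10 zgi61) (kgi xgi9 ygi12 zgi11) (kgi xgi9 ygi12 zgi8) (kgi xgi9 ygi58 zgi3)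 (kgi xgi9 ygi11 zgi2) (kgi xgi20 ygi53 zgi57) (kgi xgi21 ygi45 zgi5) (kgi xgi26 ygi50 zgi26) (kgi xgi9 ygi11 zgi38) (kgi xgi20 ygi8 zgi32) (kgi xgi26 ygi58 zgi47) (kgi xgi12 ygi53 zgi42) (kgi xgi17 ygi24 zgi55) (kgi xgi9 ygi11 zgi10) (kgi xgi9 ygi30 zgi15) (kgi xgi9 ygi11 zgi12) (kgi xgi11 ygi48 zgi36) (kgi xgi20 ygi25 zgi22) (kgi xgi12 ygi10 zgi30) (kgi xgi23 ygi47 zgi1) (kgi xgi26 ygi58 zgi53) (kgi xgi26 ygi10 zgi44) (kgi xgi9 ygi50 zgi6) (kgi xgi22 ygi4 zgi53) (kgi xgi12 ygi24 zgi6) (kgi xgi26 ygi58 zgi54) (kgi xgi12 ygi53 zgi48) (kgi xgi25 ygi31 zgi47) (kgi xgi12 ygi53 zgi45) (kgi xgi26 ygi58 zgi60) (kgi xgi20 ygi19 zgi16) (kgi xgi26 ygi58 zgi59) (kgi xgi22 ygi2 zgi40) (kgi xgi9 ygi11 zgi26) (kgi xgi12 ygi53 zgi57) (kgi xgi15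 ygi49 zgi26)) (@D3.rec (fun _ => Pt) (kgi xgi26 ygi59 zgi2) (kgi xgi12 ygi53 zgi53) (kgi xgi9 ygi11 zgi28) (kgi xgi12 ygi39 zgi60) (kgi xgi12 ygi36 zgi40) (kgi xgi9 ygi11 zgi29) (kgi xgi9 ygi20 zgi33) (kgi xgi12 ygi53 zgi22) (kgi xgi12 ygi36 zgi32) (kgi xgi12 ygi54 zgi28) (kgi xgi14 ygi36 zgi23) (kgi xgi9 ygi12 zgi20) (kgi xgi15 ygi24 zgi1) (kgi xgi9 ygi11 zgi35) (kgi xgi17 ygi50 zgi28) (kgi xgi12 ygi37 zgi32) (kgi xgi16 ygi13 zgi48) (kgi xgi9 ygi12 zgi3) (kgi xgi9 ygi15 zgi33) (kgi xgi12 ygi39 zgi5) (kgi xgi12 ygi43 zgi58) (kgi xgi12 ygi34 zgi16) (kgi xgi21 ygi20 zgi7) (kgi xgi11 ygi26 zgi41) (kgi xgi9 ygi49 zgi3) (kgi xgi9 ygi11 zgi44) (kgi xgi12 ygi43 zgi45) (kgi xgi26 ygi59 zgi9) (kgi xgi10 ygi6 zgi24) (kgi xgi9 ygi11 zgi45) (kgi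 xgi12 ygi43 zgi50) (kgi xgi22 ygi3 zgi29) (kgi xgi12 ygi43 zgi13) (kgi xgi10 ygi6 zgi36) (kgi xgi9 ygi12 zgi4) (kgi xgi12 ygi44 zgi36) (kgi xgi21 ygi45 zgi33) (kgi xgi9 ygi11 zgi50) (kgi xgi18 ygi1 zgi24) (kgi xgi20 ygi36 zgi16) (kgi xgi12 ygi42 zgi30) (kgi xgi25 ygi44 zgi35) (kgi xgi12 ygi43 zgi32) (kgi xgi17 ygi59 zgi34) (kgi xgi12 ygi40 zgi43) (kgi xgi9 ygi11 zgi56) (kgi xgi11 ygi8 zgi30) (kgi xgi15 ygi49 zgi13) (kgi xgi12 ygi44 zgi9) (kgi xgi12 ygi49 zgi60) (kgi xgi26 ygi59 zgi18) (kgi xgi12 ygi49 zgi61) (kgi xgi20 ygi34 zgi53) (kgi xgi26 ygi59 zgi19) (kgi xgi20 ygi51 zgi47) (kgi xgi9 ygi11 zgi60) (kgi xgi26 ygi58 zgi40) (kgi xgi26 ygi59 zgi24) (kgi xgi25 ygi23 zgi49) (kgi xgi17 ygi59 zgi44) (kgi xgi9 ygi12 zgi1) (kgi xgi24 ygi53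 zgi43)) (@D3.rec (fun _ => Pt) (kgi xgi24 ygi53 zgi44) (kgi xgi9 ygi12 zgi2) (kgi xgi9 ygi12 zgi6) (kgi xgi26 ygi59 zgi33) (kgi xgi26 ygi59 zgi36) (kgi xgi17 ygi59 zgi60) (kgi xgi17 ygi9 zgi46) (kgi xgi17 ygi59 zgi37) (kgi xgi26 ygi59 zgi29) (kgi xgi26 ygi40 zgi60) (kgi xgi17 ygi51 zgi20) (kgi xgi11 ygi39 zgi59) (kgi xgi26 ygi52 zgi10) (kgi xgi26 ygi51 zgi49) (kgi xgi15 ygi25 zgi15) (kgi xgi11 ygi49 zgi45) (kgi xgi11 ygi49 zgi52) (kgi xgi9 ygi12 zgi15) (kgi xgi15 ygi5 zgi21) (kgi xgi9 ygi12 zgi16) (kgi xgi18 ygi22 zgi32) (kgi xgi12 ygi53 zgi16) (kgi xgi14 ygi34 zgi53) (kgi xgi9 ygi38 zgi45) (kgi xgi9 ygi14 zgi43) (kgi xgi9 ygi12 zgi19) (kgi xgi9 ygi12 zgi32) (kgi xgi26 ygi59 zgi32) (kgi xgi17 ygi59 zgi17) (kgi xgi17 ygi9 zgi43) (kgi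 xgi12 ygi53 zgi29) (kgi xgi13 ygi50 zgi35) (kgi xgi10 ygi58 zgi24) (kgi xgi26 ygi51 zgi47) (kgi xgi9 ygi12 zgi23) (kgi xgi9 ygi12 zgi34) (kgi xgi20 ygi11 zgi35) (kgi xgi26 ygi50 zgi56) (kgi xgi9 ygi16 zgi17) (kgi xgi9 ygi15 zgi35) (kgi xgi18 ygi35 zgi5) (kgi xgi11 ygi58 zgi21) (kgi xgi12 ygi23 zgi37) (kgi xgi11 ygi50 zgi22) (kgi xgi21 ygi24 zgi2) (kgi xgi26 ygi59 zgi31) (kgi xgi16 ygi14 zgi14) (kgi xgi17 ygi22 zgi54) (kgi xgi24 ygi30 zgi32) (kgi xgi26 ygi52 zgi3) (kgi xgi20 ygi6 zgi12) (kgi xgi11 ygi38 zgi13) (kgi xgi27 ygi0 zgi1) (kgi xgi26 ygi36 zgi27) (kgi xgi11 ygi39 zgi41) (kgi xgi27 ygi0 zgi7) (kgi xgi9 ygi12 zgi39) (kgi xgi11 ygi39 zgi47) (kgi xgi9 ygi12 zgi40) (kgi xgi9 ygi12 zgi42) (kgi xgi27 ygi0 zgi12) (kgi xgi20 ygi35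 zgi37)) (@D3.rec (fun _ => Pt) (kgi xgi27 ygi0 zgi17) (kgi xgi9 ygi12 zgi41) (kgi xgi16 ygi46 zgi25) (kgi xgi11 ygi51 zgi2) (kgi xgi20 ygi35 zgi35) (kgi xgi21 ygi1 zgi25) (kgi xgi20 ygi35 zgi33) (kgi xgi27 ygi0 zgi21) (kgi xgi27 ygi0 zgi28) (kgi xgi20 ygi35 zgi32) (kgi xgi9 ygi12 zgi45) (kgi xgi16 ygi39 zgi40) (kgi xgi27 ygi0 zgi34) (kgi xgi9 ygi12 zgi46) (kgi xgi11 ygi39 zgi22) (kgi xgi11 ygi39 zgi43) (kgi xgi27 ygi0 zgi42) (kgi xgi9 ygi12 zgi61) (kgi xgi19 ygi53 zgi5) (kgi xgi9 ygi12 zgi58) (kgi xgi18 ygi24 zgi17) (kgi xgi22 ygi11 zgi3) (kgi xgi21 ygi51 zgi50) (kgi xgi21 ygi35 zgi50) (kgi xgi12 ygi36 zgi10) (kgi xgi20 ygi38 zgi24) (kgi xgi26 ygi46 zgi28) (kgi xgi12 ygi54 zgi45) (kgi xgi9 ygi12 zgi60) (kgi xgi19 ygi53 zgi4) (kgi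 xgi9 ygi49 zgi19) (kgi xgi9 ygi30 zgi40) (kgi xgi12 ygi14 zgi34) (kgi xgi20 ygi24 zgi27) (kgi xgi11 ygi28 zgi5) (kgi xgi11 ygi38 zgi24) (kgi xgi20 ygi24 zgi1) (kgi xgi9 ygi13 zgi5) (kgi xgi21 ygi51 zgi34) (kgi xgi9 ygi13 zgi7) (kgi xgi9 ygi30 zgi21) (kgi xgi26 ygi33 zgi5) (kgi xgi11 ygi48 zgi5) (kgi xgi11 ygi50 zgi24) (kgi xgi9 ygi13 zgi55) (kgi xgi9 ygi49 zgi26) (kgi xgi9 ygi24 zgi34) (kgi xgi11 ygi34 zgi57) (kgi xgi23 ygi38 zgi2) (kgi xgi17 ygi12 zgi19) (kgi xgi27 ygi0 zgi52) (kgi xgi9 ygi13 zgi26) (kgi xgi18 ygi1 zgi41) (kgi xgi9 ygi13 zgi27) (kgi xgi9 ygi13 zgi31) (kgi xgi18 ygi43 zgi2) (kgi xgi11 ygi5 zgi32) (kgi xgi9 ygi13 zgi36) (kgi xgi9 ygi30 zgi7) (kgi xgi13 ygi1 zgi19) (kgi xgi11 ygi49 zgi32) (kgi xgi10 ygi4 zgi4)) (@D3.rec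 (fun _ => Pt) (kgi xgi9 ygi49 zgi37) (kgi xgi12 ygi10 zgi49) (kgi xgi20 ygi34 zgi42) (kgi xgi11 ygi50 zgi8) (kgi xgi12 ygi14 zgi21) (kgi xgi11 ygi50 zgi16) (kgi xgi12 ygi36 zgi13) (kgi xgi19 ygi59 zgi36) (kgi xgi9 ygi13 zgi50) (kgi xgi11 ygi50 zgi3) (kgi xgi27 ygi0 zgi55) (kgi xgi22 ygi47 zgi11) (kgi xgi9 ygi13 zgi51) (kgi xgi11 ygi48 zgi49) (kgi xgi20 ygi37 zgi56) (kgi xgi20 ygi41 zgi12) (kgi xgi24 ygi53 zgi38) (kgi xgi11 ygi50 zgi4) (kgi xgi26 ygi52 zgi36) (kgi xgi9 ygi31 zgi31) (kgi xgi24 ygi53 zgi37) (kgi xgi12 ygi10 zgi17) (kgi xgi11 ygi49 zgi48) (kgi xgi11 ygi47 zgi8) (kgi xgi11 ygi0 zgi22) (kgi xgi11 ygi14 zgi0) (kgi xgi9 ygi14 zgi6) (kgi xgi11 ygi50 zgi0) (kgi xgi11 ygi49 zgi60) (kgi xgi14 ygi45 zgi58) (kgi xgi9 ygi14 zgi10)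 (kgi xgi16 ygi28 zgi55) (kgi xgi10 ygi43 zgi3) (kgi xgi9 ygi14 zgi13) (kgi xgi23 ygi58 zgi32) (kgi xgi17 ygi59 zgi9) (kgi xgi11 ygi22 zgi46) (kgi xgi11 ygi31 zgi38) (kgi xgi9 ygi14 zgi19) (kgi xgi25 ygi38 zgi43) (kgi xgi19 ygi48 zgi3) (kgi xgi9 ygi50 zgi29) (kgi xgi10 ygi14 zgi32) (kgi xgi9 ygi14 zgi34) (kgi xgi10 ygi15 zgi32) (kgi xgi9 ygi14 zgi27) (kgi xgi19 ygi44 zgi7) (kgi xgi25 ygi16 zgi37) (kgi xgi9 ygi14 zgi29) (kgi xgi11 ygi51 zgi14) (kgi xgi11 ygi47 zgi51) (kgi xgi9 ygi14 zgi33) (kgi xgi11 ygi51 zgi26) (kgi xgi20 ygi51 zgi46) (kgi xgi10 ygi23 zgi17) (kgi xgi11 ygi51 zgi3) (kgi xgi9 ygi14 zgi35) (kgi xgi11 ygi51 zgi19) (kgi xgi25 ygi17 zgi44) (kgi xgi17 ygi48 zgi35) (kgi xgi11 ygi53 zgi55) (kgi xgi11 ygi28 zgi23)) (@D3.rec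 (fun _ => Pt) (kgi xgi14 ygi46 zgi1) (kgi xgi20 ygi28 zgi21) (kgi xgi10 ygi35 zgi35) (kgi xgi27 ygi1 zgi13) (kgi xgi9 ygi48 zgi23) (kgi xgi9 ygi14 zgi48) (kgi xgi27 ygi1 zgi14) (kgi xgi23 ygi37 zgi32) (kgi xgi20 ygi25 zgi26) (kgi xgi17 ygi2 zgi41) (kgi xgi26 ygi27 zgi17) (kgi xgi26 ygi25 zgi6) (kgi xgi20 ygi24 zgi24) (kgi xgi26 ygi27 zgi9) (kgi xgi20 ygi7 zgi49) (kgi xgi12 ygi9 zgi34) (kgi xgi23 ygi20 zgi44) (kgi xgi20 ygi32 zgi10) (kgi xgi25 ygi16 zgi21) (kgi xgi23 ygi20 zgi61) (kgi xgi21 ygi29 zgi30) (kgi xgi16 ygi59 zgi47) (kgi xgi10 ygi14 zgi61) (kgi xgi16 ygi10 zgi32) (kgi xgi9 ygi15 zgi0) (kgi xgi9 ygi15 zgi4) (kgi xgi21 ygi30 zgi10) (kgi xgi12 ygi37 zgi52) (kgi xgi11 ygi57 zgi57) (kgi xgi16 ygi3 zgi20) (kgi xgi16 ygi13 zgi16)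 (kgi xgi12 ygi43 zgi55) (kgi xgi18 ygi24 zgi54) (kgi xgi21 ygi57 zgi30) (kgi xgi12 ygi23 zgi42) (kgi xgi16 ygi59 zgi43) (kgi xgi10 ygi10 zgi43) (kgi xgi11 ygi56 zgi33) (kgi xgi11 ygi56 zgi37) (kgi xgi12 ygi54 zgi5) (kgi xgi23 ygi30 zgi49) (kgi xgi25 ygi46 zgi30) (kgi xgi9 ygi15 zgi10) (kgi xgi17 ygi5 zgi11) (kgi xgi12 ygi35 zgi8) (kgi xgi11 ygi33 zgi50) (kgi xgi26 ygi55 zgi6) (kgi xgi18 ygi12 zgi49) (kgi xgi12 ygi44 zgi49) (kgi xgi18 ygi25 zgi13) (kgi xgi14 ygi4 zgi50) (kgi xgi20 ygi9 zgi37) (kgi xgi20 ygi52 zgi6) (kgi xgi16 ygi52 zgi32) (kgi xgi12 ygi22 zgi6) (kgi xgi14 ygi12 zgi11) (kgi xgi17 ygi10 zgi2) (kgi xgi11 ygi56 zgi35) (kgi xgi27 ygi1 zgi31) (kgi xgi17 ygi10 zgi6) (kgi xgi21 ygi50 zgi57) (kgi xgi18 ygi42 zgi12)) (@D3.rec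 (fun _ => Pt) (kgi xgi20 ygi33 zgi1) (kgi xgi18 ygi0 zgi10) (kgi xgi17 ygi9 zgi59) (kgi xgi11 ygi49 zgi39) (kgi xgi12 ygi16 zgi46) (kgi xgi22 ygi3 zgi30) (kgi xgi17 ygi9 zgi56) (kgi xgi27 ygi0 zgi58) (kgi xgi14 ygi13 zgi54) (kgi xgi11 ygi57 zgi43) (kgi xgi12 ygi15 zgi48) (kgi xgi9 ygi28 zgi7) (kgi xgi25 ygi54 zgi29) (kgi xgi9 ygi28 zgi9) (kgi xgi9 ygi27 zgi61) (kgi xgi9 ygi15 zgi49) (kgi xgi21 ygi17 zgi19) (kgi xgi21 ygi17 zgi17) (kgi xgi27 ygi1 zgi46) (kgi xgi9 ygi15 zgi50) (kgi xgi9 ygi28 zgi13) (kgi xgi12 ygi14 zgi31) (kgi xgi9 ygi24 zgi56) (kgi xgi25 ygi27 zgi4) (kgi xgi9 ygi15 zgi57) (kgi xgi17 ygi27 zgi49) (kgi xgi17 ygi27 zgi47) (kgi xgi27 ygi1 zgi52) (kgi xgi9 ygi15 zgi58) (kgi xgi10 ygi56 zgi35) (kgi xgi11 ygi42 zgi41) (kgi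 xgi11 ygi36 zgi11) (kgi xgi26 ygi51 zgi6) (kgi xgi18 ygi56 zgi59) (kgi xgi11 ygi36 zgi8) (kgi xgi9 ygi16 zgi2) (kgi xgi20 ygi11 zgi48) (kgi xgi9 ygi16 zgi42) (kgi xgi17 ygi19 zgi1) (kgi xgi9 ygi21 zgi0) (kgi xgi22 ygi0 zgi15) (kgi xgi27 ygi2 zgi3) (kgi xgi9 ygi31 zgi61) (kgi xgi9 ygi16 zgi52) (kgi xgi9 ygi28 zgi34) (kgi xgi21 ygi35 zgi28) (kgi xgi9 ygi32 zgi1) (kgi xgi10 ygi21 zgi61) (kgi xgi9 ygi22 zgi36) (kgi xgi27 ygi2 zgi9) (kgi xgi27 ygi2 zgi11) (kgi xgi9 ygi22 zgi23) (kgi xgi9 ygi16 zgi19) (kgi xgi9 ygi21 zgi4) (kgi xgi21 ygi38 zgi37) (kgi xgi12 ygi33 zgi56) (kgi xgi12 ygi32 zgi33) (kgi xgi14 ygi4 zgi54) (kgi xgi20 ygi37 zgi50) (kgi xgi27 ygi2 zgi4) (kgi xgi9 ygi16 zgi24) (kgi xgi14 ygi46 zgi30)) (@D3.rec (fun _ => Pt) (kgi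 xgi20 ygi51 zgi1) (kgi xgi9 ygi16 zgi25) (kgi xgi9 ygi26 zgi31) (kgi xgi9 ygi16 zgi49) (kgi xgi14 ygi11 zgi40) (kgi xgi22 ygi37 zgi32) (kgi xgi9 ygi26 zgi29) (kgi xgi27 ygi2 zgi23) (kgi xgi9 ygi26 zgi26) (kgi xgi12 ygi32 zgi32) (kgi xgi17 ygi17 zgi33) (kgi xgi14 ygi29 zgi52) (kgi xgi13 ygi3 zgi22) (kgi xgi9 ygi16 zgi33) (kgi xgi14 ygi11 zgi6) (kgi xgi9 ygi16 zgi36) (kgi xgi17 ygi59 zgi14) (kgi xgi20 ygi19 zgi15) (kgi xgi9 ygi16 zgi35) (kgi xgi20 ygi46 zgi42) (kgi xgi27 ygi2 zgi33) (kgi xgi20 ygi15 zgi42) (kgi xgi20 ygi48 zgi1) (kgi xgi27 ygi2 zgi35) (kgi xgi14 ygi11 zgi7) (kgi xgi9 ygi16 zgi40) (kgi xgi11 ygi45 zgi26) (kgi xgi16 ygi53 zgi36) (kgi xgi9 ygi16 zgi41) (kgi xgi12 ygi11 zgi22) (kgi xgi17 ygi25 zgi0) (kgi xgi12 ygi11 zgi19)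 (kgi xgi25 ygi52 zgi14) (kgi xgi25 ygi30 zgi61) (kgi xgi24 ygi31 zgi52) (kgi xgi11 ygi1 zgi2) (kgi xgi27 ygi2 zgi41) (kgi xgi15 ygi55 zgi40) (kgi xgi25 ygi24 zgi6) (kgi xgi10 ygi51 zgi28) (kgi xgi15 ygi32 zgi17) (kgi xgi9 ygi16 zgi46) (kgi xgi15 ygi26 zgi45) (kgi xgi27 ygi2 zgi48) (kgi xgi27 ygi2 zgi51) (kgi xgi17 ygi28 zgi33) (kgi xgi27 ygi2 zgi56) (kgi xgi9 ygi27 zgi24) (kgi xgi9 ygi21 zgi32) (kgi xgi27 ygi2 zgi0) (kgi xgi25 ygi23 zgi39) (kgi xgi21 ygi53 zgi28) (kgi xgi22 ygi35 zgi44) (kgi xgi15 ygi31 zgi38) (kgi xgi11 ygi21 zgi23) (kgi xgi12 ygi57 zgi15) (kgi xgi22 ygi59 zgi36) (kgi xgi12 ygi57 zgi11) (kgi xgi15 ygi40 zgi35) (kgi xgi27 ygi3 zgi3) (kgi xgi9 ygi27 zgi18) (kgi xgi27 ygi3 zgi7)) (@D3.rec (fun _ => Pt) (kgi xgi12 ygi32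 zgi59) (kgi xgi27 ygi3 zgi8) (kgi xgi12 ygi51 zgi21) (kgi xgi12 ygi33 zgi36) (kgi xgi9 ygi23 zgi55) (kgi xgi17 ygi21 zgi60) (kgi xgi17 ygi29 zgi11) (kgi xgi12 ygi57 zgi0) (kgi xgi10 ygi44 zgi38) (kgi xgi15 ygi55 zgi10) (kgi xgi11 ygi28 zgi32) (kgi xgi9 ygi17 zgi6) (kgi xgi23 ygi27 zgi53) (kgi xgi9 ygi17 zgi14) (kgi xgi11 ygi24 zgi13) (kgi xgi19 ygi27 zgi57) (kgi xgi9 ygi17 zgi9) (kgi xgi11 ygi41 zgi15) (kgi xgi20 ygi48 zgi54) (kgi xgi11 ygi35 zgi1) (kgi xgi21 ygi15 zgi20) (kgi xgi13 ygi58 zgi3) (kgi xgi20 ygi13 zgi40) (kgi xgi9 ygi17 zgi16) (kgi xgi14 ygi5 zgi30) (kgi xgi16 ygi3 zgi15) (kgi xgi23 ygi35 zgi9) (kgi xgi9 ygi17 zgi19) (kgi xgi11 ygi11 zgi15) (kgi xgi22 ygi5 zgi2) (kgi xgi22 ygi2 zgi44) (kgi xgi27 ygi3 zgi25) (kgi xgi22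 ygi5 zgi20) (kgi xgi20 ygi12 zgi23) (kgi xgi9 ygi19 zgi60) (kgi xgi9 ygi17 zgi29) (kgi xgi12 ygi56 zgi11) (kgi xgi19 ygi10 zgi27) (kgi xgi19 ygi23 zgi11) (kgi xgi9 ygi23 zgi37) (kgi xgi10 ygi53 zgi30) (kgi xgi12 ygi32 zgi44) (kgi xgi12 ygi32 zgi37) (kgi xgi17 ygi56 zgi48) (kgi xgi18 ygi24 zgi0) (kgi xgi18 ygi25 zgi61) (kgi xgi17 ygi13 zgi18) (kgi xgi22 ygi7 zgi53) (kgi xgi9 ygi17 zgi45) (kgi xgi12 ygi23 zgi15) (kgi xgi27 ygi3 zgi34) (kgi xgi17 ygi2 zgi61) (kgi xgi18 ygi21 zgi14) (kgi xgi16 ygi23 zgi51) (kgi xgi9 ygi17 zgi51) (kgi xgi9 ygi17 zgi53) (kgi xgi12 ygi47 zgi10) (kgi xgi21 ygi38 zgi19) (kgi xgi19 ygi57 zgi33) (kgi xgi12 ygi10 zgi33) (kgi xgi10 ygi58 zgi9) (kgi xgi18 ygi16 zgi22)) (@D3.rec (fun _ => Pt) (kgi xgi9 ygi48 zgi28)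 (kgi xgi25 ygi17 zgi39) (kgi xgi9 ygi17 zgi57) (kgi xgi21 ygi37 zgi16) (kgi xgi20 ygi40 zgi26) (kgi xgi21 ygi51 zgi18) (kgi xgi18 ygi23 zgi30) (kgi xgi10 ygi59 zgi17) (kgi xgi12 ygi12 zgi49) (kgi xgi26 ygi45 zgi49) (kgi xgi11 ygi28 zgi13) (kgi xgi27 ygi3 zgi40) (kgi xgi9 ygi18 zgi9) (kgi xgi9 ygi37 zgi2) (kgi xgi14 ygi33 zgi5) (kgi xgi11 ygi36 zgi20) (kgi xgi27 ygi3 zgi43) (kgi xgi18 ygi58 zgi4) (kgi xgi20 ygi5 zgi31) (kgi xgi11 ygi25 zgi5) (kgi xgi9 ygi19 zgi8) (kgi xgi9 ygi18 zgi20) (kgi xgi12 ygi24 zgi36) (kgi xgi12 ygi24 zgi35) (kgi xgi9 ygi18 zgi21) (kgi xgi12 ygi18 zgi55) (kgi xgi10 ygi6 zgi28) (kgi xgi9 ygi18 zgi23) (kgi xgi18 ygi50 zgi23) (kgi xgi27 ygi3 zgi47) (kgi xgi9 ygi18 zgi24) (kgi xgi19 ygi22 zgi48) (kgi xgi17 ygi51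 zgi60) (kgi xgi21 ygi8 zgi17) (kgi xgi12 ygi13 zgi41) (kgi xgi9 ygi18 zgi49) (kgi xgi23 ygi35 zgi54) (kgi xgi21 ygi34 zgi44) (kgi xgi21 ygi32 zgi5) (kgi xgi21 ygi17 zgi46) (kgi xgi12 ygi50 zgi5) (kgi xgi26 ygi12 zgi34) (kgi xgi17 ygi20 zgi42) (kgi xgi25 ygi44 zgi27) (kgi xgi9 ygi18 zgi33) (kgi xgi12 ygi17 zgi51) (kgi xgi12 ygi17 zgi49) (kgi xgi17 ygi19 zgi31) (kgi xgi27 ygi4 zgi3) (kgi xgi12 ygi38 zgi61) (kgi xgi12 ygi38 zgi59) (kgi xgi27 ygi4 zgi6) (kgi xgi21 ygi45 zgi27) (kgi xgi9 ygi18 zgi40) (kgi xgi12 ygi17 zgi17) (kgi xgi12 ygi17 zgi15) (kgi xgi21 ygi22 zgi57) (kgi xgi21 ygi8 zgi54) (kgi xgi12 ygi18 zgi6) (kgi xgi12 ygi18 zgi5) (kgi xgi21 ygi59 zgi3) (kgi xgi9 ygi18 zgi46)) (@D3.rec (fun _ => Pt) (kgi xgi9 ygi18 zgi48) (kgi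 xgi27 ygi4 zgi15) (kgi xgi27 ygi4 zgi19) (kgi xgi21 ygi22 zgi29) (kgi xgi17 ygi16 zgi2) (kgi xgi22 ygi10 zgi10) (kgi xgi27 ygi4 zgi18) (kgi xgi27 ygi4 zgi21) (kgi xgi19 ygi23 zgi27) (kgi xgi17 ygi56 zgi51) (kgi xgi22 ygi8 zgi60) (kgi xgi21 ygi34 zgi58) (kgi xgi21 ygi26 zgi50) (kgi xgi27 ygi4 zgi26) (kgi xgi21 ygi8 zgi29) (kgi xgi9 ygi18 zgi57) (kgi xgi12 ygi18 zgi42) (kgi xgi21 ygi34 zgi35) (kgi xgi27 ygi4 zgi35) (kgi xgi27 ygi4 zgi37) (kgi xgi27 ygi4 zgi40) (kgi xgi12 ygi21 zgi34) (kgi xgi12 ygi21 zgi20) (kgi xgi23 ygi2 zgi54) (kgi xgi22 ygi9 zgi31) (kgi xgi24 ygi36 zgi13) (kgi xgi12 ygi27 zgi33) (kgi xgi18 ygi37 zgi42) (kgi xgi9 ygi19 zgi3) (kgi xgi16 ygi7 zgi50) (kgi xgi17 ygi35 zgi30) (kgi xgi9 ygi19 zgi7) (kgi xgi9 ygi19 zgi10)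 (kgi xgi25 ygi33 zgi56) (kgi xgi10 ygi0 zgi0) (kgi xgi20 ygi14 zgi29) (kgi xgi12 ygi26 zgi50) (kgi xgi22 ygi8 zgi2) (kgi xgi12 ygi23 zgi56) (kgi xgi21 ygi34 zgi51) (kgi xgi27 ygi4 zgi50) (kgi xgi27 ygi4 zgi52) (kgi xgi21 ygi5 zgi12) (kgi xgi25 ygi7 zgi35) (kgi xgi12 ygi21 zgi2) (kgi xgi12 ygi21 zgi0) (kgi xgi17 ygi28 zgi11) (kgi xgi27 ygi4 zgi59) (kgi xgi19 ygi45 zgi50) (kgi xgi9 ygi19 zgi17) (kgi xgi12 ygi59 zgi8) (kgi xgi25 ygi44 zgi2) (kgi xgi15 ygi16 zgi28) (kgi xgi12 ygi58 zgi25) (kgi xgi12 ygi59 zgi12) (kgi xgi12 ygi59 zgi40) (kgi xgi20 ygi37 zgi53) (kgi xgi20 ygi37 zgi52) (kgi xgi12 ygi39 zgi22) (kgi xgi18 ygi42 zgi58) (kgi xgi21 ygi6 zgi52) (kgi xgi27 ygi5 zgi5)) (@D3.rec (fun _ => Pt) (kgi xgi9 ygi19 zgi27) (kgi xgi9 ygi19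 zgi31) (kgi xgi9 ygi19 zgi29) (kgi xgi9 ygi19 zgi28) (kgi xgi27 ygi5 zgi7) (kgi xgi27 ygi5 zgi12) (kgi xgi26 ygi22 zgi22) (kgi xgi16 ygi30 zgi19) (kgi xgi20 ygi30 zgi2) (kgi xgi26 ygi24 zgi60) (kgi xgi26 ygi29 zgi3) (kgi xgi27 ygi5 zgi14) (kgi xgi16 ygi32 zgi40) (kgi xgi20 ygi31 zgi50) (kgi xgi9 ygi19 zgi33) (kgi xgi9 ygi19 zgi36) (kgi xgi13 ygi59 zgi1) (kgi xgi26 ygi24 zgi51) (kgi xgi25 ygi17 zgi51) (kgi xgi21 ygi29 zgi12) (kgi xgi12 ygi23 zgi47) (kgi xgi12 ygi21 zgi54) (kgi xgi17 ygi55 zgi9) (kgi xgi16 ygi30 zgi36) (kgi xgi18 ygi41 zgi4) (kgi xgi13 ygi47 zgi22) (kgi xgi9 ygi19 zgi41) (kgi xgi20 ygi25 zgi43) (kgi xgi27 ygi5 zgi28) (kgi xgi24 ygi24 zgi12) (kgi xgi19 ygi18 zgi37) (kgi xgi9 ygi19 zgi43) (kgi xgi13 ygi47 zgi23) (kgi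 xgi9 ygi19 zgi44) (kgi xgi12 ygi9 zgi38) (kgi xgi25 ygi2 zgi43) (kgi xgi12 ygi9 zgi35) (kgi xgi15 ygi10 zgi2) (kgi xgi9 ygi19 zgi47) (kgi xgi12 ygi9 zgi13) (kgi xgi26 ygi32 zgi16) (kgi xgi12 ygi9 zgi10) (kgi xgi16 ygi53 zgi42) (kgi xgi12 ygi9 zgi14) (kgi xgi26 ygi45 zgi47) (kgi xgi17 ygi8 zgi46) (kgi xgi11 ygi25 zgi4) (kgi xgi12 ygi14 zgi54) (kgi xgi12 ygi4 zgi8) (kgi xgi9 ygi20 zgi8) (kgi xgi18 ygi24 zgi14) (kgi xgi9 ygi20 zgi3) (kgi xgi11 ygi11 zgi5) (kgi xgi9 ygi20 zgi0) (kgi xgi18 ygi23 zgi23) (kgi xgi22 ygi4 zgi54) (kgi xgi12 ygi14 zgi60) (kgi xgi12 ygi15 zgi0) (kgi xgi23 ygi47 zgi54) (kgi xgi23 ygi30 zgi50) (kgi xgi27 ygi5 zgi41) (kgi xgi9 ygi58 zgi1)) (@D3.rec (fun _ => Pt) (kgi xgi17 ygi16 zgi24) (kgi xgi12 ygi47 zgi50) (kgi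 xgi17 ygi13 zgi38) (kgi xgi17 ygi42 zgi5) (kgi xgi21 ygi57 zgi40) (kgi xgi27 ygi5 zgi46) (kgi xgi21 ygi36 zgi59) (kgi xgi9 ygi20 zgi19) (kgi xgi12 ygi25 zgi17) (kgi xgi12 ygi25 zgi15) (kgi xgi18 ygi7 zgi40) (kgi xgi9 ygi20 zgi22) (kgi xgi12 ygi21 zgi10) (kgi xgi12 ygi26 zgi5) (kgi xgi12 ygi26 zgi4) (kgi xgi22 ygi43 zgi59) (kgi xgi11 ygi37 zgi15) (kgi xgi27 ygi5 zgi58) (kgi xgi11 ygi12 zgi37) (kgi xgi25 ygi45 zgi51) (kgi xgi16 ygi9 zgi24) (kgi xgi9 ygi20 zgi28) (kgi xgi16 ygi8 zgi46) (kgi xgi27 ygi6 zgi1) (kgi xgi20 ygi54 zgi12) (kgi xgi23 ygi2 zgi44) (kgi xgi12 ygi21 zgi41) (kgi xgi12 ygi19 zgi41) (kgi xgi9 ygi20 zgi34) (kgi xgi22 ygi10 zgi4) (kgi xgi20 ygi13 zgi4) (kgi xgi9 ygi56 zgi7) (kgi xgi9 ygi20 zgi36) (kgi xgi12 ygi24 zgi29)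 (kgi xgi12 ygi24 zgi27) (kgi xgi10 ygi18 zgi10) (kgi xgi12 ygi4 zgi21) (kgi xgi9 ygi20 zgi40) (kgi xgi11 ygi28 zgi59) (kgi xgi9 ygi21 zgi37) (kgi xgi12 ygi35 zgi61) (kgi xgi20 ygi23 zgi16) (kgi xgi16 ygi42 zgi16) (kgi xgi22 ygi11 zgi18) (kgi xgi9 ygi25 zgi41) (kgi xgi9 ygi20 zgi50) (kgi xgi9 ygi24 zgi52) (kgi xgi12 ygi51 zgi15) (kgi xgi9 ygi24 zgi48) (kgi xgi12 ygi58 zgi26) (kgi xgi9 ygi20 zgi54) (kgi xgi9 ygi24 zgi53) (kgi xgi22 ygi3 zgi41) (kgi xgi27 ygi6 zgi15) (kgi xgi12 ygi0 zgi14) (kgi xgi22 ygi59 zgi58) (kgi xgi9 ygi20 zgi57) (kgi xgi12 ygi0 zgi7) (kgi xgi12 ygi46 zgi7) (kgi xgi9 ygi20 zgi60) (kgi xgi18 ygi57 zgi32) (kgi xgi25 ygi25 zgi52)) (@D3.rec (fun _ => Pt) (kgi xgi12 ygi4 zgi29) (kgi xgi15 ygi27 zgi3) (kgi xgi9 ygi21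 zgi3) (kgi xgi9 ygi22 zgi14) (kgi xgi26 ygi53 zgi0) (kgi xgi21 ygi38 zgi44) (kgi xgi12 ygi32 zgi40) (kgi xgi14 ygi19 zgi1) (kgi xgi12 ygi57 zgi34) (kgi xgi23 ygi55 zgi35) (kgi xgi9 ygi21 zgi12) (kgi xgi14 ygi32 zgi18) (kgi xgi27 ygi6 zgi36) (kgi xgi14 ygi32 zgi15) (kgi xgi18 ygi21 zgi13) (kgi xgi9 ygi24 zgi18) (kgi xgi16 ygi0 zgi4) (kgi xgi27 ygi6 zgi39) (kgi xgi9 ygi26 zgi61) (kgi xgi13 ygi0 zgi54) (kgi xgi22 ygi50 zgi38) (kgi xgi13 ygi23 zgi10) (kgi xgi14 ygi23 zgi26) (kgi xgi9 ygi21 zgi21) (kgi xgi27 ygi6 zgi48) (kgi xgi13 ygi29 zgi55) (kgi xgi27 ygi6 zgi52) (kgi xgi24 ygi6 zgi12) (kgi xgi21 ygi38 zgi30) (kgi xgi27 ygi6 zgi54) (kgi xgi21 ygi38 zgi33) (kgi xgi18 ygi47 zgi3) (kgi xgi14 ygi16 zgi2) (kgi xgi21 ygi38 zgi28) (kgi xgi10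 ygi46 zgi60) (kgi xgi17 ygi11 zgi10) (kgi xgi27 ygi7 zgi3) (kgi xgi9 ygi21 zgi30) (kgi xgi9 ygi22 zgi27) (kgi xgi27 ygi7 zgi10) (kgi xgi9 ygi21 zgi31) (kgi xgi17 ygi27 zgi8) (kgi xgi27 ygi7 zgi17) (kgi xgi21 ygi16 zgi26) (kgi xgi27 ygi7 zgi21) (kgi xgi22 ygi22 zgi30) (kgi xgi22 ygi6 zgi39) (kgi xgi18 ygi46 zgi57) (kgi xgi21 ygi36 zgi17) (kgi xgi17 ygi31 zgi5) (kgi xgi11 ygi10 zgi61) (kgi xgi9 ygi25 zgi25) (kgi xgi11 ygi45 zgi7) (kgi xgi9 ygi21 zgi44) (kgi xgi27 ygi7 zgi31) (kgi xgi22 ygi11 zgi20) (kgi xgi9 ygi21 zgi46) (kgi xgi27 ygi3 zgi11) (kgi xgi12 ygi16 zgi2) (kgi xgi9 ygi21 zgi48) (kgi xgi9 ygi27 zgi49) (kgi xgi23 ygi36 zgi8)) (@D3.rec (fun _ => Pt) (kgi xgi22 ygi11 zgi22) (kgi xgi9 ygi21 zgi49) (kgi xgi21 ygi16 zgi36) (kgi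 xgi21 ygi16 zgi34) (kgi xgi27 ygi7 zgi53) (kgi xgi25 ygi30 zgi44) (kgi xgi11 ygi57 zgi31) (kgi xgi9 ygi21 zgi53) (kgi xgi11 ygi31 zgi4) (kgi xgi21 ygi31 zgi58) (kgi xgi12 ygi16 zgi3) (kgi xgi12 ygi31 zgi27) (kgi xgi18 ygi42 zgi9) (kgi xgi21 ygi38 zgi25) (kgi xgi9 ygi22 zgi1) (kgi xgi20 ygi19 zgi42) (kgi xgi27 ygi8 zgi2) (kgi xgi23 ygi47 zgi13) (kgi xgi11 ygi15 zgi15) (kgi xgi9 ygi22 zgi5) (kgi xgi17 ygi21 zgi20) (kgi xgi17 ygi21 zgi17) (kgi xgi23 ygi55 zgi22) (kgi xgi23 ygi53 zgi1) (kgi xgi23 ygi55 zgi21) (kgi xgi9 ygi22 zgi8) (kgi xgi17 ygi21 zgi16) (kgi xgi19 ygi6 zgi53) (kgi xgi27 ygi8 zgi11) (kgi xgi9 ygi22 zgi12) (kgi xgi24 ygi7 zgi30) (kgi xgi17 ygi2 zgi6) (kgi xgi27 ygi6 zgi29) (kgi xgi20 ygi30 zgi10) (kgi xgi27 ygi8 zgi18)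 (kgi xgi20 ygi30 zgi8) (kgi xgi17 ygi1 zgi24) (kgi xgi22 ygi6 zgi33) (kgi xgi27 ygi3 zgi13) (kgi xgi20 ygi28 zgi24) (kgi xgi27 ygi8 zgi21) (kgi xgi15 ygi27 zgi4) (kgi xgi9 ygi22 zgi18) (kgi xgi26 ygi53 zgi28) (kgi xgi27 ygi8 zgi33) (kgi xgi23 ygi38 zgi53) (kgi xgi27 ygi8 zgi37) (kgi xgi17 ygi20 zgi10) (kgi xgi20 ygi52 zgi43) (kgi xgi9 ygi22 zgi22) (kgi xgi26 ygi45 zgi7) (kgi xgi17 ygi25 zgi20) (kgi xgi14 ygi29 zgi7) (kgi xgi27 ygi8 zgi45) (kgi xgi21 ygi31 zgi57) (kgi xgi27 ygi8 zgi44) (kgi xgi10 ygi21 zgi60) (kgi xgi9 ygi22 zgi25) (kgi xgi27 ygi2 zgi13) (kgi xgi27 ygi8 zgi55) (kgi xgi27 ygi2 zgi10) (kgi xgi27 ygi8 zgi60)) (@D3.rec (fun _ => Pt) (kgi xgi12 ygi11 zgi24) (kgi xgi17 ygi11 zgi50) (kgi xgi11 ygi21 zgi27) (kgi xgi19 ygi20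 zgi16) (kgi xgi16 ygi57 zgi46) (kgi xgi16 ygi54 zgi56) (kgi xgi21 ygi16 zgi13) (kgi xgi25 ygi47 zgi8) (kgi xgi16 ygi21 zgi41) (kgi xgi13 ygi18 zgi11) (kgi xgi11 ygi43 zgi59) (kgi xgi19 ygi23 zgi23) (kgi xgi17 ygi12 zgi31) (kgi xgi9 ygi22 zgi47) (kgi xgi11 ygi44 zgi46) (kgi xgi24 ygi15 zgi23) (kgi xgi12 ygi33 zgi44) (kgi xgi9 ygi22 zgi53) (kgi xgi21 ygi42 zgi52) (kgi xgi27 ygi6 zgi10) (kgi xgi9 ygi22 zgi55) (kgi xgi20 ygi2 zgi8) (kgi xgi27 ygi9 zgi6) (kgi xgi13 ygi18 zgi18) (kgi xgi9 ygi22 zgi58) (kgi xgi9 ygi24 zgi50) (kgi xgi12 ygi20 zgi60) (kgi xgi9 ygi25 zgi0) (kgi xgi23 ygi37 zgi51) (kgi xgi20 ygi19 zgi12) (kgi xgi9 ygi27 zgi3) (kgi xgi21 ygi22 zgi0) (kgi xgi9 ygi23 zgi2) (kgi xgi14 ygi1 zgi36) (kgi xgi21 ygi2 zgi59) (kgi xgi14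 ygi7 zgi59) (kgi xgi12 ygi3 zgi38) (kgi xgi21 ygi30 zgi57) (kgi xgi27 ygi9 zgi17) (kgi xgi9 ygi23 zgi11) (kgi xgi12 ygi39 zgi25) (kgi xgi9 ygi23 zgi14) (kgi xgi17 ygi17 zgi12) (kgi xgi9 ygi24 zgi14) (kgi xgi9 ygi23 zgi15) (kgi xgi16 ygi54 zgi32) (kgi xgi16 ygi49 zgi17) (kgi xgi20 ygi14 zgi24) (kgi xgi18 ygi47 zgi17) (kgi xgi27 ygi9 zgi22) (kgi xgi27 ygi9 zgi24) (kgi xgi9 ygi23 zgi20) (kgi xgi9 ygi23 zgi27) (kgi xgi22 ygi22 zgi32) (kgi xgi9 ygi23 zgi24) (kgi xgi26 ygi4 zgi13) (kgi xgi16 ygi31 zgi24) (kgi xgi14 ygi33 zgi52) (kgi xgi9 ygi23 zgi23) (kgi xgi27 ygi9 zgi26) (kgi xgi27 ygi9 zgi35) (kgi xgi27 ygi9 zgi23)) (@D3.rec (fun _ => Pt) (kgi xgi12 ygi39 zgi16) (kgi xgi21 ygi9 zgi51) (kgi xgi11 ygi26 zgi33) (kgi xgi18 ygi23 zgi22) (kgi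 xgi13 ygi10 zgi1) (kgi xgi24 ygi15 zgi40) (kgi xgi9 ygi23 zgi26) (kgi xgi27 ygi9 zgi28) (kgi xgi24 ygi7 zgi27) (kgi xgi22 ygi22 zgi29) (kgi xgi17 ygi10 zgi47) (kgi xgi18 ygi44 zgi33) (kgi xgi10 ygi20 zgi35) (kgi xgi9 ygi23 zgi29) (kgi xgi9 ygi26 zgi51) (kgi xgi19 ygi38 zgi58) (kgi xgi9 ygi26 zgi48) (kgi xgi9 ygi23 zgi31) (kgi xgi23 ygi56 zgi56) (kgi xgi15 ygi56 zgi54) (kgi xgi25 ygi35 zgi59) (kgi xgi12 ygi34 zgi5) (kgi xgi27 ygi10 zgi4) (kgi xgi27 ygi9 zgi11) (kgi xgi17 ygi20 zgi52) (kgi xgi18 ygi44 zgi19) (kgi xgi17 ygi26 zgi43) (kgi xgi23 ygi0 zgi50) (kgi xgi9 ygi27 zgi22) (kgi xgi22 ygi55 zgi61) (kgi xgi25 ygi32 zgi38) (kgi xgi9 ygi27 zgi37) (kgi xgi9 ygi27 zgi36) (kgi xgi21 ygi39 zgi55) (kgi xgi18 ygi42 zgi17) (kgi xgi25 ygi48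 zgi22) (kgi xgi12 ygi57 zgi26) (kgi xgi9 ygi29 zgi10) (kgi xgi13 ygi1 zgi43) (kgi xgi9 ygi50 zgi5) (kgi xgi12 ygi17 zgi32) (kgi xgi25 ygi57 zgi5) (kgi xgi9 ygi35 zgi50) (kgi xgi9 ygi24 zgi33) (kgi xgi14 ygi13 zgi58) (kgi xgi24 ygi3 zgi2) (kgi xgi9 ygi23 zgi52) (kgi xgi17 ygi26 zgi34) (kgi xgi13 ygi18 zgi20) (kgi xgi9 ygi23 zgi54) (kgi xgi14 ygi16 zgi14) (kgi xgi23 ygi53 zgi21) (kgi xgi17 ygi20 zgi26) (kgi xgi11 ygi43 zgi41) (kgi xgi9 ygi23 zgi57) (kgi xgi20 ygi33 zgi51) (kgi xgi9 ygi27 zgi52) (kgi xgi12 ygi37 zgi57) (kgi xgi19 ygi10 zgi1) (kgi xgi9 ygi23 zgi60) (kgi xgi9 ygi24 zgi3) (kgi xgi21 ygi39 zgi52)) (@D3.rec (fun _ => Pt) (kgi xgi9 ygi24 zgi0) (kgi xgi9 ygi23 zgi61) (kgi xgi21 ygi15 zgi24) (kgi xgi12 ygi44 zgi57) (kgi xgi9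 ygi30 zgi1) (kgi xgi11 ygi35 zgi2) (kgi xgi24 ygi1 zgi35) (kgi xgi12 ygi56 zgi56) (kgi xgi14 ygi14 zgi4) (kgi xgi15 ygi27 zgi2) (kgi xgi26 ygi53 zgi20) (kgi xgi9 ygi24 zgi2) (kgi xgi26 ygi43 zgi37) (kgi xgi23 ygi57 zgi26) (kgi xgi23 ygi35 zgi22) (kgi xgi27 ygi10 zgi50) (kgi xgi17 ygi18 zgi25) (kgi xgi9 ygi24 zgi6) (kgi xgi17 ygi18 zgi21) (kgi xgi10 ygi26 zgi14) (kgi xgi17 ygi18 zgi19) (kgi xgi14 ygi14 zgi13) (kgi xgi13 ygi17 zgi53) (kgi xgi19 ygi41 zgi5) (kgi xgi11 ygi44 zgi48) (kgi xgi11 ygi44 zgi50) (kgi xgi14 ygi16 zgi11) (kgi xgi23 ygi55 zgi24) (kgi xgi12 ygi4 zgi35) (kgi xgi27 ygi6 zgi34) (kgi xgi24 ygi15 zgi37) (kgi xgi24 ygi1 zgi36) (kgi xgi10 ygi54 zgi25) (kgi xgi9 ygi24 zgi17) (kgi xgi9 ygi24 zgi19) (kgi xgi12 ygi40 zgi34)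 (kgi xgi15 ygi51 zgi53) (kgi xgi19 ygi40 zgi50) (kgi xgi27 ygi11 zgi2) (kgi xgi15 ygi57 zgi46) (kgi xgi9 ygi24 zgi25) (kgi xgi27 ygi11 zgi4) (kgi xgi26 ygi14 zgi5) (kgi xgi21 ygi46 zgi2) (kgi xgi26 ygi14 zgi7) (kgi xgi9 ygi29 zgi56) (kgi xgi22 ygi6 zgi29) (kgi xgi12 ygi4 zgi32) (kgi xgi25 ygi23 zgi42) (kgi xgi18 ygi48 zgi24) (kgi xgi24 ygi53 zgi41) (kgi xgi20 ygi18 zgi59) (kgi xgi18 ygi50 zgi16) (kgi xgi18 ygi16 zgi17) (kgi xgi9 ygi24 zgi43) (kgi xgi24 ygi53 zgi39) (kgi xgi23 ygi53 zgi51) (kgi xgi9 ygi24 zgi46) (kgi xgi27 ygi10 zgi29) (kgi xgi10 ygi7 zgi19) (kgi xgi12 ygi11 zgi36) (kgi xgi18 ygi39 zgi31)) (@D3.rec (fun _ => Pt) (kgi xgi13 ygi18 zgi31) (kgi xgi17 ygi23 zgi16) (kgi xgi18 ygi53 zgi6) (kgi xgi19 ygi13 zgi8) (kgi xgi27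 ygi11 zgi21) (kgi xgi21 ygi39 zgi15) (kgi xgi15 ygi46 zgi28) (kgi xgi27 ygi11 zgi24) (kgi xgi19 ygi34 zgi55) (kgi xgi19 ygi40 zgi49) (kgi xgi27 ygi11 zgi29) (kgi xgi17 ygi34 zgi60) (kgi xgi16 ygi49 zgi9) (kgi xgi9 ygi24 zgi60) (kgi xgi27 ygi11 zgi31) (kgi xgi27 ygi11 zgi34) (kgi xgi27 ygi11 zgi38) (kgi xgi24 ygi5 zgi12) (kgi xgi9 ygi25 zgi3) (kgi xgi18 ygi21 zgi4) (kgi xgi9 ygi25 zgi17) (kgi xgi21 ygi57 zgi32) (kgi xgi17 ygi24 zgi45) (kgi xgi9 ygi25 zgi5) (kgi xgi27 ygi2 zgi52) (kgi xgi9 ygi27 zgi25) (kgi xgi22 ygi0 zgi29) (kgi xgi10 ygi17 zgi12) (kgi xgi15 ygi56 zgi33) (kgi xgi9 ygi25 zgi12) (kgi xgi9 ygi25 zgi22) (kgi xgi23 ygi57 zgi20) (kgi xgi9 ygi25 zgi19) (kgi xgi20 ygi29 zgi55) (kgi xgi11 ygi2 zgi11) (kgi xgi10 ygi57 zgi43)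 (kgi xgi16 ygi56 zgi11) (kgi xgi27 ygi11 zgi53) (kgi xgi9 ygi25 zgi18) (kgi xgi27 ygi11 zgi46) (kgi xgi15 ygi56 zgi37) (kgi xgi11 ygi45 zgi38) (kgi xgi21 ygi57 zgi24) (kgi xgi27 ygi6 zgi37) (kgi xgi21 ygi38 zgi43) (kgi xgi23 ygi52 zgi61) (kgi xgi27 ygi11 zgi58) (kgi xgi27 ygi11 zgi60) (kgi xgi21 ygi3 zgi60) (kgi xgi9 ygi25 zgi21) (kgi xgi24 ygi10 zgi33) (kgi xgi27 ygi12 zgi7) (kgi xgi19 ygi29 zgi24) (kgi xgi19 ygi23 zgi43) (kgi xgi17 ygi4 zgi37) (kgi xgi18 ygi1 zgi10) (kgi xgi9 ygi26 zgi45) (kgi xgi9 ygi27 zgi15) (kgi xgi21 ygi52 zgi8) (kgi xgi12 ygi28 zgi3) (kgi xgi12 ygi42 zgi15) (kgi xgi23 ygi47 zgi29)) (@D3.rec (fun _ => Pt) (kgi xgi17 ygi11 zgi34) (kgi xgi16 ygi26 zgi19) (kgi xgi9 ygi25 zgi37) (kgi xgi26 ygi22 zgi3) (kgi xgi22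 ygi38 zgi57) (kgi xgi26 ygi22 zgi2) (kgi xgi9 ygi25 zgi38) (kgi xgi24 ygi17 zgi58) (kgi xgi13 ygi29 zgi37) (kgi xgi9 ygi25 zgi59) (kgi xgi18 ygi53 zgi42) (kgi xgi24 ygi15 zgi22) (kgi xgi18 ygi53 zgi15) (kgi xgi9 ygi25 zgi43) (kgi xgi18 ygi26 zgi24) (kgi xgi18 ygi31 zgi59) (kgi xgi17 ygi21 zgi59) (kgi xgi13 ygi21 zgi51) (kgi xgi20 ygi46 zgi8) (kgi xgi9 ygi25 zgi50) (kgi xgi15 ygi24 zgi58) (kgi xgi11 ygi45 zgi45) (kgi xgi14 ygi30 zgi6) (kgi xgi13 ygi9 zgi13) (kgi xgi9 ygi26 zgi15) (kgi xgi24 ygi18 zgi14) (kgi xgi20 ygi45 zgi35) (kgi xgi11 ygi45 zgi30) (kgi xgi10 ygi20 zgi10) (kgi xgi11 ygi45 zgi28) (kgi xgi11 ygi45 zgi34) (kgi xgi20 ygi45 zgi41) (kgi xgi9 ygi25 zgi60) (kgi xgi9 ygi26 zgi12) (kgi xgi13 ygi37 zgi3) (kgi xgi9 ygi26 zgi9)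 (kgi xgi24 ygi39 zgi28) (kgi xgi9 ygi26 zgi19) (kgi xgi20 ygi42 zgi50) (kgi xgi9 ygi26 zgi4) (kgi xgi11 ygi45 zgi55) (kgi xgi27 ygi12 zgi44) (kgi xgi9 ygi26 zgi7) (kgi xgi11 ygi45 zgi58) (kgi xgi27 ygi12 zgi46) (kgi xgi9 ygi26 zgi8) (kgi xgi9 ygi50 zgi1) (kgi xgi19 ygi57 zgi28) (kgi xgi9 ygi49 zgi60) (kgi xgi13 ygi56 zgi20) (kgi xgi20 ygi40 zgi28) (kgi xgi27 ygi12 zgi55) (kgi xgi22 ygi36 zgi61) (kgi xgi20 ygi52 zgi12) (kgi xgi27 ygi12 zgi53) (kgi xgi24 ygi38 zgi51) (kgi xgi25 ygi53 zgi16) (kgi xgi13 ygi37 zgi1) (kgi xgi26 ygi46 zgi17) (kgi xgi13 ygi36 zgi46) (kgi xgi11 ygi26 zgi0) (kgi xgi20 ygi31 zgi9)) (@D3.rec (fun _ => Pt) (kgi xgi20 ygi33 zgi32) (kgi xgi23 ygi45 zgi28) (kgi xgi20 ygi33 zgi17) (kgi xgi20 ygi46 zgi14) (kgi xgi13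 ygi8 zgi22) (kgi xgi27 ygi13 zgi9) (kgi xgi20 ygi39 zgi50) (kgi xgi20 ygi45 zgi8) (kgi xgi25 ygi47 zgi25) (kgi xgi19 ygi9 zgi53) (kgi xgi27 ygi13 zgi12) (kgi xgi13 ygi36 zgi54) (kgi xgi9 ygi26 zgi21) (kgi xgi27 ygi12 zgi38) (kgi xgi27 ygi13 zgi15) (kgi xgi27 ygi13 zgi20) (kgi xgi22 ygi0 zgi37) (kgi xgi22 ygi54 zgi58) (kgi xgi16 ygi52 zgi3) (kgi xgi9 ygi26 zgi24) (kgi xgi20 ygi0 zgi13) (kgi xgi9 ygi26 zgi25) (kgi xgi27 ygi13 zgi29) (kgi xgi16 ygi52 zgi21) (kgi xgi17 ygi24 zgi38) (kgi xgi27 ygi13 zgi32) (kgi xgi27 ygi13 zgi31) (kgi xgi17 ygi24 zgi44) (kgi xgi9 ygi26 zgi28) (kgi xgi27 ygi2 zgi25) (kgi xgi27 ygi13 zgi41) (kgi xgi27 ygi2 zgi22) (kgi xgi22 ygi36 zgi45) (kgi xgi22 ygi15 zgi4) (kgi xgi9 ygi26 zgi44) (kgi xgi17 ygi24 zgi32)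 (kgi xgi12 ygi10 zgi23) (kgi xgi21 ygi12 zgi20) (kgi xgi20 ygi47 zgi16) (kgi xgi9 ygi26 zgi36) (kgi xgi20 ygi44 zgi11) (kgi xgi26 ygi50 zgi45) (kgi xgi20 ygi44 zgi8) (kgi xgi22 ygi25 zgi18) (kgi xgi15 ygi56 zgi41) (kgi xgi11 ygi50 zgi20) (kgi xgi22 ygi25 zgi24) (kgi xgi9 ygi26 zgi39) (kgi xgi17 ygi25 zgi19) (kgi xgi27 ygi14 zgi2) (kgi xgi17 ygi25 zgi24) (kgi xgi24 ygi36 zgi17) (kgi xgi11 ygi22 zgi27) (kgi xgi19 ygi49 zgi5) (kgi xgi9 ygi26 zgi42) (kgi xgi17 ygi4 zgi33) (kgi xgi22 ygi0 zgi49) (kgi xgi9 ygi26 zgi43) (kgi xgi9 ygi26 zgi47) (kgi xgi27 ygi14 zgi14) (kgi xgi19 ygi28 zgi12) (kgi xgi15 ygi56 zgi0)) (@D3.rec (fun _ => Pt) (kgi xgi21 ygi16 zgi43) (kgi xgi20 ygi52 zgi31) (kgi xgi27 ygi14 zgi21) (kgi xgi19 ygi25 zgi29) (kgi xgi27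 ygi14 zgi13) (kgi xgi17 ygi8 zgi18) (kgi xgi27 ygi14 zgi26) (kgi xgi15 ygi36 zgi21) (kgi xgi13 ygi36 zgi55) (kgi xgi24 ygi39 zgi5) (kgi xgi27 ygi14 zgi25) (kgi xgi18 ygi47 zgi28) (kgi xgi25 ygi36 zgi9) (kgi xgi9 ygi26 zgi50) (kgi xgi27 ygi9 zgi58) (kgi xgi27 ygi14 zgi32) (kgi xgi15 ygi16 zgi38) (kgi xgi26 ygi42 zgi11) (kgi xgi10 ygi46 zgi22) (kgi xgi17 ygi24 zgi47) (kgi xgi12 ygi14 zgi41) (kgi xgi13 ygi12 zgi7) (kgi xgi17 ygi18 zgi51) (kgi xgi25 ygi52 zgi50) (kgi xgi9 ygi26 zgi55) (kgi xgi17 ygi24 zgi50) (kgi xgi27 ygi14 zgi47) (kgi xgi9 ygi27 zgi12) (kgi xgi9 ygi26 zgi57) (kgi xgi10 ygi4 zgi22) (kgi xgi24 ygi59 zgi57) (kgi xgi27 ygi14 zgi55) (kgi xgi9 ygi26 zgi58) (kgi xgi18 ygi42 zgi52) (kgi xgi20 ygi19 zgi8) (kgi xgi27 ygi14 zgi58)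 (kgi xgi15 ygi46 zgi49) (kgi xgi10 ygi24 zgi48) (kgi xgi25 ygi35 zgi47) (kgi xgi17 ygi34 zgi15) (kgi xgi18 ygi56 zgi43) (kgi xgi18 ygi17 zgi23) (kgi xgi20 ygi27 zgi7) (kgi xgi21 ygi45 zgi12) (kgi xgi9 ygi27 zgi5) (kgi xgi27 ygi15 zgi3) (kgi xgi27 ygi15 zgi7) (kgi xgi23 ygi47 zgi8) (kgi xgi20 ygi50 zgi33) (kgi xgi27 ygi15 zgi14) (kgi xgi9 ygi27 zgi9) (kgi xgi27 ygi10 zgi5) (kgi xgi27 ygi15 zgi19) (kgi xgi27 ygi10 zgi3) (kgi xgi22 ygi7 zgi18) (kgi xgi21 ygi2 zgi49) (kgi xgi23 ygi53 zgi43) (kgi xgi9 ygi27 zgi13) (kgi xgi9 ygi27 zgi16) (kgi xgi23 ygi8 zgi25) (kgi xgi15 ygi57 zgi23) (kgi xgi10 ygi24 zgi51)) (@D3.rec (fun _ => Pt) (kgi xgi27 ygi9 zgi59) (kgi xgi27 ygi15 zgi29) (kgi xgi14 ygi39 zgi10) (kgi xgi27 ygi15 zgi32) (kgi xgi25 ygi5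 zgi36) (kgi xgi9 ygi27 zgi17) (kgi xgi27 ygi10 zgi11) (kgi xgi27 ygi15 zgi42) (kgi xgi27 ygi10 zgi10) (kgi xgi15 ygi41 zgi3) (kgi xgi27 ygi15 zgi44) (kgi xgi15 ygi41 zgi0) (kgi xgi9 ygi27 zgi20) (kgi xgi27 ygi15 zgi45) (kgi xgi27 ygi15 zgi48) (kgi xgi20 ygi43 zgi61) (kgi xgi27 ygi15 zgi46) (kgi xgi27 ygi15 zgi58) (kgi xgi25 ygi58 zgi36) (kgi xgi25 ygi32 zgi37) (kgi xgi24 ygi25 zgi50) (kgi xgi27 ygi7 zgi34) (kgi xgi27 ygi16 zgi4) (kgi xgi23 ygi58 zgi7) (kgi xgi9 ygi27 zgi26) (kgi xgi9 ygi27 zgi28) (kgi xgi22 ygi0 zgi6) (kgi xgi27 ygi16 zgi13) (kgi xgi12 ygi11 zgi30) (kgi xgi22 ygi0 zgi7) (kgi xgi27 ygi9 zgi12) (kgi xgi17 ygi20 zgi47) (kgi xgi20 ygi44 zgi35) (kgi xgi21 ygi52 zgi35) (kgi xgi22 ygi0 zgi3) (kgi xgi27 ygi16 zgi24) (kgi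 xgi9 ygi27 zgi31) (kgi xgi12 ygi52 zgi7) (kgi xgi27 ygi16 zgi32) (kgi xgi12 ygi52 zgi3) (kgi xgi9 ygi27 zgi32) (kgi xgi9 ygi27 zgi34) (kgi xgi13 ygi17 zgi50) (kgi xgi17 ygi20 zgi24) (kgi xgi19 ygi30 zgi3) (kgi xgi9 ygi30 zgi42) (kgi xgi11 ygi33 zgi47) (kgi xgi19 ygi9 zgi50) (kgi xgi25 ygi59 zgi40) (kgi xgi9 ygi27 zgi38) (kgi xgi27 ygi10 zgi15) (kgi xgi9 ygi27 zgi39) (kgi xgi11 ygi35 zgi51) (kgi xgi9 ygi30 zgi26) (kgi xgi20 ygi26 zgi31) (kgi xgi19 ygi9 zgi60) (kgi xgi16 ygi58 zgi10) (kgi xgi12 ygi57 zgi7) (kgi xgi9 ygi27 zgi43) (kgi xgi20 ygi27 zgi15) (kgi xgi27 ygi16 zgi47) (kgi xgi12 ygi57 zgi2)) (@D3.rec (fun _ => Pt) (kgi xgi16 ygi58 zgi15) (kgi xgi25 ygi54 zgi46) (kgi xgi25 ygi9 zgi40) (kgi xgi9 ygi27 zgi46) (kgi xgi25 ygi43 zgi58)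 (kgi xgi27 ygi16 zgi57) (kgi xgi27 ygi10 zgi18) (kgi xgi27 ygi10 zgi30) (kgi xgi17 ygi17 zgi46) (kgi xgi27 ygi17 zgi1) (kgi xgi27 ygi7 zgi41) (kgi xgi13 ygi1 zgi34) (kgi xgi9 ygi29 zgi22) (kgi xgi9 ygi29 zgi34) (kgi xgi27 ygi17 zgi8) (kgi xgi11 ygi1 zgi33) (kgi xgi12 ygi52 zgi0) (kgi xgi27 ygi17 zgi12) (kgi xgi9 ygi28 zgi40) (kgi xgi27 ygi17 zgi14) (kgi xgi12 ygi52 zgi32) (kgi xgi12 ygi19 zgi45) (kgi xgi9 ygi27 zgi59) (kgi xgi27 ygi1 zgi43) (kgi xgi22 ygi0 zgi17) (kgi xgi9 ygi32 zgi44) (kgi xgi27 ygi17 zgi23) (kgi xgi16 ygi43 zgi1) (kgi xgi27 ygi17 zgi27) (kgi xgi21 ygi58 zgi58) (kgi xgi25 ygi33 zgi35) (kgi xgi22 ygi0 zgi14) (kgi xgi9 ygi28 zgi2) (kgi xgi27 ygi17 zgi2) (kgi xgi27 ygi17 zgi0) (kgi xgi25 ygi24 zgi37) (kgi xgi9 ygi28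 zgi3) (kgi xgi12 ygi52 zgi10) (kgi xgi12 ygi52 zgi34) (kgi xgi26 ygi38 zgi43) (kgi xgi27 ygi17 zgi40) (kgi xgi12 ygi11 zgi8) (kgi xgi9 ygi28 zgi6) (kgi xgi21 ygi17 zgi13) (kgi xgi21 ygi17 zgi11) (kgi xgi23 ygi39 zgi10) (kgi xgi19 ygi44 zgi39) (kgi xgi9 ygi28 zgi8) (kgi xgi17 ygi10 zgi26) (kgi xgi17 ygi10 zgi24) (kgi xgi27 ygi17 zgi57) (kgi xgi27 ygi17 zgi60) (kgi xgi19 ygi45 zgi57) (kgi xgi9 ygi28 zgi12) (kgi xgi21 ygi16 zgi23) (kgi xgi21 ygi16 zgi21) (kgi xgi27 ygi1 zgi49) (kgi xgi25 ygi30 zgi49) (kgi xgi9 ygi28 zgi15) (kgi xgi21 ygi17 zgi24) (kgi xgi21 ygi17 zgi22) (kgi xgi27 ygi18 zgi9)) (@D3.rec (fun _ => Pt) (kgi xgi27 ygi18 zgi12) (kgi xgi15 ygi35 zgi57) (kgi xgi9 ygi28 zgi18) (kgi xgi21 ygi17 zgi28) (kgi xgi21 ygi17 zgi27)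 (kgi xgi27 ygi18 zgi17) (kgi xgi25 ygi30 zgi31) (kgi xgi12 ygi0 zgi0) (kgi xgi17 ygi14 zgi46) (kgi xgi12 ygi33 zgi52) (kgi xgi25 ygi33 zgi14) (kgi xgi21 ygi27 zgi13) (kgi xgi21 ygi17 zgi35) (kgi xgi9 ygi28 zgi23) (kgi xgi21 ygi17 zgi34) (kgi xgi27 ygi18 zgi30) (kgi xgi24 ygi17 zgi28) (kgi xgi27 ygi18 zgi5) (kgi xgi19 ygi44 zgi47) (kgi xgi25 ygi30 zgi36) (kgi xgi27 ygi18 zgi38) (kgi xgi27 ygi18 zgi40) (kgi xgi27 ygi18 zgi44) (kgi xgi9 ygi28 zgi27) (kgi xgi27 ygi7 zgi57) (kgi xgi27 ygi7 zgi56) (kgi xgi9 ygi28 zgi30) (kgi xgi17 ygi18 zgi31) (kgi xgi9 ygi28 zgi31) (kgi xgi12 ygi11 zgi29) (kgi xgi21 ygi16 zgi31) (kgi xgi25 ygi34 zgi50) (kgi xgi25 ygi35 zgi50) (kgi xgi17 ygi11 zgi53) (kgi xgi9 ygi28 zgi35) (kgi xgi14 ygi22 zgi7) (kgi xgi24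 ygi17 zgi6) (kgi xgi9 ygi28 zgi36) (kgi xgi12 ygi51 zgi32) (kgi xgi27 ygi8 zgi7) (kgi xgi27 ygi19 zgi3) (kgi xgi27 ygi19 zgi8) (kgi xgi23 ygi56 zgi15) (kgi xgi26 ygi38 zgi35) (kgi xgi14 ygi41 zgi49) (kgi xgi14 ygi16 zgi10) (kgi xgi21 ygi16 zgi50) (kgi xgi10 ygi35 zgi50) (kgi xgi14 ygi14 zgi0) (kgi xgi21 ygi16 zgi51) (kgi xgi9 ygi28 zgi42) (kgi xgi27 ygi0 zgi4) (kgi xgi26 ygi36 zgi32) (kgi xgi27 ygi19 zgi20) (kgi xgi27 ygi18 zgi52) (kgi xgi26 ygi55 zgi54) (kgi xgi16 ygi36 zgi60) (kgi xgi27 ygi19 zgi28) (kgi xgi9 ygi28 zgi45) (kgi xgi9 ygi28 zgi49) (kgi xgi27 ygi19 zgi32) (kgi xgi21 ygi39 zgi32)) (@D3.rec (fun _ => Pt) (kgi xgi24 ygi15 zgi34) (kgi xgi12 ygi2 zgi45) (kgi xgi19 ygi7 zgi48) (kgi xgi21 ygi16 zgi55) (kgi xgi19 ygi31 zgi20)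 (kgi xgi27 ygi19 zgi38) (kgi xgi15 ygi46 zgi45) (kgi xgi27 ygi19 zgi42) (kgi xgi27 ygi19 zgi43) (kgi xgi27 ygi19 zgi45) (kgi xgi21 ygi58 zgi3) (kgi xgi17 ygi17 zgi58) (kgi xgi15 ygi19 zgi23) (kgi xgi9 ygi28 zgi54) (kgi xgi25 ygi35 zgi40) (kgi xgi25 ygi35 zgi43) (kgi xgi21 ygi58 zgi11) (kgi xgi9 ygi28 zgi55) (kgi xgi25 ygi35 zgi37) (kgi xgi27 ygi19 zgi23) (kgi xgi13 ygi15 zgi17) (kgi xgi13 ygi15 zgi18) (kgi xgi21 ygi56 zgi29) (kgi xgi21 ygi8 zgi48) (kgi xgi9 ygi28 zgi60) (kgi xgi12 ygi50 zgi44) (kgi xgi12 ygi50 zgi42) (kgi xgi9 ygi28 zgi61) (kgi xgi12 ygi50 zgi41) (kgi xgi12 ygi50 zgi39) (kgi xgi12 ygi39 zgi30) (kgi xgi21 ygi46 zgi36) (kgi xgi9 ygi29 zgi3) (kgi xgi9 ygi29 zgi5) (kgi xgi27 ygi19 zgi60) (kgi xgi12 ygi43 zgi21) (kgi xgi12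 ygi25 zgi13) (kgi xgi9 ygi29 zgi7) (kgi xgi11 ygi19 zgi26) (kgi xgi27 ygi19 zgi59) (kgi xgi18 ygi20 zgi50) (kgi xgi26 ygi5 zgi46) (kgi xgi9 ygi29 zgi6) (kgi xgi27 ygi19 zgi57) (kgi xgi17 ygi29 zgi16) (kgi xgi26 ygi15 zgi48) (kgi xgi27 ygi20 zgi1) (kgi xgi11 ygi22 zgi50) (kgi xgi26 ygi53 zgi17) (kgi xgi21 ygi37 zgi57) (kgi xgi23 ygi34 zgi32) (kgi xgi13 ygi1 zgi57) (kgi xgi9 ygi29 zgi12) (kgi xgi21 ygi38 zgi21) (kgi xgi14 ygi1 zgi34) (kgi xgi9 ygi29 zgi38) (kgi xgi27 ygi20 zgi8) (kgi xgi21 ygi58 zgi34) (kgi xgi17 ygi19 zgi8) (kgi xgi11 ygi12 zgi12) (kgi xgi9 ygi29 zgi18) (kgi xgi14 ygi46 zgi38)) (@D3.rec (fun _ => Pt) (kgi xgi20 ygi14 zgi55) (kgi xgi9 ygi29 zgi19) (kgi xgi20 ygi0 zgi21) (kgi xgi9 ygi29 zgi20) (kgi xgi11 ygi14 zgi32)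 (kgi xgi18 ygi16 zgi12) (kgi xgi23 ygi34 zgi31) (kgi xgi21 ygi36 zgi49) (kgi xgi11 ygi10 zgi60) (kgi xgi27 ygi20 zgi20) (kgi xgi27 ygi20 zgi21) (kgi xgi9 ygi29 zgi24) (kgi xgi20 ygi15 zgi13) (kgi xgi27 ygi20 zgi24) (kgi xgi18 ygi33 zgi41) (kgi xgi20 ygi17 zgi40) (kgi xgi12 ygi19 zgi59) (kgi xgi27 ygi20 zgi27) (kgi xgi22 ygi11 zgi44) (kgi xgi21 ygi3 zgi3) (kgi xgi18 ygi56 zgi49) (kgi xgi18 ygi16 zgi39) (kgi xgi25 ygi15 zgi44) (kgi xgi18 ygi16 zgi11) (kgi xgi21 ygi26 zgi11) (kgi xgi12 ygi58 zgi17) (kgi xgi27 ygi20 zgi33) (kgi xgi9 ygi54 zgi20) (kgi xgi9 ygi29 zgi36) (kgi xgi24 ygi18 zgi26) (kgi xgi22 ygi34 zgi30) (kgi xgi17 ygi37 zgi43) (kgi xgi9 ygi29 zgi37) (kgi xgi27 ygi17 zgi6) (kgi xgi13 ygi40 zgi57) (kgi xgi27 ygi20 zgi37) (kgi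 xgi12 ygi19 zgi58) (kgi xgi9 ygi29 zgi39) (kgi xgi12 ygi52 zgi46) (kgi xgi12 ygi52 zgi44) (kgi xgi9 ygi29 zgi40) (kgi xgi12 ygi33 zgi3) (kgi xgi21 ygi21 zgi27) (kgi xgi19 ygi10 zgi49) (kgi xgi9 ygi29 zgi43) (kgi xgi12 ygi33 zgi4) (kgi xgi22 ygi31 zgi13) (kgi xgi9 ygi29 zgi44) (kgi xgi12 ygi52 zgi41) (kgi xgi12 ygi52 zgi39) (kgi xgi21 ygi21 zgi48) (kgi xgi12 ygi16 zgi58) (kgi xgi9 ygi29 zgi47) (kgi xgi9 ygi29 zgi49) (kgi xgi25 ygi57 zgi31) (kgi xgi27 ygi20 zgi54) (kgi xgi20 ygi9 zgi53) (kgi xgi12 ygi46 zgi25) (kgi xgi9 ygi29 zgi51) (kgi xgi21 ygi32 zgi54) (kgi xgi27 ygi20 zgi53) (kgi xgi12 ygi12 zgi45)) (@D3.rec (fun _ => Pt) (kgi xgi21 ygi59 zgi31) (kgi xgi9 ygi29 zgi50) (kgi xgi27 ygi20 zgi51) (kgi xgi12 ygi36 zgi23) (kgi xgi26 ygi46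 zgi34) (kgi xgi21 ygi42 zgi27) (kgi xgi9 ygi48 zgi53) (kgi xgi21 ygi38 zgi47) (kgi xgi14 ygi29 zgi6) (kgi xgi13 ygi17 zgi46) (kgi xgi22 ygi46 zgi34) (kgi xgi22 ygi27 zgi42) (kgi xgi27 ygi12 zgi48) (kgi xgi13 ygi8 zgi19) (kgi xgi18 ygi57 zgi9) (kgi xgi21 ygi49 zgi50) (kgi xgi21 ygi22 zgi10) (kgi xgi27 ygi21 zgi1) (kgi xgi27 ygi10 zgi41) (kgi xgi11 ygi44 zgi54) (kgi xgi27 ygi21 zgi3) (kgi xgi11 ygi44 zgi51) (kgi xgi27 ygi10 zgi24) (kgi xgi13 ygi9 zgi11) (kgi xgi21 ygi38 zgi48) (kgi xgi13 ygi9 zgi9) (kgi xgi13 ygi10 zgi41) (kgi xgi20 ygi41 zgi60) (kgi xgi9 ygi30 zgi12) (kgi xgi27 ygi21 zgi7) (kgi xgi14 ygi38 zgi4) (kgi xgi19 ygi52 zgi28) (kgi xgi9 ygi30 zgi14) (kgi xgi27 ygi21 zgi6) (kgi xgi20 ygi23 zgi32) (kgi xgi11 ygi48 zgi29) (kgi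 xgi18 ygi44 zgi61) (kgi xgi27 ygi9 zgi8) (kgi xgi21 ygi44 zgi58) (kgi xgi9 ygi30 zgi19) (kgi xgi11 ygi44 zgi16) (kgi xgi11 ygi44 zgi13) (kgi xgi9 ygi30 zgi20) (kgi xgi11 ygi44 zgi22) (kgi xgi27 ygi12 zgi30) (kgi xgi16 ygi30 zgi53) (kgi xgi11 ygi43 zgi56) (kgi xgi12 ygi55 zgi24) (kgi xgi11 ygi48 zgi9) (kgi xgi9 ygi30 zgi31) (kgi xgi20 ygi14 zgi57) (kgi xgi11 ygi45 zgi12) (kgi xgi18 ygi16 zgi0) (kgi xgi11 ygi44 zgi58) (kgi xgi11 ygi10 zgi22) (kgi xgi15 ygi40 zgi60) (kgi xgi19 ygi24 zgi57) (kgi xgi9 ygi31 zgi6) (kgi xgi11 ygi20 zgi28) (kgi xgi12 ygi55 zgi0) (kgi xgi18 ygi0 zgi29) (kgi xgi20 ygi12 zgi55)) (@D3.rec (fun _ => Pt) (kgi xgi11 ygi43 zgi55) (kgi xgi13 ygi8 zgi17) (kgi xgi11 ygi44 zgi2) (kgi xgi27 ygi21 zgi24) (kgi xgi24 ygi0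 zgi41) (kgi xgi19 ygi37 zgi26) (kgi xgi11 ygi54 zgi47) (kgi xgi11 ygi54 zgi50) (kgi xgi24 ygi7 zgi47) (kgi xgi19 ygi25 zgi60) (kgi xgi27 ygi21 zgi32) (kgi xgi9 ygi30 zgi47) (kgi xgi24 ygi36 zgi49) (kgi xgi21 ygi9 zgi38) (kgi xgi12 ygi55 zgi15) (kgi xgi11 ygi44 zgi41) (kgi xgi25 ygi18 zgi27) (kgi xgi22 ygi37 zgi11) (kgi xgi14 ygi20 zgi46) (kgi xgi9 ygi30 zgi53) (kgi xgi15 ygi29 zgi56) (kgi xgi17 ygi34 zgi26) (kgi xgi11 ygi42 zgi0) (kgi xgi9 ygi30 zgi54) (kgi xgi10 ygi59 zgi53) (kgi xgi12 ygi55 zgi31) (kgi xgi14 ygi25 zgi61) (kgi xgi12 ygi57 zgi24) (kgi xgi13 ygi10 zgi19) (kgi xgi27 ygi21 zgi43) (kgi xgi9 ygi30 zgi57) (kgi xgi20 ygi41 zgi22) (kgi xgi25 ygi22 zgi2) (kgi xgi11 ygi55 zgi23) (kgi xgi10 ygi51 zgi27) (kgi xgi27 ygi21 zgi47)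 (kgi xgi11 ygi10 zgi12) (kgi xgi17 ygi53 zgi34) (kgi xgi15 ygi17 zgi16) (kgi xgi19 ygi24 zgi45) (kgi xgi11 ygi39 zgi56) (kgi xgi15 ygi30 zgi12) (kgi xgi19 ygi27 zgi37) (kgi xgi19 ygi49 zgi25) (kgi xgi25 ygi21 zgi54) (kgi xgi11 ygi54 zgi37) (kgi xgi16 ygi49 zgi7) (kgi xgi9 ygi31 zgi5) (kgi xgi16 ygi47 zgi12) (kgi xgi16 ygi48 zgi54) (kgi xgi26 ygi6 zgi55) (kgi xgi22 ygi4 zgi49) (kgi xgi27 ygi21 zgi53) (kgi xgi24 ygi16 zgi2) (kgi xgi9 ygi31 zgi8) (kgi xgi27 ygi13 zgi21) (kgi xgi27 ygi13 zgi19) (kgi xgi27 ygi13 zgi18) (kgi xgi19 ygi25 zgi0) (kgi xgi21 ygi0 zgi38) (kgi xgi9 ygi31 zgi10) (kgi xgi11 ygi16 zgi36)) (@D3.rec (fun _ => Pt) (kgi xgi10 ygi44 zgi15) (kgi xgi11 ygi22 zgi51) (kgi xgi11 ygi55 zgi14) (kgi xgi26 ygi43 zgi20) (kgi xgi11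 ygi55 zgi12) (kgi xgi27 ygi21 zgi2) (kgi xgi11 ygi55 zgi58) (kgi xgi24 ygi46 zgi7) (kgi xgi9 ygi31 zgi19) (kgi xgi20 ygi0 zgi14) (kgi xgi20 ygi56 zgi19) (kgi xgi15 ygi48 zgi33) (kgi xgi10 ygi55 zgi54) (kgi xgi11 ygi50 zgi51) (kgi xgi27 ygi22 zgi3) (kgi xgi12 ygi55 zgi36) (kgi xgi12 ygi55 zgi34) (kgi xgi25 ygi16 zgi44) (kgi xgi10 ygi3 zgi51) (kgi xgi12 ygi14 zgi50) (kgi xgi16 ygi7 zgi13) (kgi xgi12 ygi54 zgi51) (kgi xgi12 ygi21 zgi45) (kgi xgi11 ygi49 zgi8) (kgi xgi22 ygi8 zgi36) (kgi xgi9 ygi31 zgi33) (kgi xgi12 ygi21 zgi44) (kgi xgi27 ygi22 zgi9) (kgi xgi9 ygi31 zgi34) (kgi xgi26 ygi46 zgi29) (kgi xgi20 ygi35 zgi15) (kgi xgi18 ygi57 zgi59) (kgi xgi9 ygi31 zgi35) (kgi xgi12 ygi54 zgi46) (kgi xgi27 ygi22 zgi13) (kgi xgi24 ygi19 zgi0)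 (kgi xgi9 ygi31 zgi39) (kgi xgi12 ygi55 zgi13) (kgi xgi12 ygi55 zgi11) (kgi xgi24 ygi14 zgi53) (kgi xgi22 ygi42 zgi39) (kgi xgi11 ygi55 zgi3) (kgi xgi9 ygi42 zgi32) (kgi xgi11 ygi56 zgi19) (kgi xgi22 ygi4 zgi36) (kgi xgi19 ygi47 zgi39) (kgi xgi12 ygi55 zgi45) (kgi xgi12 ygi55 zgi43) (kgi xgi9 ygi31 zgi53) (kgi xgi12 ygi55 zgi61) (kgi xgi9 ygi31 zgi56) (kgi xgi15 ygi25 zgi45) (kgi xgi27 ygi22 zgi22) (kgi xgi22 ygi4 zgi52) (kgi xgi9 ygi57 zgi11) (kgi xgi9 ygi31 zgi58) (kgi xgi27 ygi22 zgi20) (kgi xgi18 ygi52 zgi43) (kgi xgi27 ygi22 zgi27) (kgi xgi22 ygi3 zgi35) (kgi xgi12 ygi4 zgi10) (kgi xgi9 ygi31 zgi57)) (@D3.rec (fun _ => Pt) (kgi xgi12 ygi4 zgi12) (kgi xgi23 ygi47 zgi52) (kgi xgi27 ygi12 zgi47) (kgi xgi27 ygi22 zgi37) (kgi xgi9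 ygi31 zgi59) (kgi xgi11 ygi12 zgi27) (kgi xgi14 ygi16 zgi21) (kgi xgi14 ygi16 zgi40) (kgi xgi22 ygi16 zgi21) (kgi xgi12 ygi57 zgi3) (kgi xgi9 ygi32 zgi4) (kgi xgi12 ygi57 zgi1) (kgi xgi14 ygi16 zgi17) (kgi xgi17 ygi25 zgi39) (kgi xgi13 ygi17 zgi52) (kgi xgi21 ygi38 zgi53) (kgi xgi26 ygi45 zgi13) (kgi xgi9 ygi32 zgi18) (kgi xgi9 ygi50 zgi12) (kgi xgi9 ygi50 zgi38) (kgi xgi9 ygi32 zgi10) (kgi xgi18 ygi12 zgi42) (kgi xgi9 ygi32 zgi11) (kgi xgi10 ygi45 zgi1) (kgi xgi12 ygi49 zgi37) (kgi xgi11 ygi54 zgi46) (kgi xgi25 ygi20 zgi22) (kgi xgi11 ygi5 zgi25) (kgi xgi12 ygi44 zgi40) (kgi xgi9 ygi32 zgi16) (kgi xgi11 ygi54 zgi45) (kgi xgi27 ygi22 zgi51) (kgi xgi25 ygi19 zgi24) (kgi xgi27 ygi22 zgi54) (kgi xgi18 ygi33 zgi55) (kgi xgi9 ygi50 zgi33)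 (kgi xgi11 ygi57 zgi4) (kgi xgi16 ygi44 zgi45) (kgi xgi11 ygi54 zgi49) (kgi xgi19 ygi6 zgi56) (kgi xgi9 ygi32 zgi21) (kgi xgi12 ygi57 zgi61) (kgi xgi27 ygi22 zgi59) (kgi xgi27 ygi22 zgi60) (kgi xgi17 ygi20 zgi2) (kgi xgi11 ygi11 zgi42) (kgi xgi16 ygi30 zgi28) (kgi xgi18 ygi23 zgi33) (kgi xgi18 ygi24 zgi3) (kgi xgi9 ygi32 zgi36) (kgi xgi9 ygi32 zgi56) (kgi xgi9 ygi32 zgi54) (kgi xgi18 ygi57 zgi22) (kgi xgi12 ygi58 zgi19) (kgi xgi12 ygi42 zgi33) (kgi xgi12 ygi20 zgi56) (kgi xgi12 ygi35 zgi44) (kgi xgi17 ygi16 zgi6) (kgi xgi9 ygi32 zgi43) (kgi xgi22 ygi10 zgi51) (kgi xgi17 ygi22 zgi12) (kgi xgi9 ygi32 zgi51)) (@D3.rec (fun _ => Pt) (kgi xgi20 ygi42 zgi23) (kgi xgi27 ygi23 zgi8) (kgi xgi21 ygi20 zgi46) (kgi xgi17 ygi12 zgi30) (kgi xgi12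 ygi39 zgi56) (kgi xgi23 ygi47 zgi33) (kgi xgi21 ygi41 zgi5) (kgi xgi18 ygi57 zgi0) (kgi xgi9 ygi32 zgi57) (kgi xgi14 ygi16 zgi52) (kgi xgi27 ygi23 zgi17) (kgi xgi17 ygi14 zgi10) (kgi xgi21 ygi28 zgi21) (kgi xgi17 ygi17 zgi49) (kgi xgi9 ygi33 zgi0) (kgi xgi9 ygi33 zgi1) (kgi xgi15 ygi11 zgi45) (kgi xgi27 ygi23 zgi22) (kgi xgi22 ygi10 zgi32) (kgi xgi12 ygi20 zgi2) (kgi xgi21 ygi10 zgi18) (kgi xgi9 ygi33 zgi6) (kgi xgi21 ygi59 zgi18) (kgi xgi21 ygi23 zgi58) (kgi xgi9 ygi33 zgi9) (kgi xgi9 ygi33 zgi12) (kgi xgi27 ygi23 zgi28) (kgi xgi27 ygi23 zgi33) (kgi xgi27 ygi23 zgi36) (kgi xgi11 ygi51 zgi51) (kgi xgi9 ygi33 zgi11) (kgi xgi12 ygi39 zgi50) (kgi xgi13 ygi0 zgi41) (kgi xgi24 ygi7 zgi10) (kgi xgi27 ygi23 zgi32) (kgi xgi20 ygi13 zgi9)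 (kgi xgi16 ygi48 zgi42) (kgi xgi16 ygi0 zgi17) (kgi xgi27 ygi23 zgi42) (kgi xgi10 ygi33 zgi33) (kgi xgi9 ygi33 zgi15) (kgi xgi14 ygi38 zgi58) (kgi xgi27 ygi23 zgi44) (kgi xgi10 ygi28 zgi42) (kgi xgi9 ygi33 zgi18) (kgi xgi9 ygi33 zgi19) (kgi xgi18 ygi52 zgi38) (kgi xgi9 ygi33 zgi20) (kgi xgi19 ygi7 zgi47) (kgi xgi19 ygi7 zgi45) (kgi xgi27 ygi23 zgi54) (kgi xgi27 ygi23 zgi57) (kgi xgi9 ygi33 zgi22) (kgi xgi9 ygi33 zgi23) (kgi xgi15 ygi52 zgi34) (kgi xgi15 ygi52 zgi32) (kgi xgi15 ygi53 zgi15) (kgi xgi27 ygi24 zgi2) (kgi xgi9 ygi33 zgi33) (kgi xgi10 ygi8 zgi33) (kgi xgi15 ygi16 zgi55) (kgi xgi9 ygi33 zgi28)) (@D3.rec (fun _ => Pt) (kgi xgi15 ygi16 zgi50) (kgi xgi27 ygi24 zgi6) (kgi xgi20 ygi2 zgi41) (kgi xgi25 ygi4 zgi23) (kgi xgi15 ygi22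 zgi38) (kgi xgi11 ygi4 zgi22) (kgi xgi9 ygi33 zgi34) (kgi xgi9 ygi33 zgi36) (kgi xgi27 ygi24 zgi11) (kgi xgi27 ygi24 zgi14) (kgi xgi18 ygi5 zgi45) (kgi xgi25 ygi18 zgi2) (kgi xgi9 ygi33 zgi38) (kgi xgi10 ygi45 zgi3) (kgi xgi27 ygi24 zgi13) (kgi xgi27 ygi24 zgi18) (kgi xgi27 ygi24 zgi25) (kgi xgi27 ygi24 zgi28) (kgi xgi9 ygi33 zgi37) (kgi xgi27 ygi24 zgi8) (kgi xgi27 ygi24 zgi33) (kgi xgi27 ygi24 zgi27) (kgi xgi25 ygi56 zgi11) (kgi xgi22 ygi10 zgi38) (kgi xgi22 ygi9 zgi8) (kgi xgi15 ygi49 zgi3) (kgi xgi9 ygi33 zgi45) (kgi xgi9 ygi34 zgi57) (kgi xgi9 ygi34 zgi55) (kgi xgi27 ygi24 zgi39) (kgi xgi12 ygi19 zgi0) (kgi xgi27 ygi24 zgi42) (kgi xgi9 ygi33 zgi47) (kgi xgi16 ygi17 zgi4) (kgi xgi9 ygi33 zgi48) (kgi xgi9 ygi34 zgi29) (kgi xgi9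 ygi34 zgi27) (kgi xgi25 ygi58 zgi53) (kgi xgi16 ygi19 zgi10) (kgi xgi27 ygi24 zgi50) (kgi xgi9 ygi33 zgi50) (kgi xgi21 ygi42 zgi3) (kgi xgi9 ygi33 zgi52) (kgi xgi9 ygi35 zgi34) (kgi xgi9 ygi35 zgi32) (kgi xgi9 ygi35 zgi52) (kgi xgi12 ygi50 zgi18) (kgi xgi27 ygi24 zgi59) (kgi xgi9 ygi33 zgi54) (kgi xgi26 ygi5 zgi15) (kgi xgi25 ygi0 zgi29) (kgi xgi9 ygi33 zgi57) (kgi xgi9 ygi35 zgi38) (kgi xgi9 ygi33 zgi60) (kgi xgi9 ygi34 zgi0) (kgi xgi25 ygi58 zgi39) (kgi xgi16 ygi17 zgi9) (kgi xgi17 ygi37 zgi24) (kgi xgi14 ygi57 zgi38) (kgi xgi9 ygi34 zgi2) (kgi xgi24 ygi52 zgi28) (kgi xgi18 ygi7 zgi1)) (@D3.rec (fun _ => Pt) (kgi xgi27 ygi25 zgi10) (kgi xgi13 ygi0 zgi45) (kgi xgi17 ygi41 zgi18) (kgi xgi9 ygi34 zgi1) (kgi xgi17 ygi41 zgi20) (kgi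 xgi27 ygi25 zgi21) (kgi xgi17 ygi38 zgi3) (kgi xgi9 ygi34 zgi3) (kgi xgi9 ygi36 zgi23) (kgi xgi9 ygi36 zgi21) (kgi xgi9 ygi34 zgi5) (kgi xgi25 ygi47 zgi18) (kgi xgi25 ygi47 zgi17) (kgi xgi21 ygi5 zgi25) (kgi xgi15 ygi39 zgi7) (kgi xgi14 ygi58 zgi13) (kgi xgi25 ygi36 zgi40) (kgi xgi9 ygi34 zgi11) (kgi xgi16 ygi14 zgi20) (kgi xgi16 ygi14 zgi18) (kgi xgi16 ygi16 zgi60) (kgi xgi9 ygi34 zgi15) (kgi xgi25 ygi28 zgi47) (kgi xgi25 ygi28 zgi45) (kgi xgi17 ygi37 zgi0) (kgi xgi18 ygi5 zgi32) (kgi xgi27 ygi25 zgi39) (kgi xgi9 ygi34 zgi17) (kgi xgi15 ygi48 zgi61) (kgi xgi9 ygi38 zgi6) (kgi xgi9 ygi34 zgi23) (kgi xgi16 ygi16 zgi0) (kgi xgi9 ygi34 zgi21) (kgi xgi23 ygi42 zgi25) (kgi xgi26 ygi0 zgi24) (kgi xgi24 ygi44 zgi33) (kgi xgi27 ygi25 zgi45)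 (kgi xgi27 ygi25 zgi36) (kgi xgi15 ygi49 zgi0) (kgi xgi9 ygi34 zgi24) (kgi xgi20 ygi15 zgi32) (kgi xgi21 ygi53 zgi41) (kgi xgi26 ygi11 zgi40) (kgi xgi17 ygi30 zgi29) (kgi xgi25 ygi1 zgi46) (kgi xgi18 ygi6 zgi59) (kgi xgi22 ygi27 zgi56) (kgi xgi27 ygi25 zgi54) (kgi xgi16 ygi1 zgi24) (kgi xgi21 ygi57 zgi13) (kgi xgi26 ygi12 zgi22) (kgi xgi15 ygi46 zgi48) (kgi xgi17 ygi39 zgi6) (kgi xgi27 ygi25 zgi58) (kgi xgi25 ygi28 zgi54) (kgi xgi27 ygi26 zgi1) (kgi xgi9 ygi34 zgi30) (kgi xgi27 ygi24 zgi47) (kgi xgi27 ygi26 zgi6) (kgi xgi17 ygi40 zgi53) (kgi xgi9 ygi34 zgi31) (kgi xgi27 ygi26 zgi3)) (@D3.rec (fun _ => Pt) (kgi xgi27 ygi26 zgi14) (kgi xgi27 ygi26 zgi0) (kgi xgi27 ygi24 zgi51) (kgi xgi17 ygi41 zgi29) (kgi xgi9 ygi34 zgi33) (kgi xgi27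 ygi24 zgi43) (kgi xgi15 ygi11 zgi18) (kgi xgi27 ygi24 zgi41) (kgi xgi23 ygi1 zgi54) (kgi xgi22 ygi27 zgi53) (kgi xgi17 ygi41 zgi50) (kgi xgi9 ygi34 zgi36) (kgi xgi26 ygi4 zgi39) (kgi xgi25 ygi46 zgi42) (kgi xgi16 ygi17 zgi1) (kgi xgi19 ygi0 zgi45) (kgi xgi9 ygi52 zgi7) (kgi xgi9 ygi53 zgi54) (kgi xgi9 ygi34 zgi42) (kgi xgi9 ygi53 zgi27) (kgi xgi18 ygi5 zgi0) (kgi xgi26 ygi14 zgi60) (kgi xgi9 ygi34 zgi46) (kgi xgi24 ygi52 zgi26) (kgi xgi26 ygi1 zgi18) (kgi xgi14 ygi24 zgi42) (kgi xgi13 ygi25 zgi8) (kgi xgi15 ygi23 zgi18) (kgi xgi9 ygi34 zgi51) (kgi xgi15 ygi34 zgi46) (kgi xgi15 ygi34 zgi44) (kgi xgi12 ygi30 zgi37) (kgi xgi24 ygi32 zgi39) (kgi xgi27 ygi26 zgi39) (kgi xgi25 ygi38 zgi21) (kgi xgi17 ygi36 zgi45) (kgi xgi16 ygi20 zgi8)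 (kgi xgi9 ygi39 zgi14) (kgi xgi17 ygi41 zgi31) (kgi xgi13 ygi52 zgi59) (kgi xgi9 ygi34 zgi58) (kgi xgi27 ygi24 zgi38) (kgi xgi25 ygi0 zgi30) (kgi xgi27 ygi26 zgi48) (kgi xgi9 ygi34 zgi59) (kgi xgi24 ygi43 zgi7) (kgi xgi23 ygi22 zgi15) (kgi xgi22 ygi8 zgi8) (kgi xgi9 ygi34 zgi60) (kgi xgi14 ygi57 zgi1) (kgi xgi18 ygi6 zgi57) (kgi xgi26 ygi6 zgi24) (kgi xgi26 ygi16 zgi39) (kgi xgi9 ygi35 zgi1) (kgi xgi14 ygi46 zgi29) (kgi xgi27 ygi24 zgi52) (kgi xgi15 ygi6 zgi42) (kgi xgi19 ygi27 zgi60) (kgi xgi9 ygi35 zgi6) (kgi xgi14 ygi57 zgi0) (kgi xgi14 ygi56 zgi60) (kgi xgi18 ygi6 zgi50)) (@D3.rec (fun _ => Pt) (kgi xgi16 ygi18 zgi49) (kgi xgi9 ygi37 zgi14) (kgi xgi16 ygi6 zgi61) (kgi xgi16 ygi18 zgi43) (kgi xgi15 ygi6 zgi54) (kgi xgi15 ygi47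 zgi1) (kgi xgi17 ygi37 zgi48) (kgi xgi26 ygi14 zgi0) (kgi xgi9 ygi35 zgi11) (kgi xgi25 ygi58 zgi47) (kgi xgi25 ygi35 zgi54) (kgi xgi9 ygi35 zgi58) (kgi xgi9 ygi35 zgi12) (kgi xgi25 ygi45 zgi27) (kgi xgi26 ygi14 zgi10) (kgi xgi27 ygi27 zgi0) (kgi xgi27 ygi27 zgi11) (kgi xgi16 ygi14 zgi38) (kgi xgi9 ygi35 zgi15) (kgi xgi27 ygi24 zgi61) (kgi xgi27 ygi27 zgi17) (kgi xgi25 ygi0 zgi28) (kgi xgi20 ygi3 zgi59) (kgi xgi12 ygi50 zgi23) (kgi xgi20 ygi4 zgi0) (kgi xgi16 ygi18 zgi48) (kgi xgi25 ygi15 zgi27) (kgi xgi25 ygi15 zgi17) (kgi xgi15 ygi19 zgi1) (kgi xgi16 ygi17 zgi23) (kgi xgi20 ygi4 zgi3) (kgi xgi20 ygi3 zgi39) (kgi xgi20 ygi4 zgi5) (kgi xgi17 ygi44 zgi50) (kgi xgi9 ygi35 zgi31) (kgi xgi9 ygi35 zgi28) (kgi xgi9 ygi35 zgi25) (kgi xgi15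 ygi53 zgi37) (kgi xgi27 ygi27 zgi26) (kgi xgi16 ygi3 zgi32) (kgi xgi24 ygi32 zgi26) (kgi xgi9 ygi35 zgi30) (kgi xgi16 ygi3 zgi33) (kgi xgi9 ygi55 zgi17) (kgi xgi26 ygi10 zgi57) (kgi xgi18 ygi27 zgi45) (kgi xgi9 ygi37 zgi11) (kgi xgi27 ygi27 zgi28) (kgi xgi17 ygi38 zgi35) (kgi xgi25 ygi1 zgi48) (kgi xgi17 ygi40 zgi31) (kgi xgi26 ygi16 zgi33) (kgi xgi15 ygi14 zgi52) (kgi xgi25 ygi0 zgi27) (kgi xgi14 ygi57 zgi60) (kgi xgi10 ygi8 zgi4) (kgi xgi26 ygi6 zgi42) (kgi xgi27 ygi27 zgi34) (kgi xgi14 ygi4 zgi34) (kgi xgi24 ygi54 zgi42) (kgi xgi26 ygi10 zgi45) (kgi xgi9 ygi36 zgi15)) (@D3.rec (fun _ => Pt) (kgi xgi17 ygi44 zgi47) (kgi xgi26 ygi10 zgi30) (kgi xgi26 ygi10 zgi56) (kgi xgi26 ygi11 zgi22) (kgi xgi26 ygi11 zgi35) (kgi xgi9 ygi35 zgi49)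 (kgi xgi26 ygi11 zgi34) (kgi xgi27 ygi27 zgi2) (kgi xgi9 ygi37 zgi20) (kgi xgi17 ygi13 zgi42) (kgi xgi21 ygi10 zgi4) (kgi xgi17 ygi37 zgi37) (kgi xgi27 ygi25 zgi37) (kgi xgi25 ygi9 zgi56) (kgi xgi25 ygi9 zgi49) (kgi xgi11 ygi9 zgi41) (kgi xgi27 ygi25 zgi13) (kgi xgi9 ygi36 zgi17) (kgi xgi9 ygi36 zgi2) (kgi xgi25 ygi28 zgi51) (kgi xgi9 ygi59 zgi48) (kgi xgi25 ygi32 zgi43) (kgi xgi26 ygi14 zgi6) (kgi xgi25 ygi32 zgi42) (kgi xgi27 ygi27 zgi47) (kgi xgi9 ygi35 zgi59) (kgi xgi27 ygi27 zgi59) (kgi xgi15 ygi12 zgi14) (kgi xgi27 ygi27 zgi57) (kgi xgi24 ygi59 zgi7) (kgi xgi25 ygi10 zgi49) (kgi xgi15 ygi12 zgi46) (kgi xgi9 ygi36 zgi9) (kgi xgi17 ygi43 zgi0) (kgi xgi25 ygi39 zgi33) (kgi xgi25 ygi32 zgi41) (kgi xgi27 ygi24 zgi57) (kgi xgi27 ygi28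 zgi9) (kgi xgi27 ygi27 zgi53) (kgi xgi9 ygi36 zgi3) (kgi xgi27 ygi28 zgi13) (kgi xgi15 ygi43 zgi10) (kgi xgi12 ygi50 zgi3) (kgi xgi25 ygi53 zgi54) (kgi xgi27 ygi27 zgi42) (kgi xgi27 ygi28 zgi12) (kgi xgi27 ygi27 zgi41) (kgi xgi9 ygi36 zgi8) (kgi xgi9 ygi36 zgi13) (kgi xgi27 ygi28 zgi20) (kgi xgi17 ygi40 zgi55) (kgi xgi26 ygi11 zgi29) (kgi xgi17 ygi40 zgi50) (kgi xgi27 ygi28 zgi24) (kgi xgi25 ygi58 zgi42) (kgi xgi17 ygi41 zgi3) (kgi xgi25 ygi28 zgi52) (kgi xgi9 ygi36 zgi11) (kgi xgi24 ygi56 zgi5) (kgi xgi27 ygi28 zgi31) (kgi xgi24 ygi56 zgi3) (kgi xgi22 ygi8 zgi13)) (@D3.rec (fun _ => Pt) (kgi xgi27 ygi28 zgi19) (kgi xgi9 ygi36 zgi12) (kgi xgi27 ygi28 zgi21) (kgi xgi17 ygi40 zgi52) (kgi xgi15 ygi7 zgi26) (kgi xgi9 ygi36 zgi14) (kgi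 xgi17 ygi42 zgi60) (kgi xgi18 ygi4 zgi51) (kgi xgi26 ygi11 zgi23) (kgi xgi24 ygi56 zgi9) (kgi xgi27 ygi28 zgi41) (kgi xgi9 ygi36 zgi16) (kgi xgi25 ygi28 zgi60) (kgi xgi10 ygi9 zgi22) (kgi xgi25 ygi28 zgi58) (kgi xgi9 ygi36 zgi18) (kgi xgi26 ygi11 zgi31) (kgi xgi27 ygi28 zgi47) (kgi xgi9 ygi36 zgi19) (kgi xgi17 ygi37 zgi2) (kgi xgi17 ygi37 zgi3) (kgi xgi27 ygi28 zgi51) (kgi xgi9 ygi36 zgi20) (kgi xgi17 ygi41 zgi32) (kgi xgi27 ygi28 zgi56) (kgi xgi17 ygi41 zgi33) (kgi xgi27 ygi27 zgi40) (kgi xgi26 ygi14 zgi55) (kgi xgi17 ygi41 zgi9) (kgi xgi26 ygi12 zgi8) (kgi xgi27 ygi28 zgi59) (kgi xgi17 ygi36 zgi29) (kgi xgi17 ygi41 zgi22) (kgi xgi9 ygi36 zgi24) (kgi xgi17 ygi41 zgi25) (kgi xgi27 ygi29 zgi10) (kgi xgi9 ygi36 zgi25) (kgi xgi15 ygi7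 zgi3) (kgi xgi18 ygi9 zgi12) (kgi xgi17 ygi37 zgi16) (kgi xgi19 ygi36 zgi9) (kgi xgi18 ygi6 zgi60) (kgi xgi26 ygi12 zgi57) (kgi xgi16 ygi17 zgi2) (kgi xgi17 ygi38 zgi10) (kgi xgi24 ygi45 zgi47) (kgi xgi17 ygi45 zgi14) (kgi xgi16 ygi17 zgi31) (kgi xgi18 ygi6 zgi46) (kgi xgi27 ygi25 zgi2) (kgi xgi24 ygi44 zgi44) (kgi xgi12 ygi18 zgi21) (kgi xgi15 ygi27 zgi16) (kgi xgi15 ygi48 zgi5) (kgi xgi21 ygi34 zgi7) (kgi xgi11 ygi17 zgi37) (kgi xgi16 ygi13 zgi34) (kgi xgi12 ygi1 zgi43) (kgi xgi9 ygi36 zgi41) (kgi xgi11 ygi16 zgi42) (kgi xgi9 ygi36 zgi42) (kgi xgi25 ygi42 zgi35)) (@D3.rec (fun _ => Pt) (kgi xgi27 ygi29 zgi21) (kgi xgi11 ygi19 zgi61) (kgi xgi24 ygi20 zgi40) (kgi xgi20 ygi5 zgi29) (kgi xgi17 ygi35 zgi23) (kgi xgi21 ygi32 zgi1) (kgi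 xgi12 ygi18 zgi20) (kgi xgi27 ygi29 zgi29) (kgi xgi25 ygi20 zgi37) (kgi xgi9 ygi36 zgi47) (kgi xgi20 ygi15 zgi61) (kgi xgi26 ygi5 zgi48) (kgi xgi25 ygi21 zgi1) (kgi xgi17 ygi53 zgi10) (kgi xgi17 ygi44 zgi55) (kgi xgi21 ygi51 zgi1) (kgi xgi25 ygi36 zgi54) (kgi xgi27 ygi29 zgi31) (kgi xgi25 ygi23 zgi16) (kgi xgi16 ygi45 zgi21) (kgi xgi9 ygi36 zgi56) (kgi xgi15 ygi46 zgi22) (kgi xgi22 ygi3 zgi31) (kgi xgi12 ygi56 zgi5) (kgi xgi9 ygi56 zgi11) (kgi xgi9 ygi36 zgi61) (kgi xgi11 ygi17 zgi39) (kgi xgi16 ygi13 zgi32) (kgi xgi23 ygi36 zgi17) (kgi xgi9 ygi37 zgi1) (kgi xgi17 ygi52 zgi14) (kgi xgi16 ygi14 zgi5) (kgi xgi17 ygi16 zgi3) (kgi xgi27 ygi3 zgi49) (kgi xgi9 ygi37 zgi4) (kgi xgi27 ygi29 zgi46) (kgi xgi27 ygi23 zgi48) (kgi xgi25 ygi16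 zgi40) (kgi xgi18 ygi37 zgi27) (kgi xgi21 ygi32 zgi17) (kgi xgi10 ygi2 zgi33) (kgi xgi18 ygi37 zgi18) (kgi xgi21 ygi23 zgi1) (kgi xgi27 ygi26 zgi61) (kgi xgi22 ygi27 zgi57) (kgi xgi17 ygi43 zgi3) (kgi xgi16 ygi14 zgi36) (kgi xgi15 ygi37 zgi58) (kgi xgi25 ygi29 zgi42) (kgi xgi17 ygi43 zgi52) (kgi xgi9 ygi37 zgi15) (kgi xgi25 ygi45 zgi21) (kgi xgi27 ygi27 zgi61) (kgi xgi27 ygi20 zgi31) (kgi xgi12 ygi50 zgi26) (kgi xgi15 ygi58 zgi31) (kgi xgi24 ygi44 zgi7) (kgi xgi17 ygi37 zgi42) (kgi xgi27 ygi28 zgi10) (kgi xgi27 ygi30 zgi0) (kgi xgi17 ygi41 zgi5) (kgi xgi26 ygi15 zgi33)) (@D3.rec (fun _ => Pt) (kgi xgi9 ygi37 zgi25) (kgi xgi17 ygi40 zgi33) (kgi xgi26 ygi18 zgi45) (kgi xgi26 ygi15 zgi21) (kgi xgi17 ygi42 zgi45) (kgi xgi22 ygi8 zgi19)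 (kgi xgi27 ygi30 zgi5) (kgi xgi25 ygi13 zgi59) (kgi xgi19 ygi36 zgi15) (kgi xgi27 ygi30 zgi4) (kgi xgi27 ygi30 zgi13) (kgi xgi11 ygi43 zgi7) (kgi xgi11 ygi43 zgi4) (kgi xgi26 ygi25 zgi42) (kgi xgi11 ygi43 zgi5) (kgi xgi9 ygi37 zgi36) (kgi xgi15 ygi18 zgi13) (kgi xgi15 ygi18 zgi11) (kgi xgi16 ygi13 zgi23) (kgi xgi18 ygi52 zgi37) (kgi xgi15 ygi23 zgi10) (kgi xgi19 ygi45 zgi56) (kgi xgi25 ygi36 zgi41) (kgi xgi24 ygi54 zgi50) (kgi xgi26 ygi6 zgi38) (kgi xgi18 ygi8 zgi12) (kgi xgi16 ygi18 zgi53) (kgi xgi25 ygi11 zgi43) (kgi xgi20 ygi3 zgi38) (kgi xgi26 ygi14 zgi34) (kgi xgi9 ygi37 zgi57) (kgi xgi9 ygi37 zgi55) (kgi xgi17 ygi55 zgi56) (kgi xgi15 ygi43 zgi1) (kgi xgi25 ygi20 zgi35) (kgi xgi15 ygi34 zgi51) (kgi xgi23 ygi37 zgi47) (kgi xgi25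 ygi45 zgi32) (kgi xgi27 ygi29 zgi17) (kgi xgi9 ygi38 zgi26) (kgi xgi16 ygi18 zgi55) (kgi xgi16 ygi14 zgi3) (kgi xgi21 ygi10 zgi12) (kgi xgi16 ygi15 zgi39) (kgi xgi16 ygi6 zgi47) (kgi xgi16 ygi16 zgi47) (kgi xgi27 ygi30 zgi32) (kgi xgi12 ygi26 zgi51) (kgi xgi11 ygi18 zgi4) (kgi xgi27 ygi30 zgi34) (kgi xgi9 ygi38 zgi4) (kgi xgi21 ygi23 zgi30) (kgi xgi21 ygi57 zgi17) (kgi xgi27 ygi4 zgi22) (kgi xgi9 ygi54 zgi12) (kgi xgi16 ygi16 zgi17) (kgi xgi16 ygi16 zgi27) (kgi xgi27 ygi30 zgi42) (kgi xgi15 ygi48 zgi60) (kgi xgi24 ygi54 zgi59) (kgi xgi9 ygi38 zgi28) (kgi xgi9 ygi38 zgi16)) (@D3.rec (fun _ => Pt) (kgi xgi16 ygi15 zgi6) (kgi xgi18 ygi16 zgi36) (kgi xgi14 ygi4 zgi38) (kgi xgi27 ygi1 zgi39) (kgi xgi10 ygi32 zgi1) (kgi xgi9 ygi38 zgi12)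 (kgi xgi21 ygi26 zgi16) (kgi xgi23 ygi20 zgi59) (kgi xgi27 ygi1 zgi42) (kgi xgi27 ygi1 zgi20) (kgi xgi16 ygi16 zgi53) (kgi xgi15 ygi14 zgi56) (kgi xgi17 ygi52 zgi51) (kgi xgi16 ygi16 zgi7) (kgi xgi27 ygi30 zgi59) (kgi xgi9 ygi38 zgi17) (kgi xgi27 ygi31 zgi0) (kgi xgi26 ygi19 zgi12) (kgi xgi21 ygi33 zgi57) (kgi xgi25 ygi27 zgi52) (kgi xgi26 ygi12 zgi61) (kgi xgi27 ygi30 zgi61) (kgi xgi18 ygi26 zgi28) (kgi xgi24 ygi56 zgi21) (kgi xgi15 ygi19 zgi44) (kgi xgi9 ygi38 zgi25) (kgi xgi18 ygi4 zgi2) (kgi xgi25 ygi35 zgi9) (kgi xgi27 ygi31 zgi6) (kgi xgi25 ygi1 zgi8) (kgi xgi9 ygi38 zgi24) (kgi xgi24 ygi56 zgi4) (kgi xgi17 ygi42 zgi56) (kgi xgi24 ygi56 zgi24) (kgi xgi16 ygi15 zgi41) (kgi xgi24 ygi55 zgi22) (kgi xgi22 ygi36 zgi27) (kgi xgi9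 ygi54 zgi13) (kgi xgi16 ygi15 zgi8) (kgi xgi13 ygi10 zgi57) (kgi xgi24 ygi57 zgi41) (kgi xgi16 ygi15 zgi49) (kgi xgi27 ygi27 zgi30) (kgi xgi25 ygi1 zgi11) (kgi xgi27 ygi28 zgi39) (kgi xgi27 ygi31 zgi23) (kgi xgi26 ygi18 zgi26) (kgi xgi16 ygi16 zgi45) (kgi xgi15 ygi14 zgi35) (kgi xgi12 ygi30 zgi36) (kgi xgi16 ygi16 zgi59) (kgi xgi9 ygi38 zgi35) (kgi xgi9 ygi52 zgi42) (kgi xgi18 ygi32 zgi57) (kgi xgi16 ygi19 zgi2) (kgi xgi19 ygi54 zgi25) (kgi xgi16 ygi15 zgi24) (kgi xgi25 ygi39 zgi0) (kgi xgi17 ygi42 zgi36) (kgi xgi26 ygi0 zgi59) (kgi xgi16 ygi7 zgi31) (kgi xgi26 ygi10 zgi42)) (@D3.rec (fun _ => Pt) (kgi xgi21 ygi17 zgi52) (kgi xgi12 ygi3 zgi37) (kgi xgi25 ygi17 zgi21) (kgi xgi9 ygi38 zgi50) (kgi xgi25 ygi44 zgi21) (kgi xgi21 ygi50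 zgi20) (kgi xgi17 ygi41 zgi40) (kgi xgi25 ygi44 zgi25) (kgi xgi24 ygi53 zgi35) (kgi xgi24 ygi45 zgi4) (kgi xgi24 ygi11 zgi24) (kgi xgi20 ygi43 zgi41) (kgi xgi9 ygi38 zgi59) (kgi xgi12 ygi59 zgi60) (kgi xgi26 ygi7 zgi50) (kgi xgi21 ygi8 zgi50) (kgi xgi21 ygi26 zgi24) (kgi xgi24 ygi45 zgi13) (kgi xgi23 ygi36 zgi37) (kgi xgi17 ygi43 zgi5) (kgi xgi24 ygi44 zgi8) (kgi xgi19 ygi19 zgi44) (kgi xgi26 ygi14 zgi24) (kgi xgi9 ygi39 zgi9) (kgi xgi9 ygi39 zgi13) (kgi xgi20 ygi4 zgi14) (kgi xgi16 ygi15 zgi47) (kgi xgi17 ygi40 zgi10) (kgi xgi15 ygi35 zgi29) (kgi xgi27 ygi26 zgi47) (kgi xgi27 ygi30 zgi60) (kgi xgi27 ygi31 zgi57) (kgi xgi25 ygi43 zgi3) (kgi xgi11 ygi7 zgi28) (kgi xgi9 ygi52 zgi59) (kgi xgi9 ygi39 zgi24) (kgi xgi25 ygi23 zgi55) (kgi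 xgi9 ygi57 zgi35) (kgi xgi9 ygi53 zgi44) (kgi xgi9 ygi53 zgi42) (kgi xgi9 ygi39 zgi26) (kgi xgi12 ygi6 zgi31) (kgi xgi20 ygi36 zgi35) (kgi xgi11 ygi13 zgi39) (kgi xgi10 ygi15 zgi3) (kgi xgi15 ygi11 zgi4) (kgi xgi15 ygi11 zgi2) (kgi xgi15 ygi11 zgi23) (kgi xgi18 ygi15 zgi53) (kgi xgi10 ygi14 zgi56) (kgi xgi20 ygi10 zgi43) (kgi xgi9 ygi39 zgi35) (kgi xgi17 ygi47 zgi1) (kgi xgi17 ygi46 zgi61) (kgi xgi18 ygi35 zgi16) (kgi xgi18 ygi31 zgi38) (kgi xgi27 ygi32 zgi13) (kgi xgi9 ygi39 zgi37) (kgi xgi9 ygi55 zgi16) (kgi xgi27 ygi32 zgi18) (kgi xgi9 ygi55 zgi13) (kgi xgi9 ygi39 zgi39)) (@D3.rec (fun _ => Pt) (kgi xgi17 ygi47 zgi11) (kgi xgi17 ygi47 zgi9) (kgi xgi18 ygi33 zgi1) (kgi xgi27 ygi32 zgi28) (kgi xgi27 ygi32 zgi31) (kgi xgi9 ygi39 zgi41)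 (kgi xgi9 ygi57 zgi34) (kgi xgi27 ygi32 zgi38) (kgi xgi9 ygi57 zgi31) (kgi xgi9 ygi39 zgi47) (kgi xgi17 ygi48 zgi20) (kgi xgi17 ygi47 zgi28) (kgi xgi9 ygi42 zgi21) (kgi xgi9 ygi39 zgi45) (kgi xgi17 ygi47 zgi31) (kgi xgi17 ygi47 zgi29) (kgi xgi27 ygi32 zgi54) (kgi xgi18 ygi30 zgi56) (kgi xgi27 ygi32 zgi59) (kgi xgi27 ygi33 zgi0) (kgi xgi9 ygi57 zgi36) (kgi xgi9 ygi39 zgi48) (kgi xgi17 ygi47 zgi23) (kgi xgi17 ygi47 zgi22) (kgi xgi27 ygi33 zgi4) (kgi xgi26 ygi4 zgi31) (kgi xgi17 ygi47 zgi19) (kgi xgi9 ygi39 zgi51) (kgi xgi9 ygi39 zgi53) (kgi xgi11 ygi23 zgi15) (kgi xgi27 ygi32 zgi43) (kgi xgi9 ygi39 zgi55) (kgi xgi27 ygi32 zgi46) (kgi xgi11 ygi23 zgi18) (kgi xgi18 ygi33 zgi42) (kgi xgi27 ygi33 zgi16) (kgi xgi25 ygi2 zgi61) (kgi xgi24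 ygi48 zgi2) (kgi xgi26 ygi19 zgi3) (kgi xgi27 ygi32 zgi50) (kgi xgi16 ygi19 zgi36) (kgi xgi27 ygi33 zgi27) (kgi xgi24 ygi54 zgi7) (kgi xgi20 ygi0 zgi50) (kgi xgi17 ygi47 zgi54) (kgi xgi19 ygi0 zgi29) (kgi xgi9 ygi39 zgi61) (kgi xgi9 ygi56 zgi25) (kgi xgi27 ygi33 zgi34) (kgi xgi9 ygi57 zgi23) (kgi xgi15 ygi48 zgi47) (kgi xgi9 ygi58 zgi34) (kgi xgi20 ygi8 zgi23) (kgi xgi10 ygi1 zgi47) (kgi xgi10 ygi7 zgi56) (kgi xgi10 ygi8 zgi38) (kgi xgi10 ygi8 zgi36) (kgi xgi9 ygi40 zgi4) (kgi xgi18 ygi49 zgi30) (kgi xgi16 ygi20 zgi51) (kgi xgi15 ygi50 zgi51) (kgi xgi9 ygi40 zgi7)) (@D3.rec (fun _ => Pt) (kgi xgi17 ygi45 zgi53) (kgi xgi17 ygi45 zgi51) (kgi xgi18 ygi13 zgi8) (kgi xgi27 ygi33 zgi55) (kgi xgi23 ygi51 zgi39) (kgi xgi9 ygi40 zgi9) (kgi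 xgi27 ygi34 zgi0) (kgi xgi10 ygi11 zgi6) (kgi xgi10 ygi24 zgi56) (kgi xgi9 ygi40 zgi12) (kgi xgi17 ygi46 zgi1) (kgi xgi17 ygi45 zgi61) (kgi xgi18 ygi9 zgi21) (kgi xgi27 ygi34 zgi10) (kgi xgi27 ygi34 zgi11) (kgi xgi9 ygi40 zgi14) (kgi xgi10 ygi12 zgi30) (kgi xgi18 ygi31 zgi36) (kgi xgi10 ygi12 zgi27) (kgi xgi9 ygi40 zgi23) (kgi xgi15 ygi2 zgi15) (kgi xgi17 ygi46 zgi26) (kgi xgi9 ygi40 zgi18) (kgi xgi17 ygi46 zgi21) (kgi xgi10 ygi10 zgi52) (kgi xgi26 ygi16 zgi20) (kgi xgi27 ygi34 zgi28) (kgi xgi27 ygi32 zgi57) (kgi xgi17 ygi46 zgi9) (kgi xgi9 ygi40 zgi21) (kgi xgi17 ygi46 zgi15) (kgi xgi17 ygi46 zgi13) (kgi xgi27 ygi34 zgi37) (kgi xgi14 ygi15 zgi1) (kgi xgi27 ygi34 zgi41) (kgi xgi18 ygi31 zgi45) (kgi xgi10 ygi12 zgi32) (kgi xgi9 ygi40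 zgi24) (kgi xgi9 ygi40 zgi26) (kgi xgi27 ygi34 zgi47) (kgi xgi20 ygi11 zgi45) (kgi xgi10 ygi11 zgi16) (kgi xgi18 ygi13 zgi41) (kgi xgi9 ygi40 zgi28) (kgi xgi10 ygi12 zgi38) (kgi xgi21 ygi9 zgi22) (kgi xgi10 ygi11 zgi19) (kgi xgi27 ygi34 zgi57) (kgi xgi9 ygi40 zgi27) (kgi xgi27 ygi35 zgi0) (kgi xgi26 ygi17 zgi19) (kgi xgi27 ygi34 zgi34) (kgi xgi27 ygi35 zgi5) (kgi xgi20 ygi6 zgi8) (kgi xgi9 ygi40 zgi32) (kgi xgi17 ygi46 zgi44) (kgi xgi16 ygi35 zgi20) (kgi xgi19 ygi2 zgi28) (kgi xgi9 ygi40 zgi34) (kgi xgi10 ygi9 zgi39) (kgi xgi27 ygi35 zgi17) (kgi xgi10 ygi11 zgi39)) (@D3.rec (fun _ => Pt) (kgi xgi16 ygi7 zgi59) (kgi xgi10 ygi12 zgi33) (kgi xgi9 ygi40 zgi36) (kgi xgi9 ygi41 zgi55) (kgi xgi9 ygi41 zgi53) (kgi xgi18 ygi35 zgi14) (kgi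 xgi19 ygi15 zgi49) (kgi xgi25 ygi17 zgi43) (kgi xgi9 ygi40 zgi39) (kgi xgi9 ygi41 zgi27) (kgi xgi9 ygi41 zgi25) (kgi xgi26 ygi39 zgi41) (kgi xgi25 ygi17 zgi5) (kgi xgi18 ygi36 zgi23) (kgi xgi9 ygi40 zgi42) (kgi xgi9 ygi42 zgi30) (kgi xgi9 ygi57 zgi19) (kgi xgi22 ygi9 zgi38) (kgi xgi19 ygi18 zgi56) (kgi xgi9 ygi42 zgi15) (kgi xgi9 ygi43 zgi25) (kgi xgi10 ygi3 zgi39) (kgi xgi9 ygi40 zgi48) (kgi xgi27 ygi35 zgi35) (kgi xgi9 ygi42 zgi36) (kgi xgi9 ygi40 zgi53) (kgi xgi9 ygi40 zgi51) (kgi xgi9 ygi42 zgi48) (kgi xgi9 ygi42 zgi46) (kgi xgi19 ygi11 zgi3) (kgi xgi24 ygi21 zgi56) (kgi xgi9 ygi42 zgi40) (kgi xgi9 ygi40 zgi54) (kgi xgi9 ygi40 zgi56) (kgi xgi24 ygi50 zgi37) (kgi xgi19 ygi17 zgi13) (kgi xgi9 ygi40 zgi58) (kgi xgi19 ygi17 zgi4)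 (kgi xgi26 ygi37 zgi53) (kgi xgi27 ygi35 zgi50) (kgi xgi10 ygi42 zgi15) (kgi xgi10 ygi42 zgi16) (kgi xgi10 ygi42 zgi14) (kgi xgi10 ygi22 zgi51) (kgi xgi21 ygi23 zgi39) (kgi xgi26 ygi16 zgi27) (kgi xgi11 ygi3 zgi14) (kgi xgi10 ygi20 zgi23) (kgi xgi9 ygi41 zgi1) (kgi xgi16 ygi42 zgi24) (kgi xgi25 ygi8 zgi53) (kgi xgi20 ygi53 zgi61) (kgi xgi20 ygi57 zgi24) (kgi xgi25 ygi44 zgi18) (kgi xgi11 ygi8 zgi49) (kgi xgi11 ygi8 zgi47) (kgi xgi9 ygi41 zgi8) (kgi xgi25 ygi31 zgi15) (kgi xgi19 ygi19 zgi52) (kgi xgi23 ygi9 zgi44) (kgi xgi21 ygi0 zgi59) (kgi xgi9 ygi41 zgi11)) (@D3.rec (fun _ => Pt) (kgi xgi15 ygi53 zgi25) (kgi xgi9 ygi41 zgi13) (kgi xgi10 ygi55 zgi51) (kgi xgi19 ygi10 zgi31) (kgi xgi10 ygi55 zgi48) (kgi xgi27 ygi36 zgi11) (kgi xgi18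 ygi20 zgi30) (kgi xgi9 ygi41 zgi15) (kgi xgi11 ygi4 zgi45) (kgi xgi15 ygi25 zgi41) (kgi xgi11 ygi4 zgi42) (kgi xgi19 ygi10 zgi53) (kgi xgi9 ygi41 zgi19) (kgi xgi19 ygi10 zgi57) (kgi xgi19 ygi10 zgi55) (kgi xgi27 ygi36 zgi19) (kgi xgi27 ygi36 zgi22) (kgi xgi20 ygi38 zgi15) (kgi xgi15 ygi25 zgi21) (kgi xgi11 ygi4 zgi47) (kgi xgi9 ygi41 zgi22) (kgi xgi18 ygi22 zgi22) (kgi xgi19 ygi33 zgi20) (kgi xgi27 ygi36 zgi29) (kgi xgi16 ygi40 zgi57) (kgi xgi15 ygi36 zgi35) (kgi xgi24 ygi19 zgi9) (kgi xgi19 ygi32 zgi10) (kgi xgi17 ygi50 zgi46) (kgi xgi17 ygi6 zgi4) (kgi xgi26 ygi39 zgi39) (kgi xgi27 ygi36 zgi41) (kgi xgi9 ygi41 zgi28) (kgi xgi27 ygi35 zgi31) (kgi xgi27 ygi36 zgi45) (kgi xgi18 ygi50 zgi60) (kgi xgi9 ygi41 zgi29) (kgi xgi14 ygi32 zgi33)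 (kgi xgi19 ygi11 zgi7) (kgi xgi27 ygi36 zgi40) (kgi xgi27 ygi36 zgi16) (kgi xgi10 ygi42 zgi24) (kgi xgi9 ygi41 zgi31) (kgi xgi27 ygi35 zgi27) (kgi xgi27 ygi36 zgi32) (kgi xgi19 ygi15 zgi45) (kgi xgi14 ygi47 zgi45) (kgi xgi24 ygi33 zgi30) (kgi xgi20 ygi52 zgi60) (kgi xgi15 ygi25 zgi34) (kgi xgi17 ygi52 zgi43) (kgi xgi9 ygi41 zgi34) (kgi xgi14 ygi47 zgi37) (kgi xgi11 ygi51 zgi43) (kgi xgi25 ygi17 zgi42) (kgi xgi10 ygi35 zgi42) (kgi xgi10 ygi11 zgi52) (kgi xgi9 ygi41 zgi38) (kgi xgi15 ygi28 zgi57) (kgi xgi27 ygi37 zgi2) (kgi xgi25 ygi37 zgi39) (kgi xgi15 ygi28 zgi54)) (@D3.rec (fun _ => Pt) (kgi xgi9 ygi41 zgi40) (kgi xgi15 ygi28 zgi32) (kgi xgi15 ygi28 zgi30) (kgi xgi27 ygi37 zgi12) (kgi xgi9 ygi41 zgi44) (kgi xgi13 ygi45 zgi52) (kgi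 xgi15 ygi51 zgi23) (kgi xgi22 ygi23 zgi4) (kgi xgi19 ygi57 zgi4) (kgi xgi9 ygi41 zgi49) (kgi xgi24 ygi49 zgi7) (kgi xgi19 ygi20 zgi27) (kgi xgi27 ygi37 zgi21) (kgi xgi19 ygi30 zgi61) (kgi xgi27 ygi37 zgi24) (kgi xgi19 ygi30 zgi10) (kgi xgi17 ygi48 zgi16) (kgi xgi25 ygi17 zgi18) (kgi xgi27 ygi35 zgi24) (kgi xgi17 ygi31 zgi26) (kgi xgi9 ygi41 zgi56) (kgi xgi26 ygi15 zgi4) (kgi xgi9 ygi41 zgi57) (kgi xgi12 ygi14 zgi33) (kgi xgi9 ygi41 zgi58) (kgi xgi24 ygi19 zgi11) (kgi xgi19 ygi13 zgi14) (kgi xgi19 ygi40 zgi32) (kgi xgi12 ygi37 zgi38) (kgi xgi25 ygi16 zgi59) (kgi xgi27 ygi37 zgi32) (kgi xgi17 ygi5 zgi14) (kgi xgi9 ygi41 zgi61) (kgi xgi22 ygi21 zgi48) (kgi xgi20 ygi51 zgi44) (kgi xgi18 ygi2 zgi39) (kgi xgi18 ygi28 zgi35) (kgi xgi26 ygi5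 zgi26) (kgi xgi9 ygi42 zgi6) (kgi xgi18 ygi50 zgi59) (kgi xgi18 ygi50 zgi57) (kgi xgi9 ygi44 zgi6) (kgi xgi15 ygi19 zgi14) (kgi xgi25 ygi17 zgi56) (kgi xgi24 ygi48 zgi56) (kgi xgi16 ygi39 zgi45) (kgi xgi17 ygi49 zgi24) (kgi xgi9 ygi42 zgi11) (kgi xgi21 ygi7 zgi46) (kgi xgi27 ygi37 zgi45) (kgi xgi27 ygi37 zgi38) (kgi xgi18 ygi41 zgi44) (kgi xgi10 ygi3 zgi43) (kgi xgi27 ygi37 zgi48) (kgi xgi9 ygi42 zgi14) (kgi xgi13 ygi53 zgi45) (kgi xgi18 ygi39 zgi26) (kgi xgi27 ygi37 zgi39) (kgi xgi15 ygi33 zgi15) (kgi xgi15 ygi36 zgi32) (kgi xgi27 ygi35 zgi44) (kgi xgi13 ygi0 zgi11)) (@D3.rec (fun _ => Pt) (kgi xgi9 ygi42 zgi19) (kgi xgi27 ygi32 zgi37) (kgi xgi19 ygi23 zgi26) (kgi xgi26 ygi19 zgi60) (kgi xgi18 ygi9 zgi10) (kgi xgi27 ygi37 zgi59)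 (kgi xgi25 ygi34 zgi10) (kgi xgi9 ygi42 zgi24) (kgi xgi15 ygi51 zgi36) (kgi xgi15 ygi51 zgi34) (kgi xgi25 ygi47 zgi15) (kgi xgi21 ygi32 zgi29) (kgi xgi17 ygi25 zgi12) (kgi xgi18 ygi54 zgi6) (kgi xgi12 ygi50 zgi31) (kgi xgi24 ygi32 zgi57) (kgi xgi15 ygi52 zgi11) (kgi xgi17 ygi50 zgi16) (kgi xgi20 ygi16 zgi42) (kgi xgi9 ygi42 zgi33) (kgi xgi9 ygi42 zgi34) (kgi xgi17 ygi6 zgi10) (kgi xgi21 ygi50 zgi14) (kgi xgi18 ygi39 zgi15) (kgi xgi18 ygi39 zgi16) (kgi xgi21 ygi44 zgi4) (kgi xgi24 ygi33 zgi0) (kgi xgi17 ygi4 zgi21) (kgi xgi9 ygi42 zgi38) (kgi xgi27 ygi35 zgi36) (kgi xgi27 ygi38 zgi8) (kgi xgi21 ygi41 zgi36) (kgi xgi27 ygi35 zgi51) (kgi xgi11 ygi49 zgi3) (kgi xgi20 ygi55 zgi56) (kgi xgi11 ygi6 zgi3) (kgi xgi9 ygi42 zgi44) (kgi xgi15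 ygi28 zgi10) (kgi xgi24 ygi52 zgi2) (kgi xgi24 ygi51 zgi6) (kgi xgi15 ygi28 zgi7) (kgi xgi24 ygi32 zgi60) (kgi xgi9 ygi43 zgi11) (kgi xgi25 ygi17 zgi55) (kgi xgi15 ygi9 zgi34) (kgi xgi23 ygi43 zgi20) (kgi xgi26 ygi18 zgi24) (kgi xgi10 ygi57 zgi44) (kgi xgi19 ygi11 zgi0) (kgi xgi15 ygi48 zgi25) (kgi xgi18 ygi2 zgi46) (kgi xgi27 ygi38 zgi27) (kgi xgi24 ygi22 zgi36) (kgi xgi9 ygi42 zgi50) (kgi xgi27 ygi35 zgi40) (kgi xgi27 ygi38 zgi32) (kgi xgi27 ygi38 zgi34) (kgi xgi24 ygi21 zgi58) (kgi xgi23 ygi13 zgi26) (kgi xgi9 ygi42 zgi53) (kgi xgi17 ygi13 zgi11) (kgi xgi10 ygi2 zgi39)) (@D3.rec (fun _ => Pt) (kgi xgi27 ygi38 zgi38) (kgi xgi16 ygi6 zgi52) (kgi xgi25 ygi12 zgi54) (kgi xgi9 ygi43 zgi3) (kgi xgi23 ygi58 zgi47) (kgi xgi14 ygi58 zgi29)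 (kgi xgi16 ygi21 zgi5) (kgi xgi9 ygi43 zgi0) (kgi xgi26 ygi55 zgi25) (kgi xgi27 ygi38 zgi41) (kgi xgi12 ygi35 zgi18) (kgi xgi18 ygi12 zgi51) (kgi xgi17 ygi33 zgi54) (kgi xgi20 ygi54 zgi0) (kgi xgi17 ygi42 zgi29) (kgi xgi12 ygi15 zgi25) (kgi xgi18 ygi14 zgi1) (kgi xgi26 ygi39 zgi35) (kgi xgi27 ygi35 zgi38) (kgi xgi27 ygi31 zgi10) (kgi xgi17 ygi54 zgi5) (kgi xgi18 ygi13 zgi46) (kgi xgi9 ygi43 zgi15) (kgi xgi10 ygi32 zgi13) (kgi xgi10 ygi32 zgi14) (kgi xgi16 ygi58 zgi16) (kgi xgi10 ygi42 zgi27) (kgi xgi18 ygi13 zgi57) (kgi xgi9 ygi43 zgi19) (kgi xgi27 ygi35 zgi39) (kgi xgi17 ygi8 zgi53) (kgi xgi21 ygi23 zgi51) (kgi xgi11 ygi48 zgi52) (kgi xgi17 ygi48 zgi53) (kgi xgi27 ygi36 zgi4) (kgi xgi26 ygi39 zgi42) (kgi xgi27 ygi38 zgi53) (kgi xgi21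 ygi43 zgi48) (kgi xgi9 ygi43 zgi24) (kgi xgi17 ygi49 zgi50) (kgi xgi18 ygi45 zgi32) (kgi xgi12 ygi17 zgi59) (kgi xgi15 ygi47 zgi60) (kgi xgi27 ygi38 zgi54) (kgi xgi18 ygi27 zgi61) (kgi xgi15 ygi54 zgi17) (kgi xgi26 ygi44 zgi32) (kgi xgi25 ygi51 zgi0) (kgi xgi25 ygi4 zgi24) (kgi xgi15 ygi21 zgi61) (kgi xgi27 ygi38 zgi59) (kgi xgi17 ygi43 zgi61) (kgi xgi27 ygi37 zgi16) (kgi xgi18 ygi34 zgi32) (kgi xgi18 ygi35 zgi1) (kgi xgi26 ygi4 zgi20) (kgi xgi17 ygi51 zgi19) (kgi xgi18 ygi17 zgi29) (kgi xgi9 ygi43 zgi46) (kgi xgi16 ygi12 zgi27) (kgi xgi16 ygi12 zgi26) (kgi xgi14 ygi37 zgi37)) (@D3.rec (fun _ => Pt) (kgi xgi26 ygi10 zgi17) (kgi xgi9 ygi43 zgi48) (kgi xgi23 ygi25 zgi17) (kgi xgi27 ygi39 zgi9) (kgi xgi21 ygi30 zgi48) (kgi xgi14 ygi46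 zgi42) (kgi xgi15 ygi29 zgi43) (kgi xgi17 ygi42 zgi18) (kgi xgi14 ygi22 zgi0) (kgi xgi26 ygi6 zgi31) (kgi xgi25 ygi34 zgi60) (kgi xgi18 ygi2 zgi57) (kgi xgi10 ygi1 zgi10) (kgi xgi24 ygi44 zgi60) (kgi xgi20 ygi24 zgi38) (kgi xgi13 ygi21 zgi26) (kgi xgi27 ygi39 zgi18) (kgi xgi10 ygi49 zgi14) (kgi xgi18 ygi1 zgi58) (kgi xgi19 ygi21 zgi0) (kgi xgi19 ygi48 zgi58) (kgi xgi19 ygi43 zgi30) (kgi xgi9 ygi44 zgi4) (kgi xgi19 ygi21 zgi2) (kgi xgi24 ygi47 zgi37) (kgi xgi12 ygi5 zgi41) (kgi xgi27 ygi37 zgi37) (kgi xgi18 ygi41 zgi52) (kgi xgi10 ygi39 zgi8) (kgi xgi21 ygi54 zgi24) (kgi xgi19 ygi43 zgi15) (kgi xgi20 ygi28 zgi7) (kgi xgi24 ygi58 zgi19) (kgi xgi11 ygi9 zgi53) (kgi xgi19 ygi49 zgi39) (kgi xgi9 ygi44 zgi16) (kgi xgi11 ygi9 zgi55) (kgi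 xgi9 ygi44 zgi17) (kgi xgi17 ygi58 zgi35) (kgi xgi21 ygi49 zgi34) (kgi xgi18 ygi38 zgi23) (kgi xgi19 ygi20 zgi57) (kgi xgi9 ygi44 zgi23) (kgi xgi19 ygi34 zgi28) (kgi xgi20 ygi25 zgi15) (kgi xgi14 ygi33 zgi4) (kgi xgi19 ygi39 zgi58) (kgi xgi26 ygi24 zgi2) (kgi xgi19 ygi26 zgi18) (kgi xgi15 ygi18 zgi19) (kgi xgi14 ygi37 zgi43) (kgi xgi14 ygi37 zgi42) (kgi xgi17 ygi1 zgi46) (kgi xgi22 ygi9 zgi48) (kgi xgi27 ygi39 zgi23) (kgi xgi20 ygi28 zgi14) (kgi xgi9 ygi44 zgi48) (kgi xgi16 ygi8 zgi32) (kgi xgi16 ygi8 zgi30) (kgi xgi25 ygi29 zgi29) (kgi xgi26 ygi6 zgi23) (kgi xgi27 ygi25 zgi35)) (@D3.rec (fun _ => Pt) (kgi xgi21 ygi58 zgi21) (kgi xgi16 ygi17 zgi7) (kgi xgi27 ygi24 zgi45) (kgi xgi9 ygi44 zgi52) (kgi xgi16 ygi18 zgi26) (kgi xgi27 ygi39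 zgi33) (kgi xgi27 ygi39 zgi34) (kgi xgi9 ygi44 zgi53) (kgi xgi25 ygi1 zgi30) (kgi xgi27 ygi25 zgi60) (kgi xgi16 ygi18 zgi36) (kgi xgi27 ygi39 zgi40) (kgi xgi16 ygi18 zgi33) (kgi xgi24 ygi36 zgi8) (kgi xgi18 ygi6 zgi51) (kgi xgi9 ygi44 zgi56) (kgi xgi16 ygi20 zgi12) (kgi xgi26 ygi13 zgi39) (kgi xgi16 ygi20 zgi9) (kgi xgi16 ygi19 zgi33) (kgi xgi27 ygi39 zgi55) (kgi xgi27 ygi39 zgi57) (kgi xgi20 ygi19 zgi5) (kgi xgi26 ygi32 zgi42) (kgi xgi9 ygi44 zgi60) (kgi xgi24 ygi28 zgi28) (kgi xgi27 ygi39 zgi54) (kgi xgi9 ygi44 zgi61) (kgi xgi16 ygi18 zgi30) (kgi xgi16 ygi17 zgi28) (kgi xgi27 ygi40 zgi10) (kgi xgi9 ygi53 zgi53) (kgi xgi15 ygi7 zgi22) (kgi xgi15 ygi14 zgi3) (kgi xgi20 ygi21 zgi37) (kgi xgi23 ygi32 zgi45) (kgi xgi15 ygi7 zgi42) (kgi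 xgi27 ygi40 zgi16) (kgi xgi16 ygi17 zgi39) (kgi xgi9 ygi45 zgi6) (kgi xgi16 ygi17 zgi22) (kgi xgi9 ygi53 zgi50) (kgi xgi16 ygi17 zgi19) (kgi xgi15 ygi7 zgi13) (kgi xgi22 ygi41 zgi58) (kgi xgi27 ygi40 zgi24) (kgi xgi13 ygi29 zgi21) (kgi xgi9 ygi45 zgi11) (kgi xgi12 ygi49 zgi34) (kgi xgi9 ygi46 zgi18) (kgi xgi9 ygi50 zgi48) (kgi xgi21 ygi29 zgi34) (kgi xgi14 ygi2 zgi61) (kgi xgi26 ygi50 zgi47) (kgi xgi21 ygi37 zgi36) (kgi xgi9 ygi45 zgi17) (kgi xgi26 ygi19 zgi44) (kgi xgi27 ygi13 zgi27) (kgi xgi16 ygi43 zgi44) (kgi xgi27 ygi40 zgi29) (kgi xgi11 ygi14 zgi43) (kgi xgi9 ygi45 zgi21)) (@D3.rec (fun _ => Pt) (kgi xgi11 ygi11 zgi59) (kgi xgi11 ygi11 zgi57) (kgi xgi24 ygi10 zgi17) (kgi xgi16 ygi3 zgi14) (kgi xgi14 ygi6 zgi16) (kgi xgi26 ygi32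 zgi25) (kgi xgi12 ygi7 zgi4) (kgi xgi22 ygi51 zgi3) (kgi xgi12 ygi49 zgi29) (kgi xgi26 ygi28 zgi24) (kgi xgi11 ygi12 zgi60) (kgi xgi21 ygi12 zgi24) (kgi xgi9 ygi45 zgi37) (kgi xgi27 ygi40 zgi32) (kgi xgi11 ygi12 zgi40) (kgi xgi9 ygi45 zgi39) (kgi xgi20 ygi22 zgi17) (kgi xgi20 ygi13 zgi49) (kgi xgi9 ygi45 zgi40) (kgi xgi24 ygi22 zgi43) (kgi xgi27 ygi40 zgi26) (kgi xgi23 ygi22 zgi48) (kgi xgi23 ygi26 zgi3) (kgi xgi23 ygi23 zgi35) (kgi xgi9 ygi45 zgi42) (kgi xgi14 ygi2 zgi14) (kgi xgi20 ygi13 zgi39) (kgi xgi12 ygi31 zgi51) (kgi xgi11 ygi10 zgi57) (kgi xgi14 ygi3 zgi0) (kgi xgi9 ygi48 zgi36) (kgi xgi23 ygi23 zgi12) (kgi xgi11 ygi8 zgi17) (kgi xgi9 ygi45 zgi52) (kgi xgi21 ygi37 zgi45) (kgi xgi23 ygi23 zgi40) (kgi xgi10 ygi52 zgi50) (kgi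 xgi14 ygi4 zgi60) (kgi xgi9 ygi45 zgi57) (kgi xgi14 ygi7 zgi54) (kgi xgi24 ygi32 zgi32) (kgi xgi23 ygi30 zgi31) (kgi xgi19 ygi33 zgi8) (kgi xgi24 ygi52 zgi53) (kgi xgi27 ygi40 zgi50) (kgi xgi9 ygi46 zgi0) (kgi xgi17 ygi13 zgi29) (kgi xgi9 ygi46 zgi1) (kgi xgi27 ygi40 zgi51) (kgi xgi27 ygi40 zgi56) (kgi xgi23 ygi24 zgi46) (kgi xgi26 ygi10 zgi40) (kgi xgi9 ygi46 zgi4) (kgi xgi12 ygi27 zgi17) (kgi xgi24 ygi42 zgi32) (kgi xgi14 ygi51 zgi12) (kgi xgi27 ygi40 zgi59) (kgi xgi13 ygi57 zgi31) (kgi xgi23 ygi26 zgi49) (kgi xgi14 ygi8 zgi24) (kgi xgi9 ygi46 zgi9) (kgi xgi9 ygi46 zgi10)) (@D3.rec (fun _ => Pt) (kgi xgi26 ygi26 zgi47) (kgi xgi9 ygi46 zgi11) (kgi xgi22 ygi38 zgi12) (kgi xgi13 ygi55 zgi45) (kgi xgi9 ygi46 zgi12) (kgi xgi20 ygi42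 zgi27) (kgi xgi11 ygi30 zgi60) (kgi xgi20 ygi19 zgi44) (kgi xgi11 ygi22 zgi1) (kgi xgi25 ygi23 zgi47) (kgi xgi11 ygi12 zgi9) (kgi xgi27 ygi41 zgi8) (kgi xgi13 ygi55 zgi49) (kgi xgi14 ygi2 zgi20) (kgi xgi27 ygi41 zgi5) (kgi xgi9 ygi46 zgi16) (kgi xgi26 ygi19 zgi43) (kgi xgi14 ygi3 zgi3) (kgi xgi21 ygi37 zgi60) (kgi xgi22 ygi38 zgi7) (kgi xgi20 ygi43 zgi42) (kgi xgi11 ygi31 zgi34) (kgi xgi17 ygi53 zgi18) (kgi xgi27 ygi41 zgi17) (kgi xgi21 ygi48 zgi27) (kgi xgi16 ygi48 zgi46) (kgi xgi9 ygi46 zgi27) (kgi xgi9 ygi46 zgi29) (kgi xgi9 ygi46 zgi28) (kgi xgi19 ygi39 zgi54) (kgi xgi16 ygi47 zgi42) (kgi xgi14 ygi3 zgi1) (kgi xgi9 ygi46 zgi30) (kgi xgi10 ygi5 zgi41) (kgi xgi9 ygi46 zgi31) (kgi xgi21 ygi37 zgi24) (kgi xgi27 ygi41 zgi20) (kgi xgi18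 ygi25 zgi46) (kgi xgi20 ygi19 zgi53) (kgi xgi21 ygi29 zgi16) (kgi xgi10 ygi5 zgi39) (kgi xgi18 ygi37 zgi39) (kgi xgi9 ygi58 zgi11) (kgi xgi9 ygi46 zgi37) (kgi xgi20 ygi14 zgi47) (kgi xgi24 ygi53 zgi19) (kgi xgi11 ygi7 zgi57) (kgi xgi20 ygi20 zgi51) (kgi xgi9 ygi46 zgi43) (kgi xgi17 ygi12 zgi43) (kgi xgi17 ygi14 zgi9) (kgi xgi20 ygi9 zgi48) (kgi xgi27 ygi41 zgi32) (kgi xgi9 ygi46 zgi54) (kgi xgi9 ygi51 zgi17) (kgi xgi9 ygi51 zgi15) (kgi xgi22 ygi59 zgi48) (kgi xgi26 ygi53 zgi12) (kgi xgi9 ygi46 zgi56) (kgi xgi9 ygi46 zgi59) (kgi xgi10 ygi51 zgi8) (kgi xgi13 ygi43 zgi34)) (@D3.rec (fun _ => Pt) (kgi xgi13 ygi26 zgi40) (kgi xgi13 ygi52 zgi52) (kgi xgi27 ygi41 zgi42) (kgi xgi24 ygi24 zgi0) (kgi xgi19 ygi45 zgi38) (kgi xgi14 ygi58 zgi26)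 (kgi xgi15 ygi7 zgi41) (kgi xgi15 ygi8 zgi0) (kgi xgi27 ygi41 zgi47) (kgi xgi16 ygi34 zgi39) (kgi xgi21 ygi11 zgi43) (kgi xgi9 ygi47 zgi1) (kgi xgi16 ygi26 zgi61) (kgi xgi16 ygi26 zgi57) (kgi xgi16 ygi27 zgi32) (kgi xgi9 ygi47 zgi9) (kgi xgi9 ygi47 zgi4) (kgi xgi15 ygi7 zgi33) (kgi xgi27 ygi41 zgi53) (kgi xgi21 ygi32 zgi42) (kgi xgi27 ygi41 zgi59) (kgi xgi15 ygi20 zgi20) (kgi xgi16 ygi27 zgi3) (kgi xgi15 ygi54 zgi12) (kgi xgi22 ygi55 zgi59) (kgi xgi9 ygi47 zgi8) (kgi xgi16 ygi27 zgi10) (kgi xgi16 ygi27 zgi8) (kgi xgi15 ygi4 zgi50) (kgi xgi24 ygi56 zgi51) (kgi xgi9 ygi47 zgi10) (kgi xgi16 ygi27 zgi17) (kgi xgi26 ygi30 zgi8) (kgi xgi16 ygi27 zgi15) (kgi xgi9 ygi47 zgi11) (kgi xgi27 ygi42 zgi3) (kgi xgi9 ygi47 zgi14) (kgi xgi26 ygi24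 zgi42) (kgi xgi22 ygi23 zgi0) (kgi xgi9 ygi47 zgi15) (kgi xgi16 ygi27 zgi0) (kgi xgi16 ygi27 zgi40) (kgi xgi16 ygi27 zgi38) (kgi xgi18 ygi26 zgi22) (kgi xgi21 ygi37 zgi42) (kgi xgi11 ygi29 zgi59) (kgi xgi20 ygi0 zgi19) (kgi xgi11 ygi29 zgi57) (kgi xgi27 ygi41 zgi1) (kgi xgi20 ygi22 zgi55) (kgi xgi27 ygi11 zgi59) (kgi xgi22 ygi11 zgi33) (kgi xgi27 ygi42 zgi18) (kgi xgi15 ygi27 zgi5) (kgi xgi22 ygi21 zgi28) (kgi xgi11 ygi31 zgi17) (kgi xgi11 ygi31 zgi15) (kgi xgi25 ygi18 zgi7) (kgi xgi11 ygi30 zgi36) (kgi xgi18 ygi0 zgi55) (kgi xgi11 ygi30 zgi33) (kgi xgi18 ygi38 zgi17)) (@D3.rec (fun _ => Pt) (kgi xgi9 ygi47 zgi45) (kgi xgi18 ygi37 zgi49) (kgi xgi18 ygi1 zgi28) (kgi xgi10 ygi0 zgi12) (kgi xgi12 ygi44 zgi28) (kgi xgi20 ygi22 zgi1) (kgi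 xgi21 ygi7 zgi33) (kgi xgi10 ygi13 zgi48) (kgi xgi24 ygi33 zgi53) (kgi xgi9 ygi47 zgi54) (kgi xgi21 ygi47 zgi9) (kgi xgi20 ygi42 zgi47) (kgi xgi11 ygi30 zgi58) (kgi xgi20 ygi42 zgi31) (kgi xgi11 ygi59 zgi5) (kgi xgi9 ygi48 zgi2) (kgi xgi10 ygi4 zgi52) (kgi xgi21 ygi3 zgi17) (kgi xgi9 ygi48 zgi4) (kgi xgi10 ygi6 zgi48) (kgi xgi10 ygi6 zgi46) (kgi xgi13 ygi1 zgi40) (kgi xgi14 ygi30 zgi32) (kgi xgi11 ygi20 zgi41) (kgi xgi26 ygi58 zgi8) (kgi xgi17 ygi1 zgi16) (kgi xgi9 ygi48 zgi12) (kgi xgi11 ygi31 zgi8) (kgi xgi16 ygi29 zgi56) (kgi xgi10 ygi57 zgi20) (kgi xgi20 ygi32 zgi58) (kgi xgi19 ygi51 zgi44) (kgi xgi27 ygi41 zgi7) (kgi xgi16 ygi45 zgi18) (kgi xgi26 ygi55 zgi51) (kgi xgi17 ygi53 zgi37) (kgi xgi20 ygi25 zgi61) (kgi xgi13 ygi3 zgi21)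 (kgi xgi11 ygi42 zgi45) (kgi xgi23 ygi12 zgi48) (kgi xgi11 ygi42 zgi53) (kgi xgi14 ygi6 zgi38) (kgi xgi21 ygi7 zgi32) (kgi xgi10 ygi0 zgi14) (kgi xgi21 ygi6 zgi51) (kgi xgi21 ygi22 zgi46) (kgi xgi20 ygi22 zgi13) (kgi xgi12 ygi16 zgi39) (kgi xgi12 ygi16 zgi40) (kgi xgi20 ygi22 zgi7) (kgi xgi10 ygi56 zgi22) (kgi xgi20 ygi49 zgi47) (kgi xgi9 ygi48 zgi38) (kgi xgi21 ygi36 zgi31) (kgi xgi26 ygi46 zgi43) (kgi xgi20 ygi17 zgi49) (kgi xgi27 ygi42 zgi36) (kgi xgi20 ygi18 zgi6) (kgi xgi19 ygi39 zgi50) (kgi xgi24 ygi4 zgi21) (kgi xgi20 ygi18 zgi4) (kgi xgi9 ygi48 zgi45)) (@D3.rec (fun _ => Pt) (kgi xgi24 ygi16 zgi12) (kgi xgi22 ygi54 zgi55) (kgi xgi24 ygi17 zgi50) (kgi xgi11 ygi48 zgi0) (kgi xgi11 ygi32 zgi30) (kgi xgi27 ygi42 zgi46) (kgi xgi11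 ygi40 zgi8) (kgi xgi24 ygi16 zgi10) (kgi xgi21 ygi3 zgi13) (kgi xgi27 ygi42 zgi47) (kgi xgi20 ygi34 zgi45) (kgi xgi10 ygi14 zgi15) (kgi xgi12 ygi38 zgi42) (kgi xgi17 ygi11 zgi16) (kgi xgi12 ygi12 zgi53) (kgi xgi12 ygi38 zgi52) (kgi xgi9 ygi48 zgi57) (kgi xgi26 ygi11 zgi16) (kgi xgi12 ygi41 zgi26) (kgi xgi12 ygi41 zgi38) (kgi xgi9 ygi48 zgi59) (kgi xgi9 ygi50 zgi11) (kgi xgi22 ygi45 zgi4) (kgi xgi9 ygi50 zgi8) (kgi xgi24 ygi33 zgi29) (kgi xgi21 ygi50 zgi17) (kgi xgi21 ygi32 zgi38) (kgi xgi11 ygi26 zgi18) (kgi xgi27 ygi42 zgi51) (kgi xgi12 ygi44 zgi30) (kgi xgi9 ygi49 zgi5) (kgi xgi26 ygi59 zgi5) (kgi xgi12 ygi53 zgi51) (kgi xgi22 ygi3 zgi36) (kgi xgi9 ygi49 zgi7) (kgi xgi10 ygi13 zgi46) (kgi xgi27 ygi22 zgi15) (kgi xgi17 ygi5 zgi34)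 (kgi xgi11 ygi16 zgi21) (kgi xgi20 ygi9 zgi61) (kgi xgi11 ygi11 zgi11) (kgi xgi11 ygi18 zgi61) (kgi xgi9 ygi49 zgi15) (kgi xgi21 ygi40 zgi39) (kgi xgi9 ygi49 zgi18) (kgi xgi17 ygi5 zgi59) (kgi xgi22 ygi23 zgi19) (kgi xgi17 ygi8 zgi35) (kgi xgi21 ygi32 zgi27) (kgi xgi21 ygi32 zgi39) (kgi xgi15 ygi7 zgi52) (kgi xgi12 ygi29 zgi45) (kgi xgi9 ygi49 zgi23) (kgi xgi19 ygi47 zgi3) (kgi xgi19 ygi53 zgi13) (kgi xgi16 ygi31 zgi2) (kgi xgi11 ygi27 zgi58) (kgi xgi16 ygi57 zgi51) (kgi xgi10 ygi6 zgi54) (kgi xgi12 ygi9 zgi49) (kgi xgi17 ygi5 zgi17) (kgi xgi9 ygi49 zgi32))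
def fi_g_18 : D2 → D3 → Pt := @D2.rec (fun _ => D3 → Pt) (@D3.rec (fun _ => Pt) (kgi xgi9 ygi49 zgi33) (kgi xgi25 ygi17 zgi15) (kgi xgi20 ygi45 zgi32) (kgi xgi27 ygi43 zgi3) (kgi xgi18 ygi17 zgi0) (kgi xgi18 ygi17 zgi11) (kgi xgi21 ygi41 zgi42) (kgi xgi10 ygi14 zgi14) (kgi xgi12 ygi40 zgi58) (kgi xgi10 ygi14 zgi3) (kgi xgi17 ygi10 zgi4) (kgi xgi21 ygi22 zgi4) (kgi xgi10 ygi27 zgi6) (kgi xgi18 ygi10 zgi29) (kgi xgi21 ygi35 zgi2) (kgi xgi23 ygi49 zgi10) (kgi xgi17 ygi12 zgi47) (kgi xgi9 ygi49 zgi45) (kgi xgi27 ygi7 zgi28) (kgi xgi21 ygi24 zgi15) (kgi xgi12 ygi14 zgi20) (kgi xgi9 ygi49 zgi46) (kgi xgi20 ygi45 zgi0) (kgi xgi20 ygi47 zgi10) (kgi xgi20 ygi44 zgi59) (kgi xgi9 ygi49 zgi47) (kgi xgi20 ygi45 zgi5) (kgi xgi22 ygi22 zgi5) (kgi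 xgi20 ygi45 zgi2) (kgi xgi10 ygi27 zgi14) (kgi xgi18 ygi46 zgi47) (kgi xgi9 ygi49 zgi57) (kgi xgi20 ygi40 zgi21) (kgi xgi20 ygi40 zgi19) (kgi xgi27 ygi43 zgi11) (kgi xgi22 ygi15 zgi5) (kgi xgi11 ygi41 zgi22) (kgi xgi27 ygi43 zgi13) (kgi xgi11 ygi47 zgi23) (kgi xgi26 ygi59 zgi59) (kgi xgi25 ygi53 zgi17) (kgi xgi9 ygi50 zgi0) (kgi xgi19 ygi11 zgi1) (kgi xgi24 ygi34 zgi24) (kgi xgi26 ygi41 zgi1) (kgi xgi11 ygi45 zgi60) (kgi xgi9 ygi50 zgi2) (kgi xgi11 ygi46 zgi1) (kgi xgi23 ygi6 zgi25) (kgi xgi9 ygi50 zgi3) (kgi xgi23 ygi47 zgi41) (kgi xgi12 ygi4 zgi57) (kgi xgi9 ygi50 zgi4) (kgi xgi9 ygi50 zgi7) (kgi xgi22 ygi22 zgi16) (kgi xgi12 ygi39 zgi57) (kgi xgi20 ygi48 zgi36) (kgi xgi12 ygi53 zgi43) (kgi xgi27 ygi43 zgi25) (kgi xgi24 ygi34 zgi28)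 (kgi xgi27 ygi43 zgi27) (kgi xgi11 ygi57 zgi30)) (@D3.rec (fun _ => Pt) (kgi xgi27 ygi43 zgi29) (kgi xgi11 ygi31 zgi57) (kgi xgi19 ygi14 zgi59) (kgi xgi19 ygi59 zgi7) (kgi xgi27 ygi41 zgi4) (kgi xgi18 ygi17 zgi43) (kgi xgi24 ygi33 zgi7) (kgi xgi16 ygi11 zgi17) (kgi xgi14 ygi6 zgi19) (kgi xgi22 ygi45 zgi8) (kgi xgi17 ygi25 zgi40) (kgi xgi9 ygi58 zgi39) (kgi xgi20 ygi46 zgi31) (kgi xgi9 ygi50 zgi14) (kgi xgi10 ygi10 zgi36) (kgi xgi18 ygi32 zgi1) (kgi xgi9 ygi50 zgi16) (kgi xgi26 ygi58 zgi45) (kgi xgi26 ygi50 zgi27) (kgi xgi17 ygi59 zgi57) (kgi xgi22 ygi3 zgi16) (kgi xgi21 ygi44 zgi0) (kgi xgi24 ygi33 zgi6) (kgi xgi21 ygi50 zgi50) (kgi xgi17 ygi5 zgi37) (kgi xgi9 ygi50 zgi20) (kgi xgi13 ygi25 zgi50) (kgi xgi12 ygi18 zgi4) (kgi xgi12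 ygi52 zgi56) (kgi xgi16 ygi46 zgi17) (kgi xgi20 ygi52 zgi2) (kgi xgi9 ygi50 zgi28) (kgi xgi13 ygi50 zgi30) (kgi xgi11 ygi12 zgi21) (kgi xgi24 ygi33 zgi28) (kgi xgi27 ygi43 zgi46) (kgi xgi21 ygi3 zgi1) (kgi xgi19 ygi24 zgi19) (kgi xgi18 ygi13 zgi56) (kgi xgi12 ygi56 zgi41) (kgi xgi11 ygi24 zgi33) (kgi xgi11 ygi28 zgi48) (kgi xgi26 ygi0 zgi4) (kgi xgi25 ygi23 zgi6) (kgi xgi11 ygi37 zgi4) (kgi xgi27 ygi43 zgi51) (kgi xgi27 ygi43 zgi54) (kgi xgi27 ygi43 zgi56) (kgi xgi15 ygi22 zgi34) (kgi xgi27 ygi44 zgi0) (kgi xgi9 ygi50 zgi45) (kgi xgi27 ygi41 zgi18) (kgi xgi20 ygi54 zgi36) (kgi xgi27 ygi44 zgi3) (kgi xgi20 ygi29 zgi8) (kgi xgi15 ygi20 zgi33) (kgi xgi9 ygi50 zgi47) (kgi xgi27 ygi41 zgi16) (kgi xgi27 ygi41 zgi15) (kgi xgi15 ygi16 zgi52)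 (kgi xgi11 ygi43 zgi3) (kgi xgi12 ygi43 zgi18)) (@D3.rec (fun _ => Pt) (kgi xgi22 ygi52 zgi55) (kgi xgi11 ygi43 zgi0) (kgi xgi9 ygi50 zgi50) (kgi xgi27 ygi41 zgi19) (kgi xgi23 ygi1 zgi47) (kgi xgi14 ygi27 zgi55) (kgi xgi25 ygi58 zgi44) (kgi xgi11 ygi46 zgi23) (kgi xgi19 ygi3 zgi47) (kgi xgi13 ygi10 zgi61) (kgi xgi12 ygi30 zgi11) (kgi xgi11 ygi23 zgi46) (kgi xgi12 ygi58 zgi7) (kgi xgi12 ygi32 zgi6) (kgi xgi16 ygi30 zgi34) (kgi xgi21 ygi52 zgi54) (kgi xgi18 ygi15 zgi37) (kgi xgi18 ygi43 zgi11) (kgi xgi10 ygi18 zgi44) (kgi xgi11 ygi8 zgi14) (kgi xgi16 ygi58 zgi54) (kgi xgi15 ygi2 zgi51) (kgi xgi27 ygi44 zgi16) (kgi xgi27 ygi44 zgi18) (kgi xgi11 ygi27 zgi43) (kgi xgi15 ygi25 zgi35) (kgi xgi27 ygi44 zgi17) (kgi xgi14 ygi36 zgi11) (kgi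 xgi16 ygi18 zgi6) (kgi xgi12 ygi5 zgi47) (kgi xgi9 ygi51 zgi18) (kgi xgi12 ygi5 zgi49) (kgi xgi20 ygi53 zgi48) (kgi xgi21 ygi40 zgi46) (kgi xgi9 ygi51 zgi24) (kgi xgi14 ygi31 zgi18) (kgi xgi27 ygi44 zgi24) (kgi xgi9 ygi51 zgi25) (kgi xgi16 ygi26 zgi51) (kgi xgi15 ygi3 zgi19) (kgi xgi10 ygi56 zgi34) (kgi xgi10 ygi39 zgi40) (kgi xgi19 ygi14 zgi35) (kgi xgi27 ygi39 zgi7) (kgi xgi15 ygi3 zgi20) (kgi xgi17 ygi51 zgi47) (kgi xgi16 ygi47 zgi44) (kgi xgi27 ygi44 zgi32) (kgi xgi14 ygi38 zgi42) (kgi xgi27 ygi44 zgi34) (kgi xgi13 ygi52 zgi45) (kgi xgi10 ygi39 zgi45) (kgi xgi16 ygi47 zgi40) (kgi xgi16 ygi26 zgi60) (kgi xgi25 ygi49 zgi40) (kgi xgi15 ygi20 zgi45) (kgi xgi16 ygi45 zgi61) (kgi xgi27 ygi44 zgi37) (kgi xgi24 ygi29 zgi20) (kgi xgi9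 ygi51 zgi41) (kgi xgi18 ygi3 zgi17) (kgi xgi9 ygi51 zgi42)) (@D3.rec (fun _ => Pt) (kgi xgi16 ygi39 zgi22) (kgi xgi16 ygi39 zgi20) (kgi xgi27 ygi44 zgi47) (kgi xgi26 ygi48 zgi35) (kgi xgi27 ygi44 zgi50) (kgi xgi26 ygi3 zgi8) (kgi xgi15 ygi53 zgi39) (kgi xgi16 ygi50 zgi7) (kgi xgi19 ygi55 zgi0) (kgi xgi27 ygi39 zgi16) (kgi xgi19 ygi55 zgi35) (kgi xgi9 ygi51 zgi49) (kgi xgi16 ygi10 zgi55) (kgi xgi27 ygi44 zgi54) (kgi xgi26 ygi8 zgi27) (kgi xgi9 ygi51 zgi51) (kgi xgi16 ygi10 zgi15) (kgi xgi18 ygi2 zgi59) (kgi xgi20 ygi4 zgi15) (kgi xgi27 ygi30 zgi3) (kgi xgi9 ygi51 zgi54) (kgi xgi9 ygi53 zgi6) (kgi xgi9 ygi53 zgi4) (kgi xgi27 ygi45 zgi3) (kgi xgi9 ygi51 zgi56) (kgi xgi9 ygi52 zgi47) (kgi xgi9 ygi52 zgi45) (kgi xgi21 ygi52 zgi17) (kgi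 xgi16 ygi18 zgi0) (kgi xgi17 ygi37 zgi25) (kgi xgi9 ygi53 zgi47) (kgi xgi9 ygi53 zgi45) (kgi xgi18 ygi5 zgi24) (kgi xgi24 ygi45 zgi39) (kgi xgi14 ygi4 zgi31) (kgi xgi9 ygi51 zgi61) (kgi xgi9 ygi53 zgi36) (kgi xgi27 ygi45 zgi12) (kgi xgi9 ygi53 zgi33) (kgi xgi9 ygi54 zgi6) (kgi xgi9 ygi54 zgi49) (kgi xgi9 ygi52 zgi2) (kgi xgi9 ygi54 zgi9) (kgi xgi9 ygi54 zgi7) (kgi xgi27 ygi31 zgi40) (kgi xgi27 ygi45 zgi21) (kgi xgi23 ygi22 zgi61) (kgi xgi27 ygi45 zgi25) (kgi xgi9 ygi53 zgi37) (kgi xgi9 ygi52 zgi5) (kgi xgi9 ygi53 zgi60) (kgi xgi9 ygi53 zgi58) (kgi xgi17 ygi38 zgi61) (kgi xgi27 ygi45 zgi33) (kgi xgi27 ygi30 zgi41) (kgi xgi9 ygi53 zgi55) (kgi xgi9 ygi52 zgi8) (kgi xgi9 ygi52 zgi10) (kgi xgi18 ygi28 zgi3) (kgi xgi27 ygi45 zgi13) (kgi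 xgi9 ygi52 zgi12) (kgi xgi24 ygi46 zgi53)) (@D3.rec (fun _ => Pt) (kgi xgi27 ygi45 zgi37) (kgi xgi17 ygi39 zgi3) (kgi xgi27 ygi45 zgi43) (kgi xgi18 ygi8 zgi21) (kgi xgi9 ygi52 zgi11) (kgi xgi18 ygi8 zgi23) (kgi xgi25 ygi7 zgi6) (kgi xgi15 ygi7 zgi37) (kgi xgi12 ygi19 zgi16) (kgi xgi27 ygi45 zgi31) (kgi xgi27 ygi45 zgi52) (kgi xgi9 ygi52 zgi15) (kgi xgi9 ygi54 zgi41) (kgi xgi9 ygi54 zgi39) (kgi xgi18 ygi30 zgi17) (kgi xgi9 ygi52 zgi18) (kgi xgi18 ygi46 zgi7) (kgi xgi18 ygi31 zgi57) (kgi xgi19 ygi51 zgi0) (kgi xgi9 ygi52 zgi21) (kgi xgi25 ygi23 zgi54) (kgi xgi22 ygi57 zgi55) (kgi xgi14 ygi16 zgi44) (kgi xgi10 ygi54 zgi0) (kgi xgi10 ygi24 zgi53) (kgi xgi25 ygi25 zgi41) (kgi xgi9 ygi52 zgi27) (kgi xgi25 ygi3 zgi38) (kgi xgi25 ygi3 zgi37)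 (kgi xgi23 ygi37 zgi58) (kgi xgi10 ygi10 zgi48) (kgi xgi9 ygi52 zgi30) (kgi xgi27 ygi27 zgi1) (kgi xgi27 ygi44 zgi61) (kgi xgi18 ygi4 zgi1) (kgi xgi27 ygi46 zgi4) (kgi xgi14 ygi57 zgi50) (kgi xgi9 ygi52 zgi32) (kgi xgi18 ygi27 zgi39) (kgi xgi10 ygi8 zgi55) (kgi xgi18 ygi31 zgi54) (kgi xgi9 ygi52 zgi58) (kgi xgi9 ygi52 zgi41) (kgi xgi18 ygi27 zgi35) (kgi xgi9 ygi52 zgi36) (kgi xgi18 ygi31 zgi52) (kgi xgi18 ygi31 zgi50) (kgi xgi18 ygi7 zgi32) (kgi xgi17 ygi51 zgi55) (kgi xgi15 ygi6 zgi49) (kgi xgi17 ygi38 zgi42) (kgi xgi9 ygi52 zgi39) (kgi xgi17 ygi41 zgi7) (kgi xgi27 ygi46 zgi21) (kgi xgi10 ygi8 zgi30) (kgi xgi18 ygi31 zgi58) (kgi xgi13 ygi53 zgi50) (kgi xgi23 ygi52 zgi15) (kgi xgi17 ygi38 zgi20) (kgi xgi27 ygi46 zgi10) (kgi xgi27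 ygi46 zgi19) (kgi xgi23 ygi12 zgi41)) (@D3.rec (fun _ => Pt) (kgi xgi12 ygi35 zgi35) (kgi xgi14 ygi43 zgi48) (kgi xgi21 ygi52 zgi18) (kgi xgi12 ygi58 zgi60) (kgi xgi9 ygi52 zgi48) (kgi xgi27 ygi45 zgi7) (kgi xgi14 ygi16 zgi54) (kgi xgi21 ygi49 zgi57) (kgi xgi23 ygi50 zgi48) (kgi xgi14 ygi1 zgi16) (kgi xgi9 ygi52 zgi51) (kgi xgi13 ygi52 zgi38) (kgi xgi18 ygi8 zgi52) (kgi xgi27 ygi46 zgi32) (kgi xgi25 ygi4 zgi2) (kgi xgi18 ygi27 zgi19) (kgi xgi27 ygi12 zgi25) (kgi xgi9 ygi53 zgi1) (kgi xgi18 ygi45 zgi25) (kgi xgi18 ygi45 zgi23) (kgi xgi23 ygi22 zgi26) (kgi xgi26 ygi18 zgi5) (kgi xgi18 ygi3 zgi32) (kgi xgi18 ygi27 zgi29) (kgi xgi18 ygi6 zgi25) (kgi xgi27 ygi40 zgi18) (kgi xgi26 ygi20 zgi59) (kgi xgi9 ygi53 zgi7) (kgi xgi27 ygi45 zgi2)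 (kgi xgi27 ygi46 zgi49) (kgi xgi9 ygi53 zgi8) (kgi xgi26 ygi14 zgi32) (kgi xgi27 ygi10 zgi21) (kgi xgi27 ygi31 zgi31) (kgi xgi18 ygi26 zgi38) (kgi xgi27 ygi31 zgi4) (kgi xgi18 ygi26 zgi34) (kgi xgi15 ygi29 zgi47) (kgi xgi11 ygi9 zgi19) (kgi xgi9 ygi53 zgi15) (kgi xgi11 ygi9 zgi30) (kgi xgi27 ygi46 zgi53) (kgi xgi9 ygi53 zgi16) (kgi xgi19 ygi57 zgi17) (kgi xgi19 ygi57 zgi15) (kgi xgi17 ygi36 zgi15) (kgi xgi27 ygi46 zgi60) (kgi xgi9 ygi53 zgi18) (kgi xgi10 ygi25 zgi52) (kgi xgi10 ygi25 zgi50) (kgi xgi25 ygi49 zgi39) (kgi xgi25 ygi21 zgi8) (kgi xgi9 ygi53 zgi23) (kgi xgi10 ygi29 zgi22) (kgi xgi20 ygi45 zgi46) (kgi xgi18 ygi28 zgi59) (kgi xgi9 ygi59 zgi47) (kgi xgi14 ygi35 zgi21) (kgi xgi18 ygi30 zgi21) (kgi xgi15 ygi12 zgi12) (kgi xgi13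 ygi20 zgi3) (kgi xgi14 ygi14 zgi30)) (@D3.rec (fun _ => Pt) (kgi xgi9 ygi53 zgi28) (kgi xgi21 ygi42 zgi1) (kgi xgi9 ygi53 zgi29) (kgi xgi13 ygi18 zgi36) (kgi xgi21 ygi59 zgi27) (kgi xgi9 ygi53 zgi32) (kgi xgi27 ygi45 zgi10) (kgi xgi14 ygi54 zgi45) (kgi xgi24 ygi43 zgi10) (kgi xgi27 ygi47 zgi6) (kgi xgi27 ygi47 zgi17) (kgi xgi27 ygi47 zgi18) (kgi xgi27 ygi47 zgi16) (kgi xgi18 ygi30 zgi27) (kgi xgi9 ygi53 zgi35) (kgi xgi18 ygi6 zgi29) (kgi xgi22 ygi31 zgi7) (kgi xgi18 ygi40 zgi30) (kgi xgi27 ygi45 zgi36) (kgi xgi25 ygi49 zgi37) (kgi xgi18 ygi30 zgi16) (kgi xgi25 ygi49 zgi30) (kgi xgi27 ygi47 zgi24) (kgi xgi17 ygi54 zgi36) (kgi xgi9 ygi59 zgi36) (kgi xgi18 ygi5 zgi22) (kgi xgi9 ygi53 zgi48) (kgi xgi21 ygi42 zgi0) (kgi xgi27 ygi44 zgi51)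 (kgi xgi18 ygi6 zgi14) (kgi xgi27 ygi26 zgi28) (kgi xgi24 ygi28 zgi26) (kgi xgi16 ygi17 zgi21) (kgi xgi25 ygi3 zgi45) (kgi xgi15 ygi11 zgi9) (kgi xgi18 ygi16 zgi58) (kgi xgi14 ygi43 zgi50) (kgi xgi9 ygi54 zgi25) (kgi xgi15 ygi12 zgi36) (kgi xgi24 ygi58 zgi17) (kgi xgi18 ygi7 zgi24) (kgi xgi24 ygi58 zgi51) (kgi xgi19 ygi1 zgi59) (kgi xgi27 ygi47 zgi39) (kgi xgi9 ygi54 zgi33) (kgi xgi18 ygi30 zgi11) (kgi xgi17 ygi41 zgi42) (kgi xgi27 ygi47 zgi38) (kgi xgi27 ygi45 zgi49) (kgi xgi18 ygi34 zgi51) (kgi xgi24 ygi45 zgi12) (kgi xgi17 ygi37 zgi45) (kgi xgi9 ygi53 zgi61) (kgi xgi27 ygi47 zgi50) (kgi xgi26 ygi18 zgi20) (kgi xgi9 ygi54 zgi0) (kgi xgi24 ygi43 zgi58) (kgi xgi17 ygi38 zgi52) (kgi xgi26 ygi2 zgi51) (kgi xgi17 ygi54 zgi14) (kgi xgi26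 ygi15 zgi0) (kgi xgi24 ygi44 zgi28)) (@D3.rec (fun _ => Pt) (kgi xgi9 ygi54 zgi24) (kgi xgi17 ygi36 zgi56) (kgi xgi9 ygi54 zgi4) (kgi xgi27 ygi45 zgi24) (kgi xgi22 ygi8 zgi16) (kgi xgi26 ygi14 zgi16) (kgi xgi9 ygi54 zgi5) (kgi xgi27 ygi45 zgi26) (kgi xgi24 ygi42 zgi19) (kgi xgi18 ygi9 zgi61) (kgi xgi26 ygi12 zgi52) (kgi xgi10 ygi21 zgi44) (kgi xgi9 ygi54 zgi35) (kgi xgi9 ygi54 zgi17) (kgi xgi20 ygi45 zgi33) (kgi xgi21 ygi37 zgi32) (kgi xgi26 ygi12 zgi43) (kgi xgi27 ygi45 zgi19) (kgi xgi26 ygi12 zgi46) (kgi xgi9 ygi54 zgi10) (kgi xgi27 ygi45 zgi17) (kgi xgi20 ygi23 zgi19) (kgi xgi12 ygi19 zgi54) (kgi xgi26 ygi12 zgi45) (kgi xgi24 ygi56 zgi25) (kgi xgi26 ygi12 zgi37) (kgi xgi27 ygi30 zgi40) (kgi xgi23 ygi16 zgi23) (kgi xgi16 ygi16 zgi19)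 (kgi xgi9 ygi54 zgi27) (kgi xgi18 ygi29 zgi54) (kgi xgi27 ygi45 zgi27) (kgi xgi21 ygi1 zgi4) (kgi xgi21 ygi30 zgi59) (kgi xgi19 ygi1 zgi61) (kgi xgi24 ygi18 zgi28) (kgi xgi10 ygi27 zgi11) (kgi xgi18 ygi34 zgi60) (kgi xgi9 ygi54 zgi19) (kgi xgi25 ygi58 zgi6) (kgi xgi21 ygi32 zgi47) (kgi xgi18 ygi4 zgi47) (kgi xgi18 ygi35 zgi6) (kgi xgi18 ygi35 zgi44) (kgi xgi9 ygi54 zgi22) (kgi xgi27 ygi47 zgi0) (kgi xgi27 ygi48 zgi10) (kgi xgi27 ygi24 zgi23) (kgi xgi27 ygi48 zgi12) (kgi xgi22 ygi36 zgi26) (kgi xgi27 ygi31 zgi14) (kgi xgi9 ygi54 zgi26) (kgi xgi9 ygi54 zgi31) (kgi xgi12 ygi19 zgi9) (kgi xgi12 ygi19 zgi1) (kgi xgi27 ygi22 zgi56) (kgi xgi25 ygi55 zgi40) (kgi xgi21 ygi41 zgi55) (kgi xgi27 ygi48 zgi17) (kgi xgi27 ygi25 zgi53) (kgi xgi9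 ygi54 zgi29) (kgi xgi11 ygi56 zgi54)) (@D3.rec (fun _ => Pt) (kgi xgi25 ygi48 zgi32) (kgi xgi15 ygi35 zgi45) (kgi xgi19 ygi26 zgi48) (kgi xgi22 ygi27 zgi54) (kgi xgi22 ygi27 zgi55) (kgi xgi21 ygi37 zgi4) (kgi xgi9 ygi54 zgi32) (kgi xgi18 ygi29 zgi14) (kgi xgi27 ygi48 zgi29) (kgi xgi27 ygi45 zgi29) (kgi xgi27 ygi48 zgi31) (kgi xgi16 ygi8 zgi27) (kgi xgi9 ygi54 zgi34) (kgi xgi17 ygi43 zgi25) (kgi xgi27 ygi45 zgi15) (kgi xgi18 ygi24 zgi18) (kgi xgi12 ygi17 zgi37) (kgi xgi9 ygi54 zgi36) (kgi xgi26 ygi14 zgi20) (kgi xgi21 ygi36 zgi6) (kgi xgi27 ygi45 zgi51) (kgi xgi9 ygi54 zgi37) (kgi xgi18 ygi4 zgi3) (kgi xgi18 ygi4 zgi4) (kgi xgi9 ygi54 zgi38) (kgi xgi18 ygi8 zgi35) (kgi xgi27 ygi48 zgi42) (kgi xgi18 ygi8 zgi36) (kgi xgi22 ygi31 zgi14)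 (kgi xgi11 ygi59 zgi46) (kgi xgi26 ygi14 zgi61) (kgi xgi26 ygi17 zgi0) (kgi xgi16 ygi19 zgi17) (kgi xgi27 ygi48 zgi47) (kgi xgi27 ygi26 zgi51) (kgi xgi18 ygi8 zgi24) (kgi xgi9 ygi54 zgi42) (kgi xgi18 ygi8 zgi27) (kgi xgi27 ygi48 zgi55) (kgi xgi26 ygi16 zgi21) (kgi xgi27 ygi48 zgi60) (kgi xgi18 ygi28 zgi50) (kgi xgi18 ygi29 zgi9) (kgi xgi27 ygi48 zgi59) (kgi xgi15 ygi12 zgi28) (kgi xgi27 ygi49 zgi5) (kgi xgi18 ygi4 zgi25) (kgi xgi25 ygi46 zgi51) (kgi xgi24 ygi46 zgi40) (kgi xgi26 ygi20 zgi50) (kgi xgi17 ygi39 zgi54) (kgi xgi18 ygi5 zgi12) (kgi xgi24 ygi58 zgi54) (kgi xgi18 ygi32 zgi47) (kgi xgi17 ygi47 zgi24) (kgi xgi17 ygi46 zgi34) (kgi xgi27 ygi49 zgi14) (kgi xgi9 ygi54 zgi53) (kgi xgi18 ygi32 zgi55) (kgi xgi19 ygi6 zgi26) (kgi xgi18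 ygi32 zgi52) (kgi xgi9 ygi55 zgi3)) (@D3.rec (fun _ => Pt) (kgi xgi15 ygi3 zgi12) (kgi xgi18 ygi33 zgi0) (kgi xgi18 ygi35 zgi20) (kgi xgi9 ygi54 zgi58) (kgi xgi18 ygi10 zgi50) (kgi xgi18 ygi16 zgi49) (kgi xgi27 ygi49 zgi29) (kgi xgi20 ygi11 zgi12) (kgi xgi9 ygi56 zgi53) (kgi xgi27 ygi49 zgi36) (kgi xgi10 ygi20 zgi20) (kgi xgi9 ygi56 zgi49) (kgi xgi9 ygi55 zgi1) (kgi xgi17 ygi41 zgi38) (kgi xgi26 ygi21 zgi2) (kgi xgi10 ygi11 zgi48) (kgi xgi18 ygi32 zgi9) (kgi xgi11 ygi15 zgi35) (kgi xgi20 ygi11 zgi15) (kgi xgi25 ygi31 zgi34) (kgi xgi9 ygi56 zgi28) (kgi xgi27 ygi32 zgi22) (kgi xgi18 ygi32 zgi0) (kgi xgi10 ygi12 zgi24) (kgi xgi27 ygi49 zgi24) (kgi xgi12 ygi6 zgi34) (kgi xgi18 ygi13 zgi11) (kgi xgi18 ygi14 zgi51) (kgi xgi18 ygi33 zgi8)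 (kgi xgi27 ygi29 zgi45) (kgi xgi9 ygi55 zgi10) (kgi xgi18 ygi33 zgi6) (kgi xgi15 ygi50 zgi48) (kgi xgi27 ygi49 zgi61) (kgi xgi9 ygi55 zgi11) (kgi xgi27 ygi29 zgi35) (kgi xgi27 ygi34 zgi9) (kgi xgi9 ygi55 zgi12) (kgi xgi18 ygi13 zgi19) (kgi xgi18 ygi13 zgi17) (kgi xgi27 ygi32 zgi12) (kgi xgi27 ygi49 zgi40) (kgi xgi18 ygi14 zgi59) (kgi xgi27 ygi32 zgi33) (kgi xgi18 ygi14 zgi25) (kgi xgi27 ygi35 zgi22) (kgi xgi9 ygi55 zgi15) (kgi xgi10 ygi12 zgi25) (kgi xgi10 ygi12 zgi43) (kgi xgi27 ygi32 zgi17) (kgi xgi9 ygi55 zgi18) (kgi xgi27 ygi49 zgi11) (kgi xgi27 ygi50 zgi21) (kgi xgi18 ygi8 zgi46) (kgi xgi19 ygi20 zgi33) (kgi xgi18 ygi47 zgi11) (kgi xgi27 ygi49 zgi18) (kgi xgi9 ygi55 zgi22) (kgi xgi18 ygi26 zgi42) (kgi xgi18 ygi26 zgi40) (kgi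 xgi18 ygi26 zgi36) (kgi xgi18 ygi3 zgi47)) (@D3.rec (fun _ => Pt) (kgi xgi10 ygi16 zgi2) (kgi xgi16 ygi54 zgi3) (kgi xgi18 ygi26 zgi51) (kgi xgi18 ygi41 zgi45) (kgi xgi18 ygi27 zgi22) (kgi xgi9 ygi55 zgi44) (kgi xgi10 ygi3 zgi35) (kgi xgi18 ygi10 zgi47) (kgi xgi18 ygi32 zgi45) (kgi xgi27 ygi50 zgi36) (kgi xgi9 ygi55 zgi31) (kgi xgi27 ygi20 zgi17) (kgi xgi27 ygi50 zgi35) (kgi xgi18 ygi41 zgi51) (kgi xgi9 ygi56 zgi42) (kgi xgi9 ygi57 zgi3) (kgi xgi18 ygi33 zgi45) (kgi xgi27 ygi22 zgi46) (kgi xgi9 ygi56 zgi21) (kgi xgi18 ygi12 zgi43) (kgi xgi18 ygi33 zgi51) (kgi xgi18 ygi33 zgi52) (kgi xgi24 ygi34 zgi17) (kgi xgi18 ygi33 zgi39) (kgi xgi17 ygi51 zgi59) (kgi xgi27 ygi20 zgi36) (kgi xgi9 ygi55 zgi51) (kgi xgi27 ygi36 zgi9) (kgi xgi20 ygi38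 zgi10) (kgi xgi9 ygi55 zgi52) (kgi xgi17 ygi34 zgi21) (kgi xgi10 ygi36 zgi10) (kgi xgi9 ygi56 zgi17) (kgi xgi9 ygi55 zgi61) (kgi xgi18 ygi41 zgi46) (kgi xgi10 ygi55 zgi50) (kgi xgi9 ygi55 zgi58) (kgi xgi18 ygi20 zgi16) (kgi xgi18 ygi36 zgi49) (kgi xgi13 ygi17 zgi48) (kgi xgi18 ygi21 zgi51) (kgi xgi18 ygi20 zgi26) (kgi xgi9 ygi56 zgi0) (kgi xgi9 ygi56 zgi4) (kgi xgi27 ygi50 zgi57) (kgi xgi9 ygi56 zgi2) (kgi xgi18 ygi33 zgi38) (kgi xgi18 ygi10 zgi4) (kgi xgi26 ygi15 zgi8) (kgi xgi10 ygi27 zgi56) (kgi xgi18 ygi9 zgi3) (kgi xgi27 ygi51 zgi0) (kgi xgi9 ygi57 zgi10) (kgi xgi19 ygi36 zgi28) (kgi xgi9 ygi57 zgi5) (kgi xgi20 ygi34 zgi19) (kgi xgi17 ygi3 zgi5) (kgi xgi9 ygi56 zgi10) (kgi xgi27 ygi50 zgi53) (kgi xgi27 ygi50 zgi55) (kgi xgi17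 ygi51 zgi56) (kgi xgi27 ygi51 zgi8)) (@D3.rec (fun _ => Pt) (kgi xgi21 ygi35 zgi18) (kgi xgi17 ygi0 zgi17) (kgi xgi18 ygi50 zgi55) (kgi xgi20 ygi34 zgi26) (kgi xgi17 ygi51 zgi61) (kgi xgi18 ygi20 zgi61) (kgi xgi18 ygi20 zgi60) (kgi xgi19 ygi10 zgi21) (kgi xgi23 ygi33 zgi53) (kgi xgi9 ygi56 zgi20) (kgi xgi18 ygi32 zgi12) (kgi xgi18 ygi32 zgi43) (kgi xgi18 ygi32 zgi42) (kgi xgi27 ygi51 zgi23) (kgi xgi9 ygi56 zgi23) (kgi xgi15 ygi0 zgi50) (kgi xgi15 ygi0 zgi48) (kgi xgi27 ygi51 zgi30) (kgi xgi27 ygi51 zgi32) (kgi xgi27 ygi51 zgi35) (kgi xgi27 ygi33 zgi33) (kgi xgi9 ygi56 zgi26) (kgi xgi18 ygi30 zgi38) (kgi xgi18 ygi30 zgi36) (kgi xgi27 ygi51 zgi47) (kgi xgi27 ygi32 zgi7) (kgi xgi27 ygi51 zgi53) (kgi xgi27 ygi51 zgi56) (kgi xgi9 ygi56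 zgi29) (kgi xgi18 ygi30 zgi50) (kgi xgi18 ygi30 zgi48) (kgi xgi21 ygi11 zgi2) (kgi xgi27 ygi52 zgi0) (kgi xgi17 ygi47 zgi8) (kgi xgi27 ygi52 zgi5) (kgi xgi9 ygi56 zgi32) (kgi xgi18 ygi31 zgi1) (kgi xgi18 ygi30 zgi61) (kgi xgi24 ygi48 zgi24) (kgi xgi27 ygi52 zgi13) (kgi xgi27 ygi52 zgi17) (kgi xgi9 ygi56 zgi34) (kgi xgi18 ygi30 zgi57) (kgi xgi17 ygi46 zgi19) (kgi xgi18 ygi30 zgi54) (kgi xgi18 ygi31 zgi11) (kgi xgi9 ygi57 zgi37) (kgi xgi9 ygi56 zgi37) (kgi xgi18 ygi31 zgi9) (kgi xgi18 ygi31 zgi7) (kgi xgi27 ygi52 zgi30) (kgi xgi27 ygi52 zgi32) (kgi xgi27 ygi52 zgi35) (kgi xgi27 ygi52 zgi38) (kgi xgi9 ygi56 zgi40) (kgi xgi18 ygi31 zgi14) (kgi xgi18 ygi31 zgi12) (kgi xgi24 ygi12 zgi43) (kgi xgi27 ygi52 zgi44) (kgi xgi24 ygi13 zgi29) (kgi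 xgi17 ygi46 zgi7) (kgi xgi18 ygi30 zgi58)) (@D3.rec (fun _ => Pt) (kgi xgi27 ygi52 zgi47) (kgi xgi18 ygi32 zgi13) (kgi xgi10 ygi11 zgi43) (kgi xgi18 ygi33 zgi13) (kgi xgi26 ygi19 zgi24) (kgi xgi18 ygi14 zgi36) (kgi xgi27 ygi52 zgi51) (kgi xgi18 ygi31 zgi23) (kgi xgi18 ygi33 zgi3) (kgi xgi9 ygi56 zgi46) (kgi xgi18 ygi31 zgi22) (kgi xgi25 ygi18 zgi17) (kgi xgi27 ygi52 zgi59) (kgi xgi9 ygi56 zgi47) (kgi xgi18 ygi14 zgi49) (kgi xgi27 ygi49 zgi55) (kgi xgi9 ygi56 zgi48) (kgi xgi24 ygi38 zgi57) (kgi xgi24 ygi13 zgi15) (kgi xgi27 ygi51 zgi52) (kgi xgi27 ygi52 zgi27) (kgi xgi25 ygi31 zgi33) (kgi xgi9 ygi56 zgi50) (kgi xgi27 ygi49 zgi38) (kgi xgi15 ygi33 zgi27) (kgi xgi27 ygi51 zgi55) (kgi xgi27 ygi51 zgi59) (kgi xgi27 ygi49 zgi35) (kgi xgi15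 ygi27 zgi46) (kgi xgi18 ygi17 zgi39) (kgi xgi11 ygi9 zgi27) (kgi xgi19 ygi15 zgi4) (kgi xgi9 ygi56 zgi56) (kgi xgi25 ygi16 zgi58) (kgi xgi26 ygi46 zgi25) (kgi xgi24 ygi58 zgi35) (kgi xgi9 ygi56 zgi59) (kgi xgi9 ygi57 zgi1) (kgi xgi20 ygi20 zgi52) (kgi xgi27 ygi53 zgi20) (kgi xgi17 ygi50 zgi49) (kgi xgi19 ygi33 zgi22) (kgi xgi9 ygi57 zgi0) (kgi xgi18 ygi10 zgi17) (kgi xgi10 ygi32 zgi56) (kgi xgi18 ygi37 zgi20) (kgi xgi27 ygi53 zgi26) (kgi xgi18 ygi32 zgi23) (kgi xgi18 ygi32 zgi22) (kgi xgi18 ygi32 zgi35) (kgi xgi21 ygi8 zgi9) (kgi xgi17 ygi52 zgi3) (kgi xgi9 ygi57 zgi8) (kgi xgi18 ygi32 zgi31) (kgi xgi21 ygi2 zgi35) (kgi xgi21 ygi42 zgi5) (kgi xgi27 ygi53 zgi32) (kgi xgi21 ygi42 zgi4) (kgi xgi27 ygi50 zgi61) (kgi xgi19 ygi33 zgi21)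 (kgi xgi17 ygi52 zgi12) (kgi xgi10 ygi27 zgi31)) (@D3.rec (fun _ => Pt) (kgi xgi17 ygi52 zgi10) (kgi xgi9 ygi57 zgi17) (kgi xgi27 ygi50 zgi50) (kgi xgi18 ygi17 zgi60) (kgi xgi9 ygi57 zgi22) (kgi xgi10 ygi28 zgi11) (kgi xgi27 ygi46 zgi22) (kgi xgi27 ygi53 zgi40) (kgi xgi27 ygi32 zgi8) (kgi xgi18 ygi38 zgi32) (kgi xgi27 ygi31 zgi61) (kgi xgi18 ygi9 zgi23) (kgi xgi27 ygi52 zgi45) (kgi xgi9 ygi57 zgi27) (kgi xgi18 ygi35 zgi19) (kgi xgi27 ygi49 zgi26) (kgi xgi14 ygi14 zgi51) (kgi xgi9 ygi57 zgi28) (kgi xgi18 ygi9 zgi39) (kgi xgi18 ygi9 zgi37) (kgi xgi27 ygi53 zgi46) (kgi xgi22 ygi50 zgi55) (kgi xgi9 ygi57 zgi30) (kgi xgi27 ygi50 zgi17) (kgi xgi27 ygi32 zgi14) (kgi xgi27 ygi53 zgi37) (kgi xgi27 ygi50 zgi40) (kgi xgi9 ygi58 zgi31) (kgi xgi27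 ygi52 zgi23) (kgi xgi27 ygi33 zgi38) (kgi xgi9 ygi57 zgi33) (kgi xgi27 ygi32 zgi40) (kgi xgi27 ygi53 zgi61) (kgi xgi18 ygi11 zgi60) (kgi xgi17 ygi50 zgi37) (kgi xgi22 ygi51 zgi48) (kgi xgi27 ygi52 zgi21) (kgi xgi24 ygi48 zgi7) (kgi xgi12 ygi43 zgi14) (kgi xgi10 ygi20 zgi60) (kgi xgi15 ygi51 zgi41) (kgi xgi27 ygi54 zgi7) (kgi xgi27 ygi12 zgi23) (kgi xgi26 ygi44 zgi41) (kgi xgi26 ygi59 zgi11) (kgi xgi10 ygi26 zgi53) (kgi xgi21 ygi41 zgi32) (kgi xgi9 ygi57 zgi47) (kgi xgi27 ygi54 zgi14) (kgi xgi9 ygi57 zgi45) (kgi xgi10 ygi13 zgi42) (kgi xgi9 ygi57 zgi49) (kgi xgi9 ygi57 zgi55) (kgi xgi27 ygi54 zgi19) (kgi xgi9 ygi57 zgi52) (kgi xgi17 ygi31 zgi60) (kgi xgi18 ygi16 zgi52) (kgi xgi27 ygi48 zgi8) (kgi xgi27 ygi54 zgi12) (kgi xgi27 ygi5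 zgi43) (kgi xgi18 ygi49 zgi52) (kgi xgi27 ygi35 zgi2)) (@D3.rec (fun _ => Pt) (kgi xgi27 ygi53 zgi28) (kgi xgi27 ygi39 zgi2) (kgi xgi9 ygi57 zgi54) (kgi xgi25 ygi39 zgi56) (kgi xgi27 ygi54 zgi28) (kgi xgi11 ygi45 zgi59) (kgi xgi12 ygi36 zgi57) (kgi xgi9 ygi57 zgi59) (kgi xgi18 ygi16 zgi18) (kgi xgi12 ygi22 zgi17) (kgi xgi18 ygi29 zgi17) (kgi xgi27 ygi46 zgi5) (kgi xgi15 ygi19 zgi48) (kgi xgi27 ygi54 zgi32) (kgi xgi16 ygi47 zgi30) (kgi xgi9 ygi59 zgi54) (kgi xgi9 ygi59 zgi56) (kgi xgi18 ygi38 zgi10) (kgi xgi9 ygi58 zgi13) (kgi xgi18 ygi33 zgi59) (kgi xgi18 ygi33 zgi57) (kgi xgi27 ygi54 zgi39) (kgi xgi27 ygi34 zgi14) (kgi xgi27 ygi54 zgi41) (kgi xgi9 ygi58 zgi15) (kgi xgi18 ygi9 zgi42) (kgi xgi9 ygi58 zgi28) (kgi xgi10 ygi21 zgi5) (kgi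 xgi9 ygi58 zgi18) (kgi xgi10 ygi28 zgi12) (kgi xgi16 ygi34 zgi45) (kgi xgi19 ygi2 zgi22) (kgi xgi27 ygi53 zgi39) (kgi xgi27 ygi54 zgi47) (kgi xgi19 ygi6 zgi30) (kgi xgi27 ygi53 zgi43) (kgi xgi18 ygi12 zgi2) (kgi xgi26 ygi4 zgi21) (kgi xgi9 ygi58 zgi23) (kgi xgi18 ygi34 zgi16) (kgi xgi27 ygi2 zgi45) (kgi xgi27 ygi54 zgi58) (kgi xgi9 ygi58 zgi24) (kgi xgi26 ygi3 zgi60) (kgi xgi27 ygi55 zgi2) (kgi xgi19 ygi6 zgi36) (kgi xgi27 ygi55 zgi5) (kgi xgi14 ygi31 zgi6) (kgi xgi27 ygi55 zgi8) (kgi xgi9 ygi58 zgi27) (kgi xgi18 ygi12 zgi14) (kgi xgi18 ygi12 zgi13) (kgi xgi27 ygi54 zgi40) (kgi xgi19 ygi6 zgi37) (kgi xgi24 ygi52 zgi34) (kgi xgi27 ygi40 zgi1) (kgi xgi9 ygi58 zgi30) (kgi xgi10 ygi10 zgi5) (kgi xgi10 ygi10 zgi44) (kgi xgi18 ygi9 zgi44)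 (kgi xgi26 ygi19 zgi40) (kgi xgi9 ygi58 zgi33)) (@D3.rec (fun _ => Pt) (kgi xgi24 ygi48 zgi11) (kgi xgi18 ygi58 zgi21) (kgi xgi25 ygi10 zgi45) (kgi xgi22 ygi17 zgi60) (kgi xgi27 ygi34 zgi55) (kgi xgi9 ygi58 zgi38) (kgi xgi9 ygi58 zgi40) (kgi xgi23 ygi54 zgi13) (kgi xgi18 ygi50 zgi49) (kgi xgi27 ygi53 zgi18) (kgi xgi27 ygi54 zgi13) (kgi xgi10 ygi17 zgi49) (kgi xgi12 ygi47 zgi39) (kgi xgi13 ygi1 zgi1) (kgi xgi10 ygi17 zgi46) (kgi xgi9 ygi58 zgi47) (kgi xgi12 ygi54 zgi23) (kgi xgi18 ygi50 zgi11) (kgi xgi27 ygi55 zgi31) (kgi xgi17 ygi52 zgi16) (kgi xgi22 ygi36 zgi16) (kgi xgi27 ygi55 zgi33) (kgi xgi9 ygi58 zgi53) (kgi xgi9 ygi59 zgi57) (kgi xgi18 ygi29 zgi42) (kgi xgi10 ygi27 zgi2) (kgi xgi21 ygi7 zgi48) (kgi xgi12 ygi45 zgi45) (kgi xgi9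 ygi59 zgi33) (kgi xgi18 ygi49 zgi49) (kgi xgi27 ygi55 zgi39) (kgi xgi14 ygi15 zgi52) (kgi xgi18 ygi36 zgi44) (kgi xgi12 ygi38 zgi17) (kgi xgi12 ygi25 zgi19) (kgi xgi12 ygi46 zgi38) (kgi xgi18 ygi36 zgi45) (kgi xgi11 ygi10 zgi52) (kgi xgi18 ygi1 zgi30) (kgi xgi12 ygi4 zgi3) (kgi xgi18 ygi37 zgi50) (kgi xgi9 ygi59 zgi16) (kgi xgi13 ygi8 zgi16) (kgi xgi9 ygi59 zgi18) (kgi xgi9 ygi59 zgi40) (kgi xgi18 ygi57 zgi6) (kgi xgi21 ygi7 zgi57) (kgi xgi18 ygi21 zgi46) (kgi xgi14 ygi43 zgi5) (kgi xgi9 ygi59 zgi22) (kgi xgi12 ygi59 zgi22) (kgi xgi9 ygi59 zgi30) (kgi xgi24 ygi56 zgi34) (kgi xgi10 ygi3 zgi21) (kgi xgi21 ygi7 zgi54) (kgi xgi27 ygi55 zgi46) (kgi xgi18 ygi58 zgi49) (kgi xgi9 ygi59 zgi26) (kgi xgi27 ygi55 zgi52) (kgi xgi23 ygi21 zgi54)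 (kgi xgi18 ygi37 zgi17) (kgi xgi9 ygi59 zgi42)) (@D3.rec (fun _ => Pt) (kgi xgi17 ygi32 zgi2) (kgi xgi12 ygi16 zgi26) (kgi xgi9 ygi59 zgi29) (kgi xgi12 ygi38 zgi14) (kgi xgi19 ygi2 zgi7) (kgi xgi10 ygi55 zgi41) (kgi xgi10 ygi42 zgi20) (kgi xgi21 ygi31 zgi12) (kgi xgi11 ygi39 zgi4) (kgi xgi22 ygi28 zgi54) (kgi xgi9 ygi59 zgi50) (kgi xgi17 ygi30 zgi21) (kgi xgi17 ygi30 zgi4) (kgi xgi18 ygi43 zgi45) (kgi xgi12 ygi22 zgi11) (kgi xgi18 ygi36 zgi11) (kgi xgi27 ygi45 zgi16) (kgi xgi17 ygi21 zgi49) (kgi xgi27 ygi35 zgi52) (kgi xgi12 ygi43 zgi39) (kgi xgi9 ygi59 zgi43) (kgi xgi27 ygi55 zgi61) (kgi xgi27 ygi36 zgi25) (kgi xgi27 ygi55 zgi59) (kgi xgi27 ygi29 zgi49) (kgi xgi27 ygi47 zgi5) (kgi xgi27 ygi48 zgi22) (kgi xgi18 ygi38 zgi5) (kgi xgi26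 ygi16 zgi44) (kgi xgi25 ygi3 zgi43) (kgi xgi18 ygi46 zgi45) (kgi xgi17 ygi43 zgi40) (kgi xgi24 ygi44 zgi15) (kgi xgi18 ygi46 zgi42) (kgi xgi15 ygi59 zgi42) (kgi xgi22 ygi8 zgi7) (kgi xgi25 ygi32 zgi40) (kgi xgi9 ygi59 zgi49) (kgi xgi21 ygi26 zgi14) (kgi xgi17 ygi30 zgi23) (kgi xgi26 ygi16 zgi15) (kgi xgi9 ygi59 zgi52) (kgi xgi20 ygi12 zgi52) (kgi xgi12 ygi44 zgi27) (kgi xgi18 ygi0 zgi4) (kgi xgi9 ygi59 zgi55) (kgi xgi12 ygi43 zgi47) (kgi xgi21 ygi26 zgi37) (kgi xgi27 ygi34 zgi32) (kgi xgi10 ygi10 zgi54) (kgi xgi27 ygi54 zgi42) (kgi xgi9 ygi59 zgi61) (kgi xgi11 ygi26 zgi30) (kgi xgi12 ygi44 zgi44) (kgi xgi18 ygi36 zgi32) (kgi xgi27 ygi26 zgi26) (kgi xgi27 ygi56 zgi11) (kgi xgi26 ygi16 zgi14) (kgi xgi27 ygi56 zgi15) (kgi xgi26 ygi16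 zgi10) (kgi xgi21 ygi21 zgi58) (kgi xgi20 ygi42 zgi26)) (@D3.rec (fun _ => Pt) (kgi xgi21 ygi21 zgi57) (kgi xgi16 ygi3 zgi31) (kgi xgi10 ygi0 zgi9) (kgi xgi10 ygi0 zgi19) (kgi xgi16 ygi59 zgi39) (kgi xgi21 ygi1 zgi32) (kgi xgi18 ygi43 zgi50) (kgi xgi18 ygi43 zgi49) (kgi xgi11 ygi58 zgi28) (kgi xgi19 ygi27 zgi56) (kgi xgi27 ygi51 zgi16) (kgi xgi19 ygi42 zgi57) (kgi xgi18 ygi0 zgi5) (kgi xgi24 ygi46 zgi43) (kgi xgi21 ygi35 zgi32) (kgi xgi18 ygi35 zgi43) (kgi xgi18 ygi35 zgi47) (kgi xgi18 ygi36 zgi56) (kgi xgi21 ygi54 zgi43) (kgi xgi10 ygi0 zgi22) (kgi xgi18 ygi36 zgi38) (kgi xgi10 ygi7 zgi6) (kgi xgi18 ygi38 zgi30) (kgi xgi17 ygi22 zgi57) (kgi xgi27 ygi12 zgi19) (kgi xgi21 ygi8 zgi2) (kgi xgi21 ygi7 zgi61) (kgi xgi18 ygi37 zgi55) (kgi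 xgi18 ygi38 zgi27) (kgi xgi21 ygi35 zgi12) (kgi xgi17 ygi8 zgi42) (kgi xgi18 ygi50 zgi25) (kgi xgi18 ygi38 zgi29) (kgi xgi18 ygi36 zgi29) (kgi xgi18 ygi35 zgi18) (kgi xgi27 ygi56 zgi30) (kgi xgi18 ygi9 zgi45) (kgi xgi18 ygi11 zgi0) (kgi xgi21 ygi53 zgi51) (kgi xgi18 ygi12 zgi31) (kgi xgi10 ygi0 zgi42) (kgi xgi10 ygi37 zgi43) (kgi xgi21 ygi52 zgi6) (kgi xgi10 ygi0 zgi44) (kgi xgi18 ygi1 zgi5) (kgi xgi18 ygi39 zgi46) (kgi xgi14 ygi46 zgi60) (kgi xgi11 ygi49 zgi5) (kgi xgi11 ygi5 zgi58) (kgi xgi15 ygi2 zgi32) (kgi xgi15 ygi24 zgi56) (kgi xgi10 ygi42 zgi42) (kgi xgi10 ygi0 zgi49) (kgi xgi18 ygi39 zgi55) (kgi xgi18 ygi39 zgi53) (kgi xgi16 ygi12 zgi40) (kgi xgi25 ygi39 zgi29) (kgi xgi27 ygi56 zgi46) (kgi xgi10 ygi0 zgi51) (kgi xgi16 ygi50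 zgi44) (kgi xgi18 ygi39 zgi60) (kgi xgi10 ygi0 zgi61)) (@D3.rec (fun _ => Pt) (kgi xgi18 ygi27 zgi46) (kgi xgi10 ygi0 zgi56) (kgi xgi18 ygi39 zgi59) (kgi xgi18 ygi39 zgi57) (kgi xgi26 ygi9 zgi53) (kgi xgi14 ygi47 zgi35) (kgi xgi25 ygi39 zgi36) (kgi xgi16 ygi4 zgi22) (kgi xgi10 ygi0 zgi59) (kgi xgi18 ygi40 zgi2) (kgi xgi18 ygi40 zgi0) (kgi xgi16 ygi10 zgi10) (kgi xgi25 ygi49 zgi52) (kgi xgi27 ygi56 zgi59) (kgi xgi18 ygi3 zgi5) (kgi xgi10 ygi1 zgi0) (kgi xgi18 ygi27 zgi49) (kgi xgi18 ygi27 zgi47) (kgi xgi27 ygi57 zgi2) (kgi xgi26 ygi8 zgi10) (kgi xgi27 ygi57 zgi4) (kgi xgi14 ygi48 zgi13) (kgi xgi27 ygi56 zgi47) (kgi xgi27 ygi56 zgi53) (kgi xgi23 ygi33 zgi51) (kgi xgi22 ygi22 zgi22) (kgi xgi18 ygi40 zgi9) (kgi xgi10 ygi1 zgi5) (kgi xgi18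 ygi40 zgi8) (kgi xgi27 ygi57 zgi13) (kgi xgi27 ygi3 zgi16) (kgi xgi14 ygi21 zgi32) (kgi xgi20 ygi13 zgi20) (kgi xgi13 ygi52 zgi41) (kgi xgi10 ygi1 zgi7) (kgi xgi18 ygi40 zgi60) (kgi xgi12 ygi22 zgi52) (kgi xgi18 ygi40 zgi57) (kgi xgi26 ygi58 zgi27) (kgi xgi10 ygi39 zgi47) (kgi xgi14 ygi37 zgi26) (kgi xgi16 ygi31 zgi45) (kgi xgi19 ygi18 zgi33) (kgi xgi14 ygi21 zgi37) (kgi xgi19 ygi31 zgi11) (kgi xgi14 ygi46 zgi52) (kgi xgi19 ygi56 zgi38) (kgi xgi10 ygi1 zgi16) (kgi xgi18 ygi40 zgi41) (kgi xgi16 ygi25 zgi50) (kgi xgi27 ygi55 zgi49) (kgi xgi10 ygi1 zgi19) (kgi xgi18 ygi40 zgi36) (kgi xgi18 ygi40 zgi34) (kgi xgi11 ygi35 zgi23) (kgi xgi24 ygi59 zgi9) (kgi xgi10 ygi1 zgi21) (kgi xgi18 ygi22 zgi59) (kgi xgi16 ygi27 zgi55) (kgi xgi22 ygi49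 zgi51) (kgi xgi27 ygi57 zgi44) (kgi xgi10 ygi1 zgi26)) (@D3.rec (fun _ => Pt) (kgi xgi18 ygi22 zgi55) (kgi xgi18 ygi22 zgi53) (kgi xgi16 ygi29 zgi22) (kgi xgi18 ygi24 zgi28) (kgi xgi27 ygi57 zgi39) (kgi xgi21 ygi2 zgi47) (kgi xgi18 ygi59 zgi59) (kgi xgi27 ygi57 zgi54) (kgi xgi24 ygi59 zgi34) (kgi xgi23 ygi32 zgi46) (kgi xgi10 ygi1 zgi32) (kgi xgi25 ygi16 zgi54) (kgi xgi19 ygi1 zgi33) (kgi xgi10 ygi1 zgi33) (kgi xgi14 ygi39 zgi17) (kgi xgi18 ygi40 zgi54) (kgi xgi27 ygi57 zgi61) (kgi xgi10 ygi1 zgi34) (kgi xgi18 ygi40 zgi19) (kgi xgi27 ygi58 zgi7) (kgi xgi18 ygi40 zgi16) (kgi xgi15 ygi23 zgi52) (kgi xgi11 ygi57 zgi18) (kgi xgi16 ygi22 zgi34) (kgi xgi23 ygi42 zgi57) (kgi xgi19 ygi1 zgi44) (kgi xgi25 ygi18 zgi21) (kgi xgi10 ygi1 zgi38)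 (kgi xgi18 ygi39 zgi52) (kgi xgi18 ygi39 zgi51) (kgi xgi18 ygi41 zgi8) (kgi xgi18 ygi41 zgi6) (kgi xgi27 ygi58 zgi18) (kgi xgi10 ygi1 zgi41) (kgi xgi18 ygi41 zgi18) (kgi xgi10 ygi29 zgi61) (kgi xgi18 ygi41 zgi15) (kgi xgi10 ygi1 zgi50) (kgi xgi18 ygi41 zgi28) (kgi xgi10 ygi1 zgi45) (kgi xgi18 ygi41 zgi12) (kgi xgi18 ygi41 zgi10) (kgi xgi12 ygi47 zgi14) (kgi xgi26 ygi13 zgi3) (kgi xgi25 ygi56 zgi18) (kgi xgi10 ygi3 zgi28) (kgi xgi26 ygi20 zgi9) (kgi xgi18 ygi41 zgi21) (kgi xgi18 ygi41 zgi20) (kgi xgi23 ygi4 zgi15) (kgi xgi10 ygi26 zgi30) (kgi xgi18 ygi39 zgi8) (kgi xgi27 ygi58 zgi37) (kgi xgi11 ygi13 zgi57) (kgi xgi20 ygi36 zgi59) (kgi xgi13 ygi30 zgi12) (kgi xgi16 ygi20 zgi37) (kgi xgi20 ygi8 zgi14) (kgi xgi24 ygi54 zgi40) (kgi xgi10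 ygi1 zgi57) (kgi xgi16 ygi21 zgi4) (kgi xgi16 ygi25 zgi35)) (@D3.rec (fun _ => Pt) (kgi xgi15 ygi10 zgi54) (kgi xgi27 ygi58 zgi33) (kgi xgi18 ygi42 zgi23) (kgi xgi12 ygi6 zgi43) (kgi xgi10 ygi29 zgi50) (kgi xgi19 ygi0 zgi34) (kgi xgi10 ygi2 zgi0) (kgi xgi17 ygi2 zgi58) (kgi xgi23 ygi32 zgi5) (kgi xgi19 ygi1 zgi27) (kgi xgi10 ygi9 zgi42) (kgi xgi27 ygi40 zgi17) (kgi xgi19 ygi0 zgi2) (kgi xgi26 ygi19 zgi41) (kgi xgi10 ygi2 zgi6) (kgi xgi10 ygi40 zgi43) (kgi xgi18 ygi10 zgi36) (kgi xgi10 ygi25 zgi59) (kgi xgi19 ygi11 zgi45) (kgi xgi27 ygi59 zgi3) (kgi xgi10 ygi2 zgi8) (kgi xgi18 ygi27 zgi56) (kgi xgi18 ygi53 zgi4) (kgi xgi18 ygi46 zgi6) (kgi xgi18 ygi38 zgi39) (kgi xgi18 ygi53 zgi55) (kgi xgi10 ygi11 zgi15) (kgi xgi10 ygi39 zgi22) (kgi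 xgi18 ygi11 zgi6) (kgi xgi19 ygi57 zgi26) (kgi xgi10 ygi2 zgi15) (kgi xgi17 ygi49 zgi6) (kgi xgi10 ygi11 zgi20) (kgi xgi18 ygi12 zgi48) (kgi xgi10 ygi41 zgi26) (kgi xgi10 ygi2 zgi21) (kgi xgi10 ygi31 zgi60) (kgi xgi18 ygi10 zgi46) (kgi xgi10 ygi39 zgi23) (kgi xgi27 ygi59 zgi17) (kgi xgi13 ygi41 zgi47) (kgi xgi10 ygi2 zgi26) (kgi xgi18 ygi32 zgi7) (kgi xgi10 ygi2 zgi27) (kgi xgi12 ygi7 zgi16) (kgi xgi12 ygi38 zgi29) (kgi xgi27 ygi59 zgi21) (kgi xgi10 ygi3 zgi44) (kgi xgi10 ygi2 zgi30) (kgi xgi10 ygi2 zgi34) (kgi xgi21 ygi31 zgi11) (kgi xgi10 ygi2 zgi31) (kgi xgi21 ygi7 zgi47) (kgi xgi21 ygi8 zgi15) (kgi xgi27 ygi51 zgi20) (kgi xgi22 ygi51 zgi59) (kgi xgi18 ygi15 zgi50) (kgi xgi21 ygi6 zgi55) (kgi xgi27 ygi58 zgi59) (kgi xgi18 ygi48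 zgi17) (kgi xgi10 ygi2 zgi36) (kgi xgi18 ygi10 zgi32)) (@D3.rec (fun _ => Pt) (kgi xgi10 ygi32 zgi3) (kgi xgi27 ygi9 zgi7) (kgi xgi11 ygi38 zgi52) (kgi xgi18 ygi23 zgi28) (kgi xgi10 ygi18 zgi19) (kgi xgi11 ygi57 zgi54) (kgi xgi20 ygi21 zgi60) (kgi xgi10 ygi17 zgi30) (kgi xgi27 ygi59 zgi35) (kgi xgi24 ygi7 zgi1) (kgi xgi22 ygi18 zgi0) (kgi xgi11 ygi57 zgi51) (kgi xgi21 ygi40 zgi5) (kgi xgi19 ygi53 zgi18) (kgi xgi10 ygi2 zgi56) (kgi xgi17 ygi12 zgi52) (kgi xgi25 ygi18 zgi9) (kgi xgi27 ygi59 zgi44) (kgi xgi10 ygi2 zgi57) (kgi xgi21 ygi38 zgi42) (kgi xgi25 ygi23 zgi61) (kgi xgi26 ygi57 zgi59) (kgi xgi11 ygi57 zgi37) (kgi xgi24 ygi7 zgi2) (kgi xgi16 ygi55 zgi0) (kgi xgi24 ygi7 zgi6) (kgi xgi22 ygi11 zgi41) (kgi xgi21 ygi36 zgi7) (kgi xgi18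 ygi24 zgi55) (kgi xgi16 ygi56 zgi16) (kgi xgi20 ygi19 zgi25) (kgi xgi11 ygi35 zgi35) (kgi xgi11 ygi35 zgi36) (kgi xgi25 ygi18 zgi48) (kgi xgi19 ygi52 zgi49) (kgi xgi18 ygi57 zgi41) (kgi xgi17 ygi8 zgi44) (kgi xgi10 ygi3 zgi7) (kgi xgi15 ygi12 zgi49) (kgi xgi10 ygi3 zgi8) (kgi xgi18 ygi38 zgi43) (kgi xgi10 ygi30 zgi16) (kgi xgi13 ygi41 zgi46) (kgi xgi22 ygi51 zgi50) (kgi xgi13 ygi41 zgi53) (kgi xgi13 ygi29 zgi45) (kgi xgi10 ygi13 zgi0) (kgi xgi10 ygi3 zgi15) (kgi xgi12 ygi6 zgi38) (kgi xgi16 ygi20 zgi57) (kgi xgi13 ygi29 zgi18) (kgi xgi18 ygi10 zgi33) (kgi xgi17 ygi45 zgi49) (kgi xgi18 ygi41 zgi29) (kgi xgi18 ygi54 zgi57) (kgi xgi18 ygi59 zgi17) (kgi xgi10 ygi3 zgi22) (kgi xgi24 ygi9 zgi42) (kgi xgi27 ygi58 zgi40) (kgi xgi10 ygi3 zgi23)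 (kgi xgi28 ygi0 zgi9) (kgi xgi16 ygi19 zgi39)) (@D3.rec (fun _ => Pt) (kgi xgi28 ygi0 zgi0) (kgi xgi19 ygi44 zgi5) (kgi xgi10 ygi3 zgi25) (kgi xgi19 ygi1 zgi1) (kgi xgi28 ygi0 zgi17) (kgi xgi19 ygi0 zgi60) (kgi xgi10 ygi29 zgi60) (kgi xgi11 ygi39 zgi20) (kgi xgi10 ygi15 zgi43) (kgi xgi20 ygi54 zgi60) (kgi xgi20 ygi55 zgi60) (kgi xgi10 ygi3 zgi31) (kgi xgi28 ygi0 zgi22) (kgi xgi10 ygi3 zgi33) (kgi xgi28 ygi0 zgi23) (kgi xgi18 ygi31 zgi18) (kgi xgi21 ygi44 zgi15) (kgi xgi10 ygi3 zgi36) (kgi xgi10 ygi3 zgi40) (kgi xgi17 ygi45 zgi43) (kgi xgi27 ygi37 zgi35) (kgi xgi27 ygi59 zgi20) (kgi xgi17 ygi49 zgi20) (kgi xgi10 ygi20 zgi36) (kgi xgi10 ygi32 zgi8) (kgi xgi10 ygi3 zgi48) (kgi xgi10 ygi43 zgi36) (kgi xgi18 ygi41 zgi54) (kgi xgi12 ygi54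 zgi20) (kgi xgi19 ygi24 zgi20) (kgi xgi19 ygi52 zgi40) (kgi xgi10 ygi3 zgi57) (kgi xgi17 ygi6 zgi19) (kgi xgi22 ygi22 zgi49) (kgi xgi11 ygi36 zgi12) (kgi xgi18 ygi58 zgi5) (kgi xgi15 ygi26 zgi9) (kgi xgi11 ygi36 zgi15) (kgi xgi12 ygi12 zgi59) (kgi xgi10 ygi4 zgi2) (kgi xgi10 ygi4 zgi49) (kgi xgi12 ygi53 zgi15) (kgi xgi17 ygi2 zgi53) (kgi xgi19 ygi1 zgi49) (kgi xgi17 ygi2 zgi54) (kgi xgi28 ygi0 zgi28) (kgi xgi10 ygi4 zgi9) (kgi xgi15 ygi10 zgi18) (kgi xgi10 ygi4 zgi10) (kgi xgi23 ygi50 zgi25) (kgi xgi26 ygi26 zgi29) (kgi xgi16 ygi13 zgi12) (kgi xgi27 ygi57 zgi33) (kgi xgi10 ygi4 zgi12) (kgi xgi18 ygi19 zgi1) (kgi xgi18 ygi18 zgi61) (kgi xgi26 ygi9 zgi14) (kgi xgi27 ygi57 zgi27) (kgi xgi18 ygi18 zgi58) (kgi xgi18 ygi18 zgi56) (kgi xgi16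 ygi11 zgi34) (kgi xgi21 ygi55 zgi39)) (@D3.rec (fun _ => Pt) (kgi xgi26 ygi6 zgi48) (kgi xgi28 ygi0 zgi36) (kgi xgi18 ygi42 zgi30) (kgi xgi18 ygi42 zgi29) (kgi xgi23 ygi11 zgi38) (kgi xgi14 ygi5 zgi8) (kgi xgi24 ygi47 zgi11) (kgi xgi17 ygi3 zgi27) (kgi xgi24 ygi39 zgi25) (kgi xgi27 ygi58 zgi24) (kgi xgi10 ygi4 zgi23) (kgi xgi27 ygi7 zgi60) (kgi xgi23 ygi58 zgi8) (kgi xgi12 ygi10 zgi13) (kgi xgi21 ygi2 zgi56) (kgi xgi22 ygi33 zgi38) (kgi xgi17 ygi0 zgi1) (kgi xgi14 ygi35 zgi4) (kgi xgi15 ygi27 zgi0) (kgi xgi14 ygi20 zgi10) (kgi xgi11 ygi35 zgi4) (kgi xgi16 ygi15 zgi30) (kgi xgi17 ygi20 zgi0) (kgi xgi17 ygi15 zgi53) (kgi xgi10 ygi13 zgi54) (kgi xgi14 ygi20 zgi3) (kgi xgi11 ygi11 zgi13) (kgi xgi18 ygi43 zgi19) (kgi xgi15 ygi5 zgi16)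 (kgi xgi13 ygi2 zgi17) (kgi xgi11 ygi9 zgi56) (kgi xgi25 ygi18 zgi18) (kgi xgi11 ygi30 zgi57) (kgi xgi18 ygi43 zgi26) (kgi xgi10 ygi5 zgi17) (kgi xgi18 ygi24 zgi42) (kgi xgi10 ygi4 zgi56) (kgi xgi11 ygi8 zgi33) (kgi xgi21 ygi35 zgi54) (kgi xgi21 ygi2 zgi38) (kgi xgi28 ygi0 zgi48) (kgi xgi11 ygi30 zgi50) (kgi xgi18 ygi43 zgi5) (kgi xgi28 ygi0 zgi51) (kgi xgi21 ygi2 zgi36) (kgi xgi26 ygi57 zgi47) (kgi xgi15 ygi23 zgi50) (kgi xgi28 ygi0 zgi53) (kgi xgi10 ygi5 zgi7) (kgi xgi18 ygi43 zgi1) (kgi xgi15 ygi13 zgi40) (kgi xgi11 ygi30 zgi52) (kgi xgi28 ygi0 zgi57) (kgi xgi10 ygi5 zgi8) (kgi xgi24 ygi31 zgi11) (kgi xgi28 ygi0 zgi50) (kgi xgi12 ygi9 zgi52) (kgi xgi20 ygi8 zgi46) (kgi xgi15 ygi26 zgi19) (kgi xgi10 ygi5 zgi16) (kgi xgi10 ygi5 zgi42)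 (kgi xgi18 ygi24 zgi34)) (@D3.rec (fun _ => Pt) (kgi xgi10 ygi7 zgi18) (kgi xgi21 ygi41 zgi49) (kgi xgi18 ygi38 zgi36) (kgi xgi18 ygi43 zgi15) (kgi xgi11 ygi25 zgi24) (kgi xgi13 ygi58 zgi48) (kgi xgi18 ygi37 zgi11) (kgi xgi10 ygi5 zgi27) (kgi xgi12 ygi32 zgi0) (kgi xgi17 ygi34 zgi48) (kgi xgi17 ygi5 zgi53) (kgi xgi10 ygi5 zgi32) (kgi xgi12 ygi32 zgi22) (kgi xgi12 ygi56 zgi20) (kgi xgi10 ygi5 zgi50) (kgi xgi18 ygi24 zgi39) (kgi xgi17 ygi3 zgi12) (kgi xgi21 ygi7 zgi2) (kgi xgi21 ygi28 zgi27) (kgi xgi20 ygi51 zgi37) (kgi xgi17 ygi7 zgi20) (kgi xgi21 ygi20 zgi52) (kgi xgi27 ygi56 zgi36) (kgi xgi21 ygi20 zgi50) (kgi xgi17 ygi3 zgi50) (kgi xgi18 ygi24 zgi10) (kgi xgi23 ygi26 zgi1) (kgi xgi11 ygi26 zgi60) (kgi xgi18 ygi19 zgi5) (kgi xgi20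 ygi13 zgi30) (kgi xgi17 ygi3 zgi30) (kgi xgi10 ygi5 zgi46) (kgi xgi22 ygi11 zgi9) (kgi xgi12 ygi31 zgi37) (kgi xgi18 ygi24 zgi37) (kgi xgi11 ygi57 zgi60) (kgi xgi21 ygi41 zgi56) (kgi xgi20 ygi34 zgi55) (kgi xgi20 ygi26 zgi27) (kgi xgi12 ygi15 zgi10) (kgi xgi25 ygi39 zgi25) (kgi xgi10 ygi6 zgi9) (kgi xgi11 ygi57 zgi35) (kgi xgi25 ygi23 zgi50) (kgi xgi18 ygi23 zgi35) (kgi xgi10 ygi5 zgi57) (kgi xgi18 ygi37 zgi41) (kgi xgi20 ygi34 zgi54) (kgi xgi10 ygi5 zgi58) (kgi xgi10 ygi6 zgi33) (kgi xgi28 ygi1 zgi10) (kgi xgi18 ygi43 zgi42) (kgi xgi18 ygi43 zgi37) (kgi xgi20 ygi40 zgi30) (kgi xgi17 ygi9 zgi26) (kgi xgi28 ygi1 zgi14) (kgi xgi10 ygi6 zgi3) (kgi xgi23 ygi38 zgi9) (kgi xgi12 ygi32 zgi1) (kgi xgi10 ygi6 zgi6) (kgi xgi14 ygi26 zgi58)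 (kgi xgi22 ygi8 zgi32)) (@D3.rec (fun _ => Pt) (kgi xgi28 ygi1 zgi17) (kgi xgi10 ygi6 zgi7) (kgi xgi10 ygi6 zgi8) (kgi xgi22 ygi3 zgi20) (kgi xgi22 ygi40 zgi21) (kgi xgi28 ygi1 zgi8) (kgi xgi10 ygi6 zgi21) (kgi xgi20 ygi0 zgi54) (kgi xgi17 ygi56 zgi37) (kgi xgi26 ygi59 zgi7) (kgi xgi20 ygi1 zgi40) (kgi xgi19 ygi58 zgi38) (kgi xgi18 ygi21 zgi9) (kgi xgi17 ygi19 zgi3) (kgi xgi10 ygi6 zgi13) (kgi xgi23 ygi38 zgi8) (kgi xgi14 ygi33 zgi10) (kgi xgi11 ygi10 zgi25) (kgi xgi14 ygi36 zgi59) (kgi xgi21 ygi44 zgi11) (kgi xgi20 ygi52 zgi26) (kgi xgi18 ygi39 zgi35) (kgi xgi11 ygi18 zgi10) (kgi xgi21 ygi51 zgi3) (kgi xgi18 ygi43 zgi40) (kgi xgi20 ygi14 zgi28) (kgi xgi24 ygi19 zgi7) (kgi xgi21 ygi51 zgi20) (kgi xgi27 ygi56 zgi27) (kgi xgi21 ygi20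 zgi12) (kgi xgi14 ygi55 zgi56) (kgi xgi11 ygi38 zgi29) (kgi xgi28 ygi1 zgi30) (kgi xgi20 ygi14 zgi16) (kgi xgi11 ygi38 zgi21) (kgi xgi21 ygi49 zgi61) (kgi xgi21 ygi46 zgi15) (kgi xgi10 ygi6 zgi32) (kgi xgi28 ygi1 zgi11) (kgi xgi12 ygi42 zgi34) (kgi xgi28 ygi1 zgi9) (kgi xgi28 ygi1 zgi32) (kgi xgi25 ygi23 zgi48) (kgi xgi10 ygi6 zgi38) (kgi xgi20 ygi51 zgi55) (kgi xgi16 ygi59 zgi28) (kgi xgi10 ygi6 zgi41) (kgi xgi11 ygi31 zgi22) (kgi xgi20 ygi22 zgi59) (kgi xgi19 ygi58 zgi32) (kgi xgi21 ygi3 zgi12) (kgi xgi15 ygi27 zgi11) (kgi xgi21 ygi3 zgi8) (kgi xgi11 ygi32 zgi27) (kgi xgi11 ygi9 zgi58) (kgi xgi26 ygi26 zgi22) (kgi xgi11 ygi58 zgi16) (kgi xgi11 ygi22 zgi15) (kgi xgi15 ygi27 zgi6) (kgi xgi18 ygi26 zgi23) (kgi xgi23 ygi42 zgi32) (kgi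 xgi21 ygi3 zgi15)) (@D3.rec (fun _ => Pt) (kgi xgi10 ygi6 zgi52) (kgi xgi18 ygi2 zgi18) (kgi xgi10 ygi6 zgi58) (kgi xgi11 ygi22 zgi11) (kgi xgi20 ygi35 zgi61) (kgi xgi11 ygi31 zgi19) (kgi xgi28 ygi1 zgi39) (kgi xgi10 ygi7 zgi2) (kgi xgi13 ygi20 zgi47) (kgi xgi27 ygi29 zgi39) (kgi xgi24 ygi33 zgi14) (kgi xgi10 ygi7 zgi3) (kgi xgi18 ygi37 zgi52) (kgi xgi10 ygi7 zgi4) (kgi xgi18 ygi37 zgi16) (kgi xgi12 ygi4 zgi16) (kgi xgi28 ygi1 zgi31) (kgi xgi21 ygi45 zgi28) (kgi xgi12 ygi13 zgi35) (kgi xgi18 ygi37 zgi47) (kgi xgi20 ygi42 zgi25) (kgi xgi10 ygi7 zgi10) (kgi xgi12 ygi30 zgi56) (kgi xgi18 ygi25 zgi56) (kgi xgi17 ygi23 zgi13) (kgi xgi10 ygi7 zgi21) (kgi xgi20 ygi59 zgi34) (kgi xgi25 ygi24 zgi7) (kgi xgi10 ygi7 zgi27) (kgi xgi17 ygi44 zgi22)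 (kgi xgi25 ygi0 zgi14) (kgi xgi15 ygi12 zgi13) (kgi xgi26 ygi14 zgi11) (kgi xgi22 ygi28 zgi25) (kgi xgi10 ygi7 zgi29) (kgi xgi18 ygi5 zgi36) (kgi xgi16 ygi20 zgi7) (kgi xgi10 ygi7 zgi54) (kgi xgi10 ygi7 zgi37) (kgi xgi18 ygi5 zgi34) (kgi xgi10 ygi7 zgi33) (kgi xgi18 ygi9 zgi59) (kgi xgi18 ygi9 zgi57) (kgi xgi18 ygi29 zgi16) (kgi xgi13 ygi51 zgi34) (kgi xgi10 ygi7 zgi35) (kgi xgi24 ygi58 zgi47) (kgi xgi23 ygi43 zgi9) (kgi xgi14 ygi8 zgi32) (kgi xgi28 ygi1 zgi55) (kgi xgi28 ygi1 zgi58) (kgi xgi18 ygi10 zgi0) (kgi xgi10 ygi7 zgi38) (kgi xgi18 ygi40 zgi33) (kgi xgi18 ygi40 zgi31) (kgi xgi25 ygi3 zgi49) (kgi xgi23 ygi22 zgi41) (kgi xgi18 ygi28 zgi42) (kgi xgi28 ygi2 zgi1) (kgi xgi13 ygi21 zgi60) (kgi xgi15 ygi11 zgi44) (kgi xgi26 ygi15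 zgi51)) (@D3.rec (fun _ => Pt) (kgi xgi19 ygi4 zgi31) (kgi xgi18 ygi28 zgi5) (kgi xgi25 ygi0 zgi20) (kgi xgi10 ygi7 zgi44) (kgi xgi25 ygi0 zgi19) (kgi xgi23 ygi17 zgi9) (kgi xgi10 ygi7 zgi46) (kgi xgi10 ygi7 zgi61) (kgi xgi24 ygi59 zgi14) (kgi xgi28 ygi1 zgi52) (kgi xgi28 ygi2 zgi17) (kgi xgi18 ygi30 zgi28) (kgi xgi10 ygi7 zgi49) (kgi xgi24 ygi29 zgi34) (kgi xgi25 ygi1 zgi34) (kgi xgi14 ygi39 zgi6) (kgi xgi25 ygi3 zgi36) (kgi xgi13 ygi40 zgi60) (kgi xgi28 ygi2 zgi28) (kgi xgi18 ygi4 zgi41) (kgi xgi10 ygi7 zgi57) (kgi xgi18 ygi12 zgi28) (kgi xgi18 ygi10 zgi7) (kgi xgi18 ygi28 zgi37) (kgi xgi18 ygi5 zgi23) (kgi xgi17 ygi38 zgi6) (kgi xgi10 ygi8 zgi0) (kgi xgi24 ygi29 zgi31) (kgi xgi16 ygi18 zgi38) (kgi xgi26 ygi12 zgi10) (kgi xgi10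 ygi8 zgi1) (kgi xgi25 ygi0 zgi26) (kgi xgi28 ygi2 zgi34) (kgi xgi27 ygi29 zgi9) (kgi xgi24 ygi44 zgi34) (kgi xgi18 ygi4 zgi42) (kgi xgi27 ygi49 zgi9) (kgi xgi27 ygi35 zgi41) (kgi xgi27 ygi24 zgi40) (kgi xgi18 ygi4 zgi37) (kgi xgi27 ygi31 zgi46) (kgi xgi27 ygi26 zgi42) (kgi xgi10 ygi8 zgi11) (kgi xgi16 ygi50 zgi49) (kgi xgi25 ygi38 zgi24) (kgi xgi15 ygi44 zgi45) (kgi xgi18 ygi17 zgi61) (kgi xgi10 ygi8 zgi13) (kgi xgi18 ygi18 zgi17) (kgi xgi18 ygi18 zgi15) (kgi xgi10 ygi8 zgi14) (kgi xgi10 ygi21 zgi33) (kgi xgi10 ygi21 zgi31) (kgi xgi23 ygi23 zgi1) (kgi xgi28 ygi2 zgi44) (kgi xgi10 ygi21 zgi30) (kgi xgi28 ygi2 zgi47) (kgi xgi10 ygi20 zgi61) (kgi xgi15 ygi51 zgi42) (kgi xgi17 ygi45 zgi37) (kgi xgi24 ygi1 zgi49) (kgi xgi16 ygi21 zgi53))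 (@D3.rec (fun _ => Pt) (kgi xgi10 ygi13 zgi39) (kgi xgi18 ygi49 zgi57) (kgi xgi18 ygi8 zgi48) (kgi xgi18 ygi4 zgi0) (kgi xgi18 ygi29 zgi33) (kgi xgi18 ygi26 zgi60) (kgi xgi16 ygi18 zgi16) (kgi xgi10 ygi8 zgi23) (kgi xgi25 ygi0 zgi49) (kgi xgi28 ygi2 zgi60) (kgi xgi25 ygi2 zgi56) (kgi xgi23 ygi51 zgi30) (kgi xgi28 ygi3 zgi2) (kgi xgi22 ygi35 zgi12) (kgi xgi15 ygi10 zgi49) (kgi xgi22 ygi55 zgi49) (kgi xgi15 ygi14 zgi51) (kgi xgi28 ygi3 zgi7) (kgi xgi10 ygi8 zgi27) (kgi xgi25 ygi0 zgi37) (kgi xgi19 ygi6 zgi31) (kgi xgi24 ygi59 zgi25) (kgi xgi25 ygi1 zgi18) (kgi xgi28 ygi3 zgi14) (kgi xgi16 ygi23 zgi10) (kgi xgi28 ygi3 zgi13) (kgi xgi25 ygi0 zgi44) (kgi xgi28 ygi3 zgi18) (kgi xgi15 ygi5 zgi56) (kgi xgi25 ygi0 zgi60) (kgi xgi28 ygi2 zgi20)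 (kgi xgi15 ygi53 zgi58) (kgi xgi28 ygi3 zgi26) (kgi xgi28 ygi3 zgi23) (kgi xgi15 ygi19 zgi49) (kgi xgi16 ygi22 zgi13) (kgi xgi10 ygi13 zgi28) (kgi xgi16 ygi17 zgi46) (kgi xgi28 ygi3 zgi29) (kgi xgi10 ygi8 zgi42) (kgi xgi25 ygi0 zgi33) (kgi xgi25 ygi2 zgi1) (kgi xgi24 ygi31 zgi22) (kgi xgi10 ygi8 zgi43) (kgi xgi27 ygi39 zgi38) (kgi xgi16 ygi18 zgi39) (kgi xgi16 ygi17 zgi47) (kgi xgi14 ygi57 zgi46) (kgi xgi25 ygi3 zgi27) (kgi xgi10 ygi9 zgi12) (kgi xgi19 ygi42 zgi10) (kgi xgi25 ygi1 zgi15) (kgi xgi26 ygi32 zgi59) (kgi xgi25 ygi2 zgi60) (kgi xgi10 ygi9 zgi19) (kgi xgi18 ygi8 zgi39) (kgi xgi19 ygi6 zgi35) (kgi xgi25 ygi3 zgi23) (kgi xgi25 ygi1 zgi20) (kgi xgi10 ygi8 zgi53) (kgi xgi18 ygi5 zgi55) (kgi xgi25 ygi3 zgi32)) (@D3.rec (fun _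 => Pt) (kgi xgi25 ygi0 zgi53) (kgi xgi28 ygi3 zgi38) (kgi xgi18 ygi31 zgi56) (kgi xgi25 ygi1 zgi10) (kgi xgi10 ygi25 zgi58) (kgi xgi10 ygi9 zgi21) (kgi xgi10 ygi9 zgi4) (kgi xgi22 ygi14 zgi55) (kgi xgi25 ygi1 zgi17) (kgi xgi28 ygi3 zgi43) (kgi xgi23 ygi2 zgi12) (kgi xgi10 ygi8 zgi60) (kgi xgi15 ygi50 zgi31) (kgi xgi28 ygi3 zgi46) (kgi xgi18 ygi8 zgi6) (kgi xgi25 ygi0 zgi54) (kgi xgi12 ygi19 zgi55) (kgi xgi27 ygi31 zgi9) (kgi xgi23 ygi42 zgi48) (kgi xgi16 ygi15 zgi44) (kgi xgi10 ygi9 zgi5) (kgi xgi18 ygi13 zgi60) (kgi xgi10 ygi12 zgi37) (kgi xgi10 ygi9 zgi6) (kgi xgi22 ygi12 zgi24) (kgi xgi25 ygi16 zgi20) (kgi xgi18 ygi26 zgi43) (kgi xgi10 ygi9 zgi7) (kgi xgi28 ygi3 zgi37) (kgi xgi18 ygi14 zgi10) (kgi xgi18 ygi15 zgi24) (kgi xgi10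 ygi9 zgi9) (kgi xgi28 ygi2 zgi38) (kgi xgi18 ygi28 zgi1) (kgi xgi25 ygi3 zgi4) (kgi xgi23 ygi50 zgi17) (kgi xgi12 ygi47 zgi41) (kgi xgi28 ygi3 zgi61) (kgi xgi23 ygi44 zgi59) (kgi xgi21 ygi26 zgi17) (kgi xgi28 ygi3 zgi31) (kgi xgi21 ygi31 zgi27) (kgi xgi28 ygi3 zgi32) (kgi xgi23 ygi43 zgi12) (kgi xgi21 ygi25 zgi30) (kgi xgi21 ygi6 zgi21) (kgi xgi28 ygi2 zgi54) (kgi xgi28 ygi4 zgi3) (kgi xgi23 ygi43 zgi56) (kgi xgi23 ygi43 zgi11) (kgi xgi22 ygi46 zgi10) (kgi xgi23 ygi2 zgi14) (kgi xgi23 ygi44 zgi34) (kgi xgi23 ygi44 zgi35) (kgi xgi10 ygi9 zgi18) (kgi xgi18 ygi7 zgi30) (kgi xgi28 ygi3 zgi1) (kgi xgi25 ygi0 zgi56) (kgi xgi12 ygi21 zgi56) (kgi xgi10 ygi9 zgi20) (kgi xgi23 ygi43 zgi28) (kgi xgi25 ygi0 zgi50)) (@D3.rec (fun _ => Pt) (kgi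 xgi28 ygi4 zgi11) (kgi xgi23 ygi43 zgi60) (kgi xgi25 ygi1 zgi25) (kgi xgi28 ygi4 zgi14) (kgi xgi25 ygi1 zgi22) (kgi xgi28 ygi3 zgi4) (kgi xgi28 ygi4 zgi17) (kgi xgi23 ygi44 zgi13) (kgi xgi13 ygi37 zgi16) (kgi xgi26 ygi14 zgi27) (kgi xgi15 ygi14 zgi47) (kgi xgi25 ygi0 zgi35) (kgi xgi26 ygi13 zgi45) (kgi xgi18 ygi6 zgi39) (kgi xgi18 ygi7 zgi16) (kgi xgi28 ygi4 zgi20) (kgi xgi17 ygi40 zgi30) (kgi xgi10 ygi9 zgi28) (kgi xgi18 ygi4 zgi14) (kgi xgi28 ygi3 zgi36) (kgi xgi18 ygi26 zgi27) (kgi xgi25 ygi0 zgi48) (kgi xgi26 ygi18 zgi18) (kgi xgi18 ygi27 zgi11) (kgi xgi25 ygi45 zgi16) (kgi xgi18 ygi14 zgi60) (kgi xgi28 ygi4 zgi27) (kgi xgi24 ygi56 zgi0) (kgi xgi26 ygi12 zgi56) (kgi xgi10 ygi9 zgi37) (kgi xgi15 ygi0 zgi43) (kgi xgi15 ygi0 zgi41)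 (kgi xgi26 ygi30 zgi40) (kgi xgi28 ygi4 zgi36) (kgi xgi19 ygi10 zgi24) (kgi xgi27 ygi35 zgi16) (kgi xgi10 ygi9 zgi40) (kgi xgi18 ygi11 zgi23) (kgi xgi18 ygi11 zgi21) (kgi xgi28 ygi4 zgi46) (kgi xgi27 ygi55 zgi1) (kgi xgi28 ygi4 zgi50) (kgi xgi10 ygi10 zgi12) (kgi xgi27 ygi34 zgi17) (kgi xgi10 ygi10 zgi9) (kgi xgi28 ygi4 zgi53) (kgi xgi28 ygi4 zgi55) (kgi xgi24 ygi16 zgi53) (kgi xgi10 ygi9 zgi48) (kgi xgi18 ygi11 zgi30) (kgi xgi18 ygi11 zgi28) (kgi xgi24 ygi48 zgi10) (kgi xgi22 ygi49 zgi46) (kgi xgi25 ygi48 zgi7) (kgi xgi10 ygi9 zgi50) (kgi xgi18 ygi11 zgi44) (kgi xgi17 ygi47 zgi27) (kgi xgi18 ygi11 zgi41) (kgi xgi10 ygi9 zgi60) (kgi xgi18 ygi11 zgi61) (kgi xgi28 ygi5 zgi9) (kgi xgi10 ygi9 zgi56)) (@D3.rec (fun _ => Pt) (kgi xgi18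 ygi11 zgi37) (kgi xgi18 ygi11 zgi35) (kgi xgi27 ygi51 zgi25) (kgi xgi10 ygi40 zgi60) (kgi xgi28 ygi5 zgi16) (kgi xgi10 ygi11 zgi9) (kgi xgi19 ygi5 zgi16) (kgi xgi10 ygi9 zgi59) (kgi xgi18 ygi11 zgi49) (kgi xgi18 ygi11 zgi47) (kgi xgi28 ygi5 zgi28) (kgi xgi18 ygi10 zgi14) (kgi xgi10 ygi9 zgi61) (kgi xgi18 ygi11 zgi56) (kgi xgi18 ygi11 zgi54) (kgi xgi27 ygi34 zgi13) (kgi xgi28 ygi5 zgi34) (kgi xgi28 ygi5 zgi35) (kgi xgi18 ygi10 zgi6) (kgi xgi27 ygi59 zgi14) (kgi xgi26 ygi18 zgi49) (kgi xgi28 ygi5 zgi40) (kgi xgi18 ygi12 zgi9) (kgi xgi10 ygi10 zgi4) (kgi xgi18 ygi12 zgi7) (kgi xgi27 ygi2 zgi47) (kgi xgi18 ygi9 zgi15) (kgi xgi28 ygi5 zgi24) (kgi xgi28 ygi5 zgi49) (kgi xgi17 ygi26 zgi2) (kgi xgi28 ygi5 zgi53) (kgi xgi10 ygi10 zgi8) (kgi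 xgi28 ygi4 zgi52) (kgi xgi28 ygi6 zgi1) (kgi xgi28 ygi4 zgi49) (kgi xgi28 ygi5 zgi25) (kgi xgi17 ygi45 zgi55) (kgi xgi20 ygi10 zgi54) (kgi xgi17 ygi47 zgi17) (kgi xgi27 ygi33 zgi39) (kgi xgi10 ygi10 zgi11) (kgi xgi27 ygi54 zgi37) (kgi xgi28 ygi6 zgi13) (kgi xgi10 ygi10 zgi14) (kgi xgi28 ygi4 zgi57) (kgi xgi27 ygi33 zgi7) (kgi xgi18 ygi30 zgi20) (kgi xgi28 ygi6 zgi18) (kgi xgi17 ygi47 zgi35) (kgi xgi28 ygi5 zgi2) (kgi xgi10 ygi10 zgi18) (kgi xgi18 ygi4 zgi46) (kgi xgi18 ygi4 zgi44) (kgi xgi17 ygi30 zgi35) (kgi xgi10 ygi10 zgi19) (kgi xgi18 ygi4 zgi40) (kgi xgi15 ygi11 zgi57) (kgi xgi10 ygi20 zgi27) (kgi xgi15 ygi16 zgi35) (kgi xgi18 ygi5 zgi16) (kgi xgi18 ygi4 zgi55) (kgi xgi18 ygi1 zgi15)) (@D3.rec (fun _ => Pt) (kgi xgi10 ygi16 zgi52)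 (kgi xgi18 ygi32 zgi24) (kgi xgi18 ygi11 zgi12) (kgi xgi28 ygi6 zgi34) (kgi xgi10 ygi10 zgi25) (kgi xgi28 ygi6 zgi35) (kgi xgi28 ygi6 zgi33) (kgi xgi10 ygi16 zgi57) (kgi xgi10 ygi12 zgi18) (kgi xgi10 ygi10 zgi61) (kgi xgi17 ygi50 zgi51) (kgi xgi24 ygi45 zgi8) (kgi xgi10 ygi10 zgi50) (kgi xgi10 ygi15 zgi10) (kgi xgi18 ygi33 zgi40) (kgi xgi18 ygi10 zgi20) (kgi xgi23 ygi6 zgi26) (kgi xgi10 ygi10 zgi34) (kgi xgi10 ygi10 zgi37) (kgi xgi28 ygi6 zgi51) (kgi xgi23 ygi53 zgi55) (kgi xgi28 ygi6 zgi56) (kgi xgi10 ygi10 zgi35) (kgi xgi18 ygi10 zgi15) (kgi xgi18 ygi31 zgi61) (kgi xgi16 ygi34 zgi41) (kgi xgi27 ygi55 zgi29) (kgi xgi27 ygi37 zgi43) (kgi xgi10 ygi11 zgi25) (kgi xgi26 ygi41 zgi3) (kgi xgi10 ygi11 zgi22) (kgi xgi18 ygi12 zgi52) (kgi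 xgi12 ygi12 zgi37) (kgi xgi11 ygi36 zgi7) (kgi xgi12 ygi31 zgi35) (kgi xgi10 ygi10 zgi42) (kgi xgi21 ygi33 zgi29) (kgi xgi12 ygi3 zgi1) (kgi xgi27 ygi55 zgi22) (kgi xgi27 ygi59 zgi33) (kgi xgi24 ygi48 zgi6) (kgi xgi28 ygi6 zgi25) (kgi xgi10 ygi10 zgi49) (kgi xgi18 ygi10 zgi18) (kgi xgi18 ygi11 zgi10) (kgi xgi18 ygi11 zgi9) (kgi xgi28 ygi7 zgi7) (kgi xgi12 ygi7 zgi11) (kgi xgi18 ygi58 zgi19) (kgi xgi22 ygi50 zgi57) (kgi xgi18 ygi9 zgi5) (kgi xgi28 ygi7 zgi9) (kgi xgi10 ygi10 zgi56) (kgi xgi18 ygi8 zgi60) (kgi xgi24 ygi48 zgi0) (kgi xgi18 ygi8 zgi57) (kgi xgi18 ygi9 zgi16) (kgi xgi10 ygi10 zgi59) (kgi xgi17 ygi44 zgi53) (kgi xgi28 ygi7 zgi21) (kgi xgi25 ygi34 zgi7) (kgi xgi18 ygi34 zgi3)) (@D3.rec (fun _ => Pt) (kgi xgi18 ygi8 zgi61)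 (kgi xgi27 ygi34 zgi6) (kgi xgi12 ygi2 zgi22) (kgi xgi18 ygi12 zgi15) (kgi xgi21 ygi12 zgi37) (kgi xgi28 ygi7 zgi27) (kgi xgi18 ygi9 zgi30) (kgi xgi18 ygi12 zgi3) (kgi xgi10 ygi11 zgi3) (kgi xgi18 ygi9 zgi28) (kgi xgi28 ygi7 zgi34) (kgi xgi10 ygi11 zgi4) (kgi xgi20 ygi21 zgi15) (kgi xgi21 ygi12 zgi40) (kgi xgi10 ygi11 zgi5) (kgi xgi27 ygi33 zgi58) (kgi xgi22 ygi18 zgi6) (kgi xgi27 ygi33 zgi56) (kgi xgi21 ygi12 zgi42) (kgi xgi27 ygi39 zgi0) (kgi xgi10 ygi11 zgi7) (kgi xgi18 ygi35 zgi21) (kgi xgi28 ygi7 zgi49) (kgi xgi27 ygi33 zgi61) (kgi xgi19 ygi22 zgi35) (kgi xgi15 ygi48 zgi52) (kgi xgi15 ygi2 zgi7) (kgi xgi10 ygi14 zgi39) (kgi xgi15 ygi36 zgi49) (kgi xgi19 ygi20 zgi17) (kgi xgi10 ygi11 zgi12) (kgi xgi20 ygi5 zgi10) (kgi xgi28 ygi7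 zgi55) (kgi xgi10 ygi40 zgi46) (kgi xgi15 ygi29 zgi14) (kgi xgi18 ygi10 zgi41) (kgi xgi28 ygi7 zgi56) (kgi xgi19 ygi44 zgi18) (kgi xgi10 ygi11 zgi18) (kgi xgi12 ygi2 zgi60) (kgi xgi18 ygi32 zgi11) (kgi xgi17 ygi30 zgi34) (kgi xgi10 ygi28 zgi3) (kgi xgi28 ygi7 zgi59) (kgi xgi13 ygi30 zgi18) (kgi xgi18 ygi10 zgi45) (kgi xgi18 ygi57 zgi35) (kgi xgi26 ygi10 zgi43) (kgi xgi25 ygi12 zgi55) (kgi xgi26 ygi39 zgi43) (kgi xgi19 ygi44 zgi17) (kgi xgi10 ygi11 zgi28) (kgi xgi18 ygi10 zgi5) (kgi xgi14 ygi47 zgi46) (kgi xgi15 ygi18 zgi55) (kgi xgi10 ygi11 zgi31) (kgi xgi17 ygi34 zgi34) (kgi xgi10 ygi11 zgi32) (kgi xgi18 ygi14 zgi20) (kgi xgi18 ygi14 zgi18) (kgi xgi27 ygi51 zgi42) (kgi xgi28 ygi8 zgi11)) (@D3.rec (fun _ => Pt) (kgi xgi28 ygi8 zgi12)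 (kgi xgi10 ygi11 zgi34) (kgi xgi10 ygi11 zgi49) (kgi xgi24 ygi57 zgi18) (kgi xgi10 ygi11 zgi46) (kgi xgi15 ygi0 zgi37) (kgi xgi18 ygi9 zgi0) (kgi xgi19 ygi6 zgi27) (kgi xgi10 ygi11 zgi38) (kgi xgi10 ygi33 zgi5) (kgi xgi10 ygi33 zgi3) (kgi xgi27 ygi56 zgi35) (kgi xgi25 ygi26 zgi30) (kgi xgi10 ygi13 zgi27) (kgi xgi18 ygi17 zgi34) (kgi xgi27 ygi33 zgi43) (kgi xgi18 ygi14 zgi38) (kgi xgi28 ygi8 zgi30) (kgi xgi20 ygi18 zgi57) (kgi xgi26 ygi30 zgi49) (kgi xgi10 ygi11 zgi44) (kgi xgi28 ygi8 zgi32) (kgi xgi28 ygi8 zgi41) (kgi xgi27 ygi50 zgi16) (kgi xgi10 ygi11 zgi45) (kgi xgi27 ygi52 zgi60) (kgi xgi27 ygi52 zgi58) (kgi xgi24 ygi13 zgi14) (kgi xgi26 ygi20 zgi60) (kgi xgi28 ygi6 zgi41) (kgi xgi22 ygi50 zgi3) (kgi xgi28 ygi7 zgi18) (kgi xgi27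 ygi35 zgi21) (kgi xgi18 ygi31 zgi26) (kgi xgi20 ygi12 zgi3) (kgi xgi18 ygi32 zgi61) (kgi xgi19 ygi18 zgi12) (kgi xgi10 ygi11 zgi51) (kgi xgi28 ygi4 zgi32) (kgi xgi28 ygi7 zgi12) (kgi xgi24 ygi50 zgi46) (kgi xgi18 ygi52 zgi40) (kgi xgi18 ygi8 zgi47) (kgi xgi28 ygi9 zgi4) (kgi xgi28 ygi7 zgi14) (kgi xgi19 ygi42 zgi19) (kgi xgi27 ygi37 zgi0) (kgi xgi10 ygi11 zgi60) (kgi xgi28 ygi6 zgi50) (kgi xgi28 ygi9 zgi10) (kgi xgi10 ygi11 zgi58) (kgi xgi15 ygi0 zgi38) (kgi xgi28 ygi6 zgi48) (kgi xgi10 ygi12 zgi0) (kgi xgi10 ygi12 zgi4) (kgi xgi16 ygi7 zgi47) (kgi xgi10 ygi12 zgi1) (kgi xgi28 ygi9 zgi8) (kgi xgi27 ygi41 zgi30) (kgi xgi10 ygi12 zgi45) (kgi xgi18 ygi56 zgi50) (kgi xgi28 ygi9 zgi14)) (@D3.rec (fun _ => Pt) (kgi xgi28 ygi8 zgi0) (kgi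 xgi27 ygi38 zgi44) (kgi xgi15 ygi43 zgi46) (kgi xgi10 ygi42 zgi22) (kgi xgi21 ygi54 zgi36) (kgi xgi17 ygi4 zgi29) (kgi xgi18 ygi7 zgi33) (kgi xgi16 ygi20 zgi4) (kgi xgi24 ygi52 zgi27) (kgi xgi22 ygi11 zgi42) (kgi xgi10 ygi58 zgi23) (kgi xgi10 ygi13 zgi47) (kgi xgi10 ygi13 zgi49) (kgi xgi28 ygi6 zgi39) (kgi xgi17 ygi50 zgi18) (kgi xgi28 ygi8 zgi21) (kgi xgi27 ygi33 zgi50) (kgi xgi18 ygi58 zgi26) (kgi xgi28 ygi8 zgi26) (kgi xgi18 ygi13 zgi13) (kgi xgi18 ygi45 zgi37) (kgi xgi18 ygi33 zgi20) (kgi xgi10 ygi12 zgi26) (kgi xgi28 ygi7 zgi47) (kgi xgi27 ygi33 zgi59) (kgi xgi18 ygi58 zgi29) (kgi xgi17 ygi52 zgi53) (kgi xgi10 ygi12 zgi29) (kgi xgi27 ygi32 zgi9) (kgi xgi27 ygi50 zgi3) (kgi xgi17 ygi46 zgi35) (kgi xgi19 ygi6 zgi22) (kgi xgi28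 ygi9 zgi6) (kgi xgi27 ygi34 zgi59) (kgi xgi28 ygi6 zgi14) (kgi xgi18 ygi57 zgi57) (kgi xgi27 ygi56 zgi19) (kgi xgi10 ygi12 zgi41) (kgi xgi18 ygi57 zgi5) (kgi xgi17 ygi52 zgi54) (kgi xgi27 ygi38 zgi51) (kgi xgi10 ygi12 zgi47) (kgi xgi10 ygi13 zgi50) (kgi xgi24 ygi34 zgi16) (kgi xgi13 ygi20 zgi0) (kgi xgi10 ygi13 zgi51) (kgi xgi18 ygi26 zgi14) (kgi xgi28 ygi1 zgi2) (kgi xgi10 ygi12 zgi56) (kgi xgi19 ygi0 zgi3) (kgi xgi19 ygi1 zgi57) (kgi xgi28 ygi9 zgi40) (kgi xgi14 ygi52 zgi49) (kgi xgi10 ygi12 zgi54) (kgi xgi10 ygi22 zgi46) (kgi xgi10 ygi18 zgi54) (kgi xgi19 ygi1 zgi54) (kgi xgi14 ygi26 zgi14) (kgi xgi12 ygi2 zgi44) (kgi xgi14 ygi58 zgi23) (kgi xgi10 ygi12 zgi59) (kgi xgi10 ygi13 zgi6)) (@D3.rec (fun _ => Pt) (kgi xgi22 ygi51 zgi45)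 (kgi xgi18 ygi41 zgi23) (kgi xgi10 ygi13 zgi1) (kgi xgi24 ygi28 zgi19) (kgi xgi28 ygi9 zgi48) (kgi xgi24 ygi28 zgi30) (kgi xgi17 ygi25 zgi44) (kgi xgi28 ygi9 zgi38) (kgi xgi28 ygi9 zgi39) (kgi xgi28 ygi6 zgi40) (kgi xgi10 ygi13 zgi24) (kgi xgi18 ygi16 zgi23) (kgi xgi27 ygi38 zgi50) (kgi xgi23 ygi3 zgi41) (kgi xgi16 ygi20 zgi18) (kgi xgi21 ygi41 zgi3) (kgi xgi12 ygi16 zgi21) (kgi xgi17 ygi16 zgi58) (kgi xgi11 ygi46 zgi3) (kgi xgi11 ygi12 zgi23) (kgi xgi12 ygi55 zgi16) (kgi xgi10 ygi13 zgi12) (kgi xgi10 ygi13 zgi32) (kgi xgi17 ygi50 zgi26) (kgi xgi22 ygi51 zgi57) (kgi xgi10 ygi13 zgi16) (kgi xgi12 ygi27 zgi31) (kgi xgi16 ygi20 zgi33) (kgi xgi23 ygi6 zgi31) (kgi xgi16 ygi20 zgi19) (kgi xgi20 ygi0 zgi28) (kgi xgi23 ygi18 zgi11) (kgi xgi18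 ygi16 zgi47) (kgi xgi10 ygi15 zgi19) (kgi xgi16 ygi20 zgi21) (kgi xgi22 ygi12 zgi44) (kgi xgi16 ygi18 zgi7) (kgi xgi10 ygi13 zgi23) (kgi xgi18 ygi17 zgi19) (kgi xgi18 ygi15 zgi60) (kgi xgi28 ygi8 zgi39) (kgi xgi22 ygi15 zgi51) (kgi xgi27 ygi39 zgi30) (kgi xgi21 ygi55 zgi5) (kgi xgi21 ygi43 zgi59) (kgi xgi27 ygi20 zgi16) (kgi xgi12 ygi1 zgi17) (kgi xgi15 ygi8 zgi60) (kgi xgi22 ygi14 zgi53) (kgi xgi27 ygi58 zgi60) (kgi xgi10 ygi13 zgi35) (kgi xgi19 ygi23 zgi9) (kgi xgi28 ygi10 zgi1) (kgi xgi28 ygi9 zgi59) (kgi xgi15 ygi10 zgi52) (kgi xgi23 ygi43 zgi10) (kgi xgi18 ygi17 zgi13) (kgi xgi25 ygi16 zgi18) (kgi xgi15 ygi14 zgi49) (kgi xgi18 ygi54 zgi26) (kgi xgi23 ygi2 zgi4) (kgi xgi22 ygi18 zgi22)) (@D3.rec (fun _ => Pt) (kgi xgi18 ygi54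 zgi23) (kgi xgi10 ygi13 zgi40) (kgi xgi10 ygi13 zgi57) (kgi xgi28 ygi3 zgi30) (kgi xgi10 ygi13 zgi41) (kgi xgi27 ygi39 zgi35) (kgi xgi27 ygi20 zgi29) (kgi xgi10 ygi13 zgi44) (kgi xgi10 ygi13 zgi59) (kgi xgi28 ygi10 zgi8) (kgi xgi12 ygi1 zgi38) (kgi xgi10 ygi13 zgi45) (kgi xgi21 ygi32 zgi59) (kgi xgi17 ygi56 zgi41) (kgi xgi28 ygi6 zgi37) (kgi xgi18 ygi15 zgi36) (kgi xgi10 ygi14 zgi7) (kgi xgi18 ygi42 zgi56) (kgi xgi17 ygi42 zgi38) (kgi xgi28 ygi3 zgi11) (kgi xgi18 ygi12 zgi39) (kgi xgi26 ygi4 zgi17) (kgi xgi12 ygi56 zgi19) (kgi xgi25 ygi56 zgi20) (kgi xgi10 ygi13 zgi55) (kgi xgi25 ygi45 zgi38) (kgi xgi16 ygi7 zgi20) (kgi xgi17 ygi42 zgi41) (kgi xgi18 ygi26 zgi55) (kgi xgi22 ygi18 zgi54) (kgi xgi21 ygi25 zgi24) (kgi xgi10 ygi13 zgi58)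 (kgi xgi21 ygi4 zgi37) (kgi xgi21 ygi31 zgi23) (kgi xgi28 ygi10 zgi7) (kgi xgi20 ygi37 zgi51) (kgi xgi27 ygi22 zgi11) (kgi xgi21 ygi26 zgi27) (kgi xgi21 ygi36 zgi47) (kgi xgi21 ygi26 zgi20) (kgi xgi18 ygi29 zgi41) (kgi xgi18 ygi24 zgi45) (kgi xgi17 ygi13 zgi26) (kgi xgi12 ygi14 zgi1) (kgi xgi12 ygi1 zgi18) (kgi xgi10 ygi14 zgi8) (kgi xgi20 ygi13 zgi11) (kgi xgi10 ygi14 zgi6) (kgi xgi18 ygi26 zgi19) (kgi xgi18 ygi17 zgi21) (kgi xgi18 ygi26 zgi13) (kgi xgi28 ygi10 zgi17) (kgi xgi10 ygi14 zgi9) (kgi xgi18 ygi26 zgi12) (kgi xgi24 ygi22 zgi31) (kgi xgi18 ygi26 zgi11) (kgi xgi20 ygi16 zgi19) (kgi xgi12 ygi23 zgi25) (kgi xgi28 ygi10 zgi21) (kgi xgi17 ygi14 zgi28) (kgi xgi22 ygi46 zgi7) (kgi xgi12 ygi36 zgi2)) (@D3.rec (fun _ => Pt) (kgi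 xgi24 ygi39 zgi11) (kgi xgi21 ygi35 zgi13) (kgi xgi26 ygi57 zgi51) (kgi xgi12 ygi41 zgi5) (kgi xgi28 ygi10 zgi26) (kgi xgi16 ygi22 zgi60) (kgi xgi12 ygi47 zgi22) (kgi xgi12 ygi2 zgi20) (kgi xgi18 ygi16 zgi27) (kgi xgi28 ygi10 zgi27) (kgi xgi28 ygi9 zgi37) (kgi xgi18 ygi16 zgi8) (kgi xgi12 ygi2 zgi34) (kgi xgi17 ygi19 zgi0) (kgi xgi10 ygi14 zgi21) (kgi xgi21 ygi16 zgi46) (kgi xgi21 ygi18 zgi54) (kgi xgi10 ygi18 zgi59) (kgi xgi18 ygi17 zgi32) (kgi xgi12 ygi2 zgi39) (kgi xgi18 ygi17 zgi7) (kgi xgi10 ygi14 zgi28) (kgi xgi11 ygi31 zgi28) (kgi xgi12 ygi42 zgi59) (kgi xgi14 ygi12 zgi3) (kgi xgi18 ygi17 zgi30) (kgi xgi12 ygi43 zgi0) (kgi xgi11 ygi51 zgi0) (kgi xgi12 ygi38 zgi58) (kgi xgi10 ygi14 zgi35) (kgi xgi14 ygi15 zgi53) (kgi xgi18 ygi15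 zgi54) (kgi xgi18 ygi14 zgi35) (kgi xgi27 ygi50 zgi14) (kgi xgi27 ygi34 zgi15) (kgi xgi18 ygi31 zgi39) (kgi xgi18 ygi24 zgi23) (kgi xgi10 ygi14 zgi42) (kgi xgi18 ygi45 zgi61) (kgi xgi18 ygi58 zgi7) (kgi xgi26 ygi49 zgi53) (kgi xgi10 ygi14 zgi44) (kgi xgi16 ygi21 zgi42) (kgi xgi18 ygi21 zgi39) (kgi xgi28 ygi10 zgi39) (kgi xgi24 ygi57 zgi26) (kgi xgi28 ygi9 zgi41) (kgi xgi13 ygi49 zgi39) (kgi xgi10 ygi14 zgi57) (kgi xgi28 ygi10 zgi41) (kgi xgi24 ygi28 zgi29) (kgi xgi27 ygi51 zgi7) (kgi xgi10 ygi14 zgi58) (kgi xgi18 ygi58 zgi47) (kgi xgi28 ygi10 zgi50) (kgi xgi18 ygi58 zgi44) (kgi xgi27 ygi55 zgi44) (kgi xgi18 ygi56 zgi40) (kgi xgi27 ygi57 zgi31) (kgi xgi16 ygi35 zgi41) (kgi xgi19 ygi2 zgi33) (kgi xgi18 ygi58 zgi53)) (@D3.rec (fun _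 => Pt) (kgi xgi26 ygi25 zgi15) (kgi xgi18 ygi39 zgi33) (kgi xgi10 ygi15 zgi2) (kgi xgi10 ygi28 zgi57) (kgi xgi26 ygi32 zgi32) (kgi xgi28 ygi10 zgi60) (kgi xgi16 ygi35 zgi52) (kgi xgi18 ygi19 zgi29) (kgi xgi10 ygi16 zgi37) (kgi xgi28 ygi11 zgi4) (kgi xgi18 ygi12 zgi1) (kgi xgi28 ygi11 zgi7) (kgi xgi10 ygi15 zgi11) (kgi xgi10 ygi15 zgi14) (kgi xgi16 ygi21 zgi19) (kgi xgi10 ygi15 zgi13) (kgi xgi17 ygi48 zgi21) (kgi xgi10 ygi31 zgi36) (kgi xgi28 ygi8 zgi2) (kgi xgi23 ygi7 zgi36) (kgi xgi21 ygi53 zgi14) (kgi xgi10 ygi15 zgi16) (kgi xgi10 ygi15 zgi20) (kgi xgi17 ygi14 zgi38) (kgi xgi10 ygi15 zgi17) (kgi xgi28 ygi11 zgi8) (kgi xgi17 ygi48 zgi18) (kgi xgi28 ygi11 zgi12) (kgi xgi18 ygi36 zgi26) (kgi xgi12 ygi2 zgi28) (kgi xgi10 ygi21 zgi37)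 (kgi xgi23 ygi49 zgi4) (kgi xgi20 ygi32 zgi21) (kgi xgi10 ygi28 zgi22) (kgi xgi11 ygi18 zgi46) (kgi xgi20 ygi33 zgi35) (kgi xgi13 ygi2 zgi3) (kgi xgi12 ygi29 zgi24) (kgi xgi11 ygi21 zgi4) (kgi xgi16 ygi59 zgi55) (kgi xgi16 ygi59 zgi56) (kgi xgi26 ygi59 zgi37) (kgi xgi26 ygi46 zgi38) (kgi xgi11 ygi51 zgi4) (kgi xgi10 ygi15 zgi33) (kgi xgi16 ygi8 zgi25) (kgi xgi10 ygi15 zgi35) (kgi xgi20 ygi17 zgi45) (kgi xgi11 ygi50 zgi11) (kgi xgi10 ygi15 zgi37) (kgi xgi27 ygi1 zgi6) (kgi xgi10 ygi15 zgi39) (kgi xgi18 ygi19 zgi27) (kgi xgi10 ygi15 zgi41) (kgi xgi18 ygi17 zgi54) (kgi xgi18 ygi17 zgi52) (kgi xgi18 ygi53 zgi50) (kgi xgi10 ygi15 zgi44) (kgi xgi18 ygi18 zgi3) (kgi xgi18 ygi18 zgi1) (kgi xgi10 ygi15 zgi45) (kgi xgi15 ygi15 zgi0)) (@D3.rec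 (fun _ => Pt) (kgi xgi10 ygi15 zgi49) (kgi xgi18 ygi18 zgi10) (kgi xgi18 ygi18 zgi8) (kgi xgi15 ygi47 zgi29) (kgi xgi22 ygi45 zgi25) (kgi xgi28 ygi11 zgi25) (kgi xgi14 ygi1 zgi8) (kgi xgi25 ygi38 zgi38) (kgi xgi18 ygi18 zgi27) (kgi xgi10 ygi15 zgi53) (kgi xgi18 ygi18 zgi26) (kgi xgi26 ygi22 zgi40) (kgi xgi13 ygi46 zgi40) (kgi xgi10 ygi15 zgi54) (kgi xgi23 ygi59 zgi25) (kgi xgi13 ygi56 zgi3) (kgi xgi10 ygi15 zgi55) (kgi xgi18 ygi19 zgi20) (kgi xgi28 ygi11 zgi49) (kgi xgi18 ygi19 zgi17) (kgi xgi28 ygi11 zgi28) (kgi xgi19 ygi55 zgi15) (kgi xgi10 ygi15 zgi57) (kgi xgi19 ygi55 zgi14) (kgi xgi28 ygi11 zgi61) (kgi xgi26 ygi8 zgi35) (kgi xgi24 ygi23 zgi49) (kgi xgi26 ygi47 zgi48) (kgi xgi16 ygi12 zgi51) (kgi xgi28 ygi12 zgi3) (kgi xgi18 ygi3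 zgi37) (kgi xgi10 ygi16 zgi4) (kgi xgi18 ygi26 zgi54) (kgi xgi18 ygi26 zgi52) (kgi xgi10 ygi16 zgi5) (kgi xgi18 ygi18 zgi53) (kgi xgi18 ygi18 zgi51) (kgi xgi11 ygi35 zgi22) (kgi xgi13 ygi50 zgi59) (kgi xgi24 ygi31 zgi3) (kgi xgi18 ygi18 zgi49) (kgi xgi18 ygi18 zgi47) (kgi xgi10 ygi16 zgi17) (kgi xgi11 ygi33 zgi33) (kgi xgi23 ygi14 zgi58) (kgi xgi25 ygi3 zgi6) (kgi xgi10 ygi16 zgi16) (kgi xgi26 ygi33 zgi6) (kgi xgi27 ygi3 zgi33) (kgi xgi24 ygi59 zgi39) (kgi xgi22 ygi53 zgi39) (kgi xgi10 ygi16 zgi18) (kgi xgi16 ygi28 zgi2) (kgi xgi16 ygi28 zgi6) (kgi xgi10 ygi16 zgi19) (kgi xgi18 ygi19 zgi15) (kgi xgi12 ygi48 zgi18) (kgi xgi10 ygi16 zgi20) (kgi xgi18 ygi18 zgi37) (kgi xgi14 ygi1 zgi54) (kgi xgi18 ygi18 zgi34) (kgi xgi15 ygi29 zgi41))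 (@D3.rec (fun _ => Pt) (kgi xgi17 ygi15 zgi24) (kgi xgi27 ygi58 zgi52) (kgi xgi28 ygi12 zgi33) (kgi xgi14 ygi8 zgi27) (kgi xgi26 ygi28 zgi25) (kgi xgi16 ygi27 zgi60) (kgi xgi10 ygi16 zgi25) (kgi xgi18 ygi19 zgi31) (kgi xgi11 ygi23 zgi7) (kgi xgi28 ygi12 zgi39) (kgi xgi10 ygi16 zgi27) (kgi xgi18 ygi19 zgi41) (kgi xgi18 ygi19 zgi39) (kgi xgi16 ygi35 zgi60) (kgi xgi23 ygi7 zgi14) (kgi xgi10 ygi16 zgi29) (kgi xgi18 ygi19 zgi36) (kgi xgi10 ygi28 zgi50) (kgi xgi18 ygi19 zgi33) (kgi xgi18 ygi19 zgi51) (kgi xgi10 ygi16 zgi32) (kgi xgi16 ygi24 zgi25) (kgi xgi13 ygi39 zgi6) (kgi xgi28 ygi12 zgi49) (kgi xgi20 ygi8 zgi41) (kgi xgi26 ygi38 zgi29) (kgi xgi22 ygi49 zgi41) (kgi xgi10 ygi28 zgi35) (kgi xgi18 ygi19 zgi37) (kgi xgi18 ygi21 zgi58) (kgi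 xgi26 ygi18 zgi31) (kgi xgi13 ygi40 zgi52) (kgi xgi22 ygi47 zgi12) (kgi xgi21 ygi29 zgi5) (kgi xgi20 ygi31 zgi56) (kgi xgi28 ygi12 zgi59) (kgi xgi10 ygi16 zgi50) (kgi xgi10 ygi34 zgi40) (kgi xgi25 ygi48 zgi13) (kgi xgi18 ygi9 zgi22) (kgi xgi27 ygi36 zgi18) (kgi xgi10 ygi16 zgi53) (kgi xgi10 ygi16 zgi56) (kgi xgi22 ygi54 zgi23) (kgi xgi10 ygi16 zgi55) (kgi xgi18 ygi20 zgi43) (kgi xgi18 ygi10 zgi31) (kgi xgi27 ygi36 zgi24) (kgi xgi15 ygi24 zgi35) (kgi xgi13 ygi31 zgi0) (kgi xgi18 ygi20 zgi42) (kgi xgi18 ygi20 zgi41) (kgi xgi17 ygi50 zgi41) (kgi xgi10 ygi54 zgi11) (kgi xgi19 ygi23 zgi45) (kgi xgi10 ygi54 zgi29) (kgi xgi15 ygi19 zgi28) (kgi xgi10 ygi17 zgi6) (kgi xgi19 ygi40 zgi34) (kgi xgi17 ygi31 zgi47) (kgi xgi14 ygi39 zgi19) (kgi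 xgi20 ygi59 zgi29)) (@D3.rec (fun _ => Pt) (kgi xgi18 ygi49 zgi35) (kgi xgi22 ygi22 zgi31) (kgi xgi10 ygi17 zgi42) (kgi xgi17 ygi3 zgi20) (kgi xgi12 ygi33 zgi43) (kgi xgi21 ygi2 zgi57) (kgi xgi28 ygi13 zgi9) (kgi xgi10 ygi17 zgi13) (kgi xgi19 ygi52 zgi42) (kgi xgi20 ygi37 zgi48) (kgi xgi17 ygi3 zgi28) (kgi xgi20 ygi26 zgi1) (kgi xgi17 ygi0 zgi2) (kgi xgi18 ygi22 zgi37) (kgi xgi11 ygi2 zgi4) (kgi xgi12 ygi31 zgi9) (kgi xgi20 ygi26 zgi12) (kgi xgi18 ygi43 zgi23) (kgi xgi11 ygi45 zgi39) (kgi xgi18 ygi22 zgi46) (kgi xgi13 ygi59 zgi34) (kgi xgi13 ygi15 zgi9) (kgi xgi16 ygi34 zgi27) (kgi xgi18 ygi20 zgi4) (kgi xgi10 ygi17 zgi31) (kgi xgi19 ygi1 zgi29) (kgi xgi28 ygi13 zgi15) (kgi xgi27 ygi58 zgi55) (kgi xgi18 ygi39 zgi32) (kgi xgi10 ygi17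 zgi33) (kgi xgi13 ygi51 zgi37) (kgi xgi28 ygi13 zgi19) (kgi xgi10 ygi17 zgi34) (kgi xgi23 ygi33 zgi26) (kgi xgi28 ygi13 zgi26) (kgi xgi25 ygi44 zgi14) (kgi xgi11 ygi34 zgi38) (kgi xgi15 ygi29 zgi59) (kgi xgi24 ygi59 zgi19) (kgi xgi26 ygi20 zgi33) (kgi xgi13 ygi46 zgi56) (kgi xgi22 ygi28 zgi13) (kgi xgi10 ygi17 zgi37) (kgi xgi23 ygi20 zgi28) (kgi xgi23 ygi3 zgi10) (kgi xgi10 ygi17 zgi39) (kgi xgi10 ygi17 zgi47) (kgi xgi14 ygi16 zgi16) (kgi xgi17 ygi22 zgi23) (kgi xgi17 ygi2 zgi60) (kgi xgi28 ygi13 zgi43) (kgi xgi10 ygi17 zgi43) (kgi xgi17 ygi25 zgi32) (kgi xgi12 ygi24 zgi13) (kgi xgi10 ygi17 zgi48) (kgi xgi12 ygi47 zgi11) (kgi xgi18 ygi36 zgi39) (kgi xgi26 ygi52 zgi47) (kgi xgi16 ygi10 zgi25) (kgi xgi28 ygi13 zgi47) (kgi xgi10 ygi17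 zgi55) (kgi xgi17 ygi14 zgi59)) (@D3.rec (fun _ => Pt) (kgi xgi28 ygi13 zgi51) (kgi xgi18 ygi23 zgi48) (kgi xgi20 ygi52 zgi5) (kgi xgi10 ygi17 zgi60) (kgi xgi10 ygi18 zgi8) (kgi xgi10 ygi18 zgi0) (kgi xgi18 ygi23 zgi42) (kgi xgi20 ygi27 zgi55) (kgi xgi28 ygi13 zgi53) (kgi xgi12 ygi49 zgi15) (kgi xgi11 ygi30 zgi45) (kgi xgi21 ygi31 zgi44) (kgi xgi17 ygi31 zgi48) (kgi xgi11 ygi13 zgi59) (kgi xgi18 ygi22 zgi41) (kgi xgi18 ygi24 zgi9) (kgi xgi20 ygi2 zgi0) (kgi xgi11 ygi58 zgi15) (kgi xgi28 ygi13 zgi55) (kgi xgi12 ygi30 zgi19) (kgi xgi21 ygi51 zgi37) (kgi xgi15 ygi26 zgi33) (kgi xgi11 ygi33 zgi52) (kgi xgi26 ygi52 zgi58) (kgi xgi10 ygi18 zgi26) (kgi xgi13 ygi1 zgi55) (kgi xgi20 ygi22 zgi37) (kgi xgi12 ygi34 zgi60) (kgi xgi10 ygi45 zgi51)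 (kgi xgi10 ygi45 zgi37) (kgi xgi19 ygi27 zgi47) (kgi xgi10 ygi18 zgi35) (kgi xgi10 ygi18 zgi40) (kgi xgi10 ygi18 zgi38) (kgi xgi11 ygi37 zgi33) (kgi xgi16 ygi57 zgi8) (kgi xgi20 ygi51 zgi52) (kgi xgi18 ygi24 zgi58) (kgi xgi12 ygi30 zgi8) (kgi xgi19 ygi27 zgi44) (kgi xgi18 ygi24 zgi43) (kgi xgi11 ygi7 zgi61) (kgi xgi18 ygi25 zgi47) (kgi xgi11 ygi40 zgi26) (kgi xgi12 ygi2 zgi24) (kgi xgi14 ygi11 zgi57) (kgi xgi10 ygi18 zgi55) (kgi xgi17 ygi57 zgi49) (kgi xgi11 ygi27 zgi22) (kgi xgi10 ygi18 zgi56) (kgi xgi17 ygi58 zgi43) (kgi xgi11 ygi35 zgi56) (kgi xgi12 ygi26 zgi55) (kgi xgi11 ygi19 zgi12) (kgi xgi18 ygi25 zgi57) (kgi xgi10 ygi19 zgi4) (kgi xgi20 ygi19 zgi54) (kgi xgi19 ygi27 zgi41) (kgi xgi10 ygi19 zgi10) (kgi xgi15 ygi59 zgi35) (kgi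 xgi15 ygi59 zgi33) (kgi xgi23 ygi7 zgi57)) (@D3.rec (fun _ => Pt) (kgi xgi28 ygi14 zgi1) (kgi xgi26 ygi45 zgi53) (kgi xgi10 ygi46 zgi20) (kgi xgi19 ygi41 zgi9) (kgi xgi19 ygi44 zgi22) (kgi xgi10 ygi57 zgi37) (kgi xgi26 ygi42 zgi50) (kgi xgi24 ygi29 zgi12) (kgi xgi19 ygi28 zgi7) (kgi xgi10 ygi19 zgi15) (kgi xgi19 ygi28 zgi5) (kgi xgi28 ygi14 zgi12) (kgi xgi28 ygi14 zgi16) (kgi xgi10 ygi19 zgi17) (kgi xgi24 ygi50 zgi32) (kgi xgi24 ygi50 zgi30) (kgi xgi26 ygi45 zgi45) (kgi xgi10 ygi32 zgi54) (kgi xgi16 ygi1 zgi33) (kgi xgi17 ygi25 zgi61) (kgi xgi19 ygi19 zgi38) (kgi xgi19 ygi50 zgi31) (kgi xgi15 ygi37 zgi37) (kgi xgi10 ygi54 zgi23) (kgi xgi28 ygi14 zgi23) (kgi xgi19 ygi29 zgi25) (kgi xgi26 ygi45 zgi22) (kgi xgi25 ygi32 zgi34) (kgi xgi26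 ygi26 zgi54) (kgi xgi17 ygi3 zgi43) (kgi xgi16 ygi56 zgi59) (kgi xgi26 ygi39 zgi23) (kgi xgi14 ygi22 zgi27) (kgi xgi10 ygi19 zgi27) (kgi xgi17 ygi20 zgi11) (kgi xgi28 ygi14 zgi34) (kgi xgi10 ygi43 zgi11) (kgi xgi10 ygi20 zgi0) (kgi xgi10 ygi19 zgi60) (kgi xgi10 ygi19 zgi30) (kgi xgi10 ygi20 zgi32) (kgi xgi10 ygi20 zgi30) (kgi xgi28 ygi14 zgi38) (kgi xgi10 ygi19 zgi32) (kgi xgi10 ygi20 zgi8) (kgi xgi11 ygi46 zgi8) (kgi xgi18 ygi53 zgi29) (kgi xgi10 ygi19 zgi34) (kgi xgi10 ygi19 zgi35) (kgi xgi10 ygi21 zgi11) (kgi xgi10 ygi21 zgi9) (kgi xgi17 ygi19 zgi48) (kgi xgi28 ygi14 zgi43) (kgi xgi22 ygi40 zgi28) (kgi xgi10 ygi19 zgi37) (kgi xgi28 ygi14 zgi46) (kgi xgi10 ygi20 zgi57) (kgi xgi10 ygi22 zgi5) (kgi xgi10 ygi19 zgi40) (kgi xgi10 ygi21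 zgi24) (kgi xgi10 ygi21 zgi22) (kgi xgi28 ygi14 zgi51)) (@D3.rec (fun _ => Pt) (kgi xgi14 ygi16 zgi38) (kgi xgi27 ygi8 zgi5) (kgi xgi18 ygi20 zgi59) (kgi xgi10 ygi21 zgi19) (kgi xgi10 ygi19 zgi43) (kgi xgi10 ygi19 zgi45) (kgi xgi24 ygi40 zgi33) (kgi xgi18 ygi54 zgi25) (kgi xgi28 ygi2 zgi45) (kgi xgi10 ygi19 zgi47) (kgi xgi28 ygi2 zgi37) (kgi xgi27 ygi47 zgi8) (kgi xgi20 ygi31 zgi51) (kgi xgi10 ygi41 zgi60) (kgi xgi25 ygi52 zgi15) (kgi xgi25 ygi52 zgi17) (kgi xgi28 ygi0 zgi58) (kgi xgi27 ygi8 zgi16) (kgi xgi10 ygi41 zgi49) (kgi xgi24 ygi25 zgi38) (kgi xgi20 ygi59 zgi55) (kgi xgi10 ygi21 zgi58) (kgi xgi12 ygi51 zgi58) (kgi xgi10 ygi19 zgi51) (kgi xgi18 ygi5 zgi19) (kgi xgi18 ygi5 zgi17) (kgi xgi15 ygi14 zgi27) (kgi xgi10 ygi19 zgi57)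 (kgi xgi10 ygi19 zgi58) (kgi xgi17 ygi23 zgi20) (kgi xgi26 ygi44 zgi57) (kgi xgi10 ygi43 zgi9) (kgi xgi25 ygi47 zgi1) (kgi xgi10 ygi20 zgi1) (kgi xgi27 ygi59 zgi15) (kgi xgi26 ygi29 zgi26) (kgi xgi10 ygi20 zgi5) (kgi xgi21 ygi9 zgi8) (kgi xgi10 ygi20 zgi6) (kgi xgi24 ygi18 zgi8) (kgi xgi10 ygi39 zgi14) (kgi xgi28 ygi15 zgi20) (kgi xgi14 ygi3 zgi50) (kgi xgi11 ygi0 zgi4) (kgi xgi19 ygi19 zgi58) (kgi xgi22 ygi15 zgi45) (kgi xgi10 ygi20 zgi11) (kgi xgi22 ygi36 zgi58) (kgi xgi12 ygi47 zgi26) (kgi xgi20 ygi9 zgi27) (kgi xgi27 ygi53 zgi49) (kgi xgi14 ygi1 zgi9) (kgi xgi18 ygi49 zgi13) (kgi xgi28 ygi15 zgi17) (kgi xgi10 ygi20 zgi18) (kgi xgi26 ygi32 zgi7) (kgi xgi26 ygi32 zgi5) (kgi xgi28 ygi15 zgi36) (kgi xgi28 ygi15 zgi40) (kgi xgi14 ygi31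 zgi15) (kgi xgi27 ygi55 zgi28) (kgi xgi18 ygi38 zgi37)) (@D3.rec (fun _ => Pt) (kgi xgi10 ygi20 zgi24) (kgi xgi20 ygi58 zgi9) (kgi xgi21 ygi0 zgi7) (kgi xgi28 ygi15 zgi46) (kgi xgi28 ygi15 zgi49) (kgi xgi18 ygi4 zgi17) (kgi xgi17 ygi23 zgi12) (kgi xgi18 ygi4 zgi15) (kgi xgi28 ygi15 zgi51) (kgi xgi28 ygi5 zgi32) (kgi xgi18 ygi44 zgi51) (kgi xgi18 ygi54 zgi5) (kgi xgi10 ygi39 zgi26) (kgi xgi28 ygi14 zgi37) (kgi xgi18 ygi53 zgi54) (kgi xgi10 ygi20 zgi33) (kgi xgi21 ygi9 zgi41) (kgi xgi12 ygi23 zgi35) (kgi xgi10 ygi20 zgi34) (kgi xgi10 ygi39 zgi19) (kgi xgi27 ygi2 zgi38) (kgi xgi27 ygi34 zgi1) (kgi xgi19 ygi12 zgi44) (kgi xgi10 ygi20 zgi38) (kgi xgi14 ygi34 zgi9) (kgi xgi10 ygi41 zgi27) (kgi xgi10 ygi51 zgi39) (kgi xgi10 ygi20 zgi42)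 (kgi xgi10 ygi51 zgi49) (kgi xgi28 ygi15 zgi60) (kgi xgi15 ygi15 zgi31) (kgi xgi19 ygi31 zgi28) (kgi xgi10 ygi20 zgi44) (kgi xgi19 ygi31 zgi34) (kgi xgi19 ygi31 zgi32) (kgi xgi15 ygi32 zgi60) (kgi xgi25 ygi43 zgi7) (kgi xgi10 ygi20 zgi48) (kgi xgi15 ygi50 zgi46) (kgi xgi28 ygi16 zgi11) (kgi xgi27 ygi12 zgi22) (kgi xgi10 ygi22 zgi43) (kgi xgi18 ygi16 zgi30) (kgi xgi18 ygi56 zgi1) (kgi xgi18 ygi51 zgi60) (kgi xgi18 ygi16 zgi33) (kgi xgi14 ygi56 zgi53) (kgi xgi17 ygi31 zgi38) (kgi xgi28 ygi16 zgi23) (kgi xgi14 ygi56 zgi51) (kgi xgi28 ygi16 zgi27) (kgi xgi14 ygi3 zgi34) (kgi xgi21 ygi8 zgi60) (kgi xgi10 ygi20 zgi56) (kgi xgi27 ygi13 zgi38) (kgi xgi21 ygi16 zgi40) (kgi xgi27 ygi49 zgi59) (kgi xgi21 ygi38 zgi41) (kgi xgi17 ygi17 zgi47)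 (kgi xgi10 ygi54 zgi26) (kgi xgi10 ygi20 zgi59) (kgi xgi28 ygi14 zgi48)) (@D3.rec (fun _ => Pt) (kgi xgi28 ygi16 zgi42) (kgi xgi22 ygi39 zgi57) (kgi xgi28 ygi14 zgi58) (kgi xgi27 ygi59 zgi7) (kgi xgi17 ygi17 zgi31) (kgi xgi10 ygi21 zgi3) (kgi xgi24 ygi47 zgi58) (kgi xgi24 ygi47 zgi56) (kgi xgi28 ygi16 zgi51) (kgi xgi28 ygi16 zgi54) (kgi xgi28 ygi16 zgi55) (kgi xgi18 ygi9 zgi52) (kgi xgi10 ygi38 zgi53) (kgi xgi28 ygi16 zgi57) (kgi xgi26 ygi32 zgi12) (kgi xgi10 ygi22 zgi36) (kgi xgi28 ygi16 zgi59) (kgi xgi18 ygi46 zgi10) (kgi xgi28 ygi17 zgi0) (kgi xgi10 ygi21 zgi12) (kgi xgi20 ygi46 zgi43) (kgi xgi21 ygi1 zgi35) (kgi xgi28 ygi17 zgi3) (kgi xgi10 ygi21 zgi13) (kgi xgi28 ygi17 zgi1) (kgi xgi24 ygi13 zgi7) (kgi xgi25 ygi46 zgi7) (kgi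 xgi10 ygi21 zgi14) (kgi xgi17 ygi25 zgi7) (kgi xgi25 ygi46 zgi53) (kgi xgi16 ygi0 zgi44) (kgi xgi25 ygi4 zgi30) (kgi xgi28 ygi17 zgi14) (kgi xgi10 ygi21 zgi17) (kgi xgi24 ygi38 zgi52) (kgi xgi25 ygi59 zgi36) (kgi xgi25 ygi30 zgi55) (kgi xgi10 ygi41 zgi58) (kgi xgi19 ygi0 zgi52) (kgi xgi10 ygi21 zgi53) (kgi xgi18 ygi55 zgi56) (kgi xgi28 ygi14 zgi59) (kgi xgi10 ygi28 zgi17) (kgi xgi11 ygi0 zgi17) (kgi xgi17 ygi31 zgi36) (kgi xgi28 ygi17 zgi19) (kgi xgi10 ygi21 zgi25) (kgi xgi28 ygi14 zgi49) (kgi xgi10 ygi21 zgi26) (kgi xgi23 ygi51 zgi29) (kgi xgi22 ygi39 zgi53) (kgi xgi22 ygi34 zgi24) (kgi xgi20 ygi31 zgi37) (kgi xgi10 ygi21 zgi28) (kgi xgi13 ygi22 zgi51) (kgi xgi27 ygi8 zgi9) (kgi xgi10 ygi21 zgi29) (kgi xgi28 ygi2 zgi49) (kgi xgi28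 ygi17 zgi32) (kgi xgi18 ygi20 zgi21) (kgi xgi28 ygi15 zgi1) (kgi xgi10 ygi21 zgi54)) (@D3.rec (fun _ => Pt) (kgi xgi10 ygi21 zgi40) (kgi xgi14 ygi12 zgi44) (kgi xgi28 ygi17 zgi37) (kgi xgi28 ygi2 zgi41) (kgi xgi22 ygi34 zgi36) (kgi xgi10 ygi21 zgi34) (kgi xgi28 ygi2 zgi40) (kgi xgi28 ygi17 zgi39) (kgi xgi24 ygi28 zgi6) (kgi xgi10 ygi21 zgi35) (kgi xgi14 ygi18 zgi28) (kgi xgi23 ygi50 zgi19) (kgi xgi10 ygi21 zgi36) (kgi xgi25 ygi48 zgi21) (kgi xgi24 ygi28 zgi8) (kgi xgi27 ygi16 zgi54) (kgi xgi25 ygi56 zgi48) (kgi xgi25 ygi30 zgi48) (kgi xgi10 ygi32 zgi18) (kgi xgi21 ygi9 zgi2) (kgi xgi28 ygi17 zgi52) (kgi xgi10 ygi21 zgi41) (kgi xgi16 ygi53 zgi34) (kgi xgi28 ygi17 zgi27) (kgi xgi17 ygi21 zgi53) (kgi xgi10 ygi21 zgi42) (kgi xgi19 ygi20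 zgi6) (kgi xgi18 ygi14 zgi8) (kgi xgi27 ygi45 zgi14) (kgi xgi27 ygi48 zgi3) (kgi xgi27 ygi0 zgi48) (kgi xgi28 ygi17 zgi60) (kgi xgi22 ygi20 zgi15) (kgi xgi16 ygi21 zgi46) (kgi xgi20 ygi11 zgi20) (kgi xgi10 ygi21 zgi49) (kgi xgi16 ygi51 zgi45) (kgi xgi15 ygi3 zgi61) (kgi xgi21 ygi54 zgi31) (kgi xgi28 ygi18 zgi3) (kgi xgi28 ygi18 zgi0) (kgi xgi10 ygi21 zgi50) (kgi xgi26 ygi59 zgi51) (kgi xgi22 ygi4 zgi45) (kgi xgi10 ygi21 zgi52) (kgi xgi28 ygi18 zgi11) (kgi xgi19 ygi43 zgi27) (kgi xgi14 ygi42 zgi53) (kgi xgi28 ygi18 zgi14) (kgi xgi11 ygi0 zgi45) (kgi xgi10 ygi21 zgi56) (kgi xgi11 ygi15 zgi22) (kgi xgi26 ygi45 zgi52) (kgi xgi17 ygi20 zgi12) (kgi xgi12 ygi11 zgi21) (kgi xgi10 ygi49 zgi21) (kgi xgi19 ygi36 zgi53) (kgi xgi16 ygi52 zgi7)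 (kgi xgi27 ygi10 zgi53) (kgi xgi25 ygi51 zgi35) (kgi xgi24 ygi21 zgi50) (kgi xgi28 ygi11 zgi17)) (@D3.rec (fun _ => Pt) (kgi xgi18 ygi54 zgi52) (kgi xgi18 ygi55 zgi11) (kgi xgi23 ygi49 zgi5) (kgi xgi10 ygi22 zgi2) (kgi xgi18 ygi52 zgi14) (kgi xgi28 ygi18 zgi30) (kgi xgi25 ygi30 zgi60) (kgi xgi28 ygi18 zgi33) (kgi xgi10 ygi54 zgi16) (kgi xgi18 ygi45 zgi52) (kgi xgi18 ygi58 zgi13) (kgi xgi18 ygi54 zgi42) (kgi xgi24 ygi25 zgi48) (kgi xgi25 ygi57 zgi61) (kgi xgi10 ygi22 zgi9) (kgi xgi13 ygi41 zgi6) (kgi xgi22 ygi49 zgi52) (kgi xgi20 ygi1 zgi31) (kgi xgi22 ygi30 zgi34) (kgi xgi13 ygi49 zgi33) (kgi xgi19 ygi2 zgi32) (kgi xgi16 ygi39 zgi19) (kgi xgi26 ygi32 zgi34) (kgi xgi23 ygi47 zgi48) (kgi xgi16 ygi39 zgi50) (kgi xgi13 ygi14 zgi27) (kgi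 xgi23 ygi16 zgi22) (kgi xgi16 ygi22 zgi16) (kgi xgi19 ygi13 zgi61) (kgi xgi16 ygi45 zgi46) (kgi xgi17 ygi46 zgi57) (kgi xgi15 ygi5 zgi51) (kgi xgi20 ygi6 zgi35) (kgi xgi10 ygi22 zgi26) (kgi xgi19 ygi1 zgi25) (kgi xgi24 ygi59 zgi35) (kgi xgi19 ygi1 zgi22) (kgi xgi27 ygi32 zgi3) (kgi xgi10 ygi55 zgi40) (kgi xgi26 ygi17 zgi47) (kgi xgi10 ygi22 zgi29) (kgi xgi19 ygi1 zgi30) (kgi xgi24 ygi58 zgi8) (kgi xgi10 ygi29 zgi1) (kgi xgi16 ygi21 zgi36) (kgi xgi19 ygi2 zgi13) (kgi xgi19 ygi18 zgi8) (kgi xgi12 ygi1 zgi22) (kgi xgi12 ygi38 zgi31) (kgi xgi11 ygi36 zgi38) (kgi xgi10 ygi22 zgi40) (kgi xgi20 ygi47 zgi24) (kgi xgi28 ygi3 zgi50) (kgi xgi19 ygi0 zgi54) (kgi xgi10 ygi31 zgi4) (kgi xgi10 ygi39 zgi25) (kgi xgi25 ygi46 zgi52) (kgi xgi18 ygi28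 zgi4) (kgi xgi20 ygi46 zgi34) (kgi xgi23 ygi52 zgi20) (kgi xgi10 ygi22 zgi44) (kgi xgi10 ygi22 zgi58)) (@D3.rec (fun _ => Pt) (kgi xgi19 ygi18 zgi5) (kgi xgi10 ygi22 zgi45) (kgi xgi14 ygi53 zgi46) (kgi xgi19 ygi18 zgi0) (kgi xgi24 ygi40 zgi30) (kgi xgi25 ygi46 zgi9) (kgi xgi11 ygi22 zgi0) (kgi xgi26 ygi53 zgi2) (kgi xgi10 ygi22 zgi50) (kgi xgi20 ygi24 zgi52) (kgi xgi17 ygi12 zgi56) (kgi xgi22 ygi29 zgi34) (kgi xgi22 ygi29 zgi14) (kgi xgi16 ygi7 zgi48) (kgi xgi17 ygi23 zgi5) (kgi xgi25 ygi30 zgi53) (kgi xgi21 ygi37 zgi50) (kgi xgi26 ygi51 zgi8) (kgi xgi25 ygi46 zgi8) (kgi xgi24 ygi12 zgi16) (kgi xgi10 ygi36 zgi41) (kgi xgi12 ygi58 zgi47) (kgi xgi12 ygi35 zgi17) (kgi xgi17 ygi13 zgi27) (kgi xgi28 ygi19 zgi5) (kgi xgi12 ygi29 zgi5) (kgi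 xgi19 ygi32 zgi17) (kgi xgi18 ygi17 zgi4) (kgi xgi12 ygi36 zgi16) (kgi xgi10 ygi23 zgi5) (kgi xgi10 ygi23 zgi7) (kgi xgi21 ygi35 zgi45) (kgi xgi12 ygi47 zgi6) (kgi xgi10 ygi23 zgi6) (kgi xgi18 ygi11 zgi1) (kgi xgi12 ygi39 zgi17) (kgi xgi17 ygi58 zgi5) (kgi xgi20 ygi34 zgi39) (kgi xgi11 ygi56 zgi36) (kgi xgi26 ygi50 zgi28) (kgi xgi10 ygi23 zgi10) (kgi xgi21 ygi37 zgi52) (kgi xgi10 ygi23 zgi11) (kgi xgi11 ygi37 zgi45) (kgi xgi17 ygi5 zgi39) (kgi xgi12 ygi36 zgi7) (kgi xgi11 ygi2 zgi12) (kgi xgi12 ygi35 zgi14) (kgi xgi21 ygi45 zgi1) (kgi xgi21 ygi47 zgi24) (kgi xgi10 ygi36 zgi42) (kgi xgi23 ygi47 zgi36) (kgi xgi18 ygi58 zgi2) (kgi xgi19 ygi44 zgi19) (kgi xgi11 ygi51 zgi24) (kgi xgi18 ygi58 zgi3) (kgi xgi18 ygi20 zgi5) (kgi xgi10 ygi23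 zgi22) (kgi xgi17 ygi50 zgi40) (kgi xgi17 ygi50 zgi38) (kgi xgi28 ygi10 zgi28) (kgi xgi28 ygi19 zgi18)) (@D3.rec (fun _ => Pt) (kgi xgi26 ygi33 zgi51) (kgi xgi15 ygi15 zgi21) (kgi xgi10 ygi23 zgi26) (kgi xgi15 ygi15 zgi27) (kgi xgi15 ygi15 zgi25) (kgi xgi25 ygi29 zgi6) (kgi xgi27 ygi17 zgi36) (kgi xgi22 ygi53 zgi56) (kgi xgi20 ygi59 zgi20) (kgi xgi26 ygi39 zgi18) (kgi xgi10 ygi50 zgi53) (kgi xgi16 ygi45 zgi56) (kgi xgi26 ygi41 zgi43) (kgi xgi19 ygi46 zgi27) (kgi xgi15 ygi40 zgi56) (kgi xgi10 ygi23 zgi32) (kgi xgi15 ygi40 zgi58) (kgi xgi28 ygi19 zgi33) (kgi xgi27 ygi42 zgi7) (kgi xgi16 ygi26 zgi59) (kgi xgi15 ygi35 zgi49) (kgi xgi25 ygi26 zgi32) (kgi xgi22 ygi9 zgi9) (kgi xgi10 ygi23 zgi35) (kgi xgi13 ygi32 zgi32) (kgi xgi15 ygi15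 zgi59) (kgi xgi10 ygi24 zgi17) (kgi xgi10 ygi24 zgi15) (kgi xgi19 ygi37 zgi52) (kgi xgi21 ygi0 zgi13) (kgi xgi15 ygi40 zgi3) (kgi xgi10 ygi23 zgi40) (kgi xgi10 ygi25 zgi0) (kgi xgi10 ygi24 zgi60) (kgi xgi28 ygi19 zgi51) (kgi xgi10 ygi23 zgi42) (kgi xgi10 ygi24 zgi45) (kgi xgi10 ygi24 zgi43) (kgi xgi25 ygi56 zgi15) (kgi xgi18 ygi45 zgi45) (kgi xgi25 ygi47 zgi38) (kgi xgi10 ygi23 zgi44) (kgi xgi10 ygi23 zgi45) (kgi xgi10 ygi25 zgi33) (kgi xgi10 ygi25 zgi31) (kgi xgi18 ygi53 zgi56) (kgi xgi10 ygi26 zgi21) (kgi xgi10 ygi23 zgi49) (kgi xgi10 ygi25 zgi46) (kgi xgi10 ygi25 zgi44) (kgi xgi28 ygi20 zgi3) (kgi xgi13 ygi18 zgi26) (kgi xgi10 ygi23 zgi52) (kgi xgi10 ygi23 zgi54) (kgi xgi28 ygi3 zgi40) (kgi xgi18 ygi46 zgi44) (kgi xgi18 ygi53 zgi1)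 (kgi xgi19 ygi20 zgi41) (kgi xgi10 ygi23 zgi56) (kgi xgi27 ygi34 zgi33) (kgi xgi28 ygi2 zgi51) (kgi xgi28 ygi20 zgi11)) (@D3.rec (fun _ => Pt) (kgi xgi19 ygi22 zgi2) (kgi xgi28 ygi20 zgi17) (kgi xgi10 ygi23 zgi55) (kgi xgi28 ygi20 zgi5) (kgi xgi26 ygi30 zgi56) (kgi xgi11 ygi35 zgi50) (kgi xgi28 ygi20 zgi16) (kgi xgi19 ygi21 zgi46) (kgi xgi28 ygi20 zgi1) (kgi xgi26 ygi26 zgi11) (kgi xgi17 ygi11 zgi39) (kgi xgi10 ygi23 zgi59) (kgi xgi10 ygi26 zgi12) (kgi xgi22 ygi47 zgi1) (kgi xgi18 ygi49 zgi3) (kgi xgi10 ygi24 zgi0) (kgi xgi15 ygi37 zgi50) (kgi xgi15 ygi37 zgi48) (kgi xgi28 ygi20 zgi31) (kgi xgi28 ygi19 zgi37) (kgi xgi12 ygi16 zgi6) (kgi xgi10 ygi24 zgi3) (kgi xgi20 ygi5 zgi21) (kgi xgi10 ygi24 zgi4) (kgi xgi25 ygi20 zgi13) (kgi xgi25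 ygi20 zgi12) (kgi xgi24 ygi17 zgi25) (kgi xgi19 ygi44 zgi49) (kgi xgi11 ygi54 zgi43) (kgi xgi18 ygi52 zgi59) (kgi xgi10 ygi24 zgi9) (kgi xgi15 ygi22 zgi20) (kgi xgi10 ygi24 zgi10) (kgi xgi24 ygi15 zgi18) (kgi xgi19 ygi24 zgi61) (kgi xgi24 ygi17 zgi20) (kgi xgi17 ygi42 zgi14) (kgi xgi17 ygi43 zgi21) (kgi xgi10 ygi24 zgi18) (kgi xgi17 ygi35 zgi45) (kgi xgi25 ygi23 zgi56) (kgi xgi10 ygi24 zgi22) (kgi xgi10 ygi24 zgi24) (kgi xgi17 ygi33 zgi52) (kgi xgi19 ygi26 zgi27) (kgi xgi19 ygi24 zgi43) (kgi xgi21 ygi0 zgi22) (kgi xgi10 ygi24 zgi26) (kgi xgi17 ygi32 zgi44) (kgi xgi26 ygi48 zgi10) (kgi xgi25 ygi9 zgi4) (kgi xgi24 ygi33 zgi40) (kgi xgi10 ygi24 zgi25) (kgi xgi19 ygi37 zgi51) (kgi xgi28 ygi20 zgi46) (kgi xgi10 ygi24 zgi27) (kgi xgi19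 ygi37 zgi47) (kgi xgi26 ygi44 zgi16) (kgi xgi18 ygi52 zgi29) (kgi xgi25 ygi26 zgi55) (kgi xgi10 ygi24 zgi31) (kgi xgi19 ygi20 zgi8)) (@D3.rec (fun _ => Pt) (kgi xgi27 ygi45 zgi57) (kgi xgi18 ygi51 zgi61) (kgi xgi28 ygi20 zgi51) (kgi xgi24 ygi6 zgi37) (kgi xgi10 ygi24 zgi33) (kgi xgi18 ygi20 zgi22) (kgi xgi18 ygi20 zgi20) (kgi xgi10 ygi24 zgi39) (kgi xgi13 ygi41 zgi17) (kgi xgi10 ygi24 zgi37) (kgi xgi28 ygi5 zgi10) (kgi xgi28 ygi5 zgi8) (kgi xgi25 ygi24 zgi2) (kgi xgi22 ygi50 zgi24) (kgi xgi28 ygi20 zgi60) (kgi xgi18 ygi20 zgi23) (kgi xgi10 ygi24 zgi40) (kgi xgi22 ygi50 zgi28) (kgi xgi27 ygi50 zgi45) (kgi xgi23 ygi11 zgi49) (kgi xgi28 ygi21 zgi5) (kgi xgi26 ygi34 zgi27) (kgi xgi23 ygi34 zgi2) (kgi xgi28 ygi12 zgi6) (kgi xgi13 ygi35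 zgi49) (kgi xgi20 ygi46 zgi48) (kgi xgi19 ygi21 zgi9) (kgi xgi27 ygi50 zgi31) (kgi xgi18 ygi54 zgi27) (kgi xgi13 ygi4 zgi32) (kgi xgi25 ygi56 zgi13) (kgi xgi13 ygi5 zgi5) (kgi xgi10 ygi24 zgi46) (kgi xgi28 ygi19 zgi56) (kgi xgi28 ygi21 zgi20) (kgi xgi26 ygi42 zgi36) (kgi xgi13 ygi5 zgi4) (kgi xgi22 ygi22 zgi53) (kgi xgi13 ygi4 zgi52) (kgi xgi25 ygi36 zgi1) (kgi xgi28 ygi20 zgi55) (kgi xgi23 ygi33 zgi59) (kgi xgi18 ygi56 zgi7) (kgi xgi28 ygi20 zgi49) (kgi xgi10 ygi24 zgi55) (kgi xgi18 ygi58 zgi10) (kgi xgi18 ygi58 zgi8) (kgi xgi28 ygi21 zgi34) (kgi xgi10 ygi24 zgi58) (kgi xgi15 ygi18 zgi39) (kgi xgi18 ygi22 zgi8) (kgi xgi27 ygi5 zgi39) (kgi xgi17 ygi47 zgi12) (kgi xgi18 ygi51 zgi45) (kgi xgi18 ygi46 zgi19) (kgi xgi18 ygi20 zgi27) (kgi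 xgi18 ygi54 zgi43) (kgi xgi28 ygi21 zgi39) (kgi xgi28 ygi19 zgi50) (kgi xgi18 ygi46 zgi11) (kgi xgi10 ygi25 zgi1) (kgi xgi28 ygi19 zgi49)) (@D3.rec (fun _ => Pt) (kgi xgi28 ygi21 zgi49) (kgi xgi28 ygi21 zgi52) (kgi xgi10 ygi25 zgi2) (kgi xgi28 ygi21 zgi44) (kgi xgi24 ygi14 zgi36) (kgi xgi28 ygi21 zgi43) (kgi xgi10 ygi25 zgi3) (kgi xgi17 ygi51 zgi13) (kgi xgi28 ygi21 zgi2) (kgi xgi28 ygi21 zgi57) (kgi xgi19 ygi51 zgi1) (kgi xgi16 ygi44 zgi40) (kgi xgi10 ygi25 zgi10) (kgi xgi16 ygi44 zgi43) (kgi xgi28 ygi21 zgi61) (kgi xgi10 ygi25 zgi12) (kgi xgi19 ygi23 zgi46) (kgi xgi10 ygi25 zgi13) (kgi xgi15 ygi31 zgi2) (kgi xgi15 ygi31 zgi0) (kgi xgi28 ygi22 zgi7) (kgi xgi28 ygi18 zgi35) (kgi xgi10 ygi26 zgi61) (kgi xgi18 ygi36 zgi59) (kgi xgi18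 ygi49 zgi6) (kgi xgi18 ygi45 zgi11) (kgi xgi18 ygi37 zgi0) (kgi xgi18 ygi53 zgi24) (kgi xgi10 ygi25 zgi18) (kgi xgi13 ygi45 zgi13) (kgi xgi28 ygi22 zgi18) (kgi xgi24 ygi48 zgi28) (kgi xgi25 ygi35 zgi48) (kgi xgi13 ygi44 zgi58) (kgi xgi28 ygi22 zgi27) (kgi xgi27 ygi9 zgi15) (kgi xgi16 ygi45 zgi58) (kgi xgi19 ygi22 zgi12) (kgi xgi16 ygi39 zgi17) (kgi xgi28 ygi22 zgi30) (kgi xgi17 ygi47 zgi2) (kgi xgi10 ygi26 zgi54) (kgi xgi28 ygi22 zgi31) (kgi xgi18 ygi53 zgi53) (kgi xgi10 ygi25 zgi34) (kgi xgi28 ygi19 zgi60) (kgi xgi28 ygi22 zgi39) (kgi xgi22 ygi36 zgi37) (kgi xgi10 ygi25 zgi35) (kgi xgi13 ygi3 zgi19) (kgi xgi22 ygi15 zgi29) (kgi xgi23 ygi40 zgi35) (kgi xgi19 ygi5 zgi14) (kgi xgi19 ygi21 zgi61) (kgi xgi22 ygi49 zgi61) (kgi xgi10 ygi26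 zgi6) (kgi xgi18 ygi48 zgi60) (kgi xgi27 ygi32 zgi2) (kgi xgi28 ygi22 zgi48) (kgi xgi28 ygi20 zgi25) (kgi xgi28 ygi20 zgi2) (kgi xgi22 ygi18 zgi18)) (@D3.rec (fun _ => Pt) (kgi xgi10 ygi25 zgi47) (kgi xgi13 ygi34 zgi31) (kgi xgi28 ygi22 zgi60) (kgi xgi10 ygi25 zgi48) (kgi xgi13 ygi18 zgi19) (kgi xgi28 ygi0 zgi47) (kgi xgi25 ygi43 zgi21) (kgi xgi27 ygi33 zgi52) (kgi xgi10 ygi26 zgi8) (kgi xgi10 ygi25 zgi54) (kgi xgi24 ygi18 zgi49) (kgi xgi24 ygi46 zgi15) (kgi xgi10 ygi26 zgi0) (kgi xgi22 ygi14 zgi52) (kgi xgi27 ygi47 zgi2) (kgi xgi28 ygi23 zgi15) (kgi xgi19 ygi20 zgi14) (kgi xgi28 ygi23 zgi8) (kgi xgi10 ygi25 zgi55) (kgi xgi28 ygi23 zgi19) (kgi xgi18 ygi10 zgi38) (kgi xgi14 ygi13 zgi36) (kgi xgi28 ygi23 zgi18) (kgi xgi10 ygi25 zgi61)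 (kgi xgi10 ygi26 zgi4) (kgi xgi27 ygi22 zgi43) (kgi xgi26 ygi51 zgi5) (kgi xgi20 ygi21 zgi47) (kgi xgi28 ygi23 zgi34) (kgi xgi18 ygi51 zgi17) (kgi xgi28 ygi3 zgi42) (kgi xgi28 ygi23 zgi33) (kgi xgi28 ygi23 zgi43) (kgi xgi10 ygi26 zgi2) (kgi xgi28 ygi23 zgi12) (kgi xgi28 ygi23 zgi46) (kgi xgi25 ygi36 zgi31) (kgi xgi26 ygi51 zgi3) (kgi xgi26 ygi50 zgi35) (kgi xgi23 ygi2 zgi16) (kgi xgi28 ygi23 zgi53) (kgi xgi28 ygi20 zgi0) (kgi xgi25 ygi59 zgi45) (kgi xgi28 ygi23 zgi57) (kgi xgi14 ygi16 zgi56) (kgi xgi14 ygi17 zgi11) (kgi xgi10 ygi26 zgi11) (kgi xgi19 ygi37 zgi46) (kgi xgi19 ygi33 zgi43) (kgi xgi15 ygi33 zgi13) (kgi xgi22 ygi47 zgi2) (kgi xgi22 ygi47 zgi9) (kgi xgi25 ygi25 zgi13) (kgi xgi22 ygi47 zgi4) (kgi xgi10 ygi26 zgi15) (kgi xgi28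 ygi24 zgi6) (kgi xgi24 ygi46 zgi19) (kgi xgi24 ygi29 zgi40) (kgi xgi18 ygi48 zgi2) (kgi xgi28 ygi24 zgi9) (kgi xgi10 ygi54 zgi5) (kgi xgi18 ygi45 zgi22)) (@D3.rec (fun _ => Pt) (kgi xgi28 ygi24 zgi14) (kgi xgi25 ygi56 zgi16) (kgi xgi22 ygi24 zgi36) (kgi xgi18 ygi47 zgi31) (kgi xgi25 ygi33 zgi60) (kgi xgi18 ygi47 zgi16) (kgi xgi28 ygi24 zgi16) (kgi xgi25 ygi34 zgi29) (kgi xgi21 ygi52 zgi57) (kgi xgi23 ygi3 zgi61) (kgi xgi10 ygi26 zgi27) (kgi xgi18 ygi59 zgi14) (kgi xgi28 ygi24 zgi25) (kgi xgi18 ygi59 zgi11) (kgi xgi28 ygi0 zgi3) (kgi xgi28 ygi11 zgi2) (kgi xgi22 ygi56 zgi41) (kgi xgi18 ygi59 zgi21) (kgi xgi28 ygi0 zgi42) (kgi xgi18 ygi41 zgi27) (kgi xgi10 ygi38 zgi56) (kgi xgi10 ygi29 zgi5) (kgi xgi26 ygi19 zgi56) (kgi xgi10 ygi39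 zgi29) (kgi xgi26 ygi36 zgi38) (kgi xgi27 ygi6 zgi58) (kgi xgi10 ygi54 zgi9) (kgi xgi10 ygi55 zgi19) (kgi xgi18 ygi49 zgi15) (kgi xgi18 ygi49 zgi14) (kgi xgi10 ygi26 zgi41) (kgi xgi17 ygi3 zgi39) (kgi xgi27 ygi22 zgi33) (kgi xgi11 ygi12 zgi30) (kgi xgi10 ygi26 zgi44) (kgi xgi23 ygi6 zgi47) (kgi xgi16 ygi20 zgi26) (kgi xgi10 ygi26 zgi47) (kgi xgi22 ygi31 zgi32) (kgi xgi28 ygi24 zgi42) (kgi xgi18 ygi38 zgi59) (kgi xgi22 ygi29 zgi13) (kgi xgi24 ygi59 zgi21) (kgi xgi17 ygi22 zgi55) (kgi xgi27 ygi54 zgi17) (kgi xgi22 ygi59 zgi60) (kgi xgi27 ygi44 zgi13) (kgi xgi10 ygi26 zgi58) (kgi xgi27 ygi48 zgi9) (kgi xgi11 ygi47 zgi25) (kgi xgi22 ygi28 zgi59) (kgi xgi28 ygi22 zgi4) (kgi xgi27 ygi50 zgi44) (kgi xgi27 ygi50 zgi46) (kgi xgi13 ygi45 zgi2)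 (kgi xgi10 ygi27 zgi0) (kgi xgi10 ygi27 zgi17) (kgi xgi27 ygi58 zgi61) (kgi xgi10 ygi27 zgi1) (kgi xgi28 ygi24 zgi57) (kgi xgi10 ygi27 zgi5) (kgi xgi27 ygi5 zgi56)) (@D3.rec (fun _ => Pt) (kgi xgi16 ygi56 zgi53) (kgi xgi15 ygi25 zgi52) (kgi xgi10 ygi27 zgi8) (kgi xgi16 ygi30 zgi33) (kgi xgi10 ygi27 zgi29) (kgi xgi22 ygi28 zgi60) (kgi xgi16 ygi23 zgi18) (kgi xgi14 ygi58 zgi34) (kgi xgi13 ygi14 zgi38) (kgi xgi17 ygi26 zgi45) (kgi xgi21 ygi45 zgi6) (kgi xgi10 ygi27 zgi15) (kgi xgi28 ygi24 zgi60) (kgi xgi21 ygi26 zgi45) (kgi xgi18 ygi35 zgi38) (kgi xgi18 ygi53 zgi19) (kgi xgi21 ygi41 zgi24) (kgi xgi28 ygi23 zgi17) (kgi xgi15 ygi26 zgi37) (kgi xgi17 ygi10 zgi33) (kgi xgi12 ygi57 zgi36) (kgi xgi17 ygi35 zgi8) (kgi xgi21 ygi31 zgi3) (kgi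 xgi17 ygi35 zgi7) (kgi xgi28 ygi25 zgi7) (kgi xgi20 ygi31 zgi11) (kgi xgi20 ygi33 zgi57) (kgi xgi24 ygi7 zgi22) (kgi xgi10 ygi27 zgi25) (kgi xgi10 ygi27 zgi38) (kgi xgi10 ygi27 zgi30) (kgi xgi15 ygi30 zgi27) (kgi xgi22 ygi6 zgi31) (kgi xgi10 ygi27 zgi28) (kgi xgi18 ygi22 zgi34) (kgi xgi14 ygi18 zgi61) (kgi xgi28 ygi25 zgi14) (kgi xgi17 ygi16 zgi60) (kgi xgi28 ygi25 zgi17) (kgi xgi20 ygi34 zgi18) (kgi xgi17 ygi51 zgi32) (kgi xgi20 ygi34 zgi17) (kgi xgi27 ygi1 zgi29) (kgi xgi27 ygi50 zgi52) (kgi xgi28 ygi25 zgi23) (kgi xgi28 ygi25 zgi18) (kgi xgi10 ygi27 zgi34) (kgi xgi27 ygi6 zgi41) (kgi xgi23 ygi54 zgi53) (kgi xgi10 ygi27 zgi35) (kgi xgi22 ygi33 zgi30) (kgi xgi14 ygi11 zgi53) (kgi xgi20 ygi40 zgi37) (kgi xgi12 ygi38 zgi45) (kgi xgi27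 ygi37 zgi57) (kgi xgi12 ygi11 zgi11) (kgi xgi24 ygi7 zgi19) (kgi xgi21 ygi41 zgi29) (kgi xgi12 ygi39 zgi37) (kgi xgi17 ygi33 zgi23) (kgi xgi20 ygi46 zgi29) (kgi xgi17 ygi3 zgi55)) (@D3.rec (fun _ => Pt) (kgi xgi18 ygi50 zgi54) (kgi xgi19 ygi25 zgi9) (kgi xgi17 ygi8 zgi54) (kgi xgi10 ygi27 zgi46) (kgi xgi17 ygi15 zgi55) (kgi xgi11 ygi12 zgi38) (kgi xgi18 ygi38 zgi60) (kgi xgi10 ygi27 zgi50) (kgi xgi10 ygi27 zgi51) (kgi xgi18 ygi53 zgi46) (kgi xgi18 ygi53 zgi44) (kgi xgi28 ygi25 zgi39) (kgi xgi27 ygi54 zgi5) (kgi xgi18 ygi58 zgi18) (kgi xgi28 ygi25 zgi41) (kgi xgi27 ygi34 zgi2) (kgi xgi16 ygi45 zgi55) (kgi xgi10 ygi38 zgi55) (kgi xgi19 ygi6 zgi24) (kgi xgi18 ygi10 zgi49) (kgi xgi28 ygi25 zgi45) (kgi xgi18 ygi15 zgi4) (kgi xgi15 ygi48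 zgi51) (kgi xgi18 ygi56 zgi4) (kgi xgi25 ygi25 zgi19) (kgi xgi16 ygi45 zgi54) (kgi xgi20 ygi20 zgi58) (kgi xgi27 ygi32 zgi35) (kgi xgi25 ygi0 zgi57) (kgi xgi28 ygi25 zgi50) (kgi xgi18 ygi58 zgi23) (kgi xgi10 ygi29 zgi45) (kgi xgi20 ygi8 zgi9) (kgi xgi28 ygi0 zgi1) (kgi xgi12 ygi7 zgi2) (kgi xgi18 ygi59 zgi2) (kgi xgi18 ygi58 zgi59) (kgi xgi28 ygi25 zgi56) (kgi xgi18 ygi59 zgi46) (kgi xgi28 ygi25 zgi60) (kgi xgi10 ygi28 zgi18) (kgi xgi20 ygi8 zgi16) (kgi xgi28 ygi26 zgi4) (kgi xgi28 ygi25 zgi55) (kgi xgi10 ygi28 zgi19) (kgi xgi18 ygi38 zgi55) (kgi xgi28 ygi26 zgi7) (kgi xgi18 ygi38 zgi52) (kgi xgi28 ygi0 zgi2) (kgi xgi28 ygi26 zgi9) (kgi xgi18 ygi50 zgi56) (kgi xgi18 ygi39 zgi1) (kgi xgi26 ygi10 zgi8) (kgi xgi17 ygi9 zgi22) (kgi xgi10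 ygi28 zgi24) (kgi xgi27 ygi59 zgi60) (kgi xgi26 ygi20 zgi3) (kgi xgi18 ygi59 zgi60) (kgi xgi16 ygi35 zgi16) (kgi xgi10 ygi29 zgi28) (kgi xgi26 ygi32 zgi33) (kgi xgi19 ygi2 zgi31)) (@D3.rec (fun _ => Pt) (kgi xgi19 ygi0 zgi40) (kgi xgi19 ygi0 zgi10) (kgi xgi18 ygi58 zgi31) (kgi xgi21 ygi15 zgi9) (kgi xgi19 ygi1 zgi14) (kgi xgi28 ygi14 zgi36) (kgi xgi28 ygi26 zgi19) (kgi xgi10 ygi28 zgi31) (kgi xgi14 ygi42 zgi60) (kgi xgi23 ygi5 zgi53) (kgi xgi28 ygi26 zgi17) (kgi xgi10 ygi28 zgi32) (kgi xgi18 ygi56 zgi13) (kgi xgi28 ygi26 zgi29) (kgi xgi18 ygi56 zgi10) (kgi xgi21 ygi15 zgi4) (kgi xgi26 ygi58 zgi7) (kgi xgi28 ygi26 zgi30) (kgi xgi23 ygi10 zgi19) (kgi xgi18 ygi56 zgi19) (kgi xgi28 ygi26 zgi34) (kgi xgi18 ygi19 zgi50) (kgi xgi19 ygi1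 zgi53) (kgi xgi27 ygi58 zgi21) (kgi xgi19 ygi4 zgi34) (kgi xgi19 ygi0 zgi24) (kgi xgi27 ygi58 zgi23) (kgi xgi10 ygi33 zgi39) (kgi xgi27 ygi18 zgi60) (kgi xgi19 ygi23 zgi18) (kgi xgi10 ygi36 zgi2) (kgi xgi19 ygi0 zgi20) (kgi xgi25 ygi0 zgi59) (kgi xgi10 ygi29 zgi2) (kgi xgi16 ygi21 zgi21) (kgi xgi20 ygi29 zgi47) (kgi xgi26 ygi26 zgi6) (kgi xgi10 ygi28 zgi49) (kgi xgi28 ygi26 zgi54) (kgi xgi18 ygi22 zgi6) (kgi xgi19 ygi1 zgi42) (kgi xgi28 ygi24 zgi30) (kgi xgi18 ygi19 zgi35) (kgi xgi18 ygi58 zgi38) (kgi xgi10 ygi29 zgi4) (kgi xgi10 ygi28 zgi60) (kgi xgi28 ygi20 zgi8) (kgi xgi19 ygi0 zgi9) (kgi xgi14 ygi58 zgi57) (kgi xgi11 ygi13 zgi14) (kgi xgi22 ygi28 zgi49) (kgi xgi10 ygi28 zgi55) (kgi xgi19 ygi0 zgi48) (kgi xgi16 ygi32 zgi48) (kgi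 xgi10 ygi28 zgi56) (kgi xgi28 ygi27 zgi2) (kgi xgi23 ygi15 zgi42) (kgi xgi28 ygi27 zgi0) (kgi xgi19 ygi1 zgi50) (kgi xgi28 ygi0 zgi27) (kgi xgi19 ygi1 zgi48) (kgi xgi10 ygi28 zgi58))
def fi_g_19 : D2 → D3 → Pt := @D2.rec (fun _ => D3 → Pt) (@D3.rec (fun _ => Pt) (kgi xgi19 ygi1 zgi52) (kgi xgi26 ygi57 zgi44) (kgi xgi11 ygi11 zgi47) (kgi xgi18 ygi59 zgi33) (kgi xgi12 ygi6 zgi46) (kgi xgi10 ygi28 zgi61) (kgi xgi28 ygi26 zgi57) (kgi xgi18 ygi56 zgi21) (kgi xgi10 ygi29 zgi0) (kgi xgi18 ygi59 zgi44) (kgi xgi18 ygi58 zgi60) (kgi xgi27 ygi58 zgi10) (kgi xgi19 ygi0 zgi19) (kgi xgi23 ygi31 zgi48) (kgi xgi19 ygi0 zgi16) (kgi xgi22 ygi29 zgi31) (kgi xgi10 ygi29 zgi3) (kgi xgi19 ygi0 zgi14) (kgi xgi23 ygi25 zgi23) (kgi xgi18 ygi49 zgi43) (kgi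 xgi19 ygi0 zgi8) (kgi xgi19 ygi1 zgi12) (kgi xgi19 ygi0 zgi7) (kgi xgi28 ygi27 zgi18) (kgi xgi19 ygi0 zgi5) (kgi xgi10 ygi29 zgi6) (kgi xgi19 ygi2 zgi25) (kgi xgi28 ygi27 zgi27) (kgi xgi17 ygi46 zgi45) (kgi xgi27 ygi35 zgi10) (kgi xgi26 ygi48 zgi60) (kgi xgi14 ygi58 zgi55) (kgi xgi16 ygi22 zgi17) (kgi xgi10 ygi29 zgi11) (kgi xgi18 ygi58 zgi50) (kgi xgi25 ygi1 zgi28) (kgi xgi27 ygi47 zgi11) (kgi xgi18 ygi59 zgi0) (kgi xgi26 ygi19 zgi53) (kgi xgi26 ygi20 zgi55) (kgi xgi27 ygi47 zgi60) (kgi xgi27 ygi47 zgi33) (kgi xgi12 ygi19 zgi26) (kgi xgi10 ygi29 zgi23) (kgi xgi12 ygi58 zgi50) (kgi xgi10 ygi29 zgi24) (kgi xgi17 ygi38 zgi15) (kgi xgi25 ygi3 zgi46) (kgi xgi11 ygi13 zgi31) (kgi xgi24 ygi55 zgi30) (kgi xgi18 ygi59 zgi52) (kgi xgi13 ygi40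 zgi51) (kgi xgi18 ygi47 zgi42) (kgi xgi18 ygi58 zgi36) (kgi xgi18 ygi47 zgi13) (kgi xgi24 ygi55 zgi45) (kgi xgi20 ygi18 zgi13) (kgi xgi28 ygi27 zgi52) (kgi xgi26 ygi18 zgi50) (kgi xgi11 ygi38 zgi5) (kgi xgi10 ygi29 zgi32) (kgi xgi18 ygi22 zgi5)) (@D3.rec (fun _ => Pt) (kgi xgi28 ygi27 zgi56) (kgi xgi18 ygi22 zgi2) (kgi xgi19 ygi2 zgi1) (kgi xgi16 ygi22 zgi19) (kgi xgi11 ygi52 zgi49) (kgi xgi16 ygi39 zgi0) (kgi xgi26 ygi33 zgi58) (kgi xgi10 ygi29 zgi39) (kgi xgi22 ygi3 zgi46) (kgi xgi20 ygi55 zgi33) (kgi xgi22 ygi3 zgi58) (kgi xgi28 ygi27 zgi59) (kgi xgi16 ygi35 zgi23) (kgi xgi27 ygi33 zgi42) (kgi xgi15 ygi3 zgi55) (kgi xgi24 ygi28 zgi18) (kgi xgi18 ygi46 zgi8) (kgi xgi22 ygi34 zgi20) (kgi xgi10 ygi29 zgi46) (kgi xgi24 ygi28 zgi21)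 (kgi xgi28 ygi28 zgi9) (kgi xgi24 ygi46 zgi36) (kgi xgi10 ygi29 zgi47) (kgi xgi18 ygi49 zgi36) (kgi xgi24 ygi44 zgi23) (kgi xgi18 ygi49 zgi33) (kgi xgi27 ygi33 zgi44) (kgi xgi16 ygi34 zgi54) (kgi xgi16 ygi39 zgi57) (kgi xgi18 ygi42 zgi24) (kgi xgi18 ygi49 zgi40) (kgi xgi10 ygi30 zgi17) (kgi xgi18 ygi19 zgi12) (kgi xgi16 ygi29 zgi40) (kgi xgi10 ygi29 zgi59) (kgi xgi26 ygi28 zgi61) (kgi xgi24 ygi46 zgi12) (kgi xgi18 ygi59 zgi39) (kgi xgi28 ygi28 zgi20) (kgi xgi18 ygi59 zgi37) (kgi xgi18 ygi59 zgi42) (kgi xgi28 ygi26 zgi32) (kgi xgi18 ygi41 zgi17) (kgi xgi15 ygi12 zgi11) (kgi xgi18 ygi19 zgi23) (kgi xgi28 ygi12 zgi36) (kgi xgi24 ygi46 zgi33) (kgi xgi19 ygi59 zgi46) (kgi xgi10 ygi30 zgi5) (kgi xgi27 ygi57 zgi53) (kgi xgi18 ygi39 zgi3)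 (kgi xgi28 ygi1 zgi6) (kgi xgi18 ygi59 zgi61) (kgi xgi26 ygi19 zgi51) (kgi xgi18 ygi35 zgi50) (kgi xgi15 ygi32 zgi14) (kgi xgi24 ygi46 zgi28) (kgi xgi18 ygi35 zgi56) (kgi xgi10 ygi30 zgi10) (kgi xgi18 ygi7 zgi44) (kgi xgi24 ygi55 zgi50) (kgi xgi18 ygi7 zgi13)) (@D3.rec (fun _ => Pt) (kgi xgi28 ygi27 zgi46) (kgi xgi27 ygi58 zgi27) (kgi xgi10 ygi30 zgi12) (kgi xgi22 ygi17 zgi6) (kgi xgi18 ygi59 zgi22) (kgi xgi18 ygi49 zgi45) (kgi xgi18 ygi39 zgi19) (kgi xgi13 ygi14 zgi8) (kgi xgi27 ygi31 zgi18) (kgi xgi24 ygi55 zgi29) (kgi xgi18 ygi39 zgi5) (kgi xgi27 ygi48 zgi14) (kgi xgi13 ygi59 zgi47) (kgi xgi28 ygi27 zgi16) (kgi xgi15 ygi14 zgi33) (kgi xgi24 ygi56 zgi12) (kgi xgi10 ygi30 zgi19) (kgi xgi16 ygi22 zgi14) (kgi xgi19 ygi2 zgi19) (kgi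 xgi10 ygi30 zgi20) (kgi xgi19 ygi2 zgi18) (kgi xgi24 ygi53 zgi49) (kgi xgi10 ygi30 zgi22) (kgi xgi18 ygi14 zgi31) (kgi xgi28 ygi28 zgi45) (kgi xgi19 ygi0 zgi25) (kgi xgi17 ygi47 zgi57) (kgi xgi20 ygi20 zgi60) (kgi xgi24 ygi54 zgi5) (kgi xgi20 ygi10 zgi20) (kgi xgi16 ygi35 zgi29) (kgi xgi20 ygi7 zgi47) (kgi xgi18 ygi49 zgi38) (kgi xgi26 ygi32 zgi22) (kgi xgi10 ygi36 zgi28) (kgi xgi24 ygi23 zgi15) (kgi xgi10 ygi30 zgi32) (kgi xgi10 ygi34 zgi4) (kgi xgi10 ygi34 zgi2) (kgi xgi14 ygi39 zgi21) (kgi xgi14 ygi38 zgi34) (kgi xgi24 ygi12 zgi41) (kgi xgi10 ygi30 zgi34) (kgi xgi10 ygi33 zgi59) (kgi xgi19 ygi12 zgi12) (kgi xgi10 ygi33 zgi56) (kgi xgi10 ygi34 zgi23) (kgi xgi10 ygi30 zgi37) (kgi xgi10 ygi34 zgi26) (kgi xgi10 ygi34 zgi24) (kgi xgi28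 ygi29 zgi5) (kgi xgi28 ygi29 zgi8) (kgi xgi22 ygi7 zgi24) (kgi xgi19 ygi11 zgi34) (kgi xgi10 ygi33 zgi60) (kgi xgi10 ygi30 zgi40) (kgi xgi10 ygi34 zgi17) (kgi xgi10 ygi34 zgi15) (kgi xgi25 ygi25 zgi1) (kgi xgi24 ygi4 zgi51) (kgi xgi28 ygi8 zgi45) (kgi xgi16 ygi43 zgi61)) (@D3.rec (fun _ => Pt) (kgi xgi10 ygi34 zgi12) (kgi xgi10 ygi30 zgi43) (kgi xgi10 ygi30 zgi45) (kgi xgi24 ygi28 zgi58) (kgi xgi19 ygi14 zgi22) (kgi xgi24 ygi26 zgi30) (kgi xgi10 ygi30 zgi47) (kgi xgi24 ygi29 zgi24) (kgi xgi22 ygi4 zgi17) (kgi xgi21 ygi11 zgi25) (kgi xgi21 ygi9 zgi55) (kgi xgi10 ygi30 zgi46) (kgi xgi21 ygi9 zgi54) (kgi xgi25 ygi28 zgi44) (kgi xgi28 ygi29 zgi1) (kgi xgi22 ygi19 zgi61) (kgi xgi22 ygi20 zgi23) (kgi xgi28 ygi5 zgi60) (kgi xgi10 ygi30 zgi50)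 (kgi xgi10 ygi34 zgi56) (kgi xgi10 ygi34 zgi54) (kgi xgi10 ygi30 zgi53) (kgi xgi10 ygi37 zgi25) (kgi xgi10 ygi37 zgi23) (kgi xgi10 ygi30 zgi56) (kgi xgi10 ygi35 zgi49) (kgi xgi10 ygi35 zgi47) (kgi xgi10 ygi30 zgi57) (kgi xgi10 ygi36 zgi15) (kgi xgi10 ygi36 zgi13) (kgi xgi19 ygi52 zgi10) (kgi xgi19 ygi2 zgi44) (kgi xgi10 ygi35 zgi56) (kgi xgi10 ygi30 zgi59) (kgi xgi10 ygi36 zgi7) (kgi xgi10 ygi36 zgi5) (kgi xgi24 ygi15 zgi12) (kgi xgi19 ygi23 zgi29) (kgi xgi24 ygi17 zgi57) (kgi xgi24 ygi24 zgi19) (kgi xgi10 ygi48 zgi25) (kgi xgi10 ygi37 zgi57) (kgi xgi10 ygi31 zgi2) (kgi xgi10 ygi37 zgi55) (kgi xgi24 ygi29 zgi21) (kgi xgi27 ygi47 zgi9) (kgi xgi28 ygi29 zgi40) (kgi xgi13 ygi19 zgi41) (kgi xgi10 ygi36 zgi45) (kgi xgi24 ygi24 zgi58) (kgi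 xgi23 ygi57 zgi33) (kgi xgi19 ygi8 zgi43) (kgi xgi24 ygi17 zgi53) (kgi xgi16 ygi38 zgi30) (kgi xgi10 ygi31 zgi7) (kgi xgi10 ygi36 zgi55) (kgi xgi28 ygi30 zgi8) (kgi xgi10 ygi36 zgi52) (kgi xgi19 ygi2 zgi61) (kgi xgi10 ygi31 zgi11) (kgi xgi10 ygi35 zgi33) (kgi xgi10 ygi35 zgi31)) (@D3.rec (fun _ => Pt) (kgi xgi21 ygi47 zgi49) (kgi xgi25 ygi40 zgi44) (kgi xgi21 ygi55 zgi9) (kgi xgi24 ygi20 zgi44) (kgi xgi10 ygi31 zgi17) (kgi xgi10 ygi36 zgi29) (kgi xgi24 ygi40 zgi29) (kgi xgi10 ygi31 zgi18) (kgi xgi23 ygi58 zgi49) (kgi xgi14 ygi29 zgi42) (kgi xgi10 ygi31 zgi19) (kgi xgi10 ygi38 zgi6) (kgi xgi28 ygi30 zgi25) (kgi xgi10 ygi38 zgi3) (kgi xgi28 ygi29 zgi48) (kgi xgi25 ygi41 zgi58) (kgi xgi19 ygi23 zgi36) (kgi xgi10 ygi31 zgi22) (kgi xgi10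 ygi38 zgi16) (kgi xgi28 ygi30 zgi36) (kgi xgi10 ygi38 zgi13) (kgi xgi19 ygi41 zgi20) (kgi xgi25 ygi42 zgi5) (kgi xgi10 ygi39 zgi3) (kgi xgi10 ygi39 zgi1) (kgi xgi28 ygi30 zgi42) (kgi xgi19 ygi23 zgi37) (kgi xgi14 ygi34 zgi12) (kgi xgi14 ygi43 zgi39) (kgi xgi10 ygi39 zgi56) (kgi xgi24 ygi29 zgi27) (kgi xgi18 ygi26 zgi59) (kgi xgi16 ygi54 zgi11) (kgi xgi14 ygi33 zgi50) (kgi xgi10 ygi42 zgi46) (kgi xgi10 ygi42 zgi33) (kgi xgi15 ygi45 zgi12) (kgi xgi11 ygi0 zgi0) (kgi xgi14 ygi20 zgi55) (kgi xgi10 ygi39 zgi11) (kgi xgi21 ygi41 zgi19) (kgi xgi10 ygi39 zgi59) (kgi xgi14 ygi32 zgi41) (kgi xgi15 ygi45 zgi17) (kgi xgi19 ygi52 zgi12) (kgi xgi13 ygi50 zgi3) (kgi xgi28 ygi30 zgi49) (kgi xgi10 ygi59 zgi42) (kgi xgi10 ygi32 zgi17) (kgi xgi10 ygi42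 zgi34) (kgi xgi10 ygi41 zgi18) (kgi xgi10 ygi42 zgi9) (kgi xgi10 ygi40 zgi58) (kgi xgi24 ygi0 zgi10) (kgi xgi10 ygi31 zgi58) (kgi xgi10 ygi40 zgi53) (kgi xgi20 ygi21 zgi21) (kgi xgi23 ygi36 zgi56) (kgi xgi24 ygi1 zgi20) (kgi xgi14 ygi34 zgi11) (kgi xgi15 ygi21 zgi5) (kgi xgi10 ygi42 zgi3)) (@D3.rec (fun _ => Pt) (kgi xgi10 ygi40 zgi27) (kgi xgi10 ygi41 zgi8) (kgi xgi17 ygi21 zgi28) (kgi xgi19 ygi17 zgi39) (kgi xgi24 ygi28 zgi61) (kgi xgi23 ygi59 zgi57) (kgi xgi10 ygi32 zgi7) (kgi xgi24 ygi26 zgi48) (kgi xgi26 ygi33 zgi17) (kgi xgi25 ygi4 zgi53) (kgi xgi24 ygi28 zgi57) (kgi xgi25 ygi0 zgi46) (kgi xgi22 ygi34 zgi34) (kgi xgi16 ygi22 zgi5) (kgi xgi19 ygi41 zgi4) (kgi xgi10 ygi40 zgi47) (kgi xgi18 ygi33 zgi24) (kgi xgi28 ygi30 zgi61)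 (kgi xgi22 ygi26 zgi24) (kgi xgi10 ygi40 zgi21) (kgi xgi26 ygi16 zgi0) (kgi xgi23 ygi36 zgi43) (kgi xgi10 ygi32 zgi20) (kgi xgi28 ygi31 zgi4) (kgi xgi10 ygi41 zgi54) (kgi xgi28 ygi30 zgi52) (kgi xgi19 ygi10 zgi46) (kgi xgi27 ygi51 zgi19) (kgi xgi10 ygi40 zgi51) (kgi xgi26 ygi36 zgi36) (kgi xgi20 ygi40 zgi42) (kgi xgi10 ygi40 zgi8) (kgi xgi10 ygi34 zgi58) (kgi xgi19 ygi6 zgi48) (kgi xgi19 ygi15 zgi6) (kgi xgi14 ygi36 zgi26) (kgi xgi10 ygi40 zgi3) (kgi xgi11 ygi44 zgi38) (kgi xgi17 ygi39 zgi37) (kgi xgi17 ygi39 zgi36) (kgi xgi28 ygi31 zgi13) (kgi xgi14 ygi54 zgi18) (kgi xgi16 ygi0 zgi53) (kgi xgi16 ygi0 zgi56) (kgi xgi26 ygi40 zgi30) (kgi xgi26 ygi0 zgi17) (kgi xgi16 ygi6 zgi7) (kgi xgi20 ygi14 zgi34) (kgi xgi25 ygi40 zgi61) (kgi xgi24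 ygi43 zgi0) (kgi xgi15 ygi46 zgi19) (kgi xgi26 ygi1 zgi25) (kgi xgi21 ygi56 zgi14) (kgi xgi10 ygi32 zgi41) (kgi xgi11 ygi51 zgi12) (kgi xgi27 ygi43 zgi43) (kgi xgi26 ygi9 zgi10) (kgi xgi10 ygi32 zgi44) (kgi xgi19 ygi6 zgi12) (kgi xgi19 ygi55 zgi24) (kgi xgi19 ygi16 zgi44) (kgi xgi15 ygi44 zgi36)) (@D3.rec (fun _ => Pt) (kgi xgi25 ygi34 zgi36) (kgi xgi15 ygi45 zgi18) (kgi xgi25 ygi10 zgi39) (kgi xgi26 ygi1 zgi8) (kgi xgi10 ygi32 zgi50) (kgi xgi25 ygi10 zgi33) (kgi xgi14 ygi38 zgi35) (kgi xgi25 ygi58 zgi22) (kgi xgi28 ygi31 zgi32) (kgi xgi28 ygi31 zgi36) (kgi xgi28 ygi31 zgi39) (kgi xgi10 ygi32 zgi53) (kgi xgi19 ygi5 zgi57) (kgi xgi25 ygi37 zgi22) (kgi xgi15 ygi3 zgi37) (kgi xgi26 ygi38 zgi0) (kgi xgi19 ygi6 zgi14) (kgi xgi26 ygi32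 zgi9) (kgi xgi18 ygi32 zgi25) (kgi xgi24 ygi48 zgi15) (kgi xgi28 ygi31 zgi48) (kgi xgi28 ygi31 zgi51) (kgi xgi18 ygi35 zgi34) (kgi xgi16 ygi8 zgi2) (kgi xgi18 ygi49 zgi10) (kgi xgi28 ygi31 zgi56) (kgi xgi28 ygi7 zgi16) (kgi xgi18 ygi34 zgi5) (kgi xgi19 ygi10 zgi45) (kgi xgi10 ygi54 zgi21) (kgi xgi28 ygi8 zgi28) (kgi xgi18 ygi28 zgi56) (kgi xgi18 ygi14 zgi45) (kgi xgi28 ygi3 zgi16) (kgi xgi27 ygi45 zgi30) (kgi xgi18 ygi28 zgi20) (kgi xgi27 ygi16 zgi44) (kgi xgi28 ygi32 zgi5) (kgi xgi28 ygi5 zgi20) (kgi xgi10 ygi33 zgi6) (kgi xgi28 ygi5 zgi45) (kgi xgi28 ygi32 zgi11) (kgi xgi10 ygi33 zgi7) (kgi xgi10 ygi34 zgi52) (kgi xgi26 ygi32 zgi14) (kgi xgi10 ygi33 zgi8) (kgi xgi21 ygi55 zgi15) (kgi xgi18 ygi17 zgi48) (kgi xgi19 ygi10 zgi29) (kgi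 xgi10 ygi33 zgi13) (kgi xgi16 ygi2 zgi6) (kgi xgi27 ygi18 zgi58) (kgi xgi16 ygi2 zgi4) (kgi xgi27 ygi10 zgi52) (kgi xgi28 ygi32 zgi24) (kgi xgi10 ygi33 zgi18) (kgi xgi18 ygi41 zgi36) (kgi xgi19 ygi9 zgi33) (kgi xgi15 ygi52 zgi15) (kgi xgi10 ygi33 zgi20) (kgi xgi24 ygi16 zgi47) (kgi xgi20 ygi37 zgi25)) (@D3.rec (fun _ => Pt) (kgi xgi28 ygi32 zgi32) (kgi xgi28 ygi32 zgi34) (kgi xgi10 ygi33 zgi23) (kgi xgi28 ygi4 zgi56) (kgi xgi28 ygi4 zgi54) (kgi xgi28 ygi32 zgi38) (kgi xgi14 ygi31 zgi30) (kgi xgi23 ygi58 zgi27) (kgi xgi21 ygi18 zgi7) (kgi xgi16 ygi38 zgi37) (kgi xgi16 ygi55 zgi8) (kgi xgi28 ygi32 zgi25) (kgi xgi12 ygi56 zgi33) (kgi xgi19 ygi7 zgi55) (kgi xgi10 ygi33 zgi27) (kgi xgi24 ygi22 zgi58) (kgi xgi22 ygi35 zgi32) (kgi xgi22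 ygi57 zgi6) (kgi xgi23 ygi1 zgi21) (kgi xgi28 ygi22 zgi55) (kgi xgi28 ygi32 zgi54) (kgi xgi14 ygi31 zgi19) (kgi xgi22 ygi15 zgi25) (kgi xgi10 ygi33 zgi32) (kgi xgi24 ygi23 zgi9) (kgi xgi22 ygi57 zgi18) (kgi xgi10 ygi33 zgi36) (kgi xgi24 ygi12 zgi48) (kgi xgi28 ygi32 zgi61) (kgi xgi26 ygi27 zgi36) (kgi xgi28 ygi32 zgi37) (kgi xgi28 ygi26 zgi40) (kgi xgi10 ygi33 zgi38) (kgi xgi24 ygi23 zgi12) (kgi xgi28 ygi33 zgi9) (kgi xgi22 ygi6 zgi14) (kgi xgi28 ygi26 zgi45) (kgi xgi10 ygi33 zgi40) (kgi xgi15 ygi25 zgi43) (kgi xgi24 ygi19 zgi56) (kgi xgi15 ygi25 zgi42) (kgi xgi17 ygi12 zgi58) (kgi xgi15 ygi25 zgi23) (kgi xgi19 ygi10 zgi54) (kgi xgi16 ygi13 zgi49) (kgi xgi10 ygi33 zgi45) (kgi xgi17 ygi35 zgi49) (kgi xgi17 ygi35 zgi47) (kgi xgi14 ygi33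 zgi19) (kgi xgi10 ygi33 zgi47) (kgi xgi26 ygi36 zgi46) (kgi xgi10 ygi45 zgi31) (kgi xgi10 ygi45 zgi21) (kgi xgi10 ygi42 zgi44) (kgi xgi20 ygi55 zgi32) (kgi xgi19 ygi7 zgi9) (kgi xgi24 ygi19 zgi42) (kgi xgi10 ygi33 zgi51) (kgi xgi26 ygi36 zgi48) (kgi xgi28 ygi33 zgi28) (kgi xgi27 ygi9 zgi61) (kgi xgi10 ygi33 zgi52)) (@D3.rec (fun _ => Pt) (kgi xgi28 ygi33 zgi26) (kgi xgi28 ygi33 zgi35) (kgi xgi14 ygi38 zgi16) (kgi xgi28 ygi33 zgi21) (kgi xgi24 ygi12 zgi20) (kgi xgi28 ygi22 zgi49) (kgi xgi28 ygi33 zgi41) (kgi xgi10 ygi33 zgi55) (kgi xgi23 ygi0 zgi33) (kgi xgi22 ygi58 zgi57) (kgi xgi28 ygi28 zgi54) (kgi xgi28 ygi33 zgi22) (kgi xgi25 ygi40 zgi22) (kgi xgi28 ygi33 zgi51) (kgi xgi23 ygi12 zgi21) (kgi xgi10 ygi42 zgi52) (kgi xgi19 ygi12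 zgi10) (kgi xgi28 ygi33 zgi60) (kgi xgi19 ygi3 zgi31) (kgi xgi25 ygi40 zgi26) (kgi xgi25 ygi40 zgi10) (kgi xgi21 ygi11 zgi33) (kgi xgi25 ygi40 zgi29) (kgi xgi10 ygi42 zgi37) (kgi xgi28 ygi34 zgi7) (kgi xgi16 ygi12 zgi38) (kgi xgi28 ygi34 zgi8) (kgi xgi14 ygi39 zgi23) (kgi xgi14 ygi38 zgi52) (kgi xgi10 ygi34 zgi5) (kgi xgi23 ygi0 zgi28) (kgi xgi28 ygi34 zgi12) (kgi xgi10 ygi34 zgi6) (kgi xgi14 ygi48 zgi31) (kgi xgi14 ygi10 zgi40) (kgi xgi28 ygi34 zgi10) (kgi xgi24 ygi13 zgi4) (kgi xgi26 ygi27 zgi61) (kgi xgi24 ygi12 zgi14) (kgi xgi24 ygi4 zgi46) (kgi xgi18 ygi59 zgi24) (kgi xgi28 ygi34 zgi22) (kgi xgi19 ygi13 zgi50) (kgi xgi19 ygi3 zgi53) (kgi xgi24 ygi49 zgi9) (kgi xgi28 ygi8 zgi57) (kgi xgi28 ygi29 zgi29) (kgi xgi26 ygi42 zgi38)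 (kgi xgi27 ygi24 zgi15) (kgi xgi28 ygi34 zgi30) (kgi xgi10 ygi34 zgi48) (kgi xgi28 ygi29 zgi24) (kgi xgi28 ygi34 zgi29) (kgi xgi24 ygi38 zgi41) (kgi xgi28 ygi29 zgi17) (kgi xgi24 ygi39 zgi46) (kgi xgi10 ygi34 zgi18) (kgi xgi28 ygi29 zgi15) (kgi xgi25 ygi36 zgi26) (kgi xgi22 ygi20 zgi28) (kgi xgi24 ygi39 zgi45) (kgi xgi28 ygi34 zgi36)) (@D3.rec (fun _ => Pt) (kgi xgi22 ygi17 zgi9) (kgi xgi10 ygi34 zgi21) (kgi xgi28 ygi29 zgi13) (kgi xgi22 ygi16 zgi32) (kgi xgi28 ygi29 zgi11) (kgi xgi19 ygi11 zgi32) (kgi xgi28 ygi34 zgi41) (kgi xgi15 ygi44 zgi5) (kgi xgi15 ygi29 zgi13) (kgi xgi10 ygi34 zgi50) (kgi xgi10 ygi34 zgi34) (kgi xgi25 ygi53 zgi2) (kgi xgi24 ygi38 zgi39) (kgi xgi21 ygi4 zgi0) (kgi xgi28 ygi29 zgi4) (kgi xgi24 ygi27 zgi53) (kgi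 xgi10 ygi34 zgi27) (kgi xgi28 ygi29 zgi2) (kgi xgi26 ygi10 zgi10) (kgi xgi28 ygi34 zgi61) (kgi xgi10 ygi34 zgi28) (kgi xgi28 ygi34 zgi54) (kgi xgi28 ygi35 zgi9) (kgi xgi28 ygi34 zgi52) (kgi xgi10 ygi34 zgi29) (kgi xgi28 ygi29 zgi21) (kgi xgi28 ygi35 zgi14) (kgi xgi22 ygi20 zgi12) (kgi xgi26 ygi39 zgi5) (kgi xgi19 ygi3 zgi58) (kgi xgi10 ygi34 zgi42) (kgi xgi10 ygi42 zgi0) (kgi xgi26 ygi20 zgi39) (kgi xgi22 ygi3 zgi47) (kgi xgi28 ygi34 zgi3) (kgi xgi27 ygi24 zgi17) (kgi xgi28 ygi35 zgi25) (kgi xgi24 ygi27 zgi2) (kgi xgi20 ygi9 zgi13) (kgi xgi23 ygi57 zgi15) (kgi xgi25 ygi59 zgi27) (kgi xgi19 ygi6 zgi57) (kgi xgi10 ygi34 zgi37) (kgi xgi28 ygi34 zgi39) (kgi xgi20 ygi29 zgi59) (kgi xgi10 ygi34 zgi39) (kgi xgi28 ygi33 zgi14) (kgi xgi28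 ygi34 zgi33) (kgi xgi10 ygi34 zgi41) (kgi xgi10 ygi34 zgi46) (kgi xgi17 ygi20 zgi58) (kgi xgi28 ygi35 zgi40) (kgi xgi28 ygi35 zgi24) (kgi xgi23 ygi57 zgi9) (kgi xgi22 ygi20 zgi6) (kgi xgi28 ygi34 zgi28) (kgi xgi17 ygi24 zgi9) (kgi xgi19 ygi41 zgi51) (kgi xgi10 ygi34 zgi44) (kgi xgi21 ygi9 zgi53) (kgi xgi17 ygi21 zgi47) (kgi xgi17 ygi17 zgi0)) (@D3.rec (fun _ => Pt) (kgi xgi28 ygi35 zgi39) (kgi xgi17 ygi26 zgi47) (kgi xgi10 ygi34 zgi45) (kgi xgi19 ygi42 zgi0) (kgi xgi10 ygi34 zgi47) (kgi xgi10 ygi41 zgi10) (kgi xgi11 ygi34 zgi16) (kgi xgi28 ygi35 zgi61) (kgi xgi28 ygi1 zgi21) (kgi xgi28 ygi13 zgi7) (kgi xgi28 ygi36 zgi2) (kgi xgi10 ygi34 zgi51) (kgi xgi24 ygi38 zgi35) (kgi xgi28 ygi36 zgi8) (kgi xgi28 ygi5 zgi56) (kgi xgi28 ygi5 zgi48)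 (kgi xgi10 ygi34 zgi53) (kgi xgi28 ygi5 zgi51) (kgi xgi28 ygi36 zgi19) (kgi xgi28 ygi34 zgi31) (kgi xgi18 ygi30 zgi34) (kgi xgi27 ygi59 zgi31) (kgi xgi19 ygi41 zgi56) (kgi xgi28 ygi36 zgi25) (kgi xgi27 ygi51 zgi37) (kgi xgi18 ygi11 zgi7) (kgi xgi22 ygi20 zgi4) (kgi xgi10 ygi34 zgi57) (kgi xgi17 ygi12 zgi37) (kgi xgi10 ygi35 zgi39) (kgi xgi18 ygi17 zgi51) (kgi xgi10 ygi35 zgi1) (kgi xgi17 ygi49 zgi3) (kgi xgi28 ygi19 zgi11) (kgi xgi23 ygi12 zgi50) (kgi xgi25 ygi40 zgi36) (kgi xgi19 ygi57 zgi31) (kgi xgi21 ygi40 zgi49) (kgi xgi14 ygi58 zgi22) (kgi xgi16 ygi20 zgi23) (kgi xgi22 ygi28 zgi61) (kgi xgi10 ygi35 zgi7) (kgi xgi23 ygi58 zgi50) (kgi xgi19 ygi57 zgi30) (kgi xgi27 ygi36 zgi57) (kgi xgi18 ygi49 zgi21) (kgi xgi18 ygi16 zgi24) (kgi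 xgi19 ygi14 zgi28) (kgi xgi11 ygi2 zgi53) (kgi xgi10 ygi35 zgi22) (kgi xgi17 ygi30 zgi43) (kgi xgi21 ygi48 zgi50) (kgi xgi19 ygi59 zgi16) (kgi xgi11 ygi19 zgi29) (kgi xgi16 ygi14 zgi17) (kgi xgi10 ygi35 zgi27) (kgi xgi17 ygi49 zgi14) (kgi xgi17 ygi49 zgi12) (kgi xgi15 ygi25 zgi3) (kgi xgi15 ygi24 zgi19) (kgi xgi27 ygi53 zgi23) (kgi xgi14 ygi9 zgi2)) (@D3.rec (fun _ => Pt) (kgi xgi17 ygi48 zgi29) (kgi xgi18 ygi0 zgi41) (kgi xgi14 ygi47 zgi49) (kgi xgi17 ygi51 zgi48) (kgi xgi28 ygi36 zgi54) (kgi xgi20 ygi28 zgi18) (kgi xgi14 ygi47 zgi12) (kgi xgi24 ygi14 zgi52) (kgi xgi24 ygi49 zgi61) (kgi xgi19 ygi57 zgi36) (kgi xgi19 ygi42 zgi20) (kgi xgi24 ygi51 zgi58) (kgi xgi16 ygi49 zgi33) (kgi xgi11 ygi6 zgi6) (kgi xgi28 ygi37 zgi4) (kgi xgi10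 ygi35 zgi45) (kgi xgi15 ygi28 zgi61) (kgi xgi15 ygi28 zgi59) (kgi xgi28 ygi37 zgi10) (kgi xgi28 ygi36 zgi40) (kgi xgi26 ygi33 zgi9) (kgi xgi10 ygi38 zgi21) (kgi xgi27 ygi37 zgi15) (kgi xgi19 ygi12 zgi46) (kgi xgi26 ygi55 zgi56) (kgi xgi27 ygi19 zgi18) (kgi xgi27 ygi19 zgi17) (kgi xgi27 ygi18 zgi51) (kgi xgi27 ygi37 zgi18) (kgi xgi28 ygi28 zgi61) (kgi xgi28 ygi37 zgi22) (kgi xgi21 ygi0 zgi42) (kgi xgi10 ygi35 zgi53) (kgi xgi19 ygi8 zgi17) (kgi xgi19 ygi9 zgi7) (kgi xgi28 ygi28 zgi58) (kgi xgi24 ygi20 zgi43) (kgi xgi28 ygi28 zgi56) (kgi xgi19 ygi14 zgi60) (kgi xgi26 ygi56 zgi38) (kgi xgi19 ygi50 zgi17) (kgi xgi22 ygi51 zgi39) (kgi xgi10 ygi36 zgi0) (kgi xgi28 ygi33 zgi11) (kgi xgi27 ygi8 zgi29) (kgi xgi10 ygi36 zgi1) (kgi xgi18 ygi20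 zgi18) (kgi xgi28 ygi17 zgi58) (kgi xgi19 ygi20 zgi4) (kgi xgi27 ygi36 zgi0) (kgi xgi28 ygi34 zgi26) (kgi xgi28 ygi37 zgi47) (kgi xgi28 ygi30 zgi46) (kgi xgi10 ygi36 zgi4) (kgi xgi28 ygi26 zgi47) (kgi xgi28 ygi37 zgi55) (kgi xgi18 ygi46 zgi22) (kgi xgi15 ygi22 zgi60) (kgi xgi10 ygi36 zgi38) (kgi xgi10 ygi38 zgi11) (kgi xgi10 ygi37 zgi48) (kgi xgi25 ygi49 zgi17)) (@D3.rec (fun _ => Pt) (kgi xgi25 ygi46 zgi3) (kgi xgi28 ygi29 zgi61) (kgi xgi28 ygi38 zgi3) (kgi xgi18 ygi46 zgi18) (kgi xgi28 ygi38 zgi6) (kgi xgi10 ygi36 zgi9) (kgi xgi28 ygi38 zgi4) (kgi xgi28 ygi38 zgi12) (kgi xgi24 ygi15 zgi59) (kgi xgi18 ygi56 zgi45) (kgi xgi10 ygi36 zgi11) (kgi xgi28 ygi29 zgi14) (kgi xgi19 ygi8 zgi18) (kgi xgi25 ygi47 zgi14) (kgi xgi10 ygi36 zgi40)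 (kgi xgi10 ygi36 zgi21) (kgi xgi24 ygi11 zgi57) (kgi xgi28 ygi29 zgi56) (kgi xgi26 ygi45 zgi29) (kgi xgi19 ygi17 zgi29) (kgi xgi23 ygi58 zgi31) (kgi xgi19 ygi18 zgi2) (kgi xgi27 ygi33 zgi40) (kgi xgi28 ygi38 zgi29) (kgi xgi10 ygi36 zgi17) (kgi xgi28 ygi33 zgi1) (kgi xgi28 ygi38 zgi38) (kgi xgi10 ygi36 zgi19) (kgi xgi19 ygi18 zgi1) (kgi xgi28 ygi18 zgi60) (kgi xgi19 ygi17 zgi60) (kgi xgi10 ygi36 zgi20) (kgi xgi24 ygi23 zgi14) (kgi xgi28 ygi36 zgi3) (kgi xgi28 ygi30 zgi14) (kgi xgi27 ygi38 zgi60) (kgi xgi15 ygi1 zgi35) (kgi xgi18 ygi33 zgi22) (kgi xgi28 ygi38 zgi50) (kgi xgi10 ygi36 zgi26) (kgi xgi27 ygi35 zgi26) (kgi xgi21 ygi54 zgi0) (kgi xgi19 ygi8 zgi1) (kgi xgi24 ygi20 zgi37) (kgi xgi10 ygi36 zgi25) (kgi xgi26 ygi34 zgi25) (kgi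 xgi19 ygi11 zgi20) (kgi xgi24 ygi17 zgi7) (kgi xgi21 ygi32 zgi21) (kgi xgi24 ygi19 zgi50) (kgi xgi23 ygi59 zgi24) (kgi xgi28 ygi38 zgi58) (kgi xgi10 ygi36 zgi37) (kgi xgi24 ygi24 zgi49) (kgi xgi28 ygi38 zgi45) (kgi xgi14 ygi34 zgi48) (kgi xgi10 ygi36 zgi33) (kgi xgi24 ygi21 zgi27) (kgi xgi25 ygi30 zgi57) (kgi xgi21 ygi15 zgi51) (kgi xgi20 ygi25 zgi31) (kgi xgi28 ygi39 zgi1)) (@D3.rec (fun _ => Pt) (kgi xgi28 ygi39 zgi3) (kgi xgi11 ygi31 zgi41) (kgi xgi24 ygi24 zgi26) (kgi xgi10 ygi36 zgi36) (kgi xgi24 ygi24 zgi20) (kgi xgi28 ygi38 zgi60) (kgi xgi25 ygi46 zgi4) (kgi xgi19 ygi21 zgi37) (kgi xgi14 ygi32 zgi59) (kgi xgi16 ygi58 zgi29) (kgi xgi18 ygi2 zgi8) (kgi xgi28 ygi29 zgi39) (kgi xgi20 ygi8 zgi25) (kgi xgi28 ygi25 zgi58) (kgi xgi17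 ygi48 zgi13) (kgi xgi24 ygi21 zgi41) (kgi xgi28 ygi39 zgi12) (kgi xgi28 ygi39 zgi11) (kgi xgi10 ygi36 zgi44) (kgi xgi28 ygi19 zgi13) (kgi xgi26 ygi39 zgi8) (kgi xgi28 ygi29 zgi58) (kgi xgi10 ygi36 zgi46) (kgi xgi28 ygi29 zgi46) (kgi xgi28 ygi39 zgi25) (kgi xgi10 ygi36 zgi50) (kgi xgi28 ygi35 zgi19) (kgi xgi23 ygi45 zgi32) (kgi xgi23 ygi45 zgi30) (kgi xgi28 ygi39 zgi35) (kgi xgi28 ygi39 zgi37) (kgi xgi20 ygi2 zgi29) (kgi xgi28 ygi29 zgi22) (kgi xgi21 ygi52 zgi38) (kgi xgi28 ygi38 zgi2) (kgi xgi28 ygi39 zgi42) (kgi xgi28 ygi39 zgi45) (kgi xgi23 ygi57 zgi32) (kgi xgi28 ygi39 zgi41) (kgi xgi10 ygi36 zgi54) (kgi xgi28 ygi30 zgi11) (kgi xgi26 ygi39 zgi11) (kgi xgi28 ygi39 zgi55) (kgi xgi28 ygi30 zgi7) (kgi xgi28 ygi39 zgi59) (kgi xgi28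 ygi39 zgi61) (kgi xgi26 ygi36 zgi35) (kgi xgi10 ygi36 zgi57) (kgi xgi27 ygi17 zgi11) (kgi xgi10 ygi36 zgi61) (kgi xgi28 ygi39 zgi27) (kgi xgi20 ygi35 zgi38) (kgi xgi19 ygi34 zgi41) (kgi xgi19 ygi31 zgi58) (kgi xgi19 ygi8 zgi42) (kgi xgi11 ygi26 zgi14) (kgi xgi20 ygi55 zgi34) (kgi xgi26 ygi10 zgi31) (kgi xgi26 ygi38 zgi28) (kgi xgi26 ygi36 zgi26) (kgi xgi24 ygi31 zgi54) (kgi xgi18 ygi49 zgi24)) (@D3.rec (fun _ => Pt) (kgi xgi20 ygi38 zgi56) (kgi xgi10 ygi37 zgi6) (kgi xgi28 ygi40 zgi21) (kgi xgi26 ygi37 zgi61) (kgi xgi28 ygi40 zgi27) (kgi xgi28 ygi40 zgi22) (kgi xgi10 ygi37 zgi7) (kgi xgi20 ygi57 zgi20) (kgi xgi19 ygi34 zgi43) (kgi xgi28 ygi40 zgi33) (kgi xgi16 ygi38 zgi15) (kgi xgi16 ygi41 zgi29) (kgi xgi20 ygi56 zgi51) (kgi xgi20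 ygi56 zgi49) (kgi xgi28 ygi32 zgi23) (kgi xgi28 ygi40 zgi37) (kgi xgi27 ygi44 zgi46) (kgi xgi26 ygi37 zgi49) (kgi xgi26 ygi7 zgi51) (kgi xgi26 ygi37 zgi56) (kgi xgi11 ygi56 zgi28) (kgi xgi16 ygi42 zgi38) (kgi xgi19 ygi3 zgi8) (kgi xgi28 ygi40 zgi41) (kgi xgi10 ygi37 zgi19) (kgi xgi20 ygi57 zgi14) (kgi xgi20 ygi57 zgi11) (kgi xgi13 ygi9 zgi45) (kgi xgi16 ygi50 zgi60) (kgi xgi18 ygi18 zgi25) (kgi xgi28 ygi40 zgi52) (kgi xgi28 ygi29 zgi38) (kgi xgi18 ygi2 zgi42) (kgi xgi19 ygi54 zgi58) (kgi xgi28 ygi37 zgi14) (kgi xgi19 ygi18 zgi23) (kgi xgi24 ygi20 zgi56) (kgi xgi24 ygi29 zgi26) (kgi xgi24 ygi23 zgi4) (kgi xgi10 ygi37 zgi26) (kgi xgi22 ygi12 zgi23) (kgi xgi28 ygi41 zgi6) (kgi xgi23 ygi45 zgi17) (kgi xgi10 ygi37 zgi27) (kgi xgi24 ygi24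 zgi21) (kgi xgi24 ygi27 zgi28) (kgi xgi15 ygi44 zgi52) (kgi xgi10 ygi37 zgi28) (kgi xgi22 ygi45 zgi44) (kgi xgi22 ygi10 zgi15) (kgi xgi23 ygi44 zgi52) (kgi xgi19 ygi54 zgi61) (kgi xgi26 ygi14 zgi29) (kgi xgi10 ygi37 zgi30) (kgi xgi26 ygi14 zgi35) (kgi xgi17 ygi40 zgi37) (kgi xgi28 ygi40 zgi51) (kgi xgi25 ygi12 zgi27) (kgi xgi19 ygi11 zgi38) (kgi xgi12 ygi47 zgi49) (kgi xgi28 ygi38 zgi53) (kgi xgi28 ygi41 zgi28)) (@D3.rec (fun _ => Pt) (kgi xgi10 ygi37 zgi38) (kgi xgi14 ygi20 zgi57) (kgi xgi28 ygi36 zgi47) (kgi xgi11 ygi49 zgi27) (kgi xgi18 ygi12 zgi29) (kgi xgi19 ygi5 zgi34) (kgi xgi21 ygi26 zgi34) (kgi xgi19 ygi39 zgi25) (kgi xgi28 ygi29 zgi47) (kgi xgi15 ygi36 zgi45) (kgi xgi18 ygi44 zgi46) (kgi xgi10 ygi37 zgi49) (kgi xgi10 ygi37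 zgi52) (kgi xgi19 ygi36 zgi55) (kgi xgi24 ygi29 zgi18) (kgi xgi24 ygi29 zgi33) (kgi xgi28 ygi38 zgi40) (kgi xgi25 ygi40 zgi42) (kgi xgi24 ygi0 zgi25) (kgi xgi24 ygi21 zgi8) (kgi xgi23 ygi33 zgi56) (kgi xgi28 ygi21 zgi1) (kgi xgi13 ygi36 zgi12) (kgi xgi23 ygi50 zgi11) (kgi xgi22 ygi15 zgi7) (kgi xgi10 ygi37 zgi56) (kgi xgi13 ygi44 zgi36) (kgi xgi22 ygi15 zgi20) (kgi xgi24 ygi13 zgi61) (kgi xgi25 ygi40 zgi47) (kgi xgi10 ygi37 zgi59) (kgi xgi28 ygi29 zgi53) (kgi xgi28 ygi41 zgi43) (kgi xgi23 ygi51 zgi50) (kgi xgi26 ygi15 zgi54) (kgi xgi13 ygi19 zgi61) (kgi xgi28 ygi41 zgi31) (kgi xgi28 ygi41 zgi33) (kgi xgi24 ygi20 zgi32) (kgi xgi25 ygi42 zgi10) (kgi xgi24 ygi24 zgi16) (kgi xgi23 ygi58 zgi56) (kgi xgi10 ygi38 zgi1) (kgi xgi14 ygi30 zgi26)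 (kgi xgi14 ygi30 zgi24) (kgi xgi17 ygi48 zgi6) (kgi xgi15 ygi54 zgi23) (kgi xgi13 ygi19 zgi50) (kgi xgi22 ygi15 zgi16) (kgi xgi17 ygi49 zgi45) (kgi xgi28 ygi41 zgi54) (kgi xgi10 ygi38 zgi5) (kgi xgi28 ygi30 zgi27) (kgi xgi19 ygi57 zgi9) (kgi xgi28 ygi30 zgi24) (kgi xgi10 ygi38 zgi7) (kgi xgi27 ygi10 zgi49) (kgi xgi26 ygi45 zgi28) (kgi xgi16 ygi55 zgi16) (kgi xgi15 ygi45 zgi1) (kgi xgi16 ygi22 zgi7) (kgi xgi10 ygi38 zgi9)) (@D3.rec (fun _ => Pt) (kgi xgi10 ygi38 zgi12) (kgi xgi25 ygi13 zgi5) (kgi xgi15 ygi52 zgi56) (kgi xgi28 ygi30 zgi29) (kgi xgi28 ygi30 zgi28) (kgi xgi28 ygi42 zgi5) (kgi xgi25 ygi33 zgi34) (kgi xgi15 ygi54 zgi16) (kgi xgi20 ygi52 zgi57) (kgi xgi28 ygi42 zgi8) (kgi xgi28 ygi42 zgi12) (kgi xgi28 ygi42 zgi4) (kgi xgi28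 ygi42 zgi7) (kgi xgi14 ygi18 zgi36) (kgi xgi10 ygi38 zgi15) (kgi xgi28 ygi30 zgi38) (kgi xgi28 ygi42 zgi21) (kgi xgi15 ygi54 zgi54) (kgi xgi28 ygi30 zgi35) (kgi xgi28 ygi42 zgi26) (kgi xgi28 ygi42 zgi28) (kgi xgi27 ygi37 zgi23) (kgi xgi25 ygi40 zgi35) (kgi xgi19 ygi41 zgi17) (kgi xgi11 ygi34 zgi19) (kgi xgi10 ygi38 zgi19) (kgi xgi10 ygi38 zgi22) (kgi xgi15 ygi54 zgi52) (kgi xgi15 ygi51 zgi12) (kgi xgi19 ygi25 zgi16) (kgi xgi15 ygi45 zgi6) (kgi xgi15 ygi45 zgi2) (kgi xgi14 ygi58 zgi10) (kgi xgi15 ygi43 zgi4) (kgi xgi24 ygi43 zgi5) (kgi xgi15 ygi45 zgi15) (kgi xgi10 ygi38 zgi27) (kgi xgi24 ygi36 zgi11) (kgi xgi26 ygi48 zgi13) (kgi xgi24 ygi43 zgi12) (kgi xgi21 ygi18 zgi56) (kgi xgi10 ygi38 zgi28) (kgi xgi25 ygi40 zgi57) (kgi xgi23 ygi42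 zgi17) (kgi xgi25 ygi41 zgi57) (kgi xgi26 ygi0 zgi20) (kgi xgi15 ygi44 zgi12) (kgi xgi28 ygi42 zgi44) (kgi xgi28 ygi42 zgi45) (kgi xgi14 ygi6 zgi42) (kgi xgi28 ygi42 zgi49) (kgi xgi10 ygi38 zgi33) (kgi xgi16 ygi19 zgi56) (kgi xgi13 ygi58 zgi24) (kgi xgi24 ygi36 zgi42) (kgi xgi28 ygi42 zgi54) (kgi xgi23 ygi31 zgi18) (kgi xgi26 ygi2 zgi46) (kgi xgi23 ygi42 zgi20) (kgi xgi27 ygi26 zgi35) (kgi xgi15 ygi43 zgi22) (kgi xgi15 ygi42 zgi16)) (@D3.rec (fun _ => Pt) (kgi xgi23 ygi34 zgi52) (kgi xgi11 ygi16 zgi50) (kgi xgi13 ygi58 zgi22) (kgi xgi20 ygi40 zgi6) (kgi xgi24 ygi58 zgi34) (kgi xgi10 ygi41 zgi11) (kgi xgi17 ygi52 zgi31) (kgi xgi28 ygi42 zgi60) (kgi xgi18 ygi32 zgi37) (kgi xgi10 ygi38 zgi47) (kgi xgi14 ygi38 zgi20) (kgi xgi21 ygi45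 zgi57) (kgi xgi28 ygi42 zgi59) (kgi xgi27 ygi1 zgi9) (kgi xgi17 ygi52 zgi30) (kgi xgi17 ygi52 zgi1) (kgi xgi15 ygi38 zgi43) (kgi xgi27 ygi32 zgi45) (kgi xgi27 ygi37 zgi55) (kgi xgi18 ygi58 zgi16) (kgi xgi15 ygi20 zgi44) (kgi xgi10 ygi40 zgi4) (kgi xgi10 ygi39 zgi50) (kgi xgi19 ygi51 zgi49) (kgi xgi17 ygi29 zgi2) (kgi xgi10 ygi38 zgi61) (kgi xgi28 ygi25 zgi33) (kgi xgi17 ygi7 zgi49) (kgi xgi24 ygi28 zgi56) (kgi xgi10 ygi39 zgi21) (kgi xgi10 ygi39 zgi4) (kgi xgi24 ygi28 zgi59) (kgi xgi19 ygi12 zgi19) (kgi xgi28 ygi30 zgi48) (kgi xgi10 ygi59 zgi59) (kgi xgi28 ygi43 zgi8) (kgi xgi24 ygi48 zgi53) (kgi xgi22 ygi50 zgi61) (kgi xgi24 ygi20 zgi36) (kgi xgi19 ygi5 zgi8) (kgi xgi10 ygi55 zgi46) (kgi xgi10 ygi39 zgi10) (kgi xgi10 ygi39 zgi18)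 (kgi xgi28 ygi43 zgi11) (kgi xgi10 ygi59 zgi60) (kgi xgi26 ygi17 zgi12) (kgi xgi22 ygi38 zgi56) (kgi xgi10 ygi59 zgi61) (kgi xgi21 ygi54 zgi25) (kgi xgi16 ygi54 zgi30) (kgi xgi26 ygi36 zgi43) (kgi xgi27 ygi13 zgi44) (kgi xgi16 ygi55 zgi6) (kgi xgi14 ygi36 zgi28) (kgi xgi10 ygi39 zgi17) (kgi xgi14 ygi38 zgi21) (kgi xgi28 ygi43 zgi20) (kgi xgi26 ygi22 zgi26) (kgi xgi19 ygi20 zgi51) (kgi xgi28 ygi43 zgi23) (kgi xgi10 ygi39 zgi20) (kgi xgi19 ygi12 zgi30)) (@D3.rec (fun _ => Pt) (kgi xgi24 ygi40 zgi37) (kgi xgi19 ygi12 zgi27) (kgi xgi11 ygi0 zgi38) (kgi xgi26 ygi38 zgi30) (kgi xgi21 ygi15 zgi30) (kgi xgi18 ygi49 zgi46) (kgi xgi19 ygi44 zgi14) (kgi xgi19 ygi1 zgi16) (kgi xgi18 ygi50 zgi0) (kgi xgi16 ygi53 zgi31) (kgi xgi10 ygi39 zgi27)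 (kgi xgi25 ygi46 zgi2) (kgi xgi19 ygi23 zgi17) (kgi xgi28 ygi15 zgi54) (kgi xgi21 ygi16 zgi5) (kgi xgi10 ygi41 zgi28) (kgi xgi10 ygi41 zgi30) (kgi xgi27 ygi44 zgi14) (kgi xgi10 ygi39 zgi36) (kgi xgi27 ygi23 zgi47) (kgi xgi16 ygi3 zgi39) (kgi xgi16 ygi4 zgi46) (kgi xgi14 ygi20 zgi59) (kgi xgi19 ygi14 zgi32) (kgi xgi10 ygi39 zgi43) (kgi xgi27 ygi44 zgi27) (kgi xgi28 ygi43 zgi48) (kgi xgi28 ygi43 zgi51) (kgi xgi10 ygi39 zgi44) (kgi xgi27 ygi40 zgi42) (kgi xgi27 ygi40 zgi41) (kgi xgi21 ygi12 zgi27) (kgi xgi18 ygi3 zgi9) (kgi xgi16 ygi10 zgi23) (kgi xgi16 ygi16 zgi30) (kgi xgi24 ygi54 zgi16) (kgi xgi18 ygi18 zgi42) (kgi xgi15 ygi7 zgi51) (kgi xgi14 ygi32 zgi43) (kgi xgi10 ygi39 zgi51) (kgi xgi19 ygi44 zgi56) (kgi xgi14 ygi45 zgi28) (kgi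 xgi11 ygi1 zgi28) (kgi xgi28 ygi41 zgi32) (kgi xgi27 ygi19 zgi9) (kgi xgi24 ygi29 zgi29) (kgi xgi13 ygi26 zgi35) (kgi xgi10 ygi59 zgi33) (kgi xgi15 ygi11 zgi17) (kgi xgi23 ygi6 zgi57) (kgi xgi10 ygi39 zgi58) (kgi xgi28 ygi30 zgi43) (kgi xgi27 ygi25 zgi48) (kgi xgi24 ygi31 zgi8) (kgi xgi23 ygi34 zgi20) (kgi xgi13 ygi52 zgi13) (kgi xgi17 ygi50 zgi56) (kgi xgi27 ygi59 zgi12) (kgi xgi10 ygi40 zgi0) (kgi xgi11 ygi0 zgi39) (kgi xgi28 ygi44 zgi13) (kgi xgi28 ygi44 zgi15)) (@D3.rec (fun _ => Pt) (kgi xgi25 ygi41 zgi45) (kgi xgi13 ygi44 zgi23) (kgi xgi28 ygi28 zgi59) (kgi xgi14 ygi33 zgi46) (kgi xgi13 ygi3 zgi28) (kgi xgi10 ygi40 zgi6) (kgi xgi23 ygi55 zgi17) (kgi xgi28 ygi44 zgi18) (kgi xgi10 ygi40 zgi10) (kgi xgi13 ygi4 zgi1) (kgi xgi14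 ygi48 zgi18) (kgi xgi26 ygi0 zgi23) (kgi xgi25 ygi42 zgi4) (kgi xgi20 ygi27 zgi27) (kgi xgi10 ygi40 zgi11) (kgi xgi16 ygi41 zgi7) (kgi xgi16 ygi36 zgi42) (kgi xgi26 ygi59 zgi57) (kgi xgi16 ygi40 zgi25) (kgi xgi28 ygi44 zgi24) (kgi xgi16 ygi36 zgi29) (kgi xgi16 ygi42 zgi41) (kgi xgi10 ygi40 zgi16) (kgi xgi28 ygi44 zgi27) (kgi xgi28 ygi44 zgi32) (kgi xgi26 ygi38 zgi49) (kgi xgi28 ygi44 zgi28) (kgi xgi26 ygi51 zgi51) (kgi xgi20 ygi56 zgi12) (kgi xgi10 ygi41 zgi32) (kgi xgi28 ygi44 zgi41) (kgi xgi10 ygi40 zgi20) (kgi xgi10 ygi40 zgi24) (kgi xgi28 ygi19 zgi15) (kgi xgi28 ygi23 zgi60) (kgi xgi14 ygi33 zgi32) (kgi xgi13 ygi3 zgi3) (kgi xgi10 ygi40 zgi22) (kgi xgi11 ygi0 zgi29) (kgi xgi27 ygi38 zgi49) (kgi xgi28 ygi44 zgi44) (kgi xgi28 ygi17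 zgi59) (kgi xgi19 ygi39 zgi32) (kgi xgi24 ygi16 zgi34) (kgi xgi16 ygi18 zgi4) (kgi xgi18 ygi51 zgi19) (kgi xgi25 ygi5 zgi52) (kgi xgi10 ygi40 zgi31) (kgi xgi24 ygi39 zgi61) (kgi xgi11 ygi40 zgi4) (kgi xgi10 ygi40 zgi32) (kgi xgi23 ygi39 zgi41) (kgi xgi15 ygi36 zgi41) (kgi xgi24 ygi28 zgi36) (kgi xgi17 ygi48 zgi58) (kgi xgi28 ygi44 zgi55) (kgi xgi10 ygi40 zgi35) (kgi xgi13 ygi52 zgi39) (kgi xgi18 ygi45 zgi42) (kgi xgi28 ygi44 zgi40) (kgi xgi28 ygi44 zgi42) (kgi xgi28 ygi29 zgi19)) (@D3.rec (fun _ => Pt) (kgi xgi11 ygi0 zgi46) (kgi xgi14 ygi33 zgi60) (kgi xgi28 ygi44 zgi46) (kgi xgi16 ygi45 zgi42) (kgi xgi10 ygi40 zgi41) (kgi xgi19 ygi11 zgi48) (kgi xgi19 ygi23 zgi0) (kgi xgi11 ygi0 zgi40) (kgi xgi18 ygi52 zgi60) (kgi xgi10 ygi42 zgi23)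 (kgi xgi15 ygi20 zgi61) (kgi xgi10 ygi41 zgi47) (kgi xgi25 ygi51 zgi5) (kgi xgi28 ygi45 zgi8) (kgi xgi13 ygi6 zgi45) (kgi xgi28 ygi1 zgi22) (kgi xgi17 ygi9 zgi49) (kgi xgi18 ygi33 zgi26) (kgi xgi27 ygi35 zgi43) (kgi xgi15 ygi2 zgi11) (kgi xgi28 ygi45 zgi10) (kgi xgi10 ygi40 zgi56) (kgi xgi15 ygi27 zgi58) (kgi xgi10 ygi40 zgi57) (kgi xgi24 ygi1 zgi19) (kgi xgi28 ygi45 zgi21) (kgi xgi24 ygi21 zgi54) (kgi xgi15 ygi1 zgi14) (kgi xgi27 ygi58 zgi57) (kgi xgi10 ygi41 zgi16) (kgi xgi17 ygi50 zgi11) (kgi xgi28 ygi45 zgi29) (kgi xgi27 ygi52 zgi4) (kgi xgi23 ygi36 zgi53) (kgi xgi24 ygi27 zgi15) (kgi xgi13 ygi50 zgi5) (kgi xgi28 ygi29 zgi3) (kgi xgi17 ygi42 zgi8) (kgi xgi10 ygi41 zgi39) (kgi xgi27 ygi11 zgi14) (kgi xgi10 ygi41 zgi53) (kgi xgi21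 ygi59 zgi55) (kgi xgi11 ygi35 zgi52) (kgi xgi14 ygi58 zgi33) (kgi xgi24 ygi39 zgi51) (kgi xgi19 ygi50 zgi59) (kgi xgi26 ygi50 zgi14) (kgi xgi25 ygi50 zgi28) (kgi xgi28 ygi30 zgi54) (kgi xgi24 ygi27 zgi42) (kgi xgi25 ygi50 zgi58) (kgi xgi28 ygi21 zgi36) (kgi xgi28 ygi1 zgi43) (kgi xgi24 ygi29 zgi28) (kgi xgi10 ygi41 zgi17) (kgi xgi22 ygi4 zgi8) (kgi xgi24 ygi0 zgi12) (kgi xgi21 ygi35 zgi59) (kgi xgi17 ygi53 zgi35) (kgi xgi10 ygi41 zgi21) (kgi xgi10 ygi58 zgi31) (kgi xgi19 ygi33 zgi45)) (@D3.rec (fun _ => Pt) (kgi xgi10 ygi57 zgi9) (kgi xgi21 ygi57 zgi50) (kgi xgi17 ygi53 zgi22) (kgi xgi11 ygi0 zgi3) (kgi xgi28 ygi45 zgi46) (kgi xgi10 ygi41 zgi25) (kgi xgi10 ygi41 zgi38) (kgi xgi18 ygi54 zgi9) (kgi xgi14 ygi25 zgi13) (kgi xgi27 ygi46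 zgi23) (kgi xgi19 ygi50 zgi57) (kgi xgi28 ygi15 zgi29) (kgi xgi11 ygi33 zgi35) (kgi xgi10 ygi41 zgi29) (kgi xgi20 ygi32 zgi12) (kgi xgi20 ygi6 zgi11) (kgi xgi13 ygi30 zgi40) (kgi xgi12 ygi25 zgi28) (kgi xgi10 ygi41 zgi34) (kgi xgi13 ygi53 zgi46) (kgi xgi14 ygi11 zgi20) (kgi xgi11 ygi0 zgi11) (kgi xgi10 ygi41 zgi37) (kgi xgi14 ygi58 zgi41) (kgi xgi28 ygi45 zgi50) (kgi xgi14 ygi15 zgi27) (kgi xgi23 ygi13 zgi29) (kgi xgi14 ygi13 zgi32) (kgi xgi23 ygi55 zgi19) (kgi xgi19 ygi50 zgi47) (kgi xgi18 ygi52 zgi7) (kgi xgi23 ygi50 zgi9) (kgi xgi19 ygi50 zgi45) (kgi xgi10 ygi41 zgi57) (kgi xgi10 ygi41 zgi45) (kgi xgi10 ygi41 zgi46) (kgi xgi28 ygi30 zgi51) (kgi xgi25 ygi48 zgi11) (kgi xgi28 ygi46 zgi4) (kgi xgi10 ygi41 zgi48) (kgi xgi10 ygi41 zgi51)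 (kgi xgi28 ygi46 zgi8) (kgi xgi28 ygi46 zgi12) (kgi xgi22 ygi19 zgi21) (kgi xgi28 ygi15 zgi9) (kgi xgi28 ygi46 zgi18) (kgi xgi28 ygi14 zgi56) (kgi xgi24 ygi40 zgi25) (kgi xgi21 ygi13 zgi28) (kgi xgi28 ygi46 zgi11) (kgi xgi10 ygi59 zgi55) (kgi xgi19 ygi23 zgi52) (kgi xgi22 ygi35 zgi8) (kgi xgi10 ygi59 zgi57) (kgi xgi28 ygi37 zgi33) (kgi xgi15 ygi52 zgi9) (kgi xgi18 ygi55 zgi21) (kgi xgi10 ygi41 zgi55) (kgi xgi11 ygi1 zgi11) (kgi xgi24 ygi1 zgi42) (kgi xgi19 ygi42 zgi1) (kgi xgi10 ygi41 zgi56)) (@D3.rec (fun _ => Pt) (kgi xgi18 ygi54 zgi53) (kgi xgi22 ygi14 zgi43) (kgi xgi23 ygi48 zgi45) (kgi xgi23 ygi6 zgi44) (kgi xgi28 ygi17 zgi42) (kgi xgi13 ygi19 zgi60) (kgi xgi28 ygi46 zgi36) (kgi xgi28 ygi15 zgi0) (kgi xgi26 ygi20 zgi41) (kgi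 xgi14 ygi3 zgi33) (kgi xgi28 ygi17 zgi46) (kgi xgi18 ygi51 zgi57) (kgi xgi10 ygi41 zgi61) (kgi xgi18 ygi54 zgi37) (kgi xgi17 ygi18 zgi38) (kgi xgi24 ygi29 zgi25) (kgi xgi10 ygi56 zgi59) (kgi xgi20 ygi29 zgi22) (kgi xgi21 ygi3 zgi49) (kgi xgi13 ygi2 zgi25) (kgi xgi17 ygi27 zgi15) (kgi xgi24 ygi26 zgi32) (kgi xgi24 ygi46 zgi39) (kgi xgi26 ygi21 zgi13) (kgi xgi26 ygi15 zgi53) (kgi xgi18 ygi29 zgi28) (kgi xgi10 ygi42 zgi5) (kgi xgi28 ygi46 zgi47) (kgi xgi20 ygi47 zgi48) (kgi xgi27 ygi47 zgi61) (kgi xgi28 ygi18 zgi10) (kgi xgi10 ygi42 zgi7) (kgi xgi28 ygi18 zgi9) (kgi xgi26 ygi39 zgi1) (kgi xgi28 ygi31 zgi1) (kgi xgi18 ygi31 zgi6) (kgi xgi23 ygi51 zgi43) (kgi xgi10 ygi42 zgi10) (kgi xgi20 ygi21 zgi31) (kgi xgi28 ygi46 zgi55) (kgi xgi23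 ygi51 zgi41) (kgi xgi28 ygi46 zgi60) (kgi xgi23 ygi36 zgi51) (kgi xgi10 ygi42 zgi13) (kgi xgi28 ygi31 zgi6) (kgi xgi28 ygi47 zgi1) (kgi xgi27 ygi53 zgi35) (kgi xgi28 ygi9 zgi36) (kgi xgi17 ygi13 zgi30) (kgi xgi10 ygi42 zgi18) (kgi xgi12 ygi27 zgi38) (kgi xgi21 ygi19 zgi49) (kgi xgi10 ygi42 zgi19) (kgi xgi26 ygi12 zgi44) (kgi xgi28 ygi46 zgi48) (kgi xgi22 ygi20 zgi58) (kgi xgi13 ygi7 zgi5) (kgi xgi25 ygi38 zgi59) (kgi xgi10 ygi42 zgi21) (kgi xgi10 ygi42 zgi25) (kgi xgi28 ygi47 zgi11) (kgi xgi27 ygi16 zgi42)) (@D3.rec (fun _ => Pt) (kgi xgi28 ygi17 zgi57) (kgi xgi28 ygi31 zgi7) (kgi xgi23 ygi50 zgi16) (kgi xgi28 ygi47 zgi19) (kgi xgi21 ygi5 zgi44) (kgi xgi28 ygi47 zgi10) (kgi xgi19 ygi6 zgi54) (kgi xgi27 ygi11 zgi13) (kgi xgi23 ygi50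 zgi14) (kgi xgi18 ygi36 zgi50) (kgi xgi13 ygi53 zgi42) (kgi xgi10 ygi42 zgi29) (kgi xgi17 ygi12 zgi38) (kgi xgi16 ygi58 zgi2) (kgi xgi24 ygi15 zgi42) (kgi xgi28 ygi45 zgi0) (kgi xgi15 ygi22 zgi39) (kgi xgi26 ygi20 zgi7) (kgi xgi19 ygi7 zgi36) (kgi xgi27 ygi37 zgi10) (kgi xgi24 ygi27 zgi14) (kgi xgi20 ygi46 zgi1) (kgi xgi19 ygi19 zgi0) (kgi xgi15 ygi5 zgi37) (kgi xgi19 ygi4 zgi22) (kgi xgi17 ygi52 zgi4) (kgi xgi27 ygi1 zgi5) (kgi xgi19 ygi10 zgi43) (kgi xgi28 ygi43 zgi19) (kgi xgi19 ygi7 zgi31) (kgi xgi10 ygi42 zgi48) (kgi xgi14 ygi36 zgi21) (kgi xgi19 ygi4 zgi26) (kgi xgi24 ygi37 zgi56) (kgi xgi17 ygi53 zgi13) (kgi xgi26 ygi6 zgi33) (kgi xgi19 ygi4 zgi15) (kgi xgi14 ygi31 zgi3) (kgi xgi10 ygi42 zgi54) (kgi xgi20 ygi59 zgi38) (kgi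 xgi20 ygi59 zgi36) (kgi xgi15 ygi55 zgi51) (kgi xgi28 ygi47 zgi35) (kgi xgi10 ygi42 zgi56) (kgi xgi17 ygi22 zgi53) (kgi xgi10 ygi42 zgi60) (kgi xgi10 ygi42 zgi58) (kgi xgi18 ygi54 zgi16) (kgi xgi18 ygi54 zgi15) (kgi xgi10 ygi42 zgi59) (kgi xgi20 ygi59 zgi41) (kgi xgi20 ygi59 zgi39) (kgi xgi19 ygi21 zgi54) (kgi xgi10 ygi42 zgi61) (kgi xgi20 ygi59 zgi44) (kgi xgi20 ygi59 zgi42) (kgi xgi28 ygi11 zgi23) (kgi xgi19 ygi25 zgi18) (kgi xgi17 ygi33 zgi41) (kgi xgi20 ygi28 zgi36) (kgi xgi20 ygi59 zgi47) (kgi xgi28 ygi47 zgi50)) (@D3.rec (fun _ => Pt) (kgi xgi20 ygi28 zgi35) (kgi xgi26 ygi45 zgi3) (kgi xgi28 ygi47 zgi42) (kgi xgi24 ygi5 zgi46) (kgi xgi16 ygi46 zgi48) (kgi xgi28 ygi47 zgi54) (kgi xgi15 ygi52 zgi2) (kgi xgi19 ygi28 zgi25) (kgi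 xgi26 ygi45 zgi23) (kgi xgi17 ygi12 zgi9) (kgi xgi28 ygi47 zgi34) (kgi xgi16 ygi42 zgi36) (kgi xgi28 ygi47 zgi61) (kgi xgi25 ygi48 zgi28) (kgi xgi13 ygi2 zgi12) (kgi xgi22 ygi6 zgi22) (kgi xgi28 ygi48 zgi3) (kgi xgi20 ygi7 zgi17) (kgi xgi28 ygi48 zgi4) (kgi xgi10 ygi43 zgi20) (kgi xgi17 ygi33 zgi10) (kgi xgi22 ygi5 zgi12) (kgi xgi12 ygi55 zgi32) (kgi xgi11 ygi30 zgi27) (kgi xgi20 ygi19 zgi51) (kgi xgi22 ygi5 zgi14) (kgi xgi16 ygi58 zgi32) (kgi xgi28 ygi48 zgi7) (kgi xgi19 ygi53 zgi37) (kgi xgi10 ygi43 zgi29) (kgi xgi19 ygi31 zgi24) (kgi xgi19 ygi31 zgi22) (kgi xgi23 ygi56 zgi12) (kgi xgi22 ygi20 zgi42) (kgi xgi10 ygi43 zgi31) (kgi xgi20 ygi58 zgi61) (kgi xgi21 ygi5 zgi2) (kgi xgi26 ygi5 zgi1) (kgi xgi27 ygi30 zgi18) (kgi xgi15 ygi18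 zgi48) (kgi xgi10 ygi43 zgi34) (kgi xgi20 ygi59 zgi5) (kgi xgi20 ygi59 zgi3) (kgi xgi18 ygi52 zgi50) (kgi xgi15 ygi40 zgi19) (kgi xgi17 ygi32 zgi45) (kgi xgi10 ygi43 zgi38) (kgi xgi20 ygi59 zgi9) (kgi xgi16 ygi2 zgi12) (kgi xgi10 ygi43 zgi39) (kgi xgi20 ygi49 zgi55) (kgi xgi10 ygi50 zgi34) (kgi xgi28 ygi48 zgi16) (kgi xgi20 ygi23 zgi33) (kgi xgi26 ygi2 zgi41) (kgi xgi10 ygi43 zgi45) (kgi xgi27 ygi56 zgi54) (kgi xgi17 ygi32 zgi58) (kgi xgi17 ygi58 zgi58) (kgi xgi16 ygi57 zgi52) (kgi xgi19 ygi53 zgi48) (kgi xgi14 ygi34 zgi34)) (@D3.rec (fun _ => Pt) (kgi xgi17 ygi31 zgi56) (kgi xgi25 ygi49 zgi46) (kgi xgi16 ygi46 zgi7) (kgi xgi20 ygi59 zgi28) (kgi xgi21 ygi34 zgi61) (kgi xgi15 ygi26 zgi7) (kgi xgi21 ygi57 zgi34) (kgi xgi22 ygi4 zgi50)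 (kgi xgi12 ygi4 zgi19) (kgi xgi17 ygi33 zgi12) (kgi xgi10 ygi48 zgi30) (kgi xgi20 ygi28 zgi29) (kgi xgi10 ygi43 zgi57) (kgi xgi21 ygi0 zgi46) (kgi xgi21 ygi0 zgi44) (kgi xgi27 ygi19 zgi1) (kgi xgi19 ygi11 zgi21) (kgi xgi16 ygi12 zgi39) (kgi xgi17 ygi33 zgi6) (kgi xgi20 ygi20 zgi34) (kgi xgi13 ygi23 zgi26) (kgi xgi28 ygi48 zgi42) (kgi xgi19 ygi51 zgi58) (kgi xgi10 ygi44 zgi0) (kgi xgi20 ygi53 zgi2) (kgi xgi22 ygi23 zgi49) (kgi xgi12 ygi3 zgi50) (kgi xgi10 ygi44 zgi2) (kgi xgi13 ygi22 zgi52) (kgi xgi17 ygi24 zgi56) (kgi xgi25 ygi51 zgi33) (kgi xgi28 ygi48 zgi39) (kgi xgi25 ygi32 zgi18) (kgi xgi28 ygi48 zgi55) (kgi xgi25 ygi32 zgi20) (kgi xgi19 ygi30 zgi4) (kgi xgi28 ygi49 zgi0) (kgi xgi16 ygi44 zgi24) (kgi xgi25 ygi51 zgi56) (kgi xgi25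 ygi32 zgi22) (kgi xgi16 ygi0 zgi2) (kgi xgi15 ygi28 zgi41) (kgi xgi20 ygi58 zgi54) (kgi xgi28 ygi49 zgi9) (kgi xgi10 ygi55 zgi12) (kgi xgi22 ygi5 zgi16) (kgi xgi19 ygi33 zgi50) (kgi xgi27 ygi21 zgi58) (kgi xgi20 ygi36 zgi55) (kgi xgi26 ygi49 zgi41) (kgi xgi26 ygi3 zgi0) (kgi xgi19 ygi33 zgi48) (kgi xgi20 ygi7 zgi35) (kgi xgi19 ygi26 zgi60) (kgi xgi20 ygi57 zgi60) (kgi xgi10 ygi45 zgi29) (kgi xgi11 ygi1 zgi30) (kgi xgi28 ygi20 zgi42) (kgi xgi22 ygi2 zgi20) (kgi xgi21 ygi3 zgi14) (kgi xgi17 ygi32 zgi33) (kgi xgi10 ygi44 zgi35)) (@D3.rec (fun _ => Pt) (kgi xgi21 ygi0 zgi15) (kgi xgi20 ygi29 zgi9) (kgi xgi27 ygi15 zgi51) (kgi xgi25 ygi59 zgi54) (kgi xgi25 ygi35 zgi36) (kgi xgi28 ygi20 zgi36) (kgi xgi28 ygi49 zgi24) (kgi xgi28 ygi19 zgi46)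 (kgi xgi18 ygi49 zgi29) (kgi xgi24 ygi33 zgi36) (kgi xgi10 ygi44 zgi41) (kgi xgi15 ygi57 zgi60) (kgi xgi15 ygi31 zgi48) (kgi xgi25 ygi26 zgi54) (kgi xgi22 ygi2 zgi46) (kgi xgi11 ygi20 zgi40) (kgi xgi25 ygi29 zgi9) (kgi xgi17 ygi53 zgi41) (kgi xgi20 ygi49 zgi12) (kgi xgi15 ygi55 zgi46) (kgi xgi22 ygi5 zgi24) (kgi xgi26 ygi45 zgi60) (kgi xgi21 ygi35 zgi1) (kgi xgi21 ygi1 zgi13) (kgi xgi20 ygi29 zgi51) (kgi xgi15 ygi29 zgi40) (kgi xgi11 ygi2 zgi1) (kgi xgi18 ygi52 zgi49) (kgi xgi21 ygi2 zgi15) (kgi xgi10 ygi44 zgi56) (kgi xgi20 ygi34 zgi58) (kgi xgi22 ygi4 zgi39) (kgi xgi23 ygi44 zgi24) (kgi xgi10 ygi44 zgi57) (kgi xgi17 ygi4 zgi6) (kgi xgi28 ygi49 zgi42) (kgi xgi17 ygi33 zgi1) (kgi xgi22 ygi5 zgi22) (kgi xgi20 ygi53 zgi23) (kgi xgi16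 ygi52 zgi26) (kgi xgi20 ygi10 zgi23) (kgi xgi16 ygi52 zgi42) (kgi xgi24 ygi38 zgi9) (kgi xgi27 ygi17 zgi46) (kgi xgi11 ygi1 zgi23) (kgi xgi22 ygi6 zgi19) (kgi xgi21 ygi35 zgi58) (kgi xgi19 ygi35 zgi41) (kgi xgi15 ygi29 zgi51) (kgi xgi24 ygi57 zgi57) (kgi xgi18 ygi8 zgi2) (kgi xgi17 ygi31 zgi7) (kgi xgi11 ygi1 zgi31) (kgi xgi22 ygi11 zgi52) (kgi xgi28 ygi49 zgi48) (kgi xgi16 ygi55 zgi49) (kgi xgi17 ygi1 zgi23) (kgi xgi20 ygi42 zgi7) (kgi xgi24 ygi51 zgi26) (kgi xgi17 ygi34 zgi32) (kgi xgi28 ygi49 zgi52) (kgi xgi10 ygi45 zgi17)) (@D3.rec (fun _ => Pt) (kgi xgi20 ygi7 zgi19) (kgi xgi20 ygi7 zgi18) (kgi xgi28 ygi33 zgi20) (kgi xgi23 ygi58 zgi28) (kgi xgi11 ygi1 zgi24) (kgi xgi28 ygi35 zgi53) (kgi xgi28 ygi33 zgi24) (kgi xgi25 ygi20 zgi46)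 (kgi xgi27 ygi14 zgi8) (kgi xgi28 ygi49 zgi61) (kgi xgi25 ygi20 zgi43) (kgi xgi10 ygi45 zgi22) (kgi xgi10 ygi45 zgi32) (kgi xgi24 ygi13 zgi40) (kgi xgi22 ygi11 zgi57) (kgi xgi10 ygi45 zgi23) (kgi xgi17 ygi1 zgi50) (kgi xgi28 ygi50 zgi8) (kgi xgi14 ygi38 zgi28) (kgi xgi14 ygi31 zgi37) (kgi xgi15 ygi5 zgi3) (kgi xgi12 ygi3 zgi56) (kgi xgi14 ygi20 zgi13) (kgi xgi10 ygi45 zgi28) (kgi xgi26 ygi50 zgi51) (kgi xgi25 ygi52 zgi55) (kgi xgi20 ygi25 zgi48) (kgi xgi19 ygi7 zgi5) (kgi xgi16 ygi55 zgi21) (kgi xgi14 ygi31 zgi56) (kgi xgi10 ygi45 zgi33) (kgi xgi17 ygi0 zgi49) (kgi xgi17 ygi58 zgi34) (kgi xgi18 ygi43 zgi39) (kgi xgi10 ygi45 zgi36) (kgi xgi10 ygi45 zgi45) (kgi xgi10 ygi45 zgi43) (kgi xgi18 ygi17 zgi8) (kgi xgi10 ygi45 zgi38) (kgi xgi10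 ygi45 zgi39) (kgi xgi11 ygi31 zgi1) (kgi xgi10 ygi45 zgi42) (kgi xgi18 ygi43 zgi57) (kgi xgi11 ygi27 zgi12) (kgi xgi11 ygi31 zgi51) (kgi xgi19 ygi52 zgi44) (kgi xgi12 ygi9 zgi48) (kgi xgi16 ygi55 zgi40) (kgi xgi17 ygi32 zgi43) (kgi xgi14 ygi36 zgi43) (kgi xgi10 ygi57 zgi29) (kgi xgi10 ygi59 zgi56) (kgi xgi17 ygi1 zgi43) (kgi xgi10 ygi59 zgi28) (kgi xgi10 ygi45 zgi50) (kgi xgi11 ygi42 zgi11) (kgi xgi20 ygi37 zgi35) (kgi xgi20 ygi17 zgi0) (kgi xgi21 ygi22 zgi9) (kgi xgi15 ygi48 zgi49) (kgi xgi19 ygi57 zgi38) (kgi xgi19 ygi47 zgi32)) (@D3.rec (fun _ => Pt) (kgi xgi16 ygi44 zgi10) (kgi xgi26 ygi44 zgi56) (kgi xgi25 ygi4 zgi18) (kgi xgi19 ygi28 zgi51) (kgi xgi28 ygi31 zgi29) (kgi xgi18 ygi44 zgi9) (kgi xgi25 ygi52 zgi11) (kgi xgi10 ygi45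 zgi58) (kgi xgi18 ygi44 zgi8) (kgi xgi28 ygi50 zgi23) (kgi xgi10 ygi45 zgi59) (kgi xgi25 ygi51 zgi54) (kgi xgi10 ygi45 zgi60) (kgi xgi17 ygi24 zgi60) (kgi xgi16 ygi2 zgi9) (kgi xgi27 ygi38 zgi1) (kgi xgi27 ygi19 zgi37) (kgi xgi21 ygi0 zgi52) (kgi xgi25 ygi51 zgi49) (kgi xgi10 ygi46 zgi1) (kgi xgi15 ygi56 zgi44) (kgi xgi28 ygi50 zgi29) (kgi xgi25 ygi47 zgi42) (kgi xgi24 ygi26 zgi35) (kgi xgi14 ygi23 zgi25) (kgi xgi19 ygi28 zgi40) (kgi xgi28 ygi50 zgi32) (kgi xgi23 ygi8 zgi21) (kgi xgi15 ygi51 zgi61) (kgi xgi25 ygi32 zgi19) (kgi xgi26 ygi43 zgi12) (kgi xgi24 ygi11 zgi29) (kgi xgi19 ygi40 zgi56) (kgi xgi28 ygi50 zgi50) (kgi xgi10 ygi46 zgi8) (kgi xgi14 ygi27 zgi15) (kgi xgi10 ygi50 zgi10) (kgi xgi10 ygi47 zgi18) (kgi xgi13 ygi45 zgi40)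 (kgi xgi11 ygi55 zgi60) (kgi xgi16 ygi49 zgi14) (kgi xgi20 ygi52 zgi51) (kgi xgi15 ygi55 zgi41) (kgi xgi25 ygi32 zgi23) (kgi xgi15 ygi51 zgi31) (kgi xgi10 ygi49 zgi31) (kgi xgi14 ygi32 zgi25) (kgi xgi10 ygi49 zgi18) (kgi xgi19 ygi58 zgi49) (kgi xgi14 ygi29 zgi23) (kgi xgi16 ygi50 zgi56) (kgi xgi19 ygi28 zgi0) (kgi xgi28 ygi50 zgi60) (kgi xgi28 ygi51 zgi0) (kgi xgi27 ygi14 zgi61) (kgi xgi10 ygi46 zgi21) (kgi xgi28 ygi50 zgi61) (kgi xgi22 ygi38 zgi23) (kgi xgi28 ygi50 zgi59) (kgi xgi20 ygi39 zgi38) (kgi xgi25 ygi51 zgi43) (kgi xgi19 ygi53 zgi32)) (@D3.rec (fun _ => Pt) (kgi xgi28 ygi51 zgi10) (kgi xgi25 ygi51 zgi41) (kgi xgi10 ygi46 zgi25) (kgi xgi19 ygi25 zgi36) (kgi xgi25 ygi32 zgi29) (kgi xgi25 ygi56 zgi24) (kgi xgi22 ygi0 zgi59)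 (kgi xgi19 ygi53 zgi33) (kgi xgi16 ygi2 zgi20) (kgi xgi26 ygi43 zgi26) (kgi xgi25 ygi51 zgi37) (kgi xgi10 ygi46 zgi31) (kgi xgi24 ygi49 zgi27) (kgi xgi24 ygi49 zgi25) (kgi xgi28 ygi51 zgi23) (kgi xgi28 ygi51 zgi25) (kgi xgi28 ygi51 zgi29) (kgi xgi15 ygi28 zgi23) (kgi xgi28 ygi14 zgi28) (kgi xgi11 ygi5 zgi17) (kgi xgi28 ygi51 zgi36) (kgi xgi26 ygi34 zgi18) (kgi xgi10 ygi47 zgi32) (kgi xgi28 ygi51 zgi37) (kgi xgi17 ygi22 zgi31) (kgi xgi18 ygi44 zgi22) (kgi xgi28 ygi51 zgi40) (kgi xgi10 ygi46 zgi39) (kgi xgi25 ygi32 zgi36) (kgi xgi28 ygi51 zgi45) (kgi xgi26 ygi19 zgi58) (kgi xgi10 ygi46 zgi40) (kgi xgi28 ygi51 zgi42) (kgi xgi28 ygi51 zgi53) (kgi xgi28 ygi47 zgi39) (kgi xgi10 ygi46 zgi41) (kgi xgi26 ygi42 zgi60) (kgi xgi28 ygi51 zgi58)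 (kgi xgi26 ygi42 zgi57) (kgi xgi21 ygi47 zgi31) (kgi xgi28 ygi15 zgi48) (kgi xgi10 ygi46 zgi43) (kgi xgi21 ygi0 zgi2) (kgi xgi23 ygi47 zgi15) (kgi xgi21 ygi58 zgi52) (kgi xgi28 ygi50 zgi52) (kgi xgi20 ygi59 zgi59) (kgi xgi26 ygi43 zgi23) (kgi xgi28 ygi44 zgi53) (kgi xgi25 ygi56 zgi21) (kgi xgi28 ygi41 zgi25) (kgi xgi23 ygi57 zgi23) (kgi xgi19 ygi41 zgi12) (kgi xgi28 ygi52 zgi14) (kgi xgi10 ygi46 zgi49) (kgi xgi19 ygi41 zgi49) (kgi xgi28 ygi52 zgi20) (kgi xgi24 ygi8 zgi61) (kgi xgi10 ygi46 zgi50) (kgi xgi28 ygi52 zgi16) (kgi xgi28 ygi52 zgi31) (kgi xgi28 ygi52 zgi13)) (@D3.rec (fun _ => Pt) (kgi xgi10 ygi46 zgi51) (kgi xgi19 ygi41 zgi61) (kgi xgi28 ygi52 zgi38) (kgi xgi19 ygi41 zgi59) (kgi xgi10 ygi46 zgi52) (kgi xgi25 ygi51 zgi48)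 (kgi xgi19 ygi25 zgi37) (kgi xgi28 ygi50 zgi42) (kgi xgi15 ygi22 zgi30) (kgi xgi10 ygi47 zgi21) (kgi xgi10 ygi47 zgi0) (kgi xgi20 ygi27 zgi19) (kgi xgi15 ygi52 zgi8) (kgi xgi28 ygi52 zgi46) (kgi xgi10 ygi46 zgi57) (kgi xgi28 ygi36 zgi14) (kgi xgi10 ygi46 zgi58) (kgi xgi28 ygi52 zgi48) (kgi xgi23 ygi48 zgi9) (kgi xgi28 ygi47 zgi47) (kgi xgi10 ygi46 zgi59) (kgi xgi19 ygi41 zgi55) (kgi xgi27 ygi8 zgi52) (kgi xgi19 ygi41 zgi52) (kgi xgi20 ygi59 zgi58) (kgi xgi28 ygi53 zgi1) (kgi xgi26 ygi43 zgi10) (kgi xgi13 ygi45 zgi42) (kgi xgi25 ygi35 zgi19) (kgi xgi28 ygi53 zgi8) (kgi xgi19 ygi51 zgi32) (kgi xgi28 ygi52 zgi36) (kgi xgi10 ygi47 zgi3) (kgi xgi19 ygi25 zgi25) (kgi xgi19 ygi57 zgi42) (kgi xgi10 ygi47 zgi4) (kgi xgi26 ygi43 zgi22) (kgi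 xgi28 ygi52 zgi17) (kgi xgi24 ygi23 zgi46) (kgi xgi14 ygi16 zgi35) (kgi xgi28 ygi53 zgi25) (kgi xgi20 ygi59 zgi51) (kgi xgi28 ygi53 zgi29) (kgi xgi20 ygi59 zgi48) (kgi xgi26 ygi43 zgi32) (kgi xgi13 ygi36 zgi42) (kgi xgi25 ygi59 zgi38) (kgi xgi28 ygi23 zgi56) (kgi xgi28 ygi53 zgi36) (kgi xgi10 ygi47 zgi11) (kgi xgi26 ygi43 zgi27) (kgi xgi28 ygi53 zgi42) (kgi xgi14 ygi26 zgi37) (kgi xgi22 ygi19 zgi52) (kgi xgi28 ygi53 zgi14) (kgi xgi23 ygi57 zgi46) (kgi xgi25 ygi59 zgi44) (kgi xgi23 ygi57 zgi25) (kgi xgi23 ygi5 zgi43) (kgi xgi10 ygi47 zgi22) (kgi xgi14 ygi30 zgi47) (kgi xgi19 ygi16 zgi21)) (@D3.rec (fun _ => Pt) (kgi xgi13 ygi33 zgi29) (kgi xgi19 ygi28 zgi23) (kgi xgi24 ygi24 zgi17) (kgi xgi10 ygi47 zgi33) (kgi xgi14 ygi52 zgi11) (kgi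 xgi10 ygi47 zgi35) (kgi xgi14 ygi18 zgi53) (kgi xgi19 ygi36 zgi39) (kgi xgi22 ygi21 zgi25) (kgi xgi17 ygi49 zgi60) (kgi xgi25 ygi22 zgi45) (kgi xgi10 ygi47 zgi31) (kgi xgi18 ygi18 zgi44) (kgi xgi14 ygi29 zgi43) (kgi xgi14 ygi19 zgi25) (kgi xgi20 ygi30 zgi36) (kgi xgi28 ygi53 zgi56) (kgi xgi13 ygi3 zgi35) (kgi xgi14 ygi52 zgi12) (kgi xgi10 ygi47 zgi34) (kgi xgi19 ygi28 zgi16) (kgi xgi19 ygi36 zgi30) (kgi xgi10 ygi47 zgi36) (kgi xgi19 ygi24 zgi31) (kgi xgi19 ygi24 zgi29) (kgi xgi14 ygi26 zgi61) (kgi xgi25 ygi12 zgi29) (kgi xgi15 ygi46 zgi43) (kgi xgi10 ygi47 zgi38) (kgi xgi18 ygi46 zgi31) (kgi xgi18 ygi51 zgi0) (kgi xgi11 ygi54 zgi32) (kgi xgi10 ygi47 zgi40) (kgi xgi18 ygi46 zgi34) (kgi xgi18 ygi46 zgi32) (kgi xgi25 ygi26 zgi11) (kgi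 xgi28 ygi54 zgi6) (kgi xgi19 ygi44 zgi2) (kgi xgi16 ygi39 zgi59) (kgi xgi20 ygi58 zgi8) (kgi xgi26 ygi39 zgi9) (kgi xgi25 ygi8 zgi47) (kgi xgi10 ygi53 zgi13) (kgi xgi19 ygi44 zgi1) (kgi xgi16 ygi41 zgi24) (kgi xgi28 ygi54 zgi16) (kgi xgi14 ygi42 zgi21) (kgi xgi26 ygi41 zgi17) (kgi xgi10 ygi47 zgi48) (kgi xgi26 ygi52 zgi16) (kgi xgi28 ygi54 zgi27) (kgi xgi28 ygi54 zgi15) (kgi xgi10 ygi47 zgi49) (kgi xgi21 ygi48 zgi23) (kgi xgi28 ygi54 zgi33) (kgi xgi26 ygi34 zgi35) (kgi xgi28 ygi54 zgi9) (kgi xgi20 ygi57 zgi0) (kgi xgi19 ygi53 zgi36) (kgi xgi20 ygi56 zgi61) (kgi xgi10 ygi47 zgi52) (kgi xgi26 ygi34 zgi41)) (@D3.rec (fun _ => Pt) (kgi xgi13 ygi13 zgi10) (kgi xgi26 ygi34 zgi40) (kgi xgi15 ygi1 zgi23) (kgi xgi20 ygi56 zgi45) (kgi xgi26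 ygi33 zgi10) (kgi xgi20 ygi56 zgi55) (kgi xgi20 ygi56 zgi11) (kgi xgi26 ygi36 zgi59) (kgi xgi20 ygi56 zgi53) (kgi xgi14 ygi46 zgi12) (kgi xgi17 ygi49 zgi23) (kgi xgi26 ygi37 zgi3) (kgi xgi19 ygi43 zgi2) (kgi xgi19 ygi48 zgi56) (kgi xgi10 ygi48 zgi2) (kgi xgi10 ygi48 zgi7) (kgi xgi10 ygi48 zgi3) (kgi xgi17 ygi0 zgi5) (kgi xgi26 ygi36 zgi54) (kgi xgi11 ygi20 zgi22) (kgi xgi28 ygi54 zgi57) (kgi xgi20 ygi9 zgi26) (kgi xgi11 ygi10 zgi6) (kgi xgi12 ygi56 zgi51) (kgi xgi11 ygi9 zgi12) (kgi xgi26 ygi48 zgi5) (kgi xgi20 ygi9 zgi28) (kgi xgi10 ygi51 zgi17) (kgi xgi21 ygi0 zgi23) (kgi xgi20 ygi9 zgi12) (kgi xgi24 ygi36 zgi23) (kgi xgi12 ygi55 zgi22) (kgi xgi19 ygi40 zgi14) (kgi xgi10 ygi48 zgi28) (kgi xgi11 ygi1 zgi8) (kgi xgi11 ygi27 zgi49)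 (kgi xgi11 ygi24 zgi53) (kgi xgi26 ygi46 zgi50) (kgi xgi23 ygi58 zgi33) (kgi xgi21 ygi2 zgi33) (kgi xgi10 ygi48 zgi32) (kgi xgi28 ygi48 zgi36) (kgi xgi25 ygi14 zgi23) (kgi xgi11 ygi5 zgi56) (kgi xgi21 ygi51 zgi57) (kgi xgi10 ygi48 zgi42) (kgi xgi16 ygi37 zgi50) (kgi xgi28 ygi55 zgi5) (kgi xgi24 ygi52 zgi15) (kgi xgi15 ygi1 zgi30) (kgi xgi26 ygi45 zgi43) (kgi xgi19 ygi57 zgi47) (kgi xgi19 ygi42 zgi42) (kgi xgi28 ygi55 zgi10) (kgi xgi19 ygi43 zgi53) (kgi xgi10 ygi48 zgi45) (kgi xgi10 ygi48 zgi55) (kgi xgi10 ygi48 zgi52) (kgi xgi10 ygi54 zgi39) (kgi xgi10 ygi53 zgi1) (kgi xgi25 ygi9 zgi13) (kgi xgi15 ygi2 zgi55)) (@D3.rec (fun _ => Pt) (kgi xgi15 ygi47 zgi39) (kgi xgi28 ygi55 zgi16) (kgi xgi10 ygi48 zgi49) (kgi xgi28 ygi55 zgi12) (kgi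 xgi28 ygi49 zgi53) (kgi xgi28 ygi55 zgi9) (kgi xgi10 ygi48 zgi50) (kgi xgi19 ygi43 zgi52) (kgi xgi15 ygi44 zgi10) (kgi xgi28 ygi55 zgi26) (kgi xgi16 ygi29 zgi33) (kgi xgi11 ygi26 zgi40) (kgi xgi24 ygi36 zgi31) (kgi xgi28 ygi55 zgi3) (kgi xgi26 ygi42 zgi22) (kgi xgi28 ygi55 zgi28) (kgi xgi16 ygi31 zgi3) (kgi xgi20 ygi1 zgi20) (kgi xgi10 ygi52 zgi28) (kgi xgi11 ygi27 zgi19) (kgi xgi18 ygi39 zgi20) (kgi xgi18 ygi10 zgi53) (kgi xgi19 ygi10 zgi60) (kgi xgi21 ygi0 zgi9) (kgi xgi10 ygi49 zgi37) (kgi xgi27 ygi37 zgi14) (kgi xgi10 ygi54 zgi51) (kgi xgi20 ygi29 zgi3) (kgi xgi10 ygi54 zgi58) (kgi xgi26 ygi43 zgi43) (kgi xgi25 ygi13 zgi51) (kgi xgi25 ygi50 zgi23) (kgi xgi28 ygi42 zgi1) (kgi xgi10 ygi49 zgi19) (kgi xgi10 ygi49 zgi32) (kgi xgi16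 ygi46 zgi34) (kgi xgi28 ygi55 zgi43) (kgi xgi10 ygi49 zgi20) (kgi xgi26 ygi43 zgi57) (kgi xgi28 ygi55 zgi50) (kgi xgi24 ygi47 zgi28) (kgi xgi10 ygi49 zgi34) (kgi xgi24 ygi30 zgi34) (kgi xgi24 ygi6 zgi11) (kgi xgi10 ygi49 zgi22) (kgi xgi19 ygi43 zgi28) (kgi xgi12 ygi49 zgi35) (kgi xgi11 ygi24 zgi60) (kgi xgi10 ygi49 zgi24) (kgi xgi20 ygi7 zgi34) (kgi xgi16 ygi49 zgi36) (kgi xgi10 ygi49 zgi50) (kgi xgi16 ygi43 zgi30) (kgi xgi16 ygi41 zgi20) (kgi xgi28 ygi55 zgi53) (kgi xgi20 ygi38 zgi36) (kgi xgi10 ygi49 zgi29) (kgi xgi11 ygi26 zgi56) (kgi xgi10 ygi49 zgi30) (kgi xgi28 ygi55 zgi55) (kgi xgi28 ygi55 zgi60) (kgi xgi19 ygi58 zgi34)) (@D3.rec (fun _ => Pt) (kgi xgi16 ygi40 zgi39) (kgi xgi26 ygi42 zgi61) (kgi xgi19 ygi41 zgi30) (kgi xgi28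 ygi56 zgi5) (kgi xgi10 ygi49 zgi33) (kgi xgi21 ygi0 zgi10) (kgi xgi28 ygi56 zgi12) (kgi xgi22 ygi5 zgi17) (kgi xgi20 ygi11 zgi22) (kgi xgi18 ygi55 zgi48) (kgi xgi12 ygi10 zgi15) (kgi xgi21 ygi0 zgi11) (kgi xgi22 ygi22 zgi51) (kgi xgi21 ygi35 zgi60) (kgi xgi26 ygi52 zgi28) (kgi xgi19 ygi43 zgi33) (kgi xgi14 ygi59 zgi37) (kgi xgi23 ygi0 zgi22) (kgi xgi19 ygi52 zgi34) (kgi xgi11 ygi19 zgi18) (kgi xgi11 ygi26 zgi29) (kgi xgi11 ygi19 zgi2) (kgi xgi19 ygi51 zgi38) (kgi xgi17 ygi0 zgi24) (kgi xgi10 ygi55 zgi11) (kgi xgi11 ygi22 zgi26) (kgi xgi26 ygi50 zgi42) (kgi xgi26 ygi45 zgi31) (kgi xgi20 ygi51 zgi61) (kgi xgi10 ygi49 zgi48) (kgi xgi26 ygi43 zgi59) (kgi xgi28 ygi53 zgi41) (kgi xgi26 ygi43 zgi35) (kgi xgi13 ygi44 zgi29) (kgi xgi20 ygi7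 zgi40) (kgi xgi20 ygi54 zgi24) (kgi xgi14 ygi32 zgi13) (kgi xgi17 ygi0 zgi35) (kgi xgi20 ygi52 zgi58) (kgi xgi23 ygi55 zgi52) (kgi xgi20 ygi57 zgi21) (kgi xgi10 ygi49 zgi54) (kgi xgi19 ygi13 zgi52) (kgi xgi19 ygi13 zgi42) (kgi xgi28 ygi30 zgi10) (kgi xgi25 ygi25 zgi16) (kgi xgi16 ygi42 zgi57) (kgi xgi10 ygi56 zgi49) (kgi xgi19 ygi36 zgi31) (kgi xgi26 ygi44 zgi43) (kgi xgi25 ygi26 zgi33) (kgi xgi10 ygi49 zgi58) (kgi xgi25 ygi26 zgi10) (kgi xgi27 ygi29 zgi30) (kgi xgi28 ygi56 zgi44) (kgi xgi17 ygi22 zgi5) (kgi xgi19 ygi34 zgi53) (kgi xgi24 ygi4 zgi22) (kgi xgi10 ygi56 zgi48) (kgi xgi10 ygi49 zgi61) (kgi xgi15 ygi31 zgi61) (kgi xgi28 ygi56 zgi48)) (@D3.rec (fun _ => Pt) (kgi xgi25 ygi25 zgi50) (kgi xgi26 ygi46 zgi40) (kgi xgi10 ygi56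 zgi36) (kgi xgi25 ygi24 zgi17) (kgi xgi10 ygi50 zgi3) (kgi xgi25 ygi4 zgi5) (kgi xgi25 ygi4 zgi4) (kgi xgi24 ygi35 zgi60) (kgi xgi10 ygi51 zgi2) (kgi xgi15 ygi51 zgi8) (kgi xgi28 ygi56 zgi59) (kgi xgi14 ygi30 zgi20) (kgi xgi15 ygi15 zgi14) (kgi xgi17 ygi22 zgi16) (kgi xgi26 ygi41 zgi52) (kgi xgi13 ygi44 zgi30) (kgi xgi19 ygi44 zgi24) (kgi xgi28 ygi57 zgi3) (kgi xgi25 ygi4 zgi13) (kgi xgi14 ygi24 zgi19) (kgi xgi25 ygi4 zgi12) (kgi xgi14 ygi31 zgi51) (kgi xgi28 ygi57 zgi9) (kgi xgi10 ygi50 zgi11) (kgi xgi14 ygi17 zgi56) (kgi xgi28 ygi57 zgi18) (kgi xgi10 ygi50 zgi12) (kgi xgi10 ygi51 zgi35) (kgi xgi15 ygi20 zgi9) (kgi xgi10 ygi51 zgi32) (kgi xgi10 ygi50 zgi14) (kgi xgi10 ygi51 zgi45) (kgi xgi28 ygi57 zgi29) (kgi xgi10 ygi51 zgi42) (kgi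 xgi20 ygi5 zgi2) (kgi xgi25 ygi33 zgi52) (kgi xgi15 ygi37 zgi53) (kgi xgi15 ygi37 zgi51) (kgi xgi26 ygi51 zgi17) (kgi xgi28 ygi57 zgi37) (kgi xgi28 ygi19 zgi44) (kgi xgi25 ygi36 zgi60) (kgi xgi10 ygi50 zgi21) (kgi xgi15 ygi35 zgi20) (kgi xgi15 ygi35 zgi18) (kgi xgi10 ygi50 zgi24) (kgi xgi10 ygi50 zgi25) (kgi xgi15 ygi35 zgi25) (kgi xgi15 ygi35 zgi23) (kgi xgi28 ygi57 zgi43) (kgi xgi15 ygi52 zgi31) (kgi xgi28 ygi57 zgi44) (kgi xgi25 ygi45 zgi30) (kgi xgi15 ygi34 zgi11) (kgi xgi21 ygi0 zgi19) (kgi xgi17 ygi27 zgi51) (kgi xgi28 ygi57 zgi46) (kgi xgi15 ygi39 zgi53) (kgi xgi21 ygi50 zgi7) (kgi xgi28 ygi57 zgi53) (kgi xgi10 ygi50 zgi33) (kgi xgi28 ygi57 zgi55)) (@D3.rec (fun _ => Pt) (kgi xgi28 ygi56 zgi60) (kgi xgi28 ygi57 zgi52) (kgi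 xgi25 ygi32 zgi10) (kgi xgi28 ygi57 zgi61) (kgi xgi28 ygi48 zgi28) (kgi xgi28 ygi57 zgi41) (kgi xgi25 ygi55 zgi36) (kgi xgi10 ygi50 zgi37) (kgi xgi16 ygi50 zgi3) (kgi xgi25 ygi47 zgi2) (kgi xgi17 ygi50 zgi8) (kgi xgi10 ygi52 zgi13) (kgi xgi17 ygi43 zgi8) (kgi xgi19 ygi31 zgi6) (kgi xgi24 ygi11 zgi55) (kgi xgi16 ygi49 zgi20) (kgi xgi25 ygi33 zgi51) (kgi xgi15 ygi15 zgi42) (kgi xgi28 ygi48 zgi29) (kgi xgi10 ygi50 zgi46) (kgi xgi26 ygi41 zgi31) (kgi xgi16 ygi28 zgi41) (kgi xgi10 ygi50 zgi47) (kgi xgi28 ygi48 zgi30) (kgi xgi25 ygi29 zgi7) (kgi xgi28 ygi58 zgi15) (kgi xgi15 ygi31 zgi16) (kgi xgi28 ygi50 zgi35) (kgi xgi18 ygi12 zgi59) (kgi xgi10 ygi51 zgi50) (kgi xgi26 ygi42 zgi13) (kgi xgi19 ygi34 zgi46) (kgi xgi28 ygi58 zgi20) (kgi xgi19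 ygi9 zgi3) (kgi xgi10 ygi50 zgi54) (kgi xgi28 ygi58 zgi21) (kgi xgi27 ygi29 zgi22) (kgi xgi25 ygi29 zgi56) (kgi xgi15 ygi38 zgi17) (kgi xgi19 ygi53 zgi43) (kgi xgi28 ygi58 zgi27) (kgi xgi24 ygi42 zgi48) (kgi xgi25 ygi33 zgi50) (kgi xgi26 ygi42 zgi0) (kgi xgi26 ygi38 zgi20) (kgi xgi25 ygi4 zgi14) (kgi xgi25 ygi4 zgi8) (kgi xgi28 ygi58 zgi29) (kgi xgi18 ygi52 zgi10) (kgi xgi26 ygi5 zgi4) (kgi xgi19 ygi44 zgi51) (kgi xgi10 ygi51 zgi1) (kgi xgi19 ygi45 zgi36) (kgi xgi18 ygi48 zgi58) (kgi xgi27 ygi53 zgi33) (kgi xgi16 ygi50 zgi33) (kgi xgi10 ygi51 zgi11) (kgi xgi19 ygi15 zgi13) (kgi xgi26 ygi42 zgi8) (kgi xgi16 ygi26 zgi49) (kgi xgi25 ygi10 zgi40) (kgi xgi10 ygi51 zgi9)) (@D3.rec (fun _ => Pt) (kgi xgi28 ygi58 zgi39) (kgi xgi28 ygi58 zgi38)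 (kgi xgi26 ygi41 zgi58) (kgi xgi26 ygi41 zgi53) (kgi xgi15 ygi1 zgi54) (kgi xgi28 ygi58 zgi48) (kgi xgi28 ygi58 zgi52) (kgi xgi16 ygi48 zgi0) (kgi xgi13 ygi1 zgi25) (kgi xgi14 ygi52 zgi54) (kgi xgi21 ygi5 zgi34) (kgi xgi21 ygi39 zgi13) (kgi xgi10 ygi51 zgi15) (kgi xgi25 ygi8 zgi32) (kgi xgi15 ygi21 zgi21) (kgi xgi28 ygi58 zgi58) (kgi xgi22 ygi20 zgi41) (kgi xgi26 ygi41 zgi61) (kgi xgi28 ygi59 zgi1) (kgi xgi26 ygi41 zgi60) (kgi xgi22 ygi59 zgi52) (kgi xgi28 ygi59 zgi4) (kgi xgi10 ygi51 zgi19) (kgi xgi28 ygi59 zgi7) (kgi xgi10 ygi51 zgi24) (kgi xgi28 ygi58 zgi45) (kgi xgi28 ygi59 zgi10) (kgi xgi22 ygi54 zgi50) (kgi xgi22 ygi54 zgi22) (kgi xgi17 ygi32 zgi5) (kgi xgi24 ygi17 zgi0) (kgi xgi10 ygi51 zgi22) (kgi xgi24 ygi0 zgi39) (kgi xgi23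 ygi0 zgi60) (kgi xgi24 ygi38 zgi55) (kgi xgi10 ygi51 zgi23) (kgi xgi27 ygi13 zgi8) (kgi xgi28 ygi59 zgi3) (kgi xgi28 ygi58 zgi46) (kgi xgi11 ygi10 zgi19) (kgi xgi26 ygi47 zgi3) (kgi xgi28 ygi59 zgi19) (kgi xgi11 ygi10 zgi15) (kgi xgi10 ygi51 zgi26) (kgi xgi28 ygi59 zgi8) (kgi xgi28 ygi59 zgi6) (kgi xgi18 ygi55 zgi46) (kgi xgi18 ygi52 zgi55) (kgi xgi16 ygi29 zgi7) (kgi xgi16 ygi29 zgi6) (kgi xgi16 ygi28 zgi57) (kgi xgi18 ygi52 zgi52) (kgi xgi12 ygi52 zgi35) (kgi xgi15 ygi34 zgi40) (kgi xgi27 ygi15 zgi59) (kgi xgi15 ygi33 zgi29) (kgi xgi11 ygi42 zgi48) (kgi xgi15 ygi34 zgi38) (kgi xgi15 ygi20 zgi17) (kgi xgi15 ygi35 zgi53) (kgi xgi15 ygi39 zgi40) (kgi xgi10 ygi51 zgi34)) (@D3.rec (fun _ => Pt) (kgi xgi28 ygi59 zgi31) (kgi xgi15 ygi20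 zgi12) (kgi xgi10 ygi51 zgi36) (kgi xgi19 ygi53 zgi42) (kgi xgi10 ygi51 zgi38) (kgi xgi10 ygi51 zgi41) (kgi xgi28 ygi59 zgi40) (kgi xgi25 ygi11 zgi4) (kgi xgi28 ygi58 zgi34) (kgi xgi28 ygi59 zgi43) (kgi xgi11 ygi2 zgi25) (kgi xgi25 ygi15 zgi35) (kgi xgi28 ygi59 zgi42) (kgi xgi15 ygi38 zgi24) (kgi xgi28 ygi59 zgi48) (kgi xgi10 ygi51 zgi44) (kgi xgi28 ygi57 zgi31) (kgi xgi15 ygi3 zgi9) (kgi xgi25 ygi33 zgi47) (kgi xgi28 ygi57 zgi28) (kgi xgi26 ygi13 zgi49) (kgi xgi28 ygi59 zgi54) (kgi xgi25 ygi31 zgi20) (kgi xgi10 ygi51 zgi47) (kgi xgi25 ygi15 zgi13) (kgi xgi25 ygi9 zgi57) (kgi xgi28 ygi59 zgi59) (kgi xgi10 ygi51 zgi48) (kgi xgi10 ygi51 zgi51) (kgi xgi28 ygi59 zgi39) (kgi xgi15 ygi53 zgi10) (kgi xgi28 ygi16 zgi2) (kgi xgi28 ygi1 zgi27)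 (kgi xgi28 ygi57 zgi32) (kgi xgi29 ygi0 zgi2) (kgi xgi28 ygi59 zgi37) (kgi xgi29 ygi0 zgi4) (kgi xgi25 ygi13 zgi35) (kgi xgi15 ygi38 zgi16) (kgi xgi25 ygi5 zgi54) (kgi xgi17 ygi28 zgi60) (kgi xgi15 ygi38 zgi14) (kgi xgi27 ygi30 zgi22) (kgi xgi29 ygi0 zgi9) (kgi xgi15 ygi36 zgi7) (kgi xgi21 ygi57 zgi20) (kgi xgi15 ygi38 zgi23) (kgi xgi12 ygi4 zgi36) (kgi xgi25 ygi27 zgi37) (kgi xgi17 ygi43 zgi7) (kgi xgi10 ygi52 zgi0) (kgi xgi25 ygi47 zgi11) (kgi xgi25 ygi47 zgi9) (kgi xgi13 ygi54 zgi10) (kgi xgi29 ygi0 zgi17) (kgi xgi16 ygi15 zgi5) (kgi xgi15 ygi47 zgi6) (kgi xgi16 ygi7 zgi5) (kgi xgi17 ygi25 zgi17) (kgi xgi10 ygi52 zgi6) (kgi xgi25 ygi54 zgi59) (kgi xgi25 ygi36 zgi34)) (@D3.rec (fun _ => Pt) (kgi xgi17 ygi56 zgi28) (kgi xgi22 ygi11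 zgi56) (kgi xgi19 ygi42 zgi33) (kgi xgi19 ygi58 zgi36) (kgi xgi19 ygi46 zgi50) (kgi xgi28 ygi0 zgi59) (kgi xgi10 ygi52 zgi10) (kgi xgi28 ygi48 zgi34) (kgi xgi29 ygi0 zgi19) (kgi xgi25 ygi29 zgi4) (kgi xgi10 ygi56 zgi58) (kgi xgi10 ygi56 zgi60) (kgi xgi25 ygi31 zgi19) (kgi xgi25 ygi15 zgi14) (kgi xgi16 ygi28 zgi49) (kgi xgi29 ygi0 zgi23) (kgi xgi10 ygi52 zgi25) (kgi xgi25 ygi55 zgi49) (kgi xgi22 ygi8 zgi4) (kgi xgi29 ygi0 zgi26) (kgi xgi10 ygi52 zgi27) (kgi xgi21 ygi15 zgi17) (kgi xgi19 ygi53 zgi1) (kgi xgi12 ygi10 zgi34) (kgi xgi24 ygi36 zgi21) (kgi xgi19 ygi11 zgi60) (kgi xgi11 ygi0 zgi5) (kgi xgi29 ygi0 zgi31) (kgi xgi11 ygi0 zgi18) (kgi xgi24 ygi36 zgi19) (kgi xgi15 ygi4 zgi30) (kgi xgi19 ygi57 zgi40) (kgi xgi15 ygi15 zgi35) (kgi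 xgi26 ygi41 zgi38) (kgi xgi15 ygi46 zgi37) (kgi xgi10 ygi52 zgi26) (kgi xgi26 ygi42 zgi31) (kgi xgi22 ygi11 zgi21) (kgi xgi26 ygi42 zgi28) (kgi xgi20 ygi8 zgi27) (kgi xgi20 ygi19 zgi20) (kgi xgi26 ygi45 zgi44) (kgi xgi12 ygi32 zgi3) (kgi xgi25 ygi17 zgi50) (kgi xgi20 ygi22 zgi16) (kgi xgi17 ygi30 zgi8) (kgi xgi17 ygi54 zgi58) (kgi xgi16 ygi26 zgi17) (kgi xgi19 ygi47 zgi0) (kgi xgi10 ygi58 zgi61) (kgi xgi20 ygi4 zgi54) (kgi xgi21 ygi36 zgi0) (kgi xgi10 ygi52 zgi57) (kgi xgi10 ygi52 zgi54) (kgi xgi15 ygi3 zgi41) (kgi xgi27 ygi42 zgi52) (kgi xgi22 ygi17 zgi19) (kgi xgi11 ygi44 zgi26) (kgi xgi11 ygi22 zgi41) (kgi xgi17 ygi53 zgi44) (kgi xgi29 ygi0 zgi39) (kgi xgi10 ygi57 zgi13)) (@D3.rec (fun _ => Pt) (kgi xgi17 ygi53 zgi47) (kgi xgi10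 ygi52 zgi44) (kgi xgi23 ygi0 zgi58) (kgi xgi27 ygi42 zgi9) (kgi xgi16 ygi10 zgi59) (kgi xgi10 ygi52 zgi47) (kgi xgi19 ygi58 zgi29) (kgi xgi16 ygi5 zgi41) (kgi xgi28 ygi54 zgi11) (kgi xgi27 ygi40 zgi47) (kgi xgi10 ygi52 zgi48) (kgi xgi10 ygi52 zgi49) (kgi xgi10 ygi52 zgi53) (kgi xgi19 ygi53 zgi22) (kgi xgi17 ygi1 zgi54) (kgi xgi25 ygi15 zgi10) (kgi xgi11 ygi9 zgi14) (kgi xgi29 ygi0 zgi46) (kgi xgi26 ygi43 zgi49) (kgi xgi11 ygi2 zgi28) (kgi xgi12 ygi49 zgi59) (kgi xgi21 ygi57 zgi39) (kgi xgi10 ygi52 zgi56) (kgi xgi11 ygi43 zgi1) (kgi xgi24 ygi2 zgi53) (kgi xgi20 ygi29 zgi7) (kgi xgi24 ygi52 zgi12) (kgi xgi20 ygi5 zgi12) (kgi xgi10 ygi53 zgi2) (kgi xgi20 ygi5 zgi22) (kgi xgi25 ygi37 zgi26) (kgi xgi17 ygi50 zgi19) (kgi xgi21 ygi21 zgi4)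 (kgi xgi22 ygi5 zgi40) (kgi xgi18 ygi41 zgi57) (kgi xgi10 ygi53 zgi7) (kgi xgi25 ygi42 zgi11) (kgi xgi17 ygi21 zgi27) (kgi xgi20 ygi29 zgi58) (kgi xgi11 ygi10 zgi20) (kgi xgi18 ygi38 zgi0) (kgi xgi26 ygi48 zgi34) (kgi xgi16 ygi39 zgi10) (kgi xgi11 ygi39 zgi38) (kgi xgi19 ygi40 zgi43) (kgi xgi22 ygi4 zgi1) (kgi xgi16 ygi39 zgi2) (kgi xgi20 ygi29 zgi56) (kgi xgi18 ygi1 zgi35) (kgi xgi17 ygi21 zgi37) (kgi xgi17 ygi22 zgi9) (kgi xgi16 ygi39 zgi53) (kgi xgi25 ygi5 zgi6) (kgi xgi24 ygi27 zgi30) (kgi xgi25 ygi47 zgi52) (kgi xgi25 ygi5 zgi17) (kgi xgi19 ygi28 zgi28) (kgi xgi14 ygi24 zgi36) (kgi xgi10 ygi53 zgi28) (kgi xgi24 ygi8 zgi11) (kgi xgi24 ygi7 zgi18) (kgi xgi14 ygi24 zgi35)) (@D3.rec (fun _ => Pt) (kgi xgi22 ygi34 zgi31) (kgi xgi14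 ygi15 zgi15) (kgi xgi10 ygi54 zgi3) (kgi xgi25 ygi47 zgi47) (kgi xgi18 ygi49 zgi0) (kgi xgi11 ygi2 zgi16) (kgi xgi26 ygi42 zgi42) (kgi xgi10 ygi54 zgi19) (kgi xgi10 ygi54 zgi24) (kgi xgi24 ygi34 zgi60) (kgi xgi25 ygi52 zgi21) (kgi xgi26 ygi44 zgi59) (kgi xgi10 ygi53 zgi58) (kgi xgi16 ygi40 zgi34) (kgi xgi19 ygi29 zgi52) (kgi xgi19 ygi21 zgi60) (kgi xgi28 ygi46 zgi46) (kgi xgi10 ygi53 zgi42) (kgi xgi19 ygi16 zgi23) (kgi xgi17 ygi1 zgi60) (kgi xgi10 ygi53 zgi43) (kgi xgi19 ygi4 zgi21) (kgi xgi29 ygi1 zgi19) (kgi xgi17 ygi51 zgi16) (kgi xgi25 ygi47 zgi46) (kgi xgi20 ygi46 zgi19) (kgi xgi10 ygi53 zgi46) (kgi xgi27 ygi10 zgi48) (kgi xgi10 ygi53 zgi47) (kgi xgi26 ygi44 zgi58) (kgi xgi19 ygi33 zgi35) (kgi xgi10 ygi53 zgi49) (kgi xgi10 ygi53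 zgi57) (kgi xgi10 ygi53 zgi54) (kgi xgi28 ygi57 zgi50) (kgi xgi22 ygi57 zgi46) (kgi xgi24 ygi6 zgi31) (kgi xgi29 ygi1 zgi9) (kgi xgi23 ygi53 zgi45) (kgi xgi29 ygi1 zgi37) (kgi xgi10 ygi53 zgi52) (kgi xgi26 ygi44 zgi61) (kgi xgi19 ygi51 zgi33) (kgi xgi22 ygi49 zgi16) (kgi xgi22 ygi34 zgi19) (kgi xgi29 ygi1 zgi46) (kgi xgi20 ygi53 zgi3) (kgi xgi10 ygi53 zgi56) (kgi xgi11 ygi6 zgi51) (kgi xgi19 ygi29 zgi54) (kgi xgi29 ygi1 zgi55) (kgi xgi29 ygi1 zgi57) (kgi xgi10 ygi53 zgi59) (kgi xgi19 ygi30 zgi23) (kgi xgi29 ygi1 zgi60) (kgi xgi19 ygi30 zgi20) (kgi xgi19 ygi30 zgi14) (kgi xgi25 ygi50 zgi42) (kgi xgi26 ygi31 zgi41) (kgi xgi10 ygi53 zgi61) (kgi xgi29 ygi2 zgi7) (kgi xgi19 ygi30 zgi0)) (@D3.rec (fun _ => Pt) (kgi xgi19 ygi10 zgi2) (kgi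 xgi10 ygi54 zgi4) (kgi xgi29 ygi2 zgi10) (kgi xgi10 ygi54 zgi8) (kgi xgi19 ygi21 zgi55) (kgi xgi25 ygi47 zgi56) (kgi xgi29 ygi2 zgi14) (kgi xgi15 ygi56 zgi15) (kgi xgi17 ygi21 zgi23) (kgi xgi25 ygi58 zgi20) (kgi xgi27 ygi28 zgi4) (kgi xgi13 ygi45 zgi46) (kgi xgi10 ygi54 zgi15) (kgi xgi18 ygi44 zgi3) (kgi xgi26 ygi19 zgi32) (kgi xgi15 ygi51 zgi40) (kgi xgi29 ygi2 zgi18) (kgi xgi15 ygi1 zgi33) (kgi xgi24 ygi52 zgi20) (kgi xgi18 ygi35 zgi32) (kgi xgi10 ygi54 zgi22) (kgi xgi28 ygi14 zgi25) (kgi xgi28 ygi14 zgi27) (kgi xgi28 ygi46 zgi9) (kgi xgi29 ygi2 zgi26) (kgi xgi25 ygi17 zgi14) (kgi xgi12 ygi50 zgi32) (kgi xgi28 ygi30 zgi21) (kgi xgi10 ygi54 zgi28) (kgi xgi27 ygi36 zgi8) (kgi xgi25 ygi47 zgi55) (kgi xgi10 ygi54 zgi33) (kgi xgi29 ygi2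 zgi33) (kgi xgi10 ygi57 zgi6) (kgi xgi19 ygi48 zgi31) (kgi xgi20 ygi4 zgi34) (kgi xgi20 ygi4 zgi36) (kgi xgi19 ygi33 zgi11) (kgi xgi22 ygi8 zgi0) (kgi xgi15 ygi1 zgi7) (kgi xgi15 ygi2 zgi56) (kgi xgi25 ygi22 zgi12) (kgi xgi11 ygi5 zgi10) (kgi xgi10 ygi57 zgi26) (kgi xgi15 ygi47 zgi59) (kgi xgi25 ygi11 zgi13) (kgi xgi10 ygi54 zgi40) (kgi xgi25 ygi21 zgi51) (kgi xgi29 ygi2 zgi46) (kgi xgi12 ygi49 zgi44) (kgi xgi29 ygi2 zgi32) (kgi xgi11 ygi8 zgi15) (kgi xgi21 ygi0 zgi30) (kgi xgi25 ygi23 zgi32) (kgi xgi10 ygi54 zgi43) (kgi xgi11 ygi28 zgi46) (kgi xgi10 ygi57 zgi1) (kgi xgi18 ygi17 zgi12) (kgi xgi16 ygi44 zgi57) (kgi xgi10 ygi55 zgi18) (kgi xgi10 ygi54 zgi52) (kgi xgi21 ygi0 zgi58)) (@D3.rec (fun _ => Pt) (kgi xgi11 ygi32 zgi9) (kgi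 xgi16 ygi39 zgi54) (kgi xgi19 ygi32 zgi11) (kgi xgi15 ygi51 zgi32) (kgi xgi23 ygi53 zgi28) (kgi xgi26 ygi49 zgi6) (kgi xgi26 ygi44 zgi2) (kgi xgi21 ygi0 zgi55) (kgi xgi10 ygi54 zgi60) (kgi xgi10 ygi55 zgi15) (kgi xgi10 ygi55 zgi13) (kgi xgi15 ygi3 zgi28) (kgi xgi19 ygi50 zgi15) (kgi xgi21 ygi15 zgi33) (kgi xgi11 ygi2 zgi19) (kgi xgi17 ygi53 zgi17) (kgi xgi10 ygi55 zgi7) (kgi xgi29 ygi3 zgi0) (kgi xgi26 ygi52 zgi56) (kgi xgi20 ygi33 zgi21) (kgi xgi10 ygi55 zgi5) (kgi xgi11 ygi50 zgi29) (kgi xgi19 ygi33 zgi56) (kgi xgi16 ygi48 zgi15) (kgi xgi21 ygi54 zgi33) (kgi xgi20 ygi21 zgi40) (kgi xgi21 ygi15 zgi53) (kgi xgi18 ygi45 zgi19) (kgi xgi10 ygi55 zgi8) (kgi xgi21 ygi28 zgi48) (kgi xgi19 ygi33 zgi44) (kgi xgi29 ygi3 zgi6) (kgi xgi10 ygi59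 zgi30) (kgi xgi16 ygi45 zgi10) (kgi xgi12 ygi10 zgi22) (kgi xgi20 ygi21 zgi58) (kgi xgi19 ygi34 zgi15) (kgi xgi28 ygi45 zgi44) (kgi xgi28 ygi53 zgi39) (kgi xgi26 ygi45 zgi39) (kgi xgi21 ygi0 zgi57) (kgi xgi19 ygi23 zgi58) (kgi xgi20 ygi24 zgi29) (kgi xgi14 ygi8 zgi2) (kgi xgi10 ygi55 zgi16) (kgi xgi26 ygi35 zgi30) (kgi xgi26 ygi40 zgi0) (kgi xgi27 ygi43 zgi53) (kgi xgi18 ygi54 zgi4) (kgi xgi29 ygi2 zgi54) (kgi xgi27 ygi44 zgi7) (kgi xgi11 ygi6 zgi60) (kgi xgi19 ygi33 zgi6) (kgi xgi10 ygi55 zgi22) (kgi xgi16 ygi3 zgi51) (kgi xgi12 ygi29 zgi58) (kgi xgi12 ygi25 zgi45) (kgi xgi19 ygi50 zgi35) (kgi xgi20 ygi49 zgi60) (kgi xgi10 ygi55 zgi33) (kgi xgi10 ygi55 zgi31) (kgi xgi19 ygi50 zgi42)) (@D3.rec (fun _ => Pt) (kgi xgi16 ygi48 zgi24)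 (kgi xgi29 ygi3 zgi17) (kgi xgi10 ygi55 zgi39) (kgi xgi26 ygi43 zgi5) (kgi xgi29 ygi3 zgi22) (kgi xgi18 ygi19 zgi54) (kgi xgi22 ygi28 zgi55) (kgi xgi10 ygi58 zgi19) (kgi xgi11 ygi0 zgi6) (kgi xgi11 ygi1 zgi26) (kgi xgi10 ygi55 zgi45) (kgi xgi24 ygi45 zgi7) (kgi xgi19 ygi18 zgi6) (kgi xgi18 ygi33 zgi48) (kgi xgi24 ygi46 zgi4) (kgi xgi24 ygi49 zgi15) (kgi xgi21 ygi48 zgi10) (kgi xgi18 ygi32 zgi29) (kgi xgi27 ygi51 zgi3) (kgi xgi12 ygi55 zgi6) (kgi xgi18 ygi44 zgi4) (kgi xgi26 ygi44 zgi17) (kgi xgi15 ygi54 zgi21) (kgi xgi28 ygi56 zgi49) (kgi xgi19 ygi35 zgi12) (kgi xgi24 ygi16 zgi27) (kgi xgi10 ygi55 zgi58) (kgi xgi25 ygi4 zgi19) (kgi xgi25 ygi50 zgi18) (kgi xgi24 ygi39 zgi1) (kgi xgi10 ygi55 zgi59) (kgi xgi27 ygi42 zgi30) (kgi xgi23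 ygi11 zgi21) (kgi xgi29 ygi3 zgi27) (kgi xgi10 ygi55 zgi60) (kgi xgi10 ygi56 zgi32) (kgi xgi28 ygi59 zgi27) (kgi xgi10 ygi56 zgi29) (kgi xgi26 ygi44 zgi19) (kgi xgi15 ygi31 zgi14) (kgi xgi23 ygi41 zgi45) (kgi xgi17 ygi27 zgi46) (kgi xgi10 ygi56 zgi1) (kgi xgi10 ygi56 zgi44) (kgi xgi29 ygi3 zgi47) (kgi xgi10 ygi56 zgi41) (kgi xgi18 ygi51 zgi13) (kgi xgi18 ygi52 zgi27) (kgi xgi25 ygi5 zgi25) (kgi xgi17 ygi28 zgi18) (kgi xgi16 ygi40 zgi33) (kgi xgi10 ygi56 zgi26) (kgi xgi25 ygi4 zgi26) (kgi xgi29 ygi3 zgi53) (kgi xgi19 ygi36 zgi50) (kgi xgi19 ygi19 zgi33) (kgi xgi16 ygi28 zgi0) (kgi xgi10 ygi56 zgi37) (kgi xgi10 ygi56 zgi13) (kgi xgi19 ygi18 zgi40) (kgi xgi20 ygi3 zgi52) (kgi xgi10 ygi56 zgi11)) (@D3.rec (fun _ => Pt) (kgi xgi19 ygi45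 zgi1) (kgi xgi19 ygi44 zgi61) (kgi xgi10 ygi56 zgi12) (kgi xgi16 ygi45 zgi25) (kgi xgi29 ygi4 zgi3) (kgi xgi25 ygi12 zgi18) (kgi xgi26 ygi44 zgi18) (kgi xgi15 ygi2 zgi21) (kgi xgi25 ygi13 zgi11) (kgi xgi17 ygi32 zgi46) (kgi xgi14 ygi33 zgi25) (kgi xgi13 ygi36 zgi29) (kgi xgi23 ygi1 zgi36) (kgi xgi10 ygi56 zgi17) (kgi xgi10 ygi56 zgi25) (kgi xgi20 ygi49 zgi46) (kgi xgi29 ygi4 zgi4) (kgi xgi24 ygi39 zgi32) (kgi xgi25 ygi12 zgi11) (kgi xgi13 ygi8 zgi29) (kgi xgi29 ygi4 zgi16) (kgi xgi10 ygi56 zgi20) (kgi xgi13 ygi8 zgi43) (kgi xgi10 ygi56 zgi21) (kgi xgi23 ygi1 zgi14) (kgi xgi29 ygi4 zgi22) (kgi xgi29 ygi4 zgi5) (kgi xgi20 ygi28 zgi40) (kgi xgi20 ygi5 zgi1) (kgi xgi24 ygi16 zgi32) (kgi xgi29 ygi4 zgi29) (kgi xgi21 ygi0 zgi16) (kgi xgi10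 ygi56 zgi24) (kgi xgi27 ygi42 zgi31) (kgi xgi14 ygi55 zgi10) (kgi xgi23 ygi28 zgi36) (kgi xgi19 ygi36 zgi51) (kgi xgi23 ygi54 zgi60) (kgi xgi17 ygi56 zgi60) (kgi xgi29 ygi4 zgi40) (kgi xgi29 ygi3 zgi57) (kgi xgi15 ygi33 zgi51) (kgi xgi25 ygi28 zgi41) (kgi xgi25 ygi54 zgi50) (kgi xgi26 ygi17 zgi54) (kgi xgi15 ygi38 zgi12) (kgi xgi25 ygi36 zgi23) (kgi xgi13 ygi34 zgi10) (kgi xgi10 ygi56 zgi31) (kgi xgi29 ygi3 zgi39) (kgi xgi29 ygi4 zgi48) (kgi xgi27 ygi17 zgi42) (kgi xgi10 ygi56 zgi33) (kgi xgi24 ygi16 zgi44) (kgi xgi29 ygi4 zgi57) (kgi xgi29 ygi4 zgi60) (kgi xgi17 ygi43 zgi19) (kgi xgi20 ygi59 zgi14) (kgi xgi25 ygi9 zgi35) (kgi xgi29 ygi3 zgi40) (kgi xgi24 ygi32 zgi61) (kgi xgi29 ygi5 zgi2)) (@D3.rec (fun _ => Pt) (kgi xgi28 ygi20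 zgi37) (kgi xgi17 ygi27 zgi52) (kgi xgi25 ygi4 zgi7) (kgi xgi23 ygi41 zgi46) (kgi xgi28 ygi19 zgi25) (kgi xgi29 ygi4 zgi61) (kgi xgi23 ygi27 zgi38) (kgi xgi17 ygi27 zgi57) (kgi xgi10 ygi56 zgi43) (kgi xgi28 ygi47 zgi58) (kgi xgi21 ygi27 zgi16) (kgi xgi26 ygi45 zgi20) (kgi xgi29 ygi3 zgi46) (kgi xgi29 ygi5 zgi17) (kgi xgi24 ygi39 zgi59) (kgi xgi25 ygi5 zgi2) (kgi xgi10 ygi56 zgi46) (kgi xgi25 ygi5 zgi15) (kgi xgi29 ygi5 zgi23) (kgi xgi29 ygi5 zgi24) (kgi xgi10 ygi56 zgi47) (kgi xgi10 ygi56 zgi50) (kgi xgi20 ygi59 zgi18) (kgi xgi29 ygi5 zgi27) (kgi xgi21 ygi0 zgi29) (kgi xgi25 ygi31 zgi23) (kgi xgi28 ygi56 zgi40) (kgi xgi28 ygi56 zgi42) (kgi xgi29 ygi5 zgi32) (kgi xgi25 ygi26 zgi12) (kgi xgi21 ygi17 zgi40) (kgi xgi25 ygi24 zgi32) (kgi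 xgi19 ygi39 zgi2) (kgi xgi24 ygi22 zgi5) (kgi xgi25 ygi4 zgi37) (kgi xgi16 ygi43 zgi41) (kgi xgi21 ygi37 zgi49) (kgi xgi16 ygi43 zgi50) (kgi xgi10 ygi57 zgi21) (kgi xgi25 ygi4 zgi56) (kgi xgi15 ygi33 zgi4) (kgi xgi10 ygi56 zgi61) (kgi xgi21 ygi0 zgi33) (kgi xgi19 ygi23 zgi14) (kgi xgi10 ygi57 zgi19) (kgi xgi21 ygi0 zgi34) (kgi xgi26 ygi22 zgi24) (kgi xgi16 ygi48 zgi23) (kgi xgi26 ygi26 zgi46) (kgi xgi20 ygi42 zgi28) (kgi xgi15 ygi3 zgi35) (kgi xgi26 ygi39 zgi60) (kgi xgi10 ygi57 zgi7) (kgi xgi10 ygi57 zgi10) (kgi xgi26 ygi25 zgi24) (kgi xgi20 ygi25 zgi51) (kgi xgi16 ygi47 zgi25) (kgi xgi10 ygi57 zgi8) (kgi xgi20 ygi19 zgi58) (kgi xgi19 ygi17 zgi56) (kgi xgi26 ygi46 zgi32) (kgi xgi24 ygi36 zgi44)) (@D3.rec (fun _ => Pt) (kgi xgi16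 ygi43 zgi59) (kgi xgi24 ygi57 zgi4) (kgi xgi16 ygi57 zgi29) (kgi xgi17 ygi59 zgi52) (kgi xgi20 ygi25 zgi25) (kgi xgi15 ygi3 zgi36) (kgi xgi14 ygi50 zgi18) (kgi xgi26 ygi2 zgi43) (kgi xgi10 ygi57 zgi17) (kgi xgi29 ygi5 zgi37) (kgi xgi29 ygi5 zgi46) (kgi xgi20 ygi3 zgi24) (kgi xgi12 ygi55 zgi33) (kgi xgi12 ygi56 zgi27) (kgi xgi29 ygi5 zgi45) (kgi xgi27 ygi21 zgi20) (kgi xgi26 ygi42 zgi32) (kgi xgi22 ygi7 zgi49) (kgi xgi22 ygi7 zgi33) (kgi xgi29 ygi5 zgi50) (kgi xgi28 ygi49 zgi18) (kgi xgi26 ygi48 zgi33) (kgi xgi28 ygi29 zgi59) (kgi xgi10 ygi57 zgi31) (kgi xgi28 ygi39 zgi54) (kgi xgi10 ygi58 zgi43) (kgi xgi11 ygi1 zgi20) (kgi xgi15 ygi0 zgi8) (kgi xgi19 ygi18 zgi21) (kgi xgi20 ygi40 zgi2) (kgi xgi16 ygi50 zgi61) (kgi xgi10 ygi58 zgi21)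 (kgi xgi18 ygi2 zgi52) (kgi xgi23 ygi25 zgi47) (kgi xgi23 ygi59 zgi3) (kgi xgi10 ygi57 zgi38) (kgi xgi10 ygi57 zgi45) (kgi xgi11 ygi3 zgi48) (kgi xgi26 ygi3 zgi23) (kgi xgi10 ygi57 zgi39) (kgi xgi17 ygi33 zgi45) (kgi xgi25 ygi38 zgi50) (kgi xgi10 ygi57 zgi46) (kgi xgi26 ygi22 zgi54) (kgi xgi26 ygi46 zgi35) (kgi xgi10 ygi57 zgi58) (kgi xgi16 ygi59 zgi15) (kgi xgi20 ygi45 zgi7) (kgi xgi14 ygi9 zgi60) (kgi xgi20 ygi6 zgi30) (kgi xgi29 ygi6 zgi6) (kgi xgi20 ygi34 zgi38) (kgi xgi19 ygi54 zgi10) (kgi xgi23 ygi1 zgi50) (kgi xgi19 ygi58 zgi54) (kgi xgi29 ygi6 zgi11) (kgi xgi10 ygi57 zgi50) (kgi xgi10 ygi58 zgi6) (kgi xgi25 ygi32 zgi53) (kgi xgi10 ygi58 zgi3) (kgi xgi11 ygi12 zgi28) (kgi xgi16 ygi25 zgi36)) (@D3.rec (fun _ => Pt) (kgi xgi12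 ygi47 zgi7) (kgi xgi10 ygi58 zgi18) (kgi xgi20 ygi53 zgi28) (kgi xgi11 ygi2 zgi3) (kgi xgi10 ygi58 zgi27) (kgi xgi29 ygi3 zgi5) (kgi xgi19 ygi42 zgi52) (kgi xgi24 ygi57 zgi39) (kgi xgi29 ygi6 zgi17) (kgi xgi10 ygi57 zgi59) (kgi xgi24 ygi47 zgi14) (kgi xgi28 ygi24 zgi38) (kgi xgi29 ygi6 zgi21) (kgi xgi28 ygi43 zgi59) (kgi xgi16 ygi10 zgi45) (kgi xgi23 ygi31 zgi57) (kgi xgi16 ygi25 zgi41) (kgi xgi16 ygi10 zgi36) (kgi xgi26 ygi0 zgi58) (kgi xgi10 ygi58 zgi1) (kgi xgi20 ygi1 zgi25) (kgi xgi19 ygi50 zgi1) (kgi xgi20 ygi31 zgi57) (kgi xgi25 ygi1 zgi52) (kgi xgi10 ygi58 zgi2) (kgi xgi23 ygi31 zgi19) (kgi xgi24 ygi41 zgi13) (kgi xgi29 ygi6 zgi10) (kgi xgi14 ygi42 zgi22) (kgi xgi19 ygi42 zgi34) (kgi xgi27 ygi26 zgi30) (kgi xgi29 ygi6 zgi30)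 (kgi xgi23 ygi24 zgi30) (kgi xgi29 ygi6 zgi4) (kgi xgi25 ygi28 zgi14) (kgi xgi25 ygi32 zgi56) (kgi xgi11 ygi35 zgi18) (kgi xgi10 ygi58 zgi8) (kgi xgi21 ygi51 zgi44) (kgi xgi19 ygi53 zgi7) (kgi xgi25 ygi17 zgi37) (kgi xgi25 ygi18 zgi61) (kgi xgi29 ygi6 zgi34) (kgi xgi22 ygi6 zgi28) (kgi xgi10 ygi58 zgi14) (kgi xgi21 ygi4 zgi8) (kgi xgi10 ygi58 zgi15) (kgi xgi12 ygi38 zgi34) (kgi xgi20 ygi32 zgi60) (kgi xgi28 ygi14 zgi3) (kgi xgi24 ygi22 zgi35) (kgi xgi29 ygi5 zgi59) (kgi xgi19 ygi32 zgi21) (kgi xgi10 ygi58 zgi26) (kgi xgi26 ygi59 zgi47) (kgi xgi29 ygi6 zgi41) (kgi xgi10 ygi58 zgi28) (kgi xgi20 ygi24 zgi50) (kgi xgi19 ygi32 zgi33) (kgi xgi10 ygi58 zgi32) (kgi xgi20 ygi50 zgi47) (kgi xgi20 ygi59 zgi49)) (@D3.rec (fun _ => Pt) (kgi xgi14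 ygi8 zgi30) (kgi xgi11 ygi48 zgi44) (kgi xgi11 ygi0 zgi20) (kgi xgi28 ygi28 zgi2) (kgi xgi19 ygi52 zgi38) (kgi xgi28 ygi18 zgi17) (kgi xgi11 ygi0 zgi24) (kgi xgi23 ygi3 zgi42) (kgi xgi15 ygi19 zgi24) (kgi xgi16 ygi49 zgi21) (kgi xgi20 ygi15 zgi28) (kgi xgi10 ygi59 zgi26) (kgi xgi15 ygi20 zgi6) (kgi xgi15 ygi15 zgi46) (kgi xgi19 ygi49 zgi8) (kgi xgi25 ygi51 zgi11) (kgi xgi23 ygi33 zgi21) (kgi xgi21 ygi32 zgi37) (kgi xgi10 ygi59 zgi15) (kgi xgi22 ygi5 zgi39) (kgi xgi29 ygi6 zgi50) (kgi xgi19 ygi58 zgi28) (kgi xgi25 ygi22 zgi38) (kgi xgi11 ygi26 zgi53) (kgi xgi20 ygi50 zgi51) (kgi xgi10 ygi58 zgi57) (kgi xgi15 ygi22 zgi6) (kgi xgi14 ygi51 zgi42) (kgi xgi10 ygi58 zgi60) (kgi xgi12 ygi50 zgi9) (kgi xgi12 ygi49 zgi57) (kgi xgi23 ygi25 zgi50)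 (kgi xgi21 ygi1 zgi1) (kgi xgi10 ygi59 zgi24) (kgi xgi10 ygi59 zgi2) (kgi xgi10 ygi59 zgi11) (kgi xgi29 ygi6 zgi58) (kgi xgi26 ygi32 zgi57) (kgi xgi23 ygi31 zgi38) (kgi xgi27 ygi21 zgi48) (kgi xgi10 ygi59 zgi6) (kgi xgi15 ygi52 zgi7) (kgi xgi28 ygi42 zgi35) (kgi xgi25 ygi55 zgi38) (kgi xgi25 ygi12 zgi33) (kgi xgi21 ygi1 zgi52) (kgi xgi27 ygi31 zgi37) (kgi xgi29 ygi7 zgi1) (kgi xgi29 ygi7 zgi0) (kgi xgi20 ygi43 zgi39) (kgi xgi10 ygi59 zgi10) (kgi xgi20 ygi43 zgi19) (kgi xgi29 ygi6 zgi57) (kgi xgi10 ygi59 zgi13) (kgi xgi26 ygi44 zgi48) (kgi xgi10 ygi59 zgi14) (kgi xgi19 ygi32 zgi22) (kgi xgi10 ygi59 zgi40) (kgi xgi15 ygi3 zgi32) (kgi xgi12 ygi10 zgi9) (kgi xgi20 ygi0 zgi31) (kgi xgi19 ygi40 zgi4)) (@D3.rec (fun _ => Pt) (kgi xgi16 ygi33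 zgi13) (kgi xgi16 ygi29 zgi21) (kgi xgi10 ygi59 zgi20) (kgi xgi19 ygi54 zgi17) (kgi xgi19 ygi2 zgi12) (kgi xgi10 ygi59 zgi21) (kgi xgi11 ygi44 zgi29) (kgi xgi29 ygi7 zgi8) (kgi xgi19 ygi53 zgi23) (kgi xgi10 ygi59 zgi23) (kgi xgi29 ygi6 zgi46) (kgi xgi11 ygi2 zgi8) (kgi xgi20 ygi41 zgi38) (kgi xgi22 ygi7 zgi48) (kgi xgi27 ygi22 zgi47) (kgi xgi19 ygi43 zgi13) (kgi xgi25 ygi40 zgi45) (kgi xgi18 ygi54 zgi10) (kgi xgi20 ygi31 zgi34) (kgi xgi10 ygi59 zgi34) (kgi xgi11 ygi0 zgi9) (kgi xgi29 ygi7 zgi16) (kgi xgi10 ygi59 zgi35) (kgi xgi19 ygi58 zgi30) (kgi xgi15 ygi3 zgi42) (kgi xgi17 ygi31 zgi31) (kgi xgi21 ygi38 zgi16) (kgi xgi10 ygi59 zgi49) (kgi xgi24 ygi51 zgi60) (kgi xgi29 ygi7 zgi18) (kgi xgi19 ygi43 zgi60) (kgi xgi18 ygi44 zgi24) (kgi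 xgi18 ygi2 zgi21) (kgi xgi15 ygi3 zgi40) (kgi xgi10 ygi59 zgi47) (kgi xgi23 ygi30 zgi4) (kgi xgi27 ygi21 zgi11) (kgi xgi20 ygi4 zgi37) (kgi xgi15 ygi3 zgi31) (kgi xgi24 ygi49 zgi47) (kgi xgi10 ygi59 zgi51) (kgi xgi20 ygi8 zgi31) (kgi xgi16 ygi31 zgi9) (kgi xgi27 ygi3 zgi20) (kgi xgi26 ygi12 zgi42) (kgi xgi19 ygi21 zgi29) (kgi xgi14 ygi20 zgi6) (kgi xgi19 ygi21 zgi32) (kgi xgi28 ygi46 zgi30) (kgi xgi28 ygi38 zgi21) (kgi xgi19 ygi12 zgi37) (kgi xgi28 ygi43 zgi9) (kgi xgi19 ygi52 zgi11) (kgi xgi18 ygi48 zgi52) (kgi xgi28 ygi43 zgi13) (kgi xgi29 ygi7 zgi29) (kgi xgi22 ygi15 zgi1) (kgi xgi19 ygi20 zgi45) (kgi xgi29 ygi7 zgi32) (kgi xgi19 ygi21 zgi10) (kgi xgi28 ygi15 zgi14) (kgi xgi29 ygi7 zgi36)) (@D3.rec (fun _ => Pt) (kgi xgi18 ygi53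 zgi0) (kgi xgi19 ygi11 zgi40) (kgi xgi23 ygi52 zgi0) (kgi xgi22 ygi39 zgi0) (kgi xgi28 ygi15 zgi22) (kgi xgi14 ygi34 zgi2) (kgi xgi28 ygi50 zgi18) (kgi xgi11 ygi0 zgi8) (kgi xgi22 ygi32 zgi20) (kgi xgi11 ygi7 zgi20) (kgi xgi22 ygi39 zgi7) (kgi xgi11 ygi0 zgi10) (kgi xgi18 ygi46 zgi17) (kgi xgi16 ygi55 zgi14) (kgi xgi12 ygi10 zgi19) (kgi xgi11 ygi0 zgi12) (kgi xgi12 ygi10 zgi14) (kgi xgi28 ygi45 zgi38) (kgi xgi16 ygi56 zgi34) (kgi xgi12 ygi10 zgi11) (kgi xgi16 ygi56 zgi36) (kgi xgi11 ygi0 zgi16) (kgi xgi23 ygi37 zgi1) (kgi xgi12 ygi6 zgi61) (kgi xgi26 ygi32 zgi51) (kgi xgi11 ygi0 zgi23) (kgi xgi16 ygi47 zgi8) (kgi xgi11 ygi0 zgi37) (kgi xgi11 ygi0 zgi34) (kgi xgi18 ygi44 zgi20) (kgi xgi29 ygi7 zgi51) (kgi xgi23 ygi59 zgi51) (kgi xgi19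 ygi30 zgi39) (kgi xgi19 ygi43 zgi38) (kgi xgi11 ygi0 zgi31) (kgi xgi29 ygi7 zgi49) (kgi xgi28 ygi48 zgi8) (kgi xgi16 ygi47 zgi5) (kgi xgi19 ygi34 zgi17) (kgi xgi11 ygi0 zgi36) (kgi xgi26 ygi49 zgi42) (kgi xgi22 ygi36 zgi10) (kgi xgi29 ygi7 zgi60) (kgi xgi18 ygi53 zgi43) (kgi xgi17 ygi58 zgi29) (kgi xgi29 ygi5 zgi53) (kgi xgi11 ygi48 zgi30) (kgi xgi11 ygi48 zgi32) (kgi xgi11 ygi48 zgi31) (kgi xgi19 ygi18 zgi10) (kgi xgi27 ygi5 zgi61) (kgi xgi29 ygi8 zgi4) (kgi xgi11 ygi1 zgi16) (kgi xgi29 ygi8 zgi9) (kgi xgi11 ygi1 zgi13) (kgi xgi20 ygi25 zgi12) (kgi xgi20 ygi45 zgi49) (kgi xgi20 ygi25 zgi14) (kgi xgi20 ygi50 zgi55) (kgi xgi11 ygi1 zgi21) (kgi xgi24 ygi29 zgi39) (kgi xgi11 ygi1 zgi0)) (@D3.rec (fun _ => Pt) (kgi xgi11 ygi1 zgi3) (kgi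 xgi24 ygi11 zgi33) (kgi xgi26 ygi50 zgi61) (kgi xgi29 ygi8 zgi19) (kgi xgi11 ygi1 zgi4) (kgi xgi26 ygi51 zgi19) (kgi xgi11 ygi34 zgi26) (kgi xgi22 ygi11 zgi53) (kgi xgi11 ygi1 zgi6) (kgi xgi19 ygi13 zgi30) (kgi xgi29 ygi8 zgi24) (kgi xgi19 ygi17 zgi47) (kgi xgi19 ygi18 zgi59) (kgi xgi29 ygi8 zgi26) (kgi xgi11 ygi1 zgi12) (kgi xgi29 ygi8 zgi6) (kgi xgi29 ygi8 zgi34) (kgi xgi29 ygi8 zgi3) (kgi xgi29 ygi8 zgi20) (kgi xgi21 ygi16 zgi11) (kgi xgi26 ygi53 zgi7) (kgi xgi29 ygi8 zgi45) (kgi xgi29 ygi8 zgi41) (kgi xgi21 ygi15 zgi49) (kgi xgi11 ygi1 zgi15) (kgi xgi29 ygi8 zgi10) (kgi xgi28 ygi37 zgi32) (kgi xgi20 ygi25 zgi24) (kgi xgi11 ygi1 zgi17) (kgi xgi20 ygi24 zgi9) (kgi xgi21 ygi38 zgi22) (kgi xgi11 ygi1 zgi18) (kgi xgi24 ygi27 zgi49)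 (kgi xgi20 ygi42 zgi41) (kgi xgi20 ygi20 zgi26) (kgi xgi20 ygi28 zgi25) (kgi xgi20 ygi25 zgi54) (kgi xgi23 ygi52 zgi56) (kgi xgi19 ygi51 zgi23) (kgi xgi19 ygi42 zgi41) (kgi xgi21 ygi3 zgi7) (kgi xgi20 ygi17 zgi61) (kgi xgi28 ygi43 zgi6) (kgi xgi28 ygi13 zgi54) (kgi xgi19 ygi25 zgi11) (kgi xgi19 ygi15 zgi57) (kgi xgi12 ygi9 zgi51) (kgi xgi26 ygi36 zgi47) (kgi xgi29 ygi7 zgi43) (kgi xgi26 ygi48 zgi20) (kgi xgi19 ygi40 zgi33) (kgi xgi13 ygi17 zgi43) (kgi xgi11 ygi24 zgi18) (kgi xgi11 ygi21 zgi60) (kgi xgi17 ygi7 zgi18) (kgi xgi11 ygi1 zgi37) (kgi xgi27 ygi9 zgi38) (kgi xgi11 ygi1 zgi58) (kgi xgi14 ygi45 zgi33) (kgi xgi11 ygi1 zgi41) (kgi xgi24 ygi56 zgi46) (kgi xgi25 ygi14 zgi38)) (@D3.rec (fun _ => Pt) (kgi xgi22 ygi23 zgi29) (kgi xgi19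 ygi39 zgi40) (kgi xgi11 ygi21 zgi47) (kgi xgi29 ygi6 zgi8) (kgi xgi17 ygi7 zgi28) (kgi xgi11 ygi1 zgi49) (kgi xgi19 ygi57 zgi32) (kgi xgi18 ygi21 zgi30) (kgi xgi20 ygi26 zgi3) (kgi xgi11 ygi27 zgi6) (kgi xgi20 ygi25 zgi2) (kgi xgi11 ygi17 zgi16) (kgi xgi20 ygi45 zgi6) (kgi xgi29 ygi5 zgi42) (kgi xgi11 ygi1 zgi59) (kgi xgi11 ygi20 zgi27) (kgi xgi25 ygi37 zgi44) (kgi xgi20 ygi29 zgi50) (kgi xgi14 ygi19 zgi22) (kgi xgi17 ygi9 zgi50) (kgi xgi18 ygi39 zgi42) (kgi xgi29 ygi9 zgi15) (kgi xgi19 ygi40 zgi17) (kgi xgi20 ygi4 zgi52) (kgi xgi11 ygi45 zgi15) (kgi xgi12 ygi38 zgi47) (kgi xgi24 ygi28 zgi42) (kgi xgi20 ygi30 zgi29) (kgi xgi17 ygi28 zgi44) (kgi xgi29 ygi9 zgi20) (kgi xgi24 ygi26 zgi51) (kgi xgi19 ygi30 zgi26) (kgi xgi19 ygi31 zgi19)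 (kgi xgi11 ygi2 zgi18) (kgi xgi19 ygi30 zgi54) (kgi xgi19 ygi34 zgi13) (kgi xgi26 ygi34 zgi10) (kgi xgi11 ygi32 zgi3) (kgi xgi28 ygi59 zgi23) (kgi xgi11 ygi2 zgi24) (kgi xgi25 ygi5 zgi59) (kgi xgi29 ygi9 zgi30) (kgi xgi26 ygi37 zgi4) (kgi xgi28 ygi53 zgi49) (kgi xgi11 ygi2 zgi27) (kgi xgi25 ygi5 zgi60) (kgi xgi20 ygi49 zgi35) (kgi xgi18 ygi52 zgi57) (kgi xgi19 ygi39 zgi51) (kgi xgi15 ygi35 zgi4) (kgi xgi25 ygi47 zgi40) (kgi xgi11 ygi2 zgi33) (kgi xgi16 ygi4 zgi2) (kgi xgi29 ygi6 zgi16) (kgi xgi26 ygi9 zgi43) (kgi xgi16 ygi49 zgi59) (kgi xgi19 ygi18 zgi35) (kgi xgi15 ygi53 zgi48) (kgi xgi19 ygi54 zgi29) (kgi xgi29 ygi9 zgi36) (kgi xgi11 ygi2 zgi38) (kgi xgi16 ygi49 zgi55)) (@D3.rec (fun _ => Pt) (kgi xgi29 ygi9 zgi40) (kgi xgi24 ygi34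 zgi25) (kgi xgi24 ygi20 zgi6) (kgi xgi19 ygi56 zgi56) (kgi xgi11 ygi2 zgi41) (kgi xgi16 ygi11 zgi45) (kgi xgi25 ygi12 zgi1) (kgi xgi14 ygi37 zgi41) (kgi xgi24 ygi37 zgi20) (kgi xgi19 ygi54 zgi20) (kgi xgi13 ygi59 zgi15) (kgi xgi26 ygi47 zgi36) (kgi xgi26 ygi47 zgi50) (kgi xgi19 ygi47 zgi52) (kgi xgi14 ygi50 zgi41) (kgi xgi11 ygi2 zgi48) (kgi xgi13 ygi59 zgi38) (kgi xgi19 ygi50 zgi2) (kgi xgi11 ygi2 zgi49) (kgi xgi11 ygi4 zgi0) (kgi xgi17 ygi53 zgi51) (kgi xgi11 ygi2 zgi51) (kgi xgi11 ygi4 zgi9) (kgi xgi26 ygi47 zgi19) (kgi xgi26 ygi10 zgi20) (kgi xgi18 ygi52 zgi36) (kgi xgi18 ygi52 zgi22) (kgi xgi11 ygi5 zgi40) (kgi xgi17 ygi43 zgi28) (kgi xgi19 ygi53 zgi55) (kgi xgi29 ygi9 zgi57) (kgi xgi29 ygi9 zgi61) (kgi xgi11 ygi3 zgi1) (kgi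 xgi29 ygi9 zgi59) (kgi xgi29 ygi10 zgi7) (kgi xgi29 ygi9 zgi56) (kgi xgi11 ygi3 zgi2) (kgi xgi26 ygi47 zgi31) (kgi xgi29 ygi10 zgi14) (kgi xgi26 ygi47 zgi28) (kgi xgi19 ygi14 zgi36) (kgi xgi26 ygi6 zgi44) (kgi xgi29 ygi10 zgi21) (kgi xgi26 ygi6 zgi41) (kgi xgi11 ygi3 zgi5) (kgi xgi22 ygi44 zgi47) (kgi xgi26 ygi8 zgi8) (kgi xgi25 ygi14 zgi42) (kgi xgi26 ygi6 zgi37) (kgi xgi18 ygi18 zgi46) (kgi xgi26 ygi6 zgi35) (kgi xgi11 ygi3 zgi11) (kgi xgi16 ygi37 zgi36) (kgi xgi16 ygi37 zgi34) (kgi xgi29 ygi10 zgi37) (kgi xgi11 ygi53 zgi6) (kgi xgi26 ygi41 zgi28) (kgi xgi11 ygi52 zgi17) (kgi xgi25 ygi14 zgi48) (kgi xgi27 ygi35 zgi54) (kgi xgi11 ygi4 zgi16) (kgi xgi26 ygi48 zgi18)) (@D3.rec (fun _ => Pt) (kgi xgi18 ygi3 zgi7) (kgi xgi29 ygi10 zgi44)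 (kgi xgi11 ygi3 zgi18) (kgi xgi26 ygi47 zgi20) (kgi xgi23 ygi33 zgi22) (kgi xgi21 ygi56 zgi50) (kgi xgi11 ygi3 zgi19) (kgi xgi29 ygi10 zgi46) (kgi xgi29 ygi10 zgi58) (kgi xgi27 ygi57 zgi0) (kgi xgi11 ygi3 zgi20) (kgi xgi26 ygi47 zgi13) (kgi xgi29 ygi11 zgi3) (kgi xgi26 ygi6 zgi58) (kgi xgi18 ygi40 zgi22) (kgi xgi11 ygi3 zgi22) (kgi xgi18 ygi40 zgi21) (kgi xgi29 ygi11 zgi7) (kgi xgi26 ygi47 zgi14) (kgi xgi27 ygi43 zgi32) (kgi xgi21 ygi2 zgi26) (kgi xgi24 ygi34 zgi14) (kgi xgi25 ygi9 zgi16) (kgi xgi11 ygi3 zgi53) (kgi xgi18 ygi18 zgi5) (kgi xgi29 ygi11 zgi10) (kgi xgi19 ygi32 zgi49) (kgi xgi26 ygi23 zgi10) (kgi xgi15 ygi42 zgi17) (kgi xgi11 ygi3 zgi28) (kgi xgi24 ygi49 zgi34) (kgi xgi26 ygi9 zgi49) (kgi xgi24 ygi50 zgi42) (kgi xgi11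 ygi3 zgi29) (kgi xgi26 ygi47 zgi40) (kgi xgi16 ygi49 zgi53) (kgi xgi29 ygi11 zgi22) (kgi xgi11 ygi3 zgi30) (kgi xgi29 ygi11 zgi28) (kgi xgi26 ygi1 zgi30) (kgi xgi11 ygi3 zgi31) (kgi xgi26 ygi47 zgi60) (kgi xgi29 ygi11 zgi33) (kgi xgi26 ygi47 zgi57) (kgi xgi11 ygi3 zgi32) (kgi xgi26 ygi6 zgi47) (kgi xgi25 ygi23 zgi18) (kgi xgi24 ygi34 zgi19) (kgi xgi11 ygi3 zgi55) (kgi xgi11 ygi4 zgi3) (kgi xgi26 ygi14 zgi36) (kgi xgi26 ygi9 zgi9) (kgi xgi24 ygi23 zgi43) (kgi xgi11 ygi3 zgi37) (kgi xgi26 ygi47 zgi51) (kgi xgi26 ygi48 zgi39) (kgi xgi29 ygi11 zgi47) (kgi xgi11 ygi3 zgi38) (kgi xgi29 ygi11 zgi52) (kgi xgi11 ygi3 zgi39) (kgi xgi26 ygi47 zgi47) (kgi xgi29 ygi11 zgi57)) (@D3.rec (fun _ => Pt) (kgi xgi26 ygi47 zgi44) (kgi xgi11 ygi3 zgi40)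 (kgi xgi21 ygi2 zgi25) (kgi xgi23 ygi40 zgi34) (kgi xgi19 ygi33 zgi14) (kgi xgi11 ygi3 zgi43) (kgi xgi19 ygi26 zgi35) (kgi xgi25 ygi40 zgi38) (kgi xgi24 ygi47 zgi7) (kgi xgi24 ygi24 zgi3) (kgi xgi13 ygi59 zgi55) (kgi xgi21 ygi2 zgi19) (kgi xgi29 ygi12 zgi7) (kgi xgi21 ygi2 zgi16) (kgi xgi20 ygi31 zgi59) (kgi xgi19 ygi0 zgi18) (kgi xgi11 ygi3 zgi49) (kgi xgi13 ygi54 zgi57) (kgi xgi13 ygi59 zgi24) (kgi xgi23 ygi59 zgi11) (kgi xgi13 ygi36 zgi35) (kgi xgi23 ygi43 zgi36) (kgi xgi22 ygi4 zgi33) (kgi xgi11 ygi3 zgi54) (kgi xgi26 ygi7 zgi10) (kgi xgi16 ygi13 zgi6) (kgi xgi26 ygi25 zgi13) (kgi xgi12 ygi3 zgi30) (kgi xgi11 ygi3 zgi56) (kgi xgi26 ygi7 zgi3) (kgi xgi13 ygi59 zgi41) (kgi xgi23 ygi31 zgi9) (kgi xgi12 ygi34 zgi37) (kgi xgi29 ygi12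 zgi15) (kgi xgi26 ygi54 zgi31) (kgi xgi23 ygi30 zgi54) (kgi xgi14 ygi29 zgi44) (kgi xgi24 ygi31 zgi60) (kgi xgi11 ygi4 zgi5) (kgi xgi23 ygi10 zgi55) (kgi xgi14 ygi52 zgi28) (kgi xgi13 ygi44 zgi8) (kgi xgi13 ygi49 zgi9) (kgi xgi13 ygi59 zgi43) (kgi xgi19 ygi36 zgi58) (kgi xgi13 ygi53 zgi60) (kgi xgi14 ygi9 zgi49) (kgi xgi24 ygi31 zgi61) (kgi xgi19 ygi32 zgi6) (kgi xgi11 ygi4 zgi15) (kgi xgi25 ygi16 zgi52) (kgi xgi17 ygi52 zgi33) (kgi xgi26 ygi58 zgi30) (kgi xgi14 ygi48 zgi58) (kgi xgi29 ygi12 zgi28) (kgi xgi11 ygi4 zgi18) (kgi xgi19 ygi54 zgi0) (kgi xgi25 ygi46 zgi46) (kgi xgi15 ygi53 zgi1) (kgi xgi25 ygi3 zgi14) (kgi xgi27 ygi24 zgi26) (kgi xgi24 ygi58 zgi3)) (@D3.rec (fun _ => Pt) (kgi xgi18 ygi14 zgi12) (kgi xgi22 ygi52 zgi47) (kgi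 xgi29 ygi12 zgi34) (kgi xgi15 ygi18 zgi18) (kgi xgi11 ygi4 zgi30) (kgi xgi11 ygi4 zgi31) (kgi xgi25 ygi6 zgi1) (kgi xgi25 ygi5 zgi61) (kgi xgi15 ygi53 zgi0) (kgi xgi29 ygi12 zgi39) (kgi xgi27 ygi1 zgi36) (kgi xgi11 ygi4 zgi33) (kgi xgi15 ygi23 zgi14) (kgi xgi15 ygi9 zgi14) (kgi xgi11 ygi56 zgi49) (kgi xgi11 ygi4 zgi35) (kgi xgi18 ygi5 zgi44) (kgi xgi18 ygi5 zgi42) (kgi xgi27 ygi24 zgi9) (kgi xgi29 ygi12 zgi45) (kgi xgi24 ygi58 zgi2) (kgi xgi29 ygi12 zgi48) (kgi xgi15 ygi59 zgi36) (kgi xgi29 ygi12 zgi52) (kgi xgi11 ygi4 zgi39) (kgi xgi25 ygi7 zgi13) (kgi xgi11 ygi4 zgi41) (kgi xgi18 ygi20 zgi29) (kgi xgi18 ygi0 zgi44) (kgi xgi19 ygi53 zgi6) (kgi xgi17 ygi14 zgi8) (kgi xgi26 ygi22 zgi34) (kgi xgi20 ygi19 zgi24) (kgi xgi11 ygi4 zgi44)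 (kgi xgi24 ygi32 zgi28) (kgi xgi26 ygi35 zgi56) (kgi xgi25 ygi17 zgi11) (kgi xgi26 ygi3 zgi58) (kgi xgi25 ygi17 zgi60) (kgi xgi28 ygi33 zgi17) (kgi xgi19 ygi39 zgi24) (kgi xgi16 ygi57 zgi15) (kgi xgi16 ygi44 zgi30) (kgi xgi15 ygi0 zgi17) (kgi xgi19 ygi37 zgi19) (kgi xgi19 ygi47 zgi16) (kgi xgi23 ygi8 zgi46) (kgi xgi11 ygi5 zgi0) (kgi xgi19 ygi32 zgi51) (kgi xgi25 ygi22 zgi0) (kgi xgi15 ygi28 zgi9) (kgi xgi29 ygi13 zgi2) (kgi xgi11 ygi5 zgi16) (kgi xgi28 ygi14 zgi21) (kgi xgi11 ygi5 zgi13) (kgi xgi11 ygi5 zgi5) (kgi xgi16 ygi37 zgi9) (kgi xgi16 ygi37 zgi7) (kgi xgi11 ygi54 zgi18) (kgi xgi29 ygi13 zgi11) (kgi xgi28 ygi50 zgi43) (kgi xgi25 ygi37 zgi28)) (@D3.rec (fun _ => Pt) (kgi xgi12 ygi57 zgi50) (kgi xgi15 ygi2 zgi50) (kgi xgi26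 ygi54 zgi15) (kgi xgi15 ygi24 zgi8) (kgi xgi29 ygi13 zgi17) (kgi xgi11 ygi5 zgi11) (kgi xgi29 ygi13 zgi15) (kgi xgi24 ygi52 zgi48) (kgi xgi27 ygi22 zgi50) (kgi xgi11 ygi5 zgi12) (kgi xgi29 ygi9 zgi13) (kgi xgi29 ygi13 zgi26) (kgi xgi29 ygi13 zgi1) (kgi xgi25 ygi37 zgi30) (kgi xgi29 ygi13 zgi30) (kgi xgi25 ygi22 zgi15) (kgi xgi27 ygi38 zgi13) (kgi xgi15 ygi28 zgi11) (kgi xgi11 ygi5 zgi15) (kgi xgi24 ygi51 zgi5) (kgi xgi26 ygi42 zgi41) (kgi xgi29 ygi13 zgi6) (kgi xgi22 ygi7 zgi50) (kgi xgi24 ygi4 zgi34) (kgi xgi29 ygi13 zgi36) (kgi xgi29 ygi2 zgi21) (kgi xgi11 ygi5 zgi23) (kgi xgi26 ygi33 zgi8) (kgi xgi19 ygi50 zgi23) (kgi xgi19 ygi24 zgi54) (kgi xgi19 ygi49 zgi21) (kgi xgi20 ygi4 zgi61) (kgi xgi29 ygi2 zgi49) (kgi xgi11 ygi5 zgi26)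 (kgi xgi19 ygi33 zgi54) (kgi xgi29 ygi13 zgi38) (kgi xgi19 ygi25 zgi6) (kgi xgi29 ygi13 zgi40) (kgi xgi11 ygi5 zgi28) (kgi xgi18 ygi25 zgi11) (kgi xgi21 ygi50 zgi45) (kgi xgi18 ygi25 zgi49) (kgi xgi19 ygi30 zgi43) (kgi xgi25 ygi10 zgi55) (kgi xgi11 ygi5 zgi37) (kgi xgi11 ygi22 zgi39) (kgi xgi15 ygi0 zgi11) (kgi xgi19 ygi14 zgi33) (kgi xgi26 ygi48 zgi22) (kgi xgi19 ygi28 zgi50) (kgi xgi28 ygi50 zgi19) (kgi xgi29 ygi13 zgi50) (kgi xgi11 ygi5 zgi41) (kgi xgi11 ygi5 zgi51) (kgi xgi15 ygi50 zgi16) (kgi xgi26 ygi3 zgi35) (kgi xgi11 ygi5 zgi42) (kgi xgi26 ygi48 zgi32) (kgi xgi29 ygi13 zgi58) (kgi xgi26 ygi48 zgi30) (kgi xgi11 ygi5 zgi43) (kgi xgi11 ygi5 zgi53)) (@D3.rec (fun _ => Pt) (kgi xgi25 ygi45 zgi41) (kgi xgi21 ygi53 zgi30) (kgi xgi28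 ygi54 zgi56) (kgi xgi11 ygi21 zgi29) (kgi xgi16 ygi48 zgi16) (kgi xgi26 ygi52 zgi34) (kgi xgi17 ygi51 zgi51) (kgi xgi18 ygi1 zgi0) (kgi xgi19 ygi47 zgi54) (kgi xgi23 ygi21 zgi41) (kgi xgi11 ygi5 zgi52) (kgi xgi21 ygi2 zgi34) (kgi xgi29 ygi14 zgi6) (kgi xgi26 ygi48 zgi25) (kgi xgi11 ygi15 zgi0) (kgi xgi26 ygi46 zgi33) (kgi xgi17 ygi13 zgi1) (kgi xgi11 ygi21 zgi49) (kgi xgi18 ygi37 zgi51) (kgi xgi20 ygi41 zgi42) (kgi xgi24 ygi49 zgi54) (kgi xgi26 ygi53 zgi39) (kgi xgi19 ygi11 zgi12) (kgi xgi25 ygi13 zgi45) (kgi xgi29 ygi14 zgi17) (kgi xgi25 ygi37 zgi36) (kgi xgi11 ygi6 zgi1) (kgi xgi25 ygi21 zgi23) (kgi xgi11 ygi6 zgi2) (kgi xgi27 ygi38 zgi11) (kgi xgi26 ygi41 zgi22) (kgi xgi19 ygi13 zgi31) (kgi xgi24 ygi49 zgi53) (kgi xgi27 ygi38 zgi14)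 (kgi xgi16 ygi37 zgi11) (kgi xgi28 ygi18 zgi45) (kgi xgi16 ygi23 zgi53) (kgi xgi11 ygi23 zgi9) (kgi xgi11 ygi6 zgi13) (kgi xgi26 ygi5 zgi23) (kgi xgi23 ygi35 zgi53) (kgi xgi11 ygi13 zgi33) (kgi xgi15 ygi23 zgi35) (kgi xgi19 ygi1 zgi47) (kgi xgi23 ygi34 zgi8) (kgi xgi26 ygi12 zgi26) (kgi xgi29 ygi14 zgi32) (kgi xgi16 ygi21 zgi17) (kgi xgi11 ygi6 zgi22) (kgi xgi11 ygi6 zgi21) (kgi xgi27 ygi9 zgi33) (kgi xgi28 ygi43 zgi34) (kgi xgi16 ygi53 zgi53) (kgi xgi29 ygi14 zgi37) (kgi xgi26 ygi12 zgi58) (kgi xgi16 ygi53 zgi32) (kgi xgi20 ygi9 zgi39) (kgi xgi12 ygi58 zgi18) (kgi xgi11 ygi6 zgi29) (kgi xgi20 ygi12 zgi39) (kgi xgi20 ygi0 zgi42) (kgi xgi16 ygi47 zgi22))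
def fi_g_20 : D2 → D3 → Pt := @D2.rec (fun _ => D3 → Pt) (@D3.rec (fun _ => Pt) (kgi xgi15 ygi0 zgi0) (kgi xgi16 ygi4 zgi14) (kgi xgi17 ygi54 zgi54) (kgi xgi21 ygi57 zgi45) (kgi xgi26 ygi17 zgi37) (kgi xgi29 ygi14 zgi40) (kgi xgi11 ygi6 zgi47) (kgi xgi11 ygi6 zgi58) (kgi xgi17 ygi15 zgi42) (kgi xgi23 ygi49 zgi59) (kgi xgi25 ygi23 zgi51) (kgi xgi11 ygi6 zgi52) (kgi xgi18 ygi20 zgi44) (kgi xgi20 ygi5 zgi57) (kgi xgi17 ygi33 zgi8) (kgi xgi20 ygi9 zgi7) (kgi xgi11 ygi24 zgi16) (kgi xgi12 ygi9 zgi22) (kgi xgi14 ygi50 zgi2) (kgi xgi20 ygi5 zgi60) (kgi xgi24 ygi53 zgi12) (kgi xgi20 ygi6 zgi45) (kgi xgi15 ygi56 zgi38) (kgi xgi11 ygi7 zgi6) (kgi xgi27 ygi13 zgi56) (kgi xgi17 ygi30 zgi2) (kgi xgi11 ygi7 zgi8) (kgi xgi11 ygi47 zgi17) (kgi xgi13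 ygi38 zgi40) (kgi xgi16 ygi51 zgi21) (kgi xgi17 ygi2 zgi34) (kgi xgi24 ygi54 zgi28) (kgi xgi16 ygi51 zgi25) (kgi xgi16 ygi51 zgi46) (kgi xgi20 ygi6 zgi2) (kgi xgi11 ygi7 zgi21) (kgi xgi11 ygi7 zgi16) (kgi xgi20 ygi27 zgi52) (kgi xgi11 ygi7 zgi18) (kgi xgi25 ygi47 zgi7) (kgi xgi20 ygi6 zgi43) (kgi xgi11 ygi7 zgi19) (kgi xgi21 ygi15 zgi19) (kgi xgi20 ygi6 zgi17) (kgi xgi20 ygi6 zgi15) (kgi xgi20 ygi29 zgi61) (kgi xgi29 ygi14 zgi45) (kgi xgi13 ygi49 zgi31) (kgi xgi11 ygi7 zgi22) (kgi xgi20 ygi6 zgi9) (kgi xgi18 ygi36 zgi28) (kgi xgi20 ygi6 zgi6) (kgi xgi11 ygi7 zgi24) (kgi xgi24 ygi53 zgi13) (kgi xgi18 ygi25 zgi10) (kgi xgi24 ygi53 zgi18) (kgi xgi11 ygi7 zgi32) (kgi xgi29 ygi14 zgi48) (kgi xgi27 ygi20 zgi19) (kgi xgi14 ygi59 zgi38) (kgi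 xgi14 ygi59 zgi39) (kgi xgi29 ygi11 zgi39)) (@D3.rec (fun _ => Pt) (kgi xgi22 ygi56 zgi58) (kgi xgi11 ygi7 zgi42) (kgi xgi11 ygi57 zgi47) (kgi xgi11 ygi7 zgi36) (kgi xgi25 ygi23 zgi37) (kgi xgi26 ygi57 zgi33) (kgi xgi26 ygi48 zgi45) (kgi xgi11 ygi7 zgi46) (kgi xgi23 ygi3 zgi60) (kgi xgi16 ygi54 zgi44) (kgi xgi11 ygi7 zgi41) (kgi xgi12 ygi9 zgi6) (kgi xgi23 ygi33 zgi20) (kgi xgi21 ygi38 zgi11) (kgi xgi21 ygi28 zgi43) (kgi xgi11 ygi7 zgi43) (kgi xgi20 ygi32 zgi14) (kgi xgi20 ygi22 zgi31) (kgi xgi18 ygi19 zgi4) (kgi xgi16 ygi31 zgi4) (kgi xgi24 ygi53 zgi20) (kgi xgi27 ygi3 zgi30) (kgi xgi20 ygi32 zgi6) (kgi xgi23 ygi13 zgi47) (kgi xgi28 ygi10 zgi59) (kgi xgi19 ygi48 zgi19) (kgi xgi24 ygi7 zgi37) (kgi xgi16 ygi54 zgi46) (kgi xgi16 ygi56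 zgi1) (kgi xgi26 ygi35 zgi38) (kgi xgi27 ygi20 zgi12) (kgi xgi18 ygi49 zgi32) (kgi xgi28 ygi51 zgi22) (kgi xgi16 ygi54 zgi59) (kgi xgi20 ygi59 zgi25) (kgi xgi27 ygi41 zgi10) (kgi xgi12 ygi9 zgi7) (kgi xgi28 ygi51 zgi44) (kgi xgi13 ygi43 zgi58) (kgi xgi19 ygi53 zgi8) (kgi xgi18 ygi25 zgi7) (kgi xgi11 ygi8 zgi9) (kgi xgi29 ygi15 zgi6) (kgi xgi20 ygi49 zgi59) (kgi xgi19 ygi56 zgi34) (kgi xgi26 ygi53 zgi26) (kgi xgi23 ygi55 zgi44) (kgi xgi29 ygi15 zgi12) (kgi xgi25 ygi21 zgi56) (kgi xgi19 ygi59 zgi25) (kgi xgi11 ygi8 zgi13) (kgi xgi20 ygi1 zgi52) (kgi xgi20 ygi1 zgi50) (kgi xgi29 ygi15 zgi19) (kgi xgi16 ygi58 zgi57) (kgi xgi29 ygi15 zgi22) (kgi xgi20 ygi54 zgi35) (kgi xgi27 ygi21 zgi34) (kgi xgi23 ygi9 zgi52) (kgi xgi29 ygi15 zgi25) (kgi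 xgi11 ygi8 zgi25) (kgi xgi13 ygi28 zgi24)) (@D3.rec (fun _ => Pt) (kgi xgi20 ygi51 zgi49) (kgi xgi12 ygi37 zgi48) (kgi xgi18 ygi43 zgi20) (kgi xgi21 ygi26 zgi38) (kgi xgi26 ygi3 zgi56) (kgi xgi18 ygi43 zgi18) (kgi xgi17 ygi2 zgi22) (kgi xgi11 ygi25 zgi42) (kgi xgi17 ygi19 zgi20) (kgi xgi25 ygi13 zgi42) (kgi xgi11 ygi9 zgi52) (kgi xgi15 ygi18 zgi8) (kgi xgi11 ygi10 zgi3) (kgi xgi25 ygi15 zgi28) (kgi xgi29 ygi15 zgi32) (kgi xgi11 ygi8 zgi42) (kgi xgi29 ygi15 zgi34) (kgi xgi29 ygi15 zgi41) (kgi xgi29 ygi15 zgi31) (kgi xgi15 ygi18 zgi1) (kgi xgi29 ygi12 zgi31) (kgi xgi27 ygi30 zgi15) (kgi xgi27 ygi38 zgi58) (kgi xgi15 ygi16 zgi16) (kgi xgi11 ygi8 zgi45) (kgi xgi25 ygi14 zgi14) (kgi xgi29 ygi15 zgi50) (kgi xgi25 ygi14 zgi12) (kgi xgi17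 ygi44 zgi58) (kgi xgi21 ygi2 zgi1) (kgi xgi29 ygi15 zgi55) (kgi xgi11 ygi8 zgi51) (kgi xgi29 ygi15 zgi57) (kgi xgi29 ygi16 zgi3) (kgi xgi24 ygi36 zgi33) (kgi xgi15 ygi18 zgi47) (kgi xgi25 ygi18 zgi3) (kgi xgi26 ygi4 zgi54) (kgi xgi25 ygi18 zgi0) (kgi xgi11 ygi8 zgi54) (kgi xgi25 ygi48 zgi53) (kgi xgi25 ygi6 zgi45) (kgi xgi25 ygi14 zgi61) (kgi xgi25 ygi6 zgi47) (kgi xgi25 ygi14 zgi19) (kgi xgi12 ygi41 zgi33) (kgi xgi15 ygi53 zgi18) (kgi xgi26 ygi4 zgi49) (kgi xgi11 ygi8 zgi61) (kgi xgi12 ygi41 zgi49) (kgi xgi12 ygi42 zgi9) (kgi xgi21 ygi21 zgi30) (kgi xgi11 ygi9 zgi0) (kgi xgi25 ygi6 zgi34) (kgi xgi29 ygi16 zgi22) (kgi xgi25 ygi8 zgi42) (kgi xgi25 ygi14 zgi54) (kgi xgi11 ygi9 zgi20) (kgi xgi11 ygi9 zgi8) (kgi xgi25 ygi9 zgi6) (kgi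 xgi29 ygi16 zgi27) (kgi xgi11 ygi9 zgi5)) (@D3.rec (fun _ => Pt) (kgi xgi29 ygi16 zgi29) (kgi xgi25 ygi56 zgi2) (kgi xgi29 ygi16 zgi26) (kgi xgi11 ygi9 zgi6) (kgi xgi27 ygi24 zgi7) (kgi xgi25 ygi8 zgi29) (kgi xgi25 ygi7 zgi61) (kgi xgi29 ygi16 zgi37) (kgi xgi19 ygi33 zgi23) (kgi xgi11 ygi9 zgi10) (kgi xgi23 ygi30 zgi5) (kgi xgi15 ygi29 zgi52) (kgi xgi11 ygi9 zgi11) (kgi xgi19 ygi30 zgi8) (kgi xgi29 ygi16 zgi42) (kgi xgi21 ygi57 zgi54) (kgi xgi25 ygi55 zgi51) (kgi xgi25 ygi14 zgi17) (kgi xgi11 ygi9 zgi13) (kgi xgi11 ygi9 zgi16) (kgi xgi29 ygi16 zgi35) (kgi xgi19 ygi47 zgi11) (kgi xgi20 ygi15 zgi22) (kgi xgi24 ygi12 zgi22) (kgi xgi29 ygi16 zgi51) (kgi xgi11 ygi9 zgi17) (kgi xgi15 ygi21 zgi10) (kgi xgi19 ygi46 zgi19) (kgi xgi26 ygi11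 zgi4) (kgi xgi11 ygi9 zgi18) (kgi xgi11 ygi9 zgi21) (kgi xgi29 ygi16 zgi59) (kgi xgi29 ygi9 zgi34) (kgi xgi24 ygi20 zgi34) (kgi xgi24 ygi11 zgi19) (kgi xgi23 ygi55 zgi38) (kgi xgi29 ygi16 zgi58) (kgi xgi29 ygi17 zgi0) (kgi xgi16 ygi8 zgi23) (kgi xgi15 ygi21 zgi49) (kgi xgi11 ygi9 zgi24) (kgi xgi25 ygi15 zgi18) (kgi xgi27 ygi27 zgi24) (kgi xgi25 ygi15 zgi15) (kgi xgi19 ygi30 zgi11) (kgi xgi11 ygi9 zgi28) (kgi xgi25 ygi13 zgi50) (kgi xgi29 ygi17 zgi5) (kgi xgi28 ygi30 zgi26) (kgi xgi11 ygi9 zgi29) (kgi xgi11 ygi9 zgi32) (kgi xgi29 ygi16 zgi57) (kgi xgi18 ygi52 zgi54) (kgi xgi25 ygi15 zgi22) (kgi xgi25 ygi15 zgi21) (kgi xgi29 ygi17 zgi13) (kgi xgi29 ygi16 zgi55) (kgi xgi29 ygi17 zgi18) (kgi xgi17 ygi54 zgi0) (kgi xgi17 ygi39 zgi24) (kgi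 xgi15 ygi22 zgi8) (kgi xgi26 ygi18 zgi8)) (@D3.rec (fun _ => Pt) (kgi xgi17 ygi39 zgi22) (kgi xgi25 ygi32 zgi49) (kgi xgi16 ygi15 zgi38) (kgi xgi17 ygi39 zgi32) (kgi xgi29 ygi17 zgi23) (kgi xgi17 ygi39 zgi30) (kgi xgi11 ygi9 zgi40) (kgi xgi12 ygi49 zgi3) (kgi xgi17 ygi37 zgi49) (kgi xgi27 ygi25 zgi1) (kgi xgi29 ygi17 zgi28) (kgi xgi25 ygi3 zgi40) (kgi xgi16 ygi15 zgi31) (kgi xgi15 ygi54 zgi2) (kgi xgi17 ygi45 zgi30) (kgi xgi18 ygi4 zgi33) (kgi xgi11 ygi9 zgi47) (kgi xgi25 ygi15 zgi49) (kgi xgi25 ygi15 zgi47) (kgi xgi12 ygi55 zgi3) (kgi xgi15 ygi17 zgi61) (kgi xgi15 ygi18 zgi45) (kgi xgi25 ygi5 zgi9) (kgi xgi29 ygi17 zgi30) (kgi xgi29 ygi15 zgi37) (kgi xgi11 ygi9 zgi54) (kgi xgi26 ygi46 zgi57) (kgi xgi23 ygi38 zgi55) (kgi xgi26 ygi46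 zgi54) (kgi xgi11 ygi10 zgi5) (kgi xgi17 ygi13 zgi7) (kgi xgi11 ygi57 zgi58) (kgi xgi11 ygi10 zgi18) (kgi xgi26 ygi27 zgi13) (kgi xgi19 ygi42 zgi32) (kgi xgi28 ygi55 zgi14) (kgi xgi16 ygi3 zgi16) (kgi xgi19 ygi50 zgi26) (kgi xgi26 ygi27 zgi14) (kgi xgi19 ygi27 zgi1) (kgi xgi25 ygi40 zgi41) (kgi xgi29 ygi17 zgi40) (kgi xgi24 ygi36 zgi32) (kgi xgi29 ygi17 zgi45) (kgi xgi12 ygi49 zgi40) (kgi xgi20 ygi5 zgi61) (kgi xgi15 ygi7 zgi56) (kgi xgi16 ygi46 zgi12) (kgi xgi19 ygi49 zgi56) (kgi xgi11 ygi20 zgi20) (kgi xgi11 ygi15 zgi12) (kgi xgi25 ygi40 zgi43) (kgi xgi26 ygi37 zgi32) (kgi xgi20 ygi14 zgi12) (kgi xgi19 ygi24 zgi58) (kgi xgi28 ygi57 zgi13) (kgi xgi19 ygi45 zgi28) (kgi xgi29 ygi17 zgi50) (kgi xgi11 ygi10 zgi16) (kgi xgi20 ygi4 zgi56)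 (kgi xgi16 ygi47 zgi33) (kgi xgi16 ygi58 zgi50)) (@D3.rec (fun _ => Pt) (kgi xgi29 ygi0 zgi57) (kgi xgi20 ygi4 zgi59) (kgi xgi19 ygi38 zgi33) (kgi xgi28 ygi1 zgi23) (kgi xgi22 ygi3 zgi19) (kgi xgi20 ygi23 zgi14) (kgi xgi29 ygi17 zgi54) (kgi xgi24 ygi50 zgi24) (kgi xgi24 ygi19 zgi8) (kgi xgi26 ygi48 zgi37) (kgi xgi18 ygi33 zgi30) (kgi xgi29 ygi13 zgi10) (kgi xgi19 ygi32 zgi59) (kgi xgi27 ygi22 zgi53) (kgi xgi11 ygi10 zgi32) (kgi xgi24 ygi50 zgi29) (kgi xgi25 ygi26 zgi35) (kgi xgi29 ygi18 zgi2) (kgi xgi11 ygi10 zgi33) (kgi xgi15 ygi27 zgi54) (kgi xgi19 ygi4 zgi47) (kgi xgi11 ygi54 zgi58) (kgi xgi19 ygi40 zgi28) (kgi xgi11 ygi10 zgi37) (kgi xgi12 ygi57 zgi51) (kgi xgi26 ygi9 zgi51) (kgi xgi15 ygi30 zgi21) (kgi xgi16 ygi45 zgi17) (kgi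 xgi20 ygi51 zgi54) (kgi xgi17 ygi33 zgi59) (kgi xgi24 ygi52 zgi16) (kgi xgi21 ygi22 zgi51) (kgi xgi29 ygi18 zgi9) (kgi xgi17 ygi30 zgi20) (kgi xgi11 ygi10 zgi51) (kgi xgi11 ygi24 zgi37) (kgi xgi12 ygi33 zgi2) (kgi xgi18 ygi2 zgi16) (kgi xgi11 ygi10 zgi55) (kgi xgi11 ygi11 zgi9) (kgi xgi11 ygi19 zgi13) (kgi xgi11 ygi10 zgi58) (kgi xgi16 ygi28 zgi17) (kgi xgi26 ygi46 zgi60) (kgi xgi26 ygi4 zgi2) (kgi xgi12 ygi45 zgi14) (kgi xgi20 ygi21 zgi56) (kgi xgi28 ygi9 zgi12) (kgi xgi11 ygi11 zgi3) (kgi xgi26 ygi47 zgi1) (kgi xgi26 ygi47 zgi0) (kgi xgi21 ygi20 zgi43) (kgi xgi21 ygi13 zgi14) (kgi xgi23 ygi30 zgi41) (kgi xgi14 ygi8 zgi0) (kgi xgi11 ygi11 zgi17) (kgi xgi26 ygi32 zgi56) (kgi xgi27 ygi13 zgi26) (kgi xgi11 ygi11 zgi26) (kgi xgi27 ygi42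 zgi15) (kgi xgi20 ygi22 zgi15) (kgi xgi23 ygi3 zgi30)) (@D3.rec (fun _ => Pt) (kgi xgi11 ygi11 zgi28) (kgi xgi13 ygi26 zgi61) (kgi xgi15 ygi6 zgi33) (kgi xgi16 ygi11 zgi60) (kgi xgi18 ygi41 zgi22) (kgi xgi23 ygi18 zgi35) (kgi xgi11 ygi11 zgi30) (kgi xgi20 ygi0 zgi51) (kgi xgi24 ygi54 zgi6) (kgi xgi20 ygi0 zgi48) (kgi xgi12 ygi8 zgi3) (kgi xgi19 ygi20 zgi46) (kgi xgi17 ygi19 zgi7) (kgi xgi11 ygi11 zgi34) (kgi xgi20 ygi0 zgi2) (kgi xgi11 ygi11 zgi35) (kgi xgi20 ygi0 zgi44) (kgi xgi19 ygi51 zgi9) (kgi xgi26 ygi24 zgi58) (kgi xgi11 ygi33 zgi0) (kgi xgi11 ygi11 zgi37) (kgi xgi13 ygi27 zgi37) (kgi xgi11 ygi11 zgi40) (kgi xgi12 ygi7 zgi54) (kgi xgi14 ygi59 zgi56) (kgi xgi17 ygi55 zgi11) (kgi xgi23 ygi32 zgi6) (kgi xgi16 ygi31 zgi5) (kgi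 xgi28 ygi28 zgi15) (kgi xgi24 ygi12 zgi55) (kgi xgi19 ygi47 zgi37) (kgi xgi11 ygi11 zgi48) (kgi xgi16 ygi30 zgi24) (kgi xgi11 ygi11 zgi49) (kgi xgi22 ygi32 zgi27) (kgi xgi18 ygi49 zgi17) (kgi xgi16 ygi53 zgi61) (kgi xgi12 ygi49 zgi32) (kgi xgi11 ygi11 zgi53) (kgi xgi20 ygi54 zgi55) (kgi xgi11 ygi12 zgi46) (kgi xgi26 ygi0 zgi18) (kgi xgi13 ygi54 zgi50) (kgi xgi20 ygi0 zgi37) (kgi xgi24 ygi52 zgi36) (kgi xgi20 ygi0 zgi25) (kgi xgi20 ygi8 zgi60) (kgi xgi20 ygi27 zgi49) (kgi xgi14 ygi46 zgi32) (kgi xgi28 ygi13 zgi58) (kgi xgi11 ygi22 zgi45) (kgi xgi14 ygi46 zgi33) (kgi xgi16 ygi7 zgi43) (kgi xgi16 ygi30 zgi32) (kgi xgi12 ygi26 zgi19) (kgi xgi20 ygi34 zgi35) (kgi xgi22 ygi2 zgi33) (kgi xgi24 ygi47 zgi24) (kgi xgi11 ygi12 zgi22) (kgi xgi12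 ygi8 zgi60) (kgi xgi13 ygi2 zgi30) (kgi xgi11 ygi12 zgi26)) (@D3.rec (fun _ => Pt) (kgi xgi11 ygi59 zgi23) (kgi xgi11 ygi59 zgi21) (kgi xgi11 ygi47 zgi2) (kgi xgi26 ygi45 zgi48) (kgi xgi20 ygi21 zgi54) (kgi xgi29 ygi18 zgi29) (kgi xgi29 ygi18 zgi32) (kgi xgi11 ygi12 zgi34) (kgi xgi26 ygi19 zgi1) (kgi xgi25 ygi28 zgi37) (kgi xgi11 ygi19 zgi55) (kgi xgi11 ygi19 zgi56) (kgi xgi11 ygi12 zgi50) (kgi xgi24 ygi35 zgi5) (kgi xgi19 ygi49 zgi54) (kgi xgi22 ygi7 zgi58) (kgi xgi12 ygi10 zgi54) (kgi xgi19 ygi24 zgi21) (kgi xgi11 ygi12 zgi52) (kgi xgi19 ygi26 zgi61) (kgi xgi20 ygi5 zgi55) (kgi xgi16 ygi52 zgi59) (kgi xgi11 ygi13 zgi24) (kgi xgi16 ygi35 zgi37) (kgi xgi16 ygi52 zgi57) (kgi xgi11 ygi12 zgi57) (kgi xgi11 ygi13 zgi36) (kgi xgi13 ygi42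 zgi20) (kgi xgi16 ygi53 zgi10) (kgi xgi11 ygi13 zgi10) (kgi xgi11 ygi14 zgi3) (kgi xgi20 ygi28 zgi45) (kgi xgi11 ygi12 zgi61) (kgi xgi26 ygi27 zgi12) (kgi xgi26 ygi49 zgi39) (kgi xgi11 ygi20 zgi48) (kgi xgi21 ygi51 zgi26) (kgi xgi11 ygi13 zgi1) (kgi xgi26 ygi45 zgi40) (kgi xgi14 ygi29 zgi34) (kgi xgi19 ygi34 zgi37) (kgi xgi14 ygi58 zgi47) (kgi xgi28 ygi26 zgi15) (kgi xgi17 ygi2 zgi49) (kgi xgi24 ygi53 zgi10) (kgi xgi24 ygi56 zgi36) (kgi xgi26 ygi32 zgi24) (kgi xgi11 ygi13 zgi8) (kgi xgi28 ygi14 zgi29) (kgi xgi28 ygi1 zgi20) (kgi xgi28 ygi26 zgi21) (kgi xgi11 ygi13 zgi15) (kgi xgi26 ygi44 zgi47) (kgi xgi29 ygi15 zgi2) (kgi xgi29 ygi18 zgi53) (kgi xgi11 ygi14 zgi8) (kgi xgi20 ygi32 zgi52) (kgi xgi11 ygi14 zgi5) (kgi xgi16 ygi57 zgi10)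 (kgi xgi26 ygi32 zgi40) (kgi xgi11 ygi13 zgi27) (kgi xgi27 ygi40 zgi37)) (@D3.rec (fun _ => Pt) (kgi xgi20 ygi28 zgi46) (kgi xgi12 ygi8 zgi47) (kgi xgi26 ygi21 zgi23) (kgi xgi16 ygi23 zgi4) (kgi xgi16 ygi23 zgi5) (kgi xgi11 ygi13 zgi30) (kgi xgi11 ygi13 zgi32) (kgi xgi20 ygi21 zgi1) (kgi xgi23 ygi8 zgi59) (kgi xgi18 ygi58 zgi34) (kgi xgi23 ygi8 zgi57) (kgi xgi26 ygi29 zgi33) (kgi xgi26 ygi49 zgi48) (kgi xgi26 ygi49 zgi47) (kgi xgi18 ygi21 zgi56) (kgi xgi16 ygi56 zgi25) (kgi xgi18 ygi58 zgi40) (kgi xgi11 ygi13 zgi35) (kgi xgi26 ygi49 zgi51) (kgi xgi26 ygi49 zgi49) (kgi xgi26 ygi24 zgi19) (kgi xgi16 ygi23 zgi34) (kgi xgi18 ygi22 zgi19) (kgi xgi16 ygi21 zgi15) (kgi xgi14 ygi58 zgi49) (kgi xgi29 ygi19 zgi4) (kgi xgi27 ygi22 zgi1) (kgi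 xgi26 ygi28 zgi9) (kgi xgi11 ygi13 zgi45) (kgi xgi29 ygi19 zgi5) (kgi xgi24 ygi47 zgi25) (kgi xgi19 ygi50 zgi40) (kgi xgi17 ygi6 zgi15) (kgi xgi11 ygi13 zgi50) (kgi xgi20 ygi52 zgi0) (kgi xgi15 ygi5 zgi32) (kgi xgi16 ygi32 zgi21) (kgi xgi21 ygi13 zgi18) (kgi xgi11 ygi48 zgi16) (kgi xgi28 ygi1 zgi36) (kgi xgi12 ygi22 zgi19) (kgi xgi16 ygi33 zgi22) (kgi xgi22 ygi9 zgi55) (kgi xgi11 ygi36 zgi48) (kgi xgi28 ygi24 zgi39) (kgi xgi29 ygi19 zgi15) (kgi xgi18 ygi23 zgi51) (kgi xgi11 ygi13 zgi60) (kgi xgi21 ygi15 zgi15) (kgi xgi21 ygi15 zgi13) (kgi xgi26 ygi32 zgi0) (kgi xgi26 ygi55 zgi31) (kgi xgi27 ygi5 zgi37) (kgi xgi21 ygi15 zgi8) (kgi xgi20 ygi30 zgi21) (kgi xgi26 ygi55 zgi49) (kgi xgi20 ygi8 zgi57) (kgi xgi11 ygi14 zgi4) (kgi xgi20 ygi8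 zgi56) (kgi xgi29 ygi18 zgi52) (kgi xgi15 ygi3 zgi58) (kgi xgi21 ygi54 zgi39)) (@D3.rec (fun _ => Pt) (kgi xgi24 ygi5 zgi30) (kgi xgi24 ygi47 zgi26) (kgi xgi11 ygi14 zgi7) (kgi xgi29 ygi18 zgi55) (kgi xgi29 ygi18 zgi54) (kgi xgi11 ygi14 zgi9) (kgi xgi11 ygi14 zgi12) (kgi xgi12 ygi55 zgi23) (kgi xgi19 ygi27 zgi22) (kgi xgi16 ygi32 zgi5) (kgi xgi19 ygi58 zgi46) (kgi xgi20 ygi0 zgi15) (kgi xgi19 ygi39 zgi44) (kgi xgi12 ygi5 zgi46) (kgi xgi14 ygi58 zgi44) (kgi xgi29 ygi19 zgi33) (kgi xgi11 ygi14 zgi20) (kgi xgi27 ygi43 zgi49) (kgi xgi22 ygi8 zgi1) (kgi xgi21 ygi36 zgi1) (kgi xgi11 ygi14 zgi21) (kgi xgi27 ygi22 zgi0) (kgi xgi11 ygi14 zgi23) (kgi xgi21 ygi30 zgi37) (kgi xgi21 ygi30 zgi33) (kgi xgi20 ygi59 zgi54) (kgi xgi12 ygi10 zgi48)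 (kgi xgi11 ygi16 zgi2) (kgi xgi17 ygi22 zgi33) (kgi xgi21 ygi51 zgi59) (kgi xgi18 ygi16 zgi45) (kgi xgi11 ygi14 zgi33) (kgi xgi11 ygi17 zgi4) (kgi xgi22 ygi46 zgi31) (kgi xgi11 ygi14 zgi37) (kgi xgi29 ygi19 zgi39) (kgi xgi18 ygi21 zgi29) (kgi xgi17 ygi9 zgi53) (kgi xgi11 ygi17 zgi9) (kgi xgi26 ygi49 zgi31) (kgi xgi13 ygi58 zgi51) (kgi xgi14 ygi50 zgi21) (kgi xgi11 ygi17 zgi14) (kgi xgi12 ygi52 zgi55) (kgi xgi11 ygi14 zgi44) (kgi xgi11 ygi14 zgi45) (kgi xgi21 ygi37 zgi17) (kgi xgi20 ygi12 zgi35) (kgi xgi17 ygi56 zgi50) (kgi xgi11 ygi14 zgi48) (kgi xgi14 ygi49 zgi6) (kgi xgi16 ygi33 zgi39) (kgi xgi14 ygi15 zgi54) (kgi xgi17 ygi30 zgi61) (kgi xgi22 ygi2 zgi53) (kgi xgi20 ygi9 zgi43) (kgi xgi11 ygi14 zgi58) (kgi xgi11 ygi14 zgi60) (kgi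 xgi11 ygi23 zgi61) (kgi xgi21 ygi15 zgi16) (kgi xgi11 ygi19 zgi7) (kgi xgi11 ygi14 zgi61)) (@D3.rec (fun _ => Pt) (kgi xgi17 ygi59 zgi39) (kgi xgi16 ygi19 zgi31) (kgi xgi29 ygi19 zgi47) (kgi xgi11 ygi15 zgi42) (kgi xgi11 ygi23 zgi51) (kgi xgi16 ygi52 zgi8) (kgi xgi11 ygi15 zgi9) (kgi xgi24 ygi28 zgi2) (kgi xgi26 ygi48 zgi61) (kgi xgi29 ygi19 zgi53) (kgi xgi29 ygi19 zgi56) (kgi xgi11 ygi15 zgi10) (kgi xgi11 ygi15 zgi16) (kgi xgi11 ygi16 zgi5) (kgi xgi29 ygi20 zgi0) (kgi xgi11 ygi15 zgi11) (kgi xgi11 ygi22 zgi21) (kgi xgi22 ygi56 zgi47) (kgi xgi29 ygi20 zgi6) (kgi xgi29 ygi20 zgi8) (kgi xgi11 ygi15 zgi14) (kgi xgi19 ygi2 zgi29) (kgi xgi23 ygi24 zgi14) (kgi xgi11 ygi15 zgi17) (kgi xgi19 ygi26 zgi40) (kgi xgi11 ygi15 zgi20) (kgi xgi26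 ygi45 zgi30) (kgi xgi13 ygi36 zgi4) (kgi xgi21 ygi14 zgi2) (kgi xgi18 ygi34 zgi34) (kgi xgi20 ygi21 zgi39) (kgi xgi29 ygi20 zgi18) (kgi xgi29 ygi20 zgi20) (kgi xgi11 ygi16 zgi14) (kgi xgi11 ygi36 zgi44) (kgi xgi16 ygi22 zgi39) (kgi xgi18 ygi56 zgi8) (kgi xgi15 ygi4 zgi27) (kgi xgi11 ygi15 zgi30) (kgi xgi11 ygi15 zgi32) (kgi xgi25 ygi46 zgi6) (kgi xgi29 ygi20 zgi26) (kgi xgi11 ygi15 zgi31) (kgi xgi15 ygi5 zgi59) (kgi xgi29 ygi20 zgi28) (kgi xgi27 ygi49 zgi42) (kgi xgi28 ygi8 zgi53) (kgi xgi11 ygi15 zgi33) (kgi xgi26 ygi17 zgi27) (kgi xgi26 ygi17 zgi25) (kgi xgi18 ygi20 zgi1) (kgi xgi11 ygi15 zgi37) (kgi xgi19 ygi17 zgi58) (kgi xgi27 ygi52 zgi50) (kgi xgi27 ygi53 zgi54) (kgi xgi11 ygi15 zgi36) (kgi xgi26 ygi18 zgi35) (kgi xgi24 ygi57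 zgi38) (kgi xgi27 ygi53 zgi48) (kgi xgi26 ygi19 zgi61) (kgi xgi11 ygi15 zgi38) (kgi xgi18 ygi19 zgi56)) (@D3.rec (fun _ => Pt) (kgi xgi29 ygi20 zgi42) (kgi xgi16 ygi19 zgi35) (kgi xgi29 ygi20 zgi37) (kgi xgi17 ygi51 zgi5) (kgi xgi16 ygi56 zgi9) (kgi xgi18 ygi32 zgi19) (kgi xgi11 ygi15 zgi41) (kgi xgi26 ygi15 zgi26) (kgi xgi26 ygi15 zgi36) (kgi xgi29 ygi20 zgi50) (kgi xgi17 ygi54 zgi17) (kgi xgi29 ygi20 zgi53) (kgi xgi11 ygi15 zgi43) (kgi xgi18 ygi9 zgi7) (kgi xgi29 ygi21 zgi0) (kgi xgi27 ygi53 zgi52) (kgi xgi28 ygi26 zgi27) (kgi xgi22 ygi49 zgi55) (kgi xgi18 ygi9 zgi18) (kgi xgi24 ygi57 zgi35) (kgi xgi18 ygi48 zgi43) (kgi xgi26 ygi49 zgi10) (kgi xgi21 ygi54 zgi53) (kgi xgi11 ygi16 zgi12) (kgi xgi11 ygi15 zgi50) (kgi xgi20 ygi21 zgi45)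 (kgi xgi20 ygi21 zgi43) (kgi xgi29 ygi21 zgi14) (kgi xgi23 ygi4 zgi18) (kgi xgi11 ygi15 zgi51) (kgi xgi11 ygi15 zgi56) (kgi xgi29 ygi21 zgi20) (kgi xgi11 ygi15 zgi52) (kgi xgi26 ygi49 zgi14) (kgi xgi28 ygi54 zgi34) (kgi xgi26 ygi49 zgi12) (kgi xgi11 ygi15 zgi61) (kgi xgi12 ygi10 zgi47) (kgi xgi11 ygi15 zgi55) (kgi xgi26 ygi49 zgi11) (kgi xgi18 ygi48 zgi57) (kgi xgi28 ygi24 zgi2) (kgi xgi28 ygi23 zgi26) (kgi xgi11 ygi15 zgi57) (kgi xgi12 ygi3 zgi46) (kgi xgi17 ygi47 zgi45) (kgi xgi12 ygi3 zgi42) (kgi xgi11 ygi15 zgi59) (kgi xgi17 ygi11 zgi40) (kgi xgi29 ygi21 zgi29) (kgi xgi24 ygi1 zgi11) (kgi xgi11 ygi16 zgi0) (kgi xgi22 ygi46 zgi30) (kgi xgi26 ygi49 zgi16) (kgi xgi27 ygi12 zgi16) (kgi xgi19 ygi17 zgi46) (kgi xgi25 ygi26 zgi41) (kgi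 xgi12 ygi3 zgi39) (kgi xgi29 ygi1 zgi40) (kgi xgi29 ygi21 zgi32) (kgi xgi22 ygi32 zgi0) (kgi xgi29 ygi21 zgi37)) (@D3.rec (fun _ => Pt) (kgi xgi11 ygi16 zgi6) (kgi xgi29 ygi20 zgi17) (kgi xgi28 ygi48 zgi0) (kgi xgi28 ygi5 zgi44) (kgi xgi28 ygi18 zgi2) (kgi xgi20 ygi58 zgi34) (kgi xgi11 ygi16 zgi10) (kgi xgi29 ygi21 zgi12) (kgi xgi25 ygi52 zgi27) (kgi xgi25 ygi52 zgi36) (kgi xgi24 ygi3 zgi51) (kgi xgi22 ygi6 zgi26) (kgi xgi11 ygi22 zgi48) (kgi xgi20 ygi13 zgi41) (kgi xgi25 ygi53 zgi5) (kgi xgi11 ygi16 zgi16) (kgi xgi28 ygi19 zgi8) (kgi xgi12 ygi3 zgi57) (kgi xgi25 ygi17 zgi3) (kgi xgi26 ygi46 zgi36) (kgi xgi11 ygi26 zgi49) (kgi xgi11 ygi18 zgi6) (kgi xgi11 ygi17 zgi40) (kgi xgi19 ygi59 zgi55) (kgi xgi11 ygi16 zgi24) (kgi xgi18 ygi49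 zgi55) (kgi xgi21 ygi9 zgi1) (kgi xgi23 ygi42 zgi44) (kgi xgi23 ygi37 zgi37) (kgi xgi11 ygi16 zgi32) (kgi xgi11 ygi18 zgi9) (kgi xgi25 ygi31 zgi11) (kgi xgi11 ygi19 zgi51) (kgi xgi11 ygi19 zgi52) (kgi xgi11 ygi18 zgi31) (kgi xgi26 ygi46 zgi46) (kgi xgi29 ygi0 zgi37) (kgi xgi21 ygi0 zgi37) (kgi xgi25 ygi55 zgi34) (kgi xgi11 ygi24 zgi21) (kgi xgi11 ygi17 zgi36) (kgi xgi14 ygi37 zgi58) (kgi xgi11 ygi16 zgi43) (kgi xgi11 ygi17 zgi12) (kgi xgi11 ygi18 zgi25) (kgi xgi25 ygi34 zgi33) (kgi xgi11 ygi17 zgi30) (kgi xgi11 ygi16 zgi54) (kgi xgi11 ygi16 zgi55) (kgi xgi21 ygi52 zgi0) (kgi xgi20 ygi14 zgi23) (kgi xgi17 ygi58 zgi45) (kgi xgi11 ygi16 zgi57) (kgi xgi18 ygi16 zgi42) (kgi xgi11 ygi17 zgi1) (kgi xgi17 ygi7 zgi31) (kgi xgi23 ygi47 zgi0)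 (kgi xgi11 ygi16 zgi61) (kgi xgi29 ygi18 zgi10) (kgi xgi29 ygi18 zgi8) (kgi xgi12 ygi12 zgi57) (kgi xgi29 ygi21 zgi55)) (@D3.rec (fun _ => Pt) (kgi xgi15 ygi48 zgi26) (kgi xgi19 ygi59 zgi59) (kgi xgi25 ygi16 zgi56) (kgi xgi15 ygi49 zgi45) (kgi xgi26 ygi4 zgi16) (kgi xgi24 ygi32 zgi47) (kgi xgi28 ygi1 zgi18) (kgi xgi21 ygi45 zgi53) (kgi xgi12 ygi20 zgi9) (kgi xgi12 ygi20 zgi50) (kgi xgi24 ygi41 zgi36) (kgi xgi11 ygi17 zgi8) (kgi xgi18 ygi37 zgi46) (kgi xgi17 ygi29 zgi59) (kgi xgi29 ygi19 zgi43) (kgi xgi11 ygi17 zgi11) (kgi xgi21 ygi47 zgi50) (kgi xgi24 ygi32 zgi46) (kgi xgi11 ygi17 zgi13) (kgi xgi11 ygi17 zgi43) (kgi xgi22 ygi32 zgi30) (kgi xgi21 ygi3 zgi16) (kgi xgi11 ygi17 zgi17) (kgi xgi11 ygi18 zgi19) (kgi xgi11 ygi17 zgi26) (kgi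 xgi23 ygi24 zgi44) (kgi xgi11 ygi17 zgi23) (kgi xgi18 ygi36 zgi30) (kgi xgi26 ygi57 zgi38) (kgi xgi24 ygi31 zgi4) (kgi xgi19 ygi1 zgi51) (kgi xgi11 ygi17 zgi22) (kgi xgi24 ygi54 zgi21) (kgi xgi21 ygi29 zgi8) (kgi xgi16 ygi51 zgi44) (kgi xgi11 ygi17 zgi25) (kgi xgi29 ygi22 zgi4) (kgi xgi23 ygi24 zgi42) (kgi xgi21 ygi38 zgi13) (kgi xgi17 ygi55 zgi4) (kgi xgi24 ygi35 zgi24) (kgi xgi11 ygi44 zgi27) (kgi xgi27 ygi30 zgi30) (kgi xgi27 ygi43 zgi14) (kgi xgi11 ygi17 zgi38) (kgi xgi27 ygi3 zgi26) (kgi xgi26 ygi25 zgi33) (kgi xgi29 ygi6 zgi36) (kgi xgi16 ygi42 zgi11) (kgi xgi11 ygi24 zgi34) (kgi xgi28 ygi24 zgi35) (kgi xgi12 ygi56 zgi7) (kgi xgi11 ygi43 zgi43) (kgi xgi14 ygi46 zgi56) (kgi xgi29 ygi22 zgi9) (kgi xgi13 ygi11 zgi4) (kgi xgi19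 ygi46 zgi56) (kgi xgi21 ygi53 zgi54) (kgi xgi20 ygi25 zgi52) (kgi xgi11 ygi17 zgi48) (kgi xgi12 ygi6 zgi52) (kgi xgi12 ygi6 zgi50)) (@D3.rec (fun _ => Pt) (kgi xgi16 ygi36 zgi3) (kgi xgi12 ygi32 zgi2) (kgi xgi11 ygi20 zgi25) (kgi xgi11 ygi18 zgi24) (kgi xgi11 ygi17 zgi56) (kgi xgi11 ygi18 zgi52) (kgi xgi22 ygi47 zgi18) (kgi xgi11 ygi17 zgi58) (kgi xgi11 ygi18 zgi40) (kgi xgi26 ygi50 zgi22) (kgi xgi11 ygi18 zgi37) (kgi xgi11 ygi19 zgi8) (kgi xgi11 ygi57 zgi5) (kgi xgi11 ygi20 zgi23) (kgi xgi19 ygi49 zgi10) (kgi xgi11 ygi19 zgi1) (kgi xgi21 ygi22 zgi41) (kgi xgi11 ygi37 zgi46) (kgi xgi26 ygi50 zgi57) (kgi xgi20 ygi12 zgi50) (kgi xgi29 ygi6 zgi1) (kgi xgi12 ygi53 zgi8) (kgi xgi24 ygi27 zgi44) (kgi xgi21 ygi34 zgi52) (kgi xgi12 ygi44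 zgi54) (kgi xgi25 ygi57 zgi27) (kgi xgi29 ygi22 zgi19) (kgi xgi25 ygi18 zgi60) (kgi xgi22 ygi9 zgi59) (kgi xgi12 ygi50 zgi55) (kgi xgi11 ygi18 zgi11) (kgi xgi25 ygi31 zgi10) (kgi xgi17 ygi49 zgi25) (kgi xgi12 ygi44 zgi60) (kgi xgi19 ygi5 zgi50) (kgi xgi21 ygi22 zgi44) (kgi xgi22 ygi9 zgi53) (kgi xgi20 ygi49 zgi2) (kgi xgi12 ygi44 zgi47) (kgi xgi29 ygi22 zgi22) (kgi xgi13 ygi11 zgi1) (kgi xgi20 ygi49 zgi4) (kgi xgi26 ygi52 zgi48) (kgi xgi11 ygi18 zgi17) (kgi xgi11 ygi19 zgi50) (kgi xgi22 ygi25 zgi14) (kgi xgi11 ygi19 zgi47) (kgi xgi16 ygi51 zgi22) (kgi xgi11 ygi41 zgi56) (kgi xgi20 ygi20 zgi50) (kgi xgi11 ygi18 zgi20) (kgi xgi20 ygi49 zgi5) (kgi xgi11 ygi20 zgi7) (kgi xgi11 ygi18 zgi59) (kgi xgi20 ygi49 zgi7) (kgi xgi20 ygi52 zgi15)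 (kgi xgi11 ygi20 zgi17) (kgi xgi17 ygi32 zgi14) (kgi xgi21 ygi3 zgi18) (kgi xgi11 ygi18 zgi29) (kgi xgi16 ygi45 zgi34) (kgi xgi23 ygi50 zgi4)) (@D3.rec (fun _ => Pt) (kgi xgi12 ygi26 zgi18) (kgi xgi11 ygi20 zgi21) (kgi xgi17 ygi8 zgi11) (kgi xgi11 ygi47 zgi24) (kgi xgi21 ygi18 zgi50) (kgi xgi16 ygi7 zgi49) (kgi xgi15 ygi59 zgi14) (kgi xgi11 ygi31 zgi56) (kgi xgi12 ygi28 zgi59) (kgi xgi15 ygi4 zgi13) (kgi xgi21 ygi3 zgi31) (kgi xgi21 ygi42 zgi35) (kgi xgi20 ygi15 zgi49) (kgi xgi17 ygi30 zgi11) (kgi xgi11 ygi18 zgi39) (kgi xgi26 ygi46 zgi5) (kgi xgi29 ygi6 zgi0) (kgi xgi11 ygi19 zgi4) (kgi xgi27 ygi20 zgi13) (kgi xgi20 ygi3 zgi22) (kgi xgi11 ygi59 zgi17) (kgi xgi18 ygi35 zgi9) (kgi xgi25 ygi22 zgi58) (kgi xgi15 ygi20 zgi34) (kgi xgi11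 ygi18 zgi48) (kgi xgi16 ygi47 zgi29) (kgi xgi25 ygi5 zgi10) (kgi xgi24 ygi39 zgi52) (kgi xgi29 ygi22 zgi15) (kgi xgi17 ygi11 zgi17) (kgi xgi11 ygi20 zgi13) (kgi xgi29 ygi22 zgi41) (kgi xgi17 ygi37 zgi39) (kgi xgi29 ygi22 zgi44) (kgi xgi11 ygi18 zgi54) (kgi xgi24 ygi32 zgi31) (kgi xgi12 ygi36 zgi36) (kgi xgi18 ygi23 zgi26) (kgi xgi11 ygi20 zgi1) (kgi xgi16 ygi28 zgi16) (kgi xgi11 ygi19 zgi42) (kgi xgi11 ygi36 zgi45) (kgi xgi11 ygi45 zgi27) (kgi xgi29 ygi22 zgi23) (kgi xgi20 ygi45 zgi28) (kgi xgi11 ygi41 zgi6) (kgi xgi29 ygi22 zgi51) (kgi xgi16 ygi55 zgi1) (kgi xgi11 ygi19 zgi5) (kgi xgi20 ygi15 zgi9) (kgi xgi21 ygi26 zgi58) (kgi xgi16 ygi54 zgi5) (kgi xgi16 ygi52 zgi36) (kgi xgi11 ygi37 zgi44) (kgi xgi11 ygi19 zgi43) (kgi xgi11 ygi19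 zgi14) (kgi xgi21 ygi32 zgi58) (kgi xgi11 ygi40 zgi34) (kgi xgi12 ygi34 zgi12) (kgi xgi21 ygi24 zgi45) (kgi xgi19 ygi48 zgi40) (kgi xgi26 ygi10 zgi25)) (@D3.rec (fun _ => Pt) (kgi xgi11 ygi19 zgi23) (kgi xgi11 ygi19 zgi30) (kgi xgi11 ygi19 zgi27) (kgi xgi11 ygi36 zgi42) (kgi xgi21 ygi8 zgi52) (kgi xgi24 ygi43 zgi54) (kgi xgi21 ygi23 zgi48) (kgi xgi21 ygi56 zgi27) (kgi xgi17 ygi42 zgi10) (kgi xgi29 ygi22 zgi54) (kgi xgi26 ygi43 zgi61) (kgi xgi15 ygi24 zgi22) (kgi xgi26 ygi50 zgi31) (kgi xgi29 ygi22 zgi59) (kgi xgi12 ygi32 zgi7) (kgi xgi15 ygi25 zgi22) (kgi xgi26 ygi45 zgi57) (kgi xgi27 ygi25 zgi6) (kgi xgi21 ygi26 zgi23) (kgi xgi11 ygi19 zgi32) (kgi xgi18 ygi37 zgi56) (kgi xgi11 ygi19 zgi33) (kgi xgi25 ygi43 zgi1) (kgi xgi11 ygi19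 zgi34) (kgi xgi27 ygi30 zgi23) (kgi xgi24 ygi41 zgi37) (kgi xgi21 ygi23 zgi18) (kgi xgi17 ygi52 zgi41) (kgi xgi11 ygi19 zgi37) (kgi xgi24 ygi14 zgi51) (kgi xgi11 ygi50 zgi45) (kgi xgi11 ygi19 zgi39) (kgi xgi27 ygi30 zgi33) (kgi xgi29 ygi22 zgi50) (kgi xgi22 ygi5 zgi32) (kgi xgi11 ygi19 zgi40) (kgi xgi20 ygi10 zgi37) (kgi xgi11 ygi31 zgi26) (kgi xgi12 ygi25 zgi43) (kgi xgi11 ygi19 zgi41) (kgi xgi11 ygi19 zgi45) (kgi xgi22 ygi23 zgi44) (kgi xgi17 ygi51 zgi22) (kgi xgi26 ygi59 zgi4) (kgi xgi26 ygi50 zgi30) (kgi xgi12 ygi53 zgi12) (kgi xgi22 ygi23 zgi36) (kgi xgi14 ygi48 zgi43) (kgi xgi11 ygi19 zgi46) (kgi xgi29 ygi21 zgi50) (kgi xgi29 ygi22 zgi48) (kgi xgi28 ygi53 zgi7) (kgi xgi11 ygi46 zgi60) (kgi xgi15 ygi25 zgi1) (kgi xgi11 ygi46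 zgi58) (kgi xgi11 ygi19 zgi49) (kgi xgi11 ygi46 zgi36) (kgi xgi11 ygi46 zgi33) (kgi xgi22 ygi25 zgi13) (kgi xgi26 ygi3 zgi39) (kgi xgi21 ygi24 zgi48) (kgi xgi26 ygi11 zgi27)) (@D3.rec (fun _ => Pt) (kgi xgi11 ygi39 zgi3) (kgi xgi20 ygi54 zgi47) (kgi xgi13 ygi25 zgi47) (kgi xgi11 ygi19 zgi58) (kgi xgi17 ygi58 zgi49) (kgi xgi29 ygi23 zgi18) (kgi xgi11 ygi47 zgi3) (kgi xgi25 ygi26 zgi16) (kgi xgi16 ygi59 zgi53) (kgi xgi11 ygi20 zgi0) (kgi xgi11 ygi20 zgi14) (kgi xgi15 ygi55 zgi31) (kgi xgi20 ygi24 zgi60) (kgi xgi14 ygi11 zgi35) (kgi xgi20 ygi36 zgi0) (kgi xgi11 ygi20 zgi3) (kgi xgi11 ygi20 zgi16) (kgi xgi23 ygi47 zgi22) (kgi xgi11 ygi44 zgi0) (kgi xgi17 ygi56 zgi44) (kgi xgi20 ygi49 zgi19) (kgi xgi16 ygi30 zgi49) (kgi xgi16 ygi24 zgi47)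 (kgi xgi11 ygi20 zgi11) (kgi xgi28 ygi39 zgi9) (kgi xgi16 ygi30 zgi47) (kgi xgi16 ygi30 zgi21) (kgi xgi21 ygi44 zgi56) (kgi xgi21 ygi54 zgi29) (kgi xgi26 ygi28 zgi13) (kgi xgi21 ygi41 zgi50) (kgi xgi13 ygi12 zgi2) (kgi xgi21 ygi47 zgi27) (kgi xgi17 ygi30 zgi0) (kgi xgi22 ygi1 zgi12) (kgi xgi11 ygi46 zgi47) (kgi xgi20 ygi9 zgi40) (kgi xgi21 ygi37 zgi18) (kgi xgi12 ygi26 zgi21) (kgi xgi27 ygi20 zgi45) (kgi xgi17 ygi29 zgi53) (kgi xgi11 ygi20 zgi26) (kgi xgi20 ygi1 zgi6) (kgi xgi29 ygi22 zgi42) (kgi xgi29 ygi23 zgi26) (kgi xgi21 ygi18 zgi40) (kgi xgi16 ygi47 zgi21) (kgi xgi17 ygi58 zgi55) (kgi xgi19 ygi26 zgi57) (kgi xgi11 ygi55 zgi24) (kgi xgi11 ygi39 zgi2) (kgi xgi11 ygi20 zgi30) (kgi xgi25 ygi26 zgi20) (kgi xgi19 ygi39 zgi37) (kgi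 xgi23 ygi37 zgi45) (kgi xgi29 ygi23 zgi36) (kgi xgi19 ygi53 zgi46) (kgi xgi11 ygi47 zgi32) (kgi xgi11 ygi47 zgi30) (kgi xgi26 ygi23 zgi27) (kgi xgi20 ygi49 zgi26) (kgi xgi29 ygi23 zgi42)) (@D3.rec (fun _ => Pt) (kgi xgi29 ygi23 zgi44) (kgi xgi11 ygi32 zgi22) (kgi xgi21 ygi31 zgi46) (kgi xgi24 ygi4 zgi55) (kgi xgi17 ygi58 zgi57) (kgi xgi15 ygi31 zgi37) (kgi xgi17 ygi58 zgi60) (kgi xgi11 ygi47 zgi60) (kgi xgi11 ygi47 zgi58) (kgi xgi24 ygi5 zgi37) (kgi xgi15 ygi35 zgi40) (kgi xgi11 ygi20 zgi42) (kgi xgi26 ygi56 zgi4) (kgi xgi20 ygi8 zgi15) (kgi xgi29 ygi23 zgi59) (kgi xgi11 ygi20 zgi44) (kgi xgi11 ygi20 zgi58) (kgi xgi28 ygi13 zgi50) (kgi xgi11 ygi22 zgi40) (kgi xgi24 ygi56 zgi60) (kgi xgi11 ygi22 zgi38) (kgi xgi11 ygi20 zgi49) (kgi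 xgi26 ygi21 zgi16) (kgi xgi20 ygi30 zgi15) (kgi xgi16 ygi34 zgi35) (kgi xgi13 ygi42 zgi52) (kgi xgi20 ygi18 zgi30) (kgi xgi11 ygi20 zgi53) (kgi xgi16 ygi22 zgi26) (kgi xgi29 ygi24 zgi8) (kgi xgi29 ygi19 zgi16) (kgi xgi11 ygi20 zgi54) (kgi xgi20 ygi28 zgi42) (kgi xgi25 ygi16 zgi3) (kgi xgi29 ygi18 zgi60) (kgi xgi12 ygi8 zgi55) (kgi xgi21 ygi32 zgi41) (kgi xgi17 ygi2 zgi35) (kgi xgi17 ygi2 zgi24) (kgi xgi20 ygi32 zgi17) (kgi xgi29 ygi18 zgi42) (kgi xgi11 ygi20 zgi57) (kgi xgi15 ygi4 zgi41) (kgi xgi29 ygi14 zgi54) (kgi xgi29 ygi7 zgi26) (kgi xgi24 ygi47 zgi40) (kgi xgi26 ygi28 zgi41) (kgi xgi29 ygi7 zgi40) (kgi xgi15 ygi44 zgi21) (kgi xgi15 ygi4 zgi3) (kgi xgi29 ygi7 zgi47) (kgi xgi26 ygi28 zgi17) (kgi xgi17 ygi0 zgi55) (kgi xgi20 ygi33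 zgi46) (kgi xgi23 ygi0 zgi44) (kgi xgi25 ygi49 zgi57) (kgi xgi29 ygi24 zgi19) (kgi xgi17 ygi25 zgi34) (kgi xgi17 ygi21 zgi51) (kgi xgi11 ygi41 zgi1) (kgi xgi11 ygi50 zgi19) (kgi xgi11 ygi21 zgi18)) (@D3.rec (fun _ => Pt) (kgi xgi22 ygi32 zgi10) (kgi xgi27 ygi54 zgi53) (kgi xgi26 ygi51 zgi15) (kgi xgi29 ygi20 zgi24) (kgi xgi26 ygi56 zgi27) (kgi xgi11 ygi21 zgi22) (kgi xgi17 ygi54 zgi22) (kgi xgi28 ygi16 zgi56) (kgi xgi18 ygi34 zgi18) (kgi xgi21 ygi8 zgi61) (kgi xgi20 ygi46 zgi7) (kgi xgi27 ygi34 zgi56) (kgi xgi17 ygi19 zgi44) (kgi xgi22 ygi38 zgi38) (kgi xgi12 ygi31 zgi17) (kgi xgi20 ygi27 zgi40) (kgi xgi12 ygi26 zgi27) (kgi xgi11 ygi21 zgi48) (kgi xgi11 ygi21 zgi38) (kgi xgi11 ygi21 zgi41) (kgi xgi19 ygi39 zgi22) (kgi xgi20 ygi13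 zgi3) (kgi xgi26 ygi1 zgi24) (kgi xgi27 ygi5 zgi57) (kgi xgi19 ygi57 zgi29) (kgi xgi19 ygi48 zgi39) (kgi xgi25 ygi44 zgi56) (kgi xgi11 ygi21 zgi45) (kgi xgi22 ygi10 zgi3) (kgi xgi11 ygi21 zgi46) (kgi xgi23 ygi38 zgi5) (kgi xgi13 ygi38 zgi44) (kgi xgi12 ygi31 zgi2) (kgi xgi23 ygi3 zgi52) (kgi xgi21 ygi51 zgi55) (kgi xgi12 ygi31 zgi1) (kgi xgi21 ygi36 zgi35) (kgi xgi16 ygi36 zgi1) (kgi xgi27 ygi56 zgi1) (kgi xgi25 ygi16 zgi50) (kgi xgi11 ygi21 zgi61) (kgi xgi12 ygi29 zgi50) (kgi xgi17 ygi18 zgi14) (kgi xgi23 ygi4 zgi6) (kgi xgi17 ygi55 zgi28) (kgi xgi11 ygi22 zgi5) (kgi xgi23 ygi3 zgi26) (kgi xgi16 ygi24 zgi6) (kgi xgi20 ygi50 zgi61) (kgi xgi18 ygi43 zgi34) (kgi xgi12 ygi9 zgi28) (kgi xgi20 ygi26 zgi9) (kgi xgi11 ygi24 zgi50) (kgi xgi29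 ygi22 zgi58) (kgi xgi18 ygi43 zgi55) (kgi xgi21 ygi16 zgi19) (kgi xgi18 ygi43 zgi54) (kgi xgi21 ygi16 zgi18) (kgi xgi17 ygi30 zgi10) (kgi xgi11 ygi26 zgi35) (kgi xgi26 ygi58 zgi26) (kgi xgi28 ygi0 zgi40)) (@D3.rec (fun _ => Pt) (kgi xgi22 ygi38 zgi1) (kgi xgi18 ygi44 zgi30) (kgi xgi26 ygi52 zgi43) (kgi xgi20 ygi52 zgi16) (kgi xgi16 ygi52 zgi23) (kgi xgi28 ygi19 zgi0) (kgi xgi20 ygi16 zgi36) (kgi xgi27 ygi0 zgi54) (kgi xgi26 ygi53 zgi8) (kgi xgi19 ygi43 zgi4) (kgi xgi26 ygi53 zgi5) (kgi xgi29 ygi24 zgi39) (kgi xgi18 ygi59 zgi20) (kgi xgi11 ygi22 zgi28) (kgi xgi21 ygi9 zgi5) (kgi xgi27 ygi13 zgi25) (kgi xgi21 ygi30 zgi25) (kgi xgi27 ygi37 zgi33) (kgi xgi11 ygi38 zgi37) (kgi xgi11 ygi22 zgi31) (kgi xgi26 ygi53 zgi6) (kgi xgi11 ygi50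 zgi7) (kgi xgi28 ygi17 zgi51) (kgi xgi16 ygi54 zgi45) (kgi xgi22 ygi20 zgi10) (kgi xgi17 ygi56 zgi35) (kgi xgi28 ygi14 zgi52) (kgi xgi16 ygi26 zgi48) (kgi xgi20 ygi7 zgi42) (kgi xgi26 ygi22 zgi23) (kgi xgi12 ygi55 zgi29) (kgi xgi20 ygi50 zgi52) (kgi xgi22 ygi32 zgi9) (kgi xgi29 ygi23 zgi5) (kgi xgi16 ygi59 zgi9) (kgi xgi27 ygi22 zgi17) (kgi xgi24 ygi33 zgi54) (kgi xgi20 ygi15 zgi54) (kgi xgi25 ygi17 zgi48) (kgi xgi12 ygi26 zgi28) (kgi xgi11 ygi22 zgi58) (kgi xgi27 ygi22 zgi36) (kgi xgi14 ygi48 zgi36) (kgi xgi24 ygi5 zgi10) (kgi xgi17 ygi8 zgi29) (kgi xgi17 ygi52 zgi13) (kgi xgi20 ygi14 zgi49) (kgi xgi11 ygi23 zgi8) (kgi xgi11 ygi23 zgi5) (kgi xgi11 ygi23 zgi4) (kgi xgi21 ygi15 zgi18) (kgi xgi16 ygi29 zgi35) (kgi xgi28 ygi6 zgi52)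 (kgi xgi16 ygi21 zgi28) (kgi xgi28 ygi10 zgi37) (kgi xgi29 ygi24 zgi53) (kgi xgi18 ygi20 zgi11) (kgi xgi22 ygi38 zgi0) (kgi xgi28 ygi9 zgi23) (kgi xgi26 ygi28 zgi15) (kgi xgi17 ygi15 zgi28) (kgi xgi16 ygi27 zgi51)) (@D3.rec (fun _ => Pt) (kgi xgi16 ygi23 zgi41) (kgi xgi28 ygi26 zgi48) (kgi xgi26 ygi31 zgi34) (kgi xgi27 ygi32 zgi53) (kgi xgi21 ygi13 zgi26) (kgi xgi29 ygi24 zgi59) (kgi xgi29 ygi24 zgi61) (kgi xgi11 ygi23 zgi25) (kgi xgi21 ygi12 zgi52) (kgi xgi19 ygi0 zgi4) (kgi xgi29 ygi25 zgi3) (kgi xgi27 ygi40 zgi15) (kgi xgi11 ygi23 zgi29) (kgi xgi21 ygi12 zgi57) (kgi xgi21 ygi12 zgi55) (kgi xgi27 ygi34 zgi8) (kgi xgi22 ygi49 zgi43) (kgi xgi11 ygi23 zgi31) (kgi xgi13 ygi14 zgi34) (kgi xgi13 ygi30 zgi54) (kgi xgi29 ygi25 zgi7) (kgi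 xgi18 ygi58 zgi15) (kgi xgi11 ygi23 zgi37) (kgi xgi27 ygi34 zgi42) (kgi xgi29 ygi25 zgi13) (kgi xgi27 ygi34 zgi40) (kgi xgi29 ygi25 zgi10) (kgi xgi18 ygi9 zgi51) (kgi xgi27 ygi50 zgi19) (kgi xgi11 ygi23 zgi40) (kgi xgi21 ygi13 zgi23) (kgi xgi26 ygi37 zgi45) (kgi xgi29 ygi25 zgi2) (kgi xgi11 ygi23 zgi42) (kgi xgi22 ygi50 zgi7) (kgi xgi27 ygi33 zgi12) (kgi xgi18 ygi56 zgi36) (kgi xgi21 ygi15 zgi7) (kgi xgi16 ygi51 zgi57) (kgi xgi20 ygi10 zgi31) (kgi xgi24 ygi30 zgi33) (kgi xgi16 ygi51 zgi61) (kgi xgi16 ygi52 zgi24) (kgi xgi11 ygi23 zgi50) (kgi xgi20 ygi11 zgi26) (kgi xgi20 ygi11 zgi24) (kgi xgi20 ygi33 zgi60) (kgi xgi29 ygi25 zgi27) (kgi xgi19 ygi21 zgi48) (kgi xgi16 ygi22 zgi49) (kgi xgi20 ygi15 zgi48) (kgi xgi26 ygi55 zgi18) (kgi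 xgi11 ygi24 zgi4) (kgi xgi11 ygi24 zgi6) (kgi xgi29 ygi25 zgi30) (kgi xgi19 ygi43 zgi35) (kgi xgi16 ygi49 zgi42) (kgi xgi11 ygi24 zgi7) (kgi xgi29 ygi19 zgi44) (kgi xgi17 ygi23 zgi44) (kgi xgi12 ygi30 zgi21) (kgi xgi11 ygi24 zgi22)) (@D3.rec (fun _ => Pt) (kgi xgi11 ygi24 zgi19) (kgi xgi11 ygi40 zgi35) (kgi xgi21 ygi9 zgi49) (kgi xgi11 ygi24 zgi31) (kgi xgi29 ygi18 zgi26) (kgi xgi21 ygi3 zgi28) (kgi xgi20 ygi25 zgi47) (kgi xgi20 ygi28 zgi34) (kgi xgi27 ygi2 zgi58) (kgi xgi14 ygi11 zgi50) (kgi xgi27 ygi9 zgi13) (kgi xgi27 ygi43 zgi37) (kgi xgi11 ygi24 zgi24) (kgi xgi27 ygi1 zgi4) (kgi xgi11 ygi24 zgi25) (kgi xgi17 ygi57 zgi46) (kgi xgi19 ygi32 zgi29) (kgi xgi17 ygi55 zgi15) (kgi xgi11 ygi24 zgi36) (kgi xgi22 ygi12 zgi1) (kgi xgi22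 ygi12 zgi2) (kgi xgi25 ygi17 zgi31) (kgi xgi12 ygi46 zgi1) (kgi xgi25 ygi19 zgi2) (kgi xgi21 ygi18 zgi34) (kgi xgi11 ygi24 zgi43) (kgi xgi11 ygi24 zgi52) (kgi xgi18 ygi25 zgi48) (kgi xgi12 ygi9 zgi31) (kgi xgi12 ygi17 zgi28) (kgi xgi12 ygi9 zgi43) (kgi xgi26 ygi53 zgi14) (kgi xgi12 ygi30 zgi2) (kgi xgi14 ygi33 zgi12) (kgi xgi14 ygi13 zgi51) (kgi xgi16 ygi58 zgi21) (kgi xgi18 ygi22 zgi30) (kgi xgi17 ygi34 zgi47) (kgi xgi20 ygi46 zgi13) (kgi xgi11 ygi25 zgi8) (kgi xgi27 ygi42 zgi56) (kgi xgi11 ygi26 zgi19) (kgi xgi11 ygi25 zgi13) (kgi xgi11 ygi25 zgi15) (kgi xgi12 ygi30 zgi1) (kgi xgi28 ygi48 zgi5) (kgi xgi21 ygi9 zgi59) (kgi xgi27 ygi44 zgi12) (kgi xgi20 ygi27 zgi28) (kgi xgi11 ygi25 zgi31) (kgi xgi14 ygi4 zgi55) (kgi xgi11 ygi25 zgi28)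 (kgi xgi16 ygi58 zgi35) (kgi xgi11 ygi28 zgi24) (kgi xgi21 ygi57 zgi31) (kgi xgi15 ygi30 zgi26) (kgi xgi26 ygi58 zgi19) (kgi xgi11 ygi25 zgi30) (kgi xgi14 ygi4 zgi57) (kgi xgi21 ygi37 zgi43) (kgi xgi21 ygi20 zgi51) (kgi xgi11 ygi41 zgi54)) (@D3.rec (fun _ => Pt) (kgi xgi11 ygi25 zgi35) (kgi xgi14 ygi4 zgi42) (kgi xgi29 ygi25 zgi41) (kgi xgi27 ygi59 zgi38) (kgi xgi14 ygi37 zgi0) (kgi xgi16 ygi58 zgi23) (kgi xgi11 ygi25 zgi39) (kgi xgi20 ygi26 zgi59) (kgi xgi20 ygi3 zgi46) (kgi xgi20 ygi26 zgi57) (kgi xgi28 ygi47 zgi27) (kgi xgi16 ygi58 zgi14) (kgi xgi21 ygi20 zgi34) (kgi xgi11 ygi25 zgi43) (kgi xgi20 ygi5 zgi4) (kgi xgi12 ygi24 zgi43) (kgi xgi12 ygi41 zgi16) (kgi xgi11 ygi25 zgi47) (kgi xgi12 ygi39 zgi39) (kgi xgi21 ygi54 zgi44) (kgi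 xgi27 ygi17 zgi7) (kgi xgi27 ygi10 zgi26) (kgi xgi11 ygi25 zgi51) (kgi xgi11 ygi26 zgi17) (kgi xgi24 ygi21 zgi39) (kgi xgi24 ygi21 zgi31) (kgi xgi29 ygi7 zgi17) (kgi xgi27 ygi0 zgi46) (kgi xgi27 ygi39 zgi17) (kgi xgi11 ygi26 zgi51) (kgi xgi17 ygi31 zgi34) (kgi xgi27 ygi0 zgi44) (kgi xgi27 ygi57 zgi21) (kgi xgi12 ygi57 zgi42) (kgi xgi13 ygi10 zgi58) (kgi xgi20 ygi51 zgi40) (kgi xgi20 ygi49 zgi17) (kgi xgi14 ygi16 zgi39) (kgi xgi28 ygi25 zgi22) (kgi xgi29 ygi26 zgi3) (kgi xgi11 ygi26 zgi9) (kgi xgi14 ygi39 zgi0) (kgi xgi11 ygi26 zgi10) (kgi xgi29 ygi26 zgi7) (kgi xgi11 ygi26 zgi11) (kgi xgi11 ygi26 zgi13) (kgi xgi26 ygi39 zgi2) (kgi xgi20 ygi48 zgi18) (kgi xgi29 ygi26 zgi13) (kgi xgi22 ygi26 zgi27) (kgi xgi22 ygi17 zgi61) (kgi xgi27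 ygi21 zgi10) (kgi xgi20 ygi27 zgi2) (kgi xgi18 ygi55 zgi40) (kgi xgi29 ygi26 zgi21) (kgi xgi15 ygi30 zgi32) (kgi xgi11 ygi26 zgi16) (kgi xgi28 ygi40 zgi13) (kgi xgi29 ygi26 zgi28) (kgi xgi29 ygi26 zgi32) (kgi xgi29 ygi25 zgi56) (kgi xgi11 ygi26 zgi37)) (@D3.rec (fun _ => Pt) (kgi xgi21 ygi31 zgi59) (kgi xgi16 ygi48 zgi34) (kgi xgi11 ygi26 zgi21) (kgi xgi21 ygi16 zgi3) (kgi xgi11 ygi26 zgi23) (kgi xgi11 ygi26 zgi32) (kgi xgi29 ygi26 zgi11) (kgi xgi16 ygi54 zgi39) (kgi xgi19 ygi52 zgi29) (kgi xgi13 ygi23 zgi29) (kgi xgi11 ygi26 zgi27) (kgi xgi11 ygi26 zgi34) (kgi xgi23 ygi36 zgi4) (kgi xgi26 ygi6 zgi32) (kgi xgi29 ygi26 zgi37) (kgi xgi22 ygi3 zgi22) (kgi xgi21 ygi16 zgi17) (kgi xgi20 ygi22 zgi10) (kgi xgi24 ygi21 zgi21) (kgi xgi29 ygi26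 zgi9) (kgi xgi24 ygi13 zgi5) (kgi xgi14 ygi31 zgi0) (kgi xgi27 ygi57 zgi20) (kgi xgi23 ygi34 zgi46) (kgi xgi17 ygi9 zgi9) (kgi xgi16 ygi51 zgi49) (kgi xgi13 ygi2 zgi9) (kgi xgi14 ygi35 zgi48) (kgi xgi20 ygi26 zgi51) (kgi xgi19 ygi46 zgi51) (kgi xgi11 ygi26 zgi38) (kgi xgi11 ygi26 zgi42) (kgi xgi13 ygi8 zgi52) (kgi xgi17 ygi53 zgi14) (kgi xgi29 ygi17 zgi38) (kgi xgi20 ygi26 zgi56) (kgi xgi28 ygi13 zgi59) (kgi xgi23 ygi26 zgi19) (kgi xgi28 ygi43 zgi56) (kgi xgi29 ygi25 zgi46) (kgi xgi14 ygi40 zgi15) (kgi xgi14 ygi42 zgi18) (kgi xgi19 ygi43 zgi57) (kgi xgi11 ygi26 zgi46) (kgi xgi29 ygi26 zgi31) (kgi xgi14 ygi21 zgi39) (kgi xgi29 ygi21 zgi44) (kgi xgi27 ygi11 zgi11) (kgi xgi18 ygi50 zgi9) (kgi xgi12 ygi2 zgi9) (kgi xgi27 ygi55 zgi60)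 (kgi xgi28 ygi55 zgi58) (kgi xgi20 ygi52 zgi9) (kgi xgi11 ygi26 zgi59) (kgi xgi28 ygi1 zgi4) (kgi xgi29 ygi26 zgi50) (kgi xgi21 ygi29 zgi32) (kgi xgi26 ygi22 zgi45) (kgi xgi23 ygi30 zgi8) (kgi xgi14 ygi7 zgi4) (kgi xgi11 ygi27 zgi3) (kgi xgi20 ygi17 zgi12)) (@D3.rec (fun _ => Pt) (kgi xgi23 ygi12 zgi11) (kgi xgi12 ygi41 zgi4) (kgi xgi16 ygi48 zgi60) (kgi xgi19 ygi53 zgi10) (kgi xgi15 ygi8 zgi20) (kgi xgi15 ygi4 zgi29) (kgi xgi20 ygi59 zgi50) (kgi xgi20 ygi50 zgi60) (kgi xgi11 ygi27 zgi35) (kgi xgi24 ygi23 zgi24) (kgi xgi21 ygi31 zgi43) (kgi xgi29 ygi3 zgi24) (kgi xgi19 ygi51 zgi57) (kgi xgi11 ygi31 zgi54) (kgi xgi19 ygi51 zgi55) (kgi xgi12 ygi30 zgi60) (kgi xgi11 ygi27 zgi15) (kgi xgi19 ygi43 zgi29) (kgi xgi18 ygi23 zgi56) (kgi xgi11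 ygi27 zgi21) (kgi xgi26 ygi29 zgi41) (kgi xgi20 ygi27 zgi44) (kgi xgi20 ygi51 zgi5) (kgi xgi21 ygi16 zgi10) (kgi xgi19 ygi51 zgi53) (kgi xgi11 ygi27 zgi26) (kgi xgi20 ygi13 zgi57) (kgi xgi19 ygi47 zgi2) (kgi xgi20 ygi7 zgi16) (kgi xgi21 ygi40 zgi19) (kgi xgi17 ygi0 zgi50) (kgi xgi19 ygi13 zgi1) (kgi xgi20 ygi52 zgi36) (kgi xgi29 ygi27 zgi7) (kgi xgi27 ygi36 zgi27) (kgi xgi27 ygi8 zgi40) (kgi xgi11 ygi41 zgi21) (kgi xgi21 ygi32 zgi7) (kgi xgi14 ygi24 zgi22) (kgi xgi14 ygi32 zgi19) (kgi xgi13 ygi32 zgi4) (kgi xgi14 ygi45 zgi16) (kgi xgi14 ygi40 zgi11) (kgi xgi17 ygi15 zgi26) (kgi xgi16 ygi56 zgi42) (kgi xgi16 ygi49 zgi1) (kgi xgi15 ygi24 zgi26) (kgi xgi18 ygi57 zgi56) (kgi xgi26 ygi48 zgi59) (kgi xgi11 ygi28 zgi10) (kgi xgi11 ygi48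 zgi27) (kgi xgi19 ygi46 zgi60) (kgi xgi16 ygi48 zgi61) (kgi xgi11 ygi47 zgi56) (kgi xgi16 ygi56 zgi43) (kgi xgi20 ygi28 zgi19) (kgi xgi11 ygi28 zgi25) (kgi xgi17 ygi58 zgi30) (kgi xgi11 ygi28 zgi33) (kgi xgi23 ygi55 zgi29) (kgi xgi13 ygi5 zgi46) (kgi xgi20 ygi28 zgi8)) (@D3.rec (fun _ => Pt) (kgi xgi19 ygi53 zgi19) (kgi xgi11 ygi28 zgi38) (kgi xgi17 ygi19 zgi33) (kgi xgi16 ygi30 zgi29) (kgi xgi11 ygi28 zgi47) (kgi xgi17 ygi7 zgi52) (kgi xgi11 ygi28 zgi49) (kgi xgi17 ygi21 zgi5) (kgi xgi13 ygi0 zgi59) (kgi xgi11 ygi31 zgi23) (kgi xgi17 ygi58 zgi32) (kgi xgi17 ygi57 zgi48) (kgi xgi18 ygi23 zgi13) (kgi xgi12 ygi57 zgi52) (kgi xgi11 ygi29 zgi0) (kgi xgi21 ygi20 zgi40) (kgi xgi21 ygi3 zgi48) (kgi xgi17 ygi58 zgi36) (kgi xgi21 ygi30 zgi43)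 (kgi xgi17 ygi15 zgi20) (kgi xgi23 ygi4 zgi22) (kgi xgi11 ygi29 zgi14) (kgi xgi21 ygi30 zgi44) (kgi xgi14 ygi1 zgi56) (kgi xgi23 ygi14 zgi51) (kgi xgi26 ygi33 zgi3) (kgi xgi21 ygi12 zgi28) (kgi xgi11 ygi29 zgi21) (kgi xgi18 ygi24 zgi38) (kgi xgi26 ygi54 zgi50) (kgi xgi21 ygi57 zgi35) (kgi xgi17 ygi21 zgi46) (kgi xgi21 ygi36 zgi54) (kgi xgi28 ygi35 zgi6) (kgi xgi16 ygi58 zgi9) (kgi xgi25 ygi21 zgi11) (kgi xgi16 ygi58 zgi52) (kgi xgi28 ygi31 zgi40) (kgi xgi29 ygi27 zgi21) (kgi xgi16 ygi58 zgi49) (kgi xgi11 ygi29 zgi34) (kgi xgi24 ygi33 zgi22) (kgi xgi29 ygi12 zgi25) (kgi xgi11 ygi29 zgi35) (kgi xgi16 ygi58 zgi61) (kgi xgi29 ygi27 zgi32) (kgi xgi11 ygi29 zgi42) (kgi xgi11 ygi29 zgi43) (kgi xgi23 ygi49 zgi23) (kgi xgi15 ygi27 zgi9) (kgi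 xgi23 ygi49 zgi19) (kgi xgi20 ygi38 zgi0) (kgi xgi20 ygi41 zgi44) (kgi xgi24 ygi20 zgi22) (kgi xgi15 ygi27 zgi10) (kgi xgi24 ygi20 zgi19) (kgi xgi20 ygi24 zgi39) (kgi xgi11 ygi29 zgi49) (kgi xgi20 ygi23 zgi9) (kgi xgi20 ygi23 zgi6) (kgi xgi27 ygi9 zgi2) (kgi xgi11 ygi29 zgi54)) (@D3.rec (fun _ => Pt) (kgi xgi21 ygi51 zgi23) (kgi xgi26 ygi53 zgi22) (kgi xgi20 ygi23 zgi55) (kgi xgi22 ygi7 zgi59) (kgi xgi26 ygi54 zgi3) (kgi xgi27 ygi42 zgi54) (kgi xgi25 ygi45 zgi53) (kgi xgi17 ygi20 zgi18) (kgi xgi22 ygi7 zgi60) (kgi xgi26 ygi54 zgi9) (kgi xgi18 ygi21 zgi12) (kgi xgi22 ygi7 zgi57) (kgi xgi11 ygi30 zgi19) (kgi xgi11 ygi30 zgi1) (kgi xgi14 ygi31 zgi7) (kgi xgi18 ygi11 zgi57) (kgi xgi14 ygi31 zgi4) (kgi xgi27 ygi3 zgi12) (kgi xgi24 ygi3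 zgi5) (kgi xgi11 ygi30 zgi7) (kgi xgi16 ygi44 zgi41) (kgi xgi17 ygi26 zgi58) (kgi xgi24 ygi12 zgi40) (kgi xgi17 ygi26 zgi56) (kgi xgi22 ygi26 zgi22) (kgi xgi11 ygi41 zgi47) (kgi xgi23 ygi23 zgi48) (kgi xgi19 ygi19 zgi9) (kgi xgi21 ygi36 zgi48) (kgi xgi11 ygi30 zgi17) (kgi xgi21 ygi50 zgi43) (kgi xgi20 ygi22 zgi48) (kgi xgi12 ygi42 zgi18) (kgi xgi11 ygi30 zgi29) (kgi xgi14 ygi35 zgi25) (kgi xgi22 ygi8 zgi28) (kgi xgi12 ygi35 zgi47) (kgi xgi11 ygi30 zgi32) (kgi xgi27 ygi2 zgi31) (kgi xgi26 ygi4 zgi7) (kgi xgi20 ygi15 zgi29) (kgi xgi12 ygi39 zgi48) (kgi xgi24 ygi20 zgi42) (kgi xgi27 ygi10 zgi20) (kgi xgi21 ygi36 zgi10) (kgi xgi11 ygi30 zgi35) (kgi xgi21 ygi33 zgi27) (kgi xgi22 ygi11 zgi11) (kgi xgi11 ygi30 zgi43) (kgi xgi16 ygi51 zgi30)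 (kgi xgi22 ygi7 zgi54) (kgi xgi11 ygi48 zgi20) (kgi xgi20 ygi0 zgi40) (kgi xgi19 ygi21 zgi1) (kgi xgi29 ygi21 zgi61) (kgi xgi18 ygi43 zgi13) (kgi xgi11 ygi30 zgi54) (kgi xgi26 ygi10 zgi22) (kgi xgi21 ygi53 zgi39) (kgi xgi11 ygi31 zgi0) (kgi xgi11 ygi58 zgi29) (kgi xgi11 ygi58 zgi30)) (@D3.rec (fun _ => Pt) (kgi xgi26 ygi44 zgi8) (kgi xgi13 ygi58 zgi38) (kgi xgi13 ygi58 zgi41) (kgi xgi13 ygi1 zgi51) (kgi xgi13 ygi1 zgi37) (kgi xgi20 ygi42 zgi56) (kgi xgi17 ygi10 zgi57) (kgi xgi11 ygi31 zgi25) (kgi xgi20 ygi26 zgi17) (kgi xgi12 ygi42 zgi16) (kgi xgi17 ygi0 zgi47) (kgi xgi21 ygi54 zgi6) (kgi xgi26 ygi59 zgi54) (kgi xgi24 ygi39 zgi38) (kgi xgi26 ygi56 zgi45) (kgi xgi19 ygi16 zgi22) (kgi xgi16 ygi45 zgi2) (kgi xgi11 ygi31 zgi43) (kgi xgi20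 ygi52 zgi59) (kgi xgi11 ygi31 zgi44) (kgi xgi20 ygi25 zgi55) (kgi xgi17 ygi8 zgi61) (kgi xgi20 ygi20 zgi44) (kgi xgi29 ygi27 zgi53) (kgi xgi17 ygi18 zgi36) (kgi xgi19 ygi47 zgi26) (kgi xgi24 ygi53 zgi28) (kgi xgi12 ygi31 zgi60) (kgi xgi11 ygi31 zgi52) (kgi xgi19 ygi27 zgi45) (kgi xgi20 ygi24 zgi28) (kgi xgi12 ygi20 zgi29) (kgi xgi21 ygi36 zgi9) (kgi xgi25 ygi40 zgi19) (kgi xgi20 ygi17 zgi4) (kgi xgi17 ygi8 zgi32) (kgi xgi11 ygi31 zgi61) (kgi xgi19 ygi23 zgi59) (kgi xgi29 ygi27 zgi60) (kgi xgi20 ygi49 zgi45) (kgi xgi19 ygi45 zgi30) (kgi xgi13 ygi32 zgi61) (kgi xgi20 ygi18 zgi31) (kgi xgi11 ygi33 zgi18) (kgi xgi29 ygi28 zgi2) (kgi xgi20 ygi30 zgi18) (kgi xgi11 ygi32 zgi6) (kgi xgi20 ygi8 zgi0) (kgi xgi29 ygi19 zgi20) (kgi xgi20 ygi31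 zgi25) (kgi xgi20 ygi31 zgi23) (kgi xgi13 ygi21 zgi45) (kgi xgi13 ygi42 zgi18) (kgi xgi29 ygi3 zgi14) (kgi xgi23 ygi13 zgi8) (kgi xgi13 ygi41 zgi28) (kgi xgi22 ygi21 zgi56) (kgi xgi14 ygi15 zgi42) (kgi xgi25 ygi14 zgi25) (kgi xgi11 ygi32 zgi15) (kgi xgi19 ygi37 zgi18) (kgi xgi26 ygi26 zgi48)) (@D3.rec (fun _ => Pt) (kgi xgi19 ygi57 zgi45) (kgi xgi24 ygi39 zgi13) (kgi xgi16 ygi44 zgi32) (kgi xgi24 ygi53 zgi31) (kgi xgi19 ygi40 zgi25) (kgi xgi19 ygi32 zgi44) (kgi xgi19 ygi33 zgi27) (kgi xgi29 ygi18 zgi7) (kgi xgi18 ygi1 zgi48) (kgi xgi29 ygi28 zgi12) (kgi xgi14 ygi51 zgi14) (kgi xgi11 ygi43 zgi8) (kgi xgi12 ygi49 zgi1) (kgi xgi11 ygi32 zgi24) (kgi xgi14 ygi51 zgi41) (kgi xgi20 ygi41 zgi34) (kgi xgi21 ygi50 zgi35) (kgi xgi25 ygi6 zgi56)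 (kgi xgi20 ygi41 zgi33) (kgi xgi15 ygi35 zgi36) (kgi xgi11 ygi32 zgi31) (kgi xgi17 ygi2 zgi0) (kgi xgi29 ygi8 zgi51) (kgi xgi19 ygi44 zgi9) (kgi xgi23 ygi7 zgi39) (kgi xgi17 ygi3 zgi44) (kgi xgi16 ygi25 zgi21) (kgi xgi29 ygi28 zgi24) (kgi xgi11 ygi32 zgi35) (kgi xgi26 ygi26 zgi58) (kgi xgi26 ygi26 zgi56) (kgi xgi16 ygi25 zgi56) (kgi xgi23 ygi20 zgi25) (kgi xgi29 ygi28 zgi30) (kgi xgi11 ygi32 zgi38) (kgi xgi24 ygi59 zgi32) (kgi xgi24 ygi59 zgi29) (kgi xgi27 ygi42 zgi8) (kgi xgi29 ygi28 zgi34) (kgi xgi11 ygi32 zgi40) (kgi xgi25 ygi50 zgi5) (kgi xgi25 ygi33 zgi5) (kgi xgi17 ygi1 zgi12) (kgi xgi16 ygi27 zgi7) (kgi xgi18 ygi59 zgi35) (kgi xgi29 ygi28 zgi45) (kgi xgi25 ygi12 zgi43) (kgi xgi26 ygi49 zgi46) (kgi xgi17 ygi4 zgi9) (kgi xgi23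 ygi56 zgi61) (kgi xgi27 ygi1 zgi3) (kgi xgi11 ygi32 zgi49) (kgi xgi19 ygi26 zgi24) (kgi xgi26 ygi48 zgi4) (kgi xgi27 ygi1 zgi1) (kgi xgi19 ygi32 zgi26) (kgi xgi16 ygi49 zgi5) (kgi xgi27 ygi0 zgi10) (kgi xgi16 ygi39 zgi5) (kgi xgi19 ygi9 zgi34) (kgi xgi20 ygi1 zgi10) (kgi xgi22 ygi31 zgi48)) (@D3.rec (fun _ => Pt) (kgi xgi20 ygi1 zgi11) (kgi xgi15 ygi23 zgi42) (kgi xgi17 ygi15 zgi11) (kgi xgi24 ygi56 zgi59) (kgi xgi24 ygi56 zgi57) (kgi xgi17 ygi23 zgi53) (kgi xgi13 ygi26 zgi59) (kgi xgi29 ygi21 zgi8) (kgi xgi11 ygi33 zgi2) (kgi xgi23 ygi48 zgi30) (kgi xgi16 ygi33 zgi32) (kgi xgi17 ygi0 zgi56) (kgi xgi20 ygi18 zgi23) (kgi xgi20 ygi0 zgi46) (kgi xgi20 ygi31 zgi20) (kgi xgi29 ygi19 zgi19) (kgi xgi11 ygi33 zgi5) (kgi xgi26 ygi55 zgi35)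 (kgi xgi26 ygi29 zgi8) (kgi xgi26 ygi55 zgi32) (kgi xgi29 ygi29 zgi4) (kgi xgi20 ygi28 zgi48) (kgi xgi13 ygi42 zgi21) (kgi xgi22 ygi47 zgi29) (kgi xgi29 ygi18 zgi58) (kgi xgi11 ygi33 zgi14) (kgi xgi11 ygi50 zgi41) (kgi xgi11 ygi50 zgi39) (kgi xgi24 ygi10 zgi36) (kgi xgi24 ygi4 zgi6) (kgi xgi11 ygi33 zgi16) (kgi xgi11 ygi50 zgi56) (kgi xgi11 ygi50 zgi54) (kgi xgi11 ygi33 zgi17) (kgi xgi29 ygi18 zgi44) (kgi xgi21 ygi0 zgi53) (kgi xgi23 ygi10 zgi56) (kgi xgi23 ygi3 zgi37) (kgi xgi24 ygi53 zgi22) (kgi xgi16 ygi32 zgi41) (kgi xgi16 ygi32 zgi38) (kgi xgi13 ygi16 zgi33) (kgi xgi22 ygi51 zgi5) (kgi xgi18 ygi45 zgi16) (kgi xgi28 ygi27 zgi32) (kgi xgi11 ygi33 zgi32) (kgi xgi14 ygi59 zgi47) (kgi xgi14 ygi59 zgi45) (kgi xgi16 ygi24 zgi22) (kgi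 xgi11 ygi33 zgi34) (kgi xgi20 ygi41 zgi1) (kgi xgi18 ygi41 zgi34) (kgi xgi11 ygi34 zgi17) (kgi xgi28 ygi45 zgi54) (kgi xgi19 ygi48 zgi22) (kgi xgi24 ygi47 zgi53) (kgi xgi17 ygi9 zgi17) (kgi xgi11 ygi33 zgi38) (kgi xgi11 ygi34 zgi32) (kgi xgi29 ygi18 zgi16) (kgi xgi11 ygi34 zgi29) (kgi xgi11 ygi33 zgi41)) (@D3.rec (fun _ => Pt) (kgi xgi11 ygi34 zgi46) (kgi xgi15 ygi10 zgi26) (kgi xgi24 ygi5 zgi34) (kgi xgi15 ygi23 zgi40) (kgi xgi15 ygi26 zgi46) (kgi xgi14 ygi20 zgi17) (kgi xgi15 ygi23 zgi38) (kgi xgi14 ygi0 zgi43) (kgi xgi15 ygi26 zgi49) (kgi xgi17 ygi23 zgi24) (kgi xgi15 ygi26 zgi27) (kgi xgi11 ygi33 zgi51) (kgi xgi18 ygi57 zgi25) (kgi xgi22 ygi16 zgi38) (kgi xgi29 ygi29 zgi20) (kgi xgi11 ygi46 zgi6) (kgi xgi12 ygi7 zgi43) (kgi xgi11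 ygi33 zgi57) (kgi xgi22 ygi32 zgi21) (kgi xgi29 ygi29 zgi31) (kgi xgi20 ygi30 zgi11) (kgi xgi20 ygi8 zgi36) (kgi xgi16 ygi35 zgi13) (kgi xgi11 ygi33 zgi59) (kgi xgi29 ygi29 zgi6) (kgi xgi16 ygi33 zgi45) (kgi xgi29 ygi29 zgi36) (kgi xgi26 ygi55 zgi34) (kgi xgi11 ygi34 zgi1) (kgi xgi13 ygi33 zgi12) (kgi xgi16 ygi32 zgi45) (kgi xgi12 ygi7 zgi41) (kgi xgi11 ygi34 zgi6) (kgi xgi21 ygi13 zgi32) (kgi xgi19 ygi51 zgi4) (kgi xgi21 ygi9 zgi4) (kgi xgi14 ygi59 zgi43) (kgi xgi11 ygi34 zgi15) (kgi xgi29 ygi29 zgi42) (kgi xgi29 ygi19 zgi7) (kgi xgi18 ygi47 zgi52) (kgi xgi26 ygi24 zgi59) (kgi xgi21 ygi14 zgi11) (kgi xgi11 ygi34 zgi9) (kgi xgi28 ygi13 zgi13) (kgi xgi15 ygi50 zgi33) (kgi xgi11 ygi34 zgi12) (kgi xgi20 ygi46 zgi61) (kgi xgi22 ygi5 zgi15)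 (kgi xgi20 ygi46 zgi58) (kgi xgi11 ygi34 zgi24) (kgi xgi17 ygi9 zgi15) (kgi xgi26 ygi55 zgi60) (kgi xgi29 ygi29 zgi50) (kgi xgi29 ygi29 zgi41) (kgi xgi28 ygi42 zgi34) (kgi xgi28 ygi42 zgi32) (kgi xgi12 ygi23 zgi10) (kgi xgi16 ygi25 zgi23) (kgi xgi16 ygi50 zgi36) (kgi xgi11 ygi40 zgi51) (kgi xgi22 ygi32 zgi16)) (@D3.rec (fun _ => Pt) (kgi xgi11 ygi34 zgi23) (kgi xgi11 ygi34 zgi27) (kgi xgi17 ygi15 zgi13) (kgi xgi29 ygi29 zgi54) (kgi xgi18 ygi18 zgi41) (kgi xgi29 ygi8 zgi7) (kgi xgi16 ygi27 zgi59) (kgi xgi15 ygi23 zgi41) (kgi xgi11 ygi34 zgi28) (kgi xgi20 ygi31 zgi21) (kgi xgi29 ygi29 zgi16) (kgi xgi20 ygi1 zgi16) (kgi xgi15 ygi0 zgi32) (kgi xgi29 ygi29 zgi57) (kgi xgi16 ygi27 zgi46) (kgi xgi19 ygi21 zgi14) (kgi xgi13 ygi46 zgi47) (kgi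 xgi11 ygi34 zgi31) (kgi xgi20 ygi18 zgi39) (kgi xgi29 ygi29 zgi17) (kgi xgi24 ygi59 zgi13) (kgi xgi27 ygi1 zgi24) (kgi xgi23 ygi19 zgi34) (kgi xgi11 ygi35 zgi11) (kgi xgi29 ygi30 zgi2) (kgi xgi11 ygi34 zgi35) (kgi xgi11 ygi34 zgi37) (kgi xgi25 ygi16 zgi10) (kgi xgi23 ygi52 zgi28) (kgi xgi13 ygi47 zgi50) (kgi xgi13 ygi48 zgi27) (kgi xgi29 ygi28 zgi33) (kgi xgi25 ygi16 zgi11) (kgi xgi22 ygi42 zgi9) (kgi xgi23 ygi18 zgi7) (kgi xgi15 ygi50 zgi18) (kgi xgi28 ygi27 zgi17) (kgi xgi22 ygi54 zgi41) (kgi xgi21 ygi2 zgi43) (kgi xgi11 ygi34 zgi41) (kgi xgi21 ygi2 zgi42) (kgi xgi18 ygi19 zgi21) (kgi xgi25 ygi18 zgi23) (kgi xgi25 ygi15 zgi60) (kgi xgi28 ygi26 zgi5) (kgi xgi25 ygi16 zgi2) (kgi xgi11 ygi34 zgi44) (kgi xgi26 ygi10 zgi6) (kgi xgi17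 ygi9 zgi30) (kgi xgi14 ygi28 zgi30) (kgi xgi11 ygi34 zgi45) (kgi xgi11 ygi35 zgi49) (kgi xgi20 ygi9 zgi4) (kgi xgi27 ygi5 zgi32) (kgi xgi11 ygi34 zgi47) (kgi xgi25 ygi16 zgi9) (kgi xgi20 ygi26 zgi6) (kgi xgi11 ygi58 zgi37) (kgi xgi15 ygi30 zgi37) (kgi xgi11 ygi34 zgi59) (kgi xgi19 ygi48 zgi61) (kgi xgi20 ygi0 zgi17)) (@D3.rec (fun _ => Pt) (kgi xgi20 ygi22 zgi60) (kgi xgi18 ygi42 zgi18) (kgi xgi11 ygi35 zgi7) (kgi xgi14 ygi29 zgi51) (kgi xgi18 ygi24 zgi12) (kgi xgi18 ygi24 zgi11) (kgi xgi15 ygi23 zgi49) (kgi xgi26 ygi26 zgi30) (kgi xgi29 ygi30 zgi12) (kgi xgi29 ygi30 zgi5) (kgi xgi11 ygi35 zgi12) (kgi xgi13 ygi34 zgi18) (kgi xgi14 ygi15 zgi46) (kgi xgi15 ygi26 zgi43) (kgi xgi11 ygi35 zgi15) (kgi xgi11 ygi35 zgi25) (kgi xgi22 ygi49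 zgi13) (kgi xgi11 ygi35 zgi16) (kgi xgi17 ygi24 zgi2) (kgi xgi29 ygi30 zgi20) (kgi xgi20 ygi47 zgi2) (kgi xgi24 ygi25 zgi36) (kgi xgi11 ygi49 zgi57) (kgi xgi29 ygi29 zgi60) (kgi xgi15 ygi10 zgi7) (kgi xgi22 ygi30 zgi48) (kgi xgi14 ygi0 zgi19) (kgi xgi23 ygi14 zgi25) (kgi xgi11 ygi35 zgi24) (kgi xgi28 ygi27 zgi7) (kgi xgi29 ygi29 zgi23) (kgi xgi29 ygi30 zgi26) (kgi xgi11 ygi35 zgi26) (kgi xgi19 ygi9 zgi39) (kgi xgi21 ygi38 zgi17) (kgi xgi21 ygi38 zgi14) (kgi xgi14 ygi31 zgi39) (kgi xgi14 ygi26 zgi17) (kgi xgi14 ygi30 zgi9) (kgi xgi11 ygi35 zgi33) (kgi xgi17 ygi1 zgi10) (kgi xgi11 ygi35 zgi34) (kgi xgi22 ygi23 zgi12) (kgi xgi21 ygi52 zgi27) (kgi xgi29 ygi19 zgi9) (kgi xgi11 ygi35 zgi42) (kgi xgi20 ygi18 zgi18) (kgi xgi29 ygi20 zgi16)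 (kgi xgi11 ygi35 zgi38) (kgi xgi27 ygi11 zgi57) (kgi xgi24 ygi53 zgi21) (kgi xgi21 ygi59 zgi58) (kgi xgi17 ygi18 zgi41) (kgi xgi20 ygi25 zgi59) (kgi xgi23 ygi47 zgi39) (kgi xgi27 ygi59 zgi57) (kgi xgi18 ygi57 zgi46) (kgi xgi11 ygi35 zgi46) (kgi xgi18 ygi57 zgi26) (kgi xgi25 ygi53 zgi27) (kgi xgi29 ygi21 zgi13) (kgi xgi22 ygi54 zgi7)) (@D3.rec (fun _ => Pt) (kgi xgi28 ygi20 zgi19) (kgi xgi23 ygi18 zgi31) (kgi xgi17 ygi58 zgi24) (kgi xgi26 ygi56 zgi5) (kgi xgi26 ygi56 zgi3) (kgi xgi28 ygi34 zgi4) (kgi xgi26 ygi53 zgi19) (kgi xgi11 ygi58 zgi3) (kgi xgi15 ygi26 zgi50) (kgi xgi27 ygi59 zgi59) (kgi xgi22 ygi32 zgi8) (kgi xgi22 ygi3 zgi12) (kgi xgi20 ygi51 zgi22) (kgi xgi12 ygi35 zgi15) (kgi xgi20 ygi25 zgi21) (kgi xgi13 ygi10 zgi47) (kgi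 xgi22 ygi23 zgi40) (kgi xgi11 ygi36 zgi9) (kgi xgi18 ygi12 zgi61) (kgi xgi18 ygi57 zgi4) (kgi xgi18 ygi15 zgi42) (kgi xgi20 ygi40 zgi17) (kgi xgi15 ygi26 zgi48) (kgi xgi12 ygi56 zgi55) (kgi xgi18 ygi57 zgi34) (kgi xgi12 ygi4 zgi56) (kgi xgi18 ygi57 zgi33) (kgi xgi16 ygi43 zgi35) (kgi xgi16 ygi24 zgi5) (kgi xgi21 ygi13 zgi52) (kgi xgi22 ygi3 zgi37) (kgi xgi12 ygi35 zgi16) (kgi xgi11 ygi36 zgi22) (kgi xgi24 ygi43 zgi23) (kgi xgi15 ygi6 zgi22) (kgi xgi16 ygi23 zgi58) (kgi xgi26 ygi27 zgi20) (kgi xgi29 ygi30 zgi59) (kgi xgi19 ygi53 zgi3) (kgi xgi17 ygi9 zgi58) (kgi xgi21 ygi44 zgi12) (kgi xgi11 ygi36 zgi30) (kgi xgi11 ygi36 zgi31) (kgi xgi17 ygi8 zgi2) (kgi xgi26 ygi26 zgi53) (kgi xgi17 ygi59 zgi55) (kgi xgi17 ygi8 zgi7) (kgi xgi29 ygi30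 zgi60) (kgi xgi26 ygi27 zgi6) (kgi xgi11 ygi36 zgi34) (kgi xgi26 ygi24 zgi50) (kgi xgi25 ygi18 zgi10) (kgi xgi20 ygi52 zgi39) (kgi xgi11 ygi49 zgi19) (kgi xgi27 ygi38 zgi55) (kgi xgi18 ygi23 zgi61) (kgi xgi18 ygi24 zgi47) (kgi xgi11 ygi49 zgi16) (kgi xgi19 ygi26 zgi29) (kgi xgi15 ygi49 zgi19) (kgi xgi28 ygi12 zgi50) (kgi xgi13 ygi33 zgi48)) (@D3.rec (fun _ => Pt) (kgi xgi20 ygi18 zgi21) (kgi xgi26 ygi23 zgi61) (kgi xgi17 ygi45 zgi42) (kgi xgi11 ygi37 zgi60) (kgi xgi28 ygi33 zgi43) (kgi xgi11 ygi37 zgi57) (kgi xgi15 ygi26 zgi32) (kgi xgi16 ygi31 zgi17) (kgi xgi16 ygi29 zgi55) (kgi xgi28 ygi17 zgi10) (kgi xgi16 ygi31 zgi14) (kgi xgi11 ygi36 zgi54) (kgi xgi11 ygi38 zgi17) (kgi xgi24 ygi0 zgi35) (kgi xgi26 ygi20 zgi17) (kgi xgi27 ygi38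 zgi36) (kgi xgi26 ygi46 zgi27) (kgi xgi12 ygi35 zgi1) (kgi xgi17 ygi33 zgi30) (kgi xgi27 ygi37 zgi49) (kgi xgi27 ygi0 zgi50) (kgi xgi11 ygi39 zgi1) (kgi xgi27 ygi59 zgi27) (kgi xgi16 ygi48 zgi30) (kgi xgi24 ygi53 zgi24) (kgi xgi28 ygi44 zgi33) (kgi xgi11 ygi37 zgi2) (kgi xgi11 ygi39 zgi16) (kgi xgi24 ygi15 zgi5) (kgi xgi29 ygi26 zgi23) (kgi xgi11 ygi39 zgi13) (kgi xgi25 ygi8 zgi17) (kgi xgi17 ygi7 zgi6) (kgi xgi17 ygi7 zgi9) (kgi xgi29 ygi31 zgi26) (kgi xgi17 ygi6 zgi61) (kgi xgi24 ygi35 zgi20) (kgi xgi17 ygi7 zgi4) (kgi xgi11 ygi37 zgi8) (kgi xgi19 ygi13 zgi51) (kgi xgi28 ygi40 zgi6) (kgi xgi11 ygi37 zgi9) (kgi xgi11 ygi39 zgi45) (kgi xgi26 ygi26 zgi20) (kgi xgi28 ygi40 zgi31) (kgi xgi11 ygi37 zgi11) (kgi xgi12 ygi45 zgi37) (kgi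 xgi26 ygi22 zgi35) (kgi xgi15 ygi25 zgi47) (kgi xgi22 ygi50 zgi16) (kgi xgi29 ygi19 zgi11) (kgi xgi20 ygi47 zgi61) (kgi xgi11 ygi37 zgi21) (kgi xgi26 ygi58 zgi10) (kgi xgi27 ygi14 zgi7) (kgi xgi11 ygi37 zgi24) (kgi xgi23 ygi10 zgi40) (kgi xgi13 ygi33 zgi46) (kgi xgi29 ygi31 zgi44) (kgi xgi11 ygi37 zgi28) (kgi xgi24 ygi0 zgi33) (kgi xgi20 ygi19 zgi50)) (@D3.rec (fun _ => Pt) (kgi xgi12 ygi47 zgi2) (kgi xgi11 ygi37 zgi35) (kgi xgi15 ygi25 zgi50) (kgi xgi28 ygi0 zgi25) (kgi xgi28 ygi13 zgi45) (kgi xgi26 ygi23 zgi5) (kgi xgi12 ygi37 zgi60) (kgi xgi26 ygi48 zgi40) (kgi xgi11 ygi37 zgi53) (kgi xgi18 ygi20 zgi0) (kgi xgi28 ygi12 zgi17) (kgi xgi21 ygi28 zgi45) (kgi xgi12 ygi46 zgi34) (kgi xgi27 ygi20 zgi56) (kgi xgi26 ygi4 zgi0) (kgi xgi26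 ygi22 zgi60) (kgi xgi27 ygi43 zgi39) (kgi xgi29 ygi31 zgi47) (kgi xgi25 ygi17 zgi9) (kgi xgi15 ygi59 zgi1) (kgi xgi29 ygi21 zgi56) (kgi xgi15 ygi59 zgi2) (kgi xgi11 ygi37 zgi50) (kgi xgi11 ygi37 zgi51) (kgi xgi12 ygi12 zgi38) (kgi xgi20 ygi19 zgi33) (kgi xgi11 ygi37 zgi52) (kgi xgi11 ygi37 zgi55) (kgi xgi29 ygi31 zgi58) (kgi xgi13 ygi38 zgi51) (kgi xgi15 ygi25 zgi55) (kgi xgi29 ygi31 zgi57) (kgi xgi26 ygi17 zgi20) (kgi xgi11 ygi37 zgi56) (kgi xgi20 ygi35 zgi49) (kgi xgi28 ygi12 zgi57) (kgi xgi26 ygi23 zgi16) (kgi xgi29 ygi31 zgi61) (kgi xgi28 ygi0 zgi16) (kgi xgi28 ygi35 zgi26) (kgi xgi26 ygi57 zgi34) (kgi xgi11 ygi37 zgi59) (kgi xgi25 ygi59 zgi16) (kgi xgi25 ygi53 zgi39) (kgi xgi27 ygi9 zgi40) (kgi xgi27 ygi0 zgi0) (kgi xgi11 ygi56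 zgi5) (kgi xgi28 ygi12 zgi15) (kgi xgi11 ygi38 zgi1) (kgi xgi11 ygi38 zgi4) (kgi xgi28 ygi52 zgi34) (kgi xgi29 ygi32 zgi14) (kgi xgi29 ygi32 zgi17) (kgi xgi23 ygi10 zgi35) (kgi xgi23 ygi10 zgi32) (kgi xgi21 ygi57 zgi48) (kgi xgi21 ygi2 zgi58) (kgi xgi29 ygi32 zgi13) (kgi xgi26 ygi38 zgi32) (kgi xgi18 ygi22 zgi1) (kgi xgi13 ygi31 zgi25) (kgi xgi22 ygi55 zgi27)) (@D3.rec (fun _ => Pt) (kgi xgi11 ygi38 zgi7) (kgi xgi11 ygi38 zgi11) (kgi xgi14 ygi27 zgi43) (kgi xgi26 ygi27 zgi49) (kgi xgi29 ygi32 zgi26) (kgi xgi11 ygi38 zgi9) (kgi xgi29 ygi31 zgi12) (kgi xgi26 ygi24 zgi29) (kgi xgi20 ygi28 zgi41) (kgi xgi14 ygi28 zgi29) (kgi xgi26 ygi27 zgi54) (kgi xgi14 ygi22 zgi39) (kgi xgi11 ygi38 zgi12) (kgi xgi13 ygi43 zgi50) (kgi xgi14 ygi25 zgi43)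 (kgi xgi29 ygi32 zgi29) (kgi xgi24 ygi38 zgi48) (kgi xgi28 ygi50 zgi9) (kgi xgi29 ygi32 zgi28) (kgi xgi13 ygi9 zgi53) (kgi xgi11 ygi38 zgi15) (kgi xgi13 ygi10 zgi22) (kgi xgi22 ygi25 zgi15) (kgi xgi24 ygi0 zgi43) (kgi xgi27 ygi0 zgi35) (kgi xgi28 ygi33 zgi37) (kgi xgi11 ygi38 zgi18) (kgi xgi27 ygi0 zgi2) (kgi xgi24 ygi19 zgi2) (kgi xgi21 ygi30 zgi30) (kgi xgi17 ygi14 zgi47) (kgi xgi21 ygi30 zgi27) (kgi xgi12 ygi27 zgi42) (kgi xgi17 ygi35 zgi3) (kgi xgi17 ygi19 zgi12) (kgi xgi11 ygi56 zgi46) (kgi xgi21 ygi20 zgi10) (kgi xgi12 ygi28 zgi11) (kgi xgi12 ygi43 zgi42) (kgi xgi26 ygi5 zgi40) (kgi xgi12 ygi28 zgi2) (kgi xgi24 ygi19 zgi3) (kgi xgi24 ygi19 zgi5) (kgi xgi11 ygi38 zgi58) (kgi xgi14 ygi36 zgi1) (kgi xgi29 ygi32 zgi44) (kgi xgi14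 ygi35 zgi55) (kgi xgi11 ygi38 zgi49) (kgi xgi11 ygi38 zgi39) (kgi xgi28 ygi43 zgi7) (kgi xgi18 ygi42 zgi7) (kgi xgi18 ygi37 zgi9) (kgi xgi11 ygi38 zgi42) (kgi xgi17 ygi14 zgi58) (kgi xgi21 ygi20 zgi21) (kgi xgi24 ygi19 zgi19) (kgi xgi20 ygi51 zgi17) (kgi xgi11 ygi38 zgi46) (kgi xgi12 ygi36 zgi8) (kgi xgi29 ygi32 zgi50) (kgi xgi21 ygi45 zgi49) (kgi xgi16 ygi47 zgi7)) (@D3.rec (fun _ => Pt) (kgi xgi20 ygi28 zgi30) (kgi xgi11 ygi38 zgi48) (kgi xgi22 ygi36 zgi13) (kgi xgi29 ygi9 zgi4) (kgi xgi11 ygi59 zgi9) (kgi xgi21 ygi41 zgi59) (kgi xgi14 ygi26 zgi46) (kgi xgi26 ygi46 zgi20) (kgi xgi29 ygi25 zgi37) (kgi xgi28 ygi44 zgi9) (kgi xgi18 ygi10 zgi25) (kgi xgi29 ygi32 zgi52) (kgi xgi11 ygi38 zgi57) (kgi xgi11 ygi39 zgi5) (kgi xgi27 ygi59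 zgi34) (kgi xgi18 ygi41 zgi47) (kgi xgi29 ygi6 zgi9) (kgi xgi21 ygi30 zgi19) (kgi xgi16 ygi41 zgi27) (kgi xgi19 ygi40 zgi38) (kgi xgi11 ygi38 zgi60) (kgi xgi11 ygi39 zgi7) (kgi xgi16 ygi40 zgi14) (kgi xgi29 ygi32 zgi60) (kgi xgi17 ygi7 zgi26) (kgi xgi18 ygi32 zgi46) (kgi xgi21 ygi20 zgi14) (kgi xgi28 ygi45 zgi37) (kgi xgi21 ygi28 zgi53) (kgi xgi11 ygi39 zgi6) (kgi xgi20 ygi34 zgi40) (kgi xgi16 ygi40 zgi18) (kgi xgi29 ygi32 zgi59) (kgi xgi16 ygi39 zgi35) (kgi xgi11 ygi39 zgi9) (kgi xgi11 ygi39 zgi12) (kgi xgi29 ygi33 zgi6) (kgi xgi20 ygi56 zgi10) (kgi xgi26 ygi46 zgi22) (kgi xgi24 ygi35 zgi6) (kgi xgi15 ygi4 zgi48) (kgi xgi20 ygi56 zgi37) (kgi xgi22 ygi13 zgi5) (kgi xgi26 ygi40 zgi13) (kgi xgi11 ygi39 zgi15) (kgi xgi28 ygi18 zgi12)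 (kgi xgi29 ygi33 zgi11) (kgi xgi16 ygi41 zgi37) (kgi xgi27 ygi0 zgi6) (kgi xgi21 ygi10 zgi24) (kgi xgi26 ygi24 zgi57) (kgi xgi29 ygi33 zgi13) (kgi xgi15 ygi51 zgi47) (kgi xgi19 ygi1 zgi3) (kgi xgi11 ygi39 zgi21) (kgi xgi26 ygi57 zgi30) (kgi xgi26 ygi57 zgi29) (kgi xgi26 ygi36 zgi9) (kgi xgi29 ygi33 zgi23) (kgi xgi29 ygi33 zgi26) (kgi xgi11 ygi39 zgi23) (kgi xgi11 ygi56 zgi30)) (@D3.rec (fun _ => Pt) (kgi xgi29 ygi33 zgi33) (kgi xgi26 ygi52 zgi19) (kgi xgi11 ygi54 zgi2) (kgi xgi24 ygi0 zgi52) (kgi xgi20 ygi51 zgi59) (kgi xgi25 ygi8 zgi2) (kgi xgi11 ygi39 zgi28) (kgi xgi29 ygi27 zgi52) (kgi xgi26 ygi35 zgi42) (kgi xgi29 ygi33 zgi41) (kgi xgi16 ygi38 zgi7) (kgi xgi11 ygi39 zgi29) (kgi xgi11 ygi39 zgi33) (kgi xgi16 ygi37 zgi48) (kgi xgi11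 ygi39 zgi30) (kgi xgi26 ygi2 zgi54) (kgi xgi11 ygi39 zgi32) (kgi xgi26 ygi36 zgi8) (kgi xgi26 ygi36 zgi17) (kgi xgi29 ygi33 zgi52) (kgi xgi11 ygi39 zgi35) (kgi xgi14 ygi45 zgi47) (kgi xgi29 ygi33 zgi56) (kgi xgi16 ygi41 zgi42) (kgi xgi20 ygi29 zgi5) (kgi xgi11 ygi39 zgi37) (kgi xgi11 ygi39 zgi40) (kgi xgi16 ygi37 zgi33) (kgi xgi20 ygi57 zgi1) (kgi xgi11 ygi39 zgi39) (kgi xgi20 ygi58 zgi42) (kgi xgi29 ygi31 zgi25) (kgi xgi29 ygi34 zgi6) (kgi xgi29 ygi34 zgi9) (kgi xgi24 ygi35 zgi19) (kgi xgi29 ygi34 zgi14) (kgi xgi29 ygi34 zgi2) (kgi xgi29 ygi34 zgi20) (kgi xgi29 ygi34 zgi23) (kgi xgi19 ygi13 zgi24) (kgi xgi11 ygi39 zgi44) (kgi xgi29 ygi31 zgi38) (kgi xgi29 ygi31 zgi37) (kgi xgi29 ygi34 zgi32) (kgi xgi11 ygi39 zgi46) (kgi xgi27 ygi0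 zgi8) (kgi xgi16 ygi42 zgi10) (kgi xgi21 ygi58 zgi6) (kgi xgi29 ygi33 zgi5) (kgi xgi11 ygi42 zgi46) (kgi xgi22 ygi23 zgi24) (kgi xgi14 ygi22 zgi29) (kgi xgi11 ygi39 zgi52) (kgi xgi11 ygi42 zgi42) (kgi xgi29 ygi34 zgi41) (kgi xgi22 ygi26 zgi47) (kgi xgi11 ygi39 zgi53) (kgi xgi11 ygi58 zgi54) (kgi xgi11 ygi42 zgi33) (kgi xgi20 ygi50 zgi58) (kgi xgi27 ygi1 zgi30) (kgi xgi11 ygi39 zgi58)) (@D3.rec (fun _ => Pt) (kgi xgi18 ygi25 zgi36) (kgi xgi17 ygi4 zgi22) (kgi xgi22 ygi4 zgi11) (kgi xgi21 ygi1 zgi50) (kgi xgi11 ygi40 zgi1) (kgi xgi29 ygi0 zgi20) (kgi xgi26 ygi46 zgi4) (kgi xgi11 ygi42 zgi59) (kgi xgi21 ygi36 zgi5) (kgi xgi23 ygi59 zgi13) (kgi xgi11 ygi40 zgi7) (kgi xgi29 ygi21 zgi49) (kgi xgi14 ygi24 zgi33) (kgi xgi29 ygi34 zgi52) (kgi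 xgi25 ygi55 zgi54) (kgi xgi20 ygi44 zgi48) (kgi xgi11 ygi40 zgi56) (kgi xgi20 ygi27 zgi42) (kgi xgi12 ygi38 zgi50) (kgi xgi11 ygi40 zgi18) (kgi xgi18 ygi0 zgi33) (kgi xgi18 ygi0 zgi31) (kgi xgi11 ygi40 zgi25) (kgi xgi11 ygi58 zgi18) (kgi xgi11 ygi58 zgi19) (kgi xgi11 ygi40 zgi28) (kgi xgi17 ygi13 zgi5) (kgi xgi12 ygi37 zgi35) (kgi xgi17 ygi23 zgi54) (kgi xgi22 ygi5 zgi0) (kgi xgi24 ygi7 zgi23) (kgi xgi20 ygi17 zgi3) (kgi xgi11 ygi40 zgi48) (kgi xgi12 ygi4 zgi13) (kgi xgi11 ygi40 zgi50) (kgi xgi21 ygi16 zgi28) (kgi xgi29 ygi34 zgi58) (kgi xgi18 ygi57 zgi55) (kgi xgi11 ygi58 zgi49) (kgi xgi27 ygi12 zgi58) (kgi xgi11 ygi58 zgi46) (kgi xgi20 ygi49 zgi0) (kgi xgi19 ygi19 zgi37) (kgi xgi28 ygi25 zgi9) (kgi xgi11 ygi42 zgi34) (kgi xgi16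 ygi54 zgi51) (kgi xgi18 ygi42 zgi10) (kgi xgi23 ygi49 zgi27) (kgi xgi11 ygi41 zgi3) (kgi xgi16 ygi54 zgi21) (kgi xgi26 ygi50 zgi23) (kgi xgi13 ygi5 zgi44) (kgi xgi28 ygi56 zgi15) (kgi xgi11 ygi41 zgi7) (kgi xgi27 ygi3 zgi18) (kgi xgi23 ygi46 zgi40) (kgi xgi13 ygi5 zgi47) (kgi xgi22 ygi15 zgi54) (kgi xgi27 ygi8 zgi6) (kgi xgi16 ygi59 zgi44) (kgi xgi18 ygi38 zgi16) (kgi xgi11 ygi41 zgi12)) (@D3.rec (fun _ => Pt) (kgi xgi11 ygi58 zgi59) (kgi xgi20 ygi30 zgi49) (kgi xgi26 ygi43 zgi60) (kgi xgi15 ygi26 zgi53) (kgi xgi23 ygi53 zgi7) (kgi xgi21 ygi11 zgi49) (kgi xgi20 ygi47 zgi23) (kgi xgi26 ygi29 zgi24) (kgi xgi26 ygi29 zgi25) (kgi xgi24 ygi54 zgi38) (kgi xgi29 ygi35 zgi10) (kgi xgi17 ygi10 zgi61) (kgi xgi17 ygi8 zgi16) (kgi xgi24 ygi34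 zgi41) (kgi xgi26 ygi50 zgi24) (kgi xgi24 ygi30 zgi31) (kgi xgi29 ygi35 zgi11) (kgi xgi11 ygi42 zgi27) (kgi xgi11 ygi41 zgi25) (kgi xgi11 ygi42 zgi30) (kgi xgi29 ygi35 zgi16) (kgi xgi14 ygi12 zgi56) (kgi xgi29 ygi35 zgi19) (kgi xgi13 ygi8 zgi18) (kgi xgi17 ygi32 zgi31) (kgi xgi11 ygi41 zgi28) (kgi xgi11 ygi42 zgi40) (kgi xgi29 ygi35 zgi24) (kgi xgi11 ygi41 zgi30) (kgi xgi11 ygi42 zgi50) (kgi xgi29 ygi35 zgi28) (kgi xgi29 ygi35 zgi29) (kgi xgi14 ygi51 zgi19) (kgi xgi20 ygi29 zgi15) (kgi xgi20 ygi29 zgi18) (kgi xgi11 ygi41 zgi35) (kgi xgi27 ygi30 zgi16) (kgi xgi29 ygi15 zgi29) (kgi xgi17 ygi32 zgi24) (kgi xgi11 ygi41 zgi60) (kgi xgi16 ygi58 zgi36) (kgi xgi11 ygi41 zgi57) (kgi xgi29 ygi35 zgi34) (kgi xgi16 ygi58 zgi45) (kgi xgi24 ygi14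 zgi27) (kgi xgi24 ygi6 zgi7) (kgi xgi21 ygi14 zgi10) (kgi xgi11 ygi41 zgi46) (kgi xgi14 ygi16 zgi1) (kgi xgi29 ygi35 zgi43) (kgi xgi13 ygi22 zgi29) (kgi xgi13 ygi14 zgi56) (kgi xgi29 ygi35 zgi45) (kgi xgi24 ygi18 zgi40) (kgi xgi20 ygi27 zgi9) (kgi xgi11 ygi41 zgi50) (kgi xgi24 ygi12 zgi30) (kgi xgi26 ygi53 zgi49) (kgi xgi22 ygi7 zgi46) (kgi xgi11 ygi41 zgi53) (kgi xgi17 ygi31 zgi35) (kgi xgi11 ygi59 zgi0)) (@D3.rec (fun _ => Pt) (kgi xgi26 ygi46 zgi53) (kgi xgi11 ygi41 zgi59) (kgi xgi29 ygi35 zgi33) (kgi xgi29 ygi35 zgi59) (kgi xgi29 ygi36 zgi1) (kgi xgi16 ygi58 zgi33) (kgi xgi26 ygi57 zgi25) (kgi xgi11 ygi41 zgi61) (kgi xgi11 ygi42 zgi1) (kgi xgi27 ygi30 zgi17) (kgi xgi28 ygi36 zgi44) (kgi xgi29 ygi36 zgi11) (kgi xgi29 ygi0 zgi3)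 (kgi xgi20 ygi26 zgi43) (kgi xgi16 ygi57 zgi58) (kgi xgi29 ygi15 zgi17) (kgi xgi20 ygi54 zgi25) (kgi xgi11 ygi42 zgi4) (kgi xgi20 ygi22 zgi8) (kgi xgi26 ygi10 zgi53) (kgi xgi23 ygi47 zgi4) (kgi xgi23 ygi52 zgi38) (kgi xgi21 ygi42 zgi54) (kgi xgi11 ygi42 zgi9) (kgi xgi17 ygi35 zgi0) (kgi xgi21 ygi41 zgi28) (kgi xgi19 ygi59 zgi57) (kgi xgi17 ygi56 zgi14) (kgi xgi19 ygi46 zgi47) (kgi xgi17 ygi58 zgi13) (kgi xgi17 ygi31 zgi51) (kgi xgi14 ygi32 zgi52) (kgi xgi24 ygi16 zgi56) (kgi xgi24 ygi11 zgi47) (kgi xgi11 ygi47 zgi53) (kgi xgi11 ygi42 zgi21) (kgi xgi20 ygi49 zgi29) (kgi xgi20 ygi49 zgi27) (kgi xgi29 ygi36 zgi27) (kgi xgi24 ygi2 zgi7) (kgi xgi11 ygi42 zgi24) (kgi xgi19 ygi52 zgi37) (kgi xgi23 ygi53 zgi15) (kgi xgi24 ygi5 zgi59) (kgi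 xgi11 ygi42 zgi26) (kgi xgi22 ygi26 zgi46) (kgi xgi20 ygi30 zgi7) (kgi xgi17 ygi23 zgi38) (kgi xgi29 ygi36 zgi35) (kgi xgi22 ygi5 zgi36) (kgi xgi17 ygi58 zgi11) (kgi xgi29 ygi36 zgi34) (kgi xgi11 ygi42 zgi29) (kgi xgi22 ygi14 zgi1) (kgi xgi23 ygi13 zgi15) (kgi xgi29 ygi35 zgi15) (kgi xgi19 ygi25 zgi5) (kgi xgi11 ygi42 zgi32) (kgi xgi11 ygi42 zgi35) (kgi xgi29 ygi36 zgi48) (kgi xgi22 ygi14 zgi14) (kgi xgi11 ygi59 zgi3)) (@D3.rec (fun _ => Pt) (kgi xgi28 ygi38 zgi42) (kgi xgi24 ygi2 zgi52) (kgi xgi27 ygi13 zgi11) (kgi xgi13 ygi46 zgi12) (kgi xgi21 ygi3 zgi23) (kgi xgi29 ygi36 zgi58) (kgi xgi14 ygi12 zgi55) (kgi xgi22 ygi12 zgi35) (kgi xgi27 ygi12 zgi45) (kgi xgi11 ygi42 zgi39) (kgi xgi22 ygi16 zgi4) (kgi xgi29 ygi37 zgi2) (kgi xgi13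 ygi36 zgi22) (kgi xgi24 ygi15 zgi49) (kgi xgi27 ygi7 zgi20) (kgi xgi18 ygi57 zgi38) (kgi xgi29 ygi34 zgi39) (kgi xgi22 ygi14 zgi10) (kgi xgi15 ygi20 zgi49) (kgi xgi19 ygi49 zgi50) (kgi xgi25 ygi33 zgi11) (kgi xgi27 ygi21 zgi41) (kgi xgi29 ygi37 zgi10) (kgi xgi17 ygi56 zgi21) (kgi xgi29 ygi37 zgi12) (kgi xgi28 ygi57 zgi22) (kgi xgi15 ygi39 zgi38) (kgi xgi28 ygi57 zgi21) (kgi xgi11 ygi42 zgi49) (kgi xgi29 ygi34 zgi37) (kgi xgi23 ygi1 zgi28) (kgi xgi13 ygi33 zgi50) (kgi xgi23 ygi1 zgi31) (kgi xgi12 ygi49 zgi58) (kgi xgi24 ygi38 zgi28) (kgi xgi28 ygi19 zgi34) (kgi xgi11 ygi42 zgi54) (kgi xgi11 ygi56 zgi16) (kgi xgi25 ygi14 zgi18) (kgi xgi24 ygi36 zgi30) (kgi xgi17 ygi56 zgi20) (kgi xgi19 ygi49 zgi33) (kgi xgi29 ygi37 zgi24) (kgi xgi25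 ygi33 zgi12) (kgi xgi25 ygi14 zgi2) (kgi xgi15 ygi18 zgi6) (kgi xgi29 ygi37 zgi28) (kgi xgi14 ygi51 zgi18) (kgi xgi14 ygi51 zgi21) (kgi xgi25 ygi4 zgi21) (kgi xgi14 ygi50 zgi46) (kgi xgi14 ygi49 zgi20) (kgi xgi25 ygi37 zgi32) (kgi xgi12 ygi57 zgi19) (kgi xgi25 ygi36 zgi14) (kgi xgi17 ygi11 zgi56) (kgi xgi25 ygi6 zgi55) (kgi xgi15 ygi39 zgi42) (kgi xgi24 ygi8 zgi52) (kgi xgi25 ygi36 zgi0) (kgi xgi22 ygi10 zgi54) (kgi xgi29 ygi37 zgi40)) (@D3.rec (fun _ => Pt) (kgi xgi29 ygi37 zgi44) (kgi xgi11 ygi43 zgi11) (kgi xgi13 ygi32 zgi43) (kgi xgi29 ygi37 zgi47) (kgi xgi11 ygi43 zgi13) (kgi xgi25 ygi59 zgi2) (kgi xgi21 ygi35 zgi57) (kgi xgi17 ygi34 zgi2) (kgi xgi11 ygi43 zgi16) (kgi xgi17 ygi24 zgi42) (kgi xgi29 ygi37 zgi54) (kgi xgi17 ygi24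 zgi39) (kgi xgi13 ygi11 zgi5) (kgi xgi21 ygi52 zgi25) (kgi xgi27 ygi16 zgi8) (kgi xgi11 ygi43 zgi19) (kgi xgi12 ygi52 zgi6) (kgi xgi29 ygi38 zgi0) (kgi xgi27 ygi7 zgi30) (kgi xgi13 ygi7 zgi35) (kgi xgi29 ygi25 zgi31) (kgi xgi22 ygi37 zgi21) (kgi xgi13 ygi12 zgi11) (kgi xgi11 ygi43 zgi23) (kgi xgi11 ygi46 zgi12) (kgi xgi22 ygi24 zgi16) (kgi xgi11 ygi46 zgi9) (kgi xgi21 ygi52 zgi28) (kgi xgi13 ygi11 zgi11) (kgi xgi13 ygi12 zgi23) (kgi xgi21 ygi52 zgi24) (kgi xgi20 ygi45 zgi9) (kgi xgi20 ygi48 zgi43) (kgi xgi13 ygi11 zgi53) (kgi xgi11 ygi46 zgi37) (kgi xgi19 ygi25 zgi39) (kgi xgi13 ygi11 zgi32) (kgi xgi23 ygi14 zgi38) (kgi xgi27 ygi50 zgi42) (kgi xgi14 ygi37 zgi1) (kgi xgi11 ygi43 zgi32) (kgi xgi11 ygi43 zgi33) (kgi xgi11 ygi44 zgi43)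 (kgi xgi11 ygi43 zgi34) (kgi xgi11 ygi44 zgi44) (kgi xgi12 ygi51 zgi55) (kgi xgi11 ygi43 zgi42) (kgi xgi22 ygi26 zgi19) (kgi xgi20 ygi40 zgi51) (kgi xgi11 ygi43 zgi37) (kgi xgi16 ygi31 zgi37) (kgi xgi29 ygi22 zgi12) (kgi xgi11 ygi46 zgi49) (kgi xgi11 ygi46 zgi48) (kgi xgi29 ygi38 zgi16) (kgi xgi29 ygi18 zgi25) (kgi xgi29 ygi22 zgi27) (kgi xgi24 ygi31 zgi6) (kgi xgi24 ygi33 zgi12) (kgi xgi11 ygi43 zgi49) (kgi xgi18 ygi0 zgi24) (kgi xgi27 ygi12 zgi26)) (@D3.rec (fun _ => Pt) (kgi xgi18 ygi0 zgi21) (kgi xgi14 ygi11 zgi16) (kgi xgi11 ygi43 zgi51) (kgi xgi18 ygi0 zgi28) (kgi xgi24 ygi39 zgi24) (kgi xgi18 ygi0 zgi25) (kgi xgi19 ygi52 zgi57) (kgi xgi11 ygi44 zgi59) (kgi xgi17 ygi24 zgi10) (kgi xgi20 ygi44 zgi32) (kgi xgi13 ygi0 zgi61) (kgi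 xgi24 ygi39 zgi27) (kgi xgi14 ygi13 zgi39) (kgi xgi11 ygi44 zgi10) (kgi xgi22 ygi50 zgi12) (kgi xgi11 ygi44 zgi7) (kgi xgi11 ygi44 zgi6) (kgi xgi26 ygi23 zgi33) (kgi xgi28 ygi12 zgi46) (kgi xgi26 ygi23 zgi28) (kgi xgi22 ygi18 zgi20) (kgi xgi14 ygi14 zgi2) (kgi xgi28 ygi23 zgi0) (kgi xgi11 ygi44 zgi9) (kgi xgi29 ygi38 zgi25) (kgi xgi13 ygi30 zgi42) (kgi xgi29 ygi38 zgi24) (kgi xgi17 ygi19 zgi35) (kgi xgi11 ygi44 zgi12) (kgi xgi20 ygi15 zgi44) (kgi xgi29 ygi38 zgi33) (kgi xgi20 ygi19 zgi11) (kgi xgi17 ygi23 zgi26) (kgi xgi18 ygi7 zgi11) (kgi xgi29 ygi38 zgi36) (kgi xgi18 ygi0 zgi2) (kgi xgi29 ygi38 zgi32) (kgi xgi14 ygi14 zgi17) (kgi xgi17 ygi23 zgi31) (kgi xgi20 ygi39 zgi58) (kgi xgi22 ygi18 zgi41) (kgi xgi20 ygi46 zgi53) (kgi xgi23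 ygi7 zgi31) (kgi xgi11 ygi44 zgi21) (kgi xgi22 ygi18 zgi16) (kgi xgi26 ygi19 zgi7) (kgi xgi24 ygi56 zgi11) (kgi xgi27 ygi12 zgi21) (kgi xgi29 ygi38 zgi49) (kgi xgi11 ygi48 zgi18) (kgi xgi20 ygi20 zgi27) (kgi xgi20 ygi13 zgi58) (kgi xgi11 ygi44 zgi25) (kgi xgi14 ygi4 zgi11) (kgi xgi23 ygi7 zgi28) (kgi xgi20 ygi39 zgi56) (kgi xgi11 ygi47 zgi11) (kgi xgi18 ygi57 zgi18) (kgi xgi14 ygi20 zgi18) (kgi xgi11 ygi44 zgi37) (kgi xgi27 ygi10 zgi54) (kgi xgi26 ygi51 zgi25)) (@D3.rec (fun _ => Pt) (kgi xgi29 ygi38 zgi54) (kgi xgi19 ygi23 zgi16) (kgi xgi11 ygi44 zgi40) (kgi xgi11 ygi44 zgi42) (kgi xgi24 ygi30 zgi9) (kgi xgi19 ygi40 zgi37) (kgi xgi14 ygi16 zgi20) (kgi xgi22 ygi41 zgi20) (kgi xgi15 ygi25 zgi0) (kgi xgi24 ygi34 zgi33) (kgi xgi22 ygi42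 zgi30) (kgi xgi11 ygi44 zgi53) (kgi xgi27 ygi21 zgi4) (kgi xgi20 ygi23 zgi10) (kgi xgi22 ygi11 zgi36) (kgi xgi19 ygi47 zgi47) (kgi xgi22 ygi18 zgi3) (kgi xgi23 ygi55 zgi28) (kgi xgi20 ygi25 zgi1) (kgi xgi29 ygi39 zgi0) (kgi xgi11 ygi58 zgi60) (kgi xgi17 ygi23 zgi23) (kgi xgi29 ygi39 zgi4) (kgi xgi19 ygi40 zgi40) (kgi xgi13 ygi2 zgi53) (kgi xgi27 ygi6 zgi33) (kgi xgi25 ygi51 zgi45) (kgi xgi20 ygi42 zgi30) (kgi xgi19 ygi26 zgi51) (kgi xgi17 ygi59 zgi15) (kgi xgi20 ygi26 zgi14) (kgi xgi21 ygi36 zgi29) (kgi xgi11 ygi45 zgi16) (kgi xgi14 ygi19 zgi14) (kgi xgi27 ygi12 zgi17) (kgi xgi13 ygi21 zgi23) (kgi xgi23 ygi37 zgi8) (kgi xgi11 ygi45 zgi24) (kgi xgi29 ygi39 zgi6) (kgi xgi18 ygi49 zgi58) (kgi xgi19 ygi34 zgi26) (kgi xgi20 ygi47 zgi40)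 (kgi xgi17 ygi11 zgi18) (kgi xgi18 ygi47 zgi19) (kgi xgi29 ygi39 zgi11) (kgi xgi27 ygi13 zgi0) (kgi xgi24 ygi15 zgi24) (kgi xgi13 ygi52 zgi19) (kgi xgi29 ygi7 zgi30) (kgi xgi11 ygi45 zgi33) (kgi xgi24 ygi15 zgi27) (kgi xgi29 ygi39 zgi17) (kgi xgi24 ygi46 zgi54) (kgi xgi20 ygi45 zgi38) (kgi xgi18 ygi51 zgi39) (kgi xgi17 ygi31 zgi29) (kgi xgi11 ygi46 zgi29) (kgi xgi14 ygi31 zgi38) (kgi xgi11 ygi45 zgi40) (kgi xgi20 ygi31 zgi49) (kgi xgi28 ygi22 zgi1) (kgi xgi20 ygi31 zgi46)) (@D3.rec (fun _ => Pt) (kgi xgi22 ygi0 zgi24) (kgi xgi22 ygi23 zgi11) (kgi xgi20 ygi31 zgi5) (kgi xgi14 ygi30 zgi1) (kgi xgi11 ygi45 zgi43) (kgi xgi29 ygi39 zgi25) (kgi xgi23 ygi57 zgi27) (kgi xgi21 ygi51 zgi13) (kgi xgi21 ygi3 zgi32) (kgi xgi18 ygi45 zgi28) (kgi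 xgi29 ygi38 zgi19) (kgi xgi18 ygi45 zgi29) (kgi xgi11 ygi45 zgi50) (kgi xgi20 ygi46 zgi21) (kgi xgi26 ygi10 zgi34) (kgi xgi29 ygi39 zgi29) (kgi xgi27 ygi9 zgi30) (kgi xgi29 ygi39 zgi28) (kgi xgi11 ygi46 zgi5) (kgi xgi11 ygi45 zgi54) (kgi xgi13 ygi3 zgi48) (kgi xgi29 ygi36 zgi61) (kgi xgi27 ygi12 zgi43) (kgi xgi12 ygi7 zgi27) (kgi xgi18 ygi49 zgi50) (kgi xgi12 ygi47 zgi28) (kgi xgi11 ygi46 zgi0) (kgi xgi27 ygi38 zgi31) (kgi xgi29 ygi38 zgi41) (kgi xgi27 ygi43 zgi22) (kgi xgi11 ygi46 zgi2) (kgi xgi13 ygi47 zgi26) (kgi xgi20 ygi24 zgi57) (kgi xgi23 ygi0 zgi10) (kgi xgi21 ygi30 zgi55) (kgi xgi19 ygi59 zgi54) (kgi xgi11 ygi46 zgi4) (kgi xgi13 ygi12 zgi15) (kgi xgi29 ygi39 zgi45) (kgi xgi28 ygi15 zgi26) (kgi xgi27 ygi2 zgi34) (kgi xgi27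 ygi12 zgi42) (kgi xgi27 ygi5 zgi8) (kgi xgi29 ygi39 zgi50) (kgi xgi21 ygi9 zgi7) (kgi xgi20 ygi48 zgi55) (kgi xgi13 ygi11 zgi8) (kgi xgi21 ygi52 zgi33) (kgi xgi29 ygi39 zgi52) (kgi xgi22 ygi25 zgi33) (kgi xgi29 ygi39 zgi49) (kgi xgi19 ygi22 zgi28) (kgi xgi13 ygi20 zgi22) (kgi xgi20 ygi48 zgi34) (kgi xgi22 ygi24 zgi15) (kgi xgi29 ygi39 zgi55) (kgi xgi18 ygi46 zgi43) (kgi xgi13 ygi52 zgi18) (kgi xgi24 ygi25 zgi58) (kgi xgi20 ygi52 zgi30) (kgi xgi11 ygi46 zgi15) (kgi xgi21 ygi18 zgi35)) (@D3.rec (fun _ => Pt) (kgi xgi27 ygi7 zgi29) (kgi xgi13 ygi10 zgi40) (kgi xgi22 ygi25 zgi29) (kgi xgi11 ygi46 zgi18) (kgi xgi11 ygi46 zgi24) (kgi xgi29 ygi40 zgi0) (kgi xgi11 ygi46 zgi19) (kgi xgi13 ygi7 zgi39) (kgi xgi24 ygi21 zgi23) (kgi xgi11 ygi46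 zgi22) (kgi xgi21 ygi52 zgi30) (kgi xgi29 ygi40 zgi5) (kgi xgi29 ygi40 zgi6) (kgi xgi21 ygi52 zgi52) (kgi xgi24 ygi9 zgi54) (kgi xgi11 ygi46 zgi26) (kgi xgi11 ygi46 zgi30) (kgi xgi28 ygi51 zgi18) (kgi xgi17 ygi31 zgi11) (kgi xgi13 ygi45 zgi56) (kgi xgi29 ygi40 zgi12) (kgi xgi26 ygi56 zgi28) (kgi xgi29 ygi40 zgi15) (kgi xgi13 ygi7 zgi49) (kgi xgi29 ygi40 zgi18) (kgi xgi13 ygi7 zgi29) (kgi xgi29 ygi40 zgi21) (kgi xgi29 ygi40 zgi23) (kgi xgi11 ygi46 zgi35) (kgi xgi29 ygi40 zgi25) (kgi xgi29 ygi40 zgi29) (kgi xgi29 ygi40 zgi33) (kgi xgi29 ygi40 zgi26) (kgi xgi24 ygi11 zgi15) (kgi xgi22 ygi24 zgi27) (kgi xgi11 ygi46 zgi38) (kgi xgi17 ygi4 zgi48) (kgi xgi21 ygi47 zgi34) (kgi xgi17 ygi59 zgi19) (kgi xgi14 ygi48 zgi8) (kgi xgi17 ygi51 zgi43)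 (kgi xgi17 ygi32 zgi13) (kgi xgi24 ygi2 zgi51) (kgi xgi20 ygi44 zgi31) (kgi xgi22 ygi19 zgi47) (kgi xgi24 ygi24 zgi51) (kgi xgi24 ygi21 zgi47) (kgi xgi21 ygi49 zgi38) (kgi xgi11 ygi46 zgi50) (kgi xgi24 ygi5 zgi54) (kgi xgi21 ygi52 zgi44) (kgi xgi29 ygi40 zgi49) (kgi xgi29 ygi40 zgi50) (kgi xgi29 ygi26 zgi6) (kgi xgi14 ygi52 zgi35) (kgi xgi20 ygi47 zgi37) (kgi xgi29 ygi40 zgi52) (kgi xgi22 ygi26 zgi4) (kgi xgi11 ygi46 zgi55) (kgi xgi22 ygi19 zgi42) (kgi xgi26 ygi42 zgi37) (kgi xgi14 ygi52 zgi29)) (@D3.rec (fun _ => Pt) (kgi xgi21 ygi3 zgi45) (kgi xgi26 ygi28 zgi1) (kgi xgi20 ygi14 zgi41) (kgi xgi17 ygi49 zgi18) (kgi xgi20 ygi14 zgi37) (kgi xgi20 ygi14 zgi54) (kgi xgi21 ygi3 zgi30) (kgi xgi20 ygi14 zgi51) (kgi xgi26 ygi4 zgi14) (kgi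 xgi12 ygi56 zgi14) (kgi xgi25 ygi42 zgi34) (kgi xgi29 ygi41 zgi0) (kgi xgi16 ygi46 zgi2) (kgi xgi26 ygi54 zgi8) (kgi xgi21 ygi39 zgi7) (kgi xgi25 ygi18 zgi29) (kgi xgi29 ygi41 zgi3) (kgi xgi11 ygi47 zgi12) (kgi xgi20 ygi23 zgi36) (kgi xgi20 ygi14 zgi48) (kgi xgi24 ygi30 zgi10) (kgi xgi11 ygi47 zgi21) (kgi xgi24 ygi5 zgi55) (kgi xgi14 ygi10 zgi36) (kgi xgi16 ygi24 zgi55) (kgi xgi16 ygi31 zgi34) (kgi xgi20 ygi18 zgi1) (kgi xgi11 ygi47 zgi27) (kgi xgi20 ygi42 zgi37) (kgi xgi20 ygi42 zgi35) (kgi xgi29 ygi41 zgi11) (kgi xgi11 ygi47 zgi34) (kgi xgi11 ygi47 zgi29) (kgi xgi29 ygi23 zgi40) (kgi xgi14 ygi33 zgi36) (kgi xgi29 ygi23 zgi39) (kgi xgi24 ygi16 zgi11) (kgi xgi12 ygi49 zgi2) (kgi xgi24 ygi14 zgi60) (kgi xgi11 ygi47 zgi33) (kgi xgi29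 ygi23 zgi37) (kgi xgi28 ygi58 zgi36) (kgi xgi29 ygi41 zgi20) (kgi xgi29 ygi41 zgi23) (kgi xgi29 ygi41 zgi27) (kgi xgi11 ygi47 zgi35) (kgi xgi19 ygi45 zgi35) (kgi xgi16 ygi59 zgi4) (kgi xgi26 ygi23 zgi53) (kgi xgi26 ygi23 zgi56) (kgi xgi22 ygi52 zgi21) (kgi xgi29 ygi41 zgi32) (kgi xgi28 ygi44 zgi49) (kgi xgi11 ygi47 zgi41) (kgi xgi12 ygi30 zgi31) (kgi xgi27 ygi9 zgi10) (kgi xgi11 ygi47 zgi54) (kgi xgi12 ygi24 zgi55) (kgi xgi29 ygi41 zgi34) (kgi xgi20 ygi1 zgi45) (kgi xgi18 ygi44 zgi16) (kgi xgi11 ygi47 zgi46)) (@D3.rec (fun _ => Pt) (kgi xgi29 ygi23 zgi45) (kgi xgi29 ygi23 zgi43) (kgi xgi29 ygi41 zgi43) (kgi xgi25 ygi50 zgi31) (kgi xgi17 ygi25 zgi15) (kgi xgi11 ygi47 zgi48) (kgi xgi29 ygi41 zgi52) (kgi xgi16 ygi45 zgi37) (kgi xgi11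 ygi47 zgi57) (kgi xgi17 ygi12 zgi22) (kgi xgi11 ygi47 zgi52) (kgi xgi24 ygi33 zgi38) (kgi xgi14 ygi51 zgi34) (kgi xgi23 ygi4 zgi59) (kgi xgi20 ygi3 zgi37) (kgi xgi11 ygi47 zgi55) (kgi xgi29 ygi23 zgi50) (kgi xgi29 ygi23 zgi49) (kgi xgi29 ygi40 zgi1) (kgi xgi29 ygi41 zgi60) (kgi xgi29 ygi42 zgi1) (kgi xgi25 ygi15 zgi6) (kgi xgi22 ygi55 zgi21) (kgi xgi28 ygi58 zgi18) (kgi xgi17 ygi4 zgi53) (kgi xgi26 ygi30 zgi60) (kgi xgi24 ygi33 zgi50) (kgi xgi29 ygi42 zgi2) (kgi xgi18 ygi51 zgi11) (kgi xgi25 ygi56 zgi47) (kgi xgi11 ygi47 zgi61) (kgi xgi29 ygi23 zgi52) (kgi xgi22 ygi59 zgi32) (kgi xgi25 ygi56 zgi38) (kgi xgi13 ygi43 zgi2) (kgi xgi22 ygi54 zgi56) (kgi xgi29 ygi42 zgi18) (kgi xgi22 ygi7 zgi4) (kgi xgi11 ygi48 zgi2) (kgi xgi29 ygi34 zgi54)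 (kgi xgi29 ygi34 zgi53) (kgi xgi11 ygi48 zgi7) (kgi xgi13 ygi23 zgi24) (kgi xgi11 ygi48 zgi8) (kgi xgi11 ygi48 zgi35) (kgi xgi13 ygi16 zgi43) (kgi xgi18 ygi43 zgi12) (kgi xgi29 ygi27 zgi47) (kgi xgi25 ygi18 zgi50) (kgi xgi19 ygi51 zgi56) (kgi xgi15 ygi3 zgi45) (kgi xgi28 ygi0 zgi61) (kgi xgi26 ygi55 zgi28) (kgi xgi19 ygi52 zgi36) (kgi xgi20 ygi20 zgi31) (kgi xgi28 ygi48 zgi43) (kgi xgi23 ygi30 zgi42) (kgi xgi19 ygi48 zgi60) (kgi xgi20 ygi22 zgi61) (kgi xgi20 ygi26 zgi10) (kgi xgi12 ygi10 zgi52) (kgi xgi23 ygi57 zgi39)) (@D3.rec (fun _ => Pt) (kgi xgi26 ygi45 zgi32) (kgi xgi24 ygi22 zgi2) (kgi xgi20 ygi19 zgi48) (kgi xgi11 ygi48 zgi34) (kgi xgi13 ygi50 zgi26) (kgi xgi16 ygi57 zgi31) (kgi xgi11 ygi48 zgi37) (kgi xgi12 ygi43 zgi46) (kgi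 xgi15 ygi37 zgi9) (kgi xgi27 ygi36 zgi21) (kgi xgi16 ygi48 zgi49) (kgi xgi11 ygi48 zgi39) (kgi xgi12 ygi53 zgi49) (kgi xgi20 ygi16 zgi16) (kgi xgi12 ygi56 zgi8) (kgi xgi11 ygi48 zgi46) (kgi xgi17 ygi9 zgi60) (kgi xgi16 ygi59 zgi36) (kgi xgi14 ygi36 zgi34) (kgi xgi12 ygi17 zgi43) (kgi xgi11 ygi49 zgi13) (kgi xgi11 ygi49 zgi11) (kgi xgi18 ygi43 zgi51) (kgi xgi12 ygi41 zgi9) (kgi xgi14 ygi20 zgi56) (kgi xgi11 ygi48 zgi58) (kgi xgi11 ygi48 zgi59) (kgi xgi12 ygi54 zgi50) (kgi xgi25 ygi42 zgi26) (kgi xgi11 ygi48 zgi61) (kgi xgi20 ygi53 zgi45) (kgi xgi12 ygi36 zgi54) (kgi xgi12 ygi39 zgi26) (kgi xgi21 ygi57 zgi22) (kgi xgi27 ygi38 zgi9) (kgi xgi12 ygi36 zgi12) (kgi xgi11 ygi49 zgi6) (kgi xgi23 ygi54 zgi5) (kgi xgi11 ygi49 zgi7) (kgi xgi20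 ygi26 zgi11) (kgi xgi20 ygi26 zgi13) (kgi xgi14 ygi33 zgi11) (kgi xgi21 ygi30 zgi21) (kgi xgi27 ygi43 zgi26) (kgi xgi12 ygi14 zgi7) (kgi xgi14 ygi36 zgi33) (kgi xgi19 ygi17 zgi14) (kgi xgi20 ygi23 zgi12) (kgi xgi25 ygi17 zgi58) (kgi xgi28 ygi0 zgi60) (kgi xgi24 ygi19 zgi4) (kgi xgi26 ygi2 zgi58) (kgi xgi17 ygi1 zgi32) (kgi xgi26 ygi57 zgi52) (kgi xgi16 ygi59 zgi41) (kgi xgi18 ygi25 zgi43) (kgi xgi11 ygi49 zgi35) (kgi xgi12 ygi37 zgi27) (kgi xgi21 ygi57 zgi58) (kgi xgi26 ygi37 zgi21) (kgi xgi11 ygi50 zgi21) (kgi xgi27 ygi0 zgi51)) (@D3.rec (fun _ => Pt) (kgi xgi20 ygi8 zgi33) (kgi xgi14 ygi44 zgi26) (kgi xgi12 ygi31 zgi40) (kgi xgi14 ygi43 zgi10) (kgi xgi26 ygi45 zgi51) (kgi xgi12 ygi53 zgi59) (kgi xgi18 ygi21 zgi22) (kgi xgi11 ygi49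 zgi56) (kgi xgi14 ygi40 zgi56) (kgi xgi20 ygi24 zgi48) (kgi xgi20 ygi34 zgi32) (kgi xgi26 ygi27 zgi8) (kgi xgi21 ygi13 zgi42) (kgi xgi17 ygi25 zgi5) (kgi xgi12 ygi36 zgi24) (kgi xgi20 ygi17 zgi33) (kgi xgi16 ygi56 zgi60) (kgi xgi12 ygi36 zgi21) (kgi xgi26 ygi23 zgi3) (kgi xgi15 ygi24 zgi27) (kgi xgi11 ygi50 zgi10) (kgi xgi27 ygi0 zgi53) (kgi xgi20 ygi34 zgi52) (kgi xgi11 ygi50 zgi12) (kgi xgi11 ygi50 zgi14) (kgi xgi29 ygi31 zgi43) (kgi xgi20 ygi38 zgi29) (kgi xgi21 ygi15 zgi57) (kgi xgi29 ygi31 zgi42) (kgi xgi16 ygi53 zgi59) (kgi xgi15 ygi5 zgi30) (kgi xgi17 ygi22 zgi56) (kgi xgi20 ygi47 zgi59) (kgi xgi20 ygi20 zgi1) (kgi xgi19 ygi50 zgi53) (kgi xgi11 ygi50 zgi18) (kgi xgi19 ygi32 zgi35) (kgi xgi29 ygi24 zgi36) (kgi xgi26 ygi45 zgi34)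 (kgi xgi16 ygi27 zgi37) (kgi xgi24 ygi9 zgi31) (kgi xgi24 ygi29 zgi51) (kgi xgi26 ygi49 zgi15) (kgi xgi21 ygi15 zgi59) (kgi xgi18 ygi24 zgi8) (kgi xgi17 ygi18 zgi48) (kgi xgi16 ygi57 zgi28) (kgi xgi20 ygi8 zgi29) (kgi xgi11 ygi50 zgi33) (kgi xgi29 ygi18 zgi39) (kgi xgi29 ygi29 zgi7) (kgi xgi19 ygi31 zgi14) (kgi xgi16 ygi45 zgi13) (kgi xgi11 ygi50 zgi38) (kgi xgi28 ygi47 zgi51) (kgi xgi19 ygi53 zgi26) (kgi xgi19 ygi53 zgi34) (kgi xgi19 ygi34 zgi38) (kgi xgi19 ygi16 zgi8) (kgi xgi11 ygi50 zgi42) (kgi xgi20 ygi28 zgi17) (kgi xgi23 ygi31 zgi4)) (@D3.rec (fun _ => Pt) (kgi xgi24 ygi24 zgi4) (kgi xgi27 ygi12 zgi14) (kgi xgi19 ygi25 zgi23) (kgi xgi11 ygi50 zgi53) (kgi xgi19 ygi41 zgi46) (kgi xgi29 ygi13 zgi45) (kgi xgi19 ygi53 zgi27) (kgi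 xgi20 ygi26 zgi32) (kgi xgi25 ygi18 zgi32) (kgi xgi18 ygi21 zgi34) (kgi xgi12 ygi55 zgi54) (kgi xgi29 ygi2 zgi61) (kgi xgi16 ygi9 zgi0) (kgi xgi21 ygi43 zgi61) (kgi xgi11 ygi50 zgi60) (kgi xgi27 ygi43 zgi40) (kgi xgi27 ygi43 zgi4) (kgi xgi23 ygi13 zgi14) (kgi xgi21 ygi43 zgi41) (kgi xgi26 ygi52 zgi25) (kgi xgi18 ygi21 zgi27) (kgi xgi20 ygi54 zgi5) (kgi xgi16 ygi4 zgi52) (kgi xgi19 ygi26 zgi37) (kgi xgi17 ygi51 zgi52) (kgi xgi11 ygi51 zgi9) (kgi xgi23 ygi40 zgi21) (kgi xgi23 ygi38 zgi17) (kgi xgi11 ygi51 zgi10) (kgi xgi24 ygi51 zgi56) (kgi xgi27 ygi43 zgi42) (kgi xgi24 ygi33 zgi1) (kgi xgi11 ygi51 zgi35) (kgi xgi27 ygi36 zgi53) (kgi xgi20 ygi54 zgi11) (kgi xgi20 ygi54 zgi3) (kgi xgi27 ygi36 zgi54) (kgi xgi25 ygi19 zgi26) (kgi xgi20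 ygi51 zgi30) (kgi xgi11 ygi51 zgi22) (kgi xgi25 ygi21 zgi25) (kgi xgi29 ygi14 zgi24) (kgi xgi24 ygi51 zgi9) (kgi xgi11 ygi51 zgi23) (kgi xgi23 ygi47 zgi18) (kgi xgi21 ygi43 zgi10) (kgi xgi11 ygi51 zgi29) (kgi xgi23 ygi12 zgi54) (kgi xgi21 ygi11 zgi29) (kgi xgi18 ygi0 zgi58) (kgi xgi11 ygi51 zgi30) (kgi xgi11 ygi51 zgi33) (kgi xgi24 ygi4 zgi59) (kgi xgi29 ygi43 zgi5) (kgi xgi12 ygi43 zgi49) (kgi xgi11 ygi51 zgi31) (kgi xgi17 ygi48 zgi51) (kgi xgi17 ygi4 zgi36) (kgi xgi18 ygi57 zgi61) (kgi xgi29 ygi43 zgi4) (kgi xgi25 ygi10 zgi31) (kgi xgi24 ygi14 zgi44)) (@D3.rec (fun _ => Pt) (kgi xgi16 ygi13 zgi53) (kgi xgi17 ygi7 zgi10) (kgi xgi22 ygi6 zgi6) (kgi xgi23 ygi13 zgi11) (kgi xgi20 ygi57 zgi43) (kgi xgi12 ygi53 zgi36) (kgi xgi17 ygi7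 zgi11) (kgi xgi29 ygi43 zgi21) (kgi xgi26 ygi38 zgi55) (kgi xgi11 ygi51 zgi40) (kgi xgi22 ygi5 zgi46) (kgi xgi22 ygi5 zgi45) (kgi xgi16 ygi6 zgi48) (kgi xgi24 ygi49 zgi58) (kgi xgi24 ygi49 zgi56) (kgi xgi29 ygi13 zgi19) (kgi xgi29 ygi43 zgi32) (kgi xgi11 ygi51 zgi45) (kgi xgi26 ygi54 zgi22) (kgi xgi29 ygi2 zgi42) (kgi xgi26 ygi54 zgi47) (kgi xgi26 ygi26 zgi49) (kgi xgi20 ygi42 zgi16) (kgi xgi16 ygi57 zgi53) (kgi xgi21 ygi35 zgi56) (kgi xgi29 ygi13 zgi9) (kgi xgi15 ygi30 zgi35) (kgi xgi14 ygi47 zgi54) (kgi xgi28 ygi36 zgi53) (kgi xgi21 ygi23 zgi35) (kgi xgi21 ygi24 zgi13) (kgi xgi17 ygi28 zgi27) (kgi xgi29 ygi43 zgi44) (kgi xgi11 ygi51 zgi55) (kgi xgi16 ygi46 zgi22) (kgi xgi19 ygi42 zgi51) (kgi xgi17 ygi56 zgi23) (kgi xgi11 ygi51 zgi60)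 (kgi xgi16 ygi17 zgi32) (kgi xgi16 ygi17 zgi35) (kgi xgi24 ygi41 zgi52) (kgi xgi14 ygi8 zgi14) (kgi xgi25 ygi37 zgi52) (kgi xgi15 ygi39 zgi20) (kgi xgi15 ygi39 zgi23) (kgi xgi23 ygi24 zgi39) (kgi xgi27 ygi19 zgi56) (kgi xgi27 ygi40 zgi60) (kgi xgi25 ygi37 zgi19) (kgi xgi15 ygi45 zgi41) (kgi xgi14 ygi46 zgi40) (kgi xgi26 ygi1 zgi40) (kgi xgi16 ygi5 zgi9) (kgi xgi25 ygi58 zgi12) (kgi xgi16 ygi5 zgi46) (kgi xgi11 ygi52 zgi9) (kgi xgi20 ygi6 zgi39) (kgi xgi24 ygi24 zgi14) (kgi xgi29 ygi43 zgi56) (kgi xgi29 ygi43 zgi57) (kgi xgi18 ygi22 zgi10) (kgi xgi11 ygi52 zgi14)) (@D3.rec (fun _ => Pt) (kgi xgi11 ygi53 zgi3) (kgi xgi11 ygi53 zgi1) (kgi xgi29 ygi43 zgi59) (kgi xgi16 ygi37 zgi56) (kgi xgi24 ygi1 zgi4) (kgi xgi16 ygi37 zgi31) (kgi xgi11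 ygi52 zgi20) (kgi xgi11 ygi53 zgi31) (kgi xgi29 ygi33 zgi29) (kgi xgi11 ygi52 zgi21) (kgi xgi11 ygi53 zgi21) (kgi xgi26 ygi35 zgi6) (kgi xgi11 ygi53 zgi18) (kgi xgi11 ygi53 zgi49) (kgi xgi11 ygi52 zgi24) (kgi xgi11 ygi53 zgi52) (kgi xgi11 ygi53 zgi50) (kgi xgi16 ygi42 zgi27) (kgi xgi29 ygi44 zgi13) (kgi xgi29 ygi44 zgi16) (kgi xgi11 ygi53 zgi22) (kgi xgi14 ygi24 zgi27) (kgi xgi29 ygi44 zgi20) (kgi xgi11 ygi53 zgi39) (kgi xgi11 ygi52 zgi30) (kgi xgi11 ygi52 zgi32) (kgi xgi20 ygi57 zgi34) (kgi xgi19 ygi7 zgi54) (kgi xgi19 ygi1 zgi9) (kgi xgi29 ygi44 zgi8) (kgi xgi11 ygi52 zgi34) (kgi xgi26 ygi0 zgi5) (kgi xgi21 ygi16 zgi45) (kgi xgi20 ygi57 zgi27) (kgi xgi26 ygi52 zgi22) (kgi xgi25 ygi22 zgi23) (kgi xgi11 ygi52 zgi33) (kgi xgi25 ygi22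 zgi25) (kgi xgi15 ygi37 zgi12) (kgi xgi28 ygi59 zgi33) (kgi xgi27 ygi18 zgi53) (kgi xgi26 ygi40 zgi39) (kgi xgi29 ygi44 zgi39) (kgi xgi29 ygi3 zgi18) (kgi xgi11 ygi52 zgi37) (kgi xgi11 ygi54 zgi21) (kgi xgi11 ygi54 zgi19) (kgi xgi16 ygi42 zgi33) (kgi xgi25 ygi22 zgi1) (kgi xgi26 ygi34 zgi19) (kgi xgi24 ygi51 zgi13) (kgi xgi11 ygi52 zgi44) (kgi xgi15 ygi29 zgi22) (kgi xgi25 ygi6 zgi19) (kgi xgi25 ygi33 zgi27) (kgi xgi17 ygi53 zgi16) (kgi xgi11 ygi57 zgi8) (kgi xgi11 ygi52 zgi48) (kgi xgi27 ygi57 zgi1) (kgi xgi24 ygi23 zgi34) (kgi xgi18 ygi22 zgi9) (kgi xgi11 ygi52 zgi50)) (@D3.rec (fun _ => Pt) (kgi xgi26 ygi37 zgi5) (kgi xgi22 ygi3 zgi51) (kgi xgi29 ygi44 zgi55) (kgi xgi29 ygi44 zgi52) (kgi xgi29 ygi44 zgi56) (kgi xgi11 ygi52 zgi54)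 (kgi xgi29 ygi43 zgi60) (kgi xgi28 ygi39 zgi44) (kgi xgi29 ygi43 zgi58) (kgi xgi24 ygi23 zgi31) (kgi xgi29 ygi45 zgi3) (kgi xgi20 ygi58 zgi60) (kgi xgi11 ygi52 zgi57) (kgi xgi19 ygi19 zgi28) (kgi xgi11 ygi52 zgi59) (kgi xgi15 ygi16 zgi10) (kgi xgi25 ygi20 zgi5) (kgi xgi22 ygi3 zgi52) (kgi xgi16 ygi38 zgi55) (kgi xgi18 ygi22 zgi29) (kgi xgi26 ygi44 zgi31) (kgi xgi16 ygi38 zgi42) (kgi xgi11 ygi53 zgi4) (kgi xgi29 ygi45 zgi11) (kgi xgi29 ygi45 zgi18) (kgi xgi29 ygi45 zgi9) (kgi xgi11 ygi53 zgi5) (kgi xgi29 ygi10 zgi40) (kgi xgi29 ygi45 zgi26) (kgi xgi29 ygi43 zgi61) (kgi xgi15 ygi37 zgi21) (kgi xgi29 ygi10 zgi42) (kgi xgi16 ygi37 zgi23) (kgi xgi11 ygi53 zgi7) (kgi xgi29 ygi10 zgi41) (kgi xgi24 ygi1 zgi2) (kgi xgi11 ygi53 zgi9) (kgi xgi22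 ygi3 zgi56) (kgi xgi29 ygi31 zgi28) (kgi xgi29 ygi45 zgi38) (kgi xgi26 ygi41 zgi16) (kgi xgi15 ygi29 zgi4) (kgi xgi29 ygi45 zgi43) (kgi xgi15 ygi28 zgi42) (kgi xgi19 ygi32 zgi3) (kgi xgi15 ygi38 zgi38) (kgi xgi15 ygi22 zgi5) (kgi xgi11 ygi53 zgi15) (kgi xgi16 ygi11 zgi9) (kgi xgi11 ygi53 zgi17) (kgi xgi19 ygi14 zgi13) (kgi xgi11 ygi56 zgi31) (kgi xgi22 ygi4 zgi19) (kgi xgi19 ygi32 zgi5) (kgi xgi29 ygi33 zgi19) (kgi xgi19 ygi32 zgi8) (kgi xgi16 ygi5 zgi49) (kgi xgi23 ygi55 zgi20) (kgi xgi23 ygi24 zgi9) (kgi xgi25 ygi7 zgi60) (kgi xgi29 ygi44 zgi24) (kgi xgi19 ygi31 zgi57)) (@D3.rec (fun _ => Pt) (kgi xgi19 ygi31 zgi59) (kgi xgi16 ygi42 zgi32) (kgi xgi15 ygi14 zgi41) (kgi xgi15 ygi17 zgi15) (kgi xgi25 ygi53 zgi35) (kgi xgi27 ygi19 zgi15)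 (kgi xgi27 ygi0 zgi29) (kgi xgi29 ygi45 zgi56) (kgi xgi11 ygi53 zgi33) (kgi xgi27 ygi0 zgi38) (kgi xgi26 ygi52 zgi24) (kgi xgi11 ygi53 zgi34) (kgi xgi19 ygi14 zgi26) (kgi xgi29 ygi46 zgi6) (kgi xgi19 ygi14 zgi24) (kgi xgi15 ygi17 zgi43) (kgi xgi26 ygi32 zgi27) (kgi xgi24 ygi35 zgi12) (kgi xgi16 ygi38 zgi20) (kgi xgi19 ygi34 zgi44) (kgi xgi19 ygi14 zgi6) (kgi xgi17 ygi48 zgi52) (kgi xgi27 ygi54 zgi1) (kgi xgi27 ygi0 zgi11) (kgi xgi19 ygi34 zgi40) (kgi xgi21 ygi1 zgi27) (kgi xgi16 ygi42 zgi28) (kgi xgi20 ygi55 zgi28) (kgi xgi21 ygi1 zgi24) (kgi xgi29 ygi46 zgi25) (kgi xgi11 ygi53 zgi45) (kgi xgi29 ygi46 zgi26) (kgi xgi22 ygi1 zgi26) (kgi xgi29 ygi46 zgi24) (kgi xgi29 ygi44 zgi23) (kgi xgi11 ygi53 zgi47) (kgi xgi29 ygi44 zgi17) (kgi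 xgi29 ygi46 zgi36) (kgi xgi29 ygi44 zgi15) (kgi xgi23 ygi45 zgi42) (kgi xgi25 ygi7 zgi25) (kgi xgi11 ygi54 zgi15) (kgi xgi15 ygi25 zgi11) (kgi xgi16 ygi40 zgi47) (kgi xgi11 ygi53 zgi53) (kgi xgi15 ygi25 zgi13) (kgi xgi25 ygi17 zgi4) (kgi xgi15 ygi47 zgi61) (kgi xgi11 ygi53 zgi54) (kgi xgi16 ygi11 zgi33) (kgi xgi29 ygi46 zgi44) (kgi xgi29 ygi34 zgi31) (kgi xgi20 ygi54 zgi4) (kgi xgi11 ygi53 zgi56) (kgi xgi29 ygi44 zgi21) (kgi xgi29 ygi46 zgi51) (kgi xgi27 ygi17 zgi37) (kgi xgi28 ygi39 zgi30) (kgi xgi11 ygi54 zgi7) (kgi xgi16 ygi41 zgi58) (kgi xgi26 ygi52 zgi18) (kgi xgi20 ygi55 zgi17)) (@D3.rec (fun _ => Pt) (kgi xgi29 ygi46 zgi56) (kgi xgi15 ygi30 zgi22) (kgi xgi19 ygi25 zgi48) (kgi xgi24 ygi3 zgi21) (kgi xgi28 ygi54 zgi28) (kgi xgi19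 ygi25 zgi54) (kgi xgi11 ygi54 zgi11) (kgi xgi29 ygi47 zgi1) (kgi xgi24 ygi14 zgi32) (kgi xgi18 ygi46 zgi0) (kgi xgi29 ygi47 zgi4) (kgi xgi26 ygi38 zgi21) (kgi xgi11 ygi54 zgi9) (kgi xgi25 ygi51 zgi19) (kgi xgi29 ygi38 zgi57) (kgi xgi12 ygi44 zgi59) (kgi xgi23 ygi47 zgi42) (kgi xgi28 ygi47 zgi41) (kgi xgi26 ygi39 zgi32) (kgi xgi19 ygi31 zgi39) (kgi xgi11 ygi54 zgi12) (kgi xgi16 ygi41 zgi9) (kgi xgi11 ygi54 zgi14) (kgi xgi29 ygi44 zgi41) (kgi xgi29 ygi47 zgi17) (kgi xgi29 ygi44 zgi38) (kgi xgi26 ygi39 zgi53) (kgi xgi29 ygi47 zgi22) (kgi xgi11 ygi54 zgi16) (kgi xgi29 ygi44 zgi43) (kgi xgi29 ygi39 zgi58) (kgi xgi29 ygi38 zgi2) (kgi xgi11 ygi54 zgi17) (kgi xgi25 ygi19 zgi27) (kgi xgi25 ygi19 zgi28) (kgi xgi26 ygi54 zgi35) (kgi xgi25 ygi22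 zgi35) (kgi xgi25 ygi22 zgi36) (kgi xgi25 ygi20 zgi0) (kgi xgi29 ygi47 zgi32) (kgi xgi26 ygi38 zgi24) (kgi xgi29 ygi47 zgi31) (kgi xgi20 ygi39 zgi29) (kgi xgi25 ygi22 zgi26) (kgi xgi11 ygi54 zgi22) (kgi xgi22 ygi4 zgi0) (kgi xgi26 ygi36 zgi33) (kgi xgi16 ygi40 zgi28) (kgi xgi16 ygi40 zgi52) (kgi xgi27 ygi19 zgi22) (kgi xgi19 ygi13 zgi58) (kgi xgi11 ygi54 zgi25) (kgi xgi16 ygi37 zgi6) (kgi xgi29 ygi47 zgi37) (kgi xgi15 ygi20 zgi4) (kgi xgi19 ygi14 zgi19) (kgi xgi26 ygi36 zgi13) (kgi xgi16 ygi40 zgi20) (kgi xgi16 ygi40 zgi4) (kgi xgi28 ygi44 zgi26) (kgi xgi19 ygi56 zgi48) (kgi xgi11 ygi54 zgi31)) (@D3.rec (fun _ => Pt) (kgi xgi19 ygi24 zgi35) (kgi xgi19 ygi24 zgi34) (kgi xgi27 ygi17 zgi21) (kgi xgi11 ygi54 zgi33) (kgi xgi19 ygi24 zgi42)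 (kgi xgi19 ygi24 zgi40) (kgi xgi29 ygi47 zgi45) (kgi xgi20 ygi1 zgi57) (kgi xgi29 ygi47 zgi41) (kgi xgi19 ygi24 zgi46) (kgi xgi25 ygi54 zgi49) (kgi xgi29 ygi47 zgi52) (kgi xgi11 ygi54 zgi38) (kgi xgi15 ygi40 zgi33) (kgi xgi19 ygi46 zgi1) (kgi xgi25 ygi24 zgi14) (kgi xgi24 ygi15 zgi7) (kgi xgi24 ygi23 zgi61) (kgi xgi19 ygi46 zgi30) (kgi xgi28 ygi53 zgi61) (kgi xgi13 ygi56 zgi57) (kgi xgi27 ygi42 zgi33) (kgi xgi18 ygi51 zgi8) (kgi xgi19 ygi26 zgi59) (kgi xgi13 ygi2 zgi15) (kgi xgi29 ygi47 zgi61) (kgi xgi24 ygi17 zgi37) (kgi xgi27 ygi21 zgi36) (kgi xgi11 ygi54 zgi48) (kgi xgi18 ygi41 zgi60) (kgi xgi25 ygi18 zgi53) (kgi xgi25 ygi18 zgi5) (kgi xgi11 ygi54 zgi54) (kgi xgi11 ygi54 zgi55) (kgi xgi18 ygi26 zgi25) (kgi xgi14 ygi43 zgi46) (kgi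 xgi11 ygi54 zgi60) (kgi xgi19 ygi23 zgi40) (kgi xgi19 ygi23 zgi38) (kgi xgi11 ygi54 zgi61) (kgi xgi19 ygi23 zgi51) (kgi xgi19 ygi23 zgi49) (kgi xgi11 ygi55 zgi0) (kgi xgi19 ygi23 zgi55) (kgi xgi19 ygi23 zgi53) (kgi xgi27 ygi56 zgi43) (kgi xgi14 ygi58 zgi52) (kgi xgi12 ygi55 zgi50) (kgi xgi16 ygi44 zgi28) (kgi xgi19 ygi48 zgi48) (kgi xgi15 ygi5 zgi10) (kgi xgi11 ygi55 zgi4) (kgi xgi29 ygi29 zgi9) (kgi xgi29 ygi28 zgi55) (kgi xgi12 ygi55 zgi1) (kgi xgi14 ygi41 zgi57) (kgi xgi28 ygi17 zgi28) (kgi xgi29 ygi48 zgi6) (kgi xgi17 ygi17 zgi34) (kgi xgi11 ygi55 zgi9) (kgi xgi19 ygi29 zgi46) (kgi xgi29 ygi48 zgi21))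
def fi_g_21 : D2 → D3 → Pt := @D2.rec (fun _ => D3 → Pt) (@D3.rec (fun _ => Pt) (kgi xgi19 ygi42 zgi7) (kgi xgi29 ygi48 zgi2) (kgi xgi19 ygi29 zgi41) (kgi xgi29 ygi12 zgi36) (kgi xgi11 ygi55 zgi13) (kgi xgi12 ygi54 zgi11) (kgi xgi20 ygi1 zgi29) (kgi xgi18 ygi44 zgi35) (kgi xgi19 ygi27 zgi26) (kgi xgi24 ygi53 zgi36) (kgi xgi19 ygi34 zgi4) (kgi xgi19 ygi33 zgi24) (kgi xgi16 ygi43 zgi33) (kgi xgi11 ygi55 zgi20) (kgi xgi18 ygi51 zgi29) (kgi xgi19 ygi25 zgi61) (kgi xgi20 ygi28 zgi59) (kgi xgi25 ygi36 zgi33) (kgi xgi29 ygi48 zgi35) (kgi xgi28 ygi59 zgi2) (kgi xgi14 ygi11 zgi5) (kgi xgi12 ygi51 zgi30) (kgi xgi29 ygi48 zgi36) (kgi xgi15 ygi41 zgi10) (kgi xgi19 ygi35 zgi2) (kgi xgi15 ygi17 zgi52) (kgi xgi25 ygi24 zgi47) (kgi xgi19 ygi36 zgi38)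 (kgi xgi20 ygi17 zgi52) (kgi xgi19 ygi34 zgi58) (kgi xgi29 ygi6 zgi14) (kgi xgi16 ygi10 zgi5) (kgi xgi27 ygi21 zgi27) (kgi xgi19 ygi46 zgi41) (kgi xgi19 ygi42 zgi56) (kgi xgi25 ygi27 zgi18) (kgi xgi29 ygi46 zgi59) (kgi xgi17 ygi32 zgi59) (kgi xgi20 ygi12 zgi37) (kgi xgi19 ygi46 zgi44) (kgi xgi20 ygi1 zgi48) (kgi xgi21 ygi7 zgi19) (kgi xgi19 ygi11 zgi29) (kgi xgi15 ygi45 zgi7) (kgi xgi11 ygi55 zgi53) (kgi xgi19 ygi25 zgi14) (kgi xgi19 ygi25 zgi12) (kgi xgi11 ygi55 zgi54) (kgi xgi15 ygi51 zgi14) (kgi xgi26 ygi9 zgi13) (kgi xgi19 ygi41 zgi26) (kgi xgi14 ygi52 zgi9) (kgi xgi17 ygi21 zgi32) (kgi xgi20 ygi7 zgi39) (kgi xgi22 ygi38 zgi37) (kgi xgi19 ygi43 zgi40) (kgi xgi19 ygi42 zgi49) (kgi xgi19 ygi43 zgi7) (kgi xgi19 ygi42 zgi60) (kgi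 xgi19 ygi13 zgi46) (kgi xgi11 ygi56 zgi11) (kgi xgi15 ygi31 zgi43)) (@D3.rec (fun _ => Pt) (kgi xgi15 ygi28 zgi51) (kgi xgi15 ygi21 zgi50) (kgi xgi25 ygi47 zgi6) (kgi xgi15 ygi37 zgi56) (kgi xgi18 ygi7 zgi41) (kgi xgi29 ygi16 zgi47) (kgi xgi23 ygi23 zgi15) (kgi xgi27 ygi29 zgi20) (kgi xgi24 ygi10 zgi22) (kgi xgi22 ygi4 zgi34) (kgi xgi26 ygi9 zgi27) (kgi xgi11 ygi57 zgi16) (kgi xgi19 ygi47 zgi45) (kgi xgi11 ygi56 zgi23) (kgi xgi19 ygi26 zgi23) (kgi xgi27 ygi22 zgi14) (kgi xgi14 ygi8 zgi50) (kgi xgi12 ygi54 zgi40) (kgi xgi22 ygi3 zgi55) (kgi xgi16 ygi48 zgi53) (kgi xgi12 ygi54 zgi38) (kgi xgi12 ygi54 zgi36) (kgi xgi29 ygi49 zgi0) (kgi xgi11 ygi56 zgi32) (kgi xgi20 ygi57 zgi25) (kgi xgi24 ygi14 zgi35) (kgi xgi29 ygi33 zgi32) (kgi xgi20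 ygi57 zgi28) (kgi xgi29 ygi49 zgi7) (kgi xgi12 ygi53 zgi20) (kgi xgi22 ygi3 zgi27) (kgi xgi21 ygi35 zgi46) (kgi xgi19 ygi24 zgi23) (kgi xgi11 ygi56 zgi39) (kgi xgi12 ygi44 zgi2) (kgi xgi26 ygi6 zgi3) (kgi xgi12 ygi53 zgi44) (kgi xgi26 ygi57 zgi27) (kgi xgi12 ygi54 zgi35) (kgi xgi16 ygi47 zgi10) (kgi xgi16 ygi48 zgi6) (kgi xgi11 ygi56 zgi48) (kgi xgi25 ygi22 zgi52) (kgi xgi25 ygi22 zgi50) (kgi xgi24 ygi3 zgi37) (kgi xgi11 ygi56 zgi50) (kgi xgi25 ygi22 zgi55) (kgi xgi25 ygi22 zgi53) (kgi xgi26 ygi52 zgi49) (kgi xgi28 ygi47 zgi46) (kgi xgi11 ygi56 zgi55) (kgi xgi20 ygi40 zgi3) (kgi xgi19 ygi49 zgi48) (kgi xgi11 ygi56 zgi56) (kgi xgi25 ygi48 zgi38) (kgi xgi16 ygi27 zgi24) (kgi xgi25 ygi48 zgi35) (kgi xgi29 ygi49 zgi10) (kgi xgi29 ygi49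 zgi21) (kgi xgi15 ygi55 zgi0) (kgi xgi25 ygi11 zgi35) (kgi xgi15 ygi20 zgi22)) (@D3.rec (fun _ => Pt) (kgi xgi24 ygi36 zgi59) (kgi xgi19 ygi59 zgi31) (kgi xgi20 ygi43 zgi22) (kgi xgi15 ygi9 zgi27) (kgi xgi15 ygi22 zgi1) (kgi xgi11 ygi57 zgi7) (kgi xgi28 ygi48 zgi12) (kgi xgi28 ygi44 zgi58) (kgi xgi12 ygi57 zgi45) (kgi xgi24 ygi51 zgi48) (kgi xgi15 ygi24 zgi54) (kgi xgi14 ygi39 zgi52) (kgi xgi16 ygi5 zgi47) (kgi xgi14 ygi40 zgi2) (kgi xgi22 ygi4 zgi44) (kgi xgi19 ygi26 zgi25) (kgi xgi16 ygi50 zgi32) (kgi xgi27 ygi22 zgi18) (kgi xgi29 ygi49 zgi34) (kgi xgi11 ygi57 zgi17) (kgi xgi29 ygi28 zgi46) (kgi xgi19 ygi56 zgi13) (kgi xgi29 ygi49 zgi41) (kgi xgi23 ygi16 zgi21) (kgi xgi27 ygi56 zgi48) (kgi xgi19 ygi56 zgi1) (kgi xgi11 ygi57 zgi20)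 (kgi xgi19 ygi55 zgi20) (kgi xgi28 ygi11 zgi59) (kgi xgi26 ygi8 zgi3) (kgi xgi28 ygi11 zgi30) (kgi xgi22 ygi4 zgi37) (kgi xgi16 ygi5 zgi33) (kgi xgi17 ygi33 zgi3) (kgi xgi19 ygi59 zgi10) (kgi xgi19 ygi32 zgi43) (kgi xgi14 ygi59 zgi58) (kgi xgi14 ygi15 zgi48) (kgi xgi15 ygi4 zgi44) (kgi xgi23 ygi19 zgi39) (kgi xgi11 ygi57 zgi40) (kgi xgi15 ygi23 zgi43) (kgi xgi20 ygi32 zgi39) (kgi xgi11 ygi57 zgi41) (kgi xgi20 ygi32 zgi38) (kgi xgi28 ygi0 zgi32) (kgi xgi13 ygi2 zgi19) (kgi xgi18 ygi19 zgi3) (kgi xgi29 ygi49 zgi61) (kgi xgi18 ygi42 zgi5) (kgi xgi27 ygi9 zgi51) (kgi xgi27 ygi9 zgi49) (kgi xgi26 ygi48 zgi44) (kgi xgi16 ygi29 zgi16) (kgi xgi27 ygi10 zgi14) (kgi xgi14 ygi52 zgi45) (kgi xgi18 ygi23 zgi15) (kgi xgi17 ygi25 zgi55) (kgi xgi29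 ygi50 zgi2) (kgi xgi17 ygi22 zgi25) (kgi xgi17 ygi7 zgi3) (kgi xgi29 ygi0 zgi61)) (@D3.rec (fun _ => Pt) (kgi xgi11 ygi57 zgi55) (kgi xgi12 ygi31 zgi38) (kgi xgi13 ygi1 zgi4) (kgi xgi14 ygi4 zgi25) (kgi xgi18 ygi1 zgi36) (kgi xgi14 ygi4 zgi26) (kgi xgi13 ygi0 zgi50) (kgi xgi20 ygi22 zgi36) (kgi xgi16 ygi49 zgi31) (kgi xgi11 ygi58 zgi7) (kgi xgi21 ygi37 zgi19) (kgi xgi27 ygi42 zgi13) (kgi xgi24 ygi2 zgi41) (kgi xgi16 ygi49 zgi11) (kgi xgi16 ygi45 zgi32) (kgi xgi27 ygi3 zgi29) (kgi xgi20 ygi14 zgi58) (kgi xgi18 ygi25 zgi54) (kgi xgi20 ygi13 zgi21) (kgi xgi24 ygi8 zgi56) (kgi xgi23 ygi55 zgi42) (kgi xgi27 ygi9 zgi19) (kgi xgi11 ygi58 zgi39) (kgi xgi20 ygi43 zgi7) (kgi xgi11 ygi58 zgi52) (kgi xgi11 ygi58 zgi44) (kgi xgi12 ygi12 zgi36)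 (kgi xgi20 ygi5 zgi50) (kgi xgi11 ygi58 zgi45) (kgi xgi20 ygi22 zgi5) (kgi xgi20 ygi7 zgi3) (kgi xgi19 ygi52 zgi52) (kgi xgi13 ygi12 zgi10) (kgi xgi20 ygi46 zgi44) (kgi xgi11 ygi58 zgi48) (kgi xgi29 ygi34 zgi61) (kgi xgi29 ygi22 zgi39) (kgi xgi29 ygi34 zgi60) (kgi xgi28 ygi44 zgi45) (kgi xgi29 ygi44 zgi25) (kgi xgi26 ygi43 zgi48) (kgi xgi14 ygi20 zgi21) (kgi xgi14 ygi33 zgi38) (kgi xgi14 ygi34 zgi45) (kgi xgi11 ygi58 zgi56) (kgi xgi24 ygi39 zgi8) (kgi xgi29 ygi0 zgi29) (kgi xgi20 ygi42 zgi19) (kgi xgi21 ygi26 zgi40) (kgi xgi21 ygi49 zgi46) (kgi xgi24 ygi14 zgi54) (kgi xgi11 ygi58 zgi61) (kgi xgi27 ygi10 zgi55) (kgi xgi23 ygi47 zgi16) (kgi xgi24 ygi14 zgi56) (kgi xgi11 ygi59 zgi6) (kgi xgi24 ygi52 zgi52) (kgi xgi21 ygi55 zgi34) (kgi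 xgi11 ygi59 zgi8) (kgi xgi24 ygi19 zgi12) (kgi xgi14 ygi20 zgi15) (kgi xgi11 ygi59 zgi11)) (@D3.rec (fun _ => Pt) (kgi xgi19 ygi4 zgi49) (kgi xgi25 ygi18 zgi8) (kgi xgi29 ygi6 zgi35) (kgi xgi29 ygi43 zgi54) (kgi xgi15 ygi49 zgi51) (kgi xgi29 ygi9 zgi5) (kgi xgi29 ygi50 zgi21) (kgi xgi26 ygi58 zgi23) (kgi xgi19 ygi48 zgi44) (kgi xgi15 ygi27 zgi13) (kgi xgi11 ygi59 zgi32) (kgi xgi26 ygi42 zgi25) (kgi xgi13 ygi50 zgi41) (kgi xgi26 ygi27 zgi32) (kgi xgi27 ygi41 zgi38) (kgi xgi14 ygi59 zgi1) (kgi xgi29 ygi50 zgi23) (kgi xgi16 ygi30 zgi7) (kgi xgi27 ygi5 zgi30) (kgi xgi16 ygi29 zgi9) (kgi xgi11 ygi59 zgi38) (kgi xgi16 ygi29 zgi3) (kgi xgi26 ygi29 zgi6) (kgi xgi16 ygi29 zgi0) (kgi xgi11 ygi59 zgi40) (kgi xgi16 ygi28 zgi59) (kgi xgi11 ygi59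 zgi42) (kgi xgi23 ygi35 zgi50) (kgi xgi21 ygi32 zgi53) (kgi xgi23 ygi37 zgi56) (kgi xgi13 ygi52 zgi37) (kgi xgi13 ygi52 zgi35) (kgi xgi29 ygi14 zgi29) (kgi xgi22 ygi8 zgi50) (kgi xgi11 ygi59 zgi55) (kgi xgi26 ygi11 zgi47) (kgi xgi24 ygi14 zgi1) (kgi xgi18 ygi37 zgi31) (kgi xgi24 ygi15 zgi30) (kgi xgi11 ygi59 zgi58) (kgi xgi24 ygi44 zgi13) (kgi xgi21 ygi21 zgi12) (kgi xgi12 ygi0 zgi1) (kgi xgi27 ygi3 zgi61) (kgi xgi29 ygi50 zgi30) (kgi xgi21 ygi58 zgi37) (kgi xgi11 ygi59 zgi61) (kgi xgi16 ygi0 zgi11) (kgi xgi12 ygi12 zgi14) (kgi xgi22 ygi3 zgi42) (kgi xgi12 ygi30 zgi42) (kgi xgi14 ygi14 zgi44) (kgi xgi12 ygi34 zgi48) (kgi xgi14 ygi11 zgi48) (kgi xgi29 ygi43 zgi52) (kgi xgi12 ygi12 zgi24) (kgi xgi12 ygi0 zgi6) (kgi xgi12 ygi33 zgi29)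 (kgi xgi12 ygi33 zgi27) (kgi xgi29 ygi50 zgi40) (kgi xgi12 ygi0 zgi8) (kgi xgi21 ygi39 zgi22)) (@D3.rec (fun _ => Pt) (kgi xgi21 ygi39 zgi20) (kgi xgi19 ygi45 zgi20) (kgi xgi25 ygi34 zgi61) (kgi xgi15 ygi38 zgi53) (kgi xgi15 ygi38 zgi54) (kgi xgi23 ygi11 zgi58) (kgi xgi25 ygi48 zgi34) (kgi xgi21 ygi27 zgi14) (kgi xgi21 ygi27 zgi17) (kgi xgi22 ygi59 zgi2) (kgi xgi21 ygi30 zgi29) (kgi xgi28 ygi19 zgi43) (kgi xgi12 ygi0 zgi15) (kgi xgi17 ygi14 zgi42) (kgi xgi25 ygi44 zgi5) (kgi xgi12 ygi0 zgi22) (kgi xgi24 ygi49 zgi12) (kgi xgi12 ygi27 zgi1) (kgi xgi12 ygi0 zgi18) (kgi xgi22 ygi9 zgi6) (kgi xgi22 ygi9 zgi4) (kgi xgi29 ygi32 zgi23) (kgi xgi12 ygi0 zgi20) (kgi xgi15 ygi58 zgi57) (kgi xgi16 ygi27 zgi14) (kgi xgi29 ygi50 zgi57) (kgi xgi12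 ygi59 zgi35) (kgi xgi21 ygi28 zgi33) (kgi xgi21 ygi27 zgi39) (kgi xgi22 ygi10 zgi52) (kgi xgi22 ygi9 zgi20) (kgi xgi12 ygi0 zgi27) (kgi xgi22 ygi9 zgi18) (kgi xgi28 ygi20 zgi40) (kgi xgi28 ygi57 zgi51) (kgi xgi12 ygi0 zgi30) (kgi xgi19 ygi24 zgi36) (kgi xgi12 ygi0 zgi31) (kgi xgi12 ygi0 zgi34) (kgi xgi14 ygi27 zgi49) (kgi xgi15 ygi17 zgi19) (kgi xgi12 ygi19 zgi39) (kgi xgi12 ygi0 zgi33) (kgi xgi12 ygi21 zgi39) (kgi xgi19 ygi22 zgi57) (kgi xgi21 ygi21 zgi7) (kgi xgi24 ygi14 zgi4) (kgi xgi28 ygi57 zgi39) (kgi xgi16 ygi7 zgi61) (kgi xgi12 ygi1 zgi49) (kgi xgi12 ygi0 zgi38) (kgi xgi18 ygi17 zgi10) (kgi xgi24 ygi7 zgi24) (kgi xgi21 ygi40 zgi18) (kgi xgi15 ygi39 zgi26) (kgi xgi12 ygi0 zgi44) (kgi xgi12 ygi34 zgi35) (kgi xgi12 ygi34 zgi33)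 (kgi xgi12 ygi27 zgi3) (kgi xgi27 ygi40 zgi49) (kgi xgi12 ygi18 zgi35) (kgi xgi12 ygi0 zgi47)) (@D3.rec (fun _ => Pt) (kgi xgi14 ygi56 zgi10) (kgi xgi29 ygi51 zgi14) (kgi xgi29 ygi51 zgi16) (kgi xgi12 ygi0 zgi49) (kgi xgi21 ygi27 zgi45) (kgi xgi21 ygi27 zgi43) (kgi xgi12 ygi0 zgi50) (kgi xgi21 ygi31 zgi20) (kgi xgi21 ygi31 zgi18) (kgi xgi14 ygi45 zgi35) (kgi xgi12 ygi0 zgi54) (kgi xgi13 ygi0 zgi7) (kgi xgi24 ygi42 zgi3) (kgi xgi12 ygi48 zgi16) (kgi xgi21 ygi45 zgi23) (kgi xgi12 ygi0 zgi56) (kgi xgi27 ygi7 zgi48) (kgi xgi21 ygi55 zgi43) (kgi xgi12 ygi0 zgi55) (kgi xgi23 ygi21 zgi1) (kgi xgi27 ygi30 zgi50) (kgi xgi18 ygi29 zgi47) (kgi xgi29 ygi51 zgi20) (kgi xgi23 ygi3 zgi11) (kgi xgi18 ygi18 zgi13) (kgi xgi22 ygi52 zgi32) (kgi xgi12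 ygi0 zgi59) (kgi xgi23 ygi20 zgi50) (kgi xgi23 ygi20 zgi48) (kgi xgi12 ygi0 zgi60) (kgi xgi21 ygi55 zgi38) (kgi xgi21 ygi28 zgi23) (kgi xgi27 ygi45 zgi4) (kgi xgi26 ygi3 zgi51) (kgi xgi12 ygi1 zgi0) (kgi xgi21 ygi55 zgi32) (kgi xgi29 ygi51 zgi34) (kgi xgi15 ygi47 zgi28) (kgi xgi13 ygi37 zgi51) (kgi xgi16 ygi3 zgi27) (kgi xgi12 ygi1 zgi4) (kgi xgi16 ygi2 zgi44) (kgi xgi13 ygi59 zgi46) (kgi xgi14 ygi44 zgi49) (kgi xgi28 ygi41 zgi16) (kgi xgi19 ygi47 zgi33) (kgi xgi12 ygi1 zgi7) (kgi xgi21 ygi55 zgi53) (kgi xgi21 ygi55 zgi51) (kgi xgi14 ygi4 zgi52) (kgi xgi17 ygi14 zgi60) (kgi xgi21 ygi20 zgi37) (kgi xgi16 ygi24 zgi28) (kgi xgi29 ygi50 zgi32) (kgi xgi28 ygi10 zgi30) (kgi xgi21 ygi35 zgi29) (kgi xgi21 ygi35 zgi4) (kgi xgi24 ygi32 zgi6)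 (kgi xgi21 ygi31 zgi36) (kgi xgi12 ygi36 zgi41) (kgi xgi12 ygi1 zgi31) (kgi xgi12 ygi36 zgi26)) (@D3.rec (fun _ => Pt) (kgi xgi12 ygi1 zgi42) (kgi xgi12 ygi1 zgi39) (kgi xgi18 ygi24 zgi20) (kgi xgi21 ygi36 zgi16) (kgi xgi21 ygi35 zgi47) (kgi xgi21 ygi54 zgi49) (kgi xgi24 ygi33 zgi13) (kgi xgi12 ygi1 zgi41) (kgi xgi22 ygi8 zgi29) (kgi xgi12 ygi35 zgi36) (kgi xgi12 ygi35 zgi33) (kgi xgi24 ygi19 zgi46) (kgi xgi12 ygi1 zgi47) (kgi xgi24 ygi41 zgi35) (kgi xgi21 ygi44 zgi28) (kgi xgi18 ygi26 zgi6) (kgi xgi21 ygi36 zgi20) (kgi xgi21 ygi58 zgi60) (kgi xgi12 ygi37 zgi49) (kgi xgi12 ygi45 zgi40) (kgi xgi21 ygi0 zgi41) (kgi xgi12 ygi1 zgi60) (kgi xgi12 ygi45 zgi17) (kgi xgi12 ygi45 zgi15) (kgi xgi22 ygi12 zgi5) (kgi xgi18 ygi26 zgi20) (kgi xgi14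 ygi35 zgi52) (kgi xgi12 ygi42 zgi28) (kgi xgi12 ygi45 zgi56) (kgi xgi12 ygi2 zgi5) (kgi xgi12 ygi45 zgi10) (kgi xgi12 ygi45 zgi7) (kgi xgi12 ygi2 zgi12) (kgi xgi12 ygi2 zgi11) (kgi xgi17 ygi58 zgi6) (kgi xgi22 ygi10 zgi59) (kgi xgi17 ygi58 zgi42) (kgi xgi17 ygi14 zgi40) (kgi xgi12 ygi2 zgi21) (kgi xgi18 ygi17 zgi16) (kgi xgi12 ygi2 zgi18) (kgi xgi12 ygi32 zgi14) (kgi xgi12 ygi32 zgi15) (kgi xgi26 ygi4 zgi29) (kgi xgi21 ygi34 zgi57) (kgi xgi28 ygi8 zgi25) (kgi xgi17 ygi50 zgi47) (kgi xgi26 ygi3 zgi61) (kgi xgi28 ygi10 zgi3) (kgi xgi12 ygi2 zgi30) (kgi xgi21 ygi35 zgi31) (kgi xgi22 ygi51 zgi6) (kgi xgi12 ygi2 zgi31) (kgi xgi21 ygi35 zgi10) (kgi xgi15 ygi7 zgi40) (kgi xgi12 ygi45 zgi6) (kgi xgi18 ygi16 zgi5) (kgi xgi12 ygi2 zgi33) (kgi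 xgi18 ygi15 zgi46) (kgi xgi22 ygi46 zgi45) (kgi xgi29 ygi51 zgi61) (kgi xgi12 ygi2 zgi35)) (@D3.rec (fun _ => Pt) (kgi xgi18 ygi17 zgi26) (kgi xgi27 ygi12 zgi13) (kgi xgi14 ygi12 zgi7) (kgi xgi14 ygi52 zgi31) (kgi xgi17 ygi19 zgi32) (kgi xgi22 ygi21 zgi46) (kgi xgi22 ygi22 zgi27) (kgi xgi29 ygi38 zgi17) (kgi xgi19 ygi44 zgi13) (kgi xgi18 ygi12 zgi57) (kgi xgi18 ygi10 zgi60) (kgi xgi12 ygi2 zgi61) (kgi xgi28 ygi19 zgi7) (kgi xgi21 ygi26 zgi28) (kgi xgi27 ygi31 zgi34) (kgi xgi18 ygi20 zgi55) (kgi xgi19 ygi17 zgi8) (kgi xgi27 ygi17 zgi61) (kgi xgi27 ygi58 zgi41) (kgi xgi12 ygi40 zgi10) (kgi xgi12 ygi36 zgi42) (kgi xgi12 ygi3 zgi5) (kgi xgi12 ygi13 zgi11) (kgi xgi24 ygi42 zgi0) (kgi xgi25 ygi14 zgi43) (kgi xgi14 ygi54 zgi20) (kgi xgi21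 ygi45 zgi18) (kgi xgi21 ygi47 zgi36) (kgi xgi12 ygi17 zgi57) (kgi xgi12 ygi48 zgi10) (kgi xgi29 ygi11 zgi12) (kgi xgi21 ygi45 zgi14) (kgi xgi21 ygi45 zgi11) (kgi xgi12 ygi3 zgi19) (kgi xgi24 ygi41 zgi9) (kgi xgi24 ygi52 zgi54) (kgi xgi24 ygi34 zgi9) (kgi xgi12 ygi3 zgi20) (kgi xgi26 ygi43 zgi36) (kgi xgi12 ygi3 zgi21) (kgi xgi12 ygi48 zgi15) (kgi xgi14 ygi10 zgi12) (kgi xgi23 ygi21 zgi33) (kgi xgi12 ygi48 zgi22) (kgi xgi12 ygi48 zgi20) (kgi xgi12 ygi48 zgi30) (kgi xgi12 ygi48 zgi28) (kgi xgi28 ygi31 zgi24) (kgi xgi21 ygi43 zgi0) (kgi xgi24 ygi41 zgi31) (kgi xgi12 ygi59 zgi42) (kgi xgi13 ygi37 zgi43) (kgi xgi15 ygi45 zgi24) (kgi xgi21 ygi27 zgi57) (kgi xgi21 ygi23 zgi47) (kgi xgi12 ygi48 zgi43) (kgi xgi12 ygi3 zgi29) (kgi xgi12 ygi48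 zgi42) (kgi xgi29 ygi52 zgi18) (kgi xgi23 ygi43 zgi61) (kgi xgi20 ygi19 zgi9) (kgi xgi18 ygi46 zgi52)) (@D3.rec (fun _ => Pt) (kgi xgi18 ygi48 zgi19) (kgi xgi19 ygi59 zgi3) (kgi xgi27 ygi21 zgi13) (kgi xgi12 ygi3 zgi35) (kgi xgi12 ygi7 zgi22) (kgi xgi20 ygi20 zgi13) (kgi xgi28 ygi15 zgi52) (kgi xgi26 ygi29 zgi34) (kgi xgi18 ygi9 zgi2) (kgi xgi17 ygi11 zgi0) (kgi xgi19 ygi26 zgi39) (kgi xgi28 ygi26 zgi59) (kgi xgi27 ygi49 zgi48) (kgi xgi13 ygi6 zgi38) (kgi xgi21 ygi44 zgi60) (kgi xgi23 ygi50 zgi2) (kgi xgi16 ygi53 zgi54) (kgi xgi12 ygi3 zgi44) (kgi xgi24 ygi28 zgi9) (kgi xgi27 ygi22 zgi34) (kgi xgi18 ygi45 zgi10) (kgi xgi18 ygi48 zgi0) (kgi xgi17 ygi47 zgi40) (kgi xgi12 ygi3 zgi47) (kgi xgi21 ygi30 zgi31) (kgi xgi13 ygi21 zgi42) (kgi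 xgi16 ygi55 zgi54) (kgi xgi16 ygi55 zgi28) (kgi xgi16 ygi55 zgi44) (kgi xgi18 ygi47 zgi21) (kgi xgi21 ygi18 zgi5) (kgi xgi12 ygi40 zgi49) (kgi xgi16 ygi55 zgi38) (kgi xgi27 ygi3 zgi24) (kgi xgi22 ygi4 zgi61) (kgi xgi26 ygi49 zgi34) (kgi xgi22 ygi5 zgi10) (kgi xgi22 ygi5 zgi8) (kgi xgi14 ygi50 zgi33) (kgi xgi12 ygi4 zgi7) (kgi xgi28 ygi24 zgi36) (kgi xgi18 ygi46 zgi15) (kgi xgi12 ygi55 zgi4) (kgi xgi12 ygi15 zgi2) (kgi xgi27 ygi12 zgi49) (kgi xgi26 ygi59 zgi56) (kgi xgi12 ygi54 zgi25) (kgi xgi12 ygi31 zgi31) (kgi xgi29 ygi34 zgi57) (kgi xgi20 ygi16 zgi38) (kgi xgi12 ygi4 zgi26) (kgi xgi17 ygi20 zgi4) (kgi xgi19 ygi9 zgi61) (kgi xgi19 ygi9 zgi58) (kgi xgi19 ygi3 zgi11) (kgi xgi12 ygi4 zgi34) (kgi xgi19 ygi3 zgi10) (kgi xgi27 ygi11 zgi36)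 (kgi xgi17 ygi29 zgi12) (kgi xgi13 ygi58 zgi43) (kgi xgi21 ygi22 zgi36) (kgi xgi12 ygi4 zgi42)) (@D3.rec (fun _ => Pt) (kgi xgi12 ygi4 zgi54) (kgi xgi21 ygi49 zgi55) (kgi xgi12 ygi18 zgi0) (kgi xgi12 ygi4 zgi48) (kgi xgi12 ygi17 zgi38) (kgi xgi17 ygi13 zgi20) (kgi xgi26 ygi2 zgi11) (kgi xgi26 ygi2 zgi38) (kgi xgi21 ygi35 zgi0) (kgi xgi21 ygi40 zgi32) (kgi xgi13 ygi0 zgi2) (kgi xgi12 ygi20 zgi28) (kgi xgi17 ygi43 zgi38) (kgi xgi12 ygi4 zgi60) (kgi xgi19 ygi14 zgi49) (kgi xgi26 ygi3 zgi33) (kgi xgi12 ygi4 zgi61) (kgi xgi12 ygi59 zgi49) (kgi xgi17 ygi35 zgi18) (kgi xgi17 ygi42 zgi2) (kgi xgi29 ygi52 zgi35) (kgi xgi25 ygi41 zgi47) (kgi xgi26 ygi55 zgi48) (kgi xgi22 ygi53 zgi7) (kgi xgi12 ygi5 zgi5) (kgi xgi20 ygi38 zgi49) (kgi xgi28 ygi8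 zgi48) (kgi xgi29 ygi52 zgi46) (kgi xgi29 ygi52 zgi48) (kgi xgi26 ygi31 zgi59) (kgi xgi12 ygi5 zgi8) (kgi xgi16 ygi33 zgi60) (kgi xgi16 ygi33 zgi58) (kgi xgi21 ygi14 zgi60) (kgi xgi26 ygi32 zgi4) (kgi xgi12 ygi5 zgi10) (kgi xgi16 ygi34 zgi5) (kgi xgi16 ygi34 zgi3) (kgi xgi26 ygi22 zgi52) (kgi xgi23 ygi16 zgi12) (kgi xgi29 ygi52 zgi57) (kgi xgi29 ygi52 zgi60) (kgi xgi12 ygi5 zgi13) (kgi xgi16 ygi34 zgi11) (kgi xgi16 ygi34 zgi9) (kgi xgi29 ygi53 zgi2) (kgi xgi29 ygi53 zgi4) (kgi xgi12 ygi5 zgi15) (kgi xgi16 ygi34 zgi16) (kgi xgi16 ygi34 zgi14) (kgi xgi24 ygi12 zgi50) (kgi xgi27 ygi47 zgi47) (kgi xgi14 ygi31 zgi10) (kgi xgi29 ygi53 zgi7) (kgi xgi12 ygi5 zgi18) (kgi xgi26 ygi31 zgi45) (kgi xgi26 ygi31 zgi46) (kgi xgi12 ygi5 zgi19) (kgi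 xgi16 ygi23 zgi23) (kgi xgi15 ygi8 zgi49) (kgi xgi16 ygi34 zgi34) (kgi xgi13 ygi31 zgi31)) (@D3.rec (fun _ => Pt) (kgi xgi29 ygi53 zgi18) (kgi xgi29 ygi53 zgi21) (kgi xgi28 ygi4 zgi58) (kgi xgi12 ygi5 zgi24) (kgi xgi16 ygi34 zgi32) (kgi xgi16 ygi34 zgi30) (kgi xgi12 ygi5 zgi25) (kgi xgi13 ygi40 zgi29) (kgi xgi16 ygi26 zgi29) (kgi xgi29 ygi53 zgi27) (kgi xgi19 ygi47 zgi13) (kgi xgi12 ygi5 zgi35) (kgi xgi22 ygi49 zgi6) (kgi xgi28 ygi13 zgi40) (kgi xgi17 ygi1 zgi45) (kgi xgi12 ygi5 zgi33) (kgi xgi12 ygi51 zgi10) (kgi xgi21 ygi14 zgi12) (kgi xgi29 ygi23 zgi56) (kgi xgi17 ygi1 zgi49) (kgi xgi14 ygi19 zgi61) (kgi xgi22 ygi26 zgi3) (kgi xgi21 ygi15 zgi52) (kgi xgi26 ygi55 zgi52) (kgi xgi23 ygi35 zgi19) (kgi xgi29 ygi53 zgi30) (kgi xgi17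 ygi1 zgi59) (kgi xgi12 ygi5 zgi43) (kgi xgi27 ygi44 zgi19) (kgi xgi27 ygi44 zgi20) (kgi xgi22 ygi26 zgi16) (kgi xgi29 ygi52 zgi45) (kgi xgi29 ygi53 zgi40) (kgi xgi19 ygi9 zgi42) (kgi xgi19 ygi9 zgi38) (kgi xgi20 ygi57 zgi47) (kgi xgi26 ygi36 zgi41) (kgi xgi21 ygi35 zgi9) (kgi xgi18 ygi18 zgi39) (kgi xgi18 ygi2 zgi50) (kgi xgi17 ygi57 zgi10) (kgi xgi26 ygi21 zgi60) (kgi xgi23 ygi10 zgi42) (kgi xgi26 ygi24 zgi12) (kgi xgi12 ygi22 zgi46) (kgi xgi12 ygi5 zgi55) (kgi xgi12 ygi5 zgi58) (kgi xgi26 ygi30 zgi21) (kgi xgi29 ygi53 zgi46) (kgi xgi20 ygi41 zgi8) (kgi xgi24 ygi9 zgi39) (kgi xgi26 ygi22 zgi9) (kgi xgi26 ygi30 zgi19) (kgi xgi17 ygi57 zgi32) (kgi xgi13 ygi33 zgi6) (kgi xgi13 ygi33 zgi52) (kgi xgi23 ygi31 zgi24) (kgi xgi29 ygi53 zgi52)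 (kgi xgi26 ygi21 zgi0) (kgi xgi16 ygi33 zgi46) (kgi xgi24 ygi56 zgi42) (kgi xgi12 ygi6 zgi2)) (@D3.rec (fun _ => Pt) (kgi xgi24 ygi57 zgi47) (kgi xgi24 ygi57 zgi45) (kgi xgi25 ygi12 zgi23) (kgi xgi13 ygi33 zgi17) (kgi xgi12 ygi6 zgi4) (kgi xgi24 ygi57 zgi50) (kgi xgi24 ygi57 zgi48) (kgi xgi12 ygi6 zgi5) (kgi xgi29 ygi53 zgi58) (kgi xgi28 ygi8 zgi35) (kgi xgi29 ygi53 zgi61) (kgi xgi27 ygi51 zgi49) (kgi xgi26 ygi21 zgi27) (kgi xgi29 ygi53 zgi15) (kgi xgi12 ygi6 zgi8) (kgi xgi24 ygi56 zgi35) (kgi xgi21 ygi13 zgi13) (kgi xgi13 ygi30 zgi57) (kgi xgi22 ygi42 zgi42) (kgi xgi16 ygi12 zgi5) (kgi xgi17 ygi12 zgi53) (kgi xgi13 ygi42 zgi48) (kgi xgi24 ygi54 zgi25) (kgi xgi12 ygi45 zgi49) (kgi xgi26 ygi28 zgi27) (kgi xgi12 ygi6 zgi25) (kgi xgi23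 ygi34 zgi47) (kgi xgi18 ygi2 zgi49) (kgi xgi20 ygi26 zgi23) (kgi xgi12 ygi9 zgi5) (kgi xgi23 ygi3 zgi25) (kgi xgi20 ygi45 zgi19) (kgi xgi26 ygi22 zgi32) (kgi xgi12 ygi22 zgi60) (kgi xgi12 ygi22 zgi45) (kgi xgi29 ygi53 zgi57) (kgi xgi26 ygi21 zgi42) (kgi xgi20 ygi21 zgi0) (kgi xgi24 ygi54 zgi27) (kgi xgi12 ygi6 zgi36) (kgi xgi18 ygi33 zgi7) (kgi xgi12 ygi6 zgi40) (kgi xgi27 ygi52 zgi28) (kgi xgi29 ygi54 zgi14) (kgi xgi18 ygi33 zgi18) (kgi xgi29 ygi25 zgi16) (kgi xgi29 ygi54 zgi17) (kgi xgi25 ygi3 zgi10) (kgi xgi29 ygi54 zgi20) (kgi xgi29 ygi54 zgi21) (kgi xgi26 ygi17 zgi45) (kgi xgi20 ygi21 zgi9) (kgi xgi20 ygi21 zgi7) (kgi xgi29 ygi54 zgi25) (kgi xgi29 ygi25 zgi19) (kgi xgi12 ygi6 zgi48) (kgi xgi20 ygi21 zgi14) (kgi xgi20 ygi21 zgi12)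 (kgi xgi26 ygi23 zgi7) (kgi xgi16 ygi26 zgi12) (kgi xgi24 ygi44 zgi24) (kgi xgi22 ygi56 zgi55)) (@D3.rec (fun _ => Pt) (kgi xgi12 ygi6 zgi57) (kgi xgi26 ygi31 zgi57) (kgi xgi16 ygi25 zgi51) (kgi xgi20 ygi1 zgi14) (kgi xgi20 ygi34 zgi61) (kgi xgi13 ygi26 zgi38) (kgi xgi14 ygi7 zgi60) (kgi xgi29 ygi6 zgi42) (kgi xgi12 ygi6 zgi60) (kgi xgi12 ygi7 zgi3) (kgi xgi12 ygi7 zgi0) (kgi xgi16 ygi53 zgi27) (kgi xgi16 ygi57 zgi19) (kgi xgi21 ygi44 zgi53) (kgi xgi23 ygi42 zgi28) (kgi xgi20 ygi18 zgi51) (kgi xgi12 ygi7 zgi7) (kgi xgi17 ygi21 zgi3) (kgi xgi16 ygi31 zgi48) (kgi xgi27 ygi31 zgi60) (kgi xgi16 ygi21 zgi1) (kgi xgi20 ygi0 zgi12) (kgi xgi22 ygi51 zgi51) (kgi xgi20 ygi21 zgi29) (kgi xgi12 ygi7 zgi14) (kgi xgi27 ygi34 zgi43) (kgi xgi12 ygi7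 zgi15) (kgi xgi20 ygi21 zgi4) (kgi xgi24 ygi52 zgi60) (kgi xgi19 ygi1 zgi36) (kgi xgi29 ygi54 zgi35) (kgi xgi20 ygi31 zgi35) (kgi xgi20 ygi31 zgi32) (kgi xgi13 ygi47 zgi11) (kgi xgi20 ygi31 zgi45) (kgi xgi22 ygi30 zgi51) (kgi xgi20 ygi31 zgi43) (kgi xgi27 ygi54 zgi20) (kgi xgi12 ygi7 zgi28) (kgi xgi12 ygi7 zgi37) (kgi xgi29 ygi54 zgi45) (kgi xgi12 ygi7 zgi34) (kgi xgi20 ygi30 zgi5) (kgi xgi13 ygi14 zgi14) (kgi xgi22 ygi29 zgi2) (kgi xgi29 ygi54 zgi50) (kgi xgi29 ygi54 zgi49) (kgi xgi12 ygi7 zgi36) (kgi xgi29 ygi54 zgi47) (kgi xgi29 ygi37 zgi4) (kgi xgi29 ygi54 zgi44) (kgi xgi12 ygi7 zgi38) (kgi xgi16 ygi30 zgi16) (kgi xgi13 ygi38 zgi54) (kgi xgi22 ygi47 zgi30) (kgi xgi12 ygi7 zgi39) (kgi xgi29 ygi24 zgi34) (kgi xgi12 ygi7 zgi44) (kgi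 xgi29 ygi28 zgi5) (kgi xgi29 ygi7 zgi39) (kgi xgi13 ygi57 zgi53) (kgi xgi26 ygi19 zgi17)) (@D3.rec (fun _ => Pt) (kgi xgi22 ygi37 zgi19) (kgi xgi29 ygi54 zgi60) (kgi xgi29 ygi29 zgi29) (kgi xgi22 ygi24 zgi6) (kgi xgi12 ygi7 zgi45) (kgi xgi26 ygi32 zgi53) (kgi xgi13 ygi46 zgi24) (kgi xgi20 ygi41 zgi46) (kgi xgi20 ygi31 zgi42) (kgi xgi24 ygi28 zgi40) (kgi xgi22 ygi46 zgi17) (kgi xgi22 ygi14 zgi33) (kgi xgi21 ygi11 zgi12) (kgi xgi22 ygi22 zgi41) (kgi xgi23 ygi46 zgi24) (kgi xgi13 ygi57 zgi45) (kgi xgi14 ygi12 zgi35) (kgi xgi23 ygi46 zgi14) (kgi xgi12 ygi8 zgi2) (kgi xgi16 ygi30 zgi30) (kgi xgi22 ygi58 zgi20) (kgi xgi13 ygi57 zgi61) (kgi xgi29 ygi55 zgi13) (kgi xgi13 ygi48 zgi17) (kgi xgi13 ygi48 zgi10) (kgi xgi29 ygi55 zgi15) (kgi xgi13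 ygi21 zgi5) (kgi xgi14 ygi47 zgi26) (kgi xgi12 ygi8 zgi13) (kgi xgi14 ygi3 zgi56) (kgi xgi24 ygi42 zgi26) (kgi xgi22 ygi42 zgi35) (kgi xgi14 ygi55 zgi17) (kgi xgi12 ygi8 zgi16) (kgi xgi13 ygi24 zgi36) (kgi xgi26 ygi22 zgi48) (kgi xgi29 ygi55 zgi24) (kgi xgi13 ygi55 zgi29) (kgi xgi13 ygi47 zgi9) (kgi xgi24 ygi0 zgi50) (kgi xgi13 ygi42 zgi39) (kgi xgi12 ygi8 zgi24) (kgi xgi23 ygi21 zgi28) (kgi xgi13 ygi39 zgi46) (kgi xgi19 ygi6 zgi25) (kgi xgi14 ygi14 zgi33) (kgi xgi22 ygi12 zgi61) (kgi xgi13 ygi48 zgi13) (kgi xgi23 ygi8 zgi39) (kgi xgi12 ygi8 zgi31) (kgi xgi13 ygi55 zgi20) (kgi xgi21 ygi30 zgi6) (kgi xgi22 ygi13 zgi13) (kgi xgi13 ygi32 zgi9) (kgi xgi13 ygi43 zgi0) (kgi xgi29 ygi28 zgi0) (kgi xgi13 ygi39 zgi28) (kgi xgi26 ygi27 zgi38)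 (kgi xgi12 ygi8 zgi39) (kgi xgi13 ygi33 zgi3) (kgi xgi13 ygi42 zgi61) (kgi xgi23 ygi6 zgi6)) (@D3.rec (fun _ => Pt) (kgi xgi28 ygi8 zgi29) (kgi xgi13 ygi29 zgi23) (kgi xgi28 ygi0 zgi5) (kgi xgi28 ygi8 zgi59) (kgi xgi12 ygi8 zgi46) (kgi xgi18 ygi59 zgi15) (kgi xgi20 ygi21 zgi33) (kgi xgi12 ygi8 zgi48) (kgi xgi16 ygi53 zgi13) (kgi xgi18 ygi59 zgi10) (kgi xgi17 ygi0 zgi48) (kgi xgi20 ygi26 zgi21) (kgi xgi24 ygi28 zgi23) (kgi xgi12 ygi8 zgi59) (kgi xgi20 ygi8 zgi49) (kgi xgi20 ygi8 zgi47) (kgi xgi19 ygi59 zgi0) (kgi xgi26 ygi25 zgi37) (kgi xgi20 ygi20 zgi46) (kgi xgi12 ygi9 zgi3) (kgi xgi20 ygi0 zgi41) (kgi xgi17 ygi2 zgi48) (kgi xgi17 ygi2 zgi46) (kgi xgi20 ygi6 zgi18) (kgi xgi17 ygi21 zgi1) (kgi xgi12 ygi22 zgi3) (kgi xgi29 ygi18 zgi20)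 (kgi xgi29 ygi14 zgi53) (kgi xgi12 ygi9 zgi12) (kgi xgi27 ygi5 zgi40) (kgi xgi28 ygi19 zgi47) (kgi xgi27 ygi5 zgi38) (kgi xgi28 ygi21 zgi58) (kgi xgi19 ygi43 zgi12) (kgi xgi20 ygi0 zgi8) (kgi xgi29 ygi55 zgi39) (kgi xgi25 ygi16 zgi7) (kgi xgi29 ygi19 zgi18) (kgi xgi29 ygi29 zgi61) (kgi xgi12 ygi9 zgi37) (kgi xgi27 ygi5 zgi35) (kgi xgi29 ygi54 zgi38) (kgi xgi27 ygi5 zgi33) (kgi xgi28 ygi25 zgi57) (kgi xgi16 ygi57 zgi47) (kgi xgi17 ygi1 zgi29) (kgi xgi20 ygi32 zgi57) (kgi xgi26 ygi59 zgi48) (kgi xgi17 ygi1 zgi21) (kgi xgi29 ygi52 zgi21) (kgi xgi16 ygi53 zgi24) (kgi xgi29 ygi55 zgi44) (kgi xgi21 ygi11 zgi23) (kgi xgi19 ygi43 zgi18) (kgi xgi14 ygi19 zgi32) (kgi xgi14 ygi18 zgi38) (kgi xgi21 ygi35 zgi20) (kgi xgi29 ygi55 zgi49) (kgi xgi24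 ygi6 zgi41) (kgi xgi20 ygi52 zgi45) (kgi xgi24 ygi24 zgi47) (kgi xgi19 ygi43 zgi19)) (@D3.rec (fun _ => Pt) (kgi xgi29 ygi3 zgi2) (kgi xgi14 ygi16 zgi18) (kgi xgi28 ygi56 zgi22) (kgi xgi20 ygi44 zgi13) (kgi xgi26 ygi51 zgi29) (kgi xgi19 ygi59 zgi51) (kgi xgi12 ygi10 zgi26) (kgi xgi24 ygi36 zgi27) (kgi xgi23 ygi55 zgi26) (kgi xgi20 ygi34 zgi22) (kgi xgi12 ygi10 zgi29) (kgi xgi19 ygi52 zgi22) (kgi xgi17 ygi49 zgi9) (kgi xgi17 ygi31 zgi8) (kgi xgi26 ygi48 zgi57) (kgi xgi20 ygi25 zgi16) (kgi xgi20 ygi25 zgi8) (kgi xgi27 ygi11 zgi54) (kgi xgi12 ygi11 zgi1) (kgi xgi12 ygi25 zgi40) (kgi xgi29 ygi55 zgi59) (kgi xgi12 ygi11 zgi7) (kgi xgi17 ygi27 zgi55) (kgi xgi17 ygi27 zgi53) (kgi xgi27 ygi17 zgi54) (kgi xgi15 ygi36 zgi6) (kgi xgi17 ygi10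 zgi55) (kgi xgi24 ygi15 zgi33) (kgi xgi20 ygi40 zgi34) (kgi xgi13 ygi20 zgi41) (kgi xgi17 ygi28 zgi30) (kgi xgi14 ygi33 zgi30) (kgi xgi12 ygi11 zgi27) (kgi xgi19 ygi38 zgi47) (kgi xgi12 ygi11 zgi18) (kgi xgi17 ygi18 zgi3) (kgi xgi17 ygi18 zgi1) (kgi xgi16 ygi55 zgi15) (kgi xgi26 ygi33 zgi50) (kgi xgi22 ygi25 zgi23) (kgi xgi18 ygi44 zgi53) (kgi xgi27 ygi2 zgi40) (kgi xgi19 ygi1 zgi6) (kgi xgi25 ygi52 zgi18) (kgi xgi21 ygi20 zgi60) (kgi xgi20 ygi55 zgi27) (kgi xgi18 ygi38 zgi14) (kgi xgi23 ygi47 zgi9) (kgi xgi27 ygi10 zgi56) (kgi xgi27 ygi7 zgi58) (kgi xgi17 ygi28 zgi49) (kgi xgi17 ygi28 zgi46) (kgi xgi26 ygi34 zgi2) (kgi xgi28 ygi21 zgi6) (kgi xgi14 ygi18 zgi14) (kgi xgi17 ygi28 zgi56) (kgi xgi12 ygi11 zgi37) (kgi xgi29 ygi56 zgi17)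 (kgi xgi15 ygi21 zgi59) (kgi xgi29 ygi56 zgi20) (kgi xgi21 ygi21 zgi6) (kgi xgi25 ygi13 zgi23)) (@D3.rec (fun _ => Pt) (kgi xgi27 ygi11 zgi0) (kgi xgi15 ygi38 zgi15) (kgi xgi27 ygi11 zgi27) (kgi xgi12 ygi11 zgi40) (kgi xgi21 ygi45 zgi37) (kgi xgi15 ygi33 zgi50) (kgi xgi25 ygi11 zgi59) (kgi xgi12 ygi11 zgi41) (kgi xgi22 ygi1 zgi54) (kgi xgi29 ygi56 zgi14) (kgi xgi29 ygi56 zgi29) (kgi xgi12 ygi11 zgi42) (kgi xgi17 ygi27 zgi44) (kgi xgi17 ygi27 zgi42) (kgi xgi29 ygi56 zgi35) (kgi xgi25 ygi28 zgi50) (kgi xgi29 ygi3 zgi42) (kgi xgi12 ygi11 zgi45) (kgi xgi17 ygi10 zgi17) (kgi xgi17 ygi10 zgi15) (kgi xgi27 ygi17 zgi49) (kgi xgi29 ygi5 zgi11) (kgi xgi12 ygi11 zgi47) (kgi xgi17 ygi27 zgi60) (kgi xgi17 ygi27 zgi58) (kgi xgi29 ygi56 zgi44) (kgi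 xgi25 ygi57 zgi45) (kgi xgi12 ygi11 zgi49) (kgi xgi17 ygi28 zgi2) (kgi xgi25 ygi30 zgi29) (kgi xgi25 ygi31 zgi37) (kgi xgi25 ygi53 zgi44) (kgi xgi25 ygi57 zgi41) (kgi xgi21 ygi40 zgi3) (kgi xgi17 ygi28 zgi13) (kgi xgi12 ygi11 zgi54) (kgi xgi17 ygi28 zgi12) (kgi xgi29 ygi56 zgi57) (kgi xgi29 ygi56 zgi60) (kgi xgi29 ygi56 zgi41) (kgi xgi19 ygi46 zgi22) (kgi xgi25 ygi57 zgi47) (kgi xgi12 ygi11 zgi57) (kgi xgi27 ygi18 zgi46) (kgi xgi27 ygi18 zgi43) (kgi xgi12 ygi42 zgi51) (kgi xgi17 ygi13 zgi40) (kgi xgi26 ygi4 zgi11) (kgi xgi12 ygi12 zgi3) (kgi xgi12 ygi42 zgi41) (kgi xgi12 ygi42 zgi36) (kgi xgi12 ygi12 zgi9) (kgi xgi21 ygi42 zgi49) (kgi xgi25 ygi51 zgi3) (kgi xgi12 ygi12 zgi10) (kgi xgi25 ygi51 zgi6) (kgi xgi12 ygi20 zgi25) (kgi xgi12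 ygi12 zgi17) (kgi xgi29 ygi57 zgi13) (kgi xgi29 ygi57 zgi17) (kgi xgi25 ygi48 zgi61) (kgi xgi12 ygi59 zgi41)) (@D3.rec (fun _ => Pt) (kgi xgi27 ygi3 zgi53) (kgi xgi17 ygi10 zgi12) (kgi xgi29 ygi57 zgi16) (kgi xgi21 ygi59 zgi34) (kgi xgi20 ygi54 zgi29) (kgi xgi12 ygi12 zgi19) (kgi xgi21 ygi9 zgi30) (kgi xgi19 ygi7 zgi12) (kgi xgi12 ygi12 zgi20) (kgi xgi14 ygi25 zgi51) (kgi xgi12 ygi47 zgi45) (kgi xgi29 ygi57 zgi29) (kgi xgi12 ygi13 zgi21) (kgi xgi12 ygi21 zgi31) (kgi xgi12 ygi12 zgi23) (kgi xgi21 ygi19 zgi4) (kgi xgi21 ygi19 zgi2) (kgi xgi29 ygi57 zgi39) (kgi xgi29 ygi57 zgi41) (kgi xgi12 ygi27 zgi36) (kgi xgi15 ygi22 zgi54) (kgi xgi24 ygi21 zgi10) (kgi xgi12 ygi13 zgi18) (kgi xgi21 ygi34 zgi22) (kgi xgi21 ygi34 zgi20) (kgi xgi29 ygi57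 zgi45) (kgi xgi29 ygi57 zgi47) (kgi xgi12 ygi59 zgi59) (kgi xgi12 ygi12 zgi55) (kgi xgi12 ygi12 zgi42) (kgi xgi21 ygi34 zgi14) (kgi xgi21 ygi34 zgi12) (kgi xgi23 ygi26 zgi9) (kgi xgi29 ygi57 zgi56) (kgi xgi21 ygi34 zgi60) (kgi xgi14 ygi49 zgi61) (kgi xgi29 ygi19 zgi42) (kgi xgi12 ygi12 zgi50) (kgi xgi12 ygi34 zgi47) (kgi xgi12 ygi34 zgi44) (kgi xgi27 ygi20 zgi22) (kgi xgi12 ygi12 zgi52) (kgi xgi12 ygi46 zgi29) (kgi xgi21 ygi35 zgi37) (kgi xgi12 ygi12 zgi54) (kgi xgi12 ygi28 zgi56) (kgi xgi26 ygi14 zgi42) (kgi xgi23 ygi49 zgi47) (kgi xgi21 ygi42 zgi41) (kgi xgi21 ygi33 zgi16) (kgi xgi21 ygi46 zgi19) (kgi xgi12 ygi40 zgi16) (kgi xgi25 ygi59 zgi8) (kgi xgi14 ygi23 zgi51) (kgi xgi12 ygi13 zgi1) (kgi xgi12 ygi39 zgi49) (kgi xgi19 ygi16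 zgi38) (kgi xgi12 ygi40 zgi21) (kgi xgi25 ygi41 zgi59) (kgi xgi12 ygi40 zgi14) (kgi xgi12 ygi13 zgi10) (kgi xgi21 ygi46 zgi46)) (@D3.rec (fun _ => Pt) (kgi xgi21 ygi46 zgi44) (kgi xgi21 ygi43 zgi2) (kgi xgi12 ygi13 zgi12) (kgi xgi21 ygi18 zgi16) (kgi xgi21 ygi18 zgi14) (kgi xgi29 ygi58 zgi4) (kgi xgi29 ygi24 zgi18) (kgi xgi29 ygi58 zgi7) (kgi xgi21 ygi24 zgi25) (kgi xgi21 ygi24 zgi23) (kgi xgi22 ygi43 zgi50) (kgi xgi14 ygi49 zgi52) (kgi xgi29 ygi58 zgi10) (kgi xgi12 ygi13 zgi20) (kgi xgi21 ygi34 zgi17) (kgi xgi21 ygi34 zgi15) (kgi xgi29 ygi57 zgi38) (kgi xgi29 ygi58 zgi15) (kgi xgi23 ygi40 zgi1) (kgi xgi29 ygi58 zgi17) (kgi xgi12 ygi18 zgi45) (kgi xgi15 ygi46 zgi1) (kgi xgi27 ygi4 zgi31) (kgi xgi20 ygi16 zgi26) (kgi xgi14 ygi6 zgi22)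 (kgi xgi12 ygi13 zgi26) (kgi xgi29 ygi58 zgi26) (kgi xgi28 ygi11 zgi57) (kgi xgi29 ygi58 zgi30) (kgi xgi12 ygi13 zgi30) (kgi xgi29 ygi57 zgi57) (kgi xgi29 ygi57 zgi55) (kgi xgi21 ygi33 zgi23) (kgi xgi12 ygi13 zgi33) (kgi xgi17 ygi45 zgi4) (kgi xgi24 ygi42 zgi22) (kgi xgi12 ygi13 zgi37) (kgi xgi21 ygi49 zgi49) (kgi xgi21 ygi40 zgi31) (kgi xgi12 ygi13 zgi36) (kgi xgi21 ygi50 zgi42) (kgi xgi21 ygi42 zgi44) (kgi xgi29 ygi22 zgi53) (kgi xgi12 ygi48 zgi36) (kgi xgi12 ygi13 zgi42) (kgi xgi21 ygi6 zgi12) (kgi xgi29 ygi58 zgi38) (kgi xgi12 ygi20 zgi20) (kgi xgi21 ygi26 zgi43) (kgi xgi21 ygi5 zgi59) (kgi xgi29 ygi58 zgi37) (kgi xgi16 ygi5 zgi40) (kgi xgi20 ygi16 zgi28) (kgi xgi25 ygi4 zgi1) (kgi xgi12 ygi13 zgi45) (kgi xgi21 ygi33 zgi44) (kgi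 xgi21 ygi33 zgi42) (kgi xgi24 ygi31 zgi21) (kgi xgi21 ygi26 zgi4) (kgi xgi27 ygi26 zgi11) (kgi xgi12 ygi13 zgi50) (kgi xgi22 ygi11 zgi50)) (@D3.rec (fun _ => Pt) (kgi xgi22 ygi11 zgi48) (kgi xgi29 ygi58 zgi49) (kgi xgi23 ygi45 zgi25) (kgi xgi16 ygi59 zgi38) (kgi xgi12 ygi31 zgi61) (kgi xgi12 ygi50 zgi14) (kgi xgi18 ygi25 zgi31) (kgi xgi20 ygi37 zgi37) (kgi xgi28 ygi10 zgi20) (kgi xgi27 ygi12 zgi27) (kgi xgi27 ygi43 zgi47) (kgi xgi23 ygi53 zgi57) (kgi xgi12 ygi14 zgi13) (kgi xgi26 ygi3 zgi57) (kgi xgi29 ygi42 zgi51) (kgi xgi20 ygi37 zgi32) (kgi xgi17 ygi33 zgi24) (kgi xgi18 ygi24 zgi1) (kgi xgi18 ygi57 zgi40) (kgi xgi12 ygi35 zgi21) (kgi xgi14 ygi33 zgi7) (kgi xgi12 ygi14 zgi22) (kgi xgi20 ygi37 zgi45) (kgi xgi12 ygi14 zgi26) (kgi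 xgi12 ygi15 zgi9) (kgi xgi12 ygi15 zgi28) (kgi xgi12 ygi15 zgi27) (kgi xgi26 ygi57 zgi55) (kgi xgi12 ygi27 zgi48) (kgi xgi21 ygi42 zgi43) (kgi xgi23 ygi26 zgi34) (kgi xgi14 ygi18 zgi13) (kgi xgi28 ygi17 zgi45) (kgi xgi17 ygi18 zgi49) (kgi xgi17 ygi5 zgi54) (kgi xgi21 ygi44 zgi34) (kgi xgi21 ygi45 zgi56) (kgi xgi21 ygi26 zgi26) (kgi xgi21 ygi54 zgi42) (kgi xgi21 ygi1 zgi7) (kgi xgi22 ygi21 zgi49) (kgi xgi12 ygi53 zgi38) (kgi xgi20 ygi5 zgi51) (kgi xgi22 ygi40 zgi33) (kgi xgi14 ygi20 zgi58) (kgi xgi12 ygi15 zgi37) (kgi xgi17 ygi35 zgi6) (kgi xgi15 ygi48 zgi27) (kgi xgi23 ygi46 zgi48) (kgi xgi12 ygi15 zgi35) (kgi xgi18 ygi24 zgi2) (kgi xgi12 ygi15 zgi29) (kgi xgi12 ygi15 zgi30) (kgi xgi29 ygi25 zgi50) (kgi xgi15 ygi48 zgi31) (kgi xgi12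 ygi15 zgi34) (kgi xgi21 ygi35 zgi15) (kgi xgi29 ygi58 zgi60) (kgi xgi29 ygi43 zgi28) (kgi xgi26 ygi59 zgi26) (kgi xgi21 ygi16 zgi48) (kgi xgi29 ygi9 zgi23)) (@D3.rec (fun _ => Pt) (kgi xgi17 ygi28 zgi32) (kgi xgi21 ygi42 zgi45) (kgi xgi29 ygi58 zgi36) (kgi xgi14 ygi17 zgi50) (kgi xgi12 ygi15 zgi52) (kgi xgi21 ygi47 zgi44) (kgi xgi21 ygi16 zgi58) (kgi xgi15 ygi58 zgi52) (kgi xgi29 ygi59 zgi3) (kgi xgi12 ygi16 zgi0) (kgi xgi12 ygi21 zgi15) (kgi xgi24 ygi17 zgi17) (kgi xgi12 ygi27 zgi18) (kgi xgi12 ygi16 zgi10) (kgi xgi12 ygi16 zgi18) (kgi xgi23 ygi22 zgi54) (kgi xgi12 ygi16 zgi17) (kgi xgi13 ygi0 zgi33) (kgi xgi13 ygi0 zgi30) (kgi xgi21 ygi47 zgi60) (kgi xgi29 ygi21 zgi51) (kgi xgi29 ygi59 zgi7) (kgi xgi12 ygi16 zgi20) (kgi xgi21 ygi48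 zgi20) (kgi xgi21 ygi57 zgi56) (kgi xgi21 ygi48 zgi18) (kgi xgi20 ygi49 zgi11) (kgi xgi20 ygi2 zgi51) (kgi xgi14 ygi46 zgi58) (kgi xgi19 ygi10 zgi33) (kgi xgi17 ygi30 zgi42) (kgi xgi16 ygi14 zgi10) (kgi xgi12 ygi16 zgi24) (kgi xgi21 ygi43 zgi15) (kgi xgi29 ygi59 zgi21) (kgi xgi12 ygi43 zgi19) (kgi xgi12 ygi51 zgi25) (kgi xgi12 ygi37 zgi17) (kgi xgi21 ygi11 zgi37) (kgi xgi12 ygi43 zgi16) (kgi xgi25 ygi12 zgi48) (kgi xgi23 ygi24 zgi34) (kgi xgi12 ygi41 zgi54) (kgi xgi24 ygi42 zgi15) (kgi xgi17 ygi30 zgi50) (kgi xgi15 ygi45 zgi25) (kgi xgi12 ygi16 zgi32) (kgi xgi24 ygi41 zgi40) (kgi xgi21 ygi43 zgi25) (kgi xgi12 ygi42 zgi3) (kgi xgi12 ygi42 zgi1) (kgi xgi12 ygi16 zgi36) (kgi xgi14 ygi3 zgi9) (kgi xgi29 ygi4 zgi32) (kgi xgi23 ygi23 zgi29)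 (kgi xgi22 ygi31 zgi11) (kgi xgi29 ygi59 zgi37) (kgi xgi18 ygi16 zgi44) (kgi xgi12 ygi16 zgi41) (kgi xgi23 ygi47 zgi20) (kgi xgi24 ygi43 zgi27) (kgi xgi27 ygi20 zgi50)) (@D3.rec (fun _ => Pt) (kgi xgi14 ygi34 zgi58) (kgi xgi26 ygi5 zgi14) (kgi xgi21 ygi34 zgi27) (kgi xgi29 ygi36 zgi20) (kgi xgi12 ygi16 zgi51) (kgi xgi29 ygi42 zgi26) (kgi xgi12 ygi36 zgi37) (kgi xgi12 ygi16 zgi52) (kgi xgi21 ygi26 zgi41) (kgi xgi19 ygi53 zgi24) (kgi xgi17 ygi21 zgi4) (kgi xgi12 ygi53 zgi17) (kgi xgi24 ygi10 zgi5) (kgi xgi12 ygi16 zgi55) (kgi xgi12 ygi53 zgi25) (kgi xgi29 ygi59 zgi42) (kgi xgi14 ygi11 zgi56) (kgi xgi24 ygi41 zgi27) (kgi xgi14 ygi29 zgi25) (kgi xgi12 ygi16 zgi61) (kgi xgi27 ygi4 zgi7) (kgi xgi27 ygi4 zgi5) (kgi xgi29 ygi58 zgi24) (kgi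 xgi21 ygi39 zgi59) (kgi xgi29 ygi59 zgi49) (kgi xgi12 ygi39 zgi24) (kgi xgi12 ygi17 zgi9) (kgi xgi25 ygi44 zgi46) (kgi xgi25 ygi45 zgi14) (kgi xgi17 ygi14 zgi7) (kgi xgi12 ygi17 zgi11) (kgi xgi12 ygi32 zgi49) (kgi xgi21 ygi42 zgi6) (kgi xgi12 ygi51 zgi0) (kgi xgi12 ygi17 zgi13) (kgi xgi12 ygi42 zgi55) (kgi xgi16 ygi8 zgi61) (kgi xgi25 ygi13 zgi4) (kgi xgi25 ygi44 zgi38) (kgi xgi29 ygi59 zgi52) (kgi xgi12 ygi50 zgi52) (kgi xgi12 ygi26 zgi2) (kgi xgi15 ygi42 zgi3) (kgi xgi21 ygi23 zgi21) (kgi xgi20 ygi16 zgi30) (kgi xgi24 ygi39 zgi20) (kgi xgi12 ygi17 zgi19) (kgi xgi12 ygi43 zgi24) (kgi xgi21 ygi58 zgi17) (kgi xgi22 ygi11 zgi16) (kgi xgi20 ygi26 zgi8) (kgi xgi17 ygi12 zgi46) (kgi xgi27 ygi24 zgi58) (kgi xgi23 ygi38 zgi4) (kgi xgi12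 ygi49 zgi7) (kgi xgi12 ygi31 zgi23) (kgi xgi27 ygi48 zgi19) (kgi xgi20 ygi4 zgi2) (kgi xgi27 ygi3 zgi59) (kgi xgi27 ygi3 zgi58) (kgi xgi29 ygi59 zgi55) (kgi xgi23 ygi1 zgi55)) (@D3.rec (fun _ => Pt) (kgi xgi12 ygi26 zgi59) (kgi xgi17 ygi42 zgi53) (kgi xgi21 ygi37 zgi33) (kgi xgi14 ygi33 zgi8) (kgi xgi27 ygi37 zgi54) (kgi xgi27 ygi25 zgi32) (kgi xgi12 ygi50 zgi50) (kgi xgi12 ygi19 zgi38) (kgi xgi29 ygi59 zgi57) (kgi xgi21 ygi23 zgi31) (kgi xgi22 ygi2 zgi54) (kgi xgi21 ygi59 zgi9) (kgi xgi12 ygi19 zgi30) (kgi xgi12 ygi17 zgi52) (kgi xgi21 ygi59 zgi52) (kgi xgi12 ygi17 zgi53) (kgi xgi12 ygi17 zgi54) (kgi xgi27 ygi27 zgi18) (kgi xgi12 ygi17 zgi56) (kgi xgi21 ygi34 zgi33) (kgi xgi25 ygi15 zgi4) (kgi xgi21 ygi22 zgi40) (kgi xgi20 ygi16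 zgi27) (kgi xgi29 ygi39 zgi2) (kgi xgi12 ygi17 zgi61) (kgi xgi21 ygi59 zgi10) (kgi xgi21 ygi59 zgi12) (kgi xgi16 ygi15 zgi3) (kgi xgi27 ygi56 zgi3) (kgi xgi21 ygi59 zgi33) (kgi xgi17 ygi43 zgi50) (kgi xgi21 ygi23 zgi6) (kgi xgi21 ygi59 zgi11) (kgi xgi19 ygi54 zgi2) (kgi xgi21 ygi46 zgi8) (kgi xgi12 ygi18 zgi25) (kgi xgi17 ygi28 zgi9) (kgi xgi21 ygi59 zgi1) (kgi xgi30 ygi0 zgi2) (kgi xgi12 ygi18 zgi8) (kgi xgi17 ygi48 zgi44) (kgi xgi24 ygi51 zgi0) (kgi xgi12 ygi56 zgi9) (kgi xgi12 ygi18 zgi19) (kgi xgi12 ygi18 zgi14) (kgi xgi22 ygi10 zgi22) (kgi xgi22 ygi10 zgi31) (kgi xgi21 ygi56 zgi30) (kgi xgi12 ygi48 zgi38) (kgi xgi27 ygi29 zgi24) (kgi xgi21 ygi10 zgi19) (kgi xgi14 ygi36 zgi27) (kgi xgi29 ygi51 zgi50) (kgi xgi15 ygi41 zgi21) (kgi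 xgi12 ygi18 zgi16) (kgi xgi30 ygi0 zgi7) (kgi xgi12 ygi18 zgi17) (kgi xgi12 ygi18 zgi18) (kgi xgi27 ygi29 zgi18) (kgi xgi29 ygi38 zgi61) (kgi xgi29 ygi17 zgi6) (kgi xgi25 ygi44 zgi44)) (@D3.rec (fun _ => Pt) (kgi xgi23 ygi59 zgi0) (kgi xgi30 ygi0 zgi10) (kgi xgi20 ygi28 zgi12) (kgi xgi29 ygi21 zgi58) (kgi xgi30 ygi0 zgi9) (kgi xgi12 ygi18 zgi23) (kgi xgi27 ygi29 zgi14) (kgi xgi17 ygi59 zgi7) (kgi xgi25 ygi24 zgi35) (kgi xgi28 ygi15 zgi61) (kgi xgi12 ygi18 zgi24) (kgi xgi16 ygi8 zgi44) (kgi xgi25 ygi44 zgi29) (kgi xgi17 ygi35 zgi29) (kgi xgi19 ygi58 zgi4) (kgi xgi30 ygi0 zgi17) (kgi xgi23 ygi2 zgi48) (kgi xgi12 ygi18 zgi31) (kgi xgi12 ygi18 zgi32) (kgi xgi27 ygi4 zgi27) (kgi xgi27 ygi4 zgi25) (kgi xgi29 ygi57 zgi52) (kgi xgi23 ygi40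 zgi3) (kgi xgi12 ygi18 zgi34) (kgi xgi21 ygi19 zgi9) (kgi xgi15 ygi43 zgi2) (kgi xgi27 ygi58 zgi8) (kgi xgi24 ygi23 zgi52) (kgi xgi14 ygi22 zgi1) (kgi xgi12 ygi18 zgi40) (kgi xgi13 ygi54 zgi25) (kgi xgi23 ygi39 zgi11) (kgi xgi24 ygi23 zgi22) (kgi xgi30 ygi0 zgi33) (kgi xgi25 ygi30 zgi28) (kgi xgi21 ygi19 zgi24) (kgi xgi23 ygi36 zgi22) (kgi xgi21 ygi34 zgi32) (kgi xgi29 ygi58 zgi43) (kgi xgi13 ygi56 zgi6) (kgi xgi30 ygi0 zgi39) (kgi xgi30 ygi0 zgi43) (kgi xgi12 ygi18 zgi47) (kgi xgi30 ygi0 zgi24) (kgi xgi30 ygi0 zgi23) (kgi xgi16 ygi9 zgi27) (kgi xgi12 ygi18 zgi49) (kgi xgi12 ygi18 zgi52) (kgi xgi12 ygi25 zgi48) (kgi xgi12 ygi24 zgi41) (kgi xgi25 ygi45 zgi35) (kgi xgi12 ygi24 zgi39) (kgi xgi13 ygi25 zgi5) (kgi xgi22 ygi2 zgi50) (kgi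 xgi22 ygi5 zgi3) (kgi xgi22 ygi9 zgi36) (kgi xgi16 ygi7 zgi56) (kgi xgi22 ygi31 zgi16) (kgi xgi12 ygi20 zgi41) (kgi xgi12 ygi18 zgi59) (kgi xgi21 ygi33 zgi47) (kgi xgi21 ygi33 zgi45)) (@D3.rec (fun _ => Pt) (kgi xgi22 ygi28 zgi29) (kgi xgi15 ygi12 zgi8) (kgi xgi12 ygi19 zgi61) (kgi xgi23 ygi1 zgi53) (kgi xgi23 ygi1 zgi51) (kgi xgi20 ygi4 zgi10) (kgi xgi12 ygi19 zgi4) (kgi xgi22 ygi11 zgi47) (kgi xgi22 ygi11 zgi45) (kgi xgi18 ygi30 zgi7) (kgi xgi18 ygi30 zgi1) (kgi xgi12 ygi19 zgi7) (kgi xgi22 ygi27 zgi52) (kgi xgi27 ygi26 zgi25) (kgi xgi30 ygi0 zgi58) (kgi xgi30 ygi0 zgi61) (kgi xgi22 ygi8 zgi10) (kgi xgi12 ygi20 zgi40) (kgi xgi12 ygi26 zgi42) (kgi xgi22 ygi9 zgi37) (kgi xgi22 ygi31 zgi17) (kgi xgi21 ygi26 zgi2) (kgi xgi22 ygi2 zgi52)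 (kgi xgi18 ygi30 zgi8) (kgi xgi12 ygi19 zgi15) (kgi xgi18 ygi37 zgi30) (kgi xgi26 ygi14 zgi53) (kgi xgi18 ygi29 zgi61) (kgi xgi26 ygi15 zgi41) (kgi xgi27 ygi4 zgi23) (kgi xgi18 ygi29 zgi53) (kgi xgi15 ygi13 zgi55) (kgi xgi12 ygi19 zgi19) (kgi xgi14 ygi8 zgi48) (kgi xgi16 ygi35 zgi59) (kgi xgi14 ygi8 zgi44) (kgi xgi21 ygi41 zgi57) (kgi xgi27 ygi47 zgi3) (kgi xgi27 ygi46 zgi43) (kgi xgi12 ygi19 zgi25) (kgi xgi30 ygi1 zgi10) (kgi xgi21 ygi27 zgi12) (kgi xgi17 ygi35 zgi11) (kgi xgi15 ygi36 zgi30) (kgi xgi12 ygi19 zgi32) (kgi xgi27 ygi17 zgi44) (kgi xgi14 ygi9 zgi31) (kgi xgi17 ygi33 zgi17) (kgi xgi27 ygi4 zgi48) (kgi xgi21 ygi33 zgi25) (kgi xgi12 ygi19 zgi34) (kgi xgi12 ygi40 zgi40) (kgi xgi12 ygi19 zgi35) (kgi xgi16 ygi8 zgi1) (kgi xgi27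 ygi46 zgi29) (kgi xgi18 ygi37 zgi57) (kgi xgi12 ygi19 zgi37) (kgi xgi12 ygi47 zgi21) (kgi xgi21 ygi34 zgi48) (kgi xgi12 ygi45 zgi5) (kgi xgi14 ygi4 zgi22) (kgi xgi12 ygi19 zgi49)) (@D3.rec (fun _ => Pt) (kgi xgi21 ygi33 zgi52) (kgi xgi27 ygi48 zgi6) (kgi xgi21 ygi25 zgi18) (kgi xgi27 ygi48 zgi1) (kgi xgi12 ygi19 zgi53) (kgi xgi21 ygi19 zgi58) (kgi xgi23 ygi44 zgi30) (kgi xgi27 ygi31 zgi3) (kgi xgi27 ygi31 zgi2) (kgi xgi22 ygi8 zgi31) (kgi xgi23 ygi50 zgi5) (kgi xgi17 ygi30 zgi27) (kgi xgi27 ygi30 zgi35) (kgi xgi28 ygi12 zgi5) (kgi xgi18 ygi16 zgi37) (kgi xgi30 ygi1 zgi17) (kgi xgi17 ygi44 zgi5) (kgi xgi26 ygi14 zgi52) (kgi xgi12 ygi20 zgi4) (kgi xgi12 ygi20 zgi8) (kgi xgi18 ygi37 zgi13) (kgi xgi12 ygi20 zgi5) (kgi xgi26 ygi14 zgi50)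 (kgi xgi21 ygi20 zgi38) (kgi xgi17 ygi45 zgi7) (kgi xgi27 ygi27 zgi48) (kgi xgi17 ygi58 zgi44) (kgi xgi12 ygi20 zgi7) (kgi xgi27 ygi29 zgi38) (kgi xgi12 ygi27 zgi20) (kgi xgi16 ygi17 zgi53) (kgi xgi20 ygi42 zgi22) (kgi xgi12 ygi20 zgi15) (kgi xgi12 ygi35 zgi49) (kgi xgi19 ygi15 zgi5) (kgi xgi12 ygi20 zgi31) (kgi xgi15 ygi38 zgi33) (kgi xgi18 ygi16 zgi54) (kgi xgi22 ygi37 zgi2) (kgi xgi13 ygi25 zgi7) (kgi xgi27 ygi42 zgi20) (kgi xgi21 ygi22 zgi7) (kgi xgi16 ygi13 zgi50) (kgi xgi29 ygi22 zgi18) (kgi xgi12 ygi21 zgi11) (kgi xgi29 ygi22 zgi34) (kgi xgi12 ygi20 zgi38) (kgi xgi25 ygi45 zgi37) (kgi xgi27 ygi4 zgi46) (kgi xgi12 ygi27 zgi28) (kgi xgi17 ygi14 zgi11) (kgi xgi27 ygi22 zgi5) (kgi xgi27 ygi4 zgi45) (kgi xgi23 ygi2 zgi50) (kgi xgi21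 ygi9 zgi46) (kgi xgi25 ygi45 zgi2) (kgi xgi20 ygi15 zgi50) (kgi xgi30 ygi1 zgi25) (kgi xgi21 ygi51 zgi61) (kgi xgi12 ygi20 zgi48) (kgi xgi12 ygi21 zgi40) (kgi xgi17 ygi50 zgi61)) (@D3.rec (fun _ => Pt) (kgi xgi20 ygi47 zgi35) (kgi xgi12 ygi20 zgi57) (kgi xgi27 ygi4 zgi53) (kgi xgi27 ygi4 zgi51) (kgi xgi29 ygi56 zgi6) (kgi xgi25 ygi5 zgi0) (kgi xgi12 ygi20 zgi59) (kgi xgi27 ygi4 zgi55) (kgi xgi25 ygi30 zgi10) (kgi xgi27 ygi39 zgi37) (kgi xgi12 ygi20 zgi61) (kgi xgi25 ygi30 zgi27) (kgi xgi12 ygi59 zgi3) (kgi xgi17 ygi28 zgi8) (kgi xgi15 ygi56 zgi53) (kgi xgi29 ygi57 zgi21) (kgi xgi28 ygi34 zgi0) (kgi xgi12 ygi21 zgi4) (kgi xgi21 ygi5 zgi8) (kgi xgi29 ygi50 zgi45) (kgi xgi27 ygi7 zgi49) (kgi xgi29 ygi3 zgi38) (kgi xgi12 ygi21 zgi6) (kgi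 xgi25 ygi30 zgi17) (kgi xgi30 ygi1 zgi30) (kgi xgi12 ygi21 zgi9) (kgi xgi12 ygi21 zgi12) (kgi xgi29 ygi58 zgi0) (kgi xgi27 ygi23 zgi27) (kgi xgi27 ygi11 zgi35) (kgi xgi25 ygi44 zgi28) (kgi xgi15 ygi16 zgi30) (kgi xgi27 ygi23 zgi25) (kgi xgi19 ygi35 zgi51) (kgi xgi15 ygi24 zgi41) (kgi xgi27 ygi6 zgi3) (kgi xgi21 ygi5 zgi28) (kgi xgi12 ygi24 zgi19) (kgi xgi12 ygi24 zgi40) (kgi xgi30 ygi1 zgi47) (kgi xgi15 ygi59 zgi11) (kgi xgi18 ygi36 zgi37) (kgi xgi27 ygi20 zgi52) (kgi xgi12 ygi21 zgi19) (kgi xgi21 ygi6 zgi5) (kgi xgi21 ygi6 zgi3) (kgi xgi21 ygi56 zgi9) (kgi xgi21 ygi55 zgi19) (kgi xgi17 ygi14 zgi14) (kgi xgi12 ygi21 zgi23) (kgi xgi14 ygi44 zgi37) (kgi xgi14 ygi44 zgi35) (kgi xgi23 ygi42 zgi8) (kgi xgi13 ygi22 zgi6) (kgi xgi12 ygi59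 zgi23) (kgi xgi30 ygi1 zgi56) (kgi xgi27 ygi5 zgi53) (kgi xgi21 ygi8 zgi51) (kgi xgi27 ygi22 zgi8) (kgi xgi22 ygi10 zgi37) (kgi xgi30 ygi1 zgi61) (kgi xgi12 ygi21 zgi29)) (@D3.rec (fun _ => Pt) (kgi xgi27 ygi22 zgi4) (kgi xgi19 ygi26 zgi31) (kgi xgi12 ygi21 zgi30) (kgi xgi16 ygi12 zgi4) (kgi xgi13 ygi50 zgi55) (kgi xgi30 ygi1 zgi58) (kgi xgi26 ygi2 zgi57) (kgi xgi27 ygi47 zgi42) (kgi xgi26 ygi3 zgi38) (kgi xgi12 ygi21 zgi33) (kgi xgi29 ygi57 zgi34) (kgi xgi30 ygi2 zgi17) (kgi xgi30 ygi1 zgi53) (kgi xgi25 ygi2 zgi25) (kgi xgi26 ygi2 zgi24) (kgi xgi15 ygi44 zgi46) (kgi xgi26 ygi3 zgi13) (kgi xgi26 ygi11 zgi18) (kgi xgi30 ygi2 zgi25) (kgi xgi26 ygi0 zgi50) (kgi xgi17 ygi34 zgi42) (kgi xgi17 ygi35 zgi10) (kgi xgi16 ygi9 zgi22) (kgi xgi12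 ygi48 zgi11) (kgi xgi29 ygi52 zgi34) (kgi xgi22 ygi3 zgi1) (kgi xgi16 ygi36 zgi8) (kgi xgi27 ygi48 zgi32) (kgi xgi26 ygi0 zgi47) (kgi xgi12 ygi50 zgi45) (kgi xgi12 ygi35 zgi31) (kgi xgi30 ygi2 zgi32) (kgi xgi27 ygi31 zgi42) (kgi xgi21 ygi50 zgi0) (kgi xgi12 ygi21 zgi53) (kgi xgi12 ygi46 zgi37) (kgi xgi29 ygi26 zgi58) (kgi xgi25 ygi3 zgi59) (kgi xgi26 ygi30 zgi58) (kgi xgi16 ygi27 zgi56) (kgi xgi26 ygi22 zgi42) (kgi xgi12 ygi21 zgi58) (kgi xgi18 ygi39 zgi48) (kgi xgi24 ygi31 zgi1) (kgi xgi20 ygi52 zgi18) (kgi xgi12 ygi21 zgi61) (kgi xgi30 ygi2 zgi34) (kgi xgi27 ygi57 zgi50) (kgi xgi12 ygi31 zgi53) (kgi xgi21 ygi44 zgi50) (kgi xgi12 ygi44 zgi34) (kgi xgi12 ygi22 zgi7) (kgi xgi12 ygi22 zgi15) (kgi xgi23 ygi7 zgi20) (kgi xgi12 ygi22 zgi12)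 (kgi xgi15 ygi6 zgi24) (kgi xgi25 ygi39 zgi59) (kgi xgi25 ygi17 zgi36) (kgi xgi29 ygi30 zgi57) (kgi xgi12 ygi22 zgi14) (kgi xgi23 ygi7 zgi21) (kgi xgi16 ygi31 zgi25)) (@D3.rec (fun _ => Pt) (kgi xgi26 ygi22 zgi4) (kgi xgi18 ygi1 zgi33) (kgi xgi12 ygi22 zgi21) (kgi xgi18 ygi41 zgi33) (kgi xgi29 ygi18 zgi14) (kgi xgi27 ygi58 zgi44) (kgi xgi12 ygi22 zgi25) (kgi xgi17 ygi2 zgi44) (kgi xgi26 ygi8 zgi61) (kgi xgi17 ygi2 zgi42) (kgi xgi23 ygi31 zgi17) (kgi xgi21 ygi53 zgi61) (kgi xgi17 ygi15 zgi16) (kgi xgi24 ygi54 zgi14) (kgi xgi12 ygi22 zgi32) (kgi xgi12 ygi22 zgi39) (kgi xgi17 ygi56 zgi36) (kgi xgi16 ygi31 zgi56) (kgi xgi12 ygi22 zgi33) (kgi xgi16 ygi25 zgi48) (kgi xgi26 ygi6 zgi30) (kgi xgi30 ygi2 zgi47) (kgi xgi30 ygi2 zgi49) (kgi xgi12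 ygi22 zgi38) (kgi xgi26 ygi22 zgi43) (kgi xgi21 ygi29 zgi48) (kgi xgi26 ygi8 zgi60) (kgi xgi17 ygi56 zgi11) (kgi xgi23 ygi29 zgi40) (kgi xgi30 ygi2 zgi53) (kgi xgi17 ygi9 zgi18) (kgi xgi16 ygi23 zgi48) (kgi xgi18 ygi24 zgi26) (kgi xgi24 ygi33 zgi48) (kgi xgi17 ygi55 zgi20) (kgi xgi26 ygi22 zgi37) (kgi xgi22 ygi35 zgi21) (kgi xgi30 ygi2 zgi58) (kgi xgi24 ygi36 zgi46) (kgi xgi14 ygi6 zgi54) (kgi xgi24 ygi42 zgi27) (kgi xgi30 ygi2 zgi50) (kgi xgi12 ygi22 zgi49) (kgi xgi13 ygi55 zgi31) (kgi xgi23 ygi34 zgi45) (kgi xgi29 ygi9 zgi35) (kgi xgi18 ygi40 zgi59) (kgi xgi12 ygi23 zgi5) (kgi xgi26 ygi23 zgi11) (kgi xgi21 ygi29 zgi25) (kgi xgi16 ygi26 zgi42) (kgi xgi12 ygi22 zgi57) (kgi xgi15 ygi6 zgi15) (kgi xgi24 ygi17 zgi35) (kgi xgi15 ygi6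 zgi12) (kgi xgi12 ygi23 zgi1) (kgi xgi22 ygi49 zgi45) (kgi xgi24 ygi57 zgi29) (kgi xgi27 ygi54 zgi49) (kgi xgi15 ygi5 zgi49) (kgi xgi22 ygi29 zgi4) (kgi xgi18 ygi48 zgi7)) (@D3.rec (fun _ => Pt) (kgi xgi14 ygi8 zgi40) (kgi xgi14 ygi4 zgi10) (kgi xgi23 ygi7 zgi37) (kgi xgi26 ygi25 zgi3) (kgi xgi17 ygi15 zgi17) (kgi xgi21 ygi29 zgi46) (kgi xgi21 ygi14 zgi53) (kgi xgi16 ygi29 zgi52) (kgi xgi29 ygi52 zgi53) (kgi xgi16 ygi29 zgi49) (kgi xgi17 ygi9 zgi32) (kgi xgi21 ygi8 zgi6) (kgi xgi16 ygi28 zgi24) (kgi xgi29 ygi14 zgi59) (kgi xgi26 ygi26 zgi26) (kgi xgi23 ygi14 zgi43) (kgi xgi18 ygi25 zgi42) (kgi xgi14 ygi35 zgi59) (kgi xgi14 ygi36 zgi0) (kgi xgi20 ygi35 zgi20) (kgi xgi27 ygi0 zgi59) (kgi xgi21 ygi3 zgi58) (kgi xgi17 ygi5 zgi40) (kgi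 xgi26 ygi55 zgi10) (kgi xgi14 ygi35 zgi51) (kgi xgi20 ygi20 zgi17) (kgi xgi22 ygi4 zgi46) (kgi xgi12 ygi23 zgi29) (kgi xgi20 ygi37 zgi31) (kgi xgi27 ygi4 zgi56) (kgi xgi18 ygi25 zgi34) (kgi xgi21 ygi9 zgi23) (kgi xgi15 ygi51 zgi15) (kgi xgi12 ygi23 zgi33) (kgi xgi20 ygi9 zgi24) (kgi xgi22 ygi3 zgi50) (kgi xgi15 ygi55 zgi45) (kgi xgi20 ygi9 zgi22) (kgi xgi19 ygi51 zgi12) (kgi xgi27 ygi13 zgi43) (kgi xgi26 ygi50 zgi43) (kgi xgi21 ygi57 zgi33) (kgi xgi26 ygi26 zgi21) (kgi xgi16 ygi31 zgi51) (kgi xgi12 ygi23 zgi48) (kgi xgi20 ygi26 zgi22) (kgi xgi25 ygi51 zgi32) (kgi xgi12 ygi23 zgi50) (kgi xgi13 ygi59 zgi12) (kgi xgi13 ygi54 zgi45) (kgi xgi21 ygi12 zgi16) (kgi xgi29 ygi55 zgi29) (kgi xgi25 ygi33 zgi58) (kgi xgi21 ygi36 zgi18) (kgi xgi12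 ygi58 zgi0) (kgi xgi30 ygi2 zgi37) (kgi xgi13 ygi1 zgi20) (kgi xgi14 ygi20 zgi2) (kgi xgi30 ygi3 zgi25) (kgi xgi18 ygi7 zgi42) (kgi xgi12 ygi24 zgi17) (kgi xgi21 ygi36 zgi46)) (@D3.rec (fun _ => Pt) (kgi xgi12 ygi24 zgi18) (kgi xgi21 ygi38 zgi51) (kgi xgi25 ygi31 zgi32) (kgi xgi27 ygi23 zgi3) (kgi xgi15 ygi59 zgi18) (kgi xgi29 ygi27 zgi56) (kgi xgi22 ygi2 zgi51) (kgi xgi30 ygi3 zgi28) (kgi xgi12 ygi24 zgi23) (kgi xgi14 ygi2 zgi50) (kgi xgi14 ygi2 zgi48) (kgi xgi12 ygi24 zgi25) (kgi xgi17 ygi42 zgi40) (kgi xgi17 ygi14 zgi33) (kgi xgi27 ygi30 zgi37) (kgi xgi16 ygi6 zgi50) (kgi xgi15 ygi38 zgi34) (kgi xgi27 ygi3 zgi56) (kgi xgi12 ygi24 zgi30) (kgi xgi21 ygi6 zgi8) (kgi xgi21 ygi6 zgi6) (kgi xgi17 ygi42 zgi37) (kgi xgi13 ygi59 zgi50)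 (kgi xgi12 ygi24 zgi34) (kgi xgi18 ygi37 zgi33) (kgi xgi22 ygi8 zgi47) (kgi xgi12 ygi27 zgi25) (kgi xgi28 ygi10 zgi15) (kgi xgi12 ygi25 zgi58) (kgi xgi30 ygi1 zgi24) (kgi xgi15 ygi42 zgi53) (kgi xgi23 ygi2 zgi33) (kgi xgi23 ygi2 zgi30) (kgi xgi30 ygi3 zgi35) (kgi xgi27 ygi17 zgi52) (kgi xgi18 ygi57 zgi13) (kgi xgi21 ygi8 zgi18) (kgi xgi12 ygi36 zgi38) (kgi xgi18 ygi17 zgi37) (kgi xgi12 ygi24 zgi44) (kgi xgi30 ygi1 zgi23) (kgi xgi27 ygi50 zgi43) (kgi xgi22 ygi6 zgi15) (kgi xgi19 ygi27 zgi43) (kgi xgi12 ygi24 zgi52) (kgi xgi19 ygi52 zgi43) (kgi xgi14 ygi4 zgi30) (kgi xgi20 ygi18 zgi2) (kgi xgi28 ygi47 zgi24) (kgi xgi15 ygi33 zgi40) (kgi xgi16 ygi14 zgi61) (kgi xgi21 ygi58 zgi22) (kgi xgi30 ygi3 zgi45) (kgi xgi22 ygi8 zgi9) (kgi xgi12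 ygi24 zgi60) (kgi xgi27 ygi5 zgi47) (kgi xgi27 ygi5 zgi45) (kgi xgi20 ygi42 zgi40) (kgi xgi20 ygi28 zgi0) (kgi xgi20 ygi23 zgi27) (kgi xgi26 ygi58 zgi52) (kgi xgi20 ygi50 zgi50)) (@D3.rec (fun _ => Pt) (kgi xgi21 ygi23 zgi56) (kgi xgi17 ygi42 zgi32) (kgi xgi17 ygi16 zgi19) (kgi xgi12 ygi25 zgi11) (kgi xgi17 ygi3 zgi59) (kgi xgi17 ygi14 zgi4) (kgi xgi21 ygi4 zgi7) (kgi xgi16 ygi57 zgi34) (kgi xgi22 ygi2 zgi30) (kgi xgi22 ygi2 zgi28) (kgi xgi29 ygi55 zgi60) (kgi xgi12 ygi25 zgi14) (kgi xgi21 ygi52 zgi19) (kgi xgi24 ygi18 zgi31) (kgi xgi26 ygi59 zgi1) (kgi xgi30 ygi3 zgi54) (kgi xgi21 ygi20 zgi13) (kgi xgi17 ygi42 zgi16) (kgi xgi27 ygi30 zgi39) (kgi xgi20 ygi9 zgi55) (kgi xgi14 ygi52 zgi60) (kgi xgi21 ygi43 zgi39) (kgi xgi12 ygi34 zgi31)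 (kgi xgi21 ygi20 zgi48) (kgi xgi26 ygi28 zgi10) (kgi xgi23 ygi6 zgi14) (kgi xgi14 ygi1 zgi0) (kgi xgi12 ygi25 zgi25) (kgi xgi17 ygi59 zgi48) (kgi xgi23 ygi13 zgi6) (kgi xgi21 ygi47 zgi17) (kgi xgi22 ygi15 zgi59) (kgi xgi28 ygi35 zgi22) (kgi xgi12 ygi25 zgi29) (kgi xgi13 ygi59 zgi45) (kgi xgi15 ygi46 zgi16) (kgi xgi29 ygi57 zgi27) (kgi xgi19 ygi53 zgi9) (kgi xgi17 ygi59 zgi28) (kgi xgi12 ygi25 zgi39) (kgi xgi17 ygi59 zgi49) (kgi xgi26 ygi48 zgi48) (kgi xgi24 ygi57 zgi6) (kgi xgi19 ygi39 zgi43) (kgi xgi17 ygi59 zgi29) (kgi xgi20 ygi17 zgi14) (kgi xgi16 ygi57 zgi4) (kgi xgi12 ygi58 zgi23) (kgi xgi14 ygi56 zgi45) (kgi xgi12 ygi25 zgi53) (kgi xgi22 ygi2 zgi55) (kgi xgi30 ygi4 zgi2) (kgi xgi27 ygi39 zgi27) (kgi xgi14 ygi2 zgi47) (kgi xgi22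 ygi3 zgi38) (kgi xgi16 ygi15 zgi34) (kgi xgi13 ygi52 zgi57) (kgi xgi17 ygi30 zgi54) (kgi xgi20 ygi15 zgi55) (kgi xgi26 ygi12 zgi59) (kgi xgi26 ygi13 zgi2) (kgi xgi15 ygi42 zgi33)) (@D3.rec (fun _ => Pt) (kgi xgi12 ygi26 zgi26) (kgi xgi23 ygi2 zgi27) (kgi xgi12 ygi26 zgi6) (kgi xgi14 ygi56 zgi16) (kgi xgi12 ygi26 zgi13) (kgi xgi29 ygi43 zgi8) (kgi xgi17 ygi4 zgi56) (kgi xgi12 ygi39 zgi20) (kgi xgi26 ygi58 zgi58) (kgi xgi12 ygi26 zgi10) (kgi xgi12 ygi26 zgi22) (kgi xgi23 ygi2 zgi40) (kgi xgi12 ygi39 zgi59) (kgi xgi22 ygi10 zgi36) (kgi xgi12 ygi52 zgi29) (kgi xgi26 ygi28 zgi46) (kgi xgi20 ygi12 zgi60) (kgi xgi23 ygi36 zgi21) (kgi xgi25 ygi44 zgi55) (kgi xgi30 ygi0 zgi49) (kgi xgi12 ygi26 zgi15) (kgi xgi21 ygi32 zgi6) (kgi xgi22 ygi10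 zgi2) (kgi xgi12 ygi29 zgi26) (kgi xgi29 ygi22 zgi31) (kgi xgi21 ygi32 zgi55) (kgi xgi26 ygi21 zgi50) (kgi xgi20 ygi27 zgi45) (kgi xgi12 ygi54 zgi22) (kgi xgi18 ygi32 zgi32) (kgi xgi21 ygi19 zgi32) (kgi xgi12 ygi26 zgi25) (kgi xgi29 ygi22 zgi13) (kgi xgi20 ygi54 zgi41) (kgi xgi12 ygi26 zgi24) (kgi xgi16 ygi5 zgi28) (kgi xgi16 ygi5 zgi25) (kgi xgi20 ygi36 zgi30) (kgi xgi16 ygi17 zgi43) (kgi xgi16 ygi17 zgi45) (kgi xgi27 ygi24 zgi56) (kgi xgi21 ygi58 zgi19) (kgi xgi12 ygi26 zgi34) (kgi xgi21 ygi19 zgi56) (kgi xgi21 ygi19 zgi54) (kgi xgi12 ygi26 zgi35) (kgi xgi21 ygi24 zgi61) (kgi xgi21 ygi24 zgi59) (kgi xgi12 ygi26 zgi37) (kgi xgi16 ygi18 zgi11) (kgi xgi12 ygi26 zgi38) (kgi xgi16 ygi18 zgi5) (kgi xgi21 ygi25 zgi61) (kgi xgi17 ygi45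 zgi17) (kgi xgi23 ygi18 zgi0) (kgi xgi21 ygi25 zgi23) (kgi xgi21 ygi23 zgi26) (kgi xgi12 ygi26 zgi43) (kgi xgi17 ygi44 zgi18) (kgi xgi12 ygi26 zgi44) (kgi xgi22 ygi28 zgi31) (kgi xgi12 ygi26 zgi45)) (@D3.rec (fun _ => Pt) (kgi xgi12 ygi50 zgi19) (kgi xgi28 ygi40 zgi53) (kgi xgi20 ygi4 zgi8) (kgi xgi27 ygi31 zgi44) (kgi xgi17 ygi28 zgi7) (kgi xgi12 ygi26 zgi53) (kgi xgi28 ygi3 zgi55) (kgi xgi17 ygi41 zgi52) (kgi xgi28 ygi4 zgi1) (kgi xgi21 ygi23 zgi11) (kgi xgi12 ygi26 zgi56) (kgi xgi26 ygi59 zgi15) (kgi xgi12 ygi26 zgi61) (kgi xgi21 ygi18 zgi31) (kgi xgi21 ygi18 zgi29) (kgi xgi12 ygi27 zgi0) (kgi xgi21 ygi19 zgi15) (kgi xgi21 ygi19 zgi13) (kgi xgi29 ygi58 zgi2) (kgi xgi30 ygi4 zgi33) (kgi xgi12 ygi27 zgi2) (kgi xgi21 ygi18 zgi24)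 (kgi xgi15 ygi46 zgi11) (kgi xgi29 ygi58 zgi8) (kgi xgi30 ygi4 zgi35) (kgi xgi16 ygi3 zgi55) (kgi xgi30 ygi4 zgi36) (kgi xgi17 ygi13 zgi52) (kgi xgi21 ygi6 zgi0) (kgi xgi30 ygi4 zgi40) (kgi xgi30 ygi4 zgi41) (kgi xgi30 ygi4 zgi42) (kgi xgi17 ygi14 zgi17) (kgi xgi12 ygi50 zgi51) (kgi xgi25 ygi41 zgi44) (kgi xgi21 ygi24 zgi37) (kgi xgi21 ygi19 zgi25) (kgi xgi22 ygi44 zgi48) (kgi xgi30 ygi4 zgi49) (kgi xgi12 ygi27 zgi15) (kgi xgi29 ygi58 zgi31) (kgi xgi29 ygi58 zgi29) (kgi xgi14 ygi54 zgi52) (kgi xgi27 ygi40 zgi58) (kgi xgi17 ygi13 zgi34) (kgi xgi12 ygi39 zgi46) (kgi xgi18 ygi57 zgi24) (kgi xgi14 ygi27 zgi58) (kgi xgi21 ygi50 zgi1) (kgi xgi12 ygi39 zgi44) (kgi xgi27 ygi59 zgi26) (kgi xgi17 ygi14 zgi34) (kgi xgi20 ygi14 zgi19) (kgi xgi22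 ygi9 zgi0) (kgi xgi27 ygi3 zgi44) (kgi xgi12 ygi27 zgi26) (kgi xgi12 ygi27 zgi32) (kgi xgi21 ygi7 zgi43) (kgi xgi17 ygi14 zgi12) (kgi xgi30 ygi4 zgi59) (kgi xgi12 ygi27 zgi37) (kgi xgi20 ygi26 zgi49)) (@D3.rec (fun _ => Pt) (kgi xgi21 ygi3 zgi21) (kgi xgi12 ygi27 zgi58) (kgi xgi18 ygi0 zgi49) (kgi xgi12 ygi28 zgi22) (kgi xgi21 ygi7 zgi53) (kgi xgi21 ygi42 zgi34) (kgi xgi14 ygi27 zgi1) (kgi xgi12 ygi28 zgi7) (kgi xgi12 ygi28 zgi4) (kgi xgi23 ygi47 zgi24) (kgi xgi21 ygi6 zgi56) (kgi xgi24 ygi19 zgi55) (kgi xgi12 ygi56 zgi34) (kgi xgi18 ygi37 zgi43) (kgi xgi27 ygi56 zgi21) (kgi xgi12 ygi28 zgi24) (kgi xgi21 ygi20 zgi56) (kgi xgi30 ygi4 zgi61) (kgi xgi21 ygi31 zgi38) (kgi xgi22 ygi3 zgi13) (kgi xgi20 ygi13 zgi38) (kgi xgi12 ygi28 zgi30)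 (kgi xgi27 ygi55 zgi19) (kgi xgi12 ygi28 zgi31) (kgi xgi24 ygi32 zgi50) (kgi xgi12 ygi28 zgi39) (kgi xgi17 ygi25 zgi54) (kgi xgi30 ygi5 zgi7) (kgi xgi14 ygi23 zgi14) (kgi xgi12 ygi28 zgi42) (kgi xgi12 ygi28 zgi43) (kgi xgi12 ygi43 zgi8) (kgi xgi18 ygi17 zgi18) (kgi xgi12 ygi28 zgi47) (kgi xgi12 ygi28 zgi54) (kgi xgi12 ygi38 zgi51) (kgi xgi12 ygi38 zgi48) (kgi xgi12 ygi28 zgi55) (kgi xgi21 ygi18 zgi43) (kgi xgi16 ygi48 zgi45) (kgi xgi30 ygi5 zgi11) (kgi xgi16 ygi7 zgi35) (kgi xgi14 ygi14 zgi19) (kgi xgi12 ygi28 zgi58) (kgi xgi26 ygi46 zgi6) (kgi xgi12 ygi28 zgi60) (kgi xgi21 ygi8 zgi21) (kgi xgi23 ygi13 zgi12) (kgi xgi26 ygi25 zgi32) (kgi xgi17 ygi0 zgi15) (kgi xgi21 ygi44 zgi61) (kgi xgi16 ygi28 zgi12) (kgi xgi16 ygi28 zgi27) (kgi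 xgi28 ygi10 zgi31) (kgi xgi12 ygi29 zgi9) (kgi xgi18 ygi23 zgi38) (kgi xgi28 ygi56 zgi28) (kgi xgi20 ygi40 zgi8) (kgi xgi16 ygi47 zgi14) (kgi xgi19 ygi26 zgi17) (kgi xgi16 ygi44 zgi51) (kgi xgi19 ygi26 zgi46)) (@D3.rec (fun _ => Pt) (kgi xgi19 ygi24 zgi60) (kgi xgi18 ygi1 zgi39) (kgi xgi12 ygi29 zgi20) (kgi xgi12 ygi49 zgi54) (kgi xgi26 ygi15 zgi12) (kgi xgi20 ygi44 zgi6) (kgi xgi30 ygi5 zgi14) (kgi xgi26 ygi42 zgi17) (kgi xgi28 ygi57 zgi49) (kgi xgi20 ygi15 zgi7) (kgi xgi20 ygi34 zgi14) (kgi xgi12 ygi29 zgi31) (kgi xgi20 ygi0 zgi1) (kgi xgi26 ygi5 zgi56) (kgi xgi12 ygi29 zgi32) (kgi xgi27 ygi42 zgi61) (kgi xgi21 ygi7 zgi5) (kgi xgi21 ygi7 zgi16) (kgi xgi26 ygi4 zgi15) (kgi xgi21 ygi31 zgi1) (kgi xgi17 ygi17 zgi48) (kgi xgi12 ygi29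 zgi35) (kgi xgi21 ygi58 zgi18) (kgi xgi12 ygi29 zgi36) (kgi xgi15 ygi48 zgi19) (kgi xgi28 ygi47 zgi29) (kgi xgi21 ygi42 zgi7) (kgi xgi21 ygi7 zgi6) (kgi xgi12 ygi34 zgi27) (kgi xgi12 ygi29 zgi40) (kgi xgi26 ygi58 zgi28) (kgi xgi17 ygi58 zgi52) (kgi xgi28 ygi47 zgi23) (kgi xgi22 ygi4 zgi10) (kgi xgi19 ygi39 zgi23) (kgi xgi13 ygi0 zgi51) (kgi xgi20 ygi13 zgi56) (kgi xgi20 ygi19 zgi36) (kgi xgi17 ygi29 zgi54) (kgi xgi16 ygi46 zgi36) (kgi xgi12 ygi30 zgi4) (kgi xgi16 ygi41 zgi33) (kgi xgi25 ygi42 zgi9) (kgi xgi12 ygi30 zgi7) (kgi xgi16 ygi46 zgi33) (kgi xgi23 ygi53 zgi30) (kgi xgi12 ygi30 zgi12) (kgi xgi21 ygi30 zgi60) (kgi xgi20 ygi27 zgi31) (kgi xgi17 ygi30 zgi9) (kgi xgi12 ygi30 zgi24) (kgi xgi19 ygi52 zgi41) (kgi xgi22 ygi11 zgi23)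 (kgi xgi16 ygi49 zgi28) (kgi xgi12 ygi30 zgi27) (kgi xgi29 ygi43 zgi46) (kgi xgi28 ygi45 zgi22) (kgi xgi19 ygi24 zgi50) (kgi xgi19 ygi24 zgi49) (kgi xgi13 ygi52 zgi26) (kgi xgi16 ygi16 zgi24) (kgi xgi26 ygi9 zgi11)) (@D3.rec (fun _ => Pt) (kgi xgi22 ygi11 zgi7) (kgi xgi22 ygi11 zgi32) (kgi xgi12 ygi30 zgi39) (kgi xgi23 ygi36 zgi35) (kgi xgi23 ygi36 zgi34) (kgi xgi12 ygi30 zgi40) (kgi xgi23 ygi22 zgi33) (kgi xgi23 ygi22 zgi31) (kgi xgi26 ygi17 zgi48) (kgi xgi18 ygi3 zgi45) (kgi xgi23 ygi22 zgi30) (kgi xgi23 ygi22 zgi28) (kgi xgi26 ygi33 zgi1) (kgi xgi27 ygi30 zgi47) (kgi xgi30 ygi5 zgi25) (kgi xgi25 ygi1 zgi32) (kgi xgi17 ygi13 zgi2) (kgi xgi20 ygi9 zgi45) (kgi xgi14 ygi8 zgi31) (kgi xgi21 ygi3 zgi9) (kgi xgi23 ygi48 zgi2) (kgi xgi13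 ygi2 zgi48) (kgi xgi15 ygi26 zgi17) (kgi xgi14 ygi29 zgi55) (kgi xgi29 ygi22 zgi56) (kgi xgi12 ygi31 zgi18) (kgi xgi16 ygi47 zgi27) (kgi xgi28 ygi11 zgi19) (kgi xgi15 ygi27 zgi7) (kgi xgi25 ygi29 zgi43) (kgi xgi12 ygi31 zgi22) (kgi xgi26 ygi5 zgi12) (kgi xgi18 ygi7 zgi12) (kgi xgi23 ygi38 zgi3) (kgi xgi23 ygi48 zgi0) (kgi xgi15 ygi49 zgi55) (kgi xgi20 ygi6 zgi14) (kgi xgi14 ygi50 zgi9) (kgi xgi20 ygi6 zgi13) (kgi xgi22 ygi18 zgi1) (kgi xgi12 ygi43 zgi31) (kgi xgi28 ygi1 zgi15) (kgi xgi21 ygi3 zgi11) (kgi xgi20 ygi22 zgi27) (kgi xgi15 ygi5 zgi5) (kgi xgi17 ygi55 zgi33) (kgi xgi16 ygi54 zgi60) (kgi xgi16 ygi55 zgi10) (kgi xgi17 ygi56 zgi18) (kgi xgi20 ygi50 zgi8) (kgi xgi12 ygi31 zgi49) (kgi xgi23 ygi34 zgi33) (kgi xgi18 ygi48 zgi38)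 (kgi xgi29 ygi46 zgi60) (kgi xgi13 ygi53 zgi0) (kgi xgi23 ygi45 zgi26) (kgi xgi21 ygi1 zgi6) (kgi xgi29 ygi24 zgi15) (kgi xgi23 ygi26 zgi39) (kgi xgi13 ygi54 zgi14) (kgi xgi12 ygi31 zgi56) (kgi xgi25 ygi3 zgi15)) (@D3.rec (fun _ => Pt) (kgi xgi15 ygi48 zgi12) (kgi xgi20 ygi52 zgi44) (kgi xgi25 ygi53 zgi10) (kgi xgi30 ygi5 zgi34) (kgi xgi16 ygi30 zgi55) (kgi xgi21 ygi32 zgi43) (kgi xgi20 ygi15 zgi21) (kgi xgi15 ygi0 zgi4) (kgi xgi12 ygi46 zgi45) (kgi xgi12 ygi32 zgi11) (kgi xgi29 ygi23 zgi60) (kgi xgi20 ygi8 zgi52) (kgi xgi19 ygi40 zgi0) (kgi xgi21 ygi15 zgi56) (kgi xgi18 ygi25 zgi21) (kgi xgi19 ygi49 zgi59) (kgi xgi19 ygi50 zgi37) (kgi xgi12 ygi32 zgi17) (kgi xgi21 ygi51 zgi30) (kgi xgi16 ygi48 zgi12) (kgi xgi15 ygi8 zgi13) (kgi xgi17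 ygi30 zgi15) (kgi xgi16 ygi56 zgi40) (kgi xgi21 ygi55 zgi3) (kgi xgi23 ygi22 zgi11) (kgi xgi12 ygi32 zgi31) (kgi xgi17 ygi18 zgi13) (kgi xgi28 ygi0 zgi44) (kgi xgi17 ygi17 zgi35) (kgi xgi30 ygi5 zgi37) (kgi xgi17 ygi17 zgi30) (kgi xgi29 ygi34 zgi42) (kgi xgi22 ygi37 zgi26) (kgi xgi17 ygi17 zgi28) (kgi xgi30 ygi5 zgi44) (kgi xgi12 ygi32 zgi35) (kgi xgi30 ygi5 zgi48) (kgi xgi17 ygi17 zgi5) (kgi xgi27 ygi8 zgi4) (kgi xgi12 ygi32 zgi36) (kgi xgi27 ygi7 zgi27) (kgi xgi18 ygi46 zgi58) (kgi xgi18 ygi21 zgi18) (kgi xgi18 ygi23 zgi10) (kgi xgi17 ygi10 zgi54) (kgi xgi30 ygi5 zgi60) (kgi xgi27 ygi6 zgi28) (kgi xgi20 ygi46 zgi28) (kgi xgi17 ygi32 zgi30) (kgi xgi12 ygi32 zgi48) (kgi xgi18 ygi5 zgi7) (kgi xgi12 ygi32 zgi53) (kgi xgi24 ygi18 zgi48)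 (kgi xgi17 ygi34 zgi13) (kgi xgi29 ygi37 zgi37) (kgi xgi22 ygi56 zgi0) (kgi xgi21 ygi45 zgi35) (kgi xgi20 ygi49 zgi3) (kgi xgi12 ygi33 zgi1) (kgi xgi29 ygi18 zgi12) (kgi xgi30 ygi6 zgi3) (kgi xgi29 ygi18 zgi11)) (@D3.rec (fun _ => Pt) (kgi xgi30 ygi6 zgi5) (kgi xgi14 ygi44 zgi39) (kgi xgi12 ygi33 zgi5) (kgi xgi29 ygi43 zgi49) (kgi xgi30 ygi6 zgi12) (kgi xgi29 ygi58 zgi35) (kgi xgi20 ygi40 zgi36) (kgi xgi20 ygi45 zgi56) (kgi xgi27 ygi9 zgi18) (kgi xgi12 ygi33 zgi11) (kgi xgi24 ygi15 zgi26) (kgi xgi13 ygi59 zgi22) (kgi xgi13 ygi12 zgi6) (kgi xgi30 ygi6 zgi18) (kgi xgi25 ygi34 zgi20) (kgi xgi17 ygi22 zgi8) (kgi xgi30 ygi6 zgi22) (kgi xgi12 ygi33 zgi17) (kgi xgi27 ygi11 zgi22) (kgi xgi27 ygi11 zgi20) (kgi xgi12 ygi33 zgi18) (kgi xgi21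 ygi5 zgi0) (kgi xgi21 ygi4 zgi60) (kgi xgi12 ygi33 zgi19) (kgi xgi22 ygi10 zgi48) (kgi xgi22 ygi10 zgi46) (kgi xgi29 ygi50 zgi43) (kgi xgi12 ygi33 zgi22) (kgi xgi22 ygi10 zgi60) (kgi xgi25 ygi34 zgi24) (kgi xgi25 ygi27 zgi33) (kgi xgi15 ygi35 zgi47) (kgi xgi17 ygi29 zgi6) (kgi xgi12 ygi33 zgi25) (kgi xgi27 ygi6 zgi16) (kgi xgi27 ygi6 zgi14) (kgi xgi30 ygi6 zgi35) (kgi xgi30 ygi6 zgi36) (kgi xgi24 ygi41 zgi49) (kgi xgi22 ygi9 zgi7) (kgi xgi17 ygi29 zgi9) (kgi xgi12 ygi59 zgi43) (kgi xgi29 ygi50 zgi54) (kgi xgi25 ygi27 zgi26) (kgi xgi29 ygi50 zgi39) (kgi xgi12 ygi33 zgi30) (kgi xgi29 ygi50 zgi38) (kgi xgi14 ygi11 zgi13) (kgi xgi25 ygi34 zgi19) (kgi xgi25 ygi33 zgi22) (kgi xgi25 ygi33 zgi6) (kgi xgi28 ygi49 zgi21) (kgi xgi16 ygi44 zgi39)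 (kgi xgi12 ygi33 zgi48) (kgi xgi20 ygi34 zgi11) (kgi xgi17 ygi26 zgi48) (kgi xgi14 ygi12 zgi34) (kgi xgi14 ygi29 zgi20) (kgi xgi27 ygi11 zgi47) (kgi xgi21 ygi22 zgi12) (kgi xgi22 ygi37 zgi27) (kgi xgi27 ygi10 zgi37)) (@D3.rec (fun _ => Pt) (kgi xgi21 ygi50 zgi4) (kgi xgi16 ygi0 zgi1) (kgi xgi21 ygi23 zgi36) (kgi xgi15 ygi57 zgi13) (kgi xgi24 ygi15 zgi39) (kgi xgi14 ygi19 zgi36) (kgi xgi23 ygi47 zgi43) (kgi xgi27 ygi3 zgi28) (kgi xgi12 ygi33 zgi59) (kgi xgi22 ygi22 zgi34) (kgi xgi20 ygi36 zgi38) (kgi xgi23 ygi0 zgi49) (kgi xgi14 ygi50 zgi49) (kgi xgi13 ygi37 zgi5) (kgi xgi12 ygi34 zgi0) (kgi xgi13 ygi36 zgi49) (kgi xgi20 ygi25 zgi29) (kgi xgi25 ygi42 zgi8) (kgi xgi21 ygi8 zgi3) (kgi xgi25 ygi18 zgi34) (kgi xgi24 ygi2 zgi31) (kgi xgi24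 ygi2 zgi2) (kgi xgi30 ygi7 zgi0) (kgi xgi23 ygi10 zgi52) (kgi xgi22 ygi13 zgi34) (kgi xgi19 ygi31 zgi18) (kgi xgi13 ygi22 zgi55) (kgi xgi12 ygi51 zgi47) (kgi xgi13 ygi22 zgi53) (kgi xgi27 ygi36 zgi37) (kgi xgi14 ygi14 zgi1) (kgi xgi21 ygi19 zgi42) (kgi xgi21 ygi45 zgi36) (kgi xgi16 ygi7 zgi29) (kgi xgi12 ygi37 zgi30) (kgi xgi26 ygi59 zgi14) (kgi xgi14 ygi13 zgi40) (kgi xgi29 ygi57 zgi26) (kgi xgi12 ygi38 zgi57) (kgi xgi27 ygi55 zgi40) (kgi xgi26 ygi59 zgi30) (kgi xgi12 ygi34 zgi21) (kgi xgi26 ygi58 zgi38) (kgi xgi27 ygi35 zgi49) (kgi xgi26 ygi58 zgi35) (kgi xgi19 ygi17 zgi48) (kgi xgi30 ygi2 zgi38) (kgi xgi12 ygi34 zgi25) (kgi xgi14 ygi45 zgi51) (kgi xgi21 ygi47 zgi28) (kgi xgi12 ygi34 zgi30) (kgi xgi24 ygi41 zgi8) (kgi xgi24 ygi9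 zgi46) (kgi xgi30 ygi7 zgi14) (kgi xgi24 ygi9 zgi48) (kgi xgi12 ygi48 zgi4) (kgi xgi14 ygi56 zgi8) (kgi xgi25 ygi54 zgi12) (kgi xgi14 ygi45 zgi25) (kgi xgi12 ygi34 zgi36) (kgi xgi14 ygi45 zgi27) (kgi xgi30 ygi7 zgi23)) (@D3.rec (fun _ => Pt) (kgi xgi29 ygi12 zgi11) (kgi xgi12 ygi48 zgi55) (kgi xgi12 ygi48 zgi53) (kgi xgi12 ygi34 zgi38) (kgi xgi18 ygi36 zgi17) (kgi xgi17 ygi35 zgi2) (kgi xgi26 ygi55 zgi24) (kgi xgi25 ygi44 zgi59) (kgi xgi29 ygi21 zgi52) (kgi xgi21 ygi21 zgi20) (kgi xgi12 ygi34 zgi46) (kgi xgi27 ygi29 zgi41) (kgi xgi13 ygi57 zgi21) (kgi xgi14 ygi6 zgi59) (kgi xgi13 ygi19 zgi3) (kgi xgi24 ygi9 zgi56) (kgi xgi13 ygi19 zgi1) (kgi xgi14 ygi29 zgi32) (kgi xgi13 ygi57 zgi4) (kgi xgi14 ygi1 zgi25) (kgi xgi14 ygi15 zgi36) (kgi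 xgi14 ygi15 zgi22) (kgi xgi19 ygi4 zgi40) (kgi xgi13 ygi21 zgi8) (kgi xgi12 ygi34 zgi56) (kgi xgi18 ygi57 zgi16) (kgi xgi24 ygi40 zgi23) (kgi xgi21 ygi47 zgi48) (kgi xgi21 ygi7 zgi25) (kgi xgi28 ygi4 zgi8) (kgi xgi24 ygi20 zgi2) (kgi xgi21 ygi47 zgi55) (kgi xgi12 ygi35 zgi5) (kgi xgi18 ygi57 zgi58) (kgi xgi14 ygi23 zgi55) (kgi xgi18 ygi57 zgi49) (kgi xgi17 ygi48 zgi23) (kgi xgi14 ygi23 zgi28) (kgi xgi24 ygi32 zgi40) (kgi xgi26 ygi55 zgi16) (kgi xgi12 ygi35 zgi19) (kgi xgi22 ygi8 zgi3) (kgi xgi18 ygi0 zgi3) (kgi xgi20 ygi26 zgi15) (kgi xgi12 ygi35 zgi22) (kgi xgi21 ygi35 zgi11) (kgi xgi23 ygi46 zgi53) (kgi xgi23 ygi49 zgi43) (kgi xgi21 ygi47 zgi54) (kgi xgi12 ygi35 zgi29) (kgi xgi12 ygi35 zgi26) (kgi xgi20 ygi17 zgi30) (kgi xgi13 ygi27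 zgi42) (kgi xgi23 ygi47 zgi2) (kgi xgi12 ygi35 zgi28) (kgi xgi21 ygi25 zgi36) (kgi xgi14 ygi37 zgi59) (kgi xgi18 ygi7 zgi57) (kgi xgi12 ygi35 zgi32) (kgi xgi21 ygi41 zgi30) (kgi xgi14 ygi36 zgi42) (kgi xgi16 ygi18 zgi23)) (@D3.rec (fun _ => Pt) (kgi xgi18 ygi6 zgi26) (kgi xgi18 ygi6 zgi0) (kgi xgi12 ygi35 zgi38) (kgi xgi17 ygi38 zgi55) (kgi xgi18 ygi12 zgi50) (kgi xgi12 ygi35 zgi43) (kgi xgi29 ygi50 zgi31) (kgi xgi12 ygi35 zgi45) (kgi xgi21 ygi36 zgi26) (kgi xgi21 ygi8 zgi13) (kgi xgi16 ygi18 zgi2) (kgi xgi23 ygi22 zgi8) (kgi xgi21 ygi58 zgi40) (kgi xgi27 ygi5 zgi50) (kgi xgi12 ygi35 zgi53) (kgi xgi24 ygi43 zgi34) (kgi xgi23 ygi50 zgi23) (kgi xgi16 ygi8 zgi55) (kgi xgi14 ygi12 zgi9) (kgi xgi25 ygi16 zgi48) (kgi xgi25 ygi56 zgi19)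 (kgi xgi30 ygi1 zgi49) (kgi xgi12 ygi35 zgi58) (kgi xgi25 ygi17 zgi20) (kgi xgi13 ygi1 zgi27) (kgi xgi25 ygi44 zgi57) (kgi xgi17 ygi35 zgi14) (kgi xgi17 ygi35 zgi13) (kgi xgi12 ygi36 zgi0) (kgi xgi21 ygi44 zgi10) (kgi xgi30 ygi7 zgi37) (kgi xgi27 ygi42 zgi49) (kgi xgi21 ygi32 zgi30) (kgi xgi21 ygi35 zgi5) (kgi xgi27 ygi0 zgi47) (kgi xgi14 ygi46 zgi37) (kgi xgi12 ygi36 zgi20) (kgi xgi21 ygi18 zgi48) (kgi xgi20 ygi17 zgi5) (kgi xgi14 ygi34 zgi52) (kgi xgi12 ygi41 zgi25) (kgi xgi29 ygi22 zgi30) (kgi xgi21 ygi45 zgi46) (kgi xgi12 ygi40 zgi38) (kgi xgi14 ygi35 zgi61) (kgi xgi12 ygi36 zgi30) (kgi xgi21 ygi21 zgi1) (kgi xgi12 ygi36 zgi34) (kgi xgi25 ygi45 zgi15) (kgi xgi26 ygi10 zgi26) (kgi xgi12 ygi47 zgi35) (kgi xgi15 ygi17 zgi20) (kgi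 xgi21 ygi46 zgi34) (kgi xgi17 ygi19 zgi18) (kgi xgi27 ygi23 zgi1) (kgi xgi12 ygi36 zgi44) (kgi xgi12 ygi40 zgi5) (kgi xgi27 ygi10 zgi61) (kgi xgi12 ygi40 zgi1) (kgi xgi30 ygi7 zgi41) (kgi xgi21 ygi19 zgi34) (kgi xgi25 ygi57 zgi21)) (@D3.rec (fun _ => Pt) (kgi xgi21 ygi56 zgi12) (kgi xgi30 ygi7 zgi42) (kgi xgi21 ygi8 zgi22) (kgi xgi12 ygi36 zgi51) (kgi xgi12 ygi40 zgi36) (kgi xgi25 ygi57 zgi22) (kgi xgi30 ygi7 zgi46) (kgi xgi21 ygi21 zgi29) (kgi xgi20 ygi53 zgi43) (kgi xgi24 ygi51 zgi46) (kgi xgi20 ygi53 zgi38) (kgi xgi12 ygi36 zgi58) (kgi xgi30 ygi7 zgi48) (kgi xgi12 ygi41 zgi22) (kgi xgi17 ygi6 zgi28) (kgi xgi21 ygi21 zgi32) (kgi xgi15 ygi21 zgi9) (kgi xgi20 ygi53 zgi35) (kgi xgi12 ygi37 zgi2) (kgi xgi12 ygi41 zgi45) (kgi xgi30 ygi7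 zgi52) (kgi xgi27 ygi20 zgi41) (kgi xgi12 ygi41 zgi41) (kgi xgi30 ygi7 zgi55) (kgi xgi26 ygi1 zgi31) (kgi xgi21 ygi21 zgi44) (kgi xgi30 ygi5 zgi17) (kgi xgi21 ygi48 zgi53) (kgi xgi27 ygi26 zgi57) (kgi xgi21 ygi48 zgi54) (kgi xgi12 ygi42 zgi11) (kgi xgi27 ygi20 zgi43) (kgi xgi28 ygi13 zgi20) (kgi xgi12 ygi42 zgi7) (kgi xgi29 ygi59 zgi51) (kgi xgi21 ygi46 zgi9) (kgi xgi22 ygi0 zgi28) (kgi xgi12 ygi38 zgi20) (kgi xgi17 ygi53 zgi39) (kgi xgi21 ygi54 zgi17) (kgi xgi29 ygi42 zgi28) (kgi xgi12 ygi37 zgi19) (kgi xgi20 ygi53 zgi18) (kgi xgi30 ygi8 zgi1) (kgi xgi12 ygi37 zgi22) (kgi xgi12 ygi43 zgi12) (kgi xgi21 ygi47 zgi59) (kgi xgi12 ygi43 zgi9) (kgi xgi12 ygi37 zgi40) (kgi xgi16 ygi17 zgi57) (kgi xgi27 ygi38 zgi57) (kgi xgi21 ygi48 zgi21)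 (kgi xgi16 ygi48 zgi56) (kgi xgi12 ygi37 zgi29) (kgi xgi21 ygi10 zgi9) (kgi xgi21 ygi42 zgi28) (kgi xgi12 ygi37 zgi31) (kgi xgi21 ygi45 zgi13) (kgi xgi12 ygi42 zgi50) (kgi xgi12 ygi37 zgi56) (kgi xgi18 ygi1 zgi21) (kgi xgi20 ygi53 zgi17)) (@D3.rec (fun _ => Pt) (kgi xgi12 ygi42 zgi61) (kgi xgi25 ygi25 zgi27) (kgi xgi12 ygi37 zgi37) (kgi xgi29 ygi38 zgi28) (kgi xgi20 ygi51 zgi48) (kgi xgi12 ygi37 zgi55) (kgi xgi17 ygi52 zgi37) (kgi xgi29 ygi24 zgi43) (kgi xgi21 ygi45 zgi31) (kgi xgi12 ygi46 zgi8) (kgi xgi12 ygi40 zgi8) (kgi xgi20 ygi37 zgi28) (kgi xgi12 ygi37 zgi50) (kgi xgi26 ygi22 zgi59) (kgi xgi17 ygi0 zgi8) (kgi xgi18 ygi23 zgi24) (kgi xgi12 ygi37 zgi53) (kgi xgi27 ygi16 zgi40) (kgi xgi14 ygi12 zgi23) (kgi xgi12 ygi37 zgi54) (kgi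 xgi12 ygi37 zgi58) (kgi xgi26 ygi27 zgi4) (kgi xgi12 ygi41 zgi55) (kgi xgi20 ygi21 zgi51) (kgi xgi23 ygi47 zgi44) (kgi xgi27 ygi23 zgi15) (kgi xgi28 ygi12 zgi16) (kgi xgi29 ygi19 zgi10) (kgi xgi21 ygi33 zgi18) (kgi xgi21 ygi42 zgi29) (kgi xgi29 ygi22 zgi47) (kgi xgi12 ygi38 zgi0) (kgi xgi23 ygi55 zgi40) (kgi xgi12 ygi46 zgi13) (kgi xgi15 ygi49 zgi12) (kgi xgi21 ygi41 zgi52) (kgi xgi12 ygi45 zgi11) (kgi xgi12 ygi38 zgi6) (kgi xgi12 ygi45 zgi46) (kgi xgi12 ygi46 zgi46) (kgi xgi12 ygi43 zgi56) (kgi xgi13 ygi5 zgi45) (kgi xgi12 ygi46 zgi28) (kgi xgi12 ygi46 zgi4) (kgi xgi12 ygi38 zgi13) (kgi xgi15 ygi49 zgi11) (kgi xgi12 ygi38 zgi15) (kgi xgi12 ygi46 zgi26) (kgi xgi21 ygi49 zgi54) (kgi xgi12 ygi46 zgi23) (kgi xgi21 ygi15 zgi25) (kgi xgi21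 ygi28 zgi41) (kgi xgi12 ygi38 zgi19) (kgi xgi21 ygi30 zgi50) (kgi xgi12 ygi38 zgi23) (kgi xgi12 ygi45 zgi51) (kgi xgi20 ygi15 zgi30) (kgi xgi23 ygi53 zgi6) (kgi xgi18 ygi0 zgi30) (kgi xgi12 ygi38 zgi28) (kgi xgi13 ygi53 zgi38) (kgi xgi26 ygi55 zgi23)) (@D3.rec (fun _ => Pt) (kgi xgi12 ygi38 zgi44) (kgi xgi18 ygi50 zgi46) (kgi xgi21 ygi18 zgi47) (kgi xgi27 ygi3 zgi17) (kgi xgi20 ygi42 zgi18) (kgi xgi17 ygi6 zgi30) (kgi xgi24 ygi19 zgi47) (kgi xgi12 ygi38 zgi55) (kgi xgi27 ygi10 zgi42) (kgi xgi30 ygi8 zgi20) (kgi xgi26 ygi1 zgi38) (kgi xgi21 ygi8 zgi31) (kgi xgi17 ygi34 zgi54) (kgi xgi26 ygi40 zgi35) (kgi xgi21 ygi8 zgi32) (kgi xgi25 ygi34 zgi46) (kgi xgi21 ygi8 zgi37) (kgi xgi28 ygi41 zgi23) (kgi xgi21 ygi8 zgi28) (kgi xgi12 ygi39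 zgi2) (kgi xgi16 ygi5 zgi4) (kgi xgi21 ygi6 zgi14) (kgi xgi30 ygi8 zgi25) (kgi xgi22 ygi27 zgi7) (kgi xgi16 ygi5 zgi23) (kgi xgi27 ygi21 zgi0) (kgi xgi24 ygi10 zgi23) (kgi xgi21 ygi22 zgi2) (kgi xgi12 ygi41 zgi19) (kgi xgi17 ygi57 zgi59) (kgi xgi21 ygi54 zgi18) (kgi xgi21 ygi2 zgi54) (kgi xgi17 ygi5 zgi36) (kgi xgi26 ygi58 zgi41) (kgi xgi30 ygi8 zgi30) (kgi xgi21 ygi40 zgi38) (kgi xgi21 ygi43 zgi54) (kgi xgi21 ygi17 zgi3) (kgi xgi19 ygi38 zgi40) (kgi xgi12 ygi39 zgi29) (kgi xgi30 ygi4 zgi8) (kgi xgi21 ygi58 zgi47) (kgi xgi30 ygi3 zgi38) (kgi xgi24 ygi2 zgi57) (kgi xgi20 ygi37 zgi57) (kgi xgi23 ygi54 zgi8) (kgi xgi12 ygi39 zgi41) (kgi xgi21 ygi50 zgi41) (kgi xgi18 ygi7 zgi21) (kgi xgi30 ygi8 zgi33) (kgi xgi12 ygi39 zgi40) (kgi xgi12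 ygi39 zgi42) (kgi xgi21 ygi20 zgi36) (kgi xgi27 ygi23 zgi38) (kgi xgi21 ygi42 zgi42) (kgi xgi20 ygi38 zgi6) (kgi xgi27 ygi48 zgi11) (kgi xgi24 ygi21 zgi59) (kgi xgi12 ygi39 zgi43) (kgi xgi14 ygi37 zgi22) (kgi xgi27 ygi45 zgi48) (kgi xgi21 ygi25 zgi58)) (@D3.rec (fun _ => Pt) (kgi xgi12 ygi39 zgi45) (kgi xgi29 ygi59 zgi50) (kgi xgi25 ygi53 zgi59) (kgi xgi21 ygi43 zgi35) (kgi xgi12 ygi49 zgi42) (kgi xgi12 ygi49 zgi43) (kgi xgi26 ygi40 zgi40) (kgi xgi21 ygi19 zgi48) (kgi xgi21 ygi18 zgi3) (kgi xgi21 ygi50 zgi12) (kgi xgi14 ygi12 zgi8) (kgi xgi24 ygi19 zgi48) (kgi xgi30 ygi8 zgi42) (kgi xgi16 ygi1 zgi5) (kgi xgi12 ygi52 zgi31) (kgi xgi27 ygi4 zgi10) (kgi xgi27 ygi19 zgi55) (kgi xgi16 ygi0 zgi55) (kgi xgi26 ygi4 zgi1) (kgi xgi12 ygi40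 zgi0) (kgi xgi21 ygi58 zgi54) (kgi xgi27 ygi6 zgi38) (kgi xgi12 ygi40 zgi3) (kgi xgi21 ygi46 zgi24) (kgi xgi21 ygi46 zgi22) (kgi xgi25 ygi7 zgi48) (kgi xgi12 ygi40 zgi4) (kgi xgi27 ygi11 zgi26) (kgi xgi25 ygi55 zgi20) (kgi xgi12 ygi40 zgi6) (kgi xgi30 ygi4 zgi58) (kgi xgi12 ygi40 zgi7) (kgi xgi26 ygi2 zgi39) (kgi xgi26 ygi2 zgi19) (kgi xgi21 ygi42 zgi53) (kgi xgi21 ygi40 zgi1) (kgi xgi12 ygi40 zgi20) (kgi xgi17 ygi29 zgi31) (kgi xgi26 ygi0 zgi27) (kgi xgi30 ygi8 zgi41) (kgi xgi12 ygi40 zgi18) (kgi xgi24 ygi42 zgi56) (kgi xgi27 ygi19 zgi50) (kgi xgi30 ygi6 zgi4) (kgi xgi12 ygi40 zgi23) (kgi xgi21 ygi19 zgi0) (kgi xgi21 ygi18 zgi60) (kgi xgi12 ygi40 zgi24) (kgi xgi12 ygi40 zgi26) (kgi xgi21 ygi34 zgi31) (kgi xgi12 ygi40 zgi25) (kgi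 xgi30 ygi7 zgi43) (kgi xgi30 ygi0 zgi6) (kgi xgi30 ygi8 zgi52) (kgi xgi24 ygi41 zgi47) (kgi xgi22 ygi10 zgi17) (kgi xgi12 ygi40 zgi31) (kgi xgi23 ygi23 zgi18) (kgi xgi17 ygi14 zgi18) (kgi xgi14 ygi3 zgi21) (kgi xgi24 ygi40 zgi59) (kgi xgi23 ygi24 zgi17)) (@D3.rec (fun _ => Pt) (kgi xgi24 ygi58 zgi5) (kgi xgi12 ygi40 zgi35) (kgi xgi24 ygi58 zgi7) (kgi xgi30 ygi7 zgi45) (kgi xgi30 ygi9 zgi0) (kgi xgi17 ygi7 zgi32) (kgi xgi21 ygi20 zgi29) (kgi xgi29 ygi33 zgi0) (kgi xgi12 ygi40 zgi45) (kgi xgi17 ygi58 zgi9) (kgi xgi12 ygi40 zgi47) (kgi xgi29 ygi22 zgi24) (kgi xgi29 ygi27 zgi2) (kgi xgi29 ygi22 zgi38) (kgi xgi12 ygi40 zgi53) (kgi xgi12 ygi54 zgi4) (kgi xgi12 ygi40 zgi54) (kgi xgi24 ygi21 zgi57) (kgi xgi20 ygi17 zgi32) (kgi xgi12 ygi41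 zgi2) (kgi xgi21 ygi21 zgi26) (kgi xgi12 ygi41 zgi15) (kgi xgi22 ygi22 zgi0) (kgi xgi12 ygi41 zgi12) (kgi xgi24 ygi19 zgi60) (kgi xgi20 ygi37 zgi60) (kgi xgi20 ygi46 zgi18) (kgi xgi22 ygi23 zgi9) (kgi xgi21 ygi55 zgi11) (kgi xgi12 ygi41 zgi8) (kgi xgi12 ygi41 zgi10) (kgi xgi29 ygi39 zgi27) (kgi xgi19 ygi29 zgi39) (kgi xgi28 ygi36 zgi38) (kgi xgi27 ygi43 zgi24) (kgi xgi21 ygi8 zgi27) (kgi xgi30 ygi5 zgi12) (kgi xgi29 ygi26 zgi57) (kgi xgi22 ygi21 zgi61) (kgi xgi29 ygi2 zgi12) (kgi xgi20 ygi47 zgi21) (kgi xgi14 ygi52 zgi41) (kgi xgi21 ygi23 zgi59) (kgi xgi12 ygi41 zgi20) (kgi xgi25 ygi50 zgi13) (kgi xgi18 ygi26 zgi8) (kgi xgi21 ygi41 zgi34) (kgi xgi18 ygi26 zgi17) (kgi xgi24 ygi2 zgi26) (kgi xgi23 ygi58 zgi48) (kgi xgi20 ygi13 zgi15)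 (kgi xgi21 ygi21 zgi5) (kgi xgi21 ygi21 zgi31) (kgi xgi12 ygi41 zgi21) (kgi xgi21 ygi12 zgi22) (kgi xgi24 ygi2 zgi55) (kgi xgi21 ygi43 zgi46) (kgi xgi25 ygi12 zgi56) (kgi xgi27 ygi43 zgi28) (kgi xgi21 ygi50 zgi25) (kgi xgi21 ygi21 zgi21) (kgi xgi12 ygi41 zgi24)) (@D3.rec (fun _ => Pt) (kgi xgi25 ygi13 zgi8) (kgi xgi29 ygi27 zgi34) (kgi xgi25 ygi9 zgi58) (kgi xgi25 ygi50 zgi0) (kgi xgi30 ygi7 zgi54) (kgi xgi12 ygi41 zgi34) (kgi xgi12 ygi41 zgi27) (kgi xgi27 ygi42 zgi48) (kgi xgi25 ygi20 zgi16) (kgi xgi16 ygi9 zgi21) (kgi xgi28 ygi11 zgi20) (kgi xgi24 ygi33 zgi10) (kgi xgi20 ygi13 zgi46) (kgi xgi12 ygi41 zgi30) (kgi xgi12 ygi41 zgi32) (kgi xgi26 ygi4 zgi46) (kgi xgi21 ygi43 zgi51) (kgi xgi29 ygi15 zgi58) (kgi xgi12 ygi41 zgi31) (kgi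 xgi21 ygi21 zgi25) (kgi xgi21 ygi21 zgi22) (kgi xgi21 ygi50 zgi39) (kgi xgi15 ygi21 zgi23) (kgi xgi19 ygi31 zgi52) (kgi xgi18 ygi50 zgi51) (kgi xgi30 ygi9 zgi39) (kgi xgi29 ygi59 zgi19) (kgi xgi18 ygi2 zgi4) (kgi xgi12 ygi41 zgi37) (kgi xgi23 ygi13 zgi25) (kgi xgi14 ygi47 zgi51) (kgi xgi24 ygi33 zgi27) (kgi xgi30 ygi9 zgi45) (kgi xgi29 ygi59 zgi20) (kgi xgi26 ygi15 zgi49) (kgi xgi25 ygi13 zgi0) (kgi xgi30 ygi9 zgi51) (kgi xgi29 ygi59 zgi15) (kgi xgi29 ygi59 zgi17) (kgi xgi12 ygi41 zgi43) (kgi xgi30 ygi9 zgi57) (kgi xgi30 ygi9 zgi58) (kgi xgi30 ygi10 zgi0) (kgi xgi23 ygi41 zgi20) (kgi xgi12 ygi41 zgi44) (kgi xgi30 ygi10 zgi5) (kgi xgi12 ygi41 zgi46) (kgi xgi25 ygi13 zgi7) (kgi xgi25 ygi8 zgi37) (kgi xgi25 ygi8 zgi21) (kgi xgi12 ygi41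 zgi50) (kgi xgi19 ygi10 zgi51) (kgi xgi29 ygi12 zgi58) (kgi xgi21 ygi43 zgi29) (kgi xgi21 ygi43 zgi27) (kgi xgi22 ygi43 zgi0) (kgi xgi30 ygi10 zgi11) (kgi xgi12 ygi41 zgi56) (kgi xgi24 ygi43 zgi41) (kgi xgi28 ygi42 zgi46) (kgi xgi30 ygi10 zgi17) (kgi xgi12 ygi41 zgi58)) (@D3.rec (fun _ => Pt) (kgi xgi12 ygi41 zgi61) (kgi xgi30 ygi10 zgi21) (kgi xgi12 ygi41 zgi60) (kgi xgi28 ygi42 zgi43) (kgi xgi30 ygi10 zgi25) (kgi xgi29 ygi11 zgi41) (kgi xgi12 ygi42 zgi0) (kgi xgi26 ygi18 zgi11) (kgi xgi30 ygi2 zgi29) (kgi xgi26 ygi47 zgi16) (kgi xgi24 ygi22 zgi25) (kgi xgi12 ygi42 zgi2) (kgi xgi27 ygi42 zgi29) (kgi xgi23 ygi23 zgi17) (kgi xgi13 ygi56 zgi56) (kgi xgi30 ygi10 zgi32) (kgi xgi26 ygi0 zgi34) (kgi xgi23 ygi27 zgi13) (kgi xgi15 ygi43 zgi53)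 (kgi xgi12 ygi42 zgi6) (kgi xgi15 ygi43 zgi26) (kgi xgi30 ygi10 zgi43) (kgi xgi22 ygi31 zgi35) (kgi xgi28 ygi11 zgi56) (kgi xgi30 ygi10 zgi50) (kgi xgi23 ygi38 zgi50) (kgi xgi22 ygi37 zgi50) (kgi xgi25 ygi36 zgi22) (kgi xgi30 ygi10 zgi56) (kgi xgi12 ygi42 zgi10) (kgi xgi30 ygi8 zgi0) (kgi xgi27 ygi17 zgi58) (kgi xgi30 ygi10 zgi60) (kgi xgi30 ygi10 zgi61) (kgi xgi12 ygi46 zgi56) (kgi xgi12 ygi45 zgi60) (kgi xgi29 ygi29 zgi26) (kgi xgi13 ygi0 zgi29) (kgi xgi13 ygi5 zgi43) (kgi xgi20 ygi48 zgi47) (kgi xgi14 ygi42 zgi44) (kgi xgi13 ygi17 zgi49) (kgi xgi14 ygi23 zgi61) (kgi xgi28 ygi19 zgi9) (kgi xgi21 ygi51 zgi52) (kgi xgi22 ygi33 zgi28) (kgi xgi28 ygi42 zgi58) (kgi xgi28 ygi25 zgi1) (kgi xgi26 ygi10 zgi50) (kgi xgi29 ygi58 zgi41) (kgi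 xgi17 ygi31 zgi18) (kgi xgi30 ygi11 zgi2) (kgi xgi21 ygi30 zgi23) (kgi xgi21 ygi58 zgi42) (kgi xgi21 ygi27 zgi42) (kgi xgi12 ygi42 zgi40) (kgi xgi21 ygi10 zgi1) (kgi xgi30 ygi6 zgi0) (kgi xgi29 ygi57 zgi7) (kgi xgi19 ygi57 zgi22) (kgi xgi21 ygi7 zgi52) (kgi xgi22 ygi37 zgi4)) (@D3.rec (fun _ => Pt) (kgi xgi12 ygi42 zgi48) (kgi xgi21 ygi45 zgi61) (kgi xgi26 ygi1 zgi50) (kgi xgi21 ygi59 zgi2) (kgi xgi12 ygi42 zgi52) (kgi xgi21 ygi40 zgi0) (kgi xgi30 ygi8 zgi36) (kgi xgi27 ygi11 zgi6) (kgi xgi30 ygi11 zgi7) (kgi xgi12 ygi42 zgi53) (kgi xgi21 ygi56 zgi11) (kgi xgi29 ygi0 zgi8) (kgi xgi21 ygi46 zgi3) (kgi xgi27 ygi20 zgi6) (kgi xgi17 ygi51 zgi18) (kgi xgi22 ygi5 zgi21) (kgi xgi29 ygi34 zgi56) (kgi xgi17 ygi59 zgi24) (kgi xgi17 ygi29 zgi45)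 (kgi xgi12 ygi43 zgi44) (kgi xgi17 ygi45 zgi8) (kgi xgi27 ygi41 zgi33) (kgi xgi12 ygi43 zgi11) (kgi xgi30 ygi8 zgi5) (kgi xgi30 ygi11 zgi16) (kgi xgi21 ygi47 zgi56) (kgi xgi12 ygi53 zgi47) (kgi xgi12 ygi43 zgi15) (kgi xgi27 ygi23 zgi19) (kgi xgi30 ygi11 zgi19) (kgi xgi30 ygi9 zgi30) (kgi xgi27 ygi19 zgi46) (kgi xgi30 ygi9 zgi31) (kgi xgi30 ygi11 zgi17) (kgi xgi27 ygi44 zgi1) (kgi xgi23 ygi41 zgi32) (kgi xgi20 ygi4 zgi27) (kgi xgi20 ygi29 zgi16) (kgi xgi30 ygi11 zgi26) (kgi xgi21 ygi48 zgi16) (kgi xgi29 ygi56 zgi22) (kgi xgi17 ygi0 zgi0) (kgi xgi21 ygi19 zgi39) (kgi xgi20 ygi27 zgi29) (kgi xgi27 ygi56 zgi9) (kgi xgi28 ygi1 zgi19) (kgi xgi12 ygi43 zgi33) (kgi xgi12 ygi43 zgi61) (kgi xgi12 ygi44 zgi51) (kgi xgi27 ygi38 zgi19) (kgi xgi12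 ygi43 zgi41) (kgi xgi18 ygi1 zgi23) (kgi xgi24 ygi51 zgi7) (kgi xgi28 ygi36 zgi57) (kgi xgi26 ygi59 zgi10) (kgi xgi24 ygi11 zgi10) (kgi xgi26 ygi59 zgi8) (kgi xgi21 ygi52 zgi4) (kgi xgi30 ygi11 zgi28) (kgi xgi26 ygi59 zgi13) (kgi xgi24 ygi41 zgi20) (kgi xgi30 ygi11 zgi30)) (@D3.rec (fun _ => Pt) (kgi xgi22 ygi3 zgi26) (kgi xgi17 ygi42 zgi11) (kgi xgi18 ygi25 zgi23) (kgi xgi23 ygi47 zgi51) (kgi xgi12 ygi43 zgi53) (kgi xgi12 ygi44 zgi26) (kgi xgi12 ygi44 zgi23) (kgi xgi18 ygi50 zgi26) (kgi xgi12 ygi43 zgi60) (kgi xgi15 ygi55 zgi60) (kgi xgi30 ygi2 zgi36) (kgi xgi12 ygi57 zgi55) (kgi xgi17 ygi2 zgi11) (kgi xgi15 ygi55 zgi38) (kgi xgi25 ygi17 zgi8) (kgi xgi20 ygi47 zgi7) (kgi xgi24 ygi47 zgi0) (kgi xgi12 ygi44 zgi55) (kgi xgi17 ygi13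 zgi4) (kgi xgi17 ygi33 zgi19) (kgi xgi18 ygi25 zgi30) (kgi xgi12 ygi44 zgi20) (kgi xgi30 ygi8 zgi13) (kgi xgi14 ygi35 zgi57) (kgi xgi30 ygi9 zgi1) (kgi xgi12 ygi44 zgi11) (kgi xgi18 ygi39 zgi38) (kgi xgi12 ygi44 zgi15) (kgi xgi26 ygi27 zgi11) (kgi xgi17 ygi9 zgi14) (kgi xgi26 ygi27 zgi10) (kgi xgi12 ygi44 zgi17) (kgi xgi12 ygi44 zgi18) (kgi xgi12 ygi44 zgi21) (kgi xgi17 ygi7 zgi37) (kgi xgi22 ygi36 zgi56) (kgi xgi16 ygi9 zgi28) (kgi xgi12 ygi44 zgi22) (kgi xgi22 ygi36 zgi43) (kgi xgi22 ygi36 zgi46) (kgi xgi25 ygi25 zgi28) (kgi xgi12 ygi44 zgi25) (kgi xgi30 ygi11 zgi32) (kgi xgi12 ygi54 zgi8) (kgi xgi29 ygi13 zgi60) (kgi xgi12 ygi54 zgi24) (kgi xgi17 ygi4 zgi61) (kgi xgi12 ygi44 zgi42) (kgi xgi27 ygi9 zgi31) (kgi xgi13 ygi47 zgi15)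 (kgi xgi18 ygi15 zgi61) (kgi xgi20 ygi19 zgi34) (kgi xgi12 ygi58 zgi48) (kgi xgi18 ygi50 zgi40) (kgi xgi21 ygi41 zgi38) (kgi xgi22 ygi8 zgi39) (kgi xgi12 ygi54 zgi9) (kgi xgi20 ygi39 zgi24) (kgi xgi12 ygi44 zgi41) (kgi xgi12 ygi44 zgi43) (kgi xgi20 ygi9 zgi29) (kgi xgi21 ygi26 zgi56)) (@D3.rec (fun _ => Pt) (kgi xgi20 ygi12 zgi48) (kgi xgi17 ygi3 zgi61) (kgi xgi12 ygi44 zgi52) (kgi xgi22 ygi38 zgi28) (kgi xgi20 ygi51 zgi16) (kgi xgi25 ygi25 zgi26) (kgi xgi25 ygi16 zgi61) (kgi xgi25 ygi25 zgi25) (kgi xgi17 ygi7 zgi21) (kgi xgi22 ygi42 zgi37) (kgi xgi29 ygi29 zgi40) (kgi xgi12 ygi44 zgi58) (kgi xgi12 ygi54 zgi42) (kgi xgi22 ygi40 zgi45) (kgi xgi12 ygi45 zgi27) (kgi xgi24 ygi7 zgi32) (kgi xgi14 ygi33 zgi6) (kgi xgi18 ygi5 zgi2) (kgi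 xgi18 ygi3 zgi27) (kgi xgi21 ygi32 zgi11) (kgi xgi26 ygi53 zgi18) (kgi xgi20 ygi51 zgi13) (kgi xgi17 ygi7 zgi33) (kgi xgi22 ygi23 zgi32) (kgi xgi20 ygi33 zgi43) (kgi xgi20 ygi24 zgi3) (kgi xgi17 ygi27 zgi11) (kgi xgi20 ygi44 zgi30) (kgi xgi12 ygi45 zgi22) (kgi xgi20 ygi44 zgi27) (kgi xgi20 ygi48 zgi9) (kgi xgi12 ygi45 zgi26) (kgi xgi30 ygi11 zgi43) (kgi xgi22 ygi38 zgi18) (kgi xgi14 ygi28 zgi43) (kgi xgi24 ygi10 zgi31) (kgi xgi30 ygi11 zgi42) (kgi xgi14 ygi31 zgi54) (kgi xgi14 ygi30 zgi41) (kgi xgi22 ygi33 zgi35) (kgi xgi14 ygi18 zgi48) (kgi xgi30 ygi11 zgi52) (kgi xgi30 ygi11 zgi45) (kgi xgi23 ygi49 zgi17) (kgi xgi22 ygi19 zgi57) (kgi xgi12 ygi45 zgi30) (kgi xgi14 ygi37 zgi50) (kgi xgi29 ygi20 zgi22) (kgi xgi14 ygi38 zgi7) (kgi xgi14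 ygi40 zgi24) (kgi xgi14 ygi13 zgi44) (kgi xgi12 ygi45 zgi36) (kgi xgi29 ygi39 zgi53) (kgi xgi22 ygi40 zgi46) (kgi xgi20 ygi27 zgi58) (kgi xgi20 ygi48 zgi13) (kgi xgi14 ygi27 zgi45) (kgi xgi28 ygi18 zgi42) (kgi xgi24 ygi7 zgi9) (kgi xgi12 ygi45 zgi41) (kgi xgi12 ygi45 zgi44) (kgi xgi23 ygi6 zgi53)) (@D3.rec (fun _ => Pt) (kgi xgi14 ygi17 zgi54) (kgi xgi16 ygi23 zgi7) (kgi xgi26 ygi29 zgi27) (kgi xgi14 ygi59 zgi16) (kgi xgi30 ygi11 zgi59) (kgi xgi16 ygi21 zgi23) (kgi xgi26 ygi28 zgi8) (kgi xgi18 ygi2 zgi33) (kgi xgi14 ygi36 zgi15) (kgi xgi14 ygi43 zgi45) (kgi xgi14 ygi16 zgi59) (kgi xgi12 ygi45 zgi55) (kgi xgi12 ygi45 zgi57) (kgi xgi24 ygi20 zgi1) (kgi xgi17 ygi49 zgi22) (kgi xgi24 ygi19 zgi61) (kgi xgi21 ygi41 zgi45) (kgi xgi12 ygi50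 zgi57) (kgi xgi12 ygi45 zgi59) (kgi xgi14 ygi36 zgi19) (kgi xgi25 ygi52 zgi20) (kgi xgi23 ygi53 zgi16) (kgi xgi12 ygi46 zgi30) (kgi xgi22 ygi35 zgi41) (kgi xgi12 ygi46 zgi3) (kgi xgi22 ygi35 zgi39) (kgi xgi30 ygi12 zgi12) (kgi xgi15 ygi59 zgi5) (kgi xgi21 ygi35 zgi52) (kgi xgi12 ygi46 zgi6) (kgi xgi19 ygi59 zgi15) (kgi xgi19 ygi46 zgi54) (kgi xgi23 ygi3 zgi32) (kgi xgi23 ygi3 zgi36) (kgi xgi16 ygi31 zgi29) (kgi xgi29 ygi6 zgi43) (kgi xgi13 ygi27 zgi43) (kgi xgi15 ygi13 zgi44) (kgi xgi12 ygi47 zgi37) (kgi xgi18 ygi2 zgi15) (kgi xgi29 ygi31 zgi51) (kgi xgi16 ygi7 zgi40) (kgi xgi21 ygi54 zgi20) (kgi xgi16 ygi24 zgi51) (kgi xgi12 ygi46 zgi33) (kgi xgi16 ygi24 zgi16) (kgi xgi29 ygi22 zgi1) (kgi xgi12 ygi55 zgi41) (kgi xgi12 ygi53 zgi9)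 (kgi xgi12 ygi56 zgi38) (kgi xgi29 ygi22 zgi8) (kgi xgi22 ygi4 zgi57) (kgi xgi12 ygi46 zgi39) (kgi xgi16 ygi34 zgi50) (kgi xgi17 ygi9 zgi8) (kgi xgi25 ygi16 zgi22) (kgi xgi12 ygi46 zgi43) (kgi xgi25 ygi24 zgi0) (kgi xgi29 ygi24 zgi55) (kgi xgi16 ygi31 zgi35) (kgi xgi29 ygi22 zgi57) (kgi xgi21 ygi54 zgi28)) (@D3.rec (fun _ => Pt) (kgi xgi26 ygi28 zgi3) (kgi xgi12 ygi53 zgi5) (kgi xgi21 ygi29 zgi11) (kgi xgi19 ygi12 zgi41) (kgi xgi12 ygi46 zgi48) (kgi xgi14 ygi36 zgi20) (kgi xgi12 ygi46 zgi49) (kgi xgi20 ygi28 zgi11) (kgi xgi14 ygi50 zgi45) (kgi xgi24 ygi33 zgi5) (kgi xgi12 ygi51 zgi2) (kgi xgi12 ygi46 zgi54) (kgi xgi14 ygi41 zgi30) (kgi xgi21 ygi45 zgi30) (kgi xgi30 ygi9 zgi6) (kgi xgi12 ygi46 zgi53) (kgi xgi22 ygi6 zgi17) (kgi xgi19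 ygi12 zgi48) (kgi xgi14 ygi0 zgi56) (kgi xgi28 ygi32 zgi19) (kgi xgi12 ygi46 zgi55) (kgi xgi21 ygi53 zgi42) (kgi xgi24 ygi18 zgi4) (kgi xgi26 ygi23 zgi36) (kgi xgi12 ygi46 zgi58) (kgi xgi15 ygi48 zgi9) (kgi xgi24 ygi38 zgi45) (kgi xgi12 ygi46 zgi60) (kgi xgi21 ygi54 zgi2) (kgi xgi12 ygi47 zgi4) (kgi xgi20 ygi17 zgi28) (kgi xgi18 ygi50 zgi41) (kgi xgi27 ygi9 zgi41) (kgi xgi12 ygi47 zgi9) (kgi xgi19 ygi43 zgi24) (kgi xgi18 ygi50 zgi10) (kgi xgi18 ygi50 zgi8) (kgi xgi19 ygi16 zgi56) (kgi xgi26 ygi18 zgi28) (kgi xgi16 ygi23 zgi52) (kgi xgi12 ygi47 zgi13) (kgi xgi23 ygi42 zgi29) (kgi xgi20 ygi16 zgi18) (kgi xgi18 ygi17 zgi14) (kgi xgi21 ygi45 zgi48) (kgi xgi29 ygi12 zgi54) (kgi xgi21 ygi9 zgi14) (kgi xgi27 ygi30 zgi28) (kgi xgi12 ygi47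 zgi27) (kgi xgi21 ygi7 zgi3) (kgi xgi12 ygi47 zgi32) (kgi xgi12 ygi53 zgi58) (kgi xgi24 ygi25 zgi39) (kgi xgi28 ygi18 zgi6) (kgi xgi12 ygi47 zgi31) (kgi xgi26 ygi46 zgi12) (kgi xgi16 ygi15 zgi36) (kgi xgi18 ygi24 zgi19) (kgi xgi12 ygi47 zgi34) (kgi xgi30 ygi5 zgi18) (kgi xgi21 ygi30 zgi58) (kgi xgi12 ygi47 zgi36)) (@D3.rec (fun _ => Pt) (kgi xgi13 ygi47 zgi25) (kgi xgi23 ygi19 zgi46) (kgi xgi29 ygi31 zgi46) (kgi xgi16 ygi14 zgi59) (kgi xgi18 ygi36 zgi43) (kgi xgi14 ygi16 zgi53) (kgi xgi13 ygi24 zgi45) (kgi xgi29 ygi9 zgi54) (kgi xgi23 ygi46 zgi50) (kgi xgi19 ygi12 zgi50) (kgi xgi18 ygi1 zgi2) (kgi xgi19 ygi10 zgi37) (kgi xgi14 ygi46 zgi57) (kgi xgi12 ygi47 zgi54) (kgi xgi15 ygi32 zgi0) (kgi xgi19 ygi6 zgi45) (kgi xgi27 ygi4 zgi29)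 (kgi xgi29 ygi6 zgi29) (kgi xgi22 ygi45 zgi34) (kgi xgi21 ygi28 zgi12) (kgi xgi12 ygi47 zgi61) (kgi xgi24 ygi41 zgi32) (kgi xgi27 ygi47 zgi21) (kgi xgi24 ygi43 zgi48) (kgi xgi12 ygi48 zgi3) (kgi xgi30 ygi12 zgi51) (kgi xgi22 ygi45 zgi18) (kgi xgi24 ygi24 zgi15) (kgi xgi30 ygi12 zgi53) (kgi xgi13 ygi19 zgi18) (kgi xgi12 ygi48 zgi8) (kgi xgi15 ygi41 zgi38) (kgi xgi12 ygi48 zgi9) (kgi xgi21 ygi6 zgi35) (kgi xgi21 ygi6 zgi34) (kgi xgi29 ygi32 zgi48) (kgi xgi21 ygi55 zgi16) (kgi xgi21 ygi6 zgi31) (kgi xgi21 ygi6 zgi29) (kgi xgi27 ygi56 zgi60) (kgi xgi30 ygi12 zgi59) (kgi xgi23 ygi2 zgi41) (kgi xgi14 ygi46 zgi28) (kgi xgi13 ygi51 zgi36) (kgi xgi24 ygi41 zgi6) (kgi xgi30 ygi1 zgi28) (kgi xgi22 ygi45 zgi23) (kgi xgi21 ygi6 zgi17) (kgi xgi13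 ygi26 zgi14) (kgi xgi21 ygi20 zgi2) (kgi xgi30 ygi13 zgi5) (kgi xgi12 ygi48 zgi17) (kgi xgi21 ygi6 zgi48) (kgi xgi21 ygi6 zgi46) (kgi xgi28 ygi12 zgi25) (kgi xgi22 ygi38 zgi43) (kgi xgi30 ygi13 zgi11) (kgi xgi12 ygi48 zgi47) (kgi xgi21 ygi21 zgi60) (kgi xgi23 ygi22 zgi37) (kgi xgi30 ygi13 zgi10) (kgi xgi22 ygi31 zgi51)) (@D3.rec (fun _ => Pt) (kgi xgi23 ygi21 zgi12) (kgi xgi25 ygi41 zgi0) (kgi xgi12 ygi48 zgi23) (kgi xgi23 ygi21 zgi14) (kgi xgi30 ygi13 zgi18) (kgi xgi16 ygi4 zgi3) (kgi xgi25 ygi40 zgi60) (kgi xgi12 ygi48 zgi25) (kgi xgi23 ygi21 zgi11) (kgi xgi30 ygi13 zgi22) (kgi xgi23 ygi20 zgi52) (kgi xgi21 ygi50 zgi9) (kgi xgi17 ygi29 zgi23) (kgi xgi14 ygi57 zgi56) (kgi xgi12 ygi48 zgi35) (kgi xgi28 ygi4 zgi16) (kgi xgi23 ygi21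 zgi6) (kgi xgi23 ygi21 zgi8) (kgi xgi14 ygi0 zgi4) (kgi xgi12 ygi48 zgi32) (kgi xgi23 ygi21 zgi16) (kgi xgi14 ygi21 zgi38) (kgi xgi23 ygi21 zgi2) (kgi xgi14 ygi37 zgi32) (kgi xgi14 ygi37 zgi38) (kgi xgi30 ygi13 zgi29) (kgi xgi15 ygi45 zgi14) (kgi xgi17 ygi29 zgi38) (kgi xgi12 ygi48 zgi37) (kgi xgi21 ygi46 zgi42) (kgi xgi17 ygi13 zgi57) (kgi xgi28 ygi4 zgi7) (kgi xgi14 ygi56 zgi23) (kgi xgi23 ygi43 zgi41) (kgi xgi23 ygi37 zgi28) (kgi xgi16 ygi41 zgi51) (kgi xgi16 ygi41 zgi48) (kgi xgi29 ygi52 zgi17) (kgi xgi13 ygi54 zgi59) (kgi xgi29 ygi11 zgi24) (kgi xgi30 ygi13 zgi36) (kgi xgi29 ygi11 zgi14) (kgi xgi23 ygi37 zgi9) (kgi xgi12 ygi48 zgi45) (kgi xgi29 ygi52 zgi14) (kgi xgi30 ygi13 zgi41) (kgi xgi29 ygi56 zgi56) (kgi xgi30 ygi13 zgi46)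 (kgi xgi12 ygi48 zgi46) (kgi xgi22 ygi31 zgi49) (kgi xgi28 ygi13 zgi21) (kgi xgi13 ygi54 zgi43) (kgi xgi12 ygi48 zgi48) (kgi xgi22 ygi31 zgi22) (kgi xgi30 ygi13 zgi57) (kgi xgi22 ygi31 zgi20) (kgi xgi13 ygi59 zgi0) (kgi xgi12 ygi48 zgi50) (kgi xgi22 ygi31 zgi56) (kgi xgi25 ygi51 zgi24) (kgi xgi22 ygi31 zgi53) (kgi xgi28 ygi11 zgi0)) (@D3.rec (fun _ => Pt) (kgi xgi12 ygi48 zgi52) (kgi xgi13 ygi24 zgi12) (kgi xgi13 ygi24 zgi10) (kgi xgi13 ygi15 zgi24) (kgi xgi22 ygi45 zgi32) (kgi xgi30 ygi14 zgi2) (kgi xgi22 ygi31 zgi45) (kgi xgi22 ygi48 zgi54) (kgi xgi30 ygi13 zgi54) (kgi xgi20 ygi2 zgi5) (kgi xgi29 ygi2 zgi51) (kgi xgi28 ygi42 zgi17) (kgi xgi19 ygi38 zgi45) (kgi xgi21 ygi34 zgi2) (kgi xgi16 ygi17 zgi17) (kgi xgi12 ygi49 zgi6) (kgi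 xgi27 ygi29 zgi54) (kgi xgi27 ygi27 zgi4) (kgi xgi25 ygi45 zgi26) (kgi xgi12 ygi50 zgi30) (kgi xgi26 ygi45 zgi42) (kgi xgi30 ygi14 zgi7) (kgi xgi21 ygi43 zgi40) (kgi xgi21 ygi38 zgi3) (kgi xgi17 ygi22 zgi46) (kgi xgi24 ygi36 zgi26) (kgi xgi28 ygi48 zgi9) (kgi xgi12 ygi49 zgi14) (kgi xgi12 ygi49 zgi18) (kgi xgi29 ygi43 zgi45) (kgi xgi21 ygi30 zgi41) (kgi xgi13 ygi1 zgi10) (kgi xgi15 ygi26 zgi30) (kgi xgi17 ygi9 zgi33) (kgi xgi19 ygi39 zgi3) (kgi xgi12 ygi49 zgi17) (kgi xgi20 ygi26 zgi30) (kgi xgi30 ygi14 zgi9) (kgi xgi19 ygi43 zgi14) (kgi xgi19 ygi40 zgi19) (kgi xgi12 ygi49 zgi20) (kgi xgi17 ygi16 zgi4) (kgi xgi29 ygi17 zgi1) (kgi xgi25 ygi27 zgi15) (kgi xgi21 ygi42 zgi36) (kgi xgi12 ygi49 zgi31) (kgi xgi21 ygi37 zgi37) (kgi xgi27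 ygi13 zgi45) (kgi xgi20 ygi58 zgi2) (kgi xgi24 ygi27 zgi3) (kgi xgi22 ygi6 zgi25) (kgi xgi14 ygi38 zgi40) (kgi xgi14 ygi6 zgi13) (kgi xgi26 ygi43 zgi50) (kgi xgi19 ygi32 zgi24) (kgi xgi17 ygi34 zgi37) (kgi xgi26 ygi4 zgi50) (kgi xgi25 ygi12 zgi5) (kgi xgi20 ygi51 zgi57) (kgi xgi12 ygi49 zgi53) (kgi xgi21 ygi0 zgi56) (kgi xgi16 ygi38 zgi58)) (@D3.rec (fun _ => Pt) (kgi xgi18 ygi24 zgi7) (kgi xgi12 ygi50 zgi2) (kgi xgi12 ygi49 zgi49) (kgi xgi17 ygi29 zgi8) (kgi xgi25 ygi7 zgi50) (kgi xgi30 ygi4 zgi23) (kgi xgi20 ygi39 zgi48) (kgi xgi28 ygi42 zgi22) (kgi xgi29 ygi37 zgi49) (kgi xgi12 ygi49 zgi56) (kgi xgi27 ygi20 zgi2) (kgi xgi27 ygi20 zgi5) (kgi xgi21 ygi9 zgi57) (kgi xgi12 ygi50 zgi28) (kgi xgi17 ygi37 zgi12) (kgi xgi21 ygi2 zgi7)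 (kgi xgi29 ygi59 zgi58) (kgi xgi21 ygi33 zgi41) (kgi xgi15 ygi19 zgi0) (kgi xgi21 ygi22 zgi48) (kgi xgi12 ygi50 zgi11) (kgi xgi26 ygi16 zgi59) (kgi xgi18 ygi16 zgi35) (kgi xgi25 ygi34 zgi51) (kgi xgi27 ygi10 zgi23) (kgi xgi12 ygi50 zgi13) (kgi xgi12 ygi50 zgi17) (kgi xgi27 ygi50 zgi37) (kgi xgi12 ygi50 zgi16) (kgi xgi30 ygi6 zgi31) (kgi xgi22 ygi11 zgi15) (kgi xgi23 ygi22 zgi35) (kgi xgi22 ygi11 zgi12) (kgi xgi15 ygi39 zgi47) (kgi xgi17 ygi30 zgi36) (kgi xgi12 ygi50 zgi21) (kgi xgi26 ygi14 zgi21) (kgi xgi21 ygi42 zgi12) (kgi xgi21 ygi26 zgi10) (kgi xgi12 ygi50 zgi25) (kgi xgi21 ygi4 zgi45) (kgi xgi27 ygi45 zgi8) (kgi xgi12 ygi50 zgi24) (kgi xgi21 ygi49 zgi53) (kgi xgi27 ygi27 zgi21) (kgi xgi29 ygi59 zgi53) (kgi xgi30 ygi5 zgi15) (kgi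 xgi21 ygi45 zgi34) (kgi xgi12 ygi50 zgi29) (kgi xgi28 ygi57 zgi57) (kgi xgi22 ygi11 zgi43) (kgi xgi22 ygi11 zgi51) (kgi xgi16 ygi44 zgi14) (kgi xgi25 ygi57 zgi8) (kgi xgi19 ygi35 zgi49) (kgi xgi12 ygi50 zgi36) (kgi xgi25 ygi26 zgi59) (kgi xgi25 ygi29 zgi16) (kgi xgi17 ygi27 zgi31) (kgi xgi21 ygi22 zgi31) (kgi xgi21 ygi22 zgi30) (kgi xgi21 ygi36 zgi13)) (@D3.rec (fun _ => Pt) (kgi xgi21 ygi50 zgi3) (kgi xgi17 ygi13 zgi60) (kgi xgi30 ygi8 zgi44) (kgi xgi21 ygi23 zgi37) (kgi xgi24 ygi34 zgi22) (kgi xgi15 ygi43 zgi35) (kgi xgi25 ygi41 zgi52) (kgi xgi27 ygi5 zgi54) (kgi xgi30 ygi8 zgi38) (kgi xgi12 ygi51 zgi9) (kgi xgi21 ygi23 zgi24) (kgi xgi18 ygi1 zgi27) (kgi xgi12 ygi50 zgi49) (kgi xgi26 ygi12 zgi35) (kgi xgi24 ygi20 zgi7) (kgi xgi21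 ygi23 zgi19) (kgi xgi29 ygi59 zgi44) (kgi xgi12 ygi51 zgi3) (kgi xgi17 ygi35 zgi21) (kgi xgi21 ygi23 zgi29) (kgi xgi29 ygi52 zgi37) (kgi xgi29 ygi59 zgi26) (kgi xgi17 ygi14 zgi35) (kgi xgi17 ygi52 zgi35) (kgi xgi20 ygi2 zgi3) (kgi xgi12 ygi50 zgi56) (kgi xgi12 ygi50 zgi61) (kgi xgi22 ygi34 zgi38) (kgi xgi27 ygi25 zgi5) (kgi xgi12 ygi56 zgi28) (kgi xgi14 ygi36 zgi13) (kgi xgi17 ygi31 zgi4) (kgi xgi12 ygi50 zgi60) (kgi xgi25 ygi18 zgi57) (kgi xgi21 ygi23 zgi34) (kgi xgi29 ygi32 zgi47) (kgi xgi23 ygi23 zgi51) (kgi xgi21 ygi34 zgi3) (kgi xgi16 ygi18 zgi1) (kgi xgi30 ygi14 zgi22) (kgi xgi12 ygi51 zgi7) (kgi xgi29 ygi40 zgi43) (kgi xgi15 ygi24 zgi15) (kgi xgi25 ygi16 zgi43) (kgi xgi30 ygi14 zgi30) (kgi xgi14 ygi37 zgi13) (kgi xgi12 ygi51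 zgi5) (kgi xgi22 ygi16 zgi37) (kgi xgi26 ygi5 zgi28) (kgi xgi26 ygi5 zgi27) (kgi xgi12 ygi51 zgi8) (kgi xgi16 ygi14 zgi37) (kgi xgi21 ygi23 zgi13) (kgi xgi29 ygi12 zgi29) (kgi xgi21 ygi24 zgi54) (kgi xgi19 ygi22 zgi11) (kgi xgi26 ygi57 zgi22) (kgi xgi14 ygi13 zgi43) (kgi xgi27 ygi10 zgi33) (kgi xgi12 ygi51 zgi18) (kgi xgi26 ygi57 zgi24) (kgi xgi24 ygi25 zgi26))
def fi_g_22 : D2 → D3 → Pt := @D2.rec (fun _ => D3 → Pt) (@D3.rec (fun _ => Pt) (kgi xgi14 ygi43 zgi58) (kgi xgi12 ygi51 zgi20) (kgi xgi13 ygi12 zgi5) (kgi xgi17 ygi26 zgi31) (kgi xgi28 ygi53 zgi46) (kgi xgi13 ygi17 zgi47) (kgi xgi17 ygi26 zgi29) (kgi xgi17 ygi26 zgi26) (kgi xgi28 ygi48 zgi61) (kgi xgi12 ygi51 zgi24) (kgi xgi12 ygi52 zgi4) (kgi xgi30 ygi14 zgi61) (kgi xgi27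 ygi7 zgi42) (kgi xgi23 ygi23 zgi39) (kgi xgi17 ygi27 zgi29) (kgi xgi17 ygi11 zgi48) (kgi xgi25 ygi54 zgi54) (kgi xgi17 ygi27 zgi27) (kgi xgi12 ygi51 zgi29) (kgi xgi27 ygi17 zgi15) (kgi xgi27 ygi17 zgi13) (kgi xgi28 ygi34 zgi34) (kgi xgi12 ygi52 zgi36) (kgi xgi27 ygi7 zgi36) (kgi xgi17 ygi22 zgi45) (kgi xgi17 ygi18 zgi23) (kgi xgi17 ygi22 zgi26) (kgi xgi12 ygi57 zgi10) (kgi xgi21 ygi44 zgi41) (kgi xgi28 ygi13 zgi38) (kgi xgi14 ygi26 zgi12) (kgi xgi27 ygi16 zgi60) (kgi xgi12 ygi51 zgi37) (kgi xgi14 ygi16 zgi24) (kgi xgi17 ygi20 zgi51) (kgi xgi12 ygi51 zgi38) (kgi xgi12 ygi56 zgi61) (kgi xgi17 ygi23 zgi36) (kgi xgi14 ygi44 zgi12) (kgi xgi13 ygi34 zgi44) (kgi xgi14 ygi34 zgi6) (kgi xgi12 ygi51 zgi43) (kgi xgi22 ygi24 zgi33) (kgi xgi30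 ygi15 zgi17) (kgi xgi22 ygi24 zgi35) (kgi xgi27 ygi3 zgi9) (kgi xgi14 ygi17 zgi42) (kgi xgi22 ygi23 zgi7) (kgi xgi22 ygi24 zgi28) (kgi xgi17 ygi25 zgi3) (kgi xgi12 ygi51 zgi46) (kgi xgi24 ygi26 zgi19) (kgi xgi30 ygi15 zgi31) (kgi xgi24 ygi26 zgi46) (kgi xgi30 ygi14 zgi52) (kgi xgi12 ygi51 zgi48) (kgi xgi29 ygi38 zgi15) (kgi xgi22 ygi23 zgi59) (kgi xgi20 ygi50 zgi48) (kgi xgi19 ygi29 zgi10) (kgi xgi30 ygi15 zgi21) (kgi xgi12 ygi51 zgi51)) (@D3.rec (fun _ => Pt) (kgi xgi12 ygi51 zgi53) (kgi xgi27 ygi13 zgi61) (kgi xgi12 ygi51 zgi52) (kgi xgi27 ygi8 zgi39) (kgi xgi27 ygi8 zgi36) (kgi xgi29 ygi33 zgi53) (kgi xgi29 ygi33 zgi24) (kgi xgi30 ygi15 zgi42) (kgi xgi12 ygi51 zgi54) (kgi xgi29 ygi2 zgi5) (kgi xgi30 ygi14 zgi54) (kgi xgi22 ygi22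 zgi23) (kgi xgi21 ygi40 zgi21) (kgi xgi24 ygi21 zgi20) (kgi xgi12 ygi51 zgi56) (kgi xgi12 ygi51 zgi60) (kgi xgi27 ygi16 zgi18) (kgi xgi28 ygi22 zgi9) (kgi xgi14 ygi13 zgi46) (kgi xgi24 ygi9 zgi52) (kgi xgi30 ygi15 zgi55) (kgi xgi27 ygi16 zgi22) (kgi xgi30 ygi15 zgi57) (kgi xgi12 ygi51 zgi61) (kgi xgi22 ygi25 zgi50) (kgi xgi30 ygi14 zgi58) (kgi xgi29 ygi34 zgi15) (kgi xgi30 ygi16 zgi5) (kgi xgi18 ygi56 zgi0) (kgi xgi28 ygi56 zgi33) (kgi xgi30 ygi16 zgi4) (kgi xgi30 ygi16 zgi1) (kgi xgi12 ygi52 zgi2) (kgi xgi30 ygi16 zgi11) (kgi xgi30 ygi16 zgi16) (kgi xgi20 ygi56 zgi60) (kgi xgi30 ygi16 zgi12) (kgi xgi29 ygi46 zgi34) (kgi xgi26 ygi36 zgi28) (kgi xgi12 ygi52 zgi5) (kgi xgi24 ygi26 zgi20) (kgi xgi29 ygi37 zgi61) (kgi xgi29 ygi31 zgi16)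 (kgi xgi30 ygi16 zgi28) (kgi xgi30 ygi15 zgi47) (kgi xgi12 ygi52 zgi8) (kgi xgi27 ygi14 zgi37) (kgi xgi27 ygi16 zgi0) (kgi xgi12 ygi52 zgi9) (kgi xgi27 ygi7 zgi39) (kgi xgi24 ygi42 zgi41) (kgi xgi23 ygi9 zgi0) (kgi xgi29 ygi50 zgi37) (kgi xgi26 ygi37 zgi19) (kgi xgi21 ygi17 zgi7) (kgi xgi26 ygi42 zgi30) (kgi xgi15 ygi59 zgi28) (kgi xgi15 ygi59 zgi23) (kgi xgi28 ygi58 zgi28) (kgi xgi12 ygi52 zgi15) (kgi xgi12 ygi52 zgi19) (kgi xgi26 ygi41 zgi40)) (@D3.rec (fun _ => Pt) (kgi xgi15 ygi46 zgi27) (kgi xgi12 ygi52 zgi18) (kgi xgi25 ygi31 zgi31) (kgi xgi23 ygi24 zgi21) (kgi xgi30 ygi16 zgi44) (kgi xgi15 ygi33 zgi42) (kgi xgi20 ygi34 zgi16) (kgi xgi12 ygi52 zgi21) (kgi xgi25 ygi53 zgi33) (kgi xgi15 ygi35 zgi5) (kgi xgi12 ygi52 zgi23) (kgi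 xgi12 ygi52 zgi25) (kgi xgi12 ygi52 zgi27) (kgi xgi26 ygi1 zgi1) (kgi xgi30 ygi3 zgi27) (kgi xgi28 ygi58 zgi57) (kgi xgi29 ygi23 zgi30) (kgi xgi12 ygi52 zgi30) (kgi xgi26 ygi23 zgi55) (kgi xgi30 ygi16 zgi53) (kgi xgi14 ygi27 zgi13) (kgi xgi30 ygi16 zgi51) (kgi xgi18 ygi52 zgi46) (kgi xgi19 ygi45 zgi52) (kgi xgi26 ygi4 zgi59) (kgi xgi27 ygi14 zgi49) (kgi xgi19 ygi26 zgi7) (kgi xgi14 ygi12 zgi17) (kgi xgi12 ygi52 zgi38) (kgi xgi21 ygi32 zgi9) (kgi xgi17 ygi29 zgi36) (kgi xgi29 ygi21 zgi47) (kgi xgi30 ygi16 zgi59) (kgi xgi17 ygi16 zgi16) (kgi xgi30 ygi16 zgi58) (kgi xgi12 ygi52 zgi42) (kgi xgi25 ygi34 zgi15) (kgi xgi22 ygi3 zgi33) (kgi xgi25 ygi31 zgi39) (kgi xgi30 ygi8 zgi40) (kgi xgi16 ygi47 zgi59) (kgi xgi30 ygi3 zgi51) (kgi xgi30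 ygi17 zgi0) (kgi xgi17 ygi4 zgi58) (kgi xgi20 ygi37 zgi33) (kgi xgi15 ygi58 zgi27) (kgi xgi12 ygi52 zgi48) (kgi xgi19 ygi26 zgi14) (kgi xgi15 ygi49 zgi23) (kgi xgi12 ygi53 zgi11) (kgi xgi12 ygi59 zgi28) (kgi xgi21 ygi31 zgi7) (kgi xgi21 ygi32 zgi49) (kgi xgi12 ygi53 zgi55) (kgi xgi21 ygi23 zgi16) (kgi xgi12 ygi52 zgi54) (kgi xgi21 ygi32 zgi50) (kgi xgi26 ygi16 zgi35) (kgi xgi25 ygi24 zgi51) (kgi xgi12 ygi52 zgi60) (kgi xgi12 ygi53 zgi2) (kgi xgi30 ygi16 zgi41)) (@D3.rec (fun _ => Pt) (kgi xgi12 ygi53 zgi1) (kgi xgi21 ygi32 zgi61) (kgi xgi25 ygi29 zgi35) (kgi xgi26 ygi41 zgi33) (kgi xgi12 ygi53 zgi4) (kgi xgi23 ygi10 zgi48) (kgi xgi25 ygi31 zgi14) (kgi xgi29 ygi29 zgi12) (kgi xgi26 ygi32 zgi47) (kgi xgi23 ygi10 zgi46) (kgi xgi30 ygi12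 zgi34) (kgi xgi22 ygi29 zgi6) (kgi xgi23 ygi57 zgi8) (kgi xgi21 ygi35 zgi24) (kgi xgi27 ygi4 zgi2) (kgi xgi12 ygi53 zgi61) (kgi xgi17 ygi6 zgi0) (kgi xgi29 ygi22 zgi43) (kgi xgi16 ygi37 zgi39) (kgi xgi20 ygi5 zgi5) (kgi xgi18 ygi25 zgi2) (kgi xgi29 ygi48 zgi39) (kgi xgi19 ygi34 zgi20) (kgi xgi12 ygi53 zgi41) (kgi xgi30 ygi4 zgi7) (kgi xgi30 ygi1 zgi42) (kgi xgi17 ygi5 zgi31) (kgi xgi17 ygi10 zgi5) (kgi xgi20 ygi48 zgi37) (kgi xgi21 ygi51 zgi0) (kgi xgi21 ygi1 zgi30) (kgi xgi20 ygi53 zgi32) (kgi xgi19 ygi36 zgi6) (kgi xgi17 ygi16 zgi52) (kgi xgi20 ygi50 zgi24) (kgi xgi17 ygi42 zgi3) (kgi xgi17 ygi5 zgi23) (kgi xgi22 ygi37 zgi3) (kgi xgi25 ygi31 zgi8) (kgi xgi12 ygi53 zgi56) (kgi xgi26 ygi59 zgi3) (kgi xgi22 ygi2 zgi37) (kgi xgi23 ygi47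 zgi32) (kgi xgi12 ygi53 zgi60) (kgi xgi29 ygi21 zgi41) (kgi xgi22 ygi9 zgi61) (kgi xgi19 ygi1 zgi7) (kgi xgi19 ygi9 zgi41) (kgi xgi26 ygi6 zgi0) (kgi xgi22 ygi12 zgi4) (kgi xgi21 ygi51 zgi9) (kgi xgi20 ygi54 zgi59) (kgi xgi21 ygi1 zgi18) (kgi xgi19 ygi33 zgi55) (kgi xgi26 ygi7 zgi54) (kgi xgi20 ygi56 zgi17) (kgi xgi26 ygi34 zgi45) (kgi xgi20 ygi57 zgi41) (kgi xgi12 ygi54 zgi14) (kgi xgi19 ygi1 zgi10) (kgi xgi20 ygi55 zgi26) (kgi xgi28 ygi58 zgi30)) (@D3.rec (fun _ => Pt) (kgi xgi26 ygi39 zgi17) (kgi xgi12 ygi54 zgi16) (kgi xgi19 ygi40 zgi45) (kgi xgi16 ygi41 zgi10) (kgi xgi16 ygi41 zgi45) (kgi xgi16 ygi37 zgi59) (kgi xgi16 ygi48 zgi18) (kgi xgi15 ygi55 zgi5) (kgi xgi23 ygi47 zgi53) (kgi xgi21 ygi26 zgi54) (kgi xgi21 ygi51 zgi11) (kgi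 xgi12 ygi54 zgi30) (kgi xgi12 ygi54 zgi32) (kgi xgi12 ygi54 zgi34) (kgi xgi30 ygi17 zgi25) (kgi xgi30 ygi17 zgi26) (kgi xgi30 ygi17 zgi27) (kgi xgi19 ygi3 zgi4) (kgi xgi29 ygi34 zgi35) (kgi xgi30 ygi17 zgi28) (kgi xgi30 ygi17 zgi31) (kgi xgi30 ygi17 zgi33) (kgi xgi12 ygi54 zgi43) (kgi xgi29 ygi49 zgi8) (kgi xgi29 ygi49 zgi6) (kgi xgi24 ygi42 zgi58) (kgi xgi24 ygi41 zgi38) (kgi xgi27 ygi57 zgi7) (kgi xgi26 ygi8 zgi20) (kgi xgi25 ygi41 zgi24) (kgi xgi12 ygi54 zgi47) (kgi xgi16 ygi6 zgi14) (kgi xgi20 ygi23 zgi34) (kgi xgi21 ygi1 zgi11) (kgi xgi17 ygi33 zgi44) (kgi xgi16 ygi6 zgi26) (kgi xgi21 ygi1 zgi9) (kgi xgi12 ygi54 zgi55) (kgi xgi21 ygi2 zgi31) (kgi xgi29 ygi31 zgi3) (kgi xgi26 ygi0 zgi44) (kgi xgi12 ygi54 zgi56) (kgi xgi15 ygi42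 zgi24) (kgi xgi21 ygi2 zgi14) (kgi xgi26 ygi48 zgi7) (kgi xgi18 ygi48 zgi34) (kgi xgi21 ygi30 zgi24) (kgi xgi20 ygi9 zgi25) (kgi xgi27 ygi22 zgi16) (kgi xgi17 ygi32 zgi52) (kgi xgi16 ygi43 zgi51) (kgi xgi27 ygi22 zgi2) (kgi xgi17 ygi33 zgi58) (kgi xgi17 ygi4 zgi51) (kgi xgi17 ygi13 zgi17) (kgi xgi16 ygi14 zgi13) (kgi xgi22 ygi5 zgi48) (kgi xgi12 ygi55 zgi9) (kgi xgi25 ygi36 zgi38) (kgi xgi25 ygi16 zgi42) (kgi xgi20 ygi13 zgi53) (kgi xgi17 ygi12 zgi29)) (@D3.rec (fun _ => Pt) (kgi xgi21 ygi50 zgi16) (kgi xgi27 ygi56 zgi38) (kgi xgi21 ygi9 zgi34) (kgi xgi26 ygi1 zgi26) (kgi xgi12 ygi55 zgi14) (kgi xgi30 ygi14 zgi43) (kgi xgi19 ygi25 zgi1) (kgi xgi16 ygi15 zgi27) (kgi xgi12 ygi55 zgi18) (kgi xgi21 ygi9 zgi37) (kgi xgi15 ygi25 zgi30)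 (kgi xgi25 ygi51 zgi46) (kgi xgi19 ygi24 zgi17) (kgi xgi26 ygi54 zgi54) (kgi xgi19 ygi24 zgi27) (kgi xgi29 ygi39 zgi21) (kgi xgi19 ygi25 zgi44) (kgi xgi16 ygi44 zgi50) (kgi xgi16 ygi45 zgi16) (kgi xgi15 ygi24 zgi16) (kgi xgi17 ygi59 zgi42) (kgi xgi17 ygi50 zgi17) (kgi xgi19 ygi26 zgi38) (kgi xgi25 ygi9 zgi12) (kgi xgi12 ygi55 zgi40) (kgi xgi19 ygi26 zgi20) (kgi xgi28 ygi4 zgi2) (kgi xgi30 ygi18 zgi0) (kgi xgi16 ygi13 zgi27) (kgi xgi22 ygi5 zgi51) (kgi xgi21 ygi50 zgi21) (kgi xgi25 ygi17 zgi26) (kgi xgi24 ygi33 zgi52) (kgi xgi12 ygi55 zgi46) (kgi xgi27 ygi35 zgi33) (kgi xgi24 ygi34 zgi34) (kgi xgi29 ygi21 zgi9) (kgi xgi12 ygi55 zgi51) (kgi xgi28 ygi37 zgi12) (kgi xgi19 ygi26 zgi44) (kgi xgi15 ygi45 zgi32) (kgi xgi25 ygi52 zgi56) (kgi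 xgi25 ygi20 zgi53) (kgi xgi12 ygi56 zgi3) (kgi xgi25 ygi20 zgi45) (kgi xgi28 ygi33 zgi16) (kgi xgi20 ygi54 zgi9) (kgi xgi14 ygi48 zgi11) (kgi xgi26 ygi11 zgi15) (kgi xgi30 ygi18 zgi8) (kgi xgi24 ygi58 zgi1) (kgi xgi26 ygi10 zgi21) (kgi xgi21 ygi35 zgi48) (kgi xgi15 ygi21 zgi31) (kgi xgi24 ygi57 zgi58) (kgi xgi12 ygi56 zgi4) (kgi xgi14 ygi8 zgi11) (kgi xgi20 ygi5 zgi47) (kgi xgi22 ygi4 zgi56) (kgi xgi17 ygi52 zgi17) (kgi xgi15 ygi25 zgi38) (kgi xgi14 ygi47 zgi16)) (@D3.rec (fun _ => Pt) (kgi xgi15 ygi25 zgi49) (kgi xgi17 ygi52 zgi29) (kgi xgi27 ygi3 zgi54) (kgi xgi25 ygi39 zgi55) (kgi xgi25 ygi39 zgi53) (kgi xgi27 ygi1 zgi26) (kgi xgi12 ygi56 zgi15) (kgi xgi20 ygi54 zgi2) (kgi xgi13 ygi1 zgi0) (kgi xgi27 ygi22 zgi61) (kgi xgi21 ygi11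 zgi10) (kgi xgi13 ygi2 zgi28) (kgi xgi13 ygi2 zgi26) (kgi xgi30 ygi12 zgi43) (kgi xgi19 ygi11 zgi39) (kgi xgi12 ygi56 zgi32) (kgi xgi21 ygi31 zgi42) (kgi xgi21 ygi54 zgi15) (kgi xgi25 ygi6 zgi7) (kgi xgi19 ygi26 zgi43) (kgi xgi12 ygi56 zgi40) (kgi xgi13 ygi2 zgi13) (kgi xgi19 ygi40 zgi20) (kgi xgi20 ygi4 zgi57) (kgi xgi27 ygi37 zgi31) (kgi xgi20 ygi27 zgi53) (kgi xgi12 ygi56 zgi48) (kgi xgi20 ygi12 zgi11) (kgi xgi21 ygi9 zgi39) (kgi xgi17 ygi26 zgi54) (kgi xgi20 ygi45 zgi31) (kgi xgi18 ygi57 zgi37) (kgi xgi28 ygi23 zgi36) (kgi xgi17 ygi18 zgi40) (kgi xgi25 ygi28 zgi38) (kgi xgi12 ygi56 zgi58) (kgi xgi12 ygi57 zgi23) (kgi xgi29 ygi48 zgi24) (kgi xgi12 ygi57 zgi20) (kgi xgi17 ygi17 zgi41) (kgi xgi27 ygi21 zgi45) (kgi xgi15 ygi33 zgi6)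 (kgi xgi30 ygi18 zgi28) (kgi xgi16 ygi58 zgi13) (kgi xgi29 ygi26 zgi1) (kgi xgi14 ygi27 zgi12) (kgi xgi27 ygi21 zgi51) (kgi xgi25 ygi24 zgi34) (kgi xgi22 ygi54 zgi16) (kgi xgi12 ygi57 zgi6) (kgi xgi22 ygi54 zgi9) (kgi xgi30 ygi18 zgi35) (kgi xgi26 ygi24 zgi34) (kgi xgi29 ygi26 zgi2) (kgi xgi12 ygi57 zgi9) (kgi xgi27 ygi16 zgi43) (kgi xgi29 ygi35 zgi46) (kgi xgi14 ygi16 zgi19) (kgi xgi14 ygi26 zgi10) (kgi xgi30 ygi18 zgi43) (kgi xgi30 ygi18 zgi45) (kgi xgi12 ygi57 zgi13)) (@D3.rec (fun _ => Pt) (kgi xgi27 ygi22 zgi45) (kgi xgi14 ygi35 zgi36) (kgi xgi29 ygi53 zgi17) (kgi xgi19 ygi37 zgi54) (kgi xgi29 ygi37 zgi42) (kgi xgi27 ygi30 zgi8) (kgi xgi18 ygi1 zgi59) (kgi xgi22 ygi58 zgi2) (kgi xgi27 ygi2 zgi61) (kgi xgi30 ygi18 zgi55) (kgi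 xgi25 ygi43 zgi13) (kgi xgi28 ygi17 zgi30) (kgi xgi12 ygi57 zgi22) (kgi xgi30 ygi18 zgi26) (kgi xgi30 ygi19 zgi4) (kgi xgi30 ygi18 zgi24) (kgi xgi14 ygi16 zgi57) (kgi xgi30 ygi15 zgi9) (kgi xgi27 ygi7 zgi13) (kgi xgi18 ygi56 zgi25) (kgi xgi21 ygi38 zgi35) (kgi xgi30 ygi19 zgi13) (kgi xgi14 ygi16 zgi23) (kgi xgi27 ygi54 zgi43) (kgi xgi19 ygi9 zgi4) (kgi xgi30 ygi19 zgi16) (kgi xgi12 ygi57 zgi35) (kgi xgi15 ygi47 zgi11) (kgi xgi16 ygi1 zgi53) (kgi xgi27 ygi1 zgi56) (kgi xgi30 ygi18 zgi40) (kgi xgi24 ygi18 zgi46) (kgi xgi17 ygi32 zgi18) (kgi xgi19 ygi42 zgi43) (kgi xgi12 ygi57 zgi43) (kgi xgi15 ygi27 zgi59) (kgi xgi30 ygi19 zgi21) (kgi xgi15 ygi29 zgi15) (kgi xgi15 ygi29 zgi20) (kgi xgi12 ygi57 zgi48) (kgi xgi15 ygi27 zgi52) (kgi xgi15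 ygi56 zgi32) (kgi xgi24 ygi50 zgi22) (kgi xgi24 ygi50 zgi34) (kgi xgi13 ygi2 zgi16) (kgi xgi12 ygi57 zgi53) (kgi xgi14 ygi30 zgi59) (kgi xgi20 ygi41 zgi58) (kgi xgi24 ygi52 zgi50) (kgi xgi12 ygi57 zgi58) (kgi xgi26 ygi54 zgi16) (kgi xgi25 ygi19 zgi61) (kgi xgi24 ygi52 zgi44) (kgi xgi16 ygi36 zgi7) (kgi xgi14 ygi4 zgi59) (kgi xgi12 ygi58 zgi1) (kgi xgi12 ygi58 zgi4) (kgi xgi20 ygi27 zgi8) (kgi xgi19 ygi33 zgi10) (kgi xgi20 ygi27 zgi5) (kgi xgi20 ygi27 zgi11) (kgi xgi16 ygi53 zgi9)) (@D3.rec (fun _ => Pt) (kgi xgi19 ygi43 zgi59) (kgi xgi19 ygi43 zgi50) (kgi xgi21 ygi7 zgi7) (kgi xgi21 ygi41 zgi40) (kgi xgi13 ygi1 zgi24) (kgi xgi13 ygi1 zgi36) (kgi xgi28 ygi27 zgi44) (kgi xgi21 ygi31 zgi51) (kgi xgi17 ygi38 zgi39) (kgi xgi14 ygi12 zgi14)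 (kgi xgi12 ygi58 zgi16) (kgi xgi23 ygi37 zgi53) (kgi xgi17 ygi37 zgi46) (kgi xgi17 ygi42 zgi44) (kgi xgi24 ygi36 zgi0) (kgi xgi25 ygi29 zgi22) (kgi xgi24 ygi43 zgi2) (kgi xgi27 ygi11 zgi7) (kgi xgi30 ygi14 zgi6) (kgi xgi12 ygi58 zgi24) (kgi xgi15 ygi47 zgi17) (kgi xgi29 ygi12 zgi46) (kgi xgi12 ygi58 zgi28) (kgi xgi27 ygi23 zgi5) (kgi xgi14 ygi25 zgi25) (kgi xgi29 ygi36 zgi21) (kgi xgi14 ygi55 zgi34) (kgi xgi29 ygi12 zgi50) (kgi xgi20 ygi34 zgi13) (kgi xgi12 ygi58 zgi42) (kgi xgi21 ygi7 zgi8) (kgi xgi21 ygi26 zgi3) (kgi xgi24 ygi7 zgi31) (kgi xgi12 ygi58 zgi43) (kgi xgi12 ygi58 zgi45) (kgi xgi15 ygi45 zgi48) (kgi xgi12 ygi58 zgi44) (kgi xgi21 ygi32 zgi25) (kgi xgi14 ygi48 zgi51) (kgi xgi21 ygi51 zgi51) (kgi xgi21 ygi7 zgi35) (kgi xgi12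 ygi58 zgi51) (kgi xgi16 ygi15 zgi18) (kgi xgi26 ygi13 zgi48) (kgi xgi22 ygi14 zgi50) (kgi xgi22 ygi14 zgi48) (kgi xgi27 ygi48 zgi38) (kgi xgi12 ygi58 zgi55) (kgi xgi21 ygi31 zgi25) (kgi xgi26 ygi12 zgi54) (kgi xgi17 ygi35 zgi16) (kgi xgi21 ygi25 zgi12) (kgi xgi23 ygi34 zgi14) (kgi xgi12 ygi58 zgi61) (kgi xgi23 ygi22 zgi1) (kgi xgi23 ygi21 zgi60) (kgi xgi12 ygi59 zgi1) (kgi xgi12 ygi59 zgi4) (kgi xgi27 ygi3 zgi45) (kgi xgi30 ygi19 zgi41) (kgi xgi21 ygi25 zgi42) (kgi xgi13 ygi0 zgi10)) (@D3.rec (fun _ => Pt) (kgi xgi21 ygi31 zgi26) (kgi xgi14 ygi2 zgi45) (kgi xgi24 ygi18 zgi27) (kgi xgi30 ygi19 zgi43) (kgi xgi12 ygi59 zgi6) (kgi xgi21 ygi5 zgi20) (kgi xgi21 ygi5 zgi18) (kgi xgi21 ygi39 zgi42) (kgi xgi24 ygi58 zgi4) (kgi xgi25 ygi5 zgi42)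 (kgi xgi25 ygi44 zgi0) (kgi xgi12 ygi59 zgi9) (kgi xgi15 ygi16 zgi15) (kgi xgi25 ygi8 zgi61) (kgi xgi15 ygi40 zgi49) (kgi xgi15 ygi16 zgi25) (kgi xgi27 ygi25 zgi26) (kgi xgi13 ygi0 zgi39) (kgi xgi21 ygi5 zgi31) (kgi xgi27 ygi11 zgi33) (kgi xgi12 ygi59 zgi15) (kgi xgi21 ygi5 zgi30) (kgi xgi23 ygi34 zgi1) (kgi xgi30 ygi19 zgi54) (kgi xgi12 ygi59 zgi16) (kgi xgi26 ygi5 zgi45) (kgi xgi12 ygi59 zgi17) (kgi xgi23 ygi9 zgi3) (kgi xgi12 ygi59 zgi21) (kgi xgi12 ygi59 zgi24) (kgi xgi24 ygi8 zgi41) (kgi xgi21 ygi5 zgi42) (kgi xgi13 ygi37 zgi48) (kgi xgi14 ygi44 zgi33) (kgi xgi14 ygi32 zgi0) (kgi xgi15 ygi58 zgi17) (kgi xgi17 ygi14 zgi26) (kgi xgi30 ygi17 zgi3) (kgi xgi16 ygi13 zgi46) (kgi xgi12 ygi59 zgi31) (kgi xgi15 ygi39 zgi6) (kgi xgi15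 ygi34 zgi31) (kgi xgi15 ygi39 zgi54) (kgi xgi30 ygi19 zgi60) (kgi xgi15 ygi39 zgi49) (kgi xgi12 ygi59 zgi36) (kgi xgi15 ygi40 zgi14) (kgi xgi30 ygi20 zgi2) (kgi xgi30 ygi20 zgi3) (kgi xgi12 ygi59 zgi39) (kgi xgi25 ygi43 zgi18) (kgi xgi30 ygi6 zgi43) (kgi xgi24 ygi7 zgi17) (kgi xgi20 ygi16 zgi45) (kgi xgi15 ygi46 zgi59) (kgi xgi20 ygi13 zgi2) (kgi xgi29 ygi52 zgi1) (kgi xgi28 ygi47 zgi4) (kgi xgi20 ygi13 zgi7) (kgi xgi28 ygi1 zgi25) (kgi xgi22 ygi3 zgi45) (kgi xgi15 ygi43 zgi45)) (@D3.rec (fun _ => Pt) (kgi xgi15 ygi45 zgi57) (kgi xgi29 ygi21 zgi46) (kgi xgi26 ygi2 zgi29) (kgi xgi20 ygi20 zgi39) (kgi xgi15 ygi48 zgi40) (kgi xgi17 ygi14 zgi5) (kgi xgi17 ygi16 zgi28) (kgi xgi13 ygi0 zgi4) (kgi xgi30 ygi14 zgi31) (kgi xgi14 ygi47 zgi57)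 (kgi xgi29 ygi23 zgi29) (kgi xgi26 ygi3 zgi28) (kgi xgi23 ygi2 zgi42) (kgi xgi23 ygi2 zgi46) (kgi xgi23 ygi46 zgi57) (kgi xgi29 ygi51 zgi22) (kgi xgi30 ygi20 zgi9) (kgi xgi30 ygi7 zgi44) (kgi xgi13 ygi0 zgi8) (kgi xgi13 ygi0 zgi21) (kgi xgi21 ygi27 zgi59) (kgi xgi28 ygi49 zgi32) (kgi xgi13 ygi0 zgi9) (kgi xgi21 ygi23 zgi45) (kgi xgi25 ygi39 zgi47) (kgi xgi15 ygi45 zgi4) (kgi xgi13 ygi0 zgi23) (kgi xgi29 ygi57 zgi35) (kgi xgi29 ygi57 zgi12) (kgi xgi25 ygi31 zgi3) (kgi xgi15 ygi36 zgi60) (kgi xgi13 ygi0 zgi13) (kgi xgi17 ygi35 zgi20) (kgi xgi30 ygi20 zgi17) (kgi xgi18 ygi29 zgi35) (kgi xgi26 ygi11 zgi32) (kgi xgi21 ygi33 zgi17) (kgi xgi30 ygi13 zgi30) (kgi xgi17 ygi27 zgi40) (kgi xgi29 ygi50 zgi33) (kgi xgi27 ygi20 zgi57) (kgi xgi27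 ygi54 zgi21) (kgi xgi29 ygi21 zgi54) (kgi xgi13 ygi0 zgi32) (kgi xgi28 ygi6 zgi46) (kgi xgi28 ygi6 zgi45) (kgi xgi13 ygi0 zgi34) (kgi xgi21 ygi39 zgi25) (kgi xgi21 ygi39 zgi23) (kgi xgi22 ygi9 zgi41) (kgi xgi25 ygi28 zgi24) (kgi xgi22 ygi8 zgi23) (kgi xgi21 ygi5 zgi26) (kgi xgi14 ygi31 zgi58) (kgi xgi24 ygi37 zgi38) (kgi xgi13 ygi0 zgi40) (kgi xgi15 ygi41 zgi4) (kgi xgi13 ygi0 zgi43) (kgi xgi29 ygi51 zgi1) (kgi xgi14 ygi54 zgi8) (kgi xgi15 ygi46 zgi54) (kgi xgi29 ygi51 zgi0)) (@D3.rec (fun _ => Pt) (kgi xgi27 ygi23 zgi12) (kgi xgi14 ygi4 zgi36) (kgi xgi27 ygi48 zgi50) (kgi xgi17 ygi22 zgi58) (kgi xgi20 ygi22 zgi54) (kgi xgi20 ygi20 zgi32) (kgi xgi13 ygi20 zgi10) (kgi xgi24 ygi43 zgi9) (kgi xgi21 ygi37 zgi1) (kgi xgi18 ygi24 zgi31)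 (kgi xgi17 ygi45 zgi9) (kgi xgi21 ygi10 zgi2) (kgi xgi13 ygi1 zgi13) (kgi xgi21 ygi58 zgi32) (kgi xgi27 ygi30 zgi58) (kgi xgi17 ygi36 zgi46) (kgi xgi13 ygi1 zgi14) (kgi xgi21 ygi22 zgi49) (kgi xgi14 ygi34 zgi59) (kgi xgi30 ygi20 zgi23) (kgi xgi13 ygi1 zgi17) (kgi xgi29 ygi23 zgi35) (kgi xgi17 ygi27 zgi10) (kgi xgi21 ygi36 zgi53) (kgi xgi19 ygi25 zgi7) (kgi xgi23 ygi22 zgi9) (kgi xgi26 ygi11 zgi28) (kgi xgi29 ygi51 zgi53) (kgi xgi26 ygi13 zgi0) (kgi xgi17 ygi38 zgi31) (kgi xgi21 ygi31 zgi49) (kgi xgi25 ygi28 zgi56) (kgi xgi14 ygi4 zgi32) (kgi xgi18 ygi24 zgi33) (kgi xgi19 ygi35 zgi13) (kgi xgi22 ygi4 zgi32) (kgi xgi13 ygi1 zgi52) (kgi xgi17 ygi31 zgi53) (kgi xgi20 ygi9 zgi32) (kgi xgi14 ygi2 zgi5) (kgi xgi17 ygi30 zgi18) (kgi xgi18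 ygi21 zgi24) (kgi xgi21 ygi38 zgi6) (kgi xgi21 ygi57 zgi21) (kgi xgi16 ygi17 zgi16) (kgi xgi13 ygi2 zgi5) (kgi xgi21 ygi25 zgi8) (kgi xgi21 ygi25 zgi6) (kgi xgi13 ygi2 zgi6) (kgi xgi21 ygi20 zgi0) (kgi xgi21 ygi19 zgi60) (kgi xgi26 ygi11 zgi17) (kgi xgi19 ygi27 zgi14) (kgi xgi20 ygi18 zgi47) (kgi xgi17 ygi53 zgi24) (kgi xgi16 ygi31 zgi49) (kgi xgi19 ygi40 zgi5) (kgi xgi19 ygi26 zgi53) (kgi xgi27 ygi23 zgi51) (kgi xgi27 ygi10 zgi36) (kgi xgi25 ygi23 zgi44) (kgi xgi27 ygi16 zgi37)) (@D3.rec (fun _ => Pt) (kgi xgi22 ygi5 zgi31) (kgi xgi20 ygi22 zgi18) (kgi xgi13 ygi2 zgi29) (kgi xgi20 ygi22 zgi20) (kgi xgi21 ygi41 zgi8) (kgi xgi21 ygi38 zgi61) (kgi xgi13 ygi2 zgi33) (kgi xgi14 ygi2 zgi37) (kgi xgi14 ygi2 zgi35) (kgi xgi13 ygi34 zgi58)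 (kgi xgi13 ygi14 zgi50) (kgi xgi22 ygi15 zgi48) (kgi xgi14 ygi9 zgi43) (kgi xgi22 ygi45 zgi47) (kgi xgi23 ygi31 zgi43) (kgi xgi13 ygi2 zgi40) (kgi xgi22 ygi45 zgi31) (kgi xgi22 ygi45 zgi29) (kgi xgi13 ygi2 zgi41) (kgi xgi13 ygi13 zgi35) (kgi xgi14 ygi10 zgi3) (kgi xgi13 ygi2 zgi44) (kgi xgi13 ygi48 zgi20) (kgi xgi19 ygi14 zgi39) (kgi xgi18 ygi29 zgi38) (kgi xgi13 ygi2 zgi46) (kgi xgi14 ygi9 zgi58) (kgi xgi23 ygi58 zgi9) (kgi xgi14 ygi13 zgi16) (kgi xgi14 ygi13 zgi20) (kgi xgi22 ygi39 zgi28) (kgi xgi13 ygi2 zgi51) (kgi xgi22 ygi29 zgi52) (kgi xgi30 ygi20 zgi48) (kgi xgi22 ygi29 zgi50) (kgi xgi20 ygi43 zgi4) (kgi xgi13 ygi3 zgi26) (kgi xgi13 ygi3 zgi25) (kgi xgi24 ygi14 zgi39) (kgi xgi13 ygi2 zgi56) (kgi xgi30 ygi20 zgi56) (kgi xgi22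 ygi24 zgi18) (kgi xgi30 ygi20 zgi60) (kgi xgi13 ygi11 zgi38) (kgi xgi22 ygi36 zgi15) (kgi xgi13 ygi6 zgi56) (kgi xgi22 ygi33 zgi41) (kgi xgi30 ygi21 zgi0) (kgi xgi13 ygi3 zgi9) (kgi xgi13 ygi5 zgi52) (kgi xgi23 ygi46 zgi45) (kgi xgi13 ygi5 zgi49) (kgi xgi13 ygi49 zgi55) (kgi xgi30 ygi21 zgi4) (kgi xgi13 ygi20 zgi9) (kgi xgi29 ygi25 zgi20) (kgi xgi23 ygi33 zgi30) (kgi xgi13 ygi35 zgi48) (kgi xgi27 ygi41 zgi35) (kgi xgi26 ygi24 zgi30) (kgi xgi22 ygi23 zgi54) (kgi xgi13 ygi50 zgi21)) (@D3.rec (fun _ => Pt) (kgi xgi14 ygi49 zgi27) (kgi xgi22 ygi15 zgi24) (kgi xgi22 ygi14 zgi59) (kgi xgi22 ygi36 zgi47) (kgi xgi27 ygi34 zgi39) (kgi xgi20 ygi38 zgi40) (kgi xgi22 ygi22 zgi26) (kgi xgi29 ygi35 zgi17) (kgi xgi24 ygi17 zgi23) (kgi xgi13 ygi3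 zgi24) (kgi xgi27 ygi2 zgi29) (kgi xgi30 ygi21 zgi19) (kgi xgi24 ygi38 zgi38) (kgi xgi21 ygi14 zgi6) (kgi xgi13 ygi3 zgi38) (kgi xgi30 ygi20 zgi52) (kgi xgi23 ygi19 zgi15) (kgi xgi13 ygi3 zgi27) (kgi xgi30 ygi20 zgi51) (kgi xgi30 ygi21 zgi33) (kgi xgi30 ygi21 zgi37) (kgi xgi23 ygi19 zgi16) (kgi xgi22 ygi29 zgi47) (kgi xgi13 ygi3 zgi57) (kgi xgi29 ygi39 zgi32) (kgi xgi13 ygi3 zgi30) (kgi xgi13 ygi3 zgi36) (kgi xgi30 ygi21 zgi45) (kgi xgi24 ygi44 zgi21) (kgi xgi13 ygi3 zgi31) (kgi xgi22 ygi40 zgi15) (kgi xgi22 ygi40 zgi13) (kgi xgi23 ygi46 zgi30) (kgi xgi22 ygi40 zgi6) (kgi xgi13 ygi3 zgi34) (kgi xgi21 ygi40 zgi24) (kgi xgi30 ygi21 zgi52) (kgi xgi17 ygi25 zgi52) (kgi xgi13 ygi3 zgi37) (kgi xgi29 ygi34 zgi38) (kgi xgi22 ygi24 zgi8) (kgi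 xgi30 ygi21 zgi57) (kgi xgi30 ygi21 zgi61) (kgi xgi13 ygi3 zgi39) (kgi xgi30 ygi22 zgi3) (kgi xgi24 ygi26 zgi2) (kgi xgi13 ygi3 zgi40) (kgi xgi24 ygi26 zgi1) (kgi xgi22 ygi40 zgi5) (kgi xgi27 ygi6 zgi51) (kgi xgi29 ygi48 zgi29) (kgi xgi26 ygi51 zgi61) (kgi xgi22 ygi27 zgi0) (kgi xgi30 ygi22 zgi14) (kgi xgi13 ygi3 zgi45) (kgi xgi30 ygi22 zgi17) (kgi xgi30 ygi22 zgi23) (kgi xgi30 ygi22 zgi28) (kgi xgi30 ygi22 zgi18) (kgi xgi29 ygi39 zgi61) (kgi xgi21 ygi47 zgi40) (kgi xgi23 ygi52 zgi42)) (@D3.rec (fun _ => Pt) (kgi xgi14 ygi41 zgi26) (kgi xgi20 ygi42 zgi52) (kgi xgi13 ygi12 zgi59) (kgi xgi22 ygi26 zgi56) (kgi xgi19 ygi4 zgi45) (kgi xgi13 ygi3 zgi53) (kgi xgi22 ygi38 zgi26) (kgi xgi26 ygi49 zgi29) (kgi xgi19 ygi18 zgi19) (kgi xgi23 ygi52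 zgi40) (kgi xgi13 ygi22 zgi39) (kgi xgi29 ygi36 zgi38) (kgi xgi22 ygi34 zgi9) (kgi xgi20 ygi43 zgi17) (kgi xgi22 ygi14 zgi16) (kgi xgi30 ygi22 zgi45) (kgi xgi29 ygi36 zgi51) (kgi xgi13 ygi3 zgi58) (kgi xgi29 ygi36 zgi50) (kgi xgi30 ygi22 zgi53) (kgi xgi30 ygi20 zgi59) (kgi xgi22 ygi32 zgi17) (kgi xgi30 ygi22 zgi54) (kgi xgi13 ygi8 zgi0) (kgi xgi13 ygi4 zgi5) (kgi xgi28 ygi52 zgi58) (kgi xgi19 ygi12 zgi33) (kgi xgi13 ygi4 zgi6) (kgi xgi30 ygi22 zgi60) (kgi xgi13 ygi4 zgi8) (kgi xgi29 ygi35 zgi20) (kgi xgi22 ygi13 zgi12) (kgi xgi14 ygi10 zgi38) (kgi xgi21 ygi14 zgi8) (kgi xgi13 ygi4 zgi14) (kgi xgi27 ygi54 zgi24) (kgi xgi17 ygi54 zgi44) (kgi xgi23 ygi15 zgi53) (kgi xgi13 ygi23 zgi21) (kgi xgi13 ygi4 zgi18) (kgi xgi22 ygi25 zgi32) (kgi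 xgi13 ygi37 zgi31) (kgi xgi22 ygi46 zgi12) (kgi xgi22 ygi46 zgi61) (kgi xgi13 ygi18 zgi57) (kgi xgi13 ygi4 zgi23) (kgi xgi13 ygi4 zgi43) (kgi xgi13 ygi4 zgi41) (kgi xgi13 ygi4 zgi24) (kgi xgi22 ygi8 zgi45) (kgi xgi14 ygi58 zgi17) (kgi xgi18 ygi15 zgi3) (kgi xgi18 ygi55 zgi9) (kgi xgi13 ygi4 zgi26) (kgi xgi18 ygi36 zgi48) (kgi xgi18 ygi29 zgi4) (kgi xgi22 ygi42 zgi2) (kgi xgi13 ygi11 zgi27) (kgi xgi14 ygi44 zgi59) (kgi xgi19 ygi18 zgi55) (kgi xgi13 ygi4 zgi31) (kgi xgi15 ygi39 zgi11)) (@D3.rec (fun _ => Pt) (kgi xgi23 ygi50 zgi27) (kgi xgi19 ygi18 zgi46) (kgi xgi24 ygi44 zgi3) (kgi xgi21 ygi40 zgi13) (kgi xgi13 ygi4 zgi36) (kgi xgi13 ygi5 zgi22) (kgi xgi13 ygi4 zgi38) (kgi xgi19 ygi15 zgi35) (kgi xgi13 ygi4 zgi39) (kgi xgi24 ygi44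 zgi11) (kgi xgi24 ygi44 zgi9) (kgi xgi17 ygi40 zgi60) (kgi xgi13 ygi4 zgi40) (kgi xgi26 ygi16 zgi5) (kgi xgi30 ygi23 zgi16) (kgi xgi27 ygi23 zgi21) (kgi xgi28 ygi22 zgi44) (kgi xgi22 ygi18 zgi51) (kgi xgi24 ygi55 zgi48) (kgi xgi28 ygi15 zgi24) (kgi xgi19 ygi50 zgi44) (kgi xgi14 ygi24 zgi29) (kgi xgi13 ygi7 zgi47) (kgi xgi25 ygi45 zgi19) (kgi xgi13 ygi19 zgi42) (kgi xgi13 ygi24 zgi18) (kgi xgi14 ygi13 zgi15) (kgi xgi13 ygi20 zgi19) (kgi xgi13 ygi16 zgi28) (kgi xgi13 ygi4 zgi59) (kgi xgi18 ygi54 zgi50) (kgi xgi23 ygi51 zgi14) (kgi xgi14 ygi6 zgi33) (kgi xgi22 ygi25 zgi17) (kgi xgi13 ygi5 zgi2) (kgi xgi23 ygi21 zgi58) (kgi xgi23 ygi21 zgi56) (kgi xgi23 ygi34 zgi10) (kgi xgi13 ygi5 zgi3) (kgi xgi22 ygi35 zgi16) (kgi xgi30 ygi23 zgi26)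 (kgi xgi23 ygi52 zgi7) (kgi xgi25 ygi58 zgi0) (kgi xgi23 ygi22 zgi27) (kgi xgi27 ygi13 zgi13) (kgi xgi20 ygi46 zgi54) (kgi xgi22 ygi12 zgi11) (kgi xgi22 ygi30 zgi12) (kgi xgi22 ygi30 zgi30) (kgi xgi13 ygi13 zgi55) (kgi xgi13 ygi13 zgi53) (kgi xgi18 ygi37 zgi3) (kgi xgi13 ygi7 zgi6) (kgi xgi22 ygi57 zgi44) (kgi xgi13 ygi5 zgi14) (kgi xgi20 ygi40 zgi57) (kgi xgi30 ygi11 zgi1) (kgi xgi14 ygi3 zgi55) (kgi xgi22 ygi26 zgi51) (kgi xgi21 ygi32 zgi36) (kgi xgi22 ygi35 zgi23) (kgi xgi24 ygi23 zgi30)) (@D3.rec (fun _ => Pt) (kgi xgi22 ygi21 zgi23) (kgi xgi13 ygi5 zgi17) (kgi xgi23 ygi52 zgi45) (kgi xgi14 ygi39 zgi39) (kgi xgi20 ygi43 zgi9) (kgi xgi30 ygi23 zgi46) (kgi xgi13 ygi22 zgi31) (kgi xgi14 ygi42 zgi34) (kgi xgi13 ygi20 zgi29) (kgi xgi13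 ygi5 zgi24) (kgi xgi26 ygi49 zgi26) (kgi xgi21 ygi39 zgi56) (kgi xgi13 ygi16 zgi40) (kgi xgi22 ygi40 zgi27) (kgi xgi13 ygi16 zgi25) (kgi xgi23 ygi54 zgi26) (kgi xgi13 ygi37 zgi32) (kgi xgi13 ygi5 zgi31) (kgi xgi13 ygi5 zgi42) (kgi xgi22 ygi58 zgi56) (kgi xgi13 ygi5 zgi39) (kgi xgi13 ygi5 zgi33) (kgi xgi24 ygi18 zgi44) (kgi xgi13 ygi5 zgi34) (kgi xgi13 ygi5 zgi37) (kgi xgi18 ygi55 zgi32) (kgi xgi22 ygi49 zgi4) (kgi xgi23 ygi48 zgi48) (kgi xgi22 ygi48 zgi49) (kgi xgi28 ygi18 zgi7) (kgi xgi23 ygi5 zgi49) (kgi xgi13 ygi35 zgi58) (kgi xgi28 ygi58 zgi22) (kgi xgi13 ygi5 zgi41) (kgi xgi30 ygi23 zgi52) (kgi xgi19 ygi45 zgi39) (kgi xgi22 ygi59 zgi0) (kgi xgi21 ygi59 zgi41) (kgi xgi28 ygi25 zgi8) (kgi xgi27 ygi2 zgi36) (kgi xgi27 ygi41 zgi45)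 (kgi xgi27 ygi2 zgi30) (kgi xgi13 ygi37 zgi39) (kgi xgi28 ygi32 zgi46) (kgi xgi14 ygi11 zgi11) (kgi xgi30 ygi24 zgi5) (kgi xgi22 ygi23 zgi30) (kgi xgi27 ygi43 zgi10) (kgi xgi13 ygi5 zgi51) (kgi xgi13 ygi59 zgi19) (kgi xgi27 ygi42 zgi0) (kgi xgi13 ygi59 zgi16) (kgi xgi23 ygi46 zgi43) (kgi xgi23 ygi18 zgi53) (kgi xgi13 ygi44 zgi49) (kgi xgi13 ygi6 zgi0) (kgi xgi13 ygi5 zgi54) (kgi xgi22 ygi57 zgi37) (kgi xgi22 ygi48 zgi58) (kgi xgi27 ygi15 zgi5) (kgi xgi13 ygi5 zgi55) (kgi xgi22 ygi41 zgi16)) (@D3.rec (fun _ => Pt) (kgi xgi26 ygi26 zgi1) (kgi xgi23 ygi12 zgi13) (kgi xgi13 ygi5 zgi58) (kgi xgi30 ygi21 zgi5) (kgi xgi30 ygi21 zgi3) (kgi xgi26 ygi26 zgi2) (kgi xgi30 ygi24 zgi12) (kgi xgi13 ygi5 zgi60) (kgi xgi23 ygi33 zgi38) (kgi xgi19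 ygi8 zgi55) (kgi xgi23 ygi33 zgi36) (kgi xgi13 ygi19 zgi25) (kgi xgi19 ygi28 zgi53) (kgi xgi30 ygi24 zgi19) (kgi xgi26 ygi25 zgi41) (kgi xgi13 ygi6 zgi2) (kgi xgi29 ygi38 zgi31) (kgi xgi30 ygi21 zgi6) (kgi xgi30 ygi24 zgi23) (kgi xgi19 ygi39 zgi60) (kgi xgi13 ygi6 zgi4) (kgi xgi30 ygi21 zgi9) (kgi xgi28 ygi59 zgi12) (kgi xgi16 ygi27 zgi5) (kgi xgi13 ygi6 zgi6) (kgi xgi30 ygi24 zgi26) (kgi xgi27 ygi41 zgi39) (kgi xgi27 ygi42 zgi4) (kgi xgi27 ygi42 zgi1) (kgi xgi28 ygi21 zgi14) (kgi xgi28 ygi22 zgi14) (kgi xgi13 ygi6 zgi9) (kgi xgi23 ygi18 zgi55) (kgi xgi23 ygi12 zgi4) (kgi xgi30 ygi24 zgi35) (kgi xgi13 ygi40 zgi12) (kgi xgi29 ygi53 zgi24) (kgi xgi29 ygi27 zgi4) (kgi xgi13 ygi6 zgi13) (kgi xgi13 ygi45 zgi18) (kgi xgi13 ygi45 zgi16)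 (kgi xgi29 ygi39 zgi34) (kgi xgi13 ygi56 zgi31) (kgi xgi13 ygi56 zgi54) (kgi xgi15 ygi43 zgi50) (kgi xgi23 ygi40 zgi30) (kgi xgi23 ygi35 zgi35) (kgi xgi13 ygi6 zgi25) (kgi xgi25 ygi46 zgi22) (kgi xgi13 ygi57 zgi5) (kgi xgi14 ygi2 zgi38) (kgi xgi23 ygi44 zgi55) (kgi xgi16 ygi4 zgi57) (kgi xgi13 ygi6 zgi28) (kgi xgi23 ygi44 zgi43) (kgi xgi13 ygi6 zgi30) (kgi xgi23 ygi35 zgi18) (kgi xgi14 ygi24 zgi2) (kgi xgi16 ygi51 zgi58) (kgi xgi14 ygi3 zgi26) (kgi xgi30 ygi23 zgi7) (kgi xgi20 ygi48 zgi53)) (@D3.rec (fun _ => Pt) (kgi xgi17 ygi31 zgi9) (kgi xgi23 ygi49 zgi21) (kgi xgi20 ygi45 zgi37) (kgi xgi17 ygi31 zgi22) (kgi xgi28 ygi8 zgi15) (kgi xgi22 ygi34 zgi33) (kgi xgi18 ygi13 zgi16) (kgi xgi30 ygi24 zgi49) (kgi xgi13 ygi36 zgi40) (kgi xgi23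 ygi51 zgi36) (kgi xgi27 ygi34 zgi49) (kgi xgi13 ygi6 zgi50) (kgi xgi23 ygi50 zgi51) (kgi xgi30 ygi24 zgi52) (kgi xgi27 ygi50 zgi23) (kgi xgi17 ygi21 zgi58) (kgi xgi20 ygi45 zgi43) (kgi xgi30 ygi24 zgi56) (kgi xgi17 ygi21 zgi56) (kgi xgi14 ygi33 zgi2) (kgi xgi20 ygi45 zgi22) (kgi xgi15 ygi11 zgi55) (kgi xgi13 ygi6 zgi55) (kgi xgi18 ygi36 zgi61) (kgi xgi24 ygi15 zgi29) (kgi xgi14 ygi43 zgi31) (kgi xgi28 ygi28 zgi0) (kgi xgi23 ygi53 zgi47) (kgi xgi13 ygi6 zgi59) (kgi xgi23 ygi23 zgi55) (kgi xgi23 ygi23 zgi53) (kgi xgi21 ygi41 zgi18) (kgi xgi22 ygi34 zgi22) (kgi xgi19 ygi21 zgi19) (kgi xgi23 ygi27 zgi20) (kgi xgi13 ygi7 zgi0) (kgi xgi22 ygi34 zgi17) (kgi xgi13 ygi7 zgi1) (kgi xgi30 ygi22 zgi55) (kgi xgi13 ygi7 zgi2) (kgi xgi23 ygi23 zgi57)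 (kgi xgi23 ygi23 zgi56) (kgi xgi23 ygi6 zgi43) (kgi xgi30 ygi25 zgi2) (kgi xgi27 ygi45 zgi18) (kgi xgi23 ygi36 zgi48) (kgi xgi23 ygi36 zgi46) (kgi xgi23 ygi36 zgi45) (kgi xgi23 ygi11 zgi53) (kgi xgi26 ygi20 zgi38) (kgi xgi30 ygi25 zgi4) (kgi xgi22 ygi15 zgi18) (kgi xgi13 ygi7 zgi8) (kgi xgi23 ygi36 zgi41) (kgi xgi13 ygi7 zgi9) (kgi xgi18 ygi37 zgi29) (kgi xgi17 ygi39 zgi52) (kgi xgi19 ygi21 zgi25) (kgi xgi30 ygi25 zgi10) (kgi xgi13 ygi7 zgi11) (kgi xgi13 ygi7 zgi12) (kgi xgi13 ygi52 zgi16)) (@D3.rec (fun _ => Pt) (kgi xgi13 ygi7 zgi14) (kgi xgi24 ygi24 zgi57) (kgi xgi22 ygi59 zgi17) (kgi xgi22 ygi26 zgi25) (kgi xgi22 ygi26 zgi30) (kgi xgi28 ygi46 zgi17) (kgi xgi22 ygi24 zgi21) (kgi xgi22 ygi12 zgi34) (kgi xgi22 ygi58 zgi41) (kgi xgi24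 ygi25 zgi46) (kgi xgi23 ygi49 zgi3) (kgi xgi24 ygi25 zgi7) (kgi xgi23 ygi56 zgi31) (kgi xgi28 ygi15 zgi10) (kgi xgi20 ygi48 zgi56) (kgi xgi24 ygi25 zgi42) (kgi xgi26 ygi57 zgi21) (kgi xgi20 ygi48 zgi11) (kgi xgi13 ygi7 zgi23) (kgi xgi23 ygi45 zgi51) (kgi xgi14 ygi38 zgi3) (kgi xgi30 ygi25 zgi37) (kgi xgi23 ygi45 zgi48) (kgi xgi13 ygi11 zgi55) (kgi xgi13 ygi11 zgi20) (kgi xgi13 ygi7 zgi27) (kgi xgi13 ygi11 zgi17) (kgi xgi29 ygi33 zgi42) (kgi xgi27 ygi13 zgi59) (kgi xgi13 ygi10 zgi29) (kgi xgi30 ygi25 zgi44) (kgi xgi13 ygi11 zgi16) (kgi xgi29 ygi45 zgi34) (kgi xgi29 ygi37 zgi52) (kgi xgi30 ygi25 zgi50) (kgi xgi20 ygi47 zgi46) (kgi xgi29 ygi33 zgi34) (kgi xgi30 ygi25 zgi54) (kgi xgi29 ygi38 zgi5) (kgi xgi13 ygi7 zgi38) (kgi xgi30 ygi22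 zgi27) (kgi xgi30 ygi11 zgi57) (kgi xgi20 ygi48 zgi58) (kgi xgi13 ygi13 zgi13) (kgi xgi13 ygi7 zgi43) (kgi xgi24 ygi30 zgi2) (kgi xgi23 ygi24 zgi7) (kgi xgi30 ygi26 zgi2) (kgi xgi13 ygi13 zgi25) (kgi xgi30 ygi26 zgi4) (kgi xgi13 ygi13 zgi21) (kgi xgi13 ygi13 zgi20) (kgi xgi13 ygi9 zgi23) (kgi xgi22 ygi58 zgi37) (kgi xgi13 ygi53 zgi33) (kgi xgi28 ygi12 zgi58) (kgi xgi30 ygi26 zgi8) (kgi xgi24 ygi21 zgi44) (kgi xgi30 ygi25 zgi35) (kgi xgi14 ygi10 zgi14) (kgi xgi19 ygi3 zgi15) (kgi xgi14 ygi52 zgi0)) (@D3.rec (fun _ => Pt) (kgi xgi13 ygi8 zgi3) (kgi xgi13 ygi8 zgi15) (kgi xgi30 ygi26 zgi14) (kgi xgi13 ygi8 zgi6) (kgi xgi25 ygi48 zgi0) (kgi xgi14 ygi19 zgi41) (kgi xgi30 ygi26 zgi16) (kgi xgi14 ygi20 zgi30) (kgi xgi14 ygi48 zgi19) (kgi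 xgi27 ygi9 zgi0) (kgi xgi20 ygi27 zgi26) (kgi xgi14 ygi30 zgi52) (kgi xgi19 ygi2 zgi60) (kgi xgi30 ygi26 zgi15) (kgi xgi14 ygi31 zgi29) (kgi xgi19 ygi5 zgi27) (kgi xgi24 ygi13 zgi9) (kgi xgi24 ygi12 zgi57) (kgi xgi24 ygi12 zgi13) (kgi xgi15 ygi52 zgi14) (kgi xgi27 ygi20 zgi61) (kgi xgi27 ygi56 zgi26) (kgi xgi19 ygi10 zgi19) (kgi xgi14 ygi52 zgi5) (kgi xgi23 ygi47 zgi19) (kgi xgi14 ygi22 zgi32) (kgi xgi28 ygi59 zgi14) (kgi xgi22 ygi22 zgi58) (kgi xgi26 ygi42 zgi4) (kgi xgi28 ygi23 zgi35) (kgi xgi15 ygi41 zgi1) (kgi xgi19 ygi30 zgi45) (kgi xgi14 ygi48 zgi57) (kgi xgi13 ygi8 zgi33) (kgi xgi13 ygi8 zgi25) (kgi xgi24 ygi5 zgi61) (kgi xgi24 ygi38 zgi56) (kgi xgi30 ygi26 zgi38) (kgi xgi13 ygi8 zgi26) (kgi xgi13 ygi39 zgi16) (kgi xgi22 ygi52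 zgi25) (kgi xgi19 ygi37 zgi9) (kgi xgi28 ygi54 zgi7) (kgi xgi27 ygi12 zgi35) (kgi xgi13 ygi8 zgi31) (kgi xgi20 ygi16 zgi33) (kgi xgi24 ygi34 zgi39) (kgi xgi13 ygi20 zgi21) (kgi xgi14 ygi19 zgi10) (kgi xgi26 ygi27 zgi40) (kgi xgi30 ygi26 zgi46) (kgi xgi13 ygi8 zgi35) (kgi xgi24 ygi39 zgi34) (kgi xgi24 ygi39 zgi33) (kgi xgi30 ygi26 zgi48) (kgi xgi25 ygi55 zgi60) (kgi xgi13 ygi8 zgi37) (kgi xgi24 ygi39 zgi36) (kgi xgi24 ygi39 zgi35) (kgi xgi13 ygi8 zgi38) (kgi xgi22 ygi52 zgi52) (kgi xgi25 ygi8 zgi60)) (@D3.rec (fun _ => Pt) (kgi xgi30 ygi26 zgi50) (kgi xgi15 ygi34 zgi37) (kgi xgi13 ygi8 zgi40) (kgi xgi23 ygi1 zgi10) (kgi xgi24 ygi9 zgi3) (kgi xgi28 ygi52 zgi19) (kgi xgi29 ygi35 zgi30) (kgi xgi13 ygi8 zgi44) (kgi xgi24 ygi37 zgi48) (kgi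 xgi23 ygi27 zgi49) (kgi xgi24 ygi1 zgi28) (kgi xgi23 ygi47 zgi56) (kgi xgi16 ygi4 zgi6) (kgi xgi22 ygi27 zgi15) (kgi xgi13 ygi8 zgi55) (kgi xgi23 ygi43 zgi52) (kgi xgi13 ygi8 zgi56) (kgi xgi14 ygi39 zgi13) (kgi xgi14 ygi50 zgi42) (kgi xgi23 ygi26 zgi26) (kgi xgi29 ygi0 zgi5) (kgi xgi13 ygi8 zgi60) (kgi xgi24 ygi6 zgi42) (kgi xgi24 ygi38 zgi32) (kgi xgi13 ygi8 zgi61) (kgi xgi24 ygi10 zgi53) (kgi xgi21 ygi37 zgi20) (kgi xgi29 ygi35 zgi22) (kgi xgi22 ygi17 zgi57) (kgi xgi24 ygi2 zgi45) (kgi xgi13 ygi9 zgi4) (kgi xgi27 ygi12 zgi9) (kgi xgi24 ygi3 zgi52) (kgi xgi30 ygi27 zgi5) (kgi xgi16 ygi58 zgi53) (kgi xgi13 ygi24 zgi26) (kgi xgi30 ygi27 zgi8) (kgi xgi13 ygi9 zgi7) (kgi xgi24 ygi3 zgi41) (kgi xgi27 ygi36 zgi55) (kgi xgi30 ygi27 zgi14)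 (kgi xgi19 ygi31 zgi8) (kgi xgi19 ygi28 zgi30) (kgi xgi30 ygi3 zgi57) (kgi xgi24 ygi15 zgi56) (kgi xgi24 ygi32 zgi19) (kgi xgi21 ygi8 zgi38) (kgi xgi28 ygi31 zgi3) (kgi xgi17 ygi10 zgi7) (kgi xgi21 ygi41 zgi43) (kgi xgi19 ygi30 zgi27) (kgi xgi13 ygi9 zgi15) (kgi xgi24 ygi39 zgi18) (kgi xgi24 ygi39 zgi16) (kgi xgi19 ygi30 zgi53) (kgi xgi22 ygi26 zgi48) (kgi xgi13 ygi9 zgi18) (kgi xgi20 ygi28 zgi56) (kgi xgi30 ygi27 zgi21) (kgi xgi13 ygi9 zgi19) (kgi xgi22 ygi26 zgi50) (kgi xgi13 ygi9 zgi20)) (@D3.rec (fun _ => Pt) (kgi xgi21 ygi47 zgi41) (kgi xgi13 ygi9 zgi22) (kgi xgi24 ygi39 zgi22) (kgi xgi30 ygi27 zgi23) (kgi xgi13 ygi9 zgi25) (kgi xgi24 ygi39 zgi23) (kgi xgi19 ygi14 zgi57) (kgi xgi24 ygi4 zgi49) (kgi xgi30 ygi27 zgi28) (kgi xgi13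 ygi9 zgi33) (kgi xgi13 ygi46 zgi11) (kgi xgi13 ygi46 zgi8) (kgi xgi14 ygi45 zgi43) (kgi xgi15 ygi3 zgi1) (kgi xgi23 ygi1 zgi46) (kgi xgi13 ygi36 zgi33) (kgi xgi18 ygi0 zgi59) (kgi xgi13 ygi9 zgi40) (kgi xgi23 ygi38 zgi15) (kgi xgi21 ygi41 zgi20) (kgi xgi14 ygi45 zgi60) (kgi xgi13 ygi9 zgi44) (kgi xgi28 ygi11 zgi29) (kgi xgi23 ygi45 zgi45) (kgi xgi23 ygi1 zgi19) (kgi xgi13 ygi10 zgi10) (kgi xgi22 ygi7 zgi29) (kgi xgi13 ygi9 zgi60) (kgi xgi16 ygi59 zgi59) (kgi xgi17 ygi19 zgi53) (kgi xgi29 ygi38 zgi52) (kgi xgi23 ygi57 zgi36) (kgi xgi17 ygi20 zgi9) (kgi xgi29 ygi19 zgi13) (kgi xgi21 ygi40 zgi8) (kgi xgi22 ygi22 zgi43) (kgi xgi22 ygi46 zgi58) (kgi xgi22 ygi22 zgi35) (kgi xgi29 ygi4 zgi17) (kgi xgi13 ygi45 zgi11) (kgi xgi24 ygi9 zgi0)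 (kgi xgi23 ygi57 zgi57) (kgi xgi22 ygi22 zgi37) (kgi xgi22 ygi22 zgi42) (kgi xgi17 ygi19 zgi60) (kgi xgi23 ygi57 zgi42) (kgi xgi22 ygi47 zgi34) (kgi xgi28 ygi17 zgi11) (kgi xgi19 ygi43 zgi3) (kgi xgi19 ygi27 zgi19) (kgi xgi20 ygi46 zgi57) (kgi xgi27 ygi59 zgi48) (kgi xgi27 ygi20 zgi60) (kgi xgi22 ygi15 zgi44) (kgi xgi27 ygi21 zgi21) (kgi xgi13 ygi36 zgi25) (kgi xgi26 ygi24 zgi13) (kgi xgi28 ygi48 zgi26) (kgi xgi22 ygi20 zgi25) (kgi xgi15 ygi40 zgi51) (kgi xgi19 ygi27 zgi29) (kgi xgi23 ygi57 zgi45)) (@D3.rec (fun _ => Pt) (kgi xgi16 ygi27 zgi28) (kgi xgi22 ygi52 zgi40) (kgi xgi24 ygi38 zgi53) (kgi xgi30 ygi27 zgi46) (kgi xgi13 ygi10 zgi27) (kgi xgi17 ygi50 zgi7) (kgi xgi29 ygi46 zgi37) (kgi xgi22 ygi0 zgi48) (kgi xgi24 ygi1 zgi31)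 (kgi xgi21 ygi47 zgi18) (kgi xgi17 ygi51 zgi11) (kgi xgi20 ygi47 zgi3) (kgi xgi20 ygi33 zgi41) (kgi xgi13 ygi10 zgi42) (kgi xgi24 ygi14 zgi49) (kgi xgi24 ygi11 zgi30) (kgi xgi30 ygi27 zgi51) (kgi xgi13 ygi10 zgi44) (kgi xgi23 ygi11 zgi12) (kgi xgi23 ygi11 zgi11) (kgi xgi28 ygi23 zgi41) (kgi xgi13 ygi10 zgi49) (kgi xgi29 ygi0 zgi42) (kgi xgi13 ygi35 zgi44) (kgi xgi17 ygi2 zgi14) (kgi xgi27 ygi42 zgi58) (kgi xgi13 ygi10 zgi53) (kgi xgi22 ygi53 zgi37) (kgi xgi13 ygi42 zgi34) (kgi xgi23 ygi25 zgi18) (kgi xgi22 ygi16 zgi44) (kgi xgi27 ygi30 zgi49) (kgi xgi23 ygi58 zgi4) (kgi xgi24 ygi44 zgi19) (kgi xgi24 ygi15 zgi32) (kgi xgi24 ygi53 zgi8) (kgi xgi20 ygi16 zgi37) (kgi xgi27 ygi12 zgi32) (kgi xgi24 ygi12 zgi0) (kgi xgi29 ygi44 zgi42) (kgi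 xgi24 ygi14 zgi29) (kgi xgi30 ygi28 zgi1) (kgi xgi22 ygi19 zgi35) (kgi xgi30 ygi28 zgi2) (kgi xgi20 ygi16 zgi47) (kgi xgi30 ygi23 zgi2) (kgi xgi30 ygi28 zgi5) (kgi xgi13 ygi11 zgi13) (kgi xgi26 ygi43 zgi25) (kgi xgi24 ygi1 zgi8) (kgi xgi13 ygi11 zgi14) (kgi xgi28 ygi53 zgi5) (kgi xgi29 ygi38 zgi58) (kgi xgi22 ygi24 zgi48) (kgi xgi22 ygi13 zgi14) (kgi xgi13 ygi11 zgi24) (kgi xgi13 ygi33 zgi47) (kgi xgi24 ygi0 zgi59) (kgi xgi20 ygi47 zgi55) (kgi xgi23 ygi7 zgi5) (kgi xgi22 ygi24 zgi56) (kgi xgi13 ygi11 zgi22)) (@D3.rec (fun _ => Pt) (kgi xgi30 ygi28 zgi15) (kgi xgi30 ygi28 zgi18) (kgi xgi13 ygi11 zgi23) (kgi xgi22 ygi24 zgi50) (kgi xgi30 ygi28 zgi24) (kgi xgi24 ygi0 zgi57) (kgi xgi21 ygi13 zgi58) (kgi xgi22 ygi53 zgi54) (kgi xgi13 ygi11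 zgi26) (kgi xgi22 ygi13 zgi40) (kgi xgi30 ygi28 zgi30) (kgi xgi30 ygi28 zgi32) (kgi xgi28 ygi46 zgi15) (kgi xgi30 ygi22 zgi26) (kgi xgi20 ygi41 zgi16) (kgi xgi13 ygi11 zgi30) (kgi xgi20 ygi47 zgi57) (kgi xgi30 ygi28 zgi36) (kgi xgi20 ygi43 zgi3) (kgi xgi30 ygi28 zgi40) (kgi xgi14 ygi10 zgi33) (kgi xgi30 ygi28 zgi43) (kgi xgi29 ygi39 zgi57) (kgi xgi13 ygi11 zgi35) (kgi xgi30 ygi25 zgi43) (kgi xgi30 ygi25 zgi42) (kgi xgi23 ygi45 zgi38) (kgi xgi24 ygi17 zgi56) (kgi xgi22 ygi0 zgi47) (kgi xgi27 ygi16 zgi12) (kgi xgi23 ygi49 zgi7) (kgi xgi27 ygi2 zgi57) (kgi xgi30 ygi25 zgi23) (kgi xgi22 ygi0 zgi44) (kgi xgi13 ygi22 zgi41) (kgi xgi22 ygi0 zgi42) (kgi xgi18 ygi56 zgi6) (kgi xgi13 ygi11 zgi44) (kgi xgi24 ygi25 zgi45) (kgi xgi30 ygi29 zgi5)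 (kgi xgi22 ygi0 zgi52) (kgi xgi27 ygi16 zgi30) (kgi xgi13 ygi11 zgi45) (kgi xgi25 ygi25 zgi11) (kgi xgi27 ygi16 zgi25) (kgi xgi22 ygi28 zgi4) (kgi xgi13 ygi11 zgi48) (kgi xgi22 ygi59 zgi34) (kgi xgi13 ygi11 zgi49) (kgi xgi22 ygi23 zgi53) (kgi xgi22 ygi24 zgi2) (kgi xgi29 ygi40 zgi32) (kgi xgi22 ygi53 zgi19) (kgi xgi13 ygi11 zgi52) (kgi xgi13 ygi39 zgi35) (kgi xgi14 ygi22 zgi53) (kgi xgi22 ygi15 zgi27) (kgi xgi30 ygi29 zgi23) (kgi xgi13 ygi11 zgi56) (kgi xgi29 ygi46 zgi18) (kgi xgi30 ygi29 zgi24) (kgi xgi16 ygi42 zgi30)) (@D3.rec (fun _ => Pt) (kgi xgi20 ygi39 zgi35) (kgi xgi13 ygi11 zgi57) (kgi xgi13 ygi11 zgi58) (kgi xgi25 ygi52 zgi48) (kgi xgi25 ygi52 zgi46) (kgi xgi30 ygi29 zgi22) (kgi xgi14 ygi38 zgi6) (kgi xgi29 ygi32 zgi32)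 (kgi xgi30 ygi25 zgi33) (kgi xgi13 ygi11 zgi61) (kgi xgi30 ygi25 zgi51) (kgi xgi30 ygi25 zgi49) (kgi xgi23 ygi45 zgi44) (kgi xgi20 ygi14 zgi45) (kgi xgi20 ygi16 zgi58) (kgi xgi22 ygi26 zgi2) (kgi xgi20 ygi48 zgi19) (kgi xgi22 ygi24 zgi34) (kgi xgi17 ygi24 zgi46) (kgi xgi29 ygi31 zgi36) (kgi xgi30 ygi29 zgi36) (kgi xgi28 ygi18 zgi21) (kgi xgi22 ygi40 zgi16) (kgi xgi22 ygi46 zgi22) (kgi xgi17 ygi24 zgi43) (kgi xgi13 ygi12 zgi8) (kgi xgi30 ygi25 zgi45) (kgi xgi26 ygi28 zgi0) (kgi xgi30 ygi29 zgi43) (kgi xgi13 ygi12 zgi9) (kgi xgi20 ygi48 zgi2) (kgi xgi20 ygi47 zgi8) (kgi xgi30 ygi23 zgi4) (kgi xgi20 ygi47 zgi52) (kgi xgi13 ygi12 zgi12) (kgi xgi30 ygi25 zgi55) (kgi xgi30 ygi25 zgi53) (kgi xgi29 ygi45 zgi0) (kgi xgi13 ygi12 zgi14) (kgi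 xgi30 ygi25 zgi52) (kgi xgi29 ygi49 zgi4) (kgi xgi30 ygi29 zgi52) (kgi xgi29 ygi38 zgi3) (kgi xgi13 ygi12 zgi16) (kgi xgi13 ygi12 zgi18) (kgi xgi30 ygi29 zgi55) (kgi xgi30 ygi29 zgi57) (kgi xgi27 ygi8 zgi32) (kgi xgi20 ygi44 zgi45) (kgi xgi13 ygi12 zgi20) (kgi xgi22 ygi1 zgi23) (kgi xgi30 ygi29 zgi56) (kgi xgi14 ygi38 zgi9) (kgi xgi30 ygi20 zgi55) (kgi xgi13 ygi12 zgi19) (kgi xgi30 ygi20 zgi57) (kgi xgi29 ygi29 zgi21) (kgi xgi27 ygi6 zgi60) (kgi xgi30 ygi30 zgi2) (kgi xgi13 ygi12 zgi21) (kgi xgi13 ygi12 zgi22) (kgi xgi29 ygi38 zgi11)) (@D3.rec (fun _ => Pt) (kgi xgi22 ygi56 zgi45) (kgi xgi28 ygi39 zgi24) (kgi xgi22 ygi26 zgi18) (kgi xgi24 ygi16 zgi36) (kgi xgi22 ygi25 zgi7) (kgi xgi27 ygi7 zgi33) (kgi xgi21 ygi11 zgi21) (kgi xgi29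 ygi38 zgi4) (kgi xgi13 ygi12 zgi25) (kgi xgi14 ygi21 zgi16) (kgi xgi13 ygi12 zgi42) (kgi xgi24 ygi30 zgi8) (kgi xgi23 ygi24 zgi8) (kgi xgi13 ygi12 zgi29) (kgi xgi23 ygi24 zgi4) (kgi xgi14 ygi40 zgi51) (kgi xgi30 ygi30 zgi13) (kgi xgi29 ygi40 zgi4) (kgi xgi20 ygi37 zgi22) (kgi xgi13 ygi12 zgi31) (kgi xgi20 ygi44 zgi47) (kgi xgi30 ygi26 zgi3) (kgi xgi22 ygi14 zgi2) (kgi xgi19 ygi47 zgi23) (kgi xgi19 ygi22 zgi34) (kgi xgi22 ygi19 zgi10) (kgi xgi19 ygi7 zgi22) (kgi xgi30 ygi30 zgi21) (kgi xgi13 ygi12 zgi38) (kgi xgi30 ygi26 zgi5) (kgi xgi24 ygi1 zgi45) (kgi xgi22 ygi16 zgi9) (kgi xgi29 ygi19 zgi40) (kgi xgi23 ygi24 zgi6) (kgi xgi14 ygi40 zgi30) (kgi xgi27 ygi10 zgi25) (kgi xgi13 ygi12 zgi43) (kgi xgi29 ygi38 zgi7) (kgi xgi23 ygi10 zgi51)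 (kgi xgi30 ygi30 zgi31) (kgi xgi13 ygi12 zgi46) (kgi xgi29 ygi39 zgi54) (kgi xgi20 ygi48 zgi44) (kgi xgi14 ygi16 zgi4) (kgi xgi30 ygi30 zgi34) (kgi xgi13 ygi34 zgi52) (kgi xgi22 ygi12 zgi30) (kgi xgi22 ygi13 zgi28) (kgi xgi13 ygi12 zgi52) (kgi xgi22 ygi21 zgi55) (kgi xgi22 ygi21 zgi59) (kgi xgi22 ygi15 zgi61) (kgi xgi29 ygi36 zgi52) (kgi xgi13 ygi34 zgi46) (kgi xgi14 ygi16 zgi3) (kgi xgi30 ygi30 zgi38) (kgi xgi13 ygi21 zgi38) (kgi xgi23 ygi45 zgi36) (kgi xgi22 ygi14 zgi3) (kgi xgi13 ygi27 zgi24) (kgi xgi22 ygi36 zgi7) (kgi xgi30 ygi30 zgi43)) (@D3.rec (fun _ => Pt) (kgi xgi13 ygi12 zgi61) (kgi xgi22 ygi13 zgi52) (kgi xgi30 ygi23 zgi45) (kgi xgi22 ygi58 zgi21) (kgi xgi13 ygi13 zgi3) (kgi xgi22 ygi27 zgi58) (kgi xgi13 ygi53 zgi19) (kgi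 xgi21 ygi45 zgi21) (kgi xgi14 ygi53 zgi55) (kgi xgi15 ygi46 zgi2) (kgi xgi14 ygi56 zgi25) (kgi xgi13 ygi13 zgi7) (kgi xgi23 ygi35 zgi28) (kgi xgi13 ygi13 zgi9) (kgi xgi24 ygi34 zgi46) (kgi xgi24 ygi42 zgi34) (kgi xgi28 ygi35 zgi11) (kgi xgi30 ygi30 zgi51) (kgi xgi14 ygi17 zgi3) (kgi xgi24 ygi0 zgi54) (kgi xgi29 ygi44 zgi4) (kgi xgi14 ygi14 zgi53) (kgi xgi22 ygi56 zgi46) (kgi xgi29 ygi44 zgi6) (kgi xgi30 ygi30 zgi59) (kgi xgi13 ygi13 zgi15) (kgi xgi29 ygi44 zgi9) (kgi xgi30 ygi31 zgi2) (kgi xgi30 ygi31 zgi5) (kgi xgi13 ygi13 zgi16) (kgi xgi30 ygi30 zgi52) (kgi xgi22 ygi47 zgi7) (kgi xgi24 ygi30 zgi24) (kgi xgi13 ygi13 zgi18) (kgi xgi30 ygi31 zgi14) (kgi xgi13 ygi13 zgi19) (kgi xgi30 ygi25 zgi60) (kgi xgi30 ygi26 zgi0) (kgi xgi23 ygi2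 zgi18) (kgi xgi24 ygi5 zgi52) (kgi xgi30 ygi24 zgi4) (kgi xgi30 ygi31 zgi23) (kgi xgi20 ygi23 zgi47) (kgi xgi13 ygi13 zgi23) (kgi xgi23 ygi2 zgi20) (kgi xgi26 ygi24 zgi35) (kgi xgi16 ygi33 zgi24) (kgi xgi14 ygi22 zgi48) (kgi xgi14 ygi46 zgi13) (kgi xgi14 ygi12 zgi57) (kgi xgi14 ygi12 zgi58) (kgi xgi29 ygi48 zgi18) (kgi xgi13 ygi13 zgi29) (kgi xgi21 ygi25 zgi11) (kgi xgi13 ygi13 zgi30) (kgi xgi18 ygi7 zgi53) (kgi xgi25 ygi27 zgi10) (kgi xgi17 ygi40 zgi61) (kgi xgi22 ygi27 zgi4) (kgi xgi14 ygi21 zgi26) (kgi xgi14 ygi6 zgi2) (kgi xgi23 ygi14 zgi12)) (@D3.rec (fun _ => Pt) (kgi xgi30 ygi31 zgi37) (kgi xgi13 ygi13 zgi36) (kgi xgi22 ygi45 zgi52) (kgi xgi22 ygi45 zgi50) (kgi xgi13 ygi34 zgi56) (kgi xgi22 ygi24 zgi45) (kgi xgi14 ygi9 zgi17)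 (kgi xgi30 ygi31 zgi43) (kgi xgi13 ygi13 zgi41) (kgi xgi14 ygi9 zgi29) (kgi xgi14 ygi9 zgi27) (kgi xgi22 ygi58 zgi18) (kgi xgi14 ygi7 zgi20) (kgi xgi18 ygi42 zgi37) (kgi xgi13 ygi13 zgi46) (kgi xgi14 ygi9 zgi23) (kgi xgi14 ygi9 zgi21) (kgi xgi14 ygi55 zgi40) (kgi xgi13 ygi55 zgi13) (kgi xgi23 ygi19 zgi32) (kgi xgi24 ygi58 zgi55) (kgi xgi26 ygi7 zgi22) (kgi xgi13 ygi13 zgi50) (kgi xgi24 ygi43 zgi50) (kgi xgi13 ygi59 zgi4) (kgi xgi13 ygi13 zgi51) (kgi xgi18 ygi26 zgi33) (kgi xgi22 ygi46 zgi4) (kgi xgi14 ygi45 zgi11) (kgi xgi13 ygi13 zgi52) (kgi xgi21 ygi25 zgi0) (kgi xgi21 ygi33 zgi59) (kgi xgi23 ygi35 zgi39) (kgi xgi30 ygi31 zgi48) (kgi xgi30 ygi31 zgi47) (kgi xgi13 ygi27 zgi53) (kgi xgi24 ygi56 zgi41) (kgi xgi22 ygi29 zgi0) (kgi xgi27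 ygi20 zgi11) (kgi xgi22 ygi28 zgi35) (kgi xgi13 ygi13 zgi61) (kgi xgi13 ygi41 zgi20) (kgi xgi13 ygi14 zgi1) (kgi xgi22 ygi19 zgi0) (kgi xgi13 ygi14 zgi6) (kgi xgi13 ygi41 zgi38) (kgi xgi13 ygi41 zgi30) (kgi xgi13 ygi41 zgi33) (kgi xgi29 ygi41 zgi1) (kgi xgi18 ygi59 zgi57) (kgi xgi18 ygi16 zgi4) (kgi xgi18 ygi57 zgi8) (kgi xgi22 ygi29 zgi19) (kgi xgi28 ygi25 zgi48) (kgi xgi29 ygi51 zgi59) (kgi xgi16 ygi46 zgi26) (kgi xgi13 ygi14 zgi11) (kgi xgi22 ygi29 zgi28) (kgi xgi22 ygi29 zgi26) (kgi xgi18 ygi7 zgi37) (kgi xgi18 ygi57 zgi14) (kgi xgi25 ygi12 zgi28)) (@D3.rec (fun _ => Pt) (kgi xgi22 ygi29 zgi3) (kgi xgi13 ygi38 zgi20) (kgi xgi21 ygi13 zgi43) (kgi xgi13 ygi14 zgi20) (kgi xgi13 ygi40 zgi38) (kgi xgi23 ygi3 zgi20) (kgi xgi22 ygi3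 zgi5) (kgi xgi13 ygi52 zgi7) (kgi xgi13 ygi30 zgi50) (kgi xgi22 ygi49 zgi33) (kgi xgi13 ygi30 zgi41) (kgi xgi13 ygi29 zgi46) (kgi xgi26 ygi13 zgi24) (kgi xgi30 ygi31 zgi57) (kgi xgi16 ygi20 zgi24) (kgi xgi13 ygi14 zgi30) (kgi xgi13 ygi14 zgi46) (kgi xgi13 ygi14 zgi43) (kgi xgi14 ygi33 zgi44) (kgi xgi13 ygi14 zgi37) (kgi xgi13 ygi14 zgi48) (kgi xgi22 ygi28 zgi52) (kgi xgi22 ygi49 zgi39) (kgi xgi22 ygi28 zgi44) (kgi xgi30 ygi31 zgi61) (kgi xgi28 ygi27 zgi31) (kgi xgi13 ygi14 zgi36) (kgi xgi22 ygi28 zgi58) (kgi xgi22 ygi28 zgi56) (kgi xgi13 ygi30 zgi51) (kgi xgi22 ygi49 zgi36) (kgi xgi29 ygi54 zgi24) (kgi xgi22 ygi28 zgi51) (kgi xgi19 ygi22 zgi47) (kgi xgi13 ygi14 zgi42) (kgi xgi21 ygi30 zgi53) (kgi xgi22 ygi34 zgi14) (kgi xgi27 ygi57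 zgi43) (kgi xgi27 ygi55 zgi41) (kgi xgi13 ygi14 zgi45) (kgi xgi23 ygi15 zgi60) (kgi xgi23 ygi14 zgi26) (kgi xgi23 ygi15 zgi58) (kgi xgi13 ygi14 zgi47) (kgi xgi13 ygi19 zgi12) (kgi xgi30 ygi13 zgi43) (kgi xgi14 ygi10 zgi57) (kgi xgi22 ygi50 zgi33) (kgi xgi13 ygi23 zgi8) (kgi xgi22 ygi13 zgi22) (kgi xgi13 ygi14 zgi54) (kgi xgi30 ygi32 zgi17) (kgi xgi22 ygi12 zgi31) (kgi xgi30 ygi32 zgi20) (kgi xgi22 ygi41 zgi38) (kgi xgi14 ygi29 zgi40) (kgi xgi22 ygi41 zgi36) (kgi xgi24 ygi13 zgi38) (kgi xgi19 ygi12 zgi29) (kgi xgi30 ygi32 zgi27) (kgi xgi22 ygi14 zgi12) (kgi xgi22 ygi50 zgi22)) (@D3.rec (fun _ => Pt) (kgi xgi24 ygi27 zgi50) (kgi xgi14 ygi25 zgi30) (kgi xgi24 ygi7 zgi43) (kgi xgi30 ygi31 zgi58) (kgi xgi22 ygi30 zgi28) (kgi xgi14 ygi45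 zgi5) (kgi xgi22 ygi30 zgi35) (kgi xgi13 ygi16 zgi8) (kgi xgi29 ygi51 zgi36) (kgi xgi28 ygi10 zgi58) (kgi xgi13 ygi15 zgi49) (kgi xgi13 ygi15 zgi47) (kgi xgi14 ygi29 zgi29) (kgi xgi13 ygi26 zgi25) (kgi xgi14 ygi9 zgi6) (kgi xgi14 ygi11 zgi24) (kgi xgi14 ygi11 zgi22) (kgi xgi17 ygi18 zgi28) (kgi xgi30 ygi32 zgi40) (kgi xgi22 ygi46 zgi56) (kgi xgi14 ygi15 zgi41) (kgi xgi13 ygi15 zgi23) (kgi xgi22 ygi31 zgi46) (kgi xgi13 ygi47 zgi55) (kgi xgi28 ygi0 zgi49) (kgi xgi22 ygi31 zgi43) (kgi xgi13 ygi38 zgi50) (kgi xgi16 ygi12 zgi6) (kgi xgi22 ygi30 zgi6) (kgi xgi13 ygi51 zgi49) (kgi xgi22 ygi15 zgi46) (kgi xgi14 ygi0 zgi29) (kgi xgi13 ygi15 zgi34) (kgi xgi24 ygi59 zgi56) (kgi xgi23 ygi6 zgi32) (kgi xgi22 ygi30 zgi4) (kgi xgi23 ygi19 zgi28)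 (kgi xgi13 ygi48 zgi12) (kgi xgi13 ygi48 zgi15) (kgi xgi18 ygi23 zgi5) (kgi xgi27 ygi42 zgi11) (kgi xgi23 ygi46 zgi18) (kgi xgi27 ygi44 zgi41) (kgi xgi13 ygi15 zgi43) (kgi xgi30 ygi32 zgi48) (kgi xgi27 ygi42 zgi10) (kgi xgi16 ygi25 zgi42) (kgi xgi14 ygi56 zgi55) (kgi xgi13 ygi15 zgi46) (kgi xgi20 ygi33 zgi25) (kgi xgi30 ygi32 zgi54) (kgi xgi23 ygi52 zgi29) (kgi xgi16 ygi26 zgi38) (kgi xgi27 ygi55 zgi51) (kgi xgi30 ygi32 zgi56) (kgi xgi23 ygi52 zgi32) (kgi xgi14 ygi44 zgi52) (kgi xgi13 ygi15 zgi50) (kgi xgi14 ygi44 zgi55) (kgi xgi13 ygi46 zgi30) (kgi xgi13 ygi17 zgi61) (kgi xgi14 ygi17 zgi28)) (@D3.rec (fun _ => Pt) (kgi xgi14 ygi17 zgi16) (kgi xgi13 ygi15 zgi54) (kgi xgi14 ygi17 zgi14) (kgi xgi23 ygi18 zgi61) (kgi xgi30 ygi33 zgi7)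 (kgi xgi13 ygi15 zgi55) (kgi xgi14 ygi17 zgi9) (kgi xgi27 ygi47 zgi29) (kgi xgi19 ygi16 zgi61) (kgi xgi25 ygi37 zgi60) (kgi xgi25 ygi37 zgi56) (kgi xgi21 ygi21 zgi35) (kgi xgi30 ygi33 zgi11) (kgi xgi21 ygi39 zgi1) (kgi xgi21 ygi25 zgi20) (kgi xgi21 ygi28 zgi7) (kgi xgi20 ygi6 zgi41) (kgi xgi18 ygi8 zgi28) (kgi xgi13 ygi26 zgi13) (kgi xgi30 ygi33 zgi15) (kgi xgi13 ygi16 zgi2) (kgi xgi21 ygi56 zgi55) (kgi xgi21 ygi56 zgi52) (kgi xgi13 ygi49 zgi30) (kgi xgi22 ygi34 zgi2) (kgi xgi30 ygi33 zgi21) (kgi xgi29 ygi51 zgi38) (kgi xgi30 ygi33 zgi20) (kgi xgi23 ygi21 zgi45) (kgi xgi25 ygi15 zgi59) (kgi xgi20 ygi33 zgi27) (kgi xgi23 ygi31 zgi61) (kgi xgi18 ygi56 zgi37) (kgi xgi13 ygi16 zgi13) (kgi xgi29 ygi10 zgi43) (kgi xgi30 ygi33 zgi35) (kgi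 xgi26 ygi3 zgi3) (kgi xgi13 ygi16 zgi14) (kgi xgi30 ygi33 zgi28) (kgi xgi30 ygi33 zgi27) (kgi xgi13 ygi46 zgi57) (kgi xgi28 ygi12 zgi18) (kgi xgi25 ygi3 zgi7) (kgi xgi13 ygi16 zgi16) (kgi xgi22 ygi30 zgi25) (kgi xgi21 ygi57 zgi3) (kgi xgi22 ygi30 zgi21) (kgi xgi23 ygi14 zgi5) (kgi xgi29 ygi14 zgi43) (kgi xgi13 ygi16 zgi19) (kgi xgi21 ygi56 zgi49) (kgi xgi21 ygi55 zgi57) (kgi xgi30 ygi18 zgi11) (kgi xgi13 ygi16 zgi20) (kgi xgi21 ygi56 zgi60) (kgi xgi30 ygi33 zgi44) (kgi xgi21 ygi56 zgi57) (kgi xgi30 ygi33 zgi46) (kgi xgi20 ygi33 zgi8) (kgi xgi24 ygi57 zgi44) (kgi xgi30 ygi33 zgi38) (kgi xgi14 ygi8 zgi49)) (@D3.rec (fun _ => Pt) (kgi xgi30 ygi33 zgi55) (kgi xgi22 ygi33 zgi26) (kgi xgi30 ygi23 zgi57) (kgi xgi13 ygi50 zgi60) (kgi xgi24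 ygi46 zgi13) (kgi xgi23 ygi23 zgi45) (kgi xgi22 ygi14 zgi21) (kgi xgi13 ygi21 zgi19) (kgi xgi20 ygi34 zgi8) (kgi xgi13 ygi16 zgi39) (kgi xgi16 ygi56 zgi6) (kgi xgi26 ygi2 zgi4) (kgi xgi22 ygi40 zgi29) (kgi xgi22 ygi40 zgi31) (kgi xgi13 ygi16 zgi41) (kgi xgi26 ygi58 zgi6) (kgi xgi27 ygi5 zgi17) (kgi xgi13 ygi18 zgi58) (kgi xgi24 ygi34 zgi31) (kgi xgi22 ygi46 zgi21) (kgi xgi19 ygi51 zgi7) (kgi xgi20 ygi31 zgi17) (kgi xgi13 ygi22 zgi13) (kgi xgi13 ygi21 zgi39) (kgi xgi19 ygi19 zgi1) (kgi xgi13 ygi16 zgi55) (kgi xgi13 ygi21 zgi35) (kgi xgi30 ygi5 zgi31) (kgi xgi13 ygi16 zgi56) (kgi xgi23 ygi11 zgi4) (kgi xgi13 ygi54 zgi16) (kgi xgi22 ygi40 zgi48) (kgi xgi13 ygi16 zgi58) (kgi xgi13 ygi21 zgi31) (kgi xgi13 ygi21 zgi28) (kgi xgi13 ygi57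 zgi54) (kgi xgi13 ygi21 zgi11) (kgi xgi13 ygi16 zgi61) (kgi xgi13 ygi21 zgi7) (kgi xgi29 ygi9 zgi11) (kgi xgi13 ygi54 zgi3) (kgi xgi13 ygi17 zgi1) (kgi xgi13 ygi21 zgi48) (kgi xgi24 ygi28 zgi12) (kgi xgi13 ygi17 zgi4) (kgi xgi13 ygi21 zgi61) (kgi xgi13 ygi21 zgi58) (kgi xgi28 ygi18 zgi13) (kgi xgi13 ygi17 zgi6) (kgi xgi13 ygi20 zgi57) (kgi xgi14 ygi15 zgi45) (kgi xgi13 ygi56 zgi13) (kgi xgi13 ygi17 zgi10) (kgi xgi14 ygi25 zgi57) (kgi xgi27 ygi5 zgi20) (kgi xgi13 ygi17 zgi12) (kgi xgi13 ygi23 zgi3) (kgi xgi30 ygi34 zgi13) (kgi xgi13 ygi23 zgi0) (kgi xgi24 ygi5 zgi45) (kgi xgi13 ygi23 zgi37) (kgi xgi13 ygi30 zgi26)) (@D3.rec (fun _ => Pt) (kgi xgi24 ygi23 zgi3) (kgi xgi24 ygi29 zgi13) (kgi xgi23 ygi40 zgi38) (kgi xgi13 ygi17 zgi18)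 (kgi xgi13 ygi23 zgi34) (kgi xgi24 ygi23 zgi21) (kgi xgi13 ygi18 zgi51) (kgi xgi14 ygi16 zgi49) (kgi xgi13 ygi17 zgi23) (kgi xgi13 ygi17 zgi27) (kgi xgi24 ygi0 zgi61) (kgi xgi13 ygi17 zgi24) (kgi xgi22 ygi50 zgi37) (kgi xgi13 ygi23 zgi9) (kgi xgi30 ygi31 zgi29) (kgi xgi14 ygi14 zgi36) (kgi xgi13 ygi17 zgi26) (kgi xgi30 ygi34 zgi20) (kgi xgi22 ygi24 zgi10) (kgi xgi30 ygi34 zgi19) (kgi xgi30 ygi34 zgi31) (kgi xgi13 ygi35 zgi33) (kgi xgi27 ygi8 zgi50) (kgi xgi14 ygi17 zgi4) (kgi xgi30 ygi33 zgi0) (kgi xgi15 ygi34 zgi20) (kgi xgi23 ygi55 zgi15) (kgi xgi25 ygi43 zgi22) (kgi xgi27 ygi10 zgi45) (kgi xgi29 ygi9 zgi2) (kgi xgi30 ygi7 zgi34) (kgi xgi21 ygi49 zgi45) (kgi xgi13 ygi17 zgi44) (kgi xgi14 ygi13 zgi59) (kgi xgi29 ygi25 zgi54) (kgi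 xgi21 ygi52 zgi43) (kgi xgi24 ygi8 zgi9) (kgi xgi27 ygi22 zgi40) (kgi xgi18 ygi23 zgi14) (kgi xgi14 ygi23 zgi35) (kgi xgi30 ygi34 zgi43) (kgi xgi27 ygi22 zgi38) (kgi xgi23 ygi0 zgi24) (kgi xgi14 ygi17 zgi23) (kgi xgi30 ygi34 zgi49) (kgi xgi28 ygi37 zgi20) (kgi xgi24 ygi27 zgi13) (kgi xgi13 ygi17 zgi60) (kgi xgi14 ygi17 zgi22) (kgi xgi13 ygi45 zgi27) (kgi xgi14 ygi12 zgi24) (kgi xgi22 ygi36 zgi39) (kgi xgi25 ygi55 zgi29) (kgi xgi14 ygi17 zgi25) (kgi xgi13 ygi49 zgi47) (kgi xgi30 ygi34 zgi57) (kgi xgi29 ygi19 zgi61) (kgi xgi13 ygi18 zgi2) (kgi xgi14 ygi17 zgi34) (kgi xgi14 ygi17 zgi31) (kgi xgi23 ygi17 zgi45) (kgi xgi13 ygi33 zgi38)) (@D3.rec (fun _ => Pt) (kgi xgi22 ygi31 zgi30) (kgi xgi23 ygi3 zgi38) (kgi xgi13 ygi18 zgi7) (kgi xgi22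 ygi31 zgi24) (kgi xgi14 ygi45 zgi0) (kgi xgi13 ygi47 zgi41) (kgi xgi30 ygi35 zgi2) (kgi xgi13 ygi18 zgi10) (kgi xgi13 ygi24 zgi16) (kgi xgi30 ygi30 zgi37) (kgi xgi13 ygi18 zgi23) (kgi xgi14 ygi16 zgi6) (kgi xgi30 ygi21 zgi53) (kgi xgi13 ygi18 zgi29) (kgi xgi20 ygi21 zgi49) (kgi xgi20 ygi46 zgi55) (kgi xgi26 ygi19 zgi39) (kgi xgi22 ygi18 zgi35) (kgi xgi19 ygi1 zgi17) (kgi xgi30 ygi35 zgi12) (kgi xgi29 ygi7 zgi59) (kgi xgi27 ygi11 zgi16) (kgi xgi22 ygi15 zgi52) (kgi xgi29 ygi14 zgi39) (kgi xgi18 ygi47 zgi45) (kgi xgi13 ygi18 zgi28) (kgi xgi25 ygi16 zgi16) (kgi xgi23 ygi58 zgi0) (kgi xgi27 ygi11 zgi12) (kgi xgi13 ygi18 zgi33) (kgi xgi24 ygi18 zgi17) (kgi xgi20 ygi0 zgi9) (kgi xgi17 ygi30 zgi30) (kgi xgi19 ygi23 zgi8) (kgi xgi26 ygi16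 zgi4) (kgi xgi27 ygi54 zgi0) (kgi xgi18 ygi48 zgi11) (kgi xgi26 ygi13 zgi36) (kgi xgi27 ygi47 zgi13) (kgi xgi27 ygi53 zgi45) (kgi xgi28 ygi36 zgi28) (kgi xgi15 ygi9 zgi45) (kgi xgi23 ygi52 zgi14) (kgi xgi13 ygi18 zgi41) (kgi xgi14 ygi14 zgi47) (kgi xgi14 ygi14 zgi45) (kgi xgi14 ygi15 zgi0) (kgi xgi14 ygi14 zgi37) (kgi xgi14 ygi12 zgi37) (kgi xgi13 ygi18 zgi44) (kgi xgi14 ygi14 zgi35) (kgi xgi22 ygi15 zgi0) (kgi xgi30 ygi35 zgi29) (kgi xgi13 ygi18 zgi45) (kgi xgi28 ygi18 zgi44) (kgi xgi30 ygi35 zgi32) (kgi xgi23 ygi34 zgi21) (kgi xgi13 ygi18 zgi47) (kgi xgi14 ygi14 zgi60) (kgi xgi14 ygi14 zgi57) (kgi xgi30 ygi35 zgi36) (kgi xgi18 ygi48 zgi20)) (@D3.rec (fun _ => Pt) (kgi xgi27 ygi45 zgi34) (kgi xgi30 ygi35 zgi41) (kgi xgi13 ygi18 zgi50)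 (kgi xgi14 ygi15 zgi9) (kgi xgi30 ygi35 zgi45) (kgi xgi14 ygi15 zgi6) (kgi xgi14 ygi14 zgi34) (kgi xgi22 ygi15 zgi31) (kgi xgi30 ygi35 zgi51) (kgi xgi26 ygi12 zgi51) (kgi xgi19 ygi15 zgi33) (kgi xgi30 ygi23 zgi25) (kgi xgi18 ygi28 zgi6) (kgi xgi27 ygi56 zgi4) (kgi xgi23 ygi52 zgi3) (kgi xgi30 ygi25 zgi36) (kgi xgi22 ygi15 zgi38) (kgi xgi27 ygi49 zgi10) (kgi xgi13 ygi18 zgi60) (kgi xgi14 ygi1 zgi32) (kgi xgi14 ygi1 zgi29) (kgi xgi23 ygi40 zgi55) (kgi xgi23 ygi41 zgi14) (kgi xgi22 ygi15 zgi57) (kgi xgi22 ygi41 zgi39) (kgi xgi13 ygi19 zgi2) (kgi xgi30 ygi35 zgi58) (kgi xgi13 ygi22 zgi26) (kgi xgi23 ygi58 zgi21) (kgi xgi29 ygi55 zgi1) (kgi xgi13 ygi19 zgi6) (kgi xgi29 ygi55 zgi11) (kgi xgi17 ygi11 zgi52) (kgi xgi23 ygi11 zgi44) (kgi xgi22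 ygi38 zgi42) (kgi xgi30 ygi36 zgi4) (kgi xgi22 ygi32 zgi40) (kgi xgi23 ygi20 zgi0) (kgi xgi30 ygi11 zgi54) (kgi xgi21 ygi53 zgi24) (kgi xgi14 ygi36 zgi22) (kgi xgi13 ygi19 zgi15) (kgi xgi21 ygi53 zgi23) (kgi xgi19 ygi9 zgi55) (kgi xgi19 ygi7 zgi16) (kgi xgi23 ygi43 zgi48) (kgi xgi30 ygi36 zgi9) (kgi xgi23 ygi5 zgi59) (kgi xgi22 ygi49 zgi2) (kgi xgi30 ygi36 zgi8) (kgi xgi30 ygi36 zgi13) (kgi xgi14 ygi10 zgi59) (kgi xgi30 ygi36 zgi15) (kgi xgi23 ygi0 zgi12) (kgi xgi23 ygi0 zgi1) (kgi xgi27 ygi10 zgi7) (kgi xgi30 ygi26 zgi36) (kgi xgi23 ygi11 zgi39) (kgi xgi19 ygi22 zgi8) (kgi xgi13 ygi19 zgi28) (kgi xgi13 ygi45 zgi33) (kgi xgi22 ygi57 zgi28)) (@D3.rec (fun _ => Pt) (kgi xgi30 ygi11 zgi0) (kgi xgi14 ygi29 zgi56) (kgi xgi30 ygi36 zgi26)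 (kgi xgi23 ygi0 zgi11) (kgi xgi30 ygi32 zgi19) (kgi xgi13 ygi19 zgi44) (kgi xgi22 ygi59 zgi18) (kgi xgi30 ygi30 zgi16) (kgi xgi22 ygi59 zgi5) (kgi xgi13 ygi19 zgi39) (kgi xgi28 ygi28 zgi3) (kgi xgi30 ygi36 zgi32) (kgi xgi23 ygi34 zgi0) (kgi xgi20 ygi38 zgi9) (kgi xgi23 ygi14 zgi39) (kgi xgi28 ygi9 zgi56) (kgi xgi26 ygi16 zgi13) (kgi xgi13 ygi19 zgi51) (kgi xgi13 ygi19 zgi54) (kgi xgi28 ygi56 zgi17) (kgi xgi25 ygi18 zgi31) (kgi xgi14 ygi35 zgi16) (kgi xgi13 ygi19 zgi59) (kgi xgi23 ygi52 zgi19) (kgi xgi28 ygi20 zgi14) (kgi xgi18 ygi7 zgi43) (kgi xgi18 ygi6 zgi37) (kgi xgi27 ygi48 zgi2) (kgi xgi13 ygi20 zgi16) (kgi xgi13 ygi20 zgi17) (kgi xgi22 ygi22 zgi39) (kgi xgi13 ygi47 zgi5) (kgi xgi13 ygi49 zgi54) (kgi xgi14 ygi28 zgi27) (kgi xgi14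 ygi17 zgi35) (kgi xgi22 ygi59 zgi29) (kgi xgi22 ygi13 zgi16) (kgi xgi13 ygi20 zgi8) (kgi xgi18 ygi54 zgi47) (kgi xgi23 ygi55 zgi0) (kgi xgi30 ygi36 zgi47) (kgi xgi17 ygi11 zgi37) (kgi xgi22 ygi42 zgi29) (kgi xgi21 ygi51 zgi39) (kgi xgi22 ygi42 zgi27) (kgi xgi13 ygi20 zgi28) (kgi xgi21 ygi51 zgi38) (kgi xgi22 ygi25 zgi1) (kgi xgi13 ygi20 zgi18) (kgi xgi25 ygi51 zgi50) (kgi xgi30 ygi36 zgi50) (kgi xgi27 ygi12 zgi29) (kgi xgi13 ygi20 zgi27) (kgi xgi22 ygi14 zgi35) (kgi xgi13 ygi20 zgi25) (kgi xgi25 ygi51 zgi52) (kgi xgi17 ygi19 zgi57) (kgi xgi18 ygi44 zgi45) (kgi xgi18 ygi45 zgi46) (kgi xgi13 ygi20 zgi33) (kgi xgi24 ygi16 zgi38) (kgi xgi24 ygi16 zgi37)) (@D3.rec (fun _ => Pt) (kgi xgi13 ygi20 zgi35) (kgi xgi24 ygi36 zgi36) (kgi xgi21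 ygi59 zgi24) (kgi xgi29 ygi30 zgi56) (kgi xgi26 ygi55 zgi5) (kgi xgi21 ygi45 zgi58) (kgi xgi21 ygi41 zgi46) (kgi xgi13 ygi20 zgi43) (kgi xgi16 ygi54 zgi27) (kgi xgi14 ygi38 zgi51) (kgi xgi13 ygi20 zgi46) (kgi xgi24 ygi18 zgi33) (kgi xgi14 ygi16 zgi42) (kgi xgi21 ygi47 zgi46) (kgi xgi13 ygi20 zgi48) (kgi xgi30 ygi36 zgi52) (kgi xgi23 ygi0 zgi16) (kgi xgi13 ygi20 zgi53) (kgi xgi23 ygi27 zgi27) (kgi xgi17 ygi23 zgi49) (kgi xgi20 ygi47 zgi30) (kgi xgi20 ygi47 zgi31) (kgi xgi23 ygi29 zgi0) (kgi xgi14 ygi40 zgi14) (kgi xgi30 ygi32 zgi26) (kgi xgi24 ygi2 zgi8) (kgi xgi24 ygi19 zgi52) (kgi xgi24 ygi10 zgi32) (kgi xgi30 ygi36 zgi58) (kgi xgi30 ygi22 zgi38) (kgi xgi24 ygi54 zgi39) (kgi xgi22 ygi50 zgi34) (kgi xgi23 ygi47 zgi3) (kgi xgi14 ygi23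 zgi41) (kgi xgi30 ygi37 zgi1) (kgi xgi23 ygi48 zgi32) (kgi xgi14 ygi39 zgi42) (kgi xgi13 ygi21 zgi4) (kgi xgi24 ygi11 zgi6) (kgi xgi13 ygi22 zgi15) (kgi xgi23 ygi4 zgi1) (kgi xgi30 ygi36 zgi1) (kgi xgi25 ygi52 zgi7) (kgi xgi30 ygi34 zgi4) (kgi xgi13 ygi26 zgi50) (kgi xgi13 ygi21 zgi18) (kgi xgi14 ygi28 zgi50) (kgi xgi13 ygi21 zgi15) (kgi xgi23 ygi27 zgi0) (kgi xgi30 ygi37 zgi8) (kgi xgi30 ygi37 zgi11) (kgi xgi14 ygi10 zgi7) (kgi xgi22 ygi41 zgi9) (kgi xgi27 ygi12 zgi18) (kgi xgi13 ygi21 zgi13) (kgi xgi30 ygi34 zgi3) (kgi xgi20 ygi32 zgi4) (kgi xgi13 ygi26 zgi56) (kgi xgi30 ygi33 zgi59) (kgi xgi23 ygi44 zgi11) (kgi xgi22 ygi22 zgi19) (kgi xgi14 ygi28 zgi48)) (@D3.rec (fun _ => Pt) (kgi xgi21 ygi53 zgi2) (kgi xgi29 ygi54 zgi37) (kgi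 xgi14 ygi40 zgi6) (kgi xgi28 ygi17 zgi41) (kgi xgi13 ygi21 zgi21) (kgi xgi24 ygi28 zgi0) (kgi xgi24 ygi27 zgi60) (kgi xgi17 ygi56 zgi17) (kgi xgi30 ygi2 zgi44) (kgi xgi29 ygi25 zgi61) (kgi xgi13 ygi54 zgi6) (kgi xgi23 ygi3 zgi24) (kgi xgi13 ygi21 zgi27) (kgi xgi17 ygi56 zgi2) (kgi xgi30 ygi37 zgi23) (kgi xgi15 ygi45 zgi55) (kgi xgi30 ygi5 zgi36) (kgi xgi13 ygi22 zgi61) (kgi xgi22 ygi58 zgi53) (kgi xgi30 ygi34 zgi9) (kgi xgi30 ygi37 zgi21) (kgi xgi13 ygi21 zgi30) (kgi xgi14 ygi41 zgi0) (kgi xgi30 ygi37 zgi28) (kgi xgi14 ygi40 zgi60) (kgi xgi29 ygi19 zgi35) (kgi xgi22 ygi14 zgi5) (kgi xgi20 ygi6 zgi34) (kgi xgi20 ygi19 zgi13) (kgi xgi14 ygi18 zgi39) (kgi xgi14 ygi13 zgi17) (kgi xgi30 ygi37 zgi30) (kgi xgi28 ygi36 zgi7) (kgi xgi18 ygi50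 zgi17) (kgi xgi13 ygi21 zgi41) (kgi xgi30 ygi33 zgi60) (kgi xgi27 ygi40 zgi28) (kgi xgi21 ygi30 zgi36) (kgi xgi21 ygi52 zgi3) (kgi xgi23 ygi11 zgi3) (kgi xgi24 ygi1 zgi39) (kgi xgi17 ygi56 zgi13) (kgi xgi13 ygi21 zgi47) (kgi xgi21 ygi8 zgi42) (kgi xgi22 ygi35 zgi36) (kgi xgi13 ygi23 zgi30) (kgi xgi23 ygi11 zgi29) (kgi xgi13 ygi21 zgi50) (kgi xgi23 ygi10 zgi61) (kgi xgi23 ygi10 zgi59) (kgi xgi16 ygi28 zgi11) (kgi xgi15 ygi50 zgi59) (kgi xgi13 ygi21 zgi54) (kgi xgi16 ygi32 zgi3) (kgi xgi26 ygi25 zgi38) (kgi xgi21 ygi55 zgi1) (kgi xgi13 ygi21 zgi55) (kgi xgi18 ygi45 zgi40) (kgi xgi22 ygi46 zgi32) (kgi xgi13 ygi21 zgi57) (kgi xgi25 ygi39 zgi51) (kgi xgi24 ygi28 zgi10)) (@D3.rec (fun _ => Pt) (kgi xgi29 ygi29 zgi11) (kgi xgi13 ygi22 zgi5)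 (kgi xgi26 ygi2 zgi55) (kgi xgi23 ygi0 zgi45) (kgi xgi29 ygi48 zgi1) (kgi xgi14 ygi35 zgi12) (kgi xgi29 ygi19 zgi36) (kgi xgi19 ygi50 zgi21) (kgi xgi15 ygi46 zgi15) (kgi xgi22 ygi31 zgi55) (kgi xgi30 ygi2 zgi41) (kgi xgi23 ygi28 zgi61) (kgi xgi14 ygi21 zgi41) (kgi xgi13 ygi22 zgi11) (kgi xgi14 ygi37 zgi48) (kgi xgi14 ygi40 zgi16) (kgi xgi14 ygi39 zgi54) (kgi xgi24 ygi22 zgi3) (kgi xgi30 ygi37 zgi42) (kgi xgi20 ygi47 zgi33) (kgi xgi30 ygi37 zgi41) (kgi xgi24 ygi22 zgi41) (kgi xgi24 ygi11 zgi7) (kgi xgi30 ygi37 zgi52) (kgi xgi30 ygi37 zgi54) (kgi xgi13 ygi22 zgi17) (kgi xgi24 ygi23 zgi28) (kgi xgi30 ygi37 zgi59) (kgi xgi20 ygi42 zgi45) (kgi xgi13 ygi23 zgi47) (kgi xgi30 ygi38 zgi0) (kgi xgi13 ygi22 zgi24) (kgi xgi13 ygi22 zgi21) (kgi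 xgi14 ygi39 zgi46) (kgi xgi14 ygi39 zgi43) (kgi xgi13 ygi22 zgi22) (kgi xgi29 ygi24 zgi42) (kgi xgi27 ygi13 zgi30) (kgi xgi30 ygi38 zgi7) (kgi xgi29 ygi36 zgi29) (kgi xgi30 ygi38 zgi10) (kgi xgi13 ygi22 zgi25) (kgi xgi30 ygi32 zgi25) (kgi xgi30 ygi32 zgi24) (kgi xgi23 ygi52 zgi44) (kgi xgi22 ygi58 zgi13) (kgi xgi30 ygi38 zgi18) (kgi xgi30 ygi38 zgi19) (kgi xgi13 ygi22 zgi28) (kgi xgi22 ygi59 zgi27) (kgi xgi22 ygi59 zgi24) (kgi xgi26 ygi49 zgi24) (kgi xgi30 ygi38 zgi24) (kgi xgi30 ygi38 zgi26) (kgi xgi30 ygi38 zgi29) (kgi xgi24 ygi24 zgi56) (kgi xgi24 ygi24 zgi54) (kgi xgi18 ygi44 zgi55) (kgi xgi30 ygi38 zgi17) (kgi xgi28 ygi33 zgi0) (kgi xgi28 ygi47 zgi30) (kgi xgi13 ygi22 zgi34)) (@D3.rec (fun _ => Pt) (kgi xgi30 ygi37 zgi55) (kgi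 xgi28 ygi44 zgi4) (kgi xgi22 ygi36 zgi23) (kgi xgi15 ygi50 zgi58) (kgi xgi14 ygi6 zgi55) (kgi xgi14 ygi41 zgi25) (kgi xgi13 ygi22 zgi37) (kgi xgi22 ygi13 zgi33) (kgi xgi27 ygi13 zgi42) (kgi xgi30 ygi38 zgi46) (kgi xgi13 ygi22 zgi38) (kgi xgi30 ygi28 zgi51) (kgi xgi28 ygi16 zgi25) (kgi xgi13 ygi22 zgi40) (kgi xgi22 ygi13 zgi31) (kgi xgi22 ygi13 zgi29) (kgi xgi21 ygi39 zgi12) (kgi xgi21 ygi51 zgi41) (kgi xgi14 ygi12 zgi40) (kgi xgi13 ygi22 zgi46) (kgi xgi14 ygi12 zgi28) (kgi xgi21 ygi9 zgi43) (kgi xgi26 ygi6 zgi9) (kgi xgi20 ygi24 zgi32) (kgi xgi14 ygi29 zgi8) (kgi xgi13 ygi22 zgi48) (kgi xgi24 ygi26 zgi55) (kgi xgi13 ygi24 zgi17) (kgi xgi18 ygi46 zgi55) (kgi xgi21 ygi51 zgi42) (kgi xgi29 ygi24 zgi45) (kgi xgi30 ygi25 zgi13) (kgi xgi14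 ygi12 zgi36) (kgi xgi21 ygi20 zgi42) (kgi xgi29 ygi19 zgi55) (kgi xgi20 ygi24 zgi12) (kgi xgi30 ygi38 zgi55) (kgi xgi13 ygi22 zgi58) (kgi xgi24 ygi28 zgi4) (kgi xgi13 ygi22 zgi60) (kgi xgi30 ygi34 zgi15) (kgi xgi24 ygi29 zgi11) (kgi xgi24 ygi22 zgi6) (kgi xgi30 ygi38 zgi58) (kgi xgi26 ygi3 zgi49) (kgi xgi22 ygi56 zgi59) (kgi xgi30 ygi39 zgi1) (kgi xgi16 ygi55 zgi42) (kgi xgi22 ygi38 zgi15) (kgi xgi21 ygi52 zgi53) (kgi xgi19 ygi52 zgi32) (kgi xgi13 ygi23 zgi2) (kgi xgi24 ygi25 zgi34) (kgi xgi29 ygi40 zgi7) (kgi xgi28 ygi51 zgi5) (kgi xgi23 ygi43 zgi50) (kgi xgi30 ygi39 zgi7) (kgi xgi29 ygi21 zgi17) (kgi xgi13 ygi39 zgi11) (kgi xgi24 ygi9 zgi61) (kgi xgi13 ygi49 zgi49) (kgi xgi14 ygi17 zgi15)) (@D3.rec (fun _ => Pt) (kgi xgi14 ygi17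 zgi20) (kgi xgi13 ygi33 zgi27) (kgi xgi22 ygi23 zgi8) (kgi xgi14 ygi18 zgi8) (kgi xgi13 ygi23 zgi14) (kgi xgi30 ygi34 zgi14) (kgi xgi24 ygi29 zgi23) (kgi xgi24 ygi23 zgi1) (kgi xgi13 ygi24 zgi32) (kgi xgi20 ygi1 zgi0) (kgi xgi13 ygi23 zgi20) (kgi xgi14 ygi28 zgi19) (kgi xgi13 ygi23 zgi22) (kgi xgi23 ygi18 zgi37) (kgi xgi24 ygi28 zgi16) (kgi xgi29 ygi54 zgi27) (kgi xgi22 ygi16 zgi60) (kgi xgi13 ygi47 zgi57) (kgi xgi21 ygi31 zgi61) (kgi xgi30 ygi3 zgi23) (kgi xgi29 ygi20 zgi13) (kgi xgi13 ygi47 zgi8) (kgi xgi23 ygi20 zgi23) (kgi xgi14 ygi21 zgi52) (kgi xgi19 ygi24 zgi3) (kgi xgi30 ygi39 zgi18) (kgi xgi13 ygi23 zgi41) (kgi xgi30 ygi34 zgi16) (kgi xgi24 ygi23 zgi19) (kgi xgi13 ygi23 zgi42) (kgi xgi14 ygi28 zgi16) (kgi xgi13 ygi23 zgi44)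 (kgi xgi14 ygi13 zgi21) (kgi xgi30 ygi38 zgi42) (kgi xgi30 ygi39 zgi24) (kgi xgi30 ygi34 zgi17) (kgi xgi22 ygi29 zgi54) (kgi xgi28 ygi52 zgi9) (kgi xgi22 ygi29 zgi56) (kgi xgi22 ygi29 zgi55) (kgi xgi13 ygi23 zgi48) (kgi xgi24 ygi10 zgi51) (kgi xgi30 ygi23 zgi36) (kgi xgi23 ygi3 zgi18) (kgi xgi22 ygi49 zgi40) (kgi xgi13 ygi29 zgi17) (kgi xgi30 ygi39 zgi36) (kgi xgi13 ygi23 zgi51) (kgi xgi30 ygi39 zgi39) (kgi xgi30 ygi39 zgi42) (kgi xgi13 ygi31 zgi37) (kgi xgi30 ygi39 zgi46) (kgi xgi30 ygi38 zgi14) (kgi xgi13 ygi23 zgi54) (kgi xgi30 ygi32 zgi33) (kgi xgi29 ygi32 zgi12) (kgi xgi30 ygi32 zgi32) (kgi xgi13 ygi46 zgi31) (kgi xgi13 ygi26 zgi41) (kgi xgi13 ygi23 zgi61) (kgi xgi13 ygi52 zgi11) (kgi xgi13 ygi52 zgi8)) (@D3.rec (fun _ => Pt)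 (kgi xgi23 ygi58 zgi24) (kgi xgi13 ygi24 zgi6) (kgi xgi14 ygi10 zgi45) (kgi xgi13 ygi51 zgi0) (kgi xgi22 ygi22 zgi36) (kgi xgi13 ygi24 zgi8) (kgi xgi13 ygi51 zgi12) (kgi xgi13 ygi32 zgi1) (kgi xgi13 ygi51 zgi2) (kgi xgi18 ygi42 zgi36) (kgi xgi21 ygi2 zgi39) (kgi xgi13 ygi24 zgi7) (kgi xgi13 ygi51 zgi23) (kgi xgi13 ygi51 zgi21) (kgi xgi13 ygi51 zgi14) (kgi xgi21 ygi25 zgi9) (kgi xgi30 ygi39 zgi55) (kgi xgi13 ygi24 zgi9) (kgi xgi13 ygi51 zgi10) (kgi xgi13 ygi51 zgi8) (kgi xgi30 ygi39 zgi52) (kgi xgi28 ygi24 zgi61) (kgi xgi30 ygi39 zgi59) (kgi xgi30 ygi39 zgi58) (kgi xgi22 ygi42 zgi43) (kgi xgi22 ygi16 zgi13) (kgi xgi22 ygi56 zgi57) (kgi xgi22 ygi36 zgi42) (kgi xgi20 ygi45 zgi36) (kgi xgi22 ygi36 zgi44) (kgi xgi13 ygi24 zgi21) (kgi xgi20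 ygi46 zgi10) (kgi xgi23 ygi46 zgi3) (kgi xgi29 ygi35 zgi4) (kgi xgi22 ygi44 zgi1) (kgi xgi22 ygi44 zgi0) (kgi xgi13 ygi52 zgi56) (kgi xgi29 ygi21 zgi43) (kgi xgi14 ygi17 zgi58) (kgi xgi22 ygi5 zgi35) (kgi xgi16 ygi57 zgi2) (kgi xgi13 ygi47 zgi20) (kgi xgi30 ygi40 zgi1) (kgi xgi22 ygi42 zgi33) (kgi xgi30 ygi40 zgi2) (kgi xgi13 ygi24 zgi33) (kgi xgi22 ygi46 zgi43) (kgi xgi13 ygi27 zgi15) (kgi xgi16 ygi25 zgi58) (kgi xgi23 ygi4 zgi21) (kgi xgi23 ygi38 zgi37) (kgi xgi29 ygi59 zgi29) (kgi xgi23 ygi42 zgi0) (kgi xgi13 ygi24 zgi38) (kgi xgi22 ygi44 zgi12) (kgi xgi22 ygi44 zgi10) (kgi xgi21 ygi14 zgi29) (kgi xgi13 ygi57 zgi37) (kgi xgi13 ygi24 zgi40) (kgi xgi13 ygi56 zgi60) (kgi xgi30 ygi40 zgi18) (kgi xgi28 ygi36 zgi20)) (@D3.rec (fun _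 => Pt) (kgi xgi24 ygi42 zgi10) (kgi xgi22 ygi44 zgi49) (kgi xgi13 ygi24 zgi43) (kgi xgi13 ygi24 zgi56) (kgi xgi22 ygi44 zgi45) (kgi xgi26 ygi2 zgi52) (kgi xgi13 ygi57 zgi25) (kgi xgi13 ygi24 zgi49) (kgi xgi13 ygi57 zgi10) (kgi xgi28 ygi49 zgi41) (kgi xgi30 ygi40 zgi28) (kgi xgi30 ygi40 zgi30) (kgi xgi23 ygi40 zgi14) (kgi xgi13 ygi24 zgi51) (kgi xgi22 ygi44 zgi38) (kgi xgi22 ygi44 zgi36) (kgi xgi23 ygi40 zgi45) (kgi xgi14 ygi5 zgi39) (kgi xgi30 ygi40 zgi38) (kgi xgi13 ygi57 zgi57) (kgi xgi14 ygi5 zgi43) (kgi xgi30 ygi40 zgi41) (kgi xgi13 ygi24 zgi54) (kgi xgi13 ygi56 zgi61) (kgi xgi15 ygi35 zgi44) (kgi xgi13 ygi24 zgi55) (kgi xgi23 ygi39 zgi51) (kgi xgi23 ygi39 zgi49) (kgi xgi13 ygi57 zgi19) (kgi xgi19 ygi56 zgi6) (kgi xgi26 ygi47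 zgi35) (kgi xgi30 ygi4 zgi48) (kgi xgi13 ygi24 zgi58) (kgi xgi22 ygi44 zgi55) (kgi xgi22 ygi44 zgi53) (kgi xgi22 ygi44 zgi26) (kgi xgi30 ygi40 zgi58) (kgi xgi30 ygi40 zgi60) (kgi xgi13 ygi24 zgi61) (kgi xgi24 ygi30 zgi51) (kgi xgi30 ygi40 zgi53) (kgi xgi26 ygi17 zgi61) (kgi xgi13 ygi25 zgi2) (kgi xgi22 ygi44 zgi61) (kgi xgi22 ygi44 zgi59) (kgi xgi21 ygi36 zgi12) (kgi xgi30 ygi40 zgi42) (kgi xgi30 ygi0 zgi30) (kgi xgi30 ygi0 zgi37) (kgi xgi30 ygi40 zgi24) (kgi xgi30 ygi0 zgi25) (kgi xgi23 ygi40 zgi11) (kgi xgi30 ygi40 zgi51) (kgi xgi13 ygi57 zgi20) (kgi xgi13 ygi59 zgi40) (kgi xgi22 ygi45 zgi15) (kgi xgi22 ygi45 zgi13) (kgi xgi14 ygi2 zgi2) (kgi xgi22 ygi45 zgi16) (kgi xgi21 ygi33 zgi1) (kgi xgi23 ygi24 zgi29) (kgi xgi14 ygi2 zgi22))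 (@D3.rec (fun _ => Pt) (kgi xgi13 ygi25 zgi15) (kgi xgi13 ygi55 zgi25) (kgi xgi22 ygi8 zgi37) (kgi xgi14 ygi51 zgi51) (kgi xgi14 ygi6 zgi9) (kgi xgi13 ygi25 zgi20) (kgi xgi30 ygi41 zgi13) (kgi xgi30 ygi41 zgi15) (kgi xgi19 ygi56 zgi3) (kgi xgi23 ygi29 zgi25) (kgi xgi13 ygi25 zgi22) (kgi xgi22 ygi42 zgi55) (kgi xgi22 ygi42 zgi53) (kgi xgi14 ygi7 zgi23) (kgi xgi23 ygi3 zgi21) (kgi xgi14 ygi7 zgi12) (kgi xgi13 ygi25 zgi24) (kgi xgi14 ygi5 zgi56) (kgi xgi29 ygi15 zgi51) (kgi xgi30 ygi41 zgi34) (kgi xgi13 ygi25 zgi25) (kgi xgi24 ygi43 zgi42) (kgi xgi13 ygi25 zgi27) (kgi xgi13 ygi25 zgi51) (kgi xgi13 ygi25 zgi48) (kgi xgi21 ygi55 zgi24) (kgi xgi13 ygi25 zgi40) (kgi xgi13 ygi25 zgi53) (kgi xgi22 ygi43 zgi35) (kgi xgi14 ygi7 zgi28) (kgi xgi13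 ygi25 zgi32) (kgi xgi14 ygi7 zgi22) (kgi xgi23 ygi38 zgi34) (kgi xgi30 ygi41 zgi47) (kgi xgi30 ygi41 zgi48) (kgi xgi23 ygi26 zgi42) (kgi xgi13 ygi25 zgi34) (kgi xgi22 ygi43 zgi15) (kgi xgi22 ygi43 zgi13) (kgi xgi27 ygi18 zgi47) (kgi xgi14 ygi6 zgi1) (kgi xgi25 ygi14 zgi52) (kgi xgi13 ygi25 zgi36) (kgi xgi23 ygi28 zgi48) (kgi xgi23 ygi28 zgi46) (kgi xgi22 ygi43 zgi3) (kgi xgi30 ygi13 zgi51) (kgi xgi30 ygi42 zgi1) (kgi xgi13 ygi25 zgi39) (kgi xgi22 ygi43 zgi38) (kgi xgi14 ygi7 zgi24) (kgi xgi23 ygi38 zgi28) (kgi xgi30 ygi42 zgi5) (kgi xgi13 ygi25 zgi42) (kgi xgi22 ygi43 zgi34) (kgi xgi22 ygi43 zgi32) (kgi xgi29 ygi59 zgi27) (kgi xgi28 ygi11 zgi60) (kgi xgi30 ygi42 zgi9) (kgi xgi13 ygi25 zgi45) (kgi xgi22 ygi43 zgi44) (kgi xgi22 ygi43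 zgi42)) (@D3.rec (fun _ => Pt) (kgi xgi20 ygi28 zgi33) (kgi xgi14 ygi7 zgi33) (kgi xgi23 ygi29 zgi13) (kgi xgi14 ygi6 zgi12) (kgi xgi18 ygi1 zgi9) (kgi xgi30 ygi42 zgi19) (kgi xgi30 ygi42 zgi20) (kgi xgi14 ygi6 zgi15) (kgi xgi17 ygi59 zgi22) (kgi xgi13 ygi25 zgi52) (kgi xgi14 ygi8 zgi57) (kgi xgi23 ygi13 zgi24) (kgi xgi23 ygi13 zgi23) (kgi xgi13 ygi25 zgi56) (kgi xgi22 ygi43 zgi56) (kgi xgi14 ygi5 zgi18) (kgi xgi13 ygi25 zgi58) (kgi xgi22 ygi43 zgi58) (kgi xgi14 ygi6 zgi57) (kgi xgi14 ygi9 zgi7) (kgi xgi14 ygi9 zgi10) (kgi xgi13 ygi25 zgi61) (kgi xgi24 ygi32 zgi41) (kgi xgi21 ygi55 zgi42) (kgi xgi13 ygi26 zgi0) (kgi xgi27 ygi57 zgi9) (kgi xgi22 ygi12 zgi19) (kgi xgi13 ygi48 zgi40) (kgi xgi27 ygi57 zgi8) (kgi xgi13 ygi26 zgi6) (kgi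 xgi22 ygi12 zgi17) (kgi xgi22 ygi12 zgi15) (kgi xgi21 ygi57 zgi7) (kgi xgi22 ygi45 zgi46) (kgi xgi22 ygi28 zgi11) (kgi xgi24 ygi34 zgi27) (kgi xgi30 ygi42 zgi30) (kgi xgi27 ygi22 zgi10) (kgi xgi13 ygi26 zgi10) (kgi xgi13 ygi26 zgi31) (kgi xgi13 ygi26 zgi29) (kgi xgi13 ygi54 zgi37) (kgi xgi14 ygi9 zgi46) (kgi xgi14 ygi9 zgi44) (kgi xgi19 ygi14 zgi47) (kgi xgi13 ygi32 zgi3) (kgi xgi22 ygi45 zgi35) (kgi xgi13 ygi55 zgi17) (kgi xgi22 ygi10 zgi16) (kgi xgi19 ygi55 zgi13) (kgi xgi13 ygi26 zgi19) (kgi xgi22 ygi28 zgi3) (kgi xgi22 ygi28 zgi1) (kgi xgi22 ygi48 zgi55) (kgi xgi13 ygi26 zgi23) (kgi xgi14 ygi24 zgi43) (kgi xgi13 ygi34 zgi57) (kgi xgi14 ygi8 zgi51) (kgi xgi14 ygi8 zgi53) (kgi xgi30 ygi42 zgi38) (kgi xgi13 ygi26 zgi24) (kgi xgi14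 ygi9 zgi16)) (@D3.rec (fun _ => Pt) (kgi xgi14 ygi9 zgi14) (kgi xgi13 ygi26 zgi26) (kgi xgi14 ygi9 zgi3) (kgi xgi14 ygi9 zgi0) (kgi xgi13 ygi26 zgi27) (kgi xgi22 ygi28 zgi27) (kgi xgi25 ygi37 zgi2) (kgi xgi18 ygi29 zgi50) (kgi xgi30 ygi42 zgi44) (kgi xgi30 ygi42 zgi45) (kgi xgi18 ygi37 zgi60) (kgi xgi30 ygi1 zgi3) (kgi xgi24 ygi31 zgi7) (kgi xgi22 ygi30 zgi47) (kgi xgi18 ygi19 zgi6) (kgi xgi23 ygi3 zgi19) (kgi xgi23 ygi19 zgi23) (kgi xgi21 ygi14 zgi7) (kgi xgi23 ygi4 zgi7) (kgi xgi13 ygi26 zgi49) (kgi xgi28 ygi15 zgi4) (kgi xgi22 ygi32 zgi15) (kgi xgi15 ygi56 zgi24) (kgi xgi29 ygi51 zgi60) (kgi xgi13 ygi26 zgi51) (kgi xgi16 ygi26 zgi21) (kgi xgi23 ygi4 zgi2) (kgi xgi13 ygi27 zgi35) (kgi xgi30 ygi33 zgi58) (kgi xgi25 ygi58 zgi29) (kgi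 xgi20 ygi11 zgi51) (kgi xgi20 ygi11 zgi36) (kgi xgi22 ygi38 zgi51) (kgi xgi13 ygi27 zgi2) (kgi xgi17 ygi6 zgi48) (kgi xgi27 ygi58 zgi34) (kgi xgi30 ygi31 zgi26) (kgi xgi16 ygi24 zgi13) (kgi xgi13 ygi27 zgi8) (kgi xgi13 ygi27 zgi47) (kgi xgi14 ygi28 zgi13) (kgi xgi16 ygi56 zgi41) (kgi xgi30 ygi42 zgi50) (kgi xgi13 ygi27 zgi11) (kgi xgi22 ygi42 zgi46) (kgi xgi22 ygi42 zgi45) (kgi xgi14 ygi10 zgi25) (kgi xgi30 ygi11 zgi48) (kgi xgi14 ygi22 zgi50) (kgi xgi30 ygi12 zgi4) (kgi xgi30 ygi42 zgi53) (kgi xgi30 ygi42 zgi55) (kgi xgi13 ygi27 zgi16) (kgi xgi14 ygi44 zgi20) (kgi xgi14 ygi44 zgi18) (kgi xgi13 ygi46 zgi17) (kgi xgi13 ygi35 zgi12) (kgi xgi22 ygi47 zgi0) (kgi xgi14 ygi10 zgi47) (kgi xgi13 ygi33 zgi35) (kgi xgi13 ygi34 zgi39) (kgi xgi14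 ygi20 zgi36)) (@D3.rec (fun _ => Pt) (kgi xgi22 ygi46 zgi55) (kgi xgi18 ygi55 zgi53) (kgi xgi17 ygi34 zgi16) (kgi xgi22 ygi49 zgi10) (kgi xgi18 ygi52 zgi13) (kgi xgi23 ygi54 zgi47) (kgi xgi30 ygi42 zgi61) (kgi xgi30 ygi43 zgi2) (kgi xgi30 ygi42 zgi60) (kgi xgi23 ygi12 zgi31) (kgi xgi30 ygi43 zgi5) (kgi xgi29 ygi22 zgi32) (kgi xgi20 ygi36 zgi33) (kgi xgi13 ygi52 zgi6) (kgi xgi28 ygi9 zgi44) (kgi xgi21 ygi44 zgi35) (kgi xgi13 ygi27 zgi48) (kgi xgi18 ygi50 zgi7) (kgi xgi24 ygi54 zgi12) (kgi xgi13 ygi27 zgi52) (kgi xgi26 ygi19 zgi10) (kgi xgi13 ygi27 zgi59) (kgi xgi22 ygi52 zgi12) (kgi xgi23 ygi19 zgi1) (kgi xgi15 ygi7 zgi60) (kgi xgi13 ygi27 zgi61) (kgi xgi23 ygi8 zgi37) (kgi xgi13 ygi28 zgi0) (kgi xgi22 ygi55 zgi38) (kgi xgi26 ygi25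 zgi48) (kgi xgi23 ygi7 zgi22) (kgi xgi27 ygi41 zgi36) (kgi xgi29 ygi24 zgi32) (kgi xgi17 ygi59 zgi54) (kgi xgi21 ygi14 zgi39) (kgi xgi28 ygi28 zgi30) (kgi xgi29 ygi15 zgi26) (kgi xgi23 ygi9 zgi28) (kgi xgi13 ygi28 zgi8) (kgi xgi13 ygi35 zgi39) (kgi xgi15 ygi31 zgi56) (kgi xgi16 ygi26 zgi0) (kgi xgi25 ygi5 zgi12) (kgi xgi13 ygi31 zgi49) (kgi xgi16 ygi28 zgi42) (kgi xgi30 ygi43 zgi14) (kgi xgi13 ygi28 zgi13) (kgi xgi13 ygi31 zgi29) (kgi xgi13 ygi32 zgi51) (kgi xgi13 ygi32 zgi0) (kgi xgi26 ygi25 zgi16) (kgi xgi22 ygi56 zgi5) (kgi xgi13 ygi28 zgi17) (kgi xgi13 ygi31 zgi58) (kgi xgi13 ygi31 zgi55) (kgi xgi13 ygi32 zgi17) (kgi xgi13 ygi31 zgi38) (kgi xgi13 ygi28 zgi20) (kgi xgi13 ygi31 zgi35) (kgi xgi30 ygi43 zgi24) (kgi xgi16 ygi31 zgi61)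 (kgi xgi24 ygi14 zgi12)) (@D3.rec (fun _ => Pt) (kgi xgi22 ygi56 zgi54) (kgi xgi13 ygi28 zgi23) (kgi xgi13 ygi32 zgi14) (kgi xgi26 ygi20 zgi31) (kgi xgi13 ygi28 zgi26) (kgi xgi13 ygi32 zgi27) (kgi xgi13 ygi32 zgi25) (kgi xgi13 ygi31 zgi34) (kgi xgi30 ygi43 zgi27) (kgi xgi26 ygi56 zgi15) (kgi xgi22 ygi59 zgi13) (kgi xgi24 ygi9 zgi40) (kgi xgi13 ygi28 zgi29) (kgi xgi13 ygi32 zgi37) (kgi xgi13 ygi32 zgi35) (kgi xgi14 ygi51 zgi22) (kgi xgi28 ygi23 zgi58) (kgi xgi16 ygi27 zgi13) (kgi xgi25 ygi25 zgi45) (kgi xgi30 ygi43 zgi34) (kgi xgi13 ygi28 zgi34) (kgi xgi13 ygi31 zgi32) (kgi xgi30 ygi43 zgi37) (kgi xgi14 ygi28 zgi31) (kgi xgi13 ygi33 zgi43) (kgi xgi13 ygi32 zgi45) (kgi xgi21 ygi38 zgi55) (kgi xgi13 ygi28 zgi40) (kgi xgi13 ygi33 zgi23)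 (kgi xgi13 ygi33 zgi20) (kgi xgi13 ygi28 zgi41) (kgi xgi13 ygi33 zgi4) (kgi xgi23 ygi8 zgi40) (kgi xgi17 ygi57 zgi24) (kgi xgi26 ygi25 zgi39) (kgi xgi13 ygi28 zgi43) (kgi xgi13 ygi28 zgi45) (kgi xgi13 ygi36 zgi43) (kgi xgi28 ygi35 zgi43) (kgi xgi29 ygi1 zgi10) (kgi xgi29 ygi37 zgi16) (kgi xgi15 ygi39 zgi27) (kgi xgi13 ygi28 zgi47) (kgi xgi13 ygi34 zgi14) (kgi xgi13 ygi34 zgi12) (kgi xgi22 ygi53 zgi17) (kgi xgi13 ygi35 zgi21) (kgi xgi13 ygi28 zgi51) (kgi xgi13 ygi35 zgi19) (kgi xgi21 ygi5 zgi9) (kgi xgi29 ygi37 zgi39) (kgi xgi13 ygi28 zgi52) (kgi xgi13 ygi35 zgi10) (kgi xgi13 ygi35 zgi7) (kgi xgi21 ygi57 zgi4) (kgi xgi13 ygi28 zgi59) (kgi xgi13 ygi35 zgi1) (kgi xgi14 ygi29 zgi2) (kgi xgi28 ygi46 zgi39) (kgi xgi30 ygi44 zgi0) (kgi xgi13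 ygi28 zgi57) (kgi xgi13 ygi35 zgi32)) (@D3.rec (fun _ => Pt) (kgi xgi13 ygi35 zgi29) (kgi xgi22 ygi45 zgi53) (kgi xgi23 ygi46 zgi32) (kgi xgi13 ygi28 zgi60) (kgi xgi22 ygi47 zgi3) (kgi xgi22 ygi55 zgi8) (kgi xgi21 ygi11 zgi17) (kgi xgi13 ygi29 zgi0) (kgi xgi22 ygi30 zgi19) (kgi xgi23 ygi52 zgi25) (kgi xgi22 ygi16 zgi26) (kgi xgi22 ygi26 zgi57) (kgi xgi26 ygi26 zgi3) (kgi xgi30 ygi44 zgi4) (kgi xgi22 ygi59 zgi43) (kgi xgi26 ygi56 zgi21) (kgi xgi23 ygi11 zgi59) (kgi xgi30 ygi33 zgi56) (kgi xgi28 ygi21 zgi13) (kgi xgi13 ygi29 zgi6) (kgi xgi22 ygi59 zgi45) (kgi xgi22 ygi55 zgi25) (kgi xgi17 ygi1 zgi47) (kgi xgi13 ygi29 zgi7) (kgi xgi30 ygi44 zgi5) (kgi xgi28 ygi56 zgi2) (kgi xgi23 ygi11 zgi60) (kgi xgi14 ygi31 zgi46) (kgi xgi24 ygi20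 zgi59) (kgi xgi30 ygi36 zgi21) (kgi xgi15 ygi40 zgi44) (kgi xgi14 ygi35 zgi42) (kgi xgi18 ygi21 zgi57) (kgi xgi13 ygi39 zgi25) (kgi xgi18 ygi49 zgi18) (kgi xgi13 ygi29 zgi15) (kgi xgi27 ygi53 zgi58) (kgi xgi30 ygi44 zgi21) (kgi xgi22 ygi29 zgi30) (kgi xgi20 ygi21 zgi16) (kgi xgi13 ygi47 zgi0) (kgi xgi29 ygi54 zgi7) (kgi xgi27 ygi40 zgi19) (kgi xgi22 ygi29 zgi22) (kgi xgi22 ygi41 zgi44) (kgi xgi21 ygi29 zgi57) (kgi xgi13 ygi29 zgi20) (kgi xgi18 ygi30 zgi52) (kgi xgi27 ygi52 zgi12) (kgi xgi30 ygi44 zgi35) (kgi xgi29 ygi25 zgi6) (kgi xgi23 ygi7 zgi49) (kgi xgi24 ygi53 zgi55) (kgi xgi23 ygi6 zgi34) (kgi xgi27 ygi58 zgi46) (kgi xgi13 ygi29 zgi35) (kgi xgi23 ygi6 zgi40) (kgi xgi22 ygi57 zgi59) (kgi xgi13 ygi29 zgi28) (kgi xgi23 ygi6 zgi39)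 (kgi xgi22 ygi29 zgi24) (kgi xgi18 ygi54 zgi58)) (@D3.rec (fun _ => Pt) (kgi xgi13 ygi29 zgi29) (kgi xgi22 ygi57 zgi58) (kgi xgi13 ygi30 zgi2) (kgi xgi30 ygi44 zgi41) (kgi xgi23 ygi51 zgi15) (kgi xgi22 ygi35 zgi58) (kgi xgi13 ygi29 zgi34) (kgi xgi23 ygi6 zgi46) (kgi xgi15 ygi4 zgi2) (kgi xgi13 ygi41 zgi40) (kgi xgi22 ygi51 zgi24) (kgi xgi19 ygi21 zgi4) (kgi xgi20 ygi45 zgi26) (kgi xgi23 ygi6 zgi50) (kgi xgi23 ygi6 zgi48) (kgi xgi18 ygi13 zgi21) (kgi xgi15 ygi8 zgi42) (kgi xgi30 ygi44 zgi50) (kgi xgi26 ygi29 zgi56) (kgi xgi13 ygi29 zgi40) (kgi xgi23 ygi6 zgi55) (kgi xgi19 ygi15 zgi16) (kgi xgi22 ygi30 zgi1) (kgi xgi28 ygi15 zgi28) (kgi xgi13 ygi29 zgi43) (kgi xgi18 ygi53 zgi13) (kgi xgi30 ygi44 zgi60) (kgi xgi30 ygi44 zgi56) (kgi xgi18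 ygi53 zgi16) (kgi xgi26 ygi13 zgi11) (kgi xgi13 ygi29 zgi48) (kgi xgi14 ygi53 zgi42) (kgi xgi14 ygi53 zgi40) (kgi xgi22 ygi29 zgi49) (kgi xgi24 ygi40 zgi40) (kgi xgi22 ygi27 zgi47) (kgi xgi22 ygi46 zgi59) (kgi xgi22 ygi33 zgi14) (kgi xgi17 ygi17 zgi22) (kgi xgi23 ygi47 zgi12) (kgi xgi13 ygi29 zgi56) (kgi xgi22 ygi58 zgi14) (kgi xgi22 ygi58 zgi11) (kgi xgi14 ygi18 zgi0) (kgi xgi14 ygi27 zgi47) (kgi xgi14 ygi41 zgi31) (kgi xgi14 ygi21 zgi60) (kgi xgi14 ygi42 zgi1) (kgi xgi14 ygi3 zgi43) (kgi xgi13 ygi30 zgi0) (kgi xgi24 ygi15 zgi11) (kgi xgi13 ygi30 zgi1) (kgi xgi30 ygi45 zgi14) (kgi xgi18 ygi34 zgi30) (kgi xgi17 ygi47 zgi53) (kgi xgi26 ygi19 zgi48) (kgi xgi28 ygi24 zgi23) (kgi xgi13 ygi30 zgi5) (kgi xgi18 ygi32 zgi49) (kgi xgi28 ygi7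 zgi58) (kgi xgi30 ygi45 zgi30) (kgi xgi19 ygi17 zgi40)) (@D3.rec (fun _ => Pt) (kgi xgi23 ygi6 zgi19) (kgi xgi23 ygi6 zgi23) (kgi xgi18 ygi41 zgi31) (kgi xgi19 ygi0 zgi51) (kgi xgi22 ygi51 zgi26) (kgi xgi20 ygi30 zgi44) (kgi xgi13 ygi30 zgi15) (kgi xgi15 ygi8 zgi31) (kgi xgi23 ygi4 zgi51) (kgi xgi24 ygi5 zgi33) (kgi xgi24 ygi40 zgi34) (kgi xgi14 ygi53 zgi30) (kgi xgi23 ygi58 zgi30) (kgi xgi13 ygi30 zgi28) (kgi xgi26 ygi32 zgi37) (kgi xgi14 ygi59 zgi4) (kgi xgi24 ygi5 zgi25) (kgi xgi13 ygi46 zgi48) (kgi xgi27 ygi40 zgi35) (kgi xgi18 ygi21 zgi43) (kgi xgi24 ygi28 zgi13) (kgi xgi15 ygi0 zgi31) (kgi xgi13 ygi30 zgi34) (kgi xgi26 ygi32 zgi50) (kgi xgi29 ygi19 zgi21) (kgi xgi28 ygi26 zgi26) (kgi xgi26 ygi49 zgi52) (kgi xgi16 ygi21 zgi49)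 (kgi xgi14 ygi53 zgi35) (kgi xgi15 ygi7 zgi11) (kgi xgi29 ygi14 zgi33) (kgi xgi24 ygi29 zgi2) (kgi xgi30 ygi24 zgi54) (kgi xgi28 ygi12 zgi44) (kgi xgi23 ygi7 zgi26) (kgi xgi23 ygi7 zgi24) (kgi xgi13 ygi30 zgi43) (kgi xgi15 ygi0 zgi22) (kgi xgi28 ygi45 zgi27) (kgi xgi18 ygi53 zgi2) (kgi xgi16 ygi33 zgi17) (kgi xgi13 ygi30 zgi46) (kgi xgi30 ygi45 zgi48) (kgi xgi27 ygi59 zgi6) (kgi xgi30 ygi45 zgi49) (kgi xgi27 ygi55 zgi43) (kgi xgi13 ygi30 zgi48) (kgi xgi27 ygi47 zgi52) (kgi xgi30 ygi39 zgi35) (kgi xgi18 ygi13 zgi35) (kgi xgi16 ygi21 zgi45) (kgi xgi29 ygi24 zgi57) (kgi xgi27 ygi5 zgi26) (kgi xgi13 ygi30 zgi56) (kgi xgi29 ygi25 zgi5) (kgi xgi28 ygi5 zgi38) (kgi xgi18 ygi58 zgi27) (kgi xgi18 ygi35 zgi51) (kgi xgi16 ygi21 zgi55) (kgi xgi18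 ygi20 zgi53) (kgi xgi15 ygi7 zgi7) (kgi xgi23 ygi7 zgi16)) (@D3.rec (fun _ => Pt) (kgi xgi18 ygi20 zgi40) (kgi xgi30 ygi45 zgi42) (kgi xgi27 ygi21 zgi16) (kgi xgi13 ygi31 zgi2) (kgi xgi23 ygi7 zgi19) (kgi xgi23 ygi7 zgi17) (kgi xgi13 ygi31 zgi5) (kgi xgi28 ygi5 zgi37) (kgi xgi28 ygi11 zgi6) (kgi xgi16 ygi28 zgi10) (kgi xgi16 ygi28 zgi38) (kgi xgi22 ygi23 zgi23) (kgi xgi22 ygi47 zgi21) (kgi xgi26 ygi23 zgi24) (kgi xgi13 ygi42 zgi27) (kgi xgi16 ygi26 zgi30) (kgi xgi24 ygi31 zgi19) (kgi xgi29 ygi41 zgi19) (kgi xgi13 ygi43 zgi23) (kgi xgi17 ygi1 zgi40) (kgi xgi23 ygi58 zgi6) (kgi xgi16 ygi28 zgi15) (kgi xgi23 ygi18 zgi24) (kgi xgi13 ygi31 zgi19) (kgi xgi13 ygi31 zgi23) (kgi xgi30 ygi46 zgi9) (kgi xgi15 ygi53 zgi16) (kgi xgi30 ygi6 zgi42)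 (kgi xgi13 ygi31 zgi20) (kgi xgi29 ygi28 zgi29) (kgi xgi24 ygi31 zgi24) (kgi xgi23 ygi20 zgi26) (kgi xgi20 ygi33 zgi24) (kgi xgi20 ygi49 zgi50) (kgi xgi13 ygi43 zgi44) (kgi xgi18 ygi50 zgi61) (kgi xgi22 ygi55 zgi55) (kgi xgi13 ygi31 zgi24) (kgi xgi24 ygi9 zgi21) (kgi xgi13 ygi31 zgi27) (kgi xgi30 ygi26 zgi47) (kgi xgi19 ygi57 zgi1) (kgi xgi28 ygi20 zgi30) (kgi xgi13 ygi31 zgi26) (kgi xgi16 ygi28 zgi35) (kgi xgi16 ygi28 zgi33) (kgi xgi27 ygi6 zgi18) (kgi xgi26 ygi23 zgi18) (kgi xgi30 ygi46 zgi20) (kgi xgi13 ygi31 zgi28) (kgi xgi30 ygi43 zgi15) (kgi xgi30 ygi18 zgi48) (kgi xgi22 ygi20 zgi59) (kgi xgi18 ygi2 zgi0) (kgi xgi25 ygi36 zgi4) (kgi xgi29 ygi28 zgi16) (kgi xgi17 ygi11 zgi59) (kgi xgi30 ygi43 zgi33) (kgi xgi23 ygi57 zgi40) (kgi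 xgi22 ygi59 zgi21) (kgi xgi26 ygi28 zgi38) (kgi xgi30 ygi43 zgi23)) (@D3.rec (fun _ => Pt) (kgi xgi30 ygi46 zgi28) (kgi xgi14 ygi26 zgi2) (kgi xgi28 ygi22 zgi58) (kgi xgi16 ygi46 zgi35) (kgi xgi24 ygi5 zgi27) (kgi xgi30 ygi46 zgi34) (kgi xgi24 ygi5 zgi29) (kgi xgi26 ygi20 zgi26) (kgi xgi13 ygi31 zgi40) (kgi xgi30 ygi43 zgi20) (kgi xgi30 ygi46 zgi41) (kgi xgi30 ygi46 zgi43) (kgi xgi28 ygi20 zgi12) (kgi xgi13 ygi31 zgi41) (kgi xgi28 ygi23 zgi2) (kgi xgi29 ygi29 zgi44) (kgi xgi30 ygi46 zgi27) (kgi xgi22 ygi49 zgi7) (kgi xgi29 ygi30 zgi14) (kgi xgi20 ygi48 zgi24) (kgi xgi29 ygi0 zgi27) (kgi xgi13 ygi31 zgi47) (kgi xgi24 ygi9 zgi17) (kgi xgi30 ygi46 zgi48) (kgi xgi29 ygi37 zgi13) (kgi xgi25 ygi33 zgi18) (kgi xgi25 ygi33 zgi20) (kgi xgi13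 ygi31 zgi52) (kgi xgi25 ygi34 zgi16) (kgi xgi24 ygi14 zgi8) (kgi xgi25 ygi34 zgi14) (kgi xgi22 ygi59 zgi59) (kgi xgi30 ygi46 zgi54) (kgi xgi13 ygi31 zgi54) (kgi xgi30 ygi43 zgi18) (kgi xgi29 ygi52 zgi55) (kgi xgi22 ygi56 zgi2) (kgi xgi22 ygi23 zgi26) (kgi xgi13 ygi33 zgi19) (kgi xgi23 ygi15 zgi8) (kgi xgi29 ygi38 zgi22) (kgi xgi18 ygi40 zgi50) (kgi xgi23 ygi9 zgi57) (kgi xgi13 ygi31 zgi57) (kgi xgi13 ygi48 zgi44) (kgi xgi30 ygi47 zgi4) (kgi xgi13 ygi48 zgi42) (kgi xgi13 ygi48 zgi21) (kgi xgi13 ygi52 zgi54) (kgi xgi13 ygi47 zgi18) (kgi xgi13 ygi32 zgi7) (kgi xgi14 ygi53 zgi19) (kgi xgi23 ygi3 zgi22) (kgi xgi29 ygi27 zgi8) (kgi xgi22 ygi24 zgi5) (kgi xgi25 ygi43 zgi26) (kgi xgi25 ygi5 zgi1) (kgi xgi30 ygi47 zgi12) (kgi xgi13 ygi32 zgi13)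 (kgi xgi30 ygi37 zgi9) (kgi xgi30 ygi37 zgi7) (kgi xgi22 ygi56 zgi52)) (@D3.rec (fun _ => Pt) (kgi xgi13 ygi33 zgi51) (kgi xgi19 ygi36 zgi21) (kgi xgi29 ygi9 zgi10) (kgi xgi29 ygi53 zgi51) (kgi xgi14 ygi25 zgi41) (kgi xgi13 ygi51 zgi6) (kgi xgi30 ygi47 zgi19) (kgi xgi13 ygi32 zgi18) (kgi xgi20 ygi33 zgi61) (kgi xgi22 ygi6 zgi49) (kgi xgi30 ygi47 zgi24) (kgi xgi24 ygi28 zgi55) (kgi xgi13 ygi32 zgi19) (kgi xgi13 ygi32 zgi20) (kgi xgi30 ygi47 zgi20) (kgi xgi30 ygi47 zgi18) (kgi xgi13 ygi32 zgi23) (kgi xgi22 ygi6 zgi48) (kgi xgi13 ygi32 zgi24) (kgi xgi15 ygi15 zgi51) (kgi xgi15 ygi15 zgi49) (kgi xgi23 ygi4 zgi50) (kgi xgi13 ygi32 zgi39) (kgi xgi27 ygi37 zgi46) (kgi xgi19 ygi37 zgi28) (kgi xgi18 ygi41 zgi43) (kgi xgi30 ygi43 zgi35) (kgi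 xgi15 ygi22 zgi41) (kgi xgi19 ygi56 zgi40) (kgi xgi16 ygi28 zgi54) (kgi xgi26 ygi24 zgi7) (kgi xgi21 ygi14 zgi28) (kgi xgi13 ygi32 zgi31) (kgi xgi24 ygi59 zgi26) (kgi xgi15 ygi33 zgi41) (kgi xgi24 ygi8 zgi59) (kgi xgi13 ygi32 zgi34) (kgi xgi30 ygi43 zgi29) (kgi xgi15 ygi31 zgi46) (kgi xgi24 ygi9 zgi37) (kgi xgi13 ygi32 zgi42) (kgi xgi13 ygi50 zgi54) (kgi xgi22 ygi38 zgi54) (kgi xgi20 ygi32 zgi37) (kgi xgi13 ygi32 zgi38) (kgi xgi24 ygi8 zgi50) (kgi xgi30 ygi47 zgi38) (kgi xgi26 ygi25 zgi59) (kgi xgi15 ygi21 zgi8) (kgi xgi30 ygi43 zgi26) (kgi xgi13 ygi32 zgi40) (kgi xgi24 ygi8 zgi45) (kgi xgi22 ygi20 zgi53) (kgi xgi24 ygi7 zgi49) (kgi xgi15 ygi31 zgi9) (kgi xgi20 ygi50 zgi35) (kgi xgi17 ygi59 zgi1) (kgi xgi15 ygi39 zgi58) (kgi xgi23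 ygi1 zgi41) (kgi xgi29 ygi37 zgi46) (kgi xgi17 ygi57 zgi20) (kgi xgi30 ygi19 zgi52)) (@D3.rec (fun _ => Pt) (kgi xgi24 ygi8 zgi46) (kgi xgi29 ygi3 zgi32) (kgi xgi13 ygi32 zgi49) (kgi xgi15 ygi39 zgi29) (kgi xgi24 ygi39 zgi2) (kgi xgi13 ygi32 zgi50) (kgi xgi30 ygi43 zgi16) (kgi xgi25 ygi58 zgi31) (kgi xgi22 ygi49 zgi12) (kgi xgi22 ygi55 zgi26) (kgi xgi23 ygi8 zgi30) (kgi xgi30 ygi46 zgi22) (kgi xgi23 ygi12 zgi2) (kgi xgi30 ygi37 zgi13) (kgi xgi14 ygi19 zgi2) (kgi xgi14 ygi45 zgi55) (kgi xgi14 ygi47 zgi20) (kgi xgi13 ygi32 zgi55) (kgi xgi14 ygi47 zgi18) (kgi xgi19 ygi26 zgi9) (kgi xgi19 ygi56 zgi25) (kgi xgi20 ygi50 zgi26) (kgi xgi13 ygi32 zgi57) (kgi xgi14 ygi47 zgi14) (kgi xgi21 ygi11 zgi7) (kgi xgi30 ygi24 zgi38) (kgi xgi21 ygi5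 zgi21) (kgi xgi13 ygi33 zgi1) (kgi xgi20 ygi36 zgi61) (kgi xgi30 ygi43 zgi36) (kgi xgi14 ygi45 zgi40) (kgi xgi14 ygi29 zgi46) (kgi xgi21 ygi10 zgi33) (kgi xgi21 ygi11 zgi53) (kgi xgi23 ygi8 zgi38) (kgi xgi24 ygi59 zgi61) (kgi xgi13 ygi49 zgi3) (kgi xgi16 ygi34 zgi7) (kgi xgi22 ygi47 zgi31) (kgi xgi13 ygi42 zgi41) (kgi xgi13 ygi33 zgi8) (kgi xgi26 ygi30 zgi37) (kgi xgi30 ygi45 zgi32) (kgi xgi30 ygi45 zgi52) (kgi xgi28 ygi4 zgi33) (kgi xgi13 ygi33 zgi9) (kgi xgi24 ygi57 zgi17) (kgi xgi24 ygi59 zgi37) (kgi xgi21 ygi13 zgi5) (kgi xgi18 ygi30 zgi5) (kgi xgi15 ygi38 zgi7) (kgi xgi13 ygi33 zgi14) (kgi xgi24 ygi9 zgi24) (kgi xgi24 ygi9 zgi22) (kgi xgi26 ygi17 zgi40) (kgi xgi30 ygi48 zgi10) (kgi xgi24 ygi9 zgi28) (kgi xgi24 ygi9 zgi26) (kgi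 xgi13 ygi33 zgi18) (kgi xgi24 ygi8 zgi51) (kgi xgi30 ygi48 zgi13) (kgi xgi30 ygi48 zgi16)) (@D3.rec (fun _ => Pt) (kgi xgi30 ygi43 zgi19) (kgi xgi29 ygi29 zgi38) (kgi xgi22 ygi47 zgi51) (kgi xgi24 ygi59 zgi60) (kgi xgi29 ygi32 zgi20) (kgi xgi22 ygi53 zgi36) (kgi xgi23 ygi19 zgi51) (kgi xgi30 ygi48 zgi9) (kgi xgi13 ygi33 zgi22) (kgi xgi23 ygi18 zgi50) (kgi xgi30 ygi47 zgi2) (kgi xgi23 ygi18 zgi48) (kgi xgi30 ygi48 zgi31) (kgi xgi13 ygi33 zgi26) (kgi xgi14 ygi14 zgi41) (kgi xgi23 ygi52 zgi6) (kgi xgi14 ygi18 zgi6) (kgi xgi25 ygi25 zgi55) (kgi xgi13 ygi33 zgi31) (kgi xgi30 ygi39 zgi51) (kgi xgi28 ygi50 zgi49) (kgi xgi14 ygi24 zgi56) (kgi xgi14 ygi24 zgi25) (kgi xgi13 ygi33 zgi34) (kgi xgi14 ygi24 zgi24) (kgi xgi20 ygi58 zgi3) (kgi xgi30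 ygi48 zgi43) (kgi xgi22 ygi50 zgi36) (kgi xgi24 ygi5 zgi19) (kgi xgi13 ygi33 zgi37) (kgi xgi14 ygi24 zgi54) (kgi xgi14 ygi24 zgi51) (kgi xgi14 ygi28 zgi23) (kgi xgi23 ygi4 zgi10) (kgi xgi14 ygi25 zgi37) (kgi xgi28 ygi9 zgi46) (kgi xgi30 ygi45 zgi13) (kgi xgi26 ygi30 zgi5) (kgi xgi20 ygi36 zgi56) (kgi xgi23 ygi9 zgi58) (kgi xgi29 ygi42 zgi32) (kgi xgi18 ygi56 zgi15) (kgi xgi27 ygi59 zgi40) (kgi xgi13 ygi33 zgi45) (kgi xgi27 ygi59 zgi36) (kgi xgi30 ygi48 zgi58) (kgi xgi30 ygi48 zgi59) (kgi xgi20 ygi19 zgi61) (kgi xgi26 ygi22 zgi58) (kgi xgi29 ygi31 zgi49) (kgi xgi24 ygi34 zgi47) (kgi xgi23 ygi27 zgi39) (kgi xgi22 ygi48 zgi0) (kgi xgi29 ygi4 zgi12) (kgi xgi22 ygi53 zgi61) (kgi xgi13 ygi33 zgi54) (kgi xgi21 ygi12 zgi61) (kgi xgi22 ygi41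 zgi15) (kgi xgi22 ygi37 zgi52) (kgi xgi26 ygi5 zgi61) (kgi xgi30 ygi49 zgi4) (kgi xgi28 ygi20 zgi4)) (@D3.rec (fun _ => Pt) (kgi xgi13 ygi33 zgi61) (kgi xgi28 ygi29 zgi30) (kgi xgi14 ygi27 zgi0) (kgi xgi13 ygi34 zgi0) (kgi xgi13 ygi51 zgi53) (kgi xgi22 ygi20 zgi32) (kgi xgi13 ygi34 zgi6) (kgi xgi14 ygi10 zgi13) (kgi xgi19 ygi7 zgi17) (kgi xgi14 ygi19 zgi8) (kgi xgi13 ygi34 zgi4) (kgi xgi14 ygi18 zgi60) (kgi xgi22 ygi58 zgi40) (kgi xgi13 ygi34 zgi5) (kgi xgi14 ygi32 zgi6) (kgi xgi14 ygi19 zgi3) (kgi xgi24 ygi6 zgi28) (kgi xgi30 ygi49 zgi14) (kgi xgi13 ygi34 zgi7) (kgi xgi19 ygi7 zgi25) (kgi xgi24 ygi38 zgi58) (kgi xgi13 ygi34 zgi9) (kgi xgi14 ygi39 zgi27) (kgi xgi15 ygi40 zgi4) (kgi xgi13 ygi34 zgi11) (kgi xgi15 ygi39 zgi21) (kgi xgi30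 ygi36 zgi20) (kgi xgi23 ygi55 zgi13) (kgi xgi24 ygi18 zgi54) (kgi xgi14 ygi31 zgi34) (kgi xgi30 ygi49 zgi21) (kgi xgi24 ygi8 zgi7) (kgi xgi22 ygi35 zgi61) (kgi xgi28 ygi56 zgi61) (kgi xgi13 ygi48 zgi28) (kgi xgi13 ygi34 zgi19) (kgi xgi16 ygi11 zgi56) (kgi xgi22 ygi16 zgi56) (kgi xgi13 ygi47 zgi53) (kgi xgi30 ygi49 zgi25) (kgi xgi30 ygi18 zgi42) (kgi xgi30 ygi27 zgi37) (kgi xgi21 ygi36 zgi45) (kgi xgi14 ygi16 zgi36) (kgi xgi22 ygi16 zgi55) (kgi xgi28 ygi32 zgi52) (kgi xgi19 ygi41 zgi38) (kgi xgi30 ygi49 zgi28) (kgi xgi14 ygi16 zgi7) (kgi xgi28 ygi14 zgi50) (kgi xgi28 ygi22 zgi59) (kgi xgi28 ygi23 zgi16) (kgi xgi18 ygi4 zgi21) (kgi xgi30 ygi49 zgi32) (kgi xgi27 ygi15 zgi30) (kgi xgi15 ygi30 zgi53) (kgi xgi24 ygi27 zgi10) (kgi xgi14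 ygi42 zgi57) (kgi xgi22 ygi50 zgi0) (kgi xgi13 ygi34 zgi38) (kgi xgi22 ygi49 zgi57) (kgi xgi13 ygi37 zgi29)) (@D3.rec (fun _ => Pt) (kgi xgi13 ygi34 zgi42) (kgi xgi23 ygi4 zgi25) (kgi xgi13 ygi34 zgi43) (kgi xgi22 ygi7 zgi7) (kgi xgi30 ygi30 zgi47) (kgi xgi30 ygi49 zgi45) (kgi xgi23 ygi54 zgi28) (kgi xgi30 ygi49 zgi52) (kgi xgi30 ygi49 zgi54) (kgi xgi30 ygi49 zgi51) (kgi xgi23 ygi53 zgi58) (kgi xgi13 ygi34 zgi49) (kgi xgi22 ygi50 zgi42) (kgi xgi30 ygi50 zgi0) (kgi xgi22 ygi50 zgi40) (kgi xgi30 ygi38 zgi5) (kgi xgi22 ygi15 zgi3) (kgi xgi13 ygi34 zgi54) (kgi xgi21 ygi55 zgi18) (kgi xgi23 ygi40 zgi39) (kgi xgi24 ygi42 zgi30) (kgi xgi13 ygi37 zgi35) (kgi xgi23 ygi20 zgi9) (kgi xgi13 ygi55 zgi9) (kgi xgi22 ygi16 zgi58) (kgi xgi22 ygi57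 zgi12) (kgi xgi14 ygi40 zgi28) (kgi xgi14 ygi0 zgi61) (kgi xgi29 ygi51 zgi42) (kgi xgi23 ygi57 zgi6) (kgi xgi23 ygi12 zgi24) (kgi xgi23 ygi12 zgi15) (kgi xgi28 ygi17 zgi15) (kgi xgi30 ygi50 zgi11) (kgi xgi13 ygi35 zgi3) (kgi xgi30 ygi43 zgi58) (kgi xgi30 ygi36 zgi22) (kgi xgi22 ygi20 zgi33) (kgi xgi22 ygi20 zgi48) (kgi xgi30 ygi50 zgi15) (kgi xgi23 ygi56 zgi55) (kgi xgi14 ygi10 zgi20) (kgi xgi13 ygi35 zgi6) (kgi xgi14 ygi28 zgi46) (kgi xgi20 ygi48 zgi14) (kgi xgi17 ygi1 zgi14) (kgi xgi30 ygi50 zgi19) (kgi xgi23 ygi0 zgi39) (kgi xgi23 ygi12 zgi23) (kgi xgi13 ygi35 zgi9) (kgi xgi14 ygi40 zgi50) (kgi xgi24 ygi30 zgi28) (kgi xgi14 ygi40 zgi48) (kgi xgi20 ygi47 zgi47) (kgi xgi23 ygi15 zgi38) (kgi xgi22 ygi42 zgi0) (kgi xgi22 ygi16 zgi36)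 (kgi xgi13 ygi36 zgi13) (kgi xgi13 ygi35 zgi35) (kgi xgi23 ygi4 zgi23) (kgi xgi13 ygi37 zgi4) (kgi xgi13 ygi35 zgi20)) (@D3.rec (fun _ => Pt) (kgi xgi22 ygi16 zgi19) (kgi xgi30 ygi50 zgi23) (kgi xgi22 ygi16 zgi28) (kgi xgi24 ygi6 zgi57) (kgi xgi13 ygi35 zgi28) (kgi xgi20 ygi41 zgi50) (kgi xgi13 ygi35 zgi25) (kgi xgi24 ygi6 zgi53) (kgi xgi24 ygi8 zgi54) (kgi xgi13 ygi45 zgi30) (kgi xgi13 ygi35 zgi36) (kgi xgi30 ygi23 zgi54) (kgi xgi13 ygi35 zgi23) (kgi xgi18 ygi51 zgi18) (kgi xgi24 ygi6 zgi54) (kgi xgi30 ygi50 zgi31) (kgi xgi24 ygi6 zgi55) (kgi xgi29 ygi54 zgi48) (kgi xgi13 ygi35 zgi27) (kgi xgi22 ygi16 zgi10) (kgi xgi30 ygi50 zgi36) (kgi xgi22 ygi51 zgi9) (kgi xgi30 ygi37 zgi44) (kgi xgi13 ygi45 zgi29) (kgi xgi13 ygi35 zgi31) (kgi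 xgi22 ygi39 zgi50) (kgi xgi30 ygi22 zgi22) (kgi xgi22 ygi39 zgi48) (kgi xgi28 ygi17 zgi20) (kgi xgi22 ygi36 zgi32) (kgi xgi23 ygi18 zgi60) (kgi xgi30 ygi32 zgi60) (kgi xgi30 ygi50 zgi49) (kgi xgi13 ygi35 zgi47) (kgi xgi22 ygi24 zgi46) (kgi xgi15 ygi40 zgi5) (kgi xgi28 ygi21 zgi23) (kgi xgi22 ygi52 zgi11) (kgi xgi13 ygi35 zgi46) (kgi xgi13 ygi35 zgi55) (kgi xgi13 ygi35 zgi53) (kgi xgi23 ygi9 zgi54) (kgi xgi30 ygi24 zgi32) (kgi xgi13 ygi35 zgi50) (kgi xgi22 ygi49 zgi14) (kgi xgi22 ygi49 zgi19) (kgi xgi23 ygi10 zgi12) (kgi xgi16 ygi46 zgi11) (kgi xgi19 ygi39 zgi61) (kgi xgi24 ygi56 zgi18) (kgi xgi16 ygi0 zgi22) (kgi xgi26 ygi46 zgi19) (kgi xgi16 ygi43 zgi14) (kgi xgi30 ygi50 zgi59) (kgi xgi19 ygi37 zgi20) (kgi xgi29 ygi39 zgi47) (kgi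 xgi13 ygi35 zgi56) (kgi xgi29 ygi19 zgi3) (kgi xgi23 ygi11 zgi61) (kgi xgi27 ygi50 zgi51) (kgi xgi13 ygi35 zgi59) (kgi xgi30 ygi50 zgi61))
def fi_g_23 : D2 → D3 → Pt := @D2.rec (fun _ => D3 → Pt) (@D3.rec (fun _ => Pt) (kgi xgi25 ygi18 zgi30) (kgi xgi23 ygi46 zgi36) (kgi xgi30 ygi51 zgi0) (kgi xgi23 ygi0 zgi0) (kgi xgi22 ygi58 zgi54) (kgi xgi29 ygi28 zgi42) (kgi xgi26 ygi49 zgi8) (kgi xgi26 ygi56 zgi7) (kgi xgi29 ygi2 zgi57) (kgi xgi22 ygi59 zgi1) (kgi xgi29 ygi20 zgi14) (kgi xgi24 ygi18 zgi60) (kgi xgi26 ygi49 zgi17) (kgi xgi22 ygi59 zgi61) (kgi xgi22 ygi37 zgi14) (kgi xgi24 ygi9 zgi45) (kgi xgi20 ygi46 zgi35) (kgi xgi13 ygi36 zgi9) (kgi xgi23 ygi11 zgi42) (kgi xgi30 ygi26 zgi37) (kgi xgi28 ygi9 zgi52) (kgi xgi28 ygi38 zgi55) (kgi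 xgi19 ygi34 zgi22) (kgi xgi20 ygi11 zgi40) (kgi xgi23 ygi54 zgi23) (kgi xgi13 ygi36 zgi11) (kgi xgi13 ygi36 zgi15) (kgi xgi24 ygi7 zgi45) (kgi xgi19 ygi8 zgi29) (kgi xgi24 ygi22 zgi12) (kgi xgi23 ygi11 zgi56) (kgi xgi19 ygi8 zgi9) (kgi xgi30 ygi44 zgi16) (kgi xgi19 ygi8 zgi7) (kgi xgi29 ygi37 zgi29) (kgi xgi22 ygi57 zgi53) (kgi xgi30 ygi51 zgi11) (kgi xgi14 ygi19 zgi19) (kgi xgi13 ygi36 zgi16) (kgi xgi22 ygi58 zgi46) (kgi xgi29 ygi52 zgi41) (kgi xgi20 ygi11 zgi59) (kgi xgi22 ygi39 zgi3) (kgi xgi30 ygi36 zgi27) (kgi xgi30 ygi50 zgi24) (kgi xgi29 ygi39 zgi38) (kgi xgi23 ygi11 zgi55) (kgi xgi26 ygi26 zgi17) (kgi xgi23 ygi1 zgi26) (kgi xgi17 ygi25 zgi8) (kgi xgi17 ygi26 zgi8) (kgi xgi15 ygi32 zgi41) (kgi xgi23 ygi1 zgi24) (kgi xgi17 ygi24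 zgi11) (kgi xgi30 ygi51 zgi23) (kgi xgi26 ygi25 zgi28) (kgi xgi30 ygi51 zgi22) (kgi xgi25 ygi57 zgi38) (kgi xgi19 ygi37 zgi33) (kgi xgi17 ygi24 zgi8) (kgi xgi19 ygi40 zgi2) (kgi xgi13 ygi36 zgi31)) (@D3.rec (fun _ => Pt) (kgi xgi14 ygi0 zgi34) (kgi xgi14 ygi1 zgi51) (kgi xgi28 ygi41 zgi10) (kgi xgi14 ygi29 zgi16) (kgi xgi15 ygi22 zgi58) (kgi xgi13 ygi36 zgi37) (kgi xgi24 ygi37 zgi10) (kgi xgi24 ygi37 zgi8) (kgi xgi28 ygi50 zgi54) (kgi xgi22 ygi20 zgi31) (kgi xgi22 ygi21 zgi2) (kgi xgi30 ygi43 zgi50) (kgi xgi29 ygi29 zgi27) (kgi xgi20 ygi43 zgi49) (kgi xgi19 ygi45 zgi23) (kgi xgi14 ygi48 zgi61) (kgi xgi19 ygi47 zgi53) (kgi xgi30 ygi26 zgi54) (kgi xgi22 ygi22 zgi59) (kgi xgi14 ygi31 zgi13) (kgi xgi13 ygi43 zgi53) (kgi xgi27 ygi23 zgi53)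 (kgi xgi25 ygi25 zgi60) (kgi xgi23 ygi0 zgi53) (kgi xgi22 ygi22 zgi55) (kgi xgi14 ygi22 zgi24) (kgi xgi13 ygi36 zgi57) (kgi xgi23 ygi0 zgi48) (kgi xgi20 ygi43 zgi12) (kgi xgi30 ygi51 zgi34) (kgi xgi16 ygi28 zgi40) (kgi xgi20 ygi41 zgi31) (kgi xgi13 ygi36 zgi60) (kgi xgi16 ygi45 zgi38) (kgi xgi17 ygi36 zgi3) (kgi xgi30 ygi9 zgi44) (kgi xgi13 ygi37 zgi0) (kgi xgi19 ygi45 zgi12) (kgi xgi30 ygi51 zgi42) (kgi xgi22 ygi22 zgi44) (kgi xgi24 ygi34 zgi38) (kgi xgi25 ygi35 zgi21) (kgi xgi13 ygi37 zgi2) (kgi xgi29 ygi39 zgi13) (kgi xgi14 ygi31 zgi14) (kgi xgi25 ygi57 zgi29) (kgi xgi13 ygi37 zgi7) (kgi xgi17 ygi56 zgi24) (kgi xgi25 ygi50 zgi8) (kgi xgi13 ygi37 zgi10) (kgi xgi14 ygi50 zgi35) (kgi xgi13 ygi37 zgi12) (kgi xgi21 ygi25 zgi4) (kgi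 xgi17 ygi36 zgi30) (kgi xgi24 ygi30 zgi53) (kgi xgi17 ygi38 zgi33) (kgi xgi22 ygi43 zgi48) (kgi xgi13 ygi37 zgi17) (kgi xgi23 ygi2 zgi6) (kgi xgi21 ygi56 zgi51) (kgi xgi25 ygi44 zgi9) (kgi xgi13 ygi37 zgi19)) (@D3.rec (fun _ => Pt) (kgi xgi13 ygi37 zgi28) (kgi xgi13 ygi37 zgi26) (kgi xgi14 ygi9 zgi36) (kgi xgi14 ygi9 zgi34) (kgi xgi13 ygi37 zgi25) (kgi xgi18 ygi36 zgi60) (kgi xgi23 ygi1 zgi57) (kgi xgi30 ygi2 zgi3) (kgi xgi18 ygi29 zgi10) (kgi xgi23 ygi31 zgi42) (kgi xgi30 ygi51 zgi60) (kgi xgi30 ygi51 zgi61) (kgi xgi15 ygi11 zgi54) (kgi xgi30 ygi51 zgi57) (kgi xgi21 ygi56 zgi31) (kgi xgi30 ygi43 zgi54) (kgi xgi26 ygi55 zgi43) (kgi xgi24 ygi5 zgi31) (kgi xgi13 ygi37 zgi34) (kgi xgi22 ygi27 zgi38) (kgi xgi22 ygi27 zgi43) (kgi xgi22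 ygi27 zgi3) (kgi xgi23 ygi38 zgi16) (kgi xgi18 ygi40 zgi12) (kgi xgi30 ygi52 zgi4) (kgi xgi23 ygi13 zgi35) (kgi xgi16 ygi27 zgi18) (kgi xgi17 ygi16 zgi15) (kgi xgi24 ygi30 zgi44) (kgi xgi23 ygi24 zgi40) (kgi xgi21 ygi24 zgi51) (kgi xgi29 ygi52 zgi38) (kgi xgi22 ygi45 zgi59) (kgi xgi13 ygi37 zgi44) (kgi xgi21 ygi31 zgi31) (kgi xgi30 ygi52 zgi11) (kgi xgi13 ygi37 zgi45) (kgi xgi23 ygi3 zgi6) (kgi xgi30 ygi52 zgi16) (kgi xgi23 ygi3 zgi3) (kgi xgi21 ygi33 zgi24) (kgi xgi30 ygi0 zgi52) (kgi xgi22 ygi10 zgi13) (kgi xgi21 ygi49 zgi16) (kgi xgi13 ygi37 zgi50) (kgi xgi17 ygi16 zgi26) (kgi xgi22 ygi10 zgi12) (kgi xgi21 ygi26 zgi59) (kgi xgi19 ygi50 zgi29) (kgi xgi21 ygi26 zgi60) (kgi xgi21 ygi31 zgi40) (kgi xgi25 ygi37 zgi14) (kgi xgi25 ygi38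 zgi58) (kgi xgi16 ygi48 zgi43) (kgi xgi15 ygi47 zgi20) (kgi xgi13 ygi37 zgi58) (kgi xgi13 ygi38 zgi6) (kgi xgi13 ygi38 zgi4) (kgi xgi13 ygi50 zgi27) (kgi xgi13 ygi37 zgi61) (kgi xgi30 ygi23 zgi5) (kgi xgi13 ygi38 zgi2)) (@D3.rec (fun _ => Pt) (kgi xgi13 ygi51 zgi47) (kgi xgi13 ygi51 zgi45) (kgi xgi30 ygi52 zgi27) (kgi xgi13 ygi38 zgi3) (kgi xgi23 ygi2 zgi39) (kgi xgi30 ygi14 zgi3) (kgi xgi23 ygi2 zgi36) (kgi xgi21 ygi6 zgi23) (kgi xgi23 ygi16 zgi15) (kgi xgi30 ygi47 zgi33) (kgi xgi15 ygi9 zgi53) (kgi xgi26 ygi8 zgi45) (kgi xgi23 ygi25 zgi59) (kgi xgi24 ygi31 zgi18) (kgi xgi30 ygi52 zgi41) (kgi xgi23 ygi46 zgi17) (kgi xgi13 ygi50 zgi9) (kgi xgi13 ygi49 zgi5) (kgi xgi13 ygi38 zgi17) (kgi xgi13 ygi50 zgi7) (kgi xgi21 ygi29 zgi50) (kgi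 xgi13 ygi54 zgi27) (kgi xgi24 ygi40 zgi1) (kgi xgi13 ygi38 zgi16) (kgi xgi27 ygi40 zgi45) (kgi xgi21 ygi29 zgi13) (kgi xgi16 ygi57 zgi5) (kgi xgi23 ygi13 zgi44) (kgi xgi22 ygi53 zgi52) (kgi xgi22 ygi38 zgi11) (kgi xgi24 ygi54 zgi30) (kgi xgi15 ygi8 zgi8) (kgi xgi21 ygi11 zgi41) (kgi xgi13 ygi38 zgi24) (kgi xgi30 ygi52 zgi48) (kgi xgi13 ygi57 zgi50) (kgi xgi21 ygi11 zgi42) (kgi xgi20 ygi51 zgi3) (kgi xgi24 ygi9 zgi25) (kgi xgi13 ygi38 zgi34) (kgi xgi23 ygi21 zgi50) (kgi xgi18 ygi36 zgi9) (kgi xgi19 ygi51 zgi24) (kgi xgi25 ygi2 zgi52) (kgi xgi13 ygi38 zgi42) (kgi xgi13 ygi47 zgi17) (kgi xgi13 ygi47 zgi13) (kgi xgi13 ygi39 zgi10) (kgi xgi17 ygi7 zgi41) (kgi xgi13 ygi38 zgi49) (kgi xgi21 ygi41 zgi53) (kgi xgi18 ygi22 zgi43) (kgi xgi27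 ygi0 zgi57) (kgi xgi20 ygi35 zgi48) (kgi xgi18 ygi56 zgi34) (kgi xgi16 ygi24 zgi1) (kgi xgi27 ygi13 zgi49) (kgi xgi29 ygi31 zgi48) (kgi xgi16 ygi23 zgi61) (kgi xgi20 ygi1 zgi38) (kgi xgi18 ygi43 zgi41) (kgi xgi18 ygi56 zgi31)) (@D3.rec (fun _ => Pt) (kgi xgi25 ygi53 zgi6) (kgi xgi26 ygi51 zgi54) (kgi xgi13 ygi38 zgi59) (kgi xgi22 ygi46 zgi26) (kgi xgi13 ygi47 zgi6) (kgi xgi20 ygi6 zgi19) (kgi xgi22 ygi46 zgi19) (kgi xgi13 ygi39 zgi0) (kgi xgi22 ygi46 zgi18) (kgi xgi30 ygi23 zgi3) (kgi xgi13 ygi39 zgi1) (kgi xgi22 ygi56 zgi33) (kgi xgi25 ygi52 zgi51) (kgi xgi20 ygi30 zgi6) (kgi xgi20 ygi30 zgi13) (kgi xgi22 ygi46 zgi33) (kgi xgi13 ygi39 zgi7) (kgi xgi30 ygi52 zgi56) (kgi xgi30 ygi52 zgi57) (kgi xgi20 ygi11 zgi28) (kgi xgi16 ygi24 zgi41)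 (kgi xgi13 ygi39 zgi12) (kgi xgi16 ygi55 zgi7) (kgi xgi22 ygi30 zgi5) (kgi xgi23 ygi36 zgi29) (kgi xgi22 ygi58 zgi0) (kgi xgi29 ygi3 zgi1) (kgi xgi13 ygi39 zgi20) (kgi xgi14 ygi26 zgi36) (kgi xgi23 ygi50 zgi47) (kgi xgi30 ygi53 zgi1) (kgi xgi13 ygi39 zgi21) (kgi xgi28 ygi24 zgi3) (kgi xgi28 ygi22 zgi50) (kgi xgi29 ygi21 zgi19) (kgi xgi30 ygi53 zgi8) (kgi xgi29 ygi42 zgi9) (kgi xgi30 ygi53 zgi7) (kgi xgi28 ygi20 zgi27) (kgi xgi16 ygi21 zgi9) (kgi xgi30 ygi44 zgi24) (kgi xgi22 ygi53 zgi53) (kgi xgi23 ygi10 zgi6) (kgi xgi13 ygi39 zgi31) (kgi xgi30 ygi48 zgi2) (kgi xgi30 ygi43 zgi44) (kgi xgi24 ygi46 zgi60) (kgi xgi30 ygi53 zgi13) (kgi xgi22 ygi54 zgi2) (kgi xgi20 ygi1 zgi59) (kgi xgi30 ygi53 zgi16) (kgi xgi24 ygi8 zgi12) (kgi xgi18 ygi53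 zgi34) (kgi xgi29 ygi42 zgi7) (kgi xgi13 ygi39 zgi37) (kgi xgi13 ygi42 zgi37) (kgi xgi29 ygi53 zgi1) (kgi xgi24 ygi59 zgi15) (kgi xgi30 ygi32 zgi4) (kgi xgi30 ygi53 zgi22) (kgi xgi17 ygi25 zgi59) (kgi xgi13 ygi39 zgi40)) (@D3.rec (fun _ => Pt) (kgi xgi13 ygi42 zgi32) (kgi xgi13 ygi42 zgi50) (kgi xgi23 ygi10 zgi45) (kgi xgi13 ygi39 zgi45) (kgi xgi13 ygi42 zgi45) (kgi xgi23 ygi6 zgi7) (kgi xgi29 ygi42 zgi16) (kgi xgi26 ygi3 zgi42) (kgi xgi13 ygi39 zgi48) (kgi xgi13 ygi42 zgi59) (kgi xgi13 ygi42 zgi56) (kgi xgi26 ygi49 zgi55) (kgi xgi29 ygi30 zgi47) (kgi xgi13 ygi39 zgi51) (kgi xgi13 ygi43 zgi8) (kgi xgi13 ygi43 zgi5) (kgi xgi25 ygi59 zgi34) (kgi xgi13 ygi39 zgi54) (kgi xgi30 ygi53 zgi32) (kgi xgi29 ygi43 zgi1) (kgi xgi30 ygi53 zgi35)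 (kgi xgi29 ygi42 zgi61) (kgi xgi29 ygi41 zgi14) (kgi xgi30 ygi53 zgi37) (kgi xgi13 ygi39 zgi57) (kgi xgi13 ygi42 zgi17) (kgi xgi26 ygi23 zgi49) (kgi xgi13 ygi39 zgi61) (kgi xgi22 ygi56 zgi4) (kgi xgi30 ygi27 zgi54) (kgi xgi13 ygi40 zgi1) (kgi xgi13 ygi43 zgi49) (kgi xgi13 ygi43 zgi47) (kgi xgi13 ygi40 zgi4) (kgi xgi29 ygi54 zgi2) (kgi xgi13 ygi40 zgi6) (kgi xgi13 ygi44 zgi2) (kgi xgi13 ygi43 zgi61) (kgi xgi13 ygi44 zgi15) (kgi xgi13 ygi44 zgi13) (kgi xgi23 ygi46 zgi33) (kgi xgi19 ygi30 zgi58) (kgi xgi20 ygi28 zgi43) (kgi xgi28 ygi44 zgi17) (kgi xgi29 ygi41 zgi8) (kgi xgi15 ygi31 zgi10) (kgi xgi13 ygi40 zgi14) (kgi xgi13 ygi44 zgi35) (kgi xgi13 ygi44 zgi33) (kgi xgi23 ygi11 zgi31) (kgi xgi22 ygi16 zgi30) (kgi xgi13 ygi40 zgi19) (kgi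 xgi23 ygi12 zgi6) (kgi xgi24 ygi28 zgi20) (kgi xgi13 ygi40 zgi20) (kgi xgi24 ygi5 zgi50) (kgi xgi29 ygi7 zgi52) (kgi xgi30 ygi43 zgi55) (kgi xgi24 ygi11 zgi9) (kgi xgi30 ygi50 zgi12) (kgi xgi23 ygi56 zgi41) (kgi xgi14 ygi35 zgi39)) (@D3.rec (fun _ => Pt) (kgi xgi13 ygi49 zgi23) (kgi xgi22 ygi55 zgi24) (kgi xgi30 ygi43 zgi10) (kgi xgi25 ygi59 zgi30) (kgi xgi20 ygi34 zgi1) (kgi xgi20 ygi40 zgi13) (kgi xgi13 ygi40 zgi34) (kgi xgi16 ygi33 zgi56) (kgi xgi13 ygi40 zgi37) (kgi xgi13 ygi40 zgi41) (kgi xgi24 ygi55 zgi20) (kgi xgi18 ygi36 zgi27) (kgi xgi30 ygi53 zgi59) (kgi xgi14 ygi10 zgi46) (kgi xgi22 ygi44 zgi2) (kgi xgi13 ygi49 zgi4) (kgi xgi14 ygi19 zgi55) (kgi xgi13 ygi40 zgi45) (kgi xgi14 ygi42 zgi56) (kgi xgi26 ygi18 zgi23) (kgi xgi28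 ygi10 zgi46) (kgi xgi14 ygi25 zgi31) (kgi xgi22 ygi51 zgi2) (kgi xgi18 ygi19 zgi55) (kgi xgi22 ygi51 zgi7) (kgi xgi20 ygi47 zgi29) (kgi xgi22 ygi10 zgi45) (kgi xgi27 ygi20 zgi7) (kgi xgi22 ygi41 zgi46) (kgi xgi22 ygi29 zgi7) (kgi xgi28 ygi8 zgi51) (kgi xgi17 ygi46 zgi43) (kgi xgi22 ygi49 zgi34) (kgi xgi28 ygi10 zgi44) (kgi xgi30 ygi12 zgi5) (kgi xgi30 ygi54 zgi3) (kgi xgi18 ygi47 zgi41) (kgi xgi13 ygi41 zgi32) (kgi xgi22 ygi50 zgi8) (kgi xgi22 ygi49 zgi58) (kgi xgi13 ygi41 zgi9) (kgi xgi22 ygi49 zgi56) (kgi xgi22 ygi28 zgi48) (kgi xgi25 ygi18 zgi14) (kgi xgi18 ygi47 zgi2) (kgi xgi16 ygi22 zgi44) (kgi xgi13 ygi41 zgi11) (kgi xgi22 ygi50 zgi6) (kgi xgi13 ygi41 zgi12) (kgi xgi22 ygi50 zgi14) (kgi xgi17 ygi23 zgi8) (kgi xgi20 ygi49 zgi16)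 (kgi xgi29 ygi23 zgi61) (kgi xgi13 ygi41 zgi14) (kgi xgi21 ygi52 zgi61) (kgi xgi22 ygi50 zgi19) (kgi xgi14 ygi34 zgi57) (kgi xgi28 ygi21 zgi8) (kgi xgi30 ygi7 zgi31) (kgi xgi28 ygi3 zgi48) (kgi xgi26 ygi19 zgi49) (kgi xgi28 ygi17 zgi12)) (@D3.rec (fun _ => Pt) (kgi xgi22 ygi22 zgi45) (kgi xgi20 ygi33 zgi16) (kgi xgi20 ygi23 zgi3) (kgi xgi23 ygi6 zgi51) (kgi xgi24 ygi40 zgi24) (kgi xgi30 ygi15 zgi34) (kgi xgi13 ygi47 zgi51) (kgi xgi22 ygi18 zgi15) (kgi xgi28 ygi38 zgi27) (kgi xgi24 ygi47 zgi23) (kgi xgi29 ygi41 zgi2) (kgi xgi27 ygi59 zgi22) (kgi xgi27 ygi50 zgi30) (kgi xgi24 ygi55 zgi33) (kgi xgi30 ygi54 zgi16) (kgi xgi22 ygi52 zgi0) (kgi xgi18 ygi41 zgi49) (kgi xgi13 ygi41 zgi48) (kgi xgi22 ygi52 zgi5) (kgi xgi22 ygi52 zgi3) (kgi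 xgi13 ygi41 zgi49) (kgi xgi21 ygi28 zgi59) (kgi xgi29 ygi54 zgi58) (kgi xgi13 ygi41 zgi54) (kgi xgi13 ygi41 zgi57) (kgi xgi22 ygi51 zgi35) (kgi xgi20 ygi45 zgi25) (kgi xgi27 ygi21 zgi15) (kgi xgi19 ygi50 zgi7) (kgi xgi13 ygi41 zgi60) (kgi xgi30 ygi54 zgi20) (kgi xgi30 ygi22 zgi48) (kgi xgi28 ygi47 zgi9) (kgi xgi20 ygi45 zgi42) (kgi xgi30 ygi54 zgi23) (kgi xgi18 ygi15 zgi55) (kgi xgi13 ygi42 zgi1) (kgi xgi13 ygi48 zgi35) (kgi xgi23 ygi21 zgi30) (kgi xgi16 ygi31 zgi16) (kgi xgi24 ygi59 zgi46) (kgi xgi30 ygi54 zgi28) (kgi xgi29 ygi41 zgi9) (kgi xgi24 ygi5 zgi38) (kgi xgi30 ygi46 zgi56) (kgi xgi13 ygi42 zgi7) (kgi xgi29 ygi52 zgi56) (kgi xgi30 ygi53 zgi31) (kgi xgi23 ygi16 zgi14) (kgi xgi25 ygi1 zgi60) (kgi xgi20 ygi50 zgi13) (kgi xgi16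 ygi43 zgi23) (kgi xgi23 ygi10 zgi21) (kgi xgi13 ygi42 zgi10) (kgi xgi30 ygi46 zgi5) (kgi xgi13 ygi42 zgi11) (kgi xgi28 ygi49 zgi27) (kgi xgi25 ygi56 zgi1) (kgi xgi13 ygi42 zgi12) (kgi xgi26 ygi31 zgi0) (kgi xgi26 ygi25 zgi35) (kgi xgi27 ygi42 zgi22)) (@D3.rec (fun _ => Pt) (kgi xgi25 ygi25 zgi56) (kgi xgi17 ygi25 zgi35) (kgi xgi13 ygi42 zgi14) (kgi xgi30 ygi46 zgi7) (kgi xgi24 ygi31 zgi17) (kgi xgi28 ygi17 zgi18) (kgi xgi30 ygi53 zgi40) (kgi xgi30 ygi54 zgi39) (kgi xgi13 ygi42 zgi22) (kgi xgi26 ygi29 zgi9) (kgi xgi30 ygi54 zgi38) (kgi xgi23 ygi46 zgi44) (kgi xgi30 ygi54 zgi41) (kgi xgi25 ygi58 zgi18) (kgi xgi13 ygi42 zgi25) (kgi xgi24 ygi35 zgi3) (kgi xgi24 ygi35 zgi1) (kgi xgi30 ygi46 zgi14) (kgi xgi27 ygi9 zgi57) (kgi xgi30 ygi54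 zgi45) (kgi xgi30 ygi54 zgi31) (kgi xgi19 ygi28 zgi31) (kgi xgi13 ygi42 zgi31) (kgi xgi30 ygi53 zgi24) (kgi xgi28 ygi28 zgi53) (kgi xgi23 ygi10 zgi28) (kgi xgi13 ygi43 zgi46) (kgi xgi23 ygi19 zgi57) (kgi xgi30 ygi53 zgi44) (kgi xgi15 ygi12 zgi52) (kgi xgi22 ygi55 zgi12) (kgi xgi29 ygi55 zgi26) (kgi xgi16 ygi32 zgi24) (kgi xgi14 ygi51 zgi32) (kgi xgi13 ygi42 zgi38) (kgi xgi14 ygi51 zgi31) (kgi xgi26 ygi6 zgi60) (kgi xgi24 ygi12 zgi54) (kgi xgi22 ygi48 zgi32) (kgi xgi14 ygi25 zgi22) (kgi xgi22 ygi55 zgi34) (kgi xgi27 ygi40 zgi36) (kgi xgi27 ygi53 zgi1) (kgi xgi24 ygi13 zgi16) (kgi xgi13 ygi42 zgi43) (kgi xgi29 ygi52 zgi54) (kgi xgi20 ygi2 zgi43) (kgi xgi13 ygi42 zgi44) (kgi xgi30 ygi53 zgi25) (kgi xgi30 ygi16 zgi54) (kgi xgi23 ygi10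 zgi41) (kgi xgi13 ygi43 zgi60) (kgi xgi29 ygi53 zgi12) (kgi xgi30 ygi53 zgi46) (kgi xgi13 ygi42 zgi47) (kgi xgi29 ygi29 zgi39) (kgi xgi25 ygi25 zgi29) (kgi xgi20 ygi8 zgi8) (kgi xgi13 ygi42 zgi51) (kgi xgi20 ygi8 zgi10) (kgi xgi25 ygi43 zgi32) (kgi xgi30 ygi53 zgi41)) (@D3.rec (fun _ => Pt) (kgi xgi30 ygi55 zgi3) (kgi xgi13 ygi42 zgi55) (kgi xgi30 ygi53 zgi27) (kgi xgi25 ygi53 zgi22) (kgi xgi25 ygi56 zgi36) (kgi xgi22 ygi47 zgi35) (kgi xgi27 ygi40 zgi33) (kgi xgi30 ygi55 zgi6) (kgi xgi30 ygi45 zgi61) (kgi xgi24 ygi40 zgi27) (kgi xgi28 ygi45 zgi60) (kgi xgi22 ygi51 zgi28) (kgi xgi26 ygi31 zgi7) (kgi xgi30 ygi55 zgi8) (kgi xgi24 ygi5 zgi7) (kgi xgi13 ygi43 zgi1) (kgi xgi26 ygi21 zgi21) (kgi xgi26 ygi31 zgi19) (kgi xgi26 ygi30 zgi20)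 (kgi xgi26 ygi30 zgi59) (kgi xgi30 ygi55 zgi10) (kgi xgi25 ygi51 zgi30) (kgi xgi13 ygi43 zgi4) (kgi xgi30 ygi48 zgi23) (kgi xgi30 ygi46 zgi21) (kgi xgi13 ygi43 zgi14) (kgi xgi13 ygi47 zgi42) (kgi xgi16 ygi32 zgi11) (kgi xgi30 ygi53 zgi20) (kgi xgi25 ygi59 zgi29) (kgi xgi30 ygi32 zgi3) (kgi xgi13 ygi43 zgi7) (kgi xgi13 ygi48 zgi6) (kgi xgi23 ygi18 zgi26) (kgi xgi13 ygi48 zgi4) (kgi xgi25 ygi24 zgi30) (kgi xgi13 ygi43 zgi15) (kgi xgi23 ygi55 zgi58) (kgi xgi13 ygi43 zgi19) (kgi xgi24 ygi4 zgi61) (kgi xgi19 ygi24 zgi48) (kgi xgi30 ygi53 zgi47) (kgi xgi13 ygi43 zgi18) (kgi xgi24 ygi39 zgi40) (kgi xgi24 ygi39 zgi41) (kgi xgi29 ygi41 zgi26) (kgi xgi13 ygi43 zgi21) (kgi xgi28 ygi41 zgi51) (kgi xgi30 ygi53 zgi36) (kgi xgi13 ygi43 zgi22) (kgi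 xgi26 ygi23 zgi52) (kgi xgi27 ygi18 zgi2) (kgi xgi30 ygi44 zgi3) (kgi xgi23 ygi10 zgi2) (kgi xgi22 ygi53 zgi42) (kgi xgi30 ygi54 zgi35) (kgi xgi30 ygi54 zgi32) (kgi xgi22 ygi59 zgi41) (kgi xgi13 ygi43 zgi39) (kgi xgi22 ygi56 zgi39) (kgi xgi14 ygi25 zgi39) (kgi xgi13 ygi43 zgi30)) (@D3.rec (fun _ => Pt) (kgi xgi14 ygi25 zgi33) (kgi xgi15 ygi59 zgi22) (kgi xgi23 ygi9 zgi56) (kgi xgi13 ygi43 zgi32) (kgi xgi26 ygi23 zgi26) (kgi xgi26 ygi9 zgi6) (kgi xgi23 ygi4 zgi45) (kgi xgi16 ygi19 zgi52) (kgi xgi26 ygi6 zgi53) (kgi xgi13 ygi43 zgi38) (kgi xgi26 ygi9 zgi7) (kgi xgi14 ygi25 zgi36) (kgi xgi26 ygi49 zgi44) (kgi xgi25 ygi29 zgi8) (kgi xgi25 ygi55 zgi16) (kgi xgi13 ygi43 zgi41) (kgi xgi16 ygi26 zgi20) (kgi xgi27 ygi41 zgi37) (kgi xgi20 ygi52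 zgi40) (kgi xgi18 ygi59 zgi16) (kgi xgi25 ygi55 zgi32) (kgi xgi30 ygi55 zgi36) (kgi xgi30 ygi46 zgi16) (kgi xgi28 ygi9 zgi47) (kgi xgi21 ygi0 zgi17) (kgi xgi30 ygi55 zgi38) (kgi xgi27 ygi15 zgi49) (kgi xgi30 ygi55 zgi27) (kgi xgi23 ygi4 zgi60) (kgi xgi26 ygi8 zgi58) (kgi xgi24 ygi59 zgi44) (kgi xgi30 ygi55 zgi34) (kgi xgi17 ygi2 zgi30) (kgi xgi27 ygi9 zgi36) (kgi xgi16 ygi31 zgi12) (kgi xgi13 ygi43 zgi56) (kgi xgi20 ygi36 zgi54) (kgi xgi19 ygi38 zgi61) (kgi xgi30 ygi55 zgi42) (kgi xgi25 ygi58 zgi27) (kgi xgi20 ygi35 zgi55) (kgi xgi23 ygi5 zgi2) (kgi xgi21 ygi53 zgi33) (kgi xgi25 ygi54 zgi10) (kgi xgi30 ygi55 zgi46) (kgi xgi23 ygi8 zgi50) (kgi xgi13 ygi44 zgi1) (kgi xgi20 ygi15 zgi31) (kgi xgi22 ygi3 zgi11) (kgi xgi13 ygi44 zgi7) (kgi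 xgi14 ygi25 zgi46) (kgi xgi22 ygi32 zgi52) (kgi xgi13 ygi44 zgi10) (kgi xgi15 ygi55 zgi18) (kgi xgi23 ygi55 zgi39) (kgi xgi23 ygi29 zgi11) (kgi xgi23 ygi43 zgi49) (kgi xgi19 ygi56 zgi39) (kgi xgi14 ygi51 zgi46) (kgi xgi13 ygi44 zgi17) (kgi xgi22 ygi38 zgi49) (kgi xgi22 ygi38 zgi47)) (@D3.rec (fun _ => Pt) (kgi xgi13 ygi44 zgi25) (kgi xgi22 ygi36 zgi5) (kgi xgi14 ygi51 zgi59) (kgi xgi20 ygi28 zgi51) (kgi xgi22 ygi32 zgi28) (kgi xgi14 ygi51 zgi61) (kgi xgi19 ygi56 zgi58) (kgi xgi30 ygi55 zgi51) (kgi xgi24 ygi4 zgi58) (kgi xgi23 ygi56 zgi44) (kgi xgi24 ygi9 zgi30) (kgi xgi13 ygi44 zgi28) (kgi xgi22 ygi23 zgi17) (kgi xgi14 ygi18 zgi41) (kgi xgi14 ygi30 zgi34) (kgi xgi13 ygi44 zgi31) (kgi xgi29 ygi27 zgi51) (kgi xgi27 ygi36 zgi49) (kgi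 xgi30 ygi26 zgi7) (kgi xgi13 ygi44 zgi32) (kgi xgi24 ygi39 zgi9) (kgi xgi30 ygi9 zgi48) (kgi xgi29 ygi41 zgi29) (kgi xgi14 ygi29 zgi45) (kgi xgi14 ygi30 zgi28) (kgi xgi22 ygi36 zgi3) (kgi xgi30 ygi55 zgi61) (kgi xgi28 ygi30 zgi33) (kgi xgi24 ygi4 zgi44) (kgi xgi14 ygi30 zgi12) (kgi xgi15 ygi46 zgi55) (kgi xgi23 ygi5 zgi50) (kgi xgi27 ygi8 zgi49) (kgi xgi23 ygi54 zgi41) (kgi xgi30 ygi51 zgi15) (kgi xgi18 ygi55 zgi15) (kgi xgi23 ygi55 zgi9) (kgi xgi23 ygi24 zgi51) (kgi xgi22 ygi29 zgi44) (kgi xgi22 ygi17 zgi11) (kgi xgi13 ygi56 zgi15) (kgi xgi27 ygi56 zgi24) (kgi xgi22 ygi49 zgi29) (kgi xgi28 ygi17 zgi13) (kgi xgi13 ygi44 zgi57) (kgi xgi22 ygi35 zgi33) (kgi xgi23 ygi6 zgi45) (kgi xgi20 ygi45 zgi11) (kgi xgi25 ygi25 zgi35) (kgi xgi28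 ygi22 zgi24) (kgi xgi23 ygi34 zgi7) (kgi xgi23 ygi52 zgi16) (kgi xgi21 ygi41 zgi17) (kgi xgi14 ygi53 zgi32) (kgi xgi22 ygi49 zgi18) (kgi xgi30 ygi51 zgi6) (kgi xgi22 ygi49 zgi28) (kgi xgi22 ygi30 zgi59) (kgi xgi22 ygi16 zgi31) (kgi xgi23 ygi19 zgi38) (kgi xgi23 ygi0 zgi32) (kgi xgi13 ygi45 zgi9)) (@D3.rec (fun _ => Pt) (kgi xgi22 ygi36 zgi30) (kgi xgi30 ygi34 zgi53) (kgi xgi22 ygi55 zgi10) (kgi xgi28 ygi22 zgi17) (kgi xgi13 ygi45 zgi14) (kgi xgi22 ygi17 zgi33) (kgi xgi23 ygi5 zgi51) (kgi xgi13 ygi45 zgi15) (kgi xgi27 ygi42 zgi60) (kgi xgi28 ygi21 zgi51) (kgi xgi22 ygi17 zgi1) (kgi xgi29 ygi23 zgi21) (kgi xgi23 ygi46 zgi41) (kgi xgi27 ygi43 zgi0) (kgi xgi20 ygi25 zgi0) (kgi xgi30 ygi29 zgi13) (kgi xgi22 ygi59 zgi7) (kgi xgi29 ygi30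 zgi16) (kgi xgi13 ygi45 zgi22) (kgi xgi30 ygi56 zgi22) (kgi xgi30 ygi56 zgi21) (kgi xgi19 ygi8 zgi12) (kgi xgi14 ygi37 zgi23) (kgi xgi24 ygi18 zgi52) (kgi xgi30 ygi36 zgi14) (kgi xgi13 ygi45 zgi26) (kgi xgi22 ygi35 zgi47) (kgi xgi30 ygi50 zgi14) (kgi xgi28 ygi33 zgi29) (kgi xgi14 ygi16 zgi30) (kgi xgi30 ygi39 zgi21) (kgi xgi28 ygi23 zgi7) (kgi xgi13 ygi45 zgi32) (kgi xgi30 ygi56 zgi31) (kgi xgi25 ygi50 zgi46) (kgi xgi28 ygi33 zgi56) (kgi xgi30 ygi56 zgi34) (kgi xgi25 ygi50 zgi44) (kgi xgi28 ygi21 zgi47) (kgi xgi28 ygi40 zgi57) (kgi xgi30 ygi56 zgi30) (kgi xgi18 ygi4 zgi57) (kgi xgi14 ygi38 zgi32) (kgi xgi22 ygi35 zgi50) (kgi xgi30 ygi36 zgi23) (kgi xgi13 ygi45 zgi37) (kgi xgi30 ygi56 zgi38) (kgi xgi14 ygi46 zgi49) (kgi xgi28 ygi42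 zgi16) (kgi xgi14 ygi47 zgi56) (kgi xgi21 ygi47 zgi33) (kgi xgi14 ygi18 zgi2) (kgi xgi30 ygi56 zgi43) (kgi xgi26 ygi51 zgi32) (kgi xgi20 ygi53 zgi46) (kgi xgi26 ygi10 zgi58) (kgi xgi13 ygi46 zgi1) (kgi xgi13 ygi45 zgi61) (kgi xgi13 ygi45 zgi53) (kgi xgi13 ygi45 zgi50) (kgi xgi24 ygi4 zgi11) (kgi xgi22 ygi25 zgi16)) (@D3.rec (fun _ => Pt) (kgi xgi17 ygi33 zgi56) (kgi xgi29 ygi12 zgi55) (kgi xgi13 ygi45 zgi60) (kgi xgi30 ygi9 zgi2) (kgi xgi21 ygi28 zgi17) (kgi xgi28 ygi14 zgi39) (kgi xgi22 ygi23 zgi10) (kgi xgi24 ygi15 zgi28) (kgi xgi23 ygi12 zgi58) (kgi xgi29 ygi44 zgi18) (kgi xgi21 ygi11 zgi35) (kgi xgi21 ygi43 zgi17) (kgi xgi28 ygi19 zgi10) (kgi xgi24 ygi14 zgi38) (kgi xgi20 ygi53 zgi13) (kgi xgi30 ygi22 zgi31) (kgi xgi25 ygi47 zgi24)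 (kgi xgi20 ygi42 zgi54) (kgi xgi13 ygi46 zgi10) (kgi xgi30 ygi21 zgi42) (kgi xgi29 ygi35 zgi14) (kgi xgi29 ygi39 zgi30) (kgi xgi23 ygi51 zgi34) (kgi xgi13 ygi46 zgi13) (kgi xgi22 ygi44 zgi27) (kgi xgi21 ygi48 zgi28) (kgi xgi17 ygi51 zgi49) (kgi xgi19 ygi5 zgi53) (kgi xgi14 ygi46 zgi51) (kgi xgi23 ygi23 zgi50) (kgi xgi15 ygi39 zgi1) (kgi xgi13 ygi46 zgi20) (kgi xgi15 ygi34 zgi4) (kgi xgi30 ygi33 zgi2) (kgi xgi30 ygi19 zgi1) (kgi xgi30 ygi18 zgi32) (kgi xgi30 ygi56 zgi61) (kgi xgi24 ygi8 zgi10) (kgi xgi16 ygi29 zgi23) (kgi xgi15 ygi13 zgi24) (kgi xgi15 ygi13 zgi16) (kgi xgi23 ygi20 zgi31) (kgi xgi24 ygi5 zgi44) (kgi xgi23 ygi17 zgi57) (kgi xgi23 ygi18 zgi6) (kgi xgi30 ygi32 zgi45) (kgi xgi23 ygi32 zgi1) (kgi xgi29 ygi18 zgi19) (kgi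 xgi23 ygi19 zgi49) (kgi xgi30 ygi32 zgi42) (kgi xgi26 ygi19 zgi11) (kgi xgi23 ygi32 zgi15) (kgi xgi23 ygi20 zgi38) (kgi xgi16 ygi59 zgi48) (kgi xgi28 ygi11 zgi39) (kgi xgi18 ygi22 zgi50) (kgi xgi23 ygi21 zgi4) (kgi xgi23 ygi2 zgi23) (kgi xgi30 ygi57 zgi9) (kgi xgi21 ygi24 zgi39) (kgi xgi13 ygi46 zgi42) (kgi xgi21 ygi28 zgi11)) (@D3.rec (fun _ => Pt) (kgi xgi25 ygi2 zgi51) (kgi xgi13 ygi47 zgi43) (kgi xgi13 ygi48 zgi56) (kgi xgi13 ygi46 zgi44) (kgi xgi30 ygi20 zgi37) (kgi xgi30 ygi32 zgi41) (kgi xgi30 ygi57 zgi14) (kgi xgi13 ygi48 zgi31) (kgi xgi13 ygi46 zgi50) (kgi xgi13 ygi48 zgi25) (kgi xgi13 ygi48 zgi22) (kgi xgi16 ygi27 zgi50) (kgi xgi23 ygi16 zgi28) (kgi xgi30 ygi57 zgi20) (kgi xgi13 ygi46 zgi53) (kgi xgi13 ygi48 zgi36) (kgi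 xgi13 ygi48 zgi33) (kgi xgi30 ygi57 zgi26) (kgi xgi30 ygi57 zgi24) (kgi xgi13 ygi46 zgi55) (kgi xgi23 ygi17 zgi26) (kgi xgi23 ygi17 zgi27) (kgi xgi13 ygi47 zgi48) (kgi xgi20 ygi6 zgi5) (kgi xgi23 ygi21 zgi32) (kgi xgi22 ygi34 zgi0) (kgi xgi30 ygi57 zgi33) (kgi xgi30 ygi55 zgi16) (kgi xgi13 ygi46 zgi60) (kgi xgi13 ygi49 zgi22) (kgi xgi13 ygi49 zgi19) (kgi xgi13 ygi46 zgi61) (kgi xgi23 ygi20 zgi33) (kgi xgi30 ygi57 zgi40) (kgi xgi30 ygi57 zgi17) (kgi xgi13 ygi47 zgi2) (kgi xgi13 ygi49 zgi40) (kgi xgi13 ygi49 zgi37) (kgi xgi20 ygi49 zgi15) (kgi xgi28 ygi22 zgi42) (kgi xgi30 ygi21 zgi29) (kgi xgi28 ygi44 zgi12) (kgi xgi13 ygi47 zgi7) (kgi xgi29 ygi24 zgi29) (kgi xgi23 ygi19 zgi21) (kgi xgi30 ygi57 zgi44) (kgi xgi22 ygi36 zgi11) (kgi xgi20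 ygi20 zgi0) (kgi xgi21 ygi30 zgi15) (kgi xgi30 ygi57 zgi45) (kgi xgi23 ygi42 zgi56) (kgi xgi27 ygi5 zgi19) (kgi xgi23 ygi42 zgi61) (kgi xgi24 ygi30 zgi39) (kgi xgi13 ygi47 zgi28) (kgi xgi25 ygi2 zgi19) (kgi xgi25 ygi1 zgi49) (kgi xgi16 ygi12 zgi2) (kgi xgi23 ygi10 zgi29) (kgi xgi16 ygi29 zgi25) (kgi xgi15 ygi10 zgi42) (kgi xgi25 ygi16 zgi15)) (@D3.rec (fun _ => Pt) (kgi xgi17 ygi2 zgi40) (kgi xgi13 ygi47 zgi35) (kgi xgi13 ygi47 zgi37) (kgi xgi30 ygi57 zgi52) (kgi xgi30 ygi35 zgi0) (kgi xgi30 ygi48 zgi20) (kgi xgi13 ygi47 zgi36) (kgi xgi24 ygi31 zgi41) (kgi xgi22 ygi53 zgi41) (kgi xgi30 ygi57 zgi59) (kgi xgi30 ygi57 zgi54) (kgi xgi23 ygi18 zgi15) (kgi xgi13 ygi47 zgi39) (kgi xgi30 ygi55 zgi17) (kgi xgi26 ygi22 zgi1) (kgi xgi30 ygi57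 zgi16) (kgi xgi13 ygi47 zgi40) (kgi xgi27 ygi57 zgi45) (kgi xgi30 ygi58 zgi10) (kgi xgi30 ygi58 zgi4) (kgi xgi30 ygi57 zgi53) (kgi xgi30 ygi53 zgi30) (kgi xgi30 ygi58 zgi14) (kgi xgi23 ygi15 zgi31) (kgi xgi30 ygi57 zgi25) (kgi xgi30 ygi47 zgi1) (kgi xgi23 ygi15 zgi30) (kgi xgi30 ygi55 zgi15) (kgi xgi13 ygi47 zgi45) (kgi xgi30 ygi57 zgi47) (kgi xgi23 ygi15 zgi23) (kgi xgi23 ygi15 zgi26) (kgi xgi13 ygi47 zgi46) (kgi xgi30 ygi2 zgi7) (kgi xgi30 ygi2 zgi6) (kgi xgi30 ygi58 zgi22) (kgi xgi30 ygi57 zgi12) (kgi xgi23 ygi17 zgi31) (kgi xgi23 ygi53 zgi46) (kgi xgi16 ygi10 zgi26) (kgi xgi22 ygi31 zgi47) (kgi xgi30 ygi58 zgi26) (kgi xgi23 ygi52 zgi23) (kgi xgi23 ygi19 zgi26) (kgi xgi18 ygi59 zgi56) (kgi xgi28 ygi25 zgi61) (kgi xgi30 ygi58 zgi27)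 (kgi xgi28 ygi25 zgi59) (kgi xgi30 ygi34 zgi60) (kgi xgi13 ygi47 zgi56) (kgi xgi29 ygi30 zgi8) (kgi xgi29 ygi30 zgi9) (kgi xgi24 ygi5 zgi8) (kgi xgi23 ygi2 zgi58) (kgi xgi23 ygi46 zgi20) (kgi xgi23 ygi32 zgi9) (kgi xgi23 ygi17 zgi24) (kgi xgi30 ygi57 zgi34) (kgi xgi13 ygi47 zgi61) (kgi xgi22 ygi29 zgi42) (kgi xgi22 ygi29 zgi39) (kgi xgi30 ygi58 zgi38)) (@D3.rec (fun _ => Pt) (kgi xgi30 ygi58 zgi36) (kgi xgi23 ygi17 zgi50) (kgi xgi24 ygi31 zgi40) (kgi xgi13 ygi48 zgi2) (kgi xgi30 ygi57 zgi15) (kgi xgi30 ygi20 zgi40) (kgi xgi13 ygi48 zgi41) (kgi xgi13 ygi48 zgi3) (kgi xgi28 ygi12 zgi20) (kgi xgi23 ygi16 zgi61) (kgi xgi23 ygi19 zgi25) (kgi xgi13 ygi49 zgi18) (kgi xgi23 ygi7 zgi48) (kgi xgi30 ygi57 zgi36) (kgi xgi21 ygi10 zgi39) (kgi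 xgi23 ygi3 zgi12) (kgi xgi13 ygi51 zgi51) (kgi xgi14 ygi4 zgi0) (kgi xgi27 ygi57 zgi19) (kgi xgi26 ygi8 zgi40) (kgi xgi21 ygi41 zgi0) (kgi xgi16 ygi11 zgi18) (kgi xgi18 ygi49 zgi23) (kgi xgi23 ygi6 zgi10) (kgi xgi30 ygi20 zgi39) (kgi xgi14 ygi10 zgi5) (kgi xgi30 ygi58 zgi53) (kgi xgi30 ygi31 zgi35) (kgi xgi23 ygi16 zgi58) (kgi xgi23 ygi18 zgi44) (kgi xgi13 ygi49 zgi36) (kgi xgi16 ygi33 zgi18) (kgi xgi26 ygi8 zgi37) (kgi xgi28 ygi28 zgi12) (kgi xgi30 ygi57 zgi43) (kgi xgi13 ygi48 zgi24) (kgi xgi30 ygi35 zgi11) (kgi xgi30 ygi58 zgi58) (kgi xgi23 ygi18 zgi9) (kgi xgi13 ygi48 zgi32) (kgi xgi30 ygi57 zgi21) (kgi xgi30 ygi58 zgi11) (kgi xgi30 ygi57 zgi19) (kgi xgi23 ygi19 zgi33) (kgi xgi13 ygi48 zgi46) (kgi xgi25 ygi52 zgi3) (kgi xgi30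 ygi57 zgi29) (kgi xgi25 ygi52 zgi6) (kgi xgi26 ygi30 zgi2) (kgi xgi21 ygi30 zgi2) (kgi xgi21 ygi12 zgi18) (kgi xgi27 ygi57 zgi47) (kgi xgi30 ygi50 zgi5) (kgi xgi23 ygi2 zgi11) (kgi xgi13 ygi48 zgi39) (kgi xgi30 ygi59 zgi3) (kgi xgi29 ygi50 zgi25) (kgi xgi30 ygi42 zgi24) (kgi xgi22 ygi27 zgi61) (kgi xgi30 ygi57 zgi51) (kgi xgi30 ygi47 zgi6) (kgi xgi23 ygi9 zgi33)) (@D3.rec (fun _ => Pt) (kgi xgi30 ygi47 zgi3) (kgi xgi13 ygi48 zgi48) (kgi xgi26 ygi29 zgi60) (kgi xgi13 ygi58 zgi54) (kgi xgi30 ygi48 zgi29) (kgi xgi13 ygi48 zgi45) (kgi xgi30 ygi48 zgi32) (kgi xgi30 ygi48 zgi30) (kgi xgi14 ygi9 zgi32) (kgi xgi30 ygi59 zgi15) (kgi xgi30 ygi2 zgi18) (kgi xgi30 ygi57 zgi22) (kgi xgi13 ygi48 zgi47) (kgi xgi30 ygi57 zgi27) (kgi xgi28 ygi10 zgi40)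 (kgi xgi13 ygi48 zgi49) (kgi xgi13 ygi48 zgi51) (kgi xgi30 ygi59 zgi23) (kgi xgi29 ygi51 zgi26) (kgi xgi23 ygi15 zgi56) (kgi xgi30 ygi59 zgi0) (kgi xgi13 ygi48 zgi53) (kgi xgi23 ygi14 zgi34) (kgi xgi30 ygi59 zgi25) (kgi xgi30 ygi59 zgi28) (kgi xgi23 ygi17 zgi10) (kgi xgi23 ygi14 zgi19) (kgi xgi13 ygi48 zgi52) (kgi xgi23 ygi14 zgi21) (kgi xgi30 ygi59 zgi39) (kgi xgi30 ygi59 zgi41) (kgi xgi13 ygi48 zgi54) (kgi xgi23 ygi15 zgi37) (kgi xgi23 ygi17 zgi34) (kgi xgi13 ygi48 zgi55) (kgi xgi23 ygi17 zgi33) (kgi xgi23 ygi20 zgi27) (kgi xgi26 ygi29 zgi61) (kgi xgi30 ygi58 zgi3) (kgi xgi23 ygi32 zgi2) (kgi xgi30 ygi7 zgi33) (kgi xgi13 ygi54 zgi60) (kgi xgi28 ygi13 zgi16) (kgi xgi13 ygi49 zgi12) (kgi xgi23 ygi21 zgi43) (kgi xgi13 ygi49 zgi0) (kgi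 xgi22 ygi33 zgi60) (kgi xgi13 ygi51 zgi25) (kgi xgi23 ygi33 zgi42) (kgi xgi30 ygi59 zgi50) (kgi xgi23 ygi17 zgi38) (kgi xgi13 ygi49 zgi2) (kgi xgi24 ygi59 zgi41) (kgi xgi30 ygi32 zgi53) (kgi xgi24 ygi44 zgi4) (kgi xgi23 ygi20 zgi32) (kgi xgi28 ygi10 zgi13) (kgi xgi23 ygi13 zgi49) (kgi xgi13 ygi51 zgi16) (kgi xgi13 ygi49 zgi7) (kgi xgi25 ygi3 zgi29) (kgi xgi21 ygi25 zgi13)) (@D3.rec (fun _ => Pt) (kgi xgi24 ygi45 zgi26) (kgi xgi30 ygi59 zgi53) (kgi xgi13 ygi49 zgi8) (kgi xgi25 ygi3 zgi12) (kgi xgi17 ygi57 zgi8) (kgi xgi25 ygi2 zgi53) (kgi xgi30 ygi43 zgi7) (kgi xgi13 ygi51 zgi4) (kgi xgi29 ygi55 zgi41) (kgi xgi30 ygi59 zgi51) (kgi xgi30 ygi32 zgi8) (kgi xgi13 ygi49 zgi14) (kgi xgi18 ygi36 zgi31) (kgi xgi28 ygi10 zgi45) (kgi xgi30 ygi31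 zgi36) (kgi xgi30 ygi59 zgi59) (kgi xgi21 ygi53 zgi37) (kgi xgi17 ygi2 zgi37) (kgi xgi13 ygi49 zgi17) (kgi xgi30 ygi57 zgi41) (kgi xgi30 ygi57 zgi39) (kgi xgi23 ygi15 zgi22) (kgi xgi24 ygi59 zgi58) (kgi xgi30 ygi48 zgi28) (kgi xgi31 ygi0 zgi3) (kgi xgi15 ygi10 zgi43) (kgi xgi23 ygi16 zgi9) (kgi xgi22 ygi52 zgi22) (kgi xgi30 ygi32 zgi52) (kgi xgi13 ygi49 zgi21) (kgi xgi25 ygi59 zgi33) (kgi xgi30 ygi53 zgi56) (kgi xgi18 ygi26 zgi57) (kgi xgi13 ygi49 zgi27) (kgi xgi24 ygi44 zgi26) (kgi xgi29 ygi14 zgi47) (kgi xgi18 ygi19 zgi9) (kgi xgi22 ygi41 zgi12) (kgi xgi13 ygi49 zgi35) (kgi xgi22 ygi29 zgi41) (kgi xgi31 ygi0 zgi8) (kgi xgi30 ygi20 zgi36) (kgi xgi23 ygi17 zgi22) (kgi xgi23 ygi21 zgi42) (kgi xgi23 ygi14 zgi7) (kgi xgi26 ygi32 zgi21)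 (kgi xgi25 ygi3 zgi1) (kgi xgi28 ygi10 zgi42) (kgi xgi13 ygi49 zgi46) (kgi xgi22 ygi56 zgi11) (kgi xgi22 ygi56 zgi8) (kgi xgi31 ygi0 zgi12) (kgi xgi23 ygi11 zgi35) (kgi xgi13 ygi49 zgi48) (kgi xgi22 ygi16 zgi53) (kgi xgi22 ygi17 zgi31) (kgi xgi31 ygi0 zgi16) (kgi xgi13 ygi49 zgi51) (kgi xgi13 ygi50 zgi0) (kgi xgi13 ygi49 zgi59) (kgi xgi22 ygi59 zgi10) (kgi xgi23 ygi54 zgi42)) (@D3.rec (fun _ => Pt) (kgi xgi25 ygi56 zgi43) (kgi xgi13 ygi49 zgi56) (kgi xgi13 ygi49 zgi58) (kgi xgi31 ygi0 zgi18) (kgi xgi31 ygi0 zgi23) (kgi xgi31 ygi0 zgi15) (kgi xgi30 ygi36 zgi41) (kgi xgi23 ygi33 zgi35) (kgi xgi29 ygi50 zgi16) (kgi xgi27 ygi2 zgi32) (kgi xgi28 ygi12 zgi43) (kgi xgi13 ygi49 zgi61) (kgi xgi24 ygi16 zgi24) (kgi xgi25 ygi25 zgi61) (kgi xgi24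 ygi16 zgi22) (kgi xgi13 ygi50 zgi1) (kgi xgi19 ygi19 zgi4) (kgi xgi25 ygi10 zgi54) (kgi xgi14 ygi21 zgi49) (kgi xgi28 ygi37 zgi44) (kgi xgi20 ygi6 zgi28) (kgi xgi23 ygi50 zgi40) (kgi xgi22 ygi30 zgi36) (kgi xgi23 ygi21 zgi27) (kgi xgi29 ygi9 zgi45) (kgi xgi23 ygi33 zgi9) (kgi xgi30 ygi39 zgi53) (kgi xgi23 ygi14 zgi49) (kgi xgi30 ygi53 zgi60) (kgi xgi30 ygi44 zgi25) (kgi xgi31 ygi0 zgi34) (kgi xgi23 ygi16 zgi33) (kgi xgi22 ygi28 zgi24) (kgi xgi24 ygi31 zgi25) (kgi xgi23 ygi54 zgi39) (kgi xgi13 ygi50 zgi18) (kgi xgi14 ygi0 zgi42) (kgi xgi23 ygi40 zgi28) (kgi xgi19 ygi41 zgi43) (kgi xgi26 ygi7 zgi19) (kgi xgi23 ygi32 zgi30) (kgi xgi30 ygi28 zgi12) (kgi xgi23 ygi13 zgi42) (kgi xgi13 ygi50 zgi33) (kgi xgi14 ygi44 zgi32) (kgi xgi14 ygi44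 zgi30) (kgi xgi13 ygi50 zgi34) (kgi xgi17 ygi26 zgi33) (kgi xgi16 ygi24 zgi46) (kgi xgi26 ygi32 zgi29) (kgi xgi25 ygi2 zgi49) (kgi xgi22 ygi56 zgi3) (kgi xgi16 ygi11 zgi59) (kgi xgi24 ygi30 zgi59) (kgi xgi23 ygi52 zgi34) (kgi xgi13 ygi50 zgi48) (kgi xgi14 ygi45 zgi37) (kgi xgi23 ygi8 zgi29) (kgi xgi26 ygi8 zgi44) (kgi xgi21 ygi6 zgi45) (kgi xgi25 ygi46 zgi32) (kgi xgi31 ygi0 zgi44)) (@D3.rec (fun _ => Pt) (kgi xgi13 ygi50 zgi52) (kgi xgi22 ygi35 zgi37) (kgi xgi24 ygi31 zgi20) (kgi xgi23 ygi44 zgi45) (kgi xgi31 ygi0 zgi43) (kgi xgi31 ygi0 zgi48) (kgi xgi30 ygi43 zgi30) (kgi xgi23 ygi32 zgi59) (kgi xgi13 ygi50 zgi57) (kgi xgi22 ygi58 zgi19) (kgi xgi30 ygi51 zgi55) (kgi xgi26 ygi8 zgi55) (kgi xgi30 ygi47 zgi34) (kgi xgi28 ygi12 zgi11)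 (kgi xgi30 ygi2 zgi4) (kgi xgi13 ygi50 zgi58) (kgi xgi30 ygi2 zgi8) (kgi xgi30 ygi23 zgi20) (kgi xgi29 ygi54 zgi39) (kgi xgi20 ygi32 zgi34) (kgi xgi24 ygi38 zgi43) (kgi xgi28 ygi18 zgi49) (kgi xgi24 ygi12 zgi61) (kgi xgi22 ygi41 zgi21) (kgi xgi23 ygi13 zgi46) (kgi xgi22 ygi52 zgi31) (kgi xgi20 ygi29 zgi32) (kgi xgi23 ygi17 zgi39) (kgi xgi18 ygi42 zgi42) (kgi xgi13 ygi51 zgi13) (kgi xgi13 ygi51 zgi18) (kgi xgi23 ygi31 zgi59) (kgi xgi23 ygi14 zgi32) (kgi xgi23 ygi17 zgi55) (kgi xgi15 ygi23 zgi58) (kgi xgi28 ygi18 zgi46) (kgi xgi27 ygi59 zgi23) (kgi xgi15 ygi23 zgi55) (kgi xgi31 ygi0 zgi36) (kgi xgi22 ygi34 zgi4) (kgi xgi24 ygi31 zgi9) (kgi xgi14 ygi0 zgi5) (kgi xgi28 ygi13 zgi29) (kgi xgi20 ygi32 zgi20) (kgi xgi13 ygi51 zgi26) (kgi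 xgi17 ygi9 zgi16) (kgi xgi16 ygi6 zgi30) (kgi xgi29 ygi5 zgi55) (kgi xgi13 ygi51 zgi28) (kgi xgi21 ygi6 zgi28) (kgi xgi21 ygi6 zgi26) (kgi xgi23 ygi13 zgi54) (kgi xgi13 ygi51 zgi42) (kgi xgi30 ygi12 zgi16) (kgi xgi21 ygi56 zgi10) (kgi xgi15 ygi0 zgi23) (kgi xgi24 ygi30 zgi40) (kgi xgi22 ygi28 zgi28) (kgi xgi24 ygi59 zgi22) (kgi xgi30 ygi1 zgi19) (kgi xgi17 ygi44 zgi9) (kgi xgi13 ygi51 zgi35)) (@D3.rec (fun _ => Pt) (kgi xgi17 ygi9 zgi19) (kgi xgi21 ygi6 zgi18) (kgi xgi13 ygi51 zgi44) (kgi xgi30 ygi52 zgi39) (kgi xgi23 ygi25 zgi10) (kgi xgi21 ygi56 zgi22) (kgi xgi13 ygi51 zgi41) (kgi xgi21 ygi56 zgi16) (kgi xgi14 ygi0 zgi3) (kgi xgi15 ygi53 zgi35) (kgi xgi29 ygi57 zgi32) (kgi xgi21 ygi56 zgi7) (kgi xgi13 ygi51 zgi43) (kgi xgi21 ygi56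 zgi0) (kgi xgi21 ygi56 zgi2) (kgi xgi30 ygi2 zgi30) (kgi xgi21 ygi56 zgi19) (kgi xgi27 ygi57 zgi30) (kgi xgi30 ygi58 zgi54) (kgi xgi31 ygi1 zgi0) (kgi xgi26 ygi9 zgi25) (kgi xgi30 ygi42 zgi47) (kgi xgi25 ygi2 zgi16) (kgi xgi13 ygi51 zgi52) (kgi xgi26 ygi7 zgi42) (kgi xgi27 ygi44 zgi26) (kgi xgi26 ygi7 zgi49) (kgi xgi24 ygi5 zgi9) (kgi xgi23 ygi8 zgi31) (kgi xgi29 ygi29 zgi22) (kgi xgi31 ygi1 zgi6) (kgi xgi16 ygi12 zgi8) (kgi xgi25 ygi0 zgi5) (kgi xgi21 ygi55 zgi55) (kgi xgi23 ygi7 zgi38) (kgi xgi30 ygi14 zgi1) (kgi xgi13 ygi51 zgi58) (kgi xgi14 ygi28 zgi34) (kgi xgi14 ygi28 zgi32) (kgi xgi30 ygi43 zgi4) (kgi xgi25 ygi14 zgi36) (kgi xgi22 ygi31 zgi33) (kgi xgi23 ygi40 zgi37) (kgi xgi23 ygi17 zgi43) (kgi xgi26 ygi10 zgi0) (kgi xgi13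 ygi52 zgi4) (kgi xgi22 ygi31 zgi28) (kgi xgi30 ygi10 zgi36) (kgi xgi13 ygi52 zgi5) (kgi xgi23 ygi18 zgi43) (kgi xgi23 ygi3 zgi39) (kgi xgi26 ygi32 zgi36) (kgi xgi28 ygi28 zgi5) (kgi xgi18 ygi15 zgi57) (kgi xgi18 ygi15 zgi48) (kgi xgi30 ygi35 zgi23) (kgi xgi13 ygi52 zgi14) (kgi xgi22 ygi15 zgi36) (kgi xgi22 ygi15 zgi34) (kgi xgi31 ygi1 zgi20) (kgi xgi13 ygi52 zgi15) (kgi xgi22 ygi8 zgi55)) (@D3.rec (fun _ => Pt) (kgi xgi28 ygi2 zgi36) (kgi xgi22 ygi8 zgi53) (kgi xgi30 ygi21 zgi15) (kgi xgi16 ygi33 zgi25) (kgi xgi18 ygi53 zgi25) (kgi xgi31 ygi1 zgi23) (kgi xgi27 ygi20 zgi59) (kgi xgi29 ygi55 zgi55) (kgi xgi26 ygi13 zgi5) (kgi xgi21 ygi38 zgi24) (kgi xgi24 ygi41 zgi53) (kgi xgi22 ygi11 zgi25) (kgi xgi13 ygi52 zgi25) (kgi xgi29 ygi17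 zgi24) (kgi xgi18 ygi7 zgi4) (kgi xgi18 ygi8 zgi34) (kgi xgi25 ygi27 zgi19) (kgi xgi26 ygi12 zgi15) (kgi xgi13 ygi52 zgi27) (kgi xgi23 ygi35 zgi48) (kgi xgi22 ygi9 zgi1) (kgi xgi26 ygi13 zgi4) (kgi xgi29 ygi38 zgi43) (kgi xgi13 ygi52 zgi29) (kgi xgi23 ygi35 zgi46) (kgi xgi23 ygi35 zgi44) (kgi xgi25 ygi49 zgi59) (kgi xgi15 ygi12 zgi35) (kgi xgi13 ygi52 zgi33) (kgi xgi21 ygi37 zgi11) (kgi xgi21 ygi4 zgi50) (kgi xgi13 ygi52 zgi34) (kgi xgi21 ygi37 zgi7) (kgi xgi21 ygi37 zgi5) (kgi xgi21 ygi55 zgi59) (kgi xgi21 ygi33 zgi40) (kgi xgi26 ygi15 zgi11) (kgi xgi24 ygi43 zgi36) (kgi xgi23 ygi36 zgi58) (kgi xgi23 ygi36 zgi60) (kgi xgi28 ygi6 zgi17) (kgi xgi27 ygi25 zgi7) (kgi xgi14 ygi37 zgi19) (kgi xgi13 ygi52 zgi46) (kgi xgi13 ygi52 zgi49)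 (kgi xgi13 ygi52 zgi47) (kgi xgi13 ygi52 zgi60) (kgi xgi17 ygi55 zgi21) (kgi xgi15 ygi45 zgi50) (kgi xgi29 ygi54 zgi3) (kgi xgi13 ygi52 zgi51) (kgi xgi16 ygi3 zgi9) (kgi xgi25 ygi39 zgi46) (kgi xgi21 ygi42 zgi14) (kgi xgi29 ygi49 zgi53) (kgi xgi14 ygi5 zgi25) (kgi xgi26 ygi2 zgi23) (kgi xgi23 ygi37 zgi52) (kgi xgi25 ygi38 zgi37) (kgi xgi24 ygi41 zgi7) (kgi xgi14 ygi55 zgi45) (kgi xgi18 ygi7 zgi5)) (@D3.rec (fun _ => Pt) (kgi xgi30 ygi20 zgi10) (kgi xgi18 ygi48 zgi3) (kgi xgi23 ygi36 zgi0) (kgi xgi19 ygi18 zgi27) (kgi xgi23 ygi35 zgi60) (kgi xgi23 ygi27 zgi54) (kgi xgi13 ygi53 zgi3) (kgi xgi23 ygi35 zgi12) (kgi xgi19 ygi53 zgi0) (kgi xgi23 ygi35 zgi10) (kgi xgi17 ygi56 zgi31) (kgi xgi26 ygi2 zgi32) (kgi xgi17 ygi55 zgi29) (kgi xgi13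 ygi54 zgi4) (kgi xgi25 ygi28 zgi1) (kgi xgi13 ygi53 zgi10) (kgi xgi21 ygi46 zgi61) (kgi xgi21 ygi43 zgi26) (kgi xgi21 ygi46 zgi59) (kgi xgi13 ygi53 zgi22) (kgi xgi23 ygi36 zgi13) (kgi xgi23 ygi35 zgi32) (kgi xgi13 ygi53 zgi15) (kgi xgi23 ygi36 zgi12) (kgi xgi14 ygi55 zgi61) (kgi xgi25 ygi41 zgi46) (kgi xgi13 ygi53 zgi16) (kgi xgi23 ygi35 zgi33) (kgi xgi21 ygi21 zgi51) (kgi xgi21 ygi21 zgi52) (kgi xgi13 ygi54 zgi7) (kgi xgi25 ygi34 zgi34) (kgi xgi30 ygi55 zgi47) (kgi xgi13 ygi53 zgi21) (kgi xgi23 ygi36 zgi19) (kgi xgi23 ygi36 zgi18) (kgi xgi23 ygi34 zgi35) (kgi xgi14 ygi49 zgi39) (kgi xgi23 ygi36 zgi23) (kgi xgi22 ygi2 zgi3) (kgi xgi13 ygi53 zgi27) (kgi xgi22 ygi8 zgi26) (kgi xgi13 ygi53 zgi30) (kgi xgi14 ygi54 zgi35) (kgi xgi14 ygi54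 zgi33) (kgi xgi22 ygi32 zgi7) (kgi xgi14 ygi43 zgi52) (kgi xgi23 ygi27 zgi21) (kgi xgi20 ygi20 zgi24) (kgi xgi22 ygi18 zgi33) (kgi xgi13 ygi53 zgi43) (kgi xgi21 ygi26 zgi36) (kgi xgi27 ygi55 zgi47) (kgi xgi13 ygi53 zgi47) (kgi xgi22 ygi18 zgi30) (kgi xgi22 ygi18 zgi28) (kgi xgi13 ygi53 zgi48) (kgi xgi22 ygi18 zgi39) (kgi xgi13 ygi53 zgi49) (kgi xgi23 ygi35 zgi56) (kgi xgi23 ygi35 zgi57) (kgi xgi23 ygi37 zgi0)) (@D3.rec (fun _ => Pt) (kgi xgi15 ygi50 zgi52) (kgi xgi29 ygi38 zgi48) (kgi xgi14 ygi52 zgi56) (kgi xgi20 ygi29 zgi1) (kgi xgi22 ygi26 zgi13) (kgi xgi14 ygi18 zgi58) (kgi xgi22 ygi19 zgi46) (kgi xgi22 ygi26 zgi33) (kgi xgi13 ygi53 zgi57) (kgi xgi14 ygi17 zgi40) (kgi xgi14 ygi40 zgi19) (kgi xgi25 ygi39 zgi41) (kgi xgi24 ygi42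 zgi45) (kgi xgi31 ygi0 zgi47) (kgi xgi17 ygi18 zgi18) (kgi xgi25 ygi28 zgi4) (kgi xgi30 ygi37 zgi19) (kgi xgi13 ygi54 zgi5) (kgi xgi19 ygi35 zgi6) (kgi xgi23 ygi36 zgi6) (kgi xgi14 ygi56 zgi1) (kgi xgi22 ygi0 zgi13) (kgi xgi25 ygi37 zgi8) (kgi xgi24 ygi42 zgi43) (kgi xgi30 ygi16 zgi46) (kgi xgi20 ygi17 zgi37) (kgi xgi23 ygi35 zgi21) (kgi xgi23 ygi35 zgi16) (kgi xgi23 ygi26 zgi25) (kgi xgi13 ygi54 zgi18) (kgi xgi19 ygi48 zgi30) (kgi xgi24 ygi37 zgi35) (kgi xgi22 ygi43 zgi61) (kgi xgi13 ygi54 zgi26) (kgi xgi24 ygi30 zgi49) (kgi xgi23 ygi26 zgi13) (kgi xgi17 ygi55 zgi49) (kgi xgi13 ygi57 zgi28) (kgi xgi31 ygi2 zgi2) (kgi xgi23 ygi0 zgi15) (kgi xgi19 ygi43 zgi54) (kgi xgi21 ygi29 zgi61) (kgi xgi20 ygi13 zgi25) (kgi xgi28 ygi55 zgi27)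 (kgi xgi20 ygi13 zgi37) (kgi xgi23 ygi42 zgi45) (kgi xgi17 ygi55 zgi44) (kgi xgi13 ygi54 zgi34) (kgi xgi23 ygi37 zgi13) (kgi xgi26 ygi9 zgi52) (kgi xgi23 ygi37 zgi10) (kgi xgi13 ygi54 zgi36) (kgi xgi23 ygi16 zgi20) (kgi xgi30 ygi3 zgi56) (kgi xgi23 ygi33 zgi14) (kgi xgi23 ygi33 zgi15) (kgi xgi30 ygi13 zgi45) (kgi xgi29 ygi9 zgi50) (kgi xgi30 ygi42 zgi32) (kgi xgi23 ygi41 zgi51) (kgi xgi31 ygi2 zgi13) (kgi xgi30 ygi13 zgi13)) (@D3.rec (fun _ => Pt) (kgi xgi31 ygi2 zgi12) (kgi xgi23 ygi42 zgi41) (kgi xgi23 ygi1 zgi59) (kgi xgi31 ygi2 zgi21) (kgi xgi31 ygi2 zgi24) (kgi xgi23 ygi37 zgi29) (kgi xgi21 ygi27 zgi60) (kgi xgi26 ygi48 zgi11) (kgi xgi30 ygi37 zgi14) (kgi xgi13 ygi54 zgi47) (kgi xgi30 ygi47 zgi0) (kgi xgi24 ygi33 zgi33) (kgi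 xgi13 ygi58 zgi58) (kgi xgi13 ygi58 zgi30) (kgi xgi13 ygi58 zgi46) (kgi xgi13 ygi58 zgi45) (kgi xgi16 ygi10 zgi31) (kgi xgi17 ygi53 zgi1) (kgi xgi23 ygi23 zgi8) (kgi xgi21 ygi29 zgi10) (kgi xgi13 ygi59 zgi20) (kgi xgi14 ygi0 zgi21) (kgi xgi13 ygi59 zgi53) (kgi xgi28 ygi27 zgi14) (kgi xgi23 ygi33 zgi49) (kgi xgi13 ygi59 zgi51) (kgi xgi13 ygi59 zgi48) (kgi xgi13 ygi57 zgi42) (kgi xgi27 ygi58 zgi53) (kgi xgi23 ygi15 zgi55) (kgi xgi13 ygi55 zgi0) (kgi xgi14 ygi0 zgi1) (kgi xgi13 ygi59 zgi60) (kgi xgi13 ygi59 zgi23) (kgi xgi29 ygi30 zgi7) (kgi xgi18 ygi20 zgi8) (kgi xgi26 ygi25 zgi31) (kgi xgi13 ygi55 zgi3) (kgi xgi14 ygi0 zgi7) (kgi xgi31 ygi2 zgi34) (kgi xgi31 ygi2 zgi32) (kgi xgi13 ygi55 zgi6) (kgi xgi23 ygi32 zgi48) (kgi xgi23 ygi32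 zgi49) (kgi xgi13 ygi55 zgi7) (kgi xgi13 ygi59 zgi21) (kgi xgi23 ygi52 zgi33) (kgi xgi23 ygi19 zgi59) (kgi xgi25 ygi2 zgi12) (kgi xgi23 ygi17 zgi48) (kgi xgi19 ygi49 zgi16) (kgi xgi13 ygi55 zgi12) (kgi xgi14 ygi0 zgi48) (kgi xgi14 ygi0 zgi45) (kgi xgi31 ygi2 zgi30) (kgi xgi13 ygi55 zgi14) (kgi xgi14 ygi1 zgi5) (kgi xgi14 ygi1 zgi3) (kgi xgi23 ygi18 zgi41) (kgi xgi23 ygi3 zgi8) (kgi xgi26 ygi8 zgi22) (kgi xgi27 ygi41 zgi9)) (@D3.rec (fun _ => Pt) (kgi xgi31 ygi2 zgi50) (kgi xgi20 ygi24 zgi56) (kgi xgi31 ygi2 zgi49) (kgi xgi19 ygi18 zgi30) (kgi xgi13 ygi55 zgi22) (kgi xgi29 ygi55 zgi25) (kgi xgi30 ygi41 zgi46) (kgi xgi29 ygi55 zgi23) (kgi xgi13 ygi55 zgi24) (kgi xgi29 ygi58 zgi28) (kgi xgi31 ygi3 zgi1) (kgi xgi23 ygi24 zgi55) (kgi xgi31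 ygi3 zgi3) (kgi xgi30 ygi41 zgi22) (kgi xgi29 ygi10 zgi31) (kgi xgi23 ygi29 zgi4) (kgi xgi20 ygi24 zgi37) (kgi xgi13 ygi55 zgi34) (kgi xgi30 ygi38 zgi49) (kgi xgi26 ygi0 zgi40) (kgi xgi17 ygi55 zgi24) (kgi xgi14 ygi42 zgi4) (kgi xgi17 ygi12 zgi12) (kgi xgi14 ygi29 zgi11) (kgi xgi23 ygi36 zgi5) (kgi xgi13 ygi55 zgi46) (kgi xgi13 ygi55 zgi41) (kgi xgi22 ygi21 zgi19) (kgi xgi20 ygi43 zgi20) (kgi xgi13 ygi55 zgi43) (kgi xgi31 ygi3 zgi12) (kgi xgi23 ygi24 zgi28) (kgi xgi13 ygi56 zgi21) (kgi xgi13 ygi56 zgi23) (kgi xgi24 ygi8 zgi23) (kgi xgi30 ygi10 zgi59) (kgi xgi26 ygi0 zgi37) (kgi xgi18 ygi40 zgi15) (kgi xgi14 ygi55 zgi21) (kgi xgi21 ygi37 zgi55) (kgi xgi30 ygi24 zgi40) (kgi xgi14 ygi7 zgi35) (kgi xgi30 ygi40 zgi31) (kgi xgi23 ygi29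 zgi60) (kgi xgi23 ygi29 zgi29) (kgi xgi13 ygi55 zgi53) (kgi xgi23 ygi40 zgi17) (kgi xgi31 ygi3 zgi21) (kgi xgi21 ygi48 zgi31) (kgi xgi18 ygi1 zgi8) (kgi xgi22 ygi29 zgi46) (kgi xgi13 ygi56 zgi4) (kgi xgi23 ygi40 zgi22) (kgi xgi29 ygi42 zgi55) (kgi xgi13 ygi55 zgi57) (kgi xgi23 ygi40 zgi20) (kgi xgi24 ygi40 zgi8) (kgi xgi25 ygi39 zgi4) (kgi xgi13 ygi55 zgi58) (kgi xgi23 ygi45 zgi20) (kgi xgi22 ygi43 zgi51) (kgi xgi13 ygi56 zgi26)) (@D3.rec (fun _ => Pt) (kgi xgi14 ygi48 zgi34) (kgi xgi13 ygi56 zgi1) (kgi xgi13 ygi56 zgi24) (kgi xgi31 ygi3 zgi37) (kgi xgi31 ygi3 zgi40) (kgi xgi23 ygi26 zgi37) (kgi xgi23 ygi31 zgi16) (kgi xgi23 ygi38 zgi11) (kgi xgi14 ygi7 zgi2) (kgi xgi29 ygi57 zgi18) (kgi xgi23 ygi13 zgi59) (kgi xgi13 ygi56 zgi28)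 (kgi xgi30 ygi49 zgi2) (kgi xgi16 ygi4 zgi34) (kgi xgi13 ygi56 zgi10) (kgi xgi23 ygi29 zgi6) (kgi xgi30 ygi40 zgi4) (kgi xgi22 ygi12 zgi56) (kgi xgi22 ygi18 zgi47) (kgi xgi23 ygi23 zgi47) (kgi xgi22 ygi14 zgi22) (kgi xgi24 ygi29 zgi35) (kgi xgi14 ygi16 zgi26) (kgi xgi31 ygi1 zgi52) (kgi xgi31 ygi3 zgi47) (kgi xgi13 ygi56 zgi19) (kgi xgi31 ygi3 zgi8) (kgi xgi22 ygi37 zgi17) (kgi xgi21 ygi20 zgi30) (kgi xgi13 ygi56 zgi22) (kgi xgi23 ygi30 zgi22) (kgi xgi23 ygi40 zgi13) (kgi xgi31 ygi3 zgi36) (kgi xgi30 ygi10 zgi53) (kgi xgi30 ygi49 zgi1) (kgi xgi31 ygi3 zgi55) (kgi xgi13 ygi56 zgi27) (kgi xgi31 ygi3 zgi32) (kgi xgi19 ygi46 zgi4) (kgi xgi22 ygi48 zgi34) (kgi xgi31 ygi3 zgi46) (kgi xgi30 ygi4 zgi55) (kgi xgi24 ygi2 zgi18) (kgi xgi22 ygi38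 zgi14) (kgi xgi13 ygi56 zgi30) (kgi xgi13 ygi56 zgi33) (kgi xgi26 ygi46 zgi56) (kgi xgi21 ygi21 zgi53) (kgi xgi23 ygi38 zgi46) (kgi xgi23 ygi38 zgi45) (kgi xgi25 ygi42 zgi38) (kgi xgi23 ygi43 zgi5) (kgi xgi14 ygi53 zgi21) (kgi xgi13 ygi56 zgi34) (kgi xgi18 ygi18 zgi30) (kgi xgi23 ygi39 zgi56) (kgi xgi14 ygi7 zgi10) (kgi xgi31 ygi4 zgi6) (kgi xgi31 ygi4 zgi2) (kgi xgi23 ygi30 zgi13) (kgi xgi29 ygi51 zgi13) (kgi xgi13 ygi56 zgi37)) (@D3.rec (fun _ => Pt) (kgi xgi23 ygi39 zgi2) (kgi xgi25 ygi30 zgi32) (kgi xgi25 ygi13 zgi24) (kgi xgi23 ygi38 zgi60) (kgi xgi23 ygi39 zgi43) (kgi xgi22 ygi44 zgi3) (kgi xgi31 ygi4 zgi12) (kgi xgi31 ygi4 zgi4) (kgi xgi30 ygi1 zgi41) (kgi xgi21 ygi17 zgi14) (kgi xgi13 ygi56 zgi44) (kgi xgi23 ygi39 zgi13) (kgi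 xgi13 ygi57 zgi18) (kgi xgi23 ygi39 zgi23) (kgi xgi23 ygi39 zgi6) (kgi xgi13 ygi56 zgi47) (kgi xgi23 ygi39 zgi5) (kgi xgi20 ygi29 zgi53) (kgi xgi25 ygi38 zgi51) (kgi xgi13 ygi56 zgi48) (kgi xgi16 ygi4 zgi51) (kgi xgi25 ygi24 zgi13) (kgi xgi29 ygi17 zgi34) (kgi xgi13 ygi56 zgi50) (kgi xgi23 ygi39 zgi22) (kgi xgi23 ygi39 zgi19) (kgi xgi31 ygi4 zgi27) (kgi xgi31 ygi4 zgi29) (kgi xgi25 ygi57 zgi53) (kgi xgi13 ygi56 zgi53) (kgi xgi23 ygi39 zgi27) (kgi xgi23 ygi39 zgi25) (kgi xgi23 ygi39 zgi4) (kgi xgi22 ygi43 zgi9) (kgi xgi26 ygi1 zgi46) (kgi xgi19 ygi44 zgi32) (kgi xgi19 ygi45 zgi15) (kgi xgi23 ygi39 zgi32) (kgi xgi23 ygi39 zgi30) (kgi xgi31 ygi4 zgi38) (kgi xgi13 ygi56 zgi59) (kgi xgi23 ygi39 zgi3) (kgi xgi30 ygi40 zgi17) (kgi xgi31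 ygi4 zgi49) (kgi xgi31 ygi4 zgi52) (kgi xgi25 ygi49 zgi21) (kgi xgi13 ygi57 zgi0) (kgi xgi22 ygi44 zgi44) (kgi xgi22 ygi44 zgi42) (kgi xgi22 ygi35 zgi54) (kgi xgi23 ygi37 zgi43) (kgi xgi31 ygi4 zgi55) (kgi xgi23 ygi37 zgi26) (kgi xgi25 ygi56 zgi12) (kgi xgi13 ygi57 zgi9) (kgi xgi13 ygi57 zgi17) (kgi xgi27 ygi30 zgi25) (kgi xgi13 ygi57 zgi14) (kgi xgi23 ygi28 zgi33) (kgi xgi27 ygi3 zgi39) (kgi xgi27 ygi40 zgi61) (kgi xgi29 ygi18 zgi24)) (@D3.rec (fun _ => Pt) (kgi xgi30 ygi35 zgi61) (kgi xgi31 ygi4 zgi1) (kgi xgi30 ygi42 zgi12) (kgi xgi24 ygi32 zgi48) (kgi xgi13 ygi57 zgi16) (kgi xgi23 ygi26 zgi15) (kgi xgi23 ygi27 zgi14) (kgi xgi31 ygi4 zgi34) (kgi xgi22 ygi37 zgi58) (kgi xgi15 ygi46 zgi9) (kgi xgi30 ygi40 zgi12) (kgi xgi23 ygi10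 zgi57) (kgi xgi29 ygi13 zgi57) (kgi xgi31 ygi5 zgi4) (kgi xgi14 ygi47 zgi2) (kgi xgi29 ygi13 zgi56) (kgi xgi25 ygi39 zgi19) (kgi xgi30 ygi34 zgi2) (kgi xgi29 ygi13 zgi55) (kgi xgi13 ygi57 zgi27) (kgi xgi29 ygi12 zgi3) (kgi xgi27 ygi40 zgi55) (kgi xgi14 ygi50 zgi36) (kgi xgi14 ygi4 zgi12) (kgi xgi20 ygi24 zgi58) (kgi xgi30 ygi40 zgi6) (kgi xgi13 ygi57 zgi35) (kgi xgi23 ygi42 zgi2) (kgi xgi27 ygi43 zgi41) (kgi xgi23 ygi26 zgi41) (kgi xgi31 ygi5 zgi10) (kgi xgi31 ygi5 zgi12) (kgi xgi13 ygi57 zgi38) (kgi xgi14 ygi55 zgi11) (kgi xgi15 ygi43 zgi52) (kgi xgi13 ygi57 zgi40) (kgi xgi29 ygi55 zgi21) (kgi xgi30 ygi13 zgi28) (kgi xgi22 ygi12 zgi14) (kgi xgi23 ygi43 zgi13) (kgi xgi21 ygi29 zgi17) (kgi xgi13 ygi57 zgi58) (kgi xgi22 ygi37 zgi22)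 (kgi xgi29 ygi11 zgi9) (kgi xgi31 ygi5 zgi14) (kgi xgi17 ygi53 zgi3) (kgi xgi13 ygi57 zgi52) (kgi xgi30 ygi52 zgi50) (kgi xgi31 ygi5 zgi19) (kgi xgi30 ygi52 zgi47) (kgi xgi30 ygi50 zgi6) (kgi xgi30 ygi7 zgi15) (kgi xgi13 ygi57 zgi55) (kgi xgi30 ygi40 zgi46) (kgi xgi21 ygi2 zgi29) (kgi xgi30 ygi7 zgi27) (kgi xgi24 ygi40 zgi17) (kgi xgi25 ygi37 zgi59) (kgi xgi13 ygi57 zgi60) (kgi xgi14 ygi5 zgi15) (kgi xgi23 ygi27 zgi29) (kgi xgi29 ygi49 zgi48)) (@D3.rec (fun _ => Pt) (kgi xgi13 ygi58 zgi0) (kgi xgi13 ygi58 zgi2) (kgi xgi20 ygi3 zgi10) (kgi xgi27 ygi40 zgi54) (kgi xgi20 ygi24 zgi42) (kgi xgi31 ygi3 zgi60) (kgi xgi14 ygi0 zgi0) (kgi xgi31 ygi5 zgi32) (kgi xgi31 ygi2 zgi0) (kgi xgi24 ygi40 zgi16) (kgi xgi13 ygi58 zgi6) (kgi xgi23 ygi41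 zgi33) (kgi xgi31 ygi5 zgi37) (kgi xgi23 ygi27 zgi56) (kgi xgi23 ygi41 zgi49) (kgi xgi31 ygi5 zgi9) (kgi xgi21 ygi33 zgi3) (kgi xgi13 ygi58 zgi9) (kgi xgi23 ygi41 zgi40) (kgi xgi29 ygi3 zgi36) (kgi xgi24 ygi40 zgi18) (kgi xgi31 ygi5 zgi43) (kgi xgi13 ygi58 zgi12) (kgi xgi23 ygi27 zgi30) (kgi xgi31 ygi5 zgi48) (kgi xgi29 ygi4 zgi36) (kgi xgi31 ygi5 zgi51) (kgi xgi13 ygi58 zgi14) (kgi xgi23 ygi41 zgi34) (kgi xgi14 ygi49 zgi7) (kgi xgi13 ygi58 zgi25) (kgi xgi14 ygi28 zgi38) (kgi xgi14 ygi40 zgi1) (kgi xgi26 ygi12 zgi21) (kgi xgi13 ygi58 zgi26) (kgi xgi17 ygi55 zgi45) (kgi xgi24 ygi36 zgi51) (kgi xgi30 ygi1 zgi60) (kgi xgi17 ygi55 zgi42) (kgi xgi24 ygi40 zgi54) (kgi xgi25 ygi40 zgi49) (kgi xgi20 ygi5 zgi40) (kgi xgi24 ygi10 zgi57) (kgi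 xgi29 ygi19 zgi28) (kgi xgi20 ygi50 zgi56) (kgi xgi17 ygi55 zgi32) (kgi xgi20 ygi22 zgi46) (kgi xgi16 ygi10 zgi33) (kgi xgi28 ygi31 zgi21) (kgi xgi13 ygi58 zgi47) (kgi xgi29 ygi48 zgi51) (kgi xgi15 ygi50 zgi7) (kgi xgi13 ygi58 zgi49) (kgi xgi31 ygi5 zgi54) (kgi xgi27 ygi57 zgi24) (kgi xgi23 ygi42 zgi16) (kgi xgi23 ygi37 zgi7) (kgi xgi27 ygi57 zgi14) (kgi xgi31 ygi5 zgi57) (kgi xgi30 ygi24 zgi7) (kgi xgi13 ygi59 zgi3) (kgi xgi23 ygi20 zgi51)) (@D3.rec (fun _ => Pt) (kgi xgi13 ygi58 zgi55) (kgi xgi29 ygi12 zgi14) (kgi xgi25 ygi2 zgi41) (kgi xgi24 ygi33 zgi34) (kgi xgi20 ygi53 zgi0) (kgi xgi17 ygi53 zgi4) (kgi xgi30 ygi13 zgi59) (kgi xgi16 ygi31 zgi50) (kgi xgi29 ygi12 zgi16) (kgi xgi31 ygi6 zgi0) (kgi xgi29 ygi9 zgi53) (kgi xgi26 ygi22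 zgi44) (kgi xgi16 ygi31 zgi44) (kgi xgi20 ygi20 zgi49) (kgi xgi31 ygi6 zgi4) (kgi xgi30 ygi42 zgi10) (kgi xgi14 ygi6 zgi28) (kgi xgi23 ygi40 zgi36) (kgi xgi23 ygi40 zgi58) (kgi xgi19 ygi48 zgi24) (kgi xgi13 ygi59 zgi9) (kgi xgi13 ygi59 zgi13) (kgi xgi26 ygi32 zgi55) (kgi xgi30 ygi55 zgi39) (kgi xgi22 ygi55 zgi35) (kgi xgi27 ygi41 zgi50) (kgi xgi20 ygi33 zgi26) (kgi xgi28 ygi22 zgi47) (kgi xgi31 ygi2 zgi39) (kgi xgi28 ygi10 zgi49) (kgi xgi31 ygi6 zgi6) (kgi xgi23 ygi37 zgi18) (kgi xgi13 ygi59 zgi26) (kgi xgi17 ygi54 zgi37) (kgi xgi26 ygi26 zgi60) (kgi xgi26 ygi27 zgi0) (kgi xgi13 ygi59 zgi31) (kgi xgi14 ygi56 zgi31) (kgi xgi13 ygi59 zgi35) (kgi xgi19 ygi49 zgi38) (kgi xgi23 ygi37 zgi17) (kgi xgi26 ygi23 zgi6) (kgi xgi23 ygi2 zgi13)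 (kgi xgi30 ygi42 zgi34) (kgi xgi23 ygi32 zgi19) (kgi xgi19 ygi16 zgi57) (kgi xgi23 ygi34 zgi55) (kgi xgi16 ygi3 zgi29) (kgi xgi23 ygi31 zgi32) (kgi xgi19 ygi50 zgi4) (kgi xgi27 ygi58 zgi26) (kgi xgi23 ygi33 zgi46) (kgi xgi14 ygi1 zgi2) (kgi xgi31 ygi5 zgi56) (kgi xgi31 ygi2 zgi43) (kgi xgi27 ygi29 zgi37) (kgi xgi15 ygi50 zgi27) (kgi xgi22 ygi31 zgi31) (kgi xgi13 ygi59 zgi54) (kgi xgi30 ygi33 zgi32) (kgi xgi31 ygi1 zgi9) (kgi xgi19 ygi48 zgi15)) (@D3.rec (fun _ => Pt) (kgi xgi30 ygi32 zgi7) (kgi xgi31 ygi0 zgi35) (kgi xgi23 ygi17 zgi36) (kgi xgi13 ygi59 zgi58) (kgi xgi28 ygi28 zgi13) (kgi xgi26 ygi3 zgi36) (kgi xgi22 ygi31 zgi41) (kgi xgi13 ygi59 zgi59) (kgi xgi19 ygi2 zgi10) (kgi xgi29 ygi9 zgi7) (kgi xgi23 ygi37 zgi25) (kgi xgi14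 ygi0 zgi11) (kgi xgi25 ygi59 zgi5) (kgi xgi25 ygi2 zgi44) (kgi xgi31 ygi6 zgi16) (kgi xgi23 ygi13 zgi45) (kgi xgi29 ygi4 zgi33) (kgi xgi23 ygi41 zgi27) (kgi xgi30 ygi13 zgi26) (kgi xgi27 ygi39 zgi8) (kgi xgi26 ygi9 zgi56) (kgi xgi28 ygi49 zgi36) (kgi xgi26 ygi0 zgi57) (kgi xgi16 ygi6 zgi32) (kgi xgi14 ygi0 zgi6) (kgi xgi29 ygi22 zgi11) (kgi xgi28 ygi11 zgi34) (kgi xgi30 ygi13 zgi25) (kgi xgi30 ygi13 zgi27) (kgi xgi22 ygi4 zgi60) (kgi xgi14 ygi0 zgi10) (kgi xgi23 ygi19 zgi40) (kgi xgi28 ygi13 zgi52) (kgi xgi22 ygi30 zgi24) (kgi xgi26 ygi18 zgi46) (kgi xgi26 ygi18 zgi27) (kgi xgi14 ygi0 zgi12) (kgi xgi31 ygi2 zgi35) (kgi xgi25 ygi15 zgi61) (kgi xgi15 ygi26 zgi23) (kgi xgi21 ygi38 zgi20) (kgi xgi14 ygi0 zgi14) (kgi xgi14 ygi0 zgi16)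 (kgi xgi31 ygi0 zgi5) (kgi xgi28 ygi2 zgi15) (kgi xgi17 ygi54 zgi33) (kgi xgi31 ygi0 zgi6) (kgi xgi31 ygi6 zgi23) (kgi xgi23 ygi25 zgi41) (kgi xgi14 ygi0 zgi17) (kgi xgi23 ygi25 zgi43) (kgi xgi31 ygi6 zgi26) (kgi xgi23 ygi31 zgi26) (kgi xgi23 ygi32 zgi54) (kgi xgi14 ygi0 zgi20) (kgi xgi23 ygi32 zgi53) (kgi xgi24 ygi57 zgi10) (kgi xgi31 ygi2 zgi29) (kgi xgi23 ygi44 zgi2) (kgi xgi31 ygi5 zgi60) (kgi xgi23 ygi16 zgi10) (kgi xgi31 ygi6 zgi30)) (@D3.rec (fun _ => Pt) (kgi xgi29 ygi52 zgi12) (kgi xgi14 ygi0 zgi37) (kgi xgi23 ygi45 zgi11) (kgi xgi23 ygi38 zgi18) (kgi xgi14 ygi0 zgi26) (kgi xgi23 ygi38 zgi13) (kgi xgi14 ygi9 zgi18) (kgi xgi31 ygi6 zgi38) (kgi xgi22 ygi42 zgi22) (kgi xgi23 ygi32 zgi60) (kgi xgi14 ygi0 zgi28) (kgi xgi30 ygi58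 zgi45) (kgi xgi31 ygi2 zgi40) (kgi xgi14 ygi51 zgi30) (kgi xgi23 ygi24 zgi58) (kgi xgi30 ygi41 zgi36) (kgi xgi14 ygi30 zgi29) (kgi xgi23 ygi38 zgi14) (kgi xgi14 ygi8 zgi55) (kgi xgi25 ygi44 zgi7) (kgi xgi20 ygi18 zgi43) (kgi xgi19 ygi49 zgi31) (kgi xgi31 ygi6 zgi35) (kgi xgi25 ygi2 zgi26) (kgi xgi15 ygi22 zgi61) (kgi xgi24 ygi20 zgi8) (kgi xgi18 ygi42 zgi32) (kgi xgi14 ygi0 zgi53) (kgi xgi30 ygi32 zgi12) (kgi xgi30 ygi32 zgi11) (kgi xgi14 ygi16 zgi31) (kgi xgi14 ygi0 zgi55) (kgi xgi14 ygi16 zgi25) (kgi xgi31 ygi6 zgi44) (kgi xgi31 ygi6 zgi46) (kgi xgi23 ygi19 zgi10) (kgi xgi14 ygi0 zgi58) (kgi xgi22 ygi17 zgi10) (kgi xgi22 ygi17 zgi7) (kgi xgi23 ygi44 zgi41) (kgi xgi27 ygi57 zgi60) (kgi xgi14 ygi1 zgi1) (kgi xgi24 ygi53 zgi23) (kgi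 xgi25 ygi15 zgi55) (kgi xgi30 ygi13 zgi32) (kgi xgi23 ygi45 zgi10) (kgi xgi23 ygi25 zgi24) (kgi xgi29 ygi51 zgi43) (kgi xgi29 ygi51 zgi37) (kgi xgi23 ygi31 zgi51) (kgi xgi18 ygi18 zgi50) (kgi xgi18 ygi18 zgi21) (kgi xgi30 ygi5 zgi28) (kgi xgi28 ygi2 zgi25) (kgi xgi25 ygi1 zgi38) (kgi xgi22 ygi39 zgi5) (kgi xgi19 ygi15 zgi15) (kgi xgi14 ygi1 zgi15) (kgi xgi23 ygi34 zgi12) (kgi xgi30 ygi56 zgi14) (kgi xgi22 ygi9 zgi22) (kgi xgi16 ygi17 zgi60)) (@D3.rec (fun _ => Pt) (kgi xgi28 ygi44 zgi11) (kgi xgi23 ygi57 zgi12) (kgi xgi19 ygi15 zgi21) (kgi xgi14 ygi1 zgi19) (kgi xgi14 ygi31 zgi60) (kgi xgi14 ygi1 zgi21) (kgi xgi14 ygi21 zgi24) (kgi xgi18 ygi45 zgi51) (kgi xgi26 ygi19 zgi33) (kgi xgi27 ygi48 zgi13) (kgi xgi14 ygi1 zgi27) (kgi xgi22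 ygi15 zgi37) (kgi xgi23 ygi33 zgi57) (kgi xgi31 ygi1 zgi19) (kgi xgi14 ygi1 zgi28) (kgi xgi22 ygi8 zgi52) (kgi xgi24 ygi46 zgi41) (kgi xgi23 ygi51 zgi27) (kgi xgi22 ygi34 zgi56) (kgi xgi30 ygi11 zgi51) (kgi xgi28 ygi39 zgi17) (kgi xgi23 ygi51 zgi6) (kgi xgi14 ygi1 zgi31) (kgi xgi24 ygi24 zgi46) (kgi xgi31 ygi1 zgi50) (kgi xgi24 ygi24 zgi25) (kgi xgi29 ygi30 zgi23) (kgi xgi14 ygi53 zgi60) (kgi xgi21 ygi58 zgi27) (kgi xgi27 ygi9 zgi14) (kgi xgi17 ygi30 zgi1) (kgi xgi26 ygi52 zgi0) (kgi xgi15 ygi4 zgi61) (kgi xgi14 ygi8 zgi5) (kgi xgi20 ygi27 zgi50) (kgi xgi14 ygi3 zgi18) (kgi xgi23 ygi23 zgi21) (kgi xgi28 ygi38 zgi0) (kgi xgi19 ygi54 zgi60) (kgi xgi14 ygi47 zgi43) (kgi xgi14 ygi1 zgi52) (kgi xgi27 ygi25 zgi41) (kgi xgi14 ygi1 zgi57)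 (kgi xgi23 ygi34 zgi27) (kgi xgi26 ygi25 zgi2) (kgi xgi18 ygi18 zgi36) (kgi xgi26 ygi48 zgi58) (kgi xgi21 ygi12 zgi25) (kgi xgi25 ygi42 zgi12) (kgi xgi31 ygi7 zgi7) (kgi xgi14 ygi1 zgi59) (kgi xgi30 ygi8 zgi56) (kgi xgi19 ygi16 zgi59) (kgi xgi26 ygi0 zgi32) (kgi xgi14 ygi1 zgi61) (kgi xgi31 ygi7 zgi9) (kgi xgi14 ygi54 zgi47) (kgi xgi23 ygi31 zgi46) (kgi xgi27 ygi47 zgi55) (kgi xgi16 ygi16 zgi2) (kgi xgi26 ygi1 zgi14) (kgi xgi24 ygi42 zgi55)) (@D3.rec (fun _ => Pt) (kgi xgi24 ygi36 zgi10) (kgi xgi31 ygi1 zgi26) (kgi xgi24 ygi40 zgi50) (kgi xgi31 ygi7 zgi11) (kgi xgi14 ygi2 zgi7) (kgi xgi31 ygi7 zgi12) (kgi xgi16 ygi10 zgi41) (kgi xgi30 ygi4 zgi11) (kgi xgi17 ygi12 zgi26) (kgi xgi23 ygi38 zgi57) (kgi xgi14 ygi2 zgi10) (kgi xgi23 ygi23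 zgi9) (kgi xgi23 ygi23 zgi6) (kgi xgi29 ygi22 zgi7) (kgi xgi23 ygi23 zgi4) (kgi xgi23 ygi40 zgi12) (kgi xgi14 ygi2 zgi17) (kgi xgi15 ygi50 zgi20) (kgi xgi22 ygi17 zgi55) (kgi xgi14 ygi2 zgi16) (kgi xgi23 ygi24 zgi27) (kgi xgi21 ygi37 zgi59) (kgi xgi16 ygi56 zgi33) (kgi xgi31 ygi7 zgi17) (kgi xgi14 ygi21 zgi28) (kgi xgi26 ygi40 zgi17) (kgi xgi14 ygi2 zgi26) (kgi xgi16 ygi7 zgi9) (kgi xgi22 ygi27 zgi11) (kgi xgi14 ygi2 zgi33) (kgi xgi24 ygi41 zgi1) (kgi xgi24 ygi41 zgi0) (kgi xgi14 ygi2 zgi34) (kgi xgi23 ygi23 zgi26) (kgi xgi22 ygi14 zgi42) (kgi xgi14 ygi9 zgi40) (kgi xgi22 ygi17 zgi46) (kgi xgi28 ygi10 zgi54) (kgi xgi28 ygi27 zgi43) (kgi xgi15 ygi12 zgi19) (kgi xgi14 ygi2 zgi40) (kgi xgi23 ygi45 zgi2) (kgi xgi23 ygi45 zgi0) (kgi xgi15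 ygi4 zgi21) (kgi xgi14 ygi2 zgi44) (kgi xgi23 ygi22 zgi25) (kgi xgi23 ygi22 zgi23) (kgi xgi23 ygi22 zgi20) (kgi xgi23 ygi22 zgi18) (kgi xgi21 ygi4 zgi28) (kgi xgi21 ygi4 zgi26) (kgi xgi31 ygi1 zgi34) (kgi xgi17 ygi13 zgi36) (kgi xgi21 ygi4 zgi32) (kgi xgi30 ygi20 zgi6) (kgi xgi27 ygi24 zgi54) (kgi xgi23 ygi23 zgi58) (kgi xgi14 ygi2 zgi51) (kgi xgi23 ygi23 zgi60) (kgi xgi14 ygi29 zgi4) (kgi xgi14 ygi2 zgi58) (kgi xgi28 ygi43 zgi42)) (@D3.rec (fun _ => Pt) (kgi xgi21 ygi37 zgi54) (kgi xgi15 ygi39 zgi14) (kgi xgi30 ygi38 zgi54) (kgi xgi15 ygi43 zgi36) (kgi xgi30 ygi4 zgi10) (kgi xgi23 ygi26 zgi21) (kgi xgi23 ygi24 zgi11) (kgi xgi14 ygi55 zgi22) (kgi xgi22 ygi1 zgi50) (kgi xgi21 ygi46 zgi54) (kgi xgi29 ygi23 zgi27) (kgi xgi14 ygi20 zgi26)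 (kgi xgi23 ygi23 zgi22) (kgi xgi14 ygi3 zgi12) (kgi xgi23 ygi23 zgi20) (kgi xgi14 ygi54 zgi37) (kgi xgi16 ygi5 zgi15) (kgi xgi18 ygi26 zgi9) (kgi xgi14 ygi3 zgi14) (kgi xgi23 ygi23 zgi33) (kgi xgi31 ygi7 zgi33) (kgi xgi21 ygi33 zgi13) (kgi xgi14 ygi3 zgi17) (kgi xgi15 ygi42 zgi38) (kgi xgi23 ygi23 zgi19) (kgi xgi14 ygi54 zgi17) (kgi xgi15 ygi42 zgi50) (kgi xgi14 ygi3 zgi22) (kgi xgi14 ygi55 zgi57) (kgi xgi14 ygi3 zgi23) (kgi xgi23 ygi4 zgi24) (kgi xgi27 ygi2 zgi19) (kgi xgi21 ygi44 zgi23) (kgi xgi14 ygi3 zgi28) (kgi xgi14 ygi3 zgi29) (kgi xgi21 ygi37 zgi2) (kgi xgi23 ygi22 zgi17) (kgi xgi17 ygi45 zgi20) (kgi xgi22 ygi15 zgi2) (kgi xgi30 ygi36 zgi34) (kgi xgi28 ygi46 zgi42) (kgi xgi14 ygi3 zgi37) (kgi xgi22 ygi18 zgi53) (kgi xgi22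 ygi18 zgi52) (kgi xgi22 ygi15 zgi47) (kgi xgi14 ygi3 zgi41) (kgi xgi14 ygi3 zgi42) (kgi xgi22 ygi18 zgi46) (kgi xgi19 ygi22 zgi56) (kgi xgi14 ygi15 zgi2) (kgi xgi29 ygi20 zgi36) (kgi xgi19 ygi22 zgi36) (kgi xgi27 ygi50 zgi22) (kgi xgi14 ygi3 zgi47) (kgi xgi31 ygi7 zgi40) (kgi xgi27 ygi35 zgi4) (kgi xgi14 ygi3 zgi48) (kgi xgi19 ygi4 zgi57) (kgi xgi14 ygi3 zgi49) (kgi xgi23 ygi22 zgi38) (kgi xgi18 ygi5 zgi11) (kgi xgi28 ygi16 zgi19)) (@D3.rec (fun _ => Pt) (kgi xgi18 ygi4 zgi56) (kgi xgi15 ygi50 zgi40) (kgi xgi26 ygi19 zgi36) (kgi xgi29 ygi2 zgi31) (kgi xgi30 ygi41 zgi42) (kgi xgi23 ygi38 zgi36) (kgi xgi31 ygi3 zgi4) (kgi xgi21 ygi56 zgi42) (kgi xgi30 ygi3 zgi13) (kgi xgi23 ygi30 zgi56) (kgi xgi14 ygi3 zgi60) (kgi xgi23 ygi24 zgi50)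 (kgi xgi26 ygi8 zgi47) (kgi xgi23 ygi24 zgi47) (kgi xgi23 ygi44 zgi50) (kgi xgi23 ygi44 zgi54) (kgi xgi31 ygi1 zgi10) (kgi xgi30 ygi42 zgi40) (kgi xgi30 ygi2 zgi16) (kgi xgi23 ygi29 zgi51) (kgi xgi30 ygi32 zgi43) (kgi xgi29 ygi55 zgi18) (kgi xgi30 ygi17 zgi43) (kgi xgi23 ygi29 zgi37) (kgi xgi31 ygi2 zgi48) (kgi xgi30 ygi31 zgi45) (kgi xgi23 ygi16 zgi52) (kgi xgi31 ygi7 zgi59) (kgi xgi23 ygi32 zgi28) (kgi xgi14 ygi4 zgi9) (kgi xgi23 ygi25 zgi5) (kgi xgi31 ygi8 zgi3) (kgi xgi16 ygi29 zgi28) (kgi xgi14 ygi4 zgi16) (kgi xgi14 ygi8 zgi12) (kgi xgi30 ygi33 zgi41) (kgi xgi31 ygi8 zgi4) (kgi xgi19 ygi53 zgi15) (kgi xgi18 ygi28 zgi14) (kgi xgi14 ygi4 zgi17) (kgi xgi14 ygi8 zgi34) (kgi xgi23 ygi29 zgi39) (kgi xgi18 ygi29 zgi43) (kgi xgi26 ygi8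 zgi23) (kgi xgi28 ygi36 zgi52) (kgi xgi20 ygi42 zgi6) (kgi xgi23 ygi34 zgi28) (kgi xgi14 ygi4 zgi23) (kgi xgi17 ygi43 zgi36) (kgi xgi31 ygi8 zgi10) (kgi xgi31 ygi8 zgi12) (kgi xgi22 ygi8 zgi11) (kgi xgi23 ygi22 zgi60) (kgi xgi17 ygi19 zgi28) (kgi xgi27 ygi28 zgi1) (kgi xgi21 ygi4 zgi29) (kgi xgi15 ygi12 zgi1) (kgi xgi27 ygi48 zgi46) (kgi xgi14 ygi4 zgi37) (kgi xgi18 ygi4 zgi29) (kgi xgi27 ygi50 zgi20) (kgi xgi26 ygi18 zgi12)) (@D3.rec (fun _ => Pt) (kgi xgi19 ygi49 zgi24) (kgi xgi20 ygi44 zgi42) (kgi xgi20 ygi44 zgi41) (kgi xgi14 ygi4 zgi45) (kgi xgi21 ygi22 zgi55) (kgi xgi19 ygi53 zgi2) (kgi xgi26 ygi58 zgi0) (kgi xgi14 ygi12 zgi4) (kgi xgi18 ygi25 zgi14) (kgi xgi18 ygi24 zgi56) (kgi xgi14 ygi33 zgi13) (kgi xgi14 ygi6 zgi31) (kgi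 xgi23 ygi28 zgi32) (kgi xgi23 ygi33 zgi4) (kgi xgi23 ygi2 zgi22) (kgi xgi14 ygi48 zgi24) (kgi xgi23 ygi33 zgi17) (kgi xgi23 ygi26 zgi53) (kgi xgi14 ygi5 zgi6) (kgi xgi23 ygi33 zgi3) (kgi xgi22 ygi28 zgi7) (kgi xgi30 ygi42 zgi28) (kgi xgi14 ygi5 zgi11) (kgi xgi14 ygi5 zgi22) (kgi xgi30 ygi2 zgi42) (kgi xgi30 ygi2 zgi45) (kgi xgi24 ygi54 zgi15) (kgi xgi14 ygi5 zgi17) (kgi xgi30 ygi40 zgi55) (kgi xgi31 ygi8 zgi32) (kgi xgi31 ygi8 zgi35) (kgi xgi23 ygi37 zgi15) (kgi xgi22 ygi44 zgi51) (kgi xgi31 ygi8 zgi41) (kgi xgi22 ygi42 zgi50) (kgi xgi31 ygi8 zgi45) (kgi xgi30 ygi40 zgi9) (kgi xgi22 ygi44 zgi32) (kgi xgi21 ygi49 zgi9) (kgi xgi14 ygi5 zgi24) (kgi xgi31 ygi5 zgi21) (kgi xgi31 ygi8 zgi55) (kgi xgi31 ygi8 zgi58) (kgi xgi30 ygi41 zgi43)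 (kgi xgi31 ygi5 zgi18) (kgi xgi14 ygi5 zgi26) (kgi xgi22 ygi17 zgi42) (kgi xgi31 ygi8 zgi61) (kgi xgi14 ygi5 zgi27) (kgi xgi14 ygi5 zgi29) (kgi xgi29 ygi59 zgi33) (kgi xgi14 ygi6 zgi5) (kgi xgi14 ygi6 zgi7) (kgi xgi31 ygi9 zgi2) (kgi xgi30 ygi37 zgi24) (kgi xgi30 ygi11 zgi24) (kgi xgi23 ygi28 zgi7) (kgi xgi23 ygi35 zgi8) (kgi xgi25 ygi42 zgi40) (kgi xgi31 ygi9 zgi7) (kgi xgi14 ygi5 zgi33) (kgi xgi23 ygi28 zgi3)) (@D3.rec (fun _ => Pt) (kgi xgi23 ygi27 zgi8) (kgi xgi27 ygi43 zgi61) (kgi xgi23 ygi27 zgi61) (kgi xgi23 ygi28 zgi40) (kgi xgi14 ygi5 zgi46) (kgi xgi23 ygi28 zgi15) (kgi xgi14 ygi5 zgi37) (kgi xgi23 ygi28 zgi14) (kgi xgi15 ygi42 zgi57) (kgi xgi27 ygi1 zgi53) (kgi xgi29 ygi56 zgi33) (kgi xgi14 ygi5 zgi40) (kgi xgi21 ygi24 zgi31)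 (kgi xgi23 ygi28 zgi10) (kgi xgi14 ygi6 zgi8) (kgi xgi23 ygi59 zgi40) (kgi xgi14 ygi39 zgi36) (kgi xgi31 ygi9 zgi20) (kgi xgi31 ygi4 zgi54) (kgi xgi14 ygi5 zgi44) (kgi xgi23 ygi28 zgi25) (kgi xgi29 ygi59 zgi47) (kgi xgi23 ygi28 zgi23) (kgi xgi22 ygi17 zgi43) (kgi xgi25 ygi42 zgi48) (kgi xgi14 ygi5 zgi47) (kgi xgi23 ygi28 zgi31) (kgi xgi23 ygi28 zgi29) (kgi xgi31 ygi9 zgi33) (kgi xgi30 ygi41 zgi49) (kgi xgi14 ygi5 zgi49) (kgi xgi23 ygi28 zgi38) (kgi xgi21 ygi49 zgi14) (kgi xgi31 ygi9 zgi37) (kgi xgi31 ygi9 zgi30) (kgi xgi26 ygi46 zgi18) (kgi xgi14 ygi5 zgi52) (kgi xgi28 ygi19 zgi22) (kgi xgi31 ygi9 zgi48) (kgi xgi28 ygi19 zgi21) (kgi xgi31 ygi9 zgi43) (kgi xgi19 ygi19 zgi50) (kgi xgi31 ygi9 zgi56) (kgi xgi14 ygi5 zgi55) (kgi xgi23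 ygi28 zgi4) (kgi xgi30 ygi41 zgi29) (kgi xgi31 ygi10 zgi2) (kgi xgi24 ygi17 zgi41) (kgi xgi25 ygi29 zgi61) (kgi xgi14 ygi5 zgi58) (kgi xgi22 ygi43 zgi27) (kgi xgi22 ygi43 zgi25) (kgi xgi30 ygi56 zgi56) (kgi xgi27 ygi36 zgi1) (kgi xgi31 ygi10 zgi6) (kgi xgi30 ygi57 zgi42) (kgi xgi21 ygi19 zgi18) (kgi xgi30 ygi41 zgi12) (kgi xgi17 ygi18 zgi45) (kgi xgi30 ygi34 zgi0) (kgi xgi27 ygi40 zgi30) (kgi xgi14 ygi6 zgi6)) (@D3.rec (fun _ => Pt) (kgi xgi21 ygi34 zgi26) (kgi xgi23 ygi27 zgi55) (kgi xgi30 ygi35 zgi54) (kgi xgi21 ygi24 zgi44) (kgi xgi14 ygi6 zgi10) (kgi xgi23 ygi42 zgi1) (kgi xgi25 ygi38 zgi40) (kgi xgi31 ygi10 zgi14) (kgi xgi15 ygi49 zgi48) (kgi xgi25 ygi39 zgi61) (kgi xgi16 ygi3 zgi18) (kgi xgi14 ygi55 zgi7) (kgi xgi23 ygi35 zgi13)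 (kgi xgi23 ygi27 zgi23) (kgi xgi30 ygi41 zgi51) (kgi xgi25 ygi39 zgi58) (kgi xgi29 ygi12 zgi4) (kgi xgi23 ygi26 zgi45) (kgi xgi24 ygi42 zgi29) (kgi xgi23 ygi27 zgi7) (kgi xgi23 ygi26 zgi54) (kgi xgi20 ygi53 zgi25) (kgi xgi14 ygi6 zgi25) (kgi xgi23 ygi26 zgi52) (kgi xgi29 ygi14 zgi4) (kgi xgi23 ygi27 zgi6) (kgi xgi30 ygi36 zgi2) (kgi xgi31 ygi10 zgi26) (kgi xgi14 ygi6 zgi30) (kgi xgi23 ygi19 zgi37) (kgi xgi23 ygi26 zgi51) (kgi xgi23 ygi41 zgi21) (kgi xgi14 ygi6 zgi32) (kgi xgi29 ygi10 zgi33) (kgi xgi29 ygi49 zgi47) (kgi xgi30 ygi7 zgi32) (kgi xgi23 ygi25 zgi19) (kgi xgi23 ygi21 zgi49) (kgi xgi22 ygi41 zgi19) (kgi xgi22 ygi58 zgi22) (kgi xgi29 ygi46 zgi38) (kgi xgi31 ygi8 zgi6) (kgi xgi28 ygi11 zgi45) (kgi xgi30 ygi3 zgi0) (kgi xgi14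 ygi6 zgi51) (kgi xgi24 ygi40 zgi7) (kgi xgi23 ygi26 zgi50) (kgi xgi22 ygi43 zgi16) (kgi xgi14 ygi6 zgi45) (kgi xgi14 ygi7 zgi3) (kgi xgi23 ygi40 zgi31) (kgi xgi14 ygi7 zgi0) (kgi xgi14 ygi39 zgi61) (kgi xgi16 ygi7 zgi45) (kgi xgi31 ygi10 zgi39) (kgi xgi29 ygi26 zgi54) (kgi xgi25 ygi39 zgi57) (kgi xgi31 ygi10 zgi38) (kgi xgi21 ygi54 zgi37) (kgi xgi14 ygi6 zgi53) (kgi xgi31 ygi10 zgi33) (kgi xgi31 ygi10 zgi44)) (@D3.rec (fun _ => Pt) (kgi xgi31 ygi10 zgi31) (kgi xgi30 ygi37 zgi57) (kgi xgi24 ygi21 zgi55) (kgi xgi14 ygi6 zgi56) (kgi xgi29 ygi15 zgi42) (kgi xgi29 ygi57 zgi4) (kgi xgi24 ygi10 zgi45) (kgi xgi23 ygi24 zgi53) (kgi xgi30 ygi38 zgi40) (kgi xgi24 ygi38 zgi44) (kgi xgi29 ygi15 zgi33) (kgi xgi29 ygi49 zgi39) (kgi xgi31 ygi8 zgi21)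 (kgi xgi25 ygi57 zgi42) (kgi xgi30 ygi41 zgi21) (kgi xgi31 ygi10 zgi21) (kgi xgi14 ygi53 zgi23) (kgi xgi15 ygi42 zgi19) (kgi xgi23 ygi39 zgi0) (kgi xgi31 ygi4 zgi9) (kgi xgi21 ygi48 zgi41) (kgi xgi27 ygi4 zgi58) (kgi xgi31 ygi10 zgi58) (kgi xgi31 ygi10 zgi59) (kgi xgi14 ygi7 zgi6) (kgi xgi25 ygi14 zgi22) (kgi xgi29 ygi16 zgi39) (kgi xgi22 ygi43 zgi21) (kgi xgi23 ygi24 zgi36) (kgi xgi30 ygi51 zgi43) (kgi xgi30 ygi42 zgi23) (kgi xgi25 ygi6 zgi27) (kgi xgi21 ygi50 zgi37) (kgi xgi23 ygi30 zgi10) (kgi xgi23 ygi30 zgi27) (kgi xgi31 ygi1 zgi60) (kgi xgi31 ygi11 zgi8) (kgi xgi14 ygi7 zgi13) (kgi xgi14 ygi53 zgi29) (kgi xgi14 ygi53 zgi27) (kgi xgi14 ygi7 zgi14) (kgi xgi23 ygi30 zgi18) (kgi xgi14 ygi7 zgi15) (kgi xgi31 ygi3 zgi51) (kgi xgi19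 ygi46 zgi3) (kgi xgi19 ygi45 zgi53) (kgi xgi31 ygi11 zgi12) (kgi xgi24 ygi5 zgi0) (kgi xgi31 ygi4 zgi43) (kgi xgi14 ygi7 zgi18) (kgi xgi23 ygi30 zgi14) (kgi xgi24 ygi10 zgi37) (kgi xgi24 ygi40 zgi2) (kgi xgi31 ygi8 zgi29) (kgi xgi30 ygi42 zgi21) (kgi xgi22 ygi35 zgi22) (kgi xgi24 ygi42 zgi33) (kgi xgi14 ygi7 zgi30) (kgi xgi30 ygi40 zgi3) (kgi xgi31 ygi10 zgi13) (kgi xgi31 ygi2 zgi57) (kgi xgi31 ygi2 zgi6)) (@D3.rec (fun _ => Pt) (kgi xgi29 ygi10 zgi30) (kgi xgi23 ygi40 zgi4) (kgi xgi23 ygi29 zgi26) (kgi xgi31 ygi11 zgi5) (kgi xgi14 ygi7 zgi38) (kgi xgi30 ygi41 zgi11) (kgi xgi14 ygi7 zgi40) (kgi xgi14 ygi7 zgi46) (kgi xgi19 ygi16 zgi58) (kgi xgi15 ygi49 zgi40) (kgi xgi25 ygi45 zgi42) (kgi xgi29 ygi23 zgi0) (kgi xgi31 ygi8 zgi5) (kgi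 xgi16 ygi3 zgi52) (kgi xgi16 ygi7 zgi36) (kgi xgi29 ygi6 zgi33) (kgi xgi23 ygi30 zgi48) (kgi xgi14 ygi7 zgi45) (kgi xgi19 ygi16 zgi43) (kgi xgi25 ygi39 zgi42) (kgi xgi21 ygi27 zgi52) (kgi xgi24 ygi42 zgi17) (kgi xgi14 ygi45 zgi49) (kgi xgi23 ygi36 zgi20) (kgi xgi15 ygi44 zgi29) (kgi xgi17 ygi37 zgi32) (kgi xgi24 ygi30 zgi52) (kgi xgi26 ygi26 zgi25) (kgi xgi14 ygi8 zgi3) (kgi xgi18 ygi19 zgi42) (kgi xgi21 ygi37 zgi51) (kgi xgi27 ygi40 zgi48) (kgi xgi14 ygi8 zgi7) (kgi xgi29 ygi55 zgi56) (kgi xgi16 ygi23 zgi33) (kgi xgi15 ygi14 zgi15) (kgi xgi16 ygi23 zgi32) (kgi xgi29 ygi46 zgi40) (kgi xgi14 ygi8 zgi37) (kgi xgi30 ygi33 zgi40) (kgi xgi14 ygi8 zgi13) (kgi xgi26 ygi9 zgi16) (kgi xgi21 ygi33 zgi33) (kgi xgi19 ygi17 zgi3) (kgi xgi14 ygi8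 zgi16) (kgi xgi23 ygi24 zgi43) (kgi xgi18 ygi29 zgi18) (kgi xgi23 ygi1 zgi56) (kgi xgi30 ygi4 zgi21) (kgi xgi14 ygi8 zgi20) (kgi xgi30 ygi1 zgi6) (kgi xgi14 ygi8 zgi21) (kgi xgi15 ygi12 zgi18) (kgi xgi24 ygi37 zgi18) (kgi xgi30 ygi3 zgi14) (kgi xgi24 ygi59 zgi52) (kgi xgi23 ygi14 zgi52) (kgi xgi18 ygi19 zgi22) (kgi xgi14 ygi8 zgi28) (kgi xgi30 ygi31 zgi54) (kgi xgi30 ygi52 zgi46) (kgi xgi23 ygi14 zgi50)) (@D3.rec (fun _ => Pt) (kgi xgi17 ygi9 zgi5) (kgi xgi17 ygi9 zgi7) (kgi xgi20 ygi7 zgi14) (kgi xgi23 ygi44 zgi61) (kgi xgi31 ygi11 zgi34) (kgi xgi23 ygi27 zgi46) (kgi xgi23 ygi28 zgi50) (kgi xgi31 ygi11 zgi38) (kgi xgi30 ygi4 zgi22) (kgi xgi15 ygi9 zgi41) (kgi xgi18 ygi36 zgi57) (kgi xgi14 ygi8 zgi39) (kgi xgi15 ygi13 zgi34) (kgi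 xgi30 ygi3 zgi15) (kgi xgi28 ygi42 zgi52) (kgi xgi19 ygi56 zgi8) (kgi xgi18 ygi26 zgi47) (kgi xgi30 ygi1 zgi0) (kgi xgi14 ygi8 zgi43) (kgi xgi31 ygi8 zgi8) (kgi xgi17 ygi51 zgi41) (kgi xgi28 ygi36 zgi49) (kgi xgi16 ygi16 zgi49) (kgi xgi18 ygi28 zgi10) (kgi xgi24 ygi59 zgi0) (kgi xgi30 ygi1 zgi12) (kgi xgi18 ygi29 zgi59) (kgi xgi18 ygi29 zgi60) (kgi xgi15 ygi12 zgi22) (kgi xgi18 ygi29 zgi6) (kgi xgi15 ygi14 zgi19) (kgi xgi16 ygi35 zgi55) (kgi xgi20 ygi11 zgi60) (kgi xgi31 ygi8 zgi24) (kgi xgi30 ygi51 zgi52) (kgi xgi23 ygi2 zgi32) (kgi xgi16 ygi13 zgi0) (kgi xgi14 ygi47 zgi1) (kgi xgi26 ygi47 zgi23) (kgi xgi30 ygi42 zgi31) (kgi xgi31 ygi8 zgi23) (kgi xgi21 ygi2 zgi18) (kgi xgi30 ygi42 zgi37) (kgi xgi24 ygi40 zgi15) (kgi xgi31 ygi11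 zgi56) (kgi xgi31 ygi7 zgi53) (kgi xgi19 ygi55 zgi23) (kgi xgi19 ygi56 zgi21) (kgi xgi21 ygi55 zgi7) (kgi xgi19 ygi31 zgi15) (kgi xgi22 ygi43 zgi53) (kgi xgi14 ygi47 zgi33) (kgi xgi29 ygi13 zgi24) (kgi xgi14 ygi8 zgi60) (kgi xgi29 ygi58 zgi47) (kgi xgi29 ygi58 zgi48) (kgi xgi27 ygi44 zgi33) (kgi xgi14 ygi8 zgi61) (kgi xgi30 ygi0 zgi53) (kgi xgi27 ygi26 zgi10) (kgi xgi23 ygi45 zgi6) (kgi xgi23 ygi24 zgi57)) (@D3.rec (fun _ => Pt) (kgi xgi14 ygi9 zgi57) (kgi xgi30 ygi0 zgi59) (kgi xgi23 ygi32 zgi61) (kgi xgi18 ygi10 zgi22) (kgi xgi14 ygi47 zgi47) (kgi xgi30 ygi32 zgi51) (kgi xgi24 ygi31 zgi42) (kgi xgi30 ygi42 zgi46) (kgi xgi14 ygi9 zgi9) (kgi xgi26 ygi7 zgi46) (kgi xgi31 ygi12 zgi4) (kgi xgi21 ygi40 zgi53) (kgi xgi23 ygi17 zgi58) (kgi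 xgi22 ygi42 zgi15) (kgi xgi16 ygi16 zgi58) (kgi xgi14 ygi9 zgi13) (kgi xgi29 ygi58 zgi51) (kgi xgi27 ygi17 zgi48) (kgi xgi21 ygi55 zgi49) (kgi xgi14 ygi10 zgi10) (kgi xgi14 ygi9 zgi56) (kgi xgi23 ygi38 zgi20) (kgi xgi30 ygi42 zgi29) (kgi xgi29 ygi48 zgi60) (kgi xgi14 ygi9 zgi19) (kgi xgi19 ygi26 zgi32) (kgi xgi23 ygi24 zgi61) (kgi xgi30 ygi0 zgi35) (kgi xgi27 ygi4 zgi33) (kgi xgi24 ygi40 zgi19) (kgi xgi14 ygi9 zgi26) (kgi xgi21 ygi26 zgi6) (kgi xgi14 ygi9 zgi33) (kgi xgi30 ygi52 zgi0) (kgi xgi14 ygi9 zgi30) (kgi xgi18 ygi29 zgi44) (kgi xgi27 ygi4 zgi24) (kgi xgi26 ygi15 zgi57) (kgi xgi31 ygi12 zgi7) (kgi xgi27 ygi45 zgi41) (kgi xgi22 ygi28 zgi32) (kgi xgi14 ygi9 zgi51) (kgi xgi23 ygi33 zgi39) (kgi xgi22 ygi17 zgi53) (kgi xgi26 ygi3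 zgi32) (kgi xgi14 ygi9 zgi42) (kgi xgi23 ygi20 zgi3) (kgi xgi28 ygi3 zgi45) (kgi xgi26 ygi7 zgi2) (kgi xgi31 ygi12 zgi9) (kgi xgi23 ygi37 zgi20) (kgi xgi26 ygi9 zgi2) (kgi xgi14 ygi9 zgi48) (kgi xgi19 ygi14 zgi50) (kgi xgi26 ygi58 zgi31) (kgi xgi22 ygi17 zgi50) (kgi xgi31 ygi12 zgi15) (kgi xgi14 ygi9 zgi52) (kgi xgi28 ygi10 zgi6) (kgi xgi18 ygi29 zgi24) (kgi xgi18 ygi19 zgi16) (kgi xgi25 ygi1 zgi16)) (@D3.rec (fun _ => Pt) (kgi xgi14 ygi9 zgi55) (kgi xgi23 ygi35 zgi42) (kgi xgi23 ygi35 zgi40) (kgi xgi30 ygi0 zgi60) (kgi xgi30 ygi0 zgi57) (kgi xgi17 ygi41 zgi10) (kgi xgi21 ygi25 zgi10) (kgi xgi26 ygi9 zgi3) (kgi xgi31 ygi0 zgi10) (kgi xgi26 ygi8 zgi50) (kgi xgi31 ygi12 zgi21) (kgi xgi23 ygi33 zgi1) (kgi xgi30 ygi7 zgi24) (kgi xgi30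 ygi57 zgi8) (kgi xgi31 ygi2 zgi9) (kgi xgi31 ygi12 zgi23) (kgi xgi24 ygi31 zgi43) (kgi xgi14 ygi10 zgi6) (kgi xgi19 ygi14 zgi42) (kgi xgi23 ygi33 zgi45) (kgi xgi23 ygi26 zgi58) (kgi xgi31 ygi12 zgi26) (kgi xgi14 ygi10 zgi9) (kgi xgi30 ygi0 zgi54) (kgi xgi23 ygi17 zgi61) (kgi xgi23 ygi44 zgi18) (kgi xgi21 ygi37 zgi58) (kgi xgi19 ygi30 zgi55) (kgi xgi14 ygi31 zgi45) (kgi xgi30 ygi26 zgi21) (kgi xgi19 ygi30 zgi57) (kgi xgi20 ygi47 zgi6) (kgi xgi19 ygi3 zgi50) (kgi xgi22 ygi24 zgi32) (kgi xgi24 ygi25 zgi59) (kgi xgi24 ygi29 zgi41) (kgi xgi24 ygi1 zgi47) (kgi xgi30 ygi30 zgi18) (kgi xgi30 ygi28 zgi44) (kgi xgi24 ygi22 zgi46) (kgi xgi31 ygi12 zgi32) (kgi xgi20 ygi48 zgi21) (kgi xgi22 ygi23 zgi6) (kgi xgi30 ygi26 zgi10) (kgi xgi29 ygi40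 zgi53) (kgi xgi30 ygi15 zgi48) (kgi xgi28 ygi20 zgi24) (kgi xgi20 ygi47 zgi43) (kgi xgi14 ygi10 zgi28) (kgi xgi22 ygi19 zgi22) (kgi xgi28 ygi46 zgi16) (kgi xgi22 ygi19 zgi18) (kgi xgi14 ygi10 zgi34) (kgi xgi14 ygi40 zgi42) (kgi xgi14 ygi10 zgi32) (kgi xgi14 ygi30 zgi43) (kgi xgi16 ygi40 zgi29) (kgi xgi19 ygi13 zgi36) (kgi xgi14 ygi40 zgi41) (kgi xgi14 ygi40 zgi38) (kgi xgi14 ygi18 zgi32) (kgi xgi31 ygi12 zgi44)) (@D3.rec (fun _ => Pt) (kgi xgi26 ygi59 zgi49) (kgi xgi14 ygi40 zgi54) (kgi xgi21 ygi59 zgi61) (kgi xgi29 ygi38 zgi56) (kgi xgi22 ygi42 zgi32) (kgi xgi31 ygi12 zgi47) (kgi xgi14 ygi37 zgi49) (kgi xgi14 ygi22 zgi55) (kgi xgi14 ygi10 zgi42) (kgi xgi31 ygi12 zgi51) (kgi xgi22 ygi24 zgi17) (kgi xgi14 ygi10 zgi43) (kgi xgi14 ygi44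 zgi11) (kgi xgi14 ygi44 zgi8) (kgi xgi20 ygi6 zgi29) (kgi xgi22 ygi14 zgi56) (kgi xgi14 ygi44 zgi58) (kgi xgi22 ygi30 zgi41) (kgi xgi23 ygi3 zgi15) (kgi xgi29 ygi51 zgi28) (kgi xgi14 ygi10 zgi50) (kgi xgi23 ygi15 zgi54) (kgi xgi28 ygi11 zgi41) (kgi xgi26 ygi25 zgi1) (kgi xgi20 ygi6 zgi24) (kgi xgi24 ygi47 zgi9) (kgi xgi17 ygi2 zgi18) (kgi xgi15 ygi5 zgi42) (kgi xgi16 ygi30 zgi37) (kgi xgi31 ygi12 zgi57) (kgi xgi14 ygi10 zgi58) (kgi xgi24 ygi29 zgi49) (kgi xgi30 ygi36 zgi11) (kgi xgi29 ygi18 zgi45) (kgi xgi18 ygi51 zgi40) (kgi xgi27 ygi2 zgi6) (kgi xgi23 ygi28 zgi49) (kgi xgi27 ygi13 zgi36) (kgi xgi15 ygi40 zgi26) (kgi xgi31 ygi12 zgi60) (kgi xgi26 ygi31 zgi55) (kgi xgi18 ygi53 zgi35) (kgi xgi20 ygi40 zgi55) (kgi xgi22 ygi12 zgi50)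 (kgi xgi24 ygi9 zgi18) (kgi xgi22 ygi16 zgi52) (kgi xgi30 ygi27 zgi53) (kgi xgi30 ygi6 zgi44) (kgi xgi27 ygi53 zgi29) (kgi xgi21 ygi55 zgi8) (kgi xgi27 ygi29 zgi28) (kgi xgi14 ygi11 zgi18) (kgi xgi31 ygi13 zgi3) (kgi xgi14 ygi11 zgi19) (kgi xgi14 ygi36 zgi14) (kgi xgi24 ygi43 zgi35) (kgi xgi21 ygi6 zgi24) (kgi xgi21 ygi6 zgi11) (kgi xgi29 ygi17 zgi20) (kgi xgi14 ygi11 zgi25) (kgi xgi26 ygi7 zgi45) (kgi xgi18 ygi41 zgi5)) (@D3.rec (fun _ => Pt) (kgi xgi20 ygi12 zgi54) (kgi xgi21 ygi44 zgi57) (kgi xgi14 ygi11 zgi36) (kgi xgi24 ygi19 zgi43) (kgi xgi14 ygi29 zgi17) (kgi xgi17 ygi25 zgi47) (kgi xgi27 ygi2 zgi1) (kgi xgi20 ygi42 zgi20) (kgi xgi30 ygi5 zgi41) (kgi xgi18 ygi17 zgi24) (kgi xgi14 ygi11 zgi42) (kgi xgi31 ygi13 zgi10) (kgi xgi23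 ygi48 zgi56) (kgi xgi14 ygi11 zgi44) (kgi xgi17 ygi18 zgi17) (kgi xgi29 ygi48 zgi28) (kgi xgi14 ygi26 zgi16) (kgi xgi14 ygi11 zgi51) (kgi xgi21 ygi41 zgi6) (kgi xgi27 ygi21 zgi23) (kgi xgi28 ygi10 zgi32) (kgi xgi31 ygi13 zgi14) (kgi xgi29 ygi29 zgi25) (kgi xgi28 ygi58 zgi0) (kgi xgi21 ygi21 zgi38) (kgi xgi21 ygi21 zgi59) (kgi xgi28 ygi10 zgi16) (kgi xgi31 ygi13 zgi13) (kgi xgi22 ygi20 zgi21) (kgi xgi20 ygi53 zgi1) (kgi xgi19 ygi37 zgi11) (kgi xgi30 ygi19 zgi36) (kgi xgi27 ygi17 zgi32) (kgi xgi17 ygi35 zgi1) (kgi xgi21 ygi34 zgi11) (kgi xgi21 ygi58 zgi38) (kgi xgi16 ygi59 zgi54) (kgi xgi14 ygi12 zgi20) (kgi xgi27 ygi53 zgi31) (kgi xgi14 ygi17 zgi1) (kgi xgi16 ygi0 zgi23) (kgi xgi17 ygi19 zgi46) (kgi xgi23 ygi49 zgi42) (kgi xgi20 ygi36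 zgi3) (kgi xgi21 ygi44 zgi17) (kgi xgi30 ygi38 zgi52) (kgi xgi30 ygi30 zgi19) (kgi xgi26 ygi25 zgi49) (kgi xgi18 ygi49 zgi26) (kgi xgi30 ygi34 zgi11) (kgi xgi14 ygi22 zgi54) (kgi xgi21 ygi51 zgi2) (kgi xgi21 ygi9 zgi19) (kgi xgi26 ygi50 zgi16) (kgi xgi14 ygi12 zgi42) (kgi xgi17 ygi15 zgi58) (kgi xgi14 ygi12 zgi45) (kgi xgi30 ygi36 zgi17) (kgi xgi22 ygi14 zgi24) (kgi xgi14 ygi12 zgi48) (kgi xgi31 ygi13 zgi30) (kgi xgi14 ygi12 zgi60)) (@D3.rec (fun _ => Pt) (kgi xgi14 ygi12 zgi53) (kgi xgi21 ygi37 zgi34) (kgi xgi28 ygi13 zgi60) (kgi xgi29 ygi36 zgi53) (kgi xgi29 ygi35 zgi1) (kgi xgi28 ygi43 zgi25) (kgi xgi26 ygi53 zgi48) (kgi xgi19 ygi30 zgi18) (kgi xgi20 ygi41 zgi57) (kgi xgi31 ygi13 zgi34) (kgi xgi28 ygi29 zgi52) (kgi xgi14 ygi27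 zgi16) (kgi xgi29 ygi2 zgi15) (kgi xgi30 ygi45 zgi10) (kgi xgi30 ygi30 zgi39) (kgi xgi30 ygi22 zgi9) (kgi xgi14 ygi13 zgi0) (kgi xgi30 ygi38 zgi4) (kgi xgi28 ygi56 zgi8) (kgi xgi28 ygi42 zgi2) (kgi xgi31 ygi13 zgi29) (kgi xgi22 ygi14 zgi7) (kgi xgi14 ygi13 zgi4) (kgi xgi24 ygi20 zgi16) (kgi xgi31 ygi12 zgi52) (kgi xgi24 ygi18 zgi56) (kgi xgi14 ygi15 zgi8) (kgi xgi28 ygi50 zgi51) (kgi xgi30 ygi35 zgi57) (kgi xgi14 ygi13 zgi8) (kgi xgi27 ygi8 zgi20) (kgi xgi22 ygi42 zgi44) (kgi xgi22 ygi37 zgi33) (kgi xgi30 ygi34 zgi34) (kgi xgi28 ygi35 zgi50) (kgi xgi14 ygi13 zgi11) (kgi xgi24 ygi30 zgi7) (kgi xgi24 ygi30 zgi5) (kgi xgi14 ygi13 zgi12) (kgi xgi28 ygi46 zgi38) (kgi xgi28 ygi37 zgi35) (kgi xgi28 ygi17 zgi29) (kgi xgi29 ygi50 zgi11) (kgi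 xgi14 ygi13 zgi14) (kgi xgi24 ygi2 zgi15) (kgi xgi14 ygi13 zgi37) (kgi xgi31 ygi12 zgi31) (kgi xgi27 ygi6 zgi59) (kgi xgi24 ygi26 zgi31) (kgi xgi29 ygi36 zgi30) (kgi xgi24 ygi38 zgi33) (kgi xgi14 ygi13 zgi19) (kgi xgi29 ygi36 zgi28) (kgi xgi30 ygi34 zgi23) (kgi xgi30 ygi38 zgi41) (kgi xgi17 ygi27 zgi5) (kgi xgi27 ygi8 zgi57) (kgi xgi28 ygi53 zgi3) (kgi xgi14 ygi13 zgi23) (kgi xgi27 ygi13 zgi40) (kgi xgi24 ygi25 zgi60) (kgi xgi22 ygi32 zgi13)) (@D3.rec (fun _ => Pt) (kgi xgi23 ygi51 zgi59) (kgi xgi30 ygi25 zgi30) (kgi xgi14 ygi13 zgi33) (kgi xgi22 ygi19 zgi3) (kgi xgi14 ygi13 zgi34) (kgi xgi18 ygi48 zgi61) (kgi xgi27 ygi11 zgi18) (kgi xgi14 ygi41 zgi17) (kgi xgi30 ygi14 zgi47) (kgi xgi28 ygi25 zgi26) (kgi xgi18 ygi0 zgi20) (kgi xgi31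 ygi14 zgi0) (kgi xgi14 ygi13 zgi42) (kgi xgi30 ygi7 zgi6) (kgi xgi29 ygi40 zgi45) (kgi xgi30 ygi43 zgi1) (kgi xgi31 ygi12 zgi39) (kgi xgi21 ygi52 zgi39) (kgi xgi30 ygi16 zgi25) (kgi xgi20 ygi26 zgi48) (kgi xgi20 ygi40 zgi47) (kgi xgi14 ygi14 zgi16) (kgi xgi29 ygi25 zgi35) (kgi xgi20 ygi26 zgi50) (kgi xgi14 ygi13 zgi53) (kgi xgi29 ygi50 zgi19) (kgi xgi29 ygi43 zgi34) (kgi xgi26 ygi53 zgi23) (kgi xgi14 ygi13 zgi57) (kgi xgi14 ygi36 zgi45) (kgi xgi31 ygi14 zgi13) (kgi xgi24 ygi6 zgi19) (kgi xgi14 ygi36 zgi44) (kgi xgi14 ygi21 zgi61) (kgi xgi15 ygi44 zgi57) (kgi xgi23 ygi58 zgi53) (kgi xgi14 ygi41 zgi35) (kgi xgi14 ygi14 zgi23) (kgi xgi30 ygi8 zgi12) (kgi xgi14 ygi14 zgi3) (kgi xgi27 ygi54 zgi11) (kgi xgi29 ygi7 zgi37) (kgi xgi29 ygi47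 zgi9) (kgi xgi17 ygi7 zgi24) (kgi xgi29 ygi22 zgi37) (kgi xgi14 ygi14 zgi6) (kgi xgi20 ygi14 zgi61) (kgi xgi29 ygi23 zgi19) (kgi xgi14 ygi35 zgi9) (kgi xgi24 ygi29 zgi30) (kgi xgi14 ygi35 zgi11) (kgi xgi14 ygi26 zgi52) (kgi xgi14 ygi14 zgi10) (kgi xgi14 ygi14 zgi21) (kgi xgi26 ygi14 zgi14) (kgi xgi31 ygi14 zgi20) (kgi xgi14 ygi14 zgi11) (kgi xgi28 ygi1 zgi45) (kgi xgi26 ygi15 zgi58) (kgi xgi19 ygi41 zgi0) (kgi xgi27 ygi21 zgi14) (kgi xgi23 ygi42 zgi31)) (@D3.rec (fun _ => Pt) (kgi xgi22 ygi18 zgi2) (kgi xgi31 ygi14 zgi22) (kgi xgi21 ygi9 zgi12) (kgi xgi17 ygi15 zgi60) (kgi xgi29 ygi57 zgi59) (kgi xgi23 ygi47 zgi35) (kgi xgi22 ygi39 zgi4) (kgi xgi27 ygi32 zgi39) (kgi xgi24 ygi1 zgi58) (kgi xgi19 ygi21 zgi36) (kgi xgi31 ygi14 zgi25)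 (kgi xgi19 ygi3 zgi44) (kgi xgi14 ygi43 zgi41) (kgi xgi19 ygi5 zgi12) (kgi xgi22 ygi18 zgi5) (kgi xgi31 ygi14 zgi30) (kgi xgi19 ygi5 zgi25) (kgi xgi27 ygi23 zgi18) (kgi xgi18 ygi48 zgi9) (kgi xgi18 ygi48 zgi4) (kgi xgi30 ygi2 zgi28) (kgi xgi28 ygi27 zgi34) (kgi xgi31 ygi14 zgi31) (kgi xgi14 ygi14 zgi32) (kgi xgi21 ygi42 zgi16) (kgi xgi18 ygi22 zgi48) (kgi xgi27 ygi53 zgi55) (kgi xgi25 ygi33 zgi61) (kgi xgi31 ygi14 zgi36) (kgi xgi27 ygi53 zgi53) (kgi xgi27 ygi50 zgi11) (kgi xgi28 ygi15 zgi30) (kgi xgi14 ygi14 zgi39) (kgi xgi31 ygi14 zgi41) (kgi xgi17 ygi47 zgi26) (kgi xgi28 ygi25 zgi37) (kgi xgi14 ygi14 zgi40) (kgi xgi31 ygi14 zgi37) (kgi xgi31 ygi14 zgi35) (kgi xgi14 ygi18 zgi20) (kgi xgi24 ygi38 zgi42) (kgi xgi14 ygi27 zgi28) (kgi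 xgi14 ygi14 zgi43) (kgi xgi30 ygi35 zgi33) (kgi xgi30 ygi35 zgi31) (kgi xgi26 ygi16 zgi40) (kgi xgi23 ygi52 zgi10) (kgi xgi22 ygi18 zgi27) (kgi xgi14 ygi15 zgi32) (kgi xgi28 ygi17 zgi43) (kgi xgi14 ygi26 zgi50) (kgi xgi22 ygi18 zgi11) (kgi xgi27 ygi33 zgi57) (kgi xgi29 ygi38 zgi40) (kgi xgi31 ygi14 zgi52) (kgi xgi26 ygi18 zgi33) (kgi xgi31 ygi14 zgi57) (kgi xgi14 ygi14 zgi52) (kgi xgi31 ygi14 zgi50) (kgi xgi29 ygi32 zgi54) (kgi xgi20 ygi56 zgi58) (kgi xgi14 ygi14 zgi55)) (@D3.rec (fun _ => Pt) (kgi xgi30 ygi35 zgi22) (kgi xgi30 ygi23 zgi30) (kgi xgi16 ygi18 zgi35) (kgi xgi14 ygi14 zgi56) (kgi xgi30 ygi35 zgi34) (kgi xgi18 ygi4 zgi59) (kgi xgi23 ygi34 zgi18) (kgi xgi28 ygi17 zgi38) (kgi xgi30 ygi49 zgi31) (kgi xgi30 ygi35 zgi13) (kgi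 xgi14 ygi14 zgi59) (kgi xgi24 ygi29 zgi55) (kgi xgi14 ygi40 zgi31) (kgi xgi24 ygi29 zgi53) (kgi xgi27 ygi32 zgi60) (kgi xgi30 ygi54 zgi4) (kgi xgi31 ygi15 zgi5) (kgi xgi31 ygi15 zgi8) (kgi xgi14 ygi15 zgi3) (kgi xgi30 ygi38 zgi2) (kgi xgi22 ygi50 zgi4) (kgi xgi14 ygi15 zgi4) (kgi xgi24 ygi54 zgi3) (kgi xgi30 ygi35 zgi52) (kgi xgi24 ygi46 zgi46) (kgi xgi14 ygi15 zgi5) (kgi xgi30 ygi35 zgi42) (kgi xgi22 ygi35 zgi17) (kgi xgi27 ygi47 zgi10) (kgi xgi18 ygi47 zgi48) (kgi xgi14 ygi15 zgi18) (kgi xgi30 ygi49 zgi61) (kgi xgi31 ygi15 zgi15) (kgi xgi30 ygi35 zgi47) (kgi xgi31 ygi15 zgi20) (kgi xgi24 ygi2 zgi6) (kgi xgi14 ygi15 zgi10) (kgi xgi22 ygi18 zgi9) (kgi xgi28 ygi32 zgi1) (kgi xgi18 ygi33 zgi17) (kgi xgi29 ygi20 zgi29) (kgi xgi14 ygi15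 zgi11) (kgi xgi25 ygi47 zgi51) (kgi xgi19 ygi22 zgi42) (kgi xgi14 ygi15 zgi12) (kgi xgi27 ygi45 zgi32) (kgi xgi25 ygi10 zgi48) (kgi xgi14 ygi15 zgi13) (kgi xgi24 ygi53 zgi60) (kgi xgi24 ygi44 zgi39) (kgi xgi26 ygi13 zgi18) (kgi xgi14 ygi24 zgi18) (kgi xgi24 ygi5 zgi6) (kgi xgi14 ygi15 zgi17) (kgi xgi28 ygi47 zgi7) (kgi xgi14 ygi15 zgi19) (kgi xgi30 ygi23 zgi27) (kgi xgi18 ygi54 zgi51) (kgi xgi18 ygi45 zgi50) (kgi xgi28 ygi21 zgi28) (kgi xgi19 ygi18 zgi53) (kgi xgi23 ygi49 zgi0)) (@D3.rec (fun _ => Pt) (kgi xgi18 ygi45 zgi43) (kgi xgi22 ygi18 zgi57) (kgi xgi31 ygi15 zgi37) (kgi xgi14 ygi15 zgi28) (kgi xgi22 ygi35 zgi14) (kgi xgi22 ygi56 zgi15) (kgi xgi30 ygi55 zgi50) (kgi xgi14 ygi15 zgi31) (kgi xgi22 ygi15 zgi41) (kgi xgi19 ygi18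 zgi57) (kgi xgi22 ygi34 zgi42) (kgi xgi30 ygi19 zgi51) (kgi xgi14 ygi35 zgi10) (kgi xgi28 ygi21 zgi26) (kgi xgi23 ygi50 zgi46) (kgi xgi18 ygi4 zgi61) (kgi xgi23 ygi34 zgi5) (kgi xgi28 ygi46 zgi29) (kgi xgi28 ygi20 zgi9) (kgi xgi14 ygi15 zgi38) (kgi xgi22 ygi36 zgi22) (kgi xgi30 ygi25 zgi18) (kgi xgi22 ygi49 zgi9) (kgi xgi23 ygi15 zgi44) (kgi xgi22 ygi31 zgi58) (kgi xgi30 ygi46 zgi46) (kgi xgi23 ygi14 zgi41) (kgi xgi26 ygi57 zgi46) (kgi xgi23 ygi15 zgi39) (kgi xgi26 ygi26 zgi27) (kgi xgi26 ygi7 zgi41) (kgi xgi28 ygi25 zgi54) (kgi xgi30 ygi32 zgi9) (kgi xgi23 ygi33 zgi12) (kgi xgi23 ygi19 zgi58) (kgi xgi14 ygi15 zgi51) (kgi xgi29 ygi51 zgi27) (kgi xgi28 ygi11 zgi35) (kgi xgi17 ygi3 zgi56) (kgi xgi27 ygi8 zgi27) (kgi xgi14 ygi39 zgi45)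 (kgi xgi22 ygi14 zgi9) (kgi xgi14 ygi15 zgi61) (kgi xgi22 ygi13 zgi61) (kgi xgi23 ygi59 zgi31) (kgi xgi22 ygi16 zgi1) (kgi xgi29 ygi35 zgi42) (kgi xgi30 ygi39 zgi38) (kgi xgi31 ygi15 zgi46) (kgi xgi31 ygi13 zgi48) (kgi xgi30 ygi50 zgi43) (kgi xgi14 ygi16 zgi5) (kgi xgi29 ygi54 zgi56) (kgi xgi28 ygi26 zgi46) (kgi xgi29 ygi54 zgi54) (kgi xgi30 ygi35 zgi7) (kgi xgi19 ygi52 zgi33) (kgi xgi28 ygi36 zgi21) (kgi xgi28 ygi14 zgi54) (kgi xgi14 ygi16 zgi9) (kgi xgi26 ygi44 zgi9) (kgi xgi20 ygi47 zgi0)) (@D3.rec (fun _ => Pt) (kgi xgi24 ygi11 zgi34) (kgi xgi27 ygi19 zgi12) (kgi xgi14 ygi20 zgi8) (kgi xgi14 ygi26 zgi23) (kgi xgi31 ygi15 zgi52) (kgi xgi22 ygi0 zgi34) (kgi xgi17 ygi4 zgi45) (kgi xgi25 ygi18 zgi35) (kgi xgi23 ygi53 zgi9) (kgi xgi23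 ygi53 zgi11) (kgi xgi26 ygi43 zgi30) (kgi xgi23 ygi53 zgi13) (kgi xgi31 ygi15 zgi50) (kgi xgi23 ygi53 zgi8) (kgi xgi14 ygi26 zgi35) (kgi xgi17 ygi17 zgi26) (kgi xgi21 ygi49 zgi36) (kgi xgi24 ygi12 zgi31) (kgi xgi31 ygi15 zgi57) (kgi xgi30 ygi27 zgi33) (kgi xgi19 ygi24 zgi1) (kgi xgi23 ygi53 zgi5) (kgi xgi31 ygi15 zgi60) (kgi xgi14 ygi48 zgi15) (kgi xgi14 ygi16 zgi27) (kgi xgi14 ygi16 zgi29) (kgi xgi23 ygi52 zgi2) (kgi xgi28 ygi19 zgi3) (kgi xgi28 ygi33 zgi40) (kgi xgi26 ygi45 zgi5) (kgi xgi26 ygi45 zgi0) (kgi xgi31 ygi16 zgi1) (kgi xgi28 ygi17 zgi5) (kgi xgi31 ygi16 zgi5) (kgi xgi28 ygi24 zgi0) (kgi xgi28 ygi50 zgi57) (kgi xgi14 ygi16 zgi32) (kgi xgi14 ygi16 zgi34) (kgi xgi30 ygi27 zgi38) (kgi xgi31 ygi16 zgi8) (kgi xgi24 ygi12 zgi47)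 (kgi xgi14 ygi16 zgi33) (kgi xgi26 ygi44 zgi0) (kgi xgi27 ygi59 zgi46) (kgi xgi31 ygi16 zgi7) (kgi xgi19 ygi41 zgi35) (kgi xgi23 ygi0 zgi4) (kgi xgi23 ygi4 zgi29) (kgi xgi14 ygi26 zgi28) (kgi xgi28 ygi14 zgi53) (kgi xgi28 ygi26 zgi0) (kgi xgi18 ygi54 zgi61) (kgi xgi14 ygi16 zgi60) (kgi xgi27 ygi54 zgi54) (kgi xgi14 ygi16 zgi41) (kgi xgi18 ygi32 zgi26) (kgi xgi28 ygi23 zgi32) (kgi xgi27 ygi48 zgi15) (kgi xgi14 ygi16 zgi45) (kgi xgi22 ygi58 zgi10) (kgi xgi30 ygi34 zgi59) (kgi xgi20 ygi33 zgi54)) (@D3.rec (fun _ => Pt) (kgi xgi26 ygi52 zgi61) (kgi xgi31 ygi16 zgi14) (kgi xgi27 ygi23 zgi16) (kgi xgi30 ygi7 zgi35) (kgi xgi21 ygi42 zgi48) (kgi xgi21 ygi54 zgi57) (kgi xgi21 ygi20 zgi11) (kgi xgi18 ygi50 zgi13) (kgi xgi21 ygi45 zgi42) (kgi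 xgi31 ygi16 zgi18) (kgi xgi24 ygi11 zgi1) (kgi xgi14 ygi23 zgi37) (kgi xgi22 ygi12 zgi46) (kgi xgi18 ygi15 zgi9) (kgi xgi24 ygi2 zgi16) (kgi xgi31 ygi16 zgi23) (kgi xgi14 ygi17 zgi0) (kgi xgi30 ygi34 zgi44) (kgi xgi30 ygi34 zgi42) (kgi xgi30 ygi18 zgi22) (kgi xgi31 ygi16 zgi27) (kgi xgi14 ygi17 zgi2) (kgi xgi30 ygi34 zgi46) (kgi xgi24 ygi4 zgi45) (kgi xgi30 ygi34 zgi48) (kgi xgi31 ygi16 zgi32) (kgi xgi22 ygi16 zgi16) (kgi xgi30 ygi31 zgi13) (kgi xgi30 ygi57 zgi1) (kgi xgi14 ygi17 zgi6) (kgi xgi30 ygi31 zgi12) (kgi xgi31 ygi16 zgi43) (kgi xgi28 ygi8 zgi18) (kgi xgi14 ygi17 zgi7) (kgi xgi31 ygi16 zgi33) (kgi xgi31 ygi16 zgi31) (kgi xgi14 ygi48 zgi16) (kgi xgi14 ygi24 zgi40) (kgi xgi14 ygi23 zgi59) (kgi xgi27 ygi1 zgi17) (kgi xgi30 ygi36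 zgi42) (kgi xgi30 ygi49 zgi34) (kgi xgi30 ygi33 zgi3) (kgi xgi18 ygi57 zgi48) (kgi xgi30 ygi36 zgi40) (kgi xgi22 ygi58 zgi8) (kgi xgi30 ygi36 zgi36) (kgi xgi29 ygi21 zgi16) (kgi xgi14 ygi17 zgi18) (kgi xgi30 ygi56 zgi18) (kgi xgi29 ygi16 zgi2) (kgi xgi14 ygi17 zgi19) (kgi xgi29 ygi16 zgi4) (kgi xgi31 ygi16 zgi48) (kgi xgi22 ygi16 zgi27) (kgi xgi23 ygi19 zgi27) (kgi xgi28 ygi9 zgi9) (kgi xgi14 ygi17 zgi24) (kgi xgi30 ygi34 zgi56) (kgi xgi31 ygi16 zgi60) (kgi xgi23 ygi11 zgi32) (kgi xgi23 ygi11 zgi34)) (@D3.rec (fun _ => Pt) (kgi xgi28 ygi22 zgi41) (kgi xgi25 ygi56 zgi28) (kgi xgi14 ygi17 zgi29) (kgi xgi31 ygi0 zgi20) (kgi xgi29 ygi32 zgi2) (kgi xgi14 ygi17 zgi30) (kgi xgi29 ygi19 zgi54) (kgi xgi25 ygi56 zgi30) (kgi xgi14 ygi27 zgi9)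 (kgi xgi30 ygi49 zgi37) (kgi xgi30 ygi57 zgi6) (kgi xgi14 ygi17 zgi33) (kgi xgi14 ygi27 zgi25) (kgi xgi22 ygi57 zgi31) (kgi xgi14 ygi27 zgi23) (kgi xgi30 ygi23 zgi50) (kgi xgi30 ygi12 zgi54) (kgi xgi19 ygi21 zgi28) (kgi xgi19 ygi18 zgi60) (kgi xgi19 ygi19 zgi6) (kgi xgi16 ygi37 zgi40) (kgi xgi14 ygi17 zgi43) (kgi xgi14 ygi26 zgi19) (kgi xgi21 ygi16 zgi8) (kgi xgi20 ygi46 zgi5) (kgi xgi14 ygi26 zgi13) (kgi xgi28 ygi13 zgi11) (kgi xgi17 ygi17 zgi27) (kgi xgi29 ygi6 zgi5) (kgi xgi25 ygi18 zgi37) (kgi xgi14 ygi17 zgi53) (kgi xgi20 ygi3 zgi35) (kgi xgi25 ygi47 zgi43) (kgi xgi14 ygi23 zgi50) (kgi xgi14 ygi23 zgi49) (kgi xgi24 ygi14 zgi25) (kgi xgi30 ygi8 zgi31) (kgi xgi29 ygi30 zgi39) (kgi xgi14 ygi37 zgi11) (kgi xgi14 ygi24 zgi32) (kgi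 xgi17 ygi20 zgi45) (kgi xgi14 ygi24 zgi10) (kgi xgi20 ygi27 zgi18) (kgi xgi28 ygi57 zgi17) (kgi xgi31 ygi17 zgi10) (kgi xgi25 ygi26 zgi9) (kgi xgi23 ygi57 zgi22) (kgi xgi31 ygi17 zgi15) (kgi xgi14 ygi17 zgi61) (kgi xgi14 ygi25 zgi1) (kgi xgi14 ygi24 zgi61) (kgi xgi14 ygi24 zgi23) (kgi xgi23 ygi12 zgi60) (kgi xgi29 ygi47 zgi7) (kgi xgi14 ygi18 zgi1) (kgi xgi14 ygi25 zgi7) (kgi xgi30 ygi56 zgi42) (kgi xgi29 ygi8 zgi29) (kgi xgi23 ygi9 zgi39) (kgi xgi27 ygi23 zgi6) (kgi xgi14 ygi18 zgi4) (kgi xgi14 ygi25 zgi29)) (@D3.rec (fun _ => Pt) (kgi xgi14 ygi25 zgi26) (kgi xgi15 ygi15 zgi10) (kgi xgi15 ygi52 zgi1) (kgi xgi28 ygi35 zgi44) (kgi xgi16 ygi43 zgi22) (kgi xgi17 ygi18 zgi50) (kgi xgi24 ygi17 zgi52) (kgi xgi14 ygi18 zgi10) (kgi xgi14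 ygi22 zgi38) (kgi xgi30 ygi8 zgi29) (kgi xgi31 ygi14 zgi17) (kgi xgi14 ygi18 zgi11) (kgi xgi24 ygi13 zgi32) (kgi xgi19 ygi40 zgi60) (kgi xgi19 ygi24 zgi32) (kgi xgi21 ygi53 zgi9) (kgi xgi27 ygi16 zgi55) (kgi xgi14 ygi18 zgi16) (kgi xgi14 ygi27 zgi14) (kgi xgi14 ygi27 zgi10) (kgi xgi14 ygi18 zgi25) (kgi xgi14 ygi27 zgi30) (kgi xgi24 ygi9 zgi14) (kgi xgi14 ygi18 zgi24) (kgi xgi14 ygi27 zgi38) (kgi xgi14 ygi27 zgi36) (kgi xgi14 ygi18 zgi26) (kgi xgi14 ygi27 zgi46) (kgi xgi28 ygi31 zgi8) (kgi xgi14 ygi27 zgi52) (kgi xgi14 ygi27 zgi50) (kgi xgi29 ygi41 zgi7) (kgi xgi24 ygi12 zgi25) (kgi xgi27 ygi44 zgi2) (kgi xgi31 ygi13 zgi44) (kgi xgi14 ygi30 zgi58) (kgi xgi28 ygi52 zgi45) (kgi xgi28 ygi42 zgi11) (kgi xgi14 ygi18 zgi43) (kgi xgi27 ygi30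 zgi20) (kgi xgi31 ygi13 zgi19) (kgi xgi23 ygi5 zgi58) (kgi xgi23 ygi58 zgi10) (kgi xgi28 ygi56 zgi51) (kgi xgi14 ygi25 zgi16) (kgi xgi30 ygi37 zgi47) (kgi xgi20 ygi47 zgi4) (kgi xgi28 ygi41 zgi39) (kgi xgi19 ygi38 zgi24) (kgi xgi24 ygi2 zgi59) (kgi xgi14 ygi30 zgi15) (kgi xgi19 ygi36 zgi13) (kgi xgi22 ygi19 zgi15) (kgi xgi24 ygi43 zgi6) (kgi xgi22 ygi40 zgi59) (kgi xgi22 ygi58 zgi25) (kgi xgi17 ygi25 zgi42) (kgi xgi20 ygi29 zgi49) (kgi xgi31 ygi15 zgi56) (kgi xgi28 ygi14 zgi9) (kgi xgi14 ygi20 zgi28) (kgi xgi28 ygi34 zgi15)) (@D3.rec (fun _ => Pt) (kgi xgi21 ygi14 zgi20) (kgi xgi30 ygi53 zgi14) (kgi xgi27 ygi12 zgi11) (kgi xgi30 ygi53 zgi2) (kgi xgi31 ygi17 zgi48) (kgi xgi30 ygi31 zgi27) (kgi xgi22 ygi58 zgi32) (kgi xgi24 ygi24 zgi27)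 (kgi xgi21 ygi39 zgi54) (kgi xgi19 ygi9 zgi56) (kgi xgi28 ygi56 zgi18) (kgi xgi27 ygi21 zgi29) (kgi xgi23 ygi33 zgi60) (kgi xgi14 ygi31 zgi36) (kgi xgi31 ygi17 zgi28) (kgi xgi14 ygi19 zgi45) (kgi xgi31 ygi17 zgi50) (kgi xgi14 ygi31 zgi55) (kgi xgi14 ygi31 zgi52) (kgi xgi31 ygi10 zgi47) (kgi xgi17 ygi22 zgi52) (kgi xgi24 ygi32 zgi25) (kgi xgi24 ygi4 zgi29) (kgi xgi14 ygi19 zgi28) (kgi xgi14 ygi43 zgi14) (kgi xgi19 ygi13 zgi28) (kgi xgi19 ygi15 zgi56) (kgi xgi14 ygi30 zgi11) (kgi xgi23 ygi57 zgi24) (kgi xgi26 ygi57 zgi4) (kgi xgi17 ygi1 zgi56) (kgi xgi19 ygi12 zgi59) (kgi xgi31 ygi17 zgi59) (kgi xgi19 ygi13 zgi27) (kgi xgi14 ygi20 zgi40) (kgi xgi28 ygi56 zgi26) (kgi xgi14 ygi30 zgi61) (kgi xgi30 ygi43 zgi49) (kgi xgi29 ygi28 zgi22)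 (kgi xgi20 ygi51 zgi2) (kgi xgi14 ygi19 zgi39) (kgi xgi22 ygi52 zgi58) (kgi xgi14 ygi31 zgi17) (kgi xgi19 ygi9 zgi54) (kgi xgi14 ygi19 zgi42) (kgi xgi23 ygi57 zgi48) (kgi xgi30 ygi26 zgi13) (kgi xgi17 ygi24 zgi1) (kgi xgi28 ygi50 zgi12) (kgi xgi14 ygi19 zgi48) (kgi xgi26 ygi26 zgi44) (kgi xgi30 ygi26 zgi45) (kgi xgi31 ygi12 zgi27) (kgi xgi30 ygi51 zgi32) (kgi xgi17 ygi26 zgi23) (kgi xgi14 ygi19 zgi53) (kgi xgi14 ygi20 zgi24) (kgi xgi24 ygi28 zgi31) (kgi xgi24 ygi26 zgi54) (kgi xgi14 ygi30 zgi36) (kgi xgi31 ygi7 zgi31) (kgi xgi14 ygi39 zgi40)) (@D3.rec (fun _ => Pt) (kgi xgi23 ygi34 zgi29) (kgi xgi18 ygi54 zgi35) (kgi xgi17 ygi16 zgi43) (kgi xgi30 ygi36 zgi33) (kgi xgi14 ygi35 zgi13) (kgi xgi23 ygi53 zgi4) (kgi xgi25 ygi16 zgi14) (kgi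 xgi14 ygi28 zgi51) (kgi xgi17 ygi3 zgi21) (kgi xgi24 ygi11 zgi0) (kgi xgi20 ygi33 zgi49) (kgi xgi21 ygi16 zgi49) (kgi xgi19 ygi15 zgi17) (kgi xgi20 ygi54 zgi21) (kgi xgi14 ygi20 zgi37) (kgi xgi14 ygi38 zgi17) (kgi xgi14 ygi38 zgi23) (kgi xgi14 ygi20 zgi27) (kgi xgi24 ygi41 zgi11) (kgi xgi24 ygi27 zgi12) (kgi xgi24 ygi42 zgi24) (kgi xgi27 ygi2 zgi20) (kgi xgi30 ygi6 zgi59) (kgi xgi31 ygi18 zgi1) (kgi xgi14 ygi20 zgi35) (kgi xgi14 ygi28 zgi52) (kgi xgi24 ygi1 zgi18) (kgi xgi31 ygi18 zgi14) (kgi xgi19 ygi27 zgi5) (kgi xgi30 ygi53 zgi61) (kgi xgi22 ygi23 zgi16) (kgi xgi19 ygi7 zgi30) (kgi xgi17 ygi0 zgi33) (kgi xgi14 ygi20 zgi42) (kgi xgi19 ygi32 zgi38) (kgi xgi30 ygi3 zgi41) (kgi xgi26 ygi42 zgi33) (kgi xgi14 ygi20 zgi45) (kgi xgi16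 ygi29 zgi58) (kgi xgi22 ygi7 zgi32) (kgi xgi28 ygi43 zgi60) (kgi xgi14 ygi20 zgi49) (kgi xgi23 ygi49 zgi35) (kgi xgi14 ygi20 zgi50) (kgi xgi14 ygi36 zgi54) (kgi xgi14 ygi36 zgi51) (kgi xgi14 ygi29 zgi58) (kgi xgi28 ygi33 zgi15) (kgi xgi16 ygi42 zgi14) (kgi xgi19 ygi4 zgi7) (kgi xgi19 ygi10 zgi41) (kgi xgi14 ygi23 zgi54) (kgi xgi21 ygi59 zgi14) (kgi xgi24 ygi10 zgi24) (kgi xgi14 ygi38 zgi41) (kgi xgi14 ygi20 zgi60) (kgi xgi19 ygi15 zgi38) (kgi xgi14 ygi37 zgi8) (kgi xgi14 ygi23 zgi58) (kgi xgi14 ygi21 zgi2) (kgi xgi19 ygi47 zgi34) (kgi xgi14 ygi21 zgi4)) (@D3.rec (fun _ => Pt) (kgi xgi30 ygi5 zgi19) (kgi xgi19 ygi7 zgi10) (kgi xgi14 ygi48 zgi1) (kgi xgi24 ygi20 zgi5) (kgi xgi14 ygi21 zgi7) (kgi xgi14 ygi37 zgi30) (kgi xgi14 ygi21 zgi11)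 (kgi xgi24 ygi20 zgi3) (kgi xgi19 ygi15 zgi19) (kgi xgi24 ygi35 zgi21) (kgi xgi16 ygi12 zgi45) (kgi xgi14 ygi21 zgi10) (kgi xgi19 ygi56 zgi19) (kgi xgi24 ygi37 zgi42) (kgi xgi16 ygi4 zgi23) (kgi xgi20 ygi40 zgi9) (kgi xgi14 ygi37 zgi47) (kgi xgi19 ygi4 zgi9) (kgi xgi14 ygi37 zgi44) (kgi xgi31 ygi18 zgi28) (kgi xgi14 ygi32 zgi40) (kgi xgi14 ygi38 zgi44) (kgi xgi14 ygi32 zgi46) (kgi xgi19 ygi2 zgi34) (kgi xgi19 ygi4 zgi2) (kgi xgi18 ygi40 zgi13) (kgi xgi14 ygi21 zgi33) (kgi xgi14 ygi39 zgi37) (kgi xgi21 ygi24 zgi32) (kgi xgi14 ygi39 zgi34) (kgi xgi14 ygi21 zgi40) (kgi xgi14 ygi36 zgi53) (kgi xgi14 ygi34 zgi31) (kgi xgi14 ygi39 zgi58) (kgi xgi14 ygi37 zgi46) (kgi xgi30 ygi27 zgi24) (kgi xgi29 ygi48 zgi55) (kgi xgi14 ygi39 zgi20) (kgi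 xgi20 ygi56 zgi9) (kgi xgi31 ygi18 zgi35) (kgi xgi21 ygi24 zgi27) (kgi xgi14 ygi39 zgi38) (kgi xgi30 ygi31 zgi25) (kgi xgi24 ygi22 zgi40) (kgi xgi14 ygi23 zgi1) (kgi xgi14 ygi22 zgi61) (kgi xgi23 ygi58 zgi26) (kgi xgi24 ygi49 zgi8) (kgi xgi14 ygi21 zgi50) (kgi xgi14 ygi41 zgi37) (kgi xgi14 ygi43 zgi23) (kgi xgi28 ygi45 zgi51) (kgi xgi31 ygi18 zgi42) (kgi xgi19 ygi51 zgi31) (kgi xgi14 ygi21 zgi56) (kgi xgi31 ygi18 zgi44) (kgi xgi26 ygi45 zgi12) (kgi xgi14 ygi21 zgi57) (kgi xgi19 ygi5 zgi5) (kgi xgi23 ygi58 zgi19) (kgi xgi19 ygi2 zgi51) (kgi xgi14 ygi21 zgi59))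
def fi_g_24 : D2 → D3 → Pt := @D2.rec (fun _ => D3 → Pt) (@D3.rec (fun _ => Pt) (kgi xgi14 ygi42 zgi8) (kgi xgi14 ygi42 zgi6) (kgi xgi14 ygi41 zgi28) (kgi xgi24 ygi15 zgi3) (kgi xgi24 ygi19 zgi32) (kgi xgi14 ygi42 zgi17) (kgi xgi14 ygi42 zgi15) (kgi xgi14 ygi43 zgi36) (kgi xgi14 ygi43 zgi34) (kgi xgi19 ygi5 zgi56) (kgi xgi16 ygi53 zgi57) (kgi xgi30 ygi12 zgi6) (kgi xgi19 ygi20 zgi49) (kgi xgi31 ygi17 zgi44) (kgi xgi14 ygi41 zgi50) (kgi xgi16 ygi36 zgi54) (kgi xgi24 ygi15 zgi0) (kgi xgi19 ygi3 zgi5) (kgi xgi14 ygi22 zgi12) (kgi xgi14 ygi41 zgi41) (kgi xgi16 ygi40 zgi21) (kgi xgi31 ygi19 zgi7) (kgi xgi14 ygi22 zgi14) (kgi xgi14 ygi42 zgi20) (kgi xgi25 ygi12 zgi0) (kgi xgi19 ygi15 zgi14) (kgi xgi19 ygi3 zgi7) (kgi xgi14 ygi22 zgi18)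 (kgi xgi14 ygi43 zgi49) (kgi xgi14 ygi22 zgi20) (kgi xgi27 ygi18 zgi59) (kgi xgi14 ygi32 zgi44) (kgi xgi30 ygi7 zgi3) (kgi xgi20 ygi35 zgi59) (kgi xgi17 ygi51 zgi12) (kgi xgi28 ygi50 zgi26) (kgi xgi18 ygi47 zgi36) (kgi xgi31 ygi19 zgi15) (kgi xgi22 ygi20 zgi30) (kgi xgi19 ygi37 zgi31) (kgi xgi21 ygi40 zgi22) (kgi xgi17 ygi32 zgi28) (kgi xgi20 ygi37 zgi20) (kgi xgi20 ygi37 zgi21) (kgi xgi18 ygi2 zgi5) (kgi xgi28 ygi47 zgi8) (kgi xgi14 ygi22 zgi37) (kgi xgi14 ygi52 zgi17) (kgi xgi14 ygi52 zgi15) (kgi xgi14 ygi27 zgi7) (kgi xgi22 ygi22 zgi46) (kgi xgi29 ygi47 zgi10) (kgi xgi30 ygi56 zgi46) (kgi xgi22 ygi27 zgi19) (kgi xgi14 ygi44 zgi1) (kgi xgi14 ygi22 zgi44) (kgi xgi14 ygi22 zgi51) (kgi xgi22 ygi24 zgi7) (kgi xgi14 ygi22 zgi47) (kgi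 xgi20 ygi39 zgi13) (kgi xgi31 ygi12 zgi53) (kgi xgi22 ygi33 zgi19)) (@D3.rec (fun _ => Pt) (kgi xgi31 ygi19 zgi30) (kgi xgi22 ygi19 zgi58) (kgi xgi20 ygi55 zgi4) (kgi xgi29 ygi46 zgi33) (kgi xgi20 ygi56 zgi35) (kgi xgi28 ygi54 zgi35) (kgi xgi31 ygi19 zgi36) (kgi xgi27 ygi21 zgi8) (kgi xgi19 ygi30 zgi33) (kgi xgi24 ygi9 zgi58) (kgi xgi23 ygi56 zgi54) (kgi xgi14 ygi22 zgi57) (kgi xgi20 ygi11 zgi50) (kgi xgi30 ygi29 zgi60) (kgi xgi30 ygi25 zgi28) (kgi xgi24 ygi24 zgi29) (kgi xgi14 ygi22 zgi59) (kgi xgi30 ygi12 zgi0) (kgi xgi25 ygi20 zgi24) (kgi xgi19 ygi20 zgi23) (kgi xgi14 ygi42 zgi27) (kgi xgi31 ygi17 zgi51) (kgi xgi27 ygi23 zgi43) (kgi xgi31 ygi18 zgi11) (kgi xgi14 ygi23 zgi3) (kgi xgi31 ygi18 zgi37) (kgi xgi31 ygi19 zgi42) (kgi xgi29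 ygi17 zgi58) (kgi xgi14 ygi23 zgi4) (kgi xgi22 ygi21 zgi10) (kgi xgi24 ygi22 zgi59) (kgi xgi30 ygi39 zgi10) (kgi xgi28 ygi26 zgi44) (kgi xgi14 ygi23 zgi8) (kgi xgi24 ygi16 zgi43) (kgi xgi17 ygi21 zgi9) (kgi xgi17 ygi21 zgi36) (kgi xgi14 ygi23 zgi15) (kgi xgi14 ygi30 zgi56) (kgi xgi14 ygi51 zgi52) (kgi xgi14 ygi23 zgi23) (kgi xgi28 ygi48 zgi38) (kgi xgi14 ygi23 zgi21) (kgi xgi19 ygi21 zgi59) (kgi xgi31 ygi19 zgi51) (kgi xgi14 ygi23 zgi22) (kgi xgi30 ygi20 zgi43) (kgi xgi22 ygi49 zgi11) (kgi xgi21 ygi20 zgi32) (kgi xgi18 ygi27 zgi58) (kgi xgi21 ygi0 zgi0) (kgi xgi22 ygi40 zgi8) (kgi xgi14 ygi23 zgi33) (kgi xgi31 ygi19 zgi55) (kgi xgi14 ygi23 zgi30) (kgi xgi30 ygi8 zgi14) (kgi xgi18 ygi57 zgi45) (kgi xgi31 ygi16 zgi12) (kgi xgi31 ygi17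 zgi26) (kgi xgi14 ygi23 zgi32) (kgi xgi31 ygi19 zgi57) (kgi xgi31 ygi20 zgi4)) (@D3.rec (fun _ => Pt) (kgi xgi31 ygi19 zgi54) (kgi xgi27 ygi21 zgi40) (kgi xgi20 ygi17 zgi34) (kgi xgi31 ygi18 zgi16) (kgi xgi24 ygi30 zgi0) (kgi xgi30 ygi36 zgi25) (kgi xgi22 ygi35 zgi4) (kgi xgi14 ygi26 zgi8) (kgi xgi14 ygi29 zgi61) (kgi xgi31 ygi13 zgi9) (kgi xgi22 ygi37 zgi25) (kgi xgi30 ygi23 zgi40) (kgi xgi31 ygi20 zgi9) (kgi xgi22 ygi46 zgi42) (kgi xgi23 ygi48 zgi29) (kgi xgi23 ygi48 zgi43) (kgi xgi18 ygi57 zgi42) (kgi xgi20 ygi25 zgi36) (kgi xgi24 ygi28 zgi11) (kgi xgi14 ygi24 zgi13) (kgi xgi17 ygi17 zgi9) (kgi xgi29 ygi52 zgi33) (kgi xgi14 ygi23 zgi52) (kgi xgi31 ygi17 zgi8) (kgi xgi26 ygi40 zgi37) (kgi xgi31 ygi20 zgi21) (kgi xgi14 ygi23 zgi53)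 (kgi xgi14 ygi36 zgi35) (kgi xgi14 ygi24 zgi6) (kgi xgi19 ygi40 zgi24) (kgi xgi16 ygi14 zgi7) (kgi xgi21 ygi40 zgi17) (kgi xgi14 ygi30 zgi3) (kgi xgi25 ygi51 zgi31) (kgi xgi14 ygi30 zgi7) (kgi xgi14 ygi24 zgi8) (kgi xgi31 ygi20 zgi25) (kgi xgi23 ygi56 zgi49) (kgi xgi25 ygi5 zgi20) (kgi xgi25 ygi47 zgi45) (kgi xgi22 ygi21 zgi30) (kgi xgi15 ygi26 zgi47) (kgi xgi20 ygi46 zgi17) (kgi xgi20 ygi43 zgi1) (kgi xgi28 ygi55 zgi54) (kgi xgi14 ygi24 zgi3) (kgi xgi22 ygi21 zgi29) (kgi xgi31 ygi20 zgi35) (kgi xgi31 ygi16 zgi46) (kgi xgi14 ygi24 zgi4) (kgi xgi29 ygi30 zgi36) (kgi xgi20 ygi23 zgi43) (kgi xgi29 ygi26 zgi19) (kgi xgi24 ygi19 zgi26) (kgi xgi21 ygi48 zgi12) (kgi xgi14 ygi24 zgi7) (kgi xgi14 ygi37 zgi52) (kgi xgi21 ygi47 zgi53) (kgi xgi28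 ygi56 zgi46) (kgi xgi24 ygi11 zgi28) (kgi xgi24 ygi4 zgi56) (kgi xgi31 ygi1 zgi49)) (@D3.rec (fun _ => Pt) (kgi xgi23 ygi10 zgi54) (kgi xgi14 ygi37 zgi55) (kgi xgi21 ygi44 zgi32) (kgi xgi29 ygi0 zgi45) (kgi xgi28 ygi48 zgi14) (kgi xgi21 ygi3 zgi20) (kgi xgi27 ygi12 zgi5) (kgi xgi19 ygi22 zgi41) (kgi xgi24 ygi50 zgi4) (kgi xgi25 ygi49 zgi54) (kgi xgi24 ygi46 zgi14) (kgi xgi30 ygi55 zgi18) (kgi xgi28 ygi59 zgi36) (kgi xgi26 ygi5 zgi7) (kgi xgi28 ygi59 zgi21) (kgi xgi26 ygi16 zgi2) (kgi xgi14 ygi24 zgi21) (kgi xgi28 ygi57 zgi5) (kgi xgi30 ygi11 zgi15) (kgi xgi23 ygi4 zgi49) (kgi xgi20 ygi39 zgi3) (kgi xgi29 ygi44 zgi19) (kgi xgi29 ygi1 zgi12) (kgi xgi26 ygi52 zgi23) (kgi xgi20 ygi30 zgi28) (kgi xgi27 ygi0 zgi23) (kgi xgi29 ygi46 zgi27)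 (kgi xgi22 ygi1 zgi37) (kgi xgi24 ygi14 zgi45) (kgi xgi16 ygi36 zgi35) (kgi xgi14 ygi24 zgi28) (kgi xgi31 ygi20 zgi61) (kgi xgi31 ygi20 zgi60) (kgi xgi29 ygi3 zgi35) (kgi xgi29 ygi5 zgi36) (kgi xgi14 ygi24 zgi34) (kgi xgi29 ygi1 zgi7) (kgi xgi29 ygi16 zgi52) (kgi xgi24 ygi5 zgi4) (kgi xgi14 ygi25 zgi18) (kgi xgi22 ygi21 zgi14) (kgi xgi22 ygi21 zgi37) (kgi xgi14 ygi47 zgi3) (kgi xgi20 ygi1 zgi46) (kgi xgi30 ygi9 zgi3) (kgi xgi14 ygi28 zgi60) (kgi xgi26 ygi2 zgi2) (kgi xgi26 ygi10 zgi2) (kgi xgi27 ygi36 zgi61) (kgi xgi31 ygi20 zgi41) (kgi xgi29 ygi29 zgi10) (kgi xgi20 ygi12 zgi8) (kgi xgi14 ygi24 zgi46) (kgi xgi22 ygi21 zgi32) (kgi xgi31 ygi21 zgi23) (kgi xgi20 ygi1 zgi53) (kgi xgi31 ygi21 zgi30) (kgi xgi14 ygi24 zgi47) (kgi xgi31 ygi21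 zgi13) (kgi xgi31 ygi13 zgi38) (kgi xgi31 ygi21 zgi12) (kgi xgi30 ygi19 zgi26)) (@D3.rec (fun _ => Pt) (kgi xgi14 ygi24 zgi49) (kgi xgi25 ygi26 zgi6) (kgi xgi30 ygi6 zgi20) (kgi xgi14 ygi24 zgi50) (kgi xgi28 ygi58 zgi1) (kgi xgi24 ygi5 zgi15) (kgi xgi20 ygi53 zgi6) (kgi xgi14 ygi24 zgi53) (kgi xgi30 ygi39 zgi29) (kgi xgi30 ygi39 zgi28) (kgi xgi28 ygi16 zgi46) (kgi xgi19 ygi34 zgi39) (kgi xgi31 ygi21 zgi44) (kgi xgi14 ygi24 zgi57) (kgi xgi31 ygi21 zgi46) (kgi xgi29 ygi46 zgi61) (kgi xgi26 ygi40 zgi59) (kgi xgi14 ygi24 zgi58) (kgi xgi31 ygi21 zgi45) (kgi xgi31 ygi21 zgi43) (kgi xgi14 ygi24 zgi59) (kgi xgi24 ygi11 zgi46) (kgi xgi19 ygi34 zgi54) (kgi xgi14 ygi24 zgi60) (kgi xgi24 ygi11 zgi45) (kgi xgi31 ygi21 zgi56) (kgi xgi19 ygi15 zgi43)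 (kgi xgi29 ygi1 zgi3) (kgi xgi25 ygi41 zgi22) (kgi xgi26 ygi53 zgi38) (kgi xgi27 ygi43 zgi9) (kgi xgi22 ygi21 zgi34) (kgi xgi27 ygi36 zgi58) (kgi xgi31 ygi22 zgi2) (kgi xgi19 ygi58 zgi25) (kgi xgi14 ygi25 zgi4) (kgi xgi31 ygi21 zgi60) (kgi xgi29 ygi13 zgi31) (kgi xgi14 ygi25 zgi5) (kgi xgi24 ygi11 zgi39) (kgi xgi18 ygi52 zgi26) (kgi xgi14 ygi25 zgi6) (kgi xgi24 ygi11 zgi51) (kgi xgi30 ygi9 zgi56) (kgi xgi23 ygi11 zgi24) (kgi xgi22 ygi33 zgi42) (kgi xgi26 ygi51 zgi26) (kgi xgi30 ygi17 zgi55) (kgi xgi30 ygi56 zgi48) (kgi xgi14 ygi25 zgi12) (kgi xgi22 ygi22 zgi7) (kgi xgi29 ygi40 zgi57) (kgi xgi31 ygi22 zgi10) (kgi xgi26 ygi51 zgi31) (kgi xgi25 ygi51 zgi61) (kgi xgi20 ygi50 zgi12) (kgi xgi27 ygi7 zgi40) (kgi xgi23 ygi11 zgi9) (kgi xgi14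 ygi30 zgi8) (kgi xgi14 ygi25 zgi17) (kgi xgi20 ygi53 zgi52) (kgi xgi23 ygi9 zgi37)) (@D3.rec (fun _ => Pt) (kgi xgi20 ygi15 zgi27) (kgi xgi25 ygi45 zgi6) (kgi xgi24 ygi34 zgi56) (kgi xgi28 ygi30 zgi22) (kgi xgi23 ygi51 zgi52) (kgi xgi16 ygi18 zgi8) (kgi xgi24 ygi3 zgi38) (kgi xgi21 ygi14 zgi54) (kgi xgi21 ygi14 zgi25) (kgi xgi22 ygi46 zgi16) (kgi xgi14 ygi25 zgi24) (kgi xgi20 ygi20 zgi43) (kgi xgi17 ygi22 zgi15) (kgi xgi30 ygi3 zgi42) (kgi xgi14 ygi29 zgi39) (kgi xgi22 ygi56 zgi28) (kgi xgi24 ygi19 zgi54) (kgi xgi24 ygi20 zgi29) (kgi xgi28 ygi41 zgi56) (kgi xgi24 ygi4 zgi5) (kgi xgi31 ygi13 zgi7) (kgi xgi14 ygi25 zgi28) (kgi xgi30 ygi38 zgi1) (kgi xgi30 ygi37 zgi46) (kgi xgi14 ygi53 zgi52) (kgi xgi22 ygi51 zgi20) (kgi xgi15 ygi4 zgi38)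 (kgi xgi22 ygi53 zgi6) (kgi xgi28 ygi20 zgi15) (kgi xgi22 ygi53 zgi4) (kgi xgi17 ygi1 zgi41) (kgi xgi21 ygi14 zgi55) (kgi xgi29 ygi24 zgi7) (kgi xgi22 ygi52 zgi59) (kgi xgi20 ygi31 zgi14) (kgi xgi23 ygi13 zgi33) (kgi xgi30 ygi43 zgi25) (kgi xgi20 ygi50 zgi29) (kgi xgi23 ygi7 zgi51) (kgi xgi14 ygi25 zgi44) (kgi xgi25 ygi59 zgi28) (kgi xgi14 ygi25 zgi45) (kgi xgi30 ygi55 zgi28) (kgi xgi30 ygi47 zgi42) (kgi xgi30 ygi55 zgi48) (kgi xgi22 ygi34 zgi48) (kgi xgi30 ygi39 zgi15) (kgi xgi29 ygi39 zgi20) (kgi xgi14 ygi25 zgi53) (kgi xgi14 ygi43 zgi13) (kgi xgi23 ygi5 zgi54) (kgi xgi31 ygi12 zgi50) (kgi xgi30 ygi15 zgi33) (kgi xgi30 ygi35 zgi9) (kgi xgi20 ygi48 zgi48) (kgi xgi20 ygi49 zgi21) (kgi xgi30 ygi16 zgi22) (kgi xgi14 ygi25 zgi58) (kgi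 xgi21 ygi16 zgi9) (kgi xgi27 ygi11 zgi15) (kgi xgi28 ygi56 zgi19) (kgi xgi22 ygi20 zgi34)) (@D3.rec (fun _ => Pt) (kgi xgi30 ygi46 zgi30) (kgi xgi21 ygi15 zgi58) (kgi xgi30 ygi53 zgi0) (kgi xgi14 ygi26 zgi5) (kgi xgi14 ygi26 zgi41) (kgi xgi29 ygi41 zgi21) (kgi xgi31 ygi22 zgi41) (kgi xgi14 ygi26 zgi7) (kgi xgi20 ygi41 zgi45) (kgi xgi30 ygi45 zgi3) (kgi xgi20 ygi42 zgi39) (kgi xgi19 ygi34 zgi9) (kgi xgi29 ygi41 zgi6) (kgi xgi29 ygi38 zgi27) (kgi xgi14 ygi26 zgi15) (kgi xgi23 ygi58 zgi5) (kgi xgi29 ygi30 zgi31) (kgi xgi21 ygi3 zgi53) (kgi xgi20 ygi42 zgi43) (kgi xgi17 ygi28 zgi39) (kgi xgi27 ygi16 zgi39) (kgi xgi31 ygi22 zgi46) (kgi xgi25 ygi59 zgi23) (kgi xgi14 ygi26 zgi22) (kgi xgi28 ygi56 zgi27) (kgi xgi14 ygi26 zgi31) (kgi xgi14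 ygi26 zgi25) (kgi xgi14 ygi48 zgi21) (kgi xgi28 ygi32 zgi47) (kgi xgi31 ygi22 zgi49) (kgi xgi30 ygi49 zgi3) (kgi xgi28 ygi53 zgi27) (kgi xgi14 ygi26 zgi27) (kgi xgi14 ygi26 zgi29) (kgi xgi31 ygi15 zgi55) (kgi xgi30 ygi46 zgi32) (kgi xgi30 ygi46 zgi31) (kgi xgi27 ygi59 zgi5) (kgi xgi31 ygi22 zgi55) (kgi xgi14 ygi26 zgi30) (kgi xgi28 ygi56 zgi21) (kgi xgi31 ygi22 zgi35) (kgi xgi22 ygi21 zgi21) (kgi xgi23 ygi57 zgi51) (kgi xgi14 ygi26 zgi32) (kgi xgi31 ygi15 zgi48) (kgi xgi14 ygi26 zgi34) (kgi xgi30 ygi52 zgi60) (kgi xgi31 ygi22 zgi59) (kgi xgi31 ygi22 zgi61) (kgi xgi31 ygi22 zgi58) (kgi xgi31 ygi23 zgi2) (kgi xgi31 ygi22 zgi60) (kgi xgi30 ygi36 zgi38) (kgi xgi14 ygi26 zgi39) (kgi xgi22 ygi59 zgi3) (kgi xgi31 ygi23 zgi8) (kgi xgi22 ygi59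 zgi16) (kgi xgi14 ygi26 zgi40) (kgi xgi28 ygi53 zgi44) (kgi xgi30 ygi46 zgi26) (kgi xgi22 ygi29 zgi51)) (@D3.rec (fun _ => Pt) (kgi xgi29 ygi27 zgi5) (kgi xgi15 ygi26 zgi15) (kgi xgi18 ygi21 zgi25) (kgi xgi28 ygi29 zgi33) (kgi xgi14 ygi26 zgi44) (kgi xgi28 ygi45 zgi9) (kgi xgi18 ygi21 zgi23) (kgi xgi14 ygi26 zgi45) (kgi xgi14 ygi26 zgi59) (kgi xgi21 ygi52 zgi15) (kgi xgi21 ygi18 zgi46) (kgi xgi21 ygi45 zgi55) (kgi xgi14 ygi31 zgi33) (kgi xgi29 ygi32 zgi10) (kgi xgi14 ygi31 zgi40) (kgi xgi14 ygi26 zgi49) (kgi xgi25 ygi12 zgi8) (kgi xgi22 ygi9 zgi51) (kgi xgi30 ygi19 zgi53) (kgi xgi20 ygi22 zgi6) (kgi xgi29 ygi50 zgi1) (kgi xgi28 ygi35 zgi52) (kgi xgi17 ygi18 zgi30) (kgi xgi27 ygi56 zgi22) (kgi xgi17 ygi3 zgi0) (kgi xgi14 ygi26 zgi56)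 (kgi xgi31 ygi17 zgi25) (kgi xgi21 ygi2 zgi51) (kgi xgi28 ygi35 zgi41) (kgi xgi25 ygi51 zgi2) (kgi xgi18 ygi57 zgi27) (kgi xgi27 ygi45 zgi20) (kgi xgi21 ygi52 zgi58) (kgi xgi21 ygi18 zgi52) (kgi xgi22 ygi52 zgi27) (kgi xgi22 ygi53 zgi32) (kgi xgi24 ygi27 zgi11) (kgi xgi16 ygi30 zgi15) (kgi xgi28 ygi12 zgi53) (kgi xgi16 ygi27 zgi31) (kgi xgi31 ygi23 zgi19) (kgi xgi14 ygi27 zgi6) (kgi xgi31 ygi17 zgi30) (kgi xgi22 ygi41 zgi56) (kgi xgi31 ygi17 zgi29) (kgi xgi23 ygi0 zgi36) (kgi xgi25 ygi59 zgi22) (kgi xgi29 ygi47 zgi49) (kgi xgi31 ygi23 zgi23) (kgi xgi19 ygi8 zgi58) (kgi xgi17 ygi32 zgi8) (kgi xgi15 ygi39 zgi15) (kgi xgi27 ygi22 zgi41) (kgi xgi18 ygi52 zgi48) (kgi xgi27 ygi22 zgi42) (kgi xgi19 ygi25 zgi58) (kgi xgi15 ygi31 zgi47) (kgi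 xgi15 ygi17 zgi11) (kgi xgi28 ygi58 zgi60) (kgi xgi28 ygi36 zgi1) (kgi xgi14 ygi27 zgi19) (kgi xgi29 ygi20 zgi1)) (@D3.rec (fun _ => Pt) (kgi xgi28 ygi36 zgi29) (kgi xgi15 ygi38 zgi52) (kgi xgi30 ygi48 zgi35) (kgi xgi25 ygi5 zgi48) (kgi xgi14 ygi27 zgi22) (kgi xgi31 ygi17 zgi3) (kgi xgi15 ygi46 zgi31) (kgi xgi22 ygi57 zgi27) (kgi xgi16 ygi46 zgi39) (kgi xgi23 ygi13 zgi37) (kgi xgi22 ygi33 zgi36) (kgi xgi19 ygi40 zgi58) (kgi xgi30 ygi43 zgi8) (kgi xgi19 ygi1 zgi0) (kgi xgi29 ygi54 zgi41) (kgi xgi26 ygi57 zgi36) (kgi xgi14 ygi27 zgi32) (kgi xgi29 ygi19 zgi57) (kgi xgi29 ygi32 zgi8) (kgi xgi22 ygi20 zgi7) (kgi xgi25 ygi12 zgi6) (kgi xgi24 ygi16 zgi49) (kgi xgi24 ygi9 zgi11) (kgi xgi23 ygi27 zgi28) (kgi xgi28 ygi50 zgi39) (kgi xgi14 ygi27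 zgi41) (kgi xgi30 ygi48 zgi49) (kgi xgi28 ygi35 zgi1) (kgi xgi14 ygi27 zgi42) (kgi xgi24 ygi14 zgi3) (kgi xgi24 ygi13 zgi48) (kgi xgi28 ygi50 zgi56) (kgi xgi31 ygi23 zgi33) (kgi xgi24 ygi0 zgi44) (kgi xgi29 ygi32 zgi11) (kgi xgi28 ygi50 zgi53) (kgi xgi28 ygi39 zgi7) (kgi xgi30 ygi8 zgi16) (kgi xgi28 ygi46 zgi35) (kgi xgi14 ygi27 zgi48) (kgi xgi29 ygi31 zgi11) (kgi xgi22 ygi9 zgi34) (kgi xgi31 ygi3 zgi49) (kgi xgi25 ygi35 zgi29) (kgi xgi30 ygi12 zgi30) (kgi xgi22 ygi48 zgi15) (kgi xgi31 ygi23 zgi36) (kgi xgi24 ygi38 zgi46) (kgi xgi25 ygi35 zgi18) (kgi xgi14 ygi27 zgi59) (kgi xgi22 ygi48 zgi17) (kgi xgi22 ygi48 zgi33) (kgi xgi29 ygi42 zgi19) (kgi xgi14 ygi28 zgi0) (kgi xgi22 ygi59 zgi11) (kgi xgi26 ygi24 zgi11) (kgi xgi17 ygi3 zgi42)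 (kgi xgi22 ygi54 zgi35) (kgi xgi31 ygi17 zgi2) (kgi xgi24 ygi13 zgi46) (kgi xgi25 ygi48 zgi23) (kgi xgi30 ygi26 zgi17)) (@D3.rec (fun _ => Pt) (kgi xgi14 ygi31 zgi8) (kgi xgi19 ygi29 zgi57) (kgi xgi24 ygi9 zgi6) (kgi xgi14 ygi28 zgi6) (kgi xgi22 ygi21 zgi4) (kgi xgi31 ygi23 zgi42) (kgi xgi29 ygi54 zgi46) (kgi xgi14 ygi28 zgi7) (kgi xgi27 ygi12 zgi61) (kgi xgi29 ygi54 zgi59) (kgi xgi14 ygi31 zgi16) (kgi xgi23 ygi56 zgi22) (kgi xgi30 ygi26 zgi56) (kgi xgi27 ygi14 zgi27) (kgi xgi24 ygi8 zgi22) (kgi xgi14 ygi28 zgi11) (kgi xgi16 ygi28 zgi32) (kgi xgi22 ygi53 zgi21) (kgi xgi29 ygi40 zgi19) (kgi xgi28 ygi26 zgi37) (kgi xgi22 ygi52 zgi37) (kgi xgi22 ygi47 zgi43) (kgi xgi14 ygi28 zgi17) (kgi xgi22 ygi55 zgi53) (kgi xgi22 ygi55 zgi51) (kgi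 xgi14 ygi28 zgi20) (kgi xgi14 ygi28 zgi21) (kgi xgi22 ygi55 zgi57) (kgi xgi21 ygi12 zgi3) (kgi xgi14 ygi28 zgi24) (kgi xgi23 ygi11 zgi0) (kgi xgi27 ygi14 zgi51) (kgi xgi30 ygi29 zgi49) (kgi xgi28 ygi29 zgi6) (kgi xgi28 ygi34 zgi60) (kgi xgi18 ygi56 zgi12) (kgi xgi22 ygi22 zgi33) (kgi xgi22 ygi48 zgi11) (kgi xgi28 ygi12 zgi10) (kgi xgi26 ygi29 zgi36) (kgi xgi22 ygi54 zgi39) (kgi xgi28 ygi12 zgi13) (kgi xgi25 ygi5 zgi26) (kgi xgi14 ygi28 zgi35) (kgi xgi30 ygi44 zgi19) (kgi xgi20 ygi54 zgi45) (kgi xgi21 ygi40 zgi54) (kgi xgi30 ygi44 zgi2) (kgi xgi21 ygi40 zgi52) (kgi xgi14 ygi28 zgi41) (kgi xgi24 ygi42 zgi54) (kgi xgi14 ygi28 zgi44) (kgi xgi29 ygi40 zgi44) (kgi xgi14 ygi38 zgi1) (kgi xgi29 ygi40 zgi24) (kgi xgi30 ygi28 zgi49) (kgi xgi22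 ygi35 zgi27) (kgi xgi19 ygi28 zgi57) (kgi xgi14 ygi28 zgi49) (kgi xgi30 ygi27 zgi0) (kgi xgi28 ygi50 zgi40) (kgi xgi24 ygi1 zgi10)) (@D3.rec (fun _ => Pt) (kgi xgi31 ygi12 zgi48) (kgi xgi27 ygi2 zgi18) (kgi xgi31 ygi0 zgi33) (kgi xgi15 ygi44 zgi13) (kgi xgi14 ygi38 zgi24) (kgi xgi21 ygi22 zgi23) (kgi xgi14 ygi28 zgi58) (kgi xgi14 ygi29 zgi31) (kgi xgi14 ygi29 zgi36) (kgi xgi14 ygi29 zgi38) (kgi xgi30 ygi30 zgi36) (kgi xgi14 ygi29 zgi28) (kgi xgi31 ygi17 zgi23) (kgi xgi20 ygi11 zgi21) (kgi xgi24 ygi22 zgi30) (kgi xgi26 ygi0 zgi36) (kgi xgi26 ygi2 zgi27) (kgi xgi23 ygi39 zgi60) (kgi xgi14 ygi29 zgi10) (kgi xgi30 ygi38 zgi50) (kgi xgi30 ygi55 zgi57) (kgi xgi14 ygi29 zgi12) (kgi xgi24 ygi34 zgi30) (kgi xgi28 ygi49 zgi43) (kgi xgi23 ygi58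 zgi42) (kgi xgi14 ygi29 zgi19) (kgi xgi14 ygi29 zgi21) (kgi xgi27 ygi11 zgi49) (kgi xgi27 ygi2 zgi50) (kgi xgi24 ygi38 zgi16) (kgi xgi14 ygi29 zgi22) (kgi xgi23 ygi19 zgi47) (kgi xgi30 ygi6 zgi52) (kgi xgi17 ygi22 zgi49) (kgi xgi28 ygi30 zgi17) (kgi xgi15 ygi18 zgi52) (kgi xgi14 ygi52 zgi38) (kgi xgi30 ygi59 zgi4) (kgi xgi30 ygi40 zgi0) (kgi xgi27 ygi12 zgi0) (kgi xgi14 ygi29 zgi35) (kgi xgi30 ygi32 zgi13) (kgi xgi24 ygi40 zgi6) (kgi xgi26 ygi6 zgi34) (kgi xgi14 ygi29 zgi37) (kgi xgi21 ygi19 zgi12) (kgi xgi24 ygi37 zgi21) (kgi xgi31 ygi24 zgi3) (kgi xgi29 ygi1 zgi8) (kgi xgi31 ygi13 zgi41) (kgi xgi28 ygi50 zgi24) (kgi xgi22 ygi41 zgi40) (kgi xgi23 ygi59 zgi17) (kgi xgi22 ygi21 zgi41) (kgi xgi28 ygi47 zgi38) (kgi xgi24 ygi21 zgi18)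 (kgi xgi28 ygi47 zgi60) (kgi xgi23 ygi30 zgi44) (kgi xgi29 ygi30 zgi22) (kgi xgi14 ygi29 zgi54) (kgi xgi27 ygi2 zgi28) (kgi xgi31 ygi24 zgi10)) (@D3.rec (fun _ => Pt) (kgi xgi29 ygi39 zgi23) (kgi xgi24 ygi57 zgi24) (kgi xgi24 ygi24 zgi52) (kgi xgi23 ygi54 zgi10) (kgi xgi30 ygi50 zgi35) (kgi xgi22 ygi46 zgi23) (kgi xgi22 ygi37 zgi37) (kgi xgi22 ygi37 zgi39) (kgi xgi31 ygi24 zgi17) (kgi xgi23 ygi5 zgi60) (kgi xgi20 ygi3 zgi47) (kgi xgi23 ygi9 zgi35) (kgi xgi22 ygi38 zgi46) (kgi xgi28 ygi47 zgi33) (kgi xgi20 ygi47 zgi12) (kgi xgi22 ygi15 zgi19) (kgi xgi14 ygi30 zgi14) (kgi xgi28 ygi41 zgi47) (kgi xgi19 ygi38 zgi21) (kgi xgi15 ygi18 zgi53) (kgi xgi31 ygi23 zgi50) (kgi xgi29 ygi17 zgi48) (kgi xgi20 ygi3 zgi34) (kgi xgi28 ygi41 zgi46) (kgi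 xgi15 ygi21 zgi55) (kgi xgi14 ygi30 zgi18) (kgi xgi30 ygi9 zgi23) (kgi xgi24 ygi20 zgi33) (kgi xgi24 ygi2 zgi37) (kgi xgi19 ygi28 zgi27) (kgi xgi14 ygi30 zgi21) (kgi xgi22 ygi23 zgi15) (kgi xgi31 ygi24 zgi30) (kgi xgi17 ygi28 zgi45) (kgi xgi14 ygi30 zgi22) (kgi xgi23 ygi53 zgi0) (kgi xgi28 ygi46 zgi22) (kgi xgi24 ygi4 zgi26) (kgi xgi24 ygi25 zgi14) (kgi xgi14 ygi30 zgi25) (kgi xgi24 ygi4 zgi39) (kgi xgi24 ygi4 zgi38) (kgi xgi31 ygi24 zgi34) (kgi xgi28 ygi56 zgi43) (kgi xgi31 ygi24 zgi37) (kgi xgi24 ygi4 zgi23) (kgi xgi14 ygi30 zgi27) (kgi xgi24 ygi4 zgi20) (kgi xgi29 ygi31 zgi32) (kgi xgi27 ygi18 zgi48) (kgi xgi30 ygi56 zgi35) (kgi xgi24 ygi4 zgi41) (kgi xgi14 ygi30 zgi31) (kgi xgi24 ygi16 zgi6) (kgi xgi19 ygi39 zgi13) (kgi xgi14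 ygi30 zgi33) (kgi xgi19 ygi36 zgi14) (kgi xgi19 ygi12 zgi13) (kgi xgi28 ygi14 zgi5) (kgi xgi24 ygi24 zgi41) (kgi xgi30 ygi53 zgi48) (kgi xgi30 ygi39 zgi13)) (@D3.rec (fun _ => Pt) (kgi xgi20 ygi48 zgi0) (kgi xgi19 ygi13 zgi33) (kgi xgi29 ygi25 zgi55) (kgi xgi27 ygi21 zgi9) (kgi xgi16 ygi40 zgi27) (kgi xgi31 ygi24 zgi55) (kgi xgi14 ygi30 zgi45) (kgi xgi31 ygi24 zgi57) (kgi xgi17 ygi58 zgi39) (kgi xgi16 ygi34 zgi17) (kgi xgi25 ygi50 zgi43) (kgi xgi24 ygi38 zgi34) (kgi xgi24 ygi39 zgi7) (kgi xgi16 ygi34 zgi28) (kgi xgi16 ygi38 zgi38) (kgi xgi22 ygi20 zgi18) (kgi xgi31 ygi6 zgi58) (kgi xgi30 ygi31 zgi11) (kgi xgi27 ygi53 zgi5) (kgi xgi14 ygi31 zgi25) (kgi xgi26 ygi45 zgi25) (kgi xgi20 ygi27 zgi20) (kgi xgi29 ygi27 zgi36) (kgi xgi22 ygi38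 zgi40) (kgi xgi29 ygi2 zgi13) (kgi xgi20 ygi2 zgi11) (kgi xgi28 ygi47 zgi45) (kgi xgi15 ygi18 zgi14) (kgi xgi31 ygi17 zgi33) (kgi xgi31 ygi13 zgi37) (kgi xgi20 ygi41 zgi55) (kgi xgi23 ygi53 zgi19) (kgi xgi30 ygi54 zgi13) (kgi xgi14 ygi31 zgi2) (kgi xgi24 ygi48 zgi18) (kgi xgi25 ygi50 zgi22) (kgi xgi19 ygi13 zgi9) (kgi xgi20 ygi41 zgi54) (kgi xgi20 ygi27 zgi22) (kgi xgi31 ygi25 zgi9) (kgi xgi26 ygi32 zgi41) (kgi xgi19 ygi8 zgi10) (kgi xgi27 ygi54 zgi52) (kgi xgi17 ygi26 zgi59) (kgi xgi19 ygi8 zgi4) (kgi xgi22 ygi22 zgi40) (kgi xgi30 ygi46 zgi29) (kgi xgi28 ygi55 zgi39) (kgi xgi19 ygi7 zgi26) (kgi xgi29 ygi53 zgi8) (kgi xgi22 ygi20 zgi17) (kgi xgi31 ygi25 zgi15) (kgi xgi14 ygi31 zgi11) (kgi xgi30 ygi43 zgi53) (kgi xgi30 ygi27 zgi31)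 (kgi xgi21 ygi14 zgi17) (kgi xgi27 ygi9 zgi25) (kgi xgi21 ygi10 zgi50) (kgi xgi26 ygi29 zgi14) (kgi xgi31 ygi23 zgi43) (kgi xgi29 ygi14 zgi36) (kgi xgi23 ygi20 zgi20)) (@D3.rec (fun _ => Pt) (kgi xgi31 ygi25 zgi23) (kgi xgi30 ygi49 zgi49) (kgi xgi22 ygi20 zgi16) (kgi xgi24 ygi47 zgi61) (kgi xgi14 ygi31 zgi20) (kgi xgi26 ygi51 zgi48) (kgi xgi19 ygi8 zgi38) (kgi xgi31 ygi19 zgi16) (kgi xgi29 ygi55 zgi32) (kgi xgi16 ygi34 zgi36) (kgi xgi28 ygi31 zgi9) (kgi xgi14 ygi31 zgi24) (kgi xgi31 ygi24 zgi61) (kgi xgi18 ygi50 zgi19) (kgi xgi18 ygi34 zgi0) (kgi xgi31 ygi25 zgi34) (kgi xgi16 ygi34 zgi1) (kgi xgi18 ygi12 zgi18) (kgi xgi31 ygi25 zgi33) (kgi xgi14 ygi31 zgi27) (kgi xgi31 ygi25 zgi39) (kgi xgi26 ygi24 zgi25) (kgi xgi29 ygi53 zgi59) (kgi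 xgi31 ygi23 zgi38) (kgi xgi14 ygi31 zgi28) (kgi xgi31 ygi25 zgi3) (kgi xgi27 ygi44 zgi5) (kgi xgi21 ygi11 zgi57) (kgi xgi27 ygi53 zgi2) (kgi xgi15 ygi52 zgi17) (kgi xgi28 ygi32 zgi40) (kgi xgi30 ygi49 zgi18) (kgi xgi23 ygi56 zgi14) (kgi xgi22 ygi22 zgi50) (kgi xgi19 ygi10 zgi7) (kgi xgi24 ygi38 zgi61) (kgi xgi14 ygi31 zgi44) (kgi xgi30 ygi51 zgi10) (kgi xgi22 ygi39 zgi43) (kgi xgi31 ygi6 zgi59) (kgi xgi30 ygi44 zgi15) (kgi xgi31 ygi25 zgi46) (kgi xgi26 ygi24 zgi14) (kgi xgi25 ygi43 zgi12) (kgi xgi14 ygi31 zgi49) (kgi xgi15 ygi32 zgi61) (kgi xgi24 ygi8 zgi57) (kgi xgi30 ygi45 zgi15) (kgi xgi14 ygi31 zgi61) (kgi xgi24 ygi25 zgi15) (kgi xgi24 ygi8 zgi30) (kgi xgi29 ygi40 zgi48) (kgi xgi30 ygi11 zgi47) (kgi xgi29 ygi27 zgi49) (kgi xgi14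 ygi37 zgi61) (kgi xgi22 ygi22 zgi60) (kgi xgi29 ygi40 zgi3) (kgi xgi24 ygi13 zgi58) (kgi xgi14 ygi31 zgi57) (kgi xgi24 ygi13 zgi57) (kgi xgi23 ygi53 zgi26) (kgi xgi21 ygi4 zgi36)) (@D3.rec (fun _ => Pt) (kgi xgi24 ygi23 zgi6) (kgi xgi19 ygi15 zgi28) (kgi xgi20 ygi2 zgi46) (kgi xgi24 ygi8 zgi28) (kgi xgi21 ygi5 zgi39) (kgi xgi14 ygi32 zgi1) (kgi xgi14 ygi32 zgi3) (kgi xgi30 ygi43 zgi31) (kgi xgi22 ygi47 zgi61) (kgi xgi31 ygi25 zgi52) (kgi xgi14 ygi32 zgi4) (kgi xgi30 ygi47 zgi36) (kgi xgi22 ygi53 zgi29) (kgi xgi30 ygi56 zgi59) (kgi xgi18 ygi51 zgi21) (kgi xgi14 ygi32 zgi5) (kgi xgi25 ygi24 zgi53) (kgi xgi28 ygi55 zgi33) (kgi xgi30 ygi37 zgi22) (kgi xgi21 ygi16 zgi27) (kgi xgi14 ygi33 zgi17) (kgi xgi14 ygi33 zgi45) (kgi xgi29 ygi37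 zgi11) (kgi xgi14 ygi34 zgi13) (kgi xgi21 ygi18 zgi53) (kgi xgi24 ygi2 zgi20) (kgi xgi27 ygi9 zgi20) (kgi xgi28 ygi55 zgi34) (kgi xgi27 ygi9 zgi3) (kgi xgi22 ygi2 zgi6) (kgi xgi14 ygi32 zgi17) (kgi xgi15 ygi51 zgi33) (kgi xgi20 ygi58 zgi19) (kgi xgi17 ygi19 zgi42) (kgi xgi20 ygi30 zgi23) (kgi xgi27 ygi0 zgi22) (kgi xgi26 ygi33 zgi31) (kgi xgi22 ygi19 zgi2) (kgi xgi27 ygi10 zgi58) (kgi xgi22 ygi13 zgi15) (kgi xgi30 ygi45 zgi11) (kgi xgi30 ygi48 zgi37) (kgi xgi28 ygi14 zgi35) (kgi xgi24 ygi4 zgi13) (kgi xgi20 ygi53 zgi56) (kgi xgi31 ygi26 zgi16) (kgi xgi16 ygi8 zgi43) (kgi xgi14 ygi37 zgi3) (kgi xgi31 ygi26 zgi19) (kgi xgi14 ygi32 zgi32) (kgi xgi22 ygi23 zgi14) (kgi xgi22 ygi23 zgi13) (kgi xgi27 ygi36 zgi48) (kgi xgi27 ygi37 zgi29)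 (kgi xgi21 ygi3 zgi54) (kgi xgi29 ygi26 zgi61) (kgi xgi21 ygi3 zgi50) (kgi xgi14 ygi33 zgi56) (kgi xgi14 ygi32 zgi38) (kgi xgi14 ygi33 zgi42) (kgi xgi20 ygi49 zgi36) (kgi xgi14 ygi32 zgi39)) (@D3.rec (fun _ => Pt) (kgi xgi24 ygi0 zgi15) (kgi xgi26 ygi35 zgi12) (kgi xgi14 ygi33 zgi61) (kgi xgi24 ygi26 zgi57) (kgi xgi19 ygi45 zgi29) (kgi xgi17 ygi28 zgi36) (kgi xgi19 ygi7 zgi11) (kgi xgi31 ygi11 zgi15) (kgi xgi25 ygi25 zgi42) (kgi xgi14 ygi34 zgi22) (kgi xgi14 ygi34 zgi20) (kgi xgi24 ygi26 zgi6) (kgi xgi31 ygi26 zgi32) (kgi xgi20 ygi42 zgi32) (kgi xgi28 ygi57 zgi59) (kgi xgi14 ygi32 zgi49) (kgi xgi14 ygi34 zgi29) (kgi xgi31 ygi9 zgi50) (kgi xgi18 ygi52 zgi32) (kgi xgi14 ygi32 zgi54) (kgi xgi14 ygi33 zgi43) (kgi xgi17 ygi29 zgi0) (kgi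 xgi20 ygi46 zgi46) (kgi xgi17 ygi19 zgi41) (kgi xgi17 ygi23 zgi11) (kgi xgi17 ygi22 zgi3) (kgi xgi21 ygi39 zgi9) (kgi xgi20 ygi46 zgi49) (kgi xgi23 ygi13 zgi5) (kgi xgi21 ygi4 zgi38) (kgi xgi22 ygi18 zgi24) (kgi xgi24 ygi38 zgi54) (kgi xgi17 ygi44 zgi39) (kgi xgi14 ygi33 zgi35) (kgi xgi14 ygi33 zgi18) (kgi xgi28 ygi45 zgi6) (kgi xgi31 ygi26 zgi40) (kgi xgi14 ygi33 zgi20) (kgi xgi17 ygi21 zgi30) (kgi xgi29 ygi56 zgi1) (kgi xgi18 ygi57 zgi20) (kgi xgi17 ygi3 zgi7) (kgi xgi29 ygi5 zgi38) (kgi xgi19 ygi45 zgi8) (kgi xgi29 ygi43 zgi3) (kgi xgi14 ygi33 zgi26) (kgi xgi31 ygi26 zgi21) (kgi xgi30 ygi38 zgi15) (kgi xgi30 ygi21 zgi48) (kgi xgi20 ygi41 zgi27) (kgi xgi20 ygi55 zgi40) (kgi xgi21 ygi53 zgi20) (kgi xgi24 ygi11 zgi8) (kgi xgi14 ygi33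 zgi33) (kgi xgi25 ygi52 zgi58) (kgi xgi31 ygi10 zgi5) (kgi xgi21 ygi20 zgi9) (kgi xgi21 ygi39 zgi6) (kgi xgi25 ygi27 zgi30) (kgi xgi19 ygi12 zgi2) (kgi xgi29 ygi41 zgi12) (kgi xgi30 ygi15 zgi3)) (@D3.rec (fun _ => Pt) (kgi xgi14 ygi33 zgi37) (kgi xgi29 ygi50 zgi14) (kgi xgi16 ygi46 zgi1) (kgi xgi24 ygi11 zgi43) (kgi xgi17 ygi32 zgi53) (kgi xgi28 ygi48 zgi33) (kgi xgi14 ygi33 zgi40) (kgi xgi24 ygi11 zgi53) (kgi xgi25 ygi49 zgi56) (kgi xgi31 ygi26 zgi55) (kgi xgi14 ygi33 zgi41) (kgi xgi20 ygi49 zgi38) (kgi xgi17 ygi58 zgi61) (kgi xgi27 ygi46 zgi57) (kgi xgi24 ygi0 zgi3) (kgi xgi15 ygi54 zgi46) (kgi xgi31 ygi26 zgi58) (kgi xgi24 ygi26 zgi59) (kgi xgi15 ygi20 zgi21) (kgi xgi25 ygi27 zgi29) (kgi xgi28 ygi19 zgi27) (kgi xgi15 ygi32 zgi42)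 (kgi xgi14 ygi33 zgi54) (kgi xgi23 ygi19 zgi14) (kgi xgi23 ygi19 zgi11) (kgi xgi27 ygi44 zgi36) (kgi xgi25 ygi15 zgi9) (kgi xgi19 ygi44 zgi33) (kgi xgi30 ygi15 zgi6) (kgi xgi31 ygi26 zgi49) (kgi xgi14 ygi33 zgi59) (kgi xgi15 ygi21 zgi22) (kgi xgi31 ygi26 zgi26) (kgi xgi29 ygi22 zgi28) (kgi xgi14 ygi53 zgi11) (kgi xgi19 ygi19 zgi43) (kgi xgi22 ygi26 zgi6) (kgi xgi14 ygi34 zgi1) (kgi xgi22 ygi36 zgi59) (kgi xgi27 ygi18 zgi57) (kgi xgi31 ygi27 zgi5) (kgi xgi31 ygi27 zgi6) (kgi xgi27 ygi17 zgi38) (kgi xgi24 ygi26 zgi21) (kgi xgi19 ygi44 zgi40) (kgi xgi25 ygi53 zgi42) (kgi xgi22 ygi50 zgi50) (kgi xgi18 ygi30 zgi47) (kgi xgi24 ygi26 zgi11) (kgi xgi21 ygi1 zgi58) (kgi xgi31 ygi27 zgi15) (kgi xgi31 ygi27 zgi16) (kgi xgi19 ygi6 zgi59) (kgi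 xgi19 ygi6 zgi60) (kgi xgi14 ygi34 zgi17) (kgi xgi31 ygi26 zgi35) (kgi xgi31 ygi26 zgi34) (kgi xgi29 ygi4 zgi31) (kgi xgi20 ygi59 zgi8) (kgi xgi29 ygi4 zgi19) (kgi xgi14 ygi34 zgi19) (kgi xgi25 ygi36 zgi25)) (@D3.rec (fun _ => Pt) (kgi xgi25 ygi36 zgi24) (kgi xgi31 ygi26 zgi28) (kgi xgi29 ygi32 zgi34) (kgi xgi18 ygi52 zgi34) (kgi xgi25 ygi59 zgi57) (kgi xgi29 ygi23 zgi4) (kgi xgi20 ygi35 zgi28) (kgi xgi31 ygi27 zgi23) (kgi xgi29 ygi47 zgi12) (kgi xgi30 ygi30 zgi17) (kgi xgi29 ygi44 zgi0) (kgi xgi14 ygi34 zgi25) (kgi xgi31 ygi27 zgi24) (kgi xgi19 ygi12 zgi47) (kgi xgi14 ygi34 zgi26) (kgi xgi28 ygi48 zgi20) (kgi xgi20 ygi59 zgi16) (kgi xgi29 ygi4 zgi54) (kgi xgi14 ygi34 zgi28) (kgi xgi28 ygi57 zgi54) (kgi xgi14 ygi34 zgi37) (kgi xgi22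 ygi13 zgi8) (kgi xgi18 ygi52 zgi35) (kgi xgi30 ygi56 zgi55) (kgi xgi31 ygi27 zgi36) (kgi xgi14 ygi34 zgi35) (kgi xgi31 ygi9 zgi46) (kgi xgi27 ygi38 zgi15) (kgi xgi31 ygi27 zgi39) (kgi xgi28 ygi58 zgi13) (kgi xgi29 ygi5 zgi47) (kgi xgi30 ygi3 zgi44) (kgi xgi25 ygi31 zgi18) (kgi xgi14 ygi34 zgi38) (kgi xgi14 ygi34 zgi40) (kgi xgi24 ygi54 zgi20) (kgi xgi23 ygi39 zgi47) (kgi xgi25 ygi15 zgi19) (kgi xgi14 ygi34 zgi42) (kgi xgi20 ygi59 zgi19) (kgi xgi21 ygi29 zgi53) (kgi xgi29 ygi5 zgi44) (kgi xgi28 ygi48 zgi35) (kgi xgi31 ygi9 zgi36) (kgi xgi14 ygi34 zgi41) (kgi xgi31 ygi9 zgi38) (kgi xgi31 ygi27 zgi54) (kgi xgi14 ygi34 zgi43) (kgi xgi14 ygi53 zgi25) (kgi xgi29 ygi36 zgi22) (kgi xgi14 ygi34 zgi44) (kgi xgi17 ygi59 zgi2) (kgi xgi29 ygi37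 zgi45) (kgi xgi19 ygi13 zgi23) (kgi xgi19 ygi15 zgi36) (kgi xgi19 ygi13 zgi0) (kgi xgi20 ygi47 zgi53) (kgi xgi19 ygi15 zgi8) (kgi xgi17 ygi23 zgi6) (kgi xgi14 ygi35 zgi3) (kgi xgi24 ygi46 zgi31) (kgi xgi14 ygi35 zgi0)) (@D3.rec (fun _ => Pt) (kgi xgi16 ygi7 zgi41) (kgi xgi26 ygi59 zgi42) (kgi xgi14 ygi34 zgi55) (kgi xgi26 ygi59 zgi41) (kgi xgi27 ygi39 zgi20) (kgi xgi26 ygi10 zgi52) (kgi xgi14 ygi34 zgi61) (kgi xgi31 ygi27 zgi59) (kgi xgi18 ygi45 zgi38) (kgi xgi18 ygi21 zgi55) (kgi xgi14 ygi53 zgi48) (kgi xgi24 ygi46 zgi30) (kgi xgi30 ygi47 zgi29) (kgi xgi20 ygi20 zgi30) (kgi xgi14 ygi35 zgi5) (kgi xgi17 ygi23 zgi25) (kgi xgi19 ygi18 zgi49) (kgi xgi22 ygi34 zgi32) (kgi xgi30 ygi14 zgi23) (kgi xgi26 ygi15 zgi50) (kgi xgi27 ygi31 zgi50)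 (kgi xgi30 ygi14 zgi44) (kgi xgi19 ygi34 zgi12) (kgi xgi14 ygi35 zgi15) (kgi xgi27 ygi23 zgi20) (kgi xgi27 ygi29 zgi13) (kgi xgi17 ygi30 zgi31) (kgi xgi22 ygi8 zgi59) (kgi xgi14 ygi35 zgi18) (kgi xgi18 ygi7 zgi35) (kgi xgi28 ygi28 zgi29) (kgi xgi14 ygi35 zgi19) (kgi xgi21 ygi32 zgi13) (kgi xgi25 ygi23 zgi40) (kgi xgi14 ygi35 zgi23) (kgi xgi14 ygi35 zgi33) (kgi xgi25 ygi18 zgi38) (kgi xgi14 ygi35 zgi28) (kgi xgi28 ygi19 zgi30) (kgi xgi27 ygi1 zgi57) (kgi xgi20 ygi41 zgi52) (kgi xgi29 ygi38 zgi53) (kgi xgi22 ygi16 zgi22) (kgi xgi28 ygi38 zgi15) (kgi xgi27 ygi22 zgi39) (kgi xgi31 ygi28 zgi5) (kgi xgi14 ygi35 zgi32) (kgi xgi22 ygi7 zgi31) (kgi xgi19 ygi7 zgi59) (kgi xgi18 ygi55 zgi8) (kgi xgi22 ygi58 zgi48) (kgi xgi30 ygi53 zgi52) (kgi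 xgi24 ygi18 zgi50) (kgi xgi22 ygi59 zgi23) (kgi xgi22 ygi57 zgi32) (kgi xgi31 ygi28 zgi8) (kgi xgi23 ygi48 zgi23) (kgi xgi28 ygi0 zgi46) (kgi xgi31 ygi22 zgi28) (kgi xgi14 ygi35 zgi44) (kgi xgi23 ygi11 zgi25) (kgi xgi20 ygi27 zgi0)) (@D3.rec (fun _ => Pt) (kgi xgi14 ygi35 zgi60) (kgi xgi25 ygi27 zgi27) (kgi xgi18 ygi25 zgi19) (kgi xgi20 ygi37 zgi42) (kgi xgi20 ygi34 zgi57) (kgi xgi20 ygi37 zgi41) (kgi xgi20 ygi37 zgi55) (kgi xgi17 ygi50 zgi30) (kgi xgi21 ygi3 zgi59) (kgi xgi19 ygi12 zgi40) (kgi xgi17 ygi33 zgi35) (kgi xgi17 ygi50 zgi24) (kgi xgi20 ygi5 zgi8) (kgi xgi21 ygi20 zgi22) (kgi xgi30 ygi14 zgi35) (kgi xgi14 ygi36 zgi2) (kgi xgi29 ygi32 zgi42) (kgi xgi31 ygi28 zgi18) (kgi xgi29 ygi13 zgi23) (kgi xgi29 ygi58 zgi54) (kgi xgi25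 ygi17 zgi41) (kgi xgi14 ygi36 zgi39) (kgi xgi14 ygi37 zgi2) (kgi xgi14 ygi36 zgi6) (kgi xgi14 ygi36 zgi10) (kgi xgi24 ygi39 zgi19) (kgi xgi24 ygi2 zgi29) (kgi xgi31 ygi28 zgi25) (kgi xgi31 ygi14 zgi15) (kgi xgi26 ygi57 zgi13) (kgi xgi14 ygi36 zgi12) (kgi xgi31 ygi28 zgi28) (kgi xgi31 ygi28 zgi29) (kgi xgi26 ygi44 zgi60) (kgi xgi19 ygi17 zgi53) (kgi xgi14 ygi36 zgi17) (kgi xgi31 ygi28 zgi33) (kgi xgi31 ygi28 zgi36) (kgi xgi31 ygi28 zgi40) (kgi xgi31 ygi28 zgi34) (kgi xgi14 ygi36 zgi18) (kgi xgi14 ygi37 zgi45) (kgi xgi19 ygi8 zgi2) (kgi xgi17 ygi11 zgi5) (kgi xgi14 ygi36 zgi29) (kgi xgi29 ygi22 zgi45) (kgi xgi14 ygi36 zgi24) (kgi xgi14 ygi36 zgi25) (kgi xgi17 ygi35 zgi4) (kgi xgi24 ygi19 zgi34) (kgi xgi30 ygi38 zgi35) (kgi xgi28 ygi43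 zgi10) (kgi xgi26 ygi54 zgi4) (kgi xgi23 ygi47 zgi10) (kgi xgi24 ygi5 zgi20) (kgi xgi21 ygi53 zgi16) (kgi xgi21 ygi32 zgi33) (kgi xgi14 ygi47 zgi50) (kgi xgi18 ygi40 zgi4) (kgi xgi14 ygi36 zgi36) (kgi xgi18 ygi15 zgi8) (kgi xgi21 ygi53 zgi13)) (@D3.rec (fun _ => Pt) (kgi xgi31 ygi18 zgi22) (kgi xgi21 ygi53 zgi15) (kgi xgi20 ygi38 zgi5) (kgi xgi23 ygi59 zgi10) (kgi xgi31 ygi18 zgi23) (kgi xgi23 ygi58 zgi60) (kgi xgi14 ygi36 zgi48) (kgi xgi27 ygi44 zgi30) (kgi xgi24 ygi37 zgi55) (kgi xgi14 ygi36 zgi49) (kgi xgi14 ygi37 zgi6) (kgi xgi29 ygi13 zgi49) (kgi xgi25 ygi38 zgi39) (kgi xgi24 ygi27 zgi47) (kgi xgi31 ygi14 zgi12) (kgi xgi31 ygi28 zgi50) (kgi xgi23 ygi48 zgi25) (kgi xgi24 ygi57 zgi21) (kgi xgi14 ygi36 zgi58) (kgi xgi20 ygi26 zgi53)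 (kgi xgi14 ygi36 zgi60) (kgi xgi25 ygi11 zgi31) (kgi xgi20 ygi26 zgi55) (kgi xgi20 ygi3 zgi26) (kgi xgi30 ygi17 zgi39) (kgi xgi14 ygi37 zgi7) (kgi xgi25 ygi41 zgi23) (kgi xgi24 ygi27 zgi29) (kgi xgi31 ygi14 zgi14) (kgi xgi14 ygi37 zgi9) (kgi xgi24 ygi5 zgi17) (kgi xgi31 ygi28 zgi54) (kgi xgi19 ygi15 zgi41) (kgi xgi21 ygi48 zgi2) (kgi xgi20 ygi2 zgi57) (kgi xgi21 ygi24 zgi0) (kgi xgi21 ygi16 zgi29) (kgi xgi19 ygi4 zgi3) (kgi xgi14 ygi37 zgi14) (kgi xgi30 ygi12 zgi42) (kgi xgi21 ygi23 zgi50) (kgi xgi19 ygi10 zgi36) (kgi xgi20 ygi34 zgi21) (kgi xgi14 ygi37 zgi16) (kgi xgi19 ygi12 zgi43) (kgi xgi25 ygi41 zgi32) (kgi xgi24 ygi37 zgi53) (kgi xgi27 ygi57 zgi15) (kgi xgi25 ygi49 zgi42) (kgi xgi26 ygi48 zgi29) (kgi xgi14 ygi37 zgi20) (kgi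 xgi14 ygi37 zgi27) (kgi xgi24 ygi38 zgi15) (kgi xgi14 ygi37 zgi21) (kgi xgi25 ygi41 zgi19) (kgi xgi30 ygi10 zgi28) (kgi xgi29 ygi10 zgi17) (kgi xgi29 ygi0 zgi30) (kgi xgi14 ygi37 zgi35) (kgi xgi23 ygi0 zgi30) (kgi xgi25 ygi39 zgi31) (kgi xgi26 ygi51 zgi20)) (@D3.rec (fun _ => Pt) (kgi xgi14 ygi37 zgi33) (kgi xgi29 ygi47 zgi40) (kgi xgi29 ygi26 zgi46) (kgi xgi20 ygi58 zgi53) (kgi xgi31 ygi29 zgi3) (kgi xgi14 ygi37 zgi34) (kgi xgi31 ygi23 zgi59) (kgi xgi30 ygi55 zgi55) (kgi xgi31 ygi18 zgi21) (kgi xgi19 ygi5 zgi44) (kgi xgi21 ygi21 zgi61) (kgi xgi14 ygi37 zgi39) (kgi xgi31 ygi29 zgi7) (kgi xgi31 ygi28 zgi60) (kgi xgi14 ygi45 zgi59) (kgi xgi26 ygi42 zgi9) (kgi xgi25 ygi37 zgi57) (kgi xgi16 ygi50 zgi27) (kgi xgi23 ygi11 zgi23) (kgi xgi31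 ygi12 zgi46) (kgi xgi30 ygi29 zgi58) (kgi xgi14 ygi37 zgi51) (kgi xgi20 ygi24 zgi18) (kgi xgi20 ygi46 zgi56) (kgi xgi30 ygi8 zgi15) (kgi xgi14 ygi37 zgi60) (kgi xgi23 ygi34 zgi25) (kgi xgi19 ygi12 zgi56) (kgi xgi30 ygi39 zgi2) (kgi xgi14 ygi37 zgi56) (kgi xgi26 ygi51 zgi45) (kgi xgi14 ygi37 zgi57) (kgi xgi20 ygi23 zgi25) (kgi xgi31 ygi29 zgi18) (kgi xgi31 ygi12 zgi40) (kgi xgi30 ygi51 zgi28) (kgi xgi14 ygi38 zgi2) (kgi xgi31 ygi29 zgi20) (kgi xgi30 ygi11 zgi53) (kgi xgi20 ygi23 zgi60) (kgi xgi30 ygi29 zgi40) (kgi xgi19 ygi13 zgi17) (kgi xgi28 ygi21 zgi27) (kgi xgi30 ygi11 zgi55) (kgi xgi20 ygi48 zgi50) (kgi xgi31 ygi29 zgi25) (kgi xgi24 ygi47 zgi42) (kgi xgi20 ygi44 zgi54) (kgi xgi28 ygi22 zgi51) (kgi xgi22 ygi1 zgi13) (kgi xgi24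 ygi46 zgi21) (kgi xgi14 ygi38 zgi10) (kgi xgi16 ygi23 zgi17) (kgi xgi18 ygi45 zgi6) (kgi xgi14 ygi53 zgi15) (kgi xgi23 ygi55 zgi16) (kgi xgi14 ygi38 zgi19) (kgi xgi21 ygi42 zgi32) (kgi xgi16 ygi9 zgi14) (kgi xgi28 ygi43 zgi0) (kgi xgi19 ygi46 zgi59) (kgi xgi14 ygi38 zgi22)) (@D3.rec (fun _ => Pt) (kgi xgi30 ygi36 zgi0) (kgi xgi29 ygi55 zgi16) (kgi xgi21 ygi9 zgi9) (kgi xgi26 ygi22 zgi10) (kgi xgi22 ygi38 zgi50) (kgi xgi16 ygi58 zgi25) (kgi xgi27 ygi40 zgi53) (kgi xgi14 ygi38 zgi31) (kgi xgi30 ygi56 zgi36) (kgi xgi24 ygi21 zgi7) (kgi xgi30 ygi56 zgi37) (kgi xgi14 ygi38 zgi39) (kgi xgi19 ygi15 zgi22) (kgi xgi24 ygi27 zgi6) (kgi xgi26 ygi46 zgi3) (kgi xgi28 ygi31 zgi28) (kgi xgi23 ygi25 zgi8) (kgi xgi25 ygi15 zgi30) (kgi xgi14 ygi38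 zgi37) (kgi xgi31 ygi18 zgi18) (kgi xgi21 ygi45 zgi15) (kgi xgi14 ygi38 zgi38) (kgi xgi16 ygi4 zgi44) (kgi xgi19 ygi6 zgi10) (kgi xgi26 ygi8 zgi13) (kgi xgi24 ygi20 zgi55) (kgi xgi14 ygi48 zgi32) (kgi xgi14 ygi50 zgi24) (kgi xgi21 ygi22 zgi22) (kgi xgi28 ygi41 zgi14) (kgi xgi24 ygi10 zgi16) (kgi xgi24 ygi32 zgi5) (kgi xgi14 ygi48 zgi41) (kgi xgi18 ygi37 zgi54) (kgi xgi24 ygi43 zgi19) (kgi xgi14 ygi48 zgi10) (kgi xgi14 ygi38 zgi45) (kgi xgi19 ygi48 zgi50) (kgi xgi29 ygi39 zgi7) (kgi xgi30 ygi49 zgi7) (kgi xgi23 ygi59 zgi42) (kgi xgi30 ygi51 zgi19) (kgi xgi16 ygi5 zgi52) (kgi xgi17 ygi55 zgi18) (kgi xgi29 ygi26 zgi12) (kgi xgi26 ygi59 zgi60) (kgi xgi23 ygi45 zgi35) (kgi xgi26 ygi59 zgi39) (kgi xgi31 ygi29 zgi45) (kgi xgi14 ygi39 zgi4)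 (kgi xgi31 ygi29 zgi42) (kgi xgi31 ygi29 zgi41) (kgi xgi28 ygi1 zgi50) (kgi xgi18 ygi11 zgi8) (kgi xgi27 ygi15 zgi40) (kgi xgi26 ygi51 zgi13) (kgi xgi28 ygi13 zgi5) (kgi xgi18 ygi31 zgi29) (kgi xgi19 ygi7 zgi14) (kgi xgi14 ygi39 zgi12) (kgi xgi24 ygi1 zgi30) (kgi xgi24 ygi23 zgi55)) (@D3.rec (fun _ => Pt) (kgi xgi14 ygi50 zgi40) (kgi xgi22 ygi33 zgi0) (kgi xgi31 ygi29 zgi51) (kgi xgi22 ygi41 zgi7) (kgi xgi19 ygi14 zgi46) (kgi xgi25 ygi36 zgi32) (kgi xgi31 ygi29 zgi54) (kgi xgi28 ygi48 zgi23) (kgi xgi30 ygi8 zgi24) (kgi xgi14 ygi39 zgi26) (kgi xgi19 ygi7 zgi24) (kgi xgi24 ygi7 zgi35) (kgi xgi19 ygi7 zgi32) (kgi xgi31 ygi26 zgi33) (kgi xgi19 ygi12 zgi31) (kgi xgi14 ygi39 zgi33) (kgi xgi19 ygi2 zgi35) (kgi xgi31 ygi30 zgi1) (kgi xgi30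 ygi26 zgi61) (kgi xgi22 ygi33 zgi5) (kgi xgi29 ygi10 zgi53) (kgi xgi22 ygi41 zgi28) (kgi xgi29 ygi58 zgi27) (kgi xgi14 ygi40 zgi7) (kgi xgi15 ygi5 zgi17) (kgi xgi31 ygi30 zgi7) (kgi xgi24 ygi11 zgi2) (kgi xgi31 ygi18 zgi15) (kgi xgi22 ygi39 zgi25) (kgi xgi30 ygi34 zgi7) (kgi xgi22 ygi15 zgi58) (kgi xgi28 ygi44 zgi25) (kgi xgi31 ygi6 zgi20) (kgi xgi14 ygi39 zgi49) (kgi xgi18 ygi18 zgi18) (kgi xgi14 ygi39 zgi50) (kgi xgi27 ygi56 zgi41) (kgi xgi23 ygi43 zgi7) (kgi xgi26 ygi8 zgi0) (kgi xgi14 ygi39 zgi51) (kgi xgi26 ygi9 zgi33) (kgi xgi26 ygi48 zgi8) (kgi xgi29 ygi27 zgi58) (kgi xgi18 ygi40 zgi26) (kgi xgi14 ygi39 zgi55) (kgi xgi31 ygi30 zgi14) (kgi xgi31 ygi30 zgi15) (kgi xgi19 ygi55 zgi57) (kgi xgi31 ygi30 zgi18) (kgi xgi19 ygi55 zgi52)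 (kgi xgi14 ygi39 zgi57) (kgi xgi21 ygi18 zgi18) (kgi xgi23 ygi39 zgi15) (kgi xgi20 ygi59 zgi17) (kgi xgi25 ygi22 zgi48) (kgi xgi29 ygi13 zgi22) (kgi xgi19 ygi56 zgi35) (kgi xgi14 ygi40 zgi0) (kgi xgi14 ygi40 zgi5) (kgi xgi29 ygi41 zgi25) (kgi xgi29 ygi5 zgi0) (kgi xgi30 ygi3 zgi5)) (@D3.rec (fun _ => Pt) (kgi xgi29 ygi38 zgi50) (kgi xgi24 ygi22 zgi16) (kgi xgi28 ygi31 zgi26) (kgi xgi31 ygi18 zgi31) (kgi xgi20 ygi52 zgi61) (kgi xgi24 ygi39 zgi39) (kgi xgi29 ygi3 zgi41) (kgi xgi25 ygi25 zgi49) (kgi xgi17 ygi57 zgi3) (kgi xgi31 ygi30 zgi6) (kgi xgi19 ygi56 zgi9) (kgi xgi21 ygi13 zgi20) (kgi xgi16 ygi32 zgi0) (kgi xgi14 ygi40 zgi13) (kgi xgi28 ygi42 zgi42) (kgi xgi30 ygi23 zgi38) (kgi xgi19 ygi15 zgi37) (kgi xgi19 ygi56 zgi37) (kgi xgi21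 ygi55 zgi27) (kgi xgi16 ygi50 zgi31) (kgi xgi19 ygi13 zgi3) (kgi xgi19 ygi14 zgi43) (kgi xgi14 ygi40 zgi20) (kgi xgi14 ygi40 zgi23) (kgi xgi30 ygi49 zgi12) (kgi xgi14 ygi40 zgi35) (kgi xgi19 ygi12 zgi61) (kgi xgi24 ygi1 zgi15) (kgi xgi30 ygi29 zgi28) (kgi xgi23 ygi57 zgi7) (kgi xgi30 ygi37 zgi27) (kgi xgi14 ygi40 zgi26) (kgi xgi30 ygi11 zgi61) (kgi xgi31 ygi30 zgi31) (kgi xgi29 ygi55 zgi42) (kgi xgi14 ygi40 zgi27) (kgi xgi14 ygi41 zgi8) (kgi xgi14 ygi41 zgi6) (kgi xgi22 ygi19 zgi9) (kgi xgi28 ygi51 zgi15) (kgi xgi14 ygi40 zgi47) (kgi xgi29 ygi23 zgi12) (kgi xgi31 ygi15 zgi1) (kgi xgi31 ygi15 zgi16) (kgi xgi24 ygi29 zgi52) (kgi xgi22 ygi35 zgi25) (kgi xgi23 ygi34 zgi22) (kgi xgi31 ygi30 zgi38) (kgi xgi29 ygi21 zgi27) (kgi xgi19 ygi13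 zgi5) (kgi xgi22 ygi19 zgi6) (kgi xgi14 ygi44 zgi7) (kgi xgi30 ygi36 zgi61) (kgi xgi20 ygi48 zgi45) (kgi xgi14 ygi40 zgi40) (kgi xgi22 ygi39 zgi56) (kgi xgi22 ygi16 zgi6) (kgi xgi29 ygi41 zgi4) (kgi xgi19 ygi13 zgi21) (kgi xgi31 ygi30 zgi44) (kgi xgi31 ygi30 zgi47) (kgi xgi14 ygi40 zgi45)) (@D3.rec (fun _ => Pt) (kgi xgi31 ygi24 zgi56) (kgi xgi31 ygi24 zgi54) (kgi xgi31 ygi25 zgi28) (kgi xgi30 ygi11 zgi46) (kgi xgi19 ygi28 zgi54) (kgi xgi24 ygi30 zgi25) (kgi xgi14 ygi44 zgi17) (kgi xgi29 ygi27 zgi50) (kgi xgi30 ygi42 zgi56) (kgi xgi14 ygi40 zgi52) (kgi xgi14 ygi40 zgi59) (kgi xgi31 ygi12 zgi49) (kgi xgi22 ygi19 zgi14) (kgi xgi24 ygi11 zgi38) (kgi xgi31 ygi23 zgi53) (kgi xgi24 ygi13 zgi51) (kgi xgi14 ygi40 zgi57) (kgi xgi26 ygi59 zgi46)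 (kgi xgi31 ygi12 zgi43) (kgi xgi14 ygi41 zgi5) (kgi xgi14 ygi41 zgi1) (kgi xgi30 ygi11 zgi35) (kgi xgi30 ygi39 zgi8) (kgi xgi31 ygi30 zgi60) (kgi xgi14 ygi41 zgi3) (kgi xgi30 ygi11 zgi39) (kgi xgi27 ygi5 zgi9) (kgi xgi28 ygi45 zgi53) (kgi xgi28 ygi52 zgi33) (kgi xgi26 ygi23 zgi35) (kgi xgi30 ygi8 zgi27) (kgi xgi29 ygi38 zgi10) (kgi xgi18 ygi48 zgi59) (kgi xgi31 ygi31 zgi2) (kgi xgi22 ygi40 zgi51) (kgi xgi31 ygi31 zgi1) (kgi xgi21 ygi15 zgi61) (kgi xgi19 ygi34 zgi10) (kgi xgi18 ygi48 zgi46) (kgi xgi14 ygi41 zgi10) (kgi xgi21 ygi54 zgi52) (kgi xgi30 ygi42 zgi51) (kgi xgi29 ygi45 zgi50) (kgi xgi30 ygi14 zgi51) (kgi xgi22 ygi26 zgi5) (kgi xgi22 ygi24 zgi37) (kgi xgi24 ygi32 zgi24) (kgi xgi14 ygi43 zgi60) (kgi xgi18 ygi49 zgi7) (kgi xgi30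 ygi14 zgi49) (kgi xgi22 ygi1 zgi47) (kgi xgi22 ygi24 zgi30) (kgi xgi22 ygi0 zgi53) (kgi xgi26 ygi57 zgi6) (kgi xgi31 ygi23 zgi41) (kgi xgi31 ygi7 zgi1) (kgi xgi27 ygi36 zgi2) (kgi xgi20 ygi48 zgi35) (kgi xgi20 ygi44 zgi36) (kgi xgi24 ygi10 zgi40) (kgi xgi17 ygi17 zgi24) (kgi xgi28 ygi22 zgi28)) (@D3.rec (fun _ => Pt) (kgi xgi31 ygi31 zgi22) (kgi xgi22 ygi13 zgi46) (kgi xgi14 ygi41 zgi27) (kgi xgi22 ygi13 zgi45) (kgi xgi24 ygi58 zgi26) (kgi xgi19 ygi20 zgi54) (kgi xgi24 ygi16 zgi46) (kgi xgi25 ygi50 zgi48) (kgi xgi30 ygi39 zgi20) (kgi xgi21 ygi2 zgi2) (kgi xgi31 ygi31 zgi30) (kgi xgi14 ygi41 zgi33) (kgi xgi24 ygi16 zgi19) (kgi xgi26 ygi57 zgi7) (kgi xgi26 ygi57 zgi8) (kgi xgi31 ygi12 zgi54) (kgi xgi28 ygi41 zgi11) (kgi xgi24 ygi27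 zgi55) (kgi xgi24 ygi1 zgi1) (kgi xgi22 ygi0 zgi50) (kgi xgi22 ygi1 zgi39) (kgi xgi31 ygi19 zgi49) (kgi xgi29 ygi32 zgi57) (kgi xgi31 ygi19 zgi6) (kgi xgi26 ygi35 zgi11) (kgi xgi14 ygi41 zgi42) (kgi xgi14 ygi41 zgi47) (kgi xgi31 ygi27 zgi22) (kgi xgi14 ygi41 zgi45) (kgi xgi31 ygi19 zgi0) (kgi xgi31 ygi18 zgi52) (kgi xgi23 ygi54 zgi54) (kgi xgi31 ygi31 zgi44) (kgi xgi31 ygi26 zgi27) (kgi xgi28 ygi50 zgi27) (kgi xgi16 ygi49 zgi13) (kgi xgi31 ygi31 zgi47) (kgi xgi31 ygi31 zgi49) (kgi xgi31 ygi31 zgi43) (kgi xgi30 ygi29 zgi37) (kgi xgi19 ygi53 zgi29) (kgi xgi14 ygi41 zgi52) (kgi xgi27 ygi44 zgi44) (kgi xgi31 ygi19 zgi5) (kgi xgi14 ygi41 zgi53) (kgi xgi31 ygi18 zgi60) (kgi xgi28 ygi18 zgi31) (kgi xgi28 ygi44 zgi23) (kgi xgi14 ygi41 zgi54)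 (kgi xgi16 ygi39 zgi41) (kgi xgi29 ygi3 zgi56) (kgi xgi21 ygi20 zgi61) (kgi xgi16 ygi36 zgi49) (kgi xgi18 ygi45 zgi20) (kgi xgi16 ygi32 zgi43) (kgi xgi14 ygi42 zgi35) (kgi xgi28 ygi17 zgi26) (kgi xgi24 ygi16 zgi14) (kgi xgi19 ygi9 zgi37) (kgi xgi14 ygi42 zgi2) (kgi xgi31 ygi26 zgi30) (kgi xgi25 ygi7 zgi18)) (@D3.rec (fun _ => Pt) (kgi xgi14 ygi42 zgi3) (kgi xgi31 ygi31 zgi61) (kgi xgi31 ygi31 zgi60) (kgi xgi21 ygi57 zgi51) (kgi xgi14 ygi51 zgi57) (kgi xgi29 ygi10 zgi18) (kgi xgi24 ygi22 zgi11) (kgi xgi14 ygi43 zgi22) (kgi xgi22 ygi57 zgi56) (kgi xgi24 ygi34 zgi43) (kgi xgi30 ygi56 zgi10) (kgi xgi14 ygi43 zgi42) (kgi xgi29 ygi18 zgi3) (kgi xgi14 ygi52 zgi4) (kgi xgi31 ygi32 zgi11) (kgi xgi14 ygi42 zgi10) (kgi xgi19 ygi20 zgi34) (kgi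 xgi28 ygi31 zgi41) (kgi xgi29 ygi13 zgi37) (kgi xgi31 ygi28 zgi38) (kgi xgi19 ygi20 zgi35) (kgi xgi14 ygi42 zgi12) (kgi xgi31 ygi32 zgi12) (kgi xgi19 ygi23 zgi20) (kgi xgi24 ygi22 zgi22) (kgi xgi24 ygi22 zgi21) (kgi xgi31 ygi32 zgi19) (kgi xgi24 ygi20 zgi25) (kgi xgi25 ygi34 zgi54) (kgi xgi23 ygi58 zgi54) (kgi xgi25 ygi52 zgi42) (kgi xgi29 ygi42 zgi44) (kgi xgi19 ygi40 zgi53) (kgi xgi14 ygi42 zgi26) (kgi xgi14 ygi45 zgi50) (kgi xgi16 ygi41 zgi35) (kgi xgi31 ygi29 zgi31) (kgi xgi29 ygi26 zgi25) (kgi xgi31 ygi32 zgi24) (kgi xgi26 ygi34 zgi46) (kgi xgi16 ygi48 zgi9) (kgi xgi28 ygi54 zgi13) (kgi xgi19 ygi20 zgi56) (kgi xgi24 ygi16 zgi20) (kgi xgi20 ygi14 zgi18) (kgi xgi31 ygi32 zgi28) (kgi xgi26 ygi1 zgi15) (kgi xgi23 ygi40 zgi6) (kgi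 xgi14 ygi42 zgi28) (kgi xgi28 ygi2 zgi43) (kgi xgi22 ygi41 zgi42) (kgi xgi30 ygi35 zgi59) (kgi xgi19 ygi4 zgi53) (kgi xgi19 ygi9 zgi23) (kgi xgi14 ygi42 zgi29) (kgi xgi24 ygi26 zgi15) (kgi xgi31 ygi17 zgi43) (kgi xgi25 ygi39 zgi28) (kgi xgi19 ygi16 zgi47) (kgi xgi22 ygi40 zgi26) (kgi xgi14 ygi42 zgi39) (kgi xgi22 ygi38 zgi6)) (@D3.rec (fun _ => Pt) (kgi xgi22 ygi38 zgi4) (kgi xgi23 ygi50 zgi3) (kgi xgi20 ygi10 zgi6) (kgi xgi16 ygi51 zgi60) (kgi xgi14 ygi42 zgi48) (kgi xgi22 ygi40 zgi38) (kgi xgi22 ygi40 zgi37) (kgi xgi23 ygi47 zgi45) (kgi xgi18 ygi45 zgi1) (kgi xgi21 ygi9 zgi17) (kgi xgi22 ygi32 zgi43) (kgi xgi27 ygi8 zgi35) (kgi xgi22 ygi38 zgi61) (kgi xgi22 ygi51 zgi16) (kgi xgi21 ygi15 zgi12) (kgi xgi22 ygi49 zgi37) (kgi xgi22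 ygi32 zgi50) (kgi xgi16 ygi22 zgi27) (kgi xgi19 ygi1 zgi21) (kgi xgi18 ygi36 zgi2) (kgi xgi28 ygi26 zgi25) (kgi xgi19 ygi1 zgi18) (kgi xgi14 ygi42 zgi61) (kgi xgi28 ygi26 zgi24) (kgi xgi31 ygi32 zgi38) (kgi xgi22 ygi51 zgi0) (kgi xgi26 ygi16 zgi34) (kgi xgi24 ygi45 zgi55) (kgi xgi17 ygi54 zgi24) (kgi xgi25 ygi1 zgi61) (kgi xgi18 ygi35 zgi59) (kgi xgi21 ygi14 zgi13) (kgi xgi23 ygi57 zgi28) (kgi xgi31 ygi20 zgi22) (kgi xgi31 ygi18 zgi46) (kgi xgi14 ygi43 zgi30) (kgi xgi22 ygi51 zgi31) (kgi xgi31 ygi32 zgi41) (kgi xgi14 ygi43 zgi18) (kgi xgi14 ygi43 zgi21) (kgi xgi22 ygi51 zgi17) (kgi xgi14 ygi43 zgi20) (kgi xgi29 ygi42 zgi43) (kgi xgi29 ygi30 zgi33) (kgi xgi30 ygi17 zgi56) (kgi xgi31 ygi18 zgi43) (kgi xgi31 ygi18 zgi41) (kgi xgi25 ygi47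 zgi57) (kgi xgi25 ygi18 zgi42) (kgi xgi14 ygi43 zgi25) (kgi xgi31 ygi18 zgi45) (kgi xgi26 ygi45 zgi2) (kgi xgi22 ygi16 zgi59) (kgi xgi14 ygi43 zgi26) (kgi xgi28 ygi20 zgi22) (kgi xgi25 ygi36 zgi3) (kgi xgi19 ygi17 zgi31) (kgi xgi24 ygi46 zgi22) (kgi xgi28 ygi48 zgi37) (kgi xgi19 ygi17 zgi28) (kgi xgi19 ygi5 zgi10) (kgi xgi14 ygi43 zgi29)) (@D3.rec (fun _ => Pt) (kgi xgi19 ygi5 zgi4) (kgi xgi19 ygi12 zgi22) (kgi xgi19 ygi19 zgi53) (kgi xgi28 ygi28 zgi4) (kgi xgi23 ygi51 zgi9) (kgi xgi14 ygi43 zgi32) (kgi xgi27 ygi32 zgi0) (kgi xgi16 ygi33 zgi10) (kgi xgi20 ygi32 zgi24) (kgi xgi28 ygi11 zgi14) (kgi xgi23 ygi24 zgi0) (kgi xgi22 ygi33 zgi1) (kgi xgi26 ygi45 zgi15) (kgi xgi22 ygi40 zgi41) (kgi xgi16 ygi12 zgi36) (kgi xgi19 ygi55 zgi51)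 (kgi xgi14 ygi43 zgi38) (kgi xgi28 ygi40 zgi54) (kgi xgi19 ygi15 zgi18) (kgi xgi26 ygi1 zgi58) (kgi xgi19 ygi14 zgi37) (kgi xgi19 ygi15 zgi23) (kgi xgi24 ygi7 zgi36) (kgi xgi22 ygi57 zgi2) (kgi xgi31 ygi18 zgi53) (kgi xgi30 ygi34 zgi37) (kgi xgi18 ygi2 zgi58) (kgi xgi19 ygi18 zgi45) (kgi xgi19 ygi20 zgi48) (kgi xgi19 ygi4 zgi30) (kgi xgi23 ygi51 zgi8) (kgi xgi18 ygi27 zgi26) (kgi xgi26 ygi16 zgi6) (kgi xgi19 ygi15 zgi20) (kgi xgi18 ygi27 zgi12) (kgi xgi23 ygi27 zgi19) (kgi xgi29 ygi8 zgi56) (kgi xgi25 ygi51 zgi23) (kgi xgi28 ygi45 zgi41) (kgi xgi25 ygi41 zgi21) (kgi xgi18 ygi55 zgi59) (kgi xgi23 ygi45 zgi39) (kgi xgi31 ygi33 zgi2) (kgi xgi29 ygi33 zgi22) (kgi xgi30 ygi28 zgi50) (kgi xgi14 ygi43 zgi61) (kgi xgi30 ygi15 zgi18) (kgi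 xgi29 ygi48 zgi16) (kgi xgi30 ygi15 zgi16) (kgi xgi30 ygi21 zgi49) (kgi xgi31 ygi33 zgi14) (kgi xgi27 ygi11 zgi40) (kgi xgi24 ygi9 zgi55) (kgi xgi14 ygi44 zgi3) (kgi xgi23 ygi51 zgi13) (kgi xgi23 ygi51 zgi10) (kgi xgi14 ygi44 zgi6) (kgi xgi30 ygi42 zgi54) (kgi xgi30 ygi39 zgi0) (kgi xgi29 ygi30 zgi40) (kgi xgi30 ygi28 zgi42) (kgi xgi31 ygi19 zgi19)) (@D3.rec (fun _ => Pt) (kgi xgi31 ygi13 zgi45) (kgi xgi27 ygi8 zgi34) (kgi xgi22 ygi27 zgi37) (kgi xgi24 ygi2 zgi4) (kgi xgi31 ygi18 zgi39) (kgi xgi14 ygi44 zgi10) (kgi xgi23 ygi48 zgi37) (kgi xgi23 ygi48 zgi35) (kgi xgi22 ygi26 zgi10) (kgi xgi20 ygi49 zgi20) (kgi xgi20 ygi46 zgi4) (kgi xgi28 ygi18 zgi22) (kgi xgi14 ygi44 zgi14) (kgi xgi29 ygi55 zgi54) (kgi xgi31 ygi25 zgi24) (kgi xgi14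 ygi44 zgi15) (kgi xgi31 ygi22 zgi31) (kgi xgi22 ygi27 zgi39) (kgi xgi14 ygi44 zgi16) (kgi xgi27 ygi5 zgi6) (kgi xgi27 ygi5 zgi11) (kgi xgi31 ygi18 zgi4) (kgi xgi31 ygi33 zgi36) (kgi xgi30 ygi26 zgi1) (kgi xgi22 ygi27 zgi17) (kgi xgi22 ygi58 zgi51) (kgi xgi30 ygi30 zgi8) (kgi xgi31 ygi19 zgi31) (kgi xgi24 ygi25 zgi5) (kgi xgi14 ygi47 zgi24) (kgi xgi16 ygi52 zgi41) (kgi xgi14 ygi44 zgi28) (kgi xgi17 ygi31 zgi10) (kgi xgi29 ygi3 zgi3) (kgi xgi14 ygi44 zgi29) (kgi xgi19 ygi33 zgi42) (kgi xgi18 ygi44 zgi11) (kgi xgi28 ygi51 zgi1) (kgi xgi23 ygi20 zgi56) (kgi xgi25 ygi1 zgi37) (kgi xgi29 ygi11 zgi43) (kgi xgi26 ygi28 zgi16) (kgi xgi29 ygi59 zgi1) (kgi xgi21 ygi5 zgi45) (kgi xgi22 ygi43 zgi47) (kgi xgi29 ygi50 zgi56) (kgi xgi27 ygi4 zgi42)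 (kgi xgi28 ygi42 zgi51) (kgi xgi31 ygi33 zgi42) (kgi xgi14 ygi55 zgi26) (kgi xgi23 ygi24 zgi33) (kgi xgi25 ygi42 zgi60) (kgi xgi18 ygi17 zgi1) (kgi xgi27 ygi26 zgi24) (kgi xgi28 ygi42 zgi41) (kgi xgi29 ygi30 zgi0) (kgi xgi26 ygi48 zgi55) (kgi xgi29 ygi51 zgi39) (kgi xgi31 ygi1 zgi13) (kgi xgi19 ygi47 zgi50) (kgi xgi14 ygi44 zgi50) (kgi xgi26 ygi57 zgi41)) (@D3.rec (fun _ => Pt) (kgi xgi26 ygi48 zgi53) (kgi xgi21 ygi13 zgi3) (kgi xgi20 ygi13 zgi29) (kgi xgi31 ygi33 zgi47) (kgi xgi29 ygi31 zgi39) (kgi xgi26 ygi47 zgi53) (kgi xgi21 ygi8 zgi7) (kgi xgi23 ygi35 zgi34) (kgi xgi30 ygi23 zgi11) (kgi xgi23 ygi17 zgi47) (kgi xgi29 ygi42 zgi42) (kgi xgi18 ygi23 zgi53) (kgi xgi23 ygi20 zgi39) (kgi xgi25 ygi46 zgi39) (kgi xgi14 ygi45 zgi1) (kgi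 xgi27 ygi1 zgi19) (kgi xgi28 ygi1 zgi5) (kgi xgi22 ygi52 zgi16) (kgi xgi27 ygi59 zgi28) (kgi xgi23 ygi8 zgi4) (kgi xgi15 ygi10 zgi8) (kgi xgi18 ygi26 zgi44) (kgi xgi23 ygi18 zgi32) (kgi xgi24 ygi47 zgi43) (kgi xgi23 ygi20 zgi6) (kgi xgi27 ygi1 zgi15) (kgi xgi23 ygi3 zgi9) (kgi xgi30 ygi59 zgi20) (kgi xgi31 ygi33 zgi53) (kgi xgi14 ygi45 zgi24) (kgi xgi14 ygi45 zgi22) (kgi xgi14 ygi45 zgi20) (kgi xgi30 ygi7 zgi17) (kgi xgi30 ygi7 zgi22) (kgi xgi31 ygi32 zgi54) (kgi xgi14 ygi45 zgi21) (kgi xgi31 ygi33 zgi54) (kgi xgi26 ygi11 zgi58) (kgi xgi26 ygi57 zgi39) (kgi xgi23 ygi16 zgi2) (kgi xgi30 ygi59 zgi61) (kgi xgi23 ygi15 zgi6) (kgi xgi23 ygi44 zgi10) (kgi xgi28 ygi41 zgi8) (kgi xgi28 ygi17 zgi40) (kgi xgi23 ygi31 zgi45) (kgi xgi23 ygi45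 zgi16) (kgi xgi30 ygi59 zgi24) (kgi xgi24 ygi47 zgi13) (kgi xgi26 ygi46 zgi1) (kgi xgi14 ygi45 zgi32) (kgi xgi14 ygi45 zgi36) (kgi xgi16 ygi56 zgi7) (kgi xgi24 ygi34 zgi26) (kgi xgi29 ygi33 zgi14) (kgi xgi26 ygi41 zgi12) (kgi xgi30 ygi54 zgi56) (kgi xgi24 ygi40 zgi47) (kgi xgi19 ygi13 zgi60) (kgi xgi24 ygi37 zgi28) (kgi xgi19 ygi31 zgi2) (kgi xgi26 ygi36 zgi4)) (@D3.rec (fun _ => Pt) (kgi xgi16 ygi41 zgi52) (kgi xgi19 ygi56 zgi47) (kgi xgi19 ygi54 zgi12) (kgi xgi27 ygi35 zgi56) (kgi xgi29 ygi31 zgi35) (kgi xgi24 ygi22 zgi33) (kgi xgi30 ygi5 zgi20) (kgi xgi14 ygi47 zgi58) (kgi xgi20 ygi20 zgi36) (kgi xgi14 ygi45 zgi54) (kgi xgi14 ygi47 zgi32) (kgi xgi14 ygi47 zgi29) (kgi xgi19 ygi56 zgi44) (kgi xgi14 ygi45 zgi56) (kgi xgi14 ygi47 zgi41)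 (kgi xgi14 ygi47 zgi39) (kgi xgi14 ygi46 zgi61) (kgi xgi31 ygi29 zgi29) (kgi xgi14 ygi46 zgi2) (kgi xgi28 ygi48 zgi44) (kgi xgi16 ygi30 zgi10) (kgi xgi16 ygi58 zgi51) (kgi xgi16 ygi5 zgi48) (kgi xgi14 ygi54 zgi24) (kgi xgi24 ygi24 zgi38) (kgi xgi24 ygi10 zgi42) (kgi xgi19 ygi57 zgi34) (kgi xgi25 ygi40 zgi23) (kgi xgi17 ygi39 zgi40) (kgi xgi15 ygi41 zgi44) (kgi xgi15 ygi43 zgi13) (kgi xgi20 ygi15 zgi34) (kgi xgi14 ygi46 zgi19) (kgi xgi17 ygi55 zgi40) (kgi xgi14 ygi54 zgi60) (kgi xgi24 ygi43 zgi56) (kgi xgi29 ygi57 zgi37) (kgi xgi14 ygi46 zgi26) (kgi xgi24 ygi43 zgi4) (kgi xgi26 ygi6 zgi25) (kgi xgi15 ygi49 zgi54) (kgi xgi22 ygi45 zgi21) (kgi xgi24 ygi43 zgi17) (kgi xgi24 ygi43 zgi15) (kgi xgi16 ygi57 zgi6) (kgi xgi20 ygi25 zgi5) (kgi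 xgi18 ygi26 zgi10) (kgi xgi17 ygi3 zgi14) (kgi xgi25 ygi17 zgi30) (kgi xgi14 ygi46 zgi41) (kgi xgi21 ygi35 zgi19) (kgi xgi24 ygi22 zgi23) (kgi xgi14 ygi46 zgi43) (kgi xgi15 ygi43 zgi24) (kgi xgi24 ygi42 zgi51) (kgi xgi14 ygi46 zgi46) (kgi xgi14 ygi46 zgi50) (kgi xgi17 ygi53 zgi26) (kgi xgi14 ygi46 zgi47) (kgi xgi29 ygi6 zgi19) (kgi xgi17 ygi51 zgi45) (kgi xgi19 ygi44 zgi38)) (@D3.rec (fun _ => Pt) (kgi xgi30 ygi3 zgi21) (kgi xgi20 ygi53 zgi29) (kgi xgi24 ygi22 zgi61) (kgi xgi29 ygi49 zgi45) (kgi xgi14 ygi46 zgi53) (kgi xgi27 ygi36 zgi56) (kgi xgi17 ygi59 zgi36) (kgi xgi14 ygi46 zgi54) (kgi xgi31 ygi13 zgi16) (kgi xgi27 ygi56 zgi39) (kgi xgi20 ygi44 zgi58) (kgi xgi28 ygi25 zgi15) (kgi xgi21 ygi48 zgi11) (kgi xgi14 ygi46 zgi59) (kgi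 xgi20 ygi13 zgi17) (kgi xgi21 ygi6 zgi57) (kgi xgi30 ygi20 zgi7) (kgi xgi29 ygi15 zgi10) (kgi xgi25 ygi37 zgi47) (kgi xgi15 ygi2 zgi60) (kgi xgi20 ygi26 zgi41) (kgi xgi28 ygi31 zgi31) (kgi xgi16 ygi58 zgi44) (kgi xgi14 ygi47 zgi5) (kgi xgi29 ygi27 zgi19) (kgi xgi26 ygi8 zgi21) (kgi xgi31 ygi34 zgi31) (kgi xgi14 ygi47 zgi10) (kgi xgi18 ygi1 zgi26) (kgi xgi17 ygi59 zgi25) (kgi xgi17 ygi49 zgi49) (kgi xgi29 ygi46 zgi39) (kgi xgi24 ygi35 zgi9) (kgi xgi23 ygi31 zgi3) (kgi xgi23 ygi25 zgi11) (kgi xgi24 ygi37 zgi47) (kgi xgi30 ygi47 zgi58) (kgi xgi30 ygi56 zgi39) (kgi xgi20 ygi50 zgi10) (kgi xgi29 ygi17 zgi17) (kgi xgi14 ygi47 zgi22) (kgi xgi18 ygi52 zgi51) (kgi xgi25 ygi59 zgi37) (kgi xgi19 ygi46 zgi0) (kgi xgi14 ygi47 zgi23) (kgi xgi26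 ygi9 zgi57) (kgi xgi31 ygi34 zgi35) (kgi xgi28 ygi49 zgi40) (kgi xgi21 ygi29 zgi21) (kgi xgi14 ygi47 zgi27) (kgi xgi20 ygi50 zgi22) (kgi xgi31 ygi34 zgi38) (kgi xgi14 ygi47 zgi28) (kgi xgi22 ygi23 zgi37) (kgi xgi24 ygi34 zgi49) (kgi xgi14 ygi48 zgi37) (kgi xgi31 ygi11 zgi1) (kgi xgi29 ygi17 zgi10) (kgi xgi15 ygi25 zgi39) (kgi xgi14 ygi47 zgi31) (kgi xgi30 ygi40 zgi39) (kgi xgi30 ygi40 zgi37)) (@D3.rec (fun _ => Pt) (kgi xgi22 ygi21 zgi15) (kgi xgi16 ygi50 zgi42) (kgi xgi14 ygi47 zgi34) (kgi xgi31 ygi11 zgi52) (kgi xgi31 ygi34 zgi41) (kgi xgi15 ygi2 zgi46) (kgi xgi27 ygi56 zgi49) (kgi xgi14 ygi47 zgi38) (kgi xgi17 ygi33 zgi39) (kgi xgi24 ygi35 zgi15) (kgi xgi24 ygi42 zgi52) (kgi xgi14 ygi54 zgi1) (kgi xgi25 ygi37 zgi40) (kgi xgi26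 ygi42 zgi10) (kgi xgi14 ygi47 zgi44) (kgi xgi27 ygi36 zgi50) (kgi xgi27 ygi37 zgi27) (kgi xgi27 ygi35 zgi23) (kgi xgi31 ygi34 zgi44) (kgi xgi26 ygi34 zgi55) (kgi xgi14 ygi47 zgi52) (kgi xgi29 ygi43 zgi42) (kgi xgi29 ygi27 zgi46) (kgi xgi24 ygi37 zgi19) (kgi xgi28 ygi36 zgi50) (kgi xgi28 ygi27 zgi33) (kgi xgi24 ygi31 zgi56) (kgi xgi22 ygi45 zgi33) (kgi xgi18 ygi0 zgi54) (kgi xgi25 ygi58 zgi8) (kgi xgi16 ygi10 zgi4) (kgi xgi30 ygi24 zgi36) (kgi xgi27 ygi44 zgi4) (kgi xgi14 ygi48 zgi20) (kgi xgi17 ygi33 zgi40) (kgi xgi22 ygi57 zgi16) (kgi xgi26 ygi22 zgi8) (kgi xgi30 ygi43 zgi12) (kgi xgi17 ygi23 zgi58) (kgi xgi14 ygi48 zgi23) (kgi xgi22 ygi20 zgi46) (kgi xgi22 ygi20 zgi44) (kgi xgi22 ygi22 zgi18) (kgi xgi24 ygi27 zgi54) (kgi xgi26 ygi36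 zgi39) (kgi xgi31 ygi28 zgi59) (kgi xgi22 ygi27 zgi13) (kgi xgi31 ygi5 zgi22) (kgi xgi30 ygi18 zgi16) (kgi xgi24 ygi32 zgi8) (kgi xgi31 ygi9 zgi6) (kgi xgi14 ygi48 zgi40) (kgi xgi26 ygi8 zgi5) (kgi xgi31 ygi4 zgi11) (kgi xgi22 ygi21 zgi45) (kgi xgi31 ygi34 zgi50) (kgi xgi14 ygi48 zgi45) (kgi xgi24 ygi5 zgi2) (kgi xgi31 ygi20 zgi23) (kgi xgi24 ygi3 zgi39) (kgi xgi19 ygi42 zgi13) (kgi xgi29 ygi28 zgi37)) (@D3.rec (fun _ => Pt) (kgi xgi16 ygi1 zgi1) (kgi xgi14 ygi48 zgi50) (kgi xgi23 ygi8 zgi16) (kgi xgi23 ygi8 zgi14) (kgi xgi23 ygi34 zgi61) (kgi xgi19 ygi33 zgi9) (kgi xgi29 ygi44 zgi37) (kgi xgi24 ygi22 zgi39) (kgi xgi20 ygi57 zgi17) (kgi xgi25 ygi49 zgi31) (kgi xgi25 ygi9 zgi10) (kgi xgi30 ygi19 zgi39) (kgi xgi28 ygi40 zgi19) (kgi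 xgi24 ygi27 zgi36) (kgi xgi16 ygi38 zgi12) (kgi xgi26 ygi40 zgi18) (kgi xgi29 ygi12 zgi26) (kgi xgi20 ygi39 zgi20) (kgi xgi31 ygi35 zgi1) (kgi xgi31 ygi35 zgi4) (kgi xgi20 ygi39 zgi21) (kgi xgi24 ygi21 zgi2) (kgi xgi16 ygi29 zgi11) (kgi xgi14 ygi49 zgi10) (kgi xgi20 ygi50 zgi9) (kgi xgi23 ygi26 zgi28) (kgi xgi14 ygi49 zgi13) (kgi xgi14 ygi50 zgi47) (kgi xgi15 ygi16 zgi14) (kgi xgi27 ygi21 zgi31) (kgi xgi14 ygi50 zgi43) (kgi xgi14 ygi51 zgi24) (kgi xgi14 ygi49 zgi16) (kgi xgi14 ygi51 zgi6) (kgi xgi14 ygi51 zgi4) (kgi xgi14 ygi49 zgi18) (kgi xgi14 ygi51 zgi13) (kgi xgi26 ygi4 zgi57) (kgi xgi15 ygi18 zgi2) (kgi xgi15 ygi18 zgi5) (kgi xgi31 ygi35 zgi14) (kgi xgi14 ygi49 zgi22) (kgi xgi14 ygi50 zgi48) (kgi xgi14 ygi49 zgi24) (kgi xgi14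 ygi51 zgi45) (kgi xgi14 ygi51 zgi43) (kgi xgi31 ygi35 zgi13) (kgi xgi14 ygi49 zgi26) (kgi xgi14 ygi51 zgi54) (kgi xgi14 ygi52 zgi8) (kgi xgi14 ygi52 zgi6) (kgi xgi28 ygi53 zgi47) (kgi xgi23 ygi36 zgi25) (kgi xgi30 ygi6 zgi19) (kgi xgi14 ygi54 zgi53) (kgi xgi14 ygi49 zgi46) (kgi xgi25 ygi55 zgi27) (kgi xgi29 ygi58 zgi6) (kgi xgi15 ygi37 zgi14) (kgi xgi24 ygi41 zgi16) (kgi xgi30 ygi10 zgi22) (kgi xgi29 ygi17 zgi15)) (@D3.rec (fun _ => Pt) (kgi xgi16 ygi8 zgi52) (kgi xgi20 ygi19 zgi22) (kgi xgi14 ygi49 zgi42) (kgi xgi24 ygi41 zgi23) (kgi xgi24 ygi41 zgi21) (kgi xgi14 ygi49 zgi49) (kgi xgi30 ygi4 zgi14) (kgi xgi15 ygi43 zgi23) (kgi xgi14 ygi49 zgi51) (kgi xgi17 ygi54 zgi13) (kgi xgi23 ygi34 zgi59) (kgi xgi19 ygi16 zgi36) (kgi xgi22 ygi8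 zgi14) (kgi xgi14 ygi49 zgi55) (kgi xgi14 ygi49 zgi56) (kgi xgi14 ygi49 zgi58) (kgi xgi16 ygi2 zgi49) (kgi xgi18 ygi2 zgi9) (kgi xgi26 ygi27 zgi5) (kgi xgi14 ygi50 zgi4) (kgi xgi15 ygi44 zgi4) (kgi xgi19 ygi39 zgi31) (kgi xgi14 ygi50 zgi6) (kgi xgi19 ygi33 zgi46) (kgi xgi14 ygi50 zgi10) (kgi xgi21 ygi57 zgi46) (kgi xgi20 ygi6 zgi37) (kgi xgi22 ygi38 zgi25) (kgi xgi29 ygi31 zgi8) (kgi xgi28 ygi18 zgi4) (kgi xgi16 ygi59 zgi21) (kgi xgi31 ygi35 zgi27) (kgi xgi14 ygi50 zgi14) (kgi xgi20 ygi2 zgi30) (kgi xgi26 ygi54 zgi55) (kgi xgi20 ygi4 zgi44) (kgi xgi22 ygi37 zgi0) (kgi xgi14 ygi50 zgi19) (kgi xgi25 ygi50 zgi36) (kgi xgi31 ygi35 zgi37) (kgi xgi25 ygi50 zgi41) (kgi xgi14 ygi50 zgi34) (kgi xgi21 ygi29 zgi38) (kgi xgi17 ygi2 zgi31) (kgi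 xgi16 ygi24 zgi58) (kgi xgi14 ygi50 zgi31) (kgi xgi19 ygi16 zgi54) (kgi xgi16 ygi30 zgi51) (kgi xgi16 ygi30 zgi50) (kgi xgi17 ygi32 zgi11) (kgi xgi25 ygi33 zgi1) (kgi xgi21 ygi56 zgi32) (kgi xgi25 ygi5 zgi39) (kgi xgi25 ygi14 zgi53) (kgi xgi25 ygi14 zgi39) (kgi xgi25 ygi12 zgi3) (kgi xgi24 ygi39 zgi4) (kgi xgi31 ygi35 zgi41) (kgi xgi21 ygi21 zgi34) (kgi xgi28 ygi42 zgi19) (kgi xgi27 ygi15 zgi56) (kgi xgi25 ygi36 zgi44)) (@D3.rec (fun _ => Pt) (kgi xgi27 ygi12 zgi15) (kgi xgi29 ygi35 zgi26) (kgi xgi29 ygi37 zgi31) (kgi xgi29 ygi37 zgi26) (kgi xgi25 ygi50 zgi40) (kgi xgi28 ygi30 zgi37) (kgi xgi29 ygi44 zgi11) (kgi xgi31 ygi35 zgi50) (kgi xgi14 ygi50 zgi51) (kgi xgi23 ygi1 zgi7) (kgi xgi23 ygi1 zgi5) (kgi xgi30 ygi46 zgi18) (kgi xgi30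 ygi41 zgi57) (kgi xgi31 ygi35 zgi57) (kgi xgi25 ygi43 zgi61) (kgi xgi24 ygi31 zgi55) (kgi xgi23 ygi42 zgi53) (kgi xgi25 ygi48 zgi54) (kgi xgi15 ygi10 zgi32) (kgi xgi19 ygi54 zgi6) (kgi xgi18 ygi35 zgi8) (kgi xgi24 ygi10 zgi10) (kgi xgi14 ygi51 zgi3) (kgi xgi25 ygi48 zgi45) (kgi xgi25 ygi14 zgi60) (kgi xgi14 ygi51 zgi53) (kgi xgi22 ygi44 zgi9) (kgi xgi31 ygi35 zgi36) (kgi xgi26 ygi9 zgi17) (kgi xgi31 ygi35 zgi17) (kgi xgi30 ygi46 zgi11) (kgi xgi25 ygi33 zgi16) (kgi xgi24 ygi32 zgi0) (kgi xgi14 ygi51 zgi15) (kgi xgi29 ygi15 zgi30) (kgi xgi28 ygi11 zgi24) (kgi xgi30 ygi9 zgi14) (kgi xgi23 ygi1 zgi13) (kgi xgi14 ygi51 zgi20) (kgi xgi14 ygi51 zgi23) (kgi xgi31 ygi35 zgi11) (kgi xgi27 ygi1 zgi41) (kgi xgi23 ygi59 zgi15) (kgi xgi24 ygi37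 zgi52) (kgi xgi24 ygi33 zgi35) (kgi xgi26 ygi6 zgi29) (kgi xgi25 ygi33 zgi3) (kgi xgi27 ygi38 zgi22) (kgi xgi14 ygi51 zgi27) (kgi xgi22 ygi21 zgi8) (kgi xgi25 ygi38 zgi15) (kgi xgi19 ygi38 zgi36) (kgi xgi24 ygi37 zgi46) (kgi xgi14 ygi51 zgi29) (kgi xgi24 ygi20 zgi46) (kgi xgi29 ygi9 zgi41) (kgi xgi26 ygi7 zgi16) (kgi xgi31 ygi36 zgi10) (kgi xgi24 ygi35 zgi10) (kgi xgi18 ygi2 zgi54) (kgi xgi15 ygi42 zgi46) (kgi xgi31 ygi36 zgi13)) (@D3.rec (fun _ => Pt) (kgi xgi28 ygi3 zgi25) (kgi xgi14 ygi51 zgi37) (kgi xgi31 ygi9 zgi26) (kgi xgi31 ygi9 zgi25) (kgi xgi31 ygi36 zgi20) (kgi xgi15 ygi53 zgi49) (kgi xgi14 ygi51 zgi40) (kgi xgi15 ygi41 zgi37) (kgi xgi29 ygi28 zgi15) (kgi xgi25 ygi6 zgi50) (kgi xgi25 ygi49 zgi4) (kgi xgi22 ygi5 zgi23) (kgi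 xgi26 ygi7 zgi6) (kgi xgi30 ygi5 zgi33) (kgi xgi24 ygi20 zgi48) (kgi xgi29 ygi59 zgi40) (kgi xgi19 ygi25 zgi38) (kgi xgi14 ygi51 zgi49) (kgi xgi26 ygi6 zgi51) (kgi xgi31 ygi36 zgi25) (kgi xgi21 ygi45 zgi26) (kgi xgi25 ygi49 zgi1) (kgi xgi29 ygi17 zgi41) (kgi xgi31 ygi35 zgi12) (kgi xgi20 ygi43 zgi34) (kgi xgi22 ygi44 zgi35) (kgi xgi27 ygi4 zgi8) (kgi xgi31 ygi36 zgi30) (kgi xgi15 ygi52 zgi46) (kgi xgi14 ygi51 zgi56) (kgi xgi24 ygi42 zgi39) (kgi xgi24 ygi42 zgi37) (kgi xgi14 ygi51 zgi58) (kgi xgi24 ygi35 zgi51) (kgi xgi24 ygi12 zgi9) (kgi xgi19 ygi10 zgi11) (kgi xgi14 ygi52 zgi1) (kgi xgi29 ygi36 zgi49) (kgi xgi29 ygi1 zgi26) (kgi xgi19 ygi9 zgi9) (kgi xgi19 ygi3 zgi16) (kgi xgi19 ygi8 zgi50) (kgi xgi23 ygi14 zgi44) (kgi xgi23 ygi20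 zgi22) (kgi xgi29 ygi12 zgi13) (kgi xgi22 ygi40 zgi10) (kgi xgi14 ygi52 zgi14) (kgi xgi24 ygi8 zgi47) (kgi xgi22 ygi22 zgi47) (kgi xgi22 ygi23 zgi2) (kgi xgi24 ygi15 zgi31) (kgi xgi17 ygi23 zgi51) (kgi xgi18 ygi47 zgi33) (kgi xgi25 ygi27 zgi45) (kgi xgi30 ygi27 zgi58) (kgi xgi17 ygi24 zgi5) (kgi xgi31 ygi22 zgi34) (kgi xgi18 ygi12 zgi16) (kgi xgi14 ygi52 zgi20) (kgi xgi22 ygi57 zgi20) (kgi xgi22 ygi53 zgi23) (kgi xgi22 ygi9 zgi23)) (@D3.rec (fun _ => Pt) (kgi xgi16 ygi27 zgi6) (kgi xgi30 ygi51 zgi30) (kgi xgi14 ygi52 zgi24) (kgi xgi22 ygi55 zgi4) (kgi xgi31 ygi36 zgi44) (kgi xgi23 ygi57 zgi2) (kgi xgi31 ygi29 zgi19) (kgi xgi24 ygi12 zgi60) (kgi xgi20 ygi40 zgi41) (kgi xgi23 ygi11 zgi19) (kgi xgi31 ygi20 zgi16) (kgi xgi20 ygi46 zgi23)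 (kgi xgi25 ygi47 zgi60) (kgi xgi14 ygi52 zgi42) (kgi xgi29 ygi1 zgi24) (kgi xgi17 ygi48 zgi17) (kgi xgi14 ygi52 zgi40) (kgi xgi22 ygi21 zgi53) (kgi xgi22 ygi21 zgi51) (kgi xgi24 ygi19 zgi28) (kgi xgi14 ygi52 zgi43) (kgi xgi21 ygi22 zgi45) (kgi xgi22 ygi22 zgi1) (kgi xgi14 ygi52 zgi44) (kgi xgi22 ygi22 zgi4) (kgi xgi17 ygi25 zgi30) (kgi xgi14 ygi52 zgi47) (kgi xgi27 ygi55 zgi55) (kgi xgi17 ygi24 zgi16) (kgi xgi23 ygi9 zgi40) (kgi xgi17 ygi24 zgi4) (kgi xgi19 ygi31 zgi36) (kgi xgi19 ygi45 zgi19) (kgi xgi14 ygi52 zgi55) (kgi xgi22 ygi20 zgi51) (kgi xgi14 ygi52 zgi57) (kgi xgi22 ygi20 zgi56) (kgi xgi24 ygi40 zgi0) (kgi xgi26 ygi57 zgi15) (kgi xgi31 ygi36 zgi46) (kgi xgi23 ygi9 zgi42) (kgi xgi14 ygi53 zgi0) (kgi xgi31 ygi32 zgi6) (kgi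 xgi31 ygi36 zgi47) (kgi xgi22 ygi0 zgi21) (kgi xgi14 ygi53 zgi7) (kgi xgi19 ygi9 zgi0) (kgi xgi14 ygi53 zgi9) (kgi xgi31 ygi10 zgi7) (kgi xgi29 ygi39 zgi1) (kgi xgi15 ygi20 zgi37) (kgi xgi21 ygi54 zgi23) (kgi xgi23 ygi41 zgi47) (kgi xgi19 ygi23 zgi15) (kgi xgi14 ygi53 zgi14) (kgi xgi16 ygi54 zgi7) (kgi xgi19 ygi20 zgi26) (kgi xgi31 ygi36 zgi54) (kgi xgi31 ygi21 zgi26) (kgi xgi14 ygi53 zgi16) (kgi xgi19 ygi46 zgi14) (kgi xgi19 ygi19 zgi47)) (@D3.rec (fun _ => Pt) (kgi xgi24 ygi31 zgi57) (kgi xgi23 ygi3 zgi28) (kgi xgi23 ygi41 zgi53) (kgi xgi28 ygi13 zgi25) (kgi xgi29 ygi57 zgi1) (kgi xgi23 ygi38 zgi56) (kgi xgi23 ygi57 zgi21) (kgi xgi23 ygi40 zgi47) (kgi xgi30 ygi9 zgi60) (kgi xgi31 ygi9 zgi29) (kgi xgi14 ygi53 zgi26) (kgi xgi31 ygi9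 zgi42) (kgi xgi31 ygi37 zgi7) (kgi xgi31 ygi10 zgi36) (kgi xgi23 ygi30 zgi20) (kgi xgi23 ygi44 zgi29) (kgi xgi30 ygi4 zgi57) (kgi xgi25 ygi42 zgi53) (kgi xgi29 ygi41 zgi28) (kgi xgi23 ygi43 zgi43) (kgi xgi31 ygi2 zgi33) (kgi xgi28 ygi27 zgi13) (kgi xgi22 ygi18 zgi48) (kgi xgi23 ygi16 zgi35) (kgi xgi16 ygi22 zgi48) (kgi xgi31 ygi29 zgi27) (kgi xgi23 ygi9 zgi11) (kgi xgi16 ygi21 zgi26) (kgi xgi25 ygi46 zgi48) (kgi xgi30 ygi23 zgi12) (kgi xgi14 ygi53 zgi38) (kgi xgi18 ygi50 zgi4) (kgi xgi14 ygi53 zgi39) (kgi xgi28 ygi18 zgi41) (kgi xgi22 ygi51 zgi11) (kgi xgi28 ygi16 zgi32) (kgi xgi28 ygi30 zgi18) (kgi xgi28 ygi18 zgi58) (kgi xgi31 ygi37 zgi16) (kgi xgi22 ygi51 zgi15) (kgi xgi24 ygi40 zgi43) (kgi xgi31 ygi30 zgi36) (kgi xgi30 ygi45 zgi5)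 (kgi xgi22 ygi37 zgi31) (kgi xgi14 ygi53 zgi53) (kgi xgi30 ygi12 zgi48) (kgi xgi30 ygi30 zgi50) (kgi xgi24 ygi39 zgi37) (kgi xgi24 ygi41 zgi33) (kgi xgi24 ygi41 zgi59) (kgi xgi22 ygi11 zgi39) (kgi xgi31 ygi37 zgi18) (kgi xgi30 ygi0 zgi29) (kgi xgi16 ygi3 zgi8) (kgi xgi27 ygi46 zgi36) (kgi xgi23 ygi34 zgi43) (kgi xgi28 ygi1 zgi48) (kgi xgi27 ygi31 zgi29) (kgi xgi26 ygi18 zgi7) (kgi xgi14 ygi53 zgi61) (kgi xgi21 ygi46 zgi60) (kgi xgi28 ygi41 zgi20)) (@D3.rec (fun _ => Pt) (kgi xgi14 ygi54 zgi0) (kgi xgi23 ygi35 zgi29) (kgi xgi25 ygi15 zgi39) (kgi xgi24 ygi42 zgi2) (kgi xgi24 ygi41 zgi28) (kgi xgi14 ygi55 zgi48) (kgi xgi30 ygi0 zgi32) (kgi xgi24 ygi40 zgi53) (kgi xgi21 ygi40 zgi50) (kgi xgi21 ygi8 zgi33) (kgi xgi24 ygi42 zgi25) (kgi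 xgi23 ygi58 zgi17) (kgi xgi30 ygi20 zgi22) (kgi xgi24 ygi43 zgi1) (kgi xgi25 ygi57 zgi25) (kgi xgi24 ygi42 zgi7) (kgi xgi23 ygi23 zgi37) (kgi xgi25 ygi31 zgi52) (kgi xgi24 ygi35 zgi52) (kgi xgi28 ygi56 zgi55) (kgi xgi31 ygi36 zgi55) (kgi xgi14 ygi54 zgi19) (kgi xgi24 ygi36 zgi4) (kgi xgi24 ygi36 zgi2) (kgi xgi30 ygi8 zgi60) (kgi xgi24 ygi43 zgi20) (kgi xgi29 ygi58 zgi52) (kgi xgi24 ygi41 zgi5) (kgi xgi14 ygi55 zgi27) (kgi xgi24 ygi44 zgi1) (kgi xgi26 ygi10 zgi27) (kgi xgi21 ygi31 zgi22) (kgi xgi21 ygi32 zgi34) (kgi xgi24 ygi40 zgi45) (kgi xgi16 ygi50 zgi45) (kgi xgi21 ygi41 zgi11) (kgi xgi21 ygi23 zgi57) (kgi xgi17 ygi55 zgi55) (kgi xgi14 ygi54 zgi31) (kgi xgi22 ygi4 zgi26) (kgi xgi31 ygi37 zgi25) (kgi xgi21 ygi56 zgi26) (kgi xgi23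 ygi23 zgi24) (kgi xgi24 ygi43 zgi26) (kgi xgi30 ygi10 zgi13) (kgi xgi31 ygi35 zgi19) (kgi xgi30 ygi20 zgi0) (kgi xgi14 ygi54 zgi39) (kgi xgi23 ygi24 zgi20) (kgi xgi21 ygi19 zgi19) (kgi xgi30 ygi51 zgi53) (kgi xgi24 ygi42 zgi9) (kgi xgi27 ygi31 zgi36) (kgi xgi25 ygi45 zgi31) (kgi xgi30 ygi12 zgi38) (kgi xgi14 ygi54 zgi46) (kgi xgi29 ygi17 zgi3) (kgi xgi20 ygi54 zgi40) (kgi xgi24 ygi43 zgi38) (kgi xgi24 ygi43 zgi37) (kgi xgi14 ygi54 zgi54) (kgi xgi24 ygi41 zgi3)) (@D3.rec (fun _ => Pt) (kgi xgi21 ygi8 zgi35) (kgi xgi24 ygi42 zgi23) (kgi xgi31 ygi36 zgi8) (kgi xgi14 ygi54 zgi59) (kgi xgi14 ygi54 zgi51) (kgi xgi24 ygi32 zgi34) (kgi xgi16 ygi17 zgi38) (kgi xgi24 ygi42 zgi14) (kgi xgi27 ygi46 zgi59) (kgi xgi24 ygi42 zgi21) (kgi xgi30 ygi4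 zgi4) (kgi xgi14 ygi54 zgi57) (kgi xgi24 ygi43 zgi44) (kgi xgi31 ygi37 zgi43) (kgi xgi14 ygi54 zgi58) (kgi xgi24 ygi35 zgi54) (kgi xgi31 ygi37 zgi26) (kgi xgi21 ygi34 zgi42) (kgi xgi24 ygi42 zgi5) (kgi xgi24 ygi42 zgi4) (kgi xgi25 ygi41 zgi56) (kgi xgi14 ygi54 zgi61) (kgi xgi19 ygi5 zgi48) (kgi xgi24 ygi41 zgi60) (kgi xgi23 ygi56 zgi60) (kgi xgi24 ygi35 zgi11) (kgi xgi21 ygi14 zgi32) (kgi xgi21 ygi29 zgi37) (kgi xgi31 ygi37 zgi47) (kgi xgi23 ygi26 zgi38) (kgi xgi23 ygi57 zgi0) (kgi xgi28 ygi10 zgi56) (kgi xgi21 ygi34 zgi43) (kgi xgi29 ygi11 zgi58) (kgi xgi14 ygi55 zgi14) (kgi xgi26 ygi22 zgi46) (kgi xgi29 ygi9 zgi58) (kgi xgi14 ygi55 zgi18) (kgi xgi24 ygi38 zgi31) (kgi xgi24 ygi38 zgi29) (kgi xgi31 ygi37 zgi2) (kgi xgi17 ygi17 zgi61)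 (kgi xgi24 ygi43 zgi53) (kgi xgi19 ygi38 zgi53) (kgi xgi30 ygi12 zgi56) (kgi xgi14 ygi55 zgi25) (kgi xgi23 ygi24 zgi12) (kgi xgi31 ygi37 zgi53) (kgi xgi31 ygi37 zgi54) (kgi xgi27 ygi4 zgi4) (kgi xgi24 ygi41 zgi4) (kgi xgi24 ygi33 zgi57) (kgi xgi24 ygi34 zgi11) (kgi xgi25 ygi2 zgi17) (kgi xgi24 ygi9 zgi49) (kgi xgi25 ygi38 zgi23) (kgi xgi21 ygi46 zgi40) (kgi xgi23 ygi23 zgi41) (kgi xgi14 ygi55 zgi35) (kgi xgi22 ygi4 zgi25) (kgi xgi24 ygi32 zgi35) (kgi xgi15 ygi13 zgi28)) (@D3.rec (fun _ => Pt) (kgi xgi20 ygi16 zgi5) (kgi xgi29 ygi6 zgi28) (kgi xgi23 ygi22 zgi14) (kgi xgi14 ygi56 zgi24) (kgi xgi24 ygi32 zgi37) (kgi xgi29 ygi52 zgi11) (kgi xgi21 ygi46 zgi38) (kgi xgi17 ygi38 zgi44) (kgi xgi30 ygi42 zgi22) (kgi xgi16 ygi14 zgi24) (kgi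 xgi18 ygi3 zgi34) (kgi xgi26 ygi14 zgi28) (kgi xgi14 ygi55 zgi46) (kgi xgi19 ygi16 zgi39) (kgi xgi19 ygi16 zgi34) (kgi xgi14 ygi55 zgi47) (kgi xgi24 ygi32 zgi43) (kgi xgi17 ygi38 zgi54) (kgi xgi16 ygi50 zgi51) (kgi xgi21 ygi45 zgi22) (kgi xgi21 ygi8 zgi25) (kgi xgi24 ygi41 zgi41) (kgi xgi25 ygi2 zgi39) (kgi xgi14 ygi55 zgi54) (kgi xgi20 ygi34 zgi33) (kgi xgi26 ygi1 zgi10) (kgi xgi23 ygi36 zgi15) (kgi xgi26 ygi48 zgi14) (kgi xgi24 ygi41 zgi42) (kgi xgi31 ygi37 zgi61) (kgi xgi28 ygi58 zgi51) (kgi xgi29 ygi57 zgi23) (kgi xgi14 ygi56 zgi0) (kgi xgi24 ygi41 zgi48) (kgi xgi18 ygi6 zgi7) (kgi xgi23 ygi46 zgi58) (kgi xgi23 ygi22 zgi34) (kgi xgi14 ygi56 zgi9) (kgi xgi23 ygi34 zgi56) (kgi xgi31 ygi7 zgi24) (kgi xgi22 ygi44 zgi21) (kgi xgi21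 ygi48 zgi57) (kgi xgi30 ygi40 zgi21) (kgi xgi17 ygi55 zgi46) (kgi xgi24 ygi42 zgi11) (kgi xgi23 ygi30 zgi16) (kgi xgi31 ygi38 zgi4) (kgi xgi30 ygi52 zgi9) (kgi xgi14 ygi56 zgi17) (kgi xgi21 ygi55 zgi23) (kgi xgi22 ygi28 zgi22) (kgi xgi14 ygi56 zgi20) (kgi xgi19 ygi57 zgi18) (kgi xgi31 ygi1 zgi46) (kgi xgi19 ygi5 zgi49) (kgi xgi24 ygi52 zgi23) (kgi xgi31 ygi37 zgi35) (kgi xgi24 ygi52 zgi21) (kgi xgi23 ygi34 zgi58) (kgi xgi29 ygi12 zgi12) (kgi xgi24 ygi41 zgi29) (kgi xgi31 ygi5 zgi59)) (@D3.rec (fun _ => Pt) (kgi xgi29 ygi12 zgi21) (kgi xgi25 ygi2 zgi31) (kgi xgi30 ygi13 zgi33) (kgi xgi30 ygi20 zgi33) (kgi xgi14 ygi56 zgi36) (kgi xgi23 ygi17 zgi54) (kgi xgi27 ygi39 zgi26) (kgi xgi14 ygi56 zgi44) (kgi xgi17 ygi45 zgi18) (kgi xgi14 ygi56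 zgi49) (kgi xgi22 ygi15 zgi10) (kgi xgi22 ygi15 zgi8) (kgi xgi25 ygi1 zgi4) (kgi xgi14 ygi56 zgi50) (kgi xgi21 ygi4 zgi40) (kgi xgi21 ygi4 zgi39) (kgi xgi28 ygi14 zgi42) (kgi xgi21 ygi37 zgi9) (kgi xgi28 ygi16 zgi26) (kgi xgi25 ygi30 zgi54) (kgi xgi14 ygi56 zgi52) (kgi xgi20 ygi39 zgi55) (kgi xgi31 ygi13 zgi15) (kgi xgi18 ygi22 zgi47) (kgi xgi14 ygi56 zgi56) (kgi xgi21 ygi12 zgi60) (kgi xgi23 ygi18 zgi33) (kgi xgi16 ygi13 zgi2) (kgi xgi26 ygi15 zgi1) (kgi xgi26 ygi2 zgi10) (kgi xgi17 ygi37 zgi35) (kgi xgi26 ygi2 zgi49) (kgi xgi25 ygi34 zgi32) (kgi xgi27 ygi27 zgi7) (kgi xgi18 ygi27 zgi36) (kgi xgi14 ygi57 zgi2) (kgi xgi16 ygi14 zgi50) (kgi xgi16 ygi14 zgi48) (kgi xgi16 ygi2 zgi29) (kgi xgi25 ygi15 zgi42) (kgi xgi29 ygi27 zgi44) (kgi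 xgi20 ygi16 zgi61) (kgi xgi14 ygi57 zgi11) (kgi xgi30 ygi3 zgi31) (kgi xgi17 ygi41 zgi44) (kgi xgi31 ygi1 zgi32) (kgi xgi25 ygi55 zgi4) (kgi xgi29 ygi0 zgi18) (kgi xgi21 ygi59 zgi13) (kgi xgi27 ygi26 zgi34) (kgi xgi14 ygi57 zgi20) (kgi xgi31 ygi38 zgi15) (kgi xgi28 ygi1 zgi53) (kgi xgi30 ygi15 zgi4) (kgi xgi14 ygi57 zgi21) (kgi xgi16 ygi15 zgi59) (kgi xgi27 ygi39 zgi48) (kgi xgi16 ygi15 zgi56) (kgi xgi29 ygi22 zgi60) (kgi xgi26 ygi5 zgi51) (kgi xgi25 ygi23 zgi26) (kgi xgi30 ygi4 zgi18)) (@D3.rec (fun _ => Pt) (kgi xgi18 ygi5 zgi10) (kgi xgi16 ygi18 zgi45) (kgi xgi25 ygi18 zgi1) (kgi xgi16 ygi18 zgi46) (kgi xgi14 ygi57 zgi37) (kgi xgi16 ygi17 zgi13) (kgi xgi27 ygi27 zgi5) (kgi xgi31 ygi38 zgi21) (kgi xgi18 ygi32 zgi14) (kgi xgi14 ygi57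 zgi44) (kgi xgi30 ygi4 zgi12) (kgi xgi23 ygi43 zgi3) (kgi xgi18 ygi3 zgi52) (kgi xgi16 ygi17 zgi26) (kgi xgi26 ygi13 zgi57) (kgi xgi27 ygi26 zgi54) (kgi xgi27 ygi25 zgi9) (kgi xgi16 ygi16 zgi26) (kgi xgi14 ygi57 zgi51) (kgi xgi14 ygi57 zgi55) (kgi xgi17 ygi39 zgi45) (kgi xgi21 ygi46 zgi55) (kgi xgi26 ygi3 zgi1) (kgi xgi14 ygi57 zgi52) (kgi xgi30 ygi14 zgi21) (kgi xgi16 ygi16 zgi28) (kgi xgi16 ygi17 zgi3) (kgi xgi14 ygi57 zgi54) (kgi xgi25 ygi10 zgi43) (kgi xgi18 ygi6 zgi13) (kgi xgi31 ygi38 zgi24) (kgi xgi27 ygi40 zgi4) (kgi xgi18 ygi8 zgi50) (kgi xgi18 ygi6 zgi55) (kgi xgi18 ygi4 zgi28) (kgi xgi27 ygi28 zgi32) (kgi xgi27 ygi27 zgi33) (kgi xgi28 ygi10 zgi29) (kgi xgi28 ygi2 zgi30) (kgi xgi22 ygi34 zgi37) (kgi xgi14 ygi58 zgi3) (kgi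 xgi16 ygi14 zgi51) (kgi xgi27 ygi31 zgi32) (kgi xgi24 ygi44 zgi38) (kgi xgi15 ygi49 zgi10) (kgi xgi15 ygi14 zgi36) (kgi xgi14 ygi58 zgi11) (kgi xgi25 ygi44 zgi17) (kgi xgi30 ygi3 zgi30) (kgi xgi20 ygi3 zgi61) (kgi xgi17 ygi52 zgi27) (kgi xgi26 ygi24 zgi33) (kgi xgi18 ygi15 zgi52) (kgi xgi31 ygi38 zgi37) (kgi xgi29 ygi53 zgi43) (kgi xgi24 ygi54 zgi9) (kgi xgi25 ygi49 zgi26) (kgi xgi16 ygi19 zgi49) (kgi xgi31 ygi38 zgi43) (kgi xgi15 ygi8 zgi36) (kgi xgi19 ygi0 zgi49) (kgi xgi26 ygi17 zgi16)) (@D3.rec (fun _ => Pt) (kgi xgi18 ygi36 zgi0) (kgi xgi15 ygi0 zgi27) (kgi xgi26 ygi17 zgi11) (kgi xgi31 ygi22 zgi21) (kgi xgi19 ygi44 zgi12) (kgi xgi14 ygi58 zgi42) (kgi xgi14 ygi58 zgi54) (kgi xgi29 ygi1 zgi52) (kgi xgi14 ygi58 zgi43) (kgi xgi19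 ygi42 zgi27) (kgi xgi31 ygi38 zgi48) (kgi xgi19 ygi1 zgi34) (kgi xgi16 ygi22 zgi31) (kgi xgi23 ygi20 zgi17) (kgi xgi23 ygi49 zgi58) (kgi xgi28 ygi2 zgi39) (kgi xgi15 ygi4 zgi19) (kgi xgi19 ygi30 zgi34) (kgi xgi17 ygi33 zgi7) (kgi xgi14 ygi58 zgi53) (kgi xgi31 ygi33 zgi26) (kgi xgi18 ygi54 zgi56) (kgi xgi24 ygi28 zgi60) (kgi xgi29 ygi18 zgi47) (kgi xgi31 ygi38 zgi56) (kgi xgi19 ygi13 zgi12) (kgi xgi14 ygi58 zgi58) (kgi xgi16 ygi22 zgi41) (kgi xgi24 ygi17 zgi60) (kgi xgi21 ygi49 zgi33) (kgi xgi14 ygi58 zgi61) (kgi xgi19 ygi1 zgi56) (kgi xgi28 ygi26 zgi49) (kgi xgi16 ygi23 zgi26) (kgi xgi16 ygi22 zgi38) (kgi xgi16 ygi22 zgi35) (kgi xgi19 ygi1 zgi15) (kgi xgi24 ygi40 zgi39) (kgi xgi29 ygi18 zgi56) (kgi xgi19 ygi5 zgi20) (kgi xgi14 ygi59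 zgi11) (kgi xgi27 ygi20 zgi35) (kgi xgi18 ygi5 zgi58) (kgi xgi18 ygi17 zgi17) (kgi xgi23 ygi51 zgi24) (kgi xgi31 ygi39 zgi0) (kgi xgi24 ygi55 zgi9) (kgi xgi14 ygi59 zgi14) (kgi xgi16 ygi23 zgi3) (kgi xgi26 ygi30 zgi44) (kgi xgi16 ygi23 zgi0) (kgi xgi18 ygi8 zgi42) (kgi xgi25 ygi0 zgi38) (kgi xgi27 ygi29 zgi12) (kgi xgi28 ygi28 zgi38) (kgi xgi26 ygi29 zgi51) (kgi xgi29 ygi52 zgi50) (kgi xgi26 ygi19 zgi21) (kgi xgi24 ygi47 zgi36) (kgi xgi15 ygi8 zgi7) (kgi xgi29 ygi24 zgi31) (kgi xgi27 ygi40 zgi44)) (@D3.rec (fun _ => Pt) (kgi xgi24 ygi25 zgi29) (kgi xgi28 ygi14 zgi14) (kgi xgi24 ygi30 zgi36) (kgi xgi28 ygi56 zgi20) (kgi xgi20 ygi18 zgi61) (kgi xgi29 ygi54 zgi6) (kgi xgi14 ygi59 zgi41) (kgi xgi16 ygi33 zgi29) (kgi xgi15 ygi50 zgi35)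 (kgi xgi21 ygi30 zgi42) (kgi xgi26 ygi29 zgi57) (kgi xgi21 ygi30 zgi3) (kgi xgi28 ygi12 zgi37) (kgi xgi24 ygi31 zgi49) (kgi xgi19 ygi48 zgi9) (kgi xgi16 ygi12 zgi19) (kgi xgi14 ygi59 zgi55) (kgi xgi16 ygi12 zgi41) (kgi xgi16 ygi12 zgi42) (kgi xgi15 ygi0 zgi12) (kgi xgi16 ygi28 zgi8) (kgi xgi23 ygi7 zgi9) (kgi xgi16 ygi53 zgi11) (kgi xgi16 ygi32 zgi61) (kgi xgi17 ygi55 zgi8) (kgi xgi15 ygi0 zgi15) (kgi xgi15 ygi4 zgi39) (kgi xgi20 ygi9 zgi1) (kgi xgi16 ygi44 zgi58) (kgi xgi29 ygi25 zgi8) (kgi xgi27 ygi5 zgi24) (kgi xgi15 ygi0 zgi14) (kgi xgi15 ygi0 zgi18) (kgi xgi30 ygi54 zgi6) (kgi xgi26 ygi25 zgi19) (kgi xgi26 ygi25 zgi20) (kgi xgi22 ygi37 zgi42) (kgi xgi28 ygi45 zgi45) (kgi xgi29 ygi24 zgi0) (kgi xgi21 ygi13 zgi30) (kgi xgi20 ygi18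 zgi50) (kgi xgi24 ygi31 zgi23) (kgi xgi22 ygi50 zgi18) (kgi xgi16 ygi31 zgi39) (kgi xgi15 ygi8 zgi35) (kgi xgi26 ygi17 zgi14) (kgi xgi15 ygi8 zgi44) (kgi xgi15 ygi0 zgi26) (kgi xgi15 ygi0 zgi33) (kgi xgi30 ygi25 zgi14) (kgi xgi15 ygi5 zgi57) (kgi xgi19 ygi21 zgi13) (kgi xgi16 ygi32 zgi39) (kgi xgi20 ygi30 zgi53) (kgi xgi30 ygi24 zgi60) (kgi xgi24 ygi56 zgi31) (kgi xgi15 ygi0 zgi35) (kgi xgi18 ygi47 zgi7) (kgi xgi18 ygi47 zgi5) (kgi xgi25 ygi26 zgi26) (kgi xgi31 ygi15 zgi9) (kgi xgi26 ygi30 zgi48)) (@D3.rec (fun _ => Pt) (kgi xgi27 ygi49 zgi21) (kgi xgi18 ygi6 zgi49) (kgi xgi18 ygi6 zgi52) (kgi xgi28 ygi31 zgi44) (kgi xgi31 ygi39 zgi21) (kgi xgi20 ygi19 zgi7) (kgi xgi18 ygi32 zgi38) (kgi xgi18 ygi14 zgi27) (kgi xgi20 ygi21 zgi32) (kgi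 xgi27 ygi34 zgi4) (kgi xgi26 ygi30 zgi57) (kgi xgi30 ygi24 zgi51) (kgi xgi28 ygi4 zgi34) (kgi xgi15 ygi0 zgi44) (kgi xgi23 ygi4 zgi57) (kgi xgi21 ygi10 zgi51) (kgi xgi25 ygi26 zgi22) (kgi xgi26 ygi30 zgi13) (kgi xgi15 ygi0 zgi47) (kgi xgi24 ygi12 zgi34) (kgi xgi24 ygi48 zgi30) (kgi xgi28 ygi3 zgi34) (kgi xgi18 ygi11 zgi38) (kgi xgi18 ygi34 zgi43) (kgi xgi28 ygi5 zgi15) (kgi xgi27 ygi51 zgi29) (kgi xgi15 ygi0 zgi51) (kgi xgi27 ygi51 zgi27) (kgi xgi28 ygi20 zgi56) (kgi xgi31 ygi25 zgi13) (kgi xgi15 ygi0 zgi53) (kgi xgi24 ygi48 zgi20) (kgi xgi15 ygi0 zgi54) (kgi xgi15 ygi1 zgi52) (kgi xgi28 ygi14 zgi19) (kgi xgi29 ygi15 zgi3) (kgi xgi25 ygi21 zgi22) (kgi xgi15 ygi0 zgi57) (kgi xgi25 ygi19 zgi56) (kgi xgi25 ygi38 zgi48) (kgi xgi15 ygi0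 zgi59) (kgi xgi31 ygi39 zgi43) (kgi xgi15 ygi0 zgi60) (kgi xgi15 ygi2 zgi19) (kgi xgi24 ygi50 zgi8) (kgi xgi29 ygi7 zgi23) (kgi xgi22 ygi7 zgi35) (kgi xgi25 ygi41 zgi37) (kgi xgi15 ygi1 zgi4) (kgi xgi15 ygi2 zgi28) (kgi xgi20 ygi53 zgi42) (kgi xgi15 ygi2 zgi25) (kgi xgi15 ygi1 zgi9) (kgi xgi17 ygi50 zgi44) (kgi xgi15 ygi1 zgi11) (kgi xgi26 ygi37 zgi38) (kgi xgi19 ygi17 zgi36) (kgi xgi25 ygi22 zgi9) (kgi xgi29 ygi2 zgi38) (kgi xgi28 ygi31 zgi35) (kgi xgi15 ygi1 zgi10) (kgi xgi28 ygi31 zgi37)) (@D3.rec (fun _ => Pt) (kgi xgi29 ygi41 zgi46) (kgi xgi27 ygi22 zgi52) (kgi xgi30 ygi0 zgi4) (kgi xgi15 ygi1 zgi12) (kgi xgi15 ygi3 zgi5) (kgi xgi15 ygi3 zgi3) (kgi xgi25 ygi22 zgi42) (kgi xgi17 ygi50 zgi9) (kgi xgi31 ygi39 zgi58) (kgi xgi19 ygi8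 zgi47) (kgi xgi26 ygi1 zgi23) (kgi xgi15 ygi43 zgi15) (kgi xgi29 ygi57 zgi30) (kgi xgi15 ygi46 zgi12) (kgi xgi17 ygi41 zgi45) (kgi xgi15 ygi1 zgi21) (kgi xgi19 ygi44 zgi15) (kgi xgi24 ygi48 zgi57) (kgi xgi28 ygi55 zgi8) (kgi xgi31 ygi40 zgi2) (kgi xgi16 ygi9 zgi37) (kgi xgi15 ygi29 zgi3) (kgi xgi16 ygi9 zgi34) (kgi xgi15 ygi1 zgi29) (kgi xgi25 ygi20 zgi31) (kgi xgi15 ygi1 zgi27) (kgi xgi19 ygi29 zgi13) (kgi xgi19 ygi29 zgi11) (kgi xgi28 ygi14 zgi20) (kgi xgi31 ygi40 zgi12) (kgi xgi29 ygi11 zgi20) (kgi xgi15 ygi28 zgi40) (kgi xgi16 ygi9 zgi30) (kgi xgi19 ygi55 zgi26) (kgi xgi19 ygi55 zgi29) (kgi xgi16 ygi12 zgi56) (kgi xgi31 ygi40 zgi22) (kgi xgi31 ygi40 zgi25) (kgi xgi28 ygi9 zgi7) (kgi xgi19 ygi58 zgi27) (kgi xgi31 ygi40 zgi8) (kgi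 xgi28 ygi36 zgi39) (kgi xgi31 ygi40 zgi30) (kgi xgi15 ygi1 zgi37) (kgi xgi31 ygi40 zgi31) (kgi xgi26 ygi54 zgi46) (kgi xgi28 ygi38 zgi61) (kgi xgi19 ygi50 zgi38) (kgi xgi24 ygi51 zgi2) (kgi xgi20 ygi26 zgi40) (kgi xgi29 ygi43 zgi30) (kgi xgi27 ygi37 zgi8) (kgi xgi15 ygi28 zgi56) (kgi xgi19 ygi59 zgi33) (kgi xgi15 ygi1 zgi42) (kgi xgi19 ygi59 zgi20) (kgi xgi29 ygi15 zgi16) (kgi xgi25 ygi21 zgi19) (kgi xgi17 ygi49 zgi53) (kgi xgi19 ygi59 zgi26) (kgi xgi15 ygi1 zgi46) (kgi xgi19 ygi11 zgi6)) (@D3.rec (fun _ => Pt) (kgi xgi15 ygi25 zgi32) (kgi xgi15 ygi1 zgi49) (kgi xgi15 ygi34 zgi60) (kgi xgi15 ygi34 zgi58) (kgi xgi28 ygi20 zgi34) (kgi xgi19 ygi46 zgi25) (kgi xgi24 ygi48 zgi44) (kgi xgi19 ygi58 zgi24) (kgi xgi24 ygi50 zgi51) (kgi xgi31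 ygi40 zgi44) (kgi xgi25 ygi20 zgi19) (kgi xgi15 ygi1 zgi55) (kgi xgi24 ygi50 zgi45) (kgi xgi24 ygi51 zgi41) (kgi xgi15 ygi1 zgi56) (kgi xgi31 ygi40 zgi47) (kgi xgi31 ygi40 zgi51) (kgi xgi28 ygi59 zgi18) (kgi xgi15 ygi1 zgi57) (kgi xgi31 ygi34 zgi23) (kgi xgi31 ygi40 zgi59) (kgi xgi25 ygi38 zgi44) (kgi xgi31 ygi40 zgi61) (kgi xgi22 ygi7 zgi42) (kgi xgi15 ygi1 zgi60) (kgi xgi20 ygi5 zgi7) (kgi xgi24 ygi16 zgi3) (kgi xgi31 ygi39 zgi42) (kgi xgi31 ygi28 zgi13) (kgi xgi20 ygi5 zgi14) (kgi xgi15 ygi2 zgi2) (kgi xgi18 ygi44 zgi15) (kgi xgi18 ygi44 zgi13) (kgi xgi31 ygi41 zgi9) (kgi xgi20 ygi5 zgi25) (kgi xgi15 ygi3 zgi29) (kgi xgi19 ygi23 zgi19) (kgi xgi17 ygi48 zgi38) (kgi xgi29 ygi7 zgi28) (kgi xgi15 ygi2 zgi8) (kgi xgi26 ygi37 zgi54)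 (kgi xgi28 ygi43 zgi14) (kgi xgi31 ygi41 zgi12) (kgi xgi15 ygi2 zgi10) (kgi xgi25 ygi19 zgi48) (kgi xgi24 ygi50 zgi11) (kgi xgi18 ygi34 zgi46) (kgi xgi28 ygi7 zgi45) (kgi xgi28 ygi7 zgi53) (kgi xgi25 ygi22 zgi41) (kgi xgi24 ygi58 zgi40) (kgi xgi24 ygi50 zgi6) (kgi xgi15 ygi2 zgi22) (kgi xgi25 ygi19 zgi47) (kgi xgi28 ygi21 zgi60) (kgi xgi27 ygi12 zgi6) (kgi xgi15 ygi2 zgi23) (kgi xgi31 ygi9 zgi52) (kgi xgi24 ygi52 zgi3) (kgi xgi29 ygi4 zgi26) (kgi xgi15 ygi2 zgi24) (kgi xgi25 ygi19 zgi49)) (@D3.rec (fun _ => Pt) (kgi xgi24 ygi49 zgi2) (kgi xgi25 ygi41 zgi34) (kgi xgi28 ygi31 zgi43) (kgi xgi17 ygi51 zgi39) (kgi xgi27 ygi29 zgi16) (kgi xgi19 ygi58 zgi18) (kgi xgi25 ygi20 zgi10) (kgi xgi15 ygi2 zgi27) (kgi xgi21 ygi50 zgi52) (kgi xgi24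 ygi51 zgi54) (kgi xgi20 ygi55 zgi50) (kgi xgi26 ygi2 zgi45) (kgi xgi29 ygi2 zgi36) (kgi xgi29 ygi44 zgi51) (kgi xgi15 ygi21 zgi33) (kgi xgi15 ygi2 zgi59) (kgi xgi25 ygi13 zgi43) (kgi xgi25 ygi9 zgi18) (kgi xgi25 ygi11 zgi1) (kgi xgi15 ygi2 zgi36) (kgi xgi25 ygi10 zgi61) (kgi xgi31 ygi41 zgi24) (kgi xgi20 ygi55 zgi53) (kgi xgi15 ygi2 zgi37) (kgi xgi15 ygi2 zgi38) (kgi xgi26 ygi3 zgi20) (kgi xgi25 ygi21 zgi59) (kgi xgi26 ygi3 zgi19) (kgi xgi31 ygi39 zgi48) (kgi xgi15 ygi2 zgi61) (kgi xgi15 ygi2 zgi49) (kgi xgi26 ygi1 zgi60) (kgi xgi31 ygi41 zgi29) (kgi xgi26 ygi3 zgi15) (kgi xgi31 ygi41 zgi32) (kgi xgi15 ygi2 zgi44) (kgi xgi26 ygi3 zgi17) (kgi xgi26 ygi50 zgi38) (kgi xgi29 ygi13 zgi13) (kgi xgi15 ygi2 zgi45) (kgi xgi31 ygi41 zgi34)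 (kgi xgi31 ygi41 zgi40) (kgi xgi28 ygi51 zgi26) (kgi xgi25 ygi11 zgi12) (kgi xgi31 ygi41 zgi45) (kgi xgi25 ygi11 zgi9) (kgi xgi15 ygi2 zgi47) (kgi xgi21 ygi43 zgi9) (kgi xgi25 ygi11 zgi16) (kgi xgi26 ygi42 zgi40) (kgi xgi31 ygi39 zgi53) (kgi xgi21 ygi28 zgi20) (kgi xgi26 ygi53 zgi35) (kgi xgi26 ygi5 zgi39) (kgi xgi24 ygi48 zgi50) (kgi xgi15 ygi2 zgi58) (kgi xgi20 ygi53 zgi31) (kgi xgi31 ygi41 zgi48) (kgi xgi30 ygi18 zgi53) (kgi xgi24 ygi34 zgi4) (kgi xgi26 ygi1 zgi59) (kgi xgi24 ygi52 zgi51)) (@D3.rec (fun _ => Pt) (kgi xgi15 ygi3 zgi0) (kgi xgi25 ygi9 zgi26) (kgi xgi24 ygi17 zgi27) (kgi xgi25 ygi9 zgi24) (kgi xgi19 ygi55 zgi27) (kgi xgi15 ygi42 zgi43) (kgi xgi26 ygi37 zgi41) (kgi xgi31 ygi41 zgi52) (kgi xgi25 ygi21 zgi60) (kgi xgi15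 ygi3 zgi6) (kgi xgi21 ygi36 zgi55) (kgi xgi25 ygi10 zgi60) (kgi xgi19 ygi32 zgi48) (kgi xgi19 ygi59 zgi35) (kgi xgi25 ygi21 zgi36) (kgi xgi19 ygi40 zgi26) (kgi xgi25 ygi11 zgi15) (kgi xgi25 ygi19 zgi35) (kgi xgi27 ygi46 zgi35) (kgi xgi19 ygi20 zgi20) (kgi xgi25 ygi21 zgi20) (kgi xgi15 ygi3 zgi14) (kgi xgi24 ygi43 zgi57) (kgi xgi24 ygi43 zgi3) (kgi xgi23 ygi21 zgi9) (kgi xgi24 ygi0 zgi9) (kgi xgi17 ygi38 zgi22) (kgi xgi19 ygi54 zgi8) (kgi xgi31 ygi41 zgi58) (kgi xgi19 ygi53 zgi59) (kgi xgi17 ygi52 zgi34) (kgi xgi16 ygi41 zgi34) (kgi xgi16 ygi4 zgi41) (kgi xgi19 ygi54 zgi1) (kgi xgi18 ygi13 zgi29) (kgi xgi21 ygi38 zgi2) (kgi xgi26 ygi50 zgi10) (kgi xgi26 ygi40 zgi4) (kgi xgi16 ygi39 zgi32) (kgi xgi26 ygi35 zgi20) (kgi xgi26 ygi34 zgi59)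 (kgi xgi15 ygi3 zgi30) (kgi xgi15 ygi3 zgi38) (kgi xgi19 ygi33 zgi0) (kgi xgi22 ygi7 zgi51) (kgi xgi29 ygi7 zgi21) (kgi xgi29 ygi7 zgi25) (kgi xgi24 ygi49 zgi35) (kgi xgi28 ygi31 zgi20) (kgi xgi28 ygi59 zgi61) (kgi xgi15 ygi3 zgi39) (kgi xgi20 ygi42 zgi4) (kgi xgi17 ygi55 zgi3) (kgi xgi15 ygi3 zgi44) (kgi xgi21 ygi8 zgi23) (kgi xgi26 ygi32 zgi19) (kgi xgi24 ygi32 zgi45) (kgi xgi15 ygi3 zgi50) (kgi xgi15 ygi4 zgi31) (kgi xgi26 ygi20 zgi18) (kgi xgi20 ygi21 zgi48) (kgi xgi26 ygi53 zgi16)) (@D3.rec (fun _ => Pt) (kgi xgi19 ygi51 zgi42) (kgi xgi19 ygi51 zgi22) (kgi xgi15 ygi3 zgi56) (kgi xgi16 ygi31 zgi54) (kgi xgi16 ygi52 zgi40) (kgi xgi16 ygi51 zgi43) (kgi xgi30 ygi45 zgi60) (kgi xgi15 ygi4 zgi23) (kgi xgi16 ygi51 zgi19) (kgi xgi20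 ygi7 zgi44) (kgi xgi24 ygi53 zgi32) (kgi xgi15 ygi4 zgi24) (kgi xgi15 ygi4 zgi18) (kgi xgi20 ygi1 zgi27) (kgi xgi21 ygi57 zgi23) (kgi xgi22 ygi23 zgi35) (kgi xgi16 ygi56 zgi54) (kgi xgi20 ygi1 zgi30) (kgi xgi20 ygi0 zgi58) (kgi xgi15 ygi4 zgi34) (kgi xgi16 ygi27 zgi53) (kgi xgi21 ygi10 zgi22) (kgi xgi15 ygi8 zgi11) (kgi xgi23 ygi25 zgi49) (kgi xgi20 ygi35 zgi25) (kgi xgi16 ygi55 zgi60) (kgi xgi16 ygi53 zgi16) (kgi xgi22 ygi49 zgi21) (kgi xgi15 ygi4 zgi57) (kgi xgi20 ygi28 zgi26) (kgi xgi29 ygi7 zgi57) (kgi xgi20 ygi29 zgi6) (kgi xgi24 ygi53 zgi9) (kgi xgi20 ygi25 zgi6) (kgi xgi29 ygi8 zgi13) (kgi xgi17 ygi45 zgi5) (kgi xgi20 ygi3 zgi8) (kgi xgi20 ygi13 zgi55) (kgi xgi17 ygi8 zgi15) (kgi xgi17 ygi21 zgi54) (kgi xgi17 ygi19 zgi13) (kgi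 xgi15 ygi5 zgi36) (kgi xgi17 ygi21 zgi50) (kgi xgi17 ygi6 zgi8) (kgi xgi18 ygi1 zgi20) (kgi xgi28 ygi7 zgi43) (kgi xgi15 ygi5 zgi46) (kgi xgi24 ygi55 zgi4) (kgi xgi24 ygi55 zgi10) (kgi xgi18 ygi29 zgi1) (kgi xgi15 ygi5 zgi47) (kgi xgi30 ygi3 zgi11) (kgi xgi31 ygi42 zgi14) (kgi xgi29 ygi54 zgi30) (kgi xgi25 ygi54 zgi45) (kgi xgi28 ygi18 zgi43) (kgi xgi27 ygi33 zgi19) (kgi xgi26 ygi18 zgi59) (kgi xgi15 ygi5 zgi52) (kgi xgi26 ygi18 zgi61) (kgi xgi23 ygi51 zgi47) (kgi xgi31 ygi42 zgi20)) (@D3.rec (fun _ => Pt) (kgi xgi16 ygi22 zgi58) (kgi xgi27 ygi30 zgi45) (kgi xgi31 ygi42 zgi19) (kgi xgi23 ygi51 zgi21) (kgi xgi16 ygi33 zgi7) (kgi xgi19 ygi2 zgi26) (kgi xgi22 ygi50 zgi54) (kgi xgi15 ygi6 zgi2) (kgi xgi26 ygi31 zgi60) (kgi xgi26 ygi17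 zgi51) (kgi xgi31 ygi38 zgi45) (kgi xgi26 ygi23 zgi12) (kgi xgi26 ygi25 zgi27) (kgi xgi26 ygi23 zgi58) (kgi xgi21 ygi12 zgi30) (kgi xgi28 ygi12 zgi29) (kgi xgi27 ygi39 zgi13) (kgi xgi29 ygi7 zgi6) (kgi xgi15 ygi6 zgi14) (kgi xgi30 ygi3 zgi6) (kgi xgi24 ygi17 zgi40) (kgi xgi20 ygi13 zgi31) (kgi xgi15 ygi6 zgi17) (kgi xgi15 ygi6 zgi20) (kgi xgi31 ygi42 zgi31) (kgi xgi21 ygi41 zgi48) (kgi xgi31 ygi42 zgi30) (kgi xgi15 ygi14 zgi7) (kgi xgi15 ygi6 zgi21) (kgi xgi24 ygi54 zgi11) (kgi xgi20 ygi4 zgi45) (kgi xgi15 ygi6 zgi23) (kgi xgi29 ygi20 zgi60) (kgi xgi24 ygi56 zgi53) (kgi xgi26 ygi18 zgi44) (kgi xgi16 ygi15 zgi51) (kgi xgi24 ygi57 zgi33) (kgi xgi24 ygi45 zgi59) (kgi xgi24 ygi57 zgi23) (kgi xgi22 ygi37 zgi28) (kgi xgi16 ygi20 zgi15)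 (kgi xgi28 ygi3 zgi22) (kgi xgi16 ygi8 zgi36) (kgi xgi27 ygi57 zgi34) (kgi xgi15 ygi6 zgi40) (kgi xgi25 ygi23 zgi23) (kgi xgi25 ygi47 zgi27) (kgi xgi17 ygi53 zgi7) (kgi xgi17 ygi43 zgi59) (kgi xgi25 ygi15 zgi46) (kgi xgi16 ygi17 zgi25) (kgi xgi26 ygi10 zgi51) (kgi xgi25 ygi43 zgi2) (kgi xgi18 ygi6 zgi61) (kgi xgi15 ygi6 zgi50) (kgi xgi31 ygi42 zgi39) (kgi xgi16 ygi14 zgi58) (kgi xgi17 ygi43 zgi23) (kgi xgi15 ygi6 zgi53) (kgi xgi26 ygi13 zgi53) (kgi xgi23 ygi37 zgi61) (kgi xgi31 ygi42 zgi44)) (@D3.rec (fun _ => Pt) (kgi xgi25 ygi45 zgi23) (kgi xgi31 ygi7 zgi23) (kgi xgi31 ygi42 zgi38) (kgi xgi27 ygi52 zgi26) (kgi xgi24 ygi53 zgi46) (kgi xgi31 ygi14 zgi26) (kgi xgi28 ygi46 zgi51) (kgi xgi26 ygi12 zgi41) (kgi xgi31 ygi42 zgi49) (kgi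 xgi24 ygi46 zgi44) (kgi xgi15 ygi6 zgi60) (kgi xgi24 ygi53 zgi48) (kgi xgi27 ygi52 zgi33) (kgi xgi31 ygi42 zgi53) (kgi xgi15 ygi6 zgi61) (kgi xgi27 ygi29 zgi3) (kgi xgi31 ygi42 zgi48) (kgi xgi27 ygi28 zgi3) (kgi xgi30 ygi45 zgi40) (kgi xgi31 ygi42 zgi57) (kgi xgi18 ygi7 zgi27) (kgi xgi15 ygi7 zgi23) (kgi xgi26 ygi13 zgi10) (kgi xgi28 ygi43 zgi61) (kgi xgi15 ygi23 zgi32) (kgi xgi15 ygi7 zgi8) (kgi xgi15 ygi7 zgi12) (kgi xgi30 ygi23 zgi31) (kgi xgi27 ygi28 zgi57) (kgi xgi19 ygi2 zgi0) (kgi xgi15 ygi7 zgi9) (kgi xgi16 ygi20 zgi49) (kgi xgi16 ygi23 zgi36) (kgi xgi23 ygi7 zgi27) (kgi xgi27 ygi40 zgi20) (kgi xgi29 ygi55 zgi33) (kgi xgi26 ygi13 zgi17) (kgi xgi16 ygi20 zgi30) (kgi xgi15 ygi7 zgi28) (kgi xgi24 ygi45 zgi35) (kgi xgi27 ygi28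 zgi34) (kgi xgi19 ygi2 zgi15) (kgi xgi15 ygi7 zgi17) (kgi xgi15 ygi7 zgi31) (kgi xgi15 ygi7 zgi29) (kgi xgi30 ygi58 zgi29) (kgi xgi15 ygi7 zgi19) (kgi xgi15 ygi7 zgi21) (kgi xgi22 ygi15 zgi17) (kgi xgi31 ygi43 zgi6) (kgi xgi24 ygi18 zgi30) (kgi xgi15 ygi7 zgi20) (kgi xgi30 ygi55 zgi32) (kgi xgi16 ygi19 zgi41) (kgi xgi31 ygi43 zgi5) (kgi xgi30 ygi19 zgi42) (kgi xgi27 ygi40 zgi12) (kgi xgi27 ygi57 zgi32) (kgi xgi27 ygi40 zgi13) (kgi xgi27 ygi29 zgi8) (kgi xgi26 ygi18 zgi39) (kgi xgi27 ygi47 zgi14)) (@D3.rec (fun _ => Pt) (kgi xgi24 ygi45 zgi29) (kgi xgi31 ygi43 zgi10) (kgi xgi15 ygi14 zgi20) (kgi xgi15 ygi7 zgi25) (kgi xgi17 ygi44 zgi30) (kgi xgi17 ygi40 zgi57) (kgi xgi30 ygi31 zgi56) (kgi xgi24 ygi56 zgi8) (kgi xgi17 ygi41 zgi4) (kgi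 xgi27 ygi27 zgi52) (kgi xgi26 ygi19 zgi42) (kgi xgi15 ygi7 zgi27) (kgi xgi15 ygi14 zgi22) (kgi xgi24 ygi45 zgi31) (kgi xgi26 ygi21 zgi8) (kgi xgi20 ygi45 zgi50) (kgi xgi17 ygi44 zgi35) (kgi xgi15 ygi7 zgi32) (kgi xgi20 ygi8 zgi20) (kgi xgi26 ygi27 zgi46) (kgi xgi18 ygi30 zgi13) (kgi xgi17 ygi44 zgi33) (kgi xgi26 ygi13 zgi29) (kgi xgi26 ygi13 zgi15) (kgi xgi17 ygi44 zgi23) (kgi xgi27 ygi45 zgi40) (kgi xgi15 ygi12 zgi20) (kgi xgi27 ygi45 zgi46) (kgi xgi27 ygi40 zgi21) (kgi xgi27 ygi45 zgi35) (kgi xgi26 ygi30 zgi23) (kgi xgi24 ygi47 zgi50) (kgi xgi18 ygi6 zgi23) (kgi xgi20 ygi10 zgi42) (kgi xgi15 ygi7 zgi44) (kgi xgi21 ygi12 zgi14) (kgi xgi16 ygi20 zgi22) (kgi xgi29 ygi53 zgi23) (kgi xgi31 ygi38 zgi39) (kgi xgi20 ygi10 zgi49) (kgi xgi26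 ygi18 zgi54) (kgi xgi16 ygi20 zgi29) (kgi xgi15 ygi7 zgi48) (kgi xgi21 ygi11 zgi60) (kgi xgi17 ygi15 zgi30) (kgi xgi20 ygi29 zgi24) (kgi xgi19 ygi52 zgi59) (kgi xgi15 ygi7 zgi55) (kgi xgi23 ygi46 zgi23) (kgi xgi15 ygi7 zgi58) (kgi xgi25 ygi2 zgi29) (kgi xgi21 ygi14 zgi57) (kgi xgi31 ygi43 zgi19) (kgi xgi29 ygi38 zgi51) (kgi xgi19 ygi47 zgi1) (kgi xgi24 ygi54 zgi33) (kgi xgi23 ygi4 zgi46) (kgi xgi15 ygi8 zgi9) (kgi xgi20 ygi30 zgi4) (kgi xgi16 ygi24 zgi45) (kgi xgi23 ygi6 zgi52) (kgi xgi15 ygi8 zgi12)) (@D3.rec (fun _ => Pt) (kgi xgi15 ygi8 zgi16) (kgi xgi26 ygi29 zgi52) (kgi xgi31 ygi43 zgi21) (kgi xgi23 ygi32 zgi40) (kgi xgi16 ygi25 zgi4) (kgi xgi25 ygi2 zgi47) (kgi xgi27 ygi41 zgi57) (kgi xgi27 ygi41 zgi58) (kgi xgi29 ygi9 zgi12)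 (kgi xgi31 ygi43 zgi17) (kgi xgi22 ygi17 zgi29) (kgi xgi30 ygi54 zgi25) (kgi xgi15 ygi8 zgi23) (kgi xgi16 ygi27 zgi4) (kgi xgi31 ygi43 zgi25) (kgi xgi30 ygi52 zgi7) (kgi xgi20 ygi35 zgi57) (kgi xgi22 ygi55 zgi45) (kgi xgi18 ygi34 zgi35) (kgi xgi26 ygi13 zgi42) (kgi xgi16 ygi32 zgi26) (kgi xgi16 ygi24 zgi40) (kgi xgi25 ygi52 zgi10) (kgi xgi15 ygi8 zgi30) (kgi xgi24 ygi11 zgi3) (kgi xgi31 ygi43 zgi29) (kgi xgi18 ygi38 zgi51) (kgi xgi25 ygi52 zgi8) (kgi xgi16 ygi24 zgi52) (kgi xgi21 ygi29 zgi56) (kgi xgi26 ygi17 zgi17) (kgi xgi30 ygi20 zgi26) (kgi xgi24 ygi54 zgi37) (kgi xgi16 ygi20 zgi52) (kgi xgi20 ygi34 zgi34) (kgi xgi24 ygi54 zgi31) (kgi xgi16 ygi24 zgi3) (kgi xgi31 ygi43 zgi34) (kgi xgi16 ygi20 zgi39) (kgi xgi19 ygi48 zgi11) (kgi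 xgi16 ygi35 zgi38) (kgi xgi26 ygi13 zgi34) (kgi xgi28 ygi12 zgi9) (kgi xgi16 ygi28 zgi36) (kgi xgi22 ygi31 zgi57) (kgi xgi15 ygi8 zgi50) (kgi xgi21 ygi12 zgi1) (kgi xgi21 ygi11 zgi61) (kgi xgi15 ygi8 zgi52) (kgi xgi21 ygi12 zgi6) (kgi xgi21 ygi12 zgi4) (kgi xgi15 ygi8 zgi53) (kgi xgi29 ygi53 zgi60) (kgi xgi15 ygi8 zgi61) (kgi xgi15 ygi16 zgi27) (kgi xgi15 ygi9 zgi4) (kgi xgi15 ygi9 zgi6) (kgi xgi29 ygi32 zgi40) (kgi xgi22 ygi5 zgi50) (kgi xgi19 ygi57 zgi20) (kgi xgi25 ygi48 zgi51) (kgi xgi15 ygi9 zgi8)) (@D3.rec (fun _ => Pt) (kgi xgi25 ygi48 zgi42) (kgi xgi22 ygi5 zgi54) (kgi xgi31 ygi43 zgi41) (kgi xgi27 ygi41 zgi34) (kgi xgi27 ygi24 zgi36) (kgi xgi15 ygi9 zgi7) (kgi xgi21 ygi47 zgi0) (kgi xgi21 ygi47 zgi1) (kgi xgi19 ygi6 zgi29)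 (kgi xgi26 ygi45 zgi46) (kgi xgi15 ygi9 zgi13) (kgi xgi26 ygi44 zgi35) (kgi xgi28 ygi56 zgi53) (kgi xgi29 ygi3 zgi55) (kgi xgi15 ygi19 zgi38) (kgi xgi25 ygi49 zgi55) (kgi xgi15 ygi19 zgi35) (kgi xgi24 ygi56 zgi20) (kgi xgi16 ygi36 zgi51) (kgi xgi15 ygi50 zgi2) (kgi xgi25 ygi12 zgi10) (kgi xgi27 ygi14 zgi36) (kgi xgi15 ygi9 zgi24) (kgi xgi26 ygi44 zgi36) (kgi xgi25 ygi35 zgi49) (kgi xgi31 ygi43 zgi52) (kgi xgi15 ygi50 zgi4) (kgi xgi15 ygi16 zgi18) (kgi xgi15 ygi54 zgi42) (kgi xgi28 ygi57 zgi20) (kgi xgi15 ygi20 zgi18) (kgi xgi19 ygi49 zgi40) (kgi xgi28 ygi41 zgi55) (kgi xgi15 ygi9 zgi31) (kgi xgi27 ygi35 zgi47) (kgi xgi27 ygi38 zgi29) (kgi xgi15 ygi9 zgi32) (kgi xgi15 ygi19 zgi41) (kgi xgi15 ygi9 zgi33) (kgi xgi24 ygi51 zgi14) (kgi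 xgi19 ygi49 zgi20) (kgi xgi31 ygi35 zgi39) (kgi xgi18 ygi12 zgi35) (kgi xgi25 ygi12 zgi59) (kgi xgi25 ygi12 zgi57) (kgi xgi15 ygi22 zgi42) (kgi xgi25 ygi6 zgi16) (kgi xgi18 ygi26 zgi45) (kgi xgi27 ygi49 zgi39) (kgi xgi26 ygi21 zgi41) (kgi xgi15 ygi9 zgi46) (kgi xgi18 ygi6 zgi38) (kgi xgi28 ygi12 zgi7) (kgi xgi31 ygi43 zgi59) (kgi xgi18 ygi8 zgi51) (kgi xgi15 ygi9 zgi52) (kgi xgi22 ygi28 zgi20) (kgi xgi18 ygi42 zgi44) (kgi xgi29 ygi27 zgi10) (kgi xgi18 ygi27 zgi25) (kgi xgi28 ygi12 zgi31) (kgi xgi27 ygi50 zgi49)) (@D3.rec (fun _ => Pt) (kgi xgi23 ygi43 zgi22) (kgi xgi30 ygi24 zgi61) (kgi xgi26 ygi14 zgi2) (kgi xgi27 ygi29 zgi1) (kgi xgi15 ygi9 zgi59) (kgi xgi17 ygi40 zgi46) (kgi xgi30 ygi24 zgi55) (kgi xgi15 ygi9 zgi60) (kgi xgi27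 ygi26 zgi53) (kgi xgi25 ygi16 zgi5) (kgi xgi15 ygi10 zgi3) (kgi xgi28 ygi0 zgi52) (kgi xgi25 ygi18 zgi22) (kgi xgi15 ygi23 zgi45) (kgi xgi15 ygi11 zgi8) (kgi xgi16 ygi32 zgi30) (kgi xgi20 ygi32 zgi31) (kgi xgi16 ygi29 zgi42) (kgi xgi18 ygi27 zgi8) (kgi xgi15 ygi23 zgi56) (kgi xgi23 ygi20 zgi2) (kgi xgi16 ygi22 zgi3) (kgi xgi21 ygi28 zgi38) (kgi xgi29 ygi30 zgi3) (kgi xgi28 ygi13 zgi36) (kgi xgi15 ygi11 zgi31) (kgi xgi22 ygi54 zgi29) (kgi xgi25 ygi46 zgi18) (kgi xgi18 ygi28 zgi21) (kgi xgi15 ygi10 zgi14) (kgi xgi20 ygi29 zgi36) (kgi xgi28 ygi23 zgi22) (kgi xgi20 ygi29 zgi34) (kgi xgi24 ygi8 zgi43) (kgi xgi18 ygi21 zgi16) (kgi xgi26 ygi26 zgi28) (kgi xgi24 ygi55 zgi57) (kgi xgi21 ygi2 zgi48) (kgi xgi29 ygi54 zgi19) (kgi xgi20 ygi30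 zgi48) (kgi xgi25 ygi16 zgi6) (kgi xgi23 ygi17 zgi51) (kgi xgi31 ygi44 zgi11) (kgi xgi29 ygi29 zgi18) (kgi xgi30 ygi57 zgi37) (kgi xgi29 ygi29 zgi19) (kgi xgi23 ygi7 zgi42) (kgi xgi23 ygi18 zgi4) (kgi xgi25 ygi2 zgi28) (kgi xgi15 ygi10 zgi30) (kgi xgi25 ygi2 zgi10) (kgi xgi25 ygi2 zgi7) (kgi xgi15 ygi10 zgi33) (kgi xgi23 ygi42 zgi55) (kgi xgi16 ygi10 zgi40) (kgi xgi21 ygi53 zgi46) (kgi xgi16 ygi10 zgi61) (kgi xgi18 ygi23 zgi8) (kgi xgi30 ygi57 zgi56) (kgi xgi17 ygi2 zgi59) (kgi xgi22 ygi56 zgi6) (kgi xgi21 ygi11 zgi56))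
def fi_g_25 : D2 → D3 → Pt := @D2.rec (fun _ => D3 → Pt) (@D3.rec (fun _ => Pt) (kgi xgi31 ygi12 zgi18) (kgi xgi23 ygi37 zgi38) (kgi xgi30 ygi2 zgi55) (kgi xgi31 ygi44 zgi15) (kgi xgi25 ygi0 zgi55) (kgi xgi27 ygi3 zgi35) (kgi xgi25 ygi1 zgi0) (kgi xgi25 ygi3 zgi0) (kgi xgi30 ygi58 zgi56) (kgi xgi28 ygi3 zgi57) (kgi xgi26 ygi18 zgi48) (kgi xgi15 ygi11 zgi0) (kgi xgi26 ygi20 zgi6) (kgi xgi27 ygi33 zgi45) (kgi xgi15 ygi11 zgi5) (kgi xgi18 ygi26 zgi30) (kgi xgi30 ygi23 zgi21) (kgi xgi25 ygi4 zgi3) (kgi xgi27 ygi46 zgi2) (kgi xgi18 ygi27 zgi3) (kgi xgi15 ygi11 zgi16) (kgi xgi18 ygi27 zgi2) (kgi xgi30 ygi59 zgi17) (kgi xgi30 ygi0 zgi56) (kgi xgi26 ygi11 zgi46) (kgi xgi31 ygi44 zgi24) (kgi xgi18 ygi27 zgi30) (kgi xgi15 ygi11 zgi19) (kgi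 xgi17 ygi36 zgi47) (kgi xgi17 ygi39 zgi55) (kgi xgi27 ygi46 zgi17) (kgi xgi16 ygi22 zgi11) (kgi xgi15 ygi13 zgi58) (kgi xgi18 ygi28 zgi39) (kgi xgi18 ygi29 zgi57) (kgi xgi27 ygi47 zgi43) (kgi xgi15 ygi12 zgi6) (kgi xgi18 ygi28 zgi18) (kgi xgi24 ygi46 zgi55) (kgi xgi27 ygi46 zgi9) (kgi xgi27 ygi45 zgi47) (kgi xgi27 ygi46 zgi11) (kgi xgi18 ygi28 zgi28) (kgi xgi31 ygi44 zgi31) (kgi xgi18 ygi4 zgi54) (kgi xgi27 ygi46 zgi6) (kgi xgi19 ygi5 zgi13) (kgi xgi15 ygi14 zgi14) (kgi xgi24 ygi46 zgi42) (kgi xgi18 ygi28 zgi7) (kgi xgi15 ygi12 zgi21) (kgi xgi18 ygi29 zgi2) (kgi xgi27 ygi53 zgi38) (kgi xgi18 ygi4 zgi39) (kgi xgi18 ygi29 zgi32) (kgi xgi18 ygi58 zgi28) (kgi xgi15 ygi12 zgi23) (kgi xgi25 ygi0 zgi4) (kgi xgi27 ygi25 zgi15) (kgi xgi18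 ygi29 zgi3) (kgi xgi17 ygi44 zgi29) (kgi xgi28 ygi8 zgi19)) (@D3.rec (fun _ => Pt) (kgi xgi23 ygi18 zgi1) (kgi xgi15 ygi12 zgi7) (kgi xgi27 ygi47 zgi25) (kgi xgi27 ygi47 zgi12) (kgi xgi26 ygi13 zgi25) (kgi xgi27 ygi26 zgi27) (kgi xgi25 ygi3 zgi58) (kgi xgi15 ygi12 zgi9) (kgi xgi18 ygi28 zgi29) (kgi xgi18 ygi28 zgi51) (kgi xgi18 ygi59 zgi32) (kgi xgi21 ygi37 zgi8) (kgi xgi25 ygi58 zgi43) (kgi xgi27 ygi28 zgi2) (kgi xgi16 ygi15 zgi7) (kgi xgi27 ygi27 zgi58) (kgi xgi24 ygi45 zgi11) (kgi xgi18 ygi29 zgi5) (kgi xgi30 ygi31 zgi51) (kgi xgi31 ygi6 zgi39) (kgi xgi18 ygi28 zgi54) (kgi xgi27 ygi26 zgi20) (kgi xgi15 ygi12 zgi24) (kgi xgi18 ygi30 zgi4) (kgi xgi31 ygi44 zgi37) (kgi xgi17 ygi41 zgi13) (kgi xgi27 ygi30 zgi44) (kgi xgi27 ygi49 zgi4)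 (kgi xgi16 ygi13 zgi25) (kgi xgi27 ygi58 zgi58) (kgi xgi27 ygi50 zgi29) (kgi xgi27 ygi50 zgi28) (kgi xgi27 ygi47 zgi36) (kgi xgi22 ygi15 zgi43) (kgi xgi27 ygi48 zgi4) (kgi xgi21 ygi37 zgi15) (kgi xgi24 ygi58 zgi50) (kgi xgi27 ygi5 zgi27) (kgi xgi30 ygi37 zgi37) (kgi xgi28 ygi7 zgi20) (kgi xgi25 ygi49 zgi58) (kgi xgi28 ygi5 zgi23) (kgi xgi31 ygi44 zgi42) (kgi xgi31 ygi32 zgi55) (kgi xgi15 ygi12 zgi45) (kgi xgi31 ygi44 zgi45) (kgi xgi27 ygi25 zgi14) (kgi xgi28 ygi4 zgi30) (kgi xgi15 ygi37 zgi44) (kgi xgi15 ygi12 zgi51) (kgi xgi23 ygi14 zgi56) (kgi xgi27 ygi44 zgi58) (kgi xgi15 ygi50 zgi17) (kgi xgi16 ygi33 zgi48) (kgi xgi22 ygi42 zgi16) (kgi xgi26 ygi29 zgi12) (kgi xgi15 ygi50 zgi34) (kgi xgi27 ygi48 zgi51) (kgi xgi15 ygi50 zgi10) (kgi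 xgi31 ygi44 zgi50) (kgi xgi18 ygi18 zgi59) (kgi xgi15 ygi13 zgi4)) (@D3.rec (fun _ => Pt) (kgi xgi28 ygi10 zgi48) (kgi xgi21 ygi13 zgi1) (kgi xgi31 ygi43 zgi8) (kgi xgi28 ygi18 zgi52) (kgi xgi15 ygi13 zgi25) (kgi xgi26 ygi24 zgi8) (kgi xgi29 ygi14 zgi49) (kgi xgi15 ygi13 zgi10) (kgi xgi24 ygi59 zgi51) (kgi xgi31 ygi44 zgi5) (kgi xgi24 ygi59 zgi49) (kgi xgi26 ygi24 zgi41) (kgi xgi23 ygi14 zgi55) (kgi xgi31 ygi2 zgi36) (kgi xgi28 ygi28 zgi37) (kgi xgi16 ygi21 zgi24) (kgi xgi28 ygi11 zgi47) (kgi xgi21 ygi28 zgi13) (kgi xgi23 ygi33 zgi47) (kgi xgi23 ygi25 zgi48) (kgi xgi15 ygi13 zgi19) (kgi xgi24 ygi59 zgi36) (kgi xgi24 ygi59 zgi48) (kgi xgi30 ygi55 zgi13) (kgi xgi22 ygi58 zgi28) (kgi xgi24 ygi42 zgi53) (kgi xgi28 ygi11 zgi37) (kgi xgi31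 ygi44 zgi55) (kgi xgi27 ygi57 zgi25) (kgi xgi24 ygi56 zgi49) (kgi xgi22 ygi5 zgi26) (kgi xgi24 ygi43 zgi60) (kgi xgi15 ygi13 zgi38) (kgi xgi15 ygi13 zgi30) (kgi xgi15 ygi13 zgi32) (kgi xgi18 ygi18 zgi20) (kgi xgi25 ygi14 zgi57) (kgi xgi20 ygi4 zgi46) (kgi xgi28 ygi1 zgi29) (kgi xgi15 ygi13 zgi35) (kgi xgi24 ygi43 zgi22) (kgi xgi24 ygi33 zgi9) (kgi xgi23 ygi33 zgi0) (kgi xgi21 ygi15 zgi42) (kgi xgi23 ygi32 zgi11) (kgi xgi26 ygi7 zgi39) (kgi xgi15 ygi13 zgi41) (kgi xgi23 ygi33 zgi43) (kgi xgi26 ygi18 zgi38) (kgi xgi15 ygi13 zgi43) (kgi xgi23 ygi19 zgi50) (kgi xgi23 ygi15 zgi36) (kgi xgi23 ygi18 zgi17) (kgi xgi23 ygi17 zgi56) (kgi xgi28 ygi10 zgi4) (kgi xgi31 ygi11 zgi43) (kgi xgi30 ygi59 zgi14) (kgi xgi28 ygi10 zgi5) (kgi xgi26 ygi15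 zgi39) (kgi xgi15 ygi14 zgi18) (kgi xgi18 ygi28 zgi57) (kgi xgi18 ygi36 zgi54)) (@D3.rec (fun _ => Pt) (kgi xgi15 ygi13 zgi60) (kgi xgi16 ygi24 zgi20) (kgi xgi31 ygi45 zgi4) (kgi xgi23 ygi18 zgi28) (kgi xgi31 ygi44 zgi21) (kgi xgi31 ygi0 zgi52) (kgi xgi31 ygi1 zgi7) (kgi xgi20 ygi0 zgi47) (kgi xgi28 ygi32 zgi2) (kgi xgi16 ygi20 zgi28) (kgi xgi18 ygi20 zgi3) (kgi xgi28 ygi28 zgi11) (kgi xgi23 ygi18 zgi2) (kgi xgi21 ygi12 zgi38) (kgi xgi17 ygi52 zgi49) (kgi xgi30 ygi1 zgi8) (kgi xgi27 ygi45 zgi38) (kgi xgi27 ygi29 zgi57) (kgi xgi24 ygi28 zgi15) (kgi xgi21 ygi37 zgi61) (kgi xgi15 ygi14 zgi16) (kgi xgi18 ygi28 zgi22) (kgi xgi18 ygi28 zgi48) (kgi xgi18 ygi28 zgi53) (kgi xgi26 ygi13 zgi38) (kgi xgi27 ygi40 zgi14) (kgi xgi16 ygi19 zgi11)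 (kgi xgi30 ygi25 zgi6) (kgi xgi31 ygi44 zgi2) (kgi xgi23 ygi17 zgi59) (kgi xgi30 ygi4 zgi20) (kgi xgi28 ygi31 zgi60) (kgi xgi15 ygi14 zgi26) (kgi xgi18 ygi28 zgi61) (kgi xgi27 ygi54 zgi25) (kgi xgi18 ygi27 zgi16) (kgi xgi26 ygi12 zgi53) (kgi xgi15 ygi14 zgi30) (kgi xgi18 ygi4 zgi26) (kgi xgi24 ygi54 zgi60) (kgi xgi25 ygi37 zgi55) (kgi xgi27 ygi32 zgi49) (kgi xgi18 ygi6 zgi11) (kgi xgi18 ygi5 zgi56) (kgi xgi31 ygi45 zgi10) (kgi xgi31 ygi45 zgi12) (kgi xgi15 ygi14 zgi39) (kgi xgi19 ygi0 zgi47) (kgi xgi15 ygi19 zgi34) (kgi xgi28 ygi3 zgi5) (kgi xgi15 ygi14 zgi46) (kgi xgi15 ygi14 zgi50) (kgi xgi31 ygi45 zgi17) (kgi xgi31 ygi42 zgi21) (kgi xgi15 ygi14 zgi48) (kgi xgi31 ygi45 zgi16) (kgi xgi28 ygi9 zgi31) (kgi xgi22 ygi18 zgi56) (kgi xgi27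 ygi1 zgi21) (kgi xgi21 ygi28 zgi40) (kgi xgi28 ygi2 zgi7) (kgi xgi27 ygi28 zgi45)) (@D3.rec (fun _ => Pt) (kgi xgi28 ygi2 zgi12) (kgi xgi16 ygi16 zgi57) (kgi xgi25 ygi0 zgi17) (kgi xgi18 ygi5 zgi14) (kgi xgi15 ygi15 zgi1) (kgi xgi19 ygi35 zgi4) (kgi xgi31 ygi45 zgi21) (kgi xgi15 ygi46 zgi17) (kgi xgi28 ygi37 zgi61) (kgi xgi19 ygi36 zgi41) (kgi xgi19 ygi36 zgi54) (kgi xgi27 ygi11 zgi37) (kgi xgi19 ygi28 zgi36) (kgi xgi15 ygi15 zgi8) (kgi xgi31 ygi45 zgi25) (kgi xgi19 ygi28 zgi2) (kgi xgi19 ygi35 zgi0) (kgi xgi19 ygi44 zgi55) (kgi xgi25 ygi5 zgi18) (kgi xgi19 ygi44 zgi26) (kgi xgi22 ygi57 zgi33) (kgi xgi24 ygi37 zgi37) (kgi xgi25 ygi46 zgi10) (kgi xgi25 ygi36 zgi35) (kgi xgi17 ygi52 zgi46) (kgi xgi16 ygi36 zgi58) (kgi xgi31 ygi11 zgi17)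 (kgi xgi25 ygi6 zgi6) (kgi xgi19 ygi34 zgi49) (kgi xgi28 ygi54 zgi2) (kgi xgi27 ygi6 zgi9) (kgi xgi31 ygi22 zgi13) (kgi xgi25 ygi36 zgi52) (kgi xgi27 ygi44 zgi35) (kgi xgi31 ygi39 zgi47) (kgi xgi15 ygi15 zgi53) (kgi xgi19 ygi34 zgi56) (kgi xgi19 ygi34 zgi45) (kgi xgi28 ygi19 zgi38) (kgi xgi25 ygi29 zgi2) (kgi xgi31 ygi39 zgi54) (kgi xgi15 ygi15 zgi28) (kgi xgi28 ygi19 zgi19) (kgi xgi28 ygi46 zgi56) (kgi xgi28 ygi54 zgi5) (kgi xgi15 ygi15 zgi29) (kgi xgi31 ygi9 zgi53) (kgi xgi25 ygi47 zgi53) (kgi xgi31 ygi39 zgi51) (kgi xgi15 ygi15 zgi30) (kgi xgi27 ygi43 zgi58) (kgi xgi27 ygi43 zgi55) (kgi xgi22 ygi52 zgi35) (kgi xgi15 ygi19 zgi13) (kgi xgi19 ygi31 zgi30) (kgi xgi15 ygi15 zgi55) (kgi xgi15 ygi15 zgi40) (kgi xgi25 ygi55 zgi53) (kgi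 xgi19 ygi19 zgi42) (kgi xgi31 ygi38 zgi40) (kgi xgi15 ygi15 zgi36) (kgi xgi28 ygi19 zgi24)) (@D3.rec (fun _ => Pt) (kgi xgi21 ygi27 zgi24) (kgi xgi28 ygi19 zgi23) (kgi xgi15 ygi15 zgi37) (kgi xgi19 ygi46 zgi15) (kgi xgi26 ygi1 zgi6) (kgi xgi25 ygi24 zgi54) (kgi xgi19 ygi40 zgi55) (kgi xgi31 ygi45 zgi29) (kgi xgi15 ygi54 zgi31) (kgi xgi16 ygi8 zgi13) (kgi xgi31 ygi43 zgi47) (kgi xgi28 ygi12 zgi54) (kgi xgi20 ygi29 zgi31) (kgi xgi15 ygi15 zgi43) (kgi xgi16 ygi45 zgi50) (kgi xgi19 ygi44 zgi48) (kgi xgi15 ygi15 zgi45) (kgi xgi19 ygi40 zgi52) (kgi xgi25 ygi4 zgi15) (kgi xgi28 ygi50 zgi46) (kgi xgi31 ygi36 zgi59) (kgi xgi20 ygi4 zgi22) (kgi xgi29 ygi4 zgi30) (kgi xgi19 ygi46 zgi16) (kgi xgi31 ygi3 zgi18) (kgi xgi19 ygi46 zgi17) (kgi xgi22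 ygi49 zgi32) (kgi xgi28 ygi20 zgi32) (kgi xgi30 ygi47 zgi53) (kgi xgi15 ygi15 zgi52) (kgi xgi25 ygi24 zgi45) (kgi xgi31 ygi21 zgi40) (kgi xgi24 ygi14 zgi14) (kgi xgi28 ygi59 zgi9) (kgi xgi27 ygi14 zgi60) (kgi xgi15 ygi15 zgi54) (kgi xgi25 ygi57 zgi44) (kgi xgi28 ygi19 zgi35) (kgi xgi19 ygi19 zgi45) (kgi xgi24 ygi36 zgi55) (kgi xgi15 ygi15 zgi56) (kgi xgi25 ygi33 zgi24) (kgi xgi28 ygi19 zgi41) (kgi xgi15 ygi15 zgi57) (kgi xgi15 ygi34 zgi32) (kgi xgi15 ygi34 zgi33) (kgi xgi16 ygi27 zgi29) (kgi xgi28 ygi57 zgi38) (kgi xgi25 ygi34 zgi17) (kgi xgi15 ygi37 zgi11) (kgi xgi25 ygi26 zgi14) (kgi xgi31 ygi21 zgi55) (kgi xgi21 ygi3 zgi38) (kgi xgi26 ygi42 zgi16) (kgi xgi19 ygi38 zgi42) (kgi xgi15 ygi16 zgi2) (kgi xgi15 ygi33 zgi14) (kgi xgi27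 ygi19 zgi25) (kgi xgi19 ygi44 zgi23) (kgi xgi19 ygi53 zgi39) (kgi xgi19 ygi53 zgi44) (kgi xgi15 ygi16 zgi8)) (@D3.rec (fun _ => Pt) (kgi xgi19 ygi57 zgi7) (kgi xgi19 ygi57 zgi5) (kgi xgi25 ygi48 zgi55) (kgi xgi22 ygi8 zgi21) (kgi xgi31 ygi35 zgi7) (kgi xgi28 ygi27 zgi58) (kgi xgi25 ygi4 zgi25) (kgi xgi21 ygi53 zgi50) (kgi xgi29 ygi44 zgi33) (kgi xgi31 ygi35 zgi9) (kgi xgi15 ygi16 zgi13) (kgi xgi28 ygi59 zgi24) (kgi xgi22 ygi7 zgi3) (kgi xgi31 ygi35 zgi8) (kgi xgi16 ygi29 zgi4) (kgi xgi29 ygi15 zgi39) (kgi xgi24 ygi58 zgi45) (kgi xgi25 ygi50 zgi2) (kgi xgi15 ygi20 zgi14) (kgi xgi15 ygi16 zgi21) (kgi xgi31 ygi40 zgi49) (kgi xgi27 ygi5 zgi3) (kgi xgi28 ygi53 zgi60) (kgi xgi30 ygi19 zgi47) (kgi xgi26 ygi44 zgi30) (kgi xgi15 ygi18 zgi44)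 (kgi xgi15 ygi16 zgi29) (kgi xgi31 ygi45 zgi42) (kgi xgi15 ygi36 zgi2) (kgi xgi31 ygi46 zgi6) (kgi xgi15 ygi16 zgi31) (kgi xgi25 ygi14 zgi11) (kgi xgi31 ygi46 zgi13) (kgi xgi29 ygi49 zgi13) (kgi xgi20 ygi2 zgi52) (kgi xgi24 ygi38 zgi10) (kgi xgi29 ygi44 zgi22) (kgi xgi25 ygi59 zgi58) (kgi xgi25 ygi59 zgi61) (kgi xgi27 ygi24 zgi10) (kgi xgi25 ygi13 zgi58) (kgi xgi24 ygi38 zgi21) (kgi xgi25 ygi13 zgi60) (kgi xgi20 ygi2 zgi39) (kgi xgi26 ygi13 zgi43) (kgi xgi15 ygi22 zgi16) (kgi xgi31 ygi43 zgi39) (kgi xgi19 ygi57 zgi46) (kgi xgi17 ygi39 zgi33) (kgi xgi25 ygi52 zgi29) (kgi xgi15 ygi52 zgi55) (kgi xgi30 ygi18 zgi9) (kgi xgi16 ygi5 zgi56) (kgi xgi20 ygi29 zgi17) (kgi xgi22 ygi7 zgi6) (kgi xgi20 ygi43 zgi53) (kgi xgi27 ygi44 zgi8) (kgi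 xgi15 ygi17 zgi18) (kgi xgi18 ygi28 zgi31) (kgi xgi26 ygi3 zgi43) (kgi xgi29 ygi0 zgi24) (kgi xgi15 ygi17 zgi17)) (@D3.rec (fun _ => Pt) (kgi xgi31 ygi46 zgi28) (kgi xgi15 ygi17 zgi0) (kgi xgi25 ygi32 zgi60) (kgi xgi31 ygi46 zgi32) (kgi xgi27 ygi39 zgi50) (kgi xgi31 ygi43 zgi45) (kgi xgi15 ygi17 zgi24) (kgi xgi15 ygi17 zgi10) (kgi xgi18 ygi4 zgi6) (kgi xgi25 ygi13 zgi15) (kgi xgi15 ygi17 zgi5) (kgi xgi25 ygi48 zgi44) (kgi xgi31 ygi46 zgi39) (kgi xgi19 ygi57 zgi24) (kgi xgi15 ygi21 zgi42) (kgi xgi28 ygi33 zgi18) (kgi xgi25 ygi48 zgi43) (kgi xgi25 ygi44 zgi1) (kgi xgi31 ygi46 zgi42) (kgi xgi28 ygi34 zgi47) (kgi xgi27 ygi22 zgi23) (kgi xgi15 ygi17 zgi12) (kgi xgi15 ygi17 zgi13) (kgi xgi26 ygi30 zgi29) (kgi xgi25 ygi48 zgi49) (kgi xgi25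 ygi6 zgi36) (kgi xgi26 ygi54 zgi61) (kgi xgi26 ygi23 zgi54) (kgi xgi25 ygi55 zgi15) (kgi xgi29 ygi50 zgi49) (kgi xgi16 ygi2 zgi28) (kgi xgi29 ygi51 zgi5) (kgi xgi15 ygi17 zgi22) (kgi xgi15 ygi17 zgi23) (kgi xgi15 ygi20 zgi56) (kgi xgi21 ygi27 zgi8) (kgi xgi15 ygi17 zgi25) (kgi xgi25 ygi23 zgi0) (kgi xgi31 ygi46 zgi50) (kgi xgi25 ygi22 zgi59) (kgi xgi15 ygi17 zgi26) (kgi xgi15 ygi53 zgi2) (kgi xgi15 ygi53 zgi3) (kgi xgi15 ygi17 zgi27) (kgi xgi25 ygi7 zgi45) (kgi xgi25 ygi7 zgi43) (kgi xgi25 ygi13 zgi37) (kgi xgi25 ygi11 zgi61) (kgi xgi15 ygi54 zgi61) (kgi xgi30 ygi16 zgi45) (kgi xgi21 ygi58 zgi5) (kgi xgi21 ygi46 zgi25) (kgi xgi25 ygi55 zgi43) (kgi xgi15 ygi17 zgi32) (kgi xgi16 ygi37 zgi15) (kgi xgi16 ygi37 zgi13) (kgi xgi15 ygi17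 zgi33) (kgi xgi16 ygi37 zgi44) (kgi xgi16 ygi37 zgi42) (kgi xgi25 ygi8 zgi6) (kgi xgi20 ygi55 zgi11) (kgi xgi20 ygi2 zgi58)) (@D3.rec (fun _ => Pt) (kgi xgi19 ygi32 zgi7) (kgi xgi16 ygi38 zgi48) (kgi xgi31 ygi26 zgi9) (kgi xgi15 ygi17 zgi38) (kgi xgi16 ygi38 zgi46) (kgi xgi31 ygi24 zgi26) (kgi xgi30 ygi14 zgi56) (kgi xgi15 ygi17 zgi39) (kgi xgi29 ygi37 zgi32) (kgi xgi27 ygi0 zgi30) (kgi xgi20 ygi39 zgi5) (kgi xgi29 ygi8 zgi17) (kgi xgi26 ygi7 zgi55) (kgi xgi15 ygi17 zgi41) (kgi xgi16 ygi38 zgi11) (kgi xgi31 ygi47 zgi3) (kgi xgi16 ygi38 zgi8) (kgi xgi20 ygi39 zgi17) (kgi xgi29 ygi46 zgi20) (kgi xgi16 ygi38 zgi17) (kgi xgi29 ygi59 zgi9) (kgi xgi15 ygi17 zgi46) (kgi xgi21 ygi48 zgi49) (kgi xgi28 ygi9 zgi49) (kgi xgi29 ygi59 zgi10) (kgi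 xgi15 ygi23 zgi0) (kgi xgi25 ygi48 zgi52) (kgi xgi20 ygi3 zgi17) (kgi xgi25 ygi48 zgi50) (kgi xgi15 ygi17 zgi49) (kgi xgi25 ygi6 zgi44) (kgi xgi20 ygi3 zgi3) (kgi xgi16 ygi43 zgi9) (kgi xgi15 ygi18 zgi17) (kgi xgi15 ygi22 zgi28) (kgi xgi19 ygi37 zgi13) (kgi xgi31 ygi46 zgi15) (kgi xgi15 ygi17 zgi56) (kgi xgi21 ygi48 zgi48) (kgi xgi27 ygi18 zgi42) (kgi xgi25 ygi49 zgi22) (kgi xgi25 ygi23 zgi1) (kgi xgi15 ygi17 zgi58) (kgi xgi20 ygi2 zgi55) (kgi xgi29 ygi15 zgi48) (kgi xgi15 ygi17 zgi59) (kgi xgi15 ygi18 zgi0) (kgi xgi19 ygi54 zgi59) (kgi xgi26 ygi33 zgi54) (kgi xgi26 ygi33 zgi59) (kgi xgi15 ygi17 zgi60) (kgi xgi15 ygi52 zgi22) (kgi xgi25 ygi13 zgi57) (kgi xgi15 ygi36 zgi25) (kgi xgi26 ygi33 zgi48) (kgi xgi31 ygi47 zgi34) (kgi xgi26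 ygi4 zgi48) (kgi xgi27 ygi1 zgi34) (kgi xgi31 ygi35 zgi0) (kgi xgi20 ygi50 zgi36) (kgi xgi22 ygi21 zgi0) (kgi xgi25 ygi6 zgi14)) (@D3.rec (fun _ => Pt) (kgi xgi15 ygi38 zgi22) (kgi xgi25 ygi50 zgi49) (kgi xgi29 ygi3 zgi37) (kgi xgi23 ygi1 zgi29) (kgi xgi18 ygi52 zgi45) (kgi xgi25 ygi49 zgi23) (kgi xgi22 ygi52 zgi26) (kgi xgi27 ygi19 zgi40) (kgi xgi21 ygi1 zgi55) (kgi xgi15 ygi21 zgi46) (kgi xgi16 ygi11 zgi35) (kgi xgi26 ygi14 zgi30) (kgi xgi16 ygi11 zgi28) (kgi xgi24 ygi50 zgi48) (kgi xgi19 ygi38 zgi30) (kgi xgi29 ygi13 zgi4) (kgi xgi19 ygi55 zgi25) (kgi xgi31 ygi41 zgi22) (kgi xgi24 ygi51 zgi15) (kgi xgi24 ygi51 zgi23) (kgi xgi31 ygi47 zgi46) (kgi xgi31 ygi47 zgi47) (kgi xgi15 ygi18 zgi36) (kgi xgi28 ygi48 zgi21) (kgi xgi15 ygi18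 zgi37) (kgi xgi27 ygi38 zgi18) (kgi xgi24 ygi52 zgi0) (kgi xgi15 ygi18 zgi38) (kgi xgi26 ygi48 zgi36) (kgi xgi31 ygi41 zgi4) (kgi xgi16 ygi5 zgi38) (kgi xgi15 ygi18 zgi43) (kgi xgi15 ygi18 zgi46) (kgi xgi31 ygi47 zgi55) (kgi xgi31 ygi47 zgi57) (kgi xgi25 ygi57 zgi58) (kgi xgi30 ygi55 zgi1) (kgi xgi31 ygi43 zgi55) (kgi xgi31 ygi48 zgi0) (kgi xgi27 ygi30 zgi9) (kgi xgi15 ygi47 zgi12) (kgi xgi19 ygi38 zgi49) (kgi xgi25 ygi33 zgi46) (kgi xgi27 ygi46 zgi51) (kgi xgi28 ygi57 zgi16) (kgi xgi25 ygi33 zgi53) (kgi xgi28 ygi1 zgi24) (kgi xgi27 ygi21 zgi46) (kgi xgi26 ygi5 zgi10) (kgi xgi29 ygi59 zgi39) (kgi xgi31 ygi45 zgi30) (kgi xgi15 ygi18 zgi54) (kgi xgi15 ygi18 zgi58) (kgi xgi27 ygi39 zgi15) (kgi xgi27 ygi39 zgi4) (kgi xgi27 ygi30 zgi53)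 (kgi xgi15 ygi23 zgi24) (kgi xgi20 ygi3 zgi25) (kgi xgi24 ygi11 zgi27) (kgi xgi29 ygi17 zgi8) (kgi xgi21 ygi57 zgi42) (kgi xgi24 ygi44 zgi48)) (@D3.rec (fun _ => Pt) (kgi xgi21 ygi36 zgi22) (kgi xgi21 ygi22 zgi32) (kgi xgi17 ygi40 zgi14) (kgi xgi15 ygi58 zgi35) (kgi xgi16 ygi39 zgi27) (kgi xgi16 ygi39 zgi25) (kgi xgi29 ygi4 zgi2) (kgi xgi26 ygi37 zgi47) (kgi xgi15 ygi19 zgi17) (kgi xgi15 ygi20 zgi57) (kgi xgi16 ygi42 zgi42) (kgi xgi16 ygi39 zgi48) (kgi xgi31 ygi45 zgi38) (kgi xgi28 ygi58 zgi3) (kgi xgi19 ygi5 zgi9) (kgi xgi26 ygi35 zgi27) (kgi xgi26 ygi35 zgi17) (kgi xgi16 ygi39 zgi28) (kgi xgi16 ygi48 zgi10) (kgi xgi26 ygi34 zgi57) (kgi xgi16 ygi42 zgi40) (kgi xgi16 ygi39 zgi51) (kgi xgi31 ygi48 zgi8) (kgi xgi15 ygi19 zgi25) (kgi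 xgi16 ygi41 zgi14) (kgi xgi31 ygi47 zgi30) (kgi xgi27 ygi19 zgi21) (kgi xgi17 ygi53 zgi32) (kgi xgi29 ygi9 zgi32) (kgi xgi15 ygi19 zgi30) (kgi xgi15 ygi50 zgi3) (kgi xgi30 ygi17 zgi14) (kgi xgi15 ygi19 zgi31) (kgi xgi19 ygi6 zgi4) (kgi xgi15 ygi54 zgi27) (kgi xgi15 ygi54 zgi29) (kgi xgi20 ygi50 zgi3) (kgi xgi31 ygi48 zgi12) (kgi xgi25 ygi50 zgi61) (kgi xgi15 ygi53 zgi61) (kgi xgi19 ygi37 zgi1) (kgi xgi29 ygi47 zgi47) (kgi xgi29 ygi9 zgi27) (kgi xgi15 ygi19 zgi37) (kgi xgi24 ygi45 zgi28) (kgi xgi18 ygi13 zgi43) (kgi xgi15 ygi19 zgi42) (kgi xgi15 ygi19 zgi47) (kgi xgi24 ygi55 zgi7) (kgi xgi18 ygi6 zgi20) (kgi xgi15 ygi21 zgi11) (kgi xgi15 ygi21 zgi13) (kgi xgi30 ygi9 zgi50) (kgi xgi24 ygi37 zgi59) (kgi xgi19 ygi47 zgi9) (kgi xgi17 ygi35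 zgi57) (kgi xgi15 ygi19 zgi52) (kgi xgi31 ygi48 zgi19) (kgi xgi27 ygi31 zgi45) (kgi xgi26 ygi15 zgi30) (kgi xgi25 ygi33 zgi49) (kgi xgi24 ygi51 zgi19)) (@D3.rec (fun _ => Pt) (kgi xgi28 ygi45 zgi32) (kgi xgi15 ygi19 zgi60) (kgi xgi24 ygi51 zgi18) (kgi xgi25 ygi33 zgi43) (kgi xgi19 ygi38 zgi6) (kgi xgi15 ygi19 zgi61) (kgi xgi28 ygi59 zgi29) (kgi xgi31 ygi48 zgi24) (kgi xgi31 ygi45 zgi57) (kgi xgi15 ygi20 zgi0) (kgi xgi24 ygi51 zgi45) (kgi xgi28 ygi45 zgi12) (kgi xgi24 ygi34 zgi5) (kgi xgi24 ygi48 zgi58) (kgi xgi20 ygi55 zgi55) (kgi xgi28 ygi59 zgi46) (kgi xgi15 ygi20 zgi2) (kgi xgi19 ygi25 zgi42) (kgi xgi15 ygi20 zgi5) (kgi xgi15 ygi20 zgi7) (kgi xgi31 ygi47 zgi54) (kgi xgi25 ygi34 zgi55) (kgi xgi31 ygi47 zgi53) (kgi xgi28 ygi59 zgi50)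 (kgi xgi29 ygi7 zgi11) (kgi xgi28 ygi59 zgi30) (kgi xgi25 ygi43 zgi60) (kgi xgi15 ygi20 zgi13) (kgi xgi15 ygi54 zgi30) (kgi xgi15 ygi52 zgi13) (kgi xgi31 ygi35 zgi43) (kgi xgi31 ygi48 zgi35) (kgi xgi24 ygi16 zgi15) (kgi xgi24 ygi26 zgi4) (kgi xgi28 ygi59 zgi13) (kgi xgi26 ygi22 zgi50) (kgi xgi22 ygi6 zgi34) (kgi xgi15 ygi54 zgi41) (kgi xgi31 ygi48 zgi36) (kgi xgi28 ygi20 zgi41) (kgi xgi15 ygi21 zgi14) (kgi xgi29 ygi51 zgi2) (kgi xgi16 ygi9 zgi47) (kgi xgi17 ygi43 zgi24) (kgi xgi31 ygi45 zgi49) (kgi xgi26 ygi28 zgi31) (kgi xgi22 ygi22 zgi56) (kgi xgi25 ygi22 zgi49) (kgi xgi15 ygi21 zgi15) (kgi xgi26 ygi51 zgi12) (kgi xgi29 ygi2 zgi11) (kgi xgi15 ygi20 zgi36) (kgi xgi31 ygi26 zgi54) (kgi xgi24 ygi11 zgi23) (kgi xgi31 ygi48 zgi44) (kgi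 xgi19 ygi31 zgi26) (kgi xgi27 ygi56 zgi56) (kgi xgi15 ygi20 zgi43) (kgi xgi19 ygi47 zgi28) (kgi xgi28 ygi43 zgi2) (kgi xgi25 ygi13 zgi14) (kgi xgi15 ygi58 zgi33)) (@D3.rec (fun _ => Pt) (kgi xgi26 ygi9 zgi8) (kgi xgi24 ygi34 zgi23) (kgi xgi27 ygi27 zgi25) (kgi xgi24 ygi36 zgi52) (kgi xgi25 ygi33 zgi10) (kgi xgi31 ygi35 zgi10) (kgi xgi15 ygi21 zgi26) (kgi xgi21 ygi29 zgi20) (kgi xgi31 ygi48 zgi47) (kgi xgi27 ygi19 zgi39) (kgi xgi24 ygi58 zgi18) (kgi xgi28 ygi58 zgi55) (kgi xgi31 ygi27 zgi4) (kgi xgi24 ygi27 zgi43) (kgi xgi29 ygi0 zgi1) (kgi xgi15 ygi21 zgi1) (kgi xgi28 ygi16 zgi0) (kgi xgi25 ygi44 zgi31) (kgi xgi19 ygi44 zgi58) (kgi xgi30 ygi55 zgi19) (kgi xgi25 ygi56 zgi58) (kgi xgi15 ygi21 zgi6) (kgi xgi20 ygi29 zgi46) (kgi xgi23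 ygi0 zgi55) (kgi xgi19 ygi45 zgi18) (kgi xgi15 ygi21 zgi7) (kgi xgi31 ygi27 zgi3) (kgi xgi25 ygi47 zgi13) (kgi xgi28 ygi25 zgi3) (kgi xgi15 ygi21 zgi12) (kgi xgi31 ygi48 zgi53) (kgi xgi25 ygi49 zgi51) (kgi xgi25 ygi9 zgi14) (kgi xgi31 ygi48 zgi54) (kgi xgi26 ygi33 zgi33) (kgi xgi26 ygi4 zgi44) (kgi xgi31 ygi48 zgi55) (kgi xgi15 ygi21 zgi18) (kgi xgi24 ygi37 zgi51) (kgi xgi15 ygi21 zgi19) (kgi xgi28 ygi16 zgi3) (kgi xgi25 ygi43 zgi25) (kgi xgi19 ygi49 zgi44) (kgi xgi28 ygi58 zgi4) (kgi xgi24 ygi12 zgi27) (kgi xgi30 ygi46 zgi8) (kgi xgi24 ygi14 zgi2) (kgi xgi31 ygi48 zgi41) (kgi xgi21 ygi22 zgi37) (kgi xgi15 ygi21 zgi29) (kgi xgi15 ygi21 zgi41) (kgi xgi15 ygi21 zgi39) (kgi xgi29 ygi7 zgi2) (kgi xgi15 ygi21 zgi34) (kgi xgi25 ygi47 zgi23)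 (kgi xgi21 ygi8 zgi8) (kgi xgi24 ygi18 zgi5) (kgi xgi15 ygi21 zgi32) (kgi xgi22 ygi53 zgi26) (kgi xgi15 ygi54 zgi5) (kgi xgi24 ygi58 zgi38) (kgi xgi25 ygi9 zgi20)) (@D3.rec (fun _ => Pt) (kgi xgi16 ygi9 zgi9) (kgi xgi24 ygi58 zgi37) (kgi xgi24 ygi58 zgi36) (kgi xgi17 ygi29 zgi35) (kgi xgi21 ygi21 zgi40) (kgi xgi19 ygi16 zgi6) (kgi xgi25 ygi55 zgi3) (kgi xgi21 ygi48 zgi46) (kgi xgi21 ygi47 zgi61) (kgi xgi30 ygi6 zgi40) (kgi xgi30 ygi9 zgi52) (kgi xgi29 ygi3 zgi25) (kgi xgi15 ygi21 zgi44) (kgi xgi30 ygi8 zgi61) (kgi xgi15 ygi21 zgi45) (kgi xgi15 ygi53 zgi46) (kgi xgi15 ygi37 zgi60) (kgi xgi24 ygi37 zgi12) (kgi xgi15 ygi21 zgi48) (kgi xgi25 ygi28 zgi20) (kgi xgi30 ygi19 zgi61) (kgi xgi31 ygi49 zgi4) (kgi xgi19 ygi57 zgi21) (kgi xgi21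 ygi36 zgi4) (kgi xgi26 ygi55 zgi1) (kgi xgi15 ygi21 zgi51) (kgi xgi15 ygi21 zgi54) (kgi xgi29 ygi57 zgi60) (kgi xgi27 ygi7 zgi44) (kgi xgi25 ygi49 zgi32) (kgi xgi31 ygi29 zgi38) (kgi xgi31 ygi47 zgi38) (kgi xgi25 ygi7 zgi0) (kgi xgi19 ygi49 zgi43) (kgi xgi31 ygi49 zgi8) (kgi xgi30 ygi14 zgi32) (kgi xgi25 ygi29 zgi14) (kgi xgi15 ygi21 zgi58) (kgi xgi30 ygi11 zgi9) (kgi xgi21 ygi48 zgi25) (kgi xgi15 ygi21 zgi60) (kgi xgi20 ygi2 zgi27) (kgi xgi17 ygi53 zgi49) (kgi xgi28 ygi37 zgi8) (kgi xgi24 ygi51 zgi11) (kgi xgi19 ygi59 zgi30) (kgi xgi27 ygi11 zgi3) (kgi xgi19 ygi57 zgi10) (kgi xgi15 ygi23 zgi13) (kgi xgi19 ygi33 zgi30) (kgi xgi15 ygi23 zgi16) (kgi xgi16 ygi44 zgi48) (kgi xgi31 ygi49 zgi12) (kgi xgi15 ygi22 zgi13) (kgi xgi31 ygi49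 zgi14) (kgi xgi31 ygi49 zgi19) (kgi xgi31 ygi49 zgi11) (kgi xgi16 ygi8 zgi15) (kgi xgi25 ygi6 zgi42) (kgi xgi25 ygi9 zgi41) (kgi xgi25 ygi6 zgi40) (kgi xgi25 ygi7 zgi4)) (@D3.rec (fun _ => Pt) (kgi xgi16 ygi18 zgi56) (kgi xgi28 ygi45 zgi26) (kgi xgi15 ygi22 zgi40) (kgi xgi25 ygi14 zgi55) (kgi xgi20 ygi3 zgi54) (kgi xgi29 ygi59 zgi18) (kgi xgi15 ygi22 zgi24) (kgi xgi31 ygi49 zgi24) (kgi xgi31 ygi9 zgi5) (kgi xgi29 ygi12 zgi44) (kgi xgi21 ygi48 zgi15) (kgi xgi25 ygi6 zgi30) (kgi xgi15 ygi22 zgi26) (kgi xgi31 ygi47 zgi28) (kgi xgi20 ygi2 zgi24) (kgi xgi16 ygi38 zgi40) (kgi xgi31 ygi45 zgi28) (kgi xgi15 ygi22 zgi29) (kgi xgi21 ygi1 zgi5) (kgi xgi20 ygi3 zgi12) (kgi xgi28 ygi52 zgi55) (kgi xgi20 ygi3 zgi11) (kgi xgi23 ygi41 zgi26) (kgi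 xgi20 ygi3 zgi9) (kgi xgi31 ygi45 zgi36) (kgi xgi16 ygi59 zgi20) (kgi xgi20 ygi28 zgi58) (kgi xgi25 ygi12 zgi45) (kgi xgi31 ygi38 zgi42) (kgi xgi20 ygi43 zgi45) (kgi xgi20 ygi43 zgi58) (kgi xgi21 ygi57 zgi11) (kgi xgi21 ygi5 zgi24) (kgi xgi15 ygi22 zgi45) (kgi xgi25 ygi23 zgi11) (kgi xgi30 ygi2 zgi60) (kgi xgi16 ygi10 zgi34) (kgi xgi26 ygi17 zgi50) (kgi xgi15 ygi53 zgi33) (kgi xgi19 ygi55 zgi19) (kgi xgi19 ygi55 zgi47) (kgi xgi19 ygi52 zgi61) (kgi xgi30 ygi40 zgi5) (kgi xgi19 ygi55 zgi50) (kgi xgi27 ygi30 zgi24) (kgi xgi24 ygi44 zgi31) (kgi xgi25 ygi12 zgi37) (kgi xgi31 ygi49 zgi39) (kgi xgi19 ygi58 zgi47) (kgi xgi25 ygi2 zgi36) (kgi xgi31 ygi3 zgi7) (kgi xgi15 ygi22 zgi59) (kgi xgi31 ygi4 zgi53) (kgi xgi17 ygi35 zgi56) (kgi xgi25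 ygi49 zgi16) (kgi xgi25 ygi14 zgi1) (kgi xgi28 ygi38 zgi10) (kgi xgi25 ygi50 zgi37) (kgi xgi30 ygi41 zgi50) (kgi xgi25 ygi49 zgi15) (kgi xgi25 ygi30 zgi5) (kgi xgi25 ygi49 zgi13)) (@D3.rec (fun _ => Pt) (kgi xgi15 ygi23 zgi1) (kgi xgi15 ygi23 zgi5) (kgi xgi15 ygi36 zgi46) (kgi xgi19 ygi35 zgi35) (kgi xgi29 ygi23 zgi3) (kgi xgi24 ygi16 zgi26) (kgi xgi29 ygi12 zgi42) (kgi xgi28 ygi42 zgi3) (kgi xgi21 ygi23 zgi20) (kgi xgi31 ygi49 zgi52) (kgi xgi15 ygi23 zgi4) (kgi xgi19 ygi40 zgi15) (kgi xgi27 ygi42 zgi42) (kgi xgi15 ygi38 zgi27) (kgi xgi16 ygi43 zgi40) (kgi xgi15 ygi23 zgi7) (kgi xgi20 ygi3 zgi43) (kgi xgi24 ygi41 zgi2) (kgi xgi20 ygi3 zgi40) (kgi xgi28 ygi11 zgi27) (kgi xgi15 ygi23 zgi11) (kgi xgi15 ygi23 zgi12) (kgi xgi15 ygi54 zgi26)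 (kgi xgi29 ygi4 zgi28) (kgi xgi31 ygi49 zgi57) (kgi xgi15 ygi23 zgi17) (kgi xgi24 ygi22 zgi17) (kgi xgi16 ygi8 zgi28) (kgi xgi20 ygi3 zgi45) (kgi xgi29 ygi58 zgi57) (kgi xgi31 ygi37 zgi33) (kgi xgi26 ygi44 zgi33) (kgi xgi19 ygi23 zgi22) (kgi xgi16 ygi20 zgi3) (kgi xgi26 ygi2 zgi50) (kgi xgi15 ygi54 zgi58) (kgi xgi27 ygi39 zgi28) (kgi xgi27 ygi25 zgi0) (kgi xgi16 ygi16 zgi29) (kgi xgi17 ygi39 zgi27) (kgi xgi22 ygi8 zgi46) (kgi xgi17 ygi40 zgi15) (kgi xgi26 ygi13 zgi6) (kgi xgi27 ygi24 zgi46) (kgi xgi16 ygi20 zgi13) (kgi xgi24 ygi44 zgi45) (kgi xgi24 ygi54 zgi56) (kgi xgi15 ygi23 zgi30) (kgi xgi20 ygi4 zgi18) (kgi xgi20 ygi4 zgi16) (kgi xgi26 ygi15 zgi46) (kgi xgi26 ygi19 zgi52) (kgi xgi18 ygi27 zgi9) (kgi xgi15 ygi23 zgi33) (kgi xgi31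 ygi45 zgi3) (kgi xgi24 ygi57 zgi5) (kgi xgi26 ygi12 zgi39) (kgi xgi16 ygi33 zgi27) (kgi xgi17 ygi39 zgi59) (kgi xgi22 ygi31 zgi39) (kgi xgi20 ygi32 zgi45) (kgi xgi23 ygi25 zgi39)) (@D3.rec (fun _ => Pt) (kgi xgi15 ygi23 zgi39) (kgi xgi24 ygi29 zgi8) (kgi xgi20 ygi32 zgi43) (kgi xgi18 ygi42 zgi59) (kgi xgi27 ygi57 zgi38) (kgi xgi27 ygi57 zgi37) (kgi xgi24 ygi59 zgi45) (kgi xgi21 ygi15 zgi38) (kgi xgi28 ygi20 zgi23) (kgi xgi20 ygi32 zgi54) (kgi xgi20 ygi32 zgi32) (kgi xgi20 ygi32 zgi27) (kgi xgi15 ygi23 zgi48) (kgi xgi15 ygi26 zgi60) (kgi xgi26 ygi31 zgi17) (kgi xgi23 ygi16 zgi32) (kgi xgi20 ygi32 zgi13) (kgi xgi20 ygi32 zgi41) (kgi xgi18 ygi36 zgi55) (kgi xgi27 ygi48 zgi49) (kgi xgi28 ygi22 zgi12) (kgi xgi17 ygi9 zgi20) (kgi xgi24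 ygi47 zgi8) (kgi xgi26 ygi8 zgi51) (kgi xgi23 ygi33 zgi8) (kgi xgi18 ygi42 zgi38) (kgi xgi25 ygi1 zgi56) (kgi xgi22 ygi53 zgi15) (kgi xgi26 ygi25 zgi11) (kgi xgi16 ygi22 zgi47) (kgi xgi19 ygi0 zgi15) (kgi xgi25 ygi1 zgi54) (kgi xgi15 ygi23 zgi61) (kgi xgi15 ygi38 zgi32) (kgi xgi15 ygi38 zgi30) (kgi xgi23 ygi47 zgi34) (kgi xgi16 ygi13 zgi45) (kgi xgi26 ygi10 zgi32) (kgi xgi18 ygi20 zgi52) (kgi xgi27 ygi31 zgi39) (kgi xgi27 ygi20 zgi0) (kgi xgi25 ygi44 zgi22) (kgi xgi29 ygi20 zgi21) (kgi xgi26 ygi37 zgi24) (kgi xgi27 ygi37 zgi30) (kgi xgi26 ygi35 zgi59) (kgi xgi15 ygi24 zgi17) (kgi xgi17 ygi49 zgi29) (kgi xgi21 ygi42 zgi23) (kgi xgi15 ygi25 zgi19) (kgi xgi19 ygi52 zgi53) (kgi xgi15 ygi25 zgi54) (kgi xgi19 ygi56 zgi49) (kgi xgi26 ygi5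 zgi19) (kgi xgi18 ygi19 zgi10) (kgi xgi16 ygi22 zgi12) (kgi xgi20 ygi8 zgi42) (kgi xgi16 ygi51 zgi15) (kgi xgi18 ygi12 zgi32) (kgi xgi15 ygi24 zgi47) (kgi xgi15 ygi24 zgi45) (kgi xgi27 ygi56 zgi37)) (@D3.rec (fun _ => Pt) (kgi xgi20 ygi13 zgi54) (kgi xgi30 ygi17 zgi53) (kgi xgi15 ygi59 zgi3) (kgi xgi30 ygi17 zgi51) (kgi xgi25 ygi17 zgi27) (kgi xgi24 ygi14 zgi46) (kgi xgi15 ygi24 zgi52) (kgi xgi28 ygi1 zgi13) (kgi xgi21 ygi52 zgi7) (kgi xgi26 ygi33 zgi7) (kgi xgi24 ygi33 zgi8) (kgi xgi25 ygi17 zgi59) (kgi xgi18 ygi0 zgi19) (kgi xgi25 ygi47 zgi16) (kgi xgi29 ygi48 zgi47) (kgi xgi18 ygi0 zgi0) (kgi xgi26 ygi59 zgi28) (kgi xgi20 ygi53 zgi16) (kgi xgi21 ygi50 zgi15) (kgi xgi21 ygi42 zgi22) (kgi xgi21 ygi42 zgi19) (kgi xgi25 ygi44 zgi19)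 (kgi xgi15 ygi25 zgi9) (kgi xgi15 ygi32 zgi7) (kgi xgi15 ygi32 zgi5) (kgi xgi25 ygi44 zgi42) (kgi xgi25 ygi19 zgi25) (kgi xgi15 ygi27 zgi25) (kgi xgi26 ygi59 zgi27) (kgi xgi15 ygi25 zgi14) (kgi xgi16 ygi2 zgi37) (kgi xgi26 ygi55 zgi21) (kgi xgi26 ygi59 zgi40) (kgi xgi23 ygi3 zgi56) (kgi xgi26 ygi58 zgi46) (kgi xgi29 ygi21 zgi45) (kgi xgi21 ygi44 zgi27) (kgi xgi15 ygi25 zgi18) (kgi xgi31 ygi34 zgi39) (kgi xgi19 ygi10 zgi52) (kgi xgi27 ygi22 zgi21) (kgi xgi31 ygi50 zgi12) (kgi xgi17 ygi48 zgi7) (kgi xgi17 ygi49 zgi54) (kgi xgi20 ygi53 zgi37) (kgi xgi27 ygi43 zgi31) (kgi xgi23 ygi13 zgi0) (kgi xgi23 ygi3 zgi53) (kgi xgi25 ygi17 zgi40) (kgi xgi28 ygi36 zgi56) (kgi xgi21 ygi38 zgi5) (kgi xgi26 ygi27 zgi2) (kgi xgi18 ygi19 zgi61) (kgi xgi27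 ygi20 zgi23) (kgi xgi21 ygi33 zgi37) (kgi xgi29 ygi40 zgi36) (kgi xgi29 ygi46 zgi41) (kgi xgi25 ygi44 zgi37) (kgi xgi17 ygi51 zgi25) (kgi xgi19 ygi11 zgi9) (kgi xgi17 ygi38 zgi57) (kgi xgi25 ygi48 zgi56)) (@D3.rec (fun _ => Pt) (kgi xgi20 ygi2 zgi36) (kgi xgi17 ygi39 zgi25) (kgi xgi31 ygi32 zgi4) (kgi xgi20 ygi2 zgi38) (kgi xgi28 ygi54 zgi48) (kgi xgi25 ygi23 zgi46) (kgi xgi15 ygi26 zgi11) (kgi xgi17 ygi9 zgi36) (kgi xgi22 ygi6 zgi53) (kgi xgi18 ygi19 zgi8) (kgi xgi26 ygi49 zgi5) (kgi xgi18 ygi58 zgi42) (kgi xgi28 ygi28 zgi14) (kgi xgi30 ygi25 zgi1) (kgi xgi27 ygi40 zgi2) (kgi xgi31 ygi6 zgi22) (kgi xgi28 ygi13 zgi46) (kgi xgi27 ygi2 zgi5) (kgi xgi28 ygi13 zgi57) (kgi xgi17 ygi22 zgi21) (kgi xgi29 ygi43 zgi47) (kgi xgi29 ygi55 zgi27)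 (kgi xgi18 ygi23 zgi45) (kgi xgi15 ygi26 zgi34) (kgi xgi20 ygi32 zgi42) (kgi xgi29 ygi19 zgi27) (kgi xgi29 ygi24 zgi13) (kgi xgi23 ygi53 zgi2) (kgi xgi24 ygi18 zgi41) (kgi xgi20 ygi44 zgi37) (kgi xgi28 ygi22 zgi16) (kgi xgi19 ygi50 zgi46) (kgi xgi20 ygi53 zgi11) (kgi xgi31 ygi22 zgi27) (kgi xgi21 ygi40 zgi16) (kgi xgi29 ygi35 zgi7) (kgi xgi26 ygi28 zgi34) (kgi xgi20 ygi33 zgi53) (kgi xgi15 ygi32 zgi49) (kgi xgi31 ygi50 zgi31) (kgi xgi22 ygi16 zgi43) (kgi xgi26 ygi20 zgi24) (kgi xgi15 ygi26 zgi61) (kgi xgi24 ygi28 zgi48) (kgi xgi30 ygi39 zgi16) (kgi xgi17 ygi20 zgi61) (kgi xgi29 ygi2 zgi53) (kgi xgi27 ygi10 zgi38) (kgi xgi20 ygi33 zgi45) (kgi xgi20 ygi33 zgi52) (kgi xgi27 ygi10 zgi35) (kgi xgi27 ygi42 zgi19) (kgi xgi17 ygi29 zgi49)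 (kgi xgi25 ygi23 zgi38) (kgi xgi15 ygi27 zgi14) (kgi xgi16 ygi0 zgi9) (kgi xgi16 ygi0 zgi7) (kgi xgi21 ygi59 zgi19) (kgi xgi20 ygi16 zgi13) (kgi xgi25 ygi44 zgi45) (kgi xgi18 ygi25 zgi22) (kgi xgi29 ygi14 zgi0)) (@D3.rec (fun _ => Pt) (kgi xgi25 ygi17 zgi29) (kgi xgi21 ygi44 zgi45) (kgi xgi15 ygi27 zgi24) (kgi xgi20 ygi22 zgi23) (kgi xgi15 ygi27 zgi26) (kgi xgi15 ygi28 zgi19) (kgi xgi15 ygi28 zgi17) (kgi xgi29 ygi45 zgi24) (kgi xgi15 ygi27 zgi28) (kgi xgi15 ygi28 zgi2) (kgi xgi15 ygi28 zgi0) (kgi xgi29 ygi44 zgi61) (kgi xgi15 ygi27 zgi30) (kgi xgi15 ygi28 zgi50) (kgi xgi15 ygi28 zgi48) (kgi xgi31 ygi50 zgi43) (kgi xgi29 ygi46 zgi2) (kgi xgi15 ygi27 zgi32) (kgi xgi31 ygi40 zgi18) (kgi xgi15 ygi28 zgi38) (kgi xgi15 ygi27 zgi37) (kgi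 xgi24 ygi52 zgi8) (kgi xgi29 ygi45 zgi41) (kgi xgi15 ygi27 zgi39) (kgi xgi20 ygi59 zgi23) (kgi xgi22 ygi12 zgi0) (kgi xgi17 ygi8 zgi58) (kgi xgi20 ygi58 zgi32) (kgi xgi15 ygi27 zgi38) (kgi xgi29 ygi21 zgi10) (kgi xgi31 ygi50 zgi54) (kgi xgi31 ygi39 zgi46) (kgi xgi15 ygi27 zgi40) (kgi xgi15 ygi29 zgi29) (kgi xgi15 ygi29 zgi27) (kgi xgi19 ygi38 zgi17) (kgi xgi15 ygi27 zgi42) (kgi xgi27 ygi23 zgi45) (kgi xgi18 ygi27 zgi21) (kgi xgi18 ygi27 zgi20) (kgi xgi31 ygi50 zgi58) (kgi xgi15 ygi56 zgi36) (kgi xgi25 ygi22 zgi39) (kgi xgi15 ygi27 zgi56) (kgi xgi28 ygi37 zgi5) (kgi xgi28 ygi37 zgi3) (kgi xgi25 ygi52 zgi30) (kgi xgi24 ygi50 zgi52) (kgi xgi24 ygi50 zgi43) (kgi xgi24 ygi50 zgi60) (kgi xgi29 ygi2 zgi47) (kgi xgi27 ygi29 zgi34) (kgi xgi31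 ygi18 zgi13) (kgi xgi26 ygi50 zgi60) (kgi xgi25 ygi52 zgi31) (kgi xgi16 ygi12 zgi52) (kgi xgi29 ygi17 zgi55) (kgi xgi16 ygi6 zgi3) (kgi xgi31 ygi40 zgi19) (kgi xgi15 ygi28 zgi4) (kgi xgi28 ygi45 zgi18) (kgi xgi22 ygi7 zgi52)) (@D3.rec (fun _ => Pt) (kgi xgi20 ygi54 zgi19) (kgi xgi15 ygi28 zgi6) (kgi xgi31 ygi50 zgi39) (kgi xgi26 ygi53 zgi34) (kgi xgi29 ygi45 zgi21) (kgi xgi29 ygi13 zgi5) (kgi xgi29 ygi13 zgi21) (kgi xgi25 ygi22 zgi46) (kgi xgi27 ygi38 zgi21) (kgi xgi26 ygi21 zgi51) (kgi xgi24 ygi51 zgi3) (kgi xgi30 ygi19 zgi24) (kgi xgi15 ygi28 zgi13) (kgi xgi18 ygi52 zgi23) (kgi xgi15 ygi28 zgi15) (kgi xgi16 ygi14 zgi12) (kgi xgi27 ygi35 zgi55) (kgi xgi30 ygi19 zgi28) (kgi xgi29 ygi47 zgi43) (kgi xgi24 ygi50 zgi17) (kgi xgi31 ygi51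 zgi7) (kgi xgi24 ygi50 zgi7) (kgi xgi15 ygi28 zgi20) (kgi xgi15 ygi28 zgi21) (kgi xgi23 ygi59 zgi46) (kgi xgi15 ygi28 zgi22) (kgi xgi31 ygi50 zgi40) (kgi xgi31 ygi51 zgi14) (kgi xgi29 ygi44 zgi59) (kgi xgi25 ygi19 zgi58) (kgi xgi28 ygi51 zgi33) (kgi xgi24 ygi49 zgi23) (kgi xgi15 ygi28 zgi24) (kgi xgi28 ygi51 zgi32) (kgi xgi25 ygi51 zgi29) (kgi xgi25 ygi41 zgi49) (kgi xgi17 ygi43 zgi34) (kgi xgi27 ygi23 zgi59) (kgi xgi15 ygi28 zgi28) (kgi xgi15 ygi56 zgi8) (kgi xgi15 ygi56 zgi6) (kgi xgi31 ygi51 zgi22) (kgi xgi19 ygi40 zgi30) (kgi xgi19 ygi27 zgi7) (kgi xgi24 ygi52 zgi19) (kgi xgi22 ygi5 zgi42) (kgi xgi19 ygi27 zgi10) (kgi xgi31 ygi51 zgi24) (kgi xgi31 ygi51 zgi27) (kgi xgi15 ygi28 zgi34) (kgi xgi31 ygi51 zgi26) (kgi xgi31 ygi51 zgi32)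 (kgi xgi28 ygi45 zgi19) (kgi xgi22 ygi5 zgi44) (kgi xgi31 ygi51 zgi36) (kgi xgi15 ygi28 zgi37) (kgi xgi31 ygi50 zgi46) (kgi xgi31 ygi51 zgi42) (kgi xgi29 ygi46 zgi0) (kgi xgi31 ygi51 zgi19) (kgi xgi26 ygi6 zgi11) (kgi xgi31 ygi40 zgi36)) (@D3.rec (fun _ => Pt) (kgi xgi26 ygi6 zgi14) (kgi xgi17 ygi42 zgi17) (kgi xgi31 ygi40 zgi16) (kgi xgi31 ygi51 zgi52) (kgi xgi25 ygi37 zgi27) (kgi xgi31 ygi50 zgi50) (kgi xgi26 ygi6 zgi16) (kgi xgi26 ygi6 zgi17) (kgi xgi18 ygi5 zgi50) (kgi xgi31 ygi43 zgi46) (kgi xgi20 ygi5 zgi9) (kgi xgi29 ygi41 zgi35) (kgi xgi15 ygi28 zgi52) (kgi xgi29 ygi35 zgi36) (kgi xgi20 ygi26 zgi35) (kgi xgi15 ygi28 zgi53) (kgi xgi27 ygi37 zgi13) (kgi xgi31 ygi51 zgi61) (kgi xgi27 ygi37 zgi11) (kgi xgi24 ygi48 zgi36) (kgi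 xgi28 ygi8 zgi17) (kgi xgi31 ygi16 zgi45) (kgi xgi24 ygi49 zgi57) (kgi xgi20 ygi53 zgi41) (kgi xgi19 ygi31 zgi9) (kgi xgi20 ygi53 zgi39) (kgi xgi25 ygi37 zgi38) (kgi xgi26 ygi3 zgi45) (kgi xgi24 ygi52 zgi11) (kgi xgi16 ygi13 zgi11) (kgi xgi31 ygi52 zgi6) (kgi xgi15 ygi29 zgi0) (kgi xgi31 ygi52 zgi8) (kgi xgi31 ygi52 zgi14) (kgi xgi31 ygi48 zgi22) (kgi xgi15 ygi29 zgi9) (kgi xgi31 ygi40 zgi50) (kgi xgi15 ygi29 zgi2) (kgi xgi28 ygi40 zgi43) (kgi xgi31 ygi52 zgi23) (kgi xgi28 ygi40 zgi40) (kgi xgi29 ygi45 zgi45) (kgi xgi31 ygi52 zgi26) (kgi xgi16 ygi9 zgi36) (kgi xgi15 ygi29 zgi5) (kgi xgi28 ygi37 zgi11) (kgi xgi31 ygi52 zgi34) (kgi xgi28 ygi37 zgi9) (kgi xgi31 ygi40 zgi39) (kgi xgi19 ygi59 zgi22) (kgi xgi15 ygi29 zgi16) (kgi xgi19 ygi42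 zgi46) (kgi xgi25 ygi53 zgi4) (kgi xgi31 ygi20 zgi38) (kgi xgi24 ygi7 zgi53) (kgi xgi31 ygi52 zgi20) (kgi xgi15 ygi29 zgi11) (kgi xgi28 ygi55 zgi25) (kgi xgi19 ygi25 zgi53) (kgi xgi28 ygi29 zgi0) (kgi xgi28 ygi37 zgi7) (kgi xgi31 ygi17 zgi11)) (@D3.rec (fun _ => Pt) (kgi xgi28 ygi55 zgi6) (kgi xgi17 ygi34 zgi31) (kgi xgi29 ygi47 zgi46) (kgi xgi31 ygi29 zgi28) (kgi xgi24 ygi51 zgi27) (kgi xgi17 ygi32 zgi32) (kgi xgi31 ygi39 zgi41) (kgi xgi25 ygi31 zgi51) (kgi xgi31 ygi52 zgi45) (kgi xgi15 ygi29 zgi19) (kgi xgi19 ygi57 zgi49) (kgi xgi31 ygi48 zgi25) (kgi xgi15 ygi29 zgi21) (kgi xgi29 ygi43 zgi35) (kgi xgi25 ygi9 zgi15) (kgi xgi15 ygi29 zgi23) (kgi xgi19 ygi58 zgi15) (kgi xgi31 ygi52 zgi53) (kgi xgi29 ygi44 zgi44) (kgi xgi15 ygi29 zgi24)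 (kgi xgi31 ygi46 zgi0) (kgi xgi28 ygi51 zgi27) (kgi xgi31 ygi45 zgi61) (kgi xgi15 ygi29 zgi25) (kgi xgi20 ygi55 zgi35) (kgi xgi20 ygi55 zgi36) (kgi xgi15 ygi29 zgi26) (kgi xgi20 ygi58 zgi43) (kgi xgi20 ygi58 zgi44) (kgi xgi16 ygi38 zgi4) (kgi xgi26 ygi47 zgi39) (kgi xgi31 ygi40 zgi53) (kgi xgi27 ygi44 zgi45) (kgi xgi26 ygi47 zgi38) (kgi xgi31 ygi52 zgi52) (kgi xgi19 ygi57 zgi58) (kgi xgi15 ygi29 zgi30) (kgi xgi20 ygi58 zgi37) (kgi xgi27 ygi21 zgi49) (kgi xgi24 ygi51 zgi32) (kgi xgi19 ygi58 zgi31) (kgi xgi27 ygi36 zgi60) (kgi xgi15 ygi29 zgi32) (kgi xgi24 ygi49 zgi6) (kgi xgi24 ygi51 zgi4) (kgi xgi25 ygi20 zgi7) (kgi xgi19 ygi31 zgi10) (kgi xgi20 ygi18 zgi55) (kgi xgi24 ygi24 zgi2) (kgi xgi25 ygi11 zgi42) (kgi xgi15 ygi29 zgi45) (kgi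 xgi21 ygi1 zgi43) (kgi xgi21 ygi1 zgi41) (kgi xgi15 ygi29 zgi46) (kgi xgi21 ygi1 zgi47) (kgi xgi21 ygi1 zgi45) (kgi xgi26 ygi44 zgi38) (kgi xgi29 ygi48 zgi7) (kgi xgi20 ygi15 zgi19) (kgi xgi15 ygi29 zgi53) (kgi xgi25 ygi7 zgi39) (kgi xgi31 ygi53 zgi3)) (@D3.rec (fun _ => Pt) (kgi xgi25 ygi7 zgi36) (kgi xgi15 ygi29 zgi54) (kgi xgi25 ygi8 zgi41) (kgi xgi31 ygi46 zgi10) (kgi xgi15 ygi29 zgi57) (kgi xgi28 ygi53 zgi58) (kgi xgi26 ygi13 zgi56) (kgi xgi20 ygi18 zgi44) (kgi xgi18 ygi1 zgi43) (kgi xgi22 ygi6 zgi23) (kgi xgi30 ygi40 zgi59) (kgi xgi25 ygi14 zgi33) (kgi xgi26 ygi9 zgi54) (kgi xgi26 ygi6 zgi27) (kgi xgi31 ygi23 zgi58) (kgi xgi26 ygi47 zgi37) (kgi xgi24 ygi54 zgi47) (kgi xgi19 ygi55 zgi44) (kgi xgi16 ygi50 zgi29) (kgi xgi17 ygi43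 zgi22) (kgi xgi26 ygi6 zgi49) (kgi xgi26 ygi47 zgi33) (kgi xgi16 ygi16 zgi34) (kgi xgi24 ygi54 zgi46) (kgi xgi31 ygi34 zgi8) (kgi xgi26 ygi47 zgi34) (kgi xgi19 ygi23 zgi34) (kgi xgi20 ygi28 zgi61) (kgi xgi29 ygi36 zgi5) (kgi xgi15 ygi30 zgi15) (kgi xgi17 ygi56 zgi16) (kgi xgi31 ygi51 zgi18) (kgi xgi19 ygi42 zgi50) (kgi xgi15 ygi30 zgi18) (kgi xgi16 ygi58 zgi46) (kgi xgi31 ygi53 zgi17) (kgi xgi29 ygi23 zgi32) (kgi xgi20 ygi1 zgi3) (kgi xgi15 ygi30 zgi28) (kgi xgi17 ygi10 zgi38) (kgi xgi17 ygi32 zgi17) (kgi xgi28 ygi37 zgi27) (kgi xgi20 ygi23 zgi21) (kgi xgi21 ygi46 zgi6) (kgi xgi16 ygi45 zgi59) (kgi xgi19 ygi49 zgi22) (kgi xgi15 ygi30 zgi36) (kgi xgi21 ygi15 zgi45) (kgi xgi15 ygi30 zgi42) (kgi xgi17 ygi4 zgi19) (kgi xgi18 ygi25 zgi24)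 (kgi xgi15 ygi30 zgi49) (kgi xgi20 ygi0 zgi10) (kgi xgi25 ygi25 zgi32) (kgi xgi18 ygi4 zgi19) (kgi xgi17 ygi45 zgi35) (kgi xgi27 ygi11 zgi17) (kgi xgi17 ygi52 zgi44) (kgi xgi28 ygi16 zgi18) (kgi xgi28 ygi7 zgi31) (kgi xgi18 ygi53 zgi12) (kgi xgi27 ygi6 zgi8)) (@D3.rec (fun _ => Pt) (kgi xgi26 ygi32 zgi30) (kgi xgi27 ygi47 zgi40) (kgi xgi28 ygi22 zgi19) (kgi xgi15 ygi31 zgi3) (kgi xgi25 ygi26 zgi43) (kgi xgi28 ygi8 zgi54) (kgi xgi15 ygi31 zgi4) (kgi xgi18 ygi31 zgi46) (kgi xgi15 ygi32 zgi30) (kgi xgi26 ygi11 zgi9) (kgi xgi28 ygi48 zgi22) (kgi xgi25 ygi24 zgi25) (kgi xgi26 ygi29 zgi39) (kgi xgi29 ygi3 zgi34) (kgi xgi15 ygi31 zgi11) (kgi xgi20 ygi59 zgi15) (kgi xgi29 ygi3 zgi43) (kgi xgi16 ygi49 zgi10) (kgi xgi27 ygi18 zgi37) (kgi xgi28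 ygi16 zgi4) (kgi xgi28 ygi58 zgi12) (kgi xgi26 ygi42 zgi15) (kgi xgi25 ygi7 zgi20) (kgi xgi25 ygi5 zgi58) (kgi xgi25 ygi25 zgi24) (kgi xgi25 ygi24 zgi8) (kgi xgi31 ygi17 zgi41) (kgi xgi15 ygi31 zgi22) (kgi xgi25 ygi25 zgi51) (kgi xgi31 ygi48 zgi50) (kgi xgi15 ygi31 zgi23) (kgi xgi30 ygi54 zgi33) (kgi xgi15 ygi41 zgi16) (kgi xgi26 ygi6 zgi52) (kgi xgi15 ygi31 zgi51) (kgi xgi20 ygi5 zgi16) (kgi xgi25 ygi26 zgi15) (kgi xgi25 ygi56 zgi45) (kgi xgi15 ygi31 zgi32) (kgi xgi25 ygi56 zgi35) (kgi xgi15 ygi31 zgi53) (kgi xgi15 ygi31 zgi42) (kgi xgi25 ygi26 zgi36) (kgi xgi23 ygi0 zgi51) (kgi xgi15 ygi31 zgi36) (kgi xgi25 ygi5 zgi29) (kgi xgi25 ygi26 zgi5) (kgi xgi31 ygi53 zgi30) (kgi xgi29 ygi23 zgi34) (kgi xgi23 ygi10 zgi38) (kgi xgi15 ygi31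 zgi44) (kgi xgi22 ygi2 zgi61) (kgi xgi21 ygi0 zgi26) (kgi xgi24 ygi14 zgi15) (kgi xgi15 ygi31 zgi50) (kgi xgi25 ygi5 zgi5) (kgi xgi24 ygi20 zgi31) (kgi xgi22 ygi6 zgi41) (kgi xgi28 ygi59 zgi25) (kgi xgi15 ygi31 zgi52) (kgi xgi16 ygi46 zgi47) (kgi xgi25 ygi26 zgi38)) (@D3.rec (fun _ => Pt) (kgi xgi19 ygi46 zgi40) (kgi xgi19 ygi8 zgi54) (kgi xgi22 ygi23 zgi3) (kgi xgi15 ygi31 zgi54) (kgi xgi16 ygi7 zgi6) (kgi xgi15 ygi46 zgi34) (kgi xgi15 ygi31 zgi55) (kgi xgi25 ygi25 zgi36) (kgi xgi25 ygi25 zgi37) (kgi xgi25 ygi26 zgi47) (kgi xgi31 ygi53 zgi37) (kgi xgi25 ygi26 zgi45) (kgi xgi30 ygi6 zgi2) (kgi xgi18 ygi55 zgi49) (kgi xgi15 ygi31 zgi60) (kgi xgi25 ygi26 zgi49) (kgi xgi19 ygi46 zgi34) (kgi xgi28 ygi56 zgi47) (kgi xgi28 ygi25 zgi19)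 (kgi xgi18 ygi56 zgi20) (kgi xgi30 ygi18 zgi18) (kgi xgi25 ygi24 zgi24) (kgi xgi25 ygi17 zgi0) (kgi xgi29 ygi22 zgi61) (kgi xgi27 ygi22 zgi26) (kgi xgi21 ygi51 zgi14) (kgi xgi15 ygi32 zgi8) (kgi xgi21 ygi52 zgi10) (kgi xgi30 ygi46 zgi1) (kgi xgi15 ygi32 zgi9) (kgi xgi23 ygi8 zgi56) (kgi xgi26 ygi10 zgi23) (kgi xgi15 ygi32 zgi10) (kgi xgi25 ygi23 zgi53) (kgi xgi15 ygi32 zgi12) (kgi xgi18 ygi54 zgi33) (kgi xgi25 ygi25 zgi6) (kgi xgi15 ygi32 zgi15) (kgi xgi25 ygi25 zgi8) (kgi xgi29 ygi24 zgi20) (kgi xgi28 ygi16 zgi13) (kgi xgi18 ygi9 zgi53) (kgi xgi24 ygi17 zgi1) (kgi xgi29 ygi47 zgi42) (kgi xgi31 ygi38 zgi52) (kgi xgi22 ygi54 zgi54) (kgi xgi22 ygi54 zgi40) (kgi xgi22 ygi52 zgi54) (kgi xgi15 ygi32 zgi24) (kgi xgi29 ygi47 zgi44) (kgi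 xgi29 ygi50 zgi9) (kgi xgi25 ygi24 zgi27) (kgi xgi15 ygi32 zgi31) (kgi xgi17 ygi16 zgi61) (kgi xgi25 ygi59 zgi21) (kgi xgi15 ygi35 zgi0) (kgi xgi23 ygi7 zgi56) (kgi xgi22 ygi56 zgi17) (kgi xgi16 ygi10 zgi9) (kgi xgi25 ygi25 zgi0) (kgi xgi25 ygi24 zgi44) (kgi xgi29 ygi48 zgi41)) (@D3.rec (fun _ => Pt) (kgi xgi25 ygi24 zgi43) (kgi xgi19 ygi39 zgi17) (kgi xgi31 ygi26 zgi61) (kgi xgi25 ygi29 zgi57) (kgi xgi23 ygi19 zgi13) (kgi xgi23 ygi9 zgi21) (kgi xgi23 ygi55 zgi45) (kgi xgi24 ygi18 zgi36) (kgi xgi24 ygi4 zgi0) (kgi xgi24 ygi4 zgi1) (kgi xgi19 ygi34 zgi51) (kgi xgi28 ygi16 zgi5) (kgi xgi29 ygi48 zgi38) (kgi xgi17 ygi31 zgi55) (kgi xgi25 ygi24 zgi36) (kgi xgi25 ygi5 zgi50) (kgi xgi20 ygi20 zgi40) (kgi xgi15 ygi32 zgi57) (kgi xgi24 ygi48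 zgi16) (kgi xgi19 ygi31 zgi35) (kgi xgi15 ygi32 zgi58) (kgi xgi19 ygi46 zgi29) (kgi xgi28 ygi15 zgi33) (kgi xgi27 ygi51 zgi48) (kgi xgi24 ygi47 zgi59) (kgi xgi31 ygi53 zgi55) (kgi xgi28 ygi16 zgi49) (kgi xgi15 ygi33 zgi1) (kgi xgi31 ygi25 zgi12) (kgi xgi28 ygi23 zgi31) (kgi xgi18 ygi47 zgi14) (kgi xgi28 ygi15 zgi53) (kgi xgi25 ygi5 zgi32) (kgi xgi15 ygi33 zgi3) (kgi xgi19 ygi34 zgi50) (kgi xgi21 ygi24 zgi8) (kgi xgi25 ygi24 zgi40) (kgi xgi29 ygi34 zgi45) (kgi xgi15 ygi33 zgi5) (kgi xgi25 ygi24 zgi61) (kgi xgi19 ygi35 zgi38) (kgi xgi15 ygi33 zgi8) (kgi xgi20 ygi11 zgi56) (kgi xgi25 ygi24 zgi3) (kgi xgi29 ygi24 zgi23) (kgi xgi15 ygi33 zgi9) (kgi xgi30 ygi30 zgi7) (kgi xgi22 ygi47 zgi40) (kgi xgi15 ygi38 zgi55) (kgi xgi25 ygi25 zgi14)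 (kgi xgi18 ygi51 zgi9) (kgi xgi29 ygi9 zgi31) (kgi xgi24 ygi45 zgi43) (kgi xgi15 ygi36 zgi43) (kgi xgi19 ygi26 zgi16) (kgi xgi18 ygi52 zgi58) (kgi xgi15 ygi33 zgi23) (kgi xgi15 ygi35 zgi7) (kgi xgi31 ygi1 zgi53) (kgi xgi21 ygi58 zgi55) (kgi xgi15 ygi37 zgi3) (kgi xgi15 ygi37 zgi1)) (@D3.rec (fun _ => Pt) (kgi xgi27 ygi49 zgi34) (kgi xgi31 ygi53 zgi34) (kgi xgi30 ygi47 zgi10) (kgi xgi15 ygi35 zgi50) (kgi xgi21 ygi27 zgi11) (kgi xgi16 ygi0 zgi36) (kgi xgi15 ygi57 zgi26) (kgi xgi25 ygi57 zgi57) (kgi xgi15 ygi35 zgi59) (kgi xgi15 ygi57 zgi40) (kgi xgi22 ygi8 zgi12) (kgi xgi25 ygi26 zgi3) (kgi xgi25 ygi54 zgi56) (kgi xgi31 ygi54 zgi9) (kgi xgi15 ygi35 zgi38) (kgi xgi23 ygi22 zgi16) (kgi xgi15 ygi33 zgi39) (kgi xgi25 ygi43 zgi30) (kgi xgi21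 ygi0 zgi32) (kgi xgi21 ygi57 zgi43) (kgi xgi25 ygi22 zgi7) (kgi xgi15 ygi37 zgi22) (kgi xgi16 ygi37 zgi46) (kgi xgi15 ygi37 zgi19) (kgi xgi27 ygi11 zgi28) (kgi xgi25 ygi55 zgi7) (kgi xgi25 ygi54 zgi24) (kgi xgi15 ygi41 zgi22) (kgi xgi15 ygi38 zgi49) (kgi xgi31 ygi25 zgi45) (kgi xgi27 ygi19 zgi33) (kgi xgi31 ygi45 zgi56) (kgi xgi15 ygi38 zgi9) (kgi xgi28 ygi42 zgi9) (kgi xgi25 ygi55 zgi1) (kgi xgi15 ygi33 zgi54) (kgi xgi15 ygi38 zgi21) (kgi xgi19 ygi38 zgi18) (kgi xgi15 ygi38 zgi18) (kgi xgi15 ygi37 zgi61) (kgi xgi25 ygi57 zgi6) (kgi xgi15 ygi59 zgi50) (kgi xgi20 ygi29 zgi37) (kgi xgi15 ygi34 zgi0) (kgi xgi29 ygi50 zgi44) (kgi xgi24 ygi38 zgi49) (kgi xgi29 ygi0 zgi25) (kgi xgi15 ygi38 zgi57) (kgi xgi19 ygi25 zgi40) (kgi xgi21 ygi39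 zgi28) (kgi xgi25 ygi57 zgi26) (kgi xgi27 ygi38 zgi40) (kgi xgi15 ygi46 zgi29) (kgi xgi15 ygi41 zgi11) (kgi xgi15 ygi40 zgi50) (kgi xgi15 ygi39 zgi55) (kgi xgi15 ygi51 zgi37) (kgi xgi15 ygi34 zgi12) (kgi xgi29 ygi28 zgi14) (kgi xgi15 ygi34 zgi13) (kgi xgi15 ygi39 zgi45) (kgi xgi25 ygi33 zgi42)) (@D3.rec (fun _ => Pt) (kgi xgi15 ygi40 zgi23) (kgi xgi23 ygi24 zgi15) (kgi xgi15 ygi34 zgi39) (kgi xgi15 ygi34 zgi23) (kgi xgi23 ygi23 zgi14) (kgi xgi15 ygi40 zgi43) (kgi xgi25 ygi58 zgi11) (kgi xgi15 ygi34 zgi19) (kgi xgi30 ygi6 zgi8) (kgi xgi30 ygi47 zgi50) (kgi xgi15 ygi39 zgi46) (kgi xgi20 ygi29 zgi43) (kgi xgi15 ygi54 zgi57) (kgi xgi25 ygi41 zgi2) (kgi xgi15 ygi39 zgi17) (kgi xgi30 ygi50 zgi22) (kgi xgi25 ygi51 zgi12) (kgi xgi19 ygi48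 zgi34) (kgi xgi25 ygi42 zgi7) (kgi xgi25 ygi57 zgi1) (kgi xgi25 ygi13 zgi21) (kgi xgi15 ygi34 zgi25) (kgi xgi15 ygi34 zgi28) (kgi xgi28 ygi57 zgi45) (kgi xgi30 ygi14 zgi39) (kgi xgi30 ygi54 zgi60) (kgi xgi25 ygi13 zgi28) (kgi xgi29 ygi50 zgi26) (kgi xgi28 ygi23 zgi40) (kgi xgi31 ygi54 zgi16) (kgi xgi28 ygi0 zgi15) (kgi xgi30 ygi19 zgi49) (kgi xgi28 ygi15 zgi41) (kgi xgi26 ygi24 zgi37) (kgi xgi18 ygi52 zgi9) (kgi xgi15 ygi34 zgi35) (kgi xgi29 ygi15 zgi27) (kgi xgi16 ygi20 zgi61) (kgi xgi15 ygi34 zgi36) (kgi xgi15 ygi39 zgi48) (kgi xgi31 ygi54 zgi25) (kgi xgi19 ygi45 zgi46) (kgi xgi15 ygi40 zgi46) (kgi xgi30 ygi55 zgi37) (kgi xgi26 ygi42 zgi5) (kgi xgi15 ygi34 zgi43) (kgi xgi17 ygi37 zgi23) (kgi xgi17 ygi37 zgi21) (kgi xgi21 ygi17 zgi15)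 (kgi xgi17 ygi41 zgi17) (kgi xgi30 ygi19 zgi32) (kgi xgi17 ygi40 zgi17) (kgi xgi15 ygi34 zgi47) (kgi xgi17 ygi40 zgi56) (kgi xgi17 ygi36 zgi37) (kgi xgi27 ygi25 zgi61) (kgi xgi15 ygi34 zgi48) (kgi xgi22 ygi11 zgi31) (kgi xgi15 ygi34 zgi49) (kgi xgi17 ygi41 zgi14) (kgi xgi17 ygi41 zgi11) (kgi xgi16 ygi50 zgi1)) (@D3.rec (fun _ => Pt) (kgi xgi25 ygi23 zgi19) (kgi xgi31 ygi39 zgi61) (kgi xgi18 ygi51 zgi5) (kgi xgi19 ygi36 zgi40) (kgi xgi19 ygi36 zgi27) (kgi xgi29 ygi11 zgi11) (kgi xgi25 ygi4 zgi39) (kgi xgi24 ygi17 zgi29) (kgi xgi30 ygi54 zgi46) (kgi xgi19 ygi26 zgi13) (kgi xgi17 ygi52 zgi40) (kgi xgi31 ygi54 zgi28) (kgi xgi25 ygi13 zgi36) (kgi xgi15 ygi37 zgi25) (kgi xgi25 ygi29 zgi50) (kgi xgi19 ygi35 zgi58) (kgi xgi15 ygi37 zgi0)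 (kgi xgi30 ygi8 zgi46) (kgi xgi27 ygi26 zgi36) (kgi xgi25 ygi43 zgi6) (kgi xgi26 ygi16 zgi55) (kgi xgi15 ygi35 zgi46) (kgi xgi15 ygi37 zgi17) (kgi xgi15 ygi36 zgi55) (kgi xgi28 ygi20 zgi29) (kgi xgi27 ygi59 zgi29) (kgi xgi22 ygi55 zgi50) (kgi xgi15 ygi35 zgi21) (kgi xgi15 ygi35 zgi48) (kgi xgi15 ygi35 zgi28) (kgi xgi28 ygi57 zgi34) (kgi xgi25 ygi32 zgi54) (kgi xgi22 ygi1 zgi56) (kgi xgi25 ygi33 zgi19) (kgi xgi30 ygi17 zgi48) (kgi xgi15 ygi35 zgi27) (kgi xgi22 ygi3 zgi2) (kgi xgi17 ygi53 zgi59) (kgi xgi25 ygi43 zgi17) (kgi xgi21 ygi58 zgi53) (kgi xgi15 ygi35 zgi33) (kgi xgi26 ygi12 zgi20) (kgi xgi26 ygi11 zgi44) (kgi xgi27 ygi48 zgi21) (kgi xgi27 ygi6 zgi19) (kgi xgi15 ygi35 zgi31) (kgi xgi15 ygi59 zgi53) (kgi xgi26 ygi1 zgi3) (kgi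 xgi15 ygi35 zgi32) (kgi xgi25 ygi54 zgi53) (kgi xgi25 ygi29 zgi12) (kgi xgi29 ygi49 zgi18) (kgi xgi17 ygi42 zgi48) (kgi xgi17 ygi29 zgi56) (kgi xgi16 ygi1 zgi26) (kgi xgi25 ygi53 zgi32) (kgi xgi31 ygi54 zgi44) (kgi xgi25 ygi53 zgi29) (kgi xgi29 ygi23 zgi54) (kgi xgi31 ygi54 zgi47) (kgi xgi15 ygi35 zgi37) (kgi xgi30 ygi40 zgi45)) (@D3.rec (fun _ => Pt) (kgi xgi15 ygi35 zgi42) (kgi xgi31 ygi46 zgi38) (kgi xgi16 ygi1 zgi14) (kgi xgi29 ygi37 zgi18) (kgi xgi26 ygi3 zgi46) (kgi xgi31 ygi36 zgi2) (kgi xgi15 ygi35 zgi41) (kgi xgi31 ygi36 zgi3) (kgi xgi31 ygi54 zgi55) (kgi xgi31 ygi54 zgi46) (kgi xgi17 ygi14 zgi43) (kgi xgi27 ygi18 zgi11) (kgi xgi27 ygi18 zgi21) (kgi xgi29 ygi56 zgi55) (kgi xgi23 ygi39 zgi48) (kgi xgi25 ygi26 zgi40) (kgi xgi31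 ygi54 zgi35) (kgi xgi21 ygi27 zgi22) (kgi xgi31 ygi53 zgi33) (kgi xgi15 ygi35 zgi52) (kgi xgi31 ygi47 zgi58) (kgi xgi19 ygi45 zgi58) (kgi xgi30 ygi10 zgi44) (kgi xgi15 ygi35 zgi54) (kgi xgi31 ygi54 zgi60) (kgi xgi17 ygi28 zgi6) (kgi xgi21 ygi27 zgi10) (kgi xgi17 ygi10 zgi23) (kgi xgi31 ygi7 zgi35) (kgi xgi27 ygi18 zgi15) (kgi xgi31 ygi46 zgi35) (kgi xgi25 ygi53 zgi49) (kgi xgi23 ygi41 zgi19) (kgi xgi16 ygi2 zgi32) (kgi xgi31 ygi54 zgi36) (kgi xgi26 ygi16 zgi52) (kgi xgi29 ygi57 zgi3) (kgi xgi28 ygi17 zgi48) (kgi xgi29 ygi5 zgi26) (kgi xgi15 ygi35 zgi61) (kgi xgi31 ygi54 zgi7) (kgi xgi31 ygi55 zgi7) (kgi xgi31 ygi55 zgi9) (kgi xgi25 ygi57 zgi55) (kgi xgi17 ygi28 zgi25) (kgi xgi27 ygi17 zgi51) (kgi xgi19 ygi46 zgi2) (kgi xgi29 ygi57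 zgi20) (kgi xgi18 ygi45 zgi2) (kgi xgi16 ygi0 zgi35) (kgi xgi29 ygi4 zgi52) (kgi xgi25 ygi46 zgi49) (kgi xgi16 ygi45 zgi52) (kgi xgi23 ygi6 zgi61) (kgi xgi15 ygi36 zgi12) (kgi xgi15 ygi36 zgi13) (kgi xgi27 ygi59 zgi32) (kgi xgi19 ygi12 zgi51) (kgi xgi28 ygi18 zgi40) (kgi xgi25 ygi46 zgi47) (kgi xgi28 ygi22 zgi11) (kgi xgi18 ygi47 zgi27)) (@D3.rec (fun _ => Pt) (kgi xgi22 ygi3 zgi6) (kgi xgi17 ygi48 zgi50) (kgi xgi29 ygi32 zgi56) (kgi xgi30 ygi1 zgi26) (kgi xgi22 ygi10 zgi29) (kgi xgi27 ygi4 zgi0) (kgi xgi15 ygi36 zgi34) (kgi xgi16 ygi48 zgi51) (kgi xgi17 ygi30 zgi59) (kgi xgi20 ygi14 zgi32) (kgi xgi20 ygi14 zgi30) (kgi xgi15 ygi36 zgi37) (kgi xgi20 ygi12 zgi31) (kgi xgi26 ygi6 zgi4) (kgi xgi31 ygi50 zgi10) (kgi xgi17 ygi48 zgi56)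 (kgi xgi29 ygi1 zgi22) (kgi xgi19 ygi19 zgi12) (kgi xgi19 ygi36 zgi25) (kgi xgi19 ygi36 zgi11) (kgi xgi15 ygi36 zgi47) (kgi xgi19 ygi38 zgi22) (kgi xgi28 ygi57 zgi26) (kgi xgi25 ygi33 zgi37) (kgi xgi28 ygi31 zgi14) (kgi xgi15 ygi36 zgi54) (kgi xgi15 ygi58 zgi25) (kgi xgi15 ygi46 zgi58) (kgi xgi25 ygi40 zgi37) (kgi xgi28 ygi57 zgi40) (kgi xgi19 ygi16 zgi46) (kgi xgi22 ygi2 zgi1) (kgi xgi21 ygi27 zgi37) (kgi xgi18 ygi9 zgi19) (kgi xgi18 ygi12 zgi21) (kgi xgi30 ygi6 zgi45) (kgi xgi21 ygi58 zgi57) (kgi xgi30 ygi6 zgi53) (kgi xgi26 ygi32 zgi2) (kgi xgi26 ygi41 zgi44) (kgi xgi15 ygi37 zgi7) (kgi xgi24 ygi13 zgi43) (kgi xgi31 ygi45 zgi55) (kgi xgi24 ygi14 zgi9) (kgi xgi15 ygi37 zgi5) (kgi xgi18 ygi47 zgi8) (kgi xgi28 ygi58 zgi8) (kgi xgi22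 ygi3 zgi34) (kgi xgi25 ygi55 zgi0) (kgi xgi22 ygi2 zgi38) (kgi xgi28 ygi48 zgi32) (kgi xgi29 ygi44 zgi30) (kgi xgi22 ygi2 zgi45) (kgi xgi31 ygi21 zgi38) (kgi xgi29 ygi6 zgi60) (kgi xgi15 ygi37 zgi15) (kgi xgi15 ygi37 zgi18) (kgi xgi31 ygi55 zgi26) (kgi xgi16 ygi40 zgi8) (kgi xgi22 ygi8 zgi15) (kgi xgi31 ygi55 zgi25) (kgi xgi28 ygi58 zgi14)) (@D3.rec (fun _ => Pt) (kgi xgi28 ygi56 zgi58) (kgi xgi28 ygi58 zgi9) (kgi xgi28 ygi52 zgi43) (kgi xgi26 ygi42 zgi23) (kgi xgi29 ygi45 zgi27) (kgi xgi27 ygi36 zgi36) (kgi xgi28 ygi49 zgi2) (kgi xgi29 ygi45 zgi28) (kgi xgi24 ygi11 zgi49) (kgi xgi24 ygi41 zgi19) (kgi xgi19 ygi24 zgi51) (kgi xgi15 ygi37 zgi24) (kgi xgi15 ygi37 zgi26) (kgi xgi31 ygi55 zgi24) (kgi xgi25 ygi51 zgi18) (kgi xgi25 ygi15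 zgi31) (kgi xgi31 ygi55 zgi23) (kgi xgi25 ygi59 zgi55) (kgi xgi19 ygi25 zgi34) (kgi xgi24 ygi9 zgi60) (kgi xgi19 ygi25 zgi32) (kgi xgi25 ygi47 zgi20) (kgi xgi17 ygi26 zgi32) (kgi xgi19 ygi24 zgi13) (kgi xgi15 ygi37 zgi31) (kgi xgi31 ygi55 zgi36) (kgi xgi31 ygi55 zgi40) (kgi xgi31 ygi55 zgi43) (kgi xgi31 ygi39 zgi7) (kgi xgi15 ygi37 zgi32) (kgi xgi25 ygi51 zgi39) (kgi xgi29 ygi34 zgi24) (kgi xgi19 ygi29 zgi2) (kgi xgi29 ygi13 zgi7) (kgi xgi16 ygi44 zgi3) (kgi xgi18 ygi44 zgi27) (kgi xgi19 ygi29 zgi27) (kgi xgi15 ygi37 zgi38) (kgi xgi17 ygi25 zgi18) (kgi xgi15 ygi40 zgi10) (kgi xgi16 ygi18 zgi52) (kgi xgi17 ygi40 zgi38) (kgi xgi17 ygi39 zgi11) (kgi xgi15 ygi37 zgi42) (kgi xgi17 ygi40 zgi21) (kgi xgi31 ygi55 zgi49) (kgi xgi15 ygi37 zgi43)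 (kgi xgi27 ygi3 zgi60) (kgi xgi26 ygi5 zgi9) (kgi xgi20 ygi3 zgi60) (kgi xgi15 ygi38 zgi42) (kgi xgi25 ygi29 zgi26) (kgi xgi27 ygi19 zgi58) (kgi xgi19 ygi48 zgi35) (kgi xgi15 ygi38 zgi8) (kgi xgi15 ygi37 zgi54) (kgi xgi19 ygi47 zgi58) (kgi xgi25 ygi29 zgi31) (kgi xgi21 ygi39 zgi27) (kgi xgi31 ygi54 zgi39) (kgi xgi25 ygi7 zgi1) (kgi xgi27 ygi31 zgi53)) (@D3.rec (fun _ => Pt) (kgi xgi31 ygi54 zgi14) (kgi xgi20 ygi43 zgi43) (kgi xgi15 ygi38 zgi6) (kgi xgi24 ygi37 zgi43) (kgi xgi15 ygi38 zgi3) (kgi xgi16 ygi27 zgi42) (kgi xgi27 ygi21 zgi56) (kgi xgi15 ygi38 zgi1) (kgi xgi31 ygi54 zgi13) (kgi xgi29 ygi36 zgi24) (kgi xgi15 ygi38 zgi2) (kgi xgi24 ygi35 zgi25) (kgi xgi24 ygi36 zgi50) (kgi xgi15 ygi46 zgi38) (kgi xgi25 ygi53 zgi47) (kgi xgi29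 ygi48 zgi48) (kgi xgi15 ygi38 zgi5) (kgi xgi24 ygi37 zgi31) (kgi xgi25 ygi29 zgi27) (kgi xgi15 ygi46 zgi53) (kgi xgi30 ygi48 zgi11) (kgi xgi25 ygi5 zgi41) (kgi xgi27 ygi21 zgi19) (kgi xgi29 ygi7 zgi5) (kgi xgi31 ygi31 zgi58) (kgi xgi15 ygi38 zgi11) (kgi xgi31 ygi31 zgi27) (kgi xgi28 ygi59 zgi26) (kgi xgi29 ygi50 zgi48) (kgi xgi15 ygi38 zgi13) (kgi xgi29 ygi6 zgi52) (kgi xgi31 ygi36 zgi15) (kgi xgi25 ygi41 zgi50) (kgi xgi21 ygi39 zgi30) (kgi xgi19 ygi16 zgi1) (kgi xgi28 ygi58 zgi23) (kgi xgi29 ygi17 zgi60) (kgi xgi24 ygi50 zgi5) (kgi xgi27 ygi20 zgi4) (kgi xgi25 ygi27 zgi61) (kgi xgi25 ygi49 zgi9) (kgi xgi28 ygi30 zgi34) (kgi xgi25 ygi35 zgi5) (kgi xgi31 ygi41 zgi21) (kgi xgi15 ygi38 zgi20) (kgi xgi31 ygi54 zgi12) (kgi xgi25 ygi9 zgi45)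 (kgi xgi19 ygi38 zgi48) (kgi xgi31 ygi56 zgi5) (kgi xgi25 ygi21 zgi28) (kgi xgi15 ygi38 zgi26) (kgi xgi19 ygi38 zgi23) (kgi xgi15 ygi38 zgi28) (kgi xgi25 ygi9 zgi42) (kgi xgi22 ygi21 zgi20) (kgi xgi16 ygi17 zgi51) (kgi xgi28 ygi9 zgi60) (kgi xgi26 ygi59 zgi0) (kgi xgi29 ygi58 zgi40) (kgi xgi27 ygi6 zgi6) (kgi xgi18 ygi58 zgi30) (kgi xgi22 ygi34 zgi51)) (@D3.rec (fun _ => Pt) (kgi xgi27 ygi34 zgi22) (kgi xgi21 ygi39 zgi43) (kgi xgi25 ygi42 zgi24) (kgi xgi15 ygi47 zgi21) (kgi xgi25 ygi53 zgi37) (kgi xgi19 ygi26 zgi49) (kgi xgi22 ygi53 zgi30) (kgi xgi27 ygi49 zgi45) (kgi xgi21 ygi39 zgi48) (kgi xgi18 ygi32 zgi60) (kgi xgi15 ygi38 zgi51) (kgi xgi17 ygi51 zgi6) (kgi xgi26 ygi31 zgi40) (kgi xgi31 ygi23 zgi29) (kgi xgi31 ygi23 zgi30) (kgi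 xgi22 ygi2 zgi35) (kgi xgi22 ygi53 zgi27) (kgi xgi15 ygi46 zgi56) (kgi xgi21 ygi39 zgi51) (kgi xgi31 ygi56 zgi7) (kgi xgi24 ygi35 zgi53) (kgi xgi28 ygi18 zgi19) (kgi xgi25 ygi53 zgi40) (kgi xgi15 ygi46 zgi44) (kgi xgi31 ygi25 zgi58) (kgi xgi27 ygi22 zgi44) (kgi xgi19 ygi29 zgi8) (kgi xgi22 ygi16 zgi35) (kgi xgi31 ygi15 zgi35) (kgi xgi17 ygi23 zgi10) (kgi xgi15 ygi40 zgi22) (kgi xgi15 ygi39 zgi18) (kgi xgi24 ygi44 zgi29) (kgi xgi27 ygi40 zgi31) (kgi xgi31 ygi37 zgi32) (kgi xgi15 ygi39 zgi16) (kgi xgi15 ygi46 zgi51) (kgi xgi28 ygi23 zgi49) (kgi xgi20 ygi12 zgi45) (kgi xgi24 ygi23 zgi5) (kgi xgi15 ygi39 zgi22) (kgi xgi15 ygi39 zgi33) (kgi xgi15 ygi39 zgi30) (kgi xgi20 ygi54 zgi57) (kgi xgi26 ygi0 zgi1) (kgi xgi29 ygi51 zgi7) (kgi xgi29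 ygi51 zgi8) (kgi xgi31 ygi35 zgi46) (kgi xgi26 ygi24 zgi22) (kgi xgi29 ygi35 zgi27) (kgi xgi31 ygi35 zgi47) (kgi xgi25 ygi11 zgi21) (kgi xgi25 ygi54 zgi15) (kgi xgi28 ygi42 zgi20) (kgi xgi28 ygi41 zgi13) (kgi xgi21 ygi58 zgi23) (kgi xgi30 ygi7 zgi11) (kgi xgi15 ygi39 zgi32) (kgi xgi29 ygi35 zgi0) (kgi xgi28 ygi42 zgi24) (kgi xgi26 ygi5 zgi44) (kgi xgi21 ygi5 zgi36)) (@D3.rec (fun _ => Pt) (kgi xgi28 ygi48 zgi24) (kgi xgi29 ygi35 zgi58) (kgi xgi31 ygi43 zgi38) (kgi xgi15 ygi39 zgi44) (kgi xgi29 ygi36 zgi15) (kgi xgi25 ygi33 zgi39) (kgi xgi31 ygi54 zgi24) (kgi xgi17 ygi44 zgi27) (kgi xgi15 ygi40 zgi31) (kgi xgi27 ygi37 zgi28) (kgi xgi31 ygi44 zgi35) (kgi xgi25 ygi53 zgi56) (kgi xgi27 ygi38 zgi2) (kgi xgi15 ygi40 zgi0) (kgi xgi15 ygi39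 zgi59) (kgi xgi27 ygi38 zgi39) (kgi xgi19 ygi30 zgi28) (kgi xgi21 ygi5 zgi1) (kgi xgi15 ygi40 zgi15) (kgi xgi27 ygi37 zgi25) (kgi xgi15 ygi39 zgi57) (kgi xgi17 ygi24 zgi17) (kgi xgi27 ygi38 zgi37) (kgi xgi27 ygi25 zgi28) (kgi xgi31 ygi56 zgi12) (kgi xgi29 ygi48 zgi32) (kgi xgi15 ygi39 zgi61) (kgi xgi29 ygi28 zgi13) (kgi xgi29 ygi36 zgi26) (kgi xgi15 ygi40 zgi27) (kgi xgi17 ygi26 zgi17) (kgi xgi25 ygi14 zgi32) (kgi xgi15 ygi40 zgi36) (kgi xgi30 ygi49 zgi19) (kgi xgi31 ygi36 zgi7) (kgi xgi25 ygi43 zgi20) (kgi xgi24 ygi58 zgi24) (kgi xgi17 ygi29 zgi17) (kgi xgi26 ygi25 zgi36) (kgi xgi28 ygi57 zgi48) (kgi xgi17 ygi29 zgi13) (kgi xgi24 ygi8 zgi48) (kgi xgi29 ygi53 zgi54) (kgi xgi15 ygi40 zgi16) (kgi xgi17 ygi29 zgi15) (kgi xgi15 ygi46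 zgi42) (kgi xgi15 ygi40 zgi18) (kgi xgi17 ygi20 zgi20) (kgi xgi28 ygi21 zgi7) (kgi xgi19 ygi26 zgi4) (kgi xgi15 ygi40 zgi21) (kgi xgi26 ygi33 zgi61) (kgi xgi15 ygi40 zgi34) (kgi xgi31 ygi55 zgi57) (kgi xgi31 ygi54 zgi8) (kgi xgi15 ygi40 zgi25) (kgi xgi15 ygi57 zgi32) (kgi xgi24 ygi38 zgi60) (kgi xgi30 ygi50 zgi54) (kgi xgi17 ygi25 zgi38) (kgi xgi17 ygi11 zgi46) (kgi xgi17 ygi53 zgi53)) (@D3.rec (fun _ => Pt) (kgi xgi27 ygi44 zgi11) (kgi xgi17 ygi25 zgi37) (kgi xgi15 ygi40 zgi29) (kgi xgi30 ygi47 zgi25) (kgi xgi30 ygi20 zgi1) (kgi xgi29 ygi53 zgi48) (kgi xgi15 ygi40 zgi32) (kgi xgi20 ygi43 zgi59) (kgi xgi25 ygi56 zgi34) (kgi xgi24 ygi0 zgi34) (kgi xgi23 ygi53 zgi10) (kgi xgi15 ygi40 zgi38) (kgi xgi28 ygi19 zgi29) (kgi xgi18 ygi55 zgi29)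 (kgi xgi15 ygi40 zgi40) (kgi xgi30 ygi19 zgi50) (kgi xgi15 ygi40 zgi45) (kgi xgi31 ygi17 zgi31) (kgi xgi31 ygi36 zgi41) (kgi xgi31 ygi38 zgi35) (kgi xgi15 ygi40 zgi48) (kgi xgi31 ygi54 zgi27) (kgi xgi29 ygi3 zgi51) (kgi xgi19 ygi45 zgi42) (kgi xgi15 ygi40 zgi52) (kgi xgi24 ygi16 zgi60) (kgi xgi22 ygi54 zgi53) (kgi xgi31 ygi25 zgi11) (kgi xgi29 ygi50 zgi47) (kgi xgi16 ygi46 zgi3) (kgi xgi28 ygi53 zgi32) (kgi xgi18 ygi55 zgi25) (kgi xgi15 ygi40 zgi61) (kgi xgi27 ygi15 zgi52) (kgi xgi15 ygi58 zgi6) (kgi xgi23 ygi1 zgi34) (kgi xgi15 ygi41 zgi6) (kgi xgi29 ygi43 zgi48) (kgi xgi29 ygi12 zgi43) (kgi xgi23 ygi45 zgi21) (kgi xgi16 ygi7 zgi60) (kgi xgi25 ygi29 zgi0) (kgi xgi31 ygi52 zgi55) (kgi xgi16 ygi45 zgi43) (kgi xgi31 ygi56 zgi37) (kgi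 xgi30 ygi19 zgi35) (kgi xgi30 ygi17 zgi19) (kgi xgi16 ygi8 zgi20) (kgi xgi25 ygi27 zgi25) (kgi xgi31 ygi0 zgi32) (kgi xgi15 ygi41 zgi15) (kgi xgi15 ygi41 zgi23) (kgi xgi25 ygi4 zgi29) (kgi xgi15 ygi41 zgi18) (kgi xgi17 ygi42 zgi39) (kgi xgi16 ygi14 zgi16) (kgi xgi21 ygi50 zgi46) (kgi xgi27 ygi4 zgi60) (kgi xgi29 ygi16 zgi50) (kgi xgi21 ygi5 zgi10) (kgi xgi15 ygi59 zgi37) (kgi xgi16 ygi4 zgi13)) (@D3.rec (fun _ => Pt) (kgi xgi22 ygi46 zgi6) (kgi xgi15 ygi46 zgi10) (kgi xgi25 ygi39 zgi21) (kgi xgi15 ygi41 zgi31) (kgi xgi15 ygi43 zgi25) (kgi xgi30 ygi2 zgi0) (kgi xgi26 ygi3 zgi52) (kgi xgi25 ygi37 zgi15) (kgi xgi31 ygi7 zgi34) (kgi xgi16 ygi6 zgi1) (kgi xgi15 ygi53 zgi53) (kgi xgi15 ygi41 zgi39) (kgi xgi15 ygi42 zgi49) (kgi xgi31 ygi56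 zgi46) (kgi xgi23 ygi2 zgi52) (kgi xgi16 ygi7 zgi10) (kgi xgi15 ygi41 zgi42) (kgi xgi15 ygi42 zgi60) (kgi xgi30 ygi41 zgi5) (kgi xgi25 ygi42 zgi56) (kgi xgi20 ygi54 zgi48) (kgi xgi26 ygi0 zgi60) (kgi xgi18 ygi44 zgi17) (kgi xgi29 ygi11 zgi16) (kgi xgi31 ygi56 zgi55) (kgi xgi19 ygi58 zgi7) (kgi xgi29 ygi14 zgi27) (kgi xgi25 ygi19 zgi18) (kgi xgi17 ygi52 zgi52) (kgi xgi31 ygi40 zgi4) (kgi xgi31 ygi52 zgi50) (kgi xgi31 ygi56 zgi58) (kgi xgi15 ygi41 zgi56) (kgi xgi20 ygi43 zgi52) (kgi xgi31 ygi41 zgi49) (kgi xgi30 ygi26 zgi59) (kgi xgi15 ygi41 zgi57) (kgi xgi31 ygi52 zgi3) (kgi xgi19 ygi59 zgi34) (kgi xgi25 ygi21 zgi24) (kgi xgi25 ygi36 zgi61) (kgi xgi27 ygi4 zgi11) (kgi xgi20 ygi16 zgi24) (kgi xgi27 ygi4 zgi9) (kgi xgi15 ygi42 zgi4)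 (kgi xgi19 ygi53 zgi16) (kgi xgi19 ygi26 zgi26) (kgi xgi23 ygi59 zgi14) (kgi xgi25 ygi44 zgi12) (kgi xgi30 ygi8 zgi21) (kgi xgi15 ygi42 zgi7) (kgi xgi16 ygi5 zgi36) (kgi xgi26 ygi1 zgi39) (kgi xgi21 ygi6 zgi37) (kgi xgi20 ygi58 zgi47) (kgi xgi16 ygi15 zgi4) (kgi xgi22 ygi31 zgi9) (kgi xgi15 ygi42 zgi15) (kgi xgi31 ygi57 zgi3) (kgi xgi30 ygi10 zgi18) (kgi xgi22 ygi31 zgi10) (kgi xgi31 ygi10 zgi42)) (@D3.rec (fun _ => Pt) (kgi xgi28 ygi42 zgi48) (kgi xgi15 ygi43 zgi58) (kgi xgi30 ygi1 zgi32) (kgi xgi26 ygi1 zgi33) (kgi xgi28 ygi56 zgi54) (kgi xgi23 ygi42 zgi23) (kgi xgi31 ygi57 zgi8) (kgi xgi31 ygi7 zgi36) (kgi xgi25 ygi40 zgi53) (kgi xgi26 ygi54 zgi56) (kgi xgi15 ygi42 zgi25) (kgi xgi24 ygi27 zgi26) (kgi xgi25 ygi41 zgi42) (kgi xgi15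 ygi42 zgi26) (kgi xgi19 ygi26 zgi21) (kgi xgi23 ygi49 zgi34) (kgi xgi15 ygi42 zgi27) (kgi xgi19 ygi47 zgi7) (kgi xgi16 ygi5 zgi37) (kgi xgi26 ygi12 zgi36) (kgi xgi15 ygi42 zgi44) (kgi xgi15 ygi42 zgi36) (kgi xgi26 ygi1 zgi57) (kgi xgi24 ygi35 zgi4) (kgi xgi25 ygi41 zgi14) (kgi xgi23 ygi2 zgi43) (kgi xgi15 ygi42 zgi32) (kgi xgi16 ygi41 zgi46) (kgi xgi26 ygi47 zgi27) (kgi xgi29 ygi11 zgi8) (kgi xgi15 ygi42 zgi34) (kgi xgi25 ygi41 zgi30) (kgi xgi31 ygi3 zgi16) (kgi xgi25 ygi41 zgi27) (kgi xgi15 ygi42 zgi35) (kgi xgi31 ygi57 zgi20) (kgi xgi17 ygi38 zgi34) (kgi xgi24 ygi52 zgi32) (kgi xgi27 ygi57 zgi6) (kgi xgi15 ygi42 zgi41) (kgi xgi24 ygi20 zgi13) (kgi xgi28 ygi40 zgi56) (kgi xgi19 ygi18 zgi32) (kgi xgi29 ygi6 zgi13) (kgi xgi24 ygi48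 zgi39) (kgi xgi31 ygi57 zgi22) (kgi xgi31 ygi32 zgi20) (kgi xgi31 ygi47 zgi40) (kgi xgi24 ygi50 zgi21) (kgi xgi31 ygi57 zgi21) (kgi xgi27 ygi22 zgi19) (kgi xgi15 ygi42 zgi48) (kgi xgi23 ygi28 zgi18) (kgi xgi25 ygi42 zgi57) (kgi xgi31 ygi56 zgi45) (kgi xgi21 ygi24 zgi34) (kgi xgi31 ygi55 zgi1) (kgi xgi31 ygi9 zgi27) (kgi xgi23 ygi2 zgi51) (kgi xgi19 ygi23 zgi4) (kgi xgi31 ygi57 zgi34) (kgi xgi27 ygi22 zgi7)) (@D3.rec (fun _ => Pt) (kgi xgi26 ygi3 zgi54) (kgi xgi29 ygi43 zgi53) (kgi xgi31 ygi7 zgi54) (kgi xgi25 ygi37 zgi6) (kgi xgi31 ygi57 zgi10) (kgi xgi31 ygi57 zgi43) (kgi xgi31 ygi57 zgi45) (kgi xgi28 ygi19 zgi6) (kgi xgi31 ygi57 zgi42) (kgi xgi31 ygi9 zgi0) (kgi xgi15 ygi42 zgi59) (kgi xgi28 ygi24 zgi44) (kgi xgi29 ygi49 zgi43)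 (kgi xgi28 ygi24 zgi41) (kgi xgi30 ygi42 zgi16) (kgi xgi15 ygi43 zgi3) (kgi xgi23 ygi29 zgi16) (kgi xgi21 ygi34 zgi23) (kgi xgi26 ygi14 zgi38) (kgi xgi25 ygi42 zgi17) (kgi xgi31 ygi8 zgi2) (kgi xgi25 ygi37 zgi0) (kgi xgi27 ygi25 zgi30) (kgi xgi27 ygi29 zgi52) (kgi xgi31 ygi57 zgi54) (kgi xgi18 ygi25 zgi5) (kgi xgi26 ygi2 zgi6) (kgi xgi15 ygi43 zgi14) (kgi xgi16 ygi6 zgi20) (kgi xgi16 ygi0 zgi58) (kgi xgi24 ygi27 zgi57) (kgi xgi24 ygi20 zgi58) (kgi xgi31 ygi57 zgi57) (kgi xgi17 ygi40 zgi18) (kgi xgi26 ygi22 zgi47) (kgi xgi26 ygi1 zgi7) (kgi xgi28 ygi0 zgi35) (kgi xgi26 ygi8 zgi54) (kgi xgi29 ygi47 zgi55) (kgi xgi23 ygi42 zgi19) (kgi xgi21 ygi6 zgi36) (kgi xgi23 ygi24 zgi19) (kgi xgi26 ygi12 zgi32) (kgi xgi21 ygi3 zgi55) (kgi xgi26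 ygi1 zgi44) (kgi xgi25 ygi45 zgi39) (kgi xgi15 ygi43 zgi39) (kgi xgi27 ygi19 zgi52) (kgi xgi22 ygi10 zgi24) (kgi xgi28 ygi31 zgi23) (kgi xgi23 ygi22 zgi52) (kgi xgi22 ygi38 zgi59) (kgi xgi26 ygi55 zgi19) (kgi xgi15 ygi43 zgi44) (kgi xgi23 ygi35 zgi6) (kgi xgi17 ygi12 zgi25) (kgi xgi18 ygi14 zgi2) (kgi xgi21 ygi28 zgi56) (kgi xgi31 ygi3 zgi14) (kgi xgi23 ygi40 zgi56) (kgi xgi23 ygi40 zgi15) (kgi xgi15 ygi43 zgi49)) (@D3.rec (fun _ => Pt) (kgi xgi23 ygi40 zgi9) (kgi xgi31 ygi58 zgi3) (kgi xgi31 ygi3 zgi11) (kgi xgi15 ygi43 zgi51) (kgi xgi26 ygi0 zgi29) (kgi xgi31 ygi4 zgi33) (kgi xgi31 ygi57 zgi19) (kgi xgi26 ygi48 zgi27) (kgi xgi31 ygi4 zgi59) (kgi xgi26 ygi18 zgi0) (kgi xgi15 ygi47 zgi26) (kgi xgi31 ygi3 zgi28) (kgi xgi30 ygi2 zgi31)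 (kgi xgi28 ygi38 zgi17) (kgi xgi19 ygi8 zgi20) (kgi xgi30 ygi13 zgi44) (kgi xgi15 ygi43 zgi55) (kgi xgi30 ygi10 zgi35) (kgi xgi28 ygi34 zgi1) (kgi xgi15 ygi43 zgi57) (kgi xgi30 ygi1 zgi33) (kgi xgi26 ygi48 zgi1) (kgi xgi19 ygi8 zgi14) (kgi xgi26 ygi0 zgi13) (kgi xgi24 ygi32 zgi27) (kgi xgi28 ygi44 zgi54) (kgi xgi19 ygi8 zgi22) (kgi xgi16 ygi57 zgi40) (kgi xgi31 ygi58 zgi11) (kgi xgi19 ygi8 zgi19) (kgi xgi31 ygi35 zgi25) (kgi xgi31 ygi35 zgi26) (kgi xgi28 ygi35 zgi23) (kgi xgi29 ygi12 zgi57) (kgi xgi28 ygi28 zgi60) (kgi xgi15 ygi45 zgi22) (kgi xgi16 ygi21 zgi31) (kgi xgi25 ygi29 zgi23) (kgi xgi16 ygi50 zgi34) (kgi xgi15 ygi44 zgi17) (kgi xgi15 ygi44 zgi19) (kgi xgi20 ygi4 zgi33) (kgi xgi29 ygi0 zgi32) (kgi xgi17 ygi32 zgi22) (kgi xgi19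 ygi12 zgi35) (kgi xgi19 ygi15 zgi29) (kgi xgi19 ygi15 zgi39) (kgi xgi19 ygi50 zgi16) (kgi xgi30 ygi8 zgi49) (kgi xgi25 ygi37 zgi9) (kgi xgi26 ygi3 zgi2) (kgi xgi15 ygi44 zgi31) (kgi xgi15 ygi44 zgi61) (kgi xgi25 ygi38 zgi12) (kgi xgi15 ygi44 zgi58) (kgi xgi25 ygi41 zgi43) (kgi xgi15 ygi45 zgi11) (kgi xgi19 ygi16 zgi17) (kgi xgi15 ygi45 zgi8) (kgi xgi21 ygi18 zgi58) (kgi xgi21 ygi56 zgi1) (kgi xgi21 ygi19 zgi35)) (@D3.rec (fun _ => Pt) (kgi xgi21 ygi56 zgi6) (kgi xgi26 ygi3 zgi12) (kgi xgi25 ygi28 zgi3) (kgi xgi26 ygi2 zgi36) (kgi xgi16 ygi0 zgi51) (kgi xgi22 ygi4 zgi41) (kgi xgi25 ygi40 zgi55) (kgi xgi23 ygi36 zgi16) (kgi xgi15 ygi44 zgi41) (kgi xgi26 ygi2 zgi16) (kgi xgi31 ygi0 zgi51) (kgi xgi15 ygi44 zgi42) (kgi xgi15 ygi45 zgi49)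 (kgi xgi31 ygi58 zgi17) (kgi xgi15 ygi44 zgi56) (kgi xgi27 ygi45 zgi9) (kgi xgi29 ygi52 zgi3) (kgi xgi15 ygi44 zgi47) (kgi xgi26 ygi3 zgi11) (kgi xgi24 ygi20 zgi53) (kgi xgi18 ygi18 zgi22) (kgi xgi15 ygi44 zgi51) (kgi xgi24 ygi4 zgi27) (kgi xgi24 ygi41 zgi24) (kgi xgi22 ygi4 zgi42) (kgi xgi19 ygi40 zgi9) (kgi xgi19 ygi58 zgi59) (kgi xgi15 ygi44 zgi55) (kgi xgi25 ygi38 zgi33) (kgi xgi31 ygi29 zgi36) (kgi xgi25 ygi38 zgi30) (kgi xgi19 ygi56 zgi54) (kgi xgi25 ygi38 zgi13) (kgi xgi16 ygi51 zgi6) (kgi xgi24 ygi48 zgi47) (kgi xgi31 ygi58 zgi24) (kgi xgi16 ygi50 zgi50) (kgi xgi24 ygi51 zgi1) (kgi xgi25 ygi42 zgi21) (kgi xgi25 ygi49 zgi11) (kgi xgi25 ygi38 zgi10) (kgi xgi31 ygi58 zgi25) (kgi xgi25 ygi38 zgi8) (kgi xgi15 ygi45 zgi0) (kgi xgi29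 ygi58 zgi20) (kgi xgi25 ygi15 zgi32) (kgi xgi31 ygi37 zgi31) (kgi xgi22 ygi10 zgi25) (kgi xgi27 ygi20 zgi47) (kgi xgi25 ygi20 zgi36) (kgi xgi21 ygi17 zgi1) (kgi xgi21 ygi19 zgi21) (kgi xgi21 ygi59 zgi5) (kgi xgi27 ygi19 zgi31) (kgi xgi15 ygi45 zgi10) (kgi xgi25 ygi50 zgi7) (kgi xgi25 ygi41 zgi60) (kgi xgi16 ygi2 zgi52) (kgi xgi19 ygi4 zgi16) (kgi xgi28 ygi31 zgi25) (kgi xgi28 ygi31 zgi11) (kgi xgi27 ygi20 zgi42)) (@D3.rec (fun _ => Pt) (kgi xgi28 ygi42 zgi18) (kgi xgi15 ygi45 zgi20) (kgi xgi16 ygi19 zgi59) (kgi xgi31 ygi58 zgi29) (kgi xgi28 ygi47 zgi57) (kgi xgi15 ygi45 zgi23) (kgi xgi27 ygi4 zgi44) (kgi xgi27 ygi7 zgi50) (kgi xgi21 ygi40 zgi20) (kgi xgi26 ygi2 zgi61) (kgi xgi26 ygi44 zgi13) (kgi xgi19 ygi40 zgi35) (kgi xgi23 ygi34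 zgi49) (kgi xgi15 ygi45 zgi37) (kgi xgi15 ygi46 zgi0) (kgi xgi15 ygi45 zgi59) (kgi xgi26 ygi2 zgi21) (kgi xgi25 ygi39 zgi16) (kgi xgi15 ygi46 zgi4) (kgi xgi26 ygi1 zgi21) (kgi xgi16 ygi0 zgi50) (kgi xgi25 ygi41 zgi35) (kgi xgi26 ygi13 zgi54) (kgi xgi25 ygi41 zgi51) (kgi xgi16 ygi6 zgi53) (kgi xgi15 ygi46 zgi3) (kgi xgi22 ygi4 zgi31) (kgi xgi26 ygi3 zgi9) (kgi xgi22 ygi10 zgi21) (kgi xgi30 ygi13 zgi20) (kgi xgi30 ygi1 zgi55) (kgi xgi26 ygi23 zgi19) (kgi xgi26 ygi5 zgi59) (kgi xgi17 ygi42 zgi1) (kgi xgi27 ygi53 zgi34) (kgi xgi17 ygi41 zgi60) (kgi xgi31 ygi1 zgi38) (kgi xgi25 ygi18 zgi58) (kgi xgi31 ygi8 zgi59) (kgi xgi23 ygi27 zgi50) (kgi xgi15 ygi45 zgi61) (kgi xgi23 ygi38 zgi58) (kgi xgi30 ygi24 zgi39) (kgi xgi21 ygi34 zgi34) (kgi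 xgi31 ygi1 zgi41) (kgi xgi31 ygi58 zgi32) (kgi xgi28 ygi47 zgi5) (kgi xgi31 ygi58 zgi35) (kgi xgi27 ygi30 zgi27) (kgi xgi31 ygi2 zgi10) (kgi xgi31 ygi58 zgi42) (kgi xgi23 ygi39 zgi24) (kgi xgi15 ygi46 zgi6) (kgi xgi31 ygi5 zgi27) (kgi xgi26 ygi20 zgi5) (kgi xgi30 ygi4 zgi28) (kgi xgi25 ygi37 zgi20) (kgi xgi31 ygi4 zgi18) (kgi xgi26 ygi1 zgi32) (kgi xgi21 ygi19 zgi10) (kgi xgi30 ygi40 zgi61) (kgi xgi27 ygi4 zgi43)) (@D3.rec (fun _ => Pt) (kgi xgi31 ygi46 zgi4) (kgi xgi20 ygi16 zgi21) (kgi xgi23 ygi35 zgi55) (kgi xgi17 ygi45 zgi29) (kgi xgi15 ygi46 zgi23) (kgi xgi26 ygi3 zgi40) (kgi xgi22 ygi33 zgi27) (kgi xgi25 ygi12 zgi41) (kgi xgi16 ygi6 zgi57) (kgi xgi26 ygi14 zgi44) (kgi xgi27 ygi31 zgi47) (kgi xgi28 ygi1 zgi47) (kgi xgi31 ygi23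 zgi24) (kgi xgi22 ygi7 zgi8) (kgi xgi30 ygi26 zgi53) (kgi xgi25 ygi29 zgi38) (kgi xgi29 ygi0 zgi34) (kgi xgi26 ygi42 zgi27) (kgi xgi25 ygi35 zgi35) (kgi xgi26 ygi46 zgi15) (kgi xgi22 ygi9 zgi50) (kgi xgi28 ygi11 zgi5) (kgi xgi25 ygi29 zgi19) (kgi xgi28 ygi54 zgi0) (kgi xgi31 ygi31 zgi31) (kgi xgi18 ygi46 zgi36) (kgi xgi27 ygi2 zgi55) (kgi xgi29 ygi59 zgi0) (kgi xgi15 ygi58 zgi2) (kgi xgi15 ygi58 zgi30) (kgi xgi25 ygi29 zgi58) (kgi xgi27 ygi24 zgi44) (kgi xgi26 ygi42 zgi14) (kgi xgi16 ygi6 zgi59) (kgi xgi17 ygi12 zgi1) (kgi xgi22 ygi53 zgi55) (kgi xgi15 ygi58 zgi50) (kgi xgi27 ygi14 zgi17) (kgi xgi15 ygi57 zgi53) (kgi xgi30 ygi18 zgi51) (kgi xgi15 ygi59 zgi40) (kgi xgi15 ygi47 zgi2) (kgi xgi15 ygi47 zgi4) (kgi xgi16 ygi0 zgi25) (kgi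 xgi15 ygi47 zgi3) (kgi xgi15 ygi59 zgi39) (kgi xgi15 ygi59 zgi57) (kgi xgi15 ygi47 zgi5) (kgi xgi16 ygi1 zgi41) (kgi xgi16 ygi1 zgi15) (kgi xgi23 ygi8 zgi13) (kgi xgi16 ygi1 zgi36) (kgi xgi16 ygi1 zgi43) (kgi xgi29 ygi41 zgi33) (kgi xgi31 ygi58 zgi58) (kgi xgi28 ygi49 zgi25) (kgi xgi26 ygi13 zgi58) (kgi xgi19 ygi9 zgi40) (kgi xgi17 ygi27 zgi3) (kgi xgi17 ygi27 zgi2) (kgi xgi19 ygi38 zgi20) (kgi xgi15 ygi52 zgi45)) (@D3.rec (fun _ => Pt) (kgi xgi17 ygi14 zgi51) (kgi xgi19 ygi35 zgi39) (kgi xgi22 ygi9 zgi10) (kgi xgi21 ygi5 zgi14) (kgi xgi25 ygi53 zgi34) (kgi xgi27 ygi4 zgi54) (kgi xgi21 ygi55 zgi36) (kgi xgi15 ygi47 zgi25) (kgi xgi23 ygi33 zgi19) (kgi xgi31 ygi2 zgi8) (kgi xgi29 ygi52 zgi36) (kgi xgi21 ygi49 zgi17) (kgi xgi19 ygi16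 zgi33) (kgi xgi16 ygi6 zgi15) (kgi xgi15 ygi47 zgi30) (kgi xgi18 ygi42 zgi35) (kgi xgi31 ygi8 zgi28) (kgi xgi24 ygi49 zgi14) (kgi xgi19 ygi56 zgi51) (kgi xgi25 ygi45 zgi29) (kgi xgi24 ygi51 zgi55) (kgi xgi21 ygi42 zgi60) (kgi xgi19 ygi58 zgi3) (kgi xgi17 ygi33 zgi20) (kgi xgi24 ygi52 zgi43) (kgi xgi17 ygi45 zgi16) (kgi xgi25 ygi33 zgi57) (kgi xgi21 ygi22 zgi28) (kgi xgi26 ygi5 zgi54) (kgi xgi15 ygi47 zgi50) (kgi xgi21 ygi24 zgi12) (kgi xgi18 ygi46 zgi29) (kgi xgi15 ygi47 zgi51) (kgi xgi15 ygi48 zgi38) (kgi xgi15 ygi48 zgi36) (kgi xgi21 ygi25 zgi53) (kgi xgi21 ygi33 zgi19) (kgi xgi21 ygi22 zgi38) (kgi xgi25 ygi17 zgi57) (kgi xgi20 ygi53 zgi12) (kgi xgi25 ygi31 zgi5) (kgi xgi25 ygi17 zgi25) (kgi xgi27 ygi29 zgi15) (kgi xgi15 ygi48 zgi2)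 (kgi xgi17 ygi42 zgi7) (kgi xgi26 ygi5 zgi50) (kgi xgi21 ygi22 zgi26) (kgi xgi17 ygi16 zgi27) (kgi xgi25 ygi13 zgi44) (kgi xgi15 ygi48 zgi8) (kgi xgi15 ygi58 zgi19) (kgi xgi15 ygi48 zgi10) (kgi xgi26 ygi5 zgi43) (kgi xgi16 ygi59 zgi61) (kgi xgi26 ygi5 zgi41) (kgi xgi21 ygi7 zgi14) (kgi xgi18 ygi23 zgi21) (kgi xgi16 ygi15 zgi35) (kgi xgi15 ygi48 zgi30) (kgi xgi15 ygi49 zgi39) (kgi xgi21 ygi26 zgi57) (kgi xgi21 ygi42 zgi25)) (@D3.rec (fun _ => Pt) (kgi xgi16 ygi14 zgi6) (kgi xgi31 ygi50 zgi38) (kgi xgi31 ygi59 zgi6) (kgi xgi15 ygi48 zgi32) (kgi xgi16 ygi42 zgi13) (kgi xgi26 ygi10 zgi46) (kgi xgi31 ygi34 zgi52) (kgi xgi15 ygi48 zgi34) (kgi xgi16 ygi37 zgi57) (kgi xgi15 ygi48 zgi35) (kgi xgi16 ygi38 zgi59) (kgi xgi16 ygi38 zgi56) (kgi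 xgi31 ygi34 zgi45) (kgi xgi16 ygi37 zgi2) (kgi xgi17 ygi13 zgi43) (kgi xgi28 ygi1 zgi41) (kgi xgi26 ygi19 zgi50) (kgi xgi20 ygi21 zgi28) (kgi xgi28 ygi6 zgi23) (kgi xgi23 ygi36 zgi52) (kgi xgi17 ygi40 zgi41) (kgi xgi17 ygi42 zgi58) (kgi xgi29 ygi59 zgi56) (kgi xgi15 ygi48 zgi57) (kgi xgi24 ygi55 zgi0) (kgi xgi27 ygi25 zgi38) (kgi xgi26 ygi11 zgi21) (kgi xgi30 ygi11 zgi8) (kgi xgi16 ygi16 zgi35) (kgi xgi17 ygi45 zgi2) (kgi xgi19 ygi35 zgi56) (kgi xgi15 ygi49 zgi7) (kgi xgi17 ygi43 zgi35) (kgi xgi25 ygi19 zgi1) (kgi xgi29 ygi13 zgi44) (kgi xgi26 ygi5 zgi37) (kgi xgi21 ygi24 zgi50) (kgi xgi21 ygi34 zgi54) (kgi xgi18 ygi37 zgi24) (kgi xgi15 ygi49 zgi24) (kgi xgi25 ygi39 zgi45) (kgi xgi20 ygi9 zgi59) (kgi xgi23 ygi42 zgi14) (kgi xgi21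 ygi51 zgi46) (kgi xgi30 ygi3 zgi50) (kgi xgi19 ygi35 zgi55) (kgi xgi21 ygi49 zgi52) (kgi xgi27 ygi20 zgi55) (kgi xgi16 ygi25 zgi32) (kgi xgi16 ygi28 zgi30) (kgi xgi21 ygi41 zgi7) (kgi xgi15 ygi49 zgi41) (kgi xgi20 ygi15 zgi36) (kgi xgi21 ygi15 zgi44) (kgi xgi20 ygi19 zgi21) (kgi xgi15 ygi49 zgi46) (kgi xgi15 ygi49 zgi49) (kgi xgi16 ygi3 zgi21) (kgi xgi26 ygi5 zgi17) (kgi xgi17 ygi42 zgi61) (kgi xgi15 ygi49 zgi58) (kgi xgi16 ygi20 zgi14)) (@D3.rec (fun _ => Pt) (kgi xgi18 ygi6 zgi54) (kgi xgi18 ygi8 zgi26) (kgi xgi19 ygi4 zgi33) (kgi xgi19 ygi11 zgi58) (kgi xgi15 ygi50 zgi0) (kgi xgi19 ygi13 zgi6) (kgi xgi28 ygi45 zgi57) (kgi xgi18 ygi47 zgi18) (kgi xgi15 ygi50 zgi1) (kgi xgi18 ygi50 zgi20) (kgi xgi21 ygi48 zgi34) (kgi xgi31 ygi43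 zgi49) (kgi xgi31 ygi23 zgi39) (kgi xgi31 ygi6 zgi50) (kgi xgi18 ygi58 zgi52) (kgi xgi15 ygi50 zgi8) (kgi xgi24 ygi59 zgi27) (kgi xgi26 ygi25 zgi14) (kgi xgi29 ygi5 zgi57) (kgi xgi24 ygi59 zgi17) (kgi xgi15 ygi50 zgi23) (kgi xgi29 ygi51 zgi29) (kgi xgi22 ygi17 zgi47) (kgi xgi31 ygi12 zgi8) (kgi xgi15 ygi50 zgi14) (kgi xgi15 ygi50 zgi24) (kgi xgi19 ygi48 zgi23) (kgi xgi31 ygi59 zgi25) (kgi xgi31 ygi59 zgi26) (kgi xgi23 ygi20 zgi47) (kgi xgi15 ygi50 zgi21) (kgi xgi17 ygi9 zgi41) (kgi xgi15 ygi50 zgi22) (kgi xgi23 ygi19 zgi60) (kgi xgi30 ygi13 zgi40) (kgi xgi26 ygi7 zgi30) (kgi xgi28 ygi3 zgi47) (kgi xgi28 ygi2 zgi32) (kgi xgi21 ygi15 zgi41) (kgi xgi29 ygi30 zgi4) (kgi xgi25 ygi16 zgi26) (kgi xgi23 ygi20 zgi37) (kgi xgi23 ygi20 zgi34)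 (kgi xgi28 ygi27 zgi15) (kgi xgi26 ygi19 zgi19) (kgi xgi24 ygi59 zgi16) (kgi xgi25 ygi46 zgi54) (kgi xgi28 ygi16 zgi17) (kgi xgi27 ygi54 zgi6) (kgi xgi27 ygi59 zgi45) (kgi xgi24 ygi29 zgi10) (kgi xgi25 ygi47 zgi26) (kgi xgi18 ygi46 zgi41) (kgi xgi24 ygi18 zgi10) (kgi xgi15 ygi52 zgi29) (kgi xgi19 ygi41 zgi29) (kgi xgi19 ygi40 zgi51) (kgi xgi16 ygi2 zgi0) (kgi xgi15 ygi51 zgi5) (kgi xgi16 ygi2 zgi2) (kgi xgi15 ygi51 zgi6) (kgi xgi15 ygi52 zgi25)) (@D3.rec (fun _ => Pt) (kgi xgi15 ygi52 zgi23) (kgi xgi25 ygi29 zgi10) (kgi xgi17 ygi45 zgi6) (kgi xgi29 ygi20 zgi19) (kgi xgi21 ygi1 zgi2) (kgi xgi19 ygi25 zgi33) (kgi xgi28 ygi49 zgi47) (kgi xgi20 ygi0 zgi38) (kgi xgi17 ygi6 zgi50) (kgi xgi15 ygi51 zgi17) (kgi xgi19 ygi38 zgi52) (kgi xgi19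 ygi38 zgi50) (kgi xgi30 ygi47 zgi47) (kgi xgi22 ygi22 zgi6) (kgi xgi19 ygi12 zgi16) (kgi xgi25 ygi35 zgi20) (kgi xgi28 ygi51 zgi61) (kgi xgi15 ygi51 zgi28) (kgi xgi17 ygi37 zgi10) (kgi xgi25 ygi47 zgi28) (kgi xgi20 ygi48 zgi31) (kgi xgi26 ygi39 zgi21) (kgi xgi22 ygi22 zgi48) (kgi xgi27 ygi35 zgi42) (kgi xgi24 ygi15 zgi54) (kgi xgi30 ygi27 zgi39) (kgi xgi18 ygi34 zgi42) (kgi xgi24 ygi54 zgi45) (kgi xgi19 ygi34 zgi0) (kgi xgi26 ygi45 zgi38) (kgi xgi26 ygi39 zgi20) (kgi xgi30 ygi27 zgi34) (kgi xgi15 ygi51 zgi48) (kgi xgi26 ygi39 zgi44) (kgi xgi30 ygi36 zgi37) (kgi xgi31 ygi26 zgi1) (kgi xgi15 ygi51 zgi49) (kgi xgi16 ygi1 zgi47) (kgi xgi15 ygi51 zgi50) (kgi xgi19 ygi24 zgi9) (kgi xgi19 ygi53 zgi49) (kgi xgi15 ygi52 zgi6) (kgi xgi24 ygi2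 zgi33) (kgi xgi24 ygi2 zgi39) (kgi xgi23 ygi54 zgi38) (kgi xgi23 ygi55 zgi32) (kgi xgi16 ygi46 zgi29) (kgi xgi19 ygi42 zgi5) (kgi xgi31 ygi41 zgi6) (kgi xgi19 ygi40 zgi54) (kgi xgi29 ygi18 zgi50) (kgi xgi28 ygi46 zgi59) (kgi xgi26 ygi39 zgi14) (kgi xgi25 ygi11 zgi50) (kgi xgi28 ygi55 zgi36) (kgi xgi18 ygi13 zgi2) (kgi xgi19 ygi41 zgi3) (kgi xgi16 ygi46 zgi43) (kgi xgi19 ygi41 zgi24) (kgi xgi19 ygi41 zgi34) (kgi xgi27 ygi38 zgi3) (kgi xgi31 ygi59 zgi47)) (@D3.rec (fun _ => Pt) (kgi xgi28 ygi36 zgi33) (kgi xgi31 ygi48 zgi33) (kgi xgi30 ygi23 zgi49) (kgi xgi24 ygi28 zgi47) (kgi xgi15 ygi52 zgi19) (kgi xgi27 ygi55 zgi4) (kgi xgi19 ygi23 zgi6) (kgi xgi27 ygi52 zgi19) (kgi xgi18 ygi30 zgi53) (kgi xgi18 ygi11 zgi59) (kgi xgi31 ygi59 zgi50)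 (kgi xgi26 ygi17 zgi22) (kgi xgi27 ygi55 zgi7) (kgi xgi15 ygi52 zgi18) (kgi xgi18 ygi41 zgi38) (kgi xgi15 ygi52 zgi21) (kgi xgi15 ygi57 zgi52) (kgi xgi16 ygi2 zgi15) (kgi xgi16 ygi2 zgi16) (kgi xgi19 ygi30 zgi48) (kgi xgi15 ygi58 zgi49) (kgi xgi18 ygi48 zgi12) (kgi xgi17 ygi27 zgi6) (kgi xgi29 ygi42 zgi35) (kgi xgi27 ygi9 zgi53) (kgi xgi15 ygi52 zgi26) (kgi xgi16 ygi2 zgi7) (kgi xgi15 ygi52 zgi28) (kgi xgi19 ygi28 zgi43) (kgi xgi27 ygi56 zgi55) (kgi xgi26 ygi44 zgi50) (kgi xgi31 ygi27 zgi17) (kgi xgi15 ygi52 zgi35) (kgi xgi18 ygi8 zgi0) (kgi xgi29 ygi58 zgi46) (kgi xgi15 ygi52 zgi36) (kgi xgi21 ygi1 zgi56) (kgi xgi17 ygi57 zgi35) (kgi xgi21 ygi1 zgi53) (kgi xgi31 ygi27 zgi14) (kgi xgi29 ygi16 zgi19) (kgi xgi15 ygi54 zgi6) (kgi xgi30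 ygi19 zgi34) (kgi xgi25 ygi7 zgi19) (kgi xgi25 ygi7 zgi10) (kgi xgi24 ygi37 zgi22) (kgi xgi24 ygi37 zgi14) (kgi xgi31 ygi49 zgi49) (kgi xgi32 ygi0 zgi0) (kgi xgi22 ygi2 zgi19) (kgi xgi25 ygi8 zgi26) (kgi xgi29 ygi59 zgi8) (kgi xgi25 ygi8 zgi28) (kgi xgi26 ygi18 zgi16) (kgi xgi19 ygi49 zgi27) (kgi xgi27 ygi23 zgi11) (kgi xgi31 ygi46 zgi20) (kgi xgi30 ygi53 zgi45) (kgi xgi15 ygi52 zgi61) (kgi xgi29 ygi27 zgi35) (kgi xgi15 ygi52 zgi57) (kgi xgi25 ygi54 zgi18)) (@D3.rec (fun _ => Pt) (kgi xgi25 ygi6 zgi2) (kgi xgi15 ygi52 zgi58) (kgi xgi31 ygi46 zgi22) (kgi xgi25 ygi17 zgi61) (kgi xgi15 ygi52 zgi60) (kgi xgi23 ygi11 zgi6) (kgi xgi27 ygi45 zgi44) (kgi xgi15 ygi53 zgi5) (kgi xgi15 ygi54 zgi14) (kgi xgi32 ygi0 zgi6) (kgi xgi15 ygi53 zgi11)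 (kgi xgi26 ygi48 zgi21) (kgi xgi29 ygi10 zgi4) (kgi xgi15 ygi53 zgi12) (kgi xgi25 ygi48 zgi47) (kgi xgi25 ygi8 zgi25) (kgi xgi15 ygi53 zgi13) (kgi xgi19 ygi11 zgi57) (kgi xgi15 ygi54 zgi25) (kgi xgi31 ygi26 zgi31) (kgi xgi24 ygi56 zgi48) (kgi xgi30 ygi41 zgi58) (kgi xgi25 ygi14 zgi51) (kgi xgi25 ygi8 zgi33) (kgi xgi25 ygi33 zgi38) (kgi xgi25 ygi48 zgi37) (kgi xgi26 ygi17 zgi57) (kgi xgi28 ygi48 zgi17) (kgi xgi24 ygi7 zgi16) (kgi xgi18 ygi13 zgi34) (kgi xgi18 ygi6 zgi19) (kgi xgi16 ygi12 zgi33) (kgi xgi29 ygi6 zgi3) (kgi xgi25 ygi13 zgi29) (kgi xgi27 ygi39 zgi3) (kgi xgi23 ygi1 zgi49) (kgi xgi24 ygi52 zgi24) (kgi xgi18 ygi6 zgi21) (kgi xgi27 ygi25 zgi3) (kgi xgi18 ygi5 zgi51) (kgi xgi25 ygi10 zgi53) (kgi xgi26 ygi7 zgi17) (kgi xgi29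 ygi9 zgi39) (kgi xgi27 ygi21 zgi35) (kgi xgi15 ygi53 zgi50) (kgi xgi30 ygi51 zgi25) (kgi xgi15 ygi53 zgi52) (kgi xgi15 ygi53 zgi55) (kgi xgi15 ygi53 zgi57) (kgi xgi24 ygi52 zgi29) (kgi xgi24 ygi16 zgi25) (kgi xgi19 ygi38 zgi26) (kgi xgi24 ygi58 zgi15) (kgi xgi32 ygi0 zgi15) (kgi xgi31 ygi24 zgi27) (kgi xgi18 ygi18 zgi12) (kgi xgi24 ygi16 zgi9) (kgi xgi30 ygi17 zgi41) (kgi xgi27 ygi39 zgi47) (kgi xgi26 ygi1 zgi35) (kgi xgi17 ygi44 zgi13) (kgi xgi30 ygi19 zgi46)) (@D3.rec (fun _ => Pt) (kgi xgi21 ygi43 zgi12) (kgi xgi32 ygi0 zgi18) (kgi xgi26 ygi25 zgi57) (kgi xgi29 ygi12 zgi35) (kgi xgi22 ygi52 zgi36) (kgi xgi20 ygi29 zgi39) (kgi xgi26 ygi7 zgi1) (kgi xgi25 ygi41 zgi54) (kgi xgi26 ygi44 zgi25) (kgi xgi19 ygi33 zgi31) (kgi xgi28 ygi30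 zgi23) (kgi xgi31 ygi48 zgi16) (kgi xgi20 ygi4 zgi20) (kgi xgi21 ygi47 zgi51) (kgi xgi15 ygi54 zgi19) (kgi xgi31 ygi45 zgi46) (kgi xgi32 ygi0 zgi22) (kgi xgi20 ygi15 zgi26) (kgi xgi24 ygi11 zgi58) (kgi xgi15 ygi54 zgi22) (kgi xgi15 ygi54 zgi36) (kgi xgi19 ygi41 zgi57) (kgi xgi17 ygi35 zgi51) (kgi xgi28 ygi32 zgi59) (kgi xgi28 ygi43 zgi33) (kgi xgi31 ygi59 zgi39) (kgi xgi15 ygi54 zgi38) (kgi xgi19 ygi10 zgi35) (kgi xgi19 ygi20 zgi11) (kgi xgi32 ygi0 zgi28) (kgi xgi25 ygi9 zgi47) (kgi xgi28 ygi41 zgi61) (kgi xgi15 ygi54 zgi28) (kgi xgi28 ygi45 zgi13) (kgi xgi29 ygi12 zgi40) (kgi xgi27 ygi41 zgi61) (kgi xgi24 ygi36 zgi40) (kgi xgi25 ygi14 zgi49) (kgi xgi15 ygi54 zgi35) (kgi xgi30 ygi14 zgi12) (kgi xgi24 ygi35 zgi29) (kgi xgi24 ygi36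 zgi38) (kgi xgi28 ygi5 zgi61) (kgi xgi24 ygi12 zgi53) (kgi xgi15 ygi54 zgi37) (kgi xgi23 ygi12 zgi37) (kgi xgi22 ygi59 zgi9) (kgi xgi26 ygi45 zgi35) (kgi xgi24 ygi26 zgi14) (kgi xgi32 ygi0 zgi33) (kgi xgi31 ygi48 zgi34) (kgi xgi31 ygi36 zgi43) (kgi xgi32 ygi0 zgi36) (kgi xgi31 ygi48 zgi39) (kgi xgi15 ygi54 zgi43) (kgi xgi15 ygi54 zgi51) (kgi xgi15 ygi54 zgi49) (kgi xgi31 ygi27 zgi58) (kgi xgi19 ygi20 zgi29) (kgi xgi25 ygi11 zgi38) (kgi xgi25 ygi10 zgi29) (kgi xgi32 ygi0 zgi40)) (@D3.rec (fun _ => Pt) (kgi xgi25 ygi10 zgi30) (kgi xgi29 ygi6 zgi47) (kgi xgi19 ygi20 zgi12) (kgi xgi21 ygi17 zgi55) (kgi xgi32 ygi0 zgi41) (kgi xgi24 ygi7 zgi29) (kgi xgi21 ygi17 zgi53) (kgi xgi31 ygi26 zgi57) (kgi xgi26 ygi45 zgi41) (kgi xgi25 ygi28 zgi16)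 (kgi xgi29 ygi12 zgi30) (kgi xgi29 ygi56 zgi19) (kgi xgi29 ygi57 zgi9) (kgi xgi29 ygi27 zgi37) (kgi xgi25 ygi3 zgi48) (kgi xgi30 ygi9 zgi17) (kgi xgi25 ygi54 zgi28) (kgi xgi18 ygi5 zgi46) (kgi xgi25 ygi29 zgi13) (kgi xgi20 ygi58 zgi12) (kgi xgi28 ygi53 zgi59) (kgi xgi23 ygi51 zgi51) (kgi xgi29 ygi21 zgi40) (kgi xgi25 ygi52 zgi38) (kgi xgi30 ygi33 zgi45) (kgi xgi29 ygi38 zgi20) (kgi xgi30 ygi47 zgi9) (kgi xgi16 ygi46 zgi42) (kgi xgi15 ygi55 zgi12) (kgi xgi20 ygi12 zgi2) (kgi xgi25 ygi24 zgi46) (kgi xgi19 ygi28 zgi22) (kgi xgi22 ygi38 zgi45) (kgi xgi15 ygi55 zgi19) (kgi xgi19 ygi25 zgi30) (kgi xgi27 ygi9 zgi52) (kgi xgi29 ygi48 zgi45) (kgi xgi19 ygi29 zgi6) (kgi xgi32 ygi0 zgi51) (kgi xgi25 ygi32 zgi6) (kgi xgi25 ygi52 zgi60) (kgi xgi19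 ygi28 zgi60) (kgi xgi24 ygi4 zgi54) (kgi xgi19 ygi29 zgi1) (kgi xgi15 ygi55 zgi58) (kgi xgi19 ygi28 zgi15) (kgi xgi24 ygi4 zgi47) (kgi xgi15 ygi55 zgi32) (kgi xgi28 ygi48 zgi60) (kgi xgi30 ygi56 zgi54) (kgi xgi22 ygi36 zgi48) (kgi xgi22 ygi36 zgi41) (kgi xgi22 ygi36 zgi54) (kgi xgi15 ygi55 zgi53) (kgi xgi19 ygi28 zgi10) (kgi xgi26 ygi23 zgi30) (kgi xgi24 ygi10 zgi29) (kgi xgi29 ygi25 zgi44) (kgi xgi15 ygi55 zgi50) (kgi xgi28 ygi11 zgi32) (kgi xgi16 ygi24 zgi18) (kgi xgi15 ygi55 zgi48)) (@D3.rec (fun _ => Pt) (kgi xgi29 ygi49 zgi56) (kgi xgi15 ygi55 zgi52) (kgi xgi15 ygi55 zgi56) (kgi xgi23 ygi16 zgi47) (kgi xgi20 ygi11 zgi53) (kgi xgi22 ygi39 zgi6) (kgi xgi23 ygi16 zgi45) (kgi xgi24 ygi46 zgi58) (kgi xgi15 ygi55 zgi55) (kgi xgi26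 ygi55 zgi27) (kgi xgi24 ygi57 zgi28) (kgi xgi15 ygi55 zgi57) (kgi xgi19 ygi28 zgi6) (kgi xgi25 ygi52 zgi54) (kgi xgi17 ygi11 zgi36) (kgi xgi15 ygi55 zgi61) (kgi xgi18 ygi45 zgi14) (kgi xgi16 ygi32 zgi44) (kgi xgi17 ygi11 zgi30) (kgi xgi19 ygi16 zgi5) (kgi xgi28 ygi48 zgi2) (kgi xgi19 ygi42 zgi26) (kgi xgi15 ygi56 zgi3) (kgi xgi16 ygi44 zgi6) (kgi xgi28 ygi37 zgi13) (kgi xgi21 ygi23 zgi53) (kgi xgi25 ygi19 zgi46) (kgi xgi20 ygi12 zgi10) (kgi xgi28 ygi49 zgi6) (kgi xgi25 ygi6 zgi51) (kgi xgi27 ygi37 zgi9) (kgi xgi15 ygi56 zgi9) (kgi xgi25 ygi19 zgi54) (kgi xgi15 ygi56 zgi10) (kgi xgi28 ygi47 zgi43) (kgi xgi30 ygi47 zgi30) (kgi xgi22 ygi4 zgi7) (kgi xgi25 ygi56 zgi22) (kgi xgi15 ygi56 zgi13) (kgi xgi15 ygi56 zgi14) (kgi xgi32 ygi0 zgi59)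 (kgi xgi25 ygi47 zgi3) (kgi xgi24 ygi27 zgi32) (kgi xgi25 ygi52 zgi19) (kgi xgi28 ygi49 zgi14) (kgi xgi16 ygi54 zgi36) (kgi xgi15 ygi56 zgi23) (kgi xgi22 ygi25 zgi4) (kgi xgi22 ygi25 zgi2) (kgi xgi31 ygi59 zgi41) (kgi xgi17 ygi25 zgi21) (kgi xgi25 ygi51 zgi47) (kgi xgi28 ygi52 zgi44) (kgi xgi22 ygi5 zgi41) (kgi xgi15 ygi56 zgi42) (kgi xgi15 ygi56 zgi31) (kgi xgi29 ygi40 zgi60) (kgi xgi25 ygi52 zgi13) (kgi xgi23 ygi13 zgi16) (kgi xgi26 ygi42 zgi45) (kgi xgi28 ygi49 zgi10) (kgi xgi19 ygi27 zgi25)) (@D3.rec (fun _ => Pt) (kgi xgi19 ygi7 zgi51) (kgi xgi31 ygi17 zgi39) (kgi xgi19 ygi9 zgi8) (kgi xgi32 ygi1 zgi5) (kgi xgi25 ygi21 zgi35) (kgi xgi20 ygi12 zgi12) (kgi xgi29 ygi56 zgi7) (kgi xgi15 ygi56 zgi34) (kgi xgi31 ygi55 zgi45) (kgi xgi25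 ygi51 zgi40) (kgi xgi29 ygi2 zgi60) (kgi xgi15 ygi56 zgi39) (kgi xgi26 ygi42 zgi43) (kgi xgi28 ygi38 zgi22) (kgi xgi29 ygi3 zgi10) (kgi xgi23 ygi46 zgi37) (kgi xgi25 ygi51 zgi44) (kgi xgi30 ygi18 zgi6) (kgi xgi28 ygi16 zgi31) (kgi xgi28 ygi50 zgi28) (kgi xgi15 ygi56 zgi48) (kgi xgi15 ygi58 zgi4) (kgi xgi30 ygi19 zgi45) (kgi xgi15 ygi59 zgi19) (kgi xgi15 ygi56 zgi52) (kgi xgi15 ygi59 zgi17) (kgi xgi25 ygi36 zgi8) (kgi xgi28 ygi23 zgi47) (kgi xgi15 ygi58 zgi40) (kgi xgi25 ygi27 zgi11) (kgi xgi15 ygi56 zgi61) (kgi xgi15 ygi58 zgi38) (kgi xgi15 ygi57 zgi0) (kgi xgi22 ygi2 zgi7) (kgi xgi31 ygi38 zgi5) (kgi xgi20 ygi57 zgi3) (kgi xgi25 ygi28 zgi18) (kgi xgi16 ygi2 zgi31) (kgi xgi16 ygi0 zgi20) (kgi xgi30 ygi50 zgi55) (kgi xgi16 ygi2 zgi27)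 (kgi xgi15 ygi59 zgi47) (kgi xgi25 ygi12 zgi20) (kgi xgi32 ygi1 zgi15) (kgi xgi15 ygi57 zgi22) (kgi xgi21 ygi17 zgi31) (kgi xgi31 ygi54 zgi49) (kgi xgi27 ygi18 zgi20) (kgi xgi16 ygi0 zgi28) (kgi xgi25 ygi30 zgi25) (kgi xgi27 ygi7 zgi47) (kgi xgi26 ygi1 zgi5) (kgi xgi15 ygi57 zgi51) (kgi xgi29 ygi21 zgi57) (kgi xgi16 ygi6 zgi54) (kgi xgi15 ygi57 zgi57) (kgi xgi16 ygi2 zgi21) (kgi xgi17 ygi40 zgi43) (kgi xgi16 ygi1 zgi59) (kgi xgi27 ygi11 zgi9) (kgi xgi16 ygi1 zgi20) (kgi xgi15 ygi57 zgi33)) (@D3.rec (fun _ => Pt) (kgi xgi27 ygi11 zgi8) (kgi xgi26 ygi3 zgi6) (kgi xgi15 ygi57 zgi59) (kgi xgi15 ygi57 zgi43) (kgi xgi16 ygi1 zgi56) (kgi xgi25 ygi34 zgi35) (kgi xgi16 ygi0 zgi60) (kgi xgi25 ygi34 zgi52) (kgi xgi15 ygi57 zgi37) (kgi xgi16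 ygi0 zgi54) (kgi xgi26 ygi23 zgi25) (kgi xgi30 ygi36 zgi44) (kgi xgi15 ygi57 zgi38) (kgi xgi21 ygi40 zgi57) (kgi xgi32 ygi1 zgi27) (kgi xgi29 ygi51 zgi25) (kgi xgi15 ygi57 zgi39) (kgi xgi16 ygi1 zgi38) (kgi xgi16 ygi1 zgi12) (kgi xgi25 ygi54 zgi57) (kgi xgi25 ygi51 zgi16) (kgi xgi26 ygi2 zgi14) (kgi xgi32 ygi1 zgi31) (kgi xgi27 ygi11 zgi5) (kgi xgi25 ygi34 zgi1) (kgi xgi15 ygi57 zgi45) (kgi xgi27 ygi37 zgi61) (kgi xgi16 ygi1 zgi9) (kgi xgi16 ygi0 zgi3) (kgi xgi16 ygi0 zgi39) (kgi xgi15 ygi57 zgi48) (kgi xgi29 ygi43 zgi7) (kgi xgi30 ygi6 zgi32) (kgi xgi32 ygi1 zgi33) (kgi xgi32 ygi1 zgi28) (kgi xgi27 ygi17 zgi41) (kgi xgi31 ygi59 zgi49) (kgi xgi32 ygi1 zgi30) (kgi xgi31 ygi55 zgi19) (kgi xgi17 ygi27 zgi1) (kgi xgi32 ygi1 zgi18) (kgi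 xgi31 ygi46 zgi33) (kgi xgi32 ygi1 zgi43) (kgi xgi15 ygi57 zgi55) (kgi xgi27 ygi55 zgi11) (kgi xgi32 ygi1 zgi46) (kgi xgi15 ygi57 zgi56) (kgi xgi30 ygi19 zgi15) (kgi xgi29 ygi37 zgi41) (kgi xgi28 ygi48 zgi25) (kgi xgi22 ygi9 zgi26) (kgi xgi31 ygi58 zgi60) (kgi xgi31 ygi33 zgi49) (kgi xgi25 ygi27 zgi12) (kgi xgi15 ygi59 zgi32) (kgi xgi29 ygi31 zgi53) (kgi xgi25 ygi29 zgi49) (kgi xgi25 ygi54 zgi27) (kgi xgi31 ygi54 zgi21) (kgi xgi19 ygi38 zgi59) (kgi xgi17 ygi36 zgi22) (kgi xgi28 ygi42 zgi23)) (@D3.rec (fun _ => Pt) (kgi xgi15 ygi59 zgi16) (kgi xgi25 ygi13 zgi6) (kgi xgi25 ygi7 zgi47) (kgi xgi25 ygi27 zgi34) (kgi xgi24 ygi44 zgi47) (kgi xgi15 ygi58 zgi15) (kgi xgi25 ygi58 zgi34) (kgi xgi15 ygi58 zgi16) (kgi xgi30 ygi17 zgi9) (kgi xgi25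 ygi7 zgi52) (kgi xgi21 ygi26 zgi55) (kgi xgi15 ygi58 zgi48) (kgi xgi15 ygi59 zgi10) (kgi xgi26 ygi23 zgi43) (kgi xgi25 ygi56 zgi50) (kgi xgi21 ygi46 zgi28) (kgi xgi15 ygi58 zgi20) (kgi xgi23 ygi10 zgi14) (kgi xgi30 ygi46 zgi4) (kgi xgi25 ygi7 zgi32) (kgi xgi25 ygi7 zgi28) (kgi xgi15 ygi58 zgi22) (kgi xgi25 ygi57 zgi19) (kgi xgi25 ygi57 zgi16) (kgi xgi28 ygi14 zgi17) (kgi xgi25 ygi29 zgi32) (kgi xgi25 ygi43 zgi46) (kgi xgi24 ygi35 zgi58) (kgi xgi25 ygi57 zgi13) (kgi xgi20 ygi10 zgi9) (kgi xgi30 ygi54 zgi44) (kgi xgi31 ygi37 zgi23) (kgi xgi15 ygi58 zgi28) (kgi xgi23 ygi10 zgi20) (kgi xgi20 ygi40 zgi12) (kgi xgi25 ygi57 zgi11) (kgi xgi15 ygi58 zgi29) (kgi xgi31 ygi55 zgi31) (kgi xgi27 ygi19 zgi30) (kgi xgi26 ygi16 zgi60) (kgi xgi27 ygi30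 zgi38) (kgi xgi31 ygi35 zgi61) (kgi xgi19 ygi38 zgi37) (kgi xgi15 ygi58 zgi34) (kgi xgi31 ygi46 zgi31) (kgi xgi31 ygi49 zgi7) (kgi xgi24 ygi0 zgi40) (kgi xgi15 ygi58 zgi39) (kgi xgi15 ygi58 zgi47) (kgi xgi31 ygi53 zgi46) (kgi xgi15 ygi58 zgi44) (kgi xgi30 ygi14 zgi14) (kgi xgi31 ygi59 zgi61) (kgi xgi25 ygi4 zgi55) (kgi xgi20 ygi50 zgi40) (kgi xgi15 ygi58 zgi42) (kgi xgi28 ygi30 zgi57) (kgi xgi15 ygi58 zgi43) (kgi xgi21 ygi5 zgi6) (kgi xgi22 ygi20 zgi55) (kgi xgi30 ygi27 zgi45) (kgi xgi15 ygi58 zgi46)) (@D3.rec (fun _ => Pt) (kgi xgi30 ygi56 zgi16) (kgi xgi28 ygi13 zgi61) (kgi xgi32 ygi2 zgi0) (kgi xgi31 ygi35 zgi30) (kgi xgi28 ygi14 zgi15) (kgi xgi20 ygi11 zgi27) (kgi xgi15 ygi58 zgi51) (kgi xgi28 ygi14 zgi0) (kgi xgi31 ygi59 zgi58)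 (kgi xgi29 ygi5 zgi35) (kgi xgi22 ygi9 zgi16) (kgi xgi15 ygi58 zgi58) (kgi xgi23 ygi31 zgi27) (kgi xgi18 ygi51 zgi38) (kgi xgi25 ygi23 zgi58) (kgi xgi18 ygi53 zgi30) (kgi xgi20 ygi47 zgi56) (kgi xgi29 ygi31 zgi52) (kgi xgi26 ygi27 zgi29) (kgi xgi15 ygi59 zgi4) (kgi xgi15 ygi59 zgi6) (kgi xgi32 ygi2 zgi2) (kgi xgi19 ygi29 zgi45) (kgi xgi19 ygi30 zgi7) (kgi xgi31 ygi38 zgi53) (kgi xgi26 ygi2 zgi8) (kgi xgi31 ygi54 zgi18) (kgi xgi27 ygi11 zgi23) (kgi xgi23 ygi55 zgi7) (kgi xgi32 ygi1 zgi57) (kgi xgi23 ygi55 zgi1) (kgi xgi32 ygi2 zgi7) (kgi xgi25 ygi31 zgi48) (kgi xgi29 ygi56 zgi25) (kgi xgi30 ygi56 zgi20) (kgi xgi25 ygi24 zgi38) (kgi xgi23 ygi5 zgi7) (kgi xgi30 ygi49 zgi57) (kgi xgi27 ygi15 zgi10) (kgi xgi28 ygi25 zgi27) (kgi xgi32 ygi2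 zgi13) (kgi xgi15 ygi59 zgi21) (kgi xgi28 ygi24 zgi58) (kgi xgi29 ygi37 zgi35) (kgi xgi26 ygi41 zgi36) (kgi xgi15 ygi59 zgi24) (kgi xgi31 ygi41 zgi18) (kgi xgi20 ygi18 zgi9) (kgi xgi32 ygi2 zgi18) (kgi xgi22 ygi0 zgi16) (kgi xgi15 ygi59 zgi55) (kgi xgi16 ygi0 zgi33) (kgi xgi16 ygi0 zgi16) (kgi xgi25 ygi55 zgi14) (kgi xgi21 ygi42 zgi61) (kgi xgi21 ygi49 zgi59) (kgi xgi26 ygi0 zgi6) (kgi xgi25 ygi55 zgi26) (kgi xgi24 ygi16 zgi45) (kgi xgi15 ygi59 zgi46) (kgi xgi15 ygi59 zgi54) (kgi xgi26 ygi14 zgi9)) (@D3.rec (fun _ => Pt) (kgi xgi15 ygi59 zgi51) (kgi xgi25 ygi28 zgi25) (kgi xgi29 ygi42 zgi0) (kgi xgi15 ygi59 zgi49) (kgi xgi31 ygi56 zgi21) (kgi xgi26 ygi15 zgi44) (kgi xgi25 ygi27 zgi46) (kgi xgi17 ygi20 zgi41) (kgi xgi31 ygi46 zgi37)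 (kgi xgi27 ygi56 zgi5) (kgi xgi27 ygi18 zgi7) (kgi xgi15 ygi59 zgi56) (kgi xgi25 ygi55 zgi35) (kgi xgi16 ygi7 zgi4) (kgi xgi26 ygi49 zgi1) (kgi xgi32 ygi2 zgi23) (kgi xgi15 ygi59 zgi58) (kgi xgi25 ygi55 zgi23) (kgi xgi31 ygi48 zgi57) (kgi xgi25 ygi55 zgi21) (kgi xgi32 ygi2 zgi19) (kgi xgi15 ygi59 zgi61) (kgi xgi21 ygi42 zgi57) (kgi xgi21 ygi46 zgi35) (kgi xgi21 ygi17 zgi30) (kgi xgi24 ygi41 zgi12) (kgi xgi16 ygi0 zgi6) (kgi xgi17 ygi55 zgi51) (kgi xgi22 ygi3 zgi8) (kgi xgi16 ygi0 zgi12) (kgi xgi23 ygi1 zgi45) (kgi xgi26 ygi58 zgi22) (kgi xgi26 ygi14 zgi39) (kgi xgi16 ygi6 zgi56) (kgi xgi20 ygi36 zgi43) (kgi xgi30 ygi32 zgi58) (kgi xgi32 ygi2 zgi26) (kgi xgi32 ygi2 zgi25) (kgi xgi25 ygi47 zgi31) (kgi xgi31 ygi9 zgi47) (kgi xgi30 ygi32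 zgi59) (kgi xgi16 ygi0 zgi24) (kgi xgi32 ygi2 zgi29) (kgi xgi30 ygi47 zgi54) (kgi xgi27 ygi15 zgi35) (kgi xgi16 ygi0 zgi27) (kgi xgi21 ygi17 zgi26) (kgi xgi27 ygi18 zgi35) (kgi xgi27 ygi17 zgi31) (kgi xgi31 ygi45 zgi23) (kgi xgi27 ygi18 zgi13) (kgi xgi32 ygi1 zgi16) (kgi xgi29 ygi57 zgi6) (kgi xgi29 ygi4 zgi37) (kgi xgi16 ygi0 zgi37) (kgi xgi25 ygi27 zgi7) (kgi xgi30 ygi20 zgi19) (kgi xgi25 ygi30 zgi43) (kgi xgi25 ygi30 zgi21) (kgi xgi23 ygi52 zgi13) (kgi xgi31 ygi16 zgi9) (kgi xgi18 ygi49 zgi9)) (@D3.rec (fun _ => Pt) (kgi xgi16 ygi0 zgi43) (kgi xgi22 ygi15 zgi42) (kgi xgi32 ygi2 zgi40) (kgi xgi28 ygi17 zgi8) (kgi xgi28 ygi44 zgi10) (kgi xgi31 ygi45 zgi39) (kgi xgi18 ygi7 zgi47) (kgi xgi16 ygi0 zgi47) (kgi xgi29 ygi1 zgi48) (kgi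 xgi24 ygi42 zgi42) (kgi xgi30 ygi9 zgi34) (kgi xgi16 ygi0 zgi49) (kgi xgi16 ygi7 zgi2) (kgi xgi29 ygi21 zgi15) (kgi xgi24 ygi34 zgi29) (kgi xgi32 ygi1 zgi47) (kgi xgi24 ygi21 zgi9) (kgi xgi23 ygi10 zgi43) (kgi xgi30 ygi19 zgi55) (kgi xgi16 ygi1 zgi2) (kgi xgi19 ygi6 zgi7) (kgi xgi25 ygi36 zgi37) (kgi xgi19 ygi42 zgi9) (kgi xgi18 ygi17 zgi56) (kgi xgi26 ygi21 zgi26) (kgi xgi31 ygi58 zgi34) (kgi xgi30 ygi47 zgi55) (kgi xgi23 ygi5 zgi34) (kgi xgi26 ygi23 zgi46) (kgi xgi23 ygi10 zgi17) (kgi xgi31 ygi34 zgi54) (kgi xgi25 ygi28 zgi9) (kgi xgi32 ygi2 zgi48) (kgi xgi24 ygi34 zgi13) (kgi xgi16 ygi1 zgi10) (kgi xgi25 ygi55 zgi6) (kgi xgi25 ygi55 zgi5) (kgi xgi32 ygi1 zgi41) (kgi xgi16 ygi1 zgi13) (kgi xgi22 ygi10 zgi35) (kgi xgi17 ygi40 zgi54)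 (kgi xgi16 ygi1 zgi48) (kgi xgi27 ygi27 zgi55) (kgi xgi25 ygi1 zgi3) (kgi xgi25 ygi35 zgi52) (kgi xgi31 ygi36 zgi27) (kgi xgi25 ygi27 zgi53) (kgi xgi17 ygi39 zgi8) (kgi xgi29 ygi48 zgi33) (kgi xgi16 ygi1 zgi21) (kgi xgi16 ygi1 zgi32) (kgi xgi32 ygi2 zgi53) (kgi xgi16 ygi1 zgi29) (kgi xgi17 ygi37 zgi54) (kgi xgi16 ygi1 zgi25) (kgi xgi29 ygi50 zgi28) (kgi xgi29 ygi56 zgi40) (kgi xgi23 ygi55 zgi4) (kgi xgi16 ygi1 zgi28) (kgi xgi32 ygi2 zgi51) (kgi xgi32 ygi2 zgi50) (kgi xgi26 ygi16 zgi51)) (@D3.rec (fun _ => Pt) (kgi xgi28 ygi54 zgi60) (kgi xgi30 ygi40 zgi40) (kgi xgi21 ygi58 zgi8) (kgi xgi16 ygi1 zgi31) (kgi xgi32 ygi2 zgi54) (kgi xgi23 ygi32 zgi14) (kgi xgi32 ygi2 zgi52) (kgi xgi32 ygi1 zgi35) (kgi xgi27 ygi29 zgi36) (kgi xgi16 ygi26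 zgi24) (kgi xgi16 ygi1 zgi50) (kgi xgi29 ygi23 zgi48) (kgi xgi16 ygi1 zgi46) (kgi xgi31 ygi58 zgi57) (kgi xgi16 ygi26 zgi22) (kgi xgi16 ygi1 zgi49) (kgi xgi20 ygi36 zgi41) (kgi xgi26 ygi13 zgi55) (kgi xgi30 ygi6 zgi60) (kgi xgi16 ygi1 zgi52) (kgi xgi16 ygi2 zgi11) (kgi xgi25 ygi32 zgi17) (kgi xgi23 ygi53 zgi60) (kgi xgi32 ygi2 zgi61) (kgi xgi19 ygi30 zgi56) (kgi xgi16 ygi1 zgi55) (kgi xgi30 ygi47 zgi26) (kgi xgi31 ygi18 zgi5) (kgi xgi24 ygi5 zgi39) (kgi xgi23 ygi9 zgi25) (kgi xgi16 ygi1 zgi57) (kgi xgi23 ygi6 zgi3) (kgi xgi23 ygi6 zgi28) (kgi xgi23 ygi18 zgi29) (kgi xgi16 ygi1 zgi58) (kgi xgi23 ygi5 zgi16) (kgi xgi31 ygi36 zgi40) (kgi xgi28 ygi20 zgi44) (kgi xgi30 ygi26 zgi52) (kgi xgi29 ygi30 zgi27) (kgi xgi17 ygi20 zgi33) (kgi xgi18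 ygi22 zgi4) (kgi xgi30 ygi51 zgi9) (kgi xgi24 ygi8 zgi58) (kgi xgi31 ygi18 zgi3) (kgi xgi32 ygi3 zgi4) (kgi xgi16 ygi2 zgi8) (kgi xgi31 ygi33 zgi51) (kgi xgi30 ygi32 zgi39) (kgi xgi22 ygi54 zgi61) (kgi xgi19 ygi8 zgi3) (kgi xgi30 ygi48 zgi46) (kgi xgi16 ygi2 zgi10) (kgi xgi16 ygi2 zgi14) (kgi xgi21 ygi5 zgi35) (kgi xgi25 ygi25 zgi54) (kgi xgi20 ygi59 zgi10) (kgi xgi24 ygi17 zgi2) (kgi xgi17 ygi25 zgi16) (kgi xgi32 ygi1 zgi21) (kgi xgi31 ygi35 zgi16) (kgi xgi16 ygi2 zgi18))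
def fi_g_26 : D2 → D3 → Pt := @D2.rec (fun _ => D3 → Pt) (@D3.rec (fun _ => Pt) (kgi xgi25 ygi6 zgi38) (kgi xgi28 ygi31 zgi15) (kgi xgi24 ygi41 zgi44) (kgi xgi29 ygi4 zgi34) (kgi xgi17 ygi36 zgi8) (kgi xgi25 ygi56 zgi56) (kgi xgi20 ygi55 zgi31) (kgi xgi19 ygi39 zgi19) (kgi xgi16 ygi2 zgi26) (kgi xgi32 ygi3 zgi8) (kgi xgi28 ygi47 zgi44) (kgi xgi16 ygi45 zgi51) (kgi xgi26 ygi0 zgi61) (kgi xgi25 ygi40 zgi24) (kgi xgi16 ygi2 zgi40) (kgi xgi31 ygi59 zgi2) (kgi xgi16 ygi2 zgi45) (kgi xgi26 ygi3 zgi37) (kgi xgi21 ygi24 zgi57) (kgi xgi19 ygi5 zgi45) (kgi xgi16 ygi3 zgi54) (kgi xgi16 ygi6 zgi38) (kgi xgi25 ygi37 zgi21) (kgi xgi19 ygi5 zgi31) (kgi xgi16 ygi2 zgi57) (kgi xgi17 ygi37 zgi34) (kgi xgi25 ygi28 zgi49) (kgi xgi23 ygi56 zgi53) (kgi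 xgi29 ygi0 zgi16) (kgi xgi16 ygi4 zgi33) (kgi xgi31 ygi11 zgi26) (kgi xgi29 ygi51 zgi35) (kgi xgi23 ygi34 zgi41) (kgi xgi19 ygi42 zgi36) (kgi xgi25 ygi38 zgi25) (kgi xgi31 ygi1 zgi35) (kgi xgi31 ygi56 zgi14) (kgi xgi16 ygi3 zgi13) (kgi xgi23 ygi26 zgi36) (kgi xgi24 ygi10 zgi15) (kgi xgi23 ygi26 zgi16) (kgi xgi29 ygi26 zgi43) (kgi xgi16 ygi3 zgi22) (kgi xgi25 ygi39 zgi40) (kgi xgi30 ygi59 zgi26) (kgi xgi31 ygi6 zgi21) (kgi xgi29 ygi13 zgi54) (kgi xgi21 ygi28 zgi31) (kgi xgi27 ygi57 zgi57) (kgi xgi31 ygi6 zgi52) (kgi xgi21 ygi28 zgi24) (kgi xgi23 ygi21 zgi40) (kgi xgi16 ygi47 zgi45) (kgi xgi24 ygi30 zgi47) (kgi xgi16 ygi6 zgi36) (kgi xgi25 ygi2 zgi42) (kgi xgi16 ygi3 zgi37) (kgi xgi23 ygi20 zgi41) (kgi xgi28 ygi24 zgi45) (kgi xgi17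 ygi44 zgi56) (kgi xgi16 ygi3 zgi38) (kgi xgi23 ygi43 zgi39)) (@D3.rec (fun _ => Pt) (kgi xgi28 ygi12 zgi40) (kgi xgi21 ygi46 zgi18) (kgi xgi21 ygi46 zgi12) (kgi xgi25 ygi27 zgi13) (kgi xgi30 ygi13 zgi1) (kgi xgi21 ygi17 zgi21) (kgi xgi29 ygi5 zgi18) (kgi xgi24 ygi36 zgi7) (kgi xgi16 ygi4 zgi0) (kgi xgi19 ygi6 zgi3) (kgi xgi16 ygi4 zgi1) (kgi xgi24 ygi43 zgi25) (kgi xgi18 ygi22 zgi57) (kgi xgi29 ygi54 zgi1) (kgi xgi25 ygi38 zgi19) (kgi xgi16 ygi4 zgi5) (kgi xgi24 ygi27 zgi46) (kgi xgi16 ygi4 zgi7) (kgi xgi16 ygi4 zgi8) (kgi xgi17 ygi38 zgi24) (kgi xgi29 ygi58 zgi1) (kgi xgi22 ygi43 zgi49) (kgi xgi24 ygi49 zgi11) (kgi xgi16 ygi5 zgi0) (kgi xgi16 ygi4 zgi59) (kgi xgi16 ygi41 zgi50) (kgi xgi21 ygi59 zgi54) (kgi xgi18 ygi0 zgi43) (kgi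 xgi19 ygi55 zgi37) (kgi xgi32 ygi3 zgi16) (kgi xgi19 ygi55 zgi28) (kgi xgi21 ygi49 zgi3) (kgi xgi25 ygi42 zgi2) (kgi xgi16 ygi4 zgi17) (kgi xgi25 ygi38 zgi3) (kgi xgi18 ygi5 zgi20) (kgi xgi16 ygi50 zgi43) (kgi xgi16 ygi16 zgi38) (kgi xgi31 ygi29 zgi34) (kgi xgi16 ygi4 zgi26) (kgi xgi25 ygi37 zgi50) (kgi xgi16 ygi5 zgi30) (kgi xgi20 ygi39 zgi28) (kgi xgi31 ygi1 zgi55) (kgi xgi25 ygi40 zgi3) (kgi xgi25 ygi40 zgi4) (kgi xgi31 ygi11 zgi24) (kgi xgi31 ygi57 zgi7) (kgi xgi16 ygi4 zgi45) (kgi xgi28 ygi41 zgi19) (kgi xgi16 ygi4 zgi38) (kgi xgi21 ygi50 zgi2) (kgi xgi29 ygi52 zgi32) (kgi xgi31 ygi48 zgi4) (kgi xgi26 ygi44 zgi12) (kgi xgi16 ygi46 zgi13) (kgi xgi16 ygi5 zgi27) (kgi xgi25 ygi38 zgi20) (kgi xgi24 ygi52 zgi5) (kgi xgi16 ygi4 zgi47)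 (kgi xgi24 ygi51 zgi29) (kgi xgi20 ygi1 zgi47)) (@D3.rec (fun _ => Pt) (kgi xgi24 ygi33 zgi23) (kgi xgi31 ygi22 zgi3) (kgi xgi24 ygi33 zgi19) (kgi xgi24 ygi38 zgi27) (kgi xgi27 ygi26 zgi31) (kgi xgi22 ygi32 zgi11) (kgi xgi24 ygi32 zgi30) (kgi xgi16 ygi41 zgi41) (kgi xgi25 ygi55 zgi12) (kgi xgi25 ygi37 zgi49) (kgi xgi24 ygi44 zgi32) (kgi xgi21 ygi10 zgi7) (kgi xgi16 ygi51 zgi9) (kgi xgi29 ygi44 zgi7) (kgi xgi25 ygi54 zgi3) (kgi xgi31 ygi7 zgi32) (kgi xgi25 ygi41 zgi8) (kgi xgi25 ygi41 zgi7) (kgi xgi16 ygi5 zgi16) (kgi xgi16 ygi5 zgi32) (kgi xgi16 ygi5 zgi20) (kgi xgi25 ygi42 zgi46) (kgi xgi16 ygi17 zgi27) (kgi xgi18 ygi6 zgi28) (kgi xgi21 ygi28 zgi16) (kgi xgi16 ygi5 zgi22) (kgi xgi29 ygi21 zgi59) (kgi xgi24 ygi10 zgi14) (kgi xgi27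 ygi41 zgi11) (kgi xgi16 ygi5 zgi24) (kgi xgi22 ygi38 zgi9) (kgi xgi17 ygi3 zgi19) (kgi xgi30 ygi38 zgi53) (kgi xgi17 ygi4 zgi4) (kgi xgi16 ygi47 zgi61) (kgi xgi16 ygi5 zgi29) (kgi xgi28 ygi42 zgi40) (kgi xgi21 ygi46 zgi33) (kgi xgi21 ygi10 zgi6) (kgi xgi21 ygi46 zgi31) (kgi xgi26 ygi5 zgi8) (kgi xgi19 ygi40 zgi6) (kgi xgi32 ygi3 zgi31) (kgi xgi29 ygi28 zgi11) (kgi xgi19 ygi48 zgi51) (kgi xgi25 ygi44 zgi48) (kgi xgi24 ygi31 zgi45) (kgi xgi16 ygi5 zgi43) (kgi xgi28 ygi40 zgi49) (kgi xgi28 ygi41 zgi21) (kgi xgi25 ygi15 zgi37) (kgi xgi17 ygi41 zgi43) (kgi xgi17 ygi38 zgi26) (kgi xgi32 ygi3 zgi37) (kgi xgi20 ygi39 zgi14) (kgi xgi22 ygi39 zgi1) (kgi xgi16 ygi6 zgi42) (kgi xgi21 ygi28 zgi8) (kgi xgi17 ygi50 zgi23) (kgi xgi24 ygi51 zgi16)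 (kgi xgi27 ygi44 zgi9) (kgi xgi16 ygi5 zgi59)) (@D3.rec (fun _ => Pt) (kgi xgi16 ygi47 zgi6) (kgi xgi24 ygi45 zgi14) (kgi xgi23 ygi42 zgi24) (kgi xgi30 ygi17 zgi44) (kgi xgi16 ygi6 zgi23) (kgi xgi25 ygi41 zgi18) (kgi xgi25 ygi40 zgi48) (kgi xgi22 ygi10 zgi11) (kgi xgi16 ygi6 zgi16) (kgi xgi22 ygi8 zgi35) (kgi xgi30 ygi17 zgi59) (kgi xgi16 ygi6 zgi17) (kgi xgi25 ygi41 zgi17) (kgi xgi21 ygi28 zgi14) (kgi xgi16 ygi54 zgi54) (kgi xgi16 ygi6 zgi21) (kgi xgi24 ygi51 zgi33) (kgi xgi24 ygi51 zgi35) (kgi xgi22 ygi7 zgi36) (kgi xgi16 ygi6 zgi22) (kgi xgi24 ygi51 zgi24) (kgi xgi19 ygi47 zgi38) (kgi xgi31 ygi18 zgi29) (kgi xgi31 ygi36 zgi22) (kgi xgi16 ygi6 zgi25) (kgi xgi30 ygi42 zgi26) (kgi xgi31 ygi6 zgi31) (kgi xgi22 ygi31 zgi36) (kgi xgi16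 ygi6 zgi27) (kgi xgi25 ygi41 zgi3) (kgi xgi30 ygi17 zgi40) (kgi xgi27 ygi27 zgi27) (kgi xgi25 ygi46 zgi23) (kgi xgi21 ygi10 zgi20) (kgi xgi32 ygi3 zgi11) (kgi xgi31 ygi1 zgi14) (kgi xgi23 ygi25 zgi35) (kgi xgi26 ygi0 zgi19) (kgi xgi21 ygi28 zgi6) (kgi xgi16 ygi13 zgi40) (kgi xgi25 ygi43 zgi4) (kgi xgi17 ygi42 zgi52) (kgi xgi23 ygi9 zgi4) (kgi xgi29 ygi12 zgi47) (kgi xgi27 ygi15 zgi13) (kgi xgi25 ygi7 zgi5) (kgi xgi20 ygi18 zgi10) (kgi xgi31 ygi27 zgi41) (kgi xgi20 ygi54 zgi53) (kgi xgi22 ygi32 zgi54) (kgi xgi29 ygi25 zgi34) (kgi xgi17 ygi14 zgi20) (kgi xgi16 ygi7 zgi8) (kgi xgi23 ygi25 zgi6) (kgi xgi27 ygi25 zgi29) (kgi xgi21 ygi51 zgi25) (kgi xgi17 ygi5 zgi47) (kgi xgi28 ygi1 zgi28) (kgi xgi19 ygi57 zgi39) (kgi xgi25 ygi44 zgi36)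 (kgi xgi18 ygi14 zgi42) (kgi xgi25 ygi16 zgi38)) (@D3.rec (fun _ => Pt) (kgi xgi17 ygi30 zgi57) (kgi xgi22 ygi2 zgi13) (kgi xgi16 ygi49 zgi40) (kgi xgi19 ygi48 zgi38) (kgi xgi16 ygi7 zgi37) (kgi xgi22 ygi40 zgi22) (kgi xgi26 ygi11 zgi20) (kgi xgi24 ygi44 zgi40) (kgi xgi31 ygi14 zgi32) (kgi xgi23 ygi54 zgi7) (kgi xgi17 ygi37 zgi41) (kgi xgi21 ygi49 zgi58) (kgi xgi16 ygi9 zgi23) (kgi xgi27 ygi13 zgi47) (kgi xgi20 ygi7 zgi2) (kgi xgi22 ygi29 zgi35) (kgi xgi27 ygi6 zgi4) (kgi xgi30 ygi24 zgi43) (kgi xgi18 ygi7 zgi46) (kgi xgi18 ygi37 zgi21) (kgi xgi27 ygi38 zgi42) (kgi xgi16 ygi7 zgi53) (kgi xgi18 ygi14 zgi37) (kgi xgi27 ygi50 zgi5) (kgi xgi27 ygi59 zgi19) (kgi xgi16 ygi8 zgi0) (kgi xgi32 ygi3 zgi49) (kgi xgi17 ygi46 zgi25) (kgi xgi27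 ygi50 zgi26) (kgi xgi21 ygi7 zgi44) (kgi xgi27 ygi52 zgi8) (kgi xgi27 ygi32 zgi56) (kgi xgi16 ygi8 zgi3) (kgi xgi27 ygi27 zgi50) (kgi xgi24 ygi55 zgi39) (kgi xgi27 ygi27 zgi49) (kgi xgi16 ygi8 zgi4) (kgi xgi16 ygi15 zgi54) (kgi xgi27 ygi47 zgi54) (kgi xgi17 ygi38 zgi11) (kgi xgi24 ygi36 zgi58) (kgi xgi16 ygi8 zgi11) (kgi xgi16 ygi8 zgi14) (kgi xgi26 ygi47 zgi18) (kgi xgi29 ygi3 zgi54) (kgi xgi32 ygi4 zgi2) (kgi xgi16 ygi8 zgi12) (kgi xgi27 ygi1 zgi55) (kgi xgi20 ygi2 zgi19) (kgi xgi20 ygi2 zgi45) (kgi xgi29 ygi59 zgi11) (kgi xgi25 ygi12 zgi35) (kgi xgi32 ygi4 zgi6) (kgi xgi25 ygi8 zgi52) (kgi xgi25 ygi8 zgi50) (kgi xgi16 ygi8 zgi16) (kgi xgi16 ygi8 zgi17) (kgi xgi24 ygi37 zgi36) (kgi xgi32 ygi3 zgi60) (kgi xgi29 ygi4 zgi55) (kgi xgi16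 ygi45 zgi45) (kgi xgi32 ygi4 zgi8)) (@D3.rec (fun _ => Pt) (kgi xgi22 ygi2 zgi24) (kgi xgi16 ygi8 zgi19) (kgi xgi19 ygi24 zgi37) (kgi xgi29 ygi44 zgi54) (kgi xgi19 ygi38 zgi2) (kgi xgi19 ygi37 zgi38) (kgi xgi23 ygi34 zgi39) (kgi xgi29 ygi25 zgi48) (kgi xgi25 ygi41 zgi36) (kgi xgi21 ygi22 zgi1) (kgi xgi24 ygi10 zgi35) (kgi xgi27 ygi26 zgi56) (kgi xgi26 ygi14 zgi19) (kgi xgi21 ygi37 zgi31) (kgi xgi25 ygi32 zgi48) (kgi xgi17 ygi39 zgi28) (kgi xgi25 ygi55 zgi39) (kgi xgi16 ygi20 zgi0) (kgi xgi22 ygi8 zgi49) (kgi xgi16 ygi8 zgi34) (kgi xgi25 ygi16 zgi53) (kgi xgi24 ygi47 zgi39) (kgi xgi27 ygi26 zgi60) (kgi xgi19 ygi59 zgi38) (kgi xgi20 ygi8 zgi13) (kgi xgi25 ygi15 zgi57) (kgi xgi25 ygi49 zgi29) (kgi xgi21 ygi59 zgi42) (kgi xgi16 ygi8 zgi42)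 (kgi xgi23 ygi59 zgi1) (kgi xgi16 ygi42 zgi18) (kgi xgi28 ygi16 zgi1) (kgi xgi26 ygi58 zgi56) (kgi xgi16 ygi8 zgi45) (kgi xgi22 ygi3 zgi48) (kgi xgi16 ygi9 zgi18) (kgi xgi27 ygi6 zgi0) (kgi xgi25 ygi45 zgi36) (kgi xgi20 ygi15 zgi59) (kgi xgi19 ygi42 zgi44) (kgi xgi21 ygi50 zgi53) (kgi xgi16 ygi8 zgi53) (kgi xgi25 ygi44 zgi54) (kgi xgi25 ygi44 zgi51) (kgi xgi17 ygi42 zgi13) (kgi xgi22 ygi9 zgi24) (kgi xgi17 ygi29 zgi46) (kgi xgi25 ygi44 zgi39) (kgi xgi17 ygi42 zgi15) (kgi xgi29 ygi51 zgi52) (kgi xgi16 ygi9 zgi3) (kgi xgi25 ygi44 zgi43) (kgi xgi23 ygi13 zgi4) (kgi xgi21 ygi48 zgi35) (kgi xgi28 ygi42 zgi61) (kgi xgi29 ygi22 zgi46) (kgi xgi16 ygi9 zgi15) (kgi xgi27 ygi19 zgi53) (kgi xgi20 ygi21 zgi59) (kgi xgi16 ygi9 zgi20) (kgi xgi25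 ygi42 zgi32) (kgi xgi21 ygi52 zgi13)) (@D3.rec (fun _ => Pt) (kgi xgi30 ygi18 zgi17) (kgi xgi17 ygi19 zgi55) (kgi xgi25 ygi31 zgi13) (kgi xgi21 ygi9 zgi29) (kgi xgi26 ygi50 zgi1) (kgi xgi28 ygi6 zgi58) (kgi xgi16 ygi9 zgi26) (kgi xgi27 ygi5 zgi59) (kgi xgi31 ygi51 zgi53) (kgi xgi26 ygi49 zgi28) (kgi xgi28 ygi38 zgi48) (kgi xgi25 ygi21 zgi0) (kgi xgi25 ygi44 zgi26) (kgi xgi31 ygi40 zgi45) (kgi xgi25 ygi20 zgi60) (kgi xgi25 ygi9 zgi17) (kgi xgi25 ygi21 zgi7) (kgi xgi25 ygi21 zgi6) (kgi xgi31 ygi50 zgi49) (kgi xgi32 ygi4 zgi25) (kgi xgi16 ygi9 zgi38) (kgi xgi29 ygi11 zgi25) (kgi xgi31 ygi40 zgi1) (kgi xgi26 ygi17 zgi4) (kgi xgi17 ygi38 zgi53) (kgi xgi27 ygi26 zgi38) (kgi xgi16 ygi9 zgi42) (kgi xgi25 ygi23 zgi15) (kgi xgi24 ygi36 zgi61)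 (kgi xgi23 ygi35 zgi25) (kgi xgi16 ygi25 zgi0) (kgi xgi17 ygi53 zgi6) (kgi xgi20 ygi24 zgi22) (kgi xgi19 ygi56 zgi55) (kgi xgi26 ygi9 zgi15) (kgi xgi19 ygi54 zgi48) (kgi xgi24 ygi3 zgi47) (kgi xgi19 ygi54 zgi50) (kgi xgi17 ygi43 zgi27) (kgi xgi27 ygi26 zgi58) (kgi xgi26 ygi8 zgi11) (kgi xgi19 ygi54 zgi41) (kgi xgi24 ygi45 zgi1) (kgi xgi23 ygi8 zgi36) (kgi xgi19 ygi54 zgi43) (kgi xgi26 ygi8 zgi14) (kgi xgi31 ygi28 zgi58) (kgi xgi28 ygi42 zgi56) (kgi xgi27 ygi56 zgi57) (kgi xgi32 ygi4 zgi34) (kgi xgi30 ygi17 zgi38) (kgi xgi24 ygi38 zgi17) (kgi xgi22 ygi54 zgi38) (kgi xgi25 ygi50 zgi6) (kgi xgi29 ygi16 zgi56) (kgi xgi25 ygi24 zgi41) (kgi xgi16 ygi10 zgi6) (kgi xgi23 ygi44 zgi48) (kgi xgi16 ygi49 zgi61) (kgi xgi18 ygi23 zgi0) (kgi xgi16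 ygi10 zgi7) (kgi xgi29 ygi10 zgi8)) (@D3.rec (fun _ => Pt) (kgi xgi25 ygi23 zgi20) (kgi xgi23 ygi10 zgi8) (kgi xgi31 ygi6 zgi18) (kgi xgi19 ygi56 zgi28) (kgi xgi29 ygi48 zgi52) (kgi xgi28 ygi12 zgi28) (kgi xgi24 ygi38 zgi13) (kgi xgi31 ygi12 zgi11) (kgi xgi16 ygi10 zgi14) (kgi xgi16 ygi13 zgi1) (kgi xgi19 ygi56 zgi23) (kgi xgi28 ygi43 zgi55) (kgi xgi23 ygi21 zgi22) (kgi xgi23 ygi33 zgi23) (kgi xgi30 ygi20 zgi35) (kgi xgi28 ygi12 zgi27) (kgi xgi27 ygi57 zgi23) (kgi xgi25 ygi9 zgi11) (kgi xgi31 ygi3 zgi9) (kgi xgi22 ygi42 zgi10) (kgi xgi21 ygi2 zgi23) (kgi xgi26 ygi31 zgi21) (kgi xgi16 ygi10 zgi29) (kgi xgi22 ygi28 zgi21) (kgi xgi29 ygi6 zgi25) (kgi xgi26 ygi9 zgi32) (kgi xgi26 ygi8 zgi42) (kgi xgi16 ygi10 zgi43) (kgi xgi30 ygi34 zgi5)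 (kgi xgi23 ygi21 zgi48) (kgi xgi23 ygi32 zgi57) (kgi xgi30 ygi2 zgi40) (kgi xgi20 ygi13 zgi33) (kgi xgi25 ygi39 zgi54) (kgi xgi26 ygi8 zgi25) (kgi xgi27 ygi44 zgi53) (kgi xgi29 ygi6 zgi26) (kgi xgi16 ygi10 zgi46) (kgi xgi32 ygi4 zgi44) (kgi xgi16 ygi10 zgi48) (kgi xgi25 ygi2 zgi45) (kgi xgi25 ygi2 zgi46) (kgi xgi23 ygi21 zgi23) (kgi xgi26 ygi45 zgi59) (kgi xgi30 ygi2 zgi26) (kgi xgi23 ygi46 zgi59) (kgi xgi23 ygi44 zgi8) (kgi xgi22 ygi30 zgi33) (kgi xgi26 ygi9 zgi0) (kgi xgi23 ygi21 zgi21) (kgi xgi26 ygi47 zgi17) (kgi xgi28 ygi33 zgi25) (kgi xgi24 ygi37 zgi15) (kgi xgi29 ygi44 zgi5) (kgi xgi26 ygi11 zgi14) (kgi xgi16 ygi11 zgi12) (kgi xgi25 ygi8 zgi12) (kgi xgi20 ygi39 zgi10) (kgi xgi16 ygi11 zgi13) (kgi xgi29 ygi44 zgi57) (kgi xgi16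 ygi36 zgi16) (kgi xgi31 ygi35 zgi45)) (@D3.rec (fun _ => Pt) (kgi xgi24 ygi23 zgi32) (kgi xgi23 ygi24 zgi31) (kgi xgi25 ygi39 zgi12) (kgi xgi16 ygi11 zgi19) (kgi xgi31 ygi8 zgi27) (kgi xgi24 ygi34 zgi51) (kgi xgi19 ygi54 zgi44) (kgi xgi29 ygi11 zgi37) (kgi xgi16 ygi50 zgi12) (kgi xgi26 ygi47 zgi6) (kgi xgi28 ygi0 zgi37) (kgi xgi31 ygi53 zgi10) (kgi xgi26 ygi6 zgi45) (kgi xgi31 ygi35 zgi18) (kgi xgi31 ygi35 zgi15) (kgi xgi16 ygi11 zgi29) (kgi xgi18 ygi18 zgi19) (kgi xgi16 ygi11 zgi30) (kgi xgi32 ygi4 zgi51) (kgi xgi26 ygi6 zgi40) (kgi xgi17 ygi33 zgi34) (kgi xgi26 ygi40 zgi1) (kgi xgi30 ygi20 zgi34) (kgi xgi23 ygi43 zgi6) (kgi xgi27 ygi57 zgi18) (kgi xgi16 ygi11 zgi39) (kgi xgi26 ygi7 zgi34) (kgi xgi16 ygi11 zgi40) (kgi xgi18 ygi3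 zgi14) (kgi xgi16 ygi11 zgi41) (kgi xgi26 ygi8 zgi31) (kgi xgi26 ygi8 zgi29) (kgi xgi27 ygi57 zgi12) (kgi xgi30 ygi32 zgi44) (kgi xgi27 ygi57 zgi17) (kgi xgi16 ygi11 zgi46) (kgi xgi18 ygi40 zgi25) (kgi xgi23 ygi14 zgi61) (kgi xgi16 ygi31 zgi55) (kgi xgi31 ygi44 zgi49) (kgi xgi24 ygi47 zgi12) (kgi xgi31 ygi6 zgi9) (kgi xgi22 ygi31 zgi26) (kgi xgi22 ygi30 zgi42) (kgi xgi23 ygi19 zgi54) (kgi xgi23 ygi3 zgi7) (kgi xgi24 ygi59 zgi55) (kgi xgi26 ygi9 zgi38) (kgi xgi31 ygi2 zgi42) (kgi xgi23 ygi45 zgi9) (kgi xgi30 ygi46 zgi13) (kgi xgi30 ygi50 zgi7) (kgi xgi16 ygi12 zgi1) (kgi xgi28 ygi0 zgi54) (kgi xgi25 ygi37 zgi5) (kgi xgi23 ygi20 zgi8) (kgi xgi30 ygi7 zgi26) (kgi xgi21 ygi15 zgi23) (kgi xgi18 ygi40 zgi44) (kgi xgi16 ygi19 zgi48) (kgi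 xgi16 ygi25 zgi7) (kgi xgi26 ygi7 zgi32)) (@D3.rec (fun _ => Pt) (kgi xgi16 ygi12 zgi20) (kgi xgi28 ygi41 zgi4) (kgi xgi27 ygi58 zgi4) (kgi xgi25 ygi0 zgi0) (kgi xgi28 ygi41 zgi15) (kgi xgi26 ygi7 zgi48) (kgi xgi23 ygi10 zgi10) (kgi xgi23 ygi10 zgi5) (kgi xgi31 ygi19 zgi10) (kgi xgi16 ygi50 zgi26) (kgi xgi24 ygi52 zgi25) (kgi xgi17 ygi43 zgi26) (kgi xgi21 ygi1 zgi10) (kgi xgi28 ygi48 zgi40) (kgi xgi23 ygi21 zgi20) (kgi xgi29 ygi52 zgi5) (kgi xgi29 ygi52 zgi13) (kgi xgi31 ygi32 zgi22) (kgi xgi16 ygi12 zgi34) (kgi xgi28 ygi48 zgi41) (kgi xgi28 ygi48 zgi46) (kgi xgi21 ygi0 zgi49) (kgi xgi16 ygi12 zgi35) (kgi xgi30 ygi59 zgi31) (kgi xgi28 ygi13 zgi34) (kgi xgi18 ygi22 zgi56) (kgi xgi31 ygi10 zgi8) (kgi xgi28 ygi28 zgi52) (kgi xgi30 ygi59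 zgi34) (kgi xgi30 ygi57 zgi58) (kgi xgi31 ygi11 zgi37) (kgi xgi30 ygi58 zgi19) (kgi xgi24 ygi31 zgi44) (kgi xgi24 ygi23 zgi39) (kgi xgi32 ygi5 zgi12) (kgi xgi30 ygi2 zgi13) (kgi xgi16 ygi12 zgi44) (kgi xgi30 ygi57 zgi60) (kgi xgi28 ygi49 zgi34) (kgi xgi30 ygi2 zgi14) (kgi xgi30 ygi42 zgi41) (kgi xgi23 ygi31 zgi44) (kgi xgi28 ygi12 zgi30) (kgi xgi16 ygi12 zgi49) (kgi xgi19 ygi53 zgi54) (kgi xgi20 ygi3 zgi32) (kgi xgi25 ygi20 zgi61) (kgi xgi31 ygi20 zgi48) (kgi xgi24 ygi52 zgi47) (kgi xgi25 ygi52 zgi33) (kgi xgi26 ygi54 zgi30) (kgi xgi22 ygi7 zgi43) (kgi xgi30 ygi42 zgi43) (kgi xgi28 ygi0 zgi30) (kgi xgi32 ygi4 zgi31) (kgi xgi22 ygi55 zgi20) (kgi xgi21 ygi56 zgi18) (kgi xgi24 ygi33 zgi44) (kgi xgi16 ygi13 zgi7) (kgi xgi31 ygi52 zgi11)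 (kgi xgi16 ygi13 zgi8) (kgi xgi31 ygi6 zgi19)) (@D3.rec (fun _ => Pt) (kgi xgi19 ygi56 zgi10) (kgi xgi18 ygi18 zgi4) (kgi xgi16 ygi13 zgi9) (kgi xgi29 ygi11 zgi30) (kgi xgi25 ygi23 zgi12) (kgi xgi32 ygi3 zgi42) (kgi xgi20 ygi32 zgi46) (kgi xgi29 ygi6 zgi20) (kgi xgi28 ygi10 zgi57) (kgi xgi20 ygi32 zgi48) (kgi xgi24 ygi9 zgi34) (kgi xgi16 ygi13 zgi17) (kgi xgi26 ygi46 zgi2) (kgi xgi16 ygi13 zgi18) (kgi xgi28 ygi49 zgi33) (kgi xgi23 ygi44 zgi7) (kgi xgi23 ygi20 zgi7) (kgi xgi16 ygi13 zgi22) (kgi xgi17 ygi53 zgi0) (kgi xgi25 ygi9 zgi54) (kgi xgi18 ygi18 zgi40) (kgi xgi30 ygi18 zgi3) (kgi xgi20 ygi27 zgi56) (kgi xgi16 ygi13 zgi29) (kgi xgi25 ygi25 zgi31) (kgi xgi20 ygi16 zgi8) (kgi xgi17 ygi45 zgi0) (kgi xgi27 ygi29 zgi42) (kgi xgi17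 ygi40 zgi1) (kgi xgi16 ygi16 zgi44) (kgi xgi27 ygi23 zgi23) (kgi xgi19 ygi13 zgi59) (kgi xgi26 ygi10 zgi38) (kgi xgi20 ygi16 zgi59) (kgi xgi28 ygi15 zgi12) (kgi xgi16 ygi13 zgi41) (kgi xgi29 ygi12 zgi56) (kgi xgi21 ygi59 zgi43) (kgi xgi17 ygi8 zgi47) (kgi xgi31 ygi58 zgi51) (kgi xgi20 ygi14 zgi25) (kgi xgi25 ygi4 zgi28) (kgi xgi16 ygi13 zgi55) (kgi xgi17 ygi3 zgi58) (kgi xgi17 ygi6 zgi23) (kgi xgi17 ygi40 zgi2) (kgi xgi17 ygi50 zgi60) (kgi xgi16 ygi13 zgi60) (kgi xgi24 ygi54 zgi58) (kgi xgi26 ygi13 zgi7) (kgi xgi21 ygi49 zgi51) (kgi xgi16 ygi16 zgi43) (kgi xgi21 ygi47 zgi57) (kgi xgi27 ygi51 zgi4) (kgi xgi27 ygi3 zgi41) (kgi xgi16 ygi14 zgi2) (kgi xgi17 ygi39 zgi60) (kgi xgi17 ygi42 zgi43) (kgi xgi21 ygi47 zgi37) (kgi xgi22 ygi9 zgi57)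 (kgi xgi30 ygi7 zgi38) (kgi xgi21 ygi59 zgi39)) (@D3.rec (fun _ => Pt) (kgi xgi27 ygi3 zgi46) (kgi xgi27 ygi51 zgi6) (kgi xgi27 ygi29 zgi40) (kgi xgi24 ygi5 zgi1) (kgi xgi29 ygi49 zgi11) (kgi xgi27 ygi19 zgi49) (kgi xgi31 ygi24 zgi19) (kgi xgi20 ygi3 zgi28) (kgi xgi16 ygi14 zgi9) (kgi xgi24 ygi3 zgi15) (kgi xgi21 ygi47 zgi52) (kgi xgi16 ygi14 zgi11) (kgi xgi16 ygi36 zgi55) (kgi xgi16 ygi36 zgi56) (kgi xgi16 ygi38 zgi5) (kgi xgi22 ygi5 zgi58) (kgi xgi21 ygi43 zgi14) (kgi xgi28 ygi42 zgi55) (kgi xgi26 ygi5 zgi52) (kgi xgi16 ygi15 zgi48) (kgi xgi26 ygi4 zgi8) (kgi xgi27 ygi4 zgi1) (kgi xgi17 ygi39 zgi61) (kgi xgi16 ygi14 zgi21) (kgi xgi17 ygi41 zgi8) (kgi xgi27 ygi28 zgi61) (kgi xgi27 ygi28 zgi29) (kgi xgi16 ygi14 zgi22) (kgi xgi21 ygi42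 zgi24) (kgi xgi16 ygi14 zgi23) (kgi xgi17 ygi40 zgi51) (kgi xgi17 ygi41 zgi15) (kgi xgi17 ygi36 zgi55) (kgi xgi18 ygi16 zgi31) (kgi xgi17 ygi40 zgi5) (kgi xgi16 ygi14 zgi29) (kgi xgi17 ygi40 zgi4) (kgi xgi27 ygi38 zgi33) (kgi xgi16 ygi14 zgi30) (kgi xgi16 ygi14 zgi41) (kgi xgi27 ygi27 zgi12) (kgi xgi16 ygi14 zgi35) (kgi xgi32 ygi5 zgi37) (kgi xgi27 ygi27 zgi14) (kgi xgi25 ygi29 zgi52) (kgi xgi30 ygi58 zgi1) (kgi xgi24 ygi29 zgi32) (kgi xgi21 ygi4 zgi34) (kgi xgi16 ygi14 zgi40) (kgi xgi16 ygi14 zgi45) (kgi xgi24 ygi31 zgi37) (kgi xgi27 ygi28 zgi27) (kgi xgi32 ygi5 zgi49) (kgi xgi27 ygi26 zgi22) (kgi xgi17 ygi37 zgi58) (kgi xgi32 ygi5 zgi48) (kgi xgi16 ygi14 zgi43) (kgi xgi32 ygi5 zgi35) (kgi xgi32 ygi5 zgi43) (kgi xgi32 ygi5 zgi55)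 (kgi xgi32 ygi5 zgi54) (kgi xgi16 ygi14 zgi44)) (@D3.rec (fun _ => Pt) (kgi xgi32 ygi5 zgi47) (kgi xgi28 ygi44 zgi3) (kgi xgi28 ygi29 zgi55) (kgi xgi16 ygi14 zgi46) (kgi xgi27 ygi46 zgi14) (kgi xgi16 ygi14 zgi47) (kgi xgi27 ygi26 zgi19) (kgi xgi32 ygi5 zgi60) (kgi xgi17 ygi37 zgi6) (kgi xgi27 ygi26 zgi5) (kgi xgi18 ygi27 zgi24) (kgi xgi27 ygi28 zgi49) (kgi xgi17 ygi37 zgi5) (kgi xgi27 ygi26 zgi21) (kgi xgi27 ygi31 zgi30) (kgi xgi16 ygi19 zgi3) (kgi xgi17 ygi30 zgi28) (kgi xgi16 ygi14 zgi54) (kgi xgi27 ygi24 zgi53) (kgi xgi29 ygi59 zgi31) (kgi xgi17 ygi37 zgi50) (kgi xgi16 ygi15 zgi0) (kgi xgi25 ygi29 zgi41) (kgi xgi26 ygi18 zgi19) (kgi xgi31 ygi14 zgi46) (kgi xgi21 ygi38 zgi23) (kgi xgi19 ygi59 zgi42) (kgi xgi23 ygi30 zgi33) (kgi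 xgi25 ygi15 zgi45) (kgi xgi25 ygi1 zgi40) (kgi xgi27 ygi27 zgi22) (kgi xgi16 ygi15 zgi1) (kgi xgi25 ygi39 zgi39) (kgi xgi21 ygi16 zgi57) (kgi xgi21 ygi22 zgi59) (kgi xgi25 ygi9 zgi61) (kgi xgi23 ygi34 zgi60) (kgi xgi18 ygi7 zgi18) (kgi xgi16 ygi15 zgi15) (kgi xgi31 ygi7 zgi0) (kgi xgi16 ygi15 zgi12) (kgi xgi23 ygi51 zgi46) (kgi xgi19 ygi15 zgi27) (kgi xgi16 ygi23 zgi19) (kgi xgi18 ygi48 zgi29) (kgi xgi16 ygi15 zgi11) (kgi xgi18 ygi7 zgi25) (kgi xgi29 ygi51 zgi30) (kgi xgi16 ygi15 zgi14) (kgi xgi32 ygi6 zgi1) (kgi xgi25 ygi15 zgi56) (kgi xgi23 ygi51 zgi23) (kgi xgi16 ygi23 zgi11) (kgi xgi25 ygi3 zgi35) (kgi xgi16 ygi15 zgi21) (kgi xgi31 ygi48 zgi20) (kgi xgi18 ygi30 zgi23) (kgi xgi17 ygi41 zgi48) (kgi xgi21 ygi27 zgi0) (kgi xgi28 ygi10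 zgi9) (kgi xgi26 ygi16 zgi46) (kgi xgi18 ygi5 zgi35)) (@D3.rec (fun _ => Pt) (kgi xgi22 ygi11 zgi27) (kgi xgi16 ygi15 zgi32) (kgi xgi20 ygi15 zgi0) (kgi xgi28 ygi26 zgi51) (kgi xgi30 ygi5 zgi27) (kgi xgi30 ygi3 zgi46) (kgi xgi23 ygi51 zgi49) (kgi xgi26 ygi10 zgi60) (kgi xgi26 ygi14 zgi31) (kgi xgi18 ygi19 zgi43) (kgi xgi24 ygi56 zgi16) (kgi xgi22 ygi29 zgi12) (kgi xgi16 ygi15 zgi40) (kgi xgi27 ygi31 zgi52) (kgi xgi16 ygi15 zgi45) (kgi xgi27 ygi31 zgi8) (kgi xgi29 ygi20 zgi10) (kgi xgi24 ygi55 zgi18) (kgi xgi22 ygi35 zgi10) (kgi xgi26 ygi20 zgi10) (kgi xgi24 ygi56 zgi14) (kgi xgi24 ygi56 zgi17) (kgi xgi31 ygi0 zgi22) (kgi xgi30 ygi45 zgi43) (kgi xgi22 ygi50 zgi29) (kgi xgi30 ygi1 zgi21) (kgi xgi18 ygi4 zgi35) (kgi xgi26 ygi15 zgi47)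 (kgi xgi19 ygi1 zgi43) (kgi xgi25 ygi1 zgi7) (kgi xgi27 ygi40 zgi6) (kgi xgi22 ygi18 zgi50) (kgi xgi27 ygi31 zgi22) (kgi xgi32 ygi6 zgi6) (kgi xgi27 ygi31 zgi20) (kgi xgi16 ygi15 zgi53) (kgi xgi18 ygi3 zgi33) (kgi xgi27 ygi47 zgi45) (kgi xgi18 ygi8 zgi38) (kgi xgi26 ygi18 zgi17) (kgi xgi16 ygi15 zgi58) (kgi xgi31 ygi38 zgi18) (kgi xgi24 ygi56 zgi30) (kgi xgi29 ygi16 zgi8) (kgi xgi27 ygi39 zgi46) (kgi xgi18 ygi30 zgi15) (kgi xgi16 ygi15 zgi61) (kgi xgi32 ygi3 zgi56) (kgi xgi25 ygi0 zgi58) (kgi xgi25 ygi11 zgi26) (kgi xgi31 ygi7 zgi10) (kgi xgi32 ygi3 zgi57) (kgi xgi30 ygi23 zgi19) (kgi xgi24 ygi54 zgi48) (kgi xgi25 ygi42 zgi20) (kgi xgi25 ygi43 zgi56) (kgi xgi25 ygi23 zgi8) (kgi xgi24 ygi45 zgi22) (kgi xgi25 ygi59 zgi17) (kgi xgi17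 ygi54 zgi8) (kgi xgi16 ygi16 zgi10) (kgi xgi16 ygi16 zgi16)) (@D3.rec (fun _ => Pt) (kgi xgi17 ygi39 zgi14) (kgi xgi16 ygi16 zgi13) (kgi xgi16 ygi16 zgi12) (kgi xgi24 ygi59 zgi2) (kgi xgi27 ygi45 zgi42) (kgi xgi17 ygi21 zgi44) (kgi xgi17 ygi40 zgi28) (kgi xgi17 ygi21 zgi42) (kgi xgi17 ygi39 zgi12) (kgi xgi17 ygi28 zgi0) (kgi xgi17 ygi39 zgi7) (kgi xgi25 ygi43 zgi11) (kgi xgi30 ygi58 zgi49) (kgi xgi29 ygi38 zgi47) (kgi xgi26 ygi18 zgi13) (kgi xgi31 ygi42 zgi61) (kgi xgi18 ygi3 zgi46) (kgi xgi16 ygi16 zgi21) (kgi xgi16 ygi16 zgi23) (kgi xgi26 ygi5 zgi13) (kgi xgi18 ygi8 zgi17) (kgi xgi16 ygi50 zgi47) (kgi xgi27 ygi47 zgi58) (kgi xgi27 ygi30 zgi43) (kgi xgi27 ygi10 zgi22) (kgi xgi27 ygi48 zgi36) (kgi xgi27 ygi25 zgi8) (kgi xgi18 ygi30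 zgi6) (kgi xgi26 ygi12 zgi30) (kgi xgi17 ygi43 zgi29) (kgi xgi25 ygi49 zgi41) (kgi xgi29 ygi51 zgi54) (kgi xgi18 ygi5 zgi30) (kgi xgi30 ygi8 zgi26) (kgi xgi19 ygi14 zgi52) (kgi xgi19 ygi14 zgi53) (kgi xgi21 ygi8 zgi24) (kgi xgi27 ygi45 zgi53) (kgi xgi24 ygi30 zgi54) (kgi xgi16 ygi16 zgi39) (kgi xgi25 ygi57 zgi32) (kgi xgi16 ygi16 zgi42) (kgi xgi17 ygi35 zgi33) (kgi xgi17 ygi40 zgi0) (kgi xgi17 ygi52 zgi50) (kgi xgi23 ygi49 zgi55) (kgi xgi19 ygi1 zgi2) (kgi xgi21 ygi37 zgi14) (kgi xgi26 ygi32 zgi60) (kgi xgi27 ygi58 zgi25) (kgi xgi21 ygi26 zgi25) (kgi xgi31 ygi45 zgi20) (kgi xgi16 ygi16 zgi52) (kgi xgi22 ygi46 zgi11) (kgi xgi24 ygi55 zgi3) (kgi xgi17 ygi41 zgi30) (kgi xgi16 ygi16 zgi55) (kgi xgi27 ygi30 zgi56) (kgi xgi23 ygi20 zgi60)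 (kgi xgi28 ygi27 zgi41) (kgi xgi18 ygi6 zgi32) (kgi xgi18 ygi8 zgi33)) (@D3.rec (fun _ => Pt) (kgi xgi16 ygi17 zgi8) (kgi xgi24 ygi54 zgi53) (kgi xgi16 ygi22 zgi52) (kgi xgi25 ygi25 zgi2) (kgi xgi17 ygi50 zgi20) (kgi xgi27 ygi20 zgi28) (kgi xgi19 ygi44 zgi11) (kgi xgi18 ygi26 zgi56) (kgi xgi16 ygi17 zgi15) (kgi xgi18 ygi10 zgi48) (kgi xgi17 ygi45 zgi22) (kgi xgi25 ygi58 zgi56) (kgi xgi21 ygi16 zgi61) (kgi xgi30 ygi4 zgi1) (kgi xgi17 ygi30 zgi22) (kgi xgi27 ygi46 zgi41) (kgi xgi18 ygi26 zgi61) (kgi xgi31 ygi38 zgi23) (kgi xgi31 ygi38 zgi28) (kgi xgi32 ygi6 zgi24) (kgi xgi16 ygi18 zgi40) (kgi xgi17 ygi43 zgi4) (kgi xgi31 ygi42 zgi22) (kgi xgi26 ygi17 zgi42) (kgi xgi27 ygi24 zgi55) (kgi xgi29 ygi51 zgi23) (kgi xgi20 ygi11 zgi6) (kgi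 xgi24 ygi36 zgi45) (kgi xgi30 ygi4 zgi13) (kgi xgi32 ygi6 zgi32) (kgi xgi25 ygi10 zgi58) (kgi xgi31 ygi44 zgi43) (kgi xgi27 ygi45 zgi0) (kgi xgi16 ygi17 zgi54) (kgi xgi32 ygi6 zgi33) (kgi xgi27 ygi48 zgi40) (kgi xgi16 ygi17 zgi41) (kgi xgi20 ygi11 zgi8) (kgi xgi31 ygi59 zgi48) (kgi xgi16 ygi17 zgi42) (kgi xgi25 ygi2 zgi58) (kgi xgi16 ygi18 zgi10) (kgi xgi31 ygi8 zgi9) (kgi xgi28 ygi28 zgi35) (kgi xgi25 ygi57 zgi7) (kgi xgi16 ygi17 zgi58) (kgi xgi29 ygi17 zgi29) (kgi xgi26 ygi13 zgi13) (kgi xgi30 ygi7 zgi39) (kgi xgi25 ygi4 zgi22) (kgi xgi23 ygi52 zgi12) (kgi xgi16 ygi17 zgi61) (kgi xgi26 ygi13 zgi8) (kgi xgi16 ygi18 zgi14) (kgi xgi24 ygi11 zgi16) (kgi xgi21 ygi25 zgi28) (kgi xgi32 ygi6 zgi39) (kgi xgi23 ygi17 zgi8) (kgi xgi24 ygi3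 zgi10) (kgi xgi16 ygi18 zgi13) (kgi xgi16 ygi18 zgi22) (kgi xgi16 ygi18 zgi20)) (@D3.rec (fun _ => Pt) (kgi xgi19 ygi22 zgi22) (kgi xgi28 ygi46 zgi24) (kgi xgi25 ygi24 zgi9) (kgi xgi28 ygi29 zgi36) (kgi xgi23 ygi50 zgi13) (kgi xgi22 ygi15 zgi12) (kgi xgi25 ygi0 zgi24) (kgi xgi16 ygi18 zgi25) (kgi xgi27 ygi45 zgi60) (kgi xgi17 ygi52 zgi20) (kgi xgi18 ygi16 zgi40) (kgi xgi16 ygi18 zgi27) (kgi xgi27 ygi39 zgi29) (kgi xgi27 ygi43 zgi34) (kgi xgi16 ygi18 zgi28) (kgi xgi18 ygi16 zgi59) (kgi xgi27 ygi39 zgi56) (kgi xgi16 ygi18 zgi31) (kgi xgi27 ygi39 zgi58) (kgi xgi18 ygi2 zgi36) (kgi xgi27 ygi34 zgi26) (kgi xgi27 ygi46 zgi40) (kgi xgi27 ygi39 zgi42) (kgi xgi31 ygi43 zgi35) (kgi xgi27 ygi39 zgi39) (kgi xgi16 ygi18 zgi37) (kgi xgi27 ygi39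 zgi31) (kgi xgi17 ygi52 zgi18) (kgi xgi31 ygi57 zgi53) (kgi xgi16 ygi18 zgi41) (kgi xgi17 ygi39 zgi51) (kgi xgi31 ygi38 zgi29) (kgi xgi32 ygi6 zgi51) (kgi xgi31 ygi43 zgi9) (kgi xgi16 ygi18 zgi42) (kgi xgi30 ygi4 zgi0) (kgi xgi16 ygi18 zgi44) (kgi xgi16 ygi18 zgi47) (kgi xgi23 ygi50 zgi10) (kgi xgi17 ygi38 zgi50) (kgi xgi31 ygi8 zgi18) (kgi xgi16 ygi18 zgi51) (kgi xgi26 ygi16 zgi43) (kgi xgi26 ygi16 zgi41) (kgi xgi18 ygi16 zgi26) (kgi xgi27 ygi4 zgi49) (kgi xgi20 ygi4 zgi12) (kgi xgi26 ygi1 zgi2) (kgi xgi30 ygi1 zgi38) (kgi xgi16 ygi19 zgi0) (kgi xgi31 ygi55 zgi10) (kgi xgi25 ygi59 zgi1) (kgi xgi25 ygi30 zgi37) (kgi xgi21 ygi58 zgi16) (kgi xgi16 ygi19 zgi8) (kgi xgi25 ygi29 zgi48) (kgi xgi30 ygi14 zgi17) (kgi xgi16 ygi19 zgi6) (kgi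 xgi17 ygi39 zgi13) (kgi xgi20 ygi3 zgi58) (kgi xgi16 ygi19 zgi7) (kgi xgi27 ygi25 zgi33)) (@D3.rec (fun _ => Pt) (kgi xgi25 ygi15 zgi43) (kgi xgi18 ygi5 zgi33) (kgi xgi27 ygi26 zgi52) (kgi xgi27 ygi5 zgi48) (kgi xgi27 ygi24 zgi48) (kgi xgi16 ygi19 zgi15) (kgi xgi31 ygi1 zgi18) (kgi xgi16 ygi19 zgi12) (kgi xgi16 ygi19 zgi14) (kgi xgi31 ygi7 zgi44) (kgi xgi16 ygi35 zgi8) (kgi xgi26 ygi19 zgi22) (kgi xgi26 ygi19 zgi35) (kgi xgi26 ygi20 zgi44) (kgi xgi24 ygi46 zgi3) (kgi xgi16 ygi24 zgi9) (kgi xgi26 ygi18 zgi55) (kgi xgi17 ygi54 zgi45) (kgi xgi32 ygi6 zgi57) (kgi xgi27 ygi33 zgi25) (kgi xgi22 ygi55 zgi54) (kgi xgi16 ygi22 zgi23) (kgi xgi19 ygi13 zgi7) (kgi xgi26 ygi19 zgi46) (kgi xgi29 ygi20 zgi11) (kgi xgi16 ygi19 zgi30) (kgi xgi28 ygi24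 zgi24) (kgi xgi20 ygi10 zgi47) (kgi xgi23 ygi51 zgi40) (kgi xgi26 ygi19 zgi47) (kgi xgi32 ygi6 zgi61) (kgi xgi16 ygi20 zgi41) (kgi xgi31 ygi43 zgi15) (kgi xgi27 ygi55 zgi26) (kgi xgi16 ygi52 zgi17) (kgi xgi27 ygi33 zgi23) (kgi xgi17 ygi47 zgi50) (kgi xgi28 ygi17 zgi21) (kgi xgi28 ygi0 zgi8) (kgi xgi16 ygi19 zgi38) (kgi xgi20 ygi36 zgi32) (kgi xgi29 ygi31 zgi15) (kgi xgi26 ygi20 zgi53) (kgi xgi16 ygi19 zgi43) (kgi xgi16 ygi19 zgi47) (kgi xgi29 ygi25 zgi1) (kgi xgi16 ygi32 zgi58) (kgi xgi25 ygi0 zgi10) (kgi xgi17 ygi44 zgi43) (kgi xgi29 ygi47 zgi54) (kgi xgi24 ygi54 zgi43) (kgi xgi24 ygi28 zgi27) (kgi xgi27 ygi41 zgi52) (kgi xgi19 ygi45 zgi44) (kgi xgi26 ygi20 zgi37) (kgi xgi16 ygi19 zgi51) (kgi xgi32 ygi7 zgi11) (kgi xgi29 ygi50 zgi22)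 (kgi xgi16 ygi19 zgi53) (kgi xgi27 ygi13 zgi24) (kgi xgi26 ygi24 zgi40) (kgi xgi28 ygi12 zgi0)) (@D3.rec (fun _ => Pt) (kgi xgi25 ygi40 zgi13) (kgi xgi25 ygi45 zgi58) (kgi xgi32 ygi6 zgi9) (kgi xgi27 ygi48 zgi53) (kgi xgi31 ygi42 zgi43) (kgi xgi27 ygi49 zgi2) (kgi xgi27 ygi26 zgi50) (kgi xgi30 ygi8 zgi55) (kgi xgi31 ygi38 zgi34) (kgi xgi16 ygi20 zgi5) (kgi xgi21 ygi54 zgi60) (kgi xgi21 ygi49 zgi6) (kgi xgi25 ygi3 zgi39) (kgi xgi26 ygi21 zgi3) (kgi xgi16 ygi20 zgi11) (kgi xgi27 ygi39 zgi51) (kgi xgi29 ygi16 zgi9) (kgi xgi20 ygi11 zgi10) (kgi xgi18 ygi30 zgi26) (kgi xgi26 ygi13 zgi35) (kgi xgi31 ygi59 zgi17) (kgi xgi18 ygi19 zgi58) (kgi xgi27 ygi58 zgi39) (kgi xgi24 ygi28 zgi25) (kgi xgi17 ygi51 zgi42) (kgi xgi21 ygi12 zgi54) (kgi xgi30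 ygi54 zgi18) (kgi xgi23 ygi25 zgi40) (kgi xgi26 ygi17 zgi15) (kgi xgi19 ygi12 zgi4) (kgi xgi20 ygi10 zgi61) (kgi xgi20 ygi10 zgi60) (kgi xgi32 ygi7 zgi19) (kgi xgi27 ygi58 zgi54) (kgi xgi20 ygi10 zgi57) (kgi xgi20 ygi10 zgi55) (kgi xgi18 ygi12 zgi26) (kgi xgi28 ygi7 zgi0) (kgi xgi16 ygi20 zgi42) (kgi xgi24 ygi56 zgi1) (kgi xgi16 ygi20 zgi43) (kgi xgi26 ygi21 zgi37) (kgi xgi20 ygi8 zgi21) (kgi xgi31 ygi38 zgi46) (kgi xgi16 ygi21 zgi8) (kgi xgi18 ygi3 zgi19) (kgi xgi28 ygi26 zgi2) (kgi xgi18 ygi14 zgi34) (kgi xgi18 ygi49 zgi39) (kgi xgi26 ygi19 zgi27) (kgi xgi26 ygi21 zgi40) (kgi xgi25 ygi1 zgi41) (kgi xgi27 ygi25 zgi25) (kgi xgi16 ygi20 zgi56) (kgi xgi24 ygi56 zgi37) (kgi xgi28 ygi0 zgi6) (kgi xgi18 ygi31 zgi20) (kgi xgi18 ygi38 zgi58)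 (kgi xgi29 ygi18 zgi36) (kgi xgi16 ygi20 zgi59) (kgi xgi24 ygi53 zgi57) (kgi xgi24 ygi53 zgi58)) (@D3.rec (fun _ => Pt) (kgi xgi20 ygi7 zgi9) (kgi xgi20 ygi7 zgi7) (kgi xgi32 ygi7 zgi28) (kgi xgi24 ygi53 zgi56) (kgi xgi24 ygi24 zgi11) (kgi xgi27 ygi39 zgi45) (kgi xgi27 ygi48 zgi34) (kgi xgi27 ygi28 zgi60) (kgi xgi16 ygi21 zgi7) (kgi xgi24 ygi54 zgi34) (kgi xgi18 ygi4 zgi53) (kgi xgi30 ygi42 zgi52) (kgi xgi21 ygi26 zgi8) (kgi xgi27 ygi25 zgi55) (kgi xgi16 ygi21 zgi29) (kgi xgi21 ygi13 zgi61) (kgi xgi31 ygi32 zgi46) (kgi xgi16 ygi35 zgi50) (kgi xgi16 ygi21 zgi33) (kgi xgi25 ygi46 zgi43) (kgi xgi16 ygi21 zgi18) (kgi xgi24 ygi46 zgi56) (kgi xgi29 ygi53 zgi14) (kgi xgi31 ygi32 zgi48) (kgi xgi16 ygi21 zgi20) (kgi xgi18 ygi12 zgi4) (kgi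 xgi16 ygi33 zgi57) (kgi xgi26 ygi18 zgi56) (kgi xgi16 ygi21 zgi22) (kgi xgi28 ygi7 zgi37) (kgi xgi18 ygi33 zgi12) (kgi xgi28 ygi18 zgi48) (kgi xgi24 ygi40 zgi36) (kgi xgi16 ygi21 zgi27) (kgi xgi28 ygi13 zgi0) (kgi xgi28 ygi27 zgi45) (kgi xgi26 ygi23 zgi32) (kgi xgi21 ygi54 zgi14) (kgi xgi16 ygi33 zgi1) (kgi xgi17 ygi31 zgi37) (kgi xgi28 ygi2 zgi29) (kgi xgi23 ygi31 zgi50) (kgi xgi24 ygi55 zgi40) (kgi xgi26 ygi43 zgi52) (kgi xgi17 ygi54 zgi55) (kgi xgi27 ygi53 zgi9) (kgi xgi26 ygi17 zgi29) (kgi xgi26 ygi17 zgi23) (kgi xgi22 ygi50 zgi15) (kgi xgi16 ygi35 zgi61) (kgi xgi27 ygi32 zgi1) (kgi xgi19 ygi2 zgi4) (kgi xgi26 ygi21 zgi39) (kgi xgi27 ygi56 zgi12) (kgi xgi19 ygi2 zgi2) (kgi xgi30 ygi53 zgi12) (kgi xgi16 ygi21 zgi59) (kgi xgi18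 ygi56 zgi22) (kgi xgi30 ygi48 zgi53) (kgi xgi26 ygi32 zgi39) (kgi xgi17 ygi51 zgi1) (kgi xgi20 ygi10 zgi53)) (@D3.rec (fun _ => Pt) (kgi xgi26 ygi32 zgi13) (kgi xgi16 ygi22 zgi0) (kgi xgi26 ygi32 zgi44) (kgi xgi18 ygi58 zgi58) (kgi xgi18 ygi56 zgi42) (kgi xgi18 ygi39 zgi0) (kgi xgi25 ygi46 zgi15) (kgi xgi18 ygi34 zgi36) (kgi xgi17 ygi50 zgi36) (kgi xgi18 ygi22 zgi7) (kgi xgi26 ygi13 zgi16) (kgi xgi27 ygi58 zgi30) (kgi xgi19 ygi0 zgi30) (kgi xgi27 ygi33 zgi41) (kgi xgi29 ygi53 zgi6) (kgi xgi27 ygi9 zgi46) (kgi xgi29 ygi26 zgi42) (kgi xgi20 ygi35 zgi43) (kgi xgi29 ygi19 zgi34) (kgi xgi16 ygi22 zgi25) (kgi xgi16 ygi22 zgi30) (kgi xgi31 ygi22 zgi22) (kgi xgi31 ygi32 zgi37) (kgi xgi28 ygi27 zgi11) (kgi xgi16 ygi22 zgi29) (kgi xgi25 ygi18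 zgi41) (kgi xgi26 ygi56 zgi12) (kgi xgi30 ygi55 zgi23) (kgi xgi16 ygi22 zgi32) (kgi xgi16 ygi22 zgi33) (kgi xgi32 ygi7 zgi3) (kgi xgi25 ygi28 zgi27) (kgi xgi31 ygi59 zgi60) (kgi xgi16 ygi33 zgi28) (kgi xgi16 ygi22 zgi37) (kgi xgi29 ygi4 zgi41) (kgi xgi31 ygi30 zgi22) (kgi xgi26 ygi17 zgi53) (kgi xgi23 ygi9 zgi10) (kgi xgi19 ygi9 zgi46) (kgi xgi23 ygi11 zgi46) (kgi xgi22 ygi50 zgi5) (kgi xgi18 ygi56 zgi41) (kgi xgi30 ygi32 zgi5) (kgi xgi26 ygi17 zgi10) (kgi xgi31 ygi38 zgi27) (kgi xgi27 ygi39 zgi32) (kgi xgi16 ygi22 zgi53) (kgi xgi24 ygi56 zgi13) (kgi xgi19 ygi0 zgi41) (kgi xgi16 ygi22 zgi56) (kgi xgi18 ygi8 zgi49) (kgi xgi30 ygi45 zgi56) (kgi xgi16 ygi22 zgi57) (kgi xgi32 ygi6 zgi44) (kgi xgi25 ygi1 zgi2) (kgi xgi16 ygi22 zgi61) (kgi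 xgi18 ygi34 zgi28) (kgi xgi31 ygi13 zgi5) (kgi xgi18 ygi3 zgi23) (kgi xgi31 ygi42 zgi8) (kgi xgi29 ygi38 zgi46)) (@D3.rec (fun _ => Pt) (kgi xgi18 ygi9 zgi14) (kgi xgi27 ygi31 zgi1) (kgi xgi21 ygi11 zgi58) (kgi xgi23 ygi49 zgi54) (kgi xgi16 ygi23 zgi2) (kgi xgi16 ygi32 zgi34) (kgi xgi32 ygi7 zgi52) (kgi xgi32 ygi5 zgi59) (kgi xgi16 ygi23 zgi9) (kgi xgi20 ygi46 zgi52) (kgi xgi31 ygi45 zgi18) (kgi xgi18 ygi7 zgi10) (kgi xgi18 ygi3 zgi61) (kgi xgi19 ygi22 zgi29) (kgi xgi18 ygi21 zgi54) (kgi xgi26 ygi31 zgi50) (kgi xgi20 ygi18 zgi25) (kgi xgi28 ygi27 zgi10) (kgi xgi16 ygi23 zgi25) (kgi xgi16 ygi23 zgi27) (kgi xgi32 ygi7 zgi55) (kgi xgi23 ygi9 zgi15) (kgi xgi32 ygi7 zgi25) (kgi xgi16 ygi27 zgi41) (kgi xgi21 ygi12 zgi12) (kgi xgi31 ygi44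 zgi48) (kgi xgi25 ygi58 zgi26) (kgi xgi28 ygi7 zgi22) (kgi xgi26 ygi56 zgi10) (kgi xgi16 ygi23 zgi30) (kgi xgi26 ygi29 zgi20) (kgi xgi28 ygi52 zgi50) (kgi xgi32 ygi8 zgi1) (kgi xgi16 ygi23 zgi31) (kgi xgi16 ygi34 zgi23) (kgi xgi16 ygi34 zgi21) (kgi xgi26 ygi18 zgi42) (kgi xgi26 ygi18 zgi40) (kgi xgi27 ygi46 zgi39) (kgi xgi31 ygi43 zgi4) (kgi xgi28 ygi27 zgi53) (kgi xgi24 ygi58 zgi48) (kgi xgi18 ygi9 zgi25) (kgi xgi16 ygi23 zgi43) (kgi xgi29 ygi54 zgi12) (kgi xgi29 ygi54 zgi13) (kgi xgi27 ygi57 zgi28) (kgi xgi27 ygi11 zgi45) (kgi xgi20 ygi8 zgi61) (kgi xgi26 ygi30 zgi3) (kgi xgi32 ygi6 zgi3) (kgi xgi30 ygi17 zgi52) (kgi xgi24 ygi19 zgi20) (kgi xgi16 ygi24 zgi0) (kgi xgi30 ygi52 zgi54) (kgi xgi30 ygi21 zgi35) (kgi xgi28 ygi55 zgi15)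 (kgi xgi16 ygi24 zgi2) (kgi xgi30 ygi42 zgi17) (kgi xgi27 ygi40 zgi43) (kgi xgi21 ygi53 zgi32) (kgi xgi20 ygi19 zgi46)) (@D3.rec (fun _ => Pt) (kgi xgi28 ygi12 zgi34) (kgi xgi23 ygi15 zgi19) (kgi xgi16 ygi24 zgi23) (kgi xgi17 ygi23 zgi2) (kgi xgi24 ygi47 zgi5) (kgi xgi18 ygi14 zgi4) (kgi xgi16 ygi24 zgi29) (kgi xgi16 ygi24 zgi44) (kgi xgi30 ygi51 zgi7) (kgi xgi28 ygi12 zgi48) (kgi xgi16 ygi24 zgi34) (kgi xgi16 ygi24 zgi35) (kgi xgi17 ygi2 zgi28) (kgi xgi26 ygi29 zgi37) (kgi xgi16 ygi24 zgi48) (kgi xgi32 ygi8 zgi9) (kgi xgi30 ygi50 zgi13) (kgi xgi31 ygi43 zgi28) (kgi xgi16 ygi24 zgi43) (kgi xgi30 ygi52 zgi59) (kgi xgi32 ygi8 zgi12) (kgi xgi24 ygi34 zgi36) (kgi xgi17 ygi14 zgi61) (kgi xgi21 ygi38 zgi10) (kgi xgi16 ygi52 zgi51) (kgi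 xgi32 ygi8 zgi15) (kgi xgi19 ygi17 zgi43) (kgi xgi31 ygi42 zgi0) (kgi xgi16 ygi26 zgi25) (kgi xgi21 ygi11 zgi51) (kgi xgi30 ygi36 zgi12) (kgi xgi21 ygi12 zgi32) (kgi xgi30 ygi12 zgi31) (kgi xgi29 ygi22 zgi2) (kgi xgi24 ygi20 zgi41) (kgi xgi16 ygi24 zgi56) (kgi xgi19 ygi46 zgi61) (kgi xgi21 ygi11 zgi44) (kgi xgi16 ygi24 zgi61) (kgi xgi16 ygi25 zgi5) (kgi xgi27 ygi57 zgi10) (kgi xgi20 ygi24 zgi14) (kgi xgi21 ygi28 zgi37) (kgi xgi21 ygi29 zgi23) (kgi xgi24 ygi42 zgi35) (kgi xgi29 ygi39 zgi39) (kgi xgi23 ygi31 zgi11) (kgi xgi23 ygi43 zgi14) (kgi xgi16 ygi25 zgi10) (kgi xgi21 ygi14 zgi35) (kgi xgi16 ygi26 zgi56) (kgi xgi27 ygi57 zgi40) (kgi xgi22 ygi52 zgi13) (kgi xgi28 ygi36 zgi0) (kgi xgi20 ygi15 zgi16) (kgi xgi16 ygi25 zgi31) (kgi xgi16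 ygi25 zgi28) (kgi xgi17 ygi2 zgi38) (kgi xgi20 ygi36 zgi5) (kgi xgi21 ygi44 zgi7) (kgi xgi20 ygi14 zgi21) (kgi xgi20 ygi13 zgi28)) (@D3.rec (fun _ => Pt) (kgi xgi16 ygi25 zgi34) (kgi xgi16 ygi25 zgi37) (kgi xgi25 ygi17 zgi52) (kgi xgi16 ygi25 zgi38) (kgi xgi26 ygi21 zgi49) (kgi xgi22 ygi56 zgi48) (kgi xgi16 ygi25 zgi39) (kgi xgi18 ygi18 zgi29) (kgi xgi16 ygi27 zgi54) (kgi xgi16 ygi25 zgi49) (kgi xgi16 ygi50 zgi19) (kgi xgi21 ygi29 zgi49) (kgi xgi16 ygi25 zgi47) (kgi xgi18 ygi18 zgi6) (kgi xgi23 ygi21 zgi25) (kgi xgi16 ygi33 zgi37) (kgi xgi20 ygi8 zgi50) (kgi xgi29 ygi16 zgi14) (kgi xgi22 ygi52 zgi41) (kgi xgi22 ygi10 zgi1) (kgi xgi16 ygi26 zgi16) (kgi xgi29 ygi7 zgi45) (kgi xgi16 ygi26 zgi13) (kgi xgi16 ygi25 zgi60) (kgi xgi21 ygi10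 zgi38) (kgi xgi25 ygi58 zgi17) (kgi xgi23 ygi10 zgi3) (kgi xgi20 ygi49 zgi49) (kgi xgi16 ygi26 zgi11) (kgi xgi20 ygi45 zgi18) (kgi xgi25 ygi51 zgi60) (kgi xgi31 ygi44 zgi51) (kgi xgi27 ygi58 zgi32) (kgi xgi20 ygi45 zgi16) (kgi xgi27 ygi56 zgi42) (kgi xgi21 ygi51 zgi16) (kgi xgi19 ygi20 zgi44) (kgi xgi24 ygi2 zgi13) (kgi xgi16 ygi26 zgi15) (kgi xgi32 ygi4 zgi14) (kgi xgi31 ygi28 zgi48) (kgi xgi17 ygi0 zgi37) (kgi xgi24 ygi11 zgi5) (kgi xgi25 ygi55 zgi11) (kgi xgi30 ygi17 zgi7) (kgi xgi28 ygi13 zgi14) (kgi xgi16 ygi26 zgi28) (kgi xgi17 ygi0 zgi43) (kgi xgi30 ygi53 zgi39) (kgi xgi16 ygi26 zgi31) (kgi xgi23 ygi5 zgi26) (kgi xgi29 ygi37 zgi43) (kgi xgi23 ygi9 zgi49) (kgi xgi16 ygi26 zgi36) (kgi xgi25 ygi6 zgi57) (kgi xgi22 ygi2 zgi17)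 (kgi xgi20 ygi17 zgi59) (kgi xgi27 ygi41 zgi41) (kgi xgi16 ygi26 zgi41) (kgi xgi24 ygi54 zgi13) (kgi xgi32 ygi8 zgi25) (kgi xgi20 ygi34 zgi60)) (@D3.rec (fun _ => Pt) (kgi xgi16 ygi28 zgi51) (kgi xgi19 ygi45 zgi16) (kgi xgi21 ygi38 zgi12) (kgi xgi30 ygi23 zgi60) (kgi xgi21 ygi10 zgi34) (kgi xgi31 ygi1 zgi4) (kgi xgi19 ygi37 zgi25) (kgi xgi25 ygi28 zgi28) (kgi xgi16 ygi26 zgi53) (kgi xgi25 ygi2 zgi5) (kgi xgi29 ygi9 zgi8) (kgi xgi28 ygi44 zgi43) (kgi xgi21 ygi11 zgi40) (kgi xgi31 ygi48 zgi43) (kgi xgi26 ygi24 zgi44) (kgi xgi22 ygi55 zgi58) (kgi xgi22 ygi53 zgi10) (kgi xgi29 ygi36 zgi47) (kgi xgi30 ygi24 zgi21) (kgi xgi22 ygi59 zgi49) (kgi xgi27 ygi41 zgi60) (kgi xgi22 ygi54 zgi60) (kgi xgi32 ygi8 zgi31) (kgi xgi27 ygi58 zgi36) (kgi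 xgi20 ygi29 zgi41) (kgi xgi24 ygi13 zgi23) (kgi xgi32 ygi8 zgi33) (kgi xgi22 ygi27 zgi46) (kgi xgi31 ygi33 zgi43) (kgi xgi20 ygi35 zgi9) (kgi xgi29 ygi53 zgi53) (kgi xgi25 ygi9 zgi8) (kgi xgi22 ygi12 zgi59) (kgi xgi24 ygi45 zgi54) (kgi xgi22 ygi6 zgi42) (kgi xgi16 ygi27 zgi19) (kgi xgi22 ygi27 zgi45) (kgi xgi25 ygi28 zgi30) (kgi xgi16 ygi27 zgi25) (kgi xgi16 ygi27 zgi27) (kgi xgi25 ygi2 zgi11) (kgi xgi26 ygi17 zgi60) (kgi xgi17 ygi57 zgi36) (kgi xgi17 ygi57 zgi38) (kgi xgi16 ygi27 zgi30) (kgi xgi24 ygi7 zgi39) (kgi xgi26 ygi24 zgi45) (kgi xgi27 ygi42 zgi5) (kgi xgi26 ygi26 zgi35) (kgi xgi28 ygi34 zgi45) (kgi xgi20 ygi34 zgi49) (kgi xgi26 ygi28 zgi20) (kgi xgi28 ygi12 zgi22) (kgi xgi20 ygi8 zgi2) (kgi xgi27 ygi40 zgi34) (kgi xgi20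 ygi8 zgi7) (kgi xgi32 ygi8 zgi40) (kgi xgi26 ygi28 zgi45) (kgi xgi26 ygi8 zgi57) (kgi xgi20 ygi31 zgi38) (kgi xgi16 ygi27 zgi47) (kgi xgi17 ygi15 zgi9)) (@D3.rec (fun _ => Pt) (kgi xgi21 ygi13 zgi15) (kgi xgi25 ygi49 zgi20) (kgi xgi30 ygi3 zgi3) (kgi xgi18 ygi23 zgi6) (kgi xgi18 ygi22 zgi45) (kgi xgi26 ygi26 zgi12) (kgi xgi20 ygi1 zgi7) (kgi xgi19 ygi58 zgi50) (kgi xgi18 ygi23 zgi1) (kgi xgi16 ygi32 zgi57) (kgi xgi28 ygi13 zgi49) (kgi xgi22 ygi42 zgi20) (kgi xgi23 ygi46 zgi61) (kgi xgi16 ygi50 zgi40) (kgi xgi25 ygi1 zgi58) (kgi xgi25 ygi42 zgi54) (kgi xgi27 ygi42 zgi12) (kgi xgi22 ygi47 zgi50) (kgi xgi26 ygi8 zgi39) (kgi xgi16 ygi28 zgi9) (kgi xgi24 ygi47 zgi20) (kgi xgi27 ygi41 zgi51) (kgi xgi27 ygi4 zgi17) (kgi xgi23 ygi9 zgi27)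 (kgi xgi16 ygi31 zgi36) (kgi xgi29 ygi41 zgi16) (kgi xgi26 ygi45 zgi56) (kgi xgi20 ygi14 zgi6) (kgi xgi21 ygi12 zgi2) (kgi xgi16 ygi28 zgi31) (kgi xgi26 ygi33 zgi4) (kgi xgi23 ygi32 zgi26) (kgi xgi16 ygi28 zgi25) (kgi xgi24 ygi2 zgi54) (kgi xgi21 ygi57 zgi8) (kgi xgi16 ygi34 zgi0) (kgi xgi25 ygi35 zgi8) (kgi xgi16 ygi33 zgi41) (kgi xgi26 ygi28 zgi36) (kgi xgi22 ygi56 zgi51) (kgi xgi27 ygi41 zgi49) (kgi xgi32 ygi8 zgi47) (kgi xgi19 ygi24 zgi38) (kgi xgi22 ygi54 zgi1) (kgi xgi27 ygi21 zgi17) (kgi xgi16 ygi28 zgi45) (kgi xgi16 ygi30 zgi3) (kgi xgi28 ygi52 zgi49) (kgi xgi24 ygi14 zgi34) (kgi xgi16 ygi28 zgi46) (kgi xgi23 ygi47 zgi47) (kgi xgi22 ygi53 zgi5) (kgi xgi31 ygi44 zgi6) (kgi xgi28 ygi50 zgi36) (kgi xgi16 ygi29 zgi36) (kgi xgi28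 ygi49 zgi59) (kgi xgi26 ygi28 zgi57) (kgi xgi16 ygi28 zgi56) (kgi xgi31 ygi23 zgi37) (kgi xgi26 ygi42 zgi3) (kgi xgi22 ygi17 zgi5) (kgi xgi16 ygi28 zgi61)) (@D3.rec (fun _ => Pt) (kgi xgi31 ygi20 zgi58) (kgi xgi31 ygi6 zgi47) (kgi xgi32 ygi8 zgi48) (kgi xgi22 ygi49 zgi5) (kgi xgi26 ygi31 zgi22) (kgi xgi30 ygi51 zgi1) (kgi xgi24 ygi46 zgi32) (kgi xgi23 ygi8 zgi32) (kgi xgi32 ygi8 zgi35) (kgi xgi16 ygi33 zgi43) (kgi xgi22 ygi54 zgi44) (kgi xgi16 ygi29 zgi8) (kgi xgi29 ygi14 zgi58) (kgi xgi26 ygi25 zgi5) (kgi xgi16 ygi30 zgi38) (kgi xgi16 ygi29 zgi14) (kgi xgi16 ygi31 zgi1) (kgi xgi28 ygi51 zgi56) (kgi xgi16 ygi31 zgi10) (kgi xgi28 ygi55 zgi42) (kgi xgi20 ygi35 zgi14) (kgi xgi23 ygi46 zgi25) (kgi xgi25 ygi18 zgi51) (kgi xgi26 ygi48 zgi51)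 (kgi xgi26 ygi48 zgi52) (kgi xgi29 ygi38 zgi55) (kgi xgi21 ygi30 zgi13) (kgi xgi21 ygi13 zgi35) (kgi xgi18 ygi42 zgi0) (kgi xgi16 ygi29 zgi38) (kgi xgi31 ygi2 zgi28) (kgi xgi27 ygi58 zgi49) (kgi xgi27 ygi14 zgi50) (kgi xgi25 ygi46 zgi19) (kgi xgi26 ygi27 zgi43) (kgi xgi16 ygi29 zgi43) (kgi xgi26 ygi24 zgi48) (kgi xgi26 ygi38 zgi33) (kgi xgi27 ygi0 zgi56) (kgi xgi29 ygi31 zgi0) (kgi xgi16 ygi29 zgi51) (kgi xgi30 ygi3 zgi17) (kgi xgi29 ygi31 zgi7) (kgi xgi26 ygi56 zgi13) (kgi xgi23 ygi57 zgi49) (kgi xgi29 ygi31 zgi9) (kgi xgi19 ygi47 zgi5) (kgi xgi20 ygi27 zgi4) (kgi xgi28 ygi49 zgi39) (kgi xgi30 ygi14 zgi8) (kgi xgi29 ygi17 zgi47) (kgi xgi31 ygi59 zgi44) (kgi xgi21 ygi3 zgi19) (kgi xgi20 ygi34 zgi47) (kgi xgi16 ygi30 zgi6) (kgi xgi24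 ygi14 zgi17) (kgi xgi16 ygi30 zgi8) (kgi xgi20 ygi29 zgi30) (kgi xgi20 ygi29 zgi28) (kgi xgi16 ygi30 zgi9) (kgi xgi23 ygi31 zgi35) (kgi xgi31 ygi16 zgi2)) (@D3.rec (fun _ => Pt) (kgi xgi23 ygi31 zgi34) (kgi xgi20 ygi1 zgi26) (kgi xgi16 ygi36 zgi12) (kgi xgi26 ygi32 zgi48) (kgi xgi21 ygi44 zgi26) (kgi xgi29 ygi28 zgi9) (kgi xgi18 ygi41 zgi9) (kgi xgi20 ygi34 zgi37) (kgi xgi17 ygi8 zgi10) (kgi xgi17 ygi9 zgi10) (kgi xgi16 ygi30 zgi43) (kgi xgi21 ygi51 zgi27) (kgi xgi20 ygi7 zgi32) (kgi xgi20 ygi4 zgi40) (kgi xgi16 ygi30 zgi52) (kgi xgi16 ygi30 zgi54) (kgi xgi30 ygi24 zgi58) (kgi xgi17 ygi9 zgi13) (kgi xgi23 ygi31 zgi28) (kgi xgi26 ygi32 zgi46) (kgi xgi16 ygi31 zgi0) (kgi xgi20 ygi34 zgi36) (kgi xgi31 ygi42 zgi34) (kgi xgi23 ygi0 zgi47)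 (kgi xgi29 ygi0 zgi28) (kgi xgi16 ygi31 zgi8) (kgi xgi28 ygi28 zgi23) (kgi xgi19 ygi0 zgi6) (kgi xgi29 ygi24 zgi38) (kgi xgi27 ygi5 zgi13) (kgi xgi29 ygi14 zgi50) (kgi xgi26 ygi56 zgi23) (kgi xgi20 ygi7 zgi48) (kgi xgi29 ygi32 zgi19) (kgi xgi31 ygi59 zgi24) (kgi xgi28 ygi56 zgi0) (kgi xgi18 ygi31 zgi30) (kgi xgi31 ygi26 zgi46) (kgi xgi17 ygi57 zgi29) (kgi xgi17 ygi11 zgi23) (kgi xgi30 ygi43 zgi61) (kgi xgi26 ygi57 zgi37) (kgi xgi28 ygi34 zgi57) (kgi xgi16 ygi31 zgi15) (kgi xgi26 ygi26 zgi34) (kgi xgi28 ygi32 zgi30) (kgi xgi17 ygi57 zgi18) (kgi xgi22 ygi59 zgi42) (kgi xgi31 ygi33 zgi35) (kgi xgi20 ygi37 zgi10) (kgi xgi16 ygi31 zgi18) (kgi xgi31 ygi23 zgi16) (kgi xgi27 ygi9 zgi48) (kgi xgi28 ygi52 zgi12) (kgi xgi20 ygi37 zgi3) (kgi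 xgi16 ygi31 zgi20) (kgi xgi28 ygi27 zgi8) (kgi xgi32 ygi7 zgi38) (kgi xgi16 ygi31 zgi22) (kgi xgi28 ygi55 zgi37) (kgi xgi31 ygi23 zgi45) (kgi xgi31 ygi25 zgi27)) (@D3.rec (fun _ => Pt) (kgi xgi22 ygi19 zgi30) (kgi xgi29 ygi37 zgi51) (kgi xgi16 ygi31 zgi32) (kgi xgi21 ygi54 zgi3) (kgi xgi29 ygi54 zgi28) (kgi xgi27 ygi5 zgi18) (kgi xgi16 ygi31 zgi31) (kgi xgi27 ygi36 zgi28) (kgi xgi20 ygi20 zgi59) (kgi xgi28 ygi43 zgi12) (kgi xgi20 ygi17 zgi29) (kgi xgi16 ygi31 zgi38) (kgi xgi29 ygi38 zgi26) (kgi xgi21 ygi32 zgi24) (kgi xgi32 ygi9 zgi20) (kgi xgi21 ygi53 zgi6) (kgi xgi31 ygi39 zgi4) (kgi xgi26 ygi25 zgi0) (kgi xgi26 ygi32 zgi45) (kgi xgi23 ygi37 zgi36) (kgi xgi21 ygi30 zgi4) (kgi xgi20 ygi8 zgi37) (kgi xgi31 ygi43 zgi60) (kgi xgi27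 ygi5 zgi23) (kgi xgi27 ygi5 zgi22) (kgi xgi18 ygi41 zgi0) (kgi xgi32 ygi9 zgi21) (kgi xgi20 ygi6 zgi25) (kgi xgi26 ygi30 zgi18) (kgi xgi16 ygi32 zgi8) (kgi xgi28 ygi50 zgi7) (kgi xgi21 ygi4 zgi18) (kgi xgi16 ygi32 zgi1) (kgi xgi16 ygi32 zgi4) (kgi xgi29 ygi30 zgi50) (kgi xgi30 ygi53 zgi49) (kgi xgi22 ygi54 zgi42) (kgi xgi25 ygi18 zgi36) (kgi xgi17 ygi1 zgi15) (kgi xgi28 ygi35 zgi31) (kgi xgi20 ygi18 zgi46) (kgi xgi27 ygi5 zgi16) (kgi xgi16 ygi32 zgi7) (kgi xgi28 ygi49 zgi49) (kgi xgi28 ygi22 zgi21) (kgi xgi28 ygi38 zgi26) (kgi xgi21 ygi35 zgi51) (kgi xgi26 ygi30 zgi27) (kgi xgi26 ygi25 zgi23) (kgi xgi30 ygi53 zgi29) (kgi xgi16 ygi33 zgi23) (kgi xgi16 ygi32 zgi14) (kgi xgi16 ygi32 zgi23) (kgi xgi32 ygi9 zgi26) (kgi xgi16 ygi32 zgi15)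 (kgi xgi26 ygi30 zgi26) (kgi xgi26 ygi30 zgi24) (kgi xgi26 ygi30 zgi16) (kgi xgi17 ygi15 zgi10) (kgi xgi28 ygi17 zgi24) (kgi xgi26 ygi56 zgi16) (kgi xgi31 ygi38 zgi51)) (@D3.rec (fun _ => Pt) (kgi xgi20 ygi1 zgi58) (kgi xgi16 ygi32 zgi22) (kgi xgi29 ygi55 zgi35) (kgi xgi26 ygi29 zgi35) (kgi xgi29 ygi25 zgi0) (kgi xgi26 ygi30 zgi50) (kgi xgi26 ygi26 zgi9) (kgi xgi28 ygi5 zgi55) (kgi xgi20 ygi7 zgi31) (kgi xgi23 ygi8 zgi8) (kgi xgi26 ygi31 zgi26) (kgi xgi28 ygi5 zgi42) (kgi xgi25 ygi1 zgi53) (kgi xgi30 ygi45 zgi29) (kgi xgi28 ygi7 zgi10) (kgi xgi16 ygi32 zgi33) (kgi xgi32 ygi9 zgi34) (kgi xgi32 ygi9 zgi37) (kgi xgi27 ygi39 zgi49) (kgi xgi32 ygi9 zgi35) (kgi xgi26 ygi21 zgi29) (kgi xgi20 ygi8 zgi11) (kgi xgi16 ygi32 zgi51) (kgi xgi16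 ygi32 zgi49) (kgi xgi16 ygi32 zgi42) (kgi xgi20 ygi41 zgi5) (kgi xgi18 ygi20 zgi34) (kgi xgi20 ygi20 zgi57) (kgi xgi28 ygi27 zgi47) (kgi xgi16 ygi32 zgi47) (kgi xgi26 ygi55 zgi26) (kgi xgi24 ygi52 zgi55) (kgi xgi28 ygi27 zgi3) (kgi xgi28 ygi26 zgi61) (kgi xgi29 ygi7 zgi15) (kgi xgi26 ygi28 zgi58) (kgi xgi29 ygi19 zgi17) (kgi xgi16 ygi32 zgi54) (kgi xgi26 ygi22 zgi13) (kgi xgi31 ygi56 zgi27) (kgi xgi28 ygi0 zgi4) (kgi xgi22 ygi17 zgi37) (kgi xgi16 ygi33 zgi42) (kgi xgi28 ygi9 zgi15) (kgi xgi28 ygi8 zgi61) (kgi xgi28 ygi24 zgi29) (kgi xgi26 ygi31 zgi58) (kgi xgi22 ygi34 zgi21) (kgi xgi28 ygi13 zgi2) (kgi xgi27 ygi45 zgi1) (kgi xgi32 ygi9 zgi45) (kgi xgi24 ygi46 zgi52) (kgi xgi16 ygi33 zgi6) (kgi xgi24 ygi57 zgi1) (kgi xgi30 ygi24 zgi59)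 (kgi xgi23 ygi33 zgi52) (kgi xgi24 ygi21 zgi46) (kgi xgi23 ygi16 zgi48) (kgi xgi30 ygi44 zgi53) (kgi xgi30 ygi45 zgi45) (kgi xgi30 ygi56 zgi15) (kgi xgi16 ygi33 zgi19)) (@D3.rec (fun _ => Pt) (kgi xgi23 ygi17 zgi37) (kgi xgi32 ygi8 zgi18) (kgi xgi24 ygi47 zgi10) (kgi xgi16 ygi33 zgi21) (kgi xgi27 ygi0 zgi61) (kgi xgi26 ygi31 zgi52) (kgi xgi18 ygi31 zgi4) (kgi xgi26 ygi26 zgi8) (kgi xgi22 ygi55 zgi33) (kgi xgi28 ygi4 zgi22) (kgi xgi27 ygi46 zgi50) (kgi xgi18 ygi42 zgi39) (kgi xgi32 ygi9 zgi54) (kgi xgi28 ygi31 zgi53) (kgi xgi32 ygi9 zgi56) (kgi xgi19 ygi24 zgi2) (kgi xgi16 ygi33 zgi33) (kgi xgi26 ygi20 zgi27) (kgi xgi26 ygi28 zgi26) (kgi xgi21 ygi11 zgi47) (kgi xgi23 ygi9 zgi12) (kgi xgi21 ygi11 zgi52) (kgi xgi32 ygi9 zgi44) (kgi xgi24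 ygi57 zgi19) (kgi xgi16 ygi33 zgi38) (kgi xgi26 ygi28 zgi56) (kgi xgi26 ygi28 zgi54) (kgi xgi16 ygi33 zgi40) (kgi xgi26 ygi28 zgi47) (kgi xgi27 ygi14 zgi15) (kgi xgi26 ygi24 zgi26) (kgi xgi29 ygi28 zgi35) (kgi xgi29 ygi16 zgi6) (kgi xgi28 ygi8 zgi49) (kgi xgi30 ygi48 zgi8) (kgi xgi31 ygi24 zgi60) (kgi xgi31 ygi42 zgi52) (kgi xgi22 ygi55 zgi40) (kgi xgi27 ygi50 zgi58) (kgi xgi31 ygi15 zgi7) (kgi xgi24 ygi48 zgi12) (kgi xgi16 ygi33 zgi51) (kgi xgi24 ygi48 zgi17) (kgi xgi32 ygi10 zgi4) (kgi xgi16 ygi33 zgi52) (kgi xgi24 ygi46 zgi49) (kgi xgi32 ygi10 zgi8) (kgi xgi26 ygi31 zgi44) (kgi xgi28 ygi31 zgi57) (kgi xgi32 ygi10 zgi9) (kgi xgi32 ygi8 zgi51) (kgi xgi23 ygi5 zgi5) (kgi xgi32 ygi10 zgi11) (kgi xgi29 ygi52 zgi49) (kgi xgi18 ygi34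 zgi15) (kgi xgi26 ygi31 zgi56) (kgi xgi25 ygi16 zgi8) (kgi xgi16 ygi34 zgi29) (kgi xgi23 ygi20 zgi58) (kgi xgi20 ygi50 zgi34) (kgi xgi19 ygi26 zgi12) (kgi xgi23 ygi7 zgi60)) (@D3.rec (fun _ => Pt) (kgi xgi23 ygi7 zgi58) (kgi xgi23 ygi8 zgi43) (kgi xgi29 ygi52 zgi47) (kgi xgi16 ygi34 zgi2) (kgi xgi29 ygi52 zgi52) (kgi xgi26 ygi24 zgi4) (kgi xgi16 ygi34 zgi37) (kgi xgi23 ygi9 zgi18) (kgi xgi27 ygi44 zgi25) (kgi xgi16 ygi34 zgi6) (kgi xgi29 ygi29 zgi37) (kgi xgi29 ygi29 zgi35) (kgi xgi27 ygi52 zgi55) (kgi xgi16 ygi34 zgi8) (kgi xgi29 ygi52 zgi61) (kgi xgi27 ygi45 zgi61) (kgi xgi29 ygi52 zgi59) (kgi xgi22 ygi52 zgi20) (kgi xgi16 ygi34 zgi18) (kgi xgi26 ygi7 zgi21) (kgi xgi28 ygi31 zgi45) (kgi xgi23 ygi9 zgi17) (kgi xgi26 ygi26 zgi5) (kgi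 xgi16 ygi34 zgi12) (kgi xgi29 ygi52 zgi58) (kgi xgi29 ygi16 zgi7) (kgi xgi16 ygi34 zgi13) (kgi xgi26 ygi29 zgi10) (kgi xgi21 ygi12 zgi50) (kgi xgi29 ygi53 zgi3) (kgi xgi16 ygi34 zgi20) (kgi xgi20 ygi21 zgi2) (kgi xgi30 ygi54 zgi42) (kgi xgi28 ygi31 zgi47) (kgi xgi29 ygi28 zgi44) (kgi xgi16 ygi34 zgi19) (kgi xgi28 ygi15 zgi38) (kgi xgi25 ygi9 zgi3) (kgi xgi22 ygi50 zgi60) (kgi xgi27 ygi49 zgi15) (kgi xgi29 ygi20 zgi54) (kgi xgi28 ygi36 zgi5) (kgi xgi26 ygi30 zgi47) (kgi xgi19 ygi41 zgi58) (kgi xgi31 ygi16 zgi40) (kgi xgi21 ygi10 zgi54) (kgi xgi16 ygi34 zgi24) (kgi xgi21 ygi10 zgi56) (kgi xgi27 ygi2 zgi49) (kgi xgi29 ygi19 zgi60) (kgi xgi16 ygi34 zgi25) (kgi xgi26 ygi21 zgi15) (kgi xgi28 ygi26 zgi33) (kgi xgi28 ygi6 zgi53) (kgi xgi18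 ygi11 zgi31) (kgi xgi23 ygi46 zgi42) (kgi xgi21 ygi10 zgi29) (kgi xgi18 ygi28 zgi41) (kgi xgi21 ygi11 zgi48) (kgi xgi26 ygi30 zgi55) (kgi xgi24 ygi54 zgi10) (kgi xgi29 ygi24 zgi1)) (@D3.rec (fun _ => Pt) (kgi xgi20 ygi36 zgi36) (kgi xgi29 ygi53 zgi20) (kgi xgi25 ygi27 zgi0) (kgi xgi26 ygi16 zgi19) (kgi xgi26 ygi31 zgi5) (kgi xgi16 ygi34 zgi40) (kgi xgi18 ygi45 zgi56) (kgi xgi18 ygi45 zgi54) (kgi xgi19 ygi6 zgi18) (kgi xgi18 ygi12 zgi44) (kgi xgi16 ygi39 zgi18) (kgi xgi27 ygi49 zgi58) (kgi xgi18 ygi34 zgi12) (kgi xgi27 ygi50 zgi7) (kgi xgi16 ygi34 zgi47) (kgi xgi19 ygi6 zgi44) (kgi xgi21 ygi15 zgi31) (kgi xgi16 ygi35 zgi36) (kgi xgi27 ygi39 zgi22) (kgi xgi16 ygi34 zgi51) (kgi xgi28 ygi28 zgi7) (kgi xgi22 ygi49 zgi54) (kgi xgi18 ygi58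 zgi6) (kgi xgi30 ygi44 zgi39) (kgi xgi16 ygi52 zgi39) (kgi xgi17 ygi55 zgi14) (kgi xgi16 ygi39 zgi61) (kgi xgi25 ygi10 zgi20) (kgi xgi22 ygi51 zgi14) (kgi xgi28 ygi10 zgi38) (kgi xgi28 ygi14 zgi60) (kgi xgi20 ygi10 zgi28) (kgi xgi18 ygi39 zgi6) (kgi xgi18 ygi59 zgi1) (kgi xgi29 ygi20 zgi12) (kgi xgi27 ygi34 zgi3) (kgi xgi30 ygi54 zgi1) (kgi xgi16 ygi35 zgi21) (kgi xgi18 ygi49 zgi22) (kgi xgi26 ygi20 zgi2) (kgi xgi24 ygi46 zgi38) (kgi xgi24 ygi12 zgi38) (kgi xgi31 ygi32 zgi40) (kgi xgi26 ygi20 zgi1) (kgi xgi26 ygi19 zgi59) (kgi xgi21 ygi30 zgi51) (kgi xgi26 ygi27 zgi3) (kgi xgi31 ygi37 zgi59) (kgi xgi26 ygi27 zgi19) (kgi xgi27 ygi3 zgi32) (kgi xgi22 ygi51 zgi22) (kgi xgi19 ygi49 zgi7) (kgi xgi30 ygi59 zgi55) (kgi xgi16 ygi35 zgi46)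 (kgi xgi28 ygi18 zgi16) (kgi xgi27 ygi39 zgi10) (kgi xgi16 ygi35 zgi51) (kgi xgi16 ygi51 zgi34) (kgi xgi26 ygi0 zgi46) (kgi xgi18 ygi29 zgi31) (kgi xgi30 ygi51 zgi56) (kgi xgi16 ygi35 zgi56)) (@D3.rec (fun _ => Pt) (kgi xgi26 ygi14 zgi48) (kgi xgi30 ygi25 zgi3) (kgi xgi23 ygi6 zgi60) (kgi xgi21 ygi53 zgi56) (kgi xgi21 ygi30 zgi12) (kgi xgi16 ygi36 zgi4) (kgi xgi18 ygi40 zgi46) (kgi xgi29 ygi31 zgi50) (kgi xgi28 ygi55 zgi4) (kgi xgi19 ygi11 zgi23) (kgi xgi32 ygi10 zgi31) (kgi xgi17 ygi5 zgi57) (kgi xgi29 ygi10 zgi34) (kgi xgi16 ygi36 zgi18) (kgi xgi16 ygi39 zgi6) (kgi xgi16 ygi39 zgi3) (kgi xgi29 ygi1 zgi18) (kgi xgi19 ygi5 zgi3) (kgi xgi28 ygi40 zgi39) (kgi xgi28 ygi40 zgi46) (kgi xgi16 ygi36 zgi25) (kgi xgi31 ygi31 zgi53) (kgi xgi31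 ygi19 zgi1) (kgi xgi16 ygi36 zgi26) (kgi xgi31 ygi30 zgi57) (kgi xgi16 ygi40 zgi9) (kgi xgi16 ygi36 zgi61) (kgi xgi16 ygi42 zgi31) (kgi xgi16 ygi41 zgi17) (kgi xgi16 ygi42 zgi5) (kgi xgi16 ygi40 zgi43) (kgi xgi19 ygi43 zgi48) (kgi xgi25 ygi46 zgi56) (kgi xgi16 ygi36 zgi46) (kgi xgi29 ygi46 zgi23) (kgi xgi29 ygi46 zgi29) (kgi xgi16 ygi36 zgi40) (kgi xgi16 ygi40 zgi59) (kgi xgi32 ygi10 zgi44) (kgi xgi31 ygi20 zgi20) (kgi xgi16 ygi36 zgi41) (kgi xgi16 ygi40 zgi54) (kgi xgi29 ygi25 zgi57) (kgi xgi16 ygi41 zgi5) (kgi xgi24 ygi15 zgi50) (kgi xgi26 ygi34 zgi29) (kgi xgi31 ygi31 zgi39) (kgi xgi25 ygi12 zgi34) (kgi xgi25 ygi8 zgi48) (kgi xgi16 ygi36 zgi47) (kgi xgi19 ygi17 zgi51) (kgi xgi25 ygi4 zgi54) (kgi xgi16 ygi40 zgi46) (kgi xgi16 ygi39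 zgi55) (kgi xgi25 ygi8 zgi54) (kgi xgi31 ygi43 zgi53) (kgi xgi31 ygi32 zgi23) (kgi xgi29 ygi31 zgi21) (kgi xgi29 ygi56 zgi9) (kgi xgi32 ygi4 zgi7) (kgi xgi31 ygi43 zgi51) (kgi xgi27 ygi18 zgi56)) (@D3.rec (fun _ => Pt) (kgi xgi16 ygi36 zgi59) (kgi xgi31 ygi56 zgi39) (kgi xgi21 ygi17 zgi9) (kgi xgi16 ygi40 zgi48) (kgi xgi28 ygi21 zgi53) (kgi xgi28 ygi54 zgi36) (kgi xgi16 ygi37 zgi0) (kgi xgi16 ygi42 zgi4) (kgi xgi32 ygi10 zgi53) (kgi xgi16 ygi42 zgi1) (kgi xgi19 ygi13 zgi53) (kgi xgi16 ygi42 zgi8) (kgi xgi29 ygi46 zgi49) (kgi xgi32 ygi10 zgi56) (kgi xgi24 ygi21 zgi3) (kgi xgi28 ygi58 zgi35) (kgi xgi19 ygi31 zgi43) (kgi xgi25 ygi22 zgi34) (kgi xgi19 ygi29 zgi23) (kgi xgi25 ygi22 zgi18) (kgi xgi29 ygi14 zgi16) (kgi xgi16 ygi37 zgi10)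 (kgi xgi29 ygi14 zgi18) (kgi xgi31 ygi52 zgi31) (kgi xgi31 ygi40 zgi37) (kgi xgi18 ygi53 zgi21) (kgi xgi16 ygi39 zgi9) (kgi xgi19 ygi12 zgi45) (kgi xgi17 ygi6 zgi53) (kgi xgi26 ygi33 zgi52) (kgi xgi32 ygi11 zgi7) (kgi xgi32 ygi11 zgi9) (kgi xgi16 ygi37 zgi17) (kgi xgi30 ygi16 zgi15) (kgi xgi32 ygi11 zgi6) (kgi xgi16 ygi37 zgi18) (kgi xgi19 ygi31 zgi55) (kgi xgi24 ygi1 zgi5) (kgi xgi17 ygi28 zgi52) (kgi xgi30 ygi16 zgi2) (kgi xgi16 ygi37 zgi21) (kgi xgi19 ygi31 zgi60) (kgi xgi16 ygi38 zgi45) (kgi xgi29 ygi45 zgi23) (kgi xgi26 ygi4 zgi43) (kgi xgi20 ygi38 zgi41) (kgi xgi24 ygi27 zgi41) (kgi xgi29 ygi50 zgi5) (kgi xgi16 ygi37 zgi29) (kgi xgi29 ygi45 zgi35) (kgi xgi32 ygi11 zgi19) (kgi xgi17 ygi8 zgi60) (kgi xgi31 ygi26 zgi15) (kgi xgi26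 ygi40 zgi46) (kgi xgi27 ygi36 zgi30) (kgi xgi25 ygi14 zgi40) (kgi xgi16 ygi39 zgi1) (kgi xgi16 ygi38 zgi39) (kgi xgi28 ygi54 zgi54) (kgi xgi25 ygi37 zgi23) (kgi xgi26 ygi41 zgi24) (kgi xgi16 ygi37 zgi38)) (@D3.rec (fun _ => Pt) (kgi xgi32 ygi11 zgi22) (kgi xgi27 ygi0 zgi36) (kgi xgi26 ygi41 zgi27) (kgi xgi26 ygi38 zgi7) (kgi xgi32 ygi11 zgi29) (kgi xgi26 ygi38 zgi4) (kgi xgi20 ygi56 zgi59) (kgi xgi16 ygi38 zgi6) (kgi xgi16 ygi37 zgi49) (kgi xgi27 ygi14 zgi19) (kgi xgi26 ygi37 zgi15) (kgi xgi24 ygi26 zgi49) (kgi xgi18 ygi46 zgi20) (kgi xgi32 ygi11 zgi33) (kgi xgi30 ygi15 zgi38) (kgi xgi29 ygi33 zgi40) (kgi xgi27 ygi35 zgi28) (kgi xgi26 ygi38 zgi10) (kgi xgi16 ygi37 zgi54) (kgi xgi28 ygi36 zgi37) (kgi xgi31 ygi51 zgi0) (kgi xgi29 ygi11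 zgi17) (kgi xgi20 ygi53 zgi19) (kgi xgi16 ygi37 zgi52) (kgi xgi19 ygi14 zgi9) (kgi xgi19 ygi32 zgi4) (kgi xgi16 ygi37 zgi53) (kgi xgi25 ygi10 zgi12) (kgi xgi32 ygi11 zgi44) (kgi xgi24 ygi52 zgi39) (kgi xgi16 ygi41 zgi21) (kgi xgi29 ygi37 zgi60) (kgi xgi16 ygi37 zgi58) (kgi xgi16 ygi38 zgi3) (kgi xgi32 ygi11 zgi47) (kgi xgi16 ygi38 zgi0) (kgi xgi32 ygi11 zgi35) (kgi xgi31 ygi45 zgi26) (kgi xgi26 ygi40 zgi26) (kgi xgi16 ygi37 zgi61) (kgi xgi28 ygi54 zgi55) (kgi xgi32 ygi11 zgi50) (kgi xgi20 ygi28 zgi23) (kgi xgi29 ygi15 zgi7) (kgi xgi28 ygi40 zgi28) (kgi xgi31 ygi34 zgi58) (kgi xgi16 ygi58 zgi48) (kgi xgi28 ygi40 zgi25) (kgi xgi32 ygi11 zgi41) (kgi xgi16 ygi38 zgi2) (kgi xgi32 ygi11 zgi48) (kgi xgi32 ygi11 zgi59) (kgi xgi32 ygi11 zgi46)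 (kgi xgi27 ygi10 zgi51) (kgi xgi26 ygi7 zgi57) (kgi xgi27 ygi44 zgi48) (kgi xgi25 ygi16 zgi45) (kgi xgi29 ygi49 zgi1) (kgi xgi27 ygi19 zgi16) (kgi xgi19 ygi57 zgi35) (kgi xgi30 ygi15 zgi50) (kgi xgi25 ygi32 zgi5)) (@D3.rec (fun _ => Pt) (kgi xgi16 ygi38 zgi10) (kgi xgi27 ygi16 zgi17) (kgi xgi28 ygi40 zgi17) (kgi xgi31 ygi47 zgi2) (kgi xgi24 ygi32 zgi1) (kgi xgi29 ygi34 zgi12) (kgi xgi28 ygi56 zgi35) (kgi xgi20 ygi39 zgi16) (kgi xgi20 ygi35 zgi31) (kgi xgi32 ygi12 zgi17) (kgi xgi26 ygi37 zgi12) (kgi xgi28 ygi56 zgi32) (kgi xgi31 ygi34 zgi56) (kgi xgi20 ygi58 zgi59) (kgi xgi29 ygi33 zgi57) (kgi xgi27 ygi35 zgi58) (kgi xgi32 ygi12 zgi22) (kgi xgi32 ygi12 zgi15) (kgi xgi28 ygi35 zgi18) (kgi xgi32 ygi12 zgi26) (kgi xgi16 ygi38 zgi19) (kgi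 xgi31 ygi47 zgi5) (kgi xgi32 ygi12 zgi28) (kgi xgi28 ygi30 zgi13) (kgi xgi29 ygi46 zgi16) (kgi xgi32 ygi12 zgi34) (kgi xgi19 ygi13 zgi57) (kgi xgi16 ygi38 zgi22) (kgi xgi31 ygi31 zgi35) (kgi xgi16 ygi38 zgi24) (kgi xgi20 ygi57 zgi19) (kgi xgi20 ygi39 zgi34) (kgi xgi16 ygi38 zgi25) (kgi xgi20 ygi58 zgi49) (kgi xgi19 ygi3 zgi9) (kgi xgi17 ygi48 zgi60) (kgi xgi19 ygi18 zgi18) (kgi xgi27 ygi23 zgi52) (kgi xgi18 ygi56 zgi23) (kgi xgi16 ygi38 zgi29) (kgi xgi24 ygi34 zgi44) (kgi xgi19 ygi17 zgi50) (kgi xgi24 ygi10 zgi0) (kgi xgi21 ygi11 zgi36) (kgi xgi26 ygi42 zgi39) (kgi xgi32 ygi9 zgi16) (kgi xgi19 ygi7 zgi49) (kgi xgi29 ygi8 zgi32) (kgi xgi19 ygi7 zgi57) (kgi xgi31 ygi17 zgi49) (kgi xgi25 ygi10 zgi19) (kgi xgi32 ygi12 zgi47) (kgi xgi31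 ygi47 zgi20) (kgi xgi30 ygi28 zgi11) (kgi xgi19 ygi32 zgi20) (kgi xgi26 ygi44 zgi29) (kgi xgi32 ygi1 zgi49) (kgi xgi29 ygi45 zgi15) (kgi xgi27 ygi14 zgi39) (kgi xgi31 ygi46 zgi55) (kgi xgi31 ygi46 zgi57) (kgi xgi26 ygi36 zgi10)) (@D3.rec (fun _ => Pt) (kgi xgi16 ygi38 zgi47) (kgi xgi32 ygi12 zgi52) (kgi xgi16 ygi38 zgi52) (kgi xgi19 ygi32 zgi12) (kgi xgi28 ygi59 zgi35) (kgi xgi20 ygi55 zgi61) (kgi xgi16 ygi38 zgi50) (kgi xgi27 ygi17 zgi29) (kgi xgi31 ygi41 zgi23) (kgi xgi16 ygi38 zgi51) (kgi xgi28 ygi56 zgi45) (kgi xgi19 ygi14 zgi15) (kgi xgi32 ygi12 zgi51) (kgi xgi30 ygi17 zgi24) (kgi xgi31 ygi24 zgi25) (kgi xgi26 ygi37 zgi25) (kgi xgi26 ygi44 zgi34) (kgi xgi16 ygi38 zgi54) (kgi xgi32 ygi12 zgi53) (kgi xgi31 ygi20 zgi26) (kgi xgi29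 ygi45 zgi49) (kgi xgi27 ygi0 zgi9) (kgi xgi26 ygi58 zgi48) (kgi xgi28 ygi54 zgi50) (kgi xgi26 ygi10 zgi37) (kgi xgi16 ygi38 zgi60) (kgi xgi26 ygi46 zgi9) (kgi xgi31 ygi34 zgi60) (kgi xgi32 ygi12 zgi56) (kgi xgi28 ygi59 zgi41) (kgi xgi31 ygi20 zgi17) (kgi xgi29 ygi0 zgi44) (kgi xgi19 ygi50 zgi8) (kgi xgi16 ygi51 zgi7) (kgi xgi26 ygi35 zgi22) (kgi xgi29 ygi28 zgi48) (kgi xgi26 ygi37 zgi37) (kgi xgi26 ygi34 zgi26) (kgi xgi24 ygi49 zgi1) (kgi xgi24 ygi52 zgi14) (kgi xgi32 ygi12 zgi58) (kgi xgi16 ygi39 zgi14) (kgi xgi24 ygi52 zgi6) (kgi xgi31 ygi52 zgi32) (kgi xgi24 ygi52 zgi13) (kgi xgi27 ygi34 zgi20) (kgi xgi16 ygi39 zgi37) (kgi xgi16 ygi39 zgi23) (kgi xgi25 ygi10 zgi7) (kgi xgi16 ygi39 zgi24) (kgi xgi19 ygi14 zgi17) (kgi xgi29 ygi33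 zgi1) (kgi xgi29 ygi34 zgi34) (kgi xgi17 ygi48 zgi34) (kgi xgi24 ygi50 zgi39) (kgi xgi31 ygi50 zgi59) (kgi xgi16 ygi39 zgi30) (kgi xgi16 ygi39 zgi34) (kgi xgi16 ygi39 zgi44) (kgi xgi27 ygi0 zgi20) (kgi xgi19 ygi6 zgi15) (kgi xgi19 ygi14 zgi5)) (@D3.rec (fun _ => Pt) (kgi xgi29 ygi3 zgi16) (kgi xgi32 ygi13 zgi6) (kgi xgi20 ygi39 zgi9) (kgi xgi27 ygi19 zgi6) (kgi xgi16 ygi39 zgi42) (kgi xgi26 ygi35 zgi5) (kgi xgi31 ygi55 zgi29) (kgi xgi22 ygi3 zgi18) (kgi xgi32 ygi11 zgi31) (kgi xgi31 ygi21 zgi7) (kgi xgi31 ygi26 zgi5) (kgi xgi16 ygi48 zgi1) (kgi xgi16 ygi39 zgi47) (kgi xgi16 ygi39 zgi49) (kgi xgi32 ygi13 zgi16) (kgi xgi32 ygi13 zgi19) (kgi xgi32 ygi13 zgi1) (kgi xgi20 ygi36 zgi58) (kgi xgi16 ygi40 zgi31) (kgi xgi31 ygi31 zgi36) (kgi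 xgi19 ygi36 zgi47) (kgi xgi32 ygi13 zgi21) (kgi xgi16 ygi41 zgi25) (kgi xgi16 ygi41 zgi26) (kgi xgi28 ygi54 zgi12) (kgi xgi27 ygi0 zgi16) (kgi xgi19 ygi29 zgi49) (kgi xgi26 ygi34 zgi39) (kgi xgi16 ygi39 zgi60) (kgi xgi19 ygi0 zgi59) (kgi xgi28 ygi38 zgi23) (kgi xgi28 ygi2 zgi27) (kgi xgi29 ygi1 zgi4) (kgi xgi26 ygi26 zgi39) (kgi xgi29 ygi44 zgi1) (kgi xgi17 ygi28 zgi40) (kgi xgi29 ygi34 zgi50) (kgi xgi16 ygi40 zgi6) (kgi xgi16 ygi40 zgi13) (kgi xgi28 ygi44 zgi31) (kgi xgi16 ygi40 zgi10) (kgi xgi19 ygi44 zgi52) (kgi xgi31 ygi41 zgi47) (kgi xgi31 ygi20 zgi28) (kgi xgi16 ygi48 zgi29) (kgi xgi31 ygi24 zgi51) (kgi xgi31 ygi18 zgi59) (kgi xgi19 ygi19 zgi25) (kgi xgi32 ygi3 zgi28) (kgi xgi32 ygi13 zgi33) (kgi xgi20 ygi57 zgi7) (kgi xgi16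 ygi40 zgi12) (kgi xgi30 ygi16 zgi14) (kgi xgi28 ygi44 zgi34) (kgi xgi32 ygi13 zgi40) (kgi xgi29 ygi48 zgi61) (kgi xgi32 ygi13 zgi39) (kgi xgi21 ygi20 zgi59) (kgi xgi16 ygi40 zgi16) (kgi xgi29 ygi32 zgi58) (kgi xgi26 ygi59 zgi52) (kgi xgi29 ygi42 zgi30)) (@D3.rec (fun _ => Pt) (kgi xgi32 ygi13 zgi43) (kgi xgi20 ygi38 zgi38) (kgi xgi20 ygi23 zgi48) (kgi xgi32 ygi13 zgi46) (kgi xgi29 ygi25 zgi53) (kgi xgi28 ygi40 zgi7) (kgi xgi32 ygi13 zgi48) (kgi xgi16 ygi40 zgi26) (kgi xgi20 ygi38 zgi43) (kgi xgi19 ygi40 zgi41) (kgi xgi25 ygi37 zgi54) (kgi xgi31 ygi30 zgi45) (kgi xgi16 ygi41 zgi28) (kgi xgi26 ygi41 zgi10) (kgi xgi25 ygi47 zgi49) (kgi xgi25 ygi59 zgi41) (kgi xgi29 ygi1 zgi16) (kgi xgi16 ygi40 zgi32) (kgi xgi16 ygi48 zgi21) (kgi xgi27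 ygi2 zgi39) (kgi xgi20 ygi38 zgi52) (kgi xgi18 ygi44 zgi31) (kgi xgi19 ygi28 zgi18) (kgi xgi25 ygi47 zgi21) (kgi xgi27 ygi23 zgi56) (kgi xgi16 ygi40 zgi40) (kgi xgi16 ygi40 zgi58) (kgi xgi16 ygi41 zgi16) (kgi xgi28 ygi54 zgi30) (kgi xgi32 ygi13 zgi51) (kgi xgi26 ygi41 zgi7) (kgi xgi32 ygi13 zgi53) (kgi xgi16 ygi42 zgi21) (kgi xgi16 ygi40 zgi49) (kgi xgi27 ygi44 zgi43) (kgi xgi27 ygi39 zgi1) (kgi xgi28 ygi46 zgi26) (kgi xgi26 ygi39 zgi54) (kgi xgi32 ygi10 zgi46) (kgi xgi17 ygi48 zgi11) (kgi xgi28 ygi19 zgi14) (kgi xgi17 ygi49 zgi30) (kgi xgi26 ygi59 zgi22) (kgi xgi18 ygi32 zgi27) (kgi xgi25 ygi47 zgi32) (kgi xgi32 ygi10 zgi43) (kgi xgi25 ygi12 zgi36) (kgi xgi26 ygi51 zgi44) (kgi xgi26 ygi59 zgi23) (kgi xgi26 ygi51 zgi46) (kgi xgi29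 ygi44 zgi10) (kgi xgi16 ygi41 zgi0) (kgi xgi16 ygi41 zgi4) (kgi xgi20 ygi55 zgi41) (kgi xgi20 ygi58 zgi48) (kgi xgi32 ygi10 zgi36) (kgi xgi32 ygi13 zgi23) (kgi xgi32 ygi3 zgi61) (kgi xgi31 ygi19 zgi9) (kgi xgi27 ygi39 zgi19) (kgi xgi19 ygi43 zgi42) (kgi xgi16 ygi53 zgi44)) (@D3.rec (fun _ => Pt) (kgi xgi19 ygi43 zgi11) (kgi xgi31 ygi34 zgi29) (kgi xgi31 ygi19 zgi8) (kgi xgi20 ygi58 zgi40) (kgi xgi24 ygi50 zgi35) (kgi xgi32 ygi13 zgi61) (kgi xgi31 ygi50 zgi61) (kgi xgi31 ygi51 zgi39) (kgi xgi16 ygi41 zgi31) (kgi xgi32 ygi13 zgi58) (kgi xgi32 ygi14 zgi3) (kgi xgi32 ygi10 zgi39) (kgi xgi29 ygi25 zgi38) (kgi xgi19 ygi13 zgi20) (kgi xgi28 ygi29 zgi57) (kgi xgi32 ygi14 zgi5) (kgi xgi16 ygi41 zgi53) (kgi xgi24 ygi37 zgi45) (kgi xgi21 ygi8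 zgi36) (kgi xgi16 ygi41 zgi56) (kgi xgi16 ygi41 zgi54) (kgi xgi32 ygi14 zgi6) (kgi xgi16 ygi41 zgi44) (kgi xgi28 ygi54 zgi22) (kgi xgi32 ygi14 zgi10) (kgi xgi32 ygi10 zgi49) (kgi xgi21 ygi0 zgi6) (kgi xgi29 ygi12 zgi27) (kgi xgi16 ygi41 zgi47) (kgi xgi16 ygi42 zgi29) (kgi xgi25 ygi58 zgi16) (kgi xgi16 ygi48 zgi7) (kgi xgi31 ygi29 zgi2) (kgi xgi16 ygi48 zgi5) (kgi xgi24 ygi37 zgi32) (kgi xgi30 ygi8 zgi10) (kgi xgi19 ygi14 zgi51) (kgi xgi32 ygi14 zgi14) (kgi xgi24 ygi2 zgi24) (kgi xgi20 ygi58 zgi26) (kgi xgi16 ygi46 zgi57) (kgi xgi21 ygi2 zgi61) (kgi xgi18 ygi22 zgi14) (kgi xgi26 ygi33 zgi27) (kgi xgi28 ygi54 zgi44) (kgi xgi32 ygi14 zgi16) (kgi xgi31 ygi51 zgi6) (kgi xgi16 ygi42 zgi3) (kgi xgi32 ygi10 zgi55) (kgi xgi26 ygi36 zgi16)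 (kgi xgi32 ygi10 zgi52) (kgi xgi28 ygi15 zgi43) (kgi xgi24 ygi4 zgi16) (kgi xgi16 ygi42 zgi6) (kgi xgi28 ygi47 zgi36) (kgi xgi24 ygi46 zgi9) (kgi xgi28 ygi42 zgi14) (kgi xgi16 ygi42 zgi7) (kgi xgi28 ygi54 zgi38) (kgi xgi32 ygi14 zgi22) (kgi xgi17 ygi6 zgi3) (kgi xgi16 ygi42 zgi20)) (@D3.rec (fun _ => Pt) (kgi xgi28 ygi41 zgi29) (kgi xgi17 ygi23 zgi47) (kgi xgi18 ygi40 zgi7) (kgi xgi18 ygi33 zgi50) (kgi xgi16 ygi42 zgi19) (kgi xgi16 ygi42 zgi23) (kgi xgi32 ygi14 zgi26) (kgi xgi29 ygi43 zgi18) (kgi xgi32 ygi14 zgi29) (kgi xgi29 ygi2 zgi45) (kgi xgi19 ygi1 zgi11) (kgi xgi26 ygi59 zgi43) (kgi xgi26 ygi7 zgi52) (kgi xgi31 ygi40 zgi52) (kgi xgi30 ygi48 zgi41) (kgi xgi27 ygi57 zgi22) (kgi xgi20 ygi56 zgi38) (kgi xgi31 ygi35 zgi48) (kgi xgi16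 ygi42 zgi35) (kgi xgi26 ygi41 zgi21) (kgi xgi27 ygi43 zgi44) (kgi xgi26 ygi41 zgi18) (kgi xgi19 ygi59 zgi23) (kgi xgi32 ygi14 zgi33) (kgi xgi32 ygi13 zgi9) (kgi xgi16 ygi42 zgi39) (kgi xgi16 ygi42 zgi43) (kgi xgi26 ygi34 zgi58) (kgi xgi20 ygi56 zgi31) (kgi xgi26 ygi35 zgi48) (kgi xgi25 ygi43 zgi27) (kgi xgi19 ygi36 zgi19) (kgi xgi32 ygi0 zgi14) (kgi xgi16 ygi42 zgi49) (kgi xgi22 ygi3 zgi3) (kgi xgi32 ygi14 zgi36) (kgi xgi22 ygi1 zgi58) (kgi xgi25 ygi24 zgi21) (kgi xgi31 ygi54 zgi45) (kgi xgi19 ygi35 zgi17) (kgi xgi25 ygi32 zgi3) (kgi xgi18 ygi33 zgi37) (kgi xgi16 ygi43 zgi25) (kgi xgi18 ygi51 zgi10) (kgi xgi25 ygi31 zgi49) (kgi xgi28 ygi34 zgi38) (kgi xgi20 ygi51 zgi8) (kgi xgi25 ygi31 zgi61) (kgi xgi28 ygi54 zgi8) (kgi xgi19 ygi35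 zgi10) (kgi xgi31 ygi31 zgi56) (kgi xgi29 ygi9 zgi28) (kgi xgi28 ygi7 zgi57) (kgi xgi16 ygi43 zgi6) (kgi xgi24 ygi24 zgi7) (kgi xgi16 ygi43 zgi5) (kgi xgi31 ygi53 zgi45) (kgi xgi19 ygi37 zgi3) (kgi xgi19 ygi36 zgi56) (kgi xgi27 ygi23 zgi10) (kgi xgi16 ygi43 zgi8) (kgi xgi19 ygi32 zgi27)) (@D3.rec (fun _ => Pt) (kgi xgi19 ygi37 zgi12) (kgi xgi31 ygi47 zgi21) (kgi xgi22 ygi8 zgi17) (kgi xgi30 ygi47 zgi40) (kgi xgi27 ygi21 zgi26) (kgi xgi16 ygi43 zgi16) (kgi xgi16 ygi43 zgi17) (kgi xgi19 ygi36 zgi45) (kgi xgi24 ygi32 zgi12) (kgi xgi24 ygi21 zgi12) (kgi xgi31 ygi50 zgi23) (kgi xgi17 ygi20 zgi15) (kgi xgi28 ygi17 zgi49) (kgi xgi27 ygi42 zgi37) (kgi xgi29 ygi34 zgi51) (kgi xgi16 ygi43 zgi27) (kgi xgi25 ygi5 zgi51) (kgi xgi20 ygi53 zgi20)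 (kgi xgi28 ygi55 zgi52) (kgi xgi28 ygi55 zgi57) (kgi xgi16 ygi43 zgi37) (kgi xgi29 ygi12 zgi2) (kgi xgi29 ygi12 zgi1) (kgi xgi22 ygi1 zgi61) (kgi xgi16 ygi46 zgi0) (kgi xgi21 ygi4 zgi14) (kgi xgi25 ygi11 zgi54) (kgi xgi25 ygi43 zgi15) (kgi xgi16 ygi43 zgi42) (kgi xgi19 ygi39 zgi38) (kgi xgi27 ygi21 zgi57) (kgi xgi19 ygi39 zgi35) (kgi xgi20 ygi29 zgi0) (kgi xgi23 ygi57 zgi61) (kgi xgi28 ygi49 zgi5) (kgi xgi27 ygi41 zgi25) (kgi xgi23 ygi12 zgi12) (kgi xgi23 ygi39 zgi53) (kgi xgi19 ygi8 zgi44) (kgi xgi26 ygi36 zgi23) (kgi xgi24 ygi51 zgi30) (kgi xgi16 ygi46 zgi53) (kgi xgi19 ygi42 zgi22) (kgi xgi25 ygi53 zgi11) (kgi xgi28 ygi49 zgi57) (kgi xgi16 ygi44 zgi4) (kgi xgi25 ygi52 zgi59) (kgi xgi31 ygi17 zgi55) (kgi xgi27 ygi15 zgi38) (kgi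 xgi28 ygi42 zgi39) (kgi xgi18 ygi44 zgi2) (kgi xgi29 ygi48 zgi25) (kgi xgi23 ygi53 zgi35) (kgi xgi22 ygi57 zgi17) (kgi xgi16 ygi44 zgi11) (kgi xgi29 ygi48 zgi26) (kgi xgi31 ygi22 zgi15) (kgi xgi16 ygi44 zgi12) (kgi xgi19 ygi29 zgi38) (kgi xgi27 ygi13 zgi39) (kgi xgi19 ygi29 zgi35) (kgi xgi32 ygi14 zgi56)) (@D3.rec (fun _ => Pt) (kgi xgi19 ygi42 zgi25) (kgi xgi19 ygi29 zgi44) (kgi xgi29 ygi9 zgi25) (kgi xgi19 ygi30 zgi36) (kgi xgi27 ygi35 zgi61) (kgi xgi19 ygi28 zgi26) (kgi xgi29 ygi48 zgi12) (kgi xgi16 ygi44 zgi18) (kgi xgi29 ygi48 zgi13) (kgi xgi32 ygi15 zgi5) (kgi xgi16 ygi44 zgi19) (kgi xgi28 ygi52 zgi5) (kgi xgi30 ygi27 zgi16) (kgi xgi28 ygi47 zgi3) (kgi xgi16 ygi44 zgi23) (kgi xgi32 ygi15 zgi8) (kgi xgi22 ygi23 zgi43) (kgi xgi28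 ygi42 zgi31) (kgi xgi25 ygi52 zgi52) (kgi xgi30 ygi9 zgi7) (kgi xgi19 ygi32 zgi39) (kgi xgi29 ygi9 zgi18) (kgi xgi16 ygi44 zgi29) (kgi xgi19 ygi30 zgi35) (kgi xgi32 ygi15 zgi13) (kgi xgi22 ygi23 zgi47) (kgi xgi19 ygi30 zgi32) (kgi xgi19 ygi30 zgi49) (kgi xgi30 ygi49 zgi38) (kgi xgi30 ygi26 zgi31) (kgi xgi28 ygi55 zgi35) (kgi xgi32 ygi3 zgi5) (kgi xgi16 ygi44 zgi35) (kgi xgi19 ygi30 zgi44) (kgi xgi29 ygi1 zgi43) (kgi xgi24 ygi6 zgi23) (kgi xgi21 ygi8 zgi5) (kgi xgi17 ygi21 zgi11) (kgi xgi26 ygi52 zgi57) (kgi xgi31 ygi28 zgi42) (kgi xgi21 ygi57 zgi55) (kgi xgi16 ygi46 zgi56) (kgi xgi16 ygi46 zgi58) (kgi xgi19 ygi28 zgi47) (kgi xgi32 ygi15 zgi20) (kgi xgi32 ygi7 zgi36) (kgi xgi19 ygi34 zgi7) (kgi xgi29 ygi42 zgi49) (kgi xgi23 ygi57 zgi10)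 (kgi xgi16 ygi45 zgi15) (kgi xgi16 ygi44 zgi55) (kgi xgi21 ygi57 zgi53) (kgi xgi25 ygi23 zgi30) (kgi xgi19 ygi33 zgi12) (kgi xgi19 ygi29 zgi0) (kgi xgi19 ygi33 zgi40) (kgi xgi30 ygi17 zgi57) (kgi xgi19 ygi33 zgi37) (kgi xgi17 ygi1 zgi0) (kgi xgi19 ygi34 zgi29) (kgi xgi24 ygi47 zgi3) (kgi xgi20 ygi16 zgi14)) (@D3.rec (fun _ => Pt) (kgi xgi23 ygi53 zgi41) (kgi xgi26 ygi52 zgi59) (kgi xgi16 ygi47 zgi3) (kgi xgi17 ygi10 zgi32) (kgi xgi19 ygi43 zgi6) (kgi xgi19 ygi52 zgi20) (kgi xgi29 ygi1 zgi41) (kgi xgi32 ygi15 zgi27) (kgi xgi17 ygi18 zgi9) (kgi xgi23 ygi52 zgi59) (kgi xgi16 ygi45 zgi14) (kgi xgi28 ygi50 zgi17) (kgi xgi29 ygi18 zgi5) (kgi xgi25 ygi40 zgi46) (kgi xgi28 ygi39 zgi34) (kgi xgi26 ygi36 zgi55) (kgi xgi16 ygi45 zgi26) (kgi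 xgi27 ygi22 zgi25) (kgi xgi16 ygi45 zgi30) (kgi xgi19 ygi45 zgi60) (kgi xgi19 ygi45 zgi6) (kgi xgi31 ygi50 zgi60) (kgi xgi29 ygi41 zgi51) (kgi xgi16 ygi45 zgi36) (kgi xgi29 ygi41 zgi50) (kgi xgi27 ygi21 zgi33) (kgi xgi28 ygi49 zgi23) (kgi xgi25 ygi36 zgi36) (kgi xgi32 ygi15 zgi33) (kgi xgi16 ygi45 zgi41) (kgi xgi25 ygi9 zgi43) (kgi xgi26 ygi37 zgi16) (kgi xgi17 ygi52 zgi48) (kgi xgi29 ygi17 zgi19) (kgi xgi20 ygi56 zgi20) (kgi xgi24 ygi58 zgi10) (kgi xgi24 ygi58 zgi22) (kgi xgi25 ygi13 zgi39) (kgi xgi25 ygi12 zgi30) (kgi xgi16 ygi45 zgi57) (kgi xgi30 ygi14 zgi13) (kgi xgi18 ygi15 zgi2) (kgi xgi20 ygi50 zgi28) (kgi xgi26 ygi10 zgi41) (kgi xgi32 ygi15 zgi36) (kgi xgi22 ygi11 zgi60) (kgi xgi16 ygi46 zgi16) (kgi xgi20 ygi7 zgi51) (kgi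 xgi23 ygi43 zgi2) (kgi xgi16 ygi46 zgi14) (kgi xgi30 ygi17 zgi54) (kgi xgi25 ygi48 zgi30) (kgi xgi18 ygi48 zgi39) (kgi xgi29 ygi8 zgi59) (kgi xgi18 ygi44 zgi26) (kgi xgi18 ygi45 zgi30) (kgi xgi28 ygi14 zgi10) (kgi xgi32 ygi0 zgi49) (kgi xgi16 ygi46 zgi30) (kgi xgi19 ygi41 zgi28) (kgi xgi24 ygi19 zgi31) (kgi xgi19 ygi41 zgi40)) (@D3.rec (fun _ => Pt) (kgi xgi22 ygi57 zgi42) (kgi xgi23 ygi53 zgi40) (kgi xgi23 ygi59 zgi55) (kgi xgi29 ygi27 zgi57) (kgi xgi19 ygi25 zgi19) (kgi xgi16 ygi46 zgi38) (kgi xgi28 ygi29 zgi35) (kgi xgi28 ygi52 zgi35) (kgi xgi28 ygi15 zgi13) (kgi xgi31 ygi50 zgi30) (kgi xgi32 ygi15 zgi38) (kgi xgi25 ygi43 zgi34) (kgi xgi24 ygi28 zgi34) (kgi xgi18 ygi55 zgi50) (kgi xgi31 ygi36 zgi39) (kgi xgi16 ygi46 zgi50) (kgi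 xgi19 ygi28 zgi1) (kgi xgi30 ygi51 zgi18) (kgi xgi16 ygi46 zgi51) (kgi xgi16 ygi46 zgi54) (kgi xgi19 ygi24 zgi8) (kgi xgi19 ygi58 zgi20) (kgi xgi32 ygi14 zgi42) (kgi xgi19 ygi46 zgi11) (kgi xgi30 ygi20 zgi4) (kgi xgi24 ygi12 zgi44) (kgi xgi26 ygi53 zgi9) (kgi xgi28 ygi22 zgi53) (kgi xgi16 ygi46 zgi59) (kgi xgi19 ygi15 zgi55) (kgi xgi20 ygi10 zgi25) (kgi xgi19 ygi34 zgi24) (kgi xgi21 ygi9 zgi11) (kgi xgi25 ygi53 zgi14) (kgi xgi21 ygi15 zgi47) (kgi xgi25 ygi50 zgi25) (kgi xgi19 ygi43 zgi39) (kgi xgi29 ygi0 zgi58) (kgi xgi25 ygi47 zgi35) (kgi xgi32 ygi15 zgi42) (kgi xgi22 ygi5 zgi13) (kgi xgi31 ygi53 zgi32) (kgi xgi21 ygi57 zgi12) (kgi xgi19 ygi32 zgi47) (kgi xgi21 ygi38 zgi4) (kgi xgi19 ygi43 zgi58) (kgi xgi24 ygi58 zgi13) (kgi xgi19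 ygi50 zgi43) (kgi xgi20 ygi49 zgi6) (kgi xgi20 ygi9 zgi41) (kgi xgi29 ygi13 zgi61) (kgi xgi21 ygi53 zgi35) (kgi xgi20 ygi52 zgi34) (kgi xgi18 ygi44 zgi5) (kgi xgi16 ygi47 zgi41) (kgi xgi31 ygi33 zgi46) (kgi xgi20 ygi14 zgi20) (kgi xgi21 ygi52 zgi21) (kgi xgi19 ygi56 zgi14) (kgi xgi27 ygi1 zgi27) (kgi xgi16 ygi47 zgi46) (kgi xgi29 ygi5 zgi58)) (@D3.rec (fun _ => Pt) (kgi xgi27 ygi41 zgi26) (kgi xgi24 ygi31 zgi48) (kgi xgi26 ygi10 zgi11) (kgi xgi19 ygi6 zgi6) (kgi xgi23 ygi42 zgi43) (kgi xgi20 ygi14 zgi9) (kgi xgi21 ygi4 zgi2) (kgi xgi16 ygi48 zgi2) (kgi xgi26 ygi46 zgi37) (kgi xgi26 ygi34 zgi56) (kgi xgi32 ygi13 zgi0) (kgi xgi17 ygi12 zgi61) (kgi xgi21 ygi54 zgi54) (kgi xgi28 ygi45 zgi43) (kgi xgi29 ygi35 zgi2) (kgi xgi25 ygi34 zgi21)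 (kgi xgi17 ygi27 zgi39) (kgi xgi23 ygi1 zgi40) (kgi xgi24 ygi17 zgi49) (kgi xgi22 ygi53 zgi20) (kgi xgi20 ygi37 zgi61) (kgi xgi31 ygi31 zgi37) (kgi xgi19 ygi22 zgi33) (kgi xgi16 ygi48 zgi32) (kgi xgi29 ygi31 zgi20) (kgi xgi16 ygi48 zgi33) (kgi xgi17 ygi7 zgi36) (kgi xgi20 ygi38 zgi4) (kgi xgi17 ygi7 zgi25) (kgi xgi17 ygi33 zgi28) (kgi xgi16 ygi48 zgi39) (kgi xgi16 ygi48 zgi52) (kgi xgi19 ygi46 zgi55) (kgi xgi19 ygi59 zgi1) (kgi xgi17 ygi31 zgi0) (kgi xgi20 ygi19 zgi38) (kgi xgi20 ygi10 zgi32) (kgi xgi22 ygi4 zgi16) (kgi xgi16 ygi50 zgi59) (kgi xgi21 ygi19 zgi37) (kgi xgi16 ygi49 zgi8) (kgi xgi19 ygi35 zgi1) (kgi xgi32 ygi15 zgi52) (kgi xgi16 ygi59 zgi6) (kgi xgi28 ygi53 zgi57) (kgi xgi28 ygi11 zgi21) (kgi xgi16 ygi49 zgi18) (kgi xgi32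 ygi15 zgi53) (kgi xgi29 ygi41 zgi48) (kgi xgi32 ygi6 zgi15) (kgi xgi20 ygi42 zgi0) (kgi xgi26 ygi54 zgi12) (kgi xgi21 ygi37 zgi27) (kgi xgi19 ygi32 zgi37) (kgi xgi16 ygi49 zgi29) (kgi xgi20 ygi4 zgi28) (kgi xgi23 ygi27 zgi51) (kgi xgi20 ygi4 zgi25) (kgi xgi27 ygi36 zgi59) (kgi xgi28 ygi36 zgi55) (kgi xgi17 ygi17 zgi50) (kgi xgi28 ygi9 zgi43)) (@D3.rec (fun _ => Pt) (kgi xgi16 ygi49 zgi43) (kgi xgi20 ygi5 zgi48) (kgi xgi26 ygi6 zgi5) (kgi xgi17 ygi32 zgi10) (kgi xgi18 ygi3 zgi10) (kgi xgi31 ygi7 zgi55) (kgi xgi16 ygi49 zgi54) (kgi xgi26 ygi8 zgi9) (kgi xgi28 ygi11 zgi51) (kgi xgi16 ygi49 zgi60) (kgi xgi28 ygi11 zgi52) (kgi xgi32 ygi16 zgi0) (kgi xgi32 ygi16 zgi1) (kgi xgi19 ygi55 zgi10) (kgi xgi16 ygi50 zgi0) (kgi xgi19 ygi55 zgi18)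 (kgi xgi31 ygi8 zgi49) (kgi xgi17 ygi41 zgi46) (kgi xgi31 ygi47 zgi31) (kgi xgi19 ygi56 zgi52) (kgi xgi19 ygi55 zgi2) (kgi xgi25 ygi38 zgi28) (kgi xgi31 ygi2 zgi41) (kgi xgi23 ygi43 zgi40) (kgi xgi16 ygi50 zgi8) (kgi xgi32 ygi16 zgi4) (kgi xgi32 ygi4 zgi52) (kgi xgi32 ygi16 zgi3) (kgi xgi16 ygi50 zgi9) (kgi xgi19 ygi54 zgi39) (kgi xgi32 ygi5 zgi5) (kgi xgi19 ygi54 zgi36) (kgi xgi28 ygi40 zgi50) (kgi xgi25 ygi23 zgi25) (kgi xgi25 ygi23 zgi21) (kgi xgi26 ygi6 zgi39) (kgi xgi30 ygi40 zgi52) (kgi xgi25 ygi23 zgi13) (kgi xgi25 ygi22 zgi30) (kgi xgi25 ygi22 zgi33) (kgi xgi19 ygi55 zgi33) (kgi xgi29 ygi49 zgi44) (kgi xgi16 ygi50 zgi20) (kgi xgi31 ygi3 zgi23) (kgi xgi16 ygi50 zgi21) (kgi xgi19 ygi56 zgi0) (kgi xgi32 ygi16 zgi16) (kgi xgi19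 ygi55 zgi59) (kgi xgi16 ygi50 zgi22) (kgi xgi18 ygi40 zgi27) (kgi xgi28 ygi36 zgi48) (kgi xgi19 ygi55 zgi53) (kgi xgi31 ygi29 zgi13) (kgi xgi20 ygi0 zgi61) (kgi xgi31 ygi29 zgi12) (kgi xgi32 ygi5 zgi8) (kgi xgi31 ygi18 zgi24) (kgi xgi16 ygi50 zgi28) (kgi xgi19 ygi55 zgi43) (kgi xgi32 ygi16 zgi17) (kgi xgi19 ygi55 zgi40) (kgi xgi26 ygi8 zgi7)) (@D3.rec (fun _ => Pt) (kgi xgi19 ygi3 zgi39) (kgi xgi29 ygi9 zgi14) (kgi xgi25 ygi37 zgi58) (kgi xgi19 ygi56 zgi7) (kgi xgi28 ygi49 zgi31) (kgi xgi19 ygi56 zgi5) (kgi xgi31 ygi29 zgi55) (kgi xgi22 ygi4 zgi43) (kgi xgi23 ygi59 zgi36) (kgi xgi19 ygi56 zgi26) (kgi xgi18 ygi52 zgi44) (kgi xgi23 ygi31 zgi6) (kgi xgi24 ygi42 zgi49) (kgi xgi19 ygi16 zgi40) (kgi xgi21 ygi55 zgi58) (kgi xgi19 ygi14 zgi55)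 (kgi xgi21 ygi58 zgi36) (kgi xgi16 ygi50 zgi48) (kgi xgi26 ygi40 zgi36) (kgi xgi32 ygi4 zgi42) (kgi xgi20 ygi53 zgi9) (kgi xgi28 ygi29 zgi37) (kgi xgi19 ygi54 zgi27) (kgi xgi28 ygi14 zgi2) (kgi xgi31 ygi23 zgi60) (kgi xgi16 ygi50 zgi58) (kgi xgi19 ygi59 zgi13) (kgi xgi32 ygi16 zgi22) (kgi xgi18 ygi2 zgi47) (kgi xgi19 ygi54 zgi42) (kgi xgi16 ygi51 zgi0) (kgi xgi31 ygi9 zgi15) (kgi xgi19 ygi58 zgi56) (kgi xgi19 ygi27 zgi50) (kgi xgi19 ygi31 zgi40) (kgi xgi26 ygi35 zgi55) (kgi xgi25 ygi9 zgi27) (kgi xgi16 ygi51 zgi17) (kgi xgi31 ygi52 zgi60) (kgi xgi29 ygi14 zgi42) (kgi xgi20 ygi36 zgi4) (kgi xgi16 ygi51 zgi23) (kgi xgi26 ygi25 zgi10) (kgi xgi21 ygi15 zgi37) (kgi xgi18 ygi21 zgi8) (kgi xgi16 ygi51 zgi26) (kgi xgi32 ygi8 zgi8) (kgi xgi20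 ygi6 zgi47) (kgi xgi26 ygi53 zgi11) (kgi xgi29 ygi54 zgi29) (kgi xgi26 ygi27 zgi7) (kgi xgi26 ygi26 zgi24) (kgi xgi26 ygi26 zgi23) (kgi xgi24 ygi30 zgi56) (kgi xgi20 ygi30 zgi43) (kgi xgi24 ygi31 zgi0) (kgi xgi29 ygi7 zgi20) (kgi xgi23 ygi42 zgi33) (kgi xgi29 ygi22 zgi6) (kgi xgi21 ygi0 zgi8) (kgi xgi16 ygi51 zgi54) (kgi xgi16 ygi51 zgi56)) (@D3.rec (fun _ => Pt) (kgi xgi20 ygi10 zgi8) (kgi xgi29 ygi25 zgi24) (kgi xgi20 ygi9 zgi36) (kgi xgi32 ygi16 zgi25) (kgi xgi16 ygi52 zgi0) (kgi xgi29 ygi31 zgi1) (kgi xgi16 ygi52 zgi1) (kgi xgi19 ygi43 zgi5) (kgi xgi23 ygi0 zgi8) (kgi xgi28 ygi20 zgi58) (kgi xgi29 ygi25 zgi23) (kgi xgi20 ygi11 zgi38) (kgi xgi16 ygi52 zgi9) (kgi xgi31 ygi15 zgi0) (kgi xgi20 ygi11 zgi32) (kgi xgi20 ygi51 zgi60)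 (kgi xgi16 ygi52 zgi13) (kgi xgi30 ygi36 zgi16) (kgi xgi30 ygi44 zgi14) (kgi xgi16 ygi52 zgi18) (kgi xgi32 ygi16 zgi27) (kgi xgi32 ygi16 zgi32) (kgi xgi32 ygi16 zgi26) (kgi xgi27 ygi13 zgi28) (kgi xgi16 ygi52 zgi20) (kgi xgi22 ygi39 zgi51) (kgi xgi30 ygi30 zgi26) (kgi xgi16 ygi52 zgi22) (kgi xgi26 ygi4 zgi5) (kgi xgi29 ygi36 zgi42) (kgi xgi26 ygi57 zgi61) (kgi xgi16 ygi52 zgi30) (kgi xgi21 ygi57 zgi47) (kgi xgi29 ygi38 zgi35) (kgi xgi16 ygi52 zgi35) (kgi xgi20 ygi22 zgi21) (kgi xgi16 ygi53 zgi2) (kgi xgi16 ygi52 zgi44) (kgi xgi20 ygi31 zgi27) (kgi xgi16 ygi52 zgi45) (kgi xgi20 ygi18 zgi20) (kgi xgi19 ygi25 zgi47) (kgi xgi18 ygi59 zgi6) (kgi xgi19 ygi46 zgi46) (kgi xgi26 ygi58 zgi5) (kgi xgi29 ygi14 zgi46) (kgi xgi20 ygi29 zgi44) (kgi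 xgi16 ygi52 zgi60) (kgi xgi19 ygi59 zgi41) (kgi xgi16 ygi53 zgi1) (kgi xgi20 ygi8 zgi19) (kgi xgi20 ygi8 zgi17) (kgi xgi16 ygi53 zgi3) (kgi xgi20 ygi20 zgi54) (kgi xgi16 ygi53 zgi22) (kgi xgi29 ygi42 zgi41) (kgi xgi21 ygi15 zgi27) (kgi xgi26 ygi55 zgi36) (kgi xgi30 ygi44 zgi11) (kgi xgi16 ygi53 zgi26) (kgi xgi19 ygi52 zgi23) (kgi xgi27 ygi59 zgi54)) (@D3.rec (fun _ => Pt) (kgi xgi16 ygi54 zgi35) (kgi xgi26 ygi6 zgi2) (kgi xgi16 ygi53 zgi37) (kgi xgi16 ygi55 zgi34) (kgi xgi32 ygi16 zgi36) (kgi xgi16 ygi55 zgi35) (kgi xgi16 ygi54 zgi48) (kgi xgi25 ygi50 zgi24) (kgi xgi18 ygi59 zgi5) (kgi xgi29 ygi18 zgi13) (kgi xgi27 ygi14 zgi6) (kgi xgi28 ygi8 zgi4) (kgi xgi28 ygi55 zgi31) (kgi xgi28 ygi46 zgi21) (kgi xgi19 ygi21 zgi15) (kgi xgi29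 ygi48 zgi4) (kgi xgi19 ygi20 zgi55) (kgi xgi26 ygi50 zgi59) (kgi xgi20 ygi42 zgi46) (kgi xgi26 ygi52 zgi13) (kgi xgi26 ygi55 zgi12) (kgi xgi31 ygi31 zgi5) (kgi xgi20 ygi15 zgi15) (kgi xgi26 ygi50 zgi33) (kgi xgi17 ygi31 zgi12) (kgi xgi20 ygi40 zgi50) (kgi xgi17 ygi4 zgi38) (kgi xgi20 ygi52 zgi7) (kgi xgi16 ygi54 zgi15) (kgi xgi18 ygi50 zgi39) (kgi xgi20 ygi14 zgi38) (kgi xgi21 ygi50 zgi48) (kgi xgi16 ygi55 zgi53) (kgi xgi26 ygi50 zgi25) (kgi xgi16 ygi54 zgi23) (kgi xgi18 ygi55 zgi26) (kgi xgi16 ygi55 zgi12) (kgi xgi16 ygi55 zgi52) (kgi xgi26 ygi50 zgi17) (kgi xgi28 ygi24 zgi52) (kgi xgi24 ygi22 zgi55) (kgi xgi21 ygi30 zgi40) (kgi xgi29 ygi39 zgi8) (kgi xgi28 ygi32 zgi29) (kgi xgi30 ygi36 zgi48) (kgi xgi29 ygi37 zgi56) (kgi xgi29 ygi39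 zgi26) (kgi xgi17 ygi55 zgi61) (kgi xgi16 ygi55 zgi30) (kgi xgi16 ygi54 zgi41) (kgi xgi26 ygi59 zgi50) (kgi xgi20 ygi7 zgi58) (kgi xgi29 ygi19 zgi41) (kgi xgi27 ygi1 zgi18) (kgi xgi30 ygi30 zgi28) (kgi xgi16 ygi55 zgi50) (kgi xgi17 ygi6 zgi49) (kgi xgi20 ygi14 zgi22) (kgi xgi27 ygi20 zgi18) (kgi xgi24 ygi51 zgi37) (kgi xgi26 ygi40 zgi6) (kgi xgi17 ygi21 zgi15)) (@D3.rec (fun _ => Pt) (kgi xgi17 ygi0 zgi60) (kgi xgi29 ygi19 zgi58) (kgi xgi27 ygi59 zgi55) (kgi xgi16 ygi54 zgi58) (kgi xgi25 ygi34 zgi37) (kgi xgi18 ygi55 zgi38) (kgi xgi29 ygi39 zgi10) (kgi xgi23 ygi0 zgi9) (kgi xgi30 ygi37 zgi18) (kgi xgi20 ygi45 zgi34) (kgi xgi16 ygi55 zgi3) (kgi xgi29 ygi22 zgi52) (kgi xgi25 ygi11 zgi52) (kgi xgi28 ygi30 zgi20) (kgi xgi24 ygi20 zgi0)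 (kgi xgi25 ygi25 zgi39) (kgi xgi16 ygi55 zgi11) (kgi xgi25 ygi30 zgi15) (kgi xgi29 ygi3 zgi7) (kgi xgi19 ygi52 zgi4) (kgi xgi30 ygi18 zgi21) (kgi xgi28 ygi45 zgi47) (kgi xgi28 ygi29 zgi44) (kgi xgi28 ygi32 zgi42) (kgi xgi28 ygi45 zgi48) (kgi xgi28 ygi39 zgi32) (kgi xgi17 ygi1 zgi48) (kgi xgi16 ygi55 zgi18) (kgi xgi16 ygi55 zgi25) (kgi xgi32 ygi16 zgi47) (kgi xgi16 ygi55 zgi22) (kgi xgi23 ygi12 zgi53) (kgi xgi24 ygi4 zgi53) (kgi xgi28 ygi34 zgi21) (kgi xgi20 ygi31 zgi61) (kgi xgi29 ygi3 zgi9) (kgi xgi23 ygi4 zgi0) (kgi xgi29 ygi55 zgi53) (kgi xgi16 ygi55 zgi24) (kgi xgi32 ygi16 zgi48) (kgi xgi32 ygi16 zgi52) (kgi xgi21 ygi16 zgi4) (kgi xgi16 ygi55 zgi27) (kgi xgi16 ygi58 zgi26) (kgi xgi26 ygi39 zgi49) (kgi xgi24 ygi21 zgi29) (kgi xgi26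 ygi39 zgi47) (kgi xgi17 ygi6 zgi31) (kgi xgi28 ygi34 zgi17) (kgi xgi16 ygi55 zgi32) (kgi xgi17 ygi6 zgi13) (kgi xgi24 ygi22 zgi47) (kgi xgi23 ygi45 zgi57) (kgi xgi31 ygi35 zgi29) (kgi xgi28 ygi43 zgi17) (kgi xgi29 ygi35 zgi54) (kgi xgi30 ygi33 zgi61) (kgi xgi30 ygi34 zgi1) (kgi xgi30 ygi36 zgi30) (kgi xgi16 ygi55 zgi37) (kgi xgi32 ygi16 zgi37) (kgi xgi23 ygi48 zgi15)) (@D3.rec (fun _ => Pt) (kgi xgi27 ygi20 zgi15) (kgi xgi18 ygi43 zgi30) (kgi xgi24 ygi25 zgi27) (kgi xgi17 ygi6 zgi37) (kgi xgi26 ygi52 zgi46) (kgi xgi20 ygi11 zgi34) (kgi xgi21 ygi52 zgi9) (kgi xgi16 ygi55 zgi43) (kgi xgi16 ygi55 zgi47) (kgi xgi28 ygi48 zgi59) (kgi xgi17 ygi6 zgi11) (kgi xgi16 ygi55 zgi46) (kgi xgi16 ygi55 zgi48) (kgi xgi26 ygi49 zgi33) (kgi xgi26 ygi53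 zgi55) (kgi xgi28 ygi17 zgi44) (kgi xgi19 ygi31 zgi48) (kgi xgi30 ygi30 zgi27) (kgi xgi20 ygi58 zgi5) (kgi xgi16 ygi55 zgi56) (kgi xgi20 ygi39 zgi1) (kgi xgi32 ygi12 zgi50) (kgi xgi28 ygi40 zgi14) (kgi xgi24 ygi3 zgi25) (kgi xgi20 ygi57 zgi6) (kgi xgi26 ygi37 zgi34) (kgi xgi17 ygi2 zgi20) (kgi xgi32 ygi17 zgi8) (kgi xgi16 ygi55 zgi61) (kgi xgi19 ygi34 zgi14) (kgi xgi29 ygi20 zgi15) (kgi xgi32 ygi17 zgi11) (kgi xgi28 ygi18 zgi18) (kgi xgi16 ygi57 zgi14) (kgi xgi16 ygi57 zgi13) (kgi xgi30 ygi12 zgi19) (kgi xgi20 ygi52 zgi13) (kgi xgi18 ygi47 zgi10) (kgi xgi30 ygi34 zgi51) (kgi xgi16 ygi56 zgi10) (kgi xgi32 ygi17 zgi12) (kgi xgi28 ygi38 zgi52) (kgi xgi32 ygi17 zgi10) (kgi xgi19 ygi52 zgi21) (kgi xgi16 ygi56 zgi13) (kgi xgi27 ygi11 zgi51)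 (kgi xgi26 ygi50 zgi52) (kgi xgi20 ygi11 zgi37) (kgi xgi20 ygi16 zgi49) (kgi xgi29 ygi16 zgi48) (kgi xgi31 ygi32 zgi47) (kgi xgi28 ygi26 zgi20) (kgi xgi19 ygi52 zgi30) (kgi xgi16 ygi56 zgi44) (kgi xgi26 ygi43 zgi38) (kgi xgi32 ygi17 zgi19) (kgi xgi19 ygi43 zgi26) (kgi xgi28 ygi45 zgi5) (kgi xgi17 ygi20 zgi34) (kgi xgi24 ygi29 zgi36) (kgi xgi17 ygi21 zgi7) (kgi xgi21 ygi44 zgi25)) (@D3.rec (fun _ => Pt) (kgi xgi17 ygi18 zgi32) (kgi xgi28 ygi9 zgi54) (kgi xgi16 ygi56 zgi49) (kgi xgi32 ygi17 zgi21) (kgi xgi29 ygi55 zgi10) (kgi xgi17 ygi24 zgi52) (kgi xgi20 ygi20 zgi19) (kgi xgi16 ygi56 zgi58) (kgi xgi19 ygi34 zgi25) (kgi xgi29 ygi2 zgi56) (kgi xgi26 ygi26 zgi61) (kgi xgi20 ygi18 zgi36) (kgi xgi20 ygi19 zgi45) (kgi xgi23 ygi10 zgi44)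 (kgi xgi29 ygi14 zgi55) (kgi xgi29 ygi59 zgi59) (kgi xgi29 ygi18 zgi48) (kgi xgi17 ygi20 zgi37) (kgi xgi20 ygi16 zgi9) (kgi xgi20 ygi31 zgi52) (kgi xgi17 ygi28 zgi26) (kgi xgi16 ygi58 zgi20) (kgi xgi20 ygi26 zgi60) (kgi xgi23 ygi49 zgi20) (kgi xgi22 ygi7 zgi44) (kgi xgi31 ygi21 zgi18) (kgi xgi20 ygi1 zgi43) (kgi xgi24 ygi52 zgi10) (kgi xgi17 ygi18 zgi42) (kgi xgi16 ygi58 zgi0) (kgi xgi29 ygi35 zgi51) (kgi xgi16 ygi58 zgi17) (kgi xgi16 ygi58 zgi4) (kgi xgi16 ygi58 zgi40) (kgi xgi30 ygi7 zgi7) (kgi xgi28 ygi9 zgi2) (kgi xgi16 ygi58 zgi37) (kgi xgi31 ygi56 zgi60) (kgi xgi23 ygi55 zgi46) (kgi xgi16 ygi58 zgi8) (kgi xgi19 ygi59 zgi21) (kgi xgi31 ygi40 zgi38) (kgi xgi24 ygi49 zgi45) (kgi xgi28 ygi43 zgi28) (kgi xgi32 ygi17 zgi30) (kgi xgi30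 ygi30 zgi23) (kgi xgi31 ygi28 zgi2) (kgi xgi28 ygi17 zgi56) (kgi xgi22 ygi21 zgi27) (kgi xgi31 ygi13 zgi36) (kgi xgi16 ygi58 zgi19) (kgi xgi32 ygi17 zgi24) (kgi xgi30 ygi38 zgi47) (kgi xgi29 ygi8 zgi30) (kgi xgi29 ygi35 zgi49) (kgi xgi26 ygi52 zgi17) (kgi xgi29 ygi25 zgi36) (kgi xgi16 ygi58 zgi22) (kgi xgi16 ygi58 zgi28) (kgi xgi27 ygi16 zgi50) (kgi xgi32 ygi17 zgi40) (kgi xgi29 ygi25 zgi45)) (@D3.rec (fun _ => Pt) (kgi xgi16 ygi58 zgi24) (kgi xgi16 ygi58 zgi30) (kgi xgi29 ygi35 zgi32) (kgi xgi17 ygi56 zgi0) (kgi xgi21 ygi38 zgi32) (kgi xgi21 ygi7 zgi60) (kgi xgi30 ygi18 zgi30) (kgi xgi28 ygi18 zgi56) (kgi xgi20 ygi44 zgi38) (kgi xgi24 ygi12 zgi37) (kgi xgi29 ygi36 zgi3) (kgi xgi31 ygi42 zgi1) (kgi xgi30 ygi20 zgi25) (kgi xgi25 ygi20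 zgi6) (kgi xgi29 ygi7 zgi12) (kgi xgi19 ygi58 zgi8) (kgi xgi29 ygi5 zgi49) (kgi xgi16 ygi58 zgi39) (kgi xgi32 ygi17 zgi26) (kgi xgi31 ygi28 zgi39) (kgi xgi27 ygi37 zgi3) (kgi xgi24 ygi51 zgi52) (kgi xgi20 ygi54 zgi17) (kgi xgi16 ygi58 zgi43) (kgi xgi31 ygi34 zgi21) (kgi xgi31 ygi50 zgi47) (kgi xgi32 ygi17 zgi47) (kgi xgi29 ygi17 zgi36) (kgi xgi29 ygi15 zgi5) (kgi xgi32 ygi17 zgi52) (kgi xgi29 ygi8 zgi58) (kgi xgi29 ygi15 zgi9) (kgi xgi24 ygi49 zgi50) (kgi xgi28 ygi37 zgi1) (kgi xgi24 ygi3 zgi55) (kgi xgi24 ygi3 zgi6) (kgi xgi16 ygi58 zgi56) (kgi xgi31 ygi17 zgi53) (kgi xgi32 ygi17 zgi27) (kgi xgi29 ygi36 zgi19) (kgi xgi24 ygi4 zgi33) (kgi xgi32 ygi17 zgi57) (kgi xgi32 ygi17 zgi55) (kgi xgi32 ygi18 zgi0) (kgi xgi16 ygi58 zgi60) (kgi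 xgi32 ygi17 zgi29) (kgi xgi32 ygi17 zgi28) (kgi xgi16 ygi59 zgi0) (kgi xgi20 ygi54 zgi20) (kgi xgi29 ygi15 zgi4) (kgi xgi29 ygi50 zgi8) (kgi xgi29 ygi36 zgi4) (kgi xgi29 ygi4 zgi8) (kgi xgi32 ygi6 zgi16) (kgi xgi20 ygi7 zgi38) (kgi xgi24 ygi37 zgi3) (kgi xgi31 ygi57 zgi26) (kgi xgi16 ygi59 zgi13) (kgi xgi26 ygi2 zgi44) (kgi xgi24 ygi35 zgi7) (kgi xgi28 ygi9 zgi19) (kgi xgi32 ygi18 zgi5)) (@D3.rec (fun _ => Pt) (kgi xgi24 ygi34 zgi32) (kgi xgi29 ygi50 zgi6) (kgi xgi32 ygi1 zgi60) (kgi xgi20 ygi3 zgi16) (kgi xgi27 ygi40 zgi25) (kgi xgi18 ygi25 zgi35) (kgi xgi17 ygi3 zgi3) (kgi xgi28 ygi1 zgi42) (kgi xgi28 ygi1 zgi34) (kgi xgi18 ygi50 zgi27) (kgi xgi25 ygi45 zgi46) (kgi xgi29 ygi30 zgi1) (kgi xgi26 ygi52 zgi33) (kgi xgi16 ygi59 zgi60)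 (kgi xgi18 ygi21 zgi28) (kgi xgi21 ygi45 zgi47) (kgi xgi27 ygi38 zgi6) (kgi xgi21 ygi5 zgi51) (kgi xgi23 ygi36 zgi32) (kgi xgi17 ygi0 zgi7) (kgi xgi25 ygi39 zgi52) (kgi xgi26 ygi49 zgi35) (kgi xgi17 ygi0 zgi9) (kgi xgi17 ygi7 zgi23) (kgi xgi20 ygi53 zgi44) (kgi xgi17 ygi52 zgi7) (kgi xgi26 ygi29 zgi29) (kgi xgi28 ygi15 zgi6) (kgi xgi20 ygi50 zgi54) (kgi xgi20 ygi8 zgi51) (kgi xgi28 ygi47 zgi52) (kgi xgi29 ygi24 zgi3) (kgi xgi17 ygi0 zgi27) (kgi xgi20 ygi30 zgi19) (kgi xgi28 ygi28 zgi16) (kgi xgi20 ygi30 zgi16) (kgi xgi20 ygi31 zgi24) (kgi xgi17 ygi8 zgi33) (kgi xgi17 ygi0 zgi57) (kgi xgi26 ygi25 zgi51) (kgi xgi17 ygi0 zgi40) (kgi xgi17 ygi1 zgi9) (kgi xgi17 ygi1 zgi6) (kgi xgi28 ygi23 zgi51) (kgi xgi28 ygi50 zgi14) (kgi xgi17 ygi1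 zgi17) (kgi xgi17 ygi2 zgi7) (kgi xgi17 ygi1 zgi26) (kgi xgi20 ygi33 zgi50) (kgi xgi30 ygi44 zgi13) (kgi xgi32 ygi18 zgi11) (kgi xgi28 ygi50 zgi13) (kgi xgi21 ygi11 zgi22) (kgi xgi17 ygi53 zgi55) (kgi xgi17 ygi0 zgi52) (kgi xgi17 ygi28 zgi55) (kgi xgi19 ygi13 zgi47) (kgi xgi17 ygi2 zgi5) (kgi xgi31 ygi42 zgi4) (kgi xgi17 ygi2 zgi1) (kgi xgi20 ygi34 zgi6) (kgi xgi32 ygi18 zgi14)) (@D3.rec (fun _ => Pt) (kgi xgi31 ygi50 zgi33) (kgi xgi30 ygi42 zgi49) (kgi xgi30 ygi46 zgi38) (kgi xgi17 ygi0 zgi59) (kgi xgi21 ygi11 zgi18) (kgi xgi18 ygi52 zgi5) (kgi xgi27 ygi58 zgi29) (kgi xgi20 ygi10 zgi27) (kgi xgi17 ygi1 zgi1) (kgi xgi17 ygi1 zgi4) (kgi xgi31 ygi42 zgi2) (kgi xgi20 ygi26 zgi24) (kgi xgi21 ygi10 zgi23) (kgi xgi21 ygi30 zgi8) (kgi xgi27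 ygi42 zgi24) (kgi xgi27 ygi16 zgi41) (kgi xgi29 ygi21 zgi11) (kgi xgi17 ygi1 zgi11) (kgi xgi32 ygi18 zgi17) (kgi xgi27 ygi42 zgi25) (kgi xgi27 ygi42 zgi26) (kgi xgi22 ygi49 zgi25) (kgi xgi29 ygi19 zgi31) (kgi xgi23 ygi33 zgi34) (kgi xgi29 ygi3 zgi8) (kgi xgi22 ygi52 zgi60) (kgi xgi30 ygi54 zgi37) (kgi xgi25 ygi26 zgi44) (kgi xgi29 ygi52 zgi42) (kgi xgi29 ygi30 zgi35) (kgi xgi22 ygi47 zgi5) (kgi xgi29 ygi28 zgi20) (kgi xgi28 ygi24 zgi5) (kgi xgi17 ygi1 zgi20) (kgi xgi17 ygi2 zgi3) (kgi xgi17 ygi1 zgi22) (kgi xgi28 ygi20 zgi18) (kgi xgi20 ygi41 zgi61) (kgi xgi19 ygi7 zgi35) (kgi xgi27 ygi57 zgi35) (kgi xgi30 ygi45 zgi36) (kgi xgi28 ygi23 zgi3) (kgi xgi20 ygi9 zgi0) (kgi xgi26 ygi53 zgi13) (kgi xgi28 ygi29 zgi27) (kgi xgi26 ygi55 zgi53)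 (kgi xgi28 ygi43 zgi37) (kgi xgi17 ygi1 zgi44) (kgi xgi32 ygi16 zgi49) (kgi xgi28 ygi43 zgi15) (kgi xgi31 ygi31 zgi6) (kgi xgi30 ygi51 zgi29) (kgi xgi28 ygi25 zgi25) (kgi xgi32 ygi18 zgi16) (kgi xgi20 ygi8 zgi55) (kgi xgi19 ygi13 zgi29) (kgi xgi28 ygi28 zgi55) (kgi xgi20 ygi4 zgi32) (kgi xgi17 ygi1 zgi52) (kgi xgi29 ygi55 zgi45) (kgi xgi32 ygi18 zgi31) (kgi xgi25 ygi53 zgi13)) (@D3.rec (fun _ => Pt) (kgi xgi17 ygi1 zgi53) (kgi xgi17 ygi1 zgi57) (kgi xgi29 ygi40 zgi22) (kgi xgi19 ygi32 zgi32) (kgi xgi24 ygi11 zgi36) (kgi xgi19 ygi13 zgi37) (kgi xgi22 ygi24 zgi12) (kgi xgi17 ygi1 zgi58) (kgi xgi24 ygi26 zgi7) (kgi xgi32 ygi18 zgi34) (kgi xgi32 ygi0 zgi27) (kgi xgi32 ygi18 zgi37) (kgi xgi32 ygi15 zgi29) (kgi xgi17 ygi1 zgi61) (kgi xgi24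 ygi19 zgi29) (kgi xgi29 ygi27 zgi48) (kgi xgi29 ygi53 zgi34) (kgi xgi24 ygi1 zgi6) (kgi xgi32 ygi18 zgi38) (kgi xgi20 ygi48 zgi51) (kgi xgi28 ygi35 zgi20) (kgi xgi22 ygi19 zgi13) (kgi xgi17 ygi2 zgi4) (kgi xgi21 ygi59 zgi56) (kgi xgi21 ygi59 zgi59) (kgi xgi20 ygi17 zgi54) (kgi xgi17 ygi4 zgi2) (kgi xgi17 ygi2 zgi12) (kgi xgi21 ygi1 zgi37) (kgi xgi17 ygi2 zgi19) (kgi xgi20 ygi38 zgi54) (kgi xgi28 ygi40 zgi30) (kgi xgi32 ygi18 zgi42) (kgi xgi20 ygi36 zgi40) (kgi xgi20 ygi1 zgi5) (kgi xgi21 ygi29 zgi4) (kgi xgi26 ygi27 zgi33) (kgi xgi26 ygi26 zgi45) (kgi xgi30 ygi12 zgi14) (kgi xgi24 ygi31 zgi28) (kgi xgi23 ygi18 zgi22) (kgi xgi24 ygi30 zgi60) (kgi xgi17 ygi3 zgi40) (kgi xgi17 ygi2 zgi52) (kgi xgi17 ygi2 zgi55) (kgi xgi19 ygi0 zgi1)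 (kgi xgi31 ygi38 zgi60) (kgi xgi24 ygi59 zgi12) (kgi xgi27 ygi57 zgi52) (kgi xgi29 ygi24 zgi11) (kgi xgi21 ygi5 zgi52) (kgi xgi21 ygi5 zgi50) (kgi xgi26 ygi57 zgi54) (kgi xgi20 ygi51 zgi53) (kgi xgi26 ygi57 zgi53) (kgi xgi21 ygi20 zgi58) (kgi xgi17 ygi15 zgi59) (kgi xgi20 ygi20 zgi12) (kgi xgi18 ygi23 zgi12) (kgi xgi17 ygi3 zgi23) (kgi xgi18 ygi21 zgi21) (kgi xgi26 ygi50 zgi37)) (@D3.rec (fun _ => Pt) (kgi xgi20 ygi34 zgi27) (kgi xgi31 ygi23 zgi32) (kgi xgi28 ygi34 zgi59) (kgi xgi17 ygi3 zgi36) (kgi xgi17 ygi3 zgi38) (kgi xgi22 ygi59 zgi46) (kgi xgi22 ygi32 zgi19) (kgi xgi18 ygi59 zgi18) (kgi xgi29 ygi0 zgi38) (kgi xgi29 ygi7 zgi24) (kgi xgi20 ygi35 zgi54) (kgi xgi28 ygi51 zgi43) (kgi xgi17 ygi3 zgi45) (kgi xgi30 ygi55 zgi44) (kgi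 xgi28 ygi24 zgi22) (kgi xgi23 ygi53 zgi31) (kgi xgi17 ygi3 zgi47) (kgi xgi30 ygi43 zgi39) (kgi xgi23 ygi41 zgi9) (kgi xgi28 ygi48 zgi6) (kgi xgi29 ygi21 zgi53) (kgi xgi28 ygi25 zgi12) (kgi xgi21 ygi32 zgi57) (kgi xgi21 ygi33 zgi21) (kgi xgi21 ygi6 zgi54) (kgi xgi18 ygi25 zgi41) (kgi xgi17 ygi4 zgi0) (kgi xgi27 ygi21 zgi12) (kgi xgi20 ygi22 zgi52) (kgi xgi25 ygi38 zgi9) (kgi xgi19 ygi54 zgi23) (kgi xgi23 ygi38 zgi31) (kgi xgi17 ygi4 zgi12) (kgi xgi31 ygi12 zgi56) (kgi xgi21 ygi54 zgi9) (kgi xgi17 ygi4 zgi16) (kgi xgi21 ygi40 zgi44) (kgi xgi28 ygi25 zgi20) (kgi xgi21 ygi40 zgi41) (kgi xgi17 ygi5 zgi58) (kgi xgi17 ygi5 zgi55) (kgi xgi21 ygi45 zgi32) (kgi xgi17 ygi4 zgi25) (kgi xgi26 ygi59 zgi44) (kgi xgi27 ygi36 zgi38) (kgi xgi18 ygi1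 zgi16) (kgi xgi25 ygi17 zgi28) (kgi xgi17 ygi4 zgi31) (kgi xgi29 ygi44 zgi58) (kgi xgi29 ygi14 zgi52) (kgi xgi26 ygi37 zgi22) (kgi xgi30 ygi30 zgi24) (kgi xgi29 ygi8 zgi8) (kgi xgi21 ygi1 zgi33) (kgi xgi17 ygi4 zgi49) (kgi xgi29 ygi42 zgi24) (kgi xgi17 ygi42 zgi0) (kgi xgi29 ygi42 zgi22) (kgi xgi21 ygi50 zgi26) (kgi xgi17 ygi4 zgi55) (kgi xgi17 ygi4 zgi57) (kgi xgi31 ygi38 zgi19)) (@D3.rec (fun _ => Pt) (kgi xgi26 ygi6 zgi12) (kgi xgi17 ygi5 zgi0) (kgi xgi21 ygi32 zgi14) (kgi xgi22 ygi3 zgi39) (kgi xgi20 ygi15 zgi40) (kgi xgi17 ygi59 zgi30) (kgi xgi26 ygi59 zgi20) (kgi xgi18 ygi25 zgi6) (kgi xgi17 ygi5 zgi27) (kgi xgi21 ygi50 zgi56) (kgi xgi21 ygi50 zgi19) (kgi xgi18 ygi13 zgi38) (kgi xgi27 ygi37 zgi51) (kgi xgi20 ygi53 zgi54) (kgi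 xgi30 ygi7 zgi40) (kgi xgi25 ygi16 zgi35) (kgi xgi31 ygi11 zgi28) (kgi xgi29 ygi13 zgi43) (kgi xgi20 ygi42 zgi17) (kgi xgi18 ygi24 zgi25) (kgi xgi19 ygi15 zgi2) (kgi xgi26 ygi39 zgi48) (kgi xgi21 ygi59 zgi23) (kgi xgi29 ygi58 zgi58) (kgi xgi32 ygi10 zgi32) (kgi xgi32 ygi3 zgi35) (kgi xgi32 ygi4 zgi46) (kgi xgi25 ygi17 zgi34) (kgi xgi20 ygi16 zgi53) (kgi xgi17 ygi5 zgi61) (kgi xgi21 ygi40 zgi37) (kgi xgi17 ygi6 zgi27) (kgi xgi17 ygi6 zgi45) (kgi xgi17 ygi6 zgi9) (kgi xgi31 ygi26 zgi14) (kgi xgi21 ygi48 zgi8) (kgi xgi25 ygi16 zgi47) (kgi xgi25 ygi44 zgi53) (kgi xgi27 ygi35 zgi29) (kgi xgi19 ygi19 zgi27) (kgi xgi17 ygi6 zgi14) (kgi xgi24 ygi18 zgi2) (kgi xgi21 ygi21 zgi28) (kgi xgi26 ygi58 zgi43) (kgi xgi26 ygi41 zgi11) (kgi xgi26 ygi35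 zgi61) (kgi xgi23 ygi46 zgi0) (kgi xgi19 ygi48 zgi53) (kgi xgi20 ygi52 zgi38) (kgi xgi24 ygi25 zgi17) (kgi xgi26 ygi38 zgi60) (kgi xgi18 ygi48 zgi41) (kgi xgi26 ygi50 zgi50) (kgi xgi31 ygi33 zgi18) (kgi xgi17 ygi6 zgi44) (kgi xgi20 ygi59 zgi21) (kgi xgi21 ygi9 zgi42) (kgi xgi29 ygi45 zgi4) (kgi xgi23 ygi22 zgi6) (kgi xgi18 ygi0 zgi36) (kgi xgi30 ygi30 zgi22) (kgi xgi22 ygi20 zgi9))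
def fi_g_27 : D2 → D3 → Pt := @D2.rec (fun _ => D3 → Pt) (@D3.rec (fun _ => Pt) (kgi xgi17 ygi6 zgi52) (kgi xgi20 ygi36 zgi45) (kgi xgi20 ygi37 zgi26) (kgi xgi22 ygi1 zgi38) (kgi xgi17 ygi28 zgi50) (kgi xgi20 ygi57 zgi51) (kgi xgi17 ygi6 zgi55) (kgi xgi20 ygi38 zgi48) (kgi xgi20 ygi39 zgi44) (kgi xgi20 ygi39 zgi4) (kgi xgi20 ygi39 zgi2) (kgi xgi17 ygi6 zgi60) (kgi xgi20 ygi57 zgi23) (kgi xgi29 ygi31 zgi33) (kgi xgi32 ygi18 zgi59) (kgi xgi32 ygi18 zgi60) (kgi xgi17 ygi7 zgi0) (kgi xgi26 ygi38 zgi25) (kgi xgi28 ygi39 zgi56) (kgi xgi26 ygi40 zgi41) (kgi xgi17 ygi7 zgi7) (kgi xgi26 ygi37 zgi59) (kgi xgi17 ygi7 zgi5) (kgi xgi24 ygi3 zgi23) (kgi xgi30 ygi30 zgi55) (kgi xgi32 ygi19 zgi7) (kgi xgi31 ygi33 zgi1) (kgi xgi29 ygi33 zgi7) (kgi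 xgi20 ygi57 zgi8) (kgi xgi20 ygi57 zgi10) (kgi xgi32 ygi19 zgi11) (kgi xgi29 ygi27 zgi54) (kgi xgi29 ygi43 zgi20) (kgi xgi17 ygi7 zgi12) (kgi xgi29 ygi43 zgi16) (kgi xgi32 ygi19 zgi14) (kgi xgi30 ygi14 zgi55) (kgi xgi29 ygi49 zgi3) (kgi xgi31 ygi53 zgi38) (kgi xgi28 ygi39 zgi26) (kgi xgi32 ygi19 zgi20) (kgi xgi17 ygi7 zgi16) (kgi xgi30 ygi29 zgi27) (kgi xgi29 ygi45 zgi31) (kgi xgi20 ygi24 zgi26) (kgi xgi21 ygi42 zgi30) (kgi xgi20 ygi24 zgi0) (kgi xgi21 ygi42 zgi33) (kgi xgi18 ygi48 zgi22) (kgi xgi19 ygi48 zgi41) (kgi xgi20 ygi38 zgi17) (kgi xgi17 ygi53 zgi43) (kgi xgi17 ygi32 zgi23) (kgi xgi20 ygi52 zgi20) (kgi xgi20 ygi18 zgi60) (kgi xgi20 ygi52 zgi11) (kgi xgi26 ygi32 zgi49) (kgi xgi20 ygi36 zgi25) (kgi xgi17 ygi50 zgi33) (kgi xgi29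 ygi32 zgi46) (kgi xgi21 ygi13 zgi37) (kgi xgi29 ygi20 zgi4)) (@D3.rec (fun _ => Pt) (kgi xgi26 ygi30 zgi4) (kgi xgi20 ygi20 zgi35) (kgi xgi17 ygi8 zgi39) (kgi xgi29 ygi6 zgi12) (kgi xgi27 ygi40 zgi46) (kgi xgi27 ygi9 zgi21) (kgi xgi26 ygi46 zgi45) (kgi xgi28 ygi36 zgi58) (kgi xgi27 ygi37 zgi6) (kgi xgi17 ygi8 zgi59) (kgi xgi31 ygi46 zgi44) (kgi xgi27 ygi35 zgi57) (kgi xgi17 ygi9 zgi3) (kgi xgi28 ygi32 zgi20) (kgi xgi20 ygi13 zgi35) (kgi xgi23 ygi16 zgi43) (kgi xgi31 ygi0 zgi54) (kgi xgi20 ygi32 zgi22) (kgi xgi29 ygi29 zgi52) (kgi xgi24 ygi31 zgi14) (kgi xgi26 ygi14 zgi58) (kgi xgi27 ygi50 zgi32) (kgi xgi28 ygi12 zgi26) (kgi xgi23 ygi35 zgi37) (kgi xgi18 ygi42 zgi28) (kgi xgi21 ygi40 zgi35) (kgi xgi31 ygi57 zgi59) (kgi xgi28 ygi12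 zgi24) (kgi xgi24 ygi44 zgi58) (kgi xgi23 ygi54 zgi14) (kgi xgi17 ygi9 zgi55) (kgi xgi18 ygi50 zgi37) (kgi xgi21 ygi41 zgi39) (kgi xgi31 ygi28 zgi11) (kgi xgi27 ygi18 zgi49) (kgi xgi32 ygi2 zgi34) (kgi xgi27 ygi46 zgi61) (kgi xgi29 ygi4 zgi56) (kgi xgi17 ygi35 zgi26) (kgi xgi17 ygi44 zgi8) (kgi xgi17 ygi27 zgi45) (kgi xgi25 ygi35 zgi34) (kgi xgi17 ygi44 zgi3) (kgi xgi30 ygi19 zgi33) (kgi xgi27 ygi17 zgi45) (kgi xgi17 ygi10 zgi18) (kgi xgi29 ygi56 zgi39) (kgi xgi23 ygi41 zgi30) (kgi xgi17 ygi27 zgi56) (kgi xgi29 ygi55 zgi61) (kgi xgi27 ygi17 zgi56) (kgi xgi17 ygi10 zgi27) (kgi xgi27 ygi17 zgi55) (kgi xgi31 ygi4 zgi20) (kgi xgi31 ygi46 zgi5) (kgi xgi30 ygi9 zgi32) (kgi xgi22 ygi13 zgi6) (kgi xgi27 ygi6 zgi23) (kgi xgi32 ygi1 zgi53)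 (kgi xgi29 ygi30 zgi44) (kgi xgi24 ygi18 zgi39) (kgi xgi25 ygi53 zgi15)) (@D3.rec (fun _ => Pt) (kgi xgi17 ygi11 zgi3) (kgi xgi24 ygi10 zgi30) (kgi xgi31 ygi56 zgi26) (kgi xgi17 ygi11 zgi42) (kgi xgi17 ygi11 zgi41) (kgi xgi27 ygi52 zgi56) (kgi xgi28 ygi21 zgi55) (kgi xgi31 ygi58 zgi55) (kgi xgi17 ygi10 zgi49) (kgi xgi29 ygi18 zgi21) (kgi xgi17 ygi10 zgi50) (kgi xgi17 ygi18 zgi60) (kgi xgi32 ygi19 zgi26) (kgi xgi17 ygi18 zgi57) (kgi xgi32 ygi19 zgi28) (kgi xgi30 ygi39 zgi22) (kgi xgi27 ygi9 zgi44) (kgi xgi30 ygi28 zgi48) (kgi xgi27 ygi16 zgi7) (kgi xgi26 ygi50 zgi12) (kgi xgi29 ygi19 zgi37) (kgi xgi28 ygi16 zgi30) (kgi xgi17 ygi11 zgi7) (kgi xgi17 ygi24 zgi31) (kgi xgi27 ygi8 zgi53) (kgi xgi17 ygi24 zgi28) (kgi xgi21 ygi40 zgi4) (kgi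 xgi26 ygi43 zgi2) (kgi xgi24 ygi10 zgi59) (kgi xgi22 ygi13 zgi9) (kgi xgi22 ygi16 zgi39) (kgi xgi20 ygi27 zgi37) (kgi xgi17 ygi11 zgi20) (kgi xgi23 ygi19 zgi9) (kgi xgi28 ygi21 zgi19) (kgi xgi30 ygi27 zgi55) (kgi xgi22 ygi16 zgi41) (kgi xgi19 ygi7 zgi0) (kgi xgi24 ygi15 zgi1) (kgi xgi22 ygi3 zgi61) (kgi xgi18 ygi48 zgi54) (kgi xgi17 ygi11 zgi32) (kgi xgi28 ygi56 zgi38) (kgi xgi28 ygi53 zgi34) (kgi xgi23 ygi46 zgi35) (kgi xgi17 ygi11 zgi54) (kgi xgi27 ygi59 zgi49) (kgi xgi17 ygi11 zgi43) (kgi xgi18 ygi31 zgi25) (kgi xgi29 ygi52 zgi43) (kgi xgi17 ygi11 zgi44) (kgi xgi24 ygi10 zgi28) (kgi xgi28 ygi13 zgi39) (kgi xgi27 ygi8 zgi0) (kgi xgi31 ygi53 zgi51) (kgi xgi25 ygi43 zgi35) (kgi xgi30 ygi47 zgi8) (kgi xgi22 ygi24 zgi44) (kgi xgi21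 ygi45 zgi4) (kgi xgi24 ygi6 zgi51) (kgi xgi31 ygi45 zgi52) (kgi xgi22 ygi7 zgi10)) (@D3.rec (fun _ => Pt) (kgi xgi28 ygi52 zgi1) (kgi xgi29 ygi37 zgi34) (kgi xgi28 ygi34 zgi11) (kgi xgi30 ygi18 zgi47) (kgi xgi30 ygi18 zgi46) (kgi xgi30 ygi48 zgi17) (kgi xgi17 ygi11 zgi61) (kgi xgi31 ygi53 zgi23) (kgi xgi26 ygi45 zgi11) (kgi xgi28 ygi24 zgi4) (kgi xgi31 ygi58 zgi52) (kgi xgi17 ygi26 zgi21) (kgi xgi17 ygi12 zgi3) (kgi xgi27 ygi59 zgi58) (kgi xgi32 ygi19 zgi22) (kgi xgi31 ygi48 zgi40) (kgi xgi23 ygi23 zgi5) (kgi xgi20 ygi40 zgi18) (kgi xgi20 ygi40 zgi53) (kgi xgi29 ygi40 zgi46) (kgi xgi17 ygi15 zgi44) (kgi xgi23 ygi29 zgi45) (kgi xgi23 ygi38 zgi26) (kgi xgi28 ygi0 zgi38) (kgi xgi20 ygi12 zgi17) (kgi xgi20 ygi37 zgi34) (kgi xgi20 ygi13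 zgi44) (kgi xgi28 ygi32 zgi10) (kgi xgi28 ygi25 zgi32) (kgi xgi17 ygi12 zgi45) (kgi xgi29 ygi50 zgi0) (kgi xgi20 ygi1 zgi21) (kgi xgi26 ygi26 zgi38) (kgi xgi17 ygi12 zgi50) (kgi xgi18 ygi40 zgi48) (kgi xgi23 ygi14 zgi24) (kgi xgi23 ygi31 zgi23) (kgi xgi29 ygi31 zgi45) (kgi xgi19 ygi48 zgi57) (kgi xgi23 ygi29 zgi1) (kgi xgi17 ygi13 zgi32) (kgi xgi26 ygi11 zgi2) (kgi xgi29 ygi46 zgi42) (kgi xgi18 ygi56 zgi60) (kgi xgi21 ygi26 zgi47) (kgi xgi24 ygi44 zgi42) (kgi xgi17 ygi42 zgi31) (kgi xgi24 ygi43 zgi43) (kgi xgi23 ygi39 zgi46) (kgi xgi23 ygi31 zgi55) (kgi xgi22 ygi10 zgi50) (kgi xgi17 ygi13 zgi33) (kgi xgi29 ygi51 zgi47) (kgi xgi29 ygi57 zgi58) (kgi xgi21 ygi23 zgi42) (kgi xgi26 ygi10 zgi59) (kgi xgi21 ygi31 zgi14) (kgi xgi24 ygi40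 zgi58) (kgi xgi17 ygi13 zgi41) (kgi xgi18 ygi8 zgi16) (kgi xgi25 ygi32 zgi46) (kgi xgi26 ygi11 zgi38)) (@D3.rec (fun _ => Pt) (kgi xgi30 ygi11 zgi6) (kgi xgi21 ygi57 zgi18) (kgi xgi17 ygi13 zgi48) (kgi xgi22 ygi3 zgi14) (kgi xgi27 ygi27 zgi23) (kgi xgi17 ygi13 zgi51) (kgi xgi21 ygi22 zgi21) (kgi xgi21 ygi22 zgi19) (kgi xgi30 ygi14 zgi34) (kgi xgi25 ygi37 zgi41) (kgi xgi20 ygi40 zgi0) (kgi xgi25 ygi37 zgi43) (kgi xgi17 ygi14 zgi1) (kgi xgi27 ygi23 zgi35) (kgi xgi31 ygi41 zgi19) (kgi xgi30 ygi10 zgi7) (kgi xgi21 ygi18 zgi0) (kgi xgi23 ygi23 zgi32) (kgi xgi17 ygi14 zgi2) (kgi xgi17 ygi14 zgi6) (kgi xgi27 ygi31 zgi35) (kgi xgi17 ygi14 zgi3) (kgi xgi17 ygi43 zgi46) (kgi xgi23 ygi44 zgi36) (kgi xgi21 ygi25 zgi29) (kgi xgi17 ygi14 zgi13)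 (kgi xgi21 ygi24 zgi20) (kgi xgi21 ygi24 zgi18) (kgi xgi18 ygi5 zgi29) (kgi xgi25 ygi44 zgi6) (kgi xgi30 ygi8 zgi59) (kgi xgi21 ygi19 zgi20) (kgi xgi30 ygi8 zgi54) (kgi xgi23 ygi44 zgi27) (kgi xgi29 ygi58 zgi19) (kgi xgi28 ygi3 zgi52) (kgi xgi17 ygi14 zgi19) (kgi xgi30 ygi0 zgi45) (kgi xgi31 ygi6 zgi49) (kgi xgi30 ygi0 zgi42) (kgi xgi21 ygi6 zgi33) (kgi xgi32 ygi19 zgi53) (kgi xgi27 ygi24 zgi31) (kgi xgi25 ygi42 zgi6) (kgi xgi25 ygi42 zgi61) (kgi xgi21 ygi26 zgi48) (kgi xgi21 ygi26 zgi52) (kgi xgi26 ygi10 zgi61) (kgi xgi21 ygi25 zgi46) (kgi xgi30 ygi1 zgi20) (kgi xgi27 ygi23 zgi7) (kgi xgi17 ygi14 zgi41) (kgi xgi21 ygi27 zgi3) (kgi xgi21 ygi27 zgi1) (kgi xgi25 ygi44 zgi3) (kgi xgi21 ygi27 zgi6) (kgi xgi25 ygi36 zgi59) (kgi xgi27 ygi23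 zgi39) (kgi xgi23 ygi40 zgi50) (kgi xgi29 ygi32 zgi39) (kgi xgi25 ygi22 zgi57) (kgi xgi17 ygi14 zgi48)) (@D3.rec (fun _ => Pt) (kgi xgi31 ygi47 zgi42) (kgi xgi29 ygi4 zgi51) (kgi xgi25 ygi56 zgi8) (kgi xgi25 ygi6 zgi23) (kgi xgi20 ygi32 zgi53) (kgi xgi17 ygi15 zgi6) (kgi xgi24 ygi30 zgi18) (kgi xgi17 ygi15 zgi3) (kgi xgi20 ygi31 zgi15) (kgi xgi23 ygi46 zgi2) (kgi xgi28 ygi15 zgi8) (kgi xgi17 ygi15 zgi5) (kgi xgi24 ygi30 zgi20) (kgi xgi18 ygi19 zgi44) (kgi xgi17 ygi15 zgi8) (kgi xgi22 ygi19 zgi17) (kgi xgi26 ygi28 zgi40) (kgi xgi26 ygi51 zgi34) (kgi xgi26 ygi28 zgi4) (kgi xgi26 ygi56 zgi11) (kgi xgi22 ygi40 zgi44) (kgi xgi28 ygi13 zgi37) (kgi xgi17 ygi15 zgi22) (kgi xgi24 ygi53 zgi3) (kgi xgi26 ygi8 zgi38) (kgi xgi22 ygi51 zgi52) (kgi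 xgi32 ygi10 zgi17) (kgi xgi23 ygi14 zgi53) (kgi xgi19 ygi2 zgi27) (kgi xgi18 ygi30 zgi33) (kgi xgi25 ygi11 zgi45) (kgi xgi29 ygi24 zgi2) (kgi xgi29 ygi24 zgi16) (kgi xgi17 ygi15 zgi35) (kgi xgi25 ygi16 zgi27) (kgi xgi21 ygi15 zgi39) (kgi xgi28 ygi24 zgi34) (kgi xgi20 ygi1 zgi13) (kgi xgi17 ygi15 zgi40) (kgi xgi28 ygi13 zgi1) (kgi xgi21 ygi15 zgi28) (kgi xgi24 ygi28 zgi1) (kgi xgi21 ygi20 zgi39) (kgi xgi18 ygi14 zgi0) (kgi xgi30 ygi17 zgi2) (kgi xgi17 ygi16 zgi5) (kgi xgi21 ygi31 zgi56) (kgi xgi21 ygi31 zgi54) (kgi xgi17 ygi36 zgi38) (kgi xgi18 ygi7 zgi56) (kgi xgi29 ygi23 zgi28) (kgi xgi21 ygi42 zgi13) (kgi xgi30 ygi17 zgi11) (kgi xgi21 ygi33 zgi2) (kgi xgi21 ygi28 zgi29) (kgi xgi30 ygi7 zgi4) (kgi xgi32 ygi15 zgi51) (kgi xgi17 ygi16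 zgi17) (kgi xgi20 ygi19 zgi23) (kgi xgi26 ygi6 zgi6) (kgi xgi19 ygi51 zgi50) (kgi xgi31 ygi55 zgi14)) (@D3.rec (fun _ => Pt) (kgi xgi17 ygi16 zgi23) (kgi xgi26 ygi5 zgi36) (kgi xgi25 ygi21 zgi3) (kgi xgi20 ygi15 zgi5) (kgi xgi17 ygi16 zgi30) (kgi xgi27 ygi38 zgi35) (kgi xgi27 ygi34 zgi50) (kgi xgi30 ygi54 zgi12) (kgi xgi27 ygi59 zgi50) (kgi xgi18 ygi56 zgi3) (kgi xgi17 ygi16 zgi47) (kgi xgi32 ygi20 zgi0) (kgi xgi26 ygi42 zgi2) (kgi xgi31 ygi27 zgi33) (kgi xgi17 ygi16 zgi53) (kgi xgi21 ygi39 zgi35) (kgi xgi21 ygi39 zgi33) (kgi xgi31 ygi35 zgi40) (kgi xgi19 ygi35 zgi40) (kgi xgi31 ygi45 zgi40) (kgi xgi29 ygi4 zgi44) (kgi xgi25 ygi31 zgi35) (kgi xgi31 ygi45 zgi41) (kgi xgi27 ygi1 zgi60) (kgi xgi23 ygi54 zgi19) (kgi xgi32 ygi20 zgi5)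 (kgi xgi27 ygi10 zgi17) (kgi xgi28 ygi13 zgi56) (kgi xgi28 ygi35 zgi54) (kgi xgi17 ygi17 zgi4) (kgi xgi31 ygi18 zgi8) (kgi xgi32 ygi20 zgi10) (kgi xgi23 ygi7 zgi2) (kgi xgi17 ygi21 zgi29) (kgi xgi20 ygi46 zgi25) (kgi xgi20 ygi43 zgi15) (kgi xgi24 ygi14 zgi33) (kgi xgi17 ygi22 zgi47) (kgi xgi17 ygi17 zgi17) (kgi xgi21 ygi46 zgi21) (kgi xgi27 ygi11 zgi1) (kgi xgi18 ygi55 zgi35) (kgi xgi28 ygi53 zgi2) (kgi xgi31 ygi31 zgi55) (kgi xgi30 ygi21 zgi51) (kgi xgi27 ygi10 zgi19) (kgi xgi23 ygi46 zgi31) (kgi xgi27 ygi59 zgi4) (kgi xgi23 ygi48 zgi60) (kgi xgi27 ygi8 zgi46) (kgi xgi27 ygi8 zgi51) (kgi xgi23 ygi48 zgi58) (kgi xgi20 ygi42 zgi42) (kgi xgi17 ygi17 zgi29) (kgi xgi30 ygi5 zgi8) (kgi xgi30 ygi5 zgi6) (kgi xgi27 ygi8 zgi48) (kgi xgi30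 ygi5 zgi56) (kgi xgi28 ygi2 zgi46) (kgi xgi23 ygi48 zgi49) (kgi xgi19 ygi30 zgi42) (kgi xgi22 ygi13 zgi36)) (@D3.rec (fun _ => Pt) (kgi xgi19 ygi29 zgi43) (kgi xgi30 ygi19 zgi14) (kgi xgi17 ygi17 zgi36) (kgi xgi29 ygi9 zgi24) (kgi xgi32 ygi19 zgi27) (kgi xgi32 ygi20 zgi29) (kgi xgi19 ygi30 zgi25) (kgi xgi32 ygi20 zgi32) (kgi xgi32 ygi20 zgi27) (kgi xgi17 ygi17 zgi39) (kgi xgi32 ygi19 zgi30) (kgi xgi32 ygi19 zgi29) (kgi xgi27 ygi7 zgi61) (kgi xgi21 ygi35 zgi26) (kgi xgi27 ygi16 zgi58) (kgi xgi32 ygi20 zgi23) (kgi xgi17 ygi17 zgi42) (kgi xgi30 ygi38 zgi48) (kgi xgi28 ygi25 zgi5) (kgi xgi21 ygi40 zgi7) (kgi xgi17 ygi17 zgi44) (kgi xgi20 ygi43 zgi14) (kgi xgi31 ygi16 zgi16) (kgi xgi32 ygi20 zgi49) (kgi xgi17 ygi17 zgi45) (kgi xgi32 ygi20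 zgi51) (kgi xgi28 ygi16 zgi47) (kgi xgi21 ygi38 zgi39) (kgi xgi18 ygi0 zgi17) (kgi xgi22 ygi23 zgi38) (kgi xgi17 ygi17 zgi54) (kgi xgi20 ygi44 zgi18) (kgi xgi32 ygi20 zgi58) (kgi xgi29 ygi34 zgi25) (kgi xgi17 ygi17 zgi57) (kgi xgi32 ygi20 zgi61) (kgi xgi22 ygi0 zgi12) (kgi xgi25 ygi57 zgi48) (kgi xgi29 ygi9 zgi16) (kgi xgi22 ygi1 zgi48) (kgi xgi30 ygi55 zgi4) (kgi xgi17 ygi18 zgi0) (kgi xgi22 ygi0 zgi23) (kgi xgi29 ygi5 zgi43) (kgi xgi31 ygi49 zgi5) (kgi xgi21 ygi6 zgi16) (kgi xgi21 ygi27 zgi20) (kgi xgi25 ygi57 zgi51) (kgi xgi28 ygi41 zgi9) (kgi xgi30 ygi1 zgi29) (kgi xgi25 ygi53 zgi36) (kgi xgi27 ygi18 zgi39) (kgi xgi17 ygi18 zgi4) (kgi xgi27 ygi18 zgi41) (kgi xgi32 ygi21 zgi11) (kgi xgi31 ygi22 zgi6) (kgi xgi17 ygi18 zgi5) (kgi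 xgi17 ygi28 zgi23) (kgi xgi29 ygi50 zgi18) (kgi xgi27 ygi12 zgi1) (kgi xgi27 ygi7 zgi12) (kgi xgi18 ygi23 zgi11)) (@D3.rec (fun _ => Pt) (kgi xgi27 ygi2 zgi46) (kgi xgi17 ygi18 zgi16) (kgi xgi29 ygi24 zgi30) (kgi xgi28 ygi45 zgi3) (kgi xgi32 ygi20 zgi54) (kgi xgi18 ygi48 zgi14) (kgi xgi20 ygi41 zgi0) (kgi xgi23 ygi49 zgi31) (kgi xgi28 ygi44 zgi19) (kgi xgi18 ygi27 zgi54) (kgi xgi17 ygi18 zgi27) (kgi xgi27 ygi18 zgi50) (kgi xgi29 ygi33 zgi38) (kgi xgi30 ygi34 zgi38) (kgi xgi30 ygi28 zgi38) (kgi xgi32 ygi9 zgi55) (kgi xgi27 ygi5 zgi10) (kgi xgi17 ygi18 zgi34) (kgi xgi29 ygi28 zgi58) (kgi xgi22 ygi39 zgi39) (kgi xgi29 ygi28 zgi56) (kgi xgi17 ygi18 zgi37) (kgi xgi29 ygi30 zgi21) (kgi xgi27 ygi6 zgi11) (kgi xgi21 ygi38 zgi46) (kgi xgi32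 ygi21 zgi16) (kgi xgi32 ygi21 zgi19) (kgi xgi20 ygi41 zgi10) (kgi xgi31 ygi24 zgi12) (kgi xgi32 ygi20 zgi26) (kgi xgi30 ygi20 zgi42) (kgi xgi32 ygi15 zgi1) (kgi xgi17 ygi18 zgi44) (kgi xgi22 ygi25 zgi47) (kgi xgi30 ygi34 zgi10) (kgi xgi23 ygi27 zgi42) (kgi xgi17 ygi18 zgi46) (kgi xgi22 ygi1 zgi4) (kgi xgi27 ygi14 zgi44) (kgi xgi22 ygi1 zgi2) (kgi xgi19 ygi51 zgi19) (kgi xgi27 ygi9 zgi56) (kgi xgi24 ygi1 zgi48) (kgi xgi30 ygi39 zgi5) (kgi xgi17 ygi18 zgi53) (kgi xgi17 ygi18 zgi55) (kgi xgi27 ygi6 zgi56) (kgi xgi29 ygi27 zgi1) (kgi xgi27 ygi6 zgi49) (kgi xgi19 ygi45 zgi37) (kgi xgi23 ygi48 zgi33) (kgi xgi27 ygi2 zgi24) (kgi xgi29 ygi2 zgi0) (kgi xgi27 ygi6 zgi50) (kgi xgi17 ygi18 zgi59) (kgi xgi31 ygi13 zgi11) (kgi xgi30 ygi5 zgi55)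 (kgi xgi22 ygi50 zgi39) (kgi xgi32 ygi19 zgi25) (kgi xgi17 ygi18 zgi61) (kgi xgi30 ygi5 zgi5) (kgi xgi32 ygi20 zgi9)) (@D3.rec (fun _ => Pt) (kgi xgi32 ygi15 zgi37) (kgi xgi24 ygi53 zgi17) (kgi xgi20 ygi27 zgi1) (kgi xgi24 ygi14 zgi26) (kgi xgi27 ygi8 zgi23) (kgi xgi17 ygi19 zgi22) (kgi xgi28 ygi37 zgi34) (kgi xgi23 ygi49 zgi6) (kgi xgi22 ygi34 zgi16) (kgi xgi28 ygi58 zgi11) (kgi xgi21 ygi36 zgi57) (kgi xgi17 ygi26 zgi0) (kgi xgi31 ygi29 zgi14) (kgi xgi27 ygi42 zgi14) (kgi xgi22 ygi34 zgi27) (kgi xgi27 ygi59 zgi52) (kgi xgi17 ygi19 zgi38) (kgi xgi30 ygi3 zgi24) (kgi xgi17 ygi19 zgi49) (kgi xgi21 ygi10 zgi8) (kgi xgi24 ygi14 zgi28) (kgi xgi17 ygi51 zgi2) (kgi xgi21 ygi39 zgi8) (kgi xgi17 ygi19 zgi50) (kgi xgi17 ygi19 zgi61) (kgi xgi30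 ygi27 zgi36) (kgi xgi17 ygi19 zgi58) (kgi xgi29 ygi32 zgi4) (kgi xgi17 ygi20 zgi6) (kgi xgi32 ygi19 zgi35) (kgi xgi17 ygi24 zgi24) (kgi xgi21 ygi28 zgi50) (kgi xgi28 ygi14 zgi32) (kgi xgi19 ygi59 zgi49) (kgi xgi31 ygi36 zgi38) (kgi xgi23 ygi1 zgi39) (kgi xgi26 ygi17 zgi39) (kgi xgi24 ygi12 zgi56) (kgi xgi21 ygi54 zgi32) (kgi xgi31 ygi23 zgi15) (kgi xgi20 ygi35 zgi4) (kgi xgi19 ygi52 zgi56) (kgi xgi31 ygi19 zgi17) (kgi xgi32 ygi18 zgi43) (kgi xgi27 ygi7 zgi18) (kgi xgi28 ygi35 zgi48) (kgi xgi26 ygi27 zgi52) (kgi xgi26 ygi39 zgi24) (kgi xgi26 ygi20 zgi15) (kgi xgi17 ygi20 zgi8) (kgi xgi23 ygi10 zgi30) (kgi xgi20 ygi1 zgi2) (kgi xgi24 ygi25 zgi32) (kgi xgi25 ygi48 zgi20) (kgi xgi24 ygi9 zgi13) (kgi xgi27 ygi8 zgi41) (kgi xgi32 ygi1 zgi56)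 (kgi xgi31 ygi34 zgi51) (kgi xgi17 ygi25 zgi13) (kgi xgi17 ygi20 zgi23) (kgi xgi28 ygi22 zgi52) (kgi xgi30 ygi44 zgi17)) (@D3.rec (fun _ => Pt) (kgi xgi29 ygi42 zgi15) (kgi xgi30 ygi46 zgi6) (kgi xgi27 ygi16 zgi56) (kgi xgi17 ygi20 zgi22) (kgi xgi17 ygi25 zgi53) (kgi xgi17 ygi25 zgi50) (kgi xgi29 ygi38 zgi23) (kgi xgi22 ygi35 zgi52) (kgi xgi28 ygi22 zgi37) (kgi xgi28 ygi19 zgi36) (kgi xgi17 ygi20 zgi27) (kgi xgi17 ygi26 zgi5) (kgi xgi17 ygi20 zgi29) (kgi xgi30 ygi43 zgi40) (kgi xgi21 ygi44 zgi8) (kgi xgi17 ygi26 zgi49) (kgi xgi32 ygi21 zgi41) (kgi xgi27 ygi6 zgi27) (kgi xgi17 ygi20 zgi35) (kgi xgi28 ygi52 zgi60) (kgi xgi20 ygi27 zgi41) (kgi xgi18 ygi3 zgi29) (kgi xgi26 ygi15 zgi10) (kgi xgi30 ygi4 zgi24) (kgi xgi20 ygi46 zgi16) (kgi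 xgi24 ygi21 zgi24) (kgi xgi17 ygi21 zgi48) (kgi xgi20 ygi39 zgi19) (kgi xgi20 ygi38 zgi58) (kgi xgi23 ygi7 zgi7) (kgi xgi20 ygi46 zgi6) (kgi xgi25 ygi18 zgi28) (kgi xgi27 ygi15 zgi34) (kgi xgi17 ygi20 zgi55) (kgi xgi20 ygi47 zgi50) (kgi xgi22 ygi0 zgi58) (kgi xgi22 ygi11 zgi61) (kgi xgi25 ygi18 zgi47) (kgi xgi21 ygi39 zgi61) (kgi xgi24 ygi28 zgi7) (kgi xgi20 ygi31 zgi53) (kgi xgi17 ygi31 zgi15) (kgi xgi21 ygi45 zgi25) (kgi xgi30 ygi5 zgi61) (kgi xgi19 ygi52 zgi13) (kgi xgi22 ygi33 zgi31) (kgi xgi17 ygi31 zgi17) (kgi xgi19 ygi41 zgi27) (kgi xgi29 ygi8 zgi15) (kgi xgi17 ygi21 zgi13) (kgi xgi19 ygi52 zgi2) (kgi xgi25 ygi8 zgi11) (kgi xgi27 ygi8 zgi10) (kgi xgi18 ygi48 zgi56) (kgi xgi20 ygi45 zgi59) (kgi xgi31 ygi17 zgi4) (kgi xgi21 ygi16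 zgi44) (kgi xgi29 ygi46 zgi31) (kgi xgi30 ygi56 zgi51) (kgi xgi21 ygi23 zgi38) (kgi xgi26 ygi16 zgi56) (kgi xgi21 ygi43 zgi5)) (@D3.rec (fun _ => Pt) (kgi xgi21 ygi17 zgi2) (kgi xgi17 ygi21 zgi38) (kgi xgi27 ygi6 zgi40) (kgi xgi17 ygi21 zgi39) (kgi xgi17 ygi21 zgi40) (kgi xgi27 ygi23 zgi31) (kgi xgi25 ygi29 zgi15) (kgi xgi27 ygi6 zgi12) (kgi xgi25 ygi53 zgi61) (kgi xgi17 ygi21 zgi43) (kgi xgi29 ygi26 zgi34) (kgi xgi29 ygi55 zgi57) (kgi xgi23 ygi49 zgi60) (kgi xgi17 ygi52 zgi25) (kgi xgi27 ygi22 zgi12) (kgi xgi24 ygi6 zgi18) (kgi xgi30 ygi52 zgi61) (kgi xgi18 ygi34 zgi41) (kgi xgi18 ygi21 zgi1) (kgi xgi31 ygi19 zgi12) (kgi xgi17 ygi22 zgi4) (kgi xgi21 ygi39 zgi19) (kgi xgi21 ygi39 zgi17) (kgi xgi17 ygi22 zgi7) (kgi xgi25 ygi56 zgi27)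 (kgi xgi30 ygi6 zgi25) (kgi xgi25 ygi12 zgi9) (kgi xgi21 ygi17 zgi0) (kgi xgi17 ygi22 zgi10) (kgi xgi25 ygi27 zgi24) (kgi xgi20 ygi3 zgi57) (kgi xgi17 ygi22 zgi13) (kgi xgi28 ygi25 zgi2) (kgi xgi19 ygi38 zgi54) (kgi xgi17 ygi22 zgi17) (kgi xgi21 ygi33 zgi5) (kgi xgi29 ygi56 zgi21) (kgi xgi25 ygi25 zgi48) (kgi xgi22 ygi11 zgi34) (kgi xgi30 ygi14 zgi11) (kgi xgi27 ygi13 zgi60) (kgi xgi30 ygi11 zgi38) (kgi xgi17 ygi22 zgi24) (kgi xgi32 ygi21 zgi50) (kgi xgi17 ygi26 zgi30) (kgi xgi26 ygi26 zgi32) (kgi xgi17 ygi22 zgi38) (kgi xgi24 ygi10 zgi27) (kgi xgi30 ygi8 zgi37) (kgi xgi21 ygi39 zgi58) (kgi xgi22 ygi21 zgi31) (kgi xgi26 ygi52 zgi44) (kgi xgi17 ygi22 zgi37) (kgi xgi29 ygi26 zgi40) (kgi xgi29 ygi26 zgi39) (kgi xgi23 ygi42 zgi27) (kgi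 xgi22 ygi46 zgi28) (kgi xgi23 ygi56 zgi42) (kgi xgi17 ygi22 zgi42) (kgi xgi30 ygi14 zgi16) (kgi xgi17 ygi22 zgi43) (kgi xgi31 ygi20 zgi31)) (@D3.rec (fun _ => Pt) (kgi xgi19 ygi42 zgi24) (kgi xgi21 ygi38 zgi27) (kgi xgi29 ygi7 zgi55) (kgi xgi31 ygi17 zgi5) (kgi xgi18 ygi42 zgi8) (kgi xgi20 ygi58 zgi35) (kgi xgi17 ygi22 zgi51) (kgi xgi24 ygi50 zgi55) (kgi xgi31 ygi41 zgi53) (kgi xgi28 ygi51 zgi20) (kgi xgi32 ygi21 zgi54) (kgi xgi17 ygi25 zgi9) (kgi xgi21 ygi40 zgi29) (kgi xgi20 ygi28 zgi9) (kgi xgi17 ygi22 zgi61) (kgi xgi24 ygi37 zgi1) (kgi xgi27 ygi2 zgi43) (kgi xgi20 ygi46 zgi39) (kgi xgi26 ygi52 zgi35) (kgi xgi21 ygi16 zgi47) (kgi xgi31 ygi23 zgi51) (kgi xgi17 ygi31 zgi44) (kgi xgi25 ygi25 zgi40) (kgi xgi18 ygi13 zgi36) (kgi xgi19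 ygi17 zgi59) (kgi xgi17 ygi23 zgi15) (kgi xgi27 ygi22 zgi57) (kgi xgi22 ygi21 zgi44) (kgi xgi29 ygi7 zgi31) (kgi xgi23 ygi1 zgi43) (kgi xgi20 ygi45 zgi47) (kgi xgi28 ygi21 zgi11) (kgi xgi17 ygi58 zgi8) (kgi xgi30 ygi51 zgi46) (kgi xgi28 ygi14 zgi33) (kgi xgi28 ygi33 zgi61) (kgi xgi29 ygi28 zgi32) (kgi xgi28 ygi49 zgi20) (kgi xgi17 ygi24 zgi12) (kgi xgi29 ygi37 zgi15) (kgi xgi30 ygi22 zgi39) (kgi xgi29 ygi50 zgi12) (kgi xgi20 ygi44 zgi20) (kgi xgi17 ygi23 zgi41) (kgi xgi20 ygi47 zgi22) (kgi xgi22 ygi25 zgi59) (kgi xgi26 ygi5 zgi58) (kgi xgi29 ygi25 zgi29) (kgi xgi20 ygi41 zgi14) (kgi xgi29 ygi34 zgi55) (kgi xgi31 ygi34 zgi14) (kgi xgi22 ygi35 zgi29) (kgi xgi30 ygi37 zgi20) (kgi xgi17 ygi23 zgi50) (kgi xgi27 ygi3 zgi42) (kgi xgi17 ygi23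 zgi55) (kgi xgi32 ygi21 zgi61) (kgi xgi28 ygi50 zgi25) (kgi xgi21 ygi3 zgi37) (kgi xgi31 ygi25 zgi55) (kgi xgi31 ygi36 zgi37) (kgi xgi24 ygi9 zgi7)) (@D3.rec (fun _ => Pt) (kgi xgi23 ygi1 zgi42) (kgi xgi25 ygi4 zgi59) (kgi xgi29 ygi57 zgi2) (kgi xgi22 ygi20 zgi43) (kgi xgi29 ygi40 zgi55) (kgi xgi32 ygi22 zgi5) (kgi xgi29 ygi30 zgi19) (kgi xgi19 ygi26 zgi1) (kgi xgi19 ygi37 zgi35) (kgi xgi19 ygi37 zgi34) (kgi xgi29 ygi49 zgi15) (kgi xgi20 ygi42 zgi59) (kgi xgi17 ygi24 zgi7) (kgi xgi18 ygi53 zgi37) (kgi xgi17 ygi24 zgi14) (kgi xgi29 ygi28 zgi38) (kgi xgi17 ygi32 zgi57) (kgi xgi32 ygi22 zgi9) (kgi xgi30 ygi6 zgi50) (kgi xgi17 ygi24 zgi15) (kgi xgi17 ygi32 zgi56) (kgi xgi17 ygi32 zgi54) (kgi xgi25 ygi53 zgi43) (kgi xgi27 ygi16 zgi35)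 (kgi xgi26 ygi17 zgi58) (kgi xgi22 ygi39 zgi37) (kgi xgi17 ygi24 zgi20) (kgi xgi20 ygi6 zgi33) (kgi xgi17 ygi24 zgi22) (kgi xgi26 ygi49 zgi23) (kgi xgi20 ygi20 zgi15) (kgi xgi17 ygi24 zgi25) (kgi xgi17 ygi24 zgi26) (kgi xgi32 ygi21 zgi26) (kgi xgi32 ygi21 zgi25) (kgi xgi21 ygi38 zgi34) (kgi xgi27 ygi1 zgi61) (kgi xgi27 ygi13 zgi46) (kgi xgi18 ygi46 zgi53) (kgi xgi28 ygi51 zgi60) (kgi xgi17 ygi24 zgi30) (kgi xgi23 ygi48 zgi59) (kgi xgi30 ygi21 zgi50) (kgi xgi19 ygi18 zgi13) (kgi xgi21 ygi16 zgi38) (kgi xgi31 ygi35 zgi28) (kgi xgi29 ygi39 zgi35) (kgi xgi26 ygi6 zgi1) (kgi xgi30 ygi25 zgi46) (kgi xgi27 ygi36 zgi31) (kgi xgi29 ygi39 zgi42) (kgi xgi17 ygi24 zgi41) (kgi xgi32 ygi12 zgi12) (kgi xgi29 ygi37 zgi53) (kgi xgi31 ygi31 zgi0) (kgi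 xgi31 ygi54 zgi3) (kgi xgi20 ygi0 zgi23) (kgi xgi31 ygi46 zgi56) (kgi xgi22 ygi1 zgi1) (kgi xgi22 ygi24 zgi25) (kgi xgi20 ygi52 zgi41) (kgi xgi32 ygi21 zgi24)) (@D3.rec (fun _ => Pt) (kgi xgi28 ygi51 zgi9) (kgi xgi17 ygi24 zgi49) (kgi xgi27 ygi14 zgi38) (kgi xgi30 ygi15 zgi0) (kgi xgi27 ygi14 zgi46) (kgi xgi20 ygi22 zgi47) (kgi xgi20 ygi6 zgi44) (kgi xgi20 ygi35 zgi53) (kgi xgi32 ygi22 zgi19) (kgi xgi17 ygi24 zgi53) (kgi xgi30 ygi14 zgi60) (kgi xgi31 ygi58 zgi54) (kgi xgi28 ygi32 zgi31) (kgi xgi17 ygi24 zgi59) (kgi xgi17 ygi25 zgi4) (kgi xgi29 ygi16 zgi28) (kgi xgi29 ygi37 zgi21) (kgi xgi25 ygi56 zgi6) (kgi xgi24 ygi15 zgi6) (kgi xgi26 ygi35 zgi7) (kgi xgi17 ygi25 zgi2) (kgi xgi28 ygi32 zgi44) (kgi xgi30 ygi3 zgi61) (kgi xgi32 ygi22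 zgi26) (kgi xgi32 ygi22 zgi23) (kgi xgi17 ygi25 zgi6) (kgi xgi17 ygi25 zgi10) (kgi xgi31 ygi0 zgi39) (kgi xgi32 ygi8 zgi14) (kgi xgi29 ygi24 zgi35) (kgi xgi22 ygi57 zgi26) (kgi xgi31 ygi46 zgi54) (kgi xgi29 ygi41 zgi47) (kgi xgi29 ygi41 zgi49) (kgi xgi29 ygi23 zgi41) (kgi xgi30 ygi16 zgi56) (kgi xgi24 ygi58 zgi25) (kgi xgi22 ygi1 zgi45) (kgi xgi27 ygi14 zgi1) (kgi xgi30 ygi15 zgi27) (kgi xgi31 ygi53 zgi36) (kgi xgi26 ygi36 zgi58) (kgi xgi29 ygi19 zgi38) (kgi xgi27 ygi8 zgi38) (kgi xgi30 ygi15 zgi39) (kgi xgi31 ygi55 zgi35) (kgi xgi17 ygi25 zgi26) (kgi xgi27 ygi14 zgi4) (kgi xgi26 ygi40 zgi24) (kgi xgi32 ygi22 zgi31) (kgi xgi26 ygi21 zgi47) (kgi xgi23 ygi10 zgi18) (kgi xgi30 ygi6 zgi56) (kgi xgi28 ygi26 zgi28) (kgi xgi17 ygi25 zgi31)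 (kgi xgi28 ygi13 zgi44) (kgi xgi28 ygi53 zgi38) (kgi xgi28 ygi13 zgi42) (kgi xgi28 ygi34 zgi13) (kgi xgi30 ygi54 zgi34) (kgi xgi31 ygi32 zgi1) (kgi xgi30 ygi48 zgi51)) (@D3.rec (fun _ => Pt) (kgi xgi31 ygi13 zgi12) (kgi xgi32 ygi22 zgi24) (kgi xgi17 ygi25 zgi45) (kgi xgi28 ygi9 zgi51) (kgi xgi31 ygi16 zgi19) (kgi xgi31 ygi15 zgi61) (kgi xgi17 ygi25 zgi46) (kgi xgi28 ygi26 zgi35) (kgi xgi32 ygi22 zgi34) (kgi xgi30 ygi36 zgi10) (kgi xgi17 ygi25 zgi48) (kgi xgi29 ygi42 zgi8) (kgi xgi29 ygi16 zgi43) (kgi xgi17 ygi25 zgi49) (kgi xgi26 ygi3 zgi44) (kgi xgi31 ygi52 zgi9) (kgi xgi27 ygi16 zgi52) (kgi xgi26 ygi42 zgi59) (kgi xgi32 ygi9 zgi1) (kgi xgi30 ygi5 zgi40) (kgi xgi32 ygi22 zgi42) (kgi xgi30 ygi5 zgi39) (kgi xgi32 ygi8 zgi36) (kgi xgi17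 ygi25 zgi56) (kgi xgi27 ygi59 zgi43) (kgi xgi32 ygi22 zgi47) (kgi xgi32 ygi1 zgi51) (kgi xgi30 ygi24 zgi31) (kgi xgi17 ygi26 zgi1) (kgi xgi27 ygi56 zgi23) (kgi xgi30 ygi56 zgi4) (kgi xgi17 ygi26 zgi3) (kgi xgi30 ygi54 zgi49) (kgi xgi28 ygi22 zgi35) (kgi xgi29 ygi30 zgi52) (kgi xgi17 ygi26 zgi4) (kgi xgi27 ygi6 zgi22) (kgi xgi29 ygi52 zgi28) (kgi xgi24 ygi22 zgi54) (kgi xgi17 ygi35 zgi50) (kgi xgi26 ygi42 zgi48) (kgi xgi17 ygi26 zgi7) (kgi xgi28 ygi15 zgi58) (kgi xgi17 ygi26 zgi10) (kgi xgi28 ygi5 zgi46) (kgi xgi17 ygi26 zgi12) (kgi xgi17 ygi26 zgi14) (kgi xgi19 ygi26 zgi2) (kgi xgi17 ygi26 zgi16) (kgi xgi23 ygi5 zgi29) (kgi xgi32 ygi20 zgi4) (kgi xgi30 ygi46 zgi58) (kgi xgi23 ygi10 zgi24) (kgi xgi20 ygi50 zgi37) (kgi xgi17 ygi26 zgi15)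 (kgi xgi26 ygi54 zgi53) (kgi xgi24 ygi36 zgi57) (kgi xgi23 ygi8 zgi17) (kgi xgi28 ygi23 zgi59) (kgi xgi25 ygi6 zgi12) (kgi xgi30 ygi50 zgi21) (kgi xgi29 ygi31 zgi17)) (@D3.rec (fun _ => Pt) (kgi xgi17 ygi26 zgi20) (kgi xgi31 ygi31 zgi17) (kgi xgi32 ygi22 zgi57) (kgi xgi17 ygi26 zgi22) (kgi xgi29 ygi50 zgi3) (kgi xgi29 ygi26 zgi18) (kgi xgi32 ygi11 zgi54) (kgi xgi28 ygi13 zgi12) (kgi xgi20 ygi44 zgi12) (kgi xgi31 ygi47 zgi0) (kgi xgi27 ygi10 zgi28) (kgi xgi30 ygi16 zgi26) (kgi xgi17 ygi26 zgi27) (kgi xgi22 ygi24 zgi29) (kgi xgi31 ygi26 zgi38) (kgi xgi29 ygi26 zgi8) (kgi xgi31 ygi55 zgi42) (kgi xgi26 ygi36 zgi0) (kgi xgi22 ygi1 zgi21) (kgi xgi29 ygi45 zgi29) (kgi xgi30 ygi50 zgi16) (kgi xgi29 ygi33 zgi31) (kgi xgi22 ygi1 zgi16) (kgi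 xgi32 ygi19 zgi10) (kgi xgi22 ygi24 zgi42) (kgi xgi22 ygi24 zgi31) (kgi xgi30 ygi14 zgi59) (kgi xgi29 ygi38 zgi1) (kgi xgi29 ygi45 zgi53) (kgi xgi30 ygi14 zgi25) (kgi xgi32 ygi15 zgi34) (kgi xgi17 ygi26 zgi38) (kgi xgi29 ygi46 zgi28) (kgi xgi30 ygi30 zgi61) (kgi xgi32 ygi4 zgi9) (kgi xgi27 ygi12 zgi37) (kgi xgi22 ygi20 zgi20) (kgi xgi22 ygi11 zgi59) (kgi xgi28 ygi52 zgi23) (kgi xgi17 ygi32 zgi3) (kgi xgi21 ygi44 zgi24) (kgi xgi29 ygi28 zgi50) (kgi xgi31 ygi59 zgi51) (kgi xgi22 ygi6 zgi54) (kgi xgi19 ygi6 zgi32) (kgi xgi32 ygi23 zgi15) (kgi xgi17 ygi26 zgi60) (kgi xgi32 ygi23 zgi13) (kgi xgi28 ygi29 zgi32) (kgi xgi19 ygi22 zgi61) (kgi xgi26 ygi54 zgi6) (kgi xgi24 ygi6 zgi21) (kgi xgi27 ygi10 zgi2) (kgi xgi19 ygi30 zgi22) (kgi xgi18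 ygi39 zgi30) (kgi xgi24 ygi7 zgi44) (kgi xgi27 ygi15 zgi16) (kgi xgi31 ygi13 zgi54) (kgi xgi30 ygi5 zgi49) (kgi xgi27 ygi6 zgi45) (kgi xgi17 ygi32 zgi27) (kgi xgi27 ygi7 zgi1)) (@D3.rec (fun _ => Pt) (kgi xgi17 ygi27 zgi9) (kgi xgi17 ygi27 zgi34) (kgi xgi17 ygi27 zgi32) (kgi xgi31 ygi20 zgi24) (kgi xgi28 ygi1 zgi37) (kgi xgi31 ygi28 zgi0) (kgi xgi17 ygi30 zgi32) (kgi xgi17 ygi27 zgi14) (kgi xgi20 ygi23 zgi20) (kgi xgi22 ygi25 zgi21) (kgi xgi20 ygi35 zgi40) (kgi xgi17 ygi27 zgi17) (kgi xgi19 ygi13 zgi48) (kgi xgi17 ygi27 zgi19) (kgi xgi22 ygi0 zgi20) (kgi xgi22 ygi0 zgi18) (kgi xgi24 ygi16 zgi28) (kgi xgi30 ygi4 zgi17) (kgi xgi17 ygi27 zgi23) (kgi xgi29 ygi56 zgi38) (kgi xgi30 ygi15 zgi5) (kgi xgi24 ygi58 zgi12) (kgi xgi17 ygi27 zgi26)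 (kgi xgi30 ygi3 zgi53) (kgi xgi27 ygi19 zgi48) (kgi xgi28 ygi58 zgi56) (kgi xgi17 ygi27 zgi28) (kgi xgi29 ygi0 zgi35) (kgi xgi29 ygi5 zgi48) (kgi xgi26 ygi37 zgi6) (kgi xgi17 ygi27 zgi30) (kgi xgi31 ygi56 zgi1) (kgi xgi21 ygi4 zgi49) (kgi xgi31 ygi55 zgi56) (kgi xgi25 ygi29 zgi3) (kgi xgi28 ygi49 zgi51) (kgi xgi23 ygi39 zgi39) (kgi xgi20 ygi55 zgi22) (kgi xgi29 ygi4 zgi53) (kgi xgi28 ygi56 zgi39) (kgi xgi17 ygi36 zgi23) (kgi xgi32 ygi23 zgi32) (kgi xgi19 ygi44 zgi36) (kgi xgi21 ygi27 zgi27) (kgi xgi23 ygi44 zgi17) (kgi xgi21 ygi17 zgi20) (kgi xgi19 ygi26 zgi45) (kgi xgi25 ygi4 zgi6) (kgi xgi21 ygi25 zgi45) (kgi xgi27 ygi1 zgi44) (kgi xgi23 ygi28 zgi9) (kgi xgi26 ygi16 zgi48) (kgi xgi21 ygi27 zgi38) (kgi xgi21 ygi16 zgi24) (kgi xgi27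 ygi18 zgi0) (kgi xgi27 ygi1 zgi51) (kgi xgi17 ygi27 zgi50) (kgi xgi27 ygi1 zgi50) (kgi xgi21 ygi43 zgi32) (kgi xgi30 ygi43 zgi48) (kgi xgi25 ygi45 zgi45) (kgi xgi27 ygi3 zgi51)) (@D3.rec (fun _ => Pt) (kgi xgi27 ygi17 zgi53) (kgi xgi32 ygi23 zgi41) (kgi xgi31 ygi5 zgi47) (kgi xgi17 ygi28 zgi17) (kgi xgi29 ygi56 zgi2) (kgi xgi29 ygi57 zgi0) (kgi xgi29 ygi56 zgi43) (kgi xgi25 ygi29 zgi46) (kgi xgi17 ygi27 zgi61) (kgi xgi29 ygi56 zgi42) (kgi xgi31 ygi6 zgi41) (kgi xgi25 ygi30 zgi12) (kgi xgi25 ygi56 zgi61) (kgi xgi25 ygi56 zgi51) (kgi xgi17 ygi28 zgi19) (kgi xgi29 ygi56 zgi48) (kgi xgi17 ygi28 zgi5) (kgi xgi29 ygi56 zgi47) (kgi xgi21 ygi19 zgi16) (kgi xgi31 ygi16 zgi50) (kgi xgi17 ygi28 zgi10) (kgi xgi25 ygi30 zgi11) (kgi xgi31 ygi10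 zgi53) (kgi xgi31 ygi16 zgi49) (kgi xgi29 ygi5 zgi25) (kgi xgi32 ygi23 zgi49) (kgi xgi29 ygi3 zgi50) (kgi xgi29 ygi11 zgi23) (kgi xgi31 ygi3 zgi13) (kgi xgi17 ygi28 zgi15) (kgi xgi29 ygi52 zgi19) (kgi xgi32 ygi23 zgi51) (kgi xgi31 ygi58 zgi9) (kgi xgi17 ygi28 zgi16) (kgi xgi30 ygi40 zgi43) (kgi xgi29 ygi56 zgi46) (kgi xgi21 ygi18 zgi17) (kgi xgi17 ygi28 zgi20) (kgi xgi25 ygi24 zgi18) (kgi xgi17 ygi28 zgi21) (kgi xgi27 ygi7 zgi51) (kgi xgi27 ygi7 zgi52) (kgi xgi30 ygi10 zgi2) (kgi xgi17 ygi28 zgi22) (kgi xgi21 ygi17 zgi44) (kgi xgi27 ygi43 zgi59) (kgi xgi21 ygi17 zgi42) (kgi xgi29 ygi5 zgi40) (kgi xgi31 ygi27 zgi37) (kgi xgi29 ygi15 zgi45) (kgi xgi22 ygi30 zgi17) (kgi xgi19 ygi11 zgi25) (kgi xgi17 ygi28 zgi29) (kgi xgi26 ygi33 zgi44)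 (kgi xgi32 ygi23 zgi58) (kgi xgi17 ygi28 zgi31) (kgi xgi31 ygi56 zgi25) (kgi xgi24 ygi0 zgi30) (kgi xgi18 ygi30 zgi45) (kgi xgi24 ygi16 zgi39) (kgi xgi32 ygi20 zgi28) (kgi xgi26 ygi33 zgi57)) (@D3.rec (fun _ => Pt) (kgi xgi21 ygi3 zgi52) (kgi xgi19 ygi41 zgi16) (kgi xgi30 ygi27 zgi26) (kgi xgi17 ygi28 zgi43) (kgi xgi26 ygi38 zgi16) (kgi xgi29 ygi56 zgi12) (kgi xgi32 ygi24 zgi0) (kgi xgi17 ygi28 zgi41) (kgi xgi28 ygi50 zgi31) (kgi xgi23 ygi58 zgi40) (kgi xgi29 ygi56 zgi13) (kgi xgi24 ygi26 zgi40) (kgi xgi22 ygi0 zgi25) (kgi xgi32 ygi17 zgi18) (kgi xgi32 ygi24 zgi1) (kgi xgi25 ygi10 zgi10) (kgi xgi32 ygi10 zgi30) (kgi xgi17 ygi28 zgi47) (kgi xgi19 ygi11 zgi27) (kgi xgi25 ygi10 zgi26) (kgi xgi17 ygi29 zgi19) (kgi xgi29 ygi52 zgi30) (kgi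 xgi20 ygi58 zgi46) (kgi xgi17 ygi28 zgi53) (kgi xgi31 ygi27 zgi21) (kgi xgi25 ygi26 zgi51) (kgi xgi28 ygi40 zgi16) (kgi xgi17 ygi28 zgi57) (kgi xgi32 ygi0 zgi56) (kgi xgi28 ygi43 zgi16) (kgi xgi25 ygi13 zgi33) (kgi xgi25 ygi31 zgi24) (kgi xgi21 ygi45 zgi38) (kgi xgi31 ygi26 zgi50) (kgi xgi31 ygi23 zgi17) (kgi xgi28 ygi30 zgi47) (kgi xgi24 ygi26 zgi34) (kgi xgi17 ygi29 zgi4) (kgi xgi25 ygi13 zgi12) (kgi xgi21 ygi46 zgi27) (kgi xgi32 ygi24 zgi9) (kgi xgi25 ygi14 zgi16) (kgi xgi21 ygi17 zgi5) (kgi xgi17 ygi29 zgi10) (kgi xgi31 ygi48 zgi60) (kgi xgi30 ygi6 zgi39) (kgi xgi30 ygi9 zgi40) (kgi xgi29 ygi52 zgi29) (kgi xgi21 ygi32 zgi10) (kgi xgi30 ygi9 zgi36) (kgi xgi17 ygi29 zgi22) (kgi xgi30 ygi12 zgi37) (kgi xgi25 ygi39 zgi48) (kgi xgi26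 ygi5 zgi55) (kgi xgi21 ygi46 zgi16) (kgi xgi30 ygi11 zgi5) (kgi xgi21 ygi39 zgi2) (kgi xgi17 ygi29 zgi42) (kgi xgi25 ygi33 zgi29) (kgi xgi17 ygi29 zgi34) (kgi xgi17 ygi29 zgi39) (kgi xgi30 ygi16 zgi34)) (@D3.rec (fun _ => Pt) (kgi xgi21 ygi31 zgi21) (kgi xgi17 ygi29 zgi41) (kgi xgi21 ygi58 zgi9) (kgi xgi30 ygi11 zgi13) (kgi xgi31 ygi46 zgi47) (kgi xgi17 ygi29 zgi44) (kgi xgi21 ygi16 zgi59) (kgi xgi22 ygi28 zgi38) (kgi xgi31 ygi54 zgi43) (kgi xgi27 ygi39 zgi36) (kgi xgi17 ygi43 zgi49) (kgi xgi23 ygi6 zgi27) (kgi xgi27 ygi9 zgi1) (kgi xgi20 ygi16 zgi48) (kgi xgi27 ygi12 zgi12) (kgi xgi17 ygi30 zgi6) (kgi xgi18 ygi37 zgi15) (kgi xgi18 ygi10 zgi10) (kgi xgi22 ygi40 zgi47) (kgi xgi20 ygi0 zgi55) (kgi xgi17 ygi30 zgi7) (kgi xgi19 ygi46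 zgi58) (kgi xgi18 ygi39 zgi47) (kgi xgi17 ygi30 zgi13) (kgi xgi25 ygi17 zgi53) (kgi xgi30 ygi5 zgi9) (kgi xgi28 ygi1 zgi0) (kgi xgi25 ygi14 zgi0) (kgi xgi26 ygi16 zgi25) (kgi xgi18 ygi37 zgi34) (kgi xgi27 ygi35 zgi53) (kgi xgi17 ygi42 zgi42) (kgi xgi17 ygi30 zgi26) (kgi xgi27 ygi26 zgi41) (kgi xgi18 ygi3 zgi59) (kgi xgi27 ygi49 zgi7) (kgi xgi18 ygi10 zgi28) (kgi xgi28 ygi6 zgi27) (kgi xgi28 ygi6 zgi26) (kgi xgi32 ygi24 zgi11) (kgi xgi30 ygi11 zgi29) (kgi xgi21 ygi43 zgi31) (kgi xgi26 ygi12 zgi19) (kgi xgi21 ygi43 zgi21) (kgi xgi30 ygi6 zgi11) (kgi xgi20 ygi17 zgi44) (kgi xgi25 ygi41 zgi48) (kgi xgi31 ygi37 zgi24) (kgi xgi29 ygi16 zgi18) (kgi xgi19 ygi55 zgi58) (kgi xgi21 ygi18 zgi21) (kgi xgi17 ygi31 zgi1) (kgi xgi21 ygi44 zgi48)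 (kgi xgi17 ygi30 zgi55) (kgi xgi17 ygi30 zgi60) (kgi xgi21 ygi55 zgi2) (kgi xgi20 ygi15 zgi53) (kgi xgi27 ygi5 zgi52) (kgi xgi30 ygi31 zgi10) (kgi xgi30 ygi28 zgi35) (kgi xgi22 ygi22 zgi54) (kgi xgi29 ygi30 zgi54)) (@D3.rec (fun _ => Pt) (kgi xgi21 ygi45 zgi8) (kgi xgi29 ygi28 zgi10) (kgi xgi17 ygi31 zgi20) (kgi xgi17 ygi33 zgi5) (kgi xgi20 ygi46 zgi11) (kgi xgi21 ygi23 zgi23) (kgi xgi17 ygi31 zgi32) (kgi xgi22 ygi34 zgi15) (kgi xgi24 ygi5 zgi53) (kgi xgi17 ygi31 zgi30) (kgi xgi20 ygi23 zgi54) (kgi xgi19 ygi50 zgi34) (kgi xgi27 ygi56 zgi61) (kgi xgi21 ygi9 zgi0) (kgi xgi22 ygi34 zgi28) (kgi xgi23 ygi7 zgi13) (kgi xgi26 ygi27 zgi15) (kgi xgi26 ygi26 zgi50) (kgi xgi27 ygi55 zgi57) (kgi xgi29 ygi44 zgi34) (kgi xgi20 ygi17 zgi51) (kgi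 xgi22 ygi22 zgi52) (kgi xgi30 ygi21 zgi22) (kgi xgi27 ygi55 zgi42) (kgi xgi24 ygi6 zgi20) (kgi xgi32 ygi24 zgi16) (kgi xgi19 ygi8 zgi59) (kgi xgi21 ygi0 zgi35) (kgi xgi24 ygi16 zgi58) (kgi xgi23 ygi57 zgi14) (kgi xgi32 ygi0 zgi21) (kgi xgi24 ygi37 zgi4) (kgi xgi19 ygi37 zgi40) (kgi xgi23 ygi1 zgi48) (kgi xgi29 ygi47 zgi48) (kgi xgi20 ygi59 zgi27) (kgi xgi25 ygi49 zgi43) (kgi xgi28 ygi0 zgi43) (kgi xgi30 ygi5 zgi22) (kgi xgi31 ygi59 zgi54) (kgi xgi22 ygi7 zgi17) (kgi xgi20 ygi40 zgi5) (kgi xgi17 ygi32 zgi29) (kgi xgi30 ygi26 zgi27) (kgi xgi28 ygi59 zgi17) (kgi xgi20 ygi23 zgi39) (kgi xgi32 ygi0 zgi29) (kgi xgi19 ygi50 zgi11) (kgi xgi17 ygi32 zgi37) (kgi xgi25 ygi23 zgi45) (kgi xgi28 ygi20 zgi35) (kgi xgi22 ygi6 zgi45) (kgi xgi31 ygi41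 zgi0) (kgi xgi17 ygi32 zgi51) (kgi xgi30 ygi53 zgi23) (kgi xgi32 ygi22 zgi8) (kgi xgi28 ygi44 zgi48) (kgi xgi29 ygi0 zgi36) (kgi xgi19 ygi25 zgi49) (kgi xgi20 ygi46 zgi60) (kgi xgi30 ygi25 zgi5) (kgi xgi25 ygi23 zgi7)) (@D3.rec (fun _ => Pt) (kgi xgi20 ygi8 zgi26) (kgi xgi20 ygi9 zgi21) (kgi xgi17 ygi33 zgi14) (kgi xgi22 ygi4 zgi51) (kgi xgi21 ygi27 zgi61) (kgi xgi21 ygi45 zgi60) (kgi xgi25 ygi38 zgi61) (kgi xgi29 ygi31 zgi2) (kgi xgi17 ygi33 zgi27) (kgi xgi21 ygi27 zgi58) (kgi xgi21 ygi1 zgi15) (kgi xgi24 ygi19 zgi59) (kgi xgi28 ygi45 zgi4) (kgi xgi22 ygi4 zgi28) (kgi xgi22 ygi45 zgi37) (kgi xgi18 ygi1 zgi22) (kgi xgi29 ygi35 zgi13) (kgi xgi20 ygi29 zgi54) (kgi xgi30 ygi2 zgi2) (kgi xgi29 ygi5 zgi60) (kgi xgi25 ygi17 zgi46) (kgi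 xgi20 ygi20 zgi38) (kgi xgi17 ygi33 zgi57) (kgi xgi28 ygi19 zgi45) (kgi xgi32 ygi24 zgi20) (kgi xgi27 ygi37 zgi34) (kgi xgi25 ygi25 zgi21) (kgi xgi17 ygi33 zgi53) (kgi xgi26 ygi47 zgi2) (kgi xgi17 ygi52 zgi55) (kgi xgi30 ygi9 zgi4) (kgi xgi28 ygi20 zgi45) (kgi xgi29 ygi3 zgi60) (kgi xgi20 ygi13 zgi50) (kgi xgi17 ygi34 zgi1) (kgi xgi28 ygi14 zgi57) (kgi xgi17 ygi34 zgi3) (kgi xgi20 ygi20 zgi41) (kgi xgi23 ygi54 zgi12) (kgi xgi24 ygi18 zgi42) (kgi xgi23 ygi53 zgi53) (kgi xgi24 ygi7 zgi54) (kgi xgi24 ygi7 zgi52) (kgi xgi18 ygi55 zgi36) (kgi xgi31 ygi53 zgi35) (kgi xgi22 ygi6 zgi61) (kgi xgi18 ygi10 zgi19) (kgi xgi26 ygi55 zgi4) (kgi xgi26 ygi46 zgi51) (kgi xgi29 ygi44 zgi46) (kgi xgi19 ygi58 zgi2) (kgi xgi20 ygi55 zgi48) (kgi xgi24 ygi48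 zgi55) (kgi xgi17 ygi34 zgi33) (kgi xgi20 ygi5 zgi13) (kgi xgi28 ygi7 zgi54) (kgi xgi18 ygi7 zgi58) (kgi xgi28 ygi32 zgi16) (kgi xgi19 ygi44 zgi16) (kgi xgi24 ygi51 zgi51) (kgi xgi22 ygi6 zgi21) (kgi xgi22 ygi6 zgi20)) (@D3.rec (fun _ => Pt) (kgi xgi31 ygi13 zgi20) (kgi xgi21 ygi26 zgi31) (kgi xgi29 ygi50 zgi34) (kgi xgi17 ygi34 zgi52) (kgi xgi19 ygi57 zgi19) (kgi xgi17 ygi34 zgi59) (kgi xgi24 ygi5 zgi13) (kgi xgi21 ygi7 zgi37) (kgi xgi17 ygi35 zgi5) (kgi xgi24 ygi42 zgi16) (kgi xgi30 ygi16 zgi48) (kgi xgi25 ygi49 zgi0) (kgi xgi21 ygi46 zgi39) (kgi xgi25 ygi51 zgi17) (kgi xgi26 ygi41 zgi59) (kgi xgi23 ygi54 zgi0) (kgi xgi17 ygi35 zgi9) (kgi xgi17 ygi35 zgi12) (kgi xgi22 ygi10 zgi34) (kgi xgi21 ygi50 zgi27) (kgi xgi24 ygi18 zgi23)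 (kgi xgi17 ygi35 zgi17) (kgi xgi22 ygi15 zgi15) (kgi xgi26 ygi10 zgi28) (kgi xgi24 ygi14 zgi48) (kgi xgi21 ygi27 zgi28) (kgi xgi29 ygi57 zgi11) (kgi xgi21 ygi27 zgi32) (kgi xgi29 ygi57 zgi14) (kgi xgi29 ygi56 zgi37) (kgi xgi32 ygi24 zgi33) (kgi xgi30 ygi8 zgi45) (kgi xgi17 ygi35 zgi27) (kgi xgi17 ygi35 zgi34) (kgi xgi27 ygi4 zgi57) (kgi xgi17 ygi35 zgi28) (kgi xgi27 ygi4 zgi13) (kgi xgi31 ygi48 zgi26) (kgi xgi22 ygi9 zgi58) (kgi xgi30 ygi1 zgi31) (kgi xgi31 ygi16 zgi51) (kgi xgi17 ygi35 zgi38) (kgi xgi28 ygi12 zgi60) (kgi xgi17 ygi35 zgi42) (kgi xgi24 ygi1 zgi22) (kgi xgi25 ygi19 zgi36) (kgi xgi28 ygi45 zgi28) (kgi xgi30 ygi22 zgi36) (kgi xgi20 ygi2 zgi28) (kgi xgi19 ygi6 zgi61) (kgi xgi28 ygi28 zgi57) (kgi xgi21 ygi3 zgi39) (kgi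 xgi28 ygi34 zgi23) (kgi xgi28 ygi32 zgi27) (kgi xgi28 ygi32 zgi48) (kgi xgi26 ygi27 zgi34) (kgi xgi30 ygi51 zgi24) (kgi xgi24 ygi12 zgi35) (kgi xgi28 ygi32 zgi53) (kgi xgi19 ygi20 zgi37) (kgi xgi28 ygi11 zgi26) (kgi xgi24 ygi16 zgi51)) (@D3.rec (fun _ => Pt) (kgi xgi20 ygi50 zgi21) (kgi xgi31 ygi35 zgi55) (kgi xgi19 ygi58 zgi43) (kgi xgi32 ygi24 zgi39) (kgi xgi17 ygi36 zgi16) (kgi xgi17 ygi36 zgi1) (kgi xgi30 ygi18 zgi52) (kgi xgi31 ygi38 zgi17) (kgi xgi17 ygi36 zgi18) (kgi xgi27 ygi46 zgi58) (kgi xgi31 ygi50 zgi20) (kgi xgi18 ygi1 zgi42) (kgi xgi30 ygi9 zgi21) (kgi xgi17 ygi36 zgi9) (kgi xgi17 ygi36 zgi14) (kgi xgi19 ygi9 zgi45) (kgi xgi32 ygi18 zgi53) (kgi xgi19 ygi9 zgi10) (kgi xgi17 ygi36 zgi10) (kgi xgi17 ygi36 zgi11) (kgi xgi29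 ygi16 zgi5) (kgi xgi25 ygi6 zgi39) (kgi xgi19 ygi56 zgi60) (kgi xgi18 ygi7 zgi39) (kgi xgi32 ygi18 zgi54) (kgi xgi32 ygi24 zgi41) (kgi xgi31 ygi25 zgi4) (kgi xgi17 ygi36 zgi17) (kgi xgi17 ygi36 zgi21) (kgi xgi31 ygi55 zgi0) (kgi xgi32 ygi24 zgi43) (kgi xgi29 ygi6 zgi27) (kgi xgi17 ygi36 zgi20) (kgi xgi31 ygi57 zgi12) (kgi xgi31 ygi46 zgi45) (kgi xgi25 ygi54 zgi35) (kgi xgi17 ygi36 zgi24) (kgi xgi21 ygi25 zgi19) (kgi xgi17 ygi38 zgi40) (kgi xgi17 ygi38 zgi38) (kgi xgi18 ygi27 zgi41) (kgi xgi17 ygi36 zgi31) (kgi xgi17 ygi38 zgi7) (kgi xgi17 ygi38 zgi4) (kgi xgi25 ygi43 zgi29) (kgi xgi17 ygi54 zgi9) (kgi xgi18 ygi8 zgi31) (kgi xgi17 ygi37 zgi56) (kgi xgi17 ygi53 zgi60) (kgi xgi27 ygi29 zgi2) (kgi xgi17 ygi38 zgi49) (kgi xgi17 ygi38 zgi48)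 (kgi xgi17 ygi36 zgi41) (kgi xgi26 ygi12 zgi17) (kgi xgi24 ygi54 zgi52) (kgi xgi17 ygi41 zgi47) (kgi xgi21 ygi58 zgi31) (kgi xgi27 ygi31 zgi25) (kgi xgi21 ygi58 zgi45) (kgi xgi17 ygi39 zgi21) (kgi xgi27 ygi25 zgi34) (kgi xgi17 ygi39 zgi18)) (@D3.rec (fun _ => Pt) (kgi xgi25 ygi15 zgi34) (kgi xgi20 ygi3 zgi42) (kgi xgi25 ygi23 zgi22) (kgi xgi17 ygi40 zgi16) (kgi xgi26 ygi11 zgi43) (kgi xgi21 ygi59 zgi20) (kgi xgi24 ygi45 zgi27) (kgi xgi26 ygi15 zgi7) (kgi xgi17 ygi43 zgi57) (kgi xgi18 ygi4 zgi36) (kgi xgi17 ygi36 zgi57) (kgi xgi17 ygi40 zgi11) (kgi xgi17 ygi36 zgi60) (kgi xgi25 ygi49 zgi38) (kgi xgi27 ygi25 zgi49) (kgi xgi22 ygi8 zgi43) (kgi xgi27 ygi28 zgi30) (kgi xgi28 ygi41 zgi45) (kgi xgi31 ygi38 zgi11) (kgi xgi31 ygi38 zgi13)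 (kgi xgi32 ygi6 zgi0) (kgi xgi27 ygi26 zgi46) (kgi xgi26 ygi11 zgi25) (kgi xgi26 ygi18 zgi52) (kgi xgi32 ygi24 zgi57) (kgi xgi31 ygi44 zgi40) (kgi xgi29 ygi50 zgi58) (kgi xgi17 ygi37 zgi13) (kgi xgi25 ygi35 zgi25) (kgi xgi17 ygi44 zgi57) (kgi xgi30 ygi20 zgi30) (kgi xgi25 ygi44 zgi60) (kgi xgi21 ygi23 zgi8) (kgi xgi17 ygi53 zgi61) (kgi xgi27 ygi26 zgi32) (kgi xgi26 ygi16 zgi61) (kgi xgi27 ygi25 zgi11) (kgi xgi26 ygi4 zgi35) (kgi xgi17 ygi37 zgi26) (kgi xgi25 ygi45 zgi25) (kgi xgi27 ygi26 zgi37) (kgi xgi23 ygi34 zgi53) (kgi xgi27 ygi26 zgi59) (kgi xgi31 ygi37 zgi19) (kgi xgi17 ygi37 zgi36) (kgi xgi31 ygi35 zgi23) (kgi xgi31 ygi37 zgi20) (kgi xgi32 ygi24 zgi54) (kgi xgi32 ygi24 zgi61) (kgi xgi17 ygi37 zgi44) (kgi xgi27 ygi48 zgi58)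 (kgi xgi27 ygi27 zgi10) (kgi xgi31 ygi59 zgi15) (kgi xgi21 ygi22 zgi56) (kgi xgi17 ygi37 zgi51) (kgi xgi26 ygi19 zgi6) (kgi xgi21 ygi27 zgi9) (kgi xgi24 ygi59 zgi5) (kgi xgi17 ygi54 zgi7) (kgi xgi27 ygi45 zgi23) (kgi xgi17 ygi54 zgi2) (kgi xgi23 ygi43 zgi59)) (@D3.rec (fun _ => Pt) (kgi xgi17 ygi37 zgi55) (kgi xgi17 ygi38 zgi1) (kgi xgi31 ygi37 zgi8) (kgi xgi17 ygi37 zgi60) (kgi xgi17 ygi38 zgi43) (kgi xgi27 ygi27 zgi56) (kgi xgi27 ygi29 zgi53) (kgi xgi27 ygi28 zgi26) (kgi xgi17 ygi37 zgi59) (kgi xgi23 ygi43 zgi17) (kgi xgi25 ygi28 zgi55) (kgi xgi29 ygi50 zgi46) (kgi xgi21 ygi19 zgi59) (kgi xgi17 ygi38 zgi0) (kgi xgi30 ygi1 zgi14) (kgi xgi29 ygi10 zgi11) (kgi xgi28 ygi3 zgi44) (kgi xgi26 ygi12 zgi11) (kgi xgi31 ygi14 zgi45) (kgi xgi26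 ygi12 zgi5) (kgi xgi28 ygi3 zgi10) (kgi xgi27 ygi27 zgi51) (kgi xgi26 ygi11 zgi53) (kgi xgi25 ygi1 zgi21) (kgi xgi17 ygi38 zgi8) (kgi xgi23 ygi45 zgi24) (kgi xgi31 ygi45 zgi13) (kgi xgi19 ygi0 zgi36) (kgi xgi17 ygi54 zgi41) (kgi xgi27 ygi27 zgi16) (kgi xgi19 ygi48 zgi32) (kgi xgi26 ygi2 zgi5) (kgi xgi31 ygi34 zgi16) (kgi xgi25 ygi29 zgi18) (kgi xgi24 ygi44 zgi53) (kgi xgi19 ygi17 zgi0) (kgi xgi29 ygi56 zgi34) (kgi xgi30 ygi14 zgi33) (kgi xgi17 ygi38 zgi32) (kgi xgi21 ygi22 zgi61) (kgi xgi25 ygi45 zgi22) (kgi xgi27 ygi20 zgi32) (kgi xgi18 ygi27 zgi38) (kgi xgi27 ygi47 zgi57) (kgi xgi26 ygi17 zgi2) (kgi xgi32 ygi24 zgi52) (kgi xgi26 ygi12 zgi12) (kgi xgi17 ygi45 zgi32) (kgi xgi27 ygi28 zgi46) (kgi xgi27 ygi29 zgi7) (kgi xgi25 ygi15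 zgi33) (kgi xgi17 ygi38 zgi46) (kgi xgi30 ygi19 zgi31) (kgi xgi17 ygi41 zgi21) (kgi xgi24 ygi45 zgi25) (kgi xgi21 ygi21 zgi47) (kgi xgi18 ygi8 zgi11) (kgi xgi21 ygi49 zgi8) (kgi xgi22 ygi43 zgi30) (kgi xgi17 ygi39 zgi15) (kgi xgi17 ygi39 zgi57) (kgi xgi17 ygi39 zgi44)) (@D3.rec (fun _ => Pt) (kgi xgi27 ygi25 zgi42) (kgi xgi18 ygi4 zgi31) (kgi xgi31 ygi44 zgi0) (kgi xgi17 ygi39 zgi10) (kgi xgi17 ygi42 zgi49) (kgi xgi21 ygi58 zgi29) (kgi xgi27 ygi25 zgi40) (kgi xgi24 ygi44 zgi30) (kgi xgi27 ygi28 zgi7) (kgi xgi31 ygi42 zgi58) (kgi xgi17 ygi39 zgi16) (kgi xgi27 ygi25 zgi51) (kgi xgi17 ygi42 zgi57) (kgi xgi32 ygi25 zgi8) (kgi xgi32 ygi5 zgi33) (kgi xgi31 ygi42 zgi60) (kgi xgi17 ygi39 zgi20) (kgi xgi27 ygi26 zgi29) (kgi xgi29 ygi23 zgi2)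 (kgi xgi27 ygi30 zgi51) (kgi xgi21 ygi23 zgi17) (kgi xgi21 ygi58 zgi41) (kgi xgi24 ygi43 zgi11) (kgi xgi26 ygi48 zgi12) (kgi xgi20 ygi4 zgi9) (kgi xgi31 ygi36 zgi29) (kgi xgi21 ygi40 zgi56) (kgi xgi26 ygi3 zgi34) (kgi xgi24 ygi45 zgi3) (kgi xgi31 ygi38 zgi32) (kgi xgi17 ygi44 zgi45) (kgi xgi27 ygi29 zgi6) (kgi xgi31 ygi38 zgi31) (kgi xgi24 ygi45 zgi38) (kgi xgi26 ygi5 zgi22) (kgi xgi31 ygi59 zgi10) (kgi xgi27 ygi28 zgi53) (kgi xgi27 ygi28 zgi48) (kgi xgi32 ygi5 zgi29) (kgi xgi31 ygi55 zgi55) (kgi xgi24 ygi55 zgi28) (kgi xgi27 ygi25 zgi57) (kgi xgi31 ygi54 zgi40) (kgi xgi25 ygi39 zgi23) (kgi xgi32 ygi5 zgi24) (kgi xgi30 ygi23 zgi15) (kgi xgi17 ygi40 zgi7) (kgi xgi27 ygi28 zgi15) (kgi xgi21 ygi26 zgi22) (kgi xgi17 ygi40 zgi12) (kgi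 xgi26 ygi4 zgi32) (kgi xgi27 ygi28 zgi50) (kgi xgi17 ygi41 zgi28) (kgi xgi17 ygi40 zgi35) (kgi xgi27 ygi30 zgi2) (kgi xgi25 ygi58 zgi40) (kgi xgi27 ygi28 zgi23) (kgi xgi17 ygi40 zgi22) (kgi xgi25 ygi1 zgi9) (kgi xgi17 ygi40 zgi25) (kgi xgi17 ygi40 zgi36) (kgi xgi32 ygi3 zgi44)) (@D3.rec (fun _ => Pt) (kgi xgi17 ygi40 zgi24) (kgi xgi22 ygi10 zgi33) (kgi xgi17 ygi40 zgi27) (kgi xgi24 ygi55 zgi19) (kgi xgi18 ygi8 zgi41) (kgi xgi31 ygi44 zgi38) (kgi xgi28 ygi41 zgi24) (kgi xgi25 ygi0 zgi25) (kgi xgi31 ygi7 zgi8) (kgi xgi26 ygi48 zgi15) (kgi xgi17 ygi42 zgi51) (kgi xgi32 ygi6 zgi50) (kgi xgi17 ygi40 zgi40) (kgi xgi17 ygi40 zgi45) (kgi xgi32 ygi25 zgi11) (kgi xgi27 ygi28 zgi0) (kgi xgi17 ygi40 zgi44) (kgi xgi31 ygi43 zgi1) (kgi xgi32 ygi1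 zgi19) (kgi xgi17 ygi40 zgi49) (kgi xgi17 ygi41 zgi0) (kgi xgi17 ygi41 zgi1) (kgi xgi32 ygi25 zgi13) (kgi xgi26 ygi12 zgi9) (kgi xgi27 ygi26 zgi8) (kgi xgi27 ygi29 zgi5) (kgi xgi28 ygi2 zgi35) (kgi xgi26 ygi12 zgi1) (kgi xgi25 ygi15 zgi50) (kgi xgi27 ygi28 zgi18) (kgi xgi17 ygi40 zgi59) (kgi xgi27 ygi25 zgi16) (kgi xgi26 ygi4 zgi34) (kgi xgi27 ygi28 zgi40) (kgi xgi24 ygi56 zgi10) (kgi xgi27 ygi46 zgi38) (kgi xgi25 ygi35 zgi10) (kgi xgi27 ygi25 zgi22) (kgi xgi31 ygi12 zgi19) (kgi xgi21 ygi37 zgi13) (kgi xgi31 ygi54 zgi29) (kgi xgi31 ygi11 zgi60) (kgi xgi18 ygi29 zgi48) (kgi xgi27 ygi31 zgi58) (kgi xgi25 ygi3 zgi61) (kgi xgi30 ygi2 zgi54) (kgi xgi27 ygi26 zgi4) (kgi xgi26 ygi0 zgi26) (kgi xgi32 ygi24 zgi28) (kgi xgi32 ygi25 zgi2) (kgi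 xgi26 ygi12 zgi13) (kgi xgi24 ygi59 zgi8) (kgi xgi27 ygi47 zgi20) (kgi xgi27 ygi27 zgi39) (kgi xgi30 ygi25 zgi7) (kgi xgi17 ygi41 zgi24) (kgi xgi27 ygi29 zgi4) (kgi xgi17 ygi41 zgi26) (kgi xgi32 ygi5 zgi30) (kgi xgi17 ygi41 zgi27) (kgi xgi29 ygi38 zgi45) (kgi xgi27 ygi28 zgi37)) (@D3.rec (fun _ => Pt) (kgi xgi30 ygi51 zgi48) (kgi xgi24 ygi59 zgi6) (kgi xgi30 ygi1 zgi1) (kgi xgi24 ygi55 zgi14) (kgi xgi27 ygi28 zgi55) (kgi xgi32 ygi5 zgi32) (kgi xgi24 ygi55 zgi59) (kgi xgi27 ygi26 zgi43) (kgi xgi27 ygi27 zgi31) (kgi xgi17 ygi41 zgi35) (kgi xgi18 ygi27 zgi33) (kgi xgi27 ygi48 zgi5) (kgi xgi26 ygi21 zgi12) (kgi xgi26 ygi13 zgi50) (kgi xgi21 ygi24 zgi5) (kgi xgi25 ygi44 zgi41) (kgi xgi28 ygi49 zgi8) (kgi xgi17 ygi43 zgi42) (kgi xgi17 ygi42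 zgi4) (kgi xgi17 ygi43 zgi32) (kgi xgi27 ygi5 zgi42) (kgi xgi26 ygi5 zgi32) (kgi xgi19 ygi36 zgi32) (kgi xgi20 ygi49 zgi10) (kgi xgi21 ygi23 zgi44) (kgi xgi31 ygi59 zgi9) (kgi xgi27 ygi23 zgi24) (kgi xgi31 ygi29 zgi11) (kgi xgi23 ygi46 zgi49) (kgi xgi21 ygi23 zgi61) (kgi xgi25 ygi4 zgi36) (kgi xgi17 ygi42 zgi12) (kgi xgi31 ygi28 zgi20) (kgi xgi25 ygi19 zgi51) (kgi xgi31 ygi36 zgi56) (kgi xgi18 ygi9 zgi34) (kgi xgi24 ygi7 zgi33) (kgi xgi17 ygi42 zgi33) (kgi xgi21 ygi42 zgi9) (kgi xgi17 ygi42 zgi28) (kgi xgi26 ygi10 zgi54) (kgi xgi21 ygi7 zgi13) (kgi xgi29 ygi52 zgi0) (kgi xgi26 ygi11 zgi1) (kgi xgi25 ygi33 zgi59) (kgi xgi17 ygi42 zgi35) (kgi xgi18 ygi9 zgi29) (kgi xgi28 ygi6 zgi12) (kgi xgi21 ygi30 zgi52) (kgi xgi19 ygi5 zgi26) (kgi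 xgi18 ygi16 zgi9) (kgi xgi17 ygi49 zgi35) (kgi xgi31 ygi49 zgi61) (kgi xgi26 ygi11 zgi54) (kgi xgi21 ygi57 zgi15) (kgi xgi31 ygi55 zgi48) (kgi xgi32 ygi5 zgi34) (kgi xgi18 ygi8 zgi8) (kgi xgi31 ygi34 zgi2) (kgi xgi31 ygi6 zgi55) (kgi xgi31 ygi32 zgi60) (kgi xgi17 ygi42 zgi59)) (@D3.rec (fun _ => Pt) (kgi xgi30 ygi23 zgi17) (kgi xgi27 ygi46 zgi1) (kgi xgi27 ygi47 zgi27) (kgi xgi17 ygi43 zgi2) (kgi xgi17 ygi43 zgi6) (kgi xgi17 ygi43 zgi9) (kgi xgi31 ygi48 zgi3) (kgi xgi31 ygi47 zgi60) (kgi xgi25 ygi43 zgi39) (kgi xgi20 ygi2 zgi35) (kgi xgi28 ygi58 zgi10) (kgi xgi31 ygi46 zgi2) (kgi xgi29 ygi44 zgi49) (kgi xgi25 ygi6 zgi26) (kgi xgi25 ygi43 zgi0) (kgi xgi25 ygi6 zgi25) (kgi xgi20 ygi41 zgi35) (kgi xgi20 ygi42 zgi8) (kgi xgi17 ygi43 zgi13)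 (kgi xgi27 ygi59 zgi2) (kgi xgi23 ygi0 zgi54) (kgi xgi20 ygi43 zgi46) (kgi xgi19 ygi38 zgi39) (kgi xgi29 ygi58 zgi45) (kgi xgi18 ygi18 zgi7) (kgi xgi23 ygi29 zgi7) (kgi xgi20 ygi17 zgi1) (kgi xgi25 ygi42 zgi51) (kgi xgi20 ygi13 zgi42) (kgi xgi32 ygi7 zgi34) (kgi xgi21 ygi54 zgi47) (kgi xgi32 ygi23 zgi25) (kgi xgi17 ygi43 zgi53) (kgi xgi20 ygi14 zgi39) (kgi xgi31 ygi43 zgi61) (kgi xgi18 ygi7 zgi48) (kgi xgi30 ygi45 zgi44) (kgi xgi21 ygi31 zgi17) (kgi xgi27 ygi5 zgi49) (kgi xgi21 ygi32 zgi15) (kgi xgi17 ygi43 zgi54) (kgi xgi18 ygi7 zgi28) (kgi xgi26 ygi14 zgi26) (kgi xgi24 ygi45 zgi17) (kgi xgi21 ygi26 zgi1) (kgi xgi31 ygi15 zgi33) (kgi xgi22 ygi23 zgi31) (kgi xgi17 ygi44 zgi44) (kgi xgi27 ygi28 zgi35) (kgi xgi28 ygi41 zgi40) (kgi xgi31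 ygi0 zgi53) (kgi xgi29 ygi57 zgi49) (kgi xgi27 ygi56 zgi13) (kgi xgi21 ygi22 zgi60) (kgi xgi17 ygi44 zgi7) (kgi xgi21 ygi6 zgi20) (kgi xgi26 ygi14 zgi56) (kgi xgi27 ygi45 zgi55) (kgi xgi17 ygi44 zgi14) (kgi xgi22 ygi11 zgi14) (kgi xgi17 ygi45 zgi25) (kgi xgi17 ygi44 zgi16)) (@D3.rec (fun _ => Pt) (kgi xgi17 ygi44 zgi21) (kgi xgi32 ygi6 zgi4) (kgi xgi17 ygi44 zgi17) (kgi xgi18 ygi7 zgi22) (kgi xgi17 ygi44 zgi20) (kgi xgi27 ygi38 zgi25) (kgi xgi17 ygi44 zgi25) (kgi xgi17 ygi44 zgi26) (kgi xgi27 ygi48 zgi28) (kgi xgi18 ygi29 zgi29) (kgi xgi27 ygi48 zgi25) (kgi xgi27 ygi45 zgi39) (kgi xgi24 ygi54 zgi41) (kgi xgi31 ygi14 zgi33) (kgi xgi19 ygi2 zgi8) (kgi xgi29 ygi19 zgi1) (kgi xgi28 ygi27 zgi37) (kgi xgi17 ygi44 zgi36) (kgi xgi18 ygi7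 zgi50) (kgi xgi29 ygi38 zgi44) (kgi xgi17 ygi44 zgi40) (kgi xgi32 ygi25 zgi27) (kgi xgi24 ygi54 zgi35) (kgi xgi17 ygi44 zgi42) (kgi xgi32 ygi24 zgi53) (kgi xgi27 ygi27 zgi60) (kgi xgi26 ygi13 zgi31) (kgi xgi32 ygi25 zgi5) (kgi xgi17 ygi44 zgi46) (kgi xgi27 ygi47 zgi19) (kgi xgi24 ygi45 zgi42) (kgi xgi28 ygi2 zgi0) (kgi xgi26 ygi12 zgi14) (kgi xgi21 ygi25 zgi5) (kgi xgi18 ygi50 zgi28) (kgi xgi21 ygi49 zgi43) (kgi xgi24 ygi41 zgi57) (kgi xgi27 ygi42 zgi40) (kgi xgi25 ygi16 zgi39) (kgi xgi28 ygi31 zgi17) (kgi xgi18 ygi7 zgi17) (kgi xgi28 ygi3 zgi49) (kgi xgi27 ygi46 zgi12) (kgi xgi30 ygi19 zgi40) (kgi xgi30 ygi14 zgi20) (kgi xgi25 ygi10 zgi59) (kgi xgi25 ygi43 zgi10) (kgi xgi18 ygi27 zgi40) (kgi xgi27 ygi45 zgi5) (kgi xgi29 ygi39 zgi16)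 (kgi xgi17 ygi45 zgi26) (kgi xgi26 ygi16 zgi45) (kgi xgi26 ygi13 zgi27) (kgi xgi25 ygi32 zgi59) (kgi xgi31 ygi15 zgi39) (kgi xgi27 ygi31 zgi48) (kgi xgi17 ygi45 zgi31) (kgi xgi28 ygi21 zgi9) (kgi xgi27 ygi28 zgi38) (kgi xgi24 ygi52 zgi30) (kgi xgi18 ygi13 zgi10) (kgi xgi21 ygi13 zgi19)) (@D3.rec (fun _ => Pt) (kgi xgi24 ygi29 zgi5) (kgi xgi18 ygi30 zgi24) (kgi xgi26 ygi21 zgi14) (kgi xgi23 ygi6 zgi33) (kgi xgi27 ygi32 zgi55) (kgi xgi28 ygi7 zgi17) (kgi xgi29 ygi24 zgi51) (kgi xgi27 ygi54 zgi59) (kgi xgi18 ygi54 zgi40) (kgi xgi18 ygi35 zgi27) (kgi xgi17 ygi45 zgi54) (kgi xgi27 ygi34 zgi31) (kgi xgi17 ygi45 zgi56) (kgi xgi18 ygi9 zgi40) (kgi xgi17 ygi46 zgi4) (kgi xgi32 ygi25 zgi38) (kgi xgi18 ygi38 zgi35) (kgi xgi17 ygi45 zgi59) (kgi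 xgi18 ygi9 zgi49) (kgi xgi27 ygi33 zgi21) (kgi xgi27 ygi35 zgi19) (kgi xgi27 ygi33 zgi13) (kgi xgi18 ygi53 zgi52) (kgi xgi32 ygi25 zgi45) (kgi xgi17 ygi46 zgi2) (kgi xgi28 ygi21 zgi29) (kgi xgi32 ygi2 zgi41) (kgi xgi17 ygi46 zgi3) (kgi xgi27 ygi50 zgi0) (kgi xgi27 ygi49 zgi60) (kgi xgi32 ygi25 zgi44) (kgi xgi18 ygi13 zgi24) (kgi xgi28 ygi22 zgi43) (kgi xgi18 ygi13 zgi22) (kgi xgi28 ygi5 zgi6) (kgi xgi27 ygi49 zgi6) (kgi xgi28 ygi5 zgi7) (kgi xgi17 ygi51 zgi3) (kgi xgi18 ygi13 zgi33) (kgi xgi22 ygi34 zgi35) (kgi xgi18 ygi13 zgi30) (kgi xgi27 ygi34 zgi46) (kgi xgi28 ygi5 zgi1) (kgi xgi30 ygi31 zgi59) (kgi xgi28 ygi5 zgi4) (kgi xgi19 ygi17 zgi18) (kgi xgi17 ygi46 zgi39) (kgi xgi28 ygi20 zgi6) (kgi xgi27 ygi35 zgi14) (kgi xgi25 ygi3 zgi44)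 (kgi xgi17 ygi46 zgi32) (kgi xgi27 ygi34 zgi36) (kgi xgi18 ygi11 zgi43) (kgi xgi17 ygi46 zgi16) (kgi xgi20 ygi21 zgi3) (kgi xgi27 ygi32 zgi6) (kgi xgi26 ygi4 zgi27) (kgi xgi17 ygi46 zgi17) (kgi xgi17 ygi46 zgi18) (kgi xgi27 ygi34 zgi29) (kgi xgi22 ygi35 zgi7) (kgi xgi23 ygi50 zgi34)) (@D3.rec (fun _ => Pt) (kgi xgi27 ygi32 zgi52) (kgi xgi32 ygi26 zgi3) (kgi xgi27 ygi55 zgi25) (kgi xgi17 ygi46 zgi24) (kgi xgi29 ygi50 zgi27) (kgi xgi32 ygi26 zgi5) (kgi xgi28 ygi6 zgi5) (kgi xgi18 ygi31 zgi48) (kgi xgi27 ygi5 zgi29) (kgi xgi27 ygi34 zgi30) (kgi xgi17 ygi46 zgi30) (kgi xgi29 ygi25 zgi9) (kgi xgi27 ygi34 zgi21) (kgi xgi27 ygi32 zgi19) (kgi xgi27 ygi55 zgi34) (kgi xgi28 ygi6 zgi59) (kgi xgi28 ygi9 zgi30) (kgi xgi31 ygi7 zgi39) (kgi xgi20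 ygi21 zgi35) (kgi xgi17 ygi46 zgi38) (kgi xgi31 ygi9 zgi61) (kgi xgi27 ygi32 zgi21) (kgi xgi32 ygi26 zgi14) (kgi xgi17 ygi46 zgi40) (kgi xgi27 ygi54 zgi16) (kgi xgi26 ygi17 zgi36) (kgi xgi17 ygi46 zgi41) (kgi xgi27 ygi35 zgi6) (kgi xgi32 ygi26 zgi16) (kgi xgi27 ygi34 zgi35) (kgi xgi32 ygi3 zgi52) (kgi xgi26 ygi20 zgi54) (kgi xgi27 ygi50 zgi27) (kgi xgi17 ygi46 zgi48) (kgi xgi18 ygi11 zgi20) (kgi xgi32 ygi26 zgi24) (kgi xgi27 ygi34 zgi5) (kgi xgi28 ygi10 zgi34) (kgi xgi18 ygi14 zgi54) (kgi xgi27 ygi32 zgi16) (kgi xgi28 ygi43 zgi30) (kgi xgi26 ygi20 zgi11) (kgi xgi21 ygi25 zgi37) (kgi xgi27 ygi54 zgi48) (kgi xgi25 ygi3 zgi11) (kgi xgi25 ygi16 zgi55) (kgi xgi27 ygi34 zgi38) (kgi xgi27 ygi49 zgi37) (kgi xgi32 ygi25 zgi61) (kgi xgi32 ygi26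 zgi31) (kgi xgi27 ygi32 zgi10) (kgi xgi27 ygi51 zgi40) (kgi xgi27 ygi32 zgi47) (kgi xgi28 ygi22 zgi45) (kgi xgi17 ygi47 zgi3) (kgi xgi27 ygi34 zgi12) (kgi xgi17 ygi47 zgi4) (kgi xgi22 ygi34 zgi39) (kgi xgi18 ygi33 zgi14) (kgi xgi17 ygi47 zgi14) (kgi xgi27 ygi52 zgi37) (kgi xgi17 ygi47 zgi6)) (@D3.rec (fun _ => Pt) (kgi xgi18 ygi33 zgi23) (kgi xgi19 ygi17 zgi44) (kgi xgi19 ygi4 zgi56) (kgi xgi24 ygi48 zgi9) (kgi xgi26 ygi32 zgi35) (kgi xgi32 ygi26 zgi35) (kgi xgi27 ygi32 zgi24) (kgi xgi28 ygi25 zgi34) (kgi xgi26 ygi19 zgi30) (kgi xgi17 ygi47 zgi13) (kgi xgi18 ygi9 zgi36) (kgi xgi18 ygi35 zgi24) (kgi xgi27 ygi33 zgi54) (kgi xgi18 ygi35 zgi22) (kgi xgi18 ygi30 zgi43) (kgi xgi24 ygi50 zgi47) (kgi xgi28 ygi25 zgi52) (kgi xgi18 ygi14 zgi22)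 (kgi xgi17 ygi47 zgi47) (kgi xgi25 ygi34 zgi0) (kgi xgi19 ygi22 zgi38) (kgi xgi27 ygi33 zgi18) (kgi xgi28 ygi31 zgi55) (kgi xgi27 ygi33 zgi31) (kgi xgi25 ygi45 zgi17) (kgi xgi17 ygi47 zgi25) (kgi xgi27 ygi34 zgi25) (kgi xgi28 ygi4 zgi25) (kgi xgi27 ygi32 zgi61) (kgi xgi27 ygi32 zgi58) (kgi xgi17 ygi47 zgi51) (kgi xgi18 ygi51 zgi59) (kgi xgi17 ygi47 zgi39) (kgi xgi27 ygi32 zgi11) (kgi xgi27 ygi33 zgi9) (kgi xgi32 ygi26 zgi41) (kgi xgi17 ygi47 zgi32) (kgi xgi27 ygi32 zgi51) (kgi xgi27 ygi33 zgi48) (kgi xgi17 ygi47 zgi33) (kgi xgi17 ygi47 zgi34) (kgi xgi20 ygi21 zgi25) (kgi xgi20 ygi21 zgi22) (kgi xgi21 ygi13 zgi24) (kgi xgi27 ygi51 zgi9) (kgi xgi27 ygi51 zgi31) (kgi xgi27 ygi54 zgi8) (kgi xgi18 ygi16 zgi48) (kgi xgi30 ygi44 zgi36) (kgi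 xgi30 ygi35 zgi40) (kgi xgi27 ygi29 zgi44) (kgi xgi17 ygi47 zgi42) (kgi xgi32 ygi26 zgi1) (kgi xgi27 ygi32 zgi41) (kgi xgi18 ygi35 zgi33) (kgi xgi18 ygi15 zgi1) (kgi xgi22 ygi6 zgi30) (kgi xgi32 ygi26 zgi38) (kgi xgi23 ygi50 zgi35) (kgi xgi28 ygi7 zgi51) (kgi xgi27 ygi54 zgi18) (kgi xgi17 ygi47 zgi49)) (@D3.rec (fun _ => Pt) (kgi xgi27 ygi51 zgi28) (kgi xgi32 ygi26 zgi46) (kgi xgi18 ygi13 zgi58) (kgi xgi28 ygi6 zgi9) (kgi xgi17 ygi47 zgi52) (kgi xgi23 ygi36 zgi55) (kgi xgi27 ygi33 zgi26) (kgi xgi24 ygi28 zgi24) (kgi xgi29 ygi27 zgi40) (kgi xgi27 ygi40 zgi0) (kgi xgi19 ygi0 zgi28) (kgi xgi30 ygi40 zgi19) (kgi xgi27 ygi33 zgi1) (kgi xgi28 ygi6 zgi24) (kgi xgi28 ygi3 zgi19) (kgi xgi31 ygi59 zgi12) (kgi xgi17 ygi47 zgi60) (kgi xgi18 ygi30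 zgi35) (kgi xgi32 ygi26 zgi59) (kgi xgi27 ygi54 zgi35) (kgi xgi27 ygi56 zgi29) (kgi xgi18 ygi35 zgi26) (kgi xgi27 ygi56 zgi33) (kgi xgi23 ygi44 zgi3) (kgi xgi17 ygi48 zgi5) (kgi xgi18 ygi14 zgi17) (kgi xgi17 ygi49 zgi26) (kgi xgi17 ygi49 zgi42) (kgi xgi26 ygi35 zgi8) (kgi xgi26 ygi58 zgi44) (kgi xgi17 ygi49 zgi44) (kgi xgi17 ygi49 zgi32) (kgi xgi32 ygi13 zgi54) (kgi xgi22 ygi5 zgi33) (kgi xgi28 ygi10 zgi18) (kgi xgi17 ygi51 zgi31) (kgi xgi17 ygi51 zgi28) (kgi xgi17 ygi48 zgi39) (kgi xgi17 ygi48 zgi45) (kgi xgi29 ygi40 zgi37) (kgi xgi17 ygi51 zgi53) (kgi xgi27 ygi31 zgi5) (kgi xgi17 ygi52 zgi2) (kgi xgi27 ygi37 zgi41) (kgi xgi25 ygi45 zgi5) (kgi xgi28 ygi7 zgi52) (kgi xgi19 ygi20 zgi18) (kgi xgi17 ygi48 zgi37) (kgi xgi32 ygi27 zgi3)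 (kgi xgi31 ygi52 zgi51) (kgi xgi28 ygi25 zgi21) (kgi xgi21 ygi20 zgi18) (kgi xgi18 ygi48 zgi27) (kgi xgi31 ygi43 zgi13) (kgi xgi19 ygi31 zgi41) (kgi xgi26 ygi59 zgi35) (kgi xgi26 ygi40 zgi61) (kgi xgi26 ygi34 zgi52) (kgi xgi26 ygi36 zgi18) (kgi xgi26 ygi41 zgi49) (kgi xgi19 ygi11 zgi30) (kgi xgi19 ygi11 zgi19)) (@D3.rec (fun _ => Pt) (kgi xgi23 ygi19 zgi19) (kgi xgi20 ygi48 zgi60) (kgi xgi29 ygi40 zgi35) (kgi xgi28 ygi30 zgi6) (kgi xgi27 ygi31 zgi59) (kgi xgi28 ygi38 zgi47) (kgi xgi27 ygi36 zgi33) (kgi xgi30 ygi9 zgi35) (kgi xgi19 ygi42 zgi28) (kgi xgi18 ygi10 zgi26) (kgi xgi17 ygi49 zgi5) (kgi xgi29 ygi31 zgi40) (kgi xgi29 ygi22 zgi33) (kgi xgi19 ygi14 zgi61) (kgi xgi19 ygi35 zgi14) (kgi xgi17 ygi49 zgi40) (kgi xgi28 ygi19 zgi17)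 (kgi xgi32 ygi8 zgi5) (kgi xgi17 ygi49 zgi15) (kgi xgi18 ygi41 zgi40) (kgi xgi27 ygi59 zgi16) (kgi xgi17 ygi49 zgi16) (kgi xgi20 ygi51 zgi9) (kgi xgi27 ygi12 zgi54) (kgi xgi17 ygi49 zgi17) (kgi xgi26 ygi46 zgi11) (kgi xgi27 ygi37 zgi47) (kgi xgi19 ygi39 zgi5) (kgi xgi26 ygi28 zgi6) (kgi xgi17 ygi49 zgi27) (kgi xgi26 ygi35 zgi26) (kgi xgi25 ygi17 zgi33) (kgi xgi31 ygi28 zgi12) (kgi xgi27 ygi36 zgi5) (kgi xgi30 ygi54 zgi15) (kgi xgi25 ygi20 zgi9) (kgi xgi26 ygi59 zgi45) (kgi xgi27 ygi20 zgi14) (kgi xgi26 ygi59 zgi38) (kgi xgi30 ygi18 zgi13) (kgi xgi17 ygi49 zgi31) (kgi xgi17 ygi49 zgi39) (kgi xgi27 ygi38 zgi45) (kgi xgi28 ygi9 zgi20) (kgi xgi17 ygi49 zgi34) (kgi xgi32 ygi27 zgi2) (kgi xgi28 ygi6 zgi61) (kgi xgi27 ygi54 zgi27) (kgi xgi17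 ygi49 zgi38) (kgi xgi23 ygi5 zgi20) (kgi xgi17 ygi49 zgi46) (kgi xgi27 ygi38 zgi43) (kgi xgi30 ygi7 zgi9) (kgi xgi20 ygi53 zgi36) (kgi xgi20 ygi53 zgi33) (kgi xgi19 ygi10 zgi44) (kgi xgi26 ygi58 zgi34) (kgi xgi22 ygi21 zgi39) (kgi xgi31 ygi24 zgi31) (kgi xgi27 ygi1 zgi8) (kgi xgi29 ygi2 zgi23) (kgi xgi24 ygi3 zgi50)) (@D3.rec (fun _ => Pt) (kgi xgi18 ygi34 zgi40) (kgi xgi17 ygi49 zgi59) (kgi xgi32 ygi27 zgi16) (kgi xgi31 ygi41 zgi11) (kgi xgi32 ygi27 zgi17) (kgi xgi26 ygi54 zgi20) (kgi xgi26 ygi46 zgi58) (kgi xgi31 ygi21 zgi28) (kgi xgi24 ygi49 zgi52) (kgi xgi25 ygi52 zgi26) (kgi xgi29 ygi17 zgi57) (kgi xgi17 ygi50 zgi3) (kgi xgi25 ygi21 zgi18) (kgi xgi25 ygi21 zgi15) (kgi xgi19 ygi29 zgi20) (kgi xgi26 ygi16 zgi3) (kgi xgi19 ygi57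 zgi61) (kgi xgi19 ygi11 zgi51) (kgi xgi31 ygi58 zgi12) (kgi xgi31 ygi58 zgi28) (kgi xgi17 ygi50 zgi12) (kgi xgi31 ygi58 zgi30) (kgi xgi22 ygi21 zgi36) (kgi xgi17 ygi50 zgi13) (kgi xgi18 ygi33 zgi53) (kgi xgi25 ygi35 zgi16) (kgi xgi28 ygi52 zgi54) (kgi xgi18 ygi17 zgi15) (kgi xgi25 ygi35 zgi7) (kgi xgi24 ygi34 zgi8) (kgi xgi21 ygi25 zgi47) (kgi xgi27 ygi20 zgi3) (kgi xgi18 ygi25 zgi26) (kgi xgi20 ygi20 zgi16) (kgi xgi19 ygi44 zgi21) (kgi xgi17 ygi50 zgi50) (kgi xgi17 ygi51 zgi26) (kgi xgi17 ygi51 zgi15) (kgi xgi18 ygi22 zgi20) (kgi xgi26 ygi59 zgi12) (kgi xgi17 ygi50 zgi43) (kgi xgi27 ygi35 zgi46) (kgi xgi28 ygi54 zgi53) (kgi xgi18 ygi33 zgi49) (kgi xgi28 ygi11 zgi9) (kgi xgi27 ygi50 zgi54) (kgi xgi22 ygi54 zgi25) (kgi xgi17 ygi50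 zgi53) (kgi xgi27 ygi36 zgi26) (kgi xgi20 ygi35 zgi22) (kgi xgi28 ygi6 zgi42) (kgi xgi17 ygi50 zgi57) (kgi xgi28 ygi19 zgi16) (kgi xgi21 ygi27 zgi33) (kgi xgi26 ygi5 zgi49) (kgi xgi19 ygi17 zgi17) (kgi xgi32 ygi25 zgi53) (kgi xgi25 ygi25 zgi18) (kgi xgi27 ygi55 zgi12) (kgi xgi27 ygi53 zgi14) (kgi xgi26 ygi18 zgi36) (kgi xgi25 ygi54 zgi33)) (@D3.rec (fun _ => Pt) (kgi xgi26 ygi31 zgi38) (kgi xgi20 ygi46 zgi26) (kgi xgi25 ygi27 zgi56) (kgi xgi29 ygi26 zgi56) (kgi xgi30 ygi7 zgi8) (kgi xgi28 ygi10 zgi19) (kgi xgi27 ygi1 zgi32) (kgi xgi17 ygi51 zgi30) (kgi xgi27 ygi41 zgi6) (kgi xgi21 ygi50 zgi49) (kgi xgi25 ygi20 zgi3) (kgi xgi19 ygi59 zgi28) (kgi xgi31 ygi29 zgi50) (kgi xgi19 ygi58 zgi14) (kgi xgi19 ygi59 zgi32) (kgi xgi17 ygi51 zgi38)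 (kgi xgi25 ygi9 zgi25) (kgi xgi31 ygi30 zgi4) (kgi xgi29 ygi35 zgi31) (kgi xgi20 ygi51 zgi34) (kgi xgi25 ygi20 zgi11) (kgi xgi19 ygi57 zgi50) (kgi xgi24 ygi37 zgi44) (kgi xgi18 ygi29 zgi37) (kgi xgi26 ygi48 zgi28) (kgi xgi18 ygi27 zgi37) (kgi xgi27 ygi6 zgi5) (kgi xgi27 ygi44 zgi31) (kgi xgi28 ygi8 zgi3) (kgi xgi24 ygi58 zgi42) (kgi xgi28 ygi6 zgi44) (kgi xgi20 ygi47 zgi26) (kgi xgi27 ygi46 zgi15) (kgi xgi27 ygi29 zgi56) (kgi xgi21 ygi8 zgi10) (kgi xgi27 ygi51 zgi10) (kgi xgi20 ygi35 zgi18) (kgi xgi22 ygi9 zgi43) (kgi xgi25 ygi28 zgi10) (kgi xgi31 ygi55 zgi15) (kgi xgi25 ygi28 zgi22) (kgi xgi18 ygi50 zgi47) (kgi xgi27 ygi22 zgi29) (kgi xgi27 ygi53 zgi50) (kgi xgi18 ygi35 zgi39) (kgi xgi20 ygi21 zgi10) (kgi xgi27 ygi20 zgi30) (kgi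 xgi17 ygi52 zgi19) (kgi xgi27 ygi26 zgi7) (kgi xgi28 ygi23 zgi1) (kgi xgi18 ygi36 zgi8) (kgi xgi28 ygi10 zgi14) (kgi xgi26 ygi58 zgi25) (kgi xgi17 ygi52 zgi42) (kgi xgi17 ygi52 zgi39) (kgi xgi20 ygi34 zgi56) (kgi xgi28 ygi44 zgi57) (kgi xgi32 ygi0 zgi37) (kgi xgi20 ygi2 zgi20) (kgi xgi25 ygi43 zgi9) (kgi xgi19 ygi4 zgi1) (kgi xgi21 ygi12 zgi49)) (@D3.rec (fun _ => Pt) (kgi xgi18 ygi31 zgi16) (kgi xgi22 ygi5 zgi59) (kgi xgi18 ygi15 zgi19) (kgi xgi26 ygi39 zgi34) (kgi xgi29 ygi9 zgi43) (kgi xgi18 ygi2 zgi43) (kgi xgi30 ygi13 zgi21) (kgi xgi27 ygi44 zgi52) (kgi xgi26 ygi9 zgi41) (kgi xgi27 ygi3 zgi21) (kgi xgi29 ygi55 zgi3) (kgi xgi31 ygi37 zgi55) (kgi xgi17 ygi53 zgi11) (kgi xgi19 ygi53 zgi56) (kgi xgi27 ygi41 zgi12) (kgi xgi25 ygi9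 zgi59) (kgi xgi25 ygi38 zgi42) (kgi xgi20 ygi23 zgi26) (kgi xgi25 ygi11 zgi14) (kgi xgi26 ygi1 zgi55) (kgi xgi30 ygi12 zgi29) (kgi xgi29 ygi55 zgi47) (kgi xgi17 ygi53 zgi54) (kgi xgi26 ygi32 zgi18) (kgi xgi29 ygi55 zgi43) (kgi xgi23 ygi30 zgi39) (kgi xgi24 ygi44 zgi43) (kgi xgi24 ygi45 zgi48) (kgi xgi26 ygi16 zgi57) (kgi xgi26 ygi16 zgi11) (kgi xgi18 ygi37 zgi5) (kgi xgi24 ygi45 zgi37) (kgi xgi24 ygi45 zgi30) (kgi xgi26 ygi16 zgi9) (kgi xgi18 ygi37 zgi4) (kgi xgi18 ygi36 zgi42) (kgi xgi27 ygi17 zgi5) (kgi xgi31 ygi27 zgi42) (kgi xgi18 ygi28 zgi43) (kgi xgi17 ygi54 zgi11) (kgi xgi26 ygi16 zgi24) (kgi xgi32 ygi6 zgi5) (kgi xgi23 ygi51 zgi2) (kgi xgi26 ygi16 zgi38) (kgi xgi31 ygi59 zgi16) (kgi xgi31 ygi35 zgi22) (kgi xgi24 ygi44 zgi56)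 (kgi xgi26 ygi12 zgi29) (kgi xgi26 ygi13 zgi44) (kgi xgi28 ygi25 zgi35) (kgi xgi31 ygi47 zgi15) (kgi xgi26 ygi18 zgi14) (kgi xgi27 ygi36 zgi47) (kgi xgi27 ygi35 zgi9) (kgi xgi17 ygi54 zgi20) (kgi xgi17 ygi54 zgi26) (kgi xgi17 ygi54 zgi21) (kgi xgi26 ygi16 zgi16) (kgi xgi26 ygi16 zgi17) (kgi xgi31 ygi39 zgi17) (kgi xgi32 ygi27 zgi32) (kgi xgi17 ygi54 zgi23)) (@D3.rec (fun _ => Pt) (kgi xgi31 ygi1 zgi17) (kgi xgi29 ygi20 zgi25) (kgi xgi22 ygi18 zgi42) (kgi xgi18 ygi14 zgi55) (kgi xgi26 ygi20 zgi48) (kgi xgi31 ygi15 zgi25) (kgi xgi24 ygi46 zgi45) (kgi xgi31 ygi42 zgi50) (kgi xgi28 ygi27 zgi36) (kgi xgi17 ygi54 zgi30) (kgi xgi27 ygi49 zgi3) (kgi xgi31 ygi15 zgi34) (kgi xgi17 ygi54 zgi32) (kgi xgi24 ygi55 zgi37) (kgi xgi24 ygi56 zgi2)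 (kgi xgi29 ygi54 zgi26) (kgi xgi28 ygi12 zgi38) (kgi xgi29 ygi12 zgi10) (kgi xgi27 ygi48 zgi57) (kgi xgi17 ygi54 zgi43) (kgi xgi23 ygi4 zgi39) (kgi xgi23 ygi4 zgi40) (kgi xgi23 ygi19 zgi29) (kgi xgi23 ygi19 zgi4) (kgi xgi24 ygi57 zgi30) (kgi xgi19 ygi50 zgi14) (kgi xgi17 ygi54 zgi51) (kgi xgi22 ygi38 zgi36) (kgi xgi29 ygi27 zgi38) (kgi xgi22 ygi5 zgi7) (kgi xgi17 ygi55 zgi2) (kgi xgi25 ygi34 zgi38) (kgi xgi17 ygi55 zgi12) (kgi xgi23 ygi9 zgi7) (kgi xgi20 ygi7 zgi61) (kgi xgi26 ygi29 zgi28) (kgi xgi26 ygi31 zgi32) (kgi xgi26 ygi24 zgi54) (kgi xgi30 ygi2 zgi48) (kgi xgi26 ygi21 zgi59) (kgi xgi27 ygi47 zgi26) (kgi xgi17 ygi55 zgi22) (kgi xgi19 ygi18 zgi28) (kgi xgi31 ygi2 zgi56) (kgi xgi20 ygi4 zgi47) (kgi xgi23 ygi3 zgi29) (kgi xgi17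 ygi58 zgi46) (kgi xgi29 ygi26 zgi0) (kgi xgi31 ygi14 zgi21) (kgi xgi19 ygi22 zgi51) (kgi xgi17 ygi55 zgi50) (kgi xgi17 ygi55 zgi47) (kgi xgi23 ygi2 zgi35) (kgi xgi30 ygi37 zgi17) (kgi xgi23 ygi29 zgi21) (kgi xgi23 ygi30 zgi3) (kgi xgi23 ygi41 zgi28) (kgi xgi32 ygi27 zgi47) (kgi xgi17 ygi55 zgi54) (kgi xgi27 ygi29 zgi19) (kgi xgi27 ygi30 zgi26) (kgi xgi23 ygi29 zgi2)) (@D3.rec (fun _ => Pt) (kgi xgi32 ygi27 zgi49) (kgi xgi20 ygi51 zgi39) (kgi xgi23 ygi27 zgi43) (kgi xgi23 ygi46 zgi22) (kgi xgi18 ygi1 zgi1) (kgi xgi17 ygi56 zgi5) (kgi xgi27 ygi38 zgi7) (kgi xgi20 ygi50 zgi59) (kgi xgi30 ygi2 zgi51) (kgi xgi23 ygi26 zgi2) (kgi xgi30 ygi37 zgi32) (kgi xgi23 ygi35 zgi23) (kgi xgi29 ygi26 zgi36) (kgi xgi32 ygi3 zgi6) (kgi xgi26 ygi46 zgi49)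 (kgi xgi17 ygi56 zgi22) (kgi xgi18 ygi1 zgi56) (kgi xgi18 ygi1 zgi52) (kgi xgi18 ygi1 zgi50) (kgi xgi18 ygi2 zgi2) (kgi xgi17 ygi56 zgi39) (kgi xgi17 ygi56 zgi38) (kgi xgi26 ygi42 zgi35) (kgi xgi26 ygi22 zgi41) (kgi xgi29 ygi26 zgi47) (kgi xgi29 ygi24 zgi33) (kgi xgi26 ygi53 zgi1) (kgi xgi31 ygi1 zgi40) (kgi xgi29 ygi26 zgi48) (kgi xgi18 ygi23 zgi31) (kgi xgi18 ygi35 zgi0) (kgi xgi17 ygi56 zgi52) (kgi xgi30 ygi18 zgi2) (kgi xgi30 ygi18 zgi5) (kgi xgi29 ygi12 zgi32) (kgi xgi22 ygi17 zgi22) (kgi xgi22 ygi47 zgi28) (kgi xgi22 ygi46 zgi29) (kgi xgi21 ygi4 zgi11) (kgi xgi22 ygi17 zgi28) (kgi xgi30 ygi51 zgi12) (kgi xgi17 ygi57 zgi2) (kgi xgi26 ygi23 zgi57) (kgi xgi32 ygi6 zgi27) (kgi xgi19 ygi37 zgi5) (kgi xgi29 ygi27 zgi11) (kgi xgi31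 ygi6 zgi29) (kgi xgi24 ygi59 zgi47) (kgi xgi30 ygi27 zgi42) (kgi xgi26 ygi25 zgi21) (kgi xgi22 ygi17 zgi30) (kgi xgi26 ygi25 zgi40) (kgi xgi29 ygi53 zgi56) (kgi xgi24 ygi56 zgi19) (kgi xgi28 ygi34 zgi40) (kgi xgi30 ygi23 zgi0) (kgi xgi22 ygi16 zgi47) (kgi xgi17 ygi57 zgi19) (kgi xgi20 ygi25 zgi4) (kgi xgi26 ygi24 zgi21) (kgi xgi24 ygi39 zgi0) (kgi xgi25 ygi50 zgi53)) (@D3.rec (fun _ => Pt) (kgi xgi23 ygi10 zgi9) (kgi xgi22 ygi17 zgi26) (kgi xgi22 ygi17 zgi27) (kgi xgi25 ygi49 zgi25) (kgi xgi30 ygi21 zgi10) (kgi xgi31 ygi38 zgi36) (kgi xgi31 ygi49 zgi6) (kgi xgi22 ygi48 zgi10) (kgi xgi31 ygi38 zgi44) (kgi xgi22 ygi23 zgi22) (kgi xgi22 ygi30 zgi40) (kgi xgi22 ygi30 zgi45) (kgi xgi26 ygi25 zgi17) (kgi xgi17 ygi57 zgi44) (kgi xgi20 ygi24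 zgi17) (kgi xgi20 ygi5 zgi58) (kgi xgi17 ygi57 zgi50) (kgi xgi17 ygi57 zgi52) (kgi xgi30 ygi5 zgi30) (kgi xgi18 ygi25 zgi55) (kgi xgi20 ygi26 zgi16) (kgi xgi20 ygi38 zgi26) (kgi xgi23 ygi5 zgi6) (kgi xgi31 ygi37 zgi6) (kgi xgi26 ygi52 zgi30) (kgi xgi26 ygi56 zgi20) (kgi xgi26 ygi56 zgi19) (kgi xgi32 ygi27 zgi59) (kgi xgi25 ygi17 zgi17) (kgi xgi21 ygi49 zgi11) (kgi xgi19 ygi44 zgi30) (kgi xgi19 ygi45 zgi32) (kgi xgi29 ygi4 zgi10) (kgi xgi31 ygi53 zgi26) (kgi xgi22 ygi44 zgi39) (kgi xgi19 ygi35 zgi54) (kgi xgi26 ygi41 zgi42) (kgi xgi19 ygi31 zgi21) (kgi xgi25 ygi56 zgi29) (kgi xgi29 ygi16 zgi45) (kgi xgi29 ygi6 zgi55) (kgi xgi29 ygi23 zgi51) (kgi xgi25 ygi15 zgi2) (kgi xgi29 ygi41 zgi58) (kgi xgi23 ygi56 zgi6) (kgi xgi17 ygi59 zgi5)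 (kgi xgi31 ygi9 zgi41) (kgi xgi17 ygi59 zgi47) (kgi xgi21 ygi48 zgi6) (kgi xgi21 ygi47 zgi58) (kgi xgi31 ygi18 zgi36) (kgi xgi17 ygi59 zgi26) (kgi xgi20 ygi24 zgi2) (kgi xgi20 ygi24 zgi46) (kgi xgi20 ygi27 zgi3) (kgi xgi20 ygi22 zgi56) (kgi xgi20 ygi23 zgi61) (kgi xgi17 ygi59 zgi43) (kgi xgi30 ygi3 zgi59) (kgi xgi29 ygi28 zgi49) (kgi xgi23 ygi12 zgi7) (kgi xgi21 ygi36 zgi14)) (@D3.rec (fun _ => Pt) (kgi xgi23 ygi12 zgi10) (kgi xgi22 ygi23 zgi25) (kgi xgi23 ygi4 zgi48) (kgi xgi18 ygi0 zgi6) (kgi xgi27 ygi42 zgi28) (kgi xgi31 ygi51 zgi10) (kgi xgi22 ygi14 zgi40) (kgi xgi18 ygi0 zgi23) (kgi xgi30 ygi0 zgi8) (kgi xgi24 ygi4 zgi37) (kgi xgi30 ygi53 zgi15) (kgi xgi21 ygi54 zgi40) (kgi xgi32 ygi24 zgi18) (kgi xgi20 ygi15 zgi14) (kgi xgi20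 ygi13 zgi47) (kgi xgi29 ygi38 zgi38) (kgi xgi20 ygi42 zgi49) (kgi xgi18 ygi0 zgi40) (kgi xgi21 ygi9 zgi44) (kgi xgi30 ygi8 zgi17) (kgi xgi30 ygi12 zgi35) (kgi xgi19 ygi54 zgi47) (kgi xgi18 ygi0 zgi48) (kgi xgi26 ygi30 zgi9) (kgi xgi22 ygi3 zgi28) (kgi xgi28 ygi47 zgi28) (kgi xgi18 ygi0 zgi60) (kgi xgi20 ygi51 zgi43) (kgi xgi21 ygi42 zgi31) (kgi xgi18 ygi1 zgi3) (kgi xgi30 ygi8 zgi19) (kgi xgi22 ygi6 zgi0) (kgi xgi24 ygi36 zgi54) (kgi xgi30 ygi51 zgi27) (kgi xgi18 ygi15 zgi20) (kgi xgi18 ygi32 zgi39) (kgi xgi26 ygi44 zgi52) (kgi xgi26 ygi51 zgi43) (kgi xgi30 ygi14 zgi38) (kgi xgi18 ygi50 zgi44) (kgi xgi20 ygi53 zgi14) (kgi xgi20 ygi48 zgi39) (kgi xgi19 ygi5 zgi54) (kgi xgi28 ygi31 zgi34) (kgi xgi31 ygi34 zgi18) (kgi xgi28 ygi31 zgi27)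 (kgi xgi29 ygi1 zgi0) (kgi xgi29 ygi1 zgi1) (kgi xgi29 ygi15 zgi0) (kgi xgi20 ygi9 zgi16) (kgi xgi18 ygi1 zgi45) (kgi xgi31 ygi17 zgi35) (kgi xgi31 ygi45 zgi37) (kgi xgi18 ygi1 zgi46) (kgi xgi19 ygi43 zgi47) (kgi xgi18 ygi1 zgi47) (kgi xgi25 ygi4 zgi51) (kgi xgi25 ygi7 zgi26) (kgi xgi25 ygi4 zgi49) (kgi xgi29 ygi56 zgi30) (kgi xgi32 ygi22 zgi2) (kgi xgi18 ygi1 zgi49)) (@D3.rec (fun _ => Pt) (kgi xgi23 ygi39 zgi1) (kgi xgi18 ygi1 zgi61) (kgi xgi18 ygi1 zgi53) (kgi xgi23 ygi56 zgi33) (kgi xgi32 ygi18 zgi6) (kgi xgi24 ygi12 zgi28) (kgi xgi24 ygi58 zgi32) (kgi xgi20 ygi9 zgi18) (kgi xgi25 ygi6 zgi53) (kgi xgi19 ygi38 zgi14) (kgi xgi32 ygi28 zgi6) (kgi xgi25 ygi36 zgi7) (kgi xgi29 ygi23 zgi7) (kgi xgi18 ygi57 zgi3) (kgi xgi26 ygi56 zgi46)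 (kgi xgi31 ygi17 zgi12) (kgi xgi24 ygi33 zgi49) (kgi xgi18 ygi2 zgi23) (kgi xgi18 ygi2 zgi26) (kgi xgi21 ygi11 zgi27) (kgi xgi18 ygi2 zgi32) (kgi xgi24 ygi39 zgi42) (kgi xgi29 ygi20 zgi47) (kgi xgi32 ygi9 zgi52) (kgi xgi26 ygi32 zgi3) (kgi xgi26 ygi31 zgi6) (kgi xgi31 ygi39 zgi18) (kgi xgi19 ygi18 zgi24) (kgi xgi28 ygi41 zgi36) (kgi xgi27 ygi44 zgi49) (kgi xgi23 ygi58 zgi52) (kgi xgi19 ygi59 zgi6) (kgi xgi27 ygi38 zgi24) (kgi xgi27 ygi28 zgi42) (kgi xgi19 ygi18 zgi31) (kgi xgi25 ygi5 zgi16) (kgi xgi29 ygi5 zgi39) (kgi xgi27 ygi39 zgi12) (kgi xgi30 ygi58 zgi0) (kgi xgi32 ygi28 zgi14) (kgi xgi25 ygi1 zgi19) (kgi xgi32 ygi5 zgi0) (kgi xgi30 ygi42 zgi33) (kgi xgi25 ygi49 zgi34) (kgi xgi24 ygi26 zgi41) (kgi xgi25 ygi22 zgi29) (kgi xgi18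 ygi3 zgi2) (kgi xgi19 ygi14 zgi16) (kgi xgi18 ygi3 zgi3) (kgi xgi18 ygi3 zgi4) (kgi xgi27 ygi44 zgi29) (kgi xgi23 ygi22 zgi56) (kgi xgi27 ygi39 zgi5) (kgi xgi18 ygi3 zgi13) (kgi xgi26 ygi7 zgi35) (kgi xgi18 ygi30 zgi0) (kgi xgi30 ygi32 zgi47) (kgi xgi32 ygi28 zgi18) (kgi xgi30 ygi57 zgi46) (kgi xgi30 ygi32 zgi49) (kgi xgi23 ygi44 zgi49) (kgi xgi18 ygi3 zgi18)) (@D3.rec (fun _ => Pt) (kgi xgi32 ygi7 zgi17) (kgi xgi26 ygi15 zgi15) (kgi xgi18 ygi5 zgi27) (kgi xgi18 ygi5 zgi26) (kgi xgi32 ygi19 zgi48) (kgi xgi28 ygi1 zgi46) (kgi xgi31 ygi14 zgi19) (kgi xgi18 ygi5 zgi4) (kgi xgi21 ygi58 zgi44) (kgi xgi27 ygi40 zgi40) (kgi xgi18 ygi6 zgi5) (kgi xgi28 ygi1 zgi49) (kgi xgi18 ygi6 zgi17) (kgi xgi27 ygi48 zgi0) (kgi xgi18 ygi16 zgi16) (kgi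 xgi18 ygi4 zgi8) (kgi xgi18 ygi48 zgi28) (kgi xgi18 ygi7 zgi19) (kgi xgi27 ygi25 zgi59) (kgi xgi18 ygi3 zgi44) (kgi xgi18 ygi24 zgi61) (kgi xgi24 ygi44 zgi17) (kgi xgi32 ygi6 zgi17) (kgi xgi22 ygi18 zgi44) (kgi xgi18 ygi7 zgi2) (kgi xgi18 ygi7 zgi9) (kgi xgi18 ygi7 zgi6) (kgi xgi18 ygi7 zgi45) (kgi xgi19 ygi6 zgi34) (kgi xgi18 ygi4 zgi9) (kgi xgi32 ygi10 zgi12) (kgi xgi18 ygi8 zgi9) (kgi xgi22 ygi35 zgi0) (kgi xgi23 ygi51 zgi44) (kgi xgi23 ygi51 zgi45) (kgi xgi24 ygi56 zgi26) (kgi xgi27 ygi31 zgi11) (kgi xgi18 ygi3 zgi58) (kgi xgi25 ygi0 zgi47) (kgi xgi18 ygi6 zgi18) (kgi xgi18 ygi6 zgi40) (kgi xgi21 ygi25 zgi31) (kgi xgi31 ygi38 zgi22) (kgi xgi27 ygi31 zgi7) (kgi xgi29 ygi50 zgi59) (kgi xgi25 ygi49 zgi6) (kgi xgi18 ygi4 zgi7) (kgi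 xgi25 ygi3 zgi20) (kgi xgi21 ygi26 zgi51) (kgi xgi18 ygi6 zgi44) (kgi xgi31 ygi44 zgi58) (kgi xgi18 ygi4 zgi10) (kgi xgi18 ygi8 zgi20) (kgi xgi26 ygi14 zgi25) (kgi xgi27 ygi30 zgi57) (kgi xgi32 ygi6 zgi22) (kgi xgi28 ygi3 zgi35) (kgi xgi18 ygi4 zgi18) (kgi xgi27 ygi32 zgi25) (kgi xgi27 ygi11 zgi19) (kgi xgi26 ygi16 zgi7) (kgi xgi28 ygi5 zgi22)) (@D3.rec (fun _ => Pt) (kgi xgi26 ygi31 zgi15) (kgi xgi25 ygi0 zgi18) (kgi xgi27 ygi30 zgi1) (kgi xgi26 ygi21 zgi1) (kgi xgi27 ygi56 zgi18) (kgi xgi25 ygi0 zgi45) (kgi xgi18 ygi14 zgi11) (kgi xgi18 ygi28 zgi27) (kgi xgi18 ygi5 zgi25) (kgi xgi25 ygi0 zgi41) (kgi xgi28 ygi41 zgi35) (kgi xgi25 ygi0 zgi39) (kgi xgi28 ygi25 zgi53) (kgi xgi18 ygi5 zgi13) (kgi xgi26 ygi15 zgi43) (kgi xgi18 ygi4 zgi48)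 (kgi xgi32 ygi25 zgi12) (kgi xgi18 ygi4 zgi50) (kgi xgi27 ygi25 zgi19) (kgi xgi28 ygi15 zgi21) (kgi xgi18 ygi5 zgi21) (kgi xgi22 ygi47 zgi20) (kgi xgi25 ygi0 zgi52) (kgi xgi28 ygi21 zgi12) (kgi xgi22 ygi50 zgi21) (kgi xgi18 ygi28 zgi12) (kgi xgi28 ygi6 zgi30) (kgi xgi18 ygi4 zgi60) (kgi xgi27 ygi28 zgi36) (kgi xgi21 ygi23 zgi28) (kgi xgi21 ygi25 zgi40) (kgi xgi28 ygi18 zgi61) (kgi xgi28 ygi7 zgi4) (kgi xgi28 ygi7 zgi3) (kgi xgi29 ygi32 zgi51) (kgi xgi25 ygi0 zgi31) (kgi xgi27 ygi39 zgi25) (kgi xgi26 ygi15 zgi32) (kgi xgi31 ygi44 zgi34) (kgi xgi32 ygi3 zgi54) (kgi xgi18 ygi28 zgi55) (kgi xgi26 ygi29 zgi49) (kgi xgi21 ygi6 zgi32) (kgi xgi32 ygi7 zgi16) (kgi xgi31 ygi49 zgi60) (kgi xgi31 ygi34 zgi17) (kgi xgi28 ygi6 zgi32) (kgi xgi31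 ygi0 zgi57) (kgi xgi30 ygi2 zgi27) (kgi xgi30 ygi2 zgi33) (kgi xgi28 ygi3 zgi28) (kgi xgi25 ygi6 zgi24) (kgi xgi18 ygi5 zgi41) (kgi xgi31 ygi49 zgi56) (kgi xgi29 ygi43 zgi14) (kgi xgi32 ygi24 zgi35) (kgi xgi31 ygi29 zgi52) (kgi xgi24 ygi14 zgi22) (kgi xgi24 ygi43 zgi52) (kgi xgi31 ygi37 zgi44) (kgi xgi27 ygi23 zgi13) (kgi xgi25 ygi13 zgi47)) (@D3.rec (fun _ => Pt) (kgi xgi18 ygi7 zgi31) (kgi xgi18 ygi55 zgi58) (kgi xgi18 ygi55 zgi17) (kgi xgi19 ygi1 zgi13) (kgi xgi18 ygi6 zgi35) (kgi xgi18 ygi6 zgi22) (kgi xgi24 ygi55 zgi61) (kgi xgi19 ygi22 zgi25) (kgi xgi18 ygi45 zgi7) (kgi xgi30 ygi23 zgi13) (kgi xgi22 ygi35 zgi1) (kgi xgi25 ygi1 zgi5) (kgi xgi25 ygi1 zgi12) (kgi xgi18 ygi6 zgi4) (kgi xgi18 ygi6 zgi9) (kgi xgi19 ygi0 zgi38) (kgi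 xgi18 ygi6 zgi10) (kgi xgi18 ygi6 zgi12) (kgi xgi30 ygi45 zgi59) (kgi xgi30 ygi1 zgi16) (kgi xgi27 ygi28 zgi54) (kgi xgi24 ygi36 zgi6) (kgi xgi18 ygi6 zgi16) (kgi xgi21 ygi21 zgi15) (kgi xgi18 ygi16 zgi25) (kgi xgi19 ygi0 zgi39) (kgi xgi25 ygi41 zgi15) (kgi xgi31 ygi35 zgi21) (kgi xgi27 ygi44 zgi42) (kgi xgi27 ygi47 zgi22) (kgi xgi18 ygi6 zgi33) (kgi xgi18 ygi16 zgi55) (kgi xgi31 ygi6 zgi61) (kgi xgi27 ygi56 zgi7) (kgi xgi28 ygi7 zgi5) (kgi xgi23 ygi34 zgi9) (kgi xgi25 ygi1 zgi35) (kgi xgi27 ygi46 zgi25) (kgi xgi18 ygi6 zgi43) (kgi xgi18 ygi6 zgi47) (kgi xgi25 ygi23 zgi59) (kgi xgi32 ygi6 zgi28) (kgi xgi27 ygi56 zgi51) (kgi xgi18 ygi6 zgi45) (kgi xgi27 ygi53 zgi24) (kgi xgi26 ygi4 zgi38) (kgi xgi31 ygi37 zgi17) (kgi xgi19 ygi6 zgi19)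 (kgi xgi27 ygi35 zgi12) (kgi xgi18 ygi6 zgi53) (kgi xgi31 ygi39 zgi16) (kgi xgi26 ygi24 zgi5) (kgi xgi24 ygi13 zgi8) (kgi xgi29 ygi20 zgi51) (kgi xgi26 ygi13 zgi37) (kgi xgi18 ygi6 zgi56) (kgi xgi26 ygi8 zgi33) (kgi xgi27 ygi26 zgi49) (kgi xgi30 ygi3 zgi29) (kgi xgi25 ygi15 zgi40) (kgi xgi19 ygi0 zgi37) (kgi xgi19 ygi22 zgi23)) (@D3.rec (fun _ => Pt) (kgi xgi27 ygi20 zgi34) (kgi xgi21 ygi26 zgi9) (kgi xgi27 ygi31 zgi17) (kgi xgi19 ygi22 zgi53) (kgi xgi28 ygi2 zgi23) (kgi xgi27 ygi45 zgi22) (kgi xgi25 ygi1 zgi26) (kgi xgi28 ygi4 zgi9) (kgi xgi24 ygi45 zgi50) (kgi xgi18 ygi56 zgi47) (kgi xgi29 ygi22 zgi35) (kgi xgi21 ygi45 zgi52) (kgi xgi21 ygi26 zgi12) (kgi xgi31 ygi6 zgi54) (kgi xgi19 ygi1 zgi31) (kgi xgi23 ygi54 zgi6) (kgi xgi26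 ygi16 zgi53) (kgi xgi18 ygi7 zgi55) (kgi xgi31 ygi38 zgi14) (kgi xgi18 ygi7 zgi59) (kgi xgi29 ygi17 zgi25) (kgi xgi30 ygi5 zgi29) (kgi xgi18 ygi16 zgi28) (kgi xgi25 ygi53 zgi46) (kgi xgi32 ygi28 zgi36) (kgi xgi27 ygi38 zgi47) (kgi xgi28 ygi2 zgi55) (kgi xgi32 ygi6 zgi19) (kgi xgi24 ygi56 zgi23) (kgi xgi25 ygi3 zgi17) (kgi xgi18 ygi8 zgi10) (kgi xgi31 ygi37 zgi21) (kgi xgi18 ygi8 zgi15) (kgi xgi30 ygi56 zgi49) (kgi xgi26 ygi19 zgi13) (kgi xgi18 ygi8 zgi19) (kgi xgi26 ygi14 zgi37) (kgi xgi30 ygi8 zgi34) (kgi xgi27 ygi47 zgi59) (kgi xgi31 ygi35 zgi44) (kgi xgi32 ygi6 zgi55) (kgi xgi26 ygi15 zgi35) (kgi xgi27 ygi48 zgi52) (kgi xgi31 ygi8 zgi16) (kgi xgi21 ygi55 zgi41) (kgi xgi27 ygi46 zgi48) (kgi xgi22 ygi11 zgi2) (kgi xgi18 ygi8 zgi30)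 (kgi xgi25 ygi1 zgi57) (kgi xgi31 ygi42 zgi26) (kgi xgi23 ygi37 zgi57) (kgi xgi31 ygi44 zgi4) (kgi xgi25 ygi46 zgi1) (kgi xgi30 ygi23 zgi22) (kgi xgi26 ygi18 zgi3) (kgi xgi25 ygi3 zgi24) (kgi xgi32 ygi24 zgi56) (kgi xgi27 ygi46 zgi8) (kgi xgi32 ygi6 zgi13) (kgi xgi18 ygi8 zgi40) (kgi xgi18 ygi8 zgi43) (kgi xgi32 ygi28 zgi40)) (@D3.rec (fun _ => Pt) (kgi xgi32 ygi6 zgi37) (kgi xgi28 ygi5 zgi3) (kgi xgi27 ygi46 zgi20) (kgi xgi27 ygi40 zgi9) (kgi xgi18 ygi8 zgi45) (kgi xgi25 ygi1 zgi27) (kgi xgi22 ygi51 zgi56) (kgi xgi23 ygi34 zgi16) (kgi xgi32 ygi7 zgi47) (kgi xgi18 ygi27 zgi34) (kgi xgi23 ygi34 zgi17) (kgi xgi29 ygi25 zgi14) (kgi xgi30 ygi45 zgi23) (kgi xgi18 ygi8 zgi56) (kgi xgi32 ygi28 zgi41) (kgi xgi21 ygi10 zgi53) (kgi xgi32 ygi10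 zgi16) (kgi xgi28 ygi21 zgi31) (kgi xgi26 ygi4 zgi28) (kgi xgi28 ygi8 zgi16) (kgi xgi18 ygi8 zgi59) (kgi xgi28 ygi7 zgi15) (kgi xgi27 ygi33 zgi49) (kgi xgi28 ygi8 zgi14) (kgi xgi28 ygi7 zgi29) (kgi xgi28 ygi8 zgi13) (kgi xgi18 ygi45 zgi36) (kgi xgi32 ygi28 zgi45) (kgi xgi18 ygi9 zgi6) (kgi xgi32 ygi28 zgi47) (kgi xgi28 ygi58 zgi49) (kgi xgi28 ygi5 zgi14) (kgi xgi29 ygi20 zgi61) (kgi xgi31 ygi32 zgi56) (kgi xgi25 ygi31 zgi38) (kgi xgi18 ygi9 zgi9) (kgi xgi18 ygi12 zgi27) (kgi xgi32 ygi25 zgi36) (kgi xgi18 ygi12 zgi22) (kgi xgi24 ygi58 zgi49) (kgi xgi31 ygi7 zgi45) (kgi xgi31 ygi39 zgi15) (kgi xgi20 ygi10 zgi41) (kgi xgi24 ygi13 zgi27) (kgi xgi31 ygi54 zgi20) (kgi xgi25 ygi34 zgi9) (kgi xgi32 ygi28 zgi51) (kgi xgi28 ygi6 zgi38) (kgi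 xgi21 ygi9 zgi15) (kgi xgi26 ygi18 zgi32) (kgi xgi18 ygi9 zgi24) (kgi xgi18 ygi34 zgi22) (kgi xgi27 ygi59 zgi13) (kgi xgi32 ygi1 zgi44) (kgi xgi31 ygi25 zgi16) (kgi xgi18 ygi12 zgi8) (kgi xgi32 ygi25 zgi50) (kgi xgi28 ygi28 zgi41) (kgi xgi28 ygi22 zgi2) (kgi xgi24 ygi40 zgi35) (kgi xgi18 ygi9 zgi33) (kgi xgi27 ygi32 zgi29)) (@D3.rec (fun _ => Pt) (kgi xgi27 ygi32 zgi27) (kgi xgi30 ygi35 zgi38) (kgi xgi32 ygi25 zgi43) (kgi xgi26 ygi4 zgi23) (kgi xgi21 ygi12 zgi46) (kgi xgi18 ygi35 zgi29) (kgi xgi30 ygi5 zgi0) (kgi xgi31 ygi14 zgi39) (kgi xgi18 ygi9 zgi41) (kgi xgi28 ygi7 zgi19) (kgi xgi32 ygi7 zgi32) (kgi xgi23 ygi50 zgi29) (kgi xgi30 ygi44 zgi48) (kgi xgi27 ygi56 zgi34) (kgi xgi27 ygi33 zgi37) (kgi xgi26 ygi18 zgi25) (kgi xgi18 ygi34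 zgi17) (kgi xgi23 ygi50 zgi26) (kgi xgi27 ygi38 zgi61) (kgi xgi27 ygi34 zgi24) (kgi xgi19 ygi6 zgi20) (kgi xgi18 ygi9 zgi55) (kgi xgi22 ygi15 zgi23) (kgi xgi20 ygi11 zgi2) (kgi xgi31 ygi14 zgi61) (kgi xgi29 ygi32 zgi53) (kgi xgi18 ygi9 zgi56) (kgi xgi27 ygi33 zgi30) (kgi xgi26 ygi14 zgi49) (kgi xgi26 ygi13 zgi59) (kgi xgi27 ygi36 zgi34) (kgi xgi18 ygi53 zgi23) (kgi xgi25 ygi1 zgi6) (kgi xgi28 ygi2 zgi31) (kgi xgi27 ygi51 zgi11) (kgi xgi18 ygi10 zgi9) (kgi xgi18 ygi10 zgi12) (kgi xgi23 ygi37 zgi46) (kgi xgi18 ygi11 zgi13) (kgi xgi18 ygi12 zgi6) (kgi xgi18 ygi13 zgi28) (kgi xgi28 ygi36 zgi51) (kgi xgi20 ygi49 zgi13) (kgi xgi28 ygi7 zgi1) (kgi xgi18 ygi56 zgi53) (kgi xgi18 ygi38 zgi44) (kgi xgi18 ygi56 zgi52) (kgi xgi26 ygi50 zgi7) (kgi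 xgi28 ygi30 zgi55) (kgi xgi24 ygi59 zgi1) (kgi xgi19 ygi42 zgi30) (kgi xgi28 ygi24 zgi47) (kgi xgi18 ygi57 zgi44) (kgi xgi31 ygi16 zgi17) (kgi xgi18 ygi12 zgi40) (kgi xgi18 ygi10 zgi61) (kgi xgi18 ygi10 zgi44) (kgi xgi28 ygi7 zgi61) (kgi xgi32 ygi9 zgi33) (kgi xgi22 ygi5 zgi57) (kgi xgi32 ygi10 zgi6) (kgi xgi18 ygi10 zgi51)) (@D3.rec (fun _ => Pt) (kgi xgi18 ygi12 zgi58) (kgi xgi28 ygi36 zgi32) (kgi xgi28 ygi6 zgi49) (kgi xgi26 ygi41 zgi41) (kgi xgi21 ygi3 zgi47) (kgi xgi18 ygi10 zgi58) (kgi xgi27 ygi59 zgi10) (kgi xgi18 ygi38 zgi45) (kgi xgi18 ygi10 zgi59) (kgi xgi32 ygi26 zgi6) (kgi xgi27 ygi38 zgi26) (kgi xgi27 ygi51 zgi21) (kgi xgi29 ygi31 zgi19) (kgi xgi28 ygi25 zgi47) (kgi xgi27 ygi34 zgi44) (kgi xgi32 ygi29 zgi6) (kgi xgi26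 ygi55 zgi17) (kgi xgi22 ygi36 zgi12) (kgi xgi27 ygi59 zgi30) (kgi xgi18 ygi48 zgi32) (kgi xgi26 ygi4 zgi24) (kgi xgi28 ygi2 zgi21) (kgi xgi20 ygi38 zgi25) (kgi xgi28 ygi7 zgi6) (kgi xgi18 ygi31 zgi2) (kgi xgi27 ygi52 zgi9) (kgi xgi27 ygi52 zgi1) (kgi xgi24 ygi48 zgi26) (kgi xgi27 ygi34 zgi61) (kgi xgi18 ygi11 zgi17) (kgi xgi24 ygi48 zgi25) (kgi xgi18 ygi11 zgi18) (kgi xgi27 ygi34 zgi45) (kgi xgi30 ygi41 zgi32) (kgi xgi18 ygi11 zgi19) (kgi xgi28 ygi4 zgi39) (kgi xgi32 ygi29 zgi19) (kgi xgi19 ygi10 zgi20) (kgi xgi31 ygi8 zgi38) (kgi xgi18 ygi33 zgi60) (kgi xgi18 ygi35 zgi23) (kgi xgi28 ygi5 zgi30) (kgi xgi27 ygi54 zgi36) (kgi xgi32 ygi29 zgi22) (kgi xgi28 ygi4 zgi45) (kgi xgi27 ygi33 zgi47) (kgi xgi18 ygi11 zgi24) (kgi xgi28 ygi4 zgi44)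 (kgi xgi32 ygi20 zgi3) (kgi xgi21 ygi12 zgi9) (kgi xgi18 ygi11 zgi25) (kgi xgi27 ygi54 zgi57) (kgi xgi18 ygi11 zgi26) (kgi xgi18 ygi12 zgi19) (kgi xgi30 ygi26 zgi20) (kgi xgi18 ygi11 zgi27) (kgi xgi18 ygi12 zgi25) (kgi xgi18 ygi12 zgi38) (kgi xgi26 ygi4 zgi26) (kgi xgi27 ygi37 zgi60) (kgi xgi26 ygi29 zgi44) (kgi xgi18 ygi11 zgi32)) (@D3.rec (fun _ => Pt) (kgi xgi28 ygi5 zgi17) (kgi xgi22 ygi18 zgi4) (kgi xgi26 ygi30 zgi6) (kgi xgi29 ygi54 zgi32) (kgi xgi18 ygi31 zgi3) (kgi xgi19 ygi22 zgi37) (kgi xgi31 ygi44 zgi44) (kgi xgi28 ygi45 zgi25) (kgi xgi28 ygi6 zgi19) (kgi xgi27 ygi51 zgi24) (kgi xgi32 ygi29 zgi35) (kgi xgi29 ygi24 zgi26) (kgi xgi18 ygi11 zgi39) (kgi xgi22 ygi49 zgi48) (kgi xgi32 ygi26 zgi15) (kgi xgi32 ygi29 zgi34) (kgi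 xgi18 ygi11 zgi40) (kgi xgi28 ygi5 zgi0) (kgi xgi31 ygi59 zgi18) (kgi xgi25 ygi48 zgi8) (kgi xgi28 ygi4 zgi21) (kgi xgi18 ygi13 zgi42) (kgi xgi32 ygi28 zgi60) (kgi xgi18 ygi13 zgi26) (kgi xgi28 ygi2 zgi19) (kgi xgi28 ygi4 zgi41) (kgi xgi30 ygi59 zgi54) (kgi xgi26 ygi19 zgi45) (kgi xgi21 ygi12 zgi44) (kgi xgi18 ygi11 zgi50) (kgi xgi27 ygi55 zgi3) (kgi xgi20 ygi3 zgi4) (kgi xgi21 ygi12 zgi41) (kgi xgi31 ygi42 zgi7) (kgi xgi18 ygi11 zgi52) (kgi xgi27 ygi55 zgi10) (kgi xgi31 ygi18 zgi7) (kgi xgi18 ygi11 zgi53) (kgi xgi27 ygi33 zgi60) (kgi xgi32 ygi28 zgi20) (kgi xgi18 ygi12 zgi0) (kgi xgi23 ygi50 zgi55) (kgi xgi30 ygi45 zgi21) (kgi xgi18 ygi11 zgi58) (kgi xgi28 ygi9 zgi26) (kgi xgi18 ygi13 zgi20) (kgi xgi32 ygi29 zgi9) (kgi xgi28 ygi5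 zgi36) (kgi xgi32 ygi29 zgi45) (kgi xgi28 ygi46 zgi25) (kgi xgi20 ygi10 zgi59) (kgi xgi28 ygi5 zgi39) (kgi xgi31 ygi25 zgi42) (kgi xgi28 ygi54 zgi4) (kgi xgi28 ygi32 zgi14) (kgi xgi26 ygi30 zgi34) (kgi xgi18 ygi12 zgi11) (kgi xgi21 ygi10 zgi26) (kgi xgi18 ygi12 zgi12) (kgi xgi18 ygi34 zgi26) (kgi xgi18 ygi34 zgi24) (kgi xgi32 ygi29 zgi50)) (@D3.rec (fun _ => Pt) (kgi xgi30 ygi49 zgi22) (kgi xgi21 ygi10 zgi40) (kgi xgi24 ygi12 zgi18) (kgi xgi32 ygi0 zgi31) (kgi xgi31 ygi25 zgi2) (kgi xgi24 ygi13 zgi28) (kgi xgi28 ygi32 zgi13) (kgi xgi31 ygi17 zgi36) (kgi xgi30 ygi26 zgi23) (kgi xgi18 ygi12 zgi20) (kgi xgi28 ygi5 zgi21) (kgi xgi29 ygi52 zgi51) (kgi xgi31 ygi54 zgi19) (kgi xgi32 ygi29 zgi60) (kgi xgi20 ygi11 zgi3) (kgi xgi29 ygi18 zgi33)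 (kgi xgi22 ygi55 zgi42) (kgi xgi32 ygi10 zgi23) (kgi xgi18 ygi15 zgi7) (kgi xgi20 ygi11 zgi5) (kgi xgi18 ygi12 zgi45) (kgi xgi32 ygi27 zgi37) (kgi xgi29 ygi2 zgi22) (kgi xgi18 ygi12 zgi41) (kgi xgi24 ygi48 zgi3) (kgi xgi18 ygi12 zgi46) (kgi xgi28 ygi6 zgi57) (kgi xgi28 ygi6 zgi55) (kgi xgi18 ygi13 zgi59) (kgi xgi21 ygi32 zgi23) (kgi xgi28 ygi1 zgi35) (kgi xgi23 ygi47 zgi37) (kgi xgi23 ygi46 zgi51) (kgi xgi28 ygi36 zgi46) (kgi xgi27 ygi29 zgi23) (kgi xgi19 ygi5 zgi23) (kgi xgi27 ygi34 zgi16) (kgi xgi30 ygi31 zgi60) (kgi xgi18 ygi13 zgi6) (kgi xgi18 ygi13 zgi7) (kgi xgi18 ygi14 zgi32) (kgi xgi32 ygi26 zgi57) (kgi xgi32 ygi30 zgi5) (kgi xgi18 ygi13 zgi9) (kgi xgi30 ygi5 zgi3) (kgi xgi23 ygi50 zgi52) (kgi xgi18 ygi13 zgi12) (kgi xgi30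 ygi45 zgi19) (kgi xgi32 ygi7 zgi20) (kgi xgi30 ygi7 zgi30) (kgi xgi32 ygi27 zgi12) (kgi xgi30 ygi45 zgi18) (kgi xgi20 ygi11 zgi18) (kgi xgi23 ygi50 zgi30) (kgi xgi28 ygi5 zgi31) (kgi xgi18 ygi13 zgi23) (kgi xgi18 ygi13 zgi25) (kgi xgi28 ygi32 zgi7) (kgi xgi22 ygi49 zgi38) (kgi xgi20 ygi10 zgi40) (kgi xgi28 ygi46 zgi34) (kgi xgi23 ygi49 zgi37)) (@D3.rec (fun _ => Pt) (kgi xgi23 ygi50 zgi7) (kgi xgi22 ygi24 zgi61) (kgi xgi32 ygi29 zgi37) (kgi xgi28 ygi31 zgi49) (kgi xgi28 ygi21 zgi32) (kgi xgi18 ygi16 zgi50) (kgi xgi31 ygi37 zgi12) (kgi xgi27 ygi34 zgi51) (kgi xgi27 ygi34 zgi53) (kgi xgi32 ygi29 zgi39) (kgi xgi28 ygi46 zgi57) (kgi xgi23 ygi49 zgi39) (kgi xgi18 ygi13 zgi61) (kgi xgi18 ygi13 zgi48) (kgi xgi18 ygi15 zgi10) (kgi xgi31 ygi11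 zgi23) (kgi xgi27 ygi34 zgi60) (kgi xgi22 ygi10 zgi41) (kgi xgi27 ygi33 zgi24) (kgi xgi18 ygi14 zgi5) (kgi xgi30 ygi52 zgi58) (kgi xgi18 ygi56 zgi44) (kgi xgi32 ygi30 zgi1) (kgi xgi28 ygi17 zgi2) (kgi xgi29 ygi9 zgi3) (kgi xgi27 ygi34 zgi27) (kgi xgi30 ygi45 zgi25) (kgi xgi32 ygi27 zgi35) (kgi xgi31 ygi3 zgi48) (kgi xgi31 ygi23 zgi34) (kgi xgi32 ygi28 zgi22) (kgi xgi18 ygi14 zgi13) (kgi xgi28 ygi9 zgi21) (kgi xgi18 ygi15 zgi26) (kgi xgi26 ygi32 zgi11) (kgi xgi32 ygi25 zgi41) (kgi xgi27 ygi51 zgi39) (kgi xgi18 ygi31 zgi40) (kgi xgi18 ygi14 zgi21) (kgi xgi28 ygi8 zgi7) (kgi xgi18 ygi14 zgi23) (kgi xgi18 ygi14 zgi52) (kgi xgi18 ygi58 zgi12) (kgi xgi18 ygi14 zgi47) (kgi xgi18 ygi14 zgi33) (kgi xgi28 ygi28 zgi44) (kgi xgi32 ygi26 zgi54)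 (kgi xgi28 ygi8 zgi23) (kgi xgi26 ygi30 zgi54) (kgi xgi24 ygi53 zgi53) (kgi xgi32 ygi30 zgi8) (kgi xgi32 ygi30 zgi15) (kgi xgi25 ygi26 zgi31) (kgi xgi20 ygi19 zgi3) (kgi xgi22 ygi33 zgi37) (kgi xgi32 ygi17 zgi14) (kgi xgi31 ygi53 zgi20) (kgi xgi18 ygi14 zgi41) (kgi xgi27 ygi51 zgi51) (kgi xgi27 ygi51 zgi50) (kgi xgi28 ygi8 zgi50) (kgi xgi31 ygi15 zgi22)) (@D3.rec (fun _ => Pt) (kgi xgi32 ygi7 zgi4) (kgi xgi18 ygi14 zgi44) (kgi xgi18 ygi30 zgi40) (kgi xgi27 ygi52 zgi29) (kgi xgi18 ygi14 zgi46) (kgi xgi25 ygi48 zgi5) (kgi xgi32 ygi30 zgi21) (kgi xgi18 ygi14 zgi48) (kgi xgi25 ygi48 zgi12) (kgi xgi31 ygi14 zgi29) (kgi xgi27 ygi52 zgi34) (kgi xgi25 ygi54 zgi43) (kgi xgi32 ygi27 zgi27) (kgi xgi32 ygi28 zgi43) (kgi xgi27 ygi37 zgi58) (kgi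 xgi18 ygi14 zgi53) (kgi xgi28 ygi8 zgi20) (kgi xgi31 ygi42 zgi47) (kgi xgi28 ygi32 zgi6) (kgi xgi32 ygi30 zgi23) (kgi xgi30 ygi35 zgi25) (kgi xgi32 ygi26 zgi44) (kgi xgi18 ygi32 zgi40) (kgi xgi18 ygi15 zgi0) (kgi xgi28 ygi4 zgi31) (kgi xgi27 ygi33 zgi5) (kgi xgi20 ygi7 zgi6) (kgi xgi27 ygi55 zgi30) (kgi xgi25 ygi31 zgi44) (kgi xgi18 ygi32 zgi20) (kgi xgi28 ygi9 zgi13) (kgi xgi18 ygi15 zgi21) (kgi xgi31 ygi10 zgi60) (kgi xgi18 ygi15 zgi18) (kgi xgi28 ygi31 zgi54) (kgi xgi31 ygi39 zgi22) (kgi xgi27 ygi33 zgi14) (kgi xgi23 ygi12 zgi38) (kgi xgi21 ygi51 zgi40) (kgi xgi20 ygi40 zgi27) (kgi xgi27 ygi42 zgi57) (kgi xgi21 ygi12 zgi48) (kgi xgi22 ygi20 zgi24) (kgi xgi24 ygi46 zgi0) (kgi xgi28 ygi26 zgi10) (kgi xgi27 ygi58 zgi42) (kgi xgi27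 ygi59 zgi61) (kgi xgi30 ygi43 zgi60) (kgi xgi18 ygi15 zgi56) (kgi xgi28 ygi26 zgi11) (kgi xgi18 ygi38 zgi56) (kgi xgi18 ygi15 zgi58) (kgi xgi22 ygi30 zgi53) (kgi xgi30 ygi33 zgi31) (kgi xgi27 ygi58 zgi43) (kgi xgi23 ygi11 zgi47) (kgi xgi27 ygi21 zgi18) (kgi xgi30 ygi15 zgi7) (kgi xgi28 ygi6 zgi31) (kgi xgi18 ygi16 zgi15) (kgi xgi27 ygi3 zgi38) (kgi xgi18 ygi16 zgi20)) (@D3.rec (fun _ => Pt) (kgi xgi19 ygi11 zgi47) (kgi xgi19 ygi47 zgi44) (kgi xgi21 ygi25 zgi38) (kgi xgi21 ygi25 zgi54) (kgi xgi23 ygi51 zgi54) (kgi xgi26 ygi42 zgi34) (kgi xgi27 ygi30 zgi52) (kgi xgi26 ygi20 zgi49) (kgi xgi23 ygi51 zgi16) (kgi xgi21 ygi51 zgi58) (kgi xgi18 ygi16 zgi56) (kgi xgi28 ygi27 zgi35) (kgi xgi27 ygi47 zgi15) (kgi xgi31 ygi55 zgi51) (kgi xgi25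 ygi15 zgi52) (kgi xgi27 ygi47 zgi4) (kgi xgi31 ygi15 zgi42) (kgi xgi28 ygi3 zgi56) (kgi xgi26 ygi13 zgi26) (kgi xgi18 ygi34 zgi49) (kgi xgi18 ygi25 zgi28) (kgi xgi28 ygi10 zgi23) (kgi xgi18 ygi24 zgi53) (kgi xgi27 ygi15 zgi28) (kgi xgi23 ygi11 zgi43) (kgi xgi26 ygi54 zgi5) (kgi xgi31 ygi13 zgi17) (kgi xgi28 ygi10 zgi24) (kgi xgi32 ygi30 zgi24) (kgi xgi18 ygi17 zgi35) (kgi xgi27 ygi35 zgi20) (kgi xgi32 ygi30 zgi31) (kgi xgi32 ygi30 zgi34) (kgi xgi18 ygi17 zgi36) (kgi xgi27 ygi50 zgi6) (kgi xgi18 ygi35 zgi15) (kgi xgi21 ygi35 zgi21) (kgi xgi18 ygi17 zgi42) (kgi xgi25 ygi16 zgi60) (kgi xgi23 ygi31 zgi2) (kgi xgi29 ygi42 zgi23) (kgi xgi24 ygi23 zgi35) (kgi xgi20 ygi59 zgi45) (kgi xgi26 ygi23 zgi34) (kgi xgi23 ygi16 zgi41) (kgi xgi18 ygi17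 zgi57) (kgi xgi28 ygi0 zgi31) (kgi xgi28 ygi11 zgi36) (kgi xgi26 ygi47 zgi41) (kgi xgi24 ygi34 zgi1) (kgi xgi29 ygi59 zgi41) (kgi xgi22 ygi31 zgi15) (kgi xgi26 ygi1 zgi12) (kgi xgi22 ygi4 zgi27) (kgi xgi25 ygi11 zgi56) (kgi xgi24 ygi23 zgi2) (kgi xgi19 ygi24 zgi56) (kgi xgi26 ygi6 zgi59) (kgi xgi22 ygi45 zgi48) (kgi xgi23 ygi46 zgi56) (kgi xgi28 ygi0 zgi33) (kgi xgi18 ygi18 zgi38)) (@D3.rec (fun _ => Pt) (kgi xgi19 ygi55 zgi1) (kgi xgi20 ygi55 zgi57) (kgi xgi20 ygi55 zgi59) (kgi xgi25 ygi42 zgi28) (kgi xgi28 ygi0 zgi39) (kgi xgi26 ygi25 zgi8) (kgi xgi26 ygi41 zgi2) (kgi xgi18 ygi18 zgi23) (kgi xgi26 ygi6 zgi50) (kgi xgi24 ygi19 zgi58) (kgi xgi28 ygi11 zgi40) (kgi xgi26 ygi9 zgi1) (kgi xgi26 ygi8 zgi48) (kgi xgi21 ygi12 zgi58) (kgi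 xgi23 ygi30 zgi59) (kgi xgi23 ygi59 zgi2) (kgi xgi26 ygi9 zgi4) (kgi xgi31 ygi44 zgi59) (kgi xgi31 ygi11 zgi49) (kgi xgi21 ygi6 zgi44) (kgi xgi20 ygi24 zgi13) (kgi xgi20 ygi23 zgi30) (kgi xgi26 ygi40 zgi27) (kgi xgi19 ygi23 zgi33) (kgi xgi24 ygi23 zgi56) (kgi xgi25 ygi2 zgi22) (kgi xgi27 ygi47 zgi51) (kgi xgi27 ygi56 zgi52) (kgi xgi22 ygi30 zgi46) (kgi xgi22 ygi30 zgi55) (kgi xgi18 ygi22 zgi52) (kgi xgi28 ygi26 zgi8) (kgi xgi25 ygi2 zgi21) (kgi xgi23 ygi21 zgi17) (kgi xgi25 ygi14 zgi37) (kgi xgi24 ygi18 zgi57) (kgi xgi18 ygi23 zgi40) (kgi xgi18 ygi18 zgi55) (kgi xgi20 ygi32 zgi7) (kgi xgi28 ygi0 zgi29) (kgi xgi23 ygi14 zgi11) (kgi xgi30 ygi57 zgi50) (kgi xgi28 ygi10 zgi47) (kgi xgi18 ygi18 zgi60) (kgi xgi22 ygi29 zgi37) (kgi xgi23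 ygi15 zgi16) (kgi xgi28 ygi11 zgi13) (kgi xgi23 ygi16 zgi56) (kgi xgi28 ygi21 zgi21) (kgi xgi31 ygi6 zgi3) (kgi xgi26 ygi57 zgi48) (kgi xgi26 ygi25 zgi4) (kgi xgi21 ygi28 zgi47) (kgi xgi23 ygi3 zgi51) (kgi xgi23 ygi21 zgi31) (kgi xgi30 ygi33 zgi52) (kgi xgi20 ygi35 zgi58) (kgi xgi26 ygi0 zgi45) (kgi xgi27 ygi58 zgi51) (kgi xgi20 ygi36 zgi10) (kgi xgi31 ygi12 zgi17) (kgi xgi30 ygi13 zgi9)) (@D3.rec (fun _ => Pt) (kgi xgi30 ygi4 zgi53) (kgi xgi23 ygi33 zgi40) (kgi xgi23 ygi28 zgi51) (kgi xgi32 ygi30 zgi45) (kgi xgi31 ygi12 zgi10) (kgi xgi31 ygi10 zgi27) (kgi xgi18 ygi19 zgi19) (kgi xgi28 ygi11 zgi50) (kgi xgi29 ygi58 zgi9) (kgi xgi28 ygi11 zgi48) (kgi xgi26 ygi20 zgi23) (kgi xgi31 ygi37 zgi9) (kgi xgi30 ygi59 zgi35) (kgi xgi31 ygi11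 zgi9) (kgi xgi26 ygi10 zgi15) (kgi xgi18 ygi19 zgi26) (kgi xgi30 ygi45 zgi54) (kgi xgi18 ygi19 zgi32) (kgi xgi28 ygi26 zgi52) (kgi xgi19 ygi0 zgi23) (kgi xgi32 ygi8 zgi61) (kgi xgi18 ygi59 zgi26) (kgi xgi32 ygi9 zgi31) (kgi xgi18 ygi59 zgi23) (kgi xgi18 ygi56 zgi18) (kgi xgi25 ygi1 zgi31) (kgi xgi18 ygi20 zgi13) (kgi xgi26 ygi14 zgi46) (kgi xgi31 ygi48 zgi61) (kgi xgi30 ygi3 zgi16) (kgi xgi26 ygi20 zgi13) (kgi xgi29 ygi3 zgi19) (kgi xgi23 ygi37 zgi2) (kgi xgi29 ygi20 zgi33) (kgi xgi24 ygi25 zgi41) (kgi xgi18 ygi59 zgi41) (kgi xgi18 ygi19 zgi52) (kgi xgi26 ygi24 zgi23) (kgi xgi18 ygi36 zgi4) (kgi xgi28 ygi58 zgi5) (kgi xgi18 ygi21 zgi53) (kgi xgi21 ygi6 zgi58) (kgi xgi27 ygi55 zgi54) (kgi xgi27 ygi55 zgi45) (kgi xgi21 ygi29 zgi3) (kgi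 xgi27 ygi57 zgi59) (kgi xgi23 ygi18 zgi45) (kgi xgi23 ygi15 zgi46) (kgi xgi24 ygi59 zgi38) (kgi xgi27 ygi57 zgi58) (kgi xgi18 ygi40 zgi45) (kgi xgi26 ygi26 zgi31) (kgi xgi30 ygi52 zgi36) (kgi xgi23 ygi32 zgi23) (kgi xgi27 ygi52 zgi41) (kgi xgi18 ygi42 zgi20) (kgi xgi30 ygi45 zgi41) (kgi xgi32 ygi29 zgi20) (kgi xgi19 ygi19 zgi55) (kgi xgi27 ygi51 zgi18) (kgi xgi18 ygi55 zgi20) (kgi xgi18 ygi57 zgi17)) (@D3.rec (fun _ => Pt) (kgi xgi27 ygi41 zgi54) (kgi xgi27 ygi56 zgi0) (kgi xgi18 ygi20 zgi19) (kgi xgi27 ygi30 zgi19) (kgi xgi30 ygi18 zgi23) (kgi xgi28 ygi18 zgi20) (kgi xgi22 ygi51 zgi44) (kgi xgi18 ygi47 zgi4) (kgi xgi28 ygi14 zgi47) (kgi xgi28 ygi19 zgi55) (kgi xgi27 ygi29 zgi43) (kgi xgi27 ygi55 zgi37) (kgi xgi27 ygi59 zgi25) (kgi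 xgi18 ygi33 zgi5) (kgi xgi22 ygi51 zgi55) (kgi xgi18 ygi45 zgi33) (kgi xgi18 ygi20 zgi39) (kgi xgi27 ygi36 zgi20) (kgi xgi29 ygi51 zgi58) (kgi xgi18 ygi20 zgi54) (kgi xgi18 ygi20 zgi46) (kgi xgi18 ygi22 zgi21) (kgi xgi23 ygi20 zgi36) (kgi xgi23 ygi7 zgi11) (kgi xgi31 ygi50 zgi3) (kgi xgi23 ygi52 zgi9) (kgi xgi21 ygi24 zgi56) (kgi xgi20 ygi35 zgi19) (kgi xgi28 ygi25 zgi0) (kgi xgi25 ygi30 zgi23) (kgi xgi18 ygi20 zgi58) (kgi xgi19 ygi10 zgi25) (kgi xgi25 ygi30 zgi42) (kgi xgi30 ygi3 zgi39) (kgi xgi20 ygi38 zgi27) (kgi xgi21 ygi2 zgi52) (kgi xgi22 ygi56 zgi43) (kgi xgi31 ygi20 zgi33) (kgi xgi27 ygi6 zgi32) (kgi xgi27 ygi9 zgi45) (kgi xgi22 ygi56 zgi40) (kgi xgi29 ygi54 zgi40) (kgi xgi29 ygi32 zgi27) (kgi xgi18 ygi21 zgi17) (kgi xgi27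 ygi15 zgi24) (kgi xgi31 ygi55 zgi12) (kgi xgi27 ygi15 zgi23) (kgi xgi30 ygi6 zgi55) (kgi xgi24 ygi18 zgi22) (kgi xgi27 ygi2 zgi53) (kgi xgi18 ygi21 zgi20) (kgi xgi24 ygi48 zgi23) (kgi xgi23 ygi58 zgi1) (kgi xgi26 ygi51 zgi2) (kgi xgi21 ygi9 zgi26) (kgi xgi30 ygi26 zgi18) (kgi xgi20 ygi34 zgi9) (kgi xgi23 ygi55 zgi37) (kgi xgi19 ygi22 zgi14) (kgi xgi28 ygi55 zgi2) (kgi xgi28 ygi10 zgi61) (kgi xgi23 ygi7 zgi35))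
def fi_g_28 : D2 → D3 → Pt := @D2.rec (fun _ => D3 → Pt) (@D3.rec (fun _ => Pt) (kgi xgi28 ygi12 zgi47) (kgi xgi24 ygi55 zgi31) (kgi xgi28 ygi10 zgi52) (kgi xgi21 ygi15 zgi2) (kgi xgi28 ygi26 zgi31) (kgi xgi18 ygi56 zgi14) (kgi xgi24 ygi45 zgi61) (kgi xgi26 ygi18 zgi22) (kgi xgi18 ygi21 zgi60) (kgi xgi26 ygi17 zgi38) (kgi xgi32 ygi30 zgi55) (kgi xgi28 ygi27 zgi51) (kgi xgi18 ygi22 zgi0) (kgi xgi18 ygi36 zgi1) (kgi xgi30 ygi48 zgi22) (kgi xgi25 ygi28 zgi33) (kgi xgi30 ygi6 zgi58) (kgi xgi26 ygi39 zgi15) (kgi xgi24 ygi8 zgi13) (kgi xgi28 ygi50 zgi33) (kgi xgi30 ygi44 zgi7) (kgi xgi26 ygi35 zgi37) (kgi xgi22 ygi4 zgi4) (kgi xgi28 ygi27 zgi60) (kgi xgi28 ygi11 zgi11) (kgi xgi21 ygi40 zgi6) (kgi xgi31 ygi59 zgi21) (kgi xgi22 ygi46 zgi14)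 (kgi xgi27 ygi57 zgi51) (kgi xgi20 ygi1 zgi18) (kgi xgi26 ygi10 zgi1) (kgi xgi27 ygi56 zgi45) (kgi xgi18 ygi23 zgi47) (kgi xgi18 ygi22 zgi61) (kgi xgi28 ygi28 zgi26) (kgi xgi26 ygi23 zgi13) (kgi xgi27 ygi57 zgi5) (kgi xgi26 ygi8 zgi16) (kgi xgi30 ygi18 zgi14) (kgi xgi25 ygi2 zgi35) (kgi xgi20 ygi10 zgi17) (kgi xgi29 ygi53 zgi25) (kgi xgi18 ygi23 zgi9) (kgi xgi30 ygi15 zgi8) (kgi xgi27 ygi7 zgi59) (kgi xgi28 ygi18 zgi59) (kgi xgi26 ygi56 zgi39) (kgi xgi22 ygi53 zgi12) (kgi xgi28 ygi13 zgi48) (kgi xgi29 ygi14 zgi44) (kgi xgi18 ygi23 zgi43) (kgi xgi18 ygi23 zgi55) (kgi xgi24 ygi59 zgi10) (kgi xgi21 ygi2 zgi45) (kgi xgi26 ygi8 zgi52) (kgi xgi23 ygi52 zgi27) (kgi xgi18 ygi23 zgi52) (kgi xgi30 ygi35 zgi10) (kgi xgi26 ygi48 zgi54) (kgi xgi20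 ygi25 zgi34) (kgi xgi18 ygi43 zgi16) (kgi xgi23 ygi38 zgi0)) (@D3.rec (fun _ => Pt) (kgi xgi20 ygi37 zgi59) (kgi xgi29 ygi51 zgi56) (kgi xgi21 ygi7 zgi39) (kgi xgi31 ygi2 zgi59) (kgi xgi20 ygi24 zgi53) (kgi xgi24 ygi31 zgi10) (kgi xgi18 ygi24 zgi29) (kgi xgi32 ygi30 zgi59) (kgi xgi18 ygi24 zgi40) (kgi xgi18 ygi24 zgi50) (kgi xgi18 ygi25 zgi40) (kgi xgi18 ygi25 zgi37) (kgi xgi28 ygi10 zgi22) (kgi xgi25 ygi17 zgi6) (kgi xgi26 ygi55 zgi14) (kgi xgi30 ygi5 zgi13) (kgi xgi18 ygi25 zgi0) (kgi xgi28 ygi10 zgi25) (kgi xgi21 ygi35 zgi23) (kgi xgi29 ygi13 zgi42) (kgi xgi21 ygi51 zgi29) (kgi xgi19 ygi3 zgi14) (kgi xgi19 ygi5 zgi28) (kgi xgi18 ygi25 zgi17) (kgi xgi31 ygi28 zgi14) (kgi xgi18 ygi25 zgi25) (kgi xgi31 ygi50 zgi7) (kgi xgi19 ygi36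 zgi29) (kgi xgi21 ygi32 zgi16) (kgi xgi18 ygi25 zgi32) (kgi xgi25 ygi2 zgi38) (kgi xgi26 ygi55 zgi22) (kgi xgi27 ygi38 zgi52) (kgi xgi29 ygi13 zgi39) (kgi xgi26 ygi55 zgi7) (kgi xgi19 ygi39 zgi8) (kgi xgi20 ygi33 zgi44) (kgi xgi26 ygi48 zgi49) (kgi xgi28 ygi55 zgi59) (kgi xgi29 ygi51 zgi46) (kgi xgi26 ygi58 zgi24) (kgi xgi23 ygi54 zgi4) (kgi xgi26 ygi55 zgi8) (kgi xgi23 ygi50 zgi31) (kgi xgi23 ygi33 zgi54) (kgi xgi23 ygi49 zgi56) (kgi xgi27 ygi31 zgi55) (kgi xgi18 ygi26 zgi32) (kgi xgi27 ygi45 zgi11) (kgi xgi24 ygi40 zgi56) (kgi xgi18 ygi27 zgi15) (kgi xgi23 ygi50 zgi6) (kgi xgi27 ygi56 zgi14) (kgi xgi32 ygi25 zgi30) (kgi xgi18 ygi26 zgi49) (kgi xgi32 ygi31 zgi0) (kgi xgi24 ygi44 zgi52) (kgi xgi18 ygi26 zgi50) (kgi xgi28 ygi3 zgi9)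 (kgi xgi28 ygi3 zgi6) (kgi xgi18 ygi27 zgi10) (kgi xgi18 ygi26 zgi58)) (@D3.rec (fun _ => Pt) (kgi xgi26 ygi17 zgi1) (kgi xgi28 ygi19 zgi53) (kgi xgi29 ygi38 zgi42) (kgi xgi32 ygi31 zgi2) (kgi xgi31 ygi0 zgi1) (kgi xgi32 ygi31 zgi1) (kgi xgi30 ygi59 zgi13) (kgi xgi31 ygi11 zgi40) (kgi xgi32 ygi31 zgi4) (kgi xgi25 ygi0 zgi9) (kgi xgi25 ygi46 zgi36) (kgi xgi28 ygi4 zgi4) (kgi xgi30 ygi59 zgi12) (kgi xgi18 ygi27 zgi5) (kgi xgi31 ygi7 zgi28) (kgi xgi23 ygi32 zgi47) (kgi xgi31 ygi6 zgi57) (kgi xgi31 ygi1 zgi30) (kgi xgi31 ygi43 zgi58) (kgi xgi31 ygi14 zgi44) (kgi xgi18 ygi28 zgi33) (kgi xgi27 ygi50 zgi34) (kgi xgi31 ygi6 zgi56) (kgi xgi18 ygi27 zgi14) (kgi xgi30 ygi23 zgi23) (kgi xgi24 ygi22 zgi53) (kgi xgi27 ygi20 zgi39) (kgi xgi18 ygi27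 zgi18) (kgi xgi26 ygi38 zgi31) (kgi xgi18 ygi30 zgi25) (kgi xgi24 ygi45 zgi36) (kgi xgi27 ygi50 zgi41) (kgi xgi31 ygi11 zgi42) (kgi xgi18 ygi27 zgi32) (kgi xgi31 ygi44 zgi25) (kgi xgi27 ygi38 zgi48) (kgi xgi27 ygi20 zgi38) (kgi xgi29 ygi52 zgi24) (kgi xgi18 ygi29 zgi15) (kgi xgi18 ygi49 zgi1) (kgi xgi18 ygi48 zgi5) (kgi xgi18 ygi27 zgi53) (kgi xgi20 ygi46 zgi36) (kgi xgi22 ygi40 zgi50) (kgi xgi18 ygi47 zgi55) (kgi xgi19 ygi22 zgi7) (kgi xgi22 ygi7 zgi19) (kgi xgi18 ygi47 zgi59) (kgi xgi28 ygi16 zgi39) (kgi xgi18 ygi47 zgi56) (kgi xgi27 ygi56 zgi17) (kgi xgi18 ygi51 zgi55) (kgi xgi28 ygi29 zgi54) (kgi xgi23 ygi18 zgi21) (kgi xgi30 ygi1 zgi7) (kgi xgi32 ygi28 zgi25) (kgi xgi32 ygi31 zgi13) (kgi xgi28 ygi3 zgi59) (kgi xgi32 ygi31 zgi15)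 (kgi xgi18 ygi28 zgi9) (kgi xgi30 ygi48 zgi27) (kgi xgi30 ygi59 zgi16)) (@D3.rec (fun _ => Pt) (kgi xgi18 ygi29 zgi46) (kgi xgi27 ygi48 zgi7) (kgi xgi27 ygi47 zgi37) (kgi xgi27 ygi48 zgi26) (kgi xgi18 ygi28 zgi15) (kgi xgi18 ygi37 zgi28) (kgi xgi18 ygi28 zgi17) (kgi xgi28 ygi1 zgi59) (kgi xgi24 ygi54 zgi61) (kgi xgi28 ygi1 zgi57) (kgi xgi27 ygi26 zgi23) (kgi xgi24 ygi48 zgi21) (kgi xgi31 ygi44 zgi16) (kgi xgi18 ygi28 zgi23) (kgi xgi18 ygi28 zgi25) (kgi xgi32 ygi28 zgi21) (kgi xgi26 ygi30 zgi33) (kgi xgi32 ygi25 zgi39) (kgi xgi29 ygi15 zgi52) (kgi xgi32 ygi25 zgi59) (kgi xgi29 ygi15 zgi49) (kgi xgi28 ygi6 zgi29) (kgi xgi31 ygi43 zgi32) (kgi xgi18 ygi28 zgi30) (kgi xgi32 ygi31 zgi18) (kgi xgi25 ygi49 zgi45) (kgi xgi18 ygi29 zgi27) (kgi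 xgi32 ygi31 zgi17) (kgi xgi28 ygi12 zgi4) (kgi xgi18 ygi28 zgi45) (kgi xgi18 ygi36 zgi41) (kgi xgi18 ygi28 zgi49) (kgi xgi18 ygi29 zgi30) (kgi xgi32 ygi28 zgi24) (kgi xgi18 ygi37 zgi19) (kgi xgi18 ygi30 zgi19) (kgi xgi27 ygi45 zgi56) (kgi xgi27 ygi47 zgi7) (kgi xgi19 ygi2 zgi21) (kgi xgi29 ygi16 zgi21) (kgi xgi18 ygi38 zgi46) (kgi xgi18 ygi55 zgi30) (kgi xgi32 ygi31 zgi24) (kgi xgi24 ygi46 zgi51) (kgi xgi27 ygi26 zgi2) (kgi xgi18 ygi29 zgi13) (kgi xgi23 ygi44 zgi47) (kgi xgi31 ygi11 zgi31) (kgi xgi18 ygi29 zgi19) (kgi xgi31 ygi43 zgi3) (kgi xgi18 ygi29 zgi21) (kgi xgi18 ygi35 zgi40) (kgi xgi21 ygi46 zgi58) (kgi xgi18 ygi29 zgi25) (kgi xgi25 ygi3 zgi60) (kgi xgi21 ygi34 zgi8) (kgi xgi28 ygi6 zgi28) (kgi xgi31 ygi45 zgi8) (kgi xgi18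 ygi29 zgi34) (kgi xgi28 ygi2 zgi56) (kgi xgi25 ygi4 zgi0) (kgi xgi29 ygi39 zgi36)) (@D3.rec (fun _ => Pt) (kgi xgi30 ygi4 zgi19) (kgi xgi21 ygi34 zgi6) (kgi xgi28 ygi49 zgi30) (kgi xgi18 ygi29 zgi45) (kgi xgi28 ygi2 zgi8) (kgi xgi32 ygi31 zgi27) (kgi xgi32 ygi6 zgi49) (kgi xgi18 ygi29 zgi51) (kgi xgi18 ygi35 zgi35) (kgi xgi18 ygi29 zgi56) (kgi xgi27 ygi44 zgi40) (kgi xgi31 ygi36 zgi23) (kgi xgi31 ygi59 zgi29) (kgi xgi18 ygi30 zgi3) (kgi xgi31 ygi44 zgi39) (kgi xgi31 ygi44 zgi36) (kgi xgi21 ygi56 zgi13) (kgi xgi18 ygi30 zgi9) (kgi xgi28 ygi4 zgi0) (kgi xgi24 ygi54 zgi1) (kgi xgi18 ygi30 zgi12) (kgi xgi32 ygi7 zgi46) (kgi xgi28 ygi6 zgi36) (kgi xgi27 ygi52 zgi20) (kgi xgi26 ygi21 zgi38) (kgi xgi25 ygi3 zgi34) (kgi xgi30 ygi44 zgi54)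 (kgi xgi18 ygi30 zgi22) (kgi xgi32 ygi6 zgi11) (kgi xgi30 ygi44 zgi26) (kgi xgi25 ygi1 zgi43) (kgi xgi27 ygi54 zgi3) (kgi xgi21 ygi15 zgi3) (kgi xgi24 ygi48 zgi13) (kgi xgi18 ygi30 zgi32) (kgi xgi32 ygi27 zgi57) (kgi xgi27 ygi33 zgi8) (kgi xgi31 ygi4 zgi45) (kgi xgi28 ygi47 zgi20) (kgi xgi27 ygi51 zgi34) (kgi xgi32 ygi26 zgi58) (kgi xgi32 ygi7 zgi26) (kgi xgi27 ygi52 zgi22) (kgi xgi27 ygi52 zgi39) (kgi xgi27 ygi51 zgi46) (kgi xgi18 ygi30 zgi39) (kgi xgi27 ygi51 zgi44) (kgi xgi31 ygi53 zgi49) (kgi xgi27 ygi49 zgi51) (kgi xgi18 ygi30 zgi41) (kgi xgi18 ygi31 zgi34) (kgi xgi28 ygi8 zgi10) (kgi xgi18 ygi31 zgi31) (kgi xgi19 ygi6 zgi51) (kgi xgi18 ygi30 zgi46) (kgi xgi19 ygi7 zgi4) (kgi xgi19 ygi7 zgi2) (kgi xgi32 ygi3 zgi50) (kgi xgi26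 ygi31 zgi54) (kgi xgi31 ygi42 zgi25) (kgi xgi30 ygi44 zgi34) (kgi xgi28 ygi38 zgi1)) (@D3.rec (fun _ => Pt) (kgi xgi27 ygi52 zgi16) (kgi xgi27 ygi32 zgi44) (kgi xgi25 ygi45 zgi18) (kgi xgi27 ygi48 zgi61) (kgi xgi27 ygi32 zgi42) (kgi xgi27 ygi51 zgi43) (kgi xgi27 ygi32 zgi36) (kgi xgi27 ygi32 zgi34) (kgi xgi18 ygi30 zgi60) (kgi xgi18 ygi53 zgi11) (kgi xgi18 ygi53 zgi9) (kgi xgi31 ygi42 zgi45) (kgi xgi19 ygi20 zgi28) (kgi xgi18 ygi31 zgi47) (kgi xgi27 ygi49 zgi27) (kgi xgi24 ygi48 zgi22) (kgi xgi27 ygi52 zgi2) (kgi xgi27 ygi51 zgi61) (kgi xgi27 ygi54 zgi4) (kgi xgi32 ygi27 zgi29) (kgi xgi18 ygi31 zgi27) (kgi xgi18 ygi32 zgi59) (kgi xgi27 ygi46 zgi0) (kgi xgi31 ygi42 zgi42) (kgi xgi19 ygi6 zgi38) (kgi xgi31 ygi14 zgi53) (kgi xgi30 ygi44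 zgi22) (kgi xgi18 ygi31 zgi10) (kgi xgi29 ygi54 zgi11) (kgi xgi30 ygi44 zgi27) (kgi xgi28 ygi7 zgi46) (kgi xgi18 ygi31 zgi37) (kgi xgi18 ygi31 zgi17) (kgi xgi32 ygi31 zgi46) (kgi xgi18 ygi33 zgi19) (kgi xgi18 ygi46 zgi9) (kgi xgi27 ygi52 zgi40) (kgi xgi22 ygi52 zgi6) (kgi xgi18 ygi31 zgi19) (kgi xgi27 ygi50 zgi39) (kgi xgi18 ygi33 zgi11) (kgi xgi28 ygi16 zgi6) (kgi xgi30 ygi53 zgi21) (kgi xgi28 ygi20 zgi57) (kgi xgi20 ygi10 zgi29) (kgi xgi19 ygi6 zgi39) (kgi xgi27 ygi15 zgi43) (kgi xgi32 ygi31 zgi49) (kgi xgi18 ygi31 zgi28) (kgi xgi19 ygi10 zgi15) (kgi xgi32 ygi31 zgi54) (kgi xgi19 ygi10 zgi16) (kgi xgi26 ygi42 zgi53) (kgi xgi19 ygi7 zgi29) (kgi xgi30 ygi38 zgi6) (kgi xgi31 ygi46 zgi24) (kgi xgi19 ygi3 zgi17) (kgi xgi27 ygi49 zgi22)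 (kgi xgi32 ygi9 zgi15) (kgi xgi31 ygi23 zgi44) (kgi xgi19 ygi10 zgi14) (kgi xgi25 ygi50 zgi21)) (@D3.rec (fun _ => Pt) (kgi xgi18 ygi31 zgi33) (kgi xgi28 ygi8 zgi8) (kgi xgi18 ygi31 zgi35) (kgi xgi27 ygi52 zgi24) (kgi xgi31 ygi14 zgi51) (kgi xgi32 ygi26 zgi0) (kgi xgi27 ygi33 zgi6) (kgi xgi32 ygi31 zgi61) (kgi xgi31 ygi15 zgi23) (kgi xgi31 ygi56 zgi6) (kgi xgi27 ygi35 zgi3) (kgi xgi32 ygi27 zgi23) (kgi xgi18 ygi31 zgi42) (kgi xgi27 ygi29 zgi47) (kgi xgi18 ygi35 zgi31) (kgi xgi18 ygi31 zgi44) (kgi xgi27 ygi51 zgi58) (kgi xgi31 ygi7 zgi41) (kgi xgi31 ygi7 zgi38) (kgi xgi32 ygi3 zgi53) (kgi xgi27 ygi34 zgi58) (kgi xgi32 ygi32 zgi2) (kgi xgi30 ygi40 zgi20) (kgi xgi18 ygi31 zgi49) (kgi xgi27 ygi35 zgi15) (kgi xgi27 ygi46 zgi33) (kgi xgi23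 ygi22 zgi0) (kgi xgi18 ygi31 zgi53) (kgi xgi28 ygi2 zgi50) (kgi xgi25 ygi0 zgi43) (kgi xgi27 ygi45 zgi6) (kgi xgi27 ygi46 zgi46) (kgi xgi27 ygi55 zgi58) (kgi xgi18 ygi32 zgi3) (kgi xgi18 ygi32 zgi6) (kgi xgi18 ygi32 zgi4) (kgi xgi27 ygi43 zgi23) (kgi xgi18 ygi35 zgi13) (kgi xgi27 ygi59 zgi18) (kgi xgi18 ygi37 zgi14) (kgi xgi18 ygi36 zgi13) (kgi xgi18 ygi34 zgi31) (kgi xgi27 ygi59 zgi24) (kgi xgi27 ygi47 zgi34) (kgi xgi27 ygi38 zgi28) (kgi xgi18 ygi32 zgi16) (kgi xgi22 ygi10 zgi43) (kgi xgi28 ygi15 zgi32) (kgi xgi18 ygi34 zgi48) (kgi xgi18 ygi33 zgi36) (kgi xgi18 ygi34 zgi52) (kgi xgi27 ygi53 zgi19) (kgi xgi27 ygi51 zgi57) (kgi xgi27 ygi35 zgi8) (kgi xgi29 ygi20 zgi58) (kgi xgi18 ygi32 zgi21) (kgi xgi27 ygi53 zgi27) (kgi xgi27 ygi53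 zgi25) (kgi xgi27 ygi22 zgi28) (kgi xgi27 ygi52 zgi3) (kgi xgi29 ygi16 zgi10) (kgi xgi30 ygi23 zgi18)) (@D3.rec (fun _ => Pt) (kgi xgi29 ygi20 zgi45) (kgi xgi30 ygi3 zgi40) (kgi xgi28 ygi31 zgi50) (kgi xgi18 ygi32 zgi41) (kgi xgi27 ygi46 zgi13) (kgi xgi31 ygi1 zgi48) (kgi xgi27 ygi50 zgi38) (kgi xgi27 ygi51 zgi22) (kgi xgi18 ygi32 zgi51) (kgi xgi31 ygi25 zgi19) (kgi xgi31 ygi25 zgi18) (kgi xgi32 ygi21 zgi45) (kgi xgi18 ygi34 zgi44) (kgi xgi26 ygi29 zgi18) (kgi xgi18 ygi34 zgi39) (kgi xgi18 ygi32 zgi54) (kgi xgi27 ygi49 zgi20) (kgi xgi32 ygi26 zgi32) (kgi xgi18 ygi34 zgi29) (kgi xgi27 ygi32 zgi15) (kgi xgi25 ygi1 zgi42) (kgi xgi27 ygi53 zgi10) (kgi xgi26 ygi21 zgi24) (kgi xgi25 ygi35 zgi15) (kgi xgi28 ygi31 zgi58) (kgi xgi28 ygi36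 zgi17) (kgi xgi30 ygi44 zgi23) (kgi xgi27 ygi49 zgi52) (kgi xgi28 ygi8 zgi31) (kgi xgi27 ygi49 zgi50) (kgi xgi28 ygi47 zgi16) (kgi xgi25 ygi24 zgi1) (kgi xgi32 ygi29 zgi46) (kgi xgi18 ygi33 zgi10) (kgi xgi32 ygi25 zgi47) (kgi xgi32 ygi2 zgi39) (kgi xgi28 ygi7 zgi44) (kgi xgi26 ygi19 zgi28) (kgi xgi29 ygi24 zgi58) (kgi xgi23 ygi49 zgi41) (kgi xgi27 ygi53 zgi36) (kgi xgi20 ygi10 zgi46) (kgi xgi23 ygi6 zgi30) (kgi xgi31 ygi42 zgi46) (kgi xgi28 ygi7 zgi30) (kgi xgi18 ygi38 zgi34) (kgi xgi28 ygi20 zgi53) (kgi xgi27 ygi33 zgi51) (kgi xgi32 ygi29 zgi47) (kgi xgi19 ygi50 zgi50) (kgi xgi31 ygi58 zgi14) (kgi xgi27 ygi34 zgi54) (kgi xgi27 ygi35 zgi48) (kgi xgi19 ygi32 zgi60) (kgi xgi18 ygi33 zgi32) (kgi xgi27 ygi22 zgi55) (kgi xgi27 ygi51 zgi2)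 (kgi xgi27 ygi36 zgi14) (kgi xgi18 ygi33 zgi43) (kgi xgi22 ygi50 zgi59) (kgi xgi26 ygi29 zgi13) (kgi xgi27 ygi50 zgi56)) (@D3.rec (fun _ => Pt) (kgi xgi18 ygi34 zgi58) (kgi xgi27 ygi36 zgi46) (kgi xgi27 ygi37 zgi44) (kgi xgi27 ygi38 zgi30) (kgi xgi27 ygi43 zgi48) (kgi xgi28 ygi14 zgi18) (kgi xgi27 ygi33 zgi36) (kgi xgi27 ygi54 zgi38) (kgi xgi28 ygi6 zgi0) (kgi xgi25 ygi5 zgi34) (kgi xgi18 ygi33 zgi61) (kgi xgi28 ygi4 zgi51) (kgi xgi18 ygi34 zgi27) (kgi xgi27 ygi49 zgi23) (kgi xgi27 ygi49 zgi25) (kgi xgi27 ygi51 zgi26) (kgi xgi23 ygi54 zgi32) (kgi xgi19 ygi42 zgi18) (kgi xgi27 ygi49 zgi19) (kgi xgi25 ygi0 zgi36) (kgi xgi27 ygi53 zgi57) (kgi xgi18 ygi34 zgi11) (kgi xgi32 ygi26 zgi22) (kgi xgi27 ygi54 zgi44) (kgi xgi28 ygi46 zgi2) (kgi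 xgi18 ygi38 zgi7) (kgi xgi18 ygi34 zgi14) (kgi xgi32 ygi30 zgi37) (kgi xgi26 ygi18 zgi47) (kgi xgi31 ygi16 zgi37) (kgi xgi18 ygi34 zgi23) (kgi xgi31 ygi25 zgi43) (kgi xgi18 ygi34 zgi20) (kgi xgi30 ygi46 zgi25) (kgi xgi18 ygi34 zgi19) (kgi xgi21 ygi12 zgi11) (kgi xgi21 ygi15 zgi0) (kgi xgi31 ygi53 zgi60) (kgi xgi18 ygi36 zgi40) (kgi xgi28 ygi47 zgi21) (kgi xgi32 ygi29 zgi59) (kgi xgi28 ygi4 zgi48) (kgi xgi32 ygi32 zgi15) (kgi xgi28 ygi7 zgi28) (kgi xgi31 ygi25 zgi1) (kgi xgi19 ygi9 zgi27) (kgi xgi29 ygi24 zgi22) (kgi xgi31 ygi25 zgi32) (kgi xgi32 ygi10 zgi18) (kgi xgi19 ygi6 zgi33) (kgi xgi27 ygi54 zgi51) (kgi xgi30 ygi31 zgi55) (kgi xgi29 ygi21 zgi2) (kgi xgi28 ygi27 zgi25) (kgi xgi29 ygi27 zgi42) (kgi xgi30 ygi44 zgi43) (kgi xgi32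 ygi28 zgi50) (kgi xgi19 ygi4 zgi35) (kgi xgi23 ygi51 zgi17) (kgi xgi18 ygi34 zgi38) (kgi xgi24 ygi48 zgi8) (kgi xgi32 ygi29 zgi30)) (@D3.rec (fun _ => Pt) (kgi xgi31 ygi12 zgi59) (kgi xgi28 ygi10 zgi12) (kgi xgi26 ygi54 zgi21) (kgi xgi24 ygi49 zgi38) (kgi xgi27 ygi59 zgi51) (kgi xgi32 ygi32 zgi4) (kgi xgi18 ygi34 zgi45) (kgi xgi28 ygi51 zgi35) (kgi xgi18 ygi34 zgi61) (kgi xgi22 ygi33 zgi55) (kgi xgi18 ygi35 zgi36) (kgi xgi31 ygi5 zgi6) (kgi xgi27 ygi50 zgi59) (kgi xgi32 ygi30 zgi26) (kgi xgi18 ygi34 zgi57) (kgi xgi32 ygi29 zgi31) (kgi xgi26 ygi28 zgi19) (kgi xgi26 ygi29 zgi43) (kgi xgi26 ygi53 zgi47) (kgi xgi19 ygi48 zgi33) (kgi xgi18 ygi36 zgi7) (kgi xgi27 ygi54 zgi31) (kgi xgi32 ygi26 zgi23) (kgi xgi18 ygi35 zgi17) (kgi xgi32 ygi32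 zgi14) (kgi xgi29 ygi20 zgi32) (kgi xgi27 ygi52 zgi43) (kgi xgi18 ygi35 zgi25) (kgi xgi28 ygi25 zgi51) (kgi xgi32 ygi27 zgi1) (kgi xgi18 ygi35 zgi30) (kgi xgi30 ygi24 zgi53) (kgi xgi30 ygi45 zgi53) (kgi xgi18 ygi47 zgi9) (kgi xgi26 ygi17 zgi30) (kgi xgi31 ygi5 zgi30) (kgi xgi28 ygi36 zgi43) (kgi xgi27 ygi35 zgi25) (kgi xgi27 ygi36 zgi43) (kgi xgi18 ygi36 zgi12) (kgi xgi18 ygi36 zgi24) (kgi xgi18 ygi51 zgi54) (kgi xgi30 ygi54 zgi0) (kgi xgi22 ygi47 zgi14) (kgi xgi26 ygi46 zgi61) (kgi xgi24 ygi53 zgi0) (kgi xgi23 ygi10 zgi23) (kgi xgi22 ygi56 zgi35) (kgi xgi30 ygi32 zgi57) (kgi xgi30 ygi10 zgi8) (kgi xgi28 ygi12 zgi56) (kgi xgi27 ygi15 zgi2) (kgi xgi28 ygi33 zgi31) (kgi xgi32 ygi5 zgi23) (kgi xgi26 ygi46 zgi0) (kgi xgi30 ygi9 zgi22)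 (kgi xgi18 ygi36 zgi35) (kgi xgi18 ygi36 zgi53) (kgi xgi30 ygi32 zgi6) (kgi xgi28 ygi47 zgi22) (kgi xgi21 ygi31 zgi13) (kgi xgi32 ygi5 zgi27)) (@D3.rec (fun _ => Pt) (kgi xgi28 ygi27 zgi42) (kgi xgi18 ygi36 zgi47) (kgi xgi28 ygi24 zgi55) (kgi xgi27 ygi54 zgi33) (kgi xgi25 ygi2 zgi57) (kgi xgi25 ygi2 zgi54) (kgi xgi23 ygi44 zgi57) (kgi xgi18 ygi37 zgi6) (kgi xgi18 ygi37 zgi35) (kgi xgi18 ygi37 zgi12) (kgi xgi32 ygi32 zgi27) (kgi xgi29 ygi25 zgi18) (kgi xgi27 ygi52 zgi11) (kgi xgi23 ygi18 zgi5) (kgi xgi28 ygi3 zgi51) (kgi xgi18 ygi37 zgi40) (kgi xgi27 ygi38 zgi5) (kgi xgi29 ygi14 zgi9) (kgi xgi27 ygi38 zgi4) (kgi xgi23 ygi47 zgi26) (kgi xgi18 ygi37 zgi58) (kgi xgi21 ygi20 zgi8) (kgi xgi18 ygi38 zgi4) (kgi xgi29 ygi24 zgi44) (kgi xgi27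 ygi56 zgi20) (kgi xgi28 ygi1 zgi16) (kgi xgi28 ygi1 zgi12) (kgi xgi18 ygi38 zgi6) (kgi xgi27 ygi29 zgi51) (kgi xgi26 ygi16 zgi26) (kgi xgi28 ygi1 zgi40) (kgi xgi18 ygi38 zgi24) (kgi xgi23 ygi47 zgi25) (kgi xgi31 ygi1 zgi61) (kgi xgi18 ygi38 zgi33) (kgi xgi32 ygi29 zgi8) (kgi xgi32 ygi32 zgi32) (kgi xgi18 ygi38 zgi40) (kgi xgi23 ygi13 zgi48) (kgi xgi18 ygi53 zgi18) (kgi xgi25 ygi2 zgi0) (kgi xgi18 ygi38 zgi48) (kgi xgi18 ygi38 zgi47) (kgi xgi27 ygi58 zgi47) (kgi xgi18 ygi49 zgi37) (kgi xgi23 ygi6 zgi20) (kgi xgi23 ygi18 zgi13) (kgi xgi30 ygi32 zgi2) (kgi xgi23 ygi17 zgi14) (kgi xgi18 ygi38 zgi54) (kgi xgi23 ygi31 zgi29) (kgi xgi28 ygi26 zgi6) (kgi xgi28 ygi12 zgi8) (kgi xgi19 ygi58 zgi55) (kgi xgi31 ygi59 zgi20) (kgi xgi30 ygi59 zgi36)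 (kgi xgi25 ygi42 zgi52) (kgi xgi25 ygi46 zgi14) (kgi xgi32 ygi18 zgi47) (kgi xgi29 ygi18 zgi18) (kgi xgi23 ygi32 zgi8) (kgi xgi28 ygi26 zgi14)) (@D3.rec (fun _ => Pt) (kgi xgi23 ygi32 zgi7) (kgi xgi19 ygi48 zgi18) (kgi xgi18 ygi56 zgi16) (kgi xgi18 ygi39 zgi9) (kgi xgi28 ygi23 zgi5) (kgi xgi28 ygi23 zgi4) (kgi xgi18 ygi39 zgi11) (kgi xgi22 ygi52 zgi8) (kgi xgi18 ygi39 zgi27) (kgi xgi18 ygi39 zgi18) (kgi xgi28 ygi0 zgi24) (kgi xgi30 ygi47 zgi27) (kgi xgi18 ygi39 zgi25) (kgi xgi26 ygi19 zgi23) (kgi xgi24 ygi28 zgi37) (kgi xgi18 ygi47 zgi35) (kgi xgi24 ygi8 zgi31) (kgi xgi18 ygi49 zgi2) (kgi xgi31 ygi6 zgi48) (kgi xgi29 ygi30 zgi51) (kgi xgi27 ygi22 zgi58) (kgi xgi18 ygi39 zgi50) (kgi xgi19 ygi23 zgi56) (kgi xgi28 ygi11 zgi31) (kgi xgi26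 ygi8 zgi1) (kgi xgi21 ygi2 zgi30) (kgi xgi26 ygi7 zgi18) (kgi xgi20 ygi59 zgi26) (kgi xgi26 ygi47 zgi8) (kgi xgi19 ygi14 zgi29) (kgi xgi18 ygi40 zgi5) (kgi xgi28 ygi11 zgi22) (kgi xgi25 ygi52 zgi0) (kgi xgi31 ygi28 zgi52) (kgi xgi23 ygi25 zgi36) (kgi xgi21 ygi6 zgi22) (kgi xgi25 ygi41 zgi20) (kgi xgi26 ygi7 zgi13) (kgi xgi26 ygi7 zgi4) (kgi xgi23 ygi30 zgi61) (kgi xgi18 ygi40 zgi11) (kgi xgi30 ygi58 zgi32) (kgi xgi26 ygi47 zgi32) (kgi xgi32 ygi14 zgi52) (kgi xgi26 ygi7 zgi7) (kgi xgi23 ygi43 zgi33) (kgi xgi30 ygi0 zgi22) (kgi xgi26 ygi7 zgi12) (kgi xgi18 ygi40 zgi18) (kgi xgi27 ygi58 zgi9) (kgi xgi27 ygi58 zgi6) (kgi xgi18 ygi40 zgi20) (kgi xgi26 ygi47 zgi9) (kgi xgi32 ygi32 zgi42) (kgi xgi29 ygi10 zgi25) (kgi xgi31 ygi8 zgi40) (kgi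 xgi21 ygi2 zgi28) (kgi xgi29 ygi57 zgi53) (kgi xgi29 ygi10 zgi56) (kgi xgi21 ygi49 zgi23) (kgi xgi18 ygi40 zgi24) (kgi xgi22 ygi44 zgi57)) (@D3.rec (fun _ => Pt) (kgi xgi29 ygi49 zgi49) (kgi xgi21 ygi49 zgi5) (kgi xgi18 ygi40 zgi29) (kgi xgi32 ygi24 zgi55) (kgi xgi26 ygi30 zgi10) (kgi xgi30 ygi12 zgi49) (kgi xgi18 ygi53 zgi27) (kgi xgi28 ygi2 zgi18) (kgi xgi18 ygi58 zgi48) (kgi xgi26 ygi8 zgi41) (kgi xgi24 ygi9 zgi41) (kgi xgi23 ygi20 zgi14) (kgi xgi18 ygi40 zgi39) (kgi xgi24 ygi9 zgi38) (kgi xgi18 ygi41 zgi2) (kgi xgi27 ygi9 zgi27) (kgi xgi21 ygi44 zgi21) (kgi xgi27 ygi58 zgi45) (kgi xgi20 ygi6 zgi26) (kgi xgi30 ygi44 zgi38) (kgi xgi31 ygi44 zgi13) (kgi xgi26 ygi24 zgi52) (kgi xgi28 ygi49 zgi22) (kgi xgi18 ygi41 zgi1) (kgi xgi26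 ygi7 zgi43) (kgi xgi18 ygi40 zgi56) (kgi xgi26 ygi7 zgi44) (kgi xgi29 ygi51 zgi40) (kgi xgi29 ygi54 zgi4) (kgi xgi27 ygi3 zgi22) (kgi xgi23 ygi32 zgi51) (kgi xgi24 ygi58 zgi58) (kgi xgi26 ygi25 zgi18) (kgi xgi29 ygi49 zgi60) (kgi xgi30 ygi58 zgi12) (kgi xgi29 ygi18 zgi22) (kgi xgi28 ygi0 zgi34) (kgi xgi23 ygi16 zgi19) (kgi xgi23 ygi31 zgi33) (kgi xgi20 ygi34 zgi48) (kgi xgi27 ygi58 zgi56) (kgi xgi22 ygi51 zgi33) (kgi xgi18 ygi41 zgi14) (kgi xgi23 ygi19 zgi7) (kgi xgi30 ygi54 zgi17) (kgi xgi29 ygi54 zgi31) (kgi xgi31 ygi7 zgi46) (kgi xgi28 ygi0 zgi12) (kgi xgi26 ygi22 zgi29) (kgi xgi28 ygi0 zgi13) (kgi xgi20 ygi35 zgi1) (kgi xgi18 ygi41 zgi26) (kgi xgi29 ygi53 zgi55) (kgi xgi19 ygi1 zgi41) (kgi xgi22 ygi56 zgi53) (kgi xgi20 ygi11 zgi16)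 (kgi xgi28 ygi9 zgi42) (kgi xgi20 ygi35 zgi2) (kgi xgi18 ygi41 zgi35) (kgi xgi22 ygi19 zgi55) (kgi xgi27 ygi23 zgi41) (kgi xgi30 ygi39 zgi11)) (@D3.rec (fun _ => Pt) (kgi xgi26 ygi19 zgi14) (kgi xgi28 ygi20 zgi54) (kgi xgi27 ygi58 zgi22) (kgi xgi23 ygi9 zgi8) (kgi xgi24 ygi20 zgi61) (kgi xgi25 ygi19 zgi52) (kgi xgi24 ygi5 zgi28) (kgi xgi26 ygi22 zgi53) (kgi xgi18 ygi42 zgi6) (kgi xgi28 ygi49 zgi56) (kgi xgi32 ygi19 zgi46) (kgi xgi23 ygi55 zgi23) (kgi xgi24 ygi10 zgi1) (kgi xgi29 ygi30 zgi15) (kgi xgi25 ygi59 zgi48) (kgi xgi21 ygi6 zgi42) (kgi xgi23 ygi31 zgi47) (kgi xgi30 ygi31 zgi39) (kgi xgi18 ygi42 zgi31) (kgi xgi30 ygi32 zgi10) (kgi xgi21 ygi49 zgi31) (kgi xgi29 ygi10 zgi50) (kgi xgi32 ygi32 zgi48) (kgi xgi29 ygi9 zgi60) (kgi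 xgi32 ygi4 zgi43) (kgi xgi18 ygi42 zgi34) (kgi xgi24 ygi40 zgi3) (kgi xgi29 ygi55 zgi14) (kgi xgi31 ygi59 zgi5) (kgi xgi31 ygi33 zgi48) (kgi xgi31 ygi50 zgi1) (kgi xgi31 ygi6 zgi27) (kgi xgi32 ygi9 zgi53) (kgi xgi23 ygi16 zgi38) (kgi xgi32 ygi32 zgi50) (kgi xgi30 ygi0 zgi36) (kgi xgi31 ygi0 zgi55) (kgi xgi20 ygi32 zgi3) (kgi xgi22 ygi0 zgi26) (kgi xgi27 ygi11 zgi42) (kgi xgi31 ygi12 zgi61) (kgi xgi24 ygi9 zgi35) (kgi xgi18 ygi42 zgi50) (kgi xgi27 ygi14 zgi57) (kgi xgi27 ygi14 zgi54) (kgi xgi20 ygi36 zgi7) (kgi xgi25 ygi18 zgi26) (kgi xgi20 ygi18 zgi33) (kgi xgi27 ygi57 zgi36) (kgi xgi29 ygi7 zgi42) (kgi xgi18 ygi43 zgi0) (kgi xgi20 ygi18 zgi17) (kgi xgi18 ygi43 zgi8) (kgi xgi23 ygi32 zgi32) (kgi xgi29 ygi8 zgi28) (kgi xgi21 ygi57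 zgi9) (kgi xgi27 ygi6 zgi26) (kgi xgi27 ygi41 zgi29) (kgi xgi24 ygi32 zgi44) (kgi xgi30 ygi17 zgi12) (kgi xgi22 ygi21 zgi26) (kgi xgi18 ygi43 zgi61)) (@D3.rec (fun _ => Pt) (kgi xgi18 ygi44 zgi0) (kgi xgi25 ygi56 zgi7) (kgi xgi29 ygi13 zgi48) (kgi xgi31 ygi29 zgi39) (kgi xgi18 ygi54 zgi8) (kgi xgi19 ygi44 zgi28) (kgi xgi26 ygi48 zgi23) (kgi xgi29 ygi34 zgi44) (kgi xgi23 ygi0 zgi41) (kgi xgi32 ygi22 zgi28) (kgi xgi26 ygi45 zgi16) (kgi xgi28 ygi50 zgi22) (kgi xgi24 ygi47 zgi2) (kgi xgi20 ygi21 zgi46) (kgi xgi19 ygi34 zgi16) (kgi xgi18 ygi44 zgi12) (kgi xgi25 ygi56 zgi4) (kgi xgi25 ygi43 zgi36) (kgi xgi24 ygi49 zgi28) (kgi xgi19 ygi42 zgi16) (kgi xgi28 ygi8 zgi5) (kgi xgi19 ygi58 zgi21) (kgi xgi29 ygi7 zgi50) (kgi xgi18 ygi44 zgi21)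 (kgi xgi32 ygi12 zgi59) (kgi xgi18 ygi44 zgi23) (kgi xgi28 ygi19 zgi58) (kgi xgi19 ygi41 zgi6) (kgi xgi25 ygi20 zgi30) (kgi xgi21 ygi4 zgi13) (kgi xgi32 ygi16 zgi29) (kgi xgi30 ygi50 zgi10) (kgi xgi27 ygi9 zgi34) (kgi xgi27 ygi12 zgi33) (kgi xgi18 ygi46 zgi2) (kgi xgi32 ygi32 zgi55) (kgi xgi28 ygi27 zgi61) (kgi xgi18 ygi44 zgi42) (kgi xgi18 ygi46 zgi13) (kgi xgi23 ygi13 zgi7) (kgi xgi18 ygi49 zgi11) (kgi xgi31 ygi38 zgi47) (kgi xgi18 ygi44 zgi52) (kgi xgi24 ygi44 zgi16) (kgi xgi28 ygi43 zgi24) (kgi xgi28 ygi22 zgi46) (kgi xgi18 ygi47 zgi1) (kgi xgi29 ygi48 zgi22) (kgi xgi18 ygi46 zgi60) (kgi xgi18 ygi47 zgi46) (kgi xgi23 ygi52 zgi58) (kgi xgi18 ygi47 zgi44) (kgi xgi19 ygi34 zgi18) (kgi xgi18 ygi45 zgi0) (kgi xgi22 ygi57 zgi49) (kgi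 xgi26 ygi42 zgi12) (kgi xgi19 ygi21 zgi30) (kgi xgi18 ygi47 zgi60) (kgi xgi19 ygi22 zgi3) (kgi xgi30 ygi11 zgi60) (kgi xgi21 ygi53 zgi57) (kgi xgi25 ygi56 zgi14)) (@D3.rec (fun _ => Pt) (kgi xgi18 ygi45 zgi8) (kgi xgi27 ygi22 zgi35) (kgi xgi29 ygi49 zgi9) (kgi xgi30 ygi35 zgi17) (kgi xgi26 ygi56 zgi1) (kgi xgi30 ygi26 zgi22) (kgi xgi29 ygi18 zgi15) (kgi xgi26 ygi28 zgi60) (kgi xgi18 ygi45 zgi17) (kgi xgi18 ygi45 zgi18) (kgi xgi22 ygi19 zgi16) (kgi xgi22 ygi1 zgi28) (kgi xgi28 ygi21 zgi59) (kgi xgi26 ygi45 zgi10) (kgi xgi28 ygi19 zgi54) (kgi xgi29 ygi48 zgi0) (kgi xgi19 ygi50 zgi60) (kgi xgi19 ygi20 zgi38) (kgi xgi28 ygi14 zgi4) (kgi xgi18 ygi45 zgi41) (kgi xgi28 ygi21 zgi56) (kgi xgi27 ygi46 zgi27) (kgi xgi19 ygi50 zgi18) (kgi xgi30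 ygi23 zgi24) (kgi xgi20 ygi48 zgi33) (kgi xgi19 ygi51 zgi3) (kgi xgi20 ygi47 zgi18) (kgi xgi29 ygi52 zgi22) (kgi xgi26 ygi29 zgi58) (kgi xgi19 ygi21 zgi27) (kgi xgi19 ygi20 zgi52) (kgi xgi28 ygi5 zgi18) (kgi xgi28 ygi5 zgi11) (kgi xgi25 ygi26 zgi18) (kgi xgi28 ygi21 zgi30) (kgi xgi18 ygi45 zgi57) (kgi xgi31 ygi39 zgi25) (kgi xgi29 ygi26 zgi4) (kgi xgi26 ygi31 zgi35) (kgi xgi18 ygi45 zgi58) (kgi xgi28 ygi38 zgi5) (kgi xgi27 ygi53 zgi12) (kgi xgi29 ygi12 zgi37) (kgi xgi26 ygi34 zgi4) (kgi xgi19 ygi34 zgi1) (kgi xgi18 ygi46 zgi3) (kgi xgi32 ygi14 zgi57) (kgi xgi30 ygi21 zgi28) (kgi xgi18 ygi46 zgi4) (kgi xgi19 ygi29 zgi40) (kgi xgi31 ygi19 zgi53) (kgi xgi19 ygi18 zgi7) (kgi xgi26 ygi49 zgi59) (kgi xgi24 ygi12 zgi42) (kgi xgi21 ygi30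 zgi39) (kgi xgi26 ygi18 zgi29) (kgi xgi28 ygi20 zgi52) (kgi xgi29 ygi56 zgi10) (kgi xgi27 ygi15 zgi41) (kgi xgi31 ygi52 zgi47) (kgi xgi25 ygi12 zgi17) (kgi xgi26 ygi5 zgi31)) (@D3.rec (fun _ => Pt) (kgi xgi25 ygi12 zgi15) (kgi xgi21 ygi24 zgi9) (kgi xgi18 ygi46 zgi30) (kgi xgi25 ygi12 zgi39) (kgi xgi29 ygi47 zgi58) (kgi xgi25 ygi26 zgi19) (kgi xgi28 ygi16 zgi58) (kgi xgi30 ygi45 zgi12) (kgi xgi18 ygi47 zgi32) (kgi xgi28 ygi22 zgi6) (kgi xgi18 ygi46 zgi39) (kgi xgi28 ygi22 zgi5) (kgi xgi32 ygi22 zgi60) (kgi xgi18 ygi46 zgi40) (kgi xgi28 ygi18 zgi28) (kgi xgi19 ygi3 zgi45) (kgi xgi23 ygi36 zgi61) (kgi xgi28 ygi20 zgi10) (kgi xgi28 ygi14 zgi61) (kgi xgi28 ygi44 zgi56) (kgi xgi30 ygi38 zgi38) (kgi xgi29 ygi9 zgi9) (kgi xgi18 ygi46 zgi48)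 (kgi xgi29 ygi39 zgi12) (kgi xgi21 ygi3 zgi33) (kgi xgi24 ygi44 zgi20) (kgi xgi18 ygi46 zgi50) (kgi xgi24 ygi44 zgi18) (kgi xgi31 ygi26 zgi37) (kgi xgi31 ygi31 zgi25) (kgi xgi25 ygi53 zgi18) (kgi xgi27 ygi2 zgi21) (kgi xgi18 ygi46 zgi56) (kgi xgi30 ygi39 zgi45) (kgi xgi32 ygi20 zgi24) (kgi xgi30 ygi19 zgi9) (kgi xgi30 ygi38 zgi32) (kgi xgi28 ygi2 zgi48) (kgi xgi31 ygi31 zgi21) (kgi xgi28 ygi17 zgi35) (kgi xgi22 ygi7 zgi30) (kgi xgi18 ygi47 zgi0) (kgi xgi32 ygi15 zgi0) (kgi xgi32 ygi20 zgi25) (kgi xgi27 ygi2 zgi27) (kgi xgi27 ygi59 zgi8) (kgi xgi28 ygi56 zgi13) (kgi xgi30 ygi5 zgi53) (kgi xgi27 ygi7 zgi26) (kgi xgi25 ygi26 zgi24) (kgi xgi32 ygi26 zgi2) (kgi xgi31 ygi39 zgi13) (kgi xgi30 ygi18 zgi31) (kgi xgi31 ygi45 zgi51) (kgi xgi32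 ygi30 zgi25) (kgi xgi31 ygi39 zgi23) (kgi xgi28 ygi33 zgi44) (kgi xgi18 ygi49 zgi53) (kgi xgi31 ygi53 zgi47) (kgi xgi28 ygi19 zgi59) (kgi xgi22 ygi23 zgi41) (kgi xgi32 ygi15 zgi26)) (@D3.rec (fun _ => Pt) (kgi xgi18 ygi47 zgi26) (kgi xgi18 ygi47 zgi23) (kgi xgi18 ygi47 zgi22) (kgi xgi27 ygi54 zgi23) (kgi xgi30 ygi36 zgi49) (kgi xgi23 ygi53 zgi27) (kgi xgi32 ygi10 zgi24) (kgi xgi25 ygi58 zgi3) (kgi xgi30 ygi23 zgi29) (kgi xgi18 ygi47 zgi25) (kgi xgi20 ygi37 zgi7) (kgi xgi20 ygi37 zgi16) (kgi xgi18 ygi50 zgi15) (kgi xgi23 ygi11 zgi41) (kgi xgi31 ygi55 zgi13) (kgi xgi22 ygi58 zgi29) (kgi xgi28 ygi14 zgi55) (kgi xgi20 ygi35 zgi13) (kgi xgi23 ygi5 zgi23) (kgi xgi18 ygi47 zgi51) (kgi xgi30 ygi38 zgi27) (kgi xgi28 ygi27 zgi48) (kgi xgi27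 ygi8 zgi19) (kgi xgi18 ygi47 zgi50) (kgi xgi29 ygi28 zgi54) (kgi xgi22 ygi59 zgi28) (kgi xgi20 ygi59 zgi56) (kgi xgi26 ygi50 zgi6) (kgi xgi24 ygi26 zgi56) (kgi xgi23 ygi48 zgi40) (kgi xgi22 ygi7 zgi9) (kgi xgi18 ygi47 zgi58) (kgi xgi32 ygi15 zgi6) (kgi xgi31 ygi33 zgi13) (kgi xgi28 ygi52 zgi3) (kgi xgi28 ygi16 zgi37) (kgi xgi19 ygi5 zgi17) (kgi xgi27 ygi47 zgi1) (kgi xgi23 ygi49 zgi15) (kgi xgi23 ygi24 zgi41) (kgi xgi26 ygi7 zgi25) (kgi xgi29 ygi43 zgi50) (kgi xgi32 ygi7 zgi45) (kgi xgi23 ygi50 zgi50) (kgi xgi18 ygi48 zgi31) (kgi xgi27 ygi8 zgi42) (kgi xgi19 ygi22 zgi6) (kgi xgi18 ygi48 zgi16) (kgi xgi25 ygi30 zgi35) (kgi xgi28 ygi17 zgi16) (kgi xgi20 ygi23 zgi53) (kgi xgi20 ygi9 zgi35) (kgi xgi30 ygi35 zgi39) (kgi xgi28 ygi45 zgi30)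 (kgi xgi22 ygi18 zgi10) (kgi xgi30 ygi22 zgi32) (kgi xgi28 ygi37 zgi43) (kgi xgi18 ygi48 zgi26) (kgi xgi27 ygi59 zgi1) (kgi xgi19 ygi22 zgi52) (kgi xgi26 ygi52 zgi15) (kgi xgi24 ygi13 zgi10)) (@D3.rec (fun _ => Pt) (kgi xgi18 ygi48 zgi33) (kgi xgi24 ygi36 zgi29) (kgi xgi18 ygi48 zgi37) (kgi xgi27 ygi43 zgi36) (kgi xgi29 ygi6 zgi39) (kgi xgi22 ygi16 zgi29) (kgi xgi19 ygi34 zgi8) (kgi xgi29 ygi15 zgi1) (kgi xgi29 ygi52 zgi25) (kgi xgi19 ygi22 zgi31) (kgi xgi18 ygi48 zgi45) (kgi xgi19 ygi22 zgi30) (kgi xgi20 ygi38 zgi44) (kgi xgi18 ygi48 zgi48) (kgi xgi22 ygi32 zgi47) (kgi xgi26 ygi7 zgi28) (kgi xgi29 ygi7 zgi41) (kgi xgi27 ygi14 zgi9) (kgi xgi26 ygi51 zgi23) (kgi xgi25 ygi43 zgi19) (kgi xgi18 ygi53 zgi3) (kgi xgi32 ygi1 zgi0) (kgi xgi31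 ygi29 zgi15) (kgi xgi32 ygi33 zgi28) (kgi xgi30 ygi28 zgi61) (kgi xgi29 ygi53 zgi31) (kgi xgi28 ygi16 zgi14) (kgi xgi28 ygi23 zgi11) (kgi xgi31 ygi53 zgi43) (kgi xgi18 ygi49 zgi5) (kgi xgi28 ygi18 zgi32) (kgi xgi24 ygi25 zgi52) (kgi xgi28 ygi18 zgi29) (kgi xgi18 ygi49 zgi12) (kgi xgi32 ygi32 zgi37) (kgi xgi25 ygi30 zgi58) (kgi xgi22 ygi23 zgi58) (kgi xgi31 ygi13 zgi61) (kgi xgi27 ygi14 zgi0) (kgi xgi31 ygi1 zgi21) (kgi xgi18 ygi54 zgi21) (kgi xgi24 ygi21 zgi53) (kgi xgi20 ygi10 zgi36) (kgi xgi18 ygi49 zgi16) (kgi xgi22 ygi34 zgi53) (kgi xgi26 ygi37 zgi44) (kgi xgi29 ygi55 zgi7) (kgi xgi26 ygi38 zgi1) (kgi xgi27 ygi30 zgi29) (kgi xgi29 ygi55 zgi30) (kgi xgi32 ygi17 zgi5) (kgi xgi30 ygi57 zgi13) (kgi xgi31 ygi44 zgi9) (kgi xgi26 ygi40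 zgi14) (kgi xgi30 ygi37 zgi31) (kgi xgi28 ygi27 zgi49) (kgi xgi28 ygi38 zgi41) (kgi xgi26 ygi54 zgi7) (kgi xgi18 ygi50 zgi3) (kgi xgi21 ygi38 zgi29) (kgi xgi28 ygi43 zgi29) (kgi xgi21 ygi34 zgi59)) (@D3.rec (fun _ => Pt) (kgi xgi27 ygi14 zgi29) (kgi xgi20 ygi1 zgi35) (kgi xgi19 ygi8 zgi6) (kgi xgi23 ygi53 zgi32) (kgi xgi30 ygi26 zgi24) (kgi xgi21 ygi31 zgi30) (kgi xgi32 ygi31 zgi34) (kgi xgi21 ygi8 zgi11) (kgi xgi20 ygi12 zgi15) (kgi xgi27 ygi4 zgi20) (kgi xgi21 ygi7 zgi4) (kgi xgi21 ygi43 zgi7) (kgi xgi28 ygi2 zgi52) (kgi xgi19 ygi13 zgi18) (kgi xgi27 ygi36 zgi52) (kgi xgi25 ygi4 zgi17) (kgi xgi21 ygi50 zgi58) (kgi xgi27 ygi36 zgi15) (kgi xgi25 ygi4 zgi52) (kgi xgi25 ygi4 zgi41) (kgi xgi28 ygi8 zgi42) (kgi xgi18 ygi51 zgi6) (kgi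 xgi23 ygi39 zgi36) (kgi xgi18 ygi51 zgi7) (kgi xgi25 ygi4 zgi60) (kgi xgi19 ygi46 zgi6) (kgi xgi30 ygi46 zgi10) (kgi xgi25 ygi12 zgi13) (kgi xgi29 ygi14 zgi7) (kgi xgi25 ygi36 zgi11) (kgi xgi28 ygi33 zgi45) (kgi xgi24 ygi18 zgi38) (kgi xgi30 ygi50 zgi28) (kgi xgi25 ygi36 zgi13) (kgi xgi25 ygi30 zgi3) (kgi xgi18 ygi51 zgi20) (kgi xgi27 ygi15 zgi37) (kgi xgi25 ygi5 zgi35) (kgi xgi25 ygi4 zgi35) (kgi xgi28 ygi16 zgi53) (kgi xgi31 ygi27 zgi12) (kgi xgi18 ygi51 zgi22) (kgi xgi24 ygi58 zgi41) (kgi xgi25 ygi5 zgi40) (kgi xgi22 ygi52 zgi46) (kgi xgi25 ygi24 zgi22) (kgi xgi29 ygi33 zgi15) (kgi xgi28 ygi43 zgi32) (kgi xgi27 ygi12 zgi24) (kgi xgi18 ygi53 zgi60) (kgi xgi18 ygi51 zgi34) (kgi xgi18 ygi53 zgi58) (kgi xgi32 ygi33 zgi43) (kgi xgi28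 ygi1 zgi61) (kgi xgi28 ygi15 zgi16) (kgi xgi27 ygi12 zgi31) (kgi xgi18 ygi53 zgi32) (kgi xgi22 ygi47 zgi37) (kgi xgi21 ygi15 zgi32) (kgi xgi18 ygi56 zgi5) (kgi xgi18 ygi54 zgi44) (kgi xgi30 ygi56 zgi5)) (@D3.rec (fun _ => Pt) (kgi xgi18 ygi52 zgi8) (kgi xgi18 ygi55 zgi41) (kgi xgi18 ygi51 zgi50) (kgi xgi18 ygi54 zgi60) (kgi xgi29 ygi52 zgi27) (kgi xgi18 ygi52 zgi2) (kgi xgi18 ygi55 zgi7) (kgi xgi24 ygi46 zgi29) (kgi xgi18 ygi59 zgi43) (kgi xgi24 ygi18 zgi21) (kgi xgi25 ygi30 zgi59) (kgi xgi18 ygi51 zgi56) (kgi xgi18 ygi55 zgi5) (kgi xgi22 ygi57 zgi54) (kgi xgi23 ygi36 zgi39) (kgi xgi29 ygi29 zgi48) (kgi xgi18 ygi52 zgi1) (kgi xgi18 ygi52 zgi6) (kgi xgi26 ygi56 zgi35) (kgi xgi30 ygi47 zgi17) (kgi xgi23 ygi54 zgi9) (kgi xgi21 ygi11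 zgi13) (kgi xgi24 ygi28 zgi53) (kgi xgi18 ygi52 zgi4) (kgi xgi23 ygi45 zgi43) (kgi xgi18 ygi54 zgi55) (kgi xgi31 ygi59 zgi56) (kgi xgi20 ygi11 zgi41) (kgi xgi30 ygi16 zgi24) (kgi xgi25 ygi29 zgi21) (kgi xgi18 ygi52 zgi18) (kgi xgi22 ygi52 zgi42) (kgi xgi32 ygi33 zgi48) (kgi xgi28 ygi15 zgi59) (kgi xgi28 ygi59 zgi55) (kgi xgi19 ygi25 zgi57) (kgi xgi25 ygi11 zgi39) (kgi xgi29 ygi17 zgi9) (kgi xgi31 ygi39 zgi26) (kgi xgi29 ygi24 zgi49) (kgi xgi29 ygi4 zgi39) (kgi xgi19 ygi26 zgi5) (kgi xgi27 ygi21 zgi50) (kgi xgi20 ygi29 zgi33) (kgi xgi31 ygi7 zgi4) (kgi xgi27 ygi22 zgi24) (kgi xgi19 ygi44 zgi60) (kgi xgi26 ygi37 zgi11) (kgi xgi28 ygi25 zgi36) (kgi xgi28 ygi45 zgi35) (kgi xgi22 ygi50 zgi11) (kgi xgi19 ygi11 zgi41) (kgi xgi18 ygi53 zgi57)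 (kgi xgi27 ygi51 zgi41) (kgi xgi18 ygi53 zgi51) (kgi xgi32 ygi2 zgi37) (kgi xgi28 ygi22 zgi3) (kgi xgi32 ygi29 zgi24) (kgi xgi26 ygi49 zgi22) (kgi xgi18 ygi53 zgi14) (kgi xgi28 ygi22 zgi29) (kgi xgi28 ygi22 zgi26)) (@D3.rec (fun _ => Pt) (kgi xgi18 ygi53 zgi41) (kgi xgi18 ygi53 zgi22) (kgi xgi28 ygi15 zgi18) (kgi xgi23 ygi0 zgi21) (kgi xgi18 ygi53 zgi20) (kgi xgi28 ygi22 zgi23) (kgi xgi32 ygi11 zgi11) (kgi xgi28 ygi22 zgi22) (kgi xgi24 ygi18 zgi16) (kgi xgi27 ygi31 zgi56) (kgi xgi29 ygi39 zgi15) (kgi xgi27 ygi59 zgi9) (kgi xgi18 ygi53 zgi26) (kgi xgi29 ygi30 zgi30) (kgi xgi23 ygi32 zgi56) (kgi xgi22 ygi59 zgi53) (kgi xgi29 ygi5 zgi41) (kgi xgi28 ygi45 zgi52) (kgi xgi28 ygi23 zgi39) (kgi xgi20 ygi46 zgi41) (kgi xgi30 ygi53 zgi19) (kgi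 xgi31 ygi45 zgi0) (kgi xgi23 ygi12 zgi28) (kgi xgi20 ygi43 zgi55) (kgi xgi18 ygi53 zgi40) (kgi xgi31 ygi15 zgi36) (kgi xgi30 ygi56 zgi11) (kgi xgi23 ygi6 zgi58) (kgi xgi23 ygi51 zgi61) (kgi xgi29 ygi7 zgi38) (kgi xgi27 ygi49 zgi33) (kgi xgi32 ygi27 zgi33) (kgi xgi28 ygi15 zgi31) (kgi xgi18 ygi53 zgi47) (kgi xgi32 ygi29 zgi11) (kgi xgi31 ygi50 zgi26) (kgi xgi20 ygi10 zgi52) (kgi xgi32 ygi24 zgi37) (kgi xgi32 ygi8 zgi45) (kgi xgi28 ygi15 zgi56) (kgi xgi32 ygi32 zgi56) (kgi xgi30 ygi53 zgi34) (kgi xgi31 ygi59 zgi42) (kgi xgi18 ygi53 zgi59) (kgi xgi18 ygi54 zgi2) (kgi xgi32 ygi19 zgi59) (kgi xgi27 ygi1 zgi58) (kgi xgi27 ygi59 zgi11) (kgi xgi18 ygi54 zgi0) (kgi xgi30 ygi55 zgi14) (kgi xgi31 ygi49 zgi13) (kgi xgi18 ygi54 zgi1) (kgi xgi23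 ygi12 zgi9) (kgi xgi26 ygi40 zgi51) (kgi xgi28 ygi14 zgi31) (kgi xgi27 ygi2 zgi44) (kgi xgi28 ygi15 zgi19) (kgi xgi28 ygi45 zgi49) (kgi xgi28 ygi14 zgi26) (kgi xgi20 ygi47 zgi14) (kgi xgi18 ygi54 zgi14) (kgi xgi24 ygi50 zgi54)) (@D3.rec (fun _ => Pt) (kgi xgi28 ygi46 zgi10) (kgi xgi29 ygi29 zgi49) (kgi xgi27 ygi54 zgi34) (kgi xgi18 ygi54 zgi31) (kgi xgi18 ygi54 zgi39) (kgi xgi28 ygi16 zgi10) (kgi xgi18 ygi54 zgi20) (kgi xgi28 ygi16 zgi9) (kgi xgi31 ygi14 zgi6) (kgi xgi28 ygi24 zgi13) (kgi xgi28 ygi19 zgi12) (kgi xgi18 ygi54 zgi24) (kgi xgi28 ygi3 zgi53) (kgi xgi26 ygi27 zgi47) (kgi xgi23 ygi31 zgi25) (kgi xgi30 ygi50 zgi51) (kgi xgi23 ygi0 zgi3) (kgi xgi18 ygi54 zgi30) (kgi xgi23 ygi12 zgi3) (kgi xgi25 ygi23 zgi60) (kgi xgi27 ygi52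 zgi54) (kgi xgi32 ygi34 zgi4) (kgi xgi18 ygi54 zgi32) (kgi xgi28 ygi21 zgi4) (kgi xgi18 ygi57 zgi15) (kgi xgi32 ygi34 zgi7) (kgi xgi18 ygi54 zgi34) (kgi xgi28 ygi20 zgi61) (kgi xgi29 ygi37 zgi36) (kgi xgi28 ygi20 zgi59) (kgi xgi18 ygi56 zgi51) (kgi xgi28 ygi14 zgi40) (kgi xgi22 ygi25 zgi28) (kgi xgi32 ygi22 zgi49) (kgi xgi30 ygi44 zgi6) (kgi xgi27 ygi10 zgi8) (kgi xgi29 ygi41 zgi44) (kgi xgi27 ygi15 zgi33) (kgi xgi18 ygi54 zgi46) (kgi xgi30 ygi48 zgi14) (kgi xgi28 ygi23 zgi20) (kgi xgi22 ygi33 zgi51) (kgi xgi28 ygi46 zgi40) (kgi xgi27 ygi33 zgi53) (kgi xgi28 ygi37 zgi59) (kgi xgi27 ygi32 zgi32) (kgi xgi28 ygi14 zgi41) (kgi xgi23 ygi28 zgi53) (kgi xgi18 ygi54 zgi54) (kgi xgi26 ygi45 zgi27) (kgi xgi23 ygi4 zgi26) (kgi xgi22 ygi25 zgi52)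 (kgi xgi27 ygi15 zgi0) (kgi xgi19 ygi8 zgi5) (kgi xgi22 ygi56 zgi61) (kgi xgi31 ygi39 zgi34) (kgi xgi29 ygi1 zgi28) (kgi xgi19 ygi7 zgi19) (kgi xgi24 ygi6 zgi0) (kgi xgi18 ygi55 zgi2) (kgi xgi22 ygi57 zgi50) (kgi xgi19 ygi3 zgi3)) (@D3.rec (fun _ => Pt) (kgi xgi20 ygi45 zgi20) (kgi xgi28 ygi30 zgi59) (kgi xgi22 ygi53 zgi13) (kgi xgi19 ygi9 zgi43) (kgi xgi18 ygi55 zgi6) (kgi xgi28 ygi11 zgi3) (kgi xgi27 ygi15 zgi4) (kgi xgi18 ygi55 zgi51) (kgi xgi18 ygi55 zgi14) (kgi xgi18 ygi55 zgi27) (kgi xgi28 ygi18 zgi8) (kgi xgi30 ygi25 zgi57) (kgi xgi18 ygi55 zgi33) (kgi xgi30 ygi23 zgi55) (kgi xgi22 ygi57 zgi51) (kgi xgi23 ygi18 zgi52) (kgi xgi30 ygi56 zgi7) (kgi xgi18 ygi56 zgi57) (kgi xgi18 ygi55 zgi19) (kgi xgi18 ygi55 zgi22) (kgi xgi22 ygi55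 zgi60) (kgi xgi28 ygi24 zgi54) (kgi xgi29 ygi28 zgi31) (kgi xgi31 ygi16 zgi13) (kgi xgi30 ygi23 zgi8) (kgi xgi28 ygi24 zgi51) (kgi xgi29 ygi25 zgi28) (kgi xgi28 ygi24 zgi49) (kgi xgi28 ygi47 zgi56) (kgi xgi30 ygi46 zgi19) (kgi xgi20 ygi11 zgi42) (kgi xgi29 ygi20 zgi35) (kgi xgi32 ygi34 zgi16) (kgi xgi18 ygi55 zgi28) (kgi xgi18 ygi55 zgi31) (kgi xgi32 ygi19 zgi43) (kgi xgi22 ygi23 zgi20) (kgi xgi24 ygi8 zgi55) (kgi xgi30 ygi23 zgi9) (kgi xgi28 ygi21 zgi16) (kgi xgi22 ygi54 zgi30) (kgi xgi22 ygi6 zgi32) (kgi xgi30 ygi56 zgi33) (kgi xgi30 ygi23 zgi56) (kgi xgi30 ygi46 zgi53) (kgi xgi31 ygi56 zgi36) (kgi xgi18 ygi57 zgi47) (kgi xgi29 ygi30 zgi46) (kgi xgi22 ygi23 zgi1) (kgi xgi29 ygi6 zgi32) (kgi xgi30 ygi52 zgi1) (kgi xgi18 ygi55 zgi39)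 (kgi xgi28 ygi40 zgi8) (kgi xgi28 ygi17 zgi50) (kgi xgi18 ygi55 zgi42) (kgi xgi28 ygi32 zgi21) (kgi xgi18 ygi55 zgi43) (kgi xgi19 ygi30 zgi47) (kgi xgi22 ygi54 zgi49) (kgi xgi25 ygi35 zgi30) (kgi xgi19 ygi19 zgi40) (kgi xgi29 ygi1 zgi27)) (@D3.rec (fun _ => Pt) (kgi xgi22 ygi57 zgi40) (kgi xgi25 ygi34 zgi25) (kgi xgi23 ygi4 zgi38) (kgi xgi23 ygi4 zgi31) (kgi xgi30 ygi15 zgi20) (kgi xgi18 ygi55 zgi55) (kgi xgi26 ygi56 zgi32) (kgi xgi32 ygi34 zgi23) (kgi xgi29 ygi40 zgi8) (kgi xgi18 ygi55 zgi57) (kgi xgi31 ygi31 zgi14) (kgi xgi28 ygi34 zgi27) (kgi xgi32 ygi33 zgi35) (kgi xgi30 ygi15 zgi51) (kgi xgi28 ygi15 zgi11) (kgi xgi22 ygi24 zgi40) (kgi xgi18 ygi56 zgi2) (kgi xgi30 ygi29 zgi3) (kgi xgi27 ygi14 zgi45) (kgi xgi28 ygi39 zgi15) (kgi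 xgi30 ygi29 zgi0) (kgi xgi30 ygi23 zgi10) (kgi xgi26 ygi17 zgi26) (kgi xgi29 ygi21 zgi3) (kgi xgi26 ygi58 zgi14) (kgi xgi28 ygi13 zgi41) (kgi xgi32 ygi30 zgi49) (kgi xgi27 ygi57 zgi56) (kgi xgi30 ygi48 zgi56) (kgi xgi26 ygi17 zgi46) (kgi xgi28 ygi28 zgi25) (kgi xgi28 ygi37 zgi54) (kgi xgi19 ygi29 zgi30) (kgi xgi28 ygi34 zgi51) (kgi xgi26 ygi32 zgi23) (kgi xgi18 ygi56 zgi32) (kgi xgi21 ygi53 zgi29) (kgi xgi21 ygi41 zgi9) (kgi xgi19 ygi48 zgi7) (kgi xgi21 ygi28 zgi55) (kgi xgi26 ygi32 zgi58) (kgi xgi18 ygi56 zgi39) (kgi xgi25 ygi39 zgi13) (kgi xgi30 ygi52 zgi25) (kgi xgi25 ygi39 zgi10) (kgi xgi28 ygi11 zgi1) (kgi xgi30 ygi58 zgi8) (kgi xgi22 ygi53 zgi31) (kgi xgi28 ygi32 zgi39) (kgi xgi28 ygi23 zgi25) (kgi xgi22 ygi48 zgi50) (kgi xgi28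 ygi23 zgi27) (kgi xgi26 ygi51 zgi18) (kgi xgi31 ygi39 zgi32) (kgi xgi28 ygi10 zgi2) (kgi xgi28 ygi23 zgi21) (kgi xgi31 ygi25 zgi57) (kgi xgi18 ygi57 zgi19) (kgi xgi25 ygi56 zgi41) (kgi xgi18 ygi56 zgi61) (kgi xgi18 ygi57 zgi11) (kgi xgi22 ygi42 zgi23)) (@D3.rec (fun _ => Pt) (kgi xgi23 ygi3 zgi13) (kgi xgi27 ygi10 zgi43) (kgi xgi26 ygi58 zgi20) (kgi xgi19 ygi10 zgi40) (kgi xgi29 ygi30 zgi18) (kgi xgi27 ygi2 zgi16) (kgi xgi29 ygi51 zgi51) (kgi xgi29 ygi59 zgi5) (kgi xgi28 ygi35 zgi34) (kgi xgi20 ygi40 zgi61) (kgi xgi30 ygi34 zgi36) (kgi xgi32 ygi34 zgi35) (kgi xgi24 ygi33 zgi11) (kgi xgi18 ygi57 zgi36) (kgi xgi29 ygi27 zgi45) (kgi xgi26 ygi58 zgi21) (kgi xgi32 ygi34 zgi36) (kgi xgi27 ygi6 zgi35) (kgi xgi29 ygi30 zgi41) (kgi xgi18 ygi57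 zgi54) (kgi xgi28 ygi45 zgi17) (kgi xgi27 ygi35 zgi37) (kgi xgi23 ygi53 zgi52) (kgi xgi18 ygi57 zgi43) (kgi xgi32 ygi34 zgi40) (kgi xgi32 ygi34 zgi42) (kgi xgi23 ygi49 zgi11) (kgi xgi25 ygi56 zgi37) (kgi xgi32 ygi22 zgi25) (kgi xgi31 ygi49 zgi45) (kgi xgi31 ygi14 zgi16) (kgi xgi18 ygi57 zgi50) (kgi xgi27 ygi7 zgi19) (kgi xgi19 ygi17 zgi25) (kgi xgi28 ygi20 zgi48) (kgi xgi28 ygi7 zgi13) (kgi xgi27 ygi34 zgi7) (kgi xgi28 ygi6 zgi20) (kgi xgi18 ygi58 zgi11) (kgi xgi30 ygi23 zgi28) (kgi xgi18 ygi58 zgi14) (kgi xgi32 ygi26 zgi10) (kgi xgi29 ygi25 zgi11) (kgi xgi27 ygi51 zgi13) (kgi xgi18 ygi58 zgi20) (kgi xgi32 ygi34 zgi46) (kgi xgi30 ygi35 zgi49) (kgi xgi31 ygi14 zgi43) (kgi xgi30 ygi32 zgi1) (kgi xgi31 ygi8 zgi15) (kgi xgi28 ygi9 zgi27)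 (kgi xgi30 ygi35 zgi18) (kgi xgi28 ygi7 zgi40) (kgi xgi21 ygi28 zgi32) (kgi xgi23 ygi53 zgi50) (kgi xgi18 ygi58 zgi37) (kgi xgi18 ygi58 zgi43) (kgi xgi20 ygi32 zgi44) (kgi xgi28 ygi27 zgi4) (kgi xgi18 ygi58 zgi39) (kgi xgi23 ygi15 zgi47) (kgi xgi22 ygi30 zgi23)) (@D3.rec (fun _ => Pt) (kgi xgi23 ygi52 zgi31) (kgi xgi30 ygi33 zgi29) (kgi xgi29 ygi19 zgi2) (kgi xgi29 ygi24 zgi17) (kgi xgi29 ygi18 zgi61) (kgi xgi21 ygi15 zgi43) (kgi xgi18 ygi58 zgi46) (kgi xgi28 ygi10 zgi51) (kgi xgi26 ygi18 zgi57) (kgi xgi27 ygi55 zgi48) (kgi xgi27 ygi55 zgi50) (kgi xgi23 ygi33 zgi50) (kgi xgi31 ygi7 zgi18) (kgi xgi30 ygi32 zgi38) (kgi xgi18 ygi58 zgi55) (kgi xgi29 ygi24 zgi47) (kgi xgi20 ygi7 zgi50) (kgi xgi18 ygi59 zgi3) (kgi xgi22 ygi51 zgi25) (kgi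 xgi19 ygi51 zgi40) (kgi xgi29 ygi24 zgi9) (kgi xgi30 ygi44 zgi12) (kgi xgi19 ygi0 zgi55) (kgi xgi30 ygi45 zgi37) (kgi xgi24 ygi28 zgi14) (kgi xgi18 ygi59 zgi9) (kgi xgi29 ygi19 zgi30) (kgi xgi29 ygi31 zgi59) (kgi xgi18 ygi59 zgi13) (kgi xgi27 ygi14 zgi53) (kgi xgi24 ygi18 zgi9) (kgi xgi31 ygi48 zgi42) (kgi xgi24 ygi7 zgi38) (kgi xgi22 ygi56 zgi37) (kgi xgi26 ygi57 zgi57) (kgi xgi27 ygi15 zgi6) (kgi xgi23 ygi52 zgi53) (kgi xgi30 ygi50 zgi57) (kgi xgi28 ygi51 zgi39) (kgi xgi29 ygi28 zgi23) (kgi xgi19 ygi3 zgi37) (kgi xgi28 ygi51 zgi46) (kgi xgi18 ygi59 zgi28) (kgi xgi24 ygi1 zgi32) (kgi xgi32 ygi23 zgi59) (kgi xgi18 ygi59 zgi29) (kgi xgi28 ygi47 zgi31) (kgi xgi19 ygi11 zgi53) (kgi xgi26 ygi24 zgi55) (kgi xgi18 ygi59 zgi36) (kgi xgi31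 ygi54 zgi53) (kgi xgi26 ygi13 zgi9) (kgi xgi27 ygi58 zgi17) (kgi xgi18 ygi59 zgi38) (kgi xgi28 ygi28 zgi22) (kgi xgi28 ygi29 zgi7) (kgi xgi28 ygi28 zgi19) (kgi xgi28 ygi27 zgi20) (kgi xgi23 ygi48 zgi10) (kgi xgi20 ygi51 zgi0) (kgi xgi28 ygi38 zgi20) (kgi xgi26 ygi29 zgi21)) (@D3.rec (fun _ => Pt) (kgi xgi18 ygi59 zgi50) (kgi xgi30 ygi54 zgi11) (kgi xgi18 ygi59 zgi54) (kgi xgi18 ygi59 zgi53) (kgi xgi28 ygi39 zgi10) (kgi xgi29 ygi29 zgi59) (kgi xgi20 ygi1 zgi24) (kgi xgi20 ygi33 zgi28) (kgi xgi26 ygi27 zgi55) (kgi xgi27 ygi58 zgi19) (kgi xgi24 ygi40 zgi21) (kgi xgi19 ygi0 zgi11) (kgi xgi28 ygi13 zgi30) (kgi xgi26 ygi21 zgi17) (kgi xgi19 ygi56 zgi15) (kgi xgi25 ygi46 zgi44) (kgi xgi19 ygi2 zgi5) (kgi xgi23 ygi31 zgi58) (kgi xgi28 ygi27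 zgi9) (kgi xgi27 ygi14 zgi12) (kgi xgi26 ygi27 zgi27) (kgi xgi28 ygi7 zgi32) (kgi xgi31 ygi38 zgi1) (kgi xgi28 ygi8 zgi24) (kgi xgi30 ygi4 zgi5) (kgi xgi28 ygi7 zgi41) (kgi xgi19 ygi0 zgi27) (kgi xgi28 ygi28 zgi46) (kgi xgi32 ygi26 zgi40) (kgi xgi31 ygi38 zgi3) (kgi xgi32 ygi6 zgi60) (kgi xgi24 ygi46 zgi26) (kgi xgi20 ygi30 zgi42) (kgi xgi24 ygi52 zgi33) (kgi xgi27 ygi31 zgi13) (kgi xgi27 ygi56 zgi10) (kgi xgi27 ygi40 zgi11) (kgi xgi32 ygi4 zgi45) (kgi xgi30 ygi20 zgi29) (kgi xgi31 ygi1 zgi28) (kgi xgi32 ygi23 zgi35) (kgi xgi23 ygi35 zgi38) (kgi xgi22 ygi9 zgi3) (kgi xgi26 ygi14 zgi59) (kgi xgi24 ygi41 zgi54) (kgi xgi19 ygi17 zgi45) (kgi xgi19 ygi2 zgi9) (kgi xgi22 ygi51 zgi18) (kgi xgi20 ygi0 zgi4) (kgi xgi24 ygi46 zgi10) (kgi xgi30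 ygi44 zgi10) (kgi xgi19 ygi0 zgi57) (kgi xgi28 ygi0 zgi11) (kgi xgi19 ygi0 zgi58) (kgi xgi29 ygi19 zgi22) (kgi xgi24 ygi9 zgi36) (kgi xgi28 ygi0 zgi18) (kgi xgi20 ygi56 zgi39) (kgi xgi25 ygi6 zgi8) (kgi xgi26 ygi39 zgi13) (kgi xgi26 ygi40 zgi42) (kgi xgi26 ygi50 zgi8)) (@D3.rec (fun _ => Pt) (kgi xgi24 ygi29 zgi3) (kgi xgi32 ygi10 zgi26) (kgi xgi19 ygi43 zgi37) (kgi xgi28 ygi44 zgi7) (kgi xgi22 ygi18 zgi26) (kgi xgi26 ygi32 zgi20) (kgi xgi27 ygi56 zgi16) (kgi xgi23 ygi21 zgi52) (kgi xgi19 ygi1 zgi20) (kgi xgi30 ygi32 zgi55) (kgi xgi32 ygi8 zgi43) (kgi xgi19 ygi1 zgi26) (kgi xgi30 ygi39 zgi54) (kgi xgi23 ygi32 zgi3) (kgi xgi21 ygi28 zgi46) (kgi xgi29 ygi14 zgi61) (kgi xgi26 ygi49 zgi38) (kgi xgi19 ygi1 zgi35) (kgi xgi26 ygi30 zgi17)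 (kgi xgi19 ygi1 zgi38) (kgi xgi28 ygi26 zgi56) (kgi xgi28 ygi59 zgi11) (kgi xgi28 ygi26 zgi53) (kgi xgi26 ygi27 zgi30) (kgi xgi22 ygi14 zgi26) (kgi xgi27 ygi58 zgi35) (kgi xgi19 ygi1 zgi45) (kgi xgi29 ygi10 zgi0) (kgi xgi22 ygi55 zgi11) (kgi xgi19 ygi1 zgi60) (kgi xgi30 ygi53 zgi17) (kgi xgi29 ygi0 zgi40) (kgi xgi19 ygi2 zgi3) (kgi xgi30 ygi14 zgi0) (kgi xgi30 ygi52 zgi22) (kgi xgi26 ygi12 zgi4) (kgi xgi23 ygi22 zgi21) (kgi xgi28 ygi24 zgi46) (kgi xgi26 ygi21 zgi9) (kgi xgi27 ygi53 zgi42) (kgi xgi31 ygi37 zgi37) (kgi xgi32 ygi28 zgi33) (kgi xgi31 ygi37 zgi40) (kgi xgi29 ygi20 zgi9) (kgi xgi19 ygi2 zgi24) (kgi xgi27 ygi54 zgi45) (kgi xgi28 ygi27 zgi26) (kgi xgi31 ygi37 zgi42) (kgi xgi31 ygi44 zgi32) (kgi xgi29 ygi20 zgi7) (kgi xgi30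 ygi37 zgi58) (kgi xgi31 ygi30 zgi0) (kgi xgi26 ygi9 zgi12) (kgi xgi32 ygi0 zgi19) (kgi xgi19 ygi2 zgi41) (kgi xgi32 ygi1 zgi3) (kgi xgi19 ygi11 zgi35) (kgi xgi31 ygi0 zgi29) (kgi xgi19 ygi11 zgi37) (kgi xgi19 ygi5 zgi36) (kgi xgi25 ygi40 zgi18) (kgi xgi19 ygi11 zgi31)) (@D3.rec (fun _ => Pt) (kgi xgi19 ygi26 zgi58) (kgi xgi19 ygi10 zgi8) (kgi xgi19 ygi9 zgi16) (kgi xgi31 ygi18 zgi51) (kgi xgi19 ygi2 zgi50) (kgi xgi19 ygi9 zgi14) (kgi xgi20 ygi32 zgi49) (kgi xgi26 ygi58 zgi1) (kgi xgi31 ygi18 zgi50) (kgi xgi32 ygi35 zgi12) (kgi xgi19 ygi20 zgi36) (kgi xgi19 ygi2 zgi52) (kgi xgi26 ygi41 zgi45) (kgi xgi19 ygi9 zgi1) (kgi xgi28 ygi33 zgi58) (kgi xgi19 ygi8 zgi56) (kgi xgi19 ygi19 zgi61) (kgi xgi19 ygi2 zgi58) (kgi xgi19 ygi2 zgi59) (kgi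 xgi30 ygi28 zgi41) (kgi xgi32 ygi35 zgi14) (kgi xgi19 ygi9 zgi24) (kgi xgi19 ygi13 zgi26) (kgi xgi19 ygi8 zgi51) (kgi xgi31 ygi32 zgi45) (kgi xgi28 ygi40 zgi47) (kgi xgi19 ygi14 zgi18) (kgi xgi19 ygi8 zgi46) (kgi xgi26 ygi35 zgi13) (kgi xgi26 ygi56 zgi44) (kgi xgi22 ygi57 zgi0) (kgi xgi30 ygi27 zgi40) (kgi xgi30 ygi49 zgi46) (kgi xgi32 ygi35 zgi7) (kgi xgi23 ygi52 zgi57) (kgi xgi30 ygi23 zgi59) (kgi xgi19 ygi11 zgi22) (kgi xgi25 ygi41 zgi39) (kgi xgi19 ygi14 zgi34) (kgi xgi19 ygi3 zgi46) (kgi xgi19 ygi13 zgi11) (kgi xgi26 ygi51 zgi22) (kgi xgi19 ygi3 zgi30) (kgi xgi29 ygi1 zgi42) (kgi xgi29 ygi8 zgi25) (kgi xgi19 ygi9 zgi6) (kgi xgi19 ygi3 zgi52) (kgi xgi19 ygi3 zgi38) (kgi xgi19 ygi16 zgi4) (kgi xgi31 ygi25 zgi60) (kgi xgi19 ygi3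 zgi36) (kgi xgi31 ygi26 zgi41) (kgi xgi28 ygi37 zgi53) (kgi xgi19 ygi15 zgi30) (kgi xgi28 ygi22 zgi10) (kgi xgi28 ygi44 zgi5) (kgi xgi19 ygi12 zgi14) (kgi xgi30 ygi11 zgi49) (kgi xgi19 ygi3 zgi49) (kgi xgi29 ygi32 zgi55) (kgi xgi32 ygi16 zgi50) (kgi xgi19 ygi13 zgi22)) (@D3.rec (fun _ => Pt) (kgi xgi22 ygi26 zgi1) (kgi xgi19 ygi9 zgi28) (kgi xgi31 ygi18 zgi0) (kgi xgi27 ygi36 zgi3) (kgi xgi31 ygi12 zgi41) (kgi xgi29 ygi40 zgi34) (kgi xgi28 ygi40 zgi2) (kgi xgi19 ygi3 zgi56) (kgi xgi19 ygi13 zgi43) (kgi xgi31 ygi30 zgi46) (kgi xgi26 ygi36 zgi30) (kgi xgi19 ygi13 zgi39) (kgi xgi29 ygi40 zgi27) (kgi xgi26 ygi36 zgi44) (kgi xgi19 ygi12 zgi15) (kgi xgi31 ygi18 zgi6) (kgi xgi19 ygi4 zgi6) (kgi xgi19 ygi23 zgi42) (kgi xgi19 ygi42 zgi14)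 (kgi xgi31 ygi58 zgi15) (kgi xgi26 ygi50 zgi40) (kgi xgi26 ygi40 zgi55) (kgi xgi25 ygi50 zgi10) (kgi xgi24 ygi5 zgi3) (kgi xgi19 ygi4 zgi12) (kgi xgi19 ygi15 zgi54) (kgi xgi29 ygi12 zgi38) (kgi xgi19 ygi15 zgi51) (kgi xgi19 ygi4 zgi14) (kgi xgi19 ygi11 zgi59) (kgi xgi28 ygi42 zgi37) (kgi xgi26 ygi40 zgi56) (kgi xgi25 ygi33 zgi41) (kgi xgi32 ygi35 zgi35) (kgi xgi28 ygi42 zgi30) (kgi xgi19 ygi4 zgi19) (kgi xgi19 ygi16 zgi18) (kgi xgi24 ygi35 zgi40) (kgi xgi19 ygi16 zgi14) (kgi xgi19 ygi33 zgi32) (kgi xgi19 ygi52 zgi47) (kgi xgi19 ygi4 zgi25) (kgi xgi28 ygi42 zgi33) (kgi xgi19 ygi18 zgi50) (kgi xgi31 ygi32 zgi53) (kgi xgi24 ygi15 zgi36) (kgi xgi19 ygi11 zgi50) (kgi xgi32 ygi35 zgi39) (kgi xgi19 ygi18 zgi58) (kgi xgi19 ygi8 zgi23) (kgi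 xgi29 ygi2 zgi44) (kgi xgi19 ygi21 zgi31) (kgi xgi19 ygi23 zgi2) (kgi xgi28 ygi37 zgi42) (kgi xgi19 ygi20 zgi53) (kgi xgi27 ygi52 zgi7) (kgi xgi29 ygi50 zgi20) (kgi xgi25 ygi55 zgi55) (kgi xgi28 ygi0 zgi21) (kgi xgi19 ygi19 zgi39) (kgi xgi28 ygi23 zgi10) (kgi xgi31 ygi15 zgi29)) (@D3.rec (fun _ => Pt) (kgi xgi30 ygi25 zgi61) (kgi xgi19 ygi5 zgi18) (kgi xgi28 ygi39 zgi19) (kgi xgi27 ygi21 zgi60) (kgi xgi19 ygi22 zgi46) (kgi xgi28 ygi41 zgi58) (kgi xgi19 ygi22 zgi43) (kgi xgi19 ygi20 zgi9) (kgi xgi32 ygi35 zgi43) (kgi xgi31 ygi16 zgi38) (kgi xgi29 ygi36 zgi2) (kgi xgi24 ygi42 zgi20) (kgi xgi19 ygi5 zgi40) (kgi xgi29 ygi57 zgi61) (kgi xgi25 ygi41 zgi53) (kgi xgi30 ygi7 zgi12) (kgi xgi32 ygi15 zgi18) (kgi xgi27 ygi31 zgi38) (kgi xgi19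 ygi5 zgi55) (kgi xgi22 ygi45 zgi2) (kgi xgi25 ygi37 zgi25) (kgi xgi23 ygi30 zgi55) (kgi xgi29 ygi17 zgi16) (kgi xgi25 ygi31 zgi54) (kgi xgi19 ygi6 zgi1) (kgi xgi25 ygi40 zgi59) (kgi xgi24 ygi23 zgi54) (kgi xgi32 ygi5 zgi16) (kgi xgi23 ygi12 zgi47) (kgi xgi19 ygi42 zgi12) (kgi xgi24 ygi21 zgi6) (kgi xgi19 ygi6 zgi8) (kgi xgi24 ygi33 zgi21) (kgi xgi30 ygi42 zgi14) (kgi xgi28 ygi31 zgi18) (kgi xgi19 ygi6 zgi9) (kgi xgi24 ygi48 zgi59) (kgi xgi24 ygi48 zgi60) (kgi xgi31 ygi40 zgi23) (kgi xgi24 ygi32 zgi51) (kgi xgi30 ygi5 zgi21) (kgi xgi24 ygi52 zgi9) (kgi xgi24 ygi49 zgi48) (kgi xgi28 ygi31 zgi42) (kgi xgi27 ygi47 zgi44) (kgi xgi26 ygi31 zgi18) (kgi xgi28 ygi7 zgi2) (kgi xgi26 ygi31 zgi30) (kgi xgi23 ygi37 zgi60) (kgi xgi27 ygi55 zgi24)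 (kgi xgi32 ygi28 zgi39) (kgi xgi26 ygi30 zgi41) (kgi xgi32 ygi30 zgi28) (kgi xgi26 ygi30 zgi42) (kgi xgi27 ygi55 zgi36) (kgi xgi27 ygi34 zgi19) (kgi xgi29 ygi53 zgi9) (kgi xgi24 ygi13 zgi3) (kgi xgi31 ygi22 zgi4) (kgi xgi20 ygi21 zgi6) (kgi xgi25 ygi3 zgi8) (kgi xgi32 ygi1 zgi59)) (@D3.rec (fun _ => Pt) (kgi xgi32 ygi8 zgi19) (kgi xgi28 ygi6 zgi8) (kgi xgi25 ygi3 zgi31) (kgi xgi31 ygi13 zgi4) (kgi xgi30 ygi27 zgi41) (kgi xgi27 ygi55 zgi15) (kgi xgi32 ygi29 zgi0) (kgi xgi27 ygi55 zgi16) (kgi xgi29 ygi28 zgi39) (kgi xgi32 ygi21 zgi58) (kgi xgi19 ygi6 zgi41) (kgi xgi27 ygi3 zgi27) (kgi xgi27 ygi52 zgi53) (kgi xgi31 ygi14 zgi23) (kgi xgi31 ygi0 zgi14) (kgi xgi27 ygi53 zgi4) (kgi xgi20 ygi44 zgi61) (kgi xgi21 ygi54 zgi19) (kgi xgi26 ygi51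 zgi14) (kgi xgi30 ygi12 zgi17) (kgi xgi27 ygi1 zgi12) (kgi xgi29 ygi7 zgi46) (kgi xgi19 ygi14 zgi14) (kgi xgi28 ygi32 zgi45) (kgi xgi25 ygi48 zgi6) (kgi xgi27 ygi14 zgi18) (kgi xgi27 ygi23 zgi61) (kgi xgi19 ygi7 zgi18) (kgi xgi25 ygi59 zgi50) (kgi xgi26 ygi50 zgi41) (kgi xgi25 ygi46 zgi27) (kgi xgi32 ygi30 zgi10) (kgi xgi29 ygi8 zgi21) (kgi xgi19 ygi7 zgi1) (kgi xgi28 ygi33 zgi42) (kgi xgi28 ygi19 zgi2) (kgi xgi19 ygi7 zgi7) (kgi xgi19 ygi12 zgi20) (kgi xgi28 ygi33 zgi38) (kgi xgi28 ygi21 zgi45) (kgi xgi19 ygi7 zgi6) (kgi xgi28 ygi49 zgi60) (kgi xgi26 ygi52 zgi32) (kgi xgi20 ygi12 zgi18) (kgi xgi27 ygi14 zgi20) (kgi xgi28 ygi32 zgi22) (kgi xgi28 ygi35 zgi46) (kgi xgi24 ygi34 zgi35) (kgi xgi27 ygi15 zgi39) (kgi xgi28 ygi35 zgi42) (kgi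 xgi31 ygi39 zgi33) (kgi xgi28 ygi21 zgi35) (kgi xgi22 ygi57 zgi47) (kgi xgi19 ygi7 zgi20) (kgi xgi27 ygi23 zgi58) (kgi xgi30 ygi47 zgi11) (kgi xgi28 ygi56 zgi4) (kgi xgi32 ygi33 zgi40) (kgi xgi32 ygi16 zgi56) (kgi xgi25 ygi50 zgi9) (kgi xgi19 ygi7 zgi28) (kgi xgi30 ygi36 zgi28)) (@D3.rec (fun _ => Pt) (kgi xgi28 ygi16 zgi36) (kgi xgi19 ygi12 zgi24) (kgi xgi32 ygi35 zgi59) (kgi xgi22 ygi59 zgi15) (kgi xgi28 ygi37 zgi46) (kgi xgi22 ygi13 zgi20) (kgi xgi28 ygi37 zgi51) (kgi xgi29 ygi35 zgi47) (kgi xgi19 ygi7 zgi34) (kgi xgi29 ygi24 zgi40) (kgi xgi29 ygi37 zgi3) (kgi xgi19 ygi11 zgi42) (kgi xgi19 ygi52 zgi26) (kgi xgi30 ygi23 zgi47) (kgi xgi19 ygi9 zgi32) (kgi xgi19 ygi23 zgi25) (kgi xgi20 ygi53 zgi34) (kgi xgi19 ygi57 zgi37) (kgi xgi25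 ygi7 zgi7) (kgi xgi19 ygi8 zgi41) (kgi xgi19 ygi8 zgi24) (kgi xgi28 ygi32 zgi28) (kgi xgi32 ygi35 zgi4) (kgi xgi19 ygi8 zgi13) (kgi xgi19 ygi7 zgi52) (kgi xgi28 ygi29 zgi26) (kgi xgi19 ygi7 zgi61) (kgi xgi19 ygi27 zgi8) (kgi xgi21 ygi38 zgi52) (kgi xgi31 ygi53 zgi42) (kgi xgi19 ygi7 zgi60) (kgi xgi30 ygi51 zgi8) (kgi xgi19 ygi27 zgi9) (kgi xgi32 ygi34 zgi5) (kgi xgi23 ygi12 zgi43) (kgi xgi28 ygi38 zgi54) (kgi xgi28 ygi21 zgi3) (kgi xgi27 ygi23 zgi49) (kgi xgi19 ygi27 zgi27) (kgi xgi32 ygi10 zgi28) (kgi xgi20 ygi20 zgi9) (kgi xgi28 ygi32 zgi35) (kgi xgi28 ygi32 zgi33) (kgi xgi20 ygi36 zgi44) (kgi xgi24 ygi48 zgi5) (kgi xgi28 ygi19 zgi31) (kgi xgi31 ygi25 zgi8) (kgi xgi19 ygi8 zgi11) (kgi xgi27 ygi23 zgi50) (kgi xgi31 ygi0 zgi19) (kgi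 xgi28 ygi37 zgi21) (kgi xgi32 ygi35 zgi3) (kgi xgi26 ygi56 zgi56) (kgi xgi26 ygi44 zgi7) (kgi xgi29 ygi2 zgi55) (kgi xgi28 ygi37 zgi24) (kgi xgi23 ygi5 zgi57) (kgi xgi32 ygi35 zgi50) (kgi xgi28 ygi34 zgi43) (kgi xgi30 ygi51 zgi20) (kgi xgi28 ygi37 zgi28) (kgi xgi27 ygi13 zgi3)) (@D3.rec (fun _ => Pt) (kgi xgi29 ygi5 zgi15) (kgi xgi25 ygi40 zgi34) (kgi xgi30 ygi51 zgi13) (kgi xgi19 ygi9 zgi44) (kgi xgi29 ygi19 zgi29) (kgi xgi19 ygi22 zgi21) (kgi xgi30 ygi56 zgi24) (kgi xgi19 ygi27 zgi2) (kgi xgi19 ygi8 zgi25) (kgi xgi23 ygi8 zgi24) (kgi xgi19 ygi8 zgi28) (kgi xgi19 ygi8 zgi31) (kgi xgi27 ygi3 zgi2) (kgi xgi23 ygi8 zgi1) (kgi xgi29 ygi40 zgi2) (kgi xgi23 ygi56 zgi57) (kgi xgi24 ygi25 zgi11) (kgi xgi20 ygi24 zgi20) (kgi xgi19 ygi8 zgi37)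 (kgi xgi32 ygi36 zgi9) (kgi xgi32 ygi7 zgi39) (kgi xgi19 ygi27 zgi28) (kgi xgi32 ygi12 zgi43) (kgi xgi32 ygi12 zgi42) (kgi xgi28 ygi40 zgi12) (kgi xgi32 ygi18 zgi52) (kgi xgi19 ygi11 zgi52) (kgi xgi28 ygi51 zgi16) (kgi xgi30 ygi24 zgi1) (kgi xgi19 ygi8 zgi49) (kgi xgi19 ygi8 zgi52) (kgi xgi29 ygi4 zgi15) (kgi xgi31 ygi43 zgi23) (kgi xgi30 ygi23 zgi61) (kgi xgi31 ygi0 zgi30) (kgi xgi19 ygi8 zgi61) (kgi xgi31 ygi36 zgi50) (kgi xgi30 ygi24 zgi33) (kgi xgi28 ygi58 zgi19) (kgi xgi26 ygi56 zgi41) (kgi xgi32 ygi8 zgi29) (kgi xgi28 ygi37 zgi26) (kgi xgi31 ygi10 zgi55) (kgi xgi19 ygi12 zgi11) (kgi xgi29 ygi52 zgi40) (kgi xgi28 ygi24 zgi33) (kgi xgi19 ygi10 zgi23) (kgi xgi25 ygi7 zgi16) (kgi xgi19 ygi9 zgi52) (kgi xgi19 ygi22 zgi15) (kgi xgi32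 ygi17 zgi43) (kgi xgi26 ygi24 zgi49) (kgi xgi19 ygi9 zgi15) (kgi xgi22 ygi27 zgi16) (kgi xgi19 ygi9 zgi20) (kgi xgi24 ygi8 zgi35) (kgi xgi32 ygi36 zgi11) (kgi xgi19 ygi9 zgi36) (kgi xgi32 ygi33 zgi53) (kgi xgi23 ygi1 zgi8) (kgi xgi19 ygi9 zgi18) (kgi xgi24 ygi8 zgi25)) (@D3.rec (fun _ => Pt) (kgi xgi30 ygi48 zgi55) (kgi xgi20 ygi37 zgi9) (kgi xgi20 ygi26 zgi33) (kgi xgi31 ygi39 zgi59) (kgi xgi31 ygi32 zgi17) (kgi xgi29 ygi28 zgi19) (kgi xgi29 ygi15 zgi13) (kgi xgi32 ygi36 zgi13) (kgi xgi19 ygi9 zgi22) (kgi xgi29 ygi40 zgi56) (kgi xgi20 ygi57 zgi37) (kgi xgi32 ygi36 zgi10) (kgi xgi20 ygi23 zgi49) (kgi xgi19 ygi9 zgi26) (kgi xgi32 ygi35 zgi16) (kgi xgi32 ygi36 zgi18) (kgi xgi29 ygi2 zgi3) (kgi xgi32 ygi13 zgi38) (kgi xgi26 ygi36 zgi15)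 (kgi xgi19 ygi13 zgi32) (kgi xgi32 ygi16 zgi61) (kgi xgi32 ygi35 zgi13) (kgi xgi31 ygi28 zgi45) (kgi xgi26 ygi28 zgi39) (kgi xgi32 ygi28 zgi27) (kgi xgi26 ygi27 zgi42) (kgi xgi20 ygi36 zgi37) (kgi xgi32 ygi36 zgi25) (kgi xgi30 ygi20 zgi31) (kgi xgi30 ygi23 zgi58) (kgi xgi20 ygi34 zgi5) (kgi xgi25 ygi40 zgi32) (kgi xgi31 ygi28 zgi6) (kgi xgi19 ygi9 zgi47) (kgi xgi20 ygi31 zgi13) (kgi xgi30 ygi36 zgi3) (kgi xgi23 ygi56 zgi3) (kgi xgi24 ygi7 zgi28) (kgi xgi29 ygi1 zgi54) (kgi xgi19 ygi9 zgi51) (kgi xgi19 ygi10 zgi0) (kgi xgi32 ygi24 zgi45) (kgi xgi30 ygi46 zgi45) (kgi xgi23 ygi1 zgi11) (kgi xgi30 ygi26 zgi11) (kgi xgi30 ygi36 zgi7) (kgi xgi25 ygi18 zgi40) (kgi xgi31 ygi36 zgi36) (kgi xgi29 ygi27 zgi39) (kgi xgi19 ygi9 zgi57) (kgi xgi23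 ygi52 zgi49) (kgi xgi29 ygi1 zgi58) (kgi xgi23 ygi56 zgi9) (kgi xgi19 ygi27 zgi3) (kgi xgi27 ygi8 zgi24) (kgi xgi32 ygi33 zgi22) (kgi xgi31 ygi7 zgi37) (kgi xgi30 ygi20 zgi32) (kgi xgi19 ygi29 zgi56) (kgi xgi19 ygi19 zgi7) (kgi xgi19 ygi19 zgi30) (kgi xgi29 ygi37 zgi14)) (@D3.rec (fun _ => Pt) (kgi xgi19 ygi10 zgi9) (kgi xgi19 ygi10 zgi10) (kgi xgi24 ygi7 zgi59) (kgi xgi28 ygi28 zgi24) (kgi xgi32 ygi23 zgi17) (kgi xgi26 ygi31 zgi43) (kgi xgi29 ygi36 zgi60) (kgi xgi19 ygi10 zgi13) (kgi xgi22 ygi38 zgi32) (kgi xgi32 ygi33 zgi24) (kgi xgi27 ygi16 zgi48) (kgi xgi32 ygi31 zgi53) (kgi xgi22 ygi12 zgi47) (kgi xgi30 ygi3 zgi36) (kgi xgi28 ygi43 zgi21) (kgi xgi31 ygi13 zgi26) (kgi xgi32 ygi36 zgi32) (kgi xgi27 ygi53 zgi3) (kgi xgi19 ygi10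 zgi18) (kgi xgi32 ygi31 zgi55) (kgi xgi30 ygi52 zgi10) (kgi xgi30 ygi26 zgi25) (kgi xgi32 ygi33 zgi1) (kgi xgi31 ygi25 zgi31) (kgi xgi26 ygi21 zgi31) (kgi xgi32 ygi35 zgi18) (kgi xgi24 ygi7 zgi3) (kgi xgi27 ygi59 zgi42) (kgi xgi30 ygi24 zgi50) (kgi xgi24 ygi7 zgi58) (kgi xgi28 ygi4 zgi35) (kgi xgi31 ygi58 zgi47) (kgi xgi24 ygi12 zgi51) (kgi xgi19 ygi10 zgi26) (kgi xgi26 ygi45 zgi6) (kgi xgi30 ygi26 zgi19) (kgi xgi29 ygi2 zgi4) (kgi xgi24 ygi49 zgi41) (kgi xgi19 ygi10 zgi34) (kgi xgi26 ygi35 zgi19) (kgi xgi26 ygi43 zgi4) (kgi xgi31 ygi58 zgi13) (kgi xgi27 ygi36 zgi13) (kgi xgi22 ygi29 zgi33) (kgi xgi20 ygi42 zgi12) (kgi xgi28 ygi53 zgi52) (kgi xgi25 ygi4 zgi10) (kgi xgi26 ygi59 zgi6) (kgi xgi24 ygi32 zgi2) (kgi xgi23 ygi37 zgi44) (kgi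 xgi26 ygi1 zgi27) (kgi xgi27 ygi50 zgi33) (kgi xgi23 ygi43 zgi21) (kgi xgi19 ygi11 zgi4) (kgi xgi20 ygi54 zgi28) (kgi xgi26 ygi54 zgi33) (kgi xgi27 ygi1 zgi7) (kgi xgi20 ygi37 zgi39) (kgi xgi25 ygi17 zgi49) (kgi xgi19 ygi11 zgi11) (kgi xgi31 ygi41 zgi26) (kgi xgi32 ygi36 zgi39)) (@D3.rec (fun _ => Pt) (kgi xgi31 ygi34 zgi25) (kgi xgi26 ygi46 zgi59) (kgi xgi32 ygi11 zgi1) (kgi xgi19 ygi11 zgi14) (kgi xgi25 ygi19 zgi45) (kgi xgi25 ygi19 zgi43) (kgi xgi24 ygi58 zgi0) (kgi xgi25 ygi19 zgi21) (kgi xgi26 ygi2 zgi59) (kgi xgi19 ygi11 zgi18) (kgi xgi25 ygi21 zgi47) (kgi xgi25 ygi21 zgi44) (kgi xgi20 ygi47 zgi5) (kgi xgi26 ygi42 zgi49) (kgi xgi19 ygi14 zgi31) (kgi xgi28 ygi39 zgi4) (kgi xgi31 ygi28 zgi57) (kgi xgi26 ygi35 zgi58) (kgi xgi19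 ygi11 zgi28) (kgi xgi28 ygi45 zgi24) (kgi xgi32 ygi35 zgi11) (kgi xgi28 ygi33 zgi55) (kgi xgi29 ygi35 zgi6) (kgi xgi31 ygi58 zgi10) (kgi xgi28 ygi33 zgi50) (kgi xgi32 ygi9 zgi38) (kgi xgi28 ygi29 zgi45) (kgi xgi31 ygi29 zgi48) (kgi xgi19 ygi11 zgi33) (kgi xgi26 ygi24 zgi16) (kgi xgi22 ygi58 zgi30) (kgi xgi29 ygi48 zgi43) (kgi xgi28 ygi46 zgi45) (kgi xgi19 ygi21 zgi51) (kgi xgi27 ygi9 zgi5) (kgi xgi23 ygi48 zgi41) (kgi xgi31 ygi30 zgi2) (kgi xgi29 ygi8 zgi53) (kgi xgi30 ygi12 zgi41) (kgi xgi29 ygi8 zgi57) (kgi xgi19 ygi11 zgi44) (kgi xgi29 ygi27 zgi3) (kgi xgi28 ygi45 zgi31) (kgi xgi28 ygi9 zgi18) (kgi xgi19 ygi11 zgi49) (kgi xgi28 ygi44 zgi52) (kgi xgi28 ygi33 zgi6) (kgi xgi32 ygi24 zgi36) (kgi xgi31 ygi30 zgi5) (kgi xgi19 ygi47 zgi19)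 (kgi xgi24 ygi12 zgi29) (kgi xgi28 ygi33 zgi4) (kgi xgi32 ygi27 zgi7) (kgi xgi28 ygi26 zgi58) (kgi xgi19 ygi11 zgi55) (kgi xgi28 ygi24 zgi31) (kgi xgi32 ygi31 zgi56) (kgi xgi25 ygi15 zgi7) (kgi xgi28 ygi4 zgi61) (kgi xgi19 ygi15 zgi48) (kgi xgi19 ygi16 zgi11) (kgi xgi28 ygi44 zgi51)) (@D3.rec (fun _ => Pt) (kgi xgi31 ygi36 zgi5) (kgi xgi32 ygi29 zgi40) (kgi xgi32 ygi35 zgi28) (kgi xgi19 ygi12 zgi8) (kgi xgi19 ygi12 zgi5) (kgi xgi28 ygi15 zgi39) (kgi xgi28 ygi15 zgi55) (kgi xgi28 ygi15 zgi57) (kgi xgi25 ygi14 zgi56) (kgi xgi31 ygi0 zgi25) (kgi xgi32 ygi36 zgi56) (kgi xgi19 ygi12 zgi7) (kgi xgi32 ygi33 zgi57) (kgi xgi25 ygi57 zgi37) (kgi xgi32 ygi33 zgi56) (kgi xgi32 ygi0 zgi34) (kgi xgi31 ygi11 zgi18) (kgi xgi25 ygi40 zgi9) (kgi xgi30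 ygi46 zgi50) (kgi xgi29 ygi18 zgi37) (kgi xgi19 ygi13 zgi16) (kgi xgi19 ygi12 zgi54) (kgi xgi31 ygi28 zgi22) (kgi xgi28 ygi43 zgi31) (kgi xgi32 ygi36 zgi59) (kgi xgi32 ygi35 zgi58) (kgi xgi20 ygi38 zgi50) (kgi xgi28 ygi12 zgi45) (kgi xgi19 ygi12 zgi23) (kgi xgi32 ygi33 zgi42) (kgi xgi32 ygi37 zgi2) (kgi xgi30 ygi44 zgi57) (kgi xgi31 ygi59 zgi38) (kgi xgi29 ygi8 zgi36) (kgi xgi29 ygi5 zgi51) (kgi xgi32 ygi37 zgi3) (kgi xgi29 ygi8 zgi5) (kgi xgi19 ygi12 zgi26) (kgi xgi32 ygi35 zgi57) (kgi xgi31 ygi19 zgi52) (kgi xgi27 ygi46 zgi24) (kgi xgi28 ygi18 zgi57) (kgi xgi23 ygi48 zgi3) (kgi xgi19 ygi12 zgi49) (kgi xgi24 ygi3 zgi61) (kgi xgi19 ygi50 zgi49) (kgi xgi26 ygi52 zgi41) (kgi xgi27 ygi36 zgi6) (kgi xgi32 ygi11 zgi38) (kgi xgi19 ygi12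 zgi38) (kgi xgi32 ygi37 zgi12) (kgi xgi28 ygi50 zgi0) (kgi xgi31 ygi18 zgi10) (kgi xgi19 ygi14 zgi58) (kgi xgi19 ygi12 zgi42) (kgi xgi28 ygi33 zgi36) (kgi xgi31 ygi19 zgi46) (kgi xgi30 ygi23 zgi43) (kgi xgi19 ygi12 zgi58) (kgi xgi26 ygi36 zgi42) (kgi xgi19 ygi12 zgi53) (kgi xgi24 ygi49 zgi42)) (@D3.rec (fun _ => Pt) (kgi xgi32 ygi11 zgi51) (kgi xgi19 ygi13 zgi2) (kgi xgi31 ygi17 zgi32) (kgi xgi31 ygi19 zgi13) (kgi xgi28 ygi40 zgi4) (kgi xgi29 ygi53 zgi35) (kgi xgi29 ygi55 zgi46) (kgi xgi21 ygi52 zgi56) (kgi xgi30 ygi39 zgi4) (kgi xgi20 ygi17 zgi23) (kgi xgi19 ygi13 zgi13) (kgi xgi19 ygi13 zgi15) (kgi xgi28 ygi26 zgi60) (kgi xgi28 ygi48 zgi48) (kgi xgi28 ygi34 zgi25) (kgi xgi29 ygi39 zgi56) (kgi xgi28 ygi31 zgi2) (kgi xgi28 ygi43 zgi27)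 (kgi xgi32 ygi37 zgi17) (kgi xgi28 ygi46 zgi49) (kgi xgi19 ygi47 zgi22) (kgi xgi31 ygi30 zgi50) (kgi xgi23 ygi34 zgi37) (kgi xgi19 ygi13 zgi34) (kgi xgi29 ygi34 zgi27) (kgi xgi29 ygi34 zgi26) (kgi xgi32 ygi37 zgi21) (kgi xgi19 ygi13 zgi54) (kgi xgi29 ygi42 zgi31) (kgi xgi32 ygi37 zgi23) (kgi xgi32 ygi12 zgi38) (kgi xgi28 ygi50 zgi10) (kgi xgi29 ygi8 zgi23) (kgi xgi22 ygi32 zgi18) (kgi xgi26 ygi57 zgi12) (kgi xgi31 ygi17 zgi57) (kgi xgi30 ygi15 zgi22) (kgi xgi29 ygi8 zgi22) (kgi xgi20 ygi57 zgi57) (kgi xgi32 ygi33 zgi36) (kgi xgi32 ygi37 zgi28) (kgi xgi19 ygi13 zgi35) (kgi xgi19 ygi13 zgi38) (kgi xgi32 ygi37 zgi32) (kgi xgi28 ygi44 zgi38) (kgi xgi26 ygi51 zgi52) (kgi xgi29 ygi47 zgi18) (kgi xgi31 ygi12 zgi28) (kgi xgi31 ygi27 zgi28)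 (kgi xgi29 ygi47 zgi19) (kgi xgi31 ygi30 zgi48) (kgi xgi19 ygi13 zgi41) (kgi xgi19 ygi47 zgi24) (kgi xgi32 ygi37 zgi37) (kgi xgi32 ygi13 zgi49) (kgi xgi19 ygi14 zgi8) (kgi xgi30 ygi29 zgi21) (kgi xgi32 ygi10 zgi40) (kgi xgi19 ygi13 zgi44) (kgi xgi31 ygi23 zgi52) (kgi xgi19 ygi13 zgi45) (kgi xgi31 ygi39 zgi57)) (@D3.rec (fun _ => Pt) (kgi xgi23 ygi59 zgi47) (kgi xgi26 ygi35 zgi51) (kgi xgi28 ygi30 zgi3) (kgi xgi28 ygi48 zgi57) (kgi xgi32 ygi11 zgi45) (kgi xgi32 ygi12 zgi41) (kgi xgi28 ygi40 zgi10) (kgi xgi28 ygi30 zgi1) (kgi xgi32 ygi18 zgi9) (kgi xgi32 ygi37 zgi47) (kgi xgi27 ygi17 zgi10) (kgi xgi29 ygi34 zgi11) (kgi xgi32 ygi37 zgi49) (kgi xgi20 ygi23 zgi56) (kgi xgi19 ygi13 zgi56) (kgi xgi32 ygi11 zgi4) (kgi xgi32 ygi37 zgi51) (kgi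 xgi32 ygi23 zgi3) (kgi xgi32 ygi14 zgi31) (kgi xgi24 ygi35 zgi8) (kgi xgi32 ygi15 zgi45) (kgi xgi19 ygi14 zgi1) (kgi xgi19 ygi14 zgi3) (kgi xgi28 ygi18 zgi47) (kgi xgi31 ygi34 zgi9) (kgi xgi26 ygi35 zgi44) (kgi xgi19 ygi14 zgi4) (kgi xgi32 ygi36 zgi14) (kgi xgi26 ygi35 zgi47) (kgi xgi31 ygi34 zgi7) (kgi xgi29 ygi33 zgi18) (kgi xgi20 ygi39 zgi42) (kgi xgi32 ygi1 zgi1) (kgi xgi29 ygi46 zgi8) (kgi xgi29 ygi46 zgi5) (kgi xgi32 ygi37 zgi58) (kgi xgi29 ygi44 zgi53) (kgi xgi28 ygi20 zgi47) (kgi xgi30 ygi17 zgi30) (kgi xgi19 ygi14 zgi21) (kgi xgi19 ygi14 zgi23) (kgi xgi25 ygi21 zgi40) (kgi xgi32 ygi37 zgi61) (kgi xgi25 ygi21 zgi37) (kgi xgi21 ygi1 zgi22) (kgi xgi28 ygi54 zgi49) (kgi xgi26 ygi33 zgi22) (kgi xgi32 ygi38 zgi1) (kgi xgi32 ygi22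 zgi14) (kgi xgi32 ygi12 zgi0) (kgi xgi29 ygi10 zgi22) (kgi xgi19 ygi14 zgi30) (kgi xgi19 ygi14 zgi56) (kgi xgi27 ygi28 zgi6) (kgi xgi32 ygi38 zgi3) (kgi xgi29 ygi11 zgi0) (kgi xgi26 ygi47 zgi5) (kgi xgi23 ygi12 zgi30) (kgi xgi24 ygi29 zgi17) (kgi xgi32 ygi38 zgi6) (kgi xgi30 ygi10 zgi57) (kgi xgi30 ygi57 zgi61)) (@D3.rec (fun _ => Pt) (kgi xgi24 ygi22 zgi29) (kgi xgi31 ygi33 zgi57) (kgi xgi26 ygi47 zgi22) (kgi xgi31 ygi33 zgi59) (kgi xgi32 ygi4 zgi41) (kgi xgi19 ygi14 zgi41) (kgi xgi30 ygi20 zgi41) (kgi xgi32 ygi5 zgi50) (kgi xgi24 ygi31 zgi46) (kgi xgi27 ygi7 zgi45) (kgi xgi21 ygi59 zgi16) (kgi xgi29 ygi1 zgi17) (kgi xgi24 ygi26 zgi16) (kgi xgi19 ygi14 zgi45) (kgi xgi30 ygi6 zgi38) (kgi xgi29 ygi27 zgi13) (kgi xgi23 ygi16 zgi18)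 (kgi xgi29 ygi52 zgi8) (kgi xgi27 ygi44 zgi57) (kgi xgi26 ygi1 zgi53) (kgi xgi24 ygi40 zgi51) (kgi xgi25 ygi14 zgi45) (kgi xgi31 ygi1 zgi29) (kgi xgi29 ygi17 zgi2) (kgi xgi21 ygi34 zgi1) (kgi xgi19 ygi29 zgi48) (kgi xgi28 ygi37 zgi38) (kgi xgi30 ygi12 zgi20) (kgi xgi28 ygi36 zgi42) (kgi xgi30 ygi1 zgi43) (kgi xgi30 ygi0 zgi48) (kgi xgi29 ygi0 zgi48) (kgi xgi19 ygi18 zgi41) (kgi xgi19 ygi15 zgi40) (kgi xgi27 ygi44 zgi28) (kgi xgi23 ygi51 zgi5) (kgi xgi28 ygi43 zgi41) (kgi xgi31 ygi29 zgi32) (kgi xgi26 ygi12 zgi2) (kgi xgi24 ygi11 zgi17) (kgi xgi27 ygi30 zgi46) (kgi xgi19 ygi18 zgi52) (kgi xgi19 ygi15 zgi32) (kgi xgi32 ygi35 zgi23) (kgi xgi32 ygi5 zgi58) (kgi xgi31 ygi34 zgi0) (kgi xgi31 ygi20 zgi53) (kgi xgi23 ygi56 zgi47) (kgi xgi30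 ygi27 zgi49) (kgi xgi21 ygi45 zgi10) (kgi xgi29 ygi9 zgi0) (kgi xgi23 ygi9 zgi46) (kgi xgi24 ygi11 zgi44) (kgi xgi24 ygi11 zgi59) (kgi xgi19 ygi15 zgi46) (kgi xgi31 ygi52 zgi46) (kgi xgi31 ygi58 zgi27) (kgi xgi28 ygi31 zgi5) (kgi xgi28 ygi47 zgi2) (kgi xgi19 ygi15 zgi53) (kgi xgi29 ygi49 zgi30) (kgi xgi25 ygi10 zgi36)) (@D3.rec (fun _ => Pt) (kgi xgi20 ygi3 zgi48) (kgi xgi32 ygi35 zgi36) (kgi xgi23 ygi56 zgi34) (kgi xgi28 ygi59 zgi60) (kgi xgi32 ygi35 zgi33) (kgi xgi25 ygi52 zgi43) (kgi xgi29 ygi28 zgi1) (kgi xgi19 ygi16 zgi9) (kgi xgi19 ygi16 zgi12) (kgi xgi25 ygi33 zgi33) (kgi xgi32 ygi38 zgi12) (kgi xgi19 ygi16 zgi10) (kgi xgi23 ygi56 zgi37) (kgi xgi23 ygi11 zgi27) (kgi xgi31 ygi55 zgi34) (kgi xgi27 ygi19 zgi14) (kgi xgi24 ygi12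 zgi8) (kgi xgi30 ygi8 zgi32) (kgi xgi25 ygi34 zgi53) (kgi xgi29 ygi49 zgi26) (kgi xgi25 ygi42 zgi0) (kgi xgi25 ygi34 zgi57) (kgi xgi25 ygi34 zgi59) (kgi xgi29 ygi0 zgi10) (kgi xgi21 ygi58 zgi7) (kgi xgi19 ygi16 zgi19) (kgi xgi31 ygi49 zgi17) (kgi xgi19 ygi16 zgi20) (kgi xgi31 ygi36 zgi45) (kgi xgi31 ygi28 zgi47) (kgi xgi28 ygi30 zgi32) (kgi xgi26 ygi43 zgi13) (kgi xgi20 ygi30 zgi51) (kgi xgi28 ygi30 zgi41) (kgi xgi19 ygi16 zgi24) (kgi xgi28 ygi30 zgi30) (kgi xgi32 ygi13 zgi50) (kgi xgi19 ygi49 zgi42) (kgi xgi29 ygi2 zgi16) (kgi xgi25 ygi52 zgi24) (kgi xgi26 ygi3 zgi29) (kgi xgi25 ygi39 zgi18) (kgi xgi25 ygi34 zgi43) (kgi xgi21 ygi43 zgi24) (kgi xgi29 ygi43 zgi55) (kgi xgi21 ygi49 zgi2) (kgi xgi31 ygi38 zgi0) (kgi xgi32 ygi32 zgi19)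 (kgi xgi19 ygi16 zgi50) (kgi xgi25 ygi38 zgi0) (kgi xgi30 ygi10 zgi38) (kgi xgi32 ygi3 zgi10) (kgi xgi25 ygi39 zgi34) (kgi xgi19 ygi16 zgi55) (kgi xgi29 ygi51 zgi18) (kgi xgi21 ygi58 zgi51) (kgi xgi29 ygi11 zgi36) (kgi xgi30 ygi9 zgi5) (kgi xgi19 ygi22 zgi18) (kgi xgi19 ygi17 zgi7) (kgi xgi19 ygi17 zgi12) (kgi xgi21 ygi27 zgi30)) (@D3.rec (fun _ => Pt) (kgi xgi19 ygi17 zgi11) (kgi xgi32 ygi12 zgi44) (kgi xgi29 ygi0 zgi6) (kgi xgi24 ygi16 zgi16) (kgi xgi30 ygi43 zgi51) (kgi xgi32 ygi38 zgi16) (kgi xgi27 ygi12 zgi4) (kgi xgi19 ygi17 zgi35) (kgi xgi20 ygi37 zgi49) (kgi xgi19 ygi50 zgi54) (kgi xgi19 ygi23 zgi28) (kgi xgi19 ygi17 zgi57) (kgi xgi19 ygi39 zgi39) (kgi xgi19 ygi50 zgi51) (kgi xgi24 ygi50 zgi38) (kgi xgi26 ygi55 zgi50) (kgi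 xgi27 ygi18 zgi54) (kgi xgi22 ygi37 zgi40) (kgi xgi30 ygi37 zgi60) (kgi xgi24 ygi19 zgi51) (kgi xgi24 ygi21 zgi60) (kgi xgi28 ygi52 zgi51) (kgi xgi32 ygi38 zgi17) (kgi xgi28 ygi19 zgi48) (kgi xgi31 ygi38 zgi9) (kgi xgi31 ygi37 zgi13) (kgi xgi23 ygi48 zgi5) (kgi xgi19 ygi18 zgi54) (kgi xgi29 ygi35 zgi18) (kgi xgi22 ygi29 zgi58) (kgi xgi24 ygi29 zgi1) (kgi xgi19 ygi18 zgi3) (kgi xgi19 ygi18 zgi4) (kgi xgi27 ygi50 zgi47) (kgi xgi19 ygi18 zgi14) (kgi xgi19 ygi19 zgi59) (kgi xgi19 ygi22 zgi17) (kgi xgi19 ygi18 zgi17) (kgi xgi30 ygi18 zgi20) (kgi xgi19 ygi20 zgi2) (kgi xgi31 ygi57 zgi27) (kgi xgi28 ygi41 zgi34) (kgi xgi31 ygi0 zgi46) (kgi xgi31 ygi19 zgi11) (kgi xgi32 ygi16 zgi9) (kgi xgi31 ygi32 zgi51) (kgi xgi22 ygi28 zgi0) (kgi xgi19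 ygi18 zgi26) (kgi xgi32 ygi28 zgi9) (kgi xgi32 ygi5 zgi38) (kgi xgi30 ygi57 zgi49) (kgi xgi30 ygi24 zgi42) (kgi xgi23 ygi35 zgi61) (kgi xgi25 ygi46 zgi28) (kgi xgi30 ygi3 zgi2) (kgi xgi26 ygi7 zgi14) (kgi xgi20 ygi24 zgi33) (kgi xgi26 ygi2 zgi42) (kgi xgi30 ygi2 zgi43) (kgi xgi24 ygi29 zgi16) (kgi xgi19 ygi18 zgi44) (kgi xgi24 ygi53 zgi6)) (@D3.rec (fun _ => Pt) (kgi xgi31 ygi14 zgi27) (kgi xgi32 ygi21 zgi30) (kgi xgi32 ygi25 zgi31) (kgi xgi26 ygi11 zgi51) (kgi xgi22 ygi39 zgi24) (kgi xgi28 ygi41 zgi38) (kgi xgi32 ygi6 zgi42) (kgi xgi19 ygi51 zgi41) (kgi xgi30 ygi54 zgi14) (kgi xgi20 ygi38 zgi2) (kgi xgi25 ygi58 zgi2) (kgi xgi27 ygi51 zgi17) (kgi xgi30 ygi39 zgi9) (kgi xgi30 ygi36 zgi39) (kgi xgi19 ygi18 zgi61) (kgi xgi31 ygi50 zgi34)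 (kgi xgi29 ygi18 zgi46) (kgi xgi23 ygi5 zgi41) (kgi xgi31 ygi31 zgi45) (kgi xgi28 ygi52 zgi27) (kgi xgi29 ygi47 zgi3) (kgi xgi19 ygi19 zgi17) (kgi xgi20 ygi38 zgi37) (kgi xgi26 ygi38 zgi45) (kgi xgi24 ygi23 zgi33) (kgi xgi23 ygi59 zgi38) (kgi xgi20 ygi58 zgi56) (kgi xgi19 ygi19 zgi22) (kgi xgi19 ygi19 zgi24) (kgi xgi30 ygi17 zgi22) (kgi xgi31 ygi58 zgi53) (kgi xgi26 ygi38 zgi53) (kgi xgi19 ygi19 zgi26) (kgi xgi20 ygi35 zgi24) (kgi xgi26 ygi38 zgi39) (kgi xgi32 ygi13 zgi29) (kgi xgi32 ygi11 zgi12) (kgi xgi32 ygi13 zgi28) (kgi xgi29 ygi45 zgi2) (kgi xgi32 ygi13 zgi44) (kgi xgi31 ygi18 zgi47) (kgi xgi29 ygi35 zgi9) (kgi xgi19 ygi20 zgi1) (kgi xgi28 ygi23 zgi37) (kgi xgi19 ygi19 zgi34) (kgi xgi19 ygi19 zgi46) (kgi xgi30 ygi22 zgi50) (kgi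 xgi24 ygi52 zgi59) (kgi xgi21 ygi39 zgi50) (kgi xgi25 ygi59 zgi12) (kgi xgi32 ygi19 zgi60) (kgi xgi19 ygi36 zgi46) (kgi xgi22 ygi14 zgi19) (kgi xgi19 ygi29 zgi50) (kgi xgi28 ygi37 zgi23) (kgi xgi25 ygi1 zgi29) (kgi xgi28 ygi16 zgi16) (kgi xgi31 ygi48 zgi9) (kgi xgi29 ygi0 zgi54) (kgi xgi29 ygi40 zgi10) (kgi xgi27 ygi19 zgi2) (kgi xgi24 ygi15 zgi44)) (@D3.rec (fun _ => Pt) (kgi xgi31 ygi36 zgi51) (kgi xgi19 ygi20 zgi31) (kgi xgi27 ygi8 zgi3) (kgi xgi32 ygi27 zgi4) (kgi xgi19 ygi20 zgi39) (kgi xgi26 ygi52 zgi54) (kgi xgi27 ygi19 zgi34) (kgi xgi19 ygi20 zgi13) (kgi xgi32 ygi30 zgi60) (kgi xgi24 ygi7 zgi4) (kgi xgi25 ygi20 zgi44) (kgi xgi29 ygi41 zgi37) (kgi xgi30 ygi0 zgi3) (kgi xgi25 ygi20 zgi20) (kgi xgi26 ygi40 zgi7) (kgi xgi25 ygi19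 zgi60) (kgi xgi27 ygi29 zgi32) (kgi xgi32 ygi18 zgi48) (kgi xgi30 ygi19 zgi22) (kgi xgi25 ygi20 zgi47) (kgi xgi19 ygi20 zgi25) (kgi xgi31 ygi19 zgi40) (kgi xgi24 ygi35 zgi61) (kgi xgi31 ygi23 zgi57) (kgi xgi25 ygi40 zgi28) (kgi xgi27 ygi50 zgi48) (kgi xgi25 ygi14 zgi3) (kgi xgi30 ygi44 zgi51) (kgi xgi28 ygi37 zgi48) (kgi xgi32 ygi35 zgi41) (kgi xgi28 ygi36 zgi9) (kgi xgi30 ygi54 zgi21) (kgi xgi25 ygi11 zgi8) (kgi xgi32 ygi1 zgi4) (kgi xgi30 ygi24 zgi13) (kgi xgi19 ygi51 zgi43) (kgi xgi31 ygi12 zgi38) (kgi xgi20 ygi38 zgi14) (kgi xgi31 ygi36 zgi52) (kgi xgi31 ygi59 zgi19) (kgi xgi31 ygi7 zgi42) (kgi xgi26 ygi46 zgi13) (kgi xgi27 ygi49 zgi49) (kgi xgi24 ygi29 zgi38) (kgi xgi19 ygi49 zgi3) (kgi xgi22 ygi11 zgi54) (kgi xgi28 ygi20 zgi50)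 (kgi xgi26 ygi51 zgi24) (kgi xgi26 ygi51 zgi21) (kgi xgi19 ygi21 zgi7) (kgi xgi19 ygi21 zgi8) (kgi xgi23 ygi59 zgi53) (kgi xgi30 ygi36 zgi24) (kgi xgi31 ygi13 zgi25) (kgi xgi20 ygi30 zgi55) (kgi xgi30 ygi36 zgi31) (kgi xgi23 ygi45 zgi50) (kgi xgi27 ygi53 zgi59) (kgi xgi26 ygi16 zgi1) (kgi xgi19 ygi42 zgi23) (kgi xgi22 ygi18 zgi49) (kgi xgi31 ygi13 zgi59)) (@D3.rec (fun _ => Pt) (kgi xgi32 ygi25 zgi58) (kgi xgi29 ygi20 zgi27) (kgi xgi32 ygi25 zgi37) (kgi xgi19 ygi21 zgi38) (kgi xgi31 ygi29 zgi26) (kgi xgi24 ygi29 zgi50) (kgi xgi32 ygi31 zgi9) (kgi xgi19 ygi21 zgi41) (kgi xgi29 ygi19 zgi32) (kgi xgi32 ygi32 zgi54) (kgi xgi27 ygi12 zgi10) (kgi xgi19 ygi21 zgi42) (kgi xgi19 ygi21 zgi49) (kgi xgi31 ygi30 zgi54) (kgi xgi19 ygi21 zgi43)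 (kgi xgi24 ygi25 zgi53) (kgi xgi30 ygi25 zgi38) (kgi xgi19 ygi21 zgi45) (kgi xgi22 ygi19 zgi5) (kgi xgi19 ygi21 zgi47) (kgi xgi32 ygi32 zgi38) (kgi xgi19 ygi24 zgi18) (kgi xgi23 ygi57 zgi29) (kgi xgi19 ygi21 zgi52) (kgi xgi30 ygi35 zgi48) (kgi xgi21 ygi12 zgi53) (kgi xgi26 ygi39 zgi31) (kgi xgi29 ygi1 zgi47) (kgi xgi29 ygi1 zgi15) (kgi xgi19 ygi50 zgi48) (kgi xgi23 ygi52 zgi17) (kgi xgi24 ygi4 zgi10) (kgi xgi19 ygi22 zgi4) (kgi xgi32 ygi32 zgi22) (kgi xgi28 ygi17 zgi6) (kgi xgi20 ygi37 zgi4) (kgi xgi19 ygi22 zgi10) (kgi xgi29 ygi54 zgi51) (kgi xgi23 ygi48 zgi38) (kgi xgi22 ygi58 zgi24) (kgi xgi22 ygi36 zgi14) (kgi xgi29 ygi54 zgi42) (kgi xgi29 ygi7 zgi27) (kgi xgi23 ygi36 zgi40) (kgi xgi31 ygi32 zgi30) (kgi xgi28 ygi33 zgi12) (kgi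 xgi19 ygi25 zgi15) (kgi xgi19 ygi22 zgi26) (kgi xgi23 ygi51 zgi53) (kgi xgi28 ygi39 zgi16) (kgi xgi32 ygi37 zgi42) (kgi xgi24 ygi55 zgi8) (kgi xgi27 ygi54 zgi10) (kgi xgi31 ygi20 zgi50) (kgi xgi19 ygi22 zgi39) (kgi xgi31 ygi15 zgi27) (kgi xgi32 ygi28 zgi46) (kgi xgi32 ygi38 zgi45) (kgi xgi26 ygi17 zgi28) (kgi xgi31 ygi15 zgi30) (kgi xgi31 ygi15 zgi28) (kgi xgi31 ygi20 zgi46)) (@D3.rec (fun _ => Pt) (kgi xgi19 ygi22 zgi45) (kgi xgi31 ygi45 zgi35) (kgi xgi28 ygi41 zgi57) (kgi xgi26 ygi43 zgi17) (kgi xgi27 ygi3 zgi55) (kgi xgi25 ygi42 zgi16) (kgi xgi22 ygi42 zgi61) (kgi xgi22 ygi35 zgi13) (kgi xgi21 ygi39 zgi26) (kgi xgi30 ygi30 zgi48) (kgi xgi19 ygi22 zgi60) (kgi xgi19 ygi23 zgi5) (kgi xgi32 ygi38 zgi50) (kgi xgi28 ygi4 zgi38) (kgi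 xgi32 ygi8 zgi42) (kgi xgi32 ygi31 zgi59) (kgi xgi28 ygi7 zgi36) (kgi xgi23 ygi56 zgi28) (kgi xgi19 ygi23 zgi3) (kgi xgi30 ygi26 zgi49) (kgi xgi31 ygi57 zgi47) (kgi xgi28 ygi8 zgi38) (kgi xgi28 ygi9 zgi57) (kgi xgi20 ygi23 zgi11) (kgi xgi31 ygi26 zgi45) (kgi xgi24 ygi19 zgi17) (kgi xgi29 ygi21 zgi42) (kgi xgi20 ygi22 zgi38) (kgi xgi20 ygi53 zgi49) (kgi xgi24 ygi20 zgi38) (kgi xgi28 ygi38 zgi57) (kgi xgi28 ygi26 zgi36) (kgi xgi19 ygi24 zgi16) (kgi xgi23 ygi56 zgi45) (kgi xgi24 ygi10 zgi56) (kgi xgi24 ygi10 zgi34) (kgi xgi26 ygi40 zgi53) (kgi xgi20 ygi31 zgi48) (kgi xgi19 ygi24 zgi12) (kgi xgi19 ygi29 zgi26) (kgi xgi29 ygi8 zgi16) (kgi xgi20 ygi58 zgi7) (kgi xgi29 ygi48 zgi10) (kgi xgi20 ygi58 zgi14) (kgi xgi21 ygi1 zgi49) (kgi xgi19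 ygi24 zgi5) (kgi xgi26 ygi0 zgi10) (kgi xgi19 ygi30 zgi13) (kgi xgi29 ygi27 zgi59) (kgi xgi24 ygi57 zgi25) (kgi xgi19 ygi48 zgi59) (kgi xgi20 ygi52 zgi53) (kgi xgi26 ygi49 zgi45) (kgi xgi29 ygi48 zgi5) (kgi xgi24 ygi12 zgi26) (kgi xgi32 ygi0 zgi47) (kgi xgi25 ygi48 zgi2) (kgi xgi25 ygi31 zgi17) (kgi xgi19 ygi46 zgi8) (kgi xgi30 ygi15 zgi12) (kgi xgi19 ygi24 zgi10) (kgi xgi24 ygi10 zgi54)) (@D3.rec (fun _ => Pt) (kgi xgi25 ygi20 zgi34) (kgi xgi29 ygi42 zgi45) (kgi xgi24 ygi15 zgi51) (kgi xgi29 ygi25 zgi47) (kgi xgi26 ygi50 zgi13) (kgi xgi19 ygi24 zgi26) (kgi xgi27 ygi42 zgi55) (kgi xgi19 ygi24 zgi25) (kgi xgi32 ygi32 zgi17) (kgi xgi21 ygi57 zgi59) (kgi xgi32 ygi0 zgi48) (kgi xgi19 ygi51 zgi36) (kgi xgi29 ygi58 zgi55) (kgi xgi25 ygi24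 zgi20) (kgi xgi25 ygi52 zgi35) (kgi xgi21 ygi2 zgi6) (kgi xgi19 ygi36 zgi18) (kgi xgi26 ygi23 zgi17) (kgi xgi19 ygi24 zgi33) (kgi xgi24 ygi39 zgi31) (kgi xgi24 ygi17 zgi14) (kgi xgi25 ygi9 zgi22) (kgi xgi31 ygi53 zgi44) (kgi xgi21 ygi2 zgi13) (kgi xgi19 ygi24 zgi44) (kgi xgi25 ygi59 zgi56) (kgi xgi25 ygi55 zgi57) (kgi xgi31 ygi1 zgi47) (kgi xgi19 ygi35 zgi8) (kgi xgi19 ygi24 zgi52) (kgi xgi19 ygi36 zgi22) (kgi xgi32 ygi3 zgi22) (kgi xgi20 ygi55 zgi38) (kgi xgi25 ygi11 zgi51) (kgi xgi19 ygi39 zgi6) (kgi xgi32 ygi15 zgi59) (kgi xgi19 ygi32 zgi40) (kgi xgi28 ygi22 zgi61) (kgi xgi19 ygi42 zgi2) (kgi xgi31 ygi50 zgi35) (kgi xgi26 ygi9 zgi21) (kgi xgi21 ygi12 zgi59) (kgi xgi20 ygi25 zgi49) (kgi xgi19 ygi25 zgi22) (kgi xgi24 ygi34 zgi54)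 (kgi xgi29 ygi12 zgi59) (kgi xgi30 ygi27 zgi19) (kgi xgi31 ygi38 zgi54) (kgi xgi32 ygi34 zgi52) (kgi xgi27 ygi10 zgi40) (kgi xgi19 ygi25 zgi31) (kgi xgi29 ygi48 zgi44) (kgi xgi26 ygi57 zgi11) (kgi xgi28 ygi51 zgi8) (kgi xgi30 ygi14 zgi50) (kgi xgi31 ygi59 zgi35) (kgi xgi31 ygi59 zgi36) (kgi xgi28 ygi46 zgi50) (kgi xgi28 ygi51 zgi11) (kgi xgi29 ygi39 zgi59) (kgi xgi28 ygi52 zgi41) (kgi xgi22 ygi1 zgi25)) (@D3.rec (fun _ => Pt) (kgi xgi28 ygi51 zgi13) (kgi xgi32 ygi39 zgi1) (kgi xgi25 ygi32 zgi30) (kgi xgi30 ygi50 zgi18) (kgi xgi31 ygi55 zgi28) (kgi xgi25 ygi57 zgi9) (kgi xgi32 ygi39 zgi3) (kgi xgi31 ygi40 zgi9) (kgi xgi25 ygi22 zgi44) (kgi xgi25 ygi53 zgi7) (kgi xgi25 ygi53 zgi9) (kgi xgi25 ygi48 zgi59) (kgi xgi31 ygi17 zgi61) (kgi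 xgi29 ygi18 zgi6) (kgi xgi25 ygi52 zgi49) (kgi xgi31 ygi38 zgi55) (kgi xgi29 ygi0 zgi59) (kgi xgi32 ygi39 zgi8) (kgi xgi19 ygi25 zgi56) (kgi xgi29 ygi4 zgi1) (kgi xgi27 ygi13 zgi23) (kgi xgi31 ygi56 zgi9) (kgi xgi28 ygi12 zgi21) (kgi xgi19 ygi26 zgi6) (kgi xgi26 ygi44 zgi26) (kgi xgi25 ygi54 zgi51) (kgi xgi25 ygi54 zgi42) (kgi xgi23 ygi8 zgi0) (kgi xgi31 ygi22 zgi18) (kgi xgi27 ygi42 zgi38) (kgi xgi25 ygi2 zgi30) (kgi xgi23 ygi28 zgi17) (kgi xgi27 ygi57 zgi3) (kgi xgi26 ygi10 zgi13) (kgi xgi23 ygi37 zgi12) (kgi xgi30 ygi19 zgi38) (kgi xgi23 ygi32 zgi18) (kgi xgi31 ygi58 zgi37) (kgi xgi30 ygi41 zgi61) (kgi xgi25 ygi23 zgi27) (kgi xgi24 ygi33 zgi37) (kgi xgi23 ygi28 zgi58) (kgi xgi22 ygi43 zgi29) (kgi xgi24 ygi38 zgi20) (kgi xgi31 ygi9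 zgi12) (kgi xgi31 ygi8 zgi22) (kgi xgi26 ygi12 zgi33) (kgi xgi25 ygi47 zgi4) (kgi xgi19 ygi27 zgi18) (kgi xgi26 ygi28 zgi42) (kgi xgi32 ygi35 zgi10) (kgi xgi32 ygi2 zgi16) (kgi xgi25 ygi21 zgi58) (kgi xgi32 ygi39 zgi14) (kgi xgi30 ygi18 zgi7) (kgi xgi23 ygi53 zgi38) (kgi xgi28 ygi13 zgi8) (kgi xgi28 ygi32 zgi41) (kgi xgi31 ygi28 zgi41) (kgi xgi32 ygi35 zgi9) (kgi xgi26 ygi42 zgi44) (kgi xgi32 ygi36 zgi3)) (@D3.rec (fun _ => Pt) (kgi xgi32 ygi16 zgi30) (kgi xgi31 ygi51 zgi29) (kgi xgi30 ygi50 zgi58) (kgi xgi26 ygi26 zgi55) (kgi xgi32 ygi22 zgi0) (kgi xgi19 ygi27 zgi13) (kgi xgi19 ygi52 zgi48) (kgi xgi19 ygi27 zgi17) (kgi xgi26 ygi28 zgi30) (kgi xgi31 ygi25 zgi25) (kgi xgi28 ygi29 zgi60) (kgi xgi24 ygi9 zgi5) (kgi xgi22 ygi22 zgi61)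 (kgi xgi19 ygi27 zgi32) (kgi xgi26 ygi55 zgi58) (kgi xgi21 ygi37 zgi41) (kgi xgi20 ygi5 zgi0) (kgi xgi19 ygi51 zgi45) (kgi xgi20 ygi25 zgi11) (kgi xgi32 ygi8 zgi41) (kgi xgi27 ygi14 zgi30) (kgi xgi25 ygi4 zgi20) (kgi xgi19 ygi28 zgi9) (kgi xgi28 ygi14 zgi11) (kgi xgi24 ygi10 zgi12) (kgi xgi28 ygi50 zgi2) (kgi xgi28 ygi17 zgi17) (kgi xgi29 ygi9 zgi19) (kgi xgi19 ygi28 zgi21) (kgi xgi25 ygi53 zgi19) (kgi xgi31 ygi31 zgi51) (kgi xgi27 ygi19 zgi7) (kgi xgi19 ygi44 zgi3) (kgi xgi27 ygi58 zgi31) (kgi xgi32 ygi39 zgi17) (kgi xgi19 ygi39 zgi9) (kgi xgi25 ygi5 zgi19) (kgi xgi30 ygi16 zgi35) (kgi xgi30 ygi49 zgi23) (kgi xgi24 ygi7 zgi13) (kgi xgi19 ygi28 zgi29) (kgi xgi19 ygi29 zgi5) (kgi xgi29 ygi50 zgi10) (kgi xgi25 ygi32 zgi33) (kgi xgi25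 ygi47 zgi50) (kgi xgi32 ygi39 zgi21) (kgi xgi26 ygi25 zgi53) (kgi xgi30 ygi55 zgi60) (kgi xgi30 ygi20 zgi5) (kgi xgi22 ygi41 zgi55) (kgi xgi25 ygi52 zgi39) (kgi xgi30 ygi48 zgi45) (kgi xgi25 ygi52 zgi37) (kgi xgi31 ygi32 zgi9) (kgi xgi26 ygi58 zgi2) (kgi xgi24 ygi8 zgi42) (kgi xgi31 ygi59 zgi57) (kgi xgi30 ygi24 zgi17) (kgi xgi31 ygi30 zgi52) (kgi xgi19 ygi28 zgi52) (kgi xgi19 ygi28 zgi58) (kgi xgi19 ygi28 zgi55)) (@D3.rec (fun _ => Pt) (kgi xgi30 ygi24 zgi16) (kgi xgi19 ygi43 zgi17) (kgi xgi30 ygi50 zgi44) (kgi xgi31 ygi30 zgi25) (kgi xgi29 ygi13 zgi52) (kgi xgi22 ygi32 zgi57) (kgi xgi19 ygi28 zgi59) (kgi xgi32 ygi39 zgi27) (kgi xgi28 ygi48 zgi58) (kgi xgi30 ygi28 zgi52) (kgi xgi29 ygi22 zgi26) (kgi xgi28 ygi48 zgi53) (kgi xgi26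 ygi43 zgi18) (kgi xgi19 ygi29 zgi3) (kgi xgi26 ygi35 zgi4) (kgi xgi24 ygi2 zgi61) (kgi xgi31 ygi33 zgi10) (kgi xgi25 ygi6 zgi3) (kgi xgi31 ygi33 zgi31) (kgi xgi32 ygi0 zgi53) (kgi xgi27 ygi11 zgi50) (kgi xgi25 ygi22 zgi21) (kgi xgi19 ygi29 zgi14) (kgi xgi20 ygi1 zgi32) (kgi xgi19 ygi29 zgi15) (kgi xgi32 ygi39 zgi32) (kgi xgi24 ygi51 zgi34) (kgi xgi32 ygi36 zgi41) (kgi xgi19 ygi29 zgi16) (kgi xgi31 ygi20 zgi37) (kgi xgi31 ygi20 zgi34) (kgi xgi31 ygi40 zgi24) (kgi xgi25 ygi20 zgi32) (kgi xgi19 ygi29 zgi18) (kgi xgi29 ygi13 zgi34) (kgi xgi28 ygi9 zgi3) (kgi xgi19 ygi33 zgi25) (kgi xgi19 ygi29 zgi21) (kgi xgi29 ygi47 zgi29) (kgi xgi28 ygi26 zgi41) (kgi xgi19 ygi29 zgi34) (kgi xgi32 ygi17 zgi39) (kgi xgi19 ygi29 zgi31) (kgi xgi29 ygi21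 zgi34) (kgi xgi19 ygi29 zgi29) (kgi xgi20 ygi1 zgi37) (kgi xgi28 ygi26 zgi38) (kgi xgi32 ygi39 zgi34) (kgi xgi32 ygi10 zgi61) (kgi xgi32 ygi33 zgi5) (kgi xgi32 ygi39 zgi39) (kgi xgi30 ygi39 zgi47) (kgi xgi19 ygi29 zgi33) (kgi xgi32 ygi39 zgi37) (kgi xgi22 ygi14 zgi28) (kgi xgi32 ygi21 zgi12) (kgi xgi26 ygi27 zgi23) (kgi xgi19 ygi29 zgi37) (kgi xgi32 ygi14 zgi55) (kgi xgi32 ygi14 zgi61) (kgi xgi27 ygi15 zgi17) (kgi xgi29 ygi23 zgi13)) (@D3.rec (fun _ => Pt) (kgi xgi29 ygi2 zgi17) (kgi xgi30 ygi5 zgi45) (kgi xgi32 ygi33 zgi3) (kgi xgi26 ygi43 zgi11) (kgi xgi29 ygi36 zgi45) (kgi xgi28 ygi17 zgi34) (kgi xgi28 ygi16 zgi40) (kgi xgi30 ygi19 zgi11) (kgi xgi24 ygi26 zgi0) (kgi xgi24 ygi4 zgi9) (kgi xgi29 ygi48 zgi20) (kgi xgi29 ygi1 zgi11)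 (kgi xgi27 ygi16 zgi38) (kgi xgi19 ygi29 zgi53) (kgi xgi19 ygi29 zgi61) (kgi xgi24 ygi25 zgi28) (kgi xgi19 ygi29 zgi58) (kgi xgi29 ygi1 zgi32) (kgi xgi22 ygi21 zgi5) (kgi xgi30 ygi43 zgi52) (kgi xgi29 ygi1 zgi53) (kgi xgi26 ygi56 zgi53) (kgi xgi26 ygi57 zgi18) (kgi xgi26 ygi27 zgi53) (kgi xgi32 ygi15 zgi12) (kgi xgi29 ygi8 zgi18) (kgi xgi30 ygi15 zgi35) (kgi xgi29 ygi9 zgi26) (kgi xgi32 ygi39 zgi18) (kgi xgi32 ygi38 zgi56) (kgi xgi19 ygi29 zgi60) (kgi xgi32 ygi39 zgi49) (kgi xgi30 ygi14 zgi48) (kgi xgi31 ygi19 zgi32) (kgi xgi29 ygi1 zgi5) (kgi xgi23 ygi56 zgi5) (kgi xgi29 ygi1 zgi39) (kgi xgi19 ygi30 zgi2) (kgi xgi29 ygi2 zgi9) (kgi xgi29 ygi31 zgi34) (kgi xgi29 ygi2 zgi6) (kgi xgi19 ygi30 zgi5) (kgi xgi22 ygi24 zgi60) (kgi xgi25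 ygi32 zgi0) (kgi xgi28 ygi51 zgi12) (kgi xgi23 ygi56 zgi35) (kgi xgi19 ygi30 zgi19) (kgi xgi22 ygi14 zgi25) (kgi xgi19 ygi30 zgi16) (kgi xgi26 ygi26 zgi51) (kgi xgi32 ygi0 zgi25) (kgi xgi19 ygi30 zgi15) (kgi xgi32 ygi39 zgi19) (kgi xgi25 ygi14 zgi20) (kgi xgi22 ygi23 zgi52) (kgi xgi31 ygi37 zgi3) (kgi xgi30 ygi31 zgi34) (kgi xgi31 ygi10 zgi34) (kgi xgi30 ygi9 zgi11) (kgi xgi19 ygi30 zgi40) (kgi xgi27 ygi16 zgi59) (kgi xgi32 ygi20 zgi30)) (@D3.rec (fun _ => Pt) (kgi xgi29 ygi1 zgi59) (kgi xgi29 ygi48 zgi15) (kgi xgi27 ygi6 zgi44) (kgi xgi31 ygi33 zgi12) (kgi xgi25 ygi47 zgi59) (kgi xgi22 ygi23 zgi50) (kgi xgi27 ygi21 zgi22) (kgi xgi19 ygi30 zgi29) (kgi xgi20 ygi16 zgi51) (kgi xgi23 ygi53 zgi18) (kgi xgi19 ygi30 zgi31) (kgi xgi32 ygi39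 zgi53) (kgi xgi29 ygi1 zgi36) (kgi xgi20 ygi48 zgi17) (kgi xgi20 ygi52 zgi56) (kgi xgi19 ygi30 zgi46) (kgi xgi29 ygi1 zgi23) (kgi xgi31 ygi30 zgi11) (kgi xgi19 ygi30 zgi37) (kgi xgi30 ygi26 zgi33) (kgi xgi19 ygi30 zgi38) (kgi xgi32 ygi40 zgi2) (kgi xgi31 ygi30 zgi16) (kgi xgi24 ygi6 zgi22) (kgi xgi32 ygi34 zgi13) (kgi xgi29 ygi1 zgi31) (kgi xgi29 ygi8 zgi54) (kgi xgi29 ygi1 zgi29) (kgi xgi29 ygi42 zgi48) (kgi xgi22 ygi25 zgi57) (kgi xgi32 ygi40 zgi7) (kgi xgi31 ygi20 zgi8) (kgi xgi25 ygi36 zgi27) (kgi xgi32 ygi3 zgi3) (kgi xgi20 ygi11 zgi54) (kgi xgi32 ygi38 zgi42) (kgi xgi29 ygi42 zgi39) (kgi xgi29 ygi8 zgi55) (kgi xgi32 ygi30 zgi17) (kgi xgi19 ygi41 zgi42) (kgi xgi20 ygi33 zgi31) (kgi xgi19 ygi30 zgi51) (kgi xgi19 ygi34 zgi31) (kgi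 xgi30 ygi49 zgi26) (kgi xgi24 ygi6 zgi58) (kgi xgi30 ygi12 zgi8) (kgi xgi22 ygi1 zgi10) (kgi xgi23 ygi48 zgi50) (kgi xgi32 ygi0 zgi55) (kgi xgi19 ygi31 zgi7) (kgi xgi31 ygi21 zgi19) (kgi xgi31 ygi56 zgi17) (kgi xgi25 ygi21 zgi48) (kgi xgi23 ygi5 zgi40) (kgi xgi30 ygi12 zgi52) (kgi xgi19 ygi31 zgi16) (kgi xgi31 ygi18 zgi27) (kgi xgi28 ygi50 zgi30) (kgi xgi25 ygi6 zgi22) (kgi xgi24 ygi11 zgi20) (kgi xgi25 ygi23 zgi5) (kgi xgi31 ygi27 zgi45)) (@D3.rec (fun _ => Pt) (kgi xgi19 ygi31 zgi27) (kgi xgi25 ygi22 zgi8) (kgi xgi25 ygi4 zgi32) (kgi xgi25 ygi25 zgi44) (kgi xgi32 ygi31 zgi47) (kgi xgi29 ygi34 zgi46) (kgi xgi28 ygi48 zgi19) (kgi xgi28 ygi48 zgi18) (kgi xgi26 ygi41 zgi50) (kgi xgi26 ygi34 zgi5) (kgi xgi31 ygi20 zgi19) (kgi xgi26 ygi37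 zgi31) (kgi xgi26 ygi40 zgi3) (kgi xgi24 ygi27 zgi39) (kgi xgi29 ygi47 zgi36) (kgi xgi19 ygi31 zgi45) (kgi xgi19 ygi31 zgi51) (kgi xgi20 ygi58 zgi4) (kgi xgi31 ygi35 zgi49) (kgi xgi19 ygi31 zgi47) (kgi xgi32 ygi33 zgi10) (kgi xgi32 ygi14 zgi32) (kgi xgi26 ygi40 zgi22) (kgi xgi29 ygi28 zgi47) (kgi xgi29 ygi47 zgi25) (kgi xgi29 ygi33 zgi37) (kgi xgi19 ygi31 zgi50) (kgi xgi30 ygi16 zgi13) (kgi xgi32 ygi18 zgi55) (kgi xgi32 ygi27 zgi5) (kgi xgi32 ygi40 zgi20) (kgi xgi30 ygi9 zgi29) (kgi xgi19 ygi31 zgi54) (kgi xgi30 ygi9 zgi38) (kgi xgi30 ygi39 zgi6) (kgi xgi29 ygi21 zgi31) (kgi xgi19 ygi31 zgi56) (kgi xgi26 ygi38 zgi27) (kgi xgi26 ygi40 zgi57) (kgi xgi23 ygi45 zgi33) (kgi xgi32 ygi40 zgi26) (kgi xgi24 ygi3 zgi28) (kgi xgi22 ygi25 zgi0)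 (kgi xgi29 ygi40 zgi51) (kgi xgi26 ygi40 zgi45) (kgi xgi29 ygi34 zgi1) (kgi xgi31 ygi55 zgi44) (kgi xgi29 ygi13 zgi8) (kgi xgi29 ygi45 zgi42) (kgi xgi28 ygi40 zgi48) (kgi xgi29 ygi45 zgi1) (kgi xgi32 ygi39 zgi31) (kgi xgi29 ygi33 zgi44) (kgi xgi22 ygi4 zgi15) (kgi xgi26 ygi35 zgi2) (kgi xgi26 ygi35 zgi39) (kgi xgi26 ygi45 zgi50) (kgi xgi19 ygi32 zgi18) (kgi xgi29 ygi33 zgi30) (kgi xgi27 ygi42 zgi39) (kgi xgi29 ygi23 zgi31) (kgi xgi31 ygi27 zgi29)) (@D3.rec (fun _ => Pt) (kgi xgi30 ygi3 zgi48) (kgi xgi21 ygi9 zgi48) (kgi xgi27 ygi59 zgi56) (kgi xgi19 ygi33 zgi15) (kgi xgi24 ygi49 zgi39) (kgi xgi19 ygi32 zgi50) (kgi xgi25 ygi22 zgi10) (kgi xgi19 ygi33 zgi1) (kgi xgi31 ygi51 zgi5) (kgi xgi19 ygi32 zgi53) (kgi xgi19 ygi33 zgi5) (kgi xgi25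 ygi21 zgi57) (kgi xgi19 ygi33 zgi2) (kgi xgi20 ygi4 zgi35) (kgi xgi32 ygi8 zgi60) (kgi xgi23 ygi3 zgi57) (kgi xgi32 ygi40 zgi32) (kgi xgi30 ygi21 zgi27) (kgi xgi24 ygi49 zgi18) (kgi xgi32 ygi39 zgi35) (kgi xgi29 ygi48 zgi42) (kgi xgi32 ygi40 zgi42) (kgi xgi31 ygi52 zgi43) (kgi xgi19 ygi33 zgi4) (kgi xgi32 ygi35 zgi22) (kgi xgi29 ygi15 zgi15) (kgi xgi20 ygi7 zgi13) (kgi xgi23 ygi24 zgi45) (kgi xgi19 ygi33 zgi13) (kgi xgi26 ygi35 zgi21) (kgi xgi31 ygi53 zgi16) (kgi xgi23 ygi36 zgi31) (kgi xgi31 ygi53 zgi15) (kgi xgi28 ygi50 zgi3) (kgi xgi20 ygi26 zgi52) (kgi xgi25 ygi36 zgi10) (kgi xgi25 ygi47 zgi61) (kgi xgi26 ygi27 zgi58) (kgi xgi31 ygi12 zgi45) (kgi xgi26 ygi45 zgi1) (kgi xgi26 ygi49 zgi18) (kgi xgi31 ygi22 zgi43) (kgi xgi19 ygi33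 zgi36) (kgi xgi26 ygi26 zgi19) (kgi xgi32 ygi37 zgi25) (kgi xgi29 ygi33 zgi12) (kgi xgi29 ygi23 zgi14) (kgi xgi31 ygi33 zgi28) (kgi xgi29 ygi40 zgi30) (kgi xgi19 ygi33 zgi39) (kgi xgi32 ygi15 zgi23) (kgi xgi29 ygi18 zgi43) (kgi xgi26 ygi42 zgi19) (kgi xgi19 ygi33 zgi61) (kgi xgi29 ygi50 zgi7) (kgi xgi19 ygi33 zgi58) (kgi xgi29 ygi42 zgi53) (kgi xgi26 ygi42 zgi18) (kgi xgi19 ygi33 zgi57) (kgi xgi19 ygi33 zgi60) (kgi xgi28 ygi1 zgi38) (kgi xgi24 ygi2 zgi44)) (@D3.rec (fun _ => Pt) (kgi xgi23 ygi10 zgi34) (kgi xgi32 ygi14 zgi60) (kgi xgi22 ygi49 zgi15) (kgi xgi28 ygi33 zgi57) (kgi xgi19 ygi34 zgi3) (kgi xgi28 ygi32 zgi56) (kgi xgi29 ygi8 zgi43) (kgi xgi29 ygi54 zgi55) (kgi xgi31 ygi50 zgi27) (kgi xgi30 ygi9 zgi9) (kgi xgi23 ygi48 zgi18)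 (kgi xgi19 ygi34 zgi6) (kgi xgi29 ygi48 zgi31) (kgi xgi28 ygi46 zgi31) (kgi xgi29 ygi42 zgi50) (kgi xgi20 ygi15 zgi46) (kgi xgi24 ygi12 zgi32) (kgi xgi23 ygi58 zgi3) (kgi xgi21 ygi3 zgi40) (kgi xgi24 ygi6 zgi24) (kgi xgi20 ygi41 zgi2) (kgi xgi24 ygi6 zgi39) (kgi xgi20 ygi52 zgi37) (kgi xgi28 ygi33 zgi39) (kgi xgi31 ygi53 zgi22) (kgi xgi24 ygi6 zgi50) (kgi xgi27 ygi14 zgi52) (kgi xgi24 ygi5 zgi60) (kgi xgi19 ygi34 zgi35) (kgi xgi30 ygi48 zgi40) (kgi xgi26 ygi34 zgi50) (kgi xgi31 ygi17 zgi18) (kgi xgi26 ygi36 zgi6) (kgi xgi32 ygi41 zgi6) (kgi xgi20 ygi39 zgi43) (kgi xgi26 ygi36 zgi11) (kgi xgi32 ygi41 zgi11) (kgi xgi32 ygi39 zgi54) (kgi xgi25 ygi56 zgi9) (kgi xgi27 ygi7 zgi43) (kgi xgi19 ygi34 zgi47) (kgi xgi31 ygi45 zgi44) (kgi xgi19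 ygi44 zgi46) (kgi xgi24 ygi50 zgi26) (kgi xgi19 ygi34 zgi57) (kgi xgi26 ygi37 zgi9) (kgi xgi31 ygi36 zgi58) (kgi xgi19 ygi34 zgi61) (kgi xgi25 ygi25 zgi17) (kgi xgi25 ygi24 zgi23) (kgi xgi29 ygi41 zgi10) (kgi xgi23 ygi56 zgi40) (kgi xgi31 ygi21 zgi49) (kgi xgi20 ygi59 zgi2) (kgi xgi25 ygi38 zgi6) (kgi xgi29 ygi0 zgi15) (kgi xgi19 ygi35 zgi7) (kgi xgi31 ygi37 zgi28) (kgi xgi25 ygi32 zgi2) (kgi xgi27 ygi35 zgi59) (kgi xgi24 ygi15 zgi14) (kgi xgi28 ygi50 zgi21)) (@D3.rec (fun _ => Pt) (kgi xgi23 ygi11 zgi26) (kgi xgi26 ygi24 zgi3) (kgi xgi31 ygi48 zgi14) (kgi xgi31 ygi30 zgi55) (kgi xgi29 ygi50 zgi60) (kgi xgi24 ygi3 zgi16) (kgi xgi26 ygi25 zgi58) (kgi xgi24 ygi14 zgi0) (kgi xgi19 ygi35 zgi22) (kgi xgi31 ygi29 zgi53) (kgi xgi25 ygi5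 zgi22) (kgi xgi32 ygi41 zgi16) (kgi xgi32 ygi41 zgi14) (kgi xgi25 ygi9 zgi44) (kgi xgi28 ygi54 zgi3) (kgi xgi25 ygi9 zgi46) (kgi xgi20 ygi4 zgi55) (kgi xgi19 ygi35 zgi25) (kgi xgi23 ygi55 zgi43) (kgi xgi30 ygi9 zgi15) (kgi xgi24 ygi58 zgi27) (kgi xgi20 ygi43 zgi25) (kgi xgi20 ygi43 zgi27) (kgi xgi31 ygi43 zgi56) (kgi xgi25 ygi31 zgi22) (kgi xgi32 ygi0 zgi45) (kgi xgi28 ygi59 zgi57) (kgi xgi31 ygi11 zgi3) (kgi xgi19 ygi35 zgi32) (kgi xgi19 ygi38 zgi19) (kgi xgi32 ygi12 zgi57) (kgi xgi19 ygi38 zgi15) (kgi xgi19 ygi35 zgi34) (kgi xgi20 ygi3 zgi23) (kgi xgi25 ygi29 zgi28) (kgi xgi25 ygi44 zgi4) (kgi xgi22 ygi20 zgi50) (kgi xgi25 ygi7 zgi17) (kgi xgi21 ygi39 zgi31) (kgi xgi25 ygi7 zgi31) (kgi xgi25 ygi26 zgi58) (kgi xgi23 ygi47 zgi23)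 (kgi xgi27 ygi10 zgi59) (kgi xgi21 ygi46 zgi20) (kgi xgi27 ygi37 zgi53) (kgi xgi27 ygi49 zgi44) (kgi xgi19 ygi35 zgi52) (kgi xgi20 ygi28 zgi60) (kgi xgi22 ygi9 zgi47) (kgi xgi21 ygi58 zgi46) (kgi xgi28 ygi53 zgi4) (kgi xgi28 ygi58 zgi53) (kgi xgi19 ygi35 zgi59) (kgi xgi19 ygi36 zgi1) (kgi xgi24 ygi17 zgi18) (kgi xgi19 ygi35 zgi60) (kgi xgi31 ygi26 zgi20) (kgi xgi21 ygi58 zgi48) (kgi xgi31 ygi26 zgi44) (kgi xgi19 ygi36 zgi0) (kgi xgi19 ygi36 zgi3) (kgi xgi31 ygi55 zgi30)) (@D3.rec (fun _ => Pt) (kgi xgi19 ygi36 zgi5) (kgi xgi24 ygi4 zgi3) (kgi xgi31 ygi55 zgi32) (kgi xgi26 ygi38 zgi36) (kgi xgi25 ygi12 zgi22) (kgi xgi28 ygi0 zgi7) (kgi xgi19 ygi39 zgi15) (kgi xgi27 ygi30 zgi10) (kgi xgi27 ygi9 zgi9) (kgi xgi30 ygi19 zgi37) (kgi xgi29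 ygi17 zgi32) (kgi xgi25 ygi31 zgi46) (kgi xgi29 ygi47 zgi56) (kgi xgi19 ygi36 zgi24) (kgi xgi31 ygi40 zgi41) (kgi xgi24 ygi17 zgi32) (kgi xgi24 ygi3 zgi3) (kgi xgi30 ygi9 zgi24) (kgi xgi20 ygi50 zgi27) (kgi xgi28 ygi29 zgi12) (kgi xgi19 ygi36 zgi36) (kgi xgi19 ygi36 zgi34) (kgi xgi19 ygi36 zgi33) (kgi xgi27 ygi17 zgi30) (kgi xgi19 ygi36 zgi37) (kgi xgi19 ygi39 zgi33) (kgi xgi25 ygi33 zgi15) (kgi xgi27 ygi17 zgi34) (kgi xgi25 ygi56 zgi44) (kgi xgi19 ygi36 zgi44) (kgi xgi26 ygi39 zgi19) (kgi xgi24 ygi4 zgi14) (kgi xgi24 ygi3 zgi11) (kgi xgi20 ygi55 zgi39) (kgi xgi31 ygi55 zgi52) (kgi xgi31 ygi40 zgi40) (kgi xgi20 ygi17 zgi55) (kgi xgi31 ygi34 zgi33) (kgi xgi19 ygi36 zgi60) (kgi xgi19 ygi36 zgi61) (kgi xgi32 ygi30 zgi2) (kgi xgi26 ygi48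 zgi2) (kgi xgi29 ygi9 zgi33) (kgi xgi32 ygi14 zgi38) (kgi xgi26 ygi34 zgi15) (kgi xgi30 ygi47 zgi41) (kgi xgi31 ygi49 zgi54) (kgi xgi26 ygi24 zgi1) (kgi xgi29 ygi4 zgi11) (kgi xgi31 ygi25 zgi17) (kgi xgi32 ygi41 zgi23) (kgi xgi19 ygi37 zgi6) (kgi xgi24 ygi43 zgi30) (kgi xgi19 ygi37 zgi10) (kgi xgi19 ygi37 zgi41) (kgi xgi25 ygi12 zgi24) (kgi xgi32 ygi41 zgi25) (kgi xgi19 ygi37 zgi15) (kgi xgi22 ygi2 zgi15) (kgi xgi27 ygi17 zgi25) (kgi xgi24 ygi8 zgi0) (kgi xgi22 ygi16 zgi40)) (@D3.rec (fun _ => Pt) (kgi xgi25 ygi59 zgi0) (kgi xgi28 ygi57 zgi47) (kgi xgi27 ygi42 zgi35) (kgi xgi19 ygi37 zgi21) (kgi xgi19 ygi37 zgi37) (kgi xgi30 ygi9 zgi18) (kgi xgi19 ygi37 zgi23) (kgi xgi19 ygi37 zgi45) (kgi xgi19 ygi37 zgi43) (kgi xgi32 ygi33 zgi41)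 (kgi xgi19 ygi37 zgi29) (kgi xgi28 ygi1 zgi7) (kgi xgi22 ygi12 zgi58) (kgi xgi31 ygi26 zgi56) (kgi xgi27 ygi21 zgi44) (kgi xgi25 ygi28 zgi40) (kgi xgi30 ygi18 zgi49) (kgi xgi22 ygi20 zgi26) (kgi xgi24 ygi50 zgi10) (kgi xgi32 ygi0 zgi20) (kgi xgi29 ygi36 zgi25) (kgi xgi24 ygi3 zgi12) (kgi xgi19 ygi53 zgi38) (kgi xgi29 ygi0 zgi55) (kgi xgi24 ygi35 zgi28) (kgi xgi28 ygi37 zgi31) (kgi xgi29 ygi44 zgi48) (kgi xgi19 ygi45 zgi51) (kgi xgi31 ygi23 zgi49) (kgi xgi25 ygi11 zgi5) (kgi xgi19 ygi38 zgi0) (kgi xgi25 ygi11 zgi25) (kgi xgi29 ygi13 zgi32) (kgi xgi31 ygi24 zgi24) (kgi xgi19 ygi38 zgi8) (kgi xgi19 ygi38 zgi3) (kgi xgi24 ygi3 zgi14) (kgi xgi19 ygi38 zgi29) (kgi xgi25 ygi35 zgi2) (kgi xgi19 ygi38 zgi35) (kgi xgi19 ygi38 zgi7) (kgi xgi26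 ygi38 zgi48) (kgi xgi19 ygi38 zgi9) (kgi xgi19 ygi38 zgi12) (kgi xgi31 ygi41 zgi39) (kgi xgi31 ygi47 zgi49) (kgi xgi20 ygi5 zgi30) (kgi xgi25 ygi9 zgi21) (kgi xgi26 ygi2 zgi60) (kgi xgi27 ygi30 zgi14) (kgi xgi28 ygi59 zgi45) (kgi xgi29 ygi13 zgi27) (kgi xgi31 ygi48 zgi23) (kgi xgi32 ygi22 zgi38) (kgi xgi31 ygi24 zgi20) (kgi xgi24 ygi3 zgi8) (kgi xgi32 ygi24 zgi8) (kgi xgi28 ygi57 zgi24) (kgi xgi32 ygi21 zgi39) (kgi xgi25 ygi12 zgi31) (kgi xgi28 ygi37 zgi57) (kgi xgi30 ygi3 zgi18))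
def fi_g_29 : D2 → D3 → Pt := @D2.rec (fun _ => D3 → Pt) (@D3.rec (fun _ => Pt) (kgi xgi30 ygi9 zgi25) (kgi xgi19 ygi38 zgi34) (kgi xgi25 ygi12 zgi14) (kgi xgi20 ygi42 zgi10) (kgi xgi25 ygi12 zgi38) (kgi xgi30 ygi18 zgi59) (kgi xgi21 ygi17 zgi6) (kgi xgi21 ygi35 zgi17) (kgi xgi19 ygi38 zgi43) (kgi xgi21 ygi50 zgi11) (kgi xgi31 ygi28 zgi53) (kgi xgi30 ygi8 zgi57) (kgi xgi24 ygi50 zgi16) (kgi xgi25 ygi37 zgi29) (kgi xgi23 ygi24 zgi22) (kgi xgi25 ygi32 zgi9) (kgi xgi26 ygi0 zgi30) (kgi xgi22 ygi9 zgi19) (kgi xgi24 ygi44 zgi46) (kgi xgi27 ygi53 zgi30) (kgi xgi20 ygi43 zgi21) (kgi xgi24 ygi17 zgi42) (kgi xgi31 ygi59 zgi59) (kgi xgi32 ygi38 zgi55) (kgi xgi29 ygi12 zgi53) (kgi xgi25 ygi27 zgi40) (kgi xgi30 ygi19 zgi29) (kgi xgi22 ygi59 zgi51)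 (kgi xgi29 ygi30 zgi61) (kgi xgi23 ygi19 zgi8) (kgi xgi19 ygi39 zgi27) (kgi xgi24 ygi20 zgi57) (kgi xgi23 ygi58 zgi12) (kgi xgi29 ygi53 zgi47) (kgi xgi19 ygi39 zgi34) (kgi xgi27 ygi17 zgi26) (kgi xgi22 ygi1 zgi55) (kgi xgi20 ygi12 zgi34) (kgi xgi20 ygi34 zgi2) (kgi xgi19 ygi39 zgi56) (kgi xgi26 ygi19 zgi55) (kgi xgi24 ygi55 zgi52) (kgi xgi19 ygi40 zgi3) (kgi xgi20 ygi1 zgi34) (kgi xgi19 ygi40 zgi8) (kgi xgi31 ygi24 zgi23) (kgi xgi19 ygi40 zgi13) (kgi xgi27 ygi19 zgi44) (kgi xgi24 ygi17 zgi54) (kgi xgi29 ygi39 zgi24) (kgi xgi21 ygi48 zgi1) (kgi xgi26 ygi1 zgi54) (kgi xgi29 ygi0 zgi60) (kgi xgi29 ygi16 zgi49) (kgi xgi21 ygi58 zgi15) (kgi xgi28 ygi59 zgi22) (kgi xgi31 ygi41 zgi31) (kgi xgi29 ygi36 zgi6) (kgi xgi28 ygi49 zgi16) (kgi xgi26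 ygi45 zgi37) (kgi xgi29 ygi0 zgi53) (kgi xgi27 ygi0 zgi19)) (@D3.rec (fun _ => Pt) (kgi xgi19 ygi40 zgi48) (kgi xgi20 ygi37 zgi36) (kgi xgi32 ygi41 zgi38) (kgi xgi24 ygi4 zgi28) (kgi xgi26 ygi38 zgi17) (kgi xgi29 ygi32 zgi9) (kgi xgi30 ygi27 zgi4) (kgi xgi24 ygi3 zgi35) (kgi xgi24 ygi5 zgi14) (kgi xgi28 ygi53 zgi16) (kgi xgi29 ygi4 zgi6) (kgi xgi19 ygi41 zgi50) (kgi xgi24 ygi3 zgi32) (kgi xgi22 ygi48 zgi39) (kgi xgi31 ygi28 zgi23) (kgi xgi24 ygi1 zgi44) (kgi xgi30 ygi11 zgi34) (kgi xgi28 ygi41 zgi12) (kgi xgi19 ygi41 zgi22) (kgi xgi26 ygi33 zgi16) (kgi xgi27 ygi21 zgi5) (kgi xgi19 ygi41 zgi25) (kgi xgi28 ygi42 zgi29) (kgi xgi19 ygi41 zgi37) (kgi xgi19 ygi41 zgi45) (kgi xgi28 ygi46 zgi27) (kgi xgi22 ygi14 zgi31) (kgi xgi31 ygi15 zgi51)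 (kgi xgi31 ygi22 zgi54) (kgi xgi19 ygi41 zgi36) (kgi xgi32 ygi41 zgi40) (kgi xgi28 ygi52 zgi59) (kgi xgi28 ygi53 zgi18) (kgi xgi31 ygi33 zgi37) (kgi xgi28 ygi23 zgi61) (kgi xgi30 ygi15 zgi10) (kgi xgi19 ygi41 zgi39) (kgi xgi28 ygi53 zgi12) (kgi xgi30 ygi30 zgi1) (kgi xgi28 ygi53 zgi10) (kgi xgi30 ygi36 zgi18) (kgi xgi26 ygi43 zgi34) (kgi xgi31 ygi22 zgi52) (kgi xgi26 ygi44 zgi6) (kgi xgi31 ygi28 zgi3) (kgi xgi19 ygi41 zgi44) (kgi xgi24 ygi39 zgi14) (kgi xgi32 ygi2 zgi45) (kgi xgi25 ygi58 zgi14) (kgi xgi30 ygi27 zgi20) (kgi xgi29 ygi42 zgi46) (kgi xgi29 ygi7 zgi14) (kgi xgi24 ygi46 zgi18) (kgi xgi28 ygi35 zgi58) (kgi xgi28 ygi35 zgi51) (kgi xgi28 ygi52 zgi11) (kgi xgi28 ygi35 zgi29) (kgi xgi28 ygi35 zgi49) (kgi xgi28 ygi35 zgi38) (kgi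 xgi19 ygi41 zgi54) (kgi xgi28 ygi53 zgi0) (kgi xgi27 ygi7 zgi5)) (@D3.rec (fun _ => Pt) (kgi xgi27 ygi16 zgi53) (kgi xgi28 ygi36 zgi36) (kgi xgi28 ygi32 zgi15) (kgi xgi28 ygi29 zgi20) (kgi xgi32 ygi8 zgi3) (kgi xgi22 ygi1 zgi8) (kgi xgi19 ygi41 zgi60) (kgi xgi28 ygi52 zgi40) (kgi xgi28 ygi56 zgi37) (kgi xgi28 ygi52 zgi37) (kgi xgi24 ygi1 zgi41) (kgi xgi25 ygi4 zgi47) (kgi xgi28 ygi42 zgi38) (kgi xgi19 ygi42 zgi6) (kgi xgi24 ygi12 zgi24) (kgi xgi23 ygi48 zgi14) (kgi xgi21 ygi47 zgi39) (kgi xgi28 ygi15 zgi50) (kgi xgi24 ygi48 zgi34) (kgi xgi31 ygi41 zgi33) (kgi xgi29 ygi17 zgi53) (kgi xgi19 ygi58 zgi23) (kgi xgi30 ygi35 zgi50) (kgi xgi24 ygi50 zgi49) (kgi xgi31 ygi15 zgi31) (kgi xgi32 ygi14 zgi45) (kgi xgi24 ygi10 zgi39) (kgi xgi32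 ygi16 zgi34) (kgi xgi32 ygi21 zgi51) (kgi xgi25 ygi52 zgi40) (kgi xgi32 ygi28 zgi53) (kgi xgi22 ygi18 zgi17) (kgi xgi19 ygi42 zgi53) (kgi xgi19 ygi42 zgi35) (kgi xgi29 ygi50 zgi17) (kgi xgi26 ygi57 zgi35) (kgi xgi29 ygi58 zgi53) (kgi xgi29 ygi43 zgi37) (kgi xgi19 ygi42 zgi45) (kgi xgi31 ygi48 zgi29) (kgi xgi24 ygi51 zgi12) (kgi xgi32 ygi25 zgi17) (kgi xgi20 ygi58 zgi38) (kgi xgi20 ygi1 zgi55) (kgi xgi28 ygi34 zgi50) (kgi xgi19 ygi42 zgi48) (kgi xgi26 ygi41 zgi9) (kgi xgi26 ygi37 zgi55) (kgi xgi20 ygi26 zgi37) (kgi xgi19 ygi58 zgi41) (kgi xgi26 ygi9 zgi47) (kgi xgi27 ygi11 zgi48) (kgi xgi29 ygi0 zgi49) (kgi xgi28 ygi33 zgi54) (kgi xgi20 ygi28 zgi53) (kgi xgi25 ygi18 zgi46) (kgi xgi29 ygi8 zgi44) (kgi xgi23 ygi0 zgi6) (kgi xgi26 ygi32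 zgi54) (kgi xgi29 ygi7 zgi56) (kgi xgi24 ygi52 zgi35) (kgi xgi20 ygi53 zgi8)) (@D3.rec (fun _ => Pt) (kgi xgi24 ygi30 zgi37) (kgi xgi23 ygi4 zgi33) (kgi xgi19 ygi43 zgi34) (kgi xgi19 ygi43 zgi25) (kgi xgi20 ygi45 zgi30) (kgi xgi19 ygi43 zgi31) (kgi xgi19 ygi48 zgi5) (kgi xgi26 ygi50 zgi39) (kgi xgi31 ygi22 zgi38) (kgi xgi26 ygi51 zgi37) (kgi xgi29 ygi25 zgi33) (kgi xgi29 ygi7 zgi54) (kgi xgi31 ygi43 zgi30) (kgi xgi30 ygi56 zgi52) (kgi xgi19 ygi43 zgi49) (kgi xgi30 ygi17 zgi58) (kgi xgi26 ygi37 zgi60) (kgi xgi26 ygi34 zgi16) (kgi xgi20 ygi58 zgi31) (kgi xgi28 ygi0 zgi19) (kgi xgi32 ygi15 zgi2) (kgi xgi19 ygi44 zgi4) (kgi xgi32 ygi13 zgi22) (kgi xgi20 ygi58 zgi11) (kgi xgi19 ygi51 zgi6) (kgi xgi24 ygi15 zgi43) (kgi xgi22 ygi55 zgi1)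 (kgi xgi19 ygi44 zgi25) (kgi xgi23 ygi30 zgi19) (kgi xgi27 ygi41 zgi40) (kgi xgi19 ygi44 zgi29) (kgi xgi32 ygi32 zgi45) (kgi xgi31 ygi36 zgi42) (kgi xgi31 ygi13 zgi2) (kgi xgi31 ygi4 zgi19) (kgi xgi25 ygi24 zgi26) (kgi xgi30 ygi55 zgi56) (kgi xgi26 ygi20 zgi34) (kgi xgi27 ygi5 zgi1) (kgi xgi19 ygi45 zgi48) (kgi xgi19 ygi44 zgi57) (kgi xgi24 ygi23 zgi60) (kgi xgi25 ygi24 zgi16) (kgi xgi21 ygi17 zgi16) (kgi xgi32 ygi15 zgi31) (kgi xgi25 ygi5 zgi4) (kgi xgi19 ygi44 zgi44) (kgi xgi19 ygi46 zgi12) (kgi xgi32 ygi41 zgi60) (kgi xgi25 ygi30 zgi50) (kgi xgi32 ygi33 zgi7) (kgi xgi30 ygi10 zgi54) (kgi xgi30 ygi10 zgi4) (kgi xgi19 ygi44 zgi50) (kgi xgi26 ygi4 zgi51) (kgi xgi24 ygi58 zgi9) (kgi xgi24 ygi26 zgi52) (kgi xgi26 ygi20 zgi35) (kgi xgi24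 ygi39 zgi43) (kgi xgi19 ygi46 zgi5) (kgi xgi27 ygi29 zgi25) (kgi xgi27 ygi11 zgi30)) (@D3.rec (fun _ => Pt) (kgi xgi27 ygi21 zgi52) (kgi xgi25 ygi12 zgi19) (kgi xgi19 ygi45 zgi4) (kgi xgi25 ygi10 zgi6) (kgi xgi28 ygi58 zgi47) (kgi xgi31 ygi27 zgi1) (kgi xgi29 ygi1 zgi13) (kgi xgi30 ygi51 zgi41) (kgi xgi27 ygi42 zgi32) (kgi xgi32 ygi42 zgi0) (kgi xgi26 ygi54 zgi52) (kgi xgi27 ygi41 zgi44) (kgi xgi25 ygi5 zgi11) (kgi xgi23 ygi46 zgi39) (kgi xgi29 ygi24 zgi27) (kgi xgi22 ygi20 zgi22) (kgi xgi25 ygi35 zgi17) (kgi xgi32 ygi1 zgi14) (kgi xgi32 ygi28 zgi56) (kgi xgi31 ygi54 zgi26) (kgi xgi24 ygi16 zgi59) (kgi xgi19 ygi45 zgi25) (kgi xgi30 ygi51 zgi31) (kgi xgi23 ygi30 zgi7) (kgi xgi19 ygi45 zgi26) (kgi xgi32 ygi15 zgi30) (kgi xgi24 ygi39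 zgi57) (kgi xgi32 ygi42 zgi8) (kgi xgi29 ygi17 zgi11) (kgi xgi19 ygi45 zgi27) (kgi xgi29 ygi5 zgi20) (kgi xgi32 ygi42 zgi10) (kgi xgi29 ygi49 zgi52) (kgi xgi32 ygi6 zgi53) (kgi xgi32 ygi14 zgi39) (kgi xgi32 ygi41 zgi61) (kgi xgi23 ygi30 zgi24) (kgi xgi31 ygi4 zgi31) (kgi xgi32 ygi42 zgi12) (kgi xgi29 ygi50 zgi55) (kgi xgi25 ygi34 zgi27) (kgi xgi19 ygi45 zgi40) (kgi xgi31 ygi54 zgi37) (kgi xgi28 ygi19 zgi42) (kgi xgi30 ygi6 zgi47) (kgi xgi32 ygi7 zgi6) (kgi xgi32 ygi7 zgi9) (kgi xgi29 ygi59 zgi2) (kgi xgi27 ygi4 zgi61) (kgi xgi32 ygi42 zgi17) (kgi xgi21 ygi43 zgi20) (kgi xgi21 ygi27 zgi21) (kgi xgi31 ygi11 zgi14) (kgi xgi31 ygi27 zgi7) (kgi xgi29 ygi57 zgi5) (kgi xgi26 ygi5 zgi0) (kgi xgi19 ygi45 zgi54) (kgi xgi27 ygi1 zgi37) (kgi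 xgi26 ygi4 zgi47) (kgi xgi19 ygi45 zgi55) (kgi xgi29 ygi17 zgi7) (kgi xgi31 ygi11 zgi13)) (@D3.rec (fun _ => Pt) (kgi xgi24 ygi24 zgi6) (kgi xgi19 ygi45 zgi61) (kgi xgi29 ygi15 zgi47) (kgi xgi31 ygi27 zgi46) (kgi xgi30 ygi1 zgi44) (kgi xgi31 ygi54 zgi23) (kgi xgi19 ygi46 zgi13) (kgi xgi31 ygi34 zgi19) (kgi xgi31 ygi42 zgi13) (kgi xgi32 ygi42 zgi26) (kgi xgi32 ygi7 zgi7) (kgi xgi25 ygi53 zgi51) (kgi xgi31 ygi10 zgi32) (kgi xgi29 ygi5 zgi19) (kgi xgi32 ygi42 zgi27) (kgi xgi19 ygi46 zgi10) (kgi xgi31 ygi24 zgi44) (kgi xgi30 ygi9 zgi41) (kgi xgi29 ygi3 zgi45) (kgi xgi31 ygi54 zgi6) (kgi xgi28 ygi57 zgi10) (kgi xgi31 ygi3 zgi50) (kgi xgi19 ygi46 zgi18) (kgi xgi30 ygi10 zgi6) (kgi xgi29 ygi16 zgi53) (kgi xgi27 ygi18 zgi34) (kgi xgi19 ygi46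 zgi23) (kgi xgi25 ygi30 zgi38) (kgi xgi29 ygi16 zgi54) (kgi xgi31 ygi9 zgi51) (kgi xgi27 ygi18 zgi26) (kgi xgi19 ygi46 zgi28) (kgi xgi30 ygi10 zgi1) (kgi xgi29 ygi14 zgi2) (kgi xgi32 ygi21 zgi9) (kgi xgi27 ygi2 zgi42) (kgi xgi25 ygi31 zgi58) (kgi xgi23 ygi19 zgi17) (kgi xgi19 ygi46 zgi43) (kgi xgi25 ygi49 zgi50) (kgi xgi27 ygi42 zgi34) (kgi xgi28 ygi21 zgi18) (kgi xgi22 ygi47 zgi33) (kgi xgi27 ygi17 zgi39) (kgi xgi24 ygi17 zgi36) (kgi xgi19 ygi47 zgi10) (kgi xgi19 ygi47 zgi14) (kgi xgi21 ygi17 zgi39) (kgi xgi27 ygi7 zgi38) (kgi xgi19 ygi58 zgi22) (kgi xgi30 ygi19 zgi20) (kgi xgi28 ygi54 zgi61) (kgi xgi31 ygi40 zgi27) (kgi xgi26 ygi44 zgi11) (kgi xgi32 ygi10 zgi42) (kgi xgi31 ygi44 zgi46) (kgi xgi28 ygi41 zgi2) (kgi xgi25 ygi46 zgi16)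 (kgi xgi28 ygi43 zgi40) (kgi xgi26 ygi54 zgi58) (kgi xgi19 ygi47 zgi41) (kgi xgi31 ygi41 zgi51)) (@D3.rec (fun _ => Pt) (kgi xgi19 ygi47 zgi43) (kgi xgi26 ygi25 zgi26) (kgi xgi31 ygi53 zgi41) (kgi xgi25 ygi49 zgi33) (kgi xgi26 ygi54 zgi60) (kgi xgi24 ygi2 zgi42) (kgi xgi23 ygi19 zgi53) (kgi xgi31 ygi33 zgi45) (kgi xgi19 ygi47 zgi51) (kgi xgi20 ygi37 zgi43) (kgi xgi19 ygi47 zgi55) (kgi xgi19 ygi48 zgi27) (kgi xgi19 ygi53 zgi17) (kgi xgi27 ygi1 zgi2) (kgi xgi19 ygi48 zgi6) (kgi xgi29 ygi14 zgi41) (kgi xgi19 ygi48 zgi8) (kgi xgi19 ygi53 zgi53) (kgi xgi31 ygi40 zgi58) (kgi xgi24 ygi32 zgi58) (kgi xgi19 ygi48 zgi12) (kgi xgi26 ygi10 zgi7) (kgi xgi31 ygi2 zgi11) (kgi xgi32 ygi23 zgi48) (kgi xgi30 ygi13 zgi34) (kgi xgi26 ygi7 zgi36) (kgi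 xgi26 ygi7 zgi24) (kgi xgi24 ygi30 zgi46) (kgi xgi19 ygi48 zgi26) (kgi xgi24 ygi43 zgi51) (kgi xgi19 ygi48 zgi29) (kgi xgi29 ygi49 zgi33) (kgi xgi26 ygi51 zgi4) (kgi xgi23 ygi42 zgi11) (kgi xgi21 ygi35 zgi43) (kgi xgi21 ygi35 zgi44) (kgi xgi20 ygi13 zgi43) (kgi xgi19 ygi48 zgi49) (kgi xgi32 ygi16 zgi21) (kgi xgi28 ygi18 zgi1) (kgi xgi20 ygi18 zgi54) (kgi xgi26 ygi51 zgi16) (kgi xgi21 ygi13 zgi12) (kgi xgi20 ygi52 zgi4) (kgi xgi21 ygi50 zgi33) (kgi xgi29 ygi17 zgi51) (kgi xgi25 ygi11 zgi24) (kgi xgi27 ygi19 zgi47) (kgi xgi19 ygi49 zgi15) (kgi xgi31 ygi28 zgi55) (kgi xgi24 ygi50 zgi50) (kgi xgi29 ygi7 zgi22) (kgi xgi25 ygi33 zgi36) (kgi xgi21 ygi40 zgi43) (kgi xgi29 ygi43 zgi41) (kgi xgi19 ygi49 zgi46) (kgi xgi25 ygi12 zgi52) (kgi xgi19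 ygi49 zgi36) (kgi xgi19 ygi49 zgi52) (kgi xgi19 ygi49 zgi47) (kgi xgi25 ygi39 zgi49) (kgi xgi32 ygi24 zgi10)) (@D3.rec (fun _ => Pt) (kgi xgi19 ygi49 zgi45) (kgi xgi31 ygi48 zgi58) (kgi xgi32 ygi42 zgi14) (kgi xgi31 ygi43 zgi40) (kgi xgi25 ygi33 zgi9) (kgi xgi31 ygi50 zgi29) (kgi xgi31 ygi33 zgi41) (kgi xgi27 ygi57 zgi48) (kgi xgi20 ygi45 zgi54) (kgi xgi27 ygi31 zgi19) (kgi xgi30 ygi9 zgi19) (kgi xgi19 ygi50 zgi10) (kgi xgi26 ygi54 zgi11) (kgi xgi21 ygi57 zgi57) (kgi xgi31 ygi7 zgi47) (kgi xgi20 ygi47 zgi44) (kgi xgi19 ygi51 zgi10) (kgi xgi20 ygi23 zgi28) (kgi xgi21 ygi24 zgi16) (kgi xgi29 ygi2 zgi43) (kgi xgi24 ygi52 zgi45) (kgi xgi26 ygi48 zgi56) (kgi xgi31 ygi40 zgi48) (kgi xgi32 ygi13 zgi5) (kgi xgi24 ygi52 zgi46) (kgi xgi26 ygi58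 zgi9) (kgi xgi27 ygi21 zgi61) (kgi xgi28 ygi46 zgi43) (kgi xgi24 ygi50 zgi41) (kgi xgi23 ygi58 zgi15) (kgi xgi23 ygi22 zgi4) (kgi xgi19 ygi50 zgi58) (kgi xgi27 ygi12 zgi28) (kgi xgi32 ygi35 zgi56) (kgi xgi31 ygi27 zgi60) (kgi xgi19 ygi50 zgi61) (kgi xgi31 ygi21 zgi8) (kgi xgi32 ygi13 zgi55) (kgi xgi27 ygi45 zgi58) (kgi xgi20 ygi31 zgi31) (kgi xgi19 ygi52 zgi7) (kgi xgi29 ygi2 zgi58) (kgi xgi26 ygi48 zgi42) (kgi xgi31 ygi28 zgi37) (kgi xgi19 ygi51 zgi17) (kgi xgi26 ygi23 zgi40) (kgi xgi29 ygi48 zgi3) (kgi xgi20 ygi18 zgi45) (kgi xgi24 ygi53 zgi30) (kgi xgi19 ygi51 zgi34) (kgi xgi19 ygi51 zgi30) (kgi xgi28 ygi14 zgi22) (kgi xgi22 ygi17 zgi34) (kgi xgi32 ygi42 zgi38) (kgi xgi29 ygi2 zgi59) (kgi xgi29 ygi9 zgi1) (kgi xgi29 ygi3 zgi11)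 (kgi xgi29 ygi27 zgi55) (kgi xgi26 ygi52 zgi51) (kgi xgi22 ygi34 zgi18) (kgi xgi28 ygi9 zgi45) (kgi xgi29 ygi1 zgi51)) (@D3.rec (fun _ => Pt) (kgi xgi23 ygi23 zgi52) (kgi xgi28 ygi43 zgi1) (kgi xgi25 ygi21 zgi42) (kgi xgi19 ygi51 zgi51) (kgi xgi19 ygi52 zgi17) (kgi xgi28 ygi38 zgi33) (kgi xgi19 ygi52 zgi14) (kgi xgi32 ygi33 zgi12) (kgi xgi29 ygi42 zgi21) (kgi xgi19 ygi52 zgi27) (kgi xgi19 ygi52 zgi24) (kgi xgi24 ygi53 zgi34) (kgi xgi30 ygi34 zgi12) (kgi xgi29 ygi26 zgi60) (kgi xgi29 ygi48 zgi9) (kgi xgi27 ygi10 zgi47) (kgi xgi24 ygi5 zgi47) (kgi xgi26 ygi35 zgi53) (kgi xgi19 ygi52 zgi3) (kgi xgi28 ygi52 zgi25) (kgi xgi29 ygi52 zgi20) (kgi xgi27 ygi2 zgi37) (kgi xgi19 ygi52 zgi9) (kgi xgi20 ygi45 zgi61) (kgi xgi28 ygi29 zgi42) (kgi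 xgi28 ygi29 zgi41) (kgi xgi31 ygi19 zgi50) (kgi xgi32 ygi36 zgi61) (kgi xgi21 ygi31 zgi45) (kgi xgi30 ygi27 zgi29) (kgi xgi26 ygi54 zgi19) (kgi xgi23 ygi55 zgi57) (kgi xgi28 ygi30 zgi40) (kgi xgi19 ygi52 zgi16) (kgi xgi32 ygi21 zgi21) (kgi xgi29 ygi48 zgi14) (kgi xgi28 ygi38 zgi36) (kgi xgi19 ygi52 zgi18) (kgi xgi20 ygi32 zgi5) (kgi xgi20 ygi31 zgi19) (kgi xgi29 ygi55 zgi8) (kgi xgi19 ygi52 zgi19) (kgi xgi30 ygi32 zgi14) (kgi xgi32 ygi35 zgi51) (kgi xgi26 ygi45 zgi26) (kgi xgi20 ygi20 zgi2) (kgi xgi32 ygi36 zgi60) (kgi xgi32 ygi42 zgi42) (kgi xgi32 ygi17 zgi38) (kgi xgi31 ygi24 zgi8) (kgi xgi23 ygi7 zgi34) (kgi xgi28 ygi43 zgi36) (kgi xgi31 ygi22 zgi56) (kgi xgi28 ygi37 zgi39) (kgi xgi30 ygi20 zgi50) (kgi xgi26 ygi43 zgi28) (kgi xgi26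 ygi44 zgi1) (kgi xgi28 ygi37 zgi37) (kgi xgi29 ygi43 zgi38) (kgi xgi20 ygi54 zgi32) (kgi xgi32 ygi17 zgi25) (kgi xgi24 ygi23 zgi25)) (@D3.rec (fun _ => Pt) (kgi xgi32 ygi1 zgi2) (kgi xgi29 ygi25 zgi42) (kgi xgi19 ygi52 zgi51) (kgi xgi22 ygi36 zgi53) (kgi xgi20 ygi37 zgi47) (kgi xgi20 ygi22 zgi4) (kgi xgi26 ygi27 zgi24) (kgi xgi23 ygi25 zgi29) (kgi xgi29 ygi4 zgi14) (kgi xgi23 ygi49 zgi44) (kgi xgi27 ygi43 zgi2) (kgi xgi22 ygi37 zgi43) (kgi xgi29 ygi38 zgi21) (kgi xgi19 ygi58 zgi9) (kgi xgi29 ygi12 zgi9) (kgi xgi25 ygi33 zgi13) (kgi xgi27 ygi17 zgi28) (kgi xgi31 ygi18 zgi48) (kgi xgi28 ygi53 zgi31) (kgi xgi27 ygi19 zgi36) (kgi xgi27 ygi19 zgi11) (kgi xgi31 ygi26 zgi2) (kgi xgi30 ygi15 zgi58) (kgi xgi19 ygi53 zgi30) (kgi xgi27 ygi7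 zgi2) (kgi xgi28 ygi16 zgi44) (kgi xgi27 ygi8 zgi8) (kgi xgi28 ygi58 zgi42) (kgi xgi26 ygi42 zgi6) (kgi xgi19 ygi53 zgi41) (kgi xgi31 ygi45 zgi58) (kgi xgi25 ygi5 zgi57) (kgi xgi25 ygi10 zgi25) (kgi xgi25 ygi10 zgi42) (kgi xgi29 ygi9 zgi37) (kgi xgi28 ygi43 zgi54) (kgi xgi25 ygi49 zgi49) (kgi xgi26 ygi9 zgi45) (kgi xgi24 ygi37 zgi57) (kgi xgi24 ygi38 zgi14) (kgi xgi19 ygi54 zgi3) (kgi xgi23 ygi33 zgi25) (kgi xgi24 ygi20 zgi4) (kgi xgi26 ygi10 zgi19) (kgi xgi30 ygi54 zgi57) (kgi xgi23 ygi19 zgi30) (kgi xgi19 ygi54 zgi11) (kgi xgi31 ygi6 zgi40) (kgi xgi29 ygi26 zgi45) (kgi xgi30 ygi51 zgi26) (kgi xgi21 ygi8 zgi59) (kgi xgi24 ygi43 zgi61) (kgi xgi24 ygi44 zgi0) (kgi xgi32 ygi8 zgi44) (kgi xgi22 ygi35 zgi45) (kgi xgi28 ygi28 zgi27) (kgi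 xgi19 ygi54 zgi30) (kgi xgi19 ygi54 zgi35) (kgi xgi26 ygi6 zgi61) (kgi xgi19 ygi54 zgi32) (kgi xgi19 ygi54 zgi31) (kgi xgi28 ygi13 zgi23)) (@D3.rec (fun _ => Pt) (kgi xgi32 ygi28 zgi17) (kgi xgi19 ygi58 zgi51) (kgi xgi31 ygi54 zgi42) (kgi xgi32 ygi4 zgi35) (kgi xgi31 ygi36 zgi34) (kgi xgi32 ygi4 zgi40) (kgi xgi19 ygi54 zgi34) (kgi xgi31 ygi8 zgi39) (kgi xgi24 ygi42 zgi36) (kgi xgi28 ygi40 zgi59) (kgi xgi31 ygi8 zgi46) (kgi xgi30 ygi42 zgi35) (kgi xgi31 ygi8 zgi26) (kgi xgi19 ygi54 zgi38) (kgi xgi32 ygi16 zgi11) (kgi xgi29 ygi10 zgi61) (kgi xgi32 ygi16 zgi10) (kgi xgi19 ygi54 zgi40) (kgi xgi31 ygi24 zgi46) (kgi xgi31 ygi3 zgi45) (kgi xgi28 ygi11 zgi53) (kgi xgi24 ygi20 zgi49) (kgi xgi28 ygi11 zgi42) (kgi xgi23 ygi27 zgi57) (kgi xgi29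 ygi55 zgi12) (kgi xgi19 ygi55 zgi17) (kgi xgi28 ygi40 zgi60) (kgi xgi26 ygi47 zgi61) (kgi xgi19 ygi54 zgi45) (kgi xgi32 ygi42 zgi61) (kgi xgi29 ygi58 zgi44) (kgi xgi23 ygi29 zgi35) (kgi xgi31 ygi30 zgi24) (kgi xgi23 ygi40 zgi32) (kgi xgi26 ygi37 zgi27) (kgi xgi31 ygi18 zgi33) (kgi xgi19 ygi54 zgi54) (kgi xgi32 ygi43 zgi1) (kgi xgi28 ygi54 zgi51) (kgi xgi32 ygi30 zgi40) (kgi xgi20 ygi56 zgi26) (kgi xgi20 ygi56 zgi33) (kgi xgi19 ygi54 zgi56) (kgi xgi30 ygi13 zgi48) (kgi xgi19 ygi55 zgi9) (kgi xgi31 ygi57 zgi25) (kgi xgi19 ygi55 zgi6) (kgi xgi32 ygi28 zgi12) (kgi xgi19 ygi55 zgi4) (kgi xgi31 ygi2 zgi44) (kgi xgi19 ygi55 zgi5) (kgi xgi30 ygi13 zgi19) (kgi xgi22 ygi31 zgi34) (kgi xgi31 ygi49 zgi41) (kgi xgi28 ygi11 zgi58) (kgi xgi29 ygi47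 zgi21) (kgi xgi32 ygi43 zgi9) (kgi xgi19 ygi55 zgi8) (kgi xgi32 ygi32 zgi30) (kgi xgi32 ygi32 zgi31) (kgi xgi32 ygi43 zgi5) (kgi xgi31 ygi2 zgi54)) (@D3.rec (fun _ => Pt) (kgi xgi31 ygi7 zgi56) (kgi xgi29 ygi10 zgi15) (kgi xgi19 ygi55 zgi12) (kgi xgi31 ygi8 zgi43) (kgi xgi31 ygi8 zgi44) (kgi xgi30 ygi0 zgi41) (kgi xgi26 ygi21 zgi58) (kgi xgi28 ygi11 zgi54) (kgi xgi30 ygi17 zgi5) (kgi xgi23 ygi29 zgi44) (kgi xgi19 ygi55 zgi22) (kgi xgi25 ygi29 zgi1) (kgi xgi24 ygi43 zgi32) (kgi xgi24 ygi49 zgi30) (kgi xgi21 ygi56 zgi39) (kgi xgi26 ygi10 zgi3) (kgi xgi24 ygi52 zgi40) (kgi xgi32 ygi40 zgi52) (kgi xgi19 ygi55 zgi32) (kgi xgi31 ygi51 zgi28) (kgi xgi31 ygi41 zgi14) (kgi xgi19 ygi55 zgi36) (kgi xgi30 ygi20 zgi8) (kgi xgi27 ygi18 zgi25) (kgi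 xgi21 ygi56 zgi41) (kgi xgi26 ygi6 zgi20) (kgi xgi32 ygi3 zgi15) (kgi xgi19 ygi55 zgi38) (kgi xgi32 ygi3 zgi14) (kgi xgi31 ygi49 zgi27) (kgi xgi30 ygi40 zgi35) (kgi xgi23 ygi41 zgi56) (kgi xgi19 ygi55 zgi42) (kgi xgi32 ygi16 zgi19) (kgi xgi32 ygi16 zgi13) (kgi xgi31 ygi37 zgi45) (kgi xgi19 ygi55 zgi45) (kgi xgi29 ygi10 zgi27) (kgi xgi31 ygi37 zgi0) (kgi xgi24 ygi31 zgi5) (kgi xgi31 ygi7 zgi58) (kgi xgi31 ygi29 zgi6) (kgi xgi31 ygi11 zgi44) (kgi xgi24 ygi30 zgi38) (kgi xgi27 ygi39 zgi6) (kgi xgi19 ygi55 zgi55) (kgi xgi19 ygi55 zgi56) (kgi xgi30 ygi52 zgi32) (kgi xgi30 ygi33 zgi19) (kgi xgi31 ygi0 zgi56) (kgi xgi31 ygi18 zgi34) (kgi xgi29 ygi49 zgi51) (kgi xgi31 ygi30 zgi17) (kgi xgi32 ygi41 zgi56) (kgi xgi32 ygi43 zgi16) (kgi xgi32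 ygi16 zgi18) (kgi xgi19 ygi55 zgi61) (kgi xgi31 ygi8 zgi51) (kgi xgi29 ygi11 zgi31) (kgi xgi32 ygi16 zgi15) (kgi xgi19 ygi56 zgi12) (kgi xgi31 ygi5 zgi53)) (@D3.rec (fun _ => Pt) (kgi xgi32 ygi39 zgi10) (kgi xgi19 ygi56 zgi4) (kgi xgi26 ygi42 zgi20) (kgi xgi23 ygi29 zgi19) (kgi xgi32 ygi4 zgi30) (kgi xgi32 ygi2 zgi28) (kgi xgi29 ygi49 zgi38) (kgi xgi29 ygi49 zgi37) (kgi xgi31 ygi5 zgi42) (kgi xgi25 ygi40 zgi21) (kgi xgi20 ygi20 zgi56) (kgi xgi23 ygi24 zgi52) (kgi xgi31 ygi6 zgi1) (kgi xgi26 ygi58 zgi18) (kgi xgi23 ygi31 zgi0) (kgi xgi32 ygi42 zgi54) (kgi xgi21 ygi56 zgi56) (kgi xgi23 ygi16 zgi53) (kgi xgi30 ygi33 zgi16) (kgi xgi19 ygi56 zgi31) (kgi xgi29 ygi12 zgi18) (kgi xgi31 ygi2 zgi25) (kgi xgi32 ygi5 zgi13) (kgi xgi19 ygi56 zgi33)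 (kgi xgi23 ygi31 zgi10) (kgi xgi31 ygi40 zgi35) (kgi xgi24 ygi35 zgi14) (kgi xgi26 ygi41 zgi15) (kgi xgi31 ygi58 zgi23) (kgi xgi23 ygi22 zgi42) (kgi xgi31 ygi10 zgi51) (kgi xgi20 ygi2 zgi22) (kgi xgi19 ygi56 zgi61) (kgi xgi19 ygi57 zgi2) (kgi xgi31 ygi46 zgi40) (kgi xgi27 ygi41 zgi48) (kgi xgi28 ygi15 zgi42) (kgi xgi21 ygi0 zgi3) (kgi xgi28 ygi42 zgi0) (kgi xgi28 ygi41 zgi59) (kgi xgi25 ygi50 zgi11) (kgi xgi28 ygi59 zgi38) (kgi xgi27 ygi24 zgi0) (kgi xgi30 ygi9 zgi16) (kgi xgi25 ygi14 zgi5) (kgi xgi31 ygi45 zgi59) (kgi xgi28 ygi51 zgi17) (kgi xgi31 ygi43 zgi42) (kgi xgi31 ygi46 zgi29) (kgi xgi25 ygi13 zgi32) (kgi xgi22 ygi8 zgi25) (kgi xgi19 ygi57 zgi23) (kgi xgi31 ygi46 zgi27) (kgi xgi31 ygi46 zgi26) (kgi xgi30 ygi51 zgi45) (kgi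 xgi24 ygi33 zgi16) (kgi xgi26 ygi10 zgi35) (kgi xgi25 ygi40 zgi31) (kgi xgi21 ygi38 zgi60) (kgi xgi28 ygi48 zgi47) (kgi xgi21 ygi33 zgi26) (kgi xgi31 ygi50 zgi22)) (@D3.rec (fun _ => Pt) (kgi xgi31 ygi46 zgi30) (kgi xgi19 ygi57 zgi51) (kgi xgi19 ygi58 zgi12) (kgi xgi28 ygi59 zgi51) (kgi xgi31 ygi48 zgi30) (kgi xgi29 ygi45 zgi7) (kgi xgi19 ygi57 zgi53) (kgi xgi19 ygi57 zgi60) (kgi xgi31 ygi50 zgi57) (kgi xgi20 ygi54 zgi22) (kgi xgi19 ygi57 zgi59) (kgi xgi20 ygi5 zgi11) (kgi xgi32 ygi43 zgi23) (kgi xgi32 ygi27 zgi22) (kgi xgi20 ygi54 zgi15) (kgi xgi19 ygi58 zgi5) (kgi xgi30 ygi14 zgi41) (kgi xgi30 ygi0 zgi15) (kgi xgi31 ygi39 zgi55) (kgi xgi30 ygi0 zgi14) (kgi xgi31 ygi51 zgi13) (kgi xgi29 ygi15 zgi23) (kgi xgi24 ygi33 zgi2) (kgi xgi31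 ygi18 zgi9) (kgi xgi24 ygi34 zgi0) (kgi xgi19 ygi58 zgi11) (kgi xgi32 ygi20 zgi11) (kgi xgi29 ygi38 zgi59) (kgi xgi19 ygi58 zgi13) (kgi xgi29 ygi35 zgi60) (kgi xgi19 ygi58 zgi16) (kgi xgi24 ygi4 zgi30) (kgi xgi28 ygi57 zgi23) (kgi xgi28 ygi51 zgi34) (kgi xgi31 ygi51 zgi16) (kgi xgi25 ygi52 zgi28) (kgi xgi25 ygi20 zgi21) (kgi xgi25 ygi20 zgi23) (kgi xgi19 ygi58 zgi37) (kgi xgi25 ygi45 zgi34) (kgi xgi19 ygi58 zgi35) (kgi xgi25 ygi20 zgi29) (kgi xgi19 ygi58 zgi40) (kgi xgi26 ygi59 zgi16) (kgi xgi28 ygi1 zgi33) (kgi xgi29 ygi1 zgi50) (kgi xgi32 ygi24 zgi38) (kgi xgi31 ygi49 zgi34) (kgi xgi28 ygi14 zgi6) (kgi xgi28 ygi51 zgi4) (kgi xgi32 ygi42 zgi56) (kgi xgi31 ygi36 zgi26) (kgi xgi24 ygi20 zgi11) (kgi xgi31 ygi56 zgi49) (kgi xgi28 ygi24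 zgi40) (kgi xgi23 ygi29 zgi15) (kgi xgi23 ygi29 zgi18) (kgi xgi19 ygi58 zgi58) (kgi xgi23 ygi29 zgi12) (kgi xgi31 ygi9 zgi14) (kgi xgi26 ygi4 zgi3) (kgi xgi19 ygi59 zgi2)) (@D3.rec (fun _ => Pt) (kgi xgi27 ygi0 zgi49) (kgi xgi31 ygi16 zgi61) (kgi xgi23 ygi40 zgi24) (kgi xgi24 ygi23 zgi20) (kgi xgi29 ygi5 zgi33) (kgi xgi19 ygi59 zgi12) (kgi xgi29 ygi49 zgi58) (kgi xgi32 ygi41 zgi12) (kgi xgi25 ygi40 zgi7) (kgi xgi19 ygi59 zgi18) (kgi xgi19 ygi59 zgi19) (kgi xgi29 ygi35 zgi35) (kgi xgi29 ygi27 zgi18) (kgi xgi20 ygi54 zgi14) (kgi xgi29 ygi27 zgi17) (kgi xgi31 ygi39 zgi38) (kgi xgi19 ygi59 zgi24) (kgi xgi26 ygi34 zgi20) (kgi xgi26 ygi34 zgi21) (kgi xgi31 ygi40 zgi34) (kgi xgi31 ygi52 zgi1) (kgi xgi20 ygi26 zgi45) (kgi xgi31 ygi57 zgi0)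 (kgi xgi32 ygi43 zgi35) (kgi xgi19 ygi59 zgi27) (kgi xgi31 ygi40 zgi46) (kgi xgi31 ygi28 zgi16) (kgi xgi25 ygi20 zgi42) (kgi xgi31 ygi21 zgi16) (kgi xgi19 ygi59 zgi40) (kgi xgi31 ygi44 zgi3) (kgi xgi26 ygi14 zgi47) (kgi xgi19 ygi59 zgi43) (kgi xgi23 ygi16 zgi31) (kgi xgi28 ygi28 zgi33) (kgi xgi31 ygi37 zgi11) (kgi xgi24 ygi12 zgi12) (kgi xgi19 ygi59 zgi52) (kgi xgi30 ygi26 zgi12) (kgi xgi20 ygi0 zgi5) (kgi xgi22 ygi34 zgi23) (kgi xgi29 ygi24 zgi14) (kgi xgi29 ygi11 zgi45) (kgi xgi20 ygi0 zgi45) (kgi xgi23 ygi32 zgi33) (kgi xgi23 ygi4 zgi14) (kgi xgi26 ygi55 zgi30) (kgi xgi23 ygi14 zgi23) (kgi xgi20 ygi0 zgi56) (kgi xgi21 ygi29 zgi29) (kgi xgi26 ygi27 zgi26) (kgi xgi29 ygi49 zgi24) (kgi xgi26 ygi58 zgi51) (kgi xgi30 ygi5 zgi35) (kgi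 xgi20 ygi1 zgi12) (kgi xgi20 ygi1 zgi17) (kgi xgi30 ygi53 zgi18) (kgi xgi27 ygi15 zgi18) (kgi xgi26 ygi26 zgi13) (kgi xgi21 ygi30 zgi14) (kgi xgi20 ygi1 zgi23) (kgi xgi23 ygi19 zgi20)) (@D3.rec (fun _ => Pt) (kgi xgi26 ygi50 zgi11) (kgi xgi28 ygi18 zgi5) (kgi xgi30 ygi50 zgi53) (kgi xgi29 ygi14 zgi11) (kgi xgi26 ygi54 zgi51) (kgi xgi20 ygi1 zgi42) (kgi xgi26 ygi54 zgi28) (kgi xgi26 ygi35 zgi46) (kgi xgi29 ygi43 zgi31) (kgi xgi20 ygi1 zgi44) (kgi xgi24 ygi32 zgi21) (kgi xgi31 ygi34 zgi22) (kgi xgi29 ygi27 zgi15) (kgi xgi28 ygi35 zgi2) (kgi xgi28 ygi45 zgi33) (kgi xgi28 ygi55 zgi11) (kgi xgi29 ygi14 zgi13) (kgi xgi32 ygi3 zgi24) (kgi xgi20 ygi42 zgi15) (kgi xgi26 ygi54 zgi34) (kgi xgi31 ygi21 zgi10) (kgi xgi26 ygi54 zgi24) (kgi xgi29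 ygi7 zgi19) (kgi xgi26 ygi54 zgi13) (kgi xgi29 ygi22 zgi29) (kgi xgi24 ygi3 zgi19) (kgi xgi26 ygi26 zgi59) (kgi xgi25 ygi28 zgi35) (kgi xgi20 ygi38 zgi11) (kgi xgi20 ygi29 zgi10) (kgi xgi24 ygi37 zgi33) (kgi xgi20 ygi2 zgi14) (kgi xgi20 ygi2 zgi18) (kgi xgi23 ygi41 zgi4) (kgi xgi20 ygi2 zgi15) (kgi xgi20 ygi4 zgi23) (kgi xgi32 ygi15 zgi19) (kgi xgi29 ygi59 zgi22) (kgi xgi29 ygi48 zgi30) (kgi xgi29 ygi49 zgi27) (kgi xgi20 ygi2 zgi17) (kgi xgi31 ygi3 zgi30) (kgi xgi23 ygi41 zgi10) (kgi xgi31 ygi53 zgi8) (kgi xgi31 ygi53 zgi6) (kgi xgi25 ygi8 zgi57) (kgi xgi25 ygi8 zgi44) (kgi xgi29 ygi5 zgi1) (kgi xgi29 ygi16 zgi23) (kgi xgi20 ygi2 zgi26) (kgi xgi28 ygi3 zgi20) (kgi xgi23 ygi39 zgi45) (kgi xgi27 ygi46 zgi7) (kgi xgi31 ygi47 zgi27) (kgi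 xgi32 ygi2 zgi36) (kgi xgi20 ygi2 zgi34) (kgi xgi27 ygi24 zgi20) (kgi xgi20 ygi2 zgi31) (kgi xgi29 ygi59 zgi14) (kgi xgi32 ygi0 zgi26) (kgi xgi31 ygi50 zgi21) (kgi xgi29 ygi49 zgi29)) (@D3.rec (fun _ => Pt) (kgi xgi32 ygi43 zgi50) (kgi xgi32 ygi24 zgi46) (kgi xgi20 ygi2 zgi33) (kgi xgi23 ygi54 zgi50) (kgi xgi23 ygi54 zgi51) (kgi xgi32 ygi36 zgi57) (kgi xgi26 ygi31 zgi25) (kgi xgi26 ygi30 zgi32) (kgi xgi25 ygi8 zgi30) (kgi xgi20 ygi2 zgi40) (kgi xgi26 ygi52 zgi38) (kgi xgi32 ygi30 zgi52) (kgi xgi31 ygi36 zgi1) (kgi xgi31 ygi50 zgi18) (kgi xgi25 ygi49 zgi27) (kgi xgi31 ygi49 zgi31) (kgi xgi27 ygi20 zgi48) (kgi xgi31 ygi49 zgi40) (kgi xgi30 ygi7 zgi51) (kgi xgi29 ygi49 zgi20) (kgi xgi31 ygi27 zgi47) (kgi xgi20 ygi2 zgi54) (kgi xgi28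 ygi3 zgi39) (kgi xgi29 ygi15 zgi46) (kgi xgi32 ygi43 zgi53) (kgi xgi31 ygi49 zgi53) (kgi xgi20 ygi2 zgi60) (kgi xgi20 ygi3 zgi2) (kgi xgi25 ygi7 zgi23) (kgi xgi20 ygi2 zgi61) (kgi xgi31 ygi49 zgi44) (kgi xgi29 ygi49 zgi23) (kgi xgi20 ygi3 zgi1) (kgi xgi23 ygi9 zgi20) (kgi xgi32 ygi27 zgi58) (kgi xgi25 ygi36 zgi58) (kgi xgi20 ygi3 zgi7) (kgi xgi29 ygi45 zgi13) (kgi xgi31 ygi55 zgi3) (kgi xgi23 ygi41 zgi25) (kgi xgi32 ygi38 zgi47) (kgi xgi20 ygi3 zgi14) (kgi xgi32 ygi43 zgi54) (kgi xgi32 ygi1 zgi12) (kgi xgi31 ygi47 zgi8) (kgi xgi29 ygi37 zgi22) (kgi xgi31 ygi35 zgi34) (kgi xgi20 ygi43 zgi38) (kgi xgi29 ygi22 zgi14) (kgi xgi29 ygi0 zgi52) (kgi xgi20 ygi3 zgi20) (kgi xgi20 ygi3 zgi21) (kgi xgi29 ygi49 zgi12) (kgi xgi20 ygi3 zgi27) (kgi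 xgi31 ygi49 zgi51) (kgi xgi20 ygi3 zgi51) (kgi xgi29 ygi41 zgi54) (kgi xgi20 ygi3 zgi56) (kgi xgi20 ygi3 zgi31) (kgi xgi20 ygi3 zgi36) (kgi xgi24 ygi22 zgi28) (kgi xgi31 ygi36 zgi11)) (@D3.rec (fun _ => Pt) (kgi xgi29 ygi41 zgi57) (kgi xgi29 ygi41 zgi55) (kgi xgi30 ygi4 zgi26) (kgi xgi24 ygi41 zgi55) (kgi xgi29 ygi58 zgi56) (kgi xgi21 ygi50 zgi55) (kgi xgi21 ygi23 zgi55) (kgi xgi29 ygi4 zgi59) (kgi xgi25 ygi9 zgi53) (kgi xgi24 ygi33 zgi43) (kgi xgi24 ygi32 zgi54) (kgi xgi31 ygi20 zgi57) (kgi xgi20 ygi3 zgi55) (kgi xgi31 ygi49 zgi55) (kgi xgi31 ygi20 zgi36) (kgi xgi21 ygi36 zgi56) (kgi xgi32 ygi4 zgi32) (kgi xgi32 ygi3 zgi12) (kgi xgi29 ygi3 zgi61) (kgi xgi25 ygi32 zgi15) (kgi xgi23 ygi46 zgi55) (kgi xgi25 ygi51 zgi13) (kgi xgi32 ygi0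 zgi42) (kgi xgi21 ygi23 zgi27) (kgi xgi23 ygi22 zgi12) (kgi xgi29 ygi59 zgi54) (kgi xgi26 ygi2 zgi9) (kgi xgi31 ygi45 zgi2) (kgi xgi27 ygi31 zgi33) (kgi xgi27 ygi28 zgi28) (kgi xgi32 ygi25 zgi22) (kgi xgi32 ygi43 zgi57) (kgi xgi28 ygi58 zgi7) (kgi xgi20 ygi4 zgi24) (kgi xgi31 ygi9 zgi22) (kgi xgi26 ygi21 zgi55) (kgi xgi25 ygi23 zgi35) (kgi xgi30 ygi3 zgi4) (kgi xgi26 ygi0 zgi41) (kgi xgi20 ygi4 zgi41) (kgi xgi29 ygi59 zgi12) (kgi xgi25 ygi58 zgi45) (kgi xgi32 ygi15 zgi55) (kgi xgi21 ygi48 zgi17) (kgi xgi20 ygi4 zgi43) (kgi xgi31 ygi35 zgi32) (kgi xgi27 ygi41 zgi14) (kgi xgi26 ygi25 zgi44) (kgi xgi29 ygi44 zgi35) (kgi xgi31 ygi48 zgi45) (kgi xgi25 ygi23 zgi9) (kgi xgi32 ygi16 zgi39) (kgi xgi30 ygi9 zgi13) (kgi xgi20 ygi5 zgi6) (kgi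 xgi29 ygi2 zgi20) (kgi xgi31 ygi39 zgi39) (kgi xgi32 ygi43 zgi59) (kgi xgi24 ygi50 zgi36) (kgi xgi31 ygi35 zgi20) (kgi xgi31 ygi29 zgi8) (kgi xgi25 ygi33 zgi30) (kgi xgi32 ygi15 zgi32)) (@D3.rec (fun _ => Pt) (kgi xgi25 ygi55 zgi31) (kgi xgi20 ygi5 zgi17) (kgi xgi31 ygi18 zgi12) (kgi xgi23 ygi59 zgi59) (kgi xgi24 ygi1 zgi27) (kgi xgi29 ygi0 zgi51) (kgi xgi28 ygi48 zgi31) (kgi xgi20 ygi29 zgi4) (kgi xgi20 ygi5 zgi32) (kgi xgi20 ygi12 zgi59) (kgi xgi20 ygi12 zgi57) (kgi xgi21 ygi7 zgi24) (kgi xgi20 ygi5 zgi36) (kgi xgi26 ygi39 zgi61) (kgi xgi29 ygi2 zgi35) (kgi xgi25 ygi52 zgi9) (kgi xgi20 ygi32 zgi19) (kgi xgi30 ygi39 zgi56) (kgi xgi28 ygi27 zgi6) (kgi xgi29 ygi14 zgi60) (kgi xgi29 ygi18 zgi49) (kgi xgi27 ygi2 zgi8) (kgi xgi21 ygi29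 zgi41) (kgi xgi31 ygi7 zgi15) (kgi xgi30 ygi1 zgi59) (kgi xgi20 ygi49 zgi9) (kgi xgi21 ygi4 zgi5) (kgi xgi20 ygi7 zgi4) (kgi xgi20 ygi7 zgi5) (kgi xgi32 ygi7 zgi29) (kgi xgi31 ygi42 zgi51) (kgi xgi29 ygi19 zgi46) (kgi xgi26 ygi17 zgi33) (kgi xgi32 ygi2 zgi20) (kgi xgi29 ygi20 zgi5) (kgi xgi26 ygi18 zgi58) (kgi xgi31 ygi42 zgi16) (kgi xgi20 ygi9 zgi15) (kgi xgi23 ygi4 zgi41) (kgi xgi20 ygi52 zgi48) (kgi xgi29 ygi19 zgi23) (kgi xgi24 ygi52 zgi61) (kgi xgi21 ygi38 zgi9) (kgi xgi26 ygi43 zgi56) (kgi xgi20 ygi30 zgi33) (kgi xgi28 ygi53 zgi53) (kgi xgi30 ygi21 zgi13) (kgi xgi24 ygi46 zgi24) (kgi xgi29 ygi18 zgi41) (kgi xgi29 ygi23 zgi55) (kgi xgi31 ygi56 zgi20) (kgi xgi20 ygi7 zgi53) (kgi xgi20 ygi7 zgi54) (kgi xgi20 ygi8 zgi59) (kgi xgi20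 ygi7 zgi56) (kgi xgi20 ygi9 zgi2) (kgi xgi20 ygi7 zgi59) (kgi xgi30 ygi53 zgi28) (kgi xgi20 ygi52 zgi50) (kgi xgi32 ygi34 zgi53) (kgi xgi20 ygi18 zgi14) (kgi xgi25 ygi18 zgi11)) (@D3.rec (fun _ => Pt) (kgi xgi27 ygi31 zgi15) (kgi xgi29 ygi39 zgi48) (kgi xgi23 ygi32 zgi34) (kgi xgi22 ygi59 zgi56) (kgi xgi24 ygi46 zgi25) (kgi xgi29 ygi42 zgi40) (kgi xgi23 ygi5 zgi11) (kgi xgi20 ygi32 zgi8) (kgi xgi29 ygi39 zgi19) (kgi xgi20 ygi8 zgi39) (kgi xgi21 ygi28 zgi57) (kgi xgi21 ygi29 zgi2) (kgi xgi26 ygi26 zgi42) (kgi xgi28 ygi27 zgi55) (kgi xgi20 ygi8 zgi45) (kgi xgi29 ygi24 zgi5) (kgi xgi29 ygi24 zgi4) (kgi xgi21 ygi11 zgi50) (kgi xgi29 ygi29 zgi1) (kgi xgi20 ygi30 zgi12) (kgi xgi20 ygi8 zgi54) (kgi xgi29 ygi55 zgi36) (kgi xgi29 ygi31 zgi56)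 (kgi xgi32 ygi7 zgi57) (kgi xgi29 ygi29 zgi2) (kgi xgi30 ygi48 zgi25) (kgi xgi29 ygi18 zgi40) (kgi xgi29 ygi29 zgi5) (kgi xgi24 ygi53 zgi11) (kgi xgi28 ygi35 zgi30) (kgi xgi28 ygi26 zgi18) (kgi xgi20 ygi29 zgi42) (kgi xgi28 ygi46 zgi7) (kgi xgi28 ygi38 zgi19) (kgi xgi28 ygi44 zgi47) (kgi xgi21 ygi16 zgi7) (kgi xgi29 ygi55 zgi4) (kgi xgi22 ygi35 zgi28) (kgi xgi24 ygi24 zgi48) (kgi xgi20 ygi20 zgi22) (kgi xgi29 ygi25 zgi22) (kgi xgi26 ygi52 zgi4) (kgi xgi20 ygi13 zgi14) (kgi xgi21 ygi18 zgi36) (kgi xgi20 ygi21 zgi55) (kgi xgi31 ygi42 zgi54) (kgi xgi20 ygi10 zgi2) (kgi xgi29 ygi18 zgi31) (kgi xgi28 ygi9 zgi34) (kgi xgi26 ygi31 zgi49) (kgi xgi28 ygi45 zgi34) (kgi xgi25 ygi57 zgi14) (kgi xgi32 ygi17 zgi20) (kgi xgi22 ygi33 zgi52) (kgi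 xgi23 ygi55 zgi5) (kgi xgi20 ygi10 zgi10) (kgi xgi22 ygi40 zgi34) (kgi xgi24 ygi8 zgi16) (kgi xgi25 ygi29 zgi34) (kgi xgi31 ygi43 zgi24) (kgi xgi32 ygi41 zgi42) (kgi xgi20 ygi10 zgi14)) (@D3.rec (fun _ => Pt) (kgi xgi22 ygi33 zgi56) (kgi xgi24 ygi7 zgi60) (kgi xgi30 ygi24 zgi25) (kgi xgi22 ygi42 zgi28) (kgi xgi27 ygi1 zgi0) (kgi xgi20 ygi10 zgi18) (kgi xgi29 ygi18 zgi34) (kgi xgi20 ygi10 zgi19) (kgi xgi28 ygi28 zgi49) (kgi xgi26 ygi17 zgi24) (kgi xgi26 ygi13 zgi19) (kgi xgi28 ygi28 zgi43) (kgi xgi26 ygi32 zgi38) (kgi xgi20 ygi19 zgi10) (kgi xgi22 ygi39 zgi19) (kgi xgi26 ygi56 zgi14) (kgi xgi24 ygi28 zgi43) (kgi xgi20 ygi12 zgi0) (kgi xgi20 ygi10 zgi30) (kgi xgi30 ygi39 zgi61) (kgi xgi20 ygi12 zgi19) (kgi xgi30 ygi3 zgi19) (kgi xgi21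 ygi53 zgi4) (kgi xgi24 ygi55 zgi13) (kgi xgi20 ygi19 zgi1) (kgi xgi27 ygi40 zgi3) (kgi xgi20 ygi10 zgi45) (kgi xgi20 ygi10 zgi44) (kgi xgi28 ygi46 zgi1) (kgi xgi28 ygi46 zgi58) (kgi xgi32 ygi27 zgi55) (kgi xgi32 ygi25 zgi35) (kgi xgi28 ygi5 zgi33) (kgi xgi20 ygi10 zgi50) (kgi xgi27 ygi55 zgi20) (kgi xgi31 ygi53 zgi59) (kgi xgi22 ygi34 zgi60) (kgi xgi22 ygi18 zgi14) (kgi xgi20 ygi10 zgi58) (kgi xgi31 ygi15 zgi26) (kgi xgi31 ygi25 zgi0) (kgi xgi20 ygi11 zgi0) (kgi xgi29 ygi24 zgi54) (kgi xgi29 ygi24 zgi52) (kgi xgi32 ygi29 zgi33) (kgi xgi31 ygi43 zgi36) (kgi xgi32 ygi0 zgi1) (kgi xgi31 ygi25 zgi26) (kgi xgi32 ygi6 zgi35) (kgi xgi20 ygi11 zgi9) (kgi xgi32 ygi6 zgi30) (kgi xgi31 ygi46 zgi19) (kgi xgi20 ygi11 zgi11) (kgi xgi31 ygi24 zgi59)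 (kgi xgi30 ygi43 zgi45) (kgi xgi31 ygi25 zgi14) (kgi xgi26 ygi30 zgi43) (kgi xgi31 ygi46 zgi34) (kgi xgi29 ygi54 zgi33) (kgi xgi31 ygi32 zgi39) (kgi xgi31 ygi43 zgi33) (kgi xgi20 ygi11 zgi14)) (@D3.rec (fun _ => Pt) (kgi xgi27 ygi49 zgi32) (kgi xgi28 ygi43 zgi22) (kgi xgi32 ygi9 zgi25) (kgi xgi30 ygi45 zgi22) (kgi xgi31 ygi39 zgi6) (kgi xgi23 ygi50 zgi1) (kgi xgi28 ygi8 zgi52) (kgi xgi26 ygi27 zgi22) (kgi xgi26 ygi50 zgi18) (kgi xgi27 ygi43 zgi16) (kgi xgi25 ygi51 zgi22) (kgi xgi28 ygi15 zgi7) (kgi xgi22 ygi3 zgi44) (kgi xgi28 ygi14 zgi13) (kgi xgi29 ygi25 zgi25) (kgi xgi32 ygi6 zgi14) (kgi xgi26 ygi56 zgi30) (kgi xgi24 ygi25 zgi22) (kgi xgi22 ygi33 zgi45) (kgi xgi20 ygi11 zgi31) (kgi xgi23 ygi4 zgi34) (kgi xgi32 ygi44 zgi7) (kgi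 xgi22 ygi27 zgi31) (kgi xgi32 ygi44 zgi2) (kgi xgi32 ygi17 zgi16) (kgi xgi26 ygi38 zgi6) (kgi xgi32 ygi16 zgi28) (kgi xgi27 ygi14 zgi42) (kgi xgi20 ygi11 zgi49) (kgi xgi29 ygi24 zgi25) (kgi xgi32 ygi44 zgi12) (kgi xgi26 ygi34 zgi37) (kgi xgi28 ygi14 zgi8) (kgi xgi20 ygi11 zgi58) (kgi xgi29 ygi28 zgi26) (kgi xgi28 ygi55 zgi40) (kgi xgi20 ygi11 zgi61) (kgi xgi31 ygi24 zgi58) (kgi xgi32 ygi15 zgi40) (kgi xgi26 ygi31 zgi48) (kgi xgi25 ygi19 zgi29) (kgi xgi20 ygi12 zgi7) (kgi xgi31 ygi21 zgi33) (kgi xgi26 ygi52 zgi6) (kgi xgi29 ygi55 zgi58) (kgi xgi29 ygi52 zgi23) (kgi xgi25 ygi42 zgi31) (kgi xgi29 ygi51 zgi49) (kgi xgi22 ygi2 zgi31) (kgi xgi20 ygi40 zgi10) (kgi xgi20 ygi14 zgi42) (kgi xgi28 ygi24 zgi37) (kgi xgi22 ygi3 zgi49) (kgi xgi27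 ygi11 zgi32) (kgi xgi20 ygi12 zgi61) (kgi xgi22 ygi10 zgi42) (kgi xgi25 ygi56 zgi17) (kgi xgi25 ygi54 zgi30) (kgi xgi27 ygi43 zgi8) (kgi xgi26 ygi2 zgi25) (kgi xgi29 ygi6 zgi15) (kgi xgi26 ygi22 zgi33)) (@D3.rec (fun _ => Pt) (kgi xgi31 ygi39 zgi2) (kgi xgi26 ygi8 zgi46) (kgi xgi20 ygi27 zgi54) (kgi xgi20 ygi13 zgi36) (kgi xgi31 ygi7 zgi6) (kgi xgi29 ygi10 zgi47) (kgi xgi20 ygi24 zgi23) (kgi xgi23 ygi35 zgi15) (kgi xgi22 ygi6 zgi18) (kgi xgi25 ygi25 zgi22) (kgi xgi25 ygi17 zgi35) (kgi xgi23 ygi32 zgi24) (kgi xgi20 ygi44 zgi56) (kgi xgi20 ygi17 zgi43) (kgi xgi21 ygi1 zgi48) (kgi xgi20 ygi14 zgi14) (kgi xgi32 ygi15 zgi46) (kgi xgi31 ygi33 zgi0) (kgi xgi21 ygi46 zgi7) (kgi xgi20 ygi14 zgi33) (kgi xgi20 ygi36 zgi17) (kgi xgi30 ygi38 zgi61)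 (kgi xgi20 ygi16 zgi32) (kgi xgi20 ygi16 zgi31) (kgi xgi21 ygi47 zgi10) (kgi xgi32 ygi3 zgi13) (kgi xgi26 ygi43 zgi54) (kgi xgi20 ygi44 zgi51) (kgi xgi25 ygi12 zgi12) (kgi xgi31 ygi36 zgi6) (kgi xgi21 ygi42 zgi37) (kgi xgi21 ygi33 zgi11) (kgi xgi20 ygi15 zgi2) (kgi xgi27 ygi36 zgi7) (kgi xgi21 ygi31 zgi35) (kgi xgi26 ygi4 zgi18) (kgi xgi29 ygi31 zgi4) (kgi xgi28 ygi16 zgi21) (kgi xgi21 ygi47 zgi7) (kgi xgi29 ygi49 zgi31) (kgi xgi21 ygi3 zgi36) (kgi xgi30 ygi12 zgi33) (kgi xgi21 ygi33 zgi32) (kgi xgi20 ygi15 zgi33) (kgi xgi22 ygi3 zgi17) (kgi xgi24 ygi18 zgi0) (kgi xgi26 ygi5 zgi57) (kgi xgi22 ygi56 zgi49) (kgi xgi20 ygi20 zgi33) (kgi xgi29 ygi3 zgi4) (kgi xgi29 ygi38 zgi39) (kgi xgi20 ygi40 zgi52) (kgi xgi26 ygi51 zgi10) (kgi xgi21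 ygi19 zgi38) (kgi xgi21 ygi52 zgi20) (kgi xgi21 ygi53 zgi60) (kgi xgi20 ygi20 zgi25) (kgi xgi30 ygi5 zgi10) (kgi xgi27 ygi41 zgi21) (kgi xgi25 ygi42 zgi37) (kgi xgi31 ygi50 zgi37) (kgi xgi24 ygi33 zgi51)) (@D3.rec (fun _ => Pt) (kgi xgi23 ygi42 zgi15) (kgi xgi29 ygi59 zgi46) (kgi xgi27 ygi27 zgi20) (kgi xgi25 ygi15 zgi8) (kgi xgi28 ygi41 zgi48) (kgi xgi20 ygi16 zgi50) (kgi xgi32 ygi16 zgi40) (kgi xgi27 ygi14 zgi5) (kgi xgi26 ygi9 zgi20) (kgi xgi30 ygi3 zgi58) (kgi xgi31 ygi28 zgi26) (kgi xgi30 ygi9 zgi8) (kgi xgi28 ygi41 zgi53) (kgi xgi25 ygi17 zgi13) (kgi xgi28 ygi46 zgi13) (kgi xgi22 ygi24 zgi22) (kgi xgi31 ygi4 zgi57) (kgi xgi30 ygi40 zgi54) (kgi xgi29 ygi31 zgi54) (kgi xgi21 ygi45 zgi2) (kgi xgi28 ygi20 zgi39) (kgi xgi23 ygi12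 zgi14) (kgi xgi20 ygi17 zgi17) (kgi xgi29 ygi30 zgi32) (kgi xgi27 ygi44 zgi21) (kgi xgi30 ygi56 zgi41) (kgi xgi20 ygi17 zgi39) (kgi xgi22 ygi2 zgi41) (kgi xgi27 ygi5 zgi51) (kgi xgi22 ygi10 zgi5) (kgi xgi22 ygi2 zgi21) (kgi xgi28 ygi59 zgi0) (kgi xgi25 ygi23 zgi28) (kgi xgi31 ygi52 zgi39) (kgi xgi31 ygi22 zgi12) (kgi xgi20 ygi17 zgi53) (kgi xgi20 ygi49 zgi41) (kgi xgi20 ygi49 zgi39) (kgi xgi31 ygi41 zgi2) (kgi xgi20 ygi17 zgi56) (kgi xgi20 ygi49 zgi32) (kgi xgi27 ygi14 zgi33) (kgi xgi21 ygi36 zgi51) (kgi xgi20 ygi18 zgi0) (kgi xgi20 ygi50 zgi1) (kgi xgi20 ygi49 zgi61) (kgi xgi29 ygi41 zgi17) (kgi xgi21 ygi50 zgi60) (kgi xgi25 ygi43 zgi53) (kgi xgi20 ygi18 zgi5) (kgi xgi20 ygi50 zgi15) (kgi xgi27 ygi42 zgi43) (kgi xgi20 ygi50 zgi30)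 (kgi xgi23 ygi4 zgi53) (kgi xgi25 ygi27 zgi17) (kgi xgi21 ygi15 zgi26) (kgi xgi20 ygi18 zgi12) (kgi xgi20 ygi18 zgi56) (kgi xgi28 ygi0 zgi41) (kgi xgi20 ygi18 zgi34) (kgi xgi20 ygi20 zgi29) (kgi xgi20 ygi18 zgi19)) (@D3.rec (fun _ => Pt) (kgi xgi24 ygi47 zgi33) (kgi xgi20 ygi18 zgi24) (kgi xgi27 ygi42 zgi59) (kgi xgi26 ygi55 zgi29) (kgi xgi20 ygi18 zgi26) (kgi xgi29 ygi19 zgi14) (kgi xgi29 ygi29 zgi0) (kgi xgi20 ygi18 zgi29) (kgi xgi24 ygi5 zgi32) (kgi xgi29 ygi7 zgi58) (kgi xgi29 ygi55 zgi40) (kgi xgi21 ygi11 zgi0) (kgi xgi29 ygi28 zgi61) (kgi xgi25 ygi18 zgi16) (kgi xgi29 ygi21 zgi60) (kgi xgi25 ygi18 zgi52) (kgi xgi27 ygi5 zgi4) (kgi xgi28 ygi26 zgi1) (kgi xgi24 ygi35 zgi57) (kgi xgi32 ygi15 zgi24) (kgi xgi20 ygi19 zgi2) (kgi xgi32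 ygi8 zgi27) (kgi xgi28 ygi8 zgi44) (kgi xgi20 ygi19 zgi4) (kgi xgi32 ygi10 zgi20) (kgi xgi29 ygi21 zgi28) (kgi xgi28 ygi9 zgi1) (kgi xgi26 ygi24 zgi10) (kgi xgi30 ygi8 zgi11) (kgi xgi23 ygi14 zgi48) (kgi xgi27 ygi8 zgi1) (kgi xgi24 ygi56 zgi56) (kgi xgi20 ygi19 zgi47) (kgi xgi27 ygi41 zgi22) (kgi xgi21 ygi14 zgi1) (kgi xgi20 ygi20 zgi5) (kgi xgi21 ygi16 zgi2) (kgi xgi28 ygi53 zgi43) (kgi xgi20 ygi20 zgi11) (kgi xgi26 ygi27 zgi28) (kgi xgi28 ygi33 zgi8) (kgi xgi27 ygi11 zgi56) (kgi xgi22 ygi39 zgi35) (kgi xgi21 ygi44 zgi13) (kgi xgi21 ygi35 zgi14) (kgi xgi29 ygi8 zgi12) (kgi xgi22 ygi26 zgi32) (kgi xgi20 ygi20 zgi28) (kgi xgi31 ygi50 zgi13) (kgi xgi31 ygi22 zgi14) (kgi xgi30 ygi54 zgi40) (kgi xgi27 ygi32 zgi4) (kgi xgi20 ygi20 zgi55)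 (kgi xgi29 ygi20 zgi43) (kgi xgi29 ygi20 zgi41) (kgi xgi21 ygi38 zgi8) (kgi xgi32 ygi7 zgi14) (kgi xgi29 ygi53 zgi5) (kgi xgi20 ygi21 zgi5) (kgi xgi28 ygi7 zgi38) (kgi xgi30 ygi44 zgi42) (kgi xgi29 ygi54 zgi23)) (@D3.rec (fun _ => Pt) (kgi xgi26 ygi28 zgi53) (kgi xgi26 ygi31 zgi28) (kgi xgi28 ygi8 zgi60) (kgi xgi27 ygi36 zgi42) (kgi xgi20 ygi21 zgi11) (kgi xgi22 ygi51 zgi53) (kgi xgi20 ygi21 zgi20) (kgi xgi22 ygi49 zgi50) (kgi xgi29 ygi27 zgi9) (kgi xgi27 ygi34 zgi48) (kgi xgi20 ygi21 zgi24) (kgi xgi32 ygi6 zgi23) (kgi xgi32 ygi29 zgi38) (kgi xgi20 ygi21 zgi26) (kgi xgi20 ygi21 zgi27) (kgi xgi21 ygi12 zgi45) (kgi xgi29 ygi54 zgi9) (kgi xgi29 ygi53 zgi45) (kgi xgi22 ygi18 zgi13) (kgi xgi27 ygi50 zgi15) (kgi xgi22 ygi17 zgi17) (kgi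 xgi30 ygi49 zgi30) (kgi xgi29 ygi24 zgi46) (kgi xgi24 ygi10 zgi13) (kgi xgi29 ygi19 zgi51) (kgi xgi25 ygi56 zgi5) (kgi xgi28 ygi20 zgi20) (kgi xgi28 ygi23 zgi9) (kgi xgi28 ygi23 zgi30) (kgi xgi20 ygi44 zgi7) (kgi xgi29 ygi18 zgi27) (kgi xgi20 ygi47 zgi41) (kgi xgi26 ygi3 zgi50) (kgi xgi26 ygi45 zgi33) (kgi xgi32 ygi1 zgi54) (kgi xgi20 ygi22 zgi34) (kgi xgi20 ygi22 zgi35) (kgi xgi29 ygi42 zgi33) (kgi xgi21 ygi36 zgi41) (kgi xgi20 ygi38 zgi8) (kgi xgi20 ygi24 zgi36) (kgi xgi20 ygi23 zgi4) (kgi xgi27 ygi12 zgi2) (kgi xgi31 ygi22 zgi32) (kgi xgi23 ygi11 zgi7) (kgi xgi20 ygi23 zgi5) (kgi xgi20 ygi24 zgi35) (kgi xgi28 ygi47 zgi32) (kgi xgi30 ygi55 zgi53) (kgi xgi24 ygi20 zgi21) (kgi xgi21 ygi20 zgi45) (kgi xgi29 ygi26 zgi33) (kgi xgi24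 ygi22 zgi45) (kgi xgi24 ygi12 zgi2) (kgi xgi30 ygi24 zgi44) (kgi xgi26 ygi39 zgi4) (kgi xgi20 ygi23 zgi24) (kgi xgi26 ygi39 zgi38) (kgi xgi20 ygi38 zgi39) (kgi xgi31 ygi29 zgi17) (kgi xgi20 ygi24 zgi47) (kgi xgi29 ygi48 zgi50)) (@D3.rec (fun _ => Pt) (kgi xgi25 ygi41 zgi25) (kgi xgi23 ygi53 zgi54) (kgi xgi21 ygi4 zgi1) (kgi xgi22 ygi6 zgi40) (kgi xgi31 ygi53 zgi28) (kgi xgi26 ygi43 zgi16) (kgi xgi20 ygi23 zgi50) (kgi xgi20 ygi48 zgi42) (kgi xgi32 ygi44 zgi32) (kgi xgi20 ygi24 zgi6) (kgi xgi32 ygi33 zgi27) (kgi xgi20 ygi24 zgi19) (kgi xgi24 ygi22 zgi51) (kgi xgi20 ygi23 zgi46) (kgi xgi31 ygi19 zgi3) (kgi xgi32 ygi13 zgi32) (kgi xgi29 ygi45 zgi6) (kgi xgi22 ygi33 zgi34) (kgi xgi28 ygi54 zgi43) (kgi xgi24 ygi2 zgi43) (kgi xgi30 ygi29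 zgi51) (kgi xgi20 ygi23 zgi51) (kgi xgi32 ygi38 zgi27) (kgi xgi20 ygi38 zgi47) (kgi xgi29 ygi47 zgi13) (kgi xgi24 ygi27 zgi35) (kgi xgi29 ygi47 zgi14) (kgi xgi20 ygi23 zgi58) (kgi xgi32 ygi44 zgi36) (kgi xgi31 ygi48 zgi56) (kgi xgi31 ygi27 zgi10) (kgi xgi20 ygi23 zgi59) (kgi xgi20 ygi24 zgi44) (kgi xgi27 ygi11 zgi10) (kgi xgi29 ygi25 zgi51) (kgi xgi31 ygi30 zgi43) (kgi xgi31 ygi42 zgi28) (kgi xgi27 ygi41 zgi23) (kgi xgi31 ygi2 zgi52) (kgi xgi20 ygi24 zgi16) (kgi xgi27 ygi11 zgi52) (kgi xgi29 ygi47 zgi16) (kgi xgi26 ygi27 zgi60) (kgi xgi20 ygi24 zgi34) (kgi xgi21 ygi56 zgi59) (kgi xgi27 ygi42 zgi50) (kgi xgi23 ygi59 zgi9) (kgi xgi27 ygi41 zgi28) (kgi xgi27 ygi41 zgi24) (kgi xgi20 ygi24 zgi55) (kgi xgi31 ygi58 zgi40) (kgi xgi31 ygi5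 zgi33) (kgi xgi30 ygi2 zgi46) (kgi xgi21 ygi34 zgi24) (kgi xgi21 ygi29 zgi36) (kgi xgi27 ygi56 zgi28) (kgi xgi24 ygi39 zgi12) (kgi xgi23 ygi12 zgi55) (kgi xgi22 ygi3 zgi7) (kgi xgi30 ygi27 zgi52) (kgi xgi29 ygi8 zgi11) (kgi xgi24 ygi15 zgi48)) (@D3.rec (fun _ => Pt) (kgi xgi23 ygi48 zgi31) (kgi xgi28 ygi37 zgi41) (kgi xgi29 ygi38 zgi37) (kgi xgi27 ygi8 zgi47) (kgi xgi20 ygi25 zgi20) (kgi xgi24 ygi6 zgi6) (kgi xgi20 ygi25 zgi33) (kgi xgi29 ygi42 zgi36) (kgi xgi29 ygi18 zgi38) (kgi xgi30 ygi45 zgi55) (kgi xgi24 ygi58 zgi60) (kgi xgi28 ygi58 zgi61) (kgi xgi26 ygi21 zgi28) (kgi xgi27 ygi57 zgi16) (kgi xgi20 ygi26 zgi29) (kgi xgi26 ygi1 zgi61) (kgi xgi32 ygi44 zgi42) (kgi xgi31 ygi22 zgi0) (kgi xgi32 ygi18 zgi3) (kgi xgi32 ygi3 zgi25)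 (kgi xgi20 ygi26 zgi38) (kgi xgi31 ygi51 zgi55) (kgi xgi31 ygi50 zgi15) (kgi xgi32 ygi41 zgi35) (kgi xgi30 ygi27 zgi13) (kgi xgi26 ygi54 zgi32) (kgi xgi29 ygi15 zgi21) (kgi xgi20 ygi26 zgi42) (kgi xgi29 ygi41 zgi38) (kgi xgi31 ygi40 zgi32) (kgi xgi31 ygi17 zgi13) (kgi xgi32 ygi44 zgi48) (kgi xgi31 ygi51 zgi58) (kgi xgi31 ygi51 zgi57) (kgi xgi31 ygi56 zgi2) (kgi xgi30 ygi55 zgi49) (kgi xgi28 ygi57 zgi33) (kgi xgi31 ygi28 zgi51) (kgi xgi27 ygi40 zgi27) (kgi xgi27 ygi59 zgi39) (kgi xgi26 ygi31 zgi53) (kgi xgi32 ygi35 zgi48) (kgi xgi31 ygi53 zgi21) (kgi xgi32 ygi25 zgi32) (kgi xgi20 ygi27 zgi39) (kgi xgi28 ygi25 zgi13) (kgi xgi29 ygi51 zgi48) (kgi xgi20 ygi50 zgi57) (kgi xgi20 ygi28 zgi13) (kgi xgi29 ygi42 zgi58) (kgi xgi29 ygi40 zgi13)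 (kgi xgi23 ygi11 zgi15) (kgi xgi20 ygi39 zgi6) (kgi xgi20 ygi39 zgi8) (kgi xgi26 ygi35 zgi15) (kgi xgi29 ygi7 zgi48) (kgi xgi30 ygi12 zgi36) (kgi xgi23 ygi53 zgi20) (kgi xgi23 ygi59 zgi35) (kgi xgi20 ygi28 zgi38) (kgi xgi28 ygi47 zgi48) (kgi xgi32 ygi44 zgi52)) (@D3.rec (fun _ => Pt) (kgi xgi23 ygi2 zgi17) (kgi xgi20 ygi28 zgi44) (kgi xgi28 ygi42 zgi6) (kgi xgi30 ygi43 zgi42) (kgi xgi24 ygi5 zgi18) (kgi xgi21 ygi14 zgi3) (kgi xgi31 ygi23 zgi12) (kgi xgi29 ygi41 zgi40) (kgi xgi26 ygi0 zgi3) (kgi xgi31 ygi35 zgi24) (kgi xgi27 ygi10 zgi46) (kgi xgi25 ygi38 zgi17) (kgi xgi27 ygi13 zgi7) (kgi xgi25 ygi35 zgi26) (kgi xgi25 ygi27 zgi57) (kgi xgi20 ygi29 zgi14) (kgi xgi22 ygi52 zgi53) (kgi xgi31 ygi20 zgi56) (kgi xgi28 ygi38 zgi16) (kgi xgi31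 ygi34 zgi47) (kgi xgi26 ygi56 zgi29) (kgi xgi32 ygi44 zgi54) (kgi xgi23 ygi57 zgi37) (kgi xgi20 ygi29 zgi27) (kgi xgi28 ygi26 zgi39) (kgi xgi30 ygi54 zgi26) (kgi xgi26 ygi58 zgi11) (kgi xgi30 ygi2 zgi35) (kgi xgi30 ygi33 zgi47) (kgi xgi22 ygi52 zgi28) (kgi xgi31 ygi44 zgi8) (kgi xgi31 ygi44 zgi7) (kgi xgi20 ygi29 zgi38) (kgi xgi25 ygi46 zgi45) (kgi xgi27 ygi12 zgi36) (kgi xgi20 ygi29 zgi45) (kgi xgi29 ygi41 zgi61) (kgi xgi30 ygi54 zgi43) (kgi xgi27 ygi13 zgi14) (kgi xgi28 ygi32 zgi9) (kgi xgi30 ygi48 zgi19) (kgi xgi29 ygi49 zgi17) (kgi xgi23 ygi0 zgi2) (kgi xgi32 ygi1 zgi45) (kgi xgi26 ygi31 zgi31) (kgi xgi26 ygi30 zgi31) (kgi xgi29 ygi12 zgi6) (kgi xgi28 ygi54 zgi25) (kgi xgi25 ygi31 zgi2) (kgi xgi27 ygi5 zgi31) (kgi xgi22 ygi48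 zgi9) (kgi xgi20 ygi48 zgi20) (kgi xgi28 ygi17 zgi55) (kgi xgi29 ygi51 zgi45) (kgi xgi32 ygi9 zgi28) (kgi xgi26 ygi50 zgi15) (kgi xgi20 ygi30 zgi9) (kgi xgi30 ygi38 zgi8) (kgi xgi27 ygi8 zgi17) (kgi xgi32 ygi42 zgi47) (kgi xgi29 ygi24 zgi6) (kgi xgi28 ygi27 zgi50)) (@D3.rec (fun _ => Pt) (kgi xgi32 ygi7 zgi1) (kgi xgi26 ygi48 zgi43) (kgi xgi22 ygi56 zgi1) (kgi xgi20 ygi30 zgi20) (kgi xgi31 ygi50 zgi25) (kgi xgi31 ygi50 zgi24) (kgi xgi26 ygi49 zgi57) (kgi xgi20 ygi30 zgi24) (kgi xgi32 ygi21 zgi43) (kgi xgi28 ygi53 zgi28) (kgi xgi24 ygi3 zgi48) (kgi xgi28 ygi15 zgi25) (kgi xgi21 ygi28 zgi36) (kgi xgi23 ygi15 zgi20) (kgi xgi31 ygi44 zgi52) (kgi xgi28 ygi15 zgi2) (kgi xgi20 ygi30 zgi56) (kgi xgi20 ygi30 zgi59) (kgi xgi20 ygi31 zgi1) (kgi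 xgi24 ygi59 zgi40) (kgi xgi20 ygi31 zgi2) (kgi xgi24 ygi10 zgi58) (kgi xgi30 ygi33 zgi49) (kgi xgi20 ygi31 zgi7) (kgi xgi32 ygi15 zgi16) (kgi xgi29 ygi23 zgi22) (kgi xgi21 ygi53 zgi21) (kgi xgi24 ygi9 zgi9) (kgi xgi32 ygi44 zgi61) (kgi xgi26 ygi32 zgi31) (kgi xgi29 ygi29 zgi56) (kgi xgi30 ygi32 zgi18) (kgi xgi31 ygi13 zgi33) (kgi xgi32 ygi18 zgi13) (kgi xgi30 ygi45 zgi38) (kgi xgi20 ygi31 zgi26) (kgi xgi26 ygi31 zgi11) (kgi xgi26 ygi31 zgi9) (kgi xgi29 ygi19 zgi24) (kgi xgi23 ygi8 zgi54) (kgi xgi21 ygi44 zgi1) (kgi xgi32 ygi16 zgi42) (kgi xgi20 ygi31 zgi41) (kgi xgi23 ygi4 zgi9) (kgi xgi27 ygi5 zgi34) (kgi xgi23 ygi20 zgi42) (kgi xgi20 ygi31 zgi44) (kgi xgi30 ygi58 zgi25) (kgi xgi28 ygi13 zgi6) (kgi xgi27 ygi21 zgi59) (kgi xgi28 ygi48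 zgi49) (kgi xgi20 ygi31 zgi54) (kgi xgi32 ygi4 zgi16) (kgi xgi28 ygi27 zgi12) (kgi xgi27 ygi5 zgi21) (kgi xgi32 ygi24 zgi51) (kgi xgi29 ygi29 zgi28) (kgi xgi22 ygi34 zgi26) (kgi xgi29 ygi49 zgi59) (kgi xgi28 ygi27 zgi1) (kgi xgi23 ygi33 zgi41) (kgi xgi21 ygi15 zgi36)) (@D3.rec (fun _ => Pt) (kgi xgi22 ygi30 zgi8) (kgi xgi23 ygi13 zgi53) (kgi xgi25 ygi16 zgi1) (kgi xgi25 ygi16 zgi0) (kgi xgi30 ygi39 zgi57) (kgi xgi22 ygi57 zgi34) (kgi xgi25 ygi46 zgi38) (kgi xgi23 ygi31 zgi56) (kgi xgi23 ygi15 zgi49) (kgi xgi23 ygi15 zgi41) (kgi xgi20 ygi33 zgi7) (kgi xgi27 ygi3 zgi36) (kgi xgi23 ygi52 zgi24) (kgi xgi23 ygi21 zgi29) (kgi xgi21 ygi2 zgi37) (kgi xgi29 ygi29 zgi46) (kgi xgi23 ygi12 zgi20) (kgi xgi30 ygi46 zgi35) (kgi xgi23 ygi53 zgi12)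 (kgi xgi20 ygi33 zgi19) (kgi xgi27 ygi13 zgi6) (kgi xgi27 ygi8 zgi25) (kgi xgi22 ygi25 zgi56) (kgi xgi31 ygi22 zgi11) (kgi xgi25 ygi1 zgi51) (kgi xgi30 ygi12 zgi58) (kgi xgi30 ygi50 zgi39) (kgi xgi25 ygi59 zgi42) (kgi xgi30 ygi53 zgi50) (kgi xgi28 ygi55 zgi1) (kgi xgi23 ygi11 zgi54) (kgi xgi29 ygi25 zgi43) (kgi xgi27 ygi3 zgi19) (kgi xgi20 ygi33 zgi47) (kgi xgi31 ygi22 zgi29) (kgi xgi26 ygi56 zgi31) (kgi xgi24 ygi2 zgi49) (kgi xgi27 ygi6 zgi24) (kgi xgi29 ygi42 zgi4) (kgi xgi20 ygi33 zgi55) (kgi xgi30 ygi14 zgi45) (kgi xgi24 ygi1 zgi56) (kgi xgi27 ygi1 zgi59) (kgi xgi23 ygi54 zgi45) (kgi xgi32 ygi34 zgi31) (kgi xgi32 ygi1 zgi13) (kgi xgi20 ygi33 zgi59) (kgi xgi23 ygi9 zgi24) (kgi xgi30 ygi47 zgi23) (kgi xgi20 ygi34 zgi0) (kgi xgi26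 ygi28 zgi37) (kgi xgi26 ygi46 zgi52) (kgi xgi31 ygi13 zgi21) (kgi xgi29 ygi43 zgi11) (kgi xgi27 ygi16 zgi36) (kgi xgi32 ygi15 zgi41) (kgi xgi20 ygi34 zgi30) (kgi xgi21 ygi44 zgi9) (kgi xgi29 ygi21 zgi7) (kgi xgi26 ygi48 zgi50) (kgi xgi20 ygi34 zgi44) (kgi xgi29 ygi9 zgi6)) (@D3.rec (fun _ => Pt) (kgi xgi26 ygi26 zgi37) (kgi xgi20 ygi34 zgi51) (kgi xgi27 ygi22 zgi6) (kgi xgi21 ygi28 zgi1) (kgi xgi25 ygi54 zgi55) (kgi xgi32 ygi13 zgi27) (kgi xgi32 ygi45 zgi3) (kgi xgi32 ygi2 zgi6) (kgi xgi25 ygi23 zgi29) (kgi xgi26 ygi27 zgi41) (kgi xgi29 ygi32 zgi5) (kgi xgi24 ygi8 zgi39) (kgi xgi20 ygi37 zgi5) (kgi xgi29 ygi32 zgi7) (kgi xgi31 ygi25 zgi22) (kgi xgi22 ygi1 zgi42) (kgi xgi26 ygi17 zgi41) (kgi xgi25 ygi32 zgi31) (kgi xgi29 ygi42 zgi14)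 (kgi xgi31 ygi28 zgi46) (kgi xgi26 ygi46 zgi23) (kgi xgi31 ygi26 zgi25) (kgi xgi28 ygi34 zgi24) (kgi xgi29 ygi33 zgi17) (kgi xgi22 ygi1 zgi5) (kgi xgi20 ygi35 zgi34) (kgi xgi20 ygi39 zgi31) (kgi xgi32 ygi45 zgi6) (kgi xgi20 ygi56 zgi40) (kgi xgi32 ygi13 zgi59) (kgi xgi29 ygi43 zgi9) (kgi xgi27 ygi0 zgi13) (kgi xgi31 ygi21 zgi47) (kgi xgi29 ygi46 zgi19) (kgi xgi32 ygi41 zgi49) (kgi xgi28 ygi40 zgi11) (kgi xgi32 ygi45 zgi9) (kgi xgi20 ygi35 zgi44) (kgi xgi20 ygi39 zgi40) (kgi xgi24 ygi31 zgi2) (kgi xgi27 ygi36 zgi10) (kgi xgi30 ygi45 zgi28) (kgi xgi20 ygi52 zgi25) (kgi xgi20 ygi52 zgi28) (kgi xgi28 ygi24 zgi27) (kgi xgi28 ygi13 zgi10) (kgi xgi25 ygi45 zgi47) (kgi xgi32 ygi10 zgi29) (kgi xgi26 ygi21 zgi56) (kgi xgi21 ygi44 zgi30) (kgi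 xgi20 ygi36 zgi18) (kgi xgi25 ygi17 zgi2) (kgi xgi20 ygi36 zgi20) (kgi xgi29 ygi22 zgi36) (kgi xgi21 ygi42 zgi38) (kgi xgi22 ygi22 zgi38) (kgi xgi32 ygi22 zgi45) (kgi xgi20 ygi36 zgi28) (kgi xgi20 ygi36 zgi31) (kgi xgi28 ygi12 zgi55) (kgi xgi27 ygi50 zgi12) (kgi xgi20 ygi36 zgi39)) (@D3.rec (fun _ => Pt) (kgi xgi32 ygi1 zgi11) (kgi xgi32 ygi18 zgi44) (kgi xgi32 ygi1 zgi29) (kgi xgi28 ygi25 zgi16) (kgi xgi20 ygi36 zgi47) (kgi xgi29 ygi31 zgi13) (kgi xgi29 ygi1 zgi33) (kgi xgi29 ygi31 zgi10) (kgi xgi24 ygi8 zgi14) (kgi xgi20 ygi36 zgi50) (kgi xgi24 ygi8 zgi24) (kgi xgi24 ygi8 zgi32) (kgi xgi22 ygi56 zgi20) (kgi xgi20 ygi36 zgi51) (kgi xgi20 ygi36 zgi57) (kgi xgi31 ygi14 zgi4) (kgi xgi20 ygi36 zgi52) (kgi xgi30 ygi55 zgi41) (kgi xgi32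 ygi39 zgi9) (kgi xgi24 ygi8 zgi15) (kgi xgi30 ygi53 zgi42) (kgi xgi24 ygi9 zgi32) (kgi xgi31 ygi19 zgi35) (kgi xgi22 ygi55 zgi9) (kgi xgi24 ygi6 zgi43) (kgi xgi30 ygi12 zgi2) (kgi xgi24 ygi8 zgi38) (kgi xgi32 ygi22 zgi46) (kgi xgi20 ygi37 zgi15) (kgi xgi20 ygi37 zgi18) (kgi xgi20 ygi37 zgi17) (kgi xgi31 ygi33 zgi30) (kgi xgi20 ygi48 zgi57) (kgi xgi29 ygi39 zgi46) (kgi xgi24 ygi17 zgi4) (kgi xgi20 ygi37 zgi24) (kgi xgi29 ygi43 zgi22) (kgi xgi29 ygi53 zgi16) (kgi xgi30 ygi32 zgi34) (kgi xgi20 ygi37 zgi30) (kgi xgi25 ygi34 zgi5) (kgi xgi29 ygi42 zgi29) (kgi xgi24 ygi19 zgi15) (kgi xgi30 ygi52 zgi52) (kgi xgi24 ygi19 zgi13) (kgi xgi32 ygi45 zgi19) (kgi xgi29 ygi42 zgi25) (kgi xgi32 ygi45 zgi21) (kgi xgi27 ygi4 zgi32) (kgi xgi27 ygi51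 zgi12) (kgi xgi27 ygi20 zgi26) (kgi xgi32 ygi31 zgi8) (kgi xgi29 ygi51 zgi55) (kgi xgi27 ygi51 zgi15) (kgi xgi23 ygi50 zgi53) (kgi xgi28 ygi39 zgi20) (kgi xgi26 ygi37 zgi35) (kgi xgi26 ygi38 zgi19) (kgi xgi26 ygi38 zgi58) (kgi xgi20 ygi38 zgi23) (kgi xgi20 ygi38 zgi32) (kgi xgi24 ygi57 zgi31)) (@D3.rec (fun _ => Pt) (kgi xgi21 ygi47 zgi13) (kgi xgi20 ygi38 zgi31) (kgi xgi24 ygi12 zgi7) (kgi xgi29 ygi44 zgi60) (kgi xgi32 ygi38 zgi26) (kgi xgi20 ygi39 zgi47) (kgi xgi22 ygi3 zgi53) (kgi xgi32 ygi13 zgi7) (kgi xgi29 ygi45 zgi5) (kgi xgi32 ygi15 zgi49) (kgi xgi20 ygi38 zgi46) (kgi xgi32 ygi37 zgi50) (kgi xgi20 ygi38 zgi51) (kgi xgi28 ygi55 zgi45) (kgi xgi24 ygi31 zgi58) (kgi xgi22 ygi2 zgi26) (kgi xgi29 ygi31 zgi23) (kgi xgi29 ygi33 zgi48)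 (kgi xgi32 ygi12 zgi16) (kgi xgi22 ygi1 zgi6) (kgi xgi20 ygi38 zgi57) (kgi xgi28 ygi35 zgi17) (kgi xgi32 ygi45 zgi32) (kgi xgi27 ygi16 zgi10) (kgi xgi20 ygi56 zgi54) (kgi xgi20 ygi38 zgi59) (kgi xgi32 ygi17 zgi9) (kgi xgi32 ygi11 zgi30) (kgi xgi32 ygi17 zgi7) (kgi xgi29 ygi45 zgi57) (kgi xgi27 ygi16 zgi21) (kgi xgi28 ygi54 zgi58) (kgi xgi20 ygi39 zgi0) (kgi xgi21 ygi1 zgi26) (kgi xgi22 ygi25 zgi40) (kgi xgi32 ygi17 zgi3) (kgi xgi20 ygi55 zgi29) (kgi xgi28 ygi54 zgi23) (kgi xgi26 ygi41 zgi23) (kgi xgi31 ygi20 zgi59) (kgi xgi27 ygi0 zgi31) (kgi xgi32 ygi13 zgi10) (kgi xgi30 ygi29 zgi19) (kgi xgi26 ygi35 zgi31) (kgi xgi31 ygi19 zgi18) (kgi xgi32 ygi14 zgi34) (kgi xgi27 ygi16 zgi23) (kgi xgi32 ygi45 zgi41) (kgi xgi29 ygi33 zgi16) (kgi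 xgi20 ygi39 zgi18) (kgi xgi32 ygi37 zgi31) (kgi xgi32 ygi12 zgi10) (kgi xgi32 ygi14 zgi35) (kgi xgi32 ygi21 zgi42) (kgi xgi31 ygi34 zgi30) (kgi xgi20 ygi39 zgi22) (kgi xgi31 ygi34 zgi61) (kgi xgi32 ygi45 zgi26) (kgi xgi29 ygi46 zgi21) (kgi xgi32 ygi12 zgi37) (kgi xgi32 ygi20 zgi57) (kgi xgi31 ygi33 zgi17)) (@D3.rec (fun _ => Pt) (kgi xgi28 ygi58 zgi31) (kgi xgi20 ygi39 zgi36) (kgi xgi28 ygi54 zgi45) (kgi xgi26 ygi41 zgi13) (kgi xgi32 ygi45 zgi5) (kgi xgi20 ygi39 zgi32) (kgi xgi29 ygi47 zgi33) (kgi xgi22 ygi27 zgi27) (kgi xgi20 ygi39 zgi33) (kgi xgi32 ygi14 zgi12) (kgi xgi27 ygi14 zgi48) (kgi xgi24 ygi32 zgi4) (kgi xgi26 ygi36 zgi12) (kgi xgi32 ygi10 zgi51) (kgi xgi28 ygi54 zgi42) (kgi xgi29 ygi46 zgi32) (kgi xgi28 ygi35 zgi10) (kgi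 xgi26 ygi56 zgi50) (kgi xgi32 ygi44 zgi33) (kgi xgi20 ygi39 zgi37) (kgi xgi32 ygi45 zgi10) (kgi xgi30 ygi28 zgi19) (kgi xgi22 ygi25 zgi19) (kgi xgi28 ygi51 zgi6) (kgi xgi27 ygi15 zgi61) (kgi xgi24 ygi25 zgi44) (kgi xgi20 ygi39 zgi39) (kgi xgi28 ygi30 zgi0) (kgi xgi26 ygi57 zgi17) (kgi xgi29 ygi47 zgi26) (kgi xgi32 ygi37 zgi36) (kgi xgi32 ygi11 zgi20) (kgi xgi29 ygi43 zgi10) (kgi xgi29 ygi47 zgi15) (kgi xgi22 ygi4 zgi18) (kgi xgi26 ygi37 zgi52) (kgi xgi24 ygi36 zgi56) (kgi xgi20 ygi43 zgi28) (kgi xgi22 ygi13 zgi38) (kgi xgi20 ygi39 zgi54) (kgi xgi31 ygi43 zgi18) (kgi xgi20 ygi43 zgi16) (kgi xgi27 ygi15 zgi21) (kgi xgi29 ygi38 zgi29) (kgi xgi31 ygi3 zgi6) (kgi xgi32 ygi15 zgi39) (kgi xgi30 ygi56 zgi40) (kgi xgi27 ygi13 zgi1) (kgi xgi29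 ygi44 zgi27) (kgi xgi30 ygi15 zgi1) (kgi xgi25 ygi10 zgi13) (kgi xgi23 ygi8 zgi60) (kgi xgi30 ygi53 zgi57) (kgi xgi20 ygi40 zgi14) (kgi xgi20 ygi50 zgi38) (kgi xgi27 ygi43 zgi18) (kgi xgi20 ygi40 zgi29) (kgi xgi29 ygi30 zgi29) (kgi xgi24 ygi15 zgi57) (kgi xgi29 ygi56 zgi24) (kgi xgi20 ygi40 zgi39) (kgi xgi21 ygi3 zgi34)) (@D3.rec (fun _ => Pt) (kgi xgi20 ygi49 zgi30) (kgi xgi20 ygi43 zgi6) (kgi xgi26 ygi3 zgi14) (kgi xgi32 ygi23 zgi1) (kgi xgi22 ygi42 zgi24) (kgi xgi21 ygi47 zgi12) (kgi xgi27 ygi35 zgi60) (kgi xgi20 ygi41 zgi4) (kgi xgi30 ygi23 zgi35) (kgi xgi28 ygi35 zgi60) (kgi xgi23 ygi52 zgi39) (kgi xgi30 ygi28 zgi34) (kgi xgi23 ygi13 zgi20) (kgi xgi30 ygi17 zgi49) (kgi xgi30 ygi22 zgi52) (kgi xgi20 ygi41 zgi20) (kgi xgi20 ygi42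 zgi55) (kgi xgi28 ygi52 zgi4) (kgi xgi30 ygi34 zgi41) (kgi xgi20 ygi41 zgi24) (kgi xgi22 ygi14 zgi29) (kgi xgi22 ygi26 zgi52) (kgi xgi23 ygi48 zgi6) (kgi xgi30 ygi30 zgi46) (kgi xgi20 ygi43 zgi13) (kgi xgi30 ygi37 zgi50) (kgi xgi24 ygi37 zgi0) (kgi xgi20 ygi41 zgi30) (kgi xgi25 ygi34 zgi49) (kgi xgi20 ygi43 zgi32) (kgi xgi30 ygi9 zgi43) (kgi xgi27 ygi38 zgi16) (kgi xgi26 ygi54 zgi10) (kgi xgi20 ygi42 zgi1) (kgi xgi29 ygi14 zgi10) (kgi xgi24 ygi48 zgi35) (kgi xgi29 ygi27 zgi33) (kgi xgi26 ygi54 zgi39) (kgi xgi30 ygi21 zgi40) (kgi xgi29 ygi55 zgi6) (kgi xgi31 ygi22 zgi33) (kgi xgi30 ygi20 zgi47) (kgi xgi20 ygi41 zgi49) (kgi xgi23 ygi52 zgi46) (kgi xgi24 ygi1 zgi46) (kgi xgi20 ygi41 zgi53) (kgi xgi30 ygi38 zgi34) (kgi xgi32 ygi16 zgi54)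 (kgi xgi22 ygi6 zgi56) (kgi xgi26 ygi53 zgi30) (kgi xgi30 ygi31 zgi32) (kgi xgi26 ygi53 zgi54) (kgi xgi28 ygi31 zgi10) (kgi xgi28 ygi37 zgi50) (kgi xgi26 ygi51 zgi58) (kgi xgi27 ygi38 zgi12) (kgi xgi31 ygi47 zgi41) (kgi xgi32 ygi17 zgi42) (kgi xgi20 ygi42 zgi3) (kgi xgi25 ygi35 zgi1) (kgi xgi31 ygi55 zgi58) (kgi xgi28 ygi59 zgi47)) (@D3.rec (fun _ => Pt) (kgi xgi29 ygi13 zgi29) (kgi xgi24 ygi51 zgi61) (kgi xgi32 ygi17 zgi32) (kgi xgi26 ygi54 zgi2) (kgi xgi26 ygi54 zgi49) (kgi xgi25 ygi23 zgi36) (kgi xgi28 ygi50 zgi16) (kgi xgi32 ygi17 zgi22) (kgi xgi32 ygi44 zgi45) (kgi xgi32 ygi46 zgi2) (kgi xgi20 ygi42 zgi11) (kgi xgi32 ygi25 zgi23) (kgi xgi32 ygi43 zgi32) (kgi xgi25 ygi37 zgi34) (kgi xgi32 ygi46 zgi1) (kgi xgi25 ygi35 zgi3) (kgi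 xgi32 ygi27 zgi19) (kgi xgi32 ygi45 zgi58) (kgi xgi31 ygi52 zgi29) (kgi xgi32 ygi43 zgi43) (kgi xgi30 ygi8 zgi18) (kgi xgi22 ygi8 zgi27) (kgi xgi23 ygi39 zgi35) (kgi xgi31 ygi24 zgi40) (kgi xgi31 ygi47 zgi14) (kgi xgi28 ygi59 zgi5) (kgi xgi20 ygi42 zgi38) (kgi xgi25 ygi35 zgi28) (kgi xgi23 ygi48 zgi51) (kgi xgi28 ygi17 zgi22) (kgi xgi23 ygi48 zgi47) (kgi xgi32 ygi46 zgi19) (kgi xgi30 ygi38 zgi3) (kgi xgi32 ygi16 zgi45) (kgi xgi20 ygi42 zgi48) (kgi xgi20 ygi42 zgi51) (kgi xgi22 ygi14 zgi11) (kgi xgi22 ygi26 zgi55) (kgi xgi30 ygi9 zgi10) (kgi xgi31 ygi43 zgi20) (kgi xgi29 ygi28 zgi52) (kgi xgi26 ygi51 zgi9) (kgi xgi23 ygi48 zgi21) (kgi xgi23 ygi7 zgi32) (kgi xgi32 ygi42 zgi45) (kgi xgi22 ygi13 zgi7) (kgi xgi30 ygi23 zgi34) (kgi xgi24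 ygi57 zgi15) (kgi xgi20 ygi43 zgi2) (kgi xgi24 ygi38 zgi36) (kgi xgi22 ygi14 zgi17) (kgi xgi20 ygi42 zgi60) (kgi xgi30 ygi22 zgi43) (kgi xgi20 ygi43 zgi0) (kgi xgi30 ygi31 zgi19) (kgi xgi31 ygi29 zgi58) (kgi xgi22 ygi39 zgi46) (kgi xgi20 ygi43 zgi5) (kgi xgi32 ygi17 zgi31) (kgi xgi32 ygi39 zgi22) (kgi xgi28 ygi36 zgi4) (kgi xgi22 ygi13 zgi60)) (@D3.rec (fun _ => Pt) (kgi xgi32 ygi8 zgi54) (kgi xgi20 ygi43 zgi11) (kgi xgi32 ygi46 zgi22) (kgi xgi30 ygi22 zgi41) (kgi xgi23 ygi52 zgi54) (kgi xgi28 ygi33 zgi10) (kgi xgi32 ygi20 zgi45) (kgi xgi30 ygi29 zgi18) (kgi xgi31 ygi52 zgi44) (kgi xgi29 ygi37 zgi23) (kgi xgi24 ygi26 zgi9) (kgi xgi24 ygi16 zgi13) (kgi xgi21 ygi54 zgi8) (kgi xgi25 ygi35 zgi42) (kgi xgi24 ygi13 zgi34) (kgi xgi27 ygi13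 zgi4) (kgi xgi20 ygi43 zgi31) (kgi xgi25 ygi49 zgi14) (kgi xgi20 ygi43 zgi35) (kgi xgi32 ygi18 zgi7) (kgi xgi32 ygi28 zgi4) (kgi xgi27 ygi14 zgi24) (kgi xgi28 ygi54 zgi59) (kgi xgi31 ygi35 zgi5) (kgi xgi20 ygi43 zgi40) (kgi xgi25 ygi24 zgi49) (kgi xgi24 ygi36 zgi34) (kgi xgi25 ygi9 zgi1) (kgi xgi31 ygi49 zgi22) (kgi xgi28 ygi34 zgi2) (kgi xgi22 ygi21 zgi6) (kgi xgi20 ygi43 zgi50) (kgi xgi25 ygi8 zgi7) (kgi xgi29 ygi36 zgi13) (kgi xgi21 ygi38 zgi54) (kgi xgi31 ygi0 zgi21) (kgi xgi31 ygi31 zgi20) (kgi xgi27 ygi3 zgi1) (kgi xgi25 ygi8 zgi59) (kgi xgi30 ygi26 zgi42) (kgi xgi27 ygi15 zgi54) (kgi xgi29 ygi41 zgi13) (kgi xgi27 ygi15 zgi53) (kgi xgi20 ygi44 zgi0) (kgi xgi26 ygi23 zgi51) (kgi xgi27 ygi42 zgi44) (kgi xgi20 ygi44 zgi3) (kgi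 xgi22 ygi54 zgi59) (kgi xgi29 ygi57 zgi10) (kgi xgi20 ygi44 zgi5) (kgi xgi22 ygi19 zgi33) (kgi xgi29 ygi40 zgi59) (kgi xgi32 ygi0 zgi61) (kgi xgi20 ygi44 zgi10) (kgi xgi27 ygi13 zgi53) (kgi xgi31 ygi33 zgi19) (kgi xgi27 ygi13 zgi51) (kgi xgi31 ygi14 zgi2) (kgi xgi30 ygi11 zgi40) (kgi xgi31 ygi14 zgi3) (kgi xgi31 ygi14 zgi1) (kgi xgi20 ygi44 zgi17)) (@D3.rec (fun _ => Pt) (kgi xgi22 ygi1 zgi41) (kgi xgi32 ygi0 zgi50) (kgi xgi20 ygi55 zgi43) (kgi xgi22 ygi19 zgi38) (kgi xgi29 ygi32 zgi33) (kgi xgi22 ygi25 zgi42) (kgi xgi29 ygi28 zgi51) (kgi xgi22 ygi26 zgi36) (kgi xgi29 ygi23 zgi15) (kgi xgi23 ygi45 zgi47) (kgi xgi22 ygi40 zgi53) (kgi xgi22 ygi25 zgi60) (kgi xgi27 ygi10 zgi34) (kgi xgi32 ygi21 zgi23) (kgi xgi26 ygi57 zgi2) (kgi xgi22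 ygi0 zgi55) (kgi xgi20 ygi48 zgi46) (kgi xgi20 ygi44 zgi57) (kgi xgi25 ygi48 zgi40) (kgi xgi27 ygi43 zgi7) (kgi xgi28 ygi47 zgi55) (kgi xgi30 ygi24 zgi6) (kgi xgi22 ygi53 zgi38) (kgi xgi27 ygi15 zgi27) (kgi xgi20 ygi45 zgi14) (kgi xgi20 ygi45 zgi23) (kgi xgi26 ygi28 zgi14) (kgi xgi29 ygi34 zgi43) (kgi xgi23 ygi49 zgi38) (kgi xgi24 ygi6 zgi13) (kgi xgi28 ygi28 zgi28) (kgi xgi22 ygi17 zgi15) (kgi xgi29 ygi20 zgi3) (kgi xgi29 ygi22 zgi49) (kgi xgi26 ygi13 zgi22) (kgi xgi26 ygi50 zgi19) (kgi xgi29 ygi36 zgi41) (kgi xgi29 ygi35 zgi5) (kgi xgi27 ygi43 zgi12) (kgi xgi22 ygi20 zgi45) (kgi xgi23 ygi50 zgi59) (kgi xgi32 ygi27 zgi26) (kgi xgi27 ygi31 zgi43) (kgi xgi24 ygi47 zgi49) (kgi xgi30 ygi27 zgi59) (kgi xgi20 ygi45 zgi45) (kgi xgi26 ygi14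 zgi13) (kgi xgi26 ygi20 zgi61) (kgi xgi20 ygi45 zgi48) (kgi xgi23 ygi24 zgi1) (kgi xgi24 ygi24 zgi8) (kgi xgi24 ygi56 zgi55) (kgi xgi27 ygi7 zgi24) (kgi xgi27 ygi10 zgi31) (kgi xgi20 ygi45 zgi58) (kgi xgi27 ygi11 zgi55) (kgi xgi23 ygi46 zgi4) (kgi xgi25 ygi52 zgi34) (kgi xgi27 ygi37 zgi26) (kgi xgi29 ygi13 zgi3) (kgi xgi32 ygi0 zgi60) (kgi xgi30 ygi9 zgi12)) (@D3.rec (fun _ => Pt) (kgi xgi29 ygi1 zgi21) (kgi xgi23 ygi39 zgi54) (kgi xgi29 ygi1 zgi20) (kgi xgi20 ygi46 zgi22) (kgi xgi30 ygi27 zgi18) (kgi xgi31 ygi20 zgi13) (kgi xgi20 ygi46 zgi37) (kgi xgi22 ygi38 zgi20) (kgi xgi20 ygi46 zgi40) (kgi xgi28 ygi56 zgi24) (kgi xgi26 ygi44 zgi3) (kgi xgi28 ygi16 zgi24) (kgi xgi28 ygi16 zgi22) (kgi xgi22 ygi36 zgi51) (kgi xgi32 ygi34 zgi29)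 (kgi xgi24 ygi18 zgi18) (kgi xgi20 ygi46 zgi51) (kgi xgi27 ygi31 zgi49) (kgi xgi32 ygi25 zgi16) (kgi xgi22 ygi38 zgi16) (kgi xgi28 ygi47 zgi40) (kgi xgi28 ygi47 zgi37) (kgi xgi27 ygi21 zgi37) (kgi xgi22 ygi12 zgi27) (kgi xgi31 ygi22 zgi45) (kgi xgi22 ygi5 zgi38) (kgi xgi26 ygi50 zgi44) (kgi xgi21 ygi47 zgi32) (kgi xgi20 ygi47 zgi15) (kgi xgi20 ygi47 zgi17) (kgi xgi22 ygi13 zgi24) (kgi xgi29 ygi8 zgi2) (kgi xgi23 ygi13 zgi21) (kgi xgi30 ygi27 zgi56) (kgi xgi22 ygi59 zgi55) (kgi xgi30 ygi28 zgi29) (kgi xgi27 ygi38 zgi23) (kgi xgi20 ygi47 zgi28) (kgi xgi23 ygi0 zgi42) (kgi xgi20 ygi47 zgi32) (kgi xgi30 ygi34 zgi8) (kgi xgi20 ygi47 zgi34) (kgi xgi27 ygi13 zgi48) (kgi xgi29 ygi40 zgi58) (kgi xgi20 ygi47 zgi38) (kgi xgi30 ygi29 zgi44) (kgi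 xgi22 ygi26 zgi7) (kgi xgi22 ygi17 zgi41) (kgi xgi29 ygi19 zgi0) (kgi xgi29 ygi38 zgi12) (kgi xgi29 ygi38 zgi9) (kgi xgi29 ygi40 zgi14) (kgi xgi20 ygi47 zgi51) (kgi xgi21 ygi52 zgi55) (kgi xgi22 ygi26 zgi40) (kgi xgi28 ygi18 zgi36) (kgi xgi30 ygi25 zgi40) (kgi xgi29 ygi38 zgi8) (kgi xgi29 ygi34 zgi29) (kgi xgi32 ygi15 zgi7) (kgi xgi24 ygi9 zgi59) (kgi xgi20 ygi48 zgi5)) (@D3.rec (fun _ => Pt) (kgi xgi22 ygi13 zgi59) (kgi xgi28 ygi34 zgi14) (kgi xgi20 ygi50 zgi18) (kgi xgi30 ygi27 zgi43) (kgi xgi30 ygi29 zgi29) (kgi xgi27 ygi5 zgi15) (kgi xgi24 ygi25 zgi19) (kgi xgi24 ygi25 zgi31) (kgi xgi24 ygi46 zgi20) (kgi xgi29 ygi26 zgi10) (kgi xgi22 ygi24 zgi19) (kgi xgi31 ygi33 zgi39) (kgi xgi29 ygi38 zgi6) (kgi xgi22 ygi19 zgi11) (kgi xgi20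 ygi48 zgi22) (kgi xgi29 ygi39 zgi51) (kgi xgi32 ygi39 zgi50) (kgi xgi31 ygi1 zgi51) (kgi xgi22 ygi24 zgi52) (kgi xgi23 ygi8 zgi11) (kgi xgi20 ygi48 zgi26) (kgi xgi30 ygi28 zgi45) (kgi xgi32 ygi46 zgi32) (kgi xgi22 ygi26 zgi34) (kgi xgi22 ygi58 zgi44) (kgi xgi20 ygi48 zgi28) (kgi xgi20 ygi48 zgi30) (kgi xgi28 ygi39 zgi21) (kgi xgi32 ygi46 zgi47) (kgi xgi20 ygi48 zgi32) (kgi xgi28 ygi55 zgi47) (kgi xgi32 ygi46 zgi46) (kgi xgi30 ygi25 zgi39) (kgi xgi25 ygi32 zgi21) (kgi xgi28 ygi39 zgi39) (kgi xgi29 ygi40 zgi41) (kgi xgi20 ygi48 zgi40) (kgi xgi22 ygi6 zgi1) (kgi xgi27 ygi16 zgi15) (kgi xgi24 ygi8 zgi26) (kgi xgi31 ygi20 zgi40) (kgi xgi24 ygi25 zgi56) (kgi xgi21 ygi11 zgi30) (kgi xgi21 ygi59 zgi47) (kgi xgi30 ygi15 zgi52) (kgi xgi23 ygi49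 zgi8) (kgi xgi29 ygi23 zgi23) (kgi xgi30 ygi11 zgi41) (kgi xgi24 ygi13 zgi49) (kgi xgi30 ygi30 zgi11) (kgi xgi21 ygi59 zgi46) (kgi xgi27 ygi16 zgi5) (kgi xgi24 ygi25 zgi12) (kgi xgi30 ygi25 zgi27) (kgi xgi26 ygi56 zgi51) (kgi xgi27 ygi12 zgi39) (kgi xgi28 ygi35 zgi8) (kgi xgi28 ygi29 zgi18) (kgi xgi30 ygi31 zgi28) (kgi xgi20 ygi49 zgi1) (kgi xgi25 ygi52 zgi53) (kgi xgi28 ygi58 zgi40)) (@D3.rec (fun _ => Pt) (kgi xgi21 ygi47 zgi20) (kgi xgi30 ygi6 zgi16) (kgi xgi22 ygi50 zgi9) (kgi xgi23 ygi7 zgi3) (kgi xgi30 ygi25 zgi16) (kgi xgi24 ygi6 zgi48) (kgi xgi23 ygi55 zgi27) (kgi xgi30 ygi25 zgi15) (kgi xgi23 ygi9 zgi41) (kgi xgi23 ygi7 zgi40) (kgi xgi24 ygi15 zgi60) (kgi xgi25 ygi34 zgi58) (kgi xgi28 ygi56 zgi50) (kgi xgi30 ygi18 zgi50)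 (kgi xgi23 ygi9 zgi48) (kgi xgi24 ygi4 zgi32) (kgi xgi29 ygi23 zgi46) (kgi xgi26 ygi25 zgi25) (kgi xgi24 ygi23 zgi59) (kgi xgi20 ygi49 zgi42) (kgi xgi22 ygi52 zgi17) (kgi xgi30 ygi50 zgi29) (kgi xgi20 ygi49 zgi43) (kgi xgi31 ygi47 zgi51) (kgi xgi32 ygi46 zgi58) (kgi xgi32 ygi41 zgi24) (kgi xgi20 ygi49 zgi44) (kgi xgi23 ygi9 zgi45) (kgi xgi24 ygi40 zgi14) (kgi xgi23 ygi5 zgi45) (kgi xgi31 ygi8 zgi11) (kgi xgi20 ygi49 zgi51) (kgi xgi31 ygi8 zgi13) (kgi xgi25 ygi59 zgi11) (kgi xgi25 ygi21 zgi12) (kgi xgi25 ygi21 zgi14) (kgi xgi32 ygi43 zgi28) (kgi xgi31 ygi39 zgi44) (kgi xgi31 ygi52 zgi2) (kgi xgi31 ygi21 zgi24) (kgi xgi32 ygi24 zgi23) (kgi xgi24 ygi49 zgi0) (kgi xgi20 ygi50 zgi2) (kgi xgi30 ygi54 zgi27) (kgi xgi32 ygi33 zgi59) (kgi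 xgi31 ygi16 zgi25) (kgi xgi31 ygi48 zgi10) (kgi xgi20 ygi50 zgi4) (kgi xgi29 ygi17 zgi42) (kgi xgi27 ygi14 zgi34) (kgi xgi26 ygi44 zgi23) (kgi xgi20 ygi50 zgi6) (kgi xgi26 ygi44 zgi22) (kgi xgi29 ygi15 zgi24) (kgi xgi29 ygi48 zgi40) (kgi xgi25 ygi9 zgi60) (kgi xgi32 ygi41 zgi22) (kgi xgi20 ygi50 zgi14) (kgi xgi27 ygi42 zgi41) (kgi xgi20 ygi50 zgi19) (kgi xgi30 ygi54 zgi59) (kgi xgi24 ygi45 zgi58)) (@D3.rec (fun _ => Pt) (kgi xgi20 ygi50 zgi20) (kgi xgi25 ygi57 zgi2) (kgi xgi20 ygi50 zgi23) (kgi xgi29 ygi30 zgi38) (kgi xgi32 ygi34 zgi43) (kgi xgi32 ygi1 zgi52) (kgi xgi31 ygi59 zgi8) (kgi xgi30 ygi50 zgi46) (kgi xgi27 ygi10 zgi0) (kgi xgi30 ygi42 zgi58) (kgi xgi23 ygi4 zgi36) (kgi xgi30 ygi50 zgi47) (kgi xgi20 ygi50 zgi32) (kgi xgi30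 ygi27 zgi44) (kgi xgi29 ygi32 zgi36) (kgi xgi27 ygi15 zgi11) (kgi xgi23 ygi7 zgi61) (kgi xgi30 ygi43 zgi46) (kgi xgi29 ygi37 zgi38) (kgi xgi25 ygi14 zgi30) (kgi xgi28 ygi44 zgi16) (kgi xgi21 ygi31 zgi60) (kgi xgi26 ygi58 zgi55) (kgi xgi30 ygi12 zgi22) (kgi xgi26 ygi58 zgi57) (kgi xgi21 ygi30 zgi20) (kgi xgi21 ygi20 zgi19) (kgi xgi29 ygi48 zgi58) (kgi xgi20 ygi51 zgi33) (kgi xgi29 ygi2 zgi34) (kgi xgi26 ygi33 zgi24) (kgi xgi30 ygi51 zgi14) (kgi xgi22 ygi56 zgi42) (kgi xgi29 ygi25 zgi39) (kgi xgi20 ygi52 zgi27) (kgi xgi30 ygi38 zgi56) (kgi xgi29 ygi27 zgi6) (kgi xgi31 ygi26 zgi17) (kgi xgi32 ygi13 zgi13) (kgi xgi25 ygi48 zgi19) (kgi xgi20 ygi52 zgi47) (kgi xgi29 ygi19 zgi6) (kgi xgi24 ygi31 zgi16) (kgi xgi20 ygi52 zgi55) (kgi xgi24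 ygi28 zgi41) (kgi xgi24 ygi19 zgi38) (kgi xgi20 ygi53 zgi5) (kgi xgi32 ygi40 zgi60) (kgi xgi20 ygi59 zgi52) (kgi xgi28 ygi56 zgi14) (kgi xgi26 ygi43 zgi47) (kgi xgi27 ygi42 zgi21) (kgi xgi29 ygi42 zgi59) (kgi xgi32 ygi45 zgi23) (kgi xgi24 ygi22 zgi24) (kgi xgi20 ygi53 zgi27) (kgi xgi31 ygi51 zgi37) (kgi xgi29 ygi43 zgi29) (kgi xgi30 ygi12 zgi3) (kgi xgi21 ygi43 zgi43) (kgi xgi21 ygi22 zgi3) (kgi xgi23 ygi5 zgi19)) (@D3.rec (fun _ => Pt) (kgi xgi31 ygi36 zgi48) (kgi xgi23 ygi5 zgi21) (kgi xgi27 ygi15 zgi57) (kgi xgi31 ygi56 zgi38) (kgi xgi20 ygi53 zgi53) (kgi xgi20 ygi53 zgi59) (kgi xgi29 ygi30 zgi53) (kgi xgi31 ygi17 zgi0) (kgi xgi21 ygi27 zgi29) (kgi xgi32 ygi3 zgi59) (kgi xgi28 ygi56 zgi34) (kgi xgi32 ygi34 zgi37) (kgi xgi31 ygi46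 zgi18) (kgi xgi20 ygi53 zgi60) (kgi xgi25 ygi15 zgi24) (kgi xgi27 ygi38 zgi56) (kgi xgi27 ygi0 zgi33) (kgi xgi28 ygi40 zgi44) (kgi xgi32 ygi13 zgi52) (kgi xgi31 ygi21 zgi0) (kgi xgi20 ygi54 zgi7) (kgi xgi27 ygi0 zgi32) (kgi xgi29 ygi31 zgi18) (kgi xgi24 ygi25 zgi23) (kgi xgi20 ygi54 zgi8) (kgi xgi31 ygi46 zgi61) (kgi xgi28 ygi9 zgi55) (kgi xgi29 ygi44 zgi14) (kgi xgi21 ygi20 zgi27) (kgi xgi25 ygi19 zgi22) (kgi xgi29 ygi27 zgi25) (kgi xgi20 ygi54 zgi16) (kgi xgi29 ygi15 zgi8) (kgi xgi32 ygi17 zgi51) (kgi xgi32 ygi17 zgi56) (kgi xgi29 ygi2 zgi37) (kgi xgi31 ygi39 zgi40) (kgi xgi25 ygi22 zgi13) (kgi xgi26 ygi9 zgi50) (kgi xgi29 ygi6 zgi54) (kgi xgi31 ygi51 zgi12) (kgi xgi31 ygi41 zgi55) (kgi xgi25 ygi45 zgi12) (kgi xgi31 ygi48 zgi27)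 (kgi xgi26 ygi44 zgi53) (kgi xgi21 ygi57 zgi37) (kgi xgi26 ygi53 zgi27) (kgi xgi27 ygi11 zgi39) (kgi xgi32 ygi2 zgi44) (kgi xgi21 ygi4 zgi54) (kgi xgi30 ygi37 zgi15) (kgi xgi32 ygi47 zgi11) (kgi xgi21 ygi39 zgi3) (kgi xgi25 ygi38 zgi57) (kgi xgi21 ygi4 zgi6) (kgi xgi24 ygi27 zgi58) (kgi xgi24 ygi36 zgi37) (kgi xgi20 ygi56 zgi1) (kgi xgi20 ygi55 zgi2) (kgi xgi20 ygi56 zgi8) (kgi xgi20 ygi56 zgi5) (kgi xgi20 ygi55 zgi3)) (@D3.rec (fun _ => Pt) (kgi xgi30 ygi17 zgi20) (kgi xgi20 ygi58 zgi58) (kgi xgi20 ygi55 zgi8) (kgi xgi26 ygi38 zgi50) (kgi xgi22 ygi27 zgi23) (kgi xgi30 ygi17 zgi29) (kgi xgi22 ygi27 zgi20) (kgi xgi20 ygi58 zgi57) (kgi xgi30 ygi16 zgi18) (kgi xgi22 ygi27 zgi25) (kgi xgi29 ygi43 zgi27) (kgi xgi26 ygi34 zgi47) (kgi xgi20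 ygi55 zgi18) (kgi xgi32 ygi11 zgi21) (kgi xgi26 ygi39 zgi50) (kgi xgi20 ygi55 zgi19) (kgi xgi20 ygi57 zgi38) (kgi xgi20 ygi57 zgi35) (kgi xgi20 ygi55 zgi21) (kgi xgi22 ygi56 zgi25) (kgi xgi20 ygi57 zgi56) (kgi xgi20 ygi57 zgi53) (kgi xgi20 ygi57 zgi40) (kgi xgi22 ygi3 zgi60) (kgi xgi30 ygi16 zgi19) (kgi xgi22 ygi11 zgi58) (kgi xgi28 ygi33 zgi33) (kgi xgi29 ygi34 zgi49) (kgi xgi26 ygi39 zgi29) (kgi xgi29 ygi56 zgi8) (kgi xgi25 ygi27 zgi20) (kgi xgi32 ygi4 zgi12) (kgi xgi32 ygi47 zgi15) (kgi xgi25 ygi6 zgi5) (kgi xgi21 ygi39 zgi49) (kgi xgi31 ygi24 zgi22) (kgi xgi32 ygi4 zgi13) (kgi xgi29 ygi25 zgi58) (kgi xgi20 ygi55 zgi42) (kgi xgi20 ygi58 zgi25) (kgi xgi28 ygi39 zgi49) (kgi xgi20 ygi58 zgi22) (kgi xgi32 ygi23 zgi2) (kgi xgi20 ygi58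 zgi28) (kgi xgi20 ygi55 zgi49) (kgi xgi32 ygi27 zgi13) (kgi xgi29 ygi47 zgi28) (kgi xgi31 ygi19 zgi39) (kgi xgi20 ygi55 zgi54) (kgi xgi31 ygi46 zgi3) (kgi xgi31 ygi55 zgi61) (kgi xgi24 ygi51 zgi10) (kgi xgi28 ygi40 zgi36) (kgi xgi20 ygi56 zgi3) (kgi xgi20 ygi56 zgi2) (kgi xgi26 ygi5 zgi3) (kgi xgi26 ygi7 zgi60) (kgi xgi26 ygi7 zgi58) (kgi xgi26 ygi58 zgi50) (kgi xgi25 ygi19 zgi11) (kgi xgi22 ygi25 zgi37) (kgi xgi25 ygi20 zgi28)) (@D3.rec (fun _ => Pt) (kgi xgi29 ygi33 zgi3) (kgi xgi31 ygi52 zgi57) (kgi xgi20 ygi56 zgi7) (kgi xgi28 ygi44 zgi22) (kgi xgi28 ygi44 zgi21) (kgi xgi32 ygi47 zgi20) (kgi xgi32 ygi47 zgi21) (kgi xgi20 ygi56 zgi16) (kgi xgi31 ygi13 zgi24) (kgi xgi20 ygi56 zgi21) (kgi xgi32 ygi47 zgi24) (kgi xgi20 ygi56 zgi22)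 (kgi xgi30 ygi17 zgi15) (kgi xgi29 ygi16 zgi36) (kgi xgi32 ygi43 zgi3) (kgi xgi26 ygi34 zgi42) (kgi xgi32 ygi46 zgi30) (kgi xgi20 ygi56 zgi24) (kgi xgi32 ygi46 zgi29) (kgi xgi32 ygi47 zgi23) (kgi xgi32 ygi37 zgi15) (kgi xgi25 ygi19 zgi7) (kgi xgi32 ygi20 zgi56) (kgi xgi26 ygi35 zgi23) (kgi xgi25 ygi20 zgi4) (kgi xgi20 ygi56 zgi28) (kgi xgi32 ygi20 zgi55) (kgi xgi20 ygi56 zgi30) (kgi xgi25 ygi27 zgi22) (kgi xgi28 ygi49 zgi4) (kgi xgi30 ygi29 zgi14) (kgi xgi26 ygi57 zgi32) (kgi xgi32 ygi39 zgi0) (kgi xgi32 ygi46 zgi28) (kgi xgi22 ygi24 zgi55) (kgi xgi26 ygi34 zgi48) (kgi xgi32 ygi12 zgi36) (kgi xgi30 ygi29 zgi4) (kgi xgi32 ygi34 zgi57) (kgi xgi24 ygi17 zgi10) (kgi xgi31 ygi33 zgi7) (kgi xgi29 ygi42 zgi57) (kgi xgi31 ygi40 zgi5) (kgi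 xgi25 ygi21 zgi43) (kgi xgi31 ygi51 zgi50) (kgi xgi24 ygi49 zgi21) (kgi xgi20 ygi56 zgi52) (kgi xgi26 ygi7 zgi53) (kgi xgi32 ygi47 zgi31) (kgi xgi26 ygi37 zgi1) (kgi xgi23 ygi56 zgi52) (kgi xgi30 ygi28 zgi53) (kgi xgi32 ygi45 zgi36) (kgi xgi32 ygi22 zgi17) (kgi xgi32 ygi47 zgi34) (kgi xgi31 ygi46 zgi58) (kgi xgi29 ygi44 zgi3) (kgi xgi29 ygi44 zgi2) (kgi xgi25 ygi8 zgi9) (kgi xgi32 ygi10 zgi27) (kgi xgi20 ygi57 zgi9) (kgi xgi31 ygi46 zgi59)) (@D3.rec (fun _ => Pt) (kgi xgi25 ygi19 zgi16) (kgi xgi32 ygi11 zgi40) (kgi xgi25 ygi20 zgi58) (kgi xgi30 ygi30 zgi54) (kgi xgi29 ygi47 zgi39) (kgi xgi20 ygi57 zgi13) (kgi xgi28 ygi40 zgi34) (kgi xgi32 ygi47 zgi40) (kgi xgi26 ygi35 zgi24) (kgi xgi32 ygi5 zgi25) (kgi xgi31 ygi31 zgi12) (kgi xgi31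 ygi34 zgi11) (kgi xgi32 ygi12 zgi35) (kgi xgi32 ygi40 zgi28) (kgi xgi32 ygi47 zgi44) (kgi xgi32 ygi47 zgi45) (kgi xgi25 ygi8 zgi18) (kgi xgi32 ygi12 zgi13) (kgi xgi22 ygi24 zgi58) (kgi xgi29 ygi31 zgi31) (kgi xgi26 ygi36 zgi24) (kgi xgi32 ygi40 zgi21) (kgi xgi32 ygi23 zgi61) (kgi xgi20 ygi57 zgi26) (kgi xgi20 ygi57 zgi29) (kgi xgi20 ygi57 zgi33) (kgi xgi20 ygi57 zgi30) (kgi xgi29 ygi49 zgi5) (kgi xgi27 ygi16 zgi31) (kgi xgi26 ygi33 zgi39) (kgi xgi24 ygi3 zgi26) (kgi xgi29 ygi39 zgi5) (kgi xgi20 ygi57 zgi32) (kgi xgi30 ygi17 zgi34) (kgi xgi31 ygi21 zgi4) (kgi xgi26 ygi41 zgi6) (kgi xgi29 ygi34 zgi16) (kgi xgi20 ygi57 zgi39) (kgi xgi23 ygi42 zgi37) (kgi xgi25 ygi25 zgi20) (kgi xgi23 ygi40 zgi40) (kgi xgi27 ygi37 zgi40) (kgi xgi27 ygi36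 zgi23) (kgi xgi20 ygi57 zgi50) (kgi xgi29 ygi46 zgi58) (kgi xgi32 ygi14 zgi8) (kgi xgi29 ygi46 zgi55) (kgi xgi32 ygi47 zgi2) (kgi xgi32 ygi20 zgi60) (kgi xgi26 ygi34 zgi13) (kgi xgi20 ygi57 zgi55) (kgi xgi32 ygi41 zgi7) (kgi xgi32 ygi37 zgi56) (kgi xgi22 ygi1 zgi29) (kgi xgi32 ygi37 zgi54) (kgi xgi20 ygi58 zgi0) (kgi xgi29 ygi46 zgi46) (kgi xgi30 ygi29 zgi34) (kgi xgi29 ygi46 zgi43) (kgi xgi26 ygi54 zgi23) (kgi xgi26 ygi48 zgi41) (kgi xgi31 ygi26 zgi13)) (@D3.rec (fun _ => Pt) (kgi xgi32 ygi22 zgi59) (kgi xgi20 ygi58 zgi17) (kgi xgi28 ygi48 zgi10) (kgi xgi20 ygi58 zgi10) (kgi xgi28 ygi44 zgi20) (kgi xgi32 ygi47 zgi49) (kgi xgi32 ygi39 zgi56) (kgi xgi32 ygi47 zgi57) (kgi xgi32 ygi2 zgi3) (kgi xgi20 ygi58 zgi16) (kgi xgi24 ygi2 zgi19)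 (kgi xgi32 ygi14 zgi28) (kgi xgi31 ygi52 zgi56) (kgi xgi29 ygi26 zgi26) (kgi xgi29 ygi26 zgi24) (kgi xgi29 ygi47 zgi35) (kgi xgi20 ygi58 zgi24) (kgi xgi29 ygi26 zgi41) (kgi xgi28 ygi30 zgi4) (kgi xgi32 ygi47 zgi17) (kgi xgi32 ygi4 zgi0) (kgi xgi20 ygi58 zgi27) (kgi xgi29 ygi10 zgi55) (kgi xgi32 ygi40 zgi15) (kgi xgi32 ygi14 zgi9) (kgi xgi32 ygi14 zgi7) (kgi xgi20 ygi58 zgi30) (kgi xgi22 ygi23 zgi39) (kgi xgi32 ygi3 zgi39) (kgi xgi31 ygi17 zgi52) (kgi xgi28 ygi51 zgi38) (kgi xgi20 ygi58 zgi39) (kgi xgi20 ygi58 zgi41) (kgi xgi29 ygi34 zgi5) (kgi xgi29 ygi34 zgi3) (kgi xgi31 ygi21 zgi51) (kgi xgi28 ygi54 zgi21) (kgi xgi26 ygi34 zgi14) (kgi xgi28 ygi42 zgi15) (kgi xgi26 ygi59 zgi25) (kgi xgi24 ygi21 zgi0) (kgi xgi27 ygi21 zgi28) (kgi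 xgi29 ygi52 zgi26) (kgi xgi20 ygi59 zgi6) (kgi xgi26 ygi41 zgi54) (kgi xgi25 ygi20 zgi18) (kgi xgi25 ygi22 zgi5) (kgi xgi25 ygi50 zgi32) (kgi xgi20 ygi59 zgi7) (kgi xgi24 ygi7 zgi50) (kgi xgi31 ygi49 zgi48) (kgi xgi20 ygi59 zgi11) (kgi xgi32 ygi2 zgi49) (kgi xgi31 ygi56 zgi23) (kgi xgi25 ygi28 zgi31) (kgi xgi21 ygi49 zgi21) (kgi xgi28 ygi48 zgi13) (kgi xgi31 ygi45 zgi48) (kgi xgi31 ygi13 zgi1) (kgi xgi28 ygi19 zgi28) (kgi xgi29 ygi5 zgi16) (kgi xgi29 ygi0 zgi43)) (@D3.rec (fun _ => Pt) (kgi xgi28 ygi45 zgi40) (kgi xgi28 ygi1 zgi51) (kgi xgi26 ygi42 zgi51) (kgi xgi28 ygi23 zgi55) (kgi xgi20 ygi59 zgi53) (kgi xgi24 ygi11 zgi61) (kgi xgi26 ygi43 zgi6) (kgi xgi25 ygi36 zgi57) (kgi xgi31 ygi57 zgi56) (kgi xgi29 ygi8 zgi52) (kgi xgi26 ygi30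 zgi15) (kgi xgi32 ygi20 zgi20) (kgi xgi20 ygi59 zgi57) (kgi xgi26 ygi43 zgi7) (kgi xgi27 ygi8 zgi31) (kgi xgi27 ygi7 zgi6) (kgi xgi30 ygi18 zgi57) (kgi xgi31 ygi50 zgi11) (kgi xgi28 ygi52 zgi56) (kgi xgi32 ygi14 zgi59) (kgi xgi20 ygi59 zgi61) (kgi xgi28 ygi52 zgi10) (kgi xgi28 ygi16 zgi45) (kgi xgi29 ygi2 zgi29) (kgi xgi22 ygi7 zgi15) (kgi xgi21 ygi0 zgi1) (kgi xgi26 ygi42 zgi54) (kgi xgi30 ygi37 zgi2) (kgi xgi27 ygi7 zgi0) (kgi xgi31 ygi31 zgi23) (kgi xgi29 ygi15 zgi36) (kgi xgi28 ygi56 zgi11) (kgi xgi25 ygi35 zgi23) (kgi xgi25 ygi58 zgi60) (kgi xgi21 ygi0 zgi18) (kgi xgi32 ygi24 zgi58) (kgi xgi22 ygi2 zgi22) (kgi xgi31 ygi7 zgi30) (kgi xgi25 ygi26 zgi21) (kgi xgi21 ygi20 zgi57) (kgi xgi26 ygi6 zgi54) (kgi xgi25 ygi26 zgi4) (kgi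 xgi28 ygi55 zgi22) (kgi xgi25 ygi24 zgi58) (kgi xgi25 ygi51 zgi38) (kgi xgi28 ygi48 zgi56) (kgi xgi29 ygi1 zgi14) (kgi xgi26 ygi43 zgi0) (kgi xgi31 ygi27 zgi0) (kgi xgi29 ygi37 zgi9) (kgi xgi26 ygi2 zgi30) (kgi xgi26 ygi57 zgi56) (kgi xgi32 ygi5 zgi4) (kgi xgi21 ygi2 zgi17) (kgi xgi32 ygi4 zgi58) (kgi xgi24 ygi23 zgi41) (kgi xgi29 ygi52 zgi39) (kgi xgi23 ygi24 zgi49) (kgi xgi30 ygi17 zgi42) (kgi xgi29 ygi42 zgi27) (kgi xgi23 ygi33 zgi6) (kgi xgi29 ygi43 zgi24)) (@D3.rec (fun _ => Pt) (kgi xgi29 ygi43 zgi17) (kgi xgi26 ygi35 zgi60) (kgi xgi27 ygi19 zgi4) (kgi xgi32 ygi48 zgi7) (kgi xgi22 ygi19 zgi36) (kgi xgi29 ygi46 zgi30) (kgi xgi21 ygi1 zgi28) (kgi xgi22 ygi4 zgi24) (kgi xgi22 ygi4 zgi22) (kgi xgi31 ygi50 zgi9) (kgi xgi31 ygi13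 zgi18) (kgi xgi26 ygi11 zgi7) (kgi xgi21 ygi1 zgi44) (kgi xgi25 ygi8 zgi36) (kgi xgi31 ygi27 zgi11) (kgi xgi24 ygi0 zgi37) (kgi xgi29 ygi28 zgi41) (kgi xgi32 ygi27 zgi53) (kgi xgi31 ygi46 zgi53) (kgi xgi21 ygi1 zgi57) (kgi xgi29 ygi38 zgi18) (kgi xgi24 ygi8 zgi21) (kgi xgi31 ygi26 zgi29) (kgi xgi32 ygi21 zgi46) (kgi xgi26 ygi48 zgi46) (kgi xgi28 ygi26 zgi50) (kgi xgi21 ygi2 zgi0) (kgi xgi30 ygi56 zgi1) (kgi xgi25 ygi46 zgi12) (kgi xgi29 ygi37 zgi48) (kgi xgi32 ygi0 zgi13) (kgi xgi29 ygi22 zgi40) (kgi xgi30 ygi20 zgi12) (kgi xgi23 ygi41 zgi11) (kgi xgi21 ygi56 zgi33) (kgi xgi32 ygi24 zgi30) (kgi xgi30 ygi20 zgi11) (kgi xgi29 ygi11 zgi60) (kgi xgi21 ygi2 zgi20) (kgi xgi29 ygi6 zgi31) (kgi xgi21 ygi2 zgi22) (kgi xgi31 ygi11 zgi32) (kgi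 xgi30 ygi52 zgi44) (kgi xgi32 ygi4 zgi47) (kgi xgi21 ygi2 zgi24) (kgi xgi26 ygi47 zgi42) (kgi xgi23 ygi26 zgi47) (kgi xgi22 ygi44 zgi8) (kgi xgi23 ygi38 zgi43) (kgi xgi22 ygi43 zgi41) (kgi xgi31 ygi5 zgi24) (kgi xgi24 ygi23 zgi48) (kgi xgi23 ygi27 zgi47) (kgi xgi27 ygi47 zgi23) (kgi xgi32 ygi4 zgi49) (kgi xgi29 ygi55 zgi2) (kgi xgi25 ygi51 zgi59) (kgi xgi32 ygi14 zgi51) (kgi xgi29 ygi14 zgi5) (kgi xgi26 ygi20 zgi43) (kgi xgi28 ygi12 zgi14) (kgi xgi22 ygi55 zgi47)) (@D3.rec (fun _ => Pt) (kgi xgi27 ygi3 zgi31) (kgi xgi24 ygi0 zgi49) (kgi xgi22 ygi56 zgi38) (kgi xgi27 ygi16 zgi3) (kgi xgi32 ygi11 zgi18) (kgi xgi24 ygi37 zgi6) (kgi xgi23 ygi28 zgi2) (kgi xgi28 ygi55 zgi61) (kgi xgi29 ygi27 zgi14) (kgi xgi25 ygi4 zgi16) (kgi xgi25 ygi56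 zgi23) (kgi xgi31 ygi20 zgi12) (kgi xgi27 ygi12 zgi40) (kgi xgi29 ygi6 zgi45) (kgi xgi24 ygi16 zgi0) (kgi xgi31 ygi45 zgi24) (kgi xgi21 ygi3 zgi46) (kgi xgi29 ygi32 zgi41) (kgi xgi23 ygi58 zgi11) (kgi xgi23 ygi49 zgi24) (kgi xgi28 ygi35 zgi4) (kgi xgi21 ygi4 zgi3) (kgi xgi24 ygi45 zgi56) (kgi xgi22 ygi54 zgi32) (kgi xgi29 ygi53 zgi0) (kgi xgi23 ygi16 zgi51) (kgi xgi22 ygi48 zgi3) (kgi xgi27 ygi33 zgi3) (kgi xgi25 ygi58 zgi54) (kgi xgi30 ygi0 zgi51) (kgi xgi21 ygi4 zgi51) (kgi xgi25 ygi10 zgi1) (kgi xgi21 ygi42 zgi18) (kgi xgi22 ygi10 zgi28) (kgi xgi27 ygi23 zgi0) (kgi xgi21 ygi31 zgi52) (kgi xgi21 ygi46 zgi49) (kgi xgi25 ygi13 zgi9) (kgi xgi21 ygi39 zgi45) (kgi xgi21 ygi4 zgi59) (kgi xgi21 ygi39 zgi44) (kgi xgi30 ygi1 zgi48) (kgi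 xgi25 ygi47 zgi12) (kgi xgi24 ygi0 zgi45) (kgi xgi25 ygi27 zgi43) (kgi xgi22 ygi59 zgi12) (kgi xgi27 ygi26 zgi12) (kgi xgi28 ygi23 zgi45) (kgi xgi25 ygi27 zgi31) (kgi xgi25 ygi30 zgi30) (kgi xgi25 ygi20 zgi17) (kgi xgi21 ygi5 zgi16) (kgi xgi29 ygi57 zgi28) (kgi xgi30 ygi55 zgi22) (kgi xgi21 ygi39 zgi39) (kgi xgi21 ygi5 zgi33) (kgi xgi24 ygi30 zgi48) (kgi xgi27 ygi25 zgi27) (kgi xgi25 ygi56 zgi10) (kgi xgi27 ygi45 zgi45) (kgi xgi28 ygi57 zgi11) (kgi xgi23 ygi2 zgi15)) (@D3.rec (fun _ => Pt) (kgi xgi22 ygi10 zgi58) (kgi xgi22 ygi10 zgi61) (kgi xgi25 ygi12 zgi47) (kgi xgi21 ygi39 zgi29) (kgi xgi24 ygi7 zgi40) (kgi xgi21 ygi5 zgi47) (kgi xgi32 ygi21 zgi3) (kgi xgi21 ygi5 zgi54) (kgi xgi24 ygi22 zgi20) (kgi xgi31 ygi10 zgi10) (kgi xgi32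 ygi48 zgi23) (kgi xgi28 ygi41 zgi22) (kgi xgi30 ygi4 zgi39) (kgi xgi21 ygi6 zgi1) (kgi xgi23 ygi27 zgi60) (kgi xgi21 ygi6 zgi2) (kgi xgi30 ygi4 zgi37) (kgi xgi23 ygi40 zgi0) (kgi xgi28 ygi42 zgi53) (kgi xgi27 ygi17 zgi47) (kgi xgi23 ygi52 zgi37) (kgi xgi29 ygi56 zgi5) (kgi xgi21 ygi10 zgi14) (kgi xgi25 ygi42 zgi55) (kgi xgi29 ygi56 zgi3) (kgi xgi25 ygi54 zgi7) (kgi xgi23 ygi17 zgi23) (kgi xgi23 ygi52 zgi35) (kgi xgi21 ygi56 zgi45) (kgi xgi22 ygi35 zgi35) (kgi xgi31 ygi1 zgi27) (kgi xgi26 ygi12 zgi47) (kgi xgi30 ygi12 zgi47) (kgi xgi30 ygi13 zgi0) (kgi xgi26 ygi0 zgi43) (kgi xgi26 ygi0 zgi42) (kgi xgi24 ygi30 zgi55) (kgi xgi31 ygi2 zgi16) (kgi xgi26 ygi7 zgi26) (kgi xgi21 ygi6 zgi43) (kgi xgi31 ygi2 zgi38) (kgi xgi31 ygi54 zgi61) (kgi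 xgi31 ygi45 zgi1) (kgi xgi31 ygi2 zgi18) (kgi xgi32 ygi32 zgi47) (kgi xgi25 ygi45 zgi44) (kgi xgi21 ygi7 zgi15) (kgi xgi22 ygi9 zgi56) (kgi xgi21 ygi59 zgi4) (kgi xgi29 ygi21 zgi48) (kgi xgi21 ygi41 zgi10) (kgi xgi32 ygi24 zgi22) (kgi xgi21 ygi23 zgi4) (kgi xgi22 ygi11 zgi28) (kgi xgi26 ygi15 zgi52) (kgi xgi29 ygi15 zgi28) (kgi xgi30 ygi5 zgi1) (kgi xgi28 ygi1 zgi1) (kgi xgi27 ygi49 zgi47) (kgi xgi27 ygi29 zgi50) (kgi xgi26 ygi23 zgi42) (kgi xgi27 ygi56 zgi25)) (@D3.rec (fun _ => Pt) (kgi xgi24 ygi41 zgi30) (kgi xgi27 ygi3 zgi52) (kgi xgi24 ygi20 zgi24) (kgi xgi25 ygi42 zgi30) (kgi xgi31 ygi49 zgi58) (kgi xgi24 ygi10 zgi43) (kgi xgi30 ygi8 zgi23) (kgi xgi32 ygi48 zgi26) (kgi xgi21 ygi28 zgi18) (kgi xgi29 ygi51 zgi33) (kgi xgi31 ygi37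 zgi29) (kgi xgi24 ygi43 zgi14) (kgi xgi26 ygi0 zgi55) (kgi xgi23 ygi25 zgi1) (kgi xgi21 ygi56 zgi43) (kgi xgi23 ygi31 zgi40) (kgi xgi32 ygi48 zgi28) (kgi xgi21 ygi8 zgi58) (kgi xgi21 ygi56 zgi37) (kgi xgi27 ygi18 zgi29) (kgi xgi29 ygi8 zgi37) (kgi xgi26 ygi49 zgi60) (kgi xgi25 ygi34 zgi28) (kgi xgi29 ygi22 zgi10) (kgi xgi21 ygi9 zgi20) (kgi xgi28 ygi30 zgi60) (kgi xgi31 ygi50 zgi5) (kgi xgi28 ygi22 zgi54) (kgi xgi27 ygi10 zgi9) (kgi xgi25 ygi51 zgi1) (kgi xgi27 ygi19 zgi19) (kgi xgi26 ygi1 zgi52) (kgi xgi30 ygi11 zgi4) (kgi xgi23 ygi55 zgi36) (kgi xgi21 ygi28 zgi19) (kgi xgi21 ygi10 zgi15) (kgi xgi23 ygi2 zgi31) (kgi xgi21 ygi59 zgi28) (kgi xgi25 ygi44 zgi10) (kgi xgi26 ygi3 zgi10) (kgi xgi32 ygi36 zgi48) (kgi xgi22 ygi49 zgi31) (kgi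 xgi23 ygi45 zgi41) (kgi xgi29 ygi21 zgi39) (kgi xgi29 ygi21 zgi30) (kgi xgi21 ygi10 zgi27) (kgi xgi21 ygi11 zgi31) (kgi xgi21 ygi10 zgi28) (kgi xgi26 ygi31 zgi2) (kgi xgi26 ygi19 zgi26) (kgi xgi24 ygi46 zgi57) (kgi xgi32 ygi44 zgi4) (kgi xgi26 ygi31 zgi3) (kgi xgi26 ygi26 zgi43) (kgi xgi23 ygi8 zgi44) (kgi xgi32 ygi2 zgi30) (kgi xgi23 ygi7 zgi45) (kgi xgi23 ygi8 zgi42) (kgi xgi26 ygi31 zgi23) (kgi xgi21 ygi10 zgi41) (kgi xgi26 ygi31 zgi16) (kgi xgi26 ygi31 zgi13)) (@D3.rec (fun _ => Pt) (kgi xgi26 ygi21 zgi25) (kgi xgi21 ygi10 zgi45) (kgi xgi23 ygi4 zgi56) (kgi xgi21 ygi10 zgi46) (kgi xgi26 ygi31 zgi29) (kgi xgi21 ygi13 zgi22) (kgi xgi26 ygi27 zgi57) (kgi xgi26 ygi31 zgi39) (kgi xgi29 ygi20 zgi55) (kgi xgi21 ygi14 zgi44) (kgi xgi29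 ygi41 zgi56) (kgi xgi31 ygi16 zgi22) (kgi xgi23 ygi7 zgi41) (kgi xgi21 ygi12 zgi13) (kgi xgi24 ygi46 zgi2) (kgi xgi29 ygi54 zgi0) (kgi xgi31 ygi0 zgi11) (kgi xgi27 ygi3 zgi4) (kgi xgi26 ygi57 zgi49) (kgi xgi29 ygi32 zgi37) (kgi xgi21 ygi11 zgi1) (kgi xgi26 ygi32 zgi1) (kgi xgi31 ygi45 zgi54) (kgi xgi24 ygi56 zgi40) (kgi xgi30 ygi24 zgi34) (kgi xgi32 ygi32 zgi52) (kgi xgi21 ygi11 zgi9) (kgi xgi32 ygi28 zgi7) (kgi xgi28 ygi35 zgi5) (kgi xgi31 ygi28 zgi7) (kgi xgi26 ygi36 zgi34) (kgi xgi28 ygi40 zgi5) (kgi xgi26 ygi57 zgi16) (kgi xgi30 ygi4 zgi60) (kgi xgi31 ygi28 zgi27) (kgi xgi28 ygi39 zgi2) (kgi xgi30 ygi22 zgi29) (kgi xgi32 ygi37 zgi18) (kgi xgi29 ygi40 zgi54) (kgi xgi21 ygi11 zgi32) (kgi xgi32 ygi8 zgi56) (kgi xgi28 ygi52 zgi22)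 (kgi xgi29 ygi44 zgi29) (kgi xgi24 ygi45 zgi51) (kgi xgi30 ygi17 zgi6) (kgi xgi32 ygi9 zgi58) (kgi xgi26 ygi29 zgi46) (kgi xgi26 ygi50 zgi21) (kgi xgi30 ygi47 zgi32) (kgi xgi31 ygi53 zgi53) (kgi xgi27 ygi44 zgi23) (kgi xgi22 ygi54 zgi0) (kgi xgi27 ygi49 zgi43) (kgi xgi26 ygi24 zgi32) (kgi xgi22 ygi53 zgi24) (kgi xgi21 ygi12 zgi35) (kgi xgi31 ygi43 zgi7) (kgi xgi28 ygi12 zgi52) (kgi xgi21 ygi12 zgi7) (kgi xgi24 ygi57 zgi51) (kgi xgi21 ygi12 zgi10) (kgi xgi24 ygi57 zgi52)) (@D3.rec (fun _ => Pt) (kgi xgi29 ygi53 zgi13) (kgi xgi26 ygi0 zgi15) (kgi xgi23 ygi10 zgi39) (kgi xgi28 ygi43 zgi58) (kgi xgi31 ygi2 zgi55) (kgi xgi32 ygi8 zgi10) (kgi xgi21 ygi29 zgi0) (kgi xgi28 ygi12 zgi51) (kgi xgi30 ygi45 zgi57) (kgi xgi29 ygi25 zgi15) (kgi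 xgi24 ygi55 zgi12) (kgi xgi28 ygi5 zgi27) (kgi xgi26 ygi21 zgi43) (kgi xgi21 ygi12 zgi43) (kgi xgi26 ygi21 zgi45) (kgi xgi27 ygi49 zgi0) (kgi xgi27 ygi50 zgi4) (kgi xgi29 ygi54 zgi16) (kgi xgi32 ygi6 zgi12) (kgi xgi31 ygi44 zgi54) (kgi xgi22 ygi29 zgi38) (kgi xgi27 ygi50 zgi18) (kgi xgi26 ygi30 zgi22) (kgi xgi28 ygi31 zgi59) (kgi xgi25 ygi16 zgi30) (kgi xgi27 ygi52 zgi49) (kgi xgi29 ygi25 zgi4) (kgi xgi22 ygi42 zgi26) (kgi xgi26 ygi28 zgi5) (kgi xgi27 ygi17 zgi4) (kgi xgi21 ygi29 zgi58) (kgi xgi23 ygi7 zgi8) (kgi xgi27 ygi33 zgi15) (kgi xgi30 ygi44 zgi31) (kgi xgi24 ygi59 zgi24) (kgi xgi26 ygi5 zgi21) (kgi xgi31 ygi16 zgi3) (kgi xgi23 ygi14 zgi47) (kgi xgi29 ygi30 zgi6) (kgi xgi29 ygi18 zgi17) (kgi xgi23 ygi10 zgi27) (kgi xgi24 ygi8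 zgi18) (kgi xgi32 ygi48 zgi41) (kgi xgi28 ygi46 zgi41) (kgi xgi21 ygi13 zgi40) (kgi xgi21 ygi13 zgi50) (kgi xgi30 ygi49 zgi16) (kgi xgi21 ygi13 zgi47) (kgi xgi24 ygi14 zgi37) (kgi xgi21 ygi13 zgi45) (kgi xgi21 ygi13 zgi46) (kgi xgi32 ygi48 zgi43) (kgi xgi28 ygi46 zgi37) (kgi xgi29 ygi29 zgi43) (kgi xgi21 ygi13 zgi49) (kgi xgi26 ygi43 zgi45) (kgi xgi23 ygi52 zgi51) (kgi xgi29 ygi32 zgi43) (kgi xgi21 ygi13 zgi54) (kgi xgi23 ygi1 zgi12) (kgi xgi21 ygi13 zgi56) (kgi xgi32 ygi48 zgi42)) (@D3.rec (fun _ => Pt) (kgi xgi29 ygi35 zgi39) (kgi xgi30 ygi36 zgi55) (kgi xgi23 ygi42 zgi60) (kgi xgi23 ygi31 zgi22) (kgi xgi25 ygi52 zgi5) (kgi xgi32 ygi34 zgi47) (kgi xgi30 ygi28 zgi27) (kgi xgi30 ygi21 zgi39) (kgi xgi26 ygi53 zgi4) (kgi xgi31 ygi26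 zgi6) (kgi xgi29 ygi8 zgi40) (kgi xgi22 ygi37 zgi41) (kgi xgi29 ygi10 zgi19) (kgi xgi21 ygi14 zgi27) (kgi xgi31 ygi37 zgi1) (kgi xgi23 ygi15 zgi52) (kgi xgi24 ygi22 zgi0) (kgi xgi31 ygi8 zgi34) (kgi xgi30 ygi12 zgi39) (kgi xgi21 ygi19 zgi27) (kgi xgi23 ygi37 zgi5) (kgi xgi22 ygi43 zgi11) (kgi xgi31 ygi8 zgi57) (kgi xgi21 ygi14 zgi36) (kgi xgi23 ygi26 zgi7) (kgi xgi23 ygi26 zgi4) (kgi xgi21 ygi14 zgi42) (kgi xgi27 ygi58 zgi15) (kgi xgi29 ygi11 zgi6) (kgi xgi26 ygi28 zgi18) (kgi xgi30 ygi21 zgi12) (kgi xgi22 ygi58 zgi6) (kgi xgi22 ygi51 zgi47) (kgi xgi24 ygi55 zgi53) (kgi xgi30 ygi48 zgi50) (kgi xgi26 ygi29 zgi1) (kgi xgi22 ygi50 zgi10) (kgi xgi30 ygi33 zgi39) (kgi xgi21 ygi15 zgi35) (kgi xgi30 ygi46 zgi47) (kgi xgi23 ygi15 zgi48) (kgi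 xgi26 ygi32 zgi52) (kgi xgi30 ygi26 zgi6) (kgi xgi27 ygi39 zgi21) (kgi xgi23 ygi57 zgi31) (kgi xgi26 ygi56 zgi58) (kgi xgi32 ygi18 zgi28) (kgi xgi27 ygi39 zgi24) (kgi xgi22 ygi24 zgi11) (kgi xgi29 ygi42 zgi34) (kgi xgi21 ygi15 zgi60) (kgi xgi30 ygi28 zgi21) (kgi xgi23 ygi34 zgi26) (kgi xgi26 ygi51 zgi35) (kgi xgi24 ygi30 zgi12) (kgi xgi30 ygi28 zgi37) (kgi xgi21 ygi16 zgi14) (kgi xgi29 ygi25 zgi60) (kgi xgi27 ygi42 zgi53) (kgi xgi25 ygi53 zgi52) (kgi xgi27 ygi17 zgi24) (kgi xgi27 ygi1 zgi48)) (@D3.rec (fun _ => Pt) (kgi xgi32 ygi48 zgi46) (kgi xgi27 ygi2 zgi26) (kgi xgi25 ygi13 zgi20) (kgi xgi29 ygi51 zgi21) (kgi xgi21 ygi27 zgi4) (kgi xgi29 ygi51 zgi24) (kgi xgi30 ygi1 zgi34) (kgi xgi26 ygi51 zgi36) (kgi xgi30 ygi30 zgi6) (kgi xgi21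 ygi16 zgi42) (kgi xgi31 ygi27 zgi31) (kgi xgi29 ygi14 zgi26) (kgi xgi27 ygi19 zgi10) (kgi xgi27 ygi19 zgi5) (kgi xgi21 ygi16 zgi52) (kgi xgi32 ygi41 zgi21) (kgi xgi21 ygi16 zgi53) (kgi xgi28 ygi49 zgi46) (kgi xgi30 ygi5 zgi23) (kgi xgi29 ygi6 zgi48) (kgi xgi21 ygi50 zgi13) (kgi xgi21 ygi58 zgi12) (kgi xgi31 ygi49 zgi2) (kgi xgi32 ygi48 zgi9) (kgi xgi25 ygi56 zgi33) (kgi xgi29 ygi34 zgi59) (kgi xgi31 ygi35 zgi54) (kgi xgi30 ygi9 zgi37) (kgi xgi21 ygi17 zgi10) (kgi xgi32 ygi23 zgi57) (kgi xgi30 ygi9 zgi59) (kgi xgi22 ygi10 zgi27) (kgi xgi26 ygi1 zgi4) (kgi xgi27 ygi1 zgi40) (kgi xgi27 ygi26 zgi33) (kgi xgi27 ygi17 zgi50) (kgi xgi32 ygi42 zgi3) (kgi xgi21 ygi17 zgi58) (kgi xgi27 ygi3 zgi14) (kgi xgi27 ygi1 zgi45) (kgi xgi23 ygi22 zgi36)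 (kgi xgi24 ygi17 zgi30) (kgi xgi27 ygi18 zgi8) (kgi xgi21 ygi17 zgi25) (kgi xgi27 ygi18 zgi6) (kgi xgi31 ygi9 zgi59) (kgi xgi21 ygi17 zgi41) (kgi xgi27 ygi18 zgi16) (kgi xgi21 ygi17 zgi29) (kgi xgi21 ygi34 zgi18) (kgi xgi27 ygi48 zgi23) (kgi xgi23 ygi41 zgi13) (kgi xgi32 ygi42 zgi31) (kgi xgi32 ygi24 zgi29) (kgi xgi25 ygi40 zgi1) (kgi xgi22 ygi43 zgi24) (kgi xgi21 ygi17 zgi37) (kgi xgi21 ygi56 zgi46) (kgi xgi30 ygi33 zgi37) (kgi xgi21 ygi17 zgi38) (kgi xgi32 ygi48 zgi53) (kgi xgi32 ygi0 zgi10)) (@D3.rec (fun _ => Pt) (kgi xgi27 ygi18 zgi3) (kgi xgi23 ygi27 zgi52) (kgi xgi30 ygi51 zgi44) (kgi xgi27 ygi18 zgi14) (kgi xgi21 ygi19 zgi5) (kgi xgi21 ygi21 zgi11) (kgi xgi25 ygi57 zgi49) (kgi xgi21 ygi17 zgi47) (kgi xgi27 ygi23 zgi26) (kgi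 xgi25 ygi51 zgi9) (kgi xgi29 ygi15 zgi61) (kgi xgi31 ygi56 zgi24) (kgi xgi22 ygi10 zgi39) (kgi xgi27 ygi23 zgi29) (kgi xgi27 ygi1 zgi38) (kgi xgi32 ygi48 zgi56) (kgi xgi21 ygi17 zgi59) (kgi xgi21 ygi18 zgi2) (kgi xgi21 ygi27 zgi15) (kgi xgi32 ygi20 zgi1) (kgi xgi25 ygi6 zgi29) (kgi xgi23 ygi27 zgi9) (kgi xgi30 ygi4 zgi30) (kgi xgi32 ygi6 zgi18) (kgi xgi30 ygi14 zgi42) (kgi xgi30 ygi12 zgi45) (kgi xgi21 ygi40 zgi40) (kgi xgi21 ygi32 zgi31) (kgi xgi21 ygi18 zgi11) (kgi xgi29 ygi50 zgi52) (kgi xgi29 ygi50 zgi51) (kgi xgi29 ygi43 zgi51) (kgi xgi30 ygi13 zgi24) (kgi xgi30 ygi0 zgi47) (kgi xgi21 ygi28 zgi9) (kgi xgi30 ygi1 zgi39) (kgi xgi21 ygi28 zgi5) (kgi xgi30 ygi51 zgi47) (kgi xgi30 ygi4 zgi29) (kgi xgi29 ygi58 zgi3) (kgi xgi30 ygi1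 zgi40) (kgi xgi29 ygi58 zgi11) (kgi xgi32 ygi32 zgi44) (kgi xgi25 ygi39 zgi17) (kgi xgi21 ygi18 zgi25) (kgi xgi30 ygi3 zgi1) (kgi xgi21 ygi18 zgi26) (kgi xgi30 ygi4 zgi34) (kgi xgi30 ygi4 zgi32) (kgi xgi30 ygi4 zgi15) (kgi xgi21 ygi24 zgi21) (kgi xgi24 ygi43 zgi39) (kgi xgi30 ygi0 zgi40) (kgi xgi29 ygi55 zgi19) (kgi xgi21 ygi18 zgi32) (kgi xgi21 ygi18 zgi33) (kgi xgi21 ygi19 zgi31) (kgi xgi21 ygi19 zgi29) (kgi xgi27 ygi4 zgi16) (kgi xgi23 ygi49 zgi46) (kgi xgi25 ygi13 zgi31) (kgi xgi28 ygi31 zgi12)) (@D3.rec (fun _ => Pt) (kgi xgi30 ygi20 zgi14) (kgi xgi24 ygi43 zgi8) (kgi xgi29 ygi58 zgi12) (kgi xgi27 ygi18 zgi36) (kgi xgi23 ygi41 zgi5) (kgi xgi30 ygi20 zgi15) (kgi xgi21 ygi19 zgi6) (kgi xgi24 ygi23 zgi50) (kgi xgi29 ygi57 zgi43)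 (kgi xgi30 ygi0 zgi26) (kgi xgi23 ygi41 zgi6) (kgi xgi24 ygi23 zgi51) (kgi xgi29 ygi56 zgi49) (kgi xgi27 ygi23 zgi30) (kgi xgi21 ygi19 zgi17) (kgi xgi30 ygi2 zgi61) (kgi xgi29 ygi26 zgi53) (kgi xgi21 ygi39 zgi38) (kgi xgi32 ygi49 zgi6) (kgi xgi31 ygi3 zgi42) (kgi xgi25 ygi42 zgi43) (kgi xgi25 ygi42 zgi47) (kgi xgi27 ygi4 zgi34) (kgi xgi22 ygi43 zgi12) (kgi xgi29 ygi16 zgi60) (kgi xgi30 ygi7 zgi60) (kgi xgi23 ygi39 zgi16) (kgi xgi23 ygi59 zgi28) (kgi xgi29 ygi57 zgi54) (kgi xgi21 ygi19 zgi28) (kgi xgi21 ygi34 zgi41) (kgi xgi21 ygi34 zgi39) (kgi xgi25 ygi39 zgi9) (kgi xgi21 ygi39 zgi5) (kgi xgi30 ygi41 zgi7) (kgi xgi32 ygi32 zgi20) (kgi xgi24 ygi34 zgi7) (kgi xgi21 ygi19 zgi46) (kgi xgi21 ygi19 zgi50) (kgi xgi21 ygi24 zgi38) (kgi xgi27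 ygi29 zgi48) (kgi xgi26 ygi46 zgi39) (kgi xgi21 ygi31 zgi33) (kgi xgi30 ygi51 zgi49) (kgi xgi22 ygi42 zgi52) (kgi xgi25 ygi37 zgi42) (kgi xgi25 ygi55 zgi58) (kgi xgi23 ygi43 zgi53) (kgi xgi21 ygi20 zgi1) (kgi xgi23 ygi43 zgi55) (kgi xgi23 ygi2 zgi10) (kgi xgi23 ygi44 zgi15) (kgi xgi26 ygi14 zgi33) (kgi xgi29 ygi2 zgi40) (kgi xgi24 ygi19 zgi6) (kgi xgi28 ygi48 zgi15) (kgi xgi25 ygi15 zgi29) (kgi xgi29 ygi17 zgi4) (kgi xgi26 ygi59 zgi21) (kgi xgi29 ygi0 zgi7) (kgi xgi22 ygi3 zgi21) (kgi xgi32 ygi13 zgi12)) (@D3.rec (fun _ => Pt) (kgi xgi30 ygi6 zgi30) (kgi xgi22 ygi9 zgi33) (kgi xgi21 ygi21 zgi8) (kgi xgi29 ygi4 zgi47) (kgi xgi23 ygi41 zgi31) (kgi xgi21 ygi34 zgi46) (kgi xgi29 ygi43 zgi26) (kgi xgi21 ygi21 zgi19) (kgi xgi31 ygi43 zgi43)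 (kgi xgi25 ygi8 zgi24) (kgi xgi25 ygi8 zgi20) (kgi xgi21 ygi21 zgi24) (kgi xgi29 ygi17 zgi39) (kgi xgi32 ygi2 zgi43) (kgi xgi29 ygi17 zgi43) (kgi xgi21 ygi48 zgi38) (kgi xgi25 ygi14 zgi47) (kgi xgi21 ygi48 zgi37) (kgi xgi25 ygi14 zgi9) (kgi xgi21 ygi48 zgi33) (kgi xgi21 ygi48 zgi26) (kgi xgi26 ygi4 zgi40) (kgi xgi29 ygi17 zgi33) (kgi xgi23 ygi39 zgi18) (kgi xgi31 ygi55 zgi6) (kgi xgi29 ygi53 zgi33) (kgi xgi21 ygi59 zgi30) (kgi xgi30 ygi41 zgi0) (kgi xgi32 ygi49 zgi15) (kgi xgi23 ygi27 zgi16) (kgi xgi32 ygi48 zgi47) (kgi xgi25 ygi41 zgi61) (kgi xgi31 ygi9 zgi28) (kgi xgi30 ygi10 zgi29) (kgi xgi30 ygi40 zgi8) (kgi xgi31 ygi10 zgi48) (kgi xgi21 ygi21 zgi56) (kgi xgi30 ygi10 zgi51) (kgi xgi30 ygi10 zgi49) (kgi xgi25 ygi10 zgi2) (kgi xgi31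 ygi28 zgi56) (kgi xgi21 ygi22 zgi15) (kgi xgi27 ygi56 zgi50) (kgi xgi31 ygi18 zgi17) (kgi xgi23 ygi1 zgi2) (kgi xgi24 ygi38 zgi26) (kgi xgi32 ygi49 zgi13) (kgi xgi24 ygi38 zgi3) (kgi xgi21 ygi22 zgi24) (kgi xgi31 ygi18 zgi20) (kgi xgi21 ygi42 zgi59) (kgi xgi21 ygi43 zgi56) (kgi xgi21 ygi22 zgi42) (kgi xgi21 ygi22 zgi52) (kgi xgi30 ygi5 zgi16) (kgi xgi25 ygi9 zgi55) (kgi xgi31 ygi7 zgi25) (kgi xgi21 ygi23 zgi5) (kgi xgi27 ygi48 zgi16) (kgi xgi29 ygi22 zgi25) (kgi xgi26 ygi41 zgi20) (kgi xgi29 ygi9 zgi42))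
def fi_g_30 : D2 → D3 → Pt := @D2.rec (fun _ => D3 → Pt) (@D3.rec (fun _ => Pt) (kgi xgi24 ygi43 zgi31) (kgi xgi31 ygi41 zgi43) (kgi xgi28 ygi57 zgi42) (kgi xgi31 ygi48 zgi28) (kgi xgi21 ygi23 zgi41) (kgi xgi29 ygi13 zgi18) (kgi xgi21 ygi43 zgi1) (kgi xgi21 ygi23 zgi60) (kgi xgi21 ygi24 zgi3) (kgi xgi21 ygi24 zgi1) (kgi xgi21 ygi24 zgi4) (kgi xgi31 ygi17 zgi7) (kgi xgi32 ygi15 zgi35) (kgi xgi25 ygi10 zgi38) (kgi xgi29 ygi13 zgi14) (kgi xgi21 ygi24 zgi14) (kgi xgi27 ygi38 zgi20) (kgi xgi25 ygi17 zgi12) (kgi xgi30 ygi20 zgi28) (kgi xgi30 ygi12 zgi55) (kgi xgi30 ygi0 zgi38) (kgi xgi31 ygi49 zgi37) (kgi xgi23 ygi26 zgi12) (kgi xgi21 ygi24 zgi22) (kgi xgi21 ygi24 zgi42) (kgi xgi25 ygi42 zgi59) (kgi xgi21 ygi24 zgi26) (kgi xgi30 ygi41 zgi37)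 (kgi xgi32 ygi38 zgi23) (kgi xgi30 ygi3 zgi32) (kgi xgi23 ygi2 zgi28) (kgi xgi21 ygi24 zgi33) (kgi xgi30 ygi2 zgi22) (kgi xgi30 ygi19 zgi44) (kgi xgi25 ygi40 zgi11) (kgi xgi23 ygi44 zgi28) (kgi xgi28 ygi13 zgi31) (kgi xgi23 ygi42 zgi47) (kgi xgi21 ygi24 zgi40) (kgi xgi30 ygi0 zgi20) (kgi xgi29 ygi57 zgi50) (kgi xgi26 ygi47 zgi12) (kgi xgi21 ygi24 zgi41) (kgi xgi27 ygi4 zgi39) (kgi xgi31 ygi2 zgi14) (kgi xgi27 ygi4 zgi36) (kgi xgi29 ygi57 zgi33) (kgi xgi32 ygi48 zgi21) (kgi xgi31 ygi50 zgi6) (kgi xgi26 ygi3 zgi59) (kgi xgi27 ygi3 zgi48) (kgi xgi21 ygi26 zgi15) (kgi xgi27 ygi48 zgi44) (kgi xgi23 ygi43 zgi57) (kgi xgi23 ygi45 zgi22) (kgi xgi32 ygi49 zgi23) (kgi xgi25 ygi0 zgi23) (kgi xgi21 ygi25 zgi14) (kgi xgi23 ygi45 zgi4) (kgi xgi23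 ygi44 zgi0) (kgi xgi21 ygi25 zgi15) (kgi xgi23 ygi45 zgi3)) (@D3.rec (fun _ => Pt) (kgi xgi31 ygi59 zgi30) (kgi xgi31 ygi43 zgi11) (kgi xgi30 ygi13 zgi4) (kgi xgi21 ygi25 zgi26) (kgi xgi32 ygi6 zgi38) (kgi xgi31 ygi0 zgi0) (kgi xgi23 ygi44 zgi32) (kgi xgi28 ygi3 zgi0) (kgi xgi25 ygi3 zgi19) (kgi xgi30 ygi20 zgi27) (kgi xgi31 ygi46 zgi36) (kgi xgi30 ygi11 zgi36) (kgi xgi25 ygi2 zgi55) (kgi xgi30 ygi4 zgi16) (kgi xgi27 ygi26 zgi13) (kgi xgi21 ygi26 zgi13) (kgi xgi24 ygi40 zgi57) (kgi xgi29 ygi50 zgi29) (kgi xgi31 ygi14 zgi34) (kgi xgi27 ygi30 zgi54) (kgi xgi27 ygi31 zgi51) (kgi xgi24 ygi44 zgi12) (kgi xgi30 ygi42 zgi7) (kgi xgi21 ygi26 zgi53) (kgi xgi21 ygi31 zgi39) (kgi xgi27 ygi25 zgi31) (kgi xgi25 ygi31 zgi4) (kgi xgi21 ygi55 zgi45)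 (kgi xgi32 ygi48 zgi27) (kgi xgi27 ygi7 zgi46) (kgi xgi21 ygi27 zgi5) (kgi xgi27 ygi23 zgi34) (kgi xgi25 ygi40 zgi20) (kgi xgi25 ygi38 zgi2) (kgi xgi29 ygi56 zgi4) (kgi xgi31 ygi9 zgi55) (kgi xgi29 ygi5 zgi13) (kgi xgi29 ygi5 zgi12) (kgi xgi25 ygi30 zgi45) (kgi xgi29 ygi56 zgi31) (kgi xgi32 ygi24 zgi32) (kgi xgi31 ygi9 zgi21) (kgi xgi22 ygi3 zgi24) (kgi xgi30 ygi12 zgi44) (kgi xgi27 ygi1 zgi54) (kgi xgi32 ygi38 zgi13) (kgi xgi25 ygi35 zgi6) (kgi xgi21 ygi27 zgi36) (kgi xgi30 ygi1 zgi57) (kgi xgi22 ygi2 zgi14) (kgi xgi29 ygi56 zgi32) (kgi xgi23 ygi21 zgi10) (kgi xgi21 ygi27 zgi46) (kgi xgi21 ygi27 zgi47) (kgi xgi30 ygi12 zgi46) (kgi xgi25 ygi41 zgi16) (kgi xgi23 ygi30 zgi37) (kgi xgi30 ygi19 zgi48) (kgi xgi31 ygi58 zgi26) (kgi xgi22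 ygi39 zgi11) (kgi xgi21 ygi27 zgi55) (kgi xgi26 ygi3 zgi53)) (@D3.rec (fun _ => Pt) (kgi xgi25 ygi39 zgi37) (kgi xgi23 ygi1 zgi60) (kgi xgi29 ygi48 zgi53) (kgi xgi30 ygi13 zgi16) (kgi xgi23 ygi20 zgi13) (kgi xgi23 ygi37 zgi23) (kgi xgi21 ygi28 zgi3) (kgi xgi23 ygi15 zgi32) (kgi xgi23 ygi20 zgi15) (kgi xgi31 ygi58 zgi38) (kgi xgi31 ygi58 zgi18) (kgi xgi31 ygi6 zgi5) (kgi xgi30 ygi12 zgi57) (kgi xgi30 ygi57 zgi31) (kgi xgi22 ygi46 zgi9) (kgi xgi32 ygi19 zgi50) (kgi xgi30 ygi7 zgi25) (kgi xgi30 ygi2 zgi19) (kgi xgi30 ygi59 zgi7) (kgi xgi23 ygi13 zgi61) (kgi xgi30 ygi57 zgi11) (kgi xgi30 ygi7 zgi19) (kgi xgi21 ygi55 zgi44) (kgi xgi30 ygi59 zgi29) (kgi xgi32 ygi5 zgi28) (kgi xgi28 ygi41 zgi17) (kgi xgi27 ygi1 zgi22) (kgi xgi31 ygi7 zgi22)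 (kgi xgi23 ygi50 zgi22) (kgi xgi21 ygi43 zgi28) (kgi xgi30 ygi13 zgi14) (kgi xgi31 ygi57 zgi48) (kgi xgi21 ygi28 zgi28) (kgi xgi27 ygi4 zgi28) (kgi xgi25 ygi18 zgi12) (kgi xgi30 ygi24 zgi24) (kgi xgi21 ygi51 zgi49) (kgi xgi29 ygi39 zgi41) (kgi xgi21 ygi53 zgi7) (kgi xgi26 ygi27 zgi18) (kgi xgi24 ygi59 zgi54) (kgi xgi31 ygi2 zgi7) (kgi xgi23 ygi38 zgi25) (kgi xgi23 ygi22 zgi49) (kgi xgi23 ygi24 zgi16) (kgi xgi23 ygi38 zgi24) (kgi xgi28 ygi1 zgi3) (kgi xgi21 ygi29 zgi33) (kgi xgi21 ygi29 zgi22) (kgi xgi27 ygi40 zgi38) (kgi xgi28 ygi12 zgi35) (kgi xgi21 ygi29 zgi27) (kgi xgi32 ygi42 zgi58) (kgi xgi25 ygi2 zgi6) (kgi xgi27 ygi28 zgi44) (kgi xgi25 ygi0 zgi3) (kgi xgi29 ygi26 zgi38) (kgi xgi22 ygi40 zgi43) (kgi xgi21 ygi29 zgi40) (kgi xgi31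 ygi5 zgi29) (kgi xgi30 ygi40 zgi56) (kgi xgi29 ygi58 zgi14)) (@D3.rec (fun _ => Pt) (kgi xgi23 ygi41 zgi0) (kgi xgi29 ygi57 zgi44) (kgi xgi21 ygi29 zgi45) (kgi xgi31 ygi7 zgi5) (kgi xgi23 ygi26 zgi0) (kgi xgi24 ygi23 zgi53) (kgi xgi24 ygi54 zgi18) (kgi xgi30 ygi44 zgi33) (kgi xgi32 ygi49 zgi34) (kgi xgi27 ygi47 zgi41) (kgi xgi31 ygi27 zgi51) (kgi xgi24 ygi53 zgi50) (kgi xgi22 ygi39 zgi10) (kgi xgi28 ygi2 zgi42) (kgi xgi21 ygi30 zgi0) (kgi xgi23 ygi37 zgi41) (kgi xgi32 ygi9 zgi4) (kgi xgi26 ygi26 zgi40) (kgi xgi30 ygi27 zgi2) (kgi xgi22 ygi4 zgi59) (kgi xgi32 ygi47 zgi8) (kgi xgi27 ygi37 zgi36) (kgi xgi30 ygi37 zgi38) (kgi xgi22 ygi33 zgi2) (kgi xgi27 ygi9 zgi16) (kgi xgi26 ygi18 zgi10) (kgi xgi21 ygi31 zgi5) (kgi xgi21 ygi42 zgi21)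 (kgi xgi21 ygi31 zgi6) (kgi xgi32 ygi2 zgi55) (kgi xgi21 ygi32 zgi52) (kgi xgi24 ygi44 zgi6) (kgi xgi31 ygi7 zgi21) (kgi xgi25 ygi39 zgi7) (kgi xgi27 ygi40 zgi52) (kgi xgi30 ygi52 zgi8) (kgi xgi28 ygi36 zgi16) (kgi xgi31 ygi6 zgi15) (kgi xgi21 ygi45 zgi45) (kgi xgi27 ygi43 zgi35) (kgi xgi21 ygi31 zgi41) (kgi xgi28 ygi55 zgi0) (kgi xgi23 ygi55 zgi59) (kgi xgi21 ygi31 zgi48) (kgi xgi26 ygi3 zgi47) (kgi xgi30 ygi3 zgi55) (kgi xgi21 ygi42 zgi11) (kgi xgi22 ygi2 zgi57) (kgi xgi23 ygi58 zgi35) (kgi xgi32 ygi21 zgi18) (kgi xgi29 ygi28 zgi53) (kgi xgi23 ygi36 zgi10) (kgi xgi32 ygi8 zgi46) (kgi xgi27 ygi17 zgi22) (kgi xgi21 ygi32 zgi18) (kgi xgi29 ygi50 zgi35) (kgi xgi30 ygi37 zgi40) (kgi xgi29 ygi23 zgi9) (kgi xgi22 ygi21 zgi43) (kgi xgi27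 ygi43 zgi1) (kgi xgi21 ygi32 zgi32) (kgi xgi31 ygi50 zgi28)) (@D3.rec (fun _ => Pt) (kgi xgi30 ygi3 zgi47) (kgi xgi21 ygi32 zgi51) (kgi xgi26 ygi15 zgi13) (kgi xgi25 ygi40 zgi12) (kgi xgi21 ygi48 zgi55) (kgi xgi28 ygi27 zgi22) (kgi xgi31 ygi5 zgi8) (kgi xgi22 ygi3 zgi25) (kgi xgi21 ygi45 zgi39) (kgi xgi28 ygi25 zgi6) (kgi xgi22 ygi40 zgi35) (kgi xgi23 ygi35 zgi3) (kgi xgi24 ygi45 zgi9) (kgi xgi24 ygi42 zgi6) (kgi xgi21 ygi55 zgi22) (kgi xgi27 ygi27 zgi19) (kgi xgi30 ygi1 zgi18) (kgi xgi22 ygi8 zgi18) (kgi xgi24 ygi45 zgi23) (kgi xgi32 ygi6 zgi21) (kgi xgi31 ygi6 zgi24) (kgi xgi23 ygi42 zgi46) (kgi xgi31 ygi35 zgi59) (kgi xgi21 ygi58 zgi4) (kgi xgi30 ygi14 zgi19) (kgi xgi28 ygi3 zgi8) (kgi xgi21 ygi45 zgi17) (kgi xgi29 ygi51 zgi11)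 (kgi xgi26 ygi15 zgi25) (kgi xgi27 ygi18 zgi18) (kgi xgi29 ygi57 zgi15) (kgi xgi25 ygi37 zgi61) (kgi xgi21 ygi34 zgi19) (kgi xgi29 ygi57 zgi48) (kgi xgi29 ygi57 zgi46) (kgi xgi29 ygi58 zgi16) (kgi xgi29 ygi51 zgi17) (kgi xgi29 ygi51 zgi15) (kgi xgi30 ygi11 zgi3) (kgi xgi21 ygi34 zgi29) (kgi xgi29 ygi51 zgi12) (kgi xgi23 ygi39 zgi61) (kgi xgi29 ygi50 zgi36) (kgi xgi32 ygi48 zgi25) (kgi xgi32 ygi19 zgi51) (kgi xgi25 ygi38 zgi56) (kgi xgi31 ygi10 zgi28) (kgi xgi30 ygi42 zgi4) (kgi xgi21 ygi34 zgi38) (kgi xgi22 ygi43 zgi31) (kgi xgi31 ygi56 zgi50) (kgi xgi21 ygi48 zgi59) (kgi xgi23 ygi27 zgi41) (kgi xgi32 ygi27 zgi51) (kgi xgi29 ygi59 zgi34) (kgi xgi31 ygi5 zgi20) (kgi xgi31 ygi9 zgi18) (kgi xgi30 ygi12 zgi61) (kgi xgi21 ygi46 zgi29)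 (kgi xgi27 ygi46 zgi31) (kgi xgi30 ygi17 zgi13) (kgi xgi29 ygi58 zgi59)) (@D3.rec (fun _ => Pt) (kgi xgi27 ygi50 zgi13) (kgi xgi29 ygi51 zgi57) (kgi xgi21 ygi35 zgi22) (kgi xgi27 ygi54 zgi50) (kgi xgi29 ygi48 zgi11) (kgi xgi27 ygi8 zgi59) (kgi xgi21 ygi35 zgi27) (kgi xgi27 ygi6 zgi55) (kgi xgi27 ygi6 zgi53) (kgi xgi21 ygi35 zgi40) (kgi xgi29 ygi22 zgi55) (kgi xgi27 ygi20 zgi25) (kgi xgi21 ygi47 zgi35) (kgi xgi28 ygi50 zgi15) (kgi xgi27 ygi48 zgi35) (kgi xgi21 ygi36 zgi8) (kgi xgi27 ygi48 zgi20) (kgi xgi21 ygi49 zgi13) (kgi xgi21 ygi54 zgi58) (kgi xgi24 ygi20 zgi35) (kgi xgi24 ygi33 zgi15) (kgi xgi29 ygi2 zgi48) (kgi xgi28 ygi49 zgi54) (kgi xgi27 ygi48 zgi18) (kgi xgi29 ygi57 zgi51) (kgi xgi29 ygi14 zgi31) (kgi xgi21 ygi37 zgi12) (kgi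 xgi28 ygi28 zgi36) (kgi xgi31 ygi6 zgi60) (kgi xgi21 ygi37 zgi29) (kgi xgi27 ygi42 zgi17) (kgi xgi22 ygi38 zgi27) (kgi xgi31 ygi12 zgi25) (kgi xgi24 ygi38 zgi12) (kgi xgi24 ygi53 zgi14) (kgi xgi26 ygi49 zgi56) (kgi xgi29 ygi19 zgi8) (kgi xgi28 ygi0 zgi45) (kgi xgi32 ygi20 zgi39) (kgi xgi21 ygi38 zgi31) (kgi xgi22 ygi13 zgi37) (kgi xgi23 ygi47 zgi5) (kgi xgi32 ygi49 zgi59) (kgi xgi32 ygi48 zgi3) (kgi xgi32 ygi19 zgi42) (kgi xgi32 ygi19 zgi34) (kgi xgi32 ygi33 zgi16) (kgi xgi21 ygi38 zgi36) (kgi xgi32 ygi20 zgi40) (kgi xgi32 ygi20 zgi15) (kgi xgi32 ygi39 zgi59) (kgi xgi32 ygi39 zgi43) (kgi xgi21 ygi38 zgi38) (kgi xgi28 ygi16 zgi48) (kgi xgi30 ygi44 zgi59) (kgi xgi27 ygi6 zgi57) (kgi xgi27 ygi8 zgi56) (kgi xgi28 ygi52 zgi61) (kgi xgi32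 ygi50 zgi5) (kgi xgi21 ygi38 zgi45) (kgi xgi30 ygi19 zgi19) (kgi xgi21 ygi49 zgi47)) (@D3.rec (fun _ => Pt) (kgi xgi21 ygi38 zgi50) (kgi xgi22 ygi48 zgi59) (kgi xgi22 ygi20 zgi54) (kgi xgi21 ygi48 zgi52) (kgi xgi21 ygi39 zgi0) (kgi xgi21 ygi46 zgi43) (kgi xgi32 ygi3 zgi18) (kgi xgi32 ygi50 zgi6) (kgi xgi25 ygi28 zgi7) (kgi xgi29 ygi57 zgi31) (kgi xgi30 ygi10 zgi16) (kgi xgi21 ygi39 zgi4) (kgi xgi27 ygi20 zgi44) (kgi xgi32 ygi49 zgi7) (kgi xgi30 ygi10 zgi10) (kgi xgi32 ygi48 zgi22) (kgi xgi23 ygi6 zgi42) (kgi xgi23 ygi29 zgi8) (kgi xgi23 ygi47 zgi30) (kgi xgi21 ygi39 zgi14) (kgi xgi25 ygi31 zgi53) (kgi xgi21 ygi39 zgi16) (kgi xgi31 ygi37 zgi22) (kgi xgi31 ygi27 zgi34) (kgi xgi27 ygi11 zgi25) (kgi xgi30 ygi9 zgi53) (kgi xgi25 ygi39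 zgi32) (kgi xgi30 ygi19 zgi58) (kgi xgi28 ygi47 zgi12) (kgi xgi25 ygi31 zgi43) (kgi xgi26 ygi41 zgi30) (kgi xgi24 ygi45 zgi6) (kgi xgi21 ygi39 zgi37) (kgi xgi32 ygi1 zgi61) (kgi xgi21 ygi39 zgi36) (kgi xgi31 ygi49 zgi33) (kgi xgi25 ygi54 zgi32) (kgi xgi32 ygi23 zgi42) (kgi xgi28 ygi41 zgi0) (kgi xgi21 ygi39 zgi40) (kgi xgi22 ygi1 zgi52) (kgi xgi29 ygi0 zgi22) (kgi xgi31 ygi23 zgi18) (kgi xgi22 ygi9 zgi52) (kgi xgi21 ygi39 zgi47) (kgi xgi30 ygi20 zgi21) (kgi xgi32 ygi29 zgi18) (kgi xgi30 ygi19 zgi56) (kgi xgi25 ygi29 zgi44) (kgi xgi31 ygi37 zgi5) (kgi xgi27 ygi13 zgi16) (kgi xgi27 ygi15 zgi36) (kgi xgi21 ygi39 zgi60) (kgi xgi25 ygi57 zgi24) (kgi xgi32 ygi50 zgi13) (kgi xgi30 ygi54 zgi5) (kgi xgi23 ygi57 zgi35) (kgi xgi32 ygi23 zgi12)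 (kgi xgi21 ygi40 zgi10) (kgi xgi23 ygi58 zgi16) (kgi xgi25 ygi59 zgi51) (kgi xgi28 ygi56 zgi16)) (@D3.rec (fun _ => Pt) (kgi xgi25 ygi55 zgi46) (kgi xgi27 ygi6 zgi61) (kgi xgi26 ygi53 zgi52) (kgi xgi24 ygi25 zgi43) (kgi xgi29 ygi24 zgi28) (kgi xgi25 ygi17 zgi10) (kgi xgi23 ygi49 zgi12) (kgi xgi27 ygi38 zgi10) (kgi xgi27 ygi35 zgi34) (kgi xgi26 ygi39 zgi40) (kgi xgi29 ygi54 zgi57) (kgi xgi31 ygi1 zgi45) (kgi xgi25 ygi34 zgi44) (kgi xgi25 ygi34 zgi56) (kgi xgi22 ygi37 zgi59) (kgi xgi30 ygi25 zgi0) (kgi xgi32 ygi1 zgi26) (kgi xgi24 ygi31 zgi31) (kgi xgi30 ygi58 zgi50) (kgi xgi30 ygi33 zgi18) (kgi xgi31 ygi12 zgi24) (kgi xgi31 ygi7 zgi52) (kgi xgi21 ygi40 zgi61) (kgi xgi24 ygi31 zgi33) (kgi xgi23 ygi45 zgi14) (kgi xgi23 ygi31 zgi31) (kgi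 xgi30 ygi12 zgi18) (kgi xgi23 ygi29 zgi17) (kgi xgi30 ygi20 zgi45) (kgi xgi30 ygi23 zgi42) (kgi xgi23 ygi51 zgi58) (kgi xgi24 ygi21 zgi42) (kgi xgi23 ygi51 zgi57) (kgi xgi32 ygi7 zgi35) (kgi xgi28 ygi25 zgi31) (kgi xgi32 ygi24 zgi27) (kgi xgi30 ygi12 zgi50) (kgi xgi31 ygi14 zgi18) (kgi xgi26 ygi10 zgi49) (kgi xgi21 ygi50 zgi18) (kgi xgi27 ygi1 zgi25) (kgi xgi21 ygi46 zgi1) (kgi xgi21 ygi46 zgi52) (kgi xgi21 ygi46 zgi50) (kgi xgi24 ygi45 zgi21) (kgi xgi21 ygi43 zgi6) (kgi xgi21 ygi47 zgi3) (kgi xgi31 ygi55 zgi60) (kgi xgi21 ygi48 zgi3) (kgi xgi26 ygi34 zgi53) (kgi xgi25 ygi13 zgi10) (kgi xgi29 ygi16 zgi16) (kgi xgi31 ygi54 zgi10) (kgi xgi31 ygi56 zgi0) (kgi xgi21 ygi43 zgi23) (kgi xgi21 ygi48 zgi4) (kgi xgi30 ygi10 zgi15) (kgi xgi24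 ygi22 zgi9) (kgi xgi24 ygi27 zgi5) (kgi xgi32 ygi16 zgi20) (kgi xgi23 ygi27 zgi33) (kgi xgi31 ygi54 zgi58)) (@D3.rec (fun _ => Pt) (kgi xgi21 ygi49 zgi29) (kgi xgi29 ygi42 zgi52) (kgi xgi31 ygi32 zgi25) (kgi xgi22 ygi39 zgi54) (kgi xgi31 ygi49 zgi59) (kgi xgi21 ygi50 zgi22) (kgi xgi21 ygi43 zgi50) (kgi xgi32 ygi0 zgi39) (kgi xgi25 ygi14 zgi8) (kgi xgi24 ygi16 zgi57) (kgi xgi21 ygi43 zgi57) (kgi xgi27 ygi5 zgi55) (kgi xgi21 ygi44 zgi3) (kgi xgi21 ygi51 zgi24) (kgi xgi24 ygi1 zgi57) (kgi xgi22 ygi26 zgi35) (kgi xgi22 ygi46 zgi49) (kgi xgi27 ygi43 zgi20) (kgi xgi29 ygi42 zgi60) (kgi xgi21 ygi45 zgi9) (kgi xgi27 ygi43 zgi30) (kgi xgi29 ygi17 zgi26) (kgi xgi28 ygi31 zgi30) (kgi xgi29 ygi52 zgi7) (kgi xgi26 ygi48 zgi6) (kgi xgi24 ygi22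 zgi34) (kgi xgi24 ygi41 zgi26) (kgi xgi31 ygi21 zgi2) (kgi xgi28 ygi14 zgi7) (kgi xgi24 ygi7 zgi21) (kgi xgi21 ygi45 zgi41) (kgi xgi24 ygi2 zgi21) (kgi xgi25 ygi14 zgi31) (kgi xgi21 ygi47 zgi25) (kgi xgi27 ygi48 zgi39) (kgi xgi27 ygi5 zgi2) (kgi xgi21 ygi50 zgi8) (kgi xgi21 ygi57 zgi10) (kgi xgi21 ygi59 zgi32) (kgi xgi25 ygi13 zgi38) (kgi xgi22 ygi2 zgi42) (kgi xgi22 ygi11 zgi0) (kgi xgi26 ygi16 zgi47) (kgi xgi26 ygi0 zgi2) (kgi xgi21 ygi59 zgi0) (kgi xgi25 ygi54 zgi23) (kgi xgi25 ygi29 zgi45) (kgi xgi30 ygi17 zgi4) (kgi xgi32 ygi38 zgi54) (kgi xgi25 ygi54 zgi1) (kgi xgi31 ygi38 zgi26) (kgi xgi21 ygi46 zgi53) (kgi xgi30 ygi8 zgi53) (kgi xgi30 ygi8 zgi51) (kgi xgi21 ygi55 zgi35) (kgi xgi27 ygi3 zgi57) (kgi xgi23 ygi34 zgi50) (kgi xgi30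 ygi11 zgi11) (kgi xgi29 ygi0 zgi11) (kgi xgi24 ygi42 zgi44) (kgi xgi24 ygi20 zgi26) (kgi xgi21 ygi47 zgi4)) (@D3.rec (fun _ => Pt) (kgi xgi25 ygi13 zgi13) (kgi xgi21 ygi51 zgi22) (kgi xgi23 ygi13 zgi2) (kgi xgi24 ygi3 zgi60) (kgi xgi28 ygi42 zgi57) (kgi xgi27 ygi22 zgi30) (kgi xgi30 ygi18 zgi19) (kgi xgi29 ygi23 zgi11) (kgi xgi26 ygi43 zgi19) (kgi xgi28 ygi51 zgi47) (kgi xgi29 ygi36 zgi36) (kgi xgi28 ygi52 zgi47) (kgi xgi21 ygi47 zgi42) (kgi xgi28 ygi57 zgi19) (kgi xgi24 ygi35 zgi37) (kgi xgi29 ygi17 zgi52) (kgi xgi22 ygi4 zgi58) (kgi xgi28 ygi57 zgi25) (kgi xgi28 ygi59 zgi20) (kgi xgi25 ygi50 zgi57) (kgi xgi32 ygi0 zgi44) (kgi xgi27 ygi41 zgi13) (kgi xgi29 ygi59 zgi6) (kgi xgi24 ygi11 zgi25) (kgi xgi29 ygi0 zgi0) (kgi xgi28 ygi58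 zgi17) (kgi xgi31 ygi47 zgi1) (kgi xgi32 ygi12 zgi8) (kgi xgi32 ygi4 zgi1) (kgi xgi28 ygi54 zgi29) (kgi xgi21 ygi50 zgi32) (kgi xgi21 ygi50 zgi30) (kgi xgi29 ygi4 zgi58) (kgi xgi32 ygi50 zgi7) (kgi xgi32 ygi43 zgi51) (kgi xgi27 ygi36 zgi12) (kgi xgi31 ygi34 zgi20) (kgi xgi32 ygi50 zgi31) (kgi xgi28 ygi54 zgi32) (kgi xgi26 ygi44 zgi37) (kgi xgi30 ygi11 zgi22) (kgi xgi29 ygi5 zgi6) (kgi xgi29 ygi11 zgi53) (kgi xgi29 ygi37 zgi30) (kgi xgi21 ygi48 zgi32) (kgi xgi23 ygi1 zgi35) (kgi xgi30 ygi11 zgi18) (kgi xgi32 ygi2 zgi59) (kgi xgi23 ygi28 zgi35) (kgi xgi29 ygi6 zgi44) (kgi xgi21 ygi48 zgi36) (kgi xgi25 ygi10 zgi52) (kgi xgi31 ygi20 zgi29) (kgi xgi30 ygi6 zgi24) (kgi xgi32 ygi49 zgi51) (kgi xgi32 ygi42 zgi28) (kgi xgi31 ygi24 zgi47) (kgi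 xgi21 ygi48 zgi39) (kgi xgi21 ygi48 zgi43) (kgi xgi27 ygi18 zgi45) (kgi xgi31 ygi3 zgi31) (kgi xgi21 ygi48 zgi42)) (@D3.rec (fun _ => Pt) (kgi xgi31 ygi3 zgi27) (kgi xgi29 ygi5 zgi31) (kgi xgi31 ygi47 zgi23) (kgi xgi30 ygi37 zgi10) (kgi xgi21 ygi48 zgi45) (kgi xgi29 ygi3 zgi52) (kgi xgi29 ygi5 zgi22) (kgi xgi27 ygi4 zgi12) (kgi xgi31 ygi47 zgi11) (kgi xgi31 ygi3 zgi54) (kgi xgi21 ygi48 zgi56) (kgi xgi30 ygi6 zgi14) (kgi xgi31 ygi11 zgi20) (kgi xgi30 ygi8 zgi43) (kgi xgi30 ygi7 zgi56) (kgi xgi30 ygi10 zgi23) (kgi xgi21 ygi48 zgi60) (kgi xgi30 ygi6 zgi10) (kgi xgi30 ygi33 zgi9) (kgi xgi30 ygi52 zgi28) (kgi xgi21 ygi49 zgi1) (kgi xgi31 ygi18 zgi26) (kgi xgi28 ygi56 zgi56) (kgi xgi30 ygi10 zgi14) (kgi xgi21 ygi49 zgi4) (kgi xgi31 ygi37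 zgi39) (kgi xgi31 ygi9 zgi34) (kgi xgi23 ygi28 zgi26) (kgi xgi21 ygi49 zgi10) (kgi xgi21 ygi49 zgi25) (kgi xgi31 ygi49 zgi42) (kgi xgi21 ygi49 zgi15) (kgi xgi32 ygi42 zgi59) (kgi xgi31 ygi3 zgi17) (kgi xgi30 ygi16 zgi61) (kgi xgi25 ygi40 zgi16) (kgi xgi30 ygi33 zgi26) (kgi xgi29 ygi58 zgi32) (kgi xgi31 ygi57 zgi6) (kgi xgi27 ygi18 zgi32) (kgi xgi32 ygi3 zgi9) (kgi xgi28 ygi42 zgi50) (kgi xgi23 ygi26 zgi57) (kgi xgi25 ygi39 zgi38) (kgi xgi25 ygi27 zgi2) (kgi xgi32 ygi48 zgi54) (kgi xgi21 ygi49 zgi22) (kgi xgi23 ygi21 zgi47) (kgi xgi31 ygi8 zgi30) (kgi xgi21 ygi49 zgi24) (kgi xgi29 ygi59 zgi38) (kgi xgi29 ygi59 zgi36) (kgi xgi21 ygi49 zgi26) (kgi xgi29 ygi58 zgi25) (kgi xgi21 ygi49 zgi27) (kgi xgi21 ygi49 zgi28) (kgi xgi31 ygi55 zgi4)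 (kgi xgi31 ygi36 zgi33) (kgi xgi31 ygi9 zgi1) (kgi xgi21 ygi49 zgi32) (kgi xgi23 ygi26 zgi35) (kgi xgi28 ygi20 zgi7)) (@D3.rec (fun _ => Pt) (kgi xgi22 ygi35 zgi60) (kgi xgi29 ygi35 zgi8) (kgi xgi21 ygi49 zgi48) (kgi xgi24 ygi39 zgi10) (kgi xgi29 ygi52 zgi31) (kgi xgi27 ygi19 zgi54) (kgi xgi25 ygi44 zgi40) (kgi xgi21 ygi50 zgi6) (kgi xgi26 ygi16 zgi58) (kgi xgi30 ygi14 zgi26) (kgi xgi25 ygi41 zgi41) (kgi xgi30 ygi8 zgi58) (kgi xgi21 ygi50 zgi40) (kgi xgi22 ygi6 zgi24) (kgi xgi32 ygi24 zgi44) (kgi xgi21 ygi50 zgi24) (kgi xgi24 ygi3 zgi18) (kgi xgi30 ygi9 zgi49) (kgi xgi21 ygi50 zgi29) (kgi xgi30 ygi9 zgi46) (kgi xgi31 ygi10 zgi54) (kgi xgi32 ygi23 zgi37) (kgi xgi21 ygi50 zgi31) (kgi xgi31 ygi56 zgi15) (kgi xgi21 ygi50 zgi36) (kgi xgi21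 ygi50 zgi38) (kgi xgi31 ygi27 zgi2) (kgi xgi21 ygi59 zgi35) (kgi xgi27 ygi37 zgi52) (kgi xgi21 ygi50 zgi61) (kgi xgi27 ygi20 zgi40) (kgi xgi30 ygi23 zgi6) (kgi xgi22 ygi32 zgi12) (kgi xgi28 ygi47 zgi49) (kgi xgi31 ygi28 zgi31) (kgi xgi24 ygi25 zgi20) (kgi xgi28 ygi27 zgi38) (kgi xgi24 ygi25 zgi54) (kgi xgi22 ygi11 zgi19) (kgi xgi24 ygi25 zgi24) (kgi xgi28 ygi39 zgi36) (kgi xgi22 ygi25 zgi8) (kgi xgi21 ygi52 zgi32) (kgi xgi21 ygi52 zgi36) (kgi xgi28 ygi49 zgi3) (kgi xgi24 ygi9 zgi51) (kgi xgi24 ygi24 zgi40) (kgi xgi21 ygi52 zgi37) (kgi xgi24 ygi13 zgi54) (kgi xgi28 ygi18 zgi53) (kgi xgi32 ygi34 zgi15) (kgi xgi21 ygi52 zgi41) (kgi xgi23 ygi34 zgi19) (kgi xgi22 ygi19 zgi20) (kgi xgi24 ygi9 zgi53) (kgi xgi22 ygi25 zgi6) (kgi xgi32 ygi50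 zgi38) (kgi xgi22 ygi13 zgi57) (kgi xgi32 ygi47 zgi50) (kgi xgi21 ygi52 zgi47) (kgi xgi23 ygi6 zgi36) (kgi xgi24 ygi24 zgi31)) (@D3.rec (fun _ => Pt) (kgi xgi24 ygi1 zgi16) (kgi xgi24 ygi30 zgi1) (kgi xgi31 ygi19 zgi23) (kgi xgi24 ygi13 zgi53) (kgi xgi24 ygi8 zgi37) (kgi xgi30 ygi39 zgi37) (kgi xgi24 ygi27 zgi51) (kgi xgi28 ygi53 zgi45) (kgi xgi31 ygi28 zgi44) (kgi xgi31 ygi18 zgi54) (kgi xgi29 ygi48 zgi46) (kgi xgi21 ygi53 zgi26) (kgi xgi32 ygi33 zgi54) (kgi xgi30 ygi17 zgi8) (kgi xgi26 ygi22 zgi61) (kgi xgi23 ygi15 zgi11) (kgi xgi23 ygi20 zgi55) (kgi xgi28 ygi32 zgi17) (kgi xgi30 ygi14 zgi5) (kgi xgi22 ygi37 zgi53) (kgi xgi32 ygi36 zgi33) (kgi xgi28 ygi41 zgi27) (kgi xgi30 ygi14 zgi10) (kgi xgi30 ygi47 zgi28) (kgi xgi29 ygi44 zgi45)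 (kgi xgi29 ygi13 zgi16) (kgi xgi32 ygi36 zgi49) (kgi xgi31 ygi24 zgi13) (kgi xgi28 ygi41 zgi26) (kgi xgi21 ygi54 zgi22) (kgi xgi30 ygi46 zgi17) (kgi xgi26 ygi22 zgi31) (kgi xgi21 ygi54 zgi45) (kgi xgi23 ygi10 zgi47) (kgi xgi26 ygi23 zgi44) (kgi xgi27 ygi43 zgi19) (kgi xgi30 ygi3 zgi26) (kgi xgi27 ygi48 zgi33) (kgi xgi22 ygi8 zgi6) (kgi xgi30 ygi41 zgi9) (kgi xgi28 ygi43 zgi18) (kgi xgi30 ygi12 zgi28) (kgi xgi22 ygi10 zgi9) (kgi xgi29 ygi57 zgi25) (kgi xgi26 ygi41 zgi0) (kgi xgi22 ygi6 zgi13) (kgi xgi30 ygi2 zgi20) (kgi xgi27 ygi4 zgi41) (kgi xgi24 ygi40 zgi48) (kgi xgi30 ygi1 zgi15) (kgi xgi21 ygi55 zgi25) (kgi xgi30 ygi7 zgi36) (kgi xgi21 ygi55 zgi28) (kgi xgi28 ygi53 zgi54) (kgi xgi23 ygi41 zgi2) (kgi xgi23 ygi35 zgi1) (kgi xgi27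 ygi4 zgi30) (kgi xgi30 ygi2 zgi15) (kgi xgi21 ygi55 zgi40) (kgi xgi29 ygi30 zgi25) (kgi xgi24 ygi32 zgi36) (kgi xgi23 ygi30 zgi9)) (@D3.rec (fun _ => Pt) (kgi xgi31 ygi1 zgi54) (kgi xgi30 ygi1 zgi50) (kgi xgi30 ygi59 zgi21) (kgi xgi30 ygi31 zgi40) (kgi xgi21 ygi55 zgi50) (kgi xgi30 ygi1 zgi2) (kgi xgi31 ygi2 zgi45) (kgi xgi25 ygi16 zgi23) (kgi xgi32 ygi23 zgi40) (kgi xgi23 ygi44 zgi60) (kgi xgi21 ygi55 zgi56) (kgi xgi21 ygi55 zgi60) (kgi xgi32 ygi33 zgi51) (kgi xgi31 ygi6 zgi53) (kgi xgi31 ygi0 zgi60) (kgi xgi30 ygi17 zgi45) (kgi xgi30 ygi51 zgi54) (kgi xgi21 ygi56 zgi4) (kgi xgi31 ygi0 zgi59) (kgi xgi32 ygi30 zgi32) (kgi xgi25 ygi41 zgi13) (kgi xgi31 ygi0 zgi49) (kgi xgi30 ygi1 zgi52) (kgi xgi27 ygi24 zgi30) (kgi xgi30 ygi1 zgi51)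 (kgi xgi21 ygi56 zgi25) (kgi xgi23 ygi32 zgi21) (kgi xgi21 ygi56 zgi34) (kgi xgi30 ygi2 zgi5) (kgi xgi23 ygi32 zgi27) (kgi xgi22 ygi10 zgi20) (kgi xgi32 ygi5 zgi2) (kgi xgi23 ygi25 zgi54) (kgi xgi30 ygi51 zgi59) (kgi xgi29 ygi14 zgi35) (kgi xgi21 ygi56 zgi40) (kgi xgi31 ygi0 zgi58) (kgi xgi32 ygi50 zgi48) (kgi xgi31 ygi6 zgi32) (kgi xgi30 ygi17 zgi47) (kgi xgi31 ygi0 zgi42) (kgi xgi23 ygi46 zgi19) (kgi xgi30 ygi42 zgi18) (kgi xgi23 ygi33 zgi29) (kgi xgi31 ygi57 zgi41) (kgi xgi21 ygi56 zgi47) (kgi xgi23 ygi24 zgi56) (kgi xgi25 ygi42 zgi49) (kgi xgi29 ygi10 zgi52) (kgi xgi32 ygi32 zgi49) (kgi xgi23 ygi25 zgi60) (kgi xgi28 ygi49 zgi38) (kgi xgi24 ygi31 zgi47) (kgi xgi32 ygi23 zgi36) (kgi xgi32 ygi3 zgi7) (kgi xgi32 ygi23 zgi38) (kgi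 xgi21 ygi56 zgi54) (kgi xgi30 ygi33 zgi12) (kgi xgi30 ygi33 zgi10) (kgi xgi23 ygi25 zgi7) (kgi xgi21 ygi57 zgi5) (kgi xgi22 ygi39 zgi9)) (@D3.rec (fun _ => Pt) (kgi xgi31 ygi33 zgi52) (kgi xgi30 ygi33 zgi54) (kgi xgi32 ygi43 zgi19) (kgi xgi30 ygi52 zgi17) (kgi xgi30 ygi33 zgi43) (kgi xgi26 ygi8 zgi56) (kgi xgi27 ygi17 zgi17) (kgi xgi21 ygi58 zgi50) (kgi xgi23 ygi58 zgi13) (kgi xgi21 ygi57 zgi29) (kgi xgi27 ygi56 zgi40) (kgi xgi25 ygi18 zgi20) (kgi xgi25 ygi50 zgi38) (kgi xgi27 ygi14 zgi31) (kgi xgi26 ygi55 zgi3) (kgi xgi31 ygi34 zgi49) (kgi xgi27 ygi42 zgi16) (kgi xgi31 ygi54 zgi38) (kgi xgi25 ygi51 zgi8) (kgi xgi21 ygi58 zgi24) (kgi xgi21 ygi59 zgi37) (kgi xgi31 ygi55 zgi50) (kgi xgi27 ygi4 zgi47) (kgi xgi28 ygi21 zgi10) (kgi xgi25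 ygi39 zgi22) (kgi xgi27 ygi16 zgi26) (kgi xgi30 ygi8 zgi39) (kgi xgi30 ygi11 zgi10) (kgi xgi31 ygi41 zgi44) (kgi xgi22 ygi30 zgi18) (kgi xgi32 ygi5 zgi26) (kgi xgi22 ygi10 zgi7) (kgi xgi25 ygi55 zgi42) (kgi xgi27 ygi27 zgi6) (kgi xgi29 ygi59 zgi45) (kgi xgi27 ygi43 zgi38) (kgi xgi24 ygi45 zgi24) (kgi xgi21 ygi59 zgi44) (kgi xgi24 ygi19 zgi14) (kgi xgi27 ygi3 zgi50) (kgi xgi32 ygi31 zgi14) (kgi xgi31 ygi50 zgi36) (kgi xgi30 ygi0 zgi1) (kgi xgi22 ygi5 zgi4) (kgi xgi23 ygi52 zgi18) (kgi xgi31 ygi17 zgi9) (kgi xgi30 ygi30 zgi20) (kgi xgi23 ygi49 zgi14) (kgi xgi30 ygi29 zgi45) (kgi xgi24 ygi25 zgi47) (kgi xgi22 ygi0 zgi60) (kgi xgi24 ygi0 zgi32) (kgi xgi22 ygi0 zgi2) (kgi xgi30 ygi16 zgi32) (kgi xgi22 ygi0 zgi4) (kgi xgi32 ygi11 zgi26)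 (kgi xgi30 ygi15 zgi37) (kgi xgi32 ygi38 zgi61) (kgi xgi22 ygi0 zgi8) (kgi xgi27 ygi16 zgi29) (kgi xgi22 ygi0 zgi11) (kgi xgi27 ygi14 zgi10)) (@D3.rec (fun _ => Pt) (kgi xgi27 ygi14 zgi35) (kgi xgi29 ygi34 zgi48) (kgi xgi31 ygi37 zgi52) (kgi xgi27 ygi17 zgi20) (kgi xgi24 ygi44 zgi49) (kgi xgi24 ygi15 zgi61) (kgi xgi31 ygi36 zgi49) (kgi xgi27 ygi55 zgi56) (kgi xgi29 ygi39 zgi22) (kgi xgi24 ygi2 zgi1) (kgi xgi32 ygi19 zgi44) (kgi xgi25 ygi26 zgi23) (kgi xgi25 ygi51 zgi26) (kgi xgi32 ygi50 zgi58) (kgi xgi30 ygi27 zgi48) (kgi xgi32 ygi42 zgi52) (kgi xgi22 ygi0 zgi43) (kgi xgi24 ygi29 zgi48) (kgi xgi24 ygi29 zgi45) (kgi xgi30 ygi28 zgi54) (kgi xgi22 ygi0 zgi45) (kgi xgi28 ygi48 zgi54) (kgi xgi29 ygi37 zgi58) (kgi xgi30 ygi34 zgi40) (kgi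 xgi31 ygi31 zgi13) (kgi xgi32 ygi46 zgi27) (kgi xgi31 ygi31 zgi16) (kgi xgi27 ygi14 zgi41) (kgi xgi30 ygi29 zgi2) (kgi xgi32 ygi12 zgi39) (kgi xgi30 ygi29 zgi1) (kgi xgi28 ygi24 zgi15) (kgi xgi32 ygi36 zgi15) (kgi xgi24 ygi30 zgi17) (kgi xgi22 ygi0 zgi57) (kgi xgi28 ygi52 zgi29) (kgi xgi32 ygi11 zgi49) (kgi xgi25 ygi7 zgi59) (kgi xgi28 ygi51 zgi19) (kgi xgi27 ygi14 zgi43) (kgi xgi32 ygi35 zgi29) (kgi xgi22 ygi1 zgi7) (kgi xgi32 ygi41 zgi45) (kgi xgi32 ygi45 zgi44) (kgi xgi30 ygi16 zgi30) (kgi xgi22 ygi1 zgi44) (kgi xgi31 ygi33 zgi33) (kgi xgi32 ygi22 zgi29) (kgi xgi22 ygi1 zgi11) (kgi xgi32 ygi23 zgi28) (kgi xgi26 ygi35 zgi57) (kgi xgi22 ygi1 zgi17) (kgi xgi22 ygi1 zgi19) (kgi xgi30 ygi29 zgi48) (kgi xgi22 ygi1 zgi20) (kgi xgi32 ygi11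 zgi27) (kgi xgi22 ygi1 zgi22) (kgi xgi30 ygi29 zgi59) (kgi xgi29 ygi58 zgi61) (kgi xgi32 ygi50 zgi56) (kgi xgi22 ygi1 zgi31) (kgi xgi24 ygi29 zgi47)) (@D3.rec (fun _ => Pt) (kgi xgi31 ygi12 zgi37) (kgi xgi30 ygi25 zgi47) (kgi xgi28 ygi54 zgi37) (kgi xgi32 ygi41 zgi9) (kgi xgi22 ygi1 zgi27) (kgi xgi22 ygi1 zgi30) (kgi xgi28 ygi40 zgi32) (kgi xgi28 ygi54 zgi24) (kgi xgi32 ygi11 zgi17) (kgi xgi27 ygi19 zgi26) (kgi xgi28 ygi52 zgi42) (kgi xgi22 ygi1 zgi32) (kgi xgi22 ygi1 zgi34) (kgi xgi28 ygi54 zgi26) (kgi xgi26 ygi38 zgi51) (kgi xgi26 ygi34 zgi32) (kgi xgi22 ygi1 zgi36) (kgi xgi32 ygi38 zgi60) (kgi xgi29 ygi33 zgi36) (kgi xgi22 ygi1 zgi35) (kgi xgi24 ygi16 zgi41) (kgi xgi32 ygi45 zgi47) (kgi xgi31 ygi17 zgi56) (kgi xgi27 ygi16 zgi11)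 (kgi xgi27 ygi14 zgi11) (kgi xgi22 ygi40 zgi56) (kgi xgi30 ygi28 zgi55) (kgi xgi22 ygi1 zgi43) (kgi xgi32 ygi21 zgi0) (kgi xgi32 ygi22 zgi55) (kgi xgi30 ygi14 zgi53) (kgi xgi29 ygi42 zgi37) (kgi xgi30 ygi15 zgi44) (kgi xgi28 ygi50 zgi37) (kgi xgi30 ygi3 zgi52) (kgi xgi30 ygi16 zgi42) (kgi xgi22 ygi1 zgi51) (kgi xgi22 ygi1 zgi53) (kgi xgi29 ygi6 zgi61) (kgi xgi31 ygi40 zgi0) (kgi xgi30 ygi8 zgi47) (kgi xgi22 ygi2 zgi58) (kgi xgi30 ygi16 zgi33) (kgi xgi22 ygi2 zgi4) (kgi xgi31 ygi24 zgi48) (kgi xgi31 ygi49 zgi9) (kgi xgi31 ygi33 zgi44) (kgi xgi25 ygi7 zgi49) (kgi xgi27 ygi23 zgi14) (kgi xgi31 ygi49 zgi15) (kgi xgi31 ygi23 zgi26) (kgi xgi22 ygi2 zgi16) (kgi xgi32 ygi44 zgi18) (kgi xgi25 ygi7 zgi24) (kgi xgi25 ygi7 zgi22) (kgi xgi22 ygi2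 zgi25) (kgi xgi27 ygi14 zgi3) (kgi xgi30 ygi17 zgi1) (kgi xgi22 ygi2 zgi32) (kgi xgi22 ygi2 zgi34) (kgi xgi30 ygi10 zgi34) (kgi xgi31 ygi57 zgi15)) (@D3.rec (fun _ => Pt) (kgi xgi22 ygi2 zgi39) (kgi xgi29 ygi48 zgi37) (kgi xgi28 ygi44 zgi50) (kgi xgi27 ygi24 zgi37) (kgi xgi31 ygi54 zgi41) (kgi xgi31 ygi3 zgi5) (kgi xgi30 ygi12 zgi13) (kgi xgi22 ygi3 zgi10) (kgi xgi29 ygi53 zgi44) (kgi xgi26 ygi36 zgi56) (kgi xgi32 ygi27 zgi11) (kgi xgi22 ygi10 zgi40) (kgi xgi29 ygi25 zgi40) (kgi xgi29 ygi59 zgi25) (kgi xgi29 ygi43 zgi13) (kgi xgi26 ygi38 zgi14) (kgi xgi27 ygi0 zgi27) (kgi xgi32 ygi38 zgi28) (kgi xgi27 ygi0 zgi18) (kgi xgi25 ygi36 zgi42) (kgi xgi29 ygi45 zgi39) (kgi xgi32 ygi8 zgi20) (kgi xgi29 ygi33 zgi4) (kgi xgi26 ygi36 zgi51) (kgi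 xgi22 ygi4 zgi14) (kgi xgi26 ygi37 zgi13) (kgi xgi27 ygi37 zgi42) (kgi xgi26 ygi46 zgi8) (kgi xgi29 ygi45 zgi46) (kgi xgi29 ygi45 zgi47) (kgi xgi22 ygi4 zgi20) (kgi xgi28 ygi40 zgi38) (kgi xgi22 ygi4 zgi21) (kgi xgi30 ygi48 zgi39) (kgi xgi31 ygi19 zgi34) (kgi xgi32 ygi46 zgi45) (kgi xgi32 ygi46 zgi48) (kgi xgi31 ygi20 zgi15) (kgi xgi22 ygi45 zgi28) (kgi xgi31 ygi11 zgi30) (kgi xgi30 ygi13 zgi39) (kgi xgi25 ygi22 zgi47) (kgi xgi29 ygi48 zgi59) (kgi xgi23 ygi37 zgi16) (kgi xgi26 ygi3 zgi27) (kgi xgi29 ygi52 zgi16) (kgi xgi22 ygi4 zgi40) (kgi xgi26 ygi3 zgi30) (kgi xgi26 ygi51 zgi1) (kgi xgi22 ygi4 zgi48) (kgi xgi30 ygi13 zgi23) (kgi xgi28 ygi32 zgi43) (kgi xgi27 ygi36 zgi35) (kgi xgi28 ygi1 zgi26) (kgi xgi26 ygi44 zgi51) (kgi xgi22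 ygi5 zgi11) (kgi xgi29 ygi23 zgi25) (kgi xgi28 ygi55 zgi51) (kgi xgi29 ygi28 zgi6) (kgi xgi29 ygi48 zgi56) (kgi xgi27 ygi3 zgi23) (kgi xgi22 ygi5 zgi27)) (@D3.rec (fun _ => Pt) (kgi xgi31 ygi0 zgi41) (kgi xgi32 ygi3 zgi43) (kgi xgi27 ygi41 zgi31) (kgi xgi22 ygi5 zgi29) (kgi xgi30 ygi11 zgi14) (kgi xgi22 ygi5 zgi30) (kgi xgi27 ygi43 zgi17) (kgi xgi27 ygi21 zgi38) (kgi xgi22 ygi5 zgi43) (kgi xgi25 ygi6 zgi49) (kgi xgi31 ygi28 zgi21) (kgi xgi23 ygi42 zgi40) (kgi xgi23 ygi42 zgi12) (kgi xgi27 ygi35 zgi32) (kgi xgi30 ygi17 zgi60) (kgi xgi22 ygi6 zgi5) (kgi xgi24 ygi32 zgi17) (kgi xgi26 ygi5 zgi34) (kgi xgi24 ygi33 zgi31) (kgi xgi26 ygi19 zgi37) (kgi xgi32 ygi18 zgi27) (kgi xgi28 ygi13 zgi4) (kgi xgi29 ygi30 zgi37) (kgi xgi32 ygi20 zgi17)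 (kgi xgi22 ygi6 zgi37) (kgi xgi32 ygi39 zgi46) (kgi xgi22 ygi7 zgi12) (kgi xgi32 ygi20 zgi38) (kgi xgi22 ygi6 zgi52) (kgi xgi31 ygi13 zgi39) (kgi xgi26 ygi53 zgi59) (kgi xgi30 ygi43 zgi32) (kgi xgi30 ygi49 zgi48) (kgi xgi30 ygi30 zgi42) (kgi xgi22 ygi6 zgi51) (kgi xgi30 ygi47 zgi22) (kgi xgi31 ygi23 zgi4) (kgi xgi32 ygi8 zgi30) (kgi xgi32 ygi17 zgi36) (kgi xgi32 ygi17 zgi37) (kgi xgi28 ygi52 zgi6) (kgi xgi32 ygi17 zgi34) (kgi xgi23 ygi53 zgi34) (kgi xgi23 ygi12 zgi29) (kgi xgi22 ygi6 zgi60) (kgi xgi31 ygi48 zgi59) (kgi xgi22 ygi7 zgi2) (kgi xgi22 ygi52 zgi56) (kgi xgi22 ygi47 zgi45) (kgi xgi30 ygi12 zgi23) (kgi xgi25 ygi54 zgi48) (kgi xgi22 ygi7 zgi5) (kgi xgi27 ygi24 zgi5) (kgi xgi28 ygi36 zgi59) (kgi xgi30 ygi49 zgi43) (kgi xgi22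 ygi7 zgi11) (kgi xgi30 ygi19 zgi5) (kgi xgi30 ygi15 zgi61) (kgi xgi28 ygi57 zgi36) (kgi xgi25 ygi33 zgi54) (kgi xgi32 ygi33 zgi19) (kgi xgi30 ygi49 zgi41)) (@D3.rec (fun _ => Pt) (kgi xgi32 ygi19 zgi41) (kgi xgi23 ygi13 zgi36) (kgi xgi32 ygi50 zgi1) (kgi xgi22 ygi7 zgi14) (kgi xgi32 ygi51 zgi11) (kgi xgi30 ygi18 zgi60) (kgi xgi32 ygi46 zgi3) (kgi xgi32 ygi51 zgi10) (kgi xgi30 ygi32 zgi21) (kgi xgi28 ygi16 zgi34) (kgi xgi32 ygi23 zgi23) (kgi xgi32 ygi49 zgi55) (kgi xgi22 ygi7 zgi21) (kgi xgi32 ygi23 zgi24) (kgi xgi32 ygi21 zgi29) (kgi xgi22 ygi7 zgi25) (kgi xgi25 ygi54 zgi47) (kgi xgi31 ygi20 zgi5) (kgi xgi31 ygi29 zgi56) (kgi xgi30 ygi5 zgi59) (kgi xgi28 ygi37 zgi49) (kgi xgi31 ygi41 zgi27) (kgi xgi28 ygi45 zgi15) (kgi xgi24 ygi50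 zgi20) (kgi xgi30 ygi0 zgi16) (kgi xgi32 ygi14 zgi44) (kgi xgi30 ygi22 zgi57) (kgi xgi32 ygi10 zgi33) (kgi xgi31 ygi43 zgi37) (kgi xgi26 ygi0 zgi7) (kgi xgi28 ygi56 zgi57) (kgi xgi27 ygi26 zgi44) (kgi xgi25 ygi28 zgi48) (kgi xgi27 ygi17 zgi18) (kgi xgi28 ygi37 zgi6) (kgi xgi31 ygi26 zgi43) (kgi xgi22 ygi8 zgi24) (kgi xgi31 ygi54 zgi34) (kgi xgi28 ygi49 zgi37) (kgi xgi24 ygi41 zgi10) (kgi xgi28 ygi2 zgi2) (kgi xgi22 ygi9 zgi2) (kgi xgi22 ygi18 zgi43) (kgi xgi28 ygi10 zgi0) (kgi xgi30 ygi0 zgi31) (kgi xgi22 ygi9 zgi27) (kgi xgi31 ygi43 zgi57) (kgi xgi25 ygi6 zgi21) (kgi xgi29 ygi50 zgi41) (kgi xgi26 ygi17 zgi49) (kgi xgi24 ygi7 zgi48) (kgi xgi22 ygi57 zgi29) (kgi xgi30 ygi54 zgi51) (kgi xgi23 ygi56 zgi13) (kgi xgi24 ygi13 zgi35) (kgi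 xgi25 ygi43 zgi50) (kgi xgi27 ygi6 zgi20) (kgi xgi24 ygi13 zgi41) (kgi xgi24 ygi14 zgi13) (kgi xgi25 ygi50 zgi1) (kgi xgi25 ygi35 zgi22) (kgi xgi27 ygi18 zgi4)) (@D3.rec (fun _ => Pt) (kgi xgi29 ygi52 zgi10) (kgi xgi25 ygi25 zgi47) (kgi xgi25 ygi35 zgi39) (kgi xgi25 ygi35 zgi61) (kgi xgi27 ygi2 zgi2) (kgi xgi28 ygi50 zgi38) (kgi xgi23 ygi35 zgi52) (kgi xgi23 ygi13 zgi1) (kgi xgi29 ygi11 zgi21) (kgi xgi27 ygi56 zgi58) (kgi xgi26 ygi0 zgi35) (kgi xgi29 ygi49 zgi32) (kgi xgi29 ygi49 zgi36) (kgi xgi32 ygi3 zgi47) (kgi xgi27 ygi17 zgi43) (kgi xgi31 ygi10 zgi49) (kgi xgi31 ygi10 zgi40) (kgi xgi23 ygi37 zgi54) (kgi xgi32 ygi7 zgi49) (kgi xgi27 ygi1 zgi35) (kgi xgi23 ygi39 zgi17) (kgi xgi27 ygi6 zgi21) (kgi xgi24 ygi41 zgi14) (kgi xgi27 ygi11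 zgi41) (kgi xgi32 ygi44 zgi30) (kgi xgi27 ygi22 zgi48) (kgi xgi31 ygi7 zgi26) (kgi xgi28 ygi27 zgi39) (kgi xgi28 ygi27 zgi40) (kgi xgi30 ygi1 zgi11) (kgi xgi30 ygi14 zgi24) (kgi xgi23 ygi57 zgi53) (kgi xgi28 ygi35 zgi56) (kgi xgi23 ygi36 zgi38) (kgi xgi30 ygi13 zgi50) (kgi xgi26 ygi7 zgi11) (kgi xgi31 ygi2 zgi46) (kgi xgi23 ygi16 zgi25) (kgi xgi30 ygi59 zgi40) (kgi xgi22 ygi12 zgi22) (kgi xgi23 ygi14 zgi6) (kgi xgi28 ygi41 zgi5) (kgi xgi27 ygi8 zgi28) (kgi xgi30 ygi22 zgi34) (kgi xgi31 ygi31 zgi24) (kgi xgi30 ygi38 zgi39) (kgi xgi30 ygi38 zgi31) (kgi xgi22 ygi12 zgi33) (kgi xgi29 ygi35 zgi41) (kgi xgi24 ygi6 zgi61) (kgi xgi32 ygi23 zgi20) (kgi xgi22 ygi13 zgi17) (kgi xgi22 ygi12 zgi38) (kgi xgi32 ygi51 zgi34) (kgi xgi32 ygi36 zgi31)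 (kgi xgi22 ygi12 zgi40) (kgi xgi22 ygi25 zgi53) (kgi xgi22 ygi25 zgi54) (kgi xgi30 ygi30 zgi25) (kgi xgi22 ygi12 zgi42) (kgi xgi22 ygi14 zgi20) (kgi xgi30 ygi20 zgi46)) (@D3.rec (fun _ => Pt) (kgi xgi30 ygi34 zgi47) (kgi xgi32 ygi48 zgi17) (kgi xgi32 ygi51 zgi39) (kgi xgi22 ygi12 zgi53) (kgi xgi22 ygi17 zgi4) (kgi xgi22 ygi17 zgi2) (kgi xgi22 ygi12 zgi55) (kgi xgi31 ygi17 zgi1) (kgi xgi32 ygi9 zgi13) (kgi xgi22 ygi17 zgi20) (kgi xgi27 ygi42 zgi2) (kgi xgi30 ygi34 zgi26) (kgi xgi23 ygi20 zgi21) (kgi xgi29 ygi42 zgi20) (kgi xgi29 ygi20 zgi34) (kgi xgi28 ygi18 zgi39) (kgi xgi31 ygi19 zgi56) (kgi xgi28 ygi56 zgi1) (kgi xgi22 ygi13 zgi11) (kgi xgi30 ygi37 zgi49) (kgi xgi23 ygi48 zgi42) (kgi xgi32 ygi36 zgi27) (kgi xgi30 ygi26 zgi41) (kgi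 xgi30 ygi34 zgi24) (kgi xgi32 ygi19 zgi61) (kgi xgi30 ygi45 zgi6) (kgi xgi31 ygi29 zgi60) (kgi xgi30 ygi34 zgi21) (kgi xgi32 ygi46 zgi36) (kgi xgi23 ygi14 zgi45) (kgi xgi28 ygi55 zgi17) (kgi xgi32 ygi20 zgi50) (kgi xgi22 ygi13 zgi19) (kgi xgi32 ygi43 zgi58) (kgi xgi32 ygi39 zgi5) (kgi xgi32 ygi11 zgi37) (kgi xgi31 ygi40 zgi3) (kgi xgi32 ygi35 zgi20) (kgi xgi32 ygi35 zgi61) (kgi xgi23 ygi20 zgi35) (kgi xgi24 ygi6 zgi9) (kgi xgi32 ygi37 zgi7) (kgi xgi23 ygi13 zgi18) (kgi xgi32 ygi40 zgi4) (kgi xgi22 ygi13 zgi27) (kgi xgi32 ygi19 zgi32) (kgi xgi30 ygi29 zgi15) (kgi xgi32 ygi20 zgi48) (kgi xgi24 ygi14 zgi55) (kgi xgi27 ygi6 zgi46) (kgi xgi24 ygi1 zgi51) (kgi xgi27 ygi6 zgi42) (kgi xgi30 ygi7 zgi1) (kgi xgi23 ygi52 zgi55) (kgi xgi22 ygi33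 zgi18) (kgi xgi32 ygi33 zgi58) (kgi xgi22 ygi13 zgi41) (kgi xgi30 ygi28 zgi10) (kgi xgi31 ygi40 zgi13) (kgi xgi32 ygi51 zgi59) (kgi xgi22 ygi13 zgi42) (kgi xgi32 ygi46 zgi25)) (@D3.rec (fun _ => Pt) (kgi xgi32 ygi51 zgi54) (kgi xgi32 ygi51 zgi33) (kgi xgi22 ygi13 zgi44) (kgi xgi30 ygi28 zgi9) (kgi xgi30 ygi28 zgi23) (kgi xgi30 ygi32 zgi16) (kgi xgi28 ygi52 zgi8) (kgi xgi32 ygi33 zgi20) (kgi xgi22 ygi13 zgi50) (kgi xgi22 ygi13 zgi51) (kgi xgi30 ygi30 zgi33) (kgi xgi32 ygi16 zgi41) (kgi xgi30 ygi49 zgi59) (kgi xgi22 ygi13 zgi53) (kgi xgi32 ygi51 zgi15) (kgi xgi32 ygi39 zgi57) (kgi xgi30 ygi31 zgi31) (kgi xgi22 ygi13 zgi54) (kgi xgi22 ygi13 zgi56) (kgi xgi32 ygi39 zgi52) (kgi xgi30 ygi35 zgi44) (kgi xgi22 ygi24 zgi13) (kgi xgi30 ygi30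 zgi45) (kgi xgi22 ygi13 zgi58) (kgi xgi32 ygi52 zgi4) (kgi xgi30 ygi35 zgi43) (kgi xgi31 ygi7 zgi2) (kgi xgi22 ygi19 zgi39) (kgi xgi22 ygi19 zgi41) (kgi xgi32 ygi45 zgi12) (kgi xgi32 ygi40 zgi1) (kgi xgi23 ygi13 zgi17) (kgi xgi29 ygi36 zgi40) (kgi xgi30 ygi37 zgi29) (kgi xgi29 ygi35 zgi44) (kgi xgi31 ygi29 zgi61) (kgi xgi22 ygi14 zgi8) (kgi xgi30 ygi38 zgi9) (kgi xgi31 ygi24 zgi14) (kgi xgi27 ygi12 zgi41) (kgi xgi29 ygi36 zgi37) (kgi xgi29 ygi37 zgi5) (kgi xgi31 ygi24 zgi6) (kgi xgi29 ygi35 zgi21) (kgi xgi22 ygi14 zgi15) (kgi xgi32 ygi17 zgi1) (kgi xgi30 ygi31 zgi18) (kgi xgi32 ygi35 zgi52) (kgi xgi23 ygi7 zgi33) (kgi xgi30 ygi12 zgi27) (kgi xgi28 ygi43 zgi39) (kgi xgi31 ygi15 zgi47) (kgi xgi29 ygi35 zgi12) (kgi xgi28 ygi37 zgi45)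 (kgi xgi22 ygi18 zgi34) (kgi xgi22 ygi18 zgi37) (kgi xgi30 ygi34 zgi18) (kgi xgi28 ygi38 zgi44) (kgi xgi30 ygi22 zgi47) (kgi xgi32 ygi46 zgi21) (kgi xgi32 ygi17 zgi33) (kgi xgi30 ygi35 zgi5)) (@D3.rec (fun _ => Pt) (kgi xgi29 ygi36 zgi39) (kgi xgi32 ygi52 zgi11) (kgi xgi22 ygi14 zgi32) (kgi xgi29 ygi54 zgi53) (kgi xgi27 ygi43 zgi6) (kgi xgi23 ygi2 zgi59) (kgi xgi29 ygi6 zgi2) (kgi xgi22 ygi14 zgi51) (kgi xgi28 ygi23 zgi38) (kgi xgi28 ygi23 zgi24) (kgi xgi29 ygi39 zgi14) (kgi xgi23 ygi51 zgi60) (kgi xgi28 ygi30 zgi16) (kgi xgi28 ygi16 zgi15) (kgi xgi27 ygi28 zgi25) (kgi xgi22 ygi15 zgi14) (kgi xgi27 ygi27 zgi45) (kgi xgi27 ygi29 zgi61) (kgi xgi28 ygi8 zgi1) (kgi xgi31 ygi8 zgi17) (kgi xgi22 ygi32 zgi4) (kgi xgi28 ygi2 zgi24) (kgi xgi27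 ygi48 zgi54) (kgi xgi25 ygi0 zgi16) (kgi xgi29 ygi39 zgi18) (kgi xgi22 ygi15 zgi40) (kgi xgi22 ygi35 zgi11) (kgi xgi23 ygi51 zgi55) (kgi xgi28 ygi25 zgi38) (kgi xgi28 ygi17 zgi7) (kgi xgi22 ygi34 zgi41) (kgi xgi24 ygi59 zgi4) (kgi xgi31 ygi11 zgi33) (kgi xgi29 ygi36 zgi46) (kgi xgi31 ygi22 zgi20) (kgi xgi22 ygi15 zgi56) (kgi xgi22 ygi30 zgi0) (kgi xgi30 ygi36 zgi59) (kgi xgi24 ygi24 zgi18) (kgi xgi30 ygi37 zgi45) (kgi xgi30 ygi7 zgi29) (kgi xgi22 ygi39 zgi47) (kgi xgi24 ygi2 zgi11) (kgi xgi22 ygi39 zgi60) (kgi xgi32 ygi52 zgi15) (kgi xgi22 ygi16 zgi5) (kgi xgi22 ygi27 zgi2) (kgi xgi32 ygi30 zgi50) (kgi xgi30 ygi34 zgi35) (kgi xgi28 ygi23 zgi28) (kgi xgi22 ygi32 zgi1) (kgi xgi31 ygi37 zgi30) (kgi xgi22 ygi16 zgi33) (kgi xgi28 ygi34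 zgi44) (kgi xgi22 ygi59 zgi8) (kgi xgi28 ygi23 zgi50) (kgi xgi22 ygi16 zgi25) (kgi xgi22 ygi49 zgi17) (kgi xgi32 ygi18 zgi10) (kgi xgi28 ygi36 zgi34) (kgi xgi32 ygi27 zgi54) (kgi xgi28 ygi35 zgi33)) (@D3.rec (fun _ => Pt) (kgi xgi32 ygi21 zgi37) (kgi xgi22 ygi35 zgi43) (kgi xgi30 ygi49 zgi8) (kgi xgi27 ygi23 zgi55) (kgi xgi22 ygi16 zgi45) (kgi xgi22 ygi27 zgi40) (kgi xgi24 ygi57 zgi8) (kgi xgi23 ygi30 zgi57) (kgi xgi31 ygi22 zgi57) (kgi xgi30 ygi53 zgi53) (kgi xgi31 ygi15 zgi59) (kgi xgi22 ygi17 zgi0) (kgi xgi28 ygi28 zgi32) (kgi xgi30 ygi34 zgi52) (kgi xgi32 ygi44 zgi0) (kgi xgi22 ygi58 zgi36) (kgi xgi22 ygi17 zgi12) (kgi xgi26 ygi42 zgi52) (kgi xgi22 ygi17 zgi13) (kgi xgi32 ygi30 zgi57) (kgi xgi22 ygi17 zgi14) (kgi xgi22 ygi17 zgi23)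 (kgi xgi22 ygi17 zgi18) (kgi xgi32 ygi8 zgi59) (kgi xgi32 ygi44 zgi1) (kgi xgi26 ygi49 zgi3) (kgi xgi22 ygi17 zgi24) (kgi xgi23 ygi10 zgi31) (kgi xgi30 ygi6 zgi41) (kgi xgi32 ygi21 zgi35) (kgi xgi32 ygi8 zgi50) (kgi xgi27 ygi10 zgi6) (kgi xgi28 ygi22 zgi13) (kgi xgi28 ygi34 zgi32) (kgi xgi30 ygi24 zgi37) (kgi xgi23 ygi5 zgi56) (kgi xgi28 ygi39 zgi33) (kgi xgi22 ygi17 zgi36) (kgi xgi24 ygi53 zgi27) (kgi xgi23 ygi27 zgi58) (kgi xgi31 ygi10 zgi17) (kgi xgi31 ygi10 zgi37) (kgi xgi23 ygi23 zgi3) (kgi xgi26 ygi4 zgi19) (kgi xgi29 ygi26 zgi17) (kgi xgi29 ygi21 zgi5) (kgi xgi32 ygi28 zgi48) (kgi xgi32 ygi31 zgi45) (kgi xgi22 ygi18 zgi7) (kgi xgi30 ygi35 zgi21) (kgi xgi30 ygi35 zgi20) (kgi xgi27 ygi55 zgi23) (kgi xgi28 ygi10 zgi11) (kgi xgi31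 ygi45 zgi19) (kgi xgi22 ygi52 zgi1) (kgi xgi24 ygi59 zgi3) (kgi xgi23 ygi37 zgi3) (kgi xgi26 ygi27 zgi16) (kgi xgi32 ygi21 zgi57) (kgi xgi24 ygi47 zgi54) (kgi xgi26 ygi29 zgi54) (kgi xgi24 ygi58 zgi61)) (@D3.rec (fun _ => Pt) (kgi xgi23 ygi37 zgi19) (kgi xgi23 ygi32 zgi39) (kgi xgi24 ygi55 zgi55) (kgi xgi30 ygi5 zgi26) (kgi xgi27 ygi31 zgi26) (kgi xgi22 ygi21 zgi47) (kgi xgi25 ygi3 zgi22) (kgi xgi27 ygi28 zgi52) (kgi xgi30 ygi25 zgi9) (kgi xgi22 ygi18 zgi58) (kgi xgi30 ygi25 zgi8) (kgi xgi30 ygi25 zgi32) (kgi xgi30 ygi33 zgi57) (kgi xgi23 ygi48 zgi61) (kgi xgi23 ygi22 zgi22) (kgi xgi22 ygi19 zgi12) (kgi xgi22 ygi19 zgi1) (kgi xgi26 ygi51 zgi40) (kgi xgi30 ygi50 zgi34) (kgi xgi29 ygi28 zgi21) (kgi xgi28 ygi48 zgi52) (kgi xgi30 ygi22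 zgi1) (kgi xgi22 ygi24 zgi26) (kgi xgi28 ygi54 zgi39) (kgi xgi32 ygi19 zgi36) (kgi xgi23 ygi49 zgi1) (kgi xgi28 ygi52 zgi32) (kgi xgi22 ygi25 zgi12) (kgi xgi24 ygi1 zgi13) (kgi xgi31 ygi29 zgi24) (kgi xgi32 ygi38 zgi37) (kgi xgi28 ygi16 zgi12) (kgi xgi22 ygi35 zgi15) (kgi xgi29 ygi40 zgi47) (kgi xgi28 ygi39 zgi13) (kgi xgi24 ygi26 zgi18) (kgi xgi30 ygi25 zgi11) (kgi xgi28 ygi46 zgi14) (kgi xgi28 ygi45 zgi56) (kgi xgi30 ygi29 zgi20) (kgi xgi28 ygi24 zgi19) (kgi xgi22 ygi19 zgi27) (kgi xgi22 ygi19 zgi28) (kgi xgi22 ygi24 zgi23) (kgi xgi22 ygi25 zgi27) (kgi xgi22 ygi25 zgi25) (kgi xgi27 ygi13 zgi50) (kgi xgi30 ygi15 zgi60) (kgi xgi31 ygi30 zgi59) (kgi xgi22 ygi19 zgi34) (kgi xgi22 ygi25 zgi11) (kgi xgi22 ygi25 zgi9) (kgi xgi22 ygi25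 zgi38) (kgi xgi22 ygi19 zgi37) (kgi xgi22 ygi25 zgi36) (kgi xgi22 ygi25 zgi34) (kgi xgi30 ygi16 zgi0) (kgi xgi32 ygi31 zgi10) (kgi xgi23 ygi13 zgi22) (kgi xgi32 ygi18 zgi46) (kgi xgi22 ygi27 zgi35) (kgi xgi32 ygi46 zgi38)) (@D3.rec (fun _ => Pt) (kgi xgi22 ygi19 zgi45) (kgi xgi22 ygi46 zgi51) (kgi xgi22 ygi26 zgi42) (kgi xgi22 ygi19 zgi49) (kgi xgi22 ygi26 zgi21) (kgi xgi22 ygi26 zgi28) (kgi xgi30 ygi49 zgi10) (kgi xgi22 ygi19 zgi56) (kgi xgi23 ygi11 zgi18) (kgi xgi24 ygi24 zgi5) (kgi xgi23 ygi45 zgi46) (kgi xgi28 ygi35 zgi36) (kgi xgi28 ygi36 zgi35) (kgi xgi23 ygi45 zgi27) (kgi xgi22 ygi20 zgi8) (kgi xgi23 ygi57 zgi44) (kgi xgi23 ygi57 zgi43) (kgi xgi24 ygi9 zgi1) (kgi xgi27 ygi59 zgi53) (kgi xgi29 ygi14 zgi38) (kgi xgi27 ygi53 zgi8)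 (kgi xgi23 ygi57 zgi52) (kgi xgi28 ygi45 zgi61) (kgi xgi27 ygi51 zgi54) (kgi xgi32 ygi52 zgi25) (kgi xgi28 ygi29 zgi34) (kgi xgi30 ygi56 zgi26) (kgi xgi27 ygi21 zgi42) (kgi xgi22 ygi20 zgi29) (kgi xgi32 ygi8 zgi28) (kgi xgi32 ygi30 zgi13) (kgi xgi28 ygi53 zgi33) (kgi xgi30 ygi49 zgi9) (kgi xgi30 ygi21 zgi21) (kgi xgi22 ygi20 zgi36) (kgi xgi24 ygi18 zgi43) (kgi xgi23 ygi0 zgi17) (kgi xgi22 ygi20 zgi37) (kgi xgi23 ygi0 zgi19) (kgi xgi30 ygi56 zgi13) (kgi xgi22 ygi20 zgi40) (kgi xgi28 ygi53 zgi6) (kgi xgi28 ygi24 zgi50) (kgi xgi30 ygi6 zgi1) (kgi xgi22 ygi20 zgi49) (kgi xgi29 ygi32 zgi24) (kgi xgi30 ygi18 zgi58) (kgi xgi28 ygi23 zgi48) (kgi xgi25 ygi25 zgi12) (kgi xgi28 ygi47 zgi18) (kgi xgi22 ygi20 zgi61) (kgi xgi30 ygi47 zgi46) (kgi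 xgi28 ygi53 zgi15) (kgi xgi23 ygi1 zgi17) (kgi xgi25 ygi43 zgi14) (kgi xgi29 ygi23 zgi6) (kgi xgi24 ygi13 zgi31) (kgi xgi28 ygi50 zgi11) (kgi xgi31 ygi5 zgi55) (kgi xgi25 ygi37 zgi31) (kgi xgi31 ygi21 zgi14) (kgi xgi31 ygi49 zgi43)) (@D3.rec (fun _ => Pt) (kgi xgi32 ygi45 zgi17) (kgi xgi29 ygi27 zgi28) (kgi xgi24 ygi52 zgi49) (kgi xgi24 ygi51 zgi50) (kgi xgi22 ygi21 zgi33) (kgi xgi29 ygi1 zgi6) (kgi xgi26 ygi54 zgi40) (kgi xgi29 ygi43 zgi36) (kgi xgi31 ygi17 zgi16) (kgi xgi31 ygi17 zgi14) (kgi xgi32 ygi3 zgi27) (kgi xgi32 ygi49 zgi17) (kgi xgi32 ygi46 zgi6) (kgi xgi22 ygi21 zgi40) (kgi xgi29 ygi27 zgi24) (kgi xgi31 ygi21 zgi27) (kgi xgi22 ygi21 zgi42) (kgi xgi32 ygi2 zgi46) (kgi xgi29 ygi39 zgi3) (kgi xgi29 ygi23 zgi8) (kgi xgi22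 ygi21 zgi58) (kgi xgi29 ygi1 zgi49) (kgi xgi31 ygi28 zgi32) (kgi xgi24 ygi23 zgi44) (kgi xgi24 ygi23 zgi42) (kgi xgi31 ygi22 zgi9) (kgi xgi31 ygi32 zgi21) (kgi xgi22 ygi22 zgi8) (kgi xgi31 ygi17 zgi22) (kgi xgi29 ygi8 zgi31) (kgi xgi29 ygi3 zgi13) (kgi xgi22 ygi47 zgi26) (kgi xgi31 ygi20 zgi1) (kgi xgi23 ygi53 zgi17) (kgi xgi23 ygi0 zgi57) (kgi xgi30 ygi39 zgi44) (kgi xgi27 ygi9 zgi37) (kgi xgi22 ygi57 zgi39) (kgi xgi31 ygi15 zgi38) (kgi xgi23 ygi0 zgi59) (kgi xgi23 ygi0 zgi56) (kgi xgi28 ygi31 zgi61) (kgi xgi25 ygi50 zgi3) (kgi xgi31 ygi25 zgi53) (kgi xgi32 ygi34 zgi32) (kgi xgi25 ygi55 zgi59) (kgi xgi26 ygi15 zgi3) (kgi xgi32 ygi12 zgi1) (kgi xgi30 ygi15 zgi19) (kgi xgi24 ygi17 zgi5) (kgi xgi31 ygi24 zgi29) (kgi xgi22 ygi51 zgi12)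 (kgi xgi23 ygi46 zgi46) (kgi xgi29 ygi26 zgi59) (kgi xgi23 ygi10 zgi26) (kgi xgi26 ygi27 zgi39) (kgi xgi30 ygi56 zgi58) (kgi xgi28 ygi32 zgi49) (kgi xgi24 ygi38 zgi50) (kgi xgi29 ygi7 zgi9) (kgi xgi28 ygi22 zgi32) (kgi xgi32 ygi14 zgi27)) (@D3.rec (fun _ => Pt) (kgi xgi29 ygi46 zgi45) (kgi xgi30 ygi29 zgi42) (kgi xgi29 ygi26 zgi5) (kgi xgi32 ygi13 zgi35) (kgi xgi22 ygi23 zgi46) (kgi xgi32 ygi16 zgi60) (kgi xgi31 ygi38 zgi58) (kgi xgi31 ygi38 zgi57) (kgi xgi32 ygi2 zgi4) (kgi xgi30 ygi22 zgi2) (kgi xgi30 ygi21 zgi56) (kgi xgi32 ygi47 zgi22) (kgi xgi30 ygi25 zgi12) (kgi xgi32 ygi14 zgi20) (kgi xgi22 ygi24 zgi0) (kgi xgi32 ygi47 zgi27) (kgi xgi31 ygi33 zgi9) (kgi xgi22 ygi24 zgi1) (kgi xgi30 ygi29 zgi6) (kgi xgi32 ygi52 zgi34) (kgi xgi31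 ygi19 zgi25) (kgi xgi32 ygi52 zgi19) (kgi xgi32 ygi33 zgi30) (kgi xgi22 ygi24 zgi4) (kgi xgi30 ygi22 zgi4) (kgi xgi32 ygi52 zgi39) (kgi xgi31 ygi19 zgi29) (kgi xgi29 ygi55 zgi0) (kgi xgi32 ygi52 zgi40) (kgi xgi27 ygi13 zgi37) (kgi xgi30 ygi21 zgi54) (kgi xgi32 ygi45 zgi18) (kgi xgi30 ygi28 zgi33) (kgi xgi29 ygi55 zgi48) (kgi xgi22 ygi24 zgi14) (kgi xgi26 ygi59 zgi58) (kgi xgi31 ygi1 zgi25) (kgi xgi31 ygi1 zgi24) (kgi xgi27 ygi6 zgi30) (kgi xgi31 ygi17 zgi60) (kgi xgi28 ygi44 zgi59) (kgi xgi28 ygi29 zgi16) (kgi xgi22 ygi46 zgi36) (kgi xgi24 ygi24 zgi50) (kgi xgi30 ygi25 zgi22) (kgi xgi29 ygi40 zgi20) (kgi xgi31 ygi34 zgi15) (kgi xgi24 ygi29 zgi44) (kgi xgi22 ygi40 zgi11) (kgi xgi24 ygi24 zgi44) (kgi xgi32 ygi37 zgi16) (kgi xgi27 ygi2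 zgi17) (kgi xgi28 ygi18 zgi38) (kgi xgi32 ygi1 zgi9) (kgi xgi30 ygi15 zgi14) (kgi xgi30 ygi16 zgi23) (kgi xgi32 ygi52 zgi42) (kgi xgi32 ygi19 zgi45) (kgi xgi32 ygi45 zgi28) (kgi xgi32 ygi52 zgi45) (kgi xgi32 ygi50 zgi16) (kgi xgi28 ygi18 zgi23)) (@D3.rec (fun _ => Pt) (kgi xgi28 ygi24 zgi17) (kgi xgi30 ygi15 zgi28) (kgi xgi30 ygi15 zgi30) (kgi xgi28 ygi24 zgi20) (kgi xgi22 ygi24 zgi39) (kgi xgi29 ygi45 zgi37) (kgi xgi30 ygi28 zgi17) (kgi xgi32 ygi40 zgi19) (kgi xgi32 ygi15 zgi10) (kgi xgi22 ygi24 zgi41) (kgi xgi32 ygi23 zgi9) (kgi xgi32 ygi44 zgi21) (kgi xgi29 ygi33 zgi46) (kgi xgi30 ygi31 zgi41) (kgi xgi32 ygi19 zgi12) (kgi xgi29 ygi37 zgi7) (kgi xgi30 ygi25 zgi17) (kgi xgi29 ygi45 zgi30) (kgi xgi30 ygi21 zgi46) (kgi xgi30 ygi25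 zgi41) (kgi xgi22 ygi24 zgi51) (kgi xgi30 ygi17 zgi18) (kgi xgi22 ygi24 zgi57) (kgi xgi22 ygi25 zgi5) (kgi xgi30 ygi16 zgi10) (kgi xgi32 ygi18 zgi58) (kgi xgi31 ygi12 zgi42) (kgi xgi27 ygi0 zgi41) (kgi xgi30 ygi51 zgi16) (kgi xgi30 ygi30 zgi14) (kgi xgi31 ygi31 zgi3) (kgi xgi24 ygi21 zgi37) (kgi xgi31 ygi55 zgi37) (kgi xgi32 ygi52 zgi33) (kgi xgi32 ygi47 zgi51) (kgi xgi22 ygi25 zgi20) (kgi xgi32 ygi50 zgi55) (kgi xgi24 ygi26 zgi37) (kgi xgi32 ygi52 zgi32) (kgi xgi32 ygi4 zgi5) (kgi xgi32 ygi14 zgi4) (kgi xgi31 ygi30 zgi33) (kgi xgi28 ygi16 zgi60) (kgi xgi30 ygi27 zgi60) (kgi xgi29 ygi39 zgi44) (kgi xgi30 ygi25 zgi26) (kgi xgi32 ygi10 zgi34) (kgi xgi32 ygi45 zgi14) (kgi xgi22 ygi25 zgi45) (kgi xgi32 ygi36 zgi12) (kgi xgi32 ygi44 zgi9)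 (kgi xgi22 ygi25 zgi41) (kgi xgi29 ygi26 zgi20) (kgi xgi32 ygi34 zgi14) (kgi xgi32 ygi39 zgi61) (kgi xgi30 ygi15 zgi53) (kgi xgi22 ygi25 zgi46) (kgi xgi22 ygi25 zgi51) (kgi xgi24 ygi21 zgi49) (kgi xgi30 ygi15 zgi56) (kgi xgi24 ygi1 zgi14) (kgi xgi24 ygi29 zgi4)) (@D3.rec (fun _ => Pt) (kgi xgi30 ygi30 zgi35) (kgi xgi22 ygi25 zgi58) (kgi xgi29 ygi1 zgi38) (kgi xgi30 ygi48 zgi57) (kgi xgi30 ygi52 zgi2) (kgi xgi22 ygi26 zgi0) (kgi xgi29 ygi53 zgi42) (kgi xgi27 ygi13 zgi55) (kgi xgi30 ygi50 zgi17) (kgi xgi22 ygi27 zgi41) (kgi xgi24 ygi30 zgi26) (kgi xgi26 ygi57 zgi19) (kgi xgi24 ygi24 zgi28) (kgi xgi29 ygi40 zgi42) (kgi xgi22 ygi26 zgi17) (kgi xgi30 ygi52 zgi3) (kgi xgi30 ygi30 zgi40) (kgi xgi31 ygi19 zgi48) (kgi xgi23 ygi45 zgi40) (kgi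 xgi23 ygi49 zgi2) (kgi xgi24 ygi30 zgi21) (kgi xgi28 ygi35 zgi12) (kgi xgi29 ygi25 zgi52) (kgi xgi30 ygi20 zgi58) (kgi xgi26 ygi58 zgi49) (kgi xgi26 ygi53 zgi45) (kgi xgi22 ygi59 zgi19) (kgi xgi26 ygi52 zgi14) (kgi xgi32 ygi33 zgi17) (kgi xgi22 ygi27 zgi24) (kgi xgi22 ygi26 zgi39) (kgi xgi30 ygi31 zgi21) (kgi xgi29 ygi41 zgi5) (kgi xgi22 ygi26 zgi44) (kgi xgi30 ygi22 zgi10) (kgi xgi28 ygi53 zgi30) (kgi xgi24 ygi10 zgi46) (kgi xgi22 ygi29 zgi60) (kgi xgi30 ygi22 zgi40) (kgi xgi23 ygi48 zgi12) (kgi xgi22 ygi26 zgi60) (kgi xgi32 ygi46 zgi20) (kgi xgi22 ygi26 zgi61) (kgi xgi30 ygi18 zgi33) (kgi xgi28 ygi33 zgi13) (kgi xgi30 ygi45 zgi8) (kgi xgi28 ygi37 zgi52) (kgi xgi30 ygi18 zgi54) (kgi xgi29 ygi36 zgi43) (kgi xgi23 ygi23 zgi31) (kgi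 xgi27 ygi47 zgi46) (kgi xgi22 ygi27 zgi32) (kgi xgi22 ygi27 zgi29) (kgi xgi30 ygi50 zgi9) (kgi xgi29 ygi46 zgi1) (kgi xgi31 ygi26 zgi4) (kgi xgi22 ygi27 zgi22) (kgi xgi29 ygi40 zgi39) (kgi xgi31 ygi19 zgi24) (kgi xgi32 ygi52 zgi22) (kgi xgi28 ygi31 zgi0) (kgi xgi27 ygi16 zgi2)) (@D3.rec (fun _ => Pt) (kgi xgi30 ygi48 zgi60) (kgi xgi32 ygi47 zgi60) (kgi xgi32 ygi17 zgi2) (kgi xgi32 ygi47 zgi33) (kgi xgi22 ygi27 zgi28) (kgi xgi32 ygi45 zgi39) (kgi xgi31 ygi19 zgi20) (kgi xgi32 ygi47 zgi12) (kgi xgi29 ygi40 zgi40) (kgi xgi32 ygi45 zgi35) (kgi xgi27 ygi59 zgi37) (kgi xgi29 ygi20 zgi40) (kgi xgi23 ygi54 zgi29) (kgi xgi22 ygi27 zgi34) (kgi xgi23 ygi54 zgi27) (kgi xgi26 ygi30 zgi30) (kgi xgi32 ygi51 zgi36) (kgi xgi31 ygi19 zgi28) (kgi xgi29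 ygi36 zgi54) (kgi xgi30 ygi22 zgi46) (kgi xgi26 ygi59 zgi53) (kgi xgi30 ygi30 zgi30) (kgi xgi28 ygi53 zgi9) (kgi xgi31 ygi29 zgi40) (kgi xgi32 ygi46 zgi43) (kgi xgi23 ygi59 zgi43) (kgi xgi24 ygi29 zgi60) (kgi xgi23 ygi57 zgi3) (kgi xgi32 ygi46 zgi37) (kgi xgi22 ygi33 zgi12) (kgi xgi29 ygi35 zgi50) (kgi xgi32 ygi52 zgi57) (kgi xgi31 ygi10 zgi50) (kgi xgi32 ygi36 zgi52) (kgi xgi22 ygi27 zgi51) (kgi xgi22 ygi53 zgi47) (kgi xgi30 ygi58 zgi39) (kgi xgi32 ygi4 zgi37) (kgi xgi28 ygi40 zgi55) (kgi xgi27 ygi55 zgi53) (kgi xgi31 ygi9 zgi31) (kgi xgi22 ygi58 zgi31) (kgi xgi27 ygi58 zgi2) (kgi xgi23 ygi44 zgi21) (kgi xgi31 ygi5 zgi11) (kgi xgi31 ygi2 zgi17) (kgi xgi32 ygi44 zgi15) (kgi xgi22 ygi28 zgi33) (kgi xgi22 ygi28 zgi34) (kgi xgi32 ygi2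 zgi57) (kgi xgi32 ygi2 zgi56) (kgi xgi25 ygi3 zgi21) (kgi xgi22 ygi49 zgi60) (kgi xgi22 ygi28 zgi53) (kgi xgi23 ygi42 zgi58) (kgi xgi28 ygi7 zgi42) (kgi xgi31 ygi38 zgi7) (kgi xgi26 ygi20 zgi42) (kgi xgi23 ygi46 zgi16) (kgi xgi27 ygi33 zgi10) (kgi xgi27 ygi53 zgi56) (kgi xgi30 ygi31 zgi52)) (@D3.rec (fun _ => Pt) (kgi xgi27 ygi59 zgi47) (kgi xgi30 ygi31 zgi53) (kgi xgi31 ygi44 zgi53) (kgi xgi23 ygi9 zgi26) (kgi xgi23 ygi7 zgi53) (kgi xgi29 ygi29 zgi58) (kgi xgi23 ygi18 zgi10) (kgi xgi30 ygi57 zgi57) (kgi xgi28 ygi9 zgi58) (kgi xgi27 ygi57 zgi29) (kgi xgi28 ygi13 zgi18) (kgi xgi22 ygi29 zgi45) (kgi xgi23 ygi33 zgi27) (kgi xgi28 ygi52 zgi57) (kgi xgi24 ygi23 zgi27) (kgi xgi23 ygi46 zgi29) (kgi xgi30 ygi50 zgi42) (kgi xgi30 ygi20 zgi49)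 (kgi xgi29 ygi8 zgi39) (kgi xgi22 ygi29 zgi53) (kgi xgi22 ygi36 zgi4) (kgi xgi29 ygi28 zgi57) (kgi xgi28 ygi37 zgi56) (kgi xgi30 ygi39 zgi50) (kgi xgi22 ygi29 zgi57) (kgi xgi22 ygi39 zgi41) (kgi xgi22 ygi29 zgi59) (kgi xgi22 ygi37 zgi24) (kgi xgi32 ygi21 zgi15) (kgi xgi30 ygi22 zgi51) (kgi xgi30 ygi45 zgi0) (kgi xgi31 ygi22 zgi19) (kgi xgi22 ygi30 zgi2) (kgi xgi22 ygi41 zgi53) (kgi xgi28 ygi26 zgi13) (kgi xgi29 ygi14 zgi1) (kgi xgi31 ygi12 zgi16) (kgi xgi22 ygi30 zgi9) (kgi xgi29 ygi32 zgi38) (kgi xgi26 ygi23 zgi45) (kgi xgi31 ygi1 zgi33) (kgi xgi23 ygi15 zgi40) (kgi xgi23 ygi13 zgi43) (kgi xgi23 ygi37 zgi14) (kgi xgi31 ygi44 zgi57) (kgi xgi23 ygi13 zgi51) (kgi xgi30 ygi42 zgi27) (kgi xgi27 ygi44 zgi59) (kgi xgi22 ygi30 zgi43) (kgi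 xgi27 ygi44 zgi56) (kgi xgi23 ygi44 zgi5) (kgi xgi30 ygi59 zgi5) (kgi xgi30 ygi33 zgi53) (kgi xgi22 ygi30 zgi50) (kgi xgi23 ygi17 zgi53) (kgi xgi28 ygi28 zgi8) (kgi xgi22 ygi30 zgi52) (kgi xgi27 ygi58 zgi38) (kgi xgi25 ygi57 zgi40) (kgi xgi25 ygi57 zgi35) (kgi xgi23 ygi54 zgi48) (kgi xgi32 ygi33 zgi46)) (@D3.rec (fun _ => Pt) (kgi xgi30 ygi23 zgi48) (kgi xgi30 ygi50 zgi27) (kgi xgi30 ygi49 zgi55) (kgi xgi22 ygi31 zgi3) (kgi xgi30 ygi36 zgi45) (kgi xgi31 ygi49 zgi18) (kgi xgi22 ygi31 zgi4) (kgi xgi31 ygi49 zgi20) (kgi xgi32 ygi2 zgi12) (kgi xgi23 ygi29 zgi57) (kgi xgi22 ygi31 zgi12) (kgi xgi30 ygi13 zgi58) (kgi xgi30 ygi13 zgi56) (kgi xgi30 ygi38 zgi57) (kgi xgi22 ygi31 zgi19) (kgi xgi31 ygi2 zgi20) (kgi xgi31 ygi38 zgi6) (kgi xgi29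 ygi11 zgi48) (kgi xgi30 ygi33 zgi24) (kgi xgi32 ygi19 zgi23) (kgi xgi22 ygi31 zgi25) (kgi xgi22 ygi31 zgi27) (kgi xgi23 ygi25 zgi3) (kgi xgi31 ygi6 zgi13) (kgi xgi30 ygi2 zgi21) (kgi xgi31 ygi6 zgi11) (kgi xgi30 ygi10 zgi47) (kgi xgi22 ygi31 zgi29) (kgi xgi22 ygi31 zgi37) (kgi xgi28 ygi26 zgi3) (kgi xgi32 ygi23 zgi47) (kgi xgi28 ygi13 zgi17) (kgi xgi23 ygi13 zgi41) (kgi xgi30 ygi32 zgi35) (kgi xgi32 ygi44 zgi39) (kgi xgi30 ygi10 zgi46) (kgi xgi32 ygi34 zgi11) (kgi xgi31 ygi37 zgi49) (kgi xgi27 ygi57 zgi55) (kgi xgi23 ygi16 zgi36) (kgi xgi23 ygi37 zgi35) (kgi xgi23 ygi42 zgi39) (kgi xgi30 ygi7 zgi21) (kgi xgi29 ygi12 zgi22) (kgi xgi30 ygi13 zgi61) (kgi xgi29 ygi26 zgi44) (kgi xgi22 ygi31 zgi59) (kgi xgi30 ygi46 zgi12) (kgi xgi30 ygi55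 zgi30) (kgi xgi29 ygi30 zgi13) (kgi xgi30 ygi58 zgi30) (kgi xgi29 ygi28 zgi28) (kgi xgi22 ygi31 zgi60) (kgi xgi25 ygi3 zgi3) (kgi xgi31 ygi1 zgi8) (kgi xgi23 ygi43 zgi32) (kgi xgi22 ygi32 zgi2) (kgi xgi23 ygi19 zgi41) (kgi xgi29 ygi24 zgi41) (kgi xgi30 ygi6 zgi17) (kgi xgi22 ygi38 zgi34) (kgi xgi28 ygi18 zgi54)) (@D3.rec (fun _ => Pt) (kgi xgi23 ygi38 zgi54) (kgi xgi31 ygi32 zgi34) (kgi xgi23 ygi29 zgi55) (kgi xgi22 ygi37 zgi54) (kgi xgi22 ygi32 zgi39) (kgi xgi32 ygi32 zgi46) (kgi xgi24 ygi23 zgi29) (kgi xgi30 ygi37 zgi26) (kgi xgi32 ygi8 zgi17) (kgi xgi22 ygi38 zgi17) (kgi xgi30 ygi12 zgi1) (kgi xgi29 ygi22 zgi21) (kgi xgi22 ygi40 zgi30) (kgi xgi22 ygi40 zgi54) (kgi xgi22 ygi41 zgi4) (kgi xgi22 ygi40 zgi39) (kgi xgi22 ygi41 zgi26)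 (kgi xgi30 ygi22 zgi56) (kgi xgi22 ygi41 zgi35) (kgi xgi22 ygi33 zgi10) (kgi xgi22 ygi33 zgi16) (kgi xgi30 ygi21 zgi30) (kgi xgi31 ygi32 zgi29) (kgi xgi23 ygi48 zgi46) (kgi xgi30 ygi21 zgi11) (kgi xgi30 ygi49 zgi60) (kgi xgi30 ygi21 zgi23) (kgi xgi31 ygi51 zgi25) (kgi xgi31 ygi41 zgi60) (kgi xgi31 ygi20 zgi11) (kgi xgi22 ygi33 zgi20) (kgi xgi31 ygi15 zgi11) (kgi xgi32 ygi52 zgi9) (kgi xgi32 ygi53 zgi23) (kgi xgi22 ygi33 zgi22) (kgi xgi22 ygi33 zgi24) (kgi xgi27 ygi8 zgi13) (kgi xgi28 ygi34 zgi49) (kgi xgi28 ygi25 zgi10) (kgi xgi30 ygi49 zgi36) (kgi xgi32 ygi22 zgi58) (kgi xgi26 ygi53 zgi43) (kgi xgi22 ygi33 zgi40) (kgi xgi23 ygi54 zgi18) (kgi xgi23 ygi54 zgi16) (kgi xgi28 ygi7 zgi24) (kgi xgi23 ygi54 zgi21) (kgi xgi28 ygi36 zgi12)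 (kgi xgi22 ygi33 zgi44) (kgi xgi23 ygi54 zgi24) (kgi xgi32 ygi53 zgi27) (kgi xgi28 ygi6 zgi60) (kgi xgi29 ygi19 zgi50) (kgi xgi23 ygi55 zgi2) (kgi xgi30 ygi50 zgi48) (kgi xgi31 ygi11 zgi29) (kgi xgi23 ygi54 zgi57) (kgi xgi23 ygi54 zgi56) (kgi xgi31 ygi16 zgi41) (kgi xgi24 ygi7 zgi46) (kgi xgi29 ygi24 zgi10) (kgi xgi26 ygi22 zgi0)) (@D3.rec (fun _ => Pt) (kgi xgi23 ygi15 zgi10) (kgi xgi22 ygi34 zgi6) (kgi xgi30 ygi52 zgi38) (kgi xgi30 ygi59 zgi49) (kgi xgi32 ygi38 zgi41) (kgi xgi31 ygi22 zgi47) (kgi xgi30 ygi49 zgi44) (kgi xgi22 ygi34 zgi12) (kgi xgi32 ygi35 zgi53) (kgi xgi24 ygi1 zgi7) (kgi xgi28 ygi0 zgi56) (kgi xgi29 ygi55 zgi37) (kgi xgi29 ygi1 zgi45) (kgi xgi30 ygi29 zgi61) (kgi xgi32 ygi21 zgi31) (kgi xgi29 ygi2 zgi30) (kgi xgi26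 ygi19 zgi5) (kgi xgi28 ygi46 zgi33) (kgi xgi32 ygi28 zgi49) (kgi xgi32 ygi53 zgi28) (kgi xgi22 ygi34 zgi40) (kgi xgi30 ygi24 zgi48) (kgi xgi23 ygi50 zgi61) (kgi xgi23 ygi50 zgi32) (kgi xgi32 ygi50 zgi28) (kgi xgi30 ygi21 zgi14) (kgi xgi32 ygi31 zgi7) (kgi xgi32 ygi29 zgi41) (kgi xgi22 ygi34 zgi52) (kgi xgi32 ygi53 zgi31) (kgi xgi30 ygi44 zgi52) (kgi xgi22 ygi34 zgi55) (kgi xgi23 ygi50 zgi44) (kgi xgi23 ygi50 zgi42) (kgi xgi23 ygi51 zgi3) (kgi xgi27 ygi45 zgi59) (kgi xgi23 ygi36 zgi50) (kgi xgi32 ygi29 zgi43) (kgi xgi27 ygi49 zgi56) (kgi xgi22 ygi34 zgi61) (kgi xgi28 ygi17 zgi54) (kgi xgi23 ygi51 zgi28) (kgi xgi23 ygi51 zgi25) (kgi xgi30 ygi22 zgi20) (kgi xgi30 ygi22 zgi25) (kgi xgi23 ygi51 zgi35) (kgi xgi24 ygi44 zgi22) (kgi xgi23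 ygi48 zgi26) (kgi xgi28 ygi45 zgi58) (kgi xgi31 ygi45 zgi11) (kgi xgi32 ygi14 zgi23) (kgi xgi28 ygi46 zgi23) (kgi xgi22 ygi35 zgi9) (kgi xgi28 ygi4 zgi26) (kgi xgi23 ygi39 zgi28) (kgi xgi31 ygi7 zgi48) (kgi xgi22 ygi39 zgi58) (kgi xgi22 ygi35 zgi26) (kgi xgi23 ygi48 zgi28) (kgi xgi24 ygi0 zgi11) (kgi xgi31 ygi5 zgi46) (kgi xgi23 ygi29 zgi42)) (@D3.rec (fun _ => Pt) (kgi xgi24 ygi22 zgi1) (kgi xgi22 ygi35 zgi31) (kgi xgi31 ygi3 zgi43) (kgi xgi28 ygi35 zgi45) (kgi xgi25 ygi46 zgi21) (kgi xgi30 ygi43 zgi59) (kgi xgi31 ygi24 zgi5) (kgi xgi28 ygi35 zgi35) (kgi xgi22 ygi35 zgi46) (kgi xgi22 ygi35 zgi49) (kgi xgi27 ygi15 zgi1) (kgi xgi22 ygi35 zgi48) (kgi xgi26 ygi22 zgi25) (kgi xgi28 ygi33 zgi34) (kgi xgi28 ygi37 zgi30) (kgi xgi22 ygi35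 zgi55) (kgi xgi22 ygi35 zgi53) (kgi xgi23 ygi18 zgi51) (kgi xgi29 ygi21 zgi33) (kgi xgi23 ygi56 zgi59) (kgi xgi28 ygi50 zgi20) (kgi xgi23 ygi0 zgi18) (kgi xgi30 ygi39 zgi60) (kgi xgi22 ygi37 zgi15) (kgi xgi32 ygi33 zgi47) (kgi xgi24 ygi2 zgi3) (kgi xgi23 ygi0 zgi38) (kgi xgi24 ygi18 zgi59) (kgi xgi28 ygi32 zgi60) (kgi xgi31 ygi21 zgi36) (kgi xgi26 ygi51 zgi55) (kgi xgi30 ygi49 zgi29) (kgi xgi30 ygi52 zgi55) (kgi xgi22 ygi36 zgi19) (kgi xgi22 ygi36 zgi24) (kgi xgi23 ygi15 zgi43) (kgi xgi23 ygi54 zgi44) (kgi xgi28 ygi21 zgi42) (kgi xgi23 ygi12 zgi16) (kgi xgi23 ygi55 zgi18) (kgi xgi23 ygi54 zgi46) (kgi xgi28 ygi38 zgi9) (kgi xgi23 ygi47 zgi40) (kgi xgi32 ygi44 zgi28) (kgi xgi32 ygi53 zgi40) (kgi xgi30 ygi33 zgi36) (kgi xgi22 ygi36 zgi40)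 (kgi xgi30 ygi46 zgi61) (kgi xgi26 ygi50 zgi46) (kgi xgi28 ygi16 zgi61) (kgi xgi25 ygi52 zgi45) (kgi xgi26 ygi51 zgi57) (kgi xgi23 ygi12 zgi44) (kgi xgi22 ygi39 zgi21) (kgi xgi31 ygi5 zgi1) (kgi xgi27 ygi12 zgi51) (kgi xgi31 ygi37 zgi15) (kgi xgi31 ygi13 zgi46) (kgi xgi22 ygi37 zgi30) (kgi xgi31 ygi33 zgi22) (kgi xgi22 ygi37 zgi29) (kgi xgi24 ygi23 zgi26)) (@D3.rec (fun _ => Pt) (kgi xgi30 ygi35 zgi46) (kgi xgi31 ygi15 zgi43) (kgi xgi32 ygi14 zgi47) (kgi xgi22 ygi37 zgi34) (kgi xgi23 ygi40 zgi26) (kgi xgi32 ygi49 zgi10) (kgi xgi22 ygi56 zgi50) (kgi xgi22 ygi37 zgi49) (kgi xgi22 ygi53 zgi60) (kgi xgi22 ygi53 zgi58) (kgi xgi30 ygi55 zgi24) (kgi xgi30 ygi10 zgi52) (kgi xgi22 ygi55 zgi13) (kgi xgi30 ygi37 zgi33) (kgi xgi24 ygi24 zgi1)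 (kgi xgi22 ygi38 zgi3) (kgi xgi30 ygi36 zgi54) (kgi xgi22 ygi40 zgi42) (kgi xgi22 ygi38 zgi33) (kgi xgi22 ygi38 zgi8) (kgi xgi24 ygi14 zgi18) (kgi xgi24 ygi22 zgi38) (kgi xgi27 ygi12 zgi52) (kgi xgi27 ygi41 zgi2) (kgi xgi23 ygi39 zgi59) (kgi xgi30 ygi18 zgi12) (kgi xgi30 ygi34 zgi6) (kgi xgi30 ygi44 zgi18) (kgi xgi24 ygi9 zgi57) (kgi xgi22 ygi38 zgi31) (kgi xgi30 ygi22 zgi33) (kgi xgi26 ygi51 zgi56) (kgi xgi28 ygi19 zgi1) (kgi xgi30 ygi37 zgi12) (kgi xgi31 ygi7 zgi27) (kgi xgi31 ygi7 zgi16) (kgi xgi30 ygi33 zgi42) (kgi xgi28 ygi1 zgi44) (kgi xgi23 ygi20 zgi12) (kgi xgi30 ygi58 zgi17) (kgi xgi23 ygi41 zgi7) (kgi xgi22 ygi39 zgi18) (kgi xgi22 ygi39 zgi20) (kgi xgi30 ygi23 zgi39) (kgi xgi22 ygi59 zgi20) (kgi xgi32 ygi36 zgi29) (kgi xgi22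 ygi39 zgi30) (kgi xgi24 ygi11 zgi13) (kgi xgi31 ygi24 zgi15) (kgi xgi30 ygi21 zgi18) (kgi xgi31 ygi30 zgi42) (kgi xgi22 ygi39 zgi23) (kgi xgi31 ygi24 zgi16) (kgi xgi29 ygi35 zgi25) (kgi xgi22 ygi40 zgi1) (kgi xgi22 ygi39 zgi61) (kgi xgi30 ygi38 zgi12) (kgi xgi23 ygi41 zgi8) (kgi xgi22 ygi39 zgi27) (kgi xgi28 ygi28 zgi50) (kgi xgi31 ygi28 zgi43) (kgi xgi32 ygi40 zgi59)) (@D3.rec (fun _ => Pt) (kgi xgi24 ygi5 zgi23) (kgi xgi24 ygi5 zgi21) (kgi xgi32 ygi53 zgi48) (kgi xgi29 ygi55 zgi9) (kgi xgi23 ygi48 zgi16) (kgi xgi30 ygi38 zgi33) (kgi xgi22 ygi39 zgi38) (kgi xgi28 ygi5 zgi54) (kgi xgi30 ygi19 zgi8) (kgi xgi22 ygi39 zgi40) (kgi xgi30 ygi22 zgi37) (kgi xgi30 ygi39 zgi48) (kgi xgi22 ygi41 zgi52) (kgi xgi30 ygi51 zgi21) (kgi xgi30 ygi37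 zgi56) (kgi xgi28 ygi16 zgi28) (kgi xgi22 ygi39 zgi45) (kgi xgi30 ygi50 zgi3) (kgi xgi30 ygi54 zgi22) (kgi xgi30 ygi50 zgi45) (kgi xgi32 ygi22 zgi53) (kgi xgi30 ygi20 zgi44) (kgi xgi23 ygi0 zgi13) (kgi xgi22 ygi39 zgi52) (kgi xgi32 ygi37 zgi33) (kgi xgi32 ygi52 zgi36) (kgi xgi28 ygi17 zgi23) (kgi xgi28 ygi17 zgi25) (kgi xgi29 ygi36 zgi31) (kgi xgi30 ygi54 zgi24) (kgi xgi29 ygi8 zgi50) (kgi xgi32 ygi51 zgi35) (kgi xgi22 ygi39 zgi59) (kgi xgi30 ygi50 zgi4) (kgi xgi29 ygi35 zgi48) (kgi xgi28 ygi38 zgi43) (kgi xgi32 ygi33 zgi45) (kgi xgi31 ygi15 zgi18) (kgi xgi28 ygi16 zgi29) (kgi xgi31 ygi13 zgi42) (kgi xgi23 ygi41 zgi1) (kgi xgi22 ygi41 zgi33) (kgi xgi23 ygi48 zgi54) (kgi xgi28 ygi52 zgi7) (kgi xgi32 ygi53 zgi53) (kgi xgi22 ygi40 zgi9)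 (kgi xgi32 ygi22 zgi41) (kgi xgi32 ygi24 zgi7) (kgi xgi27 ygi7 zgi16) (kgi xgi23 ygi26 zgi17) (kgi xgi24 ygi10 zgi18) (kgi xgi31 ygi32 zgi31) (kgi xgi27 ygi10 zgi39) (kgi xgi31 ygi1 zgi39) (kgi xgi22 ygi40 zgi36) (kgi xgi23 ygi36 zgi2) (kgi xgi24 ygi8 zgi60) (kgi xgi31 ygi4 zgi60) (kgi xgi32 ygi5 zgi11) (kgi xgi31 ygi9 zgi3) (kgi xgi29 ygi39 zgi40) (kgi xgi23 ygi47 zgi49)) (@D3.rec (fun _ => Pt) (kgi xgi22 ygi46 zgi50) (kgi xgi22 ygi40 zgi49) (kgi xgi28 ygi39 zgi8) (kgi xgi31 ygi18 zgi38) (kgi xgi24 ygi21 zgi28) (kgi xgi30 ygi38 zgi51) (kgi xgi26 ygi52 zgi5) (kgi xgi23 ygi49 zgi18) (kgi xgi22 ygi40 zgi57) (kgi xgi23 ygi52 zgi26) (kgi xgi22 ygi41 zgi2) (kgi xgi24 ygi26 zgi10) (kgi xgi25 ygi59 zgi43) (kgi xgi28 ygi47 zgi53) (kgi xgi32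 ygi42 zgi41) (kgi xgi22 ygi41 zgi24) (kgi xgi25 ygi18 zgi33) (kgi xgi22 ygi41 zgi25) (kgi xgi32 ygi34 zgi50) (kgi xgi32 ygi27 zgi6) (kgi xgi31 ygi49 zgi25) (kgi xgi23 ygi12 zgi39) (kgi xgi27 ygi7 zgi11) (kgi xgi22 ygi41 zgi34) (kgi xgi32 ygi20 zgi13) (kgi xgi32 ygi20 zgi12) (kgi xgi32 ygi53 zgi49) (kgi xgi31 ygi15 zgi4) (kgi xgi22 ygi41 zgi37) (kgi xgi24 ygi4 zgi7) (kgi xgi32 ygi31 zgi11) (kgi xgi32 ygi50 zgi42) (kgi xgi23 ygi48 zgi24) (kgi xgi31 ygi32 zgi33) (kgi xgi23 ygi13 zgi50) (kgi xgi22 ygi51 zgi49) (kgi xgi25 ygi59 zgi32) (kgi xgi22 ygi49 zgi53) (kgi xgi22 ygi41 zgi48) (kgi xgi23 ygi52 zgi47) (kgi xgi32 ygi52 zgi8) (kgi xgi22 ygi41 zgi49) (kgi xgi32 ygi39 zgi58) (kgi xgi30 ygi22 zgi61) (kgi xgi24 ygi12 zgi46) (kgi xgi22 ygi41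 zgi51) (kgi xgi28 ygi16 zgi33) (kgi xgi28 ygi51 zgi49) (kgi xgi30 ygi32 zgi23) (kgi xgi32 ygi40 zgi49) (kgi xgi30 ygi38 zgi11) (kgi xgi22 ygi56 zgi18) (kgi xgi25 ygi16 zgi28) (kgi xgi30 ygi36 zgi35) (kgi xgi23 ygi19 zgi31) (kgi xgi25 ygi16 zgi31) (kgi xgi23 ygi20 zgi18) (kgi xgi24 ygi31 zgi13) (kgi xgi22 ygi42 zgi21) (kgi xgi25 ygi16 zgi24) (kgi xgi30 ygi24 zgi15) (kgi xgi25 ygi52 zgi41)) (@D3.rec (fun _ => Pt) (kgi xgi25 ygi21 zgi21) (kgi xgi23 ygi16 zgi50) (kgi xgi29 ygi27 zgi0) (kgi xgi23 ygi41 zgi57) (kgi xgi22 ygi42 zgi51) (kgi xgi27 ygi43 zgi21) (kgi xgi24 ygi37 zgi26) (kgi xgi31 ygi10 zgi22) (kgi xgi30 ygi40 zgi49) (kgi xgi29 ygi55 zgi20) (kgi xgi31 ygi7 zgi49) (kgi xgi30 ygi41 zgi53) (kgi xgi23 ygi29 zgi50) (kgi xgi32 ygi32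 zgi10) (kgi xgi30 ygi42 zgi8) (kgi xgi31 ygi3 zgi2) (kgi xgi30 ygi13 zgi37) (kgi xgi22 ygi42 zgi60) (kgi xgi23 ygi28 zgi42) (kgi xgi31 ygi42 zgi24) (kgi xgi32 ygi29 zgi13) (kgi xgi24 ygi43 zgi40) (kgi xgi32 ygi54 zgi4) (kgi xgi30 ygi41 zgi38) (kgi xgi25 ygi42 zgi19) (kgi xgi32 ygi48 zgi14) (kgi xgi29 ygi49 zgi46) (kgi xgi22 ygi43 zgi10) (kgi xgi31 ygi2 zgi61) (kgi xgi32 ygi54 zgi5) (kgi xgi23 ygi29 zgi36) (kgi xgi24 ygi38 zgi25) (kgi xgi30 ygi41 zgi24) (kgi xgi30 ygi41 zgi3) (kgi xgi30 ygi41 zgi8) (kgi xgi29 ygi11 zgi15) (kgi xgi30 ygi51 zgi40) (kgi xgi22 ygi43 zgi18) (kgi xgi24 ygi33 zgi61) (kgi xgi24 ygi33 zgi59) (kgi xgi25 ygi58 zgi61) (kgi xgi23 ygi32 zgi17) (kgi xgi23 ygi30 zgi6) (kgi xgi27 ygi18 zgi24) (kgi xgi27 ygi13 zgi2)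 (kgi xgi25 ygi30 zgi14) (kgi xgi29 ygi49 zgi50) (kgi xgi30 ygi41 zgi54) (kgi xgi30 ygi40 zgi57) (kgi xgi30 ygi4 zgi54) (kgi xgi30 ygi41 zgi28) (kgi xgi22 ygi43 zgi40) (kgi xgi29 ygi9 zgi46) (kgi xgi22 ygi43 zgi52) (kgi xgi30 ygi31 zgi46) (kgi xgi23 ygi38 zgi32) (kgi xgi31 ygi49 zgi38) (kgi xgi22 ygi43 zgi36) (kgi xgi30 ygi40 zgi48) (kgi xgi22 ygi43 zgi37) (kgi xgi25 ygi23 zgi10) (kgi xgi22 ygi43 zgi39)) (@D3.rec (fun _ => Pt) (kgi xgi30 ygi42 zgi11) (kgi xgi31 ygi4 zgi58) (kgi xgi31 ygi56 zgi47) (kgi xgi30 ygi40 zgi34) (kgi xgi30 ygi41 zgi52) (kgi xgi25 ygi39 zgi14) (kgi xgi29 ygi11 zgi38) (kgi xgi31 ygi9 zgi4) (kgi xgi30 ygi40 zgi33) (kgi xgi23 ygi37 zgi21) (kgi xgi30 ygi10 zgi27) (kgi xgi22 ygi44 zgi34) (kgi xgi22 ygi44 zgi6) (kgi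 xgi23 ygi39 zgi57) (kgi xgi22 ygi44 zgi7) (kgi xgi30 ygi41 zgi45) (kgi xgi31 ygi4 zgi39) (kgi xgi31 ygi3 zgi33) (kgi xgi30 ygi42 zgi6) (kgi xgi31 ygi57 zgi61) (kgi xgi32 ygi49 zgi16) (kgi xgi23 ygi41 zgi55) (kgi xgi31 ygi1 zgi59) (kgi xgi31 ygi2 zgi1) (kgi xgi31 ygi5 zgi52) (kgi xgi31 ygi8 zgi36) (kgi xgi30 ygi40 zgi22) (kgi xgi32 ygi48 zgi45) (kgi xgi31 ygi11 zgi58) (kgi xgi22 ygi44 zgi18) (kgi xgi27 ygi33 zgi28) (kgi xgi32 ygi3 zgi51) (kgi xgi32 ygi26 zgi42) (kgi xgi22 ygi44 zgi19) (kgi xgi31 ygi4 zgi50) (kgi xgi31 ygi4 zgi48) (kgi xgi23 ygi26 zgi11) (kgi xgi23 ygi41 zgi54) (kgi xgi28 ygi31 zgi33) (kgi xgi30 ygi47 zgi7) (kgi xgi22 ygi45 zgi6) (kgi xgi31 ygi36 zgi61) (kgi xgi30 ygi35 zgi55) (kgi xgi23 ygi29 zgi61) (kgi xgi31 ygi37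 zgi48) (kgi xgi30 ygi41 zgi14) (kgi xgi22 ygi44 zgi33) (kgi xgi23 ygi26 zgi6) (kgi xgi23 ygi42 zgi5) (kgi xgi23 ygi42 zgi4) (kgi xgi31 ygi37 zgi50) (kgi xgi29 ygi58 zgi23) (kgi xgi30 ygi40 zgi47) (kgi xgi32 ygi27 zgi45) (kgi xgi30 ygi41 zgi4) (kgi xgi29 ygi5 zgi28) (kgi xgi22 ygi44 zgi41) (kgi xgi31 ygi36 zgi17) (kgi xgi31 ygi4 zgi23) (kgi xgi23 ygi28 zgi22) (kgi xgi31 ygi8 zgi1) (kgi xgi22 ygi44 zgi46)) (@D3.rec (fun _ => Pt) (kgi xgi31 ygi5 zgi0) (kgi xgi29 ygi10 zgi28) (kgi xgi30 ygi40 zgi16) (kgi xgi29 ygi10 zgi29) (kgi xgi22 ygi44 zgi52) (kgi xgi30 ygi4 zgi47) (kgi xgi30 ygi41 zgi20) (kgi xgi22 ygi44 zgi58) (kgi xgi32 ygi5 zgi9) (kgi xgi30 ygi1 zgi22) (kgi xgi22 ygi45 zgi5) (kgi xgi22 ygi44 zgi56) (kgi xgi23 ygi28 zgi60) (kgi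 xgi31 ygi8 zgi50) (kgi xgi30 ygi40 zgi23) (kgi xgi31 ygi57 zgi30) (kgi xgi25 ygi37 zgi18) (kgi xgi29 ygi55 zgi28) (kgi xgi31 ygi12 zgi55) (kgi xgi23 ygi31 zgi15) (kgi xgi32 ygi42 zgi57) (kgi xgi30 ygi0 zgi27) (kgi xgi26 ygi1 zgi20) (kgi xgi31 ygi5 zgi34) (kgi xgi22 ygi45 zgi27) (kgi xgi23 ygi15 zgi18) (kgi xgi26 ygi3 zgi24) (kgi xgi23 ygi38 zgi21) (kgi xgi30 ygi32 zgi46) (kgi xgi22 ygi45 zgi36) (kgi xgi23 ygi44 zgi22) (kgi xgi26 ygi0 zgi12) (kgi xgi23 ygi24 zgi54) (kgi xgi32 ygi19 zgi49) (kgi xgi23 ygi29 zgi38) (kgi xgi31 ygi4 zgi32) (kgi xgi31 ygi6 zgi34) (kgi xgi23 ygi33 zgi18) (kgi xgi23 ygi43 zgi35) (kgi xgi32 ygi27 zgi43) (kgi xgi29 ygi52 zgi15) (kgi xgi22 ygi46 zgi8) (kgi xgi25 ygi16 zgi19) (kgi xgi29 ygi48 zgi57) (kgi xgi26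 ygi9 zgi40) (kgi xgi26 ygi9 zgi39) (kgi xgi27 ygi58 zgi14) (kgi xgi23 ygi21 zgi26) (kgi xgi30 ygi33 zgi22) (kgi xgi22 ygi46 zgi20) (kgi xgi26 ygi23 zgi37) (kgi xgi22 ygi46 zgi35) (kgi xgi30 ygi39 zgi34) (kgi xgi24 ygi29 zgi58) (kgi xgi24 ygi29 zgi56) (kgi xgi24 ygi30 zgi23) (kgi xgi24 ygi25 zgi6) (kgi xgi24 ygi1 zgi0) (kgi xgi29 ygi42 zgi10) (kgi xgi31 ygi30 zgi28) (kgi xgi22 ygi47 zgi6) (kgi xgi22 ygi47 zgi8)) (@D3.rec (fun _ => Pt) (kgi xgi31 ygi30 zgi27) (kgi xgi23 ygi51 zgi7) (kgi xgi29 ygi21 zgi22) (kgi xgi32 ygi54 zgi25) (kgi xgi22 ygi47 zgi10) (kgi xgi23 ygi21 zgi39) (kgi xgi23 ygi31 zgi60) (kgi xgi23 ygi3 zgi27) (kgi xgi22 ygi51 zgi8) (kgi xgi22 ygi54 zgi21) (kgi xgi30 ygi43 zgi38) (kgi xgi26 ygi25 zgi55) (kgi xgi28 ygi19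 zgi26) (kgi xgi25 ygi5 zgi27) (kgi xgi22 ygi52 zgi51) (kgi xgi22 ygi52 zgi49) (kgi xgi22 ygi55 zgi5) (kgi xgi23 ygi7 zgi44) (kgi xgi22 ygi53 zgi33) (kgi xgi22 ygi48 zgi26) (kgi xgi22 ygi53 zgi8) (kgi xgi30 ygi55 zgi25) (kgi xgi30 ygi55 zgi26) (kgi xgi22 ygi47 zgi59) (kgi xgi22 ygi52 zgi61) (kgi xgi24 ygi6 zgi60) (kgi xgi22 ygi48 zgi16) (kgi xgi22 ygi54 zgi4) (kgi xgi30 ygi46 zgi40) (kgi xgi22 ygi54 zgi36) (kgi xgi22 ygi52 zgi30) (kgi xgi24 ygi14 zgi11) (kgi xgi31 ygi53 zgi58) (kgi xgi22 ygi48 zgi19) (kgi xgi22 ygi52 zgi57) (kgi xgi24 ygi18 zgi12) (kgi xgi22 ygi48 zgi22) (kgi xgi22 ygi55 zgi29) (kgi xgi30 ygi53 zgi55) (kgi xgi26 ygi58 zgi16) (kgi xgi27 ygi3 zgi5) (kgi xgi30 ygi51 zgi33) (kgi xgi32 ygi18 zgi8) (kgi xgi30 ygi55 zgi31)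 (kgi xgi23 ygi4 zgi42) (kgi xgi25 ygi34 zgi12) (kgi xgi30 ygi54 zgi54) (kgi xgi32 ygi7 zgi8) (kgi xgi31 ygi3 zgi35) (kgi xgi23 ygi57 zgi38) (kgi xgi22 ygi48 zgi38) (kgi xgi28 ygi43 zgi5) (kgi xgi28 ygi52 zgi18) (kgi xgi24 ygi12 zgi10) (kgi xgi31 ygi16 zgi34) (kgi xgi23 ygi12 zgi35) (kgi xgi29 ygi42 zgi13) (kgi xgi24 ygi24 zgi30) (kgi xgi22 ygi58 zgi34) (kgi xgi31 ygi25 zgi50) (kgi xgi29 ygi8 zgi0) (kgi xgi30 ygi26 zgi44)) (@D3.rec (fun _ => Pt) (kgi xgi30 ygi26 zgi43) (kgi xgi30 ygi36 zgi5) (kgi xgi24 ygi10 zgi44) (kgi xgi26 ygi29 zgi0) (kgi xgi23 ygi7 zgi1) (kgi xgi22 ygi49 zgi23) (kgi xgi28 ygi24 zgi53) (kgi xgi30 ygi21 zgi8) (kgi xgi32 ygi22 zgi44) (kgi xgi30 ygi47 zgi61) (kgi xgi29 ygi24 zgi12) (kgi xgi22 ygi49 zgi22) (kgi xgi28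 ygi26 zgi16) (kgi xgi26 ygi56 zgi54) (kgi xgi29 ygi21 zgi35) (kgi xgi28 ygi50 zgi5) (kgi xgi22 ygi49 zgi26) (kgi xgi28 ygi33 zgi30) (kgi xgi30 ygi43 zgi57) (kgi xgi24 ygi9 zgi43) (kgi xgi30 ygi53 zgi58) (kgi xgi25 ygi3 zgi18) (kgi xgi28 ygi5 zgi29) (kgi xgi32 ygi44 zgi56) (kgi xgi24 ygi56 zgi28) (kgi xgi30 ygi52 zgi51) (kgi xgi28 ygi4 zgi28) (kgi xgi28 ygi5 zgi26) (kgi xgi32 ygi28 zgi61) (kgi xgi32 ygi25 zgi55) (kgi xgi32 ygi26 zgi8) (kgi xgi28 ygi6 zgi54) (kgi xgi32 ygi25 zgi56) (kgi xgi30 ygi3 zgi8) (kgi xgi22 ygi49 zgi49) (kgi xgi28 ygi4 zgi60) (kgi xgi27 ygi33 zgi11) (kgi xgi32 ygi5 zgi15) (kgi xgi29 ygi29 zgi14) (kgi xgi27 ygi5 zgi36) (kgi xgi27 ygi35 zgi7) (kgi xgi22 ygi50 zgi53) (kgi xgi28 ygi8 zgi37) (kgi xgi27 ygi53 zgi51)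 (kgi xgi30 ygi45 zgi39) (kgi xgi32 ygi21 zgi55) (kgi xgi27 ygi49 zgi46) (kgi xgi31 ygi48 zgi38) (kgi xgi31 ygi14 zgi55) (kgi xgi22 ygi50 zgi17) (kgi xgi30 ygi45 zgi47) (kgi xgi30 ygi45 zgi46) (kgi xgi30 ygi35 zgi24) (kgi xgi22 ygi50 zgi23) (kgi xgi31 ygi32 zgi58) (kgi xgi31 ygi15 zgi19) (kgi xgi22 ygi50 zgi26) (kgi xgi28 ygi38 zgi24) (kgi xgi32 ygi25 zgi49) (kgi xgi30 ygi32 zgi30) (kgi xgi22 ygi50 zgi27) (kgi xgi32 ygi25 zgi52)) (@D3.rec (fun _ => Pt) (kgi xgi30 ygi5 zgi54) (kgi xgi31 ygi56 zgi13) (kgi xgi24 ygi56 zgi6) (kgi xgi29 ygi35 zgi38) (kgi xgi32 ygi15 zgi11) (kgi xgi24 ygi5 zgi24) (kgi xgi30 ygi20 zgi53) (kgi xgi32 ygi53 zgi9) (kgi xgi22 ygi59 zgi26) (kgi xgi23 ygi0 zgi35) (kgi xgi32 ygi51 zgi14) (kgi xgi24 ygi14 zgi41) (kgi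 xgi31 ygi23 zgi46) (kgi xgi22 ygi50 zgi52) (kgi xgi22 ygi56 zgi36) (kgi xgi26 ygi36 zgi49) (kgi xgi32 ygi44 zgi10) (kgi xgi27 ygi52 zgi36) (kgi xgi28 ygi8 zgi55) (kgi xgi30 ygi35 zgi14) (kgi xgi32 ygi32 zgi6) (kgi xgi27 ygi52 zgi46) (kgi xgi22 ygi50 zgi56) (kgi xgi27 ygi49 zgi16) (kgi xgi31 ygi1 zgi16) (kgi xgi27 ygi54 zgi22) (kgi xgi26 ygi21 zgi6) (kgi xgi31 ygi32 zgi0) (kgi xgi24 ygi57 zgi37) (kgi xgi32 ygi9 zgi61) (kgi xgi27 ygi38 zgi0) (kgi xgi28 ygi16 zgi7) (kgi xgi32 ygi8 zgi2) (kgi xgi29 ygi55 zgi34) (kgi xgi30 ygi22 zgi5) (kgi xgi23 ygi21 zgi51) (kgi xgi28 ygi26 zgi23) (kgi xgi26 ygi56 zgi40) (kgi xgi30 ygi44 zgi44) (kgi xgi29 ygi29 zgi34) (kgi xgi24 ygi55 zgi36) (kgi xgi26 ygi1 zgi0) (kgi xgi22 ygi51 zgi32) (kgi xgi32 ygi9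 zgi46) (kgi xgi27 ygi30 zgi31) (kgi xgi22 ygi51 zgi40) (kgi xgi22 ygi51 zgi38) (kgi xgi30 ygi44 zgi49) (kgi xgi22 ygi51 zgi41) (kgi xgi22 ygi51 zgi43) (kgi xgi29 ygi18 zgi57) (kgi xgi32 ygi30 zgi27) (kgi xgi32 ygi9 zgi59) (kgi xgi27 ygi52 zgi14) (kgi xgi27 ygi58 zgi20) (kgi xgi24 ygi47 zgi29) (kgi xgi27 ygi49 zgi8) (kgi xgi32 ygi10 zgi15) (kgi xgi32 ygi19 zgi58) (kgi xgi25 ygi3 zgi42) (kgi xgi24 ygi55 zgi23) (kgi xgi31 ygi33 zgi50)) (@D3.rec (fun _ => Pt) (kgi xgi26 ygi13 zgi23) (kgi xgi27 ygi55 zgi38) (kgi xgi24 ygi9 zgi19) (kgi xgi24 ygi6 zgi5) (kgi xgi23 ygi8 zgi20) (kgi xgi22 ygi52 zgi14) (kgi xgi27 ygi14 zgi59) (kgi xgi23 ygi8 zgi2) (kgi xgi31 ygi23 zgi14) (kgi xgi30 ygi26 zgi40) (kgi xgi24 ygi34 zgi37) (kgi xgi31 ygi7 zgi3)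 (kgi xgi30 ygi33 zgi51) (kgi xgi26 ygi8 zgi49) (kgi xgi29 ygi43 zgi2) (kgi xgi23 ygi8 zgi18) (kgi xgi22 ygi52 zgi34) (kgi xgi30 ygi51 zgi35) (kgi xgi31 ygi36 zgi21) (kgi xgi22 ygi52 zgi48) (kgi xgi28 ygi23 zgi29) (kgi xgi23 ygi5 zgi12) (kgi xgi29 ygi38 zgi30) (kgi xgi30 ygi1 zgi46) (kgi xgi30 ygi55 zgi43) (kgi xgi32 ygi19 zgi40) (kgi xgi24 ygi5 zgi36) (kgi xgi22 ygi53 zgi0) (kgi xgi22 ygi53 zgi16) (kgi xgi30 ygi27 zgi35) (kgi xgi22 ygi53 zgi2) (kgi xgi22 ygi53 zgi3) (kgi xgi23 ygi53 zgi48) (kgi xgi29 ygi30 zgi17) (kgi xgi26 ygi55 zgi39) (kgi xgi31 ygi15 zgi49) (kgi xgi30 ygi56 zgi6) (kgi xgi30 ygi43 zgi28) (kgi xgi26 ygi56 zgi0) (kgi xgi31 ygi43 zgi22) (kgi xgi30 ygi47 zgi16) (kgi xgi28 ygi37 zgi29) (kgi xgi22 ygi53 zgi11) (kgi xgi32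 ygi51 zgi21) (kgi xgi30 ygi49 zgi42) (kgi xgi30 ygi27 zgi57) (kgi xgi23 ygi52 zgi22) (kgi xgi29 ygi55 zgi38) (kgi xgi25 ygi35 zgi57) (kgi xgi22 ygi55 zgi0) (kgi xgi30 ygi47 zgi43) (kgi xgi28 ygi38 zgi18) (kgi xgi29 ygi4 zgi42) (kgi xgi27 ygi15 zgi25) (kgi xgi24 ygi23 zgi11) (kgi xgi22 ygi53 zgi35) (kgi xgi32 ygi48 zgi32) (kgi xgi31 ygi44 zgi12) (kgi xgi27 ygi15 zgi47) (kgi xgi31 ygi53 zgi29) (kgi xgi31 ygi0 zgi40) (kgi xgi30 ygi36 zgi46)) (@D3.rec (fun _ => Pt) (kgi xgi23 ygi13 zgi56) (kgi xgi22 ygi56 zgi10) (kgi xgi23 ygi15 zgi25) (kgi xgi22 ygi53 zgi45) (kgi xgi23 ygi17 zgi0) (kgi xgi32 ygi4 zgi61) (kgi xgi23 ygi16 zgi6) (kgi xgi30 ygi41 zgi41) (kgi xgi25 ygi35 zgi60) (kgi xgi28 ygi47 zgi59) (kgi xgi25 ygi30 zgi22) (kgi xgi22 ygi53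 zgi57) (kgi xgi28 ygi32 zgi55) (kgi xgi31 ygi25 zgi47) (kgi xgi30 ygi48 zgi33) (kgi xgi32 ygi28 zgi5) (kgi xgi30 ygi46 zgi37) (kgi xgi29 ygi30 zgi49) (kgi xgi22 ygi54 zgi6) (kgi xgi22 ygi54 zgi15) (kgi xgi22 ygi54 zgi13) (kgi xgi32 ygi9 zgi10) (kgi xgi30 ygi18 zgi34) (kgi xgi22 ygi54 zgi10) (kgi xgi29 ygi30 zgi48) (kgi xgi22 ygi54 zgi11) (kgi xgi25 ygi59 zgi25) (kgi xgi28 ygi11 zgi10) (kgi xgi28 ygi59 zgi16) (kgi xgi22 ygi54 zgi26) (kgi xgi24 ygi3 zgi4) (kgi xgi25 ygi30 zgi16) (kgi xgi31 ygi56 zgi28) (kgi xgi31 ygi0 zgi38) (kgi xgi30 ygi3 zgi22) (kgi xgi32 ygi49 zgi30) (kgi xgi24 ygi14 zgi7) (kgi xgi22 ygi54 zgi46) (kgi xgi31 ygi39 zgi14) (kgi xgi28 ygi19 zgi39) (kgi xgi22 ygi54 zgi47) (kgi xgi26 ygi24 zgi6) (kgi xgi23 ygi10 zgi1)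 (kgi xgi30 ygi46 zgi51) (kgi xgi29 ygi28 zgi18) (kgi xgi31 ygi23 zgi25) (kgi xgi26 ygi24 zgi28) (kgi xgi31 ygi1 zgi57) (kgi xgi32 ygi51 zgi17) (kgi xgi25 ygi24 zgi12) (kgi xgi22 ygi55 zgi7) (kgi xgi30 ygi51 zgi3) (kgi xgi30 ygi53 zgi51) (kgi xgi25 ygi11 zgi44) (kgi xgi30 ygi54 zgi50) (kgi xgi25 ygi58 zgi24) (kgi xgi25 ygi57 zgi43) (kgi xgi27 ygi43 zgi45) (kgi xgi22 ygi55 zgi19) (kgi xgi28 ygi49 zgi26) (kgi xgi30 ygi44 zgi9) (kgi xgi30 ygi48 zgi26)) (@D3.rec (fun _ => Pt) (kgi xgi26 ygi29 zgi5) (kgi xgi29 ygi42 zgi17) (kgi xgi23 ygi4 zgi47) (kgi xgi31 ygi1 zgi5) (kgi xgi31 ygi34 zgi43) (kgi xgi24 ygi13 zgi1) (kgi xgi31 ygi53 zgi48) (kgi xgi22 ygi55 zgi43) (kgi xgi26 ygi31 zgi12) (kgi xgi29 ygi19 zgi25) (kgi xgi25 ygi50 zgi4) (kgi xgi25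 ygi12 zgi58) (kgi xgi32 ygi29 zgi25) (kgi xgi28 ygi22 zgi40) (kgi xgi28 ygi22 zgi38) (kgi xgi32 ygi29 zgi23) (kgi xgi27 ygi10 zgi12) (kgi xgi27 ygi10 zgi13) (kgi xgi29 ygi28 zgi3) (kgi xgi25 ygi2 zgi9) (kgi xgi31 ygi34 zgi4) (kgi xgi30 ygi53 zgi43) (kgi xgi30 ygi24 zgi29) (kgi xgi23 ygi9 zgi22) (kgi xgi23 ygi15 zgi5) (kgi xgi22 ygi56 zgi7) (kgi xgi30 ygi47 zgi60) (kgi xgi28 ygi2 zgi59) (kgi xgi23 ygi14 zgi27) (kgi xgi23 ygi17 zgi1) (kgi xgi22 ygi56 zgi12) (kgi xgi23 ygi17 zgi7) (kgi xgi23 ygi17 zgi5) (kgi xgi24 ygi8 zgi2) (kgi xgi32 ygi14 zgi53) (kgi xgi30 ygi47 zgi14) (kgi xgi31 ygi15 zgi17) (kgi xgi24 ygi14 zgi40) (kgi xgi32 ygi48 zgi30) (kgi xgi30 ygi17 zgi32) (kgi xgi30 ygi31 zgi0) (kgi xgi32 ygi11 zgi13) (kgi xgi22 ygi56 zgi26)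 (kgi xgi32 ygi54 zgi41) (kgi xgi32 ygi54 zgi40) (kgi xgi31 ygi13 zgi47) (kgi xgi25 ygi59 zgi18) (kgi xgi32 ygi30 zgi54) (kgi xgi26 ygi53 zgi10) (kgi xgi30 ygi30 zgi57) (kgi xgi31 ygi28 zgi10) (kgi xgi24 ygi25 zgi4) (kgi xgi32 ygi54 zgi44) (kgi xgi28 ygi24 zgi32) (kgi xgi32 ygi54 zgi26) (kgi xgi30 ygi30 zgi3) (kgi xgi28 ygi24 zgi26) (kgi xgi28 ygi35 zgi0) (kgi xgi30 ygi30 zgi5) (kgi xgi30 ygi30 zgi56) (kgi xgi28 ygi56 zgi29) (kgi xgi30 ygi31 zgi20)) (@D3.rec (fun _ => Pt) (kgi xgi27 ygi17 zgi59) (kgi xgi23 ygi27 zgi12) (kgi xgi23 ygi27 zgi34) (kgi xgi22 ygi56 zgi60) (kgi xgi24 ygi6 zgi30) (kgi xgi31 ygi22 zgi37) (kgi xgi28 ygi32 zgi51) (kgi xgi26 ygi54 zgi59) (kgi xgi30 ygi26 zgi32) (kgi xgi30 ygi24 zgi2) (kgi xgi24 ygi24 zgi34) (kgi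 xgi32 ygi14 zgi49) (kgi xgi22 ygi58 zgi39) (kgi xgi30 ygi55 zgi58) (kgi xgi28 ygi5 zgi52) (kgi xgi32 ygi14 zgi46) (kgi xgi24 ygi9 zgi2) (kgi xgi32 ygi52 zgi14) (kgi xgi24 ygi9 zgi12) (kgi xgi25 ygi35 zgi53) (kgi xgi25 ygi28 zgi15) (kgi xgi24 ygi12 zgi52) (kgi xgi27 ygi49 zgi54) (kgi xgi28 ygi50 zgi48) (kgi xgi30 ygi57 zgi38) (kgi xgi22 ygi57 zgi41) (kgi xgi31 ygi15 zgi54) (kgi xgi32 ygi53 zgi38) (kgi xgi22 ygi57 zgi45) (kgi xgi31 ygi16 zgi0) (kgi xgi31 ygi43 zgi26) (kgi xgi23 ygi49 zgi49) (kgi xgi30 ygi45 zgi9) (kgi xgi23 ygi54 zgi61) (kgi xgi30 ygi56 zgi3) (kgi xgi31 ygi32 zgi7) (kgi xgi28 ygi37 zgi16) (kgi xgi30 ygi56 zgi9) (kgi xgi28 ygi53 zgi37) (kgi xgi27 ygi21 zgi39) (kgi xgi31 ygi6 zgi42) (kgi xgi30 ygi46 zgi44) (kgi xgi30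 ygi18 zgi61) (kgi xgi22 ygi58 zgi4) (kgi xgi22 ygi58 zgi5) (kgi xgi30 ygi35 zgi6) (kgi xgi28 ygi36 zgi10) (kgi xgi32 ygi21 zgi40) (kgi xgi23 ygi2 zgi25) (kgi xgi30 ygi54 zgi53) (kgi xgi32 ygi52 zgi58) (kgi xgi22 ygi58 zgi7) (kgi xgi22 ygi58 zgi9) (kgi xgi32 ygi54 zgi47) (kgi xgi29 ygi30 zgi43) (kgi xgi24 ygi5 zgi35) (kgi xgi32 ygi54 zgi49) (kgi xgi25 ygi56 zgi39) (kgi xgi32 ygi54 zgi46) (kgi xgi31 ygi13 zgi28) (kgi xgi32 ygi53 zgi50) (kgi xgi23 ygi51 zgi32)) (@D3.rec (fun _ => Pt) (kgi xgi30 ygi38 zgi16) (kgi xgi32 ygi51 zgi16) (kgi xgi32 ygi54 zgi53) (kgi xgi30 ygi35 zgi56) (kgi xgi22 ygi58 zgi15) (kgi xgi23 ygi28 zgi52) (kgi xgi23 ygi29 zgi10) (kgi xgi30 ygi13 zgi7) (kgi xgi27 ygi16 zgi20) (kgi xgi23 ygi2 zgi24) (kgi xgi31 ygi54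 zgi1) (kgi xgi23 ygi12 zgi25) (kgi xgi23 ygi12 zgi26) (kgi xgi26 ygi22 zgi15) (kgi xgi30 ygi26 zgi26) (kgi xgi24 ygi24 zgi24) (kgi xgi32 ygi52 zgi26) (kgi xgi30 ygi30 zgi10) (kgi xgi31 ygi23 zgi61) (kgi xgi22 ygi58 zgi47) (kgi xgi29 ygi53 zgi36) (kgi xgi28 ygi50 zgi58) (kgi xgi31 ygi58 zgi16) (kgi xgi26 ygi51 zgi7) (kgi xgi29 ygi6 zgi40) (kgi xgi32 ygi33 zgi39) (kgi xgi28 ygi23 zgi42) (kgi xgi29 ygi42 zgi11) (kgi xgi23 ygi12 zgi36) (kgi xgi30 ygi46 zgi3) (kgi xgi31 ygi23 zgi7) (kgi xgi31 ygi23 zgi5) (kgi xgi32 ygi19 zgi39) (kgi xgi31 ygi29 zgi57) (kgi xgi31 ygi15 zgi40) (kgi xgi30 ygi37 zgi48) (kgi xgi22 ygi59 zgi22) (kgi xgi32 ygi49 zgi58) (kgi xgi31 ygi23 zgi10) (kgi xgi28 ygi53 zgi40) (kgi xgi32 ygi49 zgi60) (kgi xgi23 ygi0 zgi46)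 (kgi xgi30 ygi45 zgi34) (kgi xgi24 ygi6 zgi45) (kgi xgi30 ygi46 zgi39) (kgi xgi30 ygi23 zgi41) (kgi xgi29 ygi23 zgi53) (kgi xgi30 ygi33 zgi1) (kgi xgi27 ygi23 zgi40) (kgi xgi29 ygi42 zgi12) (kgi xgi29 ygi39 zgi33) (kgi xgi31 ygi26 zgi51) (kgi xgi30 ygi24 zgi27) (kgi xgi29 ygi18 zgi51) (kgi xgi22 ygi59 zgi50) (kgi xgi25 ygi57 zgi34) (kgi xgi25 ygi54 zgi31) (kgi xgi30 ygi46 zgi2) (kgi xgi27 ygi12 zgi57) (kgi xgi31 ygi23 zgi47) (kgi xgi28 ygi22 zgi15) (kgi xgi30 ygi38 zgi22)) (@D3.rec (fun _ => Pt) (kgi xgi23 ygi0 zgi5) (kgi xgi26 ygi26 zgi4) (kgi xgi30 ygi47 zgi51) (kgi xgi31 ygi42 zgi3) (kgi xgi25 ygi50 zgi52) (kgi xgi30 ygi50 zgi2) (kgi xgi30 ygi50 zgi41) (kgi xgi26 ygi22 zgi21) (kgi xgi23 ygi0 zgi20) (kgi xgi25 ygi59 zgi39) (kgi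 xgi24 ygi13 zgi36) (kgi xgi23 ygi0 zgi27) (kgi xgi32 ygi8 zgi26) (kgi xgi23 ygi0 zgi34) (kgi xgi32 ygi35 zgi25) (kgi xgi30 ygi49 zgi33) (kgi xgi30 ygi30 zgi12) (kgi xgi30 ygi53 zgi9) (kgi xgi29 ygi21 zgi38) (kgi xgi30 ygi36 zgi53) (kgi xgi28 ygi24 zgi56) (kgi xgi24 ygi18 zgi55) (kgi xgi28 ygi29 zgi31) (kgi xgi23 ygi56 zgi39) (kgi xgi27 ygi9 zgi47) (kgi xgi24 ygi38 zgi0) (kgi xgi27 ygi43 zgi33) (kgi xgi29 ygi9 zgi49) (kgi xgi24 ygi39 zgi6) (kgi xgi29 ygi53 zgi38) (kgi xgi29 ygi3 zgi30) (kgi xgi29 ygi4 zgi21) (kgi xgi28 ygi35 zgi28) (kgi xgi30 ygi48 zgi21) (kgi xgi26 ygi31 zgi37) (kgi xgi24 ygi8 zgi44) (kgi xgi29 ygi44 zgi28) (kgi xgi31 ygi35 zgi42) (kgi xgi32 ygi36 zgi47) (kgi xgi30 ygi40 zgi36) (kgi xgi31 ygi27 zgi20) (kgi xgi23 ygi1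 zgi38) (kgi xgi29 ygi4 zgi7) (kgi xgi24 ygi33 zgi56) (kgi xgi30 ygi40 zgi44) (kgi xgi30 ygi12 zgi32) (kgi xgi27 ygi12 zgi34) (kgi xgi30 ygi12 zgi60) (kgi xgi27 ygi26 zgi45) (kgi xgi29 ygi58 zgi39) (kgi xgi31 ygi2 zgi23) (kgi xgi29 ygi9 zgi51) (kgi xgi23 ygi20 zgi10) (kgi xgi23 ygi44 zgi33) (kgi xgi23 ygi2 zgi7) (kgi xgi23 ygi43 zgi34) (kgi xgi26 ygi33 zgi0) (kgi xgi23 ygi2 zgi9) (kgi xgi31 ygi6 zgi8) (kgi xgi31 ygi2 zgi27) (kgi xgi31 ygi11 zgi10) (kgi xgi29 ygi12 zgi17)) (@D3.rec (fun _ => Pt) (kgi xgi24 ygi41 zgi50) (kgi xgi28 ygi23 zgi13) (kgi xgi30 ygi30 zgi15) (kgi xgi30 ygi30 zgi4) (kgi xgi30 ygi30 zgi53) (kgi xgi32 ygi34 zgi54) (kgi xgi31 ygi17 zgi46) (kgi xgi26 ygi24 zgi17) (kgi xgi29 ygi58 zgi42) (kgi xgi23 ygi41 zgi36) (kgi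 xgi28 ygi47 zgi6) (kgi xgi30 ygi3 zgi34) (kgi xgi32 ygi31 zgi51) (kgi xgi32 ygi49 zgi3) (kgi xgi32 ygi50 zgi54) (kgi xgi23 ygi2 zgi38) (kgi xgi30 ygi52 zgi34) (kgi xgi30 ygi52 zgi33) (kgi xgi30 ygi10 zgi40) (kgi xgi31 ygi56 zgi48) (kgi xgi31 ygi57 zgi46) (kgi xgi23 ygi32 zgi0) (kgi xgi23 ygi21 zgi3) (kgi xgi30 ygi59 zgi6) (kgi xgi32 ygi6 zgi40) (kgi xgi32 ygi43 zgi38) (kgi xgi23 ygi3 zgi2) (kgi xgi30 ygi59 zgi33) (kgi xgi32 ygi32 zgi34) (kgi xgi28 ygi24 zgi43) (kgi xgi31 ygi30 zgi20) (kgi xgi32 ygi53 zgi17) (kgi xgi29 ygi11 zgi46) (kgi xgi23 ygi3 zgi5) (kgi xgi30 ygi52 zgi15) (kgi xgi32 ygi30 zgi41) (kgi xgi28 ygi12 zgi23) (kgi xgi32 ygi30 zgi43) (kgi xgi30 ygi35 zgi1) (kgi xgi28 ygi28 zgi34) (kgi xgi23 ygi3 zgi14) (kgi xgi30 ygi58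 zgi59) (kgi xgi30 ygi58 zgi57) (kgi xgi31 ygi3 zgi0) (kgi xgi32 ygi53 zgi42) (kgi xgi31 ygi4 zgi26) (kgi xgi29 ygi49 zgi55) (kgi xgi23 ygi3 zgi34) (kgi xgi23 ygi29 zgi49) (kgi xgi31 ygi2 zgi60) (kgi xgi23 ygi29 zgi46) (kgi xgi27 ygi40 zgi22) (kgi xgi30 ygi7 zgi10) (kgi xgi32 ygi27 zgi9) (kgi xgi26 ygi21 zgi53) (kgi xgi23 ygi14 zgi46) (kgi xgi23 ygi4 zgi16) (kgi xgi23 ygi4 zgi19) (kgi xgi27 ygi0 zgi60) (kgi xgi26 ygi22 zgi18) (kgi xgi24 ygi6 zgi46) (kgi xgi26 ygi29 zgi47)) (@D3.rec (fun _ => Pt) (kgi xgi23 ygi4 zgi30) (kgi xgi24 ygi6 zgi2) (kgi xgi23 ygi57 zgi5) (kgi xgi32 ygi55 zgi0) (kgi xgi32 ygi34 zgi21) (kgi xgi27 ygi44 zgi22) (kgi xgi32 ygi36 zgi16) (kgi xgi23 ygi4 zgi35) (kgi xgi23 ygi4 zgi37) (kgi xgi31 ygi25 zgi51) (kgi xgi32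 ygi45 zgi13) (kgi xgi30 ygi51 zgi17) (kgi xgi28 ygi28 zgi31) (kgi xgi23 ygi4 zgi44) (kgi xgi23 ygi56 zgi58) (kgi xgi27 ygi41 zgi56) (kgi xgi30 ygi43 zgi9) (kgi xgi23 ygi9 zgi5) (kgi xgi30 ygi6 zgi57) (kgi xgi23 ygi4 zgi52) (kgi xgi28 ygi19 zgi57) (kgi xgi31 ygi44 zgi14) (kgi xgi23 ygi7 zgi50) (kgi xgi32 ygi44 zgi55) (kgi xgi23 ygi8 zgi22) (kgi xgi23 ygi8 zgi47) (kgi xgi25 ygi7 zgi3) (kgi xgi23 ygi9 zgi1) (kgi xgi30 ygi54 zgi19) (kgi xgi23 ygi9 zgi55) (kgi xgi23 ygi7 zgi47) (kgi xgi23 ygi15 zgi21) (kgi xgi23 ygi5 zgi17) (kgi xgi32 ygi1 zgi20) (kgi xgi28 ygi19 zgi52) (kgi xgi23 ygi11 zgi17) (kgi xgi23 ygi5 zgi22) (kgi xgi23 ygi8 zgi5) (kgi xgi32 ygi23 zgi39) (kgi xgi23 ygi8 zgi61) (kgi xgi26 ygi56 zgi26) (kgi xgi26 ygi23 zgi48) (kgi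 xgi23 ygi5 zgi28) (kgi xgi30 ygi43 zgi41) (kgi xgi23 ygi8 zgi26) (kgi xgi30 ygi46 zgi24) (kgi xgi23 ygi8 zgi51) (kgi xgi23 ygi5 zgi44) (kgi xgi31 ygi30 zgi56) (kgi xgi30 ygi47 zgi52) (kgi xgi29 ygi29 zgi24) (kgi xgi26 ygi28 zgi35) (kgi xgi29 ygi53 zgi29) (kgi xgi32 ygi51 zgi42) (kgi xgi24 ygi2 zgi38) (kgi xgi23 ygi6 zgi2) (kgi xgi23 ygi6 zgi4) (kgi xgi23 ygi6 zgi5) (kgi xgi23 ygi6 zgi12) (kgi xgi30 ygi44 zgi20) (kgi xgi23 ygi19 zgi22) (kgi xgi23 ygi57 zgi59)) (@D3.rec (fun _ => Pt) (kgi xgi28 ygi9 zgi50) (kgi xgi30 ygi45 zgi35) (kgi xgi32 ygi29 zgi49) (kgi xgi23 ygi51 zgi18) (kgi xgi23 ygi51 zgi20) (kgi xgi30 ygi32 zgi0) (kgi xgi24 ygi47 zgi38) (kgi xgi27 ygi31 zgi41) (kgi xgi27 ygi2 zgi59) (kgi xgi30 ygi38 zgi21) (kgi xgi32 ygi55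 zgi1) (kgi xgi28 ygi27 zgi5) (kgi xgi24 ygi18 zgi7) (kgi xgi30 ygi6 zgi61) (kgi xgi31 ygi39 zgi5) (kgi xgi23 ygi7 zgi12) (kgi xgi28 ygi12 zgi42) (kgi xgi28 ygi12 zgi41) (kgi xgi27 ygi31 zgi28) (kgi xgi30 ygi45 zgi50) (kgi xgi23 ygi7 zgi29) (kgi xgi28 ygi30 zgi53) (kgi xgi29 ygi36 zgi56) (kgi xgi30 ygi38 zgi30) (kgi xgi30 ygi8 zgi3) (kgi xgi24 ygi57 zgi9) (kgi xgi27 ygi58 zgi28) (kgi xgi29 ygi41 zgi42) (kgi xgi23 ygi8 zgi52) (kgi xgi23 ygi15 zgi3) (kgi xgi23 ygi7 zgi52) (kgi xgi25 ygi55 zgi18) (kgi xgi23 ygi9 zgi53) (kgi xgi25 ygi24 zgi50) (kgi xgi27 ygi10 zgi1) (kgi xgi26 ygi28 zgi49) (kgi xgi32 ygi1 zgi17) (kgi xgi23 ygi8 zgi6) (kgi xgi23 ygi8 zgi7) (kgi xgi23 ygi8 zgi10) (kgi xgi23 ygi8 zgi12) (kgi xgi29 ygi24 zgi50) (kgi xgi23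 ygi8 zgi41) (kgi xgi31 ygi34 zgi53) (kgi xgi23 ygi8 zgi19) (kgi xgi25 ygi55 zgi30) (kgi xgi30 ygi55 zgi33) (kgi xgi32 ygi46 zgi60) (kgi xgi32 ygi2 zgi22) (kgi xgi27 ygi15 zgi31) (kgi xgi30 ygi47 zgi56) (kgi xgi25 ygi59 zgi49) (kgi xgi31 ygi58 zgi59) (kgi xgi30 ygi48 zgi5) (kgi xgi30 ygi48 zgi1) (kgi xgi26 ygi30 zgi7) (kgi xgi24 ygi31 zgi53) (kgi xgi29 ygi16 zgi61) (kgi xgi29 ygi53 zgi10) (kgi xgi29 ygi41 zgi59) (kgi xgi25 ygi28 zgi19) (kgi xgi25 ygi9 zgi36)) (@D3.rec (fun _ => Pt) (kgi xgi31 ygi50 zgi17) (kgi xgi31 ygi35 zgi31) (kgi xgi32 ygi48 zgi59) (kgi xgi30 ygi16 zgi36) (kgi xgi24 ygi2 zgi60) (kgi xgi31 ygi47 zgi12) (kgi xgi23 ygi9 zgi6) (kgi xgi23 ygi9 zgi13) (kgi xgi32 ygi7 zgi56) (kgi xgi31 ygi47 zgi16) (kgi xgi32 ygi29 zgi44)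 (kgi xgi31 ygi47 zgi59) (kgi xgi23 ygi15 zgi27) (kgi xgi30 ygi51 zgi58) (kgi xgi28 ygi21 zgi48) (kgi xgi30 ygi59 zgi10) (kgi xgi23 ygi18 zgi23) (kgi xgi23 ygi16 zgi7) (kgi xgi32 ygi30 zgi61) (kgi xgi28 ygi49 zgi19) (kgi xgi32 ygi3 zgi2) (kgi xgi23 ygi9 zgi51) (kgi xgi32 ygi48 zgi58) (kgi xgi28 ygi28 zgi18) (kgi xgi32 ygi2 zgi32) (kgi xgi30 ygi43 zgi22) (kgi xgi30 ygi43 zgi21) (kgi xgi27 ygi59 zgi41) (kgi xgi24 ygi5 zgi41) (kgi xgi32 ygi54 zgi37) (kgi xgi30 ygi43 zgi43) (kgi xgi30 ygi33 zgi48) (kgi xgi32 ygi27 zgi56) (kgi xgi23 ygi10 zgi13) (kgi xgi30 ygi50 zgi52) (kgi xgi32 ygi54 zgi33) (kgi xgi30 ygi54 zgi30) (kgi xgi23 ygi10 zgi25) (kgi xgi25 ygi28 zgi43) (kgi xgi29 ygi30 zgi11) (kgi xgi32 ygi21 zgi33) (kgi xgi29 ygi32 zgi16) (kgi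 xgi29 ygi37 zgi25) (kgi xgi25 ygi48 zgi57) (kgi xgi26 ygi58 zgi12) (kgi xgi32 ygi1 zgi50) (kgi xgi26 ygi56 zgi43) (kgi xgi26 ygi25 zgi22) (kgi xgi23 ygi19 zgi42) (kgi xgi28 ygi49 zgi11) (kgi xgi23 ygi52 zgi5) (kgi xgi25 ygi51 zgi57) (kgi xgi24 ygi14 zgi42) (kgi xgi24 ygi3 zgi13) (kgi xgi23 ygi39 zgi9) (kgi xgi30 ygi7 zgi57) (kgi xgi29 ygi3 zgi28) (kgi xgi23 ygi27 zgi26) (kgi xgi30 ygi36 zgi6) (kgi xgi31 ygi20 zgi30) (kgi xgi30 ygi8 zgi48) (kgi xgi32 ygi41 zgi15)) (@D3.rec (fun _ => Pt) (kgi xgi24 ygi11 zgi60) (kgi xgi25 ygi6 zgi15) (kgi xgi32 ygi21 zgi7) (kgi xgi23 ygi11 zgi33) (kgi xgi28 ygi20 zgi13) (kgi xgi28 ygi22 zgi33) (kgi xgi32 ygi55 zgi4) (kgi xgi28 ygi23 zgi14) (kgi xgi28 ygi29 zgi9) (kgi xgi23 ygi11 zgi36) (kgi xgi24 ygi27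 zgi8) (kgi xgi25 ygi57 zgi59) (kgi xgi32 ygi36 zgi30) (kgi xgi24 ygi6 zgi29) (kgi xgi28 ygi21 zgi0) (kgi xgi30 ygi57 zgi32) (kgi xgi25 ygi55 zgi61) (kgi xgi32 ygi1 zgi22) (kgi xgi31 ygi1 zgi15) (kgi xgi31 ygi6 zgi28) (kgi xgi25 ygi53 zgi26) (kgi xgi23 ygi12 zgi17) (kgi xgi23 ygi12 zgi18) (kgi xgi28 ygi33 zgi53) (kgi xgi25 ygi30 zgi18) (kgi xgi30 ygi24 zgi9) (kgi xgi23 ygi12 zgi27) (kgi xgi30 ygi49 zgi39) (kgi xgi31 ygi15 zgi44) (kgi xgi32 ygi3 zgi0) (kgi xgi23 ygi12 zgi33) (kgi xgi23 ygi12 zgi40) (kgi xgi24 ygi11 zgi50) (kgi xgi31 ygi48 zgi32) (kgi xgi28 ygi19 zgi32) (kgi xgi31 ygi9 zgi49) (kgi xgi24 ygi22 zgi7) (kgi xgi23 ygi12 zgi46) (kgi xgi24 ygi22 zgi10) (kgi xgi24 ygi33 zgi47) (kgi xgi25 ygi4 zgi44) (kgi xgi24 ygi28 zgi44) (kgi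 xgi23 ygi12 zgi52) (kgi xgi23 ygi55 zgi56) (kgi xgi31 ygi17 zgi54) (kgi xgi30 ygi27 zgi30) (kgi xgi24 ygi3 zgi20) (kgi xgi29 ygi47 zgi2) (kgi xgi25 ygi53 zgi1) (kgi xgi27 ygi19 zgi51) (kgi xgi31 ygi21 zgi42) (kgi xgi23 ygi13 zgi13) (kgi xgi30 ygi56 zgi45) (kgi xgi32 ygi33 zgi2) (kgi xgi26 ygi39 zgi22) (kgi xgi24 ygi17 zgi21) (kgi xgi24 ygi15 zgi53) (kgi xgi31 ygi26 zgi7) (kgi xgi30 ygi50 zgi50) (kgi xgi30 ygi6 zgi27) (kgi xgi32 ygi54 zgi50) (kgi xgi23 ygi13 zgi34)) (@D3.rec (fun _ => Pt) (kgi xgi32 ygi54 zgi45) (kgi xgi29 ygi55 zgi31) (kgi xgi30 ygi45 zgi51) (kgi xgi30 ygi30 zgi41) (kgi xgi31 ygi23 zgi28) (kgi xgi32 ygi53 zgi44) (kgi xgi23 ygi55 zgi8) (kgi xgi23 ygi13 zgi52) (kgi xgi23 ygi13 zgi58) (kgi xgi23 ygi45 zgi13) (kgi xgi30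 ygi59 zgi38) (kgi xgi30 ygi1 zgi54) (kgi xgi23 ygi14 zgi0) (kgi xgi30 ygi59 zgi52) (kgi xgi23 ygi16 zgi5) (kgi xgi23 ygi16 zgi3) (kgi xgi31 ygi1 zgi1) (kgi xgi23 ygi18 zgi42) (kgi xgi28 ygi43 zgi50) (kgi xgi23 ygi14 zgi13) (kgi xgi23 ygi16 zgi42) (kgi xgi23 ygi16 zgi39) (kgi xgi23 ygi14 zgi18) (kgi xgi24 ygi30 zgi41) (kgi xgi23 ygi17 zgi11) (kgi xgi23 ygi14 zgi17) (kgi xgi23 ygi15 zgi24) (kgi xgi23 ygi17 zgi12) (kgi xgi30 ygi58 zgi20) (kgi xgi23 ygi16 zgi44) (kgi xgi31 ygi0 zgi9) (kgi xgi30 ygi58 zgi48) (kgi xgi23 ygi17 zgi2) (kgi xgi23 ygi18 zgi39) (kgi xgi23 ygi18 zgi38) (kgi xgi30 ygi59 zgi32) (kgi xgi23 ygi16 zgi11) (kgi xgi27 ygi9 zgi50) (kgi xgi23 ygi32 zgi43) (kgi xgi23 ygi14 zgi33) (kgi xgi23 ygi18 zgi20) (kgi xgi23 ygi18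 zgi18) (kgi xgi23 ygi45 zgi8) (kgi xgi23 ygi16 zgi30) (kgi xgi23 ygi14 zgi40) (kgi xgi23 ygi54 zgi55) (kgi xgi29 ygi30 zgi24) (kgi xgi23 ygi15 zgi28) (kgi xgi25 ygi0 zgi8) (kgi xgi32 ygi52 zgi18) (kgi xgi23 ygi16 zgi59) (kgi xgi27 ygi57 zgi41) (kgi xgi32 ygi44 zgi60) (kgi xgi32 ygi44 zgi59) (kgi xgi23 ygi15 zgi4) (kgi xgi23 ygi16 zgi8) (kgi xgi26 ygi57 zgi40) (kgi xgi30 ygi52 zgi21) (kgi xgi23 ygi15 zgi9) (kgi xgi26 ygi9 zgi29) (kgi xgi26 ygi9 zgi36) (kgi xgi27 ygi44 zgi38)) (@D3.rec (fun _ => Pt) (kgi xgi28 ygi40 zgi61) (kgi xgi26 ygi11 zgi42) (kgi xgi32 ygi55 zgi13) (kgi xgi23 ygi16 zgi1) (kgi xgi23 ygi15 zgi14) (kgi xgi32 ygi38 zgi22) (kgi xgi23 ygi15 zgi15) (kgi xgi30 ygi0 zgi55) (kgi xgi25 ygi2 zgi14) (kgi xgi23 ygi17 zgi40)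 (kgi xgi31 ygi0 zgi4) (kgi xgi32 ygi0 zgi54) (kgi xgi30 ygi34 zgi61) (kgi xgi32 ygi3 zgi30) (kgi xgi28 ygi2 zgi53) (kgi xgi31 ygi33 zgi56) (kgi xgi32 ygi31 zgi3) (kgi xgi28 ygi2 zgi14) (kgi xgi24 ygi31 zgi27) (kgi xgi26 ygi9 zgi34) (kgi xgi24 ygi59 zgi42) (kgi xgi23 ygi15 zgi35) (kgi xgi30 ygi58 zgi24) (kgi xgi30 ygi59 zgi18) (kgi xgi30 ygi58 zgi21) (kgi xgi30 ygi33 zgi50) (kgi xgi23 ygi15 zgi51) (kgi xgi28 ygi10 zgi43) (kgi xgi28 ygi18 zgi51) (kgi xgi28 ygi26 zgi22) (kgi xgi29 ygi29 zgi47) (kgi xgi29 ygi10 zgi9) (kgi xgi27 ygi41 zgi3) (kgi xgi30 ygi58 zgi18) (kgi xgi31 ygi33 zgi55) (kgi xgi23 ygi16 zgi0) (kgi xgi30 ygi59 zgi56) (kgi xgi23 ygi15 zgi61) (kgi xgi30 ygi59 zgi58) (kgi xgi30 ygi59 zgi57) (kgi xgi26 ygi9 zgi24) (kgi xgi32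 ygi54 zgi58) (kgi xgi30 ygi58 zgi7) (kgi xgi31 ygi34 zgi1) (kgi xgi32 ygi54 zgi59) (kgi xgi23 ygi33 zgi10) (kgi xgi30 ygi59 zgi9) (kgi xgi23 ygi18 zgi40) (kgi xgi26 ygi9 zgi35) (kgi xgi26 ygi14 zgi15) (kgi xgi30 ygi7 zgi20) (kgi xgi32 ygi50 zgi17) (kgi xgi23 ygi16 zgi26) (kgi xgi32 ygi49 zgi31) (kgi xgi23 ygi21 zgi19) (kgi xgi32 ygi50 zgi19) (kgi xgi31 ygi45 zgi7) (kgi xgi23 ygi16 zgi37) (kgi xgi30 ygi52 zgi42) (kgi xgi30 ygi52 zgi40) (kgi xgi32 ygi9 zgi50) (kgi xgi30 ygi59 zgi37)) (@D3.rec (fun _ => Pt) (kgi xgi30 ygi2 zgi23) (kgi xgi31 ygi39 zgi3) (kgi xgi29 ygi22 zgi0) (kgi xgi23 ygi16 zgi54) (kgi xgi23 ygi24 zgi59) (kgi xgi30 ygi32 zgi50) (kgi xgi30 ygi52 zgi24) (kgi xgi23 ygi17 zgi25) (kgi xgi30 ygi59 zgi42) (kgi xgi30 ygi58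 zgi15) (kgi xgi30 ygi55 zgi12) (kgi xgi30 ygi58 zgi47) (kgi xgi28 ygi3 zgi60) (kgi xgi25 ygi0 zgi22) (kgi xgi23 ygi43 zgi23) (kgi xgi28 ygi2 zgi13) (kgi xgi32 ygi53 zgi16) (kgi xgi28 ygi2 zgi6) (kgi xgi23 ygi17 zgi17) (kgi xgi30 ygi59 zgi44) (kgi xgi30 ygi58 zgi33) (kgi xgi32 ygi5 zgi3) (kgi xgi31 ygi58 zgi31) (kgi xgi30 ygi58 zgi23) (kgi xgi32 ygi50 zgi18) (kgi xgi23 ygi17 zgi18) (kgi xgi30 ygi17 zgi46) (kgi xgi30 ygi13 zgi2) (kgi xgi23 ygi17 zgi19) (kgi xgi23 ygi17 zgi20) (kgi xgi31 ygi58 zgi50) (kgi xgi26 ygi9 zgi28) (kgi xgi25 ygi3 zgi2) (kgi xgi30 ygi52 zgi26) (kgi xgi26 ygi9 zgi23) (kgi xgi28 ygi10 zgi55) (kgi xgi27 ygi58 zgi12) (kgi xgi30 ygi59 zgi1) (kgi xgi23 ygi17 zgi29) (kgi xgi30 ygi57 zgi10) (kgi xgi23 ygi17 zgi30) (kgi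 xgi30 ygi20 zgi38) (kgi xgi30 ygi59 zgi19) (kgi xgi32 ygi55 zgi14) (kgi xgi30 ygi59 zgi8) (kgi xgi32 ygi50 zgi20) (kgi xgi31 ygi32 zgi49) (kgi xgi32 ygi50 zgi21) (kgi xgi32 ygi55 zgi15) (kgi xgi23 ygi17 zgi49) (kgi xgi30 ygi35 zgi3) (kgi xgi28 ygi13 zgi33) (kgi xgi30 ygi58 zgi28) (kgi xgi25 ygi0 zgi6) (kgi xgi26 ygi14 zgi54) (kgi xgi23 ygi18 zgi8) (kgi xgi30 ygi58 zgi35) (kgi xgi23 ygi18 zgi14) (kgi xgi30 ygi58 zgi37) (kgi xgi30 ygi12 zgi15) (kgi xgi32 ygi5 zgi52) (kgi xgi24 ygi31 zgi39))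
def fi_g_31 : D2 → D3 → Pt := @D2.rec (fun _ => D3 → Pt) (@D3.rec (fun _ => Pt) (kgi xgi28 ygi2 zgi4) (kgi xgi30 ygi1 zgi5) (kgi xgi31 ygi33 zgi60) (kgi xgi23 ygi18 zgi27) (kgi xgi30 ygi42 zgi25) (kgi xgi30 ygi49 zgi24) (kgi xgi23 ygi18 zgi36) (kgi xgi30 ygi57 zgi30) (kgi xgi30 ygi59 zgi11) (kgi xgi31 ygi6 zgi14) (kgi xgi23 ygi39 zgi55) (kgi xgi29 ygi53 zgi19) (kgi xgi23 ygi47 zgi57) (kgi xgi32 ygi30 zgi4) (kgi xgi28 ygi22 zgi20) (kgi xgi23 ygi18 zgi56) (kgi xgi23 ygi19 zgi5) (kgi xgi31 ygi42 zgi37) (kgi xgi23 ygi19 zgi2) (kgi xgi32 ygi53 zgi39) (kgi xgi32 ygi24 zgi34) (kgi xgi23 ygi19 zgi0) (kgi xgi31 ygi43 zgi12) (kgi xgi32 ygi8 zgi4) (kgi xgi32 ygi27 zgi40) (kgi xgi23 ygi19 zgi6) (kgi xgi28 ygi33 zgi49) (kgi xgi28 ygi21 zgi46)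 (kgi xgi32 ygi23 zgi29) (kgi xgi28 ygi33 zgi48) (kgi xgi24 ygi39 zgi44) (kgi xgi25 ygi24 zgi48) (kgi xgi27 ygi17 zgi33) (kgi xgi25 ygi19 zgi59) (kgi xgi23 ygi19 zgi24) (kgi xgi23 ygi20 zgi24) (kgi xgi30 ygi57 zgi7) (kgi xgi30 ygi13 zgi42) (kgi xgi24 ygi31 zgi26) (kgi xgi27 ygi9 zgi54) (kgi xgi30 ygi46 zgi57) (kgi xgi30 ygi17 zgi61) (kgi xgi31 ygi59 zgi27) (kgi xgi23 ygi19 zgi61) (kgi xgi23 ygi20 zgi4) (kgi xgi25 ygi46 zgi13) (kgi xgi28 ygi43 zgi52) (kgi xgi23 ygi20 zgi5) (kgi xgi23 ygi24 zgi13) (kgi xgi29 ygi11 zgi44) (kgi xgi25 ygi41 zgi10) (kgi xgi31 ygi59 zgi23) (kgi xgi25 ygi3 zgi28) (kgi xgi27 ygi30 zgi55) (kgi xgi28 ygi0 zgi26) (kgi xgi29 ygi54 zgi34) (kgi xgi29 ygi11 zgi40) (kgi xgi27 ygi46 zgi44) (kgi xgi30 ygi13 zgi35) (kgi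 xgi30 ygi13 zgi17) (kgi xgi23 ygi21 zgi15) (kgi xgi32 ygi43 zgi4)) (@D3.rec (fun _ => Pt) (kgi xgi23 ygi21 zgi18) (kgi xgi30 ygi58 zgi6) (kgi xgi32 ygi55 zgi10) (kgi xgi32 ygi32 zgi24) (kgi xgi27 ygi57 zgi26) (kgi xgi30 ygi48 zgi4) (kgi xgi23 ygi21 zgi34) (kgi xgi27 ygi58 zgi50) (kgi xgi23 ygi21 zgi35) (kgi xgi32 ygi5 zgi22) (kgi xgi23 ygi37 zgi22) (kgi xgi32 ygi43 zgi17) (kgi xgi24 ygi30 zgi58) (kgi xgi31 ygi58 zgi44) (kgi xgi28 ygi10 zgi53) (kgi xgi31 ygi16 zgi52) (kgi xgi30 ygi45 zgi27) (kgi xgi27 ygi39 zgi53) (kgi xgi26 ygi12 zgi55) (kgi xgi23 ygi21 zgi59) (kgi xgi23 ygi34 zgi13) (kgi xgi23 ygi22 zgi2) (kgi xgi32 ygi53 zgi30) (kgi xgi23 ygi22 zgi3) (kgi xgi23 ygi22 zgi7) (kgi xgi23 ygi46 zgi10) (kgi xgi30 ygi0 zgi19) (kgi xgi29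 ygi51 zgi31) (kgi xgi30 ygi1 zgi9) (kgi xgi30 ygi4 zgi27) (kgi xgi28 ygi1 zgi60) (kgi xgi23 ygi22 zgi40) (kgi xgi26 ygi12 zgi28) (kgi xgi30 ygi14 zgi29) (kgi xgi24 ygi55 zgi1) (kgi xgi23 ygi23 zgi0) (kgi xgi31 ygi32 zgi36) (kgi xgi31 ygi44 zgi22) (kgi xgi27 ygi41 zgi27) (kgi xgi23 ygi23 zgi11) (kgi xgi25 ygi42 zgi36) (kgi xgi31 ygi57 zgi50) (kgi xgi24 ygi42 zgi8) (kgi xgi23 ygi23 zgi25) (kgi xgi25 ygi42 zgi44) (kgi xgi30 ygi7 zgi13) (kgi xgi25 ygi58 zgi9) (kgi xgi24 ygi41 zgi45) (kgi xgi28 ygi6 zgi43) (kgi xgi24 ygi24 zgi39) (kgi xgi24 ygi25 zgi55) (kgi xgi30 ygi31 zgi24) (kgi xgi23 ygi27 zgi31) (kgi xgi25 ygi31 zgi29) (kgi xgi29 ygi52 zgi9) (kgi xgi25 ygi29 zgi11) (kgi xgi25 ygi29 zgi51) (kgi xgi29 ygi50 zgi42) (kgi xgi23 ygi24 zgi24)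 (kgi xgi23 ygi24 zgi35) (kgi xgi23 ygi42 zgi3) (kgi xgi32 ygi30 zgi7)) (@D3.rec (fun _ => Pt) (kgi xgi23 ygi29 zgi24) (kgi xgi23 ygi24 zgi38) (kgi xgi30 ygi41 zgi23) (kgi xgi32 ygi49 zgi37) (kgi xgi32 ygi26 zgi27) (kgi xgi31 ygi6 zgi37) (kgi xgi23 ygi41 zgi23) (kgi xgi30 ygi3 zgi12) (kgi xgi30 ygi2 zgi1) (kgi xgi23 ygi45 zgi12) (kgi xgi31 ygi57 zgi38) (kgi xgi31 ygi49 zgi35) (kgi xgi23 ygi24 zgi60) (kgi xgi23 ygi25 zgi0) (kgi xgi32 ygi19 zgi52) (kgi xgi32 ygi43 zgi27) (kgi xgi31 ygi6 zgi33) (kgi xgi23 ygi32 zgi10) (kgi xgi25 ygi2 zgi18) (kgi xgi31 ygi9 zgi16) (kgi xgi30 ygi33 zgi14) (kgi xgi30 ygi42 zgi48) (kgi xgi31 ygi49 zgi36) (kgi xgi23 ygi25 zgi4) (kgi xgi30 ygi51 zgi50) (kgi xgi29 ygi9 zgi52) (kgi xgi31 ygi7 zgi14) (kgi xgi24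 ygi44 zgi2) (kgi xgi29 ygi30 zgi10) (kgi xgi25 ygi46 zgi35) (kgi xgi23 ygi33 zgi44) (kgi xgi24 ygi40 zgi20) (kgi xgi23 ygi32 zgi35) (kgi xgi32 ygi2 zgi60) (kgi xgi23 ygi32 zgi38) (kgi xgi23 ygi32 zgi36) (kgi xgi25 ygi18 zgi15) (kgi xgi31 ygi43 zgi2) (kgi xgi26 ygi7 zgi15) (kgi xgi30 ygi2 zgi39) (kgi xgi23 ygi25 zgi46) (kgi xgi29 ygi5 zgi56) (kgi xgi26 ygi8 zgi32) (kgi xgi23 ygi31 zgi52) (kgi xgi26 ygi0 zgi49) (kgi xgi31 ygi44 zgi61) (kgi xgi23 ygi25 zgi58) (kgi xgi30 ygi59 zgi47) (kgi xgi23 ygi37 zgi27) (kgi xgi23 ygi25 zgi61) (kgi xgi29 ygi17 zgi37) (kgi xgi24 ygi54 zgi17) (kgi xgi32 ygi27 zgi52) (kgi xgi30 ygi42 zgi3) (kgi xgi29 ygi11 zgi1) (kgi xgi26 ygi7 zgi5) (kgi xgi27 ygi40 zgi39) (kgi xgi30 ygi52 zgi49) (kgi xgi32 ygi16 zgi2)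 (kgi xgi29 ygi26 zgi52) (kgi xgi23 ygi41 zgi60) (kgi xgi30 ygi40 zgi27)) (@D3.rec (fun _ => Pt) (kgi xgi23 ygi26 zgi10) (kgi xgi30 ygi52 zgi43) (kgi xgi30 ygi40 zgi13) (kgi xgi28 ygi11 zgi46) (kgi xgi30 ygi40 zgi10) (kgi xgi25 ygi38 zgi29) (kgi xgi30 ygi8 zgi28) (kgi xgi31 ygi18 zgi30) (kgi xgi24 ygi10 zgi20) (kgi xgi27 ygi23 zgi60) (kgi xgi23 ygi26 zgi40) (kgi xgi23 ygi26 zgi30) (kgi xgi25 ygi40 zgi2) (kgi xgi31 ygi53 zgi56) (kgi xgi25 ygi39 zgi60) (kgi xgi23 ygi40 zgi61) (kgi xgi31 ygi58 zgi22) (kgi xgi30 ygi7 zgi59) (kgi xgi29 ygi5 zgi21) (kgi xgi31 ygi38 zgi2) (kgi xgi29 ygi11 zgi61) (kgi xgi30 ygi40 zgi26) (kgi xgi26 ygi47 zgi43) (kgi xgi32 ygi48 zgi12) (kgi xgi30 ygi32 zgi15) (kgi xgi31 ygi10 zgi35) (kgi xgi30 ygi41 zgi19) (kgi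 xgi30 ygi9 zgi61) (kgi xgi31 ygi57 zgi40) (kgi xgi31 ygi36 zgi35) (kgi xgi29 ygi15 zgi40) (kgi xgi23 ygi26 zgi56) (kgi xgi23 ygi27 zgi36) (kgi xgi32 ygi49 zgi8) (kgi xgi31 ygi9 zgi24) (kgi xgi30 ygi49 zgi0) (kgi xgi23 ygi27 zgi3) (kgi xgi23 ygi27 zgi32) (kgi xgi31 ygi23 zgi20) (kgi xgi23 ygi27 zgi4) (kgi xgi32 ygi42 zgi34) (kgi xgi32 ygi55 zgi27) (kgi xgi29 ygi58 zgi22) (kgi xgi30 ygi37 zgi4) (kgi xgi32 ygi7 zgi40) (kgi xgi29 ygi10 zgi24) (kgi xgi23 ygi27 zgi24) (kgi xgi23 ygi27 zgi40) (kgi xgi26 ygi22 zgi5) (kgi xgi31 ygi32 zgi35) (kgi xgi25 ygi5 zgi24) (kgi xgi23 ygi41 zgi42) (kgi xgi30 ygi41 zgi17) (kgi xgi30 ygi6 zgi13) (kgi xgi23 ygi27 zgi35) (kgi xgi30 ygi10 zgi9) (kgi xgi29 ygi56 zgi0) (kgi xgi31 ygi58 zgi0) (kgi xgi31 ygi5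 zgi36) (kgi xgi31 ygi24 zgi2) (kgi xgi23 ygi30 zgi2) (kgi xgi32 ygi55 zgi29)) (@D3.rec (fun _ => Pt) (kgi xgi31 ygi49 zgi23) (kgi xgi23 ygi28 zgi59) (kgi xgi25 ygi42 zgi42) (kgi xgi31 ygi8 zgi60) (kgi xgi24 ygi40 zgi5) (kgi xgi32 ygi55 zgi30) (kgi xgi31 ygi9 zgi8) (kgi xgi31 ygi27 zgi56) (kgi xgi29 ygi3 zgi48) (kgi xgi23 ygi28 zgi1) (kgi xgi29 ygi58 zgi34) (kgi xgi23 ygi28 zgi6) (kgi xgi24 ygi34 zgi53) (kgi xgi23 ygi28 zgi8) (kgi xgi30 ygi20 zgi20) (kgi xgi32 ygi48 zgi13) (kgi xgi31 ygi7 zgi60) (kgi xgi32 ygi53 zgi59) (kgi xgi31 ygi57 zgi29) (kgi xgi23 ygi28 zgi21) (kgi xgi30 ygi55 zgi54) (kgi xgi29 ygi59 zgi35) (kgi xgi29 ygi59 zgi23) (kgi xgi23 ygi28 zgi45) (kgi xgi25 ygi14 zgi50) (kgi xgi32 ygi53 zgi4) (kgi xgi31 ygi8 zgi42) (kgi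 xgi30 ygi41 zgi10) (kgi xgi23 ygi28 zgi27) (kgi xgi31 ygi5 zgi44) (kgi xgi23 ygi55 zgi3) (kgi xgi23 ygi28 zgi28) (kgi xgi27 ygi26 zgi15) (kgi xgi32 ygi3 zgi19) (kgi xgi23 ygi28 zgi56) (kgi xgi23 ygi28 zgi34) (kgi xgi25 ygi40 zgi5) (kgi xgi23 ygi28 zgi39) (kgi xgi31 ygi9 zgi11) (kgi xgi23 ygi41 zgi59) (kgi xgi23 ygi41 zgi48) (kgi xgi27 ygi18 zgi10) (kgi xgi31 ygi57 zgi23) (kgi xgi31 ygi5 zgi40) (kgi xgi31 ygi9 zgi35) (kgi xgi32 ygi26 zgi7) (kgi xgi28 ygi6 zgi22) (kgi xgi27 ygi35 zgi1) (kgi xgi23 ygi28 zgi43) (kgi xgi30 ygi41 zgi35) (kgi xgi30 ygi41 zgi33) (kgi xgi23 ygi28 zgi44) (kgi xgi31 ygi10 zgi3) (kgi xgi30 ygi41 zgi56) (kgi xgi31 ygi4 zgi22) (kgi xgi30 ygi31 zgi42) (kgi xgi32 ygi55 zgi33) (kgi xgi30 ygi41 zgi1) (kgi xgi29 ygi23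 zgi16) (kgi xgi31 ygi57 zgi51) (kgi xgi32 ygi27 zgi42) (kgi xgi25 ygi40 zgi8)) (@D3.rec (fun _ => Pt) (kgi xgi30 ygi41 zgi60) (kgi xgi32 ygi42 zgi29) (kgi xgi31 ygi30 zgi12) (kgi xgi31 ygi57 zgi28) (kgi xgi28 ygi31 zgi19) (kgi xgi31 ygi29 zgi10) (kgi xgi28 ygi9 zgi35) (kgi xgi29 ygi26 zgi51) (kgi xgi32 ygi49 zgi1) (kgi xgi23 ygi29 zgi30) (kgi xgi23 ygi30 zgi15) (kgi xgi23 ygi29 zgi31) (kgi xgi30 ygi31 zgi44) (kgi xgi30 ygi41 zgi44) (kgi xgi23 ygi29 zgi43) (kgi xgi30 ygi41 zgi6) (kgi xgi32 ygi16 zgi14) (kgi xgi29 ygi12 zgi0) (kgi xgi23 ygi29 zgi48) (kgi xgi23 ygi38 zgi44) (kgi xgi30 ygi4 zgi52) (kgi xgi23 ygi38 zgi39) (kgi xgi30 ygi37 zgi6) (kgi xgi32 ygi54 zgi23) (kgi xgi23 ygi29 zgi53) (kgi xgi28 ygi13 zgi27) (kgi xgi32 ygi48 zgi49)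 (kgi xgi23 ygi29 zgi56) (kgi xgi31 ygi37 zgi10) (kgi xgi28 ygi42 zgi47) (kgi xgi28 ygi9 zgi11) (kgi xgi30 ygi41 zgi26) (kgi xgi31 ygi11 zgi2) (kgi xgi32 ygi29 zgi7) (kgi xgi27 ygi1 zgi47) (kgi xgi31 ygi58 zgi21) (kgi xgi23 ygi30 zgi12) (kgi xgi31 ygi3 zgi58) (kgi xgi31 ygi10 zgi52) (kgi xgi32 ygi43 zgi56) (kgi xgi31 ygi4 zgi40) (kgi xgi32 ygi26 zgi34) (kgi xgi23 ygi30 zgi21) (kgi xgi29 ygi12 zgi8) (kgi xgi31 ygi4 zgi28) (kgi xgi32 ygi42 zgi4) (kgi xgi32 ygi49 zgi45) (kgi xgi30 ygi55 zgi21) (kgi xgi23 ygi30 zgi25) (kgi xgi30 ygi35 zgi60) (kgi xgi23 ygi30 zgi26) (kgi xgi31 ygi11 zgi4) (kgi xgi32 ygi30 zgi29) (kgi xgi31 ygi11 zgi11) (kgi xgi23 ygi30 zgi52) (kgi xgi24 ygi1 zgi26) (kgi xgi23 ygi30 zgi58) (kgi xgi23 ygi31 zgi53) (kgi xgi24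 ygi23 zgi37) (kgi xgi30 ygi51 zgi51) (kgi xgi26 ygi10 zgi16) (kgi xgi27 ygi44 zgi60)) (@D3.rec (fun _ => Pt) (kgi xgi29 ygi12 zgi19) (kgi xgi31 ygi6 zgi7) (kgi xgi29 ygi17 zgi27) (kgi xgi23 ygi31 zgi14) (kgi xgi27 ygi57 zgi49) (kgi xgi23 ygi31 zgi30) (kgi xgi30 ygi2 zgi11) (kgi xgi24 ygi43 zgi59) (kgi xgi25 ygi2 zgi23) (kgi xgi24 ygi57 zgi42) (kgi xgi27 ygi31 zgi16) (kgi xgi30 ygi33 zgi23) (kgi xgi30 ygi10 zgi45) (kgi xgi30 ygi33 zgi25) (kgi xgi31 ygi0 zgi7) (kgi xgi32 ygi50 zgi47) (kgi xgi23 ygi32 zgi12) (kgi xgi23 ygi32 zgi16) (kgi xgi26 ygi6 zgi57) (kgi xgi26 ygi10 zgi5) (kgi xgi24 ygi23 zgi38) (kgi xgi26 ygi0 zgi48) (kgi xgi25 ygi2 zgi13) (kgi xgi23 ygi32 zgi44) (kgi xgi31 ygi44 zgi19) (kgi xgi26 ygi8 zgi34) (kgi xgi26 ygi9 zgi42)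 (kgi xgi28 ygi13 zgi35) (kgi xgi27 ygi41 zgi46) (kgi xgi30 ygi56 zgi19) (kgi xgi23 ygi32 zgi58) (kgi xgi31 ygi44 zgi47) (kgi xgi30 ygi42 zgi36) (kgi xgi23 ygi33 zgi48) (kgi xgi30 ygi13 zgi38) (kgi xgi29 ygi10 zgi48) (kgi xgi23 ygi43 zgi44) (kgi xgi23 ygi33 zgi7) (kgi xgi31 ygi2 zgi5) (kgi xgi28 ygi4 zgi10) (kgi xgi23 ygi43 zgi45) (kgi xgi31 ygi9 zgi32) (kgi xgi30 ygi52 zgi6) (kgi xgi23 ygi33 zgi33) (kgi xgi32 ygi44 zgi16) (kgi xgi27 ygi14 zgi22) (kgi xgi26 ygi27 zgi31) (kgi xgi30 ygi24 zgi11) (kgi xgi28 ygi26 zgi12) (kgi xgi32 ygi5 zgi1) (kgi xgi31 ygi44 zgi56) (kgi xgi30 ygi13 zgi6) (kgi xgi29 ygi10 zgi49) (kgi xgi23 ygi44 zgi26) (kgi xgi27 ygi47 zgi35) (kgi xgi27 ygi29 zgi60) (kgi xgi32 ygi28 zgi30) (kgi xgi24 ygi58 zgi53) (kgi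 xgi24 ygi13 zgi13) (kgi xgi23 ygi57 zgi16) (kgi xgi26 ygi29 zgi55) (kgi xgi32 ygi25 zgi25)) (@D3.rec (fun _ => Pt) (kgi xgi26 ygi12 zgi50) (kgi xgi23 ygi34 zgi24) (kgi xgi30 ygi22 zgi21) (kgi xgi31 ygi36 zgi4) (kgi xgi24 ygi33 zgi42) (kgi xgi23 ygi34 zgi44) (kgi xgi29 ygi22 zgi3) (kgi xgi23 ygi34 zgi48) (kgi xgi27 ygi28 zgi5) (kgi xgi23 ygi34 zgi57) (kgi xgi24 ygi18 zgi25) (kgi xgi23 ygi35 zgi7) (kgi xgi23 ygi35 zgi4) (kgi xgi31 ygi8 zgi7) (kgi xgi29 ygi18 zgi23) (kgi xgi31 ygi2 zgi26) (kgi xgi30 ygi37 zgi34) (kgi xgi26 ygi2 zgi28) (kgi xgi28 ygi11 zgi18) (kgi xgi31 ygi34 zgi48) (kgi xgi32 ygi54 zgi14) (kgi xgi24 ygi40 zgi52) (kgi xgi27 ygi48 zgi45) (kgi xgi23 ygi35 zgi51) (kgi xgi30 ygi5 zgi24) (kgi xgi27 ygi26 zgi40) (kgi xgi29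 ygi32 zgi61) (kgi xgi30 ygi37 zgi35) (kgi xgi30 ygi37 zgi39) (kgi xgi25 ygi36 zgi39) (kgi xgi30 ygi16 zgi57) (kgi xgi23 ygi58 zgi25) (kgi xgi26 ygi2 zgi35) (kgi xgi25 ygi38 zgi5) (kgi xgi29 ygi0 zgi14) (kgi xgi25 ygi38 zgi55) (kgi xgi23 ygi36 zgi26) (kgi xgi28 ygi35 zgi57) (kgi xgi28 ygi5 zgi13) (kgi xgi23 ygi36 zgi54) (kgi xgi27 ygi33 zgi17) (kgi xgi31 ygi1 zgi31) (kgi xgi28 ygi15 zgi15) (kgi xgi31 ygi59 zgi45) (kgi xgi26 ygi17 zgi8) (kgi xgi27 ygi50 zgi8) (kgi xgi26 ygi23 zgi29) (kgi xgi29 ygi7 zgi61) (kgi xgi23 ygi37 zgi4) (kgi xgi23 ygi37 zgi6) (kgi xgi32 ygi27 zgi0) (kgi xgi32 ygi32 zgi21) (kgi xgi30 ygi37 zgi36) (kgi xgi29 ygi9 zgi47) (kgi xgi31 ygi58 zgi45) (kgi xgi25 ygi38 zgi41) (kgi xgi30 ygi31 zgi38) (kgi xgi25 ygi39 zgi2)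 (kgi xgi29 ygi11 zgi49) (kgi xgi23 ygi37 zgi24) (kgi xgi32 ygi50 zgi50) (kgi xgi27 ygi4 zgi38)) (@D3.rec (fun _ => Pt) (kgi xgi31 ygi4 zgi16) (kgi xgi30 ygi42 zgi0) (kgi xgi23 ygi37 zgi31) (kgi xgi25 ygi39 zgi20) (kgi xgi28 ygi9 zgi16) (kgi xgi30 ygi37 zgi25) (kgi xgi23 ygi42 zgi38) (kgi xgi26 ygi9 zgi30) (kgi xgi23 ygi43 zgi18) (kgi xgi23 ygi37 zgi49) (kgi xgi26 ygi15 zgi42) (kgi xgi23 ygi37 zgi50) (kgi xgi29 ygi41 zgi30) (kgi xgi29 ygi41 zgi31) (kgi xgi31 ygi38 zgi61) (kgi xgi27 ygi48 zgi43) (kgi xgi28 ygi25 zgi49) (kgi xgi31 ygi48 zgi17) (kgi xgi31 ygi14 zgi47) (kgi xgi32 ygi7 zgi15) (kgi xgi32 ygi31 zgi44) (kgi xgi23 ygi41 zgi15) (kgi xgi28 ygi49 zgi44) (kgi xgi23 ygi43 zgi38) (kgi xgi23 ygi40 zgi42) (kgi xgi30 ygi42 zgi39) (kgi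 xgi29 ygi10 zgi10) (kgi xgi29 ygi49 zgi54) (kgi xgi28 ygi13 zgi28) (kgi xgi23 ygi41 zgi52) (kgi xgi32 ygi54 zgi9) (kgi xgi23 ygi38 zgi29) (kgi xgi32 ygi30 zgi47) (kgi xgi29 ygi49 zgi42) (kgi xgi23 ygi38 zgi30) (kgi xgi29 ygi55 zgi17) (kgi xgi30 ygi41 zgi27) (kgi xgi32 ygi26 zgi47) (kgi xgi27 ygi33 zgi35) (kgi xgi29 ygi10 zgi6) (kgi xgi23 ygi38 zgi33) (kgi xgi28 ygi11 zgi55) (kgi xgi32 ygi15 zgi60) (kgi xgi29 ygi11 zgi2) (kgi xgi23 ygi38 zgi35) (kgi xgi29 ygi11 zgi4) (kgi xgi29 ygi10 zgi12) (kgi xgi32 ygi30 zgi30) (kgi xgi30 ygi10 zgi48) (kgi xgi23 ygi38 zgi38) (kgi xgi32 ygi49 zgi18) (kgi xgi29 ygi11 zgi56) (kgi xgi32 ygi53 zgi41) (kgi xgi30 ygi42 zgi13) (kgi xgi23 ygi38 zgi41) (kgi xgi31 ygi10 zgi46) (kgi xgi31 ygi10 zgi57) (kgi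 xgi23 ygi38 zgi42) (kgi xgi29 ygi55 zgi22) (kgi xgi25 ygi42 zgi39) (kgi xgi23 ygi38 zgi47) (kgi xgi31 ygi4 zgi3)) (@D3.rec (fun _ => Pt) (kgi xgi30 ygi10 zgi37) (kgi xgi23 ygi40 zgi7) (kgi xgi23 ygi39 zgi58) (kgi xgi26 ygi9 zgi26) (kgi xgi31 ygi4 zgi10) (kgi xgi31 ygi16 zgi53) (kgi xgi23 ygi38 zgi59) (kgi xgi24 ygi34 zgi50) (kgi xgi29 ygi10 zgi23) (kgi xgi31 ygi34 zgi46) (kgi xgi31 ygi36 zgi16) (kgi xgi31 ygi4 zgi37) (kgi xgi28 ygi49 zgi45) (kgi xgi31 ygi4 zgi42) (kgi xgi26 ygi48 zgi31) (kgi xgi29 ygi13 zgi59) (kgi xgi31 ygi2 zgi15) (kgi xgi31 ygi45 zgi22) (kgi xgi29 ygi13 zgi51) (kgi xgi32 ygi49 zgi19) (kgi xgi31 ygi4 zgi14) (kgi xgi31 ygi4 zgi13) (kgi xgi30 ygi41 zgi59) (kgi xgi24 ygi23 zgi18) (kgi xgi31 ygi3 zgi41) (kgi xgi23 ygi39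 zgi21) (kgi xgi24 ygi38 zgi1) (kgi xgi25 ygi39 zgi1) (kgi xgi23 ygi40 zgi27) (kgi xgi23 ygi39 zgi34) (kgi xgi24 ygi40 zgi9) (kgi xgi32 ygi25 zgi1) (kgi xgi31 ygi4 zgi41) (kgi xgi23 ygi40 zgi2) (kgi xgi32 ygi49 zgi5) (kgi xgi31 ygi10 zgi11) (kgi xgi23 ygi39 zgi33) (kgi xgi24 ygi17 zgi43) (kgi xgi24 ygi17 zgi44) (kgi xgi32 ygi49 zgi35) (kgi xgi32 ygi55 zgi49) (kgi xgi27 ygi42 zgi45) (kgi xgi24 ygi40 zgi10) (kgi xgi23 ygi39 zgi38) (kgi xgi32 ygi13 zgi30) (kgi xgi31 ygi3 zgi26) (kgi xgi24 ygi15 zgi17) (kgi xgi32 ygi23 zgi44) (kgi xgi23 ygi39 zgi40) (kgi xgi30 ygi56 zgi32) (kgi xgi24 ygi17 zgi26) (kgi xgi28 ygi56 zgi41) (kgi xgi24 ygi50 zgi56) (kgi xgi25 ygi4 zgi45) (kgi xgi31 ygi3 zgi15) (kgi xgi23 ygi39 zgi42) (kgi xgi30 ygi1 zgi35)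 (kgi xgi32 ygi22 zgi3) (kgi xgi31 ygi4 zgi15) (kgi xgi31 ygi44 zgi60) (kgi xgi30 ygi10 zgi30) (kgi xgi31 ygi30 zgi23)) (@D3.rec (fun _ => Pt) (kgi xgi32 ygi31 zgi60) (kgi xgi27 ygi51 zgi36) (kgi xgi30 ygi0 zgi50) (kgi xgi31 ygi4 zgi51) (kgi xgi31 ygi46 zgi48) (kgi xgi24 ygi14 zgi57) (kgi xgi24 ygi39 zgi49) (kgi xgi24 ygi39 zgi47) (kgi xgi30 ygi38 zgi59) (kgi xgi29 ygi10 zgi32) (kgi xgi32 ygi48 zgi60) (kgi xgi31 ygi36 zgi18) (kgi xgi31 ygi56 zgi43) (kgi xgi30 ygi41 zgi16) (kgi xgi30 ygi10 zgi58) (kgi xgi29 ygi56 zgi54) (kgi xgi31 ygi27 zgi50) (kgi xgi31 ygi3 zgi10) (kgi xgi30 ygi1 zgi37) (kgi xgi23 ygi40 zgi16) (kgi xgi31 ygi10 zgi9) (kgi xgi23 ygi41 zgi12) (kgi xgi32 ygi48 zgi15) (kgi xgi31 ygi58 zgi2) (kgi xgi29 ygi56 zgi58) (kgi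 xgi30 ygi47 zgi31) (kgi xgi29 ygi59 zgi32) (kgi xgi27 ygi58 zgi3) (kgi xgi30 ygi4 zgi44) (kgi xgi31 ygi5 zgi13) (kgi xgi32 ygi32 zgi40) (kgi xgi23 ygi40 zgi43) (kgi xgi31 ygi10 zgi18) (kgi xgi23 ygi40 zgi59) (kgi xgi24 ygi10 zgi41) (kgi xgi30 ygi24 zgi41) (kgi xgi27 ygi18 zgi22) (kgi xgi31 ygi3 zgi25) (kgi xgi23 ygi40 zgi54) (kgi xgi23 ygi40 zgi57) (kgi xgi31 ygi58 zgi1) (kgi xgi30 ygi20 zgi16) (kgi xgi32 ygi3 zgi17) (kgi xgi31 ygi57 zgi60) (kgi xgi31 ygi9 zgi54) (kgi xgi32 ygi32 zgi16) (kgi xgi31 ygi8 zgi54) (kgi xgi23 ygi58 zgi14) (kgi xgi31 ygi11 zgi36) (kgi xgi32 ygi49 zgi2) (kgi xgi30 ygi31 zgi30) (kgi xgi31 ygi48 zgi11) (kgi xgi31 ygi5 zgi39) (kgi xgi24 ygi40 zgi13) (kgi xgi29 ygi4 zgi38) (kgi xgi26 ygi1 zgi47) (kgi xgi31 ygi49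 zgi32) (kgi xgi23 ygi41 zgi22) (kgi xgi31 ygi8 zgi56) (kgi xgi23 ygi41 zgi61) (kgi xgi27 ygi54 zgi15) (kgi xgi32 ygi27 zgi46)) (@D3.rec (fun _ => Pt) (kgi xgi31 ygi29 zgi4) (kgi xgi23 ygi41 zgi29) (kgi xgi29 ygi4 zgi23) (kgi xgi25 ygi33 zgi48) (kgi xgi31 ygi5 zgi50) (kgi xgi23 ygi41 zgi35) (kgi xgi32 ygi25 zgi57) (kgi xgi31 ygi16 zgi59) (kgi xgi24 ygi43 zgi47) (kgi xgi27 ygi58 zgi11) (kgi xgi29 ygi58 zgi50) (kgi xgi31 ygi3 zgi20) (kgi xgi23 ygi41 zgi44) (kgi xgi29 ygi3 zgi59) (kgi xgi29 ygi3 zgi49) (kgi xgi24 ygi17 zgi16) (kgi xgi32 ygi14 zgi1) (kgi xgi26 ygi38 zgi41) (kgi xgi30 ygi47 zgi44) (kgi xgi30 ygi40 zgi11) (kgi xgi30 ygi6 zgi7) (kgi xgi24 ygi33 zgi46) (kgi xgi32 ygi32 zgi29) (kgi xgi27 ygi55 zgi32) (kgi xgi31 ygi4 zgi35)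 (kgi xgi30 ygi10 zgi26) (kgi xgi26 ygi0 zgi28) (kgi xgi32 ygi6 zgi20) (kgi xgi26 ygi59 zgi17) (kgi xgi25 ygi54 zgi22) (kgi xgi29 ygi52 zgi2) (kgi xgi28 ygi2 zgi10) (kgi xgi29 ygi49 zgi40) (kgi xgi23 ygi43 zgi4) (kgi xgi30 ygi23 zgi32) (kgi xgi32 ygi42 zgi2) (kgi xgi31 ygi4 zgi21) (kgi xgi31 ygi7 zgi13) (kgi xgi31 ygi5 zgi58) (kgi xgi23 ygi43 zgi8) (kgi xgi28 ygi3 zgi54) (kgi xgi31 ygi11 zgi61) (kgi xgi31 ygi59 zgi28) (kgi xgi23 ygi43 zgi25) (kgi xgi32 ygi28 zgi16) (kgi xgi31 ygi44 zgi20) (kgi xgi32 ygi25 zgi4) (kgi xgi31 ygi12 zgi2) (kgi xgi32 ygi16 zgi5) (kgi xgi32 ygi4 zgi57) (kgi xgi31 ygi8 zgi25) (kgi xgi29 ygi11 zgi42) (kgi xgi24 ygi34 zgi2) (kgi xgi32 ygi43 zgi11) (kgi xgi31 ygi57 zgi39) (kgi xgi32 ygi30 zgi44) (kgi xgi31 ygi16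 zgi44) (kgi xgi31 ygi16 zgi42) (kgi xgi32 ygi54 zgi1) (kgi xgi26 ygi2 zgi1) (kgi xgi23 ygi45 zgi5) (kgi xgi32 ygi55 zgi59)) (@D3.rec (fun _ => Pt) (kgi xgi32 ygi24 zgi49) (kgi xgi31 ygi11 zgi41) (kgi xgi31 ygi45 zgi5) (kgi xgi31 ygi11 zgi47) (kgi xgi23 ygi44 zgi6) (kgi xgi32 ygi49 zgi40) (kgi xgi23 ygi44 zgi38) (kgi xgi32 ygi6 zgi41) (kgi xgi23 ygi44 zgi44) (kgi xgi31 ygi5 zgi61) (kgi xgi23 ygi44 zgi51) (kgi xgi32 ygi5 zgi6) (kgi xgi27 ygi44 zgi39) (kgi xgi30 ygi32 zgi36) (kgi xgi23 ygi44 zgi56) (kgi xgi32 ygi3 zgi29) (kgi xgi32 ygi3 zgi46) (kgi xgi27 ygi58 zgi1) (kgi xgi23 ygi45 zgi7) (kgi xgi27 ygi28 zgi43) (kgi xgi32 ygi31 zgi29) (kgi xgi23 ygi45 zgi19) (kgi xgi23 ygi45 zgi15) (kgi xgi32 ygi32 zgi25) (kgi xgi30 ygi7 zgi18) (kgi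 xgi31 ygi1 zgi36) (kgi xgi31 ygi7 zgi29) (kgi xgi23 ygi45 zgi29) (kgi xgi28 ygi30 zgi2) (kgi xgi32 ygi40 zgi16) (kgi xgi31 ygi33 zgi8) (kgi xgi23 ygi48 zgi53) (kgi xgi23 ygi45 zgi37) (kgi xgi29 ygi32 zgi25) (kgi xgi25 ygi32 zgi27) (kgi xgi32 ygi50 zgi40) (kgi xgi28 ygi45 zgi36) (kgi xgi32 ygi39 zgi48) (kgi xgi31 ygi13 zgi60) (kgi xgi28 ygi22 zgi8) (kgi xgi24 ygi25 zgi2) (kgi xgi28 ygi39 zgi46) (kgi xgi28 ygi55 zgi38) (kgi xgi23 ygi45 zgi61) (kgi xgi24 ygi25 zgi18) (kgi xgi30 ygi29 zgi26) (kgi xgi23 ygi46 zgi5) (kgi xgi24 ygi21 zgi19) (kgi xgi28 ygi38 zgi59) (kgi xgi31 ygi14 zgi8) (kgi xgi23 ygi46 zgi9) (kgi xgi24 ygi5 zgi51) (kgi xgi31 ygi20 zgi7) (kgi xgi32 ygi55 zgi39) (kgi xgi24 ygi26 zgi17) (kgi xgi31 ygi0 zgi37) (kgi xgi26 ygi58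 zgi32) (kgi xgi31 ygi3 zgi24) (kgi xgi28 ygi16 zgi38) (kgi xgi28 ygi9 zgi5) (kgi xgi31 ygi53 zgi27) (kgi xgi28 ygi20 zgi21)) (@D3.rec (fun _ => Pt) (kgi xgi29 ygi3 zgi58) (kgi xgi25 ygi24 zgi19) (kgi xgi23 ygi46 zgi52) (kgi xgi29 ygi3 zgi33) (kgi xgi26 ygi20 zgi58) (kgi xgi28 ygi32 zgi3) (kgi xgi31 ygi15 zgi2) (kgi xgi24 ygi5 zgi16) (kgi xgi26 ygi42 zgi56) (kgi xgi23 ygi47 zgi11) (kgi xgi24 ygi2 zgi9) (kgi xgi27 ygi8 zgi54) (kgi xgi27 ygi9 zgi60) (kgi xgi23 ygi47 zgi21) (kgi xgi23 ygi47 zgi27) (kgi xgi30 ygi37 zgi0) (kgi xgi30 ygi7 zgi5) (kgi xgi23 ygi47 zgi28) (kgi xgi29 ygi49 zgi19) (kgi xgi23 ygi56 zgi43) (kgi xgi27 ygi23 zgi2) (kgi xgi27 ygi10 zgi32) (kgi xgi32 ygi22 zgi48) (kgi xgi32 ygi6 zgi54) (kgi xgi26 ygi37 zgi28) (kgi xgi26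 ygi52 zgi2) (kgi xgi31 ygi56 zgi10) (kgi xgi32 ygi52 zgi60) (kgi xgi32 ygi52 zgi5) (kgi xgi23 ygi47 zgi60) (kgi xgi23 ygi48 zgi20) (kgi xgi30 ygi56 zgi57) (kgi xgi30 ygi22 zgi58) (kgi xgi32 ygi45 zgi59) (kgi xgi23 ygi48 zgi7) (kgi xgi32 ygi36 zgi2) (kgi xgi23 ygi48 zgi8) (kgi xgi29 ygi35 zgi53) (kgi xgi32 ygi53 zgi3) (kgi xgi30 ygi18 zgi37) (kgi xgi23 ygi48 zgi13) (kgi xgi30 ygi32 zgi31) (kgi xgi30 ygi7 zgi28) (kgi xgi31 ygi23 zgi9) (kgi xgi23 ygi48 zgi19) (kgi xgi24 ygi30 zgi3) (kgi xgi30 ygi44 zgi55) (kgi xgi23 ygi48 zgi27) (kgi xgi23 ygi48 zgi34) (kgi xgi32 ygi52 zgi7) (kgi xgi31 ygi33 zgi25) (kgi xgi32 ygi52 zgi6) (kgi xgi30 ygi5 zgi57) (kgi xgi30 ygi5 zgi38) (kgi xgi23 ygi48 zgi55) (kgi xgi23 ygi48 zgi57) (kgi xgi32 ygi56 zgi6)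 (kgi xgi30 ygi5 zgi4) (kgi xgi32 ygi33 zgi15) (kgi xgi28 ygi15 zgi5) (kgi xgi31 ygi12 zgi36) (kgi xgi28 ygi18 zgi34)) (@D3.rec (fun _ => Pt) (kgi xgi23 ygi49 zgi9) (kgi xgi29 ygi33 zgi43) (kgi xgi29 ygi37 zgi59) (kgi xgi29 ygi37 zgi57) (kgi xgi30 ygi29 zgi47) (kgi xgi32 ygi9 zgi12) (kgi xgi23 ygi49 zgi16) (kgi xgi30 ygi25 zgi31) (kgi xgi28 ygi34 zgi16) (kgi xgi24 ygi19 zgi18) (kgi xgi29 ygi56 zgi11) (kgi xgi23 ygi49 zgi26) (kgi xgi24 ygi20 zgi15) (kgi xgi24 ygi27 zgi33) (kgi xgi23 ygi59 zgi19) (kgi xgi24 ygi19 zgi25) (kgi xgi23 ygi56 zgi10) (kgi xgi28 ygi25 zgi30) (kgi xgi27 ygi0 zgi45) (kgi xgi27 ygi46 zgi26) (kgi xgi31 ygi44 zgi41) (kgi xgi23 ygi49 zgi61) (kgi xgi30 ygi24 zgi45) (kgi xgi32 ygi29 zgi57) (kgi xgi23 ygi50 zgi8) (kgi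 xgi27 ygi39 zgi43) (kgi xgi24 ygi55 zgi16) (kgi xgi28 ygi30 zgi44) (kgi xgi30 ygi45 zgi17) (kgi xgi23 ygi50 zgi15) (kgi xgi27 ygi55 zgi9) (kgi xgi23 ygi50 zgi20) (kgi xgi26 ygi4 zgi6) (kgi xgi23 ygi50 zgi21) (kgi xgi30 ygi1 zgi13) (kgi xgi23 ygi50 zgi28) (kgi xgi23 ygi50 zgi38) (kgi xgi23 ygi50 zgi36) (kgi xgi30 ygi24 zgi47) (kgi xgi26 ygi20 zgi0) (kgi xgi23 ygi50 zgi33) (kgi xgi32 ygi29 zgi12) (kgi xgi32 ygi29 zgi4) (kgi xgi28 ygi25 zgi43) (kgi xgi28 ygi6 zgi3) (kgi xgi31 ygi32 zgi57) (kgi xgi31 ygi38 zgi33) (kgi xgi23 ygi50 zgi45) (kgi xgi26 ygi12 zgi24) (kgi xgi32 ygi44 zgi5) (kgi xgi23 ygi50 zgi57) (kgi xgi23 ygi50 zgi54) (kgi xgi28 ygi6 zgi4) (kgi xgi28 ygi6 zgi2) (kgi xgi26 ygi13 zgi33) (kgi xgi29 ygi31 zgi60) (kgi xgi23 ygi50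 zgi56) (kgi xgi32 ygi55 zgi40) (kgi xgi32 ygi32 zgi33) (kgi xgi32 ygi54 zgi32) (kgi xgi27 ygi50 zgi24) (kgi xgi32 ygi32 zgi0)) (@D3.rec (fun _ => Pt) (kgi xgi29 ygi21 zgi26) (kgi xgi23 ygi51 zgi12) (kgi xgi24 ygi40 zgi41) (kgi xgi24 ygi47 zgi60) (kgi xgi32 ygi41 zgi0) (kgi xgi31 ygi42 zgi23) (kgi xgi28 ygi25 zgi46) (kgi xgi26 ygi30 zgi36) (kgi xgi32 ygi30 zgi0) (kgi xgi31 ygi38 zgi8) (kgi xgi32 ygi30 zgi9) (kgi xgi30 ygi34 zgi30) (kgi xgi23 ygi51 zgi19) (kgi xgi32 ygi51 zgi47) (kgi xgi30 ygi39 zgi27) (kgi xgi23 ygi51 zgi31) (kgi xgi30 ygi38 zgi37) (kgi xgi30 ygi48 zgi34) (kgi xgi24 ygi24 zgi43) (kgi xgi30 ygi36 zgi57) (kgi xgi30 ygi25 zgi58) (kgi xgi32 ygi53 zgi1) (kgi xgi32 ygi25 zgi54) (kgi xgi23 ygi51 zgi38) (kgi xgi32 ygi28 zgi32)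 (kgi xgi27 ygi40 zgi7) (kgi xgi31 ygi45 zgi32) (kgi xgi28 ygi46 zgi54) (kgi xgi24 ygi3 zgi7) (kgi xgi28 ygi17 zgi36) (kgi xgi23 ygi51 zgi42) (kgi xgi28 ygi14 zgi24) (kgi xgi31 ygi39 zgi20) (kgi xgi28 ygi4 zgi19) (kgi xgi27 ygi40 zgi8) (kgi xgi28 ygi15 zgi27) (kgi xgi25 ygi57 zgi60) (kgi xgi24 ygi13 zgi60) (kgi xgi28 ygi49 zgi55) (kgi xgi28 ygi44 zgi2) (kgi xgi23 ygi52 zgi21) (kgi xgi32 ygi15 zgi28) (kgi xgi32 ygi28 zgi29) (kgi xgi30 ygi37 zgi3) (kgi xgi30 ygi23 zgi1) (kgi xgi23 ygi52 zgi48) (kgi xgi31 ygi24 zgi4) (kgi xgi32 ygi21 zgi22) (kgi xgi23 ygi52 zgi50) (kgi xgi30 ygi46 zgi33) (kgi xgi28 ygi25 zgi4) (kgi xgi29 ygi1 zgi34) (kgi xgi24 ygi6 zgi15) (kgi xgi32 ygi32 zgi23) (kgi xgi29 ygi24 zgi37) (kgi xgi24 ygi6 zgi38) (kgi xgi23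 ygi57 zgi1) (kgi xgi30 ygi31 zgi22) (kgi xgi29 ygi1 zgi35) (kgi xgi23 ygi53 zgi22) (kgi xgi30 ygi24 zgi10) (kgi xgi24 ygi28 zgi52)) (@D3.rec (fun _ => Pt) (kgi xgi28 ygi45 zgi55) (kgi xgi31 ygi25 zgi54) (kgi xgi30 ygi48 zgi48) (kgi xgi31 ygi38 zgi50) (kgi xgi23 ygi53 zgi33) (kgi xgi32 ygi42 zgi48) (kgi xgi28 ygi56 zgi6) (kgi xgi23 ygi53 zgi39) (kgi xgi23 ygi53 zgi44) (kgi xgi28 ygi21 zgi25) (kgi xgi31 ygi23 zgi27) (kgi xgi23 ygi53 zgi56) (kgi xgi24 ygi1 zgi55) (kgi xgi23 ygi54 zgi1) (kgi xgi28 ygi23 zgi23) (kgi xgi23 ygi54 zgi3) (kgi xgi29 ygi37 zgi6) (kgi xgi27 ygi51 zgi5) (kgi xgi29 ygi25 zgi26) (kgi xgi32 ygi2 zgi10) (kgi xgi27 ygi6 zgi2) (kgi xgi32 ygi29 zgi54) (kgi xgi23 ygi54 zgi15) (kgi xgi29 ygi53 zgi11) (kgi xgi32 ygi29 zgi52)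 (kgi xgi31 ygi49 zgi16) (kgi xgi23 ygi54 zgi20) (kgi xgi32 ygi34 zgi41) (kgi xgi32 ygi34 zgi39) (kgi xgi32 ygi55 zgi5) (kgi xgi32 ygi32 zgi18) (kgi xgi23 ygi54 zgi25) (kgi xgi23 ygi54 zgi35) (kgi xgi23 ygi54 zgi33) (kgi xgi29 ygi50 zgi61) (kgi xgi32 ygi52 zgi61) (kgi xgi32 ygi35 zgi0) (kgi xgi28 ygi8 zgi36) (kgi xgi28 ygi17 zgi61) (kgi xgi30 ygi34 zgi58) (kgi xgi26 ygi31 zgi42) (kgi xgi31 ygi16 zgi57) (kgi xgi23 ygi54 zgi31) (kgi xgi31 ygi11 zgi57) (kgi xgi31 ygi6 zgi36) (kgi xgi24 ygi10 zgi38) (kgi xgi32 ygi47 zgi47) (kgi xgi32 ygi50 zgi35) (kgi xgi23 ygi54 zgi43) (kgi xgi27 ygi18 zgi19) (kgi xgi27 ygi18 zgi23) (kgi xgi30 ygi34 zgi54) (kgi xgi23 ygi54 zgi49) (kgi xgi30 ygi8 zgi8) (kgi xgi32 ygi23 zgi21) (kgi xgi31 ygi49 zgi46) (kgi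 xgi32 ygi56 zgi21) (kgi xgi31 ygi16 zgi39) (kgi xgi28 ygi36 zgi30) (kgi xgi23 ygi54 zgi59) (kgi xgi31 ygi11 zgi7) (kgi xgi30 ygi33 zgi33)) (@D3.rec (fun _ => Pt) (kgi xgi30 ygi50 zgi56) (kgi xgi29 ygi7 zgi53) (kgi xgi30 ygi39 zgi12) (kgi xgi24 ygi8 zgi4) (kgi xgi27 ygi19 zgi0) (kgi xgi27 ygi11 zgi61) (kgi xgi31 ygi59 zgi46) (kgi xgi32 ygi25 zgi24) (kgi xgi24 ygi2 zgi22) (kgi xgi24 ygi29 zgi59) (kgi xgi24 ygi3 zgi43) (kgi xgi29 ygi41 zgi39) (kgi xgi29 ygi15 zgi20) (kgi xgi31 ygi21 zgi21) (kgi xgi23 ygi55 zgi47) (kgi xgi30 ygi27 zgi9) (kgi xgi27 ygi37 zgi22) (kgi xgi31 ygi22 zgi26) (kgi xgi30 ygi56 zgi50) (kgi xgi23 ygi55 zgi53) (kgi xgi31 ygi30 zgi9) (kgi xgi29 ygi9 zgi17) (kgi xgi30 ygi27 zgi27) (kgi xgi24 ygi10 zgi50) (kgi xgi28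 ygi58 zgi37) (kgi xgi24 ygi7 zgi25) (kgi xgi31 ygi14 zgi24) (kgi xgi30 ygi24 zgi14) (kgi xgi23 ygi57 zgi11) (kgi xgi23 ygi56 zgi16) (kgi xgi24 ygi7 zgi41) (kgi xgi25 ygi36 zgi16) (kgi xgi28 ygi39 zgi5) (kgi xgi24 ygi13 zgi26) (kgi xgi27 ygi53 zgi7) (kgi xgi27 ygi43 zgi50) (kgi xgi31 ygi55 zgi20) (kgi xgi32 ygi38 zgi11) (kgi xgi28 ygi20 zgi38) (kgi xgi24 ygi4 zgi48) (kgi xgi31 ygi26 zgi22) (kgi xgi24 ygi3 zgi33) (kgi xgi31 ygi19 zgi21) (kgi xgi24 ygi0 zgi13) (kgi xgi24 ygi27 zgi56) (kgi xgi32 ygi8 zgi7) (kgi xgi30 ygi49 zgi40) (kgi xgi23 ygi57 zgi4) (kgi xgi31 ygi33 zgi40) (kgi xgi24 ygi13 zgi47) (kgi xgi24 ygi13 zgi39) (kgi xgi24 ygi1 zgi23) (kgi xgi29 ygi47 zgi30) (kgi xgi26 ygi54 zgi36) (kgi xgi30 ygi28 zgi39) (kgi xgi28 ygi30 zgi19)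 (kgi xgi31 ygi19 zgi38) (kgi xgi26 ygi56 zgi55) (kgi xgi28 ygi39 zgi6) (kgi xgi26 ygi57 zgi5) (kgi xgi30 ygi56 zgi44) (kgi xgi28 ygi49 zgi15)) (@D3.rec (fun _ => Pt) (kgi xgi28 ygi39 zgi47) (kgi xgi23 ygi57 zgi34) (kgi xgi30 ygi11 zgi37) (kgi xgi25 ygi59 zgi24) (kgi xgi30 ygi14 zgi46) (kgi xgi25 ygi43 zgi57) (kgi xgi30 ygi18 zgi41) (kgi xgi31 ygi14 zgi28) (kgi xgi27 ygi8 zgi14) (kgi xgi31 ygi14 zgi9) (kgi xgi28 ygi38 zgi46) (kgi xgi24 ygi1 zgi21) (kgi xgi29 ygi18 zgi1) (kgi xgi24 ygi22 zgi56) (kgi xgi28 ygi32 zgi36) (kgi xgi29 ygi8 zgi42) (kgi xgi24 ygi2 zgi5) (kgi xgi28 ygi11 zgi33) (kgi xgi24 ygi22 zgi18) (kgi xgi25 ygi5 zgi31) (kgi xgi29 ygi59 zgi48) (kgi xgi23 ygi59 zgi8) (kgi xgi28 ygi32 zgi18) (kgi xgi29 ygi59 zgi61) (kgi xgi26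 ygi47 zgi52) (kgi xgi24 ygi10 zgi47) (kgi xgi30 ygi10 zgi20) (kgi xgi28 ygi53 zgi55) (kgi xgi24 ygi20 zgi28) (kgi xgi31 ygi19 zgi43) (kgi xgi31 ygi4 zgi24) (kgi xgi24 ygi24 zgi10) (kgi xgi31 ygi32 zgi43) (kgi xgi29 ygi10 zgi39) (kgi xgi23 ygi59 zgi39) (kgi xgi29 ygi11 zgi50) (kgi xgi29 ygi9 zgi48) (kgi xgi24 ygi1 zgi24) (kgi xgi24 ygi30 zgi4) (kgi xgi30 ygi39 zgi3) (kgi xgi24 ygi2 zgi25) (kgi xgi23 ygi59 zgi52) (kgi xgi24 ygi28 zgi46) (kgi xgi24 ygi27 zgi7) (kgi xgi24 ygi28 zgi51) (kgi xgi24 ygi28 zgi49) (kgi xgi23 ygi59 zgi56) (kgi xgi28 ygi43 zgi35) (kgi xgi32 ygi23 zgi60) (kgi xgi28 ygi49 zgi50) (kgi xgi23 ygi59 zgi60) (kgi xgi28 ygi29 zgi10) (kgi xgi24 ygi0 zgi17) (kgi xgi24 ygi0 zgi26) (kgi xgi31 ygi28 zgi30) (kgi xgi24 ygi16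 zgi50) (kgi xgi31 ygi24 zgi28) (kgi xgi24 ygi0 zgi4) (kgi xgi30 ygi12 zgi9) (kgi xgi26 ygi46 zgi21) (kgi xgi24 ygi26 zgi44) (kgi xgi24 ygi17 zgi9)) (@D3.rec (fun _ => Pt) (kgi xgi24 ygi26 zgi28) (kgi xgi26 ygi33 zgi19) (kgi xgi29 ygi26 zgi14) (kgi xgi31 ygi19 zgi45) (kgi xgi28 ygi29 zgi25) (kgi xgi24 ygi0 zgi20) (kgi xgi24 ygi0 zgi21) (kgi xgi24 ygi26 zgi23) (kgi xgi26 ygi39 zgi58) (kgi xgi26 ygi40 zgi2) (kgi xgi24 ygi0 zgi24) (kgi xgi28 ygi43 zgi45) (kgi xgi30 ygi35 zgi35) (kgi xgi24 ygi17 zgi55) (kgi xgi28 ygi14 zgi30) (kgi xgi27 ygi13 zgi10) (kgi xgi28 ygi17 zgi9) (kgi xgi27 ygi9 zgi39) (kgi xgi32 ygi19 zgi1) (kgi xgi30 ygi31 zgi17) (kgi xgi24 ygi30 zgi27) (kgi xgi29 ygi32 zgi22) (kgi xgi32 ygi18 zgi12) (kgi xgi31 ygi12 zgi33)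 (kgi xgi32 ygi40 zgi29) (kgi xgi30 ygi28 zgi22) (kgi xgi24 ygi0 zgi60) (kgi xgi31 ygi13 zgi49) (kgi xgi24 ygi29 zgi61) (kgi xgi30 ygi28 zgi28) (kgi xgi32 ygi18 zgi23) (kgi xgi30 ygi31 zgi6) (kgi xgi28 ygi52 zgi15) (kgi xgi32 ygi56 zgi30) (kgi xgi24 ygi1 zgi3) (kgi xgi31 ygi17 zgi42) (kgi xgi29 ygi34 zgi28) (kgi xgi29 ygi21 zgi25) (kgi xgi24 ygi5 zgi56) (kgi xgi29 ygi44 zgi50) (kgi xgi28 ygi45 zgi20) (kgi xgi31 ygi36 zgi53) (kgi xgi30 ygi26 zgi58) (kgi xgi31 ygi30 zgi3) (kgi xgi31 ygi26 zgi12) (kgi xgi31 ygi19 zgi2) (kgi xgi29 ygi45 zgi20) (kgi xgi31 ygi45 zgi60) (kgi xgi31 ygi18 zgi61) (kgi xgi24 ygi1 zgi34) (kgi xgi27 ygi10 zgi44) (kgi xgi28 ygi46 zgi28) (kgi xgi32 ygi15 zgi3) (kgi xgi28 ygi52 zgi0) (kgi xgi24 ygi1 zgi53) (kgi xgi24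 ygi2 zgi0) (kgi xgi30 ygi19 zgi17) (kgi xgi24 ygi1 zgi59) (kgi xgi31 ygi52 zgi41) (kgi xgi31 ygi33 zgi21) (kgi xgi32 ygi20 zgi43) (kgi xgi30 ygi27 zgi32)) (@D3.rec (fun _ => Pt) (kgi xgi32 ygi56 zgi0) (kgi xgi32 ygi19 zgi24) (kgi xgi32 ygi56 zgi37) (kgi xgi24 ygi1 zgi61) (kgi xgi32 ygi47 zgi29) (kgi xgi30 ygi21 zgi16) (kgi xgi24 ygi2 zgi12) (kgi xgi30 ygi39 zgi32) (kgi xgi26 ygi43 zgi21) (kgi xgi32 ygi4 zgi17) (kgi xgi30 ygi34 zgi29) (kgi xgi32 ygi16 zgi35) (kgi xgi30 ygi21 zgi20) (kgi xgi27 ygi10 zgi57) (kgi xgi24 ygi28 zgi33) (kgi xgi26 ygi37 zgi30) (kgi xgi30 ygi4 zgi38) (kgi xgi30 ygi17 zgi37) (kgi xgi32 ygi10 zgi47) (kgi xgi31 ygi26 zgi3) (kgi xgi26 ygi33 zgi35) (kgi xgi32 ygi47 zgi48) (kgi xgi32 ygi53 zgi10) (kgi xgi26 ygi11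 zgi8) (kgi xgi24 ygi2 zgi36) (kgi xgi27 ygi17 zgi3) (kgi xgi30 ygi16 zgi37) (kgi xgi29 ygi0 zgi47) (kgi xgi26 ygi46 zgi16) (kgi xgi30 ygi7 zgi50) (kgi xgi30 ygi56 zgi2) (kgi xgi27 ygi12 zgi3) (kgi xgi24 ygi3 zgi49) (kgi xgi27 ygi20 zgi58) (kgi xgi24 ygi2 zgi47) (kgi xgi28 ygi51 zgi30) (kgi xgi31 ygi28 zgi17) (kgi xgi28 ygi51 zgi28) (kgi xgi32 ygi1 zgi7) (kgi xgi24 ygi2 zgi48) (kgi xgi32 ygi46 zgi41) (kgi xgi31 ygi59 zgi33) (kgi xgi27 ygi11 zgi43) (kgi xgi24 ygi2 zgi58) (kgi xgi30 ygi0 zgi11) (kgi xgi31 ygi26 zgi60) (kgi xgi28 ygi46 zgi53) (kgi xgi31 ygi28 zgi15) (kgi xgi31 ygi56 zgi53) (kgi xgi31 ygi50 zgi53) (kgi xgi28 ygi46 zgi61) (kgi xgi28 ygi54 zgi1) (kgi xgi24 ygi3 zgi9) (kgi xgi25 ygi11 zgi53) (kgi xgi32 ygi4 zgi11) (kgi xgi30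 ygi9 zgi20) (kgi xgi32 ygi41 zgi30) (kgi xgi25 ygi15 zgi23) (kgi xgi26 ygi25 zgi61) (kgi xgi26 ygi35 zgi45) (kgi xgi24 ygi3 zgi22) (kgi xgi24 ygi3 zgi30)) (@D3.rec (fun _ => Pt) (kgi xgi28 ygi40 zgi24) (kgi xgi31 ygi26 zgi11) (kgi xgi31 ygi30 zgi61) (kgi xgi31 ygi26 zgi10) (kgi xgi24 ygi3 zgi27) (kgi xgi32 ygi37 zgi34) (kgi xgi30 ygi28 zgi13) (kgi xgi26 ygi37 zgi58) (kgi xgi29 ygi7 zgi35) (kgi xgi25 ygi11 zgi3) (kgi xgi27 ygi44 zgi15) (kgi xgi32 ygi47 zgi9) (kgi xgi24 ygi3 zgi44) (kgi xgi24 ygi3 zgi57) (kgi xgi30 ygi27 zgi15) (kgi xgi31 ygi29 zgi35) (kgi xgi28 ygi53 zgi50) (kgi xgi25 ygi20 zgi59) (kgi xgi29 ygi27 zgi22) (kgi xgi29 ygi14 zgi28) (kgi xgi31 ygi51 zgi17) (kgi xgi31 ygi21 zgi59) (kgi xgi24 ygi3 zgi54) (kgi xgi31 ygi39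 zgi52) (kgi xgi25 ygi21 zgi61) (kgi xgi32 ygi27 zgi14) (kgi xgi28 ygi45 zgi23) (kgi xgi30 ygi26 zgi60) (kgi xgi29 ygi36 zgi16) (kgi xgi24 ygi3 zgi56) (kgi xgi31 ygi51 zgi11) (kgi xgi32 ygi14 zgi0) (kgi xgi32 ygi52 zgi56) (kgi xgi31 ygi59 zgi43) (kgi xgi24 ygi50 zgi13) (kgi xgi24 ygi3 zgi59) (kgi xgi30 ygi38 zgi25) (kgi xgi30 ygi22 zgi16) (kgi xgi24 ygi4 zgi2) (kgi xgi29 ygi18 zgi0) (kgi xgi31 ygi45 zgi31) (kgi xgi32 ygi33 zgi0) (kgi xgi28 ygi56 zgi31) (kgi xgi24 ygi4 zgi12) (kgi xgi24 ygi4 zgi19) (kgi xgi24 ygi4 zgi17) (kgi xgi29 ygi34 zgi0) (kgi xgi31 ygi24 zgi41) (kgi xgi30 ygi16 zgi21) (kgi xgi26 ygi46 zgi42) (kgi xgi24 ygi4 zgi15) (kgi xgi29 ygi34 zgi33) (kgi xgi31 ygi28 zgi24) (kgi xgi32 ygi0 zgi46) (kgi xgi32 ygi13 zgi25) (kgi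 xgi25 ygi5 zgi53) (kgi xgi31 ygi24 zgi39) (kgi xgi24 ygi4 zgi25) (kgi xgi28 ygi41 zgi52) (kgi xgi29 ygi27 zgi30) (kgi xgi24 ygi4 zgi35) (kgi xgi31 ygi24 zgi33)) (@D3.rec (fun _ => Pt) (kgi xgi32 ygi17 zgi58) (kgi xgi30 ygi19 zgi23) (kgi xgi30 ygi27 zgi6) (kgi xgi31 ygi34 zgi26) (kgi xgi30 ygi34 zgi45) (kgi xgi32 ygi39 zgi23) (kgi xgi32 ygi55 zgi7) (kgi xgi27 ygi7 zgi55) (kgi xgi24 ygi4 zgi43) (kgi xgi24 ygi4 zgi52) (kgi xgi30 ygi27 zgi25) (kgi xgi29 ygi55 zgi52) (kgi xgi31 ygi0 zgi31) (kgi xgi25 ygi5 zgi13) (kgi xgi29 ygi23 zgi20) (kgi xgi32 ygi48 zgi4) (kgi xgi25 ygi24 zgi56) (kgi xgi25 ygi10 zgi37) (kgi xgi31 ygi55 zgi21) (kgi xgi24 ygi10 zgi49) (kgi xgi30 ygi23 zgi33) (kgi xgi24 ygi47 zgi45) (kgi xgi26 ygi20 zgi22) (kgi xgi32 ygi54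 zgi27) (kgi xgi30 ygi45 zgi7) (kgi xgi30 ygi39 zgi40) (kgi xgi31 ygi17 zgi20) (kgi xgi25 ygi18 zgi44) (kgi xgi29 ygi30 zgi34) (kgi xgi24 ygi18 zgi58) (kgi xgi29 ygi32 zgi31) (kgi xgi24 ygi30 zgi15) (kgi xgi24 ygi6 zgi16) (kgi xgi32 ygi19 zgi37) (kgi xgi30 ygi26 zgi34) (kgi xgi24 ygi6 zgi1) (kgi xgi28 ygi8 zgi33) (kgi xgi31 ygi22 zgi51) (kgi xgi32 ygi18 zgi20) (kgi xgi30 ygi49 zgi5) (kgi xgi32 ygi47 zgi0) (kgi xgi24 ygi7 zgi0) (kgi xgi32 ygi53 zgi52) (kgi xgi26 ygi56 zgi18) (kgi xgi29 ygi35 zgi40) (kgi xgi29 ygi2 zgi52) (kgi xgi32 ygi23 zgi19) (kgi xgi30 ygi39 zgi43) (kgi xgi32 ygi36 zgi28) (kgi xgi30 ygi26 zgi39) (kgi xgi32 ygi33 zgi52) (kgi xgi31 ygi22 zgi39) (kgi xgi32 ygi9 zgi22) (kgi xgi32 ygi39 zgi25) (kgi xgi31 ygi32 zgi8) (kgi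 xgi24 ygi6 zgi34) (kgi xgi29 ygi8 zgi14) (kgi xgi30 ygi47 zgi21) (kgi xgi32 ygi18 zgi21) (kgi xgi30 ygi30 zgi32) (kgi xgi24 ygi6 zgi49) (kgi xgi24 ygi6 zgi52)) (@D3.rec (fun _ => Pt) (kgi xgi32 ygi20 zgi6) (kgi xgi31 ygi30 zgi49) (kgi xgi30 ygi54 zgi8) (kgi xgi30 ygi57 zgi2) (kgi xgi30 ygi50 zgi1) (kgi xgi28 ygi33 zgi3) (kgi xgi31 ygi13 zgi43) (kgi xgi24 ygi6 zgi56) (kgi xgi30 ygi50 zgi30) (kgi xgi32 ygi54 zgi56) (kgi xgi31 ygi22 zgi23) (kgi xgi32 ygi34 zgi49) (kgi xgi29 ygi3 zgi15) (kgi xgi32 ygi36 zgi53) (kgi xgi25 ygi14 zgi27) (kgi xgi27 ygi9 zgi42) (kgi xgi26 ygi27 zgi50) (kgi xgi24 ygi15 zgi35) (kgi xgi24 ygi7 zgi34) (kgi xgi31 ygi25 zgi48) (kgi xgi29 ygi5 zgi34) (kgi xgi30 ygi19 zgi57) (kgi xgi32 ygi39 zgi24) (kgi xgi25 ygi36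 zgi15) (kgi xgi25 ygi31 zgi41) (kgi xgi32 ygi56 zgi46) (kgi xgi26 ygi42 zgi1) (kgi xgi30 ygi57 zgi4) (kgi xgi31 ygi16 zgi10) (kgi xgi24 ygi8 zgi1) (kgi xgi25 ygi34 zgi6) (kgi xgi31 ygi10 zgi45) (kgi xgi28 ygi26 zgi55) (kgi xgi24 ygi8 zgi34) (kgi xgi32 ygi30 zgi56) (kgi xgi32 ygi16 zgi24) (kgi xgi30 ygi46 zgi49) (kgi xgi31 ygi56 zgi30) (kgi xgi24 ygi13 zgi21) (kgi xgi31 ygi31 zgi26) (kgi xgi30 ygi19 zgi59) (kgi xgi31 ygi18 zgi2) (kgi xgi30 ygi26 zgi57) (kgi xgi24 ygi9 zgi10) (kgi xgi32 ygi29 zgi29) (kgi xgi26 ygi20 zgi16) (kgi xgi30 ygi45 zgi31) (kgi xgi28 ygi21 zgi15) (kgi xgi32 ygi18 zgi29) (kgi xgi31 ygi3 zgi44) (kgi xgi25 ygi51 zgi20) (kgi xgi30 ygi44 zgi45) (kgi xgi28 ygi39 zgi58) (kgi xgi24 ygi25 zgi13) (kgi xgi32 ygi48 zgi5)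 (kgi xgi32 ygi15 zgi9) (kgi xgi29 ygi35 zgi3) (kgi xgi24 ygi39 zgi58) (kgi xgi24 ygi29 zgi14) (kgi xgi30 ygi8 zgi22) (kgi xgi32 ygi28 zgi3) (kgi xgi30 ygi11 zgi44)) (@D3.rec (fun _ => Pt) (kgi xgi31 ygi41 zgi41) (kgi xgi32 ygi39 zgi36) (kgi xgi26 ygi47 zgi55) (kgi xgi31 ygi41 zgi57) (kgi xgi31 ygi15 zgi45) (kgi xgi30 ygi49 zgi13) (kgi xgi31 ygi30 zgi40) (kgi xgi32 ygi37 zgi8) (kgi xgi29 ygi8 zgi48) (kgi xgi24 ygi10 zgi61) (kgi xgi31 ygi31 zgi4) (kgi xgi32 ygi52 zgi53) (kgi xgi27 ygi8 zgi30) (kgi xgi32 ygi51 zgi8) (kgi xgi30 ygi36 zgi60) (kgi xgi24 ygi11 zgi4) (kgi xgi30 ygi37 zgi51) (kgi xgi31 ygi26 zgi48) (kgi xgi29 ygi43 zgi0) (kgi xgi30 ygi2 zgi24) (kgi xgi24 ygi11 zgi18) (kgi xgi32 ygi56 zgi48) (kgi xgi24 ygi11 zgi21) (kgi xgi28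 ygi58 zgi16) (kgi xgi28 ygi58 zgi33) (kgi xgi26 ygi0 zgi9) (kgi xgi26 ygi36 zgi60) (kgi xgi31 ygi20 zgi52) (kgi xgi28 ygi59 zgi56) (kgi xgi24 ygi11 zgi32) (kgi xgi30 ygi27 zgi50) (kgi xgi29 ygi41 zgi15) (kgi xgi31 ygi26 zgi23) (kgi xgi24 ygi11 zgi42) (kgi xgi31 ygi21 zgi61) (kgi xgi26 ygi54 zgi41) (kgi xgi31 ygi26 zgi52) (kgi xgi31 ygi21 zgi58) (kgi xgi29 ygi16 zgi31) (kgi xgi31 ygi21 zgi57) (kgi xgi31 ygi55 zgi22) (kgi xgi24 ygi11 zgi48) (kgi xgi30 ygi15 zgi32) (kgi xgi29 ygi44 zgi32) (kgi xgi31 ygi27 zgi55) (kgi xgi29 ygi36 zgi23) (kgi xgi30 ygi7 zgi58) (kgi xgi31 ygi22 zgi8) (kgi xgi30 ygi16 zgi43) (kgi xgi32 ygi15 zgi22) (kgi xgi32 ygi52 zgi52) (kgi xgi24 ygi26 zgi47) (kgi xgi32 ygi38 zgi57) (kgi xgi28 ygi39 zgi50) (kgi xgi24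 ygi12 zgi5) (kgi xgi24 ygi25 zgi1) (kgi xgi24 ygi24 zgi61) (kgi xgi32 ygi38 zgi25) (kgi xgi29 ygi21 zgi36) (kgi xgi29 ygi20 zgi52) (kgi xgi31 ygi39 zgi29) (kgi xgi24 ygi13 zgi11)) (@D3.rec (fun _ => Pt) (kgi xgi24 ygi12 zgi17) (kgi xgi28 ygi8 zgi46) (kgi xgi29 ygi2 zgi2) (kgi xgi24 ygi13 zgi24) (kgi xgi27 ygi24 zgi22) (kgi xgi31 ygi22 zgi17) (kgi xgi32 ygi36 zgi50) (kgi xgi32 ygi23 zgi18) (kgi xgi24 ygi12 zgi39) (kgi xgi28 ygi33 zgi46) (kgi xgi32 ygi44 zgi51) (kgi xgi25 ygi36 zgi30) (kgi xgi25 ygi26 zgi27) (kgi xgi28 ygi32 zgi50) (kgi xgi24 ygi12 zgi49) (kgi xgi27 ygi51 zgi1) (kgi xgi27 ygi53 zgi0) (kgi xgi32 ygi7 zgi60) (kgi xgi24 ygi12 zgi58) (kgi xgi28 ygi7 zgi8) (kgi xgi26 ygi30 zgi35) (kgi xgi28 ygi5 zgi59) (kgi xgi24 ygi13 zgi0)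 (kgi xgi29 ygi31 zgi14) (kgi xgi32 ygi16 zgi51) (kgi xgi29 ygi32 zgi30) (kgi xgi30 ygi53 zgi5) (kgi xgi28 ygi34 zgi18) (kgi xgi24 ygi21 zgi34) (kgi xgi29 ygi53 zgi50) (kgi xgi32 ygi38 zgi51) (kgi xgi28 ygi36 zgi31) (kgi xgi24 ygi13 zgi18) (kgi xgi28 ygi8 zgi47) (kgi xgi24 ygi13 zgi17) (kgi xgi32 ygi56 zgi54) (kgi xgi32 ygi44 zgi6) (kgi xgi32 ygi31 zgi52) (kgi xgi28 ygi19 zgi4) (kgi xgi24 ygi13 zgi19) (kgi xgi32 ygi36 zgi46) (kgi xgi32 ygi30 zgi18) (kgi xgi27 ygi52 zgi61) (kgi xgi28 ygi8 zgi43) (kgi xgi31 ygi54 zgi32) (kgi xgi24 ygi26 zgi12) (kgi xgi31 ygi23 zgi21) (kgi xgi32 ygi35 zgi49) (kgi xgi29 ygi51 zgi4) (kgi xgi31 ygi54 zgi5) (kgi xgi30 ygi44 zgi1) (kgi xgi30 ygi53 zgi11) (kgi xgi30 ygi6 zgi29) (kgi xgi24 ygi13 zgi56) (kgi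 xgi26 ygi58 zgi15) (kgi xgi28 ygi50 zgi4) (kgi xgi27 ygi13 zgi5) (kgi xgi28 ygi33 zgi59) (kgi xgi29 ygi51 zgi3) (kgi xgi32 ygi33 zgi26) (kgi xgi24 ygi23 zgi13) (kgi xgi25 ygi50 zgi59)) (@D3.rec (fun _ => Pt) (kgi xgi29 ygi9 zgi21) (kgi xgi25 ygi47 zgi29) (kgi xgi32 ygi43 zgi0) (kgi xgi32 ygi40 zgi11) (kgi xgi32 ygi19 zgi3) (kgi xgi25 ygi10 zgi16) (kgi xgi29 ygi36 zgi32) (kgi xgi32 ygi14 zgi58) (kgi xgi32 ygi40 zgi38) (kgi xgi25 ygi8 zgi10) (kgi xgi31 ygi21 zgi1) (kgi xgi31 ygi21 zgi3) (kgi xgi30 ygi17 zgi17) (kgi xgi31 ygi21 zgi50) (kgi xgi25 ygi19 zgi40) (kgi xgi27 ygi1 zgi11) (kgi xgi28 ygi54 zgi41) (kgi xgi32 ygi19 zgi4) (kgi xgi32 ygi45 zgi50) (kgi xgi27 ygi29 zgi26) (kgi xgi28 ygi57 zgi58) (kgi xgi24 ygi15 zgi45) (kgi xgi24 ygi16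 zgi29) (kgi xgi31 ygi24 zgi36) (kgi xgi29 ygi44 zgi26) (kgi xgi27 ygi18 zgi61) (kgi xgi24 ygi15 zgi4) (kgi xgi24 ygi26 zgi27) (kgi xgi24 ygi15 zgi8) (kgi xgi25 ygi48 zgi39) (kgi xgi28 ygi19 zgi40) (kgi xgi32 ygi56 zgi59) (kgi xgi28 ygi29 zgi50) (kgi xgi28 ygi29 zgi49) (kgi xgi24 ygi15 zgi13) (kgi xgi24 ygi16 zgi54) (kgi xgi30 ygi19 zgi30) (kgi xgi24 ygi15 zgi47) (kgi xgi24 ygi16 zgi40) (kgi xgi32 ygi42 zgi18) (kgi xgi32 ygi35 zgi38) (kgi xgi32 ygi56 zgi60) (kgi xgi29 ygi8 zgi1) (kgi xgi31 ygi56 zgi22) (kgi xgi28 ygi57 zgi56) (kgi xgi30 ygi3 zgi43) (kgi xgi32 ygi40 zgi41) (kgi xgi28 ygi53 zgi48) (kgi xgi24 ygi15 zgi52) (kgi xgi31 ygi17 zgi40) (kgi xgi24 ygi15 zgi58) (kgi xgi30 ygi50 zgi60) (kgi xgi31 ygi24 zgi32) (kgi xgi28 ygi20 zgi33)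 (kgi xgi25 ygi11 zgi49) (kgi xgi24 ygi16 zgi8) (kgi xgi31 ygi31 zgi29) (kgi xgi30 ygi8 zgi4) (kgi xgi32 ygi35 zgi5) (kgi xgi27 ygi19 zgi35) (kgi xgi32 ygi56 zgi49) (kgi xgi24 ygi16 zgi21)) (@D3.rec (fun _ => Pt) (kgi xgi28 ygi58 zgi26) (kgi xgi29 ygi4 zgi24) (kgi xgi30 ygi11 zgi25) (kgi xgi25 ygi12 zgi25) (kgi xgi24 ygi16 zgi33) (kgi xgi27 ygi16 zgi14) (kgi xgi32 ygi33 zgi61) (kgi xgi24 ygi16 zgi42) (kgi xgi32 ygi10 zgi41) (kgi xgi32 ygi47 zgi58) (kgi xgi29 ygi26 zgi29) (kgi xgi29 ygi56 zgi23) (kgi xgi24 ygi26 zgi60) (kgi xgi25 ygi48 zgi31) (kgi xgi29 ygi49 zgi22) (kgi xgi31 ygi31 zgi32) (kgi xgi28 ygi32 zgi26) (kgi xgi31 ygi58 zgi61) (kgi xgi31 ygi56 zgi34) (kgi xgi28 ygi59 zgi15) (kgi xgi30 ygi51 zgi39) (kgi xgi32 ygi18 zgi51) (kgi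 xgi24 ygi26 zgi33) (kgi xgi24 ygi17 zgi13) (kgi xgi24 ygi17 zgi11) (kgi xgi24 ygi17 zgi8) (kgi xgi31 ygi24 zgi43) (kgi xgi32 ygi47 zgi59) (kgi xgi32 ygi57 zgi4) (kgi xgi28 ygi38 zgi34) (kgi xgi32 ygi11 zgi43) (kgi xgi28 ygi38 zgi7) (kgi xgi31 ygi56 zgi18) (kgi xgi30 ygi6 zgi23) (kgi xgi27 ygi6 zgi13) (kgi xgi24 ygi17 zgi24) (kgi xgi32 ygi4 zgi50) (kgi xgi25 ygi32 zgi8) (kgi xgi31 ygi41 zgi17) (kgi xgi27 ygi18 zgi33) (kgi xgi32 ygi43 zgi15) (kgi xgi24 ygi17 zgi31) (kgi xgi27 ygi25 zgi56) (kgi xgi29 ygi5 zgi3) (kgi xgi32 ygi7 zgi13) (kgi xgi24 ygi17 zgi39) (kgi xgi32 ygi43 zgi46) (kgi xgi31 ygi10 zgi4) (kgi xgi32 ygi49 zgi36) (kgi xgi30 ygi3 zgi10) (kgi xgi29 ygi47 zgi57) (kgi xgi31 ygi42 zgi15) (kgi xgi29 ygi13 zgi47) (kgi xgi24 ygi17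 zgi46) (kgi xgi32 ygi26 zgi11) (kgi xgi29 ygi47 zgi60) (kgi xgi27 ygi24 zgi1) (kgi xgi31 ygi4 zgi8) (kgi xgi29 ygi7 zgi10) (kgi xgi27 ygi6 zgi7) (kgi xgi28 ygi44 zgi1) (kgi xgi32 ygi40 zgi8)) (@D3.rec (fun _ => Pt) (kgi xgi27 ygi20 zgi9) (kgi xgi30 ygi51 zgi4) (kgi xgi26 ygi53 zgi44) (kgi xgi32 ygi18 zgi18) (kgi xgi24 ygi18 zgi45) (kgi xgi32 ygi0 zgi30) (kgi xgi28 ygi35 zgi21) (kgi xgi24 ygi18 zgi51) (kgi xgi30 ygi38 zgi13) (kgi xgi30 ygi5 zgi42) (kgi xgi30 ygi45 zgi33) (kgi xgi24 ygi50 zgi28) (kgi xgi27 ygi35 zgi30) (kgi xgi27 ygi1 zgi33) (kgi xgi28 ygi57 zgi15) (kgi xgi25 ygi22 zgi11) (kgi xgi31 ygi14 zgi10) (kgi xgi32 ygi43 zgi55) (kgi xgi32 ygi38 zgi33) (kgi xgi30 ygi27 zgi7) (kgi xgi31 ygi32 zgi16) (kgi xgi29 ygi42 zgi56) (kgi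 xgi26 ygi56 zgi61) (kgi xgi30 ygi12 zgi10) (kgi xgi24 ygi19 zgi27) (kgi xgi31 ygi21 zgi52) (kgi xgi26 ygi43 zgi24) (kgi xgi29 ygi53 zgi32) (kgi xgi24 ygi19 zgi33) (kgi xgi31 ygi18 zgi57) (kgi xgi31 ygi18 zgi58) (kgi xgi26 ygi39 zgi16) (kgi xgi29 ygi29 zgi8) (kgi xgi24 ygi19 zgi35) (kgi xgi24 ygi19 zgi37) (kgi xgi24 ygi27 zgi19) (kgi xgi24 ygi19 zgi39) (kgi xgi28 ygi50 zgi6) (kgi xgi32 ygi41 zgi34) (kgi xgi26 ygi53 zgi53) (kgi xgi28 ygi48 zgi1) (kgi xgi28 ygi50 zgi1) (kgi xgi28 ygi31 zgi16) (kgi xgi30 ygi12 zgi40) (kgi xgi30 ygi12 zgi7) (kgi xgi30 ygi3 zgi60) (kgi xgi29 ygi32 zgi49) (kgi xgi25 ygi31 zgi16) (kgi xgi26 ygi23 zgi21) (kgi xgi25 ygi49 zgi12) (kgi xgi24 ygi20 zgi14) (kgi xgi29 ygi17 zgi21) (kgi xgi29 ygi59 zgi43) (kgi xgi25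 ygi54 zgi61) (kgi xgi31 ygi22 zgi16) (kgi xgi25 ygi10 zgi22) (kgi xgi24 ygi20 zgi52) (kgi xgi30 ygi34 zgi39) (kgi xgi24 ygi34 zgi45) (kgi xgi26 ygi6 zgi46) (kgi xgi31 ygi48 zgi15) (kgi xgi32 ygi53 zgi12)) (@D3.rec (fun _ => Pt) (kgi xgi32 ygi36 zgi36) (kgi xgi24 ygi33 zgi26) (kgi xgi24 ygi21 zgi4) (kgi xgi26 ygi40 zgi32) (kgi xgi32 ygi49 zgi11) (kgi xgi32 ygi54 zgi10) (kgi xgi28 ygi12 zgi1) (kgi xgi24 ygi21 zgi15) (kgi xgi29 ygi13 zgi12) (kgi xgi24 ygi21 zgi13) (kgi xgi31 ygi34 zgi34) (kgi xgi25 ygi45 zgi1) (kgi xgi24 ygi21 zgi17) (kgi xgi26 ygi47 zgi56) (kgi xgi27 ygi11 zgi44) (kgi xgi31 ygi33 zgi16) (kgi xgi32 ygi34 zgi0) (kgi xgi24 ygi21 zgi33) (kgi xgi29 ygi25 zgi59) (kgi xgi24 ygi21 zgi35) (kgi xgi32 ygi50 zgi39) (kgi xgi32 ygi14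 zgi2) (kgi xgi24 ygi21 zgi40) (kgi xgi32 ygi9 zgi18) (kgi xgi24 ygi21 zgi45) (kgi xgi30 ygi25 zgi29) (kgi xgi28 ygi46 zgi3) (kgi xgi28 ygi46 zgi19) (kgi xgi31 ygi19 zgi41) (kgi xgi24 ygi34 zgi48) (kgi xgi28 ygi41 zgi37) (kgi xgi31 ygi34 zgi57) (kgi xgi32 ygi55 zgi31) (kgi xgi24 ygi27 zgi38) (kgi xgi28 ygi41 zgi49) (kgi xgi26 ygi9 zgi59) (kgi xgi31 ygi57 zgi18) (kgi xgi26 ygi2 zgi3) (kgi xgi32 ygi25 zgi9) (kgi xgi29 ygi6 zgi37) (kgi xgi30 ygi30 zgi9) (kgi xgi24 ygi22 zgi44) (kgi xgi24 ygi22 zgi49) (kgi xgi32 ygi38 zgi32) (kgi xgi24 ygi22 zgi48) (kgi xgi32 ygi38 zgi31) (kgi xgi32 ygi19 zgi13) (kgi xgi31 ygi24 zgi53) (kgi xgi31 ygi53 zgi19) (kgi xgi29 ygi40 zgi9) (kgi xgi31 ygi51 zgi4) (kgi xgi25 ygi48 zgi29) (kgi xgi27 ygi46 zgi55)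 (kgi xgi28 ygi57 zgi8) (kgi xgi28 ygi57 zgi7) (kgi xgi24 ygi23 zgi8) (kgi xgi32 ygi55 zgi8) (kgi xgi30 ygi50 zgi25) (kgi xgi30 ygi22 zgi35) (kgi xgi26 ygi53 zgi60) (kgi xgi30 ygi21 zgi38) (kgi xgi29 ygi36 zgi55)) (@D3.rec (fun _ => Pt) (kgi xgi24 ygi23 zgi17) (kgi xgi28 ygi28 zgi51) (kgi xgi30 ygi12 zgi26) (kgi xgi26 ygi3 zgi22) (kgi xgi31 ygi27 zgi38) (kgi xgi27 ygi23 zgi46) (kgi xgi24 ygi23 zgi23) (kgi xgi32 ygi14 zgi41) (kgi xgi27 ygi15 zgi8) (kgi xgi31 ygi17 zgi17) (kgi xgi31 ygi32 zgi42) (kgi xgi28 ygi53 zgi22) (kgi xgi32 ygi4 zgi48) (kgi xgi24 ygi23 zgi45) (kgi xgi32 ygi14 zgi48) (kgi xgi28 ygi53 zgi20) (kgi xgi28 ygi53 zgi17) (kgi xgi27 ygi20 zgi49) (kgi xgi29 ygi11 zgi51) (kgi xgi31 ygi5 zgi2) (kgi xgi30 ygi52 zgi31) (kgi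 xgi32 ygi42 zgi1) (kgi xgi31 ygi56 zgi35) (kgi xgi32 ygi26 zgi12) (kgi xgi31 ygi10 zgi20) (kgi xgi30 ygi43 zgi0) (kgi xgi28 ygi39 zgi14) (kgi xgi28 ygi51 zgi3) (kgi xgi32 ygi41 zgi8) (kgi xgi32 ygi46 zgi31) (kgi xgi24 ygi24 zgi33) (kgi xgi32 ygi34 zgi12) (kgi xgi30 ygi29 zgi41) (kgi xgi32 ygi21 zgi17) (kgi xgi32 ygi46 zgi42) (kgi xgi32 ygi45 zgi34) (kgi xgi31 ygi13 zgi6) (kgi xgi32 ygi53 zgi34) (kgi xgi29 ygi55 zgi50) (kgi xgi26 ygi56 zgi60) (kgi xgi32 ygi41 zgi41) (kgi xgi30 ygi25 zgi21) (kgi xgi30 ygi37 zgi53) (kgi xgi24 ygi24 zgi59) (kgi xgi29 ygi26 zgi35) (kgi xgi28 ygi39 zgi51) (kgi xgi24 ygi24 zgi60) (kgi xgi28 ygi30 zgi9) (kgi xgi31 ygi29 zgi47) (kgi xgi32 ygi46 zgi54) (kgi xgi28 ygi30 zgi12) (kgi xgi32 ygi34 zgi6) (kgi xgi27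 ygi15 zgi60) (kgi xgi25 ygi53 zgi8) (kgi xgi28 ygi55 zgi46) (kgi xgi26 ygi41 zgi39) (kgi xgi30 ygi56 zgi0) (kgi xgi26 ygi38 zgi61) (kgi xgi30 ygi25 zgi48) (kgi xgi32 ygi45 zgi52) (kgi xgi32 ygi47 zgi5) (kgi xgi24 ygi25 zgi30)) (@D3.rec (fun _ => Pt) (kgi xgi27 ygi13 zgi57) (kgi xgi24 ygi25 zgi33) (kgi xgi24 ygi25 zgi35) (kgi xgi32 ygi40 zgi18) (kgi xgi31 ygi24 zgi9) (kgi xgi29 ygi0 zgi33) (kgi xgi32 ygi37 zgi53) (kgi xgi32 ygi19 zgi8) (kgi xgi24 ygi29 zgi43) (kgi xgi32 ygi23 zgi27) (kgi xgi32 ygi57 zgi14) (kgi xgi32 ygi34 zgi1) (kgi xgi32 ygi12 zgi9) (kgi xgi30 ygi15 zgi26) (kgi xgi28 ygi24 zgi12) (kgi xgi32 ygi11 zgi55) (kgi xgi30 ygi15 zgi24) (kgi xgi30 ygi16 zgi29) (kgi xgi32 ygi41 zgi51) (kgi xgi32 ygi30 zgi51) (kgi xgi24 ygi25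 zgi61) (kgi xgi32 ygi34 zgi9) (kgi xgi30 ygi22 zgi6) (kgi xgi30 ygi22 zgi8) (kgi xgi30 ygi54 zgi9) (kgi xgi28 ygi16 zgi20) (kgi xgi29 ygi49 zgi28) (kgi xgi25 ygi33 zgi25) (kgi xgi24 ygi26 zgi8) (kgi xgi25 ygi11 zgi34) (kgi xgi28 ygi12 zgi61) (kgi xgi28 ygi44 zgi30) (kgi xgi31 ygi18 zgi55) (kgi xgi32 ygi0 zgi11) (kgi xgi31 ygi33 zgi20) (kgi xgi27 ygi0 zgi3) (kgi xgi24 ygi26 zgi22) (kgi xgi26 ygi38 zgi46) (kgi xgi32 ygi44 zgi35) (kgi xgi26 ygi33 zgi53) (kgi xgi26 ygi39 zgi46) (kgi xgi32 ygi57 zgi17) (kgi xgi24 ygi26 zgi38) (kgi xgi32 ygi36 zgi4) (kgi xgi28 ygi34 zgi5) (kgi xgi28 ygi35 zgi59) (kgi xgi31 ygi26 zgi47) (kgi xgi26 ygi33 zgi20) (kgi xgi30 ygi19 zgi27) (kgi xgi24 ygi26 zgi39) (kgi xgi32 ygi45 zgi45) (kgi xgi26 ygi46 zgi44)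 (kgi xgi32 ygi51 zgi4) (kgi xgi30 ygi29 zgi46) (kgi xgi32 ygi51 zgi0) (kgi xgi30 ygi39 zgi25) (kgi xgi26 ygi41 zgi48) (kgi xgi30 ygi39 zgi33) (kgi xgi25 ygi33 zgi21) (kgi xgi31 ygi46 zgi41) (kgi xgi24 ygi26 zgi58) (kgi xgi24 ygi27 zgi0)) (@D3.rec (fun _ => Pt) (kgi xgi30 ygi45 zgi24) (kgi xgi28 ygi8 zgi9) (kgi xgi24 ygi26 zgi61) (kgi xgi31 ygi46 zgi43) (kgi xgi27 ygi24 zgi19) (kgi xgi30 ygi49 zgi35) (kgi xgi29 ygi23 zgi24) (kgi xgi32 ygi57 zgi20) (kgi xgi28 ygi22 zgi56) (kgi xgi28 ygi34 zgi55) (kgi xgi32 ygi21 zgi52) (kgi xgi24 ygi27 zgi23) (kgi xgi24 ygi27 zgi21) (kgi xgi31 ygi47 zgi50) (kgi xgi28 ygi53 zgi51) (kgi xgi31 ygi51 zgi23) (kgi xgi28 ygi45 zgi16) (kgi xgi28 ygi30 zgi56) (kgi xgi25 ygi38 zgi46) (kgi xgi31 ygi57 zgi13) (kgi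 xgi31 ygi57 zgi11) (kgi xgi28 ygi44 zgi60) (kgi xgi24 ygi31 zgi59) (kgi xgi26 ygi33 zgi55) (kgi xgi31 ygi37 zgi34) (kgi xgi28 ygi46 zgi44) (kgi xgi31 ygi26 zgi39) (kgi xgi24 ygi27 zgi45) (kgi xgi32 ygi45 zgi60) (kgi xgi32 ygi57 zgi21) (kgi xgi30 ygi8 zgi2) (kgi xgi27 ygi8 zgi43) (kgi xgi28 ygi40 zgi1) (kgi xgi31 ygi33 zgi23) (kgi xgi30 ygi36 zgi51) (kgi xgi28 ygi50 zgi55) (kgi xgi30 ygi5 zgi32) (kgi xgi26 ygi20 zgi21) (kgi xgi30 ygi44 zgi40) (kgi xgi29 ygi20 zgi57) (kgi xgi27 ygi39 zgi61) (kgi xgi24 ygi29 zgi9) (kgi xgi31 ygi18 zgi32) (kgi xgi31 ygi30 zgi10) (kgi xgi30 ygi24 zgi0) (kgi xgi28 ygi29 zgi23) (kgi xgi26 ygi19 zgi20) (kgi xgi29 ygi21 zgi4) (kgi xgi27 ygi57 zgi46) (kgi xgi26 ygi11 zgi59) (kgi xgi32 ygi57 zgi22) (kgi xgi28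 ygi43 zgi43) (kgi xgi24 ygi31 zgi34) (kgi xgi28 ygi44 zgi0) (kgi xgi32 ygi5 zgi56) (kgi xgi25 ygi1 zgi47) (kgi xgi28 ygi15 zgi34) (kgi xgi32 ygi7 zgi24) (kgi xgi30 ygi35 zgi53) (kgi xgi32 ygi56 zgi9) (kgi xgi27 ygi29 zgi59) (kgi xgi29 ygi54 zgi5)) (@D3.rec (fun _ => Pt) (kgi xgi29 ygi22 zgi16) (kgi xgi24 ygi29 zgi42) (kgi xgi27 ygi0 zgi26) (kgi xgi32 ygi45 zgi40) (kgi xgi31 ygi31 zgi7) (kgi xgi32 ygi38 zgi29) (kgi xgi32 ygi22 zgi13) (kgi xgi30 ygi28 zgi16) (kgi xgi32 ygi18 zgi24) (kgi xgi29 ygi45 zgi40) (kgi xgi28 ygi24 zgi11) (kgi xgi32 ygi20 zgi37) (kgi xgi31 ygi13 zgi55) (kgi xgi32 ygi33 zgi18) (kgi xgi32 ygi14 zgi11) (kgi xgi31 ygi12 zgi29) (kgi xgi24 ygi30 zgi11) (kgi xgi29 ygi37 zgi55) (kgi xgi30 ygi48 zgi61) (kgi xgi29 ygi33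 zgi61) (kgi xgi26 ygi57 zgi9) (kgi xgi31 ygi15 zgi21) (kgi xgi32 ygi48 zgi35) (kgi xgi31 ygi31 zgi57) (kgi xgi30 ygi22 zgi24) (kgi xgi31 ygi23 zgi22) (kgi xgi28 ygi24 zgi8) (kgi xgi31 ygi23 zgi1) (kgi xgi28 ygi55 zgi48) (kgi xgi24 ygi30 zgi14) (kgi xgi32 ygi56 zgi43) (kgi xgi28 ygi53 zgi13) (kgi xgi30 ygi25 zgi19) (kgi xgi32 ygi52 zgi23) (kgi xgi30 ygi15 zgi46) (kgi xgi24 ygi30 zgi22) (kgi xgi26 ygi27 zgi48) (kgi xgi32 ygi45 zgi11) (kgi xgi29 ygi45 zgi48) (kgi xgi32 ygi37 zgi39) (kgi xgi31 ygi17 zgi47) (kgi xgi31 ygi2 zgi51) (kgi xgi24 ygi30 zgi45) (kgi xgi30 ygi26 zgi51) (kgi xgi31 ygi1 zgi58) (kgi xgi26 ygi45 zgi55) (kgi xgi29 ygi6 zgi7) (kgi xgi28 ygi12 zgi12) (kgi xgi29 ygi29 zgi45) (kgi xgi25 ygi59 zgi47) (kgi xgi28 ygi13 zgi3)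 (kgi xgi25 ygi54 zgi52) (kgi xgi29 ygi14 zgi34) (kgi xgi24 ygi31 zgi38) (kgi xgi24 ygi31 zgi35) (kgi xgi30 ygi59 zgi43) (kgi xgi30 ygi58 zgi46) (kgi xgi28 ygi41 zgi3) (kgi xgi32 ygi5 zgi53) (kgi xgi28 ygi41 zgi1) (kgi xgi31 ygi0 zgi2) (kgi xgi32 ygi25 zgi7)) (@D3.rec (fun _ => Pt) (kgi xgi32 ygi5 zgi31) (kgi xgi26 ygi30 zgi1) (kgi xgi32 ygi5 zgi36) (kgi xgi27 ygi29 zgi58) (kgi xgi30 ygi48 zgi24) (kgi xgi32 ygi54 zgi29) (kgi xgi32 ygi5 zgi10) (kgi xgi32 ygi12 zgi14) (kgi xgi26 ygi8 zgi17) (kgi xgi29 ygi43 zgi19) (kgi xgi28 ygi40 zgi29) (kgi xgi32 ygi12 zgi20) (kgi xgi29 ygi46 zgi11) (kgi xgi31 ygi17 zgi24) (kgi xgi24 ygi34 zgi18) (kgi xgi31 ygi30 zgi35) (kgi xgi27 ygi24 zgi60) (kgi xgi31 ygi54 zgi30) (kgi xgi29 ygi59 zgi60) (kgi xgi29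 ygi3 zgi44) (kgi xgi26 ygi11 zgi5) (kgi xgi29 ygi27 zgi26) (kgi xgi32 ygi17 zgi53) (kgi xgi24 ygi50 zgi18) (kgi xgi29 ygi15 zgi11) (kgi xgi28 ygi36 zgi60) (kgi xgi31 ygi11 zgi59) (kgi xgi24 ygi33 zgi24) (kgi xgi32 ygi17 zgi54) (kgi xgi24 ygi33 zgi25) (kgi xgi29 ygi31 zgi29) (kgi xgi31 ygi35 zgi51) (kgi xgi24 ygi33 zgi39) (kgi xgi31 ygi34 zgi13) (kgi xgi32 ygi42 zgi60) (kgi xgi32 ygi5 zgi20) (kgi xgi32 ygi39 zgi11) (kgi xgi25 ygi17 zgi38) (kgi xgi25 ygi25 zgi23) (kgi xgi32 ygi18 zgi50) (kgi xgi32 ygi15 zgi48) (kgi xgi31 ygi41 zgi50) (kgi xgi26 ygi34 zgi24) (kgi xgi30 ygi48 zgi3) (kgi xgi27 ygi12 zgi50) (kgi xgi24 ygi34 zgi21) (kgi xgi31 ygi34 zgi40) (kgi xgi29 ygi53 zgi28) (kgi xgi31 ygi7 zgi20) (kgi xgi24 ygi34 zgi55) (kgi xgi30 ygi14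 zgi15) (kgi xgi30 ygi46 zgi15) (kgi xgi26 ygi11 zgi3) (kgi xgi24 ygi34 zgi61) (kgi xgi24 ygi35 zgi0) (kgi xgi31 ygi19 zgi47) (kgi xgi26 ygi36 zgi5) (kgi xgi24 ygi35 zgi13) (kgi xgi29 ygi33 zgi39) (kgi xgi26 ygi36 zgi14) (kgi xgi26 ygi33 zgi12) (kgi xgi29 ygi33 zgi55)) (@D3.rec (fun _ => Pt) (kgi xgi24 ygi35 zgi18) (kgi xgi25 ygi8 zgi58) (kgi xgi32 ygi33 zgi34) (kgi xgi29 ygi31 zgi30) (kgi xgi26 ygi36 zgi31) (kgi xgi29 ygi48 zgi49) (kgi xgi31 ygi35 zgi38) (kgi xgi26 ygi7 zgi61) (kgi xgi25 ygi6 zgi9) (kgi xgi25 ygi6 zgi13) (kgi xgi29 ygi7 zgi13) (kgi xgi24 ygi37 zgi39) (kgi xgi24 ygi35 zgi46) (kgi xgi24 ygi38 zgi23) (kgi xgi24 ygi37 zgi5) (kgi xgi26 ygi8 zgi12) (kgi xgi32 ygi15 zgi56) (kgi xgi24 ygi37 zgi25) (kgi xgi29 ygi42 zgi54)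 (kgi xgi28 ygi48 zgi27) (kgi xgi29 ygi18 zgi4) (kgi xgi27 ygi27 zgi54) (kgi xgi30 ygi35 zgi16) (kgi xgi27 ygi25 zgi44) (kgi xgi24 ygi36 zgi18) (kgi xgi24 ygi36 zgi20) (kgi xgi25 ygi40 zgi33) (kgi xgi26 ygi43 zgi53) (kgi xgi26 ygi49 zgi32) (kgi xgi26 ygi50 zgi4) (kgi xgi32 ygi21 zgi36) (kgi xgi30 ygi54 zgi61) (kgi xgi29 ygi17 zgi44) (kgi xgi32 ygi46 zgi61) (kgi xgi31 ygi35 zgi6) (kgi xgi31 ygi20 zgi55) (kgi xgi24 ygi36 zgi39) (kgi xgi24 ygi37 zgi27) (kgi xgi29 ygi16 zgi46) (kgi xgi29 ygi4 zgi43) (kgi xgi30 ygi6 zgi33) (kgi xgi24 ygi36 zgi60) (kgi xgi30 ygi9 zgi47) (kgi xgi25 ygi50 zgi50) (kgi xgi27 ygi48 zgi37) (kgi xgi25 ygi6 zgi4) (kgi xgi25 ygi35 zgi55) (kgi xgi27 ygi18 zgi55) (kgi xgi28 ygi54 zgi19) (kgi xgi24 ygi37 zgi7) (kgi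 xgi28 ygi54 zgi18) (kgi xgi31 ygi29 zgi1) (kgi xgi24 ygi37 zgi11) (kgi xgi31 ygi36 zgi19) (kgi xgi32 ygi50 zgi34) (kgi xgi31 ygi4 zgi7) (kgi xgi24 ygi37 zgi13) (kgi xgi31 ygi36 zgi14) (kgi xgi31 ygi36 zgi12) (kgi xgi31 ygi11 zgi39) (kgi xgi27 ygi15 zgi15) (kgi xgi29 ygi16 zgi12)) (@D3.rec (fun _ => Pt) (kgi xgi25 ygi13 zgi30) (kgi xgi25 ygi55 zgi41) (kgi xgi24 ygi37 zgi24) (kgi xgi25 ygi30 zgi6) (kgi xgi24 ygi37 zgi30) (kgi xgi28 ygi39 zgi22) (kgi xgi29 ygi41 zgi53) (kgi xgi24 ygi37 zgi41) (kgi xgi24 ygi41 zgi61) (kgi xgi25 ygi14 zgi58) (kgi xgi32 ygi42 zgi53) (kgi xgi29 ygi9 zgi44) (kgi xgi24 ygi37 zgi61) (kgi xgi31 ygi35 zgi58) (kgi xgi31 ygi35 zgi56) (kgi xgi30 ygi7 zgi53) (kgi xgi31 ygi47 zgi24) (kgi xgi25 ygi13 zgi17) (kgi xgi31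 ygi4 zgi44) (kgi xgi24 ygi38 zgi4) (kgi xgi31 ygi35 zgi53) (kgi xgi31 ygi35 zgi52) (kgi xgi26 ygi3 zgi21) (kgi xgi27 ygi44 zgi55) (kgi xgi24 ygi38 zgi19) (kgi xgi32 ygi4 zgi38) (kgi xgi30 ygi4 zgi56) (kgi xgi24 ygi38 zgi22) (kgi xgi25 ygi59 zgi60) (kgi xgi31 ygi48 zgi46) (kgi xgi31 ygi29 zgi37) (kgi xgi31 ygi50 zgi51) (kgi xgi32 ygi22 zgi39) (kgi xgi29 ygi10 zgi26) (kgi xgi31 ygi28 zgi49) (kgi xgi32 ygi53 zgi14) (kgi xgi31 ygi22 zgi48) (kgi xgi27 ygi12 zgi56) (kgi xgi27 ygi9 zgi32) (kgi xgi31 ygi53 zgi61) (kgi xgi28 ygi11 zgi15) (kgi xgi31 ygi27 zgi18) (kgi xgi29 ygi3 zgi26) (kgi xgi25 ygi11 zgi37) (kgi xgi29 ygi34 zgi36) (kgi xgi28 ygi42 zgi27) (kgi xgi30 ygi26 zgi9) (kgi xgi31 ygi13 zgi0) (kgi xgi31 ygi53 zgi39) (kgi xgi27 ygi17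 zgi16) (kgi xgi28 ygi34 zgi35) (kgi xgi24 ygi39 zgi53) (kgi xgi29 ygi7 zgi44) (kgi xgi25 ygi22 zgi3) (kgi xgi24 ygi50 zgi59) (kgi xgi29 ygi23 zgi47) (kgi xgi27 ygi29 zgi33) (kgi xgi31 ygi40 zgi57) (kgi xgi31 ygi20 zgi43) (kgi xgi30 ygi53 zgi54) (kgi xgi31 ygi40 zgi55) (kgi xgi30 ygi41 zgi39)) (@D3.rec (fun _ => Pt) (kgi xgi31 ygi5 zgi15) (kgi xgi31 ygi5 zgi25) (kgi xgi32 ygi54 zgi12) (kgi xgi28 ygi52 zgi53) (kgi xgi30 ygi6 zgi49) (kgi xgi32 ygi21 zgi59) (kgi xgi24 ygi40 zgi12) (kgi xgi27 ygi42 zgi23) (kgi xgi27 ygi26 zgi16) (kgi xgi27 ygi58 zgi13) (kgi xgi32 ygi4 zgi36) (kgi xgi29 ygi6 zgi24) (kgi xgi24 ygi40 zgi28) (kgi xgi28 ygi43 zgi26) (kgi xgi32 ygi31 zgi57) (kgi xgi24 ygi40 zgi38) (kgi xgi30 ygi36 zgi56) (kgi xgi24 ygi40 zgi46)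 (kgi xgi24 ygi40 zgi61) (kgi xgi27 ygi25 zgi46) (kgi xgi27 ygi25 zgi43) (kgi xgi27 ygi48 zgi30) (kgi xgi30 ygi6 zgi21) (kgi xgi31 ygi21 zgi39) (kgi xgi27 ygi20 zgi46) (kgi xgi27 ygi26 zgi55) (kgi xgi31 ygi37 zgi36) (kgi xgi31 ygi37 zgi60) (kgi xgi31 ygi26 zgi36) (kgi xgi24 ygi41 zgi46) (kgi xgi32 ygi42 zgi13) (kgi xgi31 ygi1 zgi43) (kgi xgi30 ygi30 zgi49) (kgi xgi25 ygi15 zgi26) (kgi xgi31 ygi29 zgi33) (kgi xgi24 ygi42 zgi60) (kgi xgi27 ygi23 zgi9) (kgi xgi28 ygi28 zgi42) (kgi xgi27 ygi41 zgi0) (kgi xgi30 ygi10 zgi24) (kgi xgi28 ygi28 zgi40) (kgi xgi31 ygi11 zgi0) (kgi xgi24 ygi42 zgi13) (kgi xgi28 ygi28 zgi47) (kgi xgi31 ygi1 zgi42) (kgi xgi26 ygi47 zgi59) (kgi xgi24 ygi42 zgi28) (kgi xgi32 ygi4 zgi39) (kgi xgi31 ygi10 zgi29) (kgi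 xgi31 ygi10 zgi24) (kgi xgi31 ygi36 zgi9) (kgi xgi24 ygi42 zgi40) (kgi xgi24 ygi42 zgi47) (kgi xgi30 ygi15 zgi2) (kgi xgi25 ygi4 zgi9) (kgi xgi29 ygi52 zgi4) (kgi xgi31 ygi38 zgi25) (kgi xgi31 ygi38 zgi20) (kgi xgi31 ygi6 zgi2) (kgi xgi25 ygi57 zgi28) (kgi xgi24 ygi43 zgi29) (kgi xgi31 ygi37 zgi27)) (@D3.rec (fun _ => Pt) (kgi xgi30 ygi4 zgi51) (kgi xgi28 ygi27 zgi24) (kgi xgi32 ygi27 zgi50) (kgi xgi24 ygi43 zgi46) (kgi xgi28 ygi27 zgi29) (kgi xgi28 ygi57 zgi35) (kgi xgi29 ygi12 zgi20) (kgi xgi30 ygi45 zgi2) (kgi xgi31 ygi15 zgi3) (kgi xgi32 ygi32 zgi58) (kgi xgi30 ygi21 zgi31) (kgi xgi27 ygi25 zgi20) (kgi xgi27 ygi28 zgi33) (kgi xgi32 ygi24 zgi50) (kgi xgi29 ygi56 zgi18) (kgi xgi24 ygi44 zgi50) (kgi xgi28 ygi7 zgi26) (kgi xgi27 ygi52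 zgi31) (kgi xgi26 ygi13 zgi40) (kgi xgi27 ygi36 zgi17) (kgi xgi31 ygi37 zgi56) (kgi xgi26 ygi15 zgi6) (kgi xgi31 ygi50 zgi19) (kgi xgi30 ygi8 zgi50) (kgi xgi26 ygi20 zgi46) (kgi xgi31 ygi37 zgi57) (kgi xgi26 ygi15 zgi17) (kgi xgi26 ygi15 zgi2) (kgi xgi26 ygi20 zgi47) (kgi xgi26 ygi15 zgi20) (kgi xgi32 ygi27 zgi36) (kgi xgi27 ygi27 zgi29) (kgi xgi27 ygi27 zgi32) (kgi xgi31 ygi14 zgi48) (kgi xgi24 ygi45 zgi49) (kgi xgi31 ygi53 zgi25) (kgi xgi31 ygi54 zgi50) (kgi xgi24 ygi55 zgi51) (kgi xgi25 ygi36 zgi19) (kgi xgi26 ygi8 zgi59) (kgi xgi29 ygi34 zgi47) (kgi xgi31 ygi27 zgi44) (kgi xgi26 ygi17 zgi55) (kgi xgi29 ygi28 zgi36) (kgi xgi25 ygi27 zgi42) (kgi xgi24 ygi54 zgi8) (kgi xgi26 ygi18 zgi53) (kgi xgi28 ygi14 zgi45) (kgi xgi28 ygi18 zgi55)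 (kgi xgi32 ygi37 zgi0) (kgi xgi32 ygi33 zgi44) (kgi xgi28 ygi28 zgi17) (kgi xgi28 ygi57 zgi14) (kgi xgi28 ygi50 zgi41) (kgi xgi28 ygi48 zgi45) (kgi xgi28 ygi49 zgi12) (kgi xgi24 ygi46 zgi23) (kgi xgi30 ygi28 zgi6) (kgi xgi30 ygi28 zgi7) (kgi xgi29 ygi49 zgi25) (kgi xgi28 ygi0 zgi55) (kgi xgi30 ygi20 zgi18)) (@D3.rec (fun _ => Pt) (kgi xgi26 ygi13 zgi30) (kgi xgi27 ygi53 zgi11) (kgi xgi32 ygi5 zgi45) (kgi xgi30 ygi58 zgi61) (kgi xgi30 ygi57 zgi23) (kgi xgi32 ygi17 zgi17) (kgi xgi26 ygi52 zgi50) (kgi xgi25 ygi32 zgi26) (kgi xgi30 ygi44 zgi28) (kgi xgi32 ygi43 zgi60) (kgi xgi32 ygi43 zgi20) (kgi xgi32 ygi7 zgi30) (kgi xgi27 ygi33 zgi29) (kgi xgi25 ygi31 zgi45) (kgi xgi30 ygi47 zgi37) (kgi xgi28 ygi8 zgi56) (kgi xgi27 ygi47 zgi49) (kgi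 xgi27 ygi55 zgi35) (kgi xgi26 ygi23 zgi14) (kgi xgi28 ygi4 zgi59) (kgi xgi24 ygi48 zgi4) (kgi xgi31 ygi15 zgi32) (kgi xgi27 ygi39 zgi59) (kgi xgi26 ygi52 zgi37) (kgi xgi31 ygi53 zgi52) (kgi xgi28 ygi15 zgi35) (kgi xgi32 ygi24 zgi19) (kgi xgi32 ygi25 zgi48) (kgi xgi31 ygi53 zgi50) (kgi xgi31 ygi25 zgi20) (kgi xgi32 ygi32 zgi26) (kgi xgi32 ygi31 zgi22) (kgi xgi28 ygi22 zgi34) (kgi xgi24 ygi48 zgi29) (kgi xgi28 ygi22 zgi57) (kgi xgi32 ygi25 zgi40) (kgi xgi26 ygi6 zgi13) (kgi xgi29 ygi41 zgi36) (kgi xgi26 ygi53 zgi41) (kgi xgi24 ygi48 zgi38) (kgi xgi31 ygi28 zgi19) (kgi xgi31 ygi51 zgi2) (kgi xgi24 ygi48 zgi41) (kgi xgi24 ygi50 zgi27) (kgi xgi32 ygi27 zgi8) (kgi xgi24 ygi48 zgi45) (kgi xgi27 ygi4 zgi14) (kgi xgi24 ygi51 zgi28) (kgi xgi25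 ygi4 zgi34) (kgi xgi32 ygi23 zgi30) (kgi xgi31 ygi51 zgi59) (kgi xgi25 ygi4 zgi40) (kgi xgi31 ygi21 zgi22) (kgi xgi32 ygi3 zgi23) (kgi xgi25 ygi4 zgi48) (kgi xgi31 ygi51 zgi47) (kgi xgi27 ygi12 zgi8) (kgi xgi28 ygi39 zgi60) (kgi xgi28 ygi40 zgi0) (kgi xgi28 ygi35 zgi7) (kgi xgi31 ygi56 zgi51) (kgi xgi25 ygi29 zgi5)) (@D3.rec (fun _ => Pt) (kgi xgi32 ygi2 zgi15) (kgi xgi24 ygi49 zgi19) (kgi xgi26 ygi6 zgi22) (kgi xgi32 ygi57 zgi31) (kgi xgi31 ygi47 zgi44) (kgi xgi25 ygi18 zgi4) (kgi xgi24 ygi50 zgi9) (kgi xgi28 ygi49 zgi7) (kgi xgi29 ygi5 zgi52) (kgi xgi31 ygi50 zgi48) (kgi xgi31 ygi40 zgi43) (kgi xgi24 ygi49 zgi29) (kgi xgi32 ygi57 zgi41) (kgi xgi32 ygi52 zgi30) (kgi xgi32 ygi57 zgi40) (kgi xgi32 ygi57 zgi44) (kgi xgi24 ygi49 zgi31)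 (kgi xgi29 ygi45 zgi44) (kgi xgi25 ygi21 zgi4) (kgi xgi29 ygi13 zgi41) (kgi xgi32 ygi11 zgi53) (kgi xgi24 ygi49 zgi36) (kgi xgi31 ygi51 zgi15) (kgi xgi31 ygi39 zgi49) (kgi xgi24 ygi49 zgi37) (kgi xgi28 ygi51 zgi31) (kgi xgi32 ygi5 zgi19) (kgi xgi24 ygi49 zgi40) (kgi xgi25 ygi20 zgi51) (kgi xgi26 ygi6 zgi10) (kgi xgi24 ygi49 zgi46) (kgi xgi24 ygi49 zgi43) (kgi xgi32 ygi27 zgi18) (kgi xgi29 ygi27 zgi29) (kgi xgi32 ygi11 zgi0) (kgi xgi29 ygi27 zgi27) (kgi xgi32 ygi5 zgi17) (kgi xgi31 ygi50 zgi16) (kgi xgi29 ygi14 zgi15) (kgi xgi28 ygi36 zgi45) (kgi xgi28 ygi58 zgi44) (kgi xgi26 ygi41 zgi47) (kgi xgi30 ygi27 zgi11) (kgi xgi31 ygi40 zgi14) (kgi xgi31 ygi51 zgi9) (kgi xgi31 ygi47 zgi52) (kgi xgi25 ygi22 zgi31) (kgi xgi24 ygi50 zgi14) (kgi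 xgi31 ygi43 zgi48) (kgi xgi25 ygi22 zgi22) (kgi xgi26 ygi37 zgi39) (kgi xgi32 ygi11 zgi3) (kgi xgi29 ygi47 zgi34) (kgi xgi29 ygi14 zgi25) (kgi xgi32 ygi13 zgi8) (kgi xgi31 ygi36 zgi57) (kgi xgi32 ygi43 zgi24) (kgi xgi31 ygi36 zgi60) (kgi xgi25 ygi37 zgi24) (kgi xgi31 ygi22 zgi1) (kgi xgi25 ygi22 zgi6) (kgi xgi24 ygi50 zgi23)) (@D3.rec (fun _ => Pt) (kgi xgi31 ygi48 zgi49) (kgi xgi32 ygi49 zgi38) (kgi xgi25 ygi9 zgi29) (kgi xgi30 ygi16 zgi39) (kgi xgi29 ygi23 zgi38) (kgi xgi28 ygi57 zgi30) (kgi xgi25 ygi47 zgi41) (kgi xgi31 ygi51 zgi21) (kgi xgi24 ygi50 zgi33) (kgi xgi31 ygi51 zgi20) (kgi xgi31 ygi51 zgi35) (kgi xgi27 ygi37 zgi5) (kgi xgi29 ygi11 zgi18) (kgi xgi32 ygi40 zgi50) (kgi xgi29 ygi11 zgi13) (kgi xgi31 ygi41 zgi38) (kgi xgi31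 ygi39 zgi56) (kgi xgi27 ygi38 zgi17) (kgi xgi31 ygi50 zgi41) (kgi xgi25 ygi19 zgi31) (kgi xgi31 ygi40 zgi56) (kgi xgi31 ygi21 zgi9) (kgi xgi31 ygi56 zgi57) (kgi xgi24 ygi51 zgi21) (kgi xgi26 ygi37 zgi8) (kgi xgi25 ygi12 zgi61) (kgi xgi28 ygi37 zgi0) (kgi xgi26 ygi3 zgi18) (kgi xgi31 ygi52 zgi49) (kgi xgi25 ygi19 zgi42) (kgi xgi32 ygi16 zgi23) (kgi xgi31 ygi41 zgi15) (kgi xgi24 ygi51 zgi42) (kgi xgi31 ygi24 zgi0) (kgi xgi24 ygi51 zgi39) (kgi xgi31 ygi50 zgi55) (kgi xgi32 ygi4 zgi28) (kgi xgi24 ygi51 zgi38) (kgi xgi29 ygi0 zgi56) (kgi xgi32 ygi3 zgi33) (kgi xgi31 ygi21 zgi34) (kgi xgi29 ygi2 zgi19) (kgi xgi31 ygi24 zgi21) (kgi xgi29 ygi57 zgi24) (kgi xgi24 ygi51 zgi44) (kgi xgi30 ygi14 zgi28) (kgi xgi31 ygi40 zgi54) (kgi xgi24 ygi51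 zgi57) (kgi xgi26 ygi38 zgi42) (kgi xgi29 ygi37 zgi33) (kgi xgi24 ygi51 zgi59) (kgi xgi24 ygi52 zgi7) (kgi xgi29 ygi5 zgi61) (kgi xgi31 ygi41 zgi16) (kgi xgi31 ygi47 zgi48) (kgi xgi29 ygi43 zgi39) (kgi xgi31 ygi41 zgi5) (kgi xgi31 ygi18 zgi25) (kgi xgi27 ygi25 zgi12) (kgi xgi31 ygi57 zgi24) (kgi xgi30 ygi52 zgi53) (kgi xgi28 ygi43 zgi53)) (@D3.rec (fun _ => Pt) (kgi xgi26 ygi22 zgi14) (kgi xgi26 ygi54 zgi14) (kgi xgi29 ygi27 zgi12) (kgi xgi30 ygi51 zgi2) (kgi xgi26 ygi55 zgi44) (kgi xgi31 ygi29 zgi46) (kgi xgi24 ygi53 zgi45) (kgi xgi29 ygi54 zgi10) (kgi xgi26 ygi20 zgi57) (kgi xgi31 ygi46 zgi12) (kgi xgi32 ygi42 zgi21) (kgi xgi28 ygi28 zgi39) (kgi xgi32 ygi41 zgi58) (kgi xgi24 ygi53 zgi52) (kgi xgi29 ygi5 zgi8) (kgi xgi31 ygi27 zgi49)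 (kgi xgi29 ygi18 zgi35) (kgi xgi24 ygi53 zgi54) (kgi xgi25 ygi54 zgi58) (kgi xgi24 ygi53 zgi61) (kgi xgi24 ygi54 zgi2) (kgi xgi26 ygi21 zgi10) (kgi xgi26 ygi15 zgi19) (kgi xgi27 ygi56 zgi8) (kgi xgi32 ygi26 zgi49) (kgi xgi32 ygi7 zgi54) (kgi xgi30 ygi42 zgi42) (kgi xgi32 ygi8 zgi24) (kgi xgi27 ygi39 zgi14) (kgi xgi32 ygi19 zgi57) (kgi xgi24 ygi54 zgi24) (kgi xgi24 ygi54 zgi26) (kgi xgi32 ygi30 zgi11) (kgi xgi25 ygi2 zgi3) (kgi xgi29 ygi30 zgi58) (kgi xgi24 ygi54 zgi32) (kgi xgi27 ygi39 zgi41) (kgi xgi31 ygi0 zgi24) (kgi xgi24 ygi54 zgi55) (kgi xgi24 ygi55 zgi2) (kgi xgi32 ygi6 zgi43) (kgi xgi28 ygi25 zgi42) (kgi xgi26 ygi18 zgi51) (kgi xgi26 ygi18 zgi2) (kgi xgi30 ygi4 zgi25) (kgi xgi28 ygi6 zgi47) (kgi xgi31 ygi42 zgi6) (kgi xgi29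 ygi19 zgi45) (kgi xgi24 ygi55 zgi5) (kgi xgi24 ygi55 zgi6) (kgi xgi27 ygi40 zgi5) (kgi xgi26 ygi19 zgi2) (kgi xgi26 ygi30 zgi39) (kgi xgi32 ygi6 zgi26) (kgi xgi27 ygi55 zgi17) (kgi xgi32 ygi7 zgi61) (kgi xgi32 ygi7 zgi59) (kgi xgi24 ygi55 zgi17) (kgi xgi27 ygi27 zgi15) (kgi xgi31 ygi43 zgi0) (kgi xgi27 ygi27 zgi9) (kgi xgi26 ygi14 zgi12)) (@D3.rec (fun _ => Pt) (kgi xgi27 ygi28 zgi17) (kgi xgi31 ygi42 zgi59) (kgi xgi24 ygi57 zgi2) (kgi xgi30 ygi54 zgi7) (kgi xgi25 ygi15 zgi51) (kgi xgi24 ygi55 zgi49) (kgi xgi24 ygi55 zgi54) (kgi xgi26 ygi17 zgi52) (kgi xgi25 ygi2 zgi20) (kgi xgi26 ygi16 zgi30) (kgi xgi24 ygi55 zgi60) (kgi xgi27 ygi24 zgi49) (kgi xgi29 ygi38 zgi34) (kgi xgi27 ygi38 zgi46) (kgi xgi32 ygi31 zgi40) (kgi xgi28 ygi27 zgi30)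 (kgi xgi32 ygi7 zgi31) (kgi xgi24 ygi57 zgi11) (kgi xgi24 ygi56 zgi52) (kgi xgi29 ygi34 zgi40) (kgi xgi27 ygi41 zgi55) (kgi xgi31 ygi2 zgi37) (kgi xgi28 ygi51 zgi2) (kgi xgi28 ygi34 zgi37) (kgi xgi24 ygi57 zgi14) (kgi xgi29 ygi19 zgi59) (kgi xgi32 ygi44 zgi26) (kgi xgi30 ygi57 zgi3) (kgi xgi29 ygi3 zgi12) (kgi xgi30 ygi11 zgi33) (kgi xgi26 ygi22 zgi17) (kgi xgi31 ygi39 zgi8) (kgi xgi27 ygi31 zgi12) (kgi xgi31 ygi42 zgi35) (kgi xgi29 ygi31 zgi41) (kgi xgi32 ygi27 zgi31) (kgi xgi26 ygi18 zgi37) (kgi xgi29 ygi50 zgi50) (kgi xgi29 ygi12 zgi41) (kgi xgi32 ygi0 zgi2) (kgi xgi32 ygi44 zgi50) (kgi xgi24 ygi57 zgi59) (kgi xgi25 ygi6 zgi59) (kgi xgi24 ygi57 zgi60) (kgi xgi25 ygi6 zgi46) (kgi xgi25 ygi21 zgi27) (kgi xgi25 ygi23 zgi31) (kgi xgi25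 ygi50 zgi17) (kgi xgi29 ygi6 zgi51) (kgi xgi31 ygi59 zgi7) (kgi xgi26 ygi33 zgi60) (kgi xgi32 ygi3 zgi58) (kgi xgi24 ygi58 zgi21) (kgi xgi26 ygi33 zgi56) (kgi xgi32 ygi28 zgi28) (kgi xgi25 ygi9 zgi33) (kgi xgi28 ygi59 zgi32) (kgi xgi32 ygi0 zgi17) (kgi xgi24 ygi58 zgi52) (kgi xgi28 ygi2 zgi16) (kgi xgi25 ygi1 zgi59) (kgi xgi27 ygi20 zgi10)) (@D3.rec (fun _ => Pt) (kgi xgi27 ygi27 zgi46) (kgi xgi32 ygi25 zgi10) (kgi xgi25 ygi3 zgi5) (kgi xgi29 ygi18 zgi59) (kgi xgi27 ygi48 zgi48) (kgi xgi29 ygi28 zgi40) (kgi xgi26 ygi24 zgi56) (kgi xgi24 ygi59 zgi31) (kgi xgi28 ygi20 zgi43) (kgi xgi31 ygi42 zgi33) (kgi xgi32 ygi38 zgi20) (kgi xgi30 ygi57 zgi28) (kgi xgi30 ygi46 zgi60) (kgi xgi30 ygi57 zgi55) (kgi xgi26 ygi29 zgi11) (kgi xgi25 ygi0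 zgi2) (kgi xgi26 ygi29 zgi50) (kgi xgi32 ygi49 zgi22) (kgi xgi31 ygi11 zgi45) (kgi xgi25 ygi3 zgi30) (kgi xgi31 ygi45 zgi6) (kgi xgi28 ygi3 zgi58) (kgi xgi30 ygi58 zgi16) (kgi xgi32 ygi31 zgi28) (kgi xgi27 ygi27 zgi8) (kgi xgi28 ygi2 zgi33) (kgi xgi27 ygi27 zgi44) (kgi xgi30 ygi3 zgi9) (kgi xgi32 ygi30 zgi36) (kgi xgi32 ygi6 zgi2) (kgi xgi32 ygi31 zgi20) (kgi xgi28 ygi3 zgi21) (kgi xgi31 ygi11 zgi6) (kgi xgi32 ygi28 zgi23) (kgi xgi27 ygi30 zgi48) (kgi xgi27 ygi46 zgi28) (kgi xgi25 ygi1 zgi24) (kgi xgi28 ygi4 zgi15) (kgi xgi27 ygi28 zgi8) (kgi xgi28 ygi4 zgi13) (kgi xgi27 ygi25 zgi23) (kgi xgi26 ygi14 zgi45) (kgi xgi25 ygi1 zgi39) (kgi xgi26 ygi15 zgi34) (kgi xgi27 ygi53 zgi17) (kgi xgi25 ygi1 zgi44) (kgi xgi25 ygi46 zgi29) (kgi xgi32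 ygi3 zgi41) (kgi xgi29 ygi50 zgi24) (kgi xgi28 ygi12 zgi32) (kgi xgi26 ygi28 zgi22) (kgi xgi30 ygi47 zgi5) (kgi xgi28 ygi12 zgi19) (kgi xgi27 ygi57 zgi42) (kgi xgi27 ygi58 zgi48) (kgi xgi25 ygi2 zgi4) (kgi xgi31 ygi0 zgi45) (kgi xgi27 ygi47 zgi56) (kgi xgi26 ygi48 zgi19) (kgi xgi31 ygi6 zgi25) (kgi xgi32 ygi2 zgi58) (kgi xgi31 ygi6 zgi51)) (@D3.rec (fun _ => Pt) (kgi xgi29 ygi7 zgi7) (kgi xgi25 ygi2 zgi24) (kgi xgi31 ygi37 zgi58) (kgi xgi25 ygi15 zgi53) (kgi xgi30 ygi57 zgi35) (kgi xgi31 ygi12 zgi3) (kgi xgi31 ygi44 zgi18) (kgi xgi30 ygi57 zgi48) (kgi xgi28 ygi2 zgi9) (kgi xgi27 ygi52 zgi25) (kgi xgi25 ygi3 zgi41) (kgi xgi31 ygi15 zgi6) (kgi xgi27 ygi47 zgi30) (kgi xgi27 ygi47 zgi31) (kgi xgi32 ygi29 zgi61) (kgi xgi32 ygi29 zgi15)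 (kgi xgi25 ygi3 zgi52) (kgi xgi25 ygi3 zgi55) (kgi xgi25 ygi3 zgi53) (kgi xgi25 ygi3 zgi56) (kgi xgi28 ygi9 zgi61) (kgi xgi29 ygi51 zgi19) (kgi xgi32 ygi1 zgi25) (kgi xgi25 ygi57 zgi52) (kgi xgi31 ygi0 zgi28) (kgi xgi26 ygi42 zgi7) (kgi xgi28 ygi30 zgi58) (kgi xgi30 ygi0 zgi12) (kgi xgi32 ygi22 zgi22) (kgi xgi25 ygi5 zgi14) (kgi xgi31 ygi48 zgi52) (kgi xgi31 ygi18 zgi19) (kgi xgi32 ygi29 zgi21) (kgi xgi32 ygi29 zgi56) (kgi xgi25 ygi4 zgi43) (kgi xgi28 ygi47 zgi0) (kgi xgi27 ygi43 zgi52) (kgi xgi25 ygi14 zgi24) (kgi xgi25 ygi10 zgi15) (kgi xgi25 ygi59 zgi10) (kgi xgi30 ygi6 zgi48) (kgi xgi30 ygi6 zgi51) (kgi xgi29 ygi59 zgi4) (kgi xgi32 ygi15 zgi47) (kgi xgi29 ygi5 zgi29) (kgi xgi32 ygi41 zgi13) (kgi xgi25 ygi50 zgi14) (kgi xgi25 ygi9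 zgi50) (kgi xgi31 ygi10 zgi16) (kgi xgi25 ygi5 zgi28) (kgi xgi28 ygi49 zgi28) (kgi xgi30 ygi47 zgi39) (kgi xgi25 ygi31 zgi42) (kgi xgi25 ygi5 zgi33) (kgi xgi32 ygi26 zgi9) (kgi xgi27 ygi2 zgi60) (kgi xgi25 ygi33 zgi28) (kgi xgi25 ygi11 zgi0) (kgi xgi29 ygi9 zgi29) (kgi xgi27 ygi23 zgi4) (kgi xgi32 ygi57 zgi1) (kgi xgi25 ygi6 zgi20)) (@D3.rec (fun _ => Pt) (kgi xgi25 ygi22 zgi19) (kgi xgi31 ygi48 zgi51) (kgi xgi27 ygi30 zgi6) (kgi xgi32 ygi19 zgi55) (kgi xgi28 ygi59 zgi49) (kgi xgi29 ygi5 zgi4) (kgi xgi25 ygi30 zgi47) (kgi xgi32 ygi53 zgi0) (kgi xgi25 ygi23 zgi3) (kgi xgi31 ygi4 zgi5) (kgi xgi31 ygi47 zgi25) (kgi xgi32 ygi23 zgi34) (kgi xgi25 ygi6 zgi32) (kgi xgi31 ygi42 zgi9) (kgi xgi31 ygi2 zgi3) (kgi xgi25 ygi6 zgi33) (kgi xgi32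 ygi23 zgi56) (kgi xgi32 ygi57 zgi59) (kgi xgi31 ygi35 zgi33) (kgi xgi31 ygi47 zgi13) (kgi xgi25 ygi49 zgi3) (kgi xgi29 ygi41 zgi45) (kgi xgi28 ygi21 zgi50) (kgi xgi32 ygi32 zgi36) (kgi xgi31 ygi49 zgi21) (kgi xgi27 ygi21 zgi54) (kgi xgi25 ygi6 zgi60) (kgi xgi29 ygi12 zgi51) (kgi xgi29 ygi12 zgi49) (kgi xgi25 ygi13 zgi22) (kgi xgi25 ygi55 zgi44) (kgi xgi29 ygi13 zgi0) (kgi xgi31 ygi55 zgi54) (kgi xgi25 ygi54 zgi38) (kgi xgi29 ygi20 zgi59) (kgi xgi25 ygi7 zgi29) (kgi xgi27 ygi46 zgi30) (kgi xgi25 ygi29 zgi39) (kgi xgi25 ygi7 zgi12) (kgi xgi25 ygi30 zgi1) (kgi xgi29 ygi12 zgi33) (kgi xgi31 ygi32 zgi3) (kgi xgi31 ygi32 zgi2) (kgi xgi31 ygi31 zgi59) (kgi xgi26 ygi44 zgi28) (kgi xgi27 ygi24 zgi29) (kgi xgi32 ygi21 zgi4) (kgi xgi25 ygi49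 zgi24) (kgi xgi29 ygi16 zgi20) (kgi xgi25 ygi7 zgi38) (kgi xgi31 ygi53 zgi5) (kgi xgi32 ygi1 zgi40) (kgi xgi31 ygi53 zgi2) (kgi xgi31 ygi1 zgi56) (kgi xgi26 ygi44 zgi40) (kgi xgi25 ygi8 zgi0) (kgi xgi27 ygi13 zgi54) (kgi xgi25 ygi8 zgi5) (kgi xgi29 ygi45 zgi61) (kgi xgi29 ygi45 zgi55) (kgi xgi32 ygi24 zgi4) (kgi xgi27 ygi16 zgi9)) (@D3.rec (fun _ => Pt) (kgi xgi29 ygi43 zgi25) (kgi xgi30 ygi9 zgi27) (kgi xgi25 ygi8 zgi15) (kgi xgi26 ygi36 zgi3) (kgi xgi29 ygi46 zgi17) (kgi xgi26 ygi36 zgi20) (kgi xgi28 ygi55 zgi56) (kgi xgi30 ygi55 zgi5) (kgi xgi29 ygi16 zgi40) (kgi xgi31 ygi49 zgi10) (kgi xgi32 ygi0 zgi7) (kgi xgi25 ygi8 zgi23) (kgi xgi32 ygi21 zgi38) (kgi xgi27 ygi47 zgi53) (kgi xgi29 ygi7 zgi4) (kgi xgi25 ygi13 zgi61) (kgi xgi30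 ygi55 zgi9) (kgi xgi31 ygi49 zgi3) (kgi xgi32 ygi0 zgi8) (kgi xgi31 ygi53 zgi7) (kgi xgi29 ygi16 zgi38) (kgi xgi30 ygi16 zgi50) (kgi xgi32 ygi50 zgi25) (kgi xgi25 ygi8 zgi39) (kgi xgi32 ygi0 zgi12) (kgi xgi31 ygi46 zgi8) (kgi xgi31 ygi53 zgi9) (kgi xgi25 ygi14 zgi13) (kgi xgi29 ygi15 zgi53) (kgi xgi31 ygi53 zgi1) (kgi xgi25 ygi10 zgi28) (kgi xgi26 ygi34 zgi44) (kgi xgi25 ygi8 zgi49) (kgi xgi25 ygi8 zgi55) (kgi xgi32 ygi4 zgi4) (kgi xgi32 ygi38 zgi58) (kgi xgi32 ygi22 zgi20) (kgi xgi32 ygi38 zgi48) (kgi xgi25 ygi13 zgi27) (kgi xgi25 ygi9 zgi7) (kgi xgi32 ygi3 zgi32) (kgi xgi29 ygi35 zgi57) (kgi xgi29 ygi16 zgi17) (kgi xgi31 ygi52 zgi7) (kgi xgi29 ygi0 zgi13) (kgi xgi31 ygi41 zgi54) (kgi xgi31 ygi41 zgi25) (kgi xgi29 ygi35 zgi61) (kgi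 xgi32 ygi41 zgi20) (kgi xgi25 ygi11 zgi23) (kgi xgi32 ygi41 zgi29) (kgi xgi29 ygi41 zgi22) (kgi xgi31 ygi39 zgi36) (kgi xgi25 ygi11 zgi20) (kgi xgi25 ygi11 zgi22) (kgi xgi25 ygi9 zgi37) (kgi xgi25 ygi9 zgi34) (kgi xgi31 ygi51 zgi8) (kgi xgi25 ygi30 zgi19) (kgi xgi32 ygi0 zgi4) (kgi xgi31 ygi48 zgi2) (kgi xgi25 ygi9 zgi38)) (@D3.rec (fun _ => Pt) (kgi xgi32 ygi25 zgi21) (kgi xgi32 ygi52 zgi31) (kgi xgi31 ygi56 zgi3) (kgi xgi27 ygi30 zgi11) (kgi xgi26 ygi1 zgi49) (kgi xgi32 ygi24 zgi3) (kgi xgi32 ygi13 zgi4) (kgi xgi32 ygi11 zgi25) (kgi xgi29 ygi6 zgi49) (kgi xgi29 ygi43 zgi15) (kgi xgi29 ygi41 zgi41) (kgi xgi25 ygi51 zgi10) (kgi xgi31 ygi25 zgi5) (kgi xgi25 ygi46 zgi11) (kgi xgi32 ygi18 zgi49) (kgi xgi31 ygi29 zgi9) (kgi xgi25 ygi50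 zgi34) (kgi xgi26 ygi13 zgi52) (kgi xgi32 ygi48 zgi8) (kgi xgi25 ygi10 zgi56) (kgi xgi26 ygi17 zgi6) (kgi xgi32 ygi47 zgi18) (kgi xgi25 ygi21 zgi30) (kgi xgi25 ygi11 zgi7) (kgi xgi28 ygi59 zgi52) (kgi xgi31 ygi20 zgi47) (kgi xgi29 ygi43 zgi43) (kgi xgi27 ygi23 zgi37) (kgi xgi25 ygi11 zgi11) (kgi xgi31 ygi39 zgi50) (kgi xgi25 ygi22 zgi14) (kgi xgi32 ygi41 zgi31) (kgi xgi30 ygi50 zgi26) (kgi xgi25 ygi11 zgi29) (kgi xgi25 ygi11 zgi30) (kgi xgi29 ygi25 zgi49) (kgi xgi31 ygi25 zgi61) (kgi xgi32 ygi41 zgi26) (kgi xgi30 ygi45 zgi20) (kgi xgi25 ygi50 zgi35) (kgi xgi31 ygi50 zgi32) (kgi xgi25 ygi11 zgi41) (kgi xgi26 ygi29 zgi40) (kgi xgi25 ygi11 zgi46) (kgi xgi32 ygi0 zgi16) (kgi xgi31 ygi46 zgi1) (kgi xgi25 ygi12 zgi2) (kgi xgi25 ygi49 zgi28)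 (kgi xgi29 ygi56 zgi26) (kgi xgi29 ygi4 zgi0) (kgi xgi30 ygi46 zgi59) (kgi xgi29 ygi17 zgi49) (kgi xgi31 ygi45 zgi47) (kgi xgi25 ygi22 zgi56) (kgi xgi25 ygi12 zgi42) (kgi xgi31 ygi31 zgi40) (kgi xgi29 ygi26 zgi30) (kgi xgi31 ygi47 zgi10) (kgi xgi29 ygi6 zgi59) (kgi xgi30 ygi18 zgi44) (kgi xgi31 ygi20 zgi27) (kgi xgi29 ygi28 zgi25)) (@D3.rec (fun _ => Pt) (kgi xgi31 ygi47 zgi9) (kgi xgi30 ygi46 zgi52) (kgi xgi30 ygi11 zgi12) (kgi xgi31 ygi46 zgi16) (kgi xgi25 ygi13 zgi19) (kgi xgi25 ygi28 zgi26) (kgi xgi29 ygi57 zgi19) (kgi xgi25 ygi13 zgi34) (kgi xgi25 ygi55 zgi45) (kgi xgi30 ygi16 zgi47) (kgi xgi31 ygi54 zgi11) (kgi xgi25 ygi13 zgi52) (kgi xgi25 ygi13 zgi56) (kgi xgi25 ygi49 zgi2) (kgi xgi25 ygi13 zgi53) (kgi xgi26 ygi46 zgi47) (kgi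 xgi31 ygi46 zgi21) (kgi xgi28 ygi42 zgi25) (kgi xgi25 ygi13 zgi55) (kgi xgi30 ygi33 zgi5) (kgi xgi30 ygi33 zgi6) (kgi xgi26 ygi29 zgi7) (kgi xgi27 ygi30 zgi21) (kgi xgi29 ygi11 zgi29) (kgi xgi25 ygi14 zgi6) (kgi xgi31 ygi31 zgi28) (kgi xgi31 ygi46 zgi9) (kgi xgi31 ygi4 zgi0) (kgi xgi31 ygi46 zgi11) (kgi xgi32 ygi55 zgi18) (kgi xgi31 ygi55 zgi5) (kgi xgi31 ygi10 zgi56) (kgi xgi29 ygi16 zgi15) (kgi xgi30 ygi6 zgi34) (kgi xgi32 ygi55 zgi50) (kgi xgi32 ygi5 zgi7) (kgi xgi30 ygi0 zgi21) (kgi xgi31 ygi2 zgi22) (kgi xgi25 ygi14 zgi35) (kgi xgi32 ygi42 zgi32) (kgi xgi27 ygi5 zgi0) (kgi xgi29 ygi14 zgi3) (kgi xgi32 ygi55 zgi45) (kgi xgi31 ygi9 zgi23) (kgi xgi32 ygi36 zgi55) (kgi xgi32 ygi43 zgi49) (kgi xgi31 ygi16 zgi54) (kgi xgi29 ygi16 zgi30)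 (kgi xgi29 ygi47 zgi53) (kgi xgi29 ygi37 zgi17) (kgi xgi29 ygi16 zgi25) (kgi xgi30 ygi41 zgi55) (kgi xgi25 ygi15 zgi5) (kgi xgi32 ygi33 zgi49) (kgi xgi26 ygi5 zgi5) (kgi xgi29 ygi17 zgi12) (kgi xgi27 ygi46 zgi52) (kgi xgi27 ygi46 zgi54) (kgi xgi27 ygi39 zgi11) (kgi xgi25 ygi51 zgi7) (kgi xgi27 ygi46 zgi47) (kgi xgi27 ygi27 zgi43)) (@D3.rec (fun _ => Pt) (kgi xgi27 ygi28 zgi11) (kgi xgi29 ygi29 zgi53) (kgi xgi32 ygi7 zgi22) (kgi xgi27 ygi37 zgi50) (kgi xgi28 ygi41 zgi30) (kgi xgi25 ygi25 zgi43) (kgi xgi31 ygi50 zgi4) (kgi xgi25 ygi17 zgi1) (kgi xgi31 ygi59 zgi13) (kgi xgi29 ygi29 zgi15) (kgi xgi25 ygi31 zgi0) (kgi xgi29 ygi48 zgi19) (kgi xgi26 ygi21 zgi52) (kgi xgi25 ygi21 zgi5) (kgi xgi32 ygi38 zgi34) (kgi xgi26 ygi53 zgi25) (kgi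 xgi31 ygi34 zgi42) (kgi xgi32 ygi47 zgi1) (kgi xgi29 ygi12 zgi61) (kgi xgi26 ygi14 zgi4) (kgi xgi27 ygi24 zgi21) (kgi xgi29 ygi16 zgi1) (kgi xgi29 ygi16 zgi13) (kgi xgi25 ygi58 zgi33) (kgi xgi25 ygi18 zgi25) (kgi xgi29 ygi29 zgi3) (kgi xgi30 ygi49 zgi6) (kgi xgi28 ygi56 zgi10) (kgi xgi31 ygi6 zgi45) (kgi xgi31 ygi55 zgi53) (kgi xgi25 ygi18 zgi39) (kgi xgi26 ygi45 zgi9) (kgi xgi32 ygi0 zgi35) (kgi xgi26 ygi56 zgi2) (kgi xgi28 ygi44 zgi14) (kgi xgi28 ygi48 zgi50) (kgi xgi30 ygi12 zgi25) (kgi xgi27 ygi1 zgi28) (kgi xgi27 ygi29 zgi27) (kgi xgi25 ygi20 zgi1) (kgi xgi25 ygi20 zgi25) (kgi xgi32 ygi2 zgi17) (kgi xgi25 ygi19 zgi15) (kgi xgi32 ygi2 zgi9) (kgi xgi32 ygi20 zgi42) (kgi xgi32 ygi51 zgi44) (kgi xgi25 ygi20 zgi55) (kgi xgi25 ygi20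 zgi48) (kgi xgi31 ygi40 zgi7) (kgi xgi26 ygi6 zgi8) (kgi xgi29 ygi24 zgi48) (kgi xgi32 ygi51 zgi48) (kgi xgi31 ygi41 zgi35) (kgi xgi25 ygi19 zgi30) (kgi xgi31 ygi20 zgi49) (kgi xgi32 ygi32 zgi8) (kgi xgi31 ygi41 zgi20) (kgi xgi32 ygi10 zgi60) (kgi xgi26 ygi59 zgi34) (kgi xgi25 ygi19 zgi50) (kgi xgi29 ygi17 zgi61) (kgi xgi25 ygi19 zgi53)) (@D3.rec (fun _ => Pt) (kgi xgi26 ygi35 zgi29) (kgi xgi31 ygi52 zgi17) (kgi xgi31 ygi40 zgi60) (kgi xgi32 ygi40 zgi53) (kgi xgi29 ygi35 zgi55) (kgi xgi28 ygi55 zgi18) (kgi xgi30 ygi7 zgi49) (kgi xgi25 ygi50 zgi33) (kgi xgi31 ygi47 zgi56) (kgi xgi31 ygi40 zgi6) (kgi xgi25 ygi22 zgi17) (kgi xgi31 ygi21 zgi29) (kgi xgi31 ygi40 zgi20) (kgi xgi25 ygi20 zgi27) (kgi xgi29 ygi13 zgi20) (kgi xgi31 ygi40 zgi21)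 (kgi xgi29 ygi13 zgi33) (kgi xgi25 ygi53 zgi3) (kgi xgi25 ygi21 zgi9) (kgi xgi32 ygi39 zgi4) (kgi xgi31 ygi41 zgi8) (kgi xgi25 ygi20 zgi41) (kgi xgi31 ygi41 zgi7) (kgi xgi31 ygi32 zgi10) (kgi xgi25 ygi20 zgi52) (kgi xgi32 ygi56 zgi12) (kgi xgi25 ygi20 zgi49) (kgi xgi26 ygi54 zgi25) (kgi xgi32 ygi56 zgi36) (kgi xgi28 ygi49 zgi58) (kgi xgi32 ygi4 zgi19) (kgi xgi32 ygi56 zgi32) (kgi xgi32 ygi33 zgi60) (kgi xgi32 ygi32 zgi60) (kgi xgi30 ygi34 zgi27) (kgi xgi25 ygi20 zgi54) (kgi xgi31 ygi41 zgi10) (kgi xgi30 ygi18 zgi10) (kgi xgi32 ygi56 zgi34) (kgi xgi31 ygi56 zgi54) (kgi xgi32 ygi58 zgi14) (kgi xgi25 ygi20 zgi57) (kgi xgi32 ygi58 zgi9) (kgi xgi30 ygi39 zgi26) (kgi xgi32 ygi57 zgi46) (kgi xgi32 ygi51 zgi46) (kgi xgi31 ygi41 zgi13) (kgi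 xgi30 ygi0 zgi5) (kgi xgi32 ygi50 zgi12) (kgi xgi32 ygi57 zgi49) (kgi xgi31 ygi52 zgi27) (kgi xgi32 ygi56 zgi13) (kgi xgi31 ygi16 zgi20) (kgi xgi26 ygi6 zgi18) (kgi xgi32 ygi56 zgi45) (kgi xgi29 ygi27 zgi20) (kgi xgi31 ygi39 zgi37) (kgi xgi25 ygi21 zgi13) (kgi xgi29 ygi14 zgi21) (kgi xgi29 ygi2 zgi39) (kgi xgi25 ygi21 zgi17) (kgi xgi32 ygi27 zgi20)) (@D3.rec (fun _ => Pt) (kgi xgi27 ygi37 zgi4) (kgi xgi25 ygi37 zgi37) (kgi xgi30 ygi27 zgi1) (kgi xgi29 ygi14 zgi20) (kgi xgi32 ygi56 zgi41) (kgi xgi32 ygi43 zgi29) (kgi xgi25 ygi21 zgi34) (kgi xgi32 ygi58 zgi20) (kgi xgi25 ygi21 zgi31) (kgi xgi32 ygi3 zgi45) (kgi xgi32 ygi4 zgi21) (kgi xgi31 ygi21 zgi15) (kgi xgi32 ygi57 zgi51) (kgi xgi25 ygi21 zgi33) (kgi xgi32 ygi58 zgi21) (kgi xgi27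 ygi7 zgi25) (kgi xgi31 ygi47 zgi43) (kgi xgi29 ygi2 zgi41) (kgi xgi25 ygi21 zgi53) (kgi xgi32 ygi39 zgi47) (kgi xgi32 ygi39 zgi13) (kgi xgi31 ygi52 zgi58) (kgi xgi25 ygi21 zgi39) (kgi xgi32 ygi38 zgi0) (kgi xgi32 ygi10 zgi59) (kgi xgi30 ygi21 zgi34) (kgi xgi29 ygi39 zgi31) (kgi xgi31 ygi40 zgi17) (kgi xgi32 ygi55 zgi9) (kgi xgi26 ygi34 zgi23) (kgi xgi32 ygi33 zgi37) (kgi xgi29 ygi36 zgi18) (kgi xgi26 ygi37 zgi40) (kgi xgi25 ygi21 zgi46) (kgi xgi32 ygi36 zgi40) (kgi xgi29 ygi27 zgi16) (kgi xgi32 ygi11 zgi2) (kgi xgi32 ygi17 zgi60) (kgi xgi32 ygi52 zgi37) (kgi xgi30 ygi16 zgi52) (kgi xgi25 ygi21 zgi55) (kgi xgi31 ygi19 zgi60) (kgi xgi27 ygi17 zgi35) (kgi xgi28 ygi55 zgi20) (kgi xgi32 ygi22 zgi40) (kgi xgi31 ygi20 zgi51) (kgi xgi27 ygi44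 zgi6) (kgi xgi31 ygi26 zgi53) (kgi xgi31 ygi41 zgi42) (kgi xgi30 ygi19 zgi25) (kgi xgi29 ygi13 zgi28) (kgi xgi29 ygi6 zgi53) (kgi xgi32 ygi10 zgi58) (kgi xgi27 ygi43 zgi5) (kgi xgi30 ygi12 zgi24) (kgi xgi25 ygi36 zgi46) (kgi xgi31 ygi27 zgi25) (kgi xgi26 ygi37 zgi23) (kgi xgi31 ygi52 zgi19) (kgi xgi32 ygi36 zgi42) (kgi xgi31 ygi41 zgi30) (kgi xgi31 ygi23 zgi56)) (@D3.rec (fun _ => Pt) (kgi xgi31 ygi47 zgi29) (kgi xgi32 ygi23 zgi43) (kgi xgi25 ygi22 zgi61) (kgi xgi31 ygi46 zgi52) (kgi xgi32 ygi56 zgi53) (kgi xgi31 ygi46 zgi49) (kgi xgi29 ygi15 zgi43) (kgi xgi31 ygi47 zgi22) (kgi xgi29 ygi15 zgi44) (kgi xgi32 ygi43 zgi26) (kgi xgi26 ygi8 zgi19) (kgi xgi32 ygi16 zgi7) (kgi xgi32 ygi49 zgi32) (kgi xgi32 ygi40 zgi51) (kgi xgi32 ygi58 zgi12)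 (kgi xgi28 ygi55 zgi30) (kgi xgi28 ygi55 zgi32) (kgi xgi26 ygi54 zgi27) (kgi xgi32 ygi40 zgi31) (kgi xgi25 ygi23 zgi41) (kgi xgi31 ygi56 zgi29) (kgi xgi25 ygi24 zgi5) (kgi xgi32 ygi32 zgi53) (kgi xgi27 ygi3 zgi6) (kgi xgi25 ygi24 zgi10) (kgi xgi31 ygi38 zgi38) (kgi xgi26 ygi59 zgi55) (kgi xgi29 ygi4 zgi13) (kgi xgi31 ygi53 zgi40) (kgi xgi25 ygi24 zgi29) (kgi xgi25 ygi24 zgi52) (kgi xgi30 ygi55 zgi20) (kgi xgi30 ygi14 zgi18) (kgi xgi28 ygi34 zgi6) (kgi xgi31 ygi25 zgi49) (kgi xgi28 ygi24 zgi1) (kgi xgi25 ygi25 zgi10) (kgi xgi27 ygi14 zgi40) (kgi xgi29 ygi45 zgi60) (kgi xgi31 ygi24 zgi18) (kgi xgi28 ygi15 zgi37) (kgi xgi30 ygi11 zgi31) (kgi xgi28 ygi21 zgi22) (kgi xgi28 ygi18 zgi26) (kgi xgi31 ygi53 zgi24) (kgi xgi26 ygi41 zgi55) (kgi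 xgi25 ygi26 zgi1) (kgi xgi28 ygi5 zgi41) (kgi xgi31 ygi39 zgi28) (kgi xgi27 ygi2 zgi54) (kgi xgi30 ygi48 zgi6) (kgi xgi28 ygi4 zgi47) (kgi xgi29 ygi27 zgi43) (kgi xgi32 ygi9 zgi42) (kgi xgi25 ygi26 zgi25) (kgi xgi31 ygi54 zgi4) (kgi xgi31 ygi58 zgi4) (kgi xgi32 ygi28 zgi44) (kgi xgi28 ygi16 zgi52) (kgi xgi25 ygi26 zgi29) (kgi xgi29 ygi24 zgi60) (kgi xgi31 ygi54 zgi52)) (@D3.rec (fun _ => Pt) (kgi xgi25 ygi26 zgi37) (kgi xgi28 ygi21 zgi54) (kgi xgi32 ygi44 zgi22) (kgi xgi25 ygi26 zgi46) (kgi xgi31 ygi53 zgi54) (kgi xgi25 ygi27 zgi1) (kgi xgi30 ygi1 zgi36) (kgi xgi25 ygi30 zgi39) (kgi xgi27 ygi27 zgi3) (kgi xgi25 ygi29 zgi47) (kgi xgi29 ygi4 zgi50) (kgi xgi31 ygi49 zgi0) (kgi xgi25 ygi33 zgi44) (kgi xgi25 ygi33 zgi7) (kgi xgi25 ygi27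 zgi41) (kgi xgi25 ygi28 zgi29) (kgi xgi31 ygi57 zgi9) (kgi xgi25 ygi34 zgi48) (kgi xgi30 ygi55 zgi45) (kgi xgi25 ygi28 zgi32) (kgi xgi25 ygi28 zgi23) (kgi xgi32 ygi1 zgi32) (kgi xgi32 ygi58 zgi33) (kgi xgi29 ygi4 zgi45) (kgi xgi30 ygi46 zgi23) (kgi xgi31 ygi27 zgi19) (kgi xgi29 ygi4 zgi20) (kgi xgi25 ygi36 zgi20) (kgi xgi26 ygi1 zgi43) (kgi xgi31 ygi38 zgi12) (kgi xgi32 ygi19 zgi47) (kgi xgi32 ygi24 zgi25) (kgi xgi32 ygi28 zgi54) (kgi xgi31 ygi25 zgi44) (kgi xgi25 ygi32 zgi1) (kgi xgi31 ygi10 zgi25) (kgi xgi30 ygi7 zgi61) (kgi xgi31 ygi49 zgi1) (kgi xgi27 ygi10 zgi60) (kgi xgi25 ygi32 zgi61) (kgi xgi27 ygi28 zgi16) (kgi xgi30 ygi16 zgi40) (kgi xgi25 ygi49 zgi53) (kgi xgi25 ygi29 zgi53) (kgi xgi28 ygi58 zgi24) (kgi xgi28 ygi58 zgi25)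 (kgi xgi25 ygi29 zgi59) (kgi xgi25 ygi30 zgi9) (kgi xgi32 ygi54 zgi8) (kgi xgi29 ygi56 zgi50) (kgi xgi26 ygi24 zgi47) (kgi xgi27 ygi15 zgi55) (kgi xgi26 ygi45 zgi14) (kgi xgi31 ygi38 zgi59) (kgi xgi25 ygi30 zgi8) (kgi xgi32 ygi42 zgi35) (kgi xgi32 ygi54 zgi7) (kgi xgi32 ygi43 zgi45) (kgi xgi25 ygi30 zgi34) (kgi xgi25 ygi30 zgi24) (kgi xgi32 ygi23 zgi45) (kgi xgi29 ygi51 zgi44)) (@D3.rec (fun _ => Pt) (kgi xgi27 ygi24 zgi34) (kgi xgi31 ygi58 zgi43) (kgi xgi31 ygi57 zgi5) (kgi xgi26 ygi36 zgi52) (kgi xgi30 ygi10 zgi55) (kgi xgi31 ygi49 zgi30) (kgi xgi25 ygi30 zgi41) (kgi xgi29 ygi59 zgi24) (kgi xgi32 ygi50 zgi8) (kgi xgi25 ygi30 zgi56) (kgi xgi26 ygi16 zgi49) (kgi xgi32 ygi8 zgi34) (kgi xgi25 ygi30 zgi51) (kgi xgi28 ygi16 zgi8) (kgi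 xgi27 ygi5 zgi60) (kgi xgi28 ygi7 zgi23) (kgi xgi29 ygi32 zgi45) (kgi xgi32 ygi29 zgi53) (kgi xgi32 ygi56 zgi1) (kgi xgi25 ygi54 zgi41) (kgi xgi31 ygi17 zgi34) (kgi xgi31 ygi45 zgi50) (kgi xgi31 ygi24 zgi45) (kgi xgi25 ygi32 zgi13) (kgi xgi25 ygi32 zgi16) (kgi xgi25 ygi31 zgi57) (kgi xgi25 ygi31 zgi60) (kgi xgi27 ygi16 zgi27) (kgi xgi27 ygi16 zgi19) (kgi xgi31 ygi19 zgi37) (kgi xgi28 ygi57 zgi60) (kgi xgi28 ygi58 zgi2) (kgi xgi25 ygi55 zgi37) (kgi xgi32 ygi57 zgi28) (kgi xgi28 ygi30 zgi31) (kgi xgi32 ygi22 zgi16) (kgi xgi25 ygi32 zgi24) (kgi xgi31 ygi24 zgi49) (kgi xgi32 ygi43 zgi22) (kgi xgi27 ygi16 zgi16) (kgi xgi25 ygi32 zgi28) (kgi xgi32 ygi56 zgi47) (kgi xgi32 ygi1 zgi8) (kgi xgi32 ygi53 zgi43) (kgi xgi30 ygi29 zgi7) (kgi xgi32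 ygi39 zgi6) (kgi xgi32 ygi11 zgi39) (kgi xgi32 ygi41 zgi47) (kgi xgi25 ygi32 zgi45) (kgi xgi27 ygi29 zgi55) (kgi xgi30 ygi14 zgi36) (kgi xgi27 ygi56 zgi6) (kgi xgi28 ygi59 zgi34) (kgi xgi25 ygi33 zgi23) (kgi xgi30 ygi53 zgi26) (kgi xgi27 ygi27 zgi36) (kgi xgi25 ygi36 zgi49) (kgi xgi25 ygi35 zgi33) (kgi xgi29 ygi36 zgi0) (kgi xgi27 ygi42 zgi27) (kgi xgi31 ygi48 zgi21) (kgi xgi29 ygi44 zgi47)) (@D3.rec (fun _ => Pt) (kgi xgi25 ygi33 zgi31) (kgi xgi27 ygi7 zgi37) (kgi xgi29 ygi0 zgi50) (kgi xgi27 ygi30 zgi7) (kgi xgi25 ygi33 zgi40) (kgi xgi28 ygi57 zgi27) (kgi xgi28 ygi6 zgi10) (kgi xgi25 ygi34 zgi8) (kgi xgi30 ygi6 zgi46) (kgi xgi25 ygi34 zgi18) (kgi xgi32 ygi31 zgi38) (kgi xgi32 ygi8 zgi32) (kgi xgi31 ygi27 zgi32) (kgi xgi32 ygi55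 zgi2) (kgi xgi26 ygi0 zgi39) (kgi xgi32 ygi44 zgi53) (kgi xgi32 ygi2 zgi33) (kgi xgi32 ygi39 zgi33) (kgi xgi25 ygi35 zgi24) (kgi xgi30 ygi23 zgi51) (kgi xgi28 ygi50 zgi44) (kgi xgi25 ygi57 zgi3) (kgi xgi25 ygi36 zgi45) (kgi xgi29 ygi47 zgi50) (kgi xgi29 ygi57 zgi8) (kgi xgi25 ygi35 zgi51) (kgi xgi26 ygi45 zgi24) (kgi xgi30 ygi47 zgi49) (kgi xgi25 ygi36 zgi5) (kgi xgi32 ygi15 zgi15) (kgi xgi28 ygi57 zgi6) (kgi xgi30 ygi47 zgi45) (kgi xgi30 ygi9 zgi42) (kgi xgi31 ygi58 zgi7) (kgi xgi25 ygi36 zgi18) (kgi xgi32 ygi7 zgi43) (kgi xgi25 ygi36 zgi28) (kgi xgi26 ygi6 zgi28) (kgi xgi28 ygi44 zgi61) (kgi xgi26 ygi34 zgi0) (kgi xgi31 ygi59 zgi1) (kgi xgi31 ygi59 zgi0) (kgi xgi31 ygi41 zgi59) (kgi xgi32 ygi55 zgi41) (kgi xgi31 ygi10 zgi12) (kgi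 xgi25 ygi37 zgi13) (kgi xgi25 ygi38 zgi54) (kgi xgi30 ygi42 zgi15) (kgi xgi30 ygi52 zgi20) (kgi xgi31 ygi39 zgi60) (kgi xgi31 ygi5 zgi3) (kgi xgi29 ygi13 zgi53) (kgi xgi32 ygi21 zgi8) (kgi xgi29 ygi2 zgi50) (kgi xgi28 ygi45 zgi14) (kgi xgi29 ygi6 zgi18) (kgi xgi31 ygi41 zgi36) (kgi xgi26 ygi6 zgi15) (kgi xgi25 ygi37 zgi35) (kgi xgi32 ygi46 zgi12) (kgi xgi26 ygi54 zgi38) (kgi xgi29 ygi14 zgi22)) (@D3.rec (fun _ => Pt) (kgi xgi32 ygi36 zgi37) (kgi xgi32 ygi51 zgi26) (kgi xgi32 ygi46 zgi4) (kgi xgi28 ygi58 zgi41) (kgi xgi31 ygi5 zgi17) (kgi xgi32 ygi55 zgi24) (kgi xgi30 ygi10 zgi41) (kgi xgi28 ygi34 zgi42) (kgi xgi25 ygi38 zgi4) (kgi xgi31 ygi54 zgi15) (kgi xgi30 ygi10 zgi42) (kgi xgi31 ygi32 zgi18) (kgi xgi27 ygi24 zgi32) (kgi xgi25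 ygi38 zgi11) (kgi xgi25 ygi38 zgi47) (kgi xgi30 ygi16 zgi60) (kgi xgi32 ygi4 zgi33) (kgi xgi25 ygi38 zgi32) (kgi xgi31 ygi58 zgi20) (kgi xgi25 ygi38 zgi35) (kgi xgi25 ygi40 zgi6) (kgi xgi25 ygi38 zgi45) (kgi xgi25 ygi38 zgi49) (kgi xgi32 ygi16 zgi12) (kgi xgi32 ygi55 zgi6) (kgi xgi29 ygi10 zgi60) (kgi xgi26 ygi58 zgi29) (kgi xgi26 ygi45 zgi61) (kgi xgi30 ygi4 zgi50) (kgi xgi25 ygi38 zgi53) (kgi xgi30 ygi41 zgi2) (kgi xgi29 ygi58 zgi21) (kgi xgi31 ygi58 zgi36) (kgi xgi25 ygi38 zgi60) (kgi xgi31 ygi58 zgi46) (kgi xgi32 ygi27 zgi41) (kgi xgi29 ygi10 zgi51) (kgi xgi32 ygi32 zgi39) (kgi xgi30 ygi13 zgi47) (kgi xgi30 ygi20 zgi13) (kgi xgi30 ygi0 zgi34) (kgi xgi31 ygi58 zgi8) (kgi xgi25 ygi39 zgi5) (kgi xgi25 ygi39 zgi8) (kgi xgi25 ygi39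 zgi6) (kgi xgi32 ygi26 zgi60) (kgi xgi30 ygi52 zgi19) (kgi xgi28 ygi47 zgi13) (kgi xgi30 ygi4 zgi3) (kgi xgi32 ygi30 zgi46) (kgi xgi31 ygi1 zgi44) (kgi xgi31 ygi4 zgi61) (kgi xgi28 ygi4 zgi6) (kgi xgi25 ygi39 zgi24) (kgi xgi26 ygi16 zgi28) (kgi xgi31 ygi50 zgi0) (kgi xgi30 ygi27 zgi17) (kgi xgi31 ygi59 zgi37) (kgi xgi25 ygi58 zgi13) (kgi xgi30 ygi18 zgi15) (kgi xgi31 ygi3 zgi57) (kgi xgi31 ygi9 zgi45)) (@D3.rec (fun _ => Pt) (kgi xgi31 ygi10 zgi43) (kgi xgi31 ygi10 zgi41) (kgi xgi29 ygi6 zgi38) (kgi xgi31 ygi10 zgi15) (kgi xgi27 ygi18 zgi28) (kgi xgi31 ygi56 zgi33) (kgi xgi30 ygi52 zgi18) (kgi xgi32 ygi35 zgi6) (kgi xgi25 ygi40 zgi15) (kgi xgi32 ygi49 zgi49) (kgi xgi25 ygi40 zgi25) (kgi xgi28 ygi37 zgi19) (kgi xgi28 ygi37 zgi18) (kgi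 xgi32 ygi8 zgi16) (kgi xgi28 ygi5 zgi19) (kgi xgi26 ygi42 zgi47) (kgi xgi30 ygi49 zgi20) (kgi xgi25 ygi42 zgi29) (kgi xgi30 ygi2 zgi9) (kgi xgi31 ygi3 zgi29) (kgi xgi25 ygi41 zgi29) (kgi xgi32 ygi49 zgi14) (kgi xgi31 ygi57 zgi17) (kgi xgi25 ygi41 zgi31) (kgi xgi25 ygi41 zgi38) (kgi xgi30 ygi14 zgi27) (kgi xgi29 ygi57 zgi36) (kgi xgi29 ygi28 zgi4) (kgi xgi25 ygi42 zgi3) (kgi xgi27 ygi37 zgi19) (kgi xgi27 ygi37 zgi20) (kgi xgi30 ygi59 zgi30) (kgi xgi25 ygi42 zgi25) (kgi xgi25 ygi58 zgi25) (kgi xgi32 ygi44 zgi19) (kgi xgi31 ygi57 zgi31) (kgi xgi25 ygi42 zgi50) (kgi xgi28 ygi49 zgi35) (kgi xgi30 ygi2 zgi10) (kgi xgi31 ygi11 zgi27) (kgi xgi29 ygi26 zgi49) (kgi xgi31 ygi9 zgi58) (kgi xgi31 ygi57 zgi32) (kgi xgi30 ygi4 zgi45) (kgi xgi31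 ygi1 zgi12) (kgi xgi31 ygi7 zgi57) (kgi xgi31 ygi57 zgi33) (kgi xgi28 ygi36 zgi23) (kgi xgi32 ygi43 zgi18) (kgi xgi32 ygi57 zgi5) (kgi xgi30 ygi59 zgi22) (kgi xgi26 ygi10 zgi55) (kgi xgi27 ygi2 zgi7) (kgi xgi25 ygi43 zgi24) (kgi xgi28 ygi20 zgi28) (kgi xgi27 ygi3 zgi10) (kgi xgi32 ygi1 zgi10) (kgi xgi25 ygi43 zgi54) (kgi xgi25 ygi59 zgi13) (kgi xgi30 ygi56 zgi17) (kgi xgi25 ygi43 zgi55) (kgi xgi31 ygi27 zgi13)) (@D3.rec (fun _ => Pt) (kgi xgi31 ygi56 zgi40) (kgi xgi31 ygi56 zgi41) (kgi xgi26 ygi1 zgi13) (kgi xgi32 ygi57 zgi57) (kgi xgi32 ygi4 zgi59) (kgi xgi25 ygi44 zgi16) (kgi xgi25 ygi55 zgi10) (kgi xgi31 ygi48 zgi13) (kgi xgi26 ygi44 zgi44) (kgi xgi27 ygi22 zgi32) (kgi xgi27 ygi27 zgi38) (kgi xgi26 ygi41 zgi29) (kgi xgi27 ygi35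 zgi13) (kgi xgi28 ygi9 zgi53) (kgi xgi27 ygi27 zgi37) (kgi xgi27 ygi39 zgi44) (kgi xgi27 ygi25 zgi52) (kgi xgi25 ygi46 zgi0) (kgi xgi28 ygi45 zgi39) (kgi xgi27 ygi52 zgi18) (kgi xgi27 ygi1 zgi23) (kgi xgi27 ygi1 zgi16) (kgi xgi29 ygi22 zgi5) (kgi xgi31 ygi0 zgi50) (kgi xgi30 ygi24 zgi3) (kgi xgi26 ygi27 zgi45) (kgi xgi31 ygi41 zgi61) (kgi xgi25 ygi46 zgi34) (kgi xgi25 ygi46 zgi37) (kgi xgi31 ygi12 zgi20) (kgi xgi27 ygi26 zgi9) (kgi xgi32 ygi34 zgi58) (kgi xgi32 ygi26 zgi28) (kgi xgi31 ygi20 zgi32) (kgi xgi29 ygi37 zgi20) (kgi xgi25 ygi47 zgi5) (kgi xgi25 ygi51 zgi36) (kgi xgi30 ygi6 zgi26) (kgi xgi28 ygi38 zgi35) (kgi xgi25 ygi50 zgi47) (kgi xgi32 ygi28 zgi2) (kgi xgi25 ygi52 zgi44) (kgi xgi25 ygi47 zgi34) (kgi xgi28 ygi47 zgi26)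 (kgi xgi26 ygi25 zgi47) (kgi xgi30 ygi24 zgi46) (kgi xgi32 ygi35 zgi46) (kgi xgi25 ygi47 zgi54) (kgi xgi29 ygi20 zgi48) (kgi xgi25 ygi48 zgi10) (kgi xgi25 ygi54 zgi36) (kgi xgi27 ygi16 zgi49) (kgi xgi25 ygi58 zgi37) (kgi xgi32 ygi1 zgi58) (kgi xgi30 ygi56 zgi27) (kgi xgi25 ygi56 zgi40) (kgi xgi26 ygi43 zgi31) (kgi xgi28 ygi11 zgi16) (kgi xgi30 ygi8 zgi35) (kgi xgi30 ygi24 zgi28) (kgi xgi26 ygi20 zgi30) (kgi xgi25 ygi48 zgi48))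
def fi_g_32 : D2 → D3 → Pt := @D2.rec (fun _ => D3 → Pt) (@D3.rec (fun _ => Pt) (kgi xgi25 ygi55 zgi52) (kgi xgi31 ygi59 zgi53) (kgi xgi31 ygi43 zgi44) (kgi xgi29 ygi53 zgi49) (kgi xgi32 ygi48 zgi37) (kgi xgi31 ygi59 zgi52) (kgi xgi31 ygi56 zgi4) (kgi xgi25 ygi57 zgi18) (kgi xgi31 ygi31 zgi33) (kgi xgi25 ygi49 zgi19) (kgi xgi29 ygi56 zgi52) (kgi xgi31 ygi47 zgi18) (kgi xgi31 ygi9 zgi10) (kgi xgi32 ygi0 zgi23) (kgi xgi26 ygi41 zgi35) (kgi xgi29 ygi10 zgi2) (kgi xgi26 ygi42 zgi26) (kgi xgi25 ygi49 zgi61) (kgi xgi31 ygi23 zgi40) (kgi xgi28 ygi34 zgi9) (kgi xgi28 ygi58 zgi54) (kgi xgi25 ygi50 zgi16) (kgi xgi27 ygi21 zgi30) (kgi xgi28 ygi41 zgi60) (kgi xgi32 ygi48 zgi10) (kgi xgi28 ygi36 zgi24) (kgi xgi29 ygi16 zgi0) (kgi xgi25 ygi50 zgi29)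 (kgi xgi26 ygi57 zgi10) (kgi xgi25 ygi50 zgi30) (kgi xgi31 ygi28 zgi4) (kgi xgi28 ygi7 zgi25) (kgi xgi32 ygi48 zgi34) (kgi xgi29 ygi37 zgi27) (kgi xgi30 ygi26 zgi35) (kgi xgi27 ygi3 zgi15) (kgi xgi31 ygi28 zgi1) (kgi xgi30 ygi8 zgi6) (kgi xgi29 ygi17 zgi22) (kgi xgi25 ygi51 zgi4) (kgi xgi30 ygi0 zgi13) (kgi xgi30 ygi8 zgi7) (kgi xgi32 ygi44 zgi29) (kgi xgi29 ygi28 zgi17) (kgi xgi31 ygi35 zgi35) (kgi xgi25 ygi51 zgi15) (kgi xgi32 ygi38 zgi40) (kgi xgi25 ygi51 zgi25) (kgi xgi30 ygi56 zgi47) (kgi xgi26 ygi44 zgi55) (kgi xgi31 ygi55 zgi27) (kgi xgi28 ygi48 zgi51) (kgi xgi32 ygi56 zgi24) (kgi xgi26 ygi35 zgi14) (kgi xgi27 ygi56 zgi44) (kgi xgi31 ygi31 zgi46) (kgi xgi27 ygi19 zgi27) (kgi xgi32 ygi12 zgi55) (kgi xgi32 ygi40 zgi0) (kgi xgi29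 ygi48 zgi23) (kgi xgi28 ygi42 zgi36) (kgi xgi29 ygi37 zgi50)) (@D3.rec (fun _ => Pt) (kgi xgi27 ygi17 zgi9) (kgi xgi32 ygi40 zgi22) (kgi xgi32 ygi14 zgi43) (kgi xgi28 ygi33 zgi52) (kgi xgi32 ygi43 zgi41) (kgi xgi31 ygi21 zgi20) (kgi xgi32 ygi52 zgi0) (kgi xgi31 ygi52 zgi18) (kgi xgi31 ygi55 zgi39) (kgi xgi32 ygi17 zgi4) (kgi xgi30 ygi36 zgi43) (kgi xgi29 ygi30 zgi45) (kgi xgi32 ygi22 zgi21) (kgi xgi29 ygi32 zgi0) (kgi xgi29 ygi31 zgi55) (kgi xgi32 ygi22 zgi10) (kgi xgi25 ygi53 zgi50) (kgi xgi30 ygi53 zgi38) (kgi xgi32 ygi44 zgi14) (kgi xgi26 ygi11 zgi26) (kgi xgi25 ygi54 zgi37) (kgi xgi29 ygi59 zgi13) (kgi xgi30 ygi54 zgi52) (kgi xgi31 ygi3 zgi56) (kgi xgi25 ygi54 zgi11) (kgi xgi32 ygi48 zgi24) (kgi xgi25 ygi54 zgi14) (kgi xgi30 ygi7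 zgi16) (kgi xgi25 ygi54 zgi34) (kgi xgi25 ygi58 zgi57) (kgi xgi30 ygi53 zgi33) (kgi xgi30 ygi34 zgi55) (kgi xgi31 ygi42 zgi18) (kgi xgi25 ygi54 zgi26) (kgi xgi27 ygi53 zgi15) (kgi xgi25 ygi59 zgi7) (kgi xgi25 ygi54 zgi40) (kgi xgi32 ygi10 zgi19) (kgi xgi32 ygi57 zgi58) (kgi xgi32 ygi42 zgi23) (kgi xgi32 ygi58 zgi28) (kgi xgi32 ygi0 zgi5) (kgi xgi32 ygi29 zgi36) (kgi xgi30 ygi47 zgi59) (kgi xgi29 ygi28 zgi43) (kgi xgi27 ygi49 zgi53) (kgi xgi31 ygi42 zgi17) (kgi xgi25 ygi59 zgi46) (kgi xgi32 ygi2 zgi47) (kgi xgi25 ygi55 zgi8) (kgi xgi25 ygi56 zgi26) (kgi xgi31 ygi13 zgi22) (kgi xgi25 ygi56 zgi31) (kgi xgi31 ygi0 zgi27) (kgi xgi29 ygi25 zgi32) (kgi xgi32 ygi46 zgi59) (kgi xgi27 ygi9 zgi55) (kgi xgi28 ygi49 zgi29) (kgi xgi29 ygi20 zgi46)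 (kgi xgi28 ygi32 zgi4) (kgi xgi29 ygi37 zgi19) (kgi xgi27 ygi6 zgi17)) (@D3.rec (fun _ => Pt) (kgi xgi29 ygi16 zgi32) (kgi xgi25 ygi56 zgi3) (kgi xgi26 ygi38 zgi26) (kgi xgi32 ygi57 zgi12) (kgi xgi32 ygi38 zgi46) (kgi xgi30 ygi49 zgi27) (kgi xgi29 ygi19 zgi12) (kgi xgi29 ygi42 zgi5) (kgi xgi28 ygi38 zgi13) (kgi xgi31 ygi50 zgi42) (kgi xgi28 ygi23 zgi6) (kgi xgi31 ygi15 zgi53) (kgi xgi30 ygi32 zgi61) (kgi xgi32 ygi22 zgi36) (kgi xgi32 ygi58 zgi26) (kgi xgi31 ygi41 zgi3) (kgi xgi31 ygi52 zgi42) (kgi xgi25 ygi56 zgi46) (kgi xgi28 ygi17 zgi47) (kgi xgi25 ygi57 zgi36) (kgi xgi32 ygi1 zgi34) (kgi xgi32 ygi22 zgi27) (kgi xgi25 ygi57 zgi15) (kgi xgi30 ygi54 zgi48) (kgi xgi32 ygi34 zgi17) (kgi xgi32 ygi2 zgi8) (kgi xgi25 ygi57 zgi20) (kgi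 xgi25 ygi57 zgi39) (kgi xgi31 ygi1 zgi11) (kgi xgi29 ygi56 zgi51) (kgi xgi30 ygi46 zgi55) (kgi xgi32 ygi21 zgi5) (kgi xgi30 ygi10 zgi3) (kgi xgi32 ygi41 zgi57) (kgi xgi25 ygi57 zgi56) (kgi xgi32 ygi57 zgi54) (kgi xgi29 ygi15 zgi54) (kgi xgi28 ygi21 zgi24) (kgi xgi32 ygi44 zgi20) (kgi xgi27 ygi32 zgi26) (kgi xgi25 ygi58 zgi4) (kgi xgi28 ygi7 zgi35) (kgi xgi25 ygi58 zgi10) (kgi xgi25 ygi59 zgi59) (kgi xgi25 ygi58 zgi21) (kgi xgi29 ygi1 zgi25) (kgi xgi29 ygi48 zgi8) (kgi xgi25 ygi58 zgi32) (kgi xgi32 ygi1 zgi48) (kgi xgi29 ygi47 zgi51) (kgi xgi25 ygi58 zgi48) (kgi xgi25 ygi58 zgi58) (kgi xgi25 ygi58 zgi51) (kgi xgi25 ygi59 zgi6) (kgi xgi25 ygi59 zgi3) (kgi xgi26 ygi14 zgi22) (kgi xgi30 ygi31 zgi49) (kgi xgi30 ygi31 zgi50) (kgi xgi29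 ygi56 zgi45) (kgi xgi30 ygi51 zgi37) (kgi xgi31 ygi2 zgi31) (kgi xgi28 ygi53 zgi23)) (@D3.rec (fun _ => Pt) (kgi xgi27 ygi21 zgi25) (kgi xgi28 ygi52 zgi21) (kgi xgi32 ygi15 zgi54) (kgi xgi26 ygi43 zgi29) (kgi xgi28 ygi23 zgi54) (kgi xgi28 ygi20 zgi26) (kgi xgi27 ygi24 zgi12) (kgi xgi26 ygi25 zgi34) (kgi xgi26 ygi37 zgi14) (kgi xgi31 ygi58 zgi6) (kgi xgi26 ygi0 zgi53) (kgi xgi26 ygi3 zgi31) (kgi xgi31 ygi34 zgi32) (kgi xgi26 ygi53 zgi15) (kgi xgi29 ygi11 zgi27) (kgi xgi26 ygi1 zgi29) (kgi xgi29 ygi11 zgi26) (kgi xgi30 ygi4 zgi31) (kgi xgi29 ygi57 zgi42) (kgi xgi31 ygi4 zgi36) (kgi xgi32 ygi49 zgi33) (kgi xgi28 ygi43 zgi57) (kgi xgi28 ygi49 zgi13) (kgi xgi30 ygi27 zgi3) (kgi xgi29 ygi15 zgi18) (kgi xgi31 ygi34 zgi27) (kgi xgi31 ygi36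 zgi31) (kgi xgi30 ygi27 zgi12) (kgi xgi26 ygi37 zgi29) (kgi xgi31 ygi12 zgi14) (kgi xgi32 ygi19 zgi54) (kgi xgi32 ygi3 zgi21) (kgi xgi31 ygi57 zgi14) (kgi xgi32 ygi14 zgi25) (kgi xgi26 ygi2 zgi48) (kgi xgi29 ygi46 zgi4) (kgi xgi26 ygi2 zgi53) (kgi xgi32 ygi41 zgi19) (kgi xgi30 ygi58 zgi13) (kgi xgi27 ygi22 zgi49) (kgi xgi32 ygi42 zgi6) (kgi xgi26 ygi3 zgi26) (kgi xgi26 ygi9 zgi61) (kgi xgi29 ygi48 zgi54) (kgi xgi26 ygi3 zgi41) (kgi xgi31 ygi35 zgi60) (kgi xgi31 ygi12 zgi13) (kgi xgi31 ygi11 zgi54) (kgi xgi32 ygi6 zgi56) (kgi xgi28 ygi6 zgi16) (kgi xgi28 ygi6 zgi15) (kgi xgi31 ygi10 zgi0) (kgi xgi27 ygi33 zgi32) (kgi xgi26 ygi4 zgi30) (kgi xgi28 ygi4 zgi24) (kgi xgi32 ygi12 zgi61) (kgi xgi26 ygi13 zgi51) (kgi xgi26 ygi13 zgi47) (kgi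 xgi31 ygi43 zgi50) (kgi xgi31 ygi35 zgi3) (kgi xgi26 ygi4 zgi61) (kgi xgi26 ygi39 zgi55)) (@D3.rec (fun _ => Pt) (kgi xgi29 ygi47 zgi24) (kgi xgi26 ygi4 zgi45) (kgi xgi30 ygi9 zgi28) (kgi xgi32 ygi48 zgi51) (kgi xgi31 ygi47 zgi33) (kgi xgi26 ygi4 zgi52) (kgi xgi30 ygi29 zgi39) (kgi xgi31 ygi47 zgi32) (kgi xgi26 ygi4 zgi58) (kgi xgi32 ygi14 zgi24) (kgi xgi27 ygi16 zgi34) (kgi xgi28 ygi57 zgi12) (kgi xgi29 ygi44 zgi36) (kgi xgi29 ygi44 zgi31) (kgi xgi26 ygi23 zgi38) (kgi xgi31 ygi45 zgi27) (kgi xgi26 ygi50 zgi53) (kgi xgi31 ygi20 zgi6) (kgi xgi32 ygi56 zgi16) (kgi xgi31 ygi51 zgi31) (kgi xgi32 ygi39 zgi7) (kgi xgi31 ygi52 zgi12) (kgi xgi32 ygi40 zgi37) (kgi xgi32 ygi39 zgi12) (kgi xgi26 ygi6 zgi19) (kgi xgi32 ygi43 zgi14) (kgi xgi30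 ygi21 zgi36) (kgi xgi32 ygi53 zgi22) (kgi xgi32 ygi40 zgi34) (kgi xgi32 ygi58 zgi48) (kgi xgi31 ygi10 zgi19) (kgi xgi26 ygi10 zgi4) (kgi xgi32 ygi35 zgi44) (kgi xgi32 ygi55 zgi46) (kgi xgi26 ygi7 zgi0) (kgi xgi29 ygi10 zgi5) (kgi xgi32 ygi49 zgi47) (kgi xgi28 ygi43 zgi46) (kgi xgi31 ygi36 zgi24) (kgi xgi31 ygi37 zgi46) (kgi xgi29 ygi10 zgi3) (kgi xgi27 ygi57 zgi11) (kgi xgi27 ygi45 zgi50) (kgi xgi28 ygi13 zgi22) (kgi xgi26 ygi7 zgi37) (kgi xgi31 ygi6 zgi10) (kgi xgi26 ygi38 zgi57) (kgi xgi26 ygi8 zgi2) (kgi xgi31 ygi30 zgi19) (kgi xgi26 ygi8 zgi4) (kgi xgi31 ygi27 zgi35) (kgi xgi32 ygi55 zgi42) (kgi xgi32 ygi55 zgi44) (kgi xgi32 ygi16 zgi6) (kgi xgi26 ygi8 zgi18) (kgi xgi32 ygi26 zgi55) (kgi xgi26 ygi47 zgi26) (kgi xgi26 ygi8 zgi24)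 (kgi xgi30 ygi18 zgi1) (kgi xgi31 ygi59 zgi3) (kgi xgi32 ygi30 zgi39) (kgi xgi26 ygi23 zgi31)) (@D3.rec (fun _ => Pt) (kgi xgi26 ygi8 zgi43) (kgi xgi31 ygi7 zgi61) (kgi xgi28 ygi43 zgi44) (kgi xgi30 ygi59 zgi27) (kgi xgi28 ygi11 zgi38) (kgi xgi29 ygi10 zgi16) (kgi xgi28 ygi11 zgi44) (kgi xgi29 ygi6 zgi22) (kgi xgi31 ygi3 zgi59) (kgi xgi32 ygi54 zgi0) (kgi xgi32 ygi54 zgi11) (kgi xgi30 ygi2 zgi57) (kgi xgi26 ygi9 zgi31) (kgi xgi30 ygi14 zgi4) (kgi xgi31 ygi56 zgi52) (kgi xgi31 ygi34 zgi5) (kgi xgi30 ygi47 zgi57) (kgi xgi26 ygi9 zgi46) (kgi xgi31 ygi51 zgi49) (kgi xgi31 ygi51 zgi3) (kgi xgi31 ygi11 zgi21) (kgi xgi32 ygi51 zgi31) (kgi xgi30 ygi43 zgi6) (kgi xgi31 ygi50 zgi8) (kgi xgi32 ygi5 zgi40) (kgi xgi29 ygi46 zgi12) (kgi xgi30 ygi14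 zgi37) (kgi xgi26 ygi14 zgi51) (kgi xgi26 ygi11 zgi6) (kgi xgi27 ygi27 zgi35) (kgi xgi27 ygi25 zgi24) (kgi xgi27 ygi25 zgi17) (kgi xgi30 ygi23 zgi14) (kgi xgi27 ygi25 zgi4) (kgi xgi26 ygi11 zgi37) (kgi xgi26 ygi11 zgi56) (kgi xgi31 ygi34 zgi3) (kgi xgi26 ygi11 zgi45) (kgi xgi28 ygi44 zgi6) (kgi xgi32 ygi9 zgi48) (kgi xgi31 ygi44 zgi26) (kgi xgi32 ygi9 zgi49) (kgi xgi32 ygi24 zgi48) (kgi xgi26 ygi11 zgi50) (kgi xgi32 ygi25 zgi3) (kgi xgi30 ygi59 zgi2) (kgi xgi32 ygi38 zgi4) (kgi xgi26 ygi11 zgi61) (kgi xgi26 ygi11 zgi52) (kgi xgi26 ygi11 zgi55) (kgi xgi28 ygi41 zgi44) (kgi xgi32 ygi5 zgi51) (kgi xgi32 ygi5 zgi41) (kgi xgi26 ygi11 zgi60) (kgi xgi31 ygi33 zgi58) (kgi xgi30 ygi59 zgi46) (kgi xgi31 ygi32 zgi52) (kgi xgi32 ygi38 zgi5) (kgi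 xgi28 ygi41 zgi7) (kgi xgi26 ygi12 zgi7) (kgi xgi26 ygi21 zgi7) (kgi xgi32 ygi10 zgi7)) (@D3.rec (fun _ => Pt) (kgi xgi27 ygi25 zgi18) (kgi xgi26 ygi12 zgi48) (kgi xgi31 ygi39 zgi11) (kgi xgi29 ygi12 zgi60) (kgi xgi27 ygi46 zgi3) (kgi xgi32 ygi6 zgi48) (kgi xgi32 ygi25 zgi29) (kgi xgi32 ygi54 zgi15) (kgi xgi32 ygi25 zgi26) (kgi xgi26 ygi18 zgi4) (kgi xgi32 ygi48 zgi31) (kgi xgi28 ygi4 zgi29) (kgi xgi27 ygi48 zgi56) (kgi xgi32 ygi25 zgi0) (kgi xgi31 ygi57 zgi58) (kgi xgi29 ygi17 zgi46) (kgi xgi31 ygi54 zgi51) (kgi xgi27 ygi29 zgi11) (kgi xgi30 ygi0 zgi0) (kgi xgi27 ygi48 zgi24) (kgi xgi32 ygi30 zgi12) (kgi xgi28 ygi4 zgi18) (kgi xgi27 ygi45 zgi54) (kgi xgi31 ygi42 zgi41) (kgi xgi26 ygi15 zgi22) (kgi xgi27 ygi41 zgi43) (kgi xgi29 ygi20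 zgi23) (kgi xgi32 ygi8 zgi23) (kgi xgi31 ygi44 zgi27) (kgi xgi32 ygi54 zgi24) (kgi xgi29 ygi20 zgi49) (kgi xgi26 ygi15 zgi29) (kgi xgi32 ygi49 zgi44) (kgi xgi26 ygi15 zgi31) (kgi xgi32 ygi28 zgi37) (kgi xgi26 ygi15 zgi38) (kgi xgi28 ygi2 zgi22) (kgi xgi32 ygi25 zgi15) (kgi xgi26 ygi15 zgi56) (kgi xgi30 ygi1 zgi4) (kgi xgi30 ygi52 zgi23) (kgi xgi31 ygi12 zgi6) (kgi xgi28 ygi43 zgi49) (kgi xgi26 ygi16 zgi32) (kgi xgi27 ygi34 zgi23) (kgi xgi32 ygi27 zgi39) (kgi xgi26 ygi16 zgi23) (kgi xgi32 ygi7 zgi48) (kgi xgi31 ygi42 zgi36) (kgi xgi32 ygi28 zgi11) (kgi xgi31 ygi57 zgi55) (kgi xgi31 ygi42 zgi40) (kgi xgi32 ygi8 zgi0) (kgi xgi31 ygi6 zgi17) (kgi xgi31 ygi16 zgi47) (kgi xgi27 ygi48 zgi41) (kgi xgi26 ygi17 zgi18) (kgi xgi32 ygi3 zgi48)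 (kgi xgi32 ygi26 zgi30) (kgi xgi32 ygi26 zgi36) (kgi xgi26 ygi17 zgi32) (kgi xgi29 ygi19 zgi48)) (@D3.rec (fun _ => Pt) (kgi xgi32 ygi9 zgi40) (kgi xgi29 ygi28 zgi60) (kgi xgi32 ygi30 zgi48) (kgi xgi26 ygi20 zgi32) (kgi xgi31 ygi50 zgi2) (kgi xgi32 ygi41 zgi27) (kgi xgi29 ygi5 zgi5) (kgi xgi29 ygi4 zgi46) (kgi xgi29 ygi4 zgi18) (kgi xgi29 ygi5 zgi10) (kgi xgi26 ygi17 zgi56) (kgi xgi32 ygi57 zgi36) (kgi xgi32 ygi26 zgi39) (kgi xgi32 ygi34 zgi51) (kgi xgi32 ygi8 zgi39) (kgi xgi31 ygi8 zgi20) (kgi xgi27 ygi56 zgi2) (kgi xgi27 ygi46 zgi37) (kgi xgi32 ygi7 zgi51) (kgi xgi28 ygi45 zgi42) (kgi xgi29 ygi20 zgi38) (kgi xgi30 ygi35 zgi19) (kgi xgi27 ygi55 zgi0) (kgi xgi29 ygi24 zgi56) (kgi xgi27 ygi26 zgi18) (kgi xgi26 ygi21 zgi20) (kgi xgi31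 ygi45 zgi9) (kgi xgi27 ygi55 zgi18) (kgi xgi29 ygi18 zgi30) (kgi xgi29 ygi18 zgi28) (kgi xgi31 ygi44 zgi29) (kgi xgi31 ygi43 zgi14) (kgi xgi32 ygi30 zgi22) (kgi xgi27 ygi50 zgi2) (kgi xgi26 ygi19 zgi31) (kgi xgi30 ygi58 zgi9) (kgi xgi28 ygi56 zgi7) (kgi xgi32 ygi17 zgi15) (kgi xgi26 ygi20 zgi14) (kgi xgi26 ygi36 zgi45) (kgi xgi28 ygi59 zgi28) (kgi xgi30 ygi51 zgi38) (kgi xgi31 ygi49 zgi28) (kgi xgi26 ygi20 zgi36) (kgi xgi32 ygi31 zgi21) (kgi xgi28 ygi46 zgi32) (kgi xgi28 ygi4 zgi23) (kgi xgi26 ygi20 zgi52) (kgi xgi32 ygi7 zgi12) (kgi xgi31 ygi8 zgi14) (kgi xgi29 ygi54 zgi8) (kgi xgi27 ygi54 zgi2) (kgi xgi32 ygi10 zgi3) (kgi xgi29 ygi20 zgi56) (kgi xgi31 ygi39 zgi19) (kgi xgi26 ygi21 zgi22) (kgi xgi30 ygi55 zgi7) (kgi xgi29 ygi19 zgi26)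 (kgi xgi30 ygi21 zgi1) (kgi xgi31 ygi42 zgi55) (kgi xgi27 ygi49 zgi30) (kgi xgi31 ygi42 zgi56)) (@D3.rec (fun _ => Pt) (kgi xgi26 ygi21 zgi32) (kgi xgi32 ygi6 zgi52) (kgi xgi27 ygi53 zgi16) (kgi xgi29 ygi2 zgi1) (kgi xgi27 ygi40 zgi23) (kgi xgi26 ygi58 zgi61) (kgi xgi32 ygi40 zgi9) (kgi xgi27 ygi14 zgi28) (kgi xgi29 ygi14 zgi51) (kgi xgi26 ygi22 zgi16) (kgi xgi32 ygi46 zgi33) (kgi xgi26 ygi22 zgi20) (kgi xgi32 ygi54 zgi61) (kgi xgi28 ygi53 zgi24) (kgi xgi31 ygi17 zgi45) (kgi xgi26 ygi22 zgi30) (kgi xgi32 ygi9 zgi19) (kgi xgi30 ygi38 zgi60) (kgi xgi30 ygi58 zgi43) (kgi xgi26 ygi30 zgi52) (kgi xgi32 ygi16 zgi38) (kgi xgi32 ygi43 zgi61) (kgi xgi32 ygi48 zgi48) (kgi xgi32 ygi6 zgi25) (kgi xgi26 ygi23 zgi60) (kgi xgi31 ygi42 zgi27) (kgi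 xgi29 ygi3 zgi29) (kgi xgi31 ygi25 zgi41) (kgi xgi30 ygi26 zgi30) (kgi xgi27 ygi59 zgi0) (kgi xgi30 ygi18 zgi29) (kgi xgi31 ygi54 zgi17) (kgi xgi32 ygi48 zgi19) (kgi xgi30 ygi31 zgi15) (kgi xgi31 ygi46 zgi7) (kgi xgi30 ygi54 zgi55) (kgi xgi30 ygi44 zgi8) (kgi xgi32 ygi10 zgi13) (kgi xgi32 ygi31 zgi31) (kgi xgi32 ygi7 zgi23) (kgi xgi26 ygi25 zgi52) (kgi xgi26 ygi25 zgi7) (kgi xgi32 ygi29 zgi32) (kgi xgi28 ygi28 zgi1) (kgi xgi29 ygi12 zgi24) (kgi xgi31 ygi22 zgi50) (kgi xgi27 ygi19 zgi61) (kgi xgi30 ygi24 zgi20) (kgi xgi26 ygi25 zgi60) (kgi xgi30 ygi24 zgi30) (kgi xgi32 ygi51 zgi37) (kgi xgi30 ygi48 zgi0) (kgi xgi31 ygi46 zgi51) (kgi xgi32 ygi34 zgi59) (kgi xgi32 ygi39 zgi41) (kgi xgi32 ygi40 zgi57) (kgi xgi29 ygi53 zgi39) (kgi xgi30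 ygi42 zgi59) (kgi xgi31 ygi19 zgi14) (kgi xgi30 ygi24 zgi22) (kgi xgi28 ygi55 zgi13) (kgi xgi27 ygi58 zgi16)) (@D3.rec (fun _ => Pt) (kgi xgi29 ygi37 zgi0) (kgi xgi32 ygi43 zgi39) (kgi xgi32 ygi18 zgi45) (kgi xgi27 ygi54 zgi29) (kgi xgi26 ygi56 zgi6) (kgi xgi32 ygi40 zgi55) (kgi xgi32 ygi40 zgi48) (kgi xgi32 ygi40 zgi46) (kgi xgi31 ygi37 zgi14) (kgi xgi26 ygi27 zgi37) (kgi xgi30 ygi24 zgi8) (kgi xgi32 ygi52 zgi10) (kgi xgi31 ygi19 zgi22) (kgi xgi28 ygi0 zgi20) (kgi xgi28 ygi5 zgi58) (kgi xgi32 ygi29 zgi28) (kgi xgi28 ygi34 zgi20) (kgi xgi32 ygi36 zgi20) (kgi xgi31 ygi24 zgi50) (kgi xgi28 ygi36 zgi41) (kgi xgi26 ygi28 zgi12) (kgi xgi26 ygi28 zgi28) (kgi xgi28 ygi29 zgi43) (kgi xgi26 ygi28 zgi44) (kgi xgi28 ygi38 zgi51) (kgi xgi29 ygi21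 zgi6) (kgi xgi26 ygi29 zgi4) (kgi xgi29 ygi54 zgi22) (kgi xgi26 ygi28 zgi59) (kgi xgi29 ygi8 zgi46) (kgi xgi32 ygi8 zgi21) (kgi xgi26 ygi29 zgi48) (kgi xgi32 ygi51 zgi38) (kgi xgi32 ygi9 zgi60) (kgi xgi26 ygi29 zgi15) (kgi xgi26 ygi29 zgi17) (kgi xgi28 ygi37 zgi25) (kgi xgi26 ygi29 zgi19) (kgi xgi32 ygi35 zgi8) (kgi xgi27 ygi49 zgi17) (kgi xgi32 ygi1 zgi37) (kgi xgi32 ygi49 zgi28) (kgi xgi32 ygi0 zgi3) (kgi xgi29 ygi25 zgi17) (kgi xgi32 ygi9 zgi27) (kgi xgi28 ygi3 zgi12) (kgi xgi30 ygi46 zgi0) (kgi xgi28 ygi2 zgi26) (kgi xgi30 ygi58 zgi60) (kgi xgi30 ygi59 zgi60) (kgi xgi32 ygi5 zgi39) (kgi xgi32 ygi31 zgi32) (kgi xgi31 ygi25 zgi29) (kgi xgi26 ygi30 zgi12) (kgi xgi28 ygi13 zgi32) (kgi xgi26 ygi30 zgi14) (kgi xgi27 ygi8 zgi15) (kgi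 xgi32 ygi23 zgi16) (kgi xgi32 ygi9 zgi43) (kgi xgi30 ygi48 zgi7) (kgi xgi26 ygi30 zgi38) (kgi xgi28 ygi7 zgi60)) (@D3.rec (fun _ => Pt) (kgi xgi32 ygi7 zgi41) (kgi xgi32 ygi25 zgi42) (kgi xgi32 ygi35 zgi45) (kgi xgi30 ygi45 zgi26) (kgi xgi32 ygi7 zgi53) (kgi xgi28 ygi5 zgi5) (kgi xgi28 ygi7 zgi11) (kgi xgi26 ygi30 zgi46) (kgi xgi32 ygi5 zgi61) (kgi xgi28 ygi8 zgi34) (kgi xgi32 ygi24 zgi47) (kgi xgi28 ygi32 zgi0) (kgi xgi27 ygi45 zgi28) (kgi xgi32 ygi8 zgi38) (kgi xgi31 ygi25 zgi40) (kgi xgi32 ygi7 zgi50) (kgi xgi27 ygi49 zgi12) (kgi xgi27 ygi5 zgi25) (kgi xgi27 ygi52 zgi57) (kgi xgi32 ygi7 zgi0) (kgi xgi31 ygi54 zgi2) (kgi xgi32 ygi44 zgi3) (kgi xgi32 ygi31 zgi41) (kgi xgi27 ygi52 zgi6) (kgi xgi27 ygi53 zgi60) (kgi xgi28 ygi5 zgi43)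 (kgi xgi28 ygi28 zgi10) (kgi xgi31 ygi48 zgi5) (kgi xgi32 ygi15 zgi17) (kgi xgi29 ygi22 zgi20) (kgi xgi28 ygi37 zgi17) (kgi xgi26 ygi35 zgi25) (kgi xgi26 ygi33 zgi11) (kgi xgi32 ygi13 zgi60) (kgi xgi26 ygi33 zgi21) (kgi xgi31 ygi21 zgi53) (kgi xgi26 ygi39 zgi57) (kgi xgi26 ygi41 zgi14) (kgi xgi32 ygi56 zgi57) (kgi xgi26 ygi40 zgi5) (kgi xgi29 ygi5 zgi54) (kgi xgi31 ygi11 zgi16) (kgi xgi28 ygi39 zgi57) (kgi xgi26 ygi33 zgi38) (kgi xgi26 ygi39 zgi45) (kgi xgi32 ygi38 zgi59) (kgi xgi26 ygi33 zgi42) (kgi xgi32 ygi21 zgi1) (kgi xgi31 ygi20 zgi18) (kgi xgi26 ygi40 zgi15) (kgi xgi29 ygi34 zgi13) (kgi xgi32 ygi11 zgi15) (kgi xgi26 ygi34 zgi8) (kgi xgi26 ygi40 zgi50) (kgi xgi29 ygi46 zgi10) (kgi xgi26 ygi40 zgi47) (kgi xgi26 ygi34 zgi12) (kgi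 xgi30 ygi27 zgi61) (kgi xgi26 ygi34 zgi17) (kgi xgi28 ygi40 zgi42) (kgi xgi28 ygi54 zgi47) (kgi xgi28 ygi51 zgi50)) (@D3.rec (fun _ => Pt) (kgi xgi32 ygi36 zgi43) (kgi xgi31 ygi52 zgi36) (kgi xgi28 ygi37 zgi2) (kgi xgi29 ygi0 zgi12) (kgi xgi29 ygi33 zgi59) (kgi xgi29 ygi56 zgi27) (kgi xgi26 ygi34 zgi30) (kgi xgi26 ygi34 zgi34) (kgi xgi26 ygi34 zgi31) (kgi xgi32 ygi50 zgi32) (kgi xgi28 ygi44 zgi36) (kgi xgi29 ygi56 zgi16) (kgi xgi32 ygi45 zgi38) (kgi xgi32 ygi10 zgi37) (kgi xgi31 ygi21 zgi6) (kgi xgi32 ygi10 zgi50) (kgi xgi32 ygi14 zgi15) (kgi xgi29 ygi50 zgi4) (kgi xgi30 ygi16 zgi8) (kgi xgi32 ygi41 zgi3) (kgi xgi27 ygi0 zgi5) (kgi xgi29 ygi44 zgi12) (kgi xgi26 ygi34 zgi61) (kgi xgi26 ygi34 zgi60) (kgi xgi31 ygi46 zgi60) (kgi xgi32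 ygi13 zgi20) (kgi xgi26 ygi35 zgi1) (kgi xgi30 ygi15 zgi54) (kgi xgi32 ygi12 zgi7) (kgi xgi32 ygi13 zgi14) (kgi xgi32 ygi52 zgi41) (kgi xgi26 ygi35 zgi36) (kgi xgi32 ygi18 zgi56) (kgi xgi32 ygi35 zgi17) (kgi xgi32 ygi37 zgi43) (kgi xgi26 ygi38 zgi8) (kgi xgi32 ygi51 zgi5) (kgi xgi29 ygi17 zgi35) (kgi xgi31 ygi40 zgi29) (kgi xgi32 ygi14 zgi40) (kgi xgi29 ygi46 zgi3) (kgi xgi31 ygi59 zgi11) (kgi xgi29 ygi46 zgi52) (kgi xgi26 ygi35 zgi28) (kgi xgi31 ygi27 zgi30) (kgi xgi28 ygi37 zgi15) (kgi xgi26 ygi35 zgi34) (kgi xgi26 ygi35 zgi52) (kgi xgi26 ygi35 zgi49) (kgi xgi26 ygi35 zgi41) (kgi xgi30 ygi15 zgi36) (kgi xgi27 ygi16 zgi6) (kgi xgi32 ygi41 zgi10) (kgi xgi29 ygi43 zgi40) (kgi xgi28 ygi39 zgi0) (kgi xgi32 ygi52 zgi46) (kgi xgi32 ygi57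 zgi29) (kgi xgi31 ygi30 zgi39) (kgi xgi30 ygi30 zgi58) (kgi xgi31 ygi32 zgi32) (kgi xgi32 ygi0 zgi32) (kgi xgi29 ygi42 zgi38)) (@D3.rec (fun _ => Pt) (kgi xgi32 ygi3 zgi34) (kgi xgi32 ygi45 zgi51) (kgi xgi32 ygi47 zgi52) (kgi xgi32 ygi11 zgi24) (kgi xgi32 ygi13 zgi36) (kgi xgi30 ygi27 zgi47) (kgi xgi29 ygi46 zgi15) (kgi xgi30 ygi17 zgi10) (kgi xgi30 ygi9 zgi26) (kgi xgi32 ygi10 zgi54) (kgi xgi32 ygi13 zgi34) (kgi xgi26 ygi36 zgi2) (kgi xgi27 ygi0 zgi15) (kgi xgi32 ygi34 zgi28) (kgi xgi31 ygi34 zgi10) (kgi xgi29 ygi33 zgi49) (kgi xgi26 ygi57 zgi31) (kgi xgi29 ygi33 zgi20) (kgi xgi32 ygi35 zgi32) (kgi xgi32 ygi37 zgi22) (kgi xgi31 ygi34 zgi12) (kgi xgi32 ygi58 zgi54) (kgi xgi32 ygi14 zgi21) (kgi xgi28 ygi39 zgi48) (kgi xgi32 ygi52 zgi44)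 (kgi xgi26 ygi36 zgi19) (kgi xgi32 ygi47 zgi37) (kgi xgi32 ygi47 zgi42) (kgi xgi32 ygi45 zgi25) (kgi xgi26 ygi36 zgi22) (kgi xgi32 ygi36 zgi54) (kgi xgi32 ygi37 zgi20) (kgi xgi30 ygi28 zgi56) (kgi xgi26 ygi36 zgi25) (kgi xgi32 ygi18 zgi61) (kgi xgi29 ygi46 zgi9) (kgi xgi32 ygi11 zgi16) (kgi xgi28 ygi40 zgi15) (kgi xgi28 ygi39 zgi38) (kgi xgi32 ygi46 zgi51) (kgi xgi28 ygi52 zgi39) (kgi xgi28 ygi18 zgi25) (kgi xgi26 ygi36 zgi37) (kgi xgi28 ygi33 zgi19) (kgi xgi31 ygi26 zgi42) (kgi xgi32 ygi41 zgi44) (kgi xgi32 ygi58 zgi58) (kgi xgi32 ygi13 zgi17) (kgi xgi26 ygi36 zgi53) (kgi xgi32 ygi56 zgi61) (kgi xgi29 ygi33 zgi35) (kgi xgi26 ygi36 zgi61) (kgi xgi26 ygi37 zgi20) (kgi xgi26 ygi37 zgi17) (kgi xgi32 ygi13 zgi3) (kgi xgi32 ygi14 zgi30)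 (kgi xgi29 ygi45 zgi8) (kgi xgi31 ygi41 zgi56) (kgi xgi26 ygi37 zgi43) (kgi xgi29 ygi2 zgi24) (kgi xgi32 ygi34 zgi38) (kgi xgi31 ygi38 zgi30)) (@D3.rec (fun _ => Pt) (kgi xgi28 ygi40 zgi20) (kgi xgi29 ygi49 zgi2) (kgi xgi32 ygi48 zgi29) (kgi xgi31 ygi31 zgi52) (kgi xgi31 ygi55 zgi33) (kgi xgi31 ygi39 zgi45) (kgi xgi28 ygi40 zgi23) (kgi xgi30 ygi17 zgi16) (kgi xgi32 ygi41 zgi52) (kgi xgi32 ygi11 zgi23) (kgi xgi26 ygi38 zgi2) (kgi xgi26 ygi38 zgi3) (kgi xgi29 ygi9 zgi22) (kgi xgi32 ygi21 zgi47) (kgi xgi28 ygi51 zgi14) (kgi xgi32 ygi19 zgi6) (kgi xgi29 ygi45 zgi12) (kgi xgi30 ygi17 zgi23) (kgi xgi26 ygi38 zgi15) (kgi xgi32 ygi40 zgi30) (kgi xgi32 ygi24 zgi2) (kgi xgi29 ygi3 zgi23) (kgi xgi29 ygi3 zgi21) (kgi xgi26 ygi39 zgi27) (kgi xgi26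 ygi40 zgi21) (kgi xgi28 ygi52 zgi28) (kgi xgi26 ygi39 zgi28) (kgi xgi29 ygi31 zgi6) (kgi xgi28 ygi44 zgi35) (kgi xgi28 ygi44 zgi37) (kgi xgi31 ygi45 zgi43) (kgi xgi29 ygi33 zgi8) (kgi xgi29 ygi33 zgi9) (kgi xgi26 ygi38 zgi47) (kgi xgi32 ygi38 zgi2) (kgi xgi26 ygi39 zgi6) (kgi xgi32 ygi47 zgi38) (kgi xgi32 ygi12 zgi4) (kgi xgi32 ygi45 zgi31) (kgi xgi26 ygi38 zgi54) (kgi xgi26 ygi38 zgi56) (kgi xgi32 ygi37 zgi30) (kgi xgi26 ygi39 zgi0) (kgi xgi32 ygi44 zgi38) (kgi xgi31 ygi29 zgi43) (kgi xgi26 ygi39 zgi3) (kgi xgi32 ygi36 zgi6) (kgi xgi29 ygi26 zgi16) (kgi xgi30 ygi28 zgi3) (kgi xgi28 ygi39 zgi52) (kgi xgi29 ygi38 zgi60) (kgi xgi30 ygi51 zgi36) (kgi xgi26 ygi39 zgi30) (kgi xgi26 ygi39 zgi36) (kgi xgi27 ygi36 zgi39) (kgi xgi28 ygi7 zgi39)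 (kgi xgi32 ygi58 zgi59) (kgi xgi32 ygi41 zgi28) (kgi xgi26 ygi40 zgi8) (kgi xgi29 ygi33 zgi54) (kgi xgi31 ygi31 zgi48) (kgi xgi26 ygi40 zgi11)) (@D3.rec (fun _ => Pt) (kgi xgi31 ygi21 zgi11) (kgi xgi31 ygi27 zgi8) (kgi xgi26 ygi40 zgi10) (kgi xgi31 ygi29 zgi21) (kgi xgi31 ygi29 zgi22) (kgi xgi26 ygi40 zgi25) (kgi xgi32 ygi40 zgi13) (kgi xgi30 ygi16 zgi7) (kgi xgi32 ygi40 zgi17) (kgi xgi29 ygi47 zgi20) (kgi xgi29 ygi34 zgi10) (kgi xgi28 ygi46 zgi5) (kgi xgi29 ygi34 zgi8) (kgi xgi32 ygi38 zgi39) (kgi xgi26 ygi40 zgi38) (kgi xgi29 ygi45 zgi36) (kgi xgi26 ygi40 zgi44) (kgi xgi32 ygi45 zgi8) (kgi xgi32 ygi50 zgi61) (kgi xgi28 ygi56 zgi36) (kgi xgi32 ygi11 zgi14) (kgi xgi26 ygi40 zgi49) (kgi xgi26 ygi40 zgi52) (kgi xgi27 ygi53 zgi22) (kgi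 xgi32 ygi4 zgi10) (kgi xgi28 ygi59 zgi44) (kgi xgi32 ygi30 zgi58) (kgi xgi32 ygi47 zgi14) (kgi xgi26 ygi41 zgi8) (kgi xgi29 ygi47 zgi11) (kgi xgi32 ygi47 zgi19) (kgi xgi32 ygi39 zgi30) (kgi xgi28 ygi54 zgi14) (kgi xgi27 ygi8 zgi12) (kgi xgi29 ygi45 zgi22) (kgi xgi27 ygi10 zgi27) (kgi xgi26 ygi41 zgi32) (kgi xgi28 ygi58 zgi43) (kgi xgi32 ygi24 zgi21) (kgi xgi29 ygi28 zgi8) (kgi xgi32 ygi17 zgi6) (kgi xgi29 ygi8 zgi61) (kgi xgi26 ygi44 zgi54) (kgi xgi28 ygi41 zgi50) (kgi xgi31 ygi41 zgi28) (kgi xgi29 ygi2 zgi28) (kgi xgi30 ygi49 zgi11) (kgi xgi32 ygi37 zgi11) (kgi xgi31 ygi30 zgi13) (kgi xgi30 ygi49 zgi15) (kgi xgi26 ygi43 zgi44) (kgi xgi28 ygi11 zgi43) (kgi xgi29 ygi49 zgi57) (kgi xgi30 ygi48 zgi36) (kgi xgi32 ygi22 zgi11) (kgi xgi28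 ygi51 zgi57) (kgi xgi28 ygi15 zgi44) (kgi xgi28 ygi15 zgi45) (kgi xgi31 ygi13 zgi31) (kgi xgi29 ygi48 zgi17) (kgi xgi32 ygi51 zgi41) (kgi xgi32 ygi22 zgi12)) (@D3.rec (fun _ => Pt) (kgi xgi28 ygi16 zgi41) (kgi xgi29 ygi8 zgi35) (kgi xgi32 ygi0 zgi58) (kgi xgi32 ygi37 zgi10) (kgi xgi26 ygi43 zgi9) (kgi xgi32 ygi48 zgi0) (kgi xgi28 ygi17 zgi31) (kgi xgi26 ygi52 zgi9) (kgi xgi26 ygi43 zgi14) (kgi xgi32 ygi52 zgi28) (kgi xgi32 ygi45 zgi22) (kgi xgi31 ygi27 zgi61) (kgi xgi32 ygi57 zgi8) (kgi xgi29 ygi23 zgi10) (kgi xgi28 ygi52 zgi24) (kgi xgi27 ygi54 zgi56) (kgi xgi29 ygi30 zgi28) (kgi xgi28 ygi56 zgi23) (kgi xgi26 ygi43 zgi39) (kgi xgi29 ygi15 zgi38) (kgi xgi32 ygi48 zgi6) (kgi xgi30 ygi3 zgi49) (kgi xgi30 ygi29 zgi32) (kgi xgi28 ygi55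 zgi49) (kgi xgi29 ygi23 zgi57) (kgi xgi31 ygi15 zgi41) (kgi xgi28 ygi17 zgi4) (kgi xgi30 ygi56 zgi23) (kgi xgi32 ygi36 zgi5) (kgi xgi26 ygi44 zgi14) (kgi xgi29 ygi4 zgi9) (kgi xgi29 ygi5 zgi7) (kgi xgi26 ygi44 zgi21) (kgi xgi27 ygi1 zgi10) (kgi xgi30 ygi29 zgi9) (kgi xgi32 ygi4 zgi15) (kgi xgi29 ygi42 zgi6) (kgi xgi26 ygi59 zgi61) (kgi xgi26 ygi45 zgi8) (kgi xgi31 ygi54 zgi0) (kgi xgi26 ygi45 zgi17) (kgi xgi31 ygi59 zgi40) (kgi xgi26 ygi45 zgi36) (kgi xgi32 ygi34 zgi34) (kgi xgi29 ygi1 zgi44) (kgi xgi26 ygi46 zgi10) (kgi xgi29 ygi22 zgi17) (kgi xgi31 ygi9 zgi44) (kgi xgi31 ygi9 zgi9) (kgi xgi29 ygi26 zgi15) (kgi xgi32 ygi37 zgi45) (kgi xgi28 ygi24 zgi59) (kgi xgi28 ygi56 zgi52) (kgi xgi30 ygi16 zgi49) (kgi xgi31 ygi53 zgi31) (kgi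 xgi26 ygi46 zgi48) (kgi xgi31 ygi36 zgi28) (kgi xgi29 ygi10 zgi20) (kgi xgi26 ygi48 zgi24) (kgi xgi29 ygi0 zgi21) (kgi xgi30 ygi52 zgi45) (kgi xgi26 ygi47 zgi11)) (@D3.rec (fun _ => Pt) (kgi xgi32 ygi32 zgi41) (kgi xgi29 ygi11 zgi5) (kgi xgi32 ygi49 zgi20) (kgi xgi26 ygi47 zgi21) (kgi xgi26 ygi47 zgi24) (kgi xgi31 ygi10 zgi30) (kgi xgi31 ygi53 zgi11) (kgi xgi32 ygi4 zgi53) (kgi xgi32 ygi32 zgi12) (kgi xgi30 ygi13 zgi31) (kgi xgi26 ygi47 zgi30) (kgi xgi29 ygi10 zgi13) (kgi xgi31 ygi9 zgi13) (kgi xgi31 ygi5 zgi16) (kgi xgi29 ygi11 zgi34) (kgi xgi26 ygi47 zgi46) (kgi xgi29 ygi11 zgi59) (kgi xgi29 ygi11 zgi35) (kgi xgi29 ygi11 zgi54) (kgi xgi29 ygi11 zgi32) (kgi xgi30 ygi10 zgi33) (kgi xgi31 ygi10 zgi23) (kgi xgi29 ygi14 zgi8) (kgi xgi26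 ygi48 zgi38) (kgi xgi32 ygi8 zgi53) (kgi xgi29 ygi20 zgi2) (kgi xgi26 ygi49 zgi9) (kgi xgi26 ygi49 zgi19) (kgi xgi26 ygi49 zgi13) (kgi xgi32 ygi8 zgi58) (kgi xgi32 ygi9 zgi24) (kgi xgi26 ygi49 zgi21) (kgi xgi32 ygi54 zgi55) (kgi xgi32 ygi16 zgi55) (kgi xgi31 ygi24 zgi1) (kgi xgi31 ygi20 zgi10) (kgi xgi26 ygi51 zgi53) (kgi xgi26 ygi51 zgi59) (kgi xgi32 ygi28 zgi26) (kgi xgi29 ygi50 zgi13) (kgi xgi32 ygi35 zgi47) (kgi xgi29 ygi36 zgi33) (kgi xgi29 ygi29 zgi51) (kgi xgi26 ygi50 zgi54) (kgi xgi32 ygi16 zgi59) (kgi xgi30 ygi22 zgi11) (kgi xgi32 ygi9 zgi30) (kgi xgi26 ygi51 zgi41) (kgi xgi26 ygi51 zgi38) (kgi xgi26 ygi56 zgi47) (kgi xgi28 ygi39 zgi31) (kgi xgi31 ygi33 zgi29) (kgi xgi30 ygi29 zgi16) (kgi xgi29 ygi55 zgi51) (kgi xgi32 ygi17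 zgi41) (kgi xgi32 ygi44 zgi57) (kgi xgi28 ygi32 zgi57) (kgi xgi32 ygi16 zgi33) (kgi xgi32 ygi16 zgi44) (kgi xgi32 ygi39 zgi40) (kgi xgi30 ygi28 zgi4) (kgi xgi32 ygi18 zgi39)) (@D3.rec (fun _ => Pt) (kgi xgi32 ygi31 zgi58) (kgi xgi30 ygi22 zgi44) (kgi xgi29 ygi34 zgi7) (kgi xgi26 ygi52 zgi21) (kgi xgi29 ygi45 zgi51) (kgi xgi32 ygi50 zgi33) (kgi xgi31 ygi55 zgi46) (kgi xgi26 ygi52 zgi27) (kgi xgi29 ygi33 zgi28) (kgi xgi29 ygi33 zgi25) (kgi xgi26 ygi52 zgi31) (kgi xgi26 ygi52 zgi42) (kgi xgi26 ygi52 zgi39) (kgi xgi28 ygi47 zgi14) (kgi xgi32 ygi7 zgi37) (kgi xgi27 ygi54 zgi55) (kgi xgi29 ygi21 zgi23) (kgi xgi28 ygi44 zgi8) (kgi xgi26 ygi52 zgi55) (kgi xgi27 ygi19 zgi13) (kgi xgi26 ygi53 zgi3) (kgi xgi29 ygi19 zgi52) (kgi xgi29 ygi36 zgi8)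 (kgi xgi29 ygi8 zgi60) (kgi xgi26 ygi53 zgi50) (kgi xgi32 ygi42 zgi40) (kgi xgi26 ygi54 zgi17) (kgi xgi26 ygi53 zgi37) (kgi xgi26 ygi53 zgi42) (kgi xgi26 ygi54 zgi44) (kgi xgi26 ygi53 zgi46) (kgi xgi29 ygi36 zgi57) (kgi xgi29 ygi35 zgi52) (kgi xgi28 ygi51 zgi54) (kgi xgi28 ygi30 zgi15) (kgi xgi31 ygi24 zgi11) (kgi xgi30 ygi18 zgi39) (kgi xgi30 ygi18 zgi38) (kgi xgi29 ygi8 zgi49) (kgi xgi28 ygi51 zgi55) (kgi xgi32 ygi38 zgi18) (kgi xgi28 ygi33 zgi7) (kgi xgi29 ygi35 zgi56) (kgi xgi28 ygi30 zgi50) (kgi xgi32 ygi27 zgi21) (kgi xgi29 ygi11 zgi19) (kgi xgi26 ygi54 zgi26) (kgi xgi32 ygi46 zgi16) (kgi xgi31 ygi52 zgi28) (kgi xgi32 ygi46 zgi14) (kgi xgi32 ygi40 zgi35) (kgi xgi26 ygi54 zgi29) (kgi xgi29 ygi43 zgi33) (kgi xgi31 ygi34 zgi24)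 (kgi xgi26 ygi54 zgi42) (kgi xgi31 ygi34 zgi28) (kgi xgi31 ygi14 zgi11) (kgi xgi32 ygi44 zgi43) (kgi xgi29 ygi14 zgi14) (kgi xgi31 ygi52 zgi35) (kgi xgi32 ygi43 zgi36) (kgi xgi26 ygi54 zgi43)) (@D3.rec (fun _ => Pt) (kgi xgi32 ygi44 zgi49) (kgi xgi31 ygi51 zgi54) (kgi xgi32 ygi43 zgi30) (kgi xgi32 ygi36 zgi35) (kgi xgi29 ygi17 zgi56) (kgi xgi27 ygi43 zgi57) (kgi xgi26 ygi55 zgi0) (kgi xgi26 ygi55 zgi2) (kgi xgi30 ygi48 zgi18) (kgi xgi32 ygi34 zgi18) (kgi xgi29 ygi1 zgi56) (kgi xgi26 ygi56 zgi49) (kgi xgi31 ygi14 zgi5) (kgi xgi26 ygi55 zgi61) (kgi xgi29 ygi29 zgi33) (kgi xgi31 ygi38 zgi49) (kgi xgi32 ygi3 zgi1) (kgi xgi28 ygi55 zgi41) (kgi xgi32 ygi15 zgi44) (kgi xgi32 ygi41 zgi53) (kgi xgi26 ygi56 zgi24) (kgi xgi28 ygi56 zgi25) (kgi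 xgi30 ygi29 zgi11) (kgi xgi30 ygi42 zgi57) (kgi xgi32 ygi19 zgi56) (kgi xgi32 ygi34 zgi22) (kgi xgi28 ygi43 zgi38) (kgi xgi32 ygi18 zgi26) (kgi xgi31 ygi17 zgi58) (kgi xgi30 ygi55 zgi35) (kgi xgi26 ygi56 zgi52) (kgi xgi32 ygi11 zgi57) (kgi xgi28 ygi39 zgi18) (kgi xgi32 ygi11 zgi60) (kgi xgi31 ygi31 zgi34) (kgi xgi32 ygi37 zgi26) (kgi xgi32 ygi23 zgi10) (kgi xgi30 ygi25 zgi20) (kgi xgi29 ygi53 zgi41) (kgi xgi26 ygi57 zgi20) (kgi xgi32 ygi36 zgi21) (kgi xgi31 ygi33 zgi5) (kgi xgi27 ygi0 zgi43) (kgi xgi29 ygi32 zgi1) (kgi xgi27 ygi9 zgi43) (kgi xgi32 ygi9 zgi5) (kgi xgi32 ygi45 zgi33) (kgi xgi30 ygi32 zgi37) (kgi xgi26 ygi58 zgi37) (kgi xgi32 ygi27 zgi10) (kgi xgi31 ygi34 zgi37) (kgi xgi32 ygi24 zgi6) (kgi xgi31 ygi30 zgi26) (kgi xgi27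 ygi24 zgi24) (kgi xgi27 ygi24 zgi16) (kgi xgi28 ygi54 zgi17) (kgi xgi32 ygi48 zgi36) (kgi xgi32 ygi11 zgi32) (kgi xgi27 ygi0 zgi14) (kgi xgi30 ygi29 zgi25) (kgi xgi27 ygi13 zgi52) (kgi xgi32 ygi12 zgi33)) (@D3.rec (fun _ => Pt) (kgi xgi27 ygi0 zgi37) (kgi xgi28 ygi54 zgi52) (kgi xgi32 ygi42 zgi51) (kgi xgi27 ygi0 zgi24) (kgi xgi30 ygi16 zgi31) (kgi xgi32 ygi50 zgi57) (kgi xgi27 ygi0 zgi25) (kgi xgi32 ygi13 zgi15) (kgi xgi32 ygi47 zgi6) (kgi xgi28 ygi40 zgi35) (kgi xgi30 ygi29 zgi12) (kgi xgi29 ygi45 zgi58) (kgi xgi30 ygi29 zgi17) (kgi xgi32 ygi35 zgi26) (kgi xgi29 ygi32 zgi35) (kgi xgi32 ygi18 zgi19) (kgi xgi28 ygi51 zgi7) (kgi xgi27 ygi0 zgi39) (kgi xgi32 ygi36 zgi23) (kgi xgi27 ygi0 zgi40) (kgi xgi32 ygi40 zgi58) (kgi xgi32 ygi52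 zgi17) (kgi xgi27 ygi17 zgi19) (kgi xgi30 ygi33 zgi17) (kgi xgi31 ygi19 zgi61) (kgi xgi27 ygi2 zgi12) (kgi xgi27 ygi8 zgi58) (kgi xgi27 ygi2 zgi14) (kgi xgi27 ygi7 zgi4) (kgi xgi27 ygi2 zgi15) (kgi xgi27 ygi7 zgi9) (kgi xgi31 ygi50 zgi44) (kgi xgi30 ygi21 zgi44) (kgi xgi28 ygi17 zgi33) (kgi xgi27 ygi3 zgi0) (kgi xgi30 ygi21 zgi24) (kgi xgi32 ygi44 zgi11) (kgi xgi31 ygi22 zgi44) (kgi xgi32 ygi30 zgi53) (kgi xgi31 ygi23 zgi11) (kgi xgi31 ygi22 zgi36) (kgi xgi30 ygi19 zgi2) (kgi xgi27 ygi13 zgi35) (kgi xgi30 ygi26 zgi28) (kgi xgi31 ygi15 zgi58) (kgi xgi30 ygi29 zgi10) (kgi xgi27 ygi3 zgi37) (kgi xgi27 ygi46 zgi45) (kgi xgi27 ygi46 zgi42) (kgi xgi27 ygi47 zgi28) (kgi xgi30 ygi2 zgi12) (kgi xgi30 ygi4 zgi46) (kgi xgi32 ygi49 zgi21) (kgi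 xgi29 ygi51 zgi32) (kgi xgi32 ygi3 zgi38) (kgi xgi27 ygi30 zgi12) (kgi xgi31 ygi12 zgi30) (kgi xgi30 ygi45 zgi58) (kgi xgi31 ygi42 zgi29) (kgi xgi28 ygi24 zgi48) (kgi xgi27 ygi5 zgi44) (kgi xgi27 ygi9 zgi29)) (@D3.rec (fun _ => Pt) (kgi xgi27 ygi9 zgi4) (kgi xgi27 ygi42 zgi6) (kgi xgi28 ygi36 zgi22) (kgi xgi30 ygi15 zgi11) (kgi xgi27 ygi6 zgi25) (kgi xgi27 ygi15 zgi50) (kgi xgi32 ygi45 zgi1) (kgi xgi32 ygi49 zgi54) (kgi xgi31 ygi23 zgi0) (kgi xgi27 ygi6 zgi31) (kgi xgi27 ygi8 zgi61) (kgi xgi29 ygi13 zgi25) (kgi xgi27 ygi6 zgi43) (kgi xgi30 ygi39 zgi23) (kgi xgi27 ygi15 zgi20) (kgi xgi27 ygi7 zgi14) (kgi xgi32 ygi33 zgi14) (kgi xgi27 ygi6 zgi47) (kgi xgi32 ygi20 zgi35) (kgi xgi32 ygi48 zgi2) (kgi xgi31 ygi13 zgi57) (kgi xgi27 ygi8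 zgi26) (kgi xgi27 ygi7 zgi15) (kgi xgi32 ygi51 zgi30) (kgi xgi28 ygi16 zgi35) (kgi xgi27 ygi7 zgi8) (kgi xgi28 ygi37 zgi40) (kgi xgi28 ygi16 zgi43) (kgi xgi28 ygi26 zgi42) (kgi xgi32 ygi39 zgi42) (kgi xgi31 ygi13 zgi52) (kgi xgi27 ygi7 zgi7) (kgi xgi32 ygi50 zgi2) (kgi xgi32 ygi21 zgi28) (kgi xgi32 ygi51 zgi43) (kgi xgi32 ygi56 zgi7) (kgi xgi32 ygi47 zgi61) (kgi xgi30 ygi18 zgi27) (kgi xgi31 ygi33 zgi11) (kgi xgi32 ygi22 zgi43) (kgi xgi30 ygi5 zgi47) (kgi xgi30 ygi38 zgi44) (kgi xgi32 ygi56 zgi17) (kgi xgi31 ygi19 zgi58) (kgi xgi32 ygi57 zgi56) (kgi xgi27 ygi7 zgi22) (kgi xgi32 ygi51 zgi52) (kgi xgi31 ygi15 zgi13) (kgi xgi27 ygi7 zgi23) (kgi xgi30 ygi21 zgi47) (kgi xgi32 ygi32 zgi57) (kgi xgi32 ygi51 zgi29) (kgi xgi32 ygi51 zgi28)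 (kgi xgi32 ygi50 zgi14) (kgi xgi30 ygi5 zgi52) (kgi xgi29 ygi45 zgi25) (kgi xgi29 ygi33 zgi45) (kgi xgi27 ygi7 zgi32) (kgi xgi29 ygi33 zgi60) (kgi xgi29 ygi33 zgi58) (kgi xgi27 ygi7 zgi35) (kgi xgi29 ygi46 zgi48)) (@D3.rec (fun _ => Pt) (kgi xgi30 ygi16 zgi27) (kgi xgi32 ygi10 zgi48) (kgi xgi30 ygi10 zgi19) (kgi xgi31 ygi46 zgi46) (kgi xgi29 ygi51 zgi6) (kgi xgi30 ygi55 zgi29) (kgi xgi32 ygi23 zgi50) (kgi xgi30 ygi55 zgi59) (kgi xgi32 ygi54 zgi60) (kgi xgi31 ygi3 zgi38) (kgi xgi27 ygi7 zgi54) (kgi xgi32 ygi23 zgi52) (kgi xgi28 ygi51 zgi41) (kgi xgi32 ygi37 zgi1) (kgi xgi32 ygi18 zgi15) (kgi xgi30 ygi35 zgi4) (kgi xgi27 ygi8 zgi22) (kgi xgi31 ygi30 zgi32) (kgi xgi32 ygi42 zgi49) (kgi xgi32 ygi52 zgi20) (kgi xgi32 ygi42 zgi50) (kgi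 xgi29 ygi8 zgi33) (kgi xgi30 ygi32 zgi29) (kgi xgi29 ygi40 zgi16) (kgi xgi27 ygi13 zgi58) (kgi xgi27 ygi13 zgi33) (kgi xgi27 ygi13 zgi34) (kgi xgi30 ygi5 zgi51) (kgi xgi30 ygi5 zgi50) (kgi xgi27 ygi16 zgi61) (kgi xgi29 ygi7 zgi34) (kgi xgi27 ygi53 zgi47) (kgi xgi32 ygi2 zgi38) (kgi xgi32 ygi9 zgi7) (kgi xgi32 ygi56 zgi18) (kgi xgi28 ygi0 zgi14) (kgi xgi32 ygi2 zgi1) (kgi xgi32 ygi34 zgi19) (kgi xgi31 ygi47 zgi7) (kgi xgi31 ygi36 zgi32) (kgi xgi27 ygi10 zgi16) (kgi xgi30 ygi49 zgi47) (kgi xgi29 ygi31 zgi24) (kgi xgi30 ygi27 zgi22) (kgi xgi32 ygi37 zgi38) (kgi xgi27 ygi50 zgi60) (kgi xgi31 ygi24 zgi38) (kgi xgi32 ygi11 zgi61) (kgi xgi32 ygi24 zgi14) (kgi xgi32 ygi46 zgi44) (kgi xgi32 ygi32 zgi51) (kgi xgi29 ygi2 zgi25) (kgi xgi31 ygi32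 zgi15) (kgi xgi31 ygi55 zgi16) (kgi xgi28 ygi22 zgi0) (kgi xgi27 ygi12 zgi20) (kgi xgi32 ygi34 zgi20) (kgi xgi30 ygi24 zgi57) (kgi xgi28 ygi32 zgi8) (kgi xgi31 ygi37 zgi4) (kgi xgi32 ygi50 zgi27) (kgi xgi27 ygi12 zgi60)) (@D3.rec (fun _ => Pt) (kgi xgi27 ygi12 zgi59) (kgi xgi31 ygi25 zgi56) (kgi xgi31 ygi9 zgi57) (kgi xgi27 ygi43 zgi60) (kgi xgi32 ygi55 zgi32) (kgi xgi32 ygi22 zgi1) (kgi xgi32 ygi22 zgi51) (kgi xgi32 ygi22 zgi52) (kgi xgi27 ygi13 zgi17) (kgi xgi27 ygi21 zgi55) (kgi xgi27 ygi13 zgi22) (kgi xgi32 ygi39 zgi45) (kgi xgi32 ygi23 zgi22) (kgi xgi30 ygi15 zgi15) (kgi xgi28 ygi40 zgi45) (kgi xgi32 ygi11 zgi34) (kgi xgi28 ygi24 zgi18) (kgi xgi32 ygi23 zgi6) (kgi xgi29 ygi56 zgi15) (kgi xgi28 ygi33 zgi27) (kgi xgi31 ygi35 zgi2)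 (kgi xgi27 ygi15 zgi12) (kgi xgi27 ygi19 zgi41) (kgi xgi27 ygi14 zgi16) (kgi xgi27 ygi15 zgi9) (kgi xgi27 ygi14 zgi23) (kgi xgi28 ygi25 zgi28) (kgi xgi32 ygi2 zgi24) (kgi xgi30 ygi36 zgi19) (kgi xgi30 ygi15 zgi45) (kgi xgi32 ygi11 zgi56) (kgi xgi30 ygi16 zgi55) (kgi xgi32 ygi24 zgi5) (kgi xgi27 ygi14 zgi56) (kgi xgi32 ygi34 zgi48) (kgi xgi30 ygi32 zgi22) (kgi xgi31 ygi59 zgi55) (kgi xgi29 ygi7 zgi3) (kgi xgi31 ygi48 zgi31) (kgi xgi28 ygi59 zgi58) (kgi xgi32 ygi35 zgi54) (kgi xgi30 ygi38 zgi45) (kgi xgi32 ygi49 zgi57) (kgi xgi31 ygi13 zgi53) (kgi xgi27 ygi15 zgi22) (kgi xgi28 ygi27 zgi54) (kgi xgi28 ygi36 zgi27) (kgi xgi28 ygi23 zgi44) (kgi xgi27 ygi15 zgi26) (kgi xgi28 ygi19 zgi61) (kgi xgi32 ygi31 zgi16) (kgi xgi32 ygi22 zgi7) (kgi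 xgi32 ygi22 zgi6) (kgi xgi31 ygi22 zgi53) (kgi xgi32 ygi41 zgi46) (kgi xgi27 ygi16 zgi1) (kgi xgi32 ygi45 zgi27) (kgi xgi27 ygi16 zgi33) (kgi xgi32 ygi37 zgi55) (kgi xgi32 ygi52 zgi21) (kgi xgi31 ygi14 zgi7) (kgi xgi32 ygi45 zgi46)) (@D3.rec (fun _ => Pt) (kgi xgi30 ygi15 zgi29) (kgi xgi31 ygi52 zgi61) (kgi xgi29 ygi47 zgi27) (kgi xgi32 ygi12 zgi11) (kgi xgi31 ygi31 zgi10) (kgi xgi30 ygi29 zgi33) (kgi xgi27 ygi16 zgi28) (kgi xgi32 ygi57 zgi2) (kgi xgi31 ygi21 zgi5) (kgi xgi30 ygi28 zgi57) (kgi xgi32 ygi51 zgi7) (kgi xgi32 ygi18 zgi36) (kgi xgi29 ygi14 zgi56) (kgi xgi27 ygi16 zgi46) (kgi xgi27 ygi16 zgi45) (kgi xgi32 ygi30 zgi14) (kgi xgi31 ygi25 zgi7) (kgi xgi28 ygi36 zgi6) (kgi xgi32 ygi9 zgi57) (kgi xgi27 ygi16 zgi51) (kgi xgi28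 ygi53 zgi26) (kgi xgi31 ygi16 zgi55) (kgi xgi28 ygi51 zgi59) (kgi xgi32 ygi20 zgi52) (kgi xgi30 ygi19 zgi12) (kgi xgi27 ygi30 zgi36) (kgi xgi27 ygi46 zgi34) (kgi xgi30 ygi15 zgi49) (kgi xgi31 ygi31 zgi9) (kgi xgi29 ygi50 zgi15) (kgi xgi28 ygi31 zgi38) (kgi xgi32 ygi12 zgi49) (kgi xgi27 ygi24 zgi35) (kgi xgi32 ygi10 zgi10) (kgi xgi32 ygi7 zgi42) (kgi xgi30 ygi0 zgi18) (kgi xgi30 ygi13 zgi55) (kgi xgi29 ygi3 zgi31) (kgi xgi30 ygi13 zgi53) (kgi xgi30 ygi54 zgi36) (kgi xgi27 ygi18 zgi1) (kgi xgi30 ygi13 zgi8) (kgi xgi29 ygi58 zgi18) (kgi xgi31 ygi53 zgi0) (kgi xgi32 ygi2 zgi27) (kgi xgi31 ygi54 zgi59) (kgi xgi29 ygi4 zgi49) (kgi xgi29 ygi6 zgi23) (kgi xgi30 ygi33 zgi30) (kgi xgi27 ygi18 zgi27) (kgi xgi27 ygi18 zgi31) (kgi xgi32 ygi21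 zgi6) (kgi xgi32 ygi21 zgi10) (kgi xgi32 ygi48 zgi11) (kgi xgi30 ygi47 zgi13) (kgi xgi32 ygi34 zgi30) (kgi xgi31 ygi47 zgi17) (kgi xgi29 ygi56 zgi28) (kgi xgi27 ygi19 zgi29) (kgi xgi28 ygi26 zgi43) (kgi xgi31 ygi17 zgi21) (kgi xgi29 ygi1 zgi2)) (@D3.rec (fun _ => Pt) (kgi xgi32 ygi13 zgi11) (kgi xgi29 ygi47 zgi38) (kgi xgi31 ygi48 zgi7) (kgi xgi29 ygi45 zgi59) (kgi xgi32 ygi12 zgi3) (kgi xgi32 ygi13 zgi57) (kgi xgi27 ygi19 zgi24) (kgi xgi30 ygi7 zgi2) (kgi xgi31 ygi18 zgi56) (kgi xgi31 ygi47 zgi39) (kgi xgi32 ygi41 zgi37) (kgi xgi32 ygi9 zgi47) (kgi xgi31 ygi3 zgi53) (kgi xgi29 ygi5 zgi14) (kgi xgi32 ygi19 zgi38) (kgi xgi32 ygi52 zgi27) (kgi xgi30 ygi56 zgi29) (kgi xgi32 ygi52 zgi16) (kgi xgi27 ygi43 zgi15) (kgi xgi31 ygi17 zgi38)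 (kgi xgi27 ygi22 zgi31) (kgi xgi32 ygi14 zgi37) (kgi xgi30 ygi4 zgi9) (kgi xgi32 ygi33 zgi50) (kgi xgi29 ygi40 zgi61) (kgi xgi32 ygi38 zgi35) (kgi xgi31 ygi54 zgi31) (kgi xgi31 ygi16 zgi15) (kgi xgi31 ygi59 zgi14) (kgi xgi29 ygi49 zgi35) (kgi xgi29 ygi56 zgi53) (kgi xgi32 ygi42 zgi7) (kgi xgi32 ygi48 zgi61) (kgi xgi32 ygi48 zgi55) (kgi xgi31 ygi4 zgi30) (kgi xgi27 ygi46 zgi56) (kgi xgi27 ygi37 zgi17) (kgi xgi28 ygi38 zgi14) (kgi xgi27 ygi24 zgi3) (kgi xgi29 ygi13 zgi46) (kgi xgi32 ygi32 zgi3) (kgi xgi27 ygi24 zgi4) (kgi xgi32 ygi58 zgi8) (kgi xgi30 ygi17 zgi50) (kgi xgi32 ygi50 zgi29) (kgi xgi28 ygi35 zgi37) (kgi xgi29 ygi15 zgi60) (kgi xgi32 ygi54 zgi38) (kgi xgi32 ygi5 zgi42) (kgi xgi29 ygi29 zgi55) (kgi xgi27 ygi46 zgi18) (kgi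 xgi31 ygi12 zgi0) (kgi xgi27 ygi29 zgi0) (kgi xgi27 ygi31 zgi27) (kgi xgi32 ygi25 zgi6) (kgi xgi28 ygi12 zgi2) (kgi xgi29 ygi54 zgi18) (kgi xgi27 ygi28 zgi58) (kgi xgi29 ygi48 zgi34) (kgi xgi27 ygi25 zgi47) (kgi xgi32 ygi56 zgi28) (kgi xgi28 ygi41 zgi41)) (@D3.rec (fun _ => Pt) (kgi xgi27 ygi25 zgi50) (kgi xgi30 ygi13 zgi3) (kgi xgi27 ygi26 zgi17) (kgi xgi32 ygi5 zgi44) (kgi xgi31 ygi11 zgi46) (kgi xgi27 ygi31 zgi24) (kgi xgi32 ygi24 zgi59) (kgi xgi27 ygi27 zgi13) (kgi xgi31 ygi33 zgi61) (kgi xgi31 ygi36 zgi0) (kgi xgi27 ygi28 zgi14) (kgi xgi31 ygi44 zgi1) (kgi xgi27 ygi28 zgi22) (kgi xgi27 ygi46 zgi16) (kgi xgi32 ygi35 zgi24) (kgi xgi29 ygi54 zgi15) (kgi xgi28 ygi15 zgi23) (kgi xgi31 ygi51 zgi1) (kgi xgi32 ygi35 zgi37) (kgi xgi32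 ygi28 zgi10) (kgi xgi32 ygi59 zgi11) (kgi xgi31 ygi47 zgi61) (kgi xgi29 ygi15 zgi35) (kgi xgi29 ygi36 zgi10) (kgi xgi31 ygi20 zgi44) (kgi xgi32 ygi28 zgi31) (kgi xgi27 ygi31 zgi21) (kgi xgi32 ygi6 zgi8) (kgi xgi32 ygi28 zgi34) (kgi xgi31 ygi14 zgi54) (kgi xgi28 ygi1 zgi56) (kgi xgi27 ygi31 zgi54) (kgi xgi31 ygi39 zgi24) (kgi xgi30 ygi44 zgi29) (kgi xgi27 ygi32 zgi5) (kgi xgi32 ygi53 zgi37) (kgi xgi27 ygi51 zgi45) (kgi xgi28 ygi27 zgi23) (kgi xgi27 ygi50 zgi9) (kgi xgi28 ygi3 zgi15) (kgi xgi32 ygi10 zgi1) (kgi xgi27 ygi32 zgi20) (kgi xgi31 ygi39 zgi35) (kgi xgi32 ygi44 zgi25) (kgi xgi27 ygi32 zgi23) (kgi xgi27 ygi32 zgi30) (kgi xgi29 ygi21 zgi1) (kgi xgi28 ygi7 zgi33) (kgi xgi32 ygi26 zgi13) (kgi xgi30 ygi44 zgi61) (kgi xgi27 ygi50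 zgi1) (kgi xgi31 ygi39 zgi27) (kgi xgi30 ygi44 zgi58) (kgi xgi32 ygi59 zgi15) (kgi xgi32 ygi27 zgi38) (kgi xgi32 ygi54 zgi19) (kgi xgi30 ygi44 zgi30) (kgi xgi28 ygi28 zgi48) (kgi xgi28 ygi46 zgi6) (kgi xgi27 ygi32 zgi48) (kgi xgi32 ygi26 zgi56) (kgi xgi27 ygi33 zgi46)) (@D3.rec (fun _ => Pt) (kgi xgi28 ygi6 zgi6) (kgi xgi27 ygi33 zgi22) (kgi xgi27 ygi55 zgi21) (kgi xgi27 ygi47 zgi48) (kgi xgi32 ygi27 zgi30) (kgi xgi27 ygi33 zgi2) (kgi xgi27 ygi51 zgi14) (kgi xgi32 ygi31 zgi33) (kgi xgi30 ygi44 zgi32) (kgi xgi32 ygi26 zgi29) (kgi xgi28 ygi25 zgi40) (kgi xgi31 ygi27 zgi53) (kgi xgi27 ygi33 zgi20) (kgi xgi32 ygi25 zgi51) (kgi xgi27 ygi34 zgi52) (kgi xgi28 ygi9 zgi32) (kgi xgi32 ygi26 zgi48) (kgi xgi32 ygi53 zgi32) (kgi xgi32 ygi55 zgi17)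 (kgi xgi32 ygi57 zgi34) (kgi xgi32 ygi29 zgi5) (kgi xgi31 ygi49 zgi29) (kgi xgi28 ygi9 zgi22) (kgi xgi28 ygi8 zgi22) (kgi xgi27 ygi51 zgi38) (kgi xgi28 ygi6 zgi11) (kgi xgi32 ygi56 zgi56) (kgi xgi28 ygi6 zgi7) (kgi xgi31 ygi59 zgi31) (kgi xgi29 ygi53 zgi22) (kgi xgi31 ygi55 zgi17) (kgi xgi28 ygi5 zgi57) (kgi xgi32 ygi25 zgi34) (kgi xgi32 ygi6 zgi59) (kgi xgi28 ygi27 zgi28) (kgi xgi28 ygi8 zgi6) (kgi xgi32 ygi26 zgi61) (kgi xgi27 ygi37 zgi56) (kgi xgi27 ygi34 zgi18) (kgi xgi32 ygi6 zgi47) (kgi xgi31 ygi5 zgi41) (kgi xgi31 ygi39 zgi12) (kgi xgi32 ygi29 zgi16) (kgi xgi32 ygi35 zgi40) (kgi xgi28 ygi16 zgi50) (kgi xgi32 ygi57 zgi6) (kgi xgi32 ygi29 zgi14) (kgi xgi32 ygi4 zgi60) (kgi xgi30 ygi41 zgi30) (kgi xgi27 ygi35 zgi11) (kgi xgi32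 ygi57 zgi7) (kgi xgi32 ygi50 zgi9) (kgi xgi32 ygi58 zgi61) (kgi xgi32 ygi26 zgi4) (kgi xgi27 ygi53 zgi41) (kgi xgi32 ygi25 zgi60) (kgi xgi32 ygi4 zgi55) (kgi xgi27 ygi54 zgi46) (kgi xgi27 ygi35 zgi18) (kgi xgi28 ygi4 zgi40) (kgi xgi31 ygi57 zgi44) (kgi xgi32 ygi26 zgi33)) (@D3.rec (fun _ => Pt) (kgi xgi31 ygi14 zgi58) (kgi xgi31 ygi7 zgi51) (kgi xgi27 ygi36 zgi44) (kgi xgi27 ygi35 zgi45) (kgi xgi28 ygi45 zgi2) (kgi xgi28 ygi54 zgi31) (kgi xgi30 ygi39 zgi14) (kgi xgi29 ygi35 zgi23) (kgi xgi28 ygi45 zgi11) (kgi xgi30 ygi34 zgi28) (kgi xgi28 ygi57 zgi2) (kgi xgi32 ygi11 zgi28) (kgi xgi27 ygi36 zgi51) (kgi xgi31 ygi52 zgi54) (kgi xgi32 ygi43 zgi37) (kgi xgi31 ygi52 zgi4) (kgi xgi27 ygi37 zgi1) (kgi xgi32 ygi44 zgi47) (kgi xgi31 ygi40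 zgi33) (kgi xgi27 ygi37 zgi7) (kgi xgi31 ygi51 zgi60) (kgi xgi32 ygi59 zgi17) (kgi xgi31 ygi41 zgi37) (kgi xgi32 ygi30 zgi19) (kgi xgi31 ygi40 zgi42) (kgi xgi32 ygi57 zgi11) (kgi xgi29 ygi39 zgi37) (kgi xgi27 ygi55 zgi14) (kgi xgi31 ygi5 zgi35) (kgi xgi28 ygi7 zgi50) (kgi xgi32 ygi28 zgi35) (kgi xgi32 ygi6 zgi46) (kgi xgi27 ygi53 zgi21) (kgi xgi32 ygi9 zgi39) (kgi xgi32 ygi54 zgi39) (kgi xgi27 ygi39 zgi52) (kgi xgi32 ygi3 zgi55) (kgi xgi27 ygi39 zgi60) (kgi xgi27 ygi54 zgi61) (kgi xgi28 ygi3 zgi33) (kgi xgi31 ygi0 zgi17) (kgi xgi32 ygi38 zgi49) (kgi xgi30 ygi33 zgi13) (kgi xgi31 ygi11 zgi50) (kgi xgi28 ygi10 zgi33) (kgi xgi31 ygi11 zgi19) (kgi xgi27 ygi40 zgi57) (kgi xgi31 ygi10 zgi61) (kgi xgi32 ygi43 zgi10) (kgi xgi32 ygi55 zgi26)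 (kgi xgi32 ygi55 zgi25) (kgi xgi32 ygi30 zgi42) (kgi xgi30 ygi2 zgi56) (kgi xgi29 ygi49 zgi16) (kgi xgi28 ygi57 zgi1) (kgi xgi31 ygi45 zgi33) (kgi xgi29 ygi0 zgi41) (kgi xgi31 ygi16 zgi58) (kgi xgi29 ygi16 zgi34) (kgi xgi32 ygi35 zgi34) (kgi xgi32 ygi36 zgi58) (kgi xgi29 ygi32 zgi3)) (@D3.rec (fun _ => Pt) (kgi xgi32 ygi50 zgi11) (kgi xgi32 ygi55 zgi55) (kgi xgi29 ygi30 zgi55) (kgi xgi32 ygi15 zgi58) (kgi xgi32 ygi42 zgi37) (kgi xgi27 ygi44 zgi10) (kgi xgi30 ygi47 zgi15) (kgi xgi29 ygi53 zgi26) (kgi xgi31 ygi53 zgi4) (kgi xgi28 ygi43 zgi47) (kgi xgi32 ygi25 zgi18) (kgi xgi31 ygi57 zgi52) (kgi xgi31 ygi59 zgi22) (kgi xgi32 ygi25 zgi14) (kgi xgi32 ygi28 zgi19) (kgi xgi28 ygi41 zgi18) (kgi xgi31 ygi11 zgi51) (kgi xgi29 ygi9 zgi55) (kgi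 xgi32 ygi28 zgi15) (kgi xgi31 ygi12 zgi12) (kgi xgi32 ygi31 zgi37) (kgi xgi28 ygi3 zgi17) (kgi xgi31 ygi44 zgi33) (kgi xgi27 ygi54 zgi30) (kgi xgi32 ygi6 zgi45) (kgi xgi28 ygi3 zgi3) (kgi xgi30 ygi17 zgi21) (kgi xgi28 ygi34 zgi48) (kgi xgi31 ygi48 zgi37) (kgi xgi28 ygi28 zgi6) (kgi xgi32 ygi6 zgi36) (kgi xgi27 ygi47 zgi32) (kgi xgi30 ygi35 zgi37) (kgi xgi32 ygi28 zgi57) (kgi xgi32 ygi42 zgi15) (kgi xgi32 ygi26 zgi53) (kgi xgi27 ygi48 zgi27) (kgi xgi32 ygi58 zgi52) (kgi xgi32 ygi6 zgi34) (kgi xgi28 ygi31 zgi46) (kgi xgi27 ygi49 zgi1) (kgi xgi27 ygi49 zgi13) (kgi xgi30 ygi35 zgi27) (kgi xgi27 ygi55 zgi6) (kgi xgi32 ygi29 zgi3) (kgi xgi27 ygi49 zgi31) (kgi xgi31 ygi45 zgi34) (kgi xgi27 ygi49 zgi28) (kgi xgi31 ygi7 zgi43) (kgi xgi28 ygi9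 zgi28) (kgi xgi27 ygi49 zgi41) (kgi xgi32 ygi33 zgi6) (kgi xgi32 ygi48 zgi40) (kgi xgi32 ygi46 zgi34) (kgi xgi31 ygi54 zgi33) (kgi xgi31 ygi53 zgi57) (kgi xgi30 ygi43 zgi47) (kgi xgi27 ygi49 zgi57) (kgi xgi32 ygi35 zgi1) (kgi xgi28 ygi27 zgi21) (kgi xgi32 ygi31 zgi36) (kgi xgi31 ygi43 zgi31)) (@D3.rec (fun _ => Pt) (kgi xgi32 ygi7 zgi27) (kgi xgi27 ygi50 zgi10) (kgi xgi32 ygi31 zgi43) (kgi xgi32 ygi28 zgi55) (kgi xgi30 ygi35 zgi26) (kgi xgi32 ygi27 zgi48) (kgi xgi27 ygi50 zgi25) (kgi xgi31 ygi5 zgi7) (kgi xgi31 ygi11 zgi22) (kgi xgi27 ygi52 zgi42) (kgi xgi32 ygi49 zgi52) (kgi xgi28 ygi21 zgi33) (kgi xgi31 ygi14 zgi40) (kgi xgi31 ygi4 zgi46) (kgi xgi31 ygi4 zgi47) (kgi xgi31 ygi45 zgi14) (kgi xgi27 ygi51 zgi33) (kgi xgi31 ygi57 zgi35)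 (kgi xgi32 ygi58 zgi35) (kgi xgi32 ygi31 zgi35) (kgi xgi28 ygi5 zgi12) (kgi xgi29 ygi20 zgi39) (kgi xgi32 ygi10 zgi5) (kgi xgi30 ygi48 zgi12) (kgi xgi32 ygi10 zgi25) (kgi xgi30 ygi48 zgi15) (kgi xgi31 ygi55 zgi18) (kgi xgi29 ygi20 zgi31) (kgi xgi32 ygi9 zgi14) (kgi xgi31 ygi25 zgi21) (kgi xgi27 ygi51 zgi60) (kgi xgi28 ygi9 zgi17) (kgi xgi32 ygi17 zgi13) (kgi xgi32 ygi1 zgi42) (kgi xgi27 ygi52 zgi10) (kgi xgi27 ygi52 zgi15) (kgi xgi29 ygi20 zgi44) (kgi xgi32 ygi7 zgi18) (kgi xgi27 ygi54 zgi9) (kgi xgi29 ygi25 zgi12) (kgi xgi28 ygi37 zgi58) (kgi xgi32 ygi32 zgi1) (kgi xgi28 ygi7 zgi48) (kgi xgi31 ygi15 zgi24) (kgi xgi29 ygi16 zgi33) (kgi xgi32 ygi30 zgi16) (kgi xgi32 ygi28 zgi59) (kgi xgi32 ygi31 zgi30) (kgi xgi27 ygi52 zgi48) (kgi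 xgi31 ygi15 zgi10) (kgi xgi27 ygi52 zgi52) (kgi xgi32 ygi18 zgi22) (kgi xgi31 ygi16 zgi21) (kgi xgi32 ygi6 zgi58) (kgi xgi31 ygi16 zgi24) (kgi xgi32 ygi34 zgi3) (kgi xgi29 ygi20 zgi30) (kgi xgi27 ygi53 zgi6) (kgi xgi32 ygi48 zgi38) (kgi xgi27 ygi53 zgi13) (kgi xgi28 ygi8 zgi40) (kgi xgi31 ygi45 zgi15)) (@D3.rec (fun _ => Pt) (kgi xgi28 ygi8 zgi58) (kgi xgi27 ygi54 zgi26) (kgi xgi32 ygi24 zgi24) (kgi xgi32 ygi53 zgi61) (kgi xgi31 ygi13 zgi27) (kgi xgi31 ygi42 zgi11) (kgi xgi32 ygi58 zgi49) (kgi xgi32 ygi27 zgi44) (kgi xgi27 ygi53 zgi44) (kgi xgi30 ygi54 zgi2) (kgi xgi28 ygi27 zgi19) (kgi xgi28 ygi6 zgi21) (kgi xgi31 ygi58 zgi39) (kgi xgi30 ygi26 zgi29) (kgi xgi32 ygi23 zgi14) (kgi xgi27 ygi54 zgi60) (kgi xgi32 ygi29 zgi48) (kgi xgi32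 ygi22 zgi33) (kgi xgi29 ygi24 zgi21) (kgi xgi32 ygi26 zgi25) (kgi xgi32 ygi7 zgi21) (kgi xgi27 ygi55 zgi13) (kgi xgi32 ygi29 zgi1) (kgi xgi30 ygi5 zgi2) (kgi xgi32 ygi32 zgi13) (kgi xgi28 ygi9 zgi33) (kgi xgi27 ygi55 zgi27) (kgi xgi31 ygi23 zgi3) (kgi xgi32 ygi10 zgi2) (kgi xgi30 ygi40 zgi32) (kgi xgi27 ygi56 zgi31) (kgi xgi31 ygi8 zgi47) (kgi xgi31 ygi57 zgi36) (kgi xgi27 ygi56 zgi32) (kgi xgi32 ygi43 zgi7) (kgi xgi32 ygi56 zgi20) (kgi xgi31 ygi44 zgi30) (kgi xgi28 ygi9 zgi24) (kgi xgi32 ygi30 zgi6) (kgi xgi31 ygi8 zgi37) (kgi xgi29 ygi10 zgi35) (kgi xgi30 ygi52 zgi37) (kgi xgi27 ygi58 zgi0) (kgi xgi30 ygi52 zgi35) (kgi xgi31 ygi11 zgi53) (kgi xgi27 ygi58 zgi5) (kgi xgi31 ygi4 zgi56) (kgi xgi31 ygi8 zgi31) (kgi xgi28 ygi0 zgi10)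 (kgi xgi28 ygi24 zgi28) (kgi xgi30 ygi30 zgi44) (kgi xgi32 ygi46 zgi26) (kgi xgi29 ygi16 zgi11) (kgi xgi32 ygi21 zgi48) (kgi xgi30 ygi45 zgi16) (kgi xgi32 ygi7 zgi2) (kgi xgi32 ygi9 zgi3) (kgi xgi30 ygi24 zgi18) (kgi xgi29 ygi46 zgi35) (kgi xgi28 ygi28 zgi21) (kgi xgi28 ygi45 zgi7) (kgi xgi28 ygi58 zgi32)) (@D3.rec (fun _ => Pt) (kgi xgi28 ygi1 zgi54) (kgi xgi28 ygi2 zgi3) (kgi xgi28 ygi2 zgi5) (kgi xgi31 ygi1 zgi37) (kgi xgi28 ygi2 zgi11) (kgi xgi32 ygi31 zgi25) (kgi xgi28 ygi2 zgi61) (kgi xgi31 ygi14 zgi42) (kgi xgi32 ygi23 zgi26) (kgi xgi28 ygi46 zgi0) (kgi xgi28 ygi18 zgi27) (kgi xgi31 ygi21 zgi41) (kgi xgi30 ygi5 zgi46) (kgi xgi28 ygi2 zgi57) (kgi xgi28 ygi2 zgi58) (kgi xgi30 ygi14 zgi40) (kgi xgi31 ygi39 zgi31) (kgi xgi28 ygi3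 zgi24) (kgi xgi28 ygi3 zgi27) (kgi xgi32 ygi56 zgi19) (kgi xgi31 ygi44 zgi28) (kgi xgi32 ygi6 zgi7) (kgi xgi32 ygi22 zgi50) (kgi xgi32 ygi58 zgi47) (kgi xgi28 ygi3 zgi41) (kgi xgi30 ygi58 zgi2) (kgi xgi32 ygi38 zgi7) (kgi xgi28 ygi4 zgi5) (kgi xgi31 ygi44 zgi23) (kgi xgi28 ygi4 zgi12) (kgi xgi32 ygi29 zgi42) (kgi xgi32 ygi8 zgi37) (kgi xgi32 ygi58 zgi53) (kgi xgi28 ygi4 zgi37) (kgi xgi30 ygi3 zgi33) (kgi xgi31 ygi10 zgi1) (kgi xgi28 ygi4 zgi42) (kgi xgi28 ygi4 zgi43) (kgi xgi28 ygi36 zgi15) (kgi xgi28 ygi19 zgi20) (kgi xgi31 ygi43 zgi16) (kgi xgi32 ygi10 zgi21) (kgi xgi32 ygi34 zgi45) (kgi xgi32 ygi59 zgi9) (kgi xgi31 ygi8 zgi19) (kgi xgi32 ygi53 zgi29) (kgi xgi28 ygi9 zgi25) (kgi xgi28 ygi32 zgi12) (kgi xgi32 ygi58 zgi32) (kgi xgi28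 ygi5 zgi47) (kgi xgi32 ygi29 zgi26) (kgi xgi31 ygi25 zgi37) (kgi xgi30 ygi52 zgi12) (kgi xgi28 ygi5 zgi50) (kgi xgi28 ygi36 zgi11) (kgi xgi28 ygi36 zgi18) (kgi xgi32 ygi22 zgi35) (kgi xgi32 ygi53 zgi46) (kgi xgi28 ygi47 zgi15) (kgi xgi32 ygi17 zgi0) (kgi xgi30 ygi41 zgi31) (kgi xgi31 ygi2 zgi4)) (@D3.rec (fun _ => Pt) (kgi xgi31 ygi14 zgi60) (kgi xgi32 ygi28 zgi42) (kgi xgi31 ygi42 zgi32) (kgi xgi32 ygi26 zgi45) (kgi xgi28 ygi9 zgi0) (kgi xgi32 ygi56 zgi11) (kgi xgi30 ygi44 zgi47) (kgi xgi28 ygi55 zgi21) (kgi xgi31 ygi50 zgi52) (kgi xgi31 ygi23 zgi31) (kgi xgi30 ygi40 zgi15) (kgi xgi30 ygi21 zgi2) (kgi xgi32 ygi30 zgi3) (kgi xgi29 ygi26 zgi55) (kgi xgi28 ygi8 zgi27) (kgi xgi32 ygi31 zgi39) (kgi xgi32 ygi32 zgi9) (kgi xgi28 ygi48 zgi11)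 (kgi xgi30 ygi34 zgi50) (kgi xgi30 ygi2 zgi59) (kgi xgi29 ygi58 zgi33) (kgi xgi28 ygi9 zgi29) (kgi xgi28 ygi15 zgi3) (kgi xgi32 ygi44 zgi24) (kgi xgi31 ygi1 zgi2) (kgi xgi31 ygi12 zgi22) (kgi xgi28 ygi10 zgi10) (kgi xgi31 ygi39 zgi30) (kgi xgi32 ygi57 zgi9) (kgi xgi28 ygi10 zgi35) (kgi xgi29 ygi10 zgi57) (kgi xgi28 ygi10 zgi36) (kgi xgi29 ygi10 zgi59) (kgi xgi31 ygi7 zgi50) (kgi xgi32 ygi21 zgi2) (kgi xgi32 ygi8 zgi13) (kgi xgi31 ygi46 zgi23) (kgi xgi28 ygi18 zgi37) (kgi xgi32 ygi14 zgi13) (kgi xgi32 ygi48 zgi57) (kgi xgi31 ygi11 zgi48) (kgi xgi32 ygi15 zgi61) (kgi xgi32 ygi15 zgi57) (kgi xgi32 ygi32 zgi5) (kgi xgi30 ygi6 zgi6) (kgi xgi30 ygi11 zgi21) (kgi xgi28 ygi18 zgi15) (kgi xgi29 ygi51 zgi41) (kgi xgi28 ygi13 zgi24) (kgi xgi32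 ygi43 zgi6) (kgi xgi30 ygi58 zgi40) (kgi xgi31 ygi20 zgi42) (kgi xgi29 ygi23 zgi58) (kgi xgi29 ygi39 zgi9) (kgi xgi28 ygi45 zgi59) (kgi xgi30 ygi55 zgi52) (kgi xgi31 ygi51 zgi33) (kgi xgi31 ygi38 zgi10) (kgi xgi28 ygi14 zgi44) (kgi xgi32 ygi58 zgi42) (kgi xgi28 ygi21 zgi40) (kgi xgi32 ygi20 zgi18)) (@D3.rec (fun _ => Pt) (kgi xgi30 ygi39 zgi30) (kgi xgi32 ygi57 zgi32) (kgi xgi28 ygi52 zgi2) (kgi xgi30 ygi56 zgi53) (kgi xgi28 ygi15 zgi47) (kgi xgi28 ygi51 zgi51) (kgi xgi30 ygi44 zgi46) (kgi xgi29 ygi5 zgi30) (kgi xgi32 ygi34 zgi27) (kgi xgi32 ygi40 zgi25) (kgi xgi32 ygi44 zgi34) (kgi xgi32 ygi19 zgi9) (kgi xgi29 ygi8 zgi38) (kgi xgi32 ygi56 zgi44) (kgi xgi32 ygi51 zgi9) (kgi xgi32 ygi57 zgi16) (kgi xgi32 ygi51 zgi12) (kgi xgi32 ygi16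 zgi43) (kgi xgi32 ygi19 zgi33) (kgi xgi30 ygi18 zgi56) (kgi xgi32 ygi57 zgi15) (kgi xgi29 ygi59 zgi28) (kgi xgi30 ygi56 zgi12) (kgi xgi32 ygi45 zgi57) (kgi xgi28 ygi17 zgi53) (kgi xgi32 ygi35 zgi55) (kgi xgi31 ygi25 zgi30) (kgi xgi31 ygi29 zgi49) (kgi xgi28 ygi18 zgi24) (kgi xgi31 ygi31 zgi15) (kgi xgi30 ygi28 zgi20) (kgi xgi32 ygi22 zgi30) (kgi xgi29 ygi33 zgi27) (kgi xgi32 ygi22 zgi61) (kgi xgi31 ygi47 zgi36) (kgi xgi28 ygi24 zgi10) (kgi xgi28 ygi30 zgi5) (kgi xgi32 ygi12 zgi60) (kgi xgi28 ygi18 zgi50) (kgi xgi30 ygi50 zgi33) (kgi xgi28 ygi32 zgi58) (kgi xgi31 ygi45 zgi53) (kgi xgi28 ygi38 zgi28) (kgi xgi28 ygi21 zgi41) (kgi xgi29 ygi54 zgi36) (kgi xgi29 ygi7 zgi33) (kgi xgi30 ygi33 zgi8) (kgi xgi28 ygi21 zgi17) (kgi xgi30 ygi43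 zgi13) (kgi xgi31 ygi49 zgi50) (kgi xgi29 ygi28 zgi7) (kgi xgi28 ygi58 zgi50) (kgi xgi28 ygi21 zgi38) (kgi xgi28 ygi34 zgi56) (kgi xgi30 ygi12 zgi11) (kgi xgi28 ygi56 zgi3) (kgi xgi28 ygi21 zgi37) (kgi xgi28 ygi38 zgi11) (kgi xgi30 ygi22 zgi0) (kgi xgi32 ygi34 zgi10) (kgi xgi31 ygi40 zgi28) (kgi xgi30 ygi16 zgi20)) (@D3.rec (fun _ => Pt) (kgi xgi31 ygi31 zgi11) (kgi xgi31 ygi29 zgi16) (kgi xgi32 ygi40 zgi12) (kgi xgi32 ygi28 zgi52) (kgi xgi32 ygi9 zgi23) (kgi xgi31 ygi26 zgi24) (kgi xgi28 ygi22 zgi25) (kgi xgi31 ygi30 zgi51) (kgi xgi30 ygi51 zgi5) (kgi xgi31 ygi12 zgi58) (kgi xgi28 ygi22 zgi36) (kgi xgi30 ygi33 zgi4) (kgi xgi31 ygi30 zgi30) (kgi xgi32 ygi32 zgi35) (kgi xgi30 ygi29 zgi50) (kgi xgi30 ygi11 zgi56) (kgi xgi31 ygi16 zgi11)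 (kgi xgi32 ygi2 zgi21) (kgi xgi28 ygi23 zgi52) (kgi xgi31 ygi32 zgi44) (kgi xgi30 ygi47 zgi48) (kgi xgi30 ygi53 zgi3) (kgi xgi28 ygi24 zgi7) (kgi xgi32 ygi18 zgi25) (kgi xgi31 ygi21 zgi48) (kgi xgi30 ygi28 zgi59) (kgi xgi32 ygi22 zgi15) (kgi xgi32 ygi33 zgi9) (kgi xgi31 ygi47 zgi4) (kgi xgi28 ygi24 zgi21) (kgi xgi32 ygi23 zgi53) (kgi xgi29 ygi30 zgi42) (kgi xgi30 ygi43 zgi56) (kgi xgi32 ygi50 zgi23) (kgi xgi28 ygi25 zgi11) (kgi xgi32 ygi15 zgi43) (kgi xgi32 ygi27 zgi61) (kgi xgi29 ygi43 zgi6) (kgi xgi31 ygi52 zgi30) (kgi xgi28 ygi25 zgi24) (kgi xgi31 ygi16 zgi28) (kgi xgi31 ygi16 zgi26) (kgi xgi32 ygi18 zgi30) (kgi xgi29 ygi42 zgi3) (kgi xgi28 ygi25 zgi29) (kgi xgi31 ygi1 zgi22) (kgi xgi28 ygi25 zgi44) (kgi xgi29 ygi54 zgi61) (kgi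 xgi31 ygi30 zgi8) (kgi xgi30 ygi50 zgi32) (kgi xgi30 ygi39 zgi17) (kgi xgi31 ygi38 zgi41) (kgi xgi30 ygi25 zgi34) (kgi xgi29 ygi14 zgi30) (kgi xgi32 ygi52 zgi59) (kgi xgi32 ygi44 zgi41) (kgi xgi32 ygi59 zgi23) (kgi xgi28 ygi27 zgi57) (kgi xgi31 ygi59 zgi32) (kgi xgi31 ygi23 zgi35) (kgi xgi32 ygi44 zgi27) (kgi xgi32 ygi57 zgi33)) (@D3.rec (fun _ => Pt) (kgi xgi30 ygi31 zgi16) (kgi xgi32 ygi54 zgi20) (kgi xgi32 ygi56 zgi2) (kgi xgi28 ygi33 zgi23) (kgi xgi28 ygi33 zgi47) (kgi xgi28 ygi43 zgi3) (kgi xgi31 ygi58 zgi5) (kgi xgi28 ygi36 zgi26) (kgi xgi32 ygi9 zgi36) (kgi xgi30 ygi43 zgi11) (kgi xgi32 ygi43 zgi40) (kgi xgi29 ygi21 zgi18) (kgi xgi32 ygi36 zgi45) (kgi xgi28 ygi35 zgi32) (kgi xgi28 ygi35 zgi16) (kgi xgi32 ygi9 zgi17) (kgi xgi28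 ygi35 zgi13) (kgi xgi28 ygi29 zgi28) (kgi xgi28 ygi34 zgi46) (kgi xgi30 ygi19 zgi18) (kgi xgi28 ygi33 zgi5) (kgi xgi28 ygi29 zgi51) (kgi xgi32 ygi9 zgi6) (kgi xgi28 ygi41 zgi42) (kgi xgi32 ygi38 zgi9) (kgi xgi28 ygi39 zgi28) (kgi xgi31 ygi42 zgi5) (kgi xgi32 ygi59 zgi25) (kgi xgi28 ygi39 zgi23) (kgi xgi32 ygi18 zgi35) (kgi xgi32 ygi38 zgi30) (kgi xgi32 ygi39 zgi55) (kgi xgi32 ygi45 zgi30) (kgi xgi28 ygi37 zgi60) (kgi xgi31 ygi55 zgi59) (kgi xgi28 ygi42 zgi13) (kgi xgi28 ygi30 zgi39) (kgi xgi32 ygi25 zgi19) (kgi xgi28 ygi30 zgi45) (kgi xgi31 ygi26 zgi59) (kgi xgi32 ygi33 zgi25) (kgi xgi28 ygi45 zgi1) (kgi xgi28 ygi54 zgi40) (kgi xgi28 ygi47 zgi17) (kgi xgi28 ygi31 zgi22) (kgi xgi28 ygi31 zgi52) (kgi xgi32 ygi43 zgi21) (kgi xgi30 ygi26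 zgi55) (kgi xgi31 ygi25 zgi10) (kgi xgi32 ygi23 zgi54) (kgi xgi32 ygi33 zgi55) (kgi xgi31 ygi16 zgi6) (kgi xgi31 ygi13 zgi32) (kgi xgi32 ygi38 zgi53) (kgi xgi29 ygi37 zgi8) (kgi xgi32 ygi26 zgi43) (kgi xgi30 ygi38 zgi36) (kgi xgi28 ygi38 zgi37) (kgi xgi28 ygi33 zgi2) (kgi xgi28 ygi38 zgi25) (kgi xgi29 ygi8 zgi27) (kgi xgi30 ygi21 zgi26)) (@D3.rec (fun _ => Pt) (kgi xgi31 ygi51 zgi46) (kgi xgi32 ygi45 zgi16) (kgi xgi31 ygi21 zgi32) (kgi xgi28 ygi33 zgi32) (kgi xgi31 ygi31 zgi42) (kgi xgi32 ygi15 zgi25) (kgi xgi32 ygi13 zgi45) (kgi xgi32 ygi35 zgi15) (kgi xgi28 ygi34 zgi19) (kgi xgi32 ygi45 zgi24) (kgi xgi28 ygi34 zgi53) (kgi xgi28 ygi34 zgi58) (kgi xgi29 ygi32 zgi21) (kgi xgi28 ygi35 zgi3) (kgi xgi28 ygi40 zgi26) (kgi xgi32 ygi51 zgi2)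 (kgi xgi29 ygi21 zgi21) (kgi xgi28 ygi35 zgi15) (kgi xgi32 ygi37 zgi44) (kgi xgi32 ygi18 zgi40) (kgi xgi32 ygi36 zgi7) (kgi xgi32 ygi45 zgi29) (kgi xgi32 ygi12 zgi21) (kgi xgi32 ygi47 zgi3) (kgi xgi28 ygi35 zgi27) (kgi xgi32 ygi57 zgi19) (kgi xgi31 ygi17 zgi27) (kgi xgi28 ygi53 zgi19) (kgi xgi28 ygi35 zgi47) (kgi xgi30 ygi37 zgi43) (kgi xgi28 ygi35 zgi55) (kgi xgi30 ygi22 zgi15) (kgi xgi28 ygi36 zgi13) (kgi xgi30 ygi12 zgi21) (kgi xgi29 ygi27 zgi23) (kgi xgi29 ygi14 zgi12) (kgi xgi31 ygi29 zgi5) (kgi xgi31 ygi56 zgi61) (kgi xgi28 ygi36 zgi61) (kgi xgi32 ygi43 zgi31) (kgi xgi31 ygi52 zgi33) (kgi xgi28 ygi51 zgi21) (kgi xgi32 ygi42 zgi36) (kgi xgi29 ygi14 zgi19) (kgi xgi32 ygi9 zgi41) (kgi xgi30 ygi56 zgi8) (kgi xgi32 ygi37 zgi14) (kgi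 xgi32 ygi10 zgi0) (kgi xgi30 ygi23 zgi53) (kgi xgi28 ygi37 zgi36) (kgi xgi30 ygi39 zgi31) (kgi xgi32 ygi52 zgi13) (kgi xgi32 ygi33 zgi23) (kgi xgi32 ygi53 zgi7) (kgi xgi32 ygi12 zgi31) (kgi xgi31 ygi49 zgi47) (kgi xgi28 ygi38 zgi8) (kgi xgi29 ygi15 zgi56) (kgi xgi29 ygi56 zgi36) (kgi xgi28 ygi38 zgi31) (kgi xgi32 ygi47 zgi4) (kgi xgi32 ygi46 zgi18)) (@D3.rec (fun _ => Pt) (kgi xgi32 ygi21 zgi14) (kgi xgi28 ygi38 zgi30) (kgi xgi32 ygi21 zgi13) (kgi xgi28 ygi38 zgi32) (kgi xgi30 ygi21 zgi41) (kgi xgi31 ygi24 zgi7) (kgi xgi31 ygi23 zgi13) (kgi xgi32 ygi53 zgi47) (kgi xgi32 ygi40 zgi61) (kgi xgi32 ygi39 zgi38) (kgi xgi28 ygi38 zgi39) (kgi xgi29 ygi48 zgi27) (kgi xgi28 ygi38 zgi49) (kgi xgi32 ygi32 zgi7) (kgi xgi32 ygi10 zgi14) (kgi xgi28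 ygi38 zgi56) (kgi xgi30 ygi28 zgi47) (kgi xgi32 ygi46 zgi39) (kgi xgi32 ygi59 zgi0) (kgi xgi32 ygi21 zgi44) (kgi xgi32 ygi12 zgi30) (kgi xgi32 ygi19 zgi17) (kgi xgi32 ygi12 zgi19) (kgi xgi28 ygi39 zgi29) (kgi xgi32 ygi59 zgi24) (kgi xgi32 ygi8 zgi55) (kgi xgi30 ygi15 zgi40) (kgi xgi28 ygi39 zgi40) (kgi xgi32 ygi59 zgi26) (kgi xgi32 ygi47 zgi41) (kgi xgi32 ygi15 zgi50) (kgi xgi30 ygi15 zgi43) (kgi xgi28 ygi39 zgi43) (kgi xgi30 ygi38 zgi23) (kgi xgi32 ygi45 zgi48) (kgi xgi32 ygi47 zgi43) (kgi xgi28 ygi39 zgi53) (kgi xgi29 ygi34 zgi30) (kgi xgi32 ygi37 zgi41) (kgi xgi32 ygi46 zgi40) (kgi xgi32 ygi45 zgi42) (kgi xgi32 ygi37 zgi19) (kgi xgi28 ygi40 zgi3) (kgi xgi32 ygi34 zgi26) (kgi xgi32 ygi36 zgi17) (kgi xgi32 ygi13 zgi41) (kgi xgi28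 ygi40 zgi9) (kgi xgi32 ygi59 zgi27) (kgi xgi32 ygi12 zgi18) (kgi xgi29 ygi31 zgi22) (kgi xgi29 ygi33 zgi10) (kgi xgi30 ygi16 zgi9) (kgi xgi28 ygi40 zgi18) (kgi xgi29 ygi34 zgi17) (kgi xgi32 ygi39 zgi28) (kgi xgi30 ygi15 zgi23) (kgi xgi32 ygi51 zgi3) (kgi xgi32 ygi12 zgi6) (kgi xgi32 ygi33 zgi11) (kgi xgi32 ygi40 zgi27) (kgi xgi32 ygi58 zgi10) (kgi xgi31 ygi52 zgi24)) (@D3.rec (fun _ => Pt) (kgi xgi31 ygi52 zgi22) (kgi xgi31 ygi19 zgi4) (kgi xgi29 ygi33 zgi51) (kgi xgi28 ygi40 zgi58) (kgi xgi32 ygi5 zgi57) (kgi xgi32 ygi5 zgi46) (kgi xgi30 ygi58 zgi31) (kgi xgi32 ygi31 zgi26) (kgi xgi32 ygi55 zgi38) (kgi xgi32 ygi28 zgi13) (kgi xgi32 ygi38 zgi10) (kgi xgi28 ygi42 zgi10) (kgi xgi31 ygi17 zgi37) (kgi xgi32 ygi50 zgi37) (kgi xgi32 ygi54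 zgi6) (kgi xgi29 ygi27 zgi61) (kgi xgi28 ygi43 zgi4) (kgi xgi32 ygi25 zgi46) (kgi xgi31 ygi29 zgi59) (kgi xgi32 ygi49 zgi24) (kgi xgi30 ygi58 zgi5) (kgi xgi32 ygi59 zgi19) (kgi xgi31 ygi44 zgi10) (kgi xgi31 ygi9 zgi19) (kgi xgi29 ygi42 zgi47) (kgi xgi29 ygi33 zgi2) (kgi xgi28 ygi44 zgi29) (kgi xgi31 ygi31 zgi38) (kgi xgi31 ygi19 zgi44) (kgi xgi32 ygi44 zgi37) (kgi xgi32 ygi35 zgi30) (kgi xgi31 ygi29 zgi44) (kgi xgi28 ygi44 zgi39) (kgi xgi28 ygi47 zgi25) (kgi xgi30 ygi28 zgi31) (kgi xgi32 ygi24 zgi26) (kgi xgi32 ygi57 zgi47) (kgi xgi30 ygi25 zgi25) (kgi xgi32 ygi49 zgi42) (kgi xgi28 ygi46 zgi20) (kgi xgi32 ygi10 zgi35) (kgi xgi30 ygi32 zgi28) (kgi xgi32 ygi8 zgi6) (kgi xgi32 ygi38 zgi24) (kgi xgi32 ygi53 zgi35) (kgi xgi28 ygi46 zgi52)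 (kgi xgi32 ygi52 zgi29) (kgi xgi29 ygi16 zgi44) (kgi xgi30 ygi47 zgi35) (kgi xgi32 ygi29 zgi17) (kgi xgi32 ygi48 zgi39) (kgi xgi31 ygi25 zgi59) (kgi xgi32 ygi53 zgi15) (kgi xgi32 ygi40 zgi10) (kgi xgi28 ygi50 zgi47) (kgi xgi28 ygi58 zgi6) (kgi xgi28 ygi52 zgi26) (kgi xgi29 ygi47 zgi5) (kgi xgi30 ygi29 zgi38) (kgi xgi32 ygi10 zgi38) (kgi xgi31 ygi31 zgi54) (kgi xgi30 ygi15 zgi59)) (@D3.rec (fun _ => Pt) (kgi xgi28 ygi49 zgi1) (kgi xgi29 ygi45 zgi32) (kgi xgi32 ygi56 zgi25) (kgi xgi29 ygi13 zgi35) (kgi xgi31 ygi21 zgi17) (kgi xgi32 ygi57 zgi42) (kgi xgi31 ygi30 zgi53) (kgi xgi28 ygi49 zgi17) (kgi xgi32 ygi4 zgi20) (kgi xgi32 ygi36 zgi1) (kgi xgi31 ygi57 zgi4) (kgi xgi31 ygi5 zgi23) (kgi xgi32 ygi58 zgi31) (kgi xgi31 ygi52 zgi40) (kgi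 xgi28 ygi55 zgi23) (kgi xgi32 ygi47 zgi13) (kgi xgi28 ygi50 zgi34) (kgi xgi32 ygi40 zgi24) (kgi xgi31 ygi21 zgi54) (kgi xgi31 ygi22 zgi5) (kgi xgi28 ygi50 zgi45) (kgi xgi32 ygi58 zgi11) (kgi xgi30 ygi22 zgi59) (kgi xgi28 ygi52 zgi52) (kgi xgi31 ygi13 zgi50) (kgi xgi30 ygi38 zgi20) (kgi xgi29 ygi2 zgi8) (kgi xgi32 ygi41 zgi4) (kgi xgi32 ygi47 zgi53) (kgi xgi32 ygi45 zgi4) (kgi xgi32 ygi37 zgi52) (kgi xgi32 ygi43 zgi2) (kgi xgi28 ygi51 zgi24) (kgi xgi31 ygi32 zgi14) (kgi xgi28 ygi56 zgi9) (kgi xgi32 ygi57 zgi52) (kgi xgi29 ygi2 zgi27) (kgi xgi28 ygi51 zgi52) (kgi xgi30 ygi37 zgi61) (kgi xgi28 ygi51 zgi48) (kgi xgi32 ygi16 zgi58) (kgi xgi32 ygi9 zgi0) (kgi xgi29 ygi1 zgi61) (kgi xgi32 ygi50 zgi15) (kgi xgi32 ygi20 zgi53) (kgi xgi32 ygi41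 zgi43) (kgi xgi30 ygi19 zgi7) (kgi xgi31 ygi52 zgi21) (kgi xgi30 ygi25 zgi56) (kgi xgi28 ygi52 zgi30) (kgi xgi29 ygi38 zgi13) (kgi xgi31 ygi30 zgi34) (kgi xgi31 ygi13 zgi51) (kgi xgi30 ygi29 zgi54) (kgi xgi32 ygi39 zgi26) (kgi xgi32 ygi22 zgi56) (kgi xgi29 ygi46 zgi7) (kgi xgi30 ygi20 zgi54) (kgi xgi30 ygi39 zgi41) (kgi xgi32 ygi20 zgi33) (kgi xgi31 ygi23 zgi55) (kgi xgi28 ygi53 zgi11)) (@D3.rec (fun _ => Pt) (kgi xgi29 ygi3 zgi20) (kgi xgi28 ygi53 zgi21) (kgi xgi30 ygi22 zgi30) (kgi xgi32 ygi52 zgi12) (kgi xgi32 ygi49 zgi41) (kgi xgi32 ygi41 zgi39) (kgi xgi32 ygi53 zgi51) (kgi xgi30 ygi30 zgi0) (kgi xgi30 ygi45 zgi4) (kgi xgi28 ygi53 zgi35) (kgi xgi30 ygi35 zgi8) (kgi xgi28 ygi54 zgi10) (kgi xgi29 ygi47 zgi23) (kgi xgi32 ygi13 zgi24)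 (kgi xgi28 ygi54 zgi20) (kgi xgi32 ygi34 zgi2) (kgi xgi32 ygi57 zgi25) (kgi xgi30 ygi28 zgi0) (kgi xgi32 ygi45 zgi37) (kgi xgi28 ygi54 zgi46) (kgi xgi32 ygi13 zgi26) (kgi xgi32 ygi20 zgi59) (kgi xgi30 ygi16 zgi6) (kgi xgi29 ygi34 zgi21) (kgi xgi32 ygi39 zgi16) (kgi xgi32 ygi33 zgi8) (kgi xgi32 ygi41 zgi2) (kgi xgi32 ygi37 zgi60) (kgi xgi32 ygi12 zgi27) (kgi xgi32 ygi11 zgi58) (kgi xgi32 ygi13 zgi18) (kgi xgi31 ygi53 zgi13) (kgi xgi28 ygi55 zgi7) (kgi xgi31 ygi26 zgi8) (kgi xgi31 ygi56 zgi56) (kgi xgi30 ygi39 zgi49) (kgi xgi32 ygi4 zgi22) (kgi xgi32 ygi44 zgi17) (kgi xgi32 ygi47 zgi28) (kgi xgi28 ygi55 zgi19) (kgi xgi32 ygi51 zgi50) (kgi xgi32 ygi9 zgi9) (kgi xgi32 ygi37 zgi13) (kgi xgi32 ygi20 zgi47) (kgi xgi31 ygi52 zgi38) (kgi xgi32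 ygi52 zgi1) (kgi xgi30 ygi55 zgi40) (kgi xgi32 ygi57 zgi45) (kgi xgi28 ygi55 zgi24) (kgi xgi32 ygi17 zgi50) (kgi xgi32 ygi36 zgi0) (kgi xgi31 ygi53 zgi18) (kgi xgi28 ygi55 zgi29) (kgi xgi31 ygi40 zgi26) (kgi xgi32 ygi47 zgi36) (kgi xgi32 ygi9 zgi2) (kgi xgi32 ygi19 zgi15) (kgi xgi28 ygi55 zgi44) (kgi xgi32 ygi19 zgi19) (kgi xgi32 ygi37 zgi9) (kgi xgi32 ygi38 zgi43) (kgi xgi32 ygi37 zgi5)) (@D3.rec (fun _ => Pt) (kgi xgi31 ygi15 zgi14) (kgi xgi29 ygi53 zgi37) (kgi xgi32 ygi35 zgi42) (kgi xgi28 ygi56 zgi30) (kgi xgi32 ygi19 zgi16) (kgi xgi32 ygi12 zgi2) (kgi xgi29 ygi46 zgi53) (kgi xgi29 ygi46 zgi50) (kgi xgi32 ygi8 zgi57) (kgi xgi32 ygi47 zgi46) (kgi xgi32 ygi59 zgi29) (kgi xgi32 ygi45 zgi53) (kgi xgi29 ygi47 zgi59) (kgi xgi32 ygi0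 zgi24) (kgi xgi31 ygi20 zgi54) (kgi xgi28 ygi57 zgi0) (kgi xgi28 ygi57 zgi4) (kgi xgi29 ygi23 zgi1) (kgi xgi30 ygi11 zgi23) (kgi xgi32 ygi3 zgi36) (kgi xgi31 ygi47 zgi45) (kgi xgi32 ygi58 zgi41) (kgi xgi30 ygi54 zgi58) (kgi xgi30 ygi13 zgi12) (kgi xgi29 ygi41 zgi18) (kgi xgi28 ygi58 zgi59) (kgi xgi31 ygi43 zgi54) (kgi xgi32 ygi29 zgi58) (kgi xgi32 ygi22 zgi32) (kgi xgi32 ygi45 zgi20) (kgi xgi32 ygi0 zgi43) (kgi xgi28 ygi59 zgi53) (kgi xgi32 ygi58 zgi2) (kgi xgi31 ygi20 zgi45) (kgi xgi31 ygi28 zgi35) (kgi xgi32 ygi58 zgi18) (kgi xgi32 ygi58 zgi19) (kgi xgi30 ygi16 zgi38) (kgi xgi29 ygi46 zgi22) (kgi xgi29 ygi1 zgi30) (kgi xgi32 ygi40 zgi5) (kgi xgi30 ygi22 zgi42) (kgi xgi29 ygi19 zgi49) (kgi xgi32 ygi14 zgi54) (kgi xgi32 ygi12 zgi46)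 (kgi xgi30 ygi15 zgi41) (kgi xgi31 ygi55 zgi47) (kgi xgi32 ygi22 zgi54) (kgi xgi32 ygi59 zgi34) (kgi xgi32 ygi12 zgi40) (kgi xgi32 ygi18 zgi4) (kgi xgi32 ygi20 zgi19) (kgi xgi31 ygi41 zgi46) (kgi xgi32 ygi40 zgi56) (kgi xgi32 ygi54 zgi42) (kgi xgi29 ygi47 zgi8) (kgi xgi31 ygi56 zgi32) (kgi xgi32 ygi49 zgi29) (kgi xgi31 ygi42 zgi10) (kgi xgi30 ygi9 zgi55) (kgi xgi31 ygi27 zgi57) (kgi xgi31 ygi5 zgi45)) (@D3.rec (fun _ => Pt) (kgi xgi29 ygi4 zgi25) (kgi xgi32 ygi49 zgi25) (kgi xgi32 ygi46 zgi17) (kgi xgi32 ygi27 zgi60) (kgi xgi29 ygi4 zgi35) (kgi xgi31 ygi30 zgi21) (kgi xgi32 ygi27 zgi25) (kgi xgi29 ygi4 zgi27) (kgi xgi32 ygi24 zgi31) (kgi xgi32 ygi38 zgi14) (kgi xgi30 ygi8 zgi9) (kgi xgi32 ygi46 zgi57) (kgi xgi30 ygi11 zgi20) (kgi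 xgi31 ygi56 zgi19) (kgi xgi29 ygi6 zgi56) (kgi xgi32 ygi53 zgi60) (kgi xgi32 ygi53 zgi58) (kgi xgi32 ygi42 zgi33) (kgi xgi32 ygi48 zgi50) (kgi xgi31 ygi55 zgi2) (kgi xgi32 ygi57 zgi0) (kgi xgi31 ygi42 zgi12) (kgi xgi32 ygi57 zgi61) (kgi xgi32 ygi1 zgi39) (kgi xgi32 ygi55 zgi21) (kgi xgi32 ygi59 zgi31) (kgi xgi29 ygi5 zgi9) (kgi xgi32 ygi55 zgi23) (kgi xgi32 ygi54 zgi35) (kgi xgi30 ygi37 zgi16) (kgi xgi32 ygi42 zgi9) (kgi xgi29 ygi56 zgi61) (kgi xgi29 ygi59 zgi16) (kgi xgi32 ygi23 zgi46) (kgi xgi31 ygi3 zgi39) (kgi xgi31 ygi54 zgi54) (kgi xgi32 ygi50 zgi41) (kgi xgi31 ygi59 zgi34) (kgi xgi30 ygi21 zgi7) (kgi xgi32 ygi2 zgi5) (kgi xgi32 ygi17 zgi23) (kgi xgi30 ygi39 zgi19) (kgi xgi29 ygi28 zgi59) (kgi xgi30 ygi38 zgi28) (kgi xgi29 ygi36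 zgi44) (kgi xgi32 ygi42 zgi46) (kgi xgi32 ygi42 zgi44) (kgi xgi29 ygi8 zgi47) (kgi xgi31 ygi16 zgi4) (kgi xgi32 ygi15 zgi21) (kgi xgi32 ygi20 zgi7) (kgi xgi32 ygi11 zgi36) (kgi xgi31 ygi33 zgi6) (kgi xgi29 ygi9 zgi38) (kgi xgi29 ygi12 zgi23) (kgi xgi31 ygi2 zgi58) (kgi xgi29 ygi10 zgi1) (kgi xgi30 ygi41 zgi40) (kgi xgi31 ygi53 zgi12) (kgi xgi30 ygi10 zgi31) (kgi xgi31 ygi5 zgi5) (kgi xgi31 ygi2 zgi53)) (@D3.rec (fun _ => Pt) (kgi xgi31 ygi26 zgi0) (kgi xgi29 ygi10 zgi36) (kgi xgi29 ygi10 zgi38) (kgi xgi29 ygi45 zgi16) (kgi xgi32 ygi50 zgi44) (kgi xgi29 ygi10 zgi45) (kgi xgi32 ygi50 zgi52) (kgi xgi32 ygi30 zgi33) (kgi xgi31 ygi0 zgi61) (kgi xgi29 ygi10 zgi54) (kgi xgi32 ygi26 zgi20) (kgi xgi31 ygi11 zgi55) (kgi xgi32 ygi5 zgi18) (kgi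 xgi32 ygi47 zgi35) (kgi xgi32 ygi4 zgi24) (kgi xgi31 ygi58 zgi49) (kgi xgi29 ygi11 zgi55) (kgi xgi29 ygi12 zgi5) (kgi xgi32 ygi6 zgi29) (kgi xgi30 ygi13 zgi60) (kgi xgi31 ygi39 zgi9) (kgi xgi31 ygi17 zgi6) (kgi xgi31 ygi55 zgi41) (kgi xgi29 ygi17 zgi59) (kgi xgi31 ygi50 zgi56) (kgi xgi32 ygi44 zgi40) (kgi xgi32 ygi48 zgi16) (kgi xgi31 ygi2 zgi19) (kgi xgi31 ygi51 zgi56) (kgi xgi32 ygi59 zgi18) (kgi xgi29 ygi27 zgi31) (kgi xgi32 ygi36 zgi38) (kgi xgi32 ygi59 zgi14) (kgi xgi32 ygi43 zgi33) (kgi xgi29 ygi14 zgi23) (kgi xgi32 ygi44 zgi44) (kgi xgi32 ygi56 zgi39) (kgi xgi32 ygi46 zgi55) (kgi xgi30 ygi52 zgi29) (kgi xgi29 ygi14 zgi57) (kgi xgi31 ygi18 zgi49) (kgi xgi29 ygi15 zgi14) (kgi xgi32 ygi32 zgi59) (kgi xgi29 ygi35 zgi37) (kgi xgi32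 ygi27 zgi15) (kgi xgi29 ygi17 zgi31) (kgi xgi31 ygi27 zgi43) (kgi xgi32 ygi51 zgi32) (kgi xgi32 ygi55 zgi58) (kgi xgi32 ygi34 zgi44) (kgi xgi29 ygi15 zgi59) (kgi xgi32 ygi2 zgi42) (kgi xgi32 ygi58 zgi34) (kgi xgi29 ygi16 zgi24) (kgi xgi29 ygi16 zgi41) (kgi xgi29 ygi17 zgi14) (kgi xgi31 ygi5 zgi38) (kgi xgi31 ygi54 zgi57) (kgi xgi30 ygi21 zgi32) (kgi xgi32 ygi41 zgi50) (kgi xgi31 ygi39 zgi10) (kgi xgi32 ygi16 zgi46)) (@D3.rec (fun _ => Pt) (kgi xgi32 ygi36 zgi26) (kgi xgi29 ygi28 zgi27) (kgi xgi29 ygi21 zgi24) (kgi xgi32 ygi10 zgi22) (kgi xgi31 ygi39 zgi1) (kgi xgi31 ygi14 zgi59) (kgi xgi31 ygi16 zgi35) (kgi xgi30 ygi53 zgi6) (kgi xgi32 ygi46 zgi53) (kgi xgi30 ygi29 zgi53) (kgi xgi30 ygi48 zgi47) (kgi xgi32 ygi44 zgi13) (kgi xgi32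 ygi44 zgi23) (kgi xgi30 ygi25 zgi24) (kgi xgi32 ygi1 zgi36) (kgi xgi29 ygi23 zgi17) (kgi xgi31 ygi6 zgi43) (kgi xgi32 ygi40 zgi36) (kgi xgi29 ygi23 zgi33) (kgi xgi31 ygi58 zgi33) (kgi xgi32 ygi50 zgi22) (kgi xgi32 ygi29 zgi51) (kgi xgi29 ygi24 zgi24) (kgi xgi29 ygi52 zgi44) (kgi xgi32 ygi2 zgi11) (kgi xgi32 ygi7 zgi33) (kgi xgi29 ygi25 zgi21) (kgi xgi30 ygi49 zgi50) (kgi xgi31 ygi58 zgi56) (kgi xgi32 ygi0 zgi38) (kgi xgi29 ygi34 zgi18) (kgi xgi32 ygi47 zgi26) (kgi xgi29 ygi40 zgi38) (kgi xgi30 ygi20 zgi24) (kgi xgi32 ygi40 zgi14) (kgi xgi29 ygi26 zgi22) (kgi xgi29 ygi26 zgi27) (kgi xgi32 ygi18 zgi41) (kgi xgi32 ygi13 zgi42) (kgi xgi32 ygi50 zgi51) (kgi xgi32 ygi26 zgi50) (kgi xgi32 ygi38 zgi38) (kgi xgi32 ygi17 zgi59) (kgi xgi31 ygi24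 zgi35) (kgi xgi32 ygi43 zgi34) (kgi xgi29 ygi36 zgi7) (kgi xgi32 ygi58 zgi39) (kgi xgi31 ygi52 zgi0) (kgi xgi32 ygi18 zgi2) (kgi xgi32 ygi17 zgi61) (kgi xgi32 ygi22 zgi37) (kgi xgi29 ygi27 zgi41) (kgi xgi32 ygi48 zgi52) (kgi xgi32 ygi41 zgi18) (kgi xgi31 ygi33 zgi32) (kgi xgi31 ygi46 zgi25) (kgi xgi31 ygi38 zgi16) (kgi xgi32 ygi16 zgi57) (kgi xgi29 ygi29 zgi32) (kgi xgi29 ygi29 zgi13) (kgi xgi30 ygi54 zgi29) (kgi xgi29 ygi29 zgi30)) (@D3.rec (fun _ => Pt) (kgi xgi30 ygi21 zgi43) (kgi xgi32 ygi20 zgi8) (kgi xgi32 ygi54 zgi36) (kgi xgi29 ygi31 zgi5) (kgi xgi32 ygi37 zgi40) (kgi xgi29 ygi31 zgi27) (kgi xgi29 ygi34 zgi4) (kgi xgi32 ygi45 zgi56) (kgi xgi32 ygi14 zgi18) (kgi xgi29 ygi34 zgi22) (kgi xgi29 ygi34 zgi19) (kgi xgi29 ygi32 zgi6)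 (kgi xgi30 ygi50 zgi20) (kgi xgi29 ygi46 zgi47) (kgi xgi29 ygi32 zgi15) (kgi xgi30 ygi25 zgi59) (kgi xgi29 ygi32 zgi18) (kgi xgi29 ygi39 zgi60) (kgi xgi31 ygi50 zgi14) (kgi xgi32 ygi21 zgi53) (kgi xgi31 ygi32 zgi13) (kgi xgi30 ygi11 zgi27) (kgi xgi32 ygi52 zgi49) (kgi xgi31 ygi47 zgi6) (kgi xgi32 ygi36 zgi8) (kgi xgi32 ygi12 zgi29) (kgi xgi31 ygi34 zgi59) (kgi xgi32 ygi35 zgi31) (kgi xgi30 ygi28 zgi60) (kgi xgi32 ygi36 zgi19) (kgi xgi32 ygi37 zgi48) (kgi xgi29 ygi33 zgi21) (kgi xgi31 ygi31 zgi8) (kgi xgi32 ygi45 zgi15) (kgi xgi30 ygi28 zgi46) (kgi xgi30 ygi31 zgi7) (kgi xgi32 ygi44 zgi31) (kgi xgi30 ygi29 zgi30) (kgi xgi32 ygi11 zgi10) (kgi xgi30 ygi31 zgi4) (kgi xgi29 ygi33 zgi47) (kgi xgi31 ygi33 zgi3) (kgi xgi32 ygi39 zgi29) (kgi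 xgi31 ygi31 zgi50) (kgi xgi29 ygi33 zgi50) (kgi xgi32 ygi58 zgi1) (kgi xgi32 ygi47 zgi7) (kgi xgi32 ygi34 zgi24) (kgi xgi32 ygi23 zgi8) (kgi xgi32 ygi52 zgi48) (kgi xgi30 ygi31 zgi1) (kgi xgi32 ygi12 zgi5) (kgi xgi31 ygi30 zgi58) (kgi xgi32 ygi14 zgi19) (kgi xgi32 ygi52 zgi47) (kgi xgi32 ygi45 zgi7) (kgi xgi32 ygi56 zgi50) (kgi xgi30 ygi31 zgi33) (kgi xgi32 ygi17 zgi49) (kgi xgi32 ygi44 zgi58) (kgi xgi31 ygi32 zgi27) (kgi xgi32 ygi59 zgi47)) (@D3.rec (fun _ => Pt) (kgi xgi32 ygi59 zgi46) (kgi xgi29 ygi36 zgi9) (kgi xgi29 ygi36 zgi14) (kgi xgi32 ygi59 zgi40) (kgi xgi31 ygi56 zgi59) (kgi xgi32 ygi51 zgi20) (kgi xgi30 ygi27 zgi10) (kgi xgi32 ygi51 zgi19) (kgi xgi32 ygi59 zgi49) (kgi xgi29 ygi36 zgi12) (kgi xgi30 ygi19 zgi6) (kgi xgi32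 ygi59 zgi21) (kgi xgi31 ygi57 zgi2) (kgi xgi32 ygi17 zgi44) (kgi xgi29 ygi36 zgi17) (kgi xgi32 ygi47 zgi30) (kgi xgi32 ygi17 zgi46) (kgi xgi32 ygi55 zgi56) (kgi xgi32 ygi35 zgi60) (kgi xgi32 ygi42 zgi43) (kgi xgi31 ygi43 zgi27) (kgi xgi29 ygi36 zgi59) (kgi xgi29 ygi37 zgi1) (kgi xgi31 ygi51 zgi45) (kgi xgi32 ygi51 zgi24) (kgi xgi30 ygi21 zgi60) (kgi xgi32 ygi51 zgi22) (kgi xgi29 ygi45 zgi33) (kgi xgi30 ygi15 zgi25) (kgi xgi29 ygi45 zgi17) (kgi xgi29 ygi45 zgi14) (kgi xgi32 ygi9 zgi11) (kgi xgi29 ygi38 zgi14) (kgi xgi31 ygi32 zgi61) (kgi xgi30 ygi35 zgi15) (kgi xgi31 ygi22 zgi40) (kgi xgi32 ygi33 zgi4) (kgi xgi29 ygi39 zgi43) (kgi xgi30 ygi30 zgi60) (kgi xgi32 ygi18 zgi32) (kgi xgi29 ygi40 zgi11) (kgi xgi30 ygi31 zgi8) (kgi xgi32 ygi51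 zgi6) (kgi xgi29 ygi40 zgi17) (kgi xgi32 ygi0 zgi52) (kgi xgi30 ygi17 zgi36) (kgi xgi29 ygi40 zgi28) (kgi xgi29 ygi40 zgi31) (kgi xgi30 ygi17 zgi35) (kgi xgi30 ygi54 zgi10) (kgi xgi32 ygi23 zgi5) (kgi xgi32 ygi23 zgi0) (kgi xgi32 ygi12 zgi32) (kgi xgi30 ygi43 zgi3) (kgi xgi31 ygi33 zgi27) (kgi xgi31 ygi21 zgi25) (kgi xgi30 ygi46 zgi36) (kgi xgi29 ygi41 zgi24) (kgi xgi32 ygi42 zgi11) (kgi xgi30 ygi54 zgi47) (kgi xgi32 ygi1 zgi55) (kgi xgi29 ygi43 zgi12)) (@D3.rec (fun _ => Pt) (kgi xgi32 ygi54 zgi54) (kgi xgi32 ygi55 zgi3) (kgi xgi30 ygi53 zgi10) (kgi xgi32 ygi59 zgi7) (kgi xgi32 ygi9 zgi29) (kgi xgi29 ygi43 zgi23) (kgi xgi31 ygi33 zgi4) (kgi xgi32 ygi33 zgi33) (kgi xgi31 ygi41 zgi1) (kgi xgi31 ygi21 zgi31) (kgi xgi29 ygi50 zgi53)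 (kgi xgi30 ygi6 zgi9) (kgi xgi30 ygi31 zgi9) (kgi xgi32 ygi13 zgi2) (kgi xgi32 ygi10 zgi57) (kgi xgi31 ygi27 zgi26) (kgi xgi32 ygi23 zgi31) (kgi xgi29 ygi44 zgi40) (kgi xgi30 ygi7 zgi47) (kgi xgi32 ygi0 zgi57) (kgi xgi32 ygi13 zgi31) (kgi xgi32 ygi13 zgi47) (kgi xgi32 ygi12 zgi48) (kgi xgi29 ygi45 zgi10) (kgi xgi29 ygi45 zgi19) (kgi xgi32 ygi57 zgi3) (kgi xgi29 ygi45 zgi52) (kgi xgi30 ygi28 zgi14) (kgi xgi32 ygi40 zgi33) (kgi xgi31 ygi20 zgi3) (kgi xgi32 ygi59 zgi3) (kgi xgi32 ygi57 zgi26) (kgi xgi32 ygi50 zgi60) (kgi xgi29 ygi45 zgi54) (kgi xgi30 ygi31 zgi3) (kgi xgi32 ygi40 zgi54) (kgi xgi32 ygi43 zgi13) (kgi xgi32 ygi12 zgi25) (kgi xgi32 ygi13 zgi37) (kgi xgi32 ygi41 zgi5) (kgi xgi29 ygi47 zgi6) (kgi xgi32 ygi37 zgi29) (kgi xgi29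 ygi46 zgi13) (kgi xgi29 ygi46 zgi14) (kgi xgi32 ygi37 zgi35) (kgi xgi32 ygi37 zgi57) (kgi xgi32 ygi51 zgi1) (kgi xgi31 ygi20 zgi39) (kgi xgi31 ygi18 zgi40) (kgi xgi31 ygi24 zgi52) (kgi xgi31 ygi12 zgi35) (kgi xgi32 ygi47 zgi55) (kgi xgi32 ygi47 zgi39) (kgi xgi29 ygi46 zgi54) (kgi xgi32 ygi11 zgi52) (kgi xgi29 ygi46 zgi57) (kgi xgi29 ygi47 zgi0) (kgi xgi31 ygi17 zgi19) (kgi xgi32 ygi42 zgi20) (kgi xgi32 ygi47 zgi25) (kgi xgi31 ygi26 zgi18) (kgi xgi30 ygi5 zgi58)) (@D3.rec (fun _ => Pt) (kgi xgi32 ygi15 zgi4) (kgi xgi31 ygi22 zgi25) (kgi xgi31 ygi31 zgi18) (kgi xgi32 ygi59 zgi8) (kgi xgi31 ygi13 zgi8) (kgi xgi31 ygi30 zgi37) (kgi xgi32 ygi14 zgi50) (kgi xgi32 ygi19 zgi0) (kgi xgi30 ygi9 zgi54) (kgi xgi29 ygi49 zgi14) (kgi xgi31 ygi45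 zgi45) (kgi xgi32 ygi23 zgi55) (kgi xgi31 ygi3 zgi22) (kgi xgi31 ygi58 zgi41) (kgi xgi30 ygi40 zgi29) (kgi xgi32 ygi53 zgi57) (kgi xgi31 ygi47 zgi26) (kgi xgi32 ygi48 zgi33) (kgi xgi32 ygi49 zgi48) (kgi xgi32 ygi52 zgi24) (kgi xgi29 ygi51 zgi9) (kgi xgi30 ygi0 zgi46) (kgi xgi29 ygi51 zgi10) (kgi xgi30 ygi6 zgi15) (kgi xgi31 ygi9 zgi17) (kgi xgi32 ygi48 zgi18) (kgi xgi29 ygi52 zgi6) (kgi xgi30 ygi1 zgi27) (kgi xgi30 ygi13 zgi15) (kgi xgi32 ygi39 zgi15) (kgi xgi30 ygi48 zgi44) (kgi xgi32 ygi6 zgi10) (kgi xgi30 ygi43 zgi17) (kgi xgi32 ygi7 zgi58) (kgi xgi32 ygi18 zgi33) (kgi xgi30 ygi23 zgi37) (kgi xgi32 ygi18 zgi57) (kgi xgi30 ygi55 zgi11) (kgi xgi32 ygi7 zgi5) (kgi xgi30 ygi6 zgi28) (kgi xgi32 ygi29 zgi55) (kgi xgi29 ygi54 zgi43) (kgi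 xgi29 ygi55 zgi5) (kgi xgi29 ygi54 zgi52) (kgi xgi32 ygi33 zgi21) (kgi xgi30 ygi41 zgi25) (kgi xgi32 ygi1 zgi23) (kgi xgi31 ygi5 zgi26) (kgi xgi30 ygi55 zgi2) (kgi xgi29 ygi59 zgi30) (kgi xgi31 ygi32 zgi26) (kgi xgi32 ygi50 zgi30) (kgi xgi32 ygi38 zgi15) (kgi xgi29 ygi56 zgi59) (kgi xgi32 ygi53 zgi8) (kgi xgi29 ygi58 zgi13) (kgi xgi29 ygi57 zgi22) (kgi xgi32 ygi55 zgi19) (kgi xgi32 ygi47 zgi10) (kgi xgi32 ygi8 zgi22) (kgi xgi32 ygi48 zgi20) (kgi xgi29 ygi57 zgi40)) (@D3.rec (fun _ => Pt) (kgi xgi32 ygi49 zgi50) (kgi xgi32 ygi49 zgi43) (kgi xgi29 ygi58 zgi5) (kgi xgi30 ygi52 zgi14) (kgi xgi31 ygi34 zgi6) (kgi xgi31 ygi11 zgi25) (kgi xgi30 ygi6 zgi37) (kgi xgi32 ygi24 zgi12) (kgi xgi31 ygi3 zgi52) (kgi xgi30 ygi37 zgi5) (kgi xgi32 ygi58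 zgi6) (kgi xgi31 ygi37 zgi41) (kgi xgi30 ygi3 zgi37) (kgi xgi32 ygi41 zgi17) (kgi xgi32 ygi27 zgi28) (kgi xgi32 ygi48 zgi44) (kgi xgi30 ygi41 zgi18) (kgi xgi32 ygi27 zgi24) (kgi xgi31 ygi8 zgi53) (kgi xgi30 ygi0 zgi28) (kgi xgi32 ygi42 zgi55) (kgi xgi30 ygi0 zgi44) (kgi xgi31 ygi44 zgi17) (kgi xgi30 ygi58 zgi42) (kgi xgi32 ygi38 zgi19) (kgi xgi32 ygi42 zgi5) (kgi xgi32 ygi9 zgi51) (kgi xgi30 ygi1 zgi45) (kgi xgi32 ygi55 zgi52) (kgi xgi31 ygi56 zgi16) (kgi xgi31 ygi47 zgi37) (kgi xgi30 ygi58 zgi52) (kgi xgi30 ygi2 zgi52) (kgi xgi32 ygi55 zgi22) (kgi xgi30 ygi3 zgi7) (kgi xgi31 ygi27 zgi48) (kgi xgi31 ygi9 zgi39) (kgi xgi32 ygi56 zgi10) (kgi xgi30 ygi3 zgi20) (kgi xgi31 ygi12 zgi5) (kgi xgi32 ygi50 zgi43) (kgi xgi32 ygi45 zgi0) (kgi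 xgi32 ygi34 zgi55) (kgi xgi30 ygi4 zgi6) (kgi xgi32 ygi6 zgi31) (kgi xgi31 ygi5 zgi49) (kgi xgi32 ygi54 zgi21) (kgi xgi31 ygi5 zgi28) (kgi xgi30 ygi4 zgi43) (kgi xgi30 ygi10 zgi39) (kgi xgi32 ygi53 zgi11) (kgi xgi31 ygi48 zgi18) (kgi xgi32 ygi53 zgi33) (kgi xgi32 ygi54 zgi16) (kgi xgi32 ygi21 zgi20) (kgi xgi30 ygi38 zgi43) (kgi xgi32 ygi56 zgi5) (kgi xgi32 ygi20 zgi14) (kgi xgi30 ygi50 zgi40) (kgi xgi32 ygi54 zgi28) (kgi xgi30 ygi50 zgi37) (kgi xgi30 ygi5 zgi43)) (@D3.rec (fun _ => Pt) (kgi xgi32 ygi58 zgi37) (kgi xgi30 ygi19 zgi0) (kgi xgi32 ygi20 zgi31) (kgi xgi32 ygi20 zgi41) (kgi xgi32 ygi58 zgi4) (kgi xgi32 ygi20 zgi36) (kgi xgi30 ygi10 zgi12) (kgi xgi31 ygi55 zgi8) (kgi xgi30 ygi9 zgi33) (kgi xgi32 ygi55 zgi60) (kgi xgi32 ygi54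 zgi22) (kgi xgi32 ygi28 zgi1) (kgi xgi30 ygi6 zgi54) (kgi xgi31 ygi51 zgi48) (kgi xgi32 ygi58 zgi22) (kgi xgi32 ygi21 zgi27) (kgi xgi30 ygi28 zgi58) (kgi xgi30 ygi58 zgi55) (kgi xgi30 ygi13 zgi52) (kgi xgi30 ygi58 zgi51) (kgi xgi30 ygi59 zgi48) (kgi xgi32 ygi55 zgi11) (kgi xgi32 ygi21 zgi32) (kgi xgi32 ygi21 zgi34) (kgi xgi32 ygi4 zgi18) (kgi xgi31 ygi47 zgi19) (kgi xgi32 ygi53 zgi25) (kgi xgi32 ygi40 zgi3) (kgi xgi30 ygi35 zgi30) (kgi xgi30 ygi18 zgi4) (kgi xgi32 ygi58 zgi40) (kgi xgi32 ygi11 zgi5) (kgi xgi32 ygi11 zgi8) (kgi xgi32 ygi33 zgi38) (kgi xgi31 ygi48 zgi48) (kgi xgi31 ygi13 zgi23) (kgi xgi32 ygi54 zgi13) (kgi xgi32 ygi49 zgi27) (kgi xgi30 ygi11 zgi50) (kgi xgi30 ygi29 zgi31) (kgi xgi30 ygi11 zgi58) (kgi xgi31 ygi52 zgi59)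 (kgi xgi31 ygi25 zgi6) (kgi xgi32 ygi49 zgi39) (kgi xgi32 ygi43 zgi8) (kgi xgi30 ygi33 zgi34) (kgi xgi32 ygi26 zgi51) (kgi xgi32 ygi49 zgi12) (kgi xgi30 ygi42 zgi2) (kgi xgi32 ygi50 zgi10) (kgi xgi31 ygi8 zgi0) (kgi xgi32 ygi50 zgi45) (kgi xgi30 ygi13 zgi49) (kgi xgi32 ygi50 zgi49) (kgi xgi30 ygi52 zgi13) (kgi xgi30 ygi29 zgi35) (kgi xgi30 ygi14 zgi57) (kgi xgi30 ygi15 zgi13) (kgi xgi32 ygi19 zgi5) (kgi xgi32 ygi56 zgi38) (kgi xgi32 ygi47 zgi32) (kgi xgi32 ygi14 zgi17)) (@D3.rec (fun _ => Pt) (kgi xgi30 ygi16 zgi17) (kgi xgi30 ygi16 zgi3) (kgi xgi31 ygi24 zgi42) (kgi xgi32 ygi11 zgi42) (kgi xgi32 ygi12 zgi54) (kgi xgi32 ygi19 zgi2) (kgi xgi32 ygi39 zgi51) (kgi xgi32 ygi23 zgi11) (kgi xgi30 ygi22 zgi49) (kgi xgi32 ygi51 zgi27) (kgi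 xgi30 ygi18 zgi25) (kgi xgi30 ygi19 zgi3) (kgi xgi32 ygi31 zgi12) (kgi xgi32 ygi53 zgi6) (kgi xgi31 ygi13 zgi40) (kgi xgi30 ygi22 zgi13) (kgi xgi30 ygi18 zgi36) (kgi xgi32 ygi21 zgi56) (kgi xgi31 ygi13 zgi58) (kgi xgi32 ygi46 zgi5) (kgi xgi32 ygi46 zgi7) (kgi xgi30 ygi46 zgi42) (kgi xgi31 ygi31 zgi19) (kgi xgi32 ygi59 zgi36) (kgi xgi31 ygi57 zgi1) (kgi xgi32 ygi59 zgi55) (kgi xgi32 ygi46 zgi24) (kgi xgi32 ygi20 zgi16) (kgi xgi30 ygi19 zgi10) (kgi xgi31 ygi52 zgi15) (kgi xgi32 ygi20 zgi22) (kgi xgi32 ygi56 zgi40) (kgi xgi32 ygi55 zgi51) (kgi xgi31 ygi30 zgi41) (kgi xgi30 ygi21 zgi25) (kgi xgi30 ygi20 zgi61) (kgi xgi31 ygi16 zgi36) (kgi xgi32 ygi8 zgi49) (kgi xgi32 ygi42 zgi22) (kgi xgi32 ygi53 zgi26) (kgi xgi32 ygi29 zgi10) (kgi xgi30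 ygi21 zgi17) (kgi xgi30 ygi56 zgi25) (kgi xgi32 ygi41 zgi32) (kgi xgi31 ygi51 zgi44) (kgi xgi32 ygi59 zgi13) (kgi xgi32 ygi58 zgi25) (kgi xgi32 ygi40 zgi43) (kgi xgi32 ygi3 zgi26) (kgi xgi32 ygi40 zgi40) (kgi xgi32 ygi59 zgi53) (kgi xgi32 ygi56 zgi4) (kgi xgi32 ygi25 zgi20) (kgi xgi32 ygi54 zgi52) (kgi xgi30 ygi21 zgi55) (kgi xgi30 ygi21 zgi58) (kgi xgi32 ygi52 zgi38) (kgi xgi32 ygi59 zgi43) (kgi xgi30 ygi21 zgi59) (kgi xgi32 ygi59 zgi1) (kgi xgi32 ygi53 zgi20) (kgi xgi32 ygi59 zgi44)) (@D3.rec (fun _ => Pt) (kgi xgi32 ygi40 zgi45) (kgi xgi32 ygi1 zgi6) (kgi xgi30 ygi22 zgi7) (kgi xgi32 ygi55 zgi61) (kgi xgi32 ygi56 zgi29) (kgi xgi30 ygi22 zgi12) (kgi xgi30 ygi22 zgi19) (kgi xgi32 ygi52 zgi55) (kgi xgi32 ygi48 zgi1) (kgi xgi30 ygi34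 zgi33) (kgi xgi31 ygi30 zgi29) (kgi xgi30 ygi56 zgi28) (kgi xgi32 ygi21 zgi60) (kgi xgi31 ygi20 zgi2) (kgi xgi30 ygi23 zgi44) (kgi xgi30 ygi49 zgi17) (kgi xgi32 ygi24 zgi15) (kgi xgi32 ygi2 zgi35) (kgi xgi30 ygi57 zgi18) (kgi xgi32 ygi16 zgi53) (kgi xgi32 ygi20 zgi21) (kgi xgi32 ygi47 zgi56) (kgi xgi30 ygi30 zgi29) (kgi xgi31 ygi33 zgi34) (kgi xgi31 ygi56 zgi11) (kgi xgi31 ygi25 zgi38) (kgi xgi30 ygi50 zgi8) (kgi xgi32 ygi24 zgi17) (kgi xgi32 ygi39 zgi60) (kgi xgi30 ygi28 zgi8) (kgi xgi32 ygi51 zgi55) (kgi xgi32 ygi59 zgi12) (kgi xgi31 ygi47 zgi35) (kgi xgi32 ygi46 zgi50) (kgi xgi32 ygi40 zgi23) (kgi xgi32 ygi34 zgi25) (kgi xgi30 ygi36 zgi29) (kgi xgi32 ygi58 zgi43) (kgi xgi30 ygi28 zgi25) (kgi xgi32 ygi51 zgi56) (kgi xgi30 ygi28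 zgi26) (kgi xgi32 ygi33 zgi32) (kgi xgi32 ygi46 zgi52) (kgi xgi32 ygi23 zgi4) (kgi xgi32 ygi12 zgi24) (kgi xgi32 ygi52 zgi35) (kgi xgi32 ygi33 zgi29) (kgi xgi32 ygi45 zgi49) (kgi xgi32 ygi45 zgi54) (kgi xgi30 ygi29 zgi8) (kgi xgi32 ygi56 zgi33) (kgi xgi32 ygi59 zgi33) (kgi xgi31 ygi29 zgi23) (kgi xgi32 ygi53 zgi45) (kgi xgi32 ygi46 zgi49) (kgi xgi31 ygi19 zgi27) (kgi xgi31 ygi13 zgi35) (kgi xgi31 ygi21 zgi37) (kgi xgi32 ygi34 zgi60) (kgi xgi32 ygi53 zgi36) (kgi xgi31 ygi0 zgi13) (kgi xgi31 ygi25 zgi36)) (@D3.rec (fun _ => Pt) (kgi xgi31 ygi55 zgi11) (kgi xgi31 ygi19 zgi59) (kgi xgi32 ygi58 zgi16) (kgi xgi31 ygi21 zgi35) (kgi xgi31 ygi3 zgi61) (kgi xgi32 ygi55 zgi28) (kgi xgi32 ygi33 zgi13) (kgi xgi32 ygi37 zgi6) (kgi xgi31 ygi6 zgi12)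 (kgi xgi32 ygi54 zgi51) (kgi xgi31 ygi20 zgi14) (kgi xgi32 ygi53 zgi13) (kgi xgi31 ygi4 zgi17) (kgi xgi32 ygi49 zgi0) (kgi xgi31 ygi58 zgi19) (kgi xgi32 ygi55 zgi35) (kgi xgi32 ygi31 zgi6) (kgi xgi30 ygi52 zgi30) (kgi xgi31 ygi8 zgi52) (kgi xgi30 ygi34 zgi22) (kgi xgi32 ygi51 zgi61) (kgi xgi30 ygi34 zgi25) (kgi xgi32 ygi4 zgi29) (kgi xgi30 ygi34 zgi32) (kgi xgi32 ygi4 zgi23) (kgi xgi32 ygi38 zgi44) (kgi xgi32 ygi32 zgi11) (kgi xgi31 ygi16 zgi30) (kgi xgi32 ygi30 zgi20) (kgi xgi31 ygi14 zgi38) (kgi xgi32 ygi31 zgi42) (kgi xgi30 ygi35 zgi28) (kgi xgi32 ygi55 zgi53) (kgi xgi32 ygi51 zgi40) (kgi xgi31 ygi23 zgi54) (kgi xgi32 ygi50 zgi26) (kgi xgi30 ygi52 zgi5) (kgi xgi32 ygi29 zgi27) (kgi xgi32 ygi42 zgi39) (kgi xgi31 ygi0 zgi26) (kgi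 xgi32 ygi1 zgi24) (kgi xgi32 ygi55 zgi36) (kgi xgi31 ygi8 zgi33) (kgi xgi31 ygi12 zgi34) (kgi xgi30 ygi57 zgi0) (kgi xgi32 ygi17 zgi35) (kgi xgi32 ygi9 zgi8) (kgi xgi32 ygi37 zgi4) (kgi xgi31 ygi15 zgi12) (kgi xgi32 ygi58 zgi15) (kgi xgi32 ygi53 zgi21) (kgi xgi31 ygi22 zgi42) (kgi xgi32 ygi40 zgi6) (kgi xgi32 ygi50 zgi3) (kgi xgi32 ygi53 zgi56) (kgi xgi32 ygi50 zgi24) (kgi xgi32 ygi53 zgi2) (kgi xgi30 ygi40 zgi7) (kgi xgi32 ygi42 zgi24) (kgi xgi31 ygi28 zgi61) (kgi xgi32 ygi25 zgi28) (kgi xgi32 ygi16 zgi8)) (@D3.rec (fun _ => Pt) (kgi xgi30 ygi40 zgi14) (kgi xgi30 ygi40 zgi50) (kgi xgi32 ygi32 zgi43) (kgi xgi32 ygi34 zgi56) (kgi xgi31 ygi5 zgi31) (kgi xgi30 ygi40 zgi25) (kgi xgi32 ygi42 zgi30) (kgi xgi31 ygi54 zgi48) (kgi xgi31 ygi54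 zgi56) (kgi xgi31 ygi8 zgi48) (kgi xgi31 ygi29 zgi0) (kgi xgi32 ygi49 zgi4) (kgi xgi31 ygi37 zgi51) (kgi xgi32 ygi49 zgi46) (kgi xgi31 ygi7 zgi19) (kgi xgi32 ygi7 zgi44) (kgi xgi32 ygi35 zgi2) (kgi xgi32 ygi26 zgi21) (kgi xgi32 ygi38 zgi52) (kgi xgi32 ygi25 zgi33) (kgi xgi32 ygi55 zgi43) (kgi xgi32 ygi50 zgi36) (kgi xgi32 ygi50 zgi53) (kgi xgi31 ygi34 zgi36) (kgi xgi31 ygi58 zgi48) (kgi xgi32 ygi44 zgi8) (kgi xgi30 ygi48 zgi52) (kgi xgi30 ygi50 zgi38) (kgi xgi31 ygi28 zgi9) (kgi xgi30 ygi44 zgi37) (kgi xgi32 ygi29 zgi2) (kgi xgi30 ygi45 zgi1) (kgi xgi31 ygi14 zgi49) (kgi xgi31 ygi23 zgi48) (kgi xgi30 ygi56 zgi60) (kgi xgi32 ygi41 zgi59) (kgi xgi30 ygi49 zgi56) (kgi xgi32 ygi2 zgi31) (kgi xgi32 ygi23 zgi33) (kgi xgi32 ygi27 zgi34)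 (kgi xgi30 ygi48 zgi38) (kgi xgi30 ygi48 zgi42) (kgi xgi32 ygi56 zgi3) (kgi xgi32 ygi41 zgi54) (kgi xgi30 ygi48 zgi54) (kgi xgi30 ygi57 zgi5) (kgi xgi30 ygi49 zgi53) (kgi xgi30 ygi49 zgi58) (kgi xgi32 ygi54 zgi34) (kgi xgi32 ygi45 zgi2) (kgi xgi32 ygi54 zgi48) (kgi xgi31 ygi22 zgi24) (kgi xgi32 ygi51 zgi57) (kgi xgi32 ygi34 zgi8) (kgi xgi32 ygi46 zgi35) (kgi xgi32 ygi16 zgi31) (kgi xgi31 ygi23 zgi6) (kgi xgi32 ygi3 zgi20) (kgi xgi30 ygi58 zgi44) (kgi xgi30 ygi58 zgi41) (kgi xgi32 ygi5 zgi14) (kgi xgi32 ygi8 zgi11)) (@D3.rec (fun _ => Pt) (kgi xgi30 ygi53 zgi4) (kgi xgi32 ygi52 zgi54) (kgi xgi32 ygi54 zgi31) (kgi xgi30 ygi55 zgi0) (kgi xgi32 ygi46 zgi56) (kgi xgi31 ygi16 zgi29) (kgi xgi31 ygi56 zgi42) (kgi xgi31 ygi22 zgi7) (kgi xgi32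 ygi35 zgi19) (kgi xgi32 ygi59 zgi2) (kgi xgi31 ygi1 zgi3) (kgi xgi31 ygi2 zgi47) (kgi xgi32 ygi55 zgi16) (kgi xgi32 ygi31 zgi5) (kgi xgi30 ygi58 zgi34) (kgi xgi30 ygi59 zgi45) (kgi xgi32 ygi55 zgi12) (kgi xgi32 ygi55 zgi37) (kgi xgi32 ygi54 zgi17) (kgi xgi31 ygi57 zgi37) (kgi xgi32 ygi26 zgi52) (kgi xgi32 ygi42 zgi16) (kgi xgi32 ygi54 zgi57) (kgi xgi32 ygi24 zgi13) (kgi xgi32 ygi42 zgi19) (kgi xgi31 ygi3 zgi19) (kgi xgi31 ygi37 zgi38) (kgi xgi31 ygi3 zgi34) (kgi xgi32 ygi22 zgi4) (kgi xgi31 ygi4 zgi25) (kgi xgi31 ygi49 zgi26) (kgi xgi31 ygi29 zgi30) (kgi xgi32 ygi53 zgi5) (kgi xgi31 ygi57 zgi49) (kgi xgi32 ygi26 zgi17) (kgi xgi32 ygi54 zgi18) (kgi xgi32 ygi53 zgi18) (kgi xgi32 ygi56 zgi23) (kgi xgi32 ygi24 zgi60) (kgi xgi31 ygi19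 zgi26) (kgi xgi31 ygi14 zgi56) (kgi xgi31 ygi56 zgi44) (kgi xgi32 ygi4 zgi54) (kgi xgi32 ygi28 zgi58) (kgi xgi32 ygi4 zgi56) (kgi xgi31 ygi9 zgi60) (kgi xgi32 ygi58 zgi29) (kgi xgi32 ygi58 zgi27) (kgi xgi32 ygi58 zgi45) (kgi xgi31 ygi9 zgi40) (kgi xgi31 ygi27 zgi52) (kgi xgi32 ygi58 zgi46) (kgi xgi32 ygi36 zgi44) (kgi xgi32 ygi55 zgi34) (kgi xgi32 ygi58 zgi60) (kgi xgi32 ygi28 zgi0) (kgi xgi31 ygi11 zgi35) (kgi xgi32 ygi57 zgi24) (kgi xgi32 ygi43 zgi48) (kgi xgi31 ygi12 zgi1) (kgi xgi32 ygi50 zgi46) (kgi xgi32 ygi56 zgi15)) (@D3.rec (fun _ => Pt) (kgi xgi32 ygi59 zgi54) (kgi xgi32 ygi31 zgi50) (kgi xgi32 ygi49 zgi53) (kgi xgi32 ygi54 zgi43) (kgi xgi32 ygi59 zgi35) (kgi xgi31 ygi13 zgi56) (kgi xgi32 ygi49 zgi56) (kgi xgi32 ygi32 zgi61)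 (kgi xgi32 ygi56 zgi8) (kgi xgi31 ygi32 zgi50) (kgi xgi31 ygi46 zgi14) (kgi xgi32 ygi54 zgi2) (kgi xgi31 ygi51 zgi34) (kgi xgi32 ygi52 zgi50) (kgi xgi32 ygi56 zgi26) (kgi xgi32 ygi57 zgi30) (kgi xgi32 ygi53 zgi55) (kgi xgi32 ygi19 zgi31) (kgi xgi32 ygi34 zgi33) (kgi xgi32 ygi31 zgi19) (kgi xgi32 ygi26 zgi26) (kgi xgi31 ygi16 zgi56) (kgi xgi32 ygi59 zgi39) (kgi xgi32 ygi26 zgi18) (kgi xgi32 ygi21 zgi49) (kgi xgi31 ygi19 zgi33) (kgi xgi32 ygi51 zgi45) (kgi xgi32 ygi59 zgi45) (kgi xgi32 ygi38 zgi8) (kgi xgi31 ygi33 zgi24) (kgi xgi32 ygi39 zgi2) (kgi xgi32 ygi57 zgi13) (kgi xgi31 ygi51 zgi30) (kgi xgi31 ygi51 zgi51) (kgi xgi31 ygi51 zgi40) (kgi xgi31 ygi20 zgi0) (kgi xgi32 ygi17 zgi45) (kgi xgi32 ygi36 zgi51) (kgi xgi32 ygi58 zgi55) (kgi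 xgi31 ygi52 zgi37) (kgi xgi32 ygi57 zgi37) (kgi xgi32 ygi43 zgi44) (kgi xgi32 ygi59 zgi59) (kgi xgi31 ygi22 zgi30) (kgi xgi32 ygi51 zgi13) (kgi xgi32 ygi59 zgi5) (kgi xgi31 ygi56 zgi31) (kgi xgi31 ygi55 zgi38) (kgi xgi31 ygi52 zgi48) (kgi xgi32 ygi41 zgi33) (kgi xgi32 ygi45 zgi55) (kgi xgi32 ygi59 zgi38) (kgi xgi32 ygi55 zgi54) (kgi xgi32 ygi58 zgi0) (kgi xgi31 ygi25 zgi35) (kgi xgi32 ygi57 zgi55) (kgi xgi32 ygi30 zgi35) (kgi xgi32 ygi10 zgi45) (kgi xgi32 ygi56 zgi52) (kgi xgi32 ygi0 zgi9) (kgi xgi32 ygi35 zgi21) (kgi xgi32 ygi47 zgi16)) (@D3.rec (fun _ => Pt) (kgi xgi31 ygi27 zgi9) (kgi xgi31 ygi34 zgi55) (kgi xgi32 ygi13 zgi56) (kgi xgi31 ygi27 zgi27) (kgi xgi32 ygi12 zgi23) (kgi xgi31 ygi27 zgi40) (kgi xgi32 ygi24 zgi40) (kgi xgi32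 ygi43 zgi25) (kgi xgi32 ygi15 zgi14) (kgi xgi32 ygi34 zgi61) (kgi xgi32 ygi56 zgi31) (kgi xgi32 ygi3 zgi40) (kgi xgi32 ygi41 zgi55) (kgi xgi32 ygi57 zgi18) (kgi xgi32 ygi52 zgi43) (kgi xgi32 ygi52 zgi2) (kgi xgi32 ygi51 zgi18) (kgi xgi31 ygi31 zgi41) (kgi xgi32 ygi57 zgi10) (kgi xgi32 ygi36 zgi24) (kgi xgi31 ygi32 zgi5) (kgi xgi32 ygi53 zgi19) (kgi xgi31 ygi32 zgi59) (kgi xgi32 ygi57 zgi23) (kgi xgi32 ygi55 zgi57) (kgi xgi31 ygi33 zgi15) (kgi xgi31 ygi33 zgi38) (kgi xgi32 ygi57 zgi27) (kgi xgi31 ygi48 zgi6) (kgi xgi32 ygi33 zgi31) (kgi xgi32 ygi52 zgi3) (kgi xgi32 ygi4 zgi26) (kgi xgi32 ygi20 zgi2) (kgi xgi32 ygi32 zgi28) (kgi xgi32 ygi58 zgi51) (kgi xgi32 ygi43 zgi42) (kgi xgi32 ygi7 zgi10) (kgi xgi32 ygi5 zgi21) (kgi xgi32 ygi58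 zgi7) (kgi xgi32 ygi38 zgi36) (kgi xgi31 ygi40 zgi10) (kgi xgi31 ygi40 zgi11) (kgi xgi31 ygi52 zgi25) (kgi xgi31 ygi40 zgi15) (kgi xgi32 ygi57 zgi50) (kgi xgi32 ygi59 zgi6) (kgi xgi31 ygi50 zgi45) (kgi xgi32 ygi58 zgi13) (kgi xgi31 ygi52 zgi5) (kgi xgi32 ygi43 zgi12) (kgi xgi32 ygi57 zgi43) (kgi xgi31 ygi52 zgi10) (kgi xgi32 ygi40 zgi39) (kgi xgi32 ygi30 zgi38) (kgi xgi32 ygi19 zgi21) (kgi xgi32 ygi56 zgi55) (kgi xgi32 ygi2 zgi14) (kgi xgi31 ygi59 zgi4) (kgi xgi32 ygi1 zgi38) (kgi xgi31 ygi46 zgi17) (kgi xgi32 ygi58 zgi44) (kgi xgi32 ygi9 zgi32)) (@D3.rec (fun _ => Pt) (kgi xgi32 ygi28 zgi8) (kgi xgi32 ygi45 zgi43) (kgi xgi32 ygi20 zgi34) (kgi xgi32 ygi50 zgi4) (kgi xgi32 ygi58 zgi30) (kgi xgi31 ygi48 zgi1) (kgi xgi32 ygi49 zgi9)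 (kgi xgi32 ygi41 zgi36) (kgi xgi31 ygi53 zgi14) (kgi xgi31 ygi51 zgi41) (kgi xgi32 ygi37 zgi59) (kgi xgi32 ygi39 zgi20) (kgi xgi32 ygi24 zgi42) (kgi xgi32 ygi57 zgi39) (kgi xgi31 ygi51 zgi38) (kgi xgi31 ygi51 zgi43) (kgi xgi32 ygi53 zgi54) (kgi xgi32 ygi40 zgi47) (kgi xgi32 ygi36 zgi34) (kgi xgi32 ygi57 zgi38) (kgi xgi31 ygi52 zgi16) (kgi xgi31 ygi52 zgi13) (kgi xgi32 ygi39 zgi44) (kgi xgi32 ygi59 zgi58) (kgi xgi32 ygi46 zgi15) (kgi xgi32 ygi46 zgi23) (kgi xgi32 ygi20 zgi44) (kgi xgi32 ygi55 zgi47) (kgi xgi32 ygi8 zgi52) (kgi xgi31 ygi57 zgi16) (kgi xgi32 ygi58 zgi3) (kgi xgi32 ygi53 zgi24) (kgi xgi32 ygi31 zgi48) (kgi xgi31 ygi54 zgi22) (kgi xgi32 ygi43 zgi52) (kgi xgi31 ygi56 zgi8) (kgi xgi32 ygi44 zgi46) (kgi xgi32 ygi59 zgi48)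 (kgi xgi32 ygi50 zgi0) (kgi xgi32 ygi59 zgi56) (kgi xgi32 ygi4 zgi3) (kgi xgi32 ygi22 zgi18) (kgi xgi32 ygi57 zgi35) (kgi xgi32 ygi40 zgi44) (kgi xgi32 ygi57 zgi60) (kgi xgi32 ygi55 zgi48) (kgi xgi32 ygi43 zgi47) (kgi xgi32 ygi31 zgi23) (kgi xgi32 ygi4 zgi27) (kgi xgi32 ygi57 zgi53) (kgi xgi32 ygi26 zgi19) (kgi xgi32 ygi58 zgi50) (kgi xgi32 ygi28 zgi38) (kgi xgi32 ygi49 zgi26) (kgi xgi32 ygi59 zgi30) (kgi xgi32 ygi58 zgi57) (kgi xgi32 ygi59 zgi37) (kgi xgi32 ygi50 zgi59) (kgi xgi32 ygi12 zgi45) (kgi xgi32 ygi23 zgi7) (kgi xgi32 ygi56 zgi58) (kgi xgi32 ygi59 zgi16)) (@D3.rec (fun _ => Pt) (kgi xgi32 ygi41 zgi1) (kgi xgi32 ygi51 zgi58) (kgi xgi32 ygi17 zgi48) (kgi xgi32 ygi58 zgi24) (kgi xgi32 ygi59 zgi22) (kgi xgi32 ygi18 zgi1) (kgi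 xgi32 ygi58 zgi17) (kgi xgi32 ygi19 zgi18) (kgi xgi32 ygi49 zgi61) (kgi xgi32 ygi54 zgi30) (kgi xgi32 ygi51 zgi51) (kgi xgi32 ygi20 zgi46) (kgi xgi32 ygi58 zgi5) (kgi xgi32 ygi56 zgi14) (kgi xgi32 ygi46 zgi9) (kgi xgi32 ygi26 zgi37) (kgi xgi32 ygi55 zgi20) (kgi xgi32 ygi46 zgi13) (kgi xgi32 ygi57 zgi48) (kgi xgi32 ygi38 zgi21) (kgi xgi32 ygi54 zgi3) (kgi xgi32 ygi51 zgi23) (kgi xgi32 ygi56 zgi42) (kgi xgi32 ygi59 zgi20) (kgi xgi32 ygi37 zgi24) (kgi xgi32 ygi35 zgi27) (kgi xgi32 ygi37 zgi27) (kgi xgi32 ygi37 zgi46) (kgi xgi32 ygi59 zgi32) (kgi xgi32 ygi47 zgi54) (kgi xgi32 ygi36 zgi22) (kgi xgi32 ygi42 zgi25) (kgi xgi32 ygi59 zgi28) (kgi xgi32 ygi52 zgi51) (kgi xgi32 ygi41 zgi48) (kgi xgi32 ygi59 zgi10) (kgi xgi32 ygi46 zgi11) (kgi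 xgi32 ygi58 zgi56) (kgi xgi32 ygi56 zgi51) (kgi xgi32 ygi56 zgi22) (kgi xgi32 ygi46 zgi10) (kgi xgi32 ygi59 zgi41) (kgi xgi32 ygi59 zgi60) (kgi xgi32 ygi51 zgi53) (kgi xgi32 ygi51 zgi60) (kgi xgi32 ygi56 zgi27) (kgi xgi32 ygi45 zgi61) (kgi xgi32 ygi46 zgi0) (kgi xgi32 ygi58 zgi38) (kgi xgi32 ygi46 zgi8) (kgi xgi32 ygi59 zgi61) (kgi xgi32 ygi59 zgi57) (kgi xgi32 ygi59 zgi52) (kgi xgi32 ygi51 zgi49) (kgi xgi32 ygi56 zgi35) (kgi xgi32 ygi51 zgi25) (kgi xgi32 ygi58 zgi36) (kgi xgi32 ygi59 zgi51) (kgi xgi32 ygi58 zgi23) (kgi xgi32 ygi59 zgi4) (kgi xgi32 ygi59 zgi42) (kgi xgi32 ygi59 zgi50))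
def fi_g : Pt → Pt := @Pt.rec (fun _ => Pt) (@D1.rec (fun _ => D2 → D3 → Pt) fi_g_0 fi_g_1 fi_g_2 fi_g_3 fi_g_4 fi_g_5 fi_g_6 fi_g_7 fi_g_8 fi_g_9 fi_g_10 fi_g_11 fi_g_12 fi_g_13 fi_g_14 fi_g_15 fi_g_16 fi_g_17 fi_g_18 fi_g_19 fi_g_20 fi_g_21 fi_g_22 fi_g_23 fi_g_24 fi_g_25 fi_g_26 fi_g_27 fi_g_28 fi_g_29 fi_g_30 fi_g_31 fi_g_32)

end

end Cfsg.Agent.Helper28.S1692
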