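import Cfsg.Agent.Lib.Helper28.S1692.Model

set_option autoImplicit false
set_option maxRecDepth 100000
set_option linter.all false

namespace Cfsg.Agent.Helper28.S1692

open Cfsg.Agent.Helper28
open Cfsg.Spor.ON (Gen)

theorem relchk_12 : chkWordF allPts beqPt relF_12 = true := by decide +kernel

end Cfsg.Agent.Helper28.S1692
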