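import Cfsg.Agent.Lib.Helper28.S1692.LevelsA
import Cfsg.Agent.Lib.Helper28.S1692.Ce_g
import Cfsg.Agent.Lib.Helper28.S1692.Ce_a
import Cfsg.Agent.Lib.Helper28.S1692.Ce_b
import Cfsg.Agent.Lib.Helper28.S1692.Ce_c
import Cfsg.Agent.Lib.Helper28.S1692.Ce_d
import Cfsg.Agent.Lib.Helper28.S1692.Ce_e
import Cfsg.Agent.Lib.Helper28.S1692.Ce_f
import Cfsg.Agent.Lib.Helper28.TCSeed2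

set_option autoImplicit false
set_option maxRecDepth 100000
set_option linter.all false

namespace Cfsg.Agent.Helper28.S1692

open Cfsg.Agent.Helper28
open Cfsg.Spor.ON (Gen)

noncomputable section

def cert : (x : Gen) → Pt → Cert rels S x := @Gen.rec (fun x => Pt → Cert rels S x) ce_g ce_a ce_b ce_c ce_d ce_e ce_f
def sd : Gen → Pt → Nat := @Gen.rec (fun _ => Pt → Nat) sd_g sd_a sd_b sd_c sd_d sd_e sd_f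
def isSeed : Gen → Pt → Bool := isSeedT sd
namespace KL
abbrev LD1_c0 := D1.c0
abbrev LD1_c1 := D1.c1
abbrev LD1_c2 := D1.c2
abbrev LD1_c3 := D1.c3
abbrev LD1_c4 := D1.c4
abbrev LD1_c5 := D1.c5
abbrev LD1_c6 := D1.c6
abbrev LD1_c7 := D1.c7
abbrev LD1_c8 := D1.c8
abbrev LD1_c9 := D1.c9
abbrev LD1_c10 := D1.c10
abbrev LD1_c11 := D1.c11
abbrev LD1_c12 := D1.c12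
abbrev LD1_c13 := D1.c13
abbrev LD1_c14 := D1.c14
abbrev LD1_c15 := D1.c15
abbrev LD1_c16 := D1.c16
abbrev LD1_c17 := D1.c17
abbrev LD1_c18 := D1.c18
abbrev LD1_c19 := D1.c19
abbrev LD1_c20 := D1.c20
abbrev LD1_c21 := D1.c21
abbrev LD1_c22 := D1.c22
abbrev LD1_c23 := D1.c23
abbrev LD1_c24 := D1.c24
abbrev LD1_c25 := D1.c25
abbrev LD1_c26 := D1.c26
abbrev LD1_c27 := D1.c27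
abbrev LD1_c28 := D1.c28
abbrev LD1_c29 := D1.c29
abbrev LD1_c30 := D1.c30
abbrev LD1_c31 := D1.c31
abbrev LD1_c32 := D1.c32
abbrev LD2_c0 := D2.c0
abbrev LD2_c1 := D2.c1
abbrev LD2_c2 := D2.c2
abbrev LD2_c3 := D2.c3
abbrev LD2_c4 := D2.c4
abbrev LD2_c5 := D2.c5
abbrev LD2_c6 := D2.c6
abbrev LD2_c7 := D2.c7
abbrev LD2_c8 := D2.c8
abbrev LD2_c9 := D2.c9
abbrev LD2_c10 := D2.c10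
abbrev LD2_c11 := D2.c11
abbrev LD2_c12 := D2.c12
abbrev LD2_c13 := D2.c13
abbrev LD2_c14 := D2.c14
abbrev LD2_c15 := D2.c15
abbrev LD2_c16 := D2.c16
abbrev LD2_c17 := D2.c17
abbrev LD2_c18 := D2.c18
abbrev LD2_c19 := D2.c19
abbrev LD2_c20 := D2.c20
abbrev LD2_c21 := D2.c21
abbrev LD2_c22 := D2.c22
abbrev LD2_c23 := D2.c23
abbrev LD2_c24 := D2.c24
abbrev LD2_c25 := D2.c25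
abbrev LD2_c26 := D2.c26
abbrev LD2_c27 := D2.c27
abbrev LD2_c28 := D2.c28
abbrev LD2_c29 := D2.c29
abbrev LD2_c30 := D2.c30
abbrev LD2_c31 := D2.c31
abbrev LD2_c32 := D2.c32
abbrev LD2_c33 := D2.c33
abbrev LD2_c34 := D2.c34
abbrev LD2_c35 := D2.c35
abbrev LD2_c36 := D2.c36
abbrev LD2_c37 := D2.c37
abbrev LD2_c38 := D2.c38
abbrev LD2_c39 := D2.c39
abbrev LD2_c40 := D2.c40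
abbrev LD2_c41 := D2.c41
abbrev LD2_c42 := D2.c42
abbrev LD2_c43 := D2.c43
abbrev LD2_c44 := D2.c44
abbrev LD2_c45 := D2.c45
abbrev LD2_c46 := D2.c46
abbrev LD2_c47 := D2.c47
abbrev LD2_c48 := D2.c48
abbrev LD2_c49 := D2.c49
abbrev LD2_c50 := D2.c50
abbrev LD2_c51 := D2.c51
abbrev LD2_c52 := D2.c52
abbrev LD2_c53 := D2.c53
abbrev LD2_c54 := D2.c54
abbrev LD2_c55 := D2.c55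
abbrev LD2_c56 := D2.c56
abbrev LD2_c57 := D2.c57
abbrev LD2_c58 := D2.c58
abbrev LD2_c59 := D2.c59
abbrev LD3_c0 := D3.c0
abbrev LD3_c1 := D3.c1
abbrev LD3_c2 := D3.c2
abbrev LD3_c3 := D3.c3
abbrev LD3_c4 := D3.c4
abbrev LD3_c5 := D3.c5
abbrev LD3_c6 := D3.c6
abbrev LD3_c7 := D3.c7
abbrev LD3_c8 := D3.c8
abbrev LD3_c9 := D3.c9
abbrev LD3_c10 := D3.c10
abbrev LD3_c11 := D3.c11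
abbrev LD3_c12 := D3.c12
abbrev LD3_c13 := D3.c13
abbrev LD3_c14 := D3.c14
abbrev LD3_c15 := D3.c15
abbrev LD3_c16 := D3.c16
abbrev LD3_c17 := D3.c17
abbrev LD3_c18 := D3.c18
abbrev LD3_c19 := D3.c19
abbrev LD3_c20 := D3.c20
abbrev LD3_c21 := D3.c21
abbrev LD3_c22 := D3.c22
abbrev LD3_c23 := D3.c23
abbrev LD3_c24 := D3.c24
abbrev LD3_c25 := D3.c25
abbrev LD3_c26 := D3.c26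
abbrev LD3_c27 := D3.c27
abbrev LD3_c28 := D3.c28
abbrev LD3_c29 := D3.c29
abbrev LD3_c30 := D3.c30
abbrev LD3_c31 := D3.c31
abbrev LD3_c32 := D3.c32
abbrev LD3_c33 := D3.c33
abbrev LD3_c34 := D3.c34
abbrev LD3_c35 := D3.c35
abbrev LD3_c36 := D3.c36
abbrev LD3_c37 := D3.c37
abbrev LD3_c38 := D3.c38
abbrev LD3_c39 := D3.c39
abbrev LD3_c40 := D3.c40
abbrev LD3_c41 := D3.c41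
abbrev LD3_c42 := D3.c42
abbrev LD3_c43 := D3.c43
abbrev LD3_c44 := D3.c44
abbrev LD3_c45 := D3.c45
abbrev LD3_c46 := D3.c46
abbrev LD3_c47 := D3.c47
abbrev LD3_c48 := D3.c48
abbrev LD3_c49 := D3.c49
abbrev LD3_c50 := D3.c50
abbrev LD3_c51 := D3.c51
abbrev LD3_c52 := D3.c52
abbrev LD3_c53 := D3.c53
abbrev LD3_c54 := D3.c54
abbrev LD3_c55 := D3.c55
abbrev LD3_c56 := D3.c56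
abbrev LD3_c57 := D3.c57
abbrev LD3_c58 := D3.c58
abbrev LD3_c59 := D3.c59
abbrev LD3_c60 := D3.c60
abbrev LD3_c61 := D3.c61
abbrev LG_g := Gen.g
abbrev LG_a := Gen.a
abbrev LG_b := Gen.b
abbrev LG_c := Gen.c
abbrev LG_d := Gen.d
abbrev LG_e := Gen.e
abbrev LG_f := Gen.f
abbrev LK := Pt.mk
end KL
open KL
def spt_31 : List (Gen × Pt) := []
def spt_30 : List (Gen × Pt) := (LG_g, (LK LD1_c20 LD2_c53 LD3_c55)) :: (LG_g, (LK LD1_c29 LD2_c18 LD3_c42)) :: (LG_g, (LK LD1_c11 LD2_c51 LD3_c52)) :: (LG_e, (LK LD1_c21 LD2_c11 LD3_c15)) :: (LG_f, (LK LD1_c29 LD2_c8 LD3_c51)) :: (LG_c, (LK LD1_c20 LD2_c55 LD3_c28)) :: (LG_d, (LK LD1_c20 LD2_c55 LD3_c6)) :: (LG_g, (LK LD1_c18 LD2_c22 LD3_c29)) :: (LG_a, (LK LD1_c26 LD2_c7 LD3_c52))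 :: (LG_d, (LK LD1_c21 LD2_c1 LD3_c32)) :: (LG_b, (LK LD1_c19 LD2_c24 LD3_c19)) :: (LG_a, (LK LD1_c21 LD2_c1 LD3_c32)) :: (LG_g, (LK LD1_c16 LD2_c46 LD3_c23)) :: (LG_a, (LK LD1_c8 LD2_c12 LD3_c51)) :: (LG_g, (LK LD1_c19 LD2_c42 LD3_c38)) :: (LG_d, (LK LD1_c19 LD2_c26 LD3_c0)) :: (LG_c, (LK LD1_c21 LD2_c0 LD3_c4)) :: (LG_f, (LK LD1_c19 LD2_c24 LD3_c19)) :: (LG_g, (LK LD1_c11 LD2_c57 LD3_c16)) :: (LG_g, (LK LD1_c21 LD2_c1 LD3_c49)) :: (LG_a, (LK LD1_c21 LD2_c0 LD3_c5)) :: (LG_g, (LK LD1_c20 LD2_c55 LD3_c38)) :: (LG_g, (LK LD1_c19 LD2_c7 LD3_c54)) :: (LG_c, (LK LD1_c28 LD2_c19 LD3_c45)) :: (LG_g, (LK LD1_c19 LD2_c8 LD3_c48)) :: (LG_g, (LK LD1_c19 LD2_c9 LD3_c32)) :: (LG_g, (LK LD1_c19 LD2_c9 LD3_c33)) :: (LG_b, (LK LD1_c17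 LD2_c36 LD3_c7)) :: (LG_g, (LK LD1_c19 LD2_c25 LD3_c18)) :: (LG_g, (LK LD1_c21 LD2_c1 LD3_c2)) :: (LG_g, (LK LD1_c21 LD2_c1 LD3_c32)) :: (LG_g, (LK LD1_c19 LD2_c26 LD3_c23)) :: (LG_b, (LK LD1_c21 LD2_c1 LD3_c24)) :: (LG_g, (LK LD1_c15 LD2_c17 LD3_c15)) :: (LG_g, (LK LD1_c18 LD2_c50 LD3_c38)) :: (LG_g, (LK LD1_c18 LD2_c41 LD3_c59)) :: (LG_a, (LK LD1_c21 LD2_c2 LD3_c30)) :: (LG_g, (LK LD1_c8 LD2_c12 LD3_c41)) :: (LG_g, (LK LD1_c29 LD2_c50 LD3_c6)) :: (LG_g, (LK LD1_c18 LD2_c24 LD3_c13)) :: (LG_g, (LK LD1_c11 LD2_c57 LD3_c60)) :: (LG_b, (LK LD1_c20 LD2_c37 LD3_c48)) :: (LG_e, (LK LD1_c18 LD2_c25 LD3_c14)) :: (LG_d, (LK LD1_c20 LD2_c56 LD3_c51)) :: (LG_a, (LK LD1_c17 LD2_c58 LD3_c21)) :: (LG_b, (LK LD1_c11 LD2_c58 LD3_c19))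 :: (LG_c, (LK LD1_c17 LD2_c9 LD3_c52)) :: (LG_g, (LK LD1_c19 LD2_c27 LD3_c47)) :: (LG_c, (LK LD1_c19 LD2_c27 LD3_c46)) :: (LG_g, (LK LD1_c10 LD2_c45 LD3_c37)) :: (LG_g, (LK LD1_c20 LD2_c33 LD3_c53)) :: (LG_b, (LK LD1_c12 LD2_c10 LD3_c12)) :: (LG_g, (LK LD1_c8 LD2_c46 LD3_c30)) :: (LG_g, (LK LD1_c16 LD2_c30 LD3_c19)) :: (LG_c, (LK LD1_c26 LD2_c26 LD3_c41)) :: (LG_g, (LK LD1_c12 LD2_c27 LD3_c18)) :: (LG_b, (LK LD1_c21 LD2_c21 LD3_c12)) :: (LG_g, (LK LD1_c12 LD2_c0 LD3_c34)) :: (LG_g, (LK LD1_c21 LD2_c4 LD3_c51)) :: (LG_b, (LK LD1_c27 LD2_c23 LD3_c28)) :: (LG_g, (LK LD1_c21 LD2_c6 LD3_c16)) :: (LG_d, (LK LD1_c30 LD2_c13 LD3_c7)) :: (LG_g, (LK LD1_c12 LD2_c31 LD3_c31)) :: (LG_c, (LK LD1_c12 LD2_c1 LD3_c19)) :: (LG_a,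 (LK LD1_c12 LD2_c43 LD3_c10)) :: (LG_g, (LK LD1_c12 LD2_c2 LD3_c30)) :: (LG_d, (LK LD1_c21 LD2_c7 LD3_c52)) :: (LG_f, (LK LD1_c12 LD2_c45 LD3_c42)) :: (LG_g, (LK LD1_c21 LD2_c8 LD3_c22)) :: (LG_g, (LK LD1_c22 LD2_c10 LD3_c60)) :: (LG_e, (LK LD1_c16 LD2_c57 LD3_c9)) :: (LG_g, (LK LD1_c17 LD2_c30 LD3_c15)) :: (LG_g, (LK LD1_c21 LD2_c22 LD3_c36)) :: (LG_a, (LK LD1_c21 LD2_c11 LD3_c22)) :: (LG_g, (LK LD1_c26 LD2_c26 LD3_c49)) :: (LG_d, (LK LD1_c23 LD2_c34 LD3_c50)) :: (LG_d, (LK LD1_c16 LD2_c32 LD3_c52)) :: (LG_c, (LK LD1_c27 LD2_c2 LD3_c23)) :: (LG_b, (LK LD1_c15 LD2_c8 LD3_c19)) :: (LG_a, (LK LD1_c17 LD2_c59 LD3_c53)) :: (LG_f, (LK LD1_c20 LD2_c34 LD3_c42)) :: (LG_g, (LK LD1_c17 LD2_c18 LD3_c54)) :: (LG_g, (LK LD1_c27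 LD2_c8 LD3_c53)) :: (LG_g, (LK LD1_c24 LD2_c47 LD3_c20)) :: (LG_g, (LK LD1_c17 LD2_c24 LD3_c24)) :: (LG_g, (LK LD1_c17 LD2_c2 LD3_c27)) :: (LG_c, (LK LD1_c18 LD2_c0 LD3_c31)) :: (LG_a, (LK LD1_c20 LD2_c34 LD3_c43)) :: (LG_g, (LK LD1_c21 LD2_c14 LD3_c18)) :: (LG_g, (LK LD1_c21 LD2_c14 LD3_c48)) :: (LG_g, (LK LD1_c23 LD2_c3 LD3_c25)) :: (LG_d, (LK LD1_c24 LD2_c56 LD3_c34)) :: (LG_g, (LK LD1_c12 LD2_c6 LD3_c49)) :: (LG_a, (LK LD1_c6 LD2_c24 LD3_c50)) :: spt_31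
def spt_29 : List (Gen × Pt) := (LG_a, (LK LD1_c18 LD2_c43 LD3_c3)) :: (LG_b, (LK LD1_c20 LD2_c22 LD3_c32)) :: (LG_f, (LK LD1_c23 LD2_c31 LD3_c44)) :: (LG_g, (LK LD1_c13 LD2_c59 LD3_c12)) :: (LG_c, (LK LD1_c12 LD2_c31 LD3_c7)) :: (LG_g, (LK LD1_c12 LD2_c55 LD3_c24)) :: (LG_g, (LK LD1_c15 LD2_c6 LD3_c16)) :: (LG_c, (LK LD1_c17 LD2_c0 LD3_c21)) :: (LG_g, (LK LD1_c24 LD2_c57 LD3_c22)) :: (LG_b, (LK LD1_c15 LD2_c8 LD3_c4)) :: (LG_d, (LK LD1_c30 LD2_c17 LD3_c59)) :: (LG_g, (LK LD1_c22 LD2_c40 LD3_c27)) :: (LG_g, (LK LD1_c20 LD2_c27 LD3_c12)) :: (LG_g, (LK LD1_c17 LD2_c12 LD3_c19)) :: (LG_g, (LK LD1_c12 LD2_c44 LD3_c40)) :: (LG_g, (LK LD1_c12 LD2_c44 LD3_c53)) :: (LG_g, (LK LD1_c17 LD2_c1 LD3_c29)) :: (LG_g, (LK LD1_c11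 LD2_c8 LD3_c17)) :: (LG_a, (LK LD1_c20 LD2_c46 LD3_c21)) :: (LG_g, (LK LD1_c18 LD2_c0 LD3_c6)) :: (LG_a, (LK LD1_c29 LD2_c35 LD3_c29)) :: (LG_c, (LK LD1_c29 LD2_c36 LD3_c49)) :: (LG_f, (LK LD1_c20 LD2_c52 LD3_c2)) :: (LG_c, (LK LD1_c21 LD2_c37 LD3_c20)) :: (LG_g, (LK LD1_c17 LD2_c18 LD3_c13)) :: (LG_f, (LK LD1_c20 LD2_c28 LD3_c16)) :: (LG_a, (LK LD1_c20 LD2_c17 LD3_c47)) :: (LG_a, (LK LD1_c24 LD2_c47 LD3_c19)) :: (LG_f, (LK LD1_c24 LD2_c47 LD3_c19)) :: (LG_g, (LK LD1_c10 LD2_c17 LD3_c26)) :: (LG_g, (LK LD1_c19 LD2_c9 LD3_c39)) :: (LG_g, (LK LD1_c18 LD2_c57 LD3_c25)) :: (LG_g, (LK LD1_c11 LD2_c34 LD3_c27)) :: (LG_g, (LK LD1_c29 LD2_c54 LD3_c39)) :: (LG_c, (LK LD1_c13 LD2_c1 LD3_c21)) :: (LG_a, (LK LD1_c20 LD2_c0 LD3_c17))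 :: (LG_f, (LK LD1_c20 LD2_c33 LD3_c4)) :: (LG_a, (LK LD1_c11 LD2_c35 LD3_c17)) :: (LG_c, (LK LD1_c20 LD2_c33 LD3_c53)) :: (LG_b, (LK LD1_c12 LD2_c10 LD3_c16)) :: (LG_c, (LK LD1_c20 LD2_c33 LD3_c48)) :: (LG_g, (LK LD1_c15 LD2_c27 LD3_c5)) :: (LG_a, (LK LD1_c17 LD2_c6 LD3_c19)) :: (LG_g, (LK LD1_c27 LD2_c59 LD3_c59)) :: (LG_g, (LK LD1_c12 LD2_c44 LD3_c5)) :: (LG_g, (LK LD1_c16 LD2_c26 LD3_c19)) :: (LG_b, (LK LD1_c21 LD2_c30 LD3_c7)) :: (LG_c, (LK LD1_c21 LD2_c30 LD3_c45)) :: (LG_g, (LK LD1_c29 LD2_c31 LD3_c7)) :: (LG_g, (LK LD1_c20 LD2_c36 LD3_c23)) :: (LG_d, (LK LD1_c26 LD2_c32 LD3_c0)) :: (LG_g, (LK LD1_c20 LD2_c12 LD3_c14)) :: (LG_a, (LK LD1_c18 LD2_c42 LD3_c7)) :: (LG_g, (LK LD1_c11 LD2_c39 LD3_c7)) :: (LG_g, (LK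 LD1_c18 LD2_c21 LD3_c27)) :: (LG_a, (LK LD1_c22 LD2_c4 LD3_c12)) :: (LG_d, (LK LD1_c30 LD2_c17 LD3_c22)) :: (LG_g, (LK LD1_c12 LD2_c54 LD3_c34)) :: (LG_e, (LK LD1_c12 LD2_c54 LD3_c13)) :: (LG_a, (LK LD1_c11 LD2_c58 LD3_c0)) :: (LG_g, (LK LD1_c18 LD2_c1 LD3_c36)) :: (LG_g, (LK LD1_c20 LD2_c40 LD3_c4)) :: (LG_b, (LK LD1_c21 LD2_c9 LD3_c10)) :: (LG_e, (LK LD1_c11 LD2_c46 LD3_c43)) :: (LG_g, (LK LD1_c20 LD2_c25 LD3_c52)) :: (LG_g, (LK LD1_c20 LD2_c43 LD3_c7)) :: (LG_a, (LK LD1_c11 LD2_c47 LD3_c15)) :: (LG_c, (LK LD1_c32 LD2_c17 LD3_c32)) :: (LG_a, (LK LD1_c27 LD2_c42 LD3_c47)) :: (LG_g, (LK LD1_c17 LD2_c12 LD3_c22)) :: (LG_a, (LK LD1_c11 LD2_c44 LD3_c43)) :: (LG_g, (LK LD1_c20 LD2_c48 LD3_c3)) :: (LG_g, (LK LD1_c29 LD2_c26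 LD3_c58)) :: (LG_b, (LK LD1_c17 LD2_c19 LD3_c20)) :: (LG_g, (LK LD1_c20 LD2_c26 LD3_c54)) :: (LG_g, (LK LD1_c20 LD2_c46 LD3_c11)) :: (LG_f, (LK LD1_c20 LD2_c26 LD3_c14)) :: (LG_g, (LK LD1_c20 LD2_c47 LD3_c36)) :: (LG_g, (LK LD1_c27 LD2_c16 LD3_c5)) :: (LG_d, (LK LD1_c27 LD2_c2 LD3_c51)) :: (LG_c, (LK LD1_c27 LD2_c17 LD3_c7)) :: (LG_b, (LK LD1_c27 LD2_c17 LD3_c7)) :: (LG_e, (LK LD1_c20 LD2_c40 LD3_c23)) :: (LG_a, (LK LD1_c23 LD2_c24 LD3_c42)) :: (LG_f, (LK LD1_c23 LD2_c24 LD3_c44)) :: (LG_g, (LK LD1_c17 LD2_c33 LD3_c31)) :: (LG_c, (LK LD1_c20 LD2_c51 LD3_c37)) :: (LG_a, (LK LD1_c12 LD2_c44 LD3_c32)) :: (LG_g, (LK LD1_c16 LD2_c59 LD3_c41)) :: (LG_a, (LK LD1_c17 LD2_c22 LD3_c34)) :: (LG_g, (LK LD1_c11 LD2_c49 LD3_c45))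 :: (LG_g, (LK LD1_c16 LD2_c53 LD3_c21)) :: (LG_a, (LK LD1_c18 LD2_c1 LD3_c32)) :: (LG_b, (LK LD1_c18 LD2_c1 LD3_c32)) :: (LG_d, (LK LD1_c18 LD2_c1 LD3_c32)) :: (LG_e, (LK LD1_c16 LD2_c53 LD3_c17)) :: (LG_f, (LK LD1_c12 LD2_c55 LD3_c30)) :: (LG_c, (LK LD1_c32 LD2_c18 LD3_c4)) :: (LG_g, (LK LD1_c11 LD2_c51 LD3_c33)) :: (LG_g, (LK LD1_c20 LD2_c53 LD3_c50)) :: spt_30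
def spt_28 : List (Gen × Pt) := (LG_b, (LK LD1_c20 LD2_c19 LD3_c24)) :: (LG_g, (LK LD1_c17 LD2_c12 LD3_c15)) :: (LG_a, (LK LD1_c17 LD2_c32 LD3_c60)) :: (LG_g, (LK LD1_c26 LD2_c55 LD3_c4)) :: (LG_e, (LK LD1_c17 LD2_c8 LD3_c23)) :: (LG_c, (LK LD1_c16 LD2_c51 LD3_c42)) :: (LG_a, (LK LD1_c20 LD2_c13 LD3_c24)) :: (LG_g, (LK LD1_c20 LD2_c13 LD3_c39)) :: (LG_f, (LK LD1_c25 LD2_c2 LD3_c41)) :: (LG_g, (LK LD1_c20 LD2_c13 LD3_c58)) :: (LG_g, (LK LD1_c16 LD2_c49 LD3_c40)) :: (LG_g, (LK LD1_c20 LD2_c29 LD3_c13)) :: (LG_a, (LK LD1_c17 LD2_c43 LD3_c48)) :: (LG_g, (LK LD1_c20 LD2_c16 LD3_c46)) :: (LG_g, (LK LD1_c20 LD2_c14 LD3_c58)) :: (LG_g, (LK LD1_c11 LD2_c18 LD3_c46)) :: (LG_c, (LK LD1_c11 LD2_c20 LD3_c5)) :: (LG_f, (LK LD1_c17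 LD2_c56 LD3_c10)) :: (LG_g, (LK LD1_c20 LD2_c15 LD3_c1)) :: (LG_g, (LK LD1_c20 LD2_c14 LD3_c2)) :: (LG_g, (LK LD1_c11 LD2_c20 LD3_c26)) :: (LG_g, (LK LD1_c11 LD2_c20 LD3_c61)) :: (LG_g, (LK LD1_c20 LD2_c19 LD3_c27)) :: (LG_g, (LK LD1_c20 LD2_c19 LD3_c29)) :: (LG_g, (LK LD1_c26 LD2_c53 LD3_c8)) :: (LG_g, (LK LD1_c20 LD2_c20 LD3_c13)) :: (LG_g, (LK LD1_c13 LD2_c59 LD3_c2)) :: (LG_a, (LK LD1_c7 LD2_c23 LD3_c35)) :: (LG_g, (LK LD1_c20 LD2_c21 LD3_c33)) :: (LG_g, (LK LD1_c11 LD2_c12 LD3_c40)) :: (LG_g, (LK LD1_c26 LD2_c47 LD3_c2)) :: (LG_g, (LK LD1_c11 LD2_c24 LD3_c35)) :: (LG_b, (LK LD1_c18 LD2_c23 LD3_c25)) :: (LG_g, (LK LD1_c10 LD2_c18 LD3_c19)) :: (LG_g, (LK LD1_c5 LD2_c43 LD3_c34)) :: (LG_g, (LK LD1_c17 LD2_c54 LD3_c60))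 :: (LG_g, (LK LD1_c17 LD2_c54 LD3_c57)) :: (LG_c, (LK LD1_c11 LD2_c12 LD3_c12)) :: (LG_g, (LK LD1_c20 LD2_c13 LD3_c13)) :: (LG_d, (LK LD1_c20 LD2_c13 LD3_c13)) :: (LG_e, (LK LD1_c20 LD2_c49 LD3_c32)) :: (LG_g, (LK LD1_c17 LD2_c32 LD3_c10)) :: (LG_c, (LK LD1_c16 LD2_c49 LD3_c46)) :: (LG_g, (LK LD1_c9 LD2_c4 LD3_c34)) :: (LG_b, (LK LD1_c16 LD2_c54 LD3_c24)) :: (LG_b, (LK LD1_c20 LD2_c20 LD3_c23)) :: (LG_g, (LK LD1_c26 LD2_c54 LD3_c49)) :: (LG_b, (LK LD1_c11 LD2_c47 LD3_c31)) :: (LG_g, (LK LD1_c16 LD2_c54 LD3_c29)) :: (LG_g, (LK LD1_c5 LD2_c43 LD3_c15)) :: (LG_g, (LK LD1_c20 LD2_c9 LD3_c40)) :: (LG_f, (LK LD1_c17 LD2_c32 LD3_c11)) :: (LG_a, (LK LD1_c11 LD2_c47 LD3_c31)) :: (LG_b, (LK LD1_c20 LD2_c17 LD3_c41)) :: (LG_a,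 (LK LD1_c20 LD2_c12 LD3_c42)) :: (LG_b, (LK LD1_c11 LD2_c16 LD3_c52)) :: (LG_g, (LK LD1_c11 LD2_c20 LD3_c23)) :: (LG_g, (LK LD1_c20 LD2_c54 LD3_c25)) :: (LG_g, (LK LD1_c27 LD2_c21 LD3_c34)) :: (LG_g, (LK LD1_c29 LD2_c15 LD3_c24)) :: (LG_b, (LK LD1_c20 LD2_c15 LD3_c9)) :: (LG_g, (LK LD1_c20 LD2_c14 LD3_c11)) :: (LG_g, (LK LD1_c11 LD2_c7 LD3_c58)) :: (LG_b, (LK LD1_c20 LD2_c6 LD3_c33)) :: (LG_g, (LK LD1_c11 LD2_c11 LD3_c51)) :: (LG_g, (LK LD1_c11 LD2_c18 LD3_c44)) :: (LG_g, (LK LD1_c16 LD2_c49 LD3_c46)) :: (LG_c, (LK LD1_c20 LD2_c30 LD3_c26)) :: (LG_g, (LK LD1_c9 LD2_c1 LD3_c33)) :: (LG_g, (LK LD1_c12 LD2_c8 LD3_c58)) :: (LG_g, (LK LD1_c26 LD2_c49 LD3_c10)) :: (LG_g, (LK LD1_c13 LD2_c47 LD3_c52)) :: (LG_a, (LK LD1_c11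 LD2_c29 LD3_c44)) :: (LG_g, (LK LD1_c11 LD2_c31 LD3_c49)) :: (LG_d, (LK LD1_c11 LD2_c27 LD3_c16)) :: (LG_a, (LK LD1_c11 LD2_c27 LD3_c17)) :: (LG_c, (LK LD1_c27 LD2_c42 LD3_c16)) :: (LG_a, (LK LD1_c20 LD2_c22 LD3_c53)) :: (LG_a, (LK LD1_c17 LD2_c34 LD3_c22)) :: (LG_a, (LK LD1_c14 LD2_c35 LD3_c31)) :: (LG_a, (LK LD1_c20 LD2_c23 LD3_c17)) :: (LG_c, (LK LD1_c21 LD2_c59 LD3_c57)) :: (LG_a, (LK LD1_c20 LD2_c26 LD3_c58)) :: (LG_b, (LK LD1_c20 LD2_c26 LD3_c58)) :: (LG_b, (LK LD1_c13 LD2_c3 LD3_c7)) :: (LG_g, (LK LD1_c11 LD2_c26 LD3_c13)) :: (LG_b, (LK LD1_c20 LD2_c23 LD3_c45)) :: (LG_a, (LK LD1_c26 LD2_c53 LD3_c56)) :: (LG_c, (LK LD1_c24 LD2_c12 LD3_c1)) :: (LG_g, (LK LD1_c18 LD2_c1 LD3_c38)) :: (LG_c, (LK LD1_c26 LD2_c48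 LD3_c57)) :: (LG_g, (LK LD1_c21 LD2_c31 LD3_c43)) :: (LG_g, (LK LD1_c8 LD2_c48 LD3_c8)) :: (LG_g, (LK LD1_c24 LD2_c54 LD3_c25)) :: (LG_g, (LK LD1_c12 LD2_c25 LD3_c40)) :: (LG_g, (LK LD1_c17 LD2_c55 LD3_c37)) :: (LG_c, (LK LD1_c24 LD2_c56 LD3_c57)) :: (LG_c, (LK LD1_c11 LD2_c28 LD3_c16)) :: (LG_g, (LK LD1_c16 LD2_c30 LD3_c2)) :: (LG_e, (LK LD1_c20 LD2_c50 LD3_c41)) :: spt_29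
def spt_27 : List (Gen × Pt) := (LG_c, (LK LD1_c25 LD2_c49 LD3_c4)) :: (LG_g, (LK LD1_c24 LD2_c57 LD3_c57)) :: (LG_g, (LK LD1_c10 LD2_c44 LD3_c46)) :: (LG_c, (LK LD1_c16 LD2_c11 LD3_c32)) :: (LG_g, (LK LD1_c26 LD2_c9 LD3_c13)) :: (LG_g, (LK LD1_c21 LD2_c1 LD3_c10)) :: (LG_g, (LK LD1_c5 LD2_c27 LD3_c5)) :: (LG_g, (LK LD1_c19 LD2_c25 LD3_c17)) :: (LG_d, (LK LD1_c20 LD2_c54 LD3_c61)) :: (LG_g, (LK LD1_c10 LD2_c34 LD3_c34)) :: (LG_a, (LK LD1_c5 LD2_c26 LD3_c49)) :: (LG_f, (LK LD1_c15 LD2_c31 LD3_c33)) :: (LG_a, (LK LD1_c21 LD2_c0 LD3_c31)) :: (LG_a, (LK LD1_c15 LD2_c30 LD3_c45)) :: (LG_a, (LK LD1_c18 LD2_c24 LD3_c46)) :: (LG_c, (LK LD1_c25 LD2_c23 LD3_c38)) :: (LG_g, (LK LD1_c15 LD2_c30 LD3_c28)) :: (LG_g, (LK LD1_c5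 LD2_c27 LD3_c20)) :: (LG_g, (LK LD1_c19 LD2_c26 LD3_c28)) :: (LG_g, (LK LD1_c19 LD2_c26 LD3_c25)) :: (LG_g, (LK LD1_c25 LD2_c32 LD3_c34)) :: (LG_g, (LK LD1_c19 LD2_c32 LD3_c14)) :: (LG_c, (LK LD1_c16 LD2_c45 LD3_c12)) :: (LG_d, (LK LD1_c29 LD2_c0 LD3_c39)) :: (LG_g, (LK LD1_c19 LD2_c40 LD3_c10)) :: (LG_g, (LK LD1_c10 LD2_c52 LD3_c53)) :: (LG_g, (LK LD1_c19 LD2_c40 LD3_c11)) :: (LG_g, (LK LD1_c20 LD2_c5 LD3_c12)) :: (LG_g, (LK LD1_c20 LD2_c5 LD3_c22)) :: (LG_b, (LK LD1_c19 LD2_c48 LD3_c2)) :: (LG_g, (LK LD1_c19 LD2_c43 LD3_c44)) :: (LG_c, (LK LD1_c32 LD2_c13 LD3_c23)) :: (LG_g, (LK LD1_c19 LD2_c45 LD3_c13)) :: (LG_c, (LK LD1_c16 LD2_c47 LD3_c4)) :: (LG_b, (LK LD1_c19 LD2_c49 LD3_c39)) :: (LG_c, (LK LD1_c29 LD2_c20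 LD3_c15)) :: (LG_g, (LK LD1_c19 LD2_c47 LD3_c8)) :: (LG_f, (LK LD1_c20 LD2_c0 LD3_c43)) :: (LG_c, (LK LD1_c20 LD2_c6 LD3_c0)) :: (LG_g, (LK LD1_c19 LD2_c50 LD3_c9)) :: (LG_g, (LK LD1_c19 LD2_c50 LD3_c19)) :: (LG_c, (LK LD1_c26 LD2_c19 LD3_c28)) :: (LG_g, (LK LD1_c19 LD2_c12 LD3_c37)) :: (LG_g, (LK LD1_c19 LD2_c51 LD3_c11)) :: (LG_e, (LK LD1_c5 LD2_c34 LD3_c18)) :: (LG_g, (LK LD1_c19 LD2_c6 LD3_c7)) :: (LG_c, (LK LD1_c20 LD2_c10 LD3_c22)) :: (LG_a, (LK LD1_c19 LD2_c3 LD3_c60)) :: (LG_g, (LK LD1_c19 LD2_c54 LD3_c18)) :: (LG_g, (LK LD1_c29 LD2_c11 LD3_c16)) :: (LG_g, (LK LD1_c19 LD2_c57 LD3_c24)) :: (LG_b, (LK LD1_c20 LD2_c8 LD3_c33)) :: (LG_d, (LK LD1_c18 LD2_c21 LD3_c31)) :: (LG_g, (LK LD1_c12 LD2_c55 LD3_c29)) ::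 (LG_b, (LK LD1_c17 LD2_c32 LD3_c60)) :: (LG_b, (LK LD1_c16 LD2_c18 LD3_c8)) :: (LG_f, (LK LD1_c20 LD2_c0 LD3_c34)) :: (LG_g, (LK LD1_c20 LD2_c6 LD3_c2)) :: (LG_e, (LK LD1_c20 LD2_c1 LD3_c40)) :: (LG_g, (LK LD1_c25 LD2_c18 LD3_c8)) :: (LG_g, (LK LD1_c18 LD2_c24 LD3_c10)) :: (LG_g, (LK LD1_c20 LD2_c4 LD3_c58)) :: (LG_g, (LK LD1_c20 LD2_c5 LD3_c38)) :: (LG_g, (LK LD1_c11 LD2_c23 LD3_c58)) :: (LG_g, (LK LD1_c11 LD2_c20 LD3_c21)) :: (LG_f, (LK LD1_c20 LD2_c6 LD3_c58)) :: (LG_d, (LK LD1_c25 LD2_c45 LD3_c33)) :: (LG_c, (LK LD1_c11 LD2_c11 LD3_c13)) :: (LG_g, (LK LD1_c20 LD2_c5 LD3_c55)) :: (LG_g, (LK LD1_c20 LD2_c0 LD3_c54)) :: (LG_c, (LK LD1_c20 LD2_c6 LD3_c20)) :: (LG_d, (LK LD1_c15 LD2_c30 LD3_c47)) :: (LG_g, (LK LD1_c10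 LD2_c18 LD3_c41)) :: (LG_g, (LK LD1_c18 LD2_c43 LD3_c42)) :: (LG_g, (LK LD1_c9 LD2_c46 LD3_c48)) :: (LG_g, (LK LD1_c26 LD2_c48 LD3_c59)) :: (LG_g, (LK LD1_c11 LD2_c12 LD3_c46)) :: (LG_g, (LK LD1_c11 LD2_c27 LD3_c36)) :: (LG_a, (LK LD1_c11 LD2_c14 LD3_c6)) :: (LG_f, (LK LD1_c20 LD2_c11 LD3_c21)) :: (LG_g, (LK LD1_c19 LD2_c59 LD3_c56)) :: (LG_b, (LK LD1_c20 LD2_c8 LD3_c26)) :: (LG_g, (LK LD1_c11 LD2_c35 LD3_c36)) :: (LG_g, (LK LD1_c20 LD2_c9 LD3_c10)) :: (LG_g, (LK LD1_c12 LD2_c9 LD3_c53)) :: (LG_g, (LK LD1_c20 LD2_c9 LD3_c39)) :: (LG_b, (LK LD1_c17 LD2_c56 LD3_c15)) :: (LG_g, (LK LD1_c20 LD2_c25 LD3_c28)) :: (LG_g, (LK LD1_c20 LD2_c25 LD3_c26)) :: (LG_g, (LK LD1_c20 LD2_c7 LD3_c16)) :: (LG_c, (LK LD1_c21 LD2_c3 LD3_c2))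 :: (LG_a, (LK LD1_c17 LD2_c8 LD3_c48)) :: (LG_c, (LK LD1_c11 LD2_c51 LD3_c13)) :: (LG_g, (LK LD1_c29 LD2_c53 LD3_c6)) :: (LG_g, (LK LD1_c30 LD2_c45 LD3_c27)) :: (LG_g, (LK LD1_c24 LD2_c26 LD3_c60)) :: (LG_f, (LK LD1_c23 LD2_c42 LD3_c44)) :: (LG_g, (LK LD1_c23 LD2_c37 LD3_c37)) :: (LG_f, (LK LD1_c12 LD2_c32 LD3_c26)) :: (LG_g, (LK LD1_c20 LD2_c12 LD3_c42)) :: spt_28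
def spt_26 : List (Gen × Pt) := (LG_g, (LK LD1_c28 LD2_c1 LD3_c51)) :: (LG_a, (LK LD1_c15 LD2_c11 LD3_c6)) :: (LG_g, (LK LD1_c18 LD2_c27 LD3_c30)) :: (LG_c, (LK LD1_c25 LD2_c1 LD3_c59)) :: (LG_c, (LK LD1_c20 LD2_c26 LD3_c18)) :: (LG_g, (LK LD1_c24 LD2_c58 LD3_c59)) :: (LG_a, (LK LD1_c25 LD2_c1 LD3_c23)) :: (LG_g, (LK LD1_c28 LD2_c6 LD3_c5)) :: (LG_g, (LK LD1_c25 LD2_c16 LD3_c18)) :: (LG_g, (LK LD1_c18 LD2_c35 LD3_c37)) :: (LG_g, (LK LD1_c18 LD2_c35 LD3_c60)) :: (LG_g, (LK LD1_c18 LD2_c36 LD3_c25)) :: (LG_a, (LK LD1_c18 LD2_c15 LD3_c32)) :: (LG_g, (LK LD1_c18 LD2_c37 LD3_c11)) :: (LG_c, (LK LD1_c18 LD2_c16 LD3_c13)) :: (LG_a, (LK LD1_c18 LD2_c26 LD3_c7)) :: (LG_c, (LK LD1_c18 LD2_c49 LD3_c47)) :: (LG_g, (LK LD1_c18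 LD2_c35 LD3_c58)) :: (LG_g, (LK LD1_c18 LD2_c54 LD3_c33)) :: (LG_g, (LK LD1_c18 LD2_c19 LD3_c15)) :: (LG_g, (LK LD1_c22 LD2_c34 LD3_c4)) :: (LG_d, (LK LD1_c14 LD2_c43 LD3_c1)) :: (LG_b, (LK LD1_c27 LD2_c50 LD3_c47)) :: (LG_g, (LK LD1_c19 LD2_c40 LD3_c34)) :: (LG_c, (LK LD1_c17 LD2_c58 LD3_c15)) :: (LG_b, (LK LD1_c18 LD2_c22 LD3_c39)) :: (LG_g, (LK LD1_c18 LD2_c36 LD3_c44)) :: (LG_e, (LK LD1_c10 LD2_c45 LD3_c41)) :: (LG_g, (LK LD1_c10 LD2_c5 LD3_c2)) :: (LG_a, (LK LD1_c11 LD2_c0 LD3_c56)) :: (LG_g, (LK LD1_c18 LD2_c21 LD3_c3)) :: (LG_c, (LK LD1_c18 LD2_c15 LD3_c9)) :: (LG_c, (LK LD1_c11 LD2_c40 LD3_c42)) :: (LG_g, (LK LD1_c10 LD2_c7 LD3_c18)) :: (LG_g, (LK LD1_c18 LD2_c43 LD3_c26)) :: (LG_e, (LK LD1_c20 LD2_c49 LD3_c37))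 :: (LG_a, (LK LD1_c18 LD2_c25 LD3_c15)) :: (LG_g, (LK LD1_c21 LD2_c3 LD3_c12)) :: (LG_g, (LK LD1_c15 LD2_c30 LD3_c45)) :: (LG_b, (LK LD1_c11 LD2_c40 LD3_c60)) :: (LG_g, (LK LD1_c18 LD2_c58 LD3_c5)) :: (LG_g, (LK LD1_c18 LD2_c17 LD3_c31)) :: (LG_c, (LK LD1_c25 LD2_c0 LD3_c18)) :: (LG_g, (LK LD1_c18 LD2_c50 LD3_c29)) :: (LG_c, (LK LD1_c18 LD2_c57 LD3_c44)) :: (LG_g, (LK LD1_c18 LD2_c13 LD3_c10)) :: (LG_g, (LK LD1_c19 LD2_c1 LD3_c13)) :: (LG_g, (LK LD1_c18 LD2_c57 LD3_c19)) :: (LG_g, (LK LD1_c18 LD2_c57 LD3_c28)) :: (LG_c, (LK LD1_c28 LD2_c23 LD3_c41)) :: (LG_d, (LK LD1_c18 LD2_c26 LD3_c14)) :: (LG_g, (LK LD1_c29 LD2_c30 LD3_c42)) :: (LG_g, (LK LD1_c9 LD2_c57 LD3_c56)) :: (LG_a, (LK LD1_c10 LD2_c55 LD3_c48)) :: (LG_d,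 (LK LD1_c18 LD2_c11 LD3_c47)) :: (LG_g, (LK LD1_c27 LD2_c50 LD3_c52)) :: (LG_f, (LK LD1_c21 LD2_c3 LD3_c9)) :: (LG_g, (LK LD1_c25 LD2_c0 LD3_c57)) :: (LG_d, (LK LD1_c18 LD2_c9 LD3_c12)) :: (LG_f, (LK LD1_c16 LD2_c35 LD3_c30)) :: (LG_d, (LK LD1_c24 LD2_c48 LD3_c13)) :: (LG_g, (LK LD1_c18 LD2_c48 LD3_c28)) :: (LG_d, (LK LD1_c15 LD2_c52 LD3_c42)) :: (LG_g, (LK LD1_c19 LD2_c10 LD3_c34)) :: (LG_f, (LK LD1_c19 LD2_c5 LD3_c6)) :: (LG_g, (LK LD1_c28 LD2_c43 LD3_c14)) :: (LG_g, (LK LD1_c19 LD2_c41 LD3_c13)) :: (LG_g, (LK LD1_c16 LD2_c40 LD3_c34)) :: (LG_g, (LK LD1_c19 LD2_c5 LD3_c57)) :: (LG_a, (LK LD1_c15 LD2_c3 LD3_c37)) :: (LG_b, (LK LD1_c32 LD2_c28 LD3_c26)) :: (LG_c, (LK LD1_c25 LD2_c48 LD3_c43)) :: (LG_c, (LK LD1_c19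 LD2_c9 LD3_c45)) :: (LG_d, (LK LD1_c19 LD2_c3 LD3_c60)) :: (LG_a, (LK LD1_c19 LD2_c5 LD3_c32)) :: (LG_f, (LK LD1_c10 LD2_c42 LD3_c38)) :: (LG_d, (LK LD1_c17 LD2_c50 LD3_c47)) :: (LG_f, (LK LD1_c10 LD2_c53 LD3_c15)) :: (LG_a, (LK LD1_c20 LD2_c57 LD3_c27)) :: (LG_g, (LK LD1_c10 LD2_c53 LD3_c13)) :: (LG_g, (LK LD1_c19 LD2_c39 LD3_c1)) :: (LG_a, (LK LD1_c15 LD2_c25 LD3_c12)) :: (LG_g, (LK LD1_c19 LD2_c15 LD3_c25)) :: (LG_g, (LK LD1_c16 LD2_c36 LD3_c52)) :: (LG_g, (LK LD1_c19 LD2_c17 LD3_c41)) :: (LG_b, (LK LD1_c25 LD2_c43 LD3_c10)) :: (LG_g, (LK LD1_c19 LD2_c40 LD3_c51)) :: (LG_g, (LK LD1_c19 LD2_c20 LD3_c4)) :: (LG_d, (LK LD1_c19 LD2_c4 LD3_c55)) :: (LG_d, (LK LD1_c17 LD2_c50 LD3_c9)) :: (LG_g, (LK LD1_c15 LD2_c1 LD3_c14))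 :: (LG_g, (LK LD1_c19 LD2_c21 LD3_c35)) :: (LG_g, (LK LD1_c10 LD2_c42 LD3_c25)) :: (LG_g, (LK LD1_c19 LD2_c22 LD3_c58)) :: (LG_g, (LK LD1_c28 LD2_c30 LD3_c46)) :: (LG_g, (LK LD1_c20 LD2_c59 LD3_c29)) :: (LG_g, (LK LD1_c19 LD2_c25 LD3_c11)) :: (LG_b, (LK LD1_c25 LD2_c22 LD3_c23)) :: (LG_d, (LK LD1_c10 LD2_c43 LD3_c51)) :: (LG_d, (LK LD1_c10 LD2_c43 LD3_c50)) :: spt_27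
def spt_25 : List (Gen × Pt) := (LG_a, (LK LD1_c5 LD2_c11 LD3_c50)) :: (LG_g, (LK LD1_c20 LD2_c54 LD3_c31)) :: (LG_g, (LK LD1_c6 LD2_c8 LD3_c16)) :: (LG_b, (LK LD1_c17 LD2_c7 LD3_c1)) :: (LG_g, (LK LD1_c17 LD2_c8 LD3_c43)) :: (LG_g, (LK LD1_c26 LD2_c56 LD3_c46)) :: (LG_c, (LK LD1_c5 LD2_c14 LD3_c53)) :: (LG_c, (LK LD1_c18 LD2_c10 LD3_c29)) :: (LG_a, (LK LD1_c5 LD2_c8 LD3_c27)) :: (LG_a, (LK LD1_c6 LD2_c7 LD3_c24)) :: (LG_c, (LK LD1_c11 LD2_c50 LD3_c61)) :: (LG_g, (LK LD1_c18 LD2_c24 LD3_c53)) :: (LG_g, (LK LD1_c18 LD2_c38 LD3_c18)) :: (LG_g, (LK LD1_c26 LD2_c55 LD3_c7)) :: (LG_c, (LK LD1_c26 LD2_c57 LD3_c25)) :: (LG_g, (LK LD1_c19 LD2_c44 LD3_c19)) :: (LG_g, (LK LD1_c18 LD2_c10 LD3_c45)) :: (LG_c, (LK LD1_c18 LD2_c27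 LD3_c22)) :: (LG_g, (LK LD1_c18 LD2_c37 LD3_c7)) :: (LG_g, (LK LD1_c18 LD2_c26 LD3_c7)) :: (LG_g, (LK LD1_c9 LD2_c57 LD3_c1)) :: (LG_g, (LK LD1_c18 LD2_c10 LD3_c30)) :: (LG_g, (LK LD1_c18 LD2_c16 LD3_c52)) :: (LG_g, (LK LD1_c9 LD2_c58 LD3_c40)) :: (LG_a, (LK LD1_c10 LD2_c22 LD3_c53)) :: (LG_a, (LK LD1_c5 LD2_c3 LD3_c52)) :: (LG_f, (LK LD1_c11 LD2_c58 LD3_c8)) :: (LG_g, (LK LD1_c11 LD2_c51 LD3_c5)) :: (LG_d, (LK LD1_c18 LD2_c16 LD3_c45)) :: (LG_g, (LK LD1_c18 LD2_c32 LD3_c59)) :: (LG_g, (LK LD1_c18 LD2_c43 LD3_c45)) :: (LG_c, (LK LD1_c27 LD2_c55 LD3_c46)) :: (LG_c, (LK LD1_c28 LD2_c9 LD3_c23)) :: (LG_a, (LK LD1_c10 LD2_c13 LD3_c31)) :: (LG_g, (LK LD1_c18 LD2_c17 LD3_c2)) :: (LG_a, (LK LD1_c18 LD2_c38 LD3_c25)) ::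 (LG_g, (LK LD1_c18 LD2_c17 LD3_c22)) :: (LG_f, (LK LD1_c18 LD2_c32 LD3_c24)) :: (LG_g, (LK LD1_c28 LD2_c6 LD3_c50)) :: (LG_g, (LK LD1_c18 LD2_c35 LD3_c4)) :: (LG_d, (LK LD1_c10 LD2_c21 LD3_c48)) :: (LG_d, (LK LD1_c18 LD2_c10 LD3_c25)) :: (LG_g, (LK LD1_c18 LD2_c14 LD3_c9)) :: (LG_g, (LK LD1_c10 LD2_c55 LD3_c50)) :: (LG_g, (LK LD1_c5 LD2_c16 LD3_c43)) :: (LG_d, (LK LD1_c18 LD2_c39 LD3_c17)) :: (LG_f, (LK LD1_c10 LD2_c16 LD3_c55)) :: (LG_b, (LK LD1_c18 LD2_c41 LD3_c42)) :: (LG_g, (LK LD1_c19 LD2_c8 LD3_c53)) :: (LG_g, (LK LD1_c25 LD2_c25 LD3_c59)) :: (LG_g, (LK LD1_c9 LD2_c55 LD3_c43)) :: (LG_a, (LK LD1_c10 LD2_c44 LD3_c18)) :: (LG_g, (LK LD1_c19 LD2_c27 LD3_c26)) :: (LG_g, (LK LD1_c10 LD2_c43 LD3_c18)) :: (LG_g, (LK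 LD1_c10 LD2_c44 LD3_c16)) :: (LG_g, (LK LD1_c18 LD2_c10 LD3_c3)) :: (LG_g, (LK LD1_c18 LD2_c32 LD3_c10)) :: (LG_g, (LK LD1_c18 LD2_c56 LD3_c55)) :: (LG_g, (LK LD1_c18 LD2_c27 LD3_c22)) :: (LG_g, (LK LD1_c28 LD2_c14 LD3_c55)) :: (LG_g, (LK LD1_c15 LD2_c26 LD3_c37)) :: (LG_g, (LK LD1_c27 LD2_c0 LD3_c21)) :: (LG_g, (LK LD1_c28 LD2_c10 LD3_c38)) :: (LG_d, (LK LD1_c18 LD2_c28 LD3_c39)) :: (LG_d, (LK LD1_c18 LD2_c46 LD3_c12)) :: (LG_d, (LK LD1_c18 LD2_c22 LD3_c19)) :: (LG_g, (LK LD1_c18 LD2_c13 LD3_c55)) :: (LG_d, (LK LD1_c10 LD2_c3 LD3_c52)) :: (LG_c, (LK LD1_c28 LD2_c48 LD3_c32)) :: (LG_g, (LK LD1_c10 LD2_c17 LD3_c21)) :: (LG_g, (LK LD1_c20 LD2_c21 LD3_c60)) :: (LG_g, (LK LD1_c20 LD2_c25 LD3_c41)) :: (LG_g, (LK LD1_c26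 LD2_c57 LD3_c61)) :: (LG_g, (LK LD1_c5 LD2_c55 LD3_c0)) :: (LG_g, (LK LD1_c18 LD2_c24 LD3_c37)) :: (LG_g, (LK LD1_c11 LD2_c57 LD3_c42)) :: (LG_g, (LK LD1_c5 LD2_c27 LD3_c4)) :: (LG_g, (LK LD1_c18 LD2_c17 LD3_c8)) :: (LG_g, (LK LD1_c10 LD2_c5 LD3_c50)) :: (LG_g, (LK LD1_c21 LD2_c3 LD3_c1)) :: (LG_g, (LK LD1_c9 LD2_c19 LD3_c35)) :: (LG_c, (LK LD1_c10 LD2_c4 LD3_c51)) :: (LG_c, (LK LD1_c11 LD2_c27 LD3_c46)) :: (LG_b, (LK LD1_c5 LD2_c49 LD3_c32)) :: (LG_b, (LK LD1_c5 LD2_c8 LD3_c8)) :: (LG_g, (LK LD1_c16 LD2_c56 LD3_c24)) :: (LG_e, (LK LD1_c11 LD2_c0 LD3_c22)) :: (LG_e, (LK LD1_c10 LD2_c6 LD3_c55)) :: (LG_g, (LK LD1_c18 LD2_c43 LD3_c11)) :: (LG_e, (LK LD1_c11 LD2_c58 LD3_c9)) :: (LG_a, (LK LD1_c18 LD2_c24 LD3_c15)) ::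 (LG_g, (LK LD1_c10 LD2_c13 LD3_c29)) :: (LG_c, (LK LD1_c18 LD2_c42 LD3_c51)) :: (LG_d, (LK LD1_c27 LD2_c52 LD3_c56)) :: (LG_g, (LK LD1_c18 LD2_c37 LD3_c41)) :: (LG_f, (LK LD1_c16 LD2_c59 LD3_c45)) :: (LG_g, (LK LD1_c18 LD2_c25 LD3_c8)) :: (LG_g, (LK LD1_c26 LD2_c54 LD3_c51)) :: (LG_g, (LK LD1_c12 LD2_c53 LD3_c29)) :: (LG_g, (LK LD1_c17 LD2_c8 LD3_c4)) :: spt_26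
def spt_24 : List (Gen × Pt) := (LG_d, (LK LD1_c10 LD2_c49 LD3_c3)) :: (LG_b, (LK LD1_c11 LD2_c0 LD3_c60)) :: (LG_g, (LK LD1_c9 LD2_c44 LD3_c24)) :: (LG_g, (LK LD1_c29 LD2_c50 LD3_c22)) :: (LG_c, (LK LD1_c27 LD2_c39 LD3_c39)) :: (LG_g, (LK LD1_c17 LD2_c54 LD3_c55)) :: (LG_g, (LK LD1_c15 LD2_c59 LD3_c14)) :: (LG_g, (LK LD1_c11 LD2_c12 LD3_c21)) :: (LG_g, (LK LD1_c16 LD2_c56 LD3_c22)) :: (LG_g, (LK LD1_c17 LD2_c56 LD3_c1)) :: (LG_f, (LK LD1_c20 LD2_c12 LD3_c24)) :: (LG_e, (LK LD1_c27 LD2_c40 LD3_c47)) :: (LG_g, (LK LD1_c29 LD2_c26 LD3_c0)) :: (LG_b, (LK LD1_c26 LD2_c50 LD3_c47)) :: (LG_d, (LK LD1_c20 LD2_c26 LD3_c10)) :: (LG_g, (LK LD1_c11 LD2_c30 LD3_c49)) :: (LG_g, (LK LD1_c21 LD2_c20 LD3_c14)) :: (LG_e, (LK LD1_c20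 LD2_c1 LD3_c20)) :: (LG_g, (LK LD1_c11 LD2_c7 LD3_c57)) :: (LG_g, (LK LD1_c17 LD2_c34 LD3_c46)) :: (LG_g, (LK LD1_c17 LD2_c56 LD3_c50)) :: (LG_a, (LK LD1_c10 LD2_c6 LD3_c49)) :: (LG_g, (LK LD1_c18 LD2_c2 LD3_c18)) :: (LG_a, (LK LD1_c16 LD2_c27 LD3_c2)) :: (LG_g, (LK LD1_c20 LD2_c30 LD3_c40)) :: (LG_g, (LK LD1_c21 LD2_c15 LD3_c41)) :: (LG_g, (LK LD1_c16 LD2_c30 LD3_c46)) :: (LG_g, (LK LD1_c29 LD2_c54 LD3_c2)) :: (LG_g, (LK LD1_c5 LD2_c50 LD3_c36)) :: (LG_a, (LK LD1_c20 LD2_c5 LD3_c40)) :: (LG_g, (LK LD1_c17 LD2_c58 LD3_c15)) :: (LG_b, (LK LD1_c17 LD2_c58 LD3_c37)) :: (LG_c, (LK LD1_c21 LD2_c11 LD3_c20)) :: (LG_g, (LK LD1_c17 LD2_c8 LD3_c32)) :: (LG_f, (LK LD1_c20 LD2_c22 LD3_c16)) :: (LG_g, (LK LD1_c13 LD2_c6 LD3_c51))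 :: (LG_g, (LK LD1_c13 LD2_c2 LD3_c2)) :: (LG_c, (LK LD1_c18 LD2_c43 LD3_c19)) :: (LG_a, (LK LD1_c26 LD2_c31 LD3_c4)) :: (LG_g, (LK LD1_c19 LD2_c54 LD3_c29)) :: (LG_g, (LK LD1_c19 LD2_c53 LD3_c58)) :: (LG_g, (LK LD1_c18 LD2_c2 LD3_c59)) :: (LG_d, (LK LD1_c18 LD2_c32 LD3_c57)) :: (LG_b, (LK LD1_c18 LD2_c36 LD3_c58)) :: (LG_g, (LK LD1_c19 LD2_c24 LD3_c61)) :: (LG_c, (LK LD1_c25 LD2_c25 LD3_c42)) :: (LG_f, (LK LD1_c18 LD2_c54 LD3_c36)) :: (LG_d, (LK LD1_c18 LD2_c6 LD3_c24)) :: (LG_g, (LK LD1_c18 LD2_c6 LD3_c24)) :: (LG_c, (LK LD1_c18 LD2_c7 LD3_c44)) :: (LG_g, (LK LD1_c10 LD2_c25 LD3_c54)) :: (LG_a, (LK LD1_c9 LD2_c55 LD3_c43)) :: (LG_d, (LK LD1_c10 LD2_c45 LD3_c9)) :: (LG_d, (LK LD1_c18 LD2_c7 LD3_c47)) :: (LG_d, (LK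 LD1_c18 LD2_c7 LD3_c39)) :: (LG_g, (LK LD1_c11 LD2_c36 LD3_c7)) :: (LG_d, (LK LD1_c11 LD2_c56 LD3_c52)) :: (LG_d, (LK LD1_c29 LD2_c25 LD3_c16)) :: (LG_a, (LK LD1_c10 LD2_c10 LD3_c23)) :: (LG_c, (LK LD1_c18 LD2_c38 LD3_c25)) :: (LG_c, (LK LD1_c18 LD2_c45 LD3_c38)) :: (LG_c, (LK LD1_c18 LD2_c39 LD3_c15)) :: (LG_d, (LK LD1_c18 LD2_c20 LD3_c15)) :: (LG_d, (LK LD1_c9 LD2_c7 LD3_c57)) :: (LG_a, (LK LD1_c5 LD2_c14 LD3_c44)) :: (LG_a, (LK LD1_c11 LD2_c56 LD3_c10)) :: (LG_a, (LK LD1_c6 LD2_c6 LD3_c25)) :: (LG_d, (LK LD1_c10 LD2_c43 LD3_c26)) :: (LG_a, (LK LD1_c19 LD2_c24 LD3_c23)) :: (LG_g, (LK LD1_c8 LD2_c14 LD3_c29)) :: (LG_c, (LK LD1_c18 LD2_c41 LD3_c44)) :: (LG_c, (LK LD1_c18 LD2_c50 LD3_c52)) :: (LG_c, (LK LD1_c10 LD2_c23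 LD3_c17)) :: (LG_c, (LK LD1_c5 LD2_c16 LD3_c52)) :: (LG_c, (LK LD1_c20 LD2_c54 LD3_c24)) :: (LG_g, (LK LD1_c9 LD2_c7 LD3_c51)) :: (LG_e, (LK LD1_c17 LD2_c0 LD3_c10)) :: (LG_g, (LK LD1_c16 LD2_c59 LD3_c46)) :: (LG_g, (LK LD1_c11 LD2_c57 LD3_c53)) :: (LG_d, (LK LD1_c10 LD2_c4 LD3_c37)) :: (LG_a, (LK LD1_c5 LD2_c27 LD3_c15)) :: (LG_b, (LK LD1_c11 LD2_c58 LD3_c30)) :: (LG_g, (LK LD1_c10 LD2_c6 LD3_c57)) :: (LG_d, (LK LD1_c10 LD2_c45 LD3_c38)) :: (LG_d, (LK LD1_c10 LD2_c17 LD3_c8)) :: (LG_d, (LK LD1_c10 LD2_c17 LD3_c7)) :: (LG_d, (LK LD1_c20 LD2_c29 LD3_c22)) :: (LG_g, (LK LD1_c19 LD2_c50 LD3_c42)) :: (LG_d, (LK LD1_c20 LD2_c59 LD3_c29)) :: (LG_g, (LK LD1_c10 LD2_c34 LD3_c40)) :: (LG_b, (LK LD1_c10 LD2_c45 LD3_c34)) ::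 (LG_b, (LK LD1_c10 LD2_c45 LD3_c25)) :: (LG_g, (LK LD1_c17 LD2_c32 LD3_c49)) :: (LG_g, (LK LD1_c26 LD2_c52 LD3_c25)) :: (LG_b, (LK LD1_c10 LD2_c23 LD3_c19)) :: (LG_g, (LK LD1_c18 LD2_c50 LD3_c55)) :: (LG_g, (LK LD1_c15 LD2_c27 LD3_c6)) :: (LG_b, (LK LD1_c11 LD2_c47 LD3_c43)) :: (LG_c, (LK LD1_c5 LD2_c11 LD3_c50)) :: (LG_c, (LK LD1_c5 LD2_c11 LD3_c49)) :: spt_25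
def spt_23 : List (Gen × Pt) := (LG_g, (LK LD1_c22 LD2_c0 LD3_c60)) :: (LG_d, (LK LD1_c30 LD2_c14 LD3_c58)) :: (LG_b, (LK LD1_c29 LD2_c25 LD3_c45)) :: (LG_c, (LK LD1_c17 LD2_c17 LD3_c38)) :: (LG_d, (LK LD1_c17 LD2_c17 LD3_c41)) :: (LG_c, (LK LD1_c22 LD2_c0 LD3_c14)) :: (LG_g, (LK LD1_c9 LD2_c21 LD3_c33)) :: (LG_a, (LK LD1_c17 LD2_c30 LD3_c41)) :: (LG_g, (LK LD1_c17 LD2_c17 LD3_c53)) :: (LG_a, (LK LD1_c12 LD2_c11 LD3_c28)) :: (LG_c, (LK LD1_c29 LD2_c56 LD3_c13)) :: (LG_c, (LK LD1_c29 LD2_c56 LD3_c12)) :: (LG_g, (LK LD1_c17 LD2_c26 LD3_c34)) :: (LG_g, (LK LD1_c17 LD2_c27 LD3_c31)) :: (LG_g, (LK LD1_c21 LD2_c38 LD3_c34)) :: (LG_g, (LK LD1_c17 LD2_c18 LD3_c25)) :: (LG_f, (LK LD1_c17 LD2_c26 LD3_c53)) :: (LG_g, (LK LD1_c4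 LD2_c47 LD3_c20)) :: (LG_c, (LK LD1_c17 LD2_c20 LD3_c2)) :: (LG_a, (LK LD1_c11 LD2_c44 LD3_c55)) :: (LG_g, (LK LD1_c17 LD2_c21 LD3_c57)) :: (LG_g, (LK LD1_c17 LD2_c19 LD3_c24)) :: (LG_g, (LK LD1_c12 LD2_c11 LD3_c36)) :: (LG_g, (LK LD1_c17 LD2_c21 LD3_c60)) :: (LG_f, (LK LD1_c9 LD2_c24 LD3_c58)) :: (LG_g, (LK LD1_c17 LD2_c23 LD3_c16)) :: (LG_f, (LK LD1_c12 LD2_c32 LD3_c38)) :: (LG_c, (LK LD1_c17 LD2_c22 LD3_c12)) :: (LG_c, (LK LD1_c12 LD2_c52 LD3_c21)) :: (LG_c, (LK LD1_c30 LD2_c16 LD3_c40)) :: (LG_b, (LK LD1_c30 LD2_c16 LD3_c47)) :: (LG_b, (LK LD1_c11 LD2_c44 LD3_c20)) :: (LG_f, (LK LD1_c12 LD2_c15 LD3_c51)) :: (LG_c, (LK LD1_c11 LD2_c45 LD3_c32)) :: (LG_b, (LK LD1_c17 LD2_c24 LD3_c0)) :: (LG_a, (LK LD1_c20 LD2_c39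 LD3_c52)) :: (LG_g, (LK LD1_c17 LD2_c23 LD3_c39)) :: (LG_g, (LK LD1_c9 LD2_c30 LD3_c42)) :: (LG_c, (LK LD1_c9 LD2_c26 LD3_c31)) :: (LG_g, (LK LD1_c17 LD2_c24 LD3_c54)) :: (LG_g, (LK LD1_c9 LD2_c26 LD3_c47)) :: (LG_g, (LK LD1_c17 LD2_c24 LD3_c57)) :: (LG_c, (LK LD1_c27 LD2_c16 LD3_c39)) :: (LG_g, (LK LD1_c17 LD2_c32 LD3_c3)) :: (LG_g, (LK LD1_c17 LD2_c26 LD3_c24)) :: (LG_g, (LK LD1_c17 LD2_c28 LD3_c28)) :: (LG_f, (LK LD1_c17 LD2_c28 LD3_c28)) :: (LG_c, (LK LD1_c17 LD2_c29 LD3_c12)) :: (LG_d, (LK LD1_c17 LD2_c28 LD3_c47)) :: (LG_e, (LK LD1_c32 LD2_c20 LD3_c28)) :: (LG_g, (LK LD1_c22 LD2_c7 LD3_c29)) :: (LG_g, (LK LD1_c17 LD2_c28 LD3_c32)) :: (LG_g, (LK LD1_c17 LD2_c29 LD3_c12)) :: (LG_g, (LK LD1_c17 LD2_c29 LD3_c23))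 :: (LG_g, (LK LD1_c17 LD2_c30 LD3_c9)) :: (LG_g, (LK LD1_c17 LD2_c29 LD3_c60)) :: (LG_d, (LK LD1_c20 LD2_c26 LD3_c15)) :: (LG_g, (LK LD1_c20 LD2_c45 LD3_c52)) :: (LG_g, (LK LD1_c20 LD2_c12 LD3_c13)) :: (LG_g, (LK LD1_c9 LD2_c31 LD3_c4)) :: (LG_g, (LK LD1_c17 LD2_c32 LD3_c30)) :: (LG_e, (LK LD1_c11 LD2_c46 LD3_c56)) :: (LG_g, (LK LD1_c11 LD2_c44 LD3_c58)) :: (LG_g, (LK LD1_c20 LD2_c42 LD3_c59)) :: (LG_d, (LK LD1_c17 LD2_c32 LD3_c47)) :: (LG_e, (LK LD1_c11 LD2_c47 LD3_c30)) :: (LG_d, (LK LD1_c10 LD2_c18 LD3_c48)) :: (LG_d, (LK LD1_c11 LD2_c59 LD3_c4)) :: (LG_f, (LK LD1_c12 LD2_c57 LD3_c47)) :: (LG_g, (LK LD1_c22 LD2_c4 LD3_c36)) :: (LG_d, (LK LD1_c12 LD2_c55 LD3_c38)) :: (LG_c, (LK LD1_c22 LD2_c4 LD3_c38)) :: (LG_d,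 (LK LD1_c17 LD2_c33 LD3_c43)) :: (LG_g, (LK LD1_c12 LD2_c55 LD3_c61)) :: (LG_g, (LK LD1_c22 LD2_c0 LD3_c35)) :: (LG_g, (LK LD1_c23 LD2_c54 LD3_c19)) :: (LG_g, (LK LD1_c23 LD2_c53 LD3_c61)) :: (LG_a, (LK LD1_c11 LD2_c33 LD3_c10)) :: (LG_a, (LK LD1_c9 LD2_c32 LD3_c7)) :: (LG_d, (LK LD1_c12 LD2_c29 LD3_c45)) :: (LG_f, (LK LD1_c12 LD2_c55 LD3_c38)) :: (LG_c, (LK LD1_c29 LD2_c42 LD3_c27)) :: (LG_c, (LK LD1_c17 LD2_c32 LD3_c19)) :: (LG_g, (LK LD1_c10 LD2_c7 LD3_c16)) :: (LG_g, (LK LD1_c12 LD2_c57 LD3_c61)) :: (LG_g, (LK LD1_c12 LD2_c56 LD3_c42)) :: (LG_g, (LK LD1_c20 LD2_c23 LD3_c34)) :: (LG_g, (LK LD1_c21 LD2_c59 LD3_c18)) :: (LG_a, (LK LD1_c12 LD2_c20 LD3_c25)) :: (LG_g, (LK LD1_c12 LD2_c26 LD3_c53)) :: (LG_g, (LK LD1_c28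 LD2_c35 LD3_c24)) :: (LG_g, (LK LD1_c17 LD2_c41 LD3_c15)) :: (LG_g, (LK LD1_c27 LD2_c31 LD3_c39)) :: (LG_c, (LK LD1_c27 LD2_c29 LD3_c45)) :: (LG_d, (LK LD1_c26 LD2_c11 LD3_c11)) :: (LG_g, (LK LD1_c15 LD2_c36 LD3_c59)) :: (LG_a, (LK LD1_c4 LD2_c10 LD3_c54)) :: (LG_g, (LK LD1_c16 LD2_c4 LD3_c60)) :: (LG_b, (LK LD1_c16 LD2_c0 LD3_c21)) :: (LG_c, (LK LD1_c26 LD2_c32 LD3_c16)) :: spt_24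
def spt_22 : List (Gen × Pt) := (LG_e, (LK LD1_c17 LD2_c33 LD3_c8)) :: (LG_g, (LK LD1_c16 LD2_c59 LD3_c43)) :: (LG_c, (LK LD1_c11 LD2_c32 LD3_c16)) :: (LG_a, (LK LD1_c11 LD2_c32 LD3_c51)) :: (LG_a, (LK LD1_c11 LD2_c39 LD3_c47)) :: (LG_a, (LK LD1_c16 LD2_c54 LD3_c14)) :: (LG_d, (LK LD1_c16 LD2_c57 LD3_c8)) :: (LG_g, (LK LD1_c11 LD2_c21 LD3_c0)) :: (LG_g, (LK LD1_c26 LD2_c53 LD3_c11)) :: (LG_g, (LK LD1_c20 LD2_c6 LD3_c49)) :: (LG_b, (LK LD1_c11 LD2_c32 LD3_c50)) :: (LG_g, (LK LD1_c11 LD2_c28 LD3_c13)) :: (LG_g, (LK LD1_c17 LD2_c13 LD3_c9)) :: (LG_c, (LK LD1_c18 LD2_c22 LD3_c40)) :: (LG_g, (LK LD1_c20 LD2_c39 LD3_c24)) :: (LG_g, (LK LD1_c21 LD2_c36 LD3_c41)) :: (LG_a, (LK LD1_c11 LD2_c42 LD3_c55)) :: (LG_g, (LK LD1_c16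 LD2_c59 LD3_c22)) :: (LG_g, (LK LD1_c9 LD2_c47 LD3_c60)) :: (LG_e, (LK LD1_c10 LD2_c10 LD3_c41)) :: (LG_b, (LK LD1_c9 LD2_c10 LD3_c7)) :: (LG_g, (LK LD1_c21 LD2_c44 LD3_c40)) :: (LG_g, (LK LD1_c6 LD2_c45 LD3_c43)) :: (LG_a, (LK LD1_c12 LD2_c55 LD3_c27)) :: (LG_g, (LK LD1_c17 LD2_c0 LD3_c47)) :: (LG_c, (LK LD1_c17 LD2_c1 LD3_c35)) :: (LG_d, (LK LD1_c26 LD2_c55 LD3_c37)) :: (LG_a, (LK LD1_c9 LD2_c8 LD3_c16)) :: (LG_a, (LK LD1_c16 LD2_c52 LD3_c55)) :: (LG_g, (LK LD1_c17 LD2_c8 LD3_c23)) :: (LG_d, (LK LD1_c9 LD2_c8 LD3_c49)) :: (LG_e, (LK LD1_c9 LD2_c13 LD3_c18)) :: (LG_d, (LK LD1_c29 LD2_c29 LD3_c16)) :: (LG_g, (LK LD1_c20 LD2_c23 LD3_c55)) :: (LG_g, (LK LD1_c12 LD2_c5 LD3_c37)) :: (LG_g, (LK LD1_c26 LD2_c54 LD3_c54))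 :: (LG_g, (LK LD1_c20 LD2_c22 LD3_c52)) :: (LG_c, (LK LD1_c20 LD2_c51 LD3_c11)) :: (LG_g, (LK LD1_c27 LD2_c13 LD3_c11)) :: (LG_a, (LK LD1_c17 LD2_c2 LD3_c13)) :: (LG_a, (LK LD1_c10 LD2_c17 LD3_c27)) :: (LG_g, (LK LD1_c9 LD2_c15 LD3_c31)) :: (LG_c, (LK LD1_c11 LD2_c25 LD3_c16)) :: (LG_g, (LK LD1_c17 LD2_c3 LD3_c9)) :: (LG_g, (LK LD1_c17 LD2_c6 LD3_c47)) :: (LG_b, (LK LD1_c9 LD2_c13 LD3_c52)) :: (LG_b, (LK LD1_c11 LD2_c15 LD3_c24)) :: (LG_g, (LK LD1_c16 LD2_c54 LD3_c61)) :: (LG_f, (LK LD1_c20 LD2_c29 LD3_c55)) :: (LG_c, (LK LD1_c12 LD2_c10 LD3_c30)) :: (LG_g, (LK LD1_c12 LD2_c41 LD3_c11)) :: (LG_g, (LK LD1_c21 LD2_c50 LD3_c57)) :: (LG_d, (LK LD1_c21 LD2_c52 LD3_c4)) :: (LG_g, (LK LD1_c20 LD2_c27 LD3_c6)) :: (LG_g,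 (LK LD1_c12 LD2_c54 LD3_c50)) :: (LG_g, (LK LD1_c11 LD2_c49 LD3_c52)) :: (LG_b, (LK LD1_c20 LD2_c17 LD3_c3)) :: (LG_a, (LK LD1_c6 LD2_c3 LD3_c46)) :: (LG_g, (LK LD1_c17 LD2_c8 LD3_c48)) :: (LG_g, (LK LD1_c6 LD2_c3 LD3_c58)) :: (LG_c, (LK LD1_c18 LD2_c1 LD3_c56)) :: (LG_g, (LK LD1_c20 LD2_c27 LD3_c59)) :: (LG_e, (LK LD1_c17 LD2_c1 LD3_c37)) :: (LG_f, (LK LD1_c17 LD2_c1 LD3_c37)) :: (LG_f, (LK LD1_c17 LD2_c9 LD3_c34)) :: (LG_g, (LK LD1_c10 LD2_c10 LD3_c43)) :: (LG_g, (LK LD1_c26 LD2_c55 LD3_c6)) :: (LG_a, (LK LD1_c9 LD2_c17 LD3_c60)) :: (LG_g, (LK LD1_c9 LD2_c15 LD3_c42)) :: (LG_a, (LK LD1_c17 LD2_c19 LD3_c27)) :: (LG_b, (LK LD1_c11 LD2_c46 LD3_c17)) :: (LG_e, (LK LD1_c27 LD2_c12 LD3_c22)) :: (LG_c, (LK LD1_c17 LD2_c21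 LD3_c33)) :: (LG_g, (LK LD1_c17 LD2_c12 LD3_c4)) :: (LG_d, (LK LD1_c9 LD2_c27 LD3_c19)) :: (LG_g, (LK LD1_c12 LD2_c13 LD3_c32)) :: (LG_g, (LK LD1_c11 LD2_c47 LD3_c17)) :: (LG_g, (LK LD1_c20 LD2_c51 LD3_c39)) :: (LG_a, (LK LD1_c12 LD2_c50 LD3_c35)) :: (LG_d, (LK LD1_c9 LD2_c18 LD3_c53)) :: (LG_g, (LK LD1_c21 LD2_c21 LD3_c46)) :: (LG_g, (LK LD1_c17 LD2_c15 LD3_c26)) :: (LG_g, (LK LD1_c11 LD2_c33 LD3_c44)) :: (LG_b, (LK LD1_c12 LD2_c9 LD3_c32)) :: (LG_g, (LK LD1_c11 LD2_c30 LD3_c38)) :: (LG_f, (LK LD1_c12 LD2_c14 LD3_c36)) :: (LG_d, (LK LD1_c9 LD2_c20 LD3_c34)) :: (LG_d, (LK LD1_c3 LD2_c11 LD3_c54)) :: (LG_b, (LK LD1_c23 LD2_c2 LD3_c44)) :: (LG_d, (LK LD1_c21 LD2_c19 LD3_c47)) :: (LG_d, (LK LD1_c17 LD2_c14 LD3_c4))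 :: (LG_g, (LK LD1_c27 LD2_c4 LD3_c45)) :: (LG_g, (LK LD1_c27 LD2_c4 LD3_c46)) :: (LG_d, (LK LD1_c29 LD2_c58 LD3_c37)) :: (LG_g, (LK LD1_c12 LD2_c15 LD3_c55)) :: (LG_c, (LK LD1_c21 LD2_c39 LD3_c14)) :: (LG_b, (LK LD1_c22 LD2_c8 LD3_c27)) :: (LG_f, (LK LD1_c23 LD2_c23 LD3_c51)) :: (LG_b, (LK LD1_c20 LD2_c41 LD3_c55)) :: (LG_g, (LK LD1_c17 LD2_c17 LD3_c8)) :: spt_23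
def spt_21 : List (Gen × Pt) := (LG_d, (LK LD1_c25 LD2_c39 LD3_c27)) :: (LG_g, (LK LD1_c19 LD2_c17 LD3_c0)) :: (LG_d, (LK LD1_c15 LD2_c27 LD3_c22)) :: (LG_g, (LK LD1_c20 LD2_c4 LD3_c11)) :: (LG_a, (LK LD1_c15 LD2_c47 LD3_c35)) :: (LG_g, (LK LD1_c15 LD2_c51 LD3_c14)) :: (LG_g, (LK LD1_c21 LD2_c1 LD3_c8)) :: (LG_g, (LK LD1_c29 LD2_c48 LD3_c52)) :: (LG_g, (LK LD1_c15 LD2_c55 LD3_c29)) :: (LG_f, (LK LD1_c15 LD2_c38 LD3_c17)) :: (LG_g, (LK LD1_c27 LD2_c27 LD3_c27)) :: (LG_g, (LK LD1_c10 LD2_c38 LD3_c38)) :: (LG_g, (LK LD1_c16 LD2_c3 LD3_c50)) :: (LG_g, (LK LD1_c15 LD2_c41 LD3_c36)) :: (LG_g, (LK LD1_c15 LD2_c42 LD3_c36)) :: (LG_a, (LK LD1_c15 LD2_c43 LD3_c12)) :: (LG_b, (LK LD1_c15 LD2_c42 LD3_c13)) :: (LG_g, (LK LD1_c8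 LD2_c34 LD3_c9)) :: (LG_g, (LK LD1_c19 LD2_c51 LD3_c60)) :: (LG_d, (LK LD1_c9 LD2_c37 LD3_c3)) :: (LG_g, (LK LD1_c25 LD2_c41 LD3_c1)) :: (LG_a, (LK LD1_c31 LD2_c55 LD3_c57)) :: (LG_a, (LK LD1_c16 LD2_c7 LD3_c18)) :: (LG_g, (LK LD1_c25 LD2_c45 LD3_c36)) :: (LG_g, (LK LD1_c25 LD2_c33 LD3_c59)) :: (LG_d, (LK LD1_c27 LD2_c29 LD3_c44)) :: (LG_g, (LK LD1_c8 LD2_c59 LD3_c4)) :: (LG_g, (LK LD1_c16 LD2_c48 LD3_c4)) :: (LG_a, (LK LD1_c8 LD2_c58 LD3_c57)) :: (LG_g, (LK LD1_c25 LD2_c44 LD3_c36)) :: (LG_g, (LK LD1_c25 LD2_c45 LD3_c0)) :: (LG_g, (LK LD1_c16 LD2_c15 LD3_c35)) :: (LG_g, (LK LD1_c16 LD2_c11 LD3_c32)) :: (LG_c, (LK LD1_c29 LD2_c10 LD3_c28)) :: (LG_g, (LK LD1_c19 LD2_c54 LD3_c4)) :: (LG_g, (LK LD1_c16 LD2_c11 LD3_c1))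 :: (LG_a, (LK LD1_c16 LD2_c10 LD3_c56)) :: (LG_g, (LK LD1_c26 LD2_c44 LD3_c59)) :: (LG_c, (LK LD1_c18 LD2_c52 LD3_c48)) :: (LG_g, (LK LD1_c29 LD2_c3 LD3_c4)) :: (LG_a, (LK LD1_c25 LD2_c45 LD3_c59)) :: (LG_b, (LK LD1_c16 LD2_c20 LD3_c2)) :: (LG_g, (LK LD1_c9 LD2_c39 LD3_c14)) :: (LG_d, (LK LD1_c26 LD2_c19 LD3_c20)) :: (LG_c, (LK LD1_c15 LD2_c7 LD3_c0)) :: (LG_c, (LK LD1_c12 LD2_c7 LD3_c0)) :: (LG_g, (LK LD1_c12 LD2_c6 LD3_c28)) :: (LG_a, (LK LD1_c14 LD2_c46 LD3_c54)) :: (LG_f, (LK LD1_c17 LD2_c9 LD3_c8)) :: (LG_a, (LK LD1_c15 LD2_c5 LD3_c49)) :: (LG_g, (LK LD1_c12 LD2_c9 LD3_c34)) :: (LG_d, (LK LD1_c16 LD2_c24 LD3_c52)) :: (LG_g, (LK LD1_c16 LD2_c12 LD3_c21)) :: (LG_a, (LK LD1_c11 LD2_c59 LD3_c31)) :: (LG_g, (LK LD1_c24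 LD2_c47 LD3_c21)) :: (LG_g, (LK LD1_c18 LD2_c43 LD3_c18)) :: (LG_g, (LK LD1_c16 LD2_c30 LD3_c18)) :: (LG_g, (LK LD1_c16 LD2_c30 LD3_c56)) :: (LG_g, (LK LD1_c16 LD2_c31 LD3_c59)) :: (LG_g, (LK LD1_c16 LD2_c27 LD3_c54)) :: (LG_g, (LK LD1_c9 LD2_c7 LD3_c11)) :: (LG_g, (LK LD1_c16 LD2_c23 LD3_c5)) :: (LG_d, (LK LD1_c22 LD2_c51 LD3_c36)) :: (LG_g, (LK LD1_c13 LD2_c47 LD3_c14)) :: (LG_g, (LK LD1_c16 LD2_c32 LD3_c10)) :: (LG_g, (LK LD1_c19 LD2_c2 LD3_c19)) :: (LG_e, (LK LD1_c26 LD2_c38 LD3_c56)) :: (LG_d, (LK LD1_c19 LD2_c40 LD3_c1)) :: (LG_f, (LK LD1_c10 LD2_c52 LD3_c43)) :: (LG_c, (LK LD1_c19 LD2_c39 LD3_c61)) :: (LG_g, (LK LD1_c19 LD2_c50 LD3_c2)) :: (LG_g, (LK LD1_c19 LD2_c44 LD3_c56)) :: (LG_g, (LK LD1_c10 LD2_c56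 LD3_c13)) :: (LG_g, (LK LD1_c16 LD2_c40 LD3_c50)) :: (LG_g, (LK LD1_c26 LD2_c39 LD3_c35)) :: (LG_g, (LK LD1_c10 LD2_c57 LD3_c13)) :: (LG_c, (LK LD1_c20 LD2_c0 LD3_c53)) :: (LG_b, (LK LD1_c16 LD2_c43 LD3_c39)) :: (LG_e, (LK LD1_c16 LD2_c49 LD3_c50)) :: (LG_g, (LK LD1_c10 LD2_c5 LD3_c17)) :: (LG_g, (LK LD1_c11 LD2_c8 LD3_c19)) :: (LG_c, (LK LD1_c11 LD2_c12 LD3_c17)) :: (LG_g, (LK LD1_c11 LD2_c12 LD3_c8)) :: (LG_g, (LK LD1_c9 LD2_c2 LD3_c11)) :: (LG_g, (LK LD1_c16 LD2_c53 LD3_c61)) :: (LG_g, (LK LD1_c11 LD2_c22 LD3_c33)) :: (LG_g, (LK LD1_c5 LD2_c45 LD3_c17)) :: (LG_c, (LK LD1_c20 LD2_c5 LD3_c57)) :: (LG_a, (LK LD1_c11 LD2_c14 LD3_c52)) :: (LG_g, (LK LD1_c11 LD2_c12 LD3_c44)) :: (LG_g, (LK LD1_c16 LD2_c51 LD3_c59))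 :: (LG_a, (LK LD1_c9 LD2_c4 LD3_c37)) :: (LG_g, (LK LD1_c5 LD2_c34 LD3_c47)) :: (LG_g, (LK LD1_c9 LD2_c10 LD3_c56)) :: (LG_f, (LK LD1_c10 LD2_c2 LD3_c49)) :: (LG_g, (LK LD1_c16 LD2_c52 LD3_c28)) :: (LG_c, (LK LD1_c26 LD2_c35 LD3_c29)) :: (LG_d, (LK LD1_c26 LD2_c50 LD3_c26)) :: (LG_f, (LK LD1_c16 LD2_c54 LD3_c14)) :: (LG_e, (LK LD1_c17 LD2_c33 LD3_c9)) :: spt_22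
def spt_20 : List (Gen × Pt) := (LG_g, (LK LD1_c12 LD2_c39 LD3_c60)) :: (LG_g, (LK LD1_c12 LD2_c38 LD3_c42)) :: (LG_c, (LK LD1_c12 LD2_c42 LD3_c30)) :: (LG_a, (LK LD1_c7 LD2_c16 LD3_c9)) :: (LG_a, (LK LD1_c13 LD2_c16 LD3_c7)) :: (LG_g, (LK LD1_c13 LD2_c13 LD3_c47)) :: (LG_g, (LK LD1_c14 LD2_c45 LD3_c5)) :: (LG_g, (LK LD1_c14 LD2_c56 LD3_c55)) :: (LG_b, (LK LD1_c12 LD2_c29 LD3_c51)) :: (LG_d, (LK LD1_c11 LD2_c31 LD3_c1)) :: (LG_e, (LK LD1_c11 LD2_c28 LD3_c58)) :: (LG_g, (LK LD1_c21 LD2_c36 LD3_c40)) :: (LG_c, (LK LD1_c21 LD2_c20 LD3_c8)) :: (LG_c, (LK LD1_c18 LD2_c26 LD3_c21)) :: (LG_g, (LK LD1_c9 LD2_c50 LD3_c33)) :: (LG_g, (LK LD1_c11 LD2_c18 LD3_c58)) :: (LG_a, (LK LD1_c18 LD2_c21 LD3_c3)) :: (LG_g, (LK LD1_c13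 LD2_c47 LD3_c5)) :: (LG_g, (LK LD1_c13 LD2_c45 LD3_c53)) :: (LG_g, (LK LD1_c22 LD2_c36 LD3_c35)) :: (LG_g, (LK LD1_c24 LD2_c3 LD3_c49)) :: (LG_g, (LK LD1_c22 LD2_c22 LD3_c24)) :: (LG_g, (LK LD1_c14 LD2_c35 LD3_c41)) :: (LG_g, (LK LD1_c24 LD2_c20 LD3_c16)) :: (LG_d, (LK LD1_c14 LD2_c37 LD3_c31)) :: (LG_e, (LK LD1_c14 LD2_c37 LD3_c31)) :: (LG_e, (LK LD1_c13 LD2_c22 LD3_c2)) :: (LG_g, (LK LD1_c17 LD2_c42 LD3_c15)) :: (LG_f, (LK LD1_c24 LD2_c36 LD3_c23)) :: (LG_d, (LK LD1_c20 LD2_c22 LD3_c47)) :: (LG_b, (LK LD1_c11 LD2_c30 LD3_c15)) :: (LG_a, (LK LD1_c15 LD2_c5 LD3_c2)) :: (LG_g, (LK LD1_c8 LD2_c0 LD3_c50)) :: (LG_g, (LK LD1_c17 LD2_c8 LD3_c15)) :: (LG_d, (LK LD1_c20 LD2_c27 LD3_c59)) :: (LG_b, (LK LD1_c6 LD2_c1 LD3_c42))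 :: (LG_a, (LK LD1_c11 LD2_c48 LD3_c28)) :: (LG_c, (LK LD1_c10 LD2_c18 LD3_c49)) :: (LG_d, (LK LD1_c17 LD2_c59 LD3_c7)) :: (LG_c, (LK LD1_c20 LD2_c0 LD3_c23)) :: (LG_f, (LK LD1_c20 LD2_c0 LD3_c23)) :: (LG_e, (LK LD1_c15 LD2_c8 LD3_c48)) :: (LG_c, (LK LD1_c15 LD2_c13 LD3_c45)) :: (LG_g, (LK LD1_c15 LD2_c15 LD3_c59)) :: (LG_g, (LK LD1_c15 LD2_c52 LD3_c44)) :: (LG_a, (LK LD1_c19 LD2_c54 LD3_c21)) :: (LG_d, (LK LD1_c19 LD2_c54 LD3_c15)) :: (LG_d, (LK LD1_c15 LD2_c53 LD3_c32)) :: (LG_c, (LK LD1_c19 LD2_c55 LD3_c23)) :: (LG_d, (LK LD1_c15 LD2_c14 LD3_c55)) :: (LG_g, (LK LD1_c15 LD2_c14 LD3_c53)) :: (LG_d, (LK LD1_c16 LD2_c43 LD3_c20)) :: (LG_g, (LK LD1_c18 LD2_c27 LD3_c61)) :: (LG_g, (LK LD1_c11 LD2_c55 LD3_c60)) :: (LG_f,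 (LK LD1_c11 LD2_c9 LD3_c37)) :: (LG_g, (LK LD1_c11 LD2_c22 LD3_c45)) :: (LG_g, (LK LD1_c16 LD2_c59 LD3_c28)) :: (LG_g, (LK LD1_c15 LD2_c26 LD3_c44)) :: (LG_f, (LK LD1_c15 LD2_c26 LD3_c44)) :: (LG_b, (LK LD1_c18 LD2_c25 LD3_c14)) :: (LG_g, (LK LD1_c15 LD2_c30 LD3_c25)) :: (LG_g, (LK LD1_c9 LD2_c48 LD3_c6)) :: (LG_g, (LK LD1_c10 LD2_c18 LD3_c51)) :: (LG_g, (LK LD1_c16 LD2_c36 LD3_c29)) :: (LG_g, (LK LD1_c28 LD2_c11 LD3_c26)) :: (LG_c, (LK LD1_c20 LD2_c59 LD3_c8)) :: (LG_g, (LK LD1_c10 LD2_c48 LD3_c40)) :: (LG_f, (LK LD1_c8 LD2_c14 LD3_c41)) :: (LG_g, (LK LD1_c15 LD2_c30 LD3_c43)) :: (LG_g, (LK LD1_c10 LD2_c7 LD3_c0)) :: (LG_a, (LK LD1_c9 LD2_c5 LD3_c43)) :: (LG_g, (LK LD1_c19 LD2_c26 LD3_c42)) :: (LG_g, (LK LD1_c15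 LD2_c37 LD3_c57)) :: (LG_g, (LK LD1_c15 LD2_c34 LD3_c30)) :: (LG_g, (LK LD1_c32 LD2_c1 LD3_c32)) :: (LG_g, (LK LD1_c26 LD2_c0 LD3_c6)) :: (LG_g, (LK LD1_c15 LD2_c47 LD3_c0)) :: (LG_g, (LK LD1_c15 LD2_c40 LD3_c17)) :: (LG_c, (LK LD1_c25 LD2_c36 LD3_c2)) :: (LG_a, (LK LD1_c16 LD2_c3 LD3_c40)) :: (LG_d, (LK LD1_c25 LD2_c38 LD3_c34)) :: (LG_d, (LK LD1_c17 LD2_c40 LD3_c51)) :: (LG_g, (LK LD1_c11 LD2_c16 LD3_c50)) :: (LG_g, (LK LD1_c15 LD2_c43 LD3_c12)) :: (LG_g, (LK LD1_c15 LD2_c43 LD3_c7)) :: (LG_d, (LK LD1_c15 LD2_c42 LD3_c40)) :: (LG_g, (LK LD1_c15 LD2_c45 LD3_c54)) :: (LG_a, (LK LD1_c9 LD2_c45 LD3_c53)) :: (LG_g, (LK LD1_c25 LD2_c42 LD3_c31)) :: (LG_d, (LK LD1_c25 LD2_c39 LD3_c5)) :: (LG_g, (LK LD1_c8 LD2_c35 LD3_c20))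 :: (LG_g, (LK LD1_c8 LD2_c19 LD3_c42)) :: (LG_g, (LK LD1_c9 LD2_c38 LD3_c19)) :: (LG_a, (LK LD1_c15 LD2_c43 LD3_c9)) :: (LG_b, (LK LD1_c15 LD2_c43 LD3_c20)) :: (LG_g, (LK LD1_c32 LD2_c3 LD3_c11)) :: (LG_a, (LK LD1_c16 LD2_c3 LD3_c23)) :: (LG_d, (LK LD1_c27 LD2_c30 LD3_c61)) :: (LG_g, (LK LD1_c16 LD2_c17 LD3_c54)) :: (LG_c, (LK LD1_c27 LD2_c31 LD3_c0)) :: spt_21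
def spt_19 : List (Gen × Pt) := (LG_g, (LK LD1_c9 LD2_c24 LD3_c10)) :: (LG_e, (LK LD1_c13 LD2_c11 LD3_c42)) :: (LG_g, (LK LD1_c12 LD2_c14 LD3_c3)) :: (LG_d, (LK LD1_c9 LD2_c20 LD3_c4)) :: (LG_c, (LK LD1_c29 LD2_c59 LD3_c17)) :: (LG_d, (LK LD1_c12 LD2_c50 LD3_c26)) :: (LG_g, (LK LD1_c7 LD2_c24 LD3_c55)) :: (LG_d, (LK LD1_c9 LD2_c29 LD3_c22)) :: (LG_e, (LK LD1_c12 LD2_c24 LD3_c59)) :: (LG_g, (LK LD1_c26 LD2_c52 LD3_c19)) :: (LG_g, (LK LD1_c9 LD2_c8 LD3_c46)) :: (LG_g, (LK LD1_c5 LD2_c57 LD3_c2)) :: (LG_g, (LK LD1_c9 LD2_c0 LD3_c26)) :: (LG_g, (LK LD1_c16 LD2_c58 LD3_c55)) :: (LG_d, (LK LD1_c22 LD2_c11 LD3_c16)) :: (LG_g, (LK LD1_c22 LD2_c46 LD3_c57)) :: (LG_g, (LK LD1_c13 LD2_c35 LD3_c12)) :: (LG_g, (LK LD1_c14 LD2_c30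 LD3_c13)) :: (LG_g, (LK LD1_c24 LD2_c11 LD3_c14)) :: (LG_a, (LK LD1_c13 LD2_c4 LD3_c45)) :: (LG_a, (LK LD1_c13 LD2_c15 LD3_c25)) :: (LG_c, (LK LD1_c13 LD2_c43 LD3_c57)) :: (LG_a, (LK LD1_c13 LD2_c26 LD3_c3)) :: (LG_g, (LK LD1_c17 LD2_c34 LD3_c57)) :: (LG_g, (LK LD1_c23 LD2_c2 LD3_c24)) :: (LG_b, (LK LD1_c13 LD2_c51 LD3_c2)) :: (LG_g, (LK LD1_c21 LD2_c40 LD3_c23)) :: (LG_d, (LK LD1_c23 LD2_c21 LD3_c3)) :: (LG_g, (LK LD1_c22 LD2_c8 LD3_c11)) :: (LG_c, (LK LD1_c12 LD2_c16 LD3_c3)) :: (LG_c, (LK LD1_c27 LD2_c16 LD3_c22)) :: (LG_d, (LK LD1_c14 LD2_c50 LD3_c36)) :: (LG_g, (LK LD1_c23 LD2_c45 LD3_c12)) :: (LG_d, (LK LD1_c23 LD2_c44 LD3_c33)) :: (LG_g, (LK LD1_c17 LD2_c29 LD3_c31)) :: (LG_g, (LK LD1_c21 LD2_c36 LD3_c49))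 :: (LG_d, (LK LD1_c14 LD2_c16 LD3_c57)) :: (LG_g, (LK LD1_c13 LD2_c16 LD3_c25)) :: (LG_d, (LK LD1_c23 LD2_c55 LD3_c9)) :: (LG_d, (LK LD1_c14 LD2_c17 LD3_c37)) :: (LG_d, (LK LD1_c23 LD2_c54 LD3_c28)) :: (LG_g, (LK LD1_c31 LD2_c16 LD3_c41)) :: (LG_e, (LK LD1_c14 LD2_c18 LD3_c34)) :: (LG_g, (LK LD1_c24 LD2_c7 LD3_c43)) :: (LG_e, (LK LD1_c30 LD2_c38 LD3_c56)) :: (LG_c, (LK LD1_c3 LD2_c51 LD3_c32)) :: (LG_g, (LK LD1_c22 LD2_c37 LD3_c25)) :: (LG_c, (LK LD1_c7 LD2_c38 LD3_c18)) :: (LG_c, (LK LD1_c24 LD2_c15 LD3_c39)) :: (LG_g, (LK LD1_c21 LD2_c7 LD3_c55)) :: (LG_c, (LK LD1_c14 LD2_c37 LD3_c34)) :: (LG_g, (LK LD1_c23 LD2_c49 LD3_c32)) :: (LG_g, (LK LD1_c23 LD2_c59 LD3_c19)) :: (LG_g, (LK LD1_c24 LD2_c19 LD3_c25)) :: (LG_g,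 (LK LD1_c14 LD2_c37 LD3_c2)) :: (LG_a, (LK LD1_c13 LD2_c5 LD3_c40)) :: (LG_e, (LK LD1_c30 LD2_c23 LD3_c59)) :: (LG_b, (LK LD1_c13 LD2_c17 LD3_c39)) :: (LG_e, (LK LD1_c23 LD2_c54 LD3_c26)) :: (LG_g, (LK LD1_c11 LD2_c41 LD3_c56)) :: (LG_g, (LK LD1_c22 LD2_c16 LD3_c16)) :: (LG_g, (LK LD1_c23 LD2_c48 LD3_c11)) :: (LG_b, (LK LD1_c14 LD2_c29 LD3_c30)) :: (LG_g, (LK LD1_c8 LD2_c35 LD3_c17)) :: (LG_a, (LK LD1_c12 LD2_c14 LD3_c28)) :: (LG_g, (LK LD1_c9 LD2_c50 LD3_c35)) :: (LG_a, (LK LD1_c9 LD2_c49 LD3_c1)) :: (LG_a, (LK LD1_c9 LD2_c32 LD3_c5)) :: (LG_a, (LK LD1_c9 LD2_c24 LD3_c23)) :: (LG_g, (LK LD1_c17 LD2_c19 LD3_c17)) :: (LG_g, (LK LD1_c17 LD2_c0 LD3_c13)) :: (LG_d, (LK LD1_c11 LD2_c31 LD3_c52)) :: (LG_g, (LK LD1_c13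 LD2_c46 LD3_c17)) :: (LG_b, (LK LD1_c14 LD2_c33 LD3_c27)) :: (LG_g, (LK LD1_c22 LD2_c45 LD3_c46)) :: (LG_g, (LK LD1_c13 LD2_c44 LD3_c38)) :: (LG_c, (LK LD1_c21 LD2_c57 LD3_c40)) :: (LG_d, (LK LD1_c12 LD2_c4 LD3_c17)) :: (LG_f, (LK LD1_c12 LD2_c4 LD3_c17)) :: (LG_g, (LK LD1_c9 LD2_c21 LD3_c56)) :: (LG_a, (LK LD1_c17 LD2_c17 LD3_c60)) :: (LG_d, (LK LD1_c27 LD2_c7 LD3_c41)) :: (LG_f, (LK LD1_c9 LD2_c28 LD3_c0)) :: (LG_f, (LK LD1_c21 LD2_c33 LD3_c42)) :: (LG_a, (LK LD1_c9 LD2_c31 LD3_c17)) :: (LG_a, (LK LD1_c9 LD2_c13 LD3_c29)) :: (LG_d, (LK LD1_c12 LD2_c55 LD3_c27)) :: (LG_g, (LK LD1_c12 LD2_c55 LD3_c26)) :: (LG_g, (LK LD1_c20 LD2_c46 LD3_c2)) :: (LG_d, (LK LD1_c27 LD2_c8 LD3_c52)) :: (LG_d, (LK LD1_c9 LD2_c27 LD3_c29))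 :: (LG_c, (LK LD1_c17 LD2_c27 LD3_c31)) :: (LG_g, (LK LD1_c17 LD2_c20 LD3_c47)) :: (LG_g, (LK LD1_c21 LD2_c58 LD3_c58)) :: (LG_e, (LK LD1_c21 LD2_c58 LD3_c1)) :: (LG_c, (LK LD1_c30 LD2_c19 LD3_c29)) :: (LG_d, (LK LD1_c22 LD2_c8 LD3_c10)) :: (LG_g, (LK LD1_c21 LD2_c38 LD3_c24)) :: (LG_g, (LK LD1_c21 LD2_c48 LD3_c30)) :: (LG_g, (LK LD1_c12 LD2_c27 LD3_c50)) :: spt_20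
def spt_18 : List (Gen × Pt) := (LG_g, (LK LD1_c22 LD2_c32 LD3_c24)) :: (LG_d, (LK LD1_c22 LD2_c36 LD3_c2)) :: (LG_g, (LK LD1_c14 LD2_c40 LD3_c54)) :: (LG_c, (LK LD1_c13 LD2_c10 LD3_c9)) :: (LG_g, (LK LD1_c14 LD2_c43 LD3_c12)) :: (LG_g, (LK LD1_c31 LD2_c17 LD3_c51)) :: (LG_d, (LK LD1_c7 LD2_c48 LD3_c12)) :: (LG_c, (LK LD1_c22 LD2_c33 LD3_c60)) :: (LG_g, (LK LD1_c22 LD2_c15 LD3_c52)) :: (LG_g, (LK LD1_c14 LD2_c43 LD3_c56)) :: (LG_g, (LK LD1_c31 LD2_c13 LD3_c29)) :: (LG_d, (LK LD1_c22 LD2_c33 LD3_c40)) :: (LG_c, (LK LD1_c14 LD2_c45 LD3_c16)) :: (LG_b, (LK LD1_c7 LD2_c11 LD3_c32)) :: (LG_a, (LK LD1_c13 LD2_c37 LD3_c29)) :: (LG_g, (LK LD1_c13 LD2_c37 LD3_c29)) :: (LG_b, (LK LD1_c13 LD2_c39 LD3_c17)) :: (LG_g, (LK LD1_c22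 LD2_c45 LD3_c35)) :: (LG_g, (LK LD1_c22 LD2_c28 LD3_c11)) :: (LG_g, (LK LD1_c13 LD2_c15 LD3_c37)) :: (LG_d, (LK LD1_c23 LD2_c37 LD3_c28)) :: (LG_c, (LK LD1_c15 LD2_c6 LD3_c18)) :: (LG_c, (LK LD1_c29 LD2_c25 LD3_c8)) :: (LG_g, (LK LD1_c22 LD2_c3 LD3_c37)) :: (LG_g, (LK LD1_c23 LD2_c17 LD3_c55)) :: (LG_g, (LK LD1_c7 LD2_c50 LD3_c9)) :: (LG_g, (LK LD1_c14 LD2_c56 LD3_c33)) :: (LG_e, (LK LD1_c14 LD2_c55 LD3_c0)) :: (LG_g, (LK LD1_c24 LD2_c40 LD3_c47)) :: (LG_b, (LK LD1_c14 LD2_c51 LD3_c32)) :: (LG_g, (LK LD1_c14 LD2_c10 LD3_c1)) :: (LG_c, (LK LD1_c22 LD2_c37 LD3_c54)) :: (LG_a, (LK LD1_c13 LD2_c36 LD3_c58)) :: (LG_d, (LK LD1_c23 LD2_c52 LD3_c12)) :: (LG_a, (LK LD1_c13 LD2_c54 LD3_c42)) :: (LG_c, (LK LD1_c31 LD2_c2 LD3_c13))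 :: (LG_g, (LK LD1_c14 LD2_c51 LD3_c38)) :: (LG_g, (LK LD1_c30 LD2_c26 LD3_c60)) :: (LG_c, (LK LD1_c24 LD2_c27 LD3_c15)) :: (LG_b, (LK LD1_c14 LD2_c9 LD3_c8)) :: (LG_g, (LK LD1_c14 LD2_c50 LD3_c20)) :: (LG_g, (LK LD1_c7 LD2_c52 LD3_c7)) :: (LG_g, (LK LD1_c14 LD2_c50 LD3_c22)) :: (LG_g, (LK LD1_c13 LD2_c7 LD3_c6)) :: (LG_g, (LK LD1_c7 LD2_c47 LD3_c30)) :: (LG_g, (LK LD1_c14 LD2_c53 LD3_c1)) :: (LG_d, (LK LD1_c30 LD2_c40 LD3_c16)) :: (LG_g, (LK LD1_c13 LD2_c24 LD3_c41)) :: (LG_g, (LK LD1_c21 LD2_c41 LD3_c23)) :: (LG_g, (LK LD1_c21 LD2_c41 LD3_c22)) :: (LG_g, (LK LD1_c14 LD2_c55 LD3_c36)) :: (LG_a, (LK LD1_c14 LD2_c55 LD3_c38)) :: (LG_b, (LK LD1_c23 LD2_c41 LD3_c9)) :: (LG_g, (LK LD1_c7 LD2_c55 LD3_c11)) :: (LG_d, (LK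 LD1_c23 LD2_c37 LD3_c42)) :: (LG_g, (LK LD1_c7 LD2_c10 LD3_c38)) :: (LG_f, (LK LD1_c8 LD2_c33 LD3_c56)) :: (LG_g, (LK LD1_c25 LD2_c4 LD3_c37)) :: (LG_c, (LK LD1_c16 LD2_c58 LD3_c32)) :: (LG_c, (LK LD1_c12 LD2_c57 LD3_c24)) :: (LG_d, (LK LD1_c17 LD2_c10 LD3_c52)) :: (LG_g, (LK LD1_c18 LD2_c24 LD3_c34)) :: (LG_g, (LK LD1_c18 LD2_c23 LD3_c29)) :: (LG_c, (LK LD1_c4 LD2_c31 LD3_c11)) :: (LG_c, (LK LD1_c11 LD2_c12 LD3_c15)) :: (LG_a, (LK LD1_c9 LD2_c1 LD3_c37)) :: (LG_b, (LK LD1_c29 LD2_c21 LD3_c44)) :: (LG_a, (LK LD1_c9 LD2_c2 LD3_c18)) :: (LG_a, (LK LD1_c9 LD2_c5 LD3_c20)) :: (LG_f, (LK LD1_c10 LD2_c15 LD3_c30)) :: (LG_g, (LK LD1_c10 LD2_c3 LD3_c2)) :: (LG_c, (LK LD1_c17 LD2_c57 LD3_c55)) :: (LG_g, (LK LD1_c20 LD2_c22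 LD3_c33)) :: (LG_g, (LK LD1_c9 LD2_c10 LD3_c0)) :: (LG_d, (LK LD1_c21 LD2_c36 LD3_c40)) :: (LG_d, (LK LD1_c17 LD2_c16 LD3_c37)) :: (LG_g, (LK LD1_c12 LD2_c29 LD3_c44)) :: (LG_g, (LK LD1_c9 LD2_c17 LD3_c13)) :: (LG_g, (LK LD1_c6 LD2_c1 LD3_c4)) :: (LG_c, (LK LD1_c20 LD2_c25 LD3_c25)) :: (LG_a, (LK LD1_c9 LD2_c5 LD3_c34)) :: (LG_g, (LK LD1_c20 LD2_c45 LD3_c38)) :: (LG_b, (LK LD1_c16 LD2_c30 LD3_c61)) :: (LG_a, (LK LD1_c8 LD2_c49 LD3_c41)) :: (LG_b, (LK LD1_c14 LD2_c46 LD3_c40)) :: (LG_g, (LK LD1_c12 LD2_c23 LD3_c1)) :: (LG_c, (LK LD1_c31 LD2_c34 LD3_c19)) :: (LG_g, (LK LD1_c10 LD2_c53 LD3_c16)) :: (LG_g, (LK LD1_c2 LD2_c52 LD3_c13)) :: (LG_a, (LK LD1_c11 LD2_c28 LD3_c59)) :: (LG_g, (LK LD1_c12 LD2_c52 LD3_c20)) ::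 (LG_b, (LK LD1_c20 LD2_c51 LD3_c26)) :: (LG_g, (LK LD1_c9 LD2_c28 LD3_c33)) :: (LG_b, (LK LD1_c11 LD2_c29 LD3_c3)) :: (LG_f, (LK LD1_c11 LD2_c30 LD3_c50)) :: (LG_g, (LK LD1_c20 LD2_c44 LD3_c32)) :: (LG_c, (LK LD1_c22 LD2_c9 LD3_c56)) :: (LG_b, (LK LD1_c13 LD2_c23 LD3_c56)) :: (LG_c, (LK LD1_c12 LD2_c24 LD3_c40)) :: (LG_g, (LK LD1_c21 LD2_c36 LD3_c37)) :: spt_19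
def spt_17 : List (Gen × Pt) := (LG_b, (LK LD1_c20 LD2_c23 LD3_c37)) :: (LG_g, (LK LD1_c7 LD2_c34 LD3_c27)) :: (LG_a, (LK LD1_c14 LD2_c16 LD3_c61)) :: (LG_d, (LK LD1_c30 LD2_c34 LD3_c49)) :: (LG_g, (LK LD1_c14 LD2_c17 LD3_c13)) :: (LG_g, (LK LD1_c14 LD2_c12 LD3_c24)) :: (LG_a, (LK LD1_c22 LD2_c34 LD3_c13)) :: (LG_b, (LK LD1_c22 LD2_c34 LD3_c13)) :: (LG_a, (LK LD1_c14 LD2_c18 LD3_c7)) :: (LG_f, (LK LD1_c22 LD2_c20 LD3_c1)) :: (LG_c, (LK LD1_c7 LD2_c35 LD3_c11)) :: (LG_a, (LK LD1_c14 LD2_c18 LD3_c46)) :: (LG_g, (LK LD1_c14 LD2_c48 LD3_c27)) :: (LG_a, (LK LD1_c14 LD2_c19 LD3_c11)) :: (LG_g, (LK LD1_c14 LD2_c31 LD3_c50)) :: (LG_g, (LK LD1_c14 LD2_c15 LD3_c37)) :: (LG_g, (LK LD1_c23 LD2_c58 LD3_c19)) :: (LG_g, (LK LD1_c14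 LD2_c20 LD3_c48)) :: (LG_d, (LK LD1_c14 LD2_c20 LD3_c61)) :: (LG_e, (LK LD1_c14 LD2_c21 LD3_c3)) :: (LG_g, (LK LD1_c14 LD2_c21 LD3_c3)) :: (LG_g, (LK LD1_c7 LD2_c2 LD3_c12)) :: (LG_g, (LK LD1_c14 LD2_c21 LD3_c20)) :: (LG_g, (LK LD1_c7 LD2_c45 LD3_c32)) :: (LG_g, (LK LD1_c14 LD2_c21 LD3_c29)) :: (LG_g, (LK LD1_c24 LD2_c0 LD3_c38)) :: (LG_d, (LK LD1_c23 LD2_c54 LD3_c47)) :: (LG_g, (LK LD1_c14 LD2_c14 LD3_c27)) :: (LG_g, (LK LD1_c7 LD2_c38 LD3_c13)) :: (LG_g, (LK LD1_c7 LD2_c38 LD3_c31)) :: (LG_g, (LK LD1_c21 LD2_c48 LD3_c12)) :: (LG_g, (LK LD1_c13 LD2_c9 LD3_c3)) :: (LG_c, (LK LD1_c24 LD2_c2 LD3_c59)) :: (LG_g, (LK LD1_c7 LD2_c38 LD3_c32)) :: (LG_e, (LK LD1_c14 LD2_c24 LD3_c12)) :: (LG_g, (LK LD1_c14 LD2_c16 LD3_c61))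 :: (LG_b, (LK LD1_c13 LD2_c9 LD3_c3)) :: (LG_d, (LK LD1_c29 LD2_c30 LD3_c15)) :: (LG_b, (LK LD1_c24 LD2_c1 LD3_c40)) :: (LG_g, (LK LD1_c7 LD2_c39 LD3_c59)) :: (LG_e, (LK LD1_c14 LD2_c27 LD3_c3)) :: (LG_g, (LK LD1_c14 LD2_c14 LD3_c25)) :: (LG_g, (LK LD1_c32 LD2_c53 LD3_c36)) :: (LG_g, (LK LD1_c14 LD2_c28 LD3_c4)) :: (LG_g, (LK LD1_c17 LD2_c28 LD3_c26)) :: (LG_a, (LK LD1_c14 LD2_c19 LD3_c23)) :: (LG_a, (LK LD1_c21 LD2_c41 LD3_c25)) :: (LG_e, (LK LD1_c14 LD2_c29 LD3_c41)) :: (LG_e, (LK LD1_c13 LD2_c11 LD3_c47)) :: (LG_g, (LK LD1_c14 LD2_c21 LD3_c24)) :: (LG_g, (LK LD1_c23 LD2_c52 LD3_c44)) :: (LG_g, (LK LD1_c24 LD2_c9 LD3_c47)) :: (LG_g, (LK LD1_c7 LD2_c41 LD3_c38)) :: (LG_g, (LK LD1_c13 LD2_c23 LD3_c8)) :: (LG_c, (LK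 LD1_c31 LD2_c17 LD3_c34)) :: (LG_g, (LK LD1_c7 LD2_c42 LD3_c26)) :: (LG_a, (LK LD1_c14 LD2_c31 LD3_c36)) :: (LG_e, (LK LD1_c14 LD2_c31 LD3_c42)) :: (LG_d, (LK LD1_c23 LD2_c58 LD3_c41)) :: (LG_g, (LK LD1_c7 LD2_c45 LD3_c6)) :: (LG_a, (LK LD1_c7 LD2_c44 LD3_c48)) :: (LG_c, (LK LD1_c7 LD2_c53 LD3_c7)) :: (LG_d, (LK LD1_c22 LD2_c13 LD3_c8)) :: (LG_e, (LK LD1_c23 LD2_c19 LD3_c14)) :: (LG_g, (LK LD1_c7 LD2_c43 LD3_c23)) :: (LG_g, (LK LD1_c14 LD2_c33 LD3_c23)) :: (LG_a, (LK LD1_c7 LD2_c43 LD3_c59)) :: (LG_g, (LK LD1_c7 LD2_c44 LD3_c4)) :: (LG_g, (LK LD1_c14 LD2_c35 LD3_c7)) :: (LG_a, (LK LD1_c21 LD2_c42 LD3_c39)) :: (LG_g, (LK LD1_c7 LD2_c44 LD3_c3)) :: (LG_d, (LK LD1_c7 LD2_c44 LD3_c54)) :: (LG_g, (LK LD1_c22 LD2_c37 LD3_c35))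 :: (LG_g, (LK LD1_c14 LD2_c37 LD3_c29)) :: (LG_g, (LK LD1_c7 LD2_c44 LD3_c59)) :: (LG_g, (LK LD1_c7 LD2_c53 LD3_c17)) :: (LG_g, (LK LD1_c7 LD2_c44 LD3_c16)) :: (LG_e, (LK LD1_c14 LD2_c30 LD3_c10)) :: (LG_g, (LK LD1_c13 LD2_c19 LD3_c27)) :: (LG_f, (LK LD1_c14 LD2_c31 LD3_c43)) :: (LG_a, (LK LD1_c14 LD2_c11 LD3_c10)) :: (LG_f, (LK LD1_c12 LD2_c43 LD3_c43)) :: (LG_d, (LK LD1_c14 LD2_c30 LD3_c10)) :: (LG_f, (LK LD1_c21 LD2_c52 LD3_c31)) :: (LG_a, (LK LD1_c14 LD2_c37 LD3_c54)) :: (LG_g, (LK LD1_c20 LD2_c23 LD3_c38)) :: (LG_d, (LK LD1_c23 LD2_c59 LD3_c4)) :: (LG_a, (LK LD1_c7 LD2_c1 LD3_c42)) :: (LG_g, (LK LD1_c24 LD2_c15 LD3_c29)) :: (LG_g, (LK LD1_c24 LD2_c20 LD3_c60)) :: (LG_g, (LK LD1_c30 LD2_c34 LD3_c7)) :: (LG_g,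 (LK LD1_c22 LD2_c37 LD3_c9)) :: (LG_g, (LK LD1_c7 LD2_c45 LD3_c20)) :: (LG_c, (LK LD1_c21 LD2_c47 LD3_c53)) :: (LG_g, (LK LD1_c21 LD2_c52 LD3_c59)) :: (LG_g, (LK LD1_c14 LD2_c38 LD3_c18)) :: (LG_d, (LK LD1_c14 LD2_c37 LD3_c30)) :: (LG_b, (LK LD1_c22 LD2_c16 LD3_c23)) :: (LG_d, (LK LD1_c30 LD2_c23 LD3_c55)) :: (LG_d, (LK LD1_c23 LD2_c54 LD3_c26)) :: spt_18
def spt_16 : List (Gen × Pt) := (LG_b, (LK LD1_c13 LD2_c47 LD3_c53)) :: (LG_g, (LK LD1_c15 LD2_c12 LD3_c52)) :: (LG_g, (LK LD1_c23 LD2_c8 LD3_c53)) :: (LG_g, (LK LD1_c7 LD2_c29 LD3_c47)) :: (LG_g, (LK LD1_c24 LD2_c15 LD3_c28)) :: (LG_d, (LK LD1_c23 LD2_c17 LD3_c2)) :: (LG_g, (LK LD1_c29 LD2_c30 LD3_c5)) :: (LG_g, (LK LD1_c23 LD2_c52 LD3_c22)) :: (LG_g, (LK LD1_c23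 LD2_c20 LD3_c32)) :: (LG_c, (LK LD1_c22 LD2_c45 LD3_c24)) :: (LG_g, (LK LD1_c22 LD2_c34 LD3_c0)) :: (LG_a, (LK LD1_c23 LD2_c21 LD3_c43)) :: (LG_g, (LK LD1_c13 LD2_c51 LD3_c4)) :: (LG_e, (LK LD1_c13 LD2_c49 LD3_c43)) :: (LG_g, (LK LD1_c22 LD2_c50 LD3_c48)) :: (LG_g, (LK LD1_c13 LD2_c50 LD3_c16)) :: (LG_a, (LK LD1_c13 LD2_c50 LD3_c28)) :: (LG_g, (LK LD1_c14 LD2_c17 LD3_c12)) :: (LG_g, (LK LD1_c14 LD2_c17 LD3_c35)) :: (LG_g, (LK LD1_c7 LD2_c19 LD3_c33)) :: (LG_g, (LK LD1_c14 LD2_c47 LD3_c42)) :: (LG_g, (LK LD1_c21 LD2_c58 LD3_c27)) :: (LG_g, (LK LD1_c23 LD2_c28 LD3_c7)) :: (LG_g, (LK LD1_c7 LD2_c24 LD3_c34)) :: (LG_d, (LK LD1_c24 LD2_c38 LD3_c15)) :: (LG_f, (LK LD1_c14 LD2_c51 LD3_c47)) :: (LG_d, (LK LD1_c23 LD2_c23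 LD3_c17)) :: (LG_c, (LK LD1_c31 LD2_c5 LD3_c45)) :: (LG_g, (LK LD1_c22 LD2_c44 LD3_c40)) :: (LG_g, (LK LD1_c14 LD2_c45 LD3_c41)) :: (LG_b, (LK LD1_c14 LD2_c50 LD3_c60)) :: (LG_b, (LK LD1_c12 LD2_c12 LD3_c47)) :: (LG_g, (LK LD1_c13 LD2_c58 LD3_c50)) :: (LG_g, (LK LD1_c7 LD2_c23 LD3_c43)) :: (LG_e, (LK LD1_c14 LD2_c48 LD3_c5)) :: (LG_g, (LK LD1_c14 LD2_c8 LD3_c55)) :: (LG_a, (LK LD1_c14 LD2_c0 LD3_c50)) :: (LG_b, (LK LD1_c14 LD2_c10 LD3_c4)) :: (LG_a, (LK LD1_c7 LD2_c50 LD3_c34)) :: (LG_g, (LK LD1_c14 LD2_c45 LD3_c57)) :: (LG_g, (LK LD1_c14 LD2_c3 LD3_c4)) :: (LG_g, (LK LD1_c23 LD2_c44 LD3_c42)) :: (LG_g, (LK LD1_c14 LD2_c4 LD3_c7)) :: (LG_c, (LK LD1_c21 LD2_c26 LD3_c12)) :: (LG_g, (LK LD1_c6 LD2_c32 LD3_c9)) :: (LG_c,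 (LK LD1_c23 LD2_c54 LD3_c58)) :: (LG_g, (LK LD1_c24 LD2_c10 LD3_c37)) :: (LG_e, (LK LD1_c24 LD2_c41 LD3_c61)) :: (LG_g, (LK LD1_c14 LD2_c9 LD3_c53)) :: (LG_e, (LK LD1_c23 LD2_c43 LD3_c19)) :: (LG_g, (LK LD1_c13 LD2_c57 LD3_c3)) :: (LG_a, (LK LD1_c14 LD2_c9 LD3_c53)) :: (LG_c, (LK LD1_c23 LD2_c45 LD3_c11)) :: (LG_c, (LK LD1_c14 LD2_c9 LD3_c51)) :: (LG_g, (LK LD1_c14 LD2_c0 LD3_c59)) :: (LG_c, (LK LD1_c14 LD2_c1 LD3_c0)) :: (LG_c, (LK LD1_c13 LD2_c12 LD3_c56)) :: (LG_d, (LK LD1_c23 LD2_c48 LD3_c34)) :: (LG_d, (LK LD1_c22 LD2_c50 LD3_c0)) :: (LG_g, (LK LD1_c23 LD2_c46 LD3_c43)) :: (LG_g, (LK LD1_c23 LD2_c46 LD3_c45)) :: (LG_g, (LK LD1_c13 LD2_c5 LD3_c45)) :: (LG_c, (LK LD1_c13 LD2_c1 LD3_c47)) :: (LG_g, (LK LD1_c9 LD2_c12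 LD3_c31)) :: (LG_g, (LK LD1_c21 LD2_c57 LD3_c27)) :: (LG_d, (LK LD1_c21 LD2_c54 LD3_c27)) :: (LG_e, (LK LD1_c14 LD2_c37 LD3_c58)) :: (LG_a, (LK LD1_c12 LD2_c38 LD3_c21)) :: (LG_g, (LK LD1_c16 LD2_c58 LD3_c27)) :: (LG_d, (LK LD1_c17 LD2_c17 LD3_c46)) :: (LG_d, (LK LD1_c23 LD2_c47 LD3_c14)) :: (LG_g, (LK LD1_c14 LD2_c11 LD3_c61)) :: (LG_g, (LK LD1_c12 LD2_c12 LD3_c0)) :: (LG_g, (LK LD1_c7 LD2_c33 LD3_c21)) :: (LG_e, (LK LD1_c30 LD2_c18 LD3_c26)) :: (LG_g, (LK LD1_c3 LD2_c48 LD3_c6)) :: (LG_d, (LK LD1_c23 LD2_c52 LD3_c49)) :: (LG_a, (LK LD1_c27 LD2_c6 LD3_c47)) :: (LG_b, (LK LD1_c13 LD2_c11 LD3_c43)) :: (LG_g, (LK LD1_c7 LD2_c47 LD3_c54)) :: (LG_g, (LK LD1_c14 LD2_c42 LD3_c49)) :: (LG_g, (LK LD1_c21 LD2_c14 LD3_c17))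 :: (LG_c, (LK LD1_c22 LD2_c36 LD3_c10)) :: (LG_c, (LK LD1_c14 LD2_c13 LD3_c6)) :: (LG_d, (LK LD1_c30 LD2_c11 LD3_c59)) :: (LG_c, (LK LD1_c21 LD2_c52 LD3_c57)) :: (LG_d, (LK LD1_c24 LD2_c2 LD3_c11)) :: (LG_g, (LK LD1_c7 LD2_c33 LD3_c1)) :: (LG_b, (LK LD1_c13 LD2_c6 LD3_c44)) :: (LG_c, (LK LD1_c14 LD2_c14 LD3_c2)) :: (LG_a, (LK LD1_c14 LD2_c14 LD3_c25)) :: (LG_d, (LK LD1_c13 LD2_c59 LD3_c25)) :: (LG_g, (LK LD1_c13 LD2_c7 LD3_c10)) :: (LG_a, (LK LD1_c14 LD2_c19 LD3_c47)) :: (LG_g, (LK LD1_c13 LD2_c16 LD3_c30)) :: (LG_b, (LK LD1_c22 LD2_c41 LD3_c12)) :: (LG_g, (LK LD1_c23 LD2_c52 LD3_c28)) :: (LG_g, (LK LD1_c14 LD2_c15 LD3_c46)) :: (LG_c, (LK LD1_c30 LD2_c46 LD3_c47)) :: (LG_a, (LK LD1_c14 LD2_c16 LD3_c31)) :: spt_17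
def spt_15 : List (Gen × Pt) := (LG_g, (LK LD1_c17 LD2_c17 LD3_c40)) :: (LG_b, (LK LD1_c11 LD2_c11 LD3_c58)) :: (LG_g, (LK LD1_c12 LD2_c53 LD3_c13)) :: (LG_a, (LK LD1_c9 LD2_c26 LD3_c13)) :: (LG_g, (LK LD1_c17 LD2_c24 LD3_c10)) :: (LG_d, (LK LD1_c20 LD2_c26 LD3_c49)) :: (LG_f, (LK LD1_c13 LD2_c18 LD3_c27)) :: (LG_d, (LK LD1_c14 LD2_c52 LD3_c44)) :: (LG_g, (LK LD1_c14 LD2_c1 LD3_c22)) :: (LG_d, (LK LD1_c14 LD2_c14 LD3_c53)) :: (LG_g, (LK LD1_c7 LD2_c20 LD3_c55)) :: (LG_g, (LK LD1_c22 LD2_c14 LD3_c42)) :: (LG_c, (LK LD1_c13 LD2_c17 LD3_c36)) :: (LG_g, (LK LD1_c22 LD2_c16 LD3_c44)) :: (LG_g, (LK LD1_c13 LD2_c19 LD3_c25)) :: (LG_g, (LK LD1_c13 LD2_c6 LD3_c49)) :: (LG_g, (LK LD1_c13 LD2_c5 LD3_c12)) :: (LG_g, (LK LD1_c22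 LD2_c20 LD3_c25)) :: (LG_g, (LK LD1_c13 LD2_c10 LD3_c21)) :: (LG_g, (LK LD1_c14 LD2_c19 LD3_c10)) :: (LG_g, (LK LD1_c7 LD2_c52 LD3_c58)) :: (LG_d, (LK LD1_c22 LD2_c16 LD3_c47)) :: (LG_g, (LK LD1_c24 LD2_c15 LD3_c56)) :: (LG_a, (LK LD1_c13 LD2_c46 LD3_c6)) :: (LG_b, (LK LD1_c24 LD2_c1 LD3_c42)) :: (LG_g, (LK LD1_c13 LD2_c36 LD3_c25)) :: (LG_g, (LK LD1_c14 LD2_c52 LD3_c42)) :: (LG_g, (LK LD1_c23 LD2_c56 LD3_c36)) :: (LG_g, (LK LD1_c23 LD2_c57 LD3_c24)) :: (LG_g, (LK LD1_c13 LD2_c10 LD3_c55)) :: (LG_g, (LK LD1_c22 LD2_c36 LD3_c7)) :: (LG_c, (LK LD1_c23 LD2_c6 LD3_c39)) :: (LG_g, (LK LD1_c26 LD2_c16 LD3_c34)) :: (LG_g, (LK LD1_c7 LD2_c10 LD3_c40)) :: (LG_g, (LK LD1_c13 LD2_c7 LD3_c16)) :: (LG_f, (LK LD1_c14 LD2_c15 LD3_c23))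 :: (LG_g, (LK LD1_c7 LD2_c30 LD3_c32)) :: (LG_f, (LK LD1_c12 LD2_c13 LD3_c59)) :: (LG_c, (LK LD1_c12 LD2_c15 LD3_c41)) :: (LG_g, (LK LD1_c17 LD2_c29 LD3_c6)) :: (LG_g, (LK LD1_c22 LD2_c30 LD3_c18)) :: (LG_g, (LK LD1_c9 LD2_c28 LD3_c49)) :: (LG_g, (LK LD1_c6 LD2_c34 LD3_c40)) :: (LG_g, (LK LD1_c12 LD2_c41 LD3_c32)) :: (LG_e, (LK LD1_c14 LD2_c13 LD3_c30)) :: (LG_g, (LK LD1_c14 LD2_c27 LD3_c45)) :: (LG_d, (LK LD1_c14 LD2_c27 LD3_c1)) :: (LG_g, (LK LD1_c7 LD2_c48 LD3_c36)) :: (LG_a, (LK LD1_c13 LD2_c17 LD3_c36)) :: (LG_a, (LK LD1_c7 LD2_c32 LD3_c33)) :: (LG_g, (LK LD1_c7 LD2_c34 LD3_c41)) :: (LG_g, (LK LD1_c7 LD2_c33 LD3_c25)) :: (LG_b, (LK LD1_c13 LD2_c8 LD3_c32)) :: (LG_g, (LK LD1_c6 LD2_c36 LD3_c53)) :: (LG_d, (LK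 LD1_c24 LD2_c19 LD3_c41)) :: (LG_d, (LK LD1_c13 LD2_c20 LD3_c49)) :: (LG_c, (LK LD1_c13 LD2_c59 LD3_c43)) :: (LG_d, (LK LD1_c14 LD2_c25 LD3_c16)) :: (LG_g, (LK LD1_c14 LD2_c25 LD3_c16)) :: (LG_c, (LK LD1_c14 LD2_c31 LD3_c19)) :: (LG_d, (LK LD1_c31 LD2_c30 LD3_c42)) :: (LG_a, (LK LD1_c13 LD2_c23 LD3_c28)) :: (LG_g, (LK LD1_c14 LD2_c33 LD3_c56)) :: (LG_d, (LK LD1_c14 LD2_c32 LD3_c46)) :: (LG_d, (LK LD1_c14 LD2_c24 LD3_c32)) :: (LG_g, (LK LD1_c14 LD2_c24 LD3_c32)) :: (LG_g, (LK LD1_c20 LD2_c35 LD3_c0)) :: (LG_g, (LK LD1_c13 LD2_c24 LD3_c17)) :: (LG_e, (LK LD1_c30 LD2_c43 LD3_c14)) :: (LG_g, (LK LD1_c7 LD2_c6 LD3_c57)) :: (LG_a, (LK LD1_c13 LD2_c33 LD3_c13)) :: (LG_c, (LK LD1_c7 LD2_c9 LD3_c55)) :: (LG_g, (LK LD1_c23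 LD2_c6 LD3_c34)) :: (LG_c, (LK LD1_c13 LD2_c51 LD3_c19)) :: (LG_g, (LK LD1_c16 LD2_c20 LD3_c24)) :: (LG_g, (LK LD1_c11 LD2_c24 LD3_c40)) :: (LG_d, (LK LD1_c23 LD2_c3 LD3_c42)) :: (LG_b, (LK LD1_c7 LD2_c34 LD3_c19)) :: (LG_b, (LK LD1_c21 LD2_c29 LD3_c50)) :: (LG_e, (LK LD1_c22 LD2_c54 LD3_c43)) :: (LG_c, (LK LD1_c13 LD2_c35 LD3_c40)) :: (LG_g, (LK LD1_c3 LD2_c37 LD3_c53)) :: (LG_g, (LK LD1_c13 LD2_c27 LD3_c26)) :: (LG_e, (LK LD1_c23 LD2_c0 LD3_c60)) :: (LG_g, (LK LD1_c3 LD2_c35 LD3_c15)) :: (LG_c, (LK LD1_c23 LD2_c23 LD3_c50)) :: (LG_c, (LK LD1_c7 LD2_c20 LD3_c53)) :: (LG_g, (LK LD1_c13 LD2_c37 LD3_c38)) :: (LG_c, (LK LD1_c22 LD2_c15 LD3_c24)) :: (LG_f, (LK LD1_c26 LD2_c7 LD3_c26)) :: (LG_a, (LK LD1_c13 LD2_c38 LD3_c18))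 :: (LG_d, (LK LD1_c24 LD2_c57 LD3_c0)) :: (LG_g, (LK LD1_c30 LD2_c32 LD3_c4)) :: (LG_a, (LK LD1_c13 LD2_c42 LD3_c23)) :: (LG_g, (LK LD1_c13 LD2_c28 LD3_c1)) :: (LG_a, (LK LD1_c13 LD2_c27 LD3_c22)) :: (LG_a, (LK LD1_c13 LD2_c46 LD3_c39)) :: (LG_g, (LK LD1_c13 LD2_c51 LD3_c11)) :: (LG_g, (LK LD1_c13 LD2_c51 LD3_c34)) :: (LG_b, (LK LD1_c13 LD2_c52 LD3_c3)) :: spt_16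
def spt_14 : List (Gen × Pt) := (LG_d, (LK LD1_c21 LD2_c43 LD3_c3)) :: (LG_c, (LK LD1_c21 LD2_c43 LD3_c4)) :: (LG_g, (LK LD1_c12 LD2_c36 LD3_c50)) :: (LG_g, (LK LD1_c14 LD2_c28 LD3_c45)) :: (LG_g, (LK LD1_c12 LD2_c46 LD3_c14)) :: (LG_g, (LK LD1_c12 LD2_c46 LD3_c13)) :: (LG_f, (LK LD1_c12 LD2_c46 LD3_c14)) :: (LG_d, (LK LD1_c12 LD2_c2 LD3_c56)) :: (LG_a, (LK LD1_c13 LD2_c23 LD3_c56)) :: (LG_g, (LK LD1_c12 LD2_c40 LD3_c19)) :: (LG_c, (LK LD1_c12 LD2_c40 LD3_c26)) :: (LG_a, (LK LD1_c12 LD2_c36 LD3_c50)) :: (LG_d, (LK LD1_c21 LD2_c46 LD3_c48)) :: (LG_g, (LK LD1_c13 LD2_c23 LD3_c56)) :: (LG_a, (LK LD1_c12 LD2_c42 LD3_c8)) :: (LG_d, (LK LD1_c21 LD2_c49 LD3_c26)) :: (LG_g, (LK LD1_c21 LD2_c50 LD3_c30)) :: (LG_e, (LK LD1_c17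 LD2_c30 LD3_c40)) :: (LG_c, (LK LD1_c30 LD2_c9 LD3_c15)) :: (LG_g, (LK LD1_c6 LD2_c37 LD3_c53)) :: (LG_g, (LK LD1_c6 LD2_c38 LD3_c2)) :: (LG_d, (LK LD1_c17 LD2_c30 LD3_c45)) :: (LG_a, (LK LD1_c6 LD2_c40 LD3_c56)) :: (LG_b, (LK LD1_c21 LD2_c49 LD3_c38)) :: (LG_g, (LK LD1_c12 LD2_c44 LD3_c9)) :: (LG_c, (LK LD1_c17 LD2_c5 LD3_c46)) :: (LG_b, (LK LD1_c12 LD2_c1 LD3_c59)) :: (LG_g, (LK LD1_c6 LD2_c39 LD3_c28)) :: (LG_g, (LK LD1_c12 LD2_c44 LD3_c31)) :: (LG_g, (LK LD1_c6 LD2_c39 LD3_c25)) :: (LG_d, (LK LD1_c13 LD2_c20 LD3_c54)) :: (LG_g, (LK LD1_c3 LD2_c45 LD3_c60)) :: (LG_d, (LK LD1_c24 LD2_c2 LD3_c18)) :: (LG_g, (LK LD1_c6 LD2_c39 LD3_c54)) :: (LG_g, (LK LD1_c12 LD2_c45 LD3_c34)) :: (LG_d, (LK LD1_c24 LD2_c7 LD3_c13))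 :: (LG_g, (LK LD1_c12 LD2_c39 LD3_c10)) :: (LG_g, (LK LD1_c12 LD2_c46 LD3_c50)) :: (LG_g, (LK LD1_c21 LD2_c45 LD3_c30)) :: (LG_g, (LK LD1_c6 LD2_c41 LD3_c20)) :: (LG_b, (LK LD1_c21 LD2_c20 LD3_c5)) :: (LG_g, (LK LD1_c12 LD2_c19 LD3_c45)) :: (LG_g, (LK LD1_c6 LD2_c42 LD3_c23)) :: (LG_c, (LK LD1_c30 LD2_c14 LD3_c21)) :: (LG_g, (LK LD1_c9 LD2_c28 LD3_c17)) :: (LG_g, (LK LD1_c12 LD2_c51 LD3_c22)) :: (LG_c, (LK LD1_c12 LD2_c52 LD3_c25)) :: (LG_c, (LK LD1_c22 LD2_c1 LD3_c15)) :: (LG_g, (LK LD1_c14 LD2_c23 LD3_c14)) :: (LG_c, (LK LD1_c22 LD2_c0 LD3_c9)) :: (LG_g, (LK LD1_c22 LD2_c0 LD3_c9)) :: (LG_g, (LK LD1_c12 LD2_c51 LD3_c27)) :: (LG_c, (LK LD1_c14 LD2_c31 LD3_c17)) :: (LG_g, (LK LD1_c6 LD2_c43 LD3_c32)) :: (LG_g, (LK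 LD1_c12 LD2_c52 LD3_c12)) :: (LG_g, (LK LD1_c13 LD2_c1 LD3_c18)) :: (LG_f, (LK LD1_c21 LD2_c31 LD3_c4)) :: (LG_b, (LK LD1_c30 LD2_c3 LD3_c27)) :: (LG_g, (LK LD1_c12 LD2_c26 LD3_c0)) :: (LG_b, (LK LD1_c9 LD2_c13 LD3_c17)) :: (LG_b, (LK LD1_c11 LD2_c44 LD3_c32)) :: (LG_d, (LK LD1_c6 LD2_c45 LD3_c21)) :: (LG_e, (LK LD1_c9 LD2_c12 LD3_c49)) :: (LG_e, (LK LD1_c6 LD2_c45 LD3_c18)) :: (LG_d, (LK LD1_c11 LD2_c39 LD3_c60)) :: (LG_g, (LK LD1_c6 LD2_c46 LD3_c49)) :: (LG_g, (LK LD1_c6 LD2_c44 LD3_c46)) :: (LG_g, (LK LD1_c12 LD2_c32 LD3_c51)) :: (LG_c, (LK LD1_c17 LD2_c23 LD3_c60)) :: (LG_g, (LK LD1_c6 LD2_c45 LD3_c4)) :: (LG_g, (LK LD1_c9 LD2_c2 LD3_c42)) :: (LG_g, (LK LD1_c11 LD2_c6 LD3_c33)) :: (LG_c, (LK LD1_c22 LD2_c4 LD3_c11))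 :: (LG_d, (LK LD1_c16 LD2_c59 LD3_c42)) :: (LG_c, (LK LD1_c20 LD2_c38 LD3_c3)) :: (LG_e, (LK LD1_c6 LD2_c46 LD3_c18)) :: (LG_g, (LK LD1_c12 LD2_c31 LD3_c14)) :: (LG_d, (LK LD1_c20 LD2_c27 LD3_c53)) :: (LG_b, (LK LD1_c11 LD2_c26 LD3_c1)) :: (LG_g, (LK LD1_c6 LD2_c51 LD3_c5)) :: (LG_g, (LK LD1_c11 LD2_c31 LD3_c3)) :: (LG_g, (LK LD1_c10 LD2_c19 LD3_c7)) :: (LG_g, (LK LD1_c20 LD2_c17 LD3_c14)) :: (LG_b, (LK LD1_c23 LD2_c53 LD3_c2)) :: (LG_c, (LK LD1_c22 LD2_c7 LD3_c49)) :: (LG_f, (LK LD1_c6 LD2_c48 LD3_c43)) :: (LG_d, (LK LD1_c6 LD2_c48 LD3_c10)) :: (LG_d, (LK LD1_c6 LD2_c48 LD3_c35)) :: (LG_g, (LK LD1_c6 LD2_c23 LD3_c29)) :: (LG_b, (LK LD1_c12 LD2_c20 LD3_c11)) :: (LG_g, (LK LD1_c21 LD2_c6 LD3_c24)) :: (LG_g, (LK LD1_c12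 LD2_c48 LD3_c36)) :: (LG_c, (LK LD1_c27 LD2_c22 LD3_c11)) :: (LG_c, (LK LD1_c17 LD2_c14 LD3_c30)) :: (LG_c, (LK LD1_c22 LD2_c12 LD3_c49)) :: (LG_a, (LK LD1_c12 LD2_c51 LD3_c28)) :: (LG_c, (LK LD1_c22 LD2_c1 LD3_c59)) :: (LG_b, (LK LD1_c12 LD2_c44 LD3_c27)) :: (LG_g, (LK LD1_c17 LD2_c7 LD3_c55)) :: (LG_c, (LK LD1_c13 LD2_c10 LD3_c56)) :: spt_15
def spt_13 : List (Gen × Pt) := (LG_g, (LK LD1_c12 LD2_c32 LD3_c21)) :: (LG_g, (LK LD1_c9 LD2_c28 LD3_c47)) :: (LG_c, (LK LD1_c4 LD2_c43 LD3_c18)) :: (LG_a, (LK LD1_c2 LD2_c21 LD3_c5)) :: (LG_f, (LK LD1_c9 LD2_c27 LD3_c60)) :: (LG_g, (LK LD1_c3 LD2_c19 LD3_c34)) :: (LG_g, (LK LD1_c4 LD2_c45 LD3_c4)) :: (LG_c, (LK LD1_c6 LD2_c43 LD3_c29)) :: (LG_g, (LK LD1_c4 LD2_c43 LD3_c18))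 :: (LG_g, (LK LD1_c17 LD2_c21 LD3_c59)) :: (LG_g, (LK LD1_c6 LD2_c43 LD3_c31)) :: (LG_a, (LK LD1_c2 LD2_c19 LD3_c20)) :: (LG_f, (LK LD1_c9 LD2_c28 LD3_c53)) :: (LG_a, (LK LD1_c9 LD2_c22 LD3_c57)) :: (LG_f, (LK LD1_c9 LD2_c22 LD3_c57)) :: (LG_g, (LK LD1_c6 LD2_c30 LD3_c8)) :: (LG_a, (LK LD1_c6 LD2_c21 LD3_c61)) :: (LG_a, (LK LD1_c9 LD2_c20 LD3_c38)) :: (LG_g, (LK LD1_c3 LD2_c15 LD3_c58)) :: (LG_g, (LK LD1_c6 LD2_c11 LD3_c41)) :: (LG_g, (LK LD1_c3 LD2_c15 LD3_c18)) :: (LG_g, (LK LD1_c6 LD2_c10 LD3_c26)) :: (LG_g, (LK LD1_c4 LD2_c47 LD3_c56)) :: (LG_a, (LK LD1_c6 LD2_c50 LD3_c46)) :: (LG_b, (LK LD1_c12 LD2_c15 LD3_c40)) :: (LG_g, (LK LD1_c6 LD2_c29 LD3_c6)) :: (LG_g, (LK LD1_c3 LD2_c44 LD3_c48)) :: (LG_a, (LK LD1_c3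 LD2_c14 LD3_c17)) :: (LG_g, (LK LD1_c6 LD2_c20 LD3_c43)) :: (LG_f, (LK LD1_c6 LD2_c41 LD3_c0)) :: (LG_g, (LK LD1_c6 LD2_c40 LD3_c59)) :: (LG_b, (LK LD1_c4 LD2_c47 LD3_c45)) :: (LG_c, (LK LD1_c6 LD2_c34 LD3_c38)) :: (LG_a, (LK LD1_c6 LD2_c41 LD3_c1)) :: (LG_f, (LK LD1_c3 LD2_c45 LD3_c35)) :: (LG_f, (LK LD1_c6 LD2_c31 LD3_c13)) :: (LG_a, (LK LD1_c3 LD2_c14 LD3_c14)) :: (LG_c, (LK LD1_c17 LD2_c34 LD3_c48)) :: (LG_a, (LK LD1_c6 LD2_c41 LD3_c54)) :: (LG_g, (LK LD1_c9 LD2_c25 LD3_c15)) :: (LG_a, (LK LD1_c6 LD2_c37 LD3_c1)) :: (LG_g, (LK LD1_c17 LD2_c28 LD3_c58)) :: (LG_g, (LK LD1_c9 LD2_c28 LD3_c51)) :: (LG_g, (LK LD1_c6 LD2_c32 LD3_c45)) :: (LG_g, (LK LD1_c21 LD2_c45 LD3_c27)) :: (LG_g, (LK LD1_c12 LD2_c27 LD3_c8)) ::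 (LG_f, (LK LD1_c9 LD2_c32 LD3_c32)) :: (LG_a, (LK LD1_c12 LD2_c31 LD3_c0)) :: (LG_a, (LK LD1_c9 LD2_c29 LD3_c23)) :: (LG_g, (LK LD1_c4 LD2_c44 LD3_c22)) :: (LG_g, (LK LD1_c3 LD2_c45 LD3_c15)) :: (LG_b, (LK LD1_c12 LD2_c24 LD3_c15)) :: (LG_g, (LK LD1_c6 LD2_c34 LD3_c38)) :: (LG_c, (LK LD1_c20 LD2_c35 LD3_c17)) :: (LG_g, (LK LD1_c6 LD2_c32 LD3_c15)) :: (LG_g, (LK LD1_c6 LD2_c29 LD3_c12)) :: (LG_g, (LK LD1_c6 LD2_c50 LD3_c54)) :: (LG_c, (LK LD1_c12 LD2_c2 LD3_c40)) :: (LG_g, (LK LD1_c9 LD2_c23 LD3_c47)) :: (LG_g, (LK LD1_c17 LD2_c20 LD3_c42)) :: (LG_g, (LK LD1_c20 LD2_c28 LD3_c24)) :: (LG_d, (LK LD1_c6 LD2_c50 LD3_c43)) :: (LG_a, (LK LD1_c6 LD2_c32 LD3_c33)) :: (LG_f, (LK LD1_c6 LD2_c32 LD3_c33)) :: (LG_c, (LK LD1_c21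 LD2_c38 LD3_c46)) :: (LG_g, (LK LD1_c4 LD2_c46 LD3_c9)) :: (LG_a, (LK LD1_c9 LD2_c15 LD3_c51)) :: (LG_g, (LK LD1_c17 LD2_c19 LD3_c23)) :: (LG_g, (LK LD1_c27 LD2_c12 LD3_c21)) :: (LG_b, (LK LD1_c9 LD2_c24 LD3_c42)) :: (LG_c, (LK LD1_c20 LD2_c45 LD3_c13)) :: (LG_g, (LK LD1_c12 LD2_c11 LD3_c17)) :: (LG_g, (LK LD1_c17 LD2_c10 LD3_c56)) :: (LG_g, (LK LD1_c12 LD2_c32 LD3_c33)) :: (LG_d, (LK LD1_c27 LD2_c13 LD3_c39)) :: (LG_c, (LK LD1_c9 LD2_c16 LD3_c56)) :: (LG_d, (LK LD1_c12 LD2_c29 LD3_c59)) :: (LG_g, (LK LD1_c12 LD2_c39 LD3_c3)) :: (LG_c, (LK LD1_c13 LD2_c1 LD3_c8)) :: (LG_g, (LK LD1_c13 LD2_c1 LD3_c8)) :: (LG_g, (LK LD1_c17 LD2_c21 LD3_c5)) :: (LG_g, (LK LD1_c9 LD2_c30 LD3_c1)) :: (LG_g, (LK LD1_c20 LD2_c51 LD3_c32))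 :: (LG_g, (LK LD1_c6 LD2_c50 LD3_c43)) :: (LG_b, (LK LD1_c12 LD2_c28 LD3_c26)) :: (LG_g, (LK LD1_c21 LD2_c22 LD3_c57)) :: (LG_a, (LK LD1_c6 LD2_c43 LD3_c15)) :: (LG_f, (LK LD1_c6 LD2_c43 LD3_c15)) :: (LG_g, (LK LD1_c12 LD2_c11 LD3_c51)) :: (LG_g, (LK LD1_c13 LD2_c13 LD3_c31)) :: (LG_a, (LK LD1_c12 LD2_c18 LD3_c37)) :: (LG_g, (LK LD1_c9 LD2_c27 LD3_c11)) :: (LG_d, (LK LD1_c17 LD2_c27 LD3_c8)) :: (LG_d, (LK LD1_c17 LD2_c25 LD3_c54)) :: (LG_d, (LK LD1_c9 LD2_c20 LD3_c41)) :: (LG_c, (LK LD1_c21 LD2_c57 LD3_c10)) :: (LG_c, (LK LD1_c12 LD2_c52 LD3_c13)) :: (LG_g, (LK LD1_c12 LD2_c43 LD3_c57)) :: (LG_b, (LK LD1_c17 LD2_c10 LD3_c5)) :: (LG_f, (LK LD1_c12 LD2_c36 LD3_c43)) :: spt_14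
def spt_12 : List (Gen × Pt) := (LG_e, (LK LD1_c12 LD2_c22 LD3_c35)) :: (LG_g, (LK LD1_c5 LD2_c50 LD3_c10)) :: (LG_d, (LK LD1_c17 LD2_c58 LD3_c30)) :: (LG_g, (LK LD1_c16 LD2_c30 LD3_c53)) :: (LG_g, (LK LD1_c9 LD2_c29 LD3_c15)) :: (LG_c, (LK LD1_c27 LD2_c20 LD3_c42)) :: (LG_e, (LK LD1_c11 LD2_c48 LD3_c19)) :: (LG_d, (LK LD1_c17 LD2_c56 LD3_c6)) :: (LG_a, (LK LD1_c12 LD2_c59 LD3_c61)) :: (LG_a, (LK LD1_c12 LD2_c26 LD3_c32)) :: (LG_d, (LK LD1_c6 LD2_c27 LD3_c45)) :: (LG_c, (LK LD1_c27 LD2_c18 LD3_c14)) :: (LG_g, (LK LD1_c6 LD2_c28 LD3_c4)) :: (LG_g, (LK LD1_c6 LD2_c18 LD3_c51)) :: (LG_g, (LK LD1_c6 LD2_c29 LD3_c5)) :: (LG_d, (LK LD1_c9 LD2_c21 LD3_c28)) :: (LG_b, (LK LD1_c27 LD2_c2 LD3_c58)) :: (LG_g, (LK LD1_c6 LD2_c49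 LD3_c24)) :: (LG_g, (LK LD1_c27 LD2_c7 LD3_c13)) :: (LG_g, (LK LD1_c5 LD2_c52 LD3_c52)) :: (LG_g, (LK LD1_c12 LD2_c56 LD3_c30)) :: (LG_g, (LK LD1_c12 LD2_c4 LD3_c22)) :: (LG_c, (LK LD1_c14 LD2_c4 LD3_c29)) :: (LG_b, (LK LD1_c7 LD2_c20 LD3_c3)) :: (LG_d, (LK LD1_c9 LD2_c32 LD3_c32)) :: (LG_d, (LK LD1_c12 LD2_c32 LD3_c6)) :: (LG_g, (LK LD1_c6 LD2_c20 LD3_c30)) :: (LG_c, (LK LD1_c12 LD2_c32 LD3_c10)) :: (LG_g, (LK LD1_c12 LD2_c33 LD3_c10)) :: (LG_b, (LK LD1_c11 LD2_c26 LD3_c3)) :: (LG_b, (LK LD1_c14 LD2_c32 LD3_c58)) :: (LG_f, (LK LD1_c12 LD2_c33 LD3_c10)) :: (LG_c, (LK LD1_c12 LD2_c14 LD3_c32)) :: (LG_b, (LK LD1_c17 LD2_c16 LD3_c46)) :: (LG_d, (LK LD1_c22 LD2_c0 LD3_c15)) :: (LG_g, (LK LD1_c1 LD2_c38 LD3_c4)) :: (LG_g,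 (LK LD1_c6 LD2_c50 LD3_c10)) :: (LG_g, (LK LD1_c4 LD2_c44 LD3_c26)) :: (LG_g, (LK LD1_c3 LD2_c2 LD3_c20)) :: (LG_g, (LK LD1_c12 LD2_c41 LD3_c35)) :: (LG_b, (LK LD1_c6 LD2_c44 LD3_c39)) :: (LG_a, (LK LD1_c9 LD2_c29 LD3_c11)) :: (LG_f, (LK LD1_c9 LD2_c29 LD3_c11)) :: (LG_g, (LK LD1_c12 LD2_c41 LD3_c39)) :: (LG_b, (LK LD1_c4 LD2_c48 LD3_c14)) :: (LG_c, (LK LD1_c12 LD2_c42 LD3_c8)) :: (LG_a, (LK LD1_c6 LD2_c35 LD3_c29)) :: (LG_c, (LK LD1_c6 LD2_c35 LD3_c29)) :: (LG_c, (LK LD1_c6 LD2_c59 LD3_c27)) :: (LG_d, (LK LD1_c12 LD2_c37 LD3_c1)) :: (LG_c, (LK LD1_c6 LD2_c59 LD3_c26)) :: (LG_d, (LK LD1_c21 LD2_c43 LD3_c30)) :: (LG_g, (LK LD1_c12 LD2_c39 LD3_c58)) :: (LG_c, (LK LD1_c14 LD2_c12 LD3_c13)) :: (LG_c, (LK LD1_c12 LD2_c1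 LD3_c45)) :: (LG_c, (LK LD1_c17 LD2_c30 LD3_c40)) :: (LG_g, (LK LD1_c12 LD2_c35 LD3_c50)) :: (LG_d, (LK LD1_c12 LD2_c46 LD3_c27)) :: (LG_g, (LK LD1_c14 LD2_c12 LD3_c21)) :: (LG_d, (LK LD1_c6 LD2_c40 LD3_c57)) :: (LG_g, (LK LD1_c6 LD2_c34 LD3_c39)) :: (LG_b, (LK LD1_c6 LD2_c36 LD3_c34)) :: (LG_e, (LK LD1_c6 LD2_c23 LD3_c16)) :: (LG_g, (LK LD1_c3 LD2_c22 LD3_c39)) :: (LG_g, (LK LD1_c3 LD2_c11 LD3_c16)) :: (LG_a, (LK LD1_c4 LD2_c43 LD3_c25)) :: (LG_a, (LK LD1_c6 LD2_c26 LD3_c51)) :: (LG_g, (LK LD1_c6 LD2_c41 LD3_c60)) :: (LG_g, (LK LD1_c3 LD2_c39 LD3_c57)) :: (LG_g, (LK LD1_c12 LD2_c12 LD3_c29)) :: (LG_g, (LK LD1_c3 LD2_c42 LD3_c3)) :: (LG_f, (LK LD1_c4 LD2_c44 LD3_c39)) :: (LG_g, (LK LD1_c4 LD2_c40 LD3_c34)) :: (LG_g,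 (LK LD1_c6 LD2_c29 LD3_c53)) :: (LG_e, (LK LD1_c6 LD2_c29 LD3_c58)) :: (LG_d, (LK LD1_c6 LD2_c29 LD3_c61)) :: (LG_g, (LK LD1_c6 LD2_c27 LD3_c11)) :: (LG_d, (LK LD1_c6 LD2_c21 LD3_c35)) :: (LG_a, (LK LD1_c6 LD2_c29 LD3_c57)) :: (LG_b, (LK LD1_c9 LD2_c27 LD3_c7)) :: (LG_g, (LK LD1_c3 LD2_c22 LD3_c37)) :: (LG_g, (LK LD1_c6 LD2_c17 LD3_c17)) :: (LG_g, (LK LD1_c12 LD2_c18 LD3_c38)) :: (LG_g, (LK LD1_c21 LD2_c21 LD3_c36)) :: (LG_b, (LK LD1_c12 LD2_c15 LD3_c49)) :: (LG_a, (LK LD1_c9 LD2_c20 LD3_c42)) :: (LG_b, (LK LD1_c12 LD2_c13 LD3_c3)) :: (LG_d, (LK LD1_c17 LD2_c11 LD3_c10)) :: (LG_g, (LK LD1_c9 LD2_c16 LD3_c30)) :: (LG_b, (LK LD1_c9 LD2_c24 LD3_c21)) :: (LG_g, (LK LD1_c2 LD2_c21 LD3_c33)) :: (LG_g, (LK LD1_c3 LD2_c19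 LD3_c25)) :: (LG_g, (LK LD1_c2 LD2_c17 LD3_c19)) :: (LG_g, (LK LD1_c6 LD2_c32 LD3_c34)) :: (LG_g, (LK LD1_c6 LD2_c17 LD3_c35)) :: (LG_a, (LK LD1_c3 LD2_c20 LD3_c7)) :: (LG_c, (LK LD1_c12 LD2_c50 LD3_c12)) :: (LG_g, (LK LD1_c17 LD2_c19 LD3_c14)) :: (LG_a, (LK LD1_c17 LD2_c19 LD3_c14)) :: (LG_a, (LK LD1_c4 LD2_c45 LD3_c31)) :: spt_13
def spt_11 : List (Gen × Pt) := (LG_g, (LK LD1_c3 LD2_c16 LD3_c53)) :: (LG_g, (LK LD1_c6 LD2_c37 LD3_c17)) :: (LG_g, (LK LD1_c12 LD2_c2 LD3_c7)) :: (LG_a, (LK LD1_c6 LD2_c40 LD3_c20)) :: (LG_g, (LK LD1_c6 LD2_c34 LD3_c47)) :: (LG_g, (LK LD1_c3 LD2_c15 LD3_c42)) :: (LG_g, (LK LD1_c6 LD2_c36 LD3_c4)) :: (LG_d, (LK LD1_c7 LD2_c31 LD3_c46)) :: (LG_c, (LK LD1_c7 LD2_c31 LD3_c47)) :: (LG_g,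 (LK LD1_c12 LD2_c38 LD3_c16)) :: (LG_g, (LK LD1_c6 LD2_c35 LD3_c22)) :: (LG_c, (LK LD1_c12 LD2_c37 LD3_c10)) :: (LG_g, (LK LD1_c6 LD2_c34 LD3_c60)) :: (LG_c, (LK LD1_c14 LD2_c36 LD3_c8)) :: (LG_a, (LK LD1_c6 LD2_c40 LD3_c41)) :: (LG_a, (LK LD1_c12 LD2_c37 LD3_c11)) :: (LG_g, (LK LD1_c6 LD2_c40 LD3_c32)) :: (LG_g, (LK LD1_c12 LD2_c38 LD3_c21)) :: (LG_d, (LK LD1_c6 LD2_c40 LD3_c29)) :: (LG_f, (LK LD1_c6 LD2_c38 LD3_c34)) :: (LG_c, (LK LD1_c12 LD2_c40 LD3_c22)) :: (LG_g, (LK LD1_c12 LD2_c36 LD3_c42)) :: (LG_g, (LK LD1_c9 LD2_c6 LD3_c34)) :: (LG_d, (LK LD1_c29 LD2_c25 LD3_c45)) :: (LG_g, (LK LD1_c15 LD2_c4 LD3_c48)) :: (LG_g, (LK LD1_c6 LD2_c32 LD3_c7)) :: (LG_c, (LK LD1_c11 LD2_c27 LD3_c18)) :: (LG_g, (LK LD1_c11 LD2_c7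 LD3_c0)) :: (LG_g, (LK LD1_c9 LD2_c19 LD3_c5)) :: (LG_g, (LK LD1_c21 LD2_c27 LD3_c48)) :: (LG_f, (LK LD1_c11 LD2_c7 LD3_c0)) :: (LG_g, (LK LD1_c16 LD2_c59 LD3_c9)) :: (LG_e, (LK LD1_c8 LD2_c47 LD3_c57)) :: (LG_c, (LK LD1_c12 LD2_c8 LD3_c2)) :: (LG_g, (LK LD1_c22 LD2_c22 LD3_c41)) :: (LG_g, (LK LD1_c24 LD2_c46 LD3_c60)) :: (LG_e, (LK LD1_c12 LD2_c8 LD3_c7)) :: (LG_b, (LK LD1_c23 LD2_c57 LD3_c58)) :: (LG_b, (LK LD1_c8 LD2_c49 LD3_c48)) :: (LG_g, (LK LD1_c20 LD2_c50 LD3_c57)) :: (LG_g, (LK LD1_c20 LD2_c0 LD3_c17)) :: (LG_b, (LK LD1_c11 LD2_c31 LD3_c8)) :: (LG_c, (LK LD1_c11 LD2_c24 LD3_c27)) :: (LG_g, (LK LD1_c11 LD2_c31 LD3_c10)) :: (LG_g, (LK LD1_c24 LD2_c36 LD3_c27)) :: (LG_a, (LK LD1_c9 LD2_c18 LD3_c6)) :: (LG_d,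 (LK LD1_c17 LD2_c20 LD3_c27)) :: (LG_a, (LK LD1_c3 LD2_c5 LD3_c59)) :: (LG_a, (LK LD1_c2 LD2_c17 LD3_c26)) :: (LG_g, (LK LD1_c9 LD2_c24 LD3_c21)) :: (LG_a, (LK LD1_c2 LD2_c20 LD3_c59)) :: (LG_d, (LK LD1_c21 LD2_c56 LD3_c44)) :: (LG_c, (LK LD1_c30 LD2_c12 LD3_c55)) :: (LG_d, (LK LD1_c17 LD2_c11 LD3_c45)) :: (LG_d, (LK LD1_c17 LD2_c11 LD3_c53)) :: (LG_a, (LK LD1_c6 LD2_c30 LD3_c30)) :: (LG_a, (LK LD1_c6 LD2_c28 LD3_c34)) :: (LG_a, (LK LD1_c6 LD2_c29 LD3_c19)) :: (LG_a, (LK LD1_c6 LD2_c23 LD3_c16)) :: (LG_d, (LK LD1_c12 LD2_c20 LD3_c0)) :: (LG_g, (LK LD1_c12 LD2_c14 LD3_c28)) :: (LG_b, (LK LD1_c6 LD2_c20 LD3_c44)) :: (LG_g, (LK LD1_c12 LD2_c15 LD3_c44)) :: (LG_g, (LK LD1_c6 LD2_c12 LD3_c56)) :: (LG_c, (LK LD1_c12 LD2_c58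 LD3_c26)) :: (LG_f, (LK LD1_c17 LD2_c34 LD3_c58)) :: (LG_g, (LK LD1_c4 LD2_c43 LD3_c13)) :: (LG_b, (LK LD1_c4 LD2_c43 LD3_c61)) :: (LG_g, (LK LD1_c6 LD2_c12 LD3_c53)) :: (LG_g, (LK LD1_c1 LD2_c37 LD3_c16)) :: (LG_g, (LK LD1_c12 LD2_c12 LD3_c4)) :: (LG_g, (LK LD1_c13 LD2_c52 LD3_c22)) :: (LG_f, (LK LD1_c7 LD2_c20 LD3_c5)) :: (LG_a, (LK LD1_c1 LD2_c35 LD3_c48)) :: (LG_b, (LK LD1_c6 LD2_c35 LD3_c7)) :: (LG_g, (LK LD1_c14 LD2_c14 LD3_c18)) :: (LG_g, (LK LD1_c21 LD2_c36 LD3_c50)) :: (LG_g, (LK LD1_c12 LD2_c1 LD3_c24)) :: (LG_g, (LK LD1_c6 LD2_c28 LD3_c16)) :: (LG_g, (LK LD1_c12 LD2_c16 LD3_c3)) :: (LG_g, (LK LD1_c12 LD2_c26 LD3_c52)) :: (LG_g, (LK LD1_c12 LD2_c16 LD3_c11)) :: (LG_g, (LK LD1_c13 LD2_c52 LD3_c24)) :: (LG_a,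 (LK LD1_c9 LD2_c21 LD3_c45)) :: (LG_c, (LK LD1_c12 LD2_c20 LD3_c0)) :: (LG_a, (LK LD1_c6 LD2_c49 LD3_c17)) :: (LG_c, (LK LD1_c9 LD2_c20 LD3_c49)) :: (LG_b, (LK LD1_c6 LD2_c49 LD3_c17)) :: (LG_g, (LK LD1_c6 LD2_c49 LD3_c47)) :: (LG_c, (LK LD1_c7 LD2_c0 LD3_c59)) :: (LG_b, (LK LD1_c9 LD2_c11 LD3_c2)) :: (LG_a, (LK LD1_c12 LD2_c16 LD3_c12)) :: (LG_g, (LK LD1_c9 LD2_c32 LD3_c18)) :: (LG_b, (LK LD1_c6 LD2_c20 LD3_c36)) :: (LG_c, (LK LD1_c27 LD2_c19 LD3_c30)) :: (LG_g, (LK LD1_c8 LD2_c0 LD3_c47)) :: (LG_f, (LK LD1_c12 LD2_c19 LD3_c2)) :: (LG_f, (LK LD1_c12 LD2_c19 LD3_c61)) :: (LG_c, (LK LD1_c12 LD2_c20 LD3_c25)) :: (LG_g, (LK LD1_c12 LD2_c20 LD3_c53)) :: spt_12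
def spt_10 : List (Gen × Pt) := (LG_b, (LK LD1_c6 LD2_c44 LD3_c57)) :: (LG_g, (LK LD1_c6 LD2_c10 LD3_c52)) :: (LG_a, (LK LD1_c9 LD2_c48 LD3_c15)) :: (LG_g, (LK LD1_c20 LD2_c41 LD3_c22)) :: (LG_c, (LK LD1_c27 LD2_c21 LD3_c48)) :: (LG_g, (LK LD1_c11 LD2_c40 LD3_c22)) :: (LG_g, (LK LD1_c10 LD2_c18 LD3_c48)) :: (LG_c, (LK LD1_c9 LD2_c59 LD3_c9)) :: (LG_c, (LK LD1_c9 LD2_c59 LD3_c8)) :: (LG_c, (LK LD1_c10 LD2_c7 LD3_c10)) :: (LG_c, (LK LD1_c20 LD2_c27 LD3_c42)) :: (LG_d, (LK LD1_c11 LD2_c39 LD3_c54)) :: (LG_d, (LK LD1_c21 LD2_c3 LD3_c43)) :: (LG_g, (LK LD1_c11 LD2_c26 LD3_c24)) :: (LG_d, (LK LD1_c17 LD2_c32 LD3_c40)) :: (LG_g, (LK LD1_c6 LD2_c0 LD3_c56)) :: (LG_g, (LK LD1_c11 LD2_c46 LD3_c13)) :: (LG_g, (LK LD1_c6 LD2_c0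 LD3_c57)) :: (LG_g, (LK LD1_c20 LD2_c44 LD3_c31)) :: (LG_g, (LK LD1_c15 LD2_c5 LD3_c7)) :: (LG_g, (LK LD1_c11 LD2_c18 LD3_c60)) :: (LG_g, (LK LD1_c5 LD2_c55 LD3_c17)) :: (LG_d, (LK LD1_c20 LD2_c43 LD3_c41)) :: (LG_c, (LK LD1_c16 LD2_c57 LD3_c29)) :: (LG_g, (LK LD1_c9 LD2_c13 LD3_c31)) :: (LG_d, (LK LD1_c12 LD2_c39 LD3_c5)) :: (LG_a, (LK LD1_c9 LD2_c11 LD3_c11)) :: (LG_g, (LK LD1_c11 LD2_c48 LD3_c19)) :: (LG_g, (LK LD1_c6 LD2_c1 LD3_c57)) :: (LG_g, (LK LD1_c11 LD2_c48 LD3_c21)) :: (LG_f, (LK LD1_c12 LD2_c25 LD3_c1)) :: (LG_g, (LK LD1_c9 LD2_c11 LD3_c13)) :: (LG_g, (LK LD1_c5 LD2_c59 LD3_c58)) :: (LG_g, (LK LD1_c9 LD2_c5 LD3_c34)) :: (LG_c, (LK LD1_c17 LD2_c31 LD3_c43)) :: (LG_b, (LK LD1_c11 LD2_c22 LD3_c10)) :: (LG_g,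 (LK LD1_c11 LD2_c48 LD3_c27)) :: (LG_c, (LK LD1_c21 LD2_c32 LD3_c38)) :: (LG_g, (LK LD1_c10 LD2_c17 LD3_c27)) :: (LG_g, (LK LD1_c17 LD2_c8 LD3_c22)) :: (LG_d, (LK LD1_c11 LD2_c22 LD3_c8)) :: (LG_c, (LK LD1_c5 LD2_c34 LD3_c43)) :: (LG_c, (LK LD1_c5 LD2_c34 LD3_c42)) :: (LG_b, (LK LD1_c20 LD2_c18 LD3_c38)) :: (LG_g, (LK LD1_c5 LD2_c41 LD3_c10)) :: (LG_b, (LK LD1_c23 LD2_c24 LD3_c42)) :: (LG_e, (LK LD1_c6 LD2_c3 LD3_c34)) :: (LG_a, (LK LD1_c11 LD2_c12 LD3_c31)) :: (LG_c, (LK LD1_c25 LD2_c24 LD3_c57)) :: (LG_d, (LK LD1_c18 LD2_c41 LD3_c55)) :: (LG_c, (LK LD1_c21 LD2_c1 LD3_c49)) :: (LG_g, (LK LD1_c10 LD2_c44 LD3_c52)) :: (LG_c, (LK LD1_c19 LD2_c25 LD3_c58)) :: (LG_c, (LK LD1_c19 LD2_c25 LD3_c17)) :: (LG_g, (LK LD1_c11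 LD2_c56 LD3_c26)) :: (LG_b, (LK LD1_c6 LD2_c8 LD3_c11)) :: (LG_a, (LK LD1_c5 LD2_c27 LD3_c22)) :: (LG_g, (LK LD1_c11 LD2_c57 LD3_c15)) :: (LG_c, (LK LD1_c19 LD2_c23 LD3_c56)) :: (LG_e, (LK LD1_c11 LD2_c40 LD3_c21)) :: (LG_g, (LK LD1_c6 LD2_c8 LD3_c5)) :: (LG_e, (LK LD1_c10 LD2_c4 LD3_c45)) :: (LG_g, (LK LD1_c11 LD2_c18 LD3_c59)) :: (LG_g, (LK LD1_c9 LD2_c4 LD3_c45)) :: (LG_c, (LK LD1_c8 LD2_c12 LD3_c3)) :: (LG_a, (LK LD1_c10 LD2_c18 LD3_c32)) :: (LG_b, (LK LD1_c11 LD2_c40 LD3_c23)) :: (LG_b, (LK LD1_c8 LD2_c12 LD3_c2)) :: (LG_g, (LK LD1_c18 LD2_c26 LD3_c22)) :: (LG_g, (LK LD1_c28 LD2_c48 LD3_c36)) :: (LG_g, (LK LD1_c10 LD2_c17 LD3_c18)) :: (LG_g, (LK LD1_c17 LD2_c3 LD3_c28)) :: (LG_g, (LK LD1_c9 LD2_c15 LD3_c34))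 :: (LG_g, (LK LD1_c6 LD2_c8 LD3_c48)) :: (LG_g, (LK LD1_c11 LD2_c29 LD3_c51)) :: (LG_g, (LK LD1_c20 LD2_c50 LD3_c50)) :: (LG_g, (LK LD1_c9 LD2_c7 LD3_c32)) :: (LG_d, (LK LD1_c17 LD2_c33 LD3_c33)) :: (LG_a, (LK LD1_c11 LD2_c38 LD3_c25)) :: (LG_b, (LK LD1_c5 LD2_c50 LD3_c46)) :: (LG_g, (LK LD1_c10 LD2_c3 LD3_c61)) :: (LG_a, (LK LD1_c10 LD2_c3 LD3_c61)) :: (LG_b, (LK LD1_c11 LD2_c31 LD3_c15)) :: (LG_c, (LK LD1_c11 LD2_c14 LD3_c57)) :: (LG_c, (LK LD1_c28 LD2_c13 LD3_c57)) :: (LG_c, (LK LD1_c10 LD2_c13 LD3_c25)) :: (LG_c, (LK LD1_c21 LD2_c2 LD3_c46)) :: (LG_g, (LK LD1_c11 LD2_c36 LD3_c14)) :: (LG_a, (LK LD1_c6 LD2_c36 LD3_c6)) :: (LG_g, (LK LD1_c21 LD2_c43 LD3_c29)) :: (LG_g, (LK LD1_c6 LD2_c11 LD3_c42)) :: (LG_e, (LK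 LD1_c6 LD2_c37 LD3_c61)) :: (LG_g, (LK LD1_c21 LD2_c43 LD3_c27)) :: (LG_g, (LK LD1_c3 LD2_c45 LD3_c6)) :: (LG_g, (LK LD1_c3 LD2_c21 LD3_c59)) :: (LG_g, (LK LD1_c3 LD2_c16 LD3_c39)) :: (LG_g, (LK LD1_c4 LD2_c50 LD3_c7)) :: (LG_b, (LK LD1_c12 LD2_c26 LD3_c32)) :: (LG_g, (LK LD1_c6 LD2_c33 LD3_c46)) :: (LG_e, (LK LD1_c12 LD2_c21 LD3_c21)) :: spt_11
def spt_9 : List (Gen × Pt) := (LG_b, (LK LD1_c10 LD2_c52 LD3_c12)) :: (LG_c, (LK LD1_c19 LD2_c47 LD3_c0)) :: (LG_b, (LK LD1_c16 LD2_c43 LD3_c7)) :: (LG_e, (LK LD1_c11 LD2_c11 LD3_c16)) :: (LG_a, (LK LD1_c4 LD2_c31 LD3_c46)) :: (LG_f, (LK LD1_c6 LD2_c7 LD3_c10)) :: (LG_a, (LK LD1_c9 LD2_c5 LD3_c26)) :: (LG_g, (LK LD1_c5 LD2_c40 LD3_c48)) :: (LG_g, (LK LD1_c11 LD2_c11 LD3_c60))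 :: (LG_g, (LK LD1_c5 LD2_c40 LD3_c15)) :: (LG_f, (LK LD1_c11 LD2_c13 LD3_c47)) :: (LG_g, (LK LD1_c16 LD2_c53 LD3_c52)) :: (LG_d, (LK LD1_c29 LD2_c19 LD3_c35)) :: (LG_c, (LK LD1_c5 LD2_c42 LD3_c18)) :: (LG_g, (LK LD1_c11 LD2_c16 LD3_c28)) :: (LG_g, (LK LD1_c11 LD2_c16 LD3_c44)) :: (LG_d, (LK LD1_c11 LD2_c20 LD3_c17)) :: (LG_g, (LK LD1_c20 LD2_c13 LD3_c3)) :: (LG_a, (LK LD1_c4 LD2_c18 LD3_c20)) :: (LG_f, (LK LD1_c16 LD2_c6 LD3_c46)) :: (LG_d, (LK LD1_c20 LD2_c16 LD3_c41)) :: (LG_b, (LK LD1_c20 LD2_c7 LD3_c10)) :: (LG_g, (LK LD1_c12 LD2_c54 LD3_c3)) :: (LG_g, (LK LD1_c9 LD2_c50 LD3_c26)) :: (LG_g, (LK LD1_c3 LD2_c59 LD3_c56)) :: (LG_g, (LK LD1_c11 LD2_c47 LD3_c6)) :: (LG_c, (LK LD1_c9 LD2_c56 LD3_c14)) :: (LG_a, (LK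 LD1_c5 LD2_c47 LD3_c39)) :: (LG_g, (LK LD1_c9 LD2_c12 LD3_c20)) :: (LG_g, (LK LD1_c9 LD2_c8 LD3_c39)) :: (LG_g, (LK LD1_c17 LD2_c1 LD3_c55)) :: (LG_e, (LK LD1_c11 LD2_c21 LD3_c10)) :: (LG_g, (LK LD1_c5 LD2_c45 LD3_c34)) :: (LG_a, (LK LD1_c5 LD2_c41 LD3_c10)) :: (LG_a, (LK LD1_c9 LD2_c2 LD3_c54)) :: (LG_a, (LK LD1_c4 LD2_c33 LD3_c35)) :: (LG_f, (LK LD1_c15 LD2_c26 LD3_c9)) :: (LG_g, (LK LD1_c5 LD2_c46 LD3_c16)) :: (LG_g, (LK LD1_c10 LD2_c3 LD3_c1)) :: (LG_d, (LK LD1_c21 LD2_c36 LD3_c42)) :: (LG_g, (LK LD1_c5 LD2_c50 LD3_c41)) :: (LG_g, (LK LD1_c6 LD2_c1 LD3_c52)) :: (LG_g, (LK LD1_c17 LD2_c31 LD3_c27)) :: (LG_e, (LK LD1_c12 LD2_c55 LD3_c38)) :: (LG_g, (LK LD1_c5 LD2_c48 LD3_c32)) :: (LG_g, (LK LD1_c11 LD2_c26 LD3_c25))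 :: (LG_b, (LK LD1_c11 LD2_c30 LD3_c21)) :: (LG_b, (LK LD1_c12 LD2_c53 LD3_c40)) :: (LG_a, (LK LD1_c10 LD2_c5 LD3_c61)) :: (LG_d, (LK LD1_c23 LD2_c20 LD3_c37)) :: (LG_g, (LK LD1_c11 LD2_c25 LD3_c23)) :: (LG_f, (LK LD1_c11 LD2_c43 LD3_c44)) :: (LG_b, (LK LD1_c11 LD2_c20 LD3_c5)) :: (LG_g, (LK LD1_c12 LD2_c27 LD3_c36)) :: (LG_g, (LK LD1_c6 LD2_c1 LD3_c8)) :: (LG_g, (LK LD1_c11 LD2_c42 LD3_c0)) :: (LG_g, (LK LD1_c14 LD2_c35 LD3_c27)) :: (LG_g, (LK LD1_c24 LD2_c18 LD3_c42)) :: (LG_g, (LK LD1_c17 LD2_c34 LD3_c7)) :: (LG_g, (LK LD1_c7 LD2_c42 LD3_c8)) :: (LG_g, (LK LD1_c11 LD2_c30 LD3_c18)) :: (LG_a, (LK LD1_c6 LD2_c47 LD3_c21)) :: (LG_c, (LK LD1_c9 LD2_c7 LD3_c27)) :: (LG_e, (LK LD1_c9 LD2_c32 LD3_c15)) :: (LG_g, (LK LD1_c11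 LD2_c57 LD3_c33)) :: (LG_d, (LK LD1_c11 LD2_c51 LD3_c56)) :: (LG_g, (LK LD1_c11 LD2_c30 LD3_c42)) :: (LG_g, (LK LD1_c10 LD2_c18 LD3_c13)) :: (LG_b, (LK LD1_c11 LD2_c29 LD3_c10)) :: (LG_g, (LK LD1_c14 LD2_c4 LD3_c47)) :: (LG_e, (LK LD1_c9 LD2_c50 LD3_c55)) :: (LG_b, (LK LD1_c16 LD2_c57 LD3_c36)) :: (LG_g, (LK LD1_c11 LD2_c17 LD3_c49)) :: (LG_c, (LK LD1_c12 LD2_c25 LD3_c40)) :: (LG_b, (LK LD1_c23 LD2_c4 LD3_c46)) :: (LG_g, (LK LD1_c13 LD2_c10 LD3_c9)) :: (LG_g, (LK LD1_c11 LD2_c38 LD3_c19)) :: (LG_g, (LK LD1_c11 LD2_c16 LD3_c31)) :: (LG_g, (LK LD1_c11 LD2_c28 LD3_c61)) :: (LG_a, (LK LD1_c9 LD2_c50 LD3_c55)) :: (LG_a, (LK LD1_c5 LD2_c52 LD3_c4)) :: (LG_a, (LK LD1_c9 LD2_c5 LD3_c37)) :: (LG_g, (LK LD1_c9 LD2_c10 LD3_c23))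 :: (LG_g, (LK LD1_c12 LD2_c56 LD3_c43)) :: (LG_f, (LK LD1_c11 LD2_c31 LD3_c50)) :: (LG_g, (LK LD1_c14 LD2_c4 LD3_c58)) :: (LG_a, (LK LD1_c17 LD2_c7 LD3_c53)) :: (LG_g, (LK LD1_c12 LD2_c53 LD3_c16)) :: (LG_g, (LK LD1_c11 LD2_c33 LD3_c50)) :: (LG_g, (LK LD1_c10 LD2_c4 LD3_c0)) :: (LG_g, (LK LD1_c5 LD2_c55 LD3_c21)) :: (LG_g, (LK LD1_c11 LD2_c47 LD3_c5)) :: (LG_b, (LK LD1_c11 LD2_c36 LD3_c2)) :: (LG_a, (LK LD1_c12 LD2_c3 LD3_c34)) :: (LG_g, (LK LD1_c3 LD2_c20 LD3_c36)) :: (LG_g, (LK LD1_c12 LD2_c54 LD3_c19)) :: (LG_b, (LK LD1_c11 LD2_c25 LD3_c15)) :: (LG_b, (LK LD1_c9 LD2_c18 LD3_c6)) :: (LG_a, (LK LD1_c5 LD2_c58 LD3_c54)) :: (LG_c, (LK LD1_c20 LD2_c38 LD3_c20)) :: spt_10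
def spt_8 : List (Gen × Pt) := (LG_c, (LK LD1_c19 LD2_c4 LD3_c33)) :: (LG_g, (LK LD1_c5 LD2_c52 LD3_c27)) :: (LG_e, (LK LD1_c11 LD2_c30 LD3_c55)) :: (LG_g, (LK LD1_c10 LD2_c19 LD3_c3)) :: (LG_g, (LK LD1_c12 LD2_c17 LD3_c5)) :: (LG_d, (LK LD1_c11 LD2_c30 LD3_c59)) :: (LG_g, (LK LD1_c5 LD2_c48 LD3_c60)) :: (LG_d, (LK LD1_c26 LD2_c30 LD3_c28)) :: (LG_g, (LK LD1_c9 LD2_c50 LD3_c15)) :: (LG_b, (LK LD1_c17 LD2_c4 LD3_c24)) :: (LG_g, (LK LD1_c9 LD2_c50 LD3_c18)) :: (LG_g, (LK LD1_c9 LD2_c49 LD3_c10)) :: (LG_f, (LK LD1_c6 LD2_c25 LD3_c22)) :: (LG_e, (LK LD1_c11 LD2_c31 LD3_c29)) :: (LG_d, (LK LD1_c11 LD2_c39 LD3_c55)) :: (LG_g, (LK LD1_c4 LD2_c59 LD3_c60)) :: (LG_g, (LK LD1_c9 LD2_c50 LD3_c22)) :: (LG_g, (LK LD1_c6 LD2_c46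 LD3_c45)) :: (LG_g, (LK LD1_c7 LD2_c59 LD3_c48)) :: (LG_g, (LK LD1_c4 LD2_c35 LD3_c50)) :: (LG_c, (LK LD1_c9 LD2_c12 LD3_c12)) :: (LG_g, (LK LD1_c5 LD2_c48 LD3_c20)) :: (LG_f, (LK LD1_c15 LD2_c5 LD3_c35)) :: (LG_d, (LK LD1_c20 LD2_c27 LD3_c33)) :: (LG_g, (LK LD1_c12 LD2_c29 LD3_c47)) :: (LG_c, (LK LD1_c25 LD2_c3 LD3_c32)) :: (LG_d, (LK LD1_c27 LD2_c49 LD3_c5)) :: (LG_b, (LK LD1_c18 LD2_c39 LD3_c45)) :: (LG_c, (LK LD1_c27 LD2_c55 LD3_c42)) :: (LG_g, (LK LD1_c5 LD2_c11 LD3_c14)) :: (LG_e, (LK LD1_c10 LD2_c2 LD3_c46)) :: (LG_f, (LK LD1_c11 LD2_c57 LD3_c51)) :: (LG_b, (LK LD1_c10 LD2_c4 LD3_c42)) :: (LG_f, (LK LD1_c18 LD2_c43 LD3_c2)) :: (LG_g, (LK LD1_c10 LD2_c4 LD3_c53)) :: (LG_g, (LK LD1_c10 LD2_c6 LD3_c50)) :: (LG_d,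 (LK LD1_c10 LD2_c7 LD3_c14)) :: (LG_g, (LK LD1_c18 LD2_c42 LD3_c45)) :: (LG_g, (LK LD1_c8 LD2_c58 LD3_c33)) :: (LG_g, (LK LD1_c26 LD2_c7 LD3_c25)) :: (LG_f, (LK LD1_c9 LD2_c15 LD3_c12)) :: (LG_c, (LK LD1_c9 LD2_c56 LD3_c13)) :: (LG_g, (LK LD1_c5 LD2_c10 LD3_c42)) :: (LG_g, (LK LD1_c12 LD2_c9 LD3_c52)) :: (LG_g, (LK LD1_c5 LD2_c14 LD3_c48)) :: (LG_d, (LK LD1_c10 LD2_c7 LD3_c12)) :: (LG_f, (LK LD1_c11 LD2_c27 LD3_c19)) :: (LG_c, (LK LD1_c29 LD2_c48 LD3_c0)) :: (LG_g, (LK LD1_c10 LD2_c21 LD3_c40)) :: (LG_g, (LK LD1_c18 LD2_c7 LD3_c14)) :: (LG_g, (LK LD1_c10 LD2_c21 LD3_c44)) :: (LG_g, (LK LD1_c9 LD2_c59 LD3_c59)) :: (LG_c, (LK LD1_c9 LD2_c59 LD3_c59)) :: (LG_d, (LK LD1_c18 LD2_c16 LD3_c51)) :: (LG_d, (LK LD1_c28 LD2_c37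 LD3_c55)) :: (LG_f, (LK LD1_c10 LD2_c33 LD3_c17)) :: (LG_g, (LK LD1_c10 LD2_c39 LD3_c7)) :: (LG_g, (LK LD1_c11 LD2_c54 LD3_c51)) :: (LG_d, (LK LD1_c5 LD2_c26 LD3_c30)) :: (LG_g, (LK LD1_c19 LD2_c23 LD3_c26)) :: (LG_c, (LK LD1_c21 LD2_c0 LD3_c49)) :: (LG_g, (LK LD1_c10 LD2_c47 LD3_c22)) :: (LG_a, (LK LD1_c8 LD2_c59 LD3_c45)) :: (LG_c, (LK LD1_c10 LD2_c0 LD3_c29)) :: (LG_c, (LK LD1_c10 LD2_c14 LD3_c26)) :: (LG_b, (LK LD1_c20 LD2_c5 LD3_c58)) :: (LG_c, (LK LD1_c6 LD2_c11 LD3_c55)) :: (LG_c, (LK LD1_c20 LD2_c6 LD3_c43)) :: (LG_f, (LK LD1_c10 LD2_c48 LD3_c56)) :: (LG_g, (LK LD1_c10 LD2_c3 LD3_c4)) :: (LG_c, (LK LD1_c19 LD2_c52 LD3_c60)) :: (LG_b, (LK LD1_c11 LD2_c9 LD3_c9)) :: (LG_g, (LK LD1_c11 LD2_c10 LD3_c36)) :: (LG_a,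 (LK LD1_c8 LD2_c54 LD3_c11)) :: (LG_c, (LK LD1_c11 LD2_c6 LD3_c42)) :: (LG_c, (LK LD1_c9 LD2_c57 LD3_c14)) :: (LG_c, (LK LD1_c9 LD2_c57 LD3_c13)) :: (LG_g, (LK LD1_c10 LD2_c3 LD3_c0)) :: (LG_g, (LK LD1_c20 LD2_c58 LD3_c50)) :: (LG_a, (LK LD1_c10 LD2_c41 LD3_c19)) :: (LG_d, (LK LD1_c25 LD2_c35 LD3_c35)) :: (LG_g, (LK LD1_c10 LD2_c57 LD3_c4)) :: (LG_c, (LK LD1_c10 LD2_c53 LD3_c4)) :: (LG_g, (LK LD1_c11 LD2_c14 LD3_c0)) :: (LG_c, (LK LD1_c10 LD2_c14 LD3_c27)) :: (LG_c, (LK LD1_c10 LD2_c0 LD3_c28)) :: (LG_g, (LK LD1_c10 LD2_c58 LD3_c46)) :: (LG_g, (LK LD1_c16 LD2_c45 LD3_c30)) :: (LG_b, (LK LD1_c10 LD2_c56 LD3_c56)) :: (LG_g, (LK LD1_c5 LD2_c34 LD3_c26)) :: (LG_a, (LK LD1_c9 LD2_c41 LD3_c4)) :: (LG_f, (LK LD1_c8 LD2_c28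 LD3_c6)) :: (LG_f, (LK LD1_c11 LD2_c49 LD3_c31)) :: (LG_c, (LK LD1_c11 LD2_c26 LD3_c2)) :: (LG_c, (LK LD1_c20 LD2_c6 LD3_c14)) :: (LG_g, (LK LD1_c5 LD2_c38 LD3_c33)) :: (LG_g, (LK LD1_c10 LD2_c18 LD3_c43)) :: (LG_g, (LK LD1_c11 LD2_c7 LD3_c26)) :: (LG_d, (LK LD1_c12 LD2_c57 LD3_c57)) :: (LG_a, (LK LD1_c26 LD2_c53 LD3_c41)) :: spt_9
def spt_7 : List (Gen × Pt) := (LG_g, (LK LD1_c9 LD2_c31 LD3_c20)) :: (LG_c, (LK LD1_c6 LD2_c50 LD3_c31)) :: (LG_f, (LK LD1_c12 LD2_c56 LD3_c25)) :: (LG_g, (LK LD1_c12 LD2_c31 LD3_c15)) :: (LG_d, (LK LD1_c6 LD2_c46 LD3_c33)) :: (LG_d, (LK LD1_c22 LD2_c4 LD3_c30)) :: (LG_d, (LK LD1_c9 LD2_c31 LD3_c36)) :: (LG_a, (LK LD1_c6 LD2_c32 LD3_c42)) :: (LG_a, (LK LD1_c3 LD2_c6 LD3_c42)) :: (LG_f,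 (LK LD1_c6 LD2_c19 LD3_c54)) :: (LG_g, (LK LD1_c2 LD2_c19 LD3_c15)) :: (LG_g, (LK LD1_c4 LD2_c44 LD3_c35)) :: (LG_g, (LK LD1_c9 LD2_c27 LD3_c61)) :: (LG_f, (LK LD1_c3 LD2_c7 LD3_c55)) :: (LG_a, (LK LD1_c3 LD2_c12 LD3_c5)) :: (LG_f, (LK LD1_c1 LD2_c30 LD3_c7)) :: (LG_f, (LK LD1_c6 LD2_c29 LD3_c13)) :: (LG_g, (LK LD1_c3 LD2_c7 LD3_c55)) :: (LG_g, (LK LD1_c3 LD2_c12 LD3_c34)) :: (LG_a, (LK LD1_c6 LD2_c29 LD3_c7)) :: (LG_g, (LK LD1_c0 LD2_c44 LD3_c56)) :: (LG_g, (LK LD1_c3 LD2_c15 LD3_c15)) :: (LG_g, (LK LD1_c3 LD2_c24 LD3_c13)) :: (LG_b, (LK LD1_c6 LD2_c20 LD3_c58)) :: (LG_g, (LK LD1_c12 LD2_c15 LD3_c42)) :: (LG_d, (LK LD1_c2 LD2_c20 LD3_c10)) :: (LG_a, (LK LD1_c6 LD2_c32 LD3_c59)) :: (LG_c, (LK LD1_c6 LD2_c28 LD3_c17))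 :: (LG_a, (LK LD1_c6 LD2_c28 LD3_c18)) :: (LG_g, (LK LD1_c9 LD2_c16 LD3_c10)) :: (LG_c, (LK LD1_c12 LD2_c14 LD3_c13)) :: (LG_g, (LK LD1_c6 LD2_c33 LD3_c21)) :: (LG_g, (LK LD1_c22 LD2_c6 LD3_c39)) :: (LG_g, (LK LD1_c6 LD2_c43 LD3_c45)) :: (LG_g, (LK LD1_c12 LD2_c28 LD3_c36)) :: (LG_b, (LK LD1_c6 LD2_c9 LD3_c51)) :: (LG_g, (LK LD1_c6 LD2_c29 LD3_c46)) :: (LG_g, (LK LD1_c6 LD2_c29 LD3_c47)) :: (LG_c, (LK LD1_c21 LD2_c18 LD3_c53)) :: (LG_g, (LK LD1_c12 LD2_c13 LD3_c0)) :: (LG_g, (LK LD1_c6 LD2_c18 LD3_c34)) :: (LG_c, (LK LD1_c6 LD2_c19 LD3_c9)) :: (LG_f, (LK LD1_c9 LD2_c17 LD3_c36)) :: (LG_a, (LK LD1_c4 LD2_c47 LD3_c45)) :: (LG_a, (LK LD1_c6 LD2_c43 LD3_c45)) :: (LG_f, (LK LD1_c6 LD2_c43 LD3_c45)) :: (LG_g, (LK LD1_c12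 LD2_c57 LD3_c29)) :: (LG_a, (LK LD1_c6 LD2_c43 LD3_c40)) :: (LG_a, (LK LD1_c6 LD2_c29 LD3_c36)) :: (LG_d, (LK LD1_c9 LD2_c27 LD3_c18)) :: (LG_g, (LK LD1_c14 LD2_c35 LD3_c25)) :: (LG_c, (LK LD1_c5 LD2_c8 LD3_c15)) :: (LG_g, (LK LD1_c24 LD2_c53 LD3_c37)) :: (LG_d, (LK LD1_c17 LD2_c23 LD3_c30)) :: (LG_c, (LK LD1_c16 LD2_c30 LD3_c53)) :: (LG_g, (LK LD1_c20 LD2_c22 LD3_c41)) :: (LG_g, (LK LD1_c27 LD2_c12 LD3_c30)) :: (LG_g, (LK LD1_c9 LD2_c13 LD3_c28)) :: (LG_c, (LK LD1_c7 LD2_c41 LD3_c12)) :: (LG_f, (LK LD1_c7 LD2_c41 LD3_c12)) :: (LG_c, (LK LD1_c7 LD2_c34 LD3_c58)) :: (LG_c, (LK LD1_c12 LD2_c14 LD3_c34)) :: (LG_g, (LK LD1_c9 LD2_c11 LD3_c16)) :: (LG_g, (LK LD1_c18 LD2_c25 LD3_c13)) :: (LG_g, (LK LD1_c4 LD2_c34 LD3_c28))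 :: (LG_b, (LK LD1_c11 LD2_c40 LD3_c10)) :: (LG_g, (LK LD1_c11 LD2_c49 LD3_c21)) :: (LG_g, (LK LD1_c12 LD2_c28 LD3_c11)) :: (LG_c, (LK LD1_c5 LD2_c33 LD3_c19)) :: (LG_g, (LK LD1_c11 LD2_c2 LD3_c0)) :: (LG_f, (LK LD1_c10 LD2_c14 LD3_c22)) :: (LG_c, (LK LD1_c5 LD2_c8 LD3_c14)) :: (LG_c, (LK LD1_c12 LD2_c1 LD3_c59)) :: (LG_g, (LK LD1_c9 LD2_c6 LD3_c44)) :: (LG_f, (LK LD1_c16 LD2_c52 LD3_c47)) :: (LG_a, (LK LD1_c11 LD2_c34 LD3_c58)) :: (LG_g, (LK LD1_c9 LD2_c5 LD3_c55)) :: (LG_b, (LK LD1_c9 LD2_c12 LD3_c28)) :: (LG_g, (LK LD1_c9 LD2_c12 LD3_c12)) :: (LG_g, (LK LD1_c22 LD2_c11 LD3_c55)) :: (LG_d, (LK LD1_c17 LD2_c34 LD3_c27)) :: (LG_g, (LK LD1_c9 LD2_c32 LD3_c17)) :: (LG_g, (LK LD1_c12 LD2_c2 LD3_c26)) :: (LG_g, (LK LD1_c13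 LD2_c2 LD3_c31)) :: (LG_c, (LK LD1_c17 LD2_c10 LD3_c41)) :: (LG_c, (LK LD1_c6 LD2_c20 LD3_c40)) :: (LG_d, (LK LD1_c17 LD2_c17 LD3_c35)) :: (LG_c, (LK LD1_c12 LD2_c16 LD3_c4)) :: (LG_c, (LK LD1_c6 LD2_c39 LD3_c41)) :: (LG_d, (LK LD1_c12 LD2_c54 LD3_c57)) :: (LG_a, (LK LD1_c6 LD2_c22 LD3_c43)) :: (LG_c, (LK LD1_c4 LD2_c50 LD3_c26)) :: (LG_g, (LK LD1_c9 LD2_c36 LD3_c2)) :: (LG_g, (LK LD1_c25 LD2_c43 LD3_c41)) :: (LG_g, (LK LD1_c25 LD2_c43 LD3_c20)) :: (LG_c, (LK LD1_c25 LD2_c55 LD3_c4)) :: (LG_a, (LK LD1_c5 LD2_c22 LD3_c23)) :: (LG_g, (LK LD1_c27 LD2_c29 LD3_c17)) :: (LG_c, (LK LD1_c26 LD2_c13 LD3_c54)) :: (LG_g, (LK LD1_c8 LD2_c23 LD3_c14)) :: spt_8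
def spt_6 : List (Gen × Pt) := (LG_a, (LK LD1_c8 LD2_c8 LD3_c51)) :: (LG_f, (LK LD1_c4 LD2_c56 LD3_c8)) :: (LG_g, (LK LD1_c11 LD2_c35 LD3_c57)) :: (LG_d, (LK LD1_c6 LD2_c46 LD3_c4)) :: (LG_d, (LK LD1_c9 LD2_c31 LD3_c50)) :: (LG_f, (LK LD1_c6 LD2_c7 LD3_c46)) :: (LG_g, (LK LD1_c8 LD2_c14 LD3_c35)) :: (LG_g, (LK LD1_c8 LD2_c14 LD3_c55)) :: (LG_g, (LK LD1_c6 LD2_c51 LD3_c16)) :: (LG_c, (LK LD1_c15 LD2_c49 LD3_c46)) :: (LG_c, (LK LD1_c15 LD2_c48 LD3_c28)) :: (LG_d, (LK LD1_c27 LD2_c32 LD3_c17)) :: (LG_c, (LK LD1_c8 LD2_c23 LD3_c27)) :: (LG_d, (LK LD1_c15 LD2_c49 LD3_c8)) :: (LG_g, (LK LD1_c15 LD2_c43 LD3_c22)) :: (LG_g, (LK LD1_c19 LD2_c38 LD3_c56)) :: (LG_g, (LK LD1_c25 LD2_c41 LD3_c4)) :: (LG_f, (LK LD1_c8 LD2_c20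 LD3_c61)) :: (LG_g, (LK LD1_c8 LD2_c21 LD3_c3)) :: (LG_d, (LK LD1_c15 LD2_c58 LD3_c12)) :: (LG_g, (LK LD1_c4 LD2_c18 LD3_c28)) :: (LG_f, (LK LD1_c8 LD2_c24 LD3_c44)) :: (LG_b, (LK LD1_c5 LD2_c44 LD3_c35)) :: (LG_f, (LK LD1_c4 LD2_c19 LD3_c0)) :: (LG_a, (LK LD1_c4 LD2_c13 LD3_c17)) :: (LG_f, (LK LD1_c8 LD2_c33 LD3_c6)) :: (LG_g, (LK LD1_c15 LD2_c48 LD3_c29)) :: (LG_a, (LK LD1_c8 LD2_c19 LD3_c0)) :: (LG_e, (LK LD1_c8 LD2_c51 LD3_c12)) :: (LG_g, (LK LD1_c10 LD2_c57 LD3_c46)) :: (LG_c, (LK LD1_c19 LD2_c49 LD3_c61)) :: (LG_c, (LK LD1_c19 LD2_c48 LD3_c40)) :: (LG_a, (LK LD1_c5 LD2_c39 LD3_c36)) :: (LG_g, (LK LD1_c6 LD2_c26 LD3_c60)) :: (LG_d, (LK LD1_c12 LD2_c54 LD3_c17)) :: (LG_e, (LK LD1_c12 LD2_c54 LD3_c17)) :: (LG_g,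 (LK LD1_c4 LD2_c33 LD3_c47)) :: (LG_e, (LK LD1_c15 LD2_c26 LD3_c9)) :: (LG_g, (LK LD1_c9 LD2_c5 LD3_c13)) :: (LG_g, (LK LD1_c12 LD2_c23 LD3_c44)) :: (LG_g, (LK LD1_c6 LD2_c1 LD3_c47)) :: (LG_c, (LK LD1_c11 LD2_c27 LD3_c58)) :: (LG_c, (LK LD1_c11 LD2_c27 LD3_c59)) :: (LG_g, (LK LD1_c11 LD2_c27 LD3_c60)) :: (LG_f, (LK LD1_c18 LD2_c23 LD3_c30)) :: (LG_d, (LK LD1_c5 LD2_c49 LD3_c55)) :: (LG_d, (LK LD1_c6 LD2_c46 LD3_c5)) :: (LG_b, (LK LD1_c11 LD2_c29 LD3_c39)) :: (LG_a, (LK LD1_c9 LD2_c5 LD3_c61)) :: (LG_g, (LK LD1_c15 LD2_c5 LD3_c15)) :: (LG_g, (LK LD1_c15 LD2_c26 LD3_c9)) :: (LG_g, (LK LD1_c9 LD2_c13 LD3_c41)) :: (LG_f, (LK LD1_c6 LD2_c12 LD3_c10)) :: (LG_d, (LK LD1_c27 LD2_c21 LD3_c48)) :: (LG_a, (LK LD1_c11 LD2_c35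 LD3_c57)) :: (LG_g, (LK LD1_c9 LD2_c11 LD3_c21)) :: (LG_d, (LK LD1_c17 LD2_c6 LD3_c3)) :: (LG_g, (LK LD1_c9 LD2_c12 LD3_c17)) :: (LG_c, (LK LD1_c20 LD2_c23 LD3_c31)) :: (LG_g, (LK LD1_c20 LD2_c23 LD3_c32)) :: (LG_c, (LK LD1_c16 LD2_c57 LD3_c30)) :: (LG_c, (LK LD1_c9 LD2_c49 LD3_c27)) :: (LG_g, (LK LD1_c15 LD2_c5 LD3_c11)) :: (LG_g, (LK LD1_c11 LD2_c31 LD3_c58)) :: (LG_g, (LK LD1_c11 LD2_c51 LD3_c16)) :: (LG_c, (LK LD1_c14 LD2_c4 LD3_c50)) :: (LG_g, (LK LD1_c3 LD2_c25 LD3_c32)) :: (LG_g, (LK LD1_c9 LD2_c16 LD3_c57)) :: (LG_g, (LK LD1_c12 LD2_c4 LD3_c31)) :: (LG_g, (LK LD1_c5 LD2_c45 LD3_c21)) :: (LG_g, (LK LD1_c17 LD2_c13 LD3_c18)) :: (LG_c, (LK LD1_c21 LD2_c31 LD3_c29)) :: (LG_g, (LK LD1_c6 LD2_c21 LD3_c52)) :: (LG_a,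 (LK LD1_c9 LD2_c19 LD3_c55)) :: (LG_g, (LK LD1_c6 LD2_c26 LD3_c46)) :: (LG_g, (LK LD1_c3 LD2_c22 LD3_c31)) :: (LG_g, (LK LD1_c12 LD2_c25 LD3_c51)) :: (LG_g, (LK LD1_c6 LD2_c11 LD3_c39)) :: (LG_c, (LK LD1_c7 LD2_c38 LD3_c4)) :: (LG_d, (LK LD1_c3 LD2_c13 LD3_c7)) :: (LG_g, (LK LD1_c9 LD2_c21 LD3_c45)) :: (LG_g, (LK LD1_c9 LD2_c21 LD3_c47)) :: (LG_g, (LK LD1_c9 LD2_c22 LD3_c59)) :: (LG_a, (LK LD1_c9 LD2_c16 LD3_c53)) :: (LG_g, (LK LD1_c27 LD2_c12 LD3_c1)) :: (LG_d, (LK LD1_c17 LD2_c25 LD3_c39)) :: (LG_e, (LK LD1_c21 LD2_c16 LD3_c30)) :: (LG_b, (LK LD1_c17 LD2_c26 LD3_c54)) :: (LG_g, (LK LD1_c6 LD2_c43 LD3_c40)) :: (LG_c, (LK LD1_c4 LD2_c50 LD3_c25)) :: (LG_g, (LK LD1_c9 LD2_c29 LD3_c16)) :: (LG_c, (LK LD1_c12 LD2_c22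 LD3_c59)) :: (LG_c, (LK LD1_c14 LD2_c46 LD3_c33)) :: (LG_g, (LK LD1_c9 LD2_c30 LD3_c41)) :: (LG_e, (LK LD1_c9 LD2_c30 LD3_c49)) :: (LG_g, (LK LD1_c6 LD2_c46 LD3_c59)) :: (LG_d, (LK LD1_c12 LD2_c32 LD3_c2)) :: (LG_g, (LK LD1_c5 LD2_c50 LD3_c23)) :: (LG_g, (LK LD1_c9 LD2_c13 LD3_c21)) :: (LG_e, (LK LD1_c6 LD2_c44 LD3_c61)) :: spt_7
def spt_5 : List (Gen × Pt) := (LG_d, (LK LD1_c14 LD2_c21 LD3_c18)) :: (LG_c, (LK LD1_c24 LD2_c12 LD3_c50)) :: (LG_a, (LK LD1_c6 LD2_c56 LD3_c25)) :: (LG_d, (LK LD1_c13 LD2_c46 LD3_c14)) :: (LG_a, (LK LD1_c14 LD2_c19 LD3_c32)) :: (LG_g, (LK LD1_c6 LD2_c34 LD3_c30)) :: (LG_g, (LK LD1_c3 LD2_c51 LD3_c41)) :: (LG_g, (LK LD1_c7 LD2_c44 LD3_c48)) :: (LG_d, (LK LD1_c13 LD2_c18 LD3_c0)) :: (LG_g,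 (LK LD1_c13 LD2_c6 LD3_c41)) :: (LG_g, (LK LD1_c13 LD2_c57 LD3_c7)) :: (LG_c, (LK LD1_c23 LD2_c31 LD3_c58)) :: (LG_g, (LK LD1_c24 LD2_c0 LD3_c15)) :: (LG_d, (LK LD1_c23 LD2_c49 LD3_c15)) :: (LG_g, (LK LD1_c6 LD2_c59 LD3_c14)) :: (LG_g, (LK LD1_c7 LD2_c48 LD3_c49)) :: (LG_d, (LK LD1_c31 LD2_c11 LD3_c11)) :: (LG_g, (LK LD1_c3 LD2_c54 LD3_c42)) :: (LG_a, (LK LD1_c13 LD2_c24 LD3_c19)) :: (LG_a, (LK LD1_c7 LD2_c10 LD3_c60)) :: (LG_d, (LK LD1_c13 LD2_c7 LD3_c8)) :: (LG_g, (LK LD1_c3 LD2_c55 LD3_c54)) :: (LG_a, (LK LD1_c13 LD2_c24 LD3_c15)) :: (LG_b, (LK LD1_c14 LD2_c43 LD3_c55)) :: (LG_g, (LK LD1_c13 LD2_c37 LD3_c5)) :: (LG_g, (LK LD1_c23 LD2_c22 LD3_c53)) :: (LG_e, (LK LD1_c5 LD2_c51 LD3_c54)) :: (LG_c, (LK LD1_c17 LD2_c31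 LD3_c35)) :: (LG_g, (LK LD1_c5 LD2_c14 LD3_c49)) :: (LG_e, (LK LD1_c16 LD2_c57 LD3_c27)) :: (LG_b, (LK LD1_c20 LD2_c38 LD3_c42)) :: (LG_c, (LK LD1_c17 LD2_c0 LD3_c33)) :: (LG_c, (LK LD1_c11 LD2_c39 LD3_c11)) :: (LG_c, (LK LD1_c11 LD2_c48 LD3_c29)) :: (LG_g, (LK LD1_c12 LD2_c49 LD3_c22)) :: (LG_b, (LK LD1_c12 LD2_c43 LD3_c25)) :: (LG_g, (LK LD1_c3 LD2_c12 LD3_c54)) :: (LG_g, (LK LD1_c6 LD2_c11 LD3_c37)) :: (LG_g, (LK LD1_c6 LD2_c31 LD3_c40)) :: (LG_c, (LK LD1_c6 LD2_c11 LD3_c14)) :: (LG_c, (LK LD1_c13 LD2_c40 LD3_c15)) :: (LG_g, (LK LD1_c7 LD2_c50 LD3_c59)) :: (LG_g, (LK LD1_c7 LD2_c32 LD3_c39)) :: (LG_a, (LK LD1_c2 LD2_c20 LD3_c49)) :: (LG_g, (LK LD1_c4 LD2_c45 LD3_c52)) :: (LG_g, (LK LD1_c6 LD2_c29 LD3_c31)) ::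 (LG_b, (LK LD1_c6 LD2_c11 LD3_c16)) :: (LG_d, (LK LD1_c1 LD2_c37 LD3_c4)) :: (LG_c, (LK LD1_c7 LD2_c28 LD3_c6)) :: (LG_e, (LK LD1_c30 LD2_c34 LD3_c59)) :: (LG_a, (LK LD1_c4 LD2_c47 LD3_c0)) :: (LG_d, (LK LD1_c6 LD2_c12 LD3_c23)) :: (LG_f, (LK LD1_c6 LD2_c42 LD3_c40)) :: (LG_f, (LK LD1_c4 LD2_c48 LD3_c14)) :: (LG_f, (LK LD1_c3 LD2_c21 LD3_c22)) :: (LG_a, (LK LD1_c3 LD2_c21 LD3_c19)) :: (LG_g, (LK LD1_c4 LD2_c41 LD3_c12)) :: (LG_d, (LK LD1_c6 LD2_c12 LD3_c24)) :: (LG_g, (LK LD1_c4 LD2_c48 LD3_c24)) :: (LG_g, (LK LD1_c7 LD2_c33 LD3_c52)) :: (LG_c, (LK LD1_c7 LD2_c15 LD3_c48)) :: (LG_e, (LK LD1_c24 LD2_c27 LD3_c10)) :: (LG_g, (LK LD1_c14 LD2_c22 LD3_c22)) :: (LG_g, (LK LD1_c22 LD2_c13 LD3_c4)) :: (LG_g, (LK LD1_c32 LD2_c51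 LD3_c36)) :: (LG_d, (LK LD1_c14 LD2_c9 LD3_c55)) :: (LG_g, (LK LD1_c13 LD2_c6 LD3_c32)) :: (LG_d, (LK LD1_c13 LD2_c7 LD3_c5)) :: (LG_e, (LK LD1_c30 LD2_c42 LD3_c23)) :: (LG_g, (LK LD1_c7 LD2_c6 LD3_c60)) :: (LG_g, (LK LD1_c6 LD2_c11 LD3_c8)) :: (LG_g, (LK LD1_c6 LD2_c37 LD3_c16)) :: (LG_g, (LK LD1_c3 LD2_c17 LD3_c22)) :: (LG_a, (LK LD1_c6 LD2_c37 LD3_c16)) :: (LG_g, (LK LD1_c6 LD2_c10 LD3_c22)) :: (LG_g, (LK LD1_c6 LD2_c10 LD3_c18)) :: (LG_g, (LK LD1_c12 LD2_c46 LD3_c12)) :: (LG_e, (LK LD1_c6 LD2_c11 LD3_c33)) :: (LG_a, (LK LD1_c3 LD2_c17 LD3_c22)) :: (LG_a, (LK LD1_c6 LD2_c35 LD3_c24)) :: (LG_f, (LK LD1_c6 LD2_c35 LD3_c24)) :: (LG_g, (LK LD1_c3 LD2_c18 LD3_c9)) :: (LG_g, (LK LD1_c6 LD2_c37 LD3_c54)) :: (LG_a, (LK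 LD1_c1 LD2_c37 LD3_c4)) :: (LG_g, (LK LD1_c6 LD2_c22 LD3_c44)) :: (LG_g, (LK LD1_c7 LD2_c16 LD3_c9)) :: (LG_d, (LK LD1_c13 LD2_c10 LD3_c42)) :: (LG_d, (LK LD1_c22 LD2_c30 LD3_c38)) :: (LG_g, (LK LD1_c5 LD2_c51 LD3_c59)) :: (LG_e, (LK LD1_c10 LD2_c2 LD3_c41)) :: (LG_f, (LK LD1_c7 LD2_c16 LD3_c25)) :: (LG_d, (LK LD1_c13 LD2_c3 LD3_c40)) :: (LG_e, (LK LD1_c14 LD2_c11 LD3_c7)) :: (LG_g, (LK LD1_c7 LD2_c18 LD3_c3)) :: (LG_c, (LK LD1_c14 LD2_c50 LD3_c52)) :: (LG_g, (LK LD1_c7 LD2_c5 LD3_c28)) :: (LG_a, (LK LD1_c7 LD2_c11 LD3_c11)) :: (LG_f, (LK LD1_c5 LD2_c37 LD3_c0)) :: (LG_g, (LK LD1_c5 LD2_c40 LD3_c46)) :: (LG_b, (LK LD1_c20 LD2_c52 LD3_c32)) :: spt_6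
def spt_4 : List (Gen × Pt) := (LG_c, (LK LD1_c13 LD2_c37 LD3_c29)) :: (LG_g, (LK LD1_c14 LD2_c13 LD3_c25)) :: (LG_c, (LK LD1_c7 LD2_c32 LD3_c33)) :: (LG_g, (LK LD1_c7 LD2_c11 LD3_c20)) :: (LG_b, (LK LD1_c7 LD2_c39 LD3_c22)) :: (LG_g, (LK LD1_c3 LD2_c44 LD3_c18)) :: (LG_c, (LK LD1_c30 LD2_c33 LD3_c0)) :: (LG_d, (LK LD1_c23 LD2_c11 LD3_c34)) :: (LG_d, (LK LD1_c7 LD2_c9 LD3_c52)) :: (LG_g, (LK LD1_c7 LD2_c7 LD3_c25)) :: (LG_c, (LK LD1_c7 LD2_c16 LD3_c38)) :: (LG_b, (LK LD1_c7 LD2_c16 LD3_c38)) :: (LG_g, (LK LD1_c7 LD2_c10 LD3_c26)) :: (LG_a, (LK LD1_c7 LD2_c10 LD3_c38)) :: (LG_g, (LK LD1_c7 LD2_c16 LD3_c37)) :: (LG_g, (LK LD1_c3 LD2_c51 LD3_c7)) :: (LG_g, (LK LD1_c7 LD2_c25 LD3_c34)) :: (LG_g, (LK LD1_c13 LD2_c41 LD3_c2))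 :: (LG_g, (LK LD1_c7 LD2_c53 LD3_c33)) :: (LG_g, (LK LD1_c3 LD2_c35 LD3_c18)) :: (LG_b, (LK LD1_c22 LD2_c36 LD3_c31)) :: (LG_c, (LK LD1_c13 LD2_c50 LD3_c12)) :: (LG_g, (LK LD1_c3 LD2_c46 LD3_c57)) :: (LG_c, (LK LD1_c23 LD2_c11 LD3_c59)) :: (LG_c, (LK LD1_c22 LD2_c59 LD3_c7)) :: (LG_d, (LK LD1_c7 LD2_c19 LD3_c38)) :: (LG_b, (LK LD1_c23 LD2_c5 LD3_c43)) :: (LG_b, (LK LD1_c24 LD2_c35 LD3_c51)) :: (LG_g, (LK LD1_c7 LD2_c0 LD3_c47)) :: (LG_a, (LK LD1_c7 LD2_c10 LD3_c15)) :: (LG_c, (LK LD1_c22 LD2_c31 LD3_c61)) :: (LG_e, (LK LD1_c22 LD2_c55 LD3_c12)) :: (LG_g, (LK LD1_c23 LD2_c7 LD3_c54)) :: (LG_a, (LK LD1_c3 LD2_c55 LD3_c19)) :: (LG_g, (LK LD1_c7 LD2_c7 LD3_c14)) :: (LG_g, (LK LD1_c3 LD2_c38 LD3_c60)) :: (LG_c, (LK LD1_c13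 LD2_c49 LD3_c52)) :: (LG_g, (LK LD1_c7 LD2_c18 LD3_c50)) :: (LG_g, (LK LD1_c13 LD2_c46 LD3_c35)) :: (LG_b, (LK LD1_c13 LD2_c46 LD3_c31)) :: (LG_g, (LK LD1_c7 LD2_c19 LD3_c37)) :: (LG_g, (LK LD1_c3 LD2_c39 LD3_c37)) :: (LG_g, (LK LD1_c30 LD2_c43 LD3_c30)) :: (LG_g, (LK LD1_c7 LD2_c21 LD3_c48)) :: (LG_g, (LK LD1_c13 LD2_c38 LD3_c8)) :: (LG_g, (LK LD1_c7 LD2_c27 LD3_c43)) :: (LG_g, (LK LD1_c21 LD2_c41 LD3_c21)) :: (LG_g, (LK LD1_c13 LD2_c55 LD3_c18)) :: (LG_d, (LK LD1_c14 LD2_c50 LD3_c51)) :: (LG_e, (LK LD1_c14 LD2_c51 LD3_c12)) :: (LG_b, (LK LD1_c14 LD2_c43 LD3_c11)) :: (LG_c, (LK LD1_c13 LD2_c22 LD3_c42)) :: (LG_g, (LK LD1_c7 LD2_c3 LD3_c16)) :: (LG_g, (LK LD1_c7 LD2_c37 LD3_c41)) :: (LG_c, (LK LD1_c14 LD2_c52 LD3_c21))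 :: (LG_c, (LK LD1_c14 LD2_c27 LD3_c54)) :: (LG_f, (LK LD1_c6 LD2_c56 LD3_c10)) :: (LG_g, (LK LD1_c7 LD2_c46 LD3_c16)) :: (LG_g, (LK LD1_c7 LD2_c13 LD3_c43)) :: (LG_g, (LK LD1_c7 LD2_c25 LD3_c58)) :: (LG_g, (LK LD1_c7 LD2_c29 LD3_c59)) :: (LG_d, (LK LD1_c14 LD2_c9 LD3_c52)) :: (LG_c, (LK LD1_c7 LD2_c6 LD3_c61)) :: (LG_f, (LK LD1_c7 LD2_c20 LD3_c48)) :: (LG_g, (LK LD1_c7 LD2_c26 LD3_c35)) :: (LG_g, (LK LD1_c13 LD2_c54 LD3_c40)) :: (LG_g, (LK LD1_c7 LD2_c29 LD3_c48)) :: (LG_g, (LK LD1_c7 LD2_c27 LD3_c27)) :: (LG_b, (LK LD1_c6 LD2_c9 LD3_c50)) :: (LG_g, (LK LD1_c3 LD2_c2 LD3_c18)) :: (LG_g, (LK LD1_c6 LD2_c10 LD3_c16)) :: (LG_a, (LK LD1_c6 LD2_c29 LD3_c24)) :: (LG_a, (LK LD1_c6 LD2_c9 LD3_c50)) :: (LG_e, (LK LD1_c6 LD2_c42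 LD3_c40)) :: (LG_e, (LK LD1_c6 LD2_c32 LD3_c23)) :: (LG_a, (LK LD1_c6 LD2_c28 LD3_c13)) :: (LG_d, (LK LD1_c13 LD2_c25 LD3_c39)) :: (LG_c, (LK LD1_c23 LD2_c14 LD3_c44)) :: (LG_g, (LK LD1_c3 LD2_c44 LD3_c32)) :: (LG_e, (LK LD1_c30 LD2_c34 LD3_c7)) :: (LG_g, (LK LD1_c14 LD2_c14 LD3_c61)) :: (LG_a, (LK LD1_c7 LD2_c32 LD3_c23)) :: (LG_g, (LK LD1_c6 LD2_c33 LD3_c61)) :: (LG_g, (LK LD1_c3 LD2_c55 LD3_c53)) :: (LG_a, (LK LD1_c7 LD2_c52 LD3_c52)) :: (LG_g, (LK LD1_c7 LD2_c52 LD3_c52)) :: (LG_c, (LK LD1_c3 LD2_c45 LD3_c25)) :: (LG_f, (LK LD1_c3 LD2_c46 LD3_c55)) :: (LG_a, (LK LD1_c7 LD2_c39 LD3_c8)) :: (LG_d, (LK LD1_c24 LD2_c8 LD3_c24)) :: (LG_d, (LK LD1_c24 LD2_c9 LD3_c12)) :: (LG_g, (LK LD1_c30 LD2_c34 LD3_c33)) :: (LG_e,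 (LK LD1_c13 LD2_c23 LD3_c46)) :: (LG_e, (LK LD1_c14 LD2_c39 LD3_c42)) :: (LG_c, (LK LD1_c7 LD2_c15 LD3_c40)) :: (LG_g, (LK LD1_c22 LD2_c33 LD3_c43)) :: (LG_e, (LK LD1_c30 LD2_c37 LD3_c22)) :: (LG_c, (LK LD1_c7 LD2_c53 LD3_c0)) :: (LG_e, (LK LD1_c14 LD2_c39 LD3_c23)) :: (LG_c, (LK LD1_c7 LD2_c40 LD3_c32)) :: spt_5
def spt_3 : List (Gen × Pt) := (LG_c, (LK LD1_c17 LD2_c4 LD3_c44)) :: (LG_c, (LK LD1_c11 LD2_c26 LD3_c41)) :: (LG_g, (LK LD1_c17 LD2_c4 LD3_c23)) :: (LG_a, (LK LD1_c0 LD2_c38 LD3_c58)) :: (LG_e, (LK LD1_c9 LD2_c13 LD3_c61)) :: (LG_f, (LK LD1_c5 LD2_c13 LD3_c49)) :: (LG_f, (LK LD1_c3 LD2_c6 LD3_c45)) :: (LG_c, (LK LD1_c18 LD2_c1 LD3_c21)) :: (LG_g, (LK LD1_c5 LD2_c29 LD3_c0)) :: (LG_g, (LK LD1_c8 LD2_c35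 LD3_c15)) :: (LG_b, (LK LD1_c3 LD2_c45 LD3_c20)) :: (LG_g, (LK LD1_c3 LD2_c45 LD3_c19)) :: (LG_e, (LK LD1_c12 LD2_c11 LD3_c17)) :: (LG_a, (LK LD1_c6 LD2_c20 LD3_c57)) :: (LG_g, (LK LD1_c4 LD2_c47 LD3_c44)) :: (LG_b, (LK LD1_c6 LD2_c41 LD3_c60)) :: (LG_g, (LK LD1_c6 LD2_c20 LD3_c41)) :: (LG_g, (LK LD1_c6 LD2_c29 LD3_c52)) :: (LG_g, (LK LD1_c6 LD2_c23 LD3_c44)) :: (LG_g, (LK LD1_c21 LD2_c5 LD3_c59)) :: (LG_c, (LK LD1_c6 LD2_c23 LD3_c1)) :: (LG_b, (LK LD1_c23 LD2_c35 LD3_c54)) :: (LG_c, (LK LD1_c3 LD2_c14 LD3_c17)) :: (LG_g, (LK LD1_c1 LD2_c31 LD3_c40)) :: (LG_g, (LK LD1_c3 LD2_c6 LD3_c39)) :: (LG_g, (LK LD1_c3 LD2_c43 LD3_c24)) :: (LG_d, (LK LD1_c3 LD2_c2 LD3_c43)) :: (LG_g, (LK LD1_c6 LD2_c11 LD3_c7)) :: (LG_g, (LK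 LD1_c3 LD2_c13 LD3_c25)) :: (LG_g, (LK LD1_c4 LD2_c44 LD3_c6)) :: (LG_g, (LK LD1_c6 LD2_c31 LD3_c28)) :: (LG_g, (LK LD1_c6 LD2_c32 LD3_c19)) :: (LG_g, (LK LD1_c13 LD2_c21 LD3_c32)) :: (LG_g, (LK LD1_c6 LD2_c34 LD3_c41)) :: (LG_d, (LK LD1_c6 LD2_c41 LD3_c8)) :: (LG_g, (LK LD1_c6 LD2_c34 LD3_c53)) :: (LG_g, (LK LD1_c22 LD2_c16 LD3_c14)) :: (LG_c, (LK LD1_c13 LD2_c5 LD3_c30)) :: (LG_d, (LK LD1_c12 LD2_c3 LD3_c2)) :: (LG_g, (LK LD1_c6 LD2_c36 LD3_c18)) :: (LG_g, (LK LD1_c3 LD2_c16 LD3_c57)) :: (LG_g, (LK LD1_c6 LD2_c11 LD3_c34)) :: (LG_g, (LK LD1_c1 LD2_c35 LD3_c23)) :: (LG_d, (LK LD1_c21 LD2_c7 LD3_c24)) :: (LG_g, (LK LD1_c3 LD2_c17 LD3_c21)) :: (LG_g, (LK LD1_c6 LD2_c37 LD3_c60)) :: (LG_a, (LK LD1_c6 LD2_c38 LD3_c6))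 :: (LG_c, (LK LD1_c20 LD2_c51 LD3_c15)) :: (LG_g, (LK LD1_c12 LD2_c38 LD3_c18)) :: (LG_b, (LK LD1_c17 LD2_c20 LD3_c3)) :: (LG_g, (LK LD1_c6 LD2_c10 LD3_c17)) :: (LG_g, (LK LD1_c12 LD2_c38 LD3_c24)) :: (LG_c, (LK LD1_c12 LD2_c46 LD3_c31)) :: (LG_g, (LK LD1_c3 LD2_c18 LD3_c12)) :: (LG_g, (LK LD1_c6 LD2_c40 LD3_c8)) :: (LG_c, (LK LD1_c3 LD2_c45 LD3_c21)) :: (LG_b, (LK LD1_c3 LD2_c18 LD3_c30)) :: (LG_c, (LK LD1_c21 LD2_c7 LD3_c12)) :: (LG_d, (LK LD1_c21 LD2_c7 LD3_c16)) :: (LG_g, (LK LD1_c3 LD2_c18 LD3_c45)) :: (LG_d, (LK LD1_c6 LD2_c11 LD3_c22)) :: (LG_a, (LK LD1_c6 LD2_c11 LD3_c22)) :: (LG_a, (LK LD1_c3 LD2_c15 LD3_c43)) :: (LG_g, (LK LD1_c3 LD2_c2 LD3_c17)) :: (LG_a, (LK LD1_c3 LD2_c16 LD3_c0)) :: (LG_g, (LK LD1_c6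 LD2_c41 LD3_c61)) :: (LG_g, (LK LD1_c6 LD2_c42 LD3_c27)) :: (LG_g, (LK LD1_c3 LD2_c19 LD3_c18)) :: (LG_g, (LK LD1_c6 LD2_c42 LD3_c30)) :: (LG_e, (LK LD1_c4 LD2_c42 LD3_c9)) :: (LG_g, (LK LD1_c6 LD2_c47 LD3_c44)) :: (LG_g, (LK LD1_c9 LD2_c32 LD3_c40)) :: (LG_g, (LK LD1_c6 LD2_c23 LD3_c50)) :: (LG_g, (LK LD1_c6 LD2_c23 LD3_c48)) :: (LG_g, (LK LD1_c6 LD2_c43 LD3_c17)) :: (LG_g, (LK LD1_c6 LD2_c44 LD3_c54)) :: (LG_g, (LK LD1_c3 LD2_c20 LD3_c39)) :: (LG_g, (LK LD1_c6 LD2_c44 LD3_c56)) :: (LG_b, (LK LD1_c9 LD2_c12 LD3_c25)) :: (LG_g, (LK LD1_c16 LD2_c55 LD3_c55)) :: (LG_b, (LK LD1_c5 LD2_c37 LD3_c48)) :: (LG_g, (LK LD1_c9 LD2_c30 LD3_c30)) :: (LG_f, (LK LD1_c3 LD2_c23 LD3_c51)) :: (LG_g, (LK LD1_c6 LD2_c40 LD3_c12)) ::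 (LG_c, (LK LD1_c6 LD2_c40 LD3_c7)) :: (LG_g, (LK LD1_c6 LD2_c47 LD3_c0)) :: (LG_g, (LK LD1_c6 LD2_c21 LD3_c18)) :: (LG_a, (LK LD1_c3 LD2_c35 LD3_c33)) :: (LG_d, (LK LD1_c7 LD2_c10 LD3_c7)) :: (LG_c, (LK LD1_c3 LD2_c53 LD3_c33)) :: (LG_a, (LK LD1_c3 LD2_c35 LD3_c3)) :: (LG_g, (LK LD1_c7 LD2_c4 LD3_c22)) :: (LG_e, (LK LD1_c7 LD2_c4 LD3_c14)) :: (LG_c, (LK LD1_c7 LD2_c9 LD3_c33)) :: (LG_g, (LK LD1_c7 LD2_c15 LD3_c35)) :: (LG_a, (LK LD1_c3 LD2_c35 LD3_c5)) :: (LG_g, (LK LD1_c7 LD2_c20 LD3_c37)) :: (LG_g, (LK LD1_c7 LD2_c18 LD3_c22)) :: (LG_b, (LK LD1_c14 LD2_c0 LD3_c24)) :: (LG_e, (LK LD1_c24 LD2_c40 LD3_c19)) :: spt_4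
def spt_2 : List (Gen × Pt) := (LG_a, (LK LD1_c1 LD2_c54 LD3_c21)) :: (LG_g, (LK LD1_c3 LD2_c40 LD3_c17)) :: (LG_c, (LK LD1_c3 LD2_c53 LD3_c25)) :: (LG_g, (LK LD1_c1 LD2_c50 LD3_c13)) :: (LG_g, (LK LD1_c7 LD2_c43 LD3_c46)) :: (LG_g, (LK LD1_c7 LD2_c4 LD3_c29)) :: (LG_g, (LK LD1_c1 LD2_c47 LD3_c53)) :: (LG_g, (LK LD1_c6 LD2_c52 LD3_c11)) :: (LG_g, (LK LD1_c7 LD2_c51 LD3_c6)) :: (LG_f, (LK LD1_c3 LD2_c31 LD3_c48)) :: (LG_c, (LK LD1_c22 LD2_c45 LD3_c54)) :: (LG_g, (LK LD1_c1 LD2_c38 LD3_c25)) :: (LG_g, (LK LD1_c3 LD2_c16 LD3_c26)) :: (LG_g, (LK LD1_c3 LD2_c12 LD3_c42)) :: (LG_a, (LK LD1_c3 LD2_c29 LD3_c19)) :: (LG_g, (LK LD1_c3 LD2_c25 LD3_c55)) :: (LG_g, (LK LD1_c7 LD2_c1 LD3_c21)) :: (LG_c, (LK LD1_c29 LD2_c51 LD3_c33))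 :: (LG_c, (LK LD1_c24 LD2_c30 LD3_c44)) :: (LG_g, (LK LD1_c13 LD2_c33 LD3_c13)) :: (LG_g, (LK LD1_c7 LD2_c9 LD3_c27)) :: (LG_g, (LK LD1_c13 LD2_c23 LD3_c36)) :: (LG_g, (LK LD1_c7 LD2_c48 LD3_c30)) :: (LG_d, (LK LD1_c13 LD2_c18 LD3_c2)) :: (LG_d, (LK LD1_c24 LD2_c22 LD3_c41)) :: (LG_c, (LK LD1_c14 LD2_c41 LD3_c59)) :: (LG_a, (LK LD1_c3 LD2_c42 LD3_c26)) :: (LG_g, (LK LD1_c7 LD2_c21 LD3_c24)) :: (LG_d, (LK LD1_c7 LD2_c4 LD3_c39)) :: (LG_g, (LK LD1_c1 LD2_c54 LD3_c38)) :: (LG_a, (LK LD1_c3 LD2_c36 LD3_c42)) :: (LG_a, (LK LD1_c1 LD2_c54 LD3_c33)) :: (LG_a, (LK LD1_c7 LD2_c48 LD3_c38)) :: (LG_g, (LK LD1_c7 LD2_c53 LD3_c30)) :: (LG_b, (LK LD1_c3 LD2_c51 LD3_c51)) :: (LG_c, (LK LD1_c14 LD2_c34 LD3_c36)) :: (LG_a, (LK LD1_c7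 LD2_c19 LD3_c1)) :: (LG_g, (LK LD1_c14 LD2_c38 LD3_c15)) :: (LG_g, (LK LD1_c2 LD2_c52 LD3_c12)) :: (LG_g, (LK LD1_c5 LD2_c40 LD3_c4)) :: (LG_g, (LK LD1_c11 LD2_c31 LD3_c39)) :: (LG_e, (LK LD1_c10 LD2_c17 LD3_c20)) :: (LG_g, (LK LD1_c1 LD2_c3 LD3_c56)) :: (LG_a, (LK LD1_c0 LD2_c42 LD3_c35)) :: (LG_a, (LK LD1_c2 LD2_c31 LD3_c24)) :: (LG_g, (LK LD1_c3 LD2_c18 LD3_c39)) :: (LG_a, (LK LD1_c6 LD2_c40 LD3_c57)) :: (LG_g, (LK LD1_c6 LD2_c53 LD3_c39)) :: (LG_g, (LK LD1_c7 LD2_c53 LD3_c34)) :: (LG_e, (LK LD1_c24 LD2_c30 LD3_c40)) :: (LG_g, (LK LD1_c7 LD2_c6 LD3_c54)) :: (LG_g, (LK LD1_c7 LD2_c7 LD3_c24)) :: (LG_g, (LK LD1_c2 LD2_c52 LD3_c14)) :: (LG_e, (LK LD1_c4 LD2_c42 LD3_c3)) :: (LG_g, (LK LD1_c5 LD2_c51 LD3_c53)) :: (LG_g,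 (LK LD1_c7 LD2_c18 LD3_c38)) :: (LG_c, (LK LD1_c13 LD2_c49 LD3_c57)) :: (LG_f, (LK LD1_c3 LD2_c26 LD3_c7)) :: (LG_c, (LK LD1_c13 LD2_c23 LD3_c10)) :: (LG_c, (LK LD1_c9 LD2_c35 LD3_c3)) :: (LG_f, (LK LD1_c4 LD2_c10 LD3_c35)) :: (LG_f, (LK LD1_c4 LD2_c11 LD3_c40)) :: (LG_g, (LK LD1_c10 LD2_c12 LD3_c19)) :: (LG_e, (LK LD1_c9 LD2_c4 LD3_c37)) :: (LG_c, (LK LD1_c6 LD2_c47 LD3_c58)) :: (LG_a, (LK LD1_c4 LD2_c35 LD3_c44)) :: (LG_d, (LK LD1_c6 LD2_c20 LD3_c51)) :: (LG_g, (LK LD1_c6 LD2_c44 LD3_c2)) :: (LG_c, (LK LD1_c6 LD2_c50 LD3_c41)) :: (LG_g, (LK LD1_c4 LD2_c47 LD3_c16)) :: (LG_g, (LK LD1_c4 LD2_c47 LD3_c45)) :: (LG_c, (LK LD1_c6 LD2_c8 LD3_c23)) :: (LG_g, (LK LD1_c6 LD2_c22 LD3_c5)) :: (LG_a, (LK LD1_c0 LD2_c45 LD3_c0))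 :: (LG_e, (LK LD1_c6 LD2_c12 LD3_c3)) :: (LG_g, (LK LD1_c3 LD2_c42 LD3_c7)) :: (LG_f, (LK LD1_c4 LD2_c52 LD3_c27)) :: (LG_g, (LK LD1_c5 LD2_c16 LD3_c51)) :: (LG_a, (LK LD1_c4 LD2_c27 LD3_c55)) :: (LG_a, (LK LD1_c4 LD2_c28 LD3_c11)) :: (LG_a, (LK LD1_c4 LD2_c28 LD3_c19)) :: (LG_e, (LK LD1_c11 LD2_c7 LD3_c60)) :: (LG_c, (LK LD1_c20 LD2_c4 LD3_c46)) :: (LG_f, (LK LD1_c3 LD2_c2 LD3_c38)) :: (LG_g, (LK LD1_c5 LD2_c51 LD3_c55)) :: (LG_c, (LK LD1_c9 LD2_c46 LD3_c39)) :: (LG_c, (LK LD1_c10 LD2_c48 LD3_c8)) :: (LG_f, (LK LD1_c5 LD2_c52 LD3_c9)) :: (LG_c, (LK LD1_c17 LD2_c1 LD3_c33)) :: (LG_e, (LK LD1_c8 LD2_c12 LD3_c14)) :: (LG_g, (LK LD1_c6 LD2_c1 LD3_c5)) :: (LG_d, (LK LD1_c11 LD2_c46 LD3_c34)) :: (LG_g, (LK LD1_c2 LD2_c56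 LD3_c52)) :: (LG_d, (LK LD1_c11 LD2_c46 LD3_c24)) :: (LG_d, (LK LD1_c11 LD2_c46 LD3_c54)) :: (LG_g, (LK LD1_c5 LD2_c57 LD3_c23)) :: (LG_g, (LK LD1_c9 LD2_c15 LD3_c25)) :: (LG_g, (LK LD1_c2 LD2_c53 LD3_c59)) :: (LG_c, (LK LD1_c5 LD2_c57 LD3_c41)) :: (LG_d, (LK LD1_c26 LD2_c51 LD3_c49)) :: spt_3
def spt_1 : List (Gen × Pt) := (LG_g, (LK LD1_c7 LD2_c3 LD3_c36)) :: (LG_b, (LK LD1_c7 LD2_c0 LD3_c48)) :: (LG_a, (LK LD1_c3 LD2_c46 LD3_c57)) :: (LG_c, (LK LD1_c7 LD2_c0 LD3_c24)) :: (LG_d, (LK LD1_c2 LD2_c46 LD3_c33)) :: (LG_d, (LK LD1_c4 LD2_c39 LD3_c19)) :: (LG_c, (LK LD1_c5 LD2_c43 LD3_c8)) :: (LG_f, (LK LD1_c3 LD2_c25 LD3_c31)) :: (LG_g, (LK LD1_c3 LD2_c57 LD3_c29)) :: (LG_c, (LK LD1_c15 LD2_c30 LD3_c26)) :: (LG_d, (LK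 LD1_c9 LD2_c0 LD3_c16)) :: (LG_d, (LK LD1_c4 LD2_c31 LD3_c48)) :: (LG_g, (LK LD1_c4 LD2_c31 LD3_c48)) :: (LG_c, (LK LD1_c9 LD2_c32 LD3_c53)) :: (LG_c, (LK LD1_c3 LD2_c5 LD3_c16)) :: (LG_c, (LK LD1_c10 LD2_c5 LD3_c29)) :: (LG_a, (LK LD1_c2 LD2_c24 LD3_c15)) :: (LG_b, (LK LD1_c3 LD2_c4 LD3_c7)) :: (LG_c, (LK LD1_c1 LD2_c21 LD3_c47)) :: (LG_c, (LK LD1_c4 LD2_c34 LD3_c37)) :: (LG_a, (LK LD1_c2 LD2_c52 LD3_c16)) :: (LG_g, (LK LD1_c4 LD2_c25 LD3_c39)) :: (LG_g, (LK LD1_c1 LD2_c24 LD3_c35)) :: (LG_g, (LK LD1_c2 LD2_c57 LD3_c35)) :: (LG_a, (LK LD1_c1 LD2_c26 LD3_c2)) :: (LG_d, (LK LD1_c11 LD2_c43 LD3_c54)) :: (LG_e, (LK LD1_c26 LD2_c28 LD3_c41)) :: (LG_d, (LK LD1_c9 LD2_c47 LD3_c6)) :: (LG_c, (LK LD1_c11 LD2_c51 LD3_c59))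 :: (LG_g, (LK LD1_c12 LD2_c23 LD3_c47)) :: (LG_f, (LK LD1_c3 LD2_c2 LD3_c53)) :: (LG_g, (LK LD1_c3 LD2_c19 LD3_c27)) :: (LG_g, (LK LD1_c1 LD2_c30 LD3_c28)) :: (LG_d, (LK LD1_c6 LD2_c22 LD3_c5)) :: (LG_a, (LK LD1_c1 LD2_c32 LD3_c59)) :: (LG_g, (LK LD1_c1 LD2_c24 LD3_c32)) :: (LG_g, (LK LD1_c6 LD2_c18 LD3_c49)) :: (LG_d, (LK LD1_c12 LD2_c27 LD3_c47)) :: (LG_e, (LK LD1_c9 LD2_c9 LD3_c9)) :: (LG_g, (LK LD1_c3 LD2_c13 LD3_c50)) :: (LG_a, (LK LD1_c1 LD2_c8 LD3_c7)) :: (LG_f, (LK LD1_c1 LD2_c34 LD3_c12)) :: (LG_g, (LK LD1_c3 LD2_c15 LD3_c39)) :: (LG_g, (LK LD1_c3 LD2_c16 LD3_c41)) :: (LG_g, (LK LD1_c3 LD2_c18 LD3_c23)) :: (LG_d, (LK LD1_c6 LD2_c40 LD3_c30)) :: (LG_g, (LK LD1_c1 LD2_c35 LD3_c44)) :: (LG_g, (LK LD1_c3 LD2_c18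 LD3_c26)) :: (LG_f, (LK LD1_c3 LD2_c16 LD3_c27)) :: (LG_g, (LK LD1_c12 LD2_c30 LD3_c18)) :: (LG_d, (LK LD1_c12 LD2_c57 LD3_c27)) :: (LG_e, (LK LD1_c6 LD2_c46 LD3_c48)) :: (LG_e, (LK LD1_c18 LD2_c21 LD3_c6)) :: (LG_g, (LK LD1_c6 LD2_c12 LD3_c10)) :: (LG_f, (LK LD1_c3 LD2_c13 LD3_c2)) :: (LG_d, (LK LD1_c13 LD2_c30 LD3_c17)) :: (LG_a, (LK LD1_c0 LD2_c45 LD3_c50)) :: (LG_a, (LK LD1_c1 LD2_c54 LD3_c46)) :: (LG_g, (LK LD1_c3 LD2_c33 LD3_c15)) :: (LG_a, (LK LD1_c3 LD2_c34 LD3_c57)) :: (LG_g, (LK LD1_c22 LD2_c30 LD3_c59)) :: (LG_g, (LK LD1_c0 LD2_c50 LD3_c13)) :: (LG_g, (LK LD1_c1 LD2_c50 LD3_c14)) :: (LG_e, (LK LD1_c3 LD2_c44 LD3_c26)) :: (LG_g, (LK LD1_c3 LD2_c24 LD3_c52)) :: (LG_g, (LK LD1_c3 LD2_c32 LD3_c27)) :: (LG_g,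 (LK LD1_c7 LD2_c13 LD3_c36)) :: (LG_b, (LK LD1_c6 LD2_c58 LD3_c54)) :: (LG_g, (LK LD1_c7 LD2_c35 LD3_c1)) :: (LG_g, (LK LD1_c7 LD2_c5 LD3_c19)) :: (LG_g, (LK LD1_c13 LD2_c28 LD3_c35)) :: (LG_a, (LK LD1_c3 LD2_c26 LD3_c22)) :: (LG_g, (LK LD1_c7 LD2_c18 LD3_c29)) :: (LG_c, (LK LD1_c13 LD2_c45 LD3_c4)) :: (LG_c, (LK LD1_c23 LD2_c0 LD3_c4)) :: (LG_g, (LK LD1_c7 LD2_c46 LD3_c57)) :: (LG_g, (LK LD1_c6 LD2_c52 LD3_c21)) :: (LG_b, (LK LD1_c6 LD2_c55 LD3_c7)) :: (LG_f, (LK LD1_c1 LD2_c50 LD3_c30)) :: (LG_f, (LK LD1_c1 LD2_c46 LD3_c48)) :: (LG_g, (LK LD1_c3 LD2_c25 LD3_c53)) :: (LG_d, (LK LD1_c3 LD2_c34 LD3_c17)) :: (LG_g, (LK LD1_c7 LD2_c9 LD3_c43)) :: (LG_g, (LK LD1_c7 LD2_c12 LD3_c40)) :: (LG_d, (LK LD1_c3 LD2_c39 LD3_c21))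 :: (LG_g, (LK LD1_c3 LD2_c33 LD3_c14)) :: (LG_g, (LK LD1_c7 LD2_c7 LD3_c23)) :: (LG_g, (LK LD1_c7 LD2_c12 LD3_c23)) :: (LG_c, (LK LD1_c7 LD2_c8 LD3_c61)) :: (LG_c, (LK LD1_c1 LD2_c50 LD3_c18)) :: (LG_b, (LK LD1_c14 LD2_c4 LD3_c4)) :: (LG_c, (LK LD1_c1 LD2_c49 LD3_c10)) :: (LG_c, (LK LD1_c7 LD2_c16 LD3_c56)) :: (LG_c, (LK LD1_c3 LD2_c39 LD3_c44)) :: (LG_c, (LK LD1_c7 LD2_c9 LD3_c27)) :: (LG_d, (LK LD1_c3 LD2_c55 LD3_c30)) :: (LG_a, (LK LD1_c1 LD2_c49 LD3_c37)) :: (LG_d, (LK LD1_c3 LD2_c54 LD3_c44)) :: (LG_g, (LK LD1_c3 LD2_c55 LD3_c32)) :: (LG_e, (LK LD1_c7 LD2_c22 LD3_c12)) :: spt_2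
def spt_0 : List (Gen × Pt) := (LG_g, (LK LD1_c0 LD2_c0 LD3_c12)) :: (LG_g, (LK LD1_c0 LD2_c0 LD3_c16)) :: (LG_d, (LK LD1_c0 LD2_c2 LD3_c32)) :: (LG_a, (LK LD1_c0 LD2_c0 LD3_c12)) :: (LG_d, (LK LD1_c0 LD2_c0 LD3_c41)) :: (LG_e, (LK LD1_c0 LD2_c0 LD3_c41)) :: (LG_f, (LK LD1_c0 LD2_c0 LD3_c41)) :: (LG_g, (LK LD1_c0 LD2_c0 LD3_c45)) :: (LG_a, (LK LD1_c0 LD2_c0 LD3_c16)) :: (LG_c, (LK LD1_c0 LD2_c0 LD3_c18)) :: (LG_c, (LK LD1_c0 LD2_c4 LD3_c42)) :: (LG_g, (LK LD1_c0 LD2_c0 LD3_c61)) :: (LG_g, (LK LD1_c0 LD2_c1 LD3_c15)) :: (LG_d, (LK LD1_c0 LD2_c0 LD3_c32)) :: (LG_a, (LK LD1_c0 LD2_c0 LD3_c61)) :: (LG_g, (LK LD1_c0 LD2_c0 LD3_c23)) :: (LG_f, (LK LD1_c0 LD2_c9 LD3_c24)) :: (LG_b, (LK LD1_c1 LD2_c39 LD3_c39)) :: (LG_d,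 (LK LD1_c22 LD2_c11 LD3_c45)) :: (LG_g, (LK LD1_c1 LD2_c3 LD3_c59)) :: (LG_a, (LK LD1_c0 LD2_c41 LD3_c1)) :: (LG_g, (LK LD1_c0 LD2_c48 LD3_c35)) :: (LG_g, (LK LD1_c0 LD2_c24 LD3_c26)) :: (LG_a, (LK LD1_c0 LD2_c24 LD3_c26)) :: (LG_g, (LK LD1_c9 LD2_c15 LD3_c33)) :: (LG_g, (LK LD1_c2 LD2_c22 LD3_c31)) :: (LG_g, (LK LD1_c1 LD2_c22 LD3_c58)) :: (LG_d, (LK LD1_c9 LD2_c30 LD3_c8)) :: (LG_a, (LK LD1_c1 LD2_c3 LD3_c57)) :: (LG_g, (LK LD1_c1 LD2_c34 LD3_c34)) :: (LG_d, (LK LD1_c3 LD2_c16 LD3_c27)) :: (LG_f, (LK LD1_c1 LD2_c8 LD3_c30)) :: (LG_c, (LK LD1_c3 LD2_c13 LD3_c15)) :: (LG_g, (LK LD1_c4 LD2_c33 LD3_c49)) :: (LG_c, (LK LD1_c3 LD2_c9 LD3_c20)) :: (LG_e, (LK LD1_c1 LD2_c44 LD3_c13)) :: (LG_g, (LK LD1_c1 LD2_c44 LD3_c13))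 :: (LG_d, (LK LD1_c1 LD2_c46 LD3_c33)) :: (LG_a, (LK LD1_c0 LD2_c46 LD3_c49)) :: (LG_g, (LK LD1_c1 LD2_c42 LD3_c22)) :: (LG_g, (LK LD1_c1 LD2_c38 LD3_c55)) :: (LG_g, (LK LD1_c0 LD2_c50 LD3_c14)) :: (LG_c, (LK LD1_c0 LD2_c22 LD3_c13)) :: (LG_c, (LK LD1_c0 LD2_c22 LD3_c14)) :: (LG_c, (LK LD1_c0 LD2_c22 LD3_c40)) :: (LG_g, (LK LD1_c0 LD2_c47 LD3_c42)) :: (LG_c, (LK LD1_c3 LD2_c38 LD3_c21)) :: (LG_g, (LK LD1_c0 LD2_c46 LD3_c47)) :: (LG_a, (LK LD1_c0 LD2_c50 LD3_c41)) :: (LG_a, (LK LD1_c1 LD2_c45 LD3_c55)) :: (LG_a, (LK LD1_c0 LD2_c24 LD3_c17)) :: (LG_c, (LK LD1_c0 LD2_c20 LD3_c59)) :: (LG_g, (LK LD1_c1 LD2_c38 LD3_c57)) :: (LG_g, (LK LD1_c1 LD2_c40 LD3_c28)) :: (LG_g, (LK LD1_c7 LD2_c18 LD3_c44)) :: (LG_g, (LK LD1_c0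 LD2_c53 LD3_c47)) :: (LG_b, (LK LD1_c1 LD2_c42 LD3_c23)) :: (LG_g, (LK LD1_c0 LD2_c54 LD3_c0)) :: (LG_d, (LK LD1_c7 LD2_c47 LD3_c42)) :: (LG_g, (LK LD1_c12 LD2_c26 LD3_c29)) :: (LG_d, (LK LD1_c3 LD2_c52 LD3_c0)) :: (LG_g, (LK LD1_c1 LD2_c51 LD3_c15)) :: (LG_d, (LK LD1_c3 LD2_c52 LD3_c20)) :: (LG_c, (LK LD1_c3 LD2_c53 LD3_c23)) :: (LG_b, (LK LD1_c13 LD2_c4 LD3_c3)) :: (LG_b, (LK LD1_c6 LD2_c57 LD3_c43)) :: (LG_a, (LK LD1_c1 LD2_c41 LD3_c35)) :: (LG_b, (LK LD1_c3 LD2_c44 LD3_c44)) :: (LG_g, (LK LD1_c3 LD2_c29 LD3_c13)) :: (LG_b, (LK LD1_c6 LD2_c55 LD3_c19)) :: (LG_g, (LK LD1_c3 LD2_c25 LD3_c50)) :: (LG_g, (LK LD1_c1 LD2_c39 LD3_c32)) :: (LG_a, (LK LD1_c0 LD2_c49 LD3_c37)) :: (LG_c, (LK LD1_c7 LD2_c15 LD3_c27)) :: (LG_g,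 (LK LD1_c1 LD2_c40 LD3_c43)) :: (LG_g, (LK LD1_c3 LD2_c24 LD3_c59)) :: (LG_g, (LK LD1_c1 LD2_c51 LD3_c56)) :: (LG_g, (LK LD1_c3 LD2_c26 LD3_c60)) :: (LG_b, (LK LD1_c0 LD2_c53 LD3_c48)) :: (LG_g, (LK LD1_c3 LD2_c54 LD3_c34)) :: (LG_g, (LK LD1_c3 LD2_c31 LD3_c49)) :: (LG_e, (LK LD1_c3 LD2_c31 LD3_c15)) :: (LG_g, (LK LD1_c1 LD2_c53 LD3_c53)) :: (LG_d, (LK LD1_c7 LD2_c55 LD3_c12)) :: (LG_d, (LK LD1_c7 LD2_c49 LD3_c14)) :: (LG_d, (LK LD1_c13 LD2_c13 LD3_c49)) :: (LG_g, (LK LD1_c7 LD2_c48 LD3_c38)) :: (LG_g, (LK LD1_c6 LD2_c52 LD3_c39)) :: (LG_a, (LK LD1_c1 LD2_c55 LD3_c4)) :: (LG_g, (LK LD1_c7 LD2_c4 LD3_c48)) :: (LG_g, (LK LD1_c3 LD2_c34 LD3_c42)) :: (LG_g, (LK LD1_c6 LD2_c22 LD3_c22)) :: (LG_g, (LK LD1_c1 LD2_c47 LD3_c52))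 :: (LG_g, (LK LD1_c3 LD2_c31 LD3_c25)) :: (LG_a, (LK LD1_c1 LD2_c45 LD3_c56)) :: (LG_d, (LK LD1_c6 LD2_c57 LD3_c52)) :: (LG_g, (LK LD1_c3 LD2_c54 LD3_c33)) :: (LG_g, (LK LD1_c1 LD2_c41 LD3_c58)) :: (LG_b, (LK LD1_c1 LD2_c46 LD3_c33)) :: (LG_g, (LK LD1_c7 LD2_c3 LD3_c13)) :: spt_1

end

end Cfsg.Agent.Helper28.S1692
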