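import Cfsg.Agent.Lib.Helper28.S1692.Seeds77
import Cfsg.Agent.Lib.Helper28.S1692.Levels
import Cfsg.Agent.Lib.Helper28.TCSeed2

set_option autoImplicit false
set_option maxRecDepth 100000
set_option linter.all false

namespace Cfsg.Agent.Helper28.S1692

open Cfsg.Agent.Helper28
open Cfsg.Spor.ON (Gen)

noncomputable section

theorem Lac {a : Gen × Pt} {l : List (Gen × Pt)} (h : SQ a) (ht : ∀ e ∈ l, SQ e) : ∀ e ∈ a :: l, SQ e := all_cons h ht
theorem hall_31 : ∀ e ∈ spt_31, SQ e := all_nil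
theorem hall_30 : ∀ e ∈ spt_30, SQ e :=
  (Lac K76.seed_3000 (Lac K76.seed_3001 (Lac K76.seed_3002 (Lac K76.seed_3003 (Lac K76.seed_3004 (Lac K76.seed_3005 (Lac K76.seed_3006 (Lac K76.seed_3007 (Lac K76.seed_3008 (Lac K76.seed_3009 (Lac K76.seed_3010 (Lac K76.seed_3011 (Lac K76.seed_3012 (Lac K76.seed_3013 (Lac K76.seed_3014 (Lac K76.seed_3015 (Lac K76.seed_3016 (Lac K76.seed_3017 (Lac K76.seed_3018 (Lac K76.seed_3019 (Lac K76.seed_3020 (Lac K76.seed_3021 (Lac K76.seed_3022 (Lac K76.seed_3023 (Lac K76.seed_3024 (Lac K76.seed_3025 (Lac K76.seed_3026 (Lac K76.seed_3027 (Lac K76.seed_3028 (Lac K76.seed_3029 (Lac K76.seed_3030 (Lac K76.seed_3031 (Lac K76.seed_3032 (Lac K76.seed_3033 (Lac K76.seed_3034 (Lac K76.seed_3035 (Lac K76.seed_3036 (Lac K76.seed_3037 (Lac K76.seed_3038 (Lac K76.seed_3039 (Lac K76.seed_3040 (Lac K76.seed_3041 (Lac K76.seed_3042 (Lac K76.seed_3043 (Lac K76.seed_3044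 (Lac K76.seed_3045 (Lac K76.seed_3046 (Lac K76.seed_3047 (Lac K76.seed_3048 (Lac K76.seed_3049 (Lac K76.seed_3050 (Lac K76.seed_3051 (Lac K76.seed_3052 (Lac K76.seed_3053 (Lac K76.seed_3054 (Lac K76.seed_3055 (Lac K76.seed_3056 (Lac K76.seed_3057 (Lac K76.seed_3058 (Lac K76.seed_3059 (Lac K76.seed_3060 (Lac K76.seed_3061 (Lac K76.seed_3062 (Lac K76.seed_3063 (Lac K76.seed_3064 (Lac K76.seed_3065 (Lac K76.seed_3066 (Lac K76.seed_3067 (Lac K76.seed_3068 (Lac K76.seed_3069 (Lac K76.seed_3070 (Lac K77.seed_3071 (Lac K77.seed_3072 (Lac K77.seed_3073 (Lac K77.seed_3074 (Lac K77.seed_3075 (Lac K77.seed_3076 (Lac K77.seed_3077 (Lac K77.seed_3078 (Lac K77.seed_3079 (Lac K77.seed_3080 (Lac K77.seed_3081 (Lac K77.seed_3082 (Lac K77.seed_3083 (Lac K77.seed_3084 (Lac K77.seed_3085 (Lac K77.seed_3086 (Lac K77.seed_3087 (Lac K77.seed_3088 (Lac K77.seed_3089 (Lac K77.seed_3090 (Lac K77.seed_3091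 (Lac K77.seed_3092 (Lac K77.seed_3093 hall_31))))))))))))))))))))))))))))))))))))))))))))))))))))))))))))))))))))))))))))))))))))))))))))))
theorem hall_29 : ∀ e ∈ spt_29, SQ e :=
  (Lac K75.seed_2900 (Lac K75.seed_2901 (Lac K75.seed_2902 (Lac K75.seed_2903 (Lac K75.seed_2904 (Lac K75.seed_2905 (Lac K75.seed_2906 (Lac K75.seed_2907 (Lac K75.seed_2908 (Lac K75.seed_2909 (Lac K75.seed_2910 (Lac K75.seed_2911 (Lac K75.seed_2912 (Lac K75.seed_2913 (Lac K75.seed_2914 (Lac K75.seed_2915 (Lac K75.seed_2916 (Lac K75.seed_2917 (Lac K75.seed_2918 (Lac K75.seed_2919 (Lac K75.seed_2920 (Lac K75.seed_2921 (Lac K75.seed_2922 (Lac K75.seed_2923 (Lac K75.seed_2924 (Lac K75.seed_2925 (Lac K75.seed_2926 (Lac K75.seed_2927 (Lac K75.seed_2928 (Lac K75.seed_2929 (Lac K76.seed_2930 (Lac K76.seed_2931 (Lac K76.seed_2932 (Lac K76.seed_2933 (Lac K76.seed_2934 (Lac K76.seed_2935 (Lac K76.seed_2936 (Lac K76.seed_2937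 (Lac K76.seed_2938 (Lac K76.seed_2939 (Lac K76.seed_2940 (Lac K76.seed_2941 (Lac K76.seed_2942 (Lac K76.seed_2943 (Lac K76.seed_2944 (Lac K76.seed_2945 (Lac K76.seed_2946 (Lac K76.seed_2947 (Lac K76.seed_2948 (Lac K76.seed_2949 (Lac K76.seed_2950 (Lac K76.seed_2951 (Lac K76.seed_2952 (Lac K76.seed_2953 (Lac K76.seed_2954 (Lac K76.seed_2955 (Lac K76.seed_2956 (Lac K76.seed_2957 (Lac K76.seed_2958 (Lac K76.seed_2959 (Lac K76.seed_2960 (Lac K76.seed_2961 (Lac K76.seed_2962 (Lac K76.seed_2963 (Lac K76.seed_2964 (Lac K76.seed_2965 (Lac K76.seed_2966 (Lac K76.seed_2967 (Lac K76.seed_2968 (Lac K76.seed_2969 (Lac K76.seed_2970 (Lac K76.seed_2971 (Lac K76.seed_2972 (Lac K76.seed_2973 (Lac K76.seed_2974 (Lac K76.seed_2975 (Lac K76.seed_2976 (Lac K76.seed_2977 (Lac K76.seed_2978 (Lac K76.seed_2979 (Lac K76.seed_2980 (Lac K76.seed_2981 (Lac K76.seed_2982 (Lac K76.seed_2983 (Lac K76.seed_2984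 (Lac K76.seed_2985 (Lac K76.seed_2986 (Lac K76.seed_2987 (Lac K76.seed_2988 (Lac K76.seed_2989 (Lac K76.seed_2990 (Lac K76.seed_2991 (Lac K76.seed_2992 (Lac K76.seed_2993 (Lac K76.seed_2994 (Lac K76.seed_2995 (Lac K76.seed_2996 (Lac K76.seed_2997 (Lac K76.seed_2998 (Lac K76.seed_2999 hall_30))))))))))))))))))))))))))))))))))))))))))))))))))))))))))))))))))))))))))))))))))))))))))))))))))))
theorem hall_28 : ∀ e ∈ spt_28, SQ e :=
  (Lac K75.seed_2800 (Lac K75.seed_2801 (Lac K75.seed_2802 (Lac K75.seed_2803 (Lac K75.seed_2804 (Lac K75.seed_2805 (Lac K75.seed_2806 (Lac K75.seed_2807 (Lac K75.seed_2808 (Lac K75.seed_2809 (Lac K75.seed_2810 (Lac K75.seed_2811 (Lac K75.seed_2812 (Lac K75.seed_2813 (Lac K75.seed_2814 (Lac K75.seed_2815 (Lac K75.seed_2816 (Lac K75.seed_2817 (Lac K75.seed_2818 (Lac K75.seed_2819 (Lac K75.seed_2820 (Lac K75.seed_2821 (Lac K75.seed_2822 (Lac K75.seed_2823 (Lac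 K75.seed_2824 (Lac K75.seed_2825 (Lac K75.seed_2826 (Lac K75.seed_2827 (Lac K75.seed_2828 (Lac K75.seed_2829 (Lac K75.seed_2830 (Lac K75.seed_2831 (Lac K75.seed_2832 (Lac K75.seed_2833 (Lac K75.seed_2834 (Lac K75.seed_2835 (Lac K75.seed_2836 (Lac K75.seed_2837 (Lac K75.seed_2838 (Lac K75.seed_2839 (Lac K75.seed_2840 (Lac K75.seed_2841 (Lac K75.seed_2842 (Lac K75.seed_2843 (Lac K75.seed_2844 (Lac K75.seed_2845 (Lac K75.seed_2846 (Lac K75.seed_2847 (Lac K75.seed_2848 (Lac K75.seed_2849 (Lac K75.seed_2850 (Lac K75.seed_2851 (Lac K75.seed_2852 (Lac K75.seed_2853 (Lac K75.seed_2854 (Lac K75.seed_2855 (Lac K75.seed_2856 (Lac K75.seed_2857 (Lac K75.seed_2858 (Lac K75.seed_2859 (Lac K75.seed_2860 (Lac K75.seed_2861 (Lac K75.seed_2862 (Lac K75.seed_2863 (Lac K75.seed_2864 (Lac K75.seed_2865 (Lac K75.seed_2866 (Lac K75.seed_2867 (Lac K75.seed_2868 (Lac K75.seed_2869 (Lac K75.seed_2870 (Lac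 K75.seed_2871 (Lac K75.seed_2872 (Lac K75.seed_2873 (Lac K75.seed_2874 (Lac K75.seed_2875 (Lac K75.seed_2876 (Lac K75.seed_2877 (Lac K75.seed_2878 (Lac K75.seed_2879 (Lac K75.seed_2880 (Lac K75.seed_2881 (Lac K75.seed_2882 (Lac K75.seed_2883 (Lac K75.seed_2884 (Lac K75.seed_2885 (Lac K75.seed_2886 (Lac K75.seed_2887 (Lac K75.seed_2888 (Lac K75.seed_2889 (Lac K75.seed_2890 (Lac K75.seed_2891 (Lac K75.seed_2892 (Lac K75.seed_2893 (Lac K75.seed_2894 (Lac K75.seed_2895 (Lac K75.seed_2896 (Lac K75.seed_2897 (Lac K75.seed_2898 (Lac K75.seed_2899 hall_29))))))))))))))))))))))))))))))))))))))))))))))))))))))))))))))))))))))))))))))))))))))))))))))))))))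
theorem hall_27 : ∀ e ∈ spt_27, SQ e :=
  (Lac K74.seed_2700 (Lac K74.seed_2701 (Lac K74.seed_2702 (Lac K74.seed_2703 (Lac K74.seed_2704 (Lac K74.seed_2705 (Lac K74.seed_2706 (Lac K74.seed_2707 (Lac K74.seed_2708 (Lac K74.seed_2709 (Lac K74.seed_2710 (Lac K74.seed_2711 (Lac K74.seed_2712 (Lac K74.seed_2713 (Lac K74.seed_2714 (Lac K74.seed_2715 (Lac K74.seed_2716 (Lac K74.seed_2717 (Lac K74.seed_2718 (Lac K74.seed_2719 (Lac K74.seed_2720 (Lac K74.seed_2721 (Lac K74.seed_2722 (Lac K74.seed_2723 (Lac K74.seed_2724 (Lac K74.seed_2725 (Lac K74.seed_2726 (Lac K74.seed_2727 (Lac K74.seed_2728 (Lac K74.seed_2729 (Lac K74.seed_2730 (Lac K74.seed_2731 (Lac K74.seed_2732 (Lac K74.seed_2733 (Lac K74.seed_2734 (Lac K74.seed_2735 (Lac K74.seed_2736 (Lac K74.seed_2737 (Lac K74.seed_2738 (Lac K74.seed_2739 (Lac K74.seed_2740 (Lac K74.seed_2741 (Lac K74.seed_2742 (Lac K74.seed_2743 (Lac K74.seed_2744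 (Lac K74.seed_2745 (Lac K74.seed_2746 (Lac K74.seed_2747 (Lac K74.seed_2748 (Lac K74.seed_2749 (Lac K74.seed_2750 (Lac K74.seed_2751 (Lac K74.seed_2752 (Lac K74.seed_2753 (Lac K74.seed_2754 (Lac K74.seed_2755 (Lac K74.seed_2756 (Lac K74.seed_2757 (Lac K74.seed_2758 (Lac K74.seed_2759 (Lac K74.seed_2760 (Lac K74.seed_2761 (Lac K74.seed_2762 (Lac K74.seed_2763 (Lac K74.seed_2764 (Lac K74.seed_2765 (Lac K74.seed_2766 (Lac K74.seed_2767 (Lac K74.seed_2768 (Lac K74.seed_2769 (Lac K74.seed_2770 (Lac K74.seed_2771 (Lac K74.seed_2772 (Lac K74.seed_2773 (Lac K74.seed_2774 (Lac K74.seed_2775 (Lac K74.seed_2776 (Lac K74.seed_2777 (Lac K74.seed_2778 (Lac K74.seed_2779 (Lac K74.seed_2780 (Lac K74.seed_2781 (Lac K74.seed_2782 (Lac K74.seed_2783 (Lac K74.seed_2784 (Lac K74.seed_2785 (Lac K74.seed_2786 (Lac K74.seed_2787 (Lac K74.seed_2788 (Lac K74.seed_2789 (Lac K74.seed_2790 (Lac K74.seed_2791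 (Lac K74.seed_2792 (Lac K75.seed_2793 (Lac K75.seed_2794 (Lac K75.seed_2795 (Lac K75.seed_2796 (Lac K75.seed_2797 (Lac K75.seed_2798 (Lac K75.seed_2799 hall_28))))))))))))))))))))))))))))))))))))))))))))))))))))))))))))))))))))))))))))))))))))))))))))))))))))
theorem hall_26 : ∀ e ∈ spt_26, SQ e :=
  (Lac K73.seed_2600 (Lac K73.seed_2601 (Lac K73.seed_2602 (Lac K73.seed_2603 (Lac K73.seed_2604 (Lac K73.seed_2605 (Lac K73.seed_2606 (Lac K73.seed_2607 (Lac K73.seed_2608 (Lac K73.seed_2609 (Lac K73.seed_2610 (Lac K73.seed_2611 (Lac K73.seed_2612 (Lac K73.seed_2613 (Lac K73.seed_2614 (Lac K73.seed_2615 (Lac K73.seed_2616 (Lac K73.seed_2617 (Lac K73.seed_2618 (Lac K73.seed_2619 (Lac K73.seed_2620 (Lac K73.seed_2621 (Lac K73.seed_2622 (Lac K73.seed_2623 (Lac K73.seed_2624 (Lac K73.seed_2625 (Lac K73.seed_2626 (Lac K73.seed_2627 (Lac K73.seed_2628 (Lac K73.seed_2629 (Lac K73.seed_2630 (Lac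 K73.seed_2631 (Lac K73.seed_2632 (Lac K73.seed_2633 (Lac K73.seed_2634 (Lac K73.seed_2635 (Lac K73.seed_2636 (Lac K73.seed_2637 (Lac K73.seed_2638 (Lac K73.seed_2639 (Lac K73.seed_2640 (Lac K73.seed_2641 (Lac K73.seed_2642 (Lac K73.seed_2643 (Lac K73.seed_2644 (Lac K73.seed_2645 (Lac K73.seed_2646 (Lac K73.seed_2647 (Lac K73.seed_2648 (Lac K73.seed_2649 (Lac K73.seed_2650 (Lac K73.seed_2651 (Lac K73.seed_2652 (Lac K73.seed_2653 (Lac K73.seed_2654 (Lac K73.seed_2655 (Lac K73.seed_2656 (Lac K73.seed_2657 (Lac K73.seed_2658 (Lac K73.seed_2659 (Lac K73.seed_2660 (Lac K73.seed_2661 (Lac K73.seed_2662 (Lac K73.seed_2663 (Lac K73.seed_2664 (Lac K73.seed_2665 (Lac K73.seed_2666 (Lac K73.seed_2667 (Lac K73.seed_2668 (Lac K73.seed_2669 (Lac K73.seed_2670 (Lac K73.seed_2671 (Lac K73.seed_2672 (Lac K73.seed_2673 (Lac K73.seed_2674 (Lac K73.seed_2675 (Lac K73.seed_2676 (Lac K74.seed_2677 (Lac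 K74.seed_2678 (Lac K74.seed_2679 (Lac K74.seed_2680 (Lac K74.seed_2681 (Lac K74.seed_2682 (Lac K74.seed_2683 (Lac K74.seed_2684 (Lac K74.seed_2685 (Lac K74.seed_2686 (Lac K74.seed_2687 (Lac K74.seed_2688 (Lac K74.seed_2689 (Lac K74.seed_2690 (Lac K74.seed_2691 (Lac K74.seed_2692 (Lac K74.seed_2693 (Lac K74.seed_2694 (Lac K74.seed_2695 (Lac K74.seed_2696 (Lac K74.seed_2697 (Lac K74.seed_2698 (Lac K74.seed_2699 hall_27))))))))))))))))))))))))))))))))))))))))))))))))))))))))))))))))))))))))))))))))))))))))))))))))))))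
theorem hall_25 : ∀ e ∈ spt_25, SQ e :=
  (Lac K72.seed_2500 (Lac K72.seed_2501 (Lac K72.seed_2502 (Lac K72.seed_2503 (Lac K72.seed_2504 (Lac K72.seed_2505 (Lac K72.seed_2506 (Lac K72.seed_2507 (Lac K72.seed_2508 (Lac K72.seed_2509 (Lac K72.seed_2510 (Lac K72.seed_2511 (Lac K72.seed_2512 (Lac K72.seed_2513 (Lac K72.seed_2514 (Lac K72.seed_2515 (Lac K72.seed_2516 (Lac K72.seed_2517 (Lac K72.seed_2518 (Lac K72.seed_2519 (Lac K72.seed_2520 (Lac K72.seed_2521 (Lac K72.seed_2522 (Lac K72.seed_2523 (Lac K72.seed_2524 (Lac K72.seed_2525 (Lac K72.seed_2526 (Lac K72.seed_2527 (Lac K72.seed_2528 (Lac K72.seed_2529 (Lac K72.seed_2530 (Lac K72.seed_2531 (Lac K72.seed_2532 (Lac K72.seed_2533 (Lac K72.seed_2534 (Lac K72.seed_2535 (Lac K72.seed_2536 (Lac K72.seed_2537 (Lac K72.seed_2538 (Lac K72.seed_2539 (Lac K72.seed_2540 (Lac K72.seed_2541 (Lac K72.seed_2542 (Lac K72.seed_2543 (Lac K72.seed_2544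 (Lac K72.seed_2545 (Lac K72.seed_2546 (Lac K72.seed_2547 (Lac K72.seed_2548 (Lac K72.seed_2549 (Lac K72.seed_2550 (Lac K72.seed_2551 (Lac K72.seed_2552 (Lac K72.seed_2553 (Lac K72.seed_2554 (Lac K72.seed_2555 (Lac K72.seed_2556 (Lac K72.seed_2557 (Lac K72.seed_2558 (Lac K72.seed_2559 (Lac K72.seed_2560 (Lac K72.seed_2561 (Lac K72.seed_2562 (Lac K72.seed_2563 (Lac K72.seed_2564 (Lac K72.seed_2565 (Lac K72.seed_2566 (Lac K72.seed_2567 (Lac K72.seed_2568 (Lac K72.seed_2569 (Lac K72.seed_2570 (Lac K72.seed_2571 (Lac K72.seed_2572 (Lac K72.seed_2573 (Lac K72.seed_2574 (Lac K72.seed_2575 (Lac K72.seed_2576 (Lac K73.seed_2577 (Lac K73.seed_2578 (Lac K73.seed_2579 (Lac K73.seed_2580 (Lac K73.seed_2581 (Lac K73.seed_2582 (Lac K73.seed_2583 (Lac K73.seed_2584 (Lac K73.seed_2585 (Lac K73.seed_2586 (Lac K73.seed_2587 (Lac K73.seed_2588 (Lac K73.seed_2589 (Lac K73.seed_2590 (Lac K73.seed_2591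 (Lac K73.seed_2592 (Lac K73.seed_2593 (Lac K73.seed_2594 (Lac K73.seed_2595 (Lac K73.seed_2596 (Lac K73.seed_2597 (Lac K73.seed_2598 (Lac K73.seed_2599 hall_26))))))))))))))))))))))))))))))))))))))))))))))))))))))))))))))))))))))))))))))))))))))))))))))))))))
theorem hall_24 : ∀ e ∈ spt_24, SQ e :=
  (Lac K71.seed_2400 (Lac K71.seed_2401 (Lac K71.seed_2402 (Lac K71.seed_2403 (Lac K71.seed_2404 (Lac K71.seed_2405 (Lac K71.seed_2406 (Lac K71.seed_2407 (Lac K71.seed_2408 (Lac K71.seed_2409 (Lac K71.seed_2410 (Lac K71.seed_2411 (Lac K71.seed_2412 (Lac K71.seed_2413 (Lac K71.seed_2414 (Lac K71.seed_2415 (Lac K71.seed_2416 (Lac K71.seed_2417 (Lac K71.seed_2418 (Lac K71.seed_2419 (Lac K71.seed_2420 (Lac K71.seed_2421 (Lac K71.seed_2422 (Lac K71.seed_2423 (Lac K71.seed_2424 (Lac K71.seed_2425 (Lac K71.seed_2426 (Lac K71.seed_2427 (Lac K71.seed_2428 (Lac K71.seed_2429 (Lac K71.seed_2430 (Lac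 K71.seed_2431 (Lac K71.seed_2432 (Lac K71.seed_2433 (Lac K71.seed_2434 (Lac K71.seed_2435 (Lac K71.seed_2436 (Lac K71.seed_2437 (Lac K71.seed_2438 (Lac K71.seed_2439 (Lac K71.seed_2440 (Lac K71.seed_2441 (Lac K71.seed_2442 (Lac K71.seed_2443 (Lac K71.seed_2444 (Lac K71.seed_2445 (Lac K71.seed_2446 (Lac K71.seed_2447 (Lac K71.seed_2448 (Lac K71.seed_2449 (Lac K71.seed_2450 (Lac K71.seed_2451 (Lac K71.seed_2452 (Lac K71.seed_2453 (Lac K71.seed_2454 (Lac K71.seed_2455 (Lac K71.seed_2456 (Lac K71.seed_2457 (Lac K71.seed_2458 (Lac K71.seed_2459 (Lac K71.seed_2460 (Lac K71.seed_2461 (Lac K71.seed_2462 (Lac K71.seed_2463 (Lac K71.seed_2464 (Lac K71.seed_2465 (Lac K71.seed_2466 (Lac K71.seed_2467 (Lac K71.seed_2468 (Lac K71.seed_2469 (Lac K71.seed_2470 (Lac K71.seed_2471 (Lac K71.seed_2472 (Lac K71.seed_2473 (Lac K71.seed_2474 (Lac K71.seed_2475 (Lac K71.seed_2476 (Lac K71.seed_2477 (Lac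 K71.seed_2478 (Lac K72.seed_2479 (Lac K72.seed_2480 (Lac K72.seed_2481 (Lac K72.seed_2482 (Lac K72.seed_2483 (Lac K72.seed_2484 (Lac K72.seed_2485 (Lac K72.seed_2486 (Lac K72.seed_2487 (Lac K72.seed_2488 (Lac K72.seed_2489 (Lac K72.seed_2490 (Lac K72.seed_2491 (Lac K72.seed_2492 (Lac K72.seed_2493 (Lac K72.seed_2494 (Lac K72.seed_2495 (Lac K72.seed_2496 (Lac K72.seed_2497 (Lac K72.seed_2498 (Lac K72.seed_2499 hall_25))))))))))))))))))))))))))))))))))))))))))))))))))))))))))))))))))))))))))))))))))))))))))))))))))))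
theorem hall_23 : ∀ e ∈ spt_23, SQ e :=
  (Lac K70.seed_2300 (Lac K70.seed_2301 (Lac K70.seed_2302 (Lac K70.seed_2303 (Lac K70.seed_2304 (Lac K70.seed_2305 (Lac K70.seed_2306 (Lac K70.seed_2307 (Lac K70.seed_2308 (Lac K70.seed_2309 (Lac K70.seed_2310 (Lac K70.seed_2311 (Lac K70.seed_2312 (Lac K70.seed_2313 (Lac K70.seed_2314 (Lac K70.seed_2315 (Lac K70.seed_2316 (Lac K70.seed_2317 (Lac K70.seed_2318 (Lac K70.seed_2319 (Lac K70.seed_2320 (Lac K70.seed_2321 (Lac K70.seed_2322 (Lac K70.seed_2323 (Lac K70.seed_2324 (Lac K70.seed_2325 (Lac K70.seed_2326 (Lac K70.seed_2327 (Lac K70.seed_2328 (Lac K70.seed_2329 (Lac K70.seed_2330 (Lac K70.seed_2331 (Lac K70.seed_2332 (Lac K70.seed_2333 (Lac K70.seed_2334 (Lac K70.seed_2335 (Lac K70.seed_2336 (Lac K70.seed_2337 (Lac K70.seed_2338 (Lac K70.seed_2339 (Lac K70.seed_2340 (Lac K70.seed_2341 (Lac K70.seed_2342 (Lac K70.seed_2343 (Lac K70.seed_2344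 (Lac K70.seed_2345 (Lac K70.seed_2346 (Lac K70.seed_2347 (Lac K70.seed_2348 (Lac K70.seed_2349 (Lac K70.seed_2350 (Lac K70.seed_2351 (Lac K70.seed_2352 (Lac K70.seed_2353 (Lac K70.seed_2354 (Lac K70.seed_2355 (Lac K70.seed_2356 (Lac K70.seed_2357 (Lac K70.seed_2358 (Lac K70.seed_2359 (Lac K70.seed_2360 (Lac K70.seed_2361 (Lac K70.seed_2362 (Lac K70.seed_2363 (Lac K70.seed_2364 (Lac K70.seed_2365 (Lac K70.seed_2366 (Lac K70.seed_2367 (Lac K70.seed_2368 (Lac K70.seed_2369 (Lac K70.seed_2370 (Lac K70.seed_2371 (Lac K70.seed_2372 (Lac K70.seed_2373 (Lac K70.seed_2374 (Lac K70.seed_2375 (Lac K70.seed_2376 (Lac K70.seed_2377 (Lac K70.seed_2378 (Lac K70.seed_2379 (Lac K70.seed_2380 (Lac K70.seed_2381 (Lac K70.seed_2382 (Lac K70.seed_2383 (Lac K70.seed_2384 (Lac K70.seed_2385 (Lac K70.seed_2386 (Lac K70.seed_2387 (Lac K70.seed_2388 (Lac K70.seed_2389 (Lac K70.seed_2390 (Lac K70.seed_2391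 (Lac K71.seed_2392 (Lac K71.seed_2393 (Lac K71.seed_2394 (Lac K71.seed_2395 (Lac K71.seed_2396 (Lac K71.seed_2397 (Lac K71.seed_2398 (Lac K71.seed_2399 hall_24))))))))))))))))))))))))))))))))))))))))))))))))))))))))))))))))))))))))))))))))))))))))))))))))))))
theorem hall_22 : ∀ e ∈ spt_22, SQ e :=
  (Lac K69.seed_2200 (Lac K69.seed_2201 (Lac K69.seed_2202 (Lac K69.seed_2203 (Lac K69.seed_2204 (Lac K69.seed_2205 (Lac K69.seed_2206 (Lac K69.seed_2207 (Lac K69.seed_2208 (Lac K69.seed_2209 (Lac K69.seed_2210 (Lac K69.seed_2211 (Lac K69.seed_2212 (Lac K69.seed_2213 (Lac K69.seed_2214 (Lac K69.seed_2215 (Lac K69.seed_2216 (Lac K69.seed_2217 (Lac K69.seed_2218 (Lac K69.seed_2219 (Lac K69.seed_2220 (Lac K69.seed_2221 (Lac K69.seed_2222 (Lac K69.seed_2223 (Lac K69.seed_2224 (Lac K69.seed_2225 (Lac K69.seed_2226 (Lac K69.seed_2227 (Lac K69.seed_2228 (Lac K69.seed_2229 (Lac K69.seed_2230 (Lac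 K69.seed_2231 (Lac K69.seed_2232 (Lac K69.seed_2233 (Lac K69.seed_2234 (Lac K69.seed_2235 (Lac K69.seed_2236 (Lac K69.seed_2237 (Lac K69.seed_2238 (Lac K69.seed_2239 (Lac K69.seed_2240 (Lac K69.seed_2241 (Lac K69.seed_2242 (Lac K69.seed_2243 (Lac K69.seed_2244 (Lac K69.seed_2245 (Lac K69.seed_2246 (Lac K69.seed_2247 (Lac K69.seed_2248 (Lac K69.seed_2249 (Lac K69.seed_2250 (Lac K69.seed_2251 (Lac K69.seed_2252 (Lac K69.seed_2253 (Lac K69.seed_2254 (Lac K69.seed_2255 (Lac K69.seed_2256 (Lac K69.seed_2257 (Lac K69.seed_2258 (Lac K69.seed_2259 (Lac K69.seed_2260 (Lac K69.seed_2261 (Lac K69.seed_2262 (Lac K69.seed_2263 (Lac K69.seed_2264 (Lac K69.seed_2265 (Lac K69.seed_2266 (Lac K70.seed_2267 (Lac K70.seed_2268 (Lac K70.seed_2269 (Lac K70.seed_2270 (Lac K70.seed_2271 (Lac K70.seed_2272 (Lac K70.seed_2273 (Lac K70.seed_2274 (Lac K70.seed_2275 (Lac K70.seed_2276 (Lac K70.seed_2277 (Lac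 K70.seed_2278 (Lac K70.seed_2279 (Lac K70.seed_2280 (Lac K70.seed_2281 (Lac K70.seed_2282 (Lac K70.seed_2283 (Lac K70.seed_2284 (Lac K70.seed_2285 (Lac K70.seed_2286 (Lac K70.seed_2287 (Lac K70.seed_2288 (Lac K70.seed_2289 (Lac K70.seed_2290 (Lac K70.seed_2291 (Lac K70.seed_2292 (Lac K70.seed_2293 (Lac K70.seed_2294 (Lac K70.seed_2295 (Lac K70.seed_2296 (Lac K70.seed_2297 (Lac K70.seed_2298 (Lac K70.seed_2299 hall_23))))))))))))))))))))))))))))))))))))))))))))))))))))))))))))))))))))))))))))))))))))))))))))))))))))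
theorem hall_21 : ∀ e ∈ spt_21, SQ e :=
  (Lac K68.seed_2100 (Lac K68.seed_2101 (Lac K68.seed_2102 (Lac K68.seed_2103 (Lac K68.seed_2104 (Lac K68.seed_2105 (Lac K68.seed_2106 (Lac K68.seed_2107 (Lac K68.seed_2108 (Lac K68.seed_2109 (Lac K68.seed_2110 (Lac K68.seed_2111 (Lac K68.seed_2112 (Lac K68.seed_2113 (Lac K68.seed_2114 (Lac K68.seed_2115 (Lac K68.seed_2116 (Lac K68.seed_2117 (Lac K68.seed_2118 (Lac K68.seed_2119 (Lac K68.seed_2120 (Lac K68.seed_2121 (Lac K68.seed_2122 (Lac K68.seed_2123 (Lac K68.seed_2124 (Lac K68.seed_2125 (Lac K68.seed_2126 (Lac K68.seed_2127 (Lac K68.seed_2128 (Lac K68.seed_2129 (Lac K68.seed_2130 (Lac K68.seed_2131 (Lac K68.seed_2132 (Lac K68.seed_2133 (Lac K68.seed_2134 (Lac K68.seed_2135 (Lac K68.seed_2136 (Lac K68.seed_2137 (Lac K68.seed_2138 (Lac K68.seed_2139 (Lac K68.seed_2140 (Lac K68.seed_2141 (Lac K68.seed_2142 (Lac K68.seed_2143 (Lac K68.seed_2144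 (Lac K68.seed_2145 (Lac K68.seed_2146 (Lac K68.seed_2147 (Lac K68.seed_2148 (Lac K68.seed_2149 (Lac K68.seed_2150 (Lac K68.seed_2151 (Lac K68.seed_2152 (Lac K68.seed_2153 (Lac K68.seed_2154 (Lac K68.seed_2155 (Lac K68.seed_2156 (Lac K68.seed_2157 (Lac K69.seed_2158 (Lac K69.seed_2159 (Lac K69.seed_2160 (Lac K69.seed_2161 (Lac K69.seed_2162 (Lac K69.seed_2163 (Lac K69.seed_2164 (Lac K69.seed_2165 (Lac K69.seed_2166 (Lac K69.seed_2167 (Lac K69.seed_2168 (Lac K69.seed_2169 (Lac K69.seed_2170 (Lac K69.seed_2171 (Lac K69.seed_2172 (Lac K69.seed_2173 (Lac K69.seed_2174 (Lac K69.seed_2175 (Lac K69.seed_2176 (Lac K69.seed_2177 (Lac K69.seed_2178 (Lac K69.seed_2179 (Lac K69.seed_2180 (Lac K69.seed_2181 (Lac K69.seed_2182 (Lac K69.seed_2183 (Lac K69.seed_2184 (Lac K69.seed_2185 (Lac K69.seed_2186 (Lac K69.seed_2187 (Lac K69.seed_2188 (Lac K69.seed_2189 (Lac K69.seed_2190 (Lac K69.seed_2191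 (Lac K69.seed_2192 (Lac K69.seed_2193 (Lac K69.seed_2194 (Lac K69.seed_2195 (Lac K69.seed_2196 (Lac K69.seed_2197 (Lac K69.seed_2198 (Lac K69.seed_2199 hall_22))))))))))))))))))))))))))))))))))))))))))))))))))))))))))))))))))))))))))))))))))))))))))))))))))))
theorem hall_20 : ∀ e ∈ spt_20, SQ e :=
  (Lac K66.seed_2000 (Lac K66.seed_2001 (Lac K66.seed_2002 (Lac K66.seed_2003 (Lac K66.seed_2004 (Lac K66.seed_2005 (Lac K66.seed_2006 (Lac K66.seed_2007 (Lac K66.seed_2008 (Lac K66.seed_2009 (Lac K66.seed_2010 (Lac K66.seed_2011 (Lac K66.seed_2012 (Lac K66.seed_2013 (Lac K66.seed_2014 (Lac K66.seed_2015 (Lac K66.seed_2016 (Lac K66.seed_2017 (Lac K66.seed_2018 (Lac K66.seed_2019 (Lac K67.seed_2020 (Lac K67.seed_2021 (Lac K67.seed_2022 (Lac K67.seed_2023 (Lac K67.seed_2024 (Lac K67.seed_2025 (Lac K67.seed_2026 (Lac K67.seed_2027 (Lac K67.seed_2028 (Lac K67.seed_2029 (Lac K67.seed_2030 (Lac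 K67.seed_2031 (Lac K67.seed_2032 (Lac K67.seed_2033 (Lac K67.seed_2034 (Lac K67.seed_2035 (Lac K67.seed_2036 (Lac K67.seed_2037 (Lac K67.seed_2038 (Lac K67.seed_2039 (Lac K67.seed_2040 (Lac K67.seed_2041 (Lac K67.seed_2042 (Lac K67.seed_2043 (Lac K67.seed_2044 (Lac K67.seed_2045 (Lac K67.seed_2046 (Lac K67.seed_2047 (Lac K67.seed_2048 (Lac K67.seed_2049 (Lac K67.seed_2050 (Lac K67.seed_2051 (Lac K67.seed_2052 (Lac K67.seed_2053 (Lac K67.seed_2054 (Lac K67.seed_2055 (Lac K67.seed_2056 (Lac K67.seed_2057 (Lac K67.seed_2058 (Lac K67.seed_2059 (Lac K67.seed_2060 (Lac K67.seed_2061 (Lac K67.seed_2062 (Lac K67.seed_2063 (Lac K67.seed_2064 (Lac K67.seed_2065 (Lac K67.seed_2066 (Lac K67.seed_2067 (Lac K67.seed_2068 (Lac K67.seed_2069 (Lac K67.seed_2070 (Lac K67.seed_2071 (Lac K67.seed_2072 (Lac K67.seed_2073 (Lac K67.seed_2074 (Lac K67.seed_2075 (Lac K67.seed_2076 (Lac K67.seed_2077 (Lac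 K67.seed_2078 (Lac K67.seed_2079 (Lac K67.seed_2080 (Lac K67.seed_2081 (Lac K67.seed_2082 (Lac K67.seed_2083 (Lac K67.seed_2084 (Lac K67.seed_2085 (Lac K67.seed_2086 (Lac K67.seed_2087 (Lac K67.seed_2088 (Lac K67.seed_2089 (Lac K67.seed_2090 (Lac K68.seed_2091 (Lac K68.seed_2092 (Lac K68.seed_2093 (Lac K68.seed_2094 (Lac K68.seed_2095 (Lac K68.seed_2096 (Lac K68.seed_2097 (Lac K68.seed_2098 (Lac K68.seed_2099 hall_21))))))))))))))))))))))))))))))))))))))))))))))))))))))))))))))))))))))))))))))))))))))))))))))))))))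
theorem hall_19 : ∀ e ∈ spt_19, SQ e :=
  (Lac K65.seed_1900 (Lac K65.seed_1901 (Lac K65.seed_1902 (Lac K65.seed_1903 (Lac K65.seed_1904 (Lac K65.seed_1905 (Lac K65.seed_1906 (Lac K65.seed_1907 (Lac K65.seed_1908 (Lac K65.seed_1909 (Lac K65.seed_1910 (Lac K65.seed_1911 (Lac K65.seed_1912 (Lac K65.seed_1913 (Lac K65.seed_1914 (Lac K65.seed_1915 (Lac K65.seed_1916 (Lac K65.seed_1917 (Lac K65.seed_1918 (Lac K65.seed_1919 (Lac K65.seed_1920 (Lac K65.seed_1921 (Lac K65.seed_1922 (Lac K65.seed_1923 (Lac K65.seed_1924 (Lac K65.seed_1925 (Lac K65.seed_1926 (Lac K65.seed_1927 (Lac K65.seed_1928 (Lac K65.seed_1929 (Lac K65.seed_1930 (Lac K65.seed_1931 (Lac K65.seed_1932 (Lac K65.seed_1933 (Lac K65.seed_1934 (Lac K65.seed_1935 (Lac K65.seed_1936 (Lac K65.seed_1937 (Lac K65.seed_1938 (Lac K65.seed_1939 (Lac K65.seed_1940 (Lac K65.seed_1941 (Lac K65.seed_1942 (Lac K65.seed_1943 (Lac K65.seed_1944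 (Lac K65.seed_1945 (Lac K65.seed_1946 (Lac K65.seed_1947 (Lac K65.seed_1948 (Lac K65.seed_1949 (Lac K65.seed_1950 (Lac K65.seed_1951 (Lac K65.seed_1952 (Lac K65.seed_1953 (Lac K65.seed_1954 (Lac K65.seed_1955 (Lac K65.seed_1956 (Lac K65.seed_1957 (Lac K65.seed_1958 (Lac K66.seed_1959 (Lac K66.seed_1960 (Lac K66.seed_1961 (Lac K66.seed_1962 (Lac K66.seed_1963 (Lac K66.seed_1964 (Lac K66.seed_1965 (Lac K66.seed_1966 (Lac K66.seed_1967 (Lac K66.seed_1968 (Lac K66.seed_1969 (Lac K66.seed_1970 (Lac K66.seed_1971 (Lac K66.seed_1972 (Lac K66.seed_1973 (Lac K66.seed_1974 (Lac K66.seed_1975 (Lac K66.seed_1976 (Lac K66.seed_1977 (Lac K66.seed_1978 (Lac K66.seed_1979 (Lac K66.seed_1980 (Lac K66.seed_1981 (Lac K66.seed_1982 (Lac K66.seed_1983 (Lac K66.seed_1984 (Lac K66.seed_1985 (Lac K66.seed_1986 (Lac K66.seed_1987 (Lac K66.seed_1988 (Lac K66.seed_1989 (Lac K66.seed_1990 (Lac K66.seed_1991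 (Lac K66.seed_1992 (Lac K66.seed_1993 (Lac K66.seed_1994 (Lac K66.seed_1995 (Lac K66.seed_1996 (Lac K66.seed_1997 (Lac K66.seed_1998 (Lac K66.seed_1999 hall_20))))))))))))))))))))))))))))))))))))))))))))))))))))))))))))))))))))))))))))))))))))))))))))))))))))
theorem hall_18 : ∀ e ∈ spt_18, SQ e :=
  (Lac K63.seed_1800 (Lac K63.seed_1801 (Lac K63.seed_1802 (Lac K63.seed_1803 (Lac K63.seed_1804 (Lac K63.seed_1805 (Lac K63.seed_1806 (Lac K63.seed_1807 (Lac K63.seed_1808 (Lac K63.seed_1809 (Lac K63.seed_1810 (Lac K63.seed_1811 (Lac K63.seed_1812 (Lac K63.seed_1813 (Lac K63.seed_1814 (Lac K64.seed_1815 (Lac K64.seed_1816 (Lac K64.seed_1817 (Lac K64.seed_1818 (Lac K64.seed_1819 (Lac K64.seed_1820 (Lac K64.seed_1821 (Lac K64.seed_1822 (Lac K64.seed_1823 (Lac K64.seed_1824 (Lac K64.seed_1825 (Lac K64.seed_1826 (Lac K64.seed_1827 (Lac K64.seed_1828 (Lac K64.seed_1829 (Lac K64.seed_1830 (Lac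 K64.seed_1831 (Lac K64.seed_1832 (Lac K64.seed_1833 (Lac K64.seed_1834 (Lac K64.seed_1835 (Lac K64.seed_1836 (Lac K64.seed_1837 (Lac K64.seed_1838 (Lac K64.seed_1839 (Lac K64.seed_1840 (Lac K64.seed_1841 (Lac K64.seed_1842 (Lac K64.seed_1843 (Lac K64.seed_1844 (Lac K64.seed_1845 (Lac K64.seed_1846 (Lac K64.seed_1847 (Lac K64.seed_1848 (Lac K64.seed_1849 (Lac K64.seed_1850 (Lac K64.seed_1851 (Lac K64.seed_1852 (Lac K64.seed_1853 (Lac K64.seed_1854 (Lac K64.seed_1855 (Lac K64.seed_1856 (Lac K64.seed_1857 (Lac K64.seed_1858 (Lac K64.seed_1859 (Lac K64.seed_1860 (Lac K64.seed_1861 (Lac K64.seed_1862 (Lac K64.seed_1863 (Lac K64.seed_1864 (Lac K64.seed_1865 (Lac K64.seed_1866 (Lac K64.seed_1867 (Lac K64.seed_1868 (Lac K64.seed_1869 (Lac K64.seed_1870 (Lac K65.seed_1871 (Lac K65.seed_1872 (Lac K65.seed_1873 (Lac K65.seed_1874 (Lac K65.seed_1875 (Lac K65.seed_1876 (Lac K65.seed_1877 (Lac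 K65.seed_1878 (Lac K65.seed_1879 (Lac K65.seed_1880 (Lac K65.seed_1881 (Lac K65.seed_1882 (Lac K65.seed_1883 (Lac K65.seed_1884 (Lac K65.seed_1885 (Lac K65.seed_1886 (Lac K65.seed_1887 (Lac K65.seed_1888 (Lac K65.seed_1889 (Lac K65.seed_1890 (Lac K65.seed_1891 (Lac K65.seed_1892 (Lac K65.seed_1893 (Lac K65.seed_1894 (Lac K65.seed_1895 (Lac K65.seed_1896 (Lac K65.seed_1897 (Lac K65.seed_1898 (Lac K65.seed_1899 hall_19))))))))))))))))))))))))))))))))))))))))))))))))))))))))))))))))))))))))))))))))))))))))))))))))))))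
theorem hall_17 : ∀ e ∈ spt_17, SQ e :=
  (Lac K63.seed_1700 (Lac K63.seed_1701 (Lac K63.seed_1702 (Lac K63.seed_1703 (Lac K63.seed_1704 (Lac K63.seed_1705 (Lac K63.seed_1706 (Lac K63.seed_1707 (Lac K63.seed_1708 (Lac K63.seed_1709 (Lac K63.seed_1710 (Lac K63.seed_1711 (Lac K63.seed_1712 (Lac K63.seed_1713 (Lac K63.seed_1714 (Lac K63.seed_1715 (Lac K63.seed_1716 (Lac K63.seed_1717 (Lac K63.seed_1718 (Lac K63.seed_1719 (Lac K63.seed_1720 (Lac K63.seed_1721 (Lac K63.seed_1722 (Lac K63.seed_1723 (Lac K63.seed_1724 (Lac K63.seed_1725 (Lac K63.seed_1726 (Lac K63.seed_1727 (Lac K63.seed_1728 (Lac K63.seed_1729 (Lac K63.seed_1730 (Lac K63.seed_1731 (Lac K63.seed_1732 (Lac K63.seed_1733 (Lac K63.seed_1734 (Lac K63.seed_1735 (Lac K63.seed_1736 (Lac K63.seed_1737 (Lac K63.seed_1738 (Lac K63.seed_1739 (Lac K63.seed_1740 (Lac K63.seed_1741 (Lac K63.seed_1742 (Lac K63.seed_1743 (Lac K63.seed_1744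 (Lac K63.seed_1745 (Lac K63.seed_1746 (Lac K63.seed_1747 (Lac K63.seed_1748 (Lac K63.seed_1749 (Lac K63.seed_1750 (Lac K63.seed_1751 (Lac K63.seed_1752 (Lac K63.seed_1753 (Lac K63.seed_1754 (Lac K63.seed_1755 (Lac K63.seed_1756 (Lac K63.seed_1757 (Lac K63.seed_1758 (Lac K63.seed_1759 (Lac K63.seed_1760 (Lac K63.seed_1761 (Lac K63.seed_1762 (Lac K63.seed_1763 (Lac K63.seed_1764 (Lac K63.seed_1765 (Lac K63.seed_1766 (Lac K63.seed_1767 (Lac K63.seed_1768 (Lac K63.seed_1769 (Lac K63.seed_1770 (Lac K63.seed_1771 (Lac K63.seed_1772 (Lac K63.seed_1773 (Lac K63.seed_1774 (Lac K63.seed_1775 (Lac K63.seed_1776 (Lac K63.seed_1777 (Lac K63.seed_1778 (Lac K63.seed_1779 (Lac K63.seed_1780 (Lac K63.seed_1781 (Lac K63.seed_1782 (Lac K63.seed_1783 (Lac K63.seed_1784 (Lac K63.seed_1785 (Lac K63.seed_1786 (Lac K63.seed_1787 (Lac K63.seed_1788 (Lac K63.seed_1789 (Lac K63.seed_1790 (Lac K63.seed_1791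 (Lac K63.seed_1792 (Lac K63.seed_1793 (Lac K63.seed_1794 (Lac K63.seed_1795 (Lac K63.seed_1796 (Lac K63.seed_1797 (Lac K63.seed_1798 (Lac K63.seed_1799 hall_18))))))))))))))))))))))))))))))))))))))))))))))))))))))))))))))))))))))))))))))))))))))))))))))))))))
theorem hall_16 : ∀ e ∈ spt_16, SQ e :=
  (Lac K62.seed_1600 (Lac K62.seed_1601 (Lac K62.seed_1602 (Lac K62.seed_1603 (Lac K62.seed_1604 (Lac K62.seed_1605 (Lac K62.seed_1606 (Lac K62.seed_1607 (Lac K62.seed_1608 (Lac K62.seed_1609 (Lac K62.seed_1610 (Lac K62.seed_1611 (Lac K62.seed_1612 (Lac K62.seed_1613 (Lac K62.seed_1614 (Lac K62.seed_1615 (Lac K62.seed_1616 (Lac K62.seed_1617 (Lac K62.seed_1618 (Lac K62.seed_1619 (Lac K62.seed_1620 (Lac K62.seed_1621 (Lac K62.seed_1622 (Lac K62.seed_1623 (Lac K62.seed_1624 (Lac K62.seed_1625 (Lac K62.seed_1626 (Lac K62.seed_1627 (Lac K62.seed_1628 (Lac K62.seed_1629 (Lac K62.seed_1630 (Lac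 K62.seed_1631 (Lac K62.seed_1632 (Lac K62.seed_1633 (Lac K62.seed_1634 (Lac K62.seed_1635 (Lac K62.seed_1636 (Lac K62.seed_1637 (Lac K62.seed_1638 (Lac K62.seed_1639 (Lac K62.seed_1640 (Lac K62.seed_1641 (Lac K62.seed_1642 (Lac K62.seed_1643 (Lac K62.seed_1644 (Lac K62.seed_1645 (Lac K62.seed_1646 (Lac K62.seed_1647 (Lac K62.seed_1648 (Lac K62.seed_1649 (Lac K62.seed_1650 (Lac K62.seed_1651 (Lac K62.seed_1652 (Lac K62.seed_1653 (Lac K62.seed_1654 (Lac K62.seed_1655 (Lac K62.seed_1656 (Lac K62.seed_1657 (Lac K62.seed_1658 (Lac K62.seed_1659 (Lac K62.seed_1660 (Lac K62.seed_1661 (Lac K62.seed_1662 (Lac K62.seed_1663 (Lac K62.seed_1664 (Lac K62.seed_1665 (Lac K62.seed_1666 (Lac K62.seed_1667 (Lac K62.seed_1668 (Lac K62.seed_1669 (Lac K62.seed_1670 (Lac K62.seed_1671 (Lac K62.seed_1672 (Lac K62.seed_1673 (Lac K62.seed_1674 (Lac K62.seed_1675 (Lac K62.seed_1676 (Lac K62.seed_1677 (Lac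 K62.seed_1678 (Lac K62.seed_1679 (Lac K62.seed_1680 (Lac K62.seed_1681 (Lac K63.seed_1682 (Lac K63.seed_1683 (Lac K63.seed_1684 (Lac K63.seed_1685 (Lac K63.seed_1686 (Lac K63.seed_1687 (Lac K63.seed_1688 (Lac K63.seed_1689 (Lac K63.seed_1690 (Lac K63.seed_1691 (Lac K63.seed_1692 (Lac K63.seed_1693 (Lac K63.seed_1694 (Lac K63.seed_1695 (Lac K63.seed_1696 (Lac K63.seed_1697 (Lac K63.seed_1698 (Lac K63.seed_1699 hall_17))))))))))))))))))))))))))))))))))))))))))))))))))))))))))))))))))))))))))))))))))))))))))))))))))))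
theorem hall_15 : ∀ e ∈ spt_15, SQ e :=
  (Lac K60.seed_1500 (Lac K60.seed_1501 (Lac K60.seed_1502 (Lac K60.seed_1503 (Lac K60.seed_1504 (Lac K60.seed_1505 (Lac K60.seed_1506 (Lac K60.seed_1507 (Lac K60.seed_1508 (Lac K60.seed_1509 (Lac K60.seed_1510 (Lac K60.seed_1511 (Lac K60.seed_1512 (Lac K60.seed_1513 (Lac K60.seed_1514 (Lac K60.seed_1515 (Lac K60.seed_1516 (Lac K60.seed_1517 (Lac K61.seed_1518 (Lac K61.seed_1519 (Lac K61.seed_1520 (Lac K61.seed_1521 (Lac K61.seed_1522 (Lac K61.seed_1523 (Lac K61.seed_1524 (Lac K61.seed_1525 (Lac K61.seed_1526 (Lac K61.seed_1527 (Lac K61.seed_1528 (Lac K61.seed_1529 (Lac K61.seed_1530 (Lac K61.seed_1531 (Lac K61.seed_1532 (Lac K61.seed_1533 (Lac K61.seed_1534 (Lac K61.seed_1535 (Lac K61.seed_1536 (Lac K61.seed_1537 (Lac K61.seed_1538 (Lac K61.seed_1539 (Lac K61.seed_1540 (Lac K61.seed_1541 (Lac K61.seed_1542 (Lac K61.seed_1543 (Lac K61.seed_1544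 (Lac K61.seed_1545 (Lac K61.seed_1546 (Lac K61.seed_1547 (Lac K61.seed_1548 (Lac K61.seed_1549 (Lac K61.seed_1550 (Lac K61.seed_1551 (Lac K61.seed_1552 (Lac K61.seed_1553 (Lac K61.seed_1554 (Lac K61.seed_1555 (Lac K61.seed_1556 (Lac K61.seed_1557 (Lac K61.seed_1558 (Lac K61.seed_1559 (Lac K61.seed_1560 (Lac K61.seed_1561 (Lac K61.seed_1562 (Lac K61.seed_1563 (Lac K61.seed_1564 (Lac K61.seed_1565 (Lac K61.seed_1566 (Lac K61.seed_1567 (Lac K61.seed_1568 (Lac K61.seed_1569 (Lac K61.seed_1570 (Lac K61.seed_1571 (Lac K61.seed_1572 (Lac K61.seed_1573 (Lac K61.seed_1574 (Lac K61.seed_1575 (Lac K61.seed_1576 (Lac K61.seed_1577 (Lac K61.seed_1578 (Lac K61.seed_1579 (Lac K61.seed_1580 (Lac K61.seed_1581 (Lac K61.seed_1582 (Lac K61.seed_1583 (Lac K61.seed_1584 (Lac K61.seed_1585 (Lac K61.seed_1586 (Lac K61.seed_1587 (Lac K61.seed_1588 (Lac K61.seed_1589 (Lac K61.seed_1590 (Lac K62.seed_1591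 (Lac K62.seed_1592 (Lac K62.seed_1593 (Lac K62.seed_1594 (Lac K62.seed_1595 (Lac K62.seed_1596 (Lac K62.seed_1597 (Lac K62.seed_1598 (Lac K62.seed_1599 hall_16))))))))))))))))))))))))))))))))))))))))))))))))))))))))))))))))))))))))))))))))))))))))))))))))))))
theorem hall_14 : ∀ e ∈ spt_14, SQ e :=
  (Lac K59.seed_1400 (Lac K59.seed_1401 (Lac K59.seed_1402 (Lac K59.seed_1403 (Lac K59.seed_1404 (Lac K59.seed_1405 (Lac K59.seed_1406 (Lac K59.seed_1407 (Lac K59.seed_1408 (Lac K59.seed_1409 (Lac K59.seed_1410 (Lac K59.seed_1411 (Lac K59.seed_1412 (Lac K60.seed_1413 (Lac K60.seed_1414 (Lac K60.seed_1415 (Lac K60.seed_1416 (Lac K60.seed_1417 (Lac K60.seed_1418 (Lac K60.seed_1419 (Lac K60.seed_1420 (Lac K60.seed_1421 (Lac K60.seed_1422 (Lac K60.seed_1423 (Lac K60.seed_1424 (Lac K60.seed_1425 (Lac K60.seed_1426 (Lac K60.seed_1427 (Lac K60.seed_1428 (Lac K60.seed_1429 (Lac K60.seed_1430 (Lac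 K60.seed_1431 (Lac K60.seed_1432 (Lac K60.seed_1433 (Lac K60.seed_1434 (Lac K60.seed_1435 (Lac K60.seed_1436 (Lac K60.seed_1437 (Lac K60.seed_1438 (Lac K60.seed_1439 (Lac K60.seed_1440 (Lac K60.seed_1441 (Lac K60.seed_1442 (Lac K60.seed_1443 (Lac K60.seed_1444 (Lac K60.seed_1445 (Lac K60.seed_1446 (Lac K60.seed_1447 (Lac K60.seed_1448 (Lac K60.seed_1449 (Lac K60.seed_1450 (Lac K60.seed_1451 (Lac K60.seed_1452 (Lac K60.seed_1453 (Lac K60.seed_1454 (Lac K60.seed_1455 (Lac K60.seed_1456 (Lac K60.seed_1457 (Lac K60.seed_1458 (Lac K60.seed_1459 (Lac K60.seed_1460 (Lac K60.seed_1461 (Lac K60.seed_1462 (Lac K60.seed_1463 (Lac K60.seed_1464 (Lac K60.seed_1465 (Lac K60.seed_1466 (Lac K60.seed_1467 (Lac K60.seed_1468 (Lac K60.seed_1469 (Lac K60.seed_1470 (Lac K60.seed_1471 (Lac K60.seed_1472 (Lac K60.seed_1473 (Lac K60.seed_1474 (Lac K60.seed_1475 (Lac K60.seed_1476 (Lac K60.seed_1477 (Lac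 K60.seed_1478 (Lac K60.seed_1479 (Lac K60.seed_1480 (Lac K60.seed_1481 (Lac K60.seed_1482 (Lac K60.seed_1483 (Lac K60.seed_1484 (Lac K60.seed_1485 (Lac K60.seed_1486 (Lac K60.seed_1487 (Lac K60.seed_1488 (Lac K60.seed_1489 (Lac K60.seed_1490 (Lac K60.seed_1491 (Lac K60.seed_1492 (Lac K60.seed_1493 (Lac K60.seed_1494 (Lac K60.seed_1495 (Lac K60.seed_1496 (Lac K60.seed_1497 (Lac K60.seed_1498 (Lac K60.seed_1499 hall_15))))))))))))))))))))))))))))))))))))))))))))))))))))))))))))))))))))))))))))))))))))))))))))))))))))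
theorem hall_13 : ∀ e ∈ spt_13, SQ e :=
  (Lac K58.seed_1300 (Lac K58.seed_1301 (Lac K58.seed_1302 (Lac K58.seed_1303 (Lac K58.seed_1304 (Lac K58.seed_1305 (Lac K58.seed_1306 (Lac K58.seed_1307 (Lac K58.seed_1308 (Lac K58.seed_1309 (Lac K58.seed_1310 (Lac K59.seed_1311 (Lac K59.seed_1312 (Lac K59.seed_1313 (Lac K59.seed_1314 (Lac K59.seed_1315 (Lac K59.seed_1316 (Lac K59.seed_1317 (Lac K59.seed_1318 (Lac K59.seed_1319 (Lac K59.seed_1320 (Lac K59.seed_1321 (Lac K59.seed_1322 (Lac K59.seed_1323 (Lac K59.seed_1324 (Lac K59.seed_1325 (Lac K59.seed_1326 (Lac K59.seed_1327 (Lac K59.seed_1328 (Lac K59.seed_1329 (Lac K59.seed_1330 (Lac K59.seed_1331 (Lac K59.seed_1332 (Lac K59.seed_1333 (Lac K59.seed_1334 (Lac K59.seed_1335 (Lac K59.seed_1336 (Lac K59.seed_1337 (Lac K59.seed_1338 (Lac K59.seed_1339 (Lac K59.seed_1340 (Lac K59.seed_1341 (Lac K59.seed_1342 (Lac K59.seed_1343 (Lac K59.seed_1344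 (Lac K59.seed_1345 (Lac K59.seed_1346 (Lac K59.seed_1347 (Lac K59.seed_1348 (Lac K59.seed_1349 (Lac K59.seed_1350 (Lac K59.seed_1351 (Lac K59.seed_1352 (Lac K59.seed_1353 (Lac K59.seed_1354 (Lac K59.seed_1355 (Lac K59.seed_1356 (Lac K59.seed_1357 (Lac K59.seed_1358 (Lac K59.seed_1359 (Lac K59.seed_1360 (Lac K59.seed_1361 (Lac K59.seed_1362 (Lac K59.seed_1363 (Lac K59.seed_1364 (Lac K59.seed_1365 (Lac K59.seed_1366 (Lac K59.seed_1367 (Lac K59.seed_1368 (Lac K59.seed_1369 (Lac K59.seed_1370 (Lac K59.seed_1371 (Lac K59.seed_1372 (Lac K59.seed_1373 (Lac K59.seed_1374 (Lac K59.seed_1375 (Lac K59.seed_1376 (Lac K59.seed_1377 (Lac K59.seed_1378 (Lac K59.seed_1379 (Lac K59.seed_1380 (Lac K59.seed_1381 (Lac K59.seed_1382 (Lac K59.seed_1383 (Lac K59.seed_1384 (Lac K59.seed_1385 (Lac K59.seed_1386 (Lac K59.seed_1387 (Lac K59.seed_1388 (Lac K59.seed_1389 (Lac K59.seed_1390 (Lac K59.seed_1391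 (Lac K59.seed_1392 (Lac K59.seed_1393 (Lac K59.seed_1394 (Lac K59.seed_1395 (Lac K59.seed_1396 (Lac K59.seed_1397 (Lac K59.seed_1398 (Lac K59.seed_1399 hall_14))))))))))))))))))))))))))))))))))))))))))))))))))))))))))))))))))))))))))))))))))))))))))))))))))))
theorem hall_12 : ∀ e ∈ spt_12, SQ e :=
  (Lac K57.seed_1200 (Lac K57.seed_1201 (Lac K57.seed_1202 (Lac K57.seed_1203 (Lac K57.seed_1204 (Lac K57.seed_1205 (Lac K57.seed_1206 (Lac K57.seed_1207 (Lac K57.seed_1208 (Lac K57.seed_1209 (Lac K57.seed_1210 (Lac K57.seed_1211 (Lac K57.seed_1212 (Lac K57.seed_1213 (Lac K58.seed_1214 (Lac K58.seed_1215 (Lac K58.seed_1216 (Lac K58.seed_1217 (Lac K58.seed_1218 (Lac K58.seed_1219 (Lac K58.seed_1220 (Lac K58.seed_1221 (Lac K58.seed_1222 (Lac K58.seed_1223 (Lac K58.seed_1224 (Lac K58.seed_1225 (Lac K58.seed_1226 (Lac K58.seed_1227 (Lac K58.seed_1228 (Lac K58.seed_1229 (Lac K58.seed_1230 (Lac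 K58.seed_1231 (Lac K58.seed_1232 (Lac K58.seed_1233 (Lac K58.seed_1234 (Lac K58.seed_1235 (Lac K58.seed_1236 (Lac K58.seed_1237 (Lac K58.seed_1238 (Lac K58.seed_1239 (Lac K58.seed_1240 (Lac K58.seed_1241 (Lac K58.seed_1242 (Lac K58.seed_1243 (Lac K58.seed_1244 (Lac K58.seed_1245 (Lac K58.seed_1246 (Lac K58.seed_1247 (Lac K58.seed_1248 (Lac K58.seed_1249 (Lac K58.seed_1250 (Lac K58.seed_1251 (Lac K58.seed_1252 (Lac K58.seed_1253 (Lac K58.seed_1254 (Lac K58.seed_1255 (Lac K58.seed_1256 (Lac K58.seed_1257 (Lac K58.seed_1258 (Lac K58.seed_1259 (Lac K58.seed_1260 (Lac K58.seed_1261 (Lac K58.seed_1262 (Lac K58.seed_1263 (Lac K58.seed_1264 (Lac K58.seed_1265 (Lac K58.seed_1266 (Lac K58.seed_1267 (Lac K58.seed_1268 (Lac K58.seed_1269 (Lac K58.seed_1270 (Lac K58.seed_1271 (Lac K58.seed_1272 (Lac K58.seed_1273 (Lac K58.seed_1274 (Lac K58.seed_1275 (Lac K58.seed_1276 (Lac K58.seed_1277 (Lac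 K58.seed_1278 (Lac K58.seed_1279 (Lac K58.seed_1280 (Lac K58.seed_1281 (Lac K58.seed_1282 (Lac K58.seed_1283 (Lac K58.seed_1284 (Lac K58.seed_1285 (Lac K58.seed_1286 (Lac K58.seed_1287 (Lac K58.seed_1288 (Lac K58.seed_1289 (Lac K58.seed_1290 (Lac K58.seed_1291 (Lac K58.seed_1292 (Lac K58.seed_1293 (Lac K58.seed_1294 (Lac K58.seed_1295 (Lac K58.seed_1296 (Lac K58.seed_1297 (Lac K58.seed_1298 (Lac K58.seed_1299 hall_13))))))))))))))))))))))))))))))))))))))))))))))))))))))))))))))))))))))))))))))))))))))))))))))))))))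
theorem hall_11 : ∀ e ∈ spt_11, SQ e :=
  (Lac K56.seed_1100 (Lac K56.seed_1101 (Lac K56.seed_1102 (Lac K56.seed_1103 (Lac K56.seed_1104 (Lac K56.seed_1105 (Lac K56.seed_1106 (Lac K56.seed_1107 (Lac K56.seed_1108 (Lac K56.seed_1109 (Lac K56.seed_1110 (Lac K56.seed_1111 (Lac K56.seed_1112 (Lac K56.seed_1113 (Lac K56.seed_1114 (Lac K56.seed_1115 (Lac K57.seed_1116 (Lac K57.seed_1117 (Lac K57.seed_1118 (Lac K57.seed_1119 (Lac K57.seed_1120 (Lac K57.seed_1121 (Lac K57.seed_1122 (Lac K57.seed_1123 (Lac K57.seed_1124 (Lac K57.seed_1125 (Lac K57.seed_1126 (Lac K57.seed_1127 (Lac K57.seed_1128 (Lac K57.seed_1129 (Lac K57.seed_1130 (Lac K57.seed_1131 (Lac K57.seed_1132 (Lac K57.seed_1133 (Lac K57.seed_1134 (Lac K57.seed_1135 (Lac K57.seed_1136 (Lac K57.seed_1137 (Lac K57.seed_1138 (Lac K57.seed_1139 (Lac K57.seed_1140 (Lac K57.seed_1141 (Lac K57.seed_1142 (Lac K57.seed_1143 (Lac K57.seed_1144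 (Lac K57.seed_1145 (Lac K57.seed_1146 (Lac K57.seed_1147 (Lac K57.seed_1148 (Lac K57.seed_1149 (Lac K57.seed_1150 (Lac K57.seed_1151 (Lac K57.seed_1152 (Lac K57.seed_1153 (Lac K57.seed_1154 (Lac K57.seed_1155 (Lac K57.seed_1156 (Lac K57.seed_1157 (Lac K57.seed_1158 (Lac K57.seed_1159 (Lac K57.seed_1160 (Lac K57.seed_1161 (Lac K57.seed_1162 (Lac K57.seed_1163 (Lac K57.seed_1164 (Lac K57.seed_1165 (Lac K57.seed_1166 (Lac K57.seed_1167 (Lac K57.seed_1168 (Lac K57.seed_1169 (Lac K57.seed_1170 (Lac K57.seed_1171 (Lac K57.seed_1172 (Lac K57.seed_1173 (Lac K57.seed_1174 (Lac K57.seed_1175 (Lac K57.seed_1176 (Lac K57.seed_1177 (Lac K57.seed_1178 (Lac K57.seed_1179 (Lac K57.seed_1180 (Lac K57.seed_1181 (Lac K57.seed_1182 (Lac K57.seed_1183 (Lac K57.seed_1184 (Lac K57.seed_1185 (Lac K57.seed_1186 (Lac K57.seed_1187 (Lac K57.seed_1188 (Lac K57.seed_1189 (Lac K57.seed_1190 (Lac K57.seed_1191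 (Lac K57.seed_1192 (Lac K57.seed_1193 (Lac K57.seed_1194 (Lac K57.seed_1195 (Lac K57.seed_1196 (Lac K57.seed_1197 (Lac K57.seed_1198 (Lac K57.seed_1199 hall_12))))))))))))))))))))))))))))))))))))))))))))))))))))))))))))))))))))))))))))))))))))))))))))))))))))
theorem hall_10 : ∀ e ∈ spt_10, SQ e :=
  (Lac K55.seed_1000 (Lac K55.seed_1001 (Lac K55.seed_1002 (Lac K55.seed_1003 (Lac K55.seed_1004 (Lac K55.seed_1005 (Lac K55.seed_1006 (Lac K55.seed_1007 (Lac K55.seed_1008 (Lac K55.seed_1009 (Lac K55.seed_1010 (Lac K56.seed_1011 (Lac K56.seed_1012 (Lac K56.seed_1013 (Lac K56.seed_1014 (Lac K56.seed_1015 (Lac K56.seed_1016 (Lac K56.seed_1017 (Lac K56.seed_1018 (Lac K56.seed_1019 (Lac K56.seed_1020 (Lac K56.seed_1021 (Lac K56.seed_1022 (Lac K56.seed_1023 (Lac K56.seed_1024 (Lac K56.seed_1025 (Lac K56.seed_1026 (Lac K56.seed_1027 (Lac K56.seed_1028 (Lac K56.seed_1029 (Lac K56.seed_1030 (Lac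 K56.seed_1031 (Lac K56.seed_1032 (Lac K56.seed_1033 (Lac K56.seed_1034 (Lac K56.seed_1035 (Lac K56.seed_1036 (Lac K56.seed_1037 (Lac K56.seed_1038 (Lac K56.seed_1039 (Lac K56.seed_1040 (Lac K56.seed_1041 (Lac K56.seed_1042 (Lac K56.seed_1043 (Lac K56.seed_1044 (Lac K56.seed_1045 (Lac K56.seed_1046 (Lac K56.seed_1047 (Lac K56.seed_1048 (Lac K56.seed_1049 (Lac K56.seed_1050 (Lac K56.seed_1051 (Lac K56.seed_1052 (Lac K56.seed_1053 (Lac K56.seed_1054 (Lac K56.seed_1055 (Lac K56.seed_1056 (Lac K56.seed_1057 (Lac K56.seed_1058 (Lac K56.seed_1059 (Lac K56.seed_1060 (Lac K56.seed_1061 (Lac K56.seed_1062 (Lac K56.seed_1063 (Lac K56.seed_1064 (Lac K56.seed_1065 (Lac K56.seed_1066 (Lac K56.seed_1067 (Lac K56.seed_1068 (Lac K56.seed_1069 (Lac K56.seed_1070 (Lac K56.seed_1071 (Lac K56.seed_1072 (Lac K56.seed_1073 (Lac K56.seed_1074 (Lac K56.seed_1075 (Lac K56.seed_1076 (Lac K56.seed_1077 (Lac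 K56.seed_1078 (Lac K56.seed_1079 (Lac K56.seed_1080 (Lac K56.seed_1081 (Lac K56.seed_1082 (Lac K56.seed_1083 (Lac K56.seed_1084 (Lac K56.seed_1085 (Lac K56.seed_1086 (Lac K56.seed_1087 (Lac K56.seed_1088 (Lac K56.seed_1089 (Lac K56.seed_1090 (Lac K56.seed_1091 (Lac K56.seed_1092 (Lac K56.seed_1093 (Lac K56.seed_1094 (Lac K56.seed_1095 (Lac K56.seed_1096 (Lac K56.seed_1097 (Lac K56.seed_1098 (Lac K56.seed_1099 hall_11))))))))))))))))))))))))))))))))))))))))))))))))))))))))))))))))))))))))))))))))))))))))))))))))))))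
theorem hall_9 : ∀ e ∈ spt_9, SQ e :=
  (Lac K54.seed_900 (Lac K54.seed_901 (Lac K54.seed_902 (Lac K54.seed_903 (Lac K54.seed_904 (Lac K54.seed_905 (Lac K54.seed_906 (Lac K54.seed_907 (Lac K54.seed_908 (Lac K54.seed_909 (Lac K54.seed_910 (Lac K54.seed_911 (Lac K54.seed_912 (Lac K54.seed_913 (Lac K54.seed_914 (Lac K54.seed_915 (Lac K54.seed_916 (Lac K54.seed_917 (Lac K54.seed_918 (Lac K54.seed_919 (Lac K54.seed_920 (Lac K54.seed_921 (Lac K54.seed_922 (Lac K54.seed_923 (Lac K54.seed_924 (Lac K54.seed_925 (Lac K54.seed_926 (Lac K55.seed_927 (Lac K55.seed_928 (Lac K55.seed_929 (Lac K55.seed_930 (Lac K55.seed_931 (Lac K55.seed_932 (Lac K55.seed_933 (Lac K55.seed_934 (Lac K55.seed_935 (Lac K55.seed_936 (Lac K55.seed_937 (Lac K55.seed_938 (Lac K55.seed_939 (Lac K55.seed_940 (Lac K55.seed_941 (Lac K55.seed_942 (Lac K55.seed_943 (Lac K55.seed_944 (Lac K55.seed_945 (Lac K55.seed_946 (Lac K55.seed_947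 (Lac K55.seed_948 (Lac K55.seed_949 (Lac K55.seed_950 (Lac K55.seed_951 (Lac K55.seed_952 (Lac K55.seed_953 (Lac K55.seed_954 (Lac K55.seed_955 (Lac K55.seed_956 (Lac K55.seed_957 (Lac K55.seed_958 (Lac K55.seed_959 (Lac K55.seed_960 (Lac K55.seed_961 (Lac K55.seed_962 (Lac K55.seed_963 (Lac K55.seed_964 (Lac K55.seed_965 (Lac K55.seed_966 (Lac K55.seed_967 (Lac K55.seed_968 (Lac K55.seed_969 (Lac K55.seed_970 (Lac K55.seed_971 (Lac K55.seed_972 (Lac K55.seed_973 (Lac K55.seed_974 (Lac K55.seed_975 (Lac K55.seed_976 (Lac K55.seed_977 (Lac K55.seed_978 (Lac K55.seed_979 (Lac K55.seed_980 (Lac K55.seed_981 (Lac K55.seed_982 (Lac K55.seed_983 (Lac K55.seed_984 (Lac K55.seed_985 (Lac K55.seed_986 (Lac K55.seed_987 (Lac K55.seed_988 (Lac K55.seed_989 (Lac K55.seed_990 (Lac K55.seed_991 (Lac K55.seed_992 (Lac K55.seed_993 (Lac K55.seed_994 (Lac K55.seed_995 (Lac K55.seed_996 (Lac K55.seed_997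 (Lac K55.seed_998 (Lac K55.seed_999 hall_10))))))))))))))))))))))))))))))))))))))))))))))))))))))))))))))))))))))))))))))))))))))))))))))))))))
theorem hall_8 : ∀ e ∈ spt_8, SQ e :=
  (Lac K53.seed_800 (Lac K53.seed_801 (Lac K53.seed_802 (Lac K53.seed_803 (Lac K53.seed_804 (Lac K53.seed_805 (Lac K53.seed_806 (Lac K53.seed_807 (Lac K53.seed_808 (Lac K53.seed_809 (Lac K53.seed_810 (Lac K53.seed_811 (Lac K53.seed_812 (Lac K53.seed_813 (Lac K53.seed_814 (Lac K53.seed_815 (Lac K53.seed_816 (Lac K53.seed_817 (Lac K53.seed_818 (Lac K53.seed_819 (Lac K53.seed_820 (Lac K53.seed_821 (Lac K53.seed_822 (Lac K53.seed_823 (Lac K53.seed_824 (Lac K53.seed_825 (Lac K53.seed_826 (Lac K53.seed_827 (Lac K53.seed_828 (Lac K53.seed_829 (Lac K53.seed_830 (Lac K53.seed_831 (Lac K53.seed_832 (Lac K53.seed_833 (Lac K53.seed_834 (Lac K53.seed_835 (Lac K53.seed_836 (Lac K53.seed_837 (Lac K53.seed_838 (Lac K53.seed_839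 (Lac K53.seed_840 (Lac K53.seed_841 (Lac K53.seed_842 (Lac K53.seed_843 (Lac K53.seed_844 (Lac K53.seed_845 (Lac K53.seed_846 (Lac K53.seed_847 (Lac K53.seed_848 (Lac K53.seed_849 (Lac K53.seed_850 (Lac K53.seed_851 (Lac K53.seed_852 (Lac K53.seed_853 (Lac K53.seed_854 (Lac K53.seed_855 (Lac K53.seed_856 (Lac K53.seed_857 (Lac K53.seed_858 (Lac K53.seed_859 (Lac K53.seed_860 (Lac K53.seed_861 (Lac K53.seed_862 (Lac K53.seed_863 (Lac K53.seed_864 (Lac K53.seed_865 (Lac K53.seed_866 (Lac K53.seed_867 (Lac K54.seed_868 (Lac K54.seed_869 (Lac K54.seed_870 (Lac K54.seed_871 (Lac K54.seed_872 (Lac K54.seed_873 (Lac K54.seed_874 (Lac K54.seed_875 (Lac K54.seed_876 (Lac K54.seed_877 (Lac K54.seed_878 (Lac K54.seed_879 (Lac K54.seed_880 (Lac K54.seed_881 (Lac K54.seed_882 (Lac K54.seed_883 (Lac K54.seed_884 (Lac K54.seed_885 (Lac K54.seed_886 (Lac K54.seed_887 (Lac K54.seed_888 (Lac K54.seed_889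 (Lac K54.seed_890 (Lac K54.seed_891 (Lac K54.seed_892 (Lac K54.seed_893 (Lac K54.seed_894 (Lac K54.seed_895 (Lac K54.seed_896 (Lac K54.seed_897 (Lac K54.seed_898 (Lac K54.seed_899 hall_9))))))))))))))))))))))))))))))))))))))))))))))))))))))))))))))))))))))))))))))))))))))))))))))))))))
theorem hall_7 : ∀ e ∈ spt_7, SQ e :=
  (Lac K51.seed_700 (Lac K51.seed_701 (Lac K51.seed_702 (Lac K51.seed_703 (Lac K51.seed_704 (Lac K51.seed_705 (Lac K51.seed_706 (Lac K51.seed_707 (Lac K51.seed_708 (Lac K51.seed_709 (Lac K51.seed_710 (Lac K51.seed_711 (Lac K51.seed_712 (Lac K51.seed_713 (Lac K51.seed_714 (Lac K51.seed_715 (Lac K51.seed_716 (Lac K51.seed_717 (Lac K51.seed_718 (Lac K51.seed_719 (Lac K51.seed_720 (Lac K51.seed_721 (Lac K51.seed_722 (Lac K51.seed_723 (Lac K51.seed_724 (Lac K51.seed_725 (Lac K51.seed_726 (Lac K51.seed_727 (Lac K51.seed_728 (Lac K51.seed_729 (Lac K51.seed_730 (Lac K51.seed_731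 (Lac K51.seed_732 (Lac K51.seed_733 (Lac K51.seed_734 (Lac K51.seed_735 (Lac K51.seed_736 (Lac K51.seed_737 (Lac K51.seed_738 (Lac K51.seed_739 (Lac K51.seed_740 (Lac K51.seed_741 (Lac K51.seed_742 (Lac K51.seed_743 (Lac K51.seed_744 (Lac K51.seed_745 (Lac K51.seed_746 (Lac K51.seed_747 (Lac K51.seed_748 (Lac K51.seed_749 (Lac K51.seed_750 (Lac K52.seed_751 (Lac K52.seed_752 (Lac K52.seed_753 (Lac K52.seed_754 (Lac K52.seed_755 (Lac K52.seed_756 (Lac K52.seed_757 (Lac K52.seed_758 (Lac K52.seed_759 (Lac K52.seed_760 (Lac K52.seed_761 (Lac K52.seed_762 (Lac K52.seed_763 (Lac K52.seed_764 (Lac K52.seed_765 (Lac K52.seed_766 (Lac K52.seed_767 (Lac K52.seed_768 (Lac K52.seed_769 (Lac K52.seed_770 (Lac K52.seed_771 (Lac K52.seed_772 (Lac K52.seed_773 (Lac K52.seed_774 (Lac K52.seed_775 (Lac K52.seed_776 (Lac K52.seed_777 (Lac K52.seed_778 (Lac K52.seed_779 (Lac K52.seed_780 (Lac K52.seed_781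 (Lac K52.seed_782 (Lac K52.seed_783 (Lac K52.seed_784 (Lac K52.seed_785 (Lac K52.seed_786 (Lac K52.seed_787 (Lac K52.seed_788 (Lac K52.seed_789 (Lac K52.seed_790 (Lac K52.seed_791 (Lac K52.seed_792 (Lac K52.seed_793 (Lac K52.seed_794 (Lac K52.seed_795 (Lac K52.seed_796 (Lac K52.seed_797 (Lac K52.seed_798 (Lac K53.seed_799 hall_8))))))))))))))))))))))))))))))))))))))))))))))))))))))))))))))))))))))))))))))))))))))))))))))))))))
theorem hall_6 : ∀ e ∈ spt_6, SQ e :=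
  (Lac K49.seed_600 (Lac K49.seed_601 (Lac K49.seed_602 (Lac K49.seed_603 (Lac K49.seed_604 (Lac K49.seed_605 (Lac K49.seed_606 (Lac K49.seed_607 (Lac K49.seed_608 (Lac K49.seed_609 (Lac K49.seed_610 (Lac K49.seed_611 (Lac K49.seed_612 (Lac K49.seed_613 (Lac K50.seed_614 (Lac K50.seed_615 (Lac K50.seed_616 (Lac K50.seed_617 (Lac K50.seed_618 (Lac K50.seed_619 (Lac K50.seed_620 (Lac K50.seed_621 (Lac K50.seed_622 (Lac K50.seed_623 (Lac K50.seed_624 (Lac K50.seed_625 (Lac K50.seed_626 (Lac K50.seed_627 (Lac K50.seed_628 (Lac K50.seed_629 (Lac K50.seed_630 (Lac K50.seed_631 (Lac K50.seed_632 (Lac K50.seed_633 (Lac K50.seed_634 (Lac K50.seed_635 (Lac K50.seed_636 (Lac K50.seed_637 (Lac K50.seed_638 (Lac K50.seed_639 (Lac K50.seed_640 (Lac K50.seed_641 (Lac K50.seed_642 (Lac K50.seed_643 (Lac K50.seed_644 (Lac K50.seed_645 (Lac K50.seed_646 (Lac K50.seed_647 (Lac K50.seed_648 (Lac K50.seed_649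 (Lac K50.seed_650 (Lac K50.seed_651 (Lac K50.seed_652 (Lac K50.seed_653 (Lac K50.seed_654 (Lac K50.seed_655 (Lac K50.seed_656 (Lac K50.seed_657 (Lac K50.seed_658 (Lac K50.seed_659 (Lac K50.seed_660 (Lac K50.seed_661 (Lac K50.seed_662 (Lac K50.seed_663 (Lac K50.seed_664 (Lac K50.seed_665 (Lac K50.seed_666 (Lac K50.seed_667 (Lac K50.seed_668 (Lac K50.seed_669 (Lac K50.seed_670 (Lac K50.seed_671 (Lac K50.seed_672 (Lac K50.seed_673 (Lac K50.seed_674 (Lac K50.seed_675 (Lac K50.seed_676 (Lac K50.seed_677 (Lac K50.seed_678 (Lac K50.seed_679 (Lac K50.seed_680 (Lac K50.seed_681 (Lac K50.seed_682 (Lac K50.seed_683 (Lac K50.seed_684 (Lac K50.seed_685 (Lac K50.seed_686 (Lac K50.seed_687 (Lac K50.seed_688 (Lac K50.seed_689 (Lac K50.seed_690 (Lac K50.seed_691 (Lac K50.seed_692 (Lac K50.seed_693 (Lac K50.seed_694 (Lac K50.seed_695 (Lac K50.seed_696 (Lac K50.seed_697 (Lac K50.seed_698 (Lac K51.seed_699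 hall_7))))))))))))))))))))))))))))))))))))))))))))))))))))))))))))))))))))))))))))))))))))))))))))))))))))
theorem hall_5 : ∀ e ∈ spt_5, SQ e :=
  (Lac K48.seed_500 (Lac K48.seed_501 (Lac K48.seed_502 (Lac K48.seed_503 (Lac K48.seed_504 (Lac K48.seed_505 (Lac K48.seed_506 (Lac K48.seed_507 (Lac K48.seed_508 (Lac K48.seed_509 (Lac K48.seed_510 (Lac K48.seed_511 (Lac K48.seed_512 (Lac K48.seed_513 (Lac K48.seed_514 (Lac K48.seed_515 (Lac K48.seed_516 (Lac K48.seed_517 (Lac K48.seed_518 (Lac K48.seed_519 (Lac K48.seed_520 (Lac K48.seed_521 (Lac K48.seed_522 (Lac K48.seed_523 (Lac K48.seed_524 (Lac K48.seed_525 (Lac K48.seed_526 (Lac K48.seed_527 (Lac K48.seed_528 (Lac K48.seed_529 (Lac K48.seed_530 (Lac K48.seed_531 (Lac K48.seed_532 (Lac K48.seed_533 (Lac K48.seed_534 (Lac K48.seed_535 (Lac K48.seed_536 (Lac K48.seed_537 (Lac K49.seed_538 (Lac K49.seed_539 (Lac K49.seed_540 (Lac K49.seed_541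 (Lac K49.seed_542 (Lac K49.seed_543 (Lac K49.seed_544 (Lac K49.seed_545 (Lac K49.seed_546 (Lac K49.seed_547 (Lac K49.seed_548 (Lac K49.seed_549 (Lac K49.seed_550 (Lac K49.seed_551 (Lac K49.seed_552 (Lac K49.seed_553 (Lac K49.seed_554 (Lac K49.seed_555 (Lac K49.seed_556 (Lac K49.seed_557 (Lac K49.seed_558 (Lac K49.seed_559 (Lac K49.seed_560 (Lac K49.seed_561 (Lac K49.seed_562 (Lac K49.seed_563 (Lac K49.seed_564 (Lac K49.seed_565 (Lac K49.seed_566 (Lac K49.seed_567 (Lac K49.seed_568 (Lac K49.seed_569 (Lac K49.seed_570 (Lac K49.seed_571 (Lac K49.seed_572 (Lac K49.seed_573 (Lac K49.seed_574 (Lac K49.seed_575 (Lac K49.seed_576 (Lac K49.seed_577 (Lac K49.seed_578 (Lac K49.seed_579 (Lac K49.seed_580 (Lac K49.seed_581 (Lac K49.seed_582 (Lac K49.seed_583 (Lac K49.seed_584 (Lac K49.seed_585 (Lac K49.seed_586 (Lac K49.seed_587 (Lac K49.seed_588 (Lac K49.seed_589 (Lac K49.seed_590 (Lac K49.seed_591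 (Lac K49.seed_592 (Lac K49.seed_593 (Lac K49.seed_594 (Lac K49.seed_595 (Lac K49.seed_596 (Lac K49.seed_597 (Lac K49.seed_598 (Lac K49.seed_599 hall_6))))))))))))))))))))))))))))))))))))))))))))))))))))))))))))))))))))))))))))))))))))))))))))))))))))
theorem hall_4 : ∀ e ∈ spt_4, SQ e :=
  (Lac K47.seed_400 (Lac K47.seed_401 (Lac K47.seed_402 (Lac K47.seed_403 (Lac K47.seed_404 (Lac K47.seed_405 (Lac K47.seed_406 (Lac K47.seed_407 (Lac K47.seed_408 (Lac K47.seed_409 (Lac K47.seed_410 (Lac K47.seed_411 (Lac K47.seed_412 (Lac K47.seed_413 (Lac K47.seed_414 (Lac K47.seed_415 (Lac K47.seed_416 (Lac K47.seed_417 (Lac K47.seed_418 (Lac K47.seed_419 (Lac K47.seed_420 (Lac K47.seed_421 (Lac K47.seed_422 (Lac K47.seed_423 (Lac K47.seed_424 (Lac K47.seed_425 (Lac K47.seed_426 (Lac K47.seed_427 (Lac K47.seed_428 (Lac K47.seed_429 (Lac K47.seed_430 (Lac K47.seed_431 (Lac K47.seed_432 (Lac K47.seed_433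 (Lac K47.seed_434 (Lac K47.seed_435 (Lac K47.seed_436 (Lac K47.seed_437 (Lac K48.seed_438 (Lac K48.seed_439 (Lac K48.seed_440 (Lac K48.seed_441 (Lac K48.seed_442 (Lac K48.seed_443 (Lac K48.seed_444 (Lac K48.seed_445 (Lac K48.seed_446 (Lac K48.seed_447 (Lac K48.seed_448 (Lac K48.seed_449 (Lac K48.seed_450 (Lac K48.seed_451 (Lac K48.seed_452 (Lac K48.seed_453 (Lac K48.seed_454 (Lac K48.seed_455 (Lac K48.seed_456 (Lac K48.seed_457 (Lac K48.seed_458 (Lac K48.seed_459 (Lac K48.seed_460 (Lac K48.seed_461 (Lac K48.seed_462 (Lac K48.seed_463 (Lac K48.seed_464 (Lac K48.seed_465 (Lac K48.seed_466 (Lac K48.seed_467 (Lac K48.seed_468 (Lac K48.seed_469 (Lac K48.seed_470 (Lac K48.seed_471 (Lac K48.seed_472 (Lac K48.seed_473 (Lac K48.seed_474 (Lac K48.seed_475 (Lac K48.seed_476 (Lac K48.seed_477 (Lac K48.seed_478 (Lac K48.seed_479 (Lac K48.seed_480 (Lac K48.seed_481 (Lac K48.seed_482 (Lac K48.seed_483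 (Lac K48.seed_484 (Lac K48.seed_485 (Lac K48.seed_486 (Lac K48.seed_487 (Lac K48.seed_488 (Lac K48.seed_489 (Lac K48.seed_490 (Lac K48.seed_491 (Lac K48.seed_492 (Lac K48.seed_493 (Lac K48.seed_494 (Lac K48.seed_495 (Lac K48.seed_496 (Lac K48.seed_497 (Lac K48.seed_498 (Lac K48.seed_499 hall_5))))))))))))))))))))))))))))))))))))))))))))))))))))))))))))))))))))))))))))))))))))))))))))))))))))
theorem hall_3 : ∀ e ∈ spt_3, SQ e :=
  (Lac K46.seed_300 (Lac K46.seed_301 (Lac K46.seed_302 (Lac K46.seed_303 (Lac K46.seed_304 (Lac K46.seed_305 (Lac K46.seed_306 (Lac K46.seed_307 (Lac K46.seed_308 (Lac K46.seed_309 (Lac K46.seed_310 (Lac K46.seed_311 (Lac K46.seed_312 (Lac K46.seed_313 (Lac K46.seed_314 (Lac K46.seed_315 (Lac K46.seed_316 (Lac K46.seed_317 (Lac K46.seed_318 (Lac K46.seed_319 (Lac K46.seed_320 (Lac K46.seed_321 (Lac K46.seed_322 (Lac K46.seed_323 (Lac K46.seed_324 (Lac K46.seed_325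 (Lac K46.seed_326 (Lac K46.seed_327 (Lac K46.seed_328 (Lac K46.seed_329 (Lac K46.seed_330 (Lac K46.seed_331 (Lac K46.seed_332 (Lac K46.seed_333 (Lac K46.seed_334 (Lac K46.seed_335 (Lac K46.seed_336 (Lac K46.seed_337 (Lac K46.seed_338 (Lac K46.seed_339 (Lac K46.seed_340 (Lac K46.seed_341 (Lac K46.seed_342 (Lac K46.seed_343 (Lac K46.seed_344 (Lac K46.seed_345 (Lac K46.seed_346 (Lac K46.seed_347 (Lac K46.seed_348 (Lac K46.seed_349 (Lac K46.seed_350 (Lac K46.seed_351 (Lac K46.seed_352 (Lac K46.seed_353 (Lac K46.seed_354 (Lac K46.seed_355 (Lac K46.seed_356 (Lac K46.seed_357 (Lac K46.seed_358 (Lac K46.seed_359 (Lac K46.seed_360 (Lac K46.seed_361 (Lac K46.seed_362 (Lac K46.seed_363 (Lac K46.seed_364 (Lac K46.seed_365 (Lac K46.seed_366 (Lac K46.seed_367 (Lac K46.seed_368 (Lac K46.seed_369 (Lac K46.seed_370 (Lac K46.seed_371 (Lac K46.seed_372 (Lac K46.seed_373 (Lac K46.seed_374 (Lac K46.seed_375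 (Lac K46.seed_376 (Lac K46.seed_377 (Lac K46.seed_378 (Lac K46.seed_379 (Lac K46.seed_380 (Lac K46.seed_381 (Lac K46.seed_382 (Lac K46.seed_383 (Lac K46.seed_384 (Lac K46.seed_385 (Lac K46.seed_386 (Lac K46.seed_387 (Lac K46.seed_388 (Lac K46.seed_389 (Lac K46.seed_390 (Lac K46.seed_391 (Lac K46.seed_392 (Lac K46.seed_393 (Lac K46.seed_394 (Lac K46.seed_395 (Lac K47.seed_396 (Lac K47.seed_397 (Lac K47.seed_398 (Lac K47.seed_399 hall_4))))))))))))))))))))))))))))))))))))))))))))))))))))))))))))))))))))))))))))))))))))))))))))))))))))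
theorem hall_2 : ∀ e ∈ spt_2, SQ e :=
  (Lac K34.seed_200 (Lac K34.seed_201 (Lac K34.seed_202 (Lac K34.seed_203 (Lac K34.seed_204 (Lac K34.seed_205 (Lac K34.seed_206 (Lac K34.seed_207 (Lac K34.seed_208 (Lac K34.seed_209 (Lac K34.seed_210 (Lac K34.seed_211 (Lac K34.seed_212 (Lac K34.seed_213 (Lac K34.seed_214 (Lac K34.seed_215 (Lac K34.seed_216 (Lac K34.seed_217 (Lac K34.seed_218 (Lac K34.seed_219 (Lac K34.seed_220 (Lac K34.seed_221 (Lac K34.seed_222 (Lac K34.seed_223 (Lac K34.seed_224 (Lac K34.seed_225 (Lac K34.seed_226 (Lac K34.seed_227 (Lac K34.seed_228 (Lac K34.seed_229 (Lac K34.seed_230 (Lac K34.seed_231 (Lac K34.seed_232 (Lac K34.seed_233 (Lac K35.seed_234 (Lac K35.seed_235 (Lac K35.seed_236 (Lac K35.seed_237 (Lac K35.seed_238 (Lac K35.seed_239 (Lac K35.seed_240 (Lac K35.seed_241 (Lac K35.seed_242 (Lac K35.seed_243 (Lac K35.seed_244 (Lac K35.seed_245 (Lac K35.seed_246 (Lac K35.seed_247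 (Lac K35.seed_248 (Lac K35.seed_249 (Lac K35.seed_250 (Lac K35.seed_251 (Lac K35.seed_252 (Lac K35.seed_253 (Lac K35.seed_254 (Lac K35.seed_255 (Lac K35.seed_256 (Lac K35.seed_257 (Lac K35.seed_258 (Lac K35.seed_259 (Lac K35.seed_260 (Lac K35.seed_261 (Lac K35.seed_262 (Lac K35.seed_263 (Lac K35.seed_264 (Lac K35.seed_265 (Lac K35.seed_266 (Lac K35.seed_267 (Lac K35.seed_268 (Lac K35.seed_269 (Lac K35.seed_270 (Lac K35.seed_271 (Lac K35.seed_272 (Lac K35.seed_273 (Lac K35.seed_274 (Lac K35.seed_275 (Lac K35.seed_276 (Lac K35.seed_277 (Lac K35.seed_278 (Lac K35.seed_279 (Lac K35.seed_280 (Lac K38.seed_281 (Lac K38.seed_282 (Lac K38.seed_283 (Lac K41.seed_284 (Lac K41.seed_285 (Lac K41.seed_286 (Lac K41.seed_287 (Lac K41.seed_288 (Lac K41.seed_289 (Lac K41.seed_290 (Lac K41.seed_291 (Lac K41.seed_292 (Lac K41.seed_293 (Lac K41.seed_294 (Lac K42.seed_295 (Lac K45.seed_296 (Lac K45.seed_297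 (Lac K45.seed_298 (Lac K45.seed_299 hall_3))))))))))))))))))))))))))))))))))))))))))))))))))))))))))))))))))))))))))))))))))))))))))))))))))))
theorem hall_1 : ∀ e ∈ spt_1, SQ e :=
  (Lac K30.seed_100 (Lac K30.seed_101 (Lac K30.seed_102 (Lac K30.seed_103 (Lac K30.seed_104 (Lac K30.seed_105 (Lac K30.seed_106 (Lac K30.seed_107 (Lac K30.seed_108 (Lac K30.seed_109 (Lac K30.seed_110 (Lac K30.seed_111 (Lac K31.seed_112 (Lac K31.seed_113 (Lac K31.seed_114 (Lac K31.seed_115 (Lac K31.seed_116 (Lac K31.seed_117 (Lac K31.seed_118 (Lac K31.seed_119 (Lac K31.seed_120 (Lac K31.seed_121 (Lac K32.seed_122 (Lac K32.seed_123 (Lac K32.seed_124 (Lac K32.seed_125 (Lac K32.seed_126 (Lac K32.seed_127 (Lac K32.seed_128 (Lac K32.seed_129 (Lac K32.seed_130 (Lac K32.seed_131 (Lac K32.seed_132 (Lac K32.seed_133 (Lac K32.seed_134 (Lac K32.seed_135 (Lac K32.seed_136 (Lac K32.seed_137 (Lac K32.seed_138 (Lac K32.seed_139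 (Lac K32.seed_140 (Lac K32.seed_141 (Lac K32.seed_142 (Lac K32.seed_143 (Lac K32.seed_144 (Lac K32.seed_145 (Lac K32.seed_146 (Lac K32.seed_147 (Lac K32.seed_148 (Lac K32.seed_149 (Lac K32.seed_150 (Lac K32.seed_151 (Lac K32.seed_152 (Lac K32.seed_153 (Lac K32.seed_154 (Lac K32.seed_155 (Lac K32.seed_156 (Lac K32.seed_157 (Lac K32.seed_158 (Lac K32.seed_159 (Lac K32.seed_160 (Lac K33.seed_161 (Lac K33.seed_162 (Lac K33.seed_163 (Lac K33.seed_164 (Lac K33.seed_165 (Lac K33.seed_166 (Lac K33.seed_167 (Lac K33.seed_168 (Lac K33.seed_169 (Lac K33.seed_170 (Lac K33.seed_171 (Lac K33.seed_172 (Lac K33.seed_173 (Lac K33.seed_174 (Lac K33.seed_175 (Lac K33.seed_176 (Lac K33.seed_177 (Lac K33.seed_178 (Lac K33.seed_179 (Lac K33.seed_180 (Lac K33.seed_181 (Lac K33.seed_182 (Lac K33.seed_183 (Lac K33.seed_184 (Lac K33.seed_185 (Lac K33.seed_186 (Lac K33.seed_187 (Lac K33.seed_188 (Lac K33.seed_189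 (Lac K34.seed_190 (Lac K34.seed_191 (Lac K34.seed_192 (Lac K34.seed_193 (Lac K34.seed_194 (Lac K34.seed_195 (Lac K34.seed_196 (Lac K34.seed_197 (Lac K34.seed_198 (Lac K34.seed_199 hall_2))))))))))))))))))))))))))))))))))))))))))))))))))))))))))))))))))))))))))))))))))))))))))))))))))))
theorem hall_0 : ∀ e ∈ spt_0, SQ e :=
  (Lac K0.seed_0 (Lac K0.seed_1 (Lac K0.seed_2 (Lac K0.seed_3 (Lac K0.seed_4 (Lac K0.seed_5 (Lac K0.seed_6 (Lac K0.seed_7 (Lac K0.seed_8 (Lac K0.seed_9 (Lac K0.seed_10 (Lac K0.seed_11 (Lac K0.seed_12 (Lac K0.seed_13 (Lac K0.seed_14 (Lac K0.seed_15 (Lac K7.seed_16 (Lac K11.seed_17 (Lac K11.seed_18 (Lac K11.seed_19 (Lac K11.seed_20 (Lac K11.seed_21 (Lac K11.seed_22 (Lac K11.seed_23 (Lac K11.seed_24 (Lac K24.seed_25 (Lac K24.seed_26 (Lac K24.seed_27 (Lac K24.seed_28 (Lac K24.seed_29 (Lac K24.seed_30 (Lac K24.seed_31 (Lac K24.seed_32 (Lac K24.seed_33 (Lac K24.seed_34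 (Lac K24.seed_35 (Lac K24.seed_36 (Lac K24.seed_37 (Lac K24.seed_38 (Lac K24.seed_39 (Lac K24.seed_40 (Lac K24.seed_41 (Lac K24.seed_42 (Lac K24.seed_43 (Lac K24.seed_44 (Lac K24.seed_45 (Lac K24.seed_46 (Lac K24.seed_47 (Lac K24.seed_48 (Lac K24.seed_49 (Lac K24.seed_50 (Lac K24.seed_51 (Lac K24.seed_52 (Lac K24.seed_53 (Lac K24.seed_54 (Lac K24.seed_55 (Lac K24.seed_56 (Lac K24.seed_57 (Lac K24.seed_58 (Lac K24.seed_59 (Lac K24.seed_60 (Lac K24.seed_61 (Lac K24.seed_62 (Lac K24.seed_63 (Lac K28.seed_64 (Lac K28.seed_65 (Lac K28.seed_66 (Lac K29.seed_67 (Lac K29.seed_68 (Lac K29.seed_69 (Lac K29.seed_70 (Lac K29.seed_71 (Lac K29.seed_72 (Lac K29.seed_73 (Lac K29.seed_74 (Lac K29.seed_75 (Lac K29.seed_76 (Lac K29.seed_77 (Lac K29.seed_78 (Lac K29.seed_79 (Lac K29.seed_80 (Lac K29.seed_81 (Lac K29.seed_82 (Lac K29.seed_83 (Lac K29.seed_84 (Lac K29.seed_85 (Lac K29.seed_86 (Lac K29.seed_87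 (Lac K29.seed_88 (Lac K29.seed_89 (Lac K29.seed_90 (Lac K29.seed_91 (Lac K29.seed_92 (Lac K29.seed_93 (Lac K29.seed_94 (Lac K30.seed_95 (Lac K30.seed_96 (Lac K30.seed_97 (Lac K30.seed_98 (Lac K30.seed_99 hall_1))))))))))))))))))))))))))))))))))))))))))))))))))))))))))))))))))))))))))))))))))))))))))))))))))))

end

end Cfsg.Agent.Helper28.S1692
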