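import Cfsg.Agent.Lib.Helper28.S1692.Rel0
import Cfsg.Agent.Lib.Helper28.S1692.Rel1
import Cfsg.Agent.Lib.Helper28.S1692.Rel2
import Cfsg.Agent.Lib.Helper28.S1692.Rel3
import Cfsg.Agent.Lib.Helper28.S1692.Rel4
import Cfsg.Agent.Lib.Helper28.S1692.Rel5
import Cfsg.Agent.Lib.Helper28.S1692.Rel6
import Cfsg.Agent.Lib.Helper28.S1692.Rel7
import Cfsg.Agent.Lib.Helper28.S1692.Rel8
import Cfsg.Agent.Lib.Helper28.S1692.Rel9
import Cfsg.Agent.Lib.Helper28.S1692.Rel10
import Cfsg.Agent.Lib.Helper28.S1692.Rel11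

/-!
# The subgroup `H = ⟨a, …, f⟩` of the presented O'Nan group has more than two elements (helper28, for S1693)

Uses only the verified permutation action of the presented group on 122760 points (tables `F_*`, relator
checks `Rel*`), not the index certificate.  The namespace `S1692H` keeps the names apart from `S1692/Final.lean`.
-/

set_option autoImplicit false
set_option maxRecDepth 100000
set_option linter.all false

namespace Cfsg.Agent.Helper28.S1692H

open Cfsg.Agent.Helper28 Cfsg.Agent.Helper28.S1692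
open Cfsg.Spor.ON (Gen)

theorem relact_0 : ∀ p, act fwd inv relW_0 p = p :=
  chkWordF_sound allPts beqPt allPts_sound beqPt_sound fwd inv relW_0 relF_0 relF_0_eq relchk_0
theorem relact_1 : ∀ p, act fwd inv relW_1 p = p :=
  chkWordF_sound allPts beqPt allPts_sound beqPt_sound fwd inv relW_1 relF_1 relF_1_eq relchk_1
theorem relact_2 : ∀ p, act fwd inv relW_2 p = p :=
  chkWordF_sound allPts beqPt allPts_sound beqPt_sound fwd inv relW_2 relF_2 relF_2_eq relchk_2
theorem relact_3 : ∀ p, act fwd inv relW_3 p = p :=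
  chkWordF_sound allPts beqPt allPts_sound beqPt_sound fwd inv relW_3 relF_3 relF_3_eq relchk_3
theorem relact_4 : ∀ p, act fwd inv relW_4 p = p :=
  chkWordF_sound allPts beqPt allPts_sound beqPt_sound fwd inv relW_4 relF_4 relF_4_eq relchk_4
theorem relact_5 : ∀ p, act fwd inv relW_5 p = p :=
  chkWordF_sound allPts beqPt allPts_sound beqPt_sound fwd inv relW_5 relF_5 relF_5_eq relchk_5
theorem relact_6 : ∀ p, act fwd inv relW_6 p = p :=
  chkWordF_sound allPts beqPt allPts_sound beqPt_sound fwd inv relW_6 relF_6 relF_6_eq relchk_6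
theorem relact_7 : ∀ p, act fwd inv relW_7 p = p :=
  chkWordF_sound allPts beqPt allPts_sound beqPt_sound fwd inv relW_7 relF_7 relF_7_eq relchk_7
theorem relact_8 : ∀ p, act fwd inv relW_8 p = p :=
  chkWordF_sound allPts beqPt allPts_sound beqPt_sound fwd inv relW_8 relF_8 relF_8_eq relchk_8
theorem relact_9 : ∀ p, act fwd inv relW_9 p = p :=
  chkWordF_sound allPts beqPt allPts_sound beqPt_sound fwd inv relW_9 relF_9 relF_9_eq relchk_9
theorem relact_10 : ∀ p, act fwd inv relW_10 p = p :=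
  chkWordF_sound allPts beqPt allPts_sound beqPt_sound fwd inv relW_10 relF_10 relF_10_eq relchk_10
theorem relact_11 : ∀ p, act fwd inv relW_11 p = p :=
  chkWordF_sound allPts beqPt allPts_sound beqPt_sound fwd inv relW_11 relF_11 relF_11_eq relchk_11
theorem relact_12 : ∀ p, act fwd inv relW_12 p = p :=
  chkWordF_sound allPts beqPt allPts_sound beqPt_sound fwd inv relW_12 relF_12 relF_12_eq relchk_12
theorem relact_13 : ∀ p, act fwd inv relW_13 p = p :=
  chkWordF_sound allPts beqPt allPts_sound beqPt_sound fwd inv relW_13 relF_13 relF_13_eq relchk_13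
theorem relact_14 : ∀ p, act fwd inv relW_14 p = p :=
  chkWordF_sound allPts beqPt allPts_sound beqPt_sound fwd inv relW_14 relF_14 relF_14_eq relchk_14
theorem relact_15 : ∀ p, act fwd inv relW_15 p = p :=
  chkWordF_sound allPts beqPt allPts_sound beqPt_sound fwd inv relW_15 relF_15 relF_15_eq relchk_15
theorem relact_16 : ∀ p, act fwd inv relW_16 p = p :=
  chkWordF_sound allPts beqPt allPts_sound beqPt_sound fwd inv relW_16 relF_16 relF_16_eq relchk_16
theorem relact_17 : ∀ p, act fwd inv relW_17 p = p :=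
  chkWordF_sound allPts beqPt allPts_sound beqPt_sound fwd inv relW_17 relF_17 relF_17_eq relchk_17
theorem relact_18 : ∀ p, act fwd inv relW_18 p = p :=
  chkWordF_sound allPts beqPt allPts_sound beqPt_sound fwd inv relW_18 relF_18 relF_18_eq relchk_18
theorem relact_19 : ∀ p, act fwd inv relW_19 p = p :=
  chkWordF_sound allPts beqPt allPts_sound beqPt_sound fwd inv relW_19 relF_19 relF_19_eq relchk_19
theorem relact_20 : ∀ p, act fwd inv relW_20 p = p :=
  chkWordF_sound allPts beqPt allPts_sound beqPt_sound fwd inv relW_20 relF_20 relF_20_eq relchk_20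
theorem relact_21 : ∀ p, act fwd inv relW_21 p = p :=
  chkWordF_sound allPts beqPt allPts_sound beqPt_sound fwd inv relW_21 relF_21 relF_21_eq relchk_21
theorem relact_22 : ∀ p, act fwd inv relW_22 p = p :=
  chkWordF_sound allPts beqPt allPts_sound beqPt_sound fwd inv relW_22 relF_22 relF_22_eq relchk_22
theorem relact_23 : ∀ p, act fwd inv relW_23 p = p :=
  chkWordF_sound allPts beqPt allPts_sound beqPt_sound fwd inv relW_23 relF_23 relF_23_eq relchk_23
theorem relact_24 : ∀ p, act fwd inv relW_24 p = p :=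
  chkWordF_sound allPts beqPt allPts_sound beqPt_sound fwd inv relW_24 relF_24 relF_24_eq relchk_24
theorem relact_25 : ∀ p, act fwd inv relW_25 p = p :=
  chkWordF_sound allPts beqPt allPts_sound beqPt_sound fwd inv relW_25 relF_25 relF_25_eq relchk_25
theorem relact_26 : ∀ p, act fwd inv relW_26 p = p :=
  chkWordF_sound allPts beqPt allPts_sound beqPt_sound fwd inv relW_26 relF_26 relF_26_eq relchk_26
theorem relact_27 : ∀ p, act fwd inv relW_27 p = p :=
  chkWordF_sound allPts beqPt allPts_sound beqPt_sound fwd inv relW_27 relF_27 relF_27_eq relchk_27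
theorem coxl_a_a : FreeGroup.lift (permOf fwd inv hfi hif) ((FreeGroup.of Gen.a * FreeGroup.of Gen.a) ^ 1) = 1 :=
  lift_cox_eq_one fwd inv hfi hif 1 Gen.a Gen.a relact_0
theorem coxl_a_b : FreeGroup.lift (permOf fwd inv hfi hif) ((FreeGroup.of Gen.a * FreeGroup.of Gen.b) ^ 3) = 1 :=
  lift_cox_eq_one fwd inv hfi hif 3 Gen.a Gen.b relact_1
theorem coxl_a_c : FreeGroup.lift (permOf fwd inv hfi hif) ((FreeGroup.of Gen.a * FreeGroup.of Gen.c) ^ 2) = 1 :=
  lift_cox_eq_one fwd inv hfi hif 2 Gen.a Gen.c relact_2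
theorem coxl_a_d : FreeGroup.lift (permOf fwd inv hfi hif) ((FreeGroup.of Gen.a * FreeGroup.of Gen.d) ^ 2) = 1 :=
  lift_cox_eq_one fwd inv hfi hif 2 Gen.a Gen.d relact_3
theorem coxl_a_e : FreeGroup.lift (permOf fwd inv hfi hif) ((FreeGroup.of Gen.a * FreeGroup.of Gen.e) ^ 2) = 1 :=
  lift_cox_eq_one fwd inv hfi hif 2 Gen.a Gen.e relact_4
theorem coxl_a_f : FreeGroup.lift (permOf fwd inv hfi hif) ((FreeGroup.of Gen.a * FreeGroup.of Gen.f) ^ 2) = 1 :=
  lift_cox_eq_one fwd inv hfi hif 2 Gen.a Gen.f relact_5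
theorem coxl_b_b : FreeGroup.lift (permOf fwd inv hfi hif) ((FreeGroup.of Gen.b * FreeGroup.of Gen.b) ^ 1) = 1 :=
  lift_cox_eq_one fwd inv hfi hif 1 Gen.b Gen.b relact_6
theorem coxl_b_c : FreeGroup.lift (permOf fwd inv hfi hif) ((FreeGroup.of Gen.b * FreeGroup.of Gen.c) ^ 3) = 1 :=
  lift_cox_eq_one fwd inv hfi hif 3 Gen.b Gen.c relact_7
theorem coxl_b_d : FreeGroup.lift (permOf fwd inv hfi hif) ((FreeGroup.of Gen.b * FreeGroup.of Gen.d) ^ 2) = 1 :=
  lift_cox_eq_one fwd inv hfi hif 2 Gen.b Gen.d relact_8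
theorem coxl_b_e : FreeGroup.lift (permOf fwd inv hfi hif) ((FreeGroup.of Gen.b * FreeGroup.of Gen.e) ^ 2) = 1 :=
  lift_cox_eq_one fwd inv hfi hif 2 Gen.b Gen.e relact_9
theorem coxl_b_f : FreeGroup.lift (permOf fwd inv hfi hif) ((FreeGroup.of Gen.b * FreeGroup.of Gen.f) ^ 2) = 1 :=
  lift_cox_eq_one fwd inv hfi hif 2 Gen.b Gen.f relact_10
theorem coxl_c_c : FreeGroup.lift (permOf fwd inv hfi hif) ((FreeGroup.of Gen.c * FreeGroup.of Gen.c) ^ 1) = 1 :=
  lift_cox_eq_one fwd inv hfi hif 1 Gen.c Gen.c relact_11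
theorem coxl_c_d : FreeGroup.lift (permOf fwd inv hfi hif) ((FreeGroup.of Gen.c * FreeGroup.of Gen.d) ^ 8) = 1 :=
  lift_cox_eq_one fwd inv hfi hif 8 Gen.c Gen.d relact_12
theorem coxl_c_e : FreeGroup.lift (permOf fwd inv hfi hif) ((FreeGroup.of Gen.c * FreeGroup.of Gen.e) ^ 2) = 1 :=
  lift_cox_eq_one fwd inv hfi hif 2 Gen.c Gen.e relact_13
theorem coxl_c_f : FreeGroup.lift (permOf fwd inv hfi hif) ((FreeGroup.of Gen.c * FreeGroup.of Gen.f) ^ 2) = 1 :=
  lift_cox_eq_one fwd inv hfi hif 2 Gen.c Gen.f relact_14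
theorem coxl_d_d : FreeGroup.lift (permOf fwd inv hfi hif) ((FreeGroup.of Gen.d * FreeGroup.of Gen.d) ^ 1) = 1 :=
  lift_cox_eq_one fwd inv hfi hif 1 Gen.d Gen.d relact_15
theorem coxl_d_e : FreeGroup.lift (permOf fwd inv hfi hif) ((FreeGroup.of Gen.d * FreeGroup.of Gen.e) ^ 3) = 1 :=
  lift_cox_eq_one fwd inv hfi hif 3 Gen.d Gen.e relact_16
theorem coxl_d_f : FreeGroup.lift (permOf fwd inv hfi hif) ((FreeGroup.of Gen.d * FreeGroup.of Gen.f) ^ 2) = 1 :=
  lift_cox_eq_one fwd inv hfi hif 2 Gen.d Gen.f relact_17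
theorem coxl_e_e : FreeGroup.lift (permOf fwd inv hfi hif) ((FreeGroup.of Gen.e * FreeGroup.of Gen.e) ^ 1) = 1 :=
  lift_cox_eq_one fwd inv hfi hif 1 Gen.e Gen.e relact_18
theorem coxl_e_f : FreeGroup.lift (permOf fwd inv hfi hif) ((FreeGroup.of Gen.e * FreeGroup.of Gen.f) ^ 3) = 1 :=
  lift_cox_eq_one fwd inv hfi hif 3 Gen.e Gen.f relact_19
theorem coxl_f_f : FreeGroup.lift (permOf fwd inv hfi hif) ((FreeGroup.of Gen.f * FreeGroup.of Gen.f) ^ 1) = 1 :=
  lift_cox_eq_one fwd inv hfi hif 1 Gen.f Gen.f relact_20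
theorem coxl_b_a : FreeGroup.lift (permOf fwd inv hfi hif) ((FreeGroup.of Gen.b * FreeGroup.of Gen.a) ^ 3) = 1 :=
  lift_cox_symm fwd inv hfi hif 3 Gen.a Gen.b coxl_a_b
theorem coxl_c_a : FreeGroup.lift (permOf fwd inv hfi hif) ((FreeGroup.of Gen.c * FreeGroup.of Gen.a) ^ 2) = 1 :=
  lift_cox_symm fwd inv hfi hif 2 Gen.a Gen.c coxl_a_c
theorem coxl_c_b : FreeGroup.lift (permOf fwd inv hfi hif) ((FreeGroup.of Gen.c * FreeGroup.of Gen.b) ^ 3) = 1 :=
  lift_cox_symm fwd inv hfi hif 3 Gen.b Gen.c coxl_b_c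
theorem coxl_d_a : FreeGroup.lift (permOf fwd inv hfi hif) ((FreeGroup.of Gen.d * FreeGroup.of Gen.a) ^ 2) = 1 :=
  lift_cox_symm fwd inv hfi hif 2 Gen.a Gen.d coxl_a_d
theorem coxl_d_b : FreeGroup.lift (permOf fwd inv hfi hif) ((FreeGroup.of Gen.d * FreeGroup.of Gen.b) ^ 2) = 1 :=
  lift_cox_symm fwd inv hfi hif 2 Gen.b Gen.d coxl_b_d
theorem coxl_d_c : FreeGroup.lift (permOf fwd inv hfi hif) ((FreeGroup.of Gen.d * FreeGroup.of Gen.c) ^ 8) = 1 :=
  lift_cox_symm fwd inv hfi hif 8 Gen.c Gen.d coxl_c_d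
theorem coxl_e_a : FreeGroup.lift (permOf fwd inv hfi hif) ((FreeGroup.of Gen.e * FreeGroup.of Gen.a) ^ 2) = 1 :=
  lift_cox_symm fwd inv hfi hif 2 Gen.a Gen.e coxl_a_e
theorem coxl_e_b : FreeGroup.lift (permOf fwd inv hfi hif) ((FreeGroup.of Gen.e * FreeGroup.of Gen.b) ^ 2) = 1 :=
  lift_cox_symm fwd inv hfi hif 2 Gen.b Gen.e coxl_b_e
theorem coxl_e_c : FreeGroup.lift (permOf fwd inv hfi hif) ((FreeGroup.of Gen.e * FreeGroup.of Gen.c) ^ 2) = 1 :=
  lift_cox_symm fwd inv hfi hif 2 Gen.c Gen.e coxl_c_e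
theorem coxl_e_d : FreeGroup.lift (permOf fwd inv hfi hif) ((FreeGroup.of Gen.e * FreeGroup.of Gen.d) ^ 3) = 1 :=
  lift_cox_symm fwd inv hfi hif 3 Gen.d Gen.e coxl_d_e
theorem coxl_f_a : FreeGroup.lift (permOf fwd inv hfi hif) ((FreeGroup.of Gen.f * FreeGroup.of Gen.a) ^ 2) = 1 :=
  lift_cox_symm fwd inv hfi hif 2 Gen.a Gen.f coxl_a_f
theorem coxl_f_b : FreeGroup.lift (permOf fwd inv hfi hif) ((FreeGroup.of Gen.f * FreeGroup.of Gen.b) ^ 2) = 1 :=
  lift_cox_symm fwd inv hfi hif 2 Gen.b Gen.f coxl_b_f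
theorem coxl_f_c : FreeGroup.lift (permOf fwd inv hfi hif) ((FreeGroup.of Gen.f * FreeGroup.of Gen.c) ^ 2) = 1 :=
  lift_cox_symm fwd inv hfi hif 2 Gen.c Gen.f coxl_c_f
theorem coxl_f_d : FreeGroup.lift (permOf fwd inv hfi hif) ((FreeGroup.of Gen.f * FreeGroup.of Gen.d) ^ 2) = 1 :=
  lift_cox_symm fwd inv hfi hif 2 Gen.d Gen.f coxl_d_f
theorem coxl_f_e : FreeGroup.lift (permOf fwd inv hfi hif) ((FreeGroup.of Gen.f * FreeGroup.of Gen.e) ^ 3) = 1 :=
  lift_cox_symm fwd inv hfi hif 3 Gen.e Gen.f coxl_e_f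

theorem hrel : ∀ r ∈ rels, FreeGroup.lift (permOf fwd inv hfi hif) r = 1 := by
  intro r hr
  rcases hr with ⟨x, hx, y, hy, rfl⟩ | hr
  · cases x <;> cases y
    · exact absurd hx (by decide)
    · exact absurd hx (by decide)
    · exact absurd hx (by decide)
    · exact absurd hx (by decide)
    · exact absurd hx (by decide)
    · exact absurd hx (by decide)
    · exact absurd hx (by decide)
    · exact absurd hy (by decide)
    · exact coxl_a_a
    · exact coxl_a_b
    · exact coxl_a_c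
    · exact coxl_a_d
    · exact coxl_a_e
    · exact coxl_a_f
    · exact absurd hy (by decide)
    · exact coxl_b_a
    · exact coxl_b_b
    · exact coxl_b_c
    · exact coxl_b_d
    · exact coxl_b_e
    · exact coxl_b_f
    · exact absurd hy (by decide)
    · exact coxl_c_a
    · exact coxl_c_b
    · exact coxl_c_c
    · exact coxl_c_d
    · exact coxl_c_e
    · exact coxl_c_f
    · exact absurd hy (by decide)
    · exact coxl_d_a
    · exact coxl_d_b
    · exact coxl_d_c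
    · exact coxl_d_d
    · exact coxl_d_e
    · exact coxl_d_f
    · exact absurd hy (by decide)
    · exact coxl_e_a
    · exact coxl_e_b
    · exact coxl_e_c
    · exact coxl_e_d
    · exact coxl_e_e
    · exact coxl_e_f
    · exact absurd hy (by decide)
    · exact coxl_f_a
    · exact coxl_f_b
    · exact coxl_f_c
    · exact coxl_f_d
    · exact coxl_f_e
    · exact coxl_f_f
  · have hr' : r ∈ Cfsg.Spor.ON.extra := hr
    unfold Cfsg.Spor.ON.extra at hr'
    simp only [List.mem_cons, List.not_mem_nil, or_false] at hr'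
    rcases hr' with rfl | rfl | rfl | rfl | rfl | rfl | rfl
    · exact lift_eq_one_of_act fwd inv hfi hif relW_21 relact_21
    · exact lift_eq_one_of_act fwd inv hfi hif relW_22 relact_22
    · exact lift_eq_one_of_act fwd inv hfi hif relW_23 relact_23
    · exact lift_eq_one_of_act fwd inv hfi hif relW_24 relact_24
    · exact lift_eq_one_of_act fwd inv hfi hif relW_25 relact_25
    · exact lift_eq_one_of_act fwd inv hfi hif relW_26 relact_26
    · exact lift_eq_one_of_act fwd inv hfi hif relW_27 relact_27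

/-- the permutation representation of the presented O'Nan group on the 122760 points -/
noncomputable def rep : PresentedGroup rels →* Equiv.Perm Pt := phi rels fwd inv hfi hif hrel

theorem rep_of (x : Gen) (p : Pt) : rep (PresentedGroup.of x) p = fwd x p :=
  phi_of rels fwd inv hfi hif hrel x p

/-- a point moved differently by `a` and `b` -/
def p2 : Pt := ⟨.c0, .c0, .c2⟩

theorem fa_p2 : idx (fwd Gen.a p2) = 8 := by decide +kernel
theorem fb_p2 : idx (fwd Gen.b p2) = 1 := by decide +kernel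
theorem id_p2 : idx p2 = 2 := by decide +kernel

theorem mk_a_mem : PresentedGroup.mk rels Cfsg.Spor.ON.a ∈ subH rels S :=
  ⟨Cfsg.Spor.ON.a, Subgroup.subset_closure (by simp [S]), rfl⟩

theorem mk_b_mem : PresentedGroup.mk rels Cfsg.Spor.ON.b ∈ subH rels S :=
  ⟨Cfsg.Spor.ON.b, Subgroup.subset_closure (by simp [S]), rfl⟩

theorem of_a_ne_one : (PresentedGroup.of Gen.a : PresentedGroup rels) ≠ 1 := by
  intro h
  have h1 := rep_of Gen.a p2
  rw [h, map_one] at h1
  have h2 := congrArg idx h1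
  rw [fa_p2] at h2
  have h3 : idx ((1 : Equiv.Perm Pt) p2) = 2 := id_p2
  rw [h3] at h2
  exact absurd h2 (by decide)

theorem of_b_ne_one : (PresentedGroup.of Gen.b : PresentedGroup rels) ≠ 1 := by
  intro h
  have h1 := rep_of Gen.b p2
  rw [h, map_one] at h1
  have h2 := congrArg idx h1
  rw [fb_p2] at h2
  have h3 : idx ((1 : Equiv.Perm Pt) p2) = 2 := id_p2
  rw [h3] at h2
  exact absurd h2 (by decide)

theorem of_a_ne_of_b : (PresentedGroup.of Gen.a : PresentedGroup rels) ≠ PresentedGroup.of Gen.b := by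
  intro h
  have h1 := rep_of Gen.a p2
  rw [h, rep_of Gen.b p2] at h1
  have h2 := congrArg idx h1
  rw [fa_p2, fb_p2] at h2
  exact absurd h2 (by decide)

/-- **`H` has three distinct elements.** -/
theorem three_elements : ∃ x y z : ↥(subH rels S), x ≠ y ∧ x ≠ z ∧ y ≠ z := by
  refine ⟨1, ⟨PresentedGroup.of Gen.a, mk_a_mem⟩, ⟨PresentedGroup.of Gen.b, mk_b_mem⟩, ?_, ?_, ?_⟩
  · intro h
    exact of_a_ne_one (congrArg Subtype.val h).symm
  · intro h
    exact of_b_ne_one (congrArg Subtype.val h).symm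
  · intro h
    exact of_a_ne_of_b (congrArg Subtype.val h)

/-- if `H` is finite, it has more than two elements -/
theorem two_lt_card [Finite ↥(subH rels S)] : 2 < Nat.card ↥(subH rels S) := by
  haveI := Fintype.ofFinite ↥(subH rels S)
  rw [Nat.card_eq_fintype_card]
  exact Fintype.two_lt_card_iff.mpr three_elements

/-- the same statement for the subgroup exactly as it is written in S1692/S1693 -/
theorem two_lt_card_stmt
    [Finite ↥((Subgroup.closure ({Cfsg.Spor.ON.a, Cfsg.Spor.ON.b, Cfsg.Spor.ON.c, Cfsg.Spor.ON.d, Cfsg.Spor.ON.e, Cfsg.Spor.ON.f} : Set (FreeGroup Cfsg.Spor.ON.Gen))).map (PresentedGroup.mk (Cfsg.Spor.coxRelators Cfsg.Spor.ON.edges ∪ {r | r ∈ Cfsg.Spor.ON.extra})))] :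
    2 < Nat.card ↥((Subgroup.closure ({Cfsg.Spor.ON.a, Cfsg.Spor.ON.b, Cfsg.Spor.ON.c, Cfsg.Spor.ON.d, Cfsg.Spor.ON.e, Cfsg.Spor.ON.f} : Set (FreeGroup Cfsg.Spor.ON.Gen))).map (PresentedGroup.mk (Cfsg.Spor.coxRelators Cfsg.Spor.ON.edges ∪ {r | r ∈ Cfsg.Spor.ON.extra}))) :=
  two_lt_card

end Cfsg.Agent.Helper28.S1692H
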