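import Cfsg.Agent.Lib.Helper28.S1692.Lv_g
import Cfsg.Agent.Lib.Helper28.S1692.Lv_a
import Cfsg.Agent.Lib.Helper28.S1692.Lv_b
import Cfsg.Agent.Lib.Helper28.S1692.Lv_c
import Cfsg.Agent.Lib.Helper28.S1692.Lv_d
import Cfsg.Agent.Lib.Helper28.S1692.Lv_e
import Cfsg.Agent.Lib.Helper28.S1692.Lv_f
import Cfsg.Agent.Lib.Helper28.S1692.Tree

set_option autoImplicit false
set_option maxRecDepth 100000
set_option linter.all false

namespace Cfsg.Agent.Helper28.S1692

open Cfsg.Agent.Helper28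
open Cfsg.Spor.ON (Gen)

noncomputable section

def lvl : Gen → Pt → Nat := @Gen.rec (fun _ => Pt → Nat) lv_g lv_a lv_b lv_c lv_d lv_e lv_f

/-- coset of a point -/
abbrev P (p : Pt) : PresentedGroup rels ⧸ subH rels S := psiW rels S fwd inv o plet idx p

end

end Cfsg.Agent.Helper28.S1692
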