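import Cfsg.Agent.Lib.Helper28.S1692.SeedsPre

set_option autoImplicit false
set_option maxRecDepth 100000
set_option linter.all false

namespace Cfsg.Agent.Helper28.S1692

open Cfsg.Agent.Helper28
open Cfsg.Spor.ON (Gen)

noncomputable section

namespace K0
abbrev LD1_c0 := D1.c0
abbrev LD1_c1 := D1.c1
abbrev LD1_c2 := D1.c2
abbrev LD1_c3 := D1.c3
abbrev LD1_c4 := D1.c4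
abbrev LD1_c5 := D1.c5
abbrev LD1_c6 := D1.c6
abbrev LD1_c7 := D1.c7
abbrev LD1_c8 := D1.c8
abbrev LD1_c9 := D1.c9
abbrev LD1_c10 := D1.c10
abbrev LD1_c11 := D1.c11
abbrev LD1_c12 := D1.c12
abbrev LD1_c13 := D1.c13
abbrev LD1_c14 := D1.c14
abbrev LD1_c15 := D1.c15
abbrev LD1_c16 := D1.c16
abbrev LD1_c17 := D1.c17
abbrev LD1_c18 := D1.c18
abbrev LD1_c19 := D1.c19
abbrev LD1_c20 := D1.c20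
abbrev LD1_c21 := D1.c21
abbrev LD1_c22 := D1.c22
abbrev LD1_c23 := D1.c23
abbrev LD1_c24 := D1.c24
abbrev LD1_c25 := D1.c25
abbrev LD1_c26 := D1.c26
abbrev LD1_c27 := D1.c27
abbrev LD1_c28 := D1.c28
abbrev LD1_c29 := D1.c29
abbrev LD1_c30 := D1.c30
abbrev LD1_c31 := D1.c31
abbrev LD1_c32 := D1.c32
abbrev LD2_c0 := D2.c0
abbrev LD2_c1 := D2.c1
abbrev LD2_c2 := D2.c2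
abbrev LD2_c3 := D2.c3
abbrev LD2_c4 := D2.c4
abbrev LD2_c5 := D2.c5
abbrev LD2_c6 := D2.c6
abbrev LD2_c7 := D2.c7
abbrev LD2_c8 := D2.c8
abbrev LD2_c9 := D2.c9
abbrev LD2_c10 := D2.c10
abbrev LD2_c11 := D2.c11
abbrev LD2_c12 := D2.c12
abbrev LD2_c13 := D2.c13
abbrev LD2_c14 := D2.c14
abbrev LD2_c15 := D2.c15
abbrev LD2_c16 := D2.c16
abbrev LD2_c17 := D2.c17
abbrev LD2_c18 := D2.c18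
abbrev LD2_c19 := D2.c19
abbrev LD2_c20 := D2.c20
abbrev LD2_c21 := D2.c21
abbrev LD2_c22 := D2.c22
abbrev LD2_c23 := D2.c23
abbrev LD2_c24 := D2.c24
abbrev LD2_c25 := D2.c25
abbrev LD2_c26 := D2.c26
abbrev LD2_c27 := D2.c27
abbrev LD2_c28 := D2.c28
abbrev LD2_c29 := D2.c29
abbrev LD2_c30 := D2.c30
abbrev LD2_c31 := D2.c31
abbrev LD2_c32 := D2.c32
abbrev LD2_c33 := D2.c33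
abbrev LD2_c34 := D2.c34
abbrev LD2_c35 := D2.c35
abbrev LD2_c36 := D2.c36
abbrev LD2_c37 := D2.c37
abbrev LD2_c38 := D2.c38
abbrev LD2_c39 := D2.c39
abbrev LD2_c40 := D2.c40
abbrev LD2_c41 := D2.c41
abbrev LD2_c42 := D2.c42
abbrev LD2_c43 := D2.c43
abbrev LD2_c44 := D2.c44
abbrev LD2_c45 := D2.c45
abbrev LD2_c46 := D2.c46
abbrev LD2_c47 := D2.c47
abbrev LD2_c48 := D2.c48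
abbrev LD2_c49 := D2.c49
abbrev LD2_c50 := D2.c50
abbrev LD2_c51 := D2.c51
abbrev LD2_c52 := D2.c52
abbrev LD2_c53 := D2.c53
abbrev LD2_c54 := D2.c54
abbrev LD2_c55 := D2.c55
abbrev LD2_c56 := D2.c56
abbrev LD2_c57 := D2.c57
abbrev LD2_c58 := D2.c58
abbrev LD2_c59 := D2.c59
abbrev LD3_c0 := D3.c0
abbrev LD3_c1 := D3.c1
abbrev LD3_c2 := D3.c2
abbrev LD3_c3 := D3.c3
abbrev LD3_c4 := D3.c4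
abbrev LD3_c5 := D3.c5
abbrev LD3_c6 := D3.c6
abbrev LD3_c7 := D3.c7
abbrev LD3_c8 := D3.c8
abbrev LD3_c9 := D3.c9
abbrev LD3_c10 := D3.c10
abbrev LD3_c11 := D3.c11
abbrev LD3_c12 := D3.c12
abbrev LD3_c13 := D3.c13
abbrev LD3_c14 := D3.c14
abbrev LD3_c15 := D3.c15
abbrev LD3_c16 := D3.c16
abbrev LD3_c17 := D3.c17
abbrev LD3_c18 := D3.c18
abbrev LD3_c19 := D3.c19
abbrev LD3_c20 := D3.c20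
abbrev LD3_c21 := D3.c21
abbrev LD3_c22 := D3.c22
abbrev LD3_c23 := D3.c23
abbrev LD3_c24 := D3.c24
abbrev LD3_c25 := D3.c25
abbrev LD3_c26 := D3.c26
abbrev LD3_c27 := D3.c27
abbrev LD3_c28 := D3.c28
abbrev LD3_c29 := D3.c29
abbrev LD3_c30 := D3.c30
abbrev LD3_c31 := D3.c31
abbrev LD3_c32 := D3.c32
abbrev LD3_c33 := D3.c33
abbrev LD3_c34 := D3.c34
abbrev LD3_c35 := D3.c35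
abbrev LD3_c36 := D3.c36
abbrev LD3_c37 := D3.c37
abbrev LD3_c38 := D3.c38
abbrev LD3_c39 := D3.c39
abbrev LD3_c40 := D3.c40
abbrev LD3_c41 := D3.c41
abbrev LD3_c42 := D3.c42
abbrev LD3_c43 := D3.c43
abbrev LD3_c44 := D3.c44
abbrev LD3_c45 := D3.c45
abbrev LD3_c46 := D3.c46
abbrev LD3_c47 := D3.c47
abbrev LD3_c48 := D3.c48
abbrev LD3_c49 := D3.c49
abbrev LD3_c50 := D3.c50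
abbrev LD3_c51 := D3.c51
abbrev LD3_c52 := D3.c52
abbrev LD3_c53 := D3.c53
abbrev LD3_c54 := D3.c54
abbrev LD3_c55 := D3.c55
abbrev LD3_c56 := D3.c56
abbrev LD3_c57 := D3.c57
abbrev LD3_c58 := D3.c58
abbrev LD3_c59 := D3.c59
abbrev LD3_c60 := D3.c60
abbrev LD3_c61 := D3.c61
abbrev LG_g := Gen.g
abbrev Lsl_gt : Gen × Bool := sl_gt
alias Lfl_gt := fl_gt
alias Lpr_gt := pr_gt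
abbrev Lsl_gf : Gen × Bool := sl_gf
alias Lfl_gf := fl_gf
alias Lpr_gf := pr_gf
alias Lre_g := re_g
alias Leoe_g := eoe_g
abbrev LG_a := Gen.a
abbrev Lsl_at : Gen × Bool := sl_at
alias Lfl_at := fl_at
alias Lpr_at := pr_at
abbrev Lsl_af : Gen × Bool := sl_af
alias Lfl_af := fl_af
alias Lpr_af := pr_af
alias Lre_a := re_a
alias Leoe_a := eoe_a
abbrev LG_b := Gen.b
abbrev Lsl_bt : Gen × Bool := sl_bt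
alias Lfl_bt := fl_bt
alias Lpr_bt := pr_bt
abbrev Lsl_bf : Gen × Bool := sl_bf
alias Lfl_bf := fl_bf
alias Lpr_bf := pr_bf
alias Lre_b := re_b
alias Leoe_b := eoe_b
abbrev LG_c := Gen.c
abbrev Lsl_ct : Gen × Bool := sl_ct
alias Lfl_ct := fl_ct
alias Lpr_ct := pr_ct
abbrev Lsl_cf : Gen × Bool := sl_cf
alias Lfl_cf := fl_cf
alias Lpr_cf := pr_cf
alias Lre_c := re_c
alias Leoe_c := eoe_c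
abbrev LG_d := Gen.d
abbrev Lsl_dt : Gen × Bool := sl_dt
alias Lfl_dt := fl_dt
alias Lpr_dt := pr_dt
abbrev Lsl_df : Gen × Bool := sl_df
alias Lfl_df := fl_df
alias Lpr_df := pr_df
alias Lre_d := re_d
alias Leoe_d := eoe_d
abbrev LG_e := Gen.e
abbrev Lsl_et : Gen × Bool := sl_et
alias Lfl_et := fl_et
alias Lpr_et := pr_et
abbrev Lsl_ef : Gen × Bool := sl_ef
alias Lfl_ef := fl_ef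
alias Lpr_ef := pr_ef
alias Lre_e := re_e
alias Leoe_e := eoe_e
abbrev LG_f := Gen.f
abbrev Lsl_ft : Gen × Bool := sl_ft
alias Lfl_ft := fl_ft
alias Lpr_ft := pr_ft
abbrev Lsl_ff : Gen × Bool := sl_ff
alias Lfl_ff := fl_ff
alias Lpr_ff := pr_ff
alias Lre_f := re_f
alias Leoe_f := eoe_f
abbrev LK := Pt.mk
abbrev LQ : Type := Qt rels S
abbrev LP (p : Pt) : LQ := P p
abbrev Led (l : Gen × Bool) (c : LQ) : LQ := ed l c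
abbrev LEOK (x : Gen) (p : Pt) : Prop := EntryOK rels S fwd inv o plet idx x p
alias Lpe := pe
alias Lpn := pn
alias Lgr := gr
alias Lpq := pq
alias Lpqs := pqs
alias Llr := lr
alias Leop := eop
alias Lefun := efun
alias Lecon := econ
theorem Lrfl {α : Sort _} {a : α} : a = a := rfl
alias Lrot0 := rot0
alias Lrot1 := rot1
alias Lrot2 := rot2
alias Lrot3 := rot3
alias Lrot4 := rot4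
alias Lrot5 := rot5
alias Lrot6 := rot6
alias Lrot7 := rot7
alias Lrot8 := rot8
alias Lrot9 := rot9
alias Lrot10 := rot10
alias Lrot11 := rot11
alias Lrot12 := rot12
alias Lrot13 := rot13
alias Lrot14 := rot14
alias Lrot15 := rot15
alias Lrot16 := rot16
alias Lrot17 := rot17
alias Lrot18 := rot18
alias Lrot19 := rot19
alias Lrot20 := rot20
alias Lrot21 := rot21
alias Lrot22 := rot22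
alias Lrot23 := rot23
alias Lrot24 := rot24
alias Lrot25 := rot25
alias Lrot26 := rot26
alias Lrot27 := rot27
alias Lrot28 := rot28
alias Lrot29 := rot29
alias Lrot30 := rot30
alias Lrot31 := rot31
alias Lrot32 := rot32
alias Lrot33 := rot33
alias Lrot34 := rot34
alias Lrot35 := rot35
alias Lrot36 := rot36
alias Lrot37 := rot37
alias Lrot38 := rot38
alias Lrot39 := rot39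
alias Lrot40 := rot40
alias Lrot41 := rot41
alias Lrot42 := rot42
alias Lrot43 := rot43
alias Lrot44 := rot44
alias Lrot45 := rot45
alias Lrot46 := rot46
alias Lrot47 := rot47
alias Lrot48 := rot48
alias Lrot49 := rot49
alias Lrot50 := rot50
alias Lrot51 := rot51
alias Lrot52 := rot52
alias Lrot53 := rot53
alias Lrot54 := rot54
alias Lrot55 := rot55
alias Lrot56 := rot56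
alias Lrot57 := rot57
alias Lrot58 := rot58
alias Lrot59 := rot59
alias Lrot60 := rot60
alias Lrot61 := rot61
alias Lrot62 := rot62
alias Lrot63 := rot63
alias Lrot64 := rot64
alias Lrot65 := rot65
alias Lrot66 := rot66
alias Lrot67 := rot67
alias Lrot68 := rot68
alias Lrot69 := rot69
alias Lrot70 := rot70
alias Lrot71 := rot71
alias Lrot72 := rot72
alias Lrot73 := rot73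
alias Lrot74 := rot74
alias Lrot75 := rot75
alias Lrot76 := rot76
alias Lrot77 := rot77
alias Lrot78 := rot78
alias Lrot79 := rot79
alias Lrot80 := rot80
alias Lrot81 := rot81
alias Lrot82 := rot82
alias Lrot83 := rot83
alias Lrot84 := rot84
alias Lrot85 := rot85
alias Lrot86 := rot86
alias Lrot87 := rot87
alias Lrot88 := rot88
alias Lrot89 := rot89
alias Lrot90 := rot90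
alias Lrot91 := rot91
alias Lrot92 := rot92
alias Lrot93 := rot93
alias Lrot94 := rot94
alias Lrot95 := rot95
alias Lrot96 := rot96
alias Lrot97 := rot97
alias Lrot98 := rot98
alias Lrot99 := rot99
alias Lrot100 := rot100
alias Lrot101 := rot101
alias Lrot102 := rot102
alias Lrot103 := rot103
alias Lrot104 := rot104
alias Lrot105 := rot105
alias Lrot106 := rot106
alias Lrot107 := rot107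
alias Lrot108 := rot108
alias Lrot109 := rot109
alias Lrot110 := rot110
alias Lrot111 := rot111
alias Lrot112 := rot112
alias Lrot113 := rot113
alias Lrot114 := rot114
alias Lrot115 := rot115
alias Lrot116 := rot116
alias Lrot117 := rot117
alias Lrot118 := rot118
alias Lrot119 := rot119
alias Lrot120 := rot120
alias Lrot121 := rot121
alias Lrot122 := rot122
alias Lrot123 := rot123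
alias Lrot124 := rot124
alias Lrot125 := rot125
alias Lrot126 := rot126
alias Lrot127 := rot127
alias Lrot128 := rot128
alias Lrot129 := rot129
alias Lrot130 := rot130
alias Lrot131 := rot131
alias Lrot132 := rot132
alias Lrot133 := rot133
alias Lrot134 := rot134
alias Lrot135 := rot135
alias Lrot136 := rot136
alias Lrot137 := rot137
alias Lrot138 := rot138
alias Lrot139 := rot139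
alias Lrot140 := rot140
alias Lrot141 := rot141
alias Lrot142 := rot142
alias Lrot143 := rot143
alias Lrot144 := rot144
alias Lrot145 := rot145
alias Lrot146 := rot146
alias Lrot147 := rot147
alias Lrot148 := rot148
alias Lrot149 := rot149
alias Lrot150 := rot150
alias Lrot151 := rot151
alias Lrot152 := rot152
alias Lrot153 := rot153
alias Lrot154 := rot154
alias Lrot155 := rot155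
alias Lrot156 := rot156
alias Lrot157 := rot157
alias Lrot158 := rot158
alias Lrot159 := rot159
alias Lrot160 := rot160
alias Lrot161 := rot161
alias Lrot162 := rot162
alias Lrot163 := rot163
alias Lrot164 := rot164
alias Lrot165 := rot165
alias Lrot166 := rot166
alias Lrot167 := rot167
alias Lrot168 := rot168
alias Lrot169 := rot169
alias Lrot170 := rot170
alias Lrot171 := rot171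
alias Lrot172 := rot172
alias Lrot173 := rot173
alias Lrot174 := rot174
alias Lrot175 := rot175
alias Lrot176 := rot176
alias Lrot177 := rot177
alias Lrot178 := rot178

section
variable (IH : IHT)
include IH

def v3 : LQ := Led Lsl_at (LP (LK LD1_c0 LD2_c0 LD3_c3))
theorem f60 : Led Lsl_at (LP (LK LD1_c0 LD2_c0 LD3_c3)) = v3 :=
  Lrfl
theorem f17 : Led Lsl_ct (LP (LK LD1_c0 LD2_c0 LD3_c1)) = (LP (LK LD1_c0 LD2_c0 LD3_c3)) :=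
  Lre_c IH (LK LD1_c0 LD2_c0 LD3_c1) (LK LD1_c0 LD2_c0 LD3_c3) Lrfl Lrfl
def v0 : LQ := Led Lsl_at (LP (LK LD1_c0 LD2_c0 LD3_c1))
theorem f8 : Led Lsl_at (LP (LK LD1_c0 LD2_c0 LD3_c1)) = v0 :=
  Lrfl
theorem f9 : Led Lsl_af (LP (LK LD1_c0 LD2_c0 LD3_c1)) = v0 :=
  Lgr Lrot0 (Lpr_at (f8 IH) (Lpn v0))
theorem f63 : Led Lsl_cf v0 = v3 :=
  Lgr Lrot1 (Lpe (f9 IH) (Lpr_ct (f17 IH) (Lpr_at (f60 IH) (Lpn v3))))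
theorem f0 : Led Lsl_gt (LP (LK LD1_c0 LD2_c0 LD3_c0)) = (LP (LK LD1_c0 LD2_c0 LD3_c1)) :=
  Lre_g IH (LK LD1_c0 LD2_c0 LD3_c0) (LK LD1_c0 LD2_c0 LD3_c1) Lrfl Lrfl
theorem f1 : Led Lsl_gt (LP (LK LD1_c0 LD2_c0 LD3_c1)) = (LP (LK LD1_c0 LD2_c0 LD3_c0)) :=
  Lre_g IH (LK LD1_c0 LD2_c0 LD3_c1) (LK LD1_c0 LD2_c0 LD3_c0) Lrfl Lrfl
theorem f20 : Led Lsl_ft (LP (LK LD1_c0 LD2_c0 LD3_c1)) = v0 :=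
  Lgr Lrot2 (Lpr_gt (f1 IH) (Lpr_gt (f0 IH) (Lpr_af (f9 IH) (Lpn v0))))
theorem f23 : Led Lsl_ff (LP (LK LD1_c0 LD2_c0 LD3_c1)) = v0 :=
  Lgr Lrot3 (Lpr_ft (f20 IH) (Lpn v0))
theorem f65 : Led Lsl_ft (LP (LK LD1_c0 LD2_c0 LD3_c3)) = v3 :=
  Lgr Lrot4 (Lpe (f17 IH) (Lpr_ff (f23 IH) (Lpr_cf (f63 IH) (Lpn v3))))
theorem f45 : Led Lsl_gt (LP (LK LD1_c0 LD2_c0 LD3_c3)) = (LP (LK LD1_c0 LD2_c0 LD3_c12)) :=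
  Lre_g IH (LK LD1_c0 LD2_c0 LD3_c3) (LK LD1_c0 LD2_c0 LD3_c12) Lrfl Lrfl
theorem f61 : Led Lsl_af (LP (LK LD1_c0 LD2_c0 LD3_c3)) = v3 :=
  Lgr Lrot0 (Lpr_at (f60 IH) (Lpn v3))
def v2 : LQ := Led Lsl_gf (LP (LK LD1_c0 LD2_c0 LD3_c3))
theorem f46 : Led Lsl_gf (LP (LK LD1_c0 LD2_c0 LD3_c3)) = v2 :=
  Lrfl
theorem f68 : (LP (LK LD1_c0 LD2_c0 LD3_c12)) = v2 :=
  (Llr Lrot5 (Lpe (f45 IH) (Lpr_ft (f65 IH) (Lpe (f61 IH) (Lpr_gf (f46 IH) (Lpn v2)))))).symm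
theorem f69 : Led Lsl_gt (LP (LK LD1_c0 LD2_c0 LD3_c12)) = (LP (LK LD1_c0 LD2_c0 LD3_c3)) :=
  Leop (Lpr_gf (f46 IH) (Lpq (f68 IH) (Lpn (LP (LK LD1_c0 LD2_c0 LD3_c12)))))
theorem seed_0 : LEOK LG_g (LK LD1_c0 LD2_c0 LD3_c12) :=
  Leoe_g (LK LD1_c0 LD2_c0 LD3_c12) (f69 IH)
def v4 : LQ := Led Lsl_gf (LP (LK LD1_c0 LD2_c0 LD3_c4))
theorem f310 : Led Lsl_gf (LP (LK LD1_c0 LD2_c0 LD3_c4)) = v4 :=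
  Lrfl
theorem f12 : Led Lsl_ct (LP (LK LD1_c0 LD2_c0 LD3_c3)) = (LP (LK LD1_c0 LD2_c0 LD3_c1)) :=
  Lre_c IH (LK LD1_c0 LD2_c0 LD3_c3) (LK LD1_c0 LD2_c0 LD3_c1) Lrfl Lrfl
theorem f4 : Led Lsl_ct (LP (LK LD1_c0 LD2_c0 LD3_c0)) = (LP (LK LD1_c0 LD2_c0 LD3_c0)) :=
  Lre_c IH (LK LD1_c0 LD2_c0 LD3_c0) (LK LD1_c0 LD2_c0 LD3_c0) Lrfl Lrfl
theorem f5 : Led Lsl_dt (LP (LK LD1_c0 LD2_c0 LD3_c0)) = (LP (LK LD1_c0 LD2_c0 LD3_c0)) :=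
  Lre_d IH (LK LD1_c0 LD2_c0 LD3_c0) (LK LD1_c0 LD2_c0 LD3_c0) Lrfl Lrfl
theorem f49 : Led Lsl_dt v2 = v2 :=
  Lgr Lrot6 (Lpe (f46 IH) (Lpr_ct (f12 IH) (Lpr_gt (f1 IH) (Lpr_ct (f4 IH) (Lpe (f5 IH) (Lpe (f4 IH) (Lpe (f1 IH) (Lpe (f12 IH) (Lpr_gf (f46 IH) (Lpn v2))))))))))
theorem f18 : Led Lsl_dt (LP (LK LD1_c0 LD2_c0 LD3_c1)) = (LP (LK LD1_c0 LD2_c0 LD3_c4)) :=
  Lre_d IH (LK LD1_c0 LD2_c0 LD3_c1) (LK LD1_c0 LD2_c0 LD3_c4) Lrfl Lrfl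
theorem f47 : Led Lsl_dt (LP (LK LD1_c0 LD2_c0 LD3_c3)) = (LP (LK LD1_c0 LD2_c0 LD3_c14)) :=
  Lre_d IH (LK LD1_c0 LD2_c0 LD3_c3) (LK LD1_c0 LD2_c0 LD3_c14) Lrfl Lrfl
theorem f75 : Led Lsl_ct (LP (LK LD1_c0 LD2_c0 LD3_c4)) = (LP (LK LD1_c0 LD2_c0 LD3_c14)) :=
  Lgr Lrot7 (Lpe (f18 IH) (Lpe (f0 IH) (Lpe (f5 IH) (Lpe (f1 IH) (Lpe (f12 IH) (Lpr_gt (f45 IH) (Lpqs (f68 IH) (Lpr_dt (f49 IH) (Lpq (f68 IH) (Lpqs (f68 IH) (Lpe (f46 IH) (Lpr_dt (f47 IH) (Lpn (LP (LK LD1_c0 LD2_c0 LD3_c14)))))))))))))))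
theorem f21 : Led Lsl_dt (LP (LK LD1_c0 LD2_c0 LD3_c14)) = (LP (LK LD1_c0 LD2_c0 LD3_c3)) :=
  Lre_d IH (LK LD1_c0 LD2_c0 LD3_c14) (LK LD1_c0 LD2_c0 LD3_c3) Lrfl Lrfl
theorem f92 : Led Lsl_gt (LP (LK LD1_c0 LD2_c0 LD3_c4)) = (LP (LK LD1_c0 LD2_c0 LD3_c16)) :=
  Lre_g IH (LK LD1_c0 LD2_c0 LD3_c4) (LK LD1_c0 LD2_c0 LD3_c16) Lrfl Lrfl
theorem f13 : Led Lsl_dt (LP (LK LD1_c0 LD2_c0 LD3_c4)) = (LP (LK LD1_c0 LD2_c0 LD3_c1)) :=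
  Lre_d IH (LK LD1_c0 LD2_c0 LD3_c4) (LK LD1_c0 LD2_c0 LD3_c1) Lrfl Lrfl
theorem f311 : Led Lsl_ct v4 = v4 :=
  Lgr Lrot8 (Lpe (f310 IH) (Lpr_dt (f13 IH) (Lpr_gt (f1 IH) (Lpr_dt (f5 IH) (Lpe (f4 IH) (Lpe (f5 IH) (Lpe (f1 IH) (Lpe (f13 IH) (Lpr_gf (f310 IH) (Lpn v4))))))))))
theorem f318 : (LP (LK LD1_c0 LD2_c0 LD3_c16)) = v4 :=
  (Llr Lrot9 (Lpe (f92 IH) (Lpe (f18 IH) (Lpr_gt (f1 IH) (Lpr_ct (f4 IH) (Lpr_gt (f0 IH) (Lpr_ct (f17 IH) (Lpe (f21 IH) (Lpe (f75 IH) (Lpr_gf (f310 IH) (Lpe (f311 IH) (Lpn v4)))))))))))).symm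
theorem f319 : Led Lsl_gt (LP (LK LD1_c0 LD2_c0 LD3_c16)) = (LP (LK LD1_c0 LD2_c0 LD3_c4)) :=
  Leop (Lpr_gf (f310 IH) (Lpq (f318 IH) (Lpn (LP (LK LD1_c0 LD2_c0 LD3_c16)))))
theorem seed_1 : LEOK LG_g (LK LD1_c0 LD2_c0 LD3_c16) :=
  Leoe_g (LK LD1_c0 LD2_c0 LD3_c16) (f319 IH)
def v9 : LQ := Led Lsl_at (LP (LK LD1_c0 LD2_c0 LD3_c6))
theorem f469 : Led Lsl_at (LP (LK LD1_c0 LD2_c0 LD3_c6)) = v9 :=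
  Lrfl
theorem f470 : Led Lsl_af (LP (LK LD1_c0 LD2_c0 LD3_c6)) = v9 :=
  Lgr Lrot0 (Lpr_at (f469 IH) (Lpn v9))
theorem f447 : Led Lsl_ct (LP (LK LD1_c0 LD2_c0 LD3_c22)) = (LP (LK LD1_c0 LD2_c0 LD3_c6)) :=
  Lre_c IH (LK LD1_c0 LD2_c0 LD3_c22) (LK LD1_c0 LD2_c0 LD3_c6) Lrfl Lrfl
theorem f472 : Led Lsl_dt (LP (LK LD1_c0 LD2_c1 LD3_c1)) = (LP (LK LD1_c0 LD2_c0 LD3_c22)) :=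
  Lre_d IH (LK LD1_c0 LD2_c1 LD3_c1) (LK LD1_c0 LD2_c0 LD3_c22) Lrfl Lrfl
theorem f473 : Led Lsl_ct (LP (LK LD1_c0 LD2_c2 LD3_c28)) = (LP (LK LD1_c0 LD2_c1 LD3_c1)) :=
  Lre_c IH (LK LD1_c0 LD2_c2 LD3_c28) (LK LD1_c0 LD2_c1 LD3_c1) Lrfl Lrfl
theorem f25 : Led Lsl_gt (LP (LK LD1_c0 LD2_c0 LD3_c2)) = (LP (LK LD1_c0 LD2_c0 LD3_c6)) :=
  Lre_g IH (LK LD1_c0 LD2_c0 LD3_c2) (LK LD1_c0 LD2_c0 LD3_c6) Lrfl Lrfl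
theorem f26 : Led Lsl_gt (LP (LK LD1_c0 LD2_c0 LD3_c7)) = (LP (LK LD1_c0 LD2_c0 LD3_c2)) :=
  Lre_g IH (LK LD1_c0 LD2_c0 LD3_c7) (LK LD1_c0 LD2_c0 LD3_c2) Lrfl Lrfl
theorem f471 : Led Lsl_ft (LP (LK LD1_c0 LD2_c0 LD3_c7)) = v9 :=
  Lgr Lrot2 (Lpr_gt (f26 IH) (Lpr_gt (f25 IH) (Lpr_af (f470 IH) (Lpn v9))))
theorem f72 : Led Lsl_bt (LP (LK LD1_c0 LD2_c0 LD3_c40)) = (LP (LK LD1_c0 LD2_c0 LD3_c12)) :=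
  Lre_b IH (LK LD1_c0 LD2_c0 LD3_c40) (LK LD1_c0 LD2_c0 LD3_c12) Lrfl Lrfl
theorem f3 : Led Lsl_bt (LP (LK LD1_c0 LD2_c0 LD3_c0)) = (LP (LK LD1_c0 LD2_c0 LD3_c0)) :=
  Lre_b IH (LK LD1_c0 LD2_c0 LD3_c0) (LK LD1_c0 LD2_c0 LD3_c0) Lrfl Lrfl
theorem f10 : Led Lsl_bt (LP (LK LD1_c0 LD2_c0 LD3_c2)) = (LP (LK LD1_c0 LD2_c0 LD3_c1)) :=
  Lre_b IH (LK LD1_c0 LD2_c0 LD3_c2) (LK LD1_c0 LD2_c0 LD3_c1) Lrfl Lrfl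
theorem f27 : Led Lsl_ct (LP (LK LD1_c0 LD2_c0 LD3_c2)) = (LP (LK LD1_c0 LD2_c0 LD3_c9)) :=
  Lre_c IH (LK LD1_c0 LD2_c0 LD3_c2) (LK LD1_c0 LD2_c0 LD3_c9) Lrfl Lrfl
theorem f50 : Led Lsl_gt (LP (LK LD1_c0 LD2_c0 LD3_c9)) = (LP (LK LD1_c0 LD2_c0 LD3_c27)) :=
  Lre_g IH (LK LD1_c0 LD2_c0 LD3_c9) (LK LD1_c0 LD2_c0 LD3_c27) Lrfl Lrfl
theorem f232 : Led Lsl_ct (LP (LK LD1_c0 LD2_c0 LD3_c40)) = (LP (LK LD1_c0 LD2_c0 LD3_c27)) :=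
  Lgr Lrot10 (Lpr_bt (f72 IH) (Lpqs (f68 IH) (Lpe (f46 IH) (Lpr_ct (f12 IH) (Lpr_gt (f1 IH) (Lpe (f4 IH) (Lpr_bt (f3 IH) (Lpr_gt (f0 IH) (Lpe (f10 IH) (Lpr_ct (f27 IH) (Lpr_gt (f50 IH) (Lpn (LP (LK LD1_c0 LD2_c0 LD3_c27))))))))))))))
theorem f234 : Led Lsl_cf (LP (LK LD1_c0 LD2_c0 LD3_c40)) = (LP (LK LD1_c0 LD2_c0 LD3_c27)) :=
  Lgr Lrot11 (Lpr_ct (f232 IH) (Lpn (LP (LK LD1_c0 LD2_c0 LD3_c27))))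
theorem f71 : Led Lsl_bt (LP (LK LD1_c0 LD2_c0 LD3_c12)) = (LP (LK LD1_c0 LD2_c0 LD3_c40)) :=
  Lre_b IH (LK LD1_c0 LD2_c0 LD3_c12) (LK LD1_c0 LD2_c0 LD3_c40) Lrfl Lrfl
theorem f73 : Led Lsl_df (LP (LK LD1_c0 LD2_c0 LD3_c40)) = (LP (LK LD1_c0 LD2_c0 LD3_c40)) :=
  Lgr Lrot12 (Lpr_bt (f72 IH) (Lpqs (f68 IH) (Lpr_dt (f49 IH) (Lpq (f68 IH) (Lpr_bt (f71 IH) (Lpn (LP (LK LD1_c0 LD2_c0 LD3_c40))))))))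
theorem f291 : Led Lsl_dt (LP (LK LD1_c0 LD2_c0 LD3_c7)) = (LP (LK LD1_c0 LD2_c0 LD3_c7)) :=
  Lgr Lrot6 (Lpr_gt (f26 IH) (Lpr_ct (f27 IH) (Lpr_gt (f50 IH) (Lpe (f234 IH) (Lpr_df (f73 IH) (Lpr_cf (f234 IH) (Lpe (f50 IH) (Lpe (f27 IH) (Lpe (f26 IH) (Lpn (LP (LK LD1_c0 LD2_c0 LD3_c7))))))))))))
theorem f300 : Led Lsl_ct (LP (LK LD1_c0 LD2_c0 LD3_c7)) = (LP (LK LD1_c0 LD2_c0 LD3_c23)) :=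
  Lre_c IH (LK LD1_c0 LD2_c0 LD3_c7) (LK LD1_c0 LD2_c0 LD3_c23) Lrfl Lrfl
theorem f301 : Led Lsl_dt (LP (LK LD1_c0 LD2_c0 LD3_c23)) = (LP (LK LD1_c0 LD2_c1 LD3_c3)) :=
  Lre_d IH (LK LD1_c0 LD2_c0 LD3_c23) (LK LD1_c0 LD2_c1 LD3_c3) Lrfl Lrfl
theorem f302 : Led Lsl_ct (LP (LK LD1_c0 LD2_c1 LD3_c3)) = (LP (LK LD1_c0 LD2_c2 LD3_c32)) :=
  Lre_c IH (LK LD1_c0 LD2_c1 LD3_c3) (LK LD1_c0 LD2_c2 LD3_c32) Lrfl Lrfl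
theorem f474 : Led Lsl_df (LP (LK LD1_c0 LD2_c2 LD3_c28)) = (LP (LK LD1_c0 LD2_c2 LD3_c32)) :=
  Lgr Lrot13 (Lpr_ct (f473 IH) (Lpr_dt (f472 IH) (Lpr_ct (f447 IH) (Lpr_af (f470 IH) (Lpe (f471 IH) (Lpr_dt (f291 IH) (Lpr_ct (f300 IH) (Lpr_dt (f301 IH) (Lpr_ct (f302 IH) (Lpn (LP (LK LD1_c0 LD2_c2 LD3_c32))))))))))))
theorem f475 : Led Lsl_dt (LP (LK LD1_c0 LD2_c2 LD3_c32)) = (LP (LK LD1_c0 LD2_c2 LD3_c28)) :=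
  Leop (Lpr_df (f474 IH) (Lpn (LP (LK LD1_c0 LD2_c2 LD3_c32))))
theorem seed_2 : LEOK LG_d (LK LD1_c0 LD2_c2 LD3_c32) :=
  Leoe_d (LK LD1_c0 LD2_c2 LD3_c32) (f475 IH)
def v19 : LQ := Led Lsl_at (LP (LK LD1_c0 LD2_c0 LD3_c12))
theorem f1498 : Led Lsl_at (LP (LK LD1_c0 LD2_c0 LD3_c12)) = v19 :=
  Lrfl
theorem f1499 : Led Lsl_af (LP (LK LD1_c0 LD2_c0 LD3_c12)) = v19 :=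
  Lgr Lrot0 (Lpr_at (f1498 IH) (Lpn v19))
theorem f1502 : Led Lsl_ft v2 = v19 :=
  Lgr Lrot2 (Lpe (f46 IH) (Lpr_gt (f45 IH) (Lpr_af (f1499 IH) (Lpn v19))))
theorem f77 : Led Lsl_cf (LP (LK LD1_c0 LD2_c0 LD3_c4)) = (LP (LK LD1_c0 LD2_c0 LD3_c14)) :=
  Lgr Lrot14 (Lpe (f18 IH) (Lpe (f0 IH) (Lpe (f5 IH) (Lpe (f1 IH) (Lpr_ct (f17 IH) (Lpr_gt (f45 IH) (Lpqs (f68 IH) (Lpr_dt (f49 IH) (Lpq (f68 IH) (Lpqs (f68 IH) (Lpe (f46 IH) (Lpr_dt (f47 IH) (Lpn (LP (LK LD1_c0 LD2_c0 LD3_c14)))))))))))))))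
theorem f88 : Led Lsl_et (LP (LK LD1_c0 LD2_c0 LD3_c4)) = (LP (LK LD1_c0 LD2_c0 LD3_c17)) :=
  Lre_e IH (LK LD1_c0 LD2_c0 LD3_c4) (LK LD1_c0 LD2_c0 LD3_c17) Lrfl Lrfl
theorem f89 : Led Lsl_et (LP (LK LD1_c0 LD2_c0 LD3_c46)) = (LP (LK LD1_c0 LD2_c0 LD3_c14)) :=
  Lre_e IH (LK LD1_c0 LD2_c0 LD3_c46) (LK LD1_c0 LD2_c0 LD3_c14) Lrfl Lrfl
theorem f90 : Led Lsl_ct (LP (LK LD1_c0 LD2_c0 LD3_c17)) = (LP (LK LD1_c0 LD2_c0 LD3_c46)) :=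
  Lgr Lrot15 (Lpe (f88 IH) (Lpr_cf (f77 IH) (Lpe (f89 IH) (Lpn (LP (LK LD1_c0 LD2_c0 LD3_c46))))))
theorem f121 : Led Lsl_gt (LP (LK LD1_c0 LD2_c0 LD3_c17)) = (LP (LK LD1_c0 LD2_c0 LD3_c52)) :=
  Lre_g IH (LK LD1_c0 LD2_c0 LD3_c17) (LK LD1_c0 LD2_c0 LD3_c52) Lrfl Lrfl
theorem f122 : Led Lsl_dt (LP (LK LD1_c0 LD2_c0 LD3_c52)) = (LP (LK LD1_c0 LD2_c0 LD3_c58)) :=
  Lre_d IH (LK LD1_c0 LD2_c0 LD3_c52) (LK LD1_c0 LD2_c0 LD3_c58) Lrfl Lrfl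
theorem f123 : Led Lsl_gt (LP (LK LD1_c0 LD2_c0 LD3_c58)) = (LP (LK LD1_c0 LD2_c0 LD3_c20)) :=
  Lre_g IH (LK LD1_c0 LD2_c0 LD3_c58) (LK LD1_c0 LD2_c0 LD3_c20) Lrfl Lrfl
theorem f124 : Led Lsl_dt (LP (LK LD1_c0 LD2_c0 LD3_c20)) = (LP (LK LD1_c0 LD2_c0 LD3_c5)) :=
  Lre_d IH (LK LD1_c0 LD2_c0 LD3_c20) (LK LD1_c0 LD2_c0 LD3_c5) Lrfl Lrfl
theorem f125 : Led Lsl_ct (LP (LK LD1_c0 LD2_c0 LD3_c15)) = (LP (LK LD1_c0 LD2_c0 LD3_c5)) :=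
  Lre_c IH (LK LD1_c0 LD2_c0 LD3_c15) (LK LD1_c0 LD2_c0 LD3_c5) Lrfl Lrfl
theorem f126 : Led Lsl_dt (LP (LK LD1_c0 LD2_c0 LD3_c49)) = (LP (LK LD1_c0 LD2_c0 LD3_c15)) :=
  Lre_d IH (LK LD1_c0 LD2_c0 LD3_c49) (LK LD1_c0 LD2_c0 LD3_c15) Lrfl Lrfl
theorem f82 : Led Lsl_gt (LP (LK LD1_c0 LD2_c2 LD3_c1)) = (LP (LK LD1_c0 LD2_c0 LD3_c49)) :=
  Lre_g IH (LK LD1_c0 LD2_c2 LD3_c1) (LK LD1_c0 LD2_c0 LD3_c49) Lrfl Lrfl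
theorem f56 : Led Lsl_gt (LP (LK LD1_c0 LD2_c0 LD3_c46)) = (LP (LK LD1_c0 LD2_c1 LD3_c56)) :=
  Lre_g IH (LK LD1_c0 LD2_c0 LD3_c46) (LK LD1_c0 LD2_c1 LD3_c56) Lrfl Lrfl
theorem f127 : Led Lsl_df (LP (LK LD1_c0 LD2_c2 LD3_c1)) = (LP (LK LD1_c0 LD2_c1 LD3_c56)) :=
  Lgr Lrot16 (Lpr_gt (f82 IH) (Lpr_dt (f126 IH) (Lpr_ct (f125 IH) (Lpe (f124 IH) (Lpe (f123 IH) (Lpe (f122 IH) (Lpe (f121 IH) (Lpr_ct (f90 IH) (Lpr_gt (f56 IH) (Lpn (LP (LK LD1_c0 LD2_c1 LD3_c56))))))))))))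
theorem f58 : Led Lsl_dt (LP (LK LD1_c0 LD2_c0 LD3_c15)) = (LP (LK LD1_c0 LD2_c0 LD3_c49)) :=
  Lre_d IH (LK LD1_c0 LD2_c0 LD3_c15) (LK LD1_c0 LD2_c0 LD3_c49) Lrfl Lrfl
theorem f57 : Led Lsl_et (LP (LK LD1_c0 LD2_c0 LD3_c15)) = (LP (LK LD1_c0 LD2_c0 LD3_c3)) :=
  Lre_e IH (LK LD1_c0 LD2_c0 LD3_c15) (LK LD1_c0 LD2_c0 LD3_c3) Lrfl Lrfl
theorem f55 : Led Lsl_et (LP (LK LD1_c0 LD2_c0 LD3_c14)) = (LP (LK LD1_c0 LD2_c0 LD3_c46)) :=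
  Lre_e IH (LK LD1_c0 LD2_c0 LD3_c14) (LK LD1_c0 LD2_c0 LD3_c46) Lrfl Lrfl
theorem f142 : Led Lsl_ef (LP (LK LD1_c0 LD2_c0 LD3_c12)) = v2 :=
  Lgr Lrot17 (Lpe (f45 IH) (Lpe (f57 IH) (Lpr_dt (f58 IH) (Lpe (f82 IH) (Lpr_df (f127 IH) (Lpe (f56 IH) (Lpe (f55 IH) (Lpr_dt (f21 IH) (Lpr_gf (f46 IH) (Lpe (f49 IH) (Lpn v2)))))))))))
theorem f1500 : Led Lsl_df v19 = v19 :=
  Lgr Lrot18 (Lpe (f1499 IH) (Lpqs (f68 IH) (Lpr_dt (f49 IH) (Lpq (f68 IH) (Lpr_at (f1498 IH) (Lpn v19))))))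
theorem f1503 : Led Lsl_ff v2 = v19 :=
  Lgr Lrot19 (Lpr_dt (f49 IH) (Lpr_ft (f1502 IH) (Lpe (f1500 IH) (Lpn v19))))
theorem f1501 : Led Lsl_ef v19 = v19 :=
  Lgr Lrot20 (Lpe (f1499 IH) (Lpqs (f68 IH) (Lpe (f142 IH) (Lpr_at (f1498 IH) (Lpn v19)))))
theorem f1504 : v2 = v19 :=
  (Llr Lrot21 (Lpe (f142 IH) (Lpqs (f68 IH) (Lpr_ft (f1502 IH) (Lpe (f1501 IH) (Lpe (f1503 IH) (Lpe (f142 IH) (Lpqs (f68 IH) (Lpr_ft (f1502 IH) (Lpn v19)))))))))).symm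
theorem f1505 : Led Lsl_at (LP (LK LD1_c0 LD2_c0 LD3_c12)) = (LP (LK LD1_c0 LD2_c0 LD3_c12)) :=
  Leop (Lpqs (f68 IH) (Lpqs (f1504 IH) (Lpe (f1498 IH) (Lpn (LP (LK LD1_c0 LD2_c0 LD3_c12))))))
theorem seed_3 : LEOK LG_a (LK LD1_c0 LD2_c0 LD3_c12) :=
  Leoe_a (LK LD1_c0 LD2_c0 LD3_c12) (f1505 IH)
def v21 : LQ := Led Lsl_gf (LP (LK LD1_c0 LD2_c0 LD3_c13))
theorem f1630 : Led Lsl_gf (LP (LK LD1_c0 LD2_c0 LD3_c13)) = v21 :=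
  Lrfl
theorem f306 : Led Lsl_bt (LP (LK LD1_c0 LD2_c0 LD3_c3)) = (LP (LK LD1_c0 LD2_c0 LD3_c13)) :=
  Lre_b IH (LK LD1_c0 LD2_c0 LD3_c3) (LK LD1_c0 LD2_c0 LD3_c13) Lrfl Lrfl
def v20 : LQ := Led Lsl_ct (LP (LK LD1_c0 LD2_c0 LD3_c12))
theorem f1624 : Led Lsl_ct (LP (LK LD1_c0 LD2_c0 LD3_c12)) = v20 :=
  Lrfl
theorem f1625 : Led Lsl_cf (LP (LK LD1_c0 LD2_c0 LD3_c12)) = v20 :=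
  Lgr Lrot11 (Lpr_ct (f1624 IH) (Lpn v20))
theorem f1631 : Led Lsl_bt v20 = v21 :=
  Lgr Lrot22 (Lpe (f1625 IH) (Lpe (f45 IH) (Lpe (f17 IH) (Lpe (f0 IH) (Lpe (f3 IH) (Lpr_ct (f4 IH) (Lpe (f1 IH) (Lpe (f12 IH) (Lpr_bt (f306 IH) (Lpr_gf (f1630 IH) (Lpn v21)))))))))))
theorem f1627 : Led Lsl_ff v20 = v20 :=
  Lgr Lrot23 (Lpe (f1625 IH) (Lpqs (f68 IH) (Lpqs (f1504 IH) (Lpe (f1503 IH) (Lpq (f68 IH) (Lpr_ct (f1624 IH) (Lpn v20)))))))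
theorem f1635 : Led Lsl_bf v20 = v21 :=
  Lgr Lrot24 (Lpr_bt (f1631 IH) (Lpn v21))
theorem f1638 : Led Lsl_ff v21 = v21 :=
  Lgr Lrot25 (Lpe (f1635 IH) (Lpe (f1627 IH) (Lpr_bt (f1631 IH) (Lpn v21))))
theorem f312 : Led Lsl_gt (LP (LK LD1_c0 LD2_c0 LD3_c13)) = (LP (LK LD1_c0 LD2_c0 LD3_c41)) :=
  Lre_g IH (LK LD1_c0 LD2_c0 LD3_c13) (LK LD1_c0 LD2_c0 LD3_c41) Lrfl Lrfl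
theorem f1639 : Led Lsl_at v21 = (LP (LK LD1_c0 LD2_c0 LD3_c41)) :=
  Lgr Lrot26 (Lpr_ff (f1638 IH) (Lpe (f1630 IH) (Lpr_gt (f312 IH) (Lpn (LP (LK LD1_c0 LD2_c0 LD3_c41))))))
theorem f1628 : Led Lsl_dt v20 = v20 :=
  Lgr Lrot27 (Lpe (f1624 IH) (Lpe (f45 IH) (Lpe (f17 IH) (Lpe (f0 IH) (Lpe (f5 IH) (Lpr_gt (f0 IH) (Lpr_ct (f17 IH) (Lpr_gt (f45 IH) (Lpr_ct (f1624 IH) (Lpn v20))))))))))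
theorem f1636 : Led Lsl_df v21 = v21 :=
  Lgr Lrot12 (Lpe (f1635 IH) (Lpr_dt (f1628 IH) (Lpr_bt (f1631 IH) (Lpn v21))))
theorem f1643 : Led Lsl_af v21 = (LP (LK LD1_c0 LD2_c0 LD3_c41)) :=
  Lgr Lrot0 (Lpr_at (f1639 IH) (Lpn (LP (LK LD1_c0 LD2_c0 LD3_c41))))
theorem f1646 : Led Lsl_df (LP (LK LD1_c0 LD2_c0 LD3_c41)) = (LP (LK LD1_c0 LD2_c0 LD3_c41)) :=
  Lgr Lrot18 (Lpe (f1643 IH) (Lpe (f1636 IH) (Lpr_at (f1639 IH) (Lpn (LP (LK LD1_c0 LD2_c0 LD3_c41))))))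
theorem f1647 : Led Lsl_dt (LP (LK LD1_c0 LD2_c0 LD3_c41)) = (LP (LK LD1_c0 LD2_c0 LD3_c41)) :=
  Leop (Lpr_df (f1646 IH) (Lpn (LP (LK LD1_c0 LD2_c0 LD3_c41))))
theorem seed_4 : LEOK LG_d (LK LD1_c0 LD2_c0 LD3_c41) :=
  Leoe_d (LK LD1_c0 LD2_c0 LD3_c41) (f1647 IH)
theorem f1626 : Led Lsl_ef v20 = v20 :=
  Lgr Lrot28 (Lpe (f1625 IH) (Lpqs (f68 IH) (Lpe (f142 IH) (Lpr_ct (f1624 IH) (Lpn v20)))))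
theorem f1637 : Led Lsl_ef v21 = v21 :=
  Lgr Lrot29 (Lpe (f1635 IH) (Lpe (f1626 IH) (Lpr_bt (f1631 IH) (Lpn v21))))
theorem f1648 : Led Lsl_ef (LP (LK LD1_c0 LD2_c0 LD3_c41)) = (LP (LK LD1_c0 LD2_c0 LD3_c41)) :=
  Lgr Lrot20 (Lpe (f1643 IH) (Lpe (f1637 IH) (Lpr_at (f1639 IH) (Lpn (LP (LK LD1_c0 LD2_c0 LD3_c41))))))
theorem f1649 : Led Lsl_et (LP (LK LD1_c0 LD2_c0 LD3_c41)) = (LP (LK LD1_c0 LD2_c0 LD3_c41)) :=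
  Leop (Lpr_ef (f1648 IH) (Lpn (LP (LK LD1_c0 LD2_c0 LD3_c41))))
theorem seed_5 : LEOK LG_e (LK LD1_c0 LD2_c0 LD3_c41) :=
  Leoe_e (LK LD1_c0 LD2_c0 LD3_c41) (f1649 IH)
theorem f1650 : Led Lsl_ff (LP (LK LD1_c0 LD2_c0 LD3_c41)) = (LP (LK LD1_c0 LD2_c0 LD3_c41)) :=
  Lgr Lrot30 (Lpe (f1643 IH) (Lpe (f1638 IH) (Lpr_at (f1639 IH) (Lpn (LP (LK LD1_c0 LD2_c0 LD3_c41))))))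
theorem f1651 : Led Lsl_ft (LP (LK LD1_c0 LD2_c0 LD3_c41)) = (LP (LK LD1_c0 LD2_c0 LD3_c41)) :=
  Leop (Lpr_ff (f1650 IH) (Lpn (LP (LK LD1_c0 LD2_c0 LD3_c41))))
theorem seed_6 : LEOK LG_f (LK LD1_c0 LD2_c0 LD3_c41) :=
  Leoe_f (LK LD1_c0 LD2_c0 LD3_c41) (f1651 IH)
def v23 : LQ := Led Lsl_gf (LP (LK LD1_c0 LD2_c0 LD3_c14))
theorem f3805 : Led Lsl_gf (LP (LK LD1_c0 LD2_c0 LD3_c14)) = v23 :=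
  Lrfl
theorem f1645 : Led Lsl_ct (LP (LK LD1_c0 LD2_c0 LD3_c41)) = (LP (LK LD1_c0 LD2_c0 LD3_c28)) :=
  Lre_c IH (LK LD1_c0 LD2_c0 LD3_c41) (LK LD1_c0 LD2_c0 LD3_c28) Lrfl Lrfl
theorem f1640 : Led Lsl_ct (LP (LK LD1_c0 LD2_c0 LD3_c28)) = (LP (LK LD1_c0 LD2_c0 LD3_c41)) :=
  Lre_c IH (LK LD1_c0 LD2_c0 LD3_c28) (LK LD1_c0 LD2_c0 LD3_c41) Lrfl Lrfl
theorem f1652 : Led Lsl_ft (LP (LK LD1_c0 LD2_c0 LD3_c28)) = (LP (LK LD1_c0 LD2_c0 LD3_c28)) :=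
  Lgr Lrot4 (Lpe (f1645 IH) (Lpr_ff (f1650 IH) (Lpe (f1640 IH) (Lpn (LP (LK LD1_c0 LD2_c0 LD3_c28))))))
theorem f1654 : Led Lsl_dt (LP (LK LD1_c0 LD2_c0 LD3_c28)) = (LP (LK LD1_c0 LD2_c1 LD3_c15)) :=
  Lre_d IH (LK LD1_c0 LD2_c0 LD3_c28) (LK LD1_c0 LD2_c1 LD3_c15) Lrfl Lrfl
theorem f1655 : Led Lsl_ct (LP (LK LD1_c0 LD2_c1 LD3_c15)) = (LP (LK LD1_c0 LD2_c2 LD3_c60)) :=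
  Lre_c IH (LK LD1_c0 LD2_c1 LD3_c15) (LK LD1_c0 LD2_c2 LD3_c60) Lrfl Lrfl
theorem f1473 : Led Lsl_gt (LP (LK LD1_c0 LD2_c0 LD3_c28)) = (LP (LK LD1_c0 LD2_c0 LD3_c9)) :=
  Lre_g IH (LK LD1_c0 LD2_c0 LD3_c28) (LK LD1_c0 LD2_c0 LD3_c9) Lrfl Lrfl
theorem f1662 : Led Lsl_af (LP (LK LD1_c0 LD2_c0 LD3_c27)) = (LP (LK LD1_c0 LD2_c0 LD3_c28)) :=
  Lgr Lrot31 (Lpe (f50 IH) (Lpe (f1473 IH) (Lpr_ft (f1652 IH) (Lpn (LP (LK LD1_c0 LD2_c0 LD3_c28))))))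
theorem f236 : Led Lsl_dt (LP (LK LD1_c0 LD2_c1 LD3_c13)) = (LP (LK LD1_c0 LD2_c0 LD3_c27)) :=
  Lre_d IH (LK LD1_c0 LD2_c1 LD3_c13) (LK LD1_c0 LD2_c0 LD3_c27) Lrfl Lrfl
theorem f237 : Led Lsl_ct (LP (LK LD1_c0 LD2_c2 LD3_c56)) = (LP (LK LD1_c0 LD2_c1 LD3_c13)) :=
  Lre_c IH (LK LD1_c0 LD2_c2 LD3_c56) (LK LD1_c0 LD2_c1 LD3_c13) Lrfl Lrfl
theorem f1664 : Led Lsl_dt (LP (LK LD1_c0 LD2_c2 LD3_c60)) = (LP (LK LD1_c0 LD2_c2 LD3_c56)) :=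
  Lgr Lrot32 (Lpe (f1655 IH) (Lpe (f1654 IH) (Lpr_ft (f1652 IH) (Lpe (f1662 IH) (Lpe (f232 IH) (Lpr_df (f73 IH) (Lpr_cf (f234 IH) (Lpe (f236 IH) (Lpe (f237 IH) (Lpn (LP (LK LD1_c0 LD2_c2 LD3_c56))))))))))))
theorem f1684 : v21 = (LP (LK LD1_c0 LD2_c0 LD3_c40)) :=
  (Llr Lrot33 (Lpr_af (f1643 IH) (Lpr_ff (f1650 IH) (Lpe (f1646 IH) (Lpr_ct (f1645 IH) (Lpr_dt (f1654 IH) (Lpr_ct (f1655 IH) (Lpr_dt (f1664 IH) (Lpr_ct (f237 IH) (Lpr_dt (f236 IH) (Lpe (f234 IH) (Lpn (LP (LK LD1_c0 LD2_c0 LD3_c40)))))))))))))).symm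
theorem f1688 : v20 = (LP (LK LD1_c0 LD2_c0 LD3_c12)) :=
  Lefun (Lecon (Lfl_bf (f1635 IH)) (f1684 IH)) (f72 IH)
theorem f48 : Led Lsl_gt (LP (LK LD1_c0 LD2_c0 LD3_c14)) = (LP (LK LD1_c0 LD2_c0 LD3_c45)) :=
  Lre_g IH (LK LD1_c0 LD2_c0 LD3_c14) (LK LD1_c0 LD2_c0 LD3_c45) Lrfl Lrfl
theorem f3806 : Led Lsl_ct v23 = v23 :=
  Lgr Lrot8 (Lpe (f3805 IH) (Lpr_dt (f21 IH) (Lpr_gt (f45 IH) (Lpqs (f68 IH) (Lpr_dt (f49 IH) (Lpq (f68 IH) (Lpq (f1688 IH) (Lpe (f1624 IH) (Lpqs (f68 IH) (Lpe (f49 IH) (Lpq (f68 IH) (Lpe (f45 IH) (Lpe (f21 IH) (Lpr_gf (f3805 IH) (Lpn v23)))))))))))))))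
theorem f3808 : (LP (LK LD1_c0 LD2_c0 LD3_c45)) = v23 :=
  (Llr Lrot9 (Lpe (f48 IH) (Lpe (f47 IH) (Lpr_gt (f45 IH) (Lpq (f1688 IH) (Lpe (f1625 IH) (Lpqs (f68 IH) (Lpe (f46 IH) (Lpr_ct (f12 IH) (Lpe (f13 IH) (Lpr_cf (f77 IH) (Lpr_gf (f3805 IH) (Lpe (f3806 IH) (Lpn v23)))))))))))))).symm
theorem f3809 : Led Lsl_gt (LP (LK LD1_c0 LD2_c0 LD3_c45)) = (LP (LK LD1_c0 LD2_c0 LD3_c14)) :=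
  Leop (Lpr_gf (f3805 IH) (Lpq (f3808 IH) (Lpn (LP (LK LD1_c0 LD2_c0 LD3_c45)))))
theorem seed_7 : LEOK LG_g (LK LD1_c0 LD2_c0 LD3_c45) :=
  Leoe_g (LK LD1_c0 LD2_c0 LD3_c45) (f3809 IH)
def v26 : LQ := Led Lsl_at (LP (LK LD1_c0 LD2_c0 LD3_c16))
theorem f3882 : Led Lsl_at (LP (LK LD1_c0 LD2_c0 LD3_c16)) = v26 :=
  Lrfl
theorem f3883 : Led Lsl_af (LP (LK LD1_c0 LD2_c0 LD3_c16)) = v26 :=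
  Lgr Lrot0 (Lpr_at (f3882 IH) (Lpn v26))
theorem f3885 : Led Lsl_ft v4 = v26 :=
  Lgr Lrot2 (Lpe (f310 IH) (Lpr_gt (f92 IH) (Lpr_af (f3883 IH) (Lpn v26))))
theorem f3884 : Led Lsl_cf v26 = v26 :=
  Lgr Lrot1 (Lpe (f3883 IH) (Lpqs (f318 IH) (Lpr_ct (f311 IH) (Lpq (f318 IH) (Lpr_at (f3882 IH) (Lpn v26))))))
theorem f3886 : Led Lsl_ff v4 = v26 :=
  Lgr Lrot23 (Lpr_ct (f311 IH) (Lpr_ft (f3885 IH) (Lpe (f3884 IH) (Lpn v26))))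
theorem f94 : Led Lsl_bt (LP (LK LD1_c0 LD2_c0 LD3_c14)) = (LP (LK LD1_c0 LD2_c0 LD3_c43)) :=
  Lre_b IH (LK LD1_c0 LD2_c0 LD3_c14) (LK LD1_c0 LD2_c0 LD3_c43) Lrfl Lrfl
theorem f96 : Led Lsl_gt (LP (LK LD1_c0 LD2_c0 LD3_c43)) = (LP (LK LD1_c0 LD2_c1 LD3_c48)) :=
  Lre_g IH (LK LD1_c0 LD2_c0 LD3_c43) (LK LD1_c0 LD2_c1 LD3_c48) Lrfl Lrfl
theorem f97 : Led Lsl_ct (LP (LK LD1_c0 LD2_c1 LD3_c48)) = (LP (LK LD1_c0 LD2_c1 LD3_c31)) :=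
  Lre_c IH (LK LD1_c0 LD2_c1 LD3_c48) (LK LD1_c0 LD2_c1 LD3_c31) Lrfl Lrfl
theorem f98 : Led Lsl_gt (LP (LK LD1_c0 LD2_c1 LD3_c31)) = (LP (LK LD1_c0 LD2_c0 LD3_c34)) :=
  Lre_g IH (LK LD1_c0 LD2_c1 LD3_c31) (LK LD1_c0 LD2_c0 LD3_c34) Lrfl Lrfl
theorem f37 : Led Lsl_ct (LP (LK LD1_c0 LD2_c0 LD3_c10)) = (LP (LK LD1_c0 LD2_c0 LD3_c34)) :=
  Lre_c IH (LK LD1_c0 LD2_c0 LD3_c10) (LK LD1_c0 LD2_c0 LD3_c34) Lrfl Lrfl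
theorem f99 : Led Lsl_bt (LP (LK LD1_c0 LD2_c0 LD3_c10)) = (LP (LK LD1_c0 LD2_c0 LD3_c4)) :=
  Lre_b IH (LK LD1_c0 LD2_c0 LD3_c10) (LK LD1_c0 LD2_c0 LD3_c4) Lrfl Lrfl
theorem f313 : Led Lsl_bf (LP (LK LD1_c0 LD2_c0 LD3_c16)) = v4 :=
  Lgr Lrot34 (Lpe (f92 IH) (Lpe (f99 IH) (Lpr_ct (f37 IH) (Lpe (f98 IH) (Lpe (f97 IH) (Lpe (f96 IH) (Lpe (f94 IH) (Lpe (f77 IH) (Lpr_gf (f310 IH) (Lpe (f311 IH) (Lpn v4)))))))))))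
theorem f3887 : Led Lsl_bt v26 = v26 :=
  Lgr Lrot35 (Lpe (f3885 IH) (Lpq (f318 IH) (Lpr_bf (f313 IH) (Lpr_ff (f3886 IH) (Lpn v26)))))
theorem f3888 : (LP (LK LD1_c0 LD2_c0 LD3_c16)) = v26 :=
  (Llr Lrot36 (Lpr_at (f3882 IH) (Lpr_bt (f3887 IH) (Lpe (f3883 IH) (Lpqs (f318 IH) (Lpe (f313 IH) (Lpr_at (f3882 IH) (Lpr_bt (f3887 IH) (Lpn v26))))))))).symm
theorem f3889 : Led Lsl_at (LP (LK LD1_c0 LD2_c0 LD3_c16)) = (LP (LK LD1_c0 LD2_c0 LD3_c16)) :=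
  Leop (Lpqs (f3888 IH) (Lpe (f3882 IH) (Lpn (LP (LK LD1_c0 LD2_c0 LD3_c16)))))
theorem seed_8 : LEOK LG_a (LK LD1_c0 LD2_c0 LD3_c16) :=
  Leoe_a (LK LD1_c0 LD2_c0 LD3_c16) (f3889 IH)
def v29 : LQ := Led Lsl_at (LP (LK LD1_c0 LD2_c0 LD3_c18))
theorem f5870 : Led Lsl_at (LP (LK LD1_c0 LD2_c0 LD3_c18)) = v29 :=
  Lrfl
theorem f5871 : Led Lsl_af (LP (LK LD1_c0 LD2_c0 LD3_c18)) = v29 :=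
  Lgr Lrot0 (Lpr_at (f5870 IH) (Lpn v29))
theorem f316 : Led Lsl_gt (LP (LK LD1_c0 LD2_c0 LD3_c5)) = (LP (LK LD1_c0 LD2_c0 LD3_c18)) :=
  Lre_g IH (LK LD1_c0 LD2_c0 LD3_c5) (LK LD1_c0 LD2_c0 LD3_c18) Lrfl Lrfl
theorem f338 : Led Lsl_gt (LP (LK LD1_c0 LD2_c0 LD3_c19)) = (LP (LK LD1_c0 LD2_c0 LD3_c5)) :=
  Lre_g IH (LK LD1_c0 LD2_c0 LD3_c19) (LK LD1_c0 LD2_c0 LD3_c5) Lrfl Lrfl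
theorem f5872 : Led Lsl_ft (LP (LK LD1_c0 LD2_c0 LD3_c19)) = v29 :=
  Lgr Lrot2 (Lpr_gt (f338 IH) (Lpr_gt (f316 IH) (Lpr_af (f5871 IH) (Lpn v29))))
theorem f5873 : Led Lsl_ff (LP (LK LD1_c0 LD2_c0 LD3_c19)) = v29 :=
  Lgr Lrot3 (Lpr_ft (f5872 IH) (Lpn v29))
theorem f323 : Led Lsl_et (LP (LK LD1_c0 LD2_c0 LD3_c51)) = (LP (LK LD1_c0 LD2_c0 LD3_c16)) :=
  Lre_e IH (LK LD1_c0 LD2_c0 LD3_c51) (LK LD1_c0 LD2_c0 LD3_c16) Lrfl Lrfl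
theorem f6 : Led Lsl_et (LP (LK LD1_c0 LD2_c0 LD3_c0)) = (LP (LK LD1_c0 LD2_c0 LD3_c0)) :=
  Lre_e IH (LK LD1_c0 LD2_c0 LD3_c0) (LK LD1_c0 LD2_c0 LD3_c0) Lrfl Lrfl
theorem f14 : Led Lsl_et (LP (LK LD1_c0 LD2_c0 LD3_c5)) = (LP (LK LD1_c0 LD2_c0 LD3_c1)) :=
  Lre_e IH (LK LD1_c0 LD2_c0 LD3_c5) (LK LD1_c0 LD2_c0 LD3_c1) Lrfl Lrfl
theorem f314 : Led Lsl_dt (LP (LK LD1_c0 LD2_c0 LD3_c5)) = (LP (LK LD1_c0 LD2_c0 LD3_c20)) :=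
  Lre_d IH (LK LD1_c0 LD2_c0 LD3_c5) (LK LD1_c0 LD2_c0 LD3_c20) Lrfl Lrfl
theorem f315 : Led Lsl_gt (LP (LK LD1_c0 LD2_c0 LD3_c20)) = (LP (LK LD1_c0 LD2_c0 LD3_c57)) :=
  Lre_g IH (LK LD1_c0 LD2_c0 LD3_c20) (LK LD1_c0 LD2_c0 LD3_c57) Lrfl Lrfl
theorem f328 : Led Lsl_dt (LP (LK LD1_c0 LD2_c0 LD3_c51)) = (LP (LK LD1_c0 LD2_c0 LD3_c57)) :=
  Lgr Lrot37 (Lpr_et (f323 IH) (Lpqs (f318 IH) (Lpe (f310 IH) (Lpr_dt (f13 IH) (Lpr_gt (f1 IH) (Lpe (f5 IH) (Lpr_et (f6 IH) (Lpr_gt (f0 IH) (Lpe (f14 IH) (Lpr_dt (f314 IH) (Lpr_gt (f315 IH) (Lpn (LP (LK LD1_c0 LD2_c0 LD3_c57))))))))))))))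
theorem f332 : Led Lsl_df (LP (LK LD1_c0 LD2_c0 LD3_c51)) = (LP (LK LD1_c0 LD2_c0 LD3_c57)) :=
  Lgr Lrot38 (Lpr_dt (f328 IH) (Lpn (LP (LK LD1_c0 LD2_c0 LD3_c57))))
theorem f322 : Led Lsl_et (LP (LK LD1_c0 LD2_c0 LD3_c16)) = (LP (LK LD1_c0 LD2_c0 LD3_c51)) :=
  Lre_e IH (LK LD1_c0 LD2_c0 LD3_c16) (LK LD1_c0 LD2_c0 LD3_c51) Lrfl Lrfl
theorem f326 : Led Lsl_cf (LP (LK LD1_c0 LD2_c0 LD3_c51)) = (LP (LK LD1_c0 LD2_c0 LD3_c51)) :=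
  Lgr Lrot39 (Lpr_et (f323 IH) (Lpqs (f318 IH) (Lpr_ct (f311 IH) (Lpq (f318 IH) (Lpr_et (f322 IH) (Lpn (LP (LK LD1_c0 LD2_c0 LD3_c51))))))))
theorem f341 : Led Lsl_ct (LP (LK LD1_c0 LD2_c0 LD3_c19)) = (LP (LK LD1_c0 LD2_c0 LD3_c19)) :=
  Lgr Lrot8 (Lpr_gt (f338 IH) (Lpr_dt (f314 IH) (Lpr_gt (f315 IH) (Lpe (f332 IH) (Lpr_cf (f326 IH) (Lpr_df (f332 IH) (Lpe (f315 IH) (Lpe (f314 IH) (Lpe (f338 IH) (Lpn (LP (LK LD1_c0 LD2_c0 LD3_c19))))))))))))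
theorem f5874 : Led Lsl_ct v29 = v29 :=
  Lgr Lrot40 (Lpe (f5872 IH) (Lpe (f341 IH) (Lpr_ff (f5873 IH) (Lpn v29))))
theorem f5875 : Led Lsl_cf (LP (LK LD1_c0 LD2_c0 LD3_c18)) = (LP (LK LD1_c0 LD2_c0 LD3_c18)) :=
  Lgr Lrot1 (Lpr_at (f5870 IH) (Lpr_ct (f5874 IH) (Lpe (f5871 IH) (Lpn (LP (LK LD1_c0 LD2_c0 LD3_c18))))))
theorem f5876 : Led Lsl_ct (LP (LK LD1_c0 LD2_c0 LD3_c18)) = (LP (LK LD1_c0 LD2_c0 LD3_c18)) :=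
  Leop (Lpr_cf (f5875 IH) (Lpn (LP (LK LD1_c0 LD2_c0 LD3_c18))))
theorem seed_9 : LEOK LG_c (LK LD1_c0 LD2_c0 LD3_c18) :=
  Leoe_c (LK LD1_c0 LD2_c0 LD3_c18) (f5876 IH)
theorem f358 : Led Lsl_dt (LP (LK LD1_c0 LD2_c0 LD3_c19)) = (LP (LK LD1_c0 LD2_c0 LD3_c56)) :=
  Lre_d IH (LK LD1_c0 LD2_c0 LD3_c19) (LK LD1_c0 LD2_c0 LD3_c56) Lrfl Lrfl
theorem f359 : Led Lsl_ct (LP (LK LD1_c0 LD2_c0 LD3_c56)) = (LP (LK LD1_c0 LD2_c2 LD3_c8)) :=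
  Lre_c IH (LK LD1_c0 LD2_c0 LD3_c56) (LK LD1_c0 LD2_c2 LD3_c8) Lrfl Lrfl
theorem f360 : Led Lsl_dt (LP (LK LD1_c0 LD2_c2 LD3_c8)) = (LP (LK LD1_c0 LD2_c4 LD3_c42)) :=
  Lre_d IH (LK LD1_c0 LD2_c2 LD3_c8) (LK LD1_c0 LD2_c4 LD3_c42) Lrfl Lrfl
theorem f4926 : Led Lsl_dt (LP (LK LD1_c0 LD2_c0 LD3_c55)) = (LP (LK LD1_c0 LD2_c0 LD3_c18)) :=
  Lre_d IH (LK LD1_c0 LD2_c0 LD3_c55) (LK LD1_c0 LD2_c0 LD3_c18) Lrfl Lrfl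
theorem f5879 : Led Lsl_ct (LP (LK LD1_c0 LD2_c2 LD3_c6)) = (LP (LK LD1_c0 LD2_c0 LD3_c55)) :=
  Lre_c IH (LK LD1_c0 LD2_c2 LD3_c6) (LK LD1_c0 LD2_c0 LD3_c55) Lrfl Lrfl
theorem f5880 : Led Lsl_dt (LP (LK LD1_c0 LD2_c4 LD3_c36)) = (LP (LK LD1_c0 LD2_c2 LD3_c6)) :=
  Lre_d IH (LK LD1_c0 LD2_c4 LD3_c36) (LK LD1_c0 LD2_c2 LD3_c6) Lrfl Lrfl
theorem f5881 : Led Lsl_ct (LP (LK LD1_c0 LD2_c4 LD3_c42)) = (LP (LK LD1_c0 LD2_c4 LD3_c36)) :=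
  Lgr Lrot41 (Lpe (f360 IH) (Lpe (f359 IH) (Lpe (f358 IH) (Lpr_ft (f5872 IH) (Lpe (f5871 IH) (Lpr_cf (f5875 IH) (Lpe (f4926 IH) (Lpe (f5879 IH) (Lpe (f5880 IH) (Lpn (LP (LK LD1_c0 LD2_c4 LD3_c36))))))))))))
theorem f5882 : Led Lsl_ct (LP (LK LD1_c0 LD2_c4 LD3_c42)) = (LP (LK LD1_c0 LD2_c4 LD3_c36)) :=
  Leop (Lpe (f5881 IH) (Lpn (LP (LK LD1_c0 LD2_c4 LD3_c42))))
theorem seed_10 : LEOK LG_c (LK LD1_c0 LD2_c4 LD3_c42) :=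
  Leoe_c (LK LD1_c0 LD2_c4 LD3_c42) (f5882 IH)
def v49 : LQ := Led Lsl_ft (LP (LK LD1_c0 LD2_c0 LD3_c22))
theorem f6782 : Led Lsl_ft (LP (LK LD1_c0 LD2_c0 LD3_c22)) = v49 :=
  Lrfl
theorem f52 : Led Lsl_gt (LP (LK LD1_c0 LD2_c0 LD3_c22)) = (LP (LK LD1_c0 LD2_c0 LD3_c61)) :=
  Lre_g IH (LK LD1_c0 LD2_c0 LD3_c22) (LK LD1_c0 LD2_c0 LD3_c61) Lrfl Lrfl
def v47 : LQ := Led Lsl_at (LP (LK LD1_c0 LD2_c0 LD3_c22))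
theorem f6762 : Led Lsl_at (LP (LK LD1_c0 LD2_c0 LD3_c22)) = v47 :=
  Lrfl
theorem f6763 : Led Lsl_af (LP (LK LD1_c0 LD2_c0 LD3_c22)) = v47 :=
  Lgr Lrot0 (Lpr_at (f6762 IH) (Lpn v47))
theorem f51 : Led Lsl_ct (LP (LK LD1_c0 LD2_c0 LD3_c6)) = (LP (LK LD1_c0 LD2_c0 LD3_c22)) :=
  Lre_c IH (LK LD1_c0 LD2_c0 LD3_c6) (LK LD1_c0 LD2_c0 LD3_c22) Lrfl Lrfl
theorem f6765 : Led Lsl_cf v9 = v47 :=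
  Lgr Lrot1 (Lpe (f470 IH) (Lpr_ct (f51 IH) (Lpr_at (f6762 IH) (Lpn v47))))
theorem f480 : Led Lsl_dt (LP (LK LD1_c0 LD2_c2 LD3_c28)) = (LP (LK LD1_c0 LD2_c2 LD3_c32)) :=
  Lgr Lrot42 (Lpr_df (f474 IH) (Lpn (LP (LK LD1_c0 LD2_c2 LD3_c32))))
theorem f489 : Led Lsl_ct (LP (LK LD1_c0 LD2_c1 LD3_c1)) = (LP (LK LD1_c0 LD2_c2 LD3_c28)) :=
  Lre_c IH (LK LD1_c0 LD2_c1 LD3_c1) (LK LD1_c0 LD2_c2 LD3_c28) Lrfl Lrfl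
theorem f488 : Led Lsl_dt (LP (LK LD1_c0 LD2_c0 LD3_c22)) = (LP (LK LD1_c0 LD2_c1 LD3_c1)) :=
  Lre_d IH (LK LD1_c0 LD2_c0 LD3_c22) (LK LD1_c0 LD2_c1 LD3_c1) Lrfl Lrfl
theorem f299 : Led Lsl_ct (LP (LK LD1_c0 LD2_c2 LD3_c32)) = (LP (LK LD1_c0 LD2_c1 LD3_c3)) :=
  Lre_c IH (LK LD1_c0 LD2_c2 LD3_c32) (LK LD1_c0 LD2_c1 LD3_c3) Lrfl Lrfl
theorem f298 : Led Lsl_dt (LP (LK LD1_c0 LD2_c1 LD3_c3)) = (LP (LK LD1_c0 LD2_c0 LD3_c23)) :=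
  Lre_d IH (LK LD1_c0 LD2_c1 LD3_c3) (LK LD1_c0 LD2_c0 LD3_c23) Lrfl Lrfl
theorem f297 : Led Lsl_ct (LP (LK LD1_c0 LD2_c0 LD3_c23)) = (LP (LK LD1_c0 LD2_c0 LD3_c7)) :=
  Lre_c IH (LK LD1_c0 LD2_c0 LD3_c23) (LK LD1_c0 LD2_c0 LD3_c7) Lrfl Lrfl
theorem f1410 : Led Lsl_df (LP (LK LD1_c0 LD2_c0 LD3_c6)) = (LP (LK LD1_c0 LD2_c0 LD3_c6)) :=
  Lgr Lrot43 (Lpr_ct (f51 IH) (Lpr_dt (f488 IH) (Lpr_ct (f489 IH) (Lpr_dt (f480 IH) (Lpr_ct (f299 IH) (Lpr_dt (f298 IH) (Lpr_ct (f297 IH) (Lpr_dt (f291 IH) (Lpr_ct (f300 IH) (Lpr_dt (f301 IH) (Lpr_ct (f302 IH) (Lpe (f474 IH) (Lpr_ct (f473 IH) (Lpr_dt (f472 IH) (Lpr_ct (f447 IH) (Lpn (LP (LK LD1_c0 LD2_c0 LD3_c6))))))))))))))))))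
theorem f1417 : Led Lsl_dt v9 = v9 :=
  Lgr Lrot44 (Lpe (f469 IH) (Lpr_df (f1410 IH) (Lpr_af (f470 IH) (Lpn v9))))
theorem f1425 : Led Lsl_ff (LP (LK LD1_c0 LD2_c0 LD3_c7)) = v9 :=
  Lgr Lrot19 (Lpr_dt (f291 IH) (Lpr_ft (f471 IH) (Lpr_dt (f1417 IH) (Lpn v9))))
theorem f6767 : Led Lsl_ft (LP (LK LD1_c0 LD2_c0 LD3_c23)) = v47 :=
  Lgr Lrot4 (Lpe (f300 IH) (Lpr_ff (f1425 IH) (Lpr_cf (f6765 IH) (Lpn v47))))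
theorem f6783 : Led Lsl_af (LP (LK LD1_c0 LD2_c0 LD3_c23)) = v49 :=
  Lgr Lrot45 (Lpr_ft (f6767 IH) (Lpe (f6763 IH) (Lpr_ft (f6782 IH) (Lpn v49))))
theorem f6786 : Led Lsl_gt (LP (LK LD1_c0 LD2_c0 LD3_c61)) = (LP (LK LD1_c0 LD2_c0 LD3_c23)) :=
  Lgr Lrot46 (Lpe (f52 IH) (Lpr_ft (f6782 IH) (Lpe (f6783 IH) (Lpn (LP (LK LD1_c0 LD2_c0 LD3_c23))))))
theorem f6787 : Led Lsl_gt (LP (LK LD1_c0 LD2_c0 LD3_c61)) = (LP (LK LD1_c0 LD2_c0 LD3_c23)) :=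
  Leop (Lpe (f6786 IH) (Lpn (LP (LK LD1_c0 LD2_c0 LD3_c61))))
theorem seed_11 : LEOK LG_g (LK LD1_c0 LD2_c0 LD3_c61) :=
  Leoe_g (LK LD1_c0 LD2_c0 LD3_c61) (f6787 IH)
def v53 : LQ := Led Lsl_ft (LP (LK LD1_c0 LD2_c0 LD3_c24))
theorem f6860 : Led Lsl_ft (LP (LK LD1_c0 LD2_c0 LD3_c24)) = v53 :=
  Lrfl
theorem f6864 : Led Lsl_ff (LP (LK LD1_c0 LD2_c0 LD3_c24)) = v53 :=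
  Lgr Lrot3 (Lpr_ft (f6860 IH) (Lpn v53))
theorem f1478 : Led Lsl_at (LP (LK LD1_c0 LD2_c0 LD3_c24)) = (LP (LK LD1_c0 LD2_c0 LD3_c9)) :=
  Lre_a IH (LK LD1_c0 LD2_c0 LD3_c24) (LK LD1_c0 LD2_c0 LD3_c9) Lrfl Lrfl
theorem f6869 : Led Lsl_gf (LP (LK LD1_c0 LD2_c0 LD3_c28)) = v53 :=
  Lgr Lrot47 (Lpr_gt (f1473 IH) (Lpe (f1478 IH) (Lpr_ff (f6864 IH) (Lpn v53))))
theorem f42 : Led Lsl_ct (LP (LK LD1_c0 LD2_c0 LD3_c24)) = (LP (LK LD1_c0 LD2_c0 LD3_c8)) :=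
  Lre_c IH (LK LD1_c0 LD2_c0 LD3_c24) (LK LD1_c0 LD2_c0 LD3_c8) Lrfl Lrfl
def v8 : LQ := Led Lsl_gt (LP (LK LD1_c0 LD2_c0 LD3_c6))
theorem f444 : Led Lsl_gt (LP (LK LD1_c0 LD2_c0 LD3_c6)) = v8 :=
  Lrfl
def v1 : LQ := Led Lsl_ft (LP (LK LD1_c0 LD2_c0 LD3_c2))
theorem f30 : Led Lsl_ft (LP (LK LD1_c0 LD2_c0 LD3_c2)) = v1 :=
  Lrfl
theorem f445 : Led Lsl_at v1 = v8 :=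
  Lgr Lrot26 (Lpe (f30 IH) (Lpr_gt (f25 IH) (Lpr_gt (f444 IH) (Lpn v8))))
theorem f11 : Led Lsl_at (LP (LK LD1_c0 LD2_c0 LD3_c8)) = (LP (LK LD1_c0 LD2_c0 LD3_c2)) :=
  Lre_a IH (LK LD1_c0 LD2_c0 LD3_c8) (LK LD1_c0 LD2_c0 LD3_c2) Lrfl Lrfl
theorem f452 : Led Lsl_ff (LP (LK LD1_c0 LD2_c0 LD3_c8)) = v8 :=
  Lgr Lrot30 (Lpr_at (f11 IH) (Lpr_ft (f30 IH) (Lpr_at (f445 IH) (Lpn v8))))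
theorem f457 : Led Lsl_ft (LP (LK LD1_c0 LD2_c0 LD3_c8)) = v8 :=
  Lgr Lrot48 (Lpr_ff (f452 IH) (Lpn v8))
theorem f6867 : Led Lsl_ct v8 = v53 :=
  Lgr Lrot40 (Lpe (f457 IH) (Lpe (f42 IH) (Lpr_ff (f6864 IH) (Lpn v53))))
theorem f458 : Led Lsl_gf (LP (LK LD1_c0 LD2_c0 LD3_c7)) = v8 :=
  Lgr Lrot47 (Lpr_gt (f26 IH) (Lpe (f11 IH) (Lpr_ff (f452 IH) (Lpn v8))))
theorem f28 : Led Lsl_dt (LP (LK LD1_c0 LD2_c0 LD3_c2)) = (LP (LK LD1_c0 LD2_c0 LD3_c10)) :=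
  Lre_d IH (LK LD1_c0 LD2_c0 LD3_c2) (LK LD1_c0 LD2_c0 LD3_c10) Lrfl Lrfl
theorem f208 : Led Lsl_ct (LP (LK LD1_c0 LD2_c0 LD3_c34)) = (LP (LK LD1_c0 LD2_c0 LD3_c10)) :=
  Lre_c IH (LK LD1_c0 LD2_c0 LD3_c34) (LK LD1_c0 LD2_c0 LD3_c10) Lrfl Lrfl
theorem f303 : Led Lsl_dt (LP (LK LD1_c0 LD2_c1 LD3_c33)) = (LP (LK LD1_c0 LD2_c0 LD3_c34)) :=
  Lre_d IH (LK LD1_c0 LD2_c1 LD3_c33) (LK LD1_c0 LD2_c0 LD3_c34) Lrfl Lrfl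
theorem f6872 : Led Lsl_gt (LP (LK LD1_c0 LD2_c1 LD3_c15)) = (LP (LK LD1_c0 LD2_c1 LD3_c33)) :=
  Lgr Lrot49 (Lpe (f1654 IH) (Lpr_gf (f6869 IH) (Lpe (f6867 IH) (Lpe (f458 IH) (Lpr_dt (f291 IH) (Lpr_gt (f26 IH) (Lpr_dt (f28 IH) (Lpe (f208 IH) (Lpe (f303 IH) (Lpn (LP (LK LD1_c0 LD2_c1 LD3_c33))))))))))))
theorem f6873 : Led Lsl_gt (LP (LK LD1_c0 LD2_c1 LD3_c15)) = (LP (LK LD1_c0 LD2_c1 LD3_c33)) :=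
  Leop (Lpe (f6872 IH) (Lpn (LP (LK LD1_c0 LD2_c1 LD3_c15))))
theorem seed_12 : LEOK LG_g (LK LD1_c0 LD2_c1 LD3_c15) :=
  Leoe_g (LK LD1_c0 LD2_c1 LD3_c15) (f6873 IH)
def v63 : LQ := Led Lsl_at (LP (LK LD1_c0 LD2_c0 LD3_c32))
theorem f7066 : Led Lsl_at (LP (LK LD1_c0 LD2_c0 LD3_c32)) = v63 :=
  Lrfl
theorem f7067 : Led Lsl_af (LP (LK LD1_c0 LD2_c0 LD3_c32)) = v63 :=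
  Lgr Lrot0 (Lpr_at (f7066 IH) (Lpn v63))
theorem f93 : Led Lsl_gt (LP (LK LD1_c0 LD2_c0 LD3_c10)) = (LP (LK LD1_c0 LD2_c0 LD3_c32)) :=
  Lre_g IH (LK LD1_c0 LD2_c0 LD3_c10) (LK LD1_c0 LD2_c0 LD3_c32) Lrfl Lrfl
theorem f231 : Led Lsl_gt (LP (LK LD1_c0 LD2_c0 LD3_c33)) = (LP (LK LD1_c0 LD2_c0 LD3_c10)) :=
  Lre_g IH (LK LD1_c0 LD2_c0 LD3_c33) (LK LD1_c0 LD2_c0 LD3_c10) Lrfl Lrfl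
theorem f7069 : Led Lsl_ft (LP (LK LD1_c0 LD2_c0 LD3_c33)) = v63 :=
  Lgr Lrot2 (Lpr_gt (f231 IH) (Lpr_gt (f93 IH) (Lpr_af (f7067 IH) (Lpn v63))))
theorem f7070 : Led Lsl_ff (LP (LK LD1_c0 LD2_c0 LD3_c33)) = v63 :=
  Lgr Lrot3 (Lpr_ft (f7069 IH) (Lpn v63))
theorem f3891 : Led Lsl_af (LP (LK LD1_c0 LD2_c0 LD3_c51)) = (LP (LK LD1_c0 LD2_c0 LD3_c51)) :=
  Lgr Lrot50 (Lpr_et (f323 IH) (Lpr_at (f3882 IH) (Lpq (f3888 IH) (Lpr_et (f322 IH) (Lpn (LP (LK LD1_c0 LD2_c0 LD3_c51)))))))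
theorem f3893 : Led Lsl_at (LP (LK LD1_c0 LD2_c0 LD3_c57)) = (LP (LK LD1_c0 LD2_c0 LD3_c57)) :=
  Lgr Lrot51 (Lpe (f328 IH) (Lpr_af (f3891 IH) (Lpr_df (f332 IH) (Lpn (LP (LK LD1_c0 LD2_c0 LD3_c57))))))
theorem f3897 : Led Lsl_ff (LP (LK LD1_c0 LD2_c0 LD3_c57)) = (LP (LK LD1_c0 LD2_c0 LD3_c58)) :=
  Lgr Lrot52 (Lpr_at (f3893 IH) (Lpe (f315 IH) (Lpe (f123 IH) (Lpn (LP (LK LD1_c0 LD2_c0 LD3_c58))))))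
theorem f3906 : Led Lsl_ft (LP (LK LD1_c0 LD2_c0 LD3_c57)) = (LP (LK LD1_c0 LD2_c0 LD3_c58)) :=
  Lgr Lrot48 (Lpr_ff (f3897 IH) (Lpn (LP (LK LD1_c0 LD2_c0 LD3_c58))))
theorem f330 : Led Lsl_ct (LP (LK LD1_c0 LD2_c0 LD3_c57)) = (LP (LK LD1_c0 LD2_c2 LD3_c10)) :=
  Lre_c IH (LK LD1_c0 LD2_c0 LD3_c57) (LK LD1_c0 LD2_c2 LD3_c10) Lrfl Lrfl
theorem f331 : Led Lsl_dt (LP (LK LD1_c0 LD2_c2 LD3_c10)) = (LP (LK LD1_c0 LD2_c4 LD3_c46)) :=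
  Lre_d IH (LK LD1_c0 LD2_c2 LD3_c10) (LK LD1_c0 LD2_c4 LD3_c46) Lrfl Lrfl
theorem f3908 : Led Lsl_af (LP (LK LD1_c0 LD2_c0 LD3_c58)) = (LP (LK LD1_c0 LD2_c0 LD3_c58)) :=
  Lgr Lrot45 (Lpe (f3897 IH) (Lpr_at (f3893 IH) (Lpr_ft (f3906 IH) (Lpn (LP (LK LD1_c0 LD2_c0 LD3_c58))))))
theorem f3900 : Led Lsl_ct (LP (LK LD1_c0 LD2_c2 LD3_c11)) = (LP (LK LD1_c0 LD2_c0 LD3_c58)) :=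
  Lre_c IH (LK LD1_c0 LD2_c2 LD3_c11) (LK LD1_c0 LD2_c0 LD3_c58) Lrfl Lrfl
theorem f3918 : Led Lsl_dt (LP (LK LD1_c0 LD2_c4 LD3_c48)) = (LP (LK LD1_c0 LD2_c2 LD3_c11)) :=
  Lre_d IH (LK LD1_c0 LD2_c4 LD3_c48) (LK LD1_c0 LD2_c2 LD3_c11) Lrfl Lrfl
theorem f3919 : Led Lsl_ct (LP (LK LD1_c0 LD2_c4 LD3_c46)) = (LP (LK LD1_c0 LD2_c4 LD3_c48)) :=
  Lgr Lrot53 (Lpe (f331 IH) (Lpe (f330 IH) (Lpe (f328 IH) (Lpr_cf (f326 IH) (Lpr_df (f332 IH) (Lpr_ft (f3906 IH) (Lpe (f3908 IH) (Lpe (f3900 IH) (Lpe (f3918 IH) (Lpn (LP (LK LD1_c0 LD2_c4 LD3_c48))))))))))))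
theorem f3903 : Led Lsl_ft (LP (LK LD1_c0 LD2_c0 LD3_c51)) = (LP (LK LD1_c0 LD2_c0 LD3_c52)) :=
  Lgr Lrot54 (Lpr_df (f332 IH) (Lpr_ff (f3897 IH) (Lpe (f122 IH) (Lpn (LP (LK LD1_c0 LD2_c0 LD3_c52))))))
theorem f3899 : Led Lsl_dt (LP (LK LD1_c0 LD2_c0 LD3_c58)) = (LP (LK LD1_c0 LD2_c0 LD3_c52)) :=
  Lre_d IH (LK LD1_c0 LD2_c0 LD3_c58) (LK LD1_c0 LD2_c0 LD3_c52) Lrfl Lrfl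
theorem f334 : Led Lsl_ct (LP (LK LD1_c0 LD2_c2 LD3_c10)) = (LP (LK LD1_c0 LD2_c0 LD3_c57)) :=
  Lre_c IH (LK LD1_c0 LD2_c2 LD3_c10) (LK LD1_c0 LD2_c0 LD3_c57) Lrfl Lrfl
theorem f335 : Led Lsl_dt (LP (LK LD1_c0 LD2_c4 LD3_c46)) = (LP (LK LD1_c0 LD2_c2 LD3_c10)) :=
  Lre_d IH (LK LD1_c0 LD2_c4 LD3_c46) (LK LD1_c0 LD2_c2 LD3_c10) Lrfl Lrfl
theorem f3926 : Led Lsl_cf (LP (LK LD1_c0 LD2_c4 LD3_c46)) = (LP (LK LD1_c0 LD2_c4 LD3_c48)) :=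
  Lgr Lrot11 (Lpr_ct (f3919 IH) (Lpn (LP (LK LD1_c0 LD2_c4 LD3_c48))))
theorem f3928 : Led Lsl_dt (LP (LK LD1_c0 LD2_c2 LD3_c11)) = (LP (LK LD1_c0 LD2_c4 LD3_c48)) :=
  Lre_d IH (LK LD1_c0 LD2_c2 LD3_c11) (LK LD1_c0 LD2_c4 LD3_c48) Lrfl Lrfl
theorem f3912 : Led Lsl_ct (LP (LK LD1_c0 LD2_c0 LD3_c58)) = (LP (LK LD1_c0 LD2_c2 LD3_c11)) :=
  Lre_c IH (LK LD1_c0 LD2_c0 LD3_c58) (LK LD1_c0 LD2_c2 LD3_c11) Lrfl Lrfl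
theorem f3929 : Led Lsl_cf (LP (LK LD1_c0 LD2_c0 LD3_c52)) = (LP (LK LD1_c0 LD2_c0 LD3_c52)) :=
  Lgr Lrot55 (Lpr_dt (f122 IH) (Lpr_ct (f3912 IH) (Lpr_dt (f3928 IH) (Lpe (f3926 IH) (Lpr_dt (f335 IH) (Lpr_ct (f334 IH) (Lpe (f332 IH) (Lpe (f326 IH) (Lpr_dt (f328 IH) (Lpr_ct (f330 IH) (Lpr_dt (f331 IH) (Lpr_ct (f3919 IH) (Lpr_dt (f3918 IH) (Lpr_ct (f3900 IH) (Lpr_dt (f3899 IH) (Lpn (LP (LK LD1_c0 LD2_c0 LD3_c52))))))))))))))))))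
theorem f3937 : Led Lsl_at (LP (LK LD1_c0 LD2_c0 LD3_c52)) = (LP (LK LD1_c0 LD2_c0 LD3_c52)) :=
  Lgr Lrot33 (Lpe (f3903 IH) (Lpr_dt (f328 IH) (Lpr_ct (f330 IH) (Lpr_dt (f331 IH) (Lpr_ct (f3919 IH) (Lpr_dt (f3918 IH) (Lpr_ct (f3900 IH) (Lpr_dt (f3899 IH) (Lpe (f3929 IH) (Lpn (LP (LK LD1_c0 LD2_c0 LD3_c52))))))))))))
theorem f3941 : Led Lsl_gt (LP (LK LD1_c0 LD2_c0 LD3_c51)) = (LP (LK LD1_c0 LD2_c0 LD3_c17)) :=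
  Lgr Lrot5 (Lpr_ft (f3903 IH) (Lpr_at (f3937 IH) (Lpe (f121 IH) (Lpn (LP (LK LD1_c0 LD2_c0 LD3_c17))))))
theorem f3949 : Led Lsl_dt (LP (LK LD1_c0 LD2_c0 LD3_c16)) = (LP (LK LD1_c0 LD2_c0 LD3_c16)) :=
  Lgr Lrot56 (Lpr_et (f322 IH) (Lpr_gt (f3941 IH) (Lpe (f88 IH) (Lpr_dt (f13 IH) (Lpr_gt (f1 IH) (Lpe (f5 IH) (Lpr_et (f6 IH) (Lpr_gt (f0 IH) (Lpr_dt (f18 IH) (Lpr_gt (f92 IH) (Lpn (LP (LK LD1_c0 LD2_c0 LD3_c16)))))))))))))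
theorem f3951 : Led Lsl_dt (LP (LK LD1_c0 LD2_c0 LD3_c45)) = v23 :=
  Lgr Lrot57 (Lpe (f48 IH) (Lpe (f75 IH) (Lpr_gt (f92 IH) (Lpr_dt (f3949 IH) (Lpqs (f318 IH) (Lpe (f310 IH) (Lpr_dt (f13 IH) (Lpe (f12 IH) (Lpe (f21 IH) (Lpr_gf (f3805 IH) (Lpn v23)))))))))))
theorem f95 : Led Lsl_gt (LP (LK LD1_c0 LD2_c1 LD3_c49)) = (LP (LK LD1_c0 LD2_c0 LD3_c43)) :=
  Lre_g IH (LK LD1_c0 LD2_c1 LD3_c49) (LK LD1_c0 LD2_c0 LD3_c43) Lrfl Lrfl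
theorem f3834 : Led Lsl_bt v23 = (LP (LK LD1_c0 LD2_c1 LD3_c49)) :=
  Lgr Lrot22 (Lpr_ct (f3806 IH) (Lpq (f3808 IH) (Lpe (f48 IH) (Lpe (f75 IH) (Lpr_gf (f310 IH) (Lpq (f318 IH) (Lpr_bf (f313 IH) (Lpr_ct (f311 IH) (Lpq (f318 IH) (Lpe (f92 IH) (Lpr_cf (f77 IH) (Lpr_bt (f94 IH) (Lpe (f95 IH) (Lpn (LP (LK LD1_c0 LD2_c1 LD3_c49))))))))))))))))
theorem f3836 : Led Lsl_bf v23 = (LP (LK LD1_c0 LD2_c1 LD3_c49)) :=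
  Lgr Lrot24 (Lpr_bt (f3834 IH) (Lpn (LP (LK LD1_c0 LD2_c1 LD3_c49))))
theorem f3953 : Led Lsl_df (LP (LK LD1_c0 LD2_c1 LD3_c49)) = (LP (LK LD1_c0 LD2_c1 LD3_c49)) :=
  Lgr Lrot12 (Lpe (f3836 IH) (Lpq (f3808 IH) (Lpr_dt (f3951 IH) (Lpq (f3808 IH) (Lpqs (f3808 IH) (Lpr_bt (f3834 IH) (Lpn (LP (LK LD1_c0 LD2_c1 LD3_c49)))))))))
theorem f211 : Led Lsl_gt (LP (LK LD1_c0 LD2_c0 LD3_c34)) = (LP (LK LD1_c0 LD2_c1 LD3_c30)) :=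
  Lre_g IH (LK LD1_c0 LD2_c0 LD3_c34) (LK LD1_c0 LD2_c1 LD3_c30) Lrfl Lrfl
theorem f3847 : Led Lsl_cf (LP (LK LD1_c0 LD2_c1 LD3_c30)) = (LP (LK LD1_c0 LD2_c1 LD3_c49)) :=
  Lgr Lrot58 (Lpe (f211 IH) (Lpe (f37 IH) (Lpr_bt (f99 IH) (Lpr_gf (f310 IH) (Lpq (f318 IH) (Lpr_bf (f313 IH) (Lpr_ct (f311 IH) (Lpq (f318 IH) (Lpe (f92 IH) (Lpr_cf (f77 IH) (Lpr_gf (f3805 IH) (Lpr_bf (f3836 IH) (Lpn (LP (LK LD1_c0 LD2_c1 LD3_c49)))))))))))))))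
theorem f3849 : Led Lsl_ct (LP (LK LD1_c0 LD2_c1 LD3_c30)) = (LP (LK LD1_c0 LD2_c1 LD3_c49)) :=
  Lgr Lrot59 (Lpr_cf (f3847 IH) (Lpn (LP (LK LD1_c0 LD2_c1 LD3_c49))))
theorem f3963 : Led Lsl_dt (LP (LK LD1_c0 LD2_c0 LD3_c33)) = (LP (LK LD1_c0 LD2_c0 LD3_c33)) :=
  Lgr Lrot6 (Lpr_gt (f231 IH) (Lpr_ct (f37 IH) (Lpr_gt (f211 IH) (Lpr_ct (f3849 IH) (Lpr_df (f3953 IH) (Lpe (f3849 IH) (Lpe (f211 IH) (Lpe (f37 IH) (Lpe (f231 IH) (Lpn (LP (LK LD1_c0 LD2_c0 LD3_c33))))))))))))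
theorem f7071 : Led Lsl_dt v63 = v63 :=
  Lgr Lrot60 (Lpe (f7069 IH) (Lpe (f3963 IH) (Lpr_ff (f7070 IH) (Lpn v63))))
theorem f7072 : Led Lsl_df (LP (LK LD1_c0 LD2_c0 LD3_c32)) = (LP (LK LD1_c0 LD2_c0 LD3_c32)) :=
  Lgr Lrot18 (Lpr_at (f7066 IH) (Lpr_dt (f7071 IH) (Lpe (f7067 IH) (Lpn (LP (LK LD1_c0 LD2_c0 LD3_c32))))))
theorem f7073 : Led Lsl_dt (LP (LK LD1_c0 LD2_c0 LD3_c32)) = (LP (LK LD1_c0 LD2_c0 LD3_c32)) :=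
  Leop (Lpr_df (f7072 IH) (Lpn (LP (LK LD1_c0 LD2_c0 LD3_c32))))
theorem seed_13 : LEOK LG_d (LK LD1_c0 LD2_c0 LD3_c32) :=
  Leoe_d (LK LD1_c0 LD2_c0 LD3_c32) (f7073 IH)
def v76 : LQ := Led Lsl_gf (LP (LK LD1_c0 LD2_c0 LD3_c40))
theorem f7183 : Led Lsl_gf (LP (LK LD1_c0 LD2_c0 LD3_c40)) = v76 :=
  Lrfl
theorem f62 : Led Lsl_at (LP (LK LD1_c0 LD2_c0 LD3_c42)) = (LP (LK LD1_c0 LD2_c0 LD3_c13)) :=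
  Lre_a IH (LK LD1_c0 LD2_c0 LD3_c42) (LK LD1_c0 LD2_c0 LD3_c13) Lrfl Lrfl
theorem f7185 : Led Lsl_ff (LP (LK LD1_c0 LD2_c0 LD3_c42)) = v76 :=
  Lgr Lrot52 (Lpr_at (f62 IH) (Lpr_gf (f1630 IH) (Lpqs (f1684 IH) (Lpr_gf (f7183 IH) (Lpn v76)))))
theorem f7188 : Led Lsl_ft (LP (LK LD1_c0 LD2_c0 LD3_c42)) = v76 :=
  Lgr Lrot48 (Lpr_ff (f7185 IH) (Lpn v76))
theorem f309 : Led Lsl_at (LP (LK LD1_c0 LD2_c0 LD3_c13)) = (LP (LK LD1_c0 LD2_c0 LD3_c42)) :=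
  Lre_a IH (LK LD1_c0 LD2_c0 LD3_c13) (LK LD1_c0 LD2_c0 LD3_c42) Lrfl Lrfl
def v22 : LQ := Led Lsl_ft (LP (LK LD1_c0 LD2_c0 LD3_c13))
theorem f3799 : Led Lsl_ft (LP (LK LD1_c0 LD2_c0 LD3_c13)) = v22 :=
  Lrfl
theorem f3802 : Led Lsl_ff (LP (LK LD1_c0 LD2_c0 LD3_c13)) = v22 :=
  Lgr Lrot3 (Lpr_ft (f3799 IH) (Lpn v22))
theorem f7189 : Led Lsl_af v22 = v76 :=
  Lgr Lrot45 (Lpe (f3802 IH) (Lpr_at (f309 IH) (Lpr_ft (f7188 IH) (Lpn v76))))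
theorem f67 : Led Lsl_ff (LP (LK LD1_c0 LD2_c0 LD3_c3)) = v3 :=
  Lgr Lrot3 (Lpr_ft (f65 IH) (Lpn v3))
theorem f3800 : Led Lsl_bf v3 = v22 :=
  Lgr Lrot61 (Lpe (f67 IH) (Lpr_bt (f306 IH) (Lpr_ft (f3799 IH) (Lpn v22))))
theorem f7191 : Led Lsl_bt (LP (LK LD1_c0 LD2_c0 LD3_c42)) = v76 :=
  Lgr Lrot62 (Lpe (f309 IH) (Lpe (f306 IH) (Lpr_af (f61 IH) (Lpr_bf (f3800 IH) (Lpr_af (f7189 IH) (Lpn v76))))))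
def v60 : LQ := Led Lsl_at (LP (LK LD1_c0 LD2_c0 LD3_c29))
theorem f7035 : Led Lsl_at (LP (LK LD1_c0 LD2_c0 LD3_c29)) = v60 :=
  Lrfl
theorem f54 : Led Lsl_ct (LP (LK LD1_c0 LD2_c0 LD3_c13)) = (LP (LK LD1_c0 LD2_c0 LD3_c29)) :=
  Lre_c IH (LK LD1_c0 LD2_c0 LD3_c13) (LK LD1_c0 LD2_c0 LD3_c29) Lrfl Lrfl
theorem f7037 : Led Lsl_cf (LP (LK LD1_c0 LD2_c0 LD3_c42)) = v60 :=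
  Lgr Lrot1 (Lpr_at (f62 IH) (Lpr_ct (f54 IH) (Lpr_at (f7035 IH) (Lpn v60))))
theorem f7038 : Led Lsl_ct (LP (LK LD1_c0 LD2_c0 LD3_c42)) = v60 :=
  Lgr Lrot59 (Lpr_cf (f7037 IH) (Lpn v60))
theorem f15 : Led Lsl_bt (LP (LK LD1_c0 LD2_c0 LD3_c1)) = (LP (LK LD1_c0 LD2_c0 LD3_c2)) :=
  Lre_b IH (LK LD1_c0 LD2_c0 LD3_c1) (LK LD1_c0 LD2_c0 LD3_c2) Lrfl Lrfl
theorem f7194 : v60 = (LP (LK LD1_c0 LD2_c0 LD3_c61)) :=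
  (Llr Lrot63 (Lpe (f7038 IH) (Lpr_bt (f7191 IH) (Lpe (f7183 IH) (Lpe (f71 IH) (Lpr_ct (f1624 IH) (Lpqs (f1688 IH) (Lpqs (f68 IH) (Lpe (f46 IH) (Lpe (f17 IH) (Lpr_bt (f15 IH) (Lpr_gt (f25 IH) (Lpr_ct (f51 IH) (Lpr_gt (f52 IH) (Lpn (LP (LK LD1_c0 LD2_c0 LD3_c61))))))))))))))))).symm
theorem f7036 : Led Lsl_af (LP (LK LD1_c0 LD2_c0 LD3_c29)) = v60 :=
  Lgr Lrot0 (Lpr_at (f7035 IH) (Lpn v60))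
theorem f7195 : Led Lsl_at (LP (LK LD1_c0 LD2_c0 LD3_c61)) = (LP (LK LD1_c0 LD2_c0 LD3_c29)) :=
  Leop (Lpr_af (f7036 IH) (Lpqs (f7194 IH) (Lpn (LP (LK LD1_c0 LD2_c0 LD3_c61)))))
theorem seed_14 : LEOK LG_a (LK LD1_c0 LD2_c0 LD3_c61) :=
  Leoe_a (LK LD1_c0 LD2_c0 LD3_c61) (f7195 IH)
theorem f7184 : Led Lsl_gt (LP (LK LD1_c0 LD2_c0 LD3_c41)) = v76 :=
  Lgr Lrot5 (Lpe (f1650 IH) (Lpe (f1643 IH) (Lpqs (f1684 IH) (Lpr_gf (f7183 IH) (Lpn v76)))))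
theorem f1644 : Led Lsl_bt (LP (LK LD1_c0 LD2_c0 LD3_c41)) = (LP (LK LD1_c0 LD2_c0 LD3_c41)) :=
  Lre_b IH (LK LD1_c0 LD2_c0 LD3_c41) (LK LD1_c0 LD2_c0 LD3_c41) Lrfl Lrfl
def v10 : LQ := Led Lsl_bt (LP (LK LD1_c0 LD2_c0 LD3_c6))
theorem f1442 : Led Lsl_bt (LP (LK LD1_c0 LD2_c0 LD3_c6)) = v10 :=
  Lrfl
theorem f1443 : Led Lsl_bf (LP (LK LD1_c0 LD2_c0 LD3_c6)) = v10 :=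
  Lgr Lrot24 (Lpr_bt (f1442 IH) (Lpn v10))
def v59 : LQ := Led Lsl_gf (LP (LK LD1_c0 LD2_c0 LD3_c29))
theorem f7025 : Led Lsl_gf (LP (LK LD1_c0 LD2_c0 LD3_c29)) = v59 :=
  Lrfl
theorem f53 : Led Lsl_bt (LP (LK LD1_c0 LD2_c0 LD3_c13)) = (LP (LK LD1_c0 LD2_c0 LD3_c3)) :=
  Lre_b IH (LK LD1_c0 LD2_c0 LD3_c13) (LK LD1_c0 LD2_c0 LD3_c3) Lrfl Lrfl
theorem f7028 : Led Lsl_ct v10 = v59 :=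
  Lgr Lrot64 (Lpe (f1443 IH) (Lpe (f25 IH) (Lpe (f15 IH) (Lpr_ct (f17 IH) (Lpr_gf (f46 IH) (Lpq (f68 IH) (Lpq (f1688 IH) (Lpe (f1624 IH) (Lpe (f45 IH) (Lpe (f53 IH) (Lpr_ct (f54 IH) (Lpr_gf (f7025 IH) (Lpn v59)))))))))))))
theorem f7193 : Led Lsl_gt v60 = v59 :=
  Lgr Lrot65 (Lpe (f7038 IH) (Lpr_bt (f7191 IH) (Lpe (f7184 IH) (Lpe (f1644 IH) (Lpr_ct (f1645 IH) (Lpr_gf (f6869 IH) (Lpe (f6867 IH) (Lpe (f444 IH) (Lpr_bf (f1443 IH) (Lpr_ct (f7028 IH) (Lpn v59)))))))))))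
theorem f7201 : v59 = (LP (LK LD1_c0 LD2_c0 LD3_c23)) :=
  Lefun (Lecon (f7193 IH) (f7194 IH)) (f6786 IH)
theorem f7203 : Led Lsl_gt (LP (LK LD1_c0 LD2_c0 LD3_c23)) = (LP (LK LD1_c0 LD2_c0 LD3_c29)) :=
  Leop (Lpr_gf (f7025 IH) (Lpqs (f7201 IH) (Lpn (LP (LK LD1_c0 LD2_c0 LD3_c23)))))
theorem seed_15 : LEOK LG_g (LK LD1_c0 LD2_c0 LD3_c23) :=
  Leoe_g (LK LD1_c0 LD2_c0 LD3_c23) (f7203 IH)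
def v84 : LQ := Led Lsl_ft (LP (LK LD1_c0 LD2_c9 LD3_c18))
theorem f446829 : Led Lsl_ft (LP (LK LD1_c0 LD2_c9 LD3_c18)) = v84 :=
  Lrfl
theorem f446832 : Led Lsl_ff (LP (LK LD1_c0 LD2_c9 LD3_c18)) = v84 :=
  Lgr Lrot3 (Lpr_ft (f446829 IH) (Lpn v84))
def v83 : LQ := Led Lsl_at (LP (LK LD1_c0 LD2_c9 LD3_c18))
theorem f446825 : Led Lsl_at (LP (LK LD1_c0 LD2_c9 LD3_c18)) = v83 :=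
  Lrfl
theorem f446826 : Led Lsl_af (LP (LK LD1_c0 LD2_c9 LD3_c18)) = v83 :=
  Lgr Lrot0 (Lpr_at (f446825 IH) (Lpn v83))
theorem f156 : Led Lsl_gt (LP (LK LD1_c0 LD2_c4 LD3_c21)) = (LP (LK LD1_c0 LD2_c9 LD3_c18)) :=
  Lre_g IH (LK LD1_c0 LD2_c4 LD3_c21) (LK LD1_c0 LD2_c9 LD3_c18) Lrfl Lrfl
theorem f12696 : Led Lsl_gt (LP (LK LD1_c0 LD2_c9 LD3_c19)) = (LP (LK LD1_c0 LD2_c4 LD3_c21)) :=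
  Lre_g IH (LK LD1_c0 LD2_c9 LD3_c19) (LK LD1_c0 LD2_c4 LD3_c21) Lrfl Lrfl
theorem f446827 : Led Lsl_ft (LP (LK LD1_c0 LD2_c9 LD3_c19)) = v83 :=
  Lgr Lrot2 (Lpr_gt (f12696 IH) (Lpr_gt (f156 IH) (Lpr_af (f446826 IH) (Lpn v83))))
theorem f446828 : Led Lsl_ff (LP (LK LD1_c0 LD2_c9 LD3_c19)) = v83 :=
  Lgr Lrot3 (Lpr_ft (f446827 IH) (Lpn v83))
theorem f446833 : Led Lsl_at (LP (LK LD1_c0 LD2_c9 LD3_c19)) = v84 :=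
  Lgr Lrot66 (Lpr_ff (f446828 IH) (Lpe (f446825 IH) (Lpr_ff (f446832 IH) (Lpn v84))))
theorem f6768 : Led Lsl_ff (LP (LK LD1_c0 LD2_c0 LD3_c23)) = v47 :=
  Lgr Lrot3 (Lpr_ft (f6767 IH) (Lpn v47))
theorem f6766 : Led Lsl_ct v9 = v47 :=
  Lgr Lrot59 (Lpr_cf (f6765 IH) (Lpn v47))
def v12 : LQ := Led Lsl_ft (LP (LK LD1_c0 LD2_c0 LD3_c6))
theorem f1448 : Led Lsl_ft (LP (LK LD1_c0 LD2_c0 LD3_c6)) = v12 :=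
  Lrfl
theorem f1449 : Led Lsl_af (LP (LK LD1_c0 LD2_c0 LD3_c7)) = v12 :=
  Lgr Lrot45 (Lpr_ft (f471 IH) (Lpe (f470 IH) (Lpr_ft (f1448 IH) (Lpn v12))))
def v13 : LQ := Led Lsl_bt (LP (LK LD1_c0 LD2_c0 LD3_c7))
theorem f1453 : Led Lsl_bt (LP (LK LD1_c0 LD2_c0 LD3_c7)) = v13 :=
  Lrfl
theorem f7034 : Led Lsl_ct v59 = v10 :=
  Lgr Lrot59 (Lpe (f7028 IH) (Lpn v10))
theorem f7204 : v10 = (LP (LK LD1_c0 LD2_c0 LD3_c7)) :=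
  Lefun (Lecon (f7034 IH) (f7201 IH)) (f297 IH)
theorem f7213 : (LP (LK LD1_c0 LD2_c0 LD3_c6)) = v13 :=
  Lefun (Lecon (Lfl_bf (f1443 IH)) (f7204 IH)) (f1453 IH)
theorem f8021 : Led Lsl_bf v9 = v12 :=
  Lgr Lrot61 (Lpe (f1425 IH) (Lpr_bt (f1453 IH) (Lpq (f7213 IH) (Lpr_ft (f1448 IH) (Lpn v12)))))
theorem f1450 : Led Lsl_ff (LP (LK LD1_c0 LD2_c0 LD3_c6)) = v12 :=
  Lgr Lrot3 (Lpr_ft (f1448 IH) (Lpn v12))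
theorem f1451 : Led Lsl_at (LP (LK LD1_c0 LD2_c0 LD3_c7)) = v12 :=
  Lgr Lrot66 (Lpr_ff (f1425 IH) (Lpe (f469 IH) (Lpr_ff (f1450 IH) (Lpn v12))))
theorem f8023 : (LP (LK LD1_c0 LD2_c0 LD3_c6)) = v12 :=
  (Llr Lrot67 (Lpr_af (f470 IH) (Lpr_bf (f8021 IH) (Lpe (f1451 IH) (Lpq (f7204 IH) (Lpe (f1442 IH) (Lpr_af (f470 IH) (Lpr_bf (f8021 IH) (Lpn v12))))))))).symm
theorem f8025 : (LP (LK LD1_c0 LD2_c0 LD3_c7)) = v9 :=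
  Lefun (Lecon (Lfl_af (f1449 IH)) (f8023 IH).symm) (f469 IH)
theorem f8031 : v47 = (LP (LK LD1_c0 LD2_c0 LD3_c23)) :=
  Lefun (Lecon (f6766 IH) (f8025 IH).symm) (f300 IH)
theorem f8037 : Led Lsl_ff (LP (LK LD1_c0 LD2_c1 LD3_c3)) = (LP (LK LD1_c0 LD2_c1 LD3_c3)) :=
  Lgr Lrot19 (Lpr_dt (f298 IH) (Lpq (f8031 IH) (Lpe (f6768 IH) (Lpr_dt (f301 IH) (Lpn (LP (LK LD1_c0 LD2_c1 LD3_c3)))))))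
theorem f8042 : Led Lsl_ft (LP (LK LD1_c0 LD2_c2 LD3_c32)) = (LP (LK LD1_c0 LD2_c2 LD3_c32)) :=
  Lgr Lrot4 (Lpe (f302 IH) (Lpr_ff (f8037 IH) (Lpe (f299 IH) (Lpn (LP (LK LD1_c0 LD2_c2 LD3_c32))))))
theorem f27298 : Led Lsl_at (LP (LK LD1_c0 LD2_c2 LD3_c32)) = (LP (LK LD1_c0 LD2_c2 LD3_c28)) :=
  Lgr Lrot33 (Lpe (f8042 IH) (Lpe (f474 IH) (Lpr_ct (f473 IH) (Lpr_dt (f472 IH) (Lpr_ct (f447 IH) (Lpe (f1410 IH) (Lpr_ct (f51 IH) (Lpr_dt (f488 IH) (Lpr_ct (f489 IH) (Lpn (LP (LK LD1_c0 LD2_c2 LD3_c28))))))))))))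
theorem f8046 : Led Lsl_at (LP (LK LD1_c0 LD2_c1 LD3_c3)) = (LP (LK LD1_c0 LD2_c1 LD3_c1)) :=
  Lgr Lrot33 (Lpr_ff (f8037 IH) (Lpr_dt (f298 IH) (Lpr_ct (f297 IH) (Lpr_dt (f291 IH) (Lpr_ct (f300 IH) (Lpr_dt (f301 IH) (Lpr_ct (f302 IH) (Lpe (f474 IH) (Lpr_ct (f473 IH) (Lpn (LP (LK LD1_c0 LD2_c1 LD3_c1))))))))))))
theorem f8054 : Led Lsl_af (LP (LK LD1_c0 LD2_c2 LD3_c32)) = (LP (LK LD1_c0 LD2_c2 LD3_c28)) :=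
  Lgr Lrot68 (Lpr_ct (f299 IH) (Lpr_at (f8046 IH) (Lpr_ct (f489 IH) (Lpn (LP (LK LD1_c0 LD2_c2 LD3_c28))))))
theorem f27304 : Led Lsl_ff (LP (LK LD1_c0 LD2_c2 LD3_c28)) = (LP (LK LD1_c0 LD2_c2 LD3_c28)) :=
  Lgr Lrot30 (Lpe (f8054 IH) (Lpr_ft (f8042 IH) (Lpr_at (f27298 IH) (Lpn (LP (LK LD1_c0 LD2_c2 LD3_c28))))))
theorem f482 : Led Lsl_et (LP (LK LD1_c0 LD2_c2 LD3_c28)) = (LP (LK LD1_c0 LD2_c5 LD3_c25)) :=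
  Lre_e IH (LK LD1_c0 LD2_c2 LD3_c28) (LK LD1_c0 LD2_c5 LD3_c25) Lrfl Lrfl
theorem f27308 : Led Lsl_ft (LP (LK LD1_c0 LD2_c5 LD3_c25)) = (LP (LK LD1_c0 LD2_c11 LD3_c46)) :=
  Lre_f IH (LK LD1_c0 LD2_c5 LD3_c25) (LK LD1_c0 LD2_c11 LD3_c46) Lrfl Lrfl
theorem f1384 : Led Lsl_et (LP (LK LD1_c0 LD2_c5 LD3_c25)) = (LP (LK LD1_c0 LD2_c2 LD3_c28)) :=
  Lre_e IH (LK LD1_c0 LD2_c5 LD3_c25) (LK LD1_c0 LD2_c2 LD3_c28) Lrfl Lrfl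
theorem f27309 : Led Lsl_ft (LP (LK LD1_c0 LD2_c11 LD3_c46)) = (LP (LK LD1_c0 LD2_c5 LD3_c25)) :=
  Lre_f IH (LK LD1_c0 LD2_c11 LD3_c46) (LK LD1_c0 LD2_c5 LD3_c25) Lrfl Lrfl
theorem f27310 : Led Lsl_et (LP (LK LD1_c0 LD2_c11 LD3_c46)) = (LP (LK LD1_c0 LD2_c11 LD3_c46)) :=
  Lgr Lrot69 (Lpe (f27308 IH) (Lpe (f482 IH) (Lpr_ff (f27304 IH) (Lpe (f1384 IH) (Lpe (f27309 IH) (Lpn (LP (LK LD1_c0 LD2_c11 LD3_c46))))))))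
theorem f27320 : Led Lsl_dt (LP (LK LD1_c0 LD2_c26 LD3_c31)) = (LP (LK LD1_c0 LD2_c11 LD3_c46)) :=
  Lre_d IH (LK LD1_c0 LD2_c26 LD3_c31) (LK LD1_c0 LD2_c11 LD3_c46) Lrfl Lrfl
theorem f512 : Led Lsl_et (LP (LK LD1_c0 LD2_c58 LD3_c30)) = (LP (LK LD1_c0 LD2_c26 LD3_c31)) :=
  Lre_e IH (LK LD1_c0 LD2_c58 LD3_c30) (LK LD1_c0 LD2_c26 LD3_c31) Lrfl Lrfl
theorem f27321 : Led Lsl_dt (LP (LK LD1_c0 LD2_c11 LD3_c46)) = (LP (LK LD1_c0 LD2_c26 LD3_c31)) :=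
  Lre_d IH (LK LD1_c0 LD2_c11 LD3_c46) (LK LD1_c0 LD2_c26 LD3_c31) Lrfl Lrfl
theorem f542 : Led Lsl_et (LP (LK LD1_c0 LD2_c26 LD3_c31)) = (LP (LK LD1_c0 LD2_c58 LD3_c30)) :=
  Lre_e IH (LK LD1_c0 LD2_c26 LD3_c31) (LK LD1_c0 LD2_c58 LD3_c30) Lrfl Lrfl
theorem f27322 : Led Lsl_df (LP (LK LD1_c0 LD2_c58 LD3_c30)) = (LP (LK LD1_c0 LD2_c58 LD3_c30)) :=
  Lgr Lrot70 (Lpr_et (f512 IH) (Lpr_dt (f27320 IH) (Lpr_et (f27310 IH) (Lpr_dt (f27321 IH) (Lpr_et (f542 IH) (Lpn (LP (LK LD1_c0 LD2_c58 LD3_c30))))))))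
theorem f483 : Led Lsl_dt (LP (LK LD1_c0 LD2_c5 LD3_c25)) = (LP (LK LD1_c0 LD2_c11 LD3_c45)) :=
  Lre_d IH (LK LD1_c0 LD2_c5 LD3_c25) (LK LD1_c0 LD2_c11 LD3_c45) Lrfl Lrfl
theorem f484 : Led Lsl_et (LP (LK LD1_c0 LD2_c5 LD3_c34)) = (LP (LK LD1_c0 LD2_c2 LD3_c32)) :=
  Lre_e IH (LK LD1_c0 LD2_c5 LD3_c34) (LK LD1_c0 LD2_c2 LD3_c32) Lrfl Lrfl
theorem f485 : Led Lsl_dt (LP (LK LD1_c0 LD2_c12 LD3_c6)) = (LP (LK LD1_c0 LD2_c5 LD3_c34)) :=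
  Lre_d IH (LK LD1_c0 LD2_c12 LD3_c6) (LK LD1_c0 LD2_c5 LD3_c34) Lrfl Lrfl
theorem f486 : Led Lsl_et (LP (LK LD1_c0 LD2_c11 LD3_c45)) = (LP (LK LD1_c0 LD2_c12 LD3_c6)) :=
  Lgr Lrot71 (Lpe (f483 IH) (Lpe (f482 IH) (Lpr_df (f474 IH) (Lpe (f484 IH) (Lpe (f485 IH) (Lpn (LP (LK LD1_c0 LD2_c12 LD3_c6))))))))
theorem f511 : Led Lsl_ft (LP (LK LD1_c0 LD2_c26 LD3_c31)) = (LP (LK LD1_c0 LD2_c11 LD3_c45)) :=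
  Lre_f IH (LK LD1_c0 LD2_c26 LD3_c31) (LK LD1_c0 LD2_c11 LD3_c45) Lrfl Lrfl
theorem f513 : Led Lsl_ft (LP (LK LD1_c0 LD2_c12 LD3_c6)) = (LP (LK LD1_c0 LD2_c27 LD3_c22)) :=
  Lre_f IH (LK LD1_c0 LD2_c12 LD3_c6) (LK LD1_c0 LD2_c27 LD3_c22) Lrfl Lrfl
theorem f514 : Led Lsl_et (LP (LK LD1_c0 LD2_c27 LD3_c22)) = (LP (LK LD1_c1 LD2_c0 LD3_c15)) :=
  Lre_e IH (LK LD1_c0 LD2_c27 LD3_c22) (LK LD1_c1 LD2_c0 LD3_c15) Lrfl Lrfl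
theorem f515 : Led Lsl_ff (LP (LK LD1_c0 LD2_c58 LD3_c30)) = (LP (LK LD1_c1 LD2_c0 LD3_c15)) :=
  Lgr Lrot72 (Lpr_et (f512 IH) (Lpr_ft (f511 IH) (Lpr_et (f486 IH) (Lpr_ft (f513 IH) (Lpr_et (f514 IH) (Lpn (LP (LK LD1_c1 LD2_c0 LD3_c15))))))))
theorem f534 : Led Lsl_ft (LP (LK LD1_c0 LD2_c58 LD3_c30)) = (LP (LK LD1_c1 LD2_c0 LD3_c15)) :=
  Lgr Lrot48 (Lpr_ff (f515 IH) (Lpn (LP (LK LD1_c1 LD2_c0 LD3_c15))))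
theorem f27326 : Led Lsl_dt (LP (LK LD1_c1 LD2_c0 LD3_c15)) = (LP (LK LD1_c1 LD2_c0 LD3_c15)) :=
  Lgr Lrot60 (Lpe (f534 IH) (Lpr_df (f27322 IH) (Lpr_ff (f515 IH) (Lpn (LP (LK LD1_c1 LD2_c0 LD3_c15))))))
theorem f27338 : Led Lsl_dt (LP (LK LD1_c0 LD2_c12 LD3_c7)) = (LP (LK LD1_c0 LD2_c27 LD3_c22)) :=
  Lre_d IH (LK LD1_c0 LD2_c12 LD3_c7) (LK LD1_c0 LD2_c27 LD3_c22) Lrfl Lrfl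
theorem f545 : Led Lsl_et (LP (LK LD1_c1 LD2_c0 LD3_c15)) = (LP (LK LD1_c0 LD2_c27 LD3_c22)) :=
  Lre_e IH (LK LD1_c1 LD2_c0 LD3_c15) (LK LD1_c0 LD2_c27 LD3_c22) Lrfl Lrfl
theorem f27339 : Led Lsl_dt (LP (LK LD1_c0 LD2_c27 LD3_c22)) = (LP (LK LD1_c0 LD2_c12 LD3_c7)) :=
  Lre_d IH (LK LD1_c0 LD2_c27 LD3_c22) (LK LD1_c0 LD2_c12 LD3_c7) Lrfl Lrfl
theorem f27340 : Led Lsl_ef (LP (LK LD1_c0 LD2_c12 LD3_c7)) = (LP (LK LD1_c0 LD2_c12 LD3_c7)) :=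
  Lgr Lrot73 (Lpr_dt (f27338 IH) (Lpr_et (f514 IH) (Lpr_dt (f27326 IH) (Lpr_et (f545 IH) (Lpr_dt (f27339 IH) (Lpn (LP (LK LD1_c0 LD2_c12 LD3_c7))))))))
theorem f27345 : Led Lsl_bt (LP (LK LD1_c0 LD2_c12 LD3_c7)) = (LP (LK LD1_c0 LD2_c27 LD3_c12)) :=
  Lre_b IH (LK LD1_c0 LD2_c12 LD3_c7) (LK LD1_c0 LD2_c27 LD3_c12) Lrfl Lrfl
theorem f27346 : Led Lsl_bt (LP (LK LD1_c0 LD2_c27 LD3_c12)) = (LP (LK LD1_c0 LD2_c12 LD3_c7)) :=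
  Lre_b IH (LK LD1_c0 LD2_c27 LD3_c12) (LK LD1_c0 LD2_c12 LD3_c7) Lrfl Lrfl
theorem f27347 : Led Lsl_et (LP (LK LD1_c0 LD2_c27 LD3_c12)) = (LP (LK LD1_c0 LD2_c27 LD3_c12)) :=
  Lgr Lrot74 (Lpe (f27345 IH) (Lpr_ef (f27340 IH) (Lpe (f27346 IH) (Lpn (LP (LK LD1_c0 LD2_c27 LD3_c12))))))
theorem f27363 : Led Lsl_ft (LP (LK LD1_c0 LD2_c12 LD3_c3)) = (LP (LK LD1_c0 LD2_c27 LD3_c12)) :=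
  Lre_f IH (LK LD1_c0 LD2_c12 LD3_c3) (LK LD1_c0 LD2_c27 LD3_c12) Lrfl Lrfl
theorem f754 : Led Lsl_et (LP (LK LD1_c0 LD2_c5 LD3_c33)) = (LP (LK LD1_c0 LD2_c12 LD3_c3)) :=
  Lre_e IH (LK LD1_c0 LD2_c5 LD3_c33) (LK LD1_c0 LD2_c12 LD3_c3) Lrfl Lrfl
theorem f27364 : Led Lsl_ft (LP (LK LD1_c0 LD2_c27 LD3_c12)) = (LP (LK LD1_c0 LD2_c12 LD3_c3)) :=
  Lre_f IH (LK LD1_c0 LD2_c27 LD3_c12) (LK LD1_c0 LD2_c12 LD3_c3) Lrfl Lrfl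
theorem f591 : Led Lsl_et (LP (LK LD1_c0 LD2_c12 LD3_c3)) = (LP (LK LD1_c0 LD2_c5 LD3_c33)) :=
  Lre_e IH (LK LD1_c0 LD2_c12 LD3_c3) (LK LD1_c0 LD2_c5 LD3_c33) Lrfl Lrfl
theorem f27365 : Led Lsl_ff (LP (LK LD1_c0 LD2_c5 LD3_c33)) = (LP (LK LD1_c0 LD2_c5 LD3_c33)) :=
  Lgr Lrot72 (Lpr_et (f754 IH) (Lpr_ft (f27363 IH) (Lpr_et (f27347 IH) (Lpr_ft (f27364 IH) (Lpr_et (f591 IH) (Lpn (LP (LK LD1_c0 LD2_c5 LD3_c33))))))))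
theorem f1426 : Led Lsl_ct (LP (LK LD1_c0 LD2_c5 LD3_c33)) = (LP (LK LD1_c0 LD2_c11 LD3_c57)) :=
  Lre_c IH (LK LD1_c0 LD2_c5 LD3_c33) (LK LD1_c0 LD2_c11 LD3_c57) Lrfl Lrfl
theorem f738 : Led Lsl_ct (LP (LK LD1_c0 LD2_c11 LD3_c57)) = (LP (LK LD1_c0 LD2_c5 LD3_c33)) :=
  Lre_c IH (LK LD1_c0 LD2_c11 LD3_c57) (LK LD1_c0 LD2_c5 LD3_c33) Lrfl Lrfl
theorem f27374 : Led Lsl_ft (LP (LK LD1_c0 LD2_c11 LD3_c57)) = (LP (LK LD1_c0 LD2_c11 LD3_c57)) :=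
  Lgr Lrot4 (Lpe (f1426 IH) (Lpr_ff (f27365 IH) (Lpe (f738 IH) (Lpn (LP (LK LD1_c0 LD2_c11 LD3_c57))))))
theorem f739 : Led Lsl_dt (LP (LK LD1_c0 LD2_c26 LD3_c59)) = (LP (LK LD1_c0 LD2_c11 LD3_c57)) :=
  Lre_d IH (LK LD1_c0 LD2_c26 LD3_c59) (LK LD1_c0 LD2_c11 LD3_c57) Lrfl Lrfl
theorem f1427 : Led Lsl_dt (LP (LK LD1_c0 LD2_c11 LD3_c57)) = (LP (LK LD1_c0 LD2_c26 LD3_c59)) :=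
  Lre_d IH (LK LD1_c0 LD2_c11 LD3_c57) (LK LD1_c0 LD2_c26 LD3_c59) Lrfl Lrfl
theorem f27385 : Led Lsl_ff (LP (LK LD1_c0 LD2_c26 LD3_c59)) = (LP (LK LD1_c0 LD2_c26 LD3_c59)) :=
  Lgr Lrot19 (Lpr_dt (f739 IH) (Lpr_ft (f27374 IH) (Lpr_dt (f1427 IH) (Lpn (LP (LK LD1_c0 LD2_c26 LD3_c59))))))
theorem f8093 : Led Lsl_bt (LP (LK LD1_c0 LD2_c26 LD3_c59)) = (LP (LK LD1_c0 LD2_c11 LD3_c58)) :=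
  Lre_b IH (LK LD1_c0 LD2_c26 LD3_c59) (LK LD1_c0 LD2_c11 LD3_c58) Lrfl Lrfl
theorem f27400 : Led Lsl_bt (LP (LK LD1_c0 LD2_c11 LD3_c58)) = (LP (LK LD1_c0 LD2_c26 LD3_c59)) :=
  Lre_b IH (LK LD1_c0 LD2_c11 LD3_c58) (LK LD1_c0 LD2_c26 LD3_c59) Lrfl Lrfl
theorem f27401 : Led Lsl_ft (LP (LK LD1_c0 LD2_c11 LD3_c58)) = (LP (LK LD1_c0 LD2_c11 LD3_c58)) :=
  Lgr Lrot75 (Lpe (f8093 IH) (Lpr_ff (f27385 IH) (Lpe (f27400 IH) (Lpn (LP (LK LD1_c0 LD2_c11 LD3_c58))))))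
theorem f490 : Led Lsl_gt (LP (LK LD1_c0 LD2_c2 LD3_c27)) = (LP (LK LD1_c0 LD2_c1 LD3_c1)) :=
  Lre_g IH (LK LD1_c0 LD2_c2 LD3_c27) (LK LD1_c0 LD2_c1 LD3_c1) Lrfl Lrfl
theorem f8060 : Led Lsl_gt (LP (LK LD1_c0 LD2_c1 LD3_c3)) = (LP (LK LD1_c0 LD2_c2 LD3_c27)) :=
  Lgr Lrot5 (Lpe (f8037 IH) (Lpr_at (f8046 IH) (Lpe (f490 IH) (Lpn (LP (LK LD1_c0 LD2_c2 LD3_c27))))))
theorem f8039 : Led Lsl_bt (LP (LK LD1_c0 LD2_c2 LD3_c31)) = (LP (LK LD1_c0 LD2_c1 LD3_c3)) :=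
  Lre_b IH (LK LD1_c0 LD2_c2 LD3_c31) (LK LD1_c0 LD2_c1 LD3_c3) Lrfl Lrfl
theorem f8067 : Led Lsl_ct (LP (LK LD1_c0 LD2_c5 LD3_c31)) = (LP (LK LD1_c0 LD2_c2 LD3_c31)) :=
  Lre_c IH (LK LD1_c0 LD2_c5 LD3_c31) (LK LD1_c0 LD2_c2 LD3_c31) Lrfl Lrfl
theorem f8068 : Led Lsl_dt (LP (LK LD1_c0 LD2_c11 LD3_c58)) = (LP (LK LD1_c0 LD2_c5 LD3_c31)) :=
  Lre_d IH (LK LD1_c0 LD2_c11 LD3_c58) (LK LD1_c0 LD2_c5 LD3_c31) Lrfl Lrfl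
theorem f7186 : Led Lsl_at v22 = v76 :=
  Lgr Lrot66 (Lpe (f3799 IH) (Lpe (f62 IH) (Lpr_ff (f7185 IH) (Lpn v76))))
theorem f3803 : Led Lsl_bt v3 = v22 :=
  Lgr Lrot35 (Lpe (f65 IH) (Lpe (f53 IH) (Lpr_ff (f3802 IH) (Lpn v22))))
theorem f64 : Led Lsl_ct v0 = v3 :=
  Lgr Lrot59 (Lpr_cf (f63 IH) (Lpn v3))
theorem f31 : Led Lsl_bf v0 = v1 :=
  Lgr Lrot61 (Lpe (f23 IH) (Lpr_bt (f15 IH) (Lpr_ft (f30 IH) (Lpn v1))))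
def v15 : LQ := Led Lsl_gt (LP (LK LD1_c0 LD2_c0 LD3_c8))
theorem f1460 : Led Lsl_gt (LP (LK LD1_c0 LD2_c0 LD3_c8)) = v15 :=
  Lrfl
theorem f450 : Led Lsl_af v1 = v8 :=
  Lgr Lrot0 (Lpr_at (f445 IH) (Lpn v8))
theorem f1461 : Led Lsl_gf v1 = v15 :=
  Lgr Lrot76 (Lpr_af (f450 IH) (Lpe (f457 IH) (Lpr_gt (f1460 IH) (Lpn v15))))
theorem f1507 : Led Lsl_ff (LP (LK LD1_c0 LD2_c0 LD3_c40)) = (LP (LK LD1_c0 LD2_c0 LD3_c40)) :=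
  Lgr Lrot25 (Lpr_bt (f72 IH) (Lpqs (f68 IH) (Lpqs (f1504 IH) (Lpe (f1503 IH) (Lpq (f68 IH) (Lpr_bt (f71 IH) (Lpn (LP (LK LD1_c0 LD2_c0 LD3_c40)))))))))
theorem f1509 : Led Lsl_ft (LP (LK LD1_c0 LD2_c0 LD3_c27)) = (LP (LK LD1_c0 LD2_c0 LD3_c27)) :=
  Lgr Lrot4 (Lpe (f232 IH) (Lpr_ff (f1507 IH) (Lpr_cf (f234 IH) (Lpn (LP (LK LD1_c0 LD2_c0 LD3_c27))))))
theorem f238 : Led Lsl_dt (LP (LK LD1_c0 LD2_c0 LD3_c27)) = (LP (LK LD1_c0 LD2_c1 LD3_c13)) :=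
  Lre_d IH (LK LD1_c0 LD2_c0 LD3_c27) (LK LD1_c0 LD2_c1 LD3_c13) Lrfl Lrfl
theorem f1511 : Led Lsl_ff (LP (LK LD1_c0 LD2_c1 LD3_c13)) = (LP (LK LD1_c0 LD2_c1 LD3_c13)) :=
  Lgr Lrot19 (Lpr_dt (f236 IH) (Lpr_ft (f1509 IH) (Lpr_dt (f238 IH) (Lpn (LP (LK LD1_c0 LD2_c1 LD3_c13))))))
theorem f239 : Led Lsl_ct (LP (LK LD1_c0 LD2_c1 LD3_c13)) = (LP (LK LD1_c0 LD2_c2 LD3_c56)) :=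
  Lre_c IH (LK LD1_c0 LD2_c1 LD3_c13) (LK LD1_c0 LD2_c2 LD3_c56) Lrfl Lrfl
theorem f1641 : Led Lsl_dt (LP (LK LD1_c0 LD2_c1 LD3_c15)) = (LP (LK LD1_c0 LD2_c0 LD3_c28)) :=
  Lre_d IH (LK LD1_c0 LD2_c1 LD3_c15) (LK LD1_c0 LD2_c0 LD3_c28) Lrfl Lrfl
theorem f1642 : Led Lsl_ct (LP (LK LD1_c0 LD2_c2 LD3_c60)) = (LP (LK LD1_c0 LD2_c1 LD3_c15)) :=
  Lre_c IH (LK LD1_c0 LD2_c2 LD3_c60) (LK LD1_c0 LD2_c1 LD3_c15) Lrfl Lrfl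
theorem f1669 : Led Lsl_df (LP (LK LD1_c0 LD2_c2 LD3_c60)) = (LP (LK LD1_c0 LD2_c2 LD3_c56)) :=
  Lgr Lrot43 (Lpr_ct (f1642 IH) (Lpr_dt (f1641 IH) (Lpr_ct (f1640 IH) (Lpe (f1646 IH) (Lpr_ct (f1645 IH) (Lpr_dt (f1654 IH) (Lpr_ct (f1655 IH) (Lpr_dt (f1664 IH) (Lpr_ct (f237 IH) (Lpr_dt (f236 IH) (Lpe (f234 IH) (Lpe (f73 IH) (Lpr_ct (f232 IH) (Lpr_dt (f238 IH) (Lpr_ct (f239 IH) (Lpn (LP (LK LD1_c0 LD2_c2 LD3_c56))))))))))))))))))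
theorem f2116 : Led Lsl_at (LP (LK LD1_c0 LD2_c1 LD3_c13)) = (LP (LK LD1_c0 LD2_c1 LD3_c15)) :=
  Lgr Lrot33 (Lpr_ff (f1511 IH) (Lpr_dt (f236 IH) (Lpe (f234 IH) (Lpe (f73 IH) (Lpr_ct (f232 IH) (Lpr_dt (f238 IH) (Lpr_ct (f239 IH) (Lpe (f1669 IH) (Lpr_ct (f1642 IH) (Lpn (LP (LK LD1_c0 LD2_c1 LD3_c15))))))))))))
theorem f243 : Led Lsl_et (LP (LK LD1_c0 LD2_c2 LD3_c57)) = (LP (LK LD1_c0 LD2_c1 LD3_c13)) :=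
  Lre_e IH (LK LD1_c0 LD2_c2 LD3_c57) (LK LD1_c0 LD2_c1 LD3_c13) Lrfl Lrfl
theorem f2121 : Led Lsl_et (LP (LK LD1_c0 LD2_c1 LD3_c15)) = (LP (LK LD1_c0 LD2_c2 LD3_c61)) :=
  Lre_e IH (LK LD1_c0 LD2_c1 LD3_c15) (LK LD1_c0 LD2_c2 LD3_c61) Lrfl Lrfl
theorem f2122 : Led Lsl_af (LP (LK LD1_c0 LD2_c2 LD3_c57)) = (LP (LK LD1_c0 LD2_c2 LD3_c61)) :=
  Lgr Lrot50 (Lpr_et (f243 IH) (Lpr_at (f2116 IH) (Lpr_et (f2121 IH) (Lpn (LP (LK LD1_c0 LD2_c2 LD3_c61))))))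
theorem f258 : Led Lsl_ft (LP (LK LD1_c0 LD2_c2 LD3_c57)) = (LP (LK LD1_c0 LD2_c6 LD3_c26)) :=
  Lre_f IH (LK LD1_c0 LD2_c2 LD3_c57) (LK LD1_c0 LD2_c6 LD3_c26) Lrfl Lrfl
theorem f2135 : Led Lsl_ft (LP (LK LD1_c0 LD2_c6 LD3_c35)) = (LP (LK LD1_c0 LD2_c2 LD3_c61)) :=
  Lre_f IH (LK LD1_c0 LD2_c6 LD3_c35) (LK LD1_c0 LD2_c2 LD3_c61) Lrfl Lrfl
theorem f2136 : Led Lsl_at (LP (LK LD1_c0 LD2_c6 LD3_c26)) = (LP (LK LD1_c0 LD2_c6 LD3_c35)) :=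
  Lgr Lrot66 (Lpe (f258 IH) (Lpr_af (f2122 IH) (Lpe (f2135 IH) (Lpn (LP (LK LD1_c0 LD2_c6 LD3_c35))))))
theorem f158 : Led Lsl_et (LP (LK LD1_c0 LD2_c0 LD3_c40)) = (LP (LK LD1_c0 LD2_c0 LD3_c40)) :=
  Lgr Lrot74 (Lpe (f71 IH) (Lpr_ef (f142 IH) (Lpq (f68 IH) (Lpe (f72 IH) (Lpn (LP (LK LD1_c0 LD2_c0 LD3_c40)))))))
theorem f240 : Led Lsl_ef (LP (LK LD1_c0 LD2_c0 LD3_c27)) = (LP (LK LD1_c0 LD2_c0 LD3_c27)) :=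
  Lgr Lrot28 (Lpe (f234 IH) (Lpr_et (f158 IH) (Lpr_ct (f232 IH) (Lpn (LP (LK LD1_c0 LD2_c0 LD3_c27))))))
theorem f242 : Led Lsl_et (LP (LK LD1_c0 LD2_c1 LD3_c13)) = (LP (LK LD1_c0 LD2_c2 LD3_c57)) :=
  Lre_e IH (LK LD1_c0 LD2_c1 LD3_c13) (LK LD1_c0 LD2_c2 LD3_c57) Lrfl Lrfl
theorem f244 : Led Lsl_dt (LP (LK LD1_c0 LD2_c2 LD3_c57)) = (LP (LK LD1_c0 LD2_c2 LD3_c57)) :=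
  Lgr Lrot77 (Lpe (f242 IH) (Lpe (f238 IH) (Lpr_ef (f240 IH) (Lpe (f236 IH) (Lpe (f243 IH) (Lpn (LP (LK LD1_c0 LD2_c2 LD3_c57))))))))
theorem f257 : Led Lsl_ft (LP (LK LD1_c0 LD2_c6 LD3_c26)) = (LP (LK LD1_c0 LD2_c2 LD3_c57)) :=
  Lre_f IH (LK LD1_c0 LD2_c6 LD3_c26) (LK LD1_c0 LD2_c2 LD3_c57) Lrfl Lrfl
theorem f259 : Led Lsl_df (LP (LK LD1_c0 LD2_c6 LD3_c26)) = (LP (LK LD1_c0 LD2_c6 LD3_c26)) :=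
  Lgr Lrot78 (Lpr_ft (f257 IH) (Lpr_dt (f244 IH) (Lpr_ft (f258 IH) (Lpn (LP (LK LD1_c0 LD2_c6 LD3_c26))))))
theorem f2148 : Led Lsl_af (LP (LK LD1_c0 LD2_c6 LD3_c26)) = (LP (LK LD1_c0 LD2_c6 LD3_c35)) :=
  Lgr Lrot0 (Lpr_at (f2136 IH) (Lpn (LP (LK LD1_c0 LD2_c6 LD3_c35))))
theorem f2155 : Led Lsl_df (LP (LK LD1_c0 LD2_c6 LD3_c35)) = (LP (LK LD1_c0 LD2_c6 LD3_c35)) :=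
  Lgr Lrot18 (Lpe (f2148 IH) (Lpe (f259 IH) (Lpr_at (f2136 IH) (Lpn (LP (LK LD1_c0 LD2_c6 LD3_c35))))))
theorem f2150 : Led Lsl_bt (LP (LK LD1_c0 LD2_c6 LD3_c35)) = (LP (LK LD1_c0 LD2_c14 LD3_c10)) :=
  Lre_b IH (LK LD1_c0 LD2_c6 LD3_c35) (LK LD1_c0 LD2_c14 LD3_c10) Lrfl Lrfl
theorem f2146 : Led Lsl_bt (LP (LK LD1_c0 LD2_c14 LD3_c10)) = (LP (LK LD1_c0 LD2_c6 LD3_c35)) :=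
  Lre_b IH (LK LD1_c0 LD2_c14 LD3_c10) (LK LD1_c0 LD2_c6 LD3_c35) Lrfl Lrfl
theorem f2907 : Led Lsl_dt (LP (LK LD1_c0 LD2_c14 LD3_c10)) = (LP (LK LD1_c0 LD2_c14 LD3_c10)) :=
  Lgr Lrot79 (Lpe (f2150 IH) (Lpr_df (f2155 IH) (Lpe (f2146 IH) (Lpn (LP (LK LD1_c0 LD2_c14 LD3_c10))))))
theorem f2887 : Led Lsl_ft (LP (LK LD1_c0 LD2_c6 LD3_c30)) = (LP (LK LD1_c0 LD2_c14 LD3_c10)) :=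
  Lre_f IH (LK LD1_c0 LD2_c6 LD3_c30) (LK LD1_c0 LD2_c14 LD3_c10) Lrfl Lrfl
theorem f2889 : Led Lsl_ft (LP (LK LD1_c0 LD2_c14 LD3_c10)) = (LP (LK LD1_c0 LD2_c6 LD3_c30)) :=
  Lre_f IH (LK LD1_c0 LD2_c14 LD3_c10) (LK LD1_c0 LD2_c6 LD3_c30) Lrfl Lrfl
theorem f2909 : Led Lsl_df (LP (LK LD1_c0 LD2_c6 LD3_c30)) = (LP (LK LD1_c0 LD2_c6 LD3_c30)) :=
  Lgr Lrot78 (Lpr_ft (f2887 IH) (Lpr_dt (f2907 IH) (Lpr_ft (f2889 IH) (Lpn (LP (LK LD1_c0 LD2_c6 LD3_c30))))))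
theorem f2890 : Led Lsl_et (LP (LK LD1_c0 LD2_c6 LD3_c30)) = (LP (LK LD1_c0 LD2_c2 LD3_c59)) :=
  Lre_e IH (LK LD1_c0 LD2_c6 LD3_c30) (LK LD1_c0 LD2_c2 LD3_c59) Lrfl Lrfl
theorem f2893 : Led Lsl_dt (LP (LK LD1_c0 LD2_c2 LD3_c59)) = (LP (LK LD1_c0 LD2_c1 LD3_c14)) :=
  Lre_d IH (LK LD1_c0 LD2_c2 LD3_c59) (LK LD1_c0 LD2_c1 LD3_c14) Lrfl Lrfl
theorem f2888 : Led Lsl_et (LP (LK LD1_c0 LD2_c2 LD3_c59)) = (LP (LK LD1_c0 LD2_c6 LD3_c30)) :=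
  Lre_e IH (LK LD1_c0 LD2_c2 LD3_c59) (LK LD1_c0 LD2_c6 LD3_c30) Lrfl Lrfl
theorem f2894 : Led Lsl_dt (LP (LK LD1_c0 LD2_c1 LD3_c14)) = (LP (LK LD1_c0 LD2_c2 LD3_c59)) :=
  Lre_d IH (LK LD1_c0 LD2_c1 LD3_c14) (LK LD1_c0 LD2_c2 LD3_c59) Lrfl Lrfl
theorem f2911 : Led Lsl_et (LP (LK LD1_c0 LD2_c1 LD3_c14)) = (LP (LK LD1_c0 LD2_c1 LD3_c14)) :=
  Lgr Lrot71 (Lpe (f2893 IH) (Lpe (f2890 IH) (Lpr_df (f2909 IH) (Lpe (f2888 IH) (Lpe (f2894 IH) (Lpn (LP (LK LD1_c0 LD2_c1 LD3_c14))))))))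
theorem f1657 : Led Lsl_bt (LP (LK LD1_c0 LD2_c0 LD3_c28)) = (LP (LK LD1_c0 LD2_c1 LD3_c14)) :=
  Lre_b IH (LK LD1_c0 LD2_c0 LD3_c28) (LK LD1_c0 LD2_c1 LD3_c14) Lrfl Lrfl
theorem f1656 : Led Lsl_bt (LP (LK LD1_c0 LD2_c1 LD3_c14)) = (LP (LK LD1_c0 LD2_c0 LD3_c28)) :=
  Lre_b IH (LK LD1_c0 LD2_c1 LD3_c14) (LK LD1_c0 LD2_c0 LD3_c28) Lrfl Lrfl
theorem f2919 : Led Lsl_ef (LP (LK LD1_c0 LD2_c0 LD3_c28)) = (LP (LK LD1_c0 LD2_c0 LD3_c28)) :=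
  Lgr Lrot29 (Lpr_bt (f1657 IH) (Lpr_et (f2911 IH) (Lpr_bt (f1656 IH) (Lpn (LP (LK LD1_c0 LD2_c0 LD3_c28))))))
theorem f2923 : Led Lsl_at (LP (LK LD1_c0 LD2_c0 LD3_c27)) = (LP (LK LD1_c0 LD2_c0 LD3_c28)) :=
  Lgr Lrot80 (Lpr_ef (f240 IH) (Lpr_af (f1662 IH) (Lpr_ef (f2919 IH) (Lpn (LP (LK LD1_c0 LD2_c0 LD3_c28))))))
theorem f6871 : Led Lsl_gt (LP (LK LD1_c0 LD2_c0 LD3_c27)) = v53 :=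
  Lgr Lrot5 (Lpr_ft (f1509 IH) (Lpr_at (f2923 IH) (Lpr_gf (f6869 IH) (Lpn v53))))
theorem f36 : Led Lsl_ff (LP (LK LD1_c0 LD2_c0 LD3_c2)) = v1 :=
  Lgr Lrot3 (Lpr_ft (f30 IH) (Lpn v1))
theorem f40 : Led Lsl_bt v0 = v1 :=
  Lgr Lrot35 (Lpe (f20 IH) (Lpe (f10 IH) (Lpr_ff (f36 IH) (Lpn v1))))
theorem f451 : Led Lsl_bf (LP (LK LD1_c0 LD2_c0 LD3_c8)) = v8 :=
  Lgr Lrot81 (Lpr_at (f11 IH) (Lpr_bt (f10 IH) (Lpr_at (f8 IH) (Lpr_bt (f40 IH) (Lpr_at (f445 IH) (Lpn v8))))))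
theorem f7033 : v15 = v10 :=
  (Llr Lrot82 (Lpe (f1460 IH) (Lpr_bf (f451 IH) (Lpr_ct (f6867 IH) (Lpe (f6871 IH) (Lpe (f232 IH) (Lpr_bt (f72 IH) (Lpe (f45 IH) (Lpe (f53 IH) (Lpr_ct (f54 IH) (Lpr_gf (f7025 IH) (Lpe (f7028 IH) (Lpn v10))))))))))))).symm
theorem f7207 : v1 = (LP (LK LD1_c0 LD2_c0 LD3_c2)) :=
  Lefun (Lecon (Lfl_gf (f1461 IH)) ((f7033 IH).trans (f7204 IH))) (f26 IH)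
theorem f7218 : v0 = (LP (LK LD1_c0 LD2_c0 LD3_c1)) :=
  Lefun (Lecon (Lfl_bf (f31 IH)) (f7207 IH)) (f10 IH)
theorem f7234 : v3 = (LP (LK LD1_c0 LD2_c0 LD3_c3)) :=
  Lefun (Lecon (f64 IH) (f7218 IH)) (f17 IH)
theorem f7264 : v22 = (LP (LK LD1_c0 LD2_c0 LD3_c13)) :=
  Lefun (Lecon (f3803 IH) (f7234 IH)) (f306 IH)
theorem f7283 : v76 = (LP (LK LD1_c0 LD2_c0 LD3_c42)) :=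
  Lefun (Lecon (f7186 IH) (f7264 IH)) (f309 IH)
theorem f209 : Led Lsl_dt (LP (LK LD1_c0 LD2_c0 LD3_c13)) = (LP (LK LD1_c0 LD2_c0 LD3_c43)) :=
  Lre_d IH (LK LD1_c0 LD2_c0 LD3_c13) (LK LD1_c0 LD2_c0 LD3_c43) Lrfl Lrfl
theorem f106 : Led Lsl_cf (LP (LK LD1_c0 LD2_c0 LD3_c17)) = (LP (LK LD1_c0 LD2_c0 LD3_c46)) :=
  Lgr Lrot11 (Lpr_ct (f90 IH) (Lpn (LP (LK LD1_c0 LD2_c0 LD3_c46))))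
theorem f132 : Led Lsl_bt (LP (LK LD1_c0 LD2_c0 LD3_c17)) = (LP (LK LD1_c0 LD2_c0 LD3_c35)) :=
  Lre_b IH (LK LD1_c0 LD2_c0 LD3_c17) (LK LD1_c0 LD2_c0 LD3_c35) Lrfl Lrfl
theorem f182 : Led Lsl_ct (LP (LK LD1_c0 LD2_c0 LD3_c35)) = (LP (LK LD1_c0 LD2_c1 LD3_c34)) :=
  Lre_c IH (LK LD1_c0 LD2_c0 LD3_c35) (LK LD1_c0 LD2_c1 LD3_c34) Lrfl Lrfl
theorem f183 : Led Lsl_bt (LP (LK LD1_c0 LD2_c1 LD3_c34)) = (LP (LK LD1_c0 LD2_c3 LD3_c36)) :=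
  Lre_b IH (LK LD1_c0 LD2_c1 LD3_c34) (LK LD1_c0 LD2_c3 LD3_c36) Lrfl Lrfl
theorem f141 : Led Lsl_bt (LP (LK LD1_c0 LD2_c1 LD3_c50)) = (LP (LK LD1_c0 LD2_c0 LD3_c46)) :=
  Lre_b IH (LK LD1_c0 LD2_c1 LD3_c50) (LK LD1_c0 LD2_c0 LD3_c46) Lrfl Lrfl
theorem f184 : Led Lsl_ct (LP (LK LD1_c0 LD2_c3 LD3_c36)) = (LP (LK LD1_c0 LD2_c1 LD3_c50)) :=
  Lgr Lrot83 (Lpe (f183 IH) (Lpe (f182 IH) (Lpe (f132 IH) (Lpr_cf (f106 IH) (Lpe (f141 IH) (Lpn (LP (LK LD1_c0 LD2_c1 LD3_c50))))))))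
theorem f197 : Led Lsl_et (LP (LK LD1_c0 LD2_c1 LD3_c32)) = (LP (LK LD1_c0 LD2_c3 LD3_c36)) :=
  Lre_e IH (LK LD1_c0 LD2_c1 LD3_c32) (LK LD1_c0 LD2_c3 LD3_c36) Lrfl Lrfl
theorem f198 : Led Lsl_et (LP (LK LD1_c0 LD2_c1 LD3_c50)) = (LP (LK LD1_c0 LD2_c0 LD3_c43)) :=
  Lre_e IH (LK LD1_c0 LD2_c1 LD3_c50) (LK LD1_c0 LD2_c0 LD3_c43) Lrfl Lrfl
theorem f199 : Led Lsl_cf (LP (LK LD1_c0 LD2_c1 LD3_c32)) = (LP (LK LD1_c0 LD2_c0 LD3_c43)) :=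
  Lgr Lrot39 (Lpr_et (f197 IH) (Lpr_ct (f184 IH) (Lpr_et (f198 IH) (Lpn (LP (LK LD1_c0 LD2_c0 LD3_c43))))))
theorem f8062 : Led Lsl_df (LP (LK LD1_c0 LD2_c1 LD3_c32)) = (LP (LK LD1_c0 LD2_c2 LD3_c27)) :=
  Lgr Lrot84 (Lpr_cf (f199 IH) (Lpe (f209 IH) (Lpr_gf (f1630 IH) (Lpqs (f1684 IH) (Lpr_df (f73 IH) (Lpr_gf (f7183 IH) (Lpqs (f7283 IH) (Lpr_cf (f7037 IH) (Lpqs (f7194 IH) (Lpr_gt (f6786 IH) (Lpr_dt (f301 IH) (Lpr_gt (f8060 IH) (Lpn (LP (LK LD1_c0 LD2_c2 LD3_c27)))))))))))))))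
theorem f83 : Led Lsl_bt (LP (LK LD1_c0 LD2_c0 LD3_c4)) = (LP (LK LD1_c0 LD2_c0 LD3_c10)) :=
  Lre_b IH (LK LD1_c0 LD2_c0 LD3_c4) (LK LD1_c0 LD2_c0 LD3_c10) Lrfl Lrfl
theorem f84 : Led Lsl_bt (LP (LK LD1_c0 LD2_c0 LD3_c34)) = (LP (LK LD1_c0 LD2_c1 LD3_c32)) :=
  Lre_b IH (LK LD1_c0 LD2_c0 LD3_c34) (LK LD1_c0 LD2_c1 LD3_c32) Lrfl Lrfl
theorem f85 : Led Lsl_bt (LP (LK LD1_c0 LD2_c0 LD3_c43)) = (LP (LK LD1_c0 LD2_c0 LD3_c14)) :=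
  Lre_b IH (LK LD1_c0 LD2_c0 LD3_c43) (LK LD1_c0 LD2_c0 LD3_c14) Lrfl Lrfl
theorem f86 : Led Lsl_ct (LP (LK LD1_c0 LD2_c1 LD3_c32)) = (LP (LK LD1_c0 LD2_c0 LD3_c43)) :=
  Lgr Lrot83 (Lpe (f84 IH) (Lpe (f37 IH) (Lpe (f83 IH) (Lpr_cf (f77 IH) (Lpe (f85 IH) (Lpn (LP (LK LD1_c0 LD2_c0 LD3_c43))))))))
theorem f219 : Led Lsl_dt (LP (LK LD1_c0 LD2_c0 LD3_c43)) = (LP (LK LD1_c0 LD2_c0 LD3_c13)) :=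
  Lre_d IH (LK LD1_c0 LD2_c0 LD3_c43) (LK LD1_c0 LD2_c0 LD3_c13) Lrfl Lrfl
theorem f296 : Led Lsl_bt (LP (LK LD1_c0 LD2_c0 LD3_c29)) = (LP (LK LD1_c0 LD2_c0 LD3_c9)) :=
  Lre_b IH (LK LD1_c0 LD2_c0 LD3_c29) (LK LD1_c0 LD2_c0 LD3_c9) Lrfl Lrfl
theorem f1616 : Led Lsl_bt (LP (LK LD1_c0 LD2_c2 LD3_c56)) = (LP (LK LD1_c0 LD2_c6 LD3_c22)) :=
  Lre_b IH (LK LD1_c0 LD2_c2 LD3_c56) (LK LD1_c0 LD2_c6 LD3_c22) Lrfl Lrfl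
theorem f8069 : Led Lsl_gf (LP (LK LD1_c0 LD2_c11 LD3_c58)) = (LP (LK LD1_c0 LD2_c6 LD3_c22)) :=
  Lgr Lrot85 (Lpr_dt (f8068 IH) (Lpr_ct (f8067 IH) (Lpr_bt (f8039 IH) (Lpr_gt (f8060 IH) (Lpe (f8062 IH) (Lpr_ct (f86 IH) (Lpr_bt (f85 IH) (Lpr_gt (f48 IH) (Lpr_dt (f3951 IH) (Lpr_ct (f3806 IH) (Lpr_bt (f3834 IH) (Lpr_gt (f95 IH) (Lpr_dt (f219 IH) (Lpr_ct (f54 IH) (Lpr_bt (f296 IH) (Lpr_gt (f50 IH) (Lpr_dt (f238 IH) (Lpr_ct (f239 IH) (Lpr_bt (f1616 IH) (Lpn (LP (LK LD1_c0 LD2_c6 LD3_c22))))))))))))))))))))))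
theorem f1515 : Led Lsl_et (LP (LK LD1_c0 LD2_c6 LD3_c26)) = (LP (LK LD1_c0 LD2_c6 LD3_c26)) :=
  Lgr Lrot69 (Lpe (f258 IH) (Lpe (f242 IH) (Lpr_ff (f1511 IH) (Lpe (f243 IH) (Lpe (f257 IH) (Lpn (LP (LK LD1_c0 LD2_c6 LD3_c26))))))))
theorem f281 : Led Lsl_ct (LP (LK LD1_c0 LD2_c13 LD3_c61)) = (LP (LK LD1_c0 LD2_c6 LD3_c26)) :=
  Lre_c IH (LK LD1_c0 LD2_c13 LD3_c61) (LK LD1_c0 LD2_c6 LD3_c26) Lrfl Lrfl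
theorem f278 : Led Lsl_ct (LP (LK LD1_c0 LD2_c6 LD3_c26)) = (LP (LK LD1_c0 LD2_c13 LD3_c61)) :=
  Lre_c IH (LK LD1_c0 LD2_c6 LD3_c26) (LK LD1_c0 LD2_c13 LD3_c61) Lrfl Lrfl
theorem f1517 : Led Lsl_ef (LP (LK LD1_c0 LD2_c13 LD3_c61)) = (LP (LK LD1_c0 LD2_c13 LD3_c61)) :=
  Lgr Lrot28 (Lpr_ct (f281 IH) (Lpr_et (f1515 IH) (Lpr_ct (f278 IH) (Lpn (LP (LK LD1_c0 LD2_c13 LD3_c61))))))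
theorem f279 : Led Lsl_dt (LP (LK LD1_c0 LD2_c13 LD3_c61)) = (LP (LK LD1_c0 LD2_c31 LD3_c34)) :=
  Lre_d IH (LK LD1_c0 LD2_c13 LD3_c61) (LK LD1_c0 LD2_c31 LD3_c34) Lrfl Lrfl
theorem f1522 : Led Lsl_et (LP (LK LD1_c0 LD2_c31 LD3_c34)) = (LP (LK LD1_c1 LD2_c9 LD3_c4)) :=
  Lre_e IH (LK LD1_c0 LD2_c31 LD3_c34) (LK LD1_c1 LD2_c9 LD3_c4) Lrfl Lrfl
theorem f282 : Led Lsl_dt (LP (LK LD1_c0 LD2_c31 LD3_c34)) = (LP (LK LD1_c0 LD2_c13 LD3_c61)) :=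
  Lre_d IH (LK LD1_c0 LD2_c31 LD3_c34) (LK LD1_c0 LD2_c13 LD3_c61) Lrfl Lrfl
theorem f1523 : Led Lsl_et (LP (LK LD1_c1 LD2_c9 LD3_c4)) = (LP (LK LD1_c0 LD2_c31 LD3_c34)) :=
  Lre_e IH (LK LD1_c1 LD2_c9 LD3_c4) (LK LD1_c0 LD2_c31 LD3_c34) Lrfl Lrfl
theorem f1524 : Led Lsl_dt (LP (LK LD1_c1 LD2_c9 LD3_c4)) = (LP (LK LD1_c1 LD2_c9 LD3_c4)) :=
  Lgr Lrot77 (Lpe (f1522 IH) (Lpe (f279 IH) (Lpr_ef (f1517 IH) (Lpe (f282 IH) (Lpe (f1523 IH) (Lpn (LP (LK LD1_c1 LD2_c9 LD3_c4))))))))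
theorem f1530 : Led Lsl_bt (LP (LK LD1_c2 LD2_c23 LD3_c48)) = (LP (LK LD1_c1 LD2_c9 LD3_c4)) :=
  Lre_b IH (LK LD1_c2 LD2_c23 LD3_c48) (LK LD1_c1 LD2_c9 LD3_c4) Lrfl Lrfl
theorem f1531 : Led Lsl_bt (LP (LK LD1_c1 LD2_c9 LD3_c4)) = (LP (LK LD1_c2 LD2_c23 LD3_c48)) :=
  Lre_b IH (LK LD1_c1 LD2_c9 LD3_c4) (LK LD1_c2 LD2_c23 LD3_c48) Lrfl Lrfl
theorem f1532 : Led Lsl_df (LP (LK LD1_c2 LD2_c23 LD3_c48)) = (LP (LK LD1_c2 LD2_c23 LD3_c48)) :=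
  Lgr Lrot12 (Lpr_bt (f1530 IH) (Lpr_dt (f1524 IH) (Lpr_bt (f1531 IH) (Lpn (LP (LK LD1_c2 LD2_c23 LD3_c48))))))
theorem f1541 : Led Lsl_at (LP (LK LD1_c2 LD2_c23 LD3_c48)) = (LP (LK LD1_c4 LD2_c50 LD3_c61)) :=
  Lre_a IH (LK LD1_c2 LD2_c23 LD3_c48) (LK LD1_c4 LD2_c50 LD3_c61) Lrfl Lrfl
theorem f1542 : Led Lsl_at (LP (LK LD1_c4 LD2_c50 LD3_c61)) = (LP (LK LD1_c2 LD2_c23 LD3_c48)) :=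
  Lre_a IH (LK LD1_c4 LD2_c50 LD3_c61) (LK LD1_c2 LD2_c23 LD3_c48) Lrfl Lrfl
theorem f1543 : Led Lsl_dt (LP (LK LD1_c4 LD2_c50 LD3_c61)) = (LP (LK LD1_c4 LD2_c50 LD3_c61)) :=
  Lgr Lrot44 (Lpe (f1541 IH) (Lpr_df (f1532 IH) (Lpe (f1542 IH) (Lpn (LP (LK LD1_c4 LD2_c50 LD3_c61))))))
theorem f1577 : Led Lsl_et (LP (LK LD1_c2 LD2_c23 LD3_c19)) = (LP (LK LD1_c4 LD2_c50 LD3_c61)) :=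
  Lre_e IH (LK LD1_c2 LD2_c23 LD3_c19) (LK LD1_c4 LD2_c50 LD3_c61) Lrfl Lrfl
theorem f1578 : Led Lsl_dt (LP (LK LD1_c1 LD2_c8 LD3_c46)) = (LP (LK LD1_c2 LD2_c23 LD3_c19)) :=
  Lre_d IH (LK LD1_c1 LD2_c8 LD3_c46) (LK LD1_c2 LD2_c23 LD3_c19) Lrfl Lrfl
theorem f1579 : Led Lsl_et (LP (LK LD1_c4 LD2_c50 LD3_c61)) = (LP (LK LD1_c2 LD2_c23 LD3_c19)) :=
  Lre_e IH (LK LD1_c4 LD2_c50 LD3_c61) (LK LD1_c2 LD2_c23 LD3_c19) Lrfl Lrfl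
theorem f1580 : Led Lsl_dt (LP (LK LD1_c2 LD2_c23 LD3_c19)) = (LP (LK LD1_c1 LD2_c8 LD3_c46)) :=
  Lre_d IH (LK LD1_c2 LD2_c23 LD3_c19) (LK LD1_c1 LD2_c8 LD3_c46) Lrfl Lrfl
theorem f1581 : Led Lsl_ef (LP (LK LD1_c1 LD2_c8 LD3_c46)) = (LP (LK LD1_c1 LD2_c8 LD3_c46)) :=
  Lgr Lrot73 (Lpr_dt (f1578 IH) (Lpr_et (f1577 IH) (Lpr_dt (f1543 IH) (Lpr_et (f1579 IH) (Lpr_dt (f1580 IH) (Lpn (LP (LK LD1_c1 LD2_c8 LD3_c46))))))))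
theorem f1591 : Led Lsl_ft (LP (LK LD1_c1 LD2_c8 LD3_c46)) = (LP (LK LD1_c0 LD2_c31 LD3_c26)) :=
  Lre_f IH (LK LD1_c1 LD2_c8 LD3_c46) (LK LD1_c0 LD2_c31 LD3_c26) Lrfl Lrfl
theorem f1592 : Led Lsl_et (LP (LK LD1_c0 LD2_c31 LD3_c26)) = (LP (LK LD1_c0 LD2_c13 LD3_c58)) :=
  Lre_e IH (LK LD1_c0 LD2_c31 LD3_c26) (LK LD1_c0 LD2_c13 LD3_c58) Lrfl Lrfl
theorem f1593 : Led Lsl_ft (LP (LK LD1_c0 LD2_c31 LD3_c26)) = (LP (LK LD1_c1 LD2_c8 LD3_c46)) :=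
  Lre_f IH (LK LD1_c0 LD2_c31 LD3_c26) (LK LD1_c1 LD2_c8 LD3_c46) Lrfl Lrfl
theorem f1594 : Led Lsl_et (LP (LK LD1_c0 LD2_c13 LD3_c58)) = (LP (LK LD1_c0 LD2_c31 LD3_c26)) :=
  Lre_e IH (LK LD1_c0 LD2_c13 LD3_c58) (LK LD1_c0 LD2_c31 LD3_c26) Lrfl Lrfl
theorem f1595 : Led Lsl_ft (LP (LK LD1_c0 LD2_c13 LD3_c58)) = (LP (LK LD1_c0 LD2_c13 LD3_c58)) :=
  Lgr Lrot86 (Lpe (f1592 IH) (Lpe (f1591 IH) (Lpr_ef (f1581 IH) (Lpe (f1593 IH) (Lpe (f1594 IH) (Lpn (LP (LK LD1_c0 LD2_c13 LD3_c58))))))))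
theorem f1603 : Led Lsl_at (LP (LK LD1_c0 LD2_c6 LD3_c22)) = (LP (LK LD1_c0 LD2_c13 LD3_c58)) :=
  Lre_a IH (LK LD1_c0 LD2_c6 LD3_c22) (LK LD1_c0 LD2_c13 LD3_c58) Lrfl Lrfl
theorem f1604 : Led Lsl_at (LP (LK LD1_c0 LD2_c13 LD3_c58)) = (LP (LK LD1_c0 LD2_c6 LD3_c22)) :=
  Lre_a IH (LK LD1_c0 LD2_c13 LD3_c58) (LK LD1_c0 LD2_c6 LD3_c22) Lrfl Lrfl
theorem f1605 : Led Lsl_ff (LP (LK LD1_c0 LD2_c6 LD3_c22)) = (LP (LK LD1_c0 LD2_c6 LD3_c22)) :=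
  Lgr Lrot30 (Lpr_at (f1603 IH) (Lpr_ft (f1595 IH) (Lpr_at (f1604 IH) (Lpn (LP (LK LD1_c0 LD2_c6 LD3_c22))))))
theorem f8090 : Led Lsl_gt (LP (LK LD1_c0 LD2_c11 LD3_c58)) = (LP (LK LD1_c0 LD2_c13 LD3_c58)) :=
  Lgr Lrot46 (Lpr_gf (f8069 IH) (Lpe (f1605 IH) (Lpr_at (f1603 IH) (Lpn (LP (LK LD1_c0 LD2_c13 LD3_c58))))))
theorem f1607 : Led Lsl_gt (LP (LK LD1_c0 LD2_c13 LD3_c57)) = (LP (LK LD1_c0 LD2_c6 LD3_c22)) :=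
  Lre_g IH (LK LD1_c0 LD2_c13 LD3_c57) (LK LD1_c0 LD2_c6 LD3_c22) Lrfl Lrfl
theorem f1608 : Led Lsl_gt (LP (LK LD1_c0 LD2_c13 LD3_c58)) = (LP (LK LD1_c0 LD2_c13 LD3_c57)) :=
  Lgr Lrot5 (Lpr_ft (f1595 IH) (Lpr_at (f1604 IH) (Lpe (f1607 IH) (Lpn (LP (LK LD1_c0 LD2_c13 LD3_c57))))))
theorem f27535 : Led Lsl_af (LP (LK LD1_c0 LD2_c13 LD3_c57)) = (LP (LK LD1_c0 LD2_c11 LD3_c58)) :=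
  Lgr Lrot31 (Lpe (f1608 IH) (Lpe (f8090 IH) (Lpr_ft (f27401 IH) (Lpn (LP (LK LD1_c0 LD2_c11 LD3_c58))))))
theorem f27544 : Led Lsl_et (LP (LK LD1_c0 LD2_c13 LD3_c57)) = (LP (LK LD1_c0 LD2_c31 LD3_c25)) :=
  Lre_e IH (LK LD1_c0 LD2_c13 LD3_c57) (LK LD1_c0 LD2_c31 LD3_c25) Lrfl Lrfl
theorem f8098 : Led Lsl_et (LP (LK LD1_c0 LD2_c26 LD3_c61)) = (LP (LK LD1_c0 LD2_c11 LD3_c58)) :=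
  Lre_e IH (LK LD1_c0 LD2_c26 LD3_c61) (LK LD1_c0 LD2_c11 LD3_c58) Lrfl Lrfl
theorem f27545 : Led Lsl_at (LP (LK LD1_c0 LD2_c31 LD3_c25)) = (LP (LK LD1_c0 LD2_c26 LD3_c61)) :=
  Lgr Lrot80 (Lpe (f27544 IH) (Lpr_af (f27535 IH) (Lpe (f8098 IH) (Lpn (LP (LK LD1_c0 LD2_c26 LD3_c61))))))
theorem f27551 : Led Lsl_ft (LP (LK LD1_c1 LD2_c8 LD3_c42)) = (LP (LK LD1_c0 LD2_c31 LD3_c25)) :=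
  Lre_f IH (LK LD1_c1 LD2_c8 LD3_c42) (LK LD1_c0 LD2_c31 LD3_c25) Lrfl Lrfl
theorem f27534 : Led Lsl_ft (LP (LK LD1_c0 LD2_c26 LD3_c61)) = (LP (LK LD1_c0 LD2_c59 LD3_c18)) :=
  Lre_f IH (LK LD1_c0 LD2_c26 LD3_c61) (LK LD1_c0 LD2_c59 LD3_c18) Lrfl Lrfl
theorem f27588 : Led Lsl_af (LP (LK LD1_c1 LD2_c8 LD3_c42)) = (LP (LK LD1_c0 LD2_c59 LD3_c18)) :=
  Lgr Lrot45 (Lpr_ft (f27551 IH) (Lpr_at (f27545 IH) (Lpr_ft (f27534 IH) (Lpn (LP (LK LD1_c0 LD2_c59 LD3_c18))))))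
theorem f27561 : Led Lsl_dt (LP (LK LD1_c1 LD2_c8 LD3_c42)) = (LP (LK LD1_c2 LD2_c23 LD3_c10)) :=
  Lre_d IH (LK LD1_c1 LD2_c8 LD3_c42) (LK LD1_c2 LD2_c23 LD3_c10) Lrfl Lrfl
theorem f27527 : Led Lsl_dt (LP (LK LD1_c2 LD2_c4 LD3_c35)) = (LP (LK LD1_c0 LD2_c59 LD3_c18)) :=
  Lre_d IH (LK LD1_c2 LD2_c4 LD3_c35) (LK LD1_c0 LD2_c59 LD3_c18) Lrfl Lrfl
theorem f27594 : Led Lsl_at (LP (LK LD1_c2 LD2_c23 LD3_c10)) = (LP (LK LD1_c2 LD2_c4 LD3_c35)) :=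
  Lgr Lrot51 (Lpe (f27561 IH) (Lpr_af (f27588 IH) (Lpe (f27527 IH) (Lpn (LP (LK LD1_c2 LD2_c4 LD3_c35))))))
theorem f27603 : Led Lsl_ct (LP (LK LD1_c4 LD2_c50 LD3_c45)) = (LP (LK LD1_c2 LD2_c23 LD3_c10)) :=
  Lre_c IH (LK LD1_c4 LD2_c50 LD3_c45) (LK LD1_c2 LD2_c23 LD3_c10) Lrfl Lrfl
theorem f27613 : Led Lsl_ct (LP (LK LD1_c2 LD2_c4 LD3_c35)) = (LP (LK LD1_c4 LD2_c14 LD3_c25)) :=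
  Lre_c IH (LK LD1_c2 LD2_c4 LD3_c35) (LK LD1_c4 LD2_c14 LD3_c25) Lrfl Lrfl
theorem f27614 : Led Lsl_af (LP (LK LD1_c4 LD2_c50 LD3_c45)) = (LP (LK LD1_c4 LD2_c14 LD3_c25)) :=
  Lgr Lrot68 (Lpr_ct (f27603 IH) (Lpr_at (f27594 IH) (Lpr_ct (f27613 IH) (Lpn (LP (LK LD1_c4 LD2_c14 LD3_c25))))))
theorem f27634 : Led Lsl_ft (LP (LK LD1_c4 LD2_c50 LD3_c45)) = (LP (LK LD1_c2 LD2_c23 LD3_c9)) :=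
  Lre_f IH (LK LD1_c4 LD2_c50 LD3_c45) (LK LD1_c2 LD2_c23 LD3_c9) Lrfl Lrfl
theorem f27635 : Led Lsl_ft (LP (LK LD1_c2 LD2_c4 LD3_c34)) = (LP (LK LD1_c4 LD2_c14 LD3_c25)) :=
  Lre_f IH (LK LD1_c2 LD2_c4 LD3_c34) (LK LD1_c4 LD2_c14 LD3_c25) Lrfl Lrfl
theorem f27636 : Led Lsl_at (LP (LK LD1_c2 LD2_c23 LD3_c9)) = (LP (LK LD1_c2 LD2_c4 LD3_c34)) :=
  Lgr Lrot66 (Lpe (f27634 IH) (Lpr_af (f27614 IH) (Lpe (f27635 IH) (Lpn (LP (LK LD1_c2 LD2_c4 LD3_c34))))))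
theorem f27651 : Led Lsl_et (LP (LK LD1_c2 LD2_c4 LD3_c34)) = (LP (LK LD1_c0 LD2_c59 LD3_c23)) :=
  Lre_e IH (LK LD1_c2 LD2_c4 LD3_c34) (LK LD1_c0 LD2_c59 LD3_c23) Lrfl Lrfl
theorem f27652 : Led Lsl_at (LP (LK LD1_c0 LD2_c59 LD3_c23)) = (LP (LK LD1_c2 LD2_c4 LD3_c2)) :=
  Lre_a IH (LK LD1_c0 LD2_c59 LD3_c23) (LK LD1_c2 LD2_c4 LD3_c2) Lrfl Lrfl
theorem f27653 : Led Lsl_ef (LP (LK LD1_c2 LD2_c23 LD3_c9)) = (LP (LK LD1_c2 LD2_c4 LD3_c2)) :=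
  Lgr Lrot20 (Lpr_at (f27636 IH) (Lpr_et (f27651 IH) (Lpr_at (f27652 IH) (Lpn (LP (LK LD1_c2 LD2_c4 LD3_c2))))))
theorem f27664 : Led Lsl_et (LP (LK LD1_c2 LD2_c23 LD3_c9)) = (LP (LK LD1_c2 LD2_c4 LD3_c2)) :=
  Lgr Lrot87 (Lpr_ef (f27653 IH) (Lpn (LP (LK LD1_c2 LD2_c4 LD3_c2))))
theorem f27646 : Led Lsl_ct (LP (LK LD1_c1 LD2_c8 LD3_c41)) = (LP (LK LD1_c2 LD2_c23 LD3_c9)) :=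
  Lre_c IH (LK LD1_c1 LD2_c8 LD3_c41) (LK LD1_c2 LD2_c23 LD3_c9) Lrfl Lrfl
theorem f27679 : Led Lsl_ct (LP (LK LD1_c2 LD2_c4 LD3_c2)) = (LP (LK LD1_c0 LD2_c59 LD3_c1)) :=
  Lre_c IH (LK LD1_c2 LD2_c4 LD3_c2) (LK LD1_c0 LD2_c59 LD3_c1) Lrfl Lrfl
theorem f27680 : Led Lsl_ef (LP (LK LD1_c1 LD2_c8 LD3_c41)) = (LP (LK LD1_c0 LD2_c59 LD3_c1)) :=
  Lgr Lrot28 (Lpr_ct (f27646 IH) (Lpr_et (f27664 IH) (Lpr_ct (f27679 IH) (Lpn (LP (LK LD1_c0 LD2_c59 LD3_c1))))))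
theorem f27688 : Led Lsl_bt (LP (LK LD1_c1 LD2_c8 LD3_c41)) = (LP (LK LD1_c2 LD2_c23 LD3_c4)) :=
  Lre_b IH (LK LD1_c1 LD2_c8 LD3_c41) (LK LD1_c2 LD2_c23 LD3_c4) Lrfl Lrfl
theorem f27689 : Led Lsl_bt (LP (LK LD1_c2 LD2_c4 LD3_c1)) = (LP (LK LD1_c0 LD2_c59 LD3_c1)) :=
  Lre_b IH (LK LD1_c2 LD2_c4 LD3_c1) (LK LD1_c0 LD2_c59 LD3_c1) Lrfl Lrfl
theorem f27690 : Led Lsl_et (LP (LK LD1_c2 LD2_c23 LD3_c4)) = (LP (LK LD1_c2 LD2_c4 LD3_c1)) :=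
  Lgr Lrot74 (Lpe (f27688 IH) (Lpr_ef (f27680 IH) (Lpe (f27689 IH) (Lpn (LP (LK LD1_c2 LD2_c4 LD3_c1))))))
theorem f27706 : Led Lsl_ef (LP (LK LD1_c2 LD2_c23 LD3_c4)) = (LP (LK LD1_c2 LD2_c4 LD3_c1)) :=
  Lgr Lrot88 (Lpr_et (f27690 IH) (Lpn (LP (LK LD1_c2 LD2_c4 LD3_c1))))
theorem f27709 : Led Lsl_dt (LP (LK LD1_c2 LD2_c23 LD3_c4)) = (LP (LK LD1_c1 LD2_c8 LD3_c39)) :=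
  Lre_d IH (LK LD1_c2 LD2_c23 LD3_c4) (LK LD1_c1 LD2_c8 LD3_c39) Lrfl Lrfl
theorem f27578 : Led Lsl_et (LP (LK LD1_c1 LD2_c8 LD3_c39)) = (LP (LK LD1_c0 LD2_c31 LD3_c24)) :=
  Lre_e IH (LK LD1_c1 LD2_c8 LD3_c39) (LK LD1_c0 LD2_c31 LD3_c24) Lrfl Lrfl
theorem f27724 : Led Lsl_dt (LP (LK LD1_c0 LD2_c59 LD3_c0)) = (LP (LK LD1_c2 LD2_c4 LD3_c1)) :=
  Lre_d IH (LK LD1_c0 LD2_c59 LD3_c0) (LK LD1_c2 LD2_c4 LD3_c1) Lrfl Lrfl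
theorem f27725 : Led Lsl_et (LP (LK LD1_c0 LD2_c26 LD3_c51)) = (LP (LK LD1_c0 LD2_c59 LD3_c0)) :=
  Lre_e IH (LK LD1_c0 LD2_c26 LD3_c51) (LK LD1_c0 LD2_c59 LD3_c0) Lrfl Lrfl
theorem f27726 : Led Lsl_dt (LP (LK LD1_c0 LD2_c31 LD3_c24)) = (LP (LK LD1_c0 LD2_c26 LD3_c51)) :=
  Lgr Lrot77 (Lpe (f27578 IH) (Lpe (f27709 IH) (Lpr_ef (f27706 IH) (Lpe (f27724 IH) (Lpe (f27725 IH) (Lpn (LP (LK LD1_c0 LD2_c26 LD3_c51))))))))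
theorem f27540 : Led Lsl_bt (LP (LK LD1_c0 LD2_c13 LD3_c57)) = (LP (LK LD1_c0 LD2_c31 LD3_c24)) :=
  Lre_b IH (LK LD1_c0 LD2_c13 LD3_c57) (LK LD1_c0 LD2_c31 LD3_c24) Lrfl Lrfl
theorem f27734 : Led Lsl_bt (LP (LK LD1_c0 LD2_c26 LD3_c51)) = (LP (LK LD1_c0 LD2_c11 LD3_c54)) :=
  Lre_b IH (LK LD1_c0 LD2_c26 LD3_c51) (LK LD1_c0 LD2_c11 LD3_c54) Lrfl Lrfl
theorem f27735 : Led Lsl_df (LP (LK LD1_c0 LD2_c13 LD3_c57)) = (LP (LK LD1_c0 LD2_c11 LD3_c54)) :=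
  Lgr Lrot12 (Lpr_bt (f27540 IH) (Lpr_dt (f27726 IH) (Lpr_bt (f27734 IH) (Lpn (LP (LK LD1_c0 LD2_c11 LD3_c54))))))
theorem f1666 : Led Lsl_bt (LP (LK LD1_c0 LD2_c6 LD3_c31)) = (LP (LK LD1_c0 LD2_c2 LD3_c60)) :=
  Lre_b IH (LK LD1_c0 LD2_c6 LD3_c31) (LK LD1_c0 LD2_c2 LD3_c60) Lrfl Lrfl
theorem f1667 : Led Lsl_df (LP (LK LD1_c0 LD2_c6 LD3_c31)) = (LP (LK LD1_c0 LD2_c6 LD3_c22)) :=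
  Lgr Lrot12 (Lpr_bt (f1666 IH) (Lpr_dt (f1664 IH) (Lpr_bt (f1616 IH) (Lpn (LP (LK LD1_c0 LD2_c6 LD3_c22))))))
theorem f1694 : Led Lsl_bt (LP (LK LD1_c0 LD2_c2 LD3_c59)) = (LP (LK LD1_c0 LD2_c1 LD3_c15)) :=
  Lre_b IH (LK LD1_c0 LD2_c2 LD3_c59) (LK LD1_c0 LD2_c1 LD3_c15) Lrfl Lrfl
theorem f2899 : Led Lsl_gt (LP (LK LD1_c0 LD2_c1 LD3_c14)) = (LP (LK LD1_c0 LD2_c2 LD3_c58)) :=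
  Lre_g IH (LK LD1_c0 LD2_c1 LD3_c14) (LK LD1_c0 LD2_c2 LD3_c58) Lrfl Lrfl
theorem f2900 : Led Lsl_dt (LP (LK LD1_c0 LD2_c2 LD3_c58)) = (LP (LK LD1_c0 LD2_c6 LD3_c27)) :=
  Lre_d IH (LK LD1_c0 LD2_c2 LD3_c58) (LK LD1_c0 LD2_c6 LD3_c27) Lrfl Lrfl
theorem f6880 : Led Lsl_cf (LP (LK LD1_c0 LD2_c2 LD3_c59)) = (LP (LK LD1_c0 LD2_c6 LD3_c27)) :=
  Lgr Lrot89 (Lpr_bt (f1694 IH) (Lpr_gt (f6872 IH) (Lpr_dt (f303 IH) (Lpr_ct (f208 IH) (Lpr_bt (f99 IH) (Lpr_gt (f92 IH) (Lpr_dt (f3949 IH) (Lpqs (f318 IH) (Lpr_ct (f311 IH) (Lpe (f313 IH) (Lpqs (f318 IH) (Lpe (f310 IH) (Lpr_dt (f13 IH) (Lpr_ct (f17 IH) (Lpr_bt (f306 IH) (Lpr_gt (f312 IH) (Lpe (f1646 IH) (Lpr_ct (f1645 IH) (Lpr_bt (f1657 IH) (Lpr_gt (f2899 IH) (Lpr_dt (f2900 IH) (Lpn (LP (LK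 LD1_c0 LD2_c6 LD3_c27))))))))))))))))))))))))
theorem f2205 : Led Lsl_bt (LP (LK LD1_c0 LD2_c2 LD3_c60)) = (LP (LK LD1_c0 LD2_c6 LD3_c31)) :=
  Lre_b IH (LK LD1_c0 LD2_c2 LD3_c60) (LK LD1_c0 LD2_c6 LD3_c31) Lrfl Lrfl
theorem f1690 : Led Lsl_bf (LP (LK LD1_c0 LD2_c0 LD3_c27)) = (LP (LK LD1_c0 LD2_c0 LD3_c27)) :=
  Lgr Lrot90 (Lpe (f234 IH) (Lpr_bt (f72 IH) (Lpq (f1688 IH) (Lpe (f1625 IH) (Lpr_bt (f71 IH) (Lpr_ct (f232 IH) (Lpn (LP (LK LD1_c0 LD2_c0 LD3_c27)))))))))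
theorem f2926 : Led Lsl_af (LP (LK LD1_c0 LD2_c1 LD3_c14)) = (LP (LK LD1_c0 LD2_c1 LD3_c14)) :=
  Lgr Lrot36 (Lpr_bt (f1656 IH) (Lpe (f1662 IH) (Lpe (f1690 IH) (Lpr_at (f2923 IH) (Lpr_bt (f1657 IH) (Lpn (LP (LK LD1_c0 LD2_c1 LD3_c14))))))))
theorem f1658 : Led Lsl_ff (LP (LK LD1_c0 LD2_c1 LD3_c14)) = (LP (LK LD1_c0 LD2_c1 LD3_c14)) :=
  Lgr Lrot25 (Lpr_bt (f1656 IH) (Lpr_ft (f1652 IH) (Lpr_bt (f1657 IH) (Lpn (LP (LK LD1_c0 LD2_c1 LD3_c14))))))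
theorem f2928 : Led Lsl_gf (LP (LK LD1_c0 LD2_c1 LD3_c14)) = (LP (LK LD1_c0 LD2_c2 LD3_c58)) :=
  Lgr Lrot76 (Lpr_af (f2926 IH) (Lpr_ff (f1658 IH) (Lpr_gt (f2899 IH) (Lpn (LP (LK LD1_c0 LD2_c2 LD3_c58))))))
theorem f2898 : Led Lsl_ct (LP (LK LD1_c0 LD2_c1 LD3_c14)) = (LP (LK LD1_c0 LD2_c1 LD3_c14)) :=
  Lre_c IH (LK LD1_c0 LD2_c1 LD3_c14) (LK LD1_c0 LD2_c1 LD3_c14) Lrfl Lrfl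
theorem f79 : Led Lsl_ct (LP (LK LD1_c0 LD2_c0 LD3_c29)) = (LP (LK LD1_c0 LD2_c0 LD3_c13)) :=
  Lre_c IH (LK LD1_c0 LD2_c0 LD3_c29) (LK LD1_c0 LD2_c0 LD3_c13) Lrfl Lrfl
theorem f2930 : Led Lsl_ct (LP (LK LD1_c0 LD2_c2 LD3_c58)) = (LP (LK LD1_c0 LD2_c2 LD3_c58)) :=
  Lgr Lrot91 (Lpe (f2899 IH) (Lpe (f1657 IH) (Lpr_ct (f1640 IH) (Lpe (f312 IH) (Lpe (f79 IH) (Lpr_bt (f296 IH) (Lpe (f1473 IH) (Lpe (f1656 IH) (Lpr_ct (f2898 IH) (Lpr_gf (f2928 IH) (Lpn (LP (LK LD1_c0 LD2_c2 LD3_c58)))))))))))))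
theorem f32 : Led Lsl_ct (LP (LK LD1_c0 LD2_c0 LD3_c9)) = (LP (LK LD1_c0 LD2_c0 LD3_c2)) :=
  Lre_c IH (LK LD1_c0 LD2_c0 LD3_c9) (LK LD1_c0 LD2_c0 LD3_c2) Lrfl Lrfl
theorem f448 : Led Lsl_bt (LP (LK LD1_c0 LD2_c0 LD3_c22)) = (LP (LK LD1_c0 LD2_c1 LD3_c0)) :=
  Lre_b IH (LK LD1_c0 LD2_c0 LD3_c22) (LK LD1_c0 LD2_c1 LD3_c0) Lrfl Lrfl
theorem f1420 : Led Lsl_gt (LP (LK LD1_c0 LD2_c1 LD3_c0)) = (LP (LK LD1_c0 LD2_c2 LD3_c22)) :=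
  Lre_g IH (LK LD1_c0 LD2_c1 LD3_c0) (LK LD1_c0 LD2_c2 LD3_c22) Lrfl Lrfl
theorem f2936 : Led Lsl_bt (LP (LK LD1_c0 LD2_c2 LD3_c58)) = (LP (LK LD1_c0 LD2_c2 LD3_c22)) :=
  Lgr Lrot92 (Lpr_ct (f2930 IH) (Lpe (f2928 IH) (Lpe (f2898 IH) (Lpr_bt (f1656 IH) (Lpr_gt (f1473 IH) (Lpr_ct (f32 IH) (Lpr_gt (f25 IH) (Lpe (f447 IH) (Lpr_bt (f448 IH) (Lpr_gt (f1420 IH) (Lpn (LP (LK LD1_c0 LD2_c2 LD3_c22)))))))))))))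
theorem f2903 : Led Lsl_dt (LP (LK LD1_c0 LD2_c6 LD3_c27)) = (LP (LK LD1_c0 LD2_c2 LD3_c58)) :=
  Lre_d IH (LK LD1_c0 LD2_c6 LD3_c27) (LK LD1_c0 LD2_c2 LD3_c58) Lrfl Lrfl
theorem f1421 : Led Lsl_dt (LP (LK LD1_c0 LD2_c2 LD3_c22)) = (LP (LK LD1_c0 LD2_c5 LD3_c10)) :=
  Lre_d IH (LK LD1_c0 LD2_c2 LD3_c22) (LK LD1_c0 LD2_c5 LD3_c10) Lrfl Lrfl
theorem f2940 : Led Lsl_bf (LP (LK LD1_c0 LD2_c6 LD3_c27)) = (LP (LK LD1_c0 LD2_c5 LD3_c10)) :=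
  Lgr Lrot93 (Lpr_dt (f2903 IH) (Lpr_bt (f2936 IH) (Lpr_dt (f1421 IH) (Lpn (LP (LK LD1_c0 LD2_c5 LD3_c10))))))
theorem f6886 : Led Lsl_ct (LP (LK LD1_c0 LD2_c6 LD3_c31)) = (LP (LK LD1_c0 LD2_c5 LD3_c10)) :=
  Lgr Lrot83 (Lpe (f2205 IH) (Lpe (f1655 IH) (Lpe (f1694 IH) (Lpr_cf (f6880 IH) (Lpr_bf (f2940 IH) (Lpn (LP (LK LD1_c0 LD2_c5 LD3_c10))))))))
theorem f6952 : Led Lsl_dt (LP (LK LD1_c0 LD2_c2 LD3_c25)) = (LP (LK LD1_c0 LD2_c1 LD3_c0)) :=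
  Lre_d IH (LK LD1_c0 LD2_c2 LD3_c25) (LK LD1_c0 LD2_c1 LD3_c0) Lrfl Lrfl
theorem f6953 : Led Lsl_gt (LP (LK LD1_c0 LD2_c5 LD3_c16)) = (LP (LK LD1_c0 LD2_c2 LD3_c25)) :=
  Lre_g IH (LK LD1_c0 LD2_c5 LD3_c16) (LK LD1_c0 LD2_c2 LD3_c25) Lrfl Lrfl
theorem f6958 : Led Lsl_ct (LP (LK LD1_c0 LD2_c5 LD3_c16)) = (LP (LK LD1_c0 LD2_c11 LD3_c16)) :=
  Lre_c IH (LK LD1_c0 LD2_c5 LD3_c16) (LK LD1_c0 LD2_c11 LD3_c16) Lrfl Lrfl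
theorem f27768 : Led Lsl_gt (LP (LK LD1_c0 LD2_c11 LD3_c16)) = (LP (LK LD1_c0 LD2_c11 LD3_c54)) :=
  Lgr Lrot94 (Lpe (f6958 IH) (Lpr_gt (f6953 IH) (Lpr_dt (f6952 IH) (Lpr_gt (f1420 IH) (Lpr_dt (f1421 IH) (Lpe (f6886 IH) (Lpr_df (f1667 IH) (Lpe (f1607 IH) (Lpr_df (f27735 IH) (Lpn (LP (LK LD1_c0 LD2_c11 LD3_c54))))))))))))
theorem f27747 : Led Lsl_at (LP (LK LD1_c0 LD2_c5 LD3_c31)) = (LP (LK LD1_c0 LD2_c11 LD3_c54)) :=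
  Lre_a IH (LK LD1_c0 LD2_c5 LD3_c31) (LK LD1_c0 LD2_c11 LD3_c54) Lrfl Lrfl
theorem f27382 : Led Lsl_bt (LP (LK LD1_c0 LD2_c5 LD3_c31)) = (LP (LK LD1_c0 LD2_c11 LD3_c57)) :=
  Lre_b IH (LK LD1_c0 LD2_c5 LD3_c31) (LK LD1_c0 LD2_c11 LD3_c57) Lrfl Lrfl
theorem f1432 : Led Lsl_bt (LP (LK LD1_c0 LD2_c11 LD3_c57)) = (LP (LK LD1_c0 LD2_c5 LD3_c31)) :=
  Lre_b IH (LK LD1_c0 LD2_c11 LD3_c57) (LK LD1_c0 LD2_c5 LD3_c31) Lrfl Lrfl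
theorem f27383 : Led Lsl_ff (LP (LK LD1_c0 LD2_c5 LD3_c31)) = (LP (LK LD1_c0 LD2_c5 LD3_c31)) :=
  Lgr Lrot25 (Lpr_bt (f27382 IH) (Lpr_ft (f27374 IH) (Lpr_bt (f1432 IH) (Lpn (LP (LK LD1_c0 LD2_c5 LD3_c31))))))
theorem f27773 : Led Lsl_gf (LP (LK LD1_c0 LD2_c11 LD3_c16)) = (LP (LK LD1_c0 LD2_c5 LD3_c31)) :=
  Lgr Lrot47 (Lpr_gt (f27768 IH) (Lpe (f27747 IH) (Lpr_ff (f27383 IH) (Lpn (LP (LK LD1_c0 LD2_c5 LD3_c31))))))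
theorem f6954 : Led Lsl_ct (LP (LK LD1_c0 LD2_c11 LD3_c16)) = (LP (LK LD1_c0 LD2_c5 LD3_c16)) :=
  Lre_c IH (LK LD1_c0 LD2_c11 LD3_c16) (LK LD1_c0 LD2_c5 LD3_c16) Lrfl Lrfl
theorem f27775 : Led Lsl_ct (LP (LK LD1_c0 LD2_c2 LD3_c25)) = (LP (LK LD1_c0 LD2_c5 LD3_c17)) :=
  Lre_c IH (LK LD1_c0 LD2_c2 LD3_c25) (LK LD1_c0 LD2_c5 LD3_c17) Lrfl Lrfl
theorem f27776 : Led Lsl_dt (LP (LK LD1_c0 LD2_c5 LD3_c17)) = (LP (LK LD1_c0 LD2_c11 LD3_c21)) :=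
  Lre_d IH (LK LD1_c0 LD2_c5 LD3_c17) (LK LD1_c0 LD2_c11 LD3_c21) Lrfl Lrfl
theorem f1692 : Led Lsl_bt (LP (LK LD1_c0 LD2_c1 LD3_c13)) = (LP (LK LD1_c0 LD2_c1 LD3_c13)) :=
  Lgr Lrot95 (Lpe (f238 IH) (Lpr_bf (f1690 IH) (Lpe (f236 IH) (Lpn (LP (LK LD1_c0 LD2_c1 LD3_c13))))))
theorem f1697 : Led Lsl_bf (LP (LK LD1_c0 LD2_c2 LD3_c57)) = (LP (LK LD1_c0 LD2_c2 LD3_c57)) :=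
  Lgr Lrot96 (Lpr_et (f243 IH) (Lpr_bt (f1692 IH) (Lpr_et (f242 IH) (Lpn (LP (LK LD1_c0 LD2_c2 LD3_c57))))))
theorem f1702 : Led Lsl_bt (LP (LK LD1_c0 LD2_c6 LD3_c26)) = (LP (LK LD1_c0 LD2_c6 LD3_c26)) :=
  Lgr Lrot35 (Lpe (f258 IH) (Lpr_bf (f1697 IH) (Lpe (f257 IH) (Lpn (LP (LK LD1_c0 LD2_c6 LD3_c26))))))
theorem f1519 : Led Lsl_bt (LP (LK LD1_c0 LD2_c31 LD3_c30)) = (LP (LK LD1_c0 LD2_c13 LD3_c61)) :=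
  Lre_b IH (LK LD1_c0 LD2_c31 LD3_c30) (LK LD1_c0 LD2_c13 LD3_c61) Lrfl Lrfl
theorem f285 : Led Lsl_bt (LP (LK LD1_c0 LD2_c13 LD3_c61)) = (LP (LK LD1_c0 LD2_c31 LD3_c30)) :=
  Lre_b IH (LK LD1_c0 LD2_c13 LD3_c61) (LK LD1_c0 LD2_c31 LD3_c30) Lrfl Lrfl
theorem f1711 : Led Lsl_cf (LP (LK LD1_c0 LD2_c31 LD3_c30)) = (LP (LK LD1_c0 LD2_c31 LD3_c30)) :=
  Lgr Lrot97 (Lpr_bt (f1519 IH) (Lpr_ct (f281 IH) (Lpr_bt (f1702 IH) (Lpr_ct (f278 IH) (Lpr_bt (f285 IH) (Lpn (LP (LK LD1_c0 LD2_c31 LD3_c30))))))))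
theorem f1553 : Led Lsl_dt (LP (LK LD1_c0 LD2_c31 LD3_c30)) = (LP (LK LD1_c1 LD2_c8 LD3_c58)) :=
  Lre_d IH (LK LD1_c0 LD2_c31 LD3_c30) (LK LD1_c1 LD2_c8 LD3_c58) Lrfl Lrfl
theorem f1715 : Led Lsl_ct (LP (LK LD1_c1 LD2_c8 LD3_c58)) = (LP (LK LD1_c2 LD2_c23 LD3_c47)) :=
  Lre_c IH (LK LD1_c1 LD2_c8 LD3_c58) (LK LD1_c2 LD2_c23 LD3_c47) Lrfl Lrfl
theorem f1716 : Led Lsl_dt (LP (LK LD1_c2 LD2_c23 LD3_c47)) = (LP (LK LD1_c4 LD2_c52 LD3_c2)) :=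
  Lre_d IH (LK LD1_c2 LD2_c23 LD3_c47) (LK LD1_c4 LD2_c52 LD3_c2) Lrfl Lrfl
theorem f1552 : Led Lsl_dt (LP (LK LD1_c1 LD2_c8 LD3_c58)) = (LP (LK LD1_c0 LD2_c31 LD3_c30)) :=
  Lre_d IH (LK LD1_c1 LD2_c8 LD3_c58) (LK LD1_c0 LD2_c31 LD3_c30) Lrfl Lrfl
theorem f1717 : Led Lsl_ct (LP (LK LD1_c2 LD2_c23 LD3_c47)) = (LP (LK LD1_c1 LD2_c8 LD3_c58)) :=
  Lre_c IH (LK LD1_c2 LD2_c23 LD3_c47) (LK LD1_c1 LD2_c8 LD3_c58) Lrfl Lrfl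
theorem f1718 : Led Lsl_dt (LP (LK LD1_c4 LD2_c52 LD3_c2)) = (LP (LK LD1_c2 LD2_c23 LD3_c47)) :=
  Lre_d IH (LK LD1_c4 LD2_c52 LD3_c2) (LK LD1_c2 LD2_c23 LD3_c47) Lrfl Lrfl
theorem f1725 : Led Lsl_ft (LP (LK LD1_c4 LD2_c52 LD3_c2)) = (LP (LK LD1_c2 LD2_c23 LD3_c46)) :=
  Lre_f IH (LK LD1_c4 LD2_c52 LD3_c2) (LK LD1_c2 LD2_c23 LD3_c46) Lrfl Lrfl
theorem f1726 : Led Lsl_at (LP (LK LD1_c2 LD2_c23 LD3_c46)) = (LP (LK LD1_c4 LD2_c50 LD3_c59)) :=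
  Lre_a IH (LK LD1_c2 LD2_c23 LD3_c46) (LK LD1_c4 LD2_c50 LD3_c59) Lrfl Lrfl
theorem f1727 : Led Lsl_ct (LP (LK LD1_c4 LD2_c52 LD3_c2)) = (LP (LK LD1_c4 LD2_c50 LD3_c59)) :=
  Lgr Lrot98 (Lpe (f1716 IH) (Lpe (f1715 IH) (Lpe (f1553 IH) (Lpr_cf (f1711 IH) (Lpe (f1552 IH) (Lpe (f1717 IH) (Lpe (f1718 IH) (Lpr_ft (f1725 IH) (Lpr_at (f1726 IH) (Lpn (LP (LK LD1_c4 LD2_c50 LD3_c59))))))))))))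
theorem f1589 : Led Lsl_at (LP (LK LD1_c1 LD2_c8 LD3_c46)) = (LP (LK LD1_c0 LD2_c31 LD3_c30)) :=
  Lre_a IH (LK LD1_c1 LD2_c8 LD3_c46) (LK LD1_c0 LD2_c31 LD3_c30) Lrfl Lrfl
theorem f1611 : Led Lsl_dt (LP (LK LD1_c0 LD2_c31 LD3_c26)) = (LP (LK LD1_c1 LD2_c8 LD3_c45)) :=
  Lre_d IH (LK LD1_c0 LD2_c31 LD3_c26) (LK LD1_c1 LD2_c8 LD3_c45) Lrfl Lrfl
theorem f1719 : Led Lsl_ct (LP (LK LD1_c1 LD2_c8 LD3_c45)) = (LP (LK LD1_c2 LD2_c23 LD3_c18)) :=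
  Lre_c IH (LK LD1_c1 LD2_c8 LD3_c45) (LK LD1_c2 LD2_c23 LD3_c18) Lrfl Lrfl
theorem f1720 : Led Lsl_dt (LP (LK LD1_c2 LD2_c23 LD3_c18)) = (LP (LK LD1_c4 LD2_c50 LD3_c59)) :=
  Lre_d IH (LK LD1_c2 LD2_c23 LD3_c18) (LK LD1_c4 LD2_c50 LD3_c59) Lrfl Lrfl
theorem f1721 : Led Lsl_ct (LP (LK LD1_c4 LD2_c50 LD3_c59)) = (LP (LK LD1_c4 LD2_c52 LD3_c2)) :=
  Lgr Lrot41 (Lpe (f1720 IH) (Lpe (f1719 IH) (Lpe (f1611 IH) (Lpr_ft (f1593 IH) (Lpr_at (f1589 IH) (Lpr_cf (f1711 IH) (Lpe (f1552 IH) (Lpe (f1717 IH) (Lpe (f1718 IH) (Lpn (LP (LK LD1_c4 LD2_c52 LD3_c2))))))))))))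
theorem f1729 : Led Lsl_dt (LP (LK LD1_c4 LD2_c50 LD3_c59)) = (LP (LK LD1_c2 LD2_c23 LD3_c18)) :=
  Lre_d IH (LK LD1_c4 LD2_c50 LD3_c59) (LK LD1_c2 LD2_c23 LD3_c18) Lrfl Lrfl
theorem f1730 : Led Lsl_ct (LP (LK LD1_c2 LD2_c23 LD3_c18)) = (LP (LK LD1_c1 LD2_c8 LD3_c45)) :=
  Lre_c IH (LK LD1_c2 LD2_c23 LD3_c18) (LK LD1_c1 LD2_c8 LD3_c45) Lrfl Lrfl
theorem f1747 : Led Lsl_dt (LP (LK LD1_c1 LD2_c8 LD3_c45)) = (LP (LK LD1_c0 LD2_c31 LD3_c26)) :=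
  Lre_d IH (LK LD1_c1 LD2_c8 LD3_c45) (LK LD1_c0 LD2_c31 LD3_c26) Lrfl Lrfl
theorem f1748 : Led Lsl_cf (LP (LK LD1_c0 LD2_c31 LD3_c26)) = (LP (LK LD1_c0 LD2_c31 LD3_c26)) :=
  Lgr Lrot55 (Lpr_dt (f1611 IH) (Lpr_ct (f1719 IH) (Lpr_dt (f1720 IH) (Lpr_ct (f1721 IH) (Lpr_dt (f1718 IH) (Lpr_ct (f1717 IH) (Lpr_dt (f1552 IH) (Lpe (f1711 IH) (Lpr_dt (f1553 IH) (Lpr_ct (f1715 IH) (Lpr_dt (f1716 IH) (Lpr_ct (f1727 IH) (Lpr_dt (f1729 IH) (Lpr_ct (f1730 IH) (Lpr_dt (f1747 IH) (Lpn (LP (LK LD1_c0 LD2_c31 LD3_c26))))))))))))))))))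
theorem f2068 : Led Lsl_ct (LP (LK LD1_c0 LD2_c13 LD3_c58)) = (LP (LK LD1_c0 LD2_c13 LD3_c58)) :=
  Lgr Lrot15 (Lpe (f1592 IH) (Lpr_cf (f1748 IH) (Lpe (f1594 IH) (Lpn (LP (LK LD1_c0 LD2_c13 LD3_c58))))))
theorem f27777 : Led Lsl_cf (LP (LK LD1_c0 LD2_c11 LD3_c21)) = (LP (LK LD1_c0 LD2_c13 LD3_c57)) :=
  Lgr Lrot99 (Lpe (f27776 IH) (Lpe (f27775 IH) (Lpe (f6953 IH) (Lpe (f6954 IH) (Lpr_gf (f27773 IH) (Lpe (f8068 IH) (Lpr_gt (f8090 IH) (Lpr_ct (f2068 IH) (Lpr_gt (f1608 IH) (Lpn (LP (LK LD1_c0 LD2_c13 LD3_c57))))))))))))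
theorem f9633 : Led Lsl_dt (LP (LK LD1_c0 LD2_c11 LD3_c21)) = (LP (LK LD1_c0 LD2_c5 LD3_c17)) :=
  Lre_d IH (LK LD1_c0 LD2_c11 LD3_c21) (LK LD1_c0 LD2_c5 LD3_c17) Lrfl Lrfl
theorem f9632 : Led Lsl_ct (LP (LK LD1_c0 LD2_c5 LD3_c17)) = (LP (LK LD1_c0 LD2_c2 LD3_c25)) :=
  Lre_c IH (LK LD1_c0 LD2_c5 LD3_c17) (LK LD1_c0 LD2_c2 LD3_c25) Lrfl Lrfl
theorem f27748 : Led Lsl_ct (LP (LK LD1_c0 LD2_c5 LD3_c29)) = (LP (LK LD1_c0 LD2_c11 LD3_c54)) :=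
  Lre_c IH (LK LD1_c0 LD2_c5 LD3_c29) (LK LD1_c0 LD2_c11 LD3_c54) Lrfl Lrfl
theorem f27753 : Led Lsl_dt (LP (LK LD1_c0 LD2_c2 LD3_c30)) = (LP (LK LD1_c0 LD2_c5 LD3_c29)) :=
  Lre_d IH (LK LD1_c0 LD2_c2 LD3_c30) (LK LD1_c0 LD2_c5 LD3_c29) Lrfl Lrfl
theorem f27538 : Led Lsl_at (LP (LK LD1_c0 LD2_c13 LD3_c57)) = (LP (LK LD1_c0 LD2_c11 LD3_c58)) :=
  Lgr Lrot100 (Lpr_af (f27535 IH) (Lpn (LP (LK LD1_c0 LD2_c11 LD3_c58))))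
theorem f27547 : Led Lsl_ft (LP (LK LD1_c0 LD2_c13 LD3_c57)) = (LP (LK LD1_c0 LD2_c13 LD3_c57)) :=
  Lgr Lrot101 (Lpr_af (f27535 IH) (Lpe (f27401 IH) (Lpe (f27538 IH) (Lpn (LP (LK LD1_c0 LD2_c13 LD3_c57))))))
theorem f1610 : Led Lsl_bt (LP (LK LD1_c0 LD2_c31 LD3_c24)) = (LP (LK LD1_c0 LD2_c13 LD3_c57)) :=
  Lre_b IH (LK LD1_c0 LD2_c31 LD3_c24) (LK LD1_c0 LD2_c13 LD3_c57) Lrfl Lrfl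
theorem f27549 : Led Lsl_ff (LP (LK LD1_c0 LD2_c31 LD3_c24)) = (LP (LK LD1_c0 LD2_c31 LD3_c24)) :=
  Lgr Lrot25 (Lpr_bt (f1610 IH) (Lpr_ft (f27547 IH) (Lpr_bt (f27540 IH) (Lpn (LP (LK LD1_c0 LD2_c31 LD3_c24))))))
theorem f27701 : Led Lsl_dt (LP (LK LD1_c1 LD2_c8 LD3_c39)) = (LP (LK LD1_c2 LD2_c23 LD3_c4)) :=
  Lre_d IH (LK LD1_c1 LD2_c8 LD3_c39) (LK LD1_c2 LD2_c23 LD3_c4) Lrfl Lrfl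
theorem f27577 : Led Lsl_et (LP (LK LD1_c0 LD2_c31 LD3_c24)) = (LP (LK LD1_c1 LD2_c8 LD3_c39)) :=
  Lre_e IH (LK LD1_c0 LD2_c31 LD3_c24) (LK LD1_c1 LD2_c8 LD3_c39) Lrfl Lrfl
theorem f27702 : Led Lsl_dt (LP (LK LD1_c2 LD2_c4 LD3_c1)) = (LP (LK LD1_c0 LD2_c59 LD3_c0)) :=
  Lre_d IH (LK LD1_c2 LD2_c4 LD3_c1) (LK LD1_c0 LD2_c59 LD3_c0) Lrfl Lrfl
theorem f27703 : Led Lsl_et (LP (LK LD1_c0 LD2_c59 LD3_c0)) = (LP (LK LD1_c0 LD2_c26 LD3_c51)) :=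
  Lre_e IH (LK LD1_c0 LD2_c59 LD3_c0) (LK LD1_c0 LD2_c26 LD3_c51) Lrfl Lrfl
theorem f27704 : Led Lsl_df (LP (LK LD1_c0 LD2_c31 LD3_c24)) = (LP (LK LD1_c0 LD2_c26 LD3_c51)) :=
  Lgr Lrot70 (Lpr_et (f27577 IH) (Lpr_dt (f27701 IH) (Lpr_et (f27690 IH) (Lpr_dt (f27702 IH) (Lpr_et (f27703 IH) (Lpn (LP (LK LD1_c0 LD2_c26 LD3_c51))))))))
theorem f27737 : Led Lsl_ff (LP (LK LD1_c0 LD2_c26 LD3_c51)) = (LP (LK LD1_c0 LD2_c26 LD3_c51)) :=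
  Lgr Lrot19 (Lpe (f27704 IH) (Lpe (f27549 IH) (Lpr_dt (f27726 IH) (Lpn (LP (LK LD1_c0 LD2_c26 LD3_c51))))))
theorem f27744 : Led Lsl_bt (LP (LK LD1_c0 LD2_c11 LD3_c54)) = (LP (LK LD1_c0 LD2_c26 LD3_c51)) :=
  Lre_b IH (LK LD1_c0 LD2_c11 LD3_c54) (LK LD1_c0 LD2_c26 LD3_c51) Lrfl Lrfl
theorem f27745 : Led Lsl_ft (LP (LK LD1_c0 LD2_c11 LD3_c54)) = (LP (LK LD1_c0 LD2_c11 LD3_c54)) :=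
  Lgr Lrot75 (Lpe (f27734 IH) (Lpr_ff (f27737 IH) (Lpe (f27744 IH) (Lpn (LP (LK LD1_c0 LD2_c11 LD3_c54))))))
theorem f27555 : Led Lsl_ct (LP (LK LD1_c0 LD2_c11 LD3_c54)) = (LP (LK LD1_c0 LD2_c5 LD3_c29)) :=
  Lre_c IH (LK LD1_c0 LD2_c11 LD3_c54) (LK LD1_c0 LD2_c5 LD3_c29) Lrfl Lrfl
theorem f27749 : Led Lsl_ff (LP (LK LD1_c0 LD2_c5 LD3_c29)) = (LP (LK LD1_c0 LD2_c5 LD3_c29)) :=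
  Lgr Lrot23 (Lpr_ct (f27748 IH) (Lpr_ft (f27745 IH) (Lpr_ct (f27555 IH) (Lpn (LP (LK LD1_c0 LD2_c5 LD3_c29))))))
theorem f27556 : Led Lsl_dt (LP (LK LD1_c0 LD2_c5 LD3_c29)) = (LP (LK LD1_c0 LD2_c2 LD3_c30)) :=
  Lre_d IH (LK LD1_c0 LD2_c5 LD3_c29) (LK LD1_c0 LD2_c2 LD3_c30) Lrfl Lrfl
theorem f27754 : Led Lsl_ft (LP (LK LD1_c0 LD2_c2 LD3_c30)) = (LP (LK LD1_c0 LD2_c2 LD3_c30)) :=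
  Lgr Lrot54 (Lpe (f27556 IH) (Lpr_ff (f27749 IH) (Lpe (f27753 IH) (Lpn (LP (LK LD1_c0 LD2_c2 LD3_c30))))))
theorem f6834 : Led Lsl_at (LP (LK LD1_c0 LD2_c2 LD3_c30)) = (LP (LK LD1_c0 LD2_c1 LD3_c2)) :=
  Lre_a IH (LK LD1_c0 LD2_c2 LD3_c30) (LK LD1_c0 LD2_c1 LD3_c2) Lrfl Lrfl
theorem f27796 : Led Lsl_ct (LP (LK LD1_c0 LD2_c1 LD3_c0)) = (LP (LK LD1_c0 LD2_c1 LD3_c2)) :=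
  Lgr Lrot98 (Lpe (f6952 IH) (Lpe (f9632 IH) (Lpe (f9633 IH) (Lpr_cf (f27777 IH) (Lpr_df (f27735 IH) (Lpe (f27748 IH) (Lpe (f27753 IH) (Lpr_ft (f27754 IH) (Lpr_at (f6834 IH) (Lpn (LP (LK LD1_c0 LD2_c1 LD3_c2))))))))))))
theorem f27787 : Led Lsl_ct (LP (LK LD1_c0 LD2_c11 LD3_c21)) = (LP (LK LD1_c0 LD2_c13 LD3_c57)) :=
  Lgr Lrot59 (Lpr_cf (f27777 IH) (Lpn (LP (LK LD1_c0 LD2_c13 LD3_c57))))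
theorem f27792 : Led Lsl_ft (LP (LK LD1_c0 LD2_c11 LD3_c21)) = (LP (LK LD1_c0 LD2_c11 LD3_c21)) :=
  Lgr Lrot4 (Lpr_cf (f27777 IH) (Lpe (f27547 IH) (Lpe (f27787 IH) (Lpn (LP (LK LD1_c0 LD2_c11 LD3_c21))))))
theorem f27784 : Led Lsl_at (LP (LK LD1_c0 LD2_c11 LD3_c21)) = (LP (LK LD1_c0 LD2_c25 LD3_c10)) :=
  Lre_a IH (LK LD1_c0 LD2_c11 LD3_c21) (LK LD1_c0 LD2_c25 LD3_c10) Lrfl Lrfl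
theorem f8092 : Led Lsl_dt (LP (LK LD1_c0 LD2_c1 LD3_c2)) = (LP (LK LD1_c0 LD2_c2 LD3_c31)) :=
  Lre_d IH (LK LD1_c0 LD2_c1 LD3_c2) (LK LD1_c0 LD2_c2 LD3_c31) Lrfl Lrfl
theorem f8071 : Led Lsl_ct (LP (LK LD1_c0 LD2_c2 LD3_c31)) = (LP (LK LD1_c0 LD2_c5 LD3_c31)) :=
  Lre_c IH (LK LD1_c0 LD2_c2 LD3_c31) (LK LD1_c0 LD2_c5 LD3_c31) Lrfl Lrfl
theorem f8094 : Led Lsl_dt (LP (LK LD1_c0 LD2_c5 LD3_c31)) = (LP (LK LD1_c0 LD2_c11 LD3_c58)) :=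
  Lre_d IH (LK LD1_c0 LD2_c5 LD3_c31) (LK LD1_c0 LD2_c11 LD3_c58) Lrfl Lrfl
theorem f27806 : Led Lsl_cf (LP (LK LD1_c0 LD2_c25 LD3_c10)) = (LP (LK LD1_c0 LD2_c11 LD3_c58)) :=
  Lgr Lrot102 (Lpe (f27784 IH) (Lpe (f27792 IH) (Lpr_dt (f9633 IH) (Lpr_ct (f9632 IH) (Lpr_dt (f6952 IH) (Lpr_ct (f27796 IH) (Lpr_dt (f8092 IH) (Lpr_ct (f8071 IH) (Lpr_dt (f8094 IH) (Lpn (LP (LK LD1_c0 LD2_c11 LD3_c58))))))))))))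
theorem f27762 : Led Lsl_dt (LP (LK LD1_c0 LD2_c25 LD3_c10)) = (LP (LK LD1_c0 LD2_c11 LD3_c13)) :=
  Lre_d IH (LK LD1_c0 LD2_c25 LD3_c10) (LK LD1_c0 LD2_c11 LD3_c13) Lrfl Lrfl
theorem f27761 : Led Lsl_ct (LP (LK LD1_c0 LD2_c11 LD3_c13)) = (LP (LK LD1_c0 LD2_c5 LD3_c14)) :=
  Lre_c IH (LK LD1_c0 LD2_c11 LD3_c13) (LK LD1_c0 LD2_c5 LD3_c14) Lrfl Lrfl
theorem f8051 : Led Lsl_at (LP (LK LD1_c0 LD2_c2 LD3_c25)) = (LP (LK LD1_c0 LD2_c5 LD3_c14)) :=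
  Lre_a IH (LK LD1_c0 LD2_c2 LD3_c25) (LK LD1_c0 LD2_c5 LD3_c14) Lrfl Lrfl
theorem f27922 : Led Lsl_ff (LP (LK LD1_c0 LD2_c2 LD3_c25)) = (LP (LK LD1_c0 LD2_c2 LD3_c25)) :=
  Lgr Lrot103 (Lpr_at (f8051 IH) (Lpe (f27761 IH) (Lpe (f27762 IH) (Lpr_cf (f27806 IH) (Lpe (f8094 IH) (Lpe (f8071 IH) (Lpe (f8092 IH) (Lpe (f27796 IH) (Lpe (f6952 IH) (Lpn (LP (LK LD1_c0 LD2_c2 LD3_c25))))))))))))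
theorem f27927 : Led Lsl_ft (LP (LK LD1_c0 LD2_c5 LD3_c17)) = (LP (LK LD1_c0 LD2_c5 LD3_c17)) :=
  Lgr Lrot4 (Lpe (f27775 IH) (Lpr_ff (f27922 IH) (Lpe (f9632 IH) (Lpn (LP (LK LD1_c0 LD2_c5 LD3_c17))))))
theorem f748 : Led Lsl_gt (LP (LK LD1_c0 LD2_c5 LD3_c17)) = (LP (LK LD1_c0 LD2_c11 LD3_c18)) :=
  Lre_g IH (LK LD1_c0 LD2_c5 LD3_c17) (LK LD1_c0 LD2_c11 LD3_c18) Lrfl Lrfl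
theorem f28145 : Led Lsl_at (LP (LK LD1_c0 LD2_c5 LD3_c17)) = (LP (LK LD1_c0 LD2_c11 LD3_c13)) :=
  Lre_a IH (LK LD1_c0 LD2_c5 LD3_c17) (LK LD1_c0 LD2_c11 LD3_c13) Lrfl Lrfl
theorem f28167 : Led Lsl_gt (LP (LK LD1_c0 LD2_c11 LD3_c18)) = (LP (LK LD1_c0 LD2_c11 LD3_c13)) :=
  Lgr Lrot46 (Lpe (f748 IH) (Lpr_ft (f27927 IH) (Lpr_at (f28145 IH) (Lpn (LP (LK LD1_c0 LD2_c11 LD3_c13))))))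
theorem f27763 : Led Lsl_ct (LP (LK LD1_c0 LD2_c5 LD3_c14)) = (LP (LK LD1_c0 LD2_c11 LD3_c13)) :=
  Lre_c IH (LK LD1_c0 LD2_c5 LD3_c14) (LK LD1_c0 LD2_c11 LD3_c13) Lrfl Lrfl
theorem f8050 : Led Lsl_at (LP (LK LD1_c0 LD2_c5 LD3_c29)) = (LP (LK LD1_c0 LD2_c2 LD3_c31)) :=
  Lre_a IH (LK LD1_c0 LD2_c5 LD3_c29) (LK LD1_c0 LD2_c2 LD3_c31) Lrfl Lrfl
theorem f492 : Led Lsl_bt (LP (LK LD1_c0 LD2_c1 LD3_c1)) = (LP (LK LD1_c0 LD2_c2 LD3_c25)) :=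
  Lre_b IH (LK LD1_c0 LD2_c1 LD3_c1) (LK LD1_c0 LD2_c2 LD3_c25) Lrfl Lrfl
theorem f8052 : Led Lsl_bf (LP (LK LD1_c0 LD2_c5 LD3_c29)) = (LP (LK LD1_c0 LD2_c5 LD3_c14)) :=
  Lgr Lrot81 (Lpr_at (f8050 IH) (Lpr_bt (f8039 IH) (Lpr_at (f8046 IH) (Lpr_bt (f492 IH) (Lpr_at (f8051 IH) (Lpn (LP (LK LD1_c0 LD2_c5 LD3_c14))))))))
theorem f27758 : Led Lsl_gt (LP (LK LD1_c0 LD2_c5 LD3_c30)) = (LP (LK LD1_c0 LD2_c2 LD3_c31)) :=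
  Lre_g IH (LK LD1_c0 LD2_c5 LD3_c30) (LK LD1_c0 LD2_c2 LD3_c31) Lrfl Lrfl
theorem f27759 : Led Lsl_gf (LP (LK LD1_c0 LD2_c5 LD3_c30)) = (LP (LK LD1_c0 LD2_c5 LD3_c29)) :=
  Lgr Lrot47 (Lpr_gt (f27758 IH) (Lpe (f8050 IH) (Lpr_ff (f27749 IH) (Lpn (LP (LK LD1_c0 LD2_c5 LD3_c29))))))
theorem f1444 : Led Lsl_bt (LP (LK LD1_c0 LD2_c1 LD3_c0)) = (LP (LK LD1_c0 LD2_c0 LD3_c22)) :=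
  Lre_b IH (LK LD1_c0 LD2_c1 LD3_c0) (LK LD1_c0 LD2_c0 LD3_c22) Lrfl Lrfl
theorem f453 : Led Lsl_ct (LP (LK LD1_c0 LD2_c0 LD3_c8)) = (LP (LK LD1_c0 LD2_c0 LD3_c24)) :=
  Lre_c IH (LK LD1_c0 LD2_c0 LD3_c8) (LK LD1_c0 LD2_c0 LD3_c24) Lrfl Lrfl
theorem f7209 : (LP (LK LD1_c0 LD2_c0 LD3_c8)) = v8 :=
  Lefun (Lecon (Lfl_gt (f1460 IH)) ((f7033 IH).trans (f7204 IH))) (f458 IH)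
theorem f7226 : v53 = (LP (LK LD1_c0 LD2_c0 LD3_c24)) :=
  Lefun (Lecon (f6867 IH) (f7209 IH).symm) (f453 IH)
theorem f468 : Led Lsl_bt (LP (LK LD1_c0 LD2_c1 LD3_c4)) = (LP (LK LD1_c0 LD2_c0 LD3_c24)) :=
  Lre_b IH (LK LD1_c0 LD2_c1 LD3_c4) (LK LD1_c0 LD2_c0 LD3_c24) Lrfl Lrfl
def v31 : LQ := Led Lsl_et (LP (LK LD1_c0 LD2_c0 LD3_c18))
theorem f6687 : Led Lsl_et (LP (LK LD1_c0 LD2_c0 LD3_c18)) = v31 :=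
  Lrfl
theorem f6689 : Led Lsl_ef (LP (LK LD1_c0 LD2_c0 LD3_c18)) = v31 :=
  Lgr Lrot88 (Lpr_et (f6687 IH) (Lpn v31))
theorem f1424 : Led Lsl_et (LP (LK LD1_c0 LD2_c1 LD3_c29)) = (LP (LK LD1_c0 LD2_c0 LD3_c33)) :=
  Lre_e IH (LK LD1_c0 LD2_c1 LD3_c29) (LK LD1_c0 LD2_c0 LD3_c33) Lrfl Lrfl
def v65 : LQ := Led Lsl_ft (LP (LK LD1_c0 LD2_c0 LD3_c32))
theorem f7079 : Led Lsl_ft (LP (LK LD1_c0 LD2_c0 LD3_c32)) = v65 :=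
  Lrfl
theorem f7081 : Led Lsl_ff (LP (LK LD1_c0 LD2_c0 LD3_c32)) = v65 :=
  Lgr Lrot3 (Lpr_ft (f7079 IH) (Lpn v65))
theorem f7082 : Led Lsl_at (LP (LK LD1_c0 LD2_c0 LD3_c33)) = v65 :=
  Lgr Lrot66 (Lpr_ff (f7070 IH) (Lpe (f7066 IH) (Lpr_ff (f7081 IH) (Lpn v65))))
def v66 : LQ := Led Lsl_bt (LP (LK LD1_c0 LD2_c0 LD3_c33))
theorem f7084 : Led Lsl_bt (LP (LK LD1_c0 LD2_c0 LD3_c33)) = v66 :=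
  Lrfl
def v46 : LQ := Led Lsl_gf (LP (LK LD1_c0 LD2_c0 LD3_c22))
theorem f6754 : Led Lsl_gf (LP (LK LD1_c0 LD2_c0 LD3_c22)) = v46 :=
  Lrfl
theorem f6769 : Led Lsl_gt (LP (LK LD1_c0 LD2_c0 LD3_c23)) = v46 :=
  Lgr Lrot5 (Lpr_ft (f6767 IH) (Lpe (f6763 IH) (Lpr_gf (f6754 IH) (Lpn v46))))
theorem f7202 : (LP (LK LD1_c0 LD2_c0 LD3_c29)) = v46 :=
  Lefun (Lecon (Lfl_gf (f7025 IH)) (f7201 IH)) (f6769 IH)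
theorem f8064 : Led Lsl_ct (LP (LK LD1_c0 LD2_c2 LD3_c27)) = (LP (LK LD1_c0 LD2_c5 LD3_c22)) :=
  Lre_c IH (LK LD1_c0 LD2_c2 LD3_c27) (LK LD1_c0 LD2_c5 LD3_c22) Lrfl Lrfl
theorem f8065 : Led Lsl_gf (LP (LK LD1_c0 LD2_c2 LD3_c60)) = (LP (LK LD1_c0 LD2_c5 LD3_c22)) :=
  Lgr Lrot104 (Lpr_ct (f1642 IH) (Lpe (f1654 IH) (Lpe (f1645 IH) (Lpe (f312 IH) (Lpe (f79 IH) (Lpqs (f7202 IH) (Lpe (f6769 IH) (Lpe (f298 IH) (Lpr_gt (f8060 IH) (Lpr_ct (f8064 IH) (Lpn (LP (LK LD1_c0 LD2_c5 LD3_c22)))))))))))))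
theorem f253 : Led Lsl_ct (LP (LK LD1_c0 LD2_c2 LD3_c57)) = (LP (LK LD1_c0 LD2_c6 LD3_c23)) :=
  Lre_c IH (LK LD1_c0 LD2_c2 LD3_c57) (LK LD1_c0 LD2_c6 LD3_c23) Lrfl Lrfl
theorem f254 : Led Lsl_dt (LP (LK LD1_c0 LD2_c6 LD3_c23)) = (LP (LK LD1_c0 LD2_c13 LD3_c60)) :=
  Lre_d IH (LK LD1_c0 LD2_c6 LD3_c23) (LK LD1_c0 LD2_c13 LD3_c60) Lrfl Lrfl
theorem f255 : Led Lsl_ct (LP (LK LD1_c0 LD2_c13 LD3_c60)) = (LP (LK LD1_c0 LD2_c31 LD3_c33)) :=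
  Lre_c IH (LK LD1_c0 LD2_c13 LD3_c60) (LK LD1_c0 LD2_c31 LD3_c33) Lrfl Lrfl
theorem f256 : Led Lsl_dt (LP (LK LD1_c0 LD2_c31 LD3_c33)) = (LP (LK LD1_c1 LD2_c9 LD3_c2)) :=
  Lre_d IH (LK LD1_c0 LD2_c31 LD3_c33) (LK LD1_c1 LD2_c9 LD3_c2) Lrfl Lrfl
theorem f2141 : Led Lsl_ct (LP (LK LD1_c0 LD2_c14 LD3_c13)) = (LP (LK LD1_c0 LD2_c6 LD3_c35)) :=
  Lre_c IH (LK LD1_c0 LD2_c14 LD3_c13) (LK LD1_c0 LD2_c6 LD3_c35) Lrfl Lrfl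
theorem f2161 : Led Lsl_dt (LP (LK LD1_c0 LD2_c31 LD3_c56)) = (LP (LK LD1_c0 LD2_c14 LD3_c13)) :=
  Lre_d IH (LK LD1_c0 LD2_c31 LD3_c56) (LK LD1_c0 LD2_c14 LD3_c13) Lrfl Lrfl
theorem f2162 : Led Lsl_ct (LP (LK LD1_c1 LD2_c9 LD3_c2)) = (LP (LK LD1_c0 LD2_c31 LD3_c56)) :=
  Lgr Lrot53 (Lpe (f256 IH) (Lpe (f255 IH) (Lpe (f254 IH) (Lpe (f253 IH) (Lpe (f244 IH) (Lpr_ft (f258 IH) (Lpr_at (f2136 IH) (Lpe (f2141 IH) (Lpe (f2161 IH) (Lpn (LP (LK LD1_c0 LD2_c31 LD3_c56))))))))))))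
theorem f1529 : Led Lsl_ft (LP (LK LD1_c0 LD2_c6 LD3_c23)) = (LP (LK LD1_c0 LD2_c13 LD3_c61)) :=
  Lre_f IH (LK LD1_c0 LD2_c6 LD3_c23) (LK LD1_c0 LD2_c13 LD3_c61) Lrfl Lrfl
theorem f2144 : Led Lsl_ct (LP (LK LD1_c0 LD2_c6 LD3_c35)) = (LP (LK LD1_c0 LD2_c14 LD3_c13)) :=
  Lre_c IH (LK LD1_c0 LD2_c6 LD3_c35) (LK LD1_c0 LD2_c14 LD3_c13) Lrfl Lrfl
theorem f2186 : Led Lsl_at (LP (LK LD1_c0 LD2_c13 LD3_c61)) = (LP (LK LD1_c0 LD2_c14 LD3_c13)) :=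
  Lgr Lrot33 (Lpe (f1529 IH) (Lpr_dt (f254 IH) (Lpr_ct (f255 IH) (Lpr_dt (f256 IH) (Lpr_ct (f2162 IH) (Lpr_dt (f2161 IH) (Lpr_ct (f2141 IH) (Lpe (f2155 IH) (Lpr_ct (f2144 IH) (Lpn (LP (LK LD1_c0 LD2_c14 LD3_c13))))))))))))
theorem f2196 : Led Lsl_ft (LP (LK LD1_c0 LD2_c14 LD3_c13)) = (LP (LK LD1_c0 LD2_c6 LD3_c32)) :=
  Lre_f IH (LK LD1_c0 LD2_c14 LD3_c13) (LK LD1_c0 LD2_c6 LD3_c32) Lrfl Lrfl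
theorem f2197 : Led Lsl_af (LP (LK LD1_c0 LD2_c6 LD3_c23)) = (LP (LK LD1_c0 LD2_c6 LD3_c32)) :=
  Lgr Lrot45 (Lpr_ft (f1529 IH) (Lpr_at (f2186 IH) (Lpr_ft (f2196 IH) (Lpn (LP (LK LD1_c0 LD2_c6 LD3_c32))))))
theorem f1527 : Led Lsl_et (LP (LK LD1_c0 LD2_c6 LD3_c23)) = (LP (LK LD1_c0 LD2_c2 LD3_c56)) :=
  Lre_e IH (LK LD1_c0 LD2_c6 LD3_c23) (LK LD1_c0 LD2_c2 LD3_c56) Lrfl Lrfl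
theorem f1683 : Led Lsl_et (LP (LK LD1_c0 LD2_c2 LD3_c60)) = (LP (LK LD1_c0 LD2_c6 LD3_c32)) :=
  Lre_e IH (LK LD1_c0 LD2_c2 LD3_c60) (LK LD1_c0 LD2_c6 LD3_c32) Lrfl Lrfl
theorem f2203 : Led Lsl_at (LP (LK LD1_c0 LD2_c2 LD3_c56)) = (LP (LK LD1_c0 LD2_c2 LD3_c60)) :=
  Lgr Lrot80 (Lpe (f1527 IH) (Lpr_af (f2197 IH) (Lpe (f1683 IH) (Lpn (LP (LK LD1_c0 LD2_c2 LD3_c60))))))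
theorem f1513 : Led Lsl_ft (LP (LK LD1_c0 LD2_c2 LD3_c56)) = (LP (LK LD1_c0 LD2_c2 LD3_c56)) :=
  Lgr Lrot4 (Lpe (f239 IH) (Lpr_ff (f1511 IH) (Lpe (f237 IH) (Lpn (LP (LK LD1_c0 LD2_c2 LD3_c56))))))
theorem f8104 : Led Lsl_gt (LP (LK LD1_c0 LD2_c2 LD3_c56)) = (LP (LK LD1_c0 LD2_c5 LD3_c22)) :=
  Lgr Lrot5 (Lpr_ft (f1513 IH) (Lpr_at (f2203 IH) (Lpr_gf (f8065 IH) (Lpn (LP (LK LD1_c0 LD2_c5 LD3_c22))))))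
theorem f446 : Led Lsl_dt (LP (LK LD1_c0 LD2_c0 LD3_c61)) = (LP (LK LD1_c0 LD2_c2 LD3_c20)) :=
  Lre_d IH (LK LD1_c0 LD2_c0 LD3_c61) (LK LD1_c0 LD2_c2 LD3_c20) Lrfl Lrfl
theorem f8106 : Led Lsl_ct (LP (LK LD1_c0 LD2_c5 LD3_c7)) = (LP (LK LD1_c0 LD2_c2 LD3_c20)) :=
  Lre_c IH (LK LD1_c0 LD2_c5 LD3_c7) (LK LD1_c0 LD2_c2 LD3_c20) Lrfl Lrfl
theorem f8107 : Led Lsl_dt (LP (LK LD1_c0 LD2_c5 LD3_c22)) = (LP (LK LD1_c0 LD2_c5 LD3_c7)) :=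
  Lgr Lrot105 (Lpe (f8104 IH) (Lpe (f1664 IH) (Lpr_gf (f8065 IH) (Lpe (f8064 IH) (Lpr_gt (f490 IH) (Lpr_dt (f472 IH) (Lpr_gt (f52 IH) (Lpr_dt (f446 IH) (Lpe (f8106 IH) (Lpn (LP (LK LD1_c0 LD2_c5 LD3_c7))))))))))))
theorem f6788 : Led Lsl_dt (LP (LK LD1_c0 LD2_c2 LD3_c20)) = (LP (LK LD1_c0 LD2_c0 LD3_c61)) :=
  Lre_d IH (LK LD1_c0 LD2_c2 LD3_c20) (LK LD1_c0 LD2_c0 LD3_c61) Lrfl Lrfl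
theorem f8123 : Led Lsl_df (LP (LK LD1_c0 LD2_c2 LD3_c27)) = (LP (LK LD1_c0 LD2_c1 LD3_c32)) :=
  Lgr Lrot106 (Lpr_ct (f8064 IH) (Lpr_dt (f8107 IH) (Lpr_ct (f8106 IH) (Lpr_dt (f6788 IH) (Lpq (f7194 IH) (Lpe (f7037 IH) (Lpe (f309 IH) (Lpr_ff (f3802 IH) (Lpqs (f7264 IH) (Lpr_dt (f209 IH) (Lpe (f199 IH) (Lpn (LP (LK LD1_c0 LD2_c1 LD3_c32))))))))))))))
theorem f33 : Led Lsl_dt (LP (LK LD1_c0 LD2_c0 LD3_c10)) = (LP (LK LD1_c0 LD2_c0 LD3_c2)) :=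
  Lre_d IH (LK LD1_c0 LD2_c0 LD3_c10) (LK LD1_c0 LD2_c0 LD3_c2) Lrfl Lrfl
theorem f1419 : Led Lsl_ct (LP (LK LD1_c0 LD2_c0 LD3_c33)) = (LP (LK LD1_c0 LD2_c1 LD3_c28)) :=
  Lre_c IH (LK LD1_c0 LD2_c0 LD3_c33) (LK LD1_c0 LD2_c1 LD3_c28) Lrfl Lrfl
theorem f8138 : Led Lsl_gt (LP (LK LD1_c0 LD2_c1 LD3_c28)) = (LP (LK LD1_c0 LD2_c1 LD3_c32)) :=
  Lgr Lrot94 (Lpe (f1419 IH) (Lpr_gt (f231 IH) (Lpr_dt (f33 IH) (Lpr_gt (f25 IH) (Lpe (f1410 IH) (Lpe (f447 IH) (Lpe (f472 IH) (Lpe (f490 IH) (Lpr_df (f8123 IH) (Lpn (LP (LK LD1_c0 LD2_c1 LD3_c32))))))))))))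
theorem f8148 : v66 = (LP (LK LD1_c0 LD2_c0 LD3_c32)) :=
  (Llr Lrot92 (Lpe (f7084 IH) (Lpr_ct (f1419 IH) (Lpr_gt (f8138 IH) (Lpr_cf (f199 IH) (Lpr_bt (f85 IH) (Lpr_gt (f48 IH) (Lpqs (f3808 IH) (Lpr_ct (f3806 IH) (Lpe (f3805 IH) (Lpe (f75 IH) (Lpr_bt (f83 IH) (Lpr_gt (f93 IH) (Lpn (LP (LK LD1_c0 LD2_c0 LD3_c32)))))))))))))))).symm
theorem f8152 : Led Lsl_bf v63 = v65 :=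
  Lgr Lrot61 (Lpe (f7070 IH) (Lpr_bt (f7084 IH) (Lpqs (f8148 IH) (Lpr_ft (f7079 IH) (Lpn v65)))))
def v64 : LQ := Led Lsl_bt (LP (LK LD1_c0 LD2_c0 LD3_c32))
theorem f7075 : Led Lsl_bt (LP (LK LD1_c0 LD2_c0 LD3_c32)) = v64 :=
  Lrfl
theorem f7085 : Led Lsl_bf (LP (LK LD1_c0 LD2_c0 LD3_c33)) = v66 :=
  Lgr Lrot24 (Lpr_bt (f7084 IH) (Lpn v66))
theorem f8149 : (LP (LK LD1_c0 LD2_c0 LD3_c33)) = v64 :=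
  Lefun (Lecon (Lfl_bf (f7085 IH)) (f8148 IH)) (f7075 IH)
theorem f8154 : (LP (LK LD1_c0 LD2_c0 LD3_c32)) = v65 :=
  (Llr Lrot67 (Lpr_af (f7067 IH) (Lpr_bf (f8152 IH) (Lpe (f7082 IH) (Lpqs (f8149 IH) (Lpe (f7075 IH) (Lpr_af (f7067 IH) (Lpr_bf (f8152 IH) (Lpn v65))))))))).symm
theorem f7068 : Led Lsl_et (LP (LK LD1_c0 LD2_c0 LD3_c32)) = (LP (LK LD1_c0 LD2_c1 LD3_c27)) :=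
  Lre_e IH (LK LD1_c0 LD2_c0 LD3_c32) (LK LD1_c0 LD2_c1 LD3_c27) Lrfl Lrfl
theorem f8167 : Led Lsl_af (LP (LK LD1_c0 LD2_c1 LD3_c29)) = (LP (LK LD1_c0 LD2_c1 LD3_c27)) :=
  Lgr Lrot50 (Lpr_et (f1424 IH) (Lpr_at (f7082 IH) (Lpq (f8154 IH) (Lpr_et (f7068 IH) (Lpn (LP (LK LD1_c0 LD2_c1 LD3_c27)))))))
theorem f8174 : Led Lsl_ct (LP (LK LD1_c0 LD2_c1 LD3_c29)) = (LP (LK LD1_c0 LD2_c3 LD3_c32)) :=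
  Lre_c IH (LK LD1_c0 LD2_c1 LD3_c29) (LK LD1_c0 LD2_c3 LD3_c32) Lrfl Lrfl
theorem f8176 : Led Lsl_ct (LP (LK LD1_c0 LD2_c3 LD3_c30)) = (LP (LK LD1_c0 LD2_c1 LD3_c27)) :=
  Lre_c IH (LK LD1_c0 LD2_c3 LD3_c30) (LK LD1_c0 LD2_c1 LD3_c27) Lrfl Lrfl
theorem f8238 : Led Lsl_at (LP (LK LD1_c0 LD2_c3 LD3_c32)) = (LP (LK LD1_c0 LD2_c3 LD3_c30)) :=
  Lgr Lrot107 (Lpe (f8174 IH) (Lpr_af (f8167 IH) (Lpe (f8176 IH) (Lpn (LP (LK LD1_c0 LD2_c3 LD3_c30))))))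
theorem f8164 : Led Lsl_et (LP (LK LD1_c0 LD2_c1 LD3_c28)) = (LP (LK LD1_c0 LD2_c3 LD3_c32)) :=
  Lre_e IH (LK LD1_c0 LD2_c1 LD3_c28) (LK LD1_c0 LD2_c3 LD3_c32) Lrfl Lrfl
theorem f8209 : Led Lsl_et (LP (LK LD1_c0 LD2_c3 LD3_c30)) = (LP (LK LD1_c0 LD2_c1 LD3_c26)) :=
  Lre_e IH (LK LD1_c0 LD2_c3 LD3_c30) (LK LD1_c0 LD2_c1 LD3_c26) Lrfl Lrfl
theorem f8242 : Led Lsl_af (LP (LK LD1_c0 LD2_c1 LD3_c28)) = (LP (LK LD1_c0 LD2_c1 LD3_c26)) :=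
  Lgr Lrot50 (Lpr_et (f8164 IH) (Lpr_at (f8238 IH) (Lpr_et (f8209 IH) (Lpn (LP (LK LD1_c0 LD2_c1 LD3_c26))))))
theorem f8244 : Led Lsl_at (LP (LK LD1_c0 LD2_c1 LD3_c28)) = (LP (LK LD1_c0 LD2_c1 LD3_c26)) :=
  Lgr Lrot100 (Lpr_af (f8242 IH) (Lpn (LP (LK LD1_c0 LD2_c1 LD3_c26))))
theorem f7080 : Led Lsl_af (LP (LK LD1_c0 LD2_c0 LD3_c33)) = v65 :=
  Lgr Lrot45 (Lpr_ft (f7069 IH) (Lpe (f7067 IH) (Lpr_ft (f7079 IH) (Lpn v65))))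
theorem f8156 : (LP (LK LD1_c0 LD2_c0 LD3_c33)) = v63 :=
  Lefun (Lecon (Lfl_af (f7080 IH)) (f8154 IH).symm) (f7066 IH)
theorem f1418 : Led Lsl_ct (LP (LK LD1_c0 LD2_c1 LD3_c28)) = (LP (LK LD1_c0 LD2_c0 LD3_c33)) :=
  Lre_c IH (LK LD1_c0 LD2_c1 LD3_c28) (LK LD1_c0 LD2_c0 LD3_c33) Lrfl Lrfl
theorem f8160 : Led Lsl_ff (LP (LK LD1_c0 LD2_c1 LD3_c28)) = (LP (LK LD1_c0 LD2_c1 LD3_c28)) :=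
  Lgr Lrot23 (Lpr_ct (f1418 IH) (Lpqs (f8156 IH) (Lpe (f7070 IH) (Lpr_ct (f1419 IH) (Lpn (LP (LK LD1_c0 LD2_c1 LD3_c28)))))))
theorem f8249 : Led Lsl_gt (LP (LK LD1_c0 LD2_c1 LD3_c32)) = (LP (LK LD1_c0 LD2_c1 LD3_c26)) :=
  Lgr Lrot46 (Lpe (f8138 IH) (Lpe (f8160 IH) (Lpr_at (f8244 IH) (Lpn (LP (LK LD1_c0 LD2_c1 LD3_c26))))))
theorem f7042 : Led Lsl_et (LP (LK LD1_c0 LD2_c1 LD3_c47)) = (LP (LK LD1_c0 LD2_c0 LD3_c42)) :=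
  Lre_e IH (LK LD1_c0 LD2_c1 LD3_c47) (LK LD1_c0 LD2_c0 LD3_c42) Lrfl Lrfl
theorem f7190 : Led Lsl_ft (LP (LK LD1_c0 LD2_c4 LD3_c4)) = (LP (LK LD1_c0 LD2_c1 LD3_c47)) :=
  Lre_f IH (LK LD1_c0 LD2_c4 LD3_c4) (LK LD1_c0 LD2_c1 LD3_c47) Lrfl Lrfl
theorem f7040 : Led Lsl_et (LP (LK LD1_c0 LD2_c0 LD3_c42)) = (LP (LK LD1_c0 LD2_c1 LD3_c47)) :=
  Lre_e IH (LK LD1_c0 LD2_c0 LD3_c42) (LK LD1_c0 LD2_c1 LD3_c47) Lrfl Lrfl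
theorem f7187 : Led Lsl_ft (LP (LK LD1_c0 LD2_c1 LD3_c47)) = (LP (LK LD1_c0 LD2_c4 LD3_c4)) :=
  Lre_f IH (LK LD1_c0 LD2_c1 LD3_c47) (LK LD1_c0 LD2_c4 LD3_c4) Lrfl Lrfl
theorem f7292 : Led Lsl_ef (LP (LK LD1_c0 LD2_c4 LD3_c4)) = (LP (LK LD1_c0 LD2_c4 LD3_c4)) :=
  Lgr Lrot21 (Lpr_ft (f7190 IH) (Lpr_et (f7042 IH) (Lpq (f7283 IH) (Lpe (f7185 IH) (Lpr_et (f7040 IH) (Lpr_ft (f7187 IH) (Lpn (LP (LK LD1_c0 LD2_c4 LD3_c4)))))))))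
theorem f7298 : Led Lsl_dt (LP (LK LD1_c0 LD2_c4 LD3_c4)) = (LP (LK LD1_c0 LD2_c9 LD3_c0)) :=
  Lre_d IH (LK LD1_c0 LD2_c4 LD3_c4) (LK LD1_c0 LD2_c9 LD3_c0) Lrfl Lrfl
theorem f7299 : Led Lsl_et (LP (LK LD1_c0 LD2_c9 LD3_c0)) = (LP (LK LD1_c0 LD2_c20 LD3_c2)) :=
  Lre_e IH (LK LD1_c0 LD2_c9 LD3_c0) (LK LD1_c0 LD2_c20 LD3_c2) Lrfl Lrfl
theorem f7300 : Led Lsl_dt (LP (LK LD1_c0 LD2_c9 LD3_c0)) = (LP (LK LD1_c0 LD2_c4 LD3_c4)) :=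
  Lre_d IH (LK LD1_c0 LD2_c9 LD3_c0) (LK LD1_c0 LD2_c4 LD3_c4) Lrfl Lrfl
theorem f7301 : Led Lsl_et (LP (LK LD1_c0 LD2_c20 LD3_c2)) = (LP (LK LD1_c0 LD2_c9 LD3_c0)) :=
  Lre_e IH (LK LD1_c0 LD2_c20 LD3_c2) (LK LD1_c0 LD2_c9 LD3_c0) Lrfl Lrfl
theorem f7302 : Led Lsl_dt (LP (LK LD1_c0 LD2_c20 LD3_c2)) = (LP (LK LD1_c0 LD2_c20 LD3_c2)) :=
  Lgr Lrot77 (Lpe (f7299 IH) (Lpe (f7298 IH) (Lpr_ef (f7292 IH) (Lpe (f7300 IH) (Lpe (f7301 IH) (Lpn (LP (LK LD1_c0 LD2_c20 LD3_c2))))))))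
theorem f7309 : Led Lsl_at (LP (LK LD1_c0 LD2_c9 LD3_c11)) = (LP (LK LD1_c0 LD2_c20 LD3_c2)) :=
  Lre_a IH (LK LD1_c0 LD2_c9 LD3_c11) (LK LD1_c0 LD2_c20 LD3_c2) Lrfl Lrfl
theorem f7310 : Led Lsl_at (LP (LK LD1_c0 LD2_c20 LD3_c2)) = (LP (LK LD1_c0 LD2_c9 LD3_c11)) :=
  Lre_a IH (LK LD1_c0 LD2_c20 LD3_c2) (LK LD1_c0 LD2_c9 LD3_c11) Lrfl Lrfl
theorem f7311 : Led Lsl_df (LP (LK LD1_c0 LD2_c9 LD3_c11)) = (LP (LK LD1_c0 LD2_c9 LD3_c11)) :=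
  Lgr Lrot18 (Lpr_at (f7309 IH) (Lpr_dt (f7302 IH) (Lpr_at (f7310 IH) (Lpn (LP (LK LD1_c0 LD2_c9 LD3_c11))))))
theorem f7324 : Led Lsl_ft (LP (LK LD1_c0 LD2_c9 LD3_c11)) = (LP (LK LD1_c0 LD2_c20 LD3_c3)) :=
  Lre_f IH (LK LD1_c0 LD2_c9 LD3_c11) (LK LD1_c0 LD2_c20 LD3_c3) Lrfl Lrfl
theorem f7325 : Led Lsl_ft (LP (LK LD1_c0 LD2_c20 LD3_c3)) = (LP (LK LD1_c0 LD2_c9 LD3_c11)) :=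
  Lre_f IH (LK LD1_c0 LD2_c20 LD3_c3) (LK LD1_c0 LD2_c9 LD3_c11) Lrfl Lrfl
theorem f7326 : Led Lsl_dt (LP (LK LD1_c0 LD2_c20 LD3_c3)) = (LP (LK LD1_c0 LD2_c20 LD3_c3)) :=
  Lgr Lrot60 (Lpe (f7324 IH) (Lpr_df (f7311 IH) (Lpe (f7325 IH) (Lpn (LP (LK LD1_c0 LD2_c20 LD3_c3))))))
theorem f7338 : Led Lsl_et (LP (LK LD1_c0 LD2_c9 LD3_c1)) = (LP (LK LD1_c0 LD2_c20 LD3_c3)) :=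
  Lre_e IH (LK LD1_c0 LD2_c9 LD3_c1) (LK LD1_c0 LD2_c20 LD3_c3) Lrfl Lrfl
theorem f7339 : Led Lsl_dt (LP (LK LD1_c0 LD2_c4 LD3_c9)) = (LP (LK LD1_c0 LD2_c9 LD3_c1)) :=
  Lre_d IH (LK LD1_c0 LD2_c4 LD3_c9) (LK LD1_c0 LD2_c9 LD3_c1) Lrfl Lrfl
theorem f7340 : Led Lsl_et (LP (LK LD1_c0 LD2_c20 LD3_c3)) = (LP (LK LD1_c0 LD2_c9 LD3_c1)) :=
  Lre_e IH (LK LD1_c0 LD2_c20 LD3_c3) (LK LD1_c0 LD2_c9 LD3_c1) Lrfl Lrfl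
theorem f7341 : Led Lsl_dt (LP (LK LD1_c0 LD2_c9 LD3_c1)) = (LP (LK LD1_c0 LD2_c4 LD3_c9)) :=
  Lre_d IH (LK LD1_c0 LD2_c9 LD3_c1) (LK LD1_c0 LD2_c4 LD3_c9) Lrfl Lrfl
theorem f7342 : Led Lsl_ef (LP (LK LD1_c0 LD2_c4 LD3_c9)) = (LP (LK LD1_c0 LD2_c4 LD3_c9)) :=
  Lgr Lrot73 (Lpr_dt (f7339 IH) (Lpr_et (f7338 IH) (Lpr_dt (f7326 IH) (Lpr_et (f7340 IH) (Lpr_dt (f7341 IH) (Lpn (LP (LK LD1_c0 LD2_c4 LD3_c9))))))))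
theorem f162 : Led Lsl_bt (LP (LK LD1_c0 LD2_c4 LD3_c9)) = (LP (LK LD1_c0 LD2_c1 LD3_c58)) :=
  Lre_b IH (LK LD1_c0 LD2_c4 LD3_c9) (LK LD1_c0 LD2_c1 LD3_c58) Lrfl Lrfl
theorem f172 : Led Lsl_bt (LP (LK LD1_c0 LD2_c1 LD3_c58)) = (LP (LK LD1_c0 LD2_c4 LD3_c9)) :=
  Lre_b IH (LK LD1_c0 LD2_c1 LD3_c58) (LK LD1_c0 LD2_c4 LD3_c9) Lrfl Lrfl
theorem f7348 : Led Lsl_et (LP (LK LD1_c0 LD2_c1 LD3_c58)) = (LP (LK LD1_c0 LD2_c1 LD3_c58)) :=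
  Lgr Lrot74 (Lpe (f162 IH) (Lpr_ef (f7342 IH) (Lpe (f172 IH) (Lpn (LP (LK LD1_c0 LD2_c1 LD3_c58))))))
theorem f115 : Led Lsl_ft (LP (LK LD1_c0 LD2_c0 LD3_c54)) = (LP (LK LD1_c0 LD2_c0 LD3_c17)) :=
  Lre_f IH (LK LD1_c0 LD2_c0 LD3_c54) (LK LD1_c0 LD2_c0 LD3_c17) Lrfl Lrfl
theorem f116 : Led Lsl_ft (LP (LK LD1_c0 LD2_c0 LD3_c46)) = (LP (LK LD1_c0 LD2_c1 LD3_c58)) :=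
  Lre_f IH (LK LD1_c0 LD2_c0 LD3_c46) (LK LD1_c0 LD2_c1 LD3_c58) Lrfl Lrfl
theorem f117 : Led Lsl_cf (LP (LK LD1_c0 LD2_c0 LD3_c54)) = (LP (LK LD1_c0 LD2_c1 LD3_c58)) :=
  Lgr Lrot108 (Lpr_ft (f115 IH) (Lpr_ct (f90 IH) (Lpr_ft (f116 IH) (Lpn (LP (LK LD1_c0 LD2_c1 LD3_c58))))))
theorem f163 : Led Lsl_ct (LP (LK LD1_c0 LD2_c0 LD3_c54)) = (LP (LK LD1_c0 LD2_c1 LD3_c58)) :=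
  Lgr Lrot59 (Lpr_cf (f117 IH) (Lpn (LP (LK LD1_c0 LD2_c1 LD3_c58))))
theorem f7384 : Led Lsl_ef (LP (LK LD1_c0 LD2_c0 LD3_c54)) = (LP (LK LD1_c0 LD2_c0 LD3_c54)) :=
  Lgr Lrot28 (Lpr_ct (f163 IH) (Lpr_et (f7348 IH) (Lpe (f117 IH) (Lpn (LP (LK LD1_c0 LD2_c0 LD3_c54))))))
theorem f165 : Led Lsl_dt (LP (LK LD1_c0 LD2_c0 LD3_c54)) = (LP (LK LD1_c0 LD2_c2 LD3_c5)) :=
  Lre_d IH (LK LD1_c0 LD2_c0 LD3_c54) (LK LD1_c0 LD2_c2 LD3_c5) Lrfl Lrfl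
theorem f7390 : Led Lsl_et (LP (LK LD1_c0 LD2_c2 LD3_c5)) = (LP (LK LD1_c0 LD2_c4 LD3_c33)) :=
  Lre_e IH (LK LD1_c0 LD2_c2 LD3_c5) (LK LD1_c0 LD2_c4 LD3_c33) Lrfl Lrfl
theorem f170 : Led Lsl_dt (LP (LK LD1_c0 LD2_c2 LD3_c5)) = (LP (LK LD1_c0 LD2_c0 LD3_c54)) :=
  Lre_d IH (LK LD1_c0 LD2_c2 LD3_c5) (LK LD1_c0 LD2_c0 LD3_c54) Lrfl Lrfl
theorem f7391 : Led Lsl_et (LP (LK LD1_c0 LD2_c4 LD3_c33)) = (LP (LK LD1_c0 LD2_c2 LD3_c5)) :=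
  Lre_e IH (LK LD1_c0 LD2_c4 LD3_c33) (LK LD1_c0 LD2_c2 LD3_c5) Lrfl Lrfl
theorem f7392 : Led Lsl_dt (LP (LK LD1_c0 LD2_c4 LD3_c33)) = (LP (LK LD1_c0 LD2_c4 LD3_c33)) :=
  Lgr Lrot77 (Lpe (f7390 IH) (Lpe (f165 IH) (Lpr_ef (f7384 IH) (Lpe (f170 IH) (Lpe (f7391 IH) (Lpn (LP (LK LD1_c0 LD2_c4 LD3_c33))))))))
theorem f7402 : Led Lsl_ft (LP (LK LD1_c0 LD2_c2 LD3_c18)) = (LP (LK LD1_c0 LD2_c4 LD3_c33)) :=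
  Lre_f IH (LK LD1_c0 LD2_c2 LD3_c18) (LK LD1_c0 LD2_c4 LD3_c33) Lrfl Lrfl
theorem f7403 : Led Lsl_ft (LP (LK LD1_c0 LD2_c4 LD3_c33)) = (LP (LK LD1_c0 LD2_c2 LD3_c18)) :=
  Lre_f IH (LK LD1_c0 LD2_c4 LD3_c33) (LK LD1_c0 LD2_c2 LD3_c18) Lrfl Lrfl
theorem f7404 : Led Lsl_df (LP (LK LD1_c0 LD2_c2 LD3_c18)) = (LP (LK LD1_c0 LD2_c2 LD3_c18)) :=
  Lgr Lrot78 (Lpr_ft (f7402 IH) (Lpr_dt (f7392 IH) (Lpr_ft (f7403 IH) (Lpn (LP (LK LD1_c0 LD2_c2 LD3_c18))))))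
theorem f7412 : Led Lsl_bt (LP (LK LD1_c0 LD2_c2 LD3_c18)) = (LP (LK LD1_c0 LD2_c4 LD3_c1)) :=
  Lre_b IH (LK LD1_c0 LD2_c2 LD3_c18) (LK LD1_c0 LD2_c4 LD3_c1) Lrfl Lrfl
theorem f7413 : Led Lsl_bt (LP (LK LD1_c0 LD2_c4 LD3_c1)) = (LP (LK LD1_c0 LD2_c2 LD3_c18)) :=
  Lre_b IH (LK LD1_c0 LD2_c4 LD3_c1) (LK LD1_c0 LD2_c2 LD3_c18) Lrfl Lrfl
theorem f7414 : Led Lsl_dt (LP (LK LD1_c0 LD2_c4 LD3_c1)) = (LP (LK LD1_c0 LD2_c4 LD3_c1)) :=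
  Lgr Lrot79 (Lpe (f7412 IH) (Lpr_df (f7404 IH) (Lpe (f7413 IH) (Lpn (LP (LK LD1_c0 LD2_c4 LD3_c1))))))
theorem f7427 : Led Lsl_at (LP (LK LD1_c0 LD2_c6 LD3_c21)) = (LP (LK LD1_c0 LD2_c4 LD3_c1)) :=
  Lre_a IH (LK LD1_c0 LD2_c6 LD3_c21) (LK LD1_c0 LD2_c4 LD3_c1) Lrfl Lrfl
theorem f7428 : Led Lsl_at (LP (LK LD1_c0 LD2_c4 LD3_c1)) = (LP (LK LD1_c0 LD2_c6 LD3_c21)) :=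
  Lre_a IH (LK LD1_c0 LD2_c4 LD3_c1) (LK LD1_c0 LD2_c6 LD3_c21) Lrfl Lrfl
theorem f7429 : Led Lsl_df (LP (LK LD1_c0 LD2_c6 LD3_c21)) = (LP (LK LD1_c0 LD2_c6 LD3_c21)) :=
  Lgr Lrot18 (Lpr_at (f7427 IH) (Lpr_dt (f7414 IH) (Lpr_at (f7428 IH) (Lpn (LP (LK LD1_c0 LD2_c6 LD3_c21))))))
theorem f7452 : Led Lsl_ct (LP (LK LD1_c0 LD2_c6 LD3_c21)) = (LP (LK LD1_c0 LD2_c13 LD3_c56)) :=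
  Lre_c IH (LK LD1_c0 LD2_c6 LD3_c21) (LK LD1_c0 LD2_c13 LD3_c56) Lrfl Lrfl
theorem f7463 : Led Lsl_at (LP (LK LD1_c0 LD2_c8 LD3_c58)) = (LP (LK LD1_c0 LD2_c13 LD3_c56)) :=
  Lre_a IH (LK LD1_c0 LD2_c8 LD3_c58) (LK LD1_c0 LD2_c13 LD3_c56) Lrfl Lrfl
theorem f7464 : Led Lsl_ft (LP (LK LD1_c0 LD2_c18 LD3_c7)) = (LP (LK LD1_c0 LD2_c8 LD3_c58)) :=
  Lre_f IH (LK LD1_c0 LD2_c18 LD3_c7) (LK LD1_c0 LD2_c8 LD3_c58) Lrfl Lrfl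
theorem f7465 : Led Lsl_dt (LP (LK LD1_c0 LD2_c18 LD3_c7)) = (LP (LK LD1_c0 LD2_c40 LD3_c29)) :=
  Lre_d IH (LK LD1_c0 LD2_c18 LD3_c7) (LK LD1_c0 LD2_c40 LD3_c29) Lrfl Lrfl
theorem f7466 : Led Lsl_ct (LP (LK LD1_c0 LD2_c40 LD3_c29)) = (LP (LK LD1_c1 LD2_c27 LD3_c31)) :=
  Lre_c IH (LK LD1_c0 LD2_c40 LD3_c29) (LK LD1_c1 LD2_c27 LD3_c31) Lrfl Lrfl
theorem f7455 : Led Lsl_ct (LP (LK LD1_c0 LD2_c13 LD3_c56)) = (LP (LK LD1_c0 LD2_c6 LD3_c21)) :=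
  Lre_c IH (LK LD1_c0 LD2_c13 LD3_c56) (LK LD1_c0 LD2_c6 LD3_c21) Lrfl Lrfl
theorem f7456 : Led Lsl_dt (LP (LK LD1_c0 LD2_c31 LD3_c23)) = (LP (LK LD1_c0 LD2_c13 LD3_c56)) :=
  Lre_d IH (LK LD1_c0 LD2_c31 LD3_c23) (LK LD1_c0 LD2_c13 LD3_c56) Lrfl Lrfl
theorem f7457 : Led Lsl_ct (LP (LK LD1_c1 LD2_c8 LD3_c37)) = (LP (LK LD1_c0 LD2_c31 LD3_c23)) :=
  Lre_c IH (LK LD1_c1 LD2_c8 LD3_c37) (LK LD1_c0 LD2_c31 LD3_c23) Lrfl Lrfl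
theorem f7467 : Led Lsl_dt (LP (LK LD1_c1 LD2_c27 LD3_c31)) = (LP (LK LD1_c1 LD2_c8 LD3_c37)) :=
  Lgr Lrot32 (Lpe (f7466 IH) (Lpe (f7465 IH) (Lpr_ft (f7464 IH) (Lpr_at (f7463 IH) (Lpe (f7452 IH) (Lpr_df (f7429 IH) (Lpe (f7455 IH) (Lpe (f7456 IH) (Lpe (f7457 IH) (Lpn (LP (LK LD1_c1 LD2_c8 LD3_c37))))))))))))
theorem f7492 : Led Lsl_et (LP (LK LD1_c3 LD2_c3 LD3_c13)) = (LP (LK LD1_c1 LD2_c27 LD3_c31)) :=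
  Lre_e IH (LK LD1_c3 LD2_c3 LD3_c13) (LK LD1_c1 LD2_c27 LD3_c31) Lrfl Lrfl
theorem f7493 : Led Lsl_dt (LP (LK LD1_c6 LD2_c13 LD3_c0)) = (LP (LK LD1_c3 LD2_c3 LD3_c13)) :=
  Lre_d IH (LK LD1_c6 LD2_c13 LD3_c0) (LK LD1_c3 LD2_c3 LD3_c13) Lrfl Lrfl
theorem f7494 : Led Lsl_et (LP (LK LD1_c1 LD2_c8 LD3_c37)) = (LP (LK LD1_c2 LD2_c22 LD3_c56)) :=
  Lre_e IH (LK LD1_c1 LD2_c8 LD3_c37) (LK LD1_c2 LD2_c22 LD3_c56) Lrfl Lrfl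
theorem f7495 : Led Lsl_dt (LP (LK LD1_c2 LD2_c22 LD3_c56)) = (LP (LK LD1_c4 LD2_c50 LD3_c18)) :=
  Lre_d IH (LK LD1_c2 LD2_c22 LD3_c56) (LK LD1_c4 LD2_c50 LD3_c18) Lrfl Lrfl
theorem f7496 : Led Lsl_ef (LP (LK LD1_c6 LD2_c13 LD3_c0)) = (LP (LK LD1_c4 LD2_c50 LD3_c18)) :=
  Lgr Lrot73 (Lpr_dt (f7493 IH) (Lpr_et (f7492 IH) (Lpr_dt (f7467 IH) (Lpr_et (f7494 IH) (Lpr_dt (f7495 IH) (Lpn (LP (LK LD1_c4 LD2_c50 LD3_c18))))))))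
theorem f7514 : Led Lsl_ft (LP (LK LD1_c6 LD2_c13 LD3_c0)) = (LP (LK LD1_c11 LD2_c58 LD3_c36)) :=
  Lre_f IH (LK LD1_c6 LD2_c13 LD3_c0) (LK LD1_c11 LD2_c58 LD3_c36) Lrfl Lrfl
theorem f7515 : Led Lsl_ft (LP (LK LD1_c9 LD2_c4 LD3_c59)) = (LP (LK LD1_c4 LD2_c50 LD3_c18)) :=
  Lre_f IH (LK LD1_c9 LD2_c4 LD3_c59) (LK LD1_c4 LD2_c50 LD3_c18) Lrfl Lrfl
theorem f7516 : Led Lsl_et (LP (LK LD1_c5 LD2_c34 LD3_c59)) = (LP (LK LD1_c9 LD2_c4 LD3_c59)) :=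
  Lre_e IH (LK LD1_c5 LD2_c34 LD3_c59) (LK LD1_c9 LD2_c4 LD3_c59) Lrfl Lrfl
theorem f7517 : Led Lsl_ft (LP (LK LD1_c10 LD2_c45 LD3_c53)) = (LP (LK LD1_c5 LD2_c34 LD3_c59)) :=
  Lre_f IH (LK LD1_c10 LD2_c45 LD3_c53) (LK LD1_c5 LD2_c34 LD3_c59) Lrfl Lrfl
theorem f7518 : Led Lsl_et (LP (LK LD1_c11 LD2_c58 LD3_c36)) = (LP (LK LD1_c10 LD2_c45 LD3_c53)) :=
  Lgr Lrot69 (Lpe (f7514 IH) (Lpr_ef (f7496 IH) (Lpe (f7515 IH) (Lpe (f7516 IH) (Lpe (f7517 IH) (Lpn (LP (LK LD1_c10 LD2_c45 LD3_c53))))))))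
theorem f7539 : Led Lsl_ef (LP (LK LD1_c11 LD2_c58 LD3_c36)) = (LP (LK LD1_c10 LD2_c45 LD3_c53)) :=
  Lgr Lrot88 (Lpr_et (f7518 IH) (Lpn (LP (LK LD1_c10 LD2_c45 LD3_c53))))
theorem f7541 : Led Lsl_dt (LP (LK LD1_c11 LD2_c58 LD3_c36)) = (LP (LK LD1_c6 LD2_c12 LD3_c46)) :=
  Lre_d IH (LK LD1_c11 LD2_c58 LD3_c36) (LK LD1_c6 LD2_c12 LD3_c46) Lrfl Lrfl
theorem f7550 : Led Lsl_et (LP (LK LD1_c6 LD2_c12 LD3_c46)) = (LP (LK LD1_c3 LD2_c21 LD3_c58)) :=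
  Lre_e IH (LK LD1_c6 LD2_c12 LD3_c46) (LK LD1_c3 LD2_c21 LD3_c58) Lrfl Lrfl
theorem f7551 : Led Lsl_dt (LP (LK LD1_c3 LD2_c21 LD3_c58)) = (LP (LK LD1_c5 LD2_c45 LD3_c48)) :=
  Lre_d IH (LK LD1_c3 LD2_c21 LD3_c58) (LK LD1_c5 LD2_c45 LD3_c48) Lrfl Lrfl
theorem f7552 : Led Lsl_et (LP (LK LD1_c5 LD2_c45 LD3_c48)) = (LP (LK LD1_c8 LD2_c59 LD3_c46)) :=
  Lre_e IH (LK LD1_c5 LD2_c45 LD3_c48) (LK LD1_c8 LD2_c59 LD3_c46) Lrfl Lrfl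
theorem f7553 : Led Lsl_dt (LP (LK LD1_c8 LD2_c59 LD3_c46)) = (LP (LK LD1_c10 LD2_c45 LD3_c53)) :=
  Lgr Lrot77 (Lpe (f7552 IH) (Lpe (f7551 IH) (Lpe (f7550 IH) (Lpe (f7541 IH) (Lpr_ef (f7539 IH) (Lpn (LP (LK LD1_c10 LD2_c45 LD3_c53))))))))
theorem f7568 : Led Lsl_dt (LP (LK LD1_c5 LD2_c34 LD3_c59)) = (LP (LK LD1_c11 LD2_c2 LD3_c13)) :=
  Lre_d IH (LK LD1_c5 LD2_c34 LD3_c59) (LK LD1_c11 LD2_c2 LD3_c13) Lrfl Lrfl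
theorem f7569 : Led Lsl_ff (LP (LK LD1_c8 LD2_c59 LD3_c46)) = (LP (LK LD1_c11 LD2_c2 LD3_c13)) :=
  Lgr Lrot19 (Lpr_dt (f7553 IH) (Lpr_ft (f7517 IH) (Lpr_dt (f7568 IH) (Lpn (LP (LK LD1_c11 LD2_c2 LD3_c13))))))
theorem f7575 : Led Lsl_at (LP (LK LD1_c8 LD2_c59 LD3_c46)) = (LP (LK LD1_c5 LD2_c34 LD3_c59)) :=
  Lre_a IH (LK LD1_c8 LD2_c59 LD3_c46) (LK LD1_c5 LD2_c34 LD3_c59) Lrfl Lrfl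
theorem f7581 : Led Lsl_ct (LP (LK LD1_c2 LD2_c43 LD3_c22)) = (LP (LK LD1_c5 LD2_c34 LD3_c59)) :=
  Lre_c IH (LK LD1_c2 LD2_c43 LD3_c22) (LK LD1_c5 LD2_c34 LD3_c59) Lrfl Lrfl
theorem f7582 : Led Lsl_dt (LP (LK LD1_c1 LD2_c18 LD3_c6)) = (LP (LK LD1_c2 LD2_c43 LD3_c22)) :=
  Lre_d IH (LK LD1_c1 LD2_c18 LD3_c6) (LK LD1_c2 LD2_c43 LD3_c22) Lrfl Lrfl
theorem f7583 : Led Lsl_ct (LP (LK LD1_c0 LD2_c36 LD3_c1)) = (LP (LK LD1_c1 LD2_c18 LD3_c6)) :=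
  Lre_c IH (LK LD1_c0 LD2_c36 LD3_c1) (LK LD1_c1 LD2_c18 LD3_c6) Lrfl Lrfl
theorem f7560 : Led Lsl_dt (LP (LK LD1_c11 LD2_c2 LD3_c13)) = (LP (LK LD1_c5 LD2_c34 LD3_c59)) :=
  Lre_d IH (LK LD1_c11 LD2_c2 LD3_c13) (LK LD1_c5 LD2_c34 LD3_c59) Lrfl Lrfl
theorem f7584 : Led Lsl_ct (LP (LK LD1_c5 LD2_c34 LD3_c59)) = (LP (LK LD1_c2 LD2_c43 LD3_c22)) :=
  Lre_c IH (LK LD1_c5 LD2_c34 LD3_c59) (LK LD1_c2 LD2_c43 LD3_c22) Lrfl Lrfl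
theorem f7585 : Led Lsl_dt (LP (LK LD1_c2 LD2_c43 LD3_c22)) = (LP (LK LD1_c1 LD2_c18 LD3_c6)) :=
  Lre_d IH (LK LD1_c2 LD2_c43 LD3_c22) (LK LD1_c1 LD2_c18 LD3_c6) Lrfl Lrfl
theorem f7586 : Led Lsl_ct (LP (LK LD1_c1 LD2_c18 LD3_c6)) = (LP (LK LD1_c0 LD2_c36 LD3_c1)) :=
  Lre_c IH (LK LD1_c1 LD2_c18 LD3_c6) (LK LD1_c0 LD2_c36 LD3_c1) Lrfl Lrfl
theorem f7587 : Led Lsl_df (LP (LK LD1_c0 LD2_c36 LD3_c1)) = (LP (LK LD1_c0 LD2_c36 LD3_c1)) :=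
  Lgr Lrot13 (Lpr_ct (f7583 IH) (Lpr_dt (f7582 IH) (Lpr_ct (f7581 IH) (Lpe (f7575 IH) (Lpr_ff (f7569 IH) (Lpr_dt (f7560 IH) (Lpr_ct (f7584 IH) (Lpr_dt (f7585 IH) (Lpr_ct (f7586 IH) (Lpn (LP (LK LD1_c0 LD2_c36 LD3_c1))))))))))))
theorem f7603 : Led Lsl_ft (LP (LK LD1_c0 LD2_c36 LD3_c1)) = (LP (LK LD1_c1 LD2_c16 LD3_c46)) :=
  Lre_f IH (LK LD1_c0 LD2_c36 LD3_c1) (LK LD1_c1 LD2_c16 LD3_c46) Lrfl Lrfl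
theorem f7604 : Led Lsl_ft (LP (LK LD1_c1 LD2_c16 LD3_c46)) = (LP (LK LD1_c0 LD2_c36 LD3_c1)) :=
  Lre_f IH (LK LD1_c1 LD2_c16 LD3_c46) (LK LD1_c0 LD2_c36 LD3_c1) Lrfl Lrfl
theorem f7605 : Led Lsl_dt (LP (LK LD1_c1 LD2_c16 LD3_c46)) = (LP (LK LD1_c1 LD2_c16 LD3_c46)) :=
  Lgr Lrot60 (Lpe (f7603 IH) (Lpr_df (f7587 IH) (Lpe (f7604 IH) (Lpn (LP (LK LD1_c1 LD2_c16 LD3_c46))))))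
theorem f7642 : Led Lsl_et (LP (LK LD1_c0 LD2_c35 LD3_c31)) = (LP (LK LD1_c1 LD2_c16 LD3_c46)) :=
  Lre_e IH (LK LD1_c0 LD2_c35 LD3_c31) (LK LD1_c1 LD2_c16 LD3_c46) Lrfl Lrfl
theorem f7643 : Led Lsl_dt (LP (LK LD1_c0 LD2_c15 LD3_c55)) = (LP (LK LD1_c0 LD2_c35 LD3_c31)) :=
  Lre_d IH (LK LD1_c0 LD2_c15 LD3_c55) (LK LD1_c0 LD2_c35 LD3_c31) Lrfl Lrfl
theorem f7644 : Led Lsl_et (LP (LK LD1_c1 LD2_c16 LD3_c46)) = (LP (LK LD1_c0 LD2_c35 LD3_c31)) :=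
  Lre_e IH (LK LD1_c1 LD2_c16 LD3_c46) (LK LD1_c0 LD2_c35 LD3_c31) Lrfl Lrfl
theorem f7645 : Led Lsl_dt (LP (LK LD1_c0 LD2_c35 LD3_c31)) = (LP (LK LD1_c0 LD2_c15 LD3_c55)) :=
  Lre_d IH (LK LD1_c0 LD2_c35 LD3_c31) (LK LD1_c0 LD2_c15 LD3_c55) Lrfl Lrfl
theorem f7646 : Led Lsl_ef (LP (LK LD1_c0 LD2_c15 LD3_c55)) = (LP (LK LD1_c0 LD2_c15 LD3_c55)) :=
  Lgr Lrot73 (Lpr_dt (f7643 IH) (Lpr_et (f7642 IH) (Lpr_dt (f7605 IH) (Lpr_et (f7644 IH) (Lpr_dt (f7645 IH) (Lpn (LP (LK LD1_c0 LD2_c15 LD3_c55))))))))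
theorem f7664 : Led Lsl_ft (LP (LK LD1_c0 LD2_c15 LD3_c55)) = (LP (LK LD1_c0 LD2_c7 LD3_c9)) :=
  Lre_f IH (LK LD1_c0 LD2_c15 LD3_c55) (LK LD1_c0 LD2_c7 LD3_c9) Lrfl Lrfl
theorem f7665 : Led Lsl_et (LP (LK LD1_c0 LD2_c7 LD3_c9)) = (LP (LK LD1_c0 LD2_c3 LD3_c14)) :=
  Lre_e IH (LK LD1_c0 LD2_c7 LD3_c9) (LK LD1_c0 LD2_c3 LD3_c14) Lrfl Lrfl
theorem f7666 : Led Lsl_ft (LP (LK LD1_c0 LD2_c7 LD3_c9)) = (LP (LK LD1_c0 LD2_c15 LD3_c55)) :=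
  Lre_f IH (LK LD1_c0 LD2_c7 LD3_c9) (LK LD1_c0 LD2_c15 LD3_c55) Lrfl Lrfl
theorem f7667 : Led Lsl_et (LP (LK LD1_c0 LD2_c3 LD3_c14)) = (LP (LK LD1_c0 LD2_c7 LD3_c9)) :=
  Lre_e IH (LK LD1_c0 LD2_c3 LD3_c14) (LK LD1_c0 LD2_c7 LD3_c9) Lrfl Lrfl
theorem f7668 : Led Lsl_ft (LP (LK LD1_c0 LD2_c3 LD3_c14)) = (LP (LK LD1_c0 LD2_c3 LD3_c14)) :=
  Lgr Lrot86 (Lpe (f7665 IH) (Lpe (f7664 IH) (Lpr_ef (f7646 IH) (Lpe (f7666 IH) (Lpe (f7667 IH) (Lpn (LP (LK LD1_c0 LD2_c3 LD3_c14))))))))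
theorem f460 : Led Lsl_dt (LP (LK LD1_c0 LD2_c3 LD3_c14)) = (LP (LK LD1_c0 LD2_c1 LD3_c20)) :=
  Lre_d IH (LK LD1_c0 LD2_c3 LD3_c14) (LK LD1_c0 LD2_c1 LD3_c20) Lrfl Lrfl
theorem f459 : Led Lsl_ct (LP (LK LD1_c0 LD2_c1 LD3_c20)) = (LP (LK LD1_c0 LD2_c0 LD3_c30)) :=
  Lre_c IH (LK LD1_c0 LD2_c1 LD3_c20) (LK LD1_c0 LD2_c0 LD3_c30) Lrfl Lrfl
theorem f226 : Led Lsl_dt (LP (LK LD1_c0 LD2_c0 LD3_c30)) = (LP (LK LD1_c0 LD2_c0 LD3_c9)) :=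
  Lre_d IH (LK LD1_c0 LD2_c0 LD3_c30) (LK LD1_c0 LD2_c0 LD3_c9) Lrfl Lrfl
theorem f38 : Led Lsl_dt (LP (LK LD1_c0 LD2_c0 LD3_c34)) = (LP (LK LD1_c0 LD2_c1 LD3_c33)) :=
  Lre_d IH (LK LD1_c0 LD2_c0 LD3_c34) (LK LD1_c0 LD2_c1 LD3_c33) Lrfl Lrfl
theorem f39 : Led Lsl_ct (LP (LK LD1_c0 LD2_c1 LD3_c33)) = (LP (LK LD1_c0 LD2_c3 LD3_c37)) :=
  Lre_c IH (LK LD1_c0 LD2_c1 LD3_c33) (LK LD1_c0 LD2_c3 LD3_c37) Lrfl Lrfl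
theorem f7676 : Led Lsl_af (LP (LK LD1_c0 LD2_c3 LD3_c37)) = (LP (LK LD1_c0 LD2_c3 LD3_c14)) :=
  Lgr Lrot109 (Lpe (f39 IH) (Lpe (f38 IH) (Lpe (f37 IH) (Lpe (f28 IH) (Lpe (f32 IH) (Lpe (f226 IH) (Lpe (f459 IH) (Lpe (f460 IH) (Lpr_ft (f7668 IH) (Lpn (LP (LK LD1_c0 LD2_c3 LD3_c14))))))))))))
theorem f7678 : Led Lsl_at (LP (LK LD1_c0 LD2_c3 LD3_c37)) = (LP (LK LD1_c0 LD2_c3 LD3_c14)) :=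
  Lgr Lrot100 (Lpr_af (f7676 IH) (Lpn (LP (LK LD1_c0 LD2_c3 LD3_c14))))
theorem f7693 : Led Lsl_ft (LP (LK LD1_c0 LD2_c3 LD3_c37)) = (LP (LK LD1_c0 LD2_c3 LD3_c37)) :=
  Lgr Lrot101 (Lpr_af (f7676 IH) (Lpe (f7668 IH) (Lpe (f7678 IH) (Lpn (LP (LK LD1_c0 LD2_c3 LD3_c37))))))
theorem f6878 : Led Lsl_gf (LP (LK LD1_c0 LD2_c2 LD3_c28)) = (LP (LK LD1_c0 LD2_c3 LD3_c37)) :=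
  Lgr Lrot104 (Lpr_ct (f473 IH) (Lpe (f488 IH) (Lpe (f51 IH) (Lpe (f25 IH) (Lpe (f32 IH) (Lpe (f1473 IH) (Lpe (f1641 IH) (Lpr_gt (f6872 IH) (Lpr_ct (f39 IH) (Lpn (LP (LK LD1_c0 LD2_c3 LD3_c37))))))))))))
theorem f7703 : Led Lsl_gt (LP (LK LD1_c0 LD2_c2 LD3_c28)) = (LP (LK LD1_c0 LD2_c3 LD3_c14)) :=
  Lgr Lrot46 (Lpr_gf (f6878 IH) (Lpr_ft (f7693 IH) (Lpr_at (f7678 IH) (Lpn (LP (LK LD1_c0 LD2_c3 LD3_c14))))))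
theorem f419 : Led Lsl_ct (LP (LK LD1_c0 LD2_c1 LD3_c26)) = (LP (LK LD1_c0 LD2_c0 LD3_c32)) :=
  Lre_c IH (LK LD1_c0 LD2_c1 LD3_c26) (LK LD1_c0 LD2_c0 LD3_c32) Lrfl Lrfl
def v56 : LQ := Led Lsl_bt (LP (LK LD1_c0 LD2_c0 LD3_c25))
theorem f6980 : Led Lsl_bt (LP (LK LD1_c0 LD2_c0 LD3_c25)) = v56 :=
  Lrfl
theorem f454 : Led Lsl_dt (LP (LK LD1_c0 LD2_c0 LD3_c8)) = (LP (LK LD1_c0 LD2_c0 LD3_c25)) :=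
  Lre_d IH (LK LD1_c0 LD2_c0 LD3_c8) (LK LD1_c0 LD2_c0 LD3_c25) Lrfl Lrfl
theorem f6984 : Led Lsl_df v8 = v56 :=
  Lgr Lrot12 (Lpe (f451 IH) (Lpr_dt (f454 IH) (Lpr_bt (f6980 IH) (Lpn v56))))
def v18 : LQ := Led Lsl_ft (LP (LK LD1_c0 LD2_c0 LD3_c10))
theorem f1486 : Led Lsl_ft (LP (LK LD1_c0 LD2_c0 LD3_c10)) = v18 :=
  Lrfl
theorem f1491 : Led Lsl_ff (LP (LK LD1_c0 LD2_c0 LD3_c10)) = v18 :=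
  Lgr Lrot3 (Lpr_ft (f1486 IH) (Lpn v18))
theorem f1493 : Led Lsl_dt v1 = v18 :=
  Lgr Lrot60 (Lpe (f30 IH) (Lpe (f33 IH) (Lpr_ff (f1491 IH) (Lpn v18))))
theorem f6985 : Led Lsl_at v18 = v56 :=
  Lgr Lrot51 (Lpe (f1493 IH) (Lpr_af (f450 IH) (Lpr_df (f6984 IH) (Lpn v56))))
theorem f6993 : Led Lsl_gt (LP (LK LD1_c0 LD2_c0 LD3_c32)) = v56 :=
  Lgr Lrot46 (Lpe (f93 IH) (Lpr_ft (f1486 IH) (Lpr_at (f6985 IH) (Lpn v56))))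
theorem f6986 : Led Lsl_dt v8 = v56 :=
  Lgr Lrot42 (Lpr_df (f6984 IH) (Lpn v56))
theorem f7228 : v56 = (LP (LK LD1_c0 LD2_c0 LD3_c25)) :=
  Lefun (Lecon (f6986 IH) (f7209 IH).symm) (f454 IH)
theorem f464 : Led Lsl_ct (LP (LK LD1_c0 LD2_c0 LD3_c25)) = (LP (LK LD1_c0 LD2_c1 LD3_c7)) :=
  Lre_c IH (LK LD1_c0 LD2_c0 LD3_c25) (LK LD1_c0 LD2_c1 LD3_c7) Lrfl Lrfl
theorem f1467 : Led Lsl_dt (LP (LK LD1_c0 LD2_c2 LD3_c43)) = (LP (LK LD1_c0 LD2_c1 LD3_c7)) :=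
  Lre_d IH (LK LD1_c0 LD2_c2 LD3_c43) (LK LD1_c0 LD2_c1 LD3_c7) Lrfl Lrfl
theorem f8253 : Led Lsl_ct (LP (LK LD1_c0 LD2_c3 LD3_c14)) = (LP (LK LD1_c0 LD2_c2 LD3_c43)) :=
  Lgr Lrot110 (Lpe (f7703 IH) (Lpe (f489 IH) (Lpe (f490 IH) (Lpr_df (f8123 IH) (Lpr_gt (f8249 IH) (Lpr_ct (f419 IH) (Lpr_gt (f6993 IH) (Lpqs (f7228 IH) (Lpr_ct (f464 IH) (Lpe (f1467 IH) (Lpn (LP (LK LD1_c0 LD2_c2 LD3_c43)))))))))))))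
theorem f6870 : Led Lsl_ct (LP (LK LD1_c0 LD2_c3 LD3_c37)) = (LP (LK LD1_c0 LD2_c1 LD3_c33)) :=
  Lre_c IH (LK LD1_c0 LD2_c3 LD3_c37) (LK LD1_c0 LD2_c1 LD3_c33) Lrfl Lrfl
theorem f7684 : Led Lsl_at (LP (LK LD1_c0 LD2_c1 LD3_c33)) = (LP (LK LD1_c0 LD2_c2 LD3_c43)) :=
  Lre_a IH (LK LD1_c0 LD2_c1 LD3_c33) (LK LD1_c0 LD2_c2 LD3_c43) Lrfl Lrfl
theorem f7685 : Led Lsl_ct (LP (LK LD1_c0 LD2_c2 LD3_c43)) = (LP (LK LD1_c0 LD2_c3 LD3_c14)) :=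
  Lgr Lrot111 (Lpe (f7684 IH) (Lpe (f6870 IH) (Lpr_af (f7676 IH) (Lpn (LP (LK LD1_c0 LD2_c3 LD3_c14))))))
theorem f8278 : Led Lsl_ff (LP (LK LD1_c0 LD2_c2 LD3_c43)) = (LP (LK LD1_c0 LD2_c2 LD3_c43)) :=
  Lgr Lrot23 (Lpr_ct (f7685 IH) (Lpr_ft (f7668 IH) (Lpr_ct (f8253 IH) (Lpn (LP (LK LD1_c0 LD2_c2 LD3_c43))))))
theorem f6875 : Led Lsl_at (LP (LK LD1_c0 LD2_c2 LD3_c43)) = (LP (LK LD1_c0 LD2_c1 LD3_c33)) :=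
  Lre_a IH (LK LD1_c0 LD2_c2 LD3_c43) (LK LD1_c0 LD2_c1 LD3_c33) Lrfl Lrfl
theorem f8292 : Led Lsl_gf (LP (LK LD1_c0 LD2_c1 LD3_c15)) = (LP (LK LD1_c0 LD2_c2 LD3_c43)) :=
  Lgr Lrot47 (Lpr_gt (f6872 IH) (Lpe (f6875 IH) (Lpr_ff (f8278 IH) (Lpn (LP (LK LD1_c0 LD2_c2 LD3_c43))))))
theorem f7054 : Led Lsl_et (LP (LK LD1_c0 LD2_c0 LD3_c30)) = (LP (LK LD1_c0 LD2_c1 LD3_c21)) :=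
  Lre_e IH (LK LD1_c0 LD2_c0 LD3_c30) (LK LD1_c0 LD2_c1 LD3_c21) Lrfl Lrfl
theorem f7880 : Led Lsl_gt (LP (LK LD1_c0 LD2_c1 LD3_c21)) = (LP (LK LD1_c0 LD2_c3 LD3_c16)) :=
  Lre_g IH (LK LD1_c0 LD2_c1 LD3_c21) (LK LD1_c0 LD2_c3 LD3_c16) Lrfl Lrfl
theorem f8300 : Led Lsl_et (LP (LK LD1_c0 LD2_c7 LD3_c16)) = (LP (LK LD1_c0 LD2_c3 LD3_c16)) :=
  Lre_e IH (LK LD1_c0 LD2_c7 LD3_c16) (LK LD1_c0 LD2_c3 LD3_c16) Lrfl Lrfl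
theorem f3076 : Led Lsl_dt (LP (LK LD1_c0 LD2_c7 LD3_c16)) = (LP (LK LD1_c0 LD2_c16 LD3_c12)) :=
  Lre_d IH (LK LD1_c0 LD2_c7 LD3_c16) (LK LD1_c0 LD2_c16 LD3_c12) Lrfl Lrfl
theorem f8288 : Led Lsl_et (LP (LK LD1_c0 LD2_c6 LD3_c0)) = (LP (LK LD1_c0 LD2_c2 LD3_c43)) :=
  Lre_e IH (LK LD1_c0 LD2_c6 LD3_c0) (LK LD1_c0 LD2_c2 LD3_c43) Lrfl Lrfl
theorem f8301 : Led Lsl_dt (LP (LK LD1_c0 LD2_c6 LD3_c0)) = (LP (LK LD1_c0 LD2_c13 LD3_c13)) :=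
  Lre_d IH (LK LD1_c0 LD2_c6 LD3_c0) (LK LD1_c0 LD2_c13 LD3_c13) Lrfl Lrfl
theorem f8302 : Led Lsl_gt (LP (LK LD1_c0 LD2_c16 LD3_c12)) = (LP (LK LD1_c0 LD2_c13 LD3_c13)) :=
  Lgr Lrot112 (Lpe (f3076 IH) (Lpr_et (f8300 IH) (Lpe (f7880 IH) (Lpe (f7054 IH) (Lpr_dt (f226 IH) (Lpe (f1473 IH) (Lpe (f1641 IH) (Lpr_gf (f8292 IH) (Lpe (f8288 IH) (Lpr_dt (f8301 IH) (Lpn (LP (LK LD1_c0 LD2_c13 LD3_c13)))))))))))))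
theorem f3073 : Led Lsl_gt (LP (LK LD1_c0 LD2_c16 LD3_c11)) = (LP (LK LD1_c0 LD2_c7 LD3_c16)) :=
  Lre_g IH (LK LD1_c0 LD2_c16 LD3_c11) (LK LD1_c0 LD2_c7 LD3_c16) Lrfl Lrfl
theorem f494 : Led Lsl_et (LP (LK LD1_c0 LD2_c2 LD3_c32)) = (LP (LK LD1_c0 LD2_c5 LD3_c34)) :=
  Lre_e IH (LK LD1_c0 LD2_c2 LD3_c32) (LK LD1_c0 LD2_c5 LD3_c34) Lrfl Lrfl
theorem f495 : Led Lsl_gt (LP (LK LD1_c0 LD2_c12 LD3_c5)) = (LP (LK LD1_c0 LD2_c5 LD3_c34)) :=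
  Lre_g IH (LK LD1_c0 LD2_c12 LD3_c5) (LK LD1_c0 LD2_c5 LD3_c34) Lrfl Lrfl
theorem f496 : Led Lsl_et (LP (LK LD1_c0 LD2_c27 LD3_c18)) = (LP (LK LD1_c0 LD2_c12 LD3_c5)) :=
  Lre_e IH (LK LD1_c0 LD2_c27 LD3_c18) (LK LD1_c0 LD2_c12 LD3_c5) Lrfl Lrfl
theorem f1483 : Led Lsl_dt (LP (LK LD1_c0 LD2_c1 LD3_c20)) = (LP (LK LD1_c0 LD2_c3 LD3_c14)) :=
  Lre_d IH (LK LD1_c0 LD2_c1 LD3_c20) (LK LD1_c0 LD2_c3 LD3_c14) Lrfl Lrfl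
theorem f7708 : Led Lsl_et (LP (LK LD1_c0 LD2_c1 LD3_c20)) = (LP (LK LD1_c0 LD2_c3 LD3_c15)) :=
  Lre_e IH (LK LD1_c0 LD2_c1 LD3_c20) (LK LD1_c0 LD2_c3 LD3_c15) Lrfl Lrfl
theorem f7709 : Led Lsl_gt (LP (LK LD1_c0 LD2_c3 LD3_c15)) = (LP (LK LD1_c0 LD2_c7 LD3_c10)) :=
  Lre_g IH (LK LD1_c0 LD2_c3 LD3_c15) (LK LD1_c0 LD2_c7 LD3_c10) Lrfl Lrfl
theorem f7713 : Led Lsl_dt (LP (LK LD1_c0 LD2_c7 LD3_c10)) = (LP (LK LD1_c0 LD2_c15 LD3_c57)) :=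
  Lre_d IH (LK LD1_c0 LD2_c7 LD3_c10) (LK LD1_c0 LD2_c15 LD3_c57) Lrfl Lrfl
theorem f7714 : Led Lsl_gt (LP (LK LD1_c0 LD2_c15 LD3_c57)) = (LP (LK LD1_c0 LD2_c35 LD3_c36)) :=
  Lre_g IH (LK LD1_c0 LD2_c15 LD3_c57) (LK LD1_c0 LD2_c35 LD3_c36) Lrfl Lrfl
theorem f7715 : Led Lsl_dt (LP (LK LD1_c0 LD2_c27 LD3_c18)) = (LP (LK LD1_c0 LD2_c35 LD3_c36)) :=
  Lgr Lrot56 (Lpr_et (f496 IH) (Lpr_gt (f495 IH) (Lpe (f494 IH) (Lpe (f474 IH) (Lpr_gt (f7703 IH) (Lpe (f1483 IH) (Lpr_et (f7708 IH) (Lpr_gt (f7709 IH) (Lpr_dt (f7713 IH) (Lpr_gt (f7714 IH) (Lpn (LP (LK LD1_c0 LD2_c35 LD3_c36)))))))))))))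
theorem f7723 : Led Lsl_df (LP (LK LD1_c0 LD2_c27 LD3_c18)) = (LP (LK LD1_c0 LD2_c35 LD3_c36)) :=
  Lgr Lrot38 (Lpr_dt (f7715 IH) (Lpn (LP (LK LD1_c0 LD2_c35 LD3_c36))))
theorem f7887 : Led Lsl_ct (LP (LK LD1_c0 LD2_c3 LD3_c15)) = (LP (LK LD1_c0 LD2_c1 LD3_c21)) :=
  Lre_c IH (LK LD1_c0 LD2_c3 LD3_c15) (LK LD1_c0 LD2_c1 LD3_c21) Lrfl Lrfl
theorem f3071 : Led Lsl_dt (LP (LK LD1_c0 LD2_c3 LD3_c16)) = (LP (LK LD1_c0 LD2_c7 LD3_c15)) :=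
  Lre_d IH (LK LD1_c0 LD2_c3 LD3_c16) (LK LD1_c0 LD2_c7 LD3_c15) Lrfl Lrfl
theorem f3070 : Led Lsl_gt (LP (LK LD1_c0 LD2_c7 LD3_c15)) = (LP (LK LD1_c0 LD2_c16 LD3_c7)) :=
  Lre_g IH (LK LD1_c0 LD2_c7 LD3_c15) (LK LD1_c0 LD2_c16 LD3_c7) Lrfl Lrfl
theorem f7881 : Led Lsl_dt (LP (LK LD1_c0 LD2_c16 LD3_c7)) = (LP (LK LD1_c0 LD2_c14 LD3_c17)) :=
  Lre_d IH (LK LD1_c0 LD2_c16 LD3_c7) (LK LD1_c0 LD2_c14 LD3_c17) Lrfl Lrfl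
theorem f7888 : Led Lsl_cf (LP (LK LD1_c0 LD2_c27 LD3_c18)) = (LP (LK LD1_c0 LD2_c14 LD3_c17)) :=
  Lgr Lrot14 (Lpr_df (f7723 IH) (Lpe (f7714 IH) (Lpe (f7713 IH) (Lpe (f7709 IH) (Lpr_ct (f7887 IH) (Lpr_gt (f7880 IH) (Lpr_dt (f3071 IH) (Lpr_gt (f3070 IH) (Lpr_dt (f7881 IH) (Lpn (LP (LK LD1_c0 LD2_c14 LD3_c17))))))))))))
theorem f7896 : Led Lsl_et (LP (LK LD1_c0 LD2_c6 LD3_c34)) = (LP (LK LD1_c0 LD2_c14 LD3_c17)) :=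
  Lre_e IH (LK LD1_c0 LD2_c6 LD3_c34) (LK LD1_c0 LD2_c14 LD3_c17) Lrfl Lrfl
theorem f7897 : Led Lsl_ct (LP (LK LD1_c0 LD2_c12 LD3_c5)) = (LP (LK LD1_c0 LD2_c6 LD3_c34)) :=
  Lgr Lrot15 (Lpe (f496 IH) (Lpr_cf (f7888 IH) (Lpe (f7896 IH) (Lpn (LP (LK LD1_c0 LD2_c6 LD3_c34))))))
theorem f1385 : Led Lsl_dt (LP (LK LD1_c0 LD2_c5 LD3_c34)) = (LP (LK LD1_c0 LD2_c12 LD3_c6)) :=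
  Lre_d IH (LK LD1_c0 LD2_c5 LD3_c34) (LK LD1_c0 LD2_c12 LD3_c6) Lrfl Lrfl
theorem f526 : Led Lsl_gt (LP (LK LD1_c0 LD2_c12 LD3_c6)) = (LP (LK LD1_c0 LD2_c27 LD3_c19)) :=
  Lre_g IH (LK LD1_c0 LD2_c12 LD3_c6) (LK LD1_c0 LD2_c27 LD3_c19) Lrfl Lrfl
theorem f3063 : Led Lsl_gt (LP (LK LD1_c0 LD2_c6 LD3_c34)) = (LP (LK LD1_c0 LD2_c2 LD3_c61)) :=
  Lre_g IH (LK LD1_c0 LD2_c6 LD3_c34) (LK LD1_c0 LD2_c2 LD3_c61) Lrfl Lrfl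
theorem f2124 : Led Lsl_at (LP (LK LD1_c0 LD2_c2 LD3_c57)) = (LP (LK LD1_c0 LD2_c2 LD3_c61)) :=
  Lgr Lrot100 (Lpr_af (f2122 IH) (Lpn (LP (LK LD1_c0 LD2_c2 LD3_c61))))
theorem f2133 : Led Lsl_dt (LP (LK LD1_c0 LD2_c2 LD3_c61)) = (LP (LK LD1_c0 LD2_c2 LD3_c61)) :=
  Lgr Lrot44 (Lpe (f2124 IH) (Lpe (f244 IH) (Lpr_af (f2122 IH) (Lpn (LP (LK LD1_c0 LD2_c2 LD3_c61))))))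
theorem f3057 : Led Lsl_gt (LP (LK LD1_c0 LD2_c2 LD3_c61)) = (LP (LK LD1_c0 LD2_c6 LD3_c33)) :=
  Lre_g IH (LK LD1_c0 LD2_c2 LD3_c61) (LK LD1_c0 LD2_c6 LD3_c33) Lrfl Lrfl
theorem f3061 : Led Lsl_dt (LP (LK LD1_c0 LD2_c6 LD3_c33)) = (LP (LK LD1_c0 LD2_c14 LD3_c14)) :=
  Lre_d IH (LK LD1_c0 LD2_c6 LD3_c33) (LK LD1_c0 LD2_c14 LD3_c14) Lrfl Lrfl
theorem f3066 : Led Lsl_ct (LP (LK LD1_c0 LD2_c14 LD3_c14)) = (LP (LK LD1_c0 LD2_c31 LD3_c57)) :=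
  Lre_c IH (LK LD1_c0 LD2_c14 LD3_c14) (LK LD1_c0 LD2_c31 LD3_c57) Lrfl Lrfl
theorem f7911 : Led Lsl_dt (LP (LK LD1_c0 LD2_c27 LD3_c19)) = (LP (LK LD1_c0 LD2_c31 LD3_c57)) :=
  Lgr Lrot113 (Lpe (f526 IH) (Lpe (f1385 IH) (Lpe (f495 IH) (Lpr_ct (f7897 IH) (Lpr_gt (f3063 IH) (Lpr_dt (f2133 IH) (Lpr_gt (f3057 IH) (Lpr_dt (f3061 IH) (Lpr_ct (f3066 IH) (Lpn (LP (LK LD1_c0 LD2_c31 LD3_c57))))))))))))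
theorem f7918 : Led Lsl_df (LP (LK LD1_c0 LD2_c27 LD3_c19)) = (LP (LK LD1_c0 LD2_c31 LD3_c57)) :=
  Lgr Lrot38 (Lpr_dt (f7911 IH) (Lpn (LP (LK LD1_c0 LD2_c31 LD3_c57))))
theorem f7737 : Led Lsl_et (LP (LK LD1_c0 LD2_c7 LD3_c10)) = (LP (LK LD1_c0 LD2_c15 LD3_c58)) :=
  Lre_e IH (LK LD1_c0 LD2_c7 LD3_c10) (LK LD1_c0 LD2_c15 LD3_c58) Lrfl Lrfl
theorem f7738 : Led Lsl_gt (LP (LK LD1_c0 LD2_c35 LD3_c40)) = (LP (LK LD1_c0 LD2_c15 LD3_c58)) :=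
  Lre_g IH (LK LD1_c0 LD2_c35 LD3_c40) (LK LD1_c0 LD2_c15 LD3_c58) Lrfl Lrfl
theorem f7933 : Led Lsl_ef (LP (LK LD1_c0 LD2_c35 LD3_c40)) = (LP (LK LD1_c0 LD2_c31 LD3_c57)) :=
  Lgr Lrot114 (Lpr_gt (f7738 IH) (Lpe (f7737 IH) (Lpr_dt (f7713 IH) (Lpr_gt (f7714 IH) (Lpe (f7715 IH) (Lpr_et (f496 IH) (Lpr_gt (f495 IH) (Lpr_dt (f1385 IH) (Lpr_gt (f526 IH) (Lpr_df (f7918 IH) (Lpn (LP (LK LD1_c0 LD2_c31 LD3_c57)))))))))))))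
theorem f3068 : Led Lsl_et (LP (LK LD1_c0 LD2_c14 LD3_c17)) = (LP (LK LD1_c0 LD2_c6 LD3_c34)) :=
  Lre_e IH (LK LD1_c0 LD2_c14 LD3_c17) (LK LD1_c0 LD2_c6 LD3_c34) Lrfl Lrfl
theorem f3069 : Led Lsl_dt (LP (LK LD1_c0 LD2_c14 LD3_c17)) = (LP (LK LD1_c0 LD2_c16 LD3_c7)) :=
  Lre_d IH (LK LD1_c0 LD2_c14 LD3_c17) (LK LD1_c0 LD2_c16 LD3_c7) Lrfl Lrfl
theorem f3072 : Led Lsl_et (LP (LK LD1_c0 LD2_c3 LD3_c16)) = (LP (LK LD1_c0 LD2_c7 LD3_c16)) :=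
  Lre_e IH (LK LD1_c0 LD2_c3 LD3_c16) (LK LD1_c0 LD2_c7 LD3_c16) Lrfl Lrfl
theorem f3060 : Led Lsl_dt (LP (LK LD1_c0 LD2_c14 LD3_c14)) = (LP (LK LD1_c0 LD2_c6 LD3_c33)) :=
  Lre_d IH (LK LD1_c0 LD2_c14 LD3_c14) (LK LD1_c0 LD2_c6 LD3_c33) Lrfl Lrfl
theorem f3074 : Led Lsl_ef (LP (LK LD1_c0 LD2_c16 LD3_c11)) = (LP (LK LD1_c0 LD2_c14 LD3_c14)) :=
  Lgr Lrot114 (Lpr_gt (f3073 IH) (Lpe (f3072 IH) (Lpr_dt (f3071 IH) (Lpr_gt (f3070 IH) (Lpe (f3069 IH) (Lpr_et (f3068 IH) (Lpr_gt (f3063 IH) (Lpr_dt (f2133 IH) (Lpr_gt (f3057 IH) (Lpe (f3060 IH) (Lpn (LP (LK LD1_c0 LD2_c14 LD3_c14)))))))))))))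
theorem f3077 : Led Lsl_et (LP (LK LD1_c0 LD2_c16 LD3_c11)) = (LP (LK LD1_c0 LD2_c14 LD3_c14)) :=
  Lgr Lrot87 (Lpr_ef (f3074 IH) (Lpn (LP (LK LD1_c0 LD2_c14 LD3_c14))))
theorem f7935 : Led Lsl_ct (LP (LK LD1_c0 LD2_c35 LD3_c40)) = (LP (LK LD1_c0 LD2_c16 LD3_c11)) :=
  Lgr Lrot15 (Lpr_ef (f7933 IH) (Lpe (f3066 IH) (Lpe (f3077 IH) (Lpn (LP (LK LD1_c0 LD2_c16 LD3_c11))))))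
theorem f8383 : Led Lsl_dt (LP (LK LD1_c0 LD2_c13 LD3_c13)) = (LP (LK LD1_c0 LD2_c6 LD3_c0)) :=
  Lre_d IH (LK LD1_c0 LD2_c13 LD3_c13) (LK LD1_c0 LD2_c6 LD3_c0) Lrfl Lrfl
theorem f8275 : Led Lsl_et (LP (LK LD1_c0 LD2_c2 LD3_c43)) = (LP (LK LD1_c0 LD2_c6 LD3_c0)) :=
  Lre_e IH (LK LD1_c0 LD2_c2 LD3_c43) (LK LD1_c0 LD2_c6 LD3_c0) Lrfl Lrfl
theorem f8276 : Led Lsl_cf (LP (LK LD1_c0 LD2_c7 LD3_c9)) = (LP (LK LD1_c0 LD2_c6 LD3_c0)) :=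
  Lgr Lrot39 (Lpr_et (f7665 IH) (Lpr_ct (f8253 IH) (Lpr_et (f8275 IH) (Lpn (LP (LK LD1_c0 LD2_c6 LD3_c0))))))
theorem f8387 : Led Lsl_dt (LP (LK LD1_c0 LD2_c15 LD3_c54)) = (LP (LK LD1_c0 LD2_c7 LD3_c9)) :=
  Lre_d IH (LK LD1_c0 LD2_c15 LD3_c54) (LK LD1_c0 LD2_c7 LD3_c9) Lrfl Lrfl
theorem f8388 : Led Lsl_gt (LP (LK LD1_c0 LD2_c35 LD3_c29)) = (LP (LK LD1_c0 LD2_c15 LD3_c54)) :=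
  Lre_g IH (LK LD1_c0 LD2_c35 LD3_c29) (LK LD1_c0 LD2_c15 LD3_c54) Lrfl Lrfl
theorem f8389 : Led Lsl_dt (LP (LK LD1_c0 LD2_c15 LD3_c58)) = (LP (LK LD1_c0 LD2_c35 LD3_c29)) :=
  Lgr Lrot115 (Lpe (f7738 IH) (Lpr_ct (f7935 IH) (Lpr_gt (f3073 IH) (Lpr_dt (f3076 IH) (Lpr_gt (f8302 IH) (Lpr_dt (f8383 IH) (Lpe (f8276 IH) (Lpe (f8387 IH) (Lpe (f8388 IH) (Lpn (LP (LK LD1_c0 LD2_c35 LD3_c29))))))))))))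
theorem f7938 : Led Lsl_et (LP (LK LD1_c0 LD2_c35 LD3_c40)) = (LP (LK LD1_c0 LD2_c31 LD3_c57)) :=
  Lgr Lrot87 (Lpr_ef (f7933 IH) (Lpn (LP (LK LD1_c0 LD2_c31 LD3_c57))))
theorem f3064 : Led Lsl_ct (LP (LK LD1_c0 LD2_c31 LD3_c57)) = (LP (LK LD1_c0 LD2_c14 LD3_c14)) :=
  Lre_c IH (LK LD1_c0 LD2_c31 LD3_c57) (LK LD1_c0 LD2_c14 LD3_c14) Lrfl Lrfl
theorem f7940 : Led Lsl_cf (LP (LK LD1_c0 LD2_c35 LD3_c40)) = (LP (LK LD1_c0 LD2_c16 LD3_c11)) :=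
  Lgr Lrot39 (Lpr_et (f7938 IH) (Lpr_ct (f3064 IH) (Lpe (f3074 IH) (Lpn (LP (LK LD1_c0 LD2_c16 LD3_c11))))))
theorem f8433 : Led Lsl_cf (LP (LK LD1_c0 LD2_c6 LD3_c0)) = (LP (LK LD1_c0 LD2_c7 LD3_c9)) :=
  Lgr Lrot14 (Lpe (f8383 IH) (Lpe (f8302 IH) (Lpe (f3076 IH) (Lpe (f3073 IH) (Lpe (f7940 IH) (Lpr_gt (f7738 IH) (Lpr_dt (f8389 IH) (Lpr_gt (f8388 IH) (Lpr_dt (f8387 IH) (Lpn (LP (LK LD1_c0 LD2_c7 LD3_c9))))))))))))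
theorem f8392 : Led Lsl_ct (LP (LK LD1_c0 LD2_c13 LD3_c13)) = (LP (LK LD1_c0 LD2_c29 LD3_c55)) :=
  Lre_c IH (LK LD1_c0 LD2_c13 LD3_c13) (LK LD1_c0 LD2_c29 LD3_c55) Lrfl Lrfl
theorem f8395 : Led Lsl_dt (LP (LK LD1_c0 LD2_c29 LD3_c55)) = (LP (LK LD1_c1 LD2_c5 LD3_c24)) :=
  Lre_d IH (LK LD1_c0 LD2_c29 LD3_c55) (LK LD1_c1 LD2_c5 LD3_c24) Lrfl Lrfl
theorem f8446 : Led Lsl_ct (LP (LK LD1_c1 LD2_c5 LD3_c24)) = (LP (LK LD1_c2 LD2_c16 LD3_c58)) :=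
  Lre_c IH (LK LD1_c1 LD2_c5 LD3_c24) (LK LD1_c2 LD2_c16 LD3_c58) Lrfl Lrfl
theorem f8447 : Led Lsl_dt (LP (LK LD1_c2 LD2_c16 LD3_c58)) = (LP (LK LD1_c1 LD2_c25 LD3_c27)) :=
  Lre_d IH (LK LD1_c2 LD2_c16 LD3_c58) (LK LD1_c1 LD2_c25 LD3_c27) Lrfl Lrfl
theorem f8448 : Led Lsl_ct (LP (LK LD1_c1 LD2_c25 LD3_c27)) = (LP (LK LD1_c0 LD2_c39 LD3_c22)) :=
  Lre_c IH (LK LD1_c1 LD2_c25 LD3_c27) (LK LD1_c0 LD2_c39 LD3_c22) Lrfl Lrfl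
theorem f8467 : Led Lsl_ft (LP (LK LD1_c0 LD2_c15 LD3_c54)) = (LP (LK LD1_c0 LD2_c35 LD3_c31)) :=
  Lre_f IH (LK LD1_c0 LD2_c15 LD3_c54) (LK LD1_c0 LD2_c35 LD3_c31) Lrfl Lrfl
theorem f8468 : Led Lsl_af (LP (LK LD1_c0 LD2_c39 LD3_c22)) = (LP (LK LD1_c0 LD2_c35 LD3_c31)) :=
  Lgr Lrot109 (Lpe (f8448 IH) (Lpe (f8447 IH) (Lpe (f8446 IH) (Lpe (f8395 IH) (Lpe (f8392 IH) (Lpe (f8301 IH) (Lpr_cf (f8433 IH) (Lpe (f8387 IH) (Lpr_ft (f8467 IH) (Lpn (LP (LK LD1_c0 LD2_c35 LD3_c31))))))))))))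
theorem f8502 : Led Lsl_ft (LP (LK LD1_c0 LD2_c39 LD3_c22)) = (LP (LK LD1_c0 LD2_c17 LD3_c36)) :=
  Lre_f IH (LK LD1_c0 LD2_c39 LD3_c22) (LK LD1_c0 LD2_c17 LD3_c36) Lrfl Lrfl
theorem f8503 : Led Lsl_at (LP (LK LD1_c0 LD2_c17 LD3_c36)) = (LP (LK LD1_c0 LD2_c15 LD3_c54)) :=
  Lgr Lrot66 (Lpe (f8502 IH) (Lpr_af (f8468 IH) (Lpe (f8467 IH) (Lpn (LP (LK LD1_c0 LD2_c15 LD3_c54))))))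
theorem f8541 : Led Lsl_et (LP (LK LD1_c0 LD2_c15 LD3_c54)) = (LP (LK LD1_c0 LD2_c7 LD3_c12)) :=
  Lre_e IH (LK LD1_c0 LD2_c15 LD3_c54) (LK LD1_c0 LD2_c7 LD3_c12) Lrfl Lrfl
theorem f8542 : Led Lsl_at (LP (LK LD1_c0 LD2_c7 LD3_c12)) = (LP (LK LD1_c0 LD2_c12 LD3_c40)) :=
  Lre_a IH (LK LD1_c0 LD2_c7 LD3_c12) (LK LD1_c0 LD2_c12 LD3_c40) Lrfl Lrfl
theorem f8543 : Led Lsl_ef (LP (LK LD1_c0 LD2_c17 LD3_c36)) = (LP (LK LD1_c0 LD2_c12 LD3_c40)) :=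
  Lgr Lrot20 (Lpr_at (f8503 IH) (Lpr_et (f8541 IH) (Lpr_at (f8542 IH) (Lpn (LP (LK LD1_c0 LD2_c12 LD3_c40))))))
theorem f8567 : Led Lsl_ft (LP (LK LD1_c0 LD2_c17 LD3_c36)) = (LP (LK LD1_c0 LD2_c39 LD3_c22)) :=
  Lre_f IH (LK LD1_c0 LD2_c17 LD3_c36) (LK LD1_c0 LD2_c39 LD3_c22) Lrfl Lrfl
theorem f8499 : Led Lsl_et (LP (LK LD1_c0 LD2_c39 LD3_c22)) = (LP (LK LD1_c1 LD2_c25 LD3_c28)) :=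
  Lre_e IH (LK LD1_c0 LD2_c39 LD3_c22) (LK LD1_c1 LD2_c25 LD3_c28) Lrfl Lrfl
theorem f8568 : Led Lsl_ft (LP (LK LD1_c0 LD2_c28 LD3_c44)) = (LP (LK LD1_c0 LD2_c12 LD3_c40)) :=
  Lre_f IH (LK LD1_c0 LD2_c28 LD3_c44) (LK LD1_c0 LD2_c12 LD3_c40) Lrfl Lrfl
theorem f8569 : Led Lsl_et (LP (LK LD1_c1 LD2_c3 LD3_c3)) = (LP (LK LD1_c0 LD2_c28 LD3_c44)) :=
  Lre_e IH (LK LD1_c1 LD2_c3 LD3_c3) (LK LD1_c0 LD2_c28 LD3_c44) Lrfl Lrfl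
theorem f8570 : Led Lsl_ft (LP (LK LD1_c1 LD2_c25 LD3_c28)) = (LP (LK LD1_c1 LD2_c3 LD3_c3)) :=
  Lgr Lrot86 (Lpe (f8499 IH) (Lpe (f8567 IH) (Lpr_ef (f8543 IH) (Lpe (f8568 IH) (Lpe (f8569 IH) (Lpn (LP (LK LD1_c1 LD2_c3 LD3_c3))))))))
theorem f8592 : Led Lsl_ff (LP (LK LD1_c1 LD2_c25 LD3_c28)) = (LP (LK LD1_c1 LD2_c3 LD3_c3)) :=
  Lgr Lrot3 (Lpr_ft (f8570 IH) (Lpn (LP (LK LD1_c1 LD2_c3 LD3_c3))))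
theorem f7589 : Led Lsl_at (LP (LK LD1_c0 LD2_c36 LD3_c1)) = (LP (LK LD1_c1 LD2_c3 LD3_c3)) :=
  Lre_a IH (LK LD1_c0 LD2_c36 LD3_c1) (LK LD1_c1 LD2_c3 LD3_c3) Lrfl Lrfl
theorem f7590 : Led Lsl_at (LP (LK LD1_c1 LD2_c3 LD3_c3)) = (LP (LK LD1_c0 LD2_c36 LD3_c1)) :=
  Lre_a IH (LK LD1_c1 LD2_c3 LD3_c3) (LK LD1_c0 LD2_c36 LD3_c1) Lrfl Lrfl
theorem f7591 : Led Lsl_dt (LP (LK LD1_c1 LD2_c3 LD3_c3)) = (LP (LK LD1_c1 LD2_c3 LD3_c3)) :=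
  Lgr Lrot44 (Lpe (f7589 IH) (Lpr_df (f7587 IH) (Lpe (f7590 IH) (Lpn (LP (LK LD1_c1 LD2_c3 LD3_c3))))))
theorem f8616 : Led Lsl_dt (LP (LK LD1_c1 LD2_c25 LD3_c28)) = (LP (LK LD1_c1 LD2_c25 LD3_c28)) :=
  Lgr Lrot60 (Lpr_ff (f8592 IH) (Lpe (f7591 IH) (Lpe (f8570 IH) (Lpn (LP (LK LD1_c1 LD2_c25 LD3_c28))))))
theorem f8589 : Led Lsl_ct (LP (LK LD1_c2 LD2_c59 LD3_c35)) = (LP (LK LD1_c1 LD2_c25 LD3_c28)) :=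
  Lre_c IH (LK LD1_c2 LD2_c59 LD3_c35) (LK LD1_c1 LD2_c25 LD3_c28) Lrfl Lrfl
theorem f8641 : Led Lsl_dt (LP (LK LD1_c6 LD2_c6 LD3_c56)) = (LP (LK LD1_c2 LD2_c59 LD3_c35)) :=
  Lre_d IH (LK LD1_c6 LD2_c6 LD3_c56) (LK LD1_c2 LD2_c59 LD3_c35) Lrfl Lrfl
theorem f8596 : Led Lsl_ct (LP (LK LD1_c1 LD2_c25 LD3_c28)) = (LP (LK LD1_c2 LD2_c59 LD3_c35)) :=
  Lre_c IH (LK LD1_c1 LD2_c25 LD3_c28) (LK LD1_c2 LD2_c59 LD3_c35) Lrfl Lrfl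
theorem f8642 : Led Lsl_dt (LP (LK LD1_c2 LD2_c59 LD3_c35)) = (LP (LK LD1_c6 LD2_c6 LD3_c56)) :=
  Lre_d IH (LK LD1_c2 LD2_c59 LD3_c35) (LK LD1_c6 LD2_c6 LD3_c56) Lrfl Lrfl
theorem f8643 : Led Lsl_cf (LP (LK LD1_c11 LD2_c2 LD3_c13)) = (LP (LK LD1_c6 LD2_c6 LD3_c56)) :=
  Lgr Lrot116 (Lpr_dt (f7560 IH) (Lpr_ct (f7584 IH) (Lpr_dt (f7585 IH) (Lpr_ct (f7586 IH) (Lpe (f7590 IH) (Lpe (f8570 IH) (Lpr_dt (f8616 IH) (Lpr_ct (f8596 IH) (Lpr_dt (f8642 IH) (Lpn (LP (LK LD1_c6 LD2_c6 LD3_c56))))))))))))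
theorem f7559 : Led Lsl_at (LP (LK LD1_c5 LD2_c34 LD3_c59)) = (LP (LK LD1_c8 LD2_c59 LD3_c46)) :=
  Lre_a IH (LK LD1_c5 LD2_c34 LD3_c59) (LK LD1_c8 LD2_c59 LD3_c46) Lrfl Lrfl
theorem f7561 : Led Lsl_af (LP (LK LD1_c11 LD2_c2 LD3_c13)) = (LP (LK LD1_c10 LD2_c45 LD3_c53)) :=
  Lgr Lrot117 (Lpr_dt (f7560 IH) (Lpr_at (f7559 IH) (Lpr_dt (f7553 IH) (Lpn (LP (LK LD1_c10 LD2_c45 LD3_c53))))))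
theorem f7558 : Led Lsl_ft (LP (LK LD1_c5 LD2_c34 LD3_c59)) = (LP (LK LD1_c10 LD2_c45 LD3_c53)) :=
  Lre_f IH (LK LD1_c5 LD2_c34 LD3_c59) (LK LD1_c10 LD2_c45 LD3_c53) Lrfl Lrfl
theorem f8648 : Led Lsl_cf (LP (LK LD1_c6 LD2_c6 LD3_c56)) = (LP (LK LD1_c11 LD2_c2 LD3_c13)) :=
  Lgr Lrot118 (Lpr_dt (f8641 IH) (Lpr_ct (f8589 IH) (Lpr_dt (f8616 IH) (Lpr_ct (f8596 IH) (Lpr_dt (f8642 IH) (Lpe (f8643 IH) (Lpr_af (f7561 IH) (Lpe (f7558 IH) (Lpr_dt (f7568 IH) (Lpn (LP (LK LD1_c11 LD2_c2 LD3_c13))))))))))))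
theorem f8650 : Led Lsl_ft (LP (LK LD1_c1 LD2_c18 LD3_c6)) = (LP (LK LD1_c2 LD2_c40 LD3_c3)) :=
  Lre_f IH (LK LD1_c1 LD2_c18 LD3_c6) (LK LD1_c2 LD2_c40 LD3_c3) Lrfl Lrfl
theorem f8651 : Led Lsl_at (LP (LK LD1_c2 LD2_c40 LD3_c3)) = (LP (LK LD1_c2 LD2_c59 LD3_c35)) :=
  Lgr Lrot33 (Lpe (f8650 IH) (Lpr_dt (f7582 IH) (Lpr_ct (f7581 IH) (Lpr_dt (f7568 IH) (Lpe (f8648 IH) (Lpr_dt (f8641 IH) (Lpr_ct (f8589 IH) (Lpr_dt (f8616 IH) (Lpr_ct (f8596 IH) (Lpn (LP (LK LD1_c2 LD2_c59 LD3_c35))))))))))))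
theorem f8656 : Led Lsl_bt (LP (LK LD1_c5 LD2_c27 LD3_c19)) = (LP (LK LD1_c2 LD2_c40 LD3_c3)) :=
  Lre_b IH (LK LD1_c5 LD2_c27 LD3_c19) (LK LD1_c2 LD2_c40 LD3_c3) Lrfl Lrfl
theorem f8657 : Led Lsl_at (LP (LK LD1_c10 LD2_c45 LD3_c10)) = (LP (LK LD1_c5 LD2_c27 LD3_c19)) :=
  Lre_a IH (LK LD1_c10 LD2_c45 LD3_c10) (LK LD1_c5 LD2_c27 LD3_c19) Lrfl Lrfl
theorem f8608 : Led Lsl_bt (LP (LK LD1_c2 LD2_c59 LD3_c35)) = (LP (LK LD1_c6 LD2_c6 LD3_c50)) :=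
  Lre_b IH (LK LD1_c2 LD2_c59 LD3_c35) (LK LD1_c6 LD2_c6 LD3_c50) Lrfl Lrfl
theorem f8658 : Led Lsl_at (LP (LK LD1_c6 LD2_c6 LD3_c50)) = (LP (LK LD1_c11 LD2_c56 LD3_c24)) :=
  Lre_a IH (LK LD1_c6 LD2_c6 LD3_c50) (LK LD1_c11 LD2_c56 LD3_c24) Lrfl Lrfl
theorem f8659 : Led Lsl_bf (LP (LK LD1_c10 LD2_c45 LD3_c10)) = (LP (LK LD1_c11 LD2_c56 LD3_c24)) :=
  Lgr Lrot81 (Lpr_at (f8657 IH) (Lpr_bt (f8656 IH) (Lpr_at (f8651 IH) (Lpr_bt (f8608 IH) (Lpr_at (f8658 IH) (Lpn (LP (LK LD1_c11 LD2_c56 LD3_c24))))))))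
theorem f8722 : Led Lsl_ft (LP (LK LD1_c10 LD2_c45 LD3_c10)) = (LP (LK LD1_c5 LD2_c33 LD3_c45)) :=
  Lre_f IH (LK LD1_c10 LD2_c45 LD3_c10) (LK LD1_c5 LD2_c33 LD3_c45) Lrfl Lrfl
theorem f8723 : Led Lsl_bt (LP (LK LD1_c5 LD2_c33 LD3_c45)) = (LP (LK LD1_c8 LD2_c58 LD3_c52)) :=
  Lre_b IH (LK LD1_c5 LD2_c33 LD3_c45) (LK LD1_c8 LD2_c58 LD3_c52) Lrfl Lrfl
theorem f8724 : Led Lsl_ft (LP (LK LD1_c8 LD2_c58 LD3_c52)) = (LP (LK LD1_c11 LD2_c56 LD3_c24)) :=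
  Lgr Lrot75 (Lpe (f8723 IH) (Lpe (f8722 IH) (Lpr_bf (f8659 IH) (Lpn (LP (LK LD1_c11 LD2_c56 LD3_c24))))))
theorem f8748 : Led Lsl_ff (LP (LK LD1_c8 LD2_c58 LD3_c52)) = (LP (LK LD1_c11 LD2_c56 LD3_c24)) :=
  Lgr Lrot3 (Lpr_ft (f8724 IH) (Lpn (LP (LK LD1_c11 LD2_c56 LD3_c24))))
theorem f8770 : Led Lsl_et (LP (LK LD1_c8 LD2_c58 LD3_c52)) = (LP (LK LD1_c4 LD2_c30 LD3_c19)) :=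
  Lre_e IH (LK LD1_c8 LD2_c58 LD3_c52) (LK LD1_c4 LD2_c30 LD3_c19) Lrfl Lrfl
theorem f8771 : Led Lsl_ft (LP (LK LD1_c4 LD2_c30 LD3_c19)) = (LP (LK LD1_c2 LD2_c12 LD3_c12)) :=
  Lre_f IH (LK LD1_c4 LD2_c30 LD3_c19) (LK LD1_c2 LD2_c12 LD3_c12) Lrfl Lrfl
theorem f8719 : Led Lsl_et (LP (LK LD1_c6 LD2_c6 LD3_c40)) = (LP (LK LD1_c11 LD2_c56 LD3_c24)) :=
  Lre_e IH (LK LD1_c6 LD2_c6 LD3_c40) (LK LD1_c11 LD2_c56 LD3_c24) Lrfl Lrfl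
theorem f8772 : Led Lsl_ft (LP (LK LD1_c2 LD2_c59 LD3_c29)) = (LP (LK LD1_c6 LD2_c6 LD3_c40)) :=
  Lre_f IH (LK LD1_c2 LD2_c59 LD3_c29) (LK LD1_c6 LD2_c6 LD3_c40) Lrfl Lrfl
theorem f8773 : Led Lsl_et (LP (LK LD1_c2 LD2_c12 LD3_c12)) = (LP (LK LD1_c2 LD2_c59 LD3_c29)) :=
  Lgr Lrot69 (Lpe (f8771 IH) (Lpe (f8770 IH) (Lpr_ff (f8748 IH) (Lpe (f8719 IH) (Lpe (f8772 IH) (Lpn (LP (LK LD1_c2 LD2_c59 LD3_c29))))))))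
theorem f8801 : Led Lsl_dt (LP (LK LD1_c4 LD2_c30 LD3_c30)) = (LP (LK LD1_c2 LD2_c12 LD3_c12)) :=
  Lre_d IH (LK LD1_c4 LD2_c30 LD3_c30) (LK LD1_c2 LD2_c12 LD3_c12) Lrfl Lrfl
theorem f8802 : Led Lsl_et (LP (LK LD1_c8 LD2_c59 LD3_c20)) = (LP (LK LD1_c4 LD2_c30 LD3_c30)) :=
  Lre_e IH (LK LD1_c8 LD2_c59 LD3_c20) (LK LD1_c4 LD2_c30 LD3_c30) Lrfl Lrfl
theorem f8803 : Led Lsl_dt (LP (LK LD1_c2 LD2_c59 LD3_c29)) = (LP (LK LD1_c6 LD2_c6 LD3_c45)) :=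
  Lre_d IH (LK LD1_c2 LD2_c59 LD3_c29) (LK LD1_c6 LD2_c6 LD3_c45) Lrfl Lrfl
theorem f8804 : Led Lsl_et (LP (LK LD1_c6 LD2_c6 LD3_c45)) = (LP (LK LD1_c11 LD2_c56 LD3_c34)) :=
  Lre_e IH (LK LD1_c6 LD2_c6 LD3_c45) (LK LD1_c11 LD2_c56 LD3_c34) Lrfl Lrfl
theorem f8805 : Led Lsl_df (LP (LK LD1_c8 LD2_c59 LD3_c20)) = (LP (LK LD1_c11 LD2_c56 LD3_c34)) :=
  Lgr Lrot70 (Lpr_et (f8802 IH) (Lpr_dt (f8801 IH) (Lpr_et (f8773 IH) (Lpr_dt (f8803 IH) (Lpr_et (f8804 IH) (Lpn (LP (LK LD1_c11 LD2_c56 LD3_c34))))))))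
theorem f8820 : Led Lsl_dt (LP (LK LD1_c8 LD2_c59 LD3_c20)) = (LP (LK LD1_c11 LD2_c56 LD3_c34)) :=
  Lgr Lrot42 (Lpr_df (f8805 IH) (Lpn (LP (LK LD1_c11 LD2_c56 LD3_c34))))
theorem f8832 : Led Lsl_bt (LP (LK LD1_c5 LD2_c34 LD3_c22)) = (LP (LK LD1_c8 LD2_c59 LD3_c20)) :=
  Lre_b IH (LK LD1_c5 LD2_c34 LD3_c22) (LK LD1_c8 LD2_c59 LD3_c20) Lrfl Lrfl
theorem f8833 : Led Lsl_dt (LP (LK LD1_c10 LD2_c45 LD3_c36)) = (LP (LK LD1_c5 LD2_c34 LD3_c22)) :=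
  Lre_d IH (LK LD1_c10 LD2_c45 LD3_c36) (LK LD1_c5 LD2_c34 LD3_c22) Lrfl Lrfl
theorem f8834 : Led Lsl_bf (LP (LK LD1_c10 LD2_c45 LD3_c36)) = (LP (LK LD1_c11 LD2_c56 LD3_c34)) :=
  Lgr Lrot93 (Lpr_dt (f8833 IH) (Lpr_bt (f8832 IH) (Lpr_dt (f8820 IH) (Lpn (LP (LK LD1_c11 LD2_c56 LD3_c34))))))
theorem f8846 : Led Lsl_et (LP (LK LD1_c10 LD2_c45 LD3_c36)) = (LP (LK LD1_c5 LD2_c27 LD3_c14)) :=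
  Lre_e IH (LK LD1_c10 LD2_c45 LD3_c36) (LK LD1_c5 LD2_c27 LD3_c14) Lrfl Lrfl
theorem f8847 : Led Lsl_bt (LP (LK LD1_c5 LD2_c27 LD3_c14)) = (LP (LK LD1_c6 LD2_c6 LD3_c45)) :=
  Lgr Lrot119 (Lpe (f8846 IH) (Lpr_bf (f8834 IH) (Lpe (f8804 IH) (Lpn (LP (LK LD1_c6 LD2_c6 LD3_c45))))))
theorem f8863 : Led Lsl_ft (LP (LK LD1_c6 LD2_c6 LD3_c45)) = (LP (LK LD1_c9 LD2_c15 LD3_c15)) :=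
  Lre_f IH (LK LD1_c6 LD2_c6 LD3_c45) (LK LD1_c9 LD2_c15 LD3_c15) Lrfl Lrfl
theorem f8864 : Led Lsl_bt (LP (LK LD1_c9 LD2_c15 LD3_c15)) = (LP (LK LD1_c6 LD2_c8 LD3_c21)) :=
  Lre_b IH (LK LD1_c9 LD2_c15 LD3_c15) (LK LD1_c6 LD2_c8 LD3_c21) Lrfl Lrfl
theorem f8865 : Led Lsl_ff (LP (LK LD1_c5 LD2_c27 LD3_c14)) = (LP (LK LD1_c6 LD2_c8 LD3_c21)) :=
  Lgr Lrot25 (Lpr_bt (f8847 IH) (Lpr_ft (f8863 IH) (Lpr_bt (f8864 IH) (Lpn (LP (LK LD1_c6 LD2_c8 LD3_c21))))))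
theorem f8881 : Led Lsl_ft (LP (LK LD1_c5 LD2_c27 LD3_c14)) = (LP (LK LD1_c6 LD2_c8 LD3_c21)) :=
  Lgr Lrot48 (Lpr_ff (f8865 IH) (Lpn (LP (LK LD1_c6 LD2_c8 LD3_c21))))
theorem f8862 : Led Lsl_dt (LP (LK LD1_c2 LD2_c39 LD3_c60)) = (LP (LK LD1_c5 LD2_c27 LD3_c14)) :=
  Lre_d IH (LK LD1_c2 LD2_c39 LD3_c60) (LK LD1_c5 LD2_c27 LD3_c14) Lrfl Lrfl
theorem f8916 : Led Lsl_ft (LP (LK LD1_c5 LD2_c27 LD3_c3)) = (LP (LK LD1_c2 LD2_c39 LD3_c60)) :=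
  Lre_f IH (LK LD1_c5 LD2_c27 LD3_c3) (LK LD1_c2 LD2_c39 LD3_c60) Lrfl Lrfl
theorem f8917 : Led Lsl_df (LP (LK LD1_c5 LD2_c27 LD3_c3)) = (LP (LK LD1_c6 LD2_c8 LD3_c21)) :=
  Lgr Lrot78 (Lpr_ft (f8916 IH) (Lpr_dt (f8862 IH) (Lpr_ft (f8881 IH) (Lpn (LP (LK LD1_c6 LD2_c8 LD3_c21))))))
theorem f8934 : Led Lsl_at (LP (LK LD1_c5 LD2_c27 LD3_c3)) = (LP (LK LD1_c2 LD2_c40 LD3_c0)) :=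
  Lre_a IH (LK LD1_c5 LD2_c27 LD3_c3) (LK LD1_c2 LD2_c40 LD3_c0) Lrfl Lrfl
theorem f8870 : Led Lsl_at (LP (LK LD1_c3 LD2_c0 LD3_c23)) = (LP (LK LD1_c6 LD2_c8 LD3_c21)) :=
  Lre_a IH (LK LD1_c3 LD2_c0 LD3_c23) (LK LD1_c6 LD2_c8 LD3_c21) Lrfl Lrfl
theorem f8935 : Led Lsl_dt (LP (LK LD1_c2 LD2_c40 LD3_c0)) = (LP (LK LD1_c3 LD2_c0 LD3_c23)) :=
  Lgr Lrot44 (Lpe (f8934 IH) (Lpr_df (f8917 IH) (Lpe (f8870 IH) (Lpn (LP (LK LD1_c3 LD2_c0 LD3_c23))))))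
theorem f8966 : Led Lsl_df (LP (LK LD1_c2 LD2_c40 LD3_c0)) = (LP (LK LD1_c3 LD2_c0 LD3_c23)) :=
  Lgr Lrot38 (Lpr_dt (f8935 IH) (Lpn (LP (LK LD1_c3 LD2_c0 LD3_c23))))
theorem f9006 : Led Lsl_bt (LP (LK LD1_c2 LD2_c40 LD3_c0)) = (LP (LK LD1_c1 LD2_c16 LD3_c45)) :=
  Lre_b IH (LK LD1_c2 LD2_c40 LD3_c0) (LK LD1_c1 LD2_c16 LD3_c45) Lrfl Lrfl
theorem f9007 : Led Lsl_bt (LP (LK LD1_c1 LD2_c25 LD3_c57)) = (LP (LK LD1_c3 LD2_c0 LD3_c23)) :=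
  Lre_b IH (LK LD1_c1 LD2_c25 LD3_c57) (LK LD1_c3 LD2_c0 LD3_c23) Lrfl Lrfl
theorem f9008 : Led Lsl_dt (LP (LK LD1_c1 LD2_c16 LD3_c45)) = (LP (LK LD1_c1 LD2_c25 LD3_c57)) :=
  Lgr Lrot79 (Lpe (f9006 IH) (Lpr_df (f8966 IH) (Lpe (f9007 IH) (Lpn (LP (LK LD1_c1 LD2_c25 LD3_c57))))))
theorem f9032 : Led Lsl_ft (LP (LK LD1_c0 LD2_c35 LD3_c30)) = (LP (LK LD1_c1 LD2_c16 LD3_c45)) :=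
  Lre_f IH (LK LD1_c0 LD2_c35 LD3_c30) (LK LD1_c1 LD2_c16 LD3_c45) Lrfl Lrfl
theorem f8455 : Led Lsl_dt (LP (LK LD1_c1 LD2_c16 LD3_c44)) = (LP (LK LD1_c0 LD2_c35 LD3_c30)) :=
  Lre_d IH (LK LD1_c1 LD2_c16 LD3_c44) (LK LD1_c0 LD2_c35 LD3_c30) Lrfl Lrfl
theorem f9033 : Led Lsl_ff (LP (LK LD1_c1 LD2_c16 LD3_c44)) = (LP (LK LD1_c1 LD2_c25 LD3_c57)) :=
  Lgr Lrot19 (Lpr_dt (f8455 IH) (Lpr_ft (f9032 IH) (Lpr_dt (f9008 IH) (Lpn (LP (LK LD1_c1 LD2_c25 LD3_c57))))))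
theorem f9055 : Led Lsl_et (LP (LK LD1_c1 LD2_c16 LD3_c44)) = (LP (LK LD1_c2 LD2_c40 LD3_c2)) :=
  Lre_e IH (LK LD1_c1 LD2_c16 LD3_c44) (LK LD1_c2 LD2_c40 LD3_c2) Lrfl Lrfl
theorem f9056 : Led Lsl_ft (LP (LK LD1_c2 LD2_c40 LD3_c2)) = (LP (LK LD1_c5 LD2_c27 LD3_c23)) :=
  Lre_f IH (LK LD1_c2 LD2_c40 LD3_c2) (LK LD1_c5 LD2_c27 LD3_c23) Lrfl Lrfl
theorem f9057 : Led Lsl_et (LP (LK LD1_c3 LD2_c0 LD3_c24)) = (LP (LK LD1_c1 LD2_c25 LD3_c57)) :=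
  Lre_e IH (LK LD1_c3 LD2_c0 LD3_c24) (LK LD1_c1 LD2_c25 LD3_c57) Lrfl Lrfl
theorem f9058 : Led Lsl_ft (LP (LK LD1_c6 LD2_c8 LD3_c25)) = (LP (LK LD1_c3 LD2_c0 LD3_c24)) :=
  Lre_f IH (LK LD1_c6 LD2_c8 LD3_c25) (LK LD1_c3 LD2_c0 LD3_c24) Lrfl Lrfl
theorem f9059 : Led Lsl_et (LP (LK LD1_c5 LD2_c27 LD3_c23)) = (LP (LK LD1_c6 LD2_c8 LD3_c25)) :=
  Lgr Lrot69 (Lpe (f9056 IH) (Lpe (f9055 IH) (Lpr_ff (f9033 IH) (Lpe (f9057 IH) (Lpe (f9058 IH) (Lpn (LP (LK LD1_c6 LD2_c8 LD3_c25))))))))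
theorem f9113 : Led Lsl_ef (LP (LK LD1_c5 LD2_c27 LD3_c23)) = (LP (LK LD1_c6 LD2_c8 LD3_c25)) :=
  Lgr Lrot88 (Lpr_et (f9059 IH) (Lpn (LP (LK LD1_c6 LD2_c8 LD3_c25))))
theorem f9122 : Led Lsl_ct (LP (LK LD1_c3 LD2_c0 LD3_c27)) = (LP (LK LD1_c6 LD2_c8 LD3_c25)) :=
  Lre_c IH (LK LD1_c3 LD2_c0 LD3_c27) (LK LD1_c6 LD2_c8 LD3_c25) Lrfl Lrfl
theorem f9123 : Led Lsl_et (LP (LK LD1_c6 LD2_c8 LD3_c29)) = (LP (LK LD1_c3 LD2_c0 LD3_c27)) :=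
  Lre_e IH (LK LD1_c6 LD2_c8 LD3_c29) (LK LD1_c3 LD2_c0 LD3_c27) Lrfl Lrfl
theorem f9124 : Led Lsl_ct (LP (LK LD1_c5 LD2_c27 LD3_c23)) = (LP (LK LD1_c6 LD2_c8 LD3_c29)) :=
  Lgr Lrot15 (Lpr_ef (f9113 IH) (Lpe (f9122 IH) (Lpe (f9123 IH) (Lpn (LP (LK LD1_c6 LD2_c8 LD3_c29))))))
theorem f9111 : Led Lsl_dt (LP (LK LD1_c2 LD2_c43 LD3_c19)) = (LP (LK LD1_c5 LD2_c27 LD3_c23)) :=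
  Lre_d IH (LK LD1_c2 LD2_c43 LD3_c19) (LK LD1_c5 LD2_c27 LD3_c23) Lrfl Lrfl
theorem f9149 : Led Lsl_ft (LP (LK LD1_c2 LD2_c43 LD3_c19)) = (LP (LK LD1_c1 LD2_c18 LD3_c5)) :=
  Lre_f IH (LK LD1_c2 LD2_c43 LD3_c19) (LK LD1_c1 LD2_c18 LD3_c5) Lrfl Lrfl
theorem f9150 : Led Lsl_at (LP (LK LD1_c1 LD2_c18 LD3_c5)) = (LP (LK LD1_c2 LD2_c12 LD3_c17)) :=
  Lre_a IH (LK LD1_c1 LD2_c18 LD3_c5) (LK LD1_c2 LD2_c12 LD3_c17) Lrfl Lrfl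
theorem f9151 : Led Lsl_ct (LP (LK LD1_c1 LD2_c20 LD3_c32)) = (LP (LK LD1_c2 LD2_c12 LD3_c17)) :=
  Lre_c IH (LK LD1_c1 LD2_c20 LD3_c32) (LK LD1_c2 LD2_c12 LD3_c17) Lrfl Lrfl
theorem f9152 : Led Lsl_dt (LP (LK LD1_c2 LD2_c48 LD3_c53)) = (LP (LK LD1_c1 LD2_c20 LD3_c32)) :=
  Lre_d IH (LK LD1_c2 LD2_c48 LD3_c53) (LK LD1_c1 LD2_c20 LD3_c32) Lrfl Lrfl
theorem f9153 : Led Lsl_ct (LP (LK LD1_c5 LD2_c46 LD3_c20)) = (LP (LK LD1_c2 LD2_c48 LD3_c53)) :=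
  Lre_c IH (LK LD1_c5 LD2_c46 LD3_c20) (LK LD1_c2 LD2_c48 LD3_c53) Lrfl Lrfl
theorem f9142 : Led Lsl_dt (LP (LK LD1_c6 LD2_c8 LD3_c29)) = (LP (LK LD1_c9 LD2_c17 LD3_c30)) :=
  Lre_d IH (LK LD1_c6 LD2_c8 LD3_c29) (LK LD1_c9 LD2_c17 LD3_c30) Lrfl Lrfl
theorem f9143 : Led Lsl_ct (LP (LK LD1_c9 LD2_c17 LD3_c30)) = (LP (LK LD1_c6 LD2_c46 LD3_c13)) :=
  Lre_c IH (LK LD1_c9 LD2_c17 LD3_c30) (LK LD1_c6 LD2_c46 LD3_c13) Lrfl Lrfl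
theorem f9154 : Led Lsl_df (LP (LK LD1_c5 LD2_c46 LD3_c20)) = (LP (LK LD1_c6 LD2_c46 LD3_c13)) :=
  Lgr Lrot13 (Lpr_ct (f9153 IH) (Lpr_dt (f9152 IH) (Lpr_ct (f9151 IH) (Lpe (f9150 IH) (Lpe (f9149 IH) (Lpr_dt (f9111 IH) (Lpr_ct (f9124 IH) (Lpr_dt (f9142 IH) (Lpr_ct (f9143 IH) (Lpn (LP (LK LD1_c6 LD2_c46 LD3_c13))))))))))))
theorem f9144 : Led Lsl_ft (LP (LK LD1_c6 LD2_c8 LD3_c29)) = (LP (LK LD1_c3 LD2_c0 LD3_c28)) :=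
  Lre_f IH (LK LD1_c6 LD2_c8 LD3_c29) (LK LD1_c3 LD2_c0 LD3_c28) Lrfl Lrfl
theorem f9185 : Led Lsl_at (LP (LK LD1_c3 LD2_c0 LD3_c28)) = (LP (LK LD1_c4 LD2_c39 LD3_c55)) :=
  Lre_a IH (LK LD1_c3 LD2_c0 LD3_c28) (LK LD1_c4 LD2_c39 LD3_c55) Lrfl Lrfl
theorem f9186 : Led Lsl_ct (LP (LK LD1_c2 LD2_c59 LD3_c34)) = (LP (LK LD1_c4 LD2_c39 LD3_c55)) :=
  Lre_c IH (LK LD1_c2 LD2_c59 LD3_c34) (LK LD1_c4 LD2_c39 LD3_c55) Lrfl Lrfl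
theorem f9187 : Led Lsl_dt (LP (LK LD1_c2 LD2_c12 LD3_c17)) = (LP (LK LD1_c2 LD2_c59 LD3_c34)) :=
  Lgr Lrot120 (Lpe (f9151 IH) (Lpe (f9152 IH) (Lpe (f9153 IH) (Lpr_df (f9154 IH) (Lpe (f9143 IH) (Lpe (f9142 IH) (Lpr_ft (f9144 IH) (Lpr_at (f9185 IH) (Lpe (f9186 IH) (Lpn (LP (LK LD1_c2 LD2_c59 LD3_c34))))))))))))
theorem f9216 : Led Lsl_ft (LP (LK LD1_c4 LD2_c30 LD3_c41)) = (LP (LK LD1_c2 LD2_c12 LD3_c17)) :=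
  Lre_f IH (LK LD1_c4 LD2_c30 LD3_c41) (LK LD1_c2 LD2_c12 LD3_c17) Lrfl Lrfl
theorem f9217 : Led Lsl_ft (LP (LK LD1_c2 LD2_c59 LD3_c34)) = (LP (LK LD1_c6 LD2_c6 LD3_c55)) :=
  Lre_f IH (LK LD1_c2 LD2_c59 LD3_c34) (LK LD1_c6 LD2_c6 LD3_c55) Lrfl Lrfl
theorem f9218 : Led Lsl_df (LP (LK LD1_c4 LD2_c30 LD3_c41)) = (LP (LK LD1_c6 LD2_c6 LD3_c55)) :=
  Lgr Lrot78 (Lpr_ft (f9216 IH) (Lpr_dt (f9187 IH) (Lpr_ft (f9217 IH) (Lpn (LP (LK LD1_c6 LD2_c6 LD3_c55))))))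
theorem f9242 : Led Lsl_ct (LP (LK LD1_c4 LD2_c30 LD3_c41)) = (LP (LK LD1_c2 LD2_c48 LD3_c50)) :=
  Lre_c IH (LK LD1_c4 LD2_c30 LD3_c41) (LK LD1_c2 LD2_c48 LD3_c50) Lrfl Lrfl
theorem f9243 : Led Lsl_dt (LP (LK LD1_c2 LD2_c48 LD3_c50)) = (LP (LK LD1_c4 LD2_c49 LD3_c41)) :=
  Lre_d IH (LK LD1_c2 LD2_c48 LD3_c50) (LK LD1_c4 LD2_c49 LD3_c41) Lrfl Lrfl
theorem f9244 : Led Lsl_ct (LP (LK LD1_c4 LD2_c49 LD3_c41)) = (LP (LK LD1_c9 LD2_c31 LD3_c60)) :=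
  Lre_c IH (LK LD1_c4 LD2_c49 LD3_c41) (LK LD1_c9 LD2_c31 LD3_c60) Lrfl Lrfl
theorem f9255 : Led Lsl_at (LP (LK LD1_c6 LD2_c46 LD3_c14)) = (LP (LK LD1_c9 LD2_c31 LD3_c60)) :=
  Lre_a IH (LK LD1_c6 LD2_c46 LD3_c14) (LK LD1_c9 LD2_c31 LD3_c60) Lrfl Lrfl
theorem f9131 : Led Lsl_ct (LP (LK LD1_c9 LD2_c15 LD3_c19)) = (LP (LK LD1_c6 LD2_c6 LD3_c55)) :=
  Lre_c IH (LK LD1_c9 LD2_c15 LD3_c19) (LK LD1_c6 LD2_c6 LD3_c55) Lrfl Lrfl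
theorem f9245 : Led Lsl_dt (LP (LK LD1_c6 LD2_c12 LD3_c17)) = (LP (LK LD1_c9 LD2_c15 LD3_c19)) :=
  Lre_d IH (LK LD1_c6 LD2_c12 LD3_c17) (LK LD1_c9 LD2_c15 LD3_c19) Lrfl Lrfl
theorem f9246 : Led Lsl_ct (LP (LK LD1_c9 LD2_c31 LD3_c59)) = (LP (LK LD1_c6 LD2_c12 LD3_c17)) :=
  Lre_c IH (LK LD1_c9 LD2_c31 LD3_c59) (LK LD1_c6 LD2_c12 LD3_c17) Lrfl Lrfl
theorem f9169 : Led Lsl_dt (LP (LK LD1_c6 LD2_c4 LD3_c1)) = (LP (LK LD1_c9 LD2_c31 LD3_c59)) :=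
  Lre_d IH (LK LD1_c6 LD2_c4 LD3_c1) (LK LD1_c9 LD2_c31 LD3_c59) Lrfl Lrfl
theorem f9256 : Led Lsl_ff (LP (LK LD1_c6 LD2_c46 LD3_c14)) = (LP (LK LD1_c6 LD2_c4 LD3_c1)) :=
  Lgr Lrot103 (Lpr_at (f9255 IH) (Lpe (f9244 IH) (Lpe (f9243 IH) (Lpe (f9242 IH) (Lpr_df (f9218 IH) (Lpe (f9131 IH) (Lpe (f9245 IH) (Lpe (f9246 IH) (Lpe (f9169 IH) (Lpn (LP (LK LD1_c6 LD2_c4 LD3_c1))))))))))))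
theorem f9287 : Led Lsl_ft (LP (LK LD1_c6 LD2_c46 LD3_c14)) = (LP (LK LD1_c6 LD2_c4 LD3_c1)) :=
  Lgr Lrot48 (Lpr_ff (f9256 IH) (Lpn (LP (LK LD1_c6 LD2_c4 LD3_c1))))
theorem f9313 : Led Lsl_et (LP (LK LD1_c3 LD2_c21 LD3_c11)) = (LP (LK LD1_c6 LD2_c46 LD3_c14)) :=
  Lre_e IH (LK LD1_c3 LD2_c21 LD3_c11) (LK LD1_c6 LD2_c46 LD3_c14) Lrfl Lrfl
theorem f9314 : Led Lsl_ft (LP (LK LD1_c1 LD2_c36 LD3_c50)) = (LP (LK LD1_c3 LD2_c21 LD3_c11)) :=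
  Lre_f IH (LK LD1_c1 LD2_c36 LD3_c50) (LK LD1_c3 LD2_c21 LD3_c11) Lrfl Lrfl
theorem f9181 : Led Lsl_et (LP (LK LD1_c2 LD2_c16 LD3_c41)) = (LP (LK LD1_c1 LD2_c36 LD3_c50)) :=
  Lre_e IH (LK LD1_c2 LD2_c16 LD3_c41) (LK LD1_c1 LD2_c36 LD3_c50) Lrfl Lrfl
theorem f9315 : Led Lsl_et (LP (LK LD1_c6 LD2_c4 LD3_c1)) = (LP (LK LD1_c2 LD2_c58 LD3_c5)) :=
  Lre_e IH (LK LD1_c6 LD2_c4 LD3_c1) (LK LD1_c2 LD2_c58 LD3_c5) Lrfl Lrfl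
theorem f9316 : Led Lsl_ff (LP (LK LD1_c2 LD2_c16 LD3_c41)) = (LP (LK LD1_c2 LD2_c58 LD3_c5)) :=
  Lgr Lrot72 (Lpr_et (f9181 IH) (Lpr_ft (f9314 IH) (Lpr_et (f9313 IH) (Lpr_ft (f9287 IH) (Lpr_et (f9315 IH) (Lpn (LP (LK LD1_c2 LD2_c58 LD3_c5))))))))
theorem f9327 : Led Lsl_at (LP (LK LD1_c2 LD2_c16 LD3_c41)) = (LP (LK LD1_c1 LD2_c24 LD3_c42)) :=
  Lre_a IH (LK LD1_c2 LD2_c16 LD3_c41) (LK LD1_c1 LD2_c24 LD3_c42) Lrfl Lrfl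
theorem f9346 : Led Lsl_ct (LP (LK LD1_c0 LD2_c39 LD3_c0)) = (LP (LK LD1_c1 LD2_c24 LD3_c42)) :=
  Lre_c IH (LK LD1_c0 LD2_c39 LD3_c0) (LK LD1_c1 LD2_c24 LD3_c42) Lrfl Lrfl
theorem f9347 : Led Lsl_dt (LP (LK LD1_c0 LD2_c17 LD3_c19)) = (LP (LK LD1_c0 LD2_c39 LD3_c0)) :=
  Lre_d IH (LK LD1_c0 LD2_c17 LD3_c19) (LK LD1_c0 LD2_c39 LD3_c0) Lrfl Lrfl
theorem f9348 : Led Lsl_ct (LP (LK LD1_c0 LD2_c7 LD3_c42)) = (LP (LK LD1_c0 LD2_c17 LD3_c19)) :=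
  Lre_c IH (LK LD1_c0 LD2_c7 LD3_c42) (LK LD1_c0 LD2_c17 LD3_c19) Lrfl Lrfl
theorem f9349 : Led Lsl_dt (LP (LK LD1_c2 LD2_c58 LD3_c5)) = (LP (LK LD1_c1 LD2_c24 LD3_c42)) :=
  Lre_d IH (LK LD1_c2 LD2_c58 LD3_c5) (LK LD1_c1 LD2_c24 LD3_c42) Lrfl Lrfl
theorem f9350 : Led Lsl_ct (LP (LK LD1_c1 LD2_c24 LD3_c42)) = (LP (LK LD1_c0 LD2_c39 LD3_c0)) :=
  Lre_c IH (LK LD1_c1 LD2_c24 LD3_c42) (LK LD1_c0 LD2_c39 LD3_c0) Lrfl Lrfl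
theorem f9351 : Led Lsl_dt (LP (LK LD1_c0 LD2_c39 LD3_c0)) = (LP (LK LD1_c0 LD2_c17 LD3_c19)) :=
  Lre_d IH (LK LD1_c0 LD2_c39 LD3_c0) (LK LD1_c0 LD2_c17 LD3_c19) Lrfl Lrfl
theorem f9352 : Led Lsl_ct (LP (LK LD1_c0 LD2_c17 LD3_c19)) = (LP (LK LD1_c0 LD2_c7 LD3_c42)) :=
  Lre_c IH (LK LD1_c0 LD2_c17 LD3_c19) (LK LD1_c0 LD2_c7 LD3_c42) Lrfl Lrfl
theorem f9353 : Led Lsl_df (LP (LK LD1_c0 LD2_c7 LD3_c42)) = (LP (LK LD1_c0 LD2_c7 LD3_c42)) :=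
  Lgr Lrot13 (Lpr_ct (f9348 IH) (Lpr_dt (f9347 IH) (Lpr_ct (f9346 IH) (Lpe (f9327 IH) (Lpr_ff (f9316 IH) (Lpr_dt (f9349 IH) (Lpr_ct (f9350 IH) (Lpr_dt (f9351 IH) (Lpr_ct (f9352 IH) (Lpn (LP (LK LD1_c0 LD2_c7 LD3_c42))))))))))))
theorem f9339 : Led Lsl_dt (LP (LK LD1_c1 LD2_c24 LD3_c42)) = (LP (LK LD1_c2 LD2_c58 LD3_c5)) :=
  Lre_d IH (LK LD1_c1 LD2_c24 LD3_c42) (LK LD1_c2 LD2_c58 LD3_c5) Lrfl Lrfl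
theorem f9376 : Led Lsl_ft (LP (LK LD1_c0 LD2_c39 LD3_c0)) = (LP (LK LD1_c1 LD2_c20 LD3_c33)) :=
  Lre_f IH (LK LD1_c0 LD2_c39 LD3_c0) (LK LD1_c1 LD2_c20 LD3_c33) Lrfl Lrfl
theorem f9377 : Led Lsl_at (LP (LK LD1_c1 LD2_c20 LD3_c33)) = (LP (LK LD1_c2 LD2_c13 LD3_c49)) :=
  Lre_a IH (LK LD1_c1 LD2_c20 LD3_c33) (LK LD1_c2 LD2_c13 LD3_c49) Lrfl Lrfl
theorem f9378 : Led Lsl_ct (LP (LK LD1_c2 LD2_c58 LD3_c5)) = (LP (LK LD1_c2 LD2_c13 LD3_c49)) :=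
  Lgr Lrot98 (Lpe (f9339 IH) (Lpe (f9346 IH) (Lpe (f9347 IH) (Lpe (f9348 IH) (Lpr_df (f9353 IH) (Lpe (f9352 IH) (Lpe (f9351 IH) (Lpr_ft (f9376 IH) (Lpr_at (f9377 IH) (Lpn (LP (LK LD1_c2 LD2_c13 LD3_c49))))))))))))
theorem f9335 : Led Lsl_ct (LP (LK LD1_c2 LD2_c16 LD3_c41)) = (LP (LK LD1_c1 LD2_c5 LD3_c13)) :=
  Lre_c IH (LK LD1_c2 LD2_c16 LD3_c41) (LK LD1_c1 LD2_c5 LD3_c13) Lrfl Lrfl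
theorem f9336 : Led Lsl_ft (LP (LK LD1_c1 LD2_c5 LD3_c13)) = (LP (LK LD1_c2 LD2_c13 LD3_c49)) :=
  Lre_f IH (LK LD1_c1 LD2_c5 LD3_c13) (LK LD1_c2 LD2_c13 LD3_c49) Lrfl Lrfl
theorem f9337 : Led Lsl_ct (LP (LK LD1_c2 LD2_c13 LD3_c49)) = (LP (LK LD1_c2 LD2_c58 LD3_c5)) :=
  Lgr Lrot40 (Lpe (f9336 IH) (Lpe (f9335 IH) (Lpr_ff (f9316 IH) (Lpn (LP (LK LD1_c2 LD2_c58 LD3_c5))))))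
theorem f9363 : Led Lsl_dt (LP (LK LD1_c1 LD2_c3 LD3_c55)) = (LP (LK LD1_c2 LD2_c13 LD3_c49)) :=
  Lre_d IH (LK LD1_c1 LD2_c3 LD3_c55) (LK LD1_c2 LD2_c13 LD3_c49) Lrfl Lrfl
theorem f9364 : Led Lsl_ct (LP (LK LD1_c0 LD2_c29 LD3_c9)) = (LP (LK LD1_c1 LD2_c3 LD3_c55)) :=
  Lre_c IH (LK LD1_c0 LD2_c29 LD3_c9) (LK LD1_c1 LD2_c3 LD3_c55) Lrfl Lrfl
theorem f9380 : Led Lsl_dt (LP (LK LD1_c2 LD2_c13 LD3_c49)) = (LP (LK LD1_c1 LD2_c3 LD3_c55)) :=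
  Lre_d IH (LK LD1_c2 LD2_c13 LD3_c49) (LK LD1_c1 LD2_c3 LD3_c55) Lrfl Lrfl
theorem f9381 : Led Lsl_ct (LP (LK LD1_c1 LD2_c3 LD3_c55)) = (LP (LK LD1_c0 LD2_c29 LD3_c9)) :=
  Lre_c IH (LK LD1_c1 LD2_c3 LD3_c55) (LK LD1_c0 LD2_c29 LD3_c9) Lrfl Lrfl
theorem f9409 : Led Lsl_df (LP (LK LD1_c0 LD2_c29 LD3_c9)) = (LP (LK LD1_c0 LD2_c29 LD3_c9)) :=
  Lgr Lrot43 (Lpr_ct (f9364 IH) (Lpr_dt (f9363 IH) (Lpr_ct (f9337 IH) (Lpr_dt (f9349 IH) (Lpr_ct (f9350 IH) (Lpr_dt (f9351 IH) (Lpr_ct (f9352 IH) (Lpe (f9353 IH) (Lpr_ct (f9348 IH) (Lpr_dt (f9347 IH) (Lpr_ct (f9346 IH) (Lpr_dt (f9339 IH) (Lpr_ct (f9378 IH) (Lpr_dt (f9380 IH) (Lpr_ct (f9381 IH) (Lpn (LP (LK LD1_c0 LD2_c29 LD3_c9))))))))))))))))))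
theorem f9441 : Led Lsl_et (LP (LK LD1_c0 LD2_c29 LD3_c9)) = (LP (LK LD1_c0 LD2_c12 LD3_c52)) :=
  Lre_e IH (LK LD1_c0 LD2_c29 LD3_c9) (LK LD1_c0 LD2_c12 LD3_c52) Lrfl Lrfl
theorem f9442 : Led Lsl_dt (LP (LK LD1_c0 LD2_c12 LD3_c52)) = (LP (LK LD1_c0 LD2_c5 LD3_c51)) :=
  Lre_d IH (LK LD1_c0 LD2_c12 LD3_c52) (LK LD1_c0 LD2_c5 LD3_c51) Lrfl Lrfl
theorem f9443 : Led Lsl_et (LP (LK LD1_c0 LD2_c12 LD3_c52)) = (LP (LK LD1_c0 LD2_c29 LD3_c9)) :=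
  Lre_e IH (LK LD1_c0 LD2_c12 LD3_c52) (LK LD1_c0 LD2_c29 LD3_c9) Lrfl Lrfl
theorem f9444 : Led Lsl_dt (LP (LK LD1_c0 LD2_c5 LD3_c51)) = (LP (LK LD1_c0 LD2_c12 LD3_c52)) :=
  Lre_d IH (LK LD1_c0 LD2_c5 LD3_c51) (LK LD1_c0 LD2_c12 LD3_c52) Lrfl Lrfl
theorem f9445 : Led Lsl_et (LP (LK LD1_c0 LD2_c5 LD3_c51)) = (LP (LK LD1_c0 LD2_c5 LD3_c51)) :=
  Lgr Lrot71 (Lpe (f9442 IH) (Lpe (f9441 IH) (Lpr_df (f9409 IH) (Lpe (f9443 IH) (Lpe (f9444 IH) (Lpn (LP (LK LD1_c0 LD2_c5 LD3_c51))))))))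
theorem f9459 : Led Lsl_gt (LP (LK LD1_c0 LD2_c12 LD3_c52)) = (LP (LK LD1_c0 LD2_c7 LD3_c22)) :=
  Lre_g IH (LK LD1_c0 LD2_c12 LD3_c52) (LK LD1_c0 LD2_c7 LD3_c22) Lrfl Lrfl
theorem f9480 : Led Lsl_dt (LP (LK LD1_c0 LD2_c16 LD3_c28)) = (LP (LK LD1_c0 LD2_c7 LD3_c22)) :=
  Lre_d IH (LK LD1_c0 LD2_c16 LD3_c28) (LK LD1_c0 LD2_c7 LD3_c22) Lrfl Lrfl
theorem f9481 : Led Lsl_gt (LP (LK LD1_c0 LD2_c3 LD3_c16)) = (LP (LK LD1_c0 LD2_c5 LD3_c51)) :=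
  Lre_g IH (LK LD1_c0 LD2_c3 LD3_c16) (LK LD1_c0 LD2_c5 LD3_c51) Lrfl Lrfl
theorem f8378 : Led Lsl_at (LP (LK LD1_c0 LD2_c7 LD3_c59)) = (LP (LK LD1_c0 LD2_c13 LD3_c13)) :=
  Lre_a IH (LK LD1_c0 LD2_c7 LD3_c59) (LK LD1_c0 LD2_c13 LD3_c13) Lrfl Lrfl
theorem f8379 : Led Lsl_ft (LP (LK LD1_c0 LD2_c17 LD3_c48)) = (LP (LK LD1_c0 LD2_c7 LD3_c59)) :=
  Lre_f IH (LK LD1_c0 LD2_c17 LD3_c48) (LK LD1_c0 LD2_c7 LD3_c59) Lrfl Lrfl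
theorem f8380 : Led Lsl_gf (LP (LK LD1_c0 LD2_c16 LD3_c12)) = (LP (LK LD1_c0 LD2_c17 LD3_c48)) :=
  Lgr Lrot47 (Lpr_gt (f8302 IH) (Lpe (f8378 IH) (Lpe (f8379 IH) (Lpn (LP (LK LD1_c0 LD2_c17 LD3_c48))))))
theorem f8451 : Led Lsl_dt (LP (LK LD1_c0 LD2_c7 LD3_c60)) = (LP (LK LD1_c0 LD2_c17 LD3_c48)) :=
  Lre_d IH (LK LD1_c0 LD2_c7 LD3_c60) (LK LD1_c0 LD2_c17 LD3_c48) Lrfl Lrfl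
theorem f9482 : Led Lsl_gt (LP (LK LD1_c0 LD2_c13 LD3_c11)) = (LP (LK LD1_c0 LD2_c7 LD3_c60)) :=
  Lre_g IH (LK LD1_c0 LD2_c13 LD3_c11) (LK LD1_c0 LD2_c7 LD3_c60) Lrfl Lrfl
theorem f9483 : Led Lsl_et (LP (LK LD1_c0 LD2_c16 LD3_c28)) = (LP (LK LD1_c0 LD2_c13 LD3_c11)) :=
  Lgr Lrot121 (Lpr_dt (f9480 IH) (Lpe (f9459 IH) (Lpe (f9444 IH) (Lpr_et (f9445 IH) (Lpe (f9481 IH) (Lpe (f8300 IH) (Lpr_dt (f3076 IH) (Lpr_gf (f8380 IH) (Lpe (f8451 IH) (Lpe (f9482 IH) (Lpn (LP (LK LD1_c0 LD2_c13 LD3_c11)))))))))))))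
theorem f9505 : Led Lsl_et (LP (LK LD1_c0 LD2_c7 LD3_c60)) = (LP (LK LD1_c0 LD2_c7 LD3_c60)) :=
  Lgr Lrot122 (Lpr_dt (f8451 IH) (Lpe (f8380 IH) (Lpe (f3076 IH) (Lpr_et (f8300 IH) (Lpr_gt (f9481 IH) (Lpr_dt (f9444 IH) (Lpr_gt (f9459 IH) (Lpe (f9480 IH) (Lpr_et (f9483 IH) (Lpr_gt (f9482 IH) (Lpn (LP (LK LD1_c0 LD2_c7 LD3_c60)))))))))))))
theorem f8508 : Led Lsl_dt (LP (LK LD1_c0 LD2_c17 LD3_c48)) = (LP (LK LD1_c0 LD2_c7 LD3_c60)) :=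
  Lre_d IH (LK LD1_c0 LD2_c17 LD3_c48) (LK LD1_c0 LD2_c7 LD3_c60) Lrfl Lrfl
theorem f9507 : Led Lsl_et (LP (LK LD1_c0 LD2_c39 LD3_c43)) = (LP (LK LD1_c0 LD2_c17 LD3_c48)) :=
  Lre_e IH (LK LD1_c0 LD2_c39 LD3_c43) (LK LD1_c0 LD2_c17 LD3_c48) Lrfl Lrfl
theorem f9508 : Led Lsl_et (LP (LK LD1_c0 LD2_c17 LD3_c48)) = (LP (LK LD1_c0 LD2_c39 LD3_c43)) :=
  Lre_e IH (LK LD1_c0 LD2_c17 LD3_c48) (LK LD1_c0 LD2_c39 LD3_c43) Lrfl Lrfl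
theorem f9509 : Led Lsl_df (LP (LK LD1_c0 LD2_c39 LD3_c43)) = (LP (LK LD1_c0 LD2_c39 LD3_c43)) :=
  Lgr Lrot70 (Lpr_et (f9507 IH) (Lpr_dt (f8508 IH) (Lpr_et (f9505 IH) (Lpr_dt (f8451 IH) (Lpr_et (f9508 IH) (Lpn (LP (LK LD1_c0 LD2_c39 LD3_c43))))))))
theorem f9517 : Led Lsl_ft (LP (LK LD1_c0 LD2_c39 LD3_c43)) = (LP (LK LD1_c0 LD2_c17 LD3_c52)) :=
  Lre_f IH (LK LD1_c0 LD2_c39 LD3_c43) (LK LD1_c0 LD2_c17 LD3_c52) Lrfl Lrfl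
theorem f9518 : Led Lsl_ft (LP (LK LD1_c0 LD2_c17 LD3_c52)) = (LP (LK LD1_c0 LD2_c39 LD3_c43)) :=
  Lre_f IH (LK LD1_c0 LD2_c17 LD3_c52) (LK LD1_c0 LD2_c39 LD3_c43) Lrfl Lrfl
theorem f9519 : Led Lsl_dt (LP (LK LD1_c0 LD2_c17 LD3_c52)) = (LP (LK LD1_c0 LD2_c17 LD3_c52)) :=
  Lgr Lrot60 (Lpe (f9517 IH) (Lpr_df (f9509 IH) (Lpe (f9518 IH) (Lpn (LP (LK LD1_c0 LD2_c17 LD3_c52))))))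
theorem f9529 : Led Lsl_et (LP (LK LD1_c0 LD2_c8 LD3_c0)) = (LP (LK LD1_c0 LD2_c17 LD3_c52)) :=
  Lre_e IH (LK LD1_c0 LD2_c8 LD3_c0) (LK LD1_c0 LD2_c17 LD3_c52) Lrfl Lrfl
theorem f9530 : Led Lsl_dt (LP (LK LD1_c0 LD2_c3 LD3_c41)) = (LP (LK LD1_c0 LD2_c8 LD3_c0)) :=
  Lre_d IH (LK LD1_c0 LD2_c3 LD3_c41) (LK LD1_c0 LD2_c8 LD3_c0) Lrfl Lrfl
theorem f9531 : Led Lsl_et (LP (LK LD1_c0 LD2_c17 LD3_c52)) = (LP (LK LD1_c0 LD2_c8 LD3_c0)) :=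
  Lre_e IH (LK LD1_c0 LD2_c17 LD3_c52) (LK LD1_c0 LD2_c8 LD3_c0) Lrfl Lrfl
theorem f9532 : Led Lsl_dt (LP (LK LD1_c0 LD2_c8 LD3_c0)) = (LP (LK LD1_c0 LD2_c3 LD3_c41)) :=
  Lre_d IH (LK LD1_c0 LD2_c8 LD3_c0) (LK LD1_c0 LD2_c3 LD3_c41) Lrfl Lrfl
theorem f9533 : Led Lsl_ef (LP (LK LD1_c0 LD2_c3 LD3_c41)) = (LP (LK LD1_c0 LD2_c3 LD3_c41)) :=
  Lgr Lrot73 (Lpr_dt (f9530 IH) (Lpr_et (f9529 IH) (Lpr_dt (f9519 IH) (Lpr_et (f9531 IH) (Lpr_dt (f9532 IH) (Lpn (LP (LK LD1_c0 LD2_c3 LD3_c41))))))))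
theorem f9541 : Led Lsl_at (LP (LK LD1_c0 LD2_c3 LD3_c41)) = (LP (LK LD1_c0 LD2_c6 LD3_c3)) :=
  Lre_a IH (LK LD1_c0 LD2_c3 LD3_c41) (LK LD1_c0 LD2_c6 LD3_c3) Lrfl Lrfl
theorem f9542 : Led Lsl_at (LP (LK LD1_c0 LD2_c6 LD3_c3)) = (LP (LK LD1_c0 LD2_c3 LD3_c41)) :=
  Lre_a IH (LK LD1_c0 LD2_c6 LD3_c3) (LK LD1_c0 LD2_c3 LD3_c41) Lrfl Lrfl
theorem f9543 : Led Lsl_et (LP (LK LD1_c0 LD2_c6 LD3_c3)) = (LP (LK LD1_c0 LD2_c6 LD3_c3)) :=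
  Lgr Lrot123 (Lpe (f9541 IH) (Lpr_ef (f9533 IH) (Lpe (f9542 IH) (Lpn (LP (LK LD1_c0 LD2_c6 LD3_c3))))))
theorem f9546 : Led Lsl_bt (LP (LK LD1_c0 LD2_c13 LD3_c10)) = (LP (LK LD1_c0 LD2_c6 LD3_c3)) :=
  Lre_b IH (LK LD1_c0 LD2_c13 LD3_c10) (LK LD1_c0 LD2_c6 LD3_c3) Lrfl Lrfl
theorem f7113 : Led Lsl_bt (LP (LK LD1_c0 LD2_c6 LD3_c3)) = (LP (LK LD1_c0 LD2_c13 LD3_c10)) :=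
  Lre_b IH (LK LD1_c0 LD2_c6 LD3_c3) (LK LD1_c0 LD2_c13 LD3_c10) Lrfl Lrfl
theorem f9547 : Led Lsl_ef (LP (LK LD1_c0 LD2_c13 LD3_c10)) = (LP (LK LD1_c0 LD2_c13 LD3_c10)) :=
  Lgr Lrot29 (Lpr_bt (f9546 IH) (Lpr_et (f9543 IH) (Lpr_bt (f7113 IH) (Lpn (LP (LK LD1_c0 LD2_c13 LD3_c10))))))
theorem f9555 : Led Lsl_ft (LP (LK LD1_c0 LD2_c13 LD3_c10)) = (LP (LK LD1_c0 LD2_c5 LD3_c61)) :=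
  Lre_f IH (LK LD1_c0 LD2_c13 LD3_c10) (LK LD1_c0 LD2_c5 LD3_c61) Lrfl Lrfl
theorem f8262 : Led Lsl_et (LP (LK LD1_c0 LD2_c5 LD3_c61)) = (LP (LK LD1_c0 LD2_c2 LD3_c42)) :=
  Lre_e IH (LK LD1_c0 LD2_c5 LD3_c61) (LK LD1_c0 LD2_c2 LD3_c42) Lrfl Lrfl
theorem f9556 : Led Lsl_ft (LP (LK LD1_c0 LD2_c5 LD3_c61)) = (LP (LK LD1_c0 LD2_c13 LD3_c10)) :=
  Lre_f IH (LK LD1_c0 LD2_c5 LD3_c61) (LK LD1_c0 LD2_c13 LD3_c10) Lrfl Lrfl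
theorem f9557 : Led Lsl_et (LP (LK LD1_c0 LD2_c2 LD3_c42)) = (LP (LK LD1_c0 LD2_c5 LD3_c61)) :=
  Lre_e IH (LK LD1_c0 LD2_c2 LD3_c42) (LK LD1_c0 LD2_c5 LD3_c61) Lrfl Lrfl
theorem f9558 : Led Lsl_ft (LP (LK LD1_c0 LD2_c2 LD3_c42)) = (LP (LK LD1_c0 LD2_c2 LD3_c42)) :=
  Lgr Lrot86 (Lpe (f8262 IH) (Lpe (f9555 IH) (Lpr_ef (f9547 IH) (Lpe (f9556 IH) (Lpe (f9557 IH) (Lpn (LP (LK LD1_c0 LD2_c2 LD3_c42))))))))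
theorem f9560 : Led Lsl_at (LP (LK LD1_c0 LD2_c5 LD3_c60)) = (LP (LK LD1_c0 LD2_c2 LD3_c42)) :=
  Lre_a IH (LK LD1_c0 LD2_c5 LD3_c60) (LK LD1_c0 LD2_c2 LD3_c42) Lrfl Lrfl
theorem f9561 : Led Lsl_at (LP (LK LD1_c0 LD2_c2 LD3_c42)) = (LP (LK LD1_c0 LD2_c5 LD3_c60)) :=
  Lre_a IH (LK LD1_c0 LD2_c2 LD3_c42) (LK LD1_c0 LD2_c5 LD3_c60) Lrfl Lrfl
theorem f9562 : Led Lsl_ff (LP (LK LD1_c0 LD2_c5 LD3_c60)) = (LP (LK LD1_c0 LD2_c5 LD3_c60)) :=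
  Lgr Lrot30 (Lpr_at (f9560 IH) (Lpr_ft (f9558 IH) (Lpr_at (f9561 IH) (Lpn (LP (LK LD1_c0 LD2_c5 LD3_c60))))))
theorem f6972 : Led Lsl_gt (LP (LK LD1_c0 LD2_c5 LD3_c59)) = (LP (LK LD1_c0 LD2_c2 LD3_c42)) :=
  Lre_g IH (LK LD1_c0 LD2_c5 LD3_c59) (LK LD1_c0 LD2_c2 LD3_c42) Lrfl Lrfl
theorem f9568 : Led Lsl_gf (LP (LK LD1_c0 LD2_c5 LD3_c59)) = (LP (LK LD1_c0 LD2_c5 LD3_c60)) :=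
  Lgr Lrot47 (Lpr_gt (f6972 IH) (Lpe (f9560 IH) (Lpr_ff (f9562 IH) (Lpn (LP (LK LD1_c0 LD2_c5 LD3_c60))))))
theorem f3968 : Led Lsl_bt (LP (LK LD1_c0 LD2_c1 LD3_c28)) = (LP (LK LD1_c0 LD2_c3 LD3_c31)) :=
  Lre_b IH (LK LD1_c0 LD2_c1 LD3_c28) (LK LD1_c0 LD2_c3 LD3_c31) Lrfl Lrfl
theorem f1468 : Led Lsl_ct (LP (LK LD1_c0 LD2_c1 LD3_c7)) = (LP (LK LD1_c0 LD2_c0 LD3_c25)) :=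
  Lre_c IH (LK LD1_c0 LD2_c1 LD3_c7) (LK LD1_c0 LD2_c0 LD3_c25) Lrfl Lrfl
theorem f1470 : Led Lsl_bt (LP (LK LD1_c0 LD2_c1 LD3_c7)) = (LP (LK LD1_c0 LD2_c2 LD3_c42)) :=
  Lre_b IH (LK LD1_c0 LD2_c1 LD3_c7) (LK LD1_c0 LD2_c2 LD3_c42) Lrfl Lrfl
theorem f8255 : Led Lsl_gf (LP (LK LD1_c0 LD2_c3 LD3_c31)) = (LP (LK LD1_c0 LD2_c2 LD3_c42)) :=
  Lgr Lrot124 (Lpe (f3968 IH) (Lpr_ct (f1418 IH) (Lpr_gt (f231 IH) (Lpe (f208 IH) (Lpr_bt (f84 IH) (Lpr_gt (f8249 IH) (Lpr_ct (f419 IH) (Lpr_gt (f6993 IH) (Lpqs (f7228 IH) (Lpe (f1468 IH) (Lpr_bt (f1470 IH) (Lpn (LP (LK LD1_c0 LD2_c2 LD3_c42))))))))))))))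
theorem f9564 : Led Lsl_gt (LP (LK LD1_c0 LD2_c3 LD3_c31)) = (LP (LK LD1_c0 LD2_c5 LD3_c60)) :=
  Lgr Lrot46 (Lpr_gf (f8255 IH) (Lpr_ft (f9558 IH) (Lpr_at (f9561 IH) (Lpn (LP (LK LD1_c0 LD2_c5 LD3_c60))))))
theorem f7086 : Led Lsl_bt (LP (LK LD1_c0 LD2_c3 LD3_c31)) = (LP (LK LD1_c0 LD2_c1 LD3_c28)) :=
  Lre_b IH (LK LD1_c0 LD2_c3 LD3_c31) (LK LD1_c0 LD2_c1 LD3_c28) Lrfl Lrfl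
theorem f8162 : Led Lsl_ft (LP (LK LD1_c0 LD2_c3 LD3_c31)) = (LP (LK LD1_c0 LD2_c3 LD3_c31)) :=
  Lgr Lrot75 (Lpe (f3968 IH) (Lpr_ff (f8160 IH) (Lpe (f7086 IH) (Lpn (LP (LK LD1_c0 LD2_c3 LD3_c31))))))
theorem f9570 : Led Lsl_af (LP (LK LD1_c0 LD2_c5 LD3_c59)) = (LP (LK LD1_c0 LD2_c3 LD3_c31)) :=
  Lgr Lrot31 (Lpr_gf (f9568 IH) (Lpe (f9564 IH) (Lpr_ft (f8162 IH) (Lpn (LP (LK LD1_c0 LD2_c3 LD3_c31))))))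
theorem f9573 : Led Lsl_at (LP (LK LD1_c0 LD2_c5 LD3_c59)) = (LP (LK LD1_c0 LD2_c3 LD3_c31)) :=
  Lgr Lrot100 (Lpr_af (f9570 IH) (Lpn (LP (LK LD1_c0 LD2_c3 LD3_c31))))
theorem f9582 : Led Lsl_ft (LP (LK LD1_c0 LD2_c5 LD3_c59)) = (LP (LK LD1_c0 LD2_c5 LD3_c59)) :=
  Lgr Lrot101 (Lpr_af (f9570 IH) (Lpe (f8162 IH) (Lpe (f9573 IH) (Lpn (LP (LK LD1_c0 LD2_c5 LD3_c59))))))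
theorem f8169 : Led Lsl_bf (LP (LK LD1_c0 LD2_c1 LD3_c29)) = (LP (LK LD1_c0 LD2_c1 LD3_c27)) :=
  Lgr Lrot96 (Lpr_et (f1424 IH) (Lpr_bt (f7084 IH) (Lpqs (f8148 IH) (Lpr_et (f7068 IH) (Lpn (LP (LK LD1_c0 LD2_c1 LD3_c27)))))))
theorem f8175 : Led Lsl_bt (LP (LK LD1_c0 LD2_c3 LD3_c32)) = (LP (LK LD1_c0 LD2_c7 LD3_c49)) :=
  Lre_b IH (LK LD1_c0 LD2_c3 LD3_c32) (LK LD1_c0 LD2_c7 LD3_c49) Lrfl Lrfl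
theorem f8177 : Led Lsl_bt (LP (LK LD1_c0 LD2_c7 LD3_c47)) = (LP (LK LD1_c0 LD2_c3 LD3_c30)) :=
  Lre_b IH (LK LD1_c0 LD2_c7 LD3_c47) (LK LD1_c0 LD2_c3 LD3_c30) Lrfl Lrfl
theorem f8178 : Led Lsl_ct (LP (LK LD1_c0 LD2_c7 LD3_c49)) = (LP (LK LD1_c0 LD2_c7 LD3_c47)) :=
  Lgr Lrot83 (Lpe (f8175 IH) (Lpe (f8174 IH) (Lpr_bf (f8169 IH) (Lpe (f8176 IH) (Lpe (f8177 IH) (Lpn (LP (LK LD1_c0 LD2_c7 LD3_c47))))))))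
theorem f8166 : Led Lsl_et (LP (LK LD1_c0 LD2_c3 LD3_c31)) = (LP (LK LD1_c0 LD2_c7 LD3_c49)) :=
  Lre_e IH (LK LD1_c0 LD2_c3 LD3_c31) (LK LD1_c0 LD2_c7 LD3_c49) Lrfl Lrfl
theorem f8185 : Led Lsl_et (LP (LK LD1_c0 LD2_c7 LD3_c47)) = (LP (LK LD1_c0 LD2_c3 LD3_c29)) :=
  Lre_e IH (LK LD1_c0 LD2_c7 LD3_c47) (LK LD1_c0 LD2_c3 LD3_c29) Lrfl Lrfl
theorem f8186 : Led Lsl_cf (LP (LK LD1_c0 LD2_c3 LD3_c31)) = (LP (LK LD1_c0 LD2_c3 LD3_c29)) :=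
  Lgr Lrot39 (Lpr_et (f8166 IH) (Lpr_ct (f8178 IH) (Lpr_et (f8185 IH) (Lpn (LP (LK LD1_c0 LD2_c3 LD3_c29))))))
theorem f8193 : Led Lsl_at (LP (LK LD1_c0 LD2_c7 LD3_c46)) = (LP (LK LD1_c0 LD2_c3 LD3_c29)) :=
  Lre_a IH (LK LD1_c0 LD2_c7 LD3_c46) (LK LD1_c0 LD2_c3 LD3_c29) Lrfl Lrfl
theorem f9577 : Led Lsl_ct (LP (LK LD1_c0 LD2_c5 LD3_c59)) = (LP (LK LD1_c0 LD2_c7 LD3_c46)) :=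
  Lgr Lrot111 (Lpr_af (f9570 IH) (Lpr_cf (f8186 IH) (Lpe (f8193 IH) (Lpn (LP (LK LD1_c0 LD2_c7 LD3_c46))))))
theorem f8194 : Led Lsl_ct (LP (LK LD1_c0 LD2_c3 LD3_c31)) = (LP (LK LD1_c0 LD2_c3 LD3_c29)) :=
  Lgr Lrot59 (Lpr_cf (f8186 IH) (Lpn (LP (LK LD1_c0 LD2_c3 LD3_c29))))
theorem f8196 : Led Lsl_ft (LP (LK LD1_c0 LD2_c3 LD3_c29)) = (LP (LK LD1_c0 LD2_c3 LD3_c29)) :=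
  Lgr Lrot4 (Lpe (f8194 IH) (Lpe (f8162 IH) (Lpr_cf (f8186 IH) (Lpn (LP (LK LD1_c0 LD2_c3 LD3_c29))))))
theorem f8198 : Led Lsl_at (LP (LK LD1_c0 LD2_c3 LD3_c29)) = (LP (LK LD1_c0 LD2_c7 LD3_c46)) :=
  Lre_a IH (LK LD1_c0 LD2_c3 LD3_c29) (LK LD1_c0 LD2_c7 LD3_c46) Lrfl Lrfl
theorem f8199 : Led Lsl_ff (LP (LK LD1_c0 LD2_c7 LD3_c46)) = (LP (LK LD1_c0 LD2_c7 LD3_c46)) :=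
  Lgr Lrot30 (Lpr_at (f8193 IH) (Lpr_ft (f8196 IH) (Lpr_at (f8198 IH) (Lpn (LP (LK LD1_c0 LD2_c7 LD3_c46))))))
theorem f9586 : Led Lsl_cf (LP (LK LD1_c0 LD2_c5 LD3_c59)) = (LP (LK LD1_c0 LD2_c7 LD3_c46)) :=
  Lgr Lrot108 (Lpr_ft (f9582 IH) (Lpr_ct (f9577 IH) (Lpe (f8199 IH) (Lpn (LP (LK LD1_c0 LD2_c7 LD3_c46))))))
theorem f7077 : Led Lsl_bt (LP (LK LD1_c0 LD2_c3 LD3_c29)) = (LP (LK LD1_c0 LD2_c1 LD3_c26)) :=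
  Lre_b IH (LK LD1_c0 LD2_c3 LD3_c29) (LK LD1_c0 LD2_c1 LD3_c26) Lrfl Lrfl
theorem f9575 : Led Lsl_bt (LP (LK LD1_c0 LD2_c5 LD3_c59)) = (LP (LK LD1_c0 LD2_c7 LD3_c46)) :=
  Lgr Lrot62 (Lpr_af (f9570 IH) (Lpe (f3968 IH) (Lpr_af (f8242 IH) (Lpe (f7077 IH) (Lpe (f8193 IH) (Lpn (LP (LK LD1_c0 LD2_c7 LD3_c46))))))))
theorem f9584 : Led Lsl_bf (LP (LK LD1_c0 LD2_c5 LD3_c59)) = (LP (LK LD1_c0 LD2_c7 LD3_c46)) :=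
  Lgr Lrot61 (Lpr_ft (f9582 IH) (Lpr_bt (f9575 IH) (Lpe (f8199 IH) (Lpn (LP (LK LD1_c0 LD2_c7 LD3_c46))))))
def v54 : LQ := Led Lsl_gt (LP (LK LD1_c0 LD2_c0 LD3_c25))
theorem f6971 : Led Lsl_gt (LP (LK LD1_c0 LD2_c0 LD3_c25)) = v54 :=
  Lrfl
theorem f6987 : Led Lsl_ft (LP (LK LD1_c0 LD2_c0 LD3_c25)) = v56 :=
  Lgr Lrot54 (Lpe (f454 IH) (Lpr_ff (f452 IH) (Lpr_df (f6984 IH) (Lpn v56))))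
theorem f429 : Led Lsl_at (LP (LK LD1_c0 LD2_c0 LD3_c10)) = (LP (LK LD1_c0 LD2_c0 LD3_c25)) :=
  Lre_a IH (LK LD1_c0 LD2_c0 LD3_c10) (LK LD1_c0 LD2_c0 LD3_c25) Lrfl Lrfl
def v5 : LQ := Led Lsl_at (LP (LK LD1_c0 LD2_c0 LD3_c4))
theorem f422 : Led Lsl_at (LP (LK LD1_c0 LD2_c0 LD3_c4)) = v5 :=
  Lrfl
theorem f423 : Led Lsl_af (LP (LK LD1_c0 LD2_c0 LD3_c4)) = v5 :=
  Lgr Lrot0 (Lpr_at (f422 IH) (Lpn v5))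
theorem f425 : Led Lsl_df v0 = v5 :=
  Lgr Lrot18 (Lpe (f9 IH) (Lpr_dt (f18 IH) (Lpr_at (f422 IH) (Lpn v5))))
theorem f427 : Led Lsl_ft (LP (LK LD1_c0 LD2_c0 LD3_c4)) = v5 :=
  Lgr Lrot54 (Lpe (f18 IH) (Lpr_ff (f23 IH) (Lpr_df (f425 IH) (Lpn v5))))
theorem f428 : Led Lsl_ff (LP (LK LD1_c0 LD2_c0 LD3_c4)) = v5 :=
  Lgr Lrot3 (Lpr_ft (f427 IH) (Lpn v5))
theorem f1487 : Led Lsl_bf v5 = v18 :=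
  Lgr Lrot61 (Lpe (f428 IH) (Lpr_bt (f83 IH) (Lpr_ft (f1486 IH) (Lpn v18))))
theorem f6981 : Led Lsl_af v18 = v56 :=
  Lgr Lrot36 (Lpe (f1487 IH) (Lpe (f423 IH) (Lpr_bt (f83 IH) (Lpr_at (f429 IH) (Lpr_bt (f6980 IH) (Lpn v56))))))
theorem f6990 : Led Lsl_gt v54 = v18 :=
  Lgr Lrot46 (Lpe (f6971 IH) (Lpr_ft (f6987 IH) (Lpe (f6981 IH) (Lpn v18))))
theorem f7223 : v18 = (LP (LK LD1_c0 LD2_c0 LD3_c10)) :=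
  Lefun (Lecon (f1493 IH) (f7207 IH)) (f28 IH)
theorem f7252 : v54 = (LP (LK LD1_c0 LD2_c0 LD3_c33)) :=
  Lefun (Lecon (Lfl_gt (f6990 IH)) (f7223 IH)) (Lfl_gt (f231 IH))
theorem f9590 : Led Lsl_cf (LP (LK LD1_c0 LD2_c5 LD3_c60)) = (LP (LK LD1_c0 LD2_c5 LD3_c60)) :=
  Lgr Lrot125 (Lpe (f9568 IH) (Lpr_cf (f9586 IH) (Lpe (f9584 IH) (Lpr_gt (f6972 IH) (Lpe (f1470 IH) (Lpr_ct (f1468 IH) (Lpr_gt (f6971 IH) (Lpqs (f7252 IH) (Lpe (f1418 IH) (Lpr_bt (f3968 IH) (Lpr_gt (f9564 IH) (Lpn (LP (LK LD1_c0 LD2_c5 LD3_c60))))))))))))))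
theorem f9592 : Led Lsl_ct (LP (LK LD1_c0 LD2_c2 LD3_c42)) = (LP (LK LD1_c0 LD2_c2 LD3_c42)) :=
  Lgr Lrot111 (Lpe (f9560 IH) (Lpr_cf (f9590 IH) (Lpe (f9561 IH) (Lpn (LP (LK LD1_c0 LD2_c2 LD3_c42))))))
theorem f230 : Led Lsl_gt (LP (LK LD1_c0 LD2_c1 LD3_c26)) = (LP (LK LD1_c0 LD2_c3 LD3_c28)) :=
  Lre_g IH (LK LD1_c0 LD2_c1 LD3_c26) (LK LD1_c0 LD2_c3 LD3_c28) Lrfl Lrfl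
theorem f9596 : Led Lsl_bf (LP (LK LD1_c0 LD2_c3 LD3_c28)) = (LP (LK LD1_c0 LD2_c5 LD3_c60)) :=
  Lgr Lrot34 (Lpe (f230 IH) (Lpe (f7077 IH) (Lpe (f8186 IH) (Lpr_gf (f8255 IH) (Lpe (f9592 IH) (Lpe (f6972 IH) (Lpr_bf (f9584 IH) (Lpe (f9586 IH) (Lpr_gf (f9568 IH) (Lpr_cf (f9590 IH) (Lpn (LP (LK LD1_c0 LD2_c5 LD3_c60)))))))))))))
theorem f9602 : Led Lsl_et (LP (LK LD1_c0 LD2_c3 LD3_c28)) = (LP (LK LD1_c0 LD2_c7 LD3_c43)) :=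
  Lre_e IH (LK LD1_c0 LD2_c3 LD3_c28) (LK LD1_c0 LD2_c7 LD3_c43) Lrfl Lrfl
theorem f9566 : Led Lsl_et (LP (LK LD1_c0 LD2_c13 LD3_c7)) = (LP (LK LD1_c0 LD2_c5 LD3_c60)) :=
  Lre_e IH (LK LD1_c0 LD2_c13 LD3_c7) (LK LD1_c0 LD2_c5 LD3_c60) Lrfl Lrfl
theorem f9603 : Led Lsl_bt (LP (LK LD1_c0 LD2_c7 LD3_c43)) = (LP (LK LD1_c0 LD2_c13 LD3_c7)) :=
  Lgr Lrot119 (Lpe (f9602 IH) (Lpr_bf (f9596 IH) (Lpe (f9566 IH) (Lpn (LP (LK LD1_c0 LD2_c13 LD3_c7))))))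
theorem f9612 : Led Lsl_bf (LP (LK LD1_c0 LD2_c7 LD3_c43)) = (LP (LK LD1_c0 LD2_c13 LD3_c7)) :=
  Lgr Lrot24 (Lpr_bt (f9603 IH) (Lpn (LP (LK LD1_c0 LD2_c13 LD3_c7))))
theorem f9614 : Led Lsl_at (LP (LK LD1_c0 LD2_c5 LD3_c61)) = (LP (LK LD1_c0 LD2_c13 LD3_c7)) :=
  Lre_a IH (LK LD1_c0 LD2_c5 LD3_c61) (LK LD1_c0 LD2_c13 LD3_c7) Lrfl Lrfl
theorem f9615 : Led Lsl_bt (LP (LK LD1_c0 LD2_c2 LD3_c44)) = (LP (LK LD1_c0 LD2_c5 LD3_c61)) :=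
  Lre_b IH (LK LD1_c0 LD2_c2 LD3_c44) (LK LD1_c0 LD2_c5 LD3_c61) Lrfl Lrfl
theorem f9616 : Led Lsl_at (LP (LK LD1_c0 LD2_c1 LD3_c34)) = (LP (LK LD1_c0 LD2_c2 LD3_c44)) :=
  Lre_a IH (LK LD1_c0 LD2_c1 LD3_c34) (LK LD1_c0 LD2_c2 LD3_c44) Lrfl Lrfl
theorem f102 : Led Lsl_bt (LP (LK LD1_c0 LD2_c3 LD3_c36)) = (LP (LK LD1_c0 LD2_c1 LD3_c34)) :=
  Lre_b IH (LK LD1_c0 LD2_c3 LD3_c36) (LK LD1_c0 LD2_c1 LD3_c34) Lrfl Lrfl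
theorem f9617 : Led Lsl_at (LP (LK LD1_c0 LD2_c7 LD3_c43)) = (LP (LK LD1_c0 LD2_c3 LD3_c36)) :=
  Lgr Lrot67 (Lpr_bf (f9612 IH) (Lpe (f9614 IH) (Lpe (f9615 IH) (Lpe (f9616 IH) (Lpe (f102 IH) (Lpn (LP (LK LD1_c0 LD2_c3 LD3_c36))))))))
theorem f193 : Led Lsl_at (LP (LK LD1_c0 LD2_c1 LD3_c50)) = (LP (LK LD1_c0 LD2_c4 LD3_c2)) :=
  Lre_a IH (LK LD1_c0 LD2_c1 LD3_c50) (LK LD1_c0 LD2_c4 LD3_c2) Lrfl Lrfl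
theorem f9619 : Led Lsl_cf (LP (LK LD1_c0 LD2_c7 LD3_c43)) = (LP (LK LD1_c0 LD2_c4 LD3_c2)) :=
  Lgr Lrot1 (Lpr_at (f9617 IH) (Lpr_ct (f184 IH) (Lpr_at (f193 IH) (Lpn (LP (LK LD1_c0 LD2_c4 LD3_c2))))))
theorem f8248 : Led Lsl_et (LP (LK LD1_c0 LD2_c7 LD3_c43)) = (LP (LK LD1_c0 LD2_c3 LD3_c28)) :=
  Lre_e IH (LK LD1_c0 LD2_c7 LD3_c43) (LK LD1_c0 LD2_c3 LD3_c28) Lrfl Lrfl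
theorem f9624 : Led Lsl_et (LP (LK LD1_c0 LD2_c1 LD3_c46)) = (LP (LK LD1_c0 LD2_c4 LD3_c2)) :=
  Lre_e IH (LK LD1_c0 LD2_c1 LD3_c46) (LK LD1_c0 LD2_c4 LD3_c2) Lrfl Lrfl
theorem f9625 : Led Lsl_ct (LP (LK LD1_c0 LD2_c3 LD3_c28)) = (LP (LK LD1_c0 LD2_c1 LD3_c46)) :=
  Lgr Lrot15 (Lpe (f8248 IH) (Lpr_cf (f9619 IH) (Lpe (f9624 IH) (Lpn (LP (LK LD1_c0 LD2_c1 LD3_c46))))))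
theorem f6983 : Led Lsl_bt (LP (LK LD1_c0 LD2_c2 LD3_c42)) = (LP (LK LD1_c0 LD2_c1 LD3_c7)) :=
  Lre_b IH (LK LD1_c0 LD2_c2 LD3_c42) (LK LD1_c0 LD2_c1 LD3_c7) Lrfl Lrfl
theorem f6989 : Led Lsl_ff (LP (LK LD1_c0 LD2_c0 LD3_c25)) = v56 :=
  Lgr Lrot3 (Lpr_ft (f6987 IH) (Lpn v56))
theorem f424 : Led Lsl_at (LP (LK LD1_c0 LD2_c0 LD3_c25)) = (LP (LK LD1_c0 LD2_c0 LD3_c10)) :=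
  Lre_a IH (LK LD1_c0 LD2_c0 LD3_c25) (LK LD1_c0 LD2_c0 LD3_c10) Lrfl Lrfl
theorem f6992 : Led Lsl_gf (LP (LK LD1_c0 LD2_c0 LD3_c33)) = v56 :=
  Lgr Lrot47 (Lpr_gt (f231 IH) (Lpe (f424 IH) (Lpr_ff (f6989 IH) (Lpn v56))))
theorem f6982 : Led Lsl_bf (LP (LK LD1_c0 LD2_c0 LD3_c25)) = v56 :=
  Lgr Lrot24 (Lpr_bt (f6980 IH) (Lpn v56))
theorem f8142 : Led Lsl_gf (LP (LK LD1_c0 LD2_c1 LD3_c7)) = (LP (LK LD1_c0 LD2_c1 LD3_c30)) :=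
  Lgr Lrot126 (Lpe (f464 IH) (Lpq (f7228 IH) (Lpe (f6982 IH) (Lpq (f7228 IH) (Lpe (f6992 IH) (Lpr_ct (f1419 IH) (Lpr_gt (f8138 IH) (Lpr_cf (f199 IH) (Lpr_bt (f85 IH) (Lpr_gt (f48 IH) (Lpqs (f3808 IH) (Lpr_bf (f3836 IH) (Lpe (f3847 IH) (Lpn (LP (LK LD1_c0 LD2_c1 LD3_c30))))))))))))))))
theorem f3851 : Led Lsl_et (LP (LK LD1_c0 LD2_c1 LD3_c30)) = (LP (LK LD1_c0 LD2_c3 LD3_c33)) :=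
  Lre_e IH (LK LD1_c0 LD2_c1 LD3_c30) (LK LD1_c0 LD2_c3 LD3_c33) Lrfl Lrfl
theorem f3796 : Led Lsl_et (LP (LK LD1_c0 LD2_c4 LD3_c6)) = (LP (LK LD1_c0 LD2_c1 LD3_c49)) :=
  Lre_e IH (LK LD1_c0 LD2_c4 LD3_c6) (LK LD1_c0 LD2_c1 LD3_c49) Lrfl Lrfl
theorem f3852 : Led Lsl_ct (LP (LK LD1_c0 LD2_c3 LD3_c33)) = (LP (LK LD1_c0 LD2_c4 LD3_c6)) :=
  Lgr Lrot15 (Lpe (f3851 IH) (Lpr_cf (f3847 IH) (Lpe (f3796 IH) (Lpn (LP (LK LD1_c0 LD2_c4 LD3_c6))))))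
theorem f3854 : Led Lsl_cf (LP (LK LD1_c0 LD2_c3 LD3_c33)) = (LP (LK LD1_c0 LD2_c4 LD3_c6)) :=
  Lgr Lrot11 (Lpr_ct (f3852 IH) (Lpn (LP (LK LD1_c0 LD2_c4 LD3_c6))))
theorem f3812 : Led Lsl_et (LP (LK LD1_c0 LD2_c1 LD3_c55)) = (LP (LK LD1_c0 LD2_c0 LD3_c45)) :=
  Lre_e IH (LK LD1_c0 LD2_c1 LD3_c55) (LK LD1_c0 LD2_c0 LD3_c45) Lrfl Lrfl
theorem f3838 : Led Lsl_et (LP (LK LD1_c0 LD2_c1 LD3_c49)) = (LP (LK LD1_c0 LD2_c4 LD3_c6)) :=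
  Lre_e IH (LK LD1_c0 LD2_c1 LD3_c49) (LK LD1_c0 LD2_c4 LD3_c6) Lrfl Lrfl
theorem f3839 : Led Lsl_bf (LP (LK LD1_c0 LD2_c1 LD3_c55)) = (LP (LK LD1_c0 LD2_c4 LD3_c6)) :=
  Lgr Lrot96 (Lpr_et (f3812 IH) (Lpqs (f3808 IH) (Lpr_bt (f3834 IH) (Lpr_et (f3838 IH) (Lpn (LP (LK LD1_c0 LD2_c4 LD3_c6)))))))
theorem f3841 : Led Lsl_bt (LP (LK LD1_c0 LD2_c1 LD3_c55)) = (LP (LK LD1_c0 LD2_c4 LD3_c6)) :=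
  Lgr Lrot127 (Lpr_bf (f3839 IH) (Lpn (LP (LK LD1_c0 LD2_c4 LD3_c6))))
theorem f3811 : Led Lsl_et (LP (LK LD1_c0 LD2_c0 LD3_c45)) = (LP (LK LD1_c0 LD2_c1 LD3_c55)) :=
  Lre_e IH (LK LD1_c0 LD2_c0 LD3_c45) (LK LD1_c0 LD2_c1 LD3_c55) Lrfl Lrfl
theorem f3813 : Led Lsl_cf (LP (LK LD1_c0 LD2_c1 LD3_c55)) = (LP (LK LD1_c0 LD2_c1 LD3_c55)) :=
  Lgr Lrot39 (Lpr_et (f3812 IH) (Lpqs (f3808 IH) (Lpr_ct (f3806 IH) (Lpq (f3808 IH) (Lpr_et (f3811 IH) (Lpn (LP (LK LD1_c0 LD2_c1 LD3_c55))))))))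
theorem f3856 : Led Lsl_bt (LP (LK LD1_c0 LD2_c3 LD3_c33)) = (LP (LK LD1_c0 LD2_c3 LD3_c33)) :=
  Lgr Lrot128 (Lpr_cf (f3854 IH) (Lpe (f3841 IH) (Lpr_cf (f3813 IH) (Lpr_bf (f3839 IH) (Lpe (f3852 IH) (Lpn (LP (LK LD1_c0 LD2_c3 LD3_c33))))))))
theorem f3858 : Led Lsl_et (LP (LK LD1_c0 LD2_c3 LD3_c33)) = (LP (LK LD1_c0 LD2_c1 LD3_c30)) :=
  Lre_e IH (LK LD1_c0 LD2_c3 LD3_c33) (LK LD1_c0 LD2_c1 LD3_c30) Lrfl Lrfl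
theorem f3859 : Led Lsl_bf (LP (LK LD1_c0 LD2_c1 LD3_c30)) = (LP (LK LD1_c0 LD2_c1 LD3_c30)) :=
  Lgr Lrot96 (Lpr_et (f3851 IH) (Lpr_bt (f3856 IH) (Lpr_et (f3858 IH) (Lpn (LP (LK LD1_c0 LD2_c1 LD3_c30))))))
theorem f9636 : Led Lsl_gf (LP (LK LD1_c0 LD2_c1 LD3_c49)) = (LP (LK LD1_c0 LD2_c1 LD3_c46)) :=
  Lgr Lrot129 (Lpe (f3849 IH) (Lpe (f3859 IH) (Lpe (f8142 IH) (Lpe (f6983 IH) (Lpr_ct (f9592 IH) (Lpe (f8255 IH) (Lpr_cf (f8186 IH) (Lpr_bt (f7077 IH) (Lpr_gt (f230 IH) (Lpr_ct (f9625 IH) (Lpn (LP (LK LD1_c0 LD2_c1 LD3_c46)))))))))))))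
theorem f229 : Led Lsl_ct (LP (LK LD1_c0 LD2_c0 LD3_c32)) = (LP (LK LD1_c0 LD2_c1 LD3_c26)) :=
  Lre_c IH (LK LD1_c0 LD2_c0 LD3_c32) (LK LD1_c0 LD2_c1 LD3_c26) Lrfl Lrfl
theorem f9627 : Led Lsl_cf (LP (LK LD1_c0 LD2_c3 LD3_c28)) = (LP (LK LD1_c0 LD2_c1 LD3_c46)) :=
  Lgr Lrot11 (Lpr_ct (f9625 IH) (Lpn (LP (LK LD1_c0 LD2_c1 LD3_c46))))
theorem f9640 : Led Lsl_bt (LP (LK LD1_c0 LD2_c1 LD3_c46)) = (LP (LK LD1_c0 LD2_c1 LD3_c46)) :=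
  Lgr Lrot130 (Lpe (f9627 IH) (Lpe (f230 IH) (Lpe (f229 IH) (Lpq (f8148 IH) (Lpe (f7085 IH) (Lpq (f7252 IH) (Lpe (f6971 IH) (Lpq (f7228 IH) (Lpe (f6980 IH) (Lpr_ct (f464 IH) (Lpr_gf (f8142 IH) (Lpr_cf (f3847 IH) (Lpr_gf (f9636 IH) (Lpn (LP (LK LD1_c0 LD2_c1 LD3_c46))))))))))))))))
theorem f7358 : Led Lsl_et (LP (LK LD1_c0 LD2_c4 LD3_c2)) = (LP (LK LD1_c0 LD2_c1 LD3_c46)) :=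
  Lre_e IH (LK LD1_c0 LD2_c4 LD3_c2) (LK LD1_c0 LD2_c1 LD3_c46) Lrfl Lrfl
theorem f9695 : Led Lsl_bf (LP (LK LD1_c0 LD2_c4 LD3_c2)) = (LP (LK LD1_c0 LD2_c4 LD3_c2)) :=
  Lgr Lrot96 (Lpr_et (f7358 IH) (Lpr_bt (f9640 IH) (Lpr_et (f9624 IH) (Lpn (LP (LK LD1_c0 LD2_c4 LD3_c2))))))
theorem f9657 : Led Lsl_ft (LP (LK LD1_c0 LD2_c4 LD3_c2)) = (LP (LK LD1_c0 LD2_c8 LD3_c60)) :=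
  Lre_f IH (LK LD1_c0 LD2_c4 LD3_c2) (LK LD1_c0 LD2_c8 LD3_c60) Lrfl Lrfl
theorem f203 : Led Lsl_ft (LP (LK LD1_c0 LD2_c8 LD3_c60)) = (LP (LK LD1_c0 LD2_c4 LD3_c2)) :=
  Lre_f IH (LK LD1_c0 LD2_c8 LD3_c60) (LK LD1_c0 LD2_c4 LD3_c2) Lrfl Lrfl
theorem f9701 : Led Lsl_bt (LP (LK LD1_c0 LD2_c8 LD3_c60)) = (LP (LK LD1_c0 LD2_c8 LD3_c60)) :=
  Lgr Lrot35 (Lpe (f9657 IH) (Lpr_bf (f9695 IH) (Lpe (f203 IH) (Lpn (LP (LK LD1_c0 LD2_c8 LD3_c60))))))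
theorem f7039 : Led Lsl_dt (LP (LK LD1_c0 LD2_c0 LD3_c42)) = (LP (LK LD1_c0 LD2_c1 LD3_c46)) :=
  Lre_d IH (LK LD1_c0 LD2_c0 LD3_c42) (LK LD1_c0 LD2_c1 LD3_c46) Lrfl Lrfl
theorem f215 : Led Lsl_et (LP (LK LD1_c0 LD2_c0 LD3_c43)) = (LP (LK LD1_c0 LD2_c1 LD3_c50)) :=
  Lre_e IH (LK LD1_c0 LD2_c0 LD3_c43) (LK LD1_c0 LD2_c1 LD3_c50) Lrfl Lrfl
theorem f9642 : Led Lsl_gt (LP (LK LD1_c0 LD2_c4 LD3_c6)) = (LP (LK LD1_c0 LD2_c1 LD3_c50)) :=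
  Lgr Lrot131 (Lpe (f3838 IH) (Lpe (f3953 IH) (Lpr_gf (f9636 IH) (Lpe (f7039 IH) (Lpq (f7283 IH) (Lpe (f7184 IH) (Lpr_ef (f1648 IH) (Lpe (f1646 IH) (Lpe (f312 IH) (Lpe (f219 IH) (Lpr_et (f215 IH) (Lpn (LP (LK LD1_c0 LD2_c1 LD3_c50))))))))))))))
theorem f202 : Led Lsl_at (LP (LK LD1_c0 LD2_c4 LD3_c2)) = (LP (LK LD1_c0 LD2_c1 LD3_c50)) :=
  Lre_a IH (LK LD1_c0 LD2_c4 LD3_c2) (LK LD1_c0 LD2_c1 LD3_c50) Lrfl Lrfl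
theorem f9644 : Led Lsl_gf (LP (LK LD1_c0 LD2_c4 LD3_c6)) = (LP (LK LD1_c0 LD2_c8 LD3_c60)) :=
  Lgr Lrot47 (Lpr_gt (f9642 IH) (Lpe (f202 IH) (Lpe (f203 IH) (Lpn (LP (LK LD1_c0 LD2_c8 LD3_c60))))))
theorem f3798 : Led Lsl_et (LP (LK LD1_c0 LD2_c0 LD3_c13)) = (LP (LK LD1_c0 LD2_c0 LD3_c44)) :=
  Lre_e IH (LK LD1_c0 LD2_c0 LD3_c13) (LK LD1_c0 LD2_c0 LD3_c44) Lrfl Lrfl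
theorem f363 : Led Lsl_gt (LP (LK LD1_c0 LD2_c0 LD3_c44)) = (LP (LK LD1_c0 LD2_c1 LD3_c51)) :=
  Lre_g IH (LK LD1_c0 LD2_c0 LD3_c44) (LK LD1_c0 LD2_c1 LD3_c51) Lrfl Lrfl
theorem f3965 : Led Lsl_dt (LP (LK LD1_c0 LD2_c1 LD3_c51)) = (LP (LK LD1_c0 LD2_c4 LD3_c10)) :=
  Lre_d IH (LK LD1_c0 LD2_c1 LD3_c51) (LK LD1_c0 LD2_c4 LD3_c10) Lrfl Lrfl
theorem f3966 : Led Lsl_gt (LP (LK LD1_c0 LD2_c4 LD3_c10)) = (LP (LK LD1_c0 LD2_c9 LD3_c2)) :=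
  Lre_g IH (LK LD1_c0 LD2_c4 LD3_c10) (LK LD1_c0 LD2_c9 LD3_c2) Lrfl Lrfl
theorem f7344 : Led Lsl_at (LP (LK LD1_c0 LD2_c4 LD3_c9)) = (LP (LK LD1_c0 LD2_c8 LD3_c60)) :=
  Lre_a IH (LK LD1_c0 LD2_c4 LD3_c9) (LK LD1_c0 LD2_c8 LD3_c60) Lrfl Lrfl
theorem f7345 : Led Lsl_at (LP (LK LD1_c0 LD2_c8 LD3_c60)) = (LP (LK LD1_c0 LD2_c4 LD3_c9)) :=
  Lre_a IH (LK LD1_c0 LD2_c8 LD3_c60) (LK LD1_c0 LD2_c4 LD3_c9) Lrfl Lrfl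
theorem f7346 : Led Lsl_et (LP (LK LD1_c0 LD2_c8 LD3_c60)) = (LP (LK LD1_c0 LD2_c8 LD3_c60)) :=
  Lgr Lrot123 (Lpe (f7344 IH) (Lpr_ef (f7342 IH) (Lpe (f7345 IH) (Lpn (LP (LK LD1_c0 LD2_c8 LD3_c60))))))
theorem f9647 : Led Lsl_df (LP (LK LD1_c0 LD2_c9 LD3_c2)) = (LP (LK LD1_c0 LD2_c8 LD3_c60)) :=
  Lgr Lrot132 (Lpe (f3966 IH) (Lpe (f3965 IH) (Lpe (f363 IH) (Lpe (f3798 IH) (Lpr_dt (f209 IH) (Lpe (f95 IH) (Lpr_df (f3953 IH) (Lpr_et (f3838 IH) (Lpr_gf (f9644 IH) (Lpe (f7346 IH) (Lpn (LP (LK LD1_c0 LD2_c8 LD3_c60)))))))))))))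
theorem f9651 : Led Lsl_dt (LP (LK LD1_c0 LD2_c9 LD3_c2)) = (LP (LK LD1_c0 LD2_c8 LD3_c60)) :=
  Lgr Lrot42 (Lpr_df (f9647 IH) (Lpn (LP (LK LD1_c0 LD2_c8 LD3_c60))))
theorem f9705 : Led Lsl_bf (LP (LK LD1_c0 LD2_c9 LD3_c2)) = (LP (LK LD1_c0 LD2_c9 LD3_c2)) :=
  Lgr Lrot93 (Lpr_dt (f9651 IH) (Lpr_bt (f9701 IH) (Lpe (f9647 IH) (Lpn (LP (LK LD1_c0 LD2_c9 LD3_c2))))))
theorem f9653 : Led Lsl_et (LP (LK LD1_c0 LD2_c9 LD3_c2)) = (LP (LK LD1_c0 LD2_c20 LD3_c4)) :=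
  Lre_e IH (LK LD1_c0 LD2_c9 LD3_c2) (LK LD1_c0 LD2_c20 LD3_c4) Lrfl Lrfl
theorem f9654 : Led Lsl_et (LP (LK LD1_c0 LD2_c20 LD3_c4)) = (LP (LK LD1_c0 LD2_c9 LD3_c2)) :=
  Lre_e IH (LK LD1_c0 LD2_c20 LD3_c4) (LK LD1_c0 LD2_c9 LD3_c2) Lrfl Lrfl
theorem f9709 : Led Lsl_bt (LP (LK LD1_c0 LD2_c20 LD3_c4)) = (LP (LK LD1_c0 LD2_c20 LD3_c4)) :=
  Lgr Lrot119 (Lpe (f9653 IH) (Lpr_bf (f9705 IH) (Lpe (f9654 IH) (Lpn (LP (LK LD1_c0 LD2_c20 LD3_c4))))))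
theorem f9623 : Led Lsl_dt (LP (LK LD1_c0 LD2_c8 LD3_c59)) = (LP (LK LD1_c0 LD2_c4 LD3_c2)) :=
  Lre_d IH (LK LD1_c0 LD2_c8 LD3_c59) (LK LD1_c0 LD2_c4 LD3_c2) Lrfl Lrfl
theorem f9658 : Led Lsl_ft (LP (LK LD1_c0 LD2_c9 LD3_c2)) = (LP (LK LD1_c0 LD2_c8 LD3_c59)) :=
  Lgr Lrot54 (Lpr_df (f9647 IH) (Lpe (f9657 IH) (Lpe (f9623 IH) (Lpn (LP (LK LD1_c0 LD2_c8 LD3_c59))))))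
theorem f9662 : Led Lsl_et (LP (LK LD1_c0 LD2_c8 LD3_c59)) = (LP (LK LD1_c0 LD2_c4 LD3_c3)) :=
  Lre_e IH (LK LD1_c0 LD2_c8 LD3_c59) (LK LD1_c0 LD2_c4 LD3_c3) Lrfl Lrfl
theorem f9663 : Led Lsl_ft (LP (LK LD1_c0 LD2_c4 LD3_c3)) = (LP (LK LD1_c0 LD2_c9 LD3_c0)) :=
  Lre_f IH (LK LD1_c0 LD2_c4 LD3_c3) (LK LD1_c0 LD2_c9 LD3_c0) Lrfl Lrfl
theorem f9664 : Led Lsl_ff (LP (LK LD1_c0 LD2_c20 LD3_c4)) = (LP (LK LD1_c0 LD2_c20 LD3_c2)) :=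
  Lgr Lrot72 (Lpr_et (f9654 IH) (Lpr_ft (f9658 IH) (Lpr_et (f9662 IH) (Lpr_ft (f9663 IH) (Lpr_et (f7299 IH) (Lpn (LP (LK LD1_c0 LD2_c20 LD3_c2))))))))
theorem f9666 : Led Lsl_ff (LP (LK LD1_c0 LD2_c9 LD3_c2)) = (LP (LK LD1_c0 LD2_c8 LD3_c59)) :=
  Lgr Lrot3 (Lpr_ft (f9658 IH) (Lpn (LP (LK LD1_c0 LD2_c8 LD3_c59))))
theorem f9673 : Led Lsl_et (LP (LK LD1_c0 LD2_c4 LD3_c3)) = (LP (LK LD1_c0 LD2_c8 LD3_c59)) :=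
  Lre_e IH (LK LD1_c0 LD2_c4 LD3_c3) (LK LD1_c0 LD2_c8 LD3_c59) Lrfl Lrfl
theorem f9674 : Led Lsl_ft (LP (LK LD1_c0 LD2_c9 LD3_c0)) = (LP (LK LD1_c0 LD2_c4 LD3_c3)) :=
  Lre_f IH (LK LD1_c0 LD2_c9 LD3_c0) (LK LD1_c0 LD2_c4 LD3_c3) Lrfl Lrfl
theorem f9675 : Led Lsl_ft (LP (LK LD1_c0 LD2_c20 LD3_c4)) = (LP (LK LD1_c0 LD2_c20 LD3_c2)) :=
  Lgr Lrot86 (Lpe (f9653 IH) (Lpr_ff (f9666 IH) (Lpe (f9673 IH) (Lpe (f9674 IH) (Lpe (f7301 IH) (Lpn (LP (LK LD1_c0 LD2_c20 LD3_c2))))))))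
theorem f9713 : Led Lsl_bf (LP (LK LD1_c0 LD2_c20 LD3_c2)) = (LP (LK LD1_c0 LD2_c20 LD3_c2)) :=
  Lgr Lrot61 (Lpe (f9664 IH) (Lpr_bt (f9709 IH) (Lpr_ft (f9675 IH) (Lpn (LP (LK LD1_c0 LD2_c20 LD3_c2))))))
theorem f9717 : Led Lsl_bt (LP (LK LD1_c0 LD2_c9 LD3_c0)) = (LP (LK LD1_c0 LD2_c9 LD3_c0)) :=
  Lgr Lrot119 (Lpe (f7301 IH) (Lpr_bf (f9713 IH) (Lpe (f7299 IH) (Lpn (LP (LK LD1_c0 LD2_c9 LD3_c0))))))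
theorem f9727 : Led Lsl_bf (LP (LK LD1_c0 LD2_c4 LD3_c3)) = (LP (LK LD1_c0 LD2_c4 LD3_c3)) :=
  Lgr Lrot61 (Lpr_ft (f9663 IH) (Lpr_bt (f9717 IH) (Lpr_ft (f9674 IH) (Lpn (LP (LK LD1_c0 LD2_c4 LD3_c3))))))
theorem f9733 : Led Lsl_ct (LP (LK LD1_c0 LD2_c4 LD3_c3)) = (LP (LK LD1_c0 LD2_c8 LD3_c61)) :=
  Lre_c IH (LK LD1_c0 LD2_c4 LD3_c3) (LK LD1_c0 LD2_c8 LD3_c61) Lrfl Lrfl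
theorem f9734 : Led Lsl_bt (LP (LK LD1_c0 LD2_c8 LD3_c61)) = (LP (LK LD1_c0 LD2_c20 LD3_c0)) :=
  Lre_b IH (LK LD1_c0 LD2_c8 LD3_c61) (LK LD1_c0 LD2_c20 LD3_c0) Lrfl Lrfl
theorem f9735 : Led Lsl_ct (LP (LK LD1_c0 LD2_c8 LD3_c61)) = (LP (LK LD1_c0 LD2_c4 LD3_c3)) :=
  Lre_c IH (LK LD1_c0 LD2_c8 LD3_c61) (LK LD1_c0 LD2_c4 LD3_c3) Lrfl Lrfl
theorem f9736 : Led Lsl_bt (LP (LK LD1_c0 LD2_c20 LD3_c0)) = (LP (LK LD1_c0 LD2_c8 LD3_c61)) :=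
  Lre_b IH (LK LD1_c0 LD2_c20 LD3_c0) (LK LD1_c0 LD2_c8 LD3_c61) Lrfl Lrfl
theorem f9737 : Led Lsl_ct (LP (LK LD1_c0 LD2_c20 LD3_c0)) = (LP (LK LD1_c0 LD2_c20 LD3_c0)) :=
  Lgr Lrot83 (Lpe (f9734 IH) (Lpe (f9733 IH) (Lpr_bf (f9727 IH) (Lpe (f9735 IH) (Lpe (f9736 IH) (Lpn (LP (LK LD1_c0 LD2_c20 LD3_c0))))))))
theorem f9744 : Led Lsl_at (LP (LK LD1_c0 LD2_c45 LD3_c10)) = (LP (LK LD1_c0 LD2_c20 LD3_c0)) :=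
  Lre_a IH (LK LD1_c0 LD2_c45 LD3_c10) (LK LD1_c0 LD2_c20 LD3_c0) Lrfl Lrfl
theorem f9745 : Led Lsl_at (LP (LK LD1_c0 LD2_c20 LD3_c0)) = (LP (LK LD1_c0 LD2_c45 LD3_c10)) :=
  Lre_a IH (LK LD1_c0 LD2_c20 LD3_c0) (LK LD1_c0 LD2_c45 LD3_c10) Lrfl Lrfl
theorem f9746 : Led Lsl_cf (LP (LK LD1_c0 LD2_c45 LD3_c10)) = (LP (LK LD1_c0 LD2_c45 LD3_c10)) :=
  Lgr Lrot1 (Lpr_at (f9744 IH) (Lpr_ct (f9737 IH) (Lpr_at (f9745 IH) (Lpn (LP (LK LD1_c0 LD2_c45 LD3_c10))))))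
theorem f9757 : Led Lsl_bt (LP (LK LD1_c0 LD2_c45 LD3_c10)) = (LP (LK LD1_c0 LD2_c20 LD3_c16)) :=
  Lre_b IH (LK LD1_c0 LD2_c45 LD3_c10) (LK LD1_c0 LD2_c20 LD3_c16) Lrfl Lrfl
theorem f9758 : Led Lsl_ct (LP (LK LD1_c0 LD2_c20 LD3_c16)) = (LP (LK LD1_c0 LD2_c9 LD3_c27)) :=
  Lre_c IH (LK LD1_c0 LD2_c20 LD3_c16) (LK LD1_c0 LD2_c9 LD3_c27) Lrfl Lrfl
theorem f9759 : Led Lsl_bt (LP (LK LD1_c0 LD2_c20 LD3_c16)) = (LP (LK LD1_c0 LD2_c45 LD3_c10)) :=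
  Lre_b IH (LK LD1_c0 LD2_c20 LD3_c16) (LK LD1_c0 LD2_c45 LD3_c10) Lrfl Lrfl
theorem f9760 : Led Lsl_ct (LP (LK LD1_c0 LD2_c9 LD3_c27)) = (LP (LK LD1_c0 LD2_c20 LD3_c16)) :=
  Lre_c IH (LK LD1_c0 LD2_c9 LD3_c27) (LK LD1_c0 LD2_c20 LD3_c16) Lrfl Lrfl
theorem f9761 : Led Lsl_bt (LP (LK LD1_c0 LD2_c9 LD3_c27)) = (LP (LK LD1_c0 LD2_c9 LD3_c27)) :=
  Lgr Lrot128 (Lpe (f9758 IH) (Lpe (f9757 IH) (Lpr_cf (f9746 IH) (Lpe (f9759 IH) (Lpe (f9760 IH) (Lpn (LP (LK LD1_c0 LD2_c9 LD3_c27))))))))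
theorem f9779 : Led Lsl_ft (LP (LK LD1_c0 LD2_c20 LD3_c42)) = (LP (LK LD1_c0 LD2_c9 LD3_c27)) :=
  Lre_f IH (LK LD1_c0 LD2_c20 LD3_c42) (LK LD1_c0 LD2_c9 LD3_c27) Lrfl Lrfl
theorem f9780 : Led Lsl_ft (LP (LK LD1_c0 LD2_c9 LD3_c27)) = (LP (LK LD1_c0 LD2_c20 LD3_c42)) :=
  Lre_f IH (LK LD1_c0 LD2_c9 LD3_c27) (LK LD1_c0 LD2_c20 LD3_c42) Lrfl Lrfl
theorem f9781 : Led Lsl_bf (LP (LK LD1_c0 LD2_c20 LD3_c42)) = (LP (LK LD1_c0 LD2_c20 LD3_c42)) :=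
  Lgr Lrot61 (Lpr_ft (f9779 IH) (Lpr_bt (f9761 IH) (Lpr_ft (f9780 IH) (Lpn (LP (LK LD1_c0 LD2_c20 LD3_c42))))))
theorem f9785 : Led Lsl_at (LP (LK LD1_c0 LD2_c20 LD3_c42)) = (LP (LK LD1_c0 LD2_c9 LD3_c29)) :=
  Lre_a IH (LK LD1_c0 LD2_c20 LD3_c42) (LK LD1_c0 LD2_c9 LD3_c29) Lrfl Lrfl
theorem f9786 : Led Lsl_bt (LP (LK LD1_c0 LD2_c9 LD3_c29)) = (LP (LK LD1_c0 LD2_c4 LD3_c28)) :=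
  Lre_b IH (LK LD1_c0 LD2_c9 LD3_c29) (LK LD1_c0 LD2_c4 LD3_c28) Lrfl Lrfl
theorem f9787 : Led Lsl_at (LP (LK LD1_c0 LD2_c9 LD3_c29)) = (LP (LK LD1_c0 LD2_c20 LD3_c42)) :=
  Lre_a IH (LK LD1_c0 LD2_c9 LD3_c29) (LK LD1_c0 LD2_c20 LD3_c42) Lrfl Lrfl
theorem f9788 : Led Lsl_bt (LP (LK LD1_c0 LD2_c4 LD3_c28)) = (LP (LK LD1_c0 LD2_c9 LD3_c29)) :=
  Lre_b IH (LK LD1_c0 LD2_c4 LD3_c28) (LK LD1_c0 LD2_c9 LD3_c29) Lrfl Lrfl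
theorem f9789 : Led Lsl_at (LP (LK LD1_c0 LD2_c4 LD3_c28)) = (LP (LK LD1_c0 LD2_c4 LD3_c28)) :=
  Lgr Lrot67 (Lpe (f9786 IH) (Lpe (f9785 IH) (Lpr_bf (f9781 IH) (Lpe (f9787 IH) (Lpe (f9788 IH) (Lpn (LP (LK LD1_c0 LD2_c4 LD3_c28))))))))
theorem f9872 : Led Lsl_ft (LP (LK LD1_c0 LD2_c2 LD3_c2)) = (LP (LK LD1_c0 LD2_c4 LD3_c28)) :=
  Lre_f IH (LK LD1_c0 LD2_c2 LD3_c2) (LK LD1_c0 LD2_c4 LD3_c28) Lrfl Lrfl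
theorem f9874 : Led Lsl_dt (LP (LK LD1_c0 LD2_c2 LD3_c2)) = (LP (LK LD1_c0 LD2_c4 LD3_c27)) :=
  Lre_d IH (LK LD1_c0 LD2_c2 LD3_c2) (LK LD1_c0 LD2_c4 LD3_c27) Lrfl Lrfl
theorem f3876 : Led Lsl_ct (LP (LK LD1_c0 LD2_c2 LD3_c3)) = (LP (LK LD1_c0 LD2_c4 LD3_c28)) :=
  Lre_c IH (LK LD1_c0 LD2_c2 LD3_c3) (LK LD1_c0 LD2_c4 LD3_c28) Lrfl Lrfl
theorem f3875 : Led Lsl_dt (LP (LK LD1_c0 LD2_c0 LD3_c50)) = (LP (LK LD1_c0 LD2_c2 LD3_c3)) :=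
  Lre_d IH (LK LD1_c0 LD2_c0 LD3_c50) (LK LD1_c0 LD2_c2 LD3_c3) Lrfl Lrfl
theorem f5866 : Led Lsl_ct (LP (LK LD1_c0 LD2_c0 LD3_c21)) = (LP (LK LD1_c0 LD2_c0 LD3_c50)) :=
  Lre_c IH (LK LD1_c0 LD2_c0 LD3_c21) (LK LD1_c0 LD2_c0 LD3_c50) Lrfl Lrfl
theorem f5848 : Led Lsl_dt (LP (LK LD1_c0 LD2_c0 LD3_c60)) = (LP (LK LD1_c0 LD2_c0 LD3_c21)) :=
  Lre_d IH (LK LD1_c0 LD2_c0 LD3_c60) (LK LD1_c0 LD2_c0 LD3_c21) Lrfl Lrfl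
theorem f6731 : Led Lsl_ct (LP (LK LD1_c0 LD2_c2 LD3_c17)) = (LP (LK LD1_c0 LD2_c0 LD3_c60)) :=
  Lre_c IH (LK LD1_c0 LD2_c2 LD3_c17) (LK LD1_c0 LD2_c0 LD3_c60) Lrfl Lrfl
theorem f6730 : Led Lsl_dt (LP (LK LD1_c0 LD2_c5 LD3_c3)) = (LP (LK LD1_c0 LD2_c2 LD3_c17)) :=
  Lre_d IH (LK LD1_c0 LD2_c5 LD3_c3) (LK LD1_c0 LD2_c2 LD3_c17) Lrfl Lrfl
theorem f9875 : Led Lsl_ct (LP (LK LD1_c0 LD2_c4 LD3_c27)) = (LP (LK LD1_c0 LD2_c5 LD3_c3)) :=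
  Lgr Lrot133 (Lpe (f9874 IH) (Lpr_ft (f9872 IH) (Lpr_at (f9789 IH) (Lpe (f3876 IH) (Lpe (f3875 IH) (Lpe (f5866 IH) (Lpe (f5848 IH) (Lpe (f6731 IH) (Lpe (f6730 IH) (Lpn (LP (LK LD1_c0 LD2_c5 LD3_c3))))))))))))
theorem f140 : Led Lsl_ct (LP (LK LD1_c0 LD2_c0 LD3_c49)) = (LP (LK LD1_c0 LD2_c2 LD3_c2)) :=
  Lre_c IH (LK LD1_c0 LD2_c0 LD3_c49) (LK LD1_c0 LD2_c2 LD3_c2) Lrfl Lrfl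
theorem f139 : Led Lsl_ct (LP (LK LD1_c0 LD2_c0 LD3_c5)) = (LP (LK LD1_c0 LD2_c0 LD3_c15)) :=
  Lre_c IH (LK LD1_c0 LD2_c0 LD3_c5) (LK LD1_c0 LD2_c0 LD3_c15) Lrfl Lrfl
theorem f6717 : Led Lsl_ft (LP (LK LD1_c0 LD2_c0 LD3_c20)) = (LP (LK LD1_c0 LD2_c0 LD3_c60)) :=
  Lre_f IH (LK LD1_c0 LD2_c0 LD3_c20) (LK LD1_c0 LD2_c0 LD3_c60) Lrfl Lrfl
theorem f9899 : Led Lsl_at (LP (LK LD1_c0 LD2_c0 LD3_c60)) = (LP (LK LD1_c0 LD2_c0 LD3_c60)) :=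
  Lgr Lrot33 (Lpe (f6717 IH) (Lpr_dt (f124 IH) (Lpr_ct (f139 IH) (Lpr_dt (f58 IH) (Lpr_ct (f140 IH) (Lpr_dt (f9874 IH) (Lpr_ct (f9875 IH) (Lpr_dt (f6730 IH) (Lpr_ct (f6731 IH) (Lpn (LP (LK LD1_c0 LD2_c0 LD3_c60))))))))))))
theorem f9920 : Led Lsl_gt (LP (LK LD1_c0 LD2_c0 LD3_c57)) = (LP (LK LD1_c0 LD2_c0 LD3_c60)) :=
  Lgr Lrot46 (Lpe (f315 IH) (Lpr_ft (f6717 IH) (Lpr_at (f9899 IH) (Lpn (LP (LK LD1_c0 LD2_c0 LD3_c60))))))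
theorem f191 : Led Lsl_et (LP (LK LD1_c0 LD2_c0 LD3_c17)) = (LP (LK LD1_c0 LD2_c0 LD3_c4)) :=
  Lre_e IH (LK LD1_c0 LD2_c0 LD3_c17) (LK LD1_c0 LD2_c0 LD3_c4) Lrfl Lrfl
theorem f186 : Led Lsl_dt (LP (LK LD1_c0 LD2_c0 LD3_c17)) = (LP (LK LD1_c0 LD2_c0 LD3_c53)) :=
  Lre_d IH (LK LD1_c0 LD2_c0 LD3_c17) (LK LD1_c0 LD2_c0 LD3_c53) Lrfl Lrfl
theorem f435 : Led Lsl_dt (LP (LK LD1_c0 LD2_c0 LD3_c21)) = (LP (LK LD1_c0 LD2_c0 LD3_c60)) :=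
  Lre_d IH (LK LD1_c0 LD2_c0 LD3_c21) (LK LD1_c0 LD2_c0 LD3_c60) Lrfl Lrfl
def v28 : LQ := Led Lsl_gt (LP (LK LD1_c0 LD2_c0 LD3_c18))
theorem f5841 : Led Lsl_gt (LP (LK LD1_c0 LD2_c0 LD3_c18)) = v28 :=
  Lrfl
theorem f24 : Led Lsl_ft (LP (LK LD1_c0 LD2_c0 LD3_c5)) = (LP (LK LD1_c0 LD2_c0 LD3_c21)) :=
  Lre_f IH (LK LD1_c0 LD2_c0 LD3_c5) (LK LD1_c0 LD2_c0 LD3_c21) Lrfl Lrfl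
theorem f5842 : Led Lsl_at (LP (LK LD1_c0 LD2_c0 LD3_c21)) = v28 :=
  Lgr Lrot26 (Lpe (f24 IH) (Lpr_gt (f316 IH) (Lpr_gt (f5841 IH) (Lpn v28))))
def v6 : LQ := Led Lsl_at (LP (LK LD1_c0 LD2_c0 LD3_c5))
theorem f430 : Led Lsl_at (LP (LK LD1_c0 LD2_c0 LD3_c5)) = v6 :=
  Lrfl
theorem f431 : Led Lsl_af (LP (LK LD1_c0 LD2_c0 LD3_c5)) = v6 :=
  Lgr Lrot0 (Lpr_at (f430 IH) (Lpn v6))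
theorem f5849 : Led Lsl_ff v6 = v28 :=
  Lgr Lrot30 (Lpe (f431 IH) (Lpr_ft (f24 IH) (Lpr_at (f5842 IH) (Lpn v28))))
theorem f19 : Led Lsl_et (LP (LK LD1_c0 LD2_c0 LD3_c1)) = (LP (LK LD1_c0 LD2_c0 LD3_c5)) :=
  Lre_e IH (LK LD1_c0 LD2_c0 LD3_c1) (LK LD1_c0 LD2_c0 LD3_c5) Lrfl Lrfl
theorem f434 : Led Lsl_ef v0 = v6 :=
  Lgr Lrot20 (Lpe (f9 IH) (Lpr_et (f19 IH) (Lpr_at (f430 IH) (Lpn v6))))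
theorem f5852 : Led Lsl_et (LP (LK LD1_c0 LD2_c0 LD3_c21)) = v28 :=
  Lgr Lrot69 (Lpe (f24 IH) (Lpe (f19 IH) (Lpr_ff (f23 IH) (Lpr_ef (f434 IH) (Lpr_ff (f5849 IH) (Lpn v28))))))
theorem f5853 : Led Lsl_ft v6 = v28 :=
  Lgr Lrot48 (Lpr_ff (f5849 IH) (Lpn v28))
theorem f438 : Led Lsl_et v0 = v6 :=
  Lgr Lrot87 (Lpr_ef (f434 IH) (Lpn v6))
theorem f7240 : v6 = (LP (LK LD1_c0 LD2_c0 LD3_c5)) :=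
  Lefun (Lecon (f438 IH) (f7218 IH)) (f19 IH)
theorem f7278 : v28 = (LP (LK LD1_c0 LD2_c0 LD3_c21)) :=
  Lefun (Lecon (f5853 IH) (f7240 IH)) (f24 IH)
def v36 : LQ := Led Lsl_gt (LP (LK LD1_c0 LD2_c0 LD3_c21))
theorem f6718 : Led Lsl_gt (LP (LK LD1_c0 LD2_c0 LD3_c21)) = v36 :=
  Lrfl
theorem f22 : Led Lsl_ft (LP (LK LD1_c0 LD2_c0 LD3_c21)) = (LP (LK LD1_c0 LD2_c0 LD3_c5)) :=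
  Lre_f IH (LK LD1_c0 LD2_c0 LD3_c21) (LK LD1_c0 LD2_c0 LD3_c5) Lrfl Lrfl
theorem f6719 : Led Lsl_gf v6 = v36 :=
  Lgr Lrot76 (Lpe (f430 IH) (Lpe (f22 IH) (Lpr_gt (f6718 IH) (Lpn v36))))
theorem f7275 : v36 = (LP (LK LD1_c0 LD2_c0 LD3_c19)) :=
  Lefun (Lecon (f6719 IH) (f7240 IH)) (Lfl_gt (f338 IH))
theorem f9926 : Led Lsl_gf (LP (LK LD1_c0 LD2_c0 LD3_c53)) = (LP (LK LD1_c0 LD2_c0 LD3_c56)) :=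
  Lgr Lrot134 (Lpe (f186 IH) (Lpr_et (f191 IH) (Lpr_gt (f92 IH) (Lpe (f323 IH) (Lpr_dt (f328 IH) (Lpr_gt (f9920 IH) (Lpe (f435 IH) (Lpr_et (f5852 IH) (Lpqs (f7278 IH) (Lpr_gt (f6718 IH) (Lpqs (f7275 IH) (Lpr_dt (f358 IH) (Lpn (LP (LK LD1_c0 LD2_c0 LD3_c56)))))))))))))))
theorem f9936 : v31 = (LP (LK LD1_c0 LD2_c0 LD3_c19)) :=
  (Llr Lrot17 (Lpe (f6689 IH) (Lpe (f316 IH) (Lpe (f19 IH) (Lpr_dt (f18 IH) (Lpr_gf (f310 IH) (Lpq (f318 IH) (Lpe (f3949 IH) (Lpe (f92 IH) (Lpe (f191 IH) (Lpr_dt (f186 IH) (Lpr_gf (f9926 IH) (Lpe (f358 IH) (Lpn (LP (LK LD1_c0 LD2_c0 LD3_c19)))))))))))))))).symm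
def v32 : LQ := Led Lsl_ft (LP (LK LD1_c0 LD2_c0 LD3_c18))
theorem f6691 : Led Lsl_ft (LP (LK LD1_c0 LD2_c0 LD3_c18)) = v32 :=
  Lrfl
theorem f6692 : Led Lsl_af (LP (LK LD1_c0 LD2_c0 LD3_c19)) = v32 :=
  Lgr Lrot45 (Lpr_ft (f5872 IH) (Lpe (f5871 IH) (Lpr_ft (f6691 IH) (Lpn v32))))
theorem f9940 : Led Lsl_ef v32 = v29 :=
  Lgr Lrot20 (Lpe (f6692 IH) (Lpq (f9936 IH) (Lpe (f6689 IH) (Lpr_at (f5870 IH) (Lpn v29)))))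
theorem f6693 : Led Lsl_ff (LP (LK LD1_c0 LD2_c0 LD3_c18)) = v32 :=
  Lgr Lrot3 (Lpr_ft (f6691 IH) (Lpn v32))
theorem f10035 : (LP (LK LD1_c0 LD2_c0 LD3_c18)) = v29 :=
  (Llr Lrot86 (Lpr_ff (f6693 IH) (Lpr_ef (f9940 IH) (Lpe (f5872 IH) (Lpq (f9936 IH) (Lpe (f6687 IH) (Lpr_ff (f6693 IH) (Lpr_ef (f9940 IH) (Lpn v29))))))))).symm
theorem f10042 : Led Lsl_ff (LP (LK LD1_c0 LD2_c0 LD3_c55)) = (LP (LK LD1_c0 LD2_c0 LD3_c56)) :=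
  Lgr Lrot19 (Lpr_dt (f4926 IH) (Lpqs (f10035 IH) (Lpe (f5873 IH) (Lpr_dt (f358 IH) (Lpn (LP (LK LD1_c0 LD2_c0 LD3_c56)))))))
theorem f355 : Led Lsl_dt (LP (LK LD1_c0 LD2_c0 LD3_c56)) = (LP (LK LD1_c0 LD2_c0 LD3_c19)) :=
  Lre_d IH (LK LD1_c0 LD2_c0 LD3_c56) (LK LD1_c0 LD2_c0 LD3_c19) Lrfl Lrfl
theorem f6705 : Led Lsl_et (LP (LK LD1_c0 LD2_c2 LD3_c9)) = (LP (LK LD1_c0 LD2_c0 LD3_c56)) :=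
  Lre_e IH (LK LD1_c0 LD2_c2 LD3_c9) (LK LD1_c0 LD2_c0 LD3_c56) Lrfl Lrfl
theorem f317 : Led Lsl_dt (LP (LK LD1_c0 LD2_c0 LD3_c18)) = (LP (LK LD1_c0 LD2_c0 LD3_c55)) :=
  Lre_d IH (LK LD1_c0 LD2_c0 LD3_c18) (LK LD1_c0 LD2_c0 LD3_c55) Lrfl Lrfl
theorem f4927 : Led Lsl_et (LP (LK LD1_c0 LD2_c0 LD3_c55)) = (LP (LK LD1_c0 LD2_c2 LD3_c7)) :=
  Lre_e IH (LK LD1_c0 LD2_c0 LD3_c55) (LK LD1_c0 LD2_c2 LD3_c7) Lrfl Lrfl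
theorem f9942 : Led Lsl_df (LP (LK LD1_c0 LD2_c2 LD3_c9)) = (LP (LK LD1_c0 LD2_c2 LD3_c7)) :=
  Lgr Lrot70 (Lpr_et (f6705 IH) (Lpr_dt (f355 IH) (Lpq (f9936 IH) (Lpe (f6689 IH) (Lpr_dt (f317 IH) (Lpr_et (f4927 IH) (Lpn (LP (LK LD1_c0 LD2_c2 LD3_c7)))))))))
theorem f9950 : Led Lsl_dt (LP (LK LD1_c0 LD2_c2 LD3_c9)) = (LP (LK LD1_c0 LD2_c2 LD3_c7)) :=
  Lgr Lrot42 (Lpr_df (f9942 IH) (Lpn (LP (LK LD1_c0 LD2_c2 LD3_c7))))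
theorem f108 : Led Lsl_dt (LP (LK LD1_c0 LD2_c0 LD3_c53)) = (LP (LK LD1_c0 LD2_c0 LD3_c17)) :=
  Lre_d IH (LK LD1_c0 LD2_c0 LD3_c53) (LK LD1_c0 LD2_c0 LD3_c17) Lrfl Lrfl
theorem f3917 : Led Lsl_et (LP (LK LD1_c0 LD2_c0 LD3_c58)) = (LP (LK LD1_c0 LD2_c2 LD3_c12)) :=
  Lre_e IH (LK LD1_c0 LD2_c0 LD3_c58) (LK LD1_c0 LD2_c2 LD3_c12) Lrfl Lrfl
theorem f3980 : Led Lsl_gt (LP (LK LD1_c0 LD2_c2 LD3_c12)) = (LP (LK LD1_c0 LD2_c4 LD3_c50)) :=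
  Lre_g IH (LK LD1_c0 LD2_c2 LD3_c12) (LK LD1_c0 LD2_c4 LD3_c50) Lrfl Lrfl
theorem f3901 : Led Lsl_ft (LP (LK LD1_c0 LD2_c2 LD3_c10)) = (LP (LK LD1_c0 LD2_c2 LD3_c11)) :=
  Lgr Lrot4 (Lpe (f330 IH) (Lpr_ff (f3897 IH) (Lpe (f3900 IH) (Lpn (LP (LK LD1_c0 LD2_c2 LD3_c11))))))
theorem f3935 : Led Lsl_at (LP (LK LD1_c0 LD2_c2 LD3_c11)) = (LP (LK LD1_c0 LD2_c2 LD3_c11)) :=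
  Lgr Lrot33 (Lpe (f3901 IH) (Lpr_dt (f331 IH) (Lpr_ct (f3919 IH) (Lpr_dt (f3918 IH) (Lpr_ct (f3900 IH) (Lpr_dt (f3899 IH) (Lpe (f3929 IH) (Lpr_dt (f122 IH) (Lpr_ct (f3912 IH) (Lpn (LP (LK LD1_c0 LD2_c2 LD3_c11))))))))))))
theorem f3990 : Led Lsl_et (LP (LK LD1_c0 LD2_c4 LD3_c49)) = (LP (LK LD1_c0 LD2_c2 LD3_c11)) :=
  Lre_e IH (LK LD1_c0 LD2_c4 LD3_c49) (LK LD1_c0 LD2_c2 LD3_c11) Lrfl Lrfl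
theorem f3989 : Led Lsl_et (LP (LK LD1_c0 LD2_c2 LD3_c11)) = (LP (LK LD1_c0 LD2_c4 LD3_c49)) :=
  Lre_e IH (LK LD1_c0 LD2_c2 LD3_c11) (LK LD1_c0 LD2_c4 LD3_c49) Lrfl Lrfl
theorem f4911 : Led Lsl_af (LP (LK LD1_c0 LD2_c4 LD3_c49)) = (LP (LK LD1_c0 LD2_c4 LD3_c49)) :=
  Lgr Lrot50 (Lpr_et (f3990 IH) (Lpr_at (f3935 IH) (Lpr_et (f3989 IH) (Lpn (LP (LK LD1_c0 LD2_c4 LD3_c49))))))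
theorem f3976 : Led Lsl_ct (LP (LK LD1_c0 LD2_c4 LD3_c49)) = (LP (LK LD1_c0 LD2_c2 LD3_c12)) :=
  Lre_c IH (LK LD1_c0 LD2_c4 LD3_c49) (LK LD1_c0 LD2_c2 LD3_c12) Lrfl Lrfl
theorem f3975 : Led Lsl_ct (LP (LK LD1_c0 LD2_c2 LD3_c12)) = (LP (LK LD1_c0 LD2_c4 LD3_c49)) :=
  Lre_c IH (LK LD1_c0 LD2_c2 LD3_c12) (LK LD1_c0 LD2_c4 LD3_c49) Lrfl Lrfl
theorem f4915 : Led Lsl_at (LP (LK LD1_c0 LD2_c2 LD3_c12)) = (LP (LK LD1_c0 LD2_c2 LD3_c12)) :=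
  Lgr Lrot107 (Lpe (f3976 IH) (Lpr_af (f4911 IH) (Lpe (f3975 IH) (Lpn (LP (LK LD1_c0 LD2_c2 LD3_c12))))))
theorem f354 : Led Lsl_et (LP (LK LD1_c0 LD2_c0 LD3_c53)) = (LP (LK LD1_c0 LD2_c0 LD3_c20)) :=
  Lre_e IH (LK LD1_c0 LD2_c0 LD3_c53) (LK LD1_c0 LD2_c0 LD3_c20) Lrfl Lrfl
theorem f3947 : Led Lsl_et (LP (LK LD1_c0 LD2_c0 LD3_c57)) = (LP (LK LD1_c0 LD2_c0 LD3_c57)) :=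
  Lgr Lrot122 (Lpe (f332 IH) (Lpr_gt (f3941 IH) (Lpe (f108 IH) (Lpr_et (f354 IH) (Lpr_gt (f315 IH) (Lpe (f332 IH) (Lpr_gt (f3941 IH) (Lpe (f108 IH) (Lpr_et (f354 IH) (Lpr_gt (f315 IH) (Lpn (LP (LK LD1_c0 LD2_c0 LD3_c57)))))))))))))
theorem f3905 : Led Lsl_et (LP (LK LD1_c0 LD2_c2 LD3_c12)) = (LP (LK LD1_c0 LD2_c0 LD3_c58)) :=
  Lre_e IH (LK LD1_c0 LD2_c2 LD3_c12) (LK LD1_c0 LD2_c0 LD3_c58) Lrfl Lrfl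
theorem f3973 : Led Lsl_ff (LP (LK LD1_c0 LD2_c2 LD3_c12)) = (LP (LK LD1_c0 LD2_c2 LD3_c12)) :=
  Lgr Lrot72 (Lpr_et (f3905 IH) (Lpe (f3897 IH) (Lpr_et (f3947 IH) (Lpr_ft (f3906 IH) (Lpr_et (f3917 IH) (Lpn (LP (LK LD1_c0 LD2_c2 LD3_c12))))))))
theorem f4922 : Led Lsl_gt (LP (LK LD1_c0 LD2_c4 LD3_c50)) = (LP (LK LD1_c0 LD2_c2 LD3_c12)) :=
  Lgr Lrot46 (Lpe (f3980 IH) (Lpe (f3973 IH) (Lpr_at (f4915 IH) (Lpn (LP (LK LD1_c0 LD2_c2 LD3_c12))))))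
theorem f3979 : Led Lsl_dt (LP (LK LD1_c0 LD2_c2 LD3_c12)) = (LP (LK LD1_c0 LD2_c2 LD3_c12)) :=
  Lre_d IH (LK LD1_c0 LD2_c2 LD3_c12) (LK LD1_c0 LD2_c2 LD3_c12) Lrfl Lrfl
theorem f4924 : Led Lsl_df (LP (LK LD1_c0 LD2_c4 LD3_c50)) = (LP (LK LD1_c0 LD2_c4 LD3_c50)) :=
  Lgr Lrot135 (Lpr_gt (f4922 IH) (Lpe (f3979 IH) (Lpr_et (f3905 IH) (Lpr_gt (f123 IH) (Lpe (f354 IH) (Lpr_dt (f108 IH) (Lpr_gt (f121 IH) (Lpe (f3899 IH) (Lpr_et (f3917 IH) (Lpr_gt (f3980 IH) (Lpn (LP (LK LD1_c0 LD2_c4 LD3_c50)))))))))))))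
theorem f4928 : Led Lsl_gt (LP (LK LD1_c0 LD2_c2 LD3_c7)) = (LP (LK LD1_c0 LD2_c4 LD3_c38)) :=
  Lre_g IH (LK LD1_c0 LD2_c2 LD3_c7) (LK LD1_c0 LD2_c4 LD3_c38) Lrfl Lrfl
theorem f4929 : Led Lsl_et (LP (LK LD1_c0 LD2_c4 LD3_c50)) = (LP (LK LD1_c0 LD2_c4 LD3_c38)) :=
  Lgr Lrot122 (Lpe (f4924 IH) (Lpr_gt (f4922 IH) (Lpe (f3979 IH) (Lpr_et (f3905 IH) (Lpr_gt (f123 IH) (Lpr_dt (f124 IH) (Lpr_gt (f316 IH) (Lpe (f4926 IH) (Lpr_et (f4927 IH) (Lpr_gt (f4928 IH) (Lpn (LP (LK LD1_c0 LD2_c4 LD3_c38)))))))))))))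
theorem f4933 : Led Lsl_ef (LP (LK LD1_c0 LD2_c4 LD3_c50)) = (LP (LK LD1_c0 LD2_c4 LD3_c38)) :=
  Lgr Lrot88 (Lpr_et (f4929 IH) (Lpn (LP (LK LD1_c0 LD2_c4 LD3_c38))))
theorem f5843 : Led Lsl_gt (LP (LK LD1_c0 LD2_c4 LD3_c39)) = (LP (LK LD1_c0 LD2_c2 LD3_c7)) :=
  Lre_g IH (LK LD1_c0 LD2_c4 LD3_c39) (LK LD1_c0 LD2_c2 LD3_c7) Lrfl Lrfl
theorem f9989 : Led Lsl_dt (LP (LK LD1_c0 LD2_c4 LD3_c38)) = (LP (LK LD1_c0 LD2_c4 LD3_c39)) :=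
  Lgr Lrot136 (Lpe (f4933 IH) (Lpe (f3980 IH) (Lpe (f3917 IH) (Lpr_dt (f3899 IH) (Lpe (f121 IH) (Lpe (f108 IH) (Lpr_gf (f9926 IH) (Lpe (f6705 IH) (Lpr_dt (f9950 IH) (Lpe (f5843 IH) (Lpn (LP (LK LD1_c0 LD2_c4 LD3_c39)))))))))))))
theorem f9992 : Led Lsl_df (LP (LK LD1_c0 LD2_c4 LD3_c38)) = (LP (LK LD1_c0 LD2_c4 LD3_c39)) :=
  Lgr Lrot38 (Lpr_dt (f9989 IH) (Lpn (LP (LK LD1_c0 LD2_c4 LD3_c39))))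
theorem f9994 : Led Lsl_ef (LP (LK LD1_c0 LD2_c4 LD3_c39)) = (LP (LK LD1_c0 LD2_c4 LD3_c39)) :=
  Lgr Lrot73 (Lpe (f9992 IH) (Lpe (f4933 IH) (Lpe (f4924 IH) (Lpr_et (f4929 IH) (Lpr_dt (f9989 IH) (Lpn (LP (LK LD1_c0 LD2_c4 LD3_c39))))))))
theorem f5867 : Led Lsl_et (LP (LK LD1_c0 LD2_c0 LD3_c60)) = (LP (LK LD1_c0 LD2_c2 LD3_c18)) :=
  Lre_e IH (LK LD1_c0 LD2_c0 LD3_c60) (LK LD1_c0 LD2_c2 LD3_c18) Lrfl Lrfl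
theorem f10001 : Led Lsl_gt (LP (LK LD1_c0 LD2_c2 LD3_c18)) = (LP (LK LD1_c0 LD2_c2 LD3_c9)) :=
  Lgr Lrot137 (Lpe (f5867 IH) (Lpr_dt (f5848 IH) (Lpq (f7278 IH) (Lpe (f5841 IH) (Lpe (f4926 IH) (Lpr_et (f4927 IH) (Lpe (f5843 IH) (Lpr_ef (f9994 IH) (Lpe (f9992 IH) (Lpe (f4928 IH) (Lpe (f9950 IH) (Lpn (LP (LK LD1_c0 LD2_c2 LD3_c9))))))))))))))
def v37 : LQ := Led Lsl_gf (LP (LK LD1_c0 LD2_c0 LD3_c21))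
theorem f6728 : Led Lsl_gf (LP (LK LD1_c0 LD2_c0 LD3_c21)) = v37 :=
  Lrfl
theorem f5844 : Led Lsl_af (LP (LK LD1_c0 LD2_c0 LD3_c21)) = v28 :=
  Lgr Lrot0 (Lpr_at (f5842 IH) (Lpn v28))
theorem f6729 : Led Lsl_gt v6 = v37 :=
  Lgr Lrot5 (Lpr_ft (f5853 IH) (Lpe (f5844 IH) (Lpr_gf (f6728 IH) (Lpn v37))))
theorem f7274 : v37 = (LP (LK LD1_c0 LD2_c0 LD3_c18)) :=
  Lefun (Lecon (f6729 IH) (f7240 IH)) (f316 IH)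
theorem f5861 : Led Lsl_et (LP (LK LD1_c0 LD2_c0 LD3_c56)) = (LP (LK LD1_c0 LD2_c2 LD3_c9)) :=
  Lre_e IH (LK LD1_c0 LD2_c0 LD3_c56) (LK LD1_c0 LD2_c2 LD3_c9) Lrfl Lrfl
theorem f6716 : Led Lsl_et (LP (LK LD1_c0 LD2_c0 LD3_c20)) = (LP (LK LD1_c0 LD2_c0 LD3_c53)) :=
  Lre_e IH (LK LD1_c0 LD2_c0 LD3_c20) (LK LD1_c0 LD2_c0 LD3_c53) Lrfl Lrfl
theorem f10010 : Led Lsl_gf (LP (LK LD1_c0 LD2_c0 LD3_c55)) = (LP (LK LD1_c0 LD2_c0 LD3_c53)) :=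
  Lgr Lrot138 (Lpr_dt (f4926 IH) (Lpq (f7274 IH) (Lpe (f6728 IH) (Lpe (f5848 IH) (Lpr_et (f5867 IH) (Lpr_gt (f10001 IH) (Lpe (f5861 IH) (Lpr_dt (f355 IH) (Lpr_gt (f338 IH) (Lpe (f124 IH) (Lpr_et (f6716 IH) (Lpn (LP (LK LD1_c0 LD2_c0 LD3_c53))))))))))))))
theorem f10050 : Led Lsl_at (LP (LK LD1_c0 LD2_c0 LD3_c55)) = (LP (LK LD1_c0 LD2_c0 LD3_c55)) :=
  Lgr Lrot26 (Lpr_ff (f10042 IH) (Lpe (f9926 IH) (Lpe (f10010 IH) (Lpn (LP (LK LD1_c0 LD2_c0 LD3_c55))))))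
theorem f10048 : Led Lsl_ft (LP (LK LD1_c0 LD2_c0 LD3_c55)) = (LP (LK LD1_c0 LD2_c0 LD3_c56)) :=
  Lgr Lrot48 (Lpr_ff (f10042 IH) (Lpn (LP (LK LD1_c0 LD2_c0 LD3_c56))))
theorem f10056 : Led Lsl_af (LP (LK LD1_c0 LD2_c0 LD3_c56)) = (LP (LK LD1_c0 LD2_c0 LD3_c56)) :=
  Lgr Lrot45 (Lpe (f10042 IH) (Lpr_at (f10050 IH) (Lpr_ft (f10048 IH) (Lpn (LP (LK LD1_c0 LD2_c0 LD3_c56))))))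
theorem f10060 : Led Lsl_at (LP (LK LD1_c0 LD2_c2 LD3_c9)) = (LP (LK LD1_c0 LD2_c2 LD3_c9)) :=
  Lgr Lrot80 (Lpe (f5861 IH) (Lpr_af (f10056 IH) (Lpe (f6705 IH) (Lpn (LP (LK LD1_c0 LD2_c2 LD3_c9))))))
theorem f9971 : Led Lsl_ft (LP (LK LD1_c0 LD2_c4 LD3_c44)) = (LP (LK LD1_c0 LD2_c2 LD3_c9)) :=
  Lre_f IH (LK LD1_c0 LD2_c4 LD3_c44) (LK LD1_c0 LD2_c2 LD3_c9) Lrfl Lrfl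
theorem f10066 : Led Lsl_gt (LP (LK LD1_c0 LD2_c4 LD3_c44)) = (LP (LK LD1_c0 LD2_c2 LD3_c18)) :=
  Lgr Lrot5 (Lpr_ft (f9971 IH) (Lpr_at (f10060 IH) (Lpe (f10001 IH) (Lpn (LP (LK LD1_c0 LD2_c2 LD3_c18))))))
theorem f9952 : Led Lsl_ft (LP (LK LD1_c0 LD2_c2 LD3_c9)) = (LP (LK LD1_c0 LD2_c4 LD3_c44)) :=
  Lre_f IH (LK LD1_c0 LD2_c2 LD3_c9) (LK LD1_c0 LD2_c4 LD3_c44) Lrfl Lrfl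
theorem f9953 : Led Lsl_ft (LP (LK LD1_c0 LD2_c4 LD3_c40)) = (LP (LK LD1_c0 LD2_c2 LD3_c7)) :=
  Lre_f IH (LK LD1_c0 LD2_c4 LD3_c40) (LK LD1_c0 LD2_c2 LD3_c7) Lrfl Lrfl
theorem f9954 : Led Lsl_dt (LP (LK LD1_c0 LD2_c4 LD3_c44)) = (LP (LK LD1_c0 LD2_c4 LD3_c40)) :=
  Lgr Lrot60 (Lpe (f9952 IH) (Lpr_df (f9942 IH) (Lpe (f9953 IH) (Lpn (LP (LK LD1_c0 LD2_c4 LD3_c40))))))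
theorem f9969 : Led Lsl_df (LP (LK LD1_c0 LD2_c4 LD3_c44)) = (LP (LK LD1_c0 LD2_c4 LD3_c40)) :=
  Lgr Lrot38 (Lpr_dt (f9954 IH) (Lpn (LP (LK LD1_c0 LD2_c4 LD3_c40))))
theorem f9957 : Led Lsl_ft (LP (LK LD1_c0 LD2_c2 LD3_c7)) = (LP (LK LD1_c0 LD2_c4 LD3_c40)) :=
  Lre_f IH (LK LD1_c0 LD2_c2 LD3_c7) (LK LD1_c0 LD2_c4 LD3_c40) Lrfl Lrfl
theorem f10046 : Led Lsl_et (LP (LK LD1_c0 LD2_c4 LD3_c40)) = (LP (LK LD1_c0 LD2_c4 LD3_c44)) :=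
  Lgr Lrot69 (Lpe (f9957 IH) (Lpe (f4927 IH) (Lpr_ff (f10042 IH) (Lpe (f6705 IH) (Lpe (f9971 IH) (Lpn (LP (LK LD1_c0 LD2_c4 LD3_c44))))))))
theorem f5868 : Led Lsl_et (LP (LK LD1_c0 LD2_c2 LD3_c18)) = (LP (LK LD1_c0 LD2_c0 LD3_c60)) :=
  Lre_e IH (LK LD1_c0 LD2_c2 LD3_c18) (LK LD1_c0 LD2_c0 LD3_c60) Lrfl Lrfl
theorem f9918 : Led Lsl_af (LP (LK LD1_c0 LD2_c2 LD3_c18)) = (LP (LK LD1_c0 LD2_c2 LD3_c18)) :=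
  Lgr Lrot50 (Lpr_et (f5868 IH) (Lpr_at (f9899 IH) (Lpr_et (f5867 IH) (Lpn (LP (LK LD1_c0 LD2_c2 LD3_c18))))))
theorem f10989 : Led Lsl_gf (LP (LK LD1_c0 LD2_c4 LD3_c44)) = (LP (LK LD1_c0 LD2_c4 LD3_c33)) :=
  Lgr Lrot47 (Lpr_gt (f10066 IH) (Lpr_af (f9918 IH) (Lpe (f7403 IH) (Lpn (LP (LK LD1_c0 LD2_c4 LD3_c33))))))
theorem f9922 : Led Lsl_gf (LP (LK LD1_c0 LD2_c0 LD3_c58)) = (LP (LK LD1_c0 LD2_c0 LD3_c60)) :=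
  Lgr Lrot76 (Lpr_af (f3908 IH) (Lpe (f3906 IH) (Lpr_gt (f9920 IH) (Lpn (LP (LK LD1_c0 LD2_c0 LD3_c60))))))
theorem f10998 : Led Lsl_gf (LP (LK LD1_c0 LD2_c0 LD3_c54)) = (LP (LK LD1_c0 LD2_c0 LD3_c52)) :=
  Lgr Lrot134 (Lpe (f170 IH) (Lpr_et (f7390 IH) (Lpe (f10989 IH) (Lpe (f10046 IH) (Lpe (f9969 IH) (Lpr_gt (f10066 IH) (Lpr_df (f7404 IH) (Lpr_et (f5868 IH) (Lpe (f9922 IH) (Lpr_dt (f3899 IH) (Lpn (LP (LK LD1_c0 LD2_c0 LD3_c52)))))))))))))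
theorem f3940 : Led Lsl_et (LP (LK LD1_c0 LD2_c0 LD3_c52)) = (LP (LK LD1_c0 LD2_c0 LD3_c52)) :=
  Lre_e IH (LK LD1_c0 LD2_c0 LD3_c52) (LK LD1_c0 LD2_c0 LD3_c52) Lrfl Lrfl
theorem f11017 : Led Lsl_gt (LP (LK LD1_c0 LD2_c2 LD3_c5)) = (LP (LK LD1_c0 LD2_c0 LD3_c56)) :=
  Lgr Lrot139 (Lpe (f165 IH) (Lpr_gf (f10998 IH) (Lpe (f3940 IH) (Lpr_dt (f122 IH) (Lpr_gf (f9922 IH) (Lpe (f435 IH) (Lpr_et (f5852 IH) (Lpqs (f7278 IH) (Lpr_gf (f6728 IH) (Lpqs (f7274 IH) (Lpr_ef (f6689 IH) (Lpqs (f9936 IH) (Lpr_dt (f358 IH) (Lpn (LP (LK LD1_c0 LD2_c0 LD3_c56))))))))))))))))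
theorem f3915 : Led Lsl_ff (LP (LK LD1_c0 LD2_c0 LD3_c51)) = (LP (LK LD1_c0 LD2_c0 LD3_c52)) :=
  Lgr Lrot19 (Lpr_dt (f328 IH) (Lpr_ft (f3906 IH) (Lpr_dt (f3899 IH) (Lpn (LP (LK LD1_c0 LD2_c0 LD3_c52))))))
theorem f11002 : Led Lsl_gt (LP (LK LD1_c0 LD2_c0 LD3_c54)) = (LP (LK LD1_c0 LD2_c0 LD3_c51)) :=
  Lgr Lrot46 (Lpr_gf (f10998 IH) (Lpe (f3915 IH) (Lpe (f3891 IH) (Lpn (LP (LK LD1_c0 LD2_c0 LD3_c51))))))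
theorem f112 : Led Lsl_dt (LP (LK LD1_c0 LD2_c0 LD3_c46)) = (LP (LK LD1_c0 LD2_c1 LD3_c57)) :=
  Lre_d IH (LK LD1_c0 LD2_c0 LD3_c46) (LK LD1_c0 LD2_c1 LD3_c57) Lrfl Lrfl
theorem f130 : Led Lsl_ct (LP (LK LD1_c0 LD2_c4 LD3_c17)) = (LP (LK LD1_c0 LD2_c1 LD3_c57)) :=
  Lre_c IH (LK LD1_c0 LD2_c4 LD3_c17) (LK LD1_c0 LD2_c1 LD3_c57) Lrfl Lrfl
theorem f11022 : Led Lsl_gf (LP (LK LD1_c0 LD2_c4 LD3_c17)) = (LP (LK LD1_c0 LD2_c2 LD3_c8)) :=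
  Lgr Lrot104 (Lpr_ct (f130 IH) (Lpe (f112 IH) (Lpe (f90 IH) (Lpe (f3941 IH) (Lpr_cf (f326 IH) (Lpe (f11002 IH) (Lpe (f170 IH) (Lpr_gt (f11017 IH) (Lpr_ct (f359 IH) (Lpn (LP (LK LD1_c0 LD2_c2 LD3_c8))))))))))))
theorem f114 : Led Lsl_dt (LP (LK LD1_c0 LD2_c4 LD3_c17)) = (LP (LK LD1_c0 LD2_c9 LD3_c13)) :=
  Lre_d IH (LK LD1_c0 LD2_c4 LD3_c17) (LK LD1_c0 LD2_c9 LD3_c13) Lrfl Lrfl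
theorem f11030 : Led Lsl_gt (LP (LK LD1_c0 LD2_c9 LD3_c13)) = (LP (LK LD1_c0 LD2_c4 LD3_c48)) :=
  Lgr Lrot49 (Lpe (f114 IH) (Lpr_gf (f11022 IH) (Lpe (f359 IH) (Lpe (f9926 IH) (Lpr_dt (f108 IH) (Lpr_gt (f121 IH) (Lpr_dt (f122 IH) (Lpe (f3900 IH) (Lpe (f3918 IH) (Lpn (LP (LK LD1_c0 LD2_c4 LD3_c48))))))))))))
theorem f190 : Led Lsl_dt (LP (LK LD1_c0 LD2_c9 LD3_c13)) = (LP (LK LD1_c0 LD2_c4 LD3_c17)) :=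
  Lre_d IH (LK LD1_c0 LD2_c9 LD3_c13) (LK LD1_c0 LD2_c4 LD3_c17) Lrfl Lrfl
theorem f9966 : Led Lsl_ct (LP (LK LD1_c0 LD2_c4 LD3_c40)) = (LP (LK LD1_c0 LD2_c9 LD3_c52)) :=
  Lre_c IH (LK LD1_c0 LD2_c4 LD3_c40) (LK LD1_c0 LD2_c9 LD3_c52) Lrfl Lrfl
theorem f9967 : Led Lsl_dt (LP (LK LD1_c0 LD2_c9 LD3_c52)) = (LP (LK LD1_c0 LD2_c21 LD3_c54)) :=
  Lre_d IH (LK LD1_c0 LD2_c9 LD3_c52) (LK LD1_c0 LD2_c21 LD3_c54) Lrfl Lrfl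
theorem f9968 : Led Lsl_ct (LP (LK LD1_c0 LD2_c21 LD3_c54)) = (LP (LK LD1_c0 LD2_c48 LD3_c51)) :=
  Lre_c IH (LK LD1_c0 LD2_c21 LD3_c54) (LK LD1_c0 LD2_c48 LD3_c51) Lrfl Lrfl
theorem f9960 : Led Lsl_ct (LP (LK LD1_c0 LD2_c4 LD3_c43)) = (LP (LK LD1_c0 LD2_c2 LD3_c9)) :=
  Lre_c IH (LK LD1_c0 LD2_c4 LD3_c43) (LK LD1_c0 LD2_c2 LD3_c9) Lrfl Lrfl
theorem f9958 : Led Lsl_dt (LP (LK LD1_c0 LD2_c10 LD3_c0)) = (LP (LK LD1_c0 LD2_c4 LD3_c43)) :=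
  Lre_d IH (LK LD1_c0 LD2_c10 LD3_c0) (LK LD1_c0 LD2_c4 LD3_c43) Lrfl Lrfl
theorem f9982 : Led Lsl_ct (LP (LK LD1_c0 LD2_c22 LD3_c17)) = (LP (LK LD1_c0 LD2_c10 LD3_c0)) :=
  Lre_c IH (LK LD1_c0 LD2_c22 LD3_c17) (LK LD1_c0 LD2_c10 LD3_c0) Lrfl Lrfl
theorem f10068 : Led Lsl_dt (LP (LK LD1_c0 LD2_c48 LD3_c51)) = (LP (LK LD1_c0 LD2_c22 LD3_c17)) :=
  Lgr Lrot140 (Lpe (f9968 IH) (Lpe (f9967 IH) (Lpe (f9966 IH) (Lpe (f9954 IH) (Lpr_ft (f9971 IH) (Lpr_at (f10060 IH) (Lpe (f9960 IH) (Lpe (f9958 IH) (Lpe (f9982 IH) (Lpn (LP (LK LD1_c0 LD2_c22 LD3_c17))))))))))))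
theorem f9964 : Led Lsl_ct (LP (LK LD1_c0 LD2_c10 LD3_c1)) = (LP (LK LD1_c0 LD2_c4 LD3_c44)) :=
  Lre_c IH (LK LD1_c0 LD2_c10 LD3_c1) (LK LD1_c0 LD2_c4 LD3_c44) Lrfl Lrfl
theorem f9965 : Led Lsl_dt (LP (LK LD1_c0 LD2_c22 LD3_c18)) = (LP (LK LD1_c0 LD2_c10 LD3_c1)) :=
  Lre_d IH (LK LD1_c0 LD2_c22 LD3_c18) (LK LD1_c0 LD2_c10 LD3_c1) Lrfl Lrfl
theorem f9972 : Led Lsl_ft (LP (LK LD1_c0 LD2_c22 LD3_c18)) = (LP (LK LD1_c0 LD2_c10 LD3_c0)) :=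
  Lre_f IH (LK LD1_c0 LD2_c22 LD3_c18) (LK LD1_c0 LD2_c10 LD3_c0) Lrfl Lrfl
theorem f10084 : Led Lsl_at (LP (LK LD1_c0 LD2_c10 LD3_c0)) = (LP (LK LD1_c0 LD2_c10 LD3_c0)) :=
  Lgr Lrot33 (Lpe (f9972 IH) (Lpr_dt (f9965 IH) (Lpr_ct (f9964 IH) (Lpr_dt (f9954 IH) (Lpr_ct (f9966 IH) (Lpr_dt (f9967 IH) (Lpr_ct (f9968 IH) (Lpr_dt (f10068 IH) (Lpr_ct (f9982 IH) (Lpn (LP (LK LD1_c0 LD2_c10 LD3_c0))))))))))))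
theorem f10095 : Led Lsl_et (LP (LK LD1_c0 LD2_c22 LD3_c15)) = (LP (LK LD1_c0 LD2_c10 LD3_c0)) :=
  Lre_e IH (LK LD1_c0 LD2_c22 LD3_c15) (LK LD1_c0 LD2_c10 LD3_c0) Lrfl Lrfl
theorem f10096 : Led Lsl_et (LP (LK LD1_c0 LD2_c10 LD3_c0)) = (LP (LK LD1_c0 LD2_c22 LD3_c15)) :=
  Lre_e IH (LK LD1_c0 LD2_c10 LD3_c0) (LK LD1_c0 LD2_c22 LD3_c15) Lrfl Lrfl
theorem f10097 : Led Lsl_af (LP (LK LD1_c0 LD2_c22 LD3_c15)) = (LP (LK LD1_c0 LD2_c22 LD3_c15)) :=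
  Lgr Lrot50 (Lpr_et (f10095 IH) (Lpr_at (f10084 IH) (Lpr_et (f10096 IH) (Lpn (LP (LK LD1_c0 LD2_c22 LD3_c15))))))
theorem f6636 : Led Lsl_ft (LP (LK LD1_c0 LD2_c22 LD3_c15)) = (LP (LK LD1_c0 LD2_c49 LD3_c39)) :=
  Lre_f IH (LK LD1_c0 LD2_c22 LD3_c15) (LK LD1_c0 LD2_c49 LD3_c39) Lrfl Lrfl
theorem f5954 : Led Lsl_ft (LP (LK LD1_c0 LD2_c49 LD3_c39)) = (LP (LK LD1_c0 LD2_c22 LD3_c15)) :=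
  Lre_f IH (LK LD1_c0 LD2_c49 LD3_c39) (LK LD1_c0 LD2_c22 LD3_c15) Lrfl Lrfl
theorem f10124 : Led Lsl_at (LP (LK LD1_c0 LD2_c49 LD3_c39)) = (LP (LK LD1_c0 LD2_c49 LD3_c39)) :=
  Lgr Lrot66 (Lpe (f6636 IH) (Lpr_af (f10097 IH) (Lpe (f5954 IH) (Lpn (LP (LK LD1_c0 LD2_c49 LD3_c39))))))
theorem f5966 : Led Lsl_dt (LP (LK LD1_c0 LD2_c22 LD3_c16)) = (LP (LK LD1_c0 LD2_c49 LD3_c39)) :=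
  Lre_d IH (LK LD1_c0 LD2_c22 LD3_c16) (LK LD1_c0 LD2_c49 LD3_c39) Lrfl Lrfl
theorem f5953 : Led Lsl_dt (LP (LK LD1_c0 LD2_c49 LD3_c39)) = (LP (LK LD1_c0 LD2_c22 LD3_c16)) :=
  Lre_d IH (LK LD1_c0 LD2_c49 LD3_c39) (LK LD1_c0 LD2_c22 LD3_c16) Lrfl Lrfl
theorem f10138 : Led Lsl_af (LP (LK LD1_c0 LD2_c22 LD3_c16)) = (LP (LK LD1_c0 LD2_c22 LD3_c16)) :=
  Lgr Lrot117 (Lpr_dt (f5966 IH) (Lpr_at (f10124 IH) (Lpr_dt (f5953 IH) (Lpn (LP (LK LD1_c0 LD2_c22 LD3_c16))))))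
theorem f5894 : Led Lsl_et (LP (LK LD1_c0 LD2_c9 LD3_c61)) = (LP (LK LD1_c0 LD2_c4 LD3_c42)) :=
  Lre_e IH (LK LD1_c0 LD2_c9 LD3_c61) (LK LD1_c0 LD2_c4 LD3_c42) Lrfl Lrfl
theorem f5895 : Led Lsl_et (LP (LK LD1_c0 LD2_c4 LD3_c36)) = (LP (LK LD1_c0 LD2_c9 LD3_c48)) :=
  Lre_e IH (LK LD1_c0 LD2_c4 LD3_c36) (LK LD1_c0 LD2_c9 LD3_c48) Lrfl Lrfl
theorem f5896 : Led Lsl_cf (LP (LK LD1_c0 LD2_c9 LD3_c61)) = (LP (LK LD1_c0 LD2_c9 LD3_c48)) :=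
  Lgr Lrot39 (Lpr_et (f5894 IH) (Lpr_ct (f5881 IH) (Lpr_et (f5895 IH) (Lpn (LP (LK LD1_c0 LD2_c9 LD3_c48))))))
theorem f5917 : Led Lsl_ft (LP (LK LD1_c0 LD2_c9 LD3_c61)) = (LP (LK LD1_c0 LD2_c22 LD3_c16)) :=
  Lre_f IH (LK LD1_c0 LD2_c9 LD3_c61) (LK LD1_c0 LD2_c22 LD3_c16) Lrfl Lrfl
theorem f5918 : Led Lsl_ft (LP (LK LD1_c0 LD2_c21 LD3_c49)) = (LP (LK LD1_c0 LD2_c9 LD3_c48)) :=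
  Lre_f IH (LK LD1_c0 LD2_c21 LD3_c49) (LK LD1_c0 LD2_c9 LD3_c48) Lrfl Lrfl
theorem f5919 : Led Lsl_ct (LP (LK LD1_c0 LD2_c22 LD3_c16)) = (LP (LK LD1_c0 LD2_c21 LD3_c49)) :=
  Lgr Lrot40 (Lpe (f5917 IH) (Lpr_cf (f5896 IH) (Lpe (f5918 IH) (Lpn (LP (LK LD1_c0 LD2_c21 LD3_c49))))))
theorem f5951 : Led Lsl_cf (LP (LK LD1_c0 LD2_c22 LD3_c16)) = (LP (LK LD1_c0 LD2_c21 LD3_c49)) :=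
  Lgr Lrot11 (Lpr_ct (f5919 IH) (Lpn (LP (LK LD1_c0 LD2_c21 LD3_c49))))
theorem f10144 : Led Lsl_at (LP (LK LD1_c0 LD2_c21 LD3_c49)) = (LP (LK LD1_c0 LD2_c21 LD3_c49)) :=
  Lgr Lrot107 (Lpe (f5919 IH) (Lpr_af (f10138 IH) (Lpr_cf (f5951 IH) (Lpn (LP (LK LD1_c0 LD2_c21 LD3_c49))))))
theorem f5968 : Led Lsl_ft (LP (LK LD1_c0 LD2_c9 LD3_c48)) = (LP (LK LD1_c0 LD2_c21 LD3_c49)) :=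
  Lre_f IH (LK LD1_c0 LD2_c9 LD3_c48) (LK LD1_c0 LD2_c21 LD3_c49) Lrfl Lrfl
theorem f10158 : Led Lsl_af (LP (LK LD1_c0 LD2_c9 LD3_c48)) = (LP (LK LD1_c0 LD2_c9 LD3_c48)) :=
  Lgr Lrot45 (Lpr_ft (f5968 IH) (Lpr_at (f10144 IH) (Lpr_ft (f5918 IH) (Lpn (LP (LK LD1_c0 LD2_c9 LD3_c48))))))
theorem f6635 : Led Lsl_et (LP (LK LD1_c0 LD2_c9 LD3_c48)) = (LP (LK LD1_c0 LD2_c4 LD3_c36)) :=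
  Lre_e IH (LK LD1_c0 LD2_c9 LD3_c48) (LK LD1_c0 LD2_c4 LD3_c36) Lrfl Lrfl
theorem f10175 : Led Lsl_at (LP (LK LD1_c0 LD2_c4 LD3_c36)) = (LP (LK LD1_c0 LD2_c4 LD3_c36)) :=
  Lgr Lrot80 (Lpe (f6635 IH) (Lpr_af (f10158 IH) (Lpe (f5895 IH) (Lpn (LP (LK LD1_c0 LD2_c4 LD3_c36))))))
theorem f356 : Led Lsl_ct (LP (LK LD1_c0 LD2_c2 LD3_c8)) = (LP (LK LD1_c0 LD2_c0 LD3_c56)) :=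
  Lre_c IH (LK LD1_c0 LD2_c2 LD3_c8) (LK LD1_c0 LD2_c0 LD3_c56) Lrfl Lrfl
theorem f357 : Led Lsl_dt (LP (LK LD1_c0 LD2_c4 LD3_c42)) = (LP (LK LD1_c0 LD2_c2 LD3_c8)) :=
  Lre_d IH (LK LD1_c0 LD2_c4 LD3_c42) (LK LD1_c0 LD2_c2 LD3_c8) Lrfl Lrfl
theorem f10186 : Led Lsl_ff (LP (LK LD1_c0 LD2_c4 LD3_c36)) = (LP (LK LD1_c0 LD2_c4 LD3_c42)) :=
  Lgr Lrot103 (Lpr_at (f10175 IH) (Lpe (f5881 IH) (Lpe (f360 IH) (Lpe (f359 IH) (Lpe (f358 IH) (Lpe (f341 IH) (Lpe (f355 IH) (Lpe (f356 IH) (Lpe (f357 IH) (Lpn (LP (LK LD1_c0 LD2_c4 LD3_c42))))))))))))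
theorem f5967 : Led Lsl_ft (LP (LK LD1_c0 LD2_c22 LD3_c16)) = (LP (LK LD1_c0 LD2_c9 LD3_c61)) :=
  Lre_f IH (LK LD1_c0 LD2_c22 LD3_c16) (LK LD1_c0 LD2_c9 LD3_c61) Lrfl Lrfl
theorem f10192 : Led Lsl_et (LP (LK LD1_c0 LD2_c21 LD3_c49)) = (LP (LK LD1_c0 LD2_c22 LD3_c16)) :=
  Lgr Lrot69 (Lpe (f5968 IH) (Lpe (f5895 IH) (Lpr_ff (f10186 IH) (Lpe (f5894 IH) (Lpe (f5967 IH) (Lpn (LP (LK LD1_c0 LD2_c22 LD3_c16))))))))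
theorem f5962 : Led Lsl_bt (LP (LK LD1_c0 LD2_c48 LD3_c30)) = (LP (LK LD1_c0 LD2_c21 LD3_c49)) :=
  Lre_b IH (LK LD1_c0 LD2_c48 LD3_c30) (LK LD1_c0 LD2_c21 LD3_c49) Lrfl Lrfl
theorem f5956 : Led Lsl_bt (LP (LK LD1_c0 LD2_c22 LD3_c16)) = (LP (LK LD1_c0 LD2_c49 LD3_c28)) :=
  Lre_b IH (LK LD1_c0 LD2_c22 LD3_c16) (LK LD1_c0 LD2_c49 LD3_c28) Lrfl Lrfl
theorem f10196 : Led Lsl_ef (LP (LK LD1_c0 LD2_c48 LD3_c30)) = (LP (LK LD1_c0 LD2_c49 LD3_c28)) :=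
  Lgr Lrot29 (Lpr_bt (f5962 IH) (Lpr_et (f10192 IH) (Lpr_bt (f5956 IH) (Lpn (LP (LK LD1_c0 LD2_c49 LD3_c28))))))
theorem f10202 : Led Lsl_et (LP (LK LD1_c0 LD2_c48 LD3_c30)) = (LP (LK LD1_c0 LD2_c49 LD3_c28)) :=
  Lgr Lrot87 (Lpr_ef (f10196 IH) (Lpn (LP (LK LD1_c0 LD2_c49 LD3_c28))))
theorem f10214 : Led Lsl_ft (LP (LK LD1_c0 LD2_c21 LD3_c41)) = (LP (LK LD1_c0 LD2_c48 LD3_c30)) :=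
  Lre_f IH (LK LD1_c0 LD2_c21 LD3_c41) (LK LD1_c0 LD2_c48 LD3_c30) Lrfl Lrfl
theorem f10215 : Led Lsl_et (LP (LK LD1_c0 LD2_c9 LD3_c46)) = (LP (LK LD1_c0 LD2_c21 LD3_c41)) :=
  Lre_e IH (LK LD1_c0 LD2_c9 LD3_c46) (LK LD1_c0 LD2_c21 LD3_c41) Lrfl Lrfl
theorem f10216 : Led Lsl_ft (LP (LK LD1_c0 LD2_c49 LD3_c28)) = (LP (LK LD1_c0 LD2_c22 LD3_c9)) :=
  Lre_f IH (LK LD1_c0 LD2_c49 LD3_c28) (LK LD1_c0 LD2_c22 LD3_c9) Lrfl Lrfl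
theorem f10217 : Led Lsl_et (LP (LK LD1_c0 LD2_c22 LD3_c9)) = (LP (LK LD1_c0 LD2_c9 LD3_c59)) :=
  Lre_e IH (LK LD1_c0 LD2_c22 LD3_c9) (LK LD1_c0 LD2_c9 LD3_c59) Lrfl Lrfl
theorem f10218 : Led Lsl_ff (LP (LK LD1_c0 LD2_c9 LD3_c46)) = (LP (LK LD1_c0 LD2_c9 LD3_c59)) :=
  Lgr Lrot72 (Lpr_et (f10215 IH) (Lpr_ft (f10214 IH) (Lpr_et (f10202 IH) (Lpr_ft (f10216 IH) (Lpr_et (f10217 IH) (Lpn (LP (LK LD1_c0 LD2_c9 LD3_c59))))))))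
theorem f10225 : Led Lsl_dt (LP (LK LD1_c0 LD2_c9 LD3_c46)) = (LP (LK LD1_c0 LD2_c4 LD3_c35)) :=
  Lre_d IH (LK LD1_c0 LD2_c9 LD3_c46) (LK LD1_c0 LD2_c4 LD3_c35) Lrfl Lrfl
theorem f6100 : Led Lsl_dt (LP (LK LD1_c0 LD2_c4 LD3_c41)) = (LP (LK LD1_c0 LD2_c9 LD3_c59)) :=
  Lre_d IH (LK LD1_c0 LD2_c4 LD3_c41) (LK LD1_c0 LD2_c9 LD3_c59) Lrfl Lrfl
theorem f10226 : Led Lsl_ft (LP (LK LD1_c0 LD2_c4 LD3_c35)) = (LP (LK LD1_c0 LD2_c4 LD3_c41)) :=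
  Lgr Lrot54 (Lpe (f10225 IH) (Lpr_ff (f10218 IH) (Lpe (f6100 IH) (Lpn (LP (LK LD1_c0 LD2_c4 LD3_c41))))))
theorem f10014 : Led Lsl_bt (LP (LK LD1_c0 LD2_c2 LD3_c6)) = (LP (LK LD1_c0 LD2_c4 LD3_c35)) :=
  Lre_b IH (LK LD1_c0 LD2_c2 LD3_c6) (LK LD1_c0 LD2_c4 LD3_c35) Lrfl Lrfl
theorem f10253 : Led Lsl_bt (LP (LK LD1_c0 LD2_c4 LD3_c41)) = (LP (LK LD1_c0 LD2_c2 LD3_c8)) :=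
  Lre_b IH (LK LD1_c0 LD2_c4 LD3_c41) (LK LD1_c0 LD2_c2 LD3_c8) Lrfl Lrfl
theorem f10254 : Led Lsl_ff (LP (LK LD1_c0 LD2_c2 LD3_c6)) = (LP (LK LD1_c0 LD2_c2 LD3_c8)) :=
  Lgr Lrot25 (Lpr_bt (f10014 IH) (Lpr_ft (f10226 IH) (Lpr_bt (f10253 IH) (Lpn (LP (LK LD1_c0 LD2_c2 LD3_c8))))))
theorem f5877 : Led Lsl_ct (LP (LK LD1_c0 LD2_c0 LD3_c55)) = (LP (LK LD1_c0 LD2_c2 LD3_c6)) :=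
  Lre_c IH (LK LD1_c0 LD2_c0 LD3_c55) (LK LD1_c0 LD2_c2 LD3_c6) Lrfl Lrfl
theorem f10052 : Led Lsl_af (LP (LK LD1_c0 LD2_c2 LD3_c6)) = (LP (LK LD1_c0 LD2_c2 LD3_c6)) :=
  Lgr Lrot68 (Lpr_ct (f5879 IH) (Lpr_at (f10050 IH) (Lpr_ct (f5877 IH) (Lpn (LP (LK LD1_c0 LD2_c2 LD3_c6))))))
theorem f11028 : Led Lsl_gt (LP (LK LD1_c0 LD2_c4 LD3_c17)) = (LP (LK LD1_c0 LD2_c2 LD3_c6)) :=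
  Lgr Lrot46 (Lpr_gf (f11022 IH) (Lpe (f10254 IH) (Lpe (f10052 IH) (Lpn (LP (LK LD1_c0 LD2_c2 LD3_c6))))))
theorem f6688 : Led Lsl_et (LP (LK LD1_c0 LD2_c2 LD3_c7)) = (LP (LK LD1_c0 LD2_c0 LD3_c55)) :=
  Lre_e IH (LK LD1_c0 LD2_c2 LD3_c7) (LK LD1_c0 LD2_c0 LD3_c55) Lrfl Lrfl
theorem f10994 : Led Lsl_gf (LP (LK LD1_c0 LD2_c2 LD3_c5)) = (LP (LK LD1_c0 LD2_c0 LD3_c55)) :=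
  Lgr Lrot141 (Lpe (f7391 IH) (Lpr_dt (f7392 IH) (Lpe (f10989 IH) (Lpr_df (f9969 IH) (Lpr_et (f10046 IH) (Lpr_gt (f10066 IH) (Lpe (f7404 IH) (Lpr_gt (f10001 IH) (Lpr_df (f9942 IH) (Lpr_et (f6688 IH) (Lpn (LP (LK LD1_c0 LD2_c0 LD3_c55)))))))))))))
theorem f166 : Led Lsl_ct (LP (LK LD1_c0 LD2_c2 LD3_c5)) = (LP (LK LD1_c0 LD2_c4 LD3_c32)) :=
  Lre_c IH (LK LD1_c0 LD2_c2 LD3_c5) (LK LD1_c0 LD2_c4 LD3_c32) Lrfl Lrfl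
theorem f167 : Led Lsl_dt (LP (LK LD1_c0 LD2_c4 LD3_c32)) = (LP (LK LD1_c0 LD2_c9 LD3_c39)) :=
  Lre_d IH (LK LD1_c0 LD2_c4 LD3_c32) (LK LD1_c0 LD2_c9 LD3_c39) Lrfl Lrfl
theorem f4909 : Led Lsl_af (LP (LK LD1_c0 LD2_c4 LD3_c48)) = (LP (LK LD1_c0 LD2_c4 LD3_c48)) :=
  Lgr Lrot117 (Lpr_dt (f3918 IH) (Lpr_at (f3935 IH) (Lpr_dt (f3928 IH) (Lpn (LP (LK LD1_c0 LD2_c4 LD3_c48))))))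
theorem f4947 : Led Lsl_ft (LP (LK LD1_c0 LD2_c4 LD3_c46)) = (LP (LK LD1_c0 LD2_c4 LD3_c48)) :=
  Lgr Lrot142 (Lpr_dt (f335 IH) (Lpr_ct (f334 IH) (Lpe (f332 IH) (Lpe (f326 IH) (Lpr_dt (f328 IH) (Lpr_ct (f330 IH) (Lpr_dt (f331 IH) (Lpr_ct (f3919 IH) (Lpr_af (f4909 IH) (Lpn (LP (LK LD1_c0 LD2_c4 LD3_c48))))))))))))
theorem f11048 : Led Lsl_gf (LP (LK LD1_c0 LD2_c9 LD3_c13)) = (LP (LK LD1_c0 LD2_c4 LD3_c46)) :=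
  Lgr Lrot47 (Lpr_gt (f11030 IH) (Lpr_af (f4909 IH) (Lpe (f4947 IH) (Lpn (LP (LK LD1_c0 LD2_c4 LD3_c46))))))
theorem f11050 : Led Lsl_cf (LP (LK LD1_c0 LD2_c9 LD3_c39)) = (LP (LK LD1_c0 LD2_c9 LD3_c13)) :=
  Lgr Lrot99 (Lpe (f167 IH) (Lpe (f166 IH) (Lpr_gf (f10994 IH) (Lpe (f5879 IH) (Lpe (f11028 IH) (Lpe (f190 IH) (Lpr_gt (f11030 IH) (Lpe (f3926 IH) (Lpe (f11048 IH) (Lpn (LP (LK LD1_c0 LD2_c9 LD3_c13))))))))))))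
theorem f175 : Led Lsl_dt (LP (LK LD1_c0 LD2_c9 LD3_c39)) = (LP (LK LD1_c0 LD2_c4 LD3_c32)) :=
  Lre_d IH (LK LD1_c0 LD2_c9 LD3_c39) (LK LD1_c0 LD2_c4 LD3_c32) Lrfl Lrfl
theorem f171 : Led Lsl_ct (LP (LK LD1_c0 LD2_c4 LD3_c32)) = (LP (LK LD1_c0 LD2_c2 LD3_c5)) :=
  Lre_c IH (LK LD1_c0 LD2_c4 LD3_c32) (LK LD1_c0 LD2_c2 LD3_c5) Lrfl Lrfl
theorem f113 : Led Lsl_ct (LP (LK LD1_c0 LD2_c1 LD3_c57)) = (LP (LK LD1_c0 LD2_c4 LD3_c17)) :=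
  Lre_c IH (LK LD1_c0 LD2_c1 LD3_c57) (LK LD1_c0 LD2_c4 LD3_c17) Lrfl Lrfl
theorem f119 : Led Lsl_ft (LP (LK LD1_c0 LD2_c0 LD3_c53)) = (LP (LK LD1_c0 LD2_c2 LD3_c5)) :=
  Lre_f IH (LK LD1_c0 LD2_c0 LD3_c53) (LK LD1_c0 LD2_c2 LD3_c5) Lrfl Lrfl
theorem f11073 : Led Lsl_af (LP (LK LD1_c0 LD2_c2 LD3_c5)) = (LP (LK LD1_c0 LD2_c2 LD3_c5)) :=
  Lgr Lrot109 (Lpe (f171 IH) (Lpe (f175 IH) (Lpr_cf (f11050 IH) (Lpe (f114 IH) (Lpe (f113 IH) (Lpe (f112 IH) (Lpe (f90 IH) (Lpe (f108 IH) (Lpr_ft (f119 IH) (Lpn (LP (LK LD1_c0 LD2_c2 LD3_c5))))))))))))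
theorem f11083 : Led Lsl_at (LP (LK LD1_c0 LD2_c4 LD3_c33)) = (LP (LK LD1_c0 LD2_c4 LD3_c33)) :=
  Lgr Lrot80 (Lpe (f7390 IH) (Lpr_af (f11073 IH) (Lpe (f7391 IH) (Lpn (LP (LK LD1_c0 LD2_c4 LD3_c33))))))
theorem f7398 : Led Lsl_ct (LP (LK LD1_c0 LD2_c9 LD3_c40)) = (LP (LK LD1_c0 LD2_c4 LD3_c33)) :=
  Lre_c IH (LK LD1_c0 LD2_c9 LD3_c40) (LK LD1_c0 LD2_c4 LD3_c33) Lrfl Lrfl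
theorem f7400 : Led Lsl_ct (LP (LK LD1_c0 LD2_c4 LD3_c33)) = (LP (LK LD1_c0 LD2_c9 LD3_c40)) :=
  Lre_c IH (LK LD1_c0 LD2_c4 LD3_c33) (LK LD1_c0 LD2_c9 LD3_c40) Lrfl Lrfl
theorem f11085 : Led Lsl_af (LP (LK LD1_c0 LD2_c9 LD3_c40)) = (LP (LK LD1_c0 LD2_c9 LD3_c40)) :=
  Lgr Lrot68 (Lpr_ct (f7398 IH) (Lpr_at (f11083 IH) (Lpr_ct (f7400 IH) (Lpn (LP (LK LD1_c0 LD2_c9 LD3_c40))))))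
theorem f11096 : Led Lsl_ft (LP (LK LD1_c0 LD2_c9 LD3_c40)) = (LP (LK LD1_c0 LD2_c5 LD3_c4)) :=
  Lre_f IH (LK LD1_c0 LD2_c9 LD3_c40) (LK LD1_c0 LD2_c5 LD3_c4) Lrfl Lrfl
theorem f11097 : Led Lsl_ft (LP (LK LD1_c0 LD2_c5 LD3_c4)) = (LP (LK LD1_c0 LD2_c9 LD3_c40)) :=
  Lre_f IH (LK LD1_c0 LD2_c5 LD3_c4) (LK LD1_c0 LD2_c9 LD3_c40) Lrfl Lrfl
theorem f11098 : Led Lsl_at (LP (LK LD1_c0 LD2_c5 LD3_c4)) = (LP (LK LD1_c0 LD2_c5 LD3_c4)) :=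
  Lgr Lrot66 (Lpe (f11096 IH) (Lpr_af (f11085 IH) (Lpe (f11097 IH) (Lpn (LP (LK LD1_c0 LD2_c5 LD3_c4))))))
theorem f7420 : Led Lsl_dt (LP (LK LD1_c0 LD2_c10 LD3_c55)) = (LP (LK LD1_c0 LD2_c5 LD3_c4)) :=
  Lre_d IH (LK LD1_c0 LD2_c10 LD3_c55) (LK LD1_c0 LD2_c5 LD3_c4) Lrfl Lrfl
theorem f7417 : Led Lsl_dt (LP (LK LD1_c0 LD2_c5 LD3_c4)) = (LP (LK LD1_c0 LD2_c10 LD3_c55)) :=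
  Lre_d IH (LK LD1_c0 LD2_c5 LD3_c4) (LK LD1_c0 LD2_c10 LD3_c55) Lrfl Lrfl
theorem f11105 : Led Lsl_af (LP (LK LD1_c0 LD2_c10 LD3_c55)) = (LP (LK LD1_c0 LD2_c10 LD3_c55)) :=
  Lgr Lrot117 (Lpr_dt (f7420 IH) (Lpr_at (f11098 IH) (Lpr_dt (f7417 IH) (Lpn (LP (LK LD1_c0 LD2_c10 LD3_c55))))))
theorem f11122 : Led Lsl_et (LP (LK LD1_c0 LD2_c10 LD3_c55)) = (LP (LK LD1_c0 LD2_c24 LD3_c28)) :=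
  Lre_e IH (LK LD1_c0 LD2_c10 LD3_c55) (LK LD1_c0 LD2_c24 LD3_c28) Lrfl Lrfl
theorem f11123 : Led Lsl_et (LP (LK LD1_c0 LD2_c24 LD3_c28)) = (LP (LK LD1_c0 LD2_c10 LD3_c55)) :=
  Lre_e IH (LK LD1_c0 LD2_c24 LD3_c28) (LK LD1_c0 LD2_c10 LD3_c55) Lrfl Lrfl
theorem f11124 : Led Lsl_at (LP (LK LD1_c0 LD2_c24 LD3_c28)) = (LP (LK LD1_c0 LD2_c24 LD3_c28)) :=
  Lgr Lrot80 (Lpe (f11122 IH) (Lpr_af (f11105 IH) (Lpe (f11123 IH) (Lpn (LP (LK LD1_c0 LD2_c24 LD3_c28))))))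
theorem f11146 : Led Lsl_dt (LP (LK LD1_c0 LD2_c10 LD3_c53)) = (LP (LK LD1_c0 LD2_c24 LD3_c28)) :=
  Lre_d IH (LK LD1_c0 LD2_c10 LD3_c53) (LK LD1_c0 LD2_c24 LD3_c28) Lrfl Lrfl
theorem f11147 : Led Lsl_dt (LP (LK LD1_c0 LD2_c24 LD3_c28)) = (LP (LK LD1_c0 LD2_c10 LD3_c53)) :=
  Lre_d IH (LK LD1_c0 LD2_c24 LD3_c28) (LK LD1_c0 LD2_c10 LD3_c53) Lrfl Lrfl
theorem f11148 : Led Lsl_af (LP (LK LD1_c0 LD2_c10 LD3_c53)) = (LP (LK LD1_c0 LD2_c10 LD3_c53)) :=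
  Lgr Lrot117 (Lpr_dt (f11146 IH) (Lpr_at (f11124 IH) (Lpr_dt (f11147 IH) (Lpn (LP (LK LD1_c0 LD2_c10 LD3_c53))))))
theorem f11157 : Led Lsl_ft (LP (LK LD1_c0 LD2_c10 LD3_c53)) = (LP (LK LD1_c0 LD2_c24 LD3_c27)) :=
  Lre_f IH (LK LD1_c0 LD2_c10 LD3_c53) (LK LD1_c0 LD2_c24 LD3_c27) Lrfl Lrfl
theorem f11158 : Led Lsl_ft (LP (LK LD1_c0 LD2_c24 LD3_c27)) = (LP (LK LD1_c0 LD2_c10 LD3_c53)) :=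
  Lre_f IH (LK LD1_c0 LD2_c24 LD3_c27) (LK LD1_c0 LD2_c10 LD3_c53) Lrfl Lrfl
theorem f11159 : Led Lsl_at (LP (LK LD1_c0 LD2_c24 LD3_c27)) = (LP (LK LD1_c0 LD2_c24 LD3_c27)) :=
  Lgr Lrot66 (Lpe (f11157 IH) (Lpr_af (f11148 IH) (Lpe (f11158 IH) (Lpn (LP (LK LD1_c0 LD2_c24 LD3_c27))))))
theorem f11167 : Led Lsl_et (LP (LK LD1_c0 LD2_c10 LD3_c52)) = (LP (LK LD1_c0 LD2_c24 LD3_c27)) :=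
  Lre_e IH (LK LD1_c0 LD2_c10 LD3_c52) (LK LD1_c0 LD2_c24 LD3_c27) Lrfl Lrfl
theorem f11168 : Led Lsl_et (LP (LK LD1_c0 LD2_c24 LD3_c27)) = (LP (LK LD1_c0 LD2_c10 LD3_c52)) :=
  Lre_e IH (LK LD1_c0 LD2_c24 LD3_c27) (LK LD1_c0 LD2_c10 LD3_c52) Lrfl Lrfl
theorem f11169 : Led Lsl_af (LP (LK LD1_c0 LD2_c10 LD3_c52)) = (LP (LK LD1_c0 LD2_c10 LD3_c52)) :=
  Lgr Lrot50 (Lpr_et (f11167 IH) (Lpr_at (f11159 IH) (Lpr_et (f11168 IH) (Lpn (LP (LK LD1_c0 LD2_c10 LD3_c52))))))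
theorem f11185 : Led Lsl_ft (LP (LK LD1_c0 LD2_c10 LD3_c52)) = (LP (LK LD1_c0 LD2_c5 LD3_c2)) :=
  Lre_f IH (LK LD1_c0 LD2_c10 LD3_c52) (LK LD1_c0 LD2_c5 LD3_c2) Lrfl Lrfl
theorem f11186 : Led Lsl_ft (LP (LK LD1_c0 LD2_c5 LD3_c2)) = (LP (LK LD1_c0 LD2_c10 LD3_c52)) :=
  Lre_f IH (LK LD1_c0 LD2_c5 LD3_c2) (LK LD1_c0 LD2_c10 LD3_c52) Lrfl Lrfl
theorem f11187 : Led Lsl_at (LP (LK LD1_c0 LD2_c5 LD3_c2)) = (LP (LK LD1_c0 LD2_c5 LD3_c2)) :=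
  Lgr Lrot66 (Lpe (f11185 IH) (Lpr_af (f11169 IH) (Lpe (f11186 IH) (Lpn (LP (LK LD1_c0 LD2_c5 LD3_c2))))))
theorem f11229 : Led Lsl_et (LP (LK LD1_c0 LD2_c2 LD3_c16)) = (LP (LK LD1_c0 LD2_c5 LD3_c2)) :=
  Lre_e IH (LK LD1_c0 LD2_c2 LD3_c16) (LK LD1_c0 LD2_c5 LD3_c2) Lrfl Lrfl
theorem f11230 : Led Lsl_et (LP (LK LD1_c0 LD2_c5 LD3_c2)) = (LP (LK LD1_c0 LD2_c2 LD3_c16)) :=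
  Lre_e IH (LK LD1_c0 LD2_c5 LD3_c2) (LK LD1_c0 LD2_c2 LD3_c16) Lrfl Lrfl
theorem f11231 : Led Lsl_af (LP (LK LD1_c0 LD2_c2 LD3_c16)) = (LP (LK LD1_c0 LD2_c2 LD3_c16)) :=
  Lgr Lrot50 (Lpr_et (f11229 IH) (Lpr_at (f11187 IH) (Lpr_et (f11230 IH) (Lpn (LP (LK LD1_c0 LD2_c2 LD3_c16))))))
theorem f3880 : Led Lsl_dt (LP (LK LD1_c0 LD2_c2 LD3_c16)) = (LP (LK LD1_c0 LD2_c0 LD3_c59)) :=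
  Lre_d IH (LK LD1_c0 LD2_c2 LD3_c16) (LK LD1_c0 LD2_c0 LD3_c59) Lrfl Lrfl
theorem f5850 : Led Lsl_dt (LP (LK LD1_c0 LD2_c0 LD3_c59)) = (LP (LK LD1_c0 LD2_c2 LD3_c16)) :=
  Lre_d IH (LK LD1_c0 LD2_c0 LD3_c59) (LK LD1_c0 LD2_c2 LD3_c16) Lrfl Lrfl
theorem f11257 : Led Lsl_at (LP (LK LD1_c0 LD2_c0 LD3_c59)) = (LP (LK LD1_c0 LD2_c0 LD3_c59)) :=
  Lgr Lrot51 (Lpe (f3880 IH) (Lpr_af (f11231 IH) (Lpe (f5850 IH) (Lpn (LP (LK LD1_c0 LD2_c0 LD3_c59))))))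
theorem f4469 : Led Lsl_et (LP (LK LD1_c0 LD2_c2 LD3_c4)) = (LP (LK LD1_c0 LD2_c0 LD3_c59)) :=
  Lre_e IH (LK LD1_c0 LD2_c2 LD3_c4) (LK LD1_c0 LD2_c0 LD3_c59) Lrfl Lrfl
theorem f11276 : Led Lsl_et (LP (LK LD1_c0 LD2_c0 LD3_c59)) = (LP (LK LD1_c0 LD2_c2 LD3_c4)) :=
  Lre_e IH (LK LD1_c0 LD2_c0 LD3_c59) (LK LD1_c0 LD2_c2 LD3_c4) Lrfl Lrfl
theorem f11277 : Led Lsl_af (LP (LK LD1_c0 LD2_c2 LD3_c4)) = (LP (LK LD1_c0 LD2_c2 LD3_c4)) :=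
  Lgr Lrot50 (Lpr_et (f4469 IH) (Lpr_at (f11257 IH) (Lpr_et (f11276 IH) (Lpn (LP (LK LD1_c0 LD2_c2 LD3_c4))))))
theorem f188 : Led Lsl_dt (LP (LK LD1_c0 LD2_c2 LD3_c4)) = (LP (LK LD1_c0 LD2_c4 LD3_c31)) :=
  Lre_d IH (LK LD1_c0 LD2_c2 LD3_c4) (LK LD1_c0 LD2_c4 LD3_c31) Lrfl Lrfl
theorem f110 : Led Lsl_dt (LP (LK LD1_c0 LD2_c4 LD3_c31)) = (LP (LK LD1_c0 LD2_c2 LD3_c4)) :=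
  Lre_d IH (LK LD1_c0 LD2_c4 LD3_c31) (LK LD1_c0 LD2_c2 LD3_c4) Lrfl Lrfl
theorem f11391 : Led Lsl_at (LP (LK LD1_c0 LD2_c4 LD3_c31)) = (LP (LK LD1_c0 LD2_c4 LD3_c31)) :=
  Lgr Lrot51 (Lpe (f188 IH) (Lpr_af (f11277 IH) (Lpe (f110 IH) (Lpn (LP (LK LD1_c0 LD2_c4 LD3_c31))))))
theorem f111 : Led Lsl_ct (LP (LK LD1_c0 LD2_c9 LD3_c37)) = (LP (LK LD1_c0 LD2_c4 LD3_c31)) :=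
  Lre_c IH (LK LD1_c0 LD2_c9 LD3_c37) (LK LD1_c0 LD2_c4 LD3_c31) Lrfl Lrfl
theorem f189 : Led Lsl_ct (LP (LK LD1_c0 LD2_c4 LD3_c31)) = (LP (LK LD1_c0 LD2_c9 LD3_c37)) :=
  Lre_c IH (LK LD1_c0 LD2_c4 LD3_c31) (LK LD1_c0 LD2_c9 LD3_c37) Lrfl Lrfl
theorem f11400 : Led Lsl_af (LP (LK LD1_c0 LD2_c9 LD3_c37)) = (LP (LK LD1_c0 LD2_c9 LD3_c37)) :=
  Lgr Lrot68 (Lpr_ct (f111 IH) (Lpr_at (f11391 IH) (Lpr_ct (f189 IH) (Lpn (LP (LK LD1_c0 LD2_c9 LD3_c37))))))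
theorem f187 : Led Lsl_ct (LP (LK LD1_c0 LD2_c0 LD3_c53)) = (LP (LK LD1_c0 LD2_c2 LD3_c4)) :=
  Lre_c IH (LK LD1_c0 LD2_c0 LD3_c53) (LK LD1_c0 LD2_c2 LD3_c4) Lrfl Lrfl
theorem f129 : Led Lsl_dt (LP (LK LD1_c0 LD2_c1 LD3_c57)) = (LP (LK LD1_c0 LD2_c0 LD3_c46)) :=
  Lre_d IH (LK LD1_c0 LD2_c1 LD3_c57) (LK LD1_c0 LD2_c0 LD3_c46) Lrfl Lrfl
theorem f11417 : Led Lsl_ft (LP (LK LD1_c0 LD2_c9 LD3_c13)) = (LP (LK LD1_c0 LD2_c9 LD3_c37)) :=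
  Lgr Lrot142 (Lpr_dt (f190 IH) (Lpr_ct (f130 IH) (Lpr_dt (f129 IH) (Lpe (f106 IH) (Lpr_dt (f186 IH) (Lpr_ct (f187 IH) (Lpr_dt (f188 IH) (Lpr_ct (f189 IH) (Lpr_af (f11400 IH) (Lpn (LP (LK LD1_c0 LD2_c9 LD3_c37))))))))))))
theorem f11427 : Led Lsl_gt (LP (LK LD1_c0 LD2_c4 LD3_c48)) = (LP (LK LD1_c0 LD2_c9 LD3_c37)) :=
  Lgr Lrot46 (Lpe (f11030 IH) (Lpr_ft (f11417 IH) (Lpe (f11400 IH) (Lpn (LP (LK LD1_c0 LD2_c9 LD3_c37))))))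
theorem f4942 : Led Lsl_at (LP (LK LD1_c0 LD2_c4 LD3_c46)) = (LP (LK LD1_c0 LD2_c4 LD3_c46)) :=
  Lgr Lrot107 (Lpr_cf (f3926 IH) (Lpr_af (f4909 IH) (Lpe (f3919 IH) (Lpn (LP (LK LD1_c0 LD2_c4 LD3_c46))))))
theorem f4949 : Led Lsl_ff (LP (LK LD1_c0 LD2_c4 LD3_c46)) = (LP (LK LD1_c0 LD2_c4 LD3_c48)) :=
  Lgr Lrot30 (Lpr_at (f4942 IH) (Lpr_ft (f4947 IH) (Lpe (f4909 IH) (Lpn (LP (LK LD1_c0 LD2_c4 LD3_c48))))))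
theorem f11429 : Led Lsl_gf (LP (LK LD1_c0 LD2_c4 LD3_c46)) = (LP (LK LD1_c0 LD2_c9 LD3_c37)) :=
  Lgr Lrot76 (Lpe (f4942 IH) (Lpr_ff (f4949 IH) (Lpr_gt (f11427 IH) (Lpn (LP (LK LD1_c0 LD2_c9 LD3_c37))))))
theorem f3971 : Led Lsl_ef (LP (LK LD1_c0 LD2_c2 LD3_c10)) = (LP (LK LD1_c0 LD2_c2 LD3_c10)) :=
  Lgr Lrot28 (Lpr_ct (f334 IH) (Lpr_et (f3947 IH) (Lpr_ct (f330 IH) (Lpn (LP (LK LD1_c0 LD2_c2 LD3_c10))))))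
theorem f11279 : Led Lsl_ft (LP (LK LD1_c0 LD2_c2 LD3_c17)) = (LP (LK LD1_c0 LD2_c0 LD3_c59)) :=
  Lre_f IH (LK LD1_c0 LD2_c2 LD3_c17) (LK LD1_c0 LD2_c0 LD3_c59) Lrfl Lrfl
theorem f3831 : Led Lsl_gt (LP (LK LD1_c0 LD2_c2 LD3_c14)) = (LP (LK LD1_c0 LD2_c0 LD3_c59)) :=
  Lre_g IH (LK LD1_c0 LD2_c2 LD3_c14) (LK LD1_c0 LD2_c0 LD3_c59) Lrfl Lrfl
theorem f11281 : Led Lsl_gt (LP (LK LD1_c0 LD2_c2 LD3_c17)) = (LP (LK LD1_c0 LD2_c2 LD3_c14)) :=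
  Lgr Lrot5 (Lpr_ft (f11279 IH) (Lpr_at (f11257 IH) (Lpe (f3831 IH) (Lpn (LP (LK LD1_c0 LD2_c2 LD3_c14))))))
theorem f5825 : Led Lsl_dt (LP (LK LD1_c0 LD2_c2 LD3_c14)) = (LP (LK LD1_c0 LD2_c4 LD3_c54)) :=
  Lre_d IH (LK LD1_c0 LD2_c2 LD3_c14) (LK LD1_c0 LD2_c4 LD3_c54) Lrfl Lrfl
theorem f11283 : Led Lsl_gf (LP (LK LD1_c0 LD2_c9 LD3_c39)) = (LP (LK LD1_c0 LD2_c4 LD3_c54)) :=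
  Lgr Lrot143 (Lpr_dt (f175 IH) (Lpe (f166 IH) (Lpe (f165 IH) (Lpr_gf (f10998 IH) (Lpe (f3899 IH) (Lpr_gf (f9922 IH) (Lpe (f6731 IH) (Lpr_gt (f11281 IH) (Lpr_dt (f5825 IH) (Lpn (LP (LK LD1_c0 LD2_c4 LD3_c54))))))))))))
theorem f109 : Led Lsl_ct (LP (LK LD1_c0 LD2_c2 LD3_c4)) = (LP (LK LD1_c0 LD2_c0 LD3_c53)) :=
  Lre_c IH (LK LD1_c0 LD2_c2 LD3_c4) (LK LD1_c0 LD2_c0 LD3_c53) Lrfl Lrfl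
theorem f120 : Led Lsl_ft (LP (LK LD1_c0 LD2_c4 LD3_c31)) = (LP (LK LD1_c0 LD2_c9 LD3_c39)) :=
  Lre_f IH (LK LD1_c0 LD2_c4 LD3_c31) (LK LD1_c0 LD2_c9 LD3_c39) Lrfl Lrfl
theorem f11071 : Led Lsl_af (LP (LK LD1_c0 LD2_c9 LD3_c39)) = (LP (LK LD1_c0 LD2_c9 LD3_c39)) :=
  Lgr Lrot109 (Lpr_cf (f11050 IH) (Lpe (f114 IH) (Lpe (f113 IH) (Lpe (f112 IH) (Lpe (f90 IH) (Lpe (f108 IH) (Lpe (f109 IH) (Lpe (f110 IH) (Lpr_ft (f120 IH) (Lpn (LP (LK LD1_c0 LD2_c9 LD3_c39))))))))))))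
theorem f11297 : Led Lsl_gt (LP (LK LD1_c0 LD2_c4 LD3_c31)) = (LP (LK LD1_c0 LD2_c4 LD3_c54)) :=
  Lgr Lrot5 (Lpr_ft (f120 IH) (Lpe (f11071 IH) (Lpr_gf (f11283 IH) (Lpn (LP (LK LD1_c0 LD2_c4 LD3_c54))))))
theorem f5826 : Led Lsl_dt (LP (LK LD1_c0 LD2_c4 LD3_c54)) = (LP (LK LD1_c0 LD2_c2 LD3_c14)) :=
  Lre_d IH (LK LD1_c0 LD2_c4 LD3_c54) (LK LD1_c0 LD2_c2 LD3_c14) Lrfl Lrfl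
theorem f3881 : Led Lsl_ct (LP (LK LD1_c0 LD2_c5 LD3_c1)) = (LP (LK LD1_c0 LD2_c2 LD3_c16)) :=
  Lre_c IH (LK LD1_c0 LD2_c5 LD3_c1) (LK LD1_c0 LD2_c2 LD3_c16) Lrfl Lrfl
theorem f343 : Led Lsl_ct (LP (LK LD1_c0 LD2_c0 LD3_c59)) = (LP (LK LD1_c0 LD2_c0 LD3_c20)) :=
  Lre_c IH (LK LD1_c0 LD2_c0 LD3_c59) (LK LD1_c0 LD2_c0 LD3_c20) Lrfl Lrfl
theorem f9885 : Led Lsl_df (LP (LK LD1_c0 LD2_c5 LD3_c1)) = (LP (LK LD1_c0 LD2_c4 LD3_c28)) :=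
  Lgr Lrot43 (Lpr_ct (f3881 IH) (Lpr_dt (f3880 IH) (Lpr_ct (f343 IH) (Lpr_dt (f124 IH) (Lpr_ct (f139 IH) (Lpr_dt (f58 IH) (Lpr_ct (f140 IH) (Lpr_dt (f9874 IH) (Lpr_ct (f9875 IH) (Lpr_dt (f6730 IH) (Lpr_ct (f6731 IH) (Lpr_dt (f5848 IH) (Lpr_ct (f5866 IH) (Lpr_dt (f3875 IH) (Lpr_ct (f3876 IH) (Lpn (LP (LK LD1_c0 LD2_c4 LD3_c28))))))))))))))))))
theorem f11458 : Led Lsl_gt (LP (LK LD1_c0 LD2_c2 LD3_c10)) = (LP (LK LD1_c0 LD2_c4 LD3_c28)) :=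
  Lgr Lrot49 (Lpe (f335 IH) (Lpr_gf (f11429 IH) (Lpe (f189 IH) (Lpr_gt (f11297 IH) (Lpr_dt (f5826 IH) (Lpr_gt (f3831 IH) (Lpr_dt (f5850 IH) (Lpe (f3881 IH) (Lpr_df (f9885 IH) (Lpn (LP (LK LD1_c0 LD2_c4 LD3_c28))))))))))))
theorem f9870 : Led Lsl_et (LP (LK LD1_c0 LD2_c9 LD3_c31)) = (LP (LK LD1_c0 LD2_c4 LD3_c28)) :=
  Lre_e IH (LK LD1_c0 LD2_c9 LD3_c31) (LK LD1_c0 LD2_c4 LD3_c28) Lrfl Lrfl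
theorem f9866 : Led Lsl_dt (LP (LK LD1_c0 LD2_c9 LD3_c31)) = (LP (LK LD1_c0 LD2_c20 LD3_c61)) :=
  Lre_d IH (LK LD1_c0 LD2_c9 LD3_c31) (LK LD1_c0 LD2_c20 LD3_c61) Lrfl Lrfl
theorem f10012 : Led Lsl_gt (LP (LK LD1_c0 LD2_c2 LD3_c6)) = (LP (LK LD1_c0 LD2_c4 LD3_c34)) :=
  Lre_g IH (LK LD1_c0 LD2_c2 LD3_c6) (LK LD1_c0 LD2_c4 LD3_c34) Lrfl Lrfl
theorem f11460 : Led Lsl_dt (LP (LK LD1_c0 LD2_c4 LD3_c34)) = (LP (LK LD1_c0 LD2_c9 LD3_c37)) :=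
  Lgr Lrot57 (Lpe (f10012 IH) (Lpe (f5877 IH) (Lpe (f10994 IH) (Lpr_dt (f170 IH) (Lpr_gt (f11002 IH) (Lpr_dt (f328 IH) (Lpe (f334 IH) (Lpe (f335 IH) (Lpr_gf (f11429 IH) (Lpn (LP (LK LD1_c0 LD2_c9 LD3_c37))))))))))))
theorem f10753 : Led Lsl_et (LP (LK LD1_c0 LD2_c4 LD3_c37)) = (LP (LK LD1_c0 LD2_c2 LD3_c6)) :=
  Lre_e IH (LK LD1_c0 LD2_c4 LD3_c37) (LK LD1_c0 LD2_c2 LD3_c6) Lrfl Lrfl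
theorem f9984 : Led Lsl_dt (LP (LK LD1_c0 LD2_c4 LD3_c37)) = (LP (LK LD1_c0 LD2_c9 LD3_c51)) :=
  Lre_d IH (LK LD1_c0 LD2_c4 LD3_c37) (LK LD1_c0 LD2_c9 LD3_c51) Lrfl Lrfl
theorem f11472 : Led Lsl_gt (LP (LK LD1_c0 LD2_c20 LD3_c61)) = (LP (LK LD1_c0 LD2_c9 LD3_c51)) :=
  Lgr Lrot112 (Lpe (f9866 IH) (Lpr_et (f9870 IH) (Lpe (f11458 IH) (Lpr_ef (f3971 IH) (Lpr_dt (f331 IH) (Lpr_gf (f11429 IH) (Lpe (f11460 IH) (Lpe (f10012 IH) (Lpe (f10753 IH) (Lpr_dt (f9984 IH) (Lpn (LP (LK LD1_c0 LD2_c9 LD3_c51)))))))))))))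
theorem f9948 : Led Lsl_dt (LP (LK LD1_c0 LD2_c9 LD3_c51)) = (LP (LK LD1_c0 LD2_c4 LD3_c37)) :=
  Lre_d IH (LK LD1_c0 LD2_c9 LD3_c51) (LK LD1_c0 LD2_c4 LD3_c37) Lrfl Lrfl
theorem f9983 : Led Lsl_ct (LP (LK LD1_c0 LD2_c2 LD3_c7)) = (LP (LK LD1_c0 LD2_c4 LD3_c37)) :=
  Lre_c IH (LK LD1_c0 LD2_c2 LD3_c7) (LK LD1_c0 LD2_c4 LD3_c37) Lrfl Lrfl
theorem f11476 : Led Lsl_gf (LP (LK LD1_c0 LD2_c9 LD3_c31)) = (LP (LK LD1_c0 LD2_c10 LD3_c1)) :=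
  Lgr Lrot144 (Lpr_dt (f9866 IH) (Lpr_gt (f11472 IH) (Lpr_dt (f9948 IH) (Lpe (f9983 IH) (Lpe (f9950 IH) (Lpe (f10001 IH) (Lpr_df (f7404 IH) (Lpe (f10066 IH) (Lpe (f9964 IH) (Lpn (LP (LK LD1_c0 LD2_c10 LD3_c1))))))))))))
theorem f10262 : Led Lsl_ff (LP (LK LD1_c0 LD2_c4 LD3_c35)) = (LP (LK LD1_c0 LD2_c4 LD3_c41)) :=
  Lgr Lrot3 (Lpr_ft (f10226 IH) (Lpn (LP (LK LD1_c0 LD2_c4 LD3_c41))))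
theorem f10288 : Led Lsl_et (LP (LK LD1_c0 LD2_c4 LD3_c35)) = (LP (LK LD1_c0 LD2_c9 LD3_c47)) :=
  Lre_e IH (LK LD1_c0 LD2_c4 LD3_c35) (LK LD1_c0 LD2_c9 LD3_c47) Lrfl Lrfl
theorem f10289 : Led Lsl_ft (LP (LK LD1_c0 LD2_c9 LD3_c47)) = (LP (LK LD1_c0 LD2_c21 LD3_c45)) :=
  Lre_f IH (LK LD1_c0 LD2_c9 LD3_c47) (LK LD1_c0 LD2_c21 LD3_c45) Lrfl Lrfl
theorem f10290 : Led Lsl_et (LP (LK LD1_c0 LD2_c9 LD3_c60)) = (LP (LK LD1_c0 LD2_c4 LD3_c41)) :=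
  Lre_e IH (LK LD1_c0 LD2_c9 LD3_c60) (LK LD1_c0 LD2_c4 LD3_c41) Lrfl Lrfl
theorem f10291 : Led Lsl_ft (LP (LK LD1_c0 LD2_c22 LD3_c12)) = (LP (LK LD1_c0 LD2_c9 LD3_c60)) :=
  Lre_f IH (LK LD1_c0 LD2_c22 LD3_c12) (LK LD1_c0 LD2_c9 LD3_c60) Lrfl Lrfl
theorem f10292 : Led Lsl_et (LP (LK LD1_c0 LD2_c21 LD3_c45)) = (LP (LK LD1_c0 LD2_c22 LD3_c12)) :=
  Lgr Lrot69 (Lpe (f10289 IH) (Lpe (f10288 IH) (Lpr_ff (f10262 IH) (Lpe (f10290 IH) (Lpe (f10291 IH) (Lpn (LP (LK LD1_c0 LD2_c22 LD3_c12))))))))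
theorem f10312 : Led Lsl_dt (LP (LK LD1_c0 LD2_c48 LD3_c38)) = (LP (LK LD1_c0 LD2_c21 LD3_c45)) :=
  Lre_d IH (LK LD1_c0 LD2_c48 LD3_c38) (LK LD1_c0 LD2_c21 LD3_c45) Lrfl Lrfl
theorem f10313 : Led Lsl_et (LP (LK LD1_c1 LD2_c44 LD3_c10)) = (LP (LK LD1_c0 LD2_c48 LD3_c38)) :=
  Lre_e IH (LK LD1_c1 LD2_c44 LD3_c10) (LK LD1_c0 LD2_c48 LD3_c38) Lrfl Lrfl
theorem f10314 : Led Lsl_dt (LP (LK LD1_c0 LD2_c22 LD3_c12)) = (LP (LK LD1_c0 LD2_c49 LD3_c33)) :=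
  Lre_d IH (LK LD1_c0 LD2_c22 LD3_c12) (LK LD1_c0 LD2_c49 LD3_c33) Lrfl Lrfl
theorem f10315 : Led Lsl_et (LP (LK LD1_c0 LD2_c49 LD3_c33)) = (LP (LK LD1_c1 LD2_c45 LD3_c49)) :=
  Lre_e IH (LK LD1_c0 LD2_c49 LD3_c33) (LK LD1_c1 LD2_c45 LD3_c49) Lrfl Lrfl
theorem f10316 : Led Lsl_df (LP (LK LD1_c1 LD2_c44 LD3_c10)) = (LP (LK LD1_c1 LD2_c45 LD3_c49)) :=
  Lgr Lrot70 (Lpr_et (f10313 IH) (Lpr_dt (f10312 IH) (Lpr_et (f10292 IH) (Lpr_dt (f10314 IH) (Lpr_et (f10315 IH) (Lpn (LP (LK LD1_c1 LD2_c45 LD3_c49))))))))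
theorem f10326 : Led Lsl_dt (LP (LK LD1_c1 LD2_c44 LD3_c10)) = (LP (LK LD1_c1 LD2_c45 LD3_c49)) :=
  Lgr Lrot42 (Lpr_df (f10316 IH) (Lpn (LP (LK LD1_c1 LD2_c45 LD3_c49))))
theorem f10330 : Led Lsl_bt (LP (LK LD1_c0 LD2_c48 LD3_c52)) = (LP (LK LD1_c1 LD2_c44 LD3_c10)) :=
  Lre_b IH (LK LD1_c0 LD2_c48 LD3_c52) (LK LD1_c1 LD2_c44 LD3_c10) Lrfl Lrfl
theorem f10109 : Led Lsl_bt (LP (LK LD1_c1 LD2_c45 LD3_c49)) = (LP (LK LD1_c0 LD2_c49 LD3_c41)) :=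
  Lre_b IH (LK LD1_c1 LD2_c45 LD3_c49) (LK LD1_c0 LD2_c49 LD3_c41) Lrfl Lrfl
theorem f10331 : Led Lsl_df (LP (LK LD1_c0 LD2_c48 LD3_c52)) = (LP (LK LD1_c0 LD2_c49 LD3_c41)) :=
  Lgr Lrot12 (Lpr_bt (f10330 IH) (Lpr_dt (f10326 IH) (Lpr_bt (f10109 IH) (Lpn (LP (LK LD1_c0 LD2_c49 LD3_c41))))))
theorem f10340 : Led Lsl_et (LP (LK LD1_c0 LD2_c48 LD3_c52)) = (LP (LK LD1_c0 LD2_c21 LD3_c54)) :=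
  Lre_e IH (LK LD1_c0 LD2_c48 LD3_c52) (LK LD1_c0 LD2_c21 LD3_c54) Lrfl Lrfl
theorem f9974 : Led Lsl_dt (LP (LK LD1_c0 LD2_c21 LD3_c54)) = (LP (LK LD1_c0 LD2_c9 LD3_c52)) :=
  Lre_d IH (LK LD1_c0 LD2_c21 LD3_c54) (LK LD1_c0 LD2_c9 LD3_c52) Lrfl Lrfl
theorem f10105 : Led Lsl_et (LP (LK LD1_c0 LD2_c22 LD3_c18)) = (LP (LK LD1_c0 LD2_c49 LD3_c41)) :=
  Lre_e IH (LK LD1_c0 LD2_c22 LD3_c18) (LK LD1_c0 LD2_c49 LD3_c41) Lrfl Lrfl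
theorem f9978 : Led Lsl_dt (LP (LK LD1_c0 LD2_c10 LD3_c1)) = (LP (LK LD1_c0 LD2_c22 LD3_c18)) :=
  Lre_d IH (LK LD1_c0 LD2_c10 LD3_c1) (LK LD1_c0 LD2_c22 LD3_c18) Lrfl Lrfl
theorem f10341 : Led Lsl_et (LP (LK LD1_c0 LD2_c9 LD3_c52)) = (LP (LK LD1_c0 LD2_c10 LD3_c1)) :=
  Lgr Lrot71 (Lpe (f9974 IH) (Lpe (f10340 IH) (Lpr_df (f10331 IH) (Lpe (f10105 IH) (Lpe (f9978 IH) (Lpn (LP (LK LD1_c0 LD2_c10 LD3_c1))))))))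
theorem f11489 : Led Lsl_et (LP (LK LD1_c0 LD2_c9 LD3_c42)) = (LP (LK LD1_c0 LD2_c4 LD3_c34)) :=
  Lre_e IH (LK LD1_c0 LD2_c9 LD3_c42) (LK LD1_c0 LD2_c4 LD3_c34) Lrfl Lrfl
theorem f11490 : Led Lsl_dt (LP (LK LD1_c0 LD2_c9 LD3_c42)) = (LP (LK LD1_c0 LD2_c21 LD3_c28)) :=
  Lre_d IH (LK LD1_c0 LD2_c9 LD3_c42) (LK LD1_c0 LD2_c21 LD3_c28) Lrfl Lrfl
theorem f11491 : Led Lsl_gf (LP (LK LD1_c0 LD2_c21 LD3_c54)) = (LP (LK LD1_c0 LD2_c21 LD3_c28)) :=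
  Lgr Lrot145 (Lpe (f9967 IH) (Lpr_et (f10341 IH) (Lpe (f11476 IH) (Lpr_dt (f9866 IH) (Lpr_gt (f11472 IH) (Lpe (f9984 IH) (Lpr_et (f10753 IH) (Lpr_gt (f10012 IH) (Lpe (f11489 IH) (Lpr_dt (f11490 IH) (Lpn (LP (LK LD1_c0 LD2_c21 LD3_c28)))))))))))))
theorem f9871 : Led Lsl_et (LP (LK LD1_c0 LD2_c4 LD3_c28)) = (LP (LK LD1_c0 LD2_c9 LD3_c31)) :=
  Lre_e IH (LK LD1_c0 LD2_c4 LD3_c28) (LK LD1_c0 LD2_c9 LD3_c31) Lrfl Lrfl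
theorem f9973 : Led Lsl_ct (LP (LK LD1_c0 LD2_c9 LD3_c52)) = (LP (LK LD1_c0 LD2_c4 LD3_c40)) :=
  Lre_c IH (LK LD1_c0 LD2_c9 LD3_c52) (LK LD1_c0 LD2_c4 LD3_c40) Lrfl Lrfl
theorem f10996 : Led Lsl_gf (LP (LK LD1_c0 LD2_c4 LD3_c33)) = (LP (LK LD1_c0 LD2_c2 LD3_c9)) :=
  Lgr Lrot138 (Lpr_dt (f7392 IH) (Lpe (f10989 IH) (Lpr_df (f9969 IH) (Lpr_et (f10046 IH) (Lpr_gt (f10066 IH) (Lpe (f5867 IH) (Lpr_dt (f5848 IH) (Lpr_gt (f6718 IH) (Lpqs (f7275 IH) (Lpe (f355 IH) (Lpr_et (f5861 IH) (Lpn (LP (LK LD1_c0 LD2_c2 LD3_c9))))))))))))))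
theorem f9944 : Led Lsl_ct (LP (LK LD1_c0 LD2_c2 LD3_c9)) = (LP (LK LD1_c0 LD2_c4 LD3_c43)) :=
  Lre_c IH (LK LD1_c0 LD2_c2 LD3_c9) (LK LD1_c0 LD2_c4 LD3_c43) Lrfl Lrfl
theorem f11497 : Led Lsl_gt (LP (LK LD1_c0 LD2_c4 LD3_c43)) = (LP (LK LD1_c0 LD2_c9 LD3_c42)) :=
  Lgr Lrot94 (Lpe (f9944 IH) (Lpe (f10996 IH) (Lpr_dt (f7392 IH) (Lpe (f10989 IH) (Lpr_dt (f9954 IH) (Lpe (f9973 IH) (Lpe (f9974 IH) (Lpr_gf (f11491 IH) (Lpe (f11490 IH) (Lpn (LP (LK LD1_c0 LD2_c9 LD3_c42))))))))))))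
theorem f10754 : Led Lsl_et (LP (LK LD1_c0 LD2_c2 LD3_c8)) = (LP (LK LD1_c0 LD2_c4 LD3_c43)) :=
  Lre_e IH (LK LD1_c0 LD2_c2 LD3_c8) (LK LD1_c0 LD2_c4 LD3_c43) Lrfl Lrfl
theorem f11507 : Led Lsl_gt (LP (LK LD1_c0 LD2_c5 LD3_c1)) = (LP (LK LD1_c0 LD2_c4 LD3_c42)) :=
  Lgr Lrot112 (Lpr_df (f9885 IH) (Lpr_et (f9871 IH) (Lpr_gf (f11476 IH) (Lpe (f10341 IH) (Lpr_dt (f9967 IH) (Lpr_gf (f11491 IH) (Lpe (f11490 IH) (Lpe (f11497 IH) (Lpe (f10754 IH) (Lpr_dt (f360 IH) (Lpn (LP (LK LD1_c0 LD2_c4 LD3_c42)))))))))))))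
theorem f5892 : Led Lsl_cf (LP (LK LD1_c0 LD2_c4 LD3_c42)) = (LP (LK LD1_c0 LD2_c4 LD3_c36)) :=
  Lgr Lrot11 (Lpr_ct (f5881 IH) (Lpn (LP (LK LD1_c0 LD2_c4 LD3_c36))))
theorem f10184 : Led Lsl_af (LP (LK LD1_c0 LD2_c4 LD3_c42)) = (LP (LK LD1_c0 LD2_c4 LD3_c42)) :=
  Lgr Lrot68 (Lpr_ct (f5881 IH) (Lpr_at (f10175 IH) (Lpe (f5892 IH) (Lpn (LP (LK LD1_c0 LD2_c4 LD3_c42))))))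
theorem f10188 : Led Lsl_ft (LP (LK LD1_c0 LD2_c4 LD3_c36)) = (LP (LK LD1_c0 LD2_c4 LD3_c42)) :=
  Lgr Lrot101 (Lpe (f10175 IH) (Lpr_ff (f10186 IH) (Lpr_af (f10184 IH) (Lpn (LP (LK LD1_c0 LD2_c4 LD3_c42))))))
theorem f11509 : Led Lsl_gf (LP (LK LD1_c0 LD2_c5 LD3_c1)) = (LP (LK LD1_c0 LD2_c4 LD3_c36)) :=
  Lgr Lrot47 (Lpr_gt (f11507 IH) (Lpr_af (f10184 IH) (Lpe (f10188 IH) (Lpn (LP (LK LD1_c0 LD2_c4 LD3_c36))))))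
theorem f346 : Led Lsl_ct (LP (LK LD1_c0 LD2_c0 LD3_c20)) = (LP (LK LD1_c0 LD2_c0 LD3_c59)) :=
  Lre_c IH (LK LD1_c0 LD2_c0 LD3_c20) (LK LD1_c0 LD2_c0 LD3_c59) Lrfl Lrfl
theorem f11512 : Led Lsl_gt (LP (LK LD1_c0 LD2_c4 LD3_c28)) = (LP (LK LD1_c0 LD2_c2 LD3_c11)) :=
  Lgr Lrot146 (Lpe (f9885 IH) (Lpr_gt (f11507 IH) (Lpr_ct (f5881 IH) (Lpe (f11509 IH) (Lpr_ct (f3881 IH) (Lpr_dt (f3880 IH) (Lpe (f346 IH) (Lpe (f123 IH) (Lpe (f3900 IH) (Lpn (LP (LK LD1_c0 LD2_c2 LD3_c11))))))))))))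
theorem f9986 : Led Lsl_ft (LP (LK LD1_c0 LD2_c10 LD3_c0)) = (LP (LK LD1_c0 LD2_c22 LD3_c18)) :=
  Lre_f IH (LK LD1_c0 LD2_c10 LD3_c0) (LK LD1_c0 LD2_c22 LD3_c18) Lrfl Lrfl
theorem f10099 : Led Lsl_af (LP (LK LD1_c0 LD2_c22 LD3_c18)) = (LP (LK LD1_c0 LD2_c22 LD3_c18)) :=
  Lgr Lrot45 (Lpr_ft (f9972 IH) (Lpr_at (f10084 IH) (Lpr_ft (f9986 IH) (Lpn (LP (LK LD1_c0 LD2_c22 LD3_c18))))))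
theorem f10103 : Led Lsl_at (LP (LK LD1_c0 LD2_c10 LD3_c1)) = (LP (LK LD1_c0 LD2_c10 LD3_c1)) :=
  Lgr Lrot51 (Lpe (f9965 IH) (Lpr_af (f10099 IH) (Lpe (f9978 IH) (Lpn (LP (LK LD1_c0 LD2_c10 LD3_c1))))))
theorem f9975 : Led Lsl_bt (LP (LK LD1_c0 LD2_c9 LD3_c52)) = (LP (LK LD1_c0 LD2_c21 LD3_c45)) :=
  Lre_b IH (LK LD1_c0 LD2_c9 LD3_c52) (LK LD1_c0 LD2_c21 LD3_c45) Lrfl Lrfl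
theorem f10111 : Led Lsl_bt (LP (LK LD1_c0 LD2_c22 LD3_c12)) = (LP (LK LD1_c0 LD2_c10 LD3_c1)) :=
  Lre_b IH (LK LD1_c0 LD2_c22 LD3_c12) (LK LD1_c0 LD2_c10 LD3_c1) Lrfl Lrfl
theorem f10310 : Led Lsl_ef (LP (LK LD1_c0 LD2_c9 LD3_c52)) = (LP (LK LD1_c0 LD2_c10 LD3_c1)) :=
  Lgr Lrot29 (Lpr_bt (f9975 IH) (Lpr_et (f10292 IH) (Lpr_bt (f10111 IH) (Lpn (LP (LK LD1_c0 LD2_c10 LD3_c1))))))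
theorem f10343 : Led Lsl_af (LP (LK LD1_c0 LD2_c9 LD3_c52)) = (LP (LK LD1_c0 LD2_c9 LD3_c52)) :=
  Lgr Lrot50 (Lpr_et (f10341 IH) (Lpr_at (f10103 IH) (Lpe (f10310 IH) (Lpn (LP (LK LD1_c0 LD2_c9 LD3_c52))))))
theorem f10367 : Led Lsl_at (LP (LK LD1_c0 LD2_c21 LD3_c54)) = (LP (LK LD1_c0 LD2_c21 LD3_c54)) :=
  Lgr Lrot51 (Lpe (f9967 IH) (Lpr_af (f10343 IH) (Lpe (f9974 IH) (Lpn (LP (LK LD1_c0 LD2_c21 LD3_c54))))))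
theorem f9956 : Led Lsl_ft (LP (LK LD1_c0 LD2_c9 LD3_c51)) = (LP (LK LD1_c0 LD2_c21 LD3_c54)) :=
  Lre_f IH (LK LD1_c0 LD2_c9 LD3_c51) (LK LD1_c0 LD2_c21 LD3_c54) Lrfl Lrfl
theorem f9980 : Led Lsl_ft (LP (LK LD1_c0 LD2_c21 LD3_c54)) = (LP (LK LD1_c0 LD2_c9 LD3_c51)) :=
  Lre_f IH (LK LD1_c0 LD2_c21 LD3_c54) (LK LD1_c0 LD2_c9 LD3_c51) Lrfl Lrfl
theorem f10381 : Led Lsl_af (LP (LK LD1_c0 LD2_c9 LD3_c51)) = (LP (LK LD1_c0 LD2_c9 LD3_c51)) :=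
  Lgr Lrot45 (Lpr_ft (f9956 IH) (Lpr_at (f10367 IH) (Lpr_ft (f9980 IH) (Lpn (LP (LK LD1_c0 LD2_c9 LD3_c51))))))
theorem f11474 : Led Lsl_gf (LP (LK LD1_c0 LD2_c20 LD3_c61)) = (LP (LK LD1_c0 LD2_c21 LD3_c54)) :=
  Lgr Lrot47 (Lpr_gt (f11472 IH) (Lpr_af (f10381 IH) (Lpe (f9980 IH) (Lpn (LP (LK LD1_c0 LD2_c21 LD3_c54))))))
theorem f11471 : Led Lsl_et (LP (LK LD1_c0 LD2_c4 LD3_c34)) = (LP (LK LD1_c0 LD2_c9 LD3_c42)) :=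
  Lre_e IH (LK LD1_c0 LD2_c4 LD3_c34) (LK LD1_c0 LD2_c9 LD3_c42) Lrfl Lrfl
theorem f11887 : Led Lsl_gf (LP (LK LD1_c0 LD2_c10 LD3_c1)) = (LP (LK LD1_c0 LD2_c9 LD3_c42)) :=
  Lgr Lrot141 (Lpe (f10341 IH) (Lpr_dt (f9967 IH) (Lpe (f11474 IH) (Lpe (f9866 IH) (Lpr_et (f9870 IH) (Lpr_gt (f11512 IH) (Lpr_dt (f3928 IH) (Lpr_gt (f11427 IH) (Lpe (f11460 IH) (Lpr_et (f11471 IH) (Lpn (LP (LK LD1_c0 LD2_c9 LD3_c42)))))))))))))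
theorem f9793 : Led Lsl_et (LP (LK LD1_c0 LD2_c20 LD3_c42)) = (LP (LK LD1_c0 LD2_c46 LD3_c6)) :=
  Lre_e IH (LK LD1_c0 LD2_c20 LD3_c42) (LK LD1_c0 LD2_c46 LD3_c6) Lrfl Lrfl
theorem f9794 : Led Lsl_et (LP (LK LD1_c0 LD2_c46 LD3_c6)) = (LP (LK LD1_c0 LD2_c20 LD3_c42)) :=
  Lre_e IH (LK LD1_c0 LD2_c46 LD3_c6) (LK LD1_c0 LD2_c20 LD3_c42) Lrfl Lrfl
theorem f9795 : Led Lsl_bt (LP (LK LD1_c0 LD2_c46 LD3_c6)) = (LP (LK LD1_c0 LD2_c46 LD3_c6)) :=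
  Lgr Lrot119 (Lpe (f9793 IH) (Lpr_bf (f9781 IH) (Lpe (f9794 IH) (Lpn (LP (LK LD1_c0 LD2_c46 LD3_c6))))))
theorem f9814 : Led Lsl_at (LP (LK LD1_c0 LD2_c20 LD3_c57)) = (LP (LK LD1_c0 LD2_c46 LD3_c6)) :=
  Lre_a IH (LK LD1_c0 LD2_c20 LD3_c57) (LK LD1_c0 LD2_c46 LD3_c6) Lrfl Lrfl
theorem f9815 : Led Lsl_bt (LP (LK LD1_c0 LD2_c9 LD3_c31)) = (LP (LK LD1_c0 LD2_c20 LD3_c57)) :=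
  Lre_b IH (LK LD1_c0 LD2_c9 LD3_c31) (LK LD1_c0 LD2_c20 LD3_c57) Lrfl Lrfl
theorem f9816 : Led Lsl_at (LP (LK LD1_c0 LD2_c46 LD3_c6)) = (LP (LK LD1_c0 LD2_c20 LD3_c57)) :=
  Lre_a IH (LK LD1_c0 LD2_c46 LD3_c6) (LK LD1_c0 LD2_c20 LD3_c57) Lrfl Lrfl
theorem f9817 : Led Lsl_bt (LP (LK LD1_c0 LD2_c20 LD3_c57)) = (LP (LK LD1_c0 LD2_c9 LD3_c31)) :=
  Lre_b IH (LK LD1_c0 LD2_c20 LD3_c57) (LK LD1_c0 LD2_c9 LD3_c31) Lrfl Lrfl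
theorem f9818 : Led Lsl_af (LP (LK LD1_c0 LD2_c9 LD3_c31)) = (LP (LK LD1_c0 LD2_c9 LD3_c31)) :=
  Lgr Lrot36 (Lpr_bt (f9815 IH) (Lpr_at (f9814 IH) (Lpr_bt (f9795 IH) (Lpr_at (f9816 IH) (Lpr_bt (f9817 IH) (Lpn (LP (LK LD1_c0 LD2_c9 LD3_c31))))))))
theorem f11891 : Led Lsl_ff (LP (LK LD1_c0 LD2_c9 LD3_c31)) = (LP (LK LD1_c0 LD2_c9 LD3_c42)) :=
  Lgr Lrot52 (Lpe (f9818 IH) (Lpr_gf (f11476 IH) (Lpr_gf (f11887 IH) (Lpn (LP (LK LD1_c0 LD2_c9 LD3_c42))))))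
theorem f11917 : Led Lsl_ft (LP (LK LD1_c0 LD2_c9 LD3_c31)) = (LP (LK LD1_c0 LD2_c9 LD3_c42)) :=
  Lgr Lrot48 (Lpr_ff (f11891 IH) (Lpn (LP (LK LD1_c0 LD2_c9 LD3_c42))))
theorem f11919 : Led Lsl_af (LP (LK LD1_c0 LD2_c9 LD3_c42)) = (LP (LK LD1_c0 LD2_c9 LD3_c42)) :=
  Lgr Lrot45 (Lpe (f11891 IH) (Lpe (f9818 IH) (Lpr_ft (f11917 IH) (Lpn (LP (LK LD1_c0 LD2_c9 LD3_c42))))))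
theorem f11929 : Led Lsl_gt (LP (LK LD1_c0 LD2_c9 LD3_c31)) = (LP (LK LD1_c0 LD2_c4 LD3_c43)) :=
  Lgr Lrot5 (Lpr_ft (f11917 IH) (Lpe (f11919 IH) (Lpe (f11497 IH) (Lpn (LP (LK LD1_c0 LD2_c4 LD3_c43))))))
theorem f5878 : Led Lsl_dt (LP (LK LD1_c0 LD2_c2 LD3_c6)) = (LP (LK LD1_c0 LD2_c4 LD3_c36)) :=
  Lre_d IH (LK LD1_c0 LD2_c2 LD3_c6) (LK LD1_c0 LD2_c4 LD3_c36) Lrfl Lrfl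
theorem f11038 : Led Lsl_et (LP (LK LD1_c0 LD2_c2 LD3_c2)) = (LP (LK LD1_c0 LD2_c4 LD3_c17)) :=
  Lre_e IH (LK LD1_c0 LD2_c2 LD3_c2) (LK LD1_c0 LD2_c4 LD3_c17) Lrfl Lrfl
theorem f11937 : Led Lsl_gf (LP (LK LD1_c0 LD2_c4 LD3_c27)) = (LP (LK LD1_c0 LD2_c4 LD3_c42)) :=
  Lgr Lrot145 (Lpe (f9874 IH) (Lpr_et (f11038 IH) (Lpr_gt (f11028 IH) (Lpr_dt (f5878 IH) (Lpe (f11509 IH) (Lpr_df (f9885 IH) (Lpr_et (f9871 IH) (Lpr_gt (f11929 IH) (Lpe (f10754 IH) (Lpr_dt (f360 IH) (Lpn (LP (LK LD1_c0 LD2_c4 LD3_c42)))))))))))))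
theorem f441 : Led Lsl_dt (LP (LK LD1_c0 LD2_c4 LD3_c27)) = (LP (LK LD1_c0 LD2_c2 LD3_c2)) :=
  Lre_d IH (LK LD1_c0 LD2_c4 LD3_c27) (LK LD1_c0 LD2_c2 LD3_c2) Lrfl Lrfl
theorem f3820 : Led Lsl_gt (LP (LK LD1_c0 LD2_c0 LD3_c48)) = (LP (LK LD1_c0 LD2_c0 LD3_c15)) :=
  Lre_g IH (LK LD1_c0 LD2_c0 LD3_c48) (LK LD1_c0 LD2_c0 LD3_c15) Lrfl Lrfl
theorem f3827 : Led Lsl_dt (LP (LK LD1_c0 LD2_c1 LD3_c61)) = (LP (LK LD1_c0 LD2_c0 LD3_c48)) :=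
  Lre_d IH (LK LD1_c0 LD2_c1 LD3_c61) (LK LD1_c0 LD2_c0 LD3_c48) Lrfl Lrfl
theorem f11462 : Led Lsl_gf (LP (LK LD1_c0 LD2_c2 LD3_c8)) = (LP (LK LD1_c0 LD2_c4 LD3_c34)) :=
  Lgr Lrot147 (Lpr_ct (f356 IH) (Lpe (f9926 IH) (Lpr_ct (f187 IH) (Lpe (f110 IH) (Lpe (f111 IH) (Lpe (f11427 IH) (Lpe (f3919 IH) (Lpr_gf (f11429 IH) (Lpe (f11460 IH) (Lpn (LP (LK LD1_c0 LD2_c4 LD3_c34))))))))))))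
theorem f176 : Led Lsl_dt (LP (LK LD1_c0 LD2_c1 LD3_c58)) = (LP (LK LD1_c0 LD2_c4 LD3_c18)) :=
  Lre_d IH (LK LD1_c0 LD2_c1 LD3_c58) (LK LD1_c0 LD2_c4 LD3_c18) Lrfl Lrfl
theorem f11004 : Led Lsl_cf (LP (LK LD1_c0 LD2_c4 LD3_c18)) = (LP (LK LD1_c0 LD2_c4 LD3_c34)) :=
  Lgr Lrot99 (Lpe (f176 IH) (Lpe (f163 IH) (Lpr_gf (f10998 IH) (Lpr_cf (f3929 IH) (Lpe (f121 IH) (Lpe (f108 IH) (Lpe (f10010 IH) (Lpr_ct (f5877 IH) (Lpr_gt (f10012 IH) (Lpn (LP (LK LD1_c0 LD2_c4 LD3_c34))))))))))))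
theorem f11945 : Led Lsl_gf (LP (LK LD1_c0 LD2_c1 LD3_c61)) = (LP (LK LD1_c0 LD2_c4 LD3_c18)) :=
  Lgr Lrot148 (Lpr_dt (f3827 IH) (Lpr_gt (f3820 IH) (Lpr_dt (f58 IH) (Lpr_ct (f140 IH) (Lpe (f441 IH) (Lpr_gf (f11937 IH) (Lpe (f360 IH) (Lpr_gf (f11462 IH) (Lpe (f11004 IH) (Lpn (LP (LK LD1_c0 LD2_c4 LD3_c18))))))))))))
theorem f3830 : Led Lsl_ct (LP (LK LD1_c0 LD2_c1 LD3_c61)) = (LP (LK LD1_c0 LD2_c4 LD3_c22)) :=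
  Lre_c IH (LK LD1_c0 LD2_c1 LD3_c61) (LK LD1_c0 LD2_c4 LD3_c22) Lrfl Lrfl
theorem f324 : Led Lsl_bf (LP (LK LD1_c0 LD2_c0 LD3_c51)) = (LP (LK LD1_c0 LD2_c0 LD3_c51)) :=
  Lgr Lrot96 (Lpr_et (f323 IH) (Lpqs (f318 IH) (Lpe (f313 IH) (Lpr_et (f322 IH) (Lpn (LP (LK LD1_c0 LD2_c0 LD3_c51)))))))
theorem f5829 : Led Lsl_bt (LP (LK LD1_c0 LD2_c0 LD3_c52)) = (LP (LK LD1_c0 LD2_c0 LD3_c52)) :=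
  Lgr Lrot35 (Lpe (f3903 IH) (Lpr_bf (f324 IH) (Lpr_ff (f3915 IH) (Lpn (LP (LK LD1_c0 LD2_c0 LD3_c52))))))
theorem f103 : Led Lsl_bt (LP (LK LD1_c0 LD2_c0 LD3_c46)) = (LP (LK LD1_c0 LD2_c1 LD3_c50)) :=
  Lre_b IH (LK LD1_c0 LD2_c0 LD3_c46) (LK LD1_c0 LD2_c1 LD3_c50) Lrfl Lrfl
theorem f11013 : Led Lsl_gt (LP (LK LD1_c0 LD2_c1 LD3_c58)) = (LP (LK LD1_c0 LD2_c1 LD3_c55)) :=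
  Lgr Lrot149 (Lpe (f163 IH) (Lpr_gf (f10998 IH) (Lpe (f5829 IH) (Lpe (f3929 IH) (Lpe (f121 IH) (Lpr_cf (f106 IH) (Lpr_bt (f103 IH) (Lpe (f9642 IH) (Lpe (f3841 IH) (Lpe (f3813 IH) (Lpn (LP (LK LD1_c0 LD2_c1 LD3_c55)))))))))))))
theorem f3957 : Led Lsl_gt (LP (LK LD1_c0 LD2_c1 LD3_c55)) = (LP (LK LD1_c0 LD2_c0 LD3_c46)) :=
  Lgr Lrot131 (Lpe (f3811 IH) (Lpr_dt (f3951 IH) (Lpq (f3808 IH) (Lpe (f48 IH) (Lpe (f47 IH) (Lpr_gf (f46 IH) (Lpq (f68 IH) (Lpr_ef (f142 IH) (Lpr_dt (f49 IH) (Lpq (f68 IH) (Lpe (f45 IH) (Lpe (f21 IH) (Lpr_et (f55 IH) (Lpn (LP (LK LD1_c0 LD2_c0 LD3_c46))))))))))))))))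
theorem f12075 : Led Lsl_gt (LP (LK LD1_c0 LD2_c4 LD3_c22)) = (LP (LK LD1_c0 LD2_c2 LD3_c4)) :=
  Lgr Lrot150 (Lpe (f3830 IH) (Lpr_gf (f11945 IH) (Lpe (f176 IH) (Lpr_gt (f11013 IH) (Lpe (f3813 IH) (Lpr_gt (f3957 IH) (Lpe (f106 IH) (Lpe (f108 IH) (Lpe (f109 IH) (Lpn (LP (LK LD1_c0 LD2_c2 LD3_c4))))))))))))
theorem f5851 : Led Lsl_ct (LP (LK LD1_c0 LD2_c2 LD3_c16)) = (LP (LK LD1_c0 LD2_c5 LD3_c1)) :=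
  Lre_c IH (LK LD1_c0 LD2_c2 LD3_c16) (LK LD1_c0 LD2_c5 LD3_c1) Lrfl Lrfl
theorem f11021 : Led Lsl_gt (LP (LK LD1_c0 LD2_c5 LD3_c0)) = (LP (LK LD1_c0 LD2_c2 LD3_c16)) :=
  Lre_g IH (LK LD1_c0 LD2_c5 LD3_c0) (LK LD1_c0 LD2_c2 LD3_c16) Lrfl Lrfl
theorem f12114 : Led Lsl_dt (LP (LK LD1_c0 LD2_c4 LD3_c22)) = (LP (LK LD1_c0 LD2_c5 LD3_c0)) :=
  Lgr Lrot6 (Lpr_gt (f12075 IH) (Lpr_ct (f109 IH) (Lpe (f10010 IH) (Lpr_ct (f5877 IH) (Lpe (f5880 IH) (Lpe (f5881 IH) (Lpe (f11507 IH) (Lpe (f5851 IH) (Lpe (f11021 IH) (Lpn (LP (LK LD1_c0 LD2_c5 LD3_c0))))))))))))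
theorem f11511 : Led Lsl_gt (LP (LK LD1_c0 LD2_c2 LD3_c16)) = (LP (LK LD1_c0 LD2_c4 LD3_c61)) :=
  Lre_g IH (LK LD1_c0 LD2_c2 LD3_c16) (LK LD1_c0 LD2_c4 LD3_c61) Lrfl Lrfl
theorem f12149 : Led Lsl_ct (LP (LK LD1_c0 LD2_c4 LD3_c61)) = (LP (LK LD1_c0 LD2_c5 LD3_c0)) :=
  Lgr Lrot151 (Lpe (f11511 IH) (Lpe (f3881 IH) (Lpr_gf (f11509 IH) (Lpr_dt (f5880 IH) (Lpr_gt (f10012 IH) (Lpe (f11004 IH) (Lpe (f11945 IH) (Lpr_ct (f3830 IH) (Lpr_dt (f12114 IH) (Lpn (LP (LK LD1_c0 LD2_c5 LD3_c0))))))))))))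
theorem f344 : Led Lsl_gt (LP (LK LD1_c0 LD2_c0 LD3_c59)) = (LP (LK LD1_c0 LD2_c2 LD3_c13)) :=
  Lre_g IH (LK LD1_c0 LD2_c0 LD3_c59) (LK LD1_c0 LD2_c2 LD3_c13) Lrfl Lrfl
theorem f59 : Led Lsl_gt (LP (LK LD1_c0 LD2_c0 LD3_c49)) = (LP (LK LD1_c0 LD2_c2 LD3_c0)) :=
  Lre_g IH (LK LD1_c0 LD2_c0 LD3_c49) (LK LD1_c0 LD2_c2 LD3_c0) Lrfl Lrfl
theorem f3815 : Led Lsl_dt (LP (LK LD1_c0 LD2_c1 LD3_c55)) = (LP (LK LD1_c0 LD2_c2 LD3_c0)) :=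
  Lgr Lrot37 (Lpr_et (f3812 IH) (Lpqs (f3808 IH) (Lpe (f3805 IH) (Lpr_dt (f21 IH) (Lpr_gt (f45 IH) (Lpqs (f68 IH) (Lpe (f49 IH) (Lpe (f142 IH) (Lpqs (f68 IH) (Lpe (f46 IH) (Lpe (f57 IH) (Lpr_dt (f58 IH) (Lpr_gt (f59 IH) (Lpn (LP (LK LD1_c0 LD2_c2 LD3_c0))))))))))))))))
theorem f3818 : Led Lsl_df (LP (LK LD1_c0 LD2_c1 LD3_c55)) = (LP (LK LD1_c0 LD2_c2 LD3_c0)) :=
  Lgr Lrot38 (Lpr_dt (f3815 IH) (Lpn (LP (LK LD1_c0 LD2_c2 LD3_c0))))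
theorem f11874 : Led Lsl_gf (LP (LK LD1_c0 LD2_c2 LD3_c3)) = (LP (LK LD1_c0 LD2_c2 LD3_c0)) :=
  Lgr Lrot147 (Lpr_ct (f3876 IH) (Lpr_gt (f11512 IH) (Lpr_ct (f3900 IH) (Lpe (f122 IH) (Lpr_cf (f3929 IH) (Lpe (f121 IH) (Lpr_cf (f106 IH) (Lpe (f3957 IH) (Lpr_df (f3818 IH) (Lpn (LP (LK LD1_c0 LD2_c2 LD3_c0))))))))))))
theorem f12189 : Led Lsl_ct (LP (LK LD1_c0 LD2_c2 LD3_c13)) = (LP (LK LD1_c0 LD2_c2 LD3_c0)) :=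
  Lgr Lrot152 (Lpe (f344 IH) (Lpe (f3880 IH) (Lpr_gt (f11511 IH) (Lpr_ct (f12149 IH) (Lpr_gt (f11021 IH) (Lpr_ct (f5851 IH) (Lpr_df (f9885 IH) (Lpe (f3876 IH) (Lpr_gf (f11874 IH) (Lpn (LP (LK LD1_c0 LD2_c2 LD3_c0))))))))))))
theorem f345 : Led Lsl_dt (LP (LK LD1_c0 LD2_c2 LD3_c13)) = (LP (LK LD1_c0 LD2_c4 LD3_c52)) :=
  Lre_d IH (LK LD1_c0 LD2_c2 LD3_c13) (LK LD1_c0 LD2_c4 LD3_c52) Lrfl Lrfl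
theorem f3943 : Led Lsl_gt (LP (LK LD1_c0 LD2_c4 LD3_c52)) = (LP (LK LD1_c0 LD2_c4 LD3_c31)) :=
  Lgr Lrot49 (Lpe (f345 IH) (Lpe (f344 IH) (Lpe (f346 IH) (Lpr_gt (f315 IH) (Lpe (f332 IH) (Lpr_gt (f3941 IH) (Lpr_dt (f186 IH) (Lpe (f109 IH) (Lpe (f110 IH) (Lpn (LP (LK LD1_c0 LD2_c4 LD3_c31))))))))))))
theorem f11464 : Led Lsl_gf (LP (LK LD1_c0 LD2_c2 LD3_c17)) = (LP (LK LD1_c0 LD2_c2 LD3_c13)) :=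
  Lgr Lrot147 (Lpr_ct (f6731 IH) (Lpe (f9922 IH) (Lpr_ct (f3912 IH) (Lpe (f3918 IH) (Lpe (f3919 IH) (Lpr_gf (f11429 IH) (Lpe (f189 IH) (Lpe (f3943 IH) (Lpe (f345 IH) (Lpn (LP (LK LD1_c0 LD2_c2 LD3_c13))))))))))))
theorem f437 : Led Lsl_dt (LP (LK LD1_c0 LD2_c2 LD3_c17)) = (LP (LK LD1_c0 LD2_c5 LD3_c3)) :=
  Lre_d IH (LK LD1_c0 LD2_c2 LD3_c17) (LK LD1_c0 LD2_c5 LD3_c3) Lrfl Lrfl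
theorem f9891 : Led Lsl_ft (LP (LK LD1_c0 LD2_c5 LD3_c3)) = (LP (LK LD1_c0 LD2_c2 LD3_c16)) :=
  Lre_f IH (LK LD1_c0 LD2_c5 LD3_c3) (LK LD1_c0 LD2_c2 LD3_c16) Lrfl Lrfl
theorem f11259 : Led Lsl_gf (LP (LK LD1_c0 LD2_c5 LD3_c0)) = (LP (LK LD1_c0 LD2_c5 LD3_c3)) :=
  Lgr Lrot47 (Lpr_gt (f11021 IH) (Lpr_af (f11231 IH) (Lpe (f9891 IH) (Lpn (LP (LK LD1_c0 LD2_c5 LD3_c3))))))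
theorem f11941 : Led Lsl_gt (LP (LK LD1_c0 LD2_c4 LD3_c27)) = (LP (LK LD1_c0 LD2_c4 LD3_c36)) :=
  Lgr Lrot46 (Lpr_gf (f11937 IH) (Lpe (f10186 IH) (Lpr_at (f10175 IH) (Lpn (LP (LK LD1_c0 LD2_c4 LD3_c36))))))
theorem f9883 : Led Lsl_cf (LP (LK LD1_c0 LD2_c4 LD3_c27)) = (LP (LK LD1_c0 LD2_c5 LD3_c3)) :=
  Lgr Lrot11 (Lpr_ct (f9875 IH) (Lpn (LP (LK LD1_c0 LD2_c5 LD3_c3))))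
theorem f12112 : Led Lsl_df (LP (LK LD1_c0 LD2_c4 LD3_c22)) = (LP (LK LD1_c0 LD2_c5 LD3_c0)) :=
  Lgr Lrot153 (Lpr_gt (f12075 IH) (Lpr_dt (f188 IH) (Lpe (f111 IH) (Lpe (f11460 IH) (Lpe (f10012 IH) (Lpe (f5880 IH) (Lpe (f11941 IH) (Lpr_cf (f9883 IH) (Lpe (f11259 IH) (Lpn (LP (LK LD1_c0 LD2_c5 LD3_c0))))))))))))
theorem f3829 : Led Lsl_dt (LP (LK LD1_c0 LD2_c0 LD3_c48)) = (LP (LK LD1_c0 LD2_c1 LD3_c61)) :=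
  Lre_d IH (LK LD1_c0 LD2_c0 LD3_c48) (LK LD1_c0 LD2_c1 LD3_c61) Lrfl Lrfl
theorem f5863 : Led Lsl_dt (LP (LK LD1_c0 LD2_c2 LD3_c3)) = (LP (LK LD1_c0 LD2_c0 LD3_c50)) :=
  Lre_d IH (LK LD1_c0 LD2_c2 LD3_c3) (LK LD1_c0 LD2_c0 LD3_c50) Lrfl Lrfl
theorem f12337 : Led Lsl_gf (LP (LK LD1_c0 LD2_c0 LD3_c48)) = (LP (LK LD1_c0 LD2_c0 LD3_c50)) :=
  Lgr Lrot154 (Lpr_dt (f3829 IH) (Lpr_ct (f3830 IH) (Lpr_df (f12112 IH) (Lpr_gf (f11259 IH) (Lpe (f437 IH) (Lpr_gf (f11464 IH) (Lpr_ct (f12189 IH) (Lpe (f11874 IH) (Lpr_dt (f5863 IH) (Lpn (LP (LK LD1_c0 LD2_c0 LD3_c50))))))))))))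
theorem f12611 : Led Lsl_gt (LP (LK LD1_c0 LD2_c1 LD3_c61)) = (LP (LK LD1_c0 LD2_c1 LD3_c57)) :=
  Lgr Lrot49 (Lpe (f3829 IH) (Lpr_gf (f12337 IH) (Lpe (f5866 IH) (Lpr_gt (f6718 IH) (Lpqs (f7275 IH) (Lpr_dt (f358 IH) (Lpe (f9926 IH) (Lpr_dt (f108 IH) (Lpr_cf (f106 IH) (Lpe (f129 IH) (Lpn (LP (LK LD1_c0 LD2_c1 LD3_c57)))))))))))))
theorem f307 : Led Lsl_et (LP (LK LD1_c0 LD2_c0 LD3_c3)) = (LP (LK LD1_c0 LD2_c0 LD3_c15)) :=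
  Lre_e IH (LK LD1_c0 LD2_c0 LD3_c3) (LK LD1_c0 LD2_c0 LD3_c15) Lrfl Lrfl
theorem f153 : Led Lsl_gt (LP (LK LD1_c0 LD2_c0 LD3_c15)) = (LP (LK LD1_c0 LD2_c0 LD3_c47)) :=
  Lre_g IH (LK LD1_c0 LD2_c0 LD3_c15) (LK LD1_c0 LD2_c0 LD3_c47) Lrfl Lrfl
theorem f12666 : Led Lsl_et (LP (LK LD1_c0 LD2_c0 LD3_c48)) = (LP (LK LD1_c0 LD2_c0 LD3_c47)) :=
  Lgr Lrot122 (Lpr_dt (f3829 IH) (Lpr_gt (f12611 IH) (Lpe (f112 IH) (Lpr_et (f89 IH) (Lpr_gt (f48 IH) (Lpr_dt (f3951 IH) (Lpe (f3805 IH) (Lpe (f47 IH) (Lpr_et (f307 IH) (Lpr_gt (f153 IH) (Lpn (LP (LK LD1_c0 LD2_c0 LD3_c47)))))))))))))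
theorem f12671 : Led Lsl_ef (LP (LK LD1_c0 LD2_c0 LD3_c48)) = (LP (LK LD1_c0 LD2_c0 LD3_c47)) :=
  Lgr Lrot88 (Lpr_et (f12666 IH) (Lpn (LP (LK LD1_c0 LD2_c0 LD3_c47))))
theorem f12617 : Led Lsl_et (LP (LK LD1_c0 LD2_c0 LD3_c50)) = (LP (LK LD1_c0 LD2_c0 LD3_c50)) :=
  Lgr Lrot121 (Lpr_dt (f3875 IH) (Lpr_gf (f11874 IH) (Lpe (f3815 IH) (Lpr_et (f3812 IH) (Lpe (f48 IH) (Lpe (f89 IH) (Lpr_dt (f112 IH) (Lpe (f12611 IH) (Lpe (f3829 IH) (Lpr_gf (f12337 IH) (Lpn (LP (LK LD1_c0 LD2_c0 LD3_c50)))))))))))))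
theorem f3807 : Led Lsl_dt (LP (LK LD1_c0 LD2_c0 LD3_c47)) = (LP (LK LD1_c0 LD2_c1 LD3_c60)) :=
  Lre_d IH (LK LD1_c0 LD2_c0 LD3_c47) (LK LD1_c0 LD2_c1 LD3_c60) Lrfl Lrfl
theorem f12681 : Led Lsl_gf (LP (LK LD1_c0 LD2_c4 LD3_c18)) = (LP (LK LD1_c0 LD2_c1 LD3_c60)) :=
  Lgr Lrot145 (Lpe (f176 IH) (Lpr_et (f7348 IH) (Lpr_gt (f11013 IH) (Lpr_dt (f3815 IH) (Lpe (f11874 IH) (Lpe (f3875 IH) (Lpr_et (f12617 IH) (Lpe (f12337 IH) (Lpr_ef (f12671 IH) (Lpr_dt (f3807 IH) (Lpn (LP (LK LD1_c0 LD2_c1 LD3_c60)))))))))))))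
theorem f168 : Led Lsl_dt (LP (LK LD1_c0 LD2_c4 LD3_c18)) = (LP (LK LD1_c0 LD2_c1 LD3_c58)) :=
  Lre_d IH (LK LD1_c0 LD2_c4 LD3_c18) (LK LD1_c0 LD2_c1 LD3_c58) Lrfl Lrfl
theorem f12335 : Led Lsl_cf (LP (LK LD1_c0 LD2_c2 LD3_c13)) = (LP (LK LD1_c0 LD2_c2 LD3_c0)) :=
  Lgr Lrot11 (Lpr_ct (f12189 IH) (Lpn (LP (LK LD1_c0 LD2_c2 LD3_c0))))
theorem f4455 : Led Lsl_dt (LP (LK LD1_c0 LD2_c4 LD3_c52)) = (LP (LK LD1_c0 LD2_c2 LD3_c13)) :=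
  Lre_d IH (LK LD1_c0 LD2_c4 LD3_c52) (LK LD1_c0 LD2_c2 LD3_c13) Lrfl Lrfl
theorem f180 : Led Lsl_ft (LP (LK LD1_c0 LD2_c9 LD3_c39)) = (LP (LK LD1_c0 LD2_c4 LD3_c31)) :=
  Lre_f IH (LK LD1_c0 LD2_c9 LD3_c39) (LK LD1_c0 LD2_c4 LD3_c31) Lrfl Lrfl
theorem f11403 : Led Lsl_gt (LP (LK LD1_c0 LD2_c9 LD3_c39)) = (LP (LK LD1_c0 LD2_c4 LD3_c52)) :=
  Lgr Lrot5 (Lpr_ft (f180 IH) (Lpr_at (f11391 IH) (Lpe (f3943 IH) (Lpn (LP (LK LD1_c0 LD2_c4 LD3_c52))))))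
theorem f12683 : Led Lsl_ct (LP (LK LD1_c0 LD2_c4 LD3_c20)) = (LP (LK LD1_c0 LD2_c1 LD3_c60)) :=
  Lre_c IH (LK LD1_c0 LD2_c4 LD3_c20) (LK LD1_c0 LD2_c1 LD3_c60) Lrfl Lrfl
theorem f12684 : Led Lsl_gf (LP (LK LD1_c0 LD2_c4 LD3_c32)) = (LP (LK LD1_c0 LD2_c4 LD3_c20)) :=
  Lgr Lrot144 (Lpr_dt (f167 IH) (Lpr_gt (f11403 IH) (Lpr_dt (f4455 IH) (Lpr_cf (f12335 IH) (Lpe (f3815 IH) (Lpe (f11013 IH) (Lpe (f168 IH) (Lpr_gf (f12681 IH) (Lpe (f12683 IH) (Lpn (LP (LK LD1_c0 LD2_c4 LD3_c20))))))))))))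
theorem f11064 : Led Lsl_ct (LP (LK LD1_c0 LD2_c9 LD3_c39)) = (LP (LK LD1_c0 LD2_c9 LD3_c13)) :=
  Lgr Lrot59 (Lpr_cf (f11050 IH) (Lpn (LP (LK LD1_c0 LD2_c9 LD3_c13))))
theorem f12699 : Led Lsl_dt (LP (LK LD1_c0 LD2_c4 LD3_c61)) = (LP (LK LD1_c0 LD2_c4 LD3_c20)) :=
  Lgr Lrot57 (Lpe (f11511 IH) (Lpe (f3881 IH) (Lpr_gt (f11507 IH) (Lpr_dt (f357 IH) (Lpe (f11022 IH) (Lpr_dt (f114 IH) (Lpe (f11064 IH) (Lpe (f167 IH) (Lpr_gf (f12684 IH) (Lpn (LP (LK LD1_c0 LD2_c4 LD3_c20))))))))))))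
theorem f12701 : Led Lsl_gf (LP (LK LD1_c0 LD2_c5 LD3_c3)) = (LP (LK LD1_c0 LD2_c4 LD3_c61)) :=
  Lgr Lrot147 (Lpe (f9883 IH) (Lpr_gt (f11941 IH) (Lpe (f5892 IH) (Lpe (f360 IH) (Lpe (f359 IH) (Lpe (f11017 IH) (Lpe (f171 IH) (Lpr_gf (f12684 IH) (Lpe (f12699 IH) (Lpn (LP (LK LD1_c0 LD2_c4 LD3_c61))))))))))))
theorem f12703 : Led Lsl_df (LP (LK LD1_c0 LD2_c4 LD3_c61)) = (LP (LK LD1_c0 LD2_c4 LD3_c20)) :=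
  Lgr Lrot155 (Lpe (f12701 IH) (Lpe (f9883 IH) (Lpr_gt (f11941 IH) (Lpe (f5892 IH) (Lpr_dt (f357 IH) (Lpe (f359 IH) (Lpe (f11017 IH) (Lpe (f171 IH) (Lpr_gf (f12684 IH) (Lpn (LP (LK LD1_c0 LD2_c4 LD3_c20))))))))))))
theorem f11394 : Led Lsl_ft (LP (LK LD1_c0 LD2_c4 LD3_c32)) = (LP (LK LD1_c0 LD2_c2 LD3_c4)) :=
  Lre_f IH (LK LD1_c0 LD2_c4 LD3_c32) (LK LD1_c0 LD2_c2 LD3_c4) Lrfl Lrfl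
theorem f12110 : Led Lsl_gf (LP (LK LD1_c0 LD2_c4 LD3_c22)) = (LP (LK LD1_c0 LD2_c4 LD3_c32)) :=
  Lgr Lrot47 (Lpr_gt (f12075 IH) (Lpr_af (f11277 IH) (Lpe (f11394 IH) (Lpn (LP (LK LD1_c0 LD2_c4 LD3_c32))))))
theorem f11081 : Led Lsl_at (LP (LK LD1_c0 LD2_c4 LD3_c32)) = (LP (LK LD1_c0 LD2_c4 LD3_c32)) :=
  Lgr Lrot107 (Lpe (f166 IH) (Lpr_af (f11073 IH) (Lpe (f171 IH) (Lpn (LP (LK LD1_c0 LD2_c4 LD3_c32))))))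
theorem f11393 : Led Lsl_ft (LP (LK LD1_c0 LD2_c2 LD3_c4)) = (LP (LK LD1_c0 LD2_c4 LD3_c32)) :=
  Lre_f IH (LK LD1_c0 LD2_c2 LD3_c4) (LK LD1_c0 LD2_c4 LD3_c32) Lrfl Lrfl
theorem f12697 : Led Lsl_gt (LP (LK LD1_c0 LD2_c2 LD3_c4)) = (LP (LK LD1_c0 LD2_c4 LD3_c20)) :=
  Lgr Lrot5 (Lpr_ft (f11393 IH) (Lpr_at (f11081 IH) (Lpr_gf (f12684 IH) (Lpn (LP (LK LD1_c0 LD2_c4 LD3_c20))))))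
theorem f12747 : Led Lsl_ct (LP (LK LD1_c0 LD2_c4 LD3_c54)) = (LP (LK LD1_c0 LD2_c4 LD3_c52)) :=
  Lgr Lrot8 (Lpe (f11283 IH) (Lpr_dt (f175 IH) (Lpe (f12110 IH) (Lpr_dt (f12114 IH) (Lpe (f12149 IH) (Lpr_df (f12703 IH) (Lpe (f12697 IH) (Lpe (f110 IH) (Lpe (f3943 IH) (Lpn (LP (LK LD1_c0 LD2_c4 LD3_c52))))))))))))
theorem f3828 : Led Lsl_ct (LP (LK LD1_c0 LD2_c4 LD3_c22)) = (LP (LK LD1_c0 LD2_c1 LD3_c61)) :=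
  Lre_c IH (LK LD1_c0 LD2_c4 LD3_c22) (LK LD1_c0 LD2_c1 LD3_c61) Lrfl Lrfl
theorem f12653 : Led Lsl_cf (LP (LK LD1_c0 LD2_c2 LD3_c14)) = (LP (LK LD1_c0 LD2_c2 LD3_c1)) :=
  Lgr Lrot14 (Lpe (f5826 IH) (Lpe (f11297 IH) (Lpe (f188 IH) (Lpe (f12075 IH) (Lpr_ct (f3828 IH) (Lpr_gt (f12611 IH) (Lpr_dt (f129 IH) (Lpr_gt (f56 IH) (Lpe (f127 IH) (Lpn (LP (LK LD1_c0 LD2_c2 LD3_c1))))))))))))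
theorem f12655 : Led Lsl_ct (LP (LK LD1_c0 LD2_c4 LD3_c52)) = (LP (LK LD1_c0 LD2_c4 LD3_c54)) :=
  Lgr Lrot152 (Lpe (f11403 IH) (Lpe (f167 IH) (Lpe (f12110 IH) (Lpr_ct (f3828 IH) (Lpr_gt (f12611 IH) (Lpr_ct (f113 IH) (Lpe (f190 IH) (Lpe (f11064 IH) (Lpr_gf (f11283 IH) (Lpn (LP (LK LD1_c0 LD2_c4 LD3_c54))))))))))))
theorem f12651 : Led Lsl_ct (LP (LK LD1_c0 LD2_c2 LD3_c14)) = (LP (LK LD1_c0 LD2_c2 LD3_c1)) :=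
  Lgr Lrot7 (Lpe (f5826 IH) (Lpe (f11297 IH) (Lpe (f188 IH) (Lpe (f12075 IH) (Lpe (f3830 IH) (Lpr_gt (f12611 IH) (Lpr_dt (f129 IH) (Lpr_gt (f56 IH) (Lpe (f127 IH) (Lpn (LP (LK LD1_c0 LD2_c2 LD3_c1))))))))))))
theorem f136 : Led Lsl_dt (LP (LK LD1_c0 LD2_c2 LD3_c1)) = (LP (LK LD1_c0 LD2_c1 LD3_c56)) :=
  Lgr Lrot42 (Lpr_df (f127 IH) (Lpn (LP (LK LD1_c0 LD2_c1 LD3_c56))))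
theorem f12756 : Led Lsl_cf (LP (LK LD1_c0 LD2_c1 LD3_c56)) = (LP (LK LD1_c0 LD2_c1 LD3_c56)) :=
  Lgr Lrot55 (Lpe (f127 IH) (Lpe (f12653 IH) (Lpr_dt (f5825 IH) (Lpr_ct (f12747 IH) (Lpr_dt (f4455 IH) (Lpr_ct (f12189 IH) (Lpe (f3818 IH) (Lpe (f3813 IH) (Lpr_dt (f3815 IH) (Lpe (f12335 IH) (Lpr_dt (f345 IH) (Lpr_ct (f12655 IH) (Lpr_dt (f5826 IH) (Lpr_ct (f12651 IH) (Lpr_dt (f136 IH) (Lpn (LP (LK LD1_c0 LD2_c1 LD3_c56))))))))))))))))))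
theorem f146 : Led Lsl_bt (LP (LK LD1_c0 LD2_c1 LD3_c56)) = (LP (LK LD1_c0 LD2_c4 LD3_c16)) :=
  Lre_b IH (LK LD1_c0 LD2_c1 LD3_c56) (LK LD1_c0 LD2_c4 LD3_c16) Lrfl Lrfl
theorem f13421 : Led Lsl_gf (LP (LK LD1_c0 LD2_c4 LD3_c9)) = (LP (LK LD1_c0 LD2_c4 LD3_c16)) :=
  Lgr Lrot124 (Lpe (f172 IH) (Lpe (f117 IH) (Lpr_gt (f11002 IH) (Lpr_cf (f326 IH) (Lpe (f324 IH) (Lpr_gt (f3941 IH) (Lpr_ct (f90 IH) (Lpr_gt (f56 IH) (Lpr_cf (f12756 IH) (Lpr_bt (f146 IH) (Lpn (LP (LK LD1_c0 LD2_c4 LD3_c16)))))))))))))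
theorem f13423 : Led Lsl_gt (LP (LK LD1_c0 LD2_c4 LD3_c2)) = (LP (LK LD1_c0 LD2_c4 LD3_c16)) :=
  Lgr Lrot5 (Lpr_ft (f9657 IH) (Lpr_at (f7345 IH) (Lpr_gf (f13421 IH) (Lpn (LP (LK LD1_c0 LD2_c4 LD3_c16))))))
theorem f7041 : Led Lsl_dt (LP (LK LD1_c0 LD2_c1 LD3_c46)) = (LP (LK LD1_c0 LD2_c0 LD3_c42)) :=
  Lre_d IH (LK LD1_c0 LD2_c1 LD3_c46) (LK LD1_c0 LD2_c0 LD3_c42) Lrfl Lrfl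
theorem f1632 : Led Lsl_et (LP (LK LD1_c0 LD2_c0 LD3_c44)) = (LP (LK LD1_c0 LD2_c0 LD3_c13)) :=
  Lre_e IH (LK LD1_c0 LD2_c0 LD3_c44) (LK LD1_c0 LD2_c0 LD3_c13) Lrfl Lrfl
theorem f1633 : Led Lsl_dt (LP (LK LD1_c0 LD2_c0 LD3_c44)) = (LP (LK LD1_c0 LD2_c1 LD3_c53)) :=
  Lre_d IH (LK LD1_c0 LD2_c0 LD3_c44) (LK LD1_c0 LD2_c1 LD3_c53) Lrfl Lrfl
theorem f3797 : Led Lsl_gt (LP (LK LD1_c0 LD2_c4 LD3_c13)) = (LP (LK LD1_c0 LD2_c1 LD3_c53)) :=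
  Lre_g IH (LK LD1_c0 LD2_c4 LD3_c13) (LK LD1_c0 LD2_c1 LD3_c53) Lrfl Lrfl
theorem f13425 : Led Lsl_df (LP (LK LD1_c0 LD2_c4 LD3_c13)) = (LP (LK LD1_c0 LD2_c4 LD3_c16)) :=
  Lgr Lrot135 (Lpr_gt (f3797 IH) (Lpe (f1633 IH) (Lpr_et (f1632 IH) (Lpr_gt (f312 IH) (Lpr_ef (f1648 IH) (Lpe (f1646 IH) (Lpr_gt (f7184 IH) (Lpqs (f7283 IH) (Lpe (f7041 IH) (Lpr_et (f9624 IH) (Lpr_gt (f13423 IH) (Lpn (LP (LK LD1_c0 LD2_c4 LD3_c16))))))))))))))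
theorem f13429 : Led Lsl_dt (LP (LK LD1_c0 LD2_c4 LD3_c13)) = (LP (LK LD1_c0 LD2_c4 LD3_c16)) :=
  Lgr Lrot42 (Lpr_df (f13425 IH) (Lpn (LP (LK LD1_c0 LD2_c4 LD3_c16))))
theorem f135 : Led Lsl_bt (LP (LK LD1_c0 LD2_c4 LD3_c16)) = (LP (LK LD1_c0 LD2_c1 LD3_c56)) :=
  Lre_b IH (LK LD1_c0 LD2_c4 LD3_c16) (LK LD1_c0 LD2_c1 LD3_c56) Lrfl Lrfl
theorem f13437 : Led Lsl_bf (LP (LK LD1_c0 LD2_c4 LD3_c13)) = (LP (LK LD1_c0 LD2_c2 LD3_c1)) :=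
  Lgr Lrot93 (Lpr_dt (f13429 IH) (Lpr_bt (f135 IH) (Lpe (f127 IH) (Lpn (LP (LK LD1_c0 LD2_c2 LD3_c1))))))
theorem f7308 : Led Lsl_gt (LP (LK LD1_c0 LD2_c9 LD3_c0)) = (LP (LK LD1_c0 LD2_c4 LD3_c13)) :=
  Lre_g IH (LK LD1_c0 LD2_c9 LD3_c0) (LK LD1_c0 LD2_c4 LD3_c13) Lrfl Lrfl
theorem f6714 : Led Lsl_bt (LP (LK LD1_c0 LD2_c0 LD3_c20)) = (LP (LK LD1_c0 LD2_c0 LD3_c38)) :=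
  Lre_b IH (LK LD1_c0 LD2_c0 LD3_c20) (LK LD1_c0 LD2_c0 LD3_c38) Lrfl Lrfl
theorem f1459 : Led Lsl_gt (LP (LK LD1_c0 LD2_c0 LD3_c38)) = (LP (LK LD1_c0 LD2_c1 LD3_c42)) :=
  Lre_g IH (LK LD1_c0 LD2_c0 LD3_c38) (LK LD1_c0 LD2_c1 LD3_c42) Lrfl Lrfl
theorem f13448 : Led Lsl_ct (LP (LK LD1_c0 LD2_c1 LD3_c42)) = (LP (LK LD1_c0 LD2_c3 LD3_c55)) :=
  Lre_c IH (LK LD1_c0 LD2_c1 LD3_c42) (LK LD1_c0 LD2_c3 LD3_c55) Lrfl Lrfl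
theorem f13449 : Led Lsl_gt (LP (LK LD1_c0 LD2_c3 LD3_c55)) = (LP (LK LD1_c0 LD2_c8 LD3_c34)) :=
  Lre_g IH (LK LD1_c0 LD2_c3 LD3_c55) (LK LD1_c0 LD2_c8 LD3_c34) Lrfl Lrfl
theorem f13450 : Led Lsl_ct (LP (LK LD1_c0 LD2_c9 LD3_c0)) = (LP (LK LD1_c0 LD2_c8 LD3_c34)) :=
  Lgr Lrot63 (Lpr_bt (f9717 IH) (Lpr_gt (f7308 IH) (Lpr_bf (f13437 IH) (Lpe (f12653 IH) (Lpr_gt (f3831 IH) (Lpe (f346 IH) (Lpr_bt (f6714 IH) (Lpr_gt (f1459 IH) (Lpr_ct (f13448 IH) (Lpr_gt (f13449 IH) (Lpn (LP (LK LD1_c0 LD2_c8 LD3_c34)))))))))))))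
theorem f13458 : Led Lsl_ff (LP (LK LD1_c0 LD2_c8 LD3_c61)) = (LP (LK LD1_c0 LD2_c8 LD3_c34)) :=
  Lgr Lrot23 (Lpr_ct (f9735 IH) (Lpr_ft (f9663 IH) (Lpr_ct (f13450 IH) (Lpn (LP (LK LD1_c0 LD2_c8 LD3_c34))))))
theorem f13462 : Led Lsl_at (LP (LK LD1_c0 LD2_c8 LD3_c61)) = (LP (LK LD1_c0 LD2_c4 LD3_c14)) :=
  Lre_a IH (LK LD1_c0 LD2_c8 LD3_c61) (LK LD1_c0 LD2_c4 LD3_c14) Lrfl Lrfl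
theorem f13463 : Led Lsl_ft (LP (LK LD1_c0 LD2_c4 LD3_c14)) = (LP (LK LD1_c0 LD2_c9 LD3_c10)) :=
  Lre_f IH (LK LD1_c0 LD2_c4 LD3_c14) (LK LD1_c0 LD2_c9 LD3_c10) Lrfl Lrfl
theorem f13464 : Led Lsl_at (LP (LK LD1_c0 LD2_c9 LD3_c10)) = (LP (LK LD1_c0 LD2_c8 LD3_c34)) :=
  Lgr Lrot66 (Lpe (f13463 IH) (Lpe (f13462 IH) (Lpr_ff (f13458 IH) (Lpn (LP (LK LD1_c0 LD2_c8 LD3_c34))))))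
theorem f13536 : Led Lsl_gt (LP (LK LD1_c0 LD2_c4 LD3_c14)) = (LP (LK LD1_c0 LD2_c3 LD3_c55)) :=
  Lgr Lrot5 (Lpr_ft (f13463 IH) (Lpr_at (f13464 IH) (Lpe (f13449 IH) (Lpn (LP (LK LD1_c0 LD2_c3 LD3_c55))))))
theorem f7381 : Led Lsl_ct (LP (LK LD1_c0 LD2_c1 LD3_c53)) = (LP (LK LD1_c0 LD2_c4 LD3_c14)) :=
  Lre_c IH (LK LD1_c0 LD2_c1 LD3_c53) (LK LD1_c0 LD2_c4 LD3_c14) Lrfl Lrfl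
theorem f3824 : Led Lsl_bt (LP (LK LD1_c0 LD2_c1 LD3_c53)) = (LP (LK LD1_c0 LD2_c0 LD3_c49)) :=
  Lre_b IH (LK LD1_c0 LD2_c1 LD3_c53) (LK LD1_c0 LD2_c0 LD3_c49) Lrfl Lrfl
theorem f13427 : Led Lsl_bt (LP (LK LD1_c0 LD2_c4 LD3_c13)) = (LP (LK LD1_c0 LD2_c2 LD3_c1)) :=
  Lgr Lrot95 (Lpr_df (f13425 IH) (Lpe (f146 IH) (Lpe (f136 IH) (Lpn (LP (LK LD1_c0 LD2_c2 LD3_c1))))))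
theorem f436 : Led Lsl_ct (LP (LK LD1_c0 LD2_c0 LD3_c60)) = (LP (LK LD1_c0 LD2_c2 LD3_c17)) :=
  Lre_c IH (LK LD1_c0 LD2_c0 LD3_c60) (LK LD1_c0 LD2_c2 LD3_c17) Lrfl Lrfl
theorem f9912 : Led Lsl_bt (LP (LK LD1_c0 LD2_c0 LD3_c60)) = (LP (LK LD1_c0 LD2_c1 LD3_c45)) :=
  Lre_b IH (LK LD1_c0 LD2_c0 LD3_c60) (LK LD1_c0 LD2_c1 LD3_c45) Lrfl Lrfl
theorem f7178 : Led Lsl_gt (LP (LK LD1_c0 LD2_c2 LD3_c52)) = (LP (LK LD1_c0 LD2_c1 LD3_c45)) :=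
  Lre_g IH (LK LD1_c0 LD2_c2 LD3_c52) (LK LD1_c0 LD2_c1 LD3_c45) Lrfl Lrfl
theorem f13551 : Led Lsl_bf (LP (LK LD1_c0 LD2_c2 LD3_c52)) = (LP (LK LD1_c0 LD2_c1 LD3_c42)) :=
  Lgr Lrot156 (Lpr_gt (f7178 IH) (Lpe (f9912 IH) (Lpr_ct (f436 IH) (Lpr_gt (f11281 IH) (Lpr_cf (f12653 IH) (Lpe (f13437 IH) (Lpr_gt (f3797 IH) (Lpr_ct (f7381 IH) (Lpr_gt (f13536 IH) (Lpe (f13448 IH) (Lpn (LP (LK LD1_c0 LD2_c1 LD3_c42)))))))))))))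
theorem f9924 : Led Lsl_ct (LP (LK LD1_c0 LD2_c1 LD3_c45)) = (LP (LK LD1_c0 LD2_c4 LD3_c0)) :=
  Lre_c IH (LK LD1_c0 LD2_c1 LD3_c45) (LK LD1_c0 LD2_c4 LD3_c0) Lrfl Lrfl
theorem f9925 : Led Lsl_gt (LP (LK LD1_c0 LD2_c4 LD3_c0)) = (LP (LK LD1_c0 LD2_c6 LD3_c17)) :=
  Lre_g IH (LK LD1_c0 LD2_c4 LD3_c0) (LK LD1_c0 LD2_c6 LD3_c17) Lrfl Lrfl
theorem f13554 : Led Lsl_ct (LP (LK LD1_c0 LD2_c4 LD3_c13)) = (LP (LK LD1_c0 LD2_c6 LD3_c17)) :=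
  Lgr Lrot63 (Lpr_bt (f13427 IH) (Lpr_gt (f82 IH) (Lpe (f3824 IH) (Lpr_ct (f7381 IH) (Lpr_gt (f13536 IH) (Lpe (f13448 IH) (Lpe (f13551 IH) (Lpr_gt (f7178 IH) (Lpr_ct (f9924 IH) (Lpr_gt (f9925 IH) (Lpn (LP (LK LD1_c0 LD2_c6 LD3_c17)))))))))))))
theorem f1472 : Led Lsl_gt (LP (LK LD1_c0 LD2_c1 LD3_c11)) = (LP (LK LD1_c0 LD2_c2 LD3_c52)) :=
  Lre_g IH (LK LD1_c0 LD2_c1 LD3_c11) (LK LD1_c0 LD2_c2 LD3_c52) Lrfl Lrfl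
theorem f13588 : Led Lsl_gt (LP (LK LD1_c0 LD2_c6 LD3_c17)) = (LP (LK LD1_c0 LD2_c2 LD3_c54)) :=
  Lre_g IH (LK LD1_c0 LD2_c6 LD3_c17) (LK LD1_c0 LD2_c2 LD3_c54) Lrfl Lrfl
theorem f13601 : Led Lsl_ct (LP (LK LD1_c0 LD2_c1 LD3_c11)) = (LP (LK LD1_c0 LD2_c2 LD3_c54)) :=
  Lre_c IH (LK LD1_c0 LD2_c1 LD3_c11) (LK LD1_c0 LD2_c2 LD3_c54) Lrfl Lrfl
theorem f13602 : Led Lsl_bf (LP (LK LD1_c0 LD2_c1 LD3_c11)) = (LP (LK LD1_c0 LD2_c1 LD3_c11)) :=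
  Lgr Lrot156 (Lpr_gt (f1472 IH) (Lpr_bf (f13551 IH) (Lpr_ct (f13448 IH) (Lpr_gt (f13449 IH) (Lpe (f13450 IH) (Lpr_bt (f9717 IH) (Lpr_gt (f7308 IH) (Lpr_ct (f13554 IH) (Lpr_gt (f13588 IH) (Lpe (f13601 IH) (Lpn (LP (LK LD1_c0 LD2_c1 LD3_c11)))))))))))))
theorem f13609 : Led Lsl_et (LP (LK LD1_c0 LD2_c1 LD3_c11)) = (LP (LK LD1_c0 LD2_c2 LD3_c46)) :=
  Lre_e IH (LK LD1_c0 LD2_c1 LD3_c11) (LK LD1_c0 LD2_c2 LD3_c46) Lrfl Lrfl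
theorem f13610 : Led Lsl_et (LP (LK LD1_c0 LD2_c2 LD3_c46)) = (LP (LK LD1_c0 LD2_c1 LD3_c11)) :=
  Lre_e IH (LK LD1_c0 LD2_c2 LD3_c46) (LK LD1_c0 LD2_c1 LD3_c11) Lrfl Lrfl
theorem f13611 : Led Lsl_bt (LP (LK LD1_c0 LD2_c2 LD3_c46)) = (LP (LK LD1_c0 LD2_c2 LD3_c46)) :=
  Lgr Lrot119 (Lpe (f13609 IH) (Lpr_bf (f13602 IH) (Lpe (f13610 IH) (Lpn (LP (LK LD1_c0 LD2_c2 LD3_c46))))))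
theorem f13623 : Led Lsl_ct (LP (LK LD1_c0 LD2_c6 LD3_c5)) = (LP (LK LD1_c0 LD2_c2 LD3_c46)) :=
  Lre_c IH (LK LD1_c0 LD2_c6 LD3_c5) (LK LD1_c0 LD2_c2 LD3_c46) Lrfl Lrfl
theorem f13624 : Led Lsl_bt (LP (LK LD1_c0 LD2_c13 LD3_c17)) = (LP (LK LD1_c0 LD2_c6 LD3_c5)) :=
  Lre_b IH (LK LD1_c0 LD2_c13 LD3_c17) (LK LD1_c0 LD2_c6 LD3_c5) Lrfl Lrfl
theorem f13625 : Led Lsl_ct (LP (LK LD1_c0 LD2_c2 LD3_c46)) = (LP (LK LD1_c0 LD2_c6 LD3_c5)) :=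
  Lre_c IH (LK LD1_c0 LD2_c2 LD3_c46) (LK LD1_c0 LD2_c6 LD3_c5) Lrfl Lrfl
theorem f13626 : Led Lsl_bt (LP (LK LD1_c0 LD2_c6 LD3_c5)) = (LP (LK LD1_c0 LD2_c13 LD3_c17)) :=
  Lre_b IH (LK LD1_c0 LD2_c6 LD3_c5) (LK LD1_c0 LD2_c13 LD3_c17) Lrfl Lrfl
theorem f13627 : Led Lsl_cf (LP (LK LD1_c0 LD2_c13 LD3_c17)) = (LP (LK LD1_c0 LD2_c13 LD3_c17)) :=
  Lgr Lrot97 (Lpr_bt (f13624 IH) (Lpr_ct (f13623 IH) (Lpr_bt (f13611 IH) (Lpr_ct (f13625 IH) (Lpr_bt (f13626 IH) (Lpn (LP (LK LD1_c0 LD2_c13 LD3_c17))))))))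
theorem f13649 : Led Lsl_at (LP (LK LD1_c0 LD2_c13 LD3_c17)) = (LP (LK LD1_c0 LD2_c29 LD3_c61)) :=
  Lre_a IH (LK LD1_c0 LD2_c13 LD3_c17) (LK LD1_c0 LD2_c29 LD3_c61) Lrfl Lrfl
theorem f13650 : Led Lsl_at (LP (LK LD1_c0 LD2_c29 LD3_c61)) = (LP (LK LD1_c0 LD2_c13 LD3_c17)) :=
  Lre_a IH (LK LD1_c0 LD2_c29 LD3_c61) (LK LD1_c0 LD2_c13 LD3_c17) Lrfl Lrfl
theorem f13651 : Led Lsl_ct (LP (LK LD1_c0 LD2_c29 LD3_c61)) = (LP (LK LD1_c0 LD2_c29 LD3_c61)) :=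
  Lgr Lrot111 (Lpe (f13649 IH) (Lpr_cf (f13627 IH) (Lpe (f13650 IH) (Lpn (LP (LK LD1_c0 LD2_c29 LD3_c61))))))
theorem f13684 : Led Lsl_et (LP (LK LD1_c0 LD2_c13 LD3_c48)) = (LP (LK LD1_c0 LD2_c29 LD3_c61)) :=
  Lre_e IH (LK LD1_c0 LD2_c13 LD3_c48) (LK LD1_c0 LD2_c29 LD3_c61) Lrfl Lrfl
theorem f13685 : Led Lsl_et (LP (LK LD1_c0 LD2_c29 LD3_c61)) = (LP (LK LD1_c0 LD2_c13 LD3_c48)) :=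
  Lre_e IH (LK LD1_c0 LD2_c29 LD3_c61) (LK LD1_c0 LD2_c13 LD3_c48) Lrfl Lrfl
theorem f13686 : Led Lsl_cf (LP (LK LD1_c0 LD2_c13 LD3_c48)) = (LP (LK LD1_c0 LD2_c13 LD3_c48)) :=
  Lgr Lrot39 (Lpr_et (f13684 IH) (Lpr_ct (f13651 IH) (Lpr_et (f13685 IH) (Lpn (LP (LK LD1_c0 LD2_c13 LD3_c48))))))
theorem f13693 : Led Lsl_dt (LP (LK LD1_c0 LD2_c13 LD3_c48)) = (LP (LK LD1_c0 LD2_c31 LD3_c5)) :=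
  Lre_d IH (LK LD1_c0 LD2_c13 LD3_c48) (LK LD1_c0 LD2_c31 LD3_c5) Lrfl Lrfl
theorem f13694 : Led Lsl_ct (LP (LK LD1_c0 LD2_c31 LD3_c5)) = (LP (LK LD1_c1 LD2_c7 LD3_c44)) :=
  Lre_c IH (LK LD1_c0 LD2_c31 LD3_c5) (LK LD1_c1 LD2_c7 LD3_c44) Lrfl Lrfl
theorem f13695 : Led Lsl_dt (LP (LK LD1_c1 LD2_c7 LD3_c44)) = (LP (LK LD1_c2 LD2_c20 LD3_c47)) :=
  Lre_d IH (LK LD1_c1 LD2_c7 LD3_c44) (LK LD1_c2 LD2_c20 LD3_c47) Lrfl Lrfl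
theorem f13696 : Led Lsl_dt (LP (LK LD1_c0 LD2_c31 LD3_c5)) = (LP (LK LD1_c0 LD2_c13 LD3_c48)) :=
  Lre_d IH (LK LD1_c0 LD2_c31 LD3_c5) (LK LD1_c0 LD2_c13 LD3_c48) Lrfl Lrfl
theorem f13711 : Led Lsl_ft (LP (LK LD1_c0 LD2_c31 LD3_c5)) = (LP (LK LD1_c1 LD2_c7 LD3_c27)) :=
  Lre_f IH (LK LD1_c0 LD2_c31 LD3_c5) (LK LD1_c1 LD2_c7 LD3_c27) Lrfl Lrfl
theorem f13712 : Led Lsl_at (LP (LK LD1_c1 LD2_c7 LD3_c27)) = (LP (LK LD1_c0 LD2_c31 LD3_c10)) :=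
  Lre_a IH (LK LD1_c1 LD2_c7 LD3_c27) (LK LD1_c0 LD2_c31 LD3_c10) Lrfl Lrfl
theorem f13713 : Led Lsl_ct (LP (LK LD1_c1 LD2_c7 LD3_c57)) = (LP (LK LD1_c0 LD2_c31 LD3_c10)) :=
  Lre_c IH (LK LD1_c1 LD2_c7 LD3_c57) (LK LD1_c0 LD2_c31 LD3_c10) Lrfl Lrfl
theorem f13714 : Led Lsl_dt (LP (LK LD1_c2 LD2_c21 LD3_c23)) = (LP (LK LD1_c1 LD2_c7 LD3_c57)) :=
  Lre_d IH (LK LD1_c2 LD2_c21 LD3_c23) (LK LD1_c1 LD2_c7 LD3_c57) Lrfl Lrfl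
theorem f13715 : Led Lsl_ct (LP (LK LD1_c2 LD2_c20 LD3_c47)) = (LP (LK LD1_c2 LD2_c21 LD3_c23)) :=
  Lgr Lrot53 (Lpe (f13695 IH) (Lpe (f13694 IH) (Lpe (f13693 IH) (Lpr_cf (f13686 IH) (Lpe (f13696 IH) (Lpr_ft (f13711 IH) (Lpr_at (f13712 IH) (Lpe (f13713 IH) (Lpe (f13714 IH) (Lpn (LP (LK LD1_c2 LD2_c21 LD3_c23))))))))))))
theorem f13736 : Led Lsl_ft (LP (LK LD1_c2 LD2_c21 LD3_c23)) = (LP (LK LD1_c1 LD2_c7 LD3_c55)) :=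
  Lre_f IH (LK LD1_c2 LD2_c21 LD3_c23) (LK LD1_c1 LD2_c7 LD3_c55) Lrfl Lrfl
theorem f13737 : Led Lsl_ct (LP (LK LD1_c1 LD2_c7 LD3_c55)) = (LP (LK LD1_c2 LD2_c21 LD3_c21)) :=
  Lre_c IH (LK LD1_c1 LD2_c7 LD3_c55) (LK LD1_c2 LD2_c21 LD3_c21) Lrfl Lrfl
theorem f13738 : Led Lsl_ff (LP (LK LD1_c2 LD2_c20 LD3_c47)) = (LP (LK LD1_c2 LD2_c21 LD3_c21)) :=
  Lgr Lrot23 (Lpr_ct (f13715 IH) (Lpr_ft (f13736 IH) (Lpr_ct (f13737 IH) (Lpn (LP (LK LD1_c2 LD2_c21 LD3_c21))))))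
theorem f13753 : Led Lsl_at (LP (LK LD1_c2 LD2_c20 LD3_c47)) = (LP (LK LD1_c1 LD2_c7 LD3_c55)) :=
  Lre_a IH (LK LD1_c2 LD2_c20 LD3_c47) (LK LD1_c1 LD2_c7 LD3_c55) Lrfl Lrfl
theorem f13720 : Led Lsl_ct (LP (LK LD1_c2 LD2_c21 LD3_c21)) = (LP (LK LD1_c1 LD2_c7 LD3_c55)) :=
  Lre_c IH (LK LD1_c2 LD2_c21 LD3_c21) (LK LD1_c1 LD2_c7 LD3_c55) Lrfl Lrfl
theorem f13698 : Led Lsl_dt (LP (LK LD1_c2 LD2_c20 LD3_c47)) = (LP (LK LD1_c1 LD2_c7 LD3_c44)) :=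
  Lre_d IH (LK LD1_c2 LD2_c20 LD3_c47) (LK LD1_c1 LD2_c7 LD3_c44) Lrfl Lrfl
theorem f13740 : Led Lsl_ft (LP (LK LD1_c1 LD2_c7 LD3_c44)) = (LP (LK LD1_c2 LD2_c20 LD3_c17)) :=
  Lre_f IH (LK LD1_c1 LD2_c7 LD3_c44) (LK LD1_c2 LD2_c20 LD3_c17) Lrfl Lrfl
theorem f13758 : Led Lsl_dt (LP (LK LD1_c2 LD2_c20 LD3_c17)) = (LP (LK LD1_c2 LD2_c21 LD3_c21)) :=
  Lgr Lrot60 (Lpe (f13740 IH) (Lpe (f13698 IH) (Lpr_ff (f13738 IH) (Lpn (LP (LK LD1_c2 LD2_c21 LD3_c21))))))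
theorem f13771 : Led Lsl_ct (LP (LK LD1_c1 LD2_c7 LD3_c27)) = (LP (LK LD1_c2 LD2_c20 LD3_c17)) :=
  Lre_c IH (LK LD1_c1 LD2_c7 LD3_c27) (LK LD1_c2 LD2_c20 LD3_c17) Lrfl Lrfl
theorem f13772 : Led Lsl_dt (LP (LK LD1_c0 LD2_c30 LD3_c57)) = (LP (LK LD1_c1 LD2_c7 LD3_c27)) :=
  Lre_d IH (LK LD1_c0 LD2_c30 LD3_c57) (LK LD1_c1 LD2_c7 LD3_c27) Lrfl Lrfl
theorem f13699 : Led Lsl_ft (LP (LK LD1_c0 LD2_c13 LD3_c48)) = (LP (LK LD1_c0 LD2_c30 LD3_c57)) :=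
  Lre_f IH (LK LD1_c0 LD2_c13 LD3_c48) (LK LD1_c0 LD2_c30 LD3_c57) Lrfl Lrfl
theorem f13700 : Led Lsl_ft (LP (LK LD1_c0 LD2_c30 LD3_c57)) = (LP (LK LD1_c0 LD2_c13 LD3_c48)) :=
  Lre_f IH (LK LD1_c0 LD2_c30 LD3_c57) (LK LD1_c0 LD2_c13 LD3_c48) Lrfl Lrfl
theorem f13701 : Led Lsl_ct (LP (LK LD1_c0 LD2_c30 LD3_c57)) = (LP (LK LD1_c0 LD2_c30 LD3_c57)) :=
  Lgr Lrot40 (Lpe (f13699 IH) (Lpr_cf (f13686 IH) (Lpe (f13700 IH) (Lpn (LP (LK LD1_c0 LD2_c30 LD3_c57))))))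
theorem f13773 : Led Lsl_dt (LP (LK LD1_c1 LD2_c7 LD3_c27)) = (LP (LK LD1_c0 LD2_c30 LD3_c57)) :=
  Lre_d IH (LK LD1_c1 LD2_c7 LD3_c27) (LK LD1_c0 LD2_c30 LD3_c57) Lrfl Lrfl
theorem f13774 : Led Lsl_ct (LP (LK LD1_c2 LD2_c20 LD3_c17)) = (LP (LK LD1_c1 LD2_c7 LD3_c27)) :=
  Lre_c IH (LK LD1_c2 LD2_c20 LD3_c17) (LK LD1_c1 LD2_c7 LD3_c27) Lrfl Lrfl
theorem f13775 : Led Lsl_df (LP (LK LD1_c2 LD2_c20 LD3_c17)) = (LP (LK LD1_c2 LD2_c21 LD3_c21)) :=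
  Lgr Lrot157 (Lpr_ct (f13774 IH) (Lpr_dt (f13773 IH) (Lpr_ct (f13701 IH) (Lpr_dt (f13772 IH) (Lpr_ct (f13771 IH) (Lpr_dt (f13758 IH) (Lpr_ct (f13720 IH) (Lpe (f13753 IH) (Lpr_ff (f13738 IH) (Lpn (LP (LK LD1_c2 LD2_c21 LD3_c21))))))))))))
theorem f13786 : Led Lsl_et (LP (LK LD1_c2 LD2_c20 LD3_c17)) = (LP (LK LD1_c4 LD2_c44 LD3_c29)) :=
  Lre_e IH (LK LD1_c2 LD2_c20 LD3_c17) (LK LD1_c4 LD2_c44 LD3_c29) Lrfl Lrfl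
theorem f13787 : Led Lsl_dt (LP (LK LD1_c4 LD2_c44 LD3_c29)) = (LP (LK LD1_c9 LD2_c21 LD3_c46)) :=
  Lre_d IH (LK LD1_c4 LD2_c44 LD3_c29) (LK LD1_c9 LD2_c21 LD3_c46) Lrfl Lrfl
theorem f13762 : Led Lsl_et (LP (LK LD1_c4 LD2_c46 LD3_c55)) = (LP (LK LD1_c2 LD2_c21 LD3_c21)) :=
  Lre_e IH (LK LD1_c4 LD2_c46 LD3_c55) (LK LD1_c2 LD2_c21 LD3_c21) Lrfl Lrfl
theorem f13788 : Led Lsl_dt (LP (LK LD1_c9 LD2_c26 LD3_c39)) = (LP (LK LD1_c4 LD2_c46 LD3_c55)) :=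
  Lre_d IH (LK LD1_c9 LD2_c26 LD3_c39) (LK LD1_c4 LD2_c46 LD3_c55) Lrfl Lrfl
theorem f13789 : Led Lsl_et (LP (LK LD1_c9 LD2_c21 LD3_c46)) = (LP (LK LD1_c9 LD2_c26 LD3_c39)) :=
  Lgr Lrot71 (Lpe (f13787 IH) (Lpe (f13786 IH) (Lpr_df (f13775 IH) (Lpe (f13762 IH) (Lpe (f13788 IH) (Lpn (LP (LK LD1_c9 LD2_c26 LD3_c39))))))))
theorem f13829 : Led Lsl_ef (LP (LK LD1_c9 LD2_c21 LD3_c46)) = (LP (LK LD1_c9 LD2_c26 LD3_c39)) :=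
  Lgr Lrot88 (Lpr_et (f13789 IH) (Lpn (LP (LK LD1_c9 LD2_c26 LD3_c39))))
theorem f13848 : Led Lsl_ct (LP (LK LD1_c9 LD2_c21 LD3_c46)) = (LP (LK LD1_c17 LD2_c17 LD3_c57)) :=
  Lre_c IH (LK LD1_c9 LD2_c21 LD3_c46) (LK LD1_c17 LD2_c17 LD3_c57) Lrfl Lrfl
theorem f13849 : Led Lsl_ct (LP (LK LD1_c17 LD2_c24 LD3_c49)) = (LP (LK LD1_c9 LD2_c26 LD3_c39)) :=
  Lre_c IH (LK LD1_c17 LD2_c24 LD3_c49) (LK LD1_c9 LD2_c26 LD3_c39) Lrfl Lrfl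
theorem f13850 : Led Lsl_et (LP (LK LD1_c17 LD2_c17 LD3_c57)) = (LP (LK LD1_c17 LD2_c24 LD3_c49)) :=
  Lgr Lrot158 (Lpe (f13848 IH) (Lpr_ef (f13829 IH) (Lpe (f13849 IH) (Lpn (LP (LK LD1_c17 LD2_c24 LD3_c49))))))
theorem f13864 : Led Lsl_dt (LP (LK LD1_c27 LD2_c7 LD3_c36)) = (LP (LK LD1_c17 LD2_c17 LD3_c57)) :=
  Lre_d IH (LK LD1_c27 LD2_c7 LD3_c36) (LK LD1_c17 LD2_c17 LD3_c57) Lrfl Lrfl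
theorem f13865 : Led Lsl_et (LP (LK LD1_c32 LD2_c21 LD3_c1)) = (LP (LK LD1_c27 LD2_c7 LD3_c36)) :=
  Lre_e IH (LK LD1_c32 LD2_c21 LD3_c1) (LK LD1_c27 LD2_c7 LD3_c36) Lrfl Lrfl
theorem f13866 : Led Lsl_dt (LP (LK LD1_c17 LD2_c24 LD3_c49)) = (LP (LK LD1_c27 LD2_c14 LD3_c3)) :=
  Lre_d IH (LK LD1_c17 LD2_c24 LD3_c49) (LK LD1_c27 LD2_c14 LD3_c3) Lrfl Lrfl
theorem f13867 : Led Lsl_et (LP (LK LD1_c27 LD2_c14 LD3_c3)) = (LP (LK LD1_c32 LD2_c22 LD3_c18)) :=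
  Lre_e IH (LK LD1_c27 LD2_c14 LD3_c3) (LK LD1_c32 LD2_c22 LD3_c18) Lrfl Lrfl
theorem f13868 : Led Lsl_df (LP (LK LD1_c32 LD2_c21 LD3_c1)) = (LP (LK LD1_c32 LD2_c22 LD3_c18)) :=
  Lgr Lrot70 (Lpr_et (f13865 IH) (Lpr_dt (f13864 IH) (Lpr_et (f13850 IH) (Lpr_dt (f13866 IH) (Lpr_et (f13867 IH) (Lpn (LP (LK LD1_c32 LD2_c22 LD3_c18))))))))
theorem f13879 : Led Lsl_dt (LP (LK LD1_c32 LD2_c21 LD3_c1)) = (LP (LK LD1_c32 LD2_c22 LD3_c18)) :=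
  Lgr Lrot42 (Lpr_df (f13868 IH) (Lpn (LP (LK LD1_c32 LD2_c22 LD3_c18))))
theorem f13883 : Led Lsl_at (LP (LK LD1_c27 LD2_c16 LD3_c34)) = (LP (LK LD1_c32 LD2_c21 LD3_c1)) :=
  Lre_a IH (LK LD1_c27 LD2_c16 LD3_c34) (LK LD1_c32 LD2_c21 LD3_c1) Lrfl Lrfl
theorem f13884 : Led Lsl_dt (LP (LK LD1_c32 LD2_c22 LD3_c32)) = (LP (LK LD1_c27 LD2_c16 LD3_c34)) :=
  Lre_d IH (LK LD1_c32 LD2_c22 LD3_c32) (LK LD1_c27 LD2_c16 LD3_c34) Lrfl Lrfl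
theorem f13885 : Led Lsl_af (LP (LK LD1_c32 LD2_c22 LD3_c32)) = (LP (LK LD1_c32 LD2_c22 LD3_c18)) :=
  Lgr Lrot117 (Lpr_dt (f13884 IH) (Lpr_at (f13883 IH) (Lpr_dt (f13879 IH) (Lpn (LP (LK LD1_c32 LD2_c22 LD3_c18))))))
theorem f13889 : Led Lsl_et (LP (LK LD1_c32 LD2_c22 LD3_c32)) = (LP (LK LD1_c27 LD2_c14 LD3_c49)) :=
  Lre_e IH (LK LD1_c32 LD2_c22 LD3_c32) (LK LD1_c27 LD2_c14 LD3_c49) Lrfl Lrfl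
theorem f13890 : Led Lsl_at (LP (LK LD1_c27 LD2_c14 LD3_c49)) = (LP (LK LD1_c27 LD2_c14 LD3_c3)) :=
  Lgr Lrot80 (Lpe (f13889 IH) (Lpr_af (f13885 IH) (Lpe (f13867 IH) (Lpn (LP (LK LD1_c27 LD2_c14 LD3_c3))))))
theorem f13892 : Led Lsl_af (LP (LK LD1_c27 LD2_c14 LD3_c49)) = (LP (LK LD1_c27 LD2_c14 LD3_c3)) :=
  Lgr Lrot0 (Lpr_at (f13890 IH) (Lpn (LP (LK LD1_c27 LD2_c14 LD3_c3))))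
theorem f13895 : Led Lsl_dt (LP (LK LD1_c27 LD2_c14 LD3_c49)) = (LP (LK LD1_c17 LD2_c25 LD3_c26)) :=
  Lre_d IH (LK LD1_c27 LD2_c14 LD3_c49) (LK LD1_c17 LD2_c25 LD3_c26) Lrfl Lrfl
theorem f13896 : Led Lsl_at (LP (LK LD1_c17 LD2_c25 LD3_c26)) = (LP (LK LD1_c17 LD2_c24 LD3_c49)) :=
  Lgr Lrot51 (Lpe (f13895 IH) (Lpr_af (f13892 IH) (Lpe (f13866 IH) (Lpn (LP (LK LD1_c17 LD2_c24 LD3_c49))))))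
theorem f13904 : Led Lsl_ft (LP (LK LD1_c27 LD2_c14 LD3_c38)) = (LP (LK LD1_c17 LD2_c25 LD3_c26)) :=
  Lre_f IH (LK LD1_c27 LD2_c14 LD3_c38) (LK LD1_c17 LD2_c25 LD3_c26) Lrfl Lrfl
theorem f13826 : Led Lsl_ct (LP (LK LD1_c9 LD2_c26 LD3_c39)) = (LP (LK LD1_c17 LD2_c24 LD3_c49)) :=
  Lre_c IH (LK LD1_c9 LD2_c26 LD3_c39) (LK LD1_c17 LD2_c24 LD3_c49) Lrfl Lrfl
theorem f13853 : Led Lsl_dt (LP (LK LD1_c4 LD2_c46 LD3_c55)) = (LP (LK LD1_c9 LD2_c26 LD3_c39)) :=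
  Lre_d IH (LK LD1_c4 LD2_c46 LD3_c55) (LK LD1_c9 LD2_c26 LD3_c39) Lrfl Lrfl
theorem f13909 : Led Lsl_ct (LP (LK LD1_c2 LD2_c21 LD3_c22)) = (LP (LK LD1_c4 LD2_c46 LD3_c55)) :=
  Lre_c IH (LK LD1_c2 LD2_c21 LD3_c22) (LK LD1_c4 LD2_c46 LD3_c55) Lrfl Lrfl
theorem f13910 : Led Lsl_dt (LP (LK LD1_c4 LD2_c46 LD3_c58)) = (LP (LK LD1_c2 LD2_c21 LD3_c22)) :=
  Lre_d IH (LK LD1_c4 LD2_c46 LD3_c58) (LK LD1_c2 LD2_c21 LD3_c22) Lrfl Lrfl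
theorem f13911 : Led Lsl_ct (LP (LK LD1_c9 LD2_c26 LD3_c50)) = (LP (LK LD1_c4 LD2_c46 LD3_c58)) :=
  Lre_c IH (LK LD1_c9 LD2_c26 LD3_c50) (LK LD1_c4 LD2_c46 LD3_c58) Lrfl Lrfl
theorem f13912 : Led Lsl_dt (LP (LK LD1_c17 LD2_c25 LD3_c16)) = (LP (LK LD1_c9 LD2_c26 LD3_c50)) :=
  Lre_d IH (LK LD1_c17 LD2_c25 LD3_c16) (LK LD1_c9 LD2_c26 LD3_c50) Lrfl Lrfl
theorem f13913 : Led Lsl_ct (LP (LK LD1_c27 LD2_c14 LD3_c35)) = (LP (LK LD1_c17 LD2_c25 LD3_c16)) :=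
  Lre_c IH (LK LD1_c27 LD2_c14 LD3_c35) (LK LD1_c17 LD2_c25 LD3_c16) Lrfl Lrfl
theorem f13914 : Led Lsl_dt (LP (LK LD1_c27 LD2_c14 LD3_c38)) = (LP (LK LD1_c27 LD2_c14 LD3_c35)) :=
  Lgr Lrot159 (Lpr_ft (f13904 IH) (Lpr_at (f13896 IH) (Lpe (f13826 IH) (Lpe (f13853 IH) (Lpe (f13909 IH) (Lpe (f13910 IH) (Lpe (f13911 IH) (Lpe (f13912 IH) (Lpe (f13913 IH) (Lpn (LP (LK LD1_c27 LD2_c14 LD3_c35))))))))))))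
theorem f13916 : Led Lsl_ct (LP (LK LD1_c17 LD2_c25 LD3_c19)) = (LP (LK LD1_c27 LD2_c14 LD3_c38)) :=
  Lre_c IH (LK LD1_c17 LD2_c25 LD3_c19) (LK LD1_c27 LD2_c14 LD3_c38) Lrfl Lrfl
theorem f13917 : Led Lsl_dt (LP (LK LD1_c9 LD2_c26 LD3_c52)) = (LP (LK LD1_c17 LD2_c25 LD3_c19)) :=
  Lre_d IH (LK LD1_c9 LD2_c26 LD3_c52) (LK LD1_c17 LD2_c25 LD3_c19) Lrfl Lrfl
theorem f13927 : Led Lsl_at (LP (LK LD1_c9 LD2_c23 LD3_c29)) = (LP (LK LD1_c4 LD2_c46 LD3_c58)) :=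
  Lre_a IH (LK LD1_c9 LD2_c23 LD3_c29) (LK LD1_c4 LD2_c46 LD3_c58) Lrfl Lrfl
theorem f13928 : Led Lsl_ft (LP (LK LD1_c17 LD2_c20 LD3_c16)) = (LP (LK LD1_c9 LD2_c23 LD3_c29)) :=
  Lre_f IH (LK LD1_c17 LD2_c20 LD3_c16) (LK LD1_c9 LD2_c23 LD3_c29) Lrfl Lrfl
theorem f13929 : Led Lsl_dt (LP (LK LD1_c17 LD2_c20 LD3_c16)) = (LP (LK LD1_c9 LD2_c23 LD3_c30)) :=
  Lre_d IH (LK LD1_c17 LD2_c20 LD3_c16) (LK LD1_c9 LD2_c23 LD3_c30) Lrfl Lrfl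
theorem f13930 : Led Lsl_cf (LP (LK LD1_c9 LD2_c26 LD3_c52)) = (LP (LK LD1_c9 LD2_c23 LD3_c30)) :=
  Lgr Lrot118 (Lpr_dt (f13917 IH) (Lpr_ct (f13916 IH) (Lpr_dt (f13914 IH) (Lpr_ct (f13913 IH) (Lpr_dt (f13912 IH) (Lpr_ct (f13911 IH) (Lpe (f13927 IH) (Lpe (f13928 IH) (Lpr_dt (f13929 IH) (Lpn (LP (LK LD1_c9 LD2_c23 LD3_c30))))))))))))
theorem f13946 : Led Lsl_et (LP (LK LD1_c9 LD2_c26 LD3_c52)) = (LP (LK LD1_c4 LD2_c46 LD3_c59)) :=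
  Lre_e IH (LK LD1_c9 LD2_c26 LD3_c52) (LK LD1_c4 LD2_c46 LD3_c59) Lrfl Lrfl
theorem f13947 : Led Lsl_ct (LP (LK LD1_c4 LD2_c46 LD3_c59)) = (LP (LK LD1_c9 LD2_c26 LD3_c40)) :=
  Lre_c IH (LK LD1_c4 LD2_c46 LD3_c59) (LK LD1_c9 LD2_c26 LD3_c40) Lrfl Lrfl
theorem f13948 : Led Lsl_et (LP (LK LD1_c9 LD2_c26 LD3_c40)) = (LP (LK LD1_c9 LD2_c23 LD3_c30)) :=
  Lgr Lrot158 (Lpe (f13947 IH) (Lpe (f13946 IH) (Lpr_cf (f13930 IH) (Lpn (LP (LK LD1_c9 LD2_c23 LD3_c30))))))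
theorem f13972 : Led Lsl_bt (LP (LK LD1_c17 LD2_c24 LD3_c42)) = (LP (LK LD1_c9 LD2_c26 LD3_c40)) :=
  Lre_b IH (LK LD1_c17 LD2_c24 LD3_c42) (LK LD1_c9 LD2_c26 LD3_c40) Lrfl Lrfl
theorem f13967 : Led Lsl_bt (LP (LK LD1_c9 LD2_c23 LD3_c30)) = (LP (LK LD1_c17 LD2_c19 LD3_c61)) :=
  Lre_b IH (LK LD1_c9 LD2_c23 LD3_c30) (LK LD1_c17 LD2_c19 LD3_c61) Lrfl Lrfl
theorem f13973 : Led Lsl_ef (LP (LK LD1_c17 LD2_c24 LD3_c42)) = (LP (LK LD1_c17 LD2_c19 LD3_c61)) :=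
  Lgr Lrot29 (Lpr_bt (f13972 IH) (Lpr_et (f13948 IH) (Lpr_bt (f13967 IH) (Lpn (LP (LK LD1_c17 LD2_c19 LD3_c61))))))
theorem f13991 : Led Lsl_ft (LP (LK LD1_c17 LD2_c24 LD3_c42)) = (LP (LK LD1_c9 LD2_c26 LD3_c36)) :=
  Lre_f IH (LK LD1_c17 LD2_c24 LD3_c42) (LK LD1_c9 LD2_c26 LD3_c36) Lrfl Lrfl
theorem f13992 : Led Lsl_et (LP (LK LD1_c9 LD2_c26 LD3_c36)) = (LP (LK LD1_c4 LD2_c46 LD3_c54)) :=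
  Lre_e IH (LK LD1_c9 LD2_c26 LD3_c36) (LK LD1_c4 LD2_c46 LD3_c54) Lrfl Lrfl
theorem f13993 : Led Lsl_ft (LP (LK LD1_c9 LD2_c23 LD3_c23)) = (LP (LK LD1_c17 LD2_c19 LD3_c61)) :=
  Lre_f IH (LK LD1_c9 LD2_c23 LD3_c23) (LK LD1_c17 LD2_c19 LD3_c61) Lrfl Lrfl
theorem f13994 : Led Lsl_et (LP (LK LD1_c4 LD2_c45 LD3_c19)) = (LP (LK LD1_c9 LD2_c23 LD3_c23)) :=
  Lre_e IH (LK LD1_c4 LD2_c45 LD3_c19) (LK LD1_c9 LD2_c23 LD3_c23) Lrfl Lrfl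
theorem f13995 : Led Lsl_ft (LP (LK LD1_c4 LD2_c46 LD3_c54)) = (LP (LK LD1_c4 LD2_c45 LD3_c19)) :=
  Lgr Lrot86 (Lpe (f13992 IH) (Lpe (f13991 IH) (Lpr_ef (f13973 IH) (Lpe (f13993 IH) (Lpe (f13994 IH) (Lpn (LP (LK LD1_c4 LD2_c45 LD3_c19))))))))
theorem f14003 : Led Lsl_ct (LP (LK LD1_c9 LD2_c26 LD3_c7)) = (LP (LK LD1_c4 LD2_c46 LD3_c54)) :=
  Lre_c IH (LK LD1_c9 LD2_c26 LD3_c7) (LK LD1_c4 LD2_c46 LD3_c54) Lrfl Lrfl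
theorem f14004 : Led Lsl_ft (LP (LK LD1_c6 LD2_c0 LD3_c47)) = (LP (LK LD1_c9 LD2_c26 LD3_c7)) :=
  Lre_f IH (LK LD1_c6 LD2_c0 LD3_c47) (LK LD1_c9 LD2_c26 LD3_c7) Lrfl Lrfl
theorem f14005 : Led Lsl_cf (LP (LK LD1_c6 LD2_c0 LD3_c47)) = (LP (LK LD1_c4 LD2_c45 LD3_c19)) :=
  Lgr Lrot108 (Lpr_ft (f14004 IH) (Lpr_ct (f14003 IH) (Lpr_ft (f13995 IH) (Lpn (LP (LK LD1_c4 LD2_c45 LD3_c19))))))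
theorem f14037 : Led Lsl_dt (LP (LK LD1_c6 LD2_c0 LD3_c47)) = (LP (LK LD1_c9 LD2_c47 LD3_c18)) :=
  Lre_d IH (LK LD1_c6 LD2_c0 LD3_c47) (LK LD1_c9 LD2_c47 LD3_c18) Lrfl Lrfl
theorem f14038 : Led Lsl_ct (LP (LK LD1_c9 LD2_c47 LD3_c18)) = (LP (LK LD1_c6 LD2_c49 LD3_c39)) :=
  Lre_c IH (LK LD1_c9 LD2_c47 LD3_c18) (LK LD1_c6 LD2_c49 LD3_c39) Lrfl Lrfl
theorem f14039 : Led Lsl_dt (LP (LK LD1_c2 LD2_c20 LD3_c46)) = (LP (LK LD1_c4 LD2_c45 LD3_c19)) :=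
  Lre_d IH (LK LD1_c2 LD2_c20 LD3_c46) (LK LD1_c4 LD2_c45 LD3_c19) Lrfl Lrfl
theorem f14040 : Led Lsl_ct (LP (LK LD1_c1 LD2_c34 LD3_c52)) = (LP (LK LD1_c2 LD2_c20 LD3_c46)) :=
  Lre_c IH (LK LD1_c1 LD2_c34 LD3_c52) (LK LD1_c2 LD2_c20 LD3_c46) Lrfl Lrfl
theorem f14041 : Led Lsl_dt (LP (LK LD1_c3 LD2_c16 LD3_c16)) = (LP (LK LD1_c1 LD2_c34 LD3_c52)) :=
  Lre_d IH (LK LD1_c3 LD2_c16 LD3_c16) (LK LD1_c1 LD2_c34 LD3_c52) Lrfl Lrfl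
theorem f14052 : Led Lsl_ft (LP (LK LD1_c3 LD2_c16 LD3_c16)) = (LP (LK LD1_c1 LD2_c52 LD3_c32)) :=
  Lre_f IH (LK LD1_c3 LD2_c16 LD3_c16) (LK LD1_c1 LD2_c52 LD3_c32) Lrfl Lrfl
theorem f14053 : Led Lsl_at (LP (LK LD1_c1 LD2_c52 LD3_c32)) = (LP (LK LD1_c3 LD2_c51 LD3_c29)) :=
  Lre_a IH (LK LD1_c1 LD2_c52 LD3_c32) (LK LD1_c3 LD2_c51 LD3_c29) Lrfl Lrfl
theorem f14054 : Led Lsl_ct (LP (LK LD1_c7 LD2_c43 LD3_c11)) = (LP (LK LD1_c3 LD2_c51 LD3_c29)) :=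
  Lre_c IH (LK LD1_c7 LD2_c43 LD3_c11) (LK LD1_c3 LD2_c51 LD3_c29) Lrfl Lrfl
theorem f14055 : Led Lsl_dt (LP (LK LD1_c6 LD2_c49 LD3_c39)) = (LP (LK LD1_c7 LD2_c43 LD3_c11)) :=
  Lgr Lrot120 (Lpe (f14038 IH) (Lpe (f14037 IH) (Lpr_cf (f14005 IH) (Lpe (f14039 IH) (Lpe (f14040 IH) (Lpe (f14041 IH) (Lpr_ft (f14052 IH) (Lpr_at (f14053 IH) (Lpe (f14054 IH) (Lpn (LP (LK LD1_c7 LD2_c43 LD3_c11))))))))))))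
theorem f14084 : Led Lsl_df (LP (LK LD1_c6 LD2_c49 LD3_c39)) = (LP (LK LD1_c7 LD2_c43 LD3_c11)) :=
  Lgr Lrot38 (Lpr_dt (f14055 IH) (Lpn (LP (LK LD1_c7 LD2_c43 LD3_c11))))
theorem f14391 : Led Lsl_bt (LP (LK LD1_c6 LD2_c49 LD3_c39)) = (LP (LK LD1_c3 LD2_c23 LD3_c36)) :=
  Lre_b IH (LK LD1_c6 LD2_c49 LD3_c39) (LK LD1_c3 LD2_c23 LD3_c36) Lrfl Lrfl
theorem f14392 : Led Lsl_dt (LP (LK LD1_c3 LD2_c23 LD3_c36)) = (LP (LK LD1_c6 LD2_c50 LD3_c26)) :=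
  Lre_d IH (LK LD1_c3 LD2_c23 LD3_c36) (LK LD1_c6 LD2_c50 LD3_c26) Lrfl Lrfl
theorem f14393 : Led Lsl_bt (LP (LK LD1_c6 LD2_c50 LD3_c26)) = (LP (LK LD1_c7 LD2_c43 LD3_c11)) :=
  Lgr Lrot95 (Lpe (f14392 IH) (Lpe (f14391 IH) (Lpr_df (f14084 IH) (Lpn (LP (LK LD1_c7 LD2_c43 LD3_c11))))))
theorem f14406 : Led Lsl_et (LP (LK LD1_c13 LD2_c1 LD3_c39)) = (LP (LK LD1_c6 LD2_c50 LD3_c26)) :=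
  Lre_e IH (LK LD1_c13 LD2_c1 LD3_c39) (LK LD1_c6 LD2_c50 LD3_c26) Lrfl Lrfl
theorem f14087 : Led Lsl_et (LP (LK LD1_c7 LD2_c43 LD3_c11)) = (LP (LK LD1_c14 LD2_c33 LD3_c7)) :=
  Lre_e IH (LK LD1_c7 LD2_c43 LD3_c11) (LK LD1_c14 LD2_c33 LD3_c7) Lrfl Lrfl
theorem f14407 : Led Lsl_bf (LP (LK LD1_c13 LD2_c1 LD3_c39)) = (LP (LK LD1_c14 LD2_c33 LD3_c7)) :=
  Lgr Lrot96 (Lpr_et (f14406 IH) (Lpr_bt (f14393 IH) (Lpr_et (f14087 IH) (Lpn (LP (LK LD1_c14 LD2_c33 LD3_c7))))))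
theorem f14415 : Led Lsl_bt (LP (LK LD1_c13 LD2_c1 LD3_c39)) = (LP (LK LD1_c14 LD2_c33 LD3_c7)) :=
  Lgr Lrot127 (Lpr_bf (f14407 IH) (Lpn (LP (LK LD1_c14 LD2_c33 LD3_c7))))
theorem f14423 : Led Lsl_at (LP (LK LD1_c6 LD2_c50 LD3_c30)) = (LP (LK LD1_c13 LD2_c1 LD3_c39)) :=
  Lre_a IH (LK LD1_c6 LD2_c50 LD3_c30) (LK LD1_c13 LD2_c1 LD3_c39) Lrfl Lrfl
theorem f14424 : Led Lsl_bt (LP (LK LD1_c3 LD2_c23 LD3_c41)) = (LP (LK LD1_c6 LD2_c50 LD3_c30)) :=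
  Lre_b IH (LK LD1_c3 LD2_c23 LD3_c41) (LK LD1_c6 LD2_c50 LD3_c30) Lrfl Lrfl
theorem f14425 : Led Lsl_at (LP (LK LD1_c14 LD2_c33 LD3_c7)) = (LP (LK LD1_c7 LD2_c43 LD3_c12)) :=
  Lre_a IH (LK LD1_c14 LD2_c33 LD3_c7) (LK LD1_c7 LD2_c43 LD3_c12) Lrfl Lrfl
theorem f14426 : Led Lsl_bt (LP (LK LD1_c7 LD2_c43 LD3_c12)) = (LP (LK LD1_c3 LD2_c51 LD3_c0)) :=
  Lre_b IH (LK LD1_c7 LD2_c43 LD3_c12) (LK LD1_c3 LD2_c51 LD3_c0) Lrfl Lrfl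
theorem f14427 : Led Lsl_af (LP (LK LD1_c3 LD2_c23 LD3_c41)) = (LP (LK LD1_c3 LD2_c51 LD3_c0)) :=
  Lgr Lrot36 (Lpr_bt (f14424 IH) (Lpr_at (f14423 IH) (Lpr_bt (f14415 IH) (Lpr_at (f14425 IH) (Lpr_bt (f14426 IH) (Lpn (LP (LK LD1_c3 LD2_c51 LD3_c0))))))))
theorem f14443 : Led Lsl_ft (LP (LK LD1_c3 LD2_c23 LD3_c41)) = (LP (LK LD1_c6 LD2_c50 LD3_c40)) :=
  Lre_f IH (LK LD1_c3 LD2_c23 LD3_c41) (LK LD1_c6 LD2_c50 LD3_c40) Lrfl Lrfl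
theorem f14444 : Led Lsl_ft (LP (LK LD1_c7 LD2_c43 LD3_c16)) = (LP (LK LD1_c3 LD2_c51 LD3_c0)) :=
  Lre_f IH (LK LD1_c7 LD2_c43 LD3_c16) (LK LD1_c3 LD2_c51 LD3_c0) Lrfl Lrfl
theorem f14445 : Led Lsl_at (LP (LK LD1_c6 LD2_c50 LD3_c40)) = (LP (LK LD1_c7 LD2_c43 LD3_c16)) :=
  Lgr Lrot66 (Lpe (f14443 IH) (Lpr_af (f14427 IH) (Lpe (f14444 IH) (Lpn (LP (LK LD1_c7 LD2_c43 LD3_c16))))))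
theorem f14455 : Led Lsl_ct (LP (LK LD1_c7 LD2_c43 LD3_c16)) = (LP (LK LD1_c3 LD2_c51 LD3_c4)) :=
  Lre_c IH (LK LD1_c7 LD2_c43 LD3_c16) (LK LD1_c3 LD2_c51 LD3_c4) Lrfl Lrfl
theorem f14472 : Led Lsl_at (LP (LK LD1_c3 LD2_c51 LD3_c4)) = (LP (LK LD1_c7 LD2_c42 LD3_c56)) :=
  Lre_a IH (LK LD1_c3 LD2_c51 LD3_c4) (LK LD1_c7 LD2_c42 LD3_c56) Lrfl Lrfl
theorem f14473 : Led Lsl_cf (LP (LK LD1_c6 LD2_c50 LD3_c40)) = (LP (LK LD1_c7 LD2_c42 LD3_c56)) :=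
  Lgr Lrot1 (Lpr_at (f14445 IH) (Lpr_ct (f14455 IH) (Lpr_at (f14472 IH) (Lpn (LP (LK LD1_c7 LD2_c42 LD3_c56))))))
theorem f14492 : Led Lsl_ct (LP (LK LD1_c6 LD2_c50 LD3_c40)) = (LP (LK LD1_c7 LD2_c42 LD3_c56)) :=
  Lgr Lrot59 (Lpr_cf (f14473 IH) (Lpn (LP (LK LD1_c7 LD2_c42 LD3_c56))))
theorem f14512 : Led Lsl_ft (LP (LK LD1_c7 LD2_c42 LD3_c56)) = (LP (LK LD1_c3 LD2_c50 LD3_c53)) :=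
  Lre_f IH (LK LD1_c7 LD2_c42 LD3_c56) (LK LD1_c3 LD2_c50 LD3_c53) Lrfl Lrfl
theorem f14513 : Led Lsl_cf (LP (LK LD1_c3 LD2_c23 LD3_c41)) = (LP (LK LD1_c3 LD2_c50 LD3_c53)) :=
  Lgr Lrot108 (Lpr_ft (f14443 IH) (Lpr_ct (f14492 IH) (Lpr_ft (f14512 IH) (Lpn (LP (LK LD1_c3 LD2_c50 LD3_c53))))))
theorem f14439 : Led Lsl_et (LP (LK LD1_c3 LD2_c23 LD3_c41)) = (LP (LK LD1_c1 LD2_c38 LD3_c8)) :=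
  Lre_e IH (LK LD1_c3 LD2_c23 LD3_c41) (LK LD1_c1 LD2_c38 LD3_c8) Lrfl Lrfl
theorem f14530 : Led Lsl_et (LP (LK LD1_c1 LD2_c52 LD3_c19)) = (LP (LK LD1_c3 LD2_c50 LD3_c53)) :=
  Lre_e IH (LK LD1_c1 LD2_c52 LD3_c19) (LK LD1_c3 LD2_c50 LD3_c53) Lrfl Lrfl
theorem f14531 : Led Lsl_ct (LP (LK LD1_c1 LD2_c38 LD3_c8)) = (LP (LK LD1_c1 LD2_c52 LD3_c19)) :=
  Lgr Lrot15 (Lpe (f14439 IH) (Lpr_cf (f14513 IH) (Lpe (f14530 IH) (Lpn (LP (LK LD1_c1 LD2_c52 LD3_c19))))))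
theorem f14552 : Led Lsl_dt (LP (LK LD1_c0 LD2_c45 LD3_c29)) = (LP (LK LD1_c1 LD2_c38 LD3_c8)) :=
  Lre_d IH (LK LD1_c0 LD2_c45 LD3_c29) (LK LD1_c1 LD2_c38 LD3_c8) Lrfl Lrfl
theorem f14553 : Led Lsl_ct (LP (LK LD1_c0 LD2_c20 LD3_c17)) = (LP (LK LD1_c0 LD2_c45 LD3_c29)) :=
  Lre_c IH (LK LD1_c0 LD2_c20 LD3_c17) (LK LD1_c0 LD2_c45 LD3_c29) Lrfl Lrfl
theorem f14554 : Led Lsl_dt (LP (LK LD1_c0 LD2_c9 LD3_c8)) = (LP (LK LD1_c0 LD2_c20 LD3_c17)) :=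
  Lre_d IH (LK LD1_c0 LD2_c9 LD3_c8) (LK LD1_c0 LD2_c20 LD3_c17) Lrfl Lrfl
theorem f12570 : Led Lsl_ct (LP (LK LD1_c0 LD2_c4 LD3_c26)) = (LP (LK LD1_c0 LD2_c9 LD3_c8)) :=
  Lre_c IH (LK LD1_c0 LD2_c4 LD3_c26) (LK LD1_c0 LD2_c9 LD3_c8) Lrfl Lrfl
theorem f11976 : Led Lsl_dt (LP (LK LD1_c0 LD2_c9 LD3_c28)) = (LP (LK LD1_c0 LD2_c4 LD3_c26)) :=
  Lre_d IH (LK LD1_c0 LD2_c9 LD3_c28) (LK LD1_c0 LD2_c4 LD3_c26) Lrfl Lrfl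
theorem f14559 : Led Lsl_dt (LP (LK LD1_c1 LD2_c52 LD3_c19)) = (LP (LK LD1_c0 LD2_c52 LD3_c54)) :=
  Lre_d IH (LK LD1_c1 LD2_c52 LD3_c19) (LK LD1_c0 LD2_c52 LD3_c54) Lrfl Lrfl
theorem f14560 : Led Lsl_ct (LP (LK LD1_c0 LD2_c52 LD3_c54)) = (LP (LK LD1_c0 LD2_c24 LD3_c14)) :=
  Lre_c IH (LK LD1_c0 LD2_c52 LD3_c54) (LK LD1_c0 LD2_c24 LD3_c14) Lrfl Lrfl
theorem f14573 : Led Lsl_at (LP (LK LD1_c0 LD2_c10 LD3_c48)) = (LP (LK LD1_c0 LD2_c24 LD3_c14)) :=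
  Lre_a IH (LK LD1_c0 LD2_c10 LD3_c48) (LK LD1_c0 LD2_c24 LD3_c14) Lrfl Lrfl
theorem f14574 : Led Lsl_ft (LP (LK LD1_c0 LD2_c9 LD3_c28)) = (LP (LK LD1_c0 LD2_c10 LD3_c48)) :=
  Lgr Lrot142 (Lpr_dt (f11976 IH) (Lpr_ct (f12570 IH) (Lpr_dt (f14554 IH) (Lpr_ct (f14553 IH) (Lpr_dt (f14552 IH) (Lpr_ct (f14531 IH) (Lpr_dt (f14559 IH) (Lpr_ct (f14560 IH) (Lpe (f14573 IH) (Lpn (LP (LK LD1_c0 LD2_c10 LD3_c48))))))))))))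
theorem f14598 : Led Lsl_ff (LP (LK LD1_c0 LD2_c9 LD3_c28)) = (LP (LK LD1_c0 LD2_c10 LD3_c48)) :=
  Lgr Lrot3 (Lpr_ft (f14574 IH) (Lpn (LP (LK LD1_c0 LD2_c10 LD3_c48))))
theorem f14613 : Led Lsl_at (LP (LK LD1_c0 LD2_c9 LD3_c28)) = (LP (LK LD1_c0 LD2_c20 LD3_c52)) :=
  Lre_a IH (LK LD1_c0 LD2_c9 LD3_c28) (LK LD1_c0 LD2_c20 LD3_c52) Lrfl Lrfl
theorem f11840 : Led Lsl_gt (LP (LK LD1_c0 LD2_c10 LD3_c48)) = (LP (LK LD1_c0 LD2_c24 LD3_c12)) :=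
  Lre_g IH (LK LD1_c0 LD2_c10 LD3_c48) (LK LD1_c0 LD2_c24 LD3_c12) Lrfl Lrfl
theorem f14630 : Led Lsl_gf (LP (LK LD1_c0 LD2_c20 LD3_c52)) = (LP (LK LD1_c0 LD2_c24 LD3_c12)) :=
  Lgr Lrot76 (Lpe (f14613 IH) (Lpr_ff (f14598 IH) (Lpr_gt (f11840 IH) (Lpn (LP (LK LD1_c0 LD2_c24 LD3_c12))))))
theorem f9771 : Led Lsl_dt (LP (LK LD1_c0 LD2_c20 LD3_c52)) = (LP (LK LD1_c0 LD2_c9 LD3_c27)) :=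
  Lre_d IH (LK LD1_c0 LD2_c20 LD3_c52) (LK LD1_c0 LD2_c9 LD3_c27) Lrfl Lrfl
theorem f9772 : Led Lsl_dt (LP (LK LD1_c0 LD2_c9 LD3_c27)) = (LP (LK LD1_c0 LD2_c20 LD3_c52)) :=
  Lre_d IH (LK LD1_c0 LD2_c9 LD3_c27) (LK LD1_c0 LD2_c20 LD3_c52) Lrfl Lrfl
theorem f9773 : Led Lsl_bf (LP (LK LD1_c0 LD2_c20 LD3_c52)) = (LP (LK LD1_c0 LD2_c20 LD3_c52)) :=
  Lgr Lrot93 (Lpr_dt (f9771 IH) (Lpr_bt (f9761 IH) (Lpr_dt (f9772 IH) (Lpn (LP (LK LD1_c0 LD2_c20 LD3_c52))))))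
theorem f14638 : Led Lsl_ct (LP (LK LD1_c0 LD2_c20 LD3_c52)) = (LP (LK LD1_c0 LD2_c46 LD3_c27)) :=
  Lre_c IH (LK LD1_c0 LD2_c20 LD3_c52) (LK LD1_c0 LD2_c46 LD3_c27) Lrfl Lrfl
theorem f11251 : Led Lsl_bt (LP (LK LD1_c0 LD2_c4 LD3_c59)) = (LP (LK LD1_c0 LD2_c2 LD3_c16)) :=
  Lre_b IH (LK LD1_c0 LD2_c4 LD3_c59) (LK LD1_c0 LD2_c2 LD3_c16) Lrfl Lrfl
theorem f11541 : Led Lsl_ct (LP (LK LD1_c0 LD2_c4 LD3_c59)) = (LP (LK LD1_c0 LD2_c10 LD3_c40)) :=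
  Lre_c IH (LK LD1_c0 LD2_c4 LD3_c59) (LK LD1_c0 LD2_c10 LD3_c40) Lrfl Lrfl
theorem f12192 : Led Lsl_gt (LP (LK LD1_c0 LD2_c23 LD3_c50)) = (LP (LK LD1_c0 LD2_c10 LD3_c40)) :=
  Lre_g IH (LK LD1_c0 LD2_c23 LD3_c50) (LK LD1_c0 LD2_c10 LD3_c40) Lrfl Lrfl
theorem f12193 : Led Lsl_ct (LP (LK LD1_c0 LD2_c52 LD3_c50)) = (LP (LK LD1_c0 LD2_c23 LD3_c50)) :=
  Lre_c IH (LK LD1_c0 LD2_c52 LD3_c50) (LK LD1_c0 LD2_c23 LD3_c50) Lrfl Lrfl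
theorem f12194 : Led Lsl_bt (LP (LK LD1_c0 LD2_c5 LD3_c1)) = (LP (LK LD1_c0 LD2_c10 LD3_c48)) :=
  Lre_b IH (LK LD1_c0 LD2_c5 LD3_c1) (LK LD1_c0 LD2_c10 LD3_c48) Lrfl Lrfl
theorem f12195 : Led Lsl_bt (LP (LK LD1_c0 LD2_c52 LD3_c50)) = (LP (LK LD1_c0 LD2_c24 LD3_c12)) :=
  Lgr Lrot92 (Lpr_ct (f12193 IH) (Lpr_gt (f12192 IH) (Lpe (f11541 IH) (Lpr_bt (f11251 IH) (Lpr_gt (f11511 IH) (Lpr_ct (f12149 IH) (Lpr_gt (f11021 IH) (Lpe (f3881 IH) (Lpr_bt (f12194 IH) (Lpr_gt (f11840 IH) (Lpn (LP (LK LD1_c0 LD2_c24 LD3_c12)))))))))))))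
theorem f12209 : Led Lsl_gt (LP (LK LD1_c0 LD2_c51 LD3_c28)) = (LP (LK LD1_c0 LD2_c23 LD3_c50)) :=
  Lre_g IH (LK LD1_c0 LD2_c51 LD3_c28) (LK LD1_c0 LD2_c23 LD3_c50) Lrfl Lrfl
theorem f12210 : Led Lsl_ct (LP (LK LD1_c0 LD2_c23 LD3_c13)) = (LP (LK LD1_c0 LD2_c51 LD3_c28)) :=
  Lre_c IH (LK LD1_c0 LD2_c23 LD3_c13) (LK LD1_c0 LD2_c51 LD3_c28) Lrfl Lrfl
theorem f12211 : Led Lsl_gt (LP (LK LD1_c0 LD2_c10 LD3_c38)) = (LP (LK LD1_c0 LD2_c23 LD3_c13)) :=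
  Lre_g IH (LK LD1_c0 LD2_c10 LD3_c38) (LK LD1_c0 LD2_c23 LD3_c13) Lrfl Lrfl
theorem f11519 : Led Lsl_bt (LP (LK LD1_c0 LD2_c23 LD3_c43)) = (LP (LK LD1_c0 LD2_c10 LD3_c38)) :=
  Lre_b IH (LK LD1_c0 LD2_c23 LD3_c43) (LK LD1_c0 LD2_c10 LD3_c38) Lrfl Lrfl
theorem f11520 : Led Lsl_ct (LP (LK LD1_c0 LD2_c23 LD3_c43)) = (LP (LK LD1_c0 LD2_c52 LD3_c26)) :=
  Lre_c IH (LK LD1_c0 LD2_c23 LD3_c43) (LK LD1_c0 LD2_c52 LD3_c26) Lrfl Lrfl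
theorem f14643 : Led Lsl_gt (LP (LK LD1_c0 LD2_c46 LD3_c27)) = (LP (LK LD1_c0 LD2_c52 LD3_c26)) :=
  Lgr Lrot65 (Lpe (f14638 IH) (Lpe (f9773 IH) (Lpr_gf (f14630 IH) (Lpe (f12195 IH) (Lpr_ct (f12193 IH) (Lpe (f12209 IH) (Lpe (f12210 IH) (Lpe (f12211 IH) (Lpe (f11519 IH) (Lpr_ct (f11520 IH) (Lpn (LP (LK LD1_c0 LD2_c52 LD3_c26)))))))))))))
theorem f14651 : Led Lsl_bt (LP (LK LD1_c0 LD2_c23 LD3_c13)) = (LP (LK LD1_c0 LD2_c23 LD3_c13)) :=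
  Lgr Lrot92 (Lpr_ct (f12210 IH) (Lpr_gt (f12209 IH) (Lpe (f12193 IH) (Lpr_bt (f12195 IH) (Lpe (f14630 IH) (Lpr_ct (f14638 IH) (Lpr_gt (f14643 IH) (Lpe (f11520 IH) (Lpr_bt (f11519 IH) (Lpr_gt (f12211 IH) (Lpn (LP (LK LD1_c0 LD2_c23 LD3_c13)))))))))))))
theorem f14661 : Led Lsl_ct (LP (LK LD1_c0 LD2_c51 LD3_c28)) = (LP (LK LD1_c0 LD2_c23 LD3_c13)) :=
  Lre_c IH (LK LD1_c0 LD2_c51 LD3_c28) (LK LD1_c0 LD2_c23 LD3_c13) Lrfl Lrfl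
theorem f14662 : Led Lsl_bt (LP (LK LD1_c1 LD2_c49 LD3_c20)) = (LP (LK LD1_c0 LD2_c51 LD3_c28)) :=
  Lre_b IH (LK LD1_c1 LD2_c49 LD3_c20) (LK LD1_c0 LD2_c51 LD3_c28) Lrfl Lrfl
theorem f14663 : Led Lsl_bt (LP (LK LD1_c0 LD2_c51 LD3_c28)) = (LP (LK LD1_c1 LD2_c49 LD3_c20)) :=
  Lre_b IH (LK LD1_c0 LD2_c51 LD3_c28) (LK LD1_c1 LD2_c49 LD3_c20) Lrfl Lrfl
theorem f14664 : Led Lsl_cf (LP (LK LD1_c1 LD2_c49 LD3_c20)) = (LP (LK LD1_c1 LD2_c49 LD3_c20)) :=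
  Lgr Lrot97 (Lpr_bt (f14662 IH) (Lpr_ct (f14661 IH) (Lpr_bt (f14651 IH) (Lpr_ct (f12210 IH) (Lpr_bt (f14663 IH) (Lpn (LP (LK LD1_c1 LD2_c49 LD3_c20))))))))
theorem f14711 : Led Lsl_dt (LP (LK LD1_c1 LD2_c49 LD3_c20)) = (LP (LK LD1_c3 LD2_c17 LD3_c61)) :=
  Lre_d IH (LK LD1_c1 LD2_c49 LD3_c20) (LK LD1_c3 LD2_c17 LD3_c61) Lrfl Lrfl
theorem f14712 : Led Lsl_ct (LP (LK LD1_c3 LD2_c17 LD3_c61)) = (LP (LK LD1_c6 LD2_c39 LD3_c16)) :=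
  Lre_c IH (LK LD1_c3 LD2_c17 LD3_c61) (LK LD1_c6 LD2_c39 LD3_c16) Lrfl Lrfl
theorem f14713 : Led Lsl_dt (LP (LK LD1_c6 LD2_c39 LD3_c16)) = (LP (LK LD1_c8 LD2_c49 LD3_c39)) :=
  Lre_d IH (LK LD1_c6 LD2_c39 LD3_c16) (LK LD1_c8 LD2_c49 LD3_c39) Lrfl Lrfl
theorem f14714 : Led Lsl_dt (LP (LK LD1_c3 LD2_c17 LD3_c61)) = (LP (LK LD1_c1 LD2_c49 LD3_c20)) :=
  Lre_d IH (LK LD1_c3 LD2_c17 LD3_c61) (LK LD1_c1 LD2_c49 LD3_c20) Lrfl Lrfl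
theorem f14715 : Led Lsl_ct (LP (LK LD1_c6 LD2_c39 LD3_c16)) = (LP (LK LD1_c3 LD2_c17 LD3_c61)) :=
  Lre_c IH (LK LD1_c6 LD2_c39 LD3_c16) (LK LD1_c3 LD2_c17 LD3_c61) Lrfl Lrfl
theorem f14716 : Led Lsl_dt (LP (LK LD1_c8 LD2_c49 LD3_c39)) = (LP (LK LD1_c6 LD2_c39 LD3_c16)) :=
  Lre_d IH (LK LD1_c8 LD2_c49 LD3_c39) (LK LD1_c6 LD2_c39 LD3_c16) Lrfl Lrfl
theorem f14725 : Led Lsl_ft (LP (LK LD1_c8 LD2_c49 LD3_c39)) = (LP (LK LD1_c7 LD2_c36 LD3_c18)) :=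
  Lre_f IH (LK LD1_c8 LD2_c49 LD3_c39) (LK LD1_c7 LD2_c36 LD3_c18) Lrfl Lrfl
theorem f14726 : Led Lsl_at (LP (LK LD1_c7 LD2_c36 LD3_c18)) = (LP (LK LD1_c14 LD2_c19 LD3_c50)) :=
  Lre_a IH (LK LD1_c7 LD2_c36 LD3_c18) (LK LD1_c14 LD2_c19 LD3_c50) Lrfl Lrfl
theorem f14727 : Led Lsl_ct (LP (LK LD1_c8 LD2_c49 LD3_c39)) = (LP (LK LD1_c14 LD2_c19 LD3_c50)) :=
  Lgr Lrot98 (Lpe (f14713 IH) (Lpe (f14712 IH) (Lpe (f14711 IH) (Lpr_cf (f14664 IH) (Lpe (f14714 IH) (Lpe (f14715 IH) (Lpe (f14716 IH) (Lpr_ft (f14725 IH) (Lpr_at (f14726 IH) (Lpn (LP (LK LD1_c14 LD2_c19 LD3_c50))))))))))))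
theorem f14749 : Led Lsl_cf (LP (LK LD1_c8 LD2_c49 LD3_c39)) = (LP (LK LD1_c14 LD2_c19 LD3_c50)) :=
  Lgr Lrot11 (Lpr_ct (f14727 IH) (Lpn (LP (LK LD1_c14 LD2_c19 LD3_c50))))
theorem f14751 : Led Lsl_dt (LP (LK LD1_c7 LD2_c36 LD3_c4)) = (LP (LK LD1_c14 LD2_c19 LD3_c50)) :=
  Lre_d IH (LK LD1_c7 LD2_c36 LD3_c4) (LK LD1_c14 LD2_c19 LD3_c50) Lrfl Lrfl
theorem f14547 : Led Lsl_ct (LP (LK LD1_c3 LD2_c47 LD3_c37)) = (LP (LK LD1_c7 LD2_c36 LD3_c4)) :=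
  Lre_c IH (LK LD1_c3 LD2_c47 LD3_c37) (LK LD1_c7 LD2_c36 LD3_c4) Lrfl Lrfl
theorem f14752 : Led Lsl_dt (LP (LK LD1_c1 LD2_c50 LD3_c53)) = (LP (LK LD1_c3 LD2_c47 LD3_c37)) :=
  Lre_d IH (LK LD1_c1 LD2_c50 LD3_c53) (LK LD1_c3 LD2_c47 LD3_c37) Lrfl Lrfl
theorem f14729 : Led Lsl_dt (LP (LK LD1_c14 LD2_c19 LD3_c50)) = (LP (LK LD1_c7 LD2_c36 LD3_c4)) :=
  Lre_d IH (LK LD1_c14 LD2_c19 LD3_c50) (LK LD1_c7 LD2_c36 LD3_c4) Lrfl Lrfl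
theorem f14730 : Led Lsl_ct (LP (LK LD1_c7 LD2_c36 LD3_c4)) = (LP (LK LD1_c3 LD2_c47 LD3_c37)) :=
  Lre_c IH (LK LD1_c7 LD2_c36 LD3_c4) (LK LD1_c3 LD2_c47 LD3_c37) Lrfl Lrfl
theorem f14753 : Led Lsl_dt (LP (LK LD1_c3 LD2_c47 LD3_c37)) = (LP (LK LD1_c1 LD2_c50 LD3_c53)) :=
  Lre_d IH (LK LD1_c3 LD2_c47 LD3_c37) (LK LD1_c1 LD2_c50 LD3_c53) Lrfl Lrfl
theorem f14754 : Led Lsl_cf (LP (LK LD1_c1 LD2_c50 LD3_c53)) = (LP (LK LD1_c1 LD2_c50 LD3_c53)) :=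
  Lgr Lrot55 (Lpr_dt (f14752 IH) (Lpr_ct (f14547 IH) (Lpr_dt (f14751 IH) (Lpe (f14749 IH) (Lpr_dt (f14716 IH) (Lpr_ct (f14715 IH) (Lpr_dt (f14714 IH) (Lpe (f14664 IH) (Lpr_dt (f14711 IH) (Lpr_ct (f14712 IH) (Lpr_dt (f14713 IH) (Lpr_ct (f14727 IH) (Lpr_dt (f14729 IH) (Lpr_ct (f14730 IH) (Lpr_dt (f14753 IH) (Lpn (LP (LK LD1_c1 LD2_c50 LD3_c53))))))))))))))))))
theorem f14764 : Led Lsl_bt (LP (LK LD1_c1 LD2_c50 LD3_c53)) = (LP (LK LD1_c0 LD2_c52 LD3_c54)) :=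
  Lre_b IH (LK LD1_c1 LD2_c50 LD3_c53) (LK LD1_c0 LD2_c52 LD3_c54) Lrfl Lrfl
theorem f14605 : Led Lsl_bt (LP (LK LD1_c0 LD2_c52 LD3_c54)) = (LP (LK LD1_c1 LD2_c50 LD3_c53)) :=
  Lre_b IH (LK LD1_c0 LD2_c52 LD3_c54) (LK LD1_c1 LD2_c50 LD3_c53) Lrfl Lrfl
theorem f14581 : Led Lsl_ct (LP (LK LD1_c0 LD2_c24 LD3_c14)) = (LP (LK LD1_c0 LD2_c52 LD3_c54)) :=
  Lre_c IH (LK LD1_c0 LD2_c24 LD3_c14) (LK LD1_c0 LD2_c52 LD3_c54) Lrfl Lrfl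
theorem f14765 : Led Lsl_bt (LP (LK LD1_c0 LD2_c24 LD3_c14)) = (LP (LK LD1_c0 LD2_c24 LD3_c14)) :=
  Lgr Lrot128 (Lpe (f14560 IH) (Lpe (f14764 IH) (Lpr_cf (f14754 IH) (Lpe (f14605 IH) (Lpe (f14581 IH) (Lpn (LP (LK LD1_c0 LD2_c24 LD3_c14))))))))
theorem f9878 : Led Lsl_ct (LP (LK LD1_c0 LD2_c20 LD3_c55)) = (LP (LK LD1_c0 LD2_c9 LD3_c28)) :=
  Lre_c IH (LK LD1_c0 LD2_c20 LD3_c55) (LK LD1_c0 LD2_c9 LD3_c28) Lrfl Lrfl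
theorem f14555 : Led Lsl_dt (LP (LK LD1_c0 LD2_c46 LD3_c37)) = (LP (LK LD1_c0 LD2_c20 LD3_c55)) :=
  Lre_d IH (LK LD1_c0 LD2_c46 LD3_c37) (LK LD1_c0 LD2_c20 LD3_c55) Lrfl Lrfl
theorem f14556 : Led Lsl_ct (LP (LK LD1_c1 LD2_c40 LD3_c16)) = (LP (LK LD1_c0 LD2_c46 LD3_c37)) :=
  Lre_c IH (LK LD1_c1 LD2_c40 LD3_c16) (LK LD1_c0 LD2_c46 LD3_c37) Lrfl Lrfl
theorem f14557 : Led Lsl_dt (LP (LK LD1_c3 LD2_c22 LD3_c52)) = (LP (LK LD1_c1 LD2_c40 LD3_c16)) :=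
  Lre_d IH (LK LD1_c3 LD2_c22 LD3_c52) (LK LD1_c1 LD2_c40 LD3_c16) Lrfl Lrfl
theorem f14558 : Led Lsl_ct (LP (LK LD1_c1 LD2_c37 LD3_c48)) = (LP (LK LD1_c3 LD2_c22 LD3_c52)) :=
  Lre_c IH (LK LD1_c1 LD2_c37 LD3_c48) (LK LD1_c3 LD2_c22 LD3_c52) Lrfl Lrfl
theorem f13516 : Led Lsl_dt (LP (LK LD1_c0 LD2_c45 LD3_c21)) = (LP (LK LD1_c1 LD2_c37 LD3_c48)) :=
  Lre_d IH (LK LD1_c0 LD2_c45 LD3_c21) (LK LD1_c1 LD2_c37 LD3_c48) Lrfl Lrfl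
theorem f9791 : Led Lsl_ct (LP (LK LD1_c0 LD2_c20 LD3_c42)) = (LP (LK LD1_c0 LD2_c45 LD3_c21)) :=
  Lre_c IH (LK LD1_c0 LD2_c20 LD3_c42) (LK LD1_c0 LD2_c45 LD3_c21) Lrfl Lrfl
theorem f14561 : Led Lsl_df (LP (LK LD1_c0 LD2_c20 LD3_c42)) = (LP (LK LD1_c0 LD2_c24 LD3_c14)) :=
  Lgr Lrot43 (Lpr_ct (f9791 IH) (Lpr_dt (f13516 IH) (Lpr_ct (f14558 IH) (Lpr_dt (f14557 IH) (Lpr_ct (f14556 IH) (Lpr_dt (f14555 IH) (Lpr_ct (f9878 IH) (Lpr_dt (f11976 IH) (Lpr_ct (f12570 IH) (Lpr_dt (f14554 IH) (Lpr_ct (f14553 IH) (Lpr_dt (f14552 IH) (Lpr_ct (f14531 IH) (Lpr_dt (f14559 IH) (Lpr_ct (f14560 IH) (Lpn (LP (LK LD1_c0 LD2_c24 LD3_c14))))))))))))))))))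
theorem f14974 : Led Lsl_df (LP (LK LD1_c0 LD2_c24 LD3_c14)) = (LP (LK LD1_c0 LD2_c20 LD3_c42)) :=
  Lgr Lrot12 (Lpr_bt (f14765 IH) (Lpe (f14561 IH) (Lpe (f9781 IH) (Lpn (LP (LK LD1_c0 LD2_c20 LD3_c42))))))
theorem f14579 : Led Lsl_dt (LP (LK LD1_c0 LD2_c52 LD3_c54)) = (LP (LK LD1_c1 LD2_c52 LD3_c19)) :=
  Lre_d IH (LK LD1_c0 LD2_c52 LD3_c54) (LK LD1_c1 LD2_c52 LD3_c19) Lrfl Lrfl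
theorem f14550 : Led Lsl_cf (LP (LK LD1_c1 LD2_c38 LD3_c8)) = (LP (LK LD1_c1 LD2_c52 LD3_c19)) :=
  Lgr Lrot11 (Lpr_ct (f14531 IH) (Lpn (LP (LK LD1_c1 LD2_c52 LD3_c19))))
theorem f14401 : Led Lsl_at (LP (LK LD1_c3 LD2_c23 LD3_c37)) = (LP (LK LD1_c6 LD2_c50 LD3_c26)) :=
  Lre_a IH (LK LD1_c3 LD2_c23 LD3_c37) (LK LD1_c6 LD2_c50 LD3_c26) Lrfl Lrfl
theorem f14402 : Led Lsl_bt (LP (LK LD1_c1 LD2_c38 LD3_c8)) = (LP (LK LD1_c3 LD2_c23 LD3_c37)) :=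
  Lre_b IH (LK LD1_c1 LD2_c38 LD3_c8) (LK LD1_c3 LD2_c23 LD3_c37) Lrfl Lrfl
theorem f14075 : Led Lsl_at (LP (LK LD1_c7 LD2_c43 LD3_c11)) = (LP (LK LD1_c3 LD2_c50 LD3_c61)) :=
  Lre_a IH (LK LD1_c7 LD2_c43 LD3_c11) (LK LD1_c3 LD2_c50 LD3_c61) Lrfl Lrfl
theorem f14403 : Led Lsl_bt (LP (LK LD1_c3 LD2_c50 LD3_c61)) = (LP (LK LD1_c1 LD2_c52 LD3_c22)) :=
  Lre_b IH (LK LD1_c3 LD2_c50 LD3_c61) (LK LD1_c1 LD2_c52 LD3_c22) Lrfl Lrfl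
theorem f14404 : Led Lsl_af (LP (LK LD1_c1 LD2_c38 LD3_c8)) = (LP (LK LD1_c1 LD2_c52 LD3_c22)) :=
  Lgr Lrot36 (Lpr_bt (f14402 IH) (Lpr_at (f14401 IH) (Lpr_bt (f14393 IH) (Lpr_at (f14075 IH) (Lpr_bt (f14403 IH) (Lpn (LP (LK LD1_c1 LD2_c52 LD3_c22))))))))
theorem f9792 : Led Lsl_ct (LP (LK LD1_c0 LD2_c45 LD3_c21)) = (LP (LK LD1_c0 LD2_c20 LD3_c42)) :=
  Lre_c IH (LK LD1_c0 LD2_c45 LD3_c21) (LK LD1_c0 LD2_c20 LD3_c42) Lrfl Lrfl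
theorem f9804 : Led Lsl_dt (LP (LK LD1_c1 LD2_c37 LD3_c48)) = (LP (LK LD1_c0 LD2_c45 LD3_c21)) :=
  Lre_d IH (LK LD1_c1 LD2_c37 LD3_c48) (LK LD1_c0 LD2_c45 LD3_c21) Lrfl Lrfl
theorem f14980 : Led Lsl_ct (LP (LK LD1_c3 LD2_c22 LD3_c52)) = (LP (LK LD1_c1 LD2_c37 LD3_c48)) :=
  Lre_c IH (LK LD1_c3 LD2_c22 LD3_c52) (LK LD1_c1 LD2_c37 LD3_c48) Lrfl Lrfl
theorem f14979 : Led Lsl_dt (LP (LK LD1_c1 LD2_c40 LD3_c16)) = (LP (LK LD1_c3 LD2_c22 LD3_c52)) :=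
  Lre_d IH (LK LD1_c1 LD2_c40 LD3_c16) (LK LD1_c3 LD2_c22 LD3_c52) Lrfl Lrfl
theorem f14984 : Led Lsl_ff (LP (LK LD1_c1 LD2_c52 LD3_c22)) = (LP (LK LD1_c1 LD2_c40 LD3_c16)) :=
  Lgr Lrot103 (Lpe (f14404 IH) (Lpr_cf (f14550 IH) (Lpe (f14579 IH) (Lpe (f14581 IH) (Lpr_df (f14974 IH) (Lpe (f9792 IH) (Lpe (f9804 IH) (Lpe (f14980 IH) (Lpe (f14979 IH) (Lpn (LP (LK LD1_c1 LD2_c40 LD3_c16))))))))))))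
theorem f15003 : Led Lsl_ft (LP (LK LD1_c1 LD2_c52 LD3_c22)) = (LP (LK LD1_c1 LD2_c40 LD3_c16)) :=
  Lgr Lrot48 (Lpr_ff (f14984 IH) (Lpn (LP (LK LD1_c1 LD2_c40 LD3_c16))))
theorem f15019 : Led Lsl_ft (LP (LK LD1_c3 LD2_c22 LD3_c52)) = (LP (LK LD1_c1 LD2_c37 LD3_c59)) :=
  Lre_f IH (LK LD1_c3 LD2_c22 LD3_c52) (LK LD1_c1 LD2_c37 LD3_c59) Lrfl Lrfl
theorem f15020 : Led Lsl_df (LP (LK LD1_c1 LD2_c52 LD3_c22)) = (LP (LK LD1_c1 LD2_c37 LD3_c59)) :=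
  Lgr Lrot78 (Lpr_ft (f15003 IH) (Lpr_dt (f14979 IH) (Lpr_ft (f15019 IH) (Lpn (LP (LK LD1_c1 LD2_c37 LD3_c59))))))
theorem f11838 : Led Lsl_ct (LP (LK LD1_c1 LD2_c52 LD3_c22)) = (LP (LK LD1_c0 LD2_c52 LD3_c55)) :=
  Lre_c IH (LK LD1_c1 LD2_c52 LD3_c22) (LK LD1_c0 LD2_c52 LD3_c55) Lrfl Lrfl
theorem f14543 : Led Lsl_at (LP (LK LD1_c1 LD2_c52 LD3_c19)) = (LP (LK LD1_c0 LD2_c52 LD3_c55)) :=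
  Lre_a IH (LK LD1_c1 LD2_c52 LD3_c19) (LK LD1_c0 LD2_c52 LD3_c55) Lrfl Lrfl
theorem f15040 : Led Lsl_ct (LP (LK LD1_c0 LD2_c45 LD3_c26)) = (LP (LK LD1_c1 LD2_c37 LD3_c59)) :=
  Lre_c IH (LK LD1_c0 LD2_c45 LD3_c26) (LK LD1_c1 LD2_c37 LD3_c59) Lrfl Lrfl
theorem f15039 : Led Lsl_dt (LP (LK LD1_c0 LD2_c20 LD3_c16)) = (LP (LK LD1_c0 LD2_c45 LD3_c26)) :=
  Lre_d IH (LK LD1_c0 LD2_c20 LD3_c16) (LK LD1_c0 LD2_c45 LD3_c26) Lrfl Lrfl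
theorem f14632 : Led Lsl_ct (LP (LK LD1_c0 LD2_c46 LD3_c27)) = (LP (LK LD1_c0 LD2_c20 LD3_c52)) :=
  Lre_c IH (LK LD1_c0 LD2_c46 LD3_c27) (LK LD1_c0 LD2_c20 LD3_c52) Lrfl Lrfl
theorem f14633 : Led Lsl_dt (LP (LK LD1_c1 LD2_c39 LD3_c48)) = (LP (LK LD1_c0 LD2_c46 LD3_c27)) :=
  Lre_d IH (LK LD1_c1 LD2_c39 LD3_c48) (LK LD1_c0 LD2_c46 LD3_c27) Lrfl Lrfl
theorem f15042 : Led Lsl_ff (LP (LK LD1_c1 LD2_c52 LD3_c19)) = (LP (LK LD1_c1 LD2_c39 LD3_c48)) :=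
  Lgr Lrot103 (Lpr_at (f14543 IH) (Lpe (f11838 IH) (Lpr_df (f15020 IH) (Lpe (f15040 IH) (Lpe (f15039 IH) (Lpe (f9760 IH) (Lpe (f9771 IH) (Lpe (f14632 IH) (Lpe (f14633 IH) (Lpn (LP (LK LD1_c1 LD2_c39 LD3_c48))))))))))))
theorem f14639 : Led Lsl_dt (LP (LK LD1_c0 LD2_c46 LD3_c27)) = (LP (LK LD1_c1 LD2_c39 LD3_c48)) :=
  Lre_d IH (LK LD1_c0 LD2_c46 LD3_c27) (LK LD1_c1 LD2_c39 LD3_c48) Lrfl Lrfl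
theorem f15055 : Led Lsl_ft (LP (LK LD1_c0 LD2_c52 LD3_c54)) = (LP (LK LD1_c0 LD2_c46 LD3_c27)) :=
  Lgr Lrot54 (Lpe (f14559 IH) (Lpr_ff (f15042 IH) (Lpe (f14639 IH) (Lpn (LP (LK LD1_c0 LD2_c46 LD3_c27))))))
theorem f15060 : Led Lsl_et (LP (LK LD1_c1 LD2_c52 LD3_c20)) = (LP (LK LD1_c0 LD2_c52 LD3_c54)) :=
  Lre_e IH (LK LD1_c1 LD2_c52 LD3_c20) (LK LD1_c0 LD2_c52 LD3_c54) Lrfl Lrfl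
theorem f15061 : Led Lsl_ft (LP (LK LD1_c3 LD2_c50 LD3_c57)) = (LP (LK LD1_c1 LD2_c52 LD3_c20)) :=
  Lre_f IH (LK LD1_c3 LD2_c50 LD3_c57) (LK LD1_c1 LD2_c52 LD3_c20) Lrfl Lrfl
theorem f15062 : Led Lsl_et (LP (LK LD1_c0 LD2_c46 LD3_c27)) = (LP (LK LD1_c1 LD2_c39 LD3_c49)) :=
  Lre_e IH (LK LD1_c0 LD2_c46 LD3_c27) (LK LD1_c1 LD2_c39 LD3_c49) Lrfl Lrfl
theorem f15063 : Led Lsl_ft (LP (LK LD1_c1 LD2_c39 LD3_c49)) = (LP (LK LD1_c3 LD2_c26 LD3_c16)) :=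
  Lre_f IH (LK LD1_c1 LD2_c39 LD3_c49) (LK LD1_c3 LD2_c26 LD3_c16) Lrfl Lrfl
theorem f15064 : Led Lsl_ef (LP (LK LD1_c3 LD2_c50 LD3_c57)) = (LP (LK LD1_c3 LD2_c26 LD3_c16)) :=
  Lgr Lrot21 (Lpr_ft (f15061 IH) (Lpr_et (f15060 IH) (Lpr_ft (f15055 IH) (Lpr_et (f15062 IH) (Lpr_ft (f15063 IH) (Lpn (LP (LK LD1_c3 LD2_c26 LD3_c16))))))))
theorem f15293 : Led Lsl_et (LP (LK LD1_c3 LD2_c50 LD3_c57)) = (LP (LK LD1_c3 LD2_c26 LD3_c16)) :=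
  Lgr Lrot87 (Lpr_ef (f15064 IH) (Lpn (LP (LK LD1_c3 LD2_c26 LD3_c16))))
theorem f14851 : Led Lsl_dt (LP (LK LD1_c7 LD2_c43 LD3_c2)) = (LP (LK LD1_c3 LD2_c50 LD3_c57)) :=
  Lre_d IH (LK LD1_c7 LD2_c43 LD3_c2) (LK LD1_c3 LD2_c50 LD3_c57) Lrfl Lrfl
theorem f15312 : Led Lsl_et (LP (LK LD1_c14 LD2_c32 LD3_c54)) = (LP (LK LD1_c7 LD2_c43 LD3_c2)) :=
  Lre_e IH (LK LD1_c14 LD2_c32 LD3_c54) (LK LD1_c7 LD2_c43 LD3_c2) Lrfl Lrfl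
theorem f15295 : Led Lsl_dt (LP (LK LD1_c3 LD2_c26 LD3_c16)) = (LP (LK LD1_c6 LD2_c54 LD3_c29)) :=
  Lre_d IH (LK LD1_c3 LD2_c26 LD3_c16) (LK LD1_c6 LD2_c54 LD3_c29) Lrfl Lrfl
theorem f15313 : Led Lsl_et (LP (LK LD1_c6 LD2_c54 LD3_c29)) = (LP (LK LD1_c13 LD2_c7 LD3_c39)) :=
  Lre_e IH (LK LD1_c6 LD2_c54 LD3_c29) (LK LD1_c13 LD2_c7 LD3_c39) Lrfl Lrfl
theorem f15314 : Led Lsl_df (LP (LK LD1_c14 LD2_c32 LD3_c54)) = (LP (LK LD1_c13 LD2_c7 LD3_c39)) :=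
  Lgr Lrot70 (Lpr_et (f15312 IH) (Lpr_dt (f14851 IH) (Lpr_et (f15293 IH) (Lpr_dt (f15295 IH) (Lpr_et (f15313 IH) (Lpn (LP (LK LD1_c13 LD2_c7 LD3_c39))))))))
theorem f15327 : Led Lsl_at (LP (LK LD1_c14 LD2_c32 LD3_c54)) = (LP (LK LD1_c7 LD2_c43 LD3_c53)) :=
  Lre_a IH (LK LD1_c14 LD2_c32 LD3_c54) (LK LD1_c7 LD2_c43 LD3_c53) Lrfl Lrfl
theorem f15328 : Led Lsl_at (LP (LK LD1_c6 LD2_c57 LD3_c15)) = (LP (LK LD1_c13 LD2_c7 LD3_c39)) :=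
  Lre_a IH (LK LD1_c6 LD2_c57 LD3_c15) (LK LD1_c13 LD2_c7 LD3_c39) Lrfl Lrfl
theorem f15329 : Led Lsl_dt (LP (LK LD1_c7 LD2_c43 LD3_c53)) = (LP (LK LD1_c6 LD2_c57 LD3_c15)) :=
  Lgr Lrot44 (Lpe (f15327 IH) (Lpr_df (f15314 IH) (Lpe (f15328 IH) (Lpn (LP (LK LD1_c6 LD2_c57 LD3_c15))))))
theorem f15348 : Led Lsl_df (LP (LK LD1_c7 LD2_c43 LD3_c53)) = (LP (LK LD1_c6 LD2_c57 LD3_c15)) :=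
  Lgr Lrot38 (Lpr_dt (f15329 IH) (Lpn (LP (LK LD1_c6 LD2_c57 LD3_c15))))
theorem f15381 : Led Lsl_bt (LP (LK LD1_c7 LD2_c43 LD3_c53)) = (LP (LK LD1_c3 LD2_c52 LD3_c24)) :=
  Lre_b IH (LK LD1_c7 LD2_c43 LD3_c53) (LK LD1_c3 LD2_c52 LD3_c24) Lrfl Lrfl
theorem f15382 : Led Lsl_dt (LP (LK LD1_c3 LD2_c52 LD3_c24)) = (LP (LK LD1_c7 LD2_c46 LD3_c41)) :=
  Lre_d IH (LK LD1_c3 LD2_c52 LD3_c24) (LK LD1_c7 LD2_c46 LD3_c41) Lrfl Lrfl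
theorem f15383 : Led Lsl_bt (LP (LK LD1_c7 LD2_c46 LD3_c41)) = (LP (LK LD1_c6 LD2_c57 LD3_c15)) :=
  Lgr Lrot95 (Lpe (f15382 IH) (Lpe (f15381 IH) (Lpr_df (f15348 IH) (Lpn (LP (LK LD1_c6 LD2_c57 LD3_c15))))))
theorem f15401 : Led Lsl_et (LP (LK LD1_c3 LD2_c52 LD3_c25)) = (LP (LK LD1_c7 LD2_c46 LD3_c41)) :=
  Lre_e IH (LK LD1_c3 LD2_c52 LD3_c25) (LK LD1_c7 LD2_c46 LD3_c41) Lrfl Lrfl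
theorem f15353 : Led Lsl_et (LP (LK LD1_c6 LD2_c57 LD3_c15)) = (LP (LK LD1_c3 LD2_c27 LD3_c31)) :=
  Lre_e IH (LK LD1_c6 LD2_c57 LD3_c15) (LK LD1_c3 LD2_c27 LD3_c31) Lrfl Lrfl
theorem f15402 : Led Lsl_bf (LP (LK LD1_c3 LD2_c52 LD3_c25)) = (LP (LK LD1_c3 LD2_c27 LD3_c31)) :=
  Lgr Lrot96 (Lpr_et (f15401 IH) (Lpr_bt (f15383 IH) (Lpr_et (f15353 IH) (Lpn (LP (LK LD1_c3 LD2_c27 LD3_c31))))))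
theorem f15427 : Led Lsl_ft (LP (LK LD1_c3 LD2_c52 LD3_c25)) = (LP (LK LD1_c1 LD2_c52 LD3_c54)) :=
  Lre_f IH (LK LD1_c3 LD2_c52 LD3_c25) (LK LD1_c1 LD2_c52 LD3_c54) Lrfl Lrfl
theorem f15428 : Led Lsl_ft (LP (LK LD1_c1 LD2_c40 LD3_c20)) = (LP (LK LD1_c3 LD2_c27 LD3_c31)) :=
  Lre_f IH (LK LD1_c1 LD2_c40 LD3_c20) (LK LD1_c3 LD2_c27 LD3_c31) Lrfl Lrfl
theorem f15429 : Led Lsl_bt (LP (LK LD1_c1 LD2_c52 LD3_c54)) = (LP (LK LD1_c1 LD2_c40 LD3_c20)) :=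
  Lgr Lrot35 (Lpe (f15427 IH) (Lpr_bf (f15402 IH) (Lpe (f15428 IH) (Lpn (LP (LK LD1_c1 LD2_c40 LD3_c20))))))
theorem f15455 : Led Lsl_et (LP (LK LD1_c3 LD2_c51 LD3_c50)) = (LP (LK LD1_c1 LD2_c52 LD3_c54)) :=
  Lre_e IH (LK LD1_c3 LD2_c51 LD3_c50) (LK LD1_c1 LD2_c52 LD3_c54) Lrfl Lrfl
theorem f15456 : Led Lsl_et (LP (LK LD1_c1 LD2_c40 LD3_c20)) = (LP (LK LD1_c3 LD2_c27 LD3_c21)) :=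
  Lre_e IH (LK LD1_c1 LD2_c40 LD3_c20) (LK LD1_c3 LD2_c27 LD3_c21) Lrfl Lrfl
theorem f15457 : Led Lsl_bf (LP (LK LD1_c3 LD2_c51 LD3_c50)) = (LP (LK LD1_c3 LD2_c27 LD3_c21)) :=
  Lgr Lrot96 (Lpr_et (f15455 IH) (Lpr_bt (f15429 IH) (Lpr_et (f15456 IH) (Lpn (LP (LK LD1_c3 LD2_c27 LD3_c21))))))
theorem f15483 : Led Lsl_dt (LP (LK LD1_c3 LD2_c51 LD3_c50)) = (LP (LK LD1_c1 LD2_c52 LD3_c38)) :=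
  Lre_d IH (LK LD1_c3 LD2_c51 LD3_c50) (LK LD1_c1 LD2_c52 LD3_c38) Lrfl Lrfl
theorem f15484 : Led Lsl_dt (LP (LK LD1_c1 LD2_c40 LD3_c17)) = (LP (LK LD1_c3 LD2_c27 LD3_c21)) :=
  Lre_d IH (LK LD1_c1 LD2_c40 LD3_c17) (LK LD1_c3 LD2_c27 LD3_c21) Lrfl Lrfl
theorem f15485 : Led Lsl_bt (LP (LK LD1_c1 LD2_c52 LD3_c38)) = (LP (LK LD1_c1 LD2_c40 LD3_c17)) :=
  Lgr Lrot95 (Lpe (f15483 IH) (Lpr_bf (f15457 IH) (Lpe (f15484 IH) (Lpn (LP (LK LD1_c1 LD2_c40 LD3_c17))))))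
theorem f15511 : Led Lsl_et (LP (LK LD1_c0 LD2_c52 LD3_c61)) = (LP (LK LD1_c1 LD2_c52 LD3_c38)) :=
  Lre_e IH (LK LD1_c0 LD2_c52 LD3_c61) (LK LD1_c1 LD2_c52 LD3_c38) Lrfl Lrfl
theorem f15512 : Led Lsl_et (LP (LK LD1_c1 LD2_c40 LD3_c17)) = (LP (LK LD1_c0 LD2_c46 LD3_c37)) :=
  Lre_e IH (LK LD1_c1 LD2_c40 LD3_c17) (LK LD1_c0 LD2_c46 LD3_c37) Lrfl Lrfl
theorem f15513 : Led Lsl_bf (LP (LK LD1_c0 LD2_c52 LD3_c61)) = (LP (LK LD1_c0 LD2_c46 LD3_c37)) :=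
  Lgr Lrot96 (Lpr_et (f15511 IH) (Lpr_bt (f15485 IH) (Lpr_et (f15512 IH) (Lpn (LP (LK LD1_c0 LD2_c46 LD3_c37))))))
theorem f15528 : Led Lsl_bt (LP (LK LD1_c0 LD2_c52 LD3_c61)) = (LP (LK LD1_c0 LD2_c46 LD3_c37)) :=
  Lgr Lrot127 (Lpr_bf (f15513 IH) (Lpn (LP (LK LD1_c0 LD2_c46 LD3_c37))))
theorem f15088 : Led Lsl_dt (LP (LK LD1_c0 LD2_c23 LD3_c54)) = (LP (LK LD1_c0 LD2_c52 LD3_c61)) :=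
  Lre_d IH (LK LD1_c0 LD2_c23 LD3_c54) (LK LD1_c0 LD2_c52 LD3_c61) Lrfl Lrfl
theorem f15609 : Led Lsl_bf (LP (LK LD1_c0 LD2_c23 LD3_c54)) = (LP (LK LD1_c0 LD2_c20 LD3_c55)) :=
  Lgr Lrot93 (Lpr_dt (f15088 IH) (Lpr_bt (f15528 IH) (Lpr_dt (f14555 IH) (Lpn (LP (LK LD1_c0 LD2_c20 LD3_c55))))))
theorem f15622 : Led Lsl_et (LP (LK LD1_c0 LD2_c23 LD3_c54)) = (LP (LK LD1_c0 LD2_c53 LD3_c4)) :=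
  Lre_e IH (LK LD1_c0 LD2_c23 LD3_c54) (LK LD1_c0 LD2_c53 LD3_c4) Lrfl Lrfl
theorem f15623 : Led Lsl_et (LP (LK LD1_c0 LD2_c46 LD3_c38)) = (LP (LK LD1_c0 LD2_c20 LD3_c55)) :=
  Lre_e IH (LK LD1_c0 LD2_c46 LD3_c38) (LK LD1_c0 LD2_c20 LD3_c55) Lrfl Lrfl
theorem f15624 : Led Lsl_bt (LP (LK LD1_c0 LD2_c53 LD3_c4)) = (LP (LK LD1_c0 LD2_c46 LD3_c38)) :=
  Lgr Lrot119 (Lpe (f15622 IH) (Lpr_bf (f15609 IH) (Lpe (f15623 IH) (Lpn (LP (LK LD1_c0 LD2_c46 LD3_c38))))))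
theorem f15680 : Led Lsl_ft (LP (LK LD1_c1 LD2_c52 LD3_c51)) = (LP (LK LD1_c0 LD2_c53 LD3_c4)) :=
  Lre_f IH (LK LD1_c1 LD2_c52 LD3_c51) (LK LD1_c0 LD2_c53 LD3_c4) Lrfl Lrfl
theorem f15681 : Led Lsl_ft (LP (LK LD1_c0 LD2_c46 LD3_c38)) = (LP (LK LD1_c1 LD2_c40 LD3_c21)) :=
  Lre_f IH (LK LD1_c0 LD2_c46 LD3_c38) (LK LD1_c1 LD2_c40 LD3_c21) Lrfl Lrfl
theorem f15682 : Led Lsl_bf (LP (LK LD1_c1 LD2_c52 LD3_c51)) = (LP (LK LD1_c1 LD2_c40 LD3_c21)) :=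
  Lgr Lrot61 (Lpr_ft (f15680 IH) (Lpr_bt (f15624 IH) (Lpr_ft (f15681 IH) (Lpn (LP (LK LD1_c1 LD2_c40 LD3_c21))))))
theorem f15705 : Led Lsl_ct (LP (LK LD1_c1 LD2_c52 LD3_c51)) = (LP (LK LD1_c0 LD2_c53 LD3_c13)) :=
  Lre_c IH (LK LD1_c1 LD2_c52 LD3_c51) (LK LD1_c0 LD2_c53 LD3_c13) Lrfl Lrfl
theorem f11161 : Led Lsl_bt (LP (LK LD1_c0 LD2_c53 LD3_c13)) = (LP (LK LD1_c0 LD2_c24 LD3_c27)) :=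
  Lre_b IH (LK LD1_c0 LD2_c53 LD3_c13) (LK LD1_c0 LD2_c24 LD3_c27) Lrfl Lrfl
theorem f15706 : Led Lsl_ct (LP (LK LD1_c0 LD2_c46 LD3_c41)) = (LP (LK LD1_c1 LD2_c40 LD3_c21)) :=
  Lre_c IH (LK LD1_c0 LD2_c46 LD3_c41) (LK LD1_c1 LD2_c40 LD3_c21) Lrfl Lrfl
theorem f15707 : Led Lsl_bt (LP (LK LD1_c0 LD2_c20 LD3_c60)) = (LP (LK LD1_c0 LD2_c46 LD3_c41)) :=
  Lre_b IH (LK LD1_c0 LD2_c20 LD3_c60) (LK LD1_c0 LD2_c46 LD3_c41) Lrfl Lrfl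
theorem f15708 : Led Lsl_ct (LP (LK LD1_c0 LD2_c24 LD3_c27)) = (LP (LK LD1_c0 LD2_c20 LD3_c60)) :=
  Lgr Lrot83 (Lpe (f11161 IH) (Lpe (f15705 IH) (Lpr_bf (f15682 IH) (Lpe (f15706 IH) (Lpe (f15707 IH) (Lpn (LP (LK LD1_c0 LD2_c20 LD3_c60))))))))
theorem f11178 : Led Lsl_ct (LP (LK LD1_c0 LD2_c24 LD3_c19)) = (LP (LK LD1_c0 LD2_c10 LD3_c52)) :=
  Lre_c IH (LK LD1_c0 LD2_c24 LD3_c19) (LK LD1_c0 LD2_c10 LD3_c52) Lrfl Lrfl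
theorem f15726 : Led Lsl_ef (LP (LK LD1_c0 LD2_c24 LD3_c19)) = (LP (LK LD1_c0 LD2_c20 LD3_c60)) :=
  Lgr Lrot28 (Lpr_ct (f11178 IH) (Lpr_et (f11167 IH) (Lpr_ct (f15708 IH) (Lpn (LP (LK LD1_c0 LD2_c20 LD3_c60))))))
theorem f15732 : Led Lsl_et (LP (LK LD1_c0 LD2_c24 LD3_c19)) = (LP (LK LD1_c0 LD2_c20 LD3_c60)) :=
  Lgr Lrot87 (Lpr_ef (f15726 IH) (Lpn (LP (LK LD1_c0 LD2_c20 LD3_c60))))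
theorem f11177 : Led Lsl_ct (LP (LK LD1_c0 LD2_c10 LD3_c52)) = (LP (LK LD1_c0 LD2_c24 LD3_c19)) :=
  Lre_c IH (LK LD1_c0 LD2_c10 LD3_c52) (LK LD1_c0 LD2_c24 LD3_c19) Lrfl Lrfl
theorem f11179 : Led Lsl_at (LP (LK LD1_c0 LD2_c24 LD3_c19)) = (LP (LK LD1_c0 LD2_c24 LD3_c19)) :=
  Lgr Lrot107 (Lpe (f11177 IH) (Lpr_af (f11169 IH) (Lpe (f11178 IH) (Lpn (LP (LK LD1_c0 LD2_c24 LD3_c19))))))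
theorem f15737 : Led Lsl_af (LP (LK LD1_c0 LD2_c20 LD3_c60)) = (LP (LK LD1_c0 LD2_c20 LD3_c60)) :=
  Lgr Lrot50 (Lpe (f15726 IH) (Lpr_at (f11179 IH) (Lpr_et (f15732 IH) (Lpn (LP (LK LD1_c0 LD2_c20 LD3_c60))))))
theorem f15728 : Led Lsl_ft (LP (LK LD1_c0 LD2_c20 LD3_c60)) = (LP (LK LD1_c0 LD2_c9 LD3_c30)) :=
  Lre_f IH (LK LD1_c0 LD2_c20 LD3_c60) (LK LD1_c0 LD2_c9 LD3_c30) Lrfl Lrfl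
theorem f15736 : Led Lsl_ft (LP (LK LD1_c0 LD2_c9 LD3_c30)) = (LP (LK LD1_c0 LD2_c20 LD3_c60)) :=
  Lre_f IH (LK LD1_c0 LD2_c9 LD3_c30) (LK LD1_c0 LD2_c20 LD3_c60) Lrfl Lrfl
theorem f15746 : Led Lsl_at (LP (LK LD1_c0 LD2_c9 LD3_c30)) = (LP (LK LD1_c0 LD2_c9 LD3_c30)) :=
  Lgr Lrot66 (Lpe (f15728 IH) (Lpr_af (f15737 IH) (Lpe (f15736 IH) (Lpn (LP (LK LD1_c0 LD2_c9 LD3_c30))))))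
theorem f15675 : Led Lsl_bt (LP (LK LD1_c0 LD2_c20 LD3_c56)) = (LP (LK LD1_c0 LD2_c9 LD3_c30)) :=
  Lre_b IH (LK LD1_c0 LD2_c20 LD3_c56) (LK LD1_c0 LD2_c9 LD3_c30) Lrfl Lrfl
theorem f15762 : Led Lsl_at (LP (LK LD1_c0 LD2_c46 LD3_c28)) = (LP (LK LD1_c0 LD2_c20 LD3_c56)) :=
  Lre_a IH (LK LD1_c0 LD2_c46 LD3_c28) (LK LD1_c0 LD2_c20 LD3_c56) Lrfl Lrfl
theorem f15763 : Led Lsl_bt (LP (LK LD1_c0 LD2_c9 LD3_c30)) = (LP (LK LD1_c0 LD2_c20 LD3_c56)) :=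
  Lre_b IH (LK LD1_c0 LD2_c9 LD3_c30) (LK LD1_c0 LD2_c20 LD3_c56) Lrfl Lrfl
theorem f15764 : Led Lsl_at (LP (LK LD1_c0 LD2_c20 LD3_c56)) = (LP (LK LD1_c0 LD2_c46 LD3_c28)) :=
  Lre_a IH (LK LD1_c0 LD2_c20 LD3_c56) (LK LD1_c0 LD2_c46 LD3_c28) Lrfl Lrfl
theorem f15765 : Led Lsl_bf (LP (LK LD1_c0 LD2_c46 LD3_c28)) = (LP (LK LD1_c0 LD2_c46 LD3_c28)) :=
  Lgr Lrot81 (Lpr_at (f15762 IH) (Lpr_bt (f15675 IH) (Lpr_at (f15746 IH) (Lpr_bt (f15763 IH) (Lpr_at (f15764 IH) (Lpn (LP (LK LD1_c0 LD2_c46 LD3_c28))))))))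
theorem f15884 : Led Lsl_ct (LP (LK LD1_c0 LD2_c46 LD3_c28)) = (LP (LK LD1_c1 LD2_c39 LD3_c49)) :=
  Lre_c IH (LK LD1_c0 LD2_c46 LD3_c28) (LK LD1_c1 LD2_c39 LD3_c49) Lrfl Lrfl
theorem f15670 : Led Lsl_bt (LP (LK LD1_c1 LD2_c39 LD3_c49)) = (LP (LK LD1_c3 LD2_c26 LD3_c13)) :=
  Lre_b IH (LK LD1_c1 LD2_c39 LD3_c49) (LK LD1_c3 LD2_c26 LD3_c13) Lrfl Lrfl
theorem f15885 : Led Lsl_ct (LP (LK LD1_c1 LD2_c39 LD3_c49)) = (LP (LK LD1_c0 LD2_c46 LD3_c28)) :=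
  Lre_c IH (LK LD1_c1 LD2_c39 LD3_c49) (LK LD1_c0 LD2_c46 LD3_c28) Lrfl Lrfl
theorem f15886 : Led Lsl_bt (LP (LK LD1_c3 LD2_c26 LD3_c13)) = (LP (LK LD1_c1 LD2_c39 LD3_c49)) :=
  Lre_b IH (LK LD1_c3 LD2_c26 LD3_c13) (LK LD1_c1 LD2_c39 LD3_c49) Lrfl Lrfl
theorem f15887 : Led Lsl_ct (LP (LK LD1_c3 LD2_c26 LD3_c13)) = (LP (LK LD1_c3 LD2_c26 LD3_c13)) :=
  Lgr Lrot83 (Lpe (f15670 IH) (Lpe (f15884 IH) (Lpr_bf (f15765 IH) (Lpe (f15885 IH) (Lpe (f15886 IH) (Lpn (LP (LK LD1_c3 LD2_c26 LD3_c13))))))))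
theorem f15912 : Led Lsl_et (LP (LK LD1_c1 LD2_c39 LD3_c47)) = (LP (LK LD1_c3 LD2_c26 LD3_c13)) :=
  Lre_e IH (LK LD1_c1 LD2_c39 LD3_c47) (LK LD1_c3 LD2_c26 LD3_c13) Lrfl Lrfl
theorem f15913 : Led Lsl_et (LP (LK LD1_c3 LD2_c26 LD3_c13)) = (LP (LK LD1_c1 LD2_c39 LD3_c47)) :=
  Lre_e IH (LK LD1_c3 LD2_c26 LD3_c13) (LK LD1_c1 LD2_c39 LD3_c47) Lrfl Lrfl
theorem f15914 : Led Lsl_cf (LP (LK LD1_c1 LD2_c39 LD3_c47)) = (LP (LK LD1_c1 LD2_c39 LD3_c47)) :=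
  Lgr Lrot39 (Lpr_et (f15912 IH) (Lpr_ct (f15887 IH) (Lpr_et (f15913 IH) (Lpn (LP (LK LD1_c1 LD2_c39 LD3_c47))))))
theorem f16059 : Led Lsl_dt (LP (LK LD1_c1 LD2_c39 LD3_c47)) = (LP (LK LD1_c3 LD2_c26 LD3_c12)) :=
  Lre_d IH (LK LD1_c1 LD2_c39 LD3_c47) (LK LD1_c3 LD2_c26 LD3_c12) Lrfl Lrfl
theorem f16060 : Led Lsl_ct (LP (LK LD1_c3 LD2_c26 LD3_c12)) = (LP (LK LD1_c6 LD2_c54 LD3_c19)) :=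
  Lre_c IH (LK LD1_c3 LD2_c26 LD3_c12) (LK LD1_c6 LD2_c54 LD3_c19) Lrfl Lrfl
theorem f16062 : Led Lsl_dt (LP (LK LD1_c3 LD2_c26 LD3_c12)) = (LP (LK LD1_c1 LD2_c39 LD3_c47)) :=
  Lre_d IH (LK LD1_c3 LD2_c26 LD3_c12) (LK LD1_c1 LD2_c39 LD3_c47) Lrfl Lrfl
theorem f16063 : Led Lsl_ct (LP (LK LD1_c6 LD2_c54 LD3_c19)) = (LP (LK LD1_c3 LD2_c26 LD3_c12)) :=
  Lre_c IH (LK LD1_c6 LD2_c54 LD3_c19) (LK LD1_c3 LD2_c26 LD3_c12) Lrfl Lrfl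
theorem f16064 : Led Lsl_dt (LP (LK LD1_c13 LD2_c7 LD3_c13)) = (LP (LK LD1_c6 LD2_c54 LD3_c19)) :=
  Lre_d IH (LK LD1_c13 LD2_c7 LD3_c13) (LK LD1_c6 LD2_c54 LD3_c19) Lrfl Lrfl
theorem f15619 : Led Lsl_at (LP (LK LD1_c0 LD2_c23 LD3_c54)) = (LP (LK LD1_c0 LD2_c51 LD3_c28)) :=
  Lre_a IH (LK LD1_c0 LD2_c23 LD3_c54) (LK LD1_c0 LD2_c51 LD3_c28) Lrfl Lrfl
theorem f15057 : Led Lsl_at (LP (LK LD1_c0 LD2_c46 LD3_c27)) = (LP (LK LD1_c0 LD2_c20 LD3_c55)) :=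
  Lre_a IH (LK LD1_c0 LD2_c46 LD3_c27) (LK LD1_c0 LD2_c20 LD3_c55) Lrfl Lrfl
theorem f14650 : Led Lsl_bt (LP (LK LD1_c1 LD2_c39 LD3_c47)) = (LP (LK LD1_c0 LD2_c46 LD3_c27)) :=
  Lre_b IH (LK LD1_c1 LD2_c39 LD3_c47) (LK LD1_c0 LD2_c46 LD3_c27) Lrfl Lrfl
theorem f15620 : Led Lsl_at (LP (LK LD1_c1 LD2_c49 LD3_c20)) = (LP (LK LD1_c1 LD2_c39 LD3_c47)) :=
  Lgr Lrot67 (Lpe (f14663 IH) (Lpe (f15619 IH) (Lpr_bf (f15609 IH) (Lpe (f15057 IH) (Lpe (f14650 IH) (Lpn (LP (LK LD1_c1 LD2_c39 LD3_c47))))))))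
theorem f14722 : Led Lsl_ft (LP (LK LD1_c0 LD2_c52 LD3_c19)) = (LP (LK LD1_c1 LD2_c49 LD3_c20)) :=
  Lre_f IH (LK LD1_c0 LD2_c52 LD3_c19) (LK LD1_c1 LD2_c49 LD3_c20) Lrfl Lrfl
theorem f15657 : Led Lsl_dt (LP (LK LD1_c0 LD2_c52 LD3_c19)) = (LP (LK LD1_c1 LD2_c50 LD3_c54)) :=
  Lre_d IH (LK LD1_c0 LD2_c52 LD3_c19) (LK LD1_c1 LD2_c50 LD3_c54) Lrfl Lrfl
theorem f16067 : Led Lsl_ct (LP (LK LD1_c1 LD2_c50 LD3_c54)) = (LP (LK LD1_c3 LD2_c47 LD3_c41)) :=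
  Lre_c IH (LK LD1_c1 LD2_c50 LD3_c54) (LK LD1_c3 LD2_c47 LD3_c41) Lrfl Lrfl
theorem f16068 : Led Lsl_dt (LP (LK LD1_c3 LD2_c47 LD3_c41)) = (LP (LK LD1_c7 LD2_c36 LD3_c18)) :=
  Lre_d IH (LK LD1_c3 LD2_c47 LD3_c41) (LK LD1_c7 LD2_c36 LD3_c18) Lrfl Lrfl
theorem f16069 : Led Lsl_ct (LP (LK LD1_c7 LD2_c36 LD3_c18)) = (LP (LK LD1_c13 LD2_c7 LD3_c13)) :=
  Lgr Lrot41 (Lpe (f16068 IH) (Lpe (f16067 IH) (Lpe (f15657 IH) (Lpr_ft (f14722 IH) (Lpr_at (f15620 IH) (Lpr_cf (f15914 IH) (Lpe (f16062 IH) (Lpe (f16063 IH) (Lpe (f16064 IH) (Lpn (LP (LK LD1_c13 LD2_c7 LD3_c13))))))))))))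
theorem f16071 : Led Lsl_ft (LP (LK LD1_c3 LD2_c47 LD3_c41)) = (LP (LK LD1_c6 LD2_c39 LD3_c16)) :=
  Lre_f IH (LK LD1_c3 LD2_c47 LD3_c41) (LK LD1_c6 LD2_c39 LD3_c16) Lrfl Lrfl
theorem f16072 : Led Lsl_af (LP (LK LD1_c6 LD2_c54 LD3_c19)) = (LP (LK LD1_c6 LD2_c39 LD3_c16)) :=
  Lgr Lrot109 (Lpe (f16060 IH) (Lpe (f16059 IH) (Lpr_cf (f15914 IH) (Lpe (f16062 IH) (Lpe (f16063 IH) (Lpe (f16064 IH) (Lpe (f16069 IH) (Lpe (f16068 IH) (Lpr_ft (f16071 IH) (Lpn (LP (LK LD1_c6 LD2_c39 LD3_c16))))))))))))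
theorem f16081 : Led Lsl_at (LP (LK LD1_c7 LD2_c36 LD3_c4)) = (LP (LK LD1_c3 LD2_c47 LD3_c41)) :=
  Lre_a IH (LK LD1_c7 LD2_c36 LD3_c4) (LK LD1_c3 LD2_c47 LD3_c41) Lrfl Lrfl
theorem f16082 : Led Lsl_ft (LP (LK LD1_c6 LD2_c54 LD3_c19)) = (LP (LK LD1_c7 LD2_c36 LD3_c4)) :=
  Lgr Lrot101 (Lpr_af (f16072 IH) (Lpe (f16071 IH) (Lpe (f16081 IH) (Lpn (LP (LK LD1_c7 LD2_c36 LD3_c4))))))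
theorem f16061 : Led Lsl_dt (LP (LK LD1_c6 LD2_c54 LD3_c19)) = (LP (LK LD1_c13 LD2_c7 LD3_c13)) :=
  Lre_d IH (LK LD1_c6 LD2_c54 LD3_c19) (LK LD1_c13 LD2_c7 LD3_c13) Lrfl Lrfl
theorem f14721 : Led Lsl_ft (LP (LK LD1_c1 LD2_c49 LD3_c20)) = (LP (LK LD1_c0 LD2_c52 LD3_c19)) :=
  Lre_f IH (LK LD1_c1 LD2_c49 LD3_c20) (LK LD1_c0 LD2_c52 LD3_c19) Lrfl Lrfl
theorem f14723 : Led Lsl_ct (LP (LK LD1_c0 LD2_c52 LD3_c19)) = (LP (LK LD1_c0 LD2_c52 LD3_c19)) :=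
  Lgr Lrot40 (Lpe (f14721 IH) (Lpr_cf (f14664 IH) (Lpe (f14722 IH) (Lpn (LP (LK LD1_c0 LD2_c52 LD3_c19))))))
theorem f15653 : Led Lsl_dt (LP (LK LD1_c1 LD2_c50 LD3_c54)) = (LP (LK LD1_c0 LD2_c52 LD3_c19)) :=
  Lre_d IH (LK LD1_c1 LD2_c50 LD3_c54) (LK LD1_c0 LD2_c52 LD3_c19) Lrfl Lrfl
theorem f15654 : Led Lsl_ct (LP (LK LD1_c3 LD2_c47 LD3_c41)) = (LP (LK LD1_c1 LD2_c50 LD3_c54)) :=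
  Lre_c IH (LK LD1_c3 LD2_c47 LD3_c41) (LK LD1_c1 LD2_c50 LD3_c54) Lrfl Lrfl
theorem f16094 : Led Lsl_dt (LP (LK LD1_c7 LD2_c36 LD3_c18)) = (LP (LK LD1_c3 LD2_c47 LD3_c41)) :=
  Lre_d IH (LK LD1_c7 LD2_c36 LD3_c18) (LK LD1_c3 LD2_c47 LD3_c41) Lrfl Lrfl
theorem f16095 : Led Lsl_ct (LP (LK LD1_c13 LD2_c7 LD3_c13)) = (LP (LK LD1_c7 LD2_c36 LD3_c18)) :=
  Lgr Lrot133 (Lpe (f16061 IH) (Lpr_ft (f16082 IH) (Lpr_at (f16081 IH) (Lpe (f16067 IH) (Lpe (f15657 IH) (Lpe (f14723 IH) (Lpe (f15653 IH) (Lpe (f15654 IH) (Lpe (f16094 IH) (Lpn (LP (LK LD1_c7 LD2_c36 LD3_c18))))))))))))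
theorem f16097 : Led Lsl_af (LP (LK LD1_c13 LD2_c7 LD3_c13)) = (LP (LK LD1_c8 LD2_c49 LD3_c39)) :=
  Lgr Lrot68 (Lpr_ct (f16095 IH) (Lpr_at (f14726 IH) (Lpe (f14749 IH) (Lpn (LP (LK LD1_c8 LD2_c49 LD3_c39))))))
theorem f14747 : Led Lsl_bt (LP (LK LD1_c4 LD2_c26 LD3_c8)) = (LP (LK LD1_c8 LD2_c49 LD3_c39)) :=
  Lre_b IH (LK LD1_c4 LD2_c26 LD3_c8) (LK LD1_c8 LD2_c49 LD3_c39) Lrfl Lrfl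
theorem f16126 : Led Lsl_at (LP (LK LD1_c2 LD2_c10 LD3_c24)) = (LP (LK LD1_c4 LD2_c26 LD3_c8)) :=
  Lre_a IH (LK LD1_c2 LD2_c10 LD3_c24) (LK LD1_c4 LD2_c26 LD3_c8) Lrfl Lrfl
theorem f16127 : Led Lsl_bt (LP (LK LD1_c4 LD2_c26 LD3_c18)) = (LP (LK LD1_c2 LD2_c10 LD3_c24)) :=
  Lre_b IH (LK LD1_c4 LD2_c26 LD3_c18) (LK LD1_c2 LD2_c10 LD3_c24) Lrfl Lrfl
theorem f16128 : Led Lsl_at (LP (LK LD1_c8 LD2_c50 LD3_c2)) = (LP (LK LD1_c4 LD2_c26 LD3_c18)) :=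
  Lre_a IH (LK LD1_c8 LD2_c50 LD3_c2) (LK LD1_c4 LD2_c26 LD3_c18) Lrfl Lrfl
theorem f16129 : Led Lsl_bt (LP (LK LD1_c13 LD2_c7 LD3_c13)) = (LP (LK LD1_c8 LD2_c50 LD3_c2)) :=
  Lgr Lrot62 (Lpr_af (f16097 IH) (Lpe (f14747 IH) (Lpe (f16126 IH) (Lpe (f16127 IH) (Lpe (f16128 IH) (Lpn (LP (LK LD1_c8 LD2_c50 LD3_c2))))))))
theorem f16135 : Led Lsl_bt (LP (LK LD1_c8 LD2_c48 LD3_c50)) = (LP (LK LD1_c7 LD2_c36 LD3_c18)) :=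
  Lre_b IH (LK LD1_c8 LD2_c48 LD3_c50) (LK LD1_c7 LD2_c36 LD3_c18) Lrfl Lrfl
theorem f16136 : Led Lsl_ct (LP (LK LD1_c4 LD2_c25 LD3_c38)) = (LP (LK LD1_c8 LD2_c48 LD3_c50)) :=
  Lre_c IH (LK LD1_c4 LD2_c25 LD3_c38) (LK LD1_c8 LD2_c48 LD3_c50) Lrfl Lrfl
theorem f16137 : Led Lsl_ct (LP (LK LD1_c8 LD2_c50 LD3_c2)) = (LP (LK LD1_c4 LD2_c26 LD3_c37)) :=
  Lre_c IH (LK LD1_c8 LD2_c50 LD3_c2) (LK LD1_c4 LD2_c26 LD3_c37) Lrfl Lrfl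
theorem f16138 : Led Lsl_bf (LP (LK LD1_c4 LD2_c25 LD3_c38)) = (LP (LK LD1_c4 LD2_c26 LD3_c37)) :=
  Lgr Lrot90 (Lpr_ct (f16136 IH) (Lpr_bt (f16135 IH) (Lpr_ct (f16069 IH) (Lpr_bt (f16129 IH) (Lpr_ct (f16137 IH) (Lpn (LP (LK LD1_c4 LD2_c26 LD3_c37))))))))
theorem f16140 : Led Lsl_at (LP (LK LD1_c4 LD2_c25 LD3_c38)) = (LP (LK LD1_c2 LD2_c10 LD3_c26)) :=
  Lre_a IH (LK LD1_c4 LD2_c25 LD3_c38) (LK LD1_c2 LD2_c10 LD3_c26) Lrfl Lrfl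
theorem f16141 : Led Lsl_bt (LP (LK LD1_c2 LD2_c10 LD3_c26)) = (LP (LK LD1_c1 LD2_c2 LD3_c19)) :=
  Lre_b IH (LK LD1_c2 LD2_c10 LD3_c26) (LK LD1_c1 LD2_c2 LD3_c19) Lrfl Lrfl
theorem f16142 : Led Lsl_at (LP (LK LD1_c2 LD2_c10 LD3_c30)) = (LP (LK LD1_c4 LD2_c26 LD3_c37)) :=
  Lre_a IH (LK LD1_c2 LD2_c10 LD3_c30) (LK LD1_c4 LD2_c26 LD3_c37) Lrfl Lrfl
theorem f16143 : Led Lsl_bt (LP (LK LD1_c1 LD2_c2 LD3_c17)) = (LP (LK LD1_c2 LD2_c10 LD3_c30)) :=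
  Lre_b IH (LK LD1_c1 LD2_c2 LD3_c17) (LK LD1_c2 LD2_c10 LD3_c30) Lrfl Lrfl
theorem f16144 : Led Lsl_at (LP (LK LD1_c1 LD2_c2 LD3_c19)) = (LP (LK LD1_c1 LD2_c2 LD3_c17)) :=
  Lgr Lrot67 (Lpe (f16141 IH) (Lpe (f16140 IH) (Lpr_bf (f16138 IH) (Lpe (f16142 IH) (Lpe (f16143 IH) (Lpn (LP (LK LD1_c1 LD2_c2 LD3_c17))))))))
theorem f16617 : Led Lsl_ft (LP (LK LD1_c0 LD2_c28 LD3_c24)) = (LP (LK LD1_c1 LD2_c2 LD3_c19)) :=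
  Lre_f IH (LK LD1_c0 LD2_c28 LD3_c24) (LK LD1_c1 LD2_c2 LD3_c19) Lrfl Lrfl
theorem f16618 : Led Lsl_dt (LP (LK LD1_c0 LD2_c28 LD3_c24)) = (LP (LK LD1_c0 LD2_c12 LD3_c32)) :=
  Lre_d IH (LK LD1_c0 LD2_c28 LD3_c24) (LK LD1_c0 LD2_c12 LD3_c32) Lrfl Lrfl
theorem f16619 : Led Lsl_ct (LP (LK LD1_c0 LD2_c12 LD3_c32)) = (LP (LK LD1_c0 LD2_c5 LD3_c44)) :=
  Lre_c IH (LK LD1_c0 LD2_c12 LD3_c32) (LK LD1_c0 LD2_c5 LD3_c44) Lrfl Lrfl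
theorem f16620 : Led Lsl_dt (LP (LK LD1_c0 LD2_c5 LD3_c44)) = (LP (LK LD1_c0 LD2_c2 LD3_c35)) :=
  Lre_d IH (LK LD1_c0 LD2_c5 LD3_c44) (LK LD1_c0 LD2_c2 LD3_c35) Lrfl Lrfl
theorem f16567 : Led Lsl_ct (LP (LK LD1_c0 LD2_c28 LD3_c24)) = (LP (LK LD1_c1 LD2_c2 LD3_c17)) :=
  Lre_c IH (LK LD1_c0 LD2_c28 LD3_c24) (LK LD1_c1 LD2_c2 LD3_c17) Lrfl Lrfl
theorem f16621 : Led Lsl_dt (LP (LK LD1_c0 LD2_c12 LD3_c32)) = (LP (LK LD1_c0 LD2_c28 LD3_c24)) :=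
  Lre_d IH (LK LD1_c0 LD2_c12 LD3_c32) (LK LD1_c0 LD2_c28 LD3_c24) Lrfl Lrfl
theorem f16622 : Led Lsl_ct (LP (LK LD1_c0 LD2_c5 LD3_c44)) = (LP (LK LD1_c0 LD2_c12 LD3_c32)) :=
  Lre_c IH (LK LD1_c0 LD2_c5 LD3_c44) (LK LD1_c0 LD2_c12 LD3_c32) Lrfl Lrfl
theorem f16623 : Led Lsl_dt (LP (LK LD1_c0 LD2_c2 LD3_c35)) = (LP (LK LD1_c0 LD2_c5 LD3_c44)) :=
  Lre_d IH (LK LD1_c0 LD2_c2 LD3_c35) (LK LD1_c0 LD2_c5 LD3_c44) Lrfl Lrfl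
theorem f16624 : Led Lsl_ct (LP (LK LD1_c0 LD2_c2 LD3_c35)) = (LP (LK LD1_c0 LD2_c2 LD3_c35)) :=
  Lgr Lrot41 (Lpe (f16620 IH) (Lpe (f16619 IH) (Lpe (f16618 IH) (Lpr_ft (f16617 IH) (Lpr_at (f16144 IH) (Lpe (f16567 IH) (Lpe (f16621 IH) (Lpe (f16622 IH) (Lpe (f16623 IH) (Lpn (LP (LK LD1_c0 LD2_c2 LD3_c35))))))))))))
theorem f16626 : Led Lsl_et (LP (LK LD1_c0 LD2_c1 LD3_c4)) = (LP (LK LD1_c0 LD2_c2 LD3_c35)) :=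
  Lre_e IH (LK LD1_c0 LD2_c1 LD3_c4) (LK LD1_c0 LD2_c2 LD3_c35) Lrfl Lrfl
theorem f16627 : Led Lsl_et (LP (LK LD1_c0 LD2_c2 LD3_c35)) = (LP (LK LD1_c0 LD2_c1 LD3_c4)) :=
  Lre_e IH (LK LD1_c0 LD2_c2 LD3_c35) (LK LD1_c0 LD2_c1 LD3_c4) Lrfl Lrfl
theorem f16628 : Led Lsl_cf (LP (LK LD1_c0 LD2_c1 LD3_c4)) = (LP (LK LD1_c0 LD2_c1 LD3_c4)) :=
  Lgr Lrot39 (Lpr_et (f16626 IH) (Lpr_ct (f16624 IH) (Lpr_et (f16627 IH) (Lpn (LP (LK LD1_c0 LD2_c1 LD3_c4))))))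
theorem f27810 : Led Lsl_gt (LP (LK LD1_c0 LD2_c1 LD3_c4)) = (LP (LK LD1_c0 LD2_c1 LD3_c2)) :=
  Lgr Lrot65 (Lpr_cf (f16628 IH) (Lpr_bt (f468 IH) (Lpq (f7226 IH) (Lpe (f6871 IH) (Lpr_bf (f1690 IH) (Lpe (f234 IH) (Lpr_gf (f7183 IH) (Lpqs (f7283 IH) (Lpr_cf (f7037 IH) (Lpqs (f7194 IH) (Lpe (f52 IH) (Lpe (f1444 IH) (Lpr_ct (f27796 IH) (Lpn (LP (LK LD1_c0 LD2_c1 LD3_c2))))))))))))))))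
theorem f27812 : Led Lsl_gf (LP (LK LD1_c0 LD2_c1 LD3_c4)) = (LP (LK LD1_c0 LD2_c2 LD3_c30)) :=
  Lgr Lrot47 (Lpr_gt (f27810 IH) (Lpe (f6834 IH) (Lpe (f27754 IH) (Lpn (LP (LK LD1_c0 LD2_c2 LD3_c30))))))
theorem f27802 : Led Lsl_cf (LP (LK LD1_c0 LD2_c1 LD3_c0)) = (LP (LK LD1_c0 LD2_c1 LD3_c2)) :=
  Lgr Lrot11 (Lpr_ct (f27796 IH) (Lpn (LP (LK LD1_c0 LD2_c1 LD3_c2))))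
theorem f27798 : Led Lsl_gt (LP (LK LD1_c0 LD2_c11 LD3_c19)) = (LP (LK LD1_c0 LD2_c5 LD3_c17)) :=
  Lre_g IH (LK LD1_c0 LD2_c11 LD3_c19) (LK LD1_c0 LD2_c5 LD3_c17) Lrfl Lrfl
theorem f27820 : Led Lsl_ct (LP (LK LD1_c0 LD2_c5 LD3_c30)) = (LP (LK LD1_c0 LD2_c11 LD3_c19)) :=
  Lgr Lrot152 (Lpr_gf (f27759 IH) (Lpe (f27753 IH) (Lpe (f27812 IH) (Lpe (f16628 IH) (Lpr_gt (f27810 IH) (Lpe (f27802 IH) (Lpe (f6952 IH) (Lpe (f9632 IH) (Lpe (f27798 IH) (Lpn (LP (LK LD1_c0 LD2_c11 LD3_c19))))))))))))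
theorem f9631 : Led Lsl_bt (LP (LK LD1_c0 LD2_c2 LD3_c25)) = (LP (LK LD1_c0 LD2_c1 LD3_c1)) :=
  Lre_b IH (LK LD1_c0 LD2_c2 LD3_c25) (LK LD1_c0 LD2_c1 LD3_c1) Lrfl Lrfl
theorem f6755 : Led Lsl_gt (LP (LK LD1_c0 LD2_c1 LD3_c1)) = (LP (LK LD1_c0 LD2_c2 LD3_c26)) :=
  Lre_g IH (LK LD1_c0 LD2_c1 LD3_c1) (LK LD1_c0 LD2_c2 LD3_c26) Lrfl Lrfl
theorem f27780 : Led Lsl_bt (LP (LK LD1_c0 LD2_c5 LD3_c19)) = (LP (LK LD1_c0 LD2_c2 LD3_c26)) :=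
  Lre_b IH (LK LD1_c0 LD2_c5 LD3_c19) (LK LD1_c0 LD2_c2 LD3_c26) Lrfl Lrfl
theorem f28169 : Led Lsl_cf (LP (LK LD1_c0 LD2_c11 LD3_c18)) = (LP (LK LD1_c0 LD2_c5 LD3_c19)) :=
  Lgr Lrot160 (Lpr_gt (f28167 IH) (Lpe (f27763 IH) (Lpe (f8052 IH) (Lpe (f27759 IH) (Lpr_ct (f27820 IH) (Lpr_gt (f27798 IH) (Lpe (f27775 IH) (Lpr_bt (f9631 IH) (Lpr_gt (f6755 IH) (Lpe (f27780 IH) (Lpn (LP (LK LD1_c0 LD2_c5 LD3_c19)))))))))))))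
def v33 : LQ := Led Lsl_bt (LP (LK LD1_c0 LD2_c0 LD3_c19))
theorem f6696 : Led Lsl_bt (LP (LK LD1_c0 LD2_c0 LD3_c19)) = v33 :=
  Lrfl
theorem f6697 : Led Lsl_bf (LP (LK LD1_c0 LD2_c0 LD3_c19)) = v33 :=
  Lgr Lrot24 (Lpr_bt (f6696 IH) (Lpn v33))
def v30 : LQ := Led Lsl_bt (LP (LK LD1_c0 LD2_c0 LD3_c18))
theorem f6685 : Led Lsl_bt (LP (LK LD1_c0 LD2_c0 LD3_c18)) = v30 :=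
  Lrfl
theorem f9941 : Led Lsl_ef v33 = v30 :=
  Lgr Lrot29 (Lpe (f6697 IH) (Lpq (f9936 IH) (Lpe (f6689 IH) (Lpr_bt (f6685 IH) (Lpn v30)))))
theorem f14621 : Led Lsl_ft (LP (LK LD1_c0 LD2_c4 LD3_c26)) = (LP (LK LD1_c0 LD2_c9 LD3_c29)) :=
  Lre_f IH (LK LD1_c0 LD2_c4 LD3_c26) (LK LD1_c0 LD2_c9 LD3_c29) Lrfl Lrfl
theorem f14622 : Led Lsl_dt (LP (LK LD1_c0 LD2_c9 LD3_c29)) = (LP (LK LD1_c0 LD2_c10 LD3_c48)) :=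
  Lgr Lrot60 (Lpe (f14621 IH) (Lpe (f11976 IH) (Lpr_ff (f14598 IH) (Lpn (LP (LK LD1_c0 LD2_c10 LD3_c48))))))
theorem f11878 : Led Lsl_ct (LP (LK LD1_c0 LD2_c20 LD3_c18)) = (LP (LK LD1_c0 LD2_c9 LD3_c29)) :=
  Lre_c IH (LK LD1_c0 LD2_c20 LD3_c18) (LK LD1_c0 LD2_c9 LD3_c29) Lrfl Lrfl
theorem f11882 : Led Lsl_ct (LP (LK LD1_c0 LD2_c9 LD3_c29)) = (LP (LK LD1_c0 LD2_c20 LD3_c18)) :=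
  Lre_c IH (LK LD1_c0 LD2_c9 LD3_c29) (LK LD1_c0 LD2_c20 LD3_c18) Lrfl Lrfl
theorem f6698 : Led Lsl_bt (LP (LK LD1_c0 LD2_c0 LD3_c59)) = (LP (LK LD1_c0 LD2_c2 LD3_c15)) :=
  Lre_b IH (LK LD1_c0 LD2_c0 LD3_c59) (LK LD1_c0 LD2_c2 LD3_c15) Lrfl Lrfl
theorem f6699 : Led Lsl_gt (LP (LK LD1_c0 LD2_c2 LD3_c15)) = (LP (LK LD1_c0 LD2_c4 LD3_c56)) :=
  Lre_g IH (LK LD1_c0 LD2_c2 LD3_c15) (LK LD1_c0 LD2_c4 LD3_c56) Lrfl Lrfl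
theorem f5776 : Led Lsl_bt (LP (LK LD1_c0 LD2_c10 LD3_c29)) = (LP (LK LD1_c0 LD2_c4 LD3_c56)) :=
  Lre_b IH (LK LD1_c0 LD2_c10 LD3_c29) (LK LD1_c0 LD2_c4 LD3_c56) Lrfl Lrfl
theorem f5720 : Led Lsl_ct (LP (LK LD1_c0 LD2_c10 LD3_c29)) = (LP (LK LD1_c0 LD2_c23 LD3_c19)) :=
  Lre_c IH (LK LD1_c0 LD2_c10 LD3_c29) (LK LD1_c0 LD2_c23 LD3_c19) Lrfl Lrfl
theorem f11883 : Led Lsl_gf (LP (LK LD1_c0 LD2_c20 LD3_c18)) = (LP (LK LD1_c0 LD2_c23 LD3_c19)) :=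
  Lgr Lrot126 (Lpe (f11882 IH) (Lpr_bt (f9786 IH) (Lpr_gt (f11512 IH) (Lpr_ct (f3900 IH) (Lpr_gt (f123 IH) (Lpe (f343 IH) (Lpr_bt (f6698 IH) (Lpr_gt (f6699 IH) (Lpe (f5776 IH) (Lpr_ct (f5720 IH) (Lpn (LP (LK LD1_c0 LD2_c23 LD3_c19)))))))))))))
theorem f5716 : Led Lsl_gt (LP (LK LD1_c0 LD2_c23 LD3_c17)) = (LP (LK LD1_c0 LD2_c10 LD3_c29)) :=
  Lre_g IH (LK LD1_c0 LD2_c23 LD3_c17) (LK LD1_c0 LD2_c10 LD3_c29) Lrfl Lrfl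
theorem f5752 : Led Lsl_dt (LP (LK LD1_c0 LD2_c51 LD3_c32)) = (LP (LK LD1_c0 LD2_c23 LD3_c17)) :=
  Lre_d IH (LK LD1_c0 LD2_c51 LD3_c32) (LK LD1_c0 LD2_c23 LD3_c17) Lrfl Lrfl
theorem f11515 : Led Lsl_ct (LP (LK LD1_c0 LD2_c23 LD3_c51)) = (LP (LK LD1_c0 LD2_c10 LD3_c48)) :=
  Lre_c IH (LK LD1_c0 LD2_c23 LD3_c51) (LK LD1_c0 LD2_c10 LD3_c48) Lrfl Lrfl
theorem f11514 : Led Lsl_bt (LP (LK LD1_c0 LD2_c10 LD3_c48)) = (LP (LK LD1_c0 LD2_c5 LD3_c1)) :=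
  Lre_b IH (LK LD1_c0 LD2_c10 LD3_c48) (LK LD1_c0 LD2_c5 LD3_c1) Lrfl Lrfl
theorem f11517 : Led Lsl_ct (LP (LK LD1_c0 LD2_c10 LD3_c48)) = (LP (LK LD1_c0 LD2_c23 LD3_c51)) :=
  Lre_c IH (LK LD1_c0 LD2_c10 LD3_c48) (LK LD1_c0 LD2_c23 LD3_c51) Lrfl Lrfl
theorem f11249 : Led Lsl_bt (LP (LK LD1_c0 LD2_c2 LD3_c16)) = (LP (LK LD1_c0 LD2_c4 LD3_c59)) :=
  Lre_b IH (LK LD1_c0 LD2_c2 LD3_c16) (LK LD1_c0 LD2_c4 LD3_c59) Lrfl Lrfl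
theorem f11518 : Led Lsl_gt (LP (LK LD1_c0 LD2_c4 LD3_c59)) = (LP (LK LD1_c0 LD2_c10 LD3_c38)) :=
  Lre_g IH (LK LD1_c0 LD2_c4 LD3_c59) (LK LD1_c0 LD2_c10 LD3_c38) Lrfl Lrfl
theorem f11521 : Led Lsl_gf (LP (LK LD1_c0 LD2_c23 LD3_c51)) = (LP (LK LD1_c0 LD2_c52 LD3_c26)) :=
  Lgr Lrot126 (Lpe (f11517 IH) (Lpr_bt (f11514 IH) (Lpr_gt (f11507 IH) (Lpr_ct (f5881 IH) (Lpe (f11509 IH) (Lpe (f5851 IH) (Lpr_bt (f11249 IH) (Lpr_gt (f11518 IH) (Lpe (f11519 IH) (Lpr_ct (f11520 IH) (Lpn (LP (LK LD1_c0 LD2_c52 LD3_c26)))))))))))))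
theorem f17291 : Led Lsl_gt (LP (LK LD1_c0 LD2_c51 LD3_c32)) = (LP (LK LD1_c0 LD2_c23 LD3_c43)) :=
  Lgr Lrot146 (Lpr_dt (f5752 IH) (Lpr_gt (f5716 IH) (Lpr_ct (f5720 IH) (Lpe (f11883 IH) (Lpr_ct (f11878 IH) (Lpr_dt (f14622 IH) (Lpe (f11515 IH) (Lpr_gf (f11521 IH) (Lpe (f11520 IH) (Lpn (LP (LK LD1_c0 LD2_c23 LD3_c43))))))))))))
theorem f3921 : Led Lsl_bt (LP (LK LD1_c0 LD2_c10 LD3_c5)) = (LP (LK LD1_c0 LD2_c4 LD3_c46)) :=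
  Lre_b IH (LK LD1_c0 LD2_c10 LD3_c5) (LK LD1_c0 LD2_c4 LD3_c46) Lrfl Lrfl
theorem f3922 : Led Lsl_bt (LP (LK LD1_c0 LD2_c4 LD3_c48)) = (LP (LK LD1_c0 LD2_c10 LD3_c10)) :=
  Lre_b IH (LK LD1_c0 LD2_c4 LD3_c48) (LK LD1_c0 LD2_c10 LD3_c10) Lrfl Lrfl
theorem f4951 : Led Lsl_ff (LP (LK LD1_c0 LD2_c10 LD3_c5)) = (LP (LK LD1_c0 LD2_c10 LD3_c10)) :=
  Lgr Lrot25 (Lpr_bt (f3921 IH) (Lpr_ft (f4947 IH) (Lpr_bt (f3922 IH) (Lpn (LP (LK LD1_c0 LD2_c10 LD3_c10))))))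
theorem f4963 : Led Lsl_ft (LP (LK LD1_c0 LD2_c10 LD3_c5)) = (LP (LK LD1_c0 LD2_c10 LD3_c10)) :=
  Lgr Lrot48 (Lpr_ff (f4951 IH) (Lpn (LP (LK LD1_c0 LD2_c10 LD3_c10))))
theorem f378 : Led Lsl_dt (LP (LK LD1_c0 LD2_c10 LD3_c5)) = (LP (LK LD1_c0 LD2_c4 LD3_c45)) :=
  Lre_d IH (LK LD1_c0 LD2_c10 LD3_c5) (LK LD1_c0 LD2_c4 LD3_c45) Lrfl Lrfl
theorem f339 : Led Lsl_bt (LP (LK LD1_c0 LD2_c0 LD3_c57)) = (LP (LK LD1_c0 LD2_c0 LD3_c57)) :=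
  Lgr Lrot95 (Lpe (f328 IH) (Lpr_bf (f324 IH) (Lpr_df (f332 IH) (Lpn (LP (LK LD1_c0 LD2_c0 LD3_c57))))))
theorem f364 : Led Lsl_bt (LP (LK LD1_c0 LD2_c4 LD3_c45)) = (LP (LK LD1_c0 LD2_c2 LD3_c10)) :=
  Lre_b IH (LK LD1_c0 LD2_c4 LD3_c45) (LK LD1_c0 LD2_c2 LD3_c10) Lrfl Lrfl
theorem f336 : Led Lsl_bt (LP (LK LD1_c0 LD2_c2 LD3_c10)) = (LP (LK LD1_c0 LD2_c4 LD3_c45)) :=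
  Lre_b IH (LK LD1_c0 LD2_c2 LD3_c10) (LK LD1_c0 LD2_c4 LD3_c45) Lrfl Lrfl
theorem f365 : Led Lsl_cf (LP (LK LD1_c0 LD2_c4 LD3_c45)) = (LP (LK LD1_c0 LD2_c4 LD3_c45)) :=
  Lgr Lrot97 (Lpr_bt (f364 IH) (Lpr_ct (f334 IH) (Lpr_bt (f339 IH) (Lpr_ct (f330 IH) (Lpr_bt (f336 IH) (Lpn (LP (LK LD1_c0 LD2_c4 LD3_c45))))))))
theorem f374 : Led Lsl_dt (LP (LK LD1_c0 LD2_c4 LD3_c45)) = (LP (LK LD1_c0 LD2_c10 LD3_c5)) :=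
  Lre_d IH (LK LD1_c0 LD2_c4 LD3_c45) (LK LD1_c0 LD2_c10 LD3_c5) Lrfl Lrfl
theorem f375 : Led Lsl_ct (LP (LK LD1_c0 LD2_c10 LD3_c5)) = (LP (LK LD1_c0 LD2_c22 LD3_c25)) :=
  Lre_c IH (LK LD1_c0 LD2_c10 LD3_c5) (LK LD1_c0 LD2_c22 LD3_c25) Lrfl Lrfl
theorem f376 : Led Lsl_dt (LP (LK LD1_c0 LD2_c22 LD3_c25)) = (LP (LK LD1_c0 LD2_c49 LD3_c53)) :=
  Lre_d IH (LK LD1_c0 LD2_c22 LD3_c25) (LK LD1_c0 LD2_c49 LD3_c53) Lrfl Lrfl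
theorem f377 : Led Lsl_ct (LP (LK LD1_c0 LD2_c49 LD3_c53)) = (LP (LK LD1_c1 LD2_c46 LD3_c15)) :=
  Lre_c IH (LK LD1_c0 LD2_c49 LD3_c53) (LK LD1_c1 LD2_c46 LD3_c15) Lrfl Lrfl
theorem f4937 : Led Lsl_at (LP (LK LD1_c0 LD2_c10 LD3_c10)) = (LP (LK LD1_c0 LD2_c22 LD3_c33)) :=
  Lre_a IH (LK LD1_c0 LD2_c10 LD3_c10) (LK LD1_c0 LD2_c22 LD3_c33) Lrfl Lrfl
theorem f4974 : Led Lsl_ct (LP (LK LD1_c0 LD2_c50 LD3_c1)) = (LP (LK LD1_c0 LD2_c22 LD3_c33)) :=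
  Lre_c IH (LK LD1_c0 LD2_c50 LD3_c1) (LK LD1_c0 LD2_c22 LD3_c33) Lrfl Lrfl
theorem f4975 : Led Lsl_dt (LP (LK LD1_c1 LD2_c46 LD3_c15)) = (LP (LK LD1_c0 LD2_c50 LD3_c1)) :=
  Lgr Lrot120 (Lpe (f377 IH) (Lpe (f376 IH) (Lpe (f375 IH) (Lpe (f374 IH) (Lpr_cf (f365 IH) (Lpe (f378 IH) (Lpr_ft (f4963 IH) (Lpr_at (f4937 IH) (Lpe (f4974 IH) (Lpn (LP (LK LD1_c0 LD2_c50 LD3_c1))))))))))))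
theorem f4956 : Led Lsl_ct (LP (LK LD1_c0 LD2_c22 LD3_c35)) = (LP (LK LD1_c0 LD2_c10 LD3_c10)) :=
  Lre_c IH (LK LD1_c0 LD2_c22 LD3_c35) (LK LD1_c0 LD2_c10 LD3_c10) Lrfl Lrfl
theorem f4957 : Led Lsl_ft (LP (LK LD1_c0 LD2_c22 LD3_c25)) = (LP (LK LD1_c0 LD2_c22 LD3_c35)) :=
  Lgr Lrot4 (Lpe (f375 IH) (Lpr_ff (f4951 IH) (Lpe (f4956 IH) (Lpn (LP (LK LD1_c0 LD2_c22 LD3_c35))))))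
theorem f4994 : Led Lsl_at (LP (LK LD1_c0 LD2_c22 LD3_c35)) = (LP (LK LD1_c0 LD2_c50 LD3_c1)) :=
  Lre_a IH (LK LD1_c0 LD2_c22 LD3_c35) (LK LD1_c0 LD2_c50 LD3_c1) Lrfl Lrfl
theorem f4995 : Led Lsl_ct (LP (LK LD1_c0 LD2_c22 LD3_c33)) = (LP (LK LD1_c0 LD2_c50 LD3_c1)) :=
  Lre_c IH (LK LD1_c0 LD2_c22 LD3_c33) (LK LD1_c0 LD2_c50 LD3_c1) Lrfl Lrfl
theorem f4012 : Led Lsl_dt (LP (LK LD1_c0 LD2_c10 LD3_c9)) = (LP (LK LD1_c0 LD2_c22 LD3_c33)) :=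
  Lre_d IH (LK LD1_c0 LD2_c10 LD3_c9) (LK LD1_c0 LD2_c22 LD3_c33) Lrfl Lrfl
theorem f4985 : Led Lsl_dt (LP (LK LD1_c0 LD2_c22 LD3_c33)) = (LP (LK LD1_c0 LD2_c10 LD3_c9)) :=
  Lre_d IH (LK LD1_c0 LD2_c22 LD3_c33) (LK LD1_c0 LD2_c10 LD3_c9) Lrfl Lrfl
theorem f4996 : Led Lsl_cf (LP (LK LD1_c0 LD2_c10 LD3_c9)) = (LP (LK LD1_c0 LD2_c10 LD3_c9)) :=
  Lgr Lrot161 (Lpr_dt (f4012 IH) (Lpr_ct (f4995 IH) (Lpe (f4994 IH) (Lpe (f4957 IH) (Lpr_dt (f376 IH) (Lpr_ct (f377 IH) (Lpr_dt (f4975 IH) (Lpr_ct (f4974 IH) (Lpr_dt (f4985 IH) (Lpn (LP (LK LD1_c0 LD2_c10 LD3_c9))))))))))))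
theorem f4904 : Led Lsl_at (LP (LK LD1_c0 LD2_c10 LD3_c9)) = (LP (LK LD1_c0 LD2_c4 LD3_c47)) :=
  Lre_a IH (LK LD1_c0 LD2_c10 LD3_c9) (LK LD1_c0 LD2_c4 LD3_c47) Lrfl Lrfl
theorem f4906 : Led Lsl_at (LP (LK LD1_c0 LD2_c4 LD3_c47)) = (LP (LK LD1_c0 LD2_c10 LD3_c9)) :=
  Lre_a IH (LK LD1_c0 LD2_c4 LD3_c47) (LK LD1_c0 LD2_c10 LD3_c9) Lrfl Lrfl
theorem f5000 : Led Lsl_ct (LP (LK LD1_c0 LD2_c4 LD3_c47)) = (LP (LK LD1_c0 LD2_c4 LD3_c47)) :=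
  Lgr Lrot111 (Lpe (f4904 IH) (Lpr_cf (f4996 IH) (Lpe (f4906 IH) (Lpn (LP (LK LD1_c0 LD2_c4 LD3_c47))))))
theorem f5241 : Led Lsl_gt (LP (LK LD1_c0 LD2_c10 LD3_c8)) = (LP (LK LD1_c0 LD2_c4 LD3_c47)) :=
  Lre_g IH (LK LD1_c0 LD2_c10 LD3_c8) (LK LD1_c0 LD2_c4 LD3_c47) Lrfl Lrfl
theorem f5248 : Led Lsl_bt (LP (LK LD1_c0 LD2_c22 LD3_c31)) = (LP (LK LD1_c0 LD2_c10 LD3_c8)) :=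
  Lre_b IH (LK LD1_c0 LD2_c22 LD3_c31) (LK LD1_c0 LD2_c10 LD3_c8) Lrfl Lrfl
theorem f5249 : Led Lsl_ct (LP (LK LD1_c0 LD2_c22 LD3_c31)) = (LP (LK LD1_c0 LD2_c23 LD3_c22)) :=
  Lre_c IH (LK LD1_c0 LD2_c22 LD3_c31) (LK LD1_c0 LD2_c23 LD3_c22) Lrfl Lrfl
theorem f5713 : Led Lsl_gt (LP (LK LD1_c0 LD2_c10 LD3_c30)) = (LP (LK LD1_c0 LD2_c23 LD3_c22)) :=
  Lre_g IH (LK LD1_c0 LD2_c10 LD3_c30) (LK LD1_c0 LD2_c23 LD3_c22) Lrfl Lrfl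
theorem f5714 : Led Lsl_ct (LP (LK LD1_c0 LD2_c4 LD3_c56)) = (LP (LK LD1_c0 LD2_c10 LD3_c30)) :=
  Lre_c IH (LK LD1_c0 LD2_c4 LD3_c56) (LK LD1_c0 LD2_c10 LD3_c30) Lrfl Lrfl
theorem f5715 : Led Lsl_bt (LP (LK LD1_c0 LD2_c4 LD3_c56)) = (LP (LK LD1_c0 LD2_c10 LD3_c29)) :=
  Lre_b IH (LK LD1_c0 LD2_c4 LD3_c56) (LK LD1_c0 LD2_c10 LD3_c29) Lrfl Lrfl
theorem f5709 : Led Lsl_gt (LP (LK LD1_c0 LD2_c4 LD3_c47)) = (LP (LK LD1_c0 LD2_c10 LD3_c7)) :=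
  Lre_g IH (LK LD1_c0 LD2_c4 LD3_c47) (LK LD1_c0 LD2_c10 LD3_c7) Lrfl Lrfl
theorem f5717 : Led Lsl_ct (LP (LK LD1_c0 LD2_c22 LD3_c30)) = (LP (LK LD1_c0 LD2_c10 LD3_c7)) :=
  Lre_c IH (LK LD1_c0 LD2_c22 LD3_c30) (LK LD1_c0 LD2_c10 LD3_c7) Lrfl Lrfl
theorem f5718 : Led Lsl_bf (LP (LK LD1_c0 LD2_c23 LD3_c17)) = (LP (LK LD1_c0 LD2_c22 LD3_c30)) :=
  Lgr Lrot156 (Lpr_gt (f5716 IH) (Lpe (f5715 IH) (Lpr_ct (f5714 IH) (Lpr_gt (f5713 IH) (Lpe (f5249 IH) (Lpr_bt (f5248 IH) (Lpr_gt (f5241 IH) (Lpr_ct (f5000 IH) (Lpr_gt (f5709 IH) (Lpe (f5717 IH) (Lpn (LP (LK LD1_c0 LD2_c22 LD3_c30)))))))))))))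
theorem f5724 : Led Lsl_dt (LP (LK LD1_c0 LD2_c23 LD3_c17)) = (LP (LK LD1_c0 LD2_c51 LD3_c32)) :=
  Lre_d IH (LK LD1_c0 LD2_c23 LD3_c17) (LK LD1_c0 LD2_c51 LD3_c32) Lrfl Lrfl
theorem f5711 : Led Lsl_dt (LP (LK LD1_c0 LD2_c49 LD3_c61)) = (LP (LK LD1_c0 LD2_c22 LD3_c30)) :=
  Lre_d IH (LK LD1_c0 LD2_c49 LD3_c61) (LK LD1_c0 LD2_c22 LD3_c30) Lrfl Lrfl
theorem f5725 : Led Lsl_bt (LP (LK LD1_c0 LD2_c51 LD3_c32)) = (LP (LK LD1_c0 LD2_c49 LD3_c61)) :=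
  Lgr Lrot95 (Lpe (f5724 IH) (Lpr_bf (f5718 IH) (Lpe (f5711 IH) (Lpn (LP (LK LD1_c0 LD2_c49 LD3_c61))))))
theorem f5731 : Led Lsl_bf (LP (LK LD1_c0 LD2_c51 LD3_c32)) = (LP (LK LD1_c0 LD2_c49 LD3_c61)) :=
  Lgr Lrot24 (Lpr_bt (f5725 IH) (Lpn (LP (LK LD1_c0 LD2_c49 LD3_c61))))
theorem f5886 : Led Lsl_bt (LP (LK LD1_c0 LD2_c9 LD3_c59)) = (LP (LK LD1_c0 LD2_c4 LD3_c42)) :=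
  Lre_b IH (LK LD1_c0 LD2_c9 LD3_c59) (LK LD1_c0 LD2_c4 LD3_c42) Lrfl Lrfl
theorem f6093 : Led Lsl_ct (LP (LK LD1_c0 LD2_c9 LD3_c59)) = (LP (LK LD1_c0 LD2_c22 LD3_c8)) :=
  Lre_c IH (LK LD1_c0 LD2_c9 LD3_c59) (LK LD1_c0 LD2_c22 LD3_c8) Lrfl Lrfl
theorem f6672 : Led Lsl_gt (LP (LK LD1_c0 LD2_c22 LD3_c8)) = (LP (LK LD1_c0 LD2_c49 LD3_c21)) :=
  Lre_g IH (LK LD1_c0 LD2_c22 LD3_c8) (LK LD1_c0 LD2_c49 LD3_c21) Lrfl Lrfl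
theorem f17296 : Led Lsl_ct (LP (LK LD1_c0 LD2_c49 LD3_c61)) = (LP (LK LD1_c0 LD2_c49 LD3_c21)) :=
  Lgr Lrot10 (Lpe (f5731 IH) (Lpr_gt (f17291 IH) (Lpr_ct (f11520 IH) (Lpe (f11521 IH) (Lpe (f11517 IH) (Lpr_bt (f11514 IH) (Lpr_gt (f11507 IH) (Lpe (f5886 IH) (Lpr_ct (f6093 IH) (Lpr_gt (f6672 IH) (Lpn (LP (LK LD1_c0 LD2_c49 LD3_c21)))))))))))))
theorem f5904 : Led Lsl_gt (LP (LK LD1_c0 LD2_c22 LD3_c7)) = (LP (LK LD1_c0 LD2_c9 LD3_c59)) :=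
  Lre_g IH (LK LD1_c0 LD2_c22 LD3_c7) (LK LD1_c0 LD2_c9 LD3_c59) Lrfl Lrfl
theorem f5905 : Led Lsl_bt (LP (LK LD1_c0 LD2_c49 LD3_c18)) = (LP (LK LD1_c0 LD2_c22 LD3_c7)) :=
  Lre_b IH (LK LD1_c0 LD2_c49 LD3_c18) (LK LD1_c0 LD2_c22 LD3_c7) Lrfl Lrfl
theorem f17300 : Led Lsl_bt (LP (LK LD1_c0 LD2_c10 LD3_c38)) = (LP (LK LD1_c0 LD2_c23 LD3_c43)) :=
  Lre_b IH (LK LD1_c0 LD2_c10 LD3_c38) (LK LD1_c0 LD2_c23 LD3_c43) Lrfl Lrfl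
theorem f17301 : Led Lsl_ct (LP (LK LD1_c0 LD2_c10 LD3_c38)) = (LP (LK LD1_c0 LD2_c23 LD3_c44)) :=
  Lre_c IH (LK LD1_c0 LD2_c10 LD3_c38) (LK LD1_c0 LD2_c23 LD3_c44) Lrfl Lrfl
theorem f17302 : Led Lsl_gt (LP (LK LD1_c0 LD2_c23 LD3_c44)) = (LP (LK LD1_c0 LD2_c52 LD3_c28)) :=
  Lre_g IH (LK LD1_c0 LD2_c23 LD3_c44) (LK LD1_c0 LD2_c52 LD3_c28) Lrfl Lrfl
theorem f17303 : Led Lsl_ct (LP (LK LD1_c0 LD2_c49 LD3_c18)) = (LP (LK LD1_c0 LD2_c52 LD3_c28)) :=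
  Lgr Lrot10 (Lpr_bt (f5905 IH) (Lpr_gt (f5904 IH) (Lpr_ct (f6093 IH) (Lpr_gt (f6672 IH) (Lpe (f17296 IH) (Lpe (f5731 IH) (Lpr_gt (f17291 IH) (Lpe (f17300 IH) (Lpr_ct (f17301 IH) (Lpr_gt (f17302 IH) (Lpn (LP (LK LD1_c0 LD2_c52 LD3_c28)))))))))))))
theorem f17311 : Led Lsl_cf (LP (LK LD1_c0 LD2_c49 LD3_c18)) = (LP (LK LD1_c0 LD2_c52 LD3_c28)) :=
  Lgr Lrot11 (Lpr_ct (f17303 IH) (Lpn (LP (LK LD1_c0 LD2_c52 LD3_c28))))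
theorem f17457 : Led Lsl_dt (LP (LK LD1_c0 LD2_c4 LD3_c59)) = (LP (LK LD1_c0 LD2_c2 LD3_c15)) :=
  Lre_d IH (LK LD1_c0 LD2_c4 LD3_c59) (LK LD1_c0 LD2_c2 LD3_c15) Lrfl Lrfl
theorem f5827 : Led Lsl_ct (LP (LK LD1_c0 LD2_c23 LD3_c22)) = (LP (LK LD1_c0 LD2_c22 LD3_c31)) :=
  Lre_c IH (LK LD1_c0 LD2_c23 LD3_c22) (LK LD1_c0 LD2_c22 LD3_c31) Lrfl Lrfl
theorem f17458 : Led Lsl_df (LP (LK LD1_c0 LD2_c49 LD3_c18)) = (LP (LK LD1_c0 LD2_c22 LD3_c31)) :=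
  Lgr Lrot162 (Lpr_cf (f17311 IH) (Lpe (f17302 IH) (Lpe (f17301 IH) (Lpe (f11518 IH) (Lpr_dt (f17457 IH) (Lpr_gt (f6699 IH) (Lpr_ct (f5714 IH) (Lpr_gt (f5713 IH) (Lpr_ct (f5827 IH) (Lpn (LP (LK LD1_c0 LD2_c22 LD3_c31))))))))))))
theorem f12566 : Led Lsl_bt (LP (LK LD1_c0 LD2_c10 LD3_c8)) = (LP (LK LD1_c0 LD2_c22 LD3_c31)) :=
  Lre_b IH (LK LD1_c0 LD2_c10 LD3_c8) (LK LD1_c0 LD2_c22 LD3_c31) Lrfl Lrfl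
theorem f17463 : Led Lsl_dt (LP (LK LD1_c0 LD2_c22 LD3_c7)) = (LP (LK LD1_c0 LD2_c10 LD3_c8)) :=
  Lgr Lrot79 (Lpe (f5905 IH) (Lpr_df (f17458 IH) (Lpe (f12566 IH) (Lpn (LP (LK LD1_c0 LD2_c10 LD3_c8))))))
theorem f17465 : Led Lsl_df (LP (LK LD1_c0 LD2_c22 LD3_c7)) = (LP (LK LD1_c0 LD2_c10 LD3_c8)) :=
  Lgr Lrot38 (Lpr_dt (f17463 IH) (Lpn (LP (LK LD1_c0 LD2_c10 LD3_c8))))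
theorem f10232 : Led Lsl_dt (LP (LK LD1_c0 LD2_c9 LD3_c59)) = (LP (LK LD1_c0 LD2_c4 LD3_c41)) :=
  Lre_d IH (LK LD1_c0 LD2_c9 LD3_c59) (LK LD1_c0 LD2_c4 LD3_c41) Lrfl Lrfl
theorem f4986 : Led Lsl_df (LP (LK LD1_c1 LD2_c46 LD3_c15)) = (LP (LK LD1_c0 LD2_c50 LD3_c1)) :=
  Lgr Lrot38 (Lpr_dt (f4975 IH) (Lpn (LP (LK LD1_c0 LD2_c50 LD3_c1))))
theorem f381 : Led Lsl_ct (LP (LK LD1_c1 LD2_c46 LD3_c15)) = (LP (LK LD1_c0 LD2_c49 LD3_c53)) :=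
  Lre_c IH (LK LD1_c1 LD2_c46 LD3_c15) (LK LD1_c0 LD2_c49 LD3_c53) Lrfl Lrfl
theorem f5004 : Led Lsl_at (LP (LK LD1_c1 LD2_c46 LD3_c6)) = (LP (LK LD1_c0 LD2_c49 LD3_c53)) :=
  Lre_a IH (LK LD1_c1 LD2_c46 LD3_c6) (LK LD1_c0 LD2_c49 LD3_c53) Lrfl Lrfl
theorem f5005 : Led Lsl_ff (LP (LK LD1_c1 LD2_c46 LD3_c6)) = (LP (LK LD1_c1 LD2_c46 LD3_c15)) :=
  Lgr Lrot103 (Lpr_at (f5004 IH) (Lpe (f381 IH) (Lpr_df (f4986 IH) (Lpe (f4995 IH) (Lpe (f4012 IH) (Lpr_cf (f4996 IH) (Lpe (f4985 IH) (Lpe (f4974 IH) (Lpe (f4975 IH) (Lpn (LP (LK LD1_c1 LD2_c46 LD3_c15))))))))))))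
theorem f5019 : Led Lsl_ft (LP (LK LD1_c1 LD2_c46 LD3_c6)) = (LP (LK LD1_c1 LD2_c46 LD3_c15)) :=
  Lgr Lrot48 (Lpr_ff (f5005 IH) (Lpn (LP (LK LD1_c1 LD2_c46 LD3_c15))))
theorem f398 : Led Lsl_dt (LP (LK LD1_c0 LD2_c49 LD3_c49)) = (LP (LK LD1_c1 LD2_c46 LD3_c6)) :=
  Lre_d IH (LK LD1_c0 LD2_c49 LD3_c49) (LK LD1_c1 LD2_c46 LD3_c6) Lrfl Lrfl
theorem f5028 : Led Lsl_ff (LP (LK LD1_c0 LD2_c49 LD3_c49)) = (LP (LK LD1_c0 LD2_c50 LD3_c1)) :=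
  Lgr Lrot19 (Lpr_dt (f398 IH) (Lpr_ft (f5019 IH) (Lpr_dt (f4975 IH) (Lpn (LP (LK LD1_c0 LD2_c50 LD3_c1))))))
theorem f5045 : Led Lsl_bt (LP (LK LD1_c0 LD2_c49 LD3_c49)) = (LP (LK LD1_c1 LD2_c46 LD3_c5)) :=
  Lre_b IH (LK LD1_c0 LD2_c49 LD3_c49) (LK LD1_c1 LD2_c46 LD3_c5) Lrfl Lrfl
theorem f5046 : Led Lsl_bt (LP (LK LD1_c1 LD2_c46 LD3_c36)) = (LP (LK LD1_c0 LD2_c50 LD3_c1)) :=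
  Lre_b IH (LK LD1_c1 LD2_c46 LD3_c36) (LK LD1_c0 LD2_c50 LD3_c1) Lrfl Lrfl
theorem f5047 : Led Lsl_ft (LP (LK LD1_c1 LD2_c46 LD3_c5)) = (LP (LK LD1_c1 LD2_c46 LD3_c36)) :=
  Lgr Lrot75 (Lpe (f5045 IH) (Lpr_ff (f5028 IH) (Lpe (f5046 IH) (Lpn (LP (LK LD1_c1 LD2_c46 LD3_c36))))))
theorem f5060 : Led Lsl_ff (LP (LK LD1_c1 LD2_c46 LD3_c5)) = (LP (LK LD1_c1 LD2_c46 LD3_c36)) :=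
  Lgr Lrot3 (Lpr_ft (f5047 IH) (Lpn (LP (LK LD1_c1 LD2_c46 LD3_c36))))
theorem f5063 : Led Lsl_dt (LP (LK LD1_c1 LD2_c46 LD3_c5)) = (LP (LK LD1_c3 LD2_c38 LD3_c13)) :=
  Lre_d IH (LK LD1_c1 LD2_c46 LD3_c5) (LK LD1_c3 LD2_c38 LD3_c13) Lrfl Lrfl
theorem f5009 : Led Lsl_bt (LP (LK LD1_c1 LD2_c46 LD3_c6)) = (LP (LK LD1_c3 LD2_c38 LD3_c13)) :=
  Lre_b IH (LK LD1_c1 LD2_c46 LD3_c6) (LK LD1_c3 LD2_c38 LD3_c13) Lrfl Lrfl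
theorem f4981 : Led Lsl_bt (LP (LK LD1_c3 LD2_c38 LD3_c32)) = (LP (LK LD1_c1 LD2_c46 LD3_c15)) :=
  Lre_b IH (LK LD1_c3 LD2_c38 LD3_c32) (LK LD1_c1 LD2_c46 LD3_c15) Lrfl Lrfl
theorem f5010 : Led Lsl_ft (LP (LK LD1_c3 LD2_c38 LD3_c13)) = (LP (LK LD1_c3 LD2_c38 LD3_c32)) :=
  Lgr Lrot75 (Lpe (f5009 IH) (Lpr_ff (f5005 IH) (Lpe (f4981 IH) (Lpn (LP (LK LD1_c3 LD2_c38 LD3_c32))))))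
theorem f5065 : Led Lsl_dt (LP (LK LD1_c3 LD2_c38 LD3_c32)) = (LP (LK LD1_c1 LD2_c46 LD3_c36)) :=
  Lgr Lrot60 (Lpe (f5010 IH) (Lpe (f5063 IH) (Lpr_ff (f5060 IH) (Lpn (LP (LK LD1_c1 LD2_c46 LD3_c36))))))
theorem f5071 : Led Lsl_et (LP (LK LD1_c7 LD2_c17 LD3_c24)) = (LP (LK LD1_c3 LD2_c38 LD3_c32)) :=
  Lre_e IH (LK LD1_c7 LD2_c17 LD3_c24) (LK LD1_c3 LD2_c38 LD3_c32) Lrfl Lrfl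
theorem f5072 : Led Lsl_dt (LP (LK LD1_c13 LD2_c47 LD3_c29)) = (LP (LK LD1_c7 LD2_c17 LD3_c24)) :=
  Lre_d IH (LK LD1_c13 LD2_c47 LD3_c29) (LK LD1_c7 LD2_c17 LD3_c24) Lrfl Lrfl
theorem f5059 : Led Lsl_et (LP (LK LD1_c1 LD2_c46 LD3_c36)) = (LP (LK LD1_c3 LD2_c39 LD3_c18)) :=
  Lre_e IH (LK LD1_c1 LD2_c46 LD3_c36) (LK LD1_c3 LD2_c39 LD3_c18) Lrfl Lrfl
theorem f5073 : Led Lsl_dt (LP (LK LD1_c3 LD2_c39 LD3_c18)) = (LP (LK LD1_c7 LD2_c18 LD3_c52)) :=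
  Lre_d IH (LK LD1_c3 LD2_c39 LD3_c18) (LK LD1_c7 LD2_c18 LD3_c52) Lrfl Lrfl
theorem f5074 : Led Lsl_ef (LP (LK LD1_c13 LD2_c47 LD3_c29)) = (LP (LK LD1_c7 LD2_c18 LD3_c52)) :=
  Lgr Lrot73 (Lpr_dt (f5072 IH) (Lpr_et (f5071 IH) (Lpr_dt (f5065 IH) (Lpr_et (f5059 IH) (Lpr_dt (f5073 IH) (Lpn (LP (LK LD1_c7 LD2_c18 LD3_c52))))))))
theorem f5078 : Led Lsl_bt (LP (LK LD1_c13 LD2_c47 LD3_c29)) = (LP (LK LD1_c7 LD2_c17 LD3_c26)) :=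
  Lre_b IH (LK LD1_c13 LD2_c47 LD3_c29) (LK LD1_c7 LD2_c17 LD3_c26) Lrfl Lrfl
theorem f5079 : Led Lsl_bt (LP (LK LD1_c3 LD2_c39 LD3_c19)) = (LP (LK LD1_c7 LD2_c18 LD3_c52)) :=
  Lre_b IH (LK LD1_c3 LD2_c39 LD3_c19) (LK LD1_c7 LD2_c18 LD3_c52) Lrfl Lrfl
theorem f5080 : Led Lsl_et (LP (LK LD1_c7 LD2_c17 LD3_c26)) = (LP (LK LD1_c3 LD2_c39 LD3_c19)) :=
  Lgr Lrot74 (Lpe (f5078 IH) (Lpr_ef (f5074 IH) (Lpe (f5079 IH) (Lpn (LP (LK LD1_c3 LD2_c39 LD3_c19))))))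
theorem f5110 : Led Lsl_at (LP (LK LD1_c3 LD2_c39 LD3_c19)) = (LP (LK LD1_c1 LD2_c46 LD3_c45)) :=
  Lre_a IH (LK LD1_c3 LD2_c39 LD3_c19) (LK LD1_c1 LD2_c46 LD3_c45) Lrfl Lrfl
theorem f5111 : Led Lsl_et (LP (LK LD1_c1 LD2_c46 LD3_c45)) = (LP (LK LD1_c3 LD2_c39 LD3_c33)) :=
  Lre_e IH (LK LD1_c1 LD2_c46 LD3_c45) (LK LD1_c3 LD2_c39 LD3_c33) Lrfl Lrfl
theorem f5112 : Led Lsl_af (LP (LK LD1_c7 LD2_c17 LD3_c26)) = (LP (LK LD1_c3 LD2_c39 LD3_c33)) :=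
  Lgr Lrot50 (Lpr_et (f5080 IH) (Lpr_at (f5110 IH) (Lpr_et (f5111 IH) (Lpn (LP (LK LD1_c3 LD2_c39 LD3_c33))))))
theorem f5124 : Led Lsl_ft (LP (LK LD1_c7 LD2_c17 LD3_c26)) = (LP (LK LD1_c13 LD2_c47 LD3_c31)) :=
  Lre_f IH (LK LD1_c7 LD2_c17 LD3_c26) (LK LD1_c13 LD2_c47 LD3_c31) Lrfl Lrfl
theorem f5125 : Led Lsl_ft (LP (LK LD1_c7 LD2_c19 LD3_c21)) = (LP (LK LD1_c3 LD2_c39 LD3_c33)) :=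
  Lre_f IH (LK LD1_c7 LD2_c19 LD3_c21) (LK LD1_c3 LD2_c39 LD3_c33) Lrfl Lrfl
theorem f5126 : Led Lsl_at (LP (LK LD1_c13 LD2_c47 LD3_c31)) = (LP (LK LD1_c7 LD2_c19 LD3_c21)) :=
  Lgr Lrot66 (Lpe (f5124 IH) (Lpr_af (f5112 IH) (Lpe (f5125 IH) (Lpn (LP (LK LD1_c7 LD2_c19 LD3_c21))))))
theorem f4989 : Led Lsl_dt (LP (LK LD1_c7 LD2_c17 LD3_c26)) = (LP (LK LD1_c3 LD2_c38 LD3_c33)) :=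
  Lre_d IH (LK LD1_c7 LD2_c17 LD3_c26) (LK LD1_c3 LD2_c38 LD3_c33) Lrfl Lrfl
theorem f5134 : Led Lsl_ct (LP (LK LD1_c3 LD2_c38 LD3_c33)) = (LP (LK LD1_c1 LD2_c46 LD3_c16)) :=
  Lre_c IH (LK LD1_c3 LD2_c38 LD3_c33) (LK LD1_c1 LD2_c46 LD3_c16) Lrfl Lrfl
theorem f5135 : Led Lsl_dt (LP (LK LD1_c1 LD2_c46 LD3_c16)) = (LP (LK LD1_c3 LD2_c38 LD3_c36)) :=
  Lre_d IH (LK LD1_c1 LD2_c46 LD3_c16) (LK LD1_c3 LD2_c38 LD3_c36) Lrfl Lrfl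
theorem f5136 : Led Lsl_ct (LP (LK LD1_c3 LD2_c38 LD3_c36)) = (LP (LK LD1_c7 LD2_c17 LD3_c34)) :=
  Lre_c IH (LK LD1_c3 LD2_c38 LD3_c36) (LK LD1_c7 LD2_c17 LD3_c34) Lrfl Lrfl
theorem f5137 : Led Lsl_dt (LP (LK LD1_c7 LD2_c17 LD3_c34)) = (LP (LK LD1_c13 LD2_c47 LD3_c46)) :=
  Lre_d IH (LK LD1_c7 LD2_c17 LD3_c34) (LK LD1_c13 LD2_c47 LD3_c46) Lrfl Lrfl
theorem f5138 : Led Lsl_ct (LP (LK LD1_c13 LD2_c47 LD3_c46)) = (LP (LK LD1_c23 LD2_c15 LD3_c34)) :=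
  Lre_c IH (LK LD1_c13 LD2_c47 LD3_c46) (LK LD1_c23 LD2_c15 LD3_c34) Lrfl Lrfl
theorem f5139 : Led Lsl_ct (LP (LK LD1_c13 LD2_c50 LD3_c59)) = (LP (LK LD1_c7 LD2_c19 LD3_c21)) :=
  Lre_c IH (LK LD1_c13 LD2_c50 LD3_c59) (LK LD1_c7 LD2_c19 LD3_c21) Lrfl Lrfl
theorem f5140 : Led Lsl_dt (LP (LK LD1_c23 LD2_c15 LD3_c34)) = (LP (LK LD1_c13 LD2_c50 LD3_c59)) :=
  Lgr Lrot120 (Lpe (f5138 IH) (Lpe (f5137 IH) (Lpe (f5136 IH) (Lpe (f5135 IH) (Lpe (f5134 IH) (Lpe (f4989 IH) (Lpr_ft (f5124 IH) (Lpr_at (f5126 IH) (Lpe (f5139 IH) (Lpn (LP (LK LD1_c13 LD2_c50 LD3_c59))))))))))))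
theorem f5149 : Led Lsl_ft (LP (LK LD1_c7 LD2_c17 LD3_c34)) = (LP (LK LD1_c13 LD2_c47 LD3_c47)) :=
  Lre_f IH (LK LD1_c7 LD2_c17 LD3_c34) (LK LD1_c13 LD2_c47 LD3_c47) Lrfl Lrfl
theorem f4245 : Led Lsl_at (LP (LK LD1_c13 LD2_c47 LD3_c47)) = (LP (LK LD1_c23 LD2_c14 LD3_c1)) :=
  Lre_a IH (LK LD1_c13 LD2_c47 LD3_c47) (LK LD1_c23 LD2_c14 LD3_c1) Lrfl Lrfl
theorem f4236 : Led Lsl_ct (LP (LK LD1_c13 LD2_c46 LD3_c43)) = (LP (LK LD1_c23 LD2_c14 LD3_c1)) :=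
  Lre_c IH (LK LD1_c13 LD2_c46 LD3_c43) (LK LD1_c23 LD2_c14 LD3_c1) Lrfl Lrfl
theorem f5038 : Led Lsl_dt (LP (LK LD1_c7 LD2_c16 LD3_c53)) = (LP (LK LD1_c13 LD2_c46 LD3_c43)) :=
  Lre_d IH (LK LD1_c7 LD2_c16 LD3_c53) (LK LD1_c13 LD2_c46 LD3_c43) Lrfl Lrfl
theorem f5128 : Led Lsl_dt (LP (LK LD1_c7 LD2_c19 LD3_c21)) = (LP (LK LD1_c3 LD2_c39 LD3_c34)) :=
  Lre_d IH (LK LD1_c7 LD2_c19 LD3_c21) (LK LD1_c3 LD2_c39 LD3_c34) Lrfl Lrfl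
theorem f5150 : Led Lsl_cf (LP (LK LD1_c7 LD2_c16 LD3_c53)) = (LP (LK LD1_c3 LD2_c39 LD3_c34)) :=
  Lgr Lrot161 (Lpr_dt (f5038 IH) (Lpr_ct (f4236 IH) (Lpe (f4245 IH) (Lpe (f5149 IH) (Lpr_dt (f5137 IH) (Lpr_ct (f5138 IH) (Lpr_dt (f5140 IH) (Lpr_ct (f5139 IH) (Lpr_dt (f5128 IH) (Lpn (LP (LK LD1_c3 LD2_c39 LD3_c34))))))))))))
theorem f5031 : Led Lsl_ft (LP (LK LD1_c7 LD2_c16 LD3_c53)) = (LP (LK LD1_c3 LD2_c38 LD3_c15)) :=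
  Lre_f IH (LK LD1_c7 LD2_c16 LD3_c53) (LK LD1_c3 LD2_c38 LD3_c15) Lrfl Lrfl
theorem f5163 : Led Lsl_ft (LP (LK LD1_c1 LD2_c46 LD3_c42)) = (LP (LK LD1_c3 LD2_c39 LD3_c34)) :=
  Lre_f IH (LK LD1_c1 LD2_c46 LD3_c42) (LK LD1_c3 LD2_c39 LD3_c34) Lrfl Lrfl
theorem f5164 : Led Lsl_ct (LP (LK LD1_c3 LD2_c38 LD3_c15)) = (LP (LK LD1_c1 LD2_c46 LD3_c42)) :=
  Lgr Lrot40 (Lpe (f5031 IH) (Lpr_cf (f5150 IH) (Lpe (f5163 IH) (Lpn (LP (LK LD1_c1 LD2_c46 LD3_c42))))))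
theorem f5173 : Led Lsl_cf (LP (LK LD1_c3 LD2_c38 LD3_c15)) = (LP (LK LD1_c1 LD2_c46 LD3_c42)) :=
  Lgr Lrot11 (Lpr_ct (f5164 IH) (Lpn (LP (LK LD1_c1 LD2_c46 LD3_c42))))
theorem f5030 : Led Lsl_et (LP (LK LD1_c3 LD2_c38 LD3_c15)) = (LP (LK LD1_c1 LD2_c46 LD3_c6)) :=
  Lre_e IH (LK LD1_c3 LD2_c38 LD3_c15) (LK LD1_c1 LD2_c46 LD3_c6) Lrfl Lrfl
theorem f5223 : Led Lsl_et (LP (LK LD1_c0 LD2_c50 LD3_c5)) = (LP (LK LD1_c1 LD2_c46 LD3_c42)) :=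
  Lre_e IH (LK LD1_c0 LD2_c50 LD3_c5) (LK LD1_c1 LD2_c46 LD3_c42) Lrfl Lrfl
theorem f5224 : Led Lsl_ct (LP (LK LD1_c1 LD2_c46 LD3_c6)) = (LP (LK LD1_c0 LD2_c50 LD3_c5)) :=
  Lgr Lrot15 (Lpe (f5030 IH) (Lpr_cf (f5173 IH) (Lpe (f5223 IH) (Lpn (LP (LK LD1_c0 LD2_c50 LD3_c5))))))
theorem f397 : Led Lsl_ct (LP (LK LD1_c0 LD2_c22 LD3_c24)) = (LP (LK LD1_c0 LD2_c49 LD3_c49)) :=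
  Lre_c IH (LK LD1_c0 LD2_c22 LD3_c24) (LK LD1_c0 LD2_c49 LD3_c49) Lrfl Lrfl
theorem f396 : Led Lsl_dt (LP (LK LD1_c0 LD2_c10 LD3_c4)) = (LP (LK LD1_c0 LD2_c22 LD3_c24)) :=
  Lre_d IH (LK LD1_c0 LD2_c10 LD3_c4) (LK LD1_c0 LD2_c22 LD3_c24) Lrfl Lrfl
theorem f5231 : Led Lsl_dt (LP (LK LD1_c0 LD2_c50 LD3_c5)) = (LP (LK LD1_c0 LD2_c22 LD3_c35)) :=
  Lre_d IH (LK LD1_c0 LD2_c50 LD3_c5) (LK LD1_c0 LD2_c22 LD3_c35) Lrfl Lrfl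
theorem f4965 : Led Lsl_dt (LP (LK LD1_c0 LD2_c10 LD3_c10)) = (LP (LK LD1_c0 LD2_c4 LD3_c47)) :=
  Lre_d IH (LK LD1_c0 LD2_c10 LD3_c10) (LK LD1_c0 LD2_c4 LD3_c47) Lrfl Lrfl
theorem f5236 : Led Lsl_ft (LP (LK LD1_c0 LD2_c10 LD3_c4)) = (LP (LK LD1_c0 LD2_c10 LD3_c9)) :=
  Lgr Lrot142 (Lpr_dt (f396 IH) (Lpr_ct (f397 IH) (Lpr_dt (f398 IH) (Lpr_ct (f5224 IH) (Lpr_dt (f5231 IH) (Lpr_ct (f4956 IH) (Lpr_dt (f4965 IH) (Lpr_ct (f5000 IH) (Lpe (f4904 IH) (Lpn (LP (LK LD1_c0 LD2_c10 LD3_c9))))))))))))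
theorem f5242 : Led Lsl_gt (LP (LK LD1_c0 LD2_c10 LD3_c4)) = (LP (LK LD1_c0 LD2_c10 LD3_c8)) :=
  Lgr Lrot5 (Lpr_ft (f5236 IH) (Lpr_at (f4904 IH) (Lpe (f5241 IH) (Lpn (LP (LK LD1_c0 LD2_c10 LD3_c8))))))
theorem f370 : Led Lsl_at (LP (LK LD1_c0 LD2_c4 LD3_c45)) = (LP (LK LD1_c0 LD2_c10 LD3_c4)) :=
  Lre_a IH (LK LD1_c0 LD2_c4 LD3_c45) (LK LD1_c0 LD2_c10 LD3_c4) Lrfl Lrfl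
theorem f371 : Led Lsl_at (LP (LK LD1_c0 LD2_c10 LD3_c4)) = (LP (LK LD1_c0 LD2_c4 LD3_c45)) :=
  Lre_a IH (LK LD1_c0 LD2_c10 LD3_c4) (LK LD1_c0 LD2_c4 LD3_c45) Lrfl Lrfl
theorem f372 : Led Lsl_ct (LP (LK LD1_c0 LD2_c10 LD3_c4)) = (LP (LK LD1_c0 LD2_c10 LD3_c4)) :=
  Lgr Lrot111 (Lpe (f370 IH) (Lpr_cf (f365 IH) (Lpe (f371 IH) (Lpn (LP (LK LD1_c0 LD2_c10 LD3_c4))))))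
theorem f17629 : Led Lsl_ct (LP (LK LD1_c0 LD2_c4 LD3_c41)) = (LP (LK LD1_c0 LD2_c4 LD3_c41)) :=
  Lgr Lrot7 (Lpe (f10232 IH) (Lpe (f5904 IH) (Lpr_df (f17465 IH) (Lpe (f5242 IH) (Lpe (f372 IH) (Lpr_gt (f5242 IH) (Lpe (f17465 IH) (Lpr_gt (f5904 IH) (Lpr_dt (f10232 IH) (Lpn (LP (LK LD1_c0 LD2_c4 LD3_c41))))))))))))
theorem f12679 : Led Lsl_gt (LP (LK LD1_c0 LD2_c1 LD3_c57)) = (LP (LK LD1_c0 LD2_c1 LD3_c60)) :=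
  Lgr Lrot112 (Lpe (f112 IH) (Lpr_et (f89 IH) (Lpr_gf (f3805 IH) (Lpq (f3808 IH) (Lpe (f3812 IH) (Lpr_dt (f3815 IH) (Lpe (f59 IH) (Lpe (f58 IH) (Lpe (f3820 IH) (Lpr_ef (f12671 IH) (Lpr_dt (f3807 IH) (Lpn (LP (LK LD1_c0 LD2_c1 LD3_c60))))))))))))))
theorem f12692 : Led Lsl_bt (LP (LK LD1_c0 LD2_c4 LD3_c20)) = (LP (LK LD1_c0 LD2_c9 LD3_c16)) :=
  Lre_b IH (LK LD1_c0 LD2_c4 LD3_c20) (LK LD1_c0 LD2_c9 LD3_c16) Lrfl Lrfl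
theorem f17645 : Led Lsl_gt (LP (LK LD1_c0 LD2_c9 LD3_c16)) = (LP (LK LD1_c0 LD2_c20 LD3_c31)) :=
  Lre_g IH (LK LD1_c0 LD2_c9 LD3_c16) (LK LD1_c0 LD2_c20 LD3_c31) Lrfl Lrfl
theorem f6101 : Led Lsl_gt (LP (LK LD1_c0 LD2_c9 LD3_c57)) = (LP (LK LD1_c0 LD2_c4 LD3_c41)) :=
  Lre_g IH (LK LD1_c0 LD2_c9 LD3_c57) (LK LD1_c0 LD2_c4 LD3_c41) Lrfl Lrfl
theorem f10766 : Led Lsl_ct (LP (LK LD1_c0 LD2_c22 LD3_c1)) = (LP (LK LD1_c0 LD2_c9 LD3_c57)) :=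
  Lre_c IH (LK LD1_c0 LD2_c22 LD3_c1) (LK LD1_c0 LD2_c9 LD3_c57) Lrfl Lrfl
theorem f17646 : Led Lsl_bf (LP (LK LD1_c0 LD2_c20 LD3_c31)) = (LP (LK LD1_c0 LD2_c22 LD3_c1)) :=
  Lgr Lrot34 (Lpe (f17645 IH) (Lpe (f12692 IH) (Lpr_ct (f12683 IH) (Lpe (f12679 IH) (Lpe (f130 IH) (Lpr_gf (f11022 IH) (Lpe (f10253 IH) (Lpr_ct (f17629 IH) (Lpe (f6101 IH) (Lpe (f10766 IH) (Lpn (LP (LK LD1_c0 LD2_c22 LD3_c1)))))))))))))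
theorem f17694 : Led Lsl_bt (LP (LK LD1_c0 LD2_c20 LD3_c31)) = (LP (LK LD1_c0 LD2_c22 LD3_c1)) :=
  Lgr Lrot127 (Lpr_bf (f17646 IH) (Lpn (LP (LK LD1_c0 LD2_c22 LD3_c1))))
theorem f17728 : Led Lsl_ct (LP (LK LD1_c0 LD2_c45 LD3_c53)) = (LP (LK LD1_c0 LD2_c20 LD3_c31)) :=
  Lre_c IH (LK LD1_c0 LD2_c45 LD3_c53) (LK LD1_c0 LD2_c20 LD3_c31) Lrfl Lrfl
theorem f17729 : Led Lsl_bt (LP (LK LD1_c0 LD2_c9 LD3_c57)) = (LP (LK LD1_c0 LD2_c22 LD3_c0)) :=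
  Lre_b IH (LK LD1_c0 LD2_c9 LD3_c57) (LK LD1_c0 LD2_c22 LD3_c0) Lrfl Lrfl
theorem f3945 : Led Lsl_bt (LP (LK LD1_c0 LD2_c2 LD3_c4)) = (LP (LK LD1_c0 LD2_c4 LD3_c30)) :=
  Lre_b IH (LK LD1_c0 LD2_c2 LD3_c4) (LK LD1_c0 LD2_c4 LD3_c30) Lrfl Lrfl
theorem f3946 : Led Lsl_gt (LP (LK LD1_c0 LD2_c4 LD3_c30)) = (LP (LK LD1_c0 LD2_c9 LD3_c32)) :=
  Lre_g IH (LK LD1_c0 LD2_c4 LD3_c30) (LK LD1_c0 LD2_c9 LD3_c32) Lrfl Lrfl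
theorem f9928 : Led Lsl_ct (LP (LK LD1_c0 LD2_c9 LD3_c32)) = (LP (LK LD1_c0 LD2_c21 LD3_c3)) :=
  Lre_c IH (LK LD1_c0 LD2_c9 LD3_c32) (LK LD1_c0 LD2_c21 LD3_c3) Lrfl Lrfl
theorem f9929 : Led Lsl_gt (LP (LK LD1_c0 LD2_c21 LD3_c3)) = (LP (LK LD1_c0 LD2_c46 LD3_c61)) :=
  Lre_g IH (LK LD1_c0 LD2_c21 LD3_c3) (LK LD1_c0 LD2_c46 LD3_c61) Lrfl Lrfl
theorem f5855 : Led Lsl_bt (LP (LK LD1_c0 LD2_c2 LD3_c8)) = (LP (LK LD1_c0 LD2_c4 LD3_c41)) :=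
  Lre_b IH (LK LD1_c0 LD2_c2 LD3_c8) (LK LD1_c0 LD2_c4 LD3_c41) Lrfl Lrfl
theorem f6102 : Led Lsl_bt (LP (LK LD1_c0 LD2_c22 LD3_c0)) = (LP (LK LD1_c0 LD2_c9 LD3_c57)) :=
  Lre_b IH (LK LD1_c0 LD2_c22 LD3_c0) (LK LD1_c0 LD2_c9 LD3_c57) Lrfl Lrfl
theorem f9930 : Led Lsl_cf (LP (LK LD1_c0 LD2_c46 LD3_c61)) = (LP (LK LD1_c0 LD2_c22 LD3_c0)) :=
  Lgr Lrot163 (Lpe (f9929 IH) (Lpe (f9928 IH) (Lpe (f3946 IH) (Lpe (f3945 IH) (Lpr_ct (f109 IH) (Lpr_gf (f9926 IH) (Lpe (f356 IH) (Lpr_bt (f5855 IH) (Lpe (f6101 IH) (Lpe (f6102 IH) (Lpn (LP (LK LD1_c0 LD2_c22 LD3_c0)))))))))))))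
theorem f17730 : Led Lsl_bf (LP (LK LD1_c0 LD2_c45 LD3_c53)) = (LP (LK LD1_c0 LD2_c46 LD3_c61)) :=
  Lgr Lrot90 (Lpr_ct (f17728 IH) (Lpr_bt (f17694 IH) (Lpr_ct (f10766 IH) (Lpr_bt (f17729 IH) (Lpe (f9930 IH) (Lpn (LP (LK LD1_c0 LD2_c46 LD3_c61))))))))
theorem f17739 : Led Lsl_et (LP (LK LD1_c0 LD2_c45 LD3_c53)) = (LP (LK LD1_c1 LD2_c38 LD3_c59)) :=
  Lre_e IH (LK LD1_c0 LD2_c45 LD3_c53) (LK LD1_c1 LD2_c38 LD3_c59) Lrfl Lrfl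
theorem f17740 : Led Lsl_et (LP (LK LD1_c1 LD2_c40 LD3_c60)) = (LP (LK LD1_c0 LD2_c46 LD3_c61)) :=
  Lre_e IH (LK LD1_c1 LD2_c40 LD3_c60) (LK LD1_c0 LD2_c46 LD3_c61) Lrfl Lrfl
theorem f17741 : Led Lsl_bt (LP (LK LD1_c1 LD2_c38 LD3_c59)) = (LP (LK LD1_c1 LD2_c40 LD3_c60)) :=
  Lgr Lrot119 (Lpe (f17739 IH) (Lpr_bf (f17730 IH) (Lpe (f17740 IH) (Lpn (LP (LK LD1_c1 LD2_c40 LD3_c60))))))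
theorem f17711 : Led Lsl_ct (LP (LK LD1_c0 LD2_c45 LD3_c54)) = (LP (LK LD1_c1 LD2_c38 LD3_c59)) :=
  Lre_c IH (LK LD1_c0 LD2_c45 LD3_c54) (LK LD1_c1 LD2_c38 LD3_c59) Lrfl Lrfl
theorem f17697 : Led Lsl_et (LP (LK LD1_c0 LD2_c20 LD3_c31)) = (LP (LK LD1_c0 LD2_c45 LD3_c54)) :=
  Lre_e IH (LK LD1_c0 LD2_c20 LD3_c31) (LK LD1_c0 LD2_c45 LD3_c54) Lrfl Lrfl
theorem f17698 : Led Lsl_et (LP (LK LD1_c0 LD2_c49 LD3_c8)) = (LP (LK LD1_c0 LD2_c22 LD3_c1)) :=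
  Lre_e IH (LK LD1_c0 LD2_c49 LD3_c8) (LK LD1_c0 LD2_c22 LD3_c1) Lrfl Lrfl
theorem f17699 : Led Lsl_bt (LP (LK LD1_c0 LD2_c45 LD3_c54)) = (LP (LK LD1_c0 LD2_c49 LD3_c8)) :=
  Lgr Lrot119 (Lpe (f17697 IH) (Lpr_bf (f17646 IH) (Lpe (f17698 IH) (Lpn (LP (LK LD1_c0 LD2_c49 LD3_c8))))))
theorem f17701 : Led Lsl_bf (LP (LK LD1_c0 LD2_c45 LD3_c54)) = (LP (LK LD1_c0 LD2_c49 LD3_c8)) :=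
  Lgr Lrot24 (Lpr_bt (f17699 IH) (Lpn (LP (LK LD1_c0 LD2_c49 LD3_c8))))
theorem f17723 : Led Lsl_ct (LP (LK LD1_c0 LD2_c22 LD3_c3)) = (LP (LK LD1_c0 LD2_c49 LD3_c8)) :=
  Lre_c IH (LK LD1_c0 LD2_c22 LD3_c3) (LK LD1_c0 LD2_c49 LD3_c8) Lrfl Lrfl
theorem f17724 : Led Lsl_bt (LP (LK LD1_c0 LD2_c49 LD3_c6)) = (LP (LK LD1_c0 LD2_c22 LD3_c3)) :=
  Lre_b IH (LK LD1_c0 LD2_c49 LD3_c6) (LK LD1_c0 LD2_c22 LD3_c3) Lrfl Lrfl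
theorem f17746 : Led Lsl_cf (LP (LK LD1_c0 LD2_c49 LD3_c6)) = (LP (LK LD1_c1 LD2_c40 LD3_c60)) :=
  Lgr Lrot97 (Lpr_bt (f17724 IH) (Lpr_ct (f17723 IH) (Lpe (f17701 IH) (Lpr_ct (f17711 IH) (Lpr_bt (f17741 IH) (Lpn (LP (LK LD1_c1 LD2_c40 LD3_c60))))))))
theorem f17762 : Led Lsl_ct (LP (LK LD1_c0 LD2_c49 LD3_c6)) = (LP (LK LD1_c1 LD2_c40 LD3_c60)) :=
  Lgr Lrot59 (Lpr_cf (f17746 IH) (Lpn (LP (LK LD1_c1 LD2_c40 LD3_c60))))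
theorem f17770 : Led Lsl_et (LP (LK LD1_c0 LD2_c22 LD3_c0)) = (LP (LK LD1_c0 LD2_c49 LD3_c6)) :=
  Lre_e IH (LK LD1_c0 LD2_c22 LD3_c0) (LK LD1_c0 LD2_c49 LD3_c6) Lrfl Lrfl
theorem f17771 : Led Lsl_cf (LP (LK LD1_c0 LD2_c22 LD3_c0)) = (LP (LK LD1_c0 LD2_c46 LD3_c61)) :=
  Lgr Lrot39 (Lpr_et (f17770 IH) (Lpr_ct (f17762 IH) (Lpr_et (f17740 IH) (Lpn (LP (LK LD1_c0 LD2_c46 LD3_c61))))))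
theorem f17774 : Led Lsl_dt (LP (LK LD1_c0 LD2_c22 LD3_c0)) = (LP (LK LD1_c0 LD2_c49 LD3_c5)) :=
  Lre_d IH (LK LD1_c0 LD2_c22 LD3_c0) (LK LD1_c0 LD2_c49 LD3_c5) Lrfl Lrfl
theorem f17779 : Led Lsl_dt (LP (LK LD1_c0 LD2_c9 LD3_c35)) = (LP (LK LD1_c0 LD2_c4 LD3_c30)) :=
  Lre_d IH (LK LD1_c0 LD2_c9 LD3_c35) (LK LD1_c0 LD2_c4 LD3_c30) Lrfl Lrfl
theorem f11432 : Led Lsl_gt (LP (LK LD1_c0 LD2_c9 LD3_c35)) = (LP (LK LD1_c0 LD2_c21 LD3_c10)) :=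
  Lre_g IH (LK LD1_c0 LD2_c9 LD3_c35) (LK LD1_c0 LD2_c21 LD3_c10) Lrfl Lrfl
theorem f11438 : Led Lsl_ct (LP (LK LD1_c0 LD2_c21 LD3_c10)) = (LP (LK LD1_c0 LD2_c47 LD3_c17)) :=
  Lre_c IH (LK LD1_c0 LD2_c21 LD3_c10) (LK LD1_c0 LD2_c47 LD3_c17) Lrfl Lrfl
theorem f11439 : Led Lsl_gt (LP (LK LD1_c0 LD2_c47 LD3_c17)) = (LP (LK LD1_c1 LD2_c41 LD3_c24)) :=
  Lre_g IH (LK LD1_c0 LD2_c47 LD3_c17) (LK LD1_c1 LD2_c41 LD3_c24) Lrfl Lrfl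
theorem f17780 : Led Lsl_cf (LP (LK LD1_c0 LD2_c49 LD3_c5)) = (LP (LK LD1_c1 LD2_c41 LD3_c24)) :=
  Lgr Lrot99 (Lpe (f17774 IH) (Lpr_cf (f17771 IH) (Lpe (f9929 IH) (Lpe (f9928 IH) (Lpe (f3946 IH) (Lpe (f17779 IH) (Lpr_gt (f11432 IH) (Lpr_ct (f11438 IH) (Lpr_gt (f11439 IH) (Lpn (LP (LK LD1_c1 LD2_c41 LD3_c24))))))))))))
theorem f17790 : Led Lsl_ct (LP (LK LD1_c0 LD2_c49 LD3_c5)) = (LP (LK LD1_c1 LD2_c41 LD3_c24)) :=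
  Lgr Lrot59 (Lpr_cf (f17780 IH) (Lpn (LP (LK LD1_c1 LD2_c41 LD3_c24))))
theorem f17786 : Led Lsl_bt (LP (LK LD1_c0 LD2_c49 LD3_c5)) = (LP (LK LD1_c0 LD2_c22 LD3_c2)) :=
  Lre_b IH (LK LD1_c0 LD2_c49 LD3_c5) (LK LD1_c0 LD2_c22 LD3_c2) Lrfl Lrfl
theorem f11396 : Led Lsl_bt (LP (LK LD1_c0 LD2_c4 LD3_c31)) = (LP (LK LD1_c0 LD2_c9 LD3_c35)) :=
  Lre_b IH (LK LD1_c0 LD2_c4 LD3_c31) (LK LD1_c0 LD2_c9 LD3_c35) Lrfl Lrfl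
theorem f3939 : Led Lsl_bt (LP (LK LD1_c0 LD2_c4 LD3_c46)) = (LP (LK LD1_c0 LD2_c10 LD3_c5)) :=
  Lre_b IH (LK LD1_c0 LD2_c4 LD3_c46) (LK LD1_c0 LD2_c10 LD3_c5) Lrfl Lrfl
theorem f17956 : Led Lsl_gt (LP (LK LD1_c0 LD2_c22 LD3_c2)) = (LP (LK LD1_c0 LD2_c10 LD3_c5)) :=
  Lgr Lrot164 (Lpe (f17786 IH) (Lpr_ct (f17790 IH) (Lpe (f11439 IH) (Lpe (f11438 IH) (Lpe (f11432 IH) (Lpe (f11396 IH) (Lpr_ct (f189 IH) (Lpe (f11427 IH) (Lpe (f3919 IH) (Lpr_bt (f3939 IH) (Lpn (LP (LK LD1_c0 LD2_c10 LD3_c5)))))))))))))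
theorem f10757 : Led Lsl_dt (LP (LK LD1_c0 LD2_c9 LD3_c57)) = (LP (LK LD1_c0 LD2_c22 LD3_c2)) :=
  Lre_d IH (LK LD1_c0 LD2_c9 LD3_c57) (LK LD1_c0 LD2_c22 LD3_c2) Lrfl Lrfl
theorem f10283 : Led Lsl_at (LP (LK LD1_c0 LD2_c4 LD3_c35)) = (LP (LK LD1_c0 LD2_c9 LD3_c45)) :=
  Lre_a IH (LK LD1_c0 LD2_c4 LD3_c35) (LK LD1_c0 LD2_c9 LD3_c45) Lrfl Lrfl
theorem f10284 : Led Lsl_at (LP (LK LD1_c0 LD2_c9 LD3_c58)) = (LP (LK LD1_c0 LD2_c4 LD3_c41)) :=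
  Lre_a IH (LK LD1_c0 LD2_c9 LD3_c58) (LK LD1_c0 LD2_c4 LD3_c41) Lrfl Lrfl
theorem f10285 : Led Lsl_ft (LP (LK LD1_c0 LD2_c9 LD3_c45)) = (LP (LK LD1_c0 LD2_c9 LD3_c58)) :=
  Lgr Lrot101 (Lpe (f10283 IH) (Lpr_ff (f10262 IH) (Lpe (f10284 IH) (Lpn (LP (LK LD1_c0 LD2_c9 LD3_c58))))))
theorem f10755 : Led Lsl_gt (LP (LK LD1_c0 LD2_c9 LD3_c45)) = (LP (LK LD1_c0 LD2_c9 LD3_c57)) :=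
  Lgr Lrot5 (Lpr_ft (f10285 IH) (Lpr_at (f10284 IH) (Lpe (f6101 IH) (Lpn (LP (LK LD1_c0 LD2_c9 LD3_c57))))))
theorem f17960 : Led Lsl_ct (LP (LK LD1_c0 LD2_c9 LD3_c45)) = (LP (LK LD1_c0 LD2_c9 LD3_c45)) :=
  Lgr Lrot8 (Lpr_gt (f10755 IH) (Lpr_dt (f10757 IH) (Lpr_gt (f17956 IH) (Lpr_dt (f378 IH) (Lpr_cf (f365 IH) (Lpe (f378 IH) (Lpe (f17956 IH) (Lpe (f10757 IH) (Lpe (f10755 IH) (Lpn (LP (LK LD1_c0 LD2_c9 LD3_c45))))))))))))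
theorem f10307 : Led Lsl_et (LP (LK LD1_c0 LD2_c21 LD3_c37)) = (LP (LK LD1_c0 LD2_c9 LD3_c45)) :=
  Lre_e IH (LK LD1_c0 LD2_c21 LD3_c37) (LK LD1_c0 LD2_c9 LD3_c45) Lrfl Lrfl
theorem f10245 : Led Lsl_et (LP (LK LD1_c0 LD2_c9 LD3_c45)) = (LP (LK LD1_c0 LD2_c21 LD3_c37)) :=
  Lre_e IH (LK LD1_c0 LD2_c9 LD3_c45) (LK LD1_c0 LD2_c21 LD3_c37) Lrfl Lrfl
theorem f19348 : Led Lsl_cf (LP (LK LD1_c0 LD2_c21 LD3_c37)) = (LP (LK LD1_c0 LD2_c21 LD3_c37)) :=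
  Lgr Lrot39 (Lpr_et (f10307 IH) (Lpr_ct (f17960 IH) (Lpr_et (f10245 IH) (Lpn (LP (LK LD1_c0 LD2_c21 LD3_c37))))))
theorem f10430 : Led Lsl_at (LP (LK LD1_c0 LD2_c9 LD3_c47)) = (LP (LK LD1_c0 LD2_c21 LD3_c37)) :=
  Lre_a IH (LK LD1_c0 LD2_c9 LD3_c47) (LK LD1_c0 LD2_c21 LD3_c37) Lrfl Lrfl
theorem f10257 : Led Lsl_ft (LP (LK LD1_c0 LD2_c21 LD3_c45)) = (LP (LK LD1_c0 LD2_c9 LD3_c47)) :=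
  Lre_f IH (LK LD1_c0 LD2_c21 LD3_c45) (LK LD1_c0 LD2_c9 LD3_c47) Lrfl Lrfl
theorem f10318 : Led Lsl_dt (LP (LK LD1_c0 LD2_c21 LD3_c45)) = (LP (LK LD1_c0 LD2_c48 LD3_c38)) :=
  Lre_d IH (LK LD1_c0 LD2_c21 LD3_c45) (LK LD1_c0 LD2_c48 LD3_c38) Lrfl Lrfl
theorem f11506 : Led Lsl_ct (LP (LK LD1_c0 LD2_c48 LD3_c38)) = (LP (LK LD1_c1 LD2_c44 LD3_c9)) :=
  Lre_c IH (LK LD1_c0 LD2_c48 LD3_c38) (LK LD1_c1 LD2_c44 LD3_c9) Lrfl Lrfl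
theorem f19431 : Led Lsl_dt (LP (LK LD1_c1 LD2_c44 LD3_c9)) = (LP (LK LD1_c3 LD2_c34 LD3_c51)) :=
  Lre_d IH (LK LD1_c1 LD2_c44 LD3_c9) (LK LD1_c3 LD2_c34 LD3_c51) Lrfl Lrfl
theorem f10397 : Led Lsl_dt (LP (LK LD1_c0 LD2_c48 LD3_c15)) = (LP (LK LD1_c0 LD2_c21 LD3_c37)) :=
  Lre_d IH (LK LD1_c0 LD2_c48 LD3_c15) (LK LD1_c0 LD2_c21 LD3_c37) Lrfl Lrfl
theorem f10391 : Led Lsl_ct (LP (LK LD1_c1 LD2_c43 LD3_c14)) = (LP (LK LD1_c0 LD2_c48 LD3_c15)) :=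
  Lre_c IH (LK LD1_c1 LD2_c43 LD3_c14) (LK LD1_c0 LD2_c48 LD3_c15) Lrfl Lrfl
theorem f10404 : Led Lsl_dt (LP (LK LD1_c3 LD2_c32 LD3_c60)) = (LP (LK LD1_c1 LD2_c43 LD3_c14)) :=
  Lre_d IH (LK LD1_c3 LD2_c32 LD3_c60) (LK LD1_c1 LD2_c43 LD3_c14) Lrfl Lrfl
theorem f19432 : Led Lsl_ct (LP (LK LD1_c3 LD2_c34 LD3_c51)) = (LP (LK LD1_c3 LD2_c32 LD3_c60)) :=
  Lgr Lrot41 (Lpe (f19431 IH) (Lpe (f11506 IH) (Lpe (f10318 IH) (Lpr_ft (f10257 IH) (Lpr_at (f10430 IH) (Lpr_cf (f19348 IH) (Lpe (f10397 IH) (Lpe (f10391 IH) (Lpe (f10404 IH) (Lpn (LP (LK LD1_c3 LD2_c32 LD3_c60))))))))))))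
theorem f10308 : Led Lsl_dt (LP (LK LD1_c0 LD2_c21 LD3_c37)) = (LP (LK LD1_c0 LD2_c48 LD3_c15)) :=
  Lre_d IH (LK LD1_c0 LD2_c21 LD3_c37) (LK LD1_c0 LD2_c48 LD3_c15) Lrfl Lrfl
theorem f10393 : Led Lsl_ct (LP (LK LD1_c0 LD2_c48 LD3_c15)) = (LP (LK LD1_c1 LD2_c43 LD3_c14)) :=
  Lre_c IH (LK LD1_c0 LD2_c48 LD3_c15) (LK LD1_c1 LD2_c43 LD3_c14) Lrfl Lrfl
theorem f17973 : Led Lsl_dt (LP (LK LD1_c1 LD2_c43 LD3_c14)) = (LP (LK LD1_c3 LD2_c32 LD3_c60)) :=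
  Lre_d IH (LK LD1_c1 LD2_c43 LD3_c14) (LK LD1_c3 LD2_c32 LD3_c60) Lrfl Lrfl
theorem f19445 : Led Lsl_cf (LP (LK LD1_c3 LD2_c34 LD3_c51)) = (LP (LK LD1_c3 LD2_c32 LD3_c60)) :=
  Lgr Lrot11 (Lpr_ct (f19432 IH) (Lpn (LP (LK LD1_c3 LD2_c32 LD3_c60))))
theorem f19447 : Led Lsl_dt (LP (LK LD1_c3 LD2_c34 LD3_c51)) = (LP (LK LD1_c1 LD2_c44 LD3_c9)) :=
  Lre_d IH (LK LD1_c3 LD2_c34 LD3_c51) (LK LD1_c1 LD2_c44 LD3_c9) Lrfl Lrfl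
theorem f17994 : Led Lsl_ct (LP (LK LD1_c1 LD2_c44 LD3_c9)) = (LP (LK LD1_c0 LD2_c48 LD3_c38)) :=
  Lre_c IH (LK LD1_c1 LD2_c44 LD3_c9) (LK LD1_c0 LD2_c48 LD3_c38) Lrfl Lrfl
theorem f19448 : Led Lsl_cf (LP (LK LD1_c0 LD2_c21 LD3_c45)) = (LP (LK LD1_c0 LD2_c21 LD3_c45)) :=
  Lgr Lrot55 (Lpr_dt (f10318 IH) (Lpr_ct (f11506 IH) (Lpr_dt (f19431 IH) (Lpr_ct (f19432 IH) (Lpr_dt (f10404 IH) (Lpr_ct (f10391 IH) (Lpr_dt (f10397 IH) (Lpe (f19348 IH) (Lpr_dt (f10308 IH) (Lpr_ct (f10393 IH) (Lpr_dt (f17973 IH) (Lpe (f19445 IH) (Lpr_dt (f19447 IH) (Lpr_ct (f17994 IH) (Lpr_dt (f10312 IH) (Lpn (LP (LK LD1_c0 LD2_c21 LD3_c45))))))))))))))))))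
theorem f10256 : Led Lsl_et (LP (LK LD1_c0 LD2_c9 LD3_c47)) = (LP (LK LD1_c0 LD2_c4 LD3_c35)) :=
  Lre_e IH (LK LD1_c0 LD2_c9 LD3_c47) (LK LD1_c0 LD2_c4 LD3_c35) Lrfl Lrfl
theorem f10258 : Led Lsl_et (LP (LK LD1_c0 LD2_c4 LD3_c41)) = (LP (LK LD1_c0 LD2_c9 LD3_c60)) :=
  Lre_e IH (LK LD1_c0 LD2_c4 LD3_c41) (LK LD1_c0 LD2_c9 LD3_c60) Lrfl Lrfl
theorem f10259 : Led Lsl_ft (LP (LK LD1_c0 LD2_c9 LD3_c60)) = (LP (LK LD1_c0 LD2_c22 LD3_c12)) :=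
  Lre_f IH (LK LD1_c0 LD2_c9 LD3_c60) (LK LD1_c0 LD2_c22 LD3_c12) Lrfl Lrfl
theorem f10260 : Led Lsl_ef (LP (LK LD1_c0 LD2_c21 LD3_c45)) = (LP (LK LD1_c0 LD2_c22 LD3_c12)) :=
  Lgr Lrot21 (Lpr_ft (f10257 IH) (Lpr_et (f10256 IH) (Lpr_ft (f10226 IH) (Lpr_et (f10258 IH) (Lpr_ft (f10259 IH) (Lpn (LP (LK LD1_c0 LD2_c22 LD3_c12))))))))
theorem f19755 : Led Lsl_ct (LP (LK LD1_c0 LD2_c22 LD3_c12)) = (LP (LK LD1_c0 LD2_c22 LD3_c12)) :=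
  Lgr Lrot15 (Lpe (f10292 IH) (Lpr_cf (f19448 IH) (Lpr_ef (f10260 IH) (Lpn (LP (LK LD1_c0 LD2_c22 LD3_c12))))))
theorem f9981 : Led Lsl_bt (LP (LK LD1_c0 LD2_c10 LD3_c1)) = (LP (LK LD1_c0 LD2_c22 LD3_c12)) :=
  Lre_b IH (LK LD1_c0 LD2_c10 LD3_c1) (LK LD1_c0 LD2_c22 LD3_c12) Lrfl Lrfl
theorem f9977 : Led Lsl_ct (LP (LK LD1_c0 LD2_c4 LD3_c44)) = (LP (LK LD1_c0 LD2_c10 LD3_c1)) :=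
  Lre_c IH (LK LD1_c0 LD2_c4 LD3_c44) (LK LD1_c0 LD2_c10 LD3_c1) Lrfl Lrfl
theorem f19757 : Led Lsl_bf (LP (LK LD1_c0 LD2_c4 LD3_c44)) = (LP (LK LD1_c0 LD2_c4 LD3_c44)) :=
  Lgr Lrot90 (Lpr_ct (f9977 IH) (Lpr_bt (f9981 IH) (Lpr_ct (f19755 IH) (Lpr_bt (f10111 IH) (Lpr_ct (f9964 IH) (Lpn (LP (LK LD1_c0 LD2_c4 LD3_c44))))))))
theorem f7416 : Led Lsl_ct (LP (LK LD1_c0 LD2_c2 LD3_c18)) = (LP (LK LD1_c0 LD2_c5 LD3_c4)) :=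
  Lre_c IH (LK LD1_c0 LD2_c2 LD3_c18) (LK LD1_c0 LD2_c5 LD3_c4) Lrfl Lrfl
theorem f12154 : Led Lsl_et (LP (LK LD1_c0 LD2_c4 LD3_c22)) = (LP (LK LD1_c0 LD2_c9 LD3_c22)) :=
  Lre_e IH (LK LD1_c0 LD2_c4 LD3_c22) (LK LD1_c0 LD2_c9 LD3_c22) Lrfl Lrfl
theorem f4470 : Led Lsl_et (LP (LK LD1_c0 LD2_c2 LD3_c13)) = (LP (LK LD1_c0 LD2_c2 LD3_c13)) :=
  Lgr Lrot122 (Lpr_dt (f345 IH) (Lpr_gt (f3943 IH) (Lpe (f188 IH) (Lpr_et (f4469 IH) (Lpr_gt (f344 IH) (Lpr_dt (f345 IH) (Lpr_gt (f3943 IH) (Lpe (f188 IH) (Lpr_et (f4469 IH) (Lpr_gt (f344 IH) (Lpn (LP (LK LD1_c0 LD2_c2 LD3_c13)))))))))))))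
theorem f11095 : Led Lsl_et (LP (LK LD1_c0 LD2_c4 LD3_c32)) = (LP (LK LD1_c0 LD2_c9 LD3_c40)) :=
  Lre_e IH (LK LD1_c0 LD2_c4 LD3_c32) (LK LD1_c0 LD2_c9 LD3_c40) Lrfl Lrfl
theorem f12155 : Led Lsl_gt (LP (LK LD1_c0 LD2_c9 LD3_c22)) = (LP (LK LD1_c0 LD2_c9 LD3_c40)) :=
  Lgr Lrot131 (Lpe (f12154 IH) (Lpr_dt (f12114 IH) (Lpr_gf (f11259 IH) (Lpe (f437 IH) (Lpr_gf (f11464 IH) (Lpe (f4470 IH) (Lpr_dt (f345 IH) (Lpe (f11403 IH) (Lpe (f167 IH) (Lpr_et (f11095 IH) (Lpn (LP (LK LD1_c0 LD2_c9 LD3_c40)))))))))))))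
theorem f12157 : Led Lsl_gf (LP (LK LD1_c0 LD2_c9 LD3_c22)) = (LP (LK LD1_c0 LD2_c5 LD3_c4)) :=
  Lgr Lrot47 (Lpr_gt (f12155 IH) (Lpr_af (f11085 IH) (Lpe (f11097 IH) (Lpn (LP (LK LD1_c0 LD2_c5 LD3_c4))))))
theorem f12160 : Led Lsl_ct (LP (LK LD1_c0 LD2_c4 LD3_c23)) = (LP (LK LD1_c0 LD2_c9 LD3_c22)) :=
  Lre_c IH (LK LD1_c0 LD2_c4 LD3_c23) (LK LD1_c0 LD2_c9 LD3_c22) Lrfl Lrfl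
theorem f9868 : Led Lsl_ct (LP (LK LD1_c0 LD2_c9 LD3_c31)) = (LP (LK LD1_c0 LD2_c4 LD3_c29)) :=
  Lre_c IH (LK LD1_c0 LD2_c9 LD3_c31) (LK LD1_c0 LD2_c4 LD3_c29) Lrfl Lrfl
theorem f11910 : Led Lsl_ft (LP (LK LD1_c0 LD2_c4 LD3_c29)) = (LP (LK LD1_c0 LD2_c9 LD3_c14)) :=
  Lre_f IH (LK LD1_c0 LD2_c4 LD3_c29) (LK LD1_c0 LD2_c9 LD3_c14) Lrfl Lrfl
theorem f11911 : Led Lsl_ct (LP (LK LD1_c0 LD2_c9 LD3_c14)) = (LP (LK LD1_c0 LD2_c9 LD3_c42)) :=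
  Lgr Lrot40 (Lpe (f11910 IH) (Lpe (f9868 IH) (Lpr_ff (f11891 IH) (Lpn (LP (LK LD1_c0 LD2_c9 LD3_c42))))))
theorem f7334 : Led Lsl_bt (LP (LK LD1_c0 LD2_c9 LD3_c14)) = (LP (LK LD1_c0 LD2_c20 LD3_c3)) :=
  Lre_b IH (LK LD1_c0 LD2_c9 LD3_c14) (LK LD1_c0 LD2_c20 LD3_c3) Lrfl Lrfl
theorem f7364 : Led Lsl_at (LP (LK LD1_c0 LD2_c8 LD3_c59)) = (LP (LK LD1_c0 LD2_c4 LD3_c8)) :=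
  Lre_a IH (LK LD1_c0 LD2_c8 LD3_c59) (LK LD1_c0 LD2_c4 LD3_c8) Lrfl Lrfl
theorem f217 : Led Lsl_ft (LP (LK LD1_c0 LD2_c4 LD3_c8)) = (LP (LK LD1_c0 LD2_c9 LD3_c1)) :=
  Lre_f IH (LK LD1_c0 LD2_c4 LD3_c8) (LK LD1_c0 LD2_c9 LD3_c1) Lrfl Lrfl
theorem f9660 : Led Lsl_af (LP (LK LD1_c0 LD2_c9 LD3_c2)) = (LP (LK LD1_c0 LD2_c9 LD3_c1)) :=
  Lgr Lrot45 (Lpr_ft (f9658 IH) (Lpr_at (f7364 IH) (Lpr_ft (f217 IH) (Lpn (LP (LK LD1_c0 LD2_c9 LD3_c1))))))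
theorem f9682 : Led Lsl_gf (LP (LK LD1_c0 LD2_c4 LD3_c10)) = (LP (LK LD1_c0 LD2_c4 LD3_c8)) :=
  Lgr Lrot47 (Lpr_gt (f3966 IH) (Lpr_af (f9660 IH) (Lpe (f217 IH) (Lpn (LP (LK LD1_c0 LD2_c4 LD3_c8))))))
theorem f7376 : Led Lsl_dt (LP (LK LD1_c0 LD2_c4 LD3_c10)) = (LP (LK LD1_c0 LD2_c1 LD3_c51)) :=
  Lre_d IH (LK LD1_c0 LD2_c4 LD3_c10) (LK LD1_c0 LD2_c1 LD3_c51) Lrfl Lrfl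
theorem f7307 : Led Lsl_gt (LP (LK LD1_c0 LD2_c1 LD3_c51)) = (LP (LK LD1_c0 LD2_c4 LD3_c4)) :=
  Lre_g IH (LK LD1_c0 LD2_c1 LD3_c51) (LK LD1_c0 LD2_c4 LD3_c4) Lrfl Lrfl
theorem f7374 : Led Lsl_et (LP (LK LD1_c0 LD2_c1 LD3_c53)) = (LP (LK LD1_c0 LD2_c4 LD3_c8)) :=
  Lre_e IH (LK LD1_c0 LD2_c1 LD3_c53) (LK LD1_c0 LD2_c4 LD3_c8) Lrfl Lrfl
theorem f7375 : Led Lsl_dt (LP (LK LD1_c0 LD2_c1 LD3_c53)) = (LP (LK LD1_c0 LD2_c0 LD3_c44)) :=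
  Lre_d IH (LK LD1_c0 LD2_c1 LD3_c53) (LK LD1_c0 LD2_c0 LD3_c44) Lrfl Lrfl
theorem f5885 : Led Lsl_gt (LP (LK LD1_c0 LD2_c1 LD3_c52)) = (LP (LK LD1_c0 LD2_c0 LD3_c44)) :=
  Lre_g IH (LK LD1_c0 LD2_c1 LD3_c52) (LK LD1_c0 LD2_c0 LD3_c44) Lrfl Lrfl
theorem f7368 : Led Lsl_dt (LP (LK LD1_c0 LD2_c4 LD3_c11)) = (LP (LK LD1_c0 LD2_c1 LD3_c52)) :=
  Lre_d IH (LK LD1_c0 LD2_c4 LD3_c11) (LK LD1_c0 LD2_c1 LD3_c52) Lrfl Lrfl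
theorem f9685 : Led Lsl_et (LP (LK LD1_c0 LD2_c4 LD3_c11)) = (LP (LK LD1_c0 LD2_c9 LD3_c6)) :=
  Lre_e IH (LK LD1_c0 LD2_c4 LD3_c11) (LK LD1_c0 LD2_c9 LD3_c6) Lrfl Lrfl
theorem f9686 : Led Lsl_gt (LP (LK LD1_c0 LD2_c20 LD3_c2)) = (LP (LK LD1_c0 LD2_c9 LD3_c6)) :=
  Lgr Lrot131 (Lpe (f7299 IH) (Lpr_dt (f7300 IH) (Lpe (f7307 IH) (Lpe (f7376 IH) (Lpr_gf (f9682 IH) (Lpe (f7374 IH) (Lpr_dt (f7375 IH) (Lpe (f5885 IH) (Lpe (f7368 IH) (Lpr_et (f9685 IH) (Lpn (LP (LK LD1_c0 LD2_c9 LD3_c6)))))))))))))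
theorem f9677 : Led Lsl_af (LP (LK LD1_c0 LD2_c20 LD3_c4)) = (LP (LK LD1_c0 LD2_c20 LD3_c3)) :=
  Lgr Lrot45 (Lpr_ft (f9675 IH) (Lpr_at (f7310 IH) (Lpr_ft (f7324 IH) (Lpn (LP (LK LD1_c0 LD2_c20 LD3_c3))))))
theorem f9679 : Led Lsl_at (LP (LK LD1_c0 LD2_c20 LD3_c4)) = (LP (LK LD1_c0 LD2_c20 LD3_c3)) :=
  Lgr Lrot100 (Lpr_af (f9677 IH) (Lpn (LP (LK LD1_c0 LD2_c20 LD3_c3))))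
theorem f9689 : Led Lsl_gf (LP (LK LD1_c0 LD2_c20 LD3_c3)) = (LP (LK LD1_c0 LD2_c9 LD3_c6)) :=
  Lgr Lrot76 (Lpe (f9679 IH) (Lpr_ff (f9664 IH) (Lpr_gt (f9686 IH) (Lpn (LP (LK LD1_c0 LD2_c9 LD3_c6))))))
theorem f20001 : Led Lsl_bt (LP (LK LD1_c0 LD2_c4 LD3_c23)) = (LP (LK LD1_c0 LD2_c9 LD3_c6)) :=
  Lgr Lrot22 (Lpr_ct (f12160 IH) (Lpr_gf (f12157 IH) (Lpe (f7416 IH) (Lpe (f10066 IH) (Lpr_bf (f19757 IH) (Lpr_ct (f9977 IH) (Lpr_gf (f11887 IH) (Lpe (f11911 IH) (Lpr_bt (f7334 IH) (Lpr_gf (f9689 IH) (Lpn (LP (LK LD1_c0 LD2_c9 LD3_c6)))))))))))))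
theorem f12619 : Led Lsl_et (LP (LK LD1_c0 LD2_c1 LD3_c61)) = (LP (LK LD1_c0 LD2_c4 LD3_c23)) :=
  Lre_e IH (LK LD1_c0 LD2_c1 LD3_c61) (LK LD1_c0 LD2_c4 LD3_c23) Lrfl Lrfl
theorem f7373 : Led Lsl_et (LP (LK LD1_c0 LD2_c9 LD3_c6)) = (LP (LK LD1_c0 LD2_c4 LD3_c11)) :=
  Lre_e IH (LK LD1_c0 LD2_c9 LD3_c6) (LK LD1_c0 LD2_c4 LD3_c11) Lrfl Lrfl
theorem f20008 : Led Lsl_bf (LP (LK LD1_c0 LD2_c1 LD3_c61)) = (LP (LK LD1_c0 LD2_c4 LD3_c11)) :=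
  Lgr Lrot96 (Lpr_et (f12619 IH) (Lpr_bt (f20001 IH) (Lpr_et (f7373 IH) (Lpn (LP (LK LD1_c0 LD2_c4 LD3_c11))))))
theorem f7305 : Led Lsl_dt (LP (LK LD1_c0 LD2_c1 LD3_c52)) = (LP (LK LD1_c0 LD2_c4 LD3_c11)) :=
  Lre_d IH (LK LD1_c0 LD2_c1 LD3_c52) (LK LD1_c0 LD2_c4 LD3_c11) Lrfl Lrfl
theorem f20021 : Led Lsl_bt (LP (LK LD1_c0 LD2_c0 LD3_c48)) = (LP (LK LD1_c0 LD2_c1 LD3_c52)) :=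
  Lgr Lrot95 (Lpe (f3827 IH) (Lpr_bf (f20008 IH) (Lpe (f7305 IH) (Lpn (LP (LK LD1_c0 LD2_c1 LD3_c52))))))
theorem f3822 : Led Lsl_ct (LP (LK LD1_c0 LD2_c0 LD3_c48)) = (LP (LK LD1_c0 LD2_c0 LD3_c48)) :=
  Lgr Lrot8 (Lpr_gt (f3820 IH) (Lpr_dt (f58 IH) (Lpr_gt (f59 IH) (Lpe (f3818 IH) (Lpr_cf (f3813 IH) (Lpr_df (f3818 IH) (Lpe (f59 IH) (Lpe (f58 IH) (Lpe (f3820 IH) (Lpn (LP (LK LD1_c0 LD2_c0 LD3_c48))))))))))))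
theorem f6686 : Led Lsl_bf (LP (LK LD1_c0 LD2_c0 LD3_c18)) = v30 :=
  Lgr Lrot24 (Lpr_bt (f6685 IH) (Lpn v30))
theorem f362 : Led Lsl_bt (LP (LK LD1_c0 LD2_c0 LD3_c15)) = (LP (LK LD1_c0 LD2_c0 LD3_c44)) :=
  Lre_b IH (LK LD1_c0 LD2_c0 LD3_c15) (LK LD1_c0 LD2_c0 LD3_c44) Lrfl Lrfl
theorem f20032 : v30 = (LP (LK LD1_c0 LD2_c0 LD3_c18)) :=
  (Llr Lrot165 (Lpe (f6686 IH) (Lpq (f7274 IH) (Lpe (f6728 IH) (Lpr_ct (f5866 IH) (Lpe (f12337 IH) (Lpe (f3822 IH) (Lpr_bt (f20021 IH) (Lpr_gt (f5885 IH) (Lpe (f362 IH) (Lpr_ct (f125 IH) (Lpr_gt (f316 IH) (Lpr_cf (f5875 IH) (Lpn (LP (LK LD1_c0 LD2_c0 LD3_c18)))))))))))))))).symm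
theorem f20034 : v33 = v31 :=
  Lefun (Lecon (Lfl_ef (f9941 IH)) (f20032 IH)) (f6687 IH)
theorem f5854 : Led Lsl_gf (LP (LK LD1_c0 LD2_c0 LD3_c19)) = v28 :=
  Lgr Lrot47 (Lpr_gt (f338 IH) (Lpr_af (f431 IH) (Lpr_ff (f5849 IH) (Lpn v28))))
theorem f5845 : Led Lsl_bt (LP (LK LD1_c0 LD2_c0 LD3_c39)) = (LP (LK LD1_c0 LD2_c0 LD3_c21)) :=
  Lre_b IH (LK LD1_c0 LD2_c0 LD3_c39) (LK LD1_c0 LD2_c0 LD3_c21) Lrfl Lrfl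
theorem f6725 : Led Lsl_ct (LP (LK LD1_c0 LD2_c0 LD3_c39)) = (LP (LK LD1_c0 LD2_c1 LD3_c25)) :=
  Lre_c IH (LK LD1_c0 LD2_c0 LD3_c39) (LK LD1_c0 LD2_c1 LD3_c25) Lrfl Lrfl
theorem f6726 : Led Lsl_gt (LP (LK LD1_c0 LD2_c2 LD3_c38)) = (LP (LK LD1_c0 LD2_c1 LD3_c25)) :=
  Lre_g IH (LK LD1_c0 LD2_c2 LD3_c38) (LK LD1_c0 LD2_c1 LD3_c25) Lrfl Lrfl
theorem f20040 : Led Lsl_cf (LP (LK LD1_c0 LD2_c2 LD3_c38)) = (LP (LK LD1_c0 LD2_c1 LD3_c51)) :=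
  Lgr Lrot125 (Lpr_gt (f6726 IH) (Lpe (f6725 IH) (Lpr_bt (f5845 IH) (Lpq (f7278 IH) (Lpe (f5854 IH) (Lpq (f9936 IH) (Lpq (f20034 IH) (Lpe (f6696 IH) (Lpr_ct (f341 IH) (Lpr_gt (f338 IH) (Lpe (f125 IH) (Lpr_bt (f362 IH) (Lpr_gt (f363 IH) (Lpn (LP (LK LD1_c0 LD2_c1 LD3_c51))))))))))))))))
theorem f20051 : Led Lsl_bf (LP (LK LD1_c0 LD2_c1 LD3_c51)) = (LP (LK LD1_c0 LD2_c1 LD3_c51)) :=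
  Lgr Lrot34 (Lpe (f363 IH) (Lpe (f362 IH) (Lpr_ct (f125 IH) (Lpe (f338 IH) (Lpe (f341 IH) (Lpq (f7275 IH) (Lpe (f6718 IH) (Lpe (f5845 IH) (Lpr_ct (f6725 IH) (Lpe (f6726 IH) (Lpr_cf (f20040 IH) (Lpn (LP (LK LD1_c0 LD2_c1 LD3_c51))))))))))))))
theorem f20055 : Led Lsl_bt (LP (LK LD1_c0 LD2_c4 LD3_c10)) = (LP (LK LD1_c0 LD2_c4 LD3_c10)) :=
  Lgr Lrot95 (Lpe (f3965 IH) (Lpr_bf (f20051 IH) (Lpe (f7376 IH) (Lpn (LP (LK LD1_c0 LD2_c4 LD3_c10))))))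
theorem f5831 : Led Lsl_ct (LP (LK LD1_c0 LD2_c4 LD3_c10)) = (LP (LK LD1_c0 LD2_c9 LD3_c3)) :=
  Lre_c IH (LK LD1_c0 LD2_c4 LD3_c10) (LK LD1_c0 LD2_c9 LD3_c3) Lrfl Lrfl
theorem f7372 : Led Lsl_bt (LP (LK LD1_c0 LD2_c1 LD3_c57)) = (LP (LK LD1_c0 LD2_c4 LD3_c8)) :=
  Lre_b IH (LK LD1_c0 LD2_c1 LD3_c57) (LK LD1_c0 LD2_c4 LD3_c8) Lrfl Lrfl
theorem f11024 : Led Lsl_bt (LP (LK LD1_c0 LD2_c3 LD3_c44)) = (LP (LK LD1_c0 LD2_c2 LD3_c5)) :=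
  Lre_b IH (LK LD1_c0 LD2_c3 LD3_c44) (LK LD1_c0 LD2_c2 LD3_c5) Lrfl Lrfl
theorem f11027 : Led Lsl_ct (LP (LK LD1_c0 LD2_c3 LD3_c44)) = (LP (LK LD1_c0 LD2_c8 LD3_c7)) :=
  Lre_c IH (LK LD1_c0 LD2_c3 LD3_c44) (LK LD1_c0 LD2_c8 LD3_c7) Lrfl Lrfl
theorem f20064 : Led Lsl_gt (LP (LK LD1_c0 LD2_c9 LD3_c3)) = (LP (LK LD1_c0 LD2_c8 LD3_c7)) :=
  Lgr Lrot65 (Lpe (f5831 IH) (Lpr_bt (f20055 IH) (Lpr_gf (f9682 IH) (Lpe (f7372 IH) (Lpr_ct (f113 IH) (Lpr_gf (f11022 IH) (Lpe (f359 IH) (Lpe (f11017 IH) (Lpe (f11024 IH) (Lpr_ct (f11027 IH) (Lpn (LP (LK LD1_c0 LD2_c8 LD3_c7)))))))))))))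
theorem f204 : Led Lsl_dt (LP (LK LD1_c0 LD2_c4 LD3_c8)) = (LP (LK LD1_c0 LD2_c1 LD3_c50)) :=
  Lre_d IH (LK LD1_c0 LD2_c4 LD3_c8) (LK LD1_c0 LD2_c1 LD3_c50) Lrfl Lrfl
theorem f131 : Led Lsl_gt (LP (LK LD1_c0 LD2_c1 LD3_c50)) = (LP (LK LD1_c0 LD2_c4 LD3_c7)) :=
  Lre_g IH (LK LD1_c0 LD2_c1 LD3_c50) (LK LD1_c0 LD2_c4 LD3_c7) Lrfl Lrfl
theorem f11025 : Led Lsl_ct (LP (LK LD1_c0 LD2_c8 LD3_c7)) = (LP (LK LD1_c0 LD2_c3 LD3_c44)) :=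
  Lre_c IH (LK LD1_c0 LD2_c8 LD3_c7) (LK LD1_c0 LD2_c3 LD3_c44) Lrfl Lrfl
theorem f20078 : Led Lsl_dt (LP (LK LD1_c0 LD2_c1 LD3_c37)) = (LP (LK LD1_c0 LD2_c3 LD3_c44)) :=
  Lre_d IH (LK LD1_c0 LD2_c1 LD3_c37) (LK LD1_c0 LD2_c3 LD3_c44) Lrfl Lrfl
theorem f174 : Led Lsl_ct (LP (LK LD1_c0 LD2_c3 LD3_c41)) = (LP (LK LD1_c0 LD2_c1 LD3_c37)) :=
  Lre_c IH (LK LD1_c0 LD2_c3 LD3_c41) (LK LD1_c0 LD2_c1 LD3_c37) Lrfl Lrfl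
theorem f9545 : Led Lsl_gt (LP (LK LD1_c0 LD2_c6 LD3_c1)) = (LP (LK LD1_c0 LD2_c3 LD3_c41)) :=
  Lre_g IH (LK LD1_c0 LD2_c6 LD3_c1) (LK LD1_c0 LD2_c3 LD3_c41) Lrfl Lrfl
theorem f20079 : Led Lsl_ct (LP (LK LD1_c0 LD2_c4 LD3_c7)) = (LP (LK LD1_c0 LD2_c6 LD3_c1)) :=
  Lgr Lrot152 (Lpe (f131 IH) (Lpe (f204 IH) (Lpe (f9682 IH) (Lpr_ct (f5831 IH) (Lpr_gt (f20064 IH) (Lpr_ct (f11025 IH) (Lpe (f20078 IH) (Lpe (f174 IH) (Lpe (f9545 IH) (Lpn (LP (LK LD1_c0 LD2_c6 LD3_c1))))))))))))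
theorem f20173 : Led Lsl_cf (LP (LK LD1_c0 LD2_c4 LD3_c7)) = (LP (LK LD1_c0 LD2_c6 LD3_c1)) :=
  Lgr Lrot11 (Lpr_ct (f20079 IH) (Lpn (LP (LK LD1_c0 LD2_c6 LD3_c1))))
theorem f9646 : Led Lsl_gt (LP (LK LD1_c0 LD2_c4 LD3_c7)) = (LP (LK LD1_c0 LD2_c8 LD3_c60)) :=
  Lre_g IH (LK LD1_c0 LD2_c4 LD3_c7) (LK LD1_c0 LD2_c8 LD3_c60) Lrfl Lrfl
theorem f216 : Led Lsl_ft (LP (LK LD1_c0 LD2_c4 LD3_c9)) = (LP (LK LD1_c0 LD2_c1 LD3_c50)) :=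
  Lre_f IH (LK LD1_c0 LD2_c4 LD3_c9) (LK LD1_c0 LD2_c1 LD3_c50) Lrfl Lrfl
theorem f201 : Led Lsl_ft (LP (LK LD1_c0 LD2_c1 LD3_c50)) = (LP (LK LD1_c0 LD2_c4 LD3_c9)) :=
  Lre_f IH (LK LD1_c0 LD2_c1 LD3_c50) (LK LD1_c0 LD2_c4 LD3_c9) Lrfl Lrfl
theorem f7350 : Led Lsl_ft (LP (LK LD1_c0 LD2_c0 LD3_c43)) = (LP (LK LD1_c0 LD2_c0 LD3_c43)) :=
  Lgr Lrot86 (Lpe (f198 IH) (Lpe (f216 IH) (Lpr_ef (f7342 IH) (Lpe (f201 IH) (Lpe (f215 IH) (Lpn (LP (LK LD1_c0 LD2_c0 LD3_c43))))))))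
theorem f218 : Led Lsl_at (LP (LK LD1_c0 LD2_c0 LD3_c43)) = (LP (LK LD1_c0 LD2_c1 LD3_c46)) :=
  Lre_a IH (LK LD1_c0 LD2_c0 LD3_c43) (LK LD1_c0 LD2_c1 LD3_c46) Lrfl Lrfl
theorem f7354 : Led Lsl_gt (LP (LK LD1_c0 LD2_c1 LD3_c48)) = (LP (LK LD1_c0 LD2_c1 LD3_c46)) :=
  Lgr Lrot46 (Lpe (f96 IH) (Lpr_ft (f7350 IH) (Lpr_at (f218 IH) (Lpn (LP (LK LD1_c0 LD2_c1 LD3_c46))))))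
theorem f404 : Led Lsl_et (LP (LK LD1_c0 LD2_c4 LD3_c5)) = (LP (LK LD1_c0 LD2_c1 LD3_c48)) :=
  Lre_e IH (LK LD1_c0 LD2_c4 LD3_c5) (LK LD1_c0 LD2_c1 LD3_c48) Lrfl Lrfl
theorem f1634 : Led Lsl_gt (LP (LK LD1_c0 LD2_c1 LD3_c53)) = (LP (LK LD1_c0 LD2_c4 LD3_c12)) :=
  Lre_g IH (LK LD1_c0 LD2_c1 LD3_c53) (LK LD1_c0 LD2_c4 LD3_c12) Lrfl Lrfl
theorem f7356 : Led Lsl_dt (LP (LK LD1_c0 LD2_c4 LD3_c5)) = (LP (LK LD1_c0 LD2_c4 LD3_c12)) :=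
  Lgr Lrot37 (Lpr_et (f404 IH) (Lpr_gt (f7354 IH) (Lpr_dt (f7041 IH) (Lpq (f7283 IH) (Lpe (f7183 IH) (Lpr_df (f73 IH) (Lpr_et (f158 IH) (Lpq (f1684 IH) (Lpe (f1630 IH) (Lpe (f1632 IH) (Lpr_dt (f1633 IH) (Lpr_gt (f1634 IH) (Lpn (LP (LK LD1_c0 LD2_c4 LD3_c12)))))))))))))))
theorem f196 : Led Lsl_dt (LP (LK LD1_c0 LD2_c1 LD3_c50)) = (LP (LK LD1_c0 LD2_c4 LD3_c8)) :=
  Lre_d IH (LK LD1_c0 LD2_c1 LD3_c50) (LK LD1_c0 LD2_c4 LD3_c8) Lrfl Lrfl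
theorem f7306 : Led Lsl_gt (LP (LK LD1_c0 LD2_c4 LD3_c12)) = (LP (LK LD1_c0 LD2_c9 LD3_c0)) :=
  Lre_g IH (LK LD1_c0 LD2_c4 LD3_c12) (LK LD1_c0 LD2_c9 LD3_c0) Lrfl Lrfl
theorem f7304 : Led Lsl_gt (LP (LK LD1_c0 LD2_c4 LD3_c4)) = (LP (LK LD1_c0 LD2_c1 LD3_c52)) :=
  Lre_g IH (LK LD1_c0 LD2_c4 LD3_c4) (LK LD1_c0 LD2_c1 LD3_c52) Lrfl Lrfl
theorem f7362 : Led Lsl_gf (LP (LK LD1_c0 LD2_c4 LD3_c8)) = (LP (LK LD1_c0 LD2_c4 LD3_c11)) :=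
  Lgr Lrot134 (Lpe (f196 IH) (Lpr_et (f198 IH) (Lpr_gt (f96 IH) (Lpe (f404 IH) (Lpr_dt (f7356 IH) (Lpr_gt (f7306 IH) (Lpe (f7298 IH) (Lpe (f7292 IH) (Lpr_gt (f7304 IH) (Lpr_dt (f7305 IH) (Lpn (LP (LK LD1_c0 LD2_c4 LD3_c11)))))))))))))
theorem f9668 : Led Lsl_gt (LP (LK LD1_c0 LD2_c9 LD3_c2)) = (LP (LK LD1_c0 LD2_c4 LD3_c11)) :=
  Lgr Lrot5 (Lpr_ft (f9658 IH) (Lpr_at (f7364 IH) (Lpr_gf (f7362 IH) (Lpn (LP (LK LD1_c0 LD2_c4 LD3_c11))))))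
theorem f13594 : Led Lsl_ct (LP (LK LD1_c0 LD2_c2 LD3_c54)) = (LP (LK LD1_c0 LD2_c1 LD3_c11)) :=
  Lre_c IH (LK LD1_c0 LD2_c2 LD3_c54) (LK LD1_c0 LD2_c1 LD3_c11) Lrfl Lrfl
theorem f1462 : Led Lsl_dt (LP (LK LD1_c0 LD2_c0 LD3_c26)) = (LP (LK LD1_c0 LD2_c1 LD3_c11)) :=
  Lre_d IH (LK LD1_c0 LD2_c0 LD3_c26) (LK LD1_c0 LD2_c1 LD3_c11) Lrfl Lrfl
theorem f6999 : Led Lsl_ct (LP (LK LD1_c0 LD2_c1 LD3_c6)) = (LP (LK LD1_c0 LD2_c0 LD3_c26)) :=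
  Lre_c IH (LK LD1_c0 LD2_c1 LD3_c6) (LK LD1_c0 LD2_c0 LD3_c26) Lrfl Lrfl
theorem f7006 : Led Lsl_gt (LP (LK LD1_c0 LD2_c2 LD3_c39)) = (LP (LK LD1_c0 LD2_c1 LD3_c6)) :=
  Lre_g IH (LK LD1_c0 LD2_c2 LD3_c39) (LK LD1_c0 LD2_c1 LD3_c6) Lrfl Lrfl
theorem f13595 : Led Lsl_ct (LP (LK LD1_c0 LD2_c1 LD3_c52)) = (LP (LK LD1_c0 LD2_c2 LD3_c39)) :=
  Lgr Lrot152 (Lpe (f7304 IH) (Lpe (f7300 IH) (Lpr_gt (f7308 IH) (Lpr_ct (f13554 IH) (Lpr_gt (f13588 IH) (Lpr_ct (f13594 IH) (Lpe (f1462 IH) (Lpe (f6999 IH) (Lpe (f7006 IH) (Lpn (LP (LK LD1_c0 LD2_c2 LD3_c39))))))))))))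
theorem f20181 : Led Lsl_dt (LP (LK LD1_c0 LD2_c5 LD3_c54)) = (LP (LK LD1_c0 LD2_c2 LD3_c39)) :=
  Lre_d IH (LK LD1_c0 LD2_c5 LD3_c54) (LK LD1_c0 LD2_c2 LD3_c39) Lrfl Lrfl
theorem f20182 : Led Lsl_gf (LP (LK LD1_c0 LD2_c5 LD3_c54)) = (LP (LK LD1_c0 LD2_c8 LD3_c0)) :=
  Lgr Lrot143 (Lpr_dt (f20181 IH) (Lpe (f13595 IH) (Lpe (f7368 IH) (Lpe (f9668 IH) (Lpr_df (f9647 IH) (Lpe (f9646 IH) (Lpr_cf (f20173 IH) (Lpr_gt (f9545 IH) (Lpr_dt (f9530 IH) (Lpn (LP (LK LD1_c0 LD2_c8 LD3_c0))))))))))))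
theorem f20192 : Led Lsl_ct (LP (LK LD1_c0 LD2_c2 LD3_c39)) = (LP (LK LD1_c0 LD2_c1 LD3_c52)) :=
  Lgr Lrot7 (Lpe (f20181 IH) (Lpr_gf (f20182 IH) (Lpe (f9530 IH) (Lpe (f9545 IH) (Lpe (f20079 IH) (Lpr_gt (f9646 IH) (Lpe (f9647 IH) (Lpr_gt (f9668 IH) (Lpr_dt (f7368 IH) (Lpn (LP (LK LD1_c0 LD2_c1 LD3_c52))))))))))))
theorem f20023 : Led Lsl_bf (LP (LK LD1_c0 LD2_c0 LD3_c48)) = (LP (LK LD1_c0 LD2_c1 LD3_c52)) :=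
  Lgr Lrot24 (Lpr_bt (f20021 IH) (Lpn (LP (LK LD1_c0 LD2_c1 LD3_c52))))
theorem f20247 : Led Lsl_bf (LP (LK LD1_c0 LD2_c2 LD3_c39)) = (LP (LK LD1_c0 LD2_c2 LD3_c39)) :=
  Lgr Lrot90 (Lpr_ct (f20192 IH) (Lpe (f20023 IH) (Lpr_ct (f3822 IH) (Lpr_bt (f20021 IH) (Lpr_ct (f13595 IH) (Lpn (LP (LK LD1_c0 LD2_c2 LD3_c39))))))))
theorem f6733 : Led Lsl_gt (LP (LK LD1_c0 LD2_c1 LD3_c25)) = (LP (LK LD1_c0 LD2_c2 LD3_c39)) :=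
  Lre_g IH (LK LD1_c0 LD2_c1 LD3_c25) (LK LD1_c0 LD2_c2 LD3_c39) Lrfl Lrfl
theorem f20258 : Led Lsl_bt (LP (LK LD1_c0 LD2_c3 LD3_c5)) = (LP (LK LD1_c0 LD2_c1 LD3_c25)) :=
  Lre_b IH (LK LD1_c0 LD2_c3 LD3_c5) (LK LD1_c0 LD2_c1 LD3_c25) Lrfl Lrfl
theorem f12614 : Led Lsl_ct (LP (LK LD1_c0 LD2_c3 LD3_c5)) = (LP (LK LD1_c0 LD2_c1 LD3_c54)) :=
  Lre_c IH (LK LD1_c0 LD2_c3 LD3_c5) (LK LD1_c0 LD2_c1 LD3_c54) Lrfl Lrfl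
theorem f12674 : Led Lsl_ct (LP (LK LD1_c0 LD2_c0 LD3_c47)) = (LP (LK LD1_c0 LD2_c0 LD3_c47)) :=
  Lgr Lrot15 (Lpe (f12666 IH) (Lpe (f3822 IH) (Lpr_ef (f12671 IH) (Lpn (LP (LK LD1_c0 LD2_c0 LD3_c47))))))
theorem f12668 : Led Lsl_bt (LP (LK LD1_c0 LD2_c0 LD3_c47)) = (LP (LK LD1_c0 LD2_c1 LD3_c59)) :=
  Lre_b IH (LK LD1_c0 LD2_c0 LD3_c47) (LK LD1_c0 LD2_c1 LD3_c59) Lrfl Lrfl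
theorem f5847 : Led Lsl_ct (LP (LK LD1_c0 LD2_c0 LD3_c50)) = (LP (LK LD1_c0 LD2_c0 LD3_c21)) :=
  Lre_c IH (LK LD1_c0 LD2_c0 LD3_c50) (LK LD1_c0 LD2_c0 LD3_c21) Lrfl Lrfl
theorem f6727 : Led Lsl_bt (LP (LK LD1_c0 LD2_c0 LD3_c50)) = (LP (LK LD1_c0 LD2_c1 LD3_c54)) :=
  Lre_b IH (LK LD1_c0 LD2_c0 LD3_c50) (LK LD1_c0 LD2_c1 LD3_c54) Lrfl Lrfl
theorem f20036 : Led Lsl_gt (LP (LK LD1_c0 LD2_c1 LD3_c59)) = (LP (LK LD1_c0 LD2_c1 LD3_c54)) :=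
  Lgr Lrot164 (Lpe (f12668 IH) (Lpr_ct (f12674 IH) (Lpe (f153 IH) (Lpe (f139 IH) (Lpe (f338 IH) (Lpq (f9936 IH) (Lpq (f20034 IH) (Lpe (f6696 IH) (Lpr_ct (f341 IH) (Lpr_gf (f5854 IH) (Lpqs (f7278 IH) (Lpe (f5847 IH) (Lpr_bt (f6727 IH) (Lpn (LP (LK LD1_c0 LD2_c1 LD3_c54))))))))))))))))
theorem f9693 : Led Lsl_ct (LP (LK LD1_c0 LD2_c1 LD3_c17)) = (LP (LK LD1_c0 LD2_c0 LD3_c44)) :=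
  Lre_c IH (LK LD1_c0 LD2_c1 LD3_c17) (LK LD1_c0 LD2_c0 LD3_c44) Lrfl Lrfl
theorem f13442 : Led Lsl_bt (LP (LK LD1_c0 LD2_c1 LD3_c17)) = (LP (LK LD1_c0 LD2_c0 LD3_c31)) :=
  Lre_b IH (LK LD1_c0 LD2_c1 LD3_c17) (LK LD1_c0 LD2_c0 LD3_c31) Lrfl Lrfl
theorem f6703 : Led Lsl_gt (LP (LK LD1_c0 LD2_c0 LD3_c31)) = (LP (LK LD1_c0 LD2_c1 LD3_c22)) :=
  Lre_g IH (LK LD1_c0 LD2_c0 LD3_c31) (LK LD1_c0 LD2_c1 LD3_c22) Lrfl Lrfl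
theorem f20259 : Led Lsl_cf (LP (LK LD1_c0 LD2_c1 LD3_c59)) = (LP (LK LD1_c0 LD2_c1 LD3_c22)) :=
  Lgr Lrot125 (Lpr_gt (f20036 IH) (Lpe (f12614 IH) (Lpr_bt (f20258 IH) (Lpr_gt (f6733 IH) (Lpr_bf (f20247 IH) (Lpr_ct (f20192 IH) (Lpr_gt (f5885 IH) (Lpe (f9693 IH) (Lpr_bt (f13442 IH) (Lpr_gt (f6703 IH) (Lpn (LP (LK LD1_c0 LD2_c1 LD3_c22)))))))))))))
theorem f12673 : Led Lsl_bt (LP (LK LD1_c0 LD2_c1 LD3_c59)) = (LP (LK LD1_c0 LD2_c0 LD3_c47)) :=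
  Lre_b IH (LK LD1_c0 LD2_c1 LD3_c59) (LK LD1_c0 LD2_c0 LD3_c47) Lrfl Lrfl
theorem f432 : Led Lsl_bt (LP (LK LD1_c0 LD2_c0 LD3_c11)) = (LP (LK LD1_c0 LD2_c0 LD3_c5)) :=
  Lre_b IH (LK LD1_c0 LD2_c0 LD3_c11) (LK LD1_c0 LD2_c0 LD3_c5) Lrfl Lrfl
theorem f1497 : Led Lsl_ct (LP (LK LD1_c0 LD2_c0 LD3_c11)) = (LP (LK LD1_c0 LD2_c0 LD3_c31)) :=
  Lre_c IH (LK LD1_c0 LD2_c0 LD3_c11) (LK LD1_c0 LD2_c0 LD3_c31) Lrfl Lrfl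
theorem f361 : Led Lsl_ct (LP (LK LD1_c0 LD2_c2 LD3_c2)) = (LP (LK LD1_c0 LD2_c0 LD3_c49)) :=
  Lre_c IH (LK LD1_c0 LD2_c2 LD3_c2) (LK LD1_c0 LD2_c0 LD3_c49) Lrfl Lrfl
theorem f12073 : Led Lsl_cf (LP (LK LD1_c0 LD2_c4 LD3_c34)) = (LP (LK LD1_c0 LD2_c4 LD3_c18)) :=
  Lgr Lrot166 (Lpe (f11462 IH) (Lpr_dt (f360 IH) (Lpe (f11937 IH) (Lpr_dt (f441 IH) (Lpr_ct (f361 IH) (Lpe (f58 IH) (Lpe (f3820 IH) (Lpe (f3827 IH) (Lpr_gf (f11945 IH) (Lpn (LP (LK LD1_c0 LD2_c4 LD3_c18))))))))))))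
theorem f12687 : Led Lsl_gf (LP (LK LD1_c0 LD2_c0 LD3_c50)) = (LP (LK LD1_c0 LD2_c0 LD3_c47)) :=
  Lgr Lrot147 (Lpr_ct (f5847 IH) (Lpq (f7278 IH) (Lpe (f5854 IH) (Lpr_ct (f341 IH) (Lpe (f355 IH) (Lpe (f356 IH) (Lpr_gf (f11462 IH) (Lpr_cf (f12073 IH) (Lpr_gf (f12681 IH) (Lpe (f3807 IH) (Lpn (LP (LK LD1_c0 LD2_c0 LD3_c47)))))))))))))
theorem f20038 : Led Lsl_cf (LP (LK LD1_c0 LD2_c1 LD3_c22)) = (LP (LK LD1_c0 LD2_c1 LD3_c59)) :=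
  Lgr Lrot58 (Lpe (f6703 IH) (Lpe (f1497 IH) (Lpr_bt (f432 IH) (Lpe (f338 IH) (Lpq (f9936 IH) (Lpq (f20034 IH) (Lpe (f6696 IH) (Lpr_ct (f341 IH) (Lpr_gf (f5854 IH) (Lpqs (f7278 IH) (Lpe (f5847 IH) (Lpr_gf (f12687 IH) (Lpe (f12673 IH) (Lpn (LP (LK LD1_c0 LD2_c1 LD3_c59))))))))))))))))
theorem f20261 : Led Lsl_bt (LP (LK LD1_c0 LD2_c1 LD3_c22)) = (LP (LK LD1_c0 LD2_c1 LD3_c22)) :=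
  Lgr Lrot128 (Lpr_cf (f20038 IH) (Lpe (f12668 IH) (Lpe (f12674 IH) (Lpe (f12673 IH) (Lpr_cf (f20259 IH) (Lpn (LP (LK LD1_c0 LD2_c1 LD3_c22))))))))
theorem f20025 : Led Lsl_ef (LP (LK LD1_c0 LD2_c1 LD3_c59)) = (LP (LK LD1_c0 LD2_c1 LD3_c52)) :=
  Lgr Lrot29 (Lpr_bt (f12673 IH) (Lpe (f12671 IH) (Lpr_bt (f20021 IH) (Lpn (LP (LK LD1_c0 LD2_c1 LD3_c52))))))
theorem f20249 : Led Lsl_ef (LP (LK LD1_c0 LD2_c2 LD3_c39)) = (LP (LK LD1_c0 LD2_c1 LD3_c22)) :=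
  Lgr Lrot28 (Lpr_ct (f20192 IH) (Lpe (f20025 IH) (Lpe (f20038 IH) (Lpn (LP (LK LD1_c0 LD2_c1 LD3_c22))))))
theorem f20436 : Led Lsl_ef (LP (LK LD1_c0 LD2_c1 LD3_c22)) = (LP (LK LD1_c0 LD2_c2 LD3_c39)) :=
  Lgr Lrot29 (Lpr_bt (f20261 IH) (Lpe (f20249 IH) (Lpe (f20247 IH) (Lpn (LP (LK LD1_c0 LD2_c2 LD3_c39))))))
theorem f1476 : Led Lsl_et (LP (LK LD1_c0 LD2_c0 LD3_c9)) = (LP (LK LD1_c0 LD2_c0 LD3_c31)) :=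
  Lre_e IH (LK LD1_c0 LD2_c0 LD3_c9) (LK LD1_c0 LD2_c0 LD3_c31) Lrfl Lrfl
theorem f295 : Led Lsl_dt (LP (LK LD1_c0 LD2_c0 LD3_c9)) = (LP (LK LD1_c0 LD2_c0 LD3_c30)) :=
  Lre_d IH (LK LD1_c0 LD2_c0 LD3_c9) (LK LD1_c0 LD2_c0 LD3_c30) Lrfl Lrfl
theorem f227 : Led Lsl_gt (LP (LK LD1_c0 LD2_c1 LD3_c19)) = (LP (LK LD1_c0 LD2_c0 LD3_c30)) :=
  Lre_g IH (LK LD1_c0 LD2_c1 LD3_c19) (LK LD1_c0 LD2_c0 LD3_c30) Lrfl Lrfl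
theorem f20216 : Led Lsl_dt (LP (LK LD1_c0 LD2_c2 LD3_c39)) = (LP (LK LD1_c0 LD2_c5 LD3_c54)) :=
  Lre_d IH (LK LD1_c0 LD2_c2 LD3_c39) (LK LD1_c0 LD2_c5 LD3_c54) Lrfl Lrfl
theorem f20184 : Led Lsl_ft (LP (LK LD1_c0 LD2_c8 LD3_c0)) = (LP (LK LD1_c0 LD2_c3 LD3_c40)) :=
  Lre_f IH (LK LD1_c0 LD2_c8 LD3_c0) (LK LD1_c0 LD2_c3 LD3_c40) Lrfl Lrfl
theorem f20185 : Led Lsl_at (LP (LK LD1_c0 LD2_c3 LD3_c40)) = (LP (LK LD1_c0 LD2_c6 LD3_c2)) :=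
  Lre_a IH (LK LD1_c0 LD2_c3 LD3_c40) (LK LD1_c0 LD2_c6 LD3_c2) Lrfl Lrfl
theorem f20186 : Led Lsl_gt (LP (LK LD1_c0 LD2_c5 LD3_c54)) = (LP (LK LD1_c0 LD2_c6 LD3_c2)) :=
  Lgr Lrot46 (Lpr_gf (f20182 IH) (Lpr_ft (f20184 IH) (Lpr_at (f20185 IH) (Lpn (LP (LK LD1_c0 LD2_c6 LD3_c2))))))
theorem f8323 : Led Lsl_dt (LP (LK LD1_c0 LD2_c2 LD3_c44)) = (LP (LK LD1_c0 LD2_c6 LD3_c2)) :=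
  Lre_d IH (LK LD1_c0 LD2_c2 LD3_c44) (LK LD1_c0 LD2_c6 LD3_c2) Lrfl Lrfl
theorem f8322 : Led Lsl_et (LP (LK LD1_c0 LD2_c2 LD3_c44)) = (LP (LK LD1_c0 LD2_c1 LD3_c7)) :=
  Lre_e IH (LK LD1_c0 LD2_c2 LD3_c44) (LK LD1_c0 LD2_c1 LD3_c7) Lrfl Lrfl
theorem f9600 : Led Lsl_bt (LP (LK LD1_c0 LD2_c3 LD3_c28)) = (LP (LK LD1_c0 LD2_c5 LD3_c60)) :=
  Lgr Lrot127 (Lpr_bf (f9596 IH) (Lpn (LP (LK LD1_c0 LD2_c5 LD3_c60))))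
theorem f222 : Led Lsl_ct (LP (LK LD1_c0 LD2_c1 LD3_c31)) = (LP (LK LD1_c0 LD2_c1 LD3_c48)) :=
  Lre_c IH (LK LD1_c0 LD2_c1 LD3_c31) (LK LD1_c0 LD2_c1 LD3_c48) Lrfl Lrfl
theorem f9634 : Led Lsl_gt (LP (LK LD1_c0 LD2_c1 LD3_c7)) = (LP (LK LD1_c0 LD2_c1 LD3_c31)) :=
  Lgr Lrot82 (Lpe (f6983 IH) (Lpr_ct (f9592 IH) (Lpe (f6972 IH) (Lpr_cf (f9586 IH) (Lpe (f9584 IH) (Lpr_gf (f9568 IH) (Lpe (f9600 IH) (Lpr_ct (f9625 IH) (Lpe (f7354 IH) (Lpe (f222 IH) (Lpn (LP (LK LD1_c0 LD2_c1 LD3_c31)))))))))))))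
theorem f20444 : Led Lsl_df (LP (LK LD1_c0 LD2_c1 LD3_c19)) = (LP (LK LD1_c0 LD2_c1 LD3_c31)) :=
  Lgr Lrot135 (Lpr_gt (f227 IH) (Lpe (f295 IH) (Lpr_et (f1476 IH) (Lpr_gt (f6703 IH) (Lpr_ef (f20436 IH) (Lpr_dt (f20216 IH) (Lpr_gt (f20186 IH) (Lpe (f8323 IH) (Lpr_et (f8322 IH) (Lpr_gt (f9634 IH) (Lpn (LP (LK LD1_c0 LD2_c1 LD3_c31)))))))))))))
theorem f20451 : Led Lsl_et (LP (LK LD1_c0 LD2_c1 LD3_c19)) = (LP (LK LD1_c0 LD2_c3 LD3_c10)) :=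
  Lre_e IH (LK LD1_c0 LD2_c1 LD3_c19) (LK LD1_c0 LD2_c3 LD3_c10) Lrfl Lrfl
theorem f20452 : Led Lsl_dt (LP (LK LD1_c0 LD2_c3 LD3_c10)) = (LP (LK LD1_c0 LD2_c6 LD3_c60)) :=
  Lre_d IH (LK LD1_c0 LD2_c3 LD3_c10) (LK LD1_c0 LD2_c6 LD3_c60) Lrfl Lrfl
theorem f6970 : Led Lsl_et (LP (LK LD1_c0 LD2_c3 LD3_c35)) = (LP (LK LD1_c0 LD2_c1 LD3_c31)) :=
  Lre_e IH (LK LD1_c0 LD2_c3 LD3_c35) (LK LD1_c0 LD2_c1 LD3_c31) Lrfl Lrfl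
theorem f6843 : Led Lsl_dt (LP (LK LD1_c0 LD2_c1 LD3_c6)) = (LP (LK LD1_c0 LD2_c2 LD3_c40)) :=
  Lre_d IH (LK LD1_c0 LD2_c1 LD3_c6) (LK LD1_c0 LD2_c2 LD3_c40) Lrfl Lrfl
theorem f6857 : Led Lsl_gt (LP (LK LD1_c0 LD2_c2 LD3_c40)) = (LP (LK LD1_c0 LD2_c5 LD3_c55)) :=
  Lre_g IH (LK LD1_c0 LD2_c2 LD3_c40) (LK LD1_c0 LD2_c5 LD3_c55) Lrfl Lrfl
theorem f7360 : Led Lsl_df (LP (LK LD1_c0 LD2_c4 LD3_c5)) = (LP (LK LD1_c0 LD2_c4 LD3_c12)) :=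
  Lgr Lrot38 (Lpr_dt (f7356 IH) (Lpn (LP (LK LD1_c0 LD2_c4 LD3_c12))))
theorem f408 : Led Lsl_ct (LP (LK LD1_c0 LD2_c4 LD3_c5)) = (LP (LK LD1_c0 LD2_c3 LD3_c35)) :=
  Lre_c IH (LK LD1_c0 LD2_c4 LD3_c5) (LK LD1_c0 LD2_c3 LD3_c35) Lrfl Lrfl
theorem f20251 : Led Lsl_dt (LP (LK LD1_c0 LD2_c5 LD3_c55)) = (LP (LK LD1_c0 LD2_c3 LD3_c35)) :=
  Lgr Lrot113 (Lpe (f6857 IH) (Lpe (f6843 IH) (Lpe (f7006 IH) (Lpr_ct (f20192 IH) (Lpr_gt (f5885 IH) (Lpr_dt (f1633 IH) (Lpr_gt (f1634 IH) (Lpe (f7360 IH) (Lpr_ct (f408 IH) (Lpn (LP (LK LD1_c0 LD2_c3 LD3_c35))))))))))))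
theorem f20453 : Led Lsl_et (LP (LK LD1_c0 LD2_c6 LD3_c60)) = (LP (LK LD1_c0 LD2_c5 LD3_c55)) :=
  Lgr Lrot71 (Lpe (f20452 IH) (Lpe (f20451 IH) (Lpr_df (f20444 IH) (Lpe (f6970 IH) (Lpe (f20251 IH) (Lpn (LP (LK LD1_c0 LD2_c5 LD3_c55))))))))
theorem f20466 : Led Lsl_ef (LP (LK LD1_c0 LD2_c6 LD3_c60)) = (LP (LK LD1_c0 LD2_c5 LD3_c55)) :=
  Lgr Lrot88 (Lpr_et (f20453 IH) (Lpn (LP (LK LD1_c0 LD2_c5 LD3_c55))))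
theorem f20469 : Led Lsl_dt (LP (LK LD1_c0 LD2_c6 LD3_c60)) = (LP (LK LD1_c0 LD2_c3 LD3_c10)) :=
  Lre_d IH (LK LD1_c0 LD2_c6 LD3_c60) (LK LD1_c0 LD2_c3 LD3_c10) Lrfl Lrfl
theorem f20530 : Led Lsl_et (LP (LK LD1_c0 LD2_c3 LD3_c10)) = (LP (LK LD1_c0 LD2_c1 LD3_c19)) :=
  Lre_e IH (LK LD1_c0 LD2_c3 LD3_c10) (LK LD1_c0 LD2_c1 LD3_c19) Lrfl Lrfl
theorem f20449 : Led Lsl_dt (LP (LK LD1_c0 LD2_c1 LD3_c19)) = (LP (LK LD1_c0 LD2_c1 LD3_c31)) :=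
  Lgr Lrot42 (Lpr_df (f20444 IH) (Lpn (LP (LK LD1_c0 LD2_c1 LD3_c31))))
theorem f20457 : Led Lsl_et (LP (LK LD1_c0 LD2_c1 LD3_c31)) = (LP (LK LD1_c0 LD2_c3 LD3_c35)) :=
  Lre_e IH (LK LD1_c0 LD2_c1 LD3_c31) (LK LD1_c0 LD2_c3 LD3_c35) Lrfl Lrfl
theorem f20531 : Led Lsl_dt (LP (LK LD1_c0 LD2_c3 LD3_c35)) = (LP (LK LD1_c0 LD2_c5 LD3_c55)) :=
  Lgr Lrot77 (Lpe (f20457 IH) (Lpe (f20449 IH) (Lpe (f20530 IH) (Lpe (f20469 IH) (Lpr_ef (f20466 IH) (Lpn (LP (LK LD1_c0 LD2_c5 LD3_c55))))))))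
theorem f7092 : Led Lsl_et (LP (LK LD1_c0 LD2_c1 LD3_c34)) = (LP (LK LD1_c0 LD2_c0 LD3_c34)) :=
  Lre_e IH (LK LD1_c0 LD2_c1 LD3_c34) (LK LD1_c0 LD2_c0 LD3_c34) Lrfl Lrfl
theorem f7102 : Led Lsl_dt (LP (LK LD1_c0 LD2_c1 LD3_c34)) = (LP (LK LD1_c0 LD2_c3 LD3_c40)) :=
  Lre_d IH (LK LD1_c0 LD2_c1 LD3_c34) (LK LD1_c0 LD2_c3 LD3_c40) Lrfl Lrfl
theorem f13443 : Led Lsl_dt (LP (LK LD1_c0 LD2_c1 LD3_c22)) = (LP (LK LD1_c0 LD2_c3 LD3_c20)) :=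
  Lre_d IH (LK LD1_c0 LD2_c1 LD3_c22) (LK LD1_c0 LD2_c3 LD3_c20) Lrfl Lrfl
theorem f20546 : Led Lsl_gt (LP (LK LD1_c0 LD2_c3 LD3_c40)) = (LP (LK LD1_c0 LD2_c3 LD3_c20)) :=
  Lgr Lrot112 (Lpe (f7102 IH) (Lpr_et (f7092 IH) (Lpe (f98 IH) (Lpe (f6970 IH) (Lpr_dt (f20531 IH) (Lpe (f6857 IH) (Lpe (f6843 IH) (Lpe (f7006 IH) (Lpr_ef (f20249 IH) (Lpr_dt (f13443 IH) (Lpn (LP (LK LD1_c0 LD2_c3 LD3_c20)))))))))))))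
theorem f20565 : Led Lsl_et (LP (LK LD1_c0 LD2_c7 LD3_c59)) = (LP (LK LD1_c0 LD2_c3 LD3_c40)) :=
  Lre_e IH (LK LD1_c0 LD2_c7 LD3_c59) (LK LD1_c0 LD2_c3 LD3_c40) Lrfl Lrfl
theorem f9026 : Led Lsl_dt (LP (LK LD1_c0 LD2_c7 LD3_c59)) = (LP (LK LD1_c0 LD2_c3 LD3_c38)) :=
  Lre_d IH (LK LD1_c0 LD2_c7 LD3_c59) (LK LD1_c0 LD2_c3 LD3_c38) Lrfl Lrfl
theorem f20566 : Led Lsl_gt (LP (LK LD1_c0 LD2_c7 LD3_c58)) = (LP (LK LD1_c0 LD2_c3 LD3_c38)) :=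
  Lre_g IH (LK LD1_c0 LD2_c7 LD3_c58) (LK LD1_c0 LD2_c3 LD3_c38) Lrfl Lrfl
theorem f20567 : Led Lsl_dt (LP (LK LD1_c0 LD2_c17 LD3_c43)) = (LP (LK LD1_c0 LD2_c7 LD3_c58)) :=
  Lre_d IH (LK LD1_c0 LD2_c17 LD3_c43) (LK LD1_c0 LD2_c7 LD3_c58) Lrfl Lrfl
theorem f20264 : Led Lsl_dt (LP (LK LD1_c0 LD2_c3 LD3_c20)) = (LP (LK LD1_c0 LD2_c1 LD3_c22)) :=
  Lre_d IH (LK LD1_c0 LD2_c3 LD3_c20) (LK LD1_c0 LD2_c1 LD3_c22) Lrfl Lrfl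
theorem f16663 : Led Lsl_gt (LP (LK LD1_c0 LD2_c1 LD3_c22)) = (LP (LK LD1_c0 LD2_c2 LD3_c41)) :=
  Lre_g IH (LK LD1_c0 LD2_c1 LD3_c22) (LK LD1_c0 LD2_c2 LD3_c41) Lrfl Lrfl
theorem f8314 : Led Lsl_dt (LP (LK LD1_c0 LD2_c5 LD3_c58)) = (LP (LK LD1_c0 LD2_c2 LD3_c41)) :=
  Lre_d IH (LK LD1_c0 LD2_c5 LD3_c58) (LK LD1_c0 LD2_c2 LD3_c41) Lrfl Lrfl
theorem f20568 : Led Lsl_et (LP (LK LD1_c0 LD2_c5 LD3_c58)) = (LP (LK LD1_c0 LD2_c13 LD3_c5)) :=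
  Lre_e IH (LK LD1_c0 LD2_c5 LD3_c58) (LK LD1_c0 LD2_c13 LD3_c5) Lrfl Lrfl
theorem f20569 : Led Lsl_gt (LP (LK LD1_c0 LD2_c13 LD3_c5)) = (LP (LK LD1_c0 LD2_c29 LD3_c48)) :=
  Lre_g IH (LK LD1_c0 LD2_c13 LD3_c5) (LK LD1_c0 LD2_c29 LD3_c48) Lrfl Lrfl
theorem f20570 : Led Lsl_et (LP (LK LD1_c0 LD2_c17 LD3_c43)) = (LP (LK LD1_c0 LD2_c29 LD3_c48)) :=
  Lgr Lrot122 (Lpr_dt (f20567 IH) (Lpr_gt (f20566 IH) (Lpe (f9026 IH) (Lpr_et (f20565 IH) (Lpr_gt (f20546 IH) (Lpr_dt (f20264 IH) (Lpr_gt (f16663 IH) (Lpe (f8314 IH) (Lpr_et (f20568 IH) (Lpr_gt (f20569 IH) (Lpn (LP (LK LD1_c0 LD2_c29 LD3_c48)))))))))))))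
theorem f9080 : Led Lsl_gt (LP (LK LD1_c0 LD2_c13 LD3_c14)) = (LP (LK LD1_c0 LD2_c7 LD3_c58)) :=
  Lre_g IH (LK LD1_c0 LD2_c13 LD3_c14) (LK LD1_c0 LD2_c7 LD3_c58) Lrfl Lrfl
theorem f9021 : Led Lsl_dt (LP (LK LD1_c0 LD2_c29 LD3_c56)) = (LP (LK LD1_c0 LD2_c13 LD3_c14)) :=
  Lre_d IH (LK LD1_c0 LD2_c29 LD3_c56) (LK LD1_c0 LD2_c13 LD3_c14) Lrfl Lrfl
theorem f9082 : Led Lsl_gt (LP (LK LD1_c0 LD2_c17 LD3_c45)) = (LP (LK LD1_c0 LD2_c29 LD3_c56)) :=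
  Lre_g IH (LK LD1_c0 LD2_c17 LD3_c45) (LK LD1_c0 LD2_c29 LD3_c56) Lrfl Lrfl
theorem f20585 : Led Lsl_gt (LP (LK LD1_c0 LD2_c29 LD3_c48)) = (LP (LK LD1_c0 LD2_c16 LD3_c35)) :=
  Lre_g IH (LK LD1_c0 LD2_c29 LD3_c48) (LK LD1_c0 LD2_c16 LD3_c35) Lrfl Lrfl
theorem f20586 : Led Lsl_et (LP (LK LD1_c0 LD2_c7 LD3_c24)) = (LP (LK LD1_c0 LD2_c16 LD3_c35)) :=
  Lre_e IH (LK LD1_c0 LD2_c7 LD3_c24) (LK LD1_c0 LD2_c16 LD3_c35) Lrfl Lrfl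
theorem f20231 : Led Lsl_dt (LP (LK LD1_c0 LD2_c7 LD3_c24)) = (LP (LK LD1_c0 LD2_c3 LD3_c19)) :=
  Lre_d IH (LK LD1_c0 LD2_c7 LD3_c24) (LK LD1_c0 LD2_c3 LD3_c19) Lrfl Lrfl
theorem f20232 : Led Lsl_gt (LP (LK LD1_c0 LD2_c3 LD3_c19)) = (LP (LK LD1_c0 LD2_c5 LD3_c49)) :=
  Lre_g IH (LK LD1_c0 LD2_c3 LD3_c19) (LK LD1_c0 LD2_c5 LD3_c49) Lrfl Lrfl
theorem f20233 : Led Lsl_dt (LP (LK LD1_c0 LD2_c12 LD3_c47)) = (LP (LK LD1_c0 LD2_c5 LD3_c49)) :=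
  Lre_d IH (LK LD1_c0 LD2_c12 LD3_c47) (LK LD1_c0 LD2_c5 LD3_c49) Lrfl Lrfl
theorem f20587 : Led Lsl_ef (LP (LK LD1_c0 LD2_c17 LD3_c45)) = (LP (LK LD1_c0 LD2_c12 LD3_c47)) :=
  Lgr Lrot167 (Lpr_gt (f9082 IH) (Lpr_dt (f9021 IH) (Lpr_gt (f9080 IH) (Lpe (f20567 IH) (Lpr_et (f20570 IH) (Lpr_gt (f20585 IH) (Lpe (f20586 IH) (Lpr_dt (f20231 IH) (Lpr_gt (f20232 IH) (Lpe (f20233 IH) (Lpn (LP (LK LD1_c0 LD2_c12 LD3_c47)))))))))))))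
theorem f6885 : Led Lsl_gt (LP (LK LD1_c0 LD2_c7 LD3_c59)) = (LP (LK LD1_c0 LD2_c17 LD3_c45)) :=
  Lre_g IH (LK LD1_c0 LD2_c7 LD3_c59) (LK LD1_c0 LD2_c17 LD3_c45) Lrfl Lrfl
theorem f20597 : Led Lsl_et (LP (LK LD1_c0 LD2_c3 LD3_c40)) = (LP (LK LD1_c0 LD2_c7 LD3_c59)) :=
  Lre_e IH (LK LD1_c0 LD2_c3 LD3_c40) (LK LD1_c0 LD2_c7 LD3_c59) Lrfl Lrfl
theorem f7104 : Led Lsl_dt (LP (LK LD1_c0 LD2_c3 LD3_c40)) = (LP (LK LD1_c0 LD2_c1 LD3_c34)) :=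
  Lre_d IH (LK LD1_c0 LD2_c3 LD3_c40) (LK LD1_c0 LD2_c1 LD3_c34) Lrfl Lrfl
theorem f6846 : Led Lsl_gt (LP (LK LD1_c0 LD2_c5 LD3_c49)) = (LP (LK LD1_c0 LD2_c2 LD3_c37)) :=
  Lre_g IH (LK LD1_c0 LD2_c5 LD3_c49) (LK LD1_c0 LD2_c2 LD3_c37) Lrfl Lrfl
theorem f20473 : Led Lsl_dt (LP (LK LD1_c0 LD2_c5 LD3_c50)) = (LP (LK LD1_c0 LD2_c2 LD3_c37)) :=
  Lre_d IH (LK LD1_c0 LD2_c5 LD3_c50) (LK LD1_c0 LD2_c2 LD3_c37) Lrfl Lrfl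
theorem f20472 : Led Lsl_et (LP (LK LD1_c0 LD2_c5 LD3_c50)) = (LP (LK LD1_c0 LD2_c2 LD3_c40)) :=
  Lre_e IH (LK LD1_c0 LD2_c5 LD3_c50) (LK LD1_c0 LD2_c2 LD3_c40) Lrfl Lrfl
theorem f20598 : Led Lsl_gf (LP (LK LD1_c0 LD2_c1 LD3_c34)) = (LP (LK LD1_c0 LD2_c3 LD3_c35)) :=
  Lgr Lrot134 (Lpe (f7104 IH) (Lpr_et (f20597 IH) (Lpr_gt (f6885 IH) (Lpr_ef (f20587 IH) (Lpr_dt (f20233 IH) (Lpr_gt (f6846 IH) (Lpe (f20473 IH) (Lpr_et (f20472 IH) (Lpr_gt (f6857 IH) (Lpr_dt (f20251 IH) (Lpn (LP (LK LD1_c0 LD2_c3 LD3_c35)))))))))))))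
theorem f6859 : Led Lsl_et (LP (LK LD1_c0 LD2_c0 LD3_c24)) = (LP (LK LD1_c0 LD2_c1 LD3_c6)) :=
  Lre_e IH (LK LD1_c0 LD2_c0 LD3_c24) (LK LD1_c0 LD2_c1 LD3_c6) Lrfl Lrfl
theorem f1469 : Led Lsl_dt (LP (LK LD1_c0 LD2_c0 LD3_c24)) = (LP (LK LD1_c0 LD2_c1 LD3_c5)) :=
  Lre_d IH (LK LD1_c0 LD2_c0 LD3_c24) (LK LD1_c0 LD2_c1 LD3_c5) Lrfl Lrfl
theorem f20615 : Led Lsl_gt (LP (LK LD1_c0 LD2_c1 LD3_c5)) = (LP (LK LD1_c0 LD2_c1 LD3_c19)) :=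
  Lgr Lrot112 (Lpe (f1469 IH) (Lpr_et (f6859 IH) (Lpe (f7006 IH) (Lpr_ef (f20249 IH) (Lpr_dt (f13443 IH) (Lpe (f20546 IH) (Lpe (f7102 IH) (Lpr_gf (f20598 IH) (Lpe (f20457 IH) (Lpe (f20444 IH) (Lpn (LP (LK LD1_c0 LD2_c1 LD3_c19)))))))))))))
def v52 : LQ := Led Lsl_gf (LP (LK LD1_c0 LD2_c0 LD3_c24))
theorem f6849 : Led Lsl_gf (LP (LK LD1_c0 LD2_c0 LD3_c24)) = v52 :=
  Lrfl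
theorem f1474 : Led Lsl_at (LP (LK LD1_c0 LD2_c0 LD3_c9)) = (LP (LK LD1_c0 LD2_c0 LD3_c24)) :=
  Lre_a IH (LK LD1_c0 LD2_c0 LD3_c9) (LK LD1_c0 LD2_c0 LD3_c24) Lrfl Lrfl
def v17 : LQ := Led Lsl_ft (LP (LK LD1_c0 LD2_c0 LD3_c9))
theorem f1477 : Led Lsl_ft (LP (LK LD1_c0 LD2_c0 LD3_c9)) = v17 :=
  Lrfl
theorem f1481 : Led Lsl_ff (LP (LK LD1_c0 LD2_c0 LD3_c9)) = v17 :=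
  Lgr Lrot3 (Lpr_ft (f1477 IH) (Lpn v17))
theorem f6850 : Led Lsl_gt v17 = v52 :=
  Lgr Lrot5 (Lpe (f1481 IH) (Lpr_at (f1474 IH) (Lpr_gf (f6849 IH) (Lpn v52))))
theorem f1484 : Led Lsl_ct v1 = v17 :=
  Lgr Lrot40 (Lpe (f30 IH) (Lpe (f32 IH) (Lpr_ff (f1481 IH) (Lpn v17))))
theorem f7221 : v17 = (LP (LK LD1_c0 LD2_c0 LD3_c9)) :=
  Lefun (Lecon (f1484 IH) (f7207 IH)) (f27 IH)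
theorem f7242 : v52 = (LP (LK LD1_c0 LD2_c0 LD3_c27)) :=
  Lefun (Lecon (f6850 IH) (f7221 IH)) (f50 IH)
theorem f20617 : Led Lsl_dt (LP (LK LD1_c0 LD2_c1 LD3_c48)) = (LP (LK LD1_c0 LD2_c1 LD3_c48)) :=
  Lgr Lrot105 (Lpe (f96 IH) (Lpe (f209 IH) (Lpr_gf (f1630 IH) (Lpqs (f1684 IH) (Lpr_cf (f234 IH) (Lpq (f7242 IH) (Lpe (f6849 IH) (Lpr_dt (f1469 IH) (Lpr_gt (f20615 IH) (Lpr_dt (f20449 IH) (Lpe (f97 IH) (Lpn (LP (LK LD1_c0 LD2_c1 LD3_c48))))))))))))))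
theorem f20829 : Led Lsl_gf (LP (LK LD1_c0 LD2_c1 LD3_c59)) = (LP (LK LD1_c0 LD2_c1 LD3_c47)) :=
  Lgr Lrot141 (Lpr_ef (f20025 IH) (Lpr_dt (f7305 IH) (Lpe (f7362 IH) (Lpe (f196 IH) (Lpr_et (f198 IH) (Lpr_gt (f96 IH) (Lpr_dt (f20617 IH) (Lpr_gt (f7354 IH) (Lpe (f7039 IH) (Lpr_et (f7040 IH) (Lpn (LP (LK LD1_c0 LD2_c1 LD3_c47)))))))))))))
theorem f8315 : Led Lsl_ct (LP (LK LD1_c0 LD2_c2 LD3_c41)) = (LP (LK LD1_c0 LD2_c1 LD3_c12)) :=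
  Lre_c IH (LK LD1_c0 LD2_c2 LD3_c41) (LK LD1_c0 LD2_c1 LD3_c12) Lrfl Lrfl
theorem f7133 : Led Lsl_dt (LP (LK LD1_c0 LD2_c1 LD3_c12)) = (LP (LK LD1_c0 LD2_c2 LD3_c55)) :=
  Lre_d IH (LK LD1_c0 LD2_c1 LD3_c12) (LK LD1_c0 LD2_c2 LD3_c55) Lrfl Lrfl
theorem f13550 : Led Lsl_ct (LP (LK LD1_c0 LD2_c6 LD3_c20)) = (LP (LK LD1_c0 LD2_c2 LD3_c55)) :=
  Lre_c IH (LK LD1_c0 LD2_c6 LD3_c20) (LK LD1_c0 LD2_c2 LD3_c55) Lrfl Lrfl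
theorem f20862 : Led Lsl_gt (LP (LK LD1_c0 LD2_c3 LD3_c58)) = (LP (LK LD1_c0 LD2_c6 LD3_c20)) :=
  Lre_g IH (LK LD1_c0 LD2_c3 LD3_c58) (LK LD1_c0 LD2_c6 LD3_c20) Lrfl Lrfl
theorem f3821 : Led Lsl_bt (LP (LK LD1_c0 LD2_c4 LD3_c24)) = (LP (LK LD1_c0 LD2_c2 LD3_c0)) :=
  Lre_b IH (LK LD1_c0 LD2_c4 LD3_c24) (LK LD1_c0 LD2_c2 LD3_c0) Lrfl Lrfl
theorem f3910 : Led Lsl_bf (LP (LK LD1_c0 LD2_c0 LD3_c58)) = (LP (LK LD1_c0 LD2_c0 LD3_c58)) :=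
  Lgr Lrot61 (Lpe (f3897 IH) (Lpr_bt (f339 IH) (Lpr_ft (f3906 IH) (Lpn (LP (LK LD1_c0 LD2_c0 LD3_c58))))))
theorem f347 : Led Lsl_bt (LP (LK LD1_c0 LD2_c0 LD3_c38)) = (LP (LK LD1_c0 LD2_c0 LD3_c20)) :=
  Lre_b IH (LK LD1_c0 LD2_c0 LD3_c38) (LK LD1_c0 LD2_c0 LD3_c20) Lrfl Lrfl
theorem f367 : Led Lsl_ct (LP (LK LD1_c0 LD2_c0 LD3_c38)) = (LP (LK LD1_c0 LD2_c1 LD3_c44)) :=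
  Lre_c IH (LK LD1_c0 LD2_c0 LD3_c38) (LK LD1_c0 LD2_c1 LD3_c44) Lrfl Lrfl
theorem f5834 : Led Lsl_gt (LP (LK LD1_c0 LD2_c1 LD3_c44)) = (LP (LK LD1_c0 LD2_c3 LD3_c58)) :=
  Lre_g IH (LK LD1_c0 LD2_c1 LD3_c44) (LK LD1_c0 LD2_c3 LD3_c58) Lrfl Lrfl
theorem f11885 : Led Lsl_ct (LP (LK LD1_c0 LD2_c4 LD3_c24)) = (LP (LK LD1_c0 LD2_c3 LD3_c58)) :=
  Lgr Lrot10 (Lpr_bt (f3821 IH) (Lpe (f11874 IH) (Lpr_ct (f3876 IH) (Lpr_gt (f11512 IH) (Lpe (f3912 IH) (Lpe (f3910 IH) (Lpr_gt (f123 IH) (Lpe (f347 IH) (Lpr_ct (f367 IH) (Lpr_gt (f5834 IH) (Lpn (LP (LK LD1_c0 LD2_c3 LD3_c58)))))))))))))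
theorem f9739 : Led Lsl_dt (LP (LK LD1_c0 LD2_c4 LD3_c3)) = (LP (LK LD1_c0 LD2_c1 LD3_c47)) :=
  Lre_d IH (LK LD1_c0 LD2_c4 LD3_c3) (LK LD1_c0 LD2_c1 LD3_c47) Lrfl Lrfl
theorem f20863 : Led Lsl_gf (LP (LK LD1_c0 LD2_c4 LD3_c24)) = (LP (LK LD1_c0 LD2_c4 LD3_c3)) :=
  Lgr Lrot147 (Lpr_ct (f11885 IH) (Lpr_gt (f20862 IH) (Lpr_ct (f13550 IH) (Lpe (f7133 IH) (Lpe (f8315 IH) (Lpe (f16663 IH) (Lpr_cf (f20038 IH) (Lpr_gf (f20829 IH) (Lpe (f9739 IH) (Lpn (LP (LK LD1_c0 LD2_c4 LD3_c3))))))))))))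
theorem f3817 : Led Lsl_bt (LP (LK LD1_c0 LD2_c2 LD3_c0)) = (LP (LK LD1_c0 LD2_c4 LD3_c24)) :=
  Lre_b IH (LK LD1_c0 LD2_c2 LD3_c0) (LK LD1_c0 LD2_c4 LD3_c24) Lrfl Lrfl
theorem f3843 : Led Lsl_dt (LP (LK LD1_c0 LD2_c4 LD3_c24)) = (LP (LK LD1_c0 LD2_c4 LD3_c6)) :=
  Lgr Lrot79 (Lpe (f3817 IH) (Lpe (f3815 IH) (Lpr_bf (f3839 IH) (Lpn (LP (LK LD1_c0 LD2_c4 LD3_c6))))))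
theorem f3845 : Led Lsl_df (LP (LK LD1_c0 LD2_c4 LD3_c24)) = (LP (LK LD1_c0 LD2_c4 LD3_c6)) :=
  Lgr Lrot38 (Lpr_dt (f3843 IH) (Lpn (LP (LK LD1_c0 LD2_c4 LD3_c6))))
theorem f9740 : Led Lsl_dt (LP (LK LD1_c0 LD2_c1 LD3_c47)) = (LP (LK LD1_c0 LD2_c4 LD3_c3)) :=
  Lre_d IH (LK LD1_c0 LD2_c1 LD3_c47) (LK LD1_c0 LD2_c4 LD3_c3) Lrfl Lrfl
theorem f246 : Led Lsl_et (LP (LK LD1_c0 LD2_c0 LD3_c31)) = (LP (LK LD1_c0 LD2_c0 LD3_c9)) :=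
  Lre_e IH (LK LD1_c0 LD2_c0 LD3_c31) (LK LD1_c0 LD2_c0 LD3_c9) Lrfl Lrfl
theorem f247 : Led Lsl_dt (LP (LK LD1_c0 LD2_c0 LD3_c31)) = (LP (LK LD1_c0 LD2_c1 LD3_c24)) :=
  Lre_d IH (LK LD1_c0 LD2_c0 LD3_c31) (LK LD1_c0 LD2_c1 LD3_c24) Lrfl Lrfl
theorem f2925 : Led Lsl_gt (LP (LK LD1_c0 LD2_c1 LD3_c24)) = (LP (LK LD1_c0 LD2_c3 LD3_c24)) :=
  Lre_g IH (LK LD1_c0 LD2_c1 LD3_c24) (LK LD1_c0 LD2_c3 LD3_c24) Lrfl Lrfl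
theorem f465 : Led Lsl_dt (LP (LK LD1_c0 LD2_c1 LD3_c7)) = (LP (LK LD1_c0 LD2_c2 LD3_c43)) :=
  Lre_d IH (LK LD1_c0 LD2_c1 LD3_c7) (LK LD1_c0 LD2_c2 LD3_c43) Lrfl Lrfl
theorem f8305 : Led Lsl_df (LP (LK LD1_c0 LD2_c3 LD3_c24)) = (LP (LK LD1_c0 LD2_c3 LD3_c33)) :=
  Lgr Lrot168 (Lpe (f2925 IH) (Lpe (f247 IH) (Lpr_et (f246 IH) (Lpe (f1473 IH) (Lpr_ef (f2919 IH) (Lpr_dt (f1654 IH) (Lpr_gf (f8292 IH) (Lpe (f465 IH) (Lpr_gf (f8142 IH) (Lpe (f3858 IH) (Lpn (LP (LK LD1_c0 LD2_c3 LD3_c33)))))))))))))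
theorem f8309 : Led Lsl_dt (LP (LK LD1_c0 LD2_c3 LD3_c24)) = (LP (LK LD1_c0 LD2_c3 LD3_c33)) :=
  Lgr Lrot42 (Lpr_df (f8305 IH) (Lpn (LP (LK LD1_c0 LD2_c3 LD3_c33))))
theorem f5883 : Led Lsl_gt (LP (LK LD1_c0 LD2_c1 LD3_c23)) = (LP (LK LD1_c0 LD2_c0 LD3_c31)) :=
  Lre_g IH (LK LD1_c0 LD2_c1 LD3_c23) (LK LD1_c0 LD2_c0 LD3_c31) Lrfl Lrfl
theorem f8329 : Led Lsl_ct (LP (LK LD1_c0 LD2_c1 LD3_c23)) = (LP (LK LD1_c0 LD2_c3 LD3_c22)) :=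
  Lre_c IH (LK LD1_c0 LD2_c1 LD3_c23) (LK LD1_c0 LD2_c3 LD3_c22) Lrfl Lrfl
theorem f20868 : Led Lsl_gt (LP (LK LD1_c0 LD2_c3 LD3_c22)) = (LP (LK LD1_c0 LD2_c1 LD3_c47)) :=
  Lgr Lrot94 (Lpe (f8329 IH) (Lpr_gt (f5883 IH) (Lpr_dt (f247 IH) (Lpr_gt (f2925 IH) (Lpr_dt (f8309 IH) (Lpr_cf (f3854 IH) (Lpe (f3843 IH) (Lpr_gf (f20863 IH) (Lpe (f9740 IH) (Lpn (LP (LK LD1_c0 LD2_c1 LD3_c47))))))))))))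
theorem f20876 : Led Lsl_et (LP (LK LD1_c0 LD2_c1 LD3_c51)) = (LP (LK LD1_c0 LD2_c3 LD3_c22)) :=
  Lgr Lrot121 (Lpr_dt (f3965 IH) (Lpr_gf (f9682 IH) (Lpe (f196 IH) (Lpr_et (f198 IH) (Lpe (f95 IH) (Lpe (f3796 IH) (Lpe (f3845 IH) (Lpr_gf (f20863 IH) (Lpe (f9740 IH) (Lpe (f20868 IH) (Lpn (LP (LK LD1_c0 LD2_c3 LD3_c22)))))))))))))
theorem f9721 : Led Lsl_at (LP (LK LD1_c0 LD2_c9 LD3_c0)) = (LP (LK LD1_c0 LD2_c4 LD3_c15)) :=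
  Lre_a IH (LK LD1_c0 LD2_c9 LD3_c0) (LK LD1_c0 LD2_c4 LD3_c15) Lrfl Lrfl
theorem f20866 : Led Lsl_gt (LP (LK LD1_c0 LD2_c4 LD3_c24)) = (LP (LK LD1_c0 LD2_c4 LD3_c15)) :=
  Lgr Lrot46 (Lpr_gf (f20863 IH) (Lpr_ft (f9663 IH) (Lpr_at (f9721 IH) (Lpn (LP (LK LD1_c0 LD2_c4 LD3_c15))))))
theorem f7322 : Led Lsl_dt (LP (LK LD1_c0 LD2_c1 LD3_c54)) = (LP (LK LD1_c0 LD2_c4 LD3_c15)) :=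
  Lre_d IH (LK LD1_c0 LD2_c1 LD3_c54) (LK LD1_c0 LD2_c4 LD3_c15) Lrfl Lrfl
theorem f7294 : Led Lsl_at (LP (LK LD1_c0 LD2_c4 LD3_c4)) = (LP (LK LD1_c0 LD2_c1 LD3_c54)) :=
  Lre_a IH (LK LD1_c0 LD2_c4 LD3_c4) (LK LD1_c0 LD2_c1 LD3_c54) Lrfl Lrfl
theorem f7295 : Led Lsl_at (LP (LK LD1_c0 LD2_c1 LD3_c54)) = (LP (LK LD1_c0 LD2_c4 LD3_c4)) :=
  Lre_a IH (LK LD1_c0 LD2_c1 LD3_c54) (LK LD1_c0 LD2_c4 LD3_c4) Lrfl Lrfl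
theorem f7296 : Led Lsl_et (LP (LK LD1_c0 LD2_c1 LD3_c54)) = (LP (LK LD1_c0 LD2_c1 LD3_c54)) :=
  Lgr Lrot123 (Lpe (f7294 IH) (Lpr_ef (f7292 IH) (Lpe (f7295 IH) (Lpn (LP (LK LD1_c0 LD2_c1 LD3_c54))))))
theorem f20886 : Led Lsl_gt (LP (LK LD1_c0 LD2_c1 LD3_c54)) = (LP (LK LD1_c0 LD2_c3 LD3_c22)) :=
  Lgr Lrot131 (Lpe (f7296 IH) (Lpr_dt (f7322 IH) (Lpe (f20866 IH) (Lpr_df (f3845 IH) (Lpr_gf (f9644 IH) (Lpe (f7346 IH) (Lpe (f9647 IH) (Lpe (f3966 IH) (Lpe (f3965 IH) (Lpr_et (f20876 IH) (Lpn (LP (LK LD1_c0 LD2_c3 LD3_c22)))))))))))))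
theorem f7359 : Led Lsl_dt (LP (LK LD1_c0 LD2_c4 LD3_c2)) = (LP (LK LD1_c0 LD2_c8 LD3_c59)) :=
  Lre_d IH (LK LD1_c0 LD2_c4 LD3_c2) (LK LD1_c0 LD2_c8 LD3_c59) Lrfl Lrfl
theorem f20880 : Led Lsl_dt (LP (LK LD1_c0 LD2_c3 LD3_c22)) = (LP (LK LD1_c0 LD2_c7 LD3_c30)) :=
  Lre_d IH (LK LD1_c0 LD2_c3 LD3_c22) (LK LD1_c0 LD2_c7 LD3_c30) Lrfl Lrfl
theorem f20895 : Led Lsl_gf (LP (LK LD1_c0 LD2_c8 LD3_c59)) = (LP (LK LD1_c0 LD2_c7 LD3_c30)) :=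
  Lgr Lrot134 (Lpe (f7359 IH) (Lpr_et (f7358 IH) (Lpe (f9636 IH) (Lpe (f3796 IH) (Lpe (f3845 IH) (Lpr_gt (f20866 IH) (Lpe (f7322 IH) (Lpr_et (f7296 IH) (Lpr_gt (f20886 IH) (Lpr_dt (f20880 IH) (Lpn (LP (LK LD1_c0 LD2_c7 LD3_c30)))))))))))))
theorem f9672 : Led Lsl_at (LP (LK LD1_c0 LD2_c4 LD3_c8)) = (LP (LK LD1_c0 LD2_c8 LD3_c59)) :=
  Lre_a IH (LK LD1_c0 LD2_c4 LD3_c8) (LK LD1_c0 LD2_c8 LD3_c59) Lrfl Lrfl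
theorem f9671 : Led Lsl_ft (LP (LK LD1_c0 LD2_c9 LD3_c1)) = (LP (LK LD1_c0 LD2_c4 LD3_c8)) :=
  Lre_f IH (LK LD1_c0 LD2_c9 LD3_c1) (LK LD1_c0 LD2_c4 LD3_c8) Lrfl Lrfl
theorem f20926 : Led Lsl_gt (LP (LK LD1_c0 LD2_c9 LD3_c1)) = (LP (LK LD1_c0 LD2_c7 LD3_c30)) :=
  Lgr Lrot5 (Lpr_ft (f9671 IH) (Lpr_at (f9672 IH) (Lpr_gf (f20895 IH) (Lpn (LP (LK LD1_c0 LD2_c7 LD3_c30))))))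
theorem f9681 : Led Lsl_bt (LP (LK LD1_c0 LD2_c4 LD3_c18)) = (LP (LK LD1_c0 LD2_c9 LD3_c1)) :=
  Lre_b IH (LK LD1_c0 LD2_c4 LD3_c18) (LK LD1_c0 LD2_c9 LD3_c1) Lrfl Lrfl
theorem f100 : Led Lsl_bt (LP (LK LD1_c0 LD2_c0 LD3_c35)) = (LP (LK LD1_c0 LD2_c0 LD3_c17)) :=
  Lre_b IH (LK LD1_c0 LD2_c0 LD3_c35) (LK LD1_c0 LD2_c0 LD3_c17) Lrfl Lrfl
theorem f400 : Led Lsl_bt (LP (LK LD1_c0 LD2_c1 LD3_c48)) = (LP (LK LD1_c0 LD2_c1 LD3_c48)) :=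
  Lgr Lrot92 (Lpr_ct (f97 IH) (Lpr_gt (f98 IH) (Lpe (f37 IH) (Lpr_bt (f99 IH) (Lpr_gt (f92 IH) (Lpqs (f318 IH) (Lpr_ct (f311 IH) (Lpq (f318 IH) (Lpqs (f318 IH) (Lpe (f310 IH) (Lpr_cf (f77 IH) (Lpr_bt (f94 IH) (Lpr_gt (f96 IH) (Lpn (LP (LK LD1_c0 LD2_c1 LD3_c48))))))))))))))))
theorem f405 : Led Lsl_et (LP (LK LD1_c0 LD2_c1 LD3_c48)) = (LP (LK LD1_c0 LD2_c4 LD3_c5)) :=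
  Lre_e IH (LK LD1_c0 LD2_c1 LD3_c48) (LK LD1_c0 LD2_c4 LD3_c5) Lrfl Lrfl
theorem f406 : Led Lsl_bf (LP (LK LD1_c0 LD2_c4 LD3_c5)) = (LP (LK LD1_c0 LD2_c4 LD3_c5)) :=
  Lgr Lrot96 (Lpr_et (f404 IH) (Lpr_bt (f400 IH) (Lpr_et (f405 IH) (Lpn (LP (LK LD1_c0 LD2_c4 LD3_c5))))))
theorem f20613 : Led Lsl_gt (LP (LK LD1_c0 LD2_c4 LD3_c9)) = (LP (LK LD1_c0 LD2_c4 LD3_c5)) :=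
  Lgr Lrot164 (Lpe (f172 IH) (Lpe (f117 IH) (Lpr_gf (f10998 IH) (Lpr_cf (f3929 IH) (Lpe (f121 IH) (Lpe (f100 IH) (Lpr_ct (f182 IH) (Lpr_gf (f20598 IH) (Lpe (f408 IH) (Lpe (f406 IH) (Lpn (LP (LK LD1_c0 LD2_c4 LD3_c5)))))))))))))
theorem f101 : Led Lsl_ct (LP (LK LD1_c0 LD2_c1 LD3_c34)) = (LP (LK LD1_c0 LD2_c0 LD3_c35)) :=
  Lre_c IH (LK LD1_c0 LD2_c1 LD3_c34) (LK LD1_c0 LD2_c0 LD3_c35) Lrfl Lrfl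
theorem f7074 : Led Lsl_dt (LP (LK LD1_c0 LD2_c0 LD3_c35)) = (LP (LK LD1_c0 LD2_c1 LD3_c36)) :=
  Lre_d IH (LK LD1_c0 LD2_c0 LD3_c35) (LK LD1_c0 LD2_c1 LD3_c36) Lrfl Lrfl
theorem f7101 : Led Lsl_ct (LP (LK LD1_c0 LD2_c3 LD3_c43)) = (LP (LK LD1_c0 LD2_c1 LD3_c36)) :=
  Lre_c IH (LK LD1_c0 LD2_c3 LD3_c43) (LK LD1_c0 LD2_c1 LD3_c36) Lrfl Lrfl
theorem f10013 : Led Lsl_gt (LP (LK LD1_c0 LD2_c8 LD3_c4)) = (LP (LK LD1_c0 LD2_c3 LD3_c43)) :=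
  Lre_g IH (LK LD1_c0 LD2_c8 LD3_c4) (LK LD1_c0 LD2_c3 LD3_c43) Lrfl Lrfl
theorem f20940 : Led Lsl_cf (LP (LK LD1_c0 LD2_c8 LD3_c4)) = (LP (LK LD1_c0 LD2_c7 LD3_c30)) :=
  Lgr Lrot169 (Lpr_gt (f10013 IH) (Lpr_ct (f7101 IH) (Lpe (f7074 IH) (Lpe (f101 IH) (Lpr_gf (f20598 IH) (Lpe (f408 IH) (Lpe (f20613 IH) (Lpe (f7341 IH) (Lpr_gt (f20926 IH) (Lpn (LP (LK LD1_c0 LD2_c7 LD3_c30))))))))))))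
theorem f7099 : Led Lsl_ct (LP (LK LD1_c0 LD2_c1 LD3_c36)) = (LP (LK LD1_c0 LD2_c3 LD3_c43)) :=
  Lre_c IH (LK LD1_c0 LD2_c1 LD3_c36) (LK LD1_c0 LD2_c3 LD3_c43) Lrfl Lrfl
theorem f9932 : Led Lsl_bt (LP (LK LD1_c0 LD2_c1 LD3_c36)) = (LP (LK LD1_c0 LD2_c0 LD3_c53)) :=
  Lre_b IH (LK LD1_c0 LD2_c1 LD3_c36) (LK LD1_c0 LD2_c0 LD3_c53) Lrfl Lrfl
theorem f20942 : Led Lsl_bt (LP (LK LD1_c0 LD2_c0 LD3_c55)) = (LP (LK LD1_c0 LD2_c0 LD3_c55)) :=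
  Lgr Lrot92 (Lpr_ct (f5877 IH) (Lpr_gt (f10012 IH) (Lpr_cf (f12073 IH) (Lpr_bt (f9681 IH) (Lpr_gt (f20926 IH) (Lpe (f20940 IH) (Lpr_gt (f10013 IH) (Lpe (f7099 IH) (Lpr_bt (f9932 IH) (Lpe (f10010 IH) (Lpn (LP (LK LD1_c0 LD2_c0 LD3_c55)))))))))))))
theorem f7366 : Led Lsl_ct (LP (LK LD1_c0 LD2_c4 LD3_c11)) = (LP (LK LD1_c0 LD2_c9 LD3_c5)) :=
  Lre_c IH (LK LD1_c0 LD2_c4 LD3_c11) (LK LD1_c0 LD2_c9 LD3_c5) Lrfl Lrfl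
theorem f20952 : Led Lsl_gf (LP (LK LD1_c0 LD2_c9 LD3_c5)) = (LP (LK LD1_c0 LD2_c8 LD3_c7)) :=
  Lgr Lrot126 (Lpe (f7366 IH) (Lpe (f20008 IH) (Lpr_gt (f12611 IH) (Lpr_ct (f113 IH) (Lpr_gt (f11028 IH) (Lpe (f5877 IH) (Lpr_bt (f20942 IH) (Lpe (f10994 IH) (Lpe (f11024 IH) (Lpr_ct (f11027 IH) (Lpn (LP (LK LD1_c0 LD2_c8 LD3_c7)))))))))))))
theorem f7365 : Led Lsl_ct (LP (LK LD1_c0 LD2_c9 LD3_c5)) = (LP (LK LD1_c0 LD2_c4 LD3_c11)) :=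
  Lre_c IH (LK LD1_c0 LD2_c9 LD3_c5) (LK LD1_c0 LD2_c4 LD3_c11) Lrfl Lrfl
theorem f7169 : Led Lsl_gt (LP (LK LD1_c0 LD2_c1 LD3_c9)) = (LP (LK LD1_c0 LD2_c0 LD3_c39)) :=
  Lre_g IH (LK LD1_c0 LD2_c1 LD3_c9) (LK LD1_c0 LD2_c0 LD3_c39) Lrfl Lrfl
theorem f6979 : Led Lsl_dt (LP (LK LD1_c0 LD2_c1 LD3_c9)) = (LP (LK LD1_c0 LD2_c2 LD3_c49)) :=
  Lre_d IH (LK LD1_c0 LD2_c1 LD3_c9) (LK LD1_c0 LD2_c2 LD3_c49) Lrfl Lrfl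
theorem f20958 : Led Lsl_gt (LP (LK LD1_c0 LD2_c2 LD3_c49)) = (LP (LK LD1_c0 LD2_c3 LD3_c44)) :=
  Lgr Lrot9 (Lpe (f6979 IH) (Lpr_gt (f7169 IH) (Lpr_ct (f6725 IH) (Lpr_gt (f6733 IH) (Lpr_ct (f20192 IH) (Lpe (f7368 IH) (Lpe (f7365 IH) (Lpr_gf (f20952 IH) (Lpe (f11027 IH) (Lpn (LP (LK LD1_c0 LD2_c3 LD3_c44))))))))))))
theorem f6978 : Led Lsl_gt (LP (LK LD1_c0 LD2_c0 LD3_c26)) = (LP (LK LD1_c0 LD2_c1 LD3_c9)) :=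
  Lre_g IH (LK LD1_c0 LD2_c0 LD3_c26) (LK LD1_c0 LD2_c1 LD3_c9) Lrfl Lrfl
theorem f455 : Led Lsl_et (LP (LK LD1_c0 LD2_c0 LD3_c8)) = (LP (LK LD1_c0 LD2_c0 LD3_c26)) :=
  Lre_e IH (LK LD1_c0 LD2_c0 LD3_c8) (LK LD1_c0 LD2_c0 LD3_c26) Lrfl Lrfl
def v55 : LQ := Led Lsl_gf (LP (LK LD1_c0 LD2_c0 LD3_c25))
theorem f6976 : Led Lsl_gf (LP (LK LD1_c0 LD2_c0 LD3_c25)) = v55 :=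
  Lrfl
theorem f6977 : Led Lsl_gt v18 = v55 :=
  Lgr Lrot5 (Lpe (f1491 IH) (Lpr_at (f429 IH) (Lpr_gf (f6976 IH) (Lpn v55))))
theorem f7250 : v55 = (LP (LK LD1_c0 LD2_c0 LD3_c32)) :=
  Lefun (Lecon (f6977 IH) (f7223 IH)) (f93 IH)
theorem f160 : Led Lsl_bt (LP (LK LD1_c0 LD2_c0 LD3_c54)) = (LP (LK LD1_c0 LD2_c1 LD3_c37)) :=
  Lre_b IH (LK LD1_c0 LD2_c0 LD3_c54) (LK LD1_c0 LD2_c1 LD3_c37) Lrfl Lrfl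
theorem f173 : Led Lsl_bt (LP (LK LD1_c0 LD2_c1 LD3_c37)) = (LP (LK LD1_c0 LD2_c0 LD3_c54)) :=
  Lre_b IH (LK LD1_c0 LD2_c1 LD3_c37) (LK LD1_c0 LD2_c0 LD3_c54) Lrfl Lrfl
theorem f7388 : Led Lsl_et (LP (LK LD1_c0 LD2_c1 LD3_c37)) = (LP (LK LD1_c0 LD2_c1 LD3_c37)) :=
  Lgr Lrot74 (Lpe (f160 IH) (Lpr_ef (f7384 IH) (Lpe (f173 IH) (Lpn (LP (LK LD1_c0 LD2_c1 LD3_c37))))))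
theorem f20972 : Led Lsl_gf (LP (LK LD1_c0 LD2_c1 LD3_c27)) = (LP (LK LD1_c0 LD2_c1 LD3_c37)) :=
  Lgr Lrot141 (Lpe (f7068 IH) (Lpe (f7072 IH) (Lpq (f7250 IH) (Lpe (f6976 IH) (Lpe (f454 IH) (Lpr_et (f455 IH) (Lpr_gt (f6978 IH) (Lpr_dt (f6979 IH) (Lpr_gt (f20958 IH) (Lpe (f20078 IH) (Lpr_et (f7388 IH) (Lpn (LP (LK LD1_c0 LD2_c1 LD3_c37))))))))))))))
theorem f8236 : Led Lsl_at (LP (LK LD1_c0 LD2_c1 LD3_c29)) = (LP (LK LD1_c0 LD2_c1 LD3_c27)) :=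
  Lgr Lrot100 (Lpr_af (f8167 IH) (Lpn (LP (LK LD1_c0 LD2_c1 LD3_c27))))
theorem f181 : Led Lsl_gt (LP (LK LD1_c0 LD2_c2 LD3_c45)) = (LP (LK LD1_c0 LD2_c1 LD3_c37)) :=
  Lre_g IH (LK LD1_c0 LD2_c2 LD3_c45) (LK LD1_c0 LD2_c1 LD3_c37) Lrfl Lrfl
theorem f20975 : Led Lsl_ff (LP (LK LD1_c0 LD2_c1 LD3_c29)) = (LP (LK LD1_c0 LD2_c2 LD3_c45)) :=
  Lgr Lrot52 (Lpr_at (f8236 IH) (Lpr_gf (f20972 IH) (Lpe (f181 IH) (Lpn (LP (LK LD1_c0 LD2_c2 LD3_c45))))))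
theorem f26337 : Led Lsl_ff (LP (LK LD1_c0 LD2_c2 LD3_c45)) = (LP (LK LD1_c0 LD2_c1 LD3_c29)) :=
  Lgr Lrot3 (Lpe (f20975 IH) (Lpn (LP (LK LD1_c0 LD2_c1 LD3_c29))))
theorem f7013 : Led Lsl_ct (LP (LK LD1_c0 LD2_c1 LD3_c9)) = (LP (LK LD1_c0 LD2_c2 LD3_c48)) :=
  Lre_c IH (LK LD1_c0 LD2_c1 LD3_c9) (LK LD1_c0 LD2_c2 LD3_c48) Lrfl Lrfl
def v57 : LQ := Led Lsl_bt (LP (LK LD1_c0 LD2_c0 LD3_c26))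
theorem f6996 : Led Lsl_bt (LP (LK LD1_c0 LD2_c0 LD3_c26)) = v57 :=
  Lrfl
theorem f6998 : Led Lsl_bf (LP (LK LD1_c0 LD2_c0 LD3_c26)) = v57 :=
  Lgr Lrot24 (Lpr_bt (f6996 IH) (Lpn v57))
theorem f7002 : Led Lsl_ef v8 = v57 :=
  Lgr Lrot29 (Lpe (f451 IH) (Lpr_et (f455 IH) (Lpr_bt (f6996 IH) (Lpn v57))))
theorem f7008 : Led Lsl_et v8 = v57 :=
  Lgr Lrot87 (Lpr_ef (f7002 IH) (Lpn v57))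
theorem f7231 : v57 = (LP (LK LD1_c0 LD2_c0 LD3_c26)) :=
  Lefun (Lecon (f7008 IH) (f7209 IH).symm) (f455 IH)
theorem f7004 : Led Lsl_ct (LP (LK LD1_c0 LD2_c0 LD3_c26)) = (LP (LK LD1_c0 LD2_c1 LD3_c6)) :=
  Lre_c IH (LK LD1_c0 LD2_c0 LD3_c26) (LK LD1_c0 LD2_c1 LD3_c6) Lrfl Lrfl
theorem f12613 : Led Lsl_bt (LP (LK LD1_c0 LD2_c1 LD3_c54)) = (LP (LK LD1_c0 LD2_c0 LD3_c50)) :=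
  Lre_b IH (LK LD1_c0 LD2_c1 LD3_c54) (LK LD1_c0 LD2_c0 LD3_c50) Lrfl Lrfl
theorem f12616 : Led Lsl_ct (LP (LK LD1_c0 LD2_c1 LD3_c54)) = (LP (LK LD1_c0 LD2_c3 LD3_c5)) :=
  Lre_c IH (LK LD1_c0 LD2_c1 LD3_c54) (LK LD1_c0 LD2_c3 LD3_c5) Lrfl Lrfl
theorem f26019 : Led Lsl_gt (LP (LK LD1_c0 LD2_c2 LD3_c48)) = (LP (LK LD1_c0 LD2_c3 LD3_c5)) :=
  Lgr Lrot149 (Lpe (f7013 IH) (Lpe (f6978 IH) (Lpr_bf (f6998 IH) (Lpqs (f7231 IH) (Lpr_ct (f7004 IH) (Lpe (f7006 IH) (Lpe (f13595 IH) (Lpe (f20023 IH) (Lpr_gf (f12337 IH) (Lpe (f12613 IH) (Lpr_ct (f12616 IH) (Lpn (LP (LK LD1_c0 LD2_c3 LD3_c5))))))))))))))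
theorem f13604 : Led Lsl_ct (LP (LK LD1_c0 LD2_c2 LD3_c52)) = (LP (LK LD1_c0 LD2_c6 LD3_c13)) :=
  Lre_c IH (LK LD1_c0 LD2_c2 LD3_c52) (LK LD1_c0 LD2_c6 LD3_c13) Lrfl Lrfl
theorem f7321 : Led Lsl_dt (LP (LK LD1_c0 LD2_c4 LD3_c15)) = (LP (LK LD1_c0 LD2_c1 LD3_c54)) :=
  Lre_d IH (LK LD1_c0 LD2_c4 LD3_c15) (LK LD1_c0 LD2_c1 LD3_c54) Lrfl Lrfl
theorem f13452 : Led Lsl_ct (LP (LK LD1_c0 LD2_c9 LD3_c10)) = (LP (LK LD1_c0 LD2_c4 LD3_c15)) :=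
  Lre_c IH (LK LD1_c0 LD2_c9 LD3_c10) (LK LD1_c0 LD2_c4 LD3_c15) Lrfl Lrfl
theorem f26023 : Led Lsl_gt (LP (LK LD1_c0 LD2_c6 LD3_c13)) = (LP (LK LD1_c0 LD2_c9 LD3_c10)) :=
  Lgr Lrot150 (Lpe (f13604 IH) (Lpe (f1472 IH) (Lpe (f1462 IH) (Lpr_gt (f6978 IH) (Lpr_ct (f7013 IH) (Lpr_gt (f26019 IH) (Lpr_ct (f12614 IH) (Lpe (f7321 IH) (Lpe (f13452 IH) (Lpn (LP (LK LD1_c0 LD2_c9 LD3_c10))))))))))))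
theorem f26045 : Led Lsl_ct (LP (LK LD1_c0 LD2_c6 LD3_c13)) = (LP (LK LD1_c0 LD2_c2 LD3_c52)) :=
  Lre_c IH (LK LD1_c0 LD2_c6 LD3_c13) (LK LD1_c0 LD2_c2 LD3_c52) Lrfl Lrfl
theorem f7173 : Led Lsl_dt (LP (LK LD1_c0 LD2_c1 LD3_c45)) = (LP (LK LD1_c0 LD2_c0 LD3_c39)) :=
  Lre_d IH (LK LD1_c0 LD2_c1 LD3_c45) (LK LD1_c0 LD2_c0 LD3_c39) Lrfl Lrfl
theorem f7168 : Led Lsl_gt (LP (LK LD1_c0 LD2_c0 LD3_c39)) = (LP (LK LD1_c0 LD2_c1 LD3_c10)) :=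
  Lre_g IH (LK LD1_c0 LD2_c0 LD3_c39) (LK LD1_c0 LD2_c1 LD3_c10) Lrfl Lrfl
theorem f7182 : Led Lsl_dt (LP (LK LD1_c0 LD2_c1 LD3_c10)) = (LP (LK LD1_c0 LD2_c2 LD3_c51)) :=
  Lre_d IH (LK LD1_c0 LD2_c1 LD3_c10) (LK LD1_c0 LD2_c2 LD3_c51) Lrfl Lrfl
theorem f26046 : Led Lsl_ct (LP (LK LD1_c0 LD2_c2 LD3_c51)) = (LP (LK LD1_c0 LD2_c6 LD3_c11)) :=
  Lre_c IH (LK LD1_c0 LD2_c2 LD3_c51) (LK LD1_c0 LD2_c6 LD3_c11) Lrfl Lrfl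
theorem f26047 : Led Lsl_dt (LP (LK LD1_c0 LD2_c13 LD3_c34)) = (LP (LK LD1_c0 LD2_c6 LD3_c11)) :=
  Lre_d IH (LK LD1_c0 LD2_c13 LD3_c34) (LK LD1_c0 LD2_c6 LD3_c11) Lrfl Lrfl
theorem f26048 : Led Lsl_dt (LP (LK LD1_c0 LD2_c9 LD3_c10)) = (LP (LK LD1_c0 LD2_c20 LD3_c21)) :=
  Lre_d IH (LK LD1_c0 LD2_c9 LD3_c10) (LK LD1_c0 LD2_c20 LD3_c21) Lrfl Lrfl
theorem f26049 : Led Lsl_gf (LP (LK LD1_c0 LD2_c13 LD3_c34)) = (LP (LK LD1_c0 LD2_c20 LD3_c21)) :=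
  Lgr Lrot143 (Lpr_dt (f26047 IH) (Lpe (f26046 IH) (Lpe (f7182 IH) (Lpe (f7168 IH) (Lpe (f7173 IH) (Lpe (f7178 IH) (Lpe (f26045 IH) (Lpr_gt (f26023 IH) (Lpr_dt (f26048 IH) (Lpn (LP (LK LD1_c0 LD2_c20 LD3_c21))))))))))))
theorem f26251 : Led Lsl_ft (LP (LK LD1_c0 LD2_c20 LD3_c21)) = (LP (LK LD1_c0 LD2_c9 LD3_c9)) :=
  Lre_f IH (LK LD1_c0 LD2_c20 LD3_c21) (LK LD1_c0 LD2_c9 LD3_c9) Lrfl Lrfl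
theorem f26252 : Led Lsl_at (LP (LK LD1_c0 LD2_c9 LD3_c9)) = (LP (LK LD1_c0 LD2_c20 LD3_c1)) :=
  Lre_a IH (LK LD1_c0 LD2_c9 LD3_c9) (LK LD1_c0 LD2_c20 LD3_c1) Lrfl Lrfl
theorem f26253 : Led Lsl_gt (LP (LK LD1_c0 LD2_c13 LD3_c34)) = (LP (LK LD1_c0 LD2_c20 LD3_c1)) :=
  Lgr Lrot46 (Lpr_gf (f26049 IH) (Lpr_ft (f26251 IH) (Lpr_at (f26252 IH) (Lpn (LP (LK LD1_c0 LD2_c20 LD3_c1))))))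
theorem f26059 : Led Lsl_dt (LP (LK LD1_c0 LD2_c6 LD3_c11)) = (LP (LK LD1_c0 LD2_c13 LD3_c34)) :=
  Lre_d IH (LK LD1_c0 LD2_c6 LD3_c11) (LK LD1_c0 LD2_c13 LD3_c34) Lrfl Lrfl
theorem f9743 : Led Lsl_dt (LP (LK LD1_c0 LD2_c20 LD3_c1)) = (LP (LK LD1_c0 LD2_c8 LD3_c61)) :=
  Lre_d IH (LK LD1_c0 LD2_c20 LD3_c1) (LK LD1_c0 LD2_c8 LD3_c61) Lrfl Lrfl
theorem f20897 : Led Lsl_dt (LP (LK LD1_c0 LD2_c7 LD3_c30)) = (LP (LK LD1_c0 LD2_c3 LD3_c22)) :=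
  Lre_d IH (LK LD1_c0 LD2_c7 LD3_c30) (LK LD1_c0 LD2_c3 LD3_c22) Lrfl Lrfl
theorem f161 : Led Lsl_ct (LP (LK LD1_c0 LD2_c1 LD3_c37)) = (LP (LK LD1_c0 LD2_c3 LD3_c41)) :=
  Lre_c IH (LK LD1_c0 LD2_c1 LD3_c37) (LK LD1_c0 LD2_c3 LD3_c41) Lrfl Lrfl
theorem f11015 : Led Lsl_gt (LP (LK LD1_c0 LD2_c3 LD3_c41)) = (LP (LK LD1_c0 LD2_c3 LD3_c33)) :=
  Lgr Lrot65 (Lpe (f161 IH) (Lpr_bt (f173 IH) (Lpr_gf (f10998 IH) (Lpe (f5829 IH) (Lpe (f3929 IH) (Lpe (f121 IH) (Lpr_cf (f106 IH) (Lpe (f3957 IH) (Lpr_bf (f3839 IH) (Lpe (f3854 IH) (Lpn (LP (LK LD1_c0 LD2_c3 LD3_c33)))))))))))))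
theorem f8313 : Led Lsl_gt (LP (LK LD1_c0 LD2_c3 LD3_c24)) = (LP (LK LD1_c0 LD2_c5 LD3_c58)) :=
  Lre_g IH (LK LD1_c0 LD2_c3 LD3_c24) (LK LD1_c0 LD2_c5 LD3_c58) Lrfl Lrfl
theorem f7136 : Led Lsl_ct (LP (LK LD1_c0 LD2_c1 LD3_c12)) = (LP (LK LD1_c0 LD2_c2 LD3_c41)) :=
  Lre_c IH (LK LD1_c0 LD2_c1 LD3_c12) (LK LD1_c0 LD2_c2 LD3_c41) Lrfl Lrfl
theorem f7459 : Led Lsl_dt (LP (LK LD1_c0 LD2_c2 LD3_c55)) = (LP (LK LD1_c0 LD2_c1 LD3_c12)) :=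
  Lre_d IH (LK LD1_c0 LD2_c2 LD3_c55) (LK LD1_c0 LD2_c1 LD3_c12) Lrfl Lrfl
theorem f7480 : Led Lsl_gt (LP (LK LD1_c0 LD2_c1 LD3_c42)) = (LP (LK LD1_c0 LD2_c2 LD3_c55)) :=
  Lre_g IH (LK LD1_c0 LD2_c1 LD3_c42) (LK LD1_c0 LD2_c2 LD3_c55) Lrfl Lrfl
theorem f20979 : Led Lsl_dt (LP (LK LD1_c0 LD2_c1 LD3_c27)) = (LP (LK LD1_c0 LD2_c1 LD3_c42)) :=
  Lgr Lrot57 (Lpr_gf (f20972 IH) (Lpe (f174 IH) (Lpr_gt (f11015 IH) (Lpe (f8305 IH) (Lpr_gt (f8313 IH) (Lpr_dt (f8314 IH) (Lpe (f7136 IH) (Lpe (f7459 IH) (Lpe (f7480 IH) (Lpn (LP (LK LD1_c0 LD2_c1 LD3_c42))))))))))))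
theorem f7458 : Led Lsl_et (LP (LK LD1_c0 LD2_c6 LD3_c21)) = (LP (LK LD1_c0 LD2_c2 LD3_c55)) :=
  Lre_e IH (LK LD1_c0 LD2_c6 LD3_c21) (LK LD1_c0 LD2_c2 LD3_c55) Lrfl Lrfl
theorem f7460 : Led Lsl_et (LP (LK LD1_c0 LD2_c2 LD3_c55)) = (LP (LK LD1_c0 LD2_c6 LD3_c21)) :=
  Lre_e IH (LK LD1_c0 LD2_c2 LD3_c55) (LK LD1_c0 LD2_c6 LD3_c21) Lrfl Lrfl
theorem f7461 : Led Lsl_et (LP (LK LD1_c0 LD2_c1 LD3_c12)) = (LP (LK LD1_c0 LD2_c1 LD3_c12)) :=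
  Lgr Lrot71 (Lpe (f7459 IH) (Lpe (f7458 IH) (Lpr_df (f7429 IH) (Lpe (f7460 IH) (Lpe (f7133 IH) (Lpn (LP (LK LD1_c0 LD2_c1 LD3_c12))))))))
theorem f7146 : Led Lsl_gt (LP (LK LD1_c0 LD2_c1 LD3_c12)) = (LP (LK LD1_c0 LD2_c0 LD3_c37)) :=
  Lre_g IH (LK LD1_c0 LD2_c1 LD3_c12) (LK LD1_c0 LD2_c0 LD3_c37) Lrfl Lrfl
def v74 : LQ := Led Lsl_et (LP (LK LD1_c0 LD2_c0 LD3_c37))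
theorem f7161 : Led Lsl_et (LP (LK LD1_c0 LD2_c0 LD3_c37)) = v74 :=
  Lrfl
theorem f7163 : Led Lsl_ef (LP (LK LD1_c0 LD2_c0 LD3_c37)) = v74 :=
  Lgr Lrot88 (Lpr_et (f7161 IH) (Lpn v74))
theorem f20991 : v74 = (LP (LK LD1_c0 LD2_c1 LD3_c9)) :=
  (Llr Lrot17 (Lpe (f7163 IH) (Lpe (f7146 IH) (Lpe (f7461 IH) (Lpr_dt (f7133 IH) (Lpe (f7480 IH) (Lpe (f20979 IH) (Lpr_gf (f20972 IH) (Lpe (f7388 IH) (Lpr_dt (f20078 IH) (Lpe (f20958 IH) (Lpe (f6979 IH) (Lpn (LP (LK LD1_c0 LD2_c1 LD3_c9))))))))))))))).symm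
theorem f7122 : Led Lsl_dt (LP (LK LD1_c0 LD2_c0 LD3_c37)) = (LP (LK LD1_c0 LD2_c1 LD3_c41)) :=
  Lre_d IH (LK LD1_c0 LD2_c0 LD3_c37) (LK LD1_c0 LD2_c1 LD3_c41) Lrfl Lrfl
theorem f1489 : Led Lsl_et (LP (LK LD1_c0 LD2_c0 LD3_c35)) = (LP (LK LD1_c0 LD2_c0 LD3_c10)) :=
  Lre_e IH (LK LD1_c0 LD2_c0 LD3_c35) (LK LD1_c0 LD2_c0 LD3_c10) Lrfl Lrfl
theorem f20999 : Led Lsl_gt (LP (LK LD1_c0 LD2_c1 LD3_c41)) = (LP (LK LD1_c0 LD2_c1 LD3_c36)) :=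
  Lgr Lrot112 (Lpe (f7122 IH) (Lpr_et (f7161 IH) (Lpqs (f20991 IH) (Lpe (f6978 IH) (Lpe (f455 IH) (Lpr_dt (f454 IH) (Lpr_gf (f6976 IH) (Lpqs (f7250 IH) (Lpr_df (f7072 IH) (Lpe (f93 IH) (Lpe (f1489 IH) (Lpr_dt (f7074 IH) (Lpn (LP (LK LD1_c0 LD2_c1 LD3_c36)))))))))))))))
theorem f7137 : Led Lsl_gt (LP (LK LD1_c0 LD2_c2 LD3_c41)) = (LP (LK LD1_c0 LD2_c1 LD3_c23)) :=
  Lre_g IH (LK LD1_c0 LD2_c2 LD3_c41) (LK LD1_c0 LD2_c1 LD3_c23) Lrfl Lrfl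
theorem f16655 : Led Lsl_dt (LP (LK LD1_c0 LD2_c1 LD3_c23)) = (LP (LK LD1_c0 LD2_c3 LD3_c23)) :=
  Lre_d IH (LK LD1_c0 LD2_c1 LD3_c23) (LK LD1_c0 LD2_c3 LD3_c23) Lrfl Lrfl
theorem f7107 : Led Lsl_dt (LP (LK LD1_c0 LD2_c1 LD3_c36)) = (LP (LK LD1_c0 LD2_c0 LD3_c35)) :=
  Lre_d IH (LK LD1_c0 LD2_c1 LD3_c36) (LK LD1_c0 LD2_c0 LD3_c35) Lrfl Lrfl
theorem f21001 : Led Lsl_gt (LP (LK LD1_c0 LD2_c3 LD3_c23)) = (LP (LK LD1_c0 LD2_c3 LD3_c40)) :=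
  Lgr Lrot49 (Lpe (f16655 IH) (Lpe (f7137 IH) (Lpe (f7136 IH) (Lpr_gt (f7146 IH) (Lpr_dt (f7122 IH) (Lpr_gt (f20999 IH) (Lpr_dt (f7107 IH) (Lpe (f101 IH) (Lpe (f7104 IH) (Lpn (LP (LK LD1_c0 LD2_c3 LD3_c40))))))))))))
theorem f8321 : Led Lsl_dt (LP (LK LD1_c0 LD2_c2 LD3_c41)) = (LP (LK LD1_c0 LD2_c5 LD3_c58)) :=
  Lre_d IH (LK LD1_c0 LD2_c2 LD3_c41) (LK LD1_c0 LD2_c5 LD3_c58) Lrfl Lrfl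
theorem f21189 : Led Lsl_ef (LP (LK LD1_c0 LD2_c2 LD3_c41)) = (LP (LK LD1_c0 LD2_c2 LD3_c41)) :=
  Lgr Lrot167 (Lpr_gt (f7137 IH) (Lpr_dt (f16655 IH) (Lpr_gt (f21001 IH) (Lpe (f7102 IH) (Lpr_et (f7092 IH) (Lpr_gt (f211 IH) (Lpe (f3858 IH) (Lpe (f8305 IH) (Lpr_gt (f8313 IH) (Lpe (f8321 IH) (Lpn (LP (LK LD1_c0 LD2_c2 LD3_c41)))))))))))))
theorem f7005 : Led Lsl_gt (LP (LK LD1_c0 LD2_c1 LD3_c6)) = (LP (LK LD1_c0 LD2_c2 LD3_c38)) :=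
  Lre_g IH (LK LD1_c0 LD2_c1 LD3_c6) (LK LD1_c0 LD2_c2 LD3_c38) Lrfl Lrfl
theorem f16643 : Led Lsl_dt (LP (LK LD1_c0 LD2_c2 LD3_c38)) = (LP (LK LD1_c0 LD2_c5 LD3_c53)) :=
  Lre_d IH (LK LD1_c0 LD2_c2 LD3_c38) (LK LD1_c0 LD2_c5 LD3_c53) Lrfl Lrfl
theorem f20083 : Led Lsl_dt (LP (LK LD1_c0 LD2_c3 LD3_c44)) = (LP (LK LD1_c0 LD2_c1 LD3_c37)) :=
  Lre_d IH (LK LD1_c0 LD2_c3 LD3_c44) (LK LD1_c0 LD2_c1 LD3_c37) Lrfl Lrfl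
theorem f20964 : Led Lsl_gt (LP (LK LD1_c0 LD2_c5 LD3_c53)) = (LP (LK LD1_c0 LD2_c8 LD3_c0)) :=
  Lgr Lrot49 (Lpe (f16643 IH) (Lpe (f7005 IH) (Lpe (f7004 IH) (Lpr_gt (f6978 IH) (Lpr_dt (f6979 IH) (Lpr_gt (f20958 IH) (Lpr_dt (f20083 IH) (Lpe (f174 IH) (Lpe (f9532 IH) (Lpn (LP (LK LD1_c0 LD2_c8 LD3_c0))))))))))))
theorem f21196 : Led Lsl_ef (LP (LK LD1_c0 LD2_c1 LD3_c23)) = (LP (LK LD1_c0 LD2_c2 LD3_c38)) :=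
  Lgr Lrot17 (Lpe (f7137 IH) (Lpr_ef (f21189 IH) (Lpr_dt (f8321 IH) (Lpe (f8313 IH) (Lpr_df (f8305 IH) (Lpe (f11015 IH) (Lpr_ef (f9533 IH) (Lpr_dt (f9530 IH) (Lpe (f20964 IH) (Lpe (f16643 IH) (Lpn (LP (LK LD1_c0 LD2_c2 LD3_c38)))))))))))))
theorem f21204 : Led Lsl_gt (LP (LK LD1_c0 LD2_c6 LD3_c2)) = (LP (LK LD1_c0 LD2_c5 LD3_c53)) :=
  Lgr Lrot112 (Lpe (f8323 IH) (Lpr_et (f8322 IH) (Lpr_gf (f8142 IH) (Lpe (f3858 IH) (Lpe (f8305 IH) (Lpe (f2925 IH) (Lpe (f247 IH) (Lpe (f5883 IH) (Lpr_ef (f21196 IH) (Lpr_dt (f16643 IH) (Lpn (LP (LK LD1_c0 LD2_c5 LD3_c53)))))))))))))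
theorem f20046 : Led Lsl_dt (LP (LK LD1_c0 LD2_c5 LD3_c53)) = (LP (LK LD1_c0 LD2_c2 LD3_c38)) :=
  Lre_d IH (LK LD1_c0 LD2_c5 LD3_c53) (LK LD1_c0 LD2_c2 LD3_c38) Lrfl Lrfl
theorem f21210 : Led Lsl_gf (LP (LK LD1_c0 LD2_c2 LD3_c44)) = (LP (LK LD1_c0 LD2_c3 LD3_c33)) :=
  Lgr Lrot144 (Lpr_dt (f8323 IH) (Lpr_gt (f21204 IH) (Lpr_dt (f20046 IH) (Lpr_cf (f20040 IH) (Lpe (f7376 IH) (Lpr_gf (f9682 IH) (Lpe (f196 IH) (Lpe (f9642 IH) (Lpe (f3852 IH) (Lpn (LP (LK LD1_c0 LD2_c3 LD3_c33))))))))))))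
theorem f21206 : Led Lsl_ct (LP (LK LD1_c0 LD2_c6 LD3_c2)) = (LP (LK LD1_c0 LD2_c13 LD3_c16)) :=
  Lre_c IH (LK LD1_c0 LD2_c6 LD3_c2) (LK LD1_c0 LD2_c13 LD3_c16) Lrfl Lrfl
theorem f22444 : Led Lsl_dt (LP (LK LD1_c0 LD2_c29 LD3_c58)) = (LP (LK LD1_c0 LD2_c13 LD3_c16)) :=
  Lre_d IH (LK LD1_c0 LD2_c29 LD3_c58) (LK LD1_c0 LD2_c13 LD3_c16) Lrfl Lrfl
theorem f8330 : Led Lsl_ct (LP (LK LD1_c0 LD2_c3 LD3_c26)) = (LP (LK LD1_c0 LD2_c1 LD3_c24)) :=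
  Lre_c IH (LK LD1_c0 LD2_c3 LD3_c26) (LK LD1_c0 LD2_c1 LD3_c24) Lrfl Lrfl
theorem f8327 : Led Lsl_gt (LP (LK LD1_c0 LD2_c3 LD3_c26)) = (LP (LK LD1_c0 LD2_c7 LD3_c37)) :=
  Lre_g IH (LK LD1_c0 LD2_c3 LD3_c26) (LK LD1_c0 LD2_c7 LD3_c37) Lrfl Lrfl
theorem f8328 : Led Lsl_dt (LP (LK LD1_c0 LD2_c7 LD3_c37)) = (LP (LK LD1_c0 LD2_c17 LD3_c6)) :=
  Lre_d IH (LK LD1_c0 LD2_c7 LD3_c37) (LK LD1_c0 LD2_c17 LD3_c6) Lrfl Lrfl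
theorem f22445 : Led Lsl_gf (LP (LK LD1_c0 LD2_c29 LD3_c58)) = (LP (LK LD1_c0 LD2_c17 LD3_c6)) :=
  Lgr Lrot143 (Lpr_dt (f22444 IH) (Lpe (f21206 IH) (Lpe (f8323 IH) (Lpr_gf (f21210 IH) (Lpe (f8309 IH) (Lpe (f2925 IH) (Lpe (f8330 IH) (Lpr_gt (f8327 IH) (Lpr_dt (f8328 IH) (Lpn (LP (LK LD1_c0 LD2_c17 LD3_c6))))))))))))
theorem f22449 : Led Lsl_at (LP (LK LD1_c0 LD2_c17 LD3_c50)) = (LP (LK LD1_c0 LD2_c29 LD3_c58)) :=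
  Lre_a IH (LK LD1_c0 LD2_c17 LD3_c50) (LK LD1_c0 LD2_c29 LD3_c58) Lrfl Lrfl
theorem f22450 : Led Lsl_ft (LP (LK LD1_c0 LD2_c30 LD3_c1)) = (LP (LK LD1_c0 LD2_c17 LD3_c50)) :=
  Lre_f IH (LK LD1_c0 LD2_c30 LD3_c1) (LK LD1_c0 LD2_c17 LD3_c50) Lrfl Lrfl
theorem f22451 : Led Lsl_gt (LP (LK LD1_c0 LD2_c30 LD3_c1)) = (LP (LK LD1_c0 LD2_c17 LD3_c6)) :=
  Lgr Lrot5 (Lpr_ft (f22450 IH) (Lpr_at (f22449 IH) (Lpr_gf (f22445 IH) (Lpn (LP (LK LD1_c0 LD2_c17 LD3_c6))))))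
theorem f22826 : Led Lsl_ct (LP (LK LD1_c0 LD2_c30 LD3_c1)) = (LP (LK LD1_c0 LD2_c13 LD3_c18)) :=
  Lre_c IH (LK LD1_c0 LD2_c30 LD3_c1) (LK LD1_c0 LD2_c13 LD3_c18) Lrfl Lrfl
theorem f22459 : Led Lsl_dt (LP (LK LD1_c0 LD2_c17 LD3_c6)) = (LP (LK LD1_c0 LD2_c7 LD3_c37)) :=
  Lre_d IH (LK LD1_c0 LD2_c17 LD3_c6) (LK LD1_c0 LD2_c7 LD3_c37) Lrfl Lrfl
theorem f22453 : Led Lsl_gt (LP (LK LD1_c0 LD2_c7 LD3_c37)) = (LP (LK LD1_c0 LD2_c13 LD3_c4)) :=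
  Lre_g IH (LK LD1_c0 LD2_c7 LD3_c37) (LK LD1_c0 LD2_c13 LD3_c4) Lrfl Lrfl
theorem f22827 : Led Lsl_dt (LP (LK LD1_c0 LD2_c13 LD3_c4)) = (LP (LK LD1_c0 LD2_c8 LD3_c55)) :=
  Lre_d IH (LK LD1_c0 LD2_c13 LD3_c4) (LK LD1_c0 LD2_c8 LD3_c55) Lrfl Lrfl
theorem f22828 : Led Lsl_ct (LP (LK LD1_c0 LD2_c3 LD3_c61)) = (LP (LK LD1_c0 LD2_c8 LD3_c55)) :=
  Lre_c IH (LK LD1_c0 LD2_c3 LD3_c61) (LK LD1_c0 LD2_c8 LD3_c55) Lrfl Lrfl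
theorem f22829 : Led Lsl_dt (LP (LK LD1_c0 LD2_c1 LD3_c44)) = (LP (LK LD1_c0 LD2_c3 LD3_c61)) :=
  Lre_d IH (LK LD1_c0 LD2_c1 LD3_c44) (LK LD1_c0 LD2_c3 LD3_c61) Lrfl Lrfl
theorem f368 : Led Lsl_gt (LP (LK LD1_c0 LD2_c3 LD3_c59)) = (LP (LK LD1_c0 LD2_c1 LD3_c44)) :=
  Lre_g IH (LK LD1_c0 LD2_c3 LD3_c59) (LK LD1_c0 LD2_c1 LD3_c44) Lrfl Lrfl
theorem f22830 : Led Lsl_dt (LP (LK LD1_c0 LD2_c8 LD3_c46)) = (LP (LK LD1_c0 LD2_c3 LD3_c59)) :=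
  Lre_d IH (LK LD1_c0 LD2_c8 LD3_c46) (LK LD1_c0 LD2_c3 LD3_c59) Lrfl Lrfl
theorem f22831 : Led Lsl_gt (LP (LK LD1_c0 LD2_c13 LD3_c18)) = (LP (LK LD1_c0 LD2_c8 LD3_c46)) :=
  Lgr Lrot94 (Lpe (f22826 IH) (Lpr_gt (f22451 IH) (Lpr_dt (f22459 IH) (Lpr_gt (f22453 IH) (Lpr_dt (f22827 IH) (Lpe (f22828 IH) (Lpe (f22829 IH) (Lpe (f368 IH) (Lpe (f22830 IH) (Lpn (LP (LK LD1_c0 LD2_c8 LD3_c46))))))))))))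
theorem f23176 : Led Lsl_et (LP (LK LD1_c0 LD2_c30 LD3_c2)) = (LP (LK LD1_c0 LD2_c13 LD3_c18)) :=
  Lre_e IH (LK LD1_c0 LD2_c30 LD3_c2) (LK LD1_c0 LD2_c13 LD3_c18) Lrfl Lrfl
theorem f23177 : Led Lsl_dt (LP (LK LD1_c0 LD2_c30 LD3_c2)) = (LP (LK LD1_c0 LD2_c13 LD3_c54)) :=
  Lre_d IH (LK LD1_c0 LD2_c30 LD3_c2) (LK LD1_c0 LD2_c13 LD3_c54) Lrfl Lrfl
theorem f22865 : Led Lsl_gt (LP (LK LD1_c0 LD2_c31 LD3_c19)) = (LP (LK LD1_c0 LD2_c13 LD3_c54)) :=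
  Lre_g IH (LK LD1_c0 LD2_c31 LD3_c19) (LK LD1_c0 LD2_c13 LD3_c54) Lrfl Lrfl
theorem f349 : Led Lsl_dt (LP (LK LD1_c0 LD2_c3 LD3_c61)) = (LP (LK LD1_c0 LD2_c1 LD3_c44)) :=
  Lre_d IH (LK LD1_c0 LD2_c3 LD3_c61) (LK LD1_c0 LD2_c1 LD3_c44) Lrfl Lrfl
theorem f23178 : Led Lsl_et (LP (LK LD1_c0 LD2_c3 LD3_c61)) = (LP (LK LD1_c0 LD2_c8 LD3_c56)) :=
  Lre_e IH (LK LD1_c0 LD2_c3 LD3_c61) (LK LD1_c0 LD2_c8 LD3_c56) Lrfl Lrfl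
theorem f23179 : Led Lsl_gt (LP (LK LD1_c0 LD2_c8 LD3_c56)) = (LP (LK LD1_c0 LD2_c19 LD3_c55)) :=
  Lre_g IH (LK LD1_c0 LD2_c8 LD3_c56) (LK LD1_c0 LD2_c19 LD3_c55) Lrfl Lrfl
theorem f23180 : Led Lsl_et (LP (LK LD1_c0 LD2_c44 LD3_c55)) = (LP (LK LD1_c0 LD2_c19 LD3_c55)) :=
  Lre_e IH (LK LD1_c0 LD2_c44 LD3_c55) (LK LD1_c0 LD2_c19 LD3_c55) Lrfl Lrfl
theorem f23181 : Led Lsl_df (LP (LK LD1_c0 LD2_c31 LD3_c19)) = (LP (LK LD1_c0 LD2_c44 LD3_c55)) :=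
  Lgr Lrot170 (Lpr_gt (f22865 IH) (Lpe (f23177 IH) (Lpr_et (f23176 IH) (Lpr_gt (f22831 IH) (Lpr_dt (f22830 IH) (Lpr_gt (f368 IH) (Lpe (f349 IH) (Lpr_et (f23178 IH) (Lpr_gt (f23179 IH) (Lpe (f23180 IH) (Lpn (LP (LK LD1_c0 LD2_c44 LD3_c55)))))))))))))
theorem f23214 : Led Lsl_gt (LP (LK LD1_c0 LD2_c19 LD3_c57)) = (LP (LK LD1_c0 LD2_c31 LD3_c19)) :=
  Lre_g IH (LK LD1_c0 LD2_c19 LD3_c57) (LK LD1_c0 LD2_c31 LD3_c19) Lrfl Lrfl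
theorem f23215 : Led Lsl_dt (LP (LK LD1_c0 LD2_c40 LD3_c27)) = (LP (LK LD1_c0 LD2_c19 LD3_c57)) :=
  Lre_d IH (LK LD1_c0 LD2_c40 LD3_c27) (LK LD1_c0 LD2_c19 LD3_c57) Lrfl Lrfl
theorem f23216 : Led Lsl_gt (LP (LK LD1_c1 LD2_c5 LD3_c42)) = (LP (LK LD1_c0 LD2_c40 LD3_c27)) :=
  Lre_g IH (LK LD1_c1 LD2_c5 LD3_c42) (LK LD1_c0 LD2_c40 LD3_c27) Lrfl Lrfl
theorem f23217 : Led Lsl_et (LP (LK LD1_c2 LD2_c17 LD3_c37)) = (LP (LK LD1_c1 LD2_c5 LD3_c42)) :=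
  Lre_e IH (LK LD1_c2 LD2_c17 LD3_c37) (LK LD1_c1 LD2_c5 LD3_c42) Lrfl Lrfl
theorem f23218 : Led Lsl_gt (LP (LK LD1_c0 LD2_c19 LD3_c55)) = (LP (LK LD1_c0 LD2_c31 LD3_c20)) :=
  Lre_g IH (LK LD1_c0 LD2_c19 LD3_c55) (LK LD1_c0 LD2_c31 LD3_c20) Lrfl Lrfl
theorem f23219 : Led Lsl_et (LP (LK LD1_c1 LD2_c8 LD3_c31)) = (LP (LK LD1_c0 LD2_c31 LD3_c20)) :=
  Lre_e IH (LK LD1_c1 LD2_c8 LD3_c31) (LK LD1_c0 LD2_c31 LD3_c20) Lrfl Lrfl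
theorem f23220 : Led Lsl_dt (LP (LK LD1_c1 LD2_c8 LD3_c31)) = (LP (LK LD1_c2 LD2_c22 LD3_c49)) :=
  Lre_d IH (LK LD1_c1 LD2_c8 LD3_c31) (LK LD1_c2 LD2_c22 LD3_c49) Lrfl Lrfl
theorem f23221 : Led Lsl_gt (LP (LK LD1_c2 LD2_c22 LD3_c49)) = (LP (LK LD1_c1 LD2_c37 LD3_c21)) :=
  Lre_g IH (LK LD1_c2 LD2_c22 LD3_c49) (LK LD1_c1 LD2_c37 LD3_c21) Lrfl Lrfl
theorem f23222 : Led Lsl_dt (LP (LK LD1_c2 LD2_c17 LD3_c37)) = (LP (LK LD1_c1 LD2_c37 LD3_c21)) :=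
  Lgr Lrot37 (Lpr_et (f23217 IH) (Lpr_gt (f23216 IH) (Lpr_dt (f23215 IH) (Lpr_gt (f23214 IH) (Lpr_df (f23181 IH) (Lpr_et (f23180 IH) (Lpr_gt (f23218 IH) (Lpe (f23219 IH) (Lpr_dt (f23220 IH) (Lpr_gt (f23221 IH) (Lpn (LP (LK LD1_c1 LD2_c37 LD3_c21)))))))))))))
theorem f23263 : Led Lsl_gt (LP (LK LD1_c0 LD2_c30 LD3_c2)) = (LP (LK LD1_c1 LD2_c5 LD3_c42)) :=
  Lre_g IH (LK LD1_c0 LD2_c30 LD3_c2) (LK LD1_c1 LD2_c5 LD3_c42) Lrfl Lrfl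
theorem f23264 : Led Lsl_et (LP (LK LD1_c0 LD2_c13 LD3_c18)) = (LP (LK LD1_c0 LD2_c30 LD3_c2)) :=
  Lre_e IH (LK LD1_c0 LD2_c13 LD3_c18) (LK LD1_c0 LD2_c30 LD3_c2) Lrfl Lrfl
theorem f13632 : Led Lsl_dt (LP (LK LD1_c0 LD2_c13 LD3_c18)) = (LP (LK LD1_c0 LD2_c6 LD3_c5)) :=
  Lre_d IH (LK LD1_c0 LD2_c13 LD3_c18) (LK LD1_c0 LD2_c6 LD3_c5) Lrfl Lrfl
theorem f20954 : Led Lsl_ft (LP (LK LD1_c0 LD2_c8 LD3_c7)) = (LP (LK LD1_c0 LD2_c3 LD3_c43)) :=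
  Lre_f IH (LK LD1_c0 LD2_c8 LD3_c7) (LK LD1_c0 LD2_c3 LD3_c43) Lrfl Lrfl
theorem f20955 : Led Lsl_at (LP (LK LD1_c0 LD2_c3 LD3_c43)) = (LP (LK LD1_c0 LD2_c6 LD3_c5)) :=
  Lre_a IH (LK LD1_c0 LD2_c3 LD3_c43) (LK LD1_c0 LD2_c6 LD3_c5) Lrfl Lrfl
theorem f20956 : Led Lsl_gt (LP (LK LD1_c0 LD2_c9 LD3_c5)) = (LP (LK LD1_c0 LD2_c6 LD3_c5)) :=
  Lgr Lrot46 (Lpr_gf (f20952 IH) (Lpr_ft (f20954 IH) (Lpr_at (f20955 IH) (Lpn (LP (LK LD1_c0 LD2_c6 LD3_c5))))))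
theorem f23242 : Led Lsl_gt (LP (LK LD1_c1 LD2_c37 LD3_c21)) = (LP (LK LD1_c0 LD2_c45 LD3_c1)) :=
  Lre_g IH (LK LD1_c1 LD2_c37 LD3_c21) (LK LD1_c0 LD2_c45 LD3_c1) Lrfl Lrfl
theorem f23257 : Led Lsl_dt (LP (LK LD1_c0 LD2_c19 LD3_c58)) = (LP (LK LD1_c0 LD2_c45 LD3_c1)) :=
  Lre_d IH (LK LD1_c0 LD2_c19 LD3_c58) (LK LD1_c0 LD2_c45 LD3_c1) Lrfl Lrfl
theorem f23258 : Led Lsl_et (LP (LK LD1_c0 LD2_c19 LD3_c58)) = (LP (LK LD1_c0 LD2_c8 LD3_c57)) :=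
  Lre_e IH (LK LD1_c0 LD2_c19 LD3_c58) (LK LD1_c0 LD2_c8 LD3_c57) Lrfl Lrfl
theorem f23259 : Led Lsl_gt (LP (LK LD1_c0 LD2_c8 LD3_c57)) = (LP (LK LD1_c0 LD2_c13 LD3_c52)) :=
  Lre_g IH (LK LD1_c0 LD2_c8 LD3_c57) (LK LD1_c0 LD2_c13 LD3_c52) Lrfl Lrfl
theorem f23265 : Led Lsl_df (LP (LK LD1_c0 LD2_c9 LD3_c5)) = (LP (LK LD1_c0 LD2_c13 LD3_c52)) :=
  Lgr Lrot135 (Lpr_gt (f20956 IH) (Lpe (f13632 IH) (Lpr_et (f23264 IH) (Lpr_gt (f23263 IH) (Lpe (f23217 IH) (Lpr_dt (f23222 IH) (Lpr_gt (f23242 IH) (Lpe (f23257 IH) (Lpr_et (f23258 IH) (Lpr_gt (f23259 IH) (Lpn (LP (LK LD1_c0 LD2_c13 LD3_c52)))))))))))))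
theorem f23010 : Led Lsl_dt (LP (LK LD1_c0 LD2_c4 LD3_c0)) = (LP (LK LD1_c0 LD2_c8 LD3_c57)) :=
  Lre_d IH (LK LD1_c0 LD2_c4 LD3_c0) (LK LD1_c0 LD2_c8 LD3_c57) Lrfl Lrfl
theorem f20048 : Led Lsl_gt (LP (LK LD1_c0 LD2_c6 LD3_c16)) = (LP (LK LD1_c0 LD2_c4 LD3_c0)) :=
  Lre_g IH (LK LD1_c0 LD2_c6 LD3_c16) (LK LD1_c0 LD2_c4 LD3_c0) Lrfl Lrfl
theorem f23272 : Led Lsl_cf (LP (LK LD1_c0 LD2_c4 LD3_c12)) = (LP (LK LD1_c0 LD2_c6 LD3_c16)) :=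
  Lgr Lrot166 (Lpr_gt (f7306 IH) (Lpr_dt (f7300 IH) (Lpr_gt (f7304 IH) (Lpr_dt (f7305 IH) (Lpr_ct (f7366 IH) (Lpr_df (f23265 IH) (Lpe (f23259 IH) (Lpe (f23010 IH) (Lpe (f20048 IH) (Lpn (LP (LK LD1_c0 LD2_c6 LD3_c16))))))))))))
theorem f13456 : Led Lsl_cf (LP (LK LD1_c0 LD2_c9 LD3_c0)) = (LP (LK LD1_c0 LD2_c8 LD3_c34)) :=
  Lgr Lrot11 (Lpr_ct (f13450 IH) (Lpn (LP (LK LD1_c0 LD2_c8 LD3_c34))))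
theorem f13455 : Led Lsl_bt (LP (LK LD1_c0 LD2_c8 LD3_c34)) = (LP (LK LD1_c0 LD2_c19 LD3_c2)) :=
  Lre_b IH (LK LD1_c0 LD2_c8 LD3_c34) (LK LD1_c0 LD2_c19 LD3_c2) Lrfl Lrfl
theorem f13460 : Led Lsl_gt (LP (LK LD1_c0 LD2_c19 LD3_c2)) = (LP (LK LD1_c0 LD2_c42 LD3_c45)) :=
  Lre_g IH (LK LD1_c0 LD2_c19 LD3_c2) (LK LD1_c0 LD2_c42 LD3_c45) Lrfl Lrfl
theorem f13620 : Led Lsl_gt (LP (LK LD1_c0 LD2_c2 LD3_c54)) = (LP (LK LD1_c0 LD2_c6 LD3_c16)) :=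
  Lre_g IH (LK LD1_c0 LD2_c2 LD3_c54) (LK LD1_c0 LD2_c6 LD3_c16) Lrfl Lrfl
theorem f13606 : Led Lsl_bt (LP (LK LD1_c0 LD2_c6 LD3_c18)) = (LP (LK LD1_c0 LD2_c2 LD3_c54)) :=
  Lre_b IH (LK LD1_c0 LD2_c6 LD3_c18) (LK LD1_c0 LD2_c2 LD3_c54) Lrfl Lrfl
theorem f13605 : Led Lsl_bt (LP (LK LD1_c0 LD2_c2 LD3_c54)) = (LP (LK LD1_c0 LD2_c6 LD3_c18)) :=
  Lre_b IH (LK LD1_c0 LD2_c2 LD3_c54) (LK LD1_c0 LD2_c6 LD3_c18) Lrfl Lrfl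
theorem f13607 : Led Lsl_ct (LP (LK LD1_c0 LD2_c6 LD3_c18)) = (LP (LK LD1_c0 LD2_c6 LD3_c18)) :=
  Lgr Lrot83 (Lpe (f13605 IH) (Lpe (f13601 IH) (Lpr_bf (f13602 IH) (Lpe (f13594 IH) (Lpe (f13606 IH) (Lpn (LP (LK LD1_c0 LD2_c6 LD3_c18))))))))
theorem f23306 : Led Lsl_gt (LP (LK LD1_c0 LD2_c13 LD3_c47)) = (LP (LK LD1_c0 LD2_c6 LD3_c18)) :=
  Lre_g IH (LK LD1_c0 LD2_c13 LD3_c47) (LK LD1_c0 LD2_c6 LD3_c18) Lrfl Lrfl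
theorem f23307 : Led Lsl_ct (LP (LK LD1_c0 LD2_c31 LD3_c2)) = (LP (LK LD1_c0 LD2_c13 LD3_c47)) :=
  Lre_c IH (LK LD1_c0 LD2_c31 LD3_c2) (LK LD1_c0 LD2_c13 LD3_c47) Lrfl Lrfl
theorem f23308 : Led Lsl_bf (LP (LK LD1_c0 LD2_c42 LD3_c45)) = (LP (LK LD1_c0 LD2_c31 LD3_c2)) :=
  Lgr Lrot34 (Lpe (f13460 IH) (Lpe (f13455 IH) (Lpe (f13456 IH) (Lpe (f7306 IH) (Lpr_cf (f23272 IH) (Lpe (f13620 IH) (Lpe (f13606 IH) (Lpr_ct (f13607 IH) (Lpe (f23306 IH) (Lpe (f23307 IH) (Lpn (LP (LK LD1_c0 LD2_c31 LD3_c2)))))))))))))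
theorem f13470 : Led Lsl_ft (LP (LK LD1_c0 LD2_c8 LD3_c61)) = (LP (LK LD1_c0 LD2_c8 LD3_c34)) :=
  Lgr Lrot48 (Lpr_ff (f13458 IH) (Lpn (LP (LK LD1_c0 LD2_c8 LD3_c34))))
theorem f13474 : Led Lsl_ff (LP (LK LD1_c0 LD2_c20 LD3_c0)) = (LP (LK LD1_c0 LD2_c19 LD3_c2)) :=
  Lgr Lrot25 (Lpr_bt (f9736 IH) (Lpr_ft (f13470 IH) (Lpr_bt (f13455 IH) (Lpn (LP (LK LD1_c0 LD2_c19 LD3_c2))))))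
theorem f13485 : Led Lsl_gf (LP (LK LD1_c0 LD2_c45 LD3_c10)) = (LP (LK LD1_c0 LD2_c42 LD3_c45)) :=
  Lgr Lrot76 (Lpe (f9745 IH) (Lpr_ff (f13474 IH) (Lpr_gt (f13460 IH) (Lpn (LP (LK LD1_c0 LD2_c42 LD3_c45))))))
theorem f13480 : Led Lsl_at (LP (LK LD1_c0 LD2_c42 LD3_c47)) = (LP (LK LD1_c0 LD2_c19 LD3_c2)) :=
  Lre_a IH (LK LD1_c0 LD2_c42 LD3_c47) (LK LD1_c0 LD2_c19 LD3_c2) Lrfl Lrfl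
theorem f13481 : Led Lsl_ft (LP (LK LD1_c0 LD2_c45 LD3_c10)) = (LP (LK LD1_c0 LD2_c42 LD3_c47)) :=
  Lgr Lrot101 (Lpe (f9745 IH) (Lpr_ff (f13474 IH) (Lpe (f13480 IH) (Lpn (LP (LK LD1_c0 LD2_c42 LD3_c47))))))
theorem f13495 : Led Lsl_gt (LP (LK LD1_c0 LD2_c42 LD3_c46)) = (LP (LK LD1_c0 LD2_c19 LD3_c2)) :=
  Lre_g IH (LK LD1_c0 LD2_c42 LD3_c46) (LK LD1_c0 LD2_c19 LD3_c2) Lrfl Lrfl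
theorem f13524 : Led Lsl_gt (LP (LK LD1_c0 LD2_c45 LD3_c10)) = (LP (LK LD1_c0 LD2_c42 LD3_c46)) :=
  Lgr Lrot5 (Lpr_ft (f13481 IH) (Lpr_at (f13480 IH) (Lpe (f13495 IH) (Lpn (LP (LK LD1_c0 LD2_c42 LD3_c46))))))
theorem f23327 : Led Lsl_gt (LP (LK LD1_c0 LD2_c30 LD3_c57)) = (LP (LK LD1_c0 LD2_c13 LD3_c47)) :=
  Lre_g IH (LK LD1_c0 LD2_c30 LD3_c57) (LK LD1_c0 LD2_c13 LD3_c47) Lrfl Lrfl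
theorem f14686 : Led Lsl_bt (LP (LK LD1_c0 LD2_c30 LD3_c57)) = (LP (LK LD1_c0 LD2_c19 LD3_c32)) :=
  Lre_b IH (LK LD1_c0 LD2_c30 LD3_c57) (LK LD1_c0 LD2_c19 LD3_c32) Lrfl Lrfl
theorem f14705 : Led Lsl_gt (LP (LK LD1_c0 LD2_c8 LD3_c48)) = (LP (LK LD1_c0 LD2_c19 LD3_c32)) :=
  Lre_g IH (LK LD1_c0 LD2_c8 LD3_c48) (LK LD1_c0 LD2_c19 LD3_c32) Lrfl Lrfl
theorem f23328 : Led Lsl_bt (LP (LK LD1_c0 LD2_c19 LD3_c34)) = (LP (LK LD1_c0 LD2_c8 LD3_c48)) :=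
  Lre_b IH (LK LD1_c0 LD2_c19 LD3_c34) (LK LD1_c0 LD2_c8 LD3_c48) Lrfl Lrfl
theorem f23329 : Led Lsl_cf (LP (LK LD1_c0 LD2_c42 LD3_c46)) = (LP (LK LD1_c0 LD2_c19 LD3_c34)) :=
  Lgr Lrot163 (Lpe (f13524 IH) (Lpr_cf (f9746 IH) (Lpr_gf (f13485 IH) (Lpr_bf (f23308 IH) (Lpr_ct (f23307 IH) (Lpe (f23327 IH) (Lpe (f13701 IH) (Lpr_bt (f14686 IH) (Lpe (f14705 IH) (Lpe (f23328 IH) (Lpn (LP (LK LD1_c0 LD2_c19 LD3_c34)))))))))))))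
theorem f13466 : Led Lsl_bt (LP (LK LD1_c0 LD2_c19 LD3_c2)) = (LP (LK LD1_c0 LD2_c8 LD3_c34)) :=
  Lre_b IH (LK LD1_c0 LD2_c19 LD3_c2) (LK LD1_c0 LD2_c8 LD3_c34) Lrfl Lrfl
theorem f13467 : Led Lsl_ft (LP (LK LD1_c0 LD2_c20 LD3_c0)) = (LP (LK LD1_c0 LD2_c19 LD3_c2)) :=
  Lgr Lrot75 (Lpe (f9734 IH) (Lpr_ff (f13458 IH) (Lpe (f13466 IH) (Lpn (LP (LK LD1_c0 LD2_c19 LD3_c2))))))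
theorem f13483 : Led Lsl_ct (LP (LK LD1_c0 LD2_c19 LD3_c2)) = (LP (LK LD1_c0 LD2_c19 LD3_c2)) :=
  Lgr Lrot40 (Lpe (f13467 IH) (Lpe (f9737 IH) (Lpr_ff (f13474 IH) (Lpn (LP (LK LD1_c0 LD2_c19 LD3_c2))))))
theorem f7157 : Led Lsl_gt (LP (LK LD1_c0 LD2_c3 LD3_c60)) = (LP (LK LD1_c0 LD2_c8 LD3_c48)) :=
  Lre_g IH (LK LD1_c0 LD2_c3 LD3_c60) (LK LD1_c0 LD2_c8 LD3_c48) Lrfl Lrfl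
theorem f7156 : Led Lsl_bt (LP (LK LD1_c0 LD2_c1 LD3_c44)) = (LP (LK LD1_c0 LD2_c3 LD3_c60)) :=
  Lre_b IH (LK LD1_c0 LD2_c1 LD3_c44) (LK LD1_c0 LD2_c3 LD3_c60) Lrfl Lrfl
theorem f348 : Led Lsl_ct (LP (LK LD1_c0 LD2_c1 LD3_c44)) = (LP (LK LD1_c0 LD2_c0 LD3_c38)) :=
  Lre_c IH (LK LD1_c0 LD2_c1 LD3_c44) (LK LD1_c0 LD2_c0 LD3_c38) Lrfl Lrfl
theorem f1423 : Led Lsl_gt (LP (LK LD1_c0 LD2_c1 LD3_c43)) = (LP (LK LD1_c0 LD2_c0 LD3_c38)) :=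
  Lre_g IH (LK LD1_c0 LD2_c1 LD3_c43) (LK LD1_c0 LD2_c0 LD3_c38) Lrfl Lrfl
theorem f23345 : Led Lsl_ct (LP (LK LD1_c0 LD2_c3 LD3_c56)) = (LP (LK LD1_c0 LD2_c1 LD3_c43)) :=
  Lre_c IH (LK LD1_c0 LD2_c3 LD3_c56) (LK LD1_c0 LD2_c1 LD3_c43) Lrfl Lrfl
theorem f23346 : Led Lsl_gt (LP (LK LD1_c0 LD2_c8 LD3_c34)) = (LP (LK LD1_c0 LD2_c3 LD3_c56)) :=
  Lgr Lrot82 (Lpe (f13466 IH) (Lpr_ct (f13483 IH) (Lpe (f13495 IH) (Lpr_cf (f23329 IH) (Lpr_bt (f23328 IH) (Lpe (f7157 IH) (Lpe (f7156 IH) (Lpr_ct (f348 IH) (Lpe (f1423 IH) (Lpe (f23345 IH) (Lpn (LP (LK LD1_c0 LD2_c3 LD3_c56)))))))))))))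
theorem f7379 : Led Lsl_bt (LP (LK LD1_c0 LD2_c4 LD3_c12)) = (LP (LK LD1_c0 LD2_c4 LD3_c12)) :=
  Lgr Lrot95 (Lpe (f7356 IH) (Lpr_bf (f406 IH) (Lpr_df (f7360 IH) (Lpn (LP (LK LD1_c0 LD2_c4 LD3_c12))))))
theorem f6720 : Led Lsl_ct (LP (LK LD1_c0 LD2_c1 LD3_c25)) = (LP (LK LD1_c0 LD2_c0 LD3_c39)) :=
  Lre_c IH (LK LD1_c0 LD2_c1 LD3_c25) (LK LD1_c0 LD2_c0 LD3_c39) Lrfl Lrfl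
theorem f7170 : Led Lsl_dt (LP (LK LD1_c0 LD2_c0 LD3_c39)) = (LP (LK LD1_c0 LD2_c1 LD3_c45)) :=
  Lre_d IH (LK LD1_c0 LD2_c0 LD3_c39) (LK LD1_c0 LD2_c1 LD3_c45) Lrfl Lrfl
theorem f11007 : Led Lsl_ct (LP (LK LD1_c0 LD2_c4 LD3_c0)) = (LP (LK LD1_c0 LD2_c1 LD3_c45)) :=
  Lre_c IH (LK LD1_c0 LD2_c4 LD3_c0) (LK LD1_c0 LD2_c1 LD3_c45) Lrfl Lrfl
theorem f20049 : Led Lsl_cf (LP (LK LD1_c0 LD2_c6 LD3_c16)) = (LP (LK LD1_c0 LD2_c4 LD3_c12)) :=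
  Lgr Lrot169 (Lpr_gt (f20048 IH) (Lpr_ct (f11007 IH) (Lpe (f7170 IH) (Lpe (f6720 IH) (Lpe (f6726 IH) (Lpr_cf (f20040 IH) (Lpe (f363 IH) (Lpe (f7375 IH) (Lpr_gt (f1634 IH) (Lpn (LP (LK LD1_c0 LD2_c4 LD3_c12))))))))))))
theorem f1463 : Led Lsl_gt (LP (LK LD1_c0 LD2_c2 LD3_c53)) = (LP (LK LD1_c0 LD2_c1 LD3_c11)) :=
  Lre_g IH (LK LD1_c0 LD2_c2 LD3_c53) (LK LD1_c0 LD2_c1 LD3_c11) Lrfl Lrfl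
theorem f23376 : Led Lsl_ct (LP (LK LD1_c0 LD2_c1 LD3_c43)) = (LP (LK LD1_c0 LD2_c3 LD3_c56)) :=
  Lre_c IH (LK LD1_c0 LD2_c1 LD3_c43) (LK LD1_c0 LD2_c3 LD3_c56) Lrfl Lrfl
theorem f23377 : Led Lsl_bf (LP (LK LD1_c0 LD2_c2 LD3_c53)) = (LP (LK LD1_c0 LD2_c1 LD3_c43)) :=
  Lgr Lrot156 (Lpr_gt (f1463 IH) (Lpr_bf (f13602 IH) (Lpr_ct (f13601 IH) (Lpr_gt (f13620 IH) (Lpr_cf (f20049 IH) (Lpr_bt (f7379 IH) (Lpr_gt (f7306 IH) (Lpr_ct (f13450 IH) (Lpr_gt (f23346 IH) (Lpe (f23376 IH) (Lpn (LP (LK LD1_c0 LD2_c1 LD3_c43)))))))))))))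
theorem f20872 : Led Lsl_ct (LP (LK LD1_c0 LD2_c2 LD3_c53)) = (LP (LK LD1_c0 LD2_c6 LD3_c14)) :=
  Lre_c IH (LK LD1_c0 LD2_c2 LD3_c53) (LK LD1_c0 LD2_c6 LD3_c14) Lrfl Lrfl
theorem f23384 : Led Lsl_bt (LP (LK LD1_c0 LD2_c6 LD3_c14)) = (LP (LK LD1_c0 LD2_c13 LD3_c39)) :=
  Lre_b IH (LK LD1_c0 LD2_c6 LD3_c14) (LK LD1_c0 LD2_c13 LD3_c39) Lrfl Lrfl
theorem f23379 : Led Lsl_bt (LP (LK LD1_c0 LD2_c8 LD3_c37)) = (LP (LK LD1_c0 LD2_c3 LD3_c56)) :=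
  Lre_b IH (LK LD1_c0 LD2_c8 LD3_c37) (LK LD1_c0 LD2_c3 LD3_c56) Lrfl Lrfl
theorem f23385 : Led Lsl_ct (LP (LK LD1_c0 LD2_c13 LD3_c39)) = (LP (LK LD1_c0 LD2_c8 LD3_c37)) :=
  Lgr Lrot83 (Lpe (f23384 IH) (Lpe (f20872 IH) (Lpr_bf (f23377 IH) (Lpe (f23345 IH) (Lpe (f23379 IH) (Lpn (LP (LK LD1_c0 LD2_c8 LD3_c37))))))))
theorem f20875 : Led Lsl_bt (LP (LK LD1_c0 LD2_c13 LD3_c39)) = (LP (LK LD1_c0 LD2_c6 LD3_c14)) :=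
  Lre_b IH (LK LD1_c0 LD2_c13 LD3_c39) (LK LD1_c0 LD2_c6 LD3_c14) Lrfl Lrfl
theorem f7177 : Led Lsl_gt (LP (LK LD1_c0 LD2_c1 LD3_c45)) = (LP (LK LD1_c0 LD2_c2 LD3_c53)) :=
  Lre_g IH (LK LD1_c0 LD2_c1 LD3_c45) (LK LD1_c0 LD2_c2 LD3_c53) Lrfl Lrfl
theorem f20873 : Led Lsl_gt (LP (LK LD1_c0 LD2_c6 LD3_c14)) = (LP (LK LD1_c0 LD2_c8 LD3_c61)) :=
  Lgr Lrot149 (Lpe (f20872 IH) (Lpe (f7177 IH) (Lpe (f9912 IH) (Lpr_ct (f436 IH) (Lpr_gf (f11464 IH) (Lpr_cf (f12335 IH) (Lpr_bt (f3817 IH) (Lpr_gf (f20863 IH) (Lpr_bf (f9727 IH) (Lpr_ct (f9733 IH) (Lpn (LP (LK LD1_c0 LD2_c8 LD3_c61)))))))))))))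
theorem f20067 : Led Lsl_dt (LP (LK LD1_c0 LD2_c8 LD3_c7)) = (LP (LK LD1_c0 LD2_c18 LD3_c6)) :=
  Lre_d IH (LK LD1_c0 LD2_c8 LD3_c7) (LK LD1_c0 LD2_c18 LD3_c6) Lrfl Lrfl
theorem f9684 : Led Lsl_ct (LP (LK LD1_c0 LD2_c9 LD3_c3)) = (LP (LK LD1_c0 LD2_c4 LD3_c10)) :=
  Lre_c IH (LK LD1_c0 LD2_c9 LD3_c3) (LK LD1_c0 LD2_c4 LD3_c10) Lrfl Lrfl
theorem f20066 : Led Lsl_dt (LP (LK LD1_c0 LD2_c8 LD3_c43)) = (LP (LK LD1_c0 LD2_c3 LD3_c58)) :=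
  Lre_d IH (LK LD1_c0 LD2_c8 LD3_c43) (LK LD1_c0 LD2_c3 LD3_c58) Lrfl Lrfl
theorem f20068 : Led Lsl_gf (LP (LK LD1_c0 LD2_c8 LD3_c43)) = (LP (LK LD1_c0 LD2_c18 LD3_c6)) :=
  Lgr Lrot143 (Lpr_dt (f20066 IH) (Lpe (f11885 IH) (Lpr_df (f3845 IH) (Lpr_gf (f9644 IH) (Lpe (f9651 IH) (Lpe (f3966 IH) (Lpe (f9684 IH) (Lpr_gt (f20064 IH) (Lpr_dt (f20067 IH) (Lpn (LP (LK LD1_c0 LD2_c18 LD3_c6))))))))))))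
theorem f20074 : Led Lsl_cf (LP (LK LD1_c0 LD2_c4 LD3_c24)) = (LP (LK LD1_c0 LD2_c3 LD3_c58)) :=
  Lgr Lrot14 (Lpr_df (f3845 IH) (Lpr_gf (f9644 IH) (Lpe (f9651 IH) (Lpe (f3966 IH) (Lpr_ct (f5831 IH) (Lpr_gt (f20064 IH) (Lpr_dt (f20067 IH) (Lpe (f20068 IH) (Lpr_dt (f20066 IH) (Lpn (LP (LK LD1_c0 LD2_c3 LD3_c58))))))))))))
theorem f12332 : Led Lsl_bt (LP (LK LD1_c0 LD2_c3 LD3_c58)) = (LP (LK LD1_c0 LD2_c8 LD3_c42)) :=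
  Lre_b IH (LK LD1_c0 LD2_c3 LD3_c58) (LK LD1_c0 LD2_c8 LD3_c42) Lrfl Lrfl
theorem f20870 : Led Lsl_gt (LP (LK LD1_c0 LD2_c8 LD3_c42)) = (LP (LK LD1_c0 LD2_c19 LD3_c19)) :=
  Lre_g IH (LK LD1_c0 LD2_c8 LD3_c42) (LK LD1_c0 LD2_c19 LD3_c19) Lrfl Lrfl
theorem f23449 : Led Lsl_gt (LP (LK LD1_c0 LD2_c19 LD3_c11)) = (LP (LK LD1_c0 LD2_c8 LD3_c37)) :=
  Lre_g IH (LK LD1_c0 LD2_c19 LD3_c11) (LK LD1_c0 LD2_c8 LD3_c37) Lrfl Lrfl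
theorem f23450 : Led Lsl_ct (LP (LK LD1_c0 LD2_c43 LD3_c5)) = (LP (LK LD1_c0 LD2_c19 LD3_c11)) :=
  Lre_c IH (LK LD1_c0 LD2_c43 LD3_c5) (LK LD1_c0 LD2_c19 LD3_c11) Lrfl Lrfl
theorem f23590 : Led Lsl_bf (LP (LK LD1_c0 LD2_c19 LD3_c19)) = (LP (LK LD1_c0 LD2_c43 LD3_c5)) :=
  Lgr Lrot34 (Lpe (f20870 IH) (Lpe (f12332 IH) (Lpe (f20074 IH) (Lpr_gf (f20863 IH) (Lpe (f9735 IH) (Lpe (f20873 IH) (Lpe (f20875 IH) (Lpr_ct (f23385 IH) (Lpe (f23449 IH) (Lpe (f23450 IH) (Lpn (LP (LK LD1_c0 LD2_c43 LD3_c5)))))))))))))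
theorem f20871 : Led Lsl_ct (LP (LK LD1_c0 LD2_c19 LD3_c19)) = (LP (LK LD1_c0 LD2_c43 LD3_c16)) :=
  Lre_c IH (LK LD1_c0 LD2_c19 LD3_c19) (LK LD1_c0 LD2_c43 LD3_c16) Lrfl Lrfl
theorem f23597 : Led Lsl_ct (LP (LK LD1_c0 LD2_c19 LD3_c11)) = (LP (LK LD1_c0 LD2_c43 LD3_c5)) :=
  Lre_c IH (LK LD1_c0 LD2_c19 LD3_c11) (LK LD1_c0 LD2_c43 LD3_c5) Lrfl Lrfl
theorem f23458 : Led Lsl_bt (LP (LK LD1_c0 LD2_c43 LD3_c4)) = (LP (LK LD1_c0 LD2_c19 LD3_c11)) :=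
  Lre_b IH (LK LD1_c0 LD2_c43 LD3_c4) (LK LD1_c0 LD2_c19 LD3_c11) Lrfl Lrfl
theorem f23598 : Led Lsl_ct (LP (LK LD1_c0 LD2_c43 LD3_c52)) = (LP (LK LD1_c0 LD2_c43 LD3_c4)) :=
  Lre_c IH (LK LD1_c0 LD2_c43 LD3_c52) (LK LD1_c0 LD2_c43 LD3_c4) Lrfl Lrfl
theorem f23599 : Led Lsl_bt (LP (LK LD1_c0 LD2_c43 LD3_c16)) = (LP (LK LD1_c0 LD2_c43 LD3_c52)) :=
  Lgr Lrot128 (Lpe (f20871 IH) (Lpr_bf (f23590 IH) (Lpe (f23597 IH) (Lpe (f23458 IH) (Lpe (f23598 IH) (Lpn (LP (LK LD1_c0 LD2_c43 LD3_c52))))))))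
theorem f23666 : Led Lsl_ct (LP (LK LD1_c0 LD2_c43 LD3_c16)) = (LP (LK LD1_c0 LD2_c19 LD3_c19)) :=
  Lre_c IH (LK LD1_c0 LD2_c43 LD3_c16) (LK LD1_c0 LD2_c19 LD3_c19) Lrfl Lrfl
theorem f23662 : Led Lsl_gt (LP (LK LD1_c0 LD2_c43 LD3_c52)) = (LP (LK LD1_c0 LD2_c19 LD3_c39)) :=
  Lre_g IH (LK LD1_c0 LD2_c43 LD3_c52) (LK LD1_c0 LD2_c19 LD3_c39) Lrfl Lrfl
theorem f12347 : Led Lsl_ct (LP (LK LD1_c0 LD2_c19 LD3_c39)) = (LP (LK LD1_c0 LD2_c8 LD3_c49)) :=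
  Lre_c IH (LK LD1_c0 LD2_c19 LD3_c39) (LK LD1_c0 LD2_c8 LD3_c49) Lrfl Lrfl
theorem f12346 : Led Lsl_gt (LP (LK LD1_c0 LD2_c8 LD3_c49)) = (LP (LK LD1_c0 LD2_c3 LD3_c60)) :=
  Lre_g IH (LK LD1_c0 LD2_c8 LD3_c49) (LK LD1_c0 LD2_c3 LD3_c60) Lrfl Lrfl
theorem f12345 : Led Lsl_ct (LP (LK LD1_c0 LD2_c2 LD3_c15)) = (LP (LK LD1_c0 LD2_c3 LD3_c60)) :=
  Lre_c IH (LK LD1_c0 LD2_c2 LD3_c15) (LK LD1_c0 LD2_c3 LD3_c60) Lrfl Lrfl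
theorem f11271 : Led Lsl_bt (LP (LK LD1_c0 LD2_c2 LD3_c15)) = (LP (LK LD1_c0 LD2_c0 LD3_c59)) :=
  Lre_b IH (LK LD1_c0 LD2_c2 LD3_c15) (LK LD1_c0 LD2_c0 LD3_c59) Lrfl Lrfl
theorem f4476 : Led Lsl_bt (LP (LK LD1_c0 LD2_c4 LD3_c51)) = (LP (LK LD1_c0 LD2_c2 LD3_c13)) :=
  Lre_b IH (LK LD1_c0 LD2_c4 LD3_c51) (LK LD1_c0 LD2_c2 LD3_c13) Lrfl Lrfl
theorem f23667 : Led Lsl_cf (LP (LK LD1_c0 LD2_c8 LD3_c42)) = (LP (LK LD1_c0 LD2_c4 LD3_c51)) :=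
  Lgr Lrot160 (Lpr_gt (f20870 IH) (Lpe (f23666 IH) (Lpr_bt (f23599 IH) (Lpr_gt (f23662 IH) (Lpr_ct (f12347 IH) (Lpr_gt (f12346 IH) (Lpe (f12345 IH) (Lpr_bt (f11271 IH) (Lpr_gt (f344 IH) (Lpe (f4476 IH) (Lpn (LP (LK LD1_c0 LD2_c4 LD3_c51)))))))))))))
theorem f4477 : Led Lsl_bt (LP (LK LD1_c0 LD2_c2 LD3_c13)) = (LP (LK LD1_c0 LD2_c4 LD3_c51)) :=
  Lre_b IH (LK LD1_c0 LD2_c2 LD3_c13) (LK LD1_c0 LD2_c4 LD3_c51) Lrfl Lrfl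
theorem f4478 : Led Lsl_ef (LP (LK LD1_c0 LD2_c4 LD3_c51)) = (LP (LK LD1_c0 LD2_c4 LD3_c51)) :=
  Lgr Lrot29 (Lpr_bt (f4476 IH) (Lpr_et (f4470 IH) (Lpr_bt (f4477 IH) (Lpn (LP (LK LD1_c0 LD2_c4 LD3_c51))))))
theorem f12333 : Led Lsl_cf (LP (LK LD1_c0 LD2_c4 LD3_c51)) = (LP (LK LD1_c0 LD2_c8 LD3_c42)) :=
  Lgr Lrot97 (Lpr_bt (f4476 IH) (Lpr_ct (f12189 IH) (Lpr_bt (f3817 IH) (Lpr_ct (f11885 IH) (Lpr_bt (f12332 IH) (Lpn (LP (LK LD1_c0 LD2_c8 LD3_c42))))))))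
theorem f23672 : Led Lsl_et (LP (LK LD1_c0 LD2_c8 LD3_c42)) = (LP (LK LD1_c0 LD2_c8 LD3_c42)) :=
  Lgr Lrot158 (Lpr_cf (f23667 IH) (Lpr_ef (f4478 IH) (Lpr_cf (f12333 IH) (Lpn (LP (LK LD1_c0 LD2_c8 LD3_c42))))))
theorem f23675 : Led Lsl_dt (LP (LK LD1_c0 LD2_c19 LD3_c22)) = (LP (LK LD1_c0 LD2_c8 LD3_c42)) :=
  Lre_d IH (LK LD1_c0 LD2_c19 LD3_c22) (LK LD1_c0 LD2_c8 LD3_c42) Lrfl Lrfl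
theorem f23714 : Led Lsl_et (LP (LK LD1_c0 LD2_c43 LD3_c25)) = (LP (LK LD1_c0 LD2_c19 LD3_c22)) :=
  Lre_e IH (LK LD1_c0 LD2_c43 LD3_c25) (LK LD1_c0 LD2_c19 LD3_c22) Lrfl Lrfl
theorem f22620 : Led Lsl_dt (LP (LK LD1_c0 LD2_c8 LD3_c42)) = (LP (LK LD1_c0 LD2_c19 LD3_c22)) :=
  Lre_d IH (LK LD1_c0 LD2_c8 LD3_c42) (LK LD1_c0 LD2_c19 LD3_c22) Lrfl Lrfl
theorem f23715 : Led Lsl_et (LP (LK LD1_c0 LD2_c19 LD3_c22)) = (LP (LK LD1_c0 LD2_c43 LD3_c25)) :=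
  Lre_e IH (LK LD1_c0 LD2_c19 LD3_c22) (LK LD1_c0 LD2_c43 LD3_c25) Lrfl Lrfl
theorem f23716 : Led Lsl_df (LP (LK LD1_c0 LD2_c43 LD3_c25)) = (LP (LK LD1_c0 LD2_c43 LD3_c25)) :=
  Lgr Lrot70 (Lpr_et (f23714 IH) (Lpr_dt (f23675 IH) (Lpr_et (f23672 IH) (Lpr_dt (f22620 IH) (Lpr_et (f23715 IH) (Lpn (LP (LK LD1_c0 LD2_c43 LD3_c25))))))))
theorem f22585 : Led Lsl_bt (LP (LK LD1_c0 LD2_c43 LD3_c25)) = (LP (LK LD1_c0 LD2_c19 LD3_c23)) :=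
  Lre_b IH (LK LD1_c0 LD2_c43 LD3_c25) (LK LD1_c0 LD2_c19 LD3_c23) Lrfl Lrfl
theorem f22506 : Led Lsl_bt (LP (LK LD1_c0 LD2_c19 LD3_c23)) = (LP (LK LD1_c0 LD2_c43 LD3_c25)) :=
  Lre_b IH (LK LD1_c0 LD2_c19 LD3_c23) (LK LD1_c0 LD2_c43 LD3_c25) Lrfl Lrfl
theorem f23724 : Led Lsl_dt (LP (LK LD1_c0 LD2_c19 LD3_c23)) = (LP (LK LD1_c0 LD2_c19 LD3_c23)) :=
  Lgr Lrot79 (Lpe (f22585 IH) (Lpr_df (f23716 IH) (Lpe (f22506 IH) (Lpn (LP (LK LD1_c0 LD2_c19 LD3_c23))))))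
theorem f22542 : Led Lsl_gt (LP (LK LD1_c0 LD2_c43 LD3_c27)) = (LP (LK LD1_c0 LD2_c19 LD3_c23)) :=
  Lre_g IH (LK LD1_c0 LD2_c43 LD3_c27) (LK LD1_c0 LD2_c19 LD3_c23) Lrfl Lrfl
theorem f23782 : Led Lsl_ct (LP (LK LD1_c0 LD2_c43 LD3_c27)) = (LP (LK LD1_c1 LD2_c23 LD3_c22)) :=
  Lre_c IH (LK LD1_c0 LD2_c43 LD3_c27) (LK LD1_c1 LD2_c23 LD3_c22) Lrfl Lrfl
theorem f23783 : Led Lsl_gt (LP (LK LD1_c1 LD2_c23 LD3_c22)) = (LP (LK LD1_c0 LD2_c38 LD3_c33)) :=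
  Lre_g IH (LK LD1_c1 LD2_c23 LD3_c22) (LK LD1_c0 LD2_c38 LD3_c33) Lrfl Lrfl
theorem f23784 : Led Lsl_dt (LP (LK LD1_c0 LD2_c38 LD3_c33)) = (LP (LK LD1_c1 LD2_c23 LD3_c23)) :=
  Lre_d IH (LK LD1_c0 LD2_c38 LD3_c33) (LK LD1_c1 LD2_c23 LD3_c23) Lrfl Lrfl
theorem f23785 : Led Lsl_gt (LP (LK LD1_c1 LD2_c23 LD3_c23)) = (LP (LK LD1_c2 LD2_c54 LD3_c58)) :=
  Lre_g IH (LK LD1_c1 LD2_c23 LD3_c23) (LK LD1_c2 LD2_c54 LD3_c58) Lrfl Lrfl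
theorem f22520 : Led Lsl_gt (LP (LK LD1_c0 LD2_c19 LD3_c23)) = (LP (LK LD1_c0 LD2_c43 LD3_c26)) :=
  Lre_g IH (LK LD1_c0 LD2_c19 LD3_c23) (LK LD1_c0 LD2_c43 LD3_c26) Lrfl Lrfl
theorem f22521 : Led Lsl_dt (LP (LK LD1_c0 LD2_c43 LD3_c26)) = (LP (LK LD1_c1 LD2_c33 LD3_c44)) :=
  Lre_d IH (LK LD1_c0 LD2_c43 LD3_c26) (LK LD1_c1 LD2_c33 LD3_c44) Lrfl Lrfl
theorem f23786 : Led Lsl_ct (LP (LK LD1_c3 LD2_c14 LD3_c27)) = (LP (LK LD1_c1 LD2_c33 LD3_c44)) :=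
  Lre_c IH (LK LD1_c3 LD2_c14 LD3_c27) (LK LD1_c1 LD2_c33 LD3_c44) Lrfl Lrfl
theorem f23787 : Led Lsl_dt (LP (LK LD1_c2 LD2_c54 LD3_c58)) = (LP (LK LD1_c3 LD2_c14 LD3_c27)) :=
  Lgr Lrot105 (Lpe (f23785 IH) (Lpe (f23784 IH) (Lpe (f23783 IH) (Lpe (f23782 IH) (Lpr_gt (f22542 IH) (Lpr_dt (f23724 IH) (Lpr_gt (f22520 IH) (Lpr_dt (f22521 IH) (Lpe (f23786 IH) (Lpn (LP (LK LD1_c3 LD2_c14 LD3_c27))))))))))))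
theorem f23843 : Led Lsl_df (LP (LK LD1_c2 LD2_c54 LD3_c58)) = (LP (LK LD1_c3 LD2_c14 LD3_c27)) :=
  Lgr Lrot38 (Lpr_dt (f23787 IH) (Lpn (LP (LK LD1_c3 LD2_c14 LD3_c27))))
theorem f23856 : Led Lsl_et (LP (LK LD1_c2 LD2_c54 LD3_c57)) = (LP (LK LD1_c1 LD2_c23 LD3_c22)) :=
  Lre_e IH (LK LD1_c2 LD2_c54 LD3_c57) (LK LD1_c1 LD2_c23 LD3_c22) Lrfl Lrfl
theorem f23857 : Led Lsl_dt (LP (LK LD1_c2 LD2_c54 LD3_c57)) = (LP (LK LD1_c2 LD2_c57 LD3_c35)) :=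
  Lre_d IH (LK LD1_c2 LD2_c54 LD3_c57) (LK LD1_c2 LD2_c57 LD3_c35) Lrfl Lrfl
theorem f23858 : Led Lsl_gt (LP (LK LD1_c1 LD2_c24 LD3_c31)) = (LP (LK LD1_c2 LD2_c57 LD3_c35)) :=
  Lre_g IH (LK LD1_c1 LD2_c24 LD3_c31) (LK LD1_c2 LD2_c57 LD3_c35) Lrfl Lrfl
theorem f23859 : Led Lsl_dt (LP (LK LD1_c0 LD2_c38 LD3_c57)) = (LP (LK LD1_c1 LD2_c24 LD3_c31)) :=
  Lre_d IH (LK LD1_c0 LD2_c38 LD3_c57) (LK LD1_c1 LD2_c24 LD3_c31) Lrfl Lrfl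
theorem f23860 : Led Lsl_et (LP (LK LD1_c0 LD2_c38 LD3_c57)) = (LP (LK LD1_c1 LD2_c24 LD3_c32)) :=
  Lre_e IH (LK LD1_c0 LD2_c38 LD3_c57) (LK LD1_c1 LD2_c24 LD3_c32) Lrfl Lrfl
theorem f23861 : Led Lsl_gt (LP (LK LD1_c2 LD2_c57 LD3_c39)) = (LP (LK LD1_c1 LD2_c24 LD3_c32)) :=
  Lre_g IH (LK LD1_c2 LD2_c57 LD3_c39) (LK LD1_c1 LD2_c24 LD3_c32) Lrfl Lrfl
theorem f23862 : Led Lsl_ef (LP (LK LD1_c2 LD2_c57 LD3_c39)) = (LP (LK LD1_c3 LD2_c14 LD3_c27)) :=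
  Lgr Lrot114 (Lpr_gt (f23861 IH) (Lpe (f23860 IH) (Lpr_dt (f23859 IH) (Lpr_gt (f23858 IH) (Lpe (f23857 IH) (Lpr_et (f23856 IH) (Lpr_gt (f23783 IH) (Lpr_dt (f23784 IH) (Lpr_gt (f23785 IH) (Lpr_df (f23843 IH) (Lpn (LP (LK LD1_c3 LD2_c14 LD3_c27)))))))))))))
theorem f23870 : Led Lsl_et (LP (LK LD1_c2 LD2_c57 LD3_c39)) = (LP (LK LD1_c3 LD2_c14 LD3_c27)) :=
  Lgr Lrot87 (Lpr_ef (f23862 IH) (Lpn (LP (LK LD1_c3 LD2_c14 LD3_c27))))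
theorem f23798 : Led Lsl_et (LP (LK LD1_c1 LD2_c33 LD3_c44)) = (LP (LK LD1_c3 LD2_c14 LD3_c28)) :=
  Lre_e IH (LK LD1_c1 LD2_c33 LD3_c44) (LK LD1_c3 LD2_c14 LD3_c28) Lrfl Lrfl
theorem f23872 : Led Lsl_cf (LP (LK LD1_c2 LD2_c57 LD3_c39)) = (LP (LK LD1_c3 LD2_c14 LD3_c28)) :=
  Lgr Lrot39 (Lpr_et (f23870 IH) (Lpr_ct (f23786 IH) (Lpr_et (f23798 IH) (Lpn (LP (LK LD1_c3 LD2_c14 LD3_c28))))))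
theorem f23865 : Led Lsl_dt (LP (LK LD1_c1 LD2_c24 LD3_c32)) = (LP (LK LD1_c2 LD2_c57 LD3_c40)) :=
  Lre_d IH (LK LD1_c1 LD2_c24 LD3_c32) (LK LD1_c2 LD2_c57 LD3_c40) Lrfl Lrfl
theorem f23792 : Led Lsl_et (LP (LK LD1_c1 LD2_c33 LD3_c48)) = (LP (LK LD1_c0 LD2_c43 LD3_c27)) :=
  Lre_e IH (LK LD1_c1 LD2_c33 LD3_c48) (LK LD1_c0 LD2_c43 LD3_c27) Lrfl Lrfl
theorem f23793 : Led Lsl_dt (LP (LK LD1_c1 LD2_c33 LD3_c48)) = (LP (LK LD1_c3 LD2_c14 LD3_c34)) :=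
  Lre_d IH (LK LD1_c1 LD2_c33 LD3_c48) (LK LD1_c3 LD2_c14 LD3_c34) Lrfl Lrfl
theorem f23794 : Led Lsl_gt (LP (LK LD1_c2 LD2_c22 LD3_c50)) = (LP (LK LD1_c3 LD2_c14 LD3_c34)) :=
  Lre_g IH (LK LD1_c2 LD2_c22 LD3_c50) (LK LD1_c3 LD2_c14 LD3_c34) Lrfl Lrfl
theorem f23795 : Led Lsl_dt (LP (LK LD1_c1 LD2_c8 LD3_c32)) = (LP (LK LD1_c2 LD2_c22 LD3_c50)) :=
  Lre_d IH (LK LD1_c1 LD2_c8 LD3_c32) (LK LD1_c2 LD2_c22 LD3_c50) Lrfl Lrfl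
theorem f23796 : Led Lsl_et (LP (LK LD1_c1 LD2_c8 LD3_c32)) = (LP (LK LD1_c2 LD2_c22 LD3_c51)) :=
  Lre_e IH (LK LD1_c1 LD2_c8 LD3_c32) (LK LD1_c2 LD2_c22 LD3_c51) Lrfl Lrfl
theorem f23797 : Led Lsl_dt (LP (LK LD1_c1 LD2_c33 LD3_c44)) = (LP (LK LD1_c0 LD2_c43 LD3_c26)) :=
  Lre_d IH (LK LD1_c1 LD2_c33 LD3_c44) (LK LD1_c0 LD2_c43 LD3_c26) Lrfl Lrfl
theorem f23799 : Led Lsl_gf (LP (LK LD1_c2 LD2_c22 LD3_c51)) = (LP (LK LD1_c3 LD2_c14 LD3_c28)) :=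
  Lgr Lrot141 (Lpe (f23796 IH) (Lpr_dt (f23795 IH) (Lpr_gt (f23794 IH) (Lpe (f23793 IH) (Lpr_et (f23792 IH) (Lpr_gt (f22542 IH) (Lpr_dt (f23724 IH) (Lpr_gt (f22520 IH) (Lpe (f23797 IH) (Lpr_et (f23798 IH) (Lpn (LP (LK LD1_c3 LD2_c14 LD3_c28)))))))))))))
theorem f22491 : Led Lsl_et (LP (LK LD1_c0 LD2_c19 LD3_c23)) = (LP (LK LD1_c0 LD2_c8 LD3_c43)) :=
  Lre_e IH (LK LD1_c0 LD2_c19 LD3_c23) (LK LD1_c0 LD2_c8 LD3_c43) Lrfl Lrfl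
theorem f23801 : Led Lsl_et (LP (LK LD1_c0 LD2_c40 LD3_c28)) = (LP (LK LD1_c0 LD2_c18 LD3_c6)) :=
  Lre_e IH (LK LD1_c0 LD2_c40 LD3_c28) (LK LD1_c0 LD2_c18 LD3_c6) Lrfl Lrfl
theorem f23290 : Led Lsl_dt (LP (LK LD1_c0 LD2_c40 LD3_c28)) = (LP (LK LD1_c1 LD2_c27 LD3_c30)) :=
  Lre_d IH (LK LD1_c0 LD2_c40 LD3_c28) (LK LD1_c1 LD2_c27 LD3_c30) Lrfl Lrfl
theorem f20170 : Led Lsl_gt (LP (LK LD1_c3 LD2_c3 LD3_c12)) = (LP (LK LD1_c1 LD2_c27 LD3_c30)) :=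
  Lre_g IH (LK LD1_c3 LD2_c3 LD3_c12) (LK LD1_c1 LD2_c27 LD3_c30) Lrfl Lrfl
theorem f23802 : Led Lsl_df (LP (LK LD1_c3 LD2_c3 LD3_c12)) = (LP (LK LD1_c2 LD2_c22 LD3_c51)) :=
  Lgr Lrot135 (Lpr_gt (f20170 IH) (Lpe (f23290 IH) (Lpr_et (f23801 IH) (Lpe (f20068 IH) (Lpe (f22491 IH) (Lpr_dt (f23724 IH) (Lpr_gt (f22520 IH) (Lpe (f23797 IH) (Lpr_et (f23798 IH) (Lpe (f23799 IH) (Lpn (LP (LK LD1_c2 LD2_c22 LD3_c51)))))))))))))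
theorem f20168 : Led Lsl_dt (LP (LK LD1_c1 LD2_c27 LD3_c30)) = (LP (LK LD1_c0 LD2_c40 LD3_c28)) :=
  Lre_d IH (LK LD1_c1 LD2_c27 LD3_c30) (LK LD1_c0 LD2_c40 LD3_c28) Lrfl Lrfl
theorem f20109 : Led Lsl_ct (LP (LK LD1_c1 LD2_c5 LD3_c29)) = (LP (LK LD1_c0 LD2_c40 LD3_c28)) :=
  Lre_c IH (LK LD1_c1 LD2_c5 LD3_c29) (LK LD1_c0 LD2_c40 LD3_c28) Lrfl Lrfl
theorem f23814 : Led Lsl_dt (LP (LK LD1_c2 LD2_c16 LD3_c59)) = (LP (LK LD1_c1 LD2_c5 LD3_c29)) :=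
  Lre_d IH (LK LD1_c2 LD2_c16 LD3_c59) (LK LD1_c1 LD2_c5 LD3_c29) Lrfl Lrfl
theorem f23875 : Led Lsl_gt (LP (LK LD1_c2 LD2_c57 LD3_c40)) = (LP (LK LD1_c2 LD2_c16 LD3_c59)) :=
  Lgr Lrot49 (Lpe (f23865 IH) (Lpe (f23861 IH) (Lpr_cf (f23872 IH) (Lpe (f23799 IH) (Lpe (f23802 IH) (Lpr_gt (f20170 IH) (Lpr_dt (f20168 IH) (Lpe (f20109 IH) (Lpe (f23814 IH) (Lpn (LP (LK LD1_c2 LD2_c16 LD3_c59))))))))))))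
theorem f23864 : Led Lsl_et (LP (LK LD1_c0 LD2_c38 LD3_c33)) = (LP (LK LD1_c0 LD2_c17 LD3_c9)) :=
  Lre_e IH (LK LD1_c0 LD2_c38 LD3_c33) (LK LD1_c0 LD2_c17 LD3_c9) Lrfl Lrfl
theorem f22477 : Led Lsl_dt (LP (LK LD1_c1 LD2_c5 LD3_c29)) = (LP (LK LD1_c2 LD2_c16 LD3_c59)) :=
  Lre_d IH (LK LD1_c1 LD2_c5 LD3_c29) (LK LD1_c2 LD2_c16 LD3_c59) Lrfl Lrfl
theorem f22476 : Led Lsl_et (LP (LK LD1_c1 LD2_c5 LD3_c29)) = (LP (LK LD1_c0 LD2_c29 LD3_c58)) :=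
  Lre_e IH (LK LD1_c1 LD2_c5 LD3_c29) (LK LD1_c0 LD2_c29 LD3_c58) Lrfl Lrfl
theorem f23895 : Led Lsl_gf (LP (LK LD1_c0 LD2_c17 LD3_c9)) = (LP (LK LD1_c0 LD2_c29 LD3_c58)) :=
  Lgr Lrot141 (Lpe (f23864 IH) (Lpr_dt (f23784 IH) (Lpr_gt (f23785 IH) (Lpr_df (f23843 IH) (Lpe (f23862 IH) (Lpr_gt (f23861 IH) (Lpr_dt (f23865 IH) (Lpr_gt (f23875 IH) (Lpe (f22477 IH) (Lpr_et (f22476 IH) (Lpn (LP (LK LD1_c0 LD2_c29 LD3_c58)))))))))))))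
theorem f23904 : Led Lsl_ft (LP (LK LD1_c0 LD2_c29 LD3_c58)) = (LP (LK LD1_c0 LD2_c18 LD3_c4)) :=
  Lre_f IH (LK LD1_c0 LD2_c29 LD3_c58) (LK LD1_c0 LD2_c18 LD3_c4) Lrfl Lrfl
theorem f23905 : Led Lsl_at (LP (LK LD1_c0 LD2_c18 LD3_c4)) = (LP (LK LD1_c0 LD2_c30 LD3_c1)) :=
  Lre_a IH (LK LD1_c0 LD2_c18 LD3_c4) (LK LD1_c0 LD2_c30 LD3_c1) Lrfl Lrfl
theorem f23906 : Led Lsl_gt (LP (LK LD1_c0 LD2_c17 LD3_c9)) = (LP (LK LD1_c0 LD2_c30 LD3_c1)) :=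
  Lgr Lrot46 (Lpr_gf (f23895 IH) (Lpr_ft (f23904 IH) (Lpr_at (f23905 IH) (Lpn (LP (LK LD1_c0 LD2_c30 LD3_c1))))))
theorem f23915 : Led Lsl_dt (LP (LK LD1_c0 LD2_c7 LD3_c38)) = (LP (LK LD1_c0 LD2_c17 LD3_c9)) :=
  Lre_d IH (LK LD1_c0 LD2_c7 LD3_c38) (LK LD1_c0 LD2_c17 LD3_c9) Lrfl Lrfl
theorem f8318 : Led Lsl_gt (LP (LK LD1_c0 LD2_c13 LD3_c4)) = (LP (LK LD1_c0 LD2_c7 LD3_c38)) :=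
  Lre_g IH (LK LD1_c0 LD2_c13 LD3_c4) (LK LD1_c0 LD2_c7 LD3_c38) Lrfl Lrfl
theorem f20552 : Led Lsl_ct (LP (LK LD1_c0 LD2_c13 LD3_c4)) = (LP (LK LD1_c0 LD2_c5 LD3_c58)) :=
  Lre_c IH (LK LD1_c0 LD2_c13 LD3_c4) (LK LD1_c0 LD2_c5 LD3_c58) Lrfl Lrfl
theorem f20267 : Led Lsl_gt (LP (LK LD1_c0 LD2_c5 LD3_c58)) = (LP (LK LD1_c0 LD2_c3 LD3_c25)) :=
  Lre_g IH (LK LD1_c0 LD2_c5 LD3_c58) (LK LD1_c0 LD2_c3 LD3_c25) Lrfl Lrfl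
theorem f22836 : Led Lsl_dt (LP (LK LD1_c0 LD2_c30 LD3_c1)) = (LP (LK LD1_c0 LD2_c17 LD3_c51)) :=
  Lre_d IH (LK LD1_c0 LD2_c30 LD3_c1) (LK LD1_c0 LD2_c17 LD3_c51) Lrfl Lrfl
theorem f20179 : Led Lsl_ct (LP (LK LD1_c0 LD2_c8 LD3_c0)) = (LP (LK LD1_c0 LD2_c17 LD3_c51)) :=
  Lre_c IH (LK LD1_c0 LD2_c8 LD3_c0) (LK LD1_c0 LD2_c17 LD3_c51) Lrfl Lrfl
theorem f23917 : Led Lsl_dt (LP (LK LD1_c0 LD2_c3 LD3_c25)) = (LP (LK LD1_c0 LD2_c6 LD3_c1)) :=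
  Lgr Lrot57 (Lpe (f20267 IH) (Lpe (f20552 IH) (Lpr_gt (f8318 IH) (Lpr_dt (f23915 IH) (Lpr_gt (f23906 IH) (Lpr_dt (f22836 IH) (Lpe (f20179 IH) (Lpe (f9530 IH) (Lpe (f9545 IH) (Lpn (LP (LK LD1_c0 LD2_c6 LD3_c1))))))))))))
theorem f24210 : Led Lsl_df (LP (LK LD1_c0 LD2_c3 LD3_c25)) = (LP (LK LD1_c0 LD2_c6 LD3_c1)) :=
  Lgr Lrot38 (Lpr_dt (f23917 IH) (Lpn (LP (LK LD1_c0 LD2_c6 LD3_c1))))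
theorem f248 : Led Lsl_gt (LP (LK LD1_c0 LD2_c3 LD3_c25)) = (LP (LK LD1_c0 LD2_c1 LD3_c24)) :=
  Lre_g IH (LK LD1_c0 LD2_c3 LD3_c25) (LK LD1_c0 LD2_c1 LD3_c24) Lrfl Lrfl
theorem f8294 : Led Lsl_gt (LP (LK LD1_c0 LD2_c1 LD3_c13)) = (LP (LK LD1_c0 LD2_c2 LD3_c43)) :=
  Lgr Lrot5 (Lpe (f1511 IH) (Lpr_at (f2116 IH) (Lpr_gf (f8292 IH) (Lpn (LP (LK LD1_c0 LD2_c2 LD3_c43))))))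
theorem f8304 : Led Lsl_et (LP (LK LD1_c0 LD2_c1 LD3_c7)) = (LP (LK LD1_c0 LD2_c2 LD3_c44)) :=
  Lre_e IH (LK LD1_c0 LD2_c1 LD3_c7) (LK LD1_c0 LD2_c2 LD3_c44) Lrfl Lrfl
theorem f8416 : Led Lsl_gt (LP (LK LD1_c0 LD2_c2 LD3_c44)) = (LP (LK LD1_c0 LD2_c6 LD3_c1)) :=
  Lre_g IH (LK LD1_c0 LD2_c2 LD3_c44) (LK LD1_c0 LD2_c6 LD3_c1) Lrfl Lrfl
theorem f24409 : Led Lsl_ef (LP (LK LD1_c0 LD2_c6 LD3_c1)) = (LP (LK LD1_c0 LD2_c6 LD3_c1)) :=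
  Lgr Lrot17 (Lpe (f8416 IH) (Lpe (f8304 IH) (Lpr_dt (f465 IH) (Lpe (f8294 IH) (Lpe (f238 IH) (Lpe (f50 IH) (Lpe (f246 IH) (Lpr_dt (f247 IH) (Lpe (f248 IH) (Lpr_df (f24210 IH) (Lpn (LP (LK LD1_c0 LD2_c6 LD3_c1)))))))))))))
theorem f24413 : Led Lsl_et (LP (LK LD1_c0 LD2_c4 LD3_c7)) = (LP (LK LD1_c0 LD2_c4 LD3_c7)) :=
  Lgr Lrot158 (Lpr_cf (f20173 IH) (Lpr_ef (f24409 IH) (Lpe (f20079 IH) (Lpn (LP (LK LD1_c0 LD2_c4 LD3_c7))))))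
theorem f23167 : Led Lsl_dt (LP (LK LD1_c0 LD2_c6 LD3_c5)) = (LP (LK LD1_c0 LD2_c13 LD3_c18)) :=
  Lre_d IH (LK LD1_c0 LD2_c6 LD3_c5) (LK LD1_c0 LD2_c13 LD3_c18) Lrfl Lrfl
theorem f369 : Led Lsl_ct (LP (LK LD1_c0 LD2_c8 LD3_c45)) = (LP (LK LD1_c0 LD2_c3 LD3_c59)) :=
  Lre_c IH (LK LD1_c0 LD2_c8 LD3_c45) (LK LD1_c0 LD2_c3 LD3_c59) Lrfl Lrfl
theorem f23168 : Led Lsl_dt (LP (LK LD1_c0 LD2_c4 LD3_c7)) = (LP (LK LD1_c0 LD2_c8 LD3_c45)) :=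
  Lgr Lrot105 (Lpe (f131 IH) (Lpe (f204 IH) (Lpr_gf (f7362 IH) (Lpe (f7365 IH) (Lpr_gt (f20956 IH) (Lpr_dt (f23167 IH) (Lpr_gt (f22831 IH) (Lpr_dt (f22830 IH) (Lpe (f369 IH) (Lpn (LP (LK LD1_c0 LD2_c8 LD3_c45))))))))))))
theorem f24595 : Led Lsl_gt (LP (LK LD1_c0 LD2_c8 LD3_c45)) = (LP (LK LD1_c0 LD2_c4 LD3_c3)) :=
  Lgr Lrot112 (Lpe (f23168 IH) (Lpr_et (f24413 IH) (Lpe (f131 IH) (Lpe (f215 IH) (Lpr_dt (f219 IH) (Lpr_gf (f1630 IH) (Lpqs (f1684 IH) (Lpr_df (f73 IH) (Lpr_gf (f7183 IH) (Lpqs (f7283 IH) (Lpe (f7042 IH) (Lpr_dt (f9740 IH) (Lpn (LP (LK LD1_c0 LD2_c4 LD3_c3)))))))))))))))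
theorem f24598 : Led Lsl_gt (LP (LK LD1_c0 LD2_c3 LD3_c61)) = (LP (LK LD1_c0 LD2_c8 LD3_c53)) :=
  Lre_g IH (LK LD1_c0 LD2_c3 LD3_c61) (LK LD1_c0 LD2_c8 LD3_c53) Lrfl Lrfl
theorem f20263 : Led Lsl_dt (LP (LK LD1_c0 LD2_c1 LD3_c59)) = (LP (LK LD1_c0 LD2_c4 LD3_c19)) :=
  Lre_d IH (LK LD1_c0 LD2_c1 LD3_c59) (LK LD1_c0 LD2_c4 LD3_c19) Lrfl Lrfl
theorem f7126 : Led Lsl_dt (LP (LK LD1_c0 LD2_c1 LD3_c41)) = (LP (LK LD1_c0 LD2_c0 LD3_c37)) :=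
  Lre_d IH (LK LD1_c0 LD2_c1 LD3_c41) (LK LD1_c0 LD2_c0 LD3_c37) Lrfl Lrfl
theorem f1496 : Led Lsl_gt (LP (LK LD1_c0 LD2_c0 LD3_c37)) = (LP (LK LD1_c0 LD2_c0 LD3_c11)) :=
  Lre_g IH (LK LD1_c0 LD2_c0 LD3_c37) (LK LD1_c0 LD2_c0 LD3_c11) Lrfl Lrfl
theorem f9933 : Led Lsl_gt (LP (LK LD1_c0 LD2_c3 LD3_c43)) = (LP (LK LD1_c0 LD2_c8 LD3_c3)) :=
  Lre_g IH (LK LD1_c0 LD2_c3 LD3_c43) (LK LD1_c0 LD2_c8 LD3_c3) Lrfl Lrfl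
theorem f21004 : Led Lsl_cf (LP (LK LD1_c0 LD2_c4 LD3_c19)) = (LP (LK LD1_c0 LD2_c8 LD3_c3)) :=
  Lgr Lrot99 (Lpe (f20263 IH) (Lpr_cf (f20259 IH) (Lpe (f6703 IH) (Lpe (f1497 IH) (Lpe (f1496 IH) (Lpe (f7126 IH) (Lpr_gt (f20999 IH) (Lpr_ct (f7099 IH) (Lpr_gt (f9933 IH) (Lpn (LP (LK LD1_c0 LD2_c8 LD3_c3))))))))))))
theorem f24599 : Led Lsl_dt (LP (LK LD1_c0 LD2_c8 LD3_c53)) = (LP (LK LD1_c0 LD2_c8 LD3_c3)) :=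
  Lgr Lrot105 (Lpe (f24598 IH) (Lpe (f22829 IH) (Lpe (f368 IH) (Lpe (f369 IH) (Lpr_gt (f24595 IH) (Lpr_dt (f9739 IH) (Lpe (f20829 IH) (Lpr_dt (f20263 IH) (Lpr_cf (f21004 IH) (Lpn (LP (LK LD1_c0 LD2_c8 LD3_c3))))))))))))
theorem f24608 : Led Lsl_df (LP (LK LD1_c0 LD2_c8 LD3_c53)) = (LP (LK LD1_c0 LD2_c8 LD3_c3)) :=
  Lgr Lrot38 (Lpr_dt (f24599 IH) (Lpn (LP (LK LD1_c0 LD2_c8 LD3_c3))))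
theorem f24025 : Led Lsl_gt (LP (LK LD1_c0 LD2_c8 LD3_c53)) = (LP (LK LD1_c0 LD2_c13 LD3_c55)) :=
  Lre_g IH (LK LD1_c0 LD2_c8 LD3_c53) (LK LD1_c0 LD2_c13 LD3_c55) Lrfl Lrfl
theorem f13543 : Led Lsl_dt (LP (LK LD1_c0 LD2_c13 LD3_c55)) = (LP (LK LD1_c0 LD2_c6 LD3_c20)) :=
  Lre_d IH (LK LD1_c0 LD2_c13 LD3_c55) (LK LD1_c0 LD2_c6 LD3_c20) Lrfl Lrfl
theorem f7114 : Led Lsl_gt (LP (LK LD1_c0 LD2_c0 LD3_c36)) = (LP (LK LD1_c0 LD2_c1 LD3_c12)) :=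
  Lre_g IH (LK LD1_c0 LD2_c0 LD3_c36) (LK LD1_c0 LD2_c1 LD3_c12) Lrfl Lrfl
theorem f7118 : Led Lsl_dt (LP (LK LD1_c0 LD2_c1 LD3_c39)) = (LP (LK LD1_c0 LD2_c0 LD3_c36)) :=
  Lre_d IH (LK LD1_c0 LD2_c1 LD3_c39) (LK LD1_c0 LD2_c0 LD3_c36) Lrfl Lrfl
theorem f24948 : Led Lsl_gf (LP (LK LD1_c0 LD2_c1 LD3_c39)) = (LP (LK LD1_c0 LD2_c1 LD3_c36)) :=
  Lgr Lrot144 (Lpr_dt (f7118 IH) (Lpr_gt (f7114 IH) (Lpr_dt (f7133 IH) (Lpe (f13550 IH) (Lpe (f13543 IH) (Lpe (f24025 IH) (Lpr_df (f24608 IH) (Lpe (f9933 IH) (Lpe (f7099 IH) (Lpn (LP (LK LD1_c0 LD2_c1 LD3_c36))))))))))))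
theorem f3970 : Led Lsl_gt (LP (LK LD1_c0 LD2_c1 LD3_c39)) = (LP (LK LD1_c0 LD2_c3 LD3_c48)) :=
  Lre_g IH (LK LD1_c0 LD2_c1 LD3_c39) (LK LD1_c0 LD2_c3 LD3_c48) Lrfl Lrfl
theorem f24957 : Led Lsl_ft (LP (LK LD1_c0 LD2_c1 LD3_c36)) = (LP (LK LD1_c0 LD2_c3 LD3_c44)) :=
  Lre_f IH (LK LD1_c0 LD2_c1 LD3_c36) (LK LD1_c0 LD2_c3 LD3_c44) Lrfl Lrfl
theorem f24958 : Led Lsl_af (LP (LK LD1_c0 LD2_c3 LD3_c48)) = (LP (LK LD1_c0 LD2_c3 LD3_c44)) :=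
  Lgr Lrot31 (Lpe (f3970 IH) (Lpr_gf (f24948 IH) (Lpr_ft (f24957 IH) (Lpn (LP (LK LD1_c0 LD2_c3 LD3_c44))))))
theorem f25154 : Led Lsl_ct (LP (LK LD1_c0 LD2_c8 LD3_c17)) = (LP (LK LD1_c0 LD2_c3 LD3_c48)) :=
  Lre_c IH (LK LD1_c0 LD2_c8 LD3_c17) (LK LD1_c0 LD2_c3 LD3_c48) Lrfl Lrfl
theorem f25155 : Led Lsl_dt (LP (LK LD1_c0 LD2_c18 LD3_c26)) = (LP (LK LD1_c0 LD2_c8 LD3_c17)) :=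
  Lre_d IH (LK LD1_c0 LD2_c18 LD3_c26) (LK LD1_c0 LD2_c8 LD3_c17) Lrfl Lrfl
theorem f20551 : Led Lsl_ct (LP (LK LD1_c0 LD2_c3 LD3_c40)) = (LP (LK LD1_c0 LD2_c7 LD3_c61)) :=
  Lre_c IH (LK LD1_c0 LD2_c3 LD3_c40) (LK LD1_c0 LD2_c7 LD3_c61) Lrfl Lrfl
theorem f21177 : Led Lsl_dt (LP (LK LD1_c0 LD2_c7 LD3_c61)) = (LP (LK LD1_c0 LD2_c17 LD3_c50)) :=
  Lre_d IH (LK LD1_c0 LD2_c7 LD3_c61) (LK LD1_c0 LD2_c17 LD3_c50) Lrfl Lrfl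
theorem f25156 : Led Lsl_cf (LP (LK LD1_c0 LD2_c18 LD3_c26)) = (LP (LK LD1_c0 LD2_c17 LD3_c50)) :=
  Lgr Lrot161 (Lpr_dt (f25155 IH) (Lpr_ct (f25154 IH) (Lpr_af (f24958 IH) (Lpe (f24957 IH) (Lpr_dt (f7107 IH) (Lpr_ct (f182 IH) (Lpr_dt (f7102 IH) (Lpr_ct (f20551 IH) (Lpr_dt (f21177 IH) (Lpn (LP (LK LD1_c0 LD2_c17 LD3_c50))))))))))))
theorem f22844 : Led Lsl_et (LP (LK LD1_c1 LD2_c5 LD3_c41)) = (LP (LK LD1_c0 LD2_c30 LD3_c1)) :=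
  Lre_e IH (LK LD1_c1 LD2_c5 LD3_c41) (LK LD1_c0 LD2_c30 LD3_c1) Lrfl Lrfl
theorem f22845 : Led Lsl_dt (LP (LK LD1_c1 LD2_c5 LD3_c41)) = (LP (LK LD1_c2 LD2_c17 LD3_c32)) :=
  Lre_d IH (LK LD1_c1 LD2_c5 LD3_c41) (LK LD1_c2 LD2_c17 LD3_c32) Lrfl Lrfl
theorem f20553 : Led Lsl_dt (LP (LK LD1_c0 LD2_c8 LD3_c55)) = (LP (LK LD1_c0 LD2_c13 LD3_c4)) :=
  Lre_d IH (LK LD1_c0 LD2_c8 LD3_c55) (LK LD1_c0 LD2_c13 LD3_c4) Lrfl Lrfl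
theorem f22846 : Led Lsl_et (LP (LK LD1_c0 LD2_c8 LD3_c55)) = (LP (LK LD1_c0 LD2_c19 LD3_c54)) :=
  Lre_e IH (LK LD1_c0 LD2_c8 LD3_c55) (LK LD1_c0 LD2_c19 LD3_c54) Lrfl Lrfl
theorem f22847 : Led Lsl_gt (LP (LK LD1_c0 LD2_c19 LD3_c54)) = (LP (LK LD1_c0 LD2_c44 LD3_c48)) :=
  Lre_g IH (LK LD1_c0 LD2_c19 LD3_c54) (LK LD1_c0 LD2_c44 LD3_c48) Lrfl Lrfl
theorem f22848 : Led Lsl_et (LP (LK LD1_c1 LD2_c36 LD3_c44)) = (LP (LK LD1_c0 LD2_c44 LD3_c48)) :=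
  Lre_e IH (LK LD1_c1 LD2_c36 LD3_c44) (LK LD1_c0 LD2_c44 LD3_c48) Lrfl Lrfl
theorem f22849 : Led Lsl_dt (LP (LK LD1_c1 LD2_c36 LD3_c44)) = (LP (LK LD1_c3 LD2_c20 LD3_c51)) :=
  Lre_d IH (LK LD1_c1 LD2_c36 LD3_c44) (LK LD1_c3 LD2_c20 LD3_c51) Lrfl Lrfl
theorem f22850 : Led Lsl_gf (LP (LK LD1_c2 LD2_c17 LD3_c32)) = (LP (LK LD1_c3 LD2_c20 LD3_c51)) :=
  Lgr Lrot145 (Lpe (f22845 IH) (Lpr_et (f22844 IH) (Lpr_gt (f22451 IH) (Lpr_dt (f22459 IH) (Lpr_gt (f22453 IH) (Lpe (f20553 IH) (Lpr_et (f22846 IH) (Lpr_gt (f22847 IH) (Lpe (f22848 IH) (Lpr_dt (f22849 IH) (Lpn (LP (LK LD1_c3 LD2_c20 LD3_c51)))))))))))))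
theorem f22854 : Led Lsl_at (LP (LK LD1_c1 LD2_c27 LD3_c17)) = (LP (LK LD1_c2 LD2_c17 LD3_c32)) :=
  Lre_a IH (LK LD1_c1 LD2_c27 LD3_c17) (LK LD1_c2 LD2_c17 LD3_c32) Lrfl Lrfl
theorem f22855 : Led Lsl_ft (LP (LK LD1_c3 LD2_c2 LD3_c42)) = (LP (LK LD1_c1 LD2_c27 LD3_c17)) :=
  Lre_f IH (LK LD1_c3 LD2_c2 LD3_c42) (LK LD1_c1 LD2_c27 LD3_c17) Lrfl Lrfl
theorem f22856 : Led Lsl_gt (LP (LK LD1_c3 LD2_c2 LD3_c42)) = (LP (LK LD1_c3 LD2_c20 LD3_c51)) :=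
  Lgr Lrot5 (Lpr_ft (f22855 IH) (Lpr_at (f22854 IH) (Lpr_gf (f22850 IH) (Lpn (LP (LK LD1_c3 LD2_c20 LD3_c51))))))
theorem f22913 : Led Lsl_dt (LP (LK LD1_c1 LD2_c27 LD3_c18)) = (LP (LK LD1_c3 LD2_c2 LD3_c42)) :=
  Lre_d IH (LK LD1_c1 LD2_c27 LD3_c18) (LK LD1_c3 LD2_c2 LD3_c42) Lrfl Lrfl
theorem f22937 : Led Lsl_et (LP (LK LD1_c1 LD2_c27 LD3_c18)) = (LP (LK LD1_c2 LD2_c17 LD3_c6)) :=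
  Lre_e IH (LK LD1_c1 LD2_c27 LD3_c18) (LK LD1_c2 LD2_c17 LD3_c6) Lrfl Lrfl
theorem f22938 : Led Lsl_gt (LP (LK LD1_c1 LD2_c26 LD3_c11)) = (LP (LK LD1_c2 LD2_c17 LD3_c6)) :=
  Lre_g IH (LK LD1_c1 LD2_c26 LD3_c11) (LK LD1_c2 LD2_c17 LD3_c6) Lrfl Lrfl
theorem f22939 : Led Lsl_et (LP (LK LD1_c3 LD2_c0 LD3_c48)) = (LP (LK LD1_c1 LD2_c26 LD3_c11)) :=
  Lre_e IH (LK LD1_c3 LD2_c0 LD3_c48) (LK LD1_c1 LD2_c26 LD3_c11) Lrfl Lrfl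
theorem f22928 : Led Lsl_gt (LP (LK LD1_c0 LD2_c44 LD3_c48)) = (LP (LK LD1_c1 LD2_c8 LD3_c24)) :=
  Lre_g IH (LK LD1_c0 LD2_c44 LD3_c48) (LK LD1_c1 LD2_c8 LD3_c24) Lrfl Lrfl
theorem f22940 : Led Lsl_dt (LP (LK LD1_c1 LD2_c8 LD3_c24)) = (LP (LK LD1_c2 LD2_c22 LD3_c35)) :=
  Lre_d IH (LK LD1_c1 LD2_c8 LD3_c24) (LK LD1_c2 LD2_c22 LD3_c35) Lrfl Lrfl
theorem f22941 : Led Lsl_gt (LP (LK LD1_c2 LD2_c22 LD3_c35)) = (LP (LK LD1_c1 LD2_c36 LD3_c49)) :=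
  Lre_g IH (LK LD1_c2 LD2_c22 LD3_c35) (LK LD1_c1 LD2_c36 LD3_c49) Lrfl Lrfl
theorem f22942 : Led Lsl_dt (LP (LK LD1_c3 LD2_c0 LD3_c48)) = (LP (LK LD1_c1 LD2_c36 LD3_c49)) :=
  Lgr Lrot56 (Lpr_et (f22939 IH) (Lpr_gt (f22938 IH) (Lpe (f22937 IH) (Lpr_dt (f22913 IH) (Lpr_gt (f22856 IH) (Lpe (f22849 IH) (Lpr_et (f22848 IH) (Lpr_gt (f22928 IH) (Lpr_dt (f22940 IH) (Lpr_gt (f22941 IH) (Lpn (LP (LK LD1_c1 LD2_c36 LD3_c49)))))))))))))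
theorem f22965 : Led Lsl_dt (LP (LK LD1_c2 LD2_c17 LD3_c6)) = (LP (LK LD1_c4 LD2_c39 LD3_c54)) :=
  Lre_d IH (LK LD1_c2 LD2_c17 LD3_c6) (LK LD1_c4 LD2_c39 LD3_c54) Lrfl Lrfl
theorem f22966 : Led Lsl_gt (LP (LK LD1_c4 LD2_c39 LD3_c54)) = (LP (LK LD1_c3 LD2_c0 LD3_c26)) :=
  Lre_g IH (LK LD1_c4 LD2_c39 LD3_c54) (LK LD1_c3 LD2_c0 LD3_c26) Lrfl Lrfl
theorem f22967 : Led Lsl_et (LP (LK LD1_c1 LD2_c8 LD3_c24)) = (LP (LK LD1_c0 LD2_c38 LD3_c59)) :=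
  Lre_e IH (LK LD1_c1 LD2_c8 LD3_c24) (LK LD1_c0 LD2_c38 LD3_c59) Lrfl Lrfl
theorem f22968 : Led Lsl_gt (LP (LK LD1_c1 LD2_c5 LD3_c8)) = (LP (LK LD1_c0 LD2_c38 LD3_c59)) :=
  Lre_g IH (LK LD1_c1 LD2_c5 LD3_c8) (LK LD1_c0 LD2_c38 LD3_c59) Lrfl Lrfl
theorem f22969 : Led Lsl_et (LP (LK LD1_c2 LD2_c16 LD3_c33)) = (LP (LK LD1_c1 LD2_c5 LD3_c8)) :=
  Lre_e IH (LK LD1_c2 LD2_c16 LD3_c33) (LK LD1_c1 LD2_c5 LD3_c8) Lrfl Lrfl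
theorem f22970 : Led Lsl_df (LP (LK LD1_c3 LD2_c0 LD3_c26)) = (LP (LK LD1_c2 LD2_c16 LD3_c33)) :=
  Lgr Lrot132 (Lpe (f22966 IH) (Lpe (f22965 IH) (Lpe (f22938 IH) (Lpe (f22939 IH) (Lpr_dt (f22942 IH) (Lpe (f22941 IH) (Lpe (f22940 IH) (Lpr_et (f22967 IH) (Lpe (f22968 IH) (Lpe (f22969 IH) (Lpn (LP (LK LD1_c2 LD2_c16 LD3_c33)))))))))))))
theorem f22993 : Led Lsl_gt (LP (LK LD1_c3 LD2_c0 LD3_c26)) = (LP (LK LD1_c1 LD2_c25 LD3_c58)) :=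
  Lre_g IH (LK LD1_c3 LD2_c0 LD3_c26) (LK LD1_c1 LD2_c25 LD3_c58) Lrfl Lrfl
theorem f22996 : Led Lsl_dt (LP (LK LD1_c0 LD2_c39 LD3_c49)) = (LP (LK LD1_c1 LD2_c25 LD3_c58)) :=
  Lre_d IH (LK LD1_c0 LD2_c39 LD3_c49) (LK LD1_c1 LD2_c25 LD3_c58) Lrfl Lrfl
theorem f22997 : Led Lsl_et (LP (LK LD1_c0 LD2_c39 LD3_c49)) = (LP (LK LD1_c0 LD2_c17 LD3_c50)) :=
  Lre_e IH (LK LD1_c0 LD2_c39 LD3_c49) (LK LD1_c0 LD2_c17 LD3_c50) Lrfl Lrfl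
theorem f22998 : Led Lsl_gt (LP (LK LD1_c0 LD2_c29 LD3_c46)) = (LP (LK LD1_c1 LD2_c5 LD3_c8)) :=
  Lre_g IH (LK LD1_c0 LD2_c29 LD3_c46) (LK LD1_c1 LD2_c5 LD3_c8) Lrfl Lrfl
theorem f22999 : Led Lsl_et (LP (LK LD1_c0 LD2_c13 LD3_c3)) = (LP (LK LD1_c0 LD2_c29 LD3_c46)) :=
  Lre_e IH (LK LD1_c0 LD2_c13 LD3_c3) (LK LD1_c0 LD2_c29 LD3_c46) Lrfl Lrfl
theorem f20189 : Led Lsl_dt (LP (LK LD1_c0 LD2_c13 LD3_c3)) = (LP (LK LD1_c0 LD2_c5 LD3_c57)) :=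
  Lre_d IH (LK LD1_c0 LD2_c13 LD3_c3) (LK LD1_c0 LD2_c5 LD3_c57) Lrfl Lrfl
theorem f23000 : Led Lsl_gt (LP (LK LD1_c0 LD2_c13 LD3_c1)) = (LP (LK LD1_c0 LD2_c5 LD3_c57)) :=
  Lre_g IH (LK LD1_c0 LD2_c13 LD3_c1) (LK LD1_c0 LD2_c5 LD3_c57) Lrfl Lrfl
theorem f23001 : Led Lsl_dt (LP (LK LD1_c0 LD2_c29 LD3_c37)) = (LP (LK LD1_c0 LD2_c13 LD3_c1)) :=
  Lre_d IH (LK LD1_c0 LD2_c29 LD3_c37) (LK LD1_c0 LD2_c13 LD3_c1) Lrfl Lrfl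
theorem f23002 : Led Lsl_gt (LP (LK LD1_c0 LD2_c17 LD3_c50)) = (LP (LK LD1_c0 LD2_c29 LD3_c37)) :=
  Lgr Lrot137 (Lpe (f22997 IH) (Lpr_dt (f22996 IH) (Lpe (f22993 IH) (Lpr_df (f22970 IH) (Lpr_et (f22969 IH) (Lpe (f22998 IH) (Lpe (f22999 IH) (Lpr_dt (f20189 IH) (Lpe (f23000 IH) (Lpe (f23001 IH) (Lpn (LP (LK LD1_c0 LD2_c29 LD3_c37)))))))))))))
theorem f23009 : Led Lsl_dt (LP (LK LD1_c0 LD2_c5 LD3_c57)) = (LP (LK LD1_c0 LD2_c13 LD3_c3)) :=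
  Lre_d IH (LK LD1_c0 LD2_c5 LD3_c57) (LK LD1_c0 LD2_c13 LD3_c3) Lrfl Lrfl
theorem f20081 : Led Lsl_ct (LP (LK LD1_c0 LD2_c8 LD3_c57)) = (LP (LK LD1_c0 LD2_c13 LD3_c3)) :=
  Lre_c IH (LK LD1_c0 LD2_c8 LD3_c57) (LK LD1_c0 LD2_c13 LD3_c3) Lrfl Lrfl
theorem f20835 : Led Lsl_dt (LP (LK LD1_c0 LD2_c13 LD3_c43)) = (LP (LK LD1_c0 LD2_c6 LD3_c16)) :=
  Lre_d IH (LK LD1_c0 LD2_c13 LD3_c43) (LK LD1_c0 LD2_c6 LD3_c16) Lrfl Lrfl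
theorem f25176 : Led Lsl_gt (LP (LK LD1_c0 LD2_c18 LD3_c26)) = (LP (LK LD1_c0 LD2_c13 LD3_c43)) :=
  Lgr Lrot94 (Lpr_cf (f25156 IH) (Lpr_gt (f23002 IH) (Lpr_dt (f23001 IH) (Lpr_gt (f23000 IH) (Lpr_dt (f23009 IH) (Lpe (f20081 IH) (Lpe (f23010 IH) (Lpe (f20048 IH) (Lpe (f20835 IH) (Lpn (LP (LK LD1_c0 LD2_c13 LD3_c43))))))))))))
theorem f25403 : Led Lsl_et (LP (LK LD1_c0 LD2_c41 LD3_c13)) = (LP (LK LD1_c0 LD2_c18 LD3_c26)) :=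
  Lre_e IH (LK LD1_c0 LD2_c41 LD3_c13) (LK LD1_c0 LD2_c18 LD3_c26) Lrfl Lrfl
theorem f25404 : Led Lsl_dt (LP (LK LD1_c0 LD2_c41 LD3_c13)) = (LP (LK LD1_c1 LD2_c29 LD3_c9)) :=
  Lre_d IH (LK LD1_c0 LD2_c41 LD3_c13) (LK LD1_c1 LD2_c29 LD3_c9) Lrfl Lrfl
theorem f25405 : Led Lsl_gt (LP (LK LD1_c3 LD2_c6 LD3_c10)) = (LP (LK LD1_c1 LD2_c29 LD3_c9)) :=
  Lre_g IH (LK LD1_c3 LD2_c6 LD3_c10) (LK LD1_c1 LD2_c29 LD3_c9) Lrfl Lrfl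
theorem f11008 : Led Lsl_dt (LP (LK LD1_c0 LD2_c8 LD3_c57)) = (LP (LK LD1_c0 LD2_c4 LD3_c0)) :=
  Lre_d IH (LK LD1_c0 LD2_c8 LD3_c57) (LK LD1_c0 LD2_c4 LD3_c0) Lrfl Lrfl
theorem f25406 : Led Lsl_et (LP (LK LD1_c0 LD2_c8 LD3_c57)) = (LP (LK LD1_c0 LD2_c19 LD3_c58)) :=
  Lre_e IH (LK LD1_c0 LD2_c8 LD3_c57) (LK LD1_c0 LD2_c19 LD3_c58) Lrfl Lrfl
theorem f25407 : Led Lsl_gt (LP (LK LD1_c0 LD2_c19 LD3_c58)) = (LP (LK LD1_c0 LD2_c44 LD3_c61)) :=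
  Lre_g IH (LK LD1_c0 LD2_c19 LD3_c58) (LK LD1_c0 LD2_c44 LD3_c61) Lrfl Lrfl
theorem f23256 : Led Lsl_et (LP (LK LD1_c1 LD2_c37 LD3_c18)) = (LP (LK LD1_c0 LD2_c44 LD3_c61)) :=
  Lre_e IH (LK LD1_c1 LD2_c37 LD3_c18) (LK LD1_c0 LD2_c44 LD3_c61) Lrfl Lrfl
theorem f25408 : Led Lsl_df (LP (LK LD1_c3 LD2_c6 LD3_c10)) = (LP (LK LD1_c1 LD2_c37 LD3_c18)) :=
  Lgr Lrot170 (Lpr_gt (f25405 IH) (Lpe (f25404 IH) (Lpr_et (f25403 IH) (Lpr_gt (f25176 IH) (Lpr_dt (f20835 IH) (Lpr_gt (f20048 IH) (Lpe (f11008 IH) (Lpr_et (f25406 IH) (Lpr_gt (f25407 IH) (Lpe (f23256 IH) (Lpn (LP (LK LD1_c1 LD2_c37 LD3_c18)))))))))))))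
theorem f23255 : Led Lsl_gt (LP (LK LD1_c0 LD2_c44 LD3_c61)) = (LP (LK LD1_c1 LD2_c8 LD3_c31)) :=
  Lre_g IH (LK LD1_c0 LD2_c44 LD3_c61) (LK LD1_c1 LD2_c8 LD3_c31) Lrfl Lrfl
theorem f23253 : Led Lsl_et (LP (LK LD1_c1 LD2_c27 LD3_c27)) = (LP (LK LD1_c0 LD2_c40 LD3_c27)) :=
  Lre_e IH (LK LD1_c1 LD2_c27 LD3_c27) (LK LD1_c0 LD2_c40 LD3_c27) Lrfl Lrfl
theorem f23254 : Led Lsl_dt (LP (LK LD1_c1 LD2_c27 LD3_c27)) = (LP (LK LD1_c3 LD2_c3 LD3_c5)) :=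
  Lre_d IH (LK LD1_c1 LD2_c27 LD3_c27) (LK LD1_c3 LD2_c3 LD3_c5) Lrfl Lrfl
theorem f25526 : Led Lsl_gf (LP (LK LD1_c3 LD2_c6 LD3_c10)) = (LP (LK LD1_c3 LD2_c3 LD3_c5)) :=
  Lgr Lrot145 (Lpr_df (f25408 IH) (Lpr_et (f23256 IH) (Lpr_gt (f23255 IH) (Lpr_dt (f23220 IH) (Lpr_gt (f23221 IH) (Lpe (f23222 IH) (Lpr_et (f23217 IH) (Lpr_gt (f23216 IH) (Lpe (f23253 IH) (Lpr_dt (f23254 IH) (Lpn (LP (LK LD1_c3 LD2_c3 LD3_c5)))))))))))))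
theorem f25528 : Led Lsl_ft (LP (LK LD1_c3 LD2_c3 LD3_c5)) = (LP (LK LD1_c1 LD2_c27 LD3_c30)) :=
  Lre_f IH (LK LD1_c3 LD2_c3 LD3_c5) (LK LD1_c1 LD2_c27 LD3_c30) Lrfl Lrfl
theorem f25529 : Led Lsl_af (LP (LK LD1_c1 LD2_c29 LD3_c9)) = (LP (LK LD1_c1 LD2_c27 LD3_c30)) :=
  Lgr Lrot31 (Lpe (f25405 IH) (Lpr_gf (f25526 IH) (Lpr_ft (f25528 IH) (Lpn (LP (LK LD1_c1 LD2_c27 LD3_c30))))))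
theorem f25557 : Led Lsl_ft (LP (LK LD1_c1 LD2_c29 LD3_c9)) = (LP (LK LD1_c3 LD2_c6 LD3_c12)) :=
  Lre_f IH (LK LD1_c1 LD2_c29 LD3_c9) (LK LD1_c3 LD2_c6 LD3_c12) Lrfl Lrfl
theorem f25558 : Led Lsl_at (LP (LK LD1_c3 LD2_c6 LD3_c12)) = (LP (LK LD1_c3 LD2_c3 LD3_c5)) :=
  Lgr Lrot66 (Lpe (f25557 IH) (Lpr_af (f25529 IH) (Lpe (f25528 IH) (Lpn (LP (LK LD1_c3 LD2_c3 LD3_c5))))))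
theorem f25572 : Led Lsl_et (LP (LK LD1_c3 LD2_c3 LD3_c5)) = (LP (LK LD1_c1 LD2_c37 LD3_c15)) :=
  Lre_e IH (LK LD1_c3 LD2_c3 LD3_c5) (LK LD1_c1 LD2_c37 LD3_c15) Lrfl Lrfl
theorem f25573 : Led Lsl_at (LP (LK LD1_c1 LD2_c37 LD3_c15)) = (LP (LK LD1_c2 LD2_c22 LD3_c49)) :=
  Lre_a IH (LK LD1_c1 LD2_c37 LD3_c15) (LK LD1_c2 LD2_c22 LD3_c49) Lrfl Lrfl
theorem f25574 : Led Lsl_ef (LP (LK LD1_c3 LD2_c6 LD3_c12)) = (LP (LK LD1_c2 LD2_c22 LD3_c49)) :=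
  Lgr Lrot20 (Lpr_at (f25558 IH) (Lpr_et (f25572 IH) (Lpr_at (f25573 IH) (Lpn (LP (LK LD1_c2 LD2_c22 LD3_c49))))))
theorem f25599 : Led Lsl_ft (LP (LK LD1_c3 LD2_c6 LD3_c12)) = (LP (LK LD1_c1 LD2_c29 LD3_c9)) :=
  Lre_f IH (LK LD1_c3 LD2_c6 LD3_c12) (LK LD1_c1 LD2_c29 LD3_c9) Lrfl Lrfl
theorem f25554 : Led Lsl_et (LP (LK LD1_c1 LD2_c29 LD3_c9)) = (LP (LK LD1_c0 LD2_c41 LD3_c14)) :=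
  Lre_e IH (LK LD1_c1 LD2_c29 LD3_c9) (LK LD1_c0 LD2_c41 LD3_c14) Lrfl Lrfl
theorem f25600 : Led Lsl_ft (LP (LK LD1_c1 LD2_c8 LD3_c34)) = (LP (LK LD1_c2 LD2_c22 LD3_c49)) :=
  Lre_f IH (LK LD1_c1 LD2_c8 LD3_c34) (LK LD1_c2 LD2_c22 LD3_c49) Lrfl Lrfl
theorem f25601 : Led Lsl_et (LP (LK LD1_c0 LD2_c31 LD3_c23)) = (LP (LK LD1_c1 LD2_c8 LD3_c34)) :=
  Lre_e IH (LK LD1_c0 LD2_c31 LD3_c23) (LK LD1_c1 LD2_c8 LD3_c34) Lrfl Lrfl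
theorem f25602 : Led Lsl_ft (LP (LK LD1_c0 LD2_c41 LD3_c14)) = (LP (LK LD1_c0 LD2_c31 LD3_c23)) :=
  Lgr Lrot86 (Lpe (f25554 IH) (Lpe (f25599 IH) (Lpr_ef (f25574 IH) (Lpe (f25600 IH) (Lpe (f25601 IH) (Lpn (LP (LK LD1_c0 LD2_c31 LD3_c23))))))))
theorem f25619 : Led Lsl_ff (LP (LK LD1_c0 LD2_c41 LD3_c14)) = (LP (LK LD1_c0 LD2_c31 LD3_c23)) :=
  Lgr Lrot3 (Lpr_ft (f25602 IH) (Lpn (LP (LK LD1_c0 LD2_c31 LD3_c23))))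
theorem f25623 : Led Lsl_dt (LP (LK LD1_c0 LD2_c41 LD3_c14)) = (LP (LK LD1_c0 LD2_c18 LD3_c27)) :=
  Lre_d IH (LK LD1_c0 LD2_c41 LD3_c14) (LK LD1_c0 LD2_c18 LD3_c27) Lrfl Lrfl
theorem f7453 : Led Lsl_dt (LP (LK LD1_c0 LD2_c13 LD3_c56)) = (LP (LK LD1_c0 LD2_c31 LD3_c23)) :=
  Lre_d IH (LK LD1_c0 LD2_c13 LD3_c56) (LK LD1_c0 LD2_c31 LD3_c23) Lrfl Lrfl
theorem f25663 : Led Lsl_ft (LP (LK LD1_c0 LD2_c18 LD3_c27)) = (LP (LK LD1_c0 LD2_c13 LD3_c56)) :=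
  Lgr Lrot54 (Lpe (f25623 IH) (Lpr_ff (f25619 IH) (Lpe (f7453 IH) (Lpn (LP (LK LD1_c0 LD2_c13 LD3_c56))))))
theorem f25441 : Led Lsl_dt (LP (LK LD1_c0 LD2_c18 LD3_c27)) = (LP (LK LD1_c0 LD2_c41 LD3_c14)) :=
  Lre_d IH (LK LD1_c0 LD2_c18 LD3_c27) (LK LD1_c0 LD2_c41 LD3_c14) Lrfl Lrfl
theorem f25625 : Led Lsl_ct (LP (LK LD1_c0 LD2_c41 LD3_c14)) = (LP (LK LD1_c1 LD2_c29 LD3_c11)) :=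
  Lre_c IH (LK LD1_c0 LD2_c41 LD3_c14) (LK LD1_c1 LD2_c29 LD3_c11) Lrfl Lrfl
theorem f7441 : Led Lsl_at (LP (LK LD1_c0 LD2_c13 LD3_c56)) = (LP (LK LD1_c0 LD2_c8 LD3_c58)) :=
  Lre_a IH (LK LD1_c0 LD2_c13 LD3_c56) (LK LD1_c0 LD2_c8 LD3_c58) Lrfl Lrfl
theorem f7434 : Led Lsl_ct (LP (LK LD1_c0 LD2_c4 LD3_c1)) = (LP (LK LD1_c0 LD2_c8 LD3_c58)) :=
  Lre_c IH (LK LD1_c0 LD2_c4 LD3_c1) (LK LD1_c0 LD2_c8 LD3_c58) Lrfl Lrfl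
theorem f7431 : Led Lsl_ct (LP (LK LD1_c0 LD2_c8 LD3_c58)) = (LP (LK LD1_c0 LD2_c4 LD3_c1)) :=
  Lre_c IH (LK LD1_c0 LD2_c8 LD3_c58) (LK LD1_c0 LD2_c4 LD3_c1) Lrfl Lrfl
theorem f7432 : Led Lsl_dt (LP (LK LD1_c0 LD2_c19 LD3_c61)) = (LP (LK LD1_c0 LD2_c8 LD3_c58)) :=
  Lre_d IH (LK LD1_c0 LD2_c19 LD3_c61) (LK LD1_c0 LD2_c8 LD3_c58) Lrfl Lrfl
theorem f7433 : Led Lsl_ct (LP (LK LD1_c0 LD2_c45 LD3_c7)) = (LP (LK LD1_c0 LD2_c19 LD3_c61)) :=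
  Lre_c IH (LK LD1_c0 LD2_c45 LD3_c7) (LK LD1_c0 LD2_c19 LD3_c61) Lrfl Lrfl
theorem f25684 : Led Lsl_dt (LP (LK LD1_c1 LD2_c29 LD3_c11)) = (LP (LK LD1_c0 LD2_c45 LD3_c7)) :=
  Lgr Lrot32 (Lpe (f25625 IH) (Lpe (f25441 IH) (Lpr_ft (f25663 IH) (Lpr_at (f7441 IH) (Lpe (f7434 IH) (Lpe (f7414 IH) (Lpe (f7431 IH) (Lpe (f7432 IH) (Lpe (f7433 IH) (Lpn (LP (LK LD1_c0 LD2_c45 LD3_c7))))))))))))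
theorem f25674 : Led Lsl_ct (LP (LK LD1_c0 LD2_c8 LD3_c18)) = (LP (LK LD1_c0 LD2_c18 LD3_c27)) :=
  Lre_c IH (LK LD1_c0 LD2_c8 LD3_c18) (LK LD1_c0 LD2_c18 LD3_c27) Lrfl Lrfl
theorem f25608 : Led Lsl_at (LP (LK LD1_c0 LD2_c31 LD3_c23)) = (LP (LK LD1_c0 LD2_c19 LD3_c61)) :=
  Lre_a IH (LK LD1_c0 LD2_c31 LD3_c23) (LK LD1_c0 LD2_c19 LD3_c61) Lrfl Lrfl
theorem f25624 : Led Lsl_ct (LP (LK LD1_c0 LD2_c18 LD3_c27)) = (LP (LK LD1_c0 LD2_c8 LD3_c18)) :=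
  Lre_c IH (LK LD1_c0 LD2_c18 LD3_c27) (LK LD1_c0 LD2_c8 LD3_c18) Lrfl Lrfl
theorem f25698 : Led Lsl_df (LP (LK LD1_c0 LD2_c8 LD3_c18)) = (LP (LK LD1_c0 LD2_c8 LD3_c18)) :=
  Lgr Lrot106 (Lpr_ct (f25674 IH) (Lpr_dt (f25441 IH) (Lpr_ct (f25625 IH) (Lpr_dt (f25684 IH) (Lpr_ct (f7433 IH) (Lpe (f25608 IH) (Lpe (f25602 IH) (Lpr_dt (f25623 IH) (Lpr_ct (f25624 IH) (Lpn (LP (LK LD1_c0 LD2_c8 LD3_c18))))))))))))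
theorem f25675 : Led Lsl_ff (LP (LK LD1_c0 LD2_c8 LD3_c18)) = (LP (LK LD1_c0 LD2_c6 LD3_c21)) :=
  Lgr Lrot23 (Lpr_ct (f25674 IH) (Lpr_ft (f25663 IH) (Lpr_ct (f7455 IH) (Lpn (LP (LK LD1_c0 LD2_c6 LD3_c21))))))
theorem f25709 : Led Lsl_ft (LP (LK LD1_c0 LD2_c8 LD3_c18)) = (LP (LK LD1_c0 LD2_c6 LD3_c21)) :=
  Lgr Lrot54 (Lpr_df (f25698 IH) (Lpr_ff (f25675 IH) (Lpr_df (f7429 IH) (Lpn (LP (LK LD1_c0 LD2_c6 LD3_c21))))))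
theorem f25149 : Led Lsl_et (LP (LK LD1_c0 LD2_c3 LD3_c48)) = (LP (LK LD1_c0 LD2_c8 LD3_c18)) :=
  Lre_e IH (LK LD1_c0 LD2_c3 LD3_c48) (LK LD1_c0 LD2_c8 LD3_c18) Lrfl Lrfl
theorem f13614 : Led Lsl_ft (LP (LK LD1_c0 LD2_c2 LD3_c55)) = (LP (LK LD1_c0 LD2_c1 LD3_c11)) :=
  Lre_f IH (LK LD1_c0 LD2_c2 LD3_c55) (LK LD1_c0 LD2_c1 LD3_c11) Lrfl Lrfl
theorem f25717 : Led Lsl_ff (LP (LK LD1_c0 LD2_c3 LD3_c48)) = (LP (LK LD1_c0 LD2_c2 LD3_c46)) :=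
  Lgr Lrot72 (Lpr_et (f25149 IH) (Lpr_ft (f25709 IH) (Lpr_et (f7458 IH) (Lpr_ft (f13614 IH) (Lpr_et (f13609 IH) (Lpn (LP (LK LD1_c0 LD2_c2 LD3_c46))))))))
theorem f25140 : Led Lsl_at (LP (LK LD1_c0 LD2_c3 LD3_c48)) = (LP (LK LD1_c0 LD2_c3 LD3_c44)) :=
  Lgr Lrot100 (Lpr_af (f24958 IH) (Lpn (LP (LK LD1_c0 LD2_c3 LD3_c44))))
theorem f25722 : Led Lsl_gf (LP (LK LD1_c0 LD2_c2 LD3_c49)) = (LP (LK LD1_c0 LD2_c2 LD3_c46)) :=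
  Lgr Lrot47 (Lpr_gt (f20958 IH) (Lpe (f25140 IH) (Lpr_ff (f25717 IH) (Lpn (LP (LK LD1_c0 LD2_c2 LD3_c46))))))
theorem f7010 : Led Lsl_ct (LP (LK LD1_c0 LD2_c2 LD3_c49)) = (LP (LK LD1_c0 LD2_c6 LD3_c7)) :=
  Lre_c IH (LK LD1_c0 LD2_c2 LD3_c49) (LK LD1_c0 LD2_c6 LD3_c7) Lrfl Lrfl
theorem f20963 : Led Lsl_gt (LP (LK LD1_c0 LD2_c6 LD3_c7)) = (LP (LK LD1_c0 LD2_c13 LD3_c23)) :=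
  Lre_g IH (LK LD1_c0 LD2_c6 LD3_c7) (LK LD1_c0 LD2_c13 LD3_c23) Lrfl Lrfl
theorem f9694 : Led Lsl_bt (LP (LK LD1_c0 LD2_c9 LD3_c1)) = (LP (LK LD1_c0 LD2_c4 LD3_c18)) :=
  Lre_b IH (LK LD1_c0 LD2_c9 LD3_c1) (LK LD1_c0 LD2_c4 LD3_c18) Lrfl Lrfl
theorem f25732 : Led Lsl_cf (LP (LK LD1_c0 LD2_c13 LD3_c23)) = (LP (LK LD1_c0 LD2_c9 LD3_c1)) :=
  Lgr Lrot163 (Lpe (f20963 IH) (Lpe (f7010 IH) (Lpr_gf (f25722 IH) (Lpe (f13611 IH) (Lpr_ct (f13625 IH) (Lpe (f20956 IH) (Lpe (f7366 IH) (Lpe (f20008 IH) (Lpr_gf (f11945 IH) (Lpe (f9694 IH) (Lpn (LP (LK LD1_c0 LD2_c9 LD3_c1)))))))))))))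
theorem f26263 : Led Lsl_gf (LP (LK LD1_c0 LD2_c6 LD3_c11)) = (LP (LK LD1_c0 LD2_c13 LD3_c23)) :=
  Lgr Lrot148 (Lpr_dt (f26059 IH) (Lpr_gt (f26253 IH) (Lpr_dt (f9743 IH) (Lpr_ct (f9735 IH) (Lpe (f9740 IH) (Lpe (f20868 IH) (Lpe (f20897 IH) (Lpe (f20926 IH) (Lpe (f25732 IH) (Lpn (LP (LK LD1_c0 LD2_c13 LD3_c23))))))))))))
theorem f12689 : Led Lsl_bt (LP (LK LD1_c0 LD2_c4 LD3_c19)) = (LP (LK LD1_c0 LD2_c1 LD3_c60)) :=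
  Lre_b IH (LK LD1_c0 LD2_c4 LD3_c19) (LK LD1_c0 LD2_c1 LD3_c60) Lrfl Lrfl
theorem f21016 : Led Lsl_ct (LP (LK LD1_c0 LD2_c4 LD3_c19)) = (LP (LK LD1_c0 LD2_c8 LD3_c3)) :=
  Lgr Lrot59 (Lpr_cf (f21004 IH) (Lpn (LP (LK LD1_c0 LD2_c8 LD3_c3))))
theorem f26306 : Led Lsl_bt (LP (LK LD1_c0 LD2_c2 LD3_c51)) = (LP (LK LD1_c0 LD2_c1 LD3_c41)) :=
  Lgr Lrot130 (Lpr_ct (f26046 IH) (Lpr_gf (f26263 IH) (Lpr_cf (f25732 IH) (Lpr_bt (f9694 IH) (Lpr_gf (f12681 IH) (Lpe (f12689 IH) (Lpr_ct (f21016 IH) (Lpe (f9933 IH) (Lpe (f7099 IH) (Lpe (f20999 IH) (Lpn (LP (LK LD1_c0 LD2_c1 LD3_c41)))))))))))))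
def v73 : LQ := Led Lsl_bt (LP (LK LD1_c0 LD2_c0 LD3_c37))
theorem f7152 : Led Lsl_bt (LP (LK LD1_c0 LD2_c0 LD3_c37)) = v73 :=
  Lrfl
theorem f26321 : (LP (LK LD1_c0 LD2_c1 LD3_c10)) = v73 :=
  (Llr Lrot12 (Lpr_dt (f7182 IH) (Lpr_bt (f26306 IH) (Lpr_dt (f7126 IH) (Lpr_bt (f7152 IH) (Lpn v73)))))).symm
theorem f7153 : Led Lsl_bf (LP (LK LD1_c0 LD2_c0 LD3_c37)) = v73 :=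
  Lgr Lrot24 (Lpr_bt (f7152 IH) (Lpn v73))
theorem f7147 : Led Lsl_ct (LP (LK LD1_c0 LD2_c1 LD3_c39)) = (LP (LK LD1_c0 LD2_c3 LD3_c49)) :=
  Lre_c IH (LK LD1_c0 LD2_c1 LD3_c39) (LK LD1_c0 LD2_c3 LD3_c49) Lrfl Lrfl
theorem f24960 : Led Lsl_gt (LP (LK LD1_c0 LD2_c3 LD3_c49)) = (LP (LK LD1_c0 LD2_c8 LD3_c19)) :=
  Lre_g IH (LK LD1_c0 LD2_c3 LD3_c49) (LK LD1_c0 LD2_c8 LD3_c19) Lrfl Lrfl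
theorem f4461 : Led Lsl_bt (LP (LK LD1_c0 LD2_c0 LD3_c53)) = (LP (LK LD1_c0 LD2_c1 LD3_c36)) :=
  Lre_b IH (LK LD1_c0 LD2_c0 LD3_c53) (LK LD1_c0 LD2_c1 LD3_c36) Lrfl Lrfl
theorem f20016 : Led Lsl_bt (LP (LK LD1_c0 LD2_c1 LD3_c61)) = (LP (LK LD1_c0 LD2_c4 LD3_c11)) :=
  Lgr Lrot127 (Lpr_bf (f20008 IH) (Lpn (LP (LK LD1_c0 LD2_c4 LD3_c11))))
theorem f24966 : Led Lsl_cf (LP (LK LD1_c0 LD2_c8 LD3_c19)) = (LP (LK LD1_c0 LD2_c9 LD3_c2)) :=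
  Lgr Lrot163 (Lpe (f24960 IH) (Lpe (f7147 IH) (Lpr_gf (f24948 IH) (Lpe (f4461 IH) (Lpr_ct (f187 IH) (Lpe (f12075 IH) (Lpe (f3830 IH) (Lpr_bt (f20016 IH) (Lpe (f9668 IH) (Lpr_bf (f9705 IH) (Lpn (LP (LK LD1_c0 LD2_c9 LD3_c2)))))))))))))
theorem f25735 : Led Lsl_bf (LP (LK LD1_c0 LD2_c2 LD3_c49)) = (LP (LK LD1_c0 LD2_c1 LD3_c39)) :=
  Lgr Lrot34 (Lpr_gf (f25722 IH) (Lpe (f13611 IH) (Lpr_ct (f13625 IH) (Lpe (f20956 IH) (Lpe (f7366 IH) (Lpe (f9668 IH) (Lpr_bf (f9705 IH) (Lpe (f24966 IH) (Lpe (f24960 IH) (Lpe (f7147 IH) (Lpn (LP (LK LD1_c0 LD2_c1 LD3_c39)))))))))))))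
theorem f20256 : Led Lsl_dt (LP (LK LD1_c0 LD2_c2 LD3_c49)) = (LP (LK LD1_c0 LD2_c1 LD3_c9)) :=
  Lre_d IH (LK LD1_c0 LD2_c2 LD3_c49) (LK LD1_c0 LD2_c1 LD3_c9) Lrfl Lrfl
theorem f3969 : Led Lsl_dt (LP (LK LD1_c0 LD2_c0 LD3_c36)) = (LP (LK LD1_c0 LD2_c1 LD3_c39)) :=
  Lre_d IH (LK LD1_c0 LD2_c0 LD3_c36) (LK LD1_c0 LD2_c1 LD3_c39) Lrfl Lrfl
def v70 : LQ := Led Lsl_bt (LP (LK LD1_c0 LD2_c0 LD3_c36))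
theorem f7129 : Led Lsl_bt (LP (LK LD1_c0 LD2_c0 LD3_c36)) = v70 :=
  Lrfl
theorem f7130 : Led Lsl_bf (LP (LK LD1_c0 LD2_c0 LD3_c36)) = v70 :=
  Lgr Lrot24 (Lpr_bt (f7129 IH) (Lpn v70))
theorem f25767 : (LP (LK LD1_c0 LD2_c1 LD3_c9)) = v70 :=
  (Llr Lrot79 (Lpe (f20256 IH) (Lpr_bf (f25735 IH) (Lpe (f3969 IH) (Lpr_bf (f7130 IH) (Lpn v70)))))).symm
def v71 : LQ := Led Lsl_et (LP (LK LD1_c0 LD2_c0 LD3_c36))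
theorem f7138 : Led Lsl_et (LP (LK LD1_c0 LD2_c0 LD3_c36)) = v71 :=
  Lrfl
theorem f25770 : v73 = v71 :=
  (Llr Lrot96 (Lpe (f7153 IH) (Lpr_et (f7161 IH) (Lpqs (f20991 IH) (Lpqs (f25767 IH) (Lpe (f7130 IH) (Lpr_et (f7138 IH) (Lpn v71)))))))).symm
def v68 : LQ := Led Lsl_gf (LP (LK LD1_c0 LD2_c0 LD3_c35))
theorem f7097 : Led Lsl_gf (LP (LK LD1_c0 LD2_c0 LD3_c35)) = v68 :=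
  Lrfl
theorem f6975 : Led Lsl_gt (LP (LK LD1_c0 LD2_c1 LD3_c10)) = (LP (LK LD1_c0 LD2_c0 LD3_c26)) :=
  Lre_g IH (LK LD1_c0 LD2_c1 LD3_c10) (LK LD1_c0 LD2_c0 LD3_c26) Lrfl Lrfl
theorem f3967 : Led Lsl_et (LP (LK LD1_c0 LD2_c0 LD3_c33)) = (LP (LK LD1_c0 LD2_c1 LD3_c29)) :=
  Lre_e IH (LK LD1_c0 LD2_c0 LD3_c33) (LK LD1_c0 LD2_c1 LD3_c29) Lrfl Lrfl
theorem f26331 : v68 = (LP (LK LD1_c0 LD2_c1 LD3_c29)) :=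
  (Llr Lrot138 (Lpe (f7097 IH) (Lpr_dt (f7074 IH) (Lpe (f24948 IH) (Lpe (f3969 IH) (Lpr_et (f7138 IH) (Lpq (f25770 IH) (Lpq (f26321 IH) (Lpr_gt (f6975 IH) (Lpe (f455 IH) (Lpr_dt (f454 IH) (Lpr_gt (f6971 IH) (Lpqs (f7252 IH) (Lpe (f3963 IH) (Lpr_et (f3967 IH) (Lpn (LP (LK LD1_c0 LD2_c1 LD3_c29)))))))))))))))))).symm
theorem f133 : Led Lsl_gt (LP (LK LD1_c0 LD2_c0 LD3_c35)) = (LP (LK LD1_c0 LD2_c1 LD3_c35)) :=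
  Lre_g IH (LK LD1_c0 LD2_c0 LD3_c35) (LK LD1_c0 LD2_c1 LD3_c35) Lrfl Lrfl
theorem f26343 : Led Lsl_at (LP (LK LD1_c0 LD2_c2 LD3_c45)) = (LP (LK LD1_c0 LD2_c1 LD3_c35)) :=
  Lgr Lrot26 (Lpr_ff (f26337 IH) (Lpq (f26331 IH) (Lpe (f7097 IH) (Lpr_gt (f133 IH) (Lpn (LP (LK LD1_c0 LD2_c1 LD3_c35)))))))
theorem f20610 : Led Lsl_ct (LP (LK LD1_c0 LD2_c3 LD3_c42)) = (LP (LK LD1_c0 LD2_c1 LD3_c35)) :=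
  Lre_c IH (LK LD1_c0 LD2_c3 LD3_c42) (LK LD1_c0 LD2_c1 LD3_c35) Lrfl Lrfl
theorem f20609 : Led Lsl_dt (LP (LK LD1_c0 LD2_c8 LD3_c2)) = (LP (LK LD1_c0 LD2_c3 LD3_c42)) :=
  Lre_d IH (LK LD1_c0 LD2_c8 LD3_c2) (LK LD1_c0 LD2_c3 LD3_c42) Lrfl Lrfl
theorem f134 : Led Lsl_ct (LP (LK LD1_c0 LD2_c1 LD3_c35)) = (LP (LK LD1_c0 LD2_c3 LD3_c42)) :=
  Lre_c IH (LK LD1_c0 LD2_c1 LD3_c35) (LK LD1_c0 LD2_c3 LD3_c42) Lrfl Lrfl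
theorem f20606 : Led Lsl_dt (LP (LK LD1_c0 LD2_c3 LD3_c42)) = (LP (LK LD1_c0 LD2_c8 LD3_c2)) :=
  Lre_d IH (LK LD1_c0 LD2_c3 LD3_c42) (LK LD1_c0 LD2_c8 LD3_c2) Lrfl Lrfl
theorem f6722 : Led Lsl_gt (LP (LK LD1_c0 LD2_c5 LD3_c55)) = (LP (LK LD1_c0 LD2_c3 LD3_c27)) :=
  Lre_g IH (LK LD1_c0 LD2_c5 LD3_c55) (LK LD1_c0 LD2_c3 LD3_c27) Lrfl Lrfl
theorem f20542 : Led Lsl_ct (LP (LK LD1_c0 LD2_c3 LD3_c27)) = (LP (LK LD1_c0 LD2_c7 LD3_c41)) :=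
  Lre_c IH (LK LD1_c0 LD2_c3 LD3_c27) (LK LD1_c0 LD2_c7 LD3_c41) Lrfl Lrfl
theorem f20543 : Led Lsl_gt (LP (LK LD1_c0 LD2_c7 LD3_c41)) = (LP (LK LD1_c0 LD2_c13 LD3_c1)) :=
  Lre_g IH (LK LD1_c0 LD2_c7 LD3_c41) (LK LD1_c0 LD2_c13 LD3_c1) Lrfl Lrfl
theorem f20607 : Led Lsl_cf (LP (LK LD1_c0 LD2_c8 LD3_c2)) = (LP (LK LD1_c0 LD2_c13 LD3_c1)) :=
  Lgr Lrot99 (Lpe (f20606 IH) (Lpe (f134 IH) (Lpe (f133 IH) (Lpe (f101 IH) (Lpr_gf (f20598 IH) (Lpe (f20251 IH) (Lpr_gt (f6722 IH) (Lpr_ct (f20542 IH) (Lpr_gt (f20543 IH) (Lpn (LP (LK LD1_c0 LD2_c13 LD3_c1))))))))))))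
theorem f25706 : Led Lsl_et (LP (LK LD1_c0 LD2_c8 LD3_c18)) = (LP (LK LD1_c0 LD2_c3 LD3_c48)) :=
  Lre_e IH (LK LD1_c0 LD2_c8 LD3_c18) (LK LD1_c0 LD2_c3 LD3_c48) Lrfl Lrfl
theorem f9553 : Led Lsl_at (LP (LK LD1_c0 LD2_c2 LD3_c47)) = (LP (LK LD1_c0 LD2_c1 LD3_c37)) :=
  Lre_a IH (LK LD1_c0 LD2_c2 LD3_c47) (LK LD1_c0 LD2_c1 LD3_c37) Lrfl Lrfl
theorem f25147 : Led Lsl_dt (LP (LK LD1_c0 LD2_c3 LD3_c48)) = (LP (LK LD1_c0 LD2_c2 LD3_c47)) :=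
  Lgr Lrot44 (Lpr_af (f24958 IH) (Lpe (f20078 IH) (Lpe (f9553 IH) (Lpn (LP (LK LD1_c0 LD2_c2 LD3_c47))))))
theorem f7110 : Led Lsl_ct (LP (LK LD1_c0 LD2_c2 LD3_c47)) = (LP (LK LD1_c0 LD2_c6 LD3_c3)) :=
  Lre_c IH (LK LD1_c0 LD2_c2 LD3_c47) (LK LD1_c0 LD2_c6 LD3_c3) Lrfl Lrfl
theorem f7111 : Led Lsl_ct (LP (LK LD1_c0 LD2_c6 LD3_c3)) = (LP (LK LD1_c0 LD2_c2 LD3_c47)) :=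
  Lre_c IH (LK LD1_c0 LD2_c6 LD3_c3) (LK LD1_c0 LD2_c2 LD3_c47) Lrfl Lrfl
theorem f9549 : Led Lsl_ef (LP (LK LD1_c0 LD2_c2 LD3_c47)) = (LP (LK LD1_c0 LD2_c2 LD3_c47)) :=
  Lgr Lrot28 (Lpr_ct (f7110 IH) (Lpr_et (f9543 IH) (Lpr_ct (f7111 IH) (Lpn (LP (LK LD1_c0 LD2_c2 LD3_c47))))))
theorem f25707 : Led Lsl_dt (LP (LK LD1_c0 LD2_c2 LD3_c47)) = (LP (LK LD1_c0 LD2_c3 LD3_c48)) :=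
  Lgr Lrot77 (Lpr_ef (f9549 IH) (Lpe (f25147 IH) (Lpe (f25706 IH) (Lpr_df (f25698 IH) (Lpe (f25149 IH) (Lpn (LP (LK LD1_c0 LD2_c3 LD3_c48))))))))
theorem f5837 : Led Lsl_at (LP (LK LD1_c0 LD2_c1 LD3_c8)) = (LP (LK LD1_c0 LD2_c0 LD3_c35)) :=
  Lre_a IH (LK LD1_c0 LD2_c1 LD3_c8) (LK LD1_c0 LD2_c0 LD3_c35) Lrfl Lrfl
theorem f6988 : Led Lsl_ft (LP (LK LD1_c0 LD2_c2 LD3_c47)) = (LP (LK LD1_c0 LD2_c1 LD3_c8)) :=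
  Lre_f IH (LK LD1_c0 LD2_c2 LD3_c47) (LK LD1_c0 LD2_c1 LD3_c8) Lrfl Lrfl
theorem f7098 : Led Lsl_gt (LP (LK LD1_c0 LD2_c2 LD3_c47)) = v68 :=
  Lgr Lrot5 (Lpr_ft (f6988 IH) (Lpr_at (f5837 IH) (Lpr_gf (f7097 IH) (Lpn v68))))
def v75 : LQ := Led Lsl_et (LP (LK LD1_c0 LD2_c0 LD3_c39))
theorem f7171 : Led Lsl_et (LP (LK LD1_c0 LD2_c0 LD3_c39)) = v75 :=
  Lrfl
theorem f7175 : Led Lsl_ef (LP (LK LD1_c0 LD2_c0 LD3_c39)) = v75 :=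
  Lgr Lrot88 (Lpr_et (f7171 IH) (Lpn v75))
theorem f41 : Led Lsl_ft (LP (LK LD1_c0 LD2_c0 LD3_c11)) = (LP (LK LD1_c0 LD2_c0 LD3_c39)) :=
  Lre_f IH (LK LD1_c0 LD2_c0 LD3_c11) (LK LD1_c0 LD2_c0 LD3_c39) Lrfl Lrfl
theorem f29 : Led Lsl_et (LP (LK LD1_c0 LD2_c0 LD3_c2)) = (LP (LK LD1_c0 LD2_c0 LD3_c11)) :=
  Lre_e IH (LK LD1_c0 LD2_c0 LD3_c2) (LK LD1_c0 LD2_c0 LD3_c11) Lrfl Lrfl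
def v38 : LQ := Led Lsl_et v1
theorem f6734 : Led Lsl_et v1 = v38 :=
  Lrfl
theorem f6736 : Led Lsl_ef v1 = v38 :=
  Lgr Lrot88 (Lpr_et (f6734 IH) (Lpn v38))
theorem f7176 : Led Lsl_ff v38 = v75 :=
  Lgr Lrot72 (Lpe (f6736 IH) (Lpe (f36 IH) (Lpr_et (f29 IH) (Lpr_ft (f41 IH) (Lpr_et (f7171 IH) (Lpn v75))))))
theorem f7180 : Led Lsl_ft v38 = v75 :=
  Lgr Lrot48 (Lpr_ff (f7176 IH) (Lpn v75))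
theorem f7225 : v38 = (LP (LK LD1_c0 LD2_c0 LD3_c11)) :=
  Lefun (Lecon (f6734 IH) (f7207 IH)) (f29 IH)
theorem f7256 : v75 = (LP (LK LD1_c0 LD2_c0 LD3_c39)) :=
  Lefun (Lecon (f7180 IH) (f7225 IH)) (f41 IH)
theorem f26330 : Led Lsl_dt v68 = (LP (LK LD1_c0 LD2_c2 LD3_c52)) :=
  Lgr Lrot171 (Lpe (f7098 IH) (Lpr_ef (f9549 IH) (Lpr_dt (f25707 IH) (Lpe (f3970 IH) (Lpe (f3969 IH) (Lpr_et (f7138 IH) (Lpq (f25770 IH) (Lpq (f26321 IH) (Lpe (f7168 IH) (Lpr_ef (f7175 IH) (Lpqs (f7256 IH) (Lpr_dt (f7170 IH) (Lpe (f7178 IH) (Lpn (LP (LK LD1_c0 LD2_c2 LD3_c52))))))))))))))))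
theorem f26053 : Led Lsl_dt (LP (LK LD1_c0 LD2_c6 LD3_c13)) = (LP (LK LD1_c0 LD2_c13 LD3_c38)) :=
  Lre_d IH (LK LD1_c0 LD2_c6 LD3_c13) (LK LD1_c0 LD2_c13 LD3_c38) Lrfl Lrfl
theorem f26345 : Led Lsl_cf (LP (LK LD1_c0 LD2_c29 LD3_c37)) = (LP (LK LD1_c0 LD2_c13 LD3_c38)) :=
  Lgr Lrot116 (Lpr_dt (f23001 IH) (Lpe (f20607 IH) (Lpr_dt (f20609 IH) (Lpr_ct (f20610 IH) (Lpe (f26343 IH) (Lpr_ff (f26337 IH) (Lpq (f26331 IH) (Lpr_dt (f26330 IH) (Lpr_ct (f13604 IH) (Lpr_dt (f26053 IH) (Lpn (LP (LK LD1_c0 LD2_c13 LD3_c38)))))))))))))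
theorem f23023 : Led Lsl_dt (LP (LK LD1_c0 LD2_c13 LD3_c1)) = (LP (LK LD1_c0 LD2_c29 LD3_c37)) :=
  Lre_d IH (LK LD1_c0 LD2_c13 LD3_c1) (LK LD1_c0 LD2_c29 LD3_c37) Lrfl Lrfl
theorem f21208 : Led Lsl_dt (LP (LK LD1_c0 LD2_c13 LD3_c53)) = (LP (LK LD1_c0 LD2_c7 LD3_c41)) :=
  Lre_d IH (LK LD1_c0 LD2_c13 LD3_c53) (LK LD1_c0 LD2_c7 LD3_c41) Lrfl Lrfl
theorem f21209 : Led Lsl_gt (LP (LK LD1_c0 LD2_c29 LD3_c44)) = (LP (LK LD1_c0 LD2_c13 LD3_c53)) :=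
  Lre_g IH (LK LD1_c0 LD2_c29 LD3_c44) (LK LD1_c0 LD2_c13 LD3_c53) Lrfl Lrfl
theorem f9719 : Led Lsl_at (LP (LK LD1_c0 LD2_c4 LD3_c15)) = (LP (LK LD1_c0 LD2_c9 LD3_c0)) :=
  Lre_a IH (LK LD1_c0 LD2_c4 LD3_c15) (LK LD1_c0 LD2_c9 LD3_c0) Lrfl Lrfl
theorem f13453 : Led Lsl_af (LP (LK LD1_c0 LD2_c9 LD3_c10)) = (LP (LK LD1_c0 LD2_c8 LD3_c34)) :=
  Lgr Lrot68 (Lpr_ct (f13452 IH) (Lpr_at (f9719 IH) (Lpr_ct (f13450 IH) (Lpn (LP (LK LD1_c0 LD2_c8 LD3_c34))))))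
theorem f26043 : Led Lsl_gf (LP (LK LD1_c0 LD2_c6 LD3_c13)) = (LP (LK LD1_c0 LD2_c8 LD3_c61)) :=
  Lgr Lrot47 (Lpr_gt (f26023 IH) (Lpr_af (f13453 IH) (Lpe (f13470 IH) (Lpn (LP (LK LD1_c0 LD2_c8 LD3_c61))))))
theorem f26357 : Led Lsl_ct (LP (LK LD1_c0 LD2_c29 LD3_c44)) = (LP (LK LD1_c0 LD2_c13 LD3_c34)) :=
  Lgr Lrot8 (Lpr_gt (f21209 IH) (Lpr_dt (f21208 IH) (Lpr_gt (f20543 IH) (Lpr_dt (f23023 IH) (Lpr_cf (f26345 IH) (Lpe (f26053 IH) (Lpr_gf (f26043 IH) (Lpe (f9743 IH) (Lpe (f26253 IH) (Lpn (LP (LK LD1_c0 LD2_c13 LD3_c34))))))))))))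
theorem f20082 : Led Lsl_gt (LP (LK LD1_c0 LD2_c13 LD3_c3)) = (LP (LK LD1_c0 LD2_c29 LD3_c44)) :=
  Lre_g IH (LK LD1_c0 LD2_c13 LD3_c3) (LK LD1_c0 LD2_c29 LD3_c44) Lrfl Lrfl
theorem f26378 : Led Lsl_bt (LP (LK LD1_c0 LD2_c29 LD3_c42)) = (LP (LK LD1_c0 LD2_c13 LD3_c3)) :=
  Lre_b IH (LK LD1_c0 LD2_c29 LD3_c42) (LK LD1_c0 LD2_c13 LD3_c3) Lrfl Lrfl
theorem f26379 : Led Lsl_ct (LP (LK LD1_c0 LD2_c29 LD3_c42)) = (LP (LK LD1_c1 LD2_c5 LD3_c1)) :=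
  Lre_c IH (LK LD1_c0 LD2_c29 LD3_c42) (LK LD1_c1 LD2_c5 LD3_c1) Lrfl Lrfl
theorem f26380 : Led Lsl_gt (LP (LK LD1_c2 LD2_c16 LD3_c9)) = (LP (LK LD1_c1 LD2_c5 LD3_c1)) :=
  Lre_g IH (LK LD1_c2 LD2_c16 LD3_c9) (LK LD1_c1 LD2_c5 LD3_c1) Lrfl Lrfl
theorem f26381 : Led Lsl_ct (LP (LK LD1_c4 LD2_c38 LD3_c4)) = (LP (LK LD1_c2 LD2_c16 LD3_c9)) :=
  Lre_c IH (LK LD1_c4 LD2_c38 LD3_c4) (LK LD1_c2 LD2_c16 LD3_c9) Lrfl Lrfl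
theorem f20278 : Led Lsl_ct (LP (LK LD1_c0 LD2_c32 LD3_c57)) = (LP (LK LD1_c0 LD2_c20 LD3_c1)) :=
  Lre_c IH (LK LD1_c0 LD2_c32 LD3_c57) (LK LD1_c0 LD2_c20 LD3_c1) Lrfl Lrfl
theorem f23454 : Led Lsl_bt (LP (LK LD1_c0 LD2_c32 LD3_c57)) = (LP (LK LD1_c1 LD2_c11 LD3_c0)) :=
  Lre_b IH (LK LD1_c0 LD2_c32 LD3_c57) (LK LD1_c1 LD2_c11 LD3_c0) Lrfl Lrfl
theorem f23455 : Led Lsl_gt (LP (LK LD1_c1 LD2_c11 LD3_c0)) = (LP (LK LD1_c2 LD2_c27 LD3_c30)) :=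
  Lre_g IH (LK LD1_c1 LD2_c11 LD3_c0) (LK LD1_c2 LD2_c27 LD3_c30) Lrfl Lrfl
theorem f26382 : Led Lsl_bt (LP (LK LD1_c4 LD2_c38 LD3_c4)) = (LP (LK LD1_c2 LD2_c27 LD3_c30)) :=
  Lgr Lrot92 (Lpr_ct (f26381 IH) (Lpr_gt (f26380 IH) (Lpe (f26379 IH) (Lpr_bt (f26378 IH) (Lpr_gt (f20082 IH) (Lpr_ct (f26357 IH) (Lpr_gt (f26253 IH) (Lpe (f20278 IH) (Lpr_bt (f23454 IH) (Lpr_gt (f23455 IH) (Lpn (LP (LK LD1_c2 LD2_c27 LD3_c30)))))))))))))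
theorem f14019 : Led Lsl_gt (LP (LK LD1_c1 LD2_c35 LD3_c26)) = (LP (LK LD1_c2 LD2_c16 LD3_c9)) :=
  Lre_g IH (LK LD1_c1 LD2_c35 LD3_c26) (LK LD1_c2 LD2_c16 LD3_c9) Lrfl Lrfl
theorem f26400 : Led Lsl_ct (LP (LK LD1_c0 LD2_c44 LD3_c46)) = (LP (LK LD1_c1 LD2_c35 LD3_c26)) :=
  Lre_c IH (LK LD1_c0 LD2_c44 LD3_c46) (LK LD1_c1 LD2_c35 LD3_c26) Lrfl Lrfl
theorem f26403 : Led Lsl_bt (LP (LK LD1_c0 LD2_c44 LD3_c46)) = (LP (LK LD1_c1 LD2_c8 LD3_c19)) :=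
  Lre_b IH (LK LD1_c0 LD2_c44 LD3_c46) (LK LD1_c1 LD2_c8 LD3_c19) Lrfl Lrfl
theorem f26404 : Led Lsl_gt (LP (LK LD1_c0 LD2_c38 LD3_c48)) = (LP (LK LD1_c1 LD2_c8 LD3_c19)) :=
  Lre_g IH (LK LD1_c0 LD2_c38 LD3_c48) (LK LD1_c1 LD2_c8 LD3_c19) Lrfl Lrfl
theorem f26405 : Led Lsl_bt (LP (LK LD1_c1 LD2_c23 LD3_c61)) = (LP (LK LD1_c0 LD2_c38 LD3_c48)) :=
  Lre_b IH (LK LD1_c1 LD2_c23 LD3_c61) (LK LD1_c0 LD2_c38 LD3_c48) Lrfl Lrfl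
theorem f26406 : Led Lsl_ct (LP (LK LD1_c1 LD2_c23 LD3_c61)) = (LP (LK LD1_c2 LD2_c56 LD3_c9)) :=
  Lre_c IH (LK LD1_c1 LD2_c23 LD3_c61) (LK LD1_c2 LD2_c56 LD3_c9) Lrfl Lrfl
theorem f26396 : Led Lsl_gt (LP (LK LD1_c2 LD2_c27 LD3_c30)) = (LP (LK LD1_c1 LD2_c10 LD3_c57)) :=
  Lre_g IH (LK LD1_c2 LD2_c27 LD3_c30) (LK LD1_c1 LD2_c10 LD3_c57) Lrfl Lrfl
theorem f26407 : Led Lsl_ct (LP (LK LD1_c1 LD2_c10 LD3_c57)) = (LP (LK LD1_c2 LD2_c27 LD3_c31)) :=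
  Lre_c IH (LK LD1_c1 LD2_c10 LD3_c57) (LK LD1_c2 LD2_c27 LD3_c31) Lrfl Lrfl
theorem f26408 : Led Lsl_gf (LP (LK LD1_c2 LD2_c56 LD3_c9)) = (LP (LK LD1_c2 LD2_c27 LD3_c31)) :=
  Lgr Lrot129 (Lpe (f26406 IH) (Lpr_bt (f26405 IH) (Lpr_gt (f26404 IH) (Lpe (f26403 IH) (Lpr_ct (f26400 IH) (Lpr_gt (f14019 IH) (Lpe (f26381 IH) (Lpr_bt (f26382 IH) (Lpr_gt (f26396 IH) (Lpr_ct (f26407 IH) (Lpn (LP (LK LD1_c2 LD2_c27 LD3_c31)))))))))))))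
theorem f26411 : Led Lsl_ft (LP (LK LD1_c2 LD2_c27 LD3_c31)) = (LP (LK LD1_c4 LD2_c58 LD3_c13)) :=
  Lre_f IH (LK LD1_c2 LD2_c27 LD3_c31) (LK LD1_c4 LD2_c58 LD3_c13) Lrfl Lrfl
theorem f26412 : Led Lsl_at (LP (LK LD1_c4 LD2_c58 LD3_c13)) = (LP (LK LD1_c2 LD2_c27 LD3_c43)) :=
  Lre_a IH (LK LD1_c4 LD2_c58 LD3_c13) (LK LD1_c2 LD2_c27 LD3_c43) Lrfl Lrfl
theorem f26413 : Led Lsl_gt (LP (LK LD1_c2 LD2_c56 LD3_c9)) = (LP (LK LD1_c2 LD2_c27 LD3_c43)) :=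
  Lgr Lrot46 (Lpr_gf (f26408 IH) (Lpr_ft (f26411 IH) (Lpr_at (f26412 IH) (Lpn (LP (LK LD1_c2 LD2_c27 LD3_c43))))))
theorem f23682 : Led Lsl_gt (LP (LK LD1_c0 LD2_c17 LD3_c14)) = (LP (LK LD1_c0 LD2_c38 LD3_c48)) :=
  Lre_g IH (LK LD1_c0 LD2_c17 LD3_c14) (LK LD1_c0 LD2_c38 LD3_c48) Lrfl Lrfl
theorem f23681 : Led Lsl_bt (LP (LK LD1_c0 LD2_c7 LD3_c40)) = (LP (LK LD1_c0 LD2_c17 LD3_c14)) :=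
  Lre_b IH (LK LD1_c0 LD2_c7 LD3_c40) (LK LD1_c0 LD2_c17 LD3_c14) Lrfl Lrfl
theorem f13544 : Led Lsl_ct (LP (LK LD1_c0 LD2_c7 LD3_c40)) = (LP (LK LD1_c0 LD2_c13 LD3_c55)) :=
  Lre_c IH (LK LD1_c0 LD2_c7 LD3_c40) (LK LD1_c0 LD2_c13 LD3_c55) Lrfl Lrfl
theorem f20425 : Led Lsl_ct (LP (LK LD1_c1 LD2_c11 LD3_c0)) = (LP (LK LD1_c2 LD2_c27 LD3_c43)) :=
  Lre_c IH (LK LD1_c1 LD2_c11 LD3_c0) (LK LD1_c2 LD2_c27 LD3_c43) Lrfl Lrfl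
theorem f20420 : Led Lsl_bt (LP (LK LD1_c1 LD2_c11 LD3_c0)) = (LP (LK LD1_c0 LD2_c32 LD3_c57)) :=
  Lre_b IH (LK LD1_c1 LD2_c11 LD3_c0) (LK LD1_c0 LD2_c32 LD3_c57) Lrfl Lrfl
theorem f20269 : Led Lsl_dt (LP (LK LD1_c0 LD2_c3 LD3_c5)) = (LP (LK LD1_c0 LD2_c6 LD3_c48)) :=
  Lre_d IH (LK LD1_c0 LD2_c3 LD3_c5) (LK LD1_c0 LD2_c6 LD3_c48) Lrfl Lrfl
theorem f13478 : Led Lsl_ct (LP (LK LD1_c0 LD2_c14 LD3_c48)) = (LP (LK LD1_c0 LD2_c6 LD3_c48)) :=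
  Lre_c IH (LK LD1_c0 LD2_c14 LD3_c48) (LK LD1_c0 LD2_c6 LD3_c48) Lrfl Lrfl
theorem f20270 : Led Lsl_dt (LP (LK LD1_c0 LD2_c1 LD3_c24)) = (LP (LK LD1_c0 LD2_c0 LD3_c31)) :=
  Lre_d IH (LK LD1_c0 LD2_c1 LD3_c24) (LK LD1_c0 LD2_c0 LD3_c31) Lrfl Lrfl
theorem f8307 : Led Lsl_ct (LP (LK LD1_c0 LD2_c3 LD3_c24)) = (LP (LK LD1_c0 LD2_c7 LD3_c33)) :=
  Lre_c IH (LK LD1_c0 LD2_c3 LD3_c24) (LK LD1_c0 LD2_c7 LD3_c33) Lrfl Lrfl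
theorem f20271 : Led Lsl_gf (LP (LK LD1_c0 LD2_c14 LD3_c48)) = (LP (LK LD1_c0 LD2_c7 LD3_c33)) :=
  Lgr Lrot104 (Lpr_ct (f13478 IH) (Lpe (f20269 IH) (Lpe (f12616 IH) (Lpe (f20036 IH) (Lpr_cf (f20259 IH) (Lpe (f6703 IH) (Lpe (f20270 IH) (Lpr_gt (f2925 IH) (Lpr_ct (f8307 IH) (Lpn (LP (LK LD1_c0 LD2_c7 LD3_c33))))))))))))
theorem f20273 : Led Lsl_dt (LP (LK LD1_c0 LD2_c14 LD3_c48)) = (LP (LK LD1_c0 LD2_c32 LD3_c57)) :=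
  Lre_d IH (LK LD1_c0 LD2_c14 LD3_c48) (LK LD1_c0 LD2_c32 LD3_c57) Lrfl Lrfl
theorem f20274 : Led Lsl_ct (LP (LK LD1_c0 LD2_c7 LD3_c31)) = (LP (LK LD1_c0 LD2_c3 LD3_c23)) :=
  Lre_c IH (LK LD1_c0 LD2_c7 LD3_c31) (LK LD1_c0 LD2_c3 LD3_c23) Lrfl Lrfl
theorem f20275 : Led Lsl_dt (LP (LK LD1_c0 LD2_c16 LD3_c53)) = (LP (LK LD1_c0 LD2_c7 LD3_c31)) :=
  Lre_d IH (LK LD1_c0 LD2_c16 LD3_c53) (LK LD1_c0 LD2_c7 LD3_c31) Lrfl Lrfl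
theorem f20276 : Led Lsl_gt (LP (LK LD1_c0 LD2_c32 LD3_c57)) = (LP (LK LD1_c0 LD2_c16 LD3_c53)) :=
  Lgr Lrot49 (Lpe (f20273 IH) (Lpr_gf (f20271 IH) (Lpe (f8307 IH) (Lpr_gt (f8313 IH) (Lpr_dt (f8314 IH) (Lpr_gt (f7137 IH) (Lpr_dt (f16655 IH) (Lpe (f20274 IH) (Lpe (f20275 IH) (Lpn (LP (LK LD1_c0 LD2_c16 LD3_c53))))))))))))
theorem f26459 : Led Lsl_cf (LP (LK LD1_c0 LD2_c8 LD3_c53)) = (LP (LK LD1_c0 LD2_c16 LD3_c53)) :=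
  Lgr Lrot125 (Lpr_gt (f24025 IH) (Lpe (f13544 IH) (Lpr_bt (f23681 IH) (Lpr_gt (f23682 IH) (Lpe (f26405 IH) (Lpr_ct (f26406 IH) (Lpr_gt (f26413 IH) (Lpe (f20425 IH) (Lpr_bt (f20420 IH) (Lpr_gt (f20276 IH) (Lpn (LP (LK LD1_c0 LD2_c16 LD3_c53)))))))))))))
theorem f23680 : Led Lsl_ct (LP (LK LD1_c0 LD2_c13 LD3_c55)) = (LP (LK LD1_c0 LD2_c7 LD3_c40)) :=
  Lre_c IH (LK LD1_c0 LD2_c13 LD3_c55) (LK LD1_c0 LD2_c7 LD3_c40) Lrfl Lrfl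
theorem f23901 : Led Lsl_dt (LP (LK LD1_c0 LD2_c7 LD3_c40)) = (LP (LK LD1_c0 LD2_c3 LD3_c26)) :=
  Lre_d IH (LK LD1_c0 LD2_c7 LD3_c40) (LK LD1_c0 LD2_c3 LD3_c26) Lrfl Lrfl
theorem f8326 : Led Lsl_ct (LP (LK LD1_c0 LD2_c1 LD3_c24)) = (LP (LK LD1_c0 LD2_c3 LD3_c26)) :=
  Lre_c IH (LK LD1_c0 LD2_c1 LD3_c24) (LK LD1_c0 LD2_c3 LD3_c26) Lrfl Lrfl
theorem f22490 : Led Lsl_ct (LP (LK LD1_c0 LD2_c7 LD3_c35)) = (LP (LK LD1_c0 LD2_c3 LD3_c25)) :=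
  Lre_c IH (LK LD1_c0 LD2_c7 LD3_c35) (LK LD1_c0 LD2_c3 LD3_c25) Lrfl Lrfl
theorem f26476 : Led Lsl_gf (LP (LK LD1_c0 LD2_c7 LD3_c35)) = (LP (LK LD1_c0 LD2_c14 LD3_c48)) :=
  Lgr Lrot147 (Lpr_ct (f22490 IH) (Lpr_gt (f248 IH) (Lpr_ct (f8326 IH) (Lpe (f23901 IH) (Lpe (f23680 IH) (Lpe (f24025 IH) (Lpr_cf (f26459 IH) (Lpe (f20276 IH) (Lpe (f20273 IH) (Lpn (LP (LK LD1_c0 LD2_c14 LD3_c48))))))))))))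
theorem f8172 : Led Lsl_bt (LP (LK LD1_c0 LD2_c1 LD3_c29)) = (LP (LK LD1_c0 LD2_c1 LD3_c27)) :=
  Lgr Lrot127 (Lpr_bf (f8169 IH) (Lpn (LP (LK LD1_c0 LD2_c1 LD3_c27))))
theorem f12686 : Led Lsl_ct (LP (LK LD1_c0 LD2_c1 LD3_c60)) = (LP (LK LD1_c0 LD2_c4 LD3_c20)) :=
  Lre_c IH (LK LD1_c0 LD2_c1 LD3_c60) (LK LD1_c0 LD2_c4 LD3_c20) Lrfl Lrfl
theorem f13419 : Led Lsl_gt (LP (LK LD1_c0 LD2_c1 LD3_c56)) = (LP (LK LD1_c0 LD2_c1 LD3_c58)) :=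
  Lgr Lrot150 (Lpr_cf (f12756 IH) (Lpe (f56 IH) (Lpe (f129 IH) (Lpr_gt (f12679 IH) (Lpr_ct (f12686 IH) (Lpe (f12684 IH) (Lpr_ct (f171 IH) (Lpe (f165 IH) (Lpr_cf (f117 IH) (Lpn (LP (LK LD1_c0 LD2_c1 LD3_c58))))))))))))
theorem f104 : Led Lsl_cf (LP (LK LD1_c0 LD2_c3 LD3_c36)) = (LP (LK LD1_c0 LD2_c1 LD3_c50)) :=
  Lgr Lrot97 (Lpr_bt (f102 IH) (Lpr_ct (f101 IH) (Lpr_bt (f100 IH) (Lpr_ct (f90 IH) (Lpr_bt (f103 IH) (Lpn (LP (LK LD1_c0 LD2_c1 LD3_c50))))))))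
theorem f20988 : Led Lsl_gt (LP (LK LD1_c0 LD2_c3 LD3_c32)) = (LP (LK LD1_c0 LD2_c3 LD3_c36)) :=
  Lgr Lrot65 (Lpe (f8174 IH) (Lpr_bt (f8172 IH) (Lpr_gf (f20972 IH) (Lpe (f160 IH) (Lpr_ct (f163 IH) (Lpe (f13419 IH) (Lpr_cf (f12756 IH) (Lpe (f56 IH) (Lpe (f141 IH) (Lpe (f104 IH) (Lpn (LP (LK LD1_c0 LD2_c3 LD3_c36)))))))))))))
theorem f8141 : Led Lsl_dt (LP (LK LD1_c0 LD2_c3 LD3_c32)) = (LP (LK LD1_c0 LD2_c7 LD3_c51)) :=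
  Lre_d IH (LK LD1_c0 LD2_c3 LD3_c32) (LK LD1_c0 LD2_c7 LD3_c51) Lrfl Lrfl
theorem f20282 : Led Lsl_ct (LP (LK LD1_c0 LD2_c6 LD3_c48)) = (LP (LK LD1_c0 LD2_c14 LD3_c48)) :=
  Lre_c IH (LK LD1_c0 LD2_c6 LD3_c48) (LK LD1_c0 LD2_c14 LD3_c48) Lrfl Lrfl
theorem f26568 : Led Lsl_gt (LP (LK LD1_c0 LD2_c7 LD3_c51)) = (LP (LK LD1_c0 LD2_c6 LD3_c48)) :=
  Lgr Lrot9 (Lpe (f8141 IH) (Lpr_gt (f20988 IH) (Lpr_ct (f184 IH) (Lpr_gt (f131 IH) (Lpr_ct (f20079 IH) (Lpe (f23917 IH) (Lpe (f22490 IH) (Lpr_gf (f26476 IH) (Lpe (f20282 IH) (Lpn (LP (LK LD1_c0 LD2_c6 LD3_c48))))))))))))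
theorem f13477 : Led Lsl_dt (LP (LK LD1_c0 LD2_c32 LD3_c57)) = (LP (LK LD1_c0 LD2_c14 LD3_c48)) :=
  Lre_d IH (LK LD1_c0 LD2_c32 LD3_c57) (LK LD1_c0 LD2_c14 LD3_c48) Lrfl Lrfl
theorem f13476 : Led Lsl_ct (LP (LK LD1_c0 LD2_c20 LD3_c1)) = (LP (LK LD1_c0 LD2_c32 LD3_c57)) :=
  Lre_c IH (LK LD1_c0 LD2_c20 LD3_c1) (LK LD1_c0 LD2_c32 LD3_c57) Lrfl Lrfl
theorem f20307 : Led Lsl_gt (LP (LK LD1_c0 LD2_c5 LD3_c57)) = (LP (LK LD1_c0 LD2_c13 LD3_c0)) :=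
  Lre_g IH (LK LD1_c0 LD2_c5 LD3_c57) (LK LD1_c0 LD2_c13 LD3_c0) Lrfl Lrfl
theorem f26586 : Led Lsl_cf (LP (LK LD1_c0 LD2_c7 LD3_c51)) = (LP (LK LD1_c0 LD2_c13 LD3_c0)) :=
  Lgr Lrot169 (Lpr_gt (f26568 IH) (Lpr_ct (f20282 IH) (Lpe (f13477 IH) (Lpe (f13476 IH) (Lpe (f26253 IH) (Lpe (f26357 IH) (Lpe (f20082 IH) (Lpe (f23009 IH) (Lpr_gt (f20307 IH) (Lpn (LP (LK LD1_c0 LD2_c13 LD3_c0))))))))))))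
theorem f7112 : Led Lsl_gt (LP (LK LD1_c0 LD2_c3 LD3_c39)) = (LP (LK LD1_c0 LD2_c6 LD3_c3)) :=
  Lre_g IH (LK LD1_c0 LD2_c3 LD3_c39) (LK LD1_c0 LD2_c6 LD3_c3) Lrfl Lrfl
theorem f20188 : Led Lsl_ct (LP (LK LD1_c0 LD2_c2 LD3_c40)) = (LP (LK LD1_c0 LD2_c5 LD3_c57)) :=
  Lre_c IH (LK LD1_c0 LD2_c2 LD3_c40) (LK LD1_c0 LD2_c5 LD3_c57) Lrfl Lrfl
theorem f6844 : Led Lsl_gt (LP (LK LD1_c0 LD2_c5 LD3_c56)) = (LP (LK LD1_c0 LD2_c2 LD3_c40)) :=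
  Lre_g IH (LK LD1_c0 LD2_c5 LD3_c56) (LK LD1_c0 LD2_c2 LD3_c40) Lrfl Lrfl
theorem f26612 : Led Lsl_df (LP (LK LD1_c0 LD2_c3 LD3_c39)) = (LP (LK LD1_c0 LD2_c5 LD3_c56)) :=
  Lgr Lrot155 (Lpr_gt (f7112 IH) (Lpr_ct (f7111 IH) (Lpr_gt (f7098 IH) (Lpqs (f26331 IH) (Lpr_ct (f8174 IH) (Lpr_dt (f8141 IH) (Lpr_cf (f26586 IH) (Lpe (f20307 IH) (Lpe (f20188 IH) (Lpe (f6844 IH) (Lpn (LP (LK LD1_c0 LD2_c5 LD3_c56)))))))))))))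
theorem f9400 : Led Lsl_gt (LP (LK LD1_c0 LD2_c3 LD3_c27)) = (LP (LK LD1_c0 LD2_c5 LD3_c56)) :=
  Lre_g IH (LK LD1_c0 LD2_c3 LD3_c27) (LK LD1_c0 LD2_c5 LD3_c56) Lrfl Lrfl
theorem f9367 : Led Lsl_dt (LP (LK LD1_c0 LD2_c1 LD3_c25)) = (LP (LK LD1_c0 LD2_c3 LD3_c27)) :=
  Lre_d IH (LK LD1_c0 LD2_c1 LD3_c25) (LK LD1_c0 LD2_c3 LD3_c27) Lrfl Lrfl
theorem f20043 : Led Lsl_ct (LP (LK LD1_c0 LD2_c2 LD3_c38)) = (LP (LK LD1_c0 LD2_c1 LD3_c51)) :=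
  Lgr Lrot59 (Lpr_cf (f20040 IH) (Lpn (LP (LK LD1_c0 LD2_c1 LD3_c51))))
theorem f26620 : Led Lsl_cf (LP (LK LD1_c0 LD2_c3 LD3_c39)) = (LP (LK LD1_c0 LD2_c4 LD3_c16)) :=
  Lgr Lrot14 (Lpr_df (f26612 IH) (Lpe (f9400 IH) (Lpe (f9367 IH) (Lpe (f6726 IH) (Lpr_ct (f20043 IH) (Lpr_gt (f7307 IH) (Lpr_dt (f7298 IH) (Lpr_gt (f7308 IH) (Lpr_dt (f13429 IH) (Lpn (LP (LK LD1_c0 LD2_c4 LD3_c16))))))))))))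
theorem f205 : Led Lsl_gt (LP (LK LD1_c0 LD2_c1 LD3_c34)) = (LP (LK LD1_c0 LD2_c3 LD3_c39)) :=
  Lre_g IH (LK LD1_c0 LD2_c1 LD3_c34) (LK LD1_c0 LD2_c3 LD3_c39) Lrfl Lrfl
theorem f8180 : Led Lsl_ct (LP (LK LD1_c0 LD2_c1 LD3_c27)) = (LP (LK LD1_c0 LD2_c3 LD3_c30)) :=
  Lre_c IH (LK LD1_c0 LD2_c1 LD3_c27) (LK LD1_c0 LD2_c3 LD3_c30) Lrfl Lrfl
theorem f8181 : Led Lsl_gt (LP (LK LD1_c0 LD2_c7 LD3_c48)) = (LP (LK LD1_c0 LD2_c3 LD3_c30)) :=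
  Lre_g IH (LK LD1_c0 LD2_c7 LD3_c48) (LK LD1_c0 LD2_c3 LD3_c30) Lrfl Lrfl
theorem f26724 : Led Lsl_cf (LP (LK LD1_c0 LD2_c7 LD3_c48)) = (LP (LK LD1_c0 LD2_c4 LD3_c9)) :=
  Lgr Lrot160 (Lpr_gt (f8181 IH) (Lpe (f8180 IH) (Lpe (f8169 IH) (Lpq (f26331 IH) (Lpe (f7097 IH) (Lpr_ct (f182 IH) (Lpr_gt (f205 IH) (Lpr_cf (f26620 IH) (Lpr_bt (f135 IH) (Lpr_gt (f13419 IH) (Lpe (f162 IH) (Lpn (LP (LK LD1_c0 LD2_c4 LD3_c9))))))))))))))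
theorem f13633 : Led Lsl_ct (LP (LK LD1_c0 LD2_c1 LD3_c8)) = (LP (LK LD1_c0 LD2_c2 LD3_c44)) :=
  Lre_c IH (LK LD1_c0 LD2_c1 LD3_c8) (LK LD1_c0 LD2_c2 LD3_c44) Lrfl Lrfl
theorem f6974 : Led Lsl_dt (LP (LK LD1_c0 LD2_c1 LD3_c8)) = (LP (LK LD1_c0 LD2_c2 LD3_c46)) :=
  Lre_d IH (LK LD1_c0 LD2_c1 LD3_c8) (LK LD1_c0 LD2_c2 LD3_c46) Lrfl Lrfl
theorem f13629 : Led Lsl_dt (LP (LK LD1_c0 LD2_c2 LD3_c46)) = (LP (LK LD1_c0 LD2_c1 LD3_c8)) :=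
  Lre_d IH (LK LD1_c0 LD2_c2 LD3_c46) (LK LD1_c0 LD2_c1 LD3_c8) Lrfl Lrfl
theorem f13630 : Led Lsl_bf (LP (LK LD1_c0 LD2_c1 LD3_c8)) = (LP (LK LD1_c0 LD2_c1 LD3_c8)) :=
  Lgr Lrot93 (Lpr_dt (f6974 IH) (Lpr_bt (f13611 IH) (Lpr_dt (f13629 IH) (Lpn (LP (LK LD1_c0 LD2_c1 LD3_c8))))))
theorem f1471 : Led Lsl_gt (LP (LK LD1_c0 LD2_c1 LD3_c8)) = (LP (LK LD1_c0 LD2_c2 LD3_c45)) :=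
  Lre_g IH (LK LD1_c0 LD2_c1 LD3_c8) (LK LD1_c0 LD2_c2 LD3_c45) Lrfl Lrfl
theorem f13639 : Led Lsl_ct (LP (LK LD1_c0 LD2_c2 LD3_c45)) = (LP (LK LD1_c0 LD2_c6 LD3_c4)) :=
  Lre_c IH (LK LD1_c0 LD2_c2 LD3_c45) (LK LD1_c0 LD2_c6 LD3_c4) Lrfl Lrfl
theorem f26738 : Led Lsl_gf (LP (LK LD1_c0 LD2_c7 LD3_c48)) = (LP (LK LD1_c0 LD2_c6 LD3_c4)) :=
  Lgr Lrot129 (Lpr_cf (f26724 IH) (Lpr_bt (f162 IH) (Lpr_gt (f11013 IH) (Lpr_bf (f3839 IH) (Lpe (f3854 IH) (Lpe (f21210 IH) (Lpe (f13633 IH) (Lpe (f13630 IH) (Lpr_gt (f1471 IH) (Lpr_ct (f13639 IH) (Lpn (LP (LK LD1_c0 LD2_c6 LD3_c4)))))))))))))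
theorem f26740 : Led Lsl_bt (LP (LK LD1_c0 LD2_c2 LD3_c45)) = (LP (LK LD1_c0 LD2_c1 LD3_c35)) :=
  Lgr Lrot92 (Lpr_ct (f13639 IH) (Lpe (f26738 IH) (Lpr_cf (f26724 IH) (Lpr_bt (f162 IH) (Lpr_gt (f11013 IH) (Lpe (f3813 IH) (Lpr_gt (f3957 IH) (Lpe (f90 IH) (Lpr_bt (f132 IH) (Lpr_gt (f133 IH) (Lpn (LP (LK LD1_c0 LD2_c1 LD3_c35)))))))))))))
theorem f7109 : Led Lsl_gt (LP (LK LD1_c0 LD2_c1 LD3_c35)) = (LP (LK LD1_c0 LD2_c2 LD3_c47)) :=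
  Lre_g IH (LK LD1_c0 LD2_c1 LD3_c35) (LK LD1_c0 LD2_c2 LD3_c47) Lrfl Lrfl
theorem f6991 : Led Lsl_ft (LP (LK LD1_c0 LD2_c1 LD3_c8)) = (LP (LK LD1_c0 LD2_c2 LD3_c47)) :=
  Lre_f IH (LK LD1_c0 LD2_c1 LD3_c8) (LK LD1_c0 LD2_c2 LD3_c47) Lrfl Lrfl
theorem f13637 : Led Lsl_bt (LP (LK LD1_c0 LD2_c2 LD3_c47)) = (LP (LK LD1_c0 LD2_c2 LD3_c47)) :=
  Lgr Lrot35 (Lpe (f6991 IH) (Lpr_bf (f13630 IH) (Lpe (f6988 IH) (Lpn (LP (LK LD1_c0 LD2_c2 LD3_c47))))))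
theorem f9609 : Led Lsl_at (LP (LK LD1_c0 LD2_c2 LD3_c44)) = (LP (LK LD1_c0 LD2_c1 LD3_c34)) :=
  Lre_a IH (LK LD1_c0 LD2_c2 LD3_c44) (LK LD1_c0 LD2_c1 LD3_c34) Lrfl Lrfl
theorem f9552 : Led Lsl_ft (LP (LK LD1_c0 LD2_c6 LD3_c3)) = (LP (LK LD1_c0 LD2_c2 LD3_c44)) :=
  Lre_f IH (LK LD1_c0 LD2_c6 LD3_c3) (LK LD1_c0 LD2_c2 LD3_c44) Lrfl Lrfl
theorem f20600 : Led Lsl_gt (LP (LK LD1_c0 LD2_c6 LD3_c3)) = (LP (LK LD1_c0 LD2_c3 LD3_c35)) :=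
  Lgr Lrot5 (Lpr_ft (f9552 IH) (Lpr_at (f9609 IH) (Lpr_gf (f20598 IH) (Lpn (LP (LK LD1_c0 LD2_c3 LD3_c35))))))
theorem f20827 : Led Lsl_gt (LP (LK LD1_c0 LD2_c4 LD3_c5)) = (LP (LK LD1_c0 LD2_c4 LD3_c2)) :=
  Lgr Lrot131 (Lpe (f405 IH) (Lpr_dt (f20617 IH) (Lpe (f96 IH) (Lpe (f209 IH) (Lpr_gf (f1630 IH) (Lpqs (f1684 IH) (Lpe (f158 IH) (Lpe (f73 IH) (Lpr_gf (f7183 IH) (Lpqs (f7283 IH) (Lpe (f7041 IH) (Lpr_et (f9624 IH) (Lpn (LP (LK LD1_c0 LD2_c4 LD3_c2)))))))))))))))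
theorem f26750 : Led Lsl_gf (LP (LK LD1_c0 LD2_c6 LD3_c4)) = (LP (LK LD1_c0 LD2_c7 LD3_c43)) :=
  Lgr Lrot129 (Lpe (f13639 IH) (Lpr_bt (f26740 IH) (Lpr_gt (f7109 IH) (Lpe (f13637 IH) (Lpr_ct (f7110 IH) (Lpr_gt (f20600 IH) (Lpe (f408 IH) (Lpe (f406 IH) (Lpr_gt (f20827 IH) (Lpe (f9619 IH) (Lpn (LP (LK LD1_c0 LD2_c7 LD3_c43)))))))))))))
theorem f22448 : Led Lsl_ct (LP (LK LD1_c0 LD2_c6 LD3_c4)) = (LP (LK LD1_c0 LD2_c2 LD3_c45)) :=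
  Lre_c IH (LK LD1_c0 LD2_c6 LD3_c4) (LK LD1_c0 LD2_c2 LD3_c45) Lrfl Lrfl
theorem f20191 : Led Lsl_ct (LP (LK LD1_c0 LD2_c17 LD3_c51)) = (LP (LK LD1_c0 LD2_c8 LD3_c0)) :=
  Lre_c IH (LK LD1_c0 LD2_c17 LD3_c51) (LK LD1_c0 LD2_c8 LD3_c0) Lrfl Lrfl
theorem f25724 : Led Lsl_dt (LP (LK LD1_c0 LD2_c6 LD3_c6)) = (LP (LK LD1_c0 LD2_c2 LD3_c48)) :=
  Lre_d IH (LK LD1_c0 LD2_c6 LD3_c6) (LK LD1_c0 LD2_c2 LD3_c48) Lrfl Lrfl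
theorem f25725 : Led Lsl_gt (LP (LK LD1_c0 LD2_c13 LD3_c20)) = (LP (LK LD1_c0 LD2_c6 LD3_c6)) :=
  Lre_g IH (LK LD1_c0 LD2_c13 LD3_c20) (LK LD1_c0 LD2_c6 LD3_c6) Lrfl Lrfl
theorem f1490 : Led Lsl_ft (LP (LK LD1_c0 LD2_c1 LD3_c37)) = (LP (LK LD1_c0 LD2_c0 LD3_c35)) :=
  Lre_f IH (LK LD1_c0 LD2_c1 LD3_c37) (LK LD1_c0 LD2_c0 LD3_c35) Lrfl Lrfl
theorem f5840 : Led Lsl_at (LP (LK LD1_c0 LD2_c0 LD3_c35)) = (LP (LK LD1_c0 LD2_c1 LD3_c8)) :=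
  Lre_a IH (LK LD1_c0 LD2_c0 LD3_c35) (LK LD1_c0 LD2_c1 LD3_c8) Lrfl Lrfl
theorem f20977 : Led Lsl_gt (LP (LK LD1_c0 LD2_c1 LD3_c27)) = (LP (LK LD1_c0 LD2_c1 LD3_c8)) :=
  Lgr Lrot46 (Lpr_gf (f20972 IH) (Lpr_ft (f1490 IH) (Lpr_at (f5840 IH) (Lpn (LP (LK LD1_c0 LD2_c1 LD3_c8))))))
theorem f20986 : Led Lsl_gt (LP (LK LD1_c0 LD2_c3 LD3_c30)) = (LP (LK LD1_c0 LD2_c7 LD3_c43)) :=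
  Lgr Lrot149 (Lpe (f8180 IH) (Lpr_gf (f20972 IH) (Lpe (f160 IH) (Lpr_ct (f163 IH) (Lpe (f13419 IH) (Lpr_cf (f12756 IH) (Lpr_bt (f146 IH) (Lpe (f13423 IH) (Lpr_bf (f9695 IH) (Lpe (f9619 IH) (Lpn (LP (LK LD1_c0 LD2_c7 LD3_c43)))))))))))))
theorem f25726 : Led Lsl_df (LP (LK LD1_c0 LD2_c13 LD3_c20)) = (LP (LK LD1_c0 LD2_c7 LD3_c43)) :=
  Lgr Lrot153 (Lpr_gt (f25725 IH) (Lpr_dt (f25724 IH) (Lpe (f7013 IH) (Lpe (f20256 IH) (Lpr_gf (f25722 IH) (Lpe (f6974 IH) (Lpe (f20977 IH) (Lpe (f8176 IH) (Lpr_gt (f20986 IH) (Lpn (LP (LK LD1_c0 LD2_c7 LD3_c43))))))))))))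
theorem f25997 : Led Lsl_ct (LP (LK LD1_c0 LD2_c6 LD3_c6)) = (LP (LK LD1_c0 LD2_c13 LD3_c21)) :=
  Lre_c IH (LK LD1_c0 LD2_c6 LD3_c6) (LK LD1_c0 LD2_c13 LD3_c21) Lrfl Lrfl
theorem f26754 : Led Lsl_gf (LP (LK LD1_c0 LD2_c17 LD3_c51)) = (LP (LK LD1_c0 LD2_c13 LD3_c21)) :=
  Lgr Lrot172 (Lpr_ct (f20191 IH) (Lpr_dt (f9532 IH) (Lpe (f161 IH) (Lpe (f181 IH) (Lpe (f22448 IH) (Lpr_gf (f26750 IH) (Lpe (f25726 IH) (Lpr_gt (f25725 IH) (Lpr_ct (f25997 IH) (Lpn (LP (LK LD1_c0 LD2_c13 LD3_c21))))))))))))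
theorem f20195 : Led Lsl_ct (LP (LK LD1_c0 LD2_c5 LD3_c54)) = (LP (LK LD1_c0 LD2_c12 LD3_c56)) :=
  Lre_c IH (LK LD1_c0 LD2_c5 LD3_c54) (LK LD1_c0 LD2_c12 LD3_c56) Lrfl Lrfl
theorem f20199 : Led Lsl_dt (LP (LK LD1_c0 LD2_c29 LD3_c19)) = (LP (LK LD1_c0 LD2_c12 LD3_c56)) :=
  Lre_d IH (LK LD1_c0 LD2_c29 LD3_c19) (LK LD1_c0 LD2_c12 LD3_c56) Lrfl Lrfl
theorem f20198 : Led Lsl_dt (LP (LK LD1_c0 LD2_c12 LD3_c56)) = (LP (LK LD1_c0 LD2_c29 LD3_c19)) :=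
  Lre_d IH (LK LD1_c0 LD2_c12 LD3_c56) (LK LD1_c0 LD2_c29 LD3_c19) Lrfl Lrfl
theorem f22833 : Led Lsl_dt (LP (LK LD1_c0 LD2_c17 LD3_c51)) = (LP (LK LD1_c0 LD2_c30 LD3_c1)) :=
  Lre_d IH (LK LD1_c0 LD2_c17 LD3_c51) (LK LD1_c0 LD2_c30 LD3_c1) Lrfl Lrfl
theorem f26756 : Led Lsl_dt (LP (LK LD1_c0 LD2_c29 LD3_c44)) = (LP (LK LD1_c0 LD2_c13 LD3_c21)) :=
  Lgr Lrot57 (Lpe (f20082 IH) (Lpe (f20081 IH) (Lpr_gt (f23259 IH) (Lpe (f23265 IH) (Lpr_gt (f20956 IH) (Lpr_dt (f23167 IH) (Lpe (f22826 IH) (Lpe (f22833 IH) (Lpr_gf (f26754 IH) (Lpn (LP (LK LD1_c0 LD2_c13 LD3_c21))))))))))))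
theorem f20076 : Led Lsl_ct (LP (LK LD1_c0 LD2_c13 LD3_c53)) = (LP (LK LD1_c0 LD2_c6 LD3_c19)) :=
  Lre_c IH (LK LD1_c0 LD2_c13 LD3_c53) (LK LD1_c0 LD2_c6 LD3_c19) Lrfl Lrfl
theorem f13590 : Led Lsl_gt (LP (LK LD1_c0 LD2_c6 LD3_c19)) = (LP (LK LD1_c0 LD2_c13 LD3_c51)) :=
  Lre_g IH (LK LD1_c0 LD2_c6 LD3_c19) (LK LD1_c0 LD2_c13 LD3_c51) Lrfl Lrfl
theorem f26758 : Led Lsl_cf (LP (LK LD1_c0 LD2_c29 LD3_c19)) = (LP (LK LD1_c0 LD2_c13 LD3_c51)) :=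
  Lgr Lrot99 (Lpe (f20198 IH) (Lpe (f20195 IH) (Lpr_gf (f20182 IH) (Lpe (f20191 IH) (Lpr_gf (f26754 IH) (Lpe (f26756 IH) (Lpr_gt (f21209 IH) (Lpr_ct (f20076 IH) (Lpr_gt (f13590 IH) (Lpn (LP (LK LD1_c0 LD2_c13 LD3_c51))))))))))))
theorem f26762 : Led Lsl_df (LP (LK LD1_c0 LD2_c29 LD3_c44)) = (LP (LK LD1_c0 LD2_c13 LD3_c21)) :=
  Lgr Lrot155 (Lpr_gt (f21209 IH) (Lpr_ct (f20076 IH) (Lpr_gt (f13590 IH) (Lpe (f26758 IH) (Lpr_dt (f20199 IH) (Lpe (f20195 IH) (Lpr_gf (f20182 IH) (Lpe (f20191 IH) (Lpr_gf (f26754 IH) (Lpn (LP (LK LD1_c0 LD2_c13 LD3_c21))))))))))))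
theorem f26052 : Led Lsl_ct (LP (LK LD1_c0 LD2_c6 LD3_c11)) = (LP (LK LD1_c0 LD2_c2 LD3_c51)) :=
  Lre_c IH (LK LD1_c0 LD2_c6 LD3_c11) (LK LD1_c0 LD2_c2 LD3_c51) Lrfl Lrfl
theorem f25737 : Led Lsl_dt (LP (LK LD1_c0 LD2_c2 LD3_c51)) = (LP (LK LD1_c0 LD2_c1 LD3_c10)) :=
  Lre_d IH (LK LD1_c0 LD2_c2 LD3_c51) (LK LD1_c0 LD2_c1 LD3_c10) Lrfl Lrfl
theorem f12695 : Led Lsl_ct (LP (LK LD1_c0 LD2_c1 LD3_c10)) = (LP (LK LD1_c0 LD2_c2 LD3_c50)) :=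
  Lre_c IH (LK LD1_c0 LD2_c1 LD3_c10) (LK LD1_c0 LD2_c2 LD3_c50) Lrfl Lrfl
theorem f26367 : Led Lsl_dt (LP (LK LD1_c0 LD2_c2 LD3_c50)) = (LP (LK LD1_c0 LD2_c6 LD3_c10)) :=
  Lre_d IH (LK LD1_c0 LD2_c2 LD3_c50) (LK LD1_c0 LD2_c6 LD3_c10) Lrfl Lrfl
theorem f26368 : Led Lsl_ct (LP (LK LD1_c0 LD2_c6 LD3_c10)) = (LP (LK LD1_c0 LD2_c13 LD3_c31)) :=
  Lre_c IH (LK LD1_c0 LD2_c6 LD3_c10) (LK LD1_c0 LD2_c13 LD3_c31) Lrfl Lrfl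
theorem f25917 : Led Lsl_dt (LP (LK LD1_c0 LD2_c2 LD3_c48)) = (LP (LK LD1_c0 LD2_c6 LD3_c6)) :=
  Lre_d IH (LK LD1_c0 LD2_c2 LD3_c48) (LK LD1_c0 LD2_c6 LD3_c6) Lrfl Lrfl
theorem f20966 : Led Lsl_ct (LP (LK LD1_c0 LD2_c6 LD3_c7)) = (LP (LK LD1_c0 LD2_c2 LD3_c49)) :=
  Lre_c IH (LK LD1_c0 LD2_c6 LD3_c7) (LK LD1_c0 LD2_c2 LD3_c49) Lrfl Lrfl
theorem f25731 : Led Lsl_dt (LP (LK LD1_c0 LD2_c13 LD3_c26)) = (LP (LK LD1_c0 LD2_c6 LD3_c7)) :=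
  Lre_d IH (LK LD1_c0 LD2_c13 LD3_c26) (LK LD1_c0 LD2_c6 LD3_c7) Lrfl Lrfl
theorem f25728 : Led Lsl_dt (LP (LK LD1_c0 LD2_c6 LD3_c7)) = (LP (LK LD1_c0 LD2_c13 LD3_c26)) :=
  Lre_d IH (LK LD1_c0 LD2_c6 LD3_c7) (LK LD1_c0 LD2_c13 LD3_c26) Lrfl Lrfl
theorem f13616 : Led Lsl_gt (LP (LK LD1_c0 LD2_c13 LD3_c52)) = (LP (LK LD1_c0 LD2_c6 LD3_c19)) :=
  Lre_g IH (LK LD1_c0 LD2_c13 LD3_c52) (LK LD1_c0 LD2_c6 LD3_c19) Lrfl Lrfl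
theorem f20070 : Led Lsl_ct (LP (LK LD1_c0 LD2_c6 LD3_c19)) = (LP (LK LD1_c0 LD2_c13 LD3_c53)) :=
  Lre_c IH (LK LD1_c0 LD2_c6 LD3_c19) (LK LD1_c0 LD2_c13 LD3_c53) Lrfl Lrfl
theorem f20071 : Led Lsl_gt (LP (LK LD1_c0 LD2_c13 LD3_c53)) = (LP (LK LD1_c0 LD2_c29 LD3_c45)) :=
  Lre_g IH (LK LD1_c0 LD2_c13 LD3_c53) (LK LD1_c0 LD2_c29 LD3_c45) Lrfl Lrfl
theorem f25729 : Led Lsl_cf (LP (LK LD1_c0 LD2_c13 LD3_c26)) = (LP (LK LD1_c0 LD2_c29 LD3_c45)) :=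
  Lgr Lrot99 (Lpe (f25728 IH) (Lpe (f7010 IH) (Lpr_gf (f25722 IH) (Lpe (f13623 IH) (Lpe (f20956 IH) (Lpr_df (f23265 IH) (Lpr_gt (f13616 IH) (Lpr_ct (f20070 IH) (Lpr_gt (f20071 IH) (Lpn (LP (LK LD1_c0 LD2_c29 LD3_c45))))))))))))
theorem f26772 : Led Lsl_dt (LP (LK LD1_c0 LD2_c13 LD3_c31)) = (LP (LK LD1_c0 LD2_c29 LD3_c45)) :=
  Lgr Lrot173 (Lpe (f26368 IH) (Lpe (f26367 IH) (Lpe (f12695 IH) (Lpe (f25737 IH) (Lpe (f26052 IH) (Lpe (f26047 IH) (Lpe (f26357 IH) (Lpr_df (f26762 IH) (Lpe (f25997 IH) (Lpe (f25917 IH) (Lpe (f7013 IH) (Lpe (f20256 IH) (Lpe (f20966 IH) (Lpe (f25731 IH) (Lpr_cf (f25729 IH) (Lpn (LP (LK LD1_c0 LD2_c29 LD3_c45))))))))))))))))))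
theorem f20190 : Led Lsl_gt (LP (LK LD1_c0 LD2_c29 LD3_c45)) = (LP (LK LD1_c0 LD2_c13 LD3_c3)) :=
  Lre_g IH (LK LD1_c0 LD2_c29 LD3_c45) (LK LD1_c0 LD2_c13 LD3_c3) Lrfl Lrfl
theorem f26936 : Led Lsl_gf (LP (LK LD1_c0 LD2_c13 LD3_c31)) = (LP (LK LD1_c0 LD2_c17 LD3_c51)) :=
  Lgr Lrot144 (Lpr_dt (f26772 IH) (Lpr_gt (f20190 IH) (Lpr_dt (f20189 IH) (Lpe (f20188 IH) (Lpe (f6843 IH) (Lpe (f7006 IH) (Lpe (f20181 IH) (Lpr_gf (f20182 IH) (Lpe (f20191 IH) (Lpn (LP (LK LD1_c0 LD2_c17 LD3_c51))))))))))))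
theorem f27018 : Led Lsl_ft (LP (LK LD1_c0 LD2_c17 LD3_c51)) = (LP (LK LD1_c0 LD2_c7 LD3_c61)) :=
  Lre_f IH (LK LD1_c0 LD2_c17 LD3_c51) (LK LD1_c0 LD2_c7 LD3_c61) Lrfl Lrfl
theorem f27019 : Led Lsl_at (LP (LK LD1_c0 LD2_c7 LD3_c61)) = (LP (LK LD1_c0 LD2_c13 LD3_c16)) :=
  Lre_a IH (LK LD1_c0 LD2_c7 LD3_c61) (LK LD1_c0 LD2_c13 LD3_c16) Lrfl Lrfl
theorem f27020 : Led Lsl_gt (LP (LK LD1_c0 LD2_c13 LD3_c31)) = (LP (LK LD1_c0 LD2_c13 LD3_c16)) :=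
  Lgr Lrot46 (Lpr_gf (f26936 IH) (Lpr_ft (f27018 IH) (Lpr_at (f27019 IH) (Lpn (LP (LK LD1_c0 LD2_c13 LD3_c16))))))
theorem f12615 : Led Lsl_dt (LP (LK LD1_c0 LD2_c6 LD3_c48)) = (LP (LK LD1_c0 LD2_c3 LD3_c5)) :=
  Lre_d IH (LK LD1_c0 LD2_c6 LD3_c48) (LK LD1_c0 LD2_c3 LD3_c5) Lrfl Lrfl
theorem f26026 : Led Lsl_ct (LP (LK LD1_c0 LD2_c2 LD3_c50)) = (LP (LK LD1_c0 LD2_c1 LD3_c10)) :=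
  Lre_c IH (LK LD1_c0 LD2_c2 LD3_c50) (LK LD1_c0 LD2_c1 LD3_c10) Lrfl Lrfl
theorem f20831 : Led Lsl_gf (LP (LK LD1_c0 LD2_c9 LD3_c1)) = (LP (LK LD1_c0 LD2_c4 LD3_c19)) :=
  Lgr Lrot134 (Lpe (f7339 IH) (Lpe (f7342 IH) (Lpr_gt (f20613 IH) (Lpe (f405 IH) (Lpr_dt (f20617 IH) (Lpr_gt (f7354 IH) (Lpe (f7039 IH) (Lpr_et (f7040 IH) (Lpe (f20829 IH) (Lpr_dt (f20263 IH) (Lpn (LP (LK LD1_c0 LD2_c4 LD3_c19)))))))))))))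
theorem f26304 : Led Lsl_gf (LP (LK LD1_c0 LD2_c2 LD3_c50)) = (LP (LK LD1_c0 LD2_c3 LD3_c5)) :=
  Lgr Lrot104 (Lpr_ct (f26026 IH) (Lpe (f25737 IH) (Lpe (f26052 IH) (Lpr_gf (f26263 IH) (Lpr_cf (f25732 IH) (Lpr_gf (f20831 IH) (Lpe (f20263 IH) (Lpr_gt (f20036 IH) (Lpr_ct (f12616 IH) (Lpn (LP (LK LD1_c0 LD2_c3 LD3_c5))))))))))))
theorem f25181 : Led Lsl_gt (LP (LK LD1_c0 LD2_c13 LD3_c0)) = (LP (LK LD1_c0 LD2_c7 LD3_c41)) :=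
  Lre_g IH (LK LD1_c0 LD2_c13 LD3_c0) (LK LD1_c0 LD2_c7 LD3_c41) Lrfl Lrfl
theorem f26607 : Led Lsl_dt (LP (LK LD1_c0 LD2_c7 LD3_c41)) = (LP (LK LD1_c0 LD2_c13 LD3_c53)) :=
  Lre_d IH (LK LD1_c0 LD2_c7 LD3_c41) (LK LD1_c0 LD2_c13 LD3_c53) Lrfl Lrfl
theorem f26608 : Led Lsl_df (LP (LK LD1_c0 LD2_c13 LD3_c31)) = (LP (LK LD1_c0 LD2_c29 LD3_c45)) :=
  Lgr Lrot84 (Lpe (f26368 IH) (Lpe (f26367 IH) (Lpr_gf (f26304 IH) (Lpe (f12615 IH) (Lpe (f26568 IH) (Lpr_cf (f26586 IH) (Lpr_gt (f25181 IH) (Lpr_dt (f26607 IH) (Lpr_gt (f20071 IH) (Lpn (LP (LK LD1_c0 LD2_c29 LD3_c45))))))))))))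
theorem f27057 : Led Lsl_et (LP (LK LD1_c0 LD2_c31 LD3_c17)) = (LP (LK LD1_c0 LD2_c13 LD3_c53)) :=
  Lre_e IH (LK LD1_c0 LD2_c31 LD3_c17) (LK LD1_c0 LD2_c13 LD3_c53) Lrfl Lrfl
theorem f27058 : Led Lsl_dt (LP (LK LD1_c0 LD2_c31 LD3_c17)) = (LP (LK LD1_c1 LD2_c8 LD3_c23)) :=
  Lre_d IH (LK LD1_c0 LD2_c31 LD3_c17) (LK LD1_c1 LD2_c8 LD3_c23) Lrfl Lrfl
theorem f27059 : Led Lsl_gt (LP (LK LD1_c2 LD2_c22 LD3_c33)) = (LP (LK LD1_c1 LD2_c8 LD3_c23)) :=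
  Lre_g IH (LK LD1_c2 LD2_c22 LD3_c33) (LK LD1_c1 LD2_c8 LD3_c23) Lrfl Lrfl
theorem f27060 : Led Lsl_et (LP (LK LD1_c0 LD2_c29 LD3_c58)) = (LP (LK LD1_c1 LD2_c5 LD3_c29)) :=
  Lre_e IH (LK LD1_c0 LD2_c29 LD3_c58) (LK LD1_c1 LD2_c5 LD3_c29) Lrfl Lrfl
theorem f20110 : Led Lsl_gt (LP (LK LD1_c1 LD2_c5 LD3_c29)) = (LP (LK LD1_c2 LD2_c17 LD3_c4)) :=
  Lre_g IH (LK LD1_c1 LD2_c5 LD3_c29) (LK LD1_c2 LD2_c17 LD3_c4) Lrfl Lrfl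
theorem f27061 : Led Lsl_et (LP (LK LD1_c4 LD2_c40 LD3_c5)) = (LP (LK LD1_c2 LD2_c17 LD3_c4)) :=
  Lre_e IH (LK LD1_c4 LD2_c40 LD3_c5) (LK LD1_c2 LD2_c17 LD3_c4) Lrfl Lrfl
theorem f27062 : Led Lsl_df (LP (LK LD1_c2 LD2_c22 LD3_c33)) = (LP (LK LD1_c4 LD2_c40 LD3_c5)) :=
  Lgr Lrot170 (Lpr_gt (f27059 IH) (Lpe (f27058 IH) (Lpr_et (f27057 IH) (Lpr_gt (f20071 IH) (Lpe (f26608 IH) (Lpr_gt (f27020 IH) (Lpe (f22444 IH) (Lpr_et (f27060 IH) (Lpr_gt (f20110 IH) (Lpe (f27061 IH) (Lpn (LP (LK LD1_c4 LD2_c40 LD3_c5)))))))))))))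
theorem f27111 : Led Lsl_gt (LP (LK LD1_c1 LD2_c36 LD3_c51)) = (LP (LK LD1_c2 LD2_c22 LD3_c33)) :=
  Lre_g IH (LK LD1_c1 LD2_c36 LD3_c51) (LK LD1_c2 LD2_c22 LD3_c33) Lrfl Lrfl
theorem f27112 : Led Lsl_dt (LP (LK LD1_c0 LD2_c44 LD3_c51)) = (LP (LK LD1_c1 LD2_c36 LD3_c51)) :=
  Lre_d IH (LK LD1_c0 LD2_c44 LD3_c51) (LK LD1_c1 LD2_c36 LD3_c51) Lrfl Lrfl
theorem f27113 : Led Lsl_gt (LP (LK LD1_c1 LD2_c8 LD3_c21)) = (LP (LK LD1_c0 LD2_c44 LD3_c51)) :=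
  Lre_g IH (LK LD1_c1 LD2_c8 LD3_c21) (LK LD1_c0 LD2_c44 LD3_c51) Lrfl Lrfl
theorem f27114 : Led Lsl_et (LP (LK LD1_c2 LD2_c22 LD3_c28)) = (LP (LK LD1_c1 LD2_c8 LD3_c21)) :=
  Lre_e IH (LK LD1_c2 LD2_c22 LD3_c28) (LK LD1_c1 LD2_c8 LD3_c21) Lrfl Lrfl
theorem f27074 : Led Lsl_gt (LP (LK LD1_c2 LD2_c17 LD3_c4)) = (LP (LK LD1_c1 LD2_c26 LD3_c13)) :=
  Lre_g IH (LK LD1_c2 LD2_c17 LD3_c4) (LK LD1_c1 LD2_c26 LD3_c13) Lrfl Lrfl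
theorem f27115 : Led Lsl_et (LP (LK LD1_c2 LD2_c17 LD3_c33)) = (LP (LK LD1_c1 LD2_c26 LD3_c13)) :=
  Lre_e IH (LK LD1_c2 LD2_c17 LD3_c33) (LK LD1_c1 LD2_c26 LD3_c13) Lrfl Lrfl
theorem f27116 : Led Lsl_dt (LP (LK LD1_c2 LD2_c17 LD3_c33)) = (LP (LK LD1_c4 LD2_c41 LD3_c0)) :=
  Lre_d IH (LK LD1_c2 LD2_c17 LD3_c33) (LK LD1_c4 LD2_c41 LD3_c0) Lrfl Lrfl
theorem f27117 : Led Lsl_gt (LP (LK LD1_c4 LD2_c41 LD3_c0)) = (LP (LK LD1_c3 LD2_c2 LD3_c40)) :=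
  Lre_g IH (LK LD1_c4 LD2_c41 LD3_c0) (LK LD1_c3 LD2_c2 LD3_c40) Lrfl Lrfl
theorem f27118 : Led Lsl_dt (LP (LK LD1_c2 LD2_c22 LD3_c28)) = (LP (LK LD1_c3 LD2_c2 LD3_c40)) :=
  Lgr Lrot37 (Lpr_et (f27114 IH) (Lpr_gt (f27113 IH) (Lpr_dt (f27112 IH) (Lpr_gt (f27111 IH) (Lpr_df (f27062 IH) (Lpr_et (f27061 IH) (Lpr_gt (f27074 IH) (Lpe (f27115 IH) (Lpr_dt (f27116 IH) (Lpr_gt (f27117 IH) (Lpn (LP (LK LD1_c3 LD2_c2 LD3_c40)))))))))))))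
theorem f23211 : Led Lsl_gt (LP (LK LD1_c0 LD2_c31 LD3_c17)) = (LP (LK LD1_c1 LD2_c8 LD3_c21)) :=
  Lre_g IH (LK LD1_c0 LD2_c31 LD3_c17) (LK LD1_c1 LD2_c8 LD3_c21) Lrfl Lrfl
theorem f27149 : Led Lsl_et (LP (LK LD1_c0 LD2_c13 LD3_c53)) = (LP (LK LD1_c0 LD2_c31 LD3_c17)) :=
  Lre_e IH (LK LD1_c0 LD2_c13 LD3_c53) (LK LD1_c0 LD2_c31 LD3_c17) Lrfl Lrfl
theorem f25186 : Led Lsl_dt (LP (LK LD1_c0 LD2_c29 LD3_c34)) = (LP (LK LD1_c0 LD2_c13 LD3_c0)) :=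
  Lre_d IH (LK LD1_c0 LD2_c29 LD3_c34) (LK LD1_c0 LD2_c13 LD3_c0) Lrfl Lrfl
theorem f27133 : Led Lsl_gt (LP (LK LD1_c3 LD2_c2 LD3_c40)) = (LP (LK LD1_c1 LD2_c27 LD3_c17)) :=
  Lre_g IH (LK LD1_c3 LD2_c2 LD3_c40) (LK LD1_c1 LD2_c27 LD3_c17) Lrfl Lrfl
theorem f23043 : Led Lsl_dt (LP (LK LD1_c0 LD2_c40 LD3_c24)) = (LP (LK LD1_c1 LD2_c27 LD3_c17)) :=
  Lre_d IH (LK LD1_c0 LD2_c40 LD3_c24) (LK LD1_c1 LD2_c27 LD3_c17) Lrfl Lrfl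
theorem f23042 : Led Lsl_et (LP (LK LD1_c0 LD2_c40 LD3_c24)) = (LP (LK LD1_c0 LD2_c18 LD3_c4)) :=
  Lre_e IH (LK LD1_c0 LD2_c40 LD3_c24) (LK LD1_c0 LD2_c18 LD3_c4) Lrfl Lrfl
theorem f27150 : Led Lsl_gf (LP (LK LD1_c0 LD2_c29 LD3_c34)) = (LP (LK LD1_c0 LD2_c18 LD3_c4)) :=
  Lgr Lrot138 (Lpr_dt (f25186 IH) (Lpr_gt (f25181 IH) (Lpe (f21208 IH) (Lpr_et (f27149 IH) (Lpr_gt (f23211 IH) (Lpe (f27114 IH) (Lpr_dt (f27118 IH) (Lpr_gt (f27133 IH) (Lpe (f23043 IH) (Lpr_et (f23042 IH) (Lpn (LP (LK LD1_c0 LD2_c18 LD3_c4)))))))))))))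
theorem f23034 : Led Lsl_ct (LP (LK LD1_c0 LD2_c8 LD3_c6)) = (LP (LK LD1_c0 LD2_c18 LD3_c4)) :=
  Lre_c IH (LK LD1_c0 LD2_c8 LD3_c6) (LK LD1_c0 LD2_c18 LD3_c4) Lrfl Lrfl
theorem f22834 : Led Lsl_ct (LP (LK LD1_c0 LD2_c13 LD3_c18)) = (LP (LK LD1_c0 LD2_c30 LD3_c1)) :=
  Lre_c IH (LK LD1_c0 LD2_c13 LD3_c18) (LK LD1_c0 LD2_c30 LD3_c1) Lrfl Lrfl
theorem f25170 : Led Lsl_ft (LP (LK LD1_c0 LD2_c18 LD3_c26)) = (LP (LK LD1_c0 LD2_c13 LD3_c18)) :=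
  Lgr Lrot4 (Lpr_cf (f25156 IH) (Lpe (f22450 IH) (Lpe (f22834 IH) (Lpn (LP (LK LD1_c0 LD2_c13 LD3_c18))))))
theorem f25396 : Led Lsl_at (LP (LK LD1_c0 LD2_c13 LD3_c18)) = (LP (LK LD1_c0 LD2_c8 LD3_c6)) :=
  Lre_a IH (LK LD1_c0 LD2_c13 LD3_c18) (LK LD1_c0 LD2_c8 LD3_c6) Lrfl Lrfl
theorem f25397 : Led Lsl_gf (LP (LK LD1_c0 LD2_c8 LD3_c6)) = (LP (LK LD1_c0 LD2_c13 LD3_c43)) :=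
  Lgr Lrot76 (Lpe (f25396 IH) (Lpe (f25170 IH) (Lpr_gt (f25176 IH) (Lpn (LP (LK LD1_c0 LD2_c13 LD3_c43))))))
theorem f25197 : Led Lsl_dt (LP (LK LD1_c0 LD2_c6 LD3_c16)) = (LP (LK LD1_c0 LD2_c13 LD3_c43)) :=
  Lre_d IH (LK LD1_c0 LD2_c6 LD3_c16) (LK LD1_c0 LD2_c13 LD3_c43) Lrfl Lrfl
theorem f22750 : Led Lsl_dt (LP (LK LD1_c0 LD2_c13 LD3_c40)) = (LP (LK LD1_c0 LD2_c6 LD3_c14)) :=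
  Lre_d IH (LK LD1_c0 LD2_c13 LD3_c40) (LK LD1_c0 LD2_c6 LD3_c14) Lrfl Lrfl
theorem f27155 : Led Lsl_ct (LP (LK LD1_c0 LD2_c29 LD3_c34)) = (LP (LK LD1_c0 LD2_c13 LD3_c40)) :=
  Lgr Lrot110 (Lpr_gf (f27150 IH) (Lpe (f23034 IH) (Lpr_gf (f25397 IH) (Lpe (f25197 IH) (Lpr_gt (f20048 IH) (Lpr_ct (f11007 IH) (Lpr_gt (f7177 IH) (Lpr_ct (f20872 IH) (Lpe (f22750 IH) (Lpn (LP (LK LD1_c0 LD2_c13 LD3_c40))))))))))))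
theorem f20603 : Led Lsl_dt (LP (LK LD1_c0 LD2_c13 LD3_c0)) = (LP (LK LD1_c0 LD2_c29 LD3_c34)) :=
  Lre_d IH (LK LD1_c0 LD2_c13 LD3_c0) (LK LD1_c0 LD2_c29 LD3_c34) Lrfl Lrfl
theorem f26600 : Led Lsl_ct (LP (LK LD1_c0 LD2_c7 LD3_c51)) = (LP (LK LD1_c0 LD2_c13 LD3_c0)) :=
  Lgr Lrot59 (Lpr_cf (f26586 IH) (Lpn (LP (LK LD1_c0 LD2_c13 LD3_c0))))
theorem f26335 : Led Lsl_ff (LP (LK LD1_c0 LD2_c6 LD3_c4)) = (LP (LK LD1_c0 LD2_c3 LD3_c32)) :=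
  Lgr Lrot23 (Lpr_ct (f22448 IH) (Lpe (f20975 IH) (Lpr_ct (f8174 IH) (Lpn (LP (LK LD1_c0 LD2_c3 LD3_c32))))))
theorem f23435 : Led Lsl_ct (LP (LK LD1_c0 LD2_c6 LD3_c14)) = (LP (LK LD1_c0 LD2_c2 LD3_c53)) :=
  Lre_c IH (LK LD1_c0 LD2_c6 LD3_c14) (LK LD1_c0 LD2_c2 LD3_c53) Lrfl Lrfl
theorem f410 : Led Lsl_ct (LP (LK LD1_c0 LD2_c3 LD3_c35)) = (LP (LK LD1_c0 LD2_c4 LD3_c5)) :=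
  Lre_c IH (LK LD1_c0 LD2_c3 LD3_c35) (LK LD1_c0 LD2_c4 LD3_c5) Lrfl Lrfl
theorem f23303 : Led Lsl_df (LP (LK LD1_c0 LD2_c1 LD3_c35)) = (LP (LK LD1_c0 LD2_c2 LD3_c53)) :=
  Lgr Lrot155 (Lpr_gt (f7109 IH) (Lpr_ct (f7110 IH) (Lpr_gt (f20600 IH) (Lpr_ct (f410 IH) (Lpr_dt (f7356 IH) (Lpr_cf (f23272 IH) (Lpe (f13620 IH) (Lpe (f13601 IH) (Lpe (f1463 IH) (Lpn (LP (LK LD1_c0 LD2_c2 LD3_c53))))))))))))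
theorem f27172 : Led Lsl_at (LP (LK LD1_c0 LD2_c6 LD3_c4)) = (LP (LK LD1_c0 LD2_c3 LD3_c42)) :=
  Lgr Lrot33 (Lpr_ff (f26335 IH) (Lpr_dt (f8141 IH) (Lpr_ct (f26600 IH) (Lpr_dt (f20603 IH) (Lpr_ct (f27155 IH) (Lpr_dt (f22750 IH) (Lpr_ct (f23435 IH) (Lpe (f23303 IH) (Lpr_ct (f134 IH) (Lpn (LP (LK LD1_c0 LD2_c3 LD3_c42))))))))))))
theorem f27186 : Led Lsl_gt (LP (LK LD1_c0 LD2_c3 LD3_c36)) = (LP (LK LD1_c0 LD2_c3 LD3_c42)) :=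
  Lgr Lrot46 (Lpe (f20988 IH) (Lpe (f26335 IH) (Lpr_at (f27172 IH) (Lpn (LP (LK LD1_c0 LD2_c3 LD3_c42))))))
theorem f6780 : Led Lsl_et (LP (LK LD1_c0 LD2_c2 LD3_c21)) = (LP (LK LD1_c0 LD2_c0 LD3_c61)) :=
  Lre_e IH (LK LD1_c0 LD2_c2 LD3_c21) (LK LD1_c0 LD2_c0 LD3_c61) Lrfl Lrfl
theorem f6781 : Led Lsl_dt (LP (LK LD1_c0 LD2_c2 LD3_c21)) = (LP (LK LD1_c0 LD2_c5 LD3_c9)) :=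
  Lre_d IH (LK LD1_c0 LD2_c2 LD3_c21) (LK LD1_c0 LD2_c5 LD3_c9) Lrfl Lrfl
def v50 : LQ := Led Lsl_et (LP (LK LD1_c0 LD2_c0 LD3_c23))
theorem f6836 : Led Lsl_et (LP (LK LD1_c0 LD2_c0 LD3_c23)) = v50 :=
  Lrfl
theorem f7908 : Led Lsl_cf (LP (LK LD1_c0 LD2_c12 LD3_c5)) = (LP (LK LD1_c0 LD2_c6 LD3_c34)) :=
  Lgr Lrot11 (Lpr_ct (f7897 IH) (Lpn (LP (LK LD1_c0 LD2_c6 LD3_c34))))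
theorem f6821 : Led Lsl_ct (LP (LK LD1_c0 LD2_c5 LD3_c34)) = (LP (LK LD1_c0 LD2_c2 LD3_c33)) :=
  Lre_c IH (LK LD1_c0 LD2_c5 LD3_c34) (LK LD1_c0 LD2_c2 LD3_c33) Lrfl Lrfl
theorem f3083 : Led Lsl_gt (LP (LK LD1_c0 LD2_c6 LD3_c26)) = (LP (LK LD1_c0 LD2_c6 LD3_c34)) :=
  Lgr Lrot5 (Lpr_ft (f257 IH) (Lpr_at (f2124 IH) (Lpe (f3063 IH) (Lpn (LP (LK LD1_c0 LD2_c6 LD3_c34))))))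
theorem f7992 : Led Lsl_dt (LP (LK LD1_c0 LD2_c2 LD3_c33)) = (LP (LK LD1_c0 LD2_c2 LD3_c33)) :=
  Lgr Lrot27 (Lpe (f6821 IH) (Lpe (f495 IH) (Lpr_cf (f7908 IH) (Lpe (f3083 IH) (Lpr_df (f259 IH) (Lpr_gt (f3083 IH) (Lpe (f7908 IH) (Lpr_gt (f495 IH) (Lpr_ct (f6821 IH) (Lpn (LP (LK LD1_c0 LD2_c2 LD3_c33))))))))))))
theorem f6770 : Led Lsl_et (LP (LK LD1_c0 LD2_c1 LD3_c3)) = (LP (LK LD1_c0 LD2_c2 LD3_c33)) :=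
  Lre_e IH (LK LD1_c0 LD2_c1 LD3_c3) (LK LD1_c0 LD2_c2 LD3_c33) Lrfl Lrfl
theorem f6839 : Led Lsl_ef (LP (LK LD1_c0 LD2_c0 LD3_c23)) = v50 :=
  Lgr Lrot88 (Lpr_et (f6836 IH) (Lpn v50))
theorem f6838 : Led Lsl_et (LP (LK LD1_c0 LD2_c2 LD3_c33)) = (LP (LK LD1_c0 LD2_c1 LD3_c3)) :=
  Lre_e IH (LK LD1_c0 LD2_c2 LD3_c33) (LK LD1_c0 LD2_c1 LD3_c3) Lrfl Lrfl
theorem f8017 : v50 = (LP (LK LD1_c0 LD2_c0 LD3_c23)) :=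
  (Llr Lrot73 (Lpe (f6839 IH) (Lpr_dt (f301 IH) (Lpr_et (f6770 IH) (Lpr_dt (f7992 IH) (Lpr_et (f6838 IH) (Lpr_dt (f298 IH) (Lpn (LP (LK LD1_c0 LD2_c0 LD3_c23)))))))))).symm
theorem f27193 : Led Lsl_gf (LP (LK LD1_c0 LD2_c5 LD3_c9)) = (LP (LK LD1_c0 LD2_c8 LD3_c2)) :=
  Lgr Lrot134 (Lpe (f6781 IH) (Lpr_et (f6780 IH) (Lpr_gt (f6786 IH) (Lpq (f8017 IH) (Lpe (f6836 IH) (Lpr_dt (f301 IH) (Lpr_gt (f8060 IH) (Lpr_df (f8123 IH) (Lpr_et (f197 IH) (Lpr_gt (f27186 IH) (Lpr_dt (f20606 IH) (Lpn (LP (LK LD1_c0 LD2_c8 LD3_c2))))))))))))))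
theorem f27197 : Led Lsl_et (LP (LK LD1_c0 LD2_c3 LD3_c42)) = (LP (LK LD1_c0 LD2_c3 LD3_c42)) :=
  Lgr Lrot122 (Lpr_dt (f20606 IH) (Lpe (f27193 IH) (Lpe (f6781 IH) (Lpr_et (f6780 IH) (Lpr_gt (f6786 IH) (Lpr_dt (f301 IH) (Lpr_gt (f8060 IH) (Lpr_df (f8123 IH) (Lpr_et (f197 IH) (Lpr_gt (f27186 IH) (Lpn (LP (LK LD1_c0 LD2_c3 LD3_c42)))))))))))))
theorem f27179 : Led Lsl_af (LP (LK LD1_c0 LD2_c6 LD3_c4)) = (LP (LK LD1_c0 LD2_c3 LD3_c42)) :=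
  Lgr Lrot0 (Lpr_at (f27172 IH) (Lpn (LP (LK LD1_c0 LD2_c3 LD3_c42))))
theorem f27200 : Led Lsl_ef (LP (LK LD1_c0 LD2_c6 LD3_c4)) = (LP (LK LD1_c0 LD2_c6 LD3_c4)) :=
  Lgr Lrot20 (Lpr_at (f27172 IH) (Lpr_et (f27197 IH) (Lpe (f27179 IH) (Lpn (LP (LK LD1_c0 LD2_c6 LD3_c4))))))
theorem f13434 : Led Lsl_dt (LP (LK LD1_c0 LD2_c3 LD3_c4)) = (LP (LK LD1_c0 LD2_c1 LD3_c17)) :=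
  Lre_d IH (LK LD1_c0 LD2_c3 LD3_c4) (LK LD1_c0 LD2_c1 LD3_c17) Lrfl Lrfl
theorem f7018 : Led Lsl_gt (LP (LK LD1_c0 LD2_c6 LD3_c46)) = (LP (LK LD1_c0 LD2_c3 LD3_c4)) :=
  Lre_g IH (LK LD1_c0 LD2_c6 LD3_c46) (LK LD1_c0 LD2_c3 LD3_c4) Lrfl Lrfl
theorem f26752 : Led Lsl_dt (LP (LK LD1_c0 LD2_c6 LD3_c4)) = (LP (LK LD1_c0 LD2_c6 LD3_c46)) :=
  Lgr Lrot57 (Lpr_gf (f26750 IH) (Lpr_cf (f9619 IH) (Lpr_gt (f13423 IH) (Lpe (f13425 IH) (Lpr_gt (f3797 IH) (Lpr_dt (f7375 IH) (Lpe (f9693 IH) (Lpe (f13434 IH) (Lpe (f7018 IH) (Lpn (LP (LK LD1_c0 LD2_c6 LD3_c46))))))))))))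
theorem f7017 : Led Lsl_dt (LP (LK LD1_c0 LD2_c1 LD3_c17)) = (LP (LK LD1_c0 LD2_c3 LD3_c4)) :=
  Lre_d IH (LK LD1_c0 LD2_c1 LD3_c17) (LK LD1_c0 LD2_c3 LD3_c4) Lrfl Lrfl
theorem f7016 : Led Lsl_et (LP (LK LD1_c0 LD2_c1 LD3_c17)) = (LP (LK LD1_c0 LD2_c0 LD3_c29)) :=
  Lre_e IH (LK LD1_c0 LD2_c1 LD3_c17) (LK LD1_c0 LD2_c0 LD3_c29) Lrfl Lrfl
def v58 : LQ := Led Lsl_gt (LP (LK LD1_c0 LD2_c0 LD3_c29))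
theorem f7014 : Led Lsl_gt (LP (LK LD1_c0 LD2_c0 LD3_c29)) = v58 :=
  Lrfl
theorem f7205 : (LP (LK LD1_c0 LD2_c0 LD3_c22)) = v58 :=
  Lefun (Lecon (Lfl_gf (f6754 IH)) (f7202 IH).symm) (f7014 IH)
theorem f27271 : Led Lsl_dt (LP (LK LD1_c0 LD2_c3 LD3_c28)) = (LP (LK LD1_c0 LD2_c2 LD3_c26)) :=
  Lgr Lrot56 (Lpr_et (f9602 IH) (Lpe (f26750 IH) (Lpr_ef (f27200 IH) (Lpr_dt (f26752 IH) (Lpr_gt (f7018 IH) (Lpe (f7017 IH) (Lpr_et (f7016 IH) (Lpr_gt (f7014 IH) (Lpq (f7205 IH) (Lpr_dt (f488 IH) (Lpr_gt (f6755 IH) (Lpn (LP (LK LD1_c0 LD2_c2 LD3_c26))))))))))))))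
theorem f461 : Led Lsl_dt (LP (LK LD1_c0 LD2_c0 LD3_c25)) = (LP (LK LD1_c0 LD2_c0 LD3_c8)) :=
  Lre_d IH (LK LD1_c0 LD2_c0 LD3_c25) (LK LD1_c0 LD2_c0 LD3_c8) Lrfl Lrfl
theorem f27286 : Led Lsl_gf (LP (LK LD1_c0 LD2_c1 LD3_c3)) = (LP (LK LD1_c0 LD2_c2 LD3_c26)) :=
  Lgr Lrot143 (Lpr_dt (f298 IH) (Lpe (f300 IH) (Lpe (f291 IH) (Lpq (f7204 IH) (Lpq (f7033 IH) (Lpe (f1460 IH) (Lpe (f461 IH) (Lpq (f7228 IH) (Lpe (f6993 IH) (Lpe (f419 IH) (Lpr_gt (f230 IH) (Lpr_dt (f27271 IH) (Lpn (LP (LK LD1_c0 LD2_c2 LD3_c26)))))))))))))))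
theorem f1660 : Led Lsl_ff (LP (LK LD1_c0 LD2_c1 LD3_c15)) = (LP (LK LD1_c0 LD2_c1 LD3_c15)) :=
  Lgr Lrot19 (Lpr_dt (f1641 IH) (Lpr_ft (f1652 IH) (Lpr_dt (f1654 IH) (Lpn (LP (LK LD1_c0 LD2_c1 LD3_c15))))))
theorem f1679 : Led Lsl_at (LP (LK LD1_c0 LD2_c1 LD3_c15)) = (LP (LK LD1_c0 LD2_c1 LD3_c13)) :=
  Lgr Lrot33 (Lpr_ff (f1660 IH) (Lpr_dt (f1641 IH) (Lpr_ct (f1640 IH) (Lpe (f1646 IH) (Lpr_ct (f1645 IH) (Lpr_dt (f1654 IH) (Lpr_ct (f1655 IH) (Lpr_dt (f1664 IH) (Lpr_ct (f237 IH) (Lpn (LP (LK LD1_c0 LD2_c1 LD3_c13))))))))))))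
theorem f6876 : Led Lsl_gf (LP (LK LD1_c0 LD2_c1 LD3_c13)) = (LP (LK LD1_c0 LD2_c1 LD3_c33)) :=
  Lgr Lrot76 (Lpe (f1679 IH) (Lpr_ff (f1660 IH) (Lpr_gt (f6872 IH) (Lpn (LP (LK LD1_c0 LD2_c1 LD3_c33))))))
theorem f8298 : Led Lsl_gf (LP (LK LD1_c0 LD2_c3 LD3_c37)) = (LP (LK LD1_c0 LD2_c2 LD3_c32)) :=
  Lgr Lrot147 (Lpr_ct (f6870 IH) (Lpe (f6876 IH) (Lpr_ct (f239 IH) (Lpe (f1664 IH) (Lpe (f1655 IH) (Lpr_gf (f8292 IH) (Lpe (f8253 IH) (Lpe (f7703 IH) (Lpr_df (f474 IH) (Lpn (LP (LK LD1_c0 LD2_c2 LD3_c32))))))))))))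
theorem f28186 : Led Lsl_bf (LP (LK LD1_c0 LD2_c2 LD3_c27)) = (LP (LK LD1_c0 LD2_c1 LD3_c33)) :=
  Lgr Lrot156 (Lpr_gt (f490 IH) (Lpe (f9631 IH) (Lpr_ct (f27775 IH) (Lpr_gt (f748 IH) (Lpr_cf (f28169 IH) (Lpr_bt (f27780 IH) (Lpe (f27286 IH) (Lpr_ct (f302 IH) (Lpe (f8298 IH) (Lpe (f39 IH) (Lpn (LP (LK LD1_c0 LD2_c1 LD3_c33)))))))))))))
theorem f1412 : Led Lsl_bt (LP (LK LD1_c0 LD2_c1 LD3_c3)) = (LP (LK LD1_c0 LD2_c2 LD3_c31)) :=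
  Lre_b IH (LK LD1_c0 LD2_c1 LD3_c3) (LK LD1_c0 LD2_c2 LD3_c31) Lrfl Lrfl
theorem f28192 : Led Lsl_bt (LP (LK LD1_c0 LD2_c2 LD3_c43)) = (LP (LK LD1_c0 LD2_c5 LD3_c30)) :=
  Lgr Lrot22 (Lpr_ct (f7685 IH) (Lpe (f7703 IH) (Lpe (f489 IH) (Lpe (f490 IH) (Lpr_bf (f28186 IH) (Lpr_ct (f39 IH) (Lpr_gf (f8298 IH) (Lpe (f302 IH) (Lpr_bt (f1412 IH) (Lpe (f27758 IH) (Lpn (LP (LK LD1_c0 LD2_c5 LD3_c30)))))))))))))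
theorem f1482 : Led Lsl_ct (LP (LK LD1_c0 LD2_c0 LD3_c30)) = (LP (LK LD1_c0 LD2_c1 LD3_c20)) :=
  Lre_c IH (LK LD1_c0 LD2_c0 LD3_c30) (LK LD1_c0 LD2_c1 LD3_c20) Lrfl Lrfl
theorem f8296 : Led Lsl_gf (LP (LK LD1_c0 LD2_c2 LD3_c32)) = (LP (LK LD1_c0 LD2_c3 LD3_c14)) :=
  Lgr Lrot144 (Lpe (f474 IH) (Lpr_gt (f7703 IH) (Lpr_dt (f460 IH) (Lpe (f1482 IH) (Lpe (f295 IH) (Lpe (f1473 IH) (Lpe (f1641 IH) (Lpr_gf (f8292 IH) (Lpe (f8253 IH) (Lpn (LP (LK LD1_c0 LD2_c3 LD3_c14))))))))))))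
theorem f28207 : Led Lsl_gt (LP (LK LD1_c0 LD2_c2 LD3_c31)) = (LP (LK LD1_c0 LD2_c5 LD3_c19)) :=
  Lgr Lrot82 (Lpe (f1412 IH) (Lpr_ct (f302 IH) (Lpr_gf (f8296 IH) (Lpe (f7685 IH) (Lpr_bt (f28192 IH) (Lpr_gf (f27759 IH) (Lpr_bf (f8052 IH) (Lpr_ct (f27763 IH) (Lpe (f28167 IH) (Lpr_cf (f28169 IH) (Lpn (LP (LK LD1_c0 LD2_c5 LD3_c19)))))))))))))
theorem f27275 : Led Lsl_bt (LP (LK LD1_c0 LD2_c2 LD3_c26)) = (LP (LK LD1_c0 LD2_c5 LD3_c19)) :=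
  Lre_b IH (LK LD1_c0 LD2_c2 LD3_c26) (LK LD1_c0 LD2_c5 LD3_c19) Lrfl Lrfl
theorem f6959 : Led Lsl_ct (LP (LK LD1_c0 LD2_c2 LD3_c26)) = (LP (LK LD1_c0 LD2_c5 LD3_c20)) :=
  Lre_c IH (LK LD1_c0 LD2_c2 LD3_c26) (LK LD1_c0 LD2_c5 LD3_c20) Lrfl Lrfl
theorem f28212 : Led Lsl_gf (LP (LK LD1_c0 LD2_c2 LD3_c56)) = (LP (LK LD1_c0 LD2_c5 LD3_c20)) :=
  Lgr Lrot126 (Lpe (f239 IH) (Lpr_bt (f1692 IH) (Lpr_gt (f8294 IH) (Lpr_ct (f7685 IH) (Lpe (f8296 IH) (Lpe (f302 IH) (Lpr_bt (f1412 IH) (Lpr_gt (f28207 IH) (Lpe (f27275 IH) (Lpr_ct (f6959 IH) (Lpn (LP (LK LD1_c0 LD2_c5 LD3_c20)))))))))))))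
theorem f1681 : Led Lsl_ct (LP (LK LD1_c0 LD2_c3 LD3_c9)) = (LP (LK LD1_c0 LD2_c1 LD3_c19)) :=
  Lre_c IH (LK LD1_c0 LD2_c3 LD3_c9) (LK LD1_c0 LD2_c1 LD3_c19) Lrfl Lrfl
theorem f43 : Led Lsl_dt (LP (LK LD1_c0 LD2_c1 LD3_c5)) = (LP (LK LD1_c0 LD2_c0 LD3_c24)) :=
  Lre_d IH (LK LD1_c0 LD2_c1 LD3_c5) (LK LD1_c0 LD2_c0 LD3_c24) Lrfl Lrfl
theorem f293 : Led Lsl_gt (LP (LK LD1_c0 LD2_c0 LD3_c30)) = (LP (LK LD1_c0 LD2_c1 LD3_c18)) :=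
  Lre_g IH (LK LD1_c0 LD2_c0 LD3_c30) (LK LD1_c0 LD2_c1 LD3_c18) Lrfl Lrfl
theorem f21222 : Led Lsl_dt (LP (LK LD1_c0 LD2_c1 LD3_c30)) = (LP (LK LD1_c0 LD2_c1 LD3_c18)) :=
  Lgr Lrot37 (Lpr_et (f3851 IH) (Lpe (f21210 IH) (Lpr_dt (f8323 IH) (Lpr_gt (f21204 IH) (Lpe (f16643 IH) (Lpe (f21196 IH) (Lpr_gt (f5883 IH) (Lpe (f1476 IH) (Lpr_dt (f295 IH) (Lpr_gt (f293 IH) (Lpn (LP (LK LD1_c0 LD2_c1 LD3_c18)))))))))))))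
theorem f21226 : Led Lsl_gf (LP (LK LD1_c0 LD2_c1 LD3_c5)) = (LP (LK LD1_c0 LD2_c1 LD3_c18)) :=
  Lgr Lrot143 (Lpr_dt (f43 IH) (Lpe (f453 IH) (Lpe (f461 IH) (Lpq (f7228 IH) (Lpe (f6993 IH) (Lpr_df (f7072 IH) (Lpe (f93 IH) (Lpe (f208 IH) (Lpr_gt (f211 IH) (Lpr_dt (f21222 IH) (Lpn (LP (LK LD1_c0 LD2_c1 LD3_c18)))))))))))))
theorem f294 : Led Lsl_ct (LP (LK LD1_c0 LD2_c1 LD3_c18)) = (LP (LK LD1_c0 LD2_c3 LD3_c6)) :=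
  Lre_c IH (LK LD1_c0 LD2_c1 LD3_c18) (LK LD1_c0 LD2_c3 LD3_c6) Lrfl Lrfl
theorem f80 : Led Lsl_dt (LP (LK LD1_c0 LD2_c1 LD3_c16)) = (LP (LK LD1_c0 LD2_c0 LD3_c29)) :=
  Lre_d IH (LK LD1_c0 LD2_c1 LD3_c16) (LK LD1_c0 LD2_c0 LD3_c29) Lrfl Lrfl
theorem f210 : Led Lsl_ct (LP (LK LD1_c0 LD2_c3 LD3_c2)) = (LP (LK LD1_c0 LD2_c1 LD3_c16)) :=
  Lre_c IH (LK LD1_c0 LD2_c3 LD3_c2) (LK LD1_c0 LD2_c1 LD3_c16) Lrfl Lrfl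
theorem f3089 : Led Lsl_gt (LP (LK LD1_c0 LD2_c3 LD3_c6)) = (LP (LK LD1_c0 LD2_c3 LD3_c2)) :=
  Lgr Lrot150 (Lpe (f294 IH) (Lpe (f293 IH) (Lpe (f295 IH) (Lpr_gt (f50 IH) (Lpe (f234 IH) (Lpq (f1684 IH) (Lpe (f1630 IH) (Lpr_ct (f54 IH) (Lpe (f80 IH) (Lpe (f210 IH) (Lpn (LP (LK LD1_c0 LD2_c3 LD3_c2)))))))))))))
theorem f28219 : Led Lsl_dt (LP (LK LD1_c0 LD2_c3 LD3_c2)) = (LP (LK LD1_c0 LD2_c5 LD3_c20)) :=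
  Lgr Lrot57 (Lpe (f3089 IH) (Lpe (f294 IH) (Lpe (f21226 IH) (Lpr_dt (f43 IH) (Lpq (f7226 IH) (Lpe (f6869 IH) (Lpr_dt (f1654 IH) (Lpe (f1642 IH) (Lpr_df (f1669 IH) (Lpr_gf (f28212 IH) (Lpn (LP (LK LD1_c0 LD2_c5 LD3_c20)))))))))))))
theorem f28221 : Led Lsl_gf (LP (LK LD1_c0 LD2_c3 LD3_c9)) = (LP (LK LD1_c0 LD2_c3 LD3_c2)) :=
  Lgr Lrot147 (Lpr_ct (f1681 IH) (Lpr_gt (f227 IH) (Lpr_ct (f1482 IH) (Lpe (f460 IH) (Lpe (f7685 IH) (Lpe (f8294 IH) (Lpe (f237 IH) (Lpr_gf (f28212 IH) (Lpe (f28219 IH) (Lpn (LP (LK LD1_c0 LD2_c3 LD3_c2))))))))))))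
theorem f221 : Led Lsl_ct (LP (LK LD1_c0 LD2_c1 LD3_c16)) = (LP (LK LD1_c0 LD2_c3 LD3_c2)) :=
  Lre_c IH (LK LD1_c0 LD2_c1 LD3_c16) (LK LD1_c0 LD2_c3 LD3_c2) Lrfl Lrfl
theorem f81 : Led Lsl_gt (LP (LK LD1_c0 LD2_c3 LD3_c1)) = (LP (LK LD1_c0 LD2_c1 LD3_c16)) :=
  Lre_g IH (LK LD1_c0 LD2_c3 LD3_c1) (LK LD1_c0 LD2_c1 LD3_c16) Lrfl Lrfl
theorem f28229 : Led Lsl_df (LP (LK LD1_c0 LD2_c1 LD3_c28)) = (LP (LK LD1_c0 LD2_c3 LD3_c1)) :=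
  Lgr Lrot155 (Lpr_gt (f8138 IH) (Lpr_ct (f86 IH) (Lpr_gt (f96 IH) (Lpr_ct (f97 IH) (Lpe (f20444 IH) (Lpe (f1681 IH) (Lpr_gf (f28221 IH) (Lpe (f221 IH) (Lpe (f81 IH) (Lpn (LP (LK LD1_c0 LD2_c3 LD3_c1))))))))))))
def v16 : LQ := Led Lsl_gf (LP (LK LD1_c0 LD2_c0 LD3_c8))
theorem f1465 : Led Lsl_gf (LP (LK LD1_c0 LD2_c0 LD3_c8)) = v16 :=
  Lrfl
theorem f16 : Led Lsl_at (LP (LK LD1_c0 LD2_c0 LD3_c2)) = (LP (LK LD1_c0 LD2_c0 LD3_c8)) :=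
  Lre_a IH (LK LD1_c0 LD2_c0 LD3_c2) (LK LD1_c0 LD2_c0 LD3_c8) Lrfl Lrfl
theorem f1466 : Led Lsl_gt v1 = v16 :=
  Lgr Lrot5 (Lpe (f36 IH) (Lpr_at (f16 IH) (Lpr_gf (f1465 IH) (Lpn v16))))
theorem f7217 : v16 = (LP (LK LD1_c0 LD2_c0 LD3_c6)) :=
  Lefun (Lecon (f1466 IH) (f7207 IH)) (f25 IH)
theorem f28320 : Led Lsl_gt (LP (LK LD1_c0 LD2_c2 LD3_c20)) = (LP (LK LD1_c0 LD2_c3 LD3_c1)) :=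
  Lgr Lrot49 (Lpe (f446 IH) (Lpe (f52 IH) (Lpe (f51 IH) (Lpq (f7217 IH) (Lpe (f1465 IH) (Lpr_dt (f454 IH) (Lpq (f7228 IH) (Lpe (f6992 IH) (Lpr_dt (f3963 IH) (Lpe (f1418 IH) (Lpr_df (f28229 IH) (Lpn (LP (LK LD1_c0 LD2_c3 LD3_c1))))))))))))))
theorem f6789 : Led Lsl_gt (LP (LK LD1_c0 LD2_c3 LD3_c12)) = (LP (LK LD1_c0 LD2_c1 LD3_c20)) :=
  Lre_g IH (LK LD1_c0 LD2_c3 LD3_c12) (LK LD1_c0 LD2_c1 LD3_c20) Lrfl Lrfl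
theorem f28405 : Led Lsl_cf (LP (LK LD1_c0 LD2_c3 LD3_c12)) = (LP (LK LD1_c0 LD2_c3 LD3_c1)) :=
  Lgr Lrot169 (Lpr_gt (f6789 IH) (Lpr_ct (f459 IH) (Lpe (f295 IH) (Lpe (f27 IH) (Lpe (f26 IH) (Lpe (f297 IH) (Lpe (f6786 IH) (Lpe (f6788 IH) (Lpr_gt (f28320 IH) (Lpn (LP (LK LD1_c0 LD2_c3 LD3_c1))))))))))))
theorem f420 : Led Lsl_bt (LP (LK LD1_c0 LD2_c1 LD3_c26)) = (LP (LK LD1_c0 LD2_c3 LD3_c29)) :=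
  Lre_b IH (LK LD1_c0 LD2_c1 LD3_c26) (LK LD1_c0 LD2_c3 LD3_c29) Lrfl Lrfl
theorem f8201 : Led Lsl_ff (LP (LK LD1_c0 LD2_c1 LD3_c26)) = (LP (LK LD1_c0 LD2_c1 LD3_c26)) :=
  Lgr Lrot25 (Lpr_bt (f420 IH) (Lpr_ft (f8196 IH) (Lpr_bt (f7077 IH) (Lpn (LP (LK LD1_c0 LD2_c1 LD3_c26))))))
theorem f8246 : Led Lsl_gf (LP (LK LD1_c0 LD2_c1 LD3_c28)) = (LP (LK LD1_c0 LD2_c3 LD3_c28)) :=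
  Lgr Lrot76 (Lpr_af (f8242 IH) (Lpr_ff (f8201 IH) (Lpr_gt (f230 IH) (Lpn (LP (LK LD1_c0 LD2_c3 LD3_c28))))))
theorem f9638 : Led Lsl_df (LP (LK LD1_c0 LD2_c3 LD3_c1)) = (LP (LK LD1_c0 LD2_c1 LD3_c28)) :=
  Lgr Lrot153 (Lpr_gt (f81 IH) (Lpr_dt (f80 IH) (Lpe (f54 IH) (Lpe (f219 IH) (Lpe (f95 IH) (Lpr_df (f3953 IH) (Lpr_gf (f9636 IH) (Lpe (f9625 IH) (Lpe (f8246 IH) (Lpn (LP (LK LD1_c0 LD2_c1 LD3_c28))))))))))))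
theorem f9629 : Led Lsl_df (LP (LK LD1_c0 LD2_c3 LD3_c28)) = (LP (LK LD1_c0 LD2_c2 LD3_c26)) :=
  Lgr Lrot174 (Lpr_ct (f9625 IH) (Lpe (f7039 IH) (Lpq (f7283 IH) (Lpe (f7184 IH) (Lpr_df (f1646 IH) (Lpe (f312 IH) (Lpr_ct (f54 IH) (Lpr_gt (f7014 IH) (Lpq (f7205 IH) (Lpr_dt (f488 IH) (Lpr_gt (f6755 IH) (Lpn (LP (LK LD1_c0 LD2_c2 LD3_c26))))))))))))))
theorem f7705 : Led Lsl_gt (LP (LK LD1_c0 LD2_c1 LD3_c20)) = (LP (LK LD1_c0 LD2_c3 LD3_c11)) :=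
  Lre_g IH (LK LD1_c0 LD2_c1 LD3_c20) (LK LD1_c0 LD2_c3 LD3_c11) Lrfl Lrfl
theorem f28418 : Led Lsl_df (LP (LK LD1_c0 LD2_c3 LD3_c12)) = (LP (LK LD1_c0 LD2_c3 LD3_c11)) :=
  Lgr Lrot84 (Lpr_cf (f28405 IH) (Lpr_df (f9638 IH) (Lpr_gf (f8246 IH) (Lpr_df (f9629 IH) (Lpe (f6755 IH) (Lpe (f473 IH) (Lpr_gt (f7703 IH) (Lpr_dt (f460 IH) (Lpr_gt (f7705 IH) (Lpn (LP (LK LD1_c0 LD2_c3 LD3_c11))))))))))))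
def v51 : LQ := Led Lsl_gt (LP (LK LD1_c0 LD2_c0 LD3_c24))
theorem f6841 : Led Lsl_gt (LP (LK LD1_c0 LD2_c0 LD3_c24)) = v51 :=
  Lrfl
theorem f6861 : Led Lsl_af v17 = v53 :=
  Lgr Lrot45 (Lpe (f1481 IH) (Lpr_at (f1474 IH) (Lpr_ft (f6860 IH) (Lpn v53))))
theorem f6865 : Led Lsl_gt v51 = v17 :=
  Lgr Lrot46 (Lpe (f6841 IH) (Lpr_ft (f6860 IH) (Lpe (f6861 IH) (Lpn v17))))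
theorem f7244 : v51 = (LP (LK LD1_c0 LD2_c0 LD3_c28)) :=
  Lefun (Lecon (Lfl_gt (f6865 IH)) (f7221 IH)) (Lfl_gt (f1473 IH))
theorem f1682 : Led Lsl_ct (LP (LK LD1_c0 LD2_c1 LD3_c19)) = (LP (LK LD1_c0 LD2_c3 LD3_c9)) :=
  Lre_c IH (LK LD1_c0 LD2_c1 LD3_c19) (LK LD1_c0 LD2_c3 LD3_c9) Lrfl Lrfl
theorem f20619 : Led Lsl_gf (LP (LK LD1_c0 LD2_c5 LD3_c7)) = (LP (LK LD1_c0 LD2_c3 LD3_c9)) :=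
  Lgr Lrot104 (Lpr_ct (f8106 IH) (Lpe (f446 IH) (Lpq (f7194 IH) (Lpe (f7038 IH) (Lpq (f7283 IH) (Lpe (f7184 IH) (Lpe (f1640 IH) (Lpq (f7244 IH) (Lpe (f6841 IH) (Lpe (f43 IH) (Lpr_gt (f20615 IH) (Lpr_ct (f1682 IH) (Lpn (LP (LK LD1_c0 LD2_c3 LD3_c9)))))))))))))))
theorem f6851 : Led Lsl_ct (LP (LK LD1_c0 LD2_c1 LD3_c5)) = (LP (LK LD1_c0 LD2_c2 LD3_c36)) :=
  Lre_c IH (LK LD1_c0 LD2_c1 LD3_c5) (LK LD1_c0 LD2_c2 LD3_c36) Lrfl Lrfl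
theorem f8273 : Led Lsl_df (LP (LK LD1_c0 LD2_c3 LD3_c37)) = (LP (LK LD1_c0 LD2_c2 LD3_c36)) :=
  Lgr Lrot43 (Lpr_ct (f6870 IH) (Lpr_dt (f303 IH) (Lpr_ct (f208 IH) (Lpr_dt (f33 IH) (Lpr_ct (f27 IH) (Lpr_dt (f295 IH) (Lpr_ct (f1482 IH) (Lpr_dt (f1483 IH) (Lpr_ct (f8253 IH) (Lpr_dt (f1467 IH) (Lpr_ct (f1468 IH) (Lpr_dt (f461 IH) (Lpr_ct (f453 IH) (Lpr_dt (f1469 IH) (Lpr_ct (f6851 IH) (Lpn (LP (LK LD1_c0 LD2_c2 LD3_c36))))))))))))))))))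
theorem f3091 : Led Lsl_ct (LP (LK LD1_c0 LD2_c3 LD3_c6)) = (LP (LK LD1_c0 LD2_c1 LD3_c18)) :=
  Lre_c IH (LK LD1_c0 LD2_c3 LD3_c6) (LK LD1_c0 LD2_c1 LD3_c18) Lrfl Lrfl
theorem f21228 : Led Lsl_gt (LP (LK LD1_c0 LD2_c5 LD3_c7)) = (LP (LK LD1_c0 LD2_c3 LD3_c6)) :=
  Lgr Lrot9 (Lpe (f8107 IH) (Lpe (f8065 IH) (Lpr_ct (f1642 IH) (Lpr_gt (f6872 IH) (Lpr_ct (f39 IH) (Lpr_df (f8273 IH) (Lpe (f6851 IH) (Lpr_gf (f21226 IH) (Lpe (f3091 IH) (Lpn (LP (LK LD1_c0 LD2_c3 LD3_c6))))))))))))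
theorem f21272 : Led Lsl_df (LP (LK LD1_c0 LD2_c3 LD3_c9)) = (LP (LK LD1_c0 LD2_c3 LD3_c6)) :=
  Lgr Lrot84 (Lpe (f1682 IH) (Lpr_df (f20444 IH) (Lpe (f9634 IH) (Lpe (f1467 IH) (Lpe (f8294 IH) (Lpe (f237 IH) (Lpr_gt (f8104 IH) (Lpr_dt (f8107 IH) (Lpr_gt (f21228 IH) (Lpn (LP (LK LD1_c0 LD2_c3 LD3_c6))))))))))))
theorem f9501 : Led Lsl_gt (LP (LK LD1_c0 LD2_c7 LD3_c22)) = (LP (LK LD1_c0 LD2_c3 LD3_c18)) :=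
  Lre_g IH (LK LD1_c0 LD2_c7 LD3_c22) (LK LD1_c0 LD2_c3 LD3_c18) Lrfl Lrfl
theorem f9502 : Led Lsl_dt (LP (LK LD1_c0 LD2_c1 LD3_c21)) = (LP (LK LD1_c0 LD2_c3 LD3_c18)) :=
  Lre_d IH (LK LD1_c0 LD2_c1 LD3_c21) (LK LD1_c0 LD2_c3 LD3_c18) Lrfl Lrfl
theorem f7058 : Led Lsl_et (LP (LK LD1_c0 LD2_c1 LD3_c21)) = (LP (LK LD1_c0 LD2_c0 LD3_c30)) :=
  Lre_e IH (LK LD1_c0 LD2_c1 LD3_c21) (LK LD1_c0 LD2_c0 LD3_c30) Lrfl Lrfl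
theorem f8384 : Led Lsl_gt (LP (LK LD1_c0 LD2_c6 LD3_c0)) = (LP (LK LD1_c0 LD2_c13 LD3_c11)) :=
  Lre_g IH (LK LD1_c0 LD2_c6 LD3_c0) (LK LD1_c0 LD2_c13 LD3_c11) Lrfl Lrfl
theorem f9503 : Led Lsl_dt (LP (LK LD1_c0 LD2_c1 LD3_c18)) = (LP (LK LD1_c0 LD2_c1 LD3_c30)) :=
  Lgr Lrot171 (Lpe (f293 IH) (Lpe (f7058 IH) (Lpr_dt (f9502 IH) (Lpe (f9501 IH) (Lpe (f9480 IH) (Lpr_et (f9483 IH) (Lpe (f8384 IH) (Lpe (f8275 IH) (Lpr_dt (f1467 IH) (Lpr_gf (f8142 IH) (Lpn (LP (LK LD1_c0 LD2_c1 LD3_c30)))))))))))))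
theorem f21278 : Led Lsl_dt (LP (LK LD1_c0 LD2_c3 LD3_c9)) = (LP (LK LD1_c0 LD2_c3 LD3_c6)) :=
  Lgr Lrot173 (Lpe (f1682 IH) (Lpr_df (f20444 IH) (Lpe (f97 IH) (Lpe (f20617 IH) (Lpe (f222 IH) (Lpe (f20449 IH) (Lpe (f1681 IH) (Lpr_df (f21272 IH) (Lpe (f294 IH) (Lpe (f21222 IH) (Lpr_cf (f3847 IH) (Lpr_df (f3953 IH) (Lpe (f3849 IH) (Lpe (f9503 IH) (Lpe (f3091 IH) (Lpn (LP (LK LD1_c0 LD2_c3 LD3_c6))))))))))))))))))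
theorem f3092 : Led Lsl_gt (LP (LK LD1_c0 LD2_c1 LD3_c16)) = (LP (LK LD1_c0 LD2_c3 LD3_c0)) :=
  Lre_g IH (LK LD1_c0 LD2_c1 LD3_c16) (LK LD1_c0 LD2_c3 LD3_c0) Lrfl Lrfl
theorem f28420 : Led Lsl_cf (LP (LK LD1_c0 LD2_c3 LD3_c11)) = (LP (LK LD1_c0 LD2_c3 LD3_c0)) :=
  Lgr Lrot175 (Lpe (f28418 IH) (Lpr_cf (f28405 IH) (Lpe (f28320 IH) (Lpe (f8106 IH) (Lpr_gf (f20619 IH) (Lpr_dt (f21278 IH) (Lpr_gt (f3089 IH) (Lpr_ct (f210 IH) (Lpr_gt (f3092 IH) (Lpn (LP (LK LD1_c0 LD2_c3 LD3_c0))))))))))))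
theorem f220 : Led Lsl_dt (LP (LK LD1_c0 LD2_c0 LD3_c29)) = (LP (LK LD1_c0 LD2_c1 LD3_c16)) :=
  Lre_d IH (LK LD1_c0 LD2_c0 LD3_c29) (LK LD1_c0 LD2_c1 LD3_c16) Lrfl Lrfl
theorem f44 : Led Lsl_ct (LP (LK LD1_c0 LD2_c2 LD3_c36)) = (LP (LK LD1_c0 LD2_c1 LD3_c5)) :=
  Lre_c IH (LK LD1_c0 LD2_c2 LD3_c36) (LK LD1_c0 LD2_c1 LD3_c5) Lrfl Lrfl
theorem f28437 : Led Lsl_gt (LP (LK LD1_c0 LD2_c3 LD3_c11)) = (LP (LK LD1_c0 LD2_c2 LD3_c36)) :=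
  Lgr Lrot150 (Lpr_cf (f28420 IH) (Lpe (f3092 IH) (Lpe (f220 IH) (Lpr_gt (f7014 IH) (Lpq (f7205 IH) (Lpr_ct (f447 IH) (Lpr_gt (f444 IH) (Lpq (f7209 IH) (Lpr_ct (f453 IH) (Lpe (f43 IH) (Lpe (f44 IH) (Lpn (LP (LK LD1_c0 LD2_c2 LD3_c36))))))))))))))
theorem f28441 : Led Lsl_bt (LP (LK LD1_c0 LD2_c1 LD3_c5)) = (LP (LK LD1_c0 LD2_c2 LD3_c34)) :=
  Lre_b IH (LK LD1_c0 LD2_c1 LD3_c5) (LK LD1_c0 LD2_c2 LD3_c34) Lrfl Lrfl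
theorem f27818 : Led Lsl_gt (LP (LK LD1_c0 LD2_c2 LD3_c34)) = (LP (LK LD1_c0 LD2_c5 LD3_c38)) :=
  Lre_g IH (LK LD1_c0 LD2_c2 LD3_c34) (LK LD1_c0 LD2_c5 LD3_c38) Lrfl Lrfl
theorem f7053 : Led Lsl_bt (LP (LK LD1_c0 LD2_c0 LD3_c30)) = (LP (LK LD1_c0 LD2_c1 LD3_c16)) :=
  Lre_b IH (LK LD1_c0 LD2_c0 LD3_c30) (LK LD1_c0 LD2_c1 LD3_c16) Lrfl Lrfl
theorem f28442 : Led Lsl_bf (LP (LK LD1_c0 LD2_c5 LD3_c38)) = (LP (LK LD1_c0 LD2_c3 LD3_c1)) :=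
  Lgr Lrot34 (Lpe (f27818 IH) (Lpe (f28441 IH) (Lpr_ct (f6851 IH) (Lpe (f28437 IH) (Lpr_cf (f28420 IH) (Lpe (f3092 IH) (Lpe (f7053 IH) (Lpr_ct (f1482 IH) (Lpe (f6789 IH) (Lpr_cf (f28405 IH) (Lpn (LP (LK LD1_c0 LD2_c3 LD3_c1)))))))))))))
theorem f28318 : Led Lsl_ft (LP (LK LD1_c0 LD2_c3 LD3_c1)) = (LP (LK LD1_c0 LD2_c3 LD3_c1)) :=
  Lgr Lrot54 (Lpr_df (f9638 IH) (Lpr_ff (f8160 IH) (Lpr_df (f28229 IH) (Lpn (LP (LK LD1_c0 LD2_c3 LD3_c1))))))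
theorem f28445 : Led Lsl_bt (LP (LK LD1_c0 LD2_c5 LD3_c38)) = (LP (LK LD1_c0 LD2_c3 LD3_c1)) :=
  Lgr Lrot127 (Lpr_bf (f28442 IH) (Lpn (LP (LK LD1_c0 LD2_c3 LD3_c1))))
theorem f28454 : Led Lsl_ft (LP (LK LD1_c0 LD2_c5 LD3_c38)) = (LP (LK LD1_c0 LD2_c5 LD3_c38)) :=
  Lgr Lrot75 (Lpr_bf (f28442 IH) (Lpe (f28318 IH) (Lpe (f28445 IH) (Lpn (LP (LK LD1_c0 LD2_c5 LD3_c38))))))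
theorem f28449 : Led Lsl_dt (LP (LK LD1_c0 LD2_c5 LD3_c38)) = (LP (LK LD1_c0 LD2_c3 LD3_c31)) :=
  Lgr Lrot79 (Lpr_bf (f28442 IH) (Lpr_df (f9638 IH) (Lpe (f7086 IH) (Lpn (LP (LK LD1_c0 LD2_c3 LD3_c31))))))
theorem f28474 : Led Lsl_df (LP (LK LD1_c0 LD2_c5 LD3_c38)) = (LP (LK LD1_c0 LD2_c3 LD3_c31)) :=
  Lgr Lrot78 (Lpr_ft (f28454 IH) (Lpr_dt (f28449 IH) (Lpr_ft (f8162 IH) (Lpn (LP (LK LD1_c0 LD2_c3 LD3_c31))))))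
theorem f28411 : Led Lsl_ct (LP (LK LD1_c0 LD2_c3 LD3_c12)) = (LP (LK LD1_c0 LD2_c3 LD3_c1)) :=
  Lgr Lrot59 (Lpr_cf (f28405 IH) (Lpn (LP (LK LD1_c0 LD2_c3 LD3_c1))))
theorem f8208 : Led Lsl_et (LP (LK LD1_c0 LD2_c1 LD3_c26)) = (LP (LK LD1_c0 LD2_c3 LD3_c30)) :=
  Lre_e IH (LK LD1_c0 LD2_c1 LD3_c26) (LK LD1_c0 LD2_c3 LD3_c30) Lrfl Lrfl
theorem f27292 : Led Lsl_dt (LP (LK LD1_c0 LD2_c1 LD3_c26)) = (LP (LK LD1_c0 LD2_c3 LD3_c0)) :=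
  Lgr Lrot56 (Lpr_et (f8208 IH) (Lpr_gt (f20986 IH) (Lpe (f9602 IH) (Lpr_dt (f27271 IH) (Lpe (f27286 IH) (Lpe (f301 IH) (Lpr_et (f6836 IH) (Lpqs (f8017 IH) (Lpr_gt (f6769 IH) (Lpq (f7202 IH) (Lpr_dt (f220 IH) (Lpr_gt (f3092 IH) (Lpn (LP (LK LD1_c0 LD2_c3 LD3_c0)))))))))))))))
theorem f6961 : Led Lsl_ct (LP (LK LD1_c0 LD2_c5 LD3_c20)) = (LP (LK LD1_c0 LD2_c2 LD3_c26)) :=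
  Lre_c IH (LK LD1_c0 LD2_c5 LD3_c20) (LK LD1_c0 LD2_c2 LD3_c26) Lrfl Lrfl
theorem f28227 : Led Lsl_df (LP (LK LD1_c0 LD2_c1 LD3_c26)) = (LP (LK LD1_c0 LD2_c3 LD3_c0)) :=
  Lgr Lrot153 (Lpr_gt (f230 IH) (Lpr_dt (f27271 IH) (Lpe (f6961 IH) (Lpe (f28219 IH) (Lpe (f3089 IH) (Lpe (f21278 IH) (Lpr_gf (f28221 IH) (Lpe (f221 IH) (Lpr_gt (f3092 IH) (Lpn (LP (LK LD1_c0 LD2_c3 LD3_c0))))))))))))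
theorem f28423 : Led Lsl_ct (LP (LK LD1_c0 LD2_c3 LD3_c11)) = (LP (LK LD1_c0 LD2_c3 LD3_c0)) :=
  Lgr Lrot59 (Lpr_cf (f28420 IH) (Lpn (LP (LK LD1_c0 LD2_c3 LD3_c0))))
theorem f28425 : Led Lsl_dt (LP (LK LD1_c0 LD2_c3 LD3_c12)) = (LP (LK LD1_c0 LD2_c3 LD3_c11)) :=
  Lgr Lrot173 (Lpr_cf (f28405 IH) (Lpr_df (f9638 IH) (Lpe (f1419 IH) (Lpe (f3963 IH) (Lpe (f1418 IH) (Lpr_df (f28229 IH) (Lpe (f28411 IH) (Lpr_df (f28418 IH) (Lpr_cf (f28420 IH) (Lpe (f27292 IH) (Lpe (f229 IH) (Lpr_df (f7072 IH) (Lpe (f419 IH) (Lpr_df (f28227 IH) (Lpe (f28423 IH) (Lpn (LP (LK LD1_c0 LD2_c3 LD3_c11))))))))))))))))))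
theorem f7687 : Led Lsl_at (LP (LK LD1_c0 LD2_c2 LD3_c36)) = (LP (LK LD1_c0 LD2_c1 LD3_c20)) :=
  Lre_a IH (LK LD1_c0 LD2_c2 LD3_c36) (LK LD1_c0 LD2_c1 LD3_c20) Lrfl Lrfl
theorem f7688 : Led Lsl_dt (LP (LK LD1_c0 LD2_c3 LD3_c37)) = (LP (LK LD1_c0 LD2_c2 LD3_c36)) :=
  Lgr Lrot44 (Lpr_af (f7676 IH) (Lpe (f1483 IH) (Lpe (f7687 IH) (Lpn (LP (LK LD1_c0 LD2_c2 LD3_c36))))))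
theorem f28435 : Led Lsl_gf (LP (LK LD1_c0 LD2_c3 LD3_c12)) = (LP (LK LD1_c0 LD2_c2 LD3_c36)) :=
  Lgr Lrot143 (Lpr_dt (f28425 IH) (Lpr_cf (f28420 IH) (Lpe (f27292 IH) (Lpe (f8249 IH) (Lpr_df (f8062 IH) (Lpe (f8060 IH) (Lpe (f299 IH) (Lpe (f8298 IH) (Lpr_dt (f7688 IH) (Lpn (LP (LK LD1_c0 LD2_c2 LD3_c36))))))))))))
theorem f3094 : Led Lsl_bt (LP (LK LD1_c0 LD2_c1 LD3_c16)) = (LP (LK LD1_c0 LD2_c0 LD3_c30)) :=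
  Lre_b IH (LK LD1_c0 LD2_c1 LD3_c16) (LK LD1_c0 LD2_c0 LD3_c30) Lrfl Lrfl
theorem f3095 : Led Lsl_bt (LP (LK LD1_c0 LD2_c1 LD3_c18)) = (LP (LK LD1_c0 LD2_c1 LD3_c18)) :=
  Lgr Lrot92 (Lpr_ct (f294 IH) (Lpr_gt (f3089 IH) (Lpe (f221 IH) (Lpr_bt (f3094 IH) (Lpr_gt (f293 IH) (Lpr_ct (f294 IH) (Lpr_gt (f3089 IH) (Lpe (f221 IH) (Lpr_bt (f3094 IH) (Lpr_gt (f293 IH) (Lpn (LP (LK LD1_c0 LD2_c1 LD3_c18)))))))))))))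
theorem f8109 : Led Lsl_ct (LP (LK LD1_c0 LD2_c2 LD3_c20)) = (LP (LK LD1_c0 LD2_c5 LD3_c7)) :=
  Lre_c IH (LK LD1_c0 LD2_c2 LD3_c20) (LK LD1_c0 LD2_c5 LD3_c7) Lrfl Lrfl
theorem f8125 : Led Lsl_bt (LP (LK LD1_c0 LD2_c2 LD3_c20)) = (LP (LK LD1_c0 LD2_c5 LD3_c5)) :=
  Lre_b IH (LK LD1_c0 LD2_c2 LD3_c20) (LK LD1_c0 LD2_c5 LD3_c5) Lrfl Lrfl
theorem f28457 : Led Lsl_gt (LP (LK LD1_c0 LD2_c5 LD3_c38)) = (LP (LK LD1_c0 LD2_c5 LD3_c5)) :=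
  Lgr Lrot164 (Lpr_bf (f28442 IH) (Lpe (f28405 IH) (Lpr_gf (f28435 IH) (Lpe (f6851 IH) (Lpr_gf (f21226 IH) (Lpe (f3095 IH) (Lpr_ct (f294 IH) (Lpe (f21228 IH) (Lpe (f8109 IH) (Lpr_bt (f8125 IH) (Lpn (LP (LK LD1_c0 LD2_c5 LD3_c5)))))))))))))
theorem f28459 : Led Lsl_dt (LP (LK LD1_c0 LD2_c5 LD3_c5)) = (LP (LK LD1_c0 LD2_c2 LD3_c19)) :=
  Lre_d IH (LK LD1_c0 LD2_c5 LD3_c5) (LK LD1_c0 LD2_c2 LD3_c19) Lrfl Lrfl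
theorem f28501 : Led Lsl_ct (LP (LK LD1_c0 LD2_c2 LD3_c19)) = (LP (LK LD1_c0 LD2_c2 LD3_c19)) :=
  Lgr Lrot7 (Lpe (f28459 IH) (Lpe (f28457 IH) (Lpr_df (f28474 IH) (Lpr_gf (f8255 IH) (Lpe (f9592 IH) (Lpe (f8255 IH) (Lpe (f28474 IH) (Lpr_gt (f28457 IH) (Lpr_dt (f28459 IH) (Lpn (LP (LK LD1_c0 LD2_c2 LD3_c19))))))))))))
theorem f6790 : Led Lsl_bt (LP (LK LD1_c0 LD2_c2 LD3_c19)) = (LP (LK LD1_c0 LD2_c0 LD3_c61)) :=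
  Lre_b IH (LK LD1_c0 LD2_c2 LD3_c19) (LK LD1_c0 LD2_c0 LD3_c61) Lrfl Lrfl
theorem f1475 : Led Lsl_bt (LP (LK LD1_c0 LD2_c0 LD3_c9)) = (LP (LK LD1_c0 LD2_c0 LD3_c29)) :=
  Lre_b IH (LK LD1_c0 LD2_c0 LD3_c9) (LK LD1_c0 LD2_c0 LD3_c29) Lrfl Lrfl
theorem f28507 : Led Lsl_gt (LP (LK LD1_c0 LD2_c1 LD3_c2)) = (LP (LK LD1_c0 LD2_c2 LD3_c19)) :=
  Lgr Lrot65 (Lpe (f27796 IH) (Lpr_bt (f1444 IH) (Lpqs (f7205 IH) (Lpe (f7014 IH) (Lpe (f1475 IH) (Lpr_ct (f32 IH) (Lpe (f26 IH) (Lpe (f297 IH) (Lpe (f6786 IH) (Lpe (f6790 IH) (Lpr_ct (f28501 IH) (Lpn (LP (LK LD1_c0 LD2_c2 LD3_c19))))))))))))))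
theorem f304 : Led Lsl_bt (LP (LK LD1_c0 LD2_c0 LD3_c23)) = (LP (LK LD1_c0 LD2_c1 LD3_c2)) :=
  Lre_b IH (LK LD1_c0 LD2_c0 LD3_c23) (LK LD1_c0 LD2_c1 LD3_c2) Lrfl Lrfl
theorem f467 : Led Lsl_bt (LP (LK LD1_c0 LD2_c0 LD3_c24)) = (LP (LK LD1_c0 LD2_c1 LD3_c4)) :=
  Lre_b IH (LK LD1_c0 LD2_c0 LD3_c24) (LK LD1_c0 LD2_c1 LD3_c4) Lrfl Lrfl
theorem f1455 : Led Lsl_bt (LP (LK LD1_c0 LD2_c1 LD3_c2)) = (LP (LK LD1_c0 LD2_c0 LD3_c23)) :=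
  Lre_b IH (LK LD1_c0 LD2_c1 LD3_c2) (LK LD1_c0 LD2_c0 LD3_c23) Lrfl Lrfl
theorem f8035 : Led Lsl_ff (LP (LK LD1_c0 LD2_c1 LD3_c2)) = (LP (LK LD1_c0 LD2_c1 LD3_c2)) :=
  Lgr Lrot25 (Lpr_bt (f1455 IH) (Lpq (f8031 IH) (Lpe (f6768 IH) (Lpr_bt (f304 IH) (Lpn (LP (LK LD1_c0 LD2_c1 LD3_c2)))))))
theorem f6835 : Led Lsl_at (LP (LK LD1_c0 LD2_c1 LD3_c2)) = (LP (LK LD1_c0 LD2_c2 LD3_c30)) :=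
  Lre_a IH (LK LD1_c0 LD2_c1 LD3_c2) (LK LD1_c0 LD2_c2 LD3_c30) Lrfl Lrfl
theorem f28509 : Led Lsl_gf (LP (LK LD1_c0 LD2_c2 LD3_c30)) = (LP (LK LD1_c0 LD2_c2 LD3_c19)) :=
  Lgr Lrot76 (Lpe (f6835 IH) (Lpr_ff (f8035 IH) (Lpr_gt (f28507 IH) (Lpn (LP (LK LD1_c0 LD2_c2 LD3_c19))))))
theorem f27914 : Led Lsl_dt (LP (LK LD1_c0 LD2_c5 LD3_c14)) = (LP (LK LD1_c0 LD2_c2 LD3_c24)) :=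
  Lre_d IH (LK LD1_c0 LD2_c5 LD3_c14) (LK LD1_c0 LD2_c2 LD3_c24) Lrfl Lrfl
theorem f27915 : Led Lsl_ct (LP (LK LD1_c0 LD2_c2 LD3_c24)) = (LP (LK LD1_c0 LD2_c2 LD3_c30)) :=
  Lgr Lrot176 (Lpe (f27914 IH) (Lpe (f27761 IH) (Lpe (f27762 IH) (Lpr_cf (f27806 IH) (Lpe (f8094 IH) (Lpe (f8071 IH) (Lpe (f8092 IH) (Lpe (f27796 IH) (Lpe (f6952 IH) (Lpe (f9632 IH) (Lpe (f9633 IH) (Lpr_cf (f27777 IH) (Lpr_df (f27735 IH) (Lpe (f27748 IH) (Lpe (f27753 IH) (Lpn (LP (LK LD1_c0 LD2_c2 LD3_c30))))))))))))))))))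
theorem f28515 : Led Lsl_bf (LP (LK LD1_c0 LD2_c2 LD3_c30)) = (LP (LK LD1_c0 LD2_c2 LD3_c24)) :=
  Lgr Lrot156 (Lpe (f27812 IH) (Lpe (f467 IH) (Lpr_ct (f42 IH) (Lpqs (f7209 IH) (Lpe (f458 IH) (Lpe (f297 IH) (Lpr_bt (f304 IH) (Lpr_gt (f28507 IH) (Lpr_ct (f28501 IH) (Lpe (f28509 IH) (Lpe (f27915 IH) (Lpn (LP (LK LD1_c0 LD2_c2 LD3_c24))))))))))))))
theorem f28549 : Led Lsl_bt (LP (LK LD1_c0 LD2_c2 LD3_c30)) = (LP (LK LD1_c0 LD2_c2 LD3_c24)) :=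
  Lgr Lrot127 (Lpr_bf (f28515 IH) (Lpn (LP (LK LD1_c0 LD2_c2 LD3_c24))))
theorem f28553 : Led Lsl_ft (LP (LK LD1_c0 LD2_c2 LD3_c24)) = (LP (LK LD1_c0 LD2_c2 LD3_c24)) :=
  Lgr Lrot75 (Lpe (f28549 IH) (Lpe (f27754 IH) (Lpr_bf (f28515 IH) (Lpn (LP (LK LD1_c0 LD2_c2 LD3_c24))))))
theorem f6764 : Led Lsl_at (LP (LK LD1_c0 LD2_c2 LD3_c24)) = (LP (LK LD1_c0 LD2_c1 LD3_c0)) :=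
  Lre_a IH (LK LD1_c0 LD2_c2 LD3_c24) (LK LD1_c0 LD2_c1 LD3_c0) Lrfl Lrfl
theorem f449 : Led Lsl_gt (LP (LK LD1_c0 LD2_c2 LD3_c23)) = (LP (LK LD1_c0 LD2_c1 LD3_c0)) :=
  Lre_g IH (LK LD1_c0 LD2_c2 LD3_c23) (LK LD1_c0 LD2_c1 LD3_c0) Lrfl Lrfl
theorem f28555 : Led Lsl_gt (LP (LK LD1_c0 LD2_c2 LD3_c24)) = (LP (LK LD1_c0 LD2_c2 LD3_c23)) :=
  Lgr Lrot5 (Lpr_ft (f28553 IH) (Lpr_at (f6764 IH) (Lpe (f449 IH) (Lpn (LP (LK LD1_c0 LD2_c2 LD3_c23))))))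
theorem f27800 : Led Lsl_cf (LP (LK LD1_c0 LD2_c2 LD3_c24)) = (LP (LK LD1_c0 LD2_c2 LD3_c30)) :=
  Lgr Lrot1 (Lpr_at (f6764 IH) (Lpr_ct (f27796 IH) (Lpr_at (f6835 IH) (Lpn (LP (LK LD1_c0 LD2_c2 LD3_c30))))))
theorem f7199 : Led Lsl_bt (LP (LK LD1_c0 LD2_c0 LD3_c61)) = (LP (LK LD1_c0 LD2_c2 LD3_c19)) :=
  Lre_b IH (LK LD1_c0 LD2_c0 LD3_c61) (LK LD1_c0 LD2_c2 LD3_c19) Lrfl Lrfl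
theorem f2938 : Led Lsl_bf (LP (LK LD1_c0 LD2_c2 LD3_c58)) = (LP (LK LD1_c0 LD2_c2 LD3_c22)) :=
  Lgr Lrot24 (Lpr_bt (f2936 IH) (Lpn (LP (LK LD1_c0 LD2_c2 LD3_c22))))
theorem f28559 : Led Lsl_ct (LP (LK LD1_c0 LD2_c2 LD3_c22)) = (LP (LK LD1_c0 LD2_c2 LD3_c23)) :=
  Lgr Lrot63 (Lpe (f2938 IH) (Lpe (f2928 IH) (Lpe (f1657 IH) (Lpr_ct (f1640 IH) (Lpr_gt (f7184 IH) (Lpqs (f7283 IH) (Lpr_cf (f7037 IH) (Lpqs (f7194 IH) (Lpr_bt (f7199 IH) (Lpe (f28509 IH) (Lpe (f27800 IH) (Lpr_gt (f28555 IH) (Lpn (LP (LK LD1_c0 LD2_c2 LD3_c23)))))))))))))))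
theorem f28561 : Led Lsl_gf (LP (LK LD1_c0 LD2_c2 LD3_c24)) = (LP (LK LD1_c0 LD2_c2 LD3_c22)) :=
  Lgr Lrot124 (Lpe (f28549 IH) (Lpe (f27800 IH) (Lpr_gt (f28555 IH) (Lpe (f28559 IH) (Lpe (f2938 IH) (Lpe (f2928 IH) (Lpr_ct (f2898 IH) (Lpr_gt (f2899 IH) (Lpe (f2930 IH) (Lpr_bt (f2936 IH) (Lpn (LP (LK LD1_c0 LD2_c2 LD3_c22)))))))))))))
theorem f16668 : Led Lsl_dt (LP (LK LD1_c0 LD2_c1 LD3_c4)) = (LP (LK LD1_c0 LD2_c2 LD3_c34)) :=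
  Lre_d IH (LK LD1_c0 LD2_c1 LD3_c4) (LK LD1_c0 LD2_c2 LD3_c34) Lrfl Lrfl
theorem f16672 : Led Lsl_ct (LP (LK LD1_c0 LD2_c5 LD3_c40)) = (LP (LK LD1_c0 LD2_c2 LD3_c34)) :=
  Lre_c IH (LK LD1_c0 LD2_c5 LD3_c40) (LK LD1_c0 LD2_c2 LD3_c34) Lrfl Lrfl
theorem f16675 : Led Lsl_gt (LP (LK LD1_c0 LD2_c12 LD3_c20)) = (LP (LK LD1_c0 LD2_c5 LD3_c40)) :=
  Lre_g IH (LK LD1_c0 LD2_c12 LD3_c20) (LK LD1_c0 LD2_c5 LD3_c40) Lrfl Lrfl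
theorem f2995 : Led Lsl_dt (LP (LK LD1_c0 LD2_c5 LD3_c10)) = (LP (LK LD1_c0 LD2_c2 LD3_c22)) :=
  Lre_d IH (LK LD1_c0 LD2_c5 LD3_c10) (LK LD1_c0 LD2_c2 LD3_c22) Lrfl Lrfl
theorem f2996 : Led Lsl_gt (LP (LK LD1_c0 LD2_c5 LD3_c10)) = (LP (LK LD1_c0 LD2_c11 LD3_c5)) :=
  Lre_g IH (LK LD1_c0 LD2_c5 LD3_c10) (LK LD1_c0 LD2_c11 LD3_c5) Lrfl Lrfl
theorem f28569 : Led Lsl_cf (LP (LK LD1_c0 LD2_c12 LD3_c20)) = (LP (LK LD1_c0 LD2_c11 LD3_c5)) :=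
  Lgr Lrot169 (Lpr_gt (f16675 IH) (Lpr_ct (f16672 IH) (Lpe (f16668 IH) (Lpr_cf (f16628 IH) (Lpr_gf (f27812 IH) (Lpe (f27915 IH) (Lpr_gf (f28561 IH) (Lpe (f2995 IH) (Lpr_gt (f2996 IH) (Lpn (LP (LK LD1_c0 LD2_c11 LD3_c5))))))))))))
theorem f16669 : Led Lsl_ct (LP (LK LD1_c0 LD2_c2 LD3_c34)) = (LP (LK LD1_c0 LD2_c5 LD3_c40)) :=
  Lre_c IH (LK LD1_c0 LD2_c2 LD3_c34) (LK LD1_c0 LD2_c5 LD3_c40) Lrfl Lrfl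
theorem f20621 : Led Lsl_bt (LP (LK LD1_c0 LD2_c2 LD3_c34)) = (LP (LK LD1_c0 LD2_c1 LD3_c5)) :=
  Lre_b IH (LK LD1_c0 LD2_c2 LD3_c34) (LK LD1_c0 LD2_c1 LD3_c5) Lrfl Lrfl
theorem f228 : Led Lsl_bt (LP (LK LD1_c0 LD2_c3 LD3_c8)) = (LP (LK LD1_c0 LD2_c1 LD3_c19)) :=
  Lre_b IH (LK LD1_c0 LD2_c3 LD3_c8) (LK LD1_c0 LD2_c1 LD3_c19) Lrfl Lrfl
theorem f2921 : Led Lsl_et (LP (LK LD1_c0 LD2_c6 LD3_c28)) = (LP (LK LD1_c0 LD2_c2 LD3_c58)) :=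
  Lre_e IH (LK LD1_c0 LD2_c6 LD3_c28) (LK LD1_c0 LD2_c2 LD3_c58) Lrfl Lrfl
theorem f2942 : Led Lsl_et (LP (LK LD1_c0 LD2_c2 LD3_c22)) = (LP (LK LD1_c0 LD2_c5 LD3_c11)) :=
  Lre_e IH (LK LD1_c0 LD2_c2 LD3_c22) (LK LD1_c0 LD2_c5 LD3_c11) Lrfl Lrfl
theorem f2943 : Led Lsl_bf (LP (LK LD1_c0 LD2_c6 LD3_c28)) = (LP (LK LD1_c0 LD2_c5 LD3_c11)) :=
  Lgr Lrot96 (Lpr_et (f2921 IH) (Lpr_bt (f2936 IH) (Lpr_et (f2942 IH) (Lpn (LP (LK LD1_c0 LD2_c5 LD3_c11))))))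
theorem f2922 : Led Lsl_dt (LP (LK LD1_c0 LD2_c6 LD3_c28)) = (LP (LK LD1_c0 LD2_c14 LD3_c6)) :=
  Lre_d IH (LK LD1_c0 LD2_c6 LD3_c28) (LK LD1_c0 LD2_c14 LD3_c6) Lrfl Lrfl
theorem f2947 : Led Lsl_dt (LP (LK LD1_c0 LD2_c11 LD3_c7)) = (LP (LK LD1_c0 LD2_c5 LD3_c11)) :=
  Lre_d IH (LK LD1_c0 LD2_c11 LD3_c7) (LK LD1_c0 LD2_c5 LD3_c11) Lrfl Lrfl
theorem f2948 : Led Lsl_bt (LP (LK LD1_c0 LD2_c14 LD3_c6)) = (LP (LK LD1_c0 LD2_c11 LD3_c7)) :=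
  Lgr Lrot95 (Lpe (f2922 IH) (Lpr_bf (f2943 IH) (Lpe (f2947 IH) (Lpn (LP (LK LD1_c0 LD2_c11 LD3_c7))))))
theorem f2958 : Led Lsl_et (LP (LK LD1_c0 LD2_c31 LD3_c43)) = (LP (LK LD1_c0 LD2_c14 LD3_c6)) :=
  Lre_e IH (LK LD1_c0 LD2_c31 LD3_c43) (LK LD1_c0 LD2_c14 LD3_c6) Lrfl Lrfl
theorem f2959 : Led Lsl_et (LP (LK LD1_c0 LD2_c11 LD3_c7)) = (LP (LK LD1_c0 LD2_c24 LD3_c59)) :=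
  Lre_e IH (LK LD1_c0 LD2_c11 LD3_c7) (LK LD1_c0 LD2_c24 LD3_c59) Lrfl Lrfl
theorem f2960 : Led Lsl_bf (LP (LK LD1_c0 LD2_c31 LD3_c43)) = (LP (LK LD1_c0 LD2_c24 LD3_c59)) :=
  Lgr Lrot96 (Lpr_et (f2958 IH) (Lpr_bt (f2948 IH) (Lpr_et (f2959 IH) (Lpn (LP (LK LD1_c0 LD2_c24 LD3_c59))))))
theorem f2972 : Led Lsl_dt (LP (LK LD1_c0 LD2_c31 LD3_c43)) = (LP (LK LD1_c0 LD2_c14 LD3_c5)) :=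
  Lre_d IH (LK LD1_c0 LD2_c31 LD3_c43) (LK LD1_c0 LD2_c14 LD3_c5) Lrfl Lrfl
theorem f2973 : Led Lsl_dt (LP (LK LD1_c0 LD2_c11 LD3_c6)) = (LP (LK LD1_c0 LD2_c24 LD3_c59)) :=
  Lre_d IH (LK LD1_c0 LD2_c11 LD3_c6) (LK LD1_c0 LD2_c24 LD3_c59) Lrfl Lrfl
theorem f2974 : Led Lsl_bt (LP (LK LD1_c0 LD2_c14 LD3_c5)) = (LP (LK LD1_c0 LD2_c11 LD3_c6)) :=
  Lgr Lrot95 (Lpe (f2972 IH) (Lpr_bf (f2960 IH) (Lpe (f2973 IH) (Lpn (LP (LK LD1_c0 LD2_c11 LD3_c6))))))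
theorem f2979 : Led Lsl_bf (LP (LK LD1_c0 LD2_c14 LD3_c5)) = (LP (LK LD1_c0 LD2_c11 LD3_c6)) :=
  Lgr Lrot24 (Lpr_bt (f2974 IH) (Lpn (LP (LK LD1_c0 LD2_c11 LD3_c6))))
theorem f2990 : Led Lsl_et (LP (LK LD1_c0 LD2_c14 LD3_c5)) = (LP (LK LD1_c0 LD2_c6 LD3_c27)) :=
  Lre_e IH (LK LD1_c0 LD2_c14 LD3_c5) (LK LD1_c0 LD2_c6 LD3_c27) Lrfl Lrfl
theorem f2991 : Led Lsl_et (LP (LK LD1_c0 LD2_c5 LD3_c10)) = (LP (LK LD1_c0 LD2_c11 LD3_c6)) :=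
  Lre_e IH (LK LD1_c0 LD2_c5 LD3_c10) (LK LD1_c0 LD2_c11 LD3_c6) Lrfl Lrfl
theorem f2992 : Led Lsl_bt (LP (LK LD1_c0 LD2_c6 LD3_c27)) = (LP (LK LD1_c0 LD2_c5 LD3_c10)) :=
  Lgr Lrot119 (Lpe (f2990 IH) (Lpr_bf (f2979 IH) (Lpe (f2991 IH) (Lpn (LP (LK LD1_c0 LD2_c5 LD3_c10))))))
theorem f2157 : Led Lsl_ef (LP (LK LD1_c0 LD2_c6 LD3_c35)) = (LP (LK LD1_c0 LD2_c6 LD3_c35)) :=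
  Lgr Lrot20 (Lpe (f2148 IH) (Lpr_et (f1515 IH) (Lpr_at (f2136 IH) (Lpn (LP (LK LD1_c0 LD2_c6 LD3_c35))))))
theorem f2884 : Led Lsl_et (LP (LK LD1_c0 LD2_c14 LD3_c10)) = (LP (LK LD1_c0 LD2_c14 LD3_c10)) :=
  Lgr Lrot74 (Lpe (f2150 IH) (Lpr_ef (f2157 IH) (Lpe (f2146 IH) (Lpn (LP (LK LD1_c0 LD2_c14 LD3_c10))))))
theorem f2891 : Led Lsl_ff (LP (LK LD1_c0 LD2_c2 LD3_c59)) = (LP (LK LD1_c0 LD2_c2 LD3_c59)) :=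
  Lgr Lrot72 (Lpr_et (f2888 IH) (Lpr_ft (f2887 IH) (Lpr_et (f2884 IH) (Lpr_ft (f2889 IH) (Lpr_et (f2890 IH) (Lpn (LP (LK LD1_c0 LD2_c2 LD3_c59))))))))
theorem f2118 : Led Lsl_bt (LP (LK LD1_c0 LD2_c1 LD3_c15)) = (LP (LK LD1_c0 LD2_c2 LD3_c59)) :=
  Lre_b IH (LK LD1_c0 LD2_c1 LD3_c15) (LK LD1_c0 LD2_c2 LD3_c59) Lrfl Lrfl
theorem f2119 : Led Lsl_af (LP (LK LD1_c0 LD2_c2 LD3_c59)) = (LP (LK LD1_c0 LD2_c2 LD3_c59)) :=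
  Lgr Lrot36 (Lpr_bt (f1694 IH) (Lpr_at (f1679 IH) (Lpr_bt (f1692 IH) (Lpr_at (f2116 IH) (Lpr_bt (f2118 IH) (Lpn (LP (LK LD1_c0 LD2_c2 LD3_c59))))))))
theorem f2895 : Led Lsl_gt (LP (LK LD1_c0 LD2_c2 LD3_c59)) = (LP (LK LD1_c0 LD2_c6 LD3_c29)) :=
  Lre_g IH (LK LD1_c0 LD2_c2 LD3_c59) (LK LD1_c0 LD2_c6 LD3_c29) Lrfl Lrfl
theorem f2896 : Led Lsl_gf (LP (LK LD1_c0 LD2_c2 LD3_c59)) = (LP (LK LD1_c0 LD2_c6 LD3_c29)) :=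
  Lgr Lrot76 (Lpr_af (f2119 IH) (Lpr_ff (f2891 IH) (Lpr_gt (f2895 IH) (Lpn (LP (LK LD1_c0 LD2_c6 LD3_c29))))))
theorem f28582 : Led Lsl_ct (LP (LK LD1_c0 LD2_c3 LD3_c8)) = (LP (LK LD1_c0 LD2_c6 LD3_c29)) :=
  Lgr Lrot64 (Lpr_bt (f228 IH) (Lpe (f20615 IH) (Lpe (f20621 IH) (Lpr_ct (f16669 IH) (Lpe (f16675 IH) (Lpr_cf (f28569 IH) (Lpe (f2996 IH) (Lpe (f2992 IH) (Lpe (f6880 IH) (Lpr_gf (f2896 IH) (Lpn (LP (LK LD1_c0 LD2_c6 LD3_c29)))))))))))))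
theorem f6888 : Led Lsl_ct (LP (LK LD1_c0 LD2_c2 LD3_c59)) = (LP (LK LD1_c0 LD2_c6 LD3_c27)) :=
  Lgr Lrot59 (Lpr_cf (f6880 IH) (Lpn (LP (LK LD1_c0 LD2_c6 LD3_c27))))
theorem f28592 : Led Lsl_gf (LP (LK LD1_c0 LD2_c3 LD3_c8)) = (LP (LK LD1_c0 LD2_c6 LD3_c27)) :=
  Lgr Lrot147 (Lpr_ct (f28582 IH) (Lpe (f2896 IH) (Lpr_ct (f6888 IH) (Lpe (f2900 IH) (Lpe (f2930 IH) (Lpe (f2899 IH) (Lpe (f2898 IH) (Lpr_gf (f2928 IH) (Lpe (f2903 IH) (Lpn (LP (LK LD1_c0 LD2_c6 LD3_c27))))))))))))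
theorem f6892 : Led Lsl_ft (LP (LK LD1_c0 LD2_c6 LD3_c27)) = (LP (LK LD1_c0 LD2_c6 LD3_c27)) :=
  Lgr Lrot4 (Lpe (f6888 IH) (Lpr_ff (f2891 IH) (Lpr_cf (f6880 IH) (Lpn (LP (LK LD1_c0 LD2_c6 LD3_c27))))))
theorem f6894 : Led Lsl_af (LP (LK LD1_c0 LD2_c6 LD3_c27)) = (LP (LK LD1_c0 LD2_c6 LD3_c27)) :=
  Lgr Lrot109 (Lpe (f6888 IH) (Lpe (f2894 IH) (Lpe (f2898 IH) (Lpe (f2893 IH) (Lpr_cf (f6880 IH) (Lpe (f2900 IH) (Lpe (f2930 IH) (Lpe (f2903 IH) (Lpr_ft (f6892 IH) (Lpn (LP (LK LD1_c0 LD2_c6 LD3_c27))))))))))))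
theorem f2904 : Led Lsl_et (LP (LK LD1_c0 LD2_c6 LD3_c27)) = (LP (LK LD1_c0 LD2_c14 LD3_c5)) :=
  Lre_e IH (LK LD1_c0 LD2_c6 LD3_c27) (LK LD1_c0 LD2_c14 LD3_c5) Lrfl Lrfl
theorem f6898 : Led Lsl_at (LP (LK LD1_c0 LD2_c14 LD3_c5)) = (LP (LK LD1_c0 LD2_c14 LD3_c5)) :=
  Lgr Lrot80 (Lpe (f2904 IH) (Lpr_af (f6894 IH) (Lpe (f2990 IH) (Lpn (LP (LK LD1_c0 LD2_c14 LD3_c5))))))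
theorem f6890 : Led Lsl_ct (LP (LK LD1_c0 LD2_c6 LD3_c30)) = (LP (LK LD1_c0 LD2_c14 LD3_c5)) :=
  Lgr Lrot15 (Lpe (f2888 IH) (Lpr_cf (f6880 IH) (Lpe (f2990 IH) (Lpn (LP (LK LD1_c0 LD2_c14 LD3_c5))))))
theorem f2126 : Led Lsl_bt (LP (LK LD1_c0 LD2_c2 LD3_c61)) = (LP (LK LD1_c0 LD2_c6 LD3_c30)) :=
  Lre_b IH (LK LD1_c0 LD2_c2 LD3_c61) (LK LD1_c0 LD2_c6 LD3_c30) Lrfl Lrfl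
theorem f2127 : Led Lsl_bt (LP (LK LD1_c0 LD2_c6 LD3_c30)) = (LP (LK LD1_c0 LD2_c2 LD3_c61)) :=
  Lre_b IH (LK LD1_c0 LD2_c6 LD3_c30) (LK LD1_c0 LD2_c2 LD3_c61) Lrfl Lrfl
theorem f2128 : Led Lsl_at (LP (LK LD1_c0 LD2_c6 LD3_c30)) = (LP (LK LD1_c0 LD2_c6 LD3_c30)) :=
  Lgr Lrot67 (Lpe (f2126 IH) (Lpe (f2124 IH) (Lpr_bf (f1697 IH) (Lpr_af (f2122 IH) (Lpe (f2127 IH) (Lpn (LP (LK LD1_c0 LD2_c6 LD3_c30))))))))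
theorem f6900 : Led Lsl_cf (LP (LK LD1_c0 LD2_c6 LD3_c30)) = (LP (LK LD1_c0 LD2_c14 LD3_c5)) :=
  Lgr Lrot1 (Lpr_at (f2128 IH) (Lpr_ct (f6890 IH) (Lpr_at (f6898 IH) (Lpn (LP (LK LD1_c0 LD2_c14 LD3_c5))))))
theorem f2200 : Led Lsl_ct (LP (LK LD1_c0 LD2_c2 LD3_c61)) = (LP (LK LD1_c0 LD2_c6 LD3_c32)) :=
  Lre_c IH (LK LD1_c0 LD2_c2 LD3_c61) (LK LD1_c0 LD2_c6 LD3_c32) Lrfl Lrfl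
theorem f3067 : Led Lsl_bt (LP (LK LD1_c0 LD2_c6 LD3_c32)) = (LP (LK LD1_c0 LD2_c14 LD3_c11)) :=
  Lre_b IH (LK LD1_c0 LD2_c6 LD3_c32) (LK LD1_c0 LD2_c14 LD3_c11) Lrfl Lrfl
theorem f6916 : Led Lsl_ct (LP (LK LD1_c0 LD2_c14 LD3_c11)) = (LP (LK LD1_c0 LD2_c11 LD3_c6)) :=
  Lgr Lrot83 (Lpe (f3067 IH) (Lpe (f2200 IH) (Lpe (f2127 IH) (Lpr_cf (f6900 IH) (Lpr_bf (f2979 IH) (Lpn (LP (LK LD1_c0 LD2_c11 LD3_c6))))))))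
theorem f2429 : Led Lsl_et (LP (LK LD1_c0 LD2_c6 LD3_c31)) = (LP (LK LD1_c0 LD2_c14 LD3_c11)) :=
  Lre_e IH (LK LD1_c0 LD2_c6 LD3_c31) (LK LD1_c0 LD2_c14 LD3_c11) Lrfl Lrfl
theorem f2981 : Led Lsl_et (LP (LK LD1_c0 LD2_c11 LD3_c6)) = (LP (LK LD1_c0 LD2_c5 LD3_c10)) :=
  Lre_e IH (LK LD1_c0 LD2_c11 LD3_c6) (LK LD1_c0 LD2_c5 LD3_c10) Lrfl Lrfl
theorem f6924 : Led Lsl_cf (LP (LK LD1_c0 LD2_c6 LD3_c31)) = (LP (LK LD1_c0 LD2_c5 LD3_c10)) :=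
  Lgr Lrot39 (Lpr_et (f2429 IH) (Lpr_ct (f6916 IH) (Lpr_et (f2981 IH) (Lpn (LP (LK LD1_c0 LD2_c5 LD3_c10))))))
theorem f16671 : Led Lsl_dt (LP (LK LD1_c0 LD2_c2 LD3_c34)) = (LP (LK LD1_c0 LD2_c1 LD3_c4)) :=
  Lre_d IH (LK LD1_c0 LD2_c2 LD3_c34) (LK LD1_c0 LD2_c1 LD3_c4) Lrfl Lrfl
theorem f16674 : Led Lsl_gt (LP (LK LD1_c0 LD2_c5 LD3_c39)) = (LP (LK LD1_c0 LD2_c2 LD3_c34)) :=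
  Lre_g IH (LK LD1_c0 LD2_c5 LD3_c39) (LK LD1_c0 LD2_c2 LD3_c34) Lrfl Lrfl
theorem f27814 : Led Lsl_ct (LP (LK LD1_c0 LD2_c5 LD3_c39)) = (LP (LK LD1_c0 LD2_c12 LD3_c17)) :=
  Lre_c IH (LK LD1_c0 LD2_c5 LD3_c39) (LK LD1_c0 LD2_c12 LD3_c17) Lrfl Lrfl
theorem f1672 : Led Lsl_dt (LP (LK LD1_c0 LD2_c14 LD3_c12)) = (LP (LK LD1_c0 LD2_c6 LD3_c32)) :=
  Lre_d IH (LK LD1_c0 LD2_c14 LD3_c12) (LK LD1_c0 LD2_c6 LD3_c32) Lrfl Lrfl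
theorem f2201 : Led Lsl_at (LP (LK LD1_c0 LD2_c13 LD3_c60)) = (LP (LK LD1_c0 LD2_c14 LD3_c12)) :=
  Lgr Lrot51 (Lpe (f254 IH) (Lpr_af (f2197 IH) (Lpe (f1672 IH) (Lpn (LP (LK LD1_c0 LD2_c14 LD3_c12))))))
theorem f284 : Led Lsl_ft (LP (LK LD1_c0 LD2_c31 LD3_c34)) = (LP (LK LD1_c0 LD2_c13 LD3_c60)) :=
  Lre_f IH (LK LD1_c0 LD2_c31 LD3_c34) (LK LD1_c0 LD2_c13 LD3_c60) Lrfl Lrfl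
theorem f280 : Led Lsl_ct (LP (LK LD1_c0 LD2_c31 LD3_c34)) = (LP (LK LD1_c1 LD2_c9 LD3_c3)) :=
  Lre_c IH (LK LD1_c0 LD2_c31 LD3_c34) (LK LD1_c1 LD2_c9 LD3_c3) Lrfl Lrfl
theorem f2216 : Led Lsl_ct (LP (LK LD1_c0 LD2_c31 LD3_c55)) = (LP (LK LD1_c0 LD2_c14 LD3_c12)) :=
  Lre_c IH (LK LD1_c0 LD2_c31 LD3_c55) (LK LD1_c0 LD2_c14 LD3_c12) Lrfl Lrfl
theorem f2217 : Led Lsl_dt (LP (LK LD1_c1 LD2_c9 LD3_c3)) = (LP (LK LD1_c0 LD2_c31 LD3_c55)) :=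
  Lgr Lrot120 (Lpe (f280 IH) (Lpe (f279 IH) (Lpe (f278 IH) (Lpr_df (f259 IH) (Lpe (f281 IH) (Lpe (f282 IH) (Lpr_ft (f284 IH) (Lpr_at (f2201 IH) (Lpe (f2216 IH) (Lpn (LP (LK LD1_c0 LD2_c31 LD3_c55))))))))))))
theorem f283 : Led Lsl_ct (LP (LK LD1_c1 LD2_c9 LD3_c3)) = (LP (LK LD1_c0 LD2_c31 LD3_c34)) :=
  Lre_c IH (LK LD1_c1 LD2_c9 LD3_c3) (LK LD1_c0 LD2_c31 LD3_c34) Lrfl Lrfl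
theorem f2130 : Led Lsl_ct (LP (LK LD1_c0 LD2_c6 LD3_c32)) = (LP (LK LD1_c0 LD2_c2 LD3_c61)) :=
  Lre_c IH (LK LD1_c0 LD2_c6 LD3_c32) (LK LD1_c0 LD2_c2 LD3_c61) Lrfl Lrfl
theorem f2225 : Led Lsl_dt (LP (LK LD1_c0 LD2_c6 LD3_c32)) = (LP (LK LD1_c0 LD2_c14 LD3_c12)) :=
  Lre_d IH (LK LD1_c0 LD2_c6 LD3_c32) (LK LD1_c0 LD2_c14 LD3_c12) Lrfl Lrfl
theorem f2178 : Led Lsl_ct (LP (LK LD1_c0 LD2_c14 LD3_c12)) = (LP (LK LD1_c0 LD2_c31 LD3_c55)) :=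
  Lre_c IH (LK LD1_c0 LD2_c14 LD3_c12) (LK LD1_c0 LD2_c31 LD3_c55) Lrfl Lrfl
theorem f2226 : Led Lsl_df (LP (LK LD1_c1 LD2_c9 LD3_c3)) = (LP (LK LD1_c0 LD2_c31 LD3_c55)) :=
  Lgr Lrot43 (Lpr_ct (f283 IH) (Lpr_dt (f282 IH) (Lpr_ct (f281 IH) (Lpe (f259 IH) (Lpr_ct (f278 IH) (Lpr_dt (f279 IH) (Lpr_ct (f280 IH) (Lpr_dt (f2217 IH) (Lpr_ct (f2216 IH) (Lpr_dt (f1672 IH) (Lpr_ct (f2130 IH) (Lpr_dt (f2133 IH) (Lpr_ct (f2200 IH) (Lpr_dt (f2225 IH) (Lpr_ct (f2178 IH) (Lpn (LP (LK LD1_c0 LD2_c31 LD3_c55))))))))))))))))))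
theorem f2229 : Led Lsl_ft (LP (LK LD1_c1 LD2_c9 LD3_c3)) = (LP (LK LD1_c0 LD2_c31 LD3_c33)) :=
  Lre_f IH (LK LD1_c1 LD2_c9 LD3_c3) (LK LD1_c0 LD2_c31 LD3_c33) Lrfl Lrfl
theorem f2261 : Led Lsl_ft (LP (LK LD1_c1 LD2_c9 LD3_c2)) = (LP (LK LD1_c0 LD2_c31 LD3_c55)) :=
  Lgr Lrot54 (Lpe (f256 IH) (Lpe (f2229 IH) (Lpr_df (f2226 IH) (Lpn (LP (LK LD1_c0 LD2_c31 LD3_c55))))))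
theorem f2164 : Led Lsl_bt (LP (LK LD1_c2 LD2_c24 LD3_c2)) = (LP (LK LD1_c1 LD2_c9 LD3_c2)) :=
  Lre_b IH (LK LD1_c2 LD2_c24 LD3_c2) (LK LD1_c1 LD2_c9 LD3_c2) Lrfl Lrfl
theorem f2222 : Led Lsl_bt (LP (LK LD1_c0 LD2_c31 LD3_c55)) = (LP (LK LD1_c1 LD2_c9 LD3_c26)) :=
  Lre_b IH (LK LD1_c0 LD2_c31 LD3_c55) (LK LD1_c1 LD2_c9 LD3_c26) Lrfl Lrfl
theorem f2266 : Led Lsl_ff (LP (LK LD1_c2 LD2_c24 LD3_c2)) = (LP (LK LD1_c1 LD2_c9 LD3_c26)) :=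
  Lgr Lrot25 (Lpr_bt (f2164 IH) (Lpr_ft (f2261 IH) (Lpr_bt (f2222 IH) (Lpn (LP (LK LD1_c1 LD2_c9 LD3_c26))))))
theorem f2278 : Led Lsl_ft (LP (LK LD1_c2 LD2_c24 LD3_c2)) = (LP (LK LD1_c1 LD2_c9 LD3_c26)) :=
  Lgr Lrot48 (Lpr_ff (f2266 IH) (Lpn (LP (LK LD1_c1 LD2_c9 LD3_c26))))
theorem f2275 : Led Lsl_dt (LP (LK LD1_c2 LD2_c24 LD3_c2)) = (LP (LK LD1_c1 LD2_c9 LD3_c1)) :=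
  Lre_d IH (LK LD1_c2 LD2_c24 LD3_c2) (LK LD1_c1 LD2_c9 LD3_c1) Lrfl Lrfl
theorem f2310 : Led Lsl_ct (LP (LK LD1_c1 LD2_c9 LD3_c1)) = (LP (LK LD1_c2 LD2_c23 LD3_c45)) :=
  Lre_c IH (LK LD1_c1 LD2_c9 LD3_c1) (LK LD1_c2 LD2_c23 LD3_c45) Lrfl Lrfl
theorem f2311 : Led Lsl_dt (LP (LK LD1_c2 LD2_c23 LD3_c45)) = (LP (LK LD1_c4 LD2_c51 LD3_c58)) :=
  Lre_d IH (LK LD1_c2 LD2_c23 LD3_c45) (LK LD1_c4 LD2_c51 LD3_c58) Lrfl Lrfl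
theorem f2312 : Led Lsl_ct (LP (LK LD1_c4 LD2_c51 LD3_c58)) = (LP (LK LD1_c9 LD2_c36 LD3_c11)) :=
  Lre_c IH (LK LD1_c4 LD2_c51 LD3_c58) (LK LD1_c9 LD2_c36 LD3_c11) Lrfl Lrfl
theorem f2313 : Led Lsl_dt (LP (LK LD1_c9 LD2_c36 LD3_c11)) = (LP (LK LD1_c17 LD2_c40 LD3_c60)) :=
  Lre_d IH (LK LD1_c9 LD2_c36 LD3_c11) (LK LD1_c17 LD2_c40 LD3_c60) Lrfl Lrfl
theorem f2236 : Led Lsl_at (LP (LK LD1_c1 LD2_c9 LD3_c26)) = (LP (LK LD1_c2 LD2_c24 LD3_c40)) :=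
  Lre_a IH (LK LD1_c1 LD2_c9 LD3_c26) (LK LD1_c2 LD2_c24 LD3_c40) Lrfl Lrfl
theorem f2243 : Led Lsl_ct (LP (LK LD1_c4 LD2_c53 LD3_c11)) = (LP (LK LD1_c2 LD2_c24 LD3_c40)) :=
  Lre_c IH (LK LD1_c4 LD2_c53 LD3_c11) (LK LD1_c2 LD2_c24 LD3_c40) Lrfl Lrfl
theorem f2246 : Led Lsl_dt (LP (LK LD1_c9 LD2_c38 LD3_c21)) = (LP (LK LD1_c4 LD2_c53 LD3_c11)) :=
  Lre_d IH (LK LD1_c9 LD2_c38 LD3_c21) (LK LD1_c4 LD2_c53 LD3_c11) Lrfl Lrfl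
theorem f2314 : Led Lsl_ct (LP (LK LD1_c17 LD2_c40 LD3_c60)) = (LP (LK LD1_c9 LD2_c38 LD3_c21)) :=
  Lgr Lrot53 (Lpe (f2313 IH) (Lpe (f2312 IH) (Lpe (f2311 IH) (Lpe (f2310 IH) (Lpe (f2275 IH) (Lpr_ft (f2278 IH) (Lpr_at (f2236 IH) (Lpe (f2243 IH) (Lpe (f2246 IH) (Lpn (LP (LK LD1_c9 LD2_c38 LD3_c21))))))))))))
theorem f2325 : Led Lsl_ft (LP (LK LD1_c2 LD2_c23 LD3_c45)) = (LP (LK LD1_c4 LD2_c51 LD3_c59)) :=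
  Lre_f IH (LK LD1_c2 LD2_c23 LD3_c45) (LK LD1_c4 LD2_c51 LD3_c59) Lrfl Lrfl
theorem f2326 : Led Lsl_at (LP (LK LD1_c4 LD2_c51 LD3_c59)) = (LP (LK LD1_c9 LD2_c36 LD3_c1)) :=
  Lre_a IH (LK LD1_c4 LD2_c51 LD3_c59) (LK LD1_c9 LD2_c36 LD3_c1) Lrfl Lrfl
theorem f2327 : Led Lsl_ct (LP (LK LD1_c4 LD2_c52 LD3_c29)) = (LP (LK LD1_c9 LD2_c36 LD3_c1)) :=
  Lre_c IH (LK LD1_c4 LD2_c52 LD3_c29) (LK LD1_c9 LD2_c36 LD3_c1) Lrfl Lrfl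
theorem f2328 : Led Lsl_df (LP (LK LD1_c4 LD2_c52 LD3_c29)) = (LP (LK LD1_c2 LD2_c24 LD3_c40)) :=
  Lgr Lrot177 (Lpr_ct (f2327 IH) (Lpe (f2326 IH) (Lpe (f2325 IH) (Lpr_dt (f2311 IH) (Lpr_ct (f2312 IH) (Lpr_dt (f2313 IH) (Lpr_ct (f2314 IH) (Lpr_dt (f2246 IH) (Lpr_ct (f2243 IH) (Lpn (LP (LK LD1_c2 LD2_c24 LD3_c40))))))))))))
theorem f2340 : Led Lsl_dt (LP (LK LD1_c4 LD2_c52 LD3_c29)) = (LP (LK LD1_c2 LD2_c24 LD3_c40)) :=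
  Lgr Lrot42 (Lpr_df (f2328 IH) (Lpn (LP (LK LD1_c2 LD2_c24 LD3_c40))))
theorem f2230 : Led Lsl_at (LP (LK LD1_c0 LD2_c31 LD3_c33)) = (LP (LK LD1_c0 LD2_c31 LD3_c55)) :=
  Lgr Lrot33 (Lpe (f2229 IH) (Lpr_dt (f2217 IH) (Lpr_ct (f2216 IH) (Lpr_dt (f1672 IH) (Lpr_ct (f2130 IH) (Lpr_dt (f2133 IH) (Lpr_ct (f2200 IH) (Lpr_dt (f2225 IH) (Lpr_ct (f2178 IH) (Lpn (LP (LK LD1_c0 LD2_c31 LD3_c55))))))))))))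
theorem f2234 : Led Lsl_bt (LP (LK LD1_c1 LD2_c9 LD3_c1)) = (LP (LK LD1_c0 LD2_c31 LD3_c33)) :=
  Lre_b IH (LK LD1_c1 LD2_c9 LD3_c1) (LK LD1_c0 LD2_c31 LD3_c33) Lrfl Lrfl
theorem f2235 : Led Lsl_at (LP (LK LD1_c2 LD2_c24 LD3_c1)) = (LP (LK LD1_c1 LD2_c9 LD3_c1)) :=
  Lre_a IH (LK LD1_c2 LD2_c24 LD3_c1) (LK LD1_c1 LD2_c9 LD3_c1) Lrfl Lrfl
theorem f2237 : Led Lsl_bf (LP (LK LD1_c2 LD2_c24 LD3_c1)) = (LP (LK LD1_c2 LD2_c24 LD3_c40)) :=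
  Lgr Lrot81 (Lpr_at (f2235 IH) (Lpr_bt (f2234 IH) (Lpr_at (f2230 IH) (Lpr_bt (f2222 IH) (Lpr_at (f2236 IH) (Lpn (LP (LK LD1_c2 LD2_c24 LD3_c40))))))))
theorem f2244 : Led Lsl_dt (LP (LK LD1_c2 LD2_c24 LD3_c1)) = (LP (LK LD1_c4 LD2_c52 LD3_c37)) :=
  Lre_d IH (LK LD1_c2 LD2_c24 LD3_c1) (LK LD1_c4 LD2_c52 LD3_c37) Lrfl Lrfl
theorem f2351 : Led Lsl_bf (LP (LK LD1_c4 LD2_c52 LD3_c29)) = (LP (LK LD1_c4 LD2_c52 LD3_c37)) :=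
  Lgr Lrot93 (Lpr_dt (f2340 IH) (Lpe (f2237 IH) (Lpr_dt (f2244 IH) (Lpn (LP (LK LD1_c4 LD2_c52 LD3_c37))))))
theorem f2342 : Led Lsl_et (LP (LK LD1_c4 LD2_c52 LD3_c29)) = (LP (LK LD1_c9 LD2_c37 LD3_c10)) :=
  Lre_e IH (LK LD1_c4 LD2_c52 LD3_c29) (LK LD1_c9 LD2_c37 LD3_c10) Lrfl Lrfl
theorem f2298 : Led Lsl_et (LP (LK LD1_c9 LD2_c37 LD3_c22)) = (LP (LK LD1_c4 LD2_c52 LD3_c37)) :=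
  Lre_e IH (LK LD1_c9 LD2_c37 LD3_c22) (LK LD1_c4 LD2_c52 LD3_c37) Lrfl Lrfl
theorem f2366 : Led Lsl_bt (LP (LK LD1_c9 LD2_c37 LD3_c10)) = (LP (LK LD1_c9 LD2_c37 LD3_c22)) :=
  Lgr Lrot119 (Lpe (f2342 IH) (Lpr_bf (f2351 IH) (Lpe (f2298 IH) (Lpn (LP (LK LD1_c9 LD2_c37 LD3_c22))))))
theorem f2368 : Led Lsl_at (LP (LK LD1_c4 LD2_c52 LD3_c42)) = (LP (LK LD1_c9 LD2_c37 LD3_c10)) :=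
  Lre_a IH (LK LD1_c4 LD2_c52 LD3_c42) (LK LD1_c9 LD2_c37 LD3_c10) Lrfl Lrfl
theorem f1538 : Led Lsl_bt (LP (LK LD1_c2 LD2_c24 LD3_c5)) = (LP (LK LD1_c4 LD2_c52 LD3_c42)) :=
  Lre_b IH (LK LD1_c2 LD2_c24 LD3_c5) (LK LD1_c4 LD2_c52 LD3_c42) Lrfl Lrfl
theorem f2369 : Led Lsl_at (LP (LK LD1_c9 LD2_c37 LD3_c22)) = (LP (LK LD1_c4 LD2_c52 LD3_c41)) :=
  Lre_a IH (LK LD1_c9 LD2_c37 LD3_c22) (LK LD1_c4 LD2_c52 LD3_c41) Lrfl Lrfl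
theorem f2370 : Led Lsl_bt (LP (LK LD1_c4 LD2_c52 LD3_c41)) = (LP (LK LD1_c2 LD2_c24 LD3_c4)) :=
  Lre_b IH (LK LD1_c4 LD2_c52 LD3_c41) (LK LD1_c2 LD2_c24 LD3_c4) Lrfl Lrfl
theorem f2371 : Led Lsl_af (LP (LK LD1_c2 LD2_c24 LD3_c5)) = (LP (LK LD1_c2 LD2_c24 LD3_c4)) :=
  Lgr Lrot36 (Lpr_bt (f1538 IH) (Lpr_at (f2368 IH) (Lpr_bt (f2366 IH) (Lpr_at (f2369 IH) (Lpr_bt (f2370 IH) (Lpn (LP (LK LD1_c2 LD2_c24 LD3_c4))))))))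
theorem f1534 : Led Lsl_ct (LP (LK LD1_c2 LD2_c24 LD3_c5)) = (LP (LK LD1_c1 LD2_c9 LD3_c4)) :=
  Lre_c IH (LK LD1_c2 LD2_c24 LD3_c5) (LK LD1_c1 LD2_c9 LD3_c4) Lrfl Lrfl
theorem f2173 : Led Lsl_et (LP (LK LD1_c2 LD2_c24 LD3_c4)) = (LP (LK LD1_c1 LD2_c9 LD3_c2)) :=
  Lre_e IH (LK LD1_c2 LD2_c24 LD3_c4) (LK LD1_c1 LD2_c9 LD3_c2) Lrfl Lrfl
theorem f2174 : Led Lsl_et (LP (LK LD1_c0 LD2_c31 LD3_c56)) = (LP (LK LD1_c1 LD2_c9 LD3_c27)) :=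
  Lre_e IH (LK LD1_c0 LD2_c31 LD3_c56) (LK LD1_c1 LD2_c9 LD3_c27) Lrfl Lrfl
theorem f2175 : Led Lsl_cf (LP (LK LD1_c2 LD2_c24 LD3_c4)) = (LP (LK LD1_c1 LD2_c9 LD3_c27)) :=
  Lgr Lrot39 (Lpr_et (f2173 IH) (Lpr_ct (f2162 IH) (Lpr_et (f2174 IH) (Lpn (LP (LK LD1_c1 LD2_c9 LD3_c27))))))
theorem f2386 : Led Lsl_at (LP (LK LD1_c1 LD2_c9 LD3_c4)) = (LP (LK LD1_c1 LD2_c9 LD3_c27)) :=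
  Lgr Lrot107 (Lpe (f1534 IH) (Lpr_af (f2371 IH) (Lpr_cf (f2175 IH) (Lpn (LP (LK LD1_c1 LD2_c9 LD3_c27))))))
theorem f2389 : Led Lsl_af (LP (LK LD1_c1 LD2_c9 LD3_c4)) = (LP (LK LD1_c1 LD2_c9 LD3_c27)) :=
  Lgr Lrot0 (Lpr_at (f2386 IH) (Lpn (LP (LK LD1_c1 LD2_c9 LD3_c27))))
theorem f2392 : Led Lsl_df (LP (LK LD1_c1 LD2_c9 LD3_c27)) = (LP (LK LD1_c1 LD2_c9 LD3_c27)) :=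
  Lgr Lrot18 (Lpe (f2389 IH) (Lpr_dt (f1524 IH) (Lpr_at (f2386 IH) (Lpn (LP (LK LD1_c1 LD2_c9 LD3_c27))))))
theorem f2391 : Led Lsl_bt (LP (LK LD1_c1 LD2_c9 LD3_c27)) = (LP (LK LD1_c2 LD2_c24 LD3_c26)) :=
  Lre_b IH (LK LD1_c1 LD2_c9 LD3_c27) (LK LD1_c2 LD2_c24 LD3_c26) Lrfl Lrfl
theorem f2395 : Led Lsl_bt (LP (LK LD1_c2 LD2_c24 LD3_c26)) = (LP (LK LD1_c1 LD2_c9 LD3_c27)) :=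
  Lre_b IH (LK LD1_c2 LD2_c24 LD3_c26) (LK LD1_c1 LD2_c9 LD3_c27) Lrfl Lrfl
theorem f2396 : Led Lsl_dt (LP (LK LD1_c2 LD2_c24 LD3_c26)) = (LP (LK LD1_c2 LD2_c24 LD3_c26)) :=
  Lgr Lrot79 (Lpe (f2391 IH) (Lpr_df (f2392 IH) (Lpe (f2395 IH) (Lpn (LP (LK LD1_c2 LD2_c24 LD3_c26))))))
theorem f2408 : Led Lsl_et (LP (LK LD1_c1 LD2_c9 LD3_c21)) = (LP (LK LD1_c2 LD2_c24 LD3_c26)) :=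
  Lre_e IH (LK LD1_c1 LD2_c9 LD3_c21) (LK LD1_c2 LD2_c24 LD3_c26) Lrfl Lrfl
theorem f2409 : Led Lsl_dt (LP (LK LD1_c0 LD2_c31 LD3_c52)) = (LP (LK LD1_c1 LD2_c9 LD3_c21)) :=
  Lre_d IH (LK LD1_c0 LD2_c31 LD3_c52) (LK LD1_c1 LD2_c9 LD3_c21) Lrfl Lrfl
theorem f2410 : Led Lsl_et (LP (LK LD1_c2 LD2_c24 LD3_c26)) = (LP (LK LD1_c1 LD2_c9 LD3_c21)) :=
  Lre_e IH (LK LD1_c2 LD2_c24 LD3_c26) (LK LD1_c1 LD2_c9 LD3_c21) Lrfl Lrfl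
theorem f2411 : Led Lsl_dt (LP (LK LD1_c1 LD2_c9 LD3_c21)) = (LP (LK LD1_c0 LD2_c31 LD3_c52)) :=
  Lre_d IH (LK LD1_c1 LD2_c9 LD3_c21) (LK LD1_c0 LD2_c31 LD3_c52) Lrfl Lrfl
theorem f2412 : Led Lsl_ef (LP (LK LD1_c0 LD2_c31 LD3_c52)) = (LP (LK LD1_c0 LD2_c31 LD3_c52)) :=
  Lgr Lrot73 (Lpr_dt (f2409 IH) (Lpr_et (f2408 IH) (Lpr_dt (f2396 IH) (Lpr_et (f2410 IH) (Lpr_dt (f2411 IH) (Lpn (LP (LK LD1_c0 LD2_c31 LD3_c52))))))))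
theorem f2426 : Led Lsl_ft (LP (LK LD1_c0 LD2_c31 LD3_c52)) = (LP (LK LD1_c0 LD2_c14 LD3_c11)) :=
  Lre_f IH (LK LD1_c0 LD2_c31 LD3_c52) (LK LD1_c0 LD2_c14 LD3_c11) Lrfl Lrfl
theorem f2427 : Led Lsl_et (LP (LK LD1_c0 LD2_c14 LD3_c11)) = (LP (LK LD1_c0 LD2_c6 LD3_c31)) :=
  Lre_e IH (LK LD1_c0 LD2_c14 LD3_c11) (LK LD1_c0 LD2_c6 LD3_c31) Lrfl Lrfl
theorem f2428 : Led Lsl_ft (LP (LK LD1_c0 LD2_c14 LD3_c11)) = (LP (LK LD1_c0 LD2_c31 LD3_c52)) :=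
  Lre_f IH (LK LD1_c0 LD2_c14 LD3_c11) (LK LD1_c0 LD2_c31 LD3_c52) Lrfl Lrfl
theorem f2430 : Led Lsl_ft (LP (LK LD1_c0 LD2_c6 LD3_c31)) = (LP (LK LD1_c0 LD2_c6 LD3_c31)) :=
  Lgr Lrot86 (Lpe (f2427 IH) (Lpe (f2426 IH) (Lpr_ef (f2412 IH) (Lpe (f2428 IH) (Lpe (f2429 IH) (Lpn (LP (LK LD1_c0 LD2_c6 LD3_c31))))))))
theorem f2432 : Led Lsl_df (LP (LK LD1_c0 LD2_c6 LD3_c22)) = (LP (LK LD1_c0 LD2_c6 LD3_c31)) :=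
  Lgr Lrot78 (Lpe (f1605 IH) (Lpe (f1667 IH) (Lpr_ft (f2430 IH) (Lpn (LP (LK LD1_c0 LD2_c6 LD3_c31))))))
theorem f27815 : Led Lsl_gt (LP (LK LD1_c0 LD2_c12 LD3_c17)) = (LP (LK LD1_c0 LD2_c6 LD3_c31)) :=
  Lgr Lrot94 (Lpe (f27814 IH) (Lpr_gt (f16674 IH) (Lpr_dt (f16671 IH) (Lpr_gt (f27810 IH) (Lpr_dt (f8092 IH) (Lpe (f8067 IH) (Lpe (f8068 IH) (Lpr_gf (f8069 IH) (Lpr_df (f2432 IH) (Lpn (LP (LK LD1_c0 LD2_c6 LD3_c31))))))))))))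
theorem f28596 : Led Lsl_bt (LP (LK LD1_c0 LD2_c5 LD3_c39)) = (LP (LK LD1_c0 LD2_c11 LD3_c5)) :=
  Lgr Lrot92 (Lpr_ct (f27814 IH) (Lpr_gt (f27815 IH) (Lpr_cf (f6924 IH) (Lpe (f2940 IH) (Lpe (f28592 IH) (Lpr_ct (f28582 IH) (Lpe (f2896 IH) (Lpr_cf (f6880 IH) (Lpr_bt (f2992 IH) (Lpr_gt (f2996 IH) (Lpn (LP (LK LD1_c0 LD2_c11 LD3_c5)))))))))))))
theorem f28598 : Led Lsl_bf (LP (LK LD1_c0 LD2_c5 LD3_c39)) = (LP (LK LD1_c0 LD2_c11 LD3_c5)) :=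
  Lgr Lrot24 (Lpr_bt (f28596 IH) (Lpn (LP (LK LD1_c0 LD2_c11 LD3_c5))))
theorem f28734 : Led Lsl_gf (LP (LK LD1_c0 LD2_c5 LD3_c39)) = (LP (LK LD1_c0 LD2_c5 LD3_c5)) :=
  Lgr Lrot124 (Lpr_bf (f28598 IH) (Lpe (f28569 IH) (Lpr_gt (f16675 IH) (Lpe (f16669 IH) (Lpr_bt (f20621 IH) (Lpr_gt (f20615 IH) (Lpr_ct (f1682 IH) (Lpe (f20619 IH) (Lpe (f8109 IH) (Lpr_bt (f8125 IH) (Lpn (LP (LK LD1_c0 LD2_c5 LD3_c5)))))))))))))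
theorem f28465 : Led Lsl_dt (LP (LK LD1_c0 LD2_c2 LD3_c19)) = (LP (LK LD1_c0 LD2_c5 LD3_c5)) :=
  Lre_d IH (LK LD1_c0 LD2_c2 LD3_c19) (LK LD1_c0 LD2_c5 LD3_c5) Lrfl Lrfl
theorem f28738 : Led Lsl_cf (LP (LK LD1_c0 LD2_c2 LD3_c22)) = (LP (LK LD1_c0 LD2_c2 LD3_c23)) :=
  Lgr Lrot99 (Lpe (f2995 IH) (Lpe (f6886 IH) (Lpe (f27815 IH) (Lpe (f27814 IH) (Lpr_gf (f28734 IH) (Lpe (f28465 IH) (Lpe (f28509 IH) (Lpe (f27800 IH) (Lpr_gt (f28555 IH) (Lpn (LP (LK LD1_c0 LD2_c2 LD3_c23))))))))))))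
theorem f1615 : Led Lsl_bt (LP (LK LD1_c0 LD2_c6 LD3_c22)) = (LP (LK LD1_c0 LD2_c2 LD3_c56)) :=
  Lre_b IH (LK LD1_c0 LD2_c6 LD3_c22) (LK LD1_c0 LD2_c2 LD3_c56) Lrfl Lrfl
theorem f1695 : Led Lsl_cf (LP (LK LD1_c0 LD2_c6 LD3_c22)) = (LP (LK LD1_c0 LD2_c6 LD3_c22)) :=
  Lgr Lrot97 (Lpr_bt (f1615 IH) (Lpr_ct (f237 IH) (Lpr_bt (f1692 IH) (Lpr_ct (f239 IH) (Lpr_bt (f1616 IH) (Lpn (LP (LK LD1_c0 LD2_c6 LD3_c22))))))))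
theorem f27809 : Led Lsl_dt (LP (LK LD1_c0 LD2_c5 LD3_c12)) = (LP (LK LD1_c0 LD2_c2 LD3_c23)) :=
  Lre_d IH (LK LD1_c0 LD2_c5 LD3_c12) (LK LD1_c0 LD2_c2 LD3_c23) Lrfl Lrfl
theorem f28557 : Led Lsl_ct (LP (LK LD1_c0 LD2_c11 LD3_c8)) = (LP (LK LD1_c0 LD2_c5 LD3_c12)) :=
  Lre_c IH (LK LD1_c0 LD2_c11 LD3_c8) (LK LD1_c0 LD2_c5 LD3_c12) Lrfl Lrfl
theorem f28746 : Led Lsl_dt (LP (LK LD1_c0 LD2_c13 LD3_c58)) = (LP (LK LD1_c0 LD2_c11 LD3_c8)) :=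
  Lgr Lrot159 (Lpr_ft (f1595 IH) (Lpr_at (f1604 IH) (Lpr_cf (f1695 IH) (Lpr_df (f2432 IH) (Lpr_cf (f6924 IH) (Lpe (f1421 IH) (Lpr_cf (f28738 IH) (Lpe (f27809 IH) (Lpe (f28557 IH) (Lpn (LP (LK LD1_c0 LD2_c11 LD3_c8))))))))))))
theorem f27808 : Led Lsl_dt (LP (LK LD1_c0 LD2_c2 LD3_c23)) = (LP (LK LD1_c0 LD2_c5 LD3_c12)) :=
  Lre_d IH (LK LD1_c0 LD2_c2 LD3_c23) (LK LD1_c0 LD2_c5 LD3_c12) Lrfl Lrfl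
theorem f28558 : Led Lsl_ct (LP (LK LD1_c0 LD2_c5 LD3_c12)) = (LP (LK LD1_c0 LD2_c11 LD3_c8)) :=
  Lre_c IH (LK LD1_c0 LD2_c5 LD3_c12) (LK LD1_c0 LD2_c11 LD3_c8) Lrfl Lrfl
theorem f28755 : Led Lsl_df (LP (LK LD1_c0 LD2_c13 LD3_c58)) = (LP (LK LD1_c0 LD2_c11 LD3_c8)) :=
  Lgr Lrot43 (Lpr_ct (f2068 IH) (Lpr_dt (f28746 IH) (Lpr_ct (f28557 IH) (Lpr_dt (f27809 IH) (Lpe (f28738 IH) (Lpr_dt (f1421 IH) (Lpe (f6924 IH) (Lpe (f2432 IH) (Lpe (f1695 IH) (Lpe (f1667 IH) (Lpr_ct (f6886 IH) (Lpr_dt (f2995 IH) (Lpr_ct (f28559 IH) (Lpr_dt (f27808 IH) (Lpr_ct (f28558 IH) (Lpn (LP (LK LD1_c0 LD2_c11 LD3_c8))))))))))))))))))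
theorem f2982 : Led Lsl_ft (LP (LK LD1_c0 LD2_c11 LD3_c6)) = (LP (LK LD1_c0 LD2_c24 LD3_c60)) :=
  Lre_f IH (LK LD1_c0 LD2_c11 LD3_c6) (LK LD1_c0 LD2_c24 LD3_c60) Lrfl Lrfl
theorem f6926 : Led Lsl_cf (LP (LK LD1_c0 LD2_c31 LD3_c52)) = (LP (LK LD1_c0 LD2_c24 LD3_c60)) :=
  Lgr Lrot108 (Lpr_ft (f2426 IH) (Lpr_ct (f6916 IH) (Lpr_ft (f2982 IH) (Lpn (LP (LK LD1_c0 LD2_c24 LD3_c60))))))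
theorem f6935 : Led Lsl_ct (LP (LK LD1_c0 LD2_c31 LD3_c52)) = (LP (LK LD1_c0 LD2_c24 LD3_c60)) :=
  Lgr Lrot59 (Lpr_cf (f6926 IH) (Lpn (LP (LK LD1_c0 LD2_c24 LD3_c60))))
theorem f6940 : Led Lsl_et (LP (LK LD1_c0 LD2_c24 LD3_c60)) = (LP (LK LD1_c0 LD2_c24 LD3_c60)) :=
  Lgr Lrot158 (Lpe (f6935 IH) (Lpr_ef (f2412 IH) (Lpr_cf (f6926 IH) (Lpn (LP (LK LD1_c0 LD2_c24 LD3_c60))))))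
theorem f2994 : Led Lsl_ft (LP (LK LD1_c0 LD2_c24 LD3_c60)) = (LP (LK LD1_c0 LD2_c11 LD3_c6)) :=
  Lre_f IH (LK LD1_c0 LD2_c24 LD3_c60) (LK LD1_c0 LD2_c11 LD3_c6) Lrfl Lrfl
theorem f6944 : Led Lsl_ff (LP (LK LD1_c0 LD2_c5 LD3_c10)) = (LP (LK LD1_c0 LD2_c5 LD3_c10)) :=
  Lgr Lrot72 (Lpr_et (f2991 IH) (Lpr_ft (f2982 IH) (Lpr_et (f6940 IH) (Lpr_ft (f2994 IH) (Lpr_et (f2981 IH) (Lpn (LP (LK LD1_c0 LD2_c5 LD3_c10))))))))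
theorem f28765 : Led Lsl_at (LP (LK LD1_c0 LD2_c5 LD3_c10)) = (LP (LK LD1_c0 LD2_c5 LD3_c12)) :=
  Lgr Lrot33 (Lpr_ff (f6944 IH) (Lpr_dt (f2995 IH) (Lpr_ct (f28559 IH) (Lpr_dt (f27808 IH) (Lpr_ct (f28558 IH) (Lpe (f28755 IH) (Lpr_ct (f2068 IH) (Lpr_dt (f28746 IH) (Lpr_ct (f28557 IH) (Lpn (LP (LK LD1_c0 LD2_c5 LD3_c12))))))))))))
theorem f28775 : Led Lsl_gt (LP (LK LD1_c0 LD2_c11 LD3_c5)) = (LP (LK LD1_c0 LD2_c5 LD3_c12)) :=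
  Lgr Lrot46 (Lpe (f2996 IH) (Lpe (f6944 IH) (Lpr_at (f28765 IH) (Lpn (LP (LK LD1_c0 LD2_c5 LD3_c12))))))
theorem f16670 : Led Lsl_dt (LP (LK LD1_c0 LD2_c5 LD3_c40)) = (LP (LK LD1_c0 LD2_c12 LD3_c22)) :=
  Lre_d IH (LK LD1_c0 LD2_c5 LD3_c40) (LK LD1_c0 LD2_c12 LD3_c22) Lrfl Lrfl
theorem f27822 : Led Lsl_dt (LP (LK LD1_c0 LD2_c1 LD3_c0)) = (LP (LK LD1_c0 LD2_c2 LD3_c25)) :=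
  Lre_d IH (LK LD1_c0 LD2_c1 LD3_c0) (LK LD1_c0 LD2_c2 LD3_c25) Lrfl Lrfl
theorem f28777 : Led Lsl_gt (LP (LK LD1_c0 LD2_c12 LD3_c22)) = (LP (LK LD1_c0 LD2_c11 LD3_c21)) :=
  Lgr Lrot49 (Lpe (f16670 IH) (Lpe (f16675 IH) (Lpr_cf (f28569 IH) (Lpr_gt (f28775 IH) (Lpr_dt (f27809 IH) (Lpr_gt (f449 IH) (Lpr_dt (f27822 IH) (Lpe (f9632 IH) (Lpe (f9633 IH) (Lpn (LP (LK LD1_c0 LD2_c11 LD3_c21))))))))))))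
theorem f28807 : Led Lsl_bt (LP (LK LD1_c0 LD2_c27 LD3_c58)) = (LP (LK LD1_c0 LD2_c12 LD3_c22)) :=
  Lre_b IH (LK LD1_c0 LD2_c27 LD3_c58) (LK LD1_c0 LD2_c12 LD3_c22) Lrfl Lrfl
theorem f8110 : Led Lsl_bt (LP (LK LD1_c0 LD2_c11 LD3_c33)) = (LP (LK LD1_c0 LD2_c5 LD3_c22)) :=
  Lre_b IH (LK LD1_c0 LD2_c11 LD3_c33) (LK LD1_c0 LD2_c5 LD3_c22) Lrfl Lrfl
theorem f8072 : Led Lsl_bt (LP (LK LD1_c0 LD2_c5 LD3_c22)) = (LP (LK LD1_c0 LD2_c11 LD3_c33)) :=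
  Lre_b IH (LK LD1_c0 LD2_c5 LD3_c22) (LK LD1_c0 LD2_c11 LD3_c33) Lrfl Lrfl
theorem f6960 : Led Lsl_bt (LP (LK LD1_c0 LD2_c7 LD3_c55)) = (LP (LK LD1_c0 LD2_c3 LD3_c37)) :=
  Lre_b IH (LK LD1_c0 LD2_c7 LD3_c55) (LK LD1_c0 LD2_c3 LD3_c37) Lrfl Lrfl
theorem f28188 : Led Lsl_ct (LP (LK LD1_c0 LD2_c11 LD3_c33)) = (LP (LK LD1_c0 LD2_c7 LD3_c55)) :=
  Lgr Lrot83 (Lpe (f8072 IH) (Lpe (f8064 IH) (Lpr_bf (f28186 IH) (Lpe (f6870 IH) (Lpe (f6960 IH) (Lpn (LP (LK LD1_c0 LD2_c7 LD3_c55))))))))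
theorem f418 : Led Lsl_gt (LP (LK LD1_c0 LD2_c7 LD3_c55)) = (LP (LK LD1_c0 LD2_c17 LD3_c30)) :=
  Lre_g IH (LK LD1_c0 LD2_c7 LD3_c55) (LK LD1_c0 LD2_c17 LD3_c30) Lrfl Lrfl
theorem f28808 : Led Lsl_ct (LP (LK LD1_c0 LD2_c27 LD3_c58)) = (LP (LK LD1_c0 LD2_c17 LD3_c30)) :=
  Lgr Lrot10 (Lpr_bt (f28807 IH) (Lpr_gt (f28777 IH) (Lpr_ct (f27787 IH) (Lpr_gt (f1607 IH) (Lpr_cf (f1695 IH) (Lpr_bt (f1615 IH) (Lpr_gt (f8104 IH) (Lpe (f8110 IH) (Lpr_ct (f28188 IH) (Lpr_gt (f418 IH) (Lpn (LP (LK LD1_c0 LD2_c17 LD3_c30)))))))))))))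
theorem f29001 : Led Lsl_cf (LP (LK LD1_c0 LD2_c27 LD3_c58)) = (LP (LK LD1_c0 LD2_c17 LD3_c30)) :=
  Lgr Lrot11 (Lpr_ct (f28808 IH) (Lpn (LP (LK LD1_c0 LD2_c17 LD3_c30))))
theorem f417 : Led Lsl_bt (LP (LK LD1_c0 LD2_c3 LD3_c37)) = (LP (LK LD1_c0 LD2_c7 LD3_c55)) :=
  Lre_b IH (LK LD1_c0 LD2_c3 LD3_c37) (LK LD1_c0 LD2_c7 LD3_c55) Lrfl Lrfl
theorem f27880 : Led Lsl_bt (LP (LK LD1_c0 LD2_c27 LD3_c46)) = (LP (LK LD1_c0 LD2_c12 LD3_c17)) :=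
  Lre_b IH (LK LD1_c0 LD2_c27 LD3_c46) (LK LD1_c0 LD2_c12 LD3_c17) Lrfl Lrfl
theorem f27823 : Led Lsl_et (LP (LK LD1_c0 LD2_c12 LD3_c18)) = (LP (LK LD1_c0 LD2_c5 LD3_c39)) :=
  Lre_e IH (LK LD1_c0 LD2_c12 LD3_c18) (LK LD1_c0 LD2_c5 LD3_c39) Lrfl Lrfl
theorem f28602 : Led Lsl_et (LP (LK LD1_c0 LD2_c11 LD3_c5)) = (LP (LK LD1_c0 LD2_c24 LD3_c57)) :=
  Lre_e IH (LK LD1_c0 LD2_c11 LD3_c5) (LK LD1_c0 LD2_c24 LD3_c57) Lrfl Lrfl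
theorem f28603 : Led Lsl_bf (LP (LK LD1_c0 LD2_c12 LD3_c18)) = (LP (LK LD1_c0 LD2_c24 LD3_c57)) :=
  Lgr Lrot96 (Lpr_et (f27823 IH) (Lpr_bt (f28596 IH) (Lpr_et (f28602 IH) (Lpn (LP (LK LD1_c0 LD2_c24 LD3_c57))))))
theorem f27889 : Led Lsl_ct (LP (LK LD1_c0 LD2_c12 LD3_c18)) = (LP (LK LD1_c0 LD2_c27 LD3_c47)) :=
  Lre_c IH (LK LD1_c0 LD2_c12 LD3_c18) (LK LD1_c0 LD2_c27 LD3_c47) Lrfl Lrfl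
theorem f28607 : Led Lsl_bt (LP (LK LD1_c0 LD2_c27 LD3_c47)) = (LP (LK LD1_c1 LD2_c0 LD3_c54)) :=
  Lre_b IH (LK LD1_c0 LD2_c27 LD3_c47) (LK LD1_c1 LD2_c0 LD3_c54) Lrfl Lrfl
theorem f28577 : Led Lsl_et (LP (LK LD1_c0 LD2_c12 LD3_c20)) = (LP (LK LD1_c0 LD2_c27 LD3_c55)) :=
  Lre_e IH (LK LD1_c0 LD2_c12 LD3_c20) (LK LD1_c0 LD2_c27 LD3_c55) Lrfl Lrfl
theorem f28578 : Led Lsl_et (LP (LK LD1_c0 LD2_c24 LD3_c57)) = (LP (LK LD1_c0 LD2_c11 LD3_c5)) :=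
  Lre_e IH (LK LD1_c0 LD2_c24 LD3_c57) (LK LD1_c0 LD2_c11 LD3_c5) Lrfl Lrfl
theorem f28579 : Led Lsl_ct (LP (LK LD1_c0 LD2_c27 LD3_c55)) = (LP (LK LD1_c0 LD2_c24 LD3_c57)) :=
  Lgr Lrot15 (Lpe (f28577 IH) (Lpr_cf (f28569 IH) (Lpe (f28578 IH) (Lpn (LP (LK LD1_c0 LD2_c24 LD3_c57))))))
theorem f28608 : Led Lsl_bt (LP (LK LD1_c1 LD2_c1 LD3_c4)) = (LP (LK LD1_c0 LD2_c27 LD3_c55)) :=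
  Lre_b IH (LK LD1_c1 LD2_c1 LD3_c4) (LK LD1_c0 LD2_c27 LD3_c55) Lrfl Lrfl
theorem f28609 : Led Lsl_ct (LP (LK LD1_c1 LD2_c0 LD3_c54)) = (LP (LK LD1_c1 LD2_c1 LD3_c4)) :=
  Lgr Lrot83 (Lpe (f28607 IH) (Lpe (f27889 IH) (Lpr_bf (f28603 IH) (Lpe (f28579 IH) (Lpe (f28608 IH) (Lpn (LP (LK LD1_c1 LD2_c1 LD3_c4))))))))
theorem f28658 : Led Lsl_cf (LP (LK LD1_c1 LD2_c0 LD3_c54)) = (LP (LK LD1_c1 LD2_c1 LD3_c4)) :=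
  Lgr Lrot11 (Lpr_ct (f28609 IH) (Lpn (LP (LK LD1_c1 LD2_c1 LD3_c4))))
theorem f28719 : Led Lsl_et (LP (LK LD1_c1 LD2_c0 LD3_c54)) = (LP (LK LD1_c0 LD2_c27 LD3_c46)) :=
  Lre_e IH (LK LD1_c1 LD2_c0 LD3_c54) (LK LD1_c0 LD2_c27 LD3_c46) Lrfl Lrfl
theorem f28720 : Led Lsl_et (LP (LK LD1_c0 LD2_c27 LD3_c53)) = (LP (LK LD1_c1 LD2_c1 LD3_c4)) :=
  Lre_e IH (LK LD1_c0 LD2_c27 LD3_c53) (LK LD1_c1 LD2_c1 LD3_c4) Lrfl Lrfl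
theorem f28721 : Led Lsl_ct (LP (LK LD1_c0 LD2_c27 LD3_c46)) = (LP (LK LD1_c0 LD2_c27 LD3_c53)) :=
  Lgr Lrot15 (Lpe (f28719 IH) (Lpr_cf (f28658 IH) (Lpe (f28720 IH) (Lpn (LP (LK LD1_c0 LD2_c27 LD3_c53))))))
theorem f29033 : Led Lsl_gt (LP (LK LD1_c0 LD2_c27 LD3_c58)) = (LP (LK LD1_c0 LD2_c27 LD3_c53)) :=
  Lgr Lrot149 (Lpr_cf (f29001 IH) (Lpe (f418 IH) (Lpe (f417 IH) (Lpr_ct (f6870 IH) (Lpe (f6872 IH) (Lpe (f1642 IH) (Lpr_bt (f2205 IH) (Lpe (f27815 IH) (Lpe (f27880 IH) (Lpr_ct (f28721 IH) (Lpn (LP (LK LD1_c0 LD2_c27 LD3_c53)))))))))))))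
theorem f28574 : Led Lsl_ct (LP (LK LD1_c0 LD2_c12 LD3_c20)) = (LP (LK LD1_c0 LD2_c11 LD3_c5)) :=
  Lgr Lrot59 (Lpr_cf (f28569 IH) (Lpn (LP (LK LD1_c0 LD2_c11 LD3_c5))))
theorem f28573 : Led Lsl_bt (LP (LK LD1_c0 LD2_c12 LD3_c20)) = (LP (LK LD1_c0 LD2_c27 LD3_c53)) :=
  Lre_b IH (LK LD1_c0 LD2_c12 LD3_c20) (LK LD1_c0 LD2_c27 LD3_c53) Lrfl Lrfl
theorem f29000 : Led Lsl_bt (LP (LK LD1_c0 LD2_c17 LD3_c30)) = (LP (LK LD1_c0 LD2_c39 LD3_c5)) :=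
  Lre_b IH (LK LD1_c0 LD2_c17 LD3_c30) (LK LD1_c0 LD2_c39 LD3_c5) Lrfl Lrfl
theorem f29035 : Led Lsl_gt (LP (LK LD1_c0 LD2_c27 LD3_c53)) = (LP (LK LD1_c0 LD2_c39 LD3_c5)) :=
  Lgr Lrot164 (Lpe (f28573 IH) (Lpr_ct (f28574 IH) (Lpe (f2996 IH) (Lpe (f6886 IH) (Lpe (f27815 IH) (Lpe (f27880 IH) (Lpr_ct (f28721 IH) (Lpe (f29033 IH) (Lpr_cf (f29001 IH) (Lpr_bt (f29000 IH) (Lpn (LP (LK LD1_c0 LD2_c39 LD3_c5)))))))))))))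
theorem f6968 : Led Lsl_gt (LP (LK LD1_c0 LD2_c17 LD3_c31)) = (LP (LK LD1_c0 LD2_c7 LD3_c55)) :=
  Lre_g IH (LK LD1_c0 LD2_c17 LD3_c31) (LK LD1_c0 LD2_c7 LD3_c55) Lrfl Lrfl
theorem f29037 : Led Lsl_cf (LP (LK LD1_c0 LD2_c17 LD3_c31)) = (LP (LK LD1_c0 LD2_c39 LD3_c5)) :=
  Lgr Lrot125 (Lpr_gt (f6968 IH) (Lpe (f28188 IH) (Lpr_bt (f8110 IH) (Lpe (f8065 IH) (Lpe (f1666 IH) (Lpr_ct (f6886 IH) (Lpr_gt (f2996 IH) (Lpe (f28574 IH) (Lpr_bt (f28573 IH) (Lpr_gt (f29035 IH) (Lpn (LP (LK LD1_c0 LD2_c39 LD3_c5)))))))))))))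
theorem f28999 : Led Lsl_bt (LP (LK LD1_c0 LD2_c12 LD3_c22)) = (LP (LK LD1_c0 LD2_c27 LD3_c58)) :=
  Lre_b IH (LK LD1_c0 LD2_c12 LD3_c22) (LK LD1_c0 LD2_c27 LD3_c58) Lrfl Lrfl
theorem f8040 : Led Lsl_ft (LP (LK LD1_c0 LD2_c2 LD3_c31)) = (LP (LK LD1_c0 LD2_c2 LD3_c31)) :=
  Lgr Lrot75 (Lpe (f1412 IH) (Lpr_ff (f8037 IH) (Lpe (f8039 IH) (Lpn (LP (LK LD1_c0 LD2_c2 LD3_c31))))))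
theorem f27752 : Led Lsl_at (LP (LK LD1_c0 LD2_c2 LD3_c31)) = (LP (LK LD1_c0 LD2_c5 LD3_c29)) :=
  Lre_a IH (LK LD1_c0 LD2_c2 LD3_c31) (LK LD1_c0 LD2_c5 LD3_c29) Lrfl Lrfl
theorem f28209 : Led Lsl_gf (LP (LK LD1_c0 LD2_c5 LD3_c29)) = (LP (LK LD1_c0 LD2_c5 LD3_c19)) :=
  Lgr Lrot76 (Lpe (f27752 IH) (Lpe (f8040 IH) (Lpr_gt (f28207 IH) (Lpn (LP (LK LD1_c0 LD2_c5 LD3_c19))))))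
theorem f28178 : Led Lsl_ct (LP (LK LD1_c0 LD2_c11 LD3_c18)) = (LP (LK LD1_c0 LD2_c5 LD3_c19)) :=
  Lgr Lrot59 (Lpr_cf (f28169 IH) (Lpn (LP (LK LD1_c0 LD2_c5 LD3_c19))))
theorem f27537 : Led Lsl_dt (LP (LK LD1_c0 LD2_c2 LD3_c31)) = (LP (LK LD1_c0 LD2_c1 LD3_c2)) :=
  Lre_d IH (LK LD1_c0 LD2_c2 LD3_c31) (LK LD1_c0 LD2_c1 LD3_c2) Lrfl Lrfl
theorem f28323 : Led Lsl_ct (LP (LK LD1_c0 LD2_c10 LD3_c56)) = (LP (LK LD1_c0 LD2_c5 LD3_c5)) :=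
  Lre_c IH (LK LD1_c0 LD2_c10 LD3_c56) (LK LD1_c0 LD2_c5 LD3_c5) Lrfl Lrfl
theorem f28324 : Led Lsl_dt (LP (LK LD1_c0 LD2_c24 LD3_c32)) = (LP (LK LD1_c0 LD2_c10 LD3_c56)) :=
  Lre_d IH (LK LD1_c0 LD2_c24 LD3_c32) (LK LD1_c0 LD2_c10 LD3_c56) Lrfl Lrfl
theorem f28511 : Led Lsl_gt (LP (LK LD1_c0 LD2_c11 LD3_c21)) = (LP (LK LD1_c0 LD2_c24 LD3_c32)) :=
  Lgr Lrot49 (Lpe (f27776 IH) (Lpe (f27798 IH) (Lpe (f27820 IH) (Lpr_gt (f27758 IH) (Lpr_dt (f27537 IH) (Lpr_gt (f28507 IH) (Lpr_dt (f28465 IH) (Lpe (f28323 IH) (Lpe (f28324 IH) (Lpn (LP (LK LD1_c0 LD2_c24 LD3_c32))))))))))))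
theorem f28805 : Led Lsl_cf (LP (LK LD1_c0 LD2_c12 LD3_c22)) = (LP (LK LD1_c0 LD2_c24 LD3_c32)) :=
  Lgr Lrot169 (Lpr_gt (f28777 IH) (Lpr_ct (f27787 IH) (Lpr_df (f27735 IH) (Lpe (f27748 IH) (Lpr_gf (f28209 IH) (Lpe (f28178 IH) (Lpe (f748 IH) (Lpe (f9633 IH) (Lpr_gt (f28511 IH) (Lpn (LP (LK LD1_c0 LD2_c24 LD3_c32))))))))))))
theorem f29041 : Led Lsl_bt (LP (LK LD1_c0 LD2_c17 LD3_c31)) = (LP (LK LD1_c0 LD2_c24 LD3_c32)) :=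
  Lgr Lrot128 (Lpr_cf (f29037 IH) (Lpe (f29000 IH) (Lpe (f28808 IH) (Lpe (f28999 IH) (Lpr_cf (f28805 IH) (Lpn (LP (LK LD1_c0 LD2_c24 LD3_c32))))))))
theorem f29057 : Led Lsl_et (LP (LK LD1_c0 LD2_c39 LD3_c7)) = (LP (LK LD1_c0 LD2_c17 LD3_c31)) :=
  Lre_e IH (LK LD1_c0 LD2_c39 LD3_c7) (LK LD1_c0 LD2_c17 LD3_c31) Lrfl Lrfl
theorem f29063 : Led Lsl_et (LP (LK LD1_c0 LD2_c24 LD3_c32)) = (LP (LK LD1_c0 LD2_c54 LD3_c20)) :=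
  Lre_e IH (LK LD1_c0 LD2_c24 LD3_c32) (LK LD1_c0 LD2_c54 LD3_c20) Lrfl Lrfl
theorem f29064 : Led Lsl_bf (LP (LK LD1_c0 LD2_c39 LD3_c7)) = (LP (LK LD1_c0 LD2_c54 LD3_c20)) :=
  Lgr Lrot96 (Lpr_et (f29057 IH) (Lpr_bt (f29041 IH) (Lpr_et (f29063 IH) (Lpn (LP (LK LD1_c0 LD2_c54 LD3_c20))))))
theorem f29045 : Led Lsl_et (LP (LK LD1_c0 LD2_c17 LD3_c31)) = (LP (LK LD1_c0 LD2_c39 LD3_c7)) :=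
  Lre_e IH (LK LD1_c0 LD2_c17 LD3_c31) (LK LD1_c0 LD2_c39 LD3_c7) Lrfl Lrfl
theorem f29039 : Led Lsl_et (LP (LK LD1_c1 LD2_c24 LD3_c51)) = (LP (LK LD1_c0 LD2_c39 LD3_c5)) :=
  Lre_e IH (LK LD1_c1 LD2_c24 LD3_c51) (LK LD1_c0 LD2_c39 LD3_c5) Lrfl Lrfl
theorem f29046 : Led Lsl_ct (LP (LK LD1_c0 LD2_c39 LD3_c7)) = (LP (LK LD1_c1 LD2_c24 LD3_c51)) :=
  Lgr Lrot15 (Lpe (f29045 IH) (Lpr_cf (f29037 IH) (Lpe (f29039 IH) (Lpn (LP (LK LD1_c1 LD2_c24 LD3_c51))))))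
theorem f29010 : Led Lsl_bt (LP (LK LD1_c1 LD2_c24 LD3_c51)) = (LP (LK LD1_c0 LD2_c39 LD3_c6)) :=
  Lre_b IH (LK LD1_c1 LD2_c24 LD3_c51) (LK LD1_c0 LD2_c39 LD3_c6) Lrfl Lrfl
theorem f29005 : Led Lsl_et (LP (LK LD1_c1 LD2_c1 LD3_c10)) = (LP (LK LD1_c0 LD2_c27 LD3_c58)) :=
  Lre_e IH (LK LD1_c1 LD2_c1 LD3_c10) (LK LD1_c0 LD2_c27 LD3_c58) Lrfl Lrfl
theorem f29006 : Led Lsl_et (LP (LK LD1_c0 LD2_c17 LD3_c30)) = (LP (LK LD1_c0 LD2_c39 LD3_c6)) :=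
  Lre_e IH (LK LD1_c0 LD2_c17 LD3_c30) (LK LD1_c0 LD2_c39 LD3_c6) Lrfl Lrfl
theorem f29007 : Led Lsl_cf (LP (LK LD1_c1 LD2_c1 LD3_c10)) = (LP (LK LD1_c0 LD2_c39 LD3_c6)) :=
  Lgr Lrot39 (Lpr_et (f29005 IH) (Lpr_ct (f28808 IH) (Lpr_et (f29006 IH) (Lpn (LP (LK LD1_c0 LD2_c39 LD3_c6))))))
theorem f29009 : Led Lsl_bt (LP (LK LD1_c1 LD2_c1 LD3_c10)) = (LP (LK LD1_c0 LD2_c27 LD3_c60)) :=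
  Lre_b IH (LK LD1_c1 LD2_c1 LD3_c10) (LK LD1_c0 LD2_c27 LD3_c60) Lrfl Lrfl
theorem f29068 : Led Lsl_ct (LP (LK LD1_c0 LD2_c27 LD3_c60)) = (LP (LK LD1_c0 LD2_c54 LD3_c20)) :=
  Lgr Lrot83 (Lpe (f29009 IH) (Lpr_cf (f29007 IH) (Lpe (f29010 IH) (Lpe (f29046 IH) (Lpr_bf (f29064 IH) (Lpn (LP (LK LD1_c0 LD2_c54 LD3_c20))))))))
theorem f29121 : Led Lsl_cf (LP (LK LD1_c0 LD2_c27 LD3_c60)) = (LP (LK LD1_c0 LD2_c54 LD3_c20)) :=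
  Lgr Lrot11 (Lpr_ct (f29068 IH) (Lpn (LP (LK LD1_c0 LD2_c54 LD3_c20))))
theorem f28811 : Led Lsl_et (LP (LK LD1_c0 LD2_c27 LD3_c60)) = (LP (LK LD1_c0 LD2_c12 LD3_c22)) :=
  Lre_e IH (LK LD1_c0 LD2_c27 LD3_c60) (LK LD1_c0 LD2_c12 LD3_c22) Lrfl Lrfl
theorem f29148 : Led Lsl_ct (LP (LK LD1_c0 LD2_c12 LD3_c22)) = (LP (LK LD1_c0 LD2_c24 LD3_c32)) :=
  Lgr Lrot15 (Lpe (f28811 IH) (Lpr_cf (f29121 IH) (Lpe (f29063 IH) (Lpn (LP (LK LD1_c0 LD2_c24 LD3_c32))))))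
theorem f29152 : Led Lsl_bt (LP (LK LD1_c0 LD2_c11 LD3_c8)) = (LP (LK LD1_c0 LD2_c13 LD3_c58)) :=
  Lgr Lrot130 (Lpr_ct (f28557 IH) (Lpe (f28775 IH) (Lpe (f28574 IH) (Lpr_bt (f28573 IH) (Lpe (f29033 IH) (Lpe (f28999 IH) (Lpr_ct (f29148 IH) (Lpe (f28511 IH) (Lpr_cf (f27777 IH) (Lpe (f1608 IH) (Lpn (LP (LK LD1_c0 LD2_c13 LD3_c58)))))))))))))
theorem f29154 : Led Lsl_af (LP (LK LD1_c0 LD2_c11 LD3_c8)) = (LP (LK LD1_c0 LD2_c6 LD3_c31)) :=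
  Lgr Lrot36 (Lpr_bt (f29152 IH) (Lpr_at (f1604 IH) (Lpr_bt (f1615 IH) (Lpr_at (f2203 IH) (Lpr_bt (f2205 IH) (Lpn (LP (LK LD1_c0 LD2_c6 LD3_c31))))))))
theorem f27794 : Led Lsl_at (LP (LK LD1_c0 LD2_c25 LD3_c10)) = (LP (LK LD1_c0 LD2_c11 LD3_c21)) :=
  Lre_a IH (LK LD1_c0 LD2_c25 LD3_c10) (LK LD1_c0 LD2_c11 LD3_c21) Lrfl Lrfl
theorem f27785 : Led Lsl_ct (LP (LK LD1_c0 LD2_c25 LD3_c10)) = (LP (LK LD1_c0 LD2_c11 LD3_c58)) :=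
  Lgr Lrot111 (Lpe (f27784 IH) (Lpr_cf (f27777 IH) (Lpr_af (f27535 IH) (Lpn (LP (LK LD1_c0 LD2_c11 LD3_c58))))))
theorem f27920 : Led Lsl_ft (LP (LK LD1_c0 LD2_c25 LD3_c10)) = (LP (LK LD1_c0 LD2_c25 LD3_c10)) :=
  Lgr Lrot4 (Lpr_cf (f27806 IH) (Lpe (f27401 IH) (Lpe (f27785 IH) (Lpn (LP (LK LD1_c0 LD2_c25 LD3_c10))))))
theorem f28801 : Led Lsl_gf (LP (LK LD1_c0 LD2_c12 LD3_c22)) = (LP (LK LD1_c0 LD2_c25 LD3_c10)) :=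
  Lgr Lrot47 (Lpr_gt (f28777 IH) (Lpe (f27794 IH) (Lpe (f27920 IH) (Lpn (LP (LK LD1_c0 LD2_c25 LD3_c10))))))
theorem f28461 : Led Lsl_dt (LP (LK LD1_c0 LD2_c10 LD3_c56)) = (LP (LK LD1_c0 LD2_c24 LD3_c32)) :=
  Lre_d IH (LK LD1_c0 LD2_c10 LD3_c56) (LK LD1_c0 LD2_c24 LD3_c32) Lrfl Lrfl
theorem f28407 : Led Lsl_ct (LP (LK LD1_c0 LD2_c5 LD3_c5)) = (LP (LK LD1_c0 LD2_c10 LD3_c56)) :=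
  Lre_c IH (LK LD1_c0 LD2_c5 LD3_c5) (LK LD1_c0 LD2_c10 LD3_c56) Lrfl Lrfl
theorem f28460 : Led Lsl_ct (LP (LK LD1_c0 LD2_c12 LD3_c15)) = (LP (LK LD1_c0 LD2_c5 LD3_c38)) :=
  Lre_c IH (LK LD1_c0 LD2_c12 LD3_c15) (LK LD1_c0 LD2_c5 LD3_c38) Lrfl Lrfl
theorem f29150 : Led Lsl_gt (LP (LK LD1_c0 LD2_c6 LD3_c31)) = (LP (LK LD1_c0 LD2_c12 LD3_c15)) :=
  Lgr Lrot9 (Lpr_df (f1667 IH) (Lpe (f8069 IH) (Lpe (f27806 IH) (Lpe (f28801 IH) (Lpr_ct (f29148 IH) (Lpe (f28461 IH) (Lpe (f28407 IH) (Lpe (f28457 IH) (Lpe (f28460 IH) (Lpn (LP (LK LD1_c0 LD2_c12 LD3_c15))))))))))))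
theorem f31030 : Led Lsl_gf (LP (LK LD1_c0 LD2_c11 LD3_c8)) = (LP (LK LD1_c0 LD2_c12 LD3_c15)) :=
  Lgr Lrot76 (Lpr_af (f29154 IH) (Lpe (f2430 IH) (Lpr_gt (f29150 IH) (Lpn (LP (LK LD1_c0 LD2_c12 LD3_c15))))))
theorem f28767 : Led Lsl_af (LP (LK LD1_c0 LD2_c5 LD3_c10)) = (LP (LK LD1_c0 LD2_c5 LD3_c12)) :=
  Lgr Lrot0 (Lpr_at (f28765 IH) (Lpn (LP (LK LD1_c0 LD2_c5 LD3_c12))))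
theorem f28769 : Led Lsl_bf (LP (LK LD1_c0 LD2_c5 LD3_c12)) = (LP (LK LD1_c0 LD2_c5 LD3_c12)) :=
  Lgr Lrot81 (Lpe (f28767 IH) (Lpe (f2940 IH) (Lpe (f6894 IH) (Lpr_bt (f2992 IH) (Lpr_at (f28765 IH) (Lpn (LP (LK LD1_c0 LD2_c5 LD3_c12))))))))
theorem f27819 : Led Lsl_ct (LP (LK LD1_c0 LD2_c5 LD3_c38)) = (LP (LK LD1_c0 LD2_c12 LD3_c15)) :=
  Lre_c IH (LK LD1_c0 LD2_c5 LD3_c38) (LK LD1_c0 LD2_c12 LD3_c15) Lrfl Lrfl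
theorem f28444 : Led Lsl_bt (LP (LK LD1_c0 LD2_c3 LD3_c0)) = (LP (LK LD1_c0 LD2_c6 LD3_c36)) :=
  Lre_b IH (LK LD1_c0 LD2_c3 LD3_c0) (LK LD1_c0 LD2_c6 LD3_c36) Lrfl Lrfl
theorem f31034 : Led Lsl_gt (LP (LK LD1_c0 LD2_c5 LD3_c12)) = (LP (LK LD1_c0 LD2_c6 LD3_c36)) :=
  Lgr Lrot164 (Lpr_bf (f28769 IH) (Lpr_ct (f28558 IH) (Lpr_gf (f31030 IH) (Lpe (f27819 IH) (Lpe (f27818 IH) (Lpe (f28441 IH) (Lpr_ct (f6851 IH) (Lpe (f28437 IH) (Lpr_cf (f28420 IH) (Lpr_bt (f28444 IH) (Lpn (LP (LK LD1_c0 LD2_c6 LD3_c36)))))))))))))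
theorem f31037 : Led Lsl_df (LP (LK LD1_c0 LD2_c3 LD3_c29)) = (LP (LK LD1_c0 LD2_c6 LD3_c36)) :=
  Lgr Lrot84 (Lpe (f8194 IH) (Lpe (f28449 IH) (Lpe (f27818 IH) (Lpe (f16668 IH) (Lpr_gf (f27812 IH) (Lpe (f27915 IH) (Lpr_gt (f28555 IH) (Lpr_dt (f27808 IH) (Lpr_gt (f31034 IH) (Lpn (LP (LK LD1_c0 LD2_c6 LD3_c36))))))))))))
theorem f16673 : Led Lsl_dt (LP (LK LD1_c0 LD2_c12 LD3_c22)) = (LP (LK LD1_c0 LD2_c5 LD3_c40)) :=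
  Lre_d IH (LK LD1_c0 LD2_c12 LD3_c22) (LK LD1_c0 LD2_c5 LD3_c40) Lrfl Lrfl
theorem f21230 : Led Lsl_gt (LP (LK LD1_c0 LD2_c5 LD3_c40)) = (LP (LK LD1_c0 LD2_c12 LD3_c19)) :=
  Lre_g IH (LK LD1_c0 LD2_c5 LD3_c40) (LK LD1_c0 LD2_c12 LD3_c19) Lrfl Lrfl
theorem f28594 : Led Lsl_gt (LP (LK LD1_c0 LD2_c6 LD3_c36)) = (LP (LK LD1_c0 LD2_c5 LD3_c10)) :=
  Lgr Lrot164 (Lpe (f28444 IH) (Lpe (f28420 IH) (Lpe (f7705 IH) (Lpe (f1482 IH) (Lpe (f227 IH) (Lpe (f228 IH) (Lpr_ct (f28582 IH) (Lpe (f2895 IH) (Lpr_cf (f6880 IH) (Lpr_bt (f2992 IH) (Lpn (LP (LK LD1_c0 LD2_c5 LD3_c10)))))))))))))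
theorem f28803 : Led Lsl_ct (LP (LK LD1_c0 LD2_c12 LD3_c19)) = (LP (LK LD1_c0 LD2_c6 LD3_c36)) :=
  Lgr Lrot152 (Lpe (f21230 IH) (Lpe (f16673 IH) (Lpr_gt (f28777 IH) (Lpr_ct (f27787 IH) (Lpr_gt (f1607 IH) (Lpe (f1695 IH) (Lpr_df (f2432 IH) (Lpr_cf (f6924 IH) (Lpe (f28594 IH) (Lpn (LP (LK LD1_c0 LD2_c6 LD3_c36))))))))))))
theorem f31048 : Led Lsl_dt (LP (LK LD1_c0 LD2_c5 LD3_c59)) = (LP (LK LD1_c0 LD2_c5 LD3_c39)) :=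
  Lgr Lrot6 (Lpr_gt (f6972 IH) (Lpr_ct (f9592 IH) (Lpe (f8255 IH) (Lpr_ct (f8194 IH) (Lpr_df (f31037 IH) (Lpe (f28803 IH) (Lpe (f21230 IH) (Lpe (f16669 IH) (Lpe (f16674 IH) (Lpn (LP (LK LD1_c0 LD2_c5 LD3_c39))))))))))))
theorem f31059 : Led Lsl_df (LP (LK LD1_c0 LD2_c5 LD3_c59)) = (LP (LK LD1_c0 LD2_c5 LD3_c39)) :=
  Lgr Lrot38 (Lpr_dt (f31048 IH) (Lpn (LP (LK LD1_c0 LD2_c5 LD3_c39))))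
theorem f31061 : Led Lsl_ff (LP (LK LD1_c0 LD2_c5 LD3_c39)) = (LP (LK LD1_c0 LD2_c5 LD3_c39)) :=
  Lgr Lrot19 (Lpe (f31059 IH) (Lpr_ft (f9582 IH) (Lpr_dt (f31048 IH) (Lpn (LP (LK LD1_c0 LD2_c5 LD3_c39))))))
theorem f28727 : Led Lsl_et (LP (LK LD1_c0 LD2_c5 LD3_c39)) = (LP (LK LD1_c0 LD2_c12 LD3_c18)) :=
  Lre_e IH (LK LD1_c0 LD2_c5 LD3_c39) (LK LD1_c0 LD2_c12 LD3_c18) Lrfl Lrfl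
theorem f28614 : Led Lsl_ft (LP (LK LD1_c0 LD2_c12 LD3_c18)) = (LP (LK LD1_c0 LD2_c27 LD3_c50)) :=
  Lre_f IH (LK LD1_c0 LD2_c12 LD3_c18) (LK LD1_c0 LD2_c27 LD3_c50) Lrfl Lrfl
theorem f28649 : Led Lsl_ft (LP (LK LD1_c0 LD2_c27 LD3_c50)) = (LP (LK LD1_c0 LD2_c12 LD3_c18)) :=
  Lre_f IH (LK LD1_c0 LD2_c27 LD3_c50) (LK LD1_c0 LD2_c12 LD3_c18) Lrfl Lrfl
theorem f31067 : Led Lsl_et (LP (LK LD1_c0 LD2_c27 LD3_c50)) = (LP (LK LD1_c0 LD2_c27 LD3_c50)) :=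
  Lgr Lrot69 (Lpe (f28614 IH) (Lpe (f28727 IH) (Lpr_ff (f31061 IH) (Lpe (f27823 IH) (Lpe (f28649 IH) (Lpn (LP (LK LD1_c0 LD2_c27 LD3_c50))))))))
theorem f28622 : Led Lsl_ct (LP (LK LD1_c1 LD2_c0 LD3_c57)) = (LP (LK LD1_c0 LD2_c27 LD3_c50)) :=
  Lre_c IH (LK LD1_c1 LD2_c0 LD3_c57) (LK LD1_c0 LD2_c27 LD3_c50) Lrfl Lrfl
theorem f28629 : Led Lsl_ct (LP (LK LD1_c0 LD2_c27 LD3_c50)) = (LP (LK LD1_c1 LD2_c0 LD3_c57)) :=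
  Lre_c IH (LK LD1_c0 LD2_c27 LD3_c50) (LK LD1_c1 LD2_c0 LD3_c57) Lrfl Lrfl
theorem f31071 : Led Lsl_ef (LP (LK LD1_c1 LD2_c0 LD3_c57)) = (LP (LK LD1_c1 LD2_c0 LD3_c57)) :=
  Lgr Lrot28 (Lpr_ct (f28622 IH) (Lpr_et (f31067 IH) (Lpr_ct (f28629 IH) (Lpn (LP (LK LD1_c1 LD2_c0 LD3_c57))))))
theorem f28648 : Led Lsl_bt (LP (LK LD1_c1 LD2_c0 LD3_c57)) = (LP (LK LD1_c2 LD2_c7 LD3_c38)) :=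
  Lre_b IH (LK LD1_c1 LD2_c0 LD3_c57) (LK LD1_c2 LD2_c7 LD3_c38) Lrfl Lrfl
theorem f28623 : Led Lsl_bt (LP (LK LD1_c2 LD2_c7 LD3_c38)) = (LP (LK LD1_c1 LD2_c0 LD3_c57)) :=
  Lre_b IH (LK LD1_c2 LD2_c7 LD3_c38) (LK LD1_c1 LD2_c0 LD3_c57) Lrfl Lrfl
theorem f31073 : Led Lsl_et (LP (LK LD1_c2 LD2_c7 LD3_c38)) = (LP (LK LD1_c2 LD2_c7 LD3_c38)) :=
  Lgr Lrot74 (Lpe (f28648 IH) (Lpr_ef (f31071 IH) (Lpe (f28623 IH) (Lpn (LP (LK LD1_c2 LD2_c7 LD3_c38))))))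
theorem f28696 : Led Lsl_ft (LP (LK LD1_c1 LD2_c0 LD3_c54)) = (LP (LK LD1_c2 LD2_c7 LD3_c38)) :=
  Lre_f IH (LK LD1_c1 LD2_c0 LD3_c54) (LK LD1_c2 LD2_c7 LD3_c38) Lrfl Lrfl
theorem f28666 : Led Lsl_et (LP (LK LD1_c0 LD2_c27 LD3_c46)) = (LP (LK LD1_c1 LD2_c0 LD3_c54)) :=
  Lre_e IH (LK LD1_c0 LD2_c27 LD3_c46) (LK LD1_c1 LD2_c0 LD3_c54) Lrfl Lrfl
theorem f28668 : Led Lsl_ft (LP (LK LD1_c2 LD2_c7 LD3_c38)) = (LP (LK LD1_c1 LD2_c0 LD3_c54)) :=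
  Lre_f IH (LK LD1_c2 LD2_c7 LD3_c38) (LK LD1_c1 LD2_c0 LD3_c54) Lrfl Lrfl
theorem f31097 : Led Lsl_ff (LP (LK LD1_c0 LD2_c27 LD3_c46)) = (LP (LK LD1_c0 LD2_c27 LD3_c46)) :=
  Lgr Lrot72 (Lpr_et (f28666 IH) (Lpr_ft (f28696 IH) (Lpr_et (f31073 IH) (Lpr_ft (f28668 IH) (Lpr_et (f28719 IH) (Lpn (LP (LK LD1_c0 LD2_c27 LD3_c46))))))))
theorem f27817 : Led Lsl_ct (LP (LK LD1_c0 LD2_c12 LD3_c17)) = (LP (LK LD1_c0 LD2_c5 LD3_c39)) :=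
  Lre_c IH (LK LD1_c0 LD2_c12 LD3_c17) (LK LD1_c0 LD2_c5 LD3_c39) Lrfl Lrfl
theorem f28600 : Led Lsl_cf (LP (LK LD1_c0 LD2_c27 LD3_c46)) = (LP (LK LD1_c0 LD2_c27 LD3_c53)) :=
  Lgr Lrot97 (Lpr_bt (f27880 IH) (Lpr_ct (f27817 IH) (Lpr_bt (f28596 IH) (Lpe (f28569 IH) (Lpr_bt (f28573 IH) (Lpn (LP (LK LD1_c0 LD2_c27 LD3_c53))))))))
theorem f31099 : Led Lsl_ft (LP (LK LD1_c0 LD2_c27 LD3_c53)) = (LP (LK LD1_c0 LD2_c27 LD3_c53)) :=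
  Lgr Lrot4 (Lpe (f28721 IH) (Lpr_ff (f31097 IH) (Lpr_cf (f28600 IH) (Lpn (LP (LK LD1_c0 LD2_c27 LD3_c53))))))
theorem f28726 : Led Lsl_bt (LP (LK LD1_c0 LD2_c27 LD3_c53)) = (LP (LK LD1_c0 LD2_c12 LD3_c20)) :=
  Lre_b IH (LK LD1_c0 LD2_c27 LD3_c53) (LK LD1_c0 LD2_c12 LD3_c20) Lrfl Lrfl
theorem f31101 : Led Lsl_ff (LP (LK LD1_c0 LD2_c12 LD3_c20)) = (LP (LK LD1_c0 LD2_c12 LD3_c20)) :=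
  Lgr Lrot25 (Lpr_bt (f28573 IH) (Lpr_ft (f31099 IH) (Lpr_bt (f28726 IH) (Lpn (LP (LK LD1_c0 LD2_c12 LD3_c20))))))
theorem f31107 : Led Lsl_at (LP (LK LD1_c0 LD2_c12 LD3_c20)) = (LP (LK LD1_c0 LD2_c12 LD3_c19)) :=
  Lgr Lrot26 (Lpr_ff (f31101 IH) (Lpr_gt (f16675 IH) (Lpr_gt (f21230 IH) (Lpn (LP (LK LD1_c0 LD2_c12 LD3_c19))))))
theorem f31111 : Led Lsl_af (LP (LK LD1_c0 LD2_c11 LD3_c5)) = (LP (LK LD1_c0 LD2_c6 LD3_c36)) :=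
  Lgr Lrot68 (Lpe (f28569 IH) (Lpr_at (f31107 IH) (Lpr_ct (f28803 IH) (Lpn (LP (LK LD1_c0 LD2_c6 LD3_c36))))))
theorem f31055 : Led Lsl_af (LP (LK LD1_c0 LD2_c5 LD3_c38)) = (LP (LK LD1_c0 LD2_c5 LD3_c39)) :=
  Lgr Lrot117 (Lpr_dt (f28449 IH) (Lpe (f9570 IH) (Lpr_dt (f31048 IH) (Lpn (LP (LK LD1_c0 LD2_c5 LD3_c39))))))
theorem f31602 : Led Lsl_at (LP (LK LD1_c0 LD2_c3 LD3_c1)) = (LP (LK LD1_c0 LD2_c3 LD3_c0)) :=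
  Lgr Lrot67 (Lpe (f28445 IH) (Lpr_af (f31055 IH) (Lpr_bf (f28598 IH) (Lpr_af (f31111 IH) (Lpe (f28444 IH) (Lpn (LP (LK LD1_c0 LD2_c3 LD3_c0))))))))
theorem f7019 : Led Lsl_et (LP (LK LD1_c0 LD2_c6 LD3_c38)) = (LP (LK LD1_c0 LD2_c3 LD3_c1)) :=
  Lre_e IH (LK LD1_c0 LD2_c6 LD3_c38) (LK LD1_c0 LD2_c3 LD3_c1) Lrfl Lrfl
theorem f31558 : Led Lsl_et (LP (LK LD1_c0 LD2_c3 LD3_c0)) = (LP (LK LD1_c0 LD2_c6 LD3_c37)) :=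
  Lre_e IH (LK LD1_c0 LD2_c3 LD3_c0) (LK LD1_c0 LD2_c6 LD3_c37) Lrfl Lrfl
theorem f31606 : Led Lsl_af (LP (LK LD1_c0 LD2_c6 LD3_c38)) = (LP (LK LD1_c0 LD2_c6 LD3_c37)) :=
  Lgr Lrot50 (Lpr_et (f7019 IH) (Lpr_at (f31602 IH) (Lpr_et (f31558 IH) (Lpn (LP (LK LD1_c0 LD2_c6 LD3_c37))))))
theorem f31608 : Led Lsl_at (LP (LK LD1_c0 LD2_c6 LD3_c38)) = (LP (LK LD1_c0 LD2_c6 LD3_c37)) :=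
  Lgr Lrot100 (Lpr_af (f31606 IH) (Lpn (LP (LK LD1_c0 LD2_c6 LD3_c37))))
theorem f28451 : Led Lsl_et (LP (LK LD1_c0 LD2_c5 LD3_c38)) = (LP (LK LD1_c0 LD2_c12 LD3_c16)) :=
  Lre_e IH (LK LD1_c0 LD2_c5 LD3_c38) (LK LD1_c0 LD2_c12 LD3_c16) Lrfl Lrfl
theorem f28452 : Led Lsl_bt (LP (LK LD1_c0 LD2_c12 LD3_c16)) = (LP (LK LD1_c0 LD2_c6 LD3_c38)) :=
  Lgr Lrot119 (Lpe (f28451 IH) (Lpr_bf (f28442 IH) (Lpe (f7019 IH) (Lpn (LP (LK LD1_c0 LD2_c6 LD3_c38))))))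
theorem f31597 : Led Lsl_bt (LP (LK LD1_c0 LD2_c6 LD3_c37)) = (LP (LK LD1_c0 LD2_c14 LD3_c18)) :=
  Lre_b IH (LK LD1_c0 LD2_c6 LD3_c37) (LK LD1_c0 LD2_c14 LD3_c18) Lrfl Lrfl
theorem f31109 : Led Lsl_af (LP (LK LD1_c0 LD2_c12 LD3_c20)) = (LP (LK LD1_c0 LD2_c12 LD3_c19)) :=
  Lgr Lrot0 (Lpr_at (f31107 IH) (Lpn (LP (LK LD1_c0 LD2_c12 LD3_c19))))
theorem f31118 : Led Lsl_ff (LP (LK LD1_c0 LD2_c12 LD3_c19)) = (LP (LK LD1_c0 LD2_c12 LD3_c19)) :=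
  Lgr Lrot30 (Lpe (f31109 IH) (Lpe (f31101 IH) (Lpr_at (f31107 IH) (Lpn (LP (LK LD1_c0 LD2_c12 LD3_c19))))))
theorem f31043 : Led Lsl_dt (LP (LK LD1_c0 LD2_c3 LD3_c29)) = (LP (LK LD1_c0 LD2_c6 LD3_c36)) :=
  Lgr Lrot42 (Lpr_df (f31037 IH) (Lpn (LP (LK LD1_c0 LD2_c6 LD3_c36))))
theorem f31046 : Led Lsl_ft (LP (LK LD1_c0 LD2_c6 LD3_c36)) = (LP (LK LD1_c0 LD2_c6 LD3_c36)) :=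
  Lgr Lrot54 (Lpe (f31043 IH) (Lpe (f8196 IH) (Lpr_df (f31037 IH) (Lpn (LP (LK LD1_c0 LD2_c6 LD3_c36))))))
theorem f31120 : Led Lsl_ct (LP (LK LD1_c0 LD2_c6 LD3_c36)) = (LP (LK LD1_c0 LD2_c12 LD3_c19)) :=
  Lgr Lrot40 (Lpe (f31046 IH) (Lpe (f28803 IH) (Lpr_ff (f31118 IH) (Lpn (LP (LK LD1_c0 LD2_c12 LD3_c19))))))
theorem f31039 : Led Lsl_et (LP (LK LD1_c0 LD2_c14 LD3_c18)) = (LP (LK LD1_c0 LD2_c6 LD3_c36)) :=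
  Lre_e IH (LK LD1_c0 LD2_c14 LD3_c18) (LK LD1_c0 LD2_c6 LD3_c36) Lrfl Lrfl
theorem f31115 : Led Lsl_et (LP (LK LD1_c0 LD2_c12 LD3_c19)) = (LP (LK LD1_c0 LD2_c27 LD3_c52)) :=
  Lre_e IH (LK LD1_c0 LD2_c12 LD3_c19) (LK LD1_c0 LD2_c27 LD3_c52) Lrfl Lrfl
theorem f31428 : Led Lsl_cf (LP (LK LD1_c0 LD2_c14 LD3_c18)) = (LP (LK LD1_c0 LD2_c27 LD3_c52)) :=
  Lgr Lrot39 (Lpr_et (f31039 IH) (Lpr_ct (f31120 IH) (Lpr_et (f31115 IH) (Lpn (LP (LK LD1_c0 LD2_c27 LD3_c52))))))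
theorem f30829 : Led Lsl_dt (LP (LK LD1_c0 LD2_c12 LD3_c19)) = (LP (LK LD1_c0 LD2_c27 LD3_c51)) :=
  Lre_d IH (LK LD1_c0 LD2_c12 LD3_c19) (LK LD1_c0 LD2_c27 LD3_c51) Lrfl Lrfl
theorem f31042 : Led Lsl_dt (LP (LK LD1_c0 LD2_c27 LD3_c51)) = (LP (LK LD1_c0 LD2_c12 LD3_c19)) :=
  Lre_d IH (LK LD1_c0 LD2_c27 LD3_c51) (LK LD1_c0 LD2_c12 LD3_c19) Lrfl Lrfl
theorem f31122 : Led Lsl_ft (LP (LK LD1_c0 LD2_c27 LD3_c51)) = (LP (LK LD1_c0 LD2_c27 LD3_c51)) :=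
  Lgr Lrot54 (Lpe (f30829 IH) (Lpr_ff (f31118 IH) (Lpe (f31042 IH) (Lpn (LP (LK LD1_c0 LD2_c27 LD3_c51))))))
theorem f28581 : Led Lsl_dt (LP (LK LD1_c0 LD2_c27 LD3_c54)) = (LP (LK LD1_c0 LD2_c12 LD3_c20)) :=
  Lre_d IH (LK LD1_c0 LD2_c27 LD3_c54) (LK LD1_c0 LD2_c12 LD3_c20) Lrfl Lrfl
theorem f31113 : Led Lsl_af (LP (LK LD1_c0 LD2_c27 LD3_c54)) = (LP (LK LD1_c0 LD2_c27 LD3_c51)) :=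
  Lgr Lrot117 (Lpr_dt (f28581 IH) (Lpr_at (f31107 IH) (Lpr_dt (f30829 IH) (Lpn (LP (LK LD1_c0 LD2_c27 LD3_c51))))))
theorem f28576 : Led Lsl_dt (LP (LK LD1_c0 LD2_c12 LD3_c20)) = (LP (LK LD1_c0 LD2_c27 LD3_c54)) :=
  Lre_d IH (LK LD1_c0 LD2_c12 LD3_c20) (LK LD1_c0 LD2_c27 LD3_c54) Lrfl Lrfl
theorem f31103 : Led Lsl_ft (LP (LK LD1_c0 LD2_c27 LD3_c54)) = (LP (LK LD1_c0 LD2_c27 LD3_c54)) :=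
  Lgr Lrot54 (Lpe (f28576 IH) (Lpr_ff (f31101 IH) (Lpe (f28581 IH) (Lpn (LP (LK LD1_c0 LD2_c27 LD3_c54))))))
theorem f31154 : Led Lsl_af (LP (LK LD1_c0 LD2_c27 LD3_c51)) = (LP (LK LD1_c0 LD2_c27 LD3_c54)) :=
  Lgr Lrot45 (Lpr_ft (f31122 IH) (Lpe (f31113 IH) (Lpr_ft (f31103 IH) (Lpn (LP (LK LD1_c0 LD2_c27 LD3_c54))))))
theorem f31133 : Led Lsl_et (LP (LK LD1_c0 LD2_c27 LD3_c51)) = (LP (LK LD1_c1 LD2_c1 LD3_c1)) :=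
  Lre_e IH (LK LD1_c0 LD2_c27 LD3_c51) (LK LD1_c1 LD2_c1 LD3_c1) Lrfl Lrfl
theorem f31157 : Led Lsl_et (LP (LK LD1_c1 LD2_c1 LD3_c5)) = (LP (LK LD1_c0 LD2_c27 LD3_c54)) :=
  Lre_e IH (LK LD1_c1 LD2_c1 LD3_c5) (LK LD1_c0 LD2_c27 LD3_c54) Lrfl Lrfl
theorem f31158 : Led Lsl_at (LP (LK LD1_c1 LD2_c1 LD3_c1)) = (LP (LK LD1_c1 LD2_c1 LD3_c5)) :=
  Lgr Lrot80 (Lpe (f31133 IH) (Lpr_af (f31154 IH) (Lpe (f31157 IH) (Lpn (LP (LK LD1_c1 LD2_c1 LD3_c5))))))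
theorem f31162 : Led Lsl_dt (LP (LK LD1_c2 LD2_c7 LD3_c51)) = (LP (LK LD1_c1 LD2_c1 LD3_c1)) :=
  Lre_d IH (LK LD1_c2 LD2_c7 LD3_c51) (LK LD1_c1 LD2_c1 LD3_c1) Lrfl Lrfl
theorem f31163 : Led Lsl_dt (LP (LK LD1_c1 LD2_c1 LD3_c5)) = (LP (LK LD1_c2 LD2_c7 LD3_c58)) :=
  Lre_d IH (LK LD1_c1 LD2_c1 LD3_c5) (LK LD1_c2 LD2_c7 LD3_c58) Lrfl Lrfl
theorem f31164 : Led Lsl_af (LP (LK LD1_c2 LD2_c7 LD3_c51)) = (LP (LK LD1_c2 LD2_c7 LD3_c58)) :=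
  Lgr Lrot117 (Lpr_dt (f31162 IH) (Lpr_at (f31158 IH) (Lpr_dt (f31163 IH) (Lpn (LP (LK LD1_c2 LD2_c7 LD3_c58))))))
theorem f31172 : Led Lsl_et (LP (LK LD1_c2 LD2_c7 LD3_c51)) = (LP (LK LD1_c1 LD2_c1 LD3_c2)) :=
  Lre_e IH (LK LD1_c2 LD2_c7 LD3_c51) (LK LD1_c1 LD2_c1 LD3_c2) Lrfl Lrfl
theorem f31173 : Led Lsl_et (LP (LK LD1_c1 LD2_c1 LD3_c6)) = (LP (LK LD1_c2 LD2_c7 LD3_c58)) :=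
  Lre_e IH (LK LD1_c1 LD2_c1 LD3_c6) (LK LD1_c2 LD2_c7 LD3_c58) Lrfl Lrfl
theorem f31174 : Led Lsl_at (LP (LK LD1_c1 LD2_c1 LD3_c2)) = (LP (LK LD1_c1 LD2_c1 LD3_c6)) :=
  Lgr Lrot80 (Lpe (f31172 IH) (Lpr_af (f31164 IH) (Lpe (f31173 IH) (Lpn (LP (LK LD1_c1 LD2_c1 LD3_c6))))))
theorem f31131 : Led Lsl_dt (LP (LK LD1_c0 LD2_c27 LD3_c52)) = (LP (LK LD1_c1 LD2_c1 LD3_c2)) :=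
  Lre_d IH (LK LD1_c0 LD2_c27 LD3_c52) (LK LD1_c1 LD2_c1 LD3_c2) Lrfl Lrfl
theorem f28618 : Led Lsl_dt (LP (LK LD1_c1 LD2_c1 LD3_c6)) = (LP (LK LD1_c0 LD2_c27 LD3_c55)) :=
  Lre_d IH (LK LD1_c1 LD2_c1 LD3_c6) (LK LD1_c0 LD2_c27 LD3_c55) Lrfl Lrfl
theorem f31183 : Led Lsl_af (LP (LK LD1_c0 LD2_c27 LD3_c52)) = (LP (LK LD1_c0 LD2_c27 LD3_c55)) :=
  Lgr Lrot117 (Lpr_dt (f31131 IH) (Lpr_at (f31174 IH) (Lpr_dt (f28618 IH) (Lpn (LP (LK LD1_c0 LD2_c27 LD3_c55))))))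
theorem f28669 : Led Lsl_ft (LP (LK LD1_c1 LD2_c1 LD3_c4)) = (LP (LK LD1_c2 LD2_c7 LD3_c57)) :=
  Lre_f IH (LK LD1_c1 LD2_c1 LD3_c4) (LK LD1_c2 LD2_c7 LD3_c57) Lrfl Lrfl
theorem f28670 : Led Lsl_cf (LP (LK LD1_c2 LD2_c7 LD3_c38)) = (LP (LK LD1_c2 LD2_c7 LD3_c57)) :=
  Lgr Lrot108 (Lpr_ft (f28668 IH) (Lpr_ct (f28609 IH) (Lpr_ft (f28669 IH) (Lpn (LP (LK LD1_c2 LD2_c7 LD3_c57))))))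
theorem f28681 : Led Lsl_ct (LP (LK LD1_c2 LD2_c7 LD3_c38)) = (LP (LK LD1_c2 LD2_c7 LD3_c57)) :=
  Lgr Lrot59 (Lpr_cf (f28670 IH) (Lpn (LP (LK LD1_c2 LD2_c7 LD3_c57))))
theorem f28615 : Led Lsl_ft (LP (LK LD1_c0 LD2_c55 LD3_c6)) = (LP (LK LD1_c0 LD2_c24 LD3_c57)) :=
  Lre_f IH (LK LD1_c0 LD2_c55 LD3_c6) (LK LD1_c0 LD2_c24 LD3_c57) Lrfl Lrfl
theorem f28616 : Led Lsl_bt (LP (LK LD1_c0 LD2_c27 LD3_c50)) = (LP (LK LD1_c0 LD2_c55 LD3_c6)) :=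
  Lgr Lrot35 (Lpe (f28614 IH) (Lpr_bf (f28603 IH) (Lpe (f28615 IH) (Lpn (LP (LK LD1_c0 LD2_c55 LD3_c6))))))
theorem f28620 : Led Lsl_bf (LP (LK LD1_c0 LD2_c27 LD3_c50)) = (LP (LK LD1_c0 LD2_c55 LD3_c6)) :=
  Lgr Lrot24 (Lpr_bt (f28616 IH) (Lpn (LP (LK LD1_c0 LD2_c55 LD3_c6))))
theorem f28690 : Led Lsl_bt (LP (LK LD1_c2 LD2_c7 LD3_c57)) = (LP (LK LD1_c1 LD2_c1 LD3_c7)) :=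
  Lre_b IH (LK LD1_c2 LD2_c7 LD3_c57) (LK LD1_c1 LD2_c1 LD3_c7) Lrfl Lrfl
theorem f28691 : Led Lsl_cf (LP (LK LD1_c0 LD2_c55 LD3_c6)) = (LP (LK LD1_c1 LD2_c1 LD3_c7)) :=
  Lgr Lrot97 (Lpe (f28620 IH) (Lpr_ct (f28629 IH) (Lpr_bt (f28648 IH) (Lpr_ct (f28681 IH) (Lpr_bt (f28690 IH) (Lpn (LP (LK LD1_c1 LD2_c1 LD3_c7))))))))
theorem f28701 : Led Lsl_ft (LP (LK LD1_c0 LD2_c27 LD3_c55)) = (LP (LK LD1_c1 LD2_c1 LD3_c7)) :=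
  Lre_f IH (LK LD1_c0 LD2_c27 LD3_c55) (LK LD1_c1 LD2_c1 LD3_c7) Lrfl Lrfl
theorem f28702 : Led Lsl_ct (LP (LK LD1_c0 LD2_c24 LD3_c57)) = (LP (LK LD1_c0 LD2_c27 LD3_c55)) :=
  Lgr Lrot40 (Lpe (f28615 IH) (Lpr_cf (f28691 IH) (Lpe (f28701 IH) (Lpn (LP (LK LD1_c0 LD2_c27 LD3_c55))))))
theorem f31529 : Led Lsl_at (LP (LK LD1_c0 LD2_c14 LD3_c18)) = (LP (LK LD1_c0 LD2_c24 LD3_c57)) :=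
  Lgr Lrot107 (Lpr_cf (f31428 IH) (Lpr_af (f31183 IH) (Lpe (f28702 IH) (Lpn (LP (LK LD1_c0 LD2_c24 LD3_c57))))))
theorem f31685 : Led Lsl_af (LP (LK LD1_c0 LD2_c12 LD3_c16)) = (LP (LK LD1_c0 LD2_c12 LD3_c18)) :=
  Lgr Lrot36 (Lpr_bt (f28452 IH) (Lpr_at (f31608 IH) (Lpr_bt (f31597 IH) (Lpr_at (f31529 IH) (Lpe (f28603 IH) (Lpn (LP (LK LD1_c0 LD2_c12 LD3_c18))))))))
theorem f31706 : Led Lsl_ct (LP (LK LD1_c0 LD2_c27 LD3_c42)) = (LP (LK LD1_c0 LD2_c12 LD3_c16)) :=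
  Lre_c IH (LK LD1_c0 LD2_c27 LD3_c42) (LK LD1_c0 LD2_c12 LD3_c16) Lrfl Lrfl
theorem f31707 : Led Lsl_dt (LP (LK LD1_c1 LD2_c0 LD3_c47)) = (LP (LK LD1_c0 LD2_c27 LD3_c42)) :=
  Lre_d IH (LK LD1_c1 LD2_c0 LD3_c47) (LK LD1_c0 LD2_c27 LD3_c42) Lrfl Lrfl
theorem f31708 : Led Lsl_ct (LP (LK LD1_c2 LD2_c7 LD3_c28)) = (LP (LK LD1_c1 LD2_c0 LD3_c47)) :=
  Lre_c IH (LK LD1_c2 LD2_c7 LD3_c28) (LK LD1_c1 LD2_c0 LD3_c47) Lrfl Lrfl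
theorem f31709 : Led Lsl_dt (LP (LK LD1_c4 LD2_c19 LD3_c61)) = (LP (LK LD1_c2 LD2_c7 LD3_c28)) :=
  Lre_d IH (LK LD1_c4 LD2_c19 LD3_c61) (LK LD1_c2 LD2_c7 LD3_c28) Lrfl Lrfl
theorem f28638 : Led Lsl_dt (LP (LK LD1_c0 LD2_c27 LD3_c50)) = (LP (LK LD1_c1 LD2_c1 LD3_c0)) :=
  Lre_d IH (LK LD1_c0 LD2_c27 LD3_c50) (LK LD1_c1 LD2_c1 LD3_c0) Lrfl Lrfl
theorem f28632 : Led Lsl_ct (LP (LK LD1_c1 LD2_c1 LD3_c0)) = (LP (LK LD1_c2 LD2_c7 LD3_c50)) :=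
  Lre_c IH (LK LD1_c1 LD2_c1 LD3_c0) (LK LD1_c2 LD2_c7 LD3_c50) Lrfl Lrfl
theorem f31710 : Led Lsl_dt (LP (LK LD1_c2 LD2_c7 LD3_c50)) = (LP (LK LD1_c4 LD2_c20 LD3_c45)) :=
  Lre_d IH (LK LD1_c2 LD2_c7 LD3_c50) (LK LD1_c4 LD2_c20 LD3_c45) Lrfl Lrfl
theorem f31711 : Led Lsl_cf (LP (LK LD1_c4 LD2_c19 LD3_c61)) = (LP (LK LD1_c4 LD2_c20 LD3_c45)) :=
  Lgr Lrot116 (Lpr_dt (f31709 IH) (Lpr_ct (f31708 IH) (Lpr_dt (f31707 IH) (Lpr_ct (f31706 IH) (Lpr_af (f31685 IH) (Lpe (f28649 IH) (Lpr_dt (f28638 IH) (Lpr_ct (f28632 IH) (Lpr_dt (f31710 IH) (Lpn (LP (LK LD1_c4 LD2_c20 LD3_c45))))))))))))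
theorem f28464 : Led Lsl_dt (LP (LK LD1_c0 LD2_c12 LD3_c16)) = (LP (LK LD1_c0 LD2_c27 LD3_c44)) :=
  Lre_d IH (LK LD1_c0 LD2_c12 LD3_c16) (LK LD1_c0 LD2_c27 LD3_c44) Lrfl Lrfl
theorem f31721 : Led Lsl_ct (LP (LK LD1_c0 LD2_c27 LD3_c44)) = (LP (LK LD1_c1 LD2_c0 LD3_c52)) :=
  Lre_c IH (LK LD1_c0 LD2_c27 LD3_c44) (LK LD1_c1 LD2_c0 LD3_c52) Lrfl Lrfl
theorem f31738 : Led Lsl_ft (LP (LK LD1_c2 LD2_c7 LD3_c50)) = (LP (LK LD1_c1 LD2_c0 LD3_c61)) :=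
  Lre_f IH (LK LD1_c2 LD2_c7 LD3_c50) (LK LD1_c1 LD2_c0 LD3_c61) Lrfl Lrfl
theorem f31739 : Led Lsl_af (LP (LK LD1_c1 LD2_c0 LD3_c52)) = (LP (LK LD1_c1 LD2_c0 LD3_c61)) :=
  Lgr Lrot109 (Lpe (f31721 IH) (Lpe (f28464 IH) (Lpe (f31706 IH) (Lpe (f31707 IH) (Lpe (f31708 IH) (Lpe (f31709 IH) (Lpr_cf (f31711 IH) (Lpe (f31710 IH) (Lpr_ft (f31738 IH) (Lpn (LP (LK LD1_c1 LD2_c0 LD3_c61))))))))))))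
theorem f31758 : Led Lsl_ft (LP (LK LD1_c1 LD2_c0 LD3_c52)) = (LP (LK LD1_c2 LD2_c7 LD3_c36)) :=
  Lre_f IH (LK LD1_c1 LD2_c0 LD3_c52) (LK LD1_c2 LD2_c7 LD3_c36) Lrfl Lrfl
theorem f31759 : Led Lsl_at (LP (LK LD1_c2 LD2_c7 LD3_c36)) = (LP (LK LD1_c2 LD2_c7 LD3_c50)) :=
  Lgr Lrot66 (Lpe (f31758 IH) (Lpr_af (f31739 IH) (Lpe (f31738 IH) (Lpn (LP (LK LD1_c2 LD2_c7 LD3_c50))))))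
theorem f31768 : Led Lsl_dt (LP (LK LD1_c4 LD2_c20 LD3_c18)) = (LP (LK LD1_c2 LD2_c7 LD3_c36)) :=
  Lre_d IH (LK LD1_c4 LD2_c20 LD3_c18) (LK LD1_c2 LD2_c7 LD3_c36) Lrfl Lrfl
theorem f31769 : Led Lsl_af (LP (LK LD1_c4 LD2_c20 LD3_c18)) = (LP (LK LD1_c4 LD2_c20 LD3_c45)) :=
  Lgr Lrot117 (Lpr_dt (f31768 IH) (Lpr_at (f31759 IH) (Lpr_dt (f31710 IH) (Lpn (LP (LK LD1_c4 LD2_c20 LD3_c45))))))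
theorem f31731 : Led Lsl_ft (LP (LK LD1_c2 LD2_c7 LD3_c49)) = (LP (LK LD1_c4 LD2_c20 LD3_c45)) :=
  Lre_f IH (LK LD1_c2 LD2_c7 LD3_c49) (LK LD1_c4 LD2_c20 LD3_c45) Lrfl Lrfl
theorem f28653 : Led Lsl_dt (LP (LK LD1_c2 LD2_c7 LD3_c49)) = (LP (LK LD1_c1 LD2_c0 LD3_c61)) :=
  Lre_d IH (LK LD1_c2 LD2_c7 LD3_c49) (LK LD1_c1 LD2_c0 LD3_c61) Lrfl Lrfl
theorem f28651 : Led Lsl_ct (LP (LK LD1_c1 LD2_c0 LD3_c61)) = (LP (LK LD1_c0 LD2_c27 LD3_c49)) :=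
  Lre_c IH (LK LD1_c1 LD2_c0 LD3_c61) (LK LD1_c0 LD2_c27 LD3_c49) Lrfl Lrfl
theorem f27888 : Led Lsl_dt (LP (LK LD1_c0 LD2_c27 LD3_c49)) = (LP (LK LD1_c0 LD2_c12 LD3_c18)) :=
  Lre_d IH (LK LD1_c0 LD2_c27 LD3_c49) (LK LD1_c0 LD2_c12 LD3_c18) Lrfl Lrfl
theorem f27882 : Led Lsl_dt (LP (LK LD1_c0 LD2_c27 LD3_c47)) = (LP (LK LD1_c1 LD2_c0 LD3_c56)) :=
  Lre_d IH (LK LD1_c0 LD2_c27 LD3_c47) (LK LD1_c1 LD2_c0 LD3_c56) Lrfl Lrfl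
theorem f27891 : Led Lsl_ct (LP (LK LD1_c1 LD2_c0 LD3_c56)) = (LP (LK LD1_c2 LD2_c7 LD3_c41)) :=
  Lre_c IH (LK LD1_c1 LD2_c0 LD3_c56) (LK LD1_c2 LD2_c7 LD3_c41) Lrfl Lrfl
theorem f27893 : Led Lsl_dt (LP (LK LD1_c2 LD2_c7 LD3_c41)) = (LP (LK LD1_c4 LD2_c20 LD3_c27)) :=
  Lre_d IH (LK LD1_c2 LD2_c7 LD3_c41) (LK LD1_c4 LD2_c20 LD3_c27) Lrfl Lrfl
theorem f31793 : Led Lsl_cf (LP (LK LD1_c4 LD2_c20 LD3_c18)) = (LP (LK LD1_c4 LD2_c20 LD3_c27)) :=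
  Lgr Lrot102 (Lpr_af (f31769 IH) (Lpe (f31731 IH) (Lpr_dt (f28653 IH) (Lpr_ct (f28651 IH) (Lpr_dt (f27888 IH) (Lpr_ct (f27889 IH) (Lpr_dt (f27882 IH) (Lpr_ct (f27891 IH) (Lpr_dt (f27893 IH) (Lpn (LP (LK LD1_c4 LD2_c20 LD3_c27))))))))))))
theorem f31801 : Led Lsl_ct (LP (LK LD1_c2 LD2_c7 LD3_c36)) = (LP (LK LD1_c1 LD2_c0 LD3_c53)) :=
  Lre_c IH (LK LD1_c2 LD2_c7 LD3_c36) (LK LD1_c1 LD2_c0 LD3_c53) Lrfl Lrfl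
theorem f28485 : Led Lsl_dt (LP (LK LD1_c1 LD2_c0 LD3_c53)) = (LP (LK LD1_c0 LD2_c27 LD3_c45)) :=
  Lre_d IH (LK LD1_c1 LD2_c0 LD3_c53) (LK LD1_c0 LD2_c27 LD3_c45) Lrfl Lrfl
theorem f28480 : Led Lsl_ct (LP (LK LD1_c0 LD2_c27 LD3_c45)) = (LP (LK LD1_c1 LD2_c0 LD3_c48)) :=
  Lre_c IH (LK LD1_c0 LD2_c27 LD3_c45) (LK LD1_c1 LD2_c0 LD3_c48) Lrfl Lrfl
theorem f28488 : Led Lsl_dt (LP (LK LD1_c1 LD2_c0 LD3_c48)) = (LP (LK LD1_c2 LD2_c7 LD3_c29)) :=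
  Lre_d IH (LK LD1_c1 LD2_c0 LD3_c48) (LK LD1_c2 LD2_c7 LD3_c29) Lrfl Lrfl
theorem f31802 : Led Lsl_ct (LP (LK LD1_c2 LD2_c7 LD3_c29)) = (LP (LK LD1_c4 LD2_c20 LD3_c0)) :=
  Lre_c IH (LK LD1_c2 LD2_c7 LD3_c29) (LK LD1_c4 LD2_c20 LD3_c0) Lrfl Lrfl
theorem f31812 : Led Lsl_ft (LP (LK LD1_c2 LD2_c7 LD3_c41)) = (LP (LK LD1_c4 LD2_c20 LD3_c28)) :=
  Lre_f IH (LK LD1_c2 LD2_c7 LD3_c41) (LK LD1_c4 LD2_c20 LD3_c28) Lrfl Lrfl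
theorem f31813 : Led Lsl_af (LP (LK LD1_c4 LD2_c20 LD3_c0)) = (LP (LK LD1_c4 LD2_c20 LD3_c28)) :=
  Lgr Lrot109 (Lpe (f31802 IH) (Lpe (f28488 IH) (Lpe (f28480 IH) (Lpe (f28485 IH) (Lpe (f31801 IH) (Lpe (f31768 IH) (Lpr_cf (f31793 IH) (Lpe (f27893 IH) (Lpr_ft (f31812 IH) (Lpn (LP (LK LD1_c4 LD2_c20 LD3_c28))))))))))))
theorem f31838 : Led Lsl_ft (LP (LK LD1_c4 LD2_c20 LD3_c0)) = (LP (LK LD1_c2 LD2_c7 LD3_c28)) :=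
  Lre_f IH (LK LD1_c4 LD2_c20 LD3_c0) (LK LD1_c2 LD2_c7 LD3_c28) Lrfl Lrfl
theorem f31839 : Led Lsl_at (LP (LK LD1_c2 LD2_c7 LD3_c28)) = (LP (LK LD1_c2 LD2_c7 LD3_c41)) :=
  Lgr Lrot66 (Lpe (f31838 IH) (Lpr_af (f31813 IH) (Lpe (f31812 IH) (Lpn (LP (LK LD1_c2 LD2_c7 LD3_c41))))))
theorem f31861 : Led Lsl_af (LP (LK LD1_c4 LD2_c19 LD3_c61)) = (LP (LK LD1_c4 LD2_c20 LD3_c27)) :=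
  Lgr Lrot117 (Lpr_dt (f31709 IH) (Lpr_at (f31839 IH) (Lpr_dt (f27893 IH) (Lpn (LP (LK LD1_c4 LD2_c20 LD3_c27))))))
theorem f31727 : Led Lsl_et (LP (LK LD1_c4 LD2_c19 LD3_c61)) = (LP (LK LD1_c8 LD2_c37 LD3_c61)) :=
  Lre_e IH (LK LD1_c4 LD2_c19 LD3_c61) (LK LD1_c8 LD2_c37 LD3_c61) Lrfl Lrfl
theorem f31805 : Led Lsl_et (LP (LK LD1_c8 LD2_c38 LD3_c46)) = (LP (LK LD1_c4 LD2_c20 LD3_c27)) :=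
  Lre_e IH (LK LD1_c8 LD2_c38 LD3_c46) (LK LD1_c4 LD2_c20 LD3_c27) Lrfl Lrfl
theorem f31867 : Led Lsl_at (LP (LK LD1_c8 LD2_c37 LD3_c61)) = (LP (LK LD1_c8 LD2_c38 LD3_c46)) :=
  Lgr Lrot80 (Lpe (f31727 IH) (Lpr_af (f31861 IH) (Lpe (f31805 IH) (Lpn (LP (LK LD1_c8 LD2_c38 LD3_c46))))))
theorem f31869 : Led Lsl_af (LP (LK LD1_c8 LD2_c37 LD3_c61)) = (LP (LK LD1_c8 LD2_c38 LD3_c46)) :=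
  Lgr Lrot0 (Lpr_at (f31867 IH) (Lpn (LP (LK LD1_c8 LD2_c38 LD3_c46))))
theorem f31728 : Led Lsl_et (LP (LK LD1_c8 LD2_c39 LD3_c10)) = (LP (LK LD1_c4 LD2_c20 LD3_c45)) :=
  Lre_e IH (LK LD1_c8 LD2_c39 LD3_c10) (LK LD1_c4 LD2_c20 LD3_c45) Lrfl Lrfl
theorem f31729 : Led Lsl_ct (LP (LK LD1_c8 LD2_c37 LD3_c61)) = (LP (LK LD1_c8 LD2_c39 LD3_c10)) :=
  Lgr Lrot15 (Lpe (f31727 IH) (Lpr_cf (f31711 IH) (Lpe (f31728 IH) (Lpn (LP (LK LD1_c8 LD2_c39 LD3_c10))))))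
theorem f31786 : Led Lsl_et (LP (LK LD1_c4 LD2_c20 LD3_c18)) = (LP (LK LD1_c8 LD2_c38 LD3_c30)) :=
  Lre_e IH (LK LD1_c4 LD2_c20 LD3_c18) (LK LD1_c8 LD2_c38 LD3_c30) Lrfl Lrfl
theorem f31806 : Led Lsl_ct (LP (LK LD1_c8 LD2_c38 LD3_c30)) = (LP (LK LD1_c8 LD2_c38 LD3_c46)) :=
  Lgr Lrot15 (Lpe (f31786 IH) (Lpr_cf (f31793 IH) (Lpe (f31805 IH) (Lpn (LP (LK LD1_c8 LD2_c38 LD3_c46))))))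
theorem f31900 : Led Lsl_at (LP (LK LD1_c8 LD2_c39 LD3_c10)) = (LP (LK LD1_c8 LD2_c38 LD3_c30)) :=
  Lgr Lrot107 (Lpe (f31729 IH) (Lpr_af (f31869 IH) (Lpe (f31806 IH) (Lpn (LP (LK LD1_c8 LD2_c38 LD3_c30))))))
theorem f31916 : Led Lsl_ft (LP (LK LD1_c16 LD2_c12 LD3_c23)) = (LP (LK LD1_c8 LD2_c39 LD3_c10)) :=
  Lre_f IH (LK LD1_c16 LD2_c12 LD3_c23) (LK LD1_c8 LD2_c39 LD3_c10) Lrfl Lrfl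
theorem f31917 : Led Lsl_ft (LP (LK LD1_c8 LD2_c38 LD3_c30)) = (LP (LK LD1_c16 LD2_c11 LD3_c2)) :=
  Lre_f IH (LK LD1_c8 LD2_c38 LD3_c30) (LK LD1_c16 LD2_c11 LD3_c2) Lrfl Lrfl
theorem f31918 : Led Lsl_af (LP (LK LD1_c16 LD2_c12 LD3_c23)) = (LP (LK LD1_c16 LD2_c11 LD3_c2)) :=
  Lgr Lrot45 (Lpr_ft (f31916 IH) (Lpr_at (f31900 IH) (Lpr_ft (f31917 IH) (Lpn (LP (LK LD1_c16 LD2_c11 LD3_c2))))))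
theorem f31930 : Led Lsl_et (LP (LK LD1_c16 LD2_c12 LD3_c23)) = (LP (LK LD1_c8 LD2_c39 LD3_c9)) :=
  Lre_e IH (LK LD1_c16 LD2_c12 LD3_c23) (LK LD1_c8 LD2_c39 LD3_c9) Lrfl Lrfl
theorem f31931 : Led Lsl_et (LP (LK LD1_c8 LD2_c38 LD3_c29)) = (LP (LK LD1_c16 LD2_c11 LD3_c2)) :=
  Lre_e IH (LK LD1_c8 LD2_c38 LD3_c29) (LK LD1_c16 LD2_c11 LD3_c2) Lrfl Lrfl
theorem f31932 : Led Lsl_at (LP (LK LD1_c8 LD2_c39 LD3_c9)) = (LP (LK LD1_c8 LD2_c38 LD3_c29)) :=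
  Lgr Lrot80 (Lpe (f31930 IH) (Lpr_af (f31918 IH) (Lpe (f31931 IH) (Lpn (LP (LK LD1_c8 LD2_c38 LD3_c29))))))
theorem f31944 : Led Lsl_ft (LP (LK LD1_c4 LD2_c20 LD3_c44)) = (LP (LK LD1_c8 LD2_c39 LD3_c9)) :=
  Lre_f IH (LK LD1_c4 LD2_c20 LD3_c44) (LK LD1_c8 LD2_c39 LD3_c9) Lrfl Lrfl
theorem f31945 : Led Lsl_ft (LP (LK LD1_c8 LD2_c38 LD3_c29)) = (LP (LK LD1_c4 LD2_c20 LD3_c17)) :=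
  Lre_f IH (LK LD1_c8 LD2_c38 LD3_c29) (LK LD1_c4 LD2_c20 LD3_c17) Lrfl Lrfl
theorem f31946 : Led Lsl_af (LP (LK LD1_c4 LD2_c20 LD3_c44)) = (LP (LK LD1_c4 LD2_c20 LD3_c17)) :=
  Lgr Lrot45 (Lpr_ft (f31944 IH) (Lpr_at (f31932 IH) (Lpr_ft (f31945 IH) (Lpn (LP (LK LD1_c4 LD2_c20 LD3_c17))))))
theorem f31969 : Led Lsl_et (LP (LK LD1_c4 LD2_c20 LD3_c44)) = (LP (LK LD1_c2 LD2_c7 LD3_c49)) :=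
  Lre_e IH (LK LD1_c4 LD2_c20 LD3_c44) (LK LD1_c2 LD2_c7 LD3_c49) Lrfl Lrfl
theorem f31970 : Led Lsl_et (LP (LK LD1_c2 LD2_c7 LD3_c35)) = (LP (LK LD1_c4 LD2_c20 LD3_c17)) :=
  Lre_e IH (LK LD1_c2 LD2_c7 LD3_c35) (LK LD1_c4 LD2_c20 LD3_c17) Lrfl Lrfl
theorem f31971 : Led Lsl_at (LP (LK LD1_c2 LD2_c7 LD3_c49)) = (LP (LK LD1_c2 LD2_c7 LD3_c35)) :=
  Lgr Lrot80 (Lpe (f31969 IH) (Lpr_af (f31946 IH) (Lpe (f31970 IH) (Lpn (LP (LK LD1_c2 LD2_c7 LD3_c35))))))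
theorem f31989 : Led Lsl_ft (LP (LK LD1_c4 LD2_c20 LD3_c45)) = (LP (LK LD1_c2 LD2_c7 LD3_c49)) :=
  Lre_f IH (LK LD1_c4 LD2_c20 LD3_c45) (LK LD1_c2 LD2_c7 LD3_c49) Lrfl Lrfl
theorem f28644 : Led Lsl_dt (LP (LK LD1_c4 LD2_c20 LD3_c45)) = (LP (LK LD1_c2 LD2_c7 LD3_c50)) :=
  Lre_d IH (LK LD1_c4 LD2_c20 LD3_c45) (LK LD1_c2 LD2_c7 LD3_c50) Lrfl Lrfl
theorem f28636 : Led Lsl_ct (LP (LK LD1_c2 LD2_c7 LD3_c50)) = (LP (LK LD1_c1 LD2_c1 LD3_c0)) :=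
  Lre_c IH (LK LD1_c2 LD2_c7 LD3_c50) (LK LD1_c1 LD2_c1 LD3_c0) Lrfl Lrfl
theorem f28624 : Led Lsl_dt (LP (LK LD1_c1 LD2_c1 LD3_c0)) = (LP (LK LD1_c0 LD2_c27 LD3_c50)) :=
  Lre_d IH (LK LD1_c1 LD2_c1 LD3_c0) (LK LD1_c0 LD2_c27 LD3_c50) Lrfl Lrfl
theorem f31075 : Led Lsl_dt (LP (LK LD1_c1 LD2_c0 LD3_c57)) = (LP (LK LD1_c2 LD2_c7 LD3_c42)) :=
  Lre_d IH (LK LD1_c1 LD2_c0 LD3_c57) (LK LD1_c2 LD2_c7 LD3_c42) Lrfl Lrfl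
theorem f31829 : Led Lsl_ct (LP (LK LD1_c2 LD2_c7 LD3_c42)) = (LP (LK LD1_c4 LD2_c20 LD3_c28)) :=
  Lre_c IH (LK LD1_c2 LD2_c7 LD3_c42) (LK LD1_c4 LD2_c20 LD3_c28) Lrfl Lrfl
theorem f31991 : Led Lsl_ct (LP (LK LD1_c4 LD2_c20 LD3_c16)) = (LP (LK LD1_c2 LD2_c7 LD3_c35)) :=
  Lre_c IH (LK LD1_c4 LD2_c20 LD3_c16) (LK LD1_c2 LD2_c7 LD3_c35) Lrfl Lrfl
theorem f31992 : Led Lsl_dt (LP (LK LD1_c4 LD2_c20 LD3_c28)) = (LP (LK LD1_c4 LD2_c20 LD3_c16)) :=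
  Lgr Lrot120 (Lpe (f31829 IH) (Lpe (f31075 IH) (Lpe (f28629 IH) (Lpe (f28624 IH) (Lpe (f28636 IH) (Lpe (f28644 IH) (Lpr_ft (f31989 IH) (Lpr_at (f31971 IH) (Lpe (f31991 IH) (Lpn (LP (LK LD1_c4 LD2_c20 LD3_c16))))))))))))
theorem f28634 : Led Lsl_ft (LP (LK LD1_c1 LD2_c1 LD3_c0)) = (LP (LK LD1_c0 LD2_c27 LD3_c49)) :=
  Lre_f IH (LK LD1_c1 LD2_c1 LD3_c0) (LK LD1_c0 LD2_c27 LD3_c49) Lrfl Lrfl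
theorem f31988 : Led Lsl_dt (LP (LK LD1_c2 LD2_c7 LD3_c35)) = (LP (LK LD1_c1 LD2_c0 LD3_c52)) :=
  Lre_d IH (LK LD1_c2 LD2_c7 LD3_c35) (LK LD1_c1 LD2_c0 LD3_c52) Lrfl Lrfl
theorem f31755 : Led Lsl_ct (LP (LK LD1_c1 LD2_c0 LD3_c52)) = (LP (LK LD1_c0 LD2_c27 LD3_c44)) :=
  Lre_c IH (LK LD1_c1 LD2_c0 LD3_c52) (LK LD1_c0 LD2_c27 LD3_c44) Lrfl Lrfl
theorem f32004 : Led Lsl_at (LP (LK LD1_c0 LD2_c27 LD3_c49)) = (LP (LK LD1_c0 LD2_c27 LD3_c44)) :=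
  Lgr Lrot33 (Lpe (f28634 IH) (Lpr_dt (f28624 IH) (Lpr_ct (f28629 IH) (Lpr_dt (f31075 IH) (Lpr_ct (f31829 IH) (Lpr_dt (f31992 IH) (Lpr_ct (f31991 IH) (Lpr_dt (f31988 IH) (Lpr_ct (f31755 IH) (Lpn (LP (LK LD1_c0 LD2_c27 LD3_c44))))))))))))
theorem f32010 : Led Lsl_ft (LP (LK LD1_c0 LD2_c27 LD3_c44)) = (LP (LK LD1_c1 LD2_c0 LD3_c53)) :=
  Lre_f IH (LK LD1_c0 LD2_c27 LD3_c44) (LK LD1_c1 LD2_c0 LD3_c53) Lrfl Lrfl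
theorem f32011 : Led Lsl_af (LP (LK LD1_c1 LD2_c1 LD3_c0)) = (LP (LK LD1_c1 LD2_c0 LD3_c53)) :=
  Lgr Lrot45 (Lpr_ft (f28634 IH) (Lpr_at (f32004 IH) (Lpr_ft (f32010 IH) (Lpn (LP (LK LD1_c1 LD2_c0 LD3_c53))))))
theorem f28484 : Led Lsl_dt (LP (LK LD1_c0 LD2_c27 LD3_c45)) = (LP (LK LD1_c1 LD2_c0 LD3_c53)) :=
  Lre_d IH (LK LD1_c0 LD2_c27 LD3_c45) (LK LD1_c1 LD2_c0 LD3_c53) Lrfl Lrfl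
theorem f32015 : Led Lsl_at (LP (LK LD1_c0 LD2_c27 LD3_c50)) = (LP (LK LD1_c0 LD2_c27 LD3_c45)) :=
  Lgr Lrot51 (Lpe (f28624 IH) (Lpr_af (f32011 IH) (Lpe (f28484 IH) (Lpn (LP (LK LD1_c0 LD2_c27 LD3_c45))))))
theorem f31534 : Led Lsl_ft (LP (LK LD1_c0 LD2_c14 LD3_c18)) = (LP (LK LD1_c0 LD2_c32 LD3_c3)) :=
  Lre_f IH (LK LD1_c0 LD2_c14 LD3_c18) (LK LD1_c0 LD2_c32 LD3_c3) Lrfl Lrfl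
theorem f31126 : Led Lsl_ft (LP (LK LD1_c1 LD2_c1 LD3_c3)) = (LP (LK LD1_c0 LD2_c27 LD3_c52)) :=
  Lre_f IH (LK LD1_c1 LD2_c1 LD3_c3) (LK LD1_c0 LD2_c27 LD3_c52) Lrfl Lrfl
theorem f31535 : Led Lsl_ct (LP (LK LD1_c0 LD2_c32 LD3_c3)) = (LP (LK LD1_c1 LD2_c1 LD3_c3)) :=
  Lgr Lrot40 (Lpe (f31534 IH) (Lpr_cf (f31428 IH) (Lpe (f31126 IH) (Lpn (LP (LK LD1_c1 LD2_c1 LD3_c3))))))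
theorem f31124 : Led Lsl_ft (LP (LK LD1_c0 LD2_c27 LD3_c52)) = (LP (LK LD1_c1 LD2_c1 LD3_c3)) :=
  Lre_f IH (LK LD1_c0 LD2_c27 LD3_c52) (LK LD1_c1 LD2_c1 LD3_c3) Lrfl Lrfl
theorem f31125 : Led Lsl_et (LP (LK LD1_c0 LD2_c27 LD3_c52)) = (LP (LK LD1_c0 LD2_c12 LD3_c19)) :=
  Lre_e IH (LK LD1_c0 LD2_c27 LD3_c52) (LK LD1_c0 LD2_c12 LD3_c19) Lrfl Lrfl
theorem f31127 : Led Lsl_et (LP (LK LD1_c1 LD2_c1 LD3_c3)) = (LP (LK LD1_c1 LD2_c1 LD3_c3)) :=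
  Lgr Lrot69 (Lpe (f31124 IH) (Lpe (f31115 IH) (Lpr_ff (f31118 IH) (Lpe (f31125 IH) (Lpe (f31126 IH) (Lpn (LP (LK LD1_c1 LD2_c1 LD3_c3))))))))
theorem f31542 : Led Lsl_cf (LP (LK LD1_c0 LD2_c32 LD3_c3)) = (LP (LK LD1_c1 LD2_c1 LD3_c3)) :=
  Lgr Lrot11 (Lpr_ct (f31535 IH) (Lpn (LP (LK LD1_c1 LD2_c1 LD3_c3))))
theorem f31545 : Led Lsl_ef (LP (LK LD1_c0 LD2_c32 LD3_c3)) = (LP (LK LD1_c0 LD2_c32 LD3_c3)) :=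
  Lgr Lrot28 (Lpr_ct (f31535 IH) (Lpr_et (f31127 IH) (Lpe (f31542 IH) (Lpn (LP (LK LD1_c0 LD2_c32 LD3_c3))))))
theorem f31185 : Led Lsl_ft (LP (LK LD1_c2 LD2_c7 LD3_c55)) = (LP (LK LD1_c1 LD2_c1 LD3_c2)) :=
  Lre_f IH (LK LD1_c2 LD2_c7 LD3_c55) (LK LD1_c1 LD2_c1 LD3_c2) Lrfl Lrfl
theorem f31186 : Led Lsl_ft (LP (LK LD1_c1 LD2_c1 LD3_c6)) = (LP (LK LD1_c2 LD2_c7 LD3_c61)) :=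
  Lre_f IH (LK LD1_c1 LD2_c1 LD3_c6) (LK LD1_c2 LD2_c7 LD3_c61) Lrfl Lrfl
theorem f31187 : Led Lsl_af (LP (LK LD1_c2 LD2_c7 LD3_c55)) = (LP (LK LD1_c2 LD2_c7 LD3_c61)) :=
  Lgr Lrot45 (Lpr_ft (f31185 IH) (Lpr_at (f31174 IH) (Lpr_ft (f31186 IH) (Lpn (LP (LK LD1_c2 LD2_c7 LD3_c61))))))
theorem f31137 : Led Lsl_dt (LP (LK LD1_c2 LD2_c7 LD3_c55)) = (LP (LK LD1_c1 LD2_c1 LD3_c3)) :=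
  Lre_d IH (LK LD1_c2 LD2_c7 LD3_c55) (LK LD1_c1 LD2_c1 LD3_c3) Lrfl Lrfl
theorem f28713 : Led Lsl_dt (LP (LK LD1_c1 LD2_c1 LD3_c7)) = (LP (LK LD1_c2 LD2_c7 LD3_c61)) :=
  Lre_d IH (LK LD1_c1 LD2_c1 LD3_c7) (LK LD1_c2 LD2_c7 LD3_c61) Lrfl Lrfl
theorem f31207 : Led Lsl_at (LP (LK LD1_c1 LD2_c1 LD3_c3)) = (LP (LK LD1_c1 LD2_c1 LD3_c7)) :=
  Lgr Lrot51 (Lpe (f31137 IH) (Lpr_af (f31187 IH) (Lpe (f28713 IH) (Lpn (LP (LK LD1_c1 LD2_c1 LD3_c7))))))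
theorem f31539 : Led Lsl_af (LP (LK LD1_c0 LD2_c32 LD3_c3)) = (LP (LK LD1_c0 LD2_c55 LD3_c6)) :=
  Lgr Lrot68 (Lpr_ct (f31535 IH) (Lpr_at (f31207 IH) (Lpe (f28691 IH) (Lpn (LP (LK LD1_c0 LD2_c55 LD3_c6))))))
theorem f31069 : Led Lsl_ef (LP (LK LD1_c0 LD2_c55 LD3_c6)) = (LP (LK LD1_c0 LD2_c55 LD3_c6)) :=
  Lgr Lrot29 (Lpe (f28620 IH) (Lpr_et (f31067 IH) (Lpr_bt (f28616 IH) (Lpn (LP (LK LD1_c0 LD2_c55 LD3_c6))))))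
theorem f31549 : Led Lsl_at (LP (LK LD1_c0 LD2_c32 LD3_c3)) = (LP (LK LD1_c0 LD2_c55 LD3_c6)) :=
  Lgr Lrot80 (Lpr_ef (f31545 IH) (Lpr_af (f31539 IH) (Lpr_ef (f31069 IH) (Lpn (LP (LK LD1_c0 LD2_c55 LD3_c6))))))
theorem f31541 : Led Lsl_bt (LP (LK LD1_c0 LD2_c14 LD3_c22)) = (LP (LK LD1_c0 LD2_c32 LD3_c3)) :=
  Lre_b IH (LK LD1_c0 LD2_c14 LD3_c22) (LK LD1_c0 LD2_c32 LD3_c3) Lrfl Lrfl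
theorem f31612 : Led Lsl_ft (LP (LK LD1_c0 LD2_c6 LD3_c38)) = (LP (LK LD1_c0 LD2_c14 LD3_c26)) :=
  Lre_f IH (LK LD1_c0 LD2_c6 LD3_c38) (LK LD1_c0 LD2_c14 LD3_c26) Lrfl Lrfl
theorem f31559 : Led Lsl_ft (LP (LK LD1_c0 LD2_c14 LD3_c22)) = (LP (LK LD1_c0 LD2_c6 LD3_c37)) :=
  Lre_f IH (LK LD1_c0 LD2_c14 LD3_c22) (LK LD1_c0 LD2_c6 LD3_c37) Lrfl Lrfl
theorem f31613 : Led Lsl_at (LP (LK LD1_c0 LD2_c14 LD3_c26)) = (LP (LK LD1_c0 LD2_c14 LD3_c22)) :=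
  Lgr Lrot66 (Lpe (f31612 IH) (Lpr_af (f31606 IH) (Lpe (f31559 IH) (Lpn (LP (LK LD1_c0 LD2_c14 LD3_c22))))))
theorem f32022 : Led Lsl_bf (LP (LK LD1_c0 LD2_c14 LD3_c26)) = (LP (LK LD1_c0 LD2_c27 LD3_c45)) :=
  Lgr Lrot81 (Lpr_at (f31613 IH) (Lpr_bt (f31541 IH) (Lpr_at (f31549 IH) (Lpe (f28620 IH) (Lpr_at (f32015 IH) (Lpn (LP (LK LD1_c0 LD2_c27 LD3_c45))))))))
theorem f31664 : Led Lsl_ft (LP (LK LD1_c0 LD2_c14 LD3_c26)) = (LP (LK LD1_c0 LD2_c6 LD3_c38)) :=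
  Lre_f IH (LK LD1_c0 LD2_c14 LD3_c26) (LK LD1_c0 LD2_c6 LD3_c38) Lrfl Lrfl
theorem f28477 : Led Lsl_ft (LP (LK LD1_c0 LD2_c12 LD3_c16)) = (LP (LK LD1_c0 LD2_c27 LD3_c45)) :=
  Lre_f IH (LK LD1_c0 LD2_c12 LD3_c16) (LK LD1_c0 LD2_c27 LD3_c45) Lrfl Lrfl
theorem f32059 : Led Lsl_bt (LP (LK LD1_c0 LD2_c6 LD3_c38)) = (LP (LK LD1_c0 LD2_c12 LD3_c16)) :=
  Lgr Lrot35 (Lpe (f31664 IH) (Lpr_bf (f32022 IH) (Lpe (f28477 IH) (Lpn (LP (LK LD1_c0 LD2_c12 LD3_c16))))))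
theorem f28413 : Led Lsl_et (LP (LK LD1_c0 LD2_c3 LD3_c12)) = (LP (LK LD1_c0 LD2_c7 LD3_c3)) :=
  Lre_e IH (LK LD1_c0 LD2_c3 LD3_c12) (LK LD1_c0 LD2_c7 LD3_c3) Lrfl Lrfl
theorem f28414 : Led Lsl_ct (LP (LK LD1_c0 LD2_c7 LD3_c3)) = (LP (LK LD1_c0 LD2_c6 LD3_c38)) :=
  Lgr Lrot15 (Lpe (f28413 IH) (Lpr_cf (f28405 IH) (Lpe (f7019 IH) (Lpn (LP (LK LD1_c0 LD2_c6 LD3_c38))))))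
theorem f32061 : Led Lsl_bt (LP (LK LD1_c0 LD2_c15 LD3_c34)) = (LP (LK LD1_c0 LD2_c7 LD3_c3)) :=
  Lre_b IH (LK LD1_c0 LD2_c15 LD3_c34) (LK LD1_c0 LD2_c7 LD3_c3) Lrfl Lrfl
theorem f32062 : Led Lsl_ct (LP (LK LD1_c0 LD2_c34 LD3_c41)) = (LP (LK LD1_c0 LD2_c15 LD3_c34)) :=
  Lre_c IH (LK LD1_c0 LD2_c34 LD3_c41) (LK LD1_c0 LD2_c15 LD3_c34) Lrfl Lrfl
theorem f31699 : Led Lsl_ct (LP (LK LD1_c0 LD2_c12 LD3_c16)) = (LP (LK LD1_c0 LD2_c27 LD3_c42)) :=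
  Lre_c IH (LK LD1_c0 LD2_c12 LD3_c16) (LK LD1_c0 LD2_c27 LD3_c42) Lrfl Lrfl
theorem f32063 : Led Lsl_bf (LP (LK LD1_c0 LD2_c34 LD3_c41)) = (LP (LK LD1_c0 LD2_c27 LD3_c42)) :=
  Lgr Lrot90 (Lpr_ct (f32062 IH) (Lpr_bt (f32061 IH) (Lpr_ct (f28414 IH) (Lpr_bt (f32059 IH) (Lpr_ct (f31699 IH) (Lpn (LP (LK LD1_c0 LD2_c27 LD3_c42))))))))
theorem f32080 : Led Lsl_et (LP (LK LD1_c0 LD2_c34 LD3_c41)) = (LP (LK LD1_c0 LD2_c15 LD3_c33)) :=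
  Lre_e IH (LK LD1_c0 LD2_c34 LD3_c41) (LK LD1_c0 LD2_c15 LD3_c33) Lrfl Lrfl
theorem f28493 : Led Lsl_et (LP (LK LD1_c0 LD2_c12 LD3_c15)) = (LP (LK LD1_c0 LD2_c27 LD3_c42)) :=
  Lre_e IH (LK LD1_c0 LD2_c12 LD3_c15) (LK LD1_c0 LD2_c27 LD3_c42) Lrfl Lrfl
theorem f32081 : Led Lsl_bt (LP (LK LD1_c0 LD2_c15 LD3_c33)) = (LP (LK LD1_c0 LD2_c12 LD3_c15)) :=
  Lgr Lrot119 (Lpe (f32080 IH) (Lpr_bf (f32063 IH) (Lpe (f28493 IH) (Lpn (LP (LK LD1_c0 LD2_c12 LD3_c15))))))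
theorem f8282 : Led Lsl_ct (LP (LK LD1_c0 LD2_c15 LD3_c33)) = (LP (LK LD1_c0 LD2_c7 LD3_c2)) :=
  Lre_c IH (LK LD1_c0 LD2_c15 LD3_c33) (LK LD1_c0 LD2_c7 LD3_c2) Lrfl Lrfl
theorem f735 : Led Lsl_bt (LP (LK LD1_c0 LD2_c5 LD3_c24)) = (LP (LK LD1_c0 LD2_c2 LD3_c28)) :=
  Lre_b IH (LK LD1_c0 LD2_c5 LD3_c24) (LK LD1_c0 LD2_c2 LD3_c28) Lrfl Lrfl
theorem f737 : Led Lsl_ct (LP (LK LD1_c0 LD2_c5 LD3_c24)) = (LP (LK LD1_c0 LD2_c11 LD3_c20)) :=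
  Lre_c IH (LK LD1_c0 LD2_c5 LD3_c24) (LK LD1_c0 LD2_c11 LD3_c20) Lrfl Lrfl
theorem f33087 : Led Lsl_gt (LP (LK LD1_c0 LD2_c7 LD3_c2)) = (LP (LK LD1_c0 LD2_c11 LD3_c20)) :=
  Lgr Lrot65 (Lpe (f8282 IH) (Lpr_bt (f32081 IH) (Lpe (f29150 IH) (Lpe (f2205 IH) (Lpr_ct (f1642 IH) (Lpr_gf (f8292 IH) (Lpe (f8253 IH) (Lpe (f7703 IH) (Lpe (f735 IH) (Lpr_ct (f737 IH) (Lpn (LP (LK LD1_c0 LD2_c11 LD3_c20)))))))))))))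
theorem f28409 : Led Lsl_bt (LP (LK LD1_c0 LD2_c3 LD3_c12)) = (LP (LK LD1_c0 LD2_c7 LD3_c2)) :=
  Lre_b IH (LK LD1_c0 LD2_c3 LD3_c12) (LK LD1_c0 LD2_c7 LD3_c2) Lrfl Lrfl
theorem f20818 : Led Lsl_bt (LP (LK LD1_c0 LD2_c6 LD3_c56)) = (LP (LK LD1_c0 LD2_c3 LD3_c9)) :=
  Lre_b IH (LK LD1_c0 LD2_c6 LD3_c56) (LK LD1_c0 LD2_c3 LD3_c9) Lrfl Lrfl
theorem f27779 : Led Lsl_bt (LP (LK LD1_c0 LD2_c5 LD3_c17)) = (LP (LK LD1_c0 LD2_c11 LD3_c20)) :=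
  Lre_b IH (LK LD1_c0 LD2_c5 LD3_c17) (LK LD1_c0 LD2_c11 LD3_c20) Lrfl Lrfl
theorem f493 : Led Lsl_gt (LP (LK LD1_c0 LD2_c2 LD3_c25)) = (LP (LK LD1_c0 LD2_c5 LD3_c15)) :=
  Lre_g IH (LK LD1_c0 LD2_c2 LD3_c25) (LK LD1_c0 LD2_c5 LD3_c15) Lrfl Lrfl
theorem f33094 : Led Lsl_ct (LP (LK LD1_c0 LD2_c6 LD3_c56)) = (LP (LK LD1_c0 LD2_c5 LD3_c15)) :=
  Lgr Lrot10 (Lpr_bt (f20818 IH) (Lpe (f20619 IH) (Lpr_ct (f8106 IH) (Lpr_gt (f28320 IH) (Lpe (f28411 IH) (Lpr_bt (f28409 IH) (Lpr_gt (f33087 IH) (Lpe (f27779 IH) (Lpr_ct (f9632 IH) (Lpr_gt (f493 IH) (Lpn (LP (LK LD1_c0 LD2_c5 LD3_c15)))))))))))))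
theorem f27935 : Led Lsl_gf (LP (LK LD1_c0 LD2_c5 LD3_c14)) = (LP (LK LD1_c0 LD2_c5 LD3_c15)) :=
  Lgr Lrot76 (Lpe (f8051 IH) (Lpr_ff (f27922 IH) (Lpr_gt (f493 IH) (Lpn (LP (LK LD1_c0 LD2_c5 LD3_c15))))))
theorem f33110 : Led Lsl_gf (LP (LK LD1_c0 LD2_c6 LD3_c56)) = (LP (LK LD1_c0 LD2_c11 LD3_c54)) :=
  Lgr Lrot147 (Lpr_ct (f33094 IH) (Lpe (f27935 IH) (Lpr_ct (f27763 IH) (Lpe (f27762 IH) (Lpr_cf (f27806 IH) (Lpr_gf (f8069 IH) (Lpr_cf (f1695 IH) (Lpe (f1607 IH) (Lpr_df (f27735 IH) (Lpn (LP (LK LD1_c0 LD2_c11 LD3_c54))))))))))))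
theorem f27276 : Led Lsl_df (LP (LK LD1_c0 LD2_c5 LD3_c60)) = (LP (LK LD1_c0 LD2_c5 LD3_c19)) :=
  Lgr Lrot12 (Lpe (f9596 IH) (Lpr_dt (f27271 IH) (Lpr_bt (f27275 IH) (Lpn (LP (LK LD1_c0 LD2_c5 LD3_c19))))))
theorem f6994 : Led Lsl_gt (LP (LK LD1_c0 LD2_c7 LD3_c45)) = (LP (LK LD1_c0 LD2_c3 LD3_c29)) :=
  Lre_g IH (LK LD1_c0 LD2_c7 LD3_c45) (LK LD1_c0 LD2_c3 LD3_c29) Lrfl Lrfl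
theorem f8211 : Led Lsl_gf (LP (LK LD1_c0 LD2_c7 LD3_c45)) = (LP (LK LD1_c0 LD2_c7 LD3_c46)) :=
  Lgr Lrot47 (Lpr_gt (f6994 IH) (Lpe (f8193 IH) (Lpr_ff (f8199 IH) (Lpn (LP (LK LD1_c0 LD2_c7 LD3_c46))))))
theorem f421 : Led Lsl_gt (LP (LK LD1_c0 LD2_c3 LD3_c29)) = (LP (LK LD1_c0 LD2_c7 LD3_c44)) :=
  Lre_g IH (LK LD1_c0 LD2_c3 LD3_c29) (LK LD1_c0 LD2_c7 LD3_c44) Lrfl Lrfl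
theorem f8214 : Led Lsl_ct (LP (LK LD1_c0 LD2_c7 LD3_c44)) = (LP (LK LD1_c0 LD2_c7 LD3_c45)) :=
  Lgr Lrot91 (Lpe (f421 IH) (Lpe (f420 IH) (Lpr_ct (f419 IH) (Lpe (f93 IH) (Lpe (f208 IH) (Lpr_bt (f84 IH) (Lpe (f8138 IH) (Lpe (f7086 IH) (Lpr_ct (f8194 IH) (Lpe (f6994 IH) (Lpn (LP (LK LD1_c0 LD2_c7 LD3_c45)))))))))))))
theorem f8216 : Led Lsl_cf (LP (LK LD1_c0 LD2_c7 LD3_c44)) = (LP (LK LD1_c0 LD2_c7 LD3_c45)) :=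
  Lgr Lrot11 (Lpr_ct (f8214 IH) (Lpn (LP (LK LD1_c0 LD2_c7 LD3_c45))))
theorem f33112 : Led Lsl_dt (LP (LK LD1_c0 LD2_c7 LD3_c44)) = (LP (LK LD1_c0 LD2_c5 LD3_c15)) :=
  Lgr Lrot27 (Lpr_cf (f8216 IH) (Lpr_gf (f8211 IH) (Lpe (f9577 IH) (Lpr_gf (f9568 IH) (Lpr_df (f27276 IH) (Lpe (f28209 IH) (Lpr_ct (f27748 IH) (Lpe (f33110 IH) (Lpr_ct (f33094 IH) (Lpn (LP (LK LD1_c0 LD2_c5 LD3_c15))))))))))))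
theorem f29156 : Led Lsl_bf (LP (LK LD1_c0 LD2_c11 LD3_c8)) = (LP (LK LD1_c0 LD2_c13 LD3_c58)) :=
  Lgr Lrot24 (Lpr_bt (f29152 IH) (Lpn (LP (LK LD1_c0 LD2_c13 LD3_c58))))
theorem f28732 : Led Lsl_gt (LP (LK LD1_c0 LD2_c10 LD3_c56)) = (LP (LK LD1_c0 LD2_c12 LD3_c20)) :=
  Lgr Lrot149 (Lpe (f28407 IH) (Lpe (f28457 IH) (Lpr_bf (f28442 IH) (Lpe (f28405 IH) (Lpr_gf (f28435 IH) (Lpe (f6851 IH) (Lpr_bt (f28441 IH) (Lpe (f16674 IH) (Lpr_bf (f28598 IH) (Lpe (f28569 IH) (Lpn (LP (LK LD1_c0 LD2_c12 LD3_c20)))))))))))))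
theorem f28779 : Led Lsl_gt (LP (LK LD1_c0 LD2_c24 LD3_c32)) = (LP (LK LD1_c0 LD2_c25 LD3_c10)) :=
  Lgr Lrot9 (Lpe (f28461 IH) (Lpr_gt (f28732 IH) (Lpr_ct (f28574 IH) (Lpr_gt (f28775 IH) (Lpr_ct (f28558 IH) (Lpe (f28746 IH) (Lpe (f2068 IH) (Lpe (f8090 IH) (Lpe (f27785 IH) (Lpn (LP (LK LD1_c0 LD2_c25 LD3_c10))))))))))))
theorem f29043 : Led Lsl_ct (LP (LK LD1_c0 LD2_c17 LD3_c31)) = (LP (LK LD1_c0 LD2_c39 LD3_c5)) :=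
  Lgr Lrot59 (Lpr_cf (f29037 IH) (Lpn (LP (LK LD1_c0 LD2_c39 LD3_c5))))
theorem f30827 : Led Lsl_gt (LP (LK LD1_c0 LD2_c11 LD3_c8)) = (LP (LK LD1_c0 LD2_c12 LD3_c17)) :=
  Lgr Lrot164 (Lpr_bf (f29156 IH) (Lpr_ct (f2068 IH) (Lpe (f8090 IH) (Lpe (f27785 IH) (Lpe (f28779 IH) (Lpe (f29041 IH) (Lpr_ct (f29043 IH) (Lpe (f29035 IH) (Lpe (f28721 IH) (Lpr_bt (f27880 IH) (Lpn (LP (LK LD1_c0 LD2_c12 LD3_c17)))))))))))))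
theorem f21280 : Led Lsl_et (LP (LK LD1_c0 LD2_c3 LD3_c9)) = (LP (LK LD1_c0 LD2_c6 LD3_c57)) :=
  Lre_e IH (LK LD1_c0 LD2_c3 LD3_c9) (LK LD1_c0 LD2_c6 LD3_c57) Lrfl Lrfl
theorem f20821 : Led Lsl_dt (LP (LK LD1_c0 LD2_c6 LD3_c57)) = (LP (LK LD1_c0 LD2_c15 LD3_c13)) :=
  Lre_d IH (LK LD1_c0 LD2_c6 LD3_c57) (LK LD1_c0 LD2_c15 LD3_c13) Lrfl Lrfl
theorem f3100 : Led Lsl_et (LP (LK LD1_c0 LD2_c6 LD3_c50)) = (LP (LK LD1_c0 LD2_c3 LD3_c6)) :=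
  Lre_e IH (LK LD1_c0 LD2_c6 LD3_c50) (LK LD1_c0 LD2_c3 LD3_c6) Lrfl Lrfl
theorem f3134 : Led Lsl_dt (LP (LK LD1_c0 LD2_c14 LD3_c56)) = (LP (LK LD1_c0 LD2_c6 LD3_c50)) :=
  Lre_d IH (LK LD1_c0 LD2_c14 LD3_c56) (LK LD1_c0 LD2_c6 LD3_c50) Lrfl Lrfl
theorem f21281 : Led Lsl_et (LP (LK LD1_c0 LD2_c15 LD3_c13)) = (LP (LK LD1_c0 LD2_c14 LD3_c56)) :=
  Lgr Lrot71 (Lpe (f20821 IH) (Lpe (f21280 IH) (Lpr_df (f21272 IH) (Lpe (f3100 IH) (Lpe (f3134 IH) (Lpn (LP (LK LD1_c0 LD2_c14 LD3_c56))))))))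
theorem f21319 : Led Lsl_ft (LP (LK LD1_c0 LD2_c33 LD3_c59)) = (LP (LK LD1_c0 LD2_c15 LD3_c13)) :=
  Lre_f IH (LK LD1_c0 LD2_c33 LD3_c59) (LK LD1_c0 LD2_c15 LD3_c13) Lrfl Lrfl
theorem f21320 : Led Lsl_et (LP (LK LD1_c1 LD2_c13 LD3_c20)) = (LP (LK LD1_c0 LD2_c33 LD3_c59)) :=
  Lre_e IH (LK LD1_c1 LD2_c13 LD3_c20) (LK LD1_c0 LD2_c33 LD3_c59) Lrfl Lrfl
theorem f21321 : Led Lsl_ft (LP (LK LD1_c0 LD2_c14 LD3_c56)) = (LP (LK LD1_c0 LD2_c33 LD3_c16)) :=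
  Lre_f IH (LK LD1_c0 LD2_c14 LD3_c56) (LK LD1_c0 LD2_c33 LD3_c16) Lrfl Lrfl
theorem f21322 : Led Lsl_et (LP (LK LD1_c0 LD2_c33 LD3_c16)) = (LP (LK LD1_c1 LD2_c11 LD3_c55)) :=
  Lre_e IH (LK LD1_c0 LD2_c33 LD3_c16) (LK LD1_c1 LD2_c11 LD3_c55) Lrfl Lrfl
theorem f21323 : Led Lsl_ff (LP (LK LD1_c1 LD2_c13 LD3_c20)) = (LP (LK LD1_c1 LD2_c11 LD3_c55)) :=
  Lgr Lrot72 (Lpr_et (f21320 IH) (Lpr_ft (f21319 IH) (Lpr_et (f21281 IH) (Lpr_ft (f21321 IH) (Lpr_et (f21322 IH) (Lpn (LP (LK LD1_c1 LD2_c11 LD3_c55))))))))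
theorem f21343 : Led Lsl_ft (LP (LK LD1_c1 LD2_c13 LD3_c20)) = (LP (LK LD1_c1 LD2_c11 LD3_c55)) :=
  Lgr Lrot48 (Lpr_ff (f21323 IH) (Lpn (LP (LK LD1_c1 LD2_c11 LD3_c55))))
theorem f21350 : Led Lsl_ct (LP (LK LD1_c2 LD2_c32 LD3_c49)) = (LP (LK LD1_c1 LD2_c13 LD3_c20)) :=
  Lre_c IH (LK LD1_c2 LD2_c32 LD3_c49) (LK LD1_c1 LD2_c13 LD3_c20) Lrfl Lrfl
theorem f21351 : Led Lsl_ct (LP (LK LD1_c1 LD2_c11 LD3_c55)) = (LP (LK LD1_c2 LD2_c29 LD3_c43)) :=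
  Lre_c IH (LK LD1_c1 LD2_c11 LD3_c55) (LK LD1_c2 LD2_c29 LD3_c43) Lrfl Lrfl
theorem f21352 : Led Lsl_ff (LP (LK LD1_c2 LD2_c32 LD3_c49)) = (LP (LK LD1_c2 LD2_c29 LD3_c43)) :=
  Lgr Lrot23 (Lpr_ct (f21350 IH) (Lpr_ft (f21343 IH) (Lpr_ct (f21351 IH) (Lpn (LP (LK LD1_c2 LD2_c29 LD3_c43))))))
theorem f21367 : Led Lsl_et (LP (LK LD1_c2 LD2_c32 LD3_c49)) = (LP (LK LD1_c1 LD2_c13 LD3_c19)) :=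
  Lre_e IH (LK LD1_c2 LD2_c32 LD3_c49) (LK LD1_c1 LD2_c13 LD3_c19) Lrfl Lrfl
theorem f21368 : Led Lsl_ft (LP (LK LD1_c1 LD2_c13 LD3_c19)) = (LP (LK LD1_c0 LD2_c33 LD3_c58)) :=
  Lre_f IH (LK LD1_c1 LD2_c13 LD3_c19) (LK LD1_c0 LD2_c33 LD3_c58) Lrfl Lrfl
theorem f21369 : Led Lsl_et (LP (LK LD1_c1 LD2_c11 LD3_c54)) = (LP (LK LD1_c2 LD2_c29 LD3_c43)) :=
  Lre_e IH (LK LD1_c1 LD2_c11 LD3_c54) (LK LD1_c2 LD2_c29 LD3_c43) Lrfl Lrfl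
theorem f21370 : Led Lsl_ft (LP (LK LD1_c0 LD2_c33 LD3_c15)) = (LP (LK LD1_c1 LD2_c11 LD3_c54)) :=
  Lre_f IH (LK LD1_c0 LD2_c33 LD3_c15) (LK LD1_c1 LD2_c11 LD3_c54) Lrfl Lrfl
theorem f21371 : Led Lsl_et (LP (LK LD1_c0 LD2_c33 LD3_c58)) = (LP (LK LD1_c0 LD2_c33 LD3_c15)) :=
  Lgr Lrot69 (Lpe (f21368 IH) (Lpe (f21367 IH) (Lpr_ff (f21352 IH) (Lpe (f21369 IH) (Lpe (f21370 IH) (Lpn (LP (LK LD1_c0 LD2_c33 LD3_c15))))))))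
theorem f21381 : Led Lsl_dt (LP (LK LD1_c1 LD2_c13 LD3_c18)) = (LP (LK LD1_c0 LD2_c33 LD3_c58)) :=
  Lre_d IH (LK LD1_c1 LD2_c13 LD3_c18) (LK LD1_c0 LD2_c33 LD3_c58) Lrfl Lrfl
theorem f21382 : Led Lsl_et (LP (LK LD1_c2 LD2_c32 LD3_c48)) = (LP (LK LD1_c1 LD2_c13 LD3_c18)) :=
  Lre_e IH (LK LD1_c2 LD2_c32 LD3_c48) (LK LD1_c1 LD2_c13 LD3_c18) Lrfl Lrfl
theorem f21383 : Led Lsl_dt (LP (LK LD1_c0 LD2_c33 LD3_c15)) = (LP (LK LD1_c1 LD2_c11 LD3_c53)) :=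
  Lre_d IH (LK LD1_c0 LD2_c33 LD3_c15) (LK LD1_c1 LD2_c11 LD3_c53) Lrfl Lrfl
theorem f21384 : Led Lsl_et (LP (LK LD1_c1 LD2_c11 LD3_c53)) = (LP (LK LD1_c2 LD2_c29 LD3_c42)) :=
  Lre_e IH (LK LD1_c1 LD2_c11 LD3_c53) (LK LD1_c2 LD2_c29 LD3_c42) Lrfl Lrfl
theorem f21385 : Led Lsl_df (LP (LK LD1_c2 LD2_c32 LD3_c48)) = (LP (LK LD1_c2 LD2_c29 LD3_c42)) :=
  Lgr Lrot70 (Lpr_et (f21382 IH) (Lpr_dt (f21381 IH) (Lpr_et (f21371 IH) (Lpr_dt (f21383 IH) (Lpr_et (f21384 IH) (Lpn (LP (LK LD1_c2 LD2_c29 LD3_c42))))))))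
theorem f21405 : Led Lsl_ft (LP (LK LD1_c2 LD2_c32 LD3_c48)) = (LP (LK LD1_c5 LD2_c11 LD3_c51)) :=
  Lre_f IH (LK LD1_c2 LD2_c32 LD3_c48) (LK LD1_c5 LD2_c11 LD3_c51) Lrfl Lrfl
theorem f21406 : Led Lsl_ft (LP (LK LD1_c5 LD2_c4 LD3_c43)) = (LP (LK LD1_c2 LD2_c29 LD3_c42)) :=
  Lre_f IH (LK LD1_c5 LD2_c4 LD3_c43) (LK LD1_c2 LD2_c29 LD3_c42) Lrfl Lrfl
theorem f21407 : Led Lsl_dt (LP (LK LD1_c5 LD2_c11 LD3_c51)) = (LP (LK LD1_c5 LD2_c4 LD3_c43)) :=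
  Lgr Lrot60 (Lpe (f21405 IH) (Lpr_df (f21385 IH) (Lpe (f21406 IH) (Lpn (LP (LK LD1_c5 LD2_c4 LD3_c43))))))
theorem f21429 : Led Lsl_df (LP (LK LD1_c5 LD2_c11 LD3_c51)) = (LP (LK LD1_c5 LD2_c4 LD3_c43)) :=
  Lgr Lrot38 (Lpr_dt (f21407 IH) (Lpn (LP (LK LD1_c5 LD2_c4 LD3_c43))))
theorem f21432 : Led Lsl_bt (LP (LK LD1_c5 LD2_c11 LD3_c51)) = (LP (LK LD1_c10 LD2_c14 LD3_c15)) :=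
  Lre_b IH (LK LD1_c5 LD2_c11 LD3_c51) (LK LD1_c10 LD2_c14 LD3_c15) Lrfl Lrfl
theorem f21433 : Led Lsl_bt (LP (LK LD1_c10 LD2_c0 LD3_c19)) = (LP (LK LD1_c5 LD2_c4 LD3_c43)) :=
  Lre_b IH (LK LD1_c10 LD2_c0 LD3_c19) (LK LD1_c5 LD2_c4 LD3_c43) Lrfl Lrfl
theorem f21434 : Led Lsl_dt (LP (LK LD1_c10 LD2_c14 LD3_c15)) = (LP (LK LD1_c10 LD2_c0 LD3_c19)) :=
  Lgr Lrot79 (Lpe (f21432 IH) (Lpr_df (f21429 IH) (Lpe (f21433 IH) (Lpn (LP (LK LD1_c10 LD2_c0 LD3_c19))))))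
theorem f21437 : Led Lsl_ft (LP (LK LD1_c5 LD2_c11 LD3_c43)) = (LP (LK LD1_c10 LD2_c14 LD3_c15)) :=
  Lre_f IH (LK LD1_c5 LD2_c11 LD3_c43) (LK LD1_c10 LD2_c14 LD3_c15) Lrfl Lrfl
theorem f21438 : Led Lsl_ft (LP (LK LD1_c10 LD2_c0 LD3_c19)) = (LP (LK LD1_c5 LD2_c4 LD3_c36)) :=
  Lre_f IH (LK LD1_c10 LD2_c0 LD3_c19) (LK LD1_c5 LD2_c4 LD3_c36) Lrfl Lrfl
theorem f21439 : Led Lsl_df (LP (LK LD1_c5 LD2_c11 LD3_c43)) = (LP (LK LD1_c5 LD2_c4 LD3_c36)) :=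
  Lgr Lrot78 (Lpr_ft (f21437 IH) (Lpr_dt (f21434 IH) (Lpr_ft (f21438 IH) (Lpn (LP (LK LD1_c5 LD2_c4 LD3_c36))))))
theorem f21452 : Led Lsl_et (LP (LK LD1_c5 LD2_c11 LD3_c43)) = (LP (LK LD1_c2 LD2_c32 LD3_c44)) :=
  Lre_e IH (LK LD1_c5 LD2_c11 LD3_c43) (LK LD1_c2 LD2_c32 LD3_c44) Lrfl Lrfl
theorem f21453 : Led Lsl_dt (LP (LK LD1_c2 LD2_c32 LD3_c44)) = (LP (LK LD1_c1 LD2_c13 LD3_c17)) :=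
  Lre_d IH (LK LD1_c2 LD2_c32 LD3_c44) (LK LD1_c1 LD2_c13 LD3_c17) Lrfl Lrfl
theorem f21454 : Led Lsl_et (LP (LK LD1_c2 LD2_c29 LD3_c38)) = (LP (LK LD1_c5 LD2_c4 LD3_c36)) :=
  Lre_e IH (LK LD1_c2 LD2_c29 LD3_c38) (LK LD1_c5 LD2_c4 LD3_c36) Lrfl Lrfl
theorem f21455 : Led Lsl_dt (LP (LK LD1_c1 LD2_c11 LD3_c52)) = (LP (LK LD1_c2 LD2_c29 LD3_c38)) :=
  Lre_d IH (LK LD1_c1 LD2_c11 LD3_c52) (LK LD1_c2 LD2_c29 LD3_c38) Lrfl Lrfl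
theorem f21456 : Led Lsl_et (LP (LK LD1_c1 LD2_c13 LD3_c17)) = (LP (LK LD1_c1 LD2_c11 LD3_c52)) :=
  Lgr Lrot71 (Lpe (f21453 IH) (Lpe (f21452 IH) (Lpr_df (f21439 IH) (Lpe (f21454 IH) (Lpe (f21455 IH) (Lpn (LP (LK LD1_c1 LD2_c11 LD3_c52))))))))
theorem f21483 : Led Lsl_ft (LP (LK LD1_c2 LD2_c32 LD3_c45)) = (LP (LK LD1_c1 LD2_c13 LD3_c17)) :=
  Lre_f IH (LK LD1_c2 LD2_c32 LD3_c45) (LK LD1_c1 LD2_c13 LD3_c17) Lrfl Lrfl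
theorem f21484 : Led Lsl_et (LP (LK LD1_c5 LD2_c11 LD3_c44)) = (LP (LK LD1_c2 LD2_c32 LD3_c45)) :=
  Lre_e IH (LK LD1_c5 LD2_c11 LD3_c44) (LK LD1_c2 LD2_c32 LD3_c45) Lrfl Lrfl
theorem f21485 : Led Lsl_ft (LP (LK LD1_c1 LD2_c11 LD3_c52)) = (LP (LK LD1_c2 LD2_c29 LD3_c39)) :=
  Lre_f IH (LK LD1_c1 LD2_c11 LD3_c52) (LK LD1_c2 LD2_c29 LD3_c39) Lrfl Lrfl
theorem f21486 : Led Lsl_et (LP (LK LD1_c2 LD2_c29 LD3_c39)) = (LP (LK LD1_c5 LD2_c4 LD3_c37)) :=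
  Lre_e IH (LK LD1_c2 LD2_c29 LD3_c39) (LK LD1_c5 LD2_c4 LD3_c37) Lrfl Lrfl
theorem f21487 : Led Lsl_ff (LP (LK LD1_c5 LD2_c11 LD3_c44)) = (LP (LK LD1_c5 LD2_c4 LD3_c37)) :=
  Lgr Lrot72 (Lpr_et (f21484 IH) (Lpr_ft (f21483 IH) (Lpr_et (f21456 IH) (Lpr_ft (f21485 IH) (Lpr_et (f21486 IH) (Lpn (LP (LK LD1_c5 LD2_c4 LD3_c37))))))))
theorem f21511 : Led Lsl_dt (LP (LK LD1_c5 LD2_c11 LD3_c44)) = (LP (LK LD1_c10 LD2_c14 LD3_c18)) :=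
  Lre_d IH (LK LD1_c5 LD2_c11 LD3_c44) (LK LD1_c10 LD2_c14 LD3_c18) Lrfl Lrfl
theorem f21512 : Led Lsl_dt (LP (LK LD1_c10 LD2_c0 LD3_c22)) = (LP (LK LD1_c5 LD2_c4 LD3_c37)) :=
  Lre_d IH (LK LD1_c10 LD2_c0 LD3_c22) (LK LD1_c5 LD2_c4 LD3_c37) Lrfl Lrfl
theorem f21513 : Led Lsl_ft (LP (LK LD1_c10 LD2_c14 LD3_c18)) = (LP (LK LD1_c10 LD2_c0 LD3_c22)) :=
  Lgr Lrot54 (Lpe (f21511 IH) (Lpr_ff (f21487 IH) (Lpe (f21512 IH) (Lpn (LP (LK LD1_c10 LD2_c0 LD3_c22))))))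
theorem f21538 : Led Lsl_ff (LP (LK LD1_c10 LD2_c14 LD3_c18)) = (LP (LK LD1_c10 LD2_c0 LD3_c22)) :=
  Lgr Lrot3 (Lpr_ft (f21513 IH) (Lpn (LP (LK LD1_c10 LD2_c0 LD3_c22))))
theorem f21542 : Led Lsl_at (LP (LK LD1_c10 LD2_c14 LD3_c18)) = (LP (LK LD1_c18 LD2_c36 LD3_c38)) :=
  Lre_a IH (LK LD1_c10 LD2_c14 LD3_c18) (LK LD1_c18 LD2_c36 LD3_c38) Lrfl Lrfl
theorem f21543 : Led Lsl_at (LP (LK LD1_c18 LD2_c16 LD3_c8)) = (LP (LK LD1_c10 LD2_c0 LD3_c22)) :=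
  Lre_a IH (LK LD1_c18 LD2_c16 LD3_c8) (LK LD1_c10 LD2_c0 LD3_c22) Lrfl Lrfl
theorem f21544 : Led Lsl_ft (LP (LK LD1_c18 LD2_c36 LD3_c38)) = (LP (LK LD1_c18 LD2_c16 LD3_c8)) :=
  Lgr Lrot101 (Lpe (f21542 IH) (Lpr_ff (f21538 IH) (Lpe (f21543 IH) (Lpn (LP (LK LD1_c18 LD2_c16 LD3_c8))))))
theorem f21520 : Led Lsl_dt (LP (LK LD1_c10 LD2_c13 LD3_c26)) = (LP (LK LD1_c18 LD2_c36 LD3_c38)) :=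
  Lre_d IH (LK LD1_c10 LD2_c13 LD3_c26) (LK LD1_c18 LD2_c36 LD3_c38) Lrfl Lrfl
theorem f21559 : Led Lsl_dt (LP (LK LD1_c18 LD2_c16 LD3_c8)) = (LP (LK LD1_c9 LD2_c59 LD3_c34)) :=
  Lre_d IH (LK LD1_c18 LD2_c16 LD3_c8) (LK LD1_c9 LD2_c59 LD3_c34) Lrfl Lrfl
theorem f21560 : Led Lsl_ff (LP (LK LD1_c10 LD2_c13 LD3_c26)) = (LP (LK LD1_c9 LD2_c59 LD3_c34)) :=
  Lgr Lrot19 (Lpr_dt (f21520 IH) (Lpr_ft (f21544 IH) (Lpr_dt (f21559 IH) (Lpn (LP (LK LD1_c9 LD2_c59 LD3_c34))))))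
theorem f21554 : Led Lsl_et (LP (LK LD1_c10 LD2_c13 LD3_c26)) = (LP (LK LD1_c5 LD2_c11 LD3_c28)) :=
  Lre_e IH (LK LD1_c10 LD2_c13 LD3_c26) (LK LD1_c5 LD2_c11 LD3_c28) Lrfl Lrfl
theorem f21574 : Led Lsl_ft (LP (LK LD1_c5 LD2_c11 LD3_c28)) = (LP (LK LD1_c2 LD2_c32 LD3_c43)) :=
  Lre_f IH (LK LD1_c5 LD2_c11 LD3_c28) (LK LD1_c2 LD2_c32 LD3_c43) Lrfl Lrfl
theorem f21575 : Led Lsl_et (LP (LK LD1_c5 LD2_c4 LD3_c21)) = (LP (LK LD1_c9 LD2_c59 LD3_c34)) :=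
  Lre_e IH (LK LD1_c5 LD2_c4 LD3_c21) (LK LD1_c9 LD2_c59 LD3_c34) Lrfl Lrfl
theorem f21576 : Led Lsl_ft (LP (LK LD1_c2 LD2_c29 LD3_c37)) = (LP (LK LD1_c5 LD2_c4 LD3_c21)) :=
  Lre_f IH (LK LD1_c2 LD2_c29 LD3_c37) (LK LD1_c5 LD2_c4 LD3_c21) Lrfl Lrfl
theorem f21577 : Led Lsl_et (LP (LK LD1_c2 LD2_c32 LD3_c43)) = (LP (LK LD1_c2 LD2_c29 LD3_c37)) :=
  Lgr Lrot69 (Lpe (f21574 IH) (Lpe (f21554 IH) (Lpr_ff (f21560 IH) (Lpe (f21575 IH) (Lpe (f21576 IH) (Lpn (LP (LK LD1_c2 LD2_c29 LD3_c37))))))))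
theorem f21595 : Led Lsl_ct (LP (LK LD1_c5 LD2_c9 LD3_c17)) = (LP (LK LD1_c2 LD2_c32 LD3_c43)) :=
  Lre_c IH (LK LD1_c5 LD2_c9 LD3_c17) (LK LD1_c2 LD2_c32 LD3_c43) Lrfl Lrfl
theorem f21596 : Led Lsl_ct (LP (LK LD1_c2 LD2_c29 LD3_c37)) = (LP (LK LD1_c5 LD2_c1 LD3_c55)) :=
  Lre_c IH (LK LD1_c2 LD2_c29 LD3_c37) (LK LD1_c5 LD2_c1 LD3_c55) Lrfl Lrfl
theorem f21597 : Led Lsl_ef (LP (LK LD1_c5 LD2_c9 LD3_c17)) = (LP (LK LD1_c5 LD2_c1 LD3_c55)) :=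
  Lgr Lrot28 (Lpr_ct (f21595 IH) (Lpr_et (f21577 IH) (Lpr_ct (f21596 IH) (Lpn (LP (LK LD1_c5 LD2_c1 LD3_c55))))))
theorem f21625 : Led Lsl_et (LP (LK LD1_c5 LD2_c9 LD3_c17)) = (LP (LK LD1_c5 LD2_c1 LD3_c55)) :=
  Lgr Lrot87 (Lpr_ef (f21597 IH) (Lpn (LP (LK LD1_c5 LD2_c1 LD3_c55))))
theorem f21639 : Led Lsl_dt (LP (LK LD1_c10 LD2_c9 LD3_c13)) = (LP (LK LD1_c5 LD2_c9 LD3_c17)) :=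
  Lre_d IH (LK LD1_c10 LD2_c9 LD3_c13) (LK LD1_c5 LD2_c9 LD3_c17) Lrfl Lrfl
theorem f21640 : Led Lsl_et (LP (LK LD1_c18 LD2_c29 LD3_c44)) = (LP (LK LD1_c10 LD2_c9 LD3_c13)) :=
  Lre_e IH (LK LD1_c18 LD2_c29 LD3_c44) (LK LD1_c10 LD2_c9 LD3_c13) Lrfl Lrfl
theorem f21631 : Led Lsl_dt (LP (LK LD1_c5 LD2_c1 LD3_c55)) = (LP (LK LD1_c9 LD2_c54 LD3_c26)) :=
  Lre_d IH (LK LD1_c5 LD2_c1 LD3_c55) (LK LD1_c9 LD2_c54 LD3_c26) Lrfl Lrfl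
theorem f21641 : Led Lsl_et (LP (LK LD1_c9 LD2_c54 LD3_c26)) = (LP (LK LD1_c18 LD2_c7 LD3_c53)) :=
  Lre_e IH (LK LD1_c9 LD2_c54 LD3_c26) (LK LD1_c18 LD2_c7 LD3_c53) Lrfl Lrfl
theorem f21642 : Led Lsl_df (LP (LK LD1_c18 LD2_c29 LD3_c44)) = (LP (LK LD1_c18 LD2_c7 LD3_c53)) :=
  Lgr Lrot70 (Lpr_et (f21640 IH) (Lpr_dt (f21639 IH) (Lpr_et (f21625 IH) (Lpr_dt (f21631 IH) (Lpr_et (f21641 IH) (Lpn (LP (LK LD1_c18 LD2_c7 LD3_c53))))))))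
theorem f21658 : Led Lsl_at (LP (LK LD1_c18 LD2_c29 LD3_c44)) = (LP (LK LD1_c10 LD2_c9 LD3_c17)) :=
  Lre_a IH (LK LD1_c18 LD2_c29 LD3_c44) (LK LD1_c10 LD2_c9 LD3_c17) Lrfl Lrfl
theorem f21659 : Led Lsl_at (LP (LK LD1_c9 LD2_c54 LD3_c30)) = (LP (LK LD1_c18 LD2_c7 LD3_c53)) :=
  Lre_a IH (LK LD1_c9 LD2_c54 LD3_c30) (LK LD1_c18 LD2_c7 LD3_c53) Lrfl Lrfl
theorem f21660 : Led Lsl_dt (LP (LK LD1_c10 LD2_c9 LD3_c17)) = (LP (LK LD1_c9 LD2_c54 LD3_c30)) :=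
  Lgr Lrot44 (Lpe (f21658 IH) (Lpr_df (f21642 IH) (Lpe (f21659 IH) (Lpn (LP (LK LD1_c9 LD2_c54 LD3_c30))))))
theorem f21676 : Led Lsl_ft (LP (LK LD1_c18 LD2_c29 LD3_c53)) = (LP (LK LD1_c10 LD2_c9 LD3_c17)) :=
  Lre_f IH (LK LD1_c18 LD2_c29 LD3_c53) (LK LD1_c10 LD2_c9 LD3_c17) Lrfl Lrfl
theorem f21677 : Led Lsl_ft (LP (LK LD1_c9 LD2_c54 LD3_c30)) = (LP (LK LD1_c18 LD2_c8 LD3_c4)) :=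
  Lre_f IH (LK LD1_c9 LD2_c54 LD3_c30) (LK LD1_c18 LD2_c8 LD3_c4) Lrfl Lrfl
theorem f21678 : Led Lsl_df (LP (LK LD1_c18 LD2_c29 LD3_c53)) = (LP (LK LD1_c18 LD2_c8 LD3_c4)) :=
  Lgr Lrot78 (Lpr_ft (f21676 IH) (Lpr_dt (f21660 IH) (Lpr_ft (f21677 IH) (Lpn (LP (LK LD1_c18 LD2_c8 LD3_c4))))))
theorem f21693 : Led Lsl_dt (LP (LK LD1_c18 LD2_c29 LD3_c53)) = (LP (LK LD1_c18 LD2_c8 LD3_c4)) :=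
  Lgr Lrot42 (Lpr_df (f21678 IH) (Lpn (LP (LK LD1_c18 LD2_c8 LD3_c4))))
theorem f21696 : Led Lsl_bt (LP (LK LD1_c10 LD2_c9 LD3_c25)) = (LP (LK LD1_c18 LD2_c29 LD3_c53)) :=
  Lre_b IH (LK LD1_c10 LD2_c9 LD3_c25) (LK LD1_c18 LD2_c29 LD3_c53) Lrfl Lrfl
theorem f21697 : Led Lsl_bt (LP (LK LD1_c18 LD2_c8 LD3_c4)) = (LP (LK LD1_c9 LD2_c54 LD3_c41)) :=
  Lre_b IH (LK LD1_c18 LD2_c8 LD3_c4) (LK LD1_c9 LD2_c54 LD3_c41) Lrfl Lrfl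
theorem f21698 : Led Lsl_df (LP (LK LD1_c10 LD2_c9 LD3_c25)) = (LP (LK LD1_c9 LD2_c54 LD3_c41)) :=
  Lgr Lrot12 (Lpr_bt (f21696 IH) (Lpr_dt (f21693 IH) (Lpr_bt (f21697 IH) (Lpn (LP (LK LD1_c9 LD2_c54 LD3_c41))))))
theorem f21701 : Led Lsl_ft (LP (LK LD1_c10 LD2_c9 LD3_c25)) = (LP (LK LD1_c5 LD2_c9 LD3_c22)) :=
  Lre_f IH (LK LD1_c10 LD2_c9 LD3_c25) (LK LD1_c5 LD2_c9 LD3_c22) Lrfl Lrfl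
theorem f3462 : Led Lsl_ft (LP (LK LD1_c5 LD2_c1 LD3_c61)) = (LP (LK LD1_c9 LD2_c54 LD3_c41)) :=
  Lre_f IH (LK LD1_c5 LD2_c1 LD3_c61) (LK LD1_c9 LD2_c54 LD3_c41) Lrfl Lrfl
theorem f21702 : Led Lsl_dt (LP (LK LD1_c5 LD2_c9 LD3_c22)) = (LP (LK LD1_c5 LD2_c1 LD3_c61)) :=
  Lgr Lrot60 (Lpe (f21701 IH) (Lpr_df (f21698 IH) (Lpe (f3462 IH) (Lpn (LP (LK LD1_c5 LD2_c1 LD3_c61))))))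
theorem f21706 : Led Lsl_et (LP (LK LD1_c2 LD2_c31 LD3_c47)) = (LP (LK LD1_c5 LD2_c9 LD3_c22)) :=
  Lre_e IH (LK LD1_c2 LD2_c31 LD3_c47) (LK LD1_c5 LD2_c9 LD3_c22) Lrfl Lrfl
theorem f21707 : Led Lsl_dt (LP (LK LD1_c1 LD2_c12 LD3_c56)) = (LP (LK LD1_c2 LD2_c31 LD3_c47)) :=
  Lre_d IH (LK LD1_c1 LD2_c12 LD3_c56) (LK LD1_c2 LD2_c31 LD3_c47) Lrfl Lrfl
theorem f21708 : Led Lsl_et (LP (LK LD1_c5 LD2_c1 LD3_c61)) = (LP (LK LD1_c2 LD2_c28 LD3_c37)) :=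
  Lre_e IH (LK LD1_c5 LD2_c1 LD3_c61) (LK LD1_c2 LD2_c28 LD3_c37) Lrfl Lrfl
theorem f3570 : Led Lsl_dt (LP (LK LD1_c2 LD2_c28 LD3_c37)) = (LP (LK LD1_c1 LD2_c11 LD3_c30)) :=
  Lre_d IH (LK LD1_c2 LD2_c28 LD3_c37) (LK LD1_c1 LD2_c11 LD3_c30) Lrfl Lrfl
theorem f21709 : Led Lsl_ef (LP (LK LD1_c1 LD2_c12 LD3_c56)) = (LP (LK LD1_c1 LD2_c11 LD3_c30)) :=
  Lgr Lrot73 (Lpr_dt (f21707 IH) (Lpr_et (f21706 IH) (Lpr_dt (f21702 IH) (Lpr_et (f21708 IH) (Lpr_dt (f3570 IH) (Lpn (LP (LK LD1_c1 LD2_c11 LD3_c30))))))))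
theorem f21734 : Led Lsl_ct (LP (LK LD1_c1 LD2_c12 LD3_c56)) = (LP (LK LD1_c0 LD2_c33 LD3_c49)) :=
  Lre_c IH (LK LD1_c1 LD2_c12 LD3_c56) (LK LD1_c0 LD2_c33 LD3_c49) Lrfl Lrfl
theorem f3574 : Led Lsl_ct (LP (LK LD1_c0 LD2_c33 LD3_c6)) = (LP (LK LD1_c1 LD2_c11 LD3_c30)) :=
  Lre_c IH (LK LD1_c0 LD2_c33 LD3_c6) (LK LD1_c1 LD2_c11 LD3_c30) Lrfl Lrfl
theorem f21735 : Led Lsl_et (LP (LK LD1_c0 LD2_c33 LD3_c49)) = (LP (LK LD1_c0 LD2_c33 LD3_c6)) :=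
  Lgr Lrot158 (Lpe (f21734 IH) (Lpr_ef (f21709 IH) (Lpe (f3574 IH) (Lpn (LP (LK LD1_c0 LD2_c33 LD3_c6))))))
theorem f21846 : Led Lsl_dt (LP (LK LD1_c0 LD2_c15 LD3_c10)) = (LP (LK LD1_c0 LD2_c33 LD3_c49)) :=
  Lre_d IH (LK LD1_c0 LD2_c15 LD3_c10) (LK LD1_c0 LD2_c33 LD3_c49) Lrfl Lrfl
theorem f21847 : Led Lsl_et (LP (LK LD1_c0 LD2_c6 LD3_c56)) = (LP (LK LD1_c0 LD2_c15 LD3_c10)) :=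
  Lre_e IH (LK LD1_c0 LD2_c6 LD3_c56) (LK LD1_c0 LD2_c15 LD3_c10) Lrfl Lrfl
theorem f3572 : Led Lsl_dt (LP (LK LD1_c0 LD2_c33 LD3_c6)) = (LP (LK LD1_c0 LD2_c14 LD3_c53)) :=
  Lre_d IH (LK LD1_c0 LD2_c33 LD3_c6) (LK LD1_c0 LD2_c14 LD3_c53) Lrfl Lrfl
theorem f3775 : Led Lsl_et (LP (LK LD1_c0 LD2_c14 LD3_c53)) = (LP (LK LD1_c0 LD2_c6 LD3_c49)) :=
  Lre_e IH (LK LD1_c0 LD2_c14 LD3_c53) (LK LD1_c0 LD2_c6 LD3_c49) Lrfl Lrfl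
theorem f21848 : Led Lsl_df (LP (LK LD1_c0 LD2_c6 LD3_c56)) = (LP (LK LD1_c0 LD2_c6 LD3_c49)) :=
  Lgr Lrot70 (Lpr_et (f21847 IH) (Lpr_dt (f21846 IH) (Lpr_et (f21735 IH) (Lpr_dt (f3572 IH) (Lpr_et (f3775 IH) (Lpn (LP (LK LD1_c0 LD2_c6 LD3_c49))))))))
theorem f3793 : Led Lsl_gt (LP (LK LD1_c0 LD2_c14 LD3_c51)) = (LP (LK LD1_c0 LD2_c6 LD3_c49)) :=
  Lre_g IH (LK LD1_c0 LD2_c14 LD3_c51) (LK LD1_c0 LD2_c6 LD3_c49) Lrfl Lrfl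
theorem f33124 : Led Lsl_dt (LP (LK LD1_c0 LD2_c12 LD3_c17)) = (LP (LK LD1_c0 LD2_c14 LD3_c51)) :=
  Lgr Lrot57 (Lpe (f30827 IH) (Lpe (f28558 IH) (Lpr_gt (f31034 IH) (Lpe (f31037 IH) (Lpr_gt (f421 IH) (Lpr_dt (f33112 IH) (Lpe (f33094 IH) (Lpr_df (f21848 IH) (Lpe (f3793 IH) (Lpn (LP (LK LD1_c0 LD2_c14 LD3_c51))))))))))))
theorem f3093 : Led Lsl_bt (LP (LK LD1_c0 LD2_c6 LD3_c49)) = (LP (LK LD1_c0 LD2_c3 LD3_c6)) :=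
  Lre_b IH (LK LD1_c0 LD2_c6 LD3_c49) (LK LD1_c0 LD2_c3 LD3_c6) Lrfl Lrfl
theorem f3106 : Led Lsl_bt (LP (LK LD1_c0 LD2_c3 LD3_c6)) = (LP (LK LD1_c0 LD2_c6 LD3_c49)) :=
  Lre_b IH (LK LD1_c0 LD2_c3 LD3_c6) (LK LD1_c0 LD2_c6 LD3_c49) Lrfl Lrfl
theorem f3107 : Led Lsl_cf (LP (LK LD1_c0 LD2_c6 LD3_c49)) = (LP (LK LD1_c0 LD2_c6 LD3_c49)) :=
  Lgr Lrot97 (Lpr_bt (f3093 IH) (Lpr_ct (f3091 IH) (Lpr_bt (f3095 IH) (Lpr_ct (f294 IH) (Lpr_bt (f3106 IH) (Lpn (LP (LK LD1_c0 LD2_c6 LD3_c49))))))))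
theorem f3792 : Led Lsl_gt (LP (LK LD1_c0 LD2_c6 LD3_c49)) = (LP (LK LD1_c0 LD2_c14 LD3_c50)) :=
  Lre_g IH (LK LD1_c0 LD2_c6 LD3_c49) (LK LD1_c0 LD2_c14 LD3_c50) Lrfl Lrfl
theorem f33140 : Led Lsl_cf (LP (LK LD1_c0 LD2_c27 LD3_c54)) = (LP (LK LD1_c0 LD2_c14 LD3_c50)) :=
  Lgr Lrot175 (Lpr_dt (f28581 IH) (Lpr_cf (f28569 IH) (Lpe (f2996 IH) (Lpe (f6886 IH) (Lpe (f27815 IH) (Lpr_dt (f33124 IH) (Lpr_gt (f3793 IH) (Lpe (f3107 IH) (Lpr_gt (f3792 IH) (Lpn (LP (LK LD1_c0 LD2_c14 LD3_c50))))))))))))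
theorem f33275 : Led Lsl_ct (LP (LK LD1_c0 LD2_c27 LD3_c54)) = (LP (LK LD1_c0 LD2_c14 LD3_c50)) :=
  Lgr Lrot59 (Lpr_cf (f33140 IH) (Lpn (LP (LK LD1_c0 LD2_c14 LD3_c50))))
theorem f33282 : Led Lsl_ft (LP (LK LD1_c0 LD2_c14 LD3_c50)) = (LP (LK LD1_c0 LD2_c14 LD3_c50)) :=
  Lgr Lrot4 (Lpe (f33275 IH) (Lpe (f31103 IH) (Lpr_cf (f33140 IH) (Lpn (LP (LK LD1_c0 LD2_c14 LD3_c50))))))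
theorem f31057 : Led Lsl_df (LP (LK LD1_c0 LD2_c7 LD3_c46)) = (LP (LK LD1_c0 LD2_c11 LD3_c5)) :=
  Lgr Lrot12 (Lpe (f9584 IH) (Lpr_dt (f31048 IH) (Lpr_bt (f28596 IH) (Lpn (LP (LK LD1_c0 LD2_c11 LD3_c5))))))
theorem f33136 : Led Lsl_cf (LP (LK LD1_c0 LD2_c27 LD3_c51)) = (LP (LK LD1_c0 LD2_c14 LD3_c51)) :=
  Lgr Lrot116 (Lpr_dt (f31042 IH) (Lpr_ct (f28803 IH) (Lpe (f31037 IH) (Lpe (f8186 IH) (Lpe (f9573 IH) (Lpe (f9582 IH) (Lpr_dt (f31048 IH) (Lpr_ct (f27814 IH) (Lpr_dt (f33124 IH) (Lpn (LP (LK LD1_c0 LD2_c14 LD3_c51))))))))))))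
theorem f33277 : Led Lsl_dt (LP (LK LD1_c0 LD2_c12 LD3_c15)) = (LP (LK LD1_c0 LD2_c14 LD3_c50)) :=
  Lgr Lrot173 (Lpe (f27819 IH) (Lpr_df (f28474 IH) (Lpr_cf (f8186 IH) (Lpr_df (f31037 IH) (Lpe (f28803 IH) (Lpe (f31042 IH) (Lpr_cf (f33136 IH) (Lpe (f33124 IH) (Lpe (f27814 IH) (Lpe (f31048 IH) (Lpr_cf (f9586 IH) (Lpr_df (f31057 IH) (Lpe (f28574 IH) (Lpe (f28581 IH) (Lpr_cf (f33140 IH) (Lpn (LP (LK LD1_c0 LD2_c14 LD3_c50))))))))))))))))))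
theorem f28472 : Led Lsl_ff (LP (LK LD1_c0 LD2_c12 LD3_c15)) = (LP (LK LD1_c0 LD2_c12 LD3_c15)) :=
  Lgr Lrot23 (Lpr_ct (f28460 IH) (Lpr_ft (f28454 IH) (Lpr_ct (f27819 IH) (Lpn (LP (LK LD1_c0 LD2_c12 LD3_c15))))))
theorem f33289 : Led Lsl_df (LP (LK LD1_c0 LD2_c12 LD3_c15)) = (LP (LK LD1_c0 LD2_c14 LD3_c50)) :=
  Lgr Lrot78 (Lpe (f28472 IH) (Lpr_dt (f33277 IH) (Lpr_ft (f33282 IH) (Lpn (LP (LK LD1_c0 LD2_c14 LD3_c50))))))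
theorem f2072 : Led Lsl_gt (LP (LK LD1_c0 LD2_c31 LD3_c26)) = (LP (LK LD1_c1 LD2_c8 LD3_c43)) :=
  Lre_g IH (LK LD1_c0 LD2_c31 LD3_c26) (LK LD1_c1 LD2_c8 LD3_c43) Lrfl Lrfl
theorem f1622 : Led Lsl_et (LP (LK LD1_c2 LD2_c23 LD3_c13)) = (LP (LK LD1_c1 LD2_c8 LD3_c43)) :=
  Lre_e IH (LK LD1_c2 LD2_c23 LD3_c13) (LK LD1_c1 LD2_c8 LD3_c43) Lrfl Lrfl
theorem f3573 : Led Lsl_dt (LP (LK LD1_c0 LD2_c14 LD3_c53)) = (LP (LK LD1_c0 LD2_c33 LD3_c6)) :=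
  Lre_d IH (LK LD1_c0 LD2_c14 LD3_c53) (LK LD1_c0 LD2_c33 LD3_c6) Lrfl Lrfl
theorem f3691 : Led Lsl_gt (LP (LK LD1_c1 LD2_c11 LD3_c29)) = (LP (LK LD1_c0 LD2_c33 LD3_c6)) :=
  Lre_g IH (LK LD1_c1 LD2_c11 LD3_c29) (LK LD1_c0 LD2_c33 LD3_c6) Lrfl Lrfl
theorem f33297 : Led Lsl_dt (LP (LK LD1_c2 LD2_c23 LD3_c13)) = (LP (LK LD1_c1 LD2_c11 LD3_c29)) :=
  Lgr Lrot136 (Lpr_et (f1622 IH) (Lpe (f2072 IH) (Lpe (f1594 IH) (Lpr_dt (f28746 IH) (Lpr_gf (f31030 IH) (Lpr_df (f33289 IH) (Lpe (f3792 IH) (Lpe (f3775 IH) (Lpr_dt (f3573 IH) (Lpe (f3691 IH) (Lpn (LP (LK LD1_c1 LD2_c11 LD3_c29)))))))))))))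
theorem f1621 : Led Lsl_gt (LP (LK LD1_c1 LD2_c8 LD3_c43)) = (LP (LK LD1_c0 LD2_c31 LD3_c30)) :=
  Lre_g IH (LK LD1_c1 LD2_c8 LD3_c43) (LK LD1_c0 LD2_c31 LD3_c30) Lrfl Lrfl
theorem f1520 : Led Lsl_et (LP (LK LD1_c0 LD2_c31 LD3_c30)) = (LP (LK LD1_c0 LD2_c31 LD3_c30)) :=
  Lgr Lrot74 (Lpe (f285 IH) (Lpr_ef (f1517 IH) (Lpe (f1519 IH) (Lpn (LP (LK LD1_c0 LD2_c31 LD3_c30))))))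
theorem f1573 : Led Lsl_gt (LP (LK LD1_c1 LD2_c8 LD3_c58)) = (LP (LK LD1_c2 LD2_c23 LD3_c17)) :=
  Lre_g IH (LK LD1_c1 LD2_c8 LD3_c58) (LK LD1_c2 LD2_c23 LD3_c17) Lrfl Lrfl
theorem f33315 : Led Lsl_gt (LP (LK LD1_c2 LD2_c28 LD3_c11)) = (LP (LK LD1_c1 LD2_c11 LD3_c29)) :=
  Lre_g IH (LK LD1_c2 LD2_c28 LD3_c11) (LK LD1_c1 LD2_c11 LD3_c29) Lrfl Lrfl
theorem f3426 : Led Lsl_dt (LP (LK LD1_c1 LD2_c11 LD3_c19)) = (LP (LK LD1_c2 LD2_c28 LD3_c11)) :=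
  Lre_d IH (LK LD1_c1 LD2_c11 LD3_c19) (LK LD1_c2 LD2_c28 LD3_c11) Lrfl Lrfl
theorem f3686 : Led Lsl_gt (LP (LK LD1_c0 LD2_c33 LD3_c4)) = (LP (LK LD1_c1 LD2_c11 LD3_c19)) :=
  Lre_g IH (LK LD1_c0 LD2_c33 LD3_c4) (LK LD1_c1 LD2_c11 LD3_c19) Lrfl Lrfl
theorem f21869 : Led Lsl_et (LP (LK LD1_c1 LD2_c11 LD3_c23)) = (LP (LK LD1_c0 LD2_c33 LD3_c4)) :=
  Lre_e IH (LK LD1_c1 LD2_c11 LD3_c23) (LK LD1_c0 LD2_c33 LD3_c4) Lrfl Lrfl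
theorem f33316 : Led Lsl_df (LP (LK LD1_c2 LD2_c23 LD3_c17)) = (LP (LK LD1_c1 LD2_c11 LD3_c23)) :=
  Lgr Lrot168 (Lpe (f1573 IH) (Lpe (f1553 IH) (Lpr_et (f1520 IH) (Lpe (f1621 IH) (Lpe (f1622 IH) (Lpr_dt (f33297 IH) (Lpe (f33315 IH) (Lpe (f3426 IH) (Lpe (f3686 IH) (Lpe (f21869 IH) (Lpn (LP (LK LD1_c1 LD2_c11 LD3_c23)))))))))))))
theorem f33331 : Led Lsl_et (LP (LK LD1_c1 LD2_c11 LD3_c19)) = (LP (LK LD1_c1 LD2_c11 LD3_c19)) :=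
  Lgr Lrot122 (Lpr_dt (f3426 IH) (Lpr_gt (f33315 IH) (Lpe (f33297 IH) (Lpr_et (f1622 IH) (Lpr_gt (f1621 IH) (Lpr_dt (f1553 IH) (Lpr_gt (f1573 IH) (Lpr_df (f33316 IH) (Lpr_et (f21869 IH) (Lpr_gt (f3686 IH) (Lpn (LP (LK LD1_c1 LD2_c11 LD3_c19)))))))))))))
theorem f3315 : Led Lsl_ft (LP (LK LD1_c0 LD2_c33 LD3_c3)) = (LP (LK LD1_c1 LD2_c11 LD3_c19)) :=
  Lre_f IH (LK LD1_c0 LD2_c33 LD3_c3) (LK LD1_c1 LD2_c11 LD3_c19) Lrfl Lrfl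
theorem f3715 : Led Lsl_et (LP (LK LD1_c0 LD2_c14 LD3_c52)) = (LP (LK LD1_c0 LD2_c33 LD3_c3)) :=
  Lre_e IH (LK LD1_c0 LD2_c14 LD3_c52) (LK LD1_c0 LD2_c33 LD3_c3) Lrfl Lrfl
theorem f3579 : Led Lsl_ft (LP (LK LD1_c1 LD2_c11 LD3_c19)) = (LP (LK LD1_c0 LD2_c33 LD3_c3)) :=
  Lre_f IH (LK LD1_c1 LD2_c11 LD3_c19) (LK LD1_c0 LD2_c33 LD3_c3) Lrfl Lrfl
theorem f3714 : Led Lsl_et (LP (LK LD1_c0 LD2_c33 LD3_c3)) = (LP (LK LD1_c0 LD2_c14 LD3_c52)) :=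
  Lre_e IH (LK LD1_c0 LD2_c33 LD3_c3) (LK LD1_c0 LD2_c14 LD3_c52) Lrfl Lrfl
theorem f33338 : Led Lsl_ff (LP (LK LD1_c0 LD2_c14 LD3_c52)) = (LP (LK LD1_c0 LD2_c14 LD3_c52)) :=
  Lgr Lrot72 (Lpr_et (f3715 IH) (Lpr_ft (f3315 IH) (Lpr_et (f33331 IH) (Lpr_ft (f3579 IH) (Lpr_et (f3714 IH) (Lpn (LP (LK LD1_c0 LD2_c14 LD3_c52))))))))
theorem f3724 : Led Lsl_at (LP (LK LD1_c0 LD2_c14 LD3_c52)) = (LP (LK LD1_c0 LD2_c6 LD3_c49)) :=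
  Lre_a IH (LK LD1_c0 LD2_c14 LD3_c52) (LK LD1_c0 LD2_c6 LD3_c49) Lrfl Lrfl
theorem f33342 : Led Lsl_gf (LP (LK LD1_c0 LD2_c14 LD3_c51)) = (LP (LK LD1_c0 LD2_c14 LD3_c52)) :=
  Lgr Lrot47 (Lpr_gt (f3793 IH) (Lpe (f3724 IH) (Lpr_ff (f33338 IH) (Lpn (LP (LK LD1_c0 LD2_c14 LD3_c52))))))
theorem f33129 : Led Lsl_df (LP (LK LD1_c0 LD2_c12 LD3_c17)) = (LP (LK LD1_c0 LD2_c14 LD3_c51)) :=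
  Lgr Lrot38 (Lpr_dt (f33124 IH) (Lpn (LP (LK LD1_c0 LD2_c14 LD3_c51))))
theorem f33346 : Led Lsl_dt (LP (LK LD1_c0 LD2_c11 LD3_c16)) = (LP (LK LD1_c0 LD2_c14 LD3_c52)) :=
  Lgr Lrot57 (Lpr_gf (f27773 IH) (Lpe (f8071 IH) (Lpr_gt (f28207 IH) (Lpe (f27276 IH) (Lpe (f9568 IH) (Lpr_dt (f31048 IH) (Lpe (f27817 IH) (Lpr_df (f33129 IH) (Lpr_gf (f33342 IH) (Lpn (LP (LK LD1_c0 LD2_c14 LD3_c52))))))))))))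
theorem f3109 : Led Lsl_et (LP (LK LD1_c0 LD2_c3 LD3_c7)) = (LP (LK LD1_c0 LD2_c1 LD3_c18)) :=
  Lre_e IH (LK LD1_c0 LD2_c3 LD3_c7) (LK LD1_c0 LD2_c1 LD3_c18) Lrfl Lrfl
theorem f3110 : Led Lsl_et (LP (LK LD1_c0 LD2_c1 LD3_c18)) = (LP (LK LD1_c0 LD2_c3 LD3_c7)) :=
  Lre_e IH (LK LD1_c0 LD2_c1 LD3_c18) (LK LD1_c0 LD2_c3 LD3_c7) Lrfl Lrfl
theorem f3111 : Led Lsl_bf (LP (LK LD1_c0 LD2_c3 LD3_c7)) = (LP (LK LD1_c0 LD2_c3 LD3_c7)) :=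
  Lgr Lrot96 (Lpr_et (f3109 IH) (Lpr_bt (f3095 IH) (Lpr_et (f3110 IH) (Lpn (LP (LK LD1_c0 LD2_c3 LD3_c7))))))
theorem f3123 : Led Lsl_ft (LP (LK LD1_c0 LD2_c3 LD3_c7)) = (LP (LK LD1_c0 LD2_c6 LD3_c54)) :=
  Lre_f IH (LK LD1_c0 LD2_c3 LD3_c7) (LK LD1_c0 LD2_c6 LD3_c54) Lrfl Lrfl
theorem f3124 : Led Lsl_ft (LP (LK LD1_c0 LD2_c6 LD3_c54)) = (LP (LK LD1_c0 LD2_c3 LD3_c7)) :=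
  Lre_f IH (LK LD1_c0 LD2_c6 LD3_c54) (LK LD1_c0 LD2_c3 LD3_c7) Lrfl Lrfl
theorem f3125 : Led Lsl_bt (LP (LK LD1_c0 LD2_c6 LD3_c54)) = (LP (LK LD1_c0 LD2_c6 LD3_c54)) :=
  Lgr Lrot35 (Lpe (f3123 IH) (Lpr_bf (f3111 IH) (Lpe (f3124 IH) (Lpn (LP (LK LD1_c0 LD2_c6 LD3_c54))))))
theorem f3146 : Led Lsl_ct (LP (LK LD1_c0 LD2_c14 LD3_c57)) = (LP (LK LD1_c0 LD2_c6 LD3_c54)) :=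
  Lre_c IH (LK LD1_c0 LD2_c14 LD3_c57) (LK LD1_c0 LD2_c6 LD3_c54) Lrfl Lrfl
theorem f3147 : Led Lsl_bt (LP (LK LD1_c0 LD2_c33 LD3_c7)) = (LP (LK LD1_c0 LD2_c14 LD3_c57)) :=
  Lre_b IH (LK LD1_c0 LD2_c33 LD3_c7) (LK LD1_c0 LD2_c14 LD3_c57) Lrfl Lrfl
theorem f3148 : Led Lsl_ct (LP (LK LD1_c0 LD2_c6 LD3_c54)) = (LP (LK LD1_c0 LD2_c14 LD3_c57)) :=
  Lre_c IH (LK LD1_c0 LD2_c6 LD3_c54) (LK LD1_c0 LD2_c14 LD3_c57) Lrfl Lrfl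
theorem f3149 : Led Lsl_bt (LP (LK LD1_c0 LD2_c14 LD3_c57)) = (LP (LK LD1_c0 LD2_c33 LD3_c7)) :=
  Lre_b IH (LK LD1_c0 LD2_c14 LD3_c57) (LK LD1_c0 LD2_c33 LD3_c7) Lrfl Lrfl
theorem f3150 : Led Lsl_cf (LP (LK LD1_c0 LD2_c33 LD3_c7)) = (LP (LK LD1_c0 LD2_c33 LD3_c7)) :=
  Lgr Lrot97 (Lpr_bt (f3147 IH) (Lpr_ct (f3146 IH) (Lpr_bt (f3125 IH) (Lpr_ct (f3148 IH) (Lpr_bt (f3149 IH) (Lpn (LP (LK LD1_c0 LD2_c33 LD3_c7))))))))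
theorem f3307 : Led Lsl_dt (LP (LK LD1_c0 LD2_c33 LD3_c7)) = (LP (LK LD1_c1 LD2_c11 LD3_c31)) :=
  Lre_d IH (LK LD1_c0 LD2_c33 LD3_c7) (LK LD1_c1 LD2_c11 LD3_c31) Lrfl Lrfl
theorem f3308 : Led Lsl_ct (LP (LK LD1_c1 LD2_c11 LD3_c31)) = (LP (LK LD1_c2 LD2_c28 LD3_c38)) :=
  Lre_c IH (LK LD1_c1 LD2_c11 LD3_c31) (LK LD1_c2 LD2_c28 LD3_c38) Lrfl Lrfl
theorem f3309 : Led Lsl_dt (LP (LK LD1_c2 LD2_c28 LD3_c38)) = (LP (LK LD1_c5 LD2_c2 LD3_c0)) :=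
  Lre_d IH (LK LD1_c2 LD2_c28 LD3_c38) (LK LD1_c5 LD2_c2 LD3_c0) Lrfl Lrfl
theorem f3310 : Led Lsl_dt (LP (LK LD1_c1 LD2_c11 LD3_c31)) = (LP (LK LD1_c0 LD2_c33 LD3_c7)) :=
  Lre_d IH (LK LD1_c1 LD2_c11 LD3_c31) (LK LD1_c0 LD2_c33 LD3_c7) Lrfl Lrfl
theorem f3311 : Led Lsl_ct (LP (LK LD1_c2 LD2_c28 LD3_c38)) = (LP (LK LD1_c1 LD2_c11 LD3_c31)) :=
  Lre_c IH (LK LD1_c2 LD2_c28 LD3_c38) (LK LD1_c1 LD2_c11 LD3_c31) Lrfl Lrfl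
theorem f3312 : Led Lsl_dt (LP (LK LD1_c5 LD2_c2 LD3_c0)) = (LP (LK LD1_c2 LD2_c28 LD3_c38)) :=
  Lre_d IH (LK LD1_c5 LD2_c2 LD3_c0) (LK LD1_c2 LD2_c28 LD3_c38) Lrfl Lrfl
theorem f3323 : Led Lsl_ft (LP (LK LD1_c5 LD2_c2 LD3_c0)) = (LP (LK LD1_c2 LD2_c28 LD3_c37)) :=
  Lre_f IH (LK LD1_c5 LD2_c2 LD3_c0) (LK LD1_c2 LD2_c28 LD3_c37) Lrfl Lrfl
theorem f3324 : Led Lsl_at (LP (LK LD1_c2 LD2_c28 LD3_c37)) = (LP (LK LD1_c5 LD2_c0 LD3_c54)) :=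
  Lre_a IH (LK LD1_c2 LD2_c28 LD3_c37) (LK LD1_c5 LD2_c0 LD3_c54) Lrfl Lrfl
theorem f3325 : Led Lsl_ct (LP (LK LD1_c5 LD2_c2 LD3_c0)) = (LP (LK LD1_c5 LD2_c0 LD3_c54)) :=
  Lgr Lrot98 (Lpe (f3309 IH) (Lpe (f3308 IH) (Lpe (f3307 IH) (Lpr_cf (f3150 IH) (Lpe (f3310 IH) (Lpe (f3311 IH) (Lpe (f3312 IH) (Lpr_ft (f3323 IH) (Lpr_at (f3324 IH) (Lpn (LP (LK LD1_c5 LD2_c0 LD3_c54))))))))))))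
theorem f3304 : Led Lsl_at (LP (LK LD1_c1 LD2_c11 LD3_c19)) = (LP (LK LD1_c0 LD2_c33 LD3_c7)) :=
  Lre_a IH (LK LD1_c1 LD2_c11 LD3_c19) (LK LD1_c0 LD2_c33 LD3_c7) Lrfl Lrfl
theorem f3316 : Led Lsl_dt (LP (LK LD1_c0 LD2_c33 LD3_c3)) = (LP (LK LD1_c1 LD2_c11 LD3_c18)) :=
  Lre_d IH (LK LD1_c0 LD2_c33 LD3_c3) (LK LD1_c1 LD2_c11 LD3_c18) Lrfl Lrfl
theorem f3317 : Led Lsl_ct (LP (LK LD1_c1 LD2_c11 LD3_c18)) = (LP (LK LD1_c2 LD2_c28 LD3_c10)) :=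
  Lre_c IH (LK LD1_c1 LD2_c11 LD3_c18) (LK LD1_c2 LD2_c28 LD3_c10) Lrfl Lrfl
theorem f3318 : Led Lsl_dt (LP (LK LD1_c2 LD2_c28 LD3_c10)) = (LP (LK LD1_c5 LD2_c0 LD3_c54)) :=
  Lre_d IH (LK LD1_c2 LD2_c28 LD3_c10) (LK LD1_c5 LD2_c0 LD3_c54) Lrfl Lrfl
theorem f3319 : Led Lsl_ct (LP (LK LD1_c5 LD2_c0 LD3_c54)) = (LP (LK LD1_c5 LD2_c2 LD3_c0)) :=
  Lgr Lrot41 (Lpe (f3318 IH) (Lpe (f3317 IH) (Lpe (f3316 IH) (Lpr_ft (f3315 IH) (Lpr_at (f3304 IH) (Lpr_cf (f3150 IH) (Lpe (f3310 IH) (Lpe (f3311 IH) (Lpe (f3312 IH) (Lpn (LP (LK LD1_c5 LD2_c2 LD3_c0))))))))))))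
theorem f3327 : Led Lsl_dt (LP (LK LD1_c5 LD2_c0 LD3_c54)) = (LP (LK LD1_c2 LD2_c28 LD3_c10)) :=
  Lre_d IH (LK LD1_c5 LD2_c0 LD3_c54) (LK LD1_c2 LD2_c28 LD3_c10) Lrfl Lrfl
theorem f3328 : Led Lsl_ct (LP (LK LD1_c2 LD2_c28 LD3_c10)) = (LP (LK LD1_c1 LD2_c11 LD3_c18)) :=
  Lre_c IH (LK LD1_c2 LD2_c28 LD3_c10) (LK LD1_c1 LD2_c11 LD3_c18) Lrfl Lrfl
theorem f3348 : Led Lsl_dt (LP (LK LD1_c1 LD2_c11 LD3_c18)) = (LP (LK LD1_c0 LD2_c33 LD3_c3)) :=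
  Lre_d IH (LK LD1_c1 LD2_c11 LD3_c18) (LK LD1_c0 LD2_c33 LD3_c3) Lrfl Lrfl
theorem f3349 : Led Lsl_cf (LP (LK LD1_c0 LD2_c33 LD3_c3)) = (LP (LK LD1_c0 LD2_c33 LD3_c3)) :=
  Lgr Lrot55 (Lpr_dt (f3316 IH) (Lpr_ct (f3317 IH) (Lpr_dt (f3318 IH) (Lpr_ct (f3319 IH) (Lpr_dt (f3312 IH) (Lpr_ct (f3311 IH) (Lpr_dt (f3310 IH) (Lpe (f3150 IH) (Lpr_dt (f3307 IH) (Lpr_ct (f3308 IH) (Lpr_dt (f3309 IH) (Lpr_ct (f3325 IH) (Lpr_dt (f3327 IH) (Lpr_ct (f3328 IH) (Lpr_dt (f3348 IH) (Lpn (LP (LK LD1_c0 LD2_c33 LD3_c3))))))))))))))))))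
theorem f3716 : Led Lsl_ct (LP (LK LD1_c0 LD2_c14 LD3_c52)) = (LP (LK LD1_c0 LD2_c14 LD3_c52)) :=
  Lgr Lrot15 (Lpe (f3714 IH) (Lpr_cf (f3349 IH) (Lpe (f3715 IH) (Lpn (LP (LK LD1_c0 LD2_c14 LD3_c52))))))
theorem f3723 : Led Lsl_at (LP (LK LD1_c0 LD2_c6 LD3_c49)) = (LP (LK LD1_c0 LD2_c14 LD3_c52)) :=
  Lre_a IH (LK LD1_c0 LD2_c6 LD3_c49) (LK LD1_c0 LD2_c14 LD3_c52) Lrfl Lrfl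
theorem f33340 : Led Lsl_ft (LP (LK LD1_c0 LD2_c6 LD3_c49)) = (LP (LK LD1_c0 LD2_c6 LD3_c49)) :=
  Lgr Lrot101 (Lpe (f3724 IH) (Lpr_ff (f33338 IH) (Lpe (f3723 IH) (Lpn (LP (LK LD1_c0 LD2_c6 LD3_c49))))))
theorem f33120 : Led Lsl_df (LP (LK LD1_c0 LD2_c7 LD3_c44)) = (LP (LK LD1_c0 LD2_c5 LD3_c15)) :=
  Lgr Lrot38 (Lpr_dt (f33112 IH) (Lpn (LP (LK LD1_c0 LD2_c5 LD3_c15))))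
theorem f33558 : Led Lsl_df (LP (LK LD1_c0 LD2_c5 LD3_c16)) = (LP (LK LD1_c0 LD2_c7 LD3_c45)) :=
  Lgr Lrot13 (Lpr_ct (f6958 IH) (Lpr_dt (f33346 IH) (Lpr_ct (f3716 IH) (Lpe (f3723 IH) (Lpe (f33340 IH) (Lpe (f21848 IH) (Lpr_ct (f33094 IH) (Lpe (f33120 IH) (Lpr_ct (f8214 IH) (Lpn (LP (LK LD1_c0 LD2_c7 LD3_c45))))))))))))
theorem f33569 : Led Lsl_bt (LP (LK LD1_c0 LD2_c11 LD3_c16)) = (LP (LK LD1_c0 LD2_c14 LD3_c52)) :=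
  Lgr Lrot178 (Lpe (f6958 IH) (Lpr_df (f33558 IH) (Lpr_gf (f8211 IH) (Lpe (f9575 IH) (Lpr_cf (f9586 IH) (Lpr_df (f31057 IH) (Lpe (f2996 IH) (Lpe (f2992 IH) (Lpe (f6888 IH) (Lpe (f2894 IH) (Lpr_gf (f2928 IH) (Lpr_bf (f2938 IH) (Lpr_cf (f28738 IH) (Lpe (f27809 IH) (Lpe (f28775 IH) (Lpe (f28596 IH) (Lpe (f27817 IH) (Lpr_df (f33129 IH) (Lpr_gf (f33342 IH) (Lpn (LP (LK LD1_c0 LD2_c14 LD3_c52))))))))))))))))))))))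
theorem f27770 : Led Lsl_et (LP (LK LD1_c0 LD2_c25 LD3_c19)) = (LP (LK LD1_c0 LD2_c11 LD3_c16)) :=
  Lre_e IH (LK LD1_c0 LD2_c25 LD3_c19) (LK LD1_c0 LD2_c11 LD3_c16) Lrfl Lrfl
theorem f33575 : Led Lsl_bf (LP (LK LD1_c0 LD2_c25 LD3_c19)) = (LP (LK LD1_c0 LD2_c33 LD3_c3)) :=
  Lgr Lrot96 (Lpr_et (f27770 IH) (Lpr_bt (f33569 IH) (Lpr_et (f3715 IH) (Lpn (LP (LK LD1_c0 LD2_c33 LD3_c3))))))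
theorem f33585 : Led Lsl_ft (LP (LK LD1_c0 LD2_c25 LD3_c19)) = (LP (LK LD1_c0 LD2_c55 LD3_c49)) :=
  Lre_f IH (LK LD1_c0 LD2_c25 LD3_c19) (LK LD1_c0 LD2_c55 LD3_c49) Lrfl Lrfl
theorem f33586 : Led Lsl_bt (LP (LK LD1_c0 LD2_c55 LD3_c49)) = (LP (LK LD1_c1 LD2_c11 LD3_c19)) :=
  Lgr Lrot35 (Lpe (f33585 IH) (Lpr_bf (f33575 IH) (Lpe (f3579 IH) (Lpn (LP (LK LD1_c1 LD2_c11 LD3_c19))))))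
theorem f33592 : Led Lsl_bf (LP (LK LD1_c0 LD2_c55 LD3_c49)) = (LP (LK LD1_c1 LD2_c11 LD3_c19)) :=
  Lgr Lrot24 (Lpr_bt (f33586 IH) (Lpn (LP (LK LD1_c1 LD2_c11 LD3_c19))))
theorem f33601 : Led Lsl_ef (LP (LK LD1_c0 LD2_c55 LD3_c49)) = (LP (LK LD1_c0 LD2_c55 LD3_c49)) :=
  Lgr Lrot29 (Lpr_bt (f33586 IH) (Lpr_et (f33331 IH) (Lpe (f33592 IH) (Lpn (LP (LK LD1_c0 LD2_c55 LD3_c49))))))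
theorem f33595 : Led Lsl_ct (LP (LK LD1_c0 LD2_c55 LD3_c49)) = (LP (LK LD1_c0 LD2_c25 LD3_c23)) :=
  Lre_c IH (LK LD1_c0 LD2_c55 LD3_c49) (LK LD1_c0 LD2_c25 LD3_c23) Lrfl Lrfl
theorem f33594 : Led Lsl_ct (LP (LK LD1_c0 LD2_c25 LD3_c23)) = (LP (LK LD1_c0 LD2_c55 LD3_c49)) :=
  Lre_c IH (LK LD1_c0 LD2_c25 LD3_c23) (LK LD1_c0 LD2_c55 LD3_c49) Lrfl Lrfl
theorem f33608 : Led Lsl_et (LP (LK LD1_c0 LD2_c25 LD3_c23)) = (LP (LK LD1_c0 LD2_c25 LD3_c23)) :=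
  Lgr Lrot158 (Lpe (f33595 IH) (Lpr_ef (f33601 IH) (Lpe (f33594 IH) (Lpn (LP (LK LD1_c0 LD2_c25 LD3_c23))))))
theorem f33628 : Led Lsl_ft (LP (LK LD1_c0 LD2_c11 LD3_c17)) = (LP (LK LD1_c0 LD2_c25 LD3_c23)) :=
  Lre_f IH (LK LD1_c0 LD2_c11 LD3_c17) (LK LD1_c0 LD2_c25 LD3_c23) Lrfl Lrfl
theorem f33564 : Led Lsl_et (LP (LK LD1_c0 LD2_c5 LD3_c16)) = (LP (LK LD1_c0 LD2_c11 LD3_c17)) :=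
  Lre_e IH (LK LD1_c0 LD2_c5 LD3_c16) (LK LD1_c0 LD2_c11 LD3_c17) Lrfl Lrfl
theorem f33629 : Led Lsl_ft (LP (LK LD1_c0 LD2_c25 LD3_c23)) = (LP (LK LD1_c0 LD2_c11 LD3_c17)) :=
  Lre_f IH (LK LD1_c0 LD2_c25 LD3_c23) (LK LD1_c0 LD2_c11 LD3_c17) Lrfl Lrfl
theorem f28750 : Led Lsl_et (LP (LK LD1_c0 LD2_c11 LD3_c17)) = (LP (LK LD1_c0 LD2_c5 LD3_c16)) :=
  Lre_e IH (LK LD1_c0 LD2_c11 LD3_c17) (LK LD1_c0 LD2_c5 LD3_c16) Lrfl Lrfl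
theorem f33630 : Led Lsl_ff (LP (LK LD1_c0 LD2_c5 LD3_c16)) = (LP (LK LD1_c0 LD2_c5 LD3_c16)) :=
  Lgr Lrot72 (Lpr_et (f33564 IH) (Lpr_ft (f33628 IH) (Lpr_et (f33608 IH) (Lpr_ft (f33629 IH) (Lpr_et (f28750 IH) (Lpn (LP (LK LD1_c0 LD2_c5 LD3_c16))))))))
theorem f33634 : Led Lsl_at (LP (LK LD1_c0 LD2_c5 LD3_c16)) = (LP (LK LD1_c0 LD2_c5 LD3_c15)) :=
  Lgr Lrot26 (Lpr_ff (f33630 IH) (Lpr_gt (f6953 IH) (Lpr_gt (f493 IH) (Lpn (LP (LK LD1_c0 LD2_c5 LD3_c15))))))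
theorem f33105 : Led Lsl_et (LP (LK LD1_c0 LD2_c5 LD3_c15)) = (LP (LK LD1_c0 LD2_c11 LD3_c15)) :=
  Lre_e IH (LK LD1_c0 LD2_c5 LD3_c15) (LK LD1_c0 LD2_c11 LD3_c15) Lrfl Lrfl
theorem f33640 : Led Lsl_af (LP (LK LD1_c0 LD2_c11 LD3_c17)) = (LP (LK LD1_c0 LD2_c11 LD3_c15)) :=
  Lgr Lrot50 (Lpr_et (f28750 IH) (Lpr_at (f33634 IH) (Lpr_et (f33105 IH) (Lpn (LP (LK LD1_c0 LD2_c11 LD3_c15))))))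
theorem f33579 : Led Lsl_ct (LP (LK LD1_c0 LD2_c25 LD3_c19)) = (LP (LK LD1_c0 LD2_c11 LD3_c17)) :=
  Lre_c IH (LK LD1_c0 LD2_c25 LD3_c19) (LK LD1_c0 LD2_c11 LD3_c17) Lrfl Lrfl
theorem f33553 : Led Lsl_dt (LP (LK LD1_c0 LD2_c55 LD3_c48)) = (LP (LK LD1_c0 LD2_c25 LD3_c19)) :=
  Lre_d IH (LK LD1_c0 LD2_c55 LD3_c48) (LK LD1_c0 LD2_c25 LD3_c19) Lrfl Lrfl
theorem f33674 : Led Lsl_ct (LP (LK LD1_c1 LD2_c57 LD3_c53)) = (LP (LK LD1_c0 LD2_c55 LD3_c48)) :=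
  Lre_c IH (LK LD1_c1 LD2_c57 LD3_c53) (LK LD1_c0 LD2_c55 LD3_c48) Lrfl Lrfl
theorem f33675 : Led Lsl_dt (LP (LK LD1_c4 LD2_c1 LD3_c55)) = (LP (LK LD1_c1 LD2_c57 LD3_c53)) :=
  Lre_d IH (LK LD1_c4 LD2_c1 LD3_c55) (LK LD1_c1 LD2_c57 LD3_c53) Lrfl Lrfl
theorem f33647 : Led Lsl_ft (LP (LK LD1_c0 LD2_c25 LD3_c18)) = (LP (LK LD1_c0 LD2_c11 LD3_c15)) :=
  Lre_f IH (LK LD1_c0 LD2_c25 LD3_c18) (LK LD1_c0 LD2_c11 LD3_c15) Lrfl Lrfl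
theorem f33651 : Led Lsl_dt (LP (LK LD1_c0 LD2_c25 LD3_c18)) = (LP (LK LD1_c0 LD2_c55 LD3_c45)) :=
  Lre_d IH (LK LD1_c0 LD2_c25 LD3_c18) (LK LD1_c0 LD2_c55 LD3_c45) Lrfl Lrfl
theorem f33676 : Led Lsl_ct (LP (LK LD1_c0 LD2_c55 LD3_c45)) = (LP (LK LD1_c1 LD2_c57 LD3_c46)) :=
  Lre_c IH (LK LD1_c0 LD2_c55 LD3_c45) (LK LD1_c1 LD2_c57 LD3_c46) Lrfl Lrfl
theorem f33677 : Led Lsl_dt (LP (LK LD1_c1 LD2_c57 LD3_c46)) = (LP (LK LD1_c4 LD2_c1 LD3_c38)) :=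
  Lre_d IH (LK LD1_c1 LD2_c57 LD3_c46) (LK LD1_c4 LD2_c1 LD3_c38) Lrfl Lrfl
theorem f33678 : Led Lsl_cf (LP (LK LD1_c4 LD2_c1 LD3_c55)) = (LP (LK LD1_c4 LD2_c1 LD3_c38)) :=
  Lgr Lrot116 (Lpr_dt (f33675 IH) (Lpr_ct (f33674 IH) (Lpr_dt (f33553 IH) (Lpr_ct (f33579 IH) (Lpr_af (f33640 IH) (Lpe (f33647 IH) (Lpr_dt (f33651 IH) (Lpr_ct (f33676 IH) (Lpr_dt (f33677 IH) (Lpn (LP (LK LD1_c4 LD2_c1 LD3_c38))))))))))))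
theorem f28751 : Led Lsl_dt (LP (LK LD1_c0 LD2_c11 LD3_c17)) = (LP (LK LD1_c0 LD2_c25 LD3_c22)) :=
  Lre_d IH (LK LD1_c0 LD2_c11 LD3_c17) (LK LD1_c0 LD2_c25 LD3_c22) Lrfl Lrfl
theorem f33684 : Led Lsl_ct (LP (LK LD1_c0 LD2_c25 LD3_c22)) = (LP (LK LD1_c0 LD2_c55 LD3_c58)) :=
  Lre_c IH (LK LD1_c0 LD2_c25 LD3_c22) (LK LD1_c0 LD2_c55 LD3_c58) Lrfl Lrfl
theorem f33695 : Led Lsl_ft (LP (LK LD1_c1 LD2_c57 LD3_c46)) = (LP (LK LD1_c0 LD2_c55 LD3_c44)) :=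
  Lre_f IH (LK LD1_c1 LD2_c57 LD3_c46) (LK LD1_c0 LD2_c55 LD3_c44) Lrfl Lrfl
theorem f33696 : Led Lsl_af (LP (LK LD1_c0 LD2_c55 LD3_c58)) = (LP (LK LD1_c0 LD2_c55 LD3_c44)) :=
  Lgr Lrot109 (Lpe (f33684 IH) (Lpe (f28751 IH) (Lpe (f33579 IH) (Lpe (f33553 IH) (Lpe (f33674 IH) (Lpe (f33675 IH) (Lpr_cf (f33678 IH) (Lpe (f33677 IH) (Lpr_ft (f33695 IH) (Lpn (LP (LK LD1_c0 LD2_c55 LD3_c44))))))))))))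
theorem f33716 : Led Lsl_ft (LP (LK LD1_c0 LD2_c55 LD3_c58)) = (LP (LK LD1_c1 LD2_c58 LD3_c10)) :=
  Lre_f IH (LK LD1_c0 LD2_c55 LD3_c58) (LK LD1_c1 LD2_c58 LD3_c10) Lrfl Lrfl
theorem f33717 : Led Lsl_at (LP (LK LD1_c1 LD2_c58 LD3_c10)) = (LP (LK LD1_c1 LD2_c57 LD3_c46)) :=
  Lgr Lrot66 (Lpe (f33716 IH) (Lpr_af (f33696 IH) (Lpe (f33695 IH) (Lpn (LP (LK LD1_c1 LD2_c57 LD3_c46))))))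
theorem f33740 : Led Lsl_dt (LP (LK LD1_c4 LD2_c2 LD3_c25)) = (LP (LK LD1_c1 LD2_c58 LD3_c10)) :=
  Lre_d IH (LK LD1_c4 LD2_c2 LD3_c25) (LK LD1_c1 LD2_c58 LD3_c10) Lrfl Lrfl
theorem f33741 : Led Lsl_af (LP (LK LD1_c4 LD2_c2 LD3_c25)) = (LP (LK LD1_c4 LD2_c1 LD3_c38)) :=
  Lgr Lrot117 (Lpr_dt (f33740 IH) (Lpr_at (f33717 IH) (Lpr_dt (f33677 IH) (Lpn (LP (LK LD1_c4 LD2_c1 LD3_c38))))))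
theorem f33691 : Led Lsl_ft (LP (LK LD1_c1 LD2_c57 LD3_c45)) = (LP (LK LD1_c4 LD2_c1 LD3_c38)) :=
  Lre_f IH (LK LD1_c1 LD2_c57 LD3_c45) (LK LD1_c4 LD2_c1 LD3_c38) Lrfl Lrfl
theorem f33713 : Led Lsl_dt (LP (LK LD1_c1 LD2_c57 LD3_c45)) = (LP (LK LD1_c0 LD2_c55 LD3_c44)) :=
  Lre_d IH (LK LD1_c1 LD2_c57 LD3_c45) (LK LD1_c0 LD2_c55 LD3_c44) Lrfl Lrfl
theorem f33764 : Led Lsl_ct (LP (LK LD1_c0 LD2_c55 LD3_c44)) = (LP (LK LD1_c0 LD2_c25 LD3_c17)) :=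
  Lre_c IH (LK LD1_c0 LD2_c55 LD3_c44) (LK LD1_c0 LD2_c25 LD3_c17) Lrfl Lrfl
theorem f33666 : Led Lsl_dt (LP (LK LD1_c0 LD2_c25 LD3_c17)) = (LP (LK LD1_c0 LD2_c11 LD3_c15)) :=
  Lre_d IH (LK LD1_c0 LD2_c25 LD3_c17) (LK LD1_c0 LD2_c11 LD3_c15) Lrfl Lrfl
theorem f22003 : Led Lsl_et (LP (LK LD1_c0 LD2_c15 LD3_c10)) = (LP (LK LD1_c0 LD2_c6 LD3_c56)) :=
  Lre_e IH (LK LD1_c0 LD2_c15 LD3_c10) (LK LD1_c0 LD2_c6 LD3_c56) Lrfl Lrfl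
theorem f33106 : Led Lsl_cf (LP (LK LD1_c0 LD2_c15 LD3_c10)) = (LP (LK LD1_c0 LD2_c11 LD3_c15)) :=
  Lgr Lrot39 (Lpr_et (f22003 IH) (Lpr_ct (f33094 IH) (Lpr_et (f33105 IH) (Lpn (LP (LK LD1_c0 LD2_c11 LD3_c15))))))
theorem f21837 : Led Lsl_ct (LP (LK LD1_c0 LD2_c33 LD3_c49)) = (LP (LK LD1_c1 LD2_c12 LD3_c56)) :=
  Lre_c IH (LK LD1_c0 LD2_c33 LD3_c49) (LK LD1_c1 LD2_c12 LD3_c56) Lrfl Lrfl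
theorem f33765 : Led Lsl_cf (LP (LK LD1_c4 LD2_c2 LD3_c25)) = (LP (LK LD1_c2 LD2_c31 LD3_c47)) :=
  Lgr Lrot102 (Lpr_af (f33741 IH) (Lpe (f33691 IH) (Lpr_dt (f33713 IH) (Lpr_ct (f33764 IH) (Lpr_dt (f33666 IH) (Lpe (f33106 IH) (Lpr_dt (f21846 IH) (Lpr_ct (f21837 IH) (Lpr_dt (f21707 IH) (Lpn (LP (LK LD1_c2 LD2_c31 LD3_c47))))))))))))
theorem f33776 : Led Lsl_ct (LP (LK LD1_c1 LD2_c58 LD3_c10)) = (LP (LK LD1_c0 LD2_c55 LD3_c59)) :=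
  Lre_c IH (LK LD1_c1 LD2_c58 LD3_c10) (LK LD1_c0 LD2_c55 LD3_c59) Lrfl Lrfl
theorem f33603 : Led Lsl_dt (LP (LK LD1_c0 LD2_c55 LD3_c59)) = (LP (LK LD1_c0 LD2_c25 LD3_c23)) :=
  Lre_d IH (LK LD1_c0 LD2_c55 LD3_c59) (LK LD1_c0 LD2_c25 LD3_c23) Lrfl Lrfl
theorem f33610 : Led Lsl_dt (LP (LK LD1_c0 LD2_c55 LD3_c49)) = (LP (LK LD1_c1 LD2_c57 LD3_c54)) :=
  Lre_d IH (LK LD1_c0 LD2_c55 LD3_c49) (LK LD1_c1 LD2_c57 LD3_c54) Lrfl Lrfl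
theorem f33777 : Led Lsl_ct (LP (LK LD1_c1 LD2_c57 LD3_c54)) = (LP (LK LD1_c4 LD2_c1 LD3_c56)) :=
  Lre_c IH (LK LD1_c1 LD2_c57 LD3_c54) (LK LD1_c4 LD2_c1 LD3_c56) Lrfl Lrfl
theorem f21739 : Led Lsl_ft (LP (LK LD1_c1 LD2_c12 LD3_c56)) = (LP (LK LD1_c2 LD2_c31 LD3_c48)) :=
  Lre_f IH (LK LD1_c1 LD2_c12 LD3_c56) (LK LD1_c2 LD2_c31 LD3_c48) Lrfl Lrfl
theorem f33788 : Led Lsl_af (LP (LK LD1_c4 LD2_c1 LD3_c56)) = (LP (LK LD1_c2 LD2_c31 LD3_c48)) :=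
  Lgr Lrot109 (Lpe (f33777 IH) (Lpe (f33610 IH) (Lpe (f33594 IH) (Lpe (f33603 IH) (Lpe (f33776 IH) (Lpe (f33740 IH) (Lpr_cf (f33765 IH) (Lpe (f21707 IH) (Lpr_ft (f21739 IH) (Lpn (LP (LK LD1_c2 LD2_c31 LD3_c48))))))))))))
theorem f33817 : Led Lsl_ft (LP (LK LD1_c4 LD2_c1 LD3_c56)) = (LP (LK LD1_c1 LD2_c57 LD3_c53)) :=
  Lre_f IH (LK LD1_c4 LD2_c1 LD3_c56) (LK LD1_c1 LD2_c57 LD3_c53) Lrfl Lrfl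
theorem f33818 : Led Lsl_at (LP (LK LD1_c1 LD2_c57 LD3_c53)) = (LP (LK LD1_c1 LD2_c12 LD3_c56)) :=
  Lgr Lrot66 (Lpe (f33817 IH) (Lpr_af (f33788 IH) (Lpe (f21739 IH) (Lpn (LP (LK LD1_c1 LD2_c12 LD3_c56))))))
theorem f21737 : Led Lsl_et (LP (LK LD1_c1 LD2_c12 LD3_c56)) = (LP (LK LD1_c1 LD2_c11 LD3_c30)) :=
  Lgr Lrot87 (Lpr_ef (f21709 IH) (Lpn (LP (LK LD1_c1 LD2_c11 LD3_c30))))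
theorem f3360 : Led Lsl_at (LP (LK LD1_c1 LD2_c11 LD3_c30)) = (LP (LK LD1_c2 LD2_c28 LD3_c10)) :=
  Lre_a IH (LK LD1_c1 LD2_c11 LD3_c30) (LK LD1_c2 LD2_c28 LD3_c10) Lrfl Lrfl
theorem f33842 : Led Lsl_ef (LP (LK LD1_c1 LD2_c57 LD3_c53)) = (LP (LK LD1_c2 LD2_c28 LD3_c10)) :=
  Lgr Lrot20 (Lpr_at (f33818 IH) (Lpr_et (f21737 IH) (Lpr_at (f3360 IH) (Lpn (LP (LK LD1_c2 LD2_c28 LD3_c10))))))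
theorem f33858 : Led Lsl_ft (LP (LK LD1_c1 LD2_c57 LD3_c53)) = (LP (LK LD1_c4 LD2_c1 LD3_c56)) :=
  Lre_f IH (LK LD1_c1 LD2_c57 LD3_c53) (LK LD1_c4 LD2_c1 LD3_c56) Lrfl Lrfl
theorem f33814 : Led Lsl_et (LP (LK LD1_c4 LD2_c1 LD3_c56)) = (LP (LK LD1_c8 LD2_c4 LD3_c35)) :=
  Lre_e IH (LK LD1_c4 LD2_c1 LD3_c56) (LK LD1_c8 LD2_c4 LD3_c35) Lrfl Lrfl
theorem f3378 : Led Lsl_ft (LP (LK LD1_c5 LD2_c0 LD3_c55)) = (LP (LK LD1_c2 LD2_c28 LD3_c10)) :=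
  Lre_f IH (LK LD1_c5 LD2_c0 LD3_c55) (LK LD1_c2 LD2_c28 LD3_c10) Lrfl Lrfl
theorem f3535 : Led Lsl_et (LP (LK LD1_c9 LD2_c52 LD3_c16)) = (LP (LK LD1_c5 LD2_c0 LD3_c55)) :=
  Lre_e IH (LK LD1_c9 LD2_c52 LD3_c16) (LK LD1_c5 LD2_c0 LD3_c55) Lrfl Lrfl
theorem f33859 : Led Lsl_ft (LP (LK LD1_c8 LD2_c4 LD3_c35)) = (LP (LK LD1_c9 LD2_c52 LD3_c16)) :=
  Lgr Lrot86 (Lpe (f33814 IH) (Lpe (f33858 IH) (Lpr_ef (f33842 IH) (Lpe (f3378 IH) (Lpe (f3535 IH) (Lpn (LP (LK LD1_c9 LD2_c52 LD3_c16))))))))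
theorem f33875 : Led Lsl_ff (LP (LK LD1_c8 LD2_c4 LD3_c35)) = (LP (LK LD1_c9 LD2_c52 LD3_c16)) :=
  Lgr Lrot3 (Lpr_ft (f33859 IH) (Lpn (LP (LK LD1_c9 LD2_c52 LD3_c16))))
theorem f33620 : Led Lsl_dt (LP (LK LD1_c8 LD2_c4 LD3_c35)) = (LP (LK LD1_c15 LD2_c12 LD3_c28)) :=
  Lre_d IH (LK LD1_c8 LD2_c4 LD3_c35) (LK LD1_c15 LD2_c12 LD3_c28) Lrfl Lrfl
theorem f3534 : Led Lsl_dt (LP (LK LD1_c18 LD2_c4 LD3_c14)) = (LP (LK LD1_c9 LD2_c52 LD3_c16)) :=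
  Lre_d IH (LK LD1_c18 LD2_c4 LD3_c14) (LK LD1_c9 LD2_c52 LD3_c16) Lrfl Lrfl
theorem f33890 : Led Lsl_ft (LP (LK LD1_c15 LD2_c12 LD3_c28)) = (LP (LK LD1_c18 LD2_c4 LD3_c14)) :=
  Lgr Lrot54 (Lpe (f33620 IH) (Lpr_ff (f33875 IH) (Lpe (f3534 IH) (Lpn (LP (LK LD1_c18 LD2_c4 LD3_c14))))))
theorem f33617 : Led Lsl_dt (LP (LK LD1_c15 LD2_c12 LD3_c28)) = (LP (LK LD1_c8 LD2_c4 LD3_c35)) :=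
  Lre_d IH (LK LD1_c15 LD2_c12 LD3_c28) (LK LD1_c8 LD2_c4 LD3_c35) Lrfl Lrfl
theorem f33616 : Led Lsl_ct (LP (LK LD1_c8 LD2_c4 LD3_c35)) = (LP (LK LD1_c4 LD2_c1 LD3_c57)) :=
  Lre_c IH (LK LD1_c8 LD2_c4 LD3_c35) (LK LD1_c4 LD2_c1 LD3_c57) Lrfl Lrfl
theorem f33611 : Led Lsl_et (LP (LK LD1_c1 LD2_c57 LD3_c54)) = (LP (LK LD1_c4 LD2_c1 LD3_c57)) :=
  Lre_e IH (LK LD1_c1 LD2_c57 LD3_c54) (LK LD1_c4 LD2_c1 LD3_c57) Lrfl Lrfl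
theorem f33598 : Led Lsl_dt (LP (LK LD1_c1 LD2_c57 LD3_c54)) = (LP (LK LD1_c0 LD2_c55 LD3_c49)) :=
  Lre_d IH (LK LD1_c1 LD2_c57 LD3_c54) (LK LD1_c0 LD2_c55 LD3_c49) Lrfl Lrfl
theorem f33612 : Led Lsl_et (LP (LK LD1_c4 LD2_c1 LD3_c57)) = (LP (LK LD1_c1 LD2_c57 LD3_c54)) :=
  Lre_e IH (LK LD1_c4 LD2_c1 LD3_c57) (LK LD1_c1 LD2_c57 LD3_c54) Lrfl Lrfl
theorem f33613 : Led Lsl_dt (LP (LK LD1_c4 LD2_c1 LD3_c57)) = (LP (LK LD1_c4 LD2_c1 LD3_c57)) :=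
  Lgr Lrot77 (Lpe (f33611 IH) (Lpe (f33610 IH) (Lpr_ef (f33601 IH) (Lpe (f33598 IH) (Lpe (f33612 IH) (Lpn (LP (LK LD1_c4 LD2_c1 LD3_c57))))))))
theorem f33619 : Led Lsl_ct (LP (LK LD1_c4 LD2_c1 LD3_c57)) = (LP (LK LD1_c8 LD2_c4 LD3_c35)) :=
  Lre_c IH (LK LD1_c4 LD2_c1 LD3_c57) (LK LD1_c8 LD2_c4 LD3_c35) Lrfl Lrfl
theorem f33621 : Led Lsl_ct (LP (LK LD1_c15 LD2_c12 LD3_c28)) = (LP (LK LD1_c25 LD2_c1 LD3_c27)) :=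
  Lre_c IH (LK LD1_c15 LD2_c12 LD3_c28) (LK LD1_c25 LD2_c1 LD3_c27) Lrfl Lrfl
theorem f3524 : Led Lsl_at (LP (LK LD1_c18 LD2_c4 LD3_c14)) = (LP (LK LD1_c9 LD2_c54 LD3_c45)) :=
  Lre_a IH (LK LD1_c18 LD2_c4 LD3_c14) (LK LD1_c9 LD2_c54 LD3_c45) Lrfl Lrfl
theorem f21807 : Led Lsl_ct (LP (LK LD1_c18 LD2_c8 LD3_c45)) = (LP (LK LD1_c9 LD2_c54 LD3_c45)) :=
  Lre_c IH (LK LD1_c18 LD2_c8 LD3_c45) (LK LD1_c9 LD2_c54 LD3_c45) Lrfl Lrfl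
theorem f33912 : Led Lsl_dt (LP (LK LD1_c25 LD2_c1 LD3_c27)) = (LP (LK LD1_c18 LD2_c8 LD3_c45)) :=
  Lgr Lrot120 (Lpe (f33621 IH) (Lpe (f33620 IH) (Lpe (f33619 IH) (Lpe (f33613 IH) (Lpe (f33616 IH) (Lpe (f33617 IH) (Lpr_ft (f33890 IH) (Lpr_at (f3524 IH) (Lpe (f21807 IH) (Lpn (LP (LK LD1_c18 LD2_c8 LD3_c45))))))))))))
theorem f21777 : Led Lsl_at (LP (LK LD1_c9 LD2_c52 LD3_c16)) = (LP (LK LD1_c5 LD2_c2 LD3_c1)) :=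
  Lre_a IH (LK LD1_c9 LD2_c52 LD3_c16) (LK LD1_c5 LD2_c2 LD3_c1) Lrfl Lrfl
theorem f21781 : Led Lsl_ct (LP (LK LD1_c2 LD2_c28 LD3_c39)) = (LP (LK LD1_c5 LD2_c2 LD3_c1)) :=
  Lre_c IH (LK LD1_c2 LD2_c28 LD3_c39) (LK LD1_c5 LD2_c2 LD3_c1) Lrfl Lrfl
theorem f21782 : Led Lsl_dt (LP (LK LD1_c9 LD2_c54 LD3_c45)) = (LP (LK LD1_c5 LD2_c2 LD3_c1)) :=
  Lre_d IH (LK LD1_c9 LD2_c54 LD3_c45) (LK LD1_c5 LD2_c2 LD3_c1) Lrfl Lrfl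
theorem f21757 : Led Lsl_ct (LP (LK LD1_c5 LD2_c2 LD3_c1)) = (LP (LK LD1_c2 LD2_c28 LD3_c39)) :=
  Lre_c IH (LK LD1_c5 LD2_c2 LD3_c1) (LK LD1_c2 LD2_c28 LD3_c39) Lrfl Lrfl
theorem f33918 : Led Lsl_df (LP (LK LD1_c2 LD2_c28 LD3_c39)) = (LP (LK LD1_c2 LD2_c28 LD3_c39)) :=
  Lgr Lrot177 (Lpr_ct (f21781 IH) (Lpe (f21777 IH) (Lpe (f33859 IH) (Lpr_dt (f33620 IH) (Lpr_ct (f33621 IH) (Lpr_dt (f33912 IH) (Lpr_ct (f21807 IH) (Lpr_dt (f21782 IH) (Lpr_ct (f21757 IH) (Lpn (LP (LK LD1_c2 LD2_c28 LD3_c39))))))))))))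
theorem f21759 : Led Lsl_dt (LP (LK LD1_c5 LD2_c2 LD3_c1)) = (LP (LK LD1_c9 LD2_c54 LD3_c45)) :=
  Lre_d IH (LK LD1_c5 LD2_c2 LD3_c1) (LK LD1_c9 LD2_c54 LD3_c45) Lrfl Lrfl
theorem f21787 : Led Lsl_ct (LP (LK LD1_c9 LD2_c54 LD3_c45)) = (LP (LK LD1_c18 LD2_c8 LD3_c45)) :=
  Lre_c IH (LK LD1_c9 LD2_c54 LD3_c45) (LK LD1_c18 LD2_c8 LD3_c45) Lrfl Lrfl
theorem f33914 : Led Lsl_df (LP (LK LD1_c25 LD2_c1 LD3_c27)) = (LP (LK LD1_c18 LD2_c8 LD3_c45)) :=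
  Lgr Lrot38 (Lpr_dt (f33912 IH) (Lpn (LP (LK LD1_c18 LD2_c8 LD3_c45))))
theorem f33618 : Led Lsl_ct (LP (LK LD1_c25 LD2_c1 LD3_c27)) = (LP (LK LD1_c15 LD2_c12 LD3_c28)) :=
  Lre_c IH (LK LD1_c25 LD2_c1 LD3_c27) (LK LD1_c15 LD2_c12 LD3_c28) Lrfl Lrfl
theorem f21346 : Led Lsl_bt (LP (LK LD1_c2 LD2_c31 LD3_c49)) = (LP (LK LD1_c1 LD2_c13 LD3_c20)) :=
  Lre_b IH (LK LD1_c2 LD2_c31 LD3_c49) (LK LD1_c1 LD2_c13 LD3_c20) Lrfl Lrfl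
theorem f21347 : Led Lsl_bt (LP (LK LD1_c1 LD2_c11 LD3_c55)) = (LP (LK LD1_c2 LD2_c28 LD3_c39)) :=
  Lre_b IH (LK LD1_c1 LD2_c11 LD3_c55) (LK LD1_c2 LD2_c28 LD3_c39) Lrfl Lrfl
theorem f21348 : Led Lsl_ff (LP (LK LD1_c2 LD2_c31 LD3_c49)) = (LP (LK LD1_c2 LD2_c28 LD3_c39)) :=
  Lgr Lrot25 (Lpr_bt (f21346 IH) (Lpr_ft (f21343 IH) (Lpr_bt (f21347 IH) (Lpn (LP (LK LD1_c2 LD2_c28 LD3_c39))))))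
theorem f33927 : Led Lsl_af (LP (LK LD1_c4 LD2_c1 LD3_c57)) = (LP (LK LD1_c2 LD2_c31 LD3_c49)) :=
  Lgr Lrot109 (Lpe (f33616 IH) (Lpe (f33617 IH) (Lpe (f33618 IH) (Lpr_df (f33914 IH) (Lpe (f21787 IH) (Lpe (f21759 IH) (Lpe (f21781 IH) (Lpr_df (f33918 IH) (Lpe (f21348 IH) (Lpn (LP (LK LD1_c2 LD2_c31 LD3_c49))))))))))))
theorem f33937 : Led Lsl_at (LP (LK LD1_c4 LD2_c1 LD3_c57)) = (LP (LK LD1_c2 LD2_c31 LD3_c49)) :=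
  Lgr Lrot100 (Lpr_af (f33927 IH) (Lpn (LP (LK LD1_c2 LD2_c31 LD3_c49))))
theorem f21851 : Led Lsl_et (LP (LK LD1_c2 LD2_c31 LD3_c49)) = (LP (LK LD1_c1 LD2_c12 LD3_c57)) :=
  Lre_e IH (LK LD1_c2 LD2_c31 LD3_c49) (LK LD1_c1 LD2_c12 LD3_c57) Lrfl Lrfl
theorem f33945 : Led Lsl_af (LP (LK LD1_c1 LD2_c57 LD3_c54)) = (LP (LK LD1_c1 LD2_c12 LD3_c57)) :=
  Lgr Lrot50 (Lpr_et (f33611 IH) (Lpr_at (f33937 IH) (Lpr_et (f21851 IH) (Lpn (LP (LK LD1_c1 LD2_c12 LD3_c57))))))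
theorem f33983 : Led Lsl_ft (LP (LK LD1_c1 LD2_c57 LD3_c54)) = (LP (LK LD1_c0 LD2_c55 LD3_c48)) :=
  Lre_f IH (LK LD1_c1 LD2_c57 LD3_c54) (LK LD1_c0 LD2_c55 LD3_c48) Lrfl Lrfl
theorem f21973 : Led Lsl_ft (LP (LK LD1_c0 LD2_c33 LD3_c49)) = (LP (LK LD1_c1 LD2_c12 LD3_c57)) :=
  Lre_f IH (LK LD1_c0 LD2_c33 LD3_c49) (LK LD1_c1 LD2_c12 LD3_c57) Lrfl Lrfl
theorem f33984 : Led Lsl_at (LP (LK LD1_c0 LD2_c55 LD3_c48)) = (LP (LK LD1_c0 LD2_c33 LD3_c49)) :=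
  Lgr Lrot66 (Lpe (f33983 IH) (Lpr_af (f33945 IH) (Lpe (f21973 IH) (Lpn (LP (LK LD1_c0 LD2_c33 LD3_c49))))))
theorem f27771 : Led Lsl_dt (LP (LK LD1_c0 LD2_c25 LD3_c19)) = (LP (LK LD1_c0 LD2_c55 LD3_c48)) :=
  Lre_d IH (LK LD1_c0 LD2_c25 LD3_c19) (LK LD1_c0 LD2_c55 LD3_c48) Lrfl Lrfl
theorem f21853 : Led Lsl_dt (LP (LK LD1_c0 LD2_c33 LD3_c49)) = (LP (LK LD1_c0 LD2_c15 LD3_c10)) :=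
  Lre_d IH (LK LD1_c0 LD2_c33 LD3_c49) (LK LD1_c0 LD2_c15 LD3_c10) Lrfl Lrfl
theorem f33998 : Led Lsl_af (LP (LK LD1_c0 LD2_c25 LD3_c19)) = (LP (LK LD1_c0 LD2_c15 LD3_c10)) :=
  Lgr Lrot117 (Lpr_dt (f27771 IH) (Lpr_at (f33984 IH) (Lpr_dt (f21853 IH) (Lpn (LP (LK LD1_c0 LD2_c15 LD3_c10))))))
theorem f33580 : Led Lsl_ct (LP (LK LD1_c0 LD2_c11 LD3_c17)) = (LP (LK LD1_c0 LD2_c25 LD3_c19)) :=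
  Lre_c IH (LK LD1_c0 LD2_c11 LD3_c17) (LK LD1_c0 LD2_c25 LD3_c19) Lrfl Lrfl
theorem f34019 : Led Lsl_dt (LP (LK LD1_c0 LD2_c25 LD3_c22)) = (LP (LK LD1_c0 LD2_c11 LD3_c17)) :=
  Lre_d IH (LK LD1_c0 LD2_c25 LD3_c22) (LK LD1_c0 LD2_c11 LD3_c17) Lrfl Lrfl
theorem f33711 : Led Lsl_ct (LP (LK LD1_c0 LD2_c55 LD3_c58)) = (LP (LK LD1_c0 LD2_c25 LD3_c22)) :=
  Lre_c IH (LK LD1_c0 LD2_c55 LD3_c58) (LK LD1_c0 LD2_c25 LD3_c22) Lrfl Lrfl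
theorem f34020 : Led Lsl_dt (LP (LK LD1_c1 LD2_c58 LD3_c9)) = (LP (LK LD1_c0 LD2_c55 LD3_c58)) :=
  Lre_d IH (LK LD1_c1 LD2_c58 LD3_c9) (LK LD1_c0 LD2_c55 LD3_c58) Lrfl Lrfl
theorem f34021 : Led Lsl_ct (LP (LK LD1_c4 LD2_c2 LD3_c23)) = (LP (LK LD1_c1 LD2_c58 LD3_c9)) :=
  Lre_c IH (LK LD1_c4 LD2_c2 LD3_c23) (LK LD1_c1 LD2_c58 LD3_c9) Lrfl Lrfl
theorem f34016 : Led Lsl_ft (LP (LK LD1_c0 LD2_c33 LD3_c50)) = (LP (LK LD1_c0 LD2_c15 LD3_c10)) :=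
  Lre_f IH (LK LD1_c0 LD2_c33 LD3_c50) (LK LD1_c0 LD2_c15 LD3_c10) Lrfl Lrfl
theorem f33980 : Led Lsl_dt (LP (LK LD1_c0 LD2_c33 LD3_c50)) = (LP (LK LD1_c1 LD2_c12 LD3_c57)) :=
  Lre_d IH (LK LD1_c0 LD2_c33 LD3_c50) (LK LD1_c1 LD2_c12 LD3_c57) Lrfl Lrfl
theorem f33811 : Led Lsl_ct (LP (LK LD1_c1 LD2_c12 LD3_c57)) = (LP (LK LD1_c2 LD2_c31 LD3_c48)) :=
  Lre_c IH (LK LD1_c1 LD2_c12 LD3_c57) (LK LD1_c2 LD2_c31 LD3_c48) Lrfl Lrfl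
theorem f34022 : Led Lsl_df (LP (LK LD1_c4 LD2_c2 LD3_c23)) = (LP (LK LD1_c2 LD2_c31 LD3_c48)) :=
  Lgr Lrot106 (Lpr_ct (f34021 IH) (Lpr_dt (f34020 IH) (Lpr_ct (f33711 IH) (Lpr_dt (f34019 IH) (Lpr_ct (f33580 IH) (Lpr_af (f33998 IH) (Lpe (f34016 IH) (Lpr_dt (f33980 IH) (Lpr_ct (f33811 IH) (Lpn (LP (LK LD1_c2 LD2_c31 LD3_c48))))))))))))
theorem f33702 : Led Lsl_ct (LP (LK LD1_c0 LD2_c55 LD3_c48)) = (LP (LK LD1_c1 LD2_c57 LD3_c53)) :=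
  Lre_c IH (LK LD1_c0 LD2_c55 LD3_c48) (LK LD1_c1 LD2_c57 LD3_c53) Lrfl Lrfl
theorem f33699 : Led Lsl_dt (LP (LK LD1_c1 LD2_c57 LD3_c53)) = (LP (LK LD1_c4 LD2_c1 LD3_c55)) :=
  Lre_d IH (LK LD1_c1 LD2_c57 LD3_c53) (LK LD1_c4 LD2_c1 LD3_c55) Lrfl Lrfl
theorem f33682 : Led Lsl_ct (LP (LK LD1_c4 LD2_c1 LD3_c55)) = (LP (LK LD1_c4 LD2_c1 LD3_c38)) :=
  Lgr Lrot59 (Lpr_cf (f33678 IH) (Lpn (LP (LK LD1_c4 LD2_c1 LD3_c38))))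
theorem f33723 : Led Lsl_dt (LP (LK LD1_c4 LD2_c1 LD3_c38)) = (LP (LK LD1_c1 LD2_c57 LD3_c46)) :=
  Lre_d IH (LK LD1_c4 LD2_c1 LD3_c38) (LK LD1_c1 LD2_c57 LD3_c46) Lrfl Lrfl
theorem f33724 : Led Lsl_ct (LP (LK LD1_c1 LD2_c57 LD3_c46)) = (LP (LK LD1_c0 LD2_c55 LD3_c45)) :=
  Lre_c IH (LK LD1_c1 LD2_c57 LD3_c46) (LK LD1_c0 LD2_c55 LD3_c45) Lrfl Lrfl
theorem f33650 : Led Lsl_dt (LP (LK LD1_c0 LD2_c55 LD3_c45)) = (LP (LK LD1_c0 LD2_c25 LD3_c18)) :=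
  Lre_d IH (LK LD1_c0 LD2_c55 LD3_c45) (LK LD1_c0 LD2_c25 LD3_c18) Lrfl Lrfl
theorem f34027 : Led Lsl_ct (LP (LK LD1_c0 LD2_c25 LD3_c18)) = (LP (LK LD1_c0 LD2_c33 LD3_c50)) :=
  Lgr Lrot176 (Lpe (f33650 IH) (Lpe (f33724 IH) (Lpe (f33723 IH) (Lpe (f33682 IH) (Lpe (f33699 IH) (Lpe (f33702 IH) (Lpe (f27771 IH) (Lpe (f33580 IH) (Lpe (f34019 IH) (Lpe (f33711 IH) (Lpe (f34020 IH) (Lpe (f34021 IH) (Lpr_df (f34022 IH) (Lpe (f33811 IH) (Lpe (f33980 IH) (Lpn (LP (LK LD1_c0 LD2_c33 LD3_c50))))))))))))))))))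
theorem f34038 : Led Lsl_ft (LP (LK LD1_c0 LD2_c55 LD3_c45)) = (LP (LK LD1_c0 LD2_c25 LD3_c17)) :=
  Lre_f IH (LK LD1_c0 LD2_c55 LD3_c45) (LK LD1_c0 LD2_c25 LD3_c17) Lrfl Lrfl
theorem f34039 : Led Lsl_af (LP (LK LD1_c0 LD2_c25 LD3_c22)) = (LP (LK LD1_c0 LD2_c25 LD3_c17)) :=
  Lgr Lrot109 (Lpe (f33711 IH) (Lpe (f34020 IH) (Lpe (f34021 IH) (Lpr_df (f34022 IH) (Lpe (f33811 IH) (Lpe (f33980 IH) (Lpe (f34027 IH) (Lpe (f33650 IH) (Lpr_ft (f34038 IH) (Lpn (LP (LK LD1_c0 LD2_c25 LD3_c17))))))))))))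
theorem f34044 : Led Lsl_ft (LP (LK LD1_c0 LD2_c25 LD3_c22)) = (LP (LK LD1_c0 LD2_c55 LD3_c59)) :=
  Lre_f IH (LK LD1_c0 LD2_c25 LD3_c22) (LK LD1_c0 LD2_c55 LD3_c59) Lrfl Lrfl
theorem f34045 : Led Lsl_at (LP (LK LD1_c0 LD2_c55 LD3_c59)) = (LP (LK LD1_c0 LD2_c55 LD3_c45)) :=
  Lgr Lrot66 (Lpe (f34044 IH) (Lpr_af (f34039 IH) (Lpe (f34038 IH) (Lpn (LP (LK LD1_c0 LD2_c55 LD3_c45))))))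
theorem f33624 : Led Lsl_dt (LP (LK LD1_c0 LD2_c25 LD3_c23)) = (LP (LK LD1_c0 LD2_c55 LD3_c59)) :=
  Lre_d IH (LK LD1_c0 LD2_c25 LD3_c23) (LK LD1_c0 LD2_c55 LD3_c59) Lrfl Lrfl
theorem f34059 : Led Lsl_af (LP (LK LD1_c0 LD2_c25 LD3_c23)) = (LP (LK LD1_c0 LD2_c25 LD3_c18)) :=
  Lgr Lrot117 (Lpr_dt (f33624 IH) (Lpr_at (f34045 IH) (Lpr_dt (f33650 IH) (Lpn (LP (LK LD1_c0 LD2_c25 LD3_c18))))))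
theorem f33810 : Led Lsl_ct (LP (LK LD1_c4 LD2_c1 LD3_c56)) = (LP (LK LD1_c1 LD2_c57 LD3_c54)) :=
  Lre_c IH (LK LD1_c4 LD2_c1 LD3_c56) (LK LD1_c1 LD2_c57 LD3_c54) Lrfl Lrfl
theorem f33646 : Led Lsl_ft (LP (LK LD1_c0 LD2_c11 LD3_c15)) = (LP (LK LD1_c0 LD2_c25 LD3_c18)) :=
  Lre_f IH (LK LD1_c0 LD2_c11 LD3_c15) (LK LD1_c0 LD2_c25 LD3_c18) Lrfl Lrfl
theorem f27939 : Led Lsl_dt (LP (LK LD1_c0 LD2_c11 LD3_c15)) = (LP (LK LD1_c0 LD2_c25 LD3_c17)) :=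
  Lre_d IH (LK LD1_c0 LD2_c11 LD3_c15) (LK LD1_c0 LD2_c25 LD3_c17) Lrfl Lrfl
theorem f33712 : Led Lsl_ct (LP (LK LD1_c0 LD2_c25 LD3_c17)) = (LP (LK LD1_c0 LD2_c55 LD3_c44)) :=
  Lre_c IH (LK LD1_c0 LD2_c25 LD3_c17) (LK LD1_c0 LD2_c55 LD3_c44) Lrfl Lrfl
theorem f33822 : Led Lsl_dt (LP (LK LD1_c0 LD2_c55 LD3_c44)) = (LP (LK LD1_c1 LD2_c57 LD3_c45)) :=
  Lre_d IH (LK LD1_c0 LD2_c55 LD3_c44) (LK LD1_c1 LD2_c57 LD3_c45) Lrfl Lrfl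
theorem f33826 : Led Lsl_ct (LP (LK LD1_c1 LD2_c57 LD3_c45)) = (LP (LK LD1_c4 LD2_c1 LD3_c36)) :=
  Lre_c IH (LK LD1_c1 LD2_c57 LD3_c45) (LK LD1_c4 LD2_c1 LD3_c36) Lrfl Lrfl
theorem f34078 : Led Lsl_df (LP (LK LD1_c4 LD2_c1 LD3_c56)) = (LP (LK LD1_c4 LD2_c1 LD3_c36)) :=
  Lgr Lrot13 (Lpr_ct (f33810 IH) (Lpr_dt (f33598 IH) (Lpr_ct (f33595 IH) (Lpr_af (f34059 IH) (Lpe (f33646 IH) (Lpr_dt (f27939 IH) (Lpr_ct (f33712 IH) (Lpr_dt (f33822 IH) (Lpr_ct (f33826 IH) (Lpn (LP (LK LD1_c4 LD2_c1 LD3_c36))))))))))))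
theorem f33737 : Led Lsl_ct (LP (LK LD1_c0 LD2_c55 LD3_c59)) = (LP (LK LD1_c1 LD2_c58 LD3_c10)) :=
  Lre_c IH (LK LD1_c0 LD2_c55 LD3_c59) (LK LD1_c1 LD2_c58 LD3_c10) Lrfl Lrfl
theorem f33790 : Led Lsl_dt (LP (LK LD1_c1 LD2_c58 LD3_c10)) = (LP (LK LD1_c4 LD2_c2 LD3_c25)) :=
  Lre_d IH (LK LD1_c1 LD2_c58 LD3_c10) (LK LD1_c4 LD2_c2 LD3_c25) Lrfl Lrfl
theorem f33774 : Led Lsl_ct (LP (LK LD1_c4 LD2_c2 LD3_c25)) = (LP (LK LD1_c2 LD2_c31 LD3_c47)) :=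
  Lgr Lrot59 (Lpr_cf (f33765 IH) (Lpn (LP (LK LD1_c2 LD2_c31 LD3_c47))))
theorem f21838 : Led Lsl_dt (LP (LK LD1_c2 LD2_c31 LD3_c47)) = (LP (LK LD1_c1 LD2_c12 LD3_c56)) :=
  Lre_d IH (LK LD1_c2 LD2_c31 LD3_c47) (LK LD1_c1 LD2_c12 LD3_c56) Lrfl Lrfl
theorem f34085 : Led Lsl_ct (LP (LK LD1_c0 LD2_c15 LD3_c10)) = (LP (LK LD1_c0 LD2_c11 LD3_c15)) :=
  Lgr Lrot176 (Lpe (f21853 IH) (Lpe (f21734 IH) (Lpe (f21838 IH) (Lpe (f33774 IH) (Lpe (f33790 IH) (Lpe (f33737 IH) (Lpe (f33624 IH) (Lpe (f33595 IH) (Lpe (f33598 IH) (Lpe (f33810 IH) (Lpr_df (f34078 IH) (Lpe (f33826 IH) (Lpe (f33822 IH) (Lpe (f33712 IH) (Lpe (f27939 IH) (Lpn (LP (LK LD1_c0 LD2_c11 LD3_c15))))))))))))))))))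
theorem f34011 : Led Lsl_bt (LP (LK LD1_c0 LD2_c6 LD3_c57)) = (LP (LK LD1_c0 LD2_c15 LD3_c10)) :=
  Lre_b IH (LK LD1_c0 LD2_c6 LD3_c57) (LK LD1_c0 LD2_c15 LD3_c10) Lrfl Lrfl
theorem f22105 : Led Lsl_ct (LP (LK LD1_c0 LD2_c3 LD3_c10)) = (LP (LK LD1_c0 LD2_c6 LD3_c57)) :=
  Lre_c IH (LK LD1_c0 LD2_c3 LD3_c10) (LK LD1_c0 LD2_c6 LD3_c57) Lrfl Lrfl
theorem f34613 : Led Lsl_bt (LP (LK LD1_c0 LD2_c6 LD3_c55)) = (LP (LK LD1_c0 LD2_c3 LD3_c10)) :=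
  Lre_b IH (LK LD1_c0 LD2_c6 LD3_c55) (LK LD1_c0 LD2_c3 LD3_c10) Lrfl Lrfl
theorem f28586 : Led Lsl_et (LP (LK LD1_c0 LD2_c6 LD3_c55)) = (LP (LK LD1_c0 LD2_c3 LD3_c8)) :=
  Lre_e IH (LK LD1_c0 LD2_c6 LD3_c55) (LK LD1_c0 LD2_c3 LD3_c8) Lrfl Lrfl
theorem f28587 : Led Lsl_et (LP (LK LD1_c0 LD2_c6 LD3_c29)) = (LP (LK LD1_c0 LD2_c14 LD3_c7)) :=
  Lre_e IH (LK LD1_c0 LD2_c6 LD3_c29) (LK LD1_c0 LD2_c14 LD3_c7) Lrfl Lrfl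
theorem f28588 : Led Lsl_cf (LP (LK LD1_c0 LD2_c6 LD3_c55)) = (LP (LK LD1_c0 LD2_c14 LD3_c7)) :=
  Lgr Lrot39 (Lpr_et (f28586 IH) (Lpr_ct (f28582 IH) (Lpr_et (f28587 IH) (Lpn (LP (LK LD1_c0 LD2_c14 LD3_c7))))))
theorem f34614 : Led Lsl_bf (LP (LK LD1_c0 LD2_c14 LD3_c7)) = (LP (LK LD1_c0 LD2_c11 LD3_c15)) :=
  Lgr Lrot90 (Lpe (f28588 IH) (Lpr_bt (f34613 IH) (Lpr_ct (f22105 IH) (Lpr_bt (f34011 IH) (Lpr_ct (f34085 IH) (Lpn (LP (LK LD1_c0 LD2_c11 LD3_c15))))))))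
theorem f34636 : Led Lsl_ft (LP (LK LD1_c0 LD2_c14 LD3_c7)) = (LP (LK LD1_c0 LD2_c31 LD3_c46)) :=
  Lre_f IH (LK LD1_c0 LD2_c14 LD3_c7) (LK LD1_c0 LD2_c31 LD3_c46) Lrfl Lrfl
theorem f34637 : Led Lsl_bt (LP (LK LD1_c0 LD2_c31 LD3_c46)) = (LP (LK LD1_c0 LD2_c25 LD3_c18)) :=
  Lgr Lrot35 (Lpe (f34636 IH) (Lpr_bf (f34614 IH) (Lpe (f33647 IH) (Lpn (LP (LK LD1_c0 LD2_c25 LD3_c18))))))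
theorem f33636 : Led Lsl_af (LP (LK LD1_c0 LD2_c5 LD3_c16)) = (LP (LK LD1_c0 LD2_c5 LD3_c15)) :=
  Lgr Lrot0 (Lpr_at (f33634 IH) (Lpn (LP (LK LD1_c0 LD2_c5 LD3_c15))))
theorem f33642 : Led Lsl_ff (LP (LK LD1_c0 LD2_c5 LD3_c15)) = (LP (LK LD1_c0 LD2_c5 LD3_c15)) :=
  Lgr Lrot30 (Lpe (f33636 IH) (Lpe (f33630 IH) (Lpr_at (f33634 IH) (Lpn (LP (LK LD1_c0 LD2_c5 LD3_c15))))))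
theorem f27938 : Led Lsl_et (LP (LK LD1_c0 LD2_c11 LD3_c15)) = (LP (LK LD1_c0 LD2_c5 LD3_c15)) :=
  Lre_e IH (LK LD1_c0 LD2_c11 LD3_c15) (LK LD1_c0 LD2_c5 LD3_c15) Lrfl Lrfl
theorem f33648 : Led Lsl_et (LP (LK LD1_c0 LD2_c25 LD3_c18)) = (LP (LK LD1_c0 LD2_c25 LD3_c18)) :=
  Lgr Lrot69 (Lpe (f33646 IH) (Lpe (f33105 IH) (Lpr_ff (f33642 IH) (Lpe (f27938 IH) (Lpe (f33647 IH) (Lpn (LP (LK LD1_c0 LD2_c25 LD3_c18))))))))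
theorem f34639 : Led Lsl_bf (LP (LK LD1_c0 LD2_c31 LD3_c46)) = (LP (LK LD1_c0 LD2_c25 LD3_c18)) :=
  Lgr Lrot24 (Lpr_bt (f34637 IH) (Lpn (LP (LK LD1_c0 LD2_c25 LD3_c18))))
theorem f34648 : Led Lsl_ef (LP (LK LD1_c0 LD2_c31 LD3_c46)) = (LP (LK LD1_c0 LD2_c31 LD3_c46)) :=
  Lgr Lrot29 (Lpr_bt (f34637 IH) (Lpr_et (f33648 IH) (Lpe (f34639 IH) (Lpn (LP (LK LD1_c0 LD2_c31 LD3_c46))))))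
theorem f34653 : Led Lsl_ft (LP (LK LD1_c0 LD2_c31 LD3_c46)) = (LP (LK LD1_c0 LD2_c14 LD3_c7)) :=
  Lre_f IH (LK LD1_c0 LD2_c31 LD3_c46) (LK LD1_c0 LD2_c14 LD3_c7) Lrfl Lrfl
theorem f2905 : Led Lsl_et (LP (LK LD1_c0 LD2_c14 LD3_c7)) = (LP (LK LD1_c0 LD2_c6 LD3_c29)) :=
  Lre_e IH (LK LD1_c0 LD2_c14 LD3_c7) (LK LD1_c0 LD2_c6 LD3_c29) Lrfl Lrfl
theorem f34654 : Led Lsl_ft (LP (LK LD1_c0 LD2_c6 LD3_c29)) = (LP (LK LD1_c0 LD2_c6 LD3_c29)) :=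
  Lgr Lrot86 (Lpe (f2905 IH) (Lpe (f34653 IH) (Lpr_ef (f34648 IH) (Lpe (f34636 IH) (Lpe (f28587 IH) (Lpn (LP (LK LD1_c0 LD2_c6 LD3_c29))))))))
theorem f223 : Led Lsl_bt (LP (LK LD1_c0 LD2_c1 LD3_c31)) = (LP (LK LD1_c0 LD2_c3 LD3_c34)) :=
  Lre_b IH (LK LD1_c0 LD2_c1 LD3_c31) (LK LD1_c0 LD2_c3 LD3_c34) Lrfl Lrfl
theorem f224 : Led Lsl_gt (LP (LK LD1_c0 LD2_c3 LD3_c34)) = (LP (LK LD1_c0 LD2_c7 LD3_c52)) :=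
  Lre_g IH (LK LD1_c0 LD2_c3 LD3_c34) (LK LD1_c0 LD2_c7 LD3_c52) Lrfl Lrfl
theorem f8221 : Led Lsl_bt (LP (LK LD1_c0 LD2_c7 LD3_c44)) = (LP (LK LD1_c0 LD2_c7 LD3_c52)) :=
  Lgr Lrot92 (Lpr_ct (f8214 IH) (Lpr_gt (f6994 IH) (Lpe (f8194 IH) (Lpr_bt (f7086 IH) (Lpr_gt (f8138 IH) (Lpr_ct (f86 IH) (Lpr_gt (f96 IH) (Lpe (f222 IH) (Lpr_bt (f223 IH) (Lpr_gt (f224 IH) (Lpn (LP (LK LD1_c0 LD2_c7 LD3_c52)))))))))))))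
theorem f8223 : Led Lsl_bf (LP (LK LD1_c0 LD2_c7 LD3_c44)) = (LP (LK LD1_c0 LD2_c7 LD3_c52)) :=
  Lgr Lrot24 (Lpr_bt (f8221 IH) (Lpn (LP (LK LD1_c0 LD2_c7 LD3_c52))))
theorem f20455 : Led Lsl_bt (LP (LK LD1_c0 LD2_c3 LD3_c9)) = (LP (LK LD1_c0 LD2_c6 LD3_c56)) :=
  Lre_b IH (LK LD1_c0 LD2_c3 LD3_c9) (LK LD1_c0 LD2_c6 LD3_c56) Lrfl Lrfl
theorem f28584 : Led Lsl_cf (LP (LK LD1_c0 LD2_c3 LD3_c8)) = (LP (LK LD1_c0 LD2_c6 LD3_c29)) :=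
  Lgr Lrot11 (Lpr_ct (f28582 IH) (Lpn (LP (LK LD1_c0 LD2_c6 LD3_c29))))
theorem f33101 : Led Lsl_bf (LP (LK LD1_c0 LD2_c6 LD3_c29)) = (LP (LK LD1_c0 LD2_c5 LD3_c15)) :=
  Lgr Lrot90 (Lpe (f28584 IH) (Lpr_bt (f228 IH) (Lpr_ct (f1682 IH) (Lpr_bt (f20455 IH) (Lpr_ct (f33094 IH) (Lpn (LP (LK LD1_c0 LD2_c5 LD3_c15))))))))
theorem f33118 : Led Lsl_df (LP (LK LD1_c0 LD2_c7 LD3_c52)) = (LP (LK LD1_c0 LD2_c6 LD3_c29)) :=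
  Lgr Lrot12 (Lpe (f8223 IH) (Lpr_dt (f33112 IH) (Lpe (f33101 IH) (Lpn (LP (LK LD1_c0 LD2_c6 LD3_c29))))))
theorem f8260 : Led Lsl_bt (LP (LK LD1_c0 LD2_c7 LD3_c45)) = (LP (LK LD1_c0 LD2_c7 LD3_c45)) :=
  Lgr Lrot22 (Lpe (f8216 IH) (Lpe (f421 IH) (Lpe (f8194 IH) (Lpr_gf (f8255 IH) (Lpe (f1470 IH) (Lpr_ct (f1468 IH) (Lpr_gf (f6976 IH) (Lpqs (f7250 IH) (Lpe (f419 IH) (Lpr_bt (f420 IH) (Lpe (f6994 IH) (Lpn (LP (LK LD1_c0 LD2_c7 LD3_c45))))))))))))))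
theorem f8264 : Led Lsl_cf (LP (LK LD1_c0 LD2_c7 LD3_c52)) = (LP (LK LD1_c0 LD2_c7 LD3_c52)) :=
  Lgr Lrot97 (Lpe (f8223 IH) (Lpr_ct (f8214 IH) (Lpr_bt (f8260 IH) (Lpe (f8216 IH) (Lpr_bt (f8221 IH) (Lpn (LP (LK LD1_c0 LD2_c7 LD3_c52))))))))
theorem f33644 : Led Lsl_ft (LP (LK LD1_c0 LD2_c7 LD3_c44)) = (LP (LK LD1_c0 LD2_c7 LD3_c44)) :=
  Lgr Lrot54 (Lpr_df (f33120 IH) (Lpr_ff (f33642 IH) (Lpe (f33112 IH) (Lpn (LP (LK LD1_c0 LD2_c7 LD3_c44))))))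
theorem f33654 : Led Lsl_ff (LP (LK LD1_c0 LD2_c7 LD3_c52)) = (LP (LK LD1_c0 LD2_c7 LD3_c52)) :=
  Lgr Lrot25 (Lpe (f8223 IH) (Lpr_ft (f33644 IH) (Lpr_bt (f8221 IH) (Lpn (LP (LK LD1_c0 LD2_c7 LD3_c52))))))
theorem f34658 : Led Lsl_df (LP (LK LD1_c0 LD2_c6 LD3_c29)) = (LP (LK LD1_c0 LD2_c7 LD3_c52)) :=
  Lgr Lrot78 (Lpr_ft (f34654 IH) (Lpe (f33118 IH) (Lpe (f33654 IH) (Lpn (LP (LK LD1_c0 LD2_c7 LD3_c52))))))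
theorem f20446 : Led Lsl_bt (LP (LK LD1_c0 LD2_c1 LD3_c19)) = (LP (LK LD1_c0 LD2_c3 LD3_c8)) :=
  Lre_b IH (LK LD1_c0 LD2_c1 LD3_c19) (LK LD1_c0 LD2_c3 LD3_c8) Lrfl Lrfl
theorem f225 : Led Lsl_bt (LP (LK LD1_c0 LD2_c3 LD3_c34)) = (LP (LK LD1_c0 LD2_c1 LD3_c31)) :=
  Lre_b IH (LK LD1_c0 LD2_c3 LD3_c34) (LK LD1_c0 LD2_c1 LD3_c31) Lrfl Lrfl
theorem f20447 : Led Lsl_dt (LP (LK LD1_c0 LD2_c3 LD3_c8)) = (LP (LK LD1_c0 LD2_c3 LD3_c34)) :=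
  Lgr Lrot79 (Lpe (f20446 IH) (Lpr_df (f20444 IH) (Lpe (f225 IH) (Lpn (LP (LK LD1_c0 LD2_c3 LD3_c34))))))
theorem f402 : Led Lsl_cf (LP (LK LD1_c0 LD2_c3 LD3_c34)) = (LP (LK LD1_c0 LD2_c3 LD3_c34)) :=
  Lgr Lrot97 (Lpr_bt (f225 IH) (Lpr_ct (f222 IH) (Lpr_bt (f400 IH) (Lpr_ct (f97 IH) (Lpr_bt (f223 IH) (Lpn (LP (LK LD1_c0 LD2_c3 LD3_c34))))))))
theorem f34660 : Led Lsl_af (LP (LK LD1_c0 LD2_c6 LD3_c29)) = (LP (LK LD1_c0 LD2_c6 LD3_c29)) :=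
  Lgr Lrot31 (Lpe (f2895 IH) (Lpr_gf (f2896 IH) (Lpr_ft (f34654 IH) (Lpn (LP (LK LD1_c0 LD2_c6 LD3_c29))))))
theorem f34662 : Led Lsl_dt (LP (LK LD1_c0 LD2_c3 LD3_c34)) = (LP (LK LD1_c0 LD2_c3 LD3_c8)) :=
  Lgr Lrot120 (Lpr_cf (f402 IH) (Lpe (f20447 IH) (Lpr_cf (f28584 IH) (Lpr_df (f34658 IH) (Lpr_cf (f8264 IH) (Lpr_df (f33118 IH) (Lpr_ft (f34654 IH) (Lpe (f34660 IH) (Lpe (f28582 IH) (Lpn (LP (LK LD1_c0 LD2_c3 LD3_c8))))))))))))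
theorem f414 : Led Lsl_et (LP (LK LD1_c0 LD2_c3 LD3_c34)) = (LP (LK LD1_c0 LD2_c7 LD3_c53)) :=
  Lre_e IH (LK LD1_c0 LD2_c3 LD3_c34) (LK LD1_c0 LD2_c7 LD3_c53) Lrfl Lrfl
theorem f8225 : Led Lsl_et (LP (LK LD1_c0 LD2_c7 LD3_c52)) = (LP (LK LD1_c0 LD2_c17 LD3_c27)) :=
  Lre_e IH (LK LD1_c0 LD2_c7 LD3_c52) (LK LD1_c0 LD2_c17 LD3_c27) Lrfl Lrfl
theorem f34672 : Led Lsl_gt (LP (LK LD1_c0 LD2_c7 LD3_c53)) = (LP (LK LD1_c0 LD2_c17 LD3_c27)) :=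
  Lgr Lrot131 (Lpe (f414 IH) (Lpr_dt (f34662 IH) (Lpr_gf (f28592 IH) (Lpe (f2900 IH) (Lpe (f2899 IH) (Lpe (f2911 IH) (Lpr_dt (f2894 IH) (Lpr_gf (f2896 IH) (Lpr_df (f34658 IH) (Lpr_et (f8225 IH) (Lpn (LP (LK LD1_c0 LD2_c17 LD3_c27)))))))))))))
theorem f409 : Led Lsl_bt (LP (LK LD1_c0 LD2_c3 LD3_c35)) = (LP (LK LD1_c0 LD2_c7 LD3_c53)) :=
  Lre_b IH (LK LD1_c0 LD2_c3 LD3_c35) (LK LD1_c0 LD2_c7 LD3_c53) Lrfl Lrfl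
theorem f26730 : Led Lsl_ct (LP (LK LD1_c0 LD2_c7 LD3_c48)) = (LP (LK LD1_c0 LD2_c4 LD3_c9)) :=
  Lgr Lrot59 (Lpr_cf (f26724 IH) (Lpn (LP (LK LD1_c0 LD2_c4 LD3_c9))))
theorem f26728 : Led Lsl_bt (LP (LK LD1_c0 LD2_c7 LD3_c48)) = (LP (LK LD1_c0 LD2_c3 LD3_c41)) :=
  Lgr Lrot128 (Lpr_cf (f26724 IH) (Lpe (f172 IH) (Lpe (f163 IH) (Lpe (f173 IH) (Lpe (f174 IH) (Lpn (LP (LK LD1_c0 LD2_c3 LD3_c41))))))))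
theorem f13648 : Led Lsl_bt (LP (LK LD1_c0 LD2_c13 LD3_c15)) = (LP (LK LD1_c0 LD2_c6 LD3_c1)) :=
  Lre_b IH (LK LD1_c0 LD2_c13 LD3_c15) (LK LD1_c0 LD2_c6 LD3_c1) Lrfl Lrfl
theorem f20175 : Led Lsl_bt (LP (LK LD1_c0 LD2_c4 LD3_c7)) = (LP (LK LD1_c0 LD2_c4 LD3_c7)) :=
  Lgr Lrot92 (Lpr_ct (f20079 IH) (Lpr_gt (f9545 IH) (Lpe (f161 IH) (Lpr_bt (f173 IH) (Lpr_gt (f11002 IH) (Lpe (f326 IH) (Lpr_gt (f3941 IH) (Lpr_cf (f106 IH) (Lpr_bt (f103 IH) (Lpr_gt (f131 IH) (Lpn (LP (LK LD1_c0 LD2_c4 LD3_c7)))))))))))))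
theorem f20172 : Led Lsl_bt (LP (LK LD1_c0 LD2_c6 LD3_c1)) = (LP (LK LD1_c0 LD2_c13 LD3_c15)) :=
  Lre_b IH (LK LD1_c0 LD2_c6 LD3_c1) (LK LD1_c0 LD2_c13 LD3_c15) Lrfl Lrfl
theorem f20177 : Led Lsl_cf (LP (LK LD1_c0 LD2_c13 LD3_c15)) = (LP (LK LD1_c0 LD2_c13 LD3_c15)) :=
  Lgr Lrot97 (Lpr_bt (f13648 IH) (Lpe (f20173 IH) (Lpr_bt (f20175 IH) (Lpr_ct (f20079 IH) (Lpr_bt (f20172 IH) (Lpn (LP (LK LD1_c0 LD2_c13 LD3_c15))))))))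
theorem f8213 : Led Lsl_et (LP (LK LD1_c0 LD2_c17 LD3_c23)) = (LP (LK LD1_c0 LD2_c7 LD3_c45)) :=
  Lre_e IH (LK LD1_c0 LD2_c17 LD3_c23) (LK LD1_c0 LD2_c7 LD3_c45) Lrfl Lrfl
theorem f8218 : Led Lsl_et (LP (LK LD1_c0 LD2_c7 LD3_c45)) = (LP (LK LD1_c0 LD2_c17 LD3_c23)) :=
  Lre_e IH (LK LD1_c0 LD2_c7 LD3_c45) (LK LD1_c0 LD2_c17 LD3_c23) Lrfl Lrfl
theorem f8266 : Led Lsl_bf (LP (LK LD1_c0 LD2_c17 LD3_c23)) = (LP (LK LD1_c0 LD2_c17 LD3_c23)) :=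
  Lgr Lrot96 (Lpr_et (f8213 IH) (Lpr_bt (f8260 IH) (Lpr_et (f8218 IH) (Lpn (LP (LK LD1_c0 LD2_c17 LD3_c23))))))
theorem f8206 : Led Lsl_et (LP (LK LD1_c0 LD2_c17 LD3_c22)) = (LP (LK LD1_c0 LD2_c7 LD3_c44)) :=
  Lre_e IH (LK LD1_c0 LD2_c17 LD3_c22) (LK LD1_c0 LD2_c7 LD3_c44) Lrfl Lrfl
theorem f8219 : Led Lsl_cf (LP (LK LD1_c0 LD2_c17 LD3_c22)) = (LP (LK LD1_c0 LD2_c17 LD3_c23)) :=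
  Lgr Lrot39 (Lpr_et (f8206 IH) (Lpr_ct (f8214 IH) (Lpr_et (f8218 IH) (Lpn (LP (LK LD1_c0 LD2_c17 LD3_c23))))))
theorem f8226 : Led Lsl_bf (LP (LK LD1_c0 LD2_c17 LD3_c22)) = (LP (LK LD1_c0 LD2_c17 LD3_c27)) :=
  Lgr Lrot96 (Lpr_et (f8206 IH) (Lpr_bt (f8221 IH) (Lpr_et (f8225 IH) (Lpn (LP (LK LD1_c0 LD2_c17 LD3_c27))))))
theorem f8228 : Led Lsl_bt (LP (LK LD1_c0 LD2_c17 LD3_c22)) = (LP (LK LD1_c0 LD2_c17 LD3_c27)) :=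
  Lgr Lrot127 (Lpr_bf (f8226 IH) (Lpn (LP (LK LD1_c0 LD2_c17 LD3_c27))))
theorem f8232 : Led Lsl_ct (LP (LK LD1_c0 LD2_c17 LD3_c22)) = (LP (LK LD1_c0 LD2_c17 LD3_c23)) :=
  Lgr Lrot59 (Lpr_cf (f8219 IH) (Lpn (LP (LK LD1_c0 LD2_c17 LD3_c23))))
theorem f8268 : Led Lsl_ct (LP (LK LD1_c0 LD2_c17 LD3_c27)) = (LP (LK LD1_c0 LD2_c17 LD3_c27)) :=
  Lgr Lrot83 (Lpe (f8228 IH) (Lpr_cf (f8219 IH) (Lpr_bf (f8266 IH) (Lpe (f8232 IH) (Lpr_bf (f8226 IH) (Lpn (LP (LK LD1_c0 LD2_c17 LD3_c27))))))))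
theorem f34676 : Led Lsl_gf (LP (LK LD1_c0 LD2_c13 LD3_c15)) = (LP (LK LD1_c0 LD2_c17 LD3_c27)) :=
  Lgr Lrot129 (Lpr_cf (f20177 IH) (Lpr_bt (f13648 IH) (Lpr_gt (f9545 IH) (Lpe (f26728 IH) (Lpr_ct (f26730 IH) (Lpr_gt (f20613 IH) (Lpe (f410 IH) (Lpr_bt (f409 IH) (Lpr_gt (f34672 IH) (Lpr_ct (f8268 IH) (Lpn (LP (LK LD1_c0 LD2_c17 LD3_c27)))))))))))))
theorem f8234 : Led Lsl_bt (LP (LK LD1_c0 LD2_c3 LD3_c30)) = (LP (LK LD1_c0 LD2_c7 LD3_c47)) :=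
  Lre_b IH (LK LD1_c0 LD2_c3 LD3_c30) (LK LD1_c0 LD2_c7 LD3_c47) Lrfl Lrfl
theorem f34683 : Led Lsl_gt (LP (LK LD1_c0 LD2_c7 LD3_c47)) = (LP (LK LD1_c0 LD2_c17 LD3_c22)) :=
  Lgr Lrot164 (Lpe (f8234 IH) (Lpr_ct (f8176 IH) (Lpr_gf (f20972 IH) (Lpe (f174 IH) (Lpe (f9545 IH) (Lpe (f13648 IH) (Lpe (f20177 IH) (Lpr_gf (f34676 IH) (Lpe (f8268 IH) (Lpe (f8226 IH) (Lpn (LP (LK LD1_c0 LD2_c17 LD3_c22)))))))))))))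
theorem f8203 : Led Lsl_et (LP (LK LD1_c0 LD2_c3 LD3_c29)) = (LP (LK LD1_c0 LD2_c7 LD3_c47)) :=
  Lre_e IH (LK LD1_c0 LD2_c3 LD3_c29) (LK LD1_c0 LD2_c7 LD3_c47) Lrfl Lrfl
theorem f8230 : Led Lsl_et (LP (LK LD1_c0 LD2_c7 LD3_c44)) = (LP (LK LD1_c0 LD2_c17 LD3_c22)) :=
  Lre_e IH (LK LD1_c0 LD2_c7 LD3_c44) (LK LD1_c0 LD2_c17 LD3_c22) Lrfl Lrfl
theorem f27941 : Led Lsl_dt (LP (LK LD1_c0 LD2_c2 LD3_c24)) = (LP (LK LD1_c0 LD2_c5 LD3_c14)) :=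
  Lre_d IH (LK LD1_c0 LD2_c2 LD3_c24) (LK LD1_c0 LD2_c5 LD3_c14) Lrfl Lrfl
theorem f34697 : Led Lsl_ef (LP (LK LD1_c0 LD2_c2 LD3_c24)) = (LP (LK LD1_c0 LD2_c2 LD3_c24)) :=
  Lgr Lrot167 (Lpr_gt (f28555 IH) (Lpr_dt (f27808 IH) (Lpr_gt (f31034 IH) (Lpe (f31043 IH) (Lpr_et (f8203 IH) (Lpr_gt (f34683 IH) (Lpe (f8230 IH) (Lpr_dt (f33112 IH) (Lpe (f27935 IH) (Lpe (f27941 IH) (Lpn (LP (LK LD1_c0 LD2_c2 LD3_c24)))))))))))))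
theorem f3054 : Led Lsl_et (LP (LK LD1_c0 LD2_c5 LD3_c11)) = (LP (LK LD1_c0 LD2_c2 LD3_c22)) :=
  Lre_e IH (LK LD1_c0 LD2_c5 LD3_c11) (LK LD1_c0 LD2_c2 LD3_c22) Lrfl Lrfl
theorem f3052 : Led Lsl_dt (LP (LK LD1_c0 LD2_c5 LD3_c11)) = (LP (LK LD1_c0 LD2_c11 LD3_c7)) :=
  Lre_d IH (LK LD1_c0 LD2_c5 LD3_c11) (LK LD1_c0 LD2_c11 LD3_c7) Lrfl Lrfl
theorem f28748 : Led Lsl_gf (LP (LK LD1_c0 LD2_c5 LD3_c16)) = (LP (LK LD1_c0 LD2_c5 LD3_c14)) :=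
  Lgr Lrot147 (Lpr_ct (f6958 IH) (Lpr_gt (f27768 IH) (Lpr_ct (f27555 IH) (Lpe (f27753 IH) (Lpe (f27915 IH) (Lpr_gf (f28561 IH) (Lpr_cf (f28738 IH) (Lpe (f28555 IH) (Lpe (f27914 IH) (Lpn (LP (LK LD1_c0 LD2_c5 LD3_c14))))))))))))
theorem f8171 : Led Lsl_ct (LP (LK LD1_c0 LD2_c3 LD3_c32)) = (LP (LK LD1_c0 LD2_c1 LD3_c29)) :=
  Lre_c IH (LK LD1_c0 LD2_c3 LD3_c32) (LK LD1_c0 LD2_c1 LD3_c29) Lrfl Lrfl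
theorem f27190 : Led Lsl_gf (LP (LK LD1_c0 LD2_c7 LD3_c49)) = (LP (LK LD1_c0 LD2_c13 LD3_c10)) :=
  Lgr Lrot124 (Lpe (f8175 IH) (Lpr_ct (f8171 IH) (Lpq (f26331 IH) (Lpe (f7097 IH) (Lpe (f101 IH) (Lpr_bt (f183 IH) (Lpr_gt (f27186 IH) (Lpr_ct (f20610 IH) (Lpr_gt (f7109 IH) (Lpe (f7111 IH) (Lpr_bt (f7113 IH) (Lpn (LP (LK LD1_c0 LD2_c13 LD3_c10))))))))))))))
theorem f20611 : Led Lsl_bt (LP (LK LD1_c0 LD2_c3 LD3_c42)) = (LP (LK LD1_c0 LD2_c8 LD3_c1)) :=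
  Lre_b IH (LK LD1_c0 LD2_c3 LD3_c42) (LK LD1_c0 LD2_c8 LD3_c1) Lrfl Lrfl
theorem f34695 : Led Lsl_gf (LP (LK LD1_c0 LD2_c8 LD3_c1)) = (LP (LK LD1_c0 LD2_c17 LD3_c23)) :=
  Lgr Lrot124 (Lpe (f20611 IH) (Lpr_ct (f20610 IH) (Lpr_gt (f7109 IH) (Lpe (f7111 IH) (Lpr_bt (f7113 IH) (Lpe (f27190 IH) (Lpr_ct (f8178 IH) (Lpr_gt (f34683 IH) (Lpr_cf (f8219 IH) (Lpe (f8266 IH) (Lpn (LP (LK LD1_c0 LD2_c17 LD3_c23)))))))))))))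
theorem f27219 : Led Lsl_dt (LP (LK LD1_c0 LD2_c8 LD3_c1)) = (LP (LK LD1_c0 LD2_c17 LD3_c55)) :=
  Lre_d IH (LK LD1_c0 LD2_c8 LD3_c1) (LK LD1_c0 LD2_c17 LD3_c55) Lrfl Lrfl
theorem f34705 : Led Lsl_gf (LP (LK LD1_c0 LD2_c11 LD3_c7)) = (LP (LK LD1_c0 LD2_c17 LD3_c55)) :=
  Lgr Lrot134 (Lpe (f3052 IH) (Lpr_et (f3054 IH) (Lpe (f28561 IH) (Lpr_ef (f34697 IH) (Lpr_dt (f27941 IH) (Lpe (f28748 IH) (Lpr_df (f33558 IH) (Lpr_et (f8218 IH) (Lpe (f34695 IH) (Lpr_dt (f27219 IH) (Lpn (LP (LK LD1_c0 LD2_c17 LD3_c55)))))))))))))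
theorem f2963 : Led Lsl_ct (LP (LK LD1_c0 LD2_c14 LD3_c6)) = (LP (LK LD1_c0 LD2_c31 LD3_c44)) :=
  Lre_c IH (LK LD1_c0 LD2_c14 LD3_c6) (LK LD1_c0 LD2_c31 LD3_c44) Lrfl Lrfl
theorem f24207 : Led Lsl_bt (LP (LK LD1_c0 LD2_c7 LD3_c34)) = (LP (LK LD1_c0 LD2_c3 LD3_c25)) :=
  Lre_b IH (LK LD1_c0 LD2_c7 LD3_c34) (LK LD1_c0 LD2_c3 LD3_c25) Lrfl Lrfl
theorem f24208 : Led Lsl_df (LP (LK LD1_c0 LD2_c7 LD3_c34)) = (LP (LK LD1_c0 LD2_c13 LD3_c15)) :=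
  Lgr Lrot12 (Lpr_bt (f24207 IH) (Lpr_dt (f23917 IH) (Lpr_bt (f20172 IH) (Lpn (LP (LK LD1_c0 LD2_c13 LD3_c15))))))
theorem f34686 : Led Lsl_gt (LP (LK LD1_c0 LD2_c7 LD3_c34)) = (LP (LK LD1_c0 LD2_c14 LD3_c6)) :=
  Lgr Lrot139 (Lpr_df (f24208 IH) (Lpr_gf (f34676 IH) (Lpe (f8225 IH) (Lpe (f34658 IH) (Lpe (f2895 IH) (Lpe (f2894 IH) (Lpr_et (f2911 IH) (Lpr_gf (f2928 IH) (Lpe (f2921 IH) (Lpr_dt (f2922 IH) (Lpn (LP (LK LD1_c0 LD2_c14 LD3_c6)))))))))))))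
theorem f24402 : Led Lsl_bt (LP (LK LD1_c0 LD2_c3 LD3_c25)) = (LP (LK LD1_c0 LD2_c7 LD3_c34)) :=
  Lre_b IH (LK LD1_c0 LD2_c3 LD3_c25) (LK LD1_c0 LD2_c7 LD3_c34) Lrfl Lrfl
theorem f22454 : Led Lsl_ct (LP (LK LD1_c0 LD2_c3 LD3_c25)) = (LP (LK LD1_c0 LD2_c7 LD3_c35)) :=
  Lre_c IH (LK LD1_c0 LD2_c3 LD3_c25) (LK LD1_c0 LD2_c7 LD3_c35) Lrfl Lrfl
theorem f20283 : Led Lsl_bt (LP (LK LD1_c0 LD2_c6 LD3_c48)) = (LP (LK LD1_c0 LD2_c3 LD3_c27)) :=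
  Lre_b IH (LK LD1_c0 LD2_c6 LD3_c48) (LK LD1_c0 LD2_c3 LD3_c27) Lrfl Lrfl
theorem f6723 : Led Lsl_bt (LP (LK LD1_c0 LD2_c12 LD3_c58)) = (LP (LK LD1_c0 LD2_c5 LD3_c55)) :=
  Lre_b IH (LK LD1_c0 LD2_c12 LD3_c58) (LK LD1_c0 LD2_c5 LD3_c55) Lrfl Lrfl
theorem f26576 : Led Lsl_ct (LP (LK LD1_c0 LD2_c12 LD3_c58)) = (LP (LK LD1_c0 LD2_c29 LD3_c24)) :=
  Lre_c IH (LK LD1_c0 LD2_c12 LD3_c58) (LK LD1_c0 LD2_c29 LD3_c24) Lrfl Lrfl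
theorem f34688 : Led Lsl_gf (LP (LK LD1_c0 LD2_c29 LD3_c24)) = (LP (LK LD1_c0 LD2_c31 LD3_c44)) :=
  Lgr Lrot129 (Lpe (f26576 IH) (Lpr_bt (f6723 IH) (Lpr_gt (f6722 IH) (Lpe (f20283 IH) (Lpr_ct (f20282 IH) (Lpe (f26476 IH) (Lpe (f22454 IH) (Lpr_bt (f24402 IH) (Lpr_gt (f34686 IH) (Lpr_ct (f2963 IH) (Lpn (LP (LK LD1_c0 LD2_c31 LD3_c44)))))))))))))
theorem f23017 : Led Lsl_bt (LP (LK LD1_c0 LD2_c8 LD3_c2)) = (LP (LK LD1_c0 LD2_c17 LD3_c55)) :=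
  Lre_b IH (LK LD1_c0 LD2_c8 LD3_c2) (LK LD1_c0 LD2_c17 LD3_c55) Lrfl Lrfl
theorem f34712 : Led Lsl_cf (LP (LK LD1_c0 LD2_c13 LD3_c1)) = (LP (LK LD1_c0 LD2_c8 LD3_c2)) :=
  Lgr Lrot163 (Lpe (f20543 IH) (Lpe (f20542 IH) (Lpe (f6722 IH) (Lpe (f6723 IH) (Lpr_ct (f26576 IH) (Lpr_gf (f34688 IH) (Lpe (f2963 IH) (Lpr_bt (f2948 IH) (Lpr_gf (f34705 IH) (Lpe (f23017 IH) (Lpn (LP (LK LD1_c0 LD2_c8 LD3_c2)))))))))))))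
theorem f34737 : Led Lsl_bt (LP (LK LD1_c0 LD2_c2 LD3_c40)) = (LP (LK LD1_c0 LD2_c5 LD3_c44)) :=
  Lre_b IH (LK LD1_c0 LD2_c2 LD3_c40) (LK LD1_c0 LD2_c5 LD3_c44) Lrfl Lrfl
theorem f27912 : Led Lsl_gt (LP (LK LD1_c0 LD2_c5 LD3_c44)) = (LP (LK LD1_c0 LD2_c12 LD3_c30)) :=
  Lre_g IH (LK LD1_c0 LD2_c5 LD3_c44) (LK LD1_c0 LD2_c12 LD3_c30) Lrfl Lrfl
theorem f20257 : Led Lsl_ct (LP (LK LD1_c0 LD2_c2 LD3_c48)) = (LP (LK LD1_c0 LD2_c1 LD3_c9)) :=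
  Lre_c IH (LK LD1_c0 LD2_c2 LD3_c48) (LK LD1_c0 LD2_c1 LD3_c9) Lrfl Lrfl
theorem f26021 : Led Lsl_gf (LP (LK LD1_c0 LD2_c8 LD3_c2)) = (LP (LK LD1_c0 LD2_c6 LD3_c48)) :=
  Lgr Lrot143 (Lpr_dt (f20609 IH) (Lpe (f134 IH) (Lpr_df (f23303 IH) (Lpe (f7177 IH) (Lpe (f7170 IH) (Lpe (f7169 IH) (Lpe (f20257 IH) (Lpr_gt (f26019 IH) (Lpr_dt (f20269 IH) (Lpn (LP (LK LD1_c0 LD2_c6 LD3_c48))))))))))))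
theorem f26592 : Led Lsl_bt (LP (LK LD1_c0 LD2_c3 LD3_c27)) = (LP (LK LD1_c0 LD2_c6 LD3_c48)) :=
  Lre_b IH (LK LD1_c0 LD2_c3 LD3_c27) (LK LD1_c0 LD2_c6 LD3_c48) Lrfl Lrfl
theorem f34738 : Led Lsl_bf (LP (LK LD1_c0 LD2_c12 LD3_c30)) = (LP (LK LD1_c0 LD2_c7 LD3_c51)) :=
  Lgr Lrot34 (Lpe (f27912 IH) (Lpe (f34737 IH) (Lpr_ct (f20188 IH) (Lpe (f23000 IH) (Lpr_cf (f34712 IH) (Lpr_gf (f26021 IH) (Lpe (f26592 IH) (Lpr_ct (f20542 IH) (Lpe (f25181 IH) (Lpe (f26600 IH) (Lpn (LP (LK LD1_c0 LD2_c7 LD3_c51)))))))))))))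
theorem f34752 : Led Lsl_bt (LP (LK LD1_c0 LD2_c12 LD3_c30)) = (LP (LK LD1_c0 LD2_c7 LD3_c51)) :=
  Lgr Lrot127 (Lpr_bf (f34738 IH) (Lpn (LP (LK LD1_c0 LD2_c7 LD3_c51))))
theorem f34740 : Led Lsl_ct (LP (LK LD1_c0 LD2_c12 LD3_c30)) = (LP (LK LD1_c0 LD2_c28 LD3_c17)) :=
  Lre_c IH (LK LD1_c0 LD2_c12 LD3_c30) (LK LD1_c0 LD2_c28 LD3_c17) Lrfl Lrfl
theorem f2954 : Led Lsl_ct (LP (LK LD1_c0 LD2_c11 LD3_c7)) = (LP (LK LD1_c0 LD2_c25 LD3_c0)) :=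
  Lre_c IH (LK LD1_c0 LD2_c11 LD3_c7) (LK LD1_c0 LD2_c25 LD3_c0) Lrfl Lrfl
theorem f35345 : Led Lsl_gf (LP (LK LD1_c0 LD2_c28 LD3_c17)) = (LP (LK LD1_c0 LD2_c25 LD3_c0)) :=
  Lgr Lrot129 (Lpe (f34740 IH) (Lpr_bt (f34752 IH) (Lpr_gt (f26568 IH) (Lpe (f26592 IH) (Lpr_ct (f20542 IH) (Lpr_gt (f20543 IH) (Lpr_cf (f34712 IH) (Lpr_bt (f23017 IH) (Lpe (f34705 IH) (Lpr_ct (f2954 IH) (Lpn (LP (LK LD1_c0 LD2_c25 LD3_c0)))))))))))))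
theorem f34743 : Led Lsl_ct (LP (LK LD1_c0 LD2_c28 LD3_c17)) = (LP (LK LD1_c0 LD2_c12 LD3_c30)) :=
  Lre_c IH (LK LD1_c0 LD2_c28 LD3_c17) (LK LD1_c0 LD2_c12 LD3_c30) Lrfl Lrfl
theorem f8189 : Led Lsl_bt (LP (LK LD1_c0 LD2_c7 LD3_c49)) = (LP (LK LD1_c0 LD2_c3 LD3_c32)) :=
  Lre_b IH (LK LD1_c0 LD2_c7 LD3_c49) (LK LD1_c0 LD2_c3 LD3_c32) Lrfl Lrfl
theorem f34757 : Led Lsl_dt (LP (LK LD1_c0 LD2_c12 LD3_c30)) = (LP (LK LD1_c0 LD2_c7 LD3_c49)) :=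
  Lgr Lrot79 (Lpr_bf (f34738 IH) (Lpe (f8141 IH) (Lpe (f8189 IH) (Lpn (LP (LK LD1_c0 LD2_c7 LD3_c49))))))
theorem f8183 : Led Lsl_cf (LP (LK LD1_c0 LD2_c7 LD3_c49)) = (LP (LK LD1_c0 LD2_c7 LD3_c47)) :=
  Lgr Lrot11 (Lpr_ct (f8178 IH) (Lpn (LP (LK LD1_c0 LD2_c7 LD3_c47))))
theorem f8190 : Led Lsl_gt (LP (LK LD1_c0 LD2_c17 LD3_c25)) = (LP (LK LD1_c0 LD2_c7 LD3_c47)) :=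
  Lre_g IH (LK LD1_c0 LD2_c17 LD3_c25) (LK LD1_c0 LD2_c7 LD3_c47) Lrfl Lrfl
theorem f20612 : Led Lsl_gt (LP (LK LD1_c0 LD2_c8 LD3_c1)) = (LP (LK LD1_c0 LD2_c17 LD3_c53)) :=
  Lre_g IH (LK LD1_c0 LD2_c8 LD3_c1) (LK LD1_c0 LD2_c17 LD3_c53) Lrfl Lrfl
theorem f35347 : Led Lsl_cf (LP (LK LD1_c0 LD2_c17 LD3_c25)) = (LP (LK LD1_c0 LD2_c17 LD3_c53)) :=
  Lgr Lrot169 (Lpr_gt (f8190 IH) (Lpe (f8183 IH) (Lpe (f34757 IH) (Lpe (f34743 IH) (Lpr_gf (f35345 IH) (Lpe (f2954 IH) (Lpr_gf (f34705 IH) (Lpe (f27219 IH) (Lpr_gt (f20612 IH) (Lpn (LP (LK LD1_c0 LD2_c17 LD3_c53))))))))))))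
theorem f33638 : Led Lsl_af (LP (LK LD1_c0 LD2_c7 LD3_c45)) = (LP (LK LD1_c0 LD2_c7 LD3_c44)) :=
  Lgr Lrot117 (Lpe (f33558 IH) (Lpr_at (f33634 IH) (Lpe (f33120 IH) (Lpn (LP (LK LD1_c0 LD2_c7 LD3_c44))))))
theorem f28184 : Led Lsl_bf (LP (LK LD1_c0 LD2_c5 LD3_c16)) = (LP (LK LD1_c0 LD2_c5 LD3_c16)) :=
  Lgr Lrot165 (Lpr_gt (f6953 IH) (Lpr_ct (f27775 IH) (Lpr_gt (f748 IH) (Lpr_cf (f28169 IH) (Lpr_bt (f27780 IH) (Lpe (f27286 IH) (Lpe (f8039 IH) (Lpr_ct (f8071 IH) (Lpe (f27773 IH) (Lpe (f6958 IH) (Lpn (LP (LK LD1_c0 LD2_c5 LD3_c16)))))))))))))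
theorem f33562 : Led Lsl_dt (LP (LK LD1_c0 LD2_c5 LD3_c16)) = (LP (LK LD1_c0 LD2_c7 LD3_c45)) :=
  Lgr Lrot79 (Lpr_bf (f28184 IH) (Lpr_df (f33558 IH) (Lpe (f8260 IH) (Lpn (LP (LK LD1_c0 LD2_c7 LD3_c45))))))
theorem f33632 : Led Lsl_ft (LP (LK LD1_c0 LD2_c7 LD3_c45)) = (LP (LK LD1_c0 LD2_c7 LD3_c45)) :=
  Lgr Lrot54 (Lpe (f33562 IH) (Lpr_ff (f33630 IH) (Lpr_df (f33558 IH) (Lpn (LP (LK LD1_c0 LD2_c7 LD3_c45))))))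
theorem f33652 : Led Lsl_af (LP (LK LD1_c0 LD2_c7 LD3_c44)) = (LP (LK LD1_c0 LD2_c7 LD3_c45)) :=
  Lgr Lrot45 (Lpr_ft (f33644 IH) (Lpe (f33638 IH) (Lpr_ft (f33632 IH) (Lpn (LP (LK LD1_c0 LD2_c7 LD3_c45))))))
theorem f33660 : Led Lsl_at (LP (LK LD1_c0 LD2_c17 LD3_c22)) = (LP (LK LD1_c0 LD2_c17 LD3_c23)) :=
  Lgr Lrot80 (Lpe (f8230 IH) (Lpr_af (f33652 IH) (Lpe (f8213 IH) (Lpn (LP (LK LD1_c0 LD2_c17 LD3_c23))))))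
theorem f33662 : Led Lsl_af (LP (LK LD1_c0 LD2_c17 LD3_c22)) = (LP (LK LD1_c0 LD2_c17 LD3_c23)) :=
  Lgr Lrot0 (Lpr_at (f33660 IH) (Lpn (LP (LK LD1_c0 LD2_c17 LD3_c23))))
theorem f34690 : Led Lsl_ft (LP (LK LD1_c0 LD2_c17 LD3_c25)) = (LP (LK LD1_c0 LD2_c17 LD3_c23)) :=
  Lgr Lrot2 (Lpr_gt (f8190 IH) (Lpr_gt (f34683 IH) (Lpr_af (f33662 IH) (Lpn (LP (LK LD1_c0 LD2_c17 LD3_c23))))))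
theorem f35370 : Led Lsl_ft (LP (LK LD1_c0 LD2_c17 LD3_c22)) = (LP (LK LD1_c0 LD2_c17 LD3_c53)) :=
  Lgr Lrot4 (Lpr_cf (f8219 IH) (Lpe (f34690 IH) (Lpr_cf (f35347 IH) (Lpn (LP (LK LD1_c0 LD2_c17 LD3_c53))))))
theorem f35376 : Led Lsl_ff (LP (LK LD1_c0 LD2_c17 LD3_c22)) = (LP (LK LD1_c0 LD2_c17 LD3_c53)) :=
  Lgr Lrot3 (Lpr_ft (f35370 IH) (Lpn (LP (LK LD1_c0 LD2_c17 LD3_c53))))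
theorem f35368 : Led Lsl_ct (LP (LK LD1_c0 LD2_c17 LD3_c25)) = (LP (LK LD1_c0 LD2_c17 LD3_c53)) :=
  Lgr Lrot59 (Lpr_cf (f35347 IH) (Lpn (LP (LK LD1_c0 LD2_c17 LD3_c53))))
theorem f35378 : Led Lsl_ft (LP (LK LD1_c0 LD2_c17 LD3_c23)) = (LP (LK LD1_c0 LD2_c17 LD3_c25)) :=
  Lgr Lrot4 (Lpe (f8232 IH) (Lpr_ff (f35376 IH) (Lpe (f35368 IH) (Lpn (LP (LK LD1_c0 LD2_c17 LD3_c25))))))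
theorem f35390 : Led Lsl_bf (LP (LK LD1_c0 LD2_c17 LD3_c25)) = (LP (LK LD1_c0 LD2_c17 LD3_c25)) :=
  Lgr Lrot61 (Lpr_ft (f34690 IH) (Lpe (f8266 IH) (Lpr_ft (f35378 IH) (Lpn (LP (LK LD1_c0 LD2_c17 LD3_c25))))))
theorem f13634 : Led Lsl_ct (LP (LK LD1_c0 LD2_c2 LD3_c44)) = (LP (LK LD1_c0 LD2_c1 LD3_c8)) :=
  Lre_c IH (LK LD1_c0 LD2_c2 LD3_c44) (LK LD1_c0 LD2_c1 LD3_c8) Lrfl Lrfl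
theorem f13647 : Led Lsl_gt (LP (LK LD1_c0 LD2_c5 LD3_c61)) = (LP (LK LD1_c0 LD2_c13 LD3_c8)) :=
  Lre_g IH (LK LD1_c0 LD2_c5 LD3_c61) (LK LD1_c0 LD2_c13 LD3_c8) Lrfl Lrfl
theorem f35392 : Led Lsl_ct (LP (LK LD1_c0 LD2_c13 LD3_c8)) = (LP (LK LD1_c0 LD2_c8 LD3_c1)) :=
  Lgr Lrot91 (Lpe (f13647 IH) (Lpe (f9615 IH) (Lpr_ct (f13634 IH) (Lpe (f20977 IH) (Lpe (f8176 IH) (Lpr_bt (f8234 IH) (Lpe (f8190 IH) (Lpr_bf (f35390 IH) (Lpr_ct (f35368 IH) (Lpe (f20612 IH) (Lpn (LP (LK LD1_c0 LD2_c8 LD3_c1)))))))))))))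
theorem f35402 : Led Lsl_bt (LP (LK LD1_c0 LD2_c13 LD3_c8)) = (LP (LK LD1_c0 LD2_c6 LD3_c4)) :=
  Lgr Lrot130 (Lpr_ct (f35392 IH) (Lpr_gf (f34695 IH) (Lpe (f8232 IH) (Lpr_bt (f8228 IH) (Lpe (f34672 IH) (Lpe (f409 IH) (Lpr_ct (f410 IH) (Lpe (f20613 IH) (Lpe (f26730 IH) (Lpr_gf (f26738 IH) (Lpn (LP (LK LD1_c0 LD2_c6 LD3_c4)))))))))))))
theorem f35404 : Led Lsl_bf (LP (LK LD1_c0 LD2_c7 LD3_c48)) = (LP (LK LD1_c0 LD2_c3 LD3_c41)) :=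
  Lgr Lrot34 (Lpr_gf (f26738 IH) (Lpe (f35402 IH) (Lpr_ct (f35392 IH) (Lpr_gf (f34695 IH) (Lpe (f8232 IH) (Lpe (f34683 IH) (Lpe (f8234 IH) (Lpr_ct (f8176 IH) (Lpr_gf (f20972 IH) (Lpe (f174 IH) (Lpn (LP (LK LD1_c0 LD2_c3 LD3_c41)))))))))))))
theorem f8191 : Led Lsl_gt (LP (LK LD1_c0 LD2_c7 LD3_c50)) = (LP (LK LD1_c0 LD2_c3 LD3_c32)) :=
  Lre_g IH (LK LD1_c0 LD2_c7 LD3_c50) (LK LD1_c0 LD2_c3 LD3_c32) Lrfl Lrfl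
theorem f26582 : Led Lsl_ct (LP (LK LD1_c0 LD2_c7 LD3_c50)) = (LP (LK LD1_c0 LD2_c8 LD3_c60)) :=
  Lgr Lrot8 (Lpr_gt (f8191 IH) (Lpr_dt (f8141 IH) (Lpr_gt (f26568 IH) (Lpr_dt (f12615 IH) (Lpe (f12616 IH) (Lpe (f7321 IH) (Lpe (f20866 IH) (Lpr_df (f3845 IH) (Lpr_gf (f9644 IH) (Lpn (LP (LK LD1_c0 LD2_c8 LD3_c60))))))))))))
theorem f26726 : Led Lsl_at (LP (LK LD1_c0 LD2_c7 LD3_c48)) = (LP (LK LD1_c0 LD2_c7 LD3_c50)) :=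
  Lgr Lrot107 (Lpr_cf (f26724 IH) (Lpe (f7345 IH) (Lpe (f26582 IH) (Lpn (LP (LK LD1_c0 LD2_c7 LD3_c50))))))
theorem f34685 : Led Lsl_bt (LP (LK LD1_c0 LD2_c7 LD3_c50)) = (LP (LK LD1_c0 LD2_c17 LD3_c26)) :=
  Lre_b IH (LK LD1_c0 LD2_c7 LD3_c50) (LK LD1_c0 LD2_c17 LD3_c26) Lrfl Lrfl
theorem f35408 : Led Lsl_at (LP (LK LD1_c0 LD2_c17 LD3_c26)) = (LP (LK LD1_c0 LD2_c13 LD3_c10)) :=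
  Lgr Lrot67 (Lpe (f34685 IH) (Lpe (f26726 IH) (Lpr_bf (f35404 IH) (Lpe (f9542 IH) (Lpe (f9546 IH) (Lpn (LP (LK LD1_c0 LD2_c13 LD3_c10))))))))
theorem f35416 : Led Lsl_ff (LP (LK LD1_c0 LD2_c17 LD3_c26)) = (LP (LK LD1_c0 LD2_c13 LD3_c7)) :=
  Lgr Lrot30 (Lpr_at (f35408 IH) (Lpr_ft (f9555 IH) (Lpr_at (f9614 IH) (Lpn (LP (LK LD1_c0 LD2_c13 LD3_c7))))))
theorem f13640 : Led Lsl_cf (LP (LK LD1_c0 LD2_c13 LD3_c10)) = (LP (LK LD1_c0 LD2_c13 LD3_c10)) :=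
  Lgr Lrot97 (Lpr_bt (f9546 IH) (Lpr_ct (f7111 IH) (Lpr_bt (f13637 IH) (Lpr_ct (f7110 IH) (Lpr_bt (f7113 IH) (Lpn (LP (LK LD1_c0 LD2_c13 LD3_c10))))))))
theorem f35410 : Led Lsl_af (LP (LK LD1_c0 LD2_c17 LD3_c26)) = (LP (LK LD1_c0 LD2_c13 LD3_c10)) :=
  Lgr Lrot0 (Lpr_at (f35408 IH) (Lpn (LP (LK LD1_c0 LD2_c13 LD3_c10))))
theorem f35412 : Led Lsl_cf (LP (LK LD1_c0 LD2_c17 LD3_c26)) = (LP (LK LD1_c0 LD2_c17 LD3_c26)) :=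
  Lgr Lrot1 (Lpr_at (f35408 IH) (Lpe (f13640 IH) (Lpe (f35410 IH) (Lpn (LP (LK LD1_c0 LD2_c17 LD3_c26))))))
theorem f9567 : Led Lsl_et (LP (LK LD1_c0 LD2_c5 LD3_c60)) = (LP (LK LD1_c0 LD2_c13 LD3_c7)) :=
  Lre_e IH (LK LD1_c0 LD2_c5 LD3_c60) (LK LD1_c0 LD2_c13 LD3_c7) Lrfl Lrfl
theorem f9594 : Led Lsl_ct (LP (LK LD1_c0 LD2_c13 LD3_c7)) = (LP (LK LD1_c0 LD2_c13 LD3_c7)) :=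
  Lgr Lrot15 (Lpe (f9567 IH) (Lpr_cf (f9590 IH) (Lpe (f9566 IH) (Lpn (LP (LK LD1_c0 LD2_c13 LD3_c7))))))
theorem f35420 : Led Lsl_ft (LP (LK LD1_c0 LD2_c17 LD3_c26)) = (LP (LK LD1_c0 LD2_c13 LD3_c7)) :=
  Lgr Lrot4 (Lpr_cf (f35412 IH) (Lpr_ff (f35416 IH) (Lpe (f9594 IH) (Lpn (LP (LK LD1_c0 LD2_c13 LD3_c7))))))
theorem f8240 : Led Lsl_af (LP (LK LD1_c0 LD2_c3 LD3_c32)) = (LP (LK LD1_c0 LD2_c3 LD3_c30)) :=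
  Lgr Lrot0 (Lpr_at (f8238 IH) (Lpn (LP (LK LD1_c0 LD2_c3 LD3_c30))))
theorem f27184 : Led Lsl_ff (LP (LK LD1_c0 LD2_c3 LD3_c30)) = (LP (LK LD1_c0 LD2_c3 LD3_c42)) :=
  Lgr Lrot30 (Lpe (f8240 IH) (Lpe (f26335 IH) (Lpr_at (f27172 IH) (Lpn (LP (LK LD1_c0 LD2_c3 LD3_c42))))))
theorem f27207 : Led Lsl_ff (LP (LK LD1_c0 LD2_c3 LD3_c42)) = (LP (LK LD1_c0 LD2_c3 LD3_c30)) :=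
  Lgr Lrot72 (Lpr_et (f27197 IH) (Lpe (f27184 IH) (Lpr_et (f8209 IH) (Lpe (f8201 IH) (Lpr_et (f8208 IH) (Lpn (LP (LK LD1_c0 LD2_c3 LD3_c30))))))))
theorem f27209 : Led Lsl_ft (LP (LK LD1_c0 LD2_c8 LD3_c1)) = (LP (LK LD1_c0 LD2_c7 LD3_c47)) :=
  Lgr Lrot75 (Lpe (f20611 IH) (Lpr_ff (f27207 IH) (Lpe (f8177 IH) (Lpn (LP (LK LD1_c0 LD2_c7 LD3_c47))))))
theorem f8182 : Led Lsl_at (LP (LK LD1_c0 LD2_c7 LD3_c47)) = (LP (LK LD1_c0 LD2_c17 LD3_c24)) :=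
  Lre_a IH (LK LD1_c0 LD2_c7 LD3_c47) (LK LD1_c0 LD2_c17 LD3_c24) Lrfl Lrfl
theorem f27217 : Led Lsl_gt (LP (LK LD1_c0 LD2_c17 LD3_c53)) = (LP (LK LD1_c0 LD2_c17 LD3_c24)) :=
  Lgr Lrot46 (Lpe (f20612 IH) (Lpr_ft (f27209 IH) (Lpr_at (f8182 IH) (Lpn (LP (LK LD1_c0 LD2_c17 LD3_c24))))))
theorem f35382 : Led Lsl_gf (LP (LK LD1_c0 LD2_c17 LD3_c23)) = (LP (LK LD1_c0 LD2_c17 LD3_c24)) :=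
  Lgr Lrot76 (Lpe (f33660 IH) (Lpr_ff (f35376 IH) (Lpr_gt (f27217 IH) (Lpn (LP (LK LD1_c0 LD2_c17 LD3_c24))))))
theorem f9579 : Led Lsl_et (LP (LK LD1_c0 LD2_c5 LD3_c59)) = (LP (LK LD1_c0 LD2_c13 LD3_c6)) :=
  Lre_e IH (LK LD1_c0 LD2_c5 LD3_c59) (LK LD1_c0 LD2_c13 LD3_c6) Lrfl Lrfl
theorem f8207 : Led Lsl_et (LP (LK LD1_c0 LD2_c17 LD3_c24)) = (LP (LK LD1_c0 LD2_c7 LD3_c46)) :=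
  Lre_e IH (LK LD1_c0 LD2_c17 LD3_c24) (LK LD1_c0 LD2_c7 LD3_c46) Lrfl Lrfl
theorem f9588 : Led Lsl_ct (LP (LK LD1_c0 LD2_c13 LD3_c6)) = (LP (LK LD1_c0 LD2_c17 LD3_c24)) :=
  Lgr Lrot15 (Lpe (f9579 IH) (Lpr_cf (f9586 IH) (Lpe (f8207 IH) (Lpn (LP (LK LD1_c0 LD2_c17 LD3_c24))))))
theorem f35384 : Led Lsl_gt (LP (LK LD1_c0 LD2_c17 LD3_c26)) = (LP (LK LD1_c0 LD2_c13 LD3_c6)) :=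
  Lgr Lrot82 (Lpe (f34685 IH) (Lpr_ct (f26582 IH) (Lpe (f9646 IH) (Lpr_cf (f20173 IH) (Lpr_bt (f20172 IH) (Lpr_gf (f34676 IH) (Lpe (f8228 IH) (Lpr_ct (f8232 IH) (Lpr_gf (f35382 IH) (Lpe (f9588 IH) (Lpn (LP (LK LD1_c0 LD2_c13 LD3_c6)))))))))))))
theorem f9607 : Led Lsl_at (LP (LK LD1_c0 LD2_c13 LD3_c7)) = (LP (LK LD1_c0 LD2_c5 LD3_c61)) :=
  Lre_a IH (LK LD1_c0 LD2_c13 LD3_c7) (LK LD1_c0 LD2_c5 LD3_c61) Lrfl Lrfl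
theorem f35424 : Led Lsl_gt (LP (LK LD1_c0 LD2_c13 LD3_c6)) = (LP (LK LD1_c0 LD2_c5 LD3_c61)) :=
  Lgr Lrot46 (Lpe (f35384 IH) (Lpr_ft (f35420 IH) (Lpr_at (f9607 IH) (Lpn (LP (LK LD1_c0 LD2_c5 LD3_c61))))))
theorem f33567 : Led Lsl_df (LP (LK LD1_c0 LD2_c5 LD3_c30)) = (LP (LK LD1_c0 LD2_c2 LD3_c42)) :=
  Lgr Lrot153 (Lpr_gt (f27758 IH) (Lpr_dt (f27537 IH) (Lpe (f27796 IH) (Lpe (f6952 IH) (Lpe (f6953 IH) (Lpr_df (f33558 IH) (Lpr_gf (f8211 IH) (Lpe (f9577 IH) (Lpr_gt (f6972 IH) (Lpn (LP (LK LD1_c0 LD2_c2 LD3_c42))))))))))))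
theorem f35427 : Led Lsl_ef (LP (LK LD1_c0 LD2_c1 LD3_c2)) = (LP (LK LD1_c0 LD2_c1 LD3_c2)) :=
  Lgr Lrot167 (Lpr_gt (f28507 IH) (Lpr_dt (f28465 IH) (Lpe (f28734 IH) (Lpe (f31048 IH) (Lpr_et (f9579 IH) (Lpr_gt (f35424 IH) (Lpe (f9557 IH) (Lpe (f33567 IH) (Lpr_gt (f27758 IH) (Lpe (f8092 IH) (Lpn (LP (LK LD1_c0 LD2_c1 LD3_c2)))))))))))))
theorem f16637 : Led Lsl_gt (LP (LK LD1_c0 LD2_c12 LD3_c31)) = (LP (LK LD1_c0 LD2_c5 LD3_c44)) :=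
  Lre_g IH (LK LD1_c0 LD2_c12 LD3_c31) (LK LD1_c0 LD2_c5 LD3_c44) Lrfl Lrfl
theorem f16638 : Led Lsl_dt (LP (LK LD1_c0 LD2_c28 LD3_c19)) = (LP (LK LD1_c0 LD2_c12 LD3_c31)) :=
  Lre_d IH (LK LD1_c0 LD2_c28 LD3_c19) (LK LD1_c0 LD2_c12 LD3_c31) Lrfl Lrfl
theorem f33122 : Led Lsl_dt (LP (LK LD1_c0 LD2_c5 LD3_c60)) = (LP (LK LD1_c0 LD2_c5 LD3_c19)) :=
  Lgr Lrot57 (Lpe (f9564 IH) (Lpr_cf (f8186 IH) (Lpr_gt (f421 IH) (Lpr_dt (f33112 IH) (Lpe (f27935 IH) (Lpr_dt (f27914 IH) (Lpr_cf (f27800 IH) (Lpe (f27556 IH) (Lpr_gf (f28209 IH) (Lpn (LP (LK LD1_c0 LD2_c5 LD3_c19))))))))))))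
theorem f35431 : Led Lsl_gf (LP (LK LD1_c0 LD2_c28 LD3_c19)) = (LP (LK LD1_c0 LD2_c13 LD3_c7)) :=
  Lgr Lrot138 (Lpr_dt (f16638 IH) (Lpr_gt (f16637 IH) (Lpe (f16623 IH) (Lpr_et (f16627 IH) (Lpr_gt (f27810 IH) (Lpr_ef (f35427 IH) (Lpr_dt (f8092 IH) (Lpr_gt (f28207 IH) (Lpe (f33122 IH) (Lpr_et (f9567 IH) (Lpn (LP (LK LD1_c0 LD2_c13 LD3_c7)))))))))))))
theorem f35447 : Led Lsl_ef (LP (LK LD1_c0 LD2_c28 LD3_c19)) = (LP (LK LD1_c0 LD2_c28 LD3_c19)) :=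
  Lgr Lrot17 (Lpr_gf (f35431 IH) (Lpe (f9567 IH) (Lpr_dt (f33122 IH) (Lpe (f28207 IH) (Lpe (f8092 IH) (Lpe (f27810 IH) (Lpe (f16627 IH) (Lpr_dt (f16623 IH) (Lpe (f16637 IH) (Lpe (f16638 IH) (Lpn (LP (LK LD1_c0 LD2_c28 LD3_c19)))))))))))))
theorem f9621 : Led Lsl_ct (LP (LK LD1_c0 LD2_c7 LD3_c43)) = (LP (LK LD1_c0 LD2_c4 LD3_c2)) :=
  Lgr Lrot59 (Lpr_cf (f9619 IH) (Lpn (LP (LK LD1_c0 LD2_c4 LD3_c2))))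
theorem f416 : Led Lsl_gt (LP (LK LD1_c0 LD2_c17 LD3_c28)) = (LP (LK LD1_c0 LD2_c7 LD3_c53)) :=
  Lre_g IH (LK LD1_c0 LD2_c17 LD3_c28) (LK LD1_c0 LD2_c7 LD3_c53) Lrfl Lrfl
theorem f207 : Led Lsl_bt (LP (LK LD1_c0 LD2_c1 LD3_c32)) = (LP (LK LD1_c0 LD2_c0 LD3_c34)) :=
  Lre_b IH (LK LD1_c0 LD2_c1 LD3_c32) (LK LD1_c0 LD2_c0 LD3_c34) Lrfl Lrfl
theorem f8270 : Led Lsl_gt (LP (LK LD1_c0 LD2_c7 LD3_c52)) = (LP (LK LD1_c0 LD2_c3 LD3_c34)) :=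
  Lgr Lrot149 (Lpr_cf (f8264 IH) (Lpe (f224 IH) (Lpe (f223 IH) (Lpr_ct (f222 IH) (Lpe (f96 IH) (Lpe (f86 IH) (Lpr_bt (f207 IH) (Lpe (f98 IH) (Lpe (f225 IH) (Lpe (f402 IH) (Lpn (LP (LK LD1_c0 LD2_c3 LD3_c34)))))))))))))
theorem f33656 : Led Lsl_at (LP (LK LD1_c0 LD2_c7 LD3_c52)) = (LP (LK LD1_c0 LD2_c7 LD3_c52)) :=
  Lgr Lrot26 (Lpr_ff (f33654 IH) (Lpr_gt (f8270 IH) (Lpr_gt (f224 IH) (Lpn (LP (LK LD1_c0 LD2_c7 LD3_c52))))))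
theorem f8231 : Led Lsl_et (LP (LK LD1_c0 LD2_c17 LD3_c27)) = (LP (LK LD1_c0 LD2_c7 LD3_c52)) :=
  Lre_e IH (LK LD1_c0 LD2_c17 LD3_c27) (LK LD1_c0 LD2_c7 LD3_c52) Lrfl Lrfl
theorem f33658 : Led Lsl_af (LP (LK LD1_c0 LD2_c17 LD3_c27)) = (LP (LK LD1_c0 LD2_c17 LD3_c27)) :=
  Lgr Lrot50 (Lpr_et (f8231 IH) (Lpr_at (f33656 IH) (Lpr_et (f8225 IH) (Lpn (LP (LK LD1_c0 LD2_c17 LD3_c27))))))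
theorem f34674 : Led Lsl_ft (LP (LK LD1_c0 LD2_c17 LD3_c28)) = (LP (LK LD1_c0 LD2_c17 LD3_c27)) :=
  Lgr Lrot2 (Lpr_gt (f416 IH) (Lpr_gt (f34672 IH) (Lpr_af (f33658 IH) (Lpn (LP (LK LD1_c0 LD2_c17 LD3_c27))))))
theorem f35374 : Led Lsl_bf (LP (LK LD1_c0 LD2_c17 LD3_c28)) = (LP (LK LD1_c0 LD2_c17 LD3_c53)) :=
  Lgr Lrot61 (Lpr_ft (f34674 IH) (Lpe (f8226 IH) (Lpr_ft (f35370 IH) (Lpn (LP (LK LD1_c0 LD2_c17 LD3_c53))))))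
theorem f27192 : Led Lsl_bt (LP (LK LD1_c0 LD2_c8 LD3_c1)) = (LP (LK LD1_c0 LD2_c3 LD3_c42)) :=
  Lre_b IH (LK LD1_c0 LD2_c8 LD3_c1) (LK LD1_c0 LD2_c3 LD3_c42) Lrfl Lrfl
theorem f27202 : Led Lsl_ef (LP (LK LD1_c0 LD2_c8 LD3_c1)) = (LP (LK LD1_c0 LD2_c8 LD3_c1)) :=
  Lgr Lrot29 (Lpr_bt (f27192 IH) (Lpr_et (f27197 IH) (Lpr_bt (f20611 IH) (Lpn (LP (LK LD1_c0 LD2_c8 LD3_c1))))))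
theorem f27215 : Led Lsl_ff (LP (LK LD1_c0 LD2_c8 LD3_c1)) = (LP (LK LD1_c0 LD2_c7 LD3_c47)) :=
  Lgr Lrot72 (Lpe (f27202 IH) (Lpr_ft (f27209 IH) (Lpr_et (f8185 IH) (Lpr_ft (f8196 IH) (Lpr_et (f8203 IH) (Lpn (LP (LK LD1_c0 LD2_c7 LD3_c47))))))))
theorem f27181 : Led Lsl_at (LP (LK LD1_c0 LD2_c8 LD3_c1)) = (LP (LK LD1_c0 LD2_c17 LD3_c54)) :=
  Lre_a IH (LK LD1_c0 LD2_c8 LD3_c1) (LK LD1_c0 LD2_c17 LD3_c54) Lrfl Lrfl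
theorem f8188 : Led Lsl_at (LP (LK LD1_c0 LD2_c17 LD3_c24)) = (LP (LK LD1_c0 LD2_c7 LD3_c47)) :=
  Lre_a IH (LK LD1_c0 LD2_c17 LD3_c24) (LK LD1_c0 LD2_c7 LD3_c47) Lrfl Lrfl
theorem f27222 : Led Lsl_ft (LP (LK LD1_c0 LD2_c17 LD3_c54)) = (LP (LK LD1_c0 LD2_c17 LD3_c24)) :=
  Lgr Lrot101 (Lpe (f27181 IH) (Lpr_ff (f27215 IH) (Lpe (f8188 IH) (Lpn (LP (LK LD1_c0 LD2_c17 LD3_c24))))))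
theorem f27226 : Led Lsl_gt (LP (LK LD1_c0 LD2_c17 LD3_c54)) = (LP (LK LD1_c0 LD2_c17 LD3_c25)) :=
  Lgr Lrot5 (Lpr_ft (f27222 IH) (Lpr_at (f8188 IH) (Lpe (f8190 IH) (Lpn (LP (LK LD1_c0 LD2_c17 LD3_c25))))))
theorem f35442 : Led Lsl_ct (LP (LK LD1_c0 LD2_c28 LD3_c19)) = (LP (LK LD1_c0 LD2_c17 LD3_c54)) :=
  Lgr Lrot91 (Lpr_gf (f35431 IH) (Lpe (f9603 IH) (Lpr_ct (f9621 IH) (Lpe (f20827 IH) (Lpe (f410 IH) (Lpr_bt (f409 IH) (Lpe (f416 IH) (Lpr_bf (f35374 IH) (Lpe (f35347 IH) (Lpe (f27226 IH) (Lpn (LP (LK LD1_c0 LD2_c17 LD3_c54)))))))))))))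
theorem f8210 : Led Lsl_et (LP (LK LD1_c0 LD2_c7 LD3_c46)) = (LP (LK LD1_c0 LD2_c17 LD3_c24)) :=
  Lre_e IH (LK LD1_c0 LD2_c7 LD3_c46) (LK LD1_c0 LD2_c17 LD3_c24) Lrfl Lrfl
theorem f27211 : Led Lsl_at (LP (LK LD1_c0 LD2_c17 LD3_c54)) = (LP (LK LD1_c0 LD2_c8 LD3_c1)) :=
  Lre_a IH (LK LD1_c0 LD2_c17 LD3_c54) (LK LD1_c0 LD2_c8 LD3_c1) Lrfl Lrfl
theorem f27212 : Led Lsl_ff (LP (LK LD1_c0 LD2_c17 LD3_c54)) = (LP (LK LD1_c0 LD2_c17 LD3_c24)) :=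
  Lgr Lrot30 (Lpr_at (f27211 IH) (Lpr_ft (f27209 IH) (Lpr_at (f8182 IH) (Lpn (LP (LK LD1_c0 LD2_c17 LD3_c24))))))
theorem f27224 : Led Lsl_ef (LP (LK LD1_c0 LD2_c17 LD3_c54)) = (LP (LK LD1_c0 LD2_c17 LD3_c54)) :=
  Lgr Lrot21 (Lpr_ft (f27222 IH) (Lpr_et (f8207 IH) (Lpe (f8199 IH) (Lpr_et (f8210 IH) (Lpe (f27212 IH) (Lpn (LP (LK LD1_c0 LD2_c17 LD3_c54))))))))
theorem f35451 : Led Lsl_ct (LP (LK LD1_c0 LD2_c17 LD3_c54)) = (LP (LK LD1_c0 LD2_c28 LD3_c19)) :=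
  Lgr Lrot15 (Lpr_ef (f27224 IH) (Lpe (f35442 IH) (Lpr_ef (f35447 IH) (Lpn (LP (LK LD1_c0 LD2_c28 LD3_c19))))))
theorem f35435 : Led Lsl_gt (LP (LK LD1_c0 LD2_c28 LD3_c19)) = (LP (LK LD1_c0 LD2_c13 LD3_c10)) :=
  Lgr Lrot46 (Lpr_gf (f35431 IH) (Lpe (f35416 IH) (Lpr_at (f35408 IH) (Lpn (LP (LK LD1_c0 LD2_c13 LD3_c10))))))
theorem f35497 : Led Lsl_bt (LP (LK LD1_c0 LD2_c17 LD3_c54)) = (LP (LK LD1_c0 LD2_c28 LD3_c19)) :=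
  Lgr Lrot130 (Lpr_ct (f35451 IH) (Lpr_gf (f35431 IH) (Lpe (f9594 IH) (Lpe (f9612 IH) (Lpe (f20986 IH) (Lpe (f8177 IH) (Lpe (f8183 IH) (Lpr_gf (f27190 IH) (Lpr_cf (f13640 IH) (Lpe (f35435 IH) (Lpn (LP (LK LD1_c0 LD2_c28 LD3_c19)))))))))))))
theorem f35495 : Led Lsl_ff (LP (LK LD1_c0 LD2_c13 LD3_c6)) = (LP (LK LD1_c0 LD2_c28 LD3_c19)) :=
  Lgr Lrot23 (Lpr_ct (f9588 IH) (Lpe (f27212 IH) (Lpr_ct (f35451 IH) (Lpn (LP (LK LD1_c0 LD2_c28 LD3_c19))))))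
theorem f35501 : Led Lsl_bf (LP (LK LD1_c0 LD2_c17 LD3_c24)) = (LP (LK LD1_c0 LD2_c13 LD3_c6)) :=
  Lgr Lrot61 (Lpe (f27212 IH) (Lpr_bt (f35497 IH) (Lpe (f35495 IH) (Lpn (LP (LK LD1_c0 LD2_c13 LD3_c6))))))
theorem f35505 : Led Lsl_bt (LP (LK LD1_c0 LD2_c17 LD3_c24)) = (LP (LK LD1_c0 LD2_c13 LD3_c6)) :=
  Lgr Lrot127 (Lpr_bf (f35501 IH) (Lpn (LP (LK LD1_c0 LD2_c13 LD3_c6))))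
theorem f9608 : Led Lsl_bt (LP (LK LD1_c0 LD2_c5 LD3_c61)) = (LP (LK LD1_c0 LD2_c2 LD3_c44)) :=
  Lre_b IH (LK LD1_c0 LD2_c5 LD3_c61) (LK LD1_c0 LD2_c2 LD3_c44) Lrfl Lrfl
theorem f13635 : Led Lsl_ct (LP (LK LD1_c0 LD2_c5 LD3_c61)) = (LP (LK LD1_c0 LD2_c5 LD3_c61)) :=
  Lgr Lrot83 (Lpe (f9615 IH) (Lpe (f13633 IH) (Lpr_bf (f13630 IH) (Lpe (f13634 IH) (Lpe (f9608 IH) (Lpn (LP (LK LD1_c0 LD2_c5 LD3_c61))))))))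
theorem f35509 : Led Lsl_ct (LP (LK LD1_c0 LD2_c17 LD3_c24)) = (LP (LK LD1_c0 LD2_c13 LD3_c6)) :=
  Lgr Lrot64 (Lpr_bt (f35505 IH) (Lpe (f35384 IH) (Lpe (f34685 IH) (Lpr_ct (f26582 IH) (Lpe (f9646 IH) (Lpr_cf (f20173 IH) (Lpe (f8416 IH) (Lpe (f9608 IH) (Lpr_ct (f13635 IH) (Lpe (f35424 IH) (Lpn (LP (LK LD1_c0 LD2_c13 LD3_c6)))))))))))))
theorem f8192 : Led Lsl_bt (LP (LK LD1_c0 LD2_c17 LD3_c26)) = (LP (LK LD1_c0 LD2_c7 LD3_c50)) :=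
  Lre_b IH (LK LD1_c0 LD2_c17 LD3_c26) (LK LD1_c0 LD2_c7 LD3_c50) Lrfl Lrfl
theorem f35396 : Led Lsl_cf (LP (LK LD1_c0 LD2_c13 LD3_c8)) = (LP (LK LD1_c0 LD2_c8 LD3_c1)) :=
  Lgr Lrot11 (Lpr_ct (f35392 IH) (Lpn (LP (LK LD1_c0 LD2_c8 LD3_c1))))
theorem f35513 : Led Lsl_gf (LP (LK LD1_c0 LD2_c7 LD3_c50)) = (LP (LK LD1_c0 LD2_c3 LD3_c42)) :=
  Lgr Lrot124 (Lpe (f8192 IH) (Lpe (f35412 IH) (Lpr_gt (f35384 IH) (Lpe (f35509 IH) (Lpr_bt (f35505 IH) (Lpr_gt (f35424 IH) (Lpr_ct (f13635 IH) (Lpr_gt (f13647 IH) (Lpr_cf (f35396 IH) (Lpr_bt (f27192 IH) (Lpn (LP (LK LD1_c0 LD2_c3 LD3_c42)))))))))))))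
theorem f8316 : Led Lsl_ct (LP (LK LD1_c0 LD2_c7 LD3_c33)) = (LP (LK LD1_c0 LD2_c3 LD3_c24)) :=
  Lre_c IH (LK LD1_c0 LD2_c7 LD3_c33) (LK LD1_c0 LD2_c3 LD3_c24) Lrfl Lrfl
theorem f35517 : Led Lsl_ct (LP (LK LD1_c0 LD2_c5 LD3_c9)) = (LP (LK LD1_c0 LD2_c11 LD3_c4)) :=
  Lre_c IH (LK LD1_c0 LD2_c5 LD3_c9) (LK LD1_c0 LD2_c11 LD3_c4) Lrfl Lrfl
theorem f35518 : Led Lsl_gf (LP (LK LD1_c0 LD2_c7 LD3_c33)) = (LP (LK LD1_c0 LD2_c11 LD3_c4)) :=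
  Lgr Lrot104 (Lpr_ct (f8316 IH) (Lpr_df (f8305 IH) (Lpr_cf (f3854 IH) (Lpr_gf (f9644 IH) (Lpe (f26582 IH) (Lpr_gf (f35513 IH) (Lpe (f20609 IH) (Lpe (f27193 IH) (Lpr_ct (f35517 IH) (Lpn (LP (LK LD1_c0 LD2_c11 LD3_c4))))))))))))
theorem f8308 : Led Lsl_dt (LP (LK LD1_c0 LD2_c7 LD3_c33)) = (LP (LK LD1_c0 LD2_c16 LD3_c58)) :=
  Lre_d IH (LK LD1_c0 LD2_c7 LD3_c33) (LK LD1_c0 LD2_c16 LD3_c58) Lrfl Lrfl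
theorem f23903 : Led Lsl_dt (LP (LK LD1_c0 LD2_c17 LD3_c9)) = (LP (LK LD1_c0 LD2_c7 LD3_c38)) :=
  Lre_d IH (LK LD1_c0 LD2_c17 LD3_c9) (LK LD1_c0 LD2_c7 LD3_c38) Lrfl Lrfl
theorem f23902 : Led Lsl_gt (LP (LK LD1_c0 LD2_c7 LD3_c38)) = (LP (LK LD1_c0 LD2_c3 LD3_c26)) :=
  Lre_g IH (LK LD1_c0 LD2_c7 LD3_c38) (LK LD1_c0 LD2_c3 LD3_c26) Lrfl Lrfl
theorem f23919 : Led Lsl_cf (LP (LK LD1_c0 LD2_c16 LD3_c58)) = (LP (LK LD1_c0 LD2_c8 LD3_c46)) :=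
  Lgr Lrot99 (Lpe (f8308 IH) (Lpe (f8307 IH) (Lpe (f2925 IH) (Lpe (f8330 IH) (Lpe (f23902 IH) (Lpe (f23903 IH) (Lpr_gt (f23906 IH) (Lpr_ct (f22826 IH) (Lpr_gt (f22831 IH) (Lpn (LP (LK LD1_c0 LD2_c8 LD3_c46))))))))))))
theorem f24020 : Led Lsl_ct (LP (LK LD1_c0 LD2_c16 LD3_c58)) = (LP (LK LD1_c0 LD2_c8 LD3_c46)) :=
  Lgr Lrot59 (Lpr_cf (f23919 IH) (Lpn (LP (LK LD1_c0 LD2_c8 LD3_c46))))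
theorem f23183 : Led Lsl_dt (LP (LK LD1_c0 LD2_c3 LD3_c59)) = (LP (LK LD1_c0 LD2_c8 LD3_c46)) :=
  Lre_d IH (LK LD1_c0 LD2_c3 LD3_c59) (LK LD1_c0 LD2_c8 LD3_c46) Lrfl Lrfl
theorem f24024 : Led Lsl_gt (LP (LK LD1_c0 LD2_c6 LD3_c20)) = (LP (LK LD1_c0 LD2_c3 LD3_c59)) :=
  Lre_g IH (LK LD1_c0 LD2_c6 LD3_c20) (LK LD1_c0 LD2_c3 LD3_c59) Lrfl Lrfl
theorem f26472 : Led Lsl_ct (LP (LK LD1_c0 LD2_c8 LD3_c53)) = (LP (LK LD1_c0 LD2_c16 LD3_c53)) :=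
  Lgr Lrot59 (Lpr_cf (f26459 IH) (Lpn (LP (LK LD1_c0 LD2_c16 LD3_c53))))
theorem f35520 : Led Lsl_dt (LP (LK LD1_c0 LD2_c24 LD3_c56)) = (LP (LK LD1_c0 LD2_c11 LD3_c4)) :=
  Lre_d IH (LK LD1_c0 LD2_c24 LD3_c56) (LK LD1_c0 LD2_c11 LD3_c4) Lrfl Lrfl
theorem f35521 : Led Lsl_gt (LP (LK LD1_c0 LD2_c16 LD3_c53)) = (LP (LK LD1_c0 LD2_c24 LD3_c56)) :=
  Lgr Lrot94 (Lpe (f26472 IH) (Lpr_gt (f24025 IH) (Lpr_dt (f13543 IH) (Lpr_gt (f24024 IH) (Lpr_dt (f23183 IH) (Lpe (f24020 IH) (Lpe (f8308 IH) (Lpr_gf (f35518 IH) (Lpe (f35520 IH) (Lpn (LP (LK LD1_c0 LD2_c24 LD3_c56))))))))))))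
theorem f13479 : Led Lsl_ct (LP (LK LD1_c0 LD2_c4 LD3_c15)) = (LP (LK LD1_c0 LD2_c9 LD3_c10)) :=
  Lre_c IH (LK LD1_c0 LD2_c4 LD3_c15) (LK LD1_c0 LD2_c9 LD3_c10) Lrfl Lrfl

end

end K0

end

end Cfsg.Agent.Helper28.S1692
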